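import Cfsg.Agent.EqBase
import Cfsg.Agent.LibTCR
import Cfsg.Agent.LibTCFi22
set_option autoImplicit false
set_option linter.all false
set_option maxRecDepth 1000000
set_option maxHeartbeats 0
namespace CfsgLib.TCFi22.ChainY
open CfsgLib.TC Cfsg.Spor CfsgLib.TCG_Fi22 CfsgLib.TCFi22
noncomputable def WL0 : List (List Col) := [[TCG_Fi22.Col.a], [TCG_Fi22.Col.b], [TCG_Fi22.Col.c], [TCG_Fi22.Col.d], [TCG_Fi22.Col.e], [TCG_Fi22.Col.f], [TCG_Fi22.Col.g], [TCG_Fi22.Col.h], [TCG_Fi22.Col.i]]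
noncomputable def HP0t : ℕ := (nat_lit 0x61f549bbc0b93b94737e96c720abf3a6635d9e4704c8edec7f024fb758c13bdd80283170f73b7051e41decf1f19e79df737fc20c459ebc0b5d7fc2a0d58c4d4e11cf0018e647749cbe19a0390d2e8704292859b38cc9f25d6ca8f5e699de677d6867cdcfcfc6537831116acb70724f4c94d60fb89bbaa69e3daefbd87bb8ef041743630202e4f9a3623888a539e291502c8d9025ad76543d5ae84275427be33eaa166697e28c5567984c8c13bce7dbb296b4f8057c961fb1e00739e2505d7f502bd58a27cf97054993b22b3b5bd319675e77f581777aeebb806f0584428e14efc0370d096104680e7e04c86abdcced23ce0fe3d9c2ab2e39543322ccad699a353f783cb5b9fa5908b890db87b3b986bec7a1f3b23fe9234ce75eef68476cfe4a745bedc437ee037b1855e34ee1283c5d587c02957e97a88d982aa6fdf7b4a483c184e47a59d4ea2cff431060688514a8255b3b1f4b1d0b228ad197e0f522e91b3e63ef5f31f56e481ccc2453d6b76ad6028ed7be65bb50af45e58a6790cacef75d25e8fabf70742e32016a4d3e213653ae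b8598e8122da53440f3fe72f6ca991d0262eeaf536ad86f4202253255595c95a6e57b80d007c082a27917576c8028ba7e9aaf836e8772e873485cfd92aeb870fe5f2f496578820105574239c9da5d9d722059c9ae2ef40c52277ce6795108057379f7f483277ed36fdd6dd411a881eddf6ed59d6593945f8098c5f83431145bf862b5058e749195d73f5a596ada50665b8a88e72b7ed8d257f9166f674ee4bde450ab2770cd307c1e62b323bcb46c49d8f630cf67c47e45ca1803a82466240949ccfbcee60b0e9ccf16f9035e80647d6a0bc50615ceee79d7dcce71cfb23598337661dc046e2266f920e7995b3f914189b37f7e06d7056d8d1361c4367daab429968574e08e9e16b4779106fd39915fb1d39f1bf1036e51d4b7198231eae4eccfb232d69e546d0aecc14dd75954e0f0fc81c929bf6f812c86ef2987c779553fb627f7189ad80daaa50ddaae52613d65530c6753888fdeddfa97e244404a7942553149f5b1ec1686e442cdabd95f499b430930a9c9422efdbf7331ab7878993b3a70f63f27b359ab5781f922aa0e2fe1999129054a25d30bd4042b1ff45bbaf027ae7c1628872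d6a3aa628763377b458ab47dd4ae913aeabbbb1b0744c69fd74dfa1164e5e43d540b96b1882db399d2c3340f2f6c8c9936462478b3136856f3b576264cc27119a029f974f2713de4e64be882161f12ba6bbbf2a4862d591e1a84c728f690c6c6a7d3d294bc27b5f140fd5755d7d5680a6b947591b11ba3d2cdd35ab0934057443382531be86ea7defe5f1fc5a29493ad16f5facc24c603be4d9101124b208a999ed49ed17bc402ad81249901a35f0b67e284fc71f63f903c648b41124efea1fda6aff58d0d3d4b2633e5a6f0519c8793466df4676caf46dcde897633bb456b7592afb3911d4f2137322fea6f814172001ea17ed0206913b014aef8b93b69f84a617aa26b650bd9df90c377a81a89564277b70a4d7eda5fe8fb482d7f866dc7cdbdbf7f889fe5ff941e58637c2ddffaf93367d67efd1743c693dd17d91c1b91a3195c6485413c5559e927623bd7c2d68cf16546448fdc9a50cd28456f817e9213dddaaba98270eb0a31d5ee80a52461e685e46c2a8f5f1072f5502375c94aa565f659fde3025159fbd020ddc2b9f0c7ec88788772755cc4adaff38c1d24e3e9e3e13068599db5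09b09f98af6573dc7f862b48cda5d550695fd1219679343a5036df57d3a06defc16559123fdbe74a746cce30b04116dec1525938f2baa58d9ac618257ac7e574a6730847b731f41d71dc4737940eb3dd1e5bfb49da2b0c956f6dffc3c3d4ca14946cdee64f11ca4c6200f33ac4b23300e1d83e1999c2423058a523d880d1f7fb9f97c352ec486ed254276f7dfa2558b34f4ad847c6cb3c888404f201f9efc8e9a5287751aec3e92652470c347a9a9416b8356d23fe534dcd44ae03d5053dcd2d94f6c610c1c349817850c9b3c8d523186fc3269d2eef32bde3de5da46002982dc5d19ebcdac5b4817302670d00a06b3b35487b873202687baaa4659b423e630557b9f457ac17e1042a455f82ee21b624950e93d4ed26bf7f206266e8878adadd3f367052b5c1a9d071334666cb86768a843ea47201eb303d98842aa9b06b2d882028e20e5a6c672f12af2be12eb57a2e8e28b34a5e8f8651490636d21a4d6b956d9804a3d0e40f038b6ffe33c28591e1936b8430fab8b30b4527c8e3c62c7927ef696fea3818fe2594ce0378c466c8afe7ea945a753ba4ae0ea51ab0b25a8e637ba04b7f8b2b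d5d0c095ae4d83ba22d295bc4829d6a12cda73cf288c79df64b780427a659b60e9c842699234aebebcec1ab594adb31774257a7cd6a915292dc8cc413f0a1a47693ac3caaef3b561face5ac0046ccab7142ca79376a99fbb058c4a845bd414f32e077a516beb70baeb06048489c3ff791c34c5a7ce25a2d34e8b26d4d085fac3c1e7a11fc364374d33e4ed37218f235bfbda83c1188af883743af9c2bbfada69f590f938ba1b7e5acf7bb094376a7c1db3b2b1ab1f0ff34ea087f8a4cd8ecbfb1254e9cfe3e07212cc2862f631bef8805bfecf191bdd30c65b60effcdfefcda1f80d835676db030ffe48a06f15d2b865e895cb785098e01e17d920ef8a853726acdd98a9a39f58b9a0ccec5d91ee27d9c2c50bf1baa8e2585a431eed26f48e020b8806f41cc560f9a66d1b17f080ce91d63cd1e4b675e00dcad41107d50e7d9700e63ee3551d796f3330bac8153f8bbb81abb6d15cddc4f21dc2f71cc0984a7b58a58fa1ea04e0b4dbb21b1d2768c342991708ca2d86069bc7e0342486a7722acd2e933db703597500e6ea59a8170f73b1b190520b30e12d5650b84dc10bf486c2294a3750c9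e36945834d4f93bce96ea9f3b1f25be7776495459807bc13b0d045778e940140b5858fc4e147fb9b48a8fac37a0d61bea5af6a591f417f99e4852a55a8effbec25eb15463d4508b907d4e9b78e82eb1dd10abb2e62fd5f44cbd637b2715d8bff992e4fe6f1556328a34b184128de27902ea42736832dcd16dadf0d515443c13fd9cc9561bfefdb877452f0764e14317324480ac0f4ee73bed494e72a29418d90ad720e5848884e0c25c81d0e1a4d34d4da2dd03d7ccb03660bd351f0bb5a1b2476b12790dbc1ed94f36bd6e4903475e7f6adf5bb07e8f9cf09b0d2cd5659812f3a0ab986ab15f00fb56180cddc4f3c844acc3a2339a8943a882cb103ca63305926bd427d9834315e5a9fb0d7f90bee94975f1c0e6bfacbf84022cb492bda693ce02dcf94f27958beeceae3741a7031e0e022651602cb97b3f46f9fe8c2983460a104387920e85f0e78ac7ded363ab12ec98c0cf54111e97659cce6146a63f78475d0178d0e8be123613643c4d595be930638e3ae4ef6269fbec34861ff4b75f69ce15d9a4cdde9d9be8b478be1a5a2ada26c50926a03c7c5602081753a56c5ece24d23f0bb7a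bad98b7520593f015ef6b3f7d17e931d8ce66859eb00f54b3b03d94693f0d0ad7765c546fe77242f88b980e1122658494af089f9ff0c38b853937f110990273756d5b1122aaccaa9b6514e8bafc12ac2d46fc848dbf2d6e34ffccb4c06a7e52c503d1ff4558a5c178b62a5b293175d284836eeccaef0ecc489605cc33daaf8af2beec7164adbd81f0ef380ff62fc3592019d6421d9c4cd42329e041bcd174a0d9c8d578c77d28ae6b4a9418001e8d231d368de0e2a69bdca8acdd3ac1099cd847c8943a93c90a06b9cb9bf22040c066c8b2f407f0c8f200fd6c405fcbc5141cc5d2a7b837b385a43ea55e94b99aa4d3ed975127db6b4fd39aca3d484f098d7276a2fc2bd65209a7c30748d6932a4dc7d0f233a63af36a7808cdd45ed49d51e428719abf7124bc23dd81eddddda59e3da5d9db04769ffd8cbf8678e5ad1ae70462a917b2601287b42d7c90c505a062d6454d915b632b558db87f3b3815a1ee4906e1f6dc1046f9ec499af31b9fb34403e6d1a37208ecdc616f11e04213513d815de61ab3b46a07ee00217af70f6a35e4db5faec30364de3643ec3a25a37e0ec579dfd18db87a1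fd6a240a02c5706e31c75dd50292a9b349c9ae589f59389f399b3b559713e5603b722448ff410b00364f39ef6a28a14098faaa22e3714079f1c4b3763c55ef2c57a1d421b21f363bf6d8b409a32acdab2be332eabe77cec706d95c5d03344c04fa78e055116b3467fa755af4c420c2edfecf7644ccb2e1ec5456fbad2d30b736d1404adad8b86970742abd66f38dbeedda8f5deb34aaff58ebb1c646829622626461e56c05916013fa7684e1c2a2acc69038968b0ffeeb4f2efb0deea6b07f7409d0b1ba84adc4094f61d4aeedad4b0c3d4f39ab39cb182aa225db1d0cc6b218e1c5bed17d92acf2a68b04e32f8903e1370ec92039b71f1d90ac15480910c0fb92c3b557e52e7ddb4652e89f08a15101f6d1d3e8f4fcdeb0a4ed53f8261a5100c2319583fccb5828fd0c6b5d821874a73717e7fca9acc9e35ef3bfbc2a8fc75e357a4c4c620ed5c8f287a1f9ab7765a7b0c1f934381adf5cfd214405b6313f216592e6f76fd4704a09b2d372f86b705cfdc675bc811f1e7c4d243f2adfa50bbee442c8277453bd524f85224066716f6cf698c5f1ba48b28d203627b49e31f9ff18556c67ca22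f75a1167fdd4f7de0bcb61e91cfff7a0a8a01d3da60bc144410297970b60da96e3e49fce52820b6911f5338b1461b41713c9f55e06f3c420952499c3fd61ad6dc2da8cbfa8e73f79b01272a585cec25a1fc24a450f579901832baa4b986f47ebdf74187df50af4d7d265ec073b47e55c56732ec1501cc39d6f563d4dfc6773d111a871683a9944a2ab295c5f46d87b111a739200ef3fc7f0b95d199749283d703a20a500fddca89c299e00452065b48af7986a91d1d928e4e6104872973b2605887767d8178c0c006beefe827babd213b8527dfa7a6bab4244ef8a5af42a4811e85dc73eed6e40791f270aa5a251541ddb7b292d8b4ea3e61fb13a98dee6a30f615901fc894ee65f94790eb096a482c57fa8903e4f225a8cb09d0f480edb88087aad50bb04697cf69dd5504e495f9c1543e148ee637611ed67496cbdb4db16584c4eccd4a20a6e35327b5dfc32db54eff88dbabce54d19613b3a99c0f5edf43bd54667758caf65c959cefe4fc838f6c69bebdbd7f6a27d22ce2f303a05315d775a79aa0fad3b1c34ced038b27b1de103746574cbfa1b7a474e5a2ebd887e699ee45384c08baf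dd243e5b9ff4b4e966749288572698ebeec4041c819883d825931e7b4efdb7ca4b8a0678cfa620018a0922b250c58825bc206c23df3edbe014253b50cef32ee3e44d684d05ae09d8c5bea2a454691f02f3f402cc054569333842f3968175ea2a4b8f16cbd81e703e9a86b97316ffc04dbe677b34dd7694635002a2173eaccdba05e6da156cce11bb1122639ab36ef4a678e3e7b58a66a2588d442d6fa4dbf83410c2bb8114c608e115aa147240ea71648bf8738e58231e790af7dd8ae66a4d0a36e868e6e30a5fb1133bb30e5da20909c83ec67d11c25a7dac346f55e5c97fcbaf50cf2ad548fc037143ad8bdcf6f22d46a9cf8eeb8957fb4412b20a6361cbd40854503a3f43c93c13aea94f3d95c54a0b4f7deacdf31a6d93a632c7f18bb08760e426108de1448dfacbbe1999f7df029bc6332fdad79b516076fd90542eab208baf2c0a0f1cd11586d25212542f80081e855953389a8f18d692e1fd190867050b85e7b407f5af7077f322baec8580552178ce845b608b1355220b2cc63af33a4aed349ac8f21db408291ff062662f5ca009dd7a0fdbb482c337f9f34fbbcef91022f8606dcf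337e59ad713e9313a9caf653ca2b968d5c9a7c1c84ecc47423e187d257fe89d9188a367417587b55baaf5affd213ed7dcaf8b2760d50872259a4ef5f1327b4bd94b599f6b19d7cfba14cf00ec9e8ebc98ec7f8e39c06b2e56d63c557e26ec60cbf8ae225419fa6ae32ae72662597d46642baee58912651afa110464759b07d9b55b9df97e4d60a3512ba00902b4039f230738d3ba9d5a8e4dfa2fbb5e5e57cc7017c9a14050f55ea5c8eaa72fc60df23b1262dc2e37b4d6e94e2fa7b3a6e8e8313e765e69b61589bb424812bc38b556b72db6e8c67456def3f3e5dd0c883ab648dc61632a505ee399eaf69a55ebf24313209399b3b65ec3f0a70760243a3f8ea5cddd272f0507bd82eb11002b93ee0a2edc472bbec7f1665818ec23ace57ae9126f64a815c999c4ca99d26160d582b1ca347082782407d2acb18319698b9028e2e3fb7f42ff8983fabc7d32b649a499349796bcef097265742766c76a5ab3c2698e50b9db1a57ca2ee396659971df1353335235f263bc6b25ab1916a03d730308174cc07896fd4348afe99762f7a63e13e27bb55da897bfe6823af20cd428e1354f2cbcf4857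42b6467f0d219934fe78ea9225e1d81ef88709c53f179b02274651848c988a6e12df5d38b3a78d5edca721a742c1ee538b4ca9b4b7c570201b9582879d6ff9c1e1dee62d19da8dd4e5588ae23ed423f1b74762316cb48f63c66d50f43b55bf387edc68c354a5d7aafedf3b5363250aade92ae90adcd90041961379648c4cd99632e783327a1052832d7b014e33feff78bfd79e19ea4bbd1dcec8bf8e89a980100110bea57ce8823c29bfe42481a700bf30af345c7b9b1c1ff45da96158c1ea849f49dda6b8854dce0cbc0736ae328d74d725af3f98732ba13a05feae7082ee9b68de61b6b89951303fe873897700b8347f7dd1d71367c8c58b32038f26b420e4016f45677f4ffa214e2f8abbccf096f557bbb4521ca0368f7a2d8b478de6f68ed5a56dd358341d6567b32a1b0a5f4a33cd22491eca58728ec6029cbc01369d27b8c172991688f61c417402b1b14ac6f21c300827d0d996bee92d1ffbfcf3b87cc5e4279df8b0fd28f2320ed8f4740f5302fdcbf64863944ae56236d2e42079c1b4045c5bcac1fabc9176c4b72ac8739b0505e1cbbd0dab8cd19ba4704fc2d9504ba87bf5eec0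fbd2be37f9b5ced30986dc4c5d6a21c3b29d7a3ada8f39affecdd3d9233d7bffdb17ee08eada799ebe9cef8bc19bdeeac5632b1d8ea075799caa5031c14a8bff786b2dfe9a01966413433a52db8161cb0376d366a115c43cc62055204ec030c014a31dbdaa03496dcc2c308f01854e57bc46504d5f30cecdbe389cae254cce4a7d86394d6c5fdd0fe602e137e5af6b916158631abe940fd3481e12fdaf34b82b81789ab9e948903e66f18149287ac5730bfd6309363fe8daeabae8042a25bf1021871b08292660fed029bcf42336063473adbf3d274f729c33eeed1d7c4bce0d8614eee8cde32ebdc200783e0ba2d19e09d696512508fcd1531e0b948a29002252f6dbe37e13a663f98873915f9571f9b52f559f633a9e8ec1a573890f8e9aedc7b0d67a8d16bfe3d7612fe9beddfa75a546b3daa710f8687f74a9e9e773fc9cbe08de735f47de285feb089c597d3ebdc4a68f0451ec348284999dd97add85ee2547cc789f6df1036079a00ecd5028356e3d9ce4e99867492ca753b1581db64dd5d463bced5d60d0fb23b60c0437193672fe3d1eea6b36b66a6ec8811600d7e74f94bb885cb9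4029592dd521e568aace836a83470fa342af49a1385e476491e00070ae40f4298f5d3d0238a8cba8d594679a4e5c70073ce2a8e0b7dae9fc1dd0bee24d91c21231e2204c5426a01fff20f820fa5bb1d2a7cd2a58b8f6d335158bbc36e244d531e93d98172b9b43914ea83841ace78891784ed34ae551776522befce78abb0cfdf1c094c74b5eeebd1f5e9e5d8035e6365ae8e91af24de5810085b292c48005e6fc5706b78f5feadd6b8ebc3034b0e3e5fb1cdccafe54ba4bbacff58f107be575200dc1b685475d1f8945201f6bfc2d2a09687d0c41b6a130d71991871876ece9efa26a0c55a6cbaf23fd2d402c49a3dcac09e41d34e8a0f1fab6f32acd21caf6ece6f02fa76f296a5671e9ba4cae3a75b4c53c167d7d72704f7c2e4eaed2a292ae254d758eb184377d6cd094e6724571ba15294ef9011d840cc1dd2224eff160a646639cad2a72f5b842ca8ed0074bf472fb6db41bc8e2bfa3b148014713fcf414567305fdb71428f820a5bdf957d191ee2933a7cc0a72970e710e1d079ce342af92439782136b6bc7b77512f42da6483149848df3fae54f1f7c47a82954e1b3986191b0f74a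35565e2cd8b19f67789bc4d612aee5d0c05a2f8d6c801835a413a211e0bdee96d4128bc2f0b7aae88e4b74432da9e3b29974e3ff1b3cea63e3d06ca920fb18f92b73f2ef95aad9758092260281ca635a30d90651e859c91bba95e8376dda2efa11807f211610a1b5e33cc642b62315c177862a0f18ab69640605ea5b5270afab2f71a331097ab8bf397432c03c06fe341fee7d721db5f83c41c471bd4942ced52d9f0401fa26ace412b18720f9faa77ff69e2028b5658d9590a9129c45c1eb35512d71cce4fe55c05cb5b3e5901a4639d3c7433d8182d5496314e929cb43acaa9075fa08f664e77d04cdb672add9cfc53d32d4fc3803a78298e1460027f4d20271a499ea39fbfe6d75a6c70ac975a5639126a8199ac9d867a9742f5e90480433a074f40e06e8a065fc95d39a663bfd7f9ab683783b83747b938751c118a23e2bba5b91b02001a40dc46c7654584fdf699cee92c32e5d45dcd10a893c89db646ad672614ad2b93cd7f848f58dfe17922723582de42675659d7aaab1379ed6b42e01f814fab0677d073c1b7147f976e9291620bb685712ed89fd0d9472fc18e0cb5057cc969e32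72f554508097ef5ac55ab59ec2869f808fddf0751f63134e4e5543e4af6a6758a22ff2aaf398296d4a4de5ffb98c405535e639b071adf5c3b636ec61bd08aeed11b7497ed58a7d26c941ad3284a255a84021b488481fad7b8610effbf7496fbb765686ef16cedf54c7f1eb154ad6d4b42c54703eb29bf645ac0229af960ebcd78b2381fa38e5d79cb969c22aafe7549de983430a3c62a23d12a244debd374cb26b30e9526b34926708a6e9660d44ad4c0b860095f23199f85a671ce197eefbc5da637f1a91d3a9d46a672c55cd9d7adf3c6c701b9eb7cb36358d04a16d0868438cfd203e7addb7411623b7cc38f82e65a157e08b3647baee36fd347685e97063090577f9f7e54234d34c1238e4c499b57b9623d94d626cf5fc1e7236d7ad1e83af512e68d39e37e2bff7da5ab4f552fc5ef30737da3ad74c6729baf1c4f93a7843df29c308a007f7bbd4b1e800f55786966c9e92cab25626faf078631f2fbf7bf75f17484b07da2575aa758f43aa082b912fb623767cc7d20fc40a85a60f25f13cceb58357402bdcdf71f646fefa133e650b98277ea6e615c9b65a0d05b8701213106e33867a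d23a0bdde24f31b0611ac2a70cca1a3ba1c4203a5204f284bf192e3133fbd5189e2aa22d6d9815a67f77894d8418128a3740af52bf7595d7cb14bb16f6578a7ff42a2c553c9b40965cac4766c0d73c830c8cd5b482d90471e75cd1972016e0e66a524bbe87968d54f6cfe8f2fb4fcab6dd318415c856205aea3a8539b5fcfd6899b30e5ae798779d2d5c864ea1efa81f8d8eb75e469300b4090def05853b362b762feef6a9fd0516f37091a3845bfcae220f74b3aef862f1d3b912c8bb70f0e02ee1c3758ec30470bebf9b01aa6afda2afd4268786b9272c268df63e71df7f3865af723cf911981f540300244b2b286eccd378179ca7b33a199bc769e33dc4163281555019c2100f2e9d799dfc14dd8c163bb5cf5f272058f4bd270027a3f344e04786749834fd7e8b17e6099b9dba2a5281d46ed005c4285af980f11751078da12e0ee56d69e25f6693f2f812142ac6485ba5aa4ef63a4f8698c36dd459f06dc4fc48009f56ca7e79cd038f585a2a4eb4c1dc7e05dedda007010e10ad6bae10fbc7feb9d1f4002bab3869e3f28e5d6da6f66b76bf8c915d5bc4112bef97f67a3980d884da8fe308498750a9fa3f73e087ba691b2cc4ab477f564e36cfca3b7878da)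
noncomputable def HR0t : ℕ := (nat_lit 0x456ae9ffb25a01c722a91f4a9048a0dbe30f6adeff09734238ac0907e645419b1850f18ab5454659ed9bdbfeb9bbf12126ddd74125b1f36e4b4b314dc674aa49448d9bfe77fb99105a8e9923c46c62ccfaddbf5d914aa97c9a0e105e23f7d174f78894bb5964b7cf55238d0e172efa3f991ed06298ad857a696511375c05d7ab4e1413ac09c429165ea586ad200653866043eae94620fda70bf400e56fcc47504f512570f1682a800f7cd5b4adead2ba5332ad9073fe54cd3875cb5f91c6041ca5be8bb17b46bfaa1c99bf3eb9d357808c9db28c6abb0f3dca0def9ac6714664330778c072b2c4246ecd68947b3532021f78395b9fc22838e204c0db239b059ef746637e6e045108c094d3cc46e5a06a6187cce6ffe327d107e833de46926bef4eb55953bbbf2f754cd276b5759a9ab873b18903cce6cce2f788942d04cfca1ab2b549696606dff9e077dc8e5743687d0d464a0b37ca3da17d117d4c754600be3c7c55e4f7098b5c8d5aabef198853658f900b434eb4d83d6802fe0663947de634bf9dcfb3bd050ef9e42f00e579ccd4da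9d01f80dc8d84036d4fd7a7a0d3bcd1a1ccb478867496654172de67a16d3600aec05ecae7583a636456a3bffa004f09541ba83c54240c74922c879e09090ccc62897b11117e20125009af21221772565f44316d570f7e72e0bd971bc02880e6a9f9401e517b05c16fec071eb534426f86efa819d63800bb0d70b63668a3322cd6adb18b1a0ae51f3f8b5a6d487a0a7770331310adec506640ae7e9b62a4ba17ce89f6c734ba94a55c1efa0fce8bba8536353fec707e632dcbe491b5e9dac7b2bfbcf0a272393ec53d1c5d2052366707342152b0ad43fcacbc2c581c41b7f673c9961ca8547b992b09046098bdd3647c27546ab3d0efe4dd30202998364306590de25e15aa6a000d1a73877468182e83dead5d8ff8b46e2a3d1afa6efd697c93af018ce93ed4a3f42a48d1278f23a8ae535e075e8b658c9e64b3ef9e7e9a75dfed1598aa9cbdeafe7d2a2737931f29d54f4cc83646526abc36f163e37652653dda05354454f1e8e4399848e33439eb58c64a289a4068fe91152c8ae6919fc78b54cba26b1f340f67942fbb868a7c20e020baf9e5902c8888435582be3af4e10f8757184c66435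048e18848e906af812e66dcc0ea3bc8dd4b0a3f229cef06eeabaaa313e6a2c254221643c2b3e58219b8402e2cf14473764bd1e0b5ed54a1569b1b28e567b8d880ddbf30a7f8ed878a5ce3986f7d61cefe2f56ab12e6b72d8de924c744bdae2c22aa5a8d8b02942f2a6f118e0934dcf1aa20235104346098b282a0ba39d0860634ff073bc20c32f77a6933448bf8ce1d01e758694a318ce0549bdfca87c2cfb10adbc6d215cd38044a2877954d1c65ef5947dcc8625e068698aff450fc70632cc35323b4ce7868ab3bec8d4bc3a5b3648ccb03d9d98cc9f62c27577c3fd15322ed0c13ceb6739b40aa62fd8bf17eb86512f95dcb5844113162e2c1d52554245b3a325ecebe612e95f89285597c57435ec449c7fc5f00b9692e57427a6b91d78022bcdc35963474f34a2e25b62506918fd8206a76a55e826137323a8203bac3f8be6fcf7d82b36a039db084ed452571f3e84388f81c3385f799b4ee405ff9b958e678c2ab7250ddd8ded370f79a0e800734cb3ada409e94dd07d70ab9307ba574f2697dcc4cbb68a913a980afc7829a38bf77563130116ddd934cbcb5193e37978ac9130bae625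d17baa1e7ce2c6533a3c32afae1e4b80a11393ce893d94981cdad026b7b2d5b9f005923dcdc1f2bb7d4e5ff6d77744855497ef2ce79561f3401a2554314b462fd492a18fa20dceb22e528ff18c2b1f23eefaf5d79bb29fa6b7b2cb5269157e5eaa473d82765fceae01325f33edaef27ac61c033347ce570c2b9c554b8112d277229b8213b967a6beafe3ac082b5f0c05fa0b9c606287d48547076430c7b96554fa9410d8e802e225a321251b2cbc0a513e1e02a38d2bbcabe8cfd46e0054ce02fde26010fc069d841fb0678dae414562b0fcbdcee832471edad1e88dad846fa597322fcec7a5fe3f807b8b781ef419b43f0c1ac0c72f4c2a7e8204dc16f232e781ecb7e9b49faca43e4edaee76abee36d4eb688ac8bf1b73025d5f7fd3d171878d270eb49e277ca2d98c51fd0bf798407112af49691c27f37df15d88cb5c52cfeb8144bf27e0da2bcac0834928c5f7d34b04bf81e54676c90758f0151417276af06da18f50c2dd4ef938d03dedc732d48842129643c8c20f00d07f26b6ff5657f3b5ed7e15783f3542d26e2aa5564737dc40b4b3d48713ad1152f2af2d508a83f4ad49d4cde9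1f33246c7bd010acbb05fb4ccfe3350bfbd75118903b6076be837a1ce6ea5d3c6ef5feab388af879d62fc44867ea29b2ff312520ad39497cae1ebb55b62afe2759550d084caa3070d470e6de5eb73a40348231e3ac67f2bcd66f204e896e00d248f28515cb11d83a4b2a90484c40e4a4b601bbb418f2da842ed6bdc0c3f4094bf7653f9b6a5ba8083a6197a4e188e4e7b1bd616eb573a86552135e522a9a33c812b6a87749c7f795ef5d6d6b2d5f1f996e0eca0a2b80daede0174a4af5f6ca78e3acb708aa2b459f629412568cdb8b227a57d4c6c37b9b69c9322d7ba5bc7c1ae14bf4d822dc9bf57fcaed0e092cd32b971a149e31d0c7e422c8e04b99d41b4c4569f4bf4edcc011373ce7e34ae78b7614c11bd7988261e06a66639847cc2fbfcb2e0392c520959814a9da4454670a94436454cb386d137fe60ed11b166cd3376eb5180c85ad639855d2a4aeaad64fe57e6f5140c3ec14bf7fef8bb6b81846cd4629d0e0f0a94a2d9c46319923a27bb36114f93b41c27862af4c3bbc87a27331b59594b579d6c6e567803128dcc1b13318f2fb6e65f403184b6b843d1e6ff75053eb88971f68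a3a9f75481c2a900e972512cd5c59fb4088263fdd374e83293fd0ff2d449d1206b35cd1e975c66a929259613f2562a5cc56de5f4c01701e52ab9613b326d8f1878d3bba3440b0b39aaa73e097de7f3924493789dcb3e78ec17d237da46abde6b9e61b61c867234b3aa113a5b3cfd4a4c66a6de6ae64bd5310064e49b961593866fdf522d9e4f96913dc800f1df236f31bb1fd8b7e0e519d41ba239b9d45ae8254aa39068fb7723a77c0ae6a7d6821b1e366b51cb974897ed3b6454363dea660f1cabe6916b2aa6fc0d45d47a6da4e62bfcb574d074643d991e2937807ea489699e7a4f25601c84b63ff7963bc353e94427194d8fcd166e4a6ad01aaaa8d39f564a4d190181d3d0397f0ac6603fcf9c3aef056f606bc5967fddfd9e275313871eb3f24c63c2e21bc47bc6ae2fb4b0367881fdd3ea23230cf81933b46cfe0bd10809f7c8b3d19e7accf720fb170d0d4de3e82b8469b89c9fb8f4fe8c796cb98e81e78c734f83c3fad1b43a8a99bca74048dc81859cac2a04652e517baa562f161c8599ed7666ec1f20cc935838ac2e3976165da451f2c21da21f01c3ab4cd3e72eee82906312e0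25dd1edcf278bac02bde55e1a828f9a5e4193a2b52e189cfbbe0446e7833e30d1b0b2129b2ebf8d7f61f5790d99de594d818eef2cfe94cdce4b969468569eba35139c88d6752ffe90f7ce3332faf3a0a0677fe6c291aaafd6512d2339d74ef3e622d4bc34cbca215bd8151495ecfa5dc622dec8b43a24e24f252fd145439aa5498903997221ae880d247a96a39e02d589aacdd51c00b19c5dcc066d0247e323e648bdf21839cb64741514054ae01071edfef70a73e193e611136df09244593a9d1e5817f2f233b335495e83bf5538b7980232b2bebee081ac9e25823bc7c27836c88a297030f4bf1d7f38553594f8acd59a5020372ba66c655f0c2fb8081af79144f61f2b82ae535d818968f540bb1e25bfd65d66f9eb41521f6f1813fb202632f8afdd95398ff81869d06e9612a418e8c54d5a35368abad535acb611214a91c73c5832ca10d1e11a3002a4fe865f1700f71e3dd551e11cea32254f6ecb124cb64b73e6afa365d8da1c9c75f471ca0a0e33cff6e920588fb6b63cabfdc70619a726dc9baee36c8d9f4cf3e6907700f9d97747162fef74856eeaab79c7007653708947e56faa9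5533867a7050ba6b73e9de6c49c760fc858bb31676b6eb63ab635697bd8f5358310c5677450dceaa8c269312fa1ddd5a4e7e849fa2fd745598b03023e566ae2c83631b8d6a90969795292ee6eb48c7765d54d8faa779651dfdf475c443d98036173c8d238c399e69a3a049a50117ebfe6c4e061b739b9badd7cb0aca12bcac177a62f2f74dfc76c2941dc8cb6c0b78a9bd8a52d537553331dc0e6072dbe651588beefb965564d29ad172a460bd092395863b3f81ac8aa07707eb798ad871f028f37df8374980bcc5110cdbae4ef217b5c29e6076ad47214c7f31c3ac0713f393c7467509f719f2efa796a41a6e6ce4c4fa433f432100da6ef07d5e4aad1ea85d3dce3810d877631c0611a7a4a4c8ebfe3d4d0db2b80f60650b84a3659a37ecd28d429a214708d2b36ecc499ba92b00073a48b4434d5f92589732eb2f2d4581eb03aff50d75c5e3f46679f4868d5e4fdbf43ddcead73f1abc264be0dc44d02101827869975dc6caa70664d34b70575cc37c0d99f05ac2cb53044497f796594a0c8acc58dc0bc7abb4558692f2e98cf517b88a5213a2f2fcaee40be592b9e535fcc74d6c8cd381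f73b96a0660129df40719920653490de967648e0021e8cb573bfda62d13821dbfde2c4ac9036cd07cc0a5c6b086028d1e36d5487f21b5734489ceccae3bcc3e6a9805cf17da6e4845fc24916878a1fbaa62add8b81fbd3256eb03b834b54cb328a24997743d833a519ee5fcb53e7fa0d47ebcb4b007fb6f59d8f16ba2d749c1aeb98ea11185592d49b7ada728b53a43db0ba68c730c24c2cb6f1993e0a0e8b0a86e53da0ce79cb33fc416d3780828bb9f7e540365f91eb26b71eb4269aee6081b007c3831c3ad62bdf0d70e6f5241381377e426ee961e5346b660fd57074257e0bd94dab3fc7b58155d144df9ea394156315653cbf1b344e87aa4e062993def7c94f3320febd3d3e6899561404c12833104c889a97ecbb105bdb087f4b7d6649eb28b3febfe5e2a2ea68ce49b8ee9cc055fe13eec78c2f21974c03546d8be81c2c05b19bdf73ea0a9ec3d92f804ab0753012b59a13b4513d278ad64f046a756c0bb6cb165bdc6400a8c7dc4e39287f5dfcf9c3102f8294c81fa5d906e81182fd0f4cc3248f1fb8b52455259f3ecec2b2226c7a5c1a77e0172786f9247a542e35f9ac72fddb53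6d4447fe53670443741d4eac04aef8a9bff3b1ef750b5f057f974d9c909b1c91263524d8dbe8eedb53634b518234fe10533b49f0190e7c75d15e72379ba531b303861a94ba60083de35d1f2bda0cc2972347710a826de37237358a2acfd89f8cea8a9c3cecd54db56fdbc90abc0b469fca061e624be7f853350726f4134ec60eb40077ee36c5193822e9f7bb8397588924417a99aeb71f6b1f70ffd6e1d4b812edbb78e1869b888b078be268bb78b5715ba7f150b58d298adf66aaf48419b639e727fcd8e4d9f020afc357522f6be086d93e7a13f0d0ccfa75bd3794fdf3b0cc55f0333567820627d0b7ac701fa2b577dfc5ffc044b5481a8d6209802b7d3c3ca8514a9df9a732eccdf035539af074e19ac3e1e1261c349e15d19c9d71b6f799e1c259265ea635a5b9b1a8900c2cf93d299eaeb52a54ba03694c50f16e1aeb37ca8ac5218fb8678990056a9577dba6a511d4d6db1bd76b19a9c52fe5ba08a0df0709444a5366c758ca317852f2b1c4dea3231186797d9eea01e4e45d9ecfa4db5c2fbbded9579e286647e53b79c6a147e15658367c22a6a0af8b48af645a4588d806c3db143c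4f8586ae1b7470936c399797eda9efe596188aa56badf958f55cc86b856408d6234d5c6a83d431729890999d8cd888b75b1b88e15fca4da94a4263704e621305a50bb610effc11d6cfe0f0c43ce582af69a4ffb83ef8fc4a4bbc3198b5936356002995e849d761e758362013b9c718e191ecf65e5647271537fa25550f495b5c2844380d056c3e299ba2dede6fe39ca56454b7ea67231e9ebe255384377b4a9b420cfda0a828938ea4359afe70fa6dee40b94c769fa8ac46d00fb26aad1c78bdedc197232190619568b7cc213dea087d85202996eaffa95a38c4f178a47034ff008391fcab5d15710f08874b32c71ae30ab94c2a41912e3f9dfe3c8557d376678e787a9313b0d6ce596bd4481633966df45cb88e894bba3046f0a1e25c34ad77b48856ac7eb2aa22540cccf1684a4a8c93ba5b00fee869a7c144e3408f58a1e94d2af88a8088b12e62596e764fa74fa7a3a007f89057afd0028112c1b29708213c0f59f2f64343a626e473f7332e8ede7eb56bcc6674f4cc9dd2693ea53d8eef04b42b7de1d8a6cc596a0db018e01cb3a292dc37024ddb87c6eaa1b8bafb0b72b20c3cf827c5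c4884dfe113ff0167aef47d3965e781f2df89072688e9d0a0a4cd9a63abd9a6388f6ac8eb02ad047433c2912e5b7fd3350b5a03af1ad45f4f25cadafe8ccbb3369db8d71730347b6b11eadcf34a69dd173ce6d2bc8637fef4c97206eee4fca754bab4002c285598343fa3bb16dc539a9260bce92e5dc055f7c48e6f1e900e0ccd25a02a21391cd57de48fa10886edf622d110879f20699eb648b66e8f85eca6fce52a536fbb5bd6efbeabf5eac16885bc1e0e1cd24f9ad59a008c3e4f08656d0f9625d6c14d700fbd940a5d0efabc71a1b8b30a93743136753fa7a5a5a60b40ae923b798c2f9734227324b866fbb855b16c11931528b0a21951f6bf43e4d2f652157670f85f95b149ae151debcf5b3b674f2774fb21540bd55a593a291ce31af006c7c1245545f2228fc5f5efa8317f84c513dd536705306b701968b5fb4e3bf59a0fec983465278751c781d5510bed746eb6ca4360bdceb3c1938bc693f3e53e46cd863e50f9628f95e7b62a72d7838532cb1eecfd18055cfd499162d49784ead53367409a7bd2f6f6f2a7d2c61d8b6e37fca9ae35e9606786e968b00e8db9bc364b99e6d89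2d05653e58f04ae2fffa6d5b73ba804c38fa988f71f15ab9ef35e4d4a2c1e0cb62f7a141933cb1a1606fa06d4e0940394c171b2f44da64505ed3053d9151668a7473bd64e91df7df33a7a3079b847618a41734d8535b40636a47e48a978eca93397c9086303bb350f856a628e0d3e0843c57da7576d2fdc867bd3d252fd17a802f255fce1d2a4f7f9490a3f2ac0c439ca6f7223c4f700aedeb11ddda9d1b03c9b28b826a42348ae449fcea6e432a123da7278b5765559bbc003464d1baed5c405a79684f915062e7ae730923dc79ae6d45e581b0ff77e427adfbc0fd94ec91d4d4e4a7ceeb5c0a56ea7899a91b229cc3e546b2760bd984d9944dfd5eb259b34943b390a69472da5e8366913839e7f3bfe1defc9ddb2bca4324f94a18028f1fa13c847c9b9597e2385200cde14b5adaf4787e8d9d9f3983f78f30506f243172df82a902bb755daeb27a6a4aad2d59d23f72ee79e13bdff73f83ee739f5dfc011be3b9fd6960a106df127bf98bce27611ce79a2d786ccbbac13d54975e574cef0ed7e4451f5f774bd7d03bd5facda743f9826af368a661fd44c47a8408508bac60231ab55a46ea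4f611d195b842dccbb483bdb9a7597b93836b8838263954aec87dc37580cc407ff6b70914db9d0e5353e67a689045bc743ea0de4750ba11516212c743460dd347aea3b235339f7381ef2e539fdfb8bd44b08e265272176db68521b1cc8c1c4dd03608e1ce15b7e7fde3e37dcf9d4ea09a26165ef1ab7af6a78c6bb9d9c81411b16f2f2d8f018441d6bde34f8938ec09764fd93008e07845f9fb2d04b19171cca7f36692470de6adf58fb73a55dbcbc432545c119bbc78ef75e65fa8d60d7f26a56581e8e90a30892460f0e608c886325533812a9bea54768a0d09f233399b64f7f1f683af0221a953623d2529399e90606b6be07700b9a41616eb8038ca8fcc066c06212d1a23eab24d02dde8dcd72580aae8b35cb8a5f4b6258a7f27c538bb8deeb9cfb52b4ad055b9ce10750bac9a4187825c74d9c2e4b4097148cce950e8283111689faf9222bd8394832c4344b7b29b24ec49ef023c287261fcd9bc2eee9f20b13e0d820f778573993a23161c65da840a5eada897f1b861524ad4b7e5cc67d75dedddc7b50f2ab10b34f236c0c109be727276dc24d28d5515d4d3dedee3bccfc6cadd833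cf6c6ba86b5a1e0e10514e2e0e699daba433e6451f3990bccf1dfc583e4997c83d2cc3708ec0e05e1a73a7b96883638b3058fbce575234294b31b37aa01eecf66fac65e0b96b8211a12759e6ffc1ea834b7d453266a2900469618a6c11d501d89b260a4597cf8b5cc11e068272285d6ef0785f14388eb0d17e6ec6d330318b6ded4993b22423f71133401418970b3efdd6a3b5aef8bd2eb212d9c091e98811e03d677b85af60dee6435033ba112076ec909d74c079ef7aa1eeb89c9143864e6696e093190b13c4ee0c5413dbbbdb610d66ef7fd357de8e2183465d607124b09ad2e8b6467d75465018ce6dfa28aac75a909985aac0a47150c75e1a0dd71a7db208e1b28f4105ce2a02d4d1b10b01194c925643723612b3d574420de5ef0770d3c50daadb32a1c7224c7a08847a1c0d3817e390fca0728629d48b9168fa202b68ae02b9c3c5229a3e90b7489b9625405395ea47f460c7681f88852cbca55afbacbcddc55b8d3384d64121ca68c6bb8e66d27bb15a5e22386a14bfc1b579db8de7b03afe99d632efa7a1c911c7d63333e55284459e326150b531a4c3827c050a52e7d20c38f0d7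d47e477d8842cc661dce3aa573b3947fe4395d3d0bd5ca7081926751cdf8bb5a73808aef60356b65028abab12a4342d7abf97a14c3a8ad0a07da8bf8197a2fe4aa2ac9959e61e03ef3ce546c018eed8f21dc44fc91725cb9d81dece351c7aac19487610e9ea4004192d1510f29d1ed6d78d39749e25f8cfe611940e8aff2b14502ae4966859171f6b715d6976f143a2a3969f3c4dd710e6a706422404ac4d9c490e7a1f2a73c3af44ee329e03a087bfe3213b6fa29f470ede03dbd6875913df1953a86eafc9089164248cb6596329e11bd836337e9adea192572ad7e1108d9fa619e8c23e3f2b849aa446d48840a049173798f4f3f352eaa922e30a3c08df97e6b0b28dd40cd5bebd618326a8cccf803b13f91ea0efef49109f58715ccc7067f40f8c193c6daa599dd16e475ad441f719f3032db2ee0f5d66864d739bd581ab5a35377cddb7f3cc30e46b02cab0a91ab0414cd2037ef27b6e44890d8529036a1a5774c4170f1248224ecae01613a9c6bba949b866137f1c2ecee3ced588d9990257918094e80efc693254bf3e941a524ea69866a55beff5f933b9ca38cae5b919ca8ed3de1b8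80320edb1919b4d4ef1ab69fab582de1770c7ff4355c17b127814b0f87d0e40dbda4569fcf468e2a54cd5b30e37e134d4d63bb13f78faeedf2288407e37cb0a8545a867d0c9f5f9d729e862b7c2327cfbd7e098d83970d74d7abebe4032e0d1899991ae7a7c11e7617f59cd07610a3cdde5e9d7b63f27c7f16503b7708db04d825ae0b3bfdfde1c3d56b32f05d577aabba3969fda895d8e2e3cba07b524ec24ae8806da88630506f2c45489df5355475e754a4f45a50c7ef5d48381c1822e6b27fa8394e1b2b28d537f4b0eed41d371e270c58b47f345c243532fdd2752167cc1469e4cffefc46396fae28e71b99ec859471fb219975390134b3d2c90db5f6675b2a59c330148b26ed9b39f09175ebe4e18af3392199a16f97f77cfdf5e0739fd8003acac40bb915ac2af343b8956bf64a42e1d797fa49a54b4dcd5ca929025eb0902da02c4caafb8f08a0ff2d4ad5be6793c98aa333dfd8977251452cd0b0d1e5db51fd470416709fabbff2e4f1421ec6285e26378b423e12129102ebf831f12a5ea87f1b53d4d0299503cc4caf38790054bee406d2cdb1360794b3516aadae795c8c8232031472bc3e826adb2faf6a81471f987e9776ac5c864eeccebff06e6978)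
noncomputable def HW0t : ℕ := (nat_lit 0x245a9b8fbd9176e7682d64c61d799bb9040f5a6abf766ecca5b506d20de0009a28c4016a14dd34700928a79f3ad82fb58843b8b7a8a5ba6037e573acc39198f8533e817e8def6c8ee8cd19d90bcc38afba684e118d97084d89281a112eef333aa583e7bd7f5c683f50ac95da22d8a2df8aa2e3e5aa1a046746a78ad0afa0c26cfe408adba2ef22270170f085e2a1b0e7c3ba86c08d6ab23cf7e0f7ac473ad277fe613911af85c8590507f184c7c74e9e4221b0383c0a1fd111e24a891f7d3a0bb15ee6605f2a5739242f1dd84a603f751515968b64f7bf485bed48f34aa88b5d8820d57fa06ff7b73adb0fe06a0216b822a6ed8960ba9793dd576f95e7d8ff6764252faa5b9678bd7f73dcb015e95ec92e8a56d442c65543e146f7963f28b55f8df76da390711752e1fec82d27b0b0793cfb2ddcaa4953cfdfe6330c4afe315a10bf02efd2aa76c577d2fdee8a02091bd4a44577eed91afbe3e427c4945cc51b1958b3f45778ae24cbed1cb48b3f5f6c258217fb4c4ec925d78279aa0be9534960e2f78d3e91b4102995a0d01a5dcce58b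a95de44528211eac8cbe9a42c426d8afa0bd042a3b26ea8b2d9515dceb8cd0ea69ead3dd4ce01c017d7f8294d62494df090f1928e631170173ca5d4e4b5dc714e9b6d8900e2977ab9153a2b99d5130648471b746d97740fddeb4f576ec46813c73b79fa1e4378fdc994afd00891f8ec9a621c1abc26b0075ad6181d98cca6ba54b81977e3e781e08fa271ba8811f8e5e856302d78a6442a11398c57ab5ed160e32e52756e381f92d7424a3332564dbe2af31e9b04a027c28e849f3fc91e4468c37ed915ade2316640cf58ca5317a97d2c23d0f1e7111261320f1578db998523bf2275281c29bc0e9d0f91765366715c3d2b91b2a66bafeb1cff32bceaff5fee98f849e23bcf6fddb8046de36d641a23ad6440cd89c72a9842586c868939d424766ad222465e21767d74fa12100fa2e9a2268733862045182c7e9a7545dac5b999ae3e10427adad41cad84a96748b4f185a318905ce9d8241c006d3b78eba00682e2a484ac26c1ec58bd39198a899dc0d87835b194605de5194e4de5f3b981af109af9188ba6f25599eabcb0c9d29b57202222a348143a8b6bbdcdab5bb8260f02434922e92ff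56cd8d0d3498a4d832ac4574b11c5b52b833fb283b683e8c7343158c3f948e7d00e86d88f2fdda0d398f13af78f25bddb75bc4ee521218ec79ed512f3e5e8f2742f695ba19e55666bccfcbf990d49d621de57d865e0a7bc42c2ab4bca2a7f65968dfc09c1fae7daaabf9839c378e72bbff9e659cf5266db87d4ed5607b0fe3e18c3054cdefa136d54ed1498b0e82a5b21354fcc9c45622c4d242a4db35c2541e19e0ad7596cec3dc130b6122ebb72aaa97f7bfe523d83a09153dbf2411fc37908a8bdddb44e4f90929a62e793778ca56058b4fc1d46117c9617e094048233837af2e9eb779fb77643aebd2ef8ddacf67542c22f1e8ca87341bf98050fb087804a1ee97162036c82f3fa3456192e073c3bb5ff12514f681c9e9a7266aba3bf14a8b1d6eae4b881c68f2d7a20500f875ba1bd2c1f7e8e4d6243c9d9db60c68e214c73012995478675f31d54d66bffcdaa6273e091f3156a93973d6522a1638d9d070ba03ecaac36468898aed6c62588f9c8ba2356f8e2c5bdaec5b23b5233c56eac2b02da44814b0c8fef693513183b283edd9c236a72f82276c1a04c2fdb823309c701c7a0e70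5e4baf9edf7ec5fc4db48f674e29e1d668bb9f33d06ce152cc33eedc899bc16afcf03f6a54e60622f8004621a75ec3d32acc0f140b9b42bfb6aefc15042a09b3f936096463f80c3d5dad052dad0b1e3efff517e838e538617e3cf18fc15d5aecd61fa918f1965737dfc0041f974bef43e9a35a1e06a88f04754dd9b14e1d5c060eea469a2bd547fa6feddc374ce2adfd2b1b37ae1d8d540374972c83ff1a66e09cc87cf35ae777f0bbbd315802331efb0c38217c797d395e3aa29b183a1d1b23abf86e45304727cb4ea3b8bca887bc54f0fe94a18552f975d66da9cef3bda28af9b258789fa3da24edec52d0cc74dd62d92e8f65239e95b1ea8de67c1da5ffc1d5e4ad88340c9b42878dddcb2cf4f196c96714a7dd7d756a1c9369baec0d0f8905f829320f76b81628c36155948cf2896b2dbf31f97dfdd9cdb6e8d2680acfbbd73f1ba7aa07f19e7383a2a262cfc94823e882f31d809294d3d7462a73258043fc64e4a989373c751097778fef484227f520c51533f77eb7ea05bf1b5ac20dd2875ed8bf13e648521bd3a72a15af8d8332b8dbc4ac1fd24cb443d25ac6da771e16b908d11c66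42138a6eed6655f7a82aa97dc4862f62034bc0bcd7174ad3ee895b6dcbb2a3bc5afba270d974635fd6daa3f23a700b1e47208f96e05d81b8dfdd1f6cdcb796bf867fe3688123a4e1bcac6962d47de32ab5323ca3c42c7369a51de3bf19c69ec025f433112b0d3a15998ef23a7793fb81d98dfff695119b6249575622e4ed446b492c44520259b85b11cbd15015cb3948cb8e64fcc6bef6722e50a260e2b84e0cdfb3d8a043a512bf7840f93d010f0650cf3c7a5ccd2eb44ad69329ba4d9f71f1a66bd297610be0339be32cd1fdf6a31dafbfac0ab5b10dcebbc4db43722664c2e6edafa3747218bfc3bf4c0652383fef260e6c7c97e8095ae0331e7f96eab2611a006ceab8e3adb4ad02667a8931adf1b81e397f683765ada4a3d193a9e97ec351168a77a0c64eefa040617ca8e7112f2293ad4e0aa71201e45a1c0b7a263f0ef94569cbad2807d5f01734463918db75c73a0d94530f92ff3906d26d351942f3c9ee7df94336364cf15728c50bce70a958e3a5371e72b75dc94e4b9b596a0aed20c0a88b5a7553f969bd7922cb7ae688043e9984e6b24b7ec1bfa075623d02811cdae0158402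89292eae86df5648561afe1715526152d6592fdb2e81bab84a8cbf3ea46fbeadc3dc76507ddeb7213a806020b27c0fdbec117ead5f3572762ee0e5546f5ee850f2bcc6a237621af8ad5f4545f4d037a028ef9d74b154f6f3d0fa4e12295b03b8325428d6cf95c34155555c32ff0bd022ad961255f6377dea70a8a05fe34e3a86f2f257d0ab2fde53380c89e4fc6edd915eb00eadc99c0ce799784d8af0220a9d0ad523fde34977d0360d4eaba6511e702c3648975790f49f99e671c222e27973eabc989b691a0355711b195436654fda7ddcd251c6d0c1d6f939b6d430fe75c89678d073dbf0c78362c81fb00320ee86de6b28a45472d3e781e647db59623e2ed7e503d89d5b2a1a305ea28a3fb8dd185ae82fe10effcd641f143c7c4b301351a335145f3ad026da518461cbe3ec5e0870a7c8c5157ba2c473360d0f979c3cff17926a955a1a203f0b133a0c6b602e8c4c08aedb8de6277fc849a1d38b23efa7654a7f5a7a689b2efa85c05432ed331c28f42622589f472a38655b7c68b63ac13ce0c05543fd87d0eec5ac5ac4b86be6bc55d7ae93287d7fc84d5ed6a8b4fa220e1dde3717ec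4b36e69bdc55ed4ac0d8de508826fd8a91c44507b604a68cd7b4d44f3f6c321a76229c325e594e19b5d2cf901d729429a5431d1081d69a2c71327ae04de2a42e7031994c4d921d9846f4b61ef09474895897db02f8e3bd34e0225bb3ed29490bb06898b23522d44e3825f568489383a875214d2ebfaf1b10e03188fa39eb2d97b9db8edf245aa005f97c6e129e0d9b8e1443753929512c71f5e5238bc050db87dd0fcb5faed9b91d625af30fa46ff458dc2a681b34b8a55e08b4d9195a1450797d502c87148d8f61cc43238633cbcc493eea266c1494502831d946fa4db89d12139edb094b8b040067228407d67c4af5cb7a4c3dcb679b567dff76254515fb8f2abf1a496e39fcf8b7cfae767e69b1279e9eb892cc34f3536fadee6845ea0defe110379952bdafbb9d8300e6e2e6867201959fa3715b73a8d1f0daa37c863240fe46c8ad054d22b6f78f71551770e228e1e450e0f7b485fe52cda137c3059124527d071e2ad934e1c7df86af1d61340acf97bbd5b5ccab7e096eaf077839bf52f30cc2f84d480f32761e6573f9b7466e3083ff28ed5268af0d78deda4cda2e259450079851f9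555c463fc6aab4fa9deb9cbd775981165f58599614ff2e00415be38a983611ee271bbc116f75e830aec156fdcf998e8f88e2b2a84004ac0f772970dfaa1ba5e34d4d4db459012d5821f917028c7bcee56cd4e3bca03564813fcbcf10afad59291b80345e1c107b69f25acf849de765dfc7274543556c8228e783d1f6b8b1d8dbc8e75f380e4b43dc6e5eb230d38bc7ba062557833a1df97a34fbde4170bdb3f8b896696a7126d3fb06063ba863a6d68273f68f75edb689e23a11a707dd3bb95b20eafdcafc8083138eae03209143e121513e728c74f45bcb14c92aa4d69f2398876873ce7cfaaa8954c2e9589ed5f19cc8c17ff86f2cc39dc8da926ea948d375407174ef27596042df964bb0ef83f9d7d829ecf44cafe94cb7d8d28ce30a64cb8c5a3e0e4924722174cf39b391ea1bdc51d4fe7ab24e6cdd79332439d87b1066c56bb3d518cac7fc7ed9c19842f5c5cf56ce4ef2914b525123490f8ea641bc5b6c73086daa589bcb3bacc88ffd08616b93a67c95fad0be76ccdc4975d2ce241de450c518bf6a594cfa92bfda36acfdf65114e31d4cb08681b136ad206a1267f2fa3099f30335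452dd1ffa3df3ca2568ac32796553d862663a58eb5ac514268a39a5d3dd690fdcbe838e1391b27507d336d17e165ac581f733b5335f1e1c82ecc5e6f7960b0c3c2c7f3590d2e95a4ba8d33e8beff7a680b249e39cb75728ae2443cdb3e336b4eb36474e3922dac2407268f5c65255032baed9c04d8e5850b1ab44f9556aa565dab06037a4c2d26a24eab75c82eec576e62269b8008c3320b6ad7ac55f5227337b9fc59eac8029a2d8c556fbd862e5788f5c1d6abc671d792401ca37b61c305587d255fb26e364f5b52c205383189001bbc6cf62e4d25b8f7267c37393ae8f9bce7e9520e849fc243db6a9c25e357a6c4502395f601b6e110badc46ed2c77e52e46c52c89bda2109b84801d1fb9ff7d0aa6602b60eea9161cc429aca5775d07dfc366cefe7a004e84e857b7e43665a8bf91740eda305fd0acc86b75f036b14ad21b6c1cf9f3e1f3fd61497d550e29a4db9bd845d3b076d6e560464d8ae9aeb92642a5d483e6d345cbc8ead12c3840514311250b8aa887a5e638c46ba6f74f341f5c5dd89ecbcfcb54c18375d488bb1afefd10035567c75c8cb46a59767ce54c787a65191e80dd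51de2b21582f3fc36399d31c876dc7d5f3916ed57b57cf2c2baf64bc600f0ed348f20be327a9e684b002754ee31aca11977eda7357cff16f2d3ff9aba3f216aeb1a2c1fd67f321d1024413a871cc7eb77331dc6dfa11cc722a9e2baec425cf4898513fa4f751d16712f3fd2aad03ae3a692ffc741ee6e0d8b3a349ac0f1c21d859445f67f23d921cb3ad5b0b08dd3f93b27c94cc9d9f15a20cb19ca2a03d094bfcfc69b5cc55b2f41d7d172f7cf121353e580859e73e2e84c974e1b54ccdd2b9f38de9fc7b1207656b8880461bb8e0f3cd7390bb625817e14bf4a7aa4a4d1ed268e3b05d4a3953c6898f7249734ce9113fe96f51d41e9234ae7fdd94392a93ff2c7baa15c6341f1ffd66e5cde550d81bc209d904a3a60c8ab8e73db17274f075f35491b43250d058c113418b599c81a683e8d96065ef74d60e832995a3ec8ccb37141812f0f7cb74e85367fb4b161f99db33c6d8ecae18155fe3947eb8e2e9261c37c5e4693ec34c051b00add333f65b29ef32db6e64968bb0770ec7c806a6ef80af75c8b4fad398687a903fc65751f5503483e7a609ff69ea13e9b6db5748b870e09fd49f4e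f00fead462a7e7fdc38f4ed3628a49aec44ea85693d686315bb104e67e997bc3faf5256c05dfc70d93146cf88bc031ecf3d456de180d1847d4c468fa9d9ec280b32a3200a3269207cec302389728f5180e6a8efc4b0fb50bc7db33229dbaf0457cf2318d516a729d14d8ee00c16ab3555bc72debee0dba1afa232443bb47c4510fe7dafd331edf3d9fb839fce4e40145684337da2060741d8afbe9b2d3f579d19e7b3cfd61e64d106da96959b85db4d1f0f560c6eaf3d10ebced7bc153b548cd6648595e4331805d2c62f6cf20ef8f00215c4a51a6ada2934807f17ccd12f7eba9b667082af91cb16c23f77041701c731557101963332f55eca36770ba901d71fa9dadd63f0d31ac00bc55c0e3ada2a6357ca89706123e823fa864df99277b2e785359de6d2c7230ffd5f488fdb94185e6923bb38f16f1a4ba2d6f1e6dc10e903d19a970242f8b399bf24971c19575f85f36c1cb3fb6f493bb9e44825d9678556815af1d0778e822f7776f46cc14562c4de6d29a5c2978adb5a77e649377bae2215e1da1a959287cdc3dbfb0f6ebcc7ce070d20b3c5f6fade28945f3ddae4cc3be7baf5fd4cf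bff0a936fa67678b4be22c7e8ee1491d6268267988d301180707c272f51be8426daf7ca5493e1ed0c53aaf0076ebaa6df64fffee2112c0c6e02d44250490e022cab0208c7ca95a098b00efcd8924de979a89dc2a2f806f89f5c07dbcdd7cb8e37bc2a3aad0ef864297115b67f2c88a7b44595107d3bc8e9fb44e3b0a5b1d9d1c0069a916d1b272f83ee10d6e1a7ff35e13a9125a618c7d671af4d86837ec7ce2b1e9f9a93e0f4f1de31c3793651befcf2dba388fbd722cbc73a234177e9fd71f94ded163f8e5e577871bea56e832a8bb8115b93369837984179da4a22fc1b3b42104023d96c8bebb7dd5a9b61f1f07d3ef12253af565f89014d0baa0db2df665f50dcb6dc727f41c067c12c6e9fc01da710eb0cc19bb57e1d56a989e220caa67b6ed464530eccd8e56de041e37f23bae39ea40151a83b438e949eef9c4e87d2d3dc79b98a371348501ed35eee26f1c7f4f11db38f6e415c017be660262d1f646c65791a44ed554a22ea17e8779fe75a05bd219f1b2a731e4e1e6799060b32125784241a06c8110034399c66d5211c0fd0696d69706363da761bf9b9e88c709bd0e2bd7aa8a88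7c15d40c1758daabdbdd58fae2378cd6a0bf9e52fdbc2eae7cabe4f06106e7d96ece7955857f0deb3b9ac3f6ec4914d8cc6123c5f3c842377831b90555051d716797f760c74aa395f10deca9d46fd502bcca56fb21bbe74a105a074c6309003943611e11f0bd7a70102ff9a874c1af401b7892ec80fc6c33e5be412a66e7802a291f8e22331c07fda3eea326d2271ca8964db8b96d50b59dd5a83bc772a311ae21e1dcef66d5267d8c45e28bacbb13df538a7fd4a1b601d7326b257da61fc6b25332202cb8a6e2f746dd319b20605cdc0c93b1cb715b1717622c6742a4ee3b8d57257fd2891cd6ed4fbe723b915a939efa80d2fdec0d223fe96655fc1501aac5ffa17b575db66b663f4fa4b23e4dd522b832ccb11ef51e8618eb5d609204c2355a714d80a4438a322949ea746c6c776be9bc23c9dddc39d3186fc3cb3ea1f975eaeca3ea554af8d5bbf005d5e1129c9fdf864eb69e2f274a8d634f89099c30fa10b3f51027f2c848ed85300fe4762042fad77460480bf0326530aff8115faab78c9176023b560efb1a0965b507c4180bdfdaba514bfedf83cb924371afe23eb3c77ad06d008d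6af7f1e25d70e2f3a3dd38abfc6d407b7e98d06c6aefffed2b779554606352393149d2f58e6edda1dc0fba5a3c800e6ae96d134c942b547250ac51215fb911f22568c1c7e7431a2fa940af53caa83f45ae286f8927a390a1049c89198972daa70c053871022a63d4fb1bc1b6c9672f688b22c19b1da7c4b6fbd0f8d9cfa81ae4fa023d1e04cc0777a6a663e4440826b13999685cbd433793d839cc76a77f87ca8d15abe804941be5fed5e115575e55ba7498f5064c446cdb30661ab463973f887faa2f35b4e63b1f3daa972fa1314a13770c00da3ae09cd291d9a3e636db0d683902b0c0a8f4afaa933173f3fbf669311581552fd9a253b13f85fc6475ffcd8b54b54d4f772833554ced6ec439d3b1d9b2eabe359f864e0c1a52a000afd254aa4be46c608bf50726498fa88f8e4fd53e727c38052f3f80536d65ad53557cdf12a7ab9af666d602d86bf916e84fe0a215fc1bacfa656ef6b0e171bbcd515237bd939ec06b1ac23120de27acc6d6b30c6f081a5264f29119e4fc27a25e28c1ef1679d10a5ac0e0a61e04cedea30982360d3a345edd19f65db058b1bbcf6fd5098200e24233dde9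ef0a30d6feecbbf0de061c82f22a58f65cb7a394706c70f07d8035f0d5727c02d0a1a95fde4a4b60e0a969f6a53e9f57da0ae4af63e7fb664d635e06ce4e6631d4c92db0e204fe78b4badf7c099a62742563a874cad38e64e51d47985e927831416baa0053ca4d1071354a4cec2c0e8b069630d748e606647352767b2466c8a76e0b9dacefd43bafc3bf3ed522ef8680400e876cd84b91bf3e3f649e2e0591ca89e58d752d34d77f09d703278cf45865a346e0b6d95f37c74178b79d988bf60bbd7a2fcac43cfc127dd0e011b2e2fb6393d2c0c8f3d81acf1d53b1a9931a2dfa525999936fd7cfec1a0e123e1dd89b0b7f7ada74534eabfe91d4e683e3d9301c08ed96484027da71522facd9ee5cc42daabf75eada1518d554c10f2ef3da03a46155bc8d60d3b3e8757a7507a79b83d8c7199a1eaccb1c33d33bb9787c920dc9a73ddb6b6c6790af1888ff6327f20b06354ee6624edc50b455444cd3ce1bf85ec5980540250f152a5ead0d6f1db07f70168b432671b15ee1ded29b5be1dbd82dd52f46f6ce3c2b55cccdc7e98ee2cd650cf41dc36d7e6373ea569244406b360bc79207891b61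7ca992b21ea65b0ac9b0ff0393be0f80a2e850bae2a8c5a3bd382bea661d949fd5308e58fb61801bf205e73a409ef820354a37b0bbfdbe80070b3d3b2bae13400b6427c0e59cf3a9cffe750d4d1de09fd0b4a09cdca35d1bf5c264f5fbd73222a9ebd4d2f0277f323e91af40443c1b3ee71e0779dd1d8976baccbeeba59818174cccfd2cd8ebddac3caea18c6e4321a29b7f56f681285c2eacf6d1babf102e978d96038570315183ebc99a1c9a3de11ca31aaa71e4c9e54ad04b73ea707cbf5af96670a5e81860a40b88bb7095ab74836ecc0aeb930b7751392edf23facc7a1f5da97319bf5967d4e170a38a27f6545c22edd69603471294c5145d47ed179a08e9d0f41313dac86589825e3bd597e50d3a3d2d3db86fef01b5a827144c900a5114539dc1069f7603ca56a01f425fddfc798921b4f0e7e0e8acfa7f4d9fa3be39969b693860eae32c29ae18d305760bcf3d7a22a4bbea9598a74dba81579975068be992b2b1dc57eeffde95fc91839168a1a7b9e912be2e0f9c030227f1292bd5a306aaf64f724a8520348bb036d126328d87741a690555df33a2bf9dd7a1669ba22e6a25f55d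d671336121cf6e5ae5c904b7cc601cc44fea03ebd2648e1cf818d1dd59b56f1ca2b8cd1e29510cbcfc10aba7aa3c073813cecef2b8f900b130c26d7c4fb38200548b18ed74aeb10cd5a5307386e1371080f2029a09d3eadceefa0b6799264dcce9a7756ead4e66eaf5bebbab8f481b04f62a11b3c0fa0cb0026323cdd98c0ccc056104326c025a8cc47352fcd9d27b43ae24628669f574d8dd14bb91703347a0d8efb9e989e306b34a1bc7dbd2d4f93482c423afe5658b3adc3d593c162075cfc0b6a46a41c324d8c88a59a12baaec0ff1561e5f07a4eb93715ba8a7236e4e3749b07a4804303e22993e1f1fe3dbca44da83e1a8d5f4d1cdd18521ed4465a6c4eec2d7f4ea5a5543f8efc1710d981826db3f7383910b81124d6e297be69c746ff02e32ac18a78751eb78f91f434772641199000947d394c467d76135aff114323189e1bef61979836683def385b8e8aeaceb9d523ccdb0f57bd09aee21612ba51e486188f24b20e90f95d4f43dc6a80cec46826cf3f6ffe46d79d8d4d88f6ea17a531addbeb4cb89fc0fa41e42e50c8f15df51ca70a100a7371c6a49a32eb3e6f5344434453f420b7106426118df46e7f16f4b2530dd7a17cb3b45207b4bfa57466a)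
noncomputable def HP0 : ℕ → ℕ := fun q => Nat.add (Nat.mod HP0t q) (nat_lit 65536)
noncomputable def HR0 : ℕ → ℕ := fun q => (Nat.mod HR0t q)
noncomputable def HW0 : ℕ → ℕ := fun q => (Nat.mod HW0t q)
theorem tree0 : Tr.all (treeP L stp HP0 HR0 HW0 WL0 (fun q => Nat.beq (nat_lit 65537) q)) L = true := by decide +kernel
theorem sub0 : Tr.all (mem L) L = true := by decide +kernel
noncomputable def WL1 : List (List Col) := [[TCG_Fi22.Col.c], [TCG_Fi22.Col.e], [TCG_Fi22.Col.h], [TCG_Fi22.Col.i], [TCG_Fi22.Col.b, TCG_Fi22.Col.a, TCG_Fi22.Col.c, TCG_Fi22.Col.b, TCG_Fi22.Col.f, TCG_Fi22.Col.g, TCG_Fi22.Col.f, TCG_Fi22.Col.d, TCG_Fi22.Col.e, TCG_Fi22.Col.h, TCG_Fi22.Col.d, TCG_Fi22.Col.c, TCG_Fi22.Col.b, TCG_Fi22.Col.a, TCG_Fi22.Col.d, TCG_Fi22.Col.e, TCG_Fi22.Col.h, TCG_Fi22.Col.d, TCG_Fi22.Col.c, TCG_Fi22.Col.b, TCG_Fi22.Col.a, TCG_Fi22.Col.d,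 TCG_Fi22.Col.g]]
noncomputable def HP1t : ℕ := (nat_lit 0xb1a79129578c33eac1ad5cd39682a690820ad46e184515e2e07262e2716b88d2d5252f94571efe04a12e6e5499039fe238a7ebbe08e47902a5084f4786e22b379ae4811bfa2662e26d31b23ec1baabea2ccd629debc1f56d62c09f17fa3c4490bedfaf528b61ac1ade955cede06bbdadbd50300c7045ed205fdfddba60633ea1a0f6bb74ceeea53cacc57244b2b364d4bce19682932b36ba8ef1f35dc8075f5111531aad08c00839f7883cad4c060c8718e6882a51b4affda8bc0162cedf1de743716d7512a672c15b94d537ee44643a35a09bb31de8db4844badfc74f8f89c5d39c68d6a8b689ff628a5e0467ba6396b5d44d36add2f0643c2109d1cb1f343a706315e629204ef09b94655aebe8c343ae98a59e24d155b8cae6a3f8a1ac3a29b4ca1447980c4635edabb8e2636c6902c391bd696eb526f3a2ee54bd6fa0504db414797bb3cdd8cb7d458af0f7cb80be6781b719780ec098059471181f0caf518e673cf4aa25499ce8750bd463815443828a918dbfabc3be717c7a2da530922ff5030fd6af8f79c8d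c36817149980582e8254d7280c8d65710738529a86acea0802875b6c540542b36f74d2095f778cf32acb76df1ff271700dcf234054ed6c02b1561de952fd962b5e0c3b267ac254eac74833d1058c3ade683979408e1117023716984cc2b96b886b33ab39cb3b8f45021535ecb27a663ad72bf2615d324ebadbdcbbbff0098acf436cfd2164d016857632ef033ff1915b59370c9895f7817b9277e0ee315d295d7e14fc8c6b6410d2f893c05db6f58802b8c0756b48a1c2d54a055ff7bafacfdb386b2834717d911e34b0af01edbe44a801ed74d80eac8636cb10b0deed786de3e4a18fb4d07242a820cb13d50206e6d5ce64cff778508004ad6266bc680f404277097fa902e5cf631e0930118588f10df6ba6c13d6083380c5cc1c0c3660ee0c6ad5ed26a0a26f031b0ec5b9e18b4db692b9dd265955014de1d5f64424a1b91f5d28533aeeed1fd76a7c0e885f132f86f655e13aef177a185dd84846541f8c7737c19ccbb1eb466a27a833b87c82a9fc49370cd7b0038c14e4306b465e65da1c989ca2ff6851f479713b432e0b2aff0a52e85125d7a871476e58fd58f5225b96aef455c7644e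3b04b7f88c41ea0fb3c7f3b17ffb5f0645c4ece39932299eba3badefb978ba65fedf83e19a117cf60df607aa7c1ce66dca285f30e171514d7291a85eccdc11a2eddb76f341a45807f64389571aa2f6354f3febda651bcda7e8becdeee438a0b3b1872df3c02ec3958a24aa72e161a18cedb90ac08aafaaba1a0a80b0ee84e47088503cb097f2f986ff463153f11944598882094bd6bdf27a1cf2c51a8d4d07f76bb856af3af4ea527cf83d55afdbe47f9f8705bcf2d9c36ffe2ea772476b83c968df6bfc2b3dcff86d96f6eea6ee3f22706edaf63d919023f2f16ebf8cb5c6386ab089215b14cfc95743ca0d698b24e4e5d1c45acbdb998d8ee94efccf0066c01bb023ea440bb92dc561adc98e328a3b727d11d8bd677dd169cb043cbb4280e5b01f0f34e2f521698a30fee1b9eae6fdbf25697ccc3ef75b670de0fef57c366dbd45e0a0804ef904188e54bc37c004804d34933d6fd2153bc0e680326e0b8e36bedd2273b754e2a622cd26689a97dd81df2202eb8b1a4db0b1e7c397ca893e316d71c30d655a74d6dc1c4aefe5452f4d4770057f04aa33636c8a1ca13a02077dc415228e642d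3d21684a8f6624d79a059144f0cc67ec602ad1c0f9c0a5417aecd9a7fc5f574fd5909f0b655764f83694abfbe5c35063ece68f0cd5376906d1911533d177e2decffcb3131e916764dfe4fad324eff638f2403a6e4346d606fcb130cb404adbe6167f9b6f9a3b6a63645642a82ca029552523f97027b32744a2dbee7c9e2d4ed79405c8c97f2d5afe083ce4fa81685caef3d0a6b907b743027deea8dc6b5448f6e2118784224461a783f4d18de6f41fc74f6d0c1f49d2925506506a7845356dbb78d02085a75f49807929958b97faf99534f8f821b73cf8250cc1abac960c4cb882d3bbc736a609f558dd27bf6503f8e78a179e4bee0d8fe2f9ed1670a88d76c9ff56af9baee7767cfc14868fc36a84e1f877a76631f2e099355d5a33881e3841538c1a7e1a74e90ba40e45913640b2243c4145e7e928c4c292d4d133be3640dc194617cc6812f04924e96df05aa6de9e3bdb3c2ed8280ea63b95bc72a806f18d119276b086b00224748e2acb89ff2ed43ff62db39e6b65942e82cdb4fab228aa21cf839e64901a22f0754f3eb115295c45ecf98d206760d80ad7b4be0b9e5887da49d4e02ba2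5ff2febb06880415e4e728da12e0d78cd7a97ecbe47053f664f4d90e51a2c24b266d9e57c28702694eedeb457749a898459b2d1f628691a2e8a53fe175a9225ef672f87702e83af32f6e810b10b531a8fcb408f9004a7a3a758d4779338bc6ac4be5e3c6462f5b5a8cc8f7da52c01f12c8585e0bf134ef27a902817c4792c80ecaa8e540758421de3d4ed3a08073a56ca43254deaaee09951e0a70a849b4898635a2ddd3ac01c7b1f8b53b0b12b741f5554bfe9f9986cf5c9e184da05202395f66cd32a1dff882c023b38dcf71f74405d2165ea2f0c814e67cf4c62dc6c03b4ea0c17a87398a4215f32dfbaef83d8c5c2a32fa0a0e1fe09d17fa0e3f4fa2c1e182fc2647ffc3e292a9f8d916a75ae6eca468a5d5c1616f03a2fa848114e4f9ac8d59c05c01bd4f4c57ef4fdcbfbda3fcd3b95ed96ca761885f535e0ae19a7f11d36407ab63b639c88cccddcd399933a92e8f85e6184246ade18884dc78fdeecbae0ba78944f370a7a7aaf03e24142c596333fba57192b72aa35b3e9a82125f39d6750071c927d0528af1d8829fc0031fe2e80273d76e4f9215f9aa6a886fcd400245a0b4394e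27b6c4eea3120732add284e70e1c6f18be14613f4927097e0430a9830dbb200b7c85fb95985e736e0b30c3af0a7118fc33f04fe9ab57b66dc06d4539bea976c12c3c497c50ba18b325d2dd0d2129c51d8b1cb4da1e074426eabd9ec365b51c6475089043e054bde843762ac72c587a9da5727a1272be4cae734601d9ae599c94fc84e81d318b8623d6338ef48bf1494caf68fc442046693c2f0ff70357cba9dbf7bf91385af2bf2fdae7189d578bdeff85d1ba2a30435d91775bc31ab2b7d65a9dd0276efc9ddaade4845fcc515bbbe29cff3d93195e05edaac3f38dddee233c65701fa9c21ef42d11c34e84e9865799ee37b81d1f7dae689d1bcbcc8ebf34d75f6732def7cd54d386d8ca06ad6634f0af0e3a0abf190234e69ad34c2f154ca6620c77f2e9670d193126a2e1e6de028d6ea879fca4d27790c9a98224bcc4bb8b793333089ce696ce32dc889046505e15301d9d191c21f1f373dda3df9f466908290026733a318ef93f9750fddfdb004ecada1171a34968efc233e39fd924c1e4d99a1cc5fab4fb836a8db6c90ecd7706004a9898d00b8c8b367cc0d3b655a6b6187f8ac65a03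9674aa7545fd6418d3b678437ee60e8a5cdac4752ce86151ba679dc4fd5a4efaf5c2c602cb8a05d33e8bb5409fbcfc7870e480973e2ca268972f995f8e3207424e4d4d05b66335b041ae0968e8abc6a02bb801759dc6e74160abd1b52354c20fa009f52beda097805aa84f75a5f6277be73ae98ac4ad059d05480e0769fe49f96a018fefbe392a07a4225cfffed85b35b2b1afcd97302c4d2401b4ad23c442beb2e9dd581be362f218be517525825c3475170d344e13d58bcc9300df496652e4fe7fc604d63aa013372973f57f86453e7e13f189e5f4013eafcaaff77a790670fb8e4ccf4a2364165157202833f1b9376bba0b289d6b901c497003a80024b0bd5452629f4a6c30a165429f58ee8072680ea47730877889c7326164fa43b46171fb95f4683d8b2977f71bd0a15c8a8ea389af629e6688d492deb0167195dbe39b39137b1a3208b8cbd2438425cec35ff6f82d7c026e32c50d77993c29e5e845a3fa038b81b3e32fb4fcbe442d115896ef9790718ca9cb0f670dd58a4f7fe4da9aaed213d4d998673476b4522c7b19f6918d97a4a419074d71479dfd9b99364a6fa2f99c80d97e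8da7162fb1b93390587dafe34c74a3732c03e2c0d0931d0529ace7851d26f56872eebbf85a1a0067e7ab4f4c9cb5fffc88d111a7eebff05ab8512cca6f9fe4076408526e4554d3c5d015986190c29de98a8c5c3b64eaa73c6efae887e90b890b6bbda339c635326880763c771093f898c0a9d80059b7f08dd41e76d7dbe75b0232c59f23510fd7a9c5f537d8dd6c2dd62abd64d11ca17b4941909a2b87d7a521fb6a0051eed9b9ed2154fb5be4f19937884065d4e6759b58b9bc5f2bd866c7ffba50e43e50a7db8363aa037935c4deca9189f8f53c7eacee69267758c9c0484d21e793d1bd2b96efe25150d3551991c9b31fd245e1218ed29e0649a3148692dbe8af63c28928279d04bcf8acca09a73f0680976acdc8d44683ec17a331bd7a6d4ebfdf4a01e42dc62eef85bf9760b62f526b74b8918826c6d3f03232cc688bd8d3210910e891f14025665b33a40dc06f7d1f0f69bdfafd6902ab4689fe24a4f2c121c462ec8b1cdfdec613e456b96ab1609a507a18c5037d686d21c14ad4d341cc3b8e73cd16eafb5f975b058d2bce149f20ab50101e8d926b620c03ba865a2eb840bac24aab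61bd056bcca4728d731c1f96b26df94503365b4f908294a9aed7a194a35e4f7a8e170ca7766b04e2e84d603cafc75c98f66fcbc1833674ef4afff1102fa090d87c6be3c68f12a15450d171d7c0fb0bb56a7e48b10b9c8468f0533318644ec53b78fc3bdb56a2987c2c113b5902764bc15048bc8ea8915d022e1eadc3d07af07aa4110a1dd41eb1f91f58c9cd924a5e17683a97de649f9c303d811e263685d01d7cddbb486ce392f0a132bae677ff9c5a1b7ca2b539cddb192c4906a1bcc77939f031569a74a952a17070ec205d41ad01bb00e091cb2b4f535637749bc11f0000abfd6c754661227de5bbbbe49817a69cfd454cf6219fb1989a806741288fca6daa1f63f9e5962c52dfeb36ff64a429d2b82f3c91ba441581ff7d64397fefae7bf6055f07aa7446b3b5f967a1cb07e3d71eb3e62135b28906cfcfe2ae198159094c6ad9c5203ad1a3bd6bf6b8f7164841b5c3f5cb159e05553f7eb995b4d1f52e310bf04525607bd886785b8f387726461dea1f60ee88c04e223097976d2932abaf303251e316210fef80747edf02627250d4144c04416901c67821483c0850627d41dc67ead4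2eb65a61456e190e8271806fc290510f5eb3dd14a6492014022bfaf2ec8dab16e3b603cc5fec7f29e2c4b20cb1d860bd80ac8cf224c685185f8fb3aead1a8c2c9047cf22c67e8728dec3c4c3c9511fc594dc0b3091bddcc711d045cd0d48240a9c2f7a61313adbf8ad7fb87703f2ff850eeb79d589ae0ad5a6e2d61ca10ef5f7fabf6df0ab7baee224119640df14b2d1b57789f5d697a3b2e643bed36692a859d03847ed0c0deb1344aff93e833369efdbe9e18581f9a6f27436db8cacb94c0a68277fca4ce421d790b3bbf5700044de1fcf3bdeccb3abf098e145df150c1435d92d326ad0ff4ece05b69aeb0ab41be3c776ff0ba35f876e03ece9c886048769246c893024eabd7b15e09aca724ac2331e8b796708f2eff1691d4ca81ab92864d9fd8b35034eb6f3b9a04e3dea3653a4d5bb205d3e18ad98d5971b69da8c6d6d99f0547be6545557fe869de5c0596b3251e854379c7b0ea98a1a11dd17d62d4dc13d977471bc826e8f6e932fdbe4d93c0ba4d480c8cfda4c7e7f9a4836caa7476cccf80f2bba7e2a533f49364c7bf3b590309acb86ff470161125571f4df4b563a6fd2eeed5f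62be9d93774b5bd2b0fe17a0c83ca573105812a4db730ef0b85152700364fb9425b5c7548181381df9719f47c7f86482e1050980fda69c4d6fd62a3e7488bb2d4796490feff6761d94a381f69e939a295f757ccb2a089528a306dd5513d2f8413905eceb7b434a443acd7834a8565d08ecf6f0cad176ae4d95e575f2b156c5d4156884e1d7b108a2c440ec4e8e15ccff3b36151c4d82abdd22d45d423c8614485374cab286e74c97c4b3d2526158bbe8ef87616ca8a872931afb7d78e110e3ef32d86ee2292ced048a93d49671393d0ea7a2a09dea3f427658f1b95b29a63ded49cc4beae86cf5895ca23271020041952c49dc0aa5e18bd2e02ba57a8499f53e60d2a7fe6a4e7a63712d41efd07db2d0c495828cfe14fbb1b1318da9475c472a829cce4d673ef71de85bb51c6a2353ab827445cee275a54d89402c6b71409f120c00e7a78a0c9fed0398f22c5b691b56739b9122c28712f34219c2e0fc780319b0b43d0640bda9df7ba6031d3e74b2b349e390099a128b666977b03ceef830d0ce2750fcc014ef5451db67db6b32d6560e35ebda8e8e4adb0ced86e5de4b5ec4d1806ad67386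04c3e3111a5da78a269a2a88eb9fbd7383725338fcabd19df5a881d32afa96729a890bcf81a79fc1165eae5f6194a90c96f52eeb6a135bf7aa33852470aab21bd681cd6e8ec0e902ba53cd13481e5cbbcfaabb3779c9af9eddc4bc3792f7a896782339cab443505eaf6d563cf983a7910b270d30923ea3fef16d3741a8c118317b64b991c7a6e4aac8c5e8348185b3fe2b955c4ea34dfd6ca741f476391e0618f13f18c831934de8740e06b7e03af813478ec907664d93eb492aa9530e112eeae2c13c1b3c6013615632ffdedda6980c3e4226c553a56b5bf8bd7ec6a77268ac0961f48752131d02e1c500e6d445991f41b4d3a3e96d30dbe50d87a964ab8a3902d0cdf619df37cefa688a2df3f1417c7bf5650d2b37e812b8ced29e6b787699ba390dae6ef39a92e5b46b163ac853ce05f81ca09f4d29707eadb54860bfba91420cb91593faf527e26354d8d13eca3d6a983252852b54e9030a9a11d0db1de2bc6030ba5144ffc4efd6170c8744ba647fca366b5a3010f3f9b0798e5f05fff443b8c5eaadc7c2e0efbe8bc2da9ca35a6a105c6befe2323fee3d97d415d1a12aadb13009a2f9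f3bb88713687fe68a11869a580ed583862cdbecf8ee1b380e37a9d0a923bdb0db322cd830021fa8fe09f87b2f6a1f89c3346b189193420271a869184e5cdfa8cd02b07d2718dbccf50b12291c79d3b02375d1f56b90057c81207f35d78d5df402d7aaa51dc5acc543232931e9e62a05056a9a02e11d603613cfff4a339854f120047886e6e36356930e543d5bb120a2dc5276d491956fca7501b45253991da45176745229b92262ec654e85fd6908e53dc1ee15205e272e113a16e48cb2da050be5385bf5350c33ea075008eb375728f8dd3b61f877ad6420a8a8d66cf7ee0224e8372b43ea8b6ca205f284c03739ebe7676d55680097ef386bc21a01df0d77bac9dbeb6467cf59a45bd1304a9429bfa70f9c715268f6bb79ac8506db29be102976a08242409970be4757b93f86a38fab08327fb26bb52b272e2414179a170b65a0579f3cf6afe6e63f0c03f173a7389ba0cb02d8c85ed9314ea1eb532e6e6863c83669a188f3c31f2031803967734e40b7ad09684027dd09ba7b85633a377c34343acdf25c44c2c444f176d5b7c3a4a2b28b02969e7db90c62e1aaca7a6644ca60ef108f316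cac577a0fa9706bbbf06026492921f9011e7ecac31f4a1336b5dbe0c5a6f68c891b6759e1b437ed3910d1cdb6d5abdc2f950198f777dfd102b82093085fb20df45c880aeb1aa3a83da1f857ecf6cc411b82c6fb310110d0fbd6c3004ed15751c89e93724781ca10464af2f2880963125636e35633ef00e2bc4a05d1809b1e4c562a7fdfb7b3eab43ebe6d785ea8d019401c1471e661996baaaa9325c5633da1eca2d586f43ff47ea85f2aa88477d137181e9ed4722fd10c26b10707c660a37fbede0398a9fc7409fbb13954bf4c03bd529db20c7660c28e25229995b5695296265a9690a55a56e23621cba4a8e5e7442c528d0a66861158bbc079584e7840377f5d1589e2f2ad357300856d4115e2ce5d8af503d809891573f74aa24f0fb830719693acae5f2891a63fc8839426f61848361a5680e2e0f3b24aeed)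
noncomputable def HR1t : ℕ := (nat_lit 0x148cb3072bb9e4ffee8f1b1709099af04ee590388f8f2990e7c447cd3542c6036c9317f086e9207fc51ed54c0724e87c2be9a2ed599b7c61537a407735bdd32c89b02877567e29476df760ed88106f2ed3d2feea7ed9cd3c20807a260f1aeb065ae07f78f73c3578306b9a62d5672be9766520184beeec1fd9bd943d8beed4d66e88021bb40bf413a00ed334958b47b8f3b02fefe9470dcde3075c6b6f888034078daaea167899ed422dc7826bc768ea4a5eb2e325a2c8ba090c8b4e369096e65ed0945b42ecdaf99e62ad60557ca14e28bf9342a2376af865d83a8bf2055e1c8cdfdcf82bc44cdb859647144b8aa320f1a688e45d4fc13cb268b7577fbb9fb937a7f0d2b8fe56dce367d76a10af81f15fecaca003b3a83e088ce13dc6549e5894b73fd2033addd6151f75a695f8543c013c69ace37916fb0d6f0142b095d1a2e55b178ce73471b80b94e411b0b0e14adfe7f8bf4e9d4ecefa4c8ac635827f4de35eb4713f171c886d1b00ee867dc3baf8665dc209dc2fe8796e58848310cb8b32482e0af3503b35b807ebad1535f66533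1adb3aa26f53ac64cbd53c95da887afb49f94ad029ec77077eb78e0b9e041972f6abaa82650efd4acf988470409ae7797f71bcbed5b64649427fc66edb41cc85adeaa0787db1cb7b1469f0072294ab11cac8ec8b32c3c347ccf27b18f99b65d5011cdc924034ef7ee58220dafac407b24a50a8f6af7a6f1da14f2732d8222c44c6049f79d4e9e6b5e0af662b4da438aae654fb418374fbfba8528ef932f71af1d1c9624fd8efa2cdd7301a7f59276725081afc98e95f02438f80f874c64532e5daa8f2da7e5140c8f344e3e023828fdc3fc46f11201cb2631aaaddac3b1a0d4c62febd8f161b00452d427c21c10e6ac735a9c60cc703858e1bfebebe1fae35bae34485e1a41116ba1ef8f2c66e894e81ab68cb371f8d414ab5070a5cfcfe18fb525e6464af583c7c65b97a5ec2db1774133da5161500046d0caeb43470742143b7206d9ff73991391838ba922377a1c1d0507ca7d6543d85a8f3f648994d29958ce83375a8ba8e6c2683fffdb4ea5cd19725fb3f1e6241e262b72ae7abdf1093d4c57262e6446e1d8c24ac1798d366c8815ede02e16fdb40abe4a0b58b349c2b325e64367159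50cba508f09440567c59811960c4fc7b8d18d9ddbf851aa77eacba8db0da079bc8f77211e045d895a3c939ec87c107a19fe1b506d2049a61a895be3b0a4bd38763f46b62e8ee51d82b3223eb6bff16519228cc489a6988bb872edcef0e705dd7f19b8fea6e920bf3fe8d8e8ca06d966de325e1d6813aa7b5d18d8d0fdcf3ec62734606d169981ef594c7ea940eab3e255db69b4377c6def575ef88f6242a708061bcfa6766d4f491719ccd99d411be3410bc4b8f03a584f3b515e7ac9adfcdb9b0f779a55a0e404f9ecdc277da56a6e2c31289968785feec8d73c750c1c6205f1a43e46a136998c5e75cc8936339847c1bba91e8f8d890a2499e84dbe06cf78b8e3be22426088fb7696668b2b32f14f664ed55dfb8338aecf437a057f9ef94db2f9a72dba837d0828d4783144f2fb97d9860e6ab419c17b033862033221fbd32048add204c4fccd6d3f020ae5c6b7cf8236d83d578813ec106e35160c72c5f4d9f03a6daa115fe1d53dc229324b77b8bbfc709d5dd7f7f2e411bccb16abf71c737c88043a8846f9acf0cea49760f9c60a5010d392565707573e3c8d8510f6c7ba4dacadead18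a03ee3a97fb6f1b3c365dc35b6002eb8955b1d3de11539509223753104f18eeeaed81a45a1f68224c164488ed424c56c165d0b3d9a3799c56ed8d961b3568dff0f382a129b3d80c114b00c46b8c4054f642f26bf5f6d9270942c2c91b3916eab356bc77b0186e58b15c03e0728cbc513c590fa6e2bafc2d3c8fdbe25891f286ed99847defb5557a55da5c0a2ee0c0643227f7f54e06a8e5c3134f4da036cff71e9692144f58a4534c1d2714c342e226f5640b75653496e1b894faf9a33996b009d5c65af0897e195e6fede5212df114af166fca892de2a91559bf464b6274be139d116b7e9945df849ede3203bd90d5739d05bda14894ed29fb355ef952a5fd611adb43e114998ce162ec6c3dda234df19019c28209019ca4e28ce0c0b0b718de8ee23f26083d97bd28de3461ba75b4da3d7f15ad40930486f34db45b8c6cd51201b994125984ebc254dba46a178079b4ec73abf210ba3822611f84f419ed7c23ab476fe1080beacac1ec52d500768ca29b599da7f03cc9b9fc4dd991f4999b44fe999e252c13c3da22148ed762efa4243c3b753f3aab3d8427b7043f388bfeebbf7b93619ab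6d507b7f4b9ebd987886b8653145269fafad7970ed0234e5b0926fffd1c71e77b4f08a5e8f86658a939ca691f7acb3a5772b0bcf6f5fe8f48923b3bb9580021e170b80aba1ebc585ed43b90dcbff7309b640b26322840400534b6e5a365171730ba8790f76d248668097a74dbba6033e09013da5217ce7892920ef09748b9019bfd0f552fca4082b25f773320f4bbfd1ad6e24a23ed149cf8a18b07f9bc5b5f750d48f4b4728b33d5a89c10e16e630e128b67eff3be9a1fa70cf185af1661730ff16765d2a3fc99638e377b58d15a163788aec8d61c81a33df36cb1067c05636bb36b757c8cfe2f37c8b0f3ab9d40855360f8e00ee4c9d1d2b36760a48275245ffb1120e5e37332a1409a8e10a2a4d1dd33972a090ff93d6e4819283178dfe83b865fe761961993f2e27997f42ddad0f0705352e6f4162ee3db0f3362ca5133d800749fa36bec6fcfc459ff7d0bb8e3849c4762da9e98222d7d6bdcb78ec6e5945b2c058f45c800721dd18ea76df38e45968745e933eb528183d203df18770d722ef56709ed8bd3ca0214e27bbbbb41db57dfee72c6c120b37ce897e7e271f967f000b0fdd69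f40db6906391d3368ad4f1b711b5d50f397c7644e474e535b19fede1e46813711024a49040b188b4db455133c1ae471c36301856cbb356f5f11396cfd6261e6962e3ef7f4653da958b37a7301ce3bf3b656fbad5d502338ea4faea5513b0facdf46adcb75760e500515d34cd59a554dc0f923f297cf4ab2fb2b1c7c1493c4d2805a7898c3fa779de148b08ea90a15a3d618bd20482fe88add3968b7eda39e6a4cc60bd7a9733c54b2127b32da561a7dd335d0c888f2105dd5dc75b636bc6a072b3ad6be99f92b3bf00570efb2b21f7ed580229220b4fb927d17cdab8756ef05fbf00e3d8a7e6becdcf63d63b769c8a14a92b82eff8682c241fa93b718e445127c2106e4664e66505f2703b53236e15027b3220c64c8d771f966c3a174140ad6568a05f55ffbc2e8da21f76b81173bd8c5459e9d975fa6762ac730c6ad20538b466035fe7061f5fa05c9219331b952ad7a435e56435e6c401b720936aea30c5fe9864f99927f55b0b016ac858205c44e0757f3d1b8b80697214c6a8deb7932a8b9dbd271236a6500193e34c79c22e75a354faeecf4282b4c2ff5b45a80156cd47686ea8ae3859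d109bc928c4596132f3dc26320942d10c10936e0de7baf18900fa8e4b90756d82cfb59f2d02a9b1bc7a6c19a6726165b15c50defc2561fd60b0aa6bdcd07aee348c355134972060610f2b68e294fa1dbe11e8030a33c7d983badc4a1278657f0b6eeeab3823ddaada63171d603d16d94873e1049d5dfae02eaed7094d63abe0e9e94adc3b92d7a2c59acd8f1d78b08da7b2c0c1febc640728cc927912de9e182605589b64133c975f241463e45ab85d02acd69bb3ea848734200ba55b9743ed7ede9b9d9ee58b35d7c7374759bc9024a3a26bbe806a488415283308b1b360669ffe9278cfa402429d957c6279942d1c8929dc49e6ed23ae49f0075551621a4e9eed331475cef5095fa34c0b4995e7c2883cb26e36b5ba9bfeba6ab75e770c430fbaf2124406fe4dc15b5a2a860e9e48db1a98831ee9811f5ea5b021f95db6c4ba76fa1eca57f6921218ddef2fe20d2e2bf29de53d1c2fdeb790d5790166cb2c115cc8c19869a87ceb614828254b1173513b432777b7bcbe2bfcb8b5584b64716ae7a0afcc7505df44dfc4a1a959cd2b87b5513239a246fe7b796093d7d3e16cce1b34743481d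c3c37e4401d5e56078e9ce18e0cc840312c75ab82961d3f93c727962808235bce190a50c0c85124ce138581c9e9f0e77224b551c1117f11eb623d34bce34d450011a05d27839d32085318d073843d78515b0ca909e231e7cbb23aaf77dd2221d66e95ad39214c9f1802f529ab96050ad95dbc8398a7886d67f9fd401b65bcef4edaaf63402d9a27b841da46170f307edf4168b5b9b61489ee328aa5e9b9ac5058dca3147676f821879af3d0b878cc9dc7bf29fbc3ba57e4c578846e4a1d895dbc503e8920888b33ee430738bab56bfa3c46e6a580732ba6a6d4de4e4e7ab8ebb33470cc4146bc35e6c972fc4477417fb52a261214505db7d7454f522091d94889e986154c0887f97c112a466e5a5cfa2b3a913d4ad47a40758ea360e1f75017876fc91042c763376403790834b41d96d8153d1c866a3dc9463a83475a2ceec1c55fa9aa0fb32fd2c7fef09989638708df1258db6e7f7e9a555d4e2b222f93dd219e026b1e268eff61b88169f1fee3ebf06708cd8a4696503afb068306ceb50a08dcb19242a112018776dc7770efbf1ca05e62dbf59a9c89a1ba42b131fa399b09083665efd46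57b1a61e0864907f50cb3580baf05a0a237f750f7c4e468ed95fb4fbb36ad988a1cce63a1dd03b6942b7f0499e648ae4a23f9330fb77b3ec2789655ff93e795cbfcf36108708ad882bd0721342644bc467dfad26c0370d1a8e9f5244327f14f9821de07ac95380e43295d9124527b56c6980270acbcc8de13a220017f12be2061d64663d381682bf5c80e7783fee7fc137d5ae8583db381ff4e40b38043d13e9f37711b3effa92b7eea8c1c3e741767599a3ff276ea56b59e7ea89495491ff4629dd045c335d46cc05f5bdc4899c342f98691d05420e2b00061adac4359d9c43766005006142a62d61c25cd58b169440b97f103d6b9759a9f87e28b4f358e3c4401ea82e87e4b7c3626df1d6390b0eecf9b4c3a0723ebf5df6994452f5d6b558d7e7d6726d16e9e14cdc48e1f31db17b4382dcf6dc35b42f8b22ea918ef0134ae6b7940643359263763d106624516340030a0673943dafdeb338a061ed0fa09a7d7208b0b3ba8b6bb76fbdc5a87f4f8fe08607c7140d5b716156b755ed9606fc7ee2bd9c0290200dd17dd5f5ff9e28e7940589e899af6cec46a3d4d13e13f0ad72f2bc01ac77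d5eb1096078fcf6524c9729add1db87591b9d0fa43e6e091d0df14f948b830cc4d65b520c38b2ef930558eed2a40907f8e080a3aacb8ed767b8515108b84e71413d9fdd8b86b51a821a631357e4ff48f3c428ec8dc5cd6dd562adc2a392fce9b663fb5be07dcd065766acbd5cdf3e0afee50e9a48244b3d318766705babdb332fcbe8e1b6823178fedb1f47a8c88c352646f16555f4a4e14cf62db28c97c7eda24e116275f2535657b6f23fd9f9444046b8d0bb2b3f86c7501f1b33f2361cbb0e8fc8904bd7955c91affbe1a40ad126e3d377d67fee170eb308b87cf0c25d16ea927e54c258868ea02202d09142bcab5b1a16901f5ef861d8828e73f73aaf565dba5f1afa7a2340da0d533ba2758312643f7a502a8928a5bc71c028bb1a189b5acf9fb84c0c204001130057a8878f7e8bfc3a22be02a7f968b75b63cbcb29b34931c36cc791966cf7bbfd3fa6c85443fed48efa7e232bebfc38c6f1c3e55cff794f069aebe409caa2dcf4fbf20c9dd69ef3fac59a248c85b15ca4e39d7bceaf863e73065132fd13c50c2c19674c79af0187e540e9f9427370a2158d5e6d89d78a28ed9695fd1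90aaba7e4bb44df5c6d62c950ad2a18767b9957df34de4da257a596993e68f5454cb71c7c306c2b13ff7133bacd84b88a4e25d1b3d0705f225bcd2e50715fb6cd1ac209e1162131a5769331e40840f9b36ee5159e3a123886b2332f815615f1ddb603a134c19f6778676aa1aee72d6449e33b9e9e64f224d4f9d0d58f318c2a2b9436064311e68bf6ff4dd2c261e72bac1929f4d06badf5268f502f105ebb1127e51305be4ac0525f76d0567d841714c574331a8afcff73ff9332356c4ebba83fe938a2bcb62aa5fded224f1e8872a77e978be9eb608ab3d4d5f0118f52f75893fdc3e98682b5770bd77d6bbdda3fd6530d0875d8d51a780d09f8e1efbb46d7b37564948c9d90539a74c4e24602050b346913eb10f55d2f3a3e4bfdbc352a74bf2d26031813f3b02a9e4c26d698b05012f1f71a7f5b38a67ba02aa1d680e2256ef850b40219a1bc77ba98c52d503daac16db3e87008b946e13e9e33cc7eddc6ffc2649ed7b33af854414647287e6e3b4ee35c0cf9bbcb29d103cdca951434e3a517aeccec0ec02acad12ba108638288dfd3f1f4394e4ebf6ba3f07723fa3f5b90b1f86427415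07a13e9780ed7ded2680210d13d58f580281f5f75c2fb7a328187e397825fbf0e3367fc5fe9ae18a1c9b6e1997c4cecf835207bde9aa4e0300fedbce53e5545024d8c9100f219d2c688c85a826e6853ea2d451f09cf2baab0c4ef87a936157c1f346307232b24684da3bee3b8a8f99748f4498ef2cf5e2d36bc33b99f7d5188f25d3015e3a7aa6d7bcadd1eaafb27dfd4e35c07f3b1bbb9941ae5997eef94fbb2776bd9178c53a9a3de0a88263636a510a887e6022ad365dc500b53813ab033dcf639c0b51d2fd0d11bc3c715d391ce051b53e658a1ef245bd5ae243e8bb2ea58c11285c9d7d74a1be11e4717808137c6a46efdd76be893ba9c811ff96ee599c3770127b55b3a115029794a36803545399497aa95711619d9c6263253dac989a5c6195cce29cc4f059b36014ed38208af9ff5751e19bd60624620bfe158abbbbf132b3e830be394c8b52c8229ae48c205f8146f9306db6120a63f64aa74bd7b8b24f7de567f819922a8c47889f270b08f629b87e3982b174a51c26abbfe48a39a71814bdb4745c71d7597eb71190796f922fb9bf9f9fe0c593bd47fcfbdd75a0c9bd7a2d1380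0a81c7a9421178ff7e8b7826643b176e94cc69fc999c4de8d46d8958dcec1660cc28a6fb39be3bf54925068c44e6d0d49990ededa3b0562ac6756d681f6bdef9fd32bb2ca02b0c0c67d2445d9cc218fd0db69d92019b0224313796ff0a4863e82b488ae578cb43dce0009e8f3d382f5f41ca9eb032d7a03484dd9f49dd0ccdad6ecf520827bc716397fcc17e577531d89f0193e8a0ac094e7eb34bac778a5377a950a35653b39f26ccfec556275585d8460ba128686dbdf18ac835593ae14db5548ce5f41033f11911b08bdc59d59e890f48bf58168c220f66d1e2ce359bc0f1e9de6e309098604da945913ca987b4f491e90bdaeff7ba4ad8bad9485670c47fa530acac4cef4d1d1332e653b0b2c70dc93449e2d40f95ad56b1a2d505ced148099cf6c2dceb29dd1fd4791b17a31947d0cbf7a805808351c5a03445a6a4d5874dc4711257ed17a6b8f9f2184e98a8e5db93066fd2fb562d5d7ba7eb9328570e5c0b20ba65fbd8d513f40806013c47e242c7946dda0f9d5597b9bd6439bdc049019eef3354991c3f1d4e22d4ce810694b872b73abc5aab8872b4526e6655f0c6a669d305aa9d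cbfc2ec0740f19e3a2098b746c5549fafa30911b70875494846b9e55df33bdd2be8458aa5968c2bfb12354d20056ffed1ed483691ee6ecc33a8940f1bf6fe461982716645f1334ca26e8818aa91e597d57a7019b089509fd37d4a66b127ee7b1476fbdbe6998a0cac59b3d30e944ae96d13d6667f216ad4b73fa0aac59c6d71e3bb3c635e7d549e806d191e211b46bbe342bd0c59f67481cba3fc37449841f8376567140dda7c864738fcd4302c976c93f99b48247bb02d715462d43269b6d276f3dcf6083d95481045f6866bad43e53c4295c3cf5f6fbd9de20139891bd2e3d83324edec18a4c77bb92361b6780cc72483fb3702ad9c70266b820729ed8d8b43dc077e168b19e22cc46995a275897e9623d0477af094dc55f6f138247e75c526da89b9289a74dfa1cade3fbffe45b6058998f)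
noncomputable def HW1t : ℕ := (nat_lit 0x1a8a3404a8f8ad3f4a9fe0a12195aaee6071a936de00252f5ebadbe65f394ec6a67c993d960da41f139d894c07fa26ad316dbbc46416996edbe1d2726c810fedf17f0bcdf243d85c51b64f21dd2dce36e413be365e6c75c0734cb14156106d9c69e789cf2a9ef504f8931b5f1acbe67a1a04817d06dafd75bdce0da47dcded749e156683841abb604b0dfa62bc5869143a6a10825af8cc5b73ac9072ad62aade7445501dee53d15217540eb261a52dc96b8098b6fb7c3389d981db96e3d3be0b02234dab4a051a341f0b7a7fc76ba3d876ddbff6e3e9c7cdd3f312a450c0417425fbb216a48f17e000874a747b24c7240a12e172653d7329ac15b40cf0f36b49f9f5bbd188d79e8fba8dae064daf0d48efc99048b0b217efb32fab3d681398fa517349bd38b052852a51ac5366f7c5248b8ad0802451210b80c438bcf5c08b063049170dc66027ec0d04f4ae08a6e61a02387d2389fb0f679d518a4f951cceccc861fde66d94caa6a418616386a90c0e3179f70b27be2f8ae6165c2a8c638d6163fcc08599db82f74608ef8e23b2d021b3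ea5b7df330a0b2064a86f6ae55de51d7ad45998f407fa692f0f87714c138f7b3ad503153a01f51e713efb3cf6a86b40b4b4294ea2f1600c1fc072f07009ebaa6da68341f8e49db8bf2aa2789e4681af6bea350997ab3b083666c48690083ee1dbc7f4fe1d37aae8a8c6321cbce9dcdc346fd9369560addd6e936a785f0058de554af8d8e6ff7ba7255531fa04bace8b56758b27017c81908add03dc66cf7e04a028ecfe1a3b9436050674d51f331f038ed0478510978b2a8e43f0166e05d032c66c26169404d12585e3a072260fbb8a2a58a3dca6d8560a13331ade6d8cfa2ccbbd760915fd9913036d81b883f045b78730d707c130cdd0d8d6d7e7328fbf6664218d088f247cd015b42a1f06e7a4025f1f6ae3fa197b32dcd903e2a3f074678e549f5edc608cdede96346e3b6b0db378adde8699196d1af95ace45cc84aea2c62d1d4f9f7b2788812414083fc2c139a913ca806ceaae18c7edf63069027c9f3dc802df06defdc7efaa8f2b0abb4a4bfa8452047c60f799934b433abb9088a14970796bc4b45065b080c008067dd9d711fb973a6cad1373c4ecab84e700cd1c79a5b85ba3b8c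608efaaf7571dfe71c2d0b0bee9705dac6d96f3eb8f360bc18da3effb0f45b29a024bd31bbc83fb23e6876d446d8daf31d02fae3b147073b8027a853f823278ed47b9e6e738454f41a26c5fe5d8b82d61760f957950a0bc3165a32ca3ba05c3c04e1f576cfcc09bd9993f9afa0bc12914036ca80592b8ed7fc6bfd6cce414cbf410577aaebe1fa49ab1cb6bd2730709ea283cac3196fe253afbaa77bdcf863a49cd1ef4c29d23843dd37071f0d5d8a55d8c2724904ef4a1eedab954937442914e48cc1e4ffb04a94f3f0ec7b1accc33bf9b4224c2bee39098ec79bbc83b23dd7b476fd2c2fc6debc8084712517e4f292a5e7b82c6cc100bec776941782ac89deb3598063e20243e7918862ac348d7d471eb7bf9903b6e39deaf6c5953150014df1a5c32785f2d4405cdaa19acd1ed2a9b0f5600367c387eb7c7174228910d4ca74865b9f9664d9c0ad65322f34cd89a82b8a80bd3888af1402670f1f9f04222e1f5b3b15efeac27224506de2768762fd358cb31f057777f76a326e11d9e8cbda1d3087a27110ef6a8f77abeb7ffc38fb1f54492902f649784654be2e9f9b6fe0396fda3c9562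8f6bbe842c3f8c336dc642597804f5d4130a1ad07899838bfa74e5c7ba34c8e4f1fe2e63ea769d586b0003ec9d1b959945b3de80ac078b959cec116ebc74adca0511494adeb06e76ba197a3324e2da2756e5c15d6073989b96691acb7cd31cd5af87ba78c0def9d62555850a2ba627f280884ce8dbb7d6b28083459f013b3bc6e15a71b165f6eb023f84192d11f37168689c9179de6dfdb28891da6eecb6146e5a5565b29e5fb607c0a68e474ae29d7ac9eac78214463ddb3cf0f3a7186e8e1593e4fc1e42544015f1956973a667fe28920ca1490b0f12994247d00198e0f792e6e20f5199d8e22ab1eda5a5260433c4b53fac45646952e0025f69c406d91e5d5e86b961fd626c6175add0331edf311621daaf0d2a7ef3b92a81d38009fe54b67518c2f9735e3976e65f5cd5cc508a076b5ced5d4fbae17f880a8c3517281b6dcf513090f038608945c532026a5fcfdc0d841814d9c9d6d74abb32942b6d2a2bb137dff63530ae90241b3f079411a289a79bc85585eb9c744c5153a0489cb18fd81c183606f7cc9d9e0e3a2a9bec4b5532b9628471a48901caf41607426644cf0c383bbee640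25f60d8e72f8d1575a4808fd530ab9c08724a5620e0025f4d20753321cfd88460ff8f806dd2d8fe6a37eea6c7a65a518385e58fb88fb4dd8b6e746078c910988f6e3d2a22eccfaa1760d00fd644330b8eda635f35649c1d4929725d7082122ce21ca10b0454fa58a224c40f3e128319e47d8a06b3e28cbf3bc7253fcf23c1b00eeef87823d32755d1cf1c21a38108bc1990e7dd0a281bf02f168fcdd7d4fc811d893af00402b5a67b6cdc0206580e6baf083cf71caa61710e610aec70346f5cba35eac22eecb72a06f5601f36158e75b7e35a1af6836a014e34c7611e6d4df3fdc31930ad17b813729cc757ed9857a2aac537e644d5f4bc29e2bc0e977e0d636f86bb9b2208b013e75b136bea5509b1cffa792b3c9700e3bac9b3aa944cf04c497fc2c082a5d11017469810c31a2d4128d82aaddaaf184e88cc3728182ffbdda1e6f76066f4559c1f70e2e665f6dea98166683e6ef8c0c696387f971de003f299abfe1dbefc021b0b74e43400fc5d0618885d37a0e22279dc1b8d56d7947df999924b781e924f713995ea750595254e3593049908bed6a300b03430f349c30f1a15ffa00cc40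28d96861b21e4c65dac5f3323da706a9b12afda4ede6a4e2ac587aaa9df1120b0ee42294042e4980a2ed99312cc84bcb2ce917f5ab40f60e4dc224081acd5e97c3c17ea43efa400cdbbc13e482531f2c2b56ff480ced588cb73e75c10a66b240e15817f21f8edbd848c2dc7dd70f94531940ca988811059957f544087c357b58098e8f11ae5dc996d47ce30f7b091991ac1120486d70916283c42e462125c43947c46924404e1bf335394adc93efe9b3c020adf1d855d175f9c6c5e82491c2f38375faeefc6a367c7cdcb066a64ce49946aa09a622276b132658e8859addf6ca2092f4ee337425391ce83593dc5173fa7ba44a2c7b8140410d39c4bf7ef5c7a5bebcd002eca29e805495fba6c14eda75b4ca7ac1b7b7ee60bcc5b56c1512cb757fce62bdc3899f8a07a178aa97e1278298c7706d2f65bd9a303c50fc659b72be20dda2da1ef8f4fe1cc757863576695b4459fc901f947c7340e5fe270991d94c387451af4f9474b42edd70eb49a67c8976bab4751454dd86480485a62a4c036b0fa5bcaa8a42f26330136c0e70c10714de5707f910feb11a68f7aea284483a1c5d387efd070c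2931d27c62b93cde5100b0992c3bbbe21ac5e28b7cd277cef37881b3af1d6e1900919fcdc58ea703dd5e3b1c30bb2e688b8c83263cf3fae4f4b665a267f8a276837f9d115867a0b1896aa44e5d5f3fa6770a8a6d6e349a7032563dd171ef2bb1717d23cf225d029ea6d3de75796de7225f2881b46db3e6b8501ac8004f1d6a6e501f6547af63b410a2a8916a4a823a3139b572053aefd9035d62395ed20862f142f63700fbd5d08b66fdf927ccc99ea31db273a57432e998d3dc81e6fbd576129efcf98865fc58bdb07870f9af0f1344c061825edde5e120f84a7e1eb43fafe912f33a79bd4d498b9805e2363f55acf96fbf2cd8dbce4f57aa73c16f49313e1d9bb942c1197aace91aa6a17496cded5f28b00160979f992707648bbad7f778f36490491a9eab410c0c564a4871d735b7de75a6c6ec774e89c3e5d2c706e8563e1eec57468d4fa403415b69ceb4e6fb6d9ca70b93e7b033ff73a9034800f00f74ee1d97b381b96797d054012cd21cad3e68149f6cb8e42eebb522130c2f5a6d00fcf6591e1da88ee885cd3f5be6010cd985c30487c1dc06a03bdfb71fe1cce91b30fd47791bdb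f122d6a5cdc419eaad7b51b01c27d059dd2cd466458ea412eaf26fbe513dbf45b11df5065119d81b854b6f6f9f8a4802fb039f43fe63b94e325f1d4142427cc9571f74f7909f5970945bf39f2f1b343f51d4febfbbf89d1caca58e3a72495552dfaa5959537b9cf5d2d881de5853f10880ff1fb41544eebe13aa325980a4ec512355cd95d04021128aabca643e732d19003e4d014aa3fc1f573bcda59e59f15b98380f808219f459f75bf60b9fb154312697e064464e57738ee7db11b55fdb63da2853863ca2f33a5fd5269956b4d28e2f48fb5fdec913e1478bbd298677726f8056d4f02c013fb4c5b13c8f7451de7651c46046d1f4ac933f555e80ab653ad56a04c1624490e0fed0540f597ea67df2f38b0dfcda6a0fdb0b9dc8359b96489d7d01020593270a4da4d6372e449f4668d564794c36a56c0f772b8647270fe87c59f965f8d1eddbf4cf8778ba3b0c81e395e108f86a2564c878680bd26eb6d144134c2830ebf12162d57ba39d50c15435b83160cbba051258ee59523285c28be299c11d5ee9f8965cd35581a7db39c5ab4ebec721d8dfd2309aa291b73c1b987a9ecb0a631178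ae28ee07b763a9ac6289f370e52356caf469b092759254126f735f6a17ab8123a62538f78d1a94d23b0881b80317f6c84c13a498267eb5fd2c2c4783259bbb62762bb0665678658287eeecfc69683f65c2575e1e51451a76c6f1188a6aa2c5c0e7c13d3dd839debff6b11277ffc61a1bcfad0bec160bb80e5865d5a4767490f9c835a0c24a8c91ed07833461e2a4a9ad20321c9e520ec5163df0d1aa18278a716dc15d9bc93df709d45e8f63436f3fc903e42af8fabd0b9f66ce757568f7e68c968849dc01b9aa295c3cac7418b0a7694ac0d94d5b96655df9f9b4c11e065554f7fc203bf55635a7098a75d0e790ab08cf73e0091fd8c8e51c42bdd94c536606c6b15bb35fe95defd4813f9264e646906d584d46c947519ff8861889f639fdf6a06d1a4697e37fcf9287b95eee98eea895f2e376a56699d195909c8206a1d4b5f0e1d2888e152361510275e2315aab58f49a8dabc9219d651a9b54d24d9ee42686d1ce9e98c7b52269a56d627c49200ecefe0f600f38591b7c35d332f14d19a1f23b7862ba7bff0202eee7fb2741347227fe2aa39a2b0202f9e2ac2354ab8722e645b4e7f683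1ce24b9d385e3a4c82081f2b4dddfb9370272f5069cf70c0cd19ba8a35b1d92871cf67431ebfe3f9f6d08aea7f325fb70611155f8832a9f0c8753f1c34c325ec466142cfd596c396c6a91a5c5a18628a68531bfa2b7914789e3793f74a72caf439d4dc4aac6190798e1fbbb6f81b04b1e193d7e079f0730f38e85ae807ed9e5473774606e35e6a8439f333622dbdc61fcbfa0f5bb9d9db2a772945c0cf019633ef7583b3a75515ef8e5c86d79b945566682ae7bdeaabd380c60cdcdcaa17b48c57e65087296d5c0a9787e72af3da374a4a277be8d5c80e2e54036664be8c5d3749bef85c905ed76f0a252ca2474f70c374a0cfc97408a1d2df206fab385bc02254a7e28524ed2216ebd6826279cf91c3b49261814052ef16cec06c33fd343580d74660ffbf125c891a926ad13014c61339c7b8c982c1fa5a19a9719f271d4b2c8e715d1ad780007326859714c83f25b11929fbf6f84928f5f8e3215bbcf640f0dd78dcf30a46ca4e74ccbbdfe91383b09b1c6ffe1e6d2274576c748bba7a6c063995cfb2ae1f13c9463a43917307b9506c25205f8e2aacc6e424d8226819d433eac7563f44d8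7eddd38789835129e424df2dddf205d9c942e991482705ee80d07a7e4ecb26be615c71e50106ec91c512291161b0805957294852a560d4a7c15875ba315546764d5d1f6f6c635c9994813fbf7c4800393623f8272683315c8cfe06d2a1bd9aa411e7b7cdda2c923f4a054939b35dbf1a34e148d53a317d51413a0787faf7684a68140327f5fb36184408695d1821564518a3914f508e3bcc75a1299299f889c91820e5a0084e3ec3a97aa9851ff5e4b51ea7dced12d3c0317b030213596940c00a3afbf176664c55a43cf79ca64924753cbd9ef0ed866ec207f5422226144b841f3f1839af6db850d212f1fc0716bfb5d64f710dcfd4d0d163379dd410c768ff72534dc456a1b1778681a4c0c303a4357972968396731794f0aed4b03c5f1d382c10e044507ec1b1e1e817f29976316783c57c380f8b3daa85f1c0b59c3b2dbedd01965bbffc83e13174c9bc349a4ab61291c5a8175b8697269b3b8bbe47f029fa6ce7256226cacd4a25c5be4f11caa00e42f94a79e8a646c95cae805ebfa6b22148c198d3d49e7227974a1dd10d76e2dac2a3c547d0e060de52f2006fbee0e37287edbfb832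258002ede4a7e734cf71ccd12ea9a3082c6696f2bde58f01e0a1036a292c60a425c303ca89485f1f4557d6c04e9c99775c81599f9b48d4d1b372394753f598627ab0978564a38f9f608563213a864cf51c30aed7d60f527d4b7db6452d30dba2e17c80704eecee3122811a873138ea886cdefc638a9cc2d0f2bc00d6d66a677d95067a4e7c48499ffd3494e520f58bdb73855f789b4e4ae59e6d78fc27e6378797f256cb2a9b3de5094ede7d9e365d1f0395885272b4f240772aac57b3aa2b2e72bb5a370cfd5de73f64d9a6142442386ac48e8c029f33e6cc991de8e3eab8a9766c1295e49e18c843d56e0c16752b6614cb87f8303b16aac6c4501253b62191d7c0e43b7a0739b817767d0385a4742a6578754987f21f0f38589b50896dc329279910e47a05bb1e26c37bd426c3675b81d63e02130efe7630d1c340c5605259775e252c2810a5da582ab95ce9372e4b54b6fb8acf890eab310159f35782662849134cdc2c0d608409d58b7b990b5c47fc332fd9dd1ddfa075f4b06887135df6886051be7c41c86f16812ed37082303010206a62812d68b0b500f41eead5ba75822d840ed155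e3265d0d33d8ac38cee4d2b1f064bde1f8e4fa619ee29f1f9680337e35b3c0aa2d7a9062cf211791d14f1ac56a40ff634ed4d7fccd823dee10ae7f3e2c85ca0476ba1d516fd4f3687853addd8215f73698e8d7ae8971c4b42c906d77a1eec52e5689ba01be854d2a65104ff8f0a649a7a86867209bbc5c16e8c568fa116871e370ef6ee0c0027d047e444dd01952674b74fe51607cf31192e38d14ca2f74fea6e839b482f8dbca19891100e8dac0d13047616a93f939025a905c44e5a6337738dda7be64106d0162a24d2e8c56e43f3dfaa21a0ad79ba76403ba5d40a92d161ab697c988cc971dbf291974b77e1f0cacde139b3e96ae7b9ec608cd0d4709536c986dd77e370f8d57e4fa6536ab4027a92aee4c0e347ee9310859c703594ff72fcbb850b647f48ad04acf61f5a300d6454fc38cf89ee8deb97feefd585c74a34e128aa6d5e7d0064180b6f2563df90d33ad22c935d228a8d559b17f4e67c57fa16909162bf0e561a86e2029545bceb4eb043feed527fb9bb47ae9fa6a3a2a67eaad518490613d5889c3f4453475ad60d7c4e925ec0d839c3b4d6f4b12bd92e9c97ce46d6c784a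b23ce9c229b1471c982de33c7556e8ce9c959e8b218b0f4485bb585bd29681ecb9c9b61f88ee7cec782c1e1f320610004f71c48728790510cfaea015b108f19f80359f6d7a5fb8f72548ee5e19594af89ef9020df4d0dd06610b34a6dd3f1a4a3c8e58d83fa91cd6f01540b5a0319f41798ddc29c72d6ab4db4ef73aaf587da9186933a5a5c59cd3342e3f6300cf3a755be481594ce30e31d1d5b59eecf2f05586a5e22a4cbc6ff776f74efa610ad8e354e64535e905d440c41b175e8b4b48f1d57c4c6740729c297b26cb63db7aca6e5493c9b161a77f19c0291388bc3aec9e441b7c3550577fe7ce44fea796cca18c496cc3fbf868732df187b13a213619440353477aed3fc7434de2a500b446baa09e35c7ea22c066e11665d98fa74c1f764fd22ebe86e9533a6a5dfe0c049238fcebf84d)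
noncomputable def LB1 : Tr ℕ := (Tr.nd (nat_lit 87797) (Tr.nd (nat_lit 77641) (Tr.nd (nat_lit 71963) (Tr.nd (nat_lit 68687) (Tr.nd (nat_lit 67103) (Tr.nd (nat_lit 66359) (Tr.nd (nat_lit 65837) (Tr.nd (nat_lit 65647) (Tr.nd (nat_lit 65581) (Tr.nd (nat_lit 65551) (Tr.nd (nat_lit 65543) (Tr.lf (nat_lit 65539))
(Tr.lf (nat_lit 65543)))
(Tr.nd (nat_lit 65557) (Tr.lf (nat_lit 65551))
(Tr.nd (nat_lit 65563) (Tr.lf (nat_lit 65557))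
(Tr.lf (nat_lit 65563)))))
(Tr.nd (nat_lit 65617) (Tr.nd (nat_lit 65587) (Tr.lf (nat_lit 65581))
(Tr.nd (nat_lit 65599) (Tr.lf (nat_lit 65587))
(Tr.lf (nat_lit 65599))))
(Tr.nd (nat_lit 65629) (Tr.lf (nat_lit 65617))
(Tr.nd (nat_lit 65633) (Tr.lf (nat_lit 65629))
(Tr.lf (nat_lit 65633))))))
(Tr.nd (nat_lit 65713) (Tr.nd (nat_lit 65699) (Tr.nd (nat_lit 65651) (Tr.lf (nat_lit 65647))
(Tr.lf (nat_lit 65651)))
(Tr.nd (nat_lit 65701) (Tr.lf (nat_lit 65699))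
(Tr.nd (nat_lit 65707) (Tr.lf (nat_lit 65701))
(Tr.lf (nat_lit 65707)))))
(Tr.nd (nat_lit 65729) (Tr.nd (nat_lit 65717) (Tr.lf (nat_lit 65713))
(Tr.nd (nat_lit 65719) (Tr.lf (nat_lit 65717))
(Tr.lf (nat_lit 65719))))
(Tr.nd (nat_lit 65827) (Tr.lf (nat_lit 65729))
(Tr.nd (nat_lit 65831) (Tr.lf (nat_lit 65827))
(Tr.lf (nat_lit 65831)))))))
(Tr.nd (nat_lit 66067) (Tr.nd (nat_lit 65881) (Tr.nd (nat_lit 65843) (Tr.nd (nat_lit 65839) (Tr.lf (nat_lit 65837))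
(Tr.lf (nat_lit 65839)))
(Tr.nd (nat_lit 65851) (Tr.lf (nat_lit 65843))
(Tr.nd (nat_lit 65867) (Tr.lf (nat_lit 65851))
(Tr.lf (nat_lit 65867)))))
(Tr.nd (nat_lit 66037) (Tr.nd (nat_lit 65899) (Tr.lf (nat_lit 65881))
(Tr.nd (nat_lit 66029) (Tr.lf (nat_lit 65899))
(Tr.lf (nat_lit 66029))))
(Tr.nd (nat_lit 66041) (Tr.lf (nat_lit 66037))
(Tr.nd (nat_lit 66047) (Tr.lf (nat_lit 66041))
(Tr.lf (nat_lit 66047))))))
(Tr.nd (nat_lit 66107) (Tr.nd (nat_lit 66083) (Tr.nd (nat_lit 66071) (Tr.lf (nat_lit 66067))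
(Tr.lf (nat_lit 66071)))
(Tr.nd (nat_lit 66089) (Tr.lf (nat_lit 66083))
(Tr.nd (nat_lit 66103) (Tr.lf (nat_lit 66089))
(Tr.lf (nat_lit 66103)))))
(Tr.nd (nat_lit 66337) (Tr.nd (nat_lit 66137) (Tr.lf (nat_lit 66107))
(Tr.nd (nat_lit 66161) (Tr.lf (nat_lit 66137))
(Tr.lf (nat_lit 66161))))
(Tr.nd (nat_lit 66343) (Tr.lf (nat_lit 66337))
(Tr.nd (nat_lit 66347) (Tr.lf (nat_lit 66343))
(Tr.lf (nat_lit 66347))))))))
(Tr.nd (nat_lit 66739) (Tr.nd (nat_lit 66499) (Tr.nd (nat_lit 66403) (Tr.nd (nat_lit 66373) (Tr.nd (nat_lit 66361) (Tr.lf (nat_lit 66359))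
(Tr.lf (nat_lit 66361)))
(Tr.nd (nat_lit 66377) (Tr.lf (nat_lit 66373))
(Tr.nd (nat_lit 66383) (Tr.lf (nat_lit 66377))
(Tr.lf (nat_lit 66383)))))
(Tr.nd (nat_lit 66457) (Tr.nd (nat_lit 66413) (Tr.lf (nat_lit 66403))
(Tr.nd (nat_lit 66449) (Tr.lf (nat_lit 66413))
(Tr.lf (nat_lit 66449))))
(Tr.nd (nat_lit 66463) (Tr.lf (nat_lit 66457))
(Tr.nd (nat_lit 66467) (Tr.lf (nat_lit 66463))
(Tr.lf (nat_lit 66467))))))
(Tr.nd (nat_lit 66653) (Tr.nd (nat_lit 66617) (Tr.nd (nat_lit 66601) (Tr.lf (nat_lit 66499))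
(Tr.lf (nat_lit 66601)))
(Tr.nd (nat_lit 66629) (Tr.lf (nat_lit 66617))
(Tr.nd (nat_lit 66643) (Tr.lf (nat_lit 66629))
(Tr.lf (nat_lit 66643)))))
(Tr.nd (nat_lit 66701) (Tr.nd (nat_lit 66683) (Tr.lf (nat_lit 66653))
(Tr.nd (nat_lit 66697) (Tr.lf (nat_lit 66683))
(Tr.lf (nat_lit 66697))))
(Tr.nd (nat_lit 66721) (Tr.lf (nat_lit 66701))
(Tr.nd (nat_lit 66733) (Tr.lf (nat_lit 66721))
(Tr.lf (nat_lit 66733)))))))
(Tr.nd (nat_lit 66949) (Tr.nd (nat_lit 66821) (Tr.nd (nat_lit 66751) (Tr.nd (nat_lit 66749) (Tr.lf (nat_lit 66739))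
(Tr.lf (nat_lit 66749)))
(Tr.nd (nat_lit 66797) (Tr.lf (nat_lit 66751))
(Tr.nd (nat_lit 66809) (Tr.lf (nat_lit 66797))
(Tr.lf (nat_lit 66809)))))
(Tr.nd (nat_lit 66931) (Tr.nd (nat_lit 66841) (Tr.lf (nat_lit 66821))
(Tr.nd (nat_lit 66853) (Tr.lf (nat_lit 66841))
(Tr.lf (nat_lit 66853))))
(Tr.nd (nat_lit 66943) (Tr.lf (nat_lit 66931))
(Tr.nd (nat_lit 66947) (Tr.lf (nat_lit 66943))
(Tr.lf (nat_lit 66947))))))
(Tr.nd (nat_lit 67021) (Tr.nd (nat_lit 66973) (Tr.nd (nat_lit 66959) (Tr.lf (nat_lit 66949))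
(Tr.lf (nat_lit 66959)))
(Tr.nd (nat_lit 66977) (Tr.lf (nat_lit 66973))
(Tr.nd (nat_lit 67003) (Tr.lf (nat_lit 66977))
(Tr.lf (nat_lit 67003)))))
(Tr.nd (nat_lit 67061) (Tr.nd (nat_lit 67033) (Tr.lf (nat_lit 67021))
(Tr.nd (nat_lit 67057) (Tr.lf (nat_lit 67033))
(Tr.lf (nat_lit 67057))))
(Tr.nd (nat_lit 67073) (Tr.lf (nat_lit 67061))
(Tr.nd (nat_lit 67079) (Tr.lf (nat_lit 67073))
(Tr.lf (nat_lit 67079)))))))))
(Tr.nd (nat_lit 67783) (Tr.nd (nat_lit 67453) (Tr.nd (nat_lit 67289) (Tr.nd (nat_lit 67181) (Tr.nd (nat_lit 67153) (Tr.nd (nat_lit 67121) (Tr.lf (nat_lit 67103))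
(Tr.lf (nat_lit 67121)))
(Tr.nd (nat_lit 67157) (Tr.lf (nat_lit 67153))
(Tr.nd (nat_lit 67169) (Tr.lf (nat_lit 67157))
(Tr.lf (nat_lit 67169)))))
(Tr.nd (nat_lit 67261) (Tr.nd (nat_lit 67187) (Tr.lf (nat_lit 67181))
(Tr.nd (nat_lit 67211) (Tr.lf (nat_lit 67187))
(Tr.lf (nat_lit 67211))))
(Tr.nd (nat_lit 67271) (Tr.lf (nat_lit 67261))
(Tr.nd (nat_lit 67273) (Tr.lf (nat_lit 67271))
(Tr.lf (nat_lit 67273))))))
(Tr.nd (nat_lit 67369) (Tr.nd (nat_lit 67339) (Tr.nd (nat_lit 67307) (Tr.lf (nat_lit 67289))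
(Tr.lf (nat_lit 67307)))
(Tr.nd (nat_lit 67343) (Tr.lf (nat_lit 67339))
(Tr.nd (nat_lit 67349) (Tr.lf (nat_lit 67343))
(Tr.lf (nat_lit 67349)))))
(Tr.nd (nat_lit 67409) (Tr.nd (nat_lit 67391) (Tr.lf (nat_lit 67369))
(Tr.nd (nat_lit 67399) (Tr.lf (nat_lit 67391))
(Tr.lf (nat_lit 67399))))
(Tr.nd (nat_lit 67433) (Tr.lf (nat_lit 67409))
(Tr.nd (nat_lit 67447) (Tr.lf (nat_lit 67433))
(Tr.lf (nat_lit 67447)))))))
(Tr.nd (nat_lit 67619) (Tr.nd (nat_lit 67499) (Tr.nd (nat_lit 67481) (Tr.nd (nat_lit 67477) (Tr.lf (nat_lit 67453))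
(Tr.lf (nat_lit 67477)))
(Tr.nd (nat_lit 67489) (Tr.lf (nat_lit 67481))
(Tr.nd (nat_lit 67493) (Tr.lf (nat_lit 67489))
(Tr.lf (nat_lit 67493)))))
(Tr.nd (nat_lit 67577) (Tr.nd (nat_lit 67559) (Tr.lf (nat_lit 67499))
(Tr.nd (nat_lit 67567) (Tr.lf (nat_lit 67559))
(Tr.lf (nat_lit 67567))))
(Tr.nd (nat_lit 67579) (Tr.lf (nat_lit 67577))
(Tr.nd (nat_lit 67589) (Tr.lf (nat_lit 67579))
(Tr.lf (nat_lit 67589))))))
(Tr.nd (nat_lit 67741) (Tr.nd (nat_lit 67709) (Tr.nd (nat_lit 67699) (Tr.lf (nat_lit 67619))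
(Tr.lf (nat_lit 67699)))
(Tr.nd (nat_lit 67723) (Tr.lf (nat_lit 67709))
(Tr.nd (nat_lit 67733) (Tr.lf (nat_lit 67723))
(Tr.lf (nat_lit 67733)))))
(Tr.nd (nat_lit 67759) (Tr.nd (nat_lit 67751) (Tr.lf (nat_lit 67741))
(Tr.nd (nat_lit 67757) (Tr.lf (nat_lit 67751))
(Tr.lf (nat_lit 67757))))
(Tr.nd (nat_lit 67763) (Tr.lf (nat_lit 67759))
(Tr.nd (nat_lit 67777) (Tr.lf (nat_lit 67763))
(Tr.lf (nat_lit 67777))))))))
(Tr.nd (nat_lit 68239) (Tr.nd (nat_lit 67961) (Tr.nd (nat_lit 67927) (Tr.nd (nat_lit 67801) (Tr.nd (nat_lit 67789) (Tr.lf (nat_lit 67783))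
(Tr.lf (nat_lit 67789)))
(Tr.nd (nat_lit 67807) (Tr.lf (nat_lit 67801))
(Tr.nd (nat_lit 67901) (Tr.lf (nat_lit 67807))
(Tr.lf (nat_lit 67901)))))
(Tr.nd (nat_lit 67939) (Tr.nd (nat_lit 67931) (Tr.lf (nat_lit 67927))
(Tr.nd (nat_lit 67933) (Tr.lf (nat_lit 67931))
(Tr.lf (nat_lit 67933))))
(Tr.nd (nat_lit 67943) (Tr.lf (nat_lit 67939))
(Tr.nd (nat_lit 67957) (Tr.lf (nat_lit 67943))
(Tr.lf (nat_lit 67957))))))
(Tr.nd (nat_lit 68111) (Tr.nd (nat_lit 67979) (Tr.nd (nat_lit 67967) (Tr.lf (nat_lit 67961))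
(Tr.lf (nat_lit 67967)))
(Tr.nd (nat_lit 68087) (Tr.lf (nat_lit 67979))
(Tr.nd (nat_lit 68099) (Tr.lf (nat_lit 68087))
(Tr.lf (nat_lit 68099)))))
(Tr.nd (nat_lit 68147) (Tr.nd (nat_lit 68113) (Tr.lf (nat_lit 68111))
(Tr.nd (nat_lit 68141) (Tr.lf (nat_lit 68113))
(Tr.lf (nat_lit 68141))))
(Tr.nd (nat_lit 68207) (Tr.lf (nat_lit 68147))
(Tr.nd (nat_lit 68227) (Tr.lf (nat_lit 68207))
(Tr.lf (nat_lit 68227)))))))
(Tr.nd (nat_lit 68443) (Tr.nd (nat_lit 68329) (Tr.nd (nat_lit 68279) (Tr.nd (nat_lit 68261) (Tr.lf (nat_lit 68239))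
(Tr.lf (nat_lit 68261)))
(Tr.nd (nat_lit 68281) (Tr.lf (nat_lit 68279))
(Tr.nd (nat_lit 68311) (Tr.lf (nat_lit 68281))
(Tr.lf (nat_lit 68311)))))
(Tr.nd (nat_lit 68389) (Tr.nd (nat_lit 68351) (Tr.lf (nat_lit 68329))
(Tr.nd (nat_lit 68371) (Tr.lf (nat_lit 68351))
(Tr.lf (nat_lit 68371))))
(Tr.nd (nat_lit 68399) (Tr.lf (nat_lit 68389))
(Tr.nd (nat_lit 68437) (Tr.lf (nat_lit 68399))
(Tr.lf (nat_lit 68437))))))
(Tr.nd (nat_lit 68611) (Tr.nd (nat_lit 68449) (Tr.nd (nat_lit 68447) (Tr.lf (nat_lit 68443))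
(Tr.lf (nat_lit 68447)))
(Tr.nd (nat_lit 68473) (Tr.lf (nat_lit 68449))
(Tr.nd (nat_lit 68477) (Tr.lf (nat_lit 68473))
(Tr.lf (nat_lit 68477)))))
(Tr.nd (nat_lit 68659) (Tr.nd (nat_lit 68633) (Tr.lf (nat_lit 68611))
(Tr.nd (nat_lit 68639) (Tr.lf (nat_lit 68633))
(Tr.lf (nat_lit 68639))))
(Tr.nd (nat_lit 68669) (Tr.lf (nat_lit 68659))
(Tr.nd (nat_lit 68683) (Tr.lf (nat_lit 68669))
(Tr.lf (nat_lit 68683))))))))))
(Tr.nd (nat_lit 70241) (Tr.nd (nat_lit 69499) (Tr.nd (nat_lit 69109) (Tr.nd (nat_lit 68899) (Tr.nd (nat_lit 68737) (Tr.nd (nat_lit 68711) (Tr.nd (nat_lit 68699) (Tr.lf (nat_lit 68687))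
(Tr.lf (nat_lit 68699)))
(Tr.nd (nat_lit 68713) (Tr.lf (nat_lit 68711))
(Tr.nd (nat_lit 68729) (Tr.lf (nat_lit 68713))
(Tr.lf (nat_lit 68729)))))
(Tr.nd (nat_lit 68881) (Tr.nd (nat_lit 68743) (Tr.lf (nat_lit 68737))
(Tr.nd (nat_lit 68879) (Tr.lf (nat_lit 68743))
(Tr.lf (nat_lit 68879))))
(Tr.nd (nat_lit 68891) (Tr.lf (nat_lit 68881))
(Tr.nd (nat_lit 68897) (Tr.lf (nat_lit 68891))
(Tr.lf (nat_lit 68897))))))
(Tr.nd (nat_lit 69019) (Tr.nd (nat_lit 68909) (Tr.nd (nat_lit 68903) (Tr.lf (nat_lit 68899))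
(Tr.lf (nat_lit 68903)))
(Tr.nd (nat_lit 68917) (Tr.lf (nat_lit 68909))
(Tr.nd (nat_lit 69011) (Tr.lf (nat_lit 68917))
(Tr.lf (nat_lit 69011)))))
(Tr.nd (nat_lit 69061) (Tr.nd (nat_lit 69029) (Tr.lf (nat_lit 69019))
(Tr.nd (nat_lit 69031) (Tr.lf (nat_lit 69029))
(Tr.lf (nat_lit 69031))))
(Tr.nd (nat_lit 69067) (Tr.lf (nat_lit 69061))
(Tr.nd (nat_lit 69073) (Tr.lf (nat_lit 69067))
(Tr.lf (nat_lit 69073)))))))
(Tr.nd (nat_lit 69221) (Tr.nd (nat_lit 69151) (Tr.nd (nat_lit 69127) (Tr.nd (nat_lit 69119) (Tr.lf (nat_lit 69109))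
(Tr.lf (nat_lit 69119)))
(Tr.nd (nat_lit 69143) (Tr.lf (nat_lit 69127))
(Tr.nd (nat_lit 69149) (Tr.lf (nat_lit 69143))
(Tr.lf (nat_lit 69149)))))
(Tr.nd (nat_lit 69193) (Tr.nd (nat_lit 69163) (Tr.lf (nat_lit 69151))
(Tr.nd (nat_lit 69191) (Tr.lf (nat_lit 69163))
(Tr.lf (nat_lit 69191))))
(Tr.nd (nat_lit 69197) (Tr.lf (nat_lit 69193))
(Tr.nd (nat_lit 69203) (Tr.lf (nat_lit 69197))
(Tr.lf (nat_lit 69203))))))
(Tr.nd (nat_lit 69467) (Tr.nd (nat_lit 69239) (Tr.nd (nat_lit 69233) (Tr.lf (nat_lit 69221))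
(Tr.lf (nat_lit 69233)))
(Tr.nd (nat_lit 69247) (Tr.lf (nat_lit 69239))
(Tr.nd (nat_lit 69463) (Tr.lf (nat_lit 69247))
(Tr.lf (nat_lit 69463)))))
(Tr.nd (nat_lit 69491) (Tr.nd (nat_lit 69473) (Tr.lf (nat_lit 69467))
(Tr.nd (nat_lit 69481) (Tr.lf (nat_lit 69473))
(Tr.lf (nat_lit 69481))))
(Tr.nd (nat_lit 69493) (Tr.lf (nat_lit 69491))
(Tr.nd (nat_lit 69497) (Tr.lf (nat_lit 69493))
(Tr.lf (nat_lit 69497))))))))
(Tr.nd (nat_lit 70051) (Tr.nd (nat_lit 69857) (Tr.nd (nat_lit 69653) (Tr.nd (nat_lit 69557) (Tr.nd (nat_lit 69539) (Tr.lf (nat_lit 69499))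
(Tr.lf (nat_lit 69539)))
(Tr.nd (nat_lit 69593) (Tr.lf (nat_lit 69557))
(Tr.nd (nat_lit 69623) (Tr.lf (nat_lit 69593))
(Tr.lf (nat_lit 69623)))))
(Tr.nd (nat_lit 69691) (Tr.nd (nat_lit 69661) (Tr.lf (nat_lit 69653))
(Tr.nd (nat_lit 69677) (Tr.lf (nat_lit 69661))
(Tr.lf (nat_lit 69677))))
(Tr.nd (nat_lit 69697) (Tr.lf (nat_lit 69691))
(Tr.nd (nat_lit 69809) (Tr.lf (nat_lit 69697))
(Tr.lf (nat_lit 69809))))))
(Tr.nd (nat_lit 69929) (Tr.nd (nat_lit 69877) (Tr.nd (nat_lit 69859) (Tr.lf (nat_lit 69857))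
(Tr.lf (nat_lit 69859)))
(Tr.nd (nat_lit 69899) (Tr.lf (nat_lit 69877))
(Tr.nd (nat_lit 69911) (Tr.lf (nat_lit 69899))
(Tr.lf (nat_lit 69911)))))
(Tr.nd (nat_lit 69959) (Tr.nd (nat_lit 69931) (Tr.lf (nat_lit 69929))
(Tr.nd (nat_lit 69941) (Tr.lf (nat_lit 69931))
(Tr.lf (nat_lit 69941))))
(Tr.nd (nat_lit 70019) (Tr.lf (nat_lit 69959))
(Tr.nd (nat_lit 70039) (Tr.lf (nat_lit 70019))
(Tr.lf (nat_lit 70039)))))))
(Tr.nd (nat_lit 70157) (Tr.nd (nat_lit 70111) (Tr.nd (nat_lit 70067) (Tr.nd (nat_lit 70061) (Tr.lf (nat_lit 70051))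
(Tr.lf (nat_lit 70061)))
(Tr.nd (nat_lit 70079) (Tr.lf (nat_lit 70067))
(Tr.nd (nat_lit 70099) (Tr.lf (nat_lit 70079))
(Tr.lf (nat_lit 70099)))))
(Tr.nd (nat_lit 70123) (Tr.nd (nat_lit 70117) (Tr.lf (nat_lit 70111))
(Tr.nd (nat_lit 70121) (Tr.lf (nat_lit 70117))
(Tr.lf (nat_lit 70121))))
(Tr.nd (nat_lit 70139) (Tr.lf (nat_lit 70123))
(Tr.nd (nat_lit 70141) (Tr.lf (nat_lit 70139))
(Tr.lf (nat_lit 70141))))))
(Tr.nd (nat_lit 70199) (Tr.nd (nat_lit 70177) (Tr.nd (nat_lit 70163) (Tr.lf (nat_lit 70157))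
(Tr.lf (nat_lit 70163)))
(Tr.nd (nat_lit 70181) (Tr.lf (nat_lit 70177))
(Tr.nd (nat_lit 70183) (Tr.lf (nat_lit 70181))
(Tr.lf (nat_lit 70183)))))
(Tr.nd (nat_lit 70223) (Tr.nd (nat_lit 70201) (Tr.lf (nat_lit 70199))
(Tr.nd (nat_lit 70207) (Tr.lf (nat_lit 70201))
(Tr.lf (nat_lit 70207))))
(Tr.nd (nat_lit 70229) (Tr.lf (nat_lit 70223))
(Tr.nd (nat_lit 70237) (Tr.lf (nat_lit 70229))
(Tr.lf (nat_lit 70237)))))))))
(Tr.nd (nat_lit 71209) (Tr.nd (nat_lit 70793) (Tr.nd (nat_lit 70639) (Tr.nd (nat_lit 70583) (Tr.nd (nat_lit 70271) (Tr.nd (nat_lit 70249) (Tr.lf (nat_lit 70241))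
(Tr.lf (nat_lit 70249)))
(Tr.nd (nat_lit 70289) (Tr.lf (nat_lit 70271))
(Tr.nd (nat_lit 70507) (Tr.lf (nat_lit 70289))
(Tr.lf (nat_lit 70507)))))
(Tr.nd (nat_lit 70619) (Tr.nd (nat_lit 70589) (Tr.lf (nat_lit 70583))
(Tr.nd (nat_lit 70607) (Tr.lf (nat_lit 70589))
(Tr.lf (nat_lit 70607))))
(Tr.nd (nat_lit 70621) (Tr.lf (nat_lit 70619))
(Tr.nd (nat_lit 70627) (Tr.lf (nat_lit 70621))
(Tr.lf (nat_lit 70627))))))
(Tr.nd (nat_lit 70709) (Tr.nd (nat_lit 70663) (Tr.nd (nat_lit 70657) (Tr.lf (nat_lit 70639))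
(Tr.lf (nat_lit 70657)))
(Tr.nd (nat_lit 70667) (Tr.lf (nat_lit 70663))
(Tr.nd (nat_lit 70687) (Tr.lf (nat_lit 70667))
(Tr.lf (nat_lit 70687)))))
(Tr.nd (nat_lit 70753) (Tr.nd (nat_lit 70717) (Tr.lf (nat_lit 70709))
(Tr.nd (nat_lit 70729) (Tr.lf (nat_lit 70717))
(Tr.lf (nat_lit 70729))))
(Tr.nd (nat_lit 70769) (Tr.lf (nat_lit 70753))
(Tr.nd (nat_lit 70783) (Tr.lf (nat_lit 70769))
(Tr.lf (nat_lit 70783)))))))
(Tr.nd (nat_lit 71059) (Tr.nd (nat_lit 70921) (Tr.nd (nat_lit 70841) (Tr.nd (nat_lit 70823) (Tr.lf (nat_lit 70793))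
(Tr.lf (nat_lit 70823)))
(Tr.nd (nat_lit 70843) (Tr.lf (nat_lit 70841))
(Tr.nd (nat_lit 70849) (Tr.lf (nat_lit 70843))
(Tr.lf (nat_lit 70849)))))
(Tr.nd (nat_lit 71011) (Tr.nd (nat_lit 70951) (Tr.lf (nat_lit 70921))
(Tr.nd (nat_lit 70957) (Tr.lf (nat_lit 70951))
(Tr.lf (nat_lit 70957))))
(Tr.nd (nat_lit 71023) (Tr.lf (nat_lit 71011))
(Tr.nd (nat_lit 71039) (Tr.lf (nat_lit 71023))
(Tr.lf (nat_lit 71039))))))
(Tr.nd (nat_lit 71129) (Tr.nd (nat_lit 71081) (Tr.nd (nat_lit 71069) (Tr.lf (nat_lit 71059))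
(Tr.lf (nat_lit 71069)))
(Tr.nd (nat_lit 71089) (Tr.lf (nat_lit 71081))
(Tr.nd (nat_lit 71119) (Tr.lf (nat_lit 71089))
(Tr.lf (nat_lit 71119)))))
(Tr.nd (nat_lit 71161) (Tr.nd (nat_lit 71143) (Tr.lf (nat_lit 71129))
(Tr.nd (nat_lit 71147) (Tr.lf (nat_lit 71143))
(Tr.lf (nat_lit 71147))))
(Tr.nd (nat_lit 71171) (Tr.lf (nat_lit 71161))
(Tr.nd (nat_lit 71191) (Tr.lf (nat_lit 71171))
(Tr.lf (nat_lit 71191))))))))
(Tr.nd (nat_lit 71411) (Tr.nd (nat_lit 71329) (Tr.nd (nat_lit 71261) (Tr.nd (nat_lit 71237) (Tr.nd (nat_lit 71233) (Tr.lf (nat_lit 71209))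
(Tr.lf (nat_lit 71233)))
(Tr.nd (nat_lit 71249) (Tr.lf (nat_lit 71237))
(Tr.nd (nat_lit 71257) (Tr.lf (nat_lit 71249))
(Tr.lf (nat_lit 71257)))))
(Tr.nd (nat_lit 71293) (Tr.nd (nat_lit 71263) (Tr.lf (nat_lit 71261))
(Tr.nd (nat_lit 71287) (Tr.lf (nat_lit 71263))
(Tr.lf (nat_lit 71287))))
(Tr.nd (nat_lit 71317) (Tr.lf (nat_lit 71293))
(Tr.nd (nat_lit 71327) (Tr.lf (nat_lit 71317))
(Tr.lf (nat_lit 71327))))))
(Tr.nd (nat_lit 71353) (Tr.nd (nat_lit 71339) (Tr.nd (nat_lit 71333) (Tr.lf (nat_lit 71329))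
(Tr.lf (nat_lit 71333)))
(Tr.nd (nat_lit 71341) (Tr.lf (nat_lit 71339))
(Tr.nd (nat_lit 71347) (Tr.lf (nat_lit 71341))
(Tr.lf (nat_lit 71347)))))
(Tr.nd (nat_lit 71387) (Tr.nd (nat_lit 71359) (Tr.lf (nat_lit 71353))
(Tr.nd (nat_lit 71363) (Tr.lf (nat_lit 71359))
(Tr.lf (nat_lit 71363))))
(Tr.nd (nat_lit 71389) (Tr.lf (nat_lit 71387))
(Tr.nd (nat_lit 71399) (Tr.lf (nat_lit 71389))
(Tr.lf (nat_lit 71399)))))))
(Tr.nd (nat_lit 71777) (Tr.nd (nat_lit 71443) (Tr.nd (nat_lit 71419) (Tr.nd (nat_lit 71413) (Tr.lf (nat_lit 71411))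
(Tr.lf (nat_lit 71413)))
(Tr.nd (nat_lit 71429) (Tr.lf (nat_lit 71419))
(Tr.nd (nat_lit 71437) (Tr.lf (nat_lit 71429))
(Tr.lf (nat_lit 71437)))))
(Tr.nd (nat_lit 71473) (Tr.nd (nat_lit 71453) (Tr.lf (nat_lit 71443))
(Tr.nd (nat_lit 71471) (Tr.lf (nat_lit 71453))
(Tr.lf (nat_lit 71471))))
(Tr.nd (nat_lit 71479) (Tr.lf (nat_lit 71473))
(Tr.nd (nat_lit 71719) (Tr.lf (nat_lit 71479))
(Tr.lf (nat_lit 71719))))))
(Tr.nd (nat_lit 71899) (Tr.nd (nat_lit 71821) (Tr.nd (nat_lit 71809) (Tr.lf (nat_lit 71777))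
(Tr.lf (nat_lit 71809)))
(Tr.nd (nat_lit 71881) (Tr.lf (nat_lit 71821))
(Tr.nd (nat_lit 71887) (Tr.lf (nat_lit 71881))
(Tr.lf (nat_lit 71887)))))
(Tr.nd (nat_lit 71933) (Tr.nd (nat_lit 71909) (Tr.lf (nat_lit 71899))
(Tr.nd (nat_lit 71917) (Tr.lf (nat_lit 71909))
(Tr.lf (nat_lit 71917))))
(Tr.nd (nat_lit 71941) (Tr.lf (nat_lit 71933))
(Tr.nd (nat_lit 71947) (Tr.lf (nat_lit 71941))
(Tr.lf (nat_lit 71947)))))))))))
(Tr.nd (nat_lit 74653) (Tr.nd (nat_lit 73471) (Tr.nd (nat_lit 72647) (Tr.nd (nat_lit 72229) (Tr.nd (nat_lit 72073) (Tr.nd (nat_lit 71999) (Tr.nd (nat_lit 71983) (Tr.nd (nat_lit 71971) (Tr.lf (nat_lit 71963))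
(Tr.lf (nat_lit 71971)))
(Tr.nd (nat_lit 71987) (Tr.lf (nat_lit 71983))
(Tr.nd (nat_lit 71993) (Tr.lf (nat_lit 71987))
(Tr.lf (nat_lit 71993)))))
(Tr.nd (nat_lit 72043) (Tr.nd (nat_lit 72019) (Tr.lf (nat_lit 71999))
(Tr.nd (nat_lit 72031) (Tr.lf (nat_lit 72019))
(Tr.lf (nat_lit 72031))))
(Tr.nd (nat_lit 72047) (Tr.lf (nat_lit 72043))
(Tr.nd (nat_lit 72053) (Tr.lf (nat_lit 72047))
(Tr.lf (nat_lit 72053))))))
(Tr.nd (nat_lit 72103) (Tr.nd (nat_lit 72089) (Tr.nd (nat_lit 72077) (Tr.lf (nat_lit 72073))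
(Tr.lf (nat_lit 72077)))
(Tr.nd (nat_lit 72091) (Tr.lf (nat_lit 72089))
(Tr.nd (nat_lit 72101) (Tr.lf (nat_lit 72091))
(Tr.lf (nat_lit 72101)))))
(Tr.nd (nat_lit 72161) (Tr.nd (nat_lit 72109) (Tr.lf (nat_lit 72103))
(Tr.nd (nat_lit 72139) (Tr.lf (nat_lit 72109))
(Tr.lf (nat_lit 72139))))
(Tr.nd (nat_lit 72167) (Tr.lf (nat_lit 72161))
(Tr.nd (nat_lit 72221) (Tr.lf (nat_lit 72167))
(Tr.lf (nat_lit 72221)))))))
(Tr.nd (nat_lit 72481) (Tr.nd (nat_lit 72341) (Tr.nd (nat_lit 72271) (Tr.nd (nat_lit 72269) (Tr.lf (nat_lit 72229))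
(Tr.lf (nat_lit 72269)))
(Tr.nd (nat_lit 72313) (Tr.lf (nat_lit 72271))
(Tr.nd (nat_lit 72337) (Tr.lf (nat_lit 72313))
(Tr.lf (nat_lit 72337)))))
(Tr.nd (nat_lit 72461) (Tr.nd (nat_lit 72421) (Tr.lf (nat_lit 72341))
(Tr.nd (nat_lit 72431) (Tr.lf (nat_lit 72421))
(Tr.lf (nat_lit 72431))))
(Tr.nd (nat_lit 72467) (Tr.lf (nat_lit 72461))
(Tr.nd (nat_lit 72469) (Tr.lf (nat_lit 72467))
(Tr.lf (nat_lit 72469))))))
(Tr.nd (nat_lit 72547) (Tr.nd (nat_lit 72497) (Tr.nd (nat_lit 72493) (Tr.lf (nat_lit 72481))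
(Tr.lf (nat_lit 72493)))
(Tr.nd (nat_lit 72503) (Tr.lf (nat_lit 72497))
(Tr.nd (nat_lit 72533) (Tr.lf (nat_lit 72503))
(Tr.lf (nat_lit 72533)))))
(Tr.nd (nat_lit 72577) (Tr.nd (nat_lit 72551) (Tr.lf (nat_lit 72547))
(Tr.nd (nat_lit 72559) (Tr.lf (nat_lit 72551))
(Tr.lf (nat_lit 72559))))
(Tr.nd (nat_lit 72623) (Tr.lf (nat_lit 72577))
(Tr.nd (nat_lit 72643) (Tr.lf (nat_lit 72623))
(Tr.lf (nat_lit 72643))))))))
(Tr.nd (nat_lit 72889) (Tr.nd (nat_lit 72733) (Tr.nd (nat_lit 72679) (Tr.nd (nat_lit 72661) (Tr.nd (nat_lit 72649) (Tr.lf (nat_lit 72647))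
(Tr.lf (nat_lit 72649)))
(Tr.nd (nat_lit 72671) (Tr.lf (nat_lit 72661))
(Tr.nd (nat_lit 72673) (Tr.lf (nat_lit 72671))
(Tr.lf (nat_lit 72673)))))
(Tr.nd (nat_lit 72707) (Tr.nd (nat_lit 72689) (Tr.lf (nat_lit 72679))
(Tr.nd (nat_lit 72701) (Tr.lf (nat_lit 72689))
(Tr.lf (nat_lit 72701))))
(Tr.nd (nat_lit 72719) (Tr.lf (nat_lit 72707))
(Tr.nd (nat_lit 72727) (Tr.lf (nat_lit 72719))
(Tr.lf (nat_lit 72727))))))
(Tr.nd (nat_lit 72817) (Tr.nd (nat_lit 72763) (Tr.nd (nat_lit 72739) (Tr.lf (nat_lit 72733))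
(Tr.lf (nat_lit 72739)))
(Tr.nd (nat_lit 72767) (Tr.lf (nat_lit 72763))
(Tr.nd (nat_lit 72797) (Tr.lf (nat_lit 72767))
(Tr.lf (nat_lit 72797)))))
(Tr.nd (nat_lit 72869) (Tr.nd (nat_lit 72823) (Tr.lf (nat_lit 72817))
(Tr.nd (nat_lit 72859) (Tr.lf (nat_lit 72823))
(Tr.lf (nat_lit 72859))))
(Tr.nd (nat_lit 72871) (Tr.lf (nat_lit 72869))
(Tr.nd (nat_lit 72883) (Tr.lf (nat_lit 72871))
(Tr.lf (nat_lit 72883)))))))
(Tr.nd (nat_lit 72973) (Tr.nd (nat_lit 72923) (Tr.nd (nat_lit 72901) (Tr.nd (nat_lit 72893) (Tr.lf (nat_lit 72889))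
(Tr.lf (nat_lit 72893)))
(Tr.nd (nat_lit 72907) (Tr.lf (nat_lit 72901))
(Tr.nd (nat_lit 72911) (Tr.lf (nat_lit 72907))
(Tr.lf (nat_lit 72911)))))
(Tr.nd (nat_lit 72949) (Tr.nd (nat_lit 72931) (Tr.lf (nat_lit 72923))
(Tr.nd (nat_lit 72937) (Tr.lf (nat_lit 72931))
(Tr.lf (nat_lit 72937))))
(Tr.nd (nat_lit 72953) (Tr.lf (nat_lit 72949))
(Tr.nd (nat_lit 72959) (Tr.lf (nat_lit 72953))
(Tr.lf (nat_lit 72959))))))
(Tr.nd (nat_lit 73309) (Tr.nd (nat_lit 72997) (Tr.nd (nat_lit 72977) (Tr.lf (nat_lit 72973))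
(Tr.lf (nat_lit 72977)))
(Tr.nd (nat_lit 73121) (Tr.lf (nat_lit 72997))
(Tr.nd (nat_lit 73277) (Tr.lf (nat_lit 73121))
(Tr.lf (nat_lit 73277)))))
(Tr.nd (nat_lit 73387) (Tr.nd (nat_lit 73351) (Tr.lf (nat_lit 73309))
(Tr.nd (nat_lit 73361) (Tr.lf (nat_lit 73351))
(Tr.lf (nat_lit 73361))))
(Tr.nd (nat_lit 73417) (Tr.lf (nat_lit 73387))
(Tr.nd (nat_lit 73459) (Tr.lf (nat_lit 73417))
(Tr.lf (nat_lit 73459)))))))))
(Tr.nd (nat_lit 74143) (Tr.nd (nat_lit 73771) (Tr.nd (nat_lit 73651) (Tr.nd (nat_lit 73597) (Tr.nd (nat_lit 73571) (Tr.nd (nat_lit 73477) (Tr.lf (nat_lit 73471))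
(Tr.lf (nat_lit 73477)))
(Tr.nd (nat_lit 73583) (Tr.lf (nat_lit 73571))
(Tr.nd (nat_lit 73589) (Tr.lf (nat_lit 73583))
(Tr.lf (nat_lit 73589)))))
(Tr.nd (nat_lit 73613) (Tr.nd (nat_lit 73607) (Tr.lf (nat_lit 73597))
(Tr.nd (nat_lit 73609) (Tr.lf (nat_lit 73607))
(Tr.lf (nat_lit 73609))))
(Tr.nd (nat_lit 73637) (Tr.lf (nat_lit 73613))
(Tr.nd (nat_lit 73643) (Tr.lf (nat_lit 73637))
(Tr.lf (nat_lit 73643))))))
(Tr.nd (nat_lit 73699) (Tr.nd (nat_lit 73679) (Tr.nd (nat_lit 73673) (Tr.lf (nat_lit 73651))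
(Tr.lf (nat_lit 73673)))
(Tr.nd (nat_lit 73681) (Tr.lf (nat_lit 73679))
(Tr.nd (nat_lit 73693) (Tr.lf (nat_lit 73681))
(Tr.lf (nat_lit 73693)))))
(Tr.nd (nat_lit 73727) (Tr.nd (nat_lit 73709) (Tr.lf (nat_lit 73699))
(Tr.nd (nat_lit 73721) (Tr.lf (nat_lit 73709))
(Tr.lf (nat_lit 73721))))
(Tr.nd (nat_lit 73751) (Tr.lf (nat_lit 73727))
(Tr.nd (nat_lit 73757) (Tr.lf (nat_lit 73751))
(Tr.lf (nat_lit 73757)))))))
(Tr.nd (nat_lit 73907) (Tr.nd (nat_lit 73849) (Tr.nd (nat_lit 73819) (Tr.nd (nat_lit 73783) (Tr.lf (nat_lit 73771))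
(Tr.lf (nat_lit 73783)))
(Tr.nd (nat_lit 73823) (Tr.lf (nat_lit 73819))
(Tr.nd (nat_lit 73847) (Tr.lf (nat_lit 73823))
(Tr.lf (nat_lit 73847)))))
(Tr.nd (nat_lit 73877) (Tr.nd (nat_lit 73859) (Tr.lf (nat_lit 73849))
(Tr.nd (nat_lit 73867) (Tr.lf (nat_lit 73859))
(Tr.lf (nat_lit 73867))))
(Tr.nd (nat_lit 73883) (Tr.lf (nat_lit 73877))
(Tr.nd (nat_lit 73897) (Tr.lf (nat_lit 73883))
(Tr.lf (nat_lit 73897))))))
(Tr.nd (nat_lit 73973) (Tr.nd (nat_lit 73943) (Tr.nd (nat_lit 73939) (Tr.lf (nat_lit 73907))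
(Tr.lf (nat_lit 73939)))
(Tr.nd (nat_lit 73951) (Tr.lf (nat_lit 73943))
(Tr.nd (nat_lit 73961) (Tr.lf (nat_lit 73951))
(Tr.lf (nat_lit 73961)))))
(Tr.nd (nat_lit 74047) (Tr.nd (nat_lit 74017) (Tr.lf (nat_lit 73973))
(Tr.nd (nat_lit 74027) (Tr.lf (nat_lit 74017))
(Tr.lf (nat_lit 74027))))
(Tr.nd (nat_lit 74077) (Tr.lf (nat_lit 74047))
(Tr.nd (nat_lit 74093) (Tr.lf (nat_lit 74077))
(Tr.lf (nat_lit 74093))))))))
(Tr.nd (nat_lit 74411) (Tr.nd (nat_lit 74287) (Tr.nd (nat_lit 74201) (Tr.nd (nat_lit 74159) (Tr.nd (nat_lit 74149) (Tr.lf (nat_lit 74143))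
(Tr.lf (nat_lit 74149)))
(Tr.nd (nat_lit 74189) (Tr.lf (nat_lit 74159))
(Tr.nd (nat_lit 74197) (Tr.lf (nat_lit 74189))
(Tr.lf (nat_lit 74197)))))
(Tr.nd (nat_lit 74231) (Tr.nd (nat_lit 74203) (Tr.lf (nat_lit 74201))
(Tr.nd (nat_lit 74209) (Tr.lf (nat_lit 74203))
(Tr.lf (nat_lit 74209))))
(Tr.nd (nat_lit 74257) (Tr.lf (nat_lit 74231))
(Tr.nd (nat_lit 74279) (Tr.lf (nat_lit 74257))
(Tr.lf (nat_lit 74279))))))
(Tr.nd (nat_lit 74323) (Tr.nd (nat_lit 74297) (Tr.nd (nat_lit 74293) (Tr.lf (nat_lit 74287))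
(Tr.lf (nat_lit 74293)))
(Tr.nd (nat_lit 74311) (Tr.lf (nat_lit 74297))
(Tr.nd (nat_lit 74317) (Tr.lf (nat_lit 74311))
(Tr.lf (nat_lit 74317)))))
(Tr.nd (nat_lit 74377) (Tr.nd (nat_lit 74353) (Tr.lf (nat_lit 74323))
(Tr.nd (nat_lit 74363) (Tr.lf (nat_lit 74353))
(Tr.lf (nat_lit 74363))))
(Tr.nd (nat_lit 74381) (Tr.lf (nat_lit 74377))
(Tr.nd (nat_lit 74383) (Tr.lf (nat_lit 74381))
(Tr.lf (nat_lit 74383)))))))
(Tr.nd (nat_lit 74527) (Tr.nd (nat_lit 74453) (Tr.nd (nat_lit 74419) (Tr.nd (nat_lit 74413) (Tr.lf (nat_lit 74411))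
(Tr.lf (nat_lit 74413)))
(Tr.nd (nat_lit 74441) (Tr.lf (nat_lit 74419))
(Tr.nd (nat_lit 74449) (Tr.lf (nat_lit 74441))
(Tr.lf (nat_lit 74449)))))
(Tr.nd (nat_lit 74507) (Tr.nd (nat_lit 74471) (Tr.lf (nat_lit 74453))
(Tr.nd (nat_lit 74489) (Tr.lf (nat_lit 74471))
(Tr.lf (nat_lit 74489))))
(Tr.nd (nat_lit 74509) (Tr.lf (nat_lit 74507))
(Tr.nd (nat_lit 74521) (Tr.lf (nat_lit 74509))
(Tr.lf (nat_lit 74521))))))
(Tr.nd (nat_lit 74573) (Tr.nd (nat_lit 74551) (Tr.nd (nat_lit 74531) (Tr.lf (nat_lit 74527))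
(Tr.lf (nat_lit 74531)))
(Tr.nd (nat_lit 74561) (Tr.lf (nat_lit 74551))
(Tr.nd (nat_lit 74567) (Tr.lf (nat_lit 74561))
(Tr.lf (nat_lit 74567)))))
(Tr.nd (nat_lit 74609) (Tr.nd (nat_lit 74587) (Tr.lf (nat_lit 74573))
(Tr.nd (nat_lit 74597) (Tr.lf (nat_lit 74587))
(Tr.lf (nat_lit 74597))))
(Tr.nd (nat_lit 74611) (Tr.lf (nat_lit 74609))
(Tr.nd (nat_lit 74623) (Tr.lf (nat_lit 74611))
(Tr.lf (nat_lit 74623))))))))))
(Tr.nd (nat_lit 76157) (Tr.nd (nat_lit 75577) (Tr.nd (nat_lit 75239) (Tr.nd (nat_lit 74887) (Tr.nd (nat_lit 74717) (Tr.nd (nat_lit 74699) (Tr.nd (nat_lit 74687) (Tr.lf (nat_lit 74653))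
(Tr.lf (nat_lit 74687)))
(Tr.nd (nat_lit 74707) (Tr.lf (nat_lit 74699))
(Tr.nd (nat_lit 74713) (Tr.lf (nat_lit 74707))
(Tr.lf (nat_lit 74713)))))
(Tr.nd (nat_lit 74821) (Tr.nd (nat_lit 74719) (Tr.lf (nat_lit 74717))
(Tr.nd (nat_lit 74729) (Tr.lf (nat_lit 74719))
(Tr.lf (nat_lit 74729))))
(Tr.nd (nat_lit 74857) (Tr.lf (nat_lit 74821))
(Tr.nd (nat_lit 74873) (Tr.lf (nat_lit 74857))
(Tr.lf (nat_lit 74873))))))
(Tr.nd (nat_lit 75133) (Tr.nd (nat_lit 75013) (Tr.nd (nat_lit 74941) (Tr.lf (nat_lit 74887))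
(Tr.lf (nat_lit 74941)))
(Tr.nd (nat_lit 75037) (Tr.lf (nat_lit 75013))
(Tr.nd (nat_lit 75041) (Tr.lf (nat_lit 75037))
(Tr.lf (nat_lit 75041)))))
(Tr.nd (nat_lit 75193) (Tr.nd (nat_lit 75149) (Tr.lf (nat_lit 75133))
(Tr.nd (nat_lit 75181) (Tr.lf (nat_lit 75149))
(Tr.lf (nat_lit 75181))))
(Tr.nd (nat_lit 75209) (Tr.lf (nat_lit 75193))
(Tr.nd (nat_lit 75227) (Tr.lf (nat_lit 75209))
(Tr.lf (nat_lit 75227)))))))
(Tr.nd (nat_lit 75479) (Tr.nd (nat_lit 75337) (Tr.nd (nat_lit 75307) (Tr.nd (nat_lit 75253) (Tr.lf (nat_lit 75239))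
(Tr.lf (nat_lit 75253)))
(Tr.nd (nat_lit 75323) (Tr.lf (nat_lit 75307))
(Tr.nd (nat_lit 75329) (Tr.lf (nat_lit 75323))
(Tr.lf (nat_lit 75329)))))
(Tr.nd (nat_lit 75407) (Tr.nd (nat_lit 75347) (Tr.lf (nat_lit 75337))
(Tr.nd (nat_lit 75403) (Tr.lf (nat_lit 75347))
(Tr.lf (nat_lit 75403))))
(Tr.nd (nat_lit 75431) (Tr.lf (nat_lit 75407))
(Tr.nd (nat_lit 75437) (Tr.lf (nat_lit 75431))
(Tr.lf (nat_lit 75437))))))
(Tr.nd (nat_lit 75533) (Tr.nd (nat_lit 75511) (Tr.nd (nat_lit 75503) (Tr.lf (nat_lit 75479))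
(Tr.lf (nat_lit 75503)))
(Tr.nd (nat_lit 75521) (Tr.lf (nat_lit 75511))
(Tr.nd (nat_lit 75527) (Tr.lf (nat_lit 75521))
(Tr.lf (nat_lit 75527)))))
(Tr.nd (nat_lit 75553) (Tr.nd (nat_lit 75539) (Tr.lf (nat_lit 75533))
(Tr.nd (nat_lit 75541) (Tr.lf (nat_lit 75539))
(Tr.lf (nat_lit 75541))))
(Tr.nd (nat_lit 75557) (Tr.lf (nat_lit 75553))
(Tr.nd (nat_lit 75571) (Tr.lf (nat_lit 75557))
(Tr.lf (nat_lit 75571))))))))
(Tr.nd (nat_lit 75793) (Tr.nd (nat_lit 75689) (Tr.nd (nat_lit 75629) (Tr.nd (nat_lit 75611) (Tr.nd (nat_lit 75583) (Tr.lf (nat_lit 75577))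
(Tr.lf (nat_lit 75583)))
(Tr.nd (nat_lit 75617) (Tr.lf (nat_lit 75611))
(Tr.nd (nat_lit 75619) (Tr.lf (nat_lit 75617))
(Tr.lf (nat_lit 75619)))))
(Tr.nd (nat_lit 75659) (Tr.nd (nat_lit 75641) (Tr.lf (nat_lit 75629))
(Tr.nd (nat_lit 75653) (Tr.lf (nat_lit 75641))
(Tr.lf (nat_lit 75653))))
(Tr.nd (nat_lit 75679) (Tr.lf (nat_lit 75659))
(Tr.nd (nat_lit 75683) (Tr.lf (nat_lit 75679))
(Tr.lf (nat_lit 75683))))))
(Tr.nd (nat_lit 75731) (Tr.nd (nat_lit 75707) (Tr.nd (nat_lit 75703) (Tr.lf (nat_lit 75689))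
(Tr.lf (nat_lit 75703)))
(Tr.nd (nat_lit 75709) (Tr.lf (nat_lit 75707))
(Tr.nd (nat_lit 75721) (Tr.lf (nat_lit 75709))
(Tr.lf (nat_lit 75721)))))
(Tr.nd (nat_lit 75773) (Tr.nd (nat_lit 75743) (Tr.lf (nat_lit 75731))
(Tr.nd (nat_lit 75767) (Tr.lf (nat_lit 75743))
(Tr.lf (nat_lit 75767))))
(Tr.nd (nat_lit 75781) (Tr.lf (nat_lit 75773))
(Tr.nd (nat_lit 75787) (Tr.lf (nat_lit 75781))
(Tr.lf (nat_lit 75787)))))))
(Tr.nd (nat_lit 75979) (Tr.nd (nat_lit 75869) (Tr.nd (nat_lit 75821) (Tr.nd (nat_lit 75797) (Tr.lf (nat_lit 75793))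
(Tr.lf (nat_lit 75797)))
(Tr.nd (nat_lit 75833) (Tr.lf (nat_lit 75821))
(Tr.nd (nat_lit 75853) (Tr.lf (nat_lit 75833))
(Tr.lf (nat_lit 75853)))))
(Tr.nd (nat_lit 75931) (Tr.nd (nat_lit 75883) (Tr.lf (nat_lit 75869))
(Tr.nd (nat_lit 75913) (Tr.lf (nat_lit 75883))
(Tr.lf (nat_lit 75913))))
(Tr.nd (nat_lit 75937) (Tr.lf (nat_lit 75931))
(Tr.nd (nat_lit 75967) (Tr.lf (nat_lit 75937))
(Tr.lf (nat_lit 75967))))))
(Tr.nd (nat_lit 76081) (Tr.nd (nat_lit 75997) (Tr.nd (nat_lit 75983) (Tr.lf (nat_lit 75979))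
(Tr.lf (nat_lit 75983)))
(Tr.nd (nat_lit 76001) (Tr.lf (nat_lit 75997))
(Tr.nd (nat_lit 76003) (Tr.lf (nat_lit 76001))
(Tr.lf (nat_lit 76003)))))
(Tr.nd (nat_lit 76103) (Tr.nd (nat_lit 76091) (Tr.lf (nat_lit 76081))
(Tr.nd (nat_lit 76099) (Tr.lf (nat_lit 76091))
(Tr.lf (nat_lit 76099))))
(Tr.nd (nat_lit 76123) (Tr.lf (nat_lit 76103))
(Tr.nd (nat_lit 76129) (Tr.lf (nat_lit 76123))
(Tr.lf (nat_lit 76129)))))))))
(Tr.nd (nat_lit 76913) (Tr.nd (nat_lit 76423) (Tr.nd (nat_lit 76283) (Tr.nd (nat_lit 76231) (Tr.nd (nat_lit 76163) (Tr.nd (nat_lit 76159) (Tr.lf (nat_lit 76157))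
(Tr.lf (nat_lit 76159)))
(Tr.nd (nat_lit 76207) (Tr.lf (nat_lit 76163))
(Tr.nd (nat_lit 76213) (Tr.lf (nat_lit 76207))
(Tr.lf (nat_lit 76213)))))
(Tr.nd (nat_lit 76253) (Tr.nd (nat_lit 76243) (Tr.lf (nat_lit 76231))
(Tr.nd (nat_lit 76249) (Tr.lf (nat_lit 76243))
(Tr.lf (nat_lit 76249))))
(Tr.nd (nat_lit 76259) (Tr.lf (nat_lit 76253))
(Tr.nd (nat_lit 76261) (Tr.lf (nat_lit 76259))
(Tr.lf (nat_lit 76261))))))
(Tr.nd (nat_lit 76367) (Tr.nd (nat_lit 76303) (Tr.nd (nat_lit 76289) (Tr.lf (nat_lit 76283))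
(Tr.lf (nat_lit 76289)))
(Tr.nd (nat_lit 76333) (Tr.lf (nat_lit 76303))
(Tr.nd (nat_lit 76343) (Tr.lf (nat_lit 76333))
(Tr.lf (nat_lit 76343)))))
(Tr.nd (nat_lit 76387) (Tr.nd (nat_lit 76369) (Tr.lf (nat_lit 76367))
(Tr.nd (nat_lit 76379) (Tr.lf (nat_lit 76369))
(Tr.lf (nat_lit 76379))))
(Tr.nd (nat_lit 76403) (Tr.lf (nat_lit 76387))
(Tr.nd (nat_lit 76421) (Tr.lf (nat_lit 76403))
(Tr.lf (nat_lit 76421)))))))
(Tr.nd (nat_lit 76541) (Tr.nd (nat_lit 76487) (Tr.nd (nat_lit 76463) (Tr.nd (nat_lit 76441) (Tr.lf (nat_lit 76423))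
(Tr.lf (nat_lit 76441)))
(Tr.nd (nat_lit 76471) (Tr.lf (nat_lit 76463))
(Tr.nd (nat_lit 76481) (Tr.lf (nat_lit 76471))
(Tr.lf (nat_lit 76481)))))
(Tr.nd (nat_lit 76511) (Tr.nd (nat_lit 76493) (Tr.lf (nat_lit 76487))
(Tr.nd (nat_lit 76507) (Tr.lf (nat_lit 76493))
(Tr.lf (nat_lit 76507))))
(Tr.nd (nat_lit 76519) (Tr.lf (nat_lit 76511))
(Tr.nd (nat_lit 76537) (Tr.lf (nat_lit 76519))
(Tr.lf (nat_lit 76537))))))
(Tr.nd (nat_lit 76771) (Tr.nd (nat_lit 76667) (Tr.nd (nat_lit 76603) (Tr.lf (nat_lit 76541))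
(Tr.lf (nat_lit 76603)))
(Tr.nd (nat_lit 76697) (Tr.lf (nat_lit 76667))
(Tr.nd (nat_lit 76717) (Tr.lf (nat_lit 76697))
(Tr.lf (nat_lit 76717)))))
(Tr.nd (nat_lit 76829) (Tr.nd (nat_lit 76777) (Tr.lf (nat_lit 76771))
(Tr.nd (nat_lit 76781) (Tr.lf (nat_lit 76777))
(Tr.lf (nat_lit 76781))))
(Tr.nd (nat_lit 76831) (Tr.lf (nat_lit 76829))
(Tr.nd (nat_lit 76837) (Tr.lf (nat_lit 76831))
(Tr.lf (nat_lit 76837))))))))
(Tr.nd (nat_lit 77359) (Tr.nd (nat_lit 77237) (Tr.nd (nat_lit 77069) (Tr.nd (nat_lit 76961) (Tr.nd (nat_lit 76949) (Tr.lf (nat_lit 76913))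
(Tr.lf (nat_lit 76949)))
(Tr.nd (nat_lit 77017) (Tr.lf (nat_lit 76961))
(Tr.nd (nat_lit 77023) (Tr.lf (nat_lit 77017))
(Tr.lf (nat_lit 77023)))))
(Tr.nd (nat_lit 77153) (Tr.nd (nat_lit 77081) (Tr.lf (nat_lit 77069))
(Tr.nd (nat_lit 77093) (Tr.lf (nat_lit 77081))
(Tr.lf (nat_lit 77093))))
(Tr.nd (nat_lit 77167) (Tr.lf (nat_lit 77153))
(Tr.nd (nat_lit 77171) (Tr.lf (nat_lit 77167))
(Tr.lf (nat_lit 77171))))))
(Tr.nd (nat_lit 77263) (Tr.nd (nat_lit 77243) (Tr.nd (nat_lit 77239) (Tr.lf (nat_lit 77237))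
(Tr.lf (nat_lit 77239)))
(Tr.nd (nat_lit 77249) (Tr.lf (nat_lit 77243))
(Tr.nd (nat_lit 77261) (Tr.lf (nat_lit 77249))
(Tr.lf (nat_lit 77261)))))
(Tr.nd (nat_lit 77339) (Tr.nd (nat_lit 77317) (Tr.lf (nat_lit 77263))
(Tr.nd (nat_lit 77323) (Tr.lf (nat_lit 77317))
(Tr.lf (nat_lit 77323))))
(Tr.nd (nat_lit 77347) (Tr.lf (nat_lit 77339))
(Tr.nd (nat_lit 77351) (Tr.lf (nat_lit 77347))
(Tr.lf (nat_lit 77351)))))))
(Tr.nd (nat_lit 77549) (Tr.nd (nat_lit 77477) (Tr.nd (nat_lit 77431) (Tr.nd (nat_lit 77419) (Tr.lf (nat_lit 77359))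
(Tr.lf (nat_lit 77419)))
(Tr.nd (nat_lit 77447) (Tr.lf (nat_lit 77431))
(Tr.nd (nat_lit 77471) (Tr.lf (nat_lit 77447))
(Tr.lf (nat_lit 77471)))))
(Tr.nd (nat_lit 77521) (Tr.nd (nat_lit 77479) (Tr.lf (nat_lit 77477))
(Tr.nd (nat_lit 77489) (Tr.lf (nat_lit 77479))
(Tr.lf (nat_lit 77489))))
(Tr.nd (nat_lit 77527) (Tr.lf (nat_lit 77521))
(Tr.nd (nat_lit 77543) (Tr.lf (nat_lit 77527))
(Tr.lf (nat_lit 77543))))))
(Tr.nd (nat_lit 77573) (Tr.nd (nat_lit 77557) (Tr.nd (nat_lit 77551) (Tr.lf (nat_lit 77549))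
(Tr.lf (nat_lit 77551)))
(Tr.nd (nat_lit 77563) (Tr.lf (nat_lit 77557))
(Tr.nd (nat_lit 77569) (Tr.lf (nat_lit 77563))
(Tr.lf (nat_lit 77569)))))
(Tr.nd (nat_lit 77611) (Tr.nd (nat_lit 77587) (Tr.lf (nat_lit 77573))
(Tr.nd (nat_lit 77591) (Tr.lf (nat_lit 77587))
(Tr.lf (nat_lit 77591))))
(Tr.nd (nat_lit 77617) (Tr.lf (nat_lit 77611))
(Tr.nd (nat_lit 77621) (Tr.lf (nat_lit 77617))
(Tr.lf (nat_lit 77621))))))))))))
(Tr.nd (nat_lit 82727) (Tr.nd (nat_lit 80209) (Tr.nd (nat_lit 78857) (Tr.nd (nat_lit 78173) (Tr.nd (nat_lit 77863) (Tr.nd (nat_lit 77731) (Tr.nd (nat_lit 77689) (Tr.nd (nat_lit 77659) (Tr.nd (nat_lit 77647) (Tr.lf (nat_lit 77641))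
(Tr.lf (nat_lit 77647)))
(Tr.nd (nat_lit 77681) (Tr.lf (nat_lit 77659))
(Tr.nd (nat_lit 77687) (Tr.lf (nat_lit 77681))
(Tr.lf (nat_lit 77687)))))
(Tr.nd (nat_lit 77713) (Tr.nd (nat_lit 77699) (Tr.lf (nat_lit 77689))
(Tr.nd (nat_lit 77711) (Tr.lf (nat_lit 77699))
(Tr.lf (nat_lit 77711))))
(Tr.nd (nat_lit 77719) (Tr.lf (nat_lit 77713))
(Tr.nd (nat_lit 77723) (Tr.lf (nat_lit 77719))
(Tr.lf (nat_lit 77723))))))
(Tr.nd (nat_lit 77783) (Tr.nd (nat_lit 77747) (Tr.nd (nat_lit 77743) (Tr.lf (nat_lit 77731))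
(Tr.lf (nat_lit 77743)))
(Tr.nd (nat_lit 77761) (Tr.lf (nat_lit 77747))
(Tr.nd (nat_lit 77773) (Tr.lf (nat_lit 77761))
(Tr.lf (nat_lit 77773)))))
(Tr.nd (nat_lit 77813) (Tr.nd (nat_lit 77797) (Tr.lf (nat_lit 77783))
(Tr.nd (nat_lit 77801) (Tr.lf (nat_lit 77797))
(Tr.lf (nat_lit 77801))))
(Tr.nd (nat_lit 77839) (Tr.lf (nat_lit 77813))
(Tr.nd (nat_lit 77849) (Tr.lf (nat_lit 77839))
(Tr.lf (nat_lit 77849)))))))
(Tr.nd (nat_lit 78007) (Tr.nd (nat_lit 77933) (Tr.nd (nat_lit 77893) (Tr.nd (nat_lit 77867) (Tr.lf (nat_lit 77863))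
(Tr.lf (nat_lit 77867)))
(Tr.nd (nat_lit 77899) (Tr.lf (nat_lit 77893))
(Tr.nd (nat_lit 77929) (Tr.lf (nat_lit 77899))
(Tr.lf (nat_lit 77929)))))
(Tr.nd (nat_lit 77977) (Tr.nd (nat_lit 77951) (Tr.lf (nat_lit 77933))
(Tr.nd (nat_lit 77969) (Tr.lf (nat_lit 77951))
(Tr.lf (nat_lit 77969))))
(Tr.nd (nat_lit 77983) (Tr.lf (nat_lit 77977))
(Tr.nd (nat_lit 77999) (Tr.lf (nat_lit 77983))
(Tr.lf (nat_lit 77999))))))
(Tr.nd (nat_lit 78059) (Tr.nd (nat_lit 78031) (Tr.nd (nat_lit 78017) (Tr.lf (nat_lit 78007))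
(Tr.lf (nat_lit 78017)))
(Tr.nd (nat_lit 78041) (Tr.lf (nat_lit 78031))
(Tr.nd (nat_lit 78049) (Tr.lf (nat_lit 78041))
(Tr.lf (nat_lit 78049)))))
(Tr.nd (nat_lit 78139) (Tr.nd (nat_lit 78079) (Tr.lf (nat_lit 78059))
(Tr.nd (nat_lit 78137) (Tr.lf (nat_lit 78079))
(Tr.lf (nat_lit 78137))))
(Tr.nd (nat_lit 78157) (Tr.lf (nat_lit 78139))
(Tr.nd (nat_lit 78163) (Tr.lf (nat_lit 78157))
(Tr.lf (nat_lit 78163))))))))
(Tr.nd (nat_lit 78467) (Tr.nd (nat_lit 78301) (Tr.nd (nat_lit 78229) (Tr.nd (nat_lit 78191) (Tr.nd (nat_lit 78179) (Tr.lf (nat_lit 78173))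
(Tr.lf (nat_lit 78179)))
(Tr.nd (nat_lit 78193) (Tr.lf (nat_lit 78191))
(Tr.nd (nat_lit 78203) (Tr.lf (nat_lit 78193))
(Tr.lf (nat_lit 78203)))))
(Tr.nd (nat_lit 78259) (Tr.nd (nat_lit 78233) (Tr.lf (nat_lit 78229))
(Tr.nd (nat_lit 78241) (Tr.lf (nat_lit 78233))
(Tr.lf (nat_lit 78241))))
(Tr.nd (nat_lit 78277) (Tr.lf (nat_lit 78259))
(Tr.nd (nat_lit 78283) (Tr.lf (nat_lit 78277))
(Tr.lf (nat_lit 78283))))))
(Tr.nd (nat_lit 78347) (Tr.nd (nat_lit 78311) (Tr.nd (nat_lit 78307) (Tr.lf (nat_lit 78301))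
(Tr.lf (nat_lit 78307)))
(Tr.nd (nat_lit 78317) (Tr.lf (nat_lit 78311))
(Tr.nd (nat_lit 78341) (Tr.lf (nat_lit 78317))
(Tr.lf (nat_lit 78341)))))
(Tr.nd (nat_lit 78427) (Tr.nd (nat_lit 78367) (Tr.lf (nat_lit 78347))
(Tr.nd (nat_lit 78401) (Tr.lf (nat_lit 78367))
(Tr.lf (nat_lit 78401))))
(Tr.nd (nat_lit 78437) (Tr.lf (nat_lit 78427))
(Tr.nd (nat_lit 78439) (Tr.lf (nat_lit 78437))
(Tr.lf (nat_lit 78439)))))))
(Tr.nd (nat_lit 78607) (Tr.nd (nat_lit 78511) (Tr.nd (nat_lit 78487) (Tr.nd (nat_lit 78479) (Tr.lf (nat_lit 78467))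
(Tr.lf (nat_lit 78479)))
(Tr.nd (nat_lit 78497) (Tr.lf (nat_lit 78487))
(Tr.nd (nat_lit 78509) (Tr.lf (nat_lit 78497))
(Tr.lf (nat_lit 78509)))))
(Tr.nd (nat_lit 78541) (Tr.nd (nat_lit 78517) (Tr.lf (nat_lit 78511))
(Tr.nd (nat_lit 78539) (Tr.lf (nat_lit 78517))
(Tr.lf (nat_lit 78539))))
(Tr.nd (nat_lit 78571) (Tr.lf (nat_lit 78541))
(Tr.nd (nat_lit 78593) (Tr.lf (nat_lit 78571))
(Tr.lf (nat_lit 78593))))))
(Tr.nd (nat_lit 78779) (Tr.nd (nat_lit 78697) (Tr.nd (nat_lit 78653) (Tr.lf (nat_lit 78607))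
(Tr.lf (nat_lit 78653)))
(Tr.nd (nat_lit 78707) (Tr.lf (nat_lit 78697))
(Tr.nd (nat_lit 78737) (Tr.lf (nat_lit 78707))
(Tr.lf (nat_lit 78737)))))
(Tr.nd (nat_lit 78809) (Tr.nd (nat_lit 78781) (Tr.lf (nat_lit 78779))
(Tr.nd (nat_lit 78803) (Tr.lf (nat_lit 78781))
(Tr.lf (nat_lit 78803))))
(Tr.nd (nat_lit 78823) (Tr.lf (nat_lit 78809))
(Tr.nd (nat_lit 78839) (Tr.lf (nat_lit 78823))
(Tr.lf (nat_lit 78839)))))))))
(Tr.nd (nat_lit 79657) (Tr.nd (nat_lit 79349) (Tr.nd (nat_lit 79153) (Tr.nd (nat_lit 78901) (Tr.nd (nat_lit 78887) (Tr.nd (nat_lit 78877) (Tr.lf (nat_lit 78857))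
(Tr.lf (nat_lit 78877)))
(Tr.nd (nat_lit 78889) (Tr.lf (nat_lit 78887))
(Tr.nd (nat_lit 78893) (Tr.lf (nat_lit 78889))
(Tr.lf (nat_lit 78893)))))
(Tr.nd (nat_lit 79103) (Tr.nd (nat_lit 79031) (Tr.lf (nat_lit 78901))
(Tr.nd (nat_lit 79087) (Tr.lf (nat_lit 79031))
(Tr.lf (nat_lit 79087))))
(Tr.nd (nat_lit 79111) (Tr.lf (nat_lit 79103))
(Tr.nd (nat_lit 79151) (Tr.lf (nat_lit 79111))
(Tr.lf (nat_lit 79151))))))
(Tr.nd (nat_lit 79241) (Tr.nd (nat_lit 79201) (Tr.nd (nat_lit 79159) (Tr.lf (nat_lit 79153))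
(Tr.lf (nat_lit 79159)))
(Tr.nd (nat_lit 79229) (Tr.lf (nat_lit 79201))
(Tr.nd (nat_lit 79231) (Tr.lf (nat_lit 79229))
(Tr.lf (nat_lit 79231)))))
(Tr.nd (nat_lit 79319) (Tr.nd (nat_lit 79259) (Tr.lf (nat_lit 79241))
(Tr.nd (nat_lit 79273) (Tr.lf (nat_lit 79259))
(Tr.lf (nat_lit 79273))))
(Tr.nd (nat_lit 79333) (Tr.lf (nat_lit 79319))
(Tr.nd (nat_lit 79337) (Tr.lf (nat_lit 79333))
(Tr.lf (nat_lit 79337)))))))
(Tr.nd (nat_lit 79537) (Tr.nd (nat_lit 79427) (Tr.nd (nat_lit 79367) (Tr.nd (nat_lit 79357) (Tr.lf (nat_lit 79349))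
(Tr.lf (nat_lit 79357)))
(Tr.nd (nat_lit 79411) (Tr.lf (nat_lit 79367))
(Tr.nd (nat_lit 79423) (Tr.lf (nat_lit 79411))
(Tr.lf (nat_lit 79423)))))
(Tr.nd (nat_lit 79481) (Tr.nd (nat_lit 79433) (Tr.lf (nat_lit 79427))
(Tr.nd (nat_lit 79451) (Tr.lf (nat_lit 79433))
(Tr.lf (nat_lit 79451))))
(Tr.nd (nat_lit 79493) (Tr.lf (nat_lit 79481))
(Tr.nd (nat_lit 79531) (Tr.lf (nat_lit 79493))
(Tr.lf (nat_lit 79531))))))
(Tr.nd (nat_lit 79609) (Tr.nd (nat_lit 79579) (Tr.nd (nat_lit 79549) (Tr.lf (nat_lit 79537))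
(Tr.lf (nat_lit 79549)))
(Tr.nd (nat_lit 79589) (Tr.lf (nat_lit 79579))
(Tr.nd (nat_lit 79601) (Tr.lf (nat_lit 79589))
(Tr.lf (nat_lit 79601)))))
(Tr.nd (nat_lit 79627) (Tr.nd (nat_lit 79613) (Tr.lf (nat_lit 79609))
(Tr.nd (nat_lit 79621) (Tr.lf (nat_lit 79613))
(Tr.lf (nat_lit 79621))))
(Tr.nd (nat_lit 79631) (Tr.lf (nat_lit 79627))
(Tr.nd (nat_lit 79633) (Tr.lf (nat_lit 79631))
(Tr.lf (nat_lit 79633))))))))
(Tr.nd (nat_lit 79967) (Tr.nd (nat_lit 79843) (Tr.nd (nat_lit 79777) (Tr.nd (nat_lit 79699) (Tr.nd (nat_lit 79697) (Tr.lf (nat_lit 79657))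
(Tr.lf (nat_lit 79697)))
(Tr.nd (nat_lit 79757) (Tr.lf (nat_lit 79699))
(Tr.nd (nat_lit 79769) (Tr.lf (nat_lit 79757))
(Tr.lf (nat_lit 79769)))))
(Tr.nd (nat_lit 79823) (Tr.nd (nat_lit 79801) (Tr.lf (nat_lit 79777))
(Tr.nd (nat_lit 79817) (Tr.lf (nat_lit 79801))
(Tr.lf (nat_lit 79817))))
(Tr.nd (nat_lit 79829) (Tr.lf (nat_lit 79823))
(Tr.nd (nat_lit 79841) (Tr.lf (nat_lit 79829))
(Tr.lf (nat_lit 79841))))))
(Tr.nd (nat_lit 79889) (Tr.nd (nat_lit 79861) (Tr.nd (nat_lit 79847) (Tr.lf (nat_lit 79843))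
(Tr.lf (nat_lit 79847)))
(Tr.nd (nat_lit 79867) (Tr.lf (nat_lit 79861))
(Tr.nd (nat_lit 79873) (Tr.lf (nat_lit 79867))
(Tr.lf (nat_lit 79873)))))
(Tr.nd (nat_lit 79907) (Tr.nd (nat_lit 79901) (Tr.lf (nat_lit 79889))
(Tr.nd (nat_lit 79903) (Tr.lf (nat_lit 79901))
(Tr.lf (nat_lit 79903))))
(Tr.nd (nat_lit 79939) (Tr.lf (nat_lit 79907))
(Tr.nd (nat_lit 79943) (Tr.lf (nat_lit 79939))
(Tr.lf (nat_lit 79943)))))))
(Tr.nd (nat_lit 80107) (Tr.nd (nat_lit 79999) (Tr.nd (nat_lit 79979) (Tr.nd (nat_lit 79973) (Tr.lf (nat_lit 79967))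
(Tr.lf (nat_lit 79973)))
(Tr.nd (nat_lit 79987) (Tr.lf (nat_lit 79979))
(Tr.nd (nat_lit 79997) (Tr.lf (nat_lit 79987))
(Tr.lf (nat_lit 79997)))))
(Tr.nd (nat_lit 80051) (Tr.nd (nat_lit 80021) (Tr.lf (nat_lit 79999))
(Tr.nd (nat_lit 80039) (Tr.lf (nat_lit 80021))
(Tr.lf (nat_lit 80039))))
(Tr.nd (nat_lit 80071) (Tr.lf (nat_lit 80051))
(Tr.nd (nat_lit 80077) (Tr.lf (nat_lit 80071))
(Tr.lf (nat_lit 80077))))))
(Tr.nd (nat_lit 80153) (Tr.nd (nat_lit 80141) (Tr.nd (nat_lit 80111) (Tr.lf (nat_lit 80107))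
(Tr.lf (nat_lit 80111)))
(Tr.nd (nat_lit 80147) (Tr.lf (nat_lit 80141))
(Tr.nd (nat_lit 80149) (Tr.lf (nat_lit 80147))
(Tr.lf (nat_lit 80149)))))
(Tr.nd (nat_lit 80177) (Tr.nd (nat_lit 80167) (Tr.lf (nat_lit 80153))
(Tr.nd (nat_lit 80173) (Tr.lf (nat_lit 80167))
(Tr.lf (nat_lit 80173))))
(Tr.nd (nat_lit 80191) (Tr.lf (nat_lit 80177))
(Tr.nd (nat_lit 80207) (Tr.lf (nat_lit 80191))
(Tr.lf (nat_lit 80207))))))))))
(Tr.nd (nat_lit 81551) (Tr.nd (nat_lit 80783) (Tr.nd (nat_lit 80471) (Tr.nd (nat_lit 80317) (Tr.nd (nat_lit 80251) (Tr.nd (nat_lit 80231) (Tr.nd (nat_lit 80221) (Tr.lf (nat_lit 80209))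
(Tr.lf (nat_lit 80221)))
(Tr.nd (nat_lit 80233) (Tr.lf (nat_lit 80231))
(Tr.nd (nat_lit 80239) (Tr.lf (nat_lit 80233))
(Tr.lf (nat_lit 80239)))))
(Tr.nd (nat_lit 80279) (Tr.nd (nat_lit 80263) (Tr.lf (nat_lit 80251))
(Tr.nd (nat_lit 80273) (Tr.lf (nat_lit 80263))
(Tr.lf (nat_lit 80273))))
(Tr.nd (nat_lit 80287) (Tr.lf (nat_lit 80279))
(Tr.nd (nat_lit 80309) (Tr.lf (nat_lit 80287))
(Tr.lf (nat_lit 80309))))))
(Tr.nd (nat_lit 80369) (Tr.nd (nat_lit 80341) (Tr.nd (nat_lit 80329) (Tr.lf (nat_lit 80317))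
(Tr.lf (nat_lit 80329)))
(Tr.nd (nat_lit 80347) (Tr.lf (nat_lit 80341))
(Tr.nd (nat_lit 80363) (Tr.lf (nat_lit 80347))
(Tr.lf (nat_lit 80363)))))
(Tr.nd (nat_lit 80429) (Tr.nd (nat_lit 80387) (Tr.lf (nat_lit 80369))
(Tr.nd (nat_lit 80407) (Tr.lf (nat_lit 80387))
(Tr.lf (nat_lit 80407))))
(Tr.nd (nat_lit 80447) (Tr.lf (nat_lit 80429))
(Tr.nd (nat_lit 80449) (Tr.lf (nat_lit 80447))
(Tr.lf (nat_lit 80449)))))))
(Tr.nd (nat_lit 80611) (Tr.nd (nat_lit 80527) (Tr.nd (nat_lit 80489) (Tr.nd (nat_lit 80473) (Tr.lf (nat_lit 80471))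
(Tr.lf (nat_lit 80473)))
(Tr.nd (nat_lit 80491) (Tr.lf (nat_lit 80489))
(Tr.nd (nat_lit 80513) (Tr.lf (nat_lit 80491))
(Tr.lf (nat_lit 80513)))))
(Tr.nd (nat_lit 80567) (Tr.nd (nat_lit 80537) (Tr.lf (nat_lit 80527))
(Tr.nd (nat_lit 80557) (Tr.lf (nat_lit 80537))
(Tr.lf (nat_lit 80557))))
(Tr.nd (nat_lit 80599) (Tr.lf (nat_lit 80567))
(Tr.nd (nat_lit 80603) (Tr.lf (nat_lit 80599))
(Tr.lf (nat_lit 80603))))))
(Tr.nd (nat_lit 80683) (Tr.nd (nat_lit 80627) (Tr.nd (nat_lit 80621) (Tr.lf (nat_lit 80611))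
(Tr.lf (nat_lit 80621)))
(Tr.nd (nat_lit 80669) (Tr.lf (nat_lit 80627))
(Tr.nd (nat_lit 80681) (Tr.lf (nat_lit 80669))
(Tr.lf (nat_lit 80681)))))
(Tr.nd (nat_lit 80749) (Tr.nd (nat_lit 80687) (Tr.lf (nat_lit 80683))
(Tr.nd (nat_lit 80747) (Tr.lf (nat_lit 80687))
(Tr.lf (nat_lit 80747))))
(Tr.nd (nat_lit 80777) (Tr.lf (nat_lit 80749))
(Tr.nd (nat_lit 80779) (Tr.lf (nat_lit 80777))
(Tr.lf (nat_lit 80779))))))))
(Tr.nd (nat_lit 81157) (Tr.nd (nat_lit 80989) (Tr.nd (nat_lit 80849) (Tr.nd (nat_lit 80819) (Tr.nd (nat_lit 80809) (Tr.lf (nat_lit 80783))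
(Tr.lf (nat_lit 80809)))
(Tr.nd (nat_lit 80831) (Tr.lf (nat_lit 80819))
(Tr.nd (nat_lit 80833) (Tr.lf (nat_lit 80831))
(Tr.lf (nat_lit 80833)))))
(Tr.nd (nat_lit 80929) (Tr.nd (nat_lit 80863) (Tr.lf (nat_lit 80849))
(Tr.nd (nat_lit 80923) (Tr.lf (nat_lit 80863))
(Tr.lf (nat_lit 80923))))
(Tr.nd (nat_lit 80933) (Tr.lf (nat_lit 80929))
(Tr.nd (nat_lit 80953) (Tr.lf (nat_lit 80933))
(Tr.lf (nat_lit 80953))))))
(Tr.nd (nat_lit 81023) (Tr.nd (nat_lit 81013) (Tr.nd (nat_lit 81001) (Tr.lf (nat_lit 80989))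
(Tr.lf (nat_lit 81001)))
(Tr.nd (nat_lit 81017) (Tr.lf (nat_lit 81013))
(Tr.nd (nat_lit 81019) (Tr.lf (nat_lit 81017))
(Tr.lf (nat_lit 81019)))))
(Tr.nd (nat_lit 81043) (Tr.nd (nat_lit 81031) (Tr.lf (nat_lit 81023))
(Tr.nd (nat_lit 81041) (Tr.lf (nat_lit 81031))
(Tr.lf (nat_lit 81041))))
(Tr.nd (nat_lit 81047) (Tr.lf (nat_lit 81043))
(Tr.nd (nat_lit 81131) (Tr.lf (nat_lit 81047))
(Tr.lf (nat_lit 81131)))))))
(Tr.nd (nat_lit 81353) (Tr.nd (nat_lit 81233) (Tr.nd (nat_lit 81199) (Tr.nd (nat_lit 81197) (Tr.lf (nat_lit 81157))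
(Tr.lf (nat_lit 81197)))
(Tr.nd (nat_lit 81203) (Tr.lf (nat_lit 81199))
(Tr.nd (nat_lit 81223) (Tr.lf (nat_lit 81203))
(Tr.lf (nat_lit 81223)))))
(Tr.nd (nat_lit 81331) (Tr.nd (nat_lit 81239) (Tr.lf (nat_lit 81233))
(Tr.nd (nat_lit 81307) (Tr.lf (nat_lit 81239))
(Tr.lf (nat_lit 81307))))
(Tr.nd (nat_lit 81343) (Tr.lf (nat_lit 81331))
(Tr.nd (nat_lit 81349) (Tr.lf (nat_lit 81343))
(Tr.lf (nat_lit 81349))))))
(Tr.nd (nat_lit 81463) (Tr.nd (nat_lit 81421) (Tr.nd (nat_lit 81359) (Tr.lf (nat_lit 81353))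
(Tr.lf (nat_lit 81359)))
(Tr.nd (nat_lit 81439) (Tr.lf (nat_lit 81421))
(Tr.nd (nat_lit 81457) (Tr.lf (nat_lit 81439))
(Tr.lf (nat_lit 81457)))))
(Tr.nd (nat_lit 81527) (Tr.nd (nat_lit 81509) (Tr.lf (nat_lit 81463))
(Tr.nd (nat_lit 81517) (Tr.lf (nat_lit 81509))
(Tr.lf (nat_lit 81517))))
(Tr.nd (nat_lit 81533) (Tr.lf (nat_lit 81527))
(Tr.nd (nat_lit 81547) (Tr.lf (nat_lit 81533))
(Tr.lf (nat_lit 81547)))))))))
(Tr.nd (nat_lit 82153) (Tr.nd (nat_lit 81869) (Tr.nd (nat_lit 81707) (Tr.nd (nat_lit 81647) (Tr.nd (nat_lit 81619) (Tr.nd (nat_lit 81611) (Tr.lf (nat_lit 81551))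
(Tr.lf (nat_lit 81611)))
(Tr.nd (nat_lit 81629) (Tr.lf (nat_lit 81619))
(Tr.nd (nat_lit 81637) (Tr.lf (nat_lit 81629))
(Tr.lf (nat_lit 81637)))))
(Tr.nd (nat_lit 81689) (Tr.nd (nat_lit 81671) (Tr.lf (nat_lit 81647))
(Tr.nd (nat_lit 81677) (Tr.lf (nat_lit 81671))
(Tr.lf (nat_lit 81677))))
(Tr.nd (nat_lit 81701) (Tr.lf (nat_lit 81689))
(Tr.nd (nat_lit 81703) (Tr.lf (nat_lit 81701))
(Tr.lf (nat_lit 81703))))))
(Tr.nd (nat_lit 81773) (Tr.nd (nat_lit 81749) (Tr.nd (nat_lit 81737) (Tr.lf (nat_lit 81707))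
(Tr.lf (nat_lit 81737)))
(Tr.nd (nat_lit 81761) (Tr.lf (nat_lit 81749))
(Tr.nd (nat_lit 81769) (Tr.lf (nat_lit 81761))
(Tr.lf (nat_lit 81769)))))
(Tr.nd (nat_lit 81839) (Tr.nd (nat_lit 81799) (Tr.lf (nat_lit 81773))
(Tr.nd (nat_lit 81817) (Tr.lf (nat_lit 81799))
(Tr.lf (nat_lit 81817))))
(Tr.nd (nat_lit 81847) (Tr.lf (nat_lit 81839))
(Tr.nd (nat_lit 81853) (Tr.lf (nat_lit 81847))
(Tr.lf (nat_lit 81853)))))))
(Tr.nd (nat_lit 82013) (Tr.nd (nat_lit 81953) (Tr.nd (nat_lit 81899) (Tr.nd (nat_lit 81883) (Tr.lf (nat_lit 81869))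
(Tr.lf (nat_lit 81883)))
(Tr.nd (nat_lit 81901) (Tr.lf (nat_lit 81899))
(Tr.nd (nat_lit 81919) (Tr.lf (nat_lit 81901))
(Tr.lf (nat_lit 81919)))))
(Tr.nd (nat_lit 82003) (Tr.nd (nat_lit 81967) (Tr.lf (nat_lit 81953))
(Tr.nd (nat_lit 81971) (Tr.lf (nat_lit 81967))
(Tr.lf (nat_lit 81971))))
(Tr.nd (nat_lit 82007) (Tr.lf (nat_lit 82003))
(Tr.nd (nat_lit 82009) (Tr.lf (nat_lit 82007))
(Tr.lf (nat_lit 82009))))))
(Tr.nd (nat_lit 82051) (Tr.nd (nat_lit 82031) (Tr.nd (nat_lit 82021) (Tr.lf (nat_lit 82013))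
(Tr.lf (nat_lit 82021)))
(Tr.nd (nat_lit 82037) (Tr.lf (nat_lit 82031))
(Tr.nd (nat_lit 82039) (Tr.lf (nat_lit 82037))
(Tr.lf (nat_lit 82039)))))
(Tr.nd (nat_lit 82129) (Tr.nd (nat_lit 82067) (Tr.lf (nat_lit 82051))
(Tr.nd (nat_lit 82073) (Tr.lf (nat_lit 82067))
(Tr.lf (nat_lit 82073))))
(Tr.nd (nat_lit 82139) (Tr.lf (nat_lit 82129))
(Tr.nd (nat_lit 82141) (Tr.lf (nat_lit 82139))
(Tr.lf (nat_lit 82141))))))))
(Tr.nd (nat_lit 82373) (Tr.nd (nat_lit 82237) (Tr.nd (nat_lit 82193) (Tr.nd (nat_lit 82171) (Tr.nd (nat_lit 82163) (Tr.lf (nat_lit 82153))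
(Tr.lf (nat_lit 82163)))
(Tr.nd (nat_lit 82183) (Tr.lf (nat_lit 82171))
(Tr.nd (nat_lit 82189) (Tr.lf (nat_lit 82183))
(Tr.lf (nat_lit 82189)))))
(Tr.nd (nat_lit 82219) (Tr.nd (nat_lit 82207) (Tr.lf (nat_lit 82193))
(Tr.nd (nat_lit 82217) (Tr.lf (nat_lit 82207))
(Tr.lf (nat_lit 82217))))
(Tr.nd (nat_lit 82223) (Tr.lf (nat_lit 82219))
(Tr.nd (nat_lit 82231) (Tr.lf (nat_lit 82223))
(Tr.lf (nat_lit 82231))))))
(Tr.nd (nat_lit 82301) (Tr.nd (nat_lit 82261) (Tr.nd (nat_lit 82241) (Tr.lf (nat_lit 82237))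
(Tr.lf (nat_lit 82241)))
(Tr.nd (nat_lit 82267) (Tr.lf (nat_lit 82261))
(Tr.nd (nat_lit 82279) (Tr.lf (nat_lit 82267))
(Tr.lf (nat_lit 82279)))))
(Tr.nd (nat_lit 82349) (Tr.nd (nat_lit 82307) (Tr.lf (nat_lit 82301))
(Tr.nd (nat_lit 82339) (Tr.lf (nat_lit 82307))
(Tr.lf (nat_lit 82339))))
(Tr.nd (nat_lit 82351) (Tr.lf (nat_lit 82349))
(Tr.nd (nat_lit 82361) (Tr.lf (nat_lit 82351))
(Tr.lf (nat_lit 82361)))))))
(Tr.nd (nat_lit 82499) (Tr.nd (nat_lit 82463) (Tr.nd (nat_lit 82393) (Tr.nd (nat_lit 82387) (Tr.lf (nat_lit 82373))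
(Tr.lf (nat_lit 82387)))
(Tr.nd (nat_lit 82421) (Tr.lf (nat_lit 82393))
(Tr.nd (nat_lit 82457) (Tr.lf (nat_lit 82421))
(Tr.lf (nat_lit 82457)))))
(Tr.nd (nat_lit 82483) (Tr.nd (nat_lit 82469) (Tr.lf (nat_lit 82463))
(Tr.nd (nat_lit 82471) (Tr.lf (nat_lit 82469))
(Tr.lf (nat_lit 82471))))
(Tr.nd (nat_lit 82487) (Tr.lf (nat_lit 82483))
(Tr.nd (nat_lit 82493) (Tr.lf (nat_lit 82487))
(Tr.lf (nat_lit 82493))))))
(Tr.nd (nat_lit 82601) (Tr.nd (nat_lit 82559) (Tr.nd (nat_lit 82507) (Tr.lf (nat_lit 82499))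
(Tr.lf (nat_lit 82507)))
(Tr.nd (nat_lit 82561) (Tr.lf (nat_lit 82559))
(Tr.nd (nat_lit 82591) (Tr.lf (nat_lit 82561))
(Tr.lf (nat_lit 82591)))))
(Tr.nd (nat_lit 82619) (Tr.nd (nat_lit 82609) (Tr.lf (nat_lit 82601))
(Tr.nd (nat_lit 82613) (Tr.lf (nat_lit 82609))
(Tr.lf (nat_lit 82613))))
(Tr.nd (nat_lit 82633) (Tr.lf (nat_lit 82619))
(Tr.nd (nat_lit 82723) (Tr.lf (nat_lit 82633))
(Tr.lf (nat_lit 82723)))))))))))
(Tr.nd (nat_lit 85429) (Tr.nd (nat_lit 84179) (Tr.nd (nat_lit 83477) (Tr.nd (nat_lit 83089) (Tr.nd (nat_lit 82891) (Tr.nd (nat_lit 82787) (Tr.nd (nat_lit 82759) (Tr.nd (nat_lit 82757) (Tr.lf (nat_lit 82727))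
(Tr.lf (nat_lit 82757)))
(Tr.nd (nat_lit 82763) (Tr.lf (nat_lit 82759))
(Tr.nd (nat_lit 82781) (Tr.lf (nat_lit 82763))
(Tr.lf (nat_lit 82781)))))
(Tr.nd (nat_lit 82847) (Tr.nd (nat_lit 82813) (Tr.lf (nat_lit 82787))
(Tr.nd (nat_lit 82837) (Tr.lf (nat_lit 82813))
(Tr.lf (nat_lit 82837))))
(Tr.nd (nat_lit 82883) (Tr.lf (nat_lit 82847))
(Tr.nd (nat_lit 82889) (Tr.lf (nat_lit 82883))
(Tr.lf (nat_lit 82889))))))
(Tr.nd (nat_lit 83023) (Tr.nd (nat_lit 82913) (Tr.nd (nat_lit 82903) (Tr.lf (nat_lit 82891))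
(Tr.lf (nat_lit 82903)))
(Tr.nd (nat_lit 82939) (Tr.lf (nat_lit 82913))
(Tr.nd (nat_lit 82963) (Tr.lf (nat_lit 82939))
(Tr.lf (nat_lit 82963)))))
(Tr.nd (nat_lit 83063) (Tr.nd (nat_lit 83047) (Tr.lf (nat_lit 83023))
(Tr.nd (nat_lit 83059) (Tr.lf (nat_lit 83047))
(Tr.lf (nat_lit 83059))))
(Tr.nd (nat_lit 83071) (Tr.lf (nat_lit 83063))
(Tr.nd (nat_lit 83077) (Tr.lf (nat_lit 83071))
(Tr.lf (nat_lit 83077)))))))
(Tr.nd (nat_lit 83341) (Tr.nd (nat_lit 83231) (Tr.nd (nat_lit 83101) (Tr.nd (nat_lit 83093) (Tr.lf (nat_lit 83089))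
(Tr.lf (nat_lit 83093)))
(Tr.nd (nat_lit 83117) (Tr.lf (nat_lit 83101))
(Tr.nd (nat_lit 83137) (Tr.lf (nat_lit 83117))
(Tr.lf (nat_lit 83137)))))
(Tr.nd (nat_lit 83257) (Tr.nd (nat_lit 83233) (Tr.lf (nat_lit 83231))
(Tr.nd (nat_lit 83243) (Tr.lf (nat_lit 83233))
(Tr.lf (nat_lit 83243))))
(Tr.nd (nat_lit 83311) (Tr.lf (nat_lit 83257))
(Tr.nd (nat_lit 83339) (Tr.lf (nat_lit 83311))
(Tr.lf (nat_lit 83339))))))
(Tr.nd (nat_lit 83401) (Tr.nd (nat_lit 83383) (Tr.nd (nat_lit 83357) (Tr.lf (nat_lit 83341))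
(Tr.lf (nat_lit 83357)))
(Tr.nd (nat_lit 83389) (Tr.lf (nat_lit 83383))
(Tr.nd (nat_lit 83399) (Tr.lf (nat_lit 83389))
(Tr.lf (nat_lit 83399)))))
(Tr.nd (nat_lit 83449) (Tr.nd (nat_lit 83407) (Tr.lf (nat_lit 83401))
(Tr.nd (nat_lit 83417) (Tr.lf (nat_lit 83407))
(Tr.lf (nat_lit 83417))))
(Tr.nd (nat_lit 83459) (Tr.lf (nat_lit 83449))
(Tr.nd (nat_lit 83471) (Tr.lf (nat_lit 83459))
(Tr.lf (nat_lit 83471))))))))
(Tr.nd (nat_lit 83891) (Tr.nd (nat_lit 83663) (Tr.nd (nat_lit 83563) (Tr.nd (nat_lit 83537) (Tr.nd (nat_lit 83497) (Tr.lf (nat_lit 83477))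
(Tr.lf (nat_lit 83497)))
(Tr.nd (nat_lit 83557) (Tr.lf (nat_lit 83537))
(Tr.nd (nat_lit 83561) (Tr.lf (nat_lit 83557))
(Tr.lf (nat_lit 83561)))))
(Tr.nd (nat_lit 83639) (Tr.nd (nat_lit 83617) (Tr.lf (nat_lit 83563))
(Tr.nd (nat_lit 83621) (Tr.lf (nat_lit 83617))
(Tr.lf (nat_lit 83621))))
(Tr.nd (nat_lit 83641) (Tr.lf (nat_lit 83639))
(Tr.nd (nat_lit 83653) (Tr.lf (nat_lit 83641))
(Tr.lf (nat_lit 83653))))))
(Tr.nd (nat_lit 83737) (Tr.nd (nat_lit 83701) (Tr.nd (nat_lit 83689) (Tr.lf (nat_lit 83663))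
(Tr.lf (nat_lit 83689)))
(Tr.nd (nat_lit 83717) (Tr.lf (nat_lit 83701))
(Tr.nd (nat_lit 83719) (Tr.lf (nat_lit 83717))
(Tr.lf (nat_lit 83719)))))
(Tr.nd (nat_lit 83777) (Tr.nd (nat_lit 83761) (Tr.lf (nat_lit 83737))
(Tr.nd (nat_lit 83773) (Tr.lf (nat_lit 83761))
(Tr.lf (nat_lit 83773))))
(Tr.nd (nat_lit 83791) (Tr.lf (nat_lit 83777))
(Tr.nd (nat_lit 83813) (Tr.lf (nat_lit 83791))
(Tr.lf (nat_lit 83813)))))))
(Tr.nd (nat_lit 84053) (Tr.nd (nat_lit 83939) (Tr.nd (nat_lit 83911) (Tr.nd (nat_lit 83903) (Tr.lf (nat_lit 83891))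
(Tr.lf (nat_lit 83903)))
(Tr.nd (nat_lit 83921) (Tr.lf (nat_lit 83911))
(Tr.nd (nat_lit 83933) (Tr.lf (nat_lit 83921))
(Tr.lf (nat_lit 83933)))))
(Tr.nd (nat_lit 84011) (Tr.nd (nat_lit 83969) (Tr.lf (nat_lit 83939))
(Tr.nd (nat_lit 83983) (Tr.lf (nat_lit 83969))
(Tr.lf (nat_lit 83983))))
(Tr.nd (nat_lit 84017) (Tr.lf (nat_lit 84011))
(Tr.nd (nat_lit 84047) (Tr.lf (nat_lit 84017))
(Tr.lf (nat_lit 84047))))))
(Tr.nd (nat_lit 84121) (Tr.nd (nat_lit 84061) (Tr.nd (nat_lit 84059) (Tr.lf (nat_lit 84053))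
(Tr.lf (nat_lit 84059)))
(Tr.nd (nat_lit 84067) (Tr.lf (nat_lit 84061))
(Tr.nd (nat_lit 84089) (Tr.lf (nat_lit 84067))
(Tr.lf (nat_lit 84089)))))
(Tr.nd (nat_lit 84137) (Tr.nd (nat_lit 84127) (Tr.lf (nat_lit 84121))
(Tr.nd (nat_lit 84131) (Tr.lf (nat_lit 84127))
(Tr.lf (nat_lit 84131))))
(Tr.nd (nat_lit 84143) (Tr.lf (nat_lit 84137))
(Tr.nd (nat_lit 84163) (Tr.lf (nat_lit 84143))
(Tr.lf (nat_lit 84163)))))))))
(Tr.nd (nat_lit 84719) (Tr.nd (nat_lit 84437) (Tr.nd (nat_lit 84317) (Tr.nd (nat_lit 84239) (Tr.nd (nat_lit 84191) (Tr.nd (nat_lit 84181) (Tr.lf (nat_lit 84179))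
(Tr.lf (nat_lit 84181)))
(Tr.nd (nat_lit 84199) (Tr.lf (nat_lit 84191))
(Tr.nd (nat_lit 84211) (Tr.lf (nat_lit 84199))
(Tr.lf (nat_lit 84211)))))
(Tr.nd (nat_lit 84299) (Tr.nd (nat_lit 84247) (Tr.lf (nat_lit 84239))
(Tr.nd (nat_lit 84263) (Tr.lf (nat_lit 84247))
(Tr.lf (nat_lit 84263))))
(Tr.nd (nat_lit 84307) (Tr.lf (nat_lit 84299))
(Tr.nd (nat_lit 84313) (Tr.lf (nat_lit 84307))
(Tr.lf (nat_lit 84313))))))
(Tr.nd (nat_lit 84389) (Tr.nd (nat_lit 84347) (Tr.nd (nat_lit 84319) (Tr.lf (nat_lit 84317))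
(Tr.lf (nat_lit 84319)))
(Tr.nd (nat_lit 84349) (Tr.lf (nat_lit 84347))
(Tr.nd (nat_lit 84377) (Tr.lf (nat_lit 84349))
(Tr.lf (nat_lit 84377)))))
(Tr.nd (nat_lit 84407) (Tr.nd (nat_lit 84391) (Tr.lf (nat_lit 84389))
(Tr.nd (nat_lit 84401) (Tr.lf (nat_lit 84391))
(Tr.lf (nat_lit 84401))))
(Tr.nd (nat_lit 84421) (Tr.lf (nat_lit 84407))
(Tr.nd (nat_lit 84431) (Tr.lf (nat_lit 84421))
(Tr.lf (nat_lit 84431)))))))
(Tr.nd (nat_lit 84523) (Tr.nd (nat_lit 84467) (Tr.nd (nat_lit 84449) (Tr.nd (nat_lit 84443) (Tr.lf (nat_lit 84437))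
(Tr.lf (nat_lit 84443)))
(Tr.nd (nat_lit 84457) (Tr.lf (nat_lit 84449))
(Tr.nd (nat_lit 84463) (Tr.lf (nat_lit 84457))
(Tr.lf (nat_lit 84463)))))
(Tr.nd (nat_lit 84503) (Tr.nd (nat_lit 84481) (Tr.lf (nat_lit 84467))
(Tr.nd (nat_lit 84499) (Tr.lf (nat_lit 84481))
(Tr.lf (nat_lit 84499))))
(Tr.nd (nat_lit 84509) (Tr.lf (nat_lit 84503))
(Tr.nd (nat_lit 84521) (Tr.lf (nat_lit 84509))
(Tr.lf (nat_lit 84521))))))
(Tr.nd (nat_lit 84629) (Tr.nd (nat_lit 84551) (Tr.nd (nat_lit 84533) (Tr.lf (nat_lit 84523))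
(Tr.lf (nat_lit 84533)))
(Tr.nd (nat_lit 84559) (Tr.lf (nat_lit 84551))
(Tr.nd (nat_lit 84589) (Tr.lf (nat_lit 84559))
(Tr.lf (nat_lit 84589)))))
(Tr.nd (nat_lit 84653) (Tr.nd (nat_lit 84631) (Tr.lf (nat_lit 84629))
(Tr.nd (nat_lit 84649) (Tr.lf (nat_lit 84631))
(Tr.lf (nat_lit 84649))))
(Tr.nd (nat_lit 84701) (Tr.lf (nat_lit 84653))
(Tr.nd (nat_lit 84713) (Tr.lf (nat_lit 84701))
(Tr.lf (nat_lit 84713))))))))
(Tr.nd (nat_lit 85103) (Tr.nd (nat_lit 84967) (Tr.nd (nat_lit 84811) (Tr.nd (nat_lit 84787) (Tr.nd (nat_lit 84761) (Tr.lf (nat_lit 84719))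
(Tr.lf (nat_lit 84761)))
(Tr.nd (nat_lit 84793) (Tr.lf (nat_lit 84787))
(Tr.nd (nat_lit 84809) (Tr.lf (nat_lit 84793))
(Tr.lf (nat_lit 84809)))))
(Tr.nd (nat_lit 84859) (Tr.nd (nat_lit 84827) (Tr.lf (nat_lit 84811))
(Tr.nd (nat_lit 84857) (Tr.lf (nat_lit 84827))
(Tr.lf (nat_lit 84857))))
(Tr.nd (nat_lit 84869) (Tr.lf (nat_lit 84859))
(Tr.nd (nat_lit 84871) (Tr.lf (nat_lit 84869))
(Tr.lf (nat_lit 84871))))))
(Tr.nd (nat_lit 85027) (Tr.nd (nat_lit 84979) (Tr.nd (nat_lit 84977) (Tr.lf (nat_lit 84967))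
(Tr.lf (nat_lit 84977)))
(Tr.nd (nat_lit 85009) (Tr.lf (nat_lit 84979))
(Tr.nd (nat_lit 85021) (Tr.lf (nat_lit 85009))
(Tr.lf (nat_lit 85021)))))
(Tr.nd (nat_lit 85061) (Tr.nd (nat_lit 85037) (Tr.lf (nat_lit 85027))
(Tr.nd (nat_lit 85049) (Tr.lf (nat_lit 85037))
(Tr.lf (nat_lit 85049))))
(Tr.nd (nat_lit 85081) (Tr.lf (nat_lit 85061))
(Tr.nd (nat_lit 85087) (Tr.lf (nat_lit 85081))
(Tr.lf (nat_lit 85087)))))))
(Tr.nd (nat_lit 85229) (Tr.nd (nat_lit 85159) (Tr.nd (nat_lit 85121) (Tr.nd (nat_lit 85109) (Tr.lf (nat_lit 85103))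
(Tr.lf (nat_lit 85109)))
(Tr.nd (nat_lit 85133) (Tr.lf (nat_lit 85121))
(Tr.nd (nat_lit 85147) (Tr.lf (nat_lit 85133))
(Tr.lf (nat_lit 85147)))))
(Tr.nd (nat_lit 85201) (Tr.nd (nat_lit 85193) (Tr.lf (nat_lit 85159))
(Tr.nd (nat_lit 85199) (Tr.lf (nat_lit 85193))
(Tr.lf (nat_lit 85199))))
(Tr.nd (nat_lit 85213) (Tr.lf (nat_lit 85201))
(Tr.nd (nat_lit 85223) (Tr.lf (nat_lit 85213))
(Tr.lf (nat_lit 85223))))))
(Tr.nd (nat_lit 85361) (Tr.nd (nat_lit 85243) (Tr.nd (nat_lit 85237) (Tr.lf (nat_lit 85229))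
(Tr.lf (nat_lit 85237)))
(Tr.nd (nat_lit 85247) (Tr.lf (nat_lit 85243))
(Tr.nd (nat_lit 85259) (Tr.lf (nat_lit 85247))
(Tr.lf (nat_lit 85259)))))
(Tr.nd (nat_lit 85381) (Tr.nd (nat_lit 85363) (Tr.lf (nat_lit 85361))
(Tr.nd (nat_lit 85369) (Tr.lf (nat_lit 85363))
(Tr.lf (nat_lit 85369))))
(Tr.nd (nat_lit 85411) (Tr.lf (nat_lit 85381))
(Tr.nd (nat_lit 85427) (Tr.lf (nat_lit 85411))
(Tr.lf (nat_lit 85427))))))))))
(Tr.nd (nat_lit 86693) (Tr.nd (nat_lit 86179) (Tr.nd (nat_lit 85793) (Tr.nd (nat_lit 85643) (Tr.nd (nat_lit 85549) (Tr.nd (nat_lit 85517) (Tr.nd (nat_lit 85439) (Tr.lf (nat_lit 85429))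
(Tr.lf (nat_lit 85439)))
(Tr.nd (nat_lit 85523) (Tr.lf (nat_lit 85517))
(Tr.nd (nat_lit 85531) (Tr.lf (nat_lit 85523))
(Tr.lf (nat_lit 85531)))))
(Tr.nd (nat_lit 85621) (Tr.nd (nat_lit 85571) (Tr.lf (nat_lit 85549))
(Tr.nd (nat_lit 85577) (Tr.lf (nat_lit 85571))
(Tr.lf (nat_lit 85577))))
(Tr.nd (nat_lit 85627) (Tr.lf (nat_lit 85621))
(Tr.nd (nat_lit 85639) (Tr.lf (nat_lit 85627))
(Tr.lf (nat_lit 85639))))))
(Tr.nd (nat_lit 85703) (Tr.nd (nat_lit 85667) (Tr.nd (nat_lit 85661) (Tr.lf (nat_lit 85643))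
(Tr.lf (nat_lit 85661)))
(Tr.nd (nat_lit 85669) (Tr.lf (nat_lit 85667))
(Tr.nd (nat_lit 85691) (Tr.lf (nat_lit 85669))
(Tr.lf (nat_lit 85691)))))
(Tr.nd (nat_lit 85733) (Tr.nd (nat_lit 85711) (Tr.lf (nat_lit 85703))
(Tr.nd (nat_lit 85717) (Tr.lf (nat_lit 85711))
(Tr.lf (nat_lit 85717))))
(Tr.nd (nat_lit 85751) (Tr.lf (nat_lit 85733))
(Tr.nd (nat_lit 85781) (Tr.lf (nat_lit 85751))
(Tr.lf (nat_lit 85781)))))))
(Tr.nd (nat_lit 86011) (Tr.nd (nat_lit 85903) (Tr.nd (nat_lit 85847) (Tr.nd (nat_lit 85817) (Tr.lf (nat_lit 85793))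
(Tr.lf (nat_lit 85817)))
(Tr.nd (nat_lit 85853) (Tr.lf (nat_lit 85847))
(Tr.nd (nat_lit 85889) (Tr.lf (nat_lit 85853))
(Tr.lf (nat_lit 85889)))))
(Tr.nd (nat_lit 85933) (Tr.nd (nat_lit 85909) (Tr.lf (nat_lit 85903))
(Tr.nd (nat_lit 85931) (Tr.lf (nat_lit 85909))
(Tr.lf (nat_lit 85931))))
(Tr.nd (nat_lit 85991) (Tr.lf (nat_lit 85933))
(Tr.nd (nat_lit 85999) (Tr.lf (nat_lit 85991))
(Tr.lf (nat_lit 85999))))))
(Tr.nd (nat_lit 86077) (Tr.nd (nat_lit 86027) (Tr.nd (nat_lit 86017) (Tr.lf (nat_lit 86011))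
(Tr.lf (nat_lit 86017)))
(Tr.nd (nat_lit 86029) (Tr.lf (nat_lit 86027))
(Tr.nd (nat_lit 86069) (Tr.lf (nat_lit 86029))
(Tr.lf (nat_lit 86069)))))
(Tr.nd (nat_lit 86143) (Tr.nd (nat_lit 86131) (Tr.lf (nat_lit 86077))
(Tr.nd (nat_lit 86137) (Tr.lf (nat_lit 86131))
(Tr.lf (nat_lit 86137))))
(Tr.nd (nat_lit 86161) (Tr.lf (nat_lit 86143))
(Tr.nd (nat_lit 86171) (Tr.lf (nat_lit 86161))
(Tr.lf (nat_lit 86171))))))))
(Tr.nd (nat_lit 86399) (Tr.nd (nat_lit 86287) (Tr.nd (nat_lit 86239) (Tr.nd (nat_lit 86197) (Tr.nd (nat_lit 86183) (Tr.lf (nat_lit 86179))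
(Tr.lf (nat_lit 86183)))
(Tr.nd (nat_lit 86201) (Tr.lf (nat_lit 86197))
(Tr.nd (nat_lit 86209) (Tr.lf (nat_lit 86201))
(Tr.lf (nat_lit 86209)))))
(Tr.nd (nat_lit 86257) (Tr.nd (nat_lit 86243) (Tr.lf (nat_lit 86239))
(Tr.nd (nat_lit 86249) (Tr.lf (nat_lit 86243))
(Tr.lf (nat_lit 86249))))
(Tr.nd (nat_lit 86263) (Tr.lf (nat_lit 86257))
(Tr.nd (nat_lit 86269) (Tr.lf (nat_lit 86263))
(Tr.lf (nat_lit 86269))))))
(Tr.nd (nat_lit 86323) (Tr.nd (nat_lit 86293) (Tr.nd (nat_lit 86291) (Tr.lf (nat_lit 86287))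
(Tr.lf (nat_lit 86291)))
(Tr.nd (nat_lit 86297) (Tr.lf (nat_lit 86293))
(Tr.nd (nat_lit 86311) (Tr.lf (nat_lit 86297))
(Tr.lf (nat_lit 86311)))))
(Tr.nd (nat_lit 86371) (Tr.nd (nat_lit 86357) (Tr.lf (nat_lit 86323))
(Tr.nd (nat_lit 86369) (Tr.lf (nat_lit 86357))
(Tr.lf (nat_lit 86369))))
(Tr.nd (nat_lit 86381) (Tr.lf (nat_lit 86371))
(Tr.nd (nat_lit 86389) (Tr.lf (nat_lit 86381))
(Tr.lf (nat_lit 86389)))))))
(Tr.nd (nat_lit 86531) (Tr.nd (nat_lit 86461) (Tr.nd (nat_lit 86423) (Tr.nd (nat_lit 86413) (Tr.lf (nat_lit 86399))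
(Tr.lf (nat_lit 86413)))
(Tr.nd (nat_lit 86441) (Tr.lf (nat_lit 86423))
(Tr.nd (nat_lit 86453) (Tr.lf (nat_lit 86441))
(Tr.lf (nat_lit 86453)))))
(Tr.nd (nat_lit 86491) (Tr.nd (nat_lit 86467) (Tr.lf (nat_lit 86461))
(Tr.nd (nat_lit 86477) (Tr.lf (nat_lit 86467))
(Tr.lf (nat_lit 86477))))
(Tr.nd (nat_lit 86501) (Tr.lf (nat_lit 86491))
(Tr.nd (nat_lit 86509) (Tr.lf (nat_lit 86501))
(Tr.lf (nat_lit 86509))))))
(Tr.nd (nat_lit 86579) (Tr.nd (nat_lit 86539) (Tr.nd (nat_lit 86533) (Tr.lf (nat_lit 86531))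
(Tr.lf (nat_lit 86533)))
(Tr.nd (nat_lit 86561) (Tr.lf (nat_lit 86539))
(Tr.nd (nat_lit 86573) (Tr.lf (nat_lit 86561))
(Tr.lf (nat_lit 86573)))))
(Tr.nd (nat_lit 86627) (Tr.nd (nat_lit 86587) (Tr.lf (nat_lit 86579))
(Tr.nd (nat_lit 86599) (Tr.lf (nat_lit 86587))
(Tr.lf (nat_lit 86599))))
(Tr.nd (nat_lit 86629) (Tr.lf (nat_lit 86627))
(Tr.nd (nat_lit 86689) (Tr.lf (nat_lit 86629))
(Tr.lf (nat_lit 86689)))))))))
(Tr.nd (nat_lit 87293) (Tr.nd (nat_lit 86969) (Tr.nd (nat_lit 86843) (Tr.nd (nat_lit 86753) (Tr.nd (nat_lit 86719) (Tr.nd (nat_lit 86711) (Tr.lf (nat_lit 86693))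
(Tr.lf (nat_lit 86711)))
(Tr.nd (nat_lit 86729) (Tr.lf (nat_lit 86719))
(Tr.nd (nat_lit 86743) (Tr.lf (nat_lit 86729))
(Tr.lf (nat_lit 86743)))))
(Tr.nd (nat_lit 86783) (Tr.nd (nat_lit 86767) (Tr.lf (nat_lit 86753))
(Tr.nd (nat_lit 86771) (Tr.lf (nat_lit 86767))
(Tr.lf (nat_lit 86771))))
(Tr.nd (nat_lit 86813) (Tr.lf (nat_lit 86783))
(Tr.nd (nat_lit 86837) (Tr.lf (nat_lit 86813))
(Tr.lf (nat_lit 86837))))))
(Tr.nd (nat_lit 86923) (Tr.nd (nat_lit 86857) (Tr.nd (nat_lit 86851) (Tr.lf (nat_lit 86843))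
(Tr.lf (nat_lit 86851)))
(Tr.nd (nat_lit 86861) (Tr.lf (nat_lit 86857))
(Tr.nd (nat_lit 86869) (Tr.lf (nat_lit 86861))
(Tr.lf (nat_lit 86869)))))
(Tr.nd (nat_lit 86939) (Tr.nd (nat_lit 86927) (Tr.lf (nat_lit 86923))
(Tr.nd (nat_lit 86929) (Tr.lf (nat_lit 86927))
(Tr.lf (nat_lit 86929))))
(Tr.nd (nat_lit 86951) (Tr.lf (nat_lit 86939))
(Tr.nd (nat_lit 86959) (Tr.lf (nat_lit 86951))
(Tr.lf (nat_lit 86959)))))))
(Tr.nd (nat_lit 87149) (Tr.nd (nat_lit 87037) (Tr.nd (nat_lit 86993) (Tr.nd (nat_lit 86981) (Tr.lf (nat_lit 86969))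
(Tr.lf (nat_lit 86981)))
(Tr.nd (nat_lit 87011) (Tr.lf (nat_lit 86993))
(Tr.nd (nat_lit 87013) (Tr.lf (nat_lit 87011))
(Tr.lf (nat_lit 87013)))))
(Tr.nd (nat_lit 87119) (Tr.nd (nat_lit 87041) (Tr.lf (nat_lit 87037))
(Tr.nd (nat_lit 87107) (Tr.lf (nat_lit 87041))
(Tr.lf (nat_lit 87107))))
(Tr.nd (nat_lit 87121) (Tr.lf (nat_lit 87119))
(Tr.nd (nat_lit 87133) (Tr.lf (nat_lit 87121))
(Tr.lf (nat_lit 87133))))))
(Tr.nd (nat_lit 87223) (Tr.nd (nat_lit 87187) (Tr.nd (nat_lit 87181) (Tr.lf (nat_lit 87149))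
(Tr.lf (nat_lit 87181)))
(Tr.nd (nat_lit 87211) (Tr.lf (nat_lit 87187))
(Tr.nd (nat_lit 87221) (Tr.lf (nat_lit 87211))
(Tr.lf (nat_lit 87221)))))
(Tr.nd (nat_lit 87257) (Tr.nd (nat_lit 87251) (Tr.lf (nat_lit 87223))
(Tr.nd (nat_lit 87253) (Tr.lf (nat_lit 87251))
(Tr.lf (nat_lit 87253))))
(Tr.nd (nat_lit 87277) (Tr.lf (nat_lit 87257))
(Tr.nd (nat_lit 87281) (Tr.lf (nat_lit 87277))
(Tr.lf (nat_lit 87281))))))))
(Tr.nd (nat_lit 87587) (Tr.nd (nat_lit 87491) (Tr.nd (nat_lit 87337) (Tr.nd (nat_lit 87313) (Tr.nd (nat_lit 87299) (Tr.lf (nat_lit 87293))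
(Tr.lf (nat_lit 87299)))
(Tr.nd (nat_lit 87317) (Tr.lf (nat_lit 87313))
(Tr.nd (nat_lit 87323) (Tr.lf (nat_lit 87317))
(Tr.lf (nat_lit 87323)))))
(Tr.nd (nat_lit 87443) (Tr.nd (nat_lit 87427) (Tr.lf (nat_lit 87337))
(Tr.nd (nat_lit 87433) (Tr.lf (nat_lit 87427))
(Tr.lf (nat_lit 87433))))
(Tr.nd (nat_lit 87473) (Tr.lf (nat_lit 87443))
(Tr.nd (nat_lit 87481) (Tr.lf (nat_lit 87473))
(Tr.lf (nat_lit 87481))))))
(Tr.nd (nat_lit 87539) (Tr.nd (nat_lit 87511) (Tr.nd (nat_lit 87509) (Tr.lf (nat_lit 87491))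
(Tr.lf (nat_lit 87509)))
(Tr.nd (nat_lit 87517) (Tr.lf (nat_lit 87511))
(Tr.nd (nat_lit 87523) (Tr.lf (nat_lit 87517))
(Tr.lf (nat_lit 87523)))))
(Tr.nd (nat_lit 87553) (Tr.nd (nat_lit 87541) (Tr.lf (nat_lit 87539))
(Tr.nd (nat_lit 87547) (Tr.lf (nat_lit 87541))
(Tr.lf (nat_lit 87547))))
(Tr.nd (nat_lit 87557) (Tr.lf (nat_lit 87553))
(Tr.nd (nat_lit 87559) (Tr.lf (nat_lit 87557))
(Tr.lf (nat_lit 87559)))))))
(Tr.nd (nat_lit 87683) (Tr.nd (nat_lit 87631) (Tr.nd (nat_lit 87613) (Tr.nd (nat_lit 87589) (Tr.lf (nat_lit 87587))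
(Tr.lf (nat_lit 87589)))
(Tr.nd (nat_lit 87623) (Tr.lf (nat_lit 87613))
(Tr.nd (nat_lit 87629) (Tr.lf (nat_lit 87623))
(Tr.lf (nat_lit 87629)))))
(Tr.nd (nat_lit 87649) (Tr.nd (nat_lit 87641) (Tr.lf (nat_lit 87631))
(Tr.nd (nat_lit 87643) (Tr.lf (nat_lit 87641))
(Tr.lf (nat_lit 87643))))
(Tr.nd (nat_lit 87671) (Tr.lf (nat_lit 87649))
(Tr.nd (nat_lit 87679) (Tr.lf (nat_lit 87671))
(Tr.lf (nat_lit 87679))))))
(Tr.nd (nat_lit 87721) (Tr.nd (nat_lit 87697) (Tr.nd (nat_lit 87691) (Tr.lf (nat_lit 87683))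
(Tr.lf (nat_lit 87691)))
(Tr.nd (nat_lit 87701) (Tr.lf (nat_lit 87697))
(Tr.nd (nat_lit 87719) (Tr.lf (nat_lit 87701))
(Tr.lf (nat_lit 87719)))))
(Tr.nd (nat_lit 87751) (Tr.nd (nat_lit 87739) (Tr.lf (nat_lit 87721))
(Tr.nd (nat_lit 87743) (Tr.lf (nat_lit 87739))
(Tr.lf (nat_lit 87743))))
(Tr.nd (nat_lit 87767) (Tr.lf (nat_lit 87751))
(Tr.nd (nat_lit 87793) (Tr.lf (nat_lit 87767))
(Tr.lf (nat_lit 87793)))))))))))))
(Tr.nd (nat_lit 96827) (Tr.nd (nat_lit 92489) (Tr.nd (nat_lit 90203) (Tr.nd (nat_lit 89137) (Tr.nd (nat_lit 88663) (Tr.nd (nat_lit 88289) (Tr.nd (nat_lit 88019) (Tr.nd (nat_lit 87917) (Tr.nd (nat_lit 87881) (Tr.nd (nat_lit 87803) (Tr.lf (nat_lit 87797))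
(Tr.lf (nat_lit 87803)))
(Tr.nd (nat_lit 87887) (Tr.lf (nat_lit 87881))
(Tr.nd (nat_lit 87911) (Tr.lf (nat_lit 87887))
(Tr.lf (nat_lit 87911)))))
(Tr.nd (nat_lit 88001) (Tr.nd (nat_lit 87931) (Tr.lf (nat_lit 87917))
(Tr.nd (nat_lit 87959) (Tr.lf (nat_lit 87931))
(Tr.lf (nat_lit 87959))))
(Tr.nd (nat_lit 88003) (Tr.lf (nat_lit 88001))
(Tr.nd (nat_lit 88007) (Tr.lf (nat_lit 88003))
(Tr.lf (nat_lit 88007))))))
(Tr.nd (nat_lit 88211) (Tr.nd (nat_lit 88069) (Tr.nd (nat_lit 88037) (Tr.lf (nat_lit 88019))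
(Tr.lf (nat_lit 88037)))
(Tr.nd (nat_lit 88079) (Tr.lf (nat_lit 88069))
(Tr.nd (nat_lit 88093) (Tr.lf (nat_lit 88079))
(Tr.lf (nat_lit 88093)))))
(Tr.nd (nat_lit 88241) (Tr.nd (nat_lit 88223) (Tr.lf (nat_lit 88211))
(Tr.nd (nat_lit 88237) (Tr.lf (nat_lit 88223))
(Tr.lf (nat_lit 88237))))
(Tr.nd (nat_lit 88259) (Tr.lf (nat_lit 88241))
(Tr.nd (nat_lit 88261) (Tr.lf (nat_lit 88259))
(Tr.lf (nat_lit 88261)))))))
(Tr.nd (nat_lit 88463) (Tr.nd (nat_lit 88339) (Tr.nd (nat_lit 88321) (Tr.nd (nat_lit 88301) (Tr.lf (nat_lit 88289))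
(Tr.lf (nat_lit 88301)))
(Tr.nd (nat_lit 88327) (Tr.lf (nat_lit 88321))
(Tr.nd (nat_lit 88337) (Tr.lf (nat_lit 88327))
(Tr.lf (nat_lit 88337)))))
(Tr.nd (nat_lit 88411) (Tr.nd (nat_lit 88379) (Tr.lf (nat_lit 88339))
(Tr.nd (nat_lit 88397) (Tr.lf (nat_lit 88379))
(Tr.lf (nat_lit 88397))))
(Tr.nd (nat_lit 88423) (Tr.lf (nat_lit 88411))
(Tr.nd (nat_lit 88427) (Tr.lf (nat_lit 88423))
(Tr.lf (nat_lit 88427))))))
(Tr.nd (nat_lit 88513) (Tr.nd (nat_lit 88471) (Tr.nd (nat_lit 88469) (Tr.lf (nat_lit 88463))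
(Tr.lf (nat_lit 88469)))
(Tr.nd (nat_lit 88493) (Tr.lf (nat_lit 88471))
(Tr.nd (nat_lit 88499) (Tr.lf (nat_lit 88493))
(Tr.lf (nat_lit 88499)))))
(Tr.nd (nat_lit 88651) (Tr.nd (nat_lit 88523) (Tr.lf (nat_lit 88513))
(Tr.nd (nat_lit 88643) (Tr.lf (nat_lit 88523))
(Tr.lf (nat_lit 88643))))
(Tr.nd (nat_lit 88657) (Tr.lf (nat_lit 88651))
(Tr.nd (nat_lit 88661) (Tr.lf (nat_lit 88657))
(Tr.lf (nat_lit 88661))))))))
(Tr.nd (nat_lit 88903) (Tr.nd (nat_lit 88801) (Tr.nd (nat_lit 88741) (Tr.nd (nat_lit 88681) (Tr.nd (nat_lit 88667) (Tr.lf (nat_lit 88663))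
(Tr.lf (nat_lit 88667)))
(Tr.nd (nat_lit 88721) (Tr.lf (nat_lit 88681))
(Tr.nd (nat_lit 88729) (Tr.lf (nat_lit 88721))
(Tr.lf (nat_lit 88729)))))
(Tr.nd (nat_lit 88789) (Tr.nd (nat_lit 88747) (Tr.lf (nat_lit 88741))
(Tr.nd (nat_lit 88771) (Tr.lf (nat_lit 88747))
(Tr.lf (nat_lit 88771))))
(Tr.nd (nat_lit 88793) (Tr.lf (nat_lit 88789))
(Tr.nd (nat_lit 88799) (Tr.lf (nat_lit 88793))
(Tr.lf (nat_lit 88799))))))
(Tr.nd (nat_lit 88853) (Tr.nd (nat_lit 88817) (Tr.nd (nat_lit 88807) (Tr.lf (nat_lit 88801))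
(Tr.lf (nat_lit 88807)))
(Tr.nd (nat_lit 88819) (Tr.lf (nat_lit 88817))
(Tr.nd (nat_lit 88843) (Tr.lf (nat_lit 88819))
(Tr.lf (nat_lit 88843)))))
(Tr.nd (nat_lit 88873) (Tr.nd (nat_lit 88861) (Tr.lf (nat_lit 88853))
(Tr.nd (nat_lit 88867) (Tr.lf (nat_lit 88861))
(Tr.lf (nat_lit 88867))))
(Tr.nd (nat_lit 88883) (Tr.lf (nat_lit 88873))
(Tr.nd (nat_lit 88897) (Tr.lf (nat_lit 88883))
(Tr.lf (nat_lit 88897)))))))
(Tr.nd (nat_lit 89041) (Tr.nd (nat_lit 88993) (Tr.nd (nat_lit 88937) (Tr.nd (nat_lit 88919) (Tr.lf (nat_lit 88903))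
(Tr.lf (nat_lit 88919)))
(Tr.nd (nat_lit 88951) (Tr.lf (nat_lit 88937))
(Tr.nd (nat_lit 88969) (Tr.lf (nat_lit 88951))
(Tr.lf (nat_lit 88969)))))
(Tr.nd (nat_lit 89009) (Tr.nd (nat_lit 88997) (Tr.lf (nat_lit 88993))
(Tr.nd (nat_lit 89003) (Tr.lf (nat_lit 88997))
(Tr.lf (nat_lit 89003))))
(Tr.nd (nat_lit 89017) (Tr.lf (nat_lit 89009))
(Tr.nd (nat_lit 89021) (Tr.lf (nat_lit 89017))
(Tr.lf (nat_lit 89021))))))
(Tr.nd (nat_lit 89087) (Tr.nd (nat_lit 89057) (Tr.nd (nat_lit 89051) (Tr.lf (nat_lit 89041))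
(Tr.lf (nat_lit 89051)))
(Tr.nd (nat_lit 89069) (Tr.lf (nat_lit 89057))
(Tr.nd (nat_lit 89083) (Tr.lf (nat_lit 89069))
(Tr.lf (nat_lit 89083)))))
(Tr.nd (nat_lit 89113) (Tr.nd (nat_lit 89101) (Tr.lf (nat_lit 89087))
(Tr.nd (nat_lit 89107) (Tr.lf (nat_lit 89101))
(Tr.lf (nat_lit 89107))))
(Tr.nd (nat_lit 89119) (Tr.lf (nat_lit 89113))
(Tr.nd (nat_lit 89123) (Tr.lf (nat_lit 89119))
(Tr.lf (nat_lit 89123)))))))))
(Tr.nd (nat_lit 89669) (Tr.nd (nat_lit 89413) (Tr.nd (nat_lit 89273) (Tr.nd (nat_lit 89213) (Tr.nd (nat_lit 89189) (Tr.nd (nat_lit 89153) (Tr.lf (nat_lit 89137))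
(Tr.lf (nat_lit 89153)))
(Tr.nd (nat_lit 89203) (Tr.lf (nat_lit 89189))
(Tr.nd (nat_lit 89209) (Tr.lf (nat_lit 89203))
(Tr.lf (nat_lit 89209)))))
(Tr.nd (nat_lit 89237) (Tr.nd (nat_lit 89227) (Tr.lf (nat_lit 89213))
(Tr.nd (nat_lit 89231) (Tr.lf (nat_lit 89227))
(Tr.lf (nat_lit 89231))))
(Tr.nd (nat_lit 89261) (Tr.lf (nat_lit 89237))
(Tr.nd (nat_lit 89269) (Tr.lf (nat_lit 89261))
(Tr.lf (nat_lit 89269))))))
(Tr.nd (nat_lit 89363) (Tr.nd (nat_lit 89303) (Tr.nd (nat_lit 89293) (Tr.lf (nat_lit 89273))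
(Tr.lf (nat_lit 89293)))
(Tr.nd (nat_lit 89317) (Tr.lf (nat_lit 89303))
(Tr.nd (nat_lit 89329) (Tr.lf (nat_lit 89317))
(Tr.lf (nat_lit 89329)))))
(Tr.nd (nat_lit 89387) (Tr.nd (nat_lit 89371) (Tr.lf (nat_lit 89363))
(Tr.nd (nat_lit 89381) (Tr.lf (nat_lit 89371))
(Tr.lf (nat_lit 89381))))
(Tr.nd (nat_lit 89393) (Tr.lf (nat_lit 89387))
(Tr.nd (nat_lit 89399) (Tr.lf (nat_lit 89393))
(Tr.lf (nat_lit 89399)))))))
(Tr.nd (nat_lit 89527) (Tr.nd (nat_lit 89459) (Tr.nd (nat_lit 89431) (Tr.nd (nat_lit 89417) (Tr.lf (nat_lit 89413))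
(Tr.lf (nat_lit 89417)))
(Tr.nd (nat_lit 89443) (Tr.lf (nat_lit 89431))
(Tr.nd (nat_lit 89449) (Tr.lf (nat_lit 89443))
(Tr.lf (nat_lit 89449)))))
(Tr.nd (nat_lit 89501) (Tr.nd (nat_lit 89477) (Tr.lf (nat_lit 89459))
(Tr.nd (nat_lit 89491) (Tr.lf (nat_lit 89477))
(Tr.lf (nat_lit 89491))))
(Tr.nd (nat_lit 89513) (Tr.lf (nat_lit 89501))
(Tr.nd (nat_lit 89521) (Tr.lf (nat_lit 89513))
(Tr.lf (nat_lit 89521))))))
(Tr.nd (nat_lit 89591) (Tr.nd (nat_lit 89561) (Tr.nd (nat_lit 89533) (Tr.lf (nat_lit 89527))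
(Tr.lf (nat_lit 89533)))
(Tr.nd (nat_lit 89563) (Tr.lf (nat_lit 89561))
(Tr.nd (nat_lit 89567) (Tr.lf (nat_lit 89563))
(Tr.lf (nat_lit 89567)))))
(Tr.nd (nat_lit 89603) (Tr.nd (nat_lit 89597) (Tr.lf (nat_lit 89591))
(Tr.nd (nat_lit 89599) (Tr.lf (nat_lit 89597))
(Tr.lf (nat_lit 89599))))
(Tr.nd (nat_lit 89611) (Tr.lf (nat_lit 89603))
(Tr.nd (nat_lit 89627) (Tr.lf (nat_lit 89611))
(Tr.lf (nat_lit 89627))))))))
(Tr.nd (nat_lit 89959) (Tr.nd (nat_lit 89833) (Tr.nd (nat_lit 89759) (Tr.nd (nat_lit 89681) (Tr.nd (nat_lit 89671) (Tr.lf (nat_lit 89669))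
(Tr.lf (nat_lit 89671)))
(Tr.nd (nat_lit 89689) (Tr.lf (nat_lit 89681))
(Tr.nd (nat_lit 89753) (Tr.lf (nat_lit 89689))
(Tr.lf (nat_lit 89753)))))
(Tr.nd (nat_lit 89809) (Tr.nd (nat_lit 89783) (Tr.lf (nat_lit 89759))
(Tr.nd (nat_lit 89797) (Tr.lf (nat_lit 89783))
(Tr.lf (nat_lit 89797))))
(Tr.nd (nat_lit 89819) (Tr.lf (nat_lit 89809))
(Tr.nd (nat_lit 89821) (Tr.lf (nat_lit 89819))
(Tr.lf (nat_lit 89821))))))
(Tr.nd (nat_lit 89897) (Tr.nd (nat_lit 89849) (Tr.nd (nat_lit 89839) (Tr.lf (nat_lit 89833))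
(Tr.lf (nat_lit 89839)))
(Tr.nd (nat_lit 89867) (Tr.lf (nat_lit 89849))
(Tr.nd (nat_lit 89891) (Tr.lf (nat_lit 89867))
(Tr.lf (nat_lit 89891)))))
(Tr.nd (nat_lit 89917) (Tr.nd (nat_lit 89899) (Tr.lf (nat_lit 89897))
(Tr.nd (nat_lit 89909) (Tr.lf (nat_lit 89899))
(Tr.lf (nat_lit 89909))))
(Tr.nd (nat_lit 89923) (Tr.lf (nat_lit 89917))
(Tr.nd (nat_lit 89939) (Tr.lf (nat_lit 89923))
(Tr.lf (nat_lit 89939)))))))
(Tr.nd (nat_lit 90089) (Tr.nd (nat_lit 90001) (Tr.nd (nat_lit 89977) (Tr.nd (nat_lit 89963) (Tr.lf (nat_lit 89959))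
(Tr.lf (nat_lit 89963)))
(Tr.nd (nat_lit 89983) (Tr.lf (nat_lit 89977))
(Tr.nd (nat_lit 89989) (Tr.lf (nat_lit 89983))
(Tr.lf (nat_lit 89989)))))
(Tr.nd (nat_lit 90067) (Tr.nd (nat_lit 90007) (Tr.lf (nat_lit 90001))
(Tr.nd (nat_lit 90011) (Tr.lf (nat_lit 90007))
(Tr.lf (nat_lit 90011))))
(Tr.nd (nat_lit 90071) (Tr.lf (nat_lit 90067))
(Tr.nd (nat_lit 90073) (Tr.lf (nat_lit 90071))
(Tr.lf (nat_lit 90073))))))
(Tr.nd (nat_lit 90163) (Tr.nd (nat_lit 90121) (Tr.nd (nat_lit 90107) (Tr.lf (nat_lit 90089))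
(Tr.lf (nat_lit 90107)))
(Tr.nd (nat_lit 90127) (Tr.lf (nat_lit 90121))
(Tr.nd (nat_lit 90149) (Tr.lf (nat_lit 90127))
(Tr.lf (nat_lit 90149)))))
(Tr.nd (nat_lit 90191) (Tr.nd (nat_lit 90173) (Tr.lf (nat_lit 90163))
(Tr.nd (nat_lit 90187) (Tr.lf (nat_lit 90173))
(Tr.lf (nat_lit 90187))))
(Tr.nd (nat_lit 90197) (Tr.lf (nat_lit 90191))
(Tr.nd (nat_lit 90199) (Tr.lf (nat_lit 90197))
(Tr.lf (nat_lit 90199))))))))))
(Tr.nd (nat_lit 91423) (Tr.nd (nat_lit 90841) (Tr.nd (nat_lit 90473) (Tr.nd (nat_lit 90359) (Tr.nd (nat_lit 90263) (Tr.nd (nat_lit 90227) (Tr.nd (nat_lit 90217) (Tr.lf (nat_lit 90203))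
(Tr.lf (nat_lit 90217)))
(Tr.nd (nat_lit 90239) (Tr.lf (nat_lit 90227))
(Tr.nd (nat_lit 90247) (Tr.lf (nat_lit 90239))
(Tr.lf (nat_lit 90247)))))
(Tr.nd (nat_lit 90289) (Tr.nd (nat_lit 90271) (Tr.lf (nat_lit 90263))
(Tr.nd (nat_lit 90281) (Tr.lf (nat_lit 90271))
(Tr.lf (nat_lit 90281))))
(Tr.nd (nat_lit 90313) (Tr.lf (nat_lit 90289))
(Tr.nd (nat_lit 90353) (Tr.lf (nat_lit 90313))
(Tr.lf (nat_lit 90353))))))
(Tr.nd (nat_lit 90401) (Tr.nd (nat_lit 90373) (Tr.nd (nat_lit 90371) (Tr.lf (nat_lit 90359))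
(Tr.lf (nat_lit 90371)))
(Tr.nd (nat_lit 90379) (Tr.lf (nat_lit 90373))
(Tr.nd (nat_lit 90397) (Tr.lf (nat_lit 90379))
(Tr.lf (nat_lit 90397)))))
(Tr.nd (nat_lit 90437) (Tr.nd (nat_lit 90403) (Tr.lf (nat_lit 90401))
(Tr.nd (nat_lit 90407) (Tr.lf (nat_lit 90403))
(Tr.lf (nat_lit 90407))))
(Tr.nd (nat_lit 90439) (Tr.lf (nat_lit 90437))
(Tr.nd (nat_lit 90469) (Tr.lf (nat_lit 90439))
(Tr.lf (nat_lit 90469)))))))
(Tr.nd (nat_lit 90617) (Tr.nd (nat_lit 90527) (Tr.nd (nat_lit 90499) (Tr.nd (nat_lit 90481) (Tr.lf (nat_lit 90473))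
(Tr.lf (nat_lit 90481)))
(Tr.nd (nat_lit 90511) (Tr.lf (nat_lit 90499))
(Tr.nd (nat_lit 90523) (Tr.lf (nat_lit 90511))
(Tr.lf (nat_lit 90523)))))
(Tr.nd (nat_lit 90547) (Tr.nd (nat_lit 90529) (Tr.lf (nat_lit 90527))
(Tr.nd (nat_lit 90533) (Tr.lf (nat_lit 90529))
(Tr.lf (nat_lit 90533))))
(Tr.nd (nat_lit 90583) (Tr.lf (nat_lit 90547))
(Tr.nd (nat_lit 90599) (Tr.lf (nat_lit 90583))
(Tr.lf (nat_lit 90599))))))
(Tr.nd (nat_lit 90697) (Tr.nd (nat_lit 90631) (Tr.nd (nat_lit 90619) (Tr.lf (nat_lit 90617))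
(Tr.lf (nat_lit 90619)))
(Tr.nd (nat_lit 90641) (Tr.lf (nat_lit 90631))
(Tr.nd (nat_lit 90647) (Tr.lf (nat_lit 90641))
(Tr.lf (nat_lit 90647)))))
(Tr.nd (nat_lit 90749) (Tr.nd (nat_lit 90709) (Tr.lf (nat_lit 90697))
(Tr.nd (nat_lit 90731) (Tr.lf (nat_lit 90709))
(Tr.lf (nat_lit 90731))))
(Tr.nd (nat_lit 90787) (Tr.lf (nat_lit 90749))
(Tr.nd (nat_lit 90793) (Tr.lf (nat_lit 90787))
(Tr.lf (nat_lit 90793))))))))
(Tr.nd (nat_lit 91151) (Tr.nd (nat_lit 91019) (Tr.nd (nat_lit 90907) (Tr.nd (nat_lit 90863) (Tr.nd (nat_lit 90847) (Tr.lf (nat_lit 90841))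
(Tr.lf (nat_lit 90847)))
(Tr.nd (nat_lit 90887) (Tr.lf (nat_lit 90863))
(Tr.nd (nat_lit 90901) (Tr.lf (nat_lit 90887))
(Tr.lf (nat_lit 90901)))))
(Tr.nd (nat_lit 90931) (Tr.nd (nat_lit 90911) (Tr.lf (nat_lit 90907))
(Tr.nd (nat_lit 90917) (Tr.lf (nat_lit 90911))
(Tr.lf (nat_lit 90917))))
(Tr.nd (nat_lit 90997) (Tr.lf (nat_lit 90931))
(Tr.nd (nat_lit 91009) (Tr.lf (nat_lit 90997))
(Tr.lf (nat_lit 91009))))))
(Tr.nd (nat_lit 91099) (Tr.nd (nat_lit 91079) (Tr.nd (nat_lit 91033) (Tr.lf (nat_lit 91019))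
(Tr.lf (nat_lit 91033)))
(Tr.nd (nat_lit 91081) (Tr.lf (nat_lit 91079))
(Tr.nd (nat_lit 91097) (Tr.lf (nat_lit 91081))
(Tr.lf (nat_lit 91097)))))
(Tr.nd (nat_lit 91129) (Tr.nd (nat_lit 91121) (Tr.lf (nat_lit 91099))
(Tr.nd (nat_lit 91127) (Tr.lf (nat_lit 91121))
(Tr.lf (nat_lit 91127))))
(Tr.nd (nat_lit 91139) (Tr.lf (nat_lit 91129))
(Tr.nd (nat_lit 91141) (Tr.lf (nat_lit 91139))
(Tr.lf (nat_lit 91141)))))))
(Tr.nd (nat_lit 91253) (Tr.nd (nat_lit 91193) (Tr.nd (nat_lit 91159) (Tr.nd (nat_lit 91153) (Tr.lf (nat_lit 91151))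
(Tr.lf (nat_lit 91153)))
(Tr.nd (nat_lit 91163) (Tr.lf (nat_lit 91159))
(Tr.nd (nat_lit 91183) (Tr.lf (nat_lit 91163))
(Tr.lf (nat_lit 91183)))))
(Tr.nd (nat_lit 91237) (Tr.nd (nat_lit 91199) (Tr.lf (nat_lit 91193))
(Tr.nd (nat_lit 91229) (Tr.lf (nat_lit 91199))
(Tr.lf (nat_lit 91229))))
(Tr.nd (nat_lit 91243) (Tr.lf (nat_lit 91237))
(Tr.nd (nat_lit 91249) (Tr.lf (nat_lit 91243))
(Tr.lf (nat_lit 91249))))))
(Tr.nd (nat_lit 91309) (Tr.nd (nat_lit 91291) (Tr.nd (nat_lit 91283) (Tr.lf (nat_lit 91253))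
(Tr.lf (nat_lit 91283)))
(Tr.nd (nat_lit 91297) (Tr.lf (nat_lit 91291))
(Tr.nd (nat_lit 91303) (Tr.lf (nat_lit 91297))
(Tr.lf (nat_lit 91303)))))
(Tr.nd (nat_lit 91381) (Tr.nd (nat_lit 91331) (Tr.lf (nat_lit 91309))
(Tr.nd (nat_lit 91367) (Tr.lf (nat_lit 91331))
(Tr.lf (nat_lit 91367))))
(Tr.nd (nat_lit 91397) (Tr.lf (nat_lit 91381))
(Tr.nd (nat_lit 91411) (Tr.lf (nat_lit 91397))
(Tr.lf (nat_lit 91411)))))))))
(Tr.nd (nat_lit 91967) (Tr.nd (nat_lit 91711) (Tr.nd (nat_lit 91571) (Tr.nd (nat_lit 91463) (Tr.nd (nat_lit 91453) (Tr.nd (nat_lit 91433) (Tr.lf (nat_lit 91423))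
(Tr.lf (nat_lit 91433)))
(Tr.nd (nat_lit 91457) (Tr.lf (nat_lit 91453))
(Tr.nd (nat_lit 91459) (Tr.lf (nat_lit 91457))
(Tr.lf (nat_lit 91459)))))
(Tr.nd (nat_lit 91513) (Tr.nd (nat_lit 91493) (Tr.lf (nat_lit 91463))
(Tr.nd (nat_lit 91499) (Tr.lf (nat_lit 91493))
(Tr.lf (nat_lit 91499))))
(Tr.nd (nat_lit 91529) (Tr.lf (nat_lit 91513))
(Tr.nd (nat_lit 91541) (Tr.lf (nat_lit 91529))
(Tr.lf (nat_lit 91541))))))
(Tr.nd (nat_lit 91621) (Tr.nd (nat_lit 91577) (Tr.nd (nat_lit 91573) (Tr.lf (nat_lit 91571))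
(Tr.lf (nat_lit 91573)))
(Tr.nd (nat_lit 91583) (Tr.lf (nat_lit 91577))
(Tr.nd (nat_lit 91591) (Tr.lf (nat_lit 91583))
(Tr.lf (nat_lit 91591)))))
(Tr.nd (nat_lit 91673) (Tr.nd (nat_lit 91631) (Tr.lf (nat_lit 91621))
(Tr.nd (nat_lit 91639) (Tr.lf (nat_lit 91631))
(Tr.lf (nat_lit 91639))))
(Tr.nd (nat_lit 91691) (Tr.lf (nat_lit 91673))
(Tr.nd (nat_lit 91703) (Tr.lf (nat_lit 91691))
(Tr.lf (nat_lit 91703)))))))
(Tr.nd (nat_lit 91837) (Tr.nd (nat_lit 91781) (Tr.nd (nat_lit 91753) (Tr.nd (nat_lit 91733) (Tr.lf (nat_lit 91711))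
(Tr.lf (nat_lit 91733)))
(Tr.nd (nat_lit 91757) (Tr.lf (nat_lit 91753))
(Tr.nd (nat_lit 91771) (Tr.lf (nat_lit 91757))
(Tr.lf (nat_lit 91771)))))
(Tr.nd (nat_lit 91811) (Tr.nd (nat_lit 91801) (Tr.lf (nat_lit 91781))
(Tr.nd (nat_lit 91807) (Tr.lf (nat_lit 91801))
(Tr.lf (nat_lit 91807))))
(Tr.nd (nat_lit 91813) (Tr.lf (nat_lit 91811))
(Tr.nd (nat_lit 91823) (Tr.lf (nat_lit 91813))
(Tr.lf (nat_lit 91823))))))
(Tr.nd (nat_lit 91921) (Tr.nd (nat_lit 91867) (Tr.nd (nat_lit 91841) (Tr.lf (nat_lit 91837))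
(Tr.lf (nat_lit 91841)))
(Tr.nd (nat_lit 91873) (Tr.lf (nat_lit 91867))
(Tr.nd (nat_lit 91909) (Tr.lf (nat_lit 91873))
(Tr.lf (nat_lit 91909)))))
(Tr.nd (nat_lit 91951) (Tr.nd (nat_lit 91939) (Tr.lf (nat_lit 91921))
(Tr.nd (nat_lit 91943) (Tr.lf (nat_lit 91939))
(Tr.lf (nat_lit 91943))))
(Tr.nd (nat_lit 91957) (Tr.lf (nat_lit 91951))
(Tr.nd (nat_lit 91961) (Tr.lf (nat_lit 91957))
(Tr.lf (nat_lit 91961))))))))
(Tr.nd (nat_lit 92233) (Tr.nd (nat_lit 92111) (Tr.nd (nat_lit 92033) (Tr.nd (nat_lit 91997) (Tr.nd (nat_lit 91969) (Tr.lf (nat_lit 91967))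
(Tr.lf (nat_lit 91969)))
(Tr.nd (nat_lit 92003) (Tr.lf (nat_lit 91997))
(Tr.nd (nat_lit 92009) (Tr.lf (nat_lit 92003))
(Tr.lf (nat_lit 92009)))))
(Tr.nd (nat_lit 92077) (Tr.nd (nat_lit 92041) (Tr.lf (nat_lit 92033))
(Tr.nd (nat_lit 92051) (Tr.lf (nat_lit 92041))
(Tr.lf (nat_lit 92051))))
(Tr.nd (nat_lit 92083) (Tr.lf (nat_lit 92077))
(Tr.nd (nat_lit 92107) (Tr.lf (nat_lit 92083))
(Tr.lf (nat_lit 92107))))))
(Tr.nd (nat_lit 92177) (Tr.nd (nat_lit 92143) (Tr.nd (nat_lit 92119) (Tr.lf (nat_lit 92111))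
(Tr.lf (nat_lit 92119)))
(Tr.nd (nat_lit 92153) (Tr.lf (nat_lit 92143))
(Tr.nd (nat_lit 92173) (Tr.lf (nat_lit 92153))
(Tr.lf (nat_lit 92173)))))
(Tr.nd (nat_lit 92203) (Tr.nd (nat_lit 92179) (Tr.lf (nat_lit 92177))
(Tr.nd (nat_lit 92189) (Tr.lf (nat_lit 92179))
(Tr.lf (nat_lit 92189))))
(Tr.nd (nat_lit 92219) (Tr.lf (nat_lit 92203))
(Tr.nd (nat_lit 92221) (Tr.lf (nat_lit 92219))
(Tr.lf (nat_lit 92221)))))))
(Tr.nd (nat_lit 92357) (Tr.nd (nat_lit 92297) (Tr.nd (nat_lit 92243) (Tr.nd (nat_lit 92237) (Tr.lf (nat_lit 92233))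
(Tr.lf (nat_lit 92237)))
(Tr.nd (nat_lit 92251) (Tr.lf (nat_lit 92243))
(Tr.nd (nat_lit 92269) (Tr.lf (nat_lit 92251))
(Tr.lf (nat_lit 92269)))))
(Tr.nd (nat_lit 92333) (Tr.nd (nat_lit 92311) (Tr.lf (nat_lit 92297))
(Tr.nd (nat_lit 92317) (Tr.lf (nat_lit 92311))
(Tr.lf (nat_lit 92317))))
(Tr.nd (nat_lit 92347) (Tr.lf (nat_lit 92333))
(Tr.nd (nat_lit 92353) (Tr.lf (nat_lit 92347))
(Tr.lf (nat_lit 92353))))))
(Tr.nd (nat_lit 92413) (Tr.nd (nat_lit 92387) (Tr.nd (nat_lit 92363) (Tr.lf (nat_lit 92357))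
(Tr.lf (nat_lit 92363)))
(Tr.nd (nat_lit 92399) (Tr.lf (nat_lit 92387))
(Tr.nd (nat_lit 92401) (Tr.lf (nat_lit 92399))
(Tr.lf (nat_lit 92401)))))
(Tr.nd (nat_lit 92459) (Tr.nd (nat_lit 92419) (Tr.lf (nat_lit 92413))
(Tr.nd (nat_lit 92431) (Tr.lf (nat_lit 92419))
(Tr.lf (nat_lit 92431))))
(Tr.nd (nat_lit 92467) (Tr.lf (nat_lit 92459))
(Tr.nd (nat_lit 92479) (Tr.lf (nat_lit 92467))
(Tr.lf (nat_lit 92479)))))))))))
(Tr.nd (nat_lit 94649) (Tr.nd (nat_lit 93497) (Tr.nd (nat_lit 93047) (Tr.nd (nat_lit 92717) (Tr.nd (nat_lit 92639) (Tr.nd (nat_lit 92567) (Tr.nd (nat_lit 92507) (Tr.nd (nat_lit 92503) (Tr.lf (nat_lit 92489))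
(Tr.lf (nat_lit 92503)))
(Tr.nd (nat_lit 92551) (Tr.lf (nat_lit 92507))
(Tr.nd (nat_lit 92557) (Tr.lf (nat_lit 92551))
(Tr.lf (nat_lit 92557)))))
(Tr.nd (nat_lit 92593) (Tr.nd (nat_lit 92569) (Tr.lf (nat_lit 92567))
(Tr.nd (nat_lit 92581) (Tr.lf (nat_lit 92569))
(Tr.lf (nat_lit 92581))))
(Tr.nd (nat_lit 92623) (Tr.lf (nat_lit 92593))
(Tr.nd (nat_lit 92627) (Tr.lf (nat_lit 92623))
(Tr.lf (nat_lit 92627))))))
(Tr.nd (nat_lit 92671) (Tr.nd (nat_lit 92647) (Tr.nd (nat_lit 92641) (Tr.lf (nat_lit 92639))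
(Tr.lf (nat_lit 92641)))
(Tr.nd (nat_lit 92657) (Tr.lf (nat_lit 92647))
(Tr.nd (nat_lit 92669) (Tr.lf (nat_lit 92657))
(Tr.lf (nat_lit 92669)))))
(Tr.nd (nat_lit 92693) (Tr.nd (nat_lit 92681) (Tr.lf (nat_lit 92671))
(Tr.nd (nat_lit 92683) (Tr.lf (nat_lit 92681))
(Tr.lf (nat_lit 92683))))
(Tr.nd (nat_lit 92699) (Tr.lf (nat_lit 92693))
(Tr.nd (nat_lit 92707) (Tr.lf (nat_lit 92699))
(Tr.lf (nat_lit 92707)))))))
(Tr.nd (nat_lit 92821) (Tr.nd (nat_lit 92767) (Tr.nd (nat_lit 92737) (Tr.nd (nat_lit 92723) (Tr.lf (nat_lit 92717))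
(Tr.lf (nat_lit 92723)))
(Tr.nd (nat_lit 92753) (Tr.lf (nat_lit 92737))
(Tr.nd (nat_lit 92761) (Tr.lf (nat_lit 92753))
(Tr.lf (nat_lit 92761)))))
(Tr.nd (nat_lit 92791) (Tr.nd (nat_lit 92779) (Tr.lf (nat_lit 92767))
(Tr.nd (nat_lit 92789) (Tr.lf (nat_lit 92779))
(Tr.lf (nat_lit 92789))))
(Tr.nd (nat_lit 92801) (Tr.lf (nat_lit 92791))
(Tr.nd (nat_lit 92809) (Tr.lf (nat_lit 92801))
(Tr.lf (nat_lit 92809))))))
(Tr.nd (nat_lit 92951) (Tr.nd (nat_lit 92921) (Tr.nd (nat_lit 92863) (Tr.lf (nat_lit 92821))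
(Tr.lf (nat_lit 92863)))
(Tr.nd (nat_lit 92927) (Tr.lf (nat_lit 92921))
(Tr.nd (nat_lit 92941) (Tr.lf (nat_lit 92927))
(Tr.lf (nat_lit 92941)))))
(Tr.nd (nat_lit 92987) (Tr.nd (nat_lit 92957) (Tr.lf (nat_lit 92951))
(Tr.nd (nat_lit 92959) (Tr.lf (nat_lit 92957))
(Tr.lf (nat_lit 92959))))
(Tr.nd (nat_lit 92993) (Tr.lf (nat_lit 92987))
(Tr.nd (nat_lit 93001) (Tr.lf (nat_lit 92993))
(Tr.lf (nat_lit 93001))))))))
(Tr.nd (nat_lit 93257) (Tr.nd (nat_lit 93139) (Tr.nd (nat_lit 93089) (Tr.nd (nat_lit 93059) (Tr.nd (nat_lit 93053) (Tr.lf (nat_lit 93047))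
(Tr.lf (nat_lit 93053)))
(Tr.nd (nat_lit 93077) (Tr.lf (nat_lit 93059))
(Tr.nd (nat_lit 93083) (Tr.lf (nat_lit 93077))
(Tr.lf (nat_lit 93083)))))
(Tr.nd (nat_lit 93113) (Tr.nd (nat_lit 93097) (Tr.lf (nat_lit 93089))
(Tr.nd (nat_lit 93103) (Tr.lf (nat_lit 93097))
(Tr.lf (nat_lit 93103))))
(Tr.nd (nat_lit 93131) (Tr.lf (nat_lit 93113))
(Tr.nd (nat_lit 93133) (Tr.lf (nat_lit 93131))
(Tr.lf (nat_lit 93133))))))
(Tr.nd (nat_lit 93199) (Tr.nd (nat_lit 93169) (Tr.nd (nat_lit 93151) (Tr.lf (nat_lit 93139))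
(Tr.lf (nat_lit 93151)))
(Tr.nd (nat_lit 93179) (Tr.lf (nat_lit 93169))
(Tr.nd (nat_lit 93187) (Tr.lf (nat_lit 93179))
(Tr.lf (nat_lit 93187)))))
(Tr.nd (nat_lit 93241) (Tr.nd (nat_lit 93229) (Tr.lf (nat_lit 93199))
(Tr.nd (nat_lit 93239) (Tr.lf (nat_lit 93229))
(Tr.lf (nat_lit 93239))))
(Tr.nd (nat_lit 93251) (Tr.lf (nat_lit 93241))
(Tr.nd (nat_lit 93253) (Tr.lf (nat_lit 93251))
(Tr.lf (nat_lit 93253)))))))
(Tr.nd (nat_lit 93377) (Tr.nd (nat_lit 93307) (Tr.nd (nat_lit 93281) (Tr.nd (nat_lit 93263) (Tr.lf (nat_lit 93257))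
(Tr.lf (nat_lit 93263)))
(Tr.nd (nat_lit 93283) (Tr.lf (nat_lit 93281))
(Tr.nd (nat_lit 93287) (Tr.lf (nat_lit 93283))
(Tr.lf (nat_lit 93287)))))
(Tr.nd (nat_lit 93329) (Tr.nd (nat_lit 93319) (Tr.lf (nat_lit 93307))
(Tr.nd (nat_lit 93323) (Tr.lf (nat_lit 93319))
(Tr.lf (nat_lit 93323))))
(Tr.nd (nat_lit 93337) (Tr.lf (nat_lit 93329))
(Tr.nd (nat_lit 93371) (Tr.lf (nat_lit 93337))
(Tr.lf (nat_lit 93371))))))
(Tr.nd (nat_lit 93463) (Tr.nd (nat_lit 93407) (Tr.nd (nat_lit 93383) (Tr.lf (nat_lit 93377))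
(Tr.lf (nat_lit 93383)))
(Tr.nd (nat_lit 93419) (Tr.lf (nat_lit 93407))
(Tr.nd (nat_lit 93427) (Tr.lf (nat_lit 93419))
(Tr.lf (nat_lit 93427)))))
(Tr.nd (nat_lit 93487) (Tr.nd (nat_lit 93479) (Tr.lf (nat_lit 93463))
(Tr.nd (nat_lit 93481) (Tr.lf (nat_lit 93479))
(Tr.lf (nat_lit 93481))))
(Tr.nd (nat_lit 93491) (Tr.lf (nat_lit 93487))
(Tr.nd (nat_lit 93493) (Tr.lf (nat_lit 93491))
(Tr.lf (nat_lit 93493)))))))))
(Tr.nd (nat_lit 94121) (Tr.nd (nat_lit 93911) (Tr.nd (nat_lit 93719) (Tr.nd (nat_lit 93559) (Tr.nd (nat_lit 93523) (Tr.nd (nat_lit 93503) (Tr.lf (nat_lit 93497))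
(Tr.lf (nat_lit 93503)))
(Tr.nd (nat_lit 93529) (Tr.lf (nat_lit 93523))
(Tr.nd (nat_lit 93553) (Tr.lf (nat_lit 93529))
(Tr.lf (nat_lit 93553)))))
(Tr.nd (nat_lit 93601) (Tr.nd (nat_lit 93563) (Tr.lf (nat_lit 93559))
(Tr.nd (nat_lit 93581) (Tr.lf (nat_lit 93563))
(Tr.lf (nat_lit 93581))))
(Tr.nd (nat_lit 93701) (Tr.lf (nat_lit 93601))
(Tr.nd (nat_lit 93703) (Tr.lf (nat_lit 93701))
(Tr.lf (nat_lit 93703))))))
(Tr.nd (nat_lit 93809) (Tr.nd (nat_lit 93761) (Tr.nd (nat_lit 93739) (Tr.lf (nat_lit 93719))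
(Tr.lf (nat_lit 93739)))
(Tr.nd (nat_lit 93763) (Tr.lf (nat_lit 93761))
(Tr.nd (nat_lit 93787) (Tr.lf (nat_lit 93763))
(Tr.lf (nat_lit 93787)))))
(Tr.nd (nat_lit 93889) (Tr.nd (nat_lit 93811) (Tr.lf (nat_lit 93809))
(Tr.nd (nat_lit 93851) (Tr.lf (nat_lit 93811))
(Tr.lf (nat_lit 93851))))
(Tr.nd (nat_lit 93893) (Tr.lf (nat_lit 93889))
(Tr.nd (nat_lit 93901) (Tr.lf (nat_lit 93893))
(Tr.lf (nat_lit 93901)))))))
(Tr.nd (nat_lit 94007) (Tr.nd (nat_lit 93949) (Tr.nd (nat_lit 93923) (Tr.nd (nat_lit 93913) (Tr.lf (nat_lit 93911))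
(Tr.lf (nat_lit 93913)))
(Tr.nd (nat_lit 93937) (Tr.lf (nat_lit 93923))
(Tr.nd (nat_lit 93941) (Tr.lf (nat_lit 93937))
(Tr.lf (nat_lit 93941)))))
(Tr.nd (nat_lit 93979) (Tr.nd (nat_lit 93967) (Tr.lf (nat_lit 93949))
(Tr.nd (nat_lit 93971) (Tr.lf (nat_lit 93967))
(Tr.lf (nat_lit 93971))))
(Tr.nd (nat_lit 93983) (Tr.lf (nat_lit 93979))
(Tr.nd (nat_lit 93997) (Tr.lf (nat_lit 93983))
(Tr.lf (nat_lit 93997))))))
(Tr.nd (nat_lit 94063) (Tr.nd (nat_lit 94033) (Tr.nd (nat_lit 94009) (Tr.lf (nat_lit 94007))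
(Tr.lf (nat_lit 94009)))
(Tr.nd (nat_lit 94049) (Tr.lf (nat_lit 94033))
(Tr.nd (nat_lit 94057) (Tr.lf (nat_lit 94049))
(Tr.lf (nat_lit 94057)))))
(Tr.nd (nat_lit 94109) (Tr.nd (nat_lit 94079) (Tr.lf (nat_lit 94063))
(Tr.nd (nat_lit 94099) (Tr.lf (nat_lit 94079))
(Tr.lf (nat_lit 94099))))
(Tr.nd (nat_lit 94111) (Tr.lf (nat_lit 94109))
(Tr.nd (nat_lit 94117) (Tr.lf (nat_lit 94111))
(Tr.lf (nat_lit 94117))))))))
(Tr.nd (nat_lit 94427) (Tr.nd (nat_lit 94309) (Tr.nd (nat_lit 94207) (Tr.nd (nat_lit 94153) (Tr.nd (nat_lit 94151) (Tr.lf (nat_lit 94121))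
(Tr.lf (nat_lit 94151)))
(Tr.nd (nat_lit 94169) (Tr.lf (nat_lit 94153))
(Tr.nd (nat_lit 94201) (Tr.lf (nat_lit 94169))
(Tr.lf (nat_lit 94201)))))
(Tr.nd (nat_lit 94253) (Tr.nd (nat_lit 94219) (Tr.lf (nat_lit 94207))
(Tr.nd (nat_lit 94229) (Tr.lf (nat_lit 94219))
(Tr.lf (nat_lit 94229))))
(Tr.nd (nat_lit 94273) (Tr.lf (nat_lit 94253))
(Tr.nd (nat_lit 94291) (Tr.lf (nat_lit 94273))
(Tr.lf (nat_lit 94291))))))
(Tr.nd (nat_lit 94349) (Tr.nd (nat_lit 94327) (Tr.nd (nat_lit 94321) (Tr.lf (nat_lit 94309))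
(Tr.lf (nat_lit 94321)))
(Tr.nd (nat_lit 94331) (Tr.lf (nat_lit 94327))
(Tr.nd (nat_lit 94343) (Tr.lf (nat_lit 94331))
(Tr.lf (nat_lit 94343)))))
(Tr.nd (nat_lit 94397) (Tr.nd (nat_lit 94351) (Tr.lf (nat_lit 94349))
(Tr.nd (nat_lit 94379) (Tr.lf (nat_lit 94351))
(Tr.lf (nat_lit 94379))))
(Tr.nd (nat_lit 94399) (Tr.lf (nat_lit 94397))
(Tr.nd (nat_lit 94421) (Tr.lf (nat_lit 94399))
(Tr.lf (nat_lit 94421)))))))
(Tr.nd (nat_lit 94541) (Tr.nd (nat_lit 94463) (Tr.nd (nat_lit 94439) (Tr.nd (nat_lit 94433) (Tr.lf (nat_lit 94427))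
(Tr.lf (nat_lit 94433)))
(Tr.nd (nat_lit 94441) (Tr.lf (nat_lit 94439))
(Tr.nd (nat_lit 94447) (Tr.lf (nat_lit 94441))
(Tr.lf (nat_lit 94447)))))
(Tr.nd (nat_lit 94513) (Tr.nd (nat_lit 94477) (Tr.lf (nat_lit 94463))
(Tr.nd (nat_lit 94483) (Tr.lf (nat_lit 94477))
(Tr.lf (nat_lit 94483))))
(Tr.nd (nat_lit 94529) (Tr.lf (nat_lit 94513))
(Tr.nd (nat_lit 94531) (Tr.lf (nat_lit 94529))
(Tr.lf (nat_lit 94531))))))
(Tr.nd (nat_lit 94573) (Tr.nd (nat_lit 94547) (Tr.nd (nat_lit 94543) (Tr.lf (nat_lit 94541))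
(Tr.lf (nat_lit 94543)))
(Tr.nd (nat_lit 94559) (Tr.lf (nat_lit 94547))
(Tr.nd (nat_lit 94561) (Tr.lf (nat_lit 94559))
(Tr.lf (nat_lit 94561)))))
(Tr.nd (nat_lit 94603) (Tr.nd (nat_lit 94583) (Tr.lf (nat_lit 94573))
(Tr.nd (nat_lit 94597) (Tr.lf (nat_lit 94583))
(Tr.lf (nat_lit 94597))))
(Tr.nd (nat_lit 94613) (Tr.lf (nat_lit 94603))
(Tr.nd (nat_lit 94621) (Tr.lf (nat_lit 94613))
(Tr.lf (nat_lit 94621))))))))))
(Tr.nd (nat_lit 95707) (Tr.nd (nat_lit 95213) (Tr.nd (nat_lit 94903) (Tr.nd (nat_lit 94789) (Tr.nd (nat_lit 94723) (Tr.nd (nat_lit 94687) (Tr.nd (nat_lit 94651) (Tr.lf (nat_lit 94649))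
(Tr.lf (nat_lit 94651)))
(Tr.nd (nat_lit 94693) (Tr.lf (nat_lit 94687))
(Tr.nd (nat_lit 94709) (Tr.lf (nat_lit 94693))
(Tr.lf (nat_lit 94709)))))
(Tr.nd (nat_lit 94771) (Tr.nd (nat_lit 94727) (Tr.lf (nat_lit 94723))
(Tr.nd (nat_lit 94747) (Tr.lf (nat_lit 94727))
(Tr.lf (nat_lit 94747))))
(Tr.nd (nat_lit 94777) (Tr.lf (nat_lit 94771))
(Tr.nd (nat_lit 94781) (Tr.lf (nat_lit 94777))
(Tr.lf (nat_lit 94781))))))
(Tr.nd (nat_lit 94837) (Tr.nd (nat_lit 94811) (Tr.nd (nat_lit 94793) (Tr.lf (nat_lit 94789))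
(Tr.lf (nat_lit 94793)))
(Tr.nd (nat_lit 94819) (Tr.lf (nat_lit 94811))
(Tr.nd (nat_lit 94823) (Tr.lf (nat_lit 94819))
(Tr.lf (nat_lit 94823)))))
(Tr.nd (nat_lit 94849) (Tr.nd (nat_lit 94841) (Tr.lf (nat_lit 94837))
(Tr.nd (nat_lit 94847) (Tr.lf (nat_lit 94841))
(Tr.lf (nat_lit 94847))))
(Tr.nd (nat_lit 94873) (Tr.lf (nat_lit 94849))
(Tr.nd (nat_lit 94889) (Tr.lf (nat_lit 94873))
(Tr.lf (nat_lit 94889)))))))
(Tr.nd (nat_lit 95071) (Tr.nd (nat_lit 94999) (Tr.nd (nat_lit 94951) (Tr.nd (nat_lit 94949) (Tr.lf (nat_lit 94903))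
(Tr.lf (nat_lit 94949)))
(Tr.nd (nat_lit 94961) (Tr.lf (nat_lit 94951))
(Tr.nd (nat_lit 94993) (Tr.lf (nat_lit 94961))
(Tr.lf (nat_lit 94993)))))
(Tr.nd (nat_lit 95021) (Tr.nd (nat_lit 95003) (Tr.lf (nat_lit 94999))
(Tr.nd (nat_lit 95009) (Tr.lf (nat_lit 95003))
(Tr.lf (nat_lit 95009))))
(Tr.nd (nat_lit 95027) (Tr.lf (nat_lit 95021))
(Tr.nd (nat_lit 95063) (Tr.lf (nat_lit 95027))
(Tr.lf (nat_lit 95063))))))
(Tr.nd (nat_lit 95143) (Tr.nd (nat_lit 95087) (Tr.nd (nat_lit 95083) (Tr.lf (nat_lit 95071))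
(Tr.lf (nat_lit 95083)))
(Tr.nd (nat_lit 95089) (Tr.lf (nat_lit 95087))
(Tr.nd (nat_lit 95107) (Tr.lf (nat_lit 95089))
(Tr.lf (nat_lit 95107)))))
(Tr.nd (nat_lit 95189) (Tr.nd (nat_lit 95153) (Tr.lf (nat_lit 95143))
(Tr.nd (nat_lit 95177) (Tr.lf (nat_lit 95153))
(Tr.lf (nat_lit 95177))))
(Tr.nd (nat_lit 95191) (Tr.lf (nat_lit 95189))
(Tr.nd (nat_lit 95203) (Tr.lf (nat_lit 95191))
(Tr.lf (nat_lit 95203))))))))
(Tr.nd (nat_lit 95443) (Tr.nd (nat_lit 95317) (Tr.nd (nat_lit 95261) (Tr.nd (nat_lit 95233) (Tr.nd (nat_lit 95219) (Tr.lf (nat_lit 95213))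
(Tr.lf (nat_lit 95219)))
(Tr.nd (nat_lit 95239) (Tr.lf (nat_lit 95233))
(Tr.nd (nat_lit 95257) (Tr.lf (nat_lit 95239))
(Tr.lf (nat_lit 95257)))))
(Tr.nd (nat_lit 95279) (Tr.nd (nat_lit 95267) (Tr.lf (nat_lit 95261))
(Tr.nd (nat_lit 95273) (Tr.lf (nat_lit 95267))
(Tr.lf (nat_lit 95273))))
(Tr.nd (nat_lit 95287) (Tr.lf (nat_lit 95279))
(Tr.nd (nat_lit 95311) (Tr.lf (nat_lit 95287))
(Tr.lf (nat_lit 95311))))))
(Tr.nd (nat_lit 95393) (Tr.nd (nat_lit 95339) (Tr.nd (nat_lit 95327) (Tr.lf (nat_lit 95317))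
(Tr.lf (nat_lit 95327)))
(Tr.nd (nat_lit 95369) (Tr.lf (nat_lit 95339))
(Tr.nd (nat_lit 95383) (Tr.lf (nat_lit 95369))
(Tr.lf (nat_lit 95383)))))
(Tr.nd (nat_lit 95419) (Tr.nd (nat_lit 95401) (Tr.lf (nat_lit 95393))
(Tr.nd (nat_lit 95413) (Tr.lf (nat_lit 95401))
(Tr.lf (nat_lit 95413))))
(Tr.nd (nat_lit 95429) (Tr.lf (nat_lit 95419))
(Tr.nd (nat_lit 95441) (Tr.lf (nat_lit 95429))
(Tr.lf (nat_lit 95441)))))))
(Tr.nd (nat_lit 95561) (Tr.nd (nat_lit 95483) (Tr.nd (nat_lit 95467) (Tr.nd (nat_lit 95461) (Tr.lf (nat_lit 95443))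
(Tr.lf (nat_lit 95461)))
(Tr.nd (nat_lit 95471) (Tr.lf (nat_lit 95467))
(Tr.nd (nat_lit 95479) (Tr.lf (nat_lit 95471))
(Tr.lf (nat_lit 95479)))))
(Tr.nd (nat_lit 95531) (Tr.nd (nat_lit 95507) (Tr.lf (nat_lit 95483))
(Tr.nd (nat_lit 95527) (Tr.lf (nat_lit 95507))
(Tr.lf (nat_lit 95527))))
(Tr.nd (nat_lit 95539) (Tr.lf (nat_lit 95531))
(Tr.nd (nat_lit 95549) (Tr.lf (nat_lit 95539))
(Tr.lf (nat_lit 95549))))))
(Tr.nd (nat_lit 95617) (Tr.nd (nat_lit 95581) (Tr.nd (nat_lit 95569) (Tr.lf (nat_lit 95561))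
(Tr.lf (nat_lit 95569)))
(Tr.nd (nat_lit 95597) (Tr.lf (nat_lit 95581))
(Tr.nd (nat_lit 95603) (Tr.lf (nat_lit 95597))
(Tr.lf (nat_lit 95603)))))
(Tr.nd (nat_lit 95633) (Tr.nd (nat_lit 95621) (Tr.lf (nat_lit 95617))
(Tr.nd (nat_lit 95629) (Tr.lf (nat_lit 95621))
(Tr.lf (nat_lit 95629))))
(Tr.nd (nat_lit 95651) (Tr.lf (nat_lit 95633))
(Tr.nd (nat_lit 95701) (Tr.lf (nat_lit 95651))
(Tr.lf (nat_lit 95701)))))))))
(Tr.nd (nat_lit 96269) (Tr.nd (nat_lit 95989) (Tr.nd (nat_lit 95881) (Tr.nd (nat_lit 95789) (Tr.nd (nat_lit 95717) (Tr.nd (nat_lit 95713) (Tr.lf (nat_lit 95707))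
(Tr.lf (nat_lit 95713)))
(Tr.nd (nat_lit 95737) (Tr.lf (nat_lit 95717))
(Tr.nd (nat_lit 95783) (Tr.lf (nat_lit 95737))
(Tr.lf (nat_lit 95783)))))
(Tr.nd (nat_lit 95857) (Tr.nd (nat_lit 95813) (Tr.lf (nat_lit 95789))
(Tr.nd (nat_lit 95819) (Tr.lf (nat_lit 95813))
(Tr.lf (nat_lit 95819))))
(Tr.nd (nat_lit 95869) (Tr.lf (nat_lit 95857))
(Tr.nd (nat_lit 95873) (Tr.lf (nat_lit 95869))
(Tr.lf (nat_lit 95873))))))
(Tr.nd (nat_lit 95929) (Tr.nd (nat_lit 95911) (Tr.nd (nat_lit 95891) (Tr.lf (nat_lit 95881))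
(Tr.lf (nat_lit 95891)))
(Tr.nd (nat_lit 95917) (Tr.lf (nat_lit 95911))
(Tr.nd (nat_lit 95923) (Tr.lf (nat_lit 95917))
(Tr.lf (nat_lit 95923)))))
(Tr.nd (nat_lit 95959) (Tr.nd (nat_lit 95947) (Tr.lf (nat_lit 95929))
(Tr.nd (nat_lit 95957) (Tr.lf (nat_lit 95947))
(Tr.lf (nat_lit 95957))))
(Tr.nd (nat_lit 95971) (Tr.lf (nat_lit 95959))
(Tr.nd (nat_lit 95987) (Tr.lf (nat_lit 95971))
(Tr.lf (nat_lit 95987)))))))
(Tr.nd (nat_lit 96157) (Tr.nd (nat_lit 96053) (Tr.nd (nat_lit 96013) (Tr.nd (nat_lit 96001) (Tr.lf (nat_lit 95989))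
(Tr.lf (nat_lit 96001)))
(Tr.nd (nat_lit 96017) (Tr.lf (nat_lit 96013))
(Tr.nd (nat_lit 96043) (Tr.lf (nat_lit 96017))
(Tr.lf (nat_lit 96043)))))
(Tr.nd (nat_lit 96097) (Tr.nd (nat_lit 96059) (Tr.lf (nat_lit 96053))
(Tr.nd (nat_lit 96079) (Tr.lf (nat_lit 96059))
(Tr.lf (nat_lit 96079))))
(Tr.nd (nat_lit 96137) (Tr.lf (nat_lit 96097))
(Tr.nd (nat_lit 96149) (Tr.lf (nat_lit 96137))
(Tr.lf (nat_lit 96149))))))
(Tr.nd (nat_lit 96211) (Tr.nd (nat_lit 96179) (Tr.nd (nat_lit 96167) (Tr.lf (nat_lit 96157))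
(Tr.lf (nat_lit 96167)))
(Tr.nd (nat_lit 96181) (Tr.lf (nat_lit 96179))
(Tr.nd (nat_lit 96199) (Tr.lf (nat_lit 96181))
(Tr.lf (nat_lit 96199)))))
(Tr.nd (nat_lit 96233) (Tr.nd (nat_lit 96221) (Tr.lf (nat_lit 96211))
(Tr.nd (nat_lit 96223) (Tr.lf (nat_lit 96221))
(Tr.lf (nat_lit 96223))))
(Tr.nd (nat_lit 96259) (Tr.lf (nat_lit 96233))
(Tr.nd (nat_lit 96263) (Tr.lf (nat_lit 96259))
(Tr.lf (nat_lit 96263))))))))
(Tr.nd (nat_lit 96517) (Tr.nd (nat_lit 96419) (Tr.nd (nat_lit 96329) (Tr.nd (nat_lit 96289) (Tr.nd (nat_lit 96281) (Tr.lf (nat_lit 96269))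
(Tr.lf (nat_lit 96281)))
(Tr.nd (nat_lit 96293) (Tr.lf (nat_lit 96289))
(Tr.nd (nat_lit 96323) (Tr.lf (nat_lit 96293))
(Tr.lf (nat_lit 96323)))))
(Tr.nd (nat_lit 96353) (Tr.nd (nat_lit 96331) (Tr.lf (nat_lit 96329))
(Tr.nd (nat_lit 96337) (Tr.lf (nat_lit 96331))
(Tr.lf (nat_lit 96337))))
(Tr.nd (nat_lit 96377) (Tr.lf (nat_lit 96353))
(Tr.nd (nat_lit 96401) (Tr.lf (nat_lit 96377))
(Tr.lf (nat_lit 96401))))))
(Tr.nd (nat_lit 96461) (Tr.nd (nat_lit 96443) (Tr.nd (nat_lit 96431) (Tr.lf (nat_lit 96419))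
(Tr.lf (nat_lit 96431)))
(Tr.nd (nat_lit 96451) (Tr.lf (nat_lit 96443))
(Tr.nd (nat_lit 96457) (Tr.lf (nat_lit 96451))
(Tr.lf (nat_lit 96457)))))
(Tr.nd (nat_lit 96487) (Tr.nd (nat_lit 96469) (Tr.lf (nat_lit 96461))
(Tr.nd (nat_lit 96479) (Tr.lf (nat_lit 96469))
(Tr.lf (nat_lit 96479))))
(Tr.nd (nat_lit 96493) (Tr.lf (nat_lit 96487))
(Tr.nd (nat_lit 96497) (Tr.lf (nat_lit 96493))
(Tr.lf (nat_lit 96497)))))))
(Tr.nd (nat_lit 96731) (Tr.nd (nat_lit 96643) (Tr.nd (nat_lit 96557) (Tr.nd (nat_lit 96527) (Tr.lf (nat_lit 96517))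
(Tr.lf (nat_lit 96527)))
(Tr.nd (nat_lit 96589) (Tr.lf (nat_lit 96557))
(Tr.nd (nat_lit 96601) (Tr.lf (nat_lit 96589))
(Tr.lf (nat_lit 96601)))))
(Tr.nd (nat_lit 96671) (Tr.nd (nat_lit 96661) (Tr.lf (nat_lit 96643))
(Tr.nd (nat_lit 96667) (Tr.lf (nat_lit 96661))
(Tr.lf (nat_lit 96667))))
(Tr.nd (nat_lit 96697) (Tr.lf (nat_lit 96671))
(Tr.nd (nat_lit 96703) (Tr.lf (nat_lit 96697))
(Tr.lf (nat_lit 96703))))))
(Tr.nd (nat_lit 96779) (Tr.nd (nat_lit 96749) (Tr.nd (nat_lit 96737) (Tr.lf (nat_lit 96731))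
(Tr.lf (nat_lit 96737)))
(Tr.nd (nat_lit 96757) (Tr.lf (nat_lit 96749))
(Tr.nd (nat_lit 96769) (Tr.lf (nat_lit 96757))
(Tr.lf (nat_lit 96769)))))
(Tr.nd (nat_lit 96799) (Tr.nd (nat_lit 96787) (Tr.lf (nat_lit 96779))
(Tr.nd (nat_lit 96797) (Tr.lf (nat_lit 96787))
(Tr.lf (nat_lit 96797))))
(Tr.nd (nat_lit 96821) (Tr.lf (nat_lit 96799))
(Tr.nd (nat_lit 96823) (Tr.lf (nat_lit 96821))
(Tr.lf (nat_lit 96823))))))))))))
(Tr.nd (nat_lit 101197) (Tr.nd (nat_lit 99041) (Tr.nd (nat_lit 97943) (Tr.nd (nat_lit 97387) (Tr.nd (nat_lit 97117) (Tr.nd (nat_lit 96979) (Tr.nd (nat_lit 96907) (Tr.nd (nat_lit 96851) (Tr.nd (nat_lit 96847) (Tr.lf (nat_lit 96827))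
(Tr.lf (nat_lit 96847)))
(Tr.nd (nat_lit 96857) (Tr.lf (nat_lit 96851))
(Tr.nd (nat_lit 96893) (Tr.lf (nat_lit 96857))
(Tr.lf (nat_lit 96893)))))
(Tr.nd (nat_lit 96953) (Tr.nd (nat_lit 96911) (Tr.lf (nat_lit 96907))
(Tr.nd (nat_lit 96931) (Tr.lf (nat_lit 96911))
(Tr.lf (nat_lit 96931))))
(Tr.nd (nat_lit 96959) (Tr.lf (nat_lit 96953))
(Tr.nd (nat_lit 96973) (Tr.lf (nat_lit 96959))
(Tr.lf (nat_lit 96973))))))
(Tr.nd (nat_lit 97007) (Tr.nd (nat_lit 96997) (Tr.nd (nat_lit 96989) (Tr.lf (nat_lit 96979))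
(Tr.lf (nat_lit 96989)))
(Tr.nd (nat_lit 97001) (Tr.lf (nat_lit 96997))
(Tr.nd (nat_lit 97003) (Tr.lf (nat_lit 97001))
(Tr.lf (nat_lit 97003)))))
(Tr.nd (nat_lit 97073) (Tr.nd (nat_lit 97021) (Tr.lf (nat_lit 97007))
(Tr.nd (nat_lit 97039) (Tr.lf (nat_lit 97021))
(Tr.lf (nat_lit 97039))))
(Tr.nd (nat_lit 97081) (Tr.lf (nat_lit 97073))
(Tr.nd (nat_lit 97103) (Tr.lf (nat_lit 97081))
(Tr.lf (nat_lit 97103)))))))
(Tr.nd (nat_lit 97241) (Tr.nd (nat_lit 97169) (Tr.nd (nat_lit 97151) (Tr.nd (nat_lit 97127) (Tr.lf (nat_lit 97117))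
(Tr.lf (nat_lit 97127)))
(Tr.nd (nat_lit 97157) (Tr.lf (nat_lit 97151))
(Tr.nd (nat_lit 97159) (Tr.lf (nat_lit 97157))
(Tr.lf (nat_lit 97159)))))
(Tr.nd (nat_lit 97187) (Tr.nd (nat_lit 97171) (Tr.lf (nat_lit 97169))
(Tr.nd (nat_lit 97177) (Tr.lf (nat_lit 97171))
(Tr.lf (nat_lit 97177))))
(Tr.nd (nat_lit 97213) (Tr.lf (nat_lit 97187))
(Tr.nd (nat_lit 97231) (Tr.lf (nat_lit 97213))
(Tr.lf (nat_lit 97231))))))
(Tr.nd (nat_lit 97327) (Tr.nd (nat_lit 97283) (Tr.nd (nat_lit 97259) (Tr.lf (nat_lit 97241))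
(Tr.lf (nat_lit 97259)))
(Tr.nd (nat_lit 97301) (Tr.lf (nat_lit 97283))
(Tr.nd (nat_lit 97303) (Tr.lf (nat_lit 97301))
(Tr.lf (nat_lit 97303)))))
(Tr.nd (nat_lit 97373) (Tr.nd (nat_lit 97367) (Tr.lf (nat_lit 97327))
(Tr.nd (nat_lit 97369) (Tr.lf (nat_lit 97367))
(Tr.lf (nat_lit 97369))))
(Tr.nd (nat_lit 97379) (Tr.lf (nat_lit 97373))
(Tr.nd (nat_lit 97381) (Tr.lf (nat_lit 97379))
(Tr.lf (nat_lit 97381))))))))
(Tr.nd (nat_lit 97613) (Tr.nd (nat_lit 97523) (Tr.nd (nat_lit 97453) (Tr.nd (nat_lit 97423) (Tr.nd (nat_lit 97397) (Tr.lf (nat_lit 97387))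
(Tr.lf (nat_lit 97397)))
(Tr.nd (nat_lit 97429) (Tr.lf (nat_lit 97423))
(Tr.nd (nat_lit 97441) (Tr.lf (nat_lit 97429))
(Tr.lf (nat_lit 97441)))))
(Tr.nd (nat_lit 97499) (Tr.nd (nat_lit 97459) (Tr.lf (nat_lit 97453))
(Tr.nd (nat_lit 97463) (Tr.lf (nat_lit 97459))
(Tr.lf (nat_lit 97463))))
(Tr.nd (nat_lit 97501) (Tr.lf (nat_lit 97499))
(Tr.nd (nat_lit 97511) (Tr.lf (nat_lit 97501))
(Tr.lf (nat_lit 97511))))))
(Tr.nd (nat_lit 97571) (Tr.nd (nat_lit 97549) (Tr.nd (nat_lit 97547) (Tr.lf (nat_lit 97523))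
(Tr.lf (nat_lit 97547)))
(Tr.nd (nat_lit 97553) (Tr.lf (nat_lit 97549))
(Tr.nd (nat_lit 97561) (Tr.lf (nat_lit 97553))
(Tr.lf (nat_lit 97561)))))
(Tr.nd (nat_lit 97583) (Tr.nd (nat_lit 97577) (Tr.lf (nat_lit 97571))
(Tr.nd (nat_lit 97579) (Tr.lf (nat_lit 97577))
(Tr.lf (nat_lit 97579))))
(Tr.nd (nat_lit 97607) (Tr.lf (nat_lit 97583))
(Tr.nd (nat_lit 97609) (Tr.lf (nat_lit 97607))
(Tr.lf (nat_lit 97609)))))))
(Tr.nd (nat_lit 97843) (Tr.nd (nat_lit 97711) (Tr.nd (nat_lit 97651) (Tr.nd (nat_lit 97649) (Tr.lf (nat_lit 97613))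
(Tr.lf (nat_lit 97649)))
(Tr.nd (nat_lit 97673) (Tr.lf (nat_lit 97651))
(Tr.nd (nat_lit 97687) (Tr.lf (nat_lit 97673))
(Tr.lf (nat_lit 97687)))))
(Tr.nd (nat_lit 97777) (Tr.nd (nat_lit 97729) (Tr.lf (nat_lit 97711))
(Tr.nd (nat_lit 97771) (Tr.lf (nat_lit 97729))
(Tr.lf (nat_lit 97771))))
(Tr.nd (nat_lit 97829) (Tr.lf (nat_lit 97777))
(Tr.nd (nat_lit 97841) (Tr.lf (nat_lit 97829))
(Tr.lf (nat_lit 97841))))))
(Tr.nd (nat_lit 97871) (Tr.nd (nat_lit 97849) (Tr.nd (nat_lit 97847) (Tr.lf (nat_lit 97843))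
(Tr.lf (nat_lit 97847)))
(Tr.nd (nat_lit 97859) (Tr.lf (nat_lit 97849))
(Tr.nd (nat_lit 97861) (Tr.lf (nat_lit 97859))
(Tr.lf (nat_lit 97861)))))
(Tr.nd (nat_lit 97919) (Tr.nd (nat_lit 97879) (Tr.lf (nat_lit 97871))
(Tr.nd (nat_lit 97883) (Tr.lf (nat_lit 97879))
(Tr.lf (nat_lit 97883))))
(Tr.nd (nat_lit 97927) (Tr.lf (nat_lit 97919))
(Tr.nd (nat_lit 97931) (Tr.lf (nat_lit 97927))
(Tr.lf (nat_lit 97931)))))))))
(Tr.nd (nat_lit 98519) (Tr.nd (nat_lit 98299) (Tr.nd (nat_lit 98129) (Tr.nd (nat_lit 98041) (Tr.nd (nat_lit 97987) (Tr.nd (nat_lit 97961) (Tr.lf (nat_lit 97943))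
(Tr.lf (nat_lit 97961)))
(Tr.nd (nat_lit 98009) (Tr.lf (nat_lit 97987))
(Tr.nd (nat_lit 98017) (Tr.lf (nat_lit 98009))
(Tr.lf (nat_lit 98017)))))
(Tr.nd (nat_lit 98081) (Tr.nd (nat_lit 98047) (Tr.lf (nat_lit 98041))
(Tr.nd (nat_lit 98057) (Tr.lf (nat_lit 98047))
(Tr.lf (nat_lit 98057))))
(Tr.nd (nat_lit 98101) (Tr.lf (nat_lit 98081))
(Tr.nd (nat_lit 98123) (Tr.lf (nat_lit 98101))
(Tr.lf (nat_lit 98123))))))
(Tr.nd (nat_lit 98221) (Tr.nd (nat_lit 98179) (Tr.nd (nat_lit 98143) (Tr.lf (nat_lit 98129))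
(Tr.lf (nat_lit 98143)))
(Tr.nd (nat_lit 98207) (Tr.lf (nat_lit 98179))
(Tr.nd (nat_lit 98213) (Tr.lf (nat_lit 98207))
(Tr.lf (nat_lit 98213)))))
(Tr.nd (nat_lit 98257) (Tr.nd (nat_lit 98227) (Tr.lf (nat_lit 98221))
(Tr.nd (nat_lit 98251) (Tr.lf (nat_lit 98227))
(Tr.lf (nat_lit 98251))))
(Tr.nd (nat_lit 98269) (Tr.lf (nat_lit 98257))
(Tr.nd (nat_lit 98297) (Tr.lf (nat_lit 98269))
(Tr.lf (nat_lit 98297)))))))
(Tr.nd (nat_lit 98411) (Tr.nd (nat_lit 98347) (Tr.nd (nat_lit 98321) (Tr.nd (nat_lit 98317) (Tr.lf (nat_lit 98299))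
(Tr.lf (nat_lit 98317)))
(Tr.nd (nat_lit 98323) (Tr.lf (nat_lit 98321))
(Tr.nd (nat_lit 98327) (Tr.lf (nat_lit 98323))
(Tr.lf (nat_lit 98327)))))
(Tr.nd (nat_lit 98387) (Tr.nd (nat_lit 98369) (Tr.lf (nat_lit 98347))
(Tr.nd (nat_lit 98377) (Tr.lf (nat_lit 98369))
(Tr.lf (nat_lit 98377))))
(Tr.nd (nat_lit 98389) (Tr.lf (nat_lit 98387))
(Tr.nd (nat_lit 98407) (Tr.lf (nat_lit 98389))
(Tr.lf (nat_lit 98407))))))
(Tr.nd (nat_lit 98459) (Tr.nd (nat_lit 98429) (Tr.nd (nat_lit 98419) (Tr.lf (nat_lit 98411))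
(Tr.lf (nat_lit 98419)))
(Tr.nd (nat_lit 98443) (Tr.lf (nat_lit 98429))
(Tr.nd (nat_lit 98453) (Tr.lf (nat_lit 98443))
(Tr.lf (nat_lit 98453)))))
(Tr.nd (nat_lit 98479) (Tr.nd (nat_lit 98467) (Tr.lf (nat_lit 98459))
(Tr.nd (nat_lit 98473) (Tr.lf (nat_lit 98467))
(Tr.lf (nat_lit 98473))))
(Tr.nd (nat_lit 98491) (Tr.lf (nat_lit 98479))
(Tr.nd (nat_lit 98507) (Tr.lf (nat_lit 98491))
(Tr.lf (nat_lit 98507))))))))
(Tr.nd (nat_lit 98849) (Tr.nd (nat_lit 98663) (Tr.nd (nat_lit 98573) (Tr.nd (nat_lit 98543) (Tr.nd (nat_lit 98533) (Tr.lf (nat_lit 98519))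
(Tr.lf (nat_lit 98533)))
(Tr.nd (nat_lit 98561) (Tr.lf (nat_lit 98543))
(Tr.nd (nat_lit 98563) (Tr.lf (nat_lit 98561))
(Tr.lf (nat_lit 98563)))))
(Tr.nd (nat_lit 98627) (Tr.nd (nat_lit 98597) (Tr.lf (nat_lit 98573))
(Tr.nd (nat_lit 98621) (Tr.lf (nat_lit 98597))
(Tr.lf (nat_lit 98621))))
(Tr.nd (nat_lit 98639) (Tr.lf (nat_lit 98627))
(Tr.nd (nat_lit 98641) (Tr.lf (nat_lit 98639))
(Tr.lf (nat_lit 98641))))))
(Tr.nd (nat_lit 98717) (Tr.nd (nat_lit 98689) (Tr.nd (nat_lit 98669) (Tr.lf (nat_lit 98663))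
(Tr.lf (nat_lit 98669)))
(Tr.nd (nat_lit 98711) (Tr.lf (nat_lit 98689))
(Tr.nd (nat_lit 98713) (Tr.lf (nat_lit 98711))
(Tr.lf (nat_lit 98713)))))
(Tr.nd (nat_lit 98801) (Tr.nd (nat_lit 98729) (Tr.lf (nat_lit 98717))
(Tr.nd (nat_lit 98773) (Tr.lf (nat_lit 98729))
(Tr.lf (nat_lit 98773))))
(Tr.nd (nat_lit 98807) (Tr.lf (nat_lit 98801))
(Tr.nd (nat_lit 98837) (Tr.lf (nat_lit 98807))
(Tr.lf (nat_lit 98837)))))))
(Tr.nd (nat_lit 98929) (Tr.nd (nat_lit 98893) (Tr.nd (nat_lit 98869) (Tr.nd (nat_lit 98867) (Tr.lf (nat_lit 98849))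
(Tr.lf (nat_lit 98867)))
(Tr.nd (nat_lit 98873) (Tr.lf (nat_lit 98869))
(Tr.nd (nat_lit 98887) (Tr.lf (nat_lit 98873))
(Tr.lf (nat_lit 98887)))))
(Tr.nd (nat_lit 98909) (Tr.nd (nat_lit 98897) (Tr.lf (nat_lit 98893))
(Tr.nd (nat_lit 98899) (Tr.lf (nat_lit 98897))
(Tr.lf (nat_lit 98899))))
(Tr.nd (nat_lit 98911) (Tr.lf (nat_lit 98909))
(Tr.nd (nat_lit 98927) (Tr.lf (nat_lit 98911))
(Tr.lf (nat_lit 98927))))))
(Tr.nd (nat_lit 98981) (Tr.nd (nat_lit 98947) (Tr.nd (nat_lit 98939) (Tr.lf (nat_lit 98929))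
(Tr.lf (nat_lit 98939)))
(Tr.nd (nat_lit 98953) (Tr.lf (nat_lit 98947))
(Tr.nd (nat_lit 98963) (Tr.lf (nat_lit 98953))
(Tr.lf (nat_lit 98963)))))
(Tr.nd (nat_lit 99013) (Tr.nd (nat_lit 98993) (Tr.lf (nat_lit 98981))
(Tr.nd (nat_lit 98999) (Tr.lf (nat_lit 98993))
(Tr.lf (nat_lit 98999))))
(Tr.nd (nat_lit 99017) (Tr.lf (nat_lit 99013))
(Tr.nd (nat_lit 99023) (Tr.lf (nat_lit 99017))
(Tr.lf (nat_lit 99023))))))))))
(Tr.nd (nat_lit 100103) (Tr.nd (nat_lit 99577) (Tr.nd (nat_lit 99277) (Tr.nd (nat_lit 99139) (Tr.nd (nat_lit 99103) (Tr.nd (nat_lit 99079) (Tr.nd (nat_lit 99053) (Tr.lf (nat_lit 99041))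
(Tr.lf (nat_lit 99053)))
(Tr.nd (nat_lit 99083) (Tr.lf (nat_lit 99079))
(Tr.nd (nat_lit 99089) (Tr.lf (nat_lit 99083))
(Tr.lf (nat_lit 99089)))))
(Tr.nd (nat_lit 99131) (Tr.nd (nat_lit 99109) (Tr.lf (nat_lit 99103))
(Tr.nd (nat_lit 99119) (Tr.lf (nat_lit 99109))
(Tr.lf (nat_lit 99119))))
(Tr.nd (nat_lit 99133) (Tr.lf (nat_lit 99131))
(Tr.nd (nat_lit 99137) (Tr.lf (nat_lit 99133))
(Tr.lf (nat_lit 99137))))))
(Tr.nd (nat_lit 99223) (Tr.nd (nat_lit 99173) (Tr.nd (nat_lit 99149) (Tr.lf (nat_lit 99139))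
(Tr.lf (nat_lit 99149)))
(Tr.nd (nat_lit 99181) (Tr.lf (nat_lit 99173))
(Tr.nd (nat_lit 99191) (Tr.lf (nat_lit 99181))
(Tr.lf (nat_lit 99191)))))
(Tr.nd (nat_lit 99251) (Tr.nd (nat_lit 99233) (Tr.lf (nat_lit 99223))
(Tr.nd (nat_lit 99241) (Tr.lf (nat_lit 99233))
(Tr.lf (nat_lit 99241))))
(Tr.nd (nat_lit 99257) (Tr.lf (nat_lit 99251))
(Tr.nd (nat_lit 99259) (Tr.lf (nat_lit 99257))
(Tr.lf (nat_lit 99259)))))))
(Tr.nd (nat_lit 99409) (Tr.nd (nat_lit 99367) (Tr.nd (nat_lit 99317) (Tr.nd (nat_lit 99289) (Tr.lf (nat_lit 99277))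
(Tr.lf (nat_lit 99289)))
(Tr.nd (nat_lit 99347) (Tr.lf (nat_lit 99317))
(Tr.nd (nat_lit 99349) (Tr.lf (nat_lit 99347))
(Tr.lf (nat_lit 99349)))))
(Tr.nd (nat_lit 99391) (Tr.nd (nat_lit 99371) (Tr.lf (nat_lit 99367))
(Tr.nd (nat_lit 99377) (Tr.lf (nat_lit 99371))
(Tr.lf (nat_lit 99377))))
(Tr.nd (nat_lit 99397) (Tr.lf (nat_lit 99391))
(Tr.nd (nat_lit 99401) (Tr.lf (nat_lit 99397))
(Tr.lf (nat_lit 99401))))))
(Tr.nd (nat_lit 99523) (Tr.nd (nat_lit 99439) (Tr.nd (nat_lit 99431) (Tr.lf (nat_lit 99409))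
(Tr.lf (nat_lit 99431)))
(Tr.nd (nat_lit 99469) (Tr.lf (nat_lit 99439))
(Tr.nd (nat_lit 99487) (Tr.lf (nat_lit 99469))
(Tr.lf (nat_lit 99487)))))
(Tr.nd (nat_lit 99559) (Tr.nd (nat_lit 99529) (Tr.lf (nat_lit 99523))
(Tr.nd (nat_lit 99551) (Tr.lf (nat_lit 99529))
(Tr.lf (nat_lit 99551))))
(Tr.nd (nat_lit 99563) (Tr.lf (nat_lit 99559))
(Tr.nd (nat_lit 99571) (Tr.lf (nat_lit 99563))
(Tr.lf (nat_lit 99571))))))))
(Tr.nd (nat_lit 99823) (Tr.nd (nat_lit 99709) (Tr.nd (nat_lit 99643) (Tr.nd (nat_lit 99607) (Tr.nd (nat_lit 99581) (Tr.lf (nat_lit 99577))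
(Tr.lf (nat_lit 99581)))
(Tr.nd (nat_lit 99611) (Tr.lf (nat_lit 99607))
(Tr.nd (nat_lit 99623) (Tr.lf (nat_lit 99611))
(Tr.lf (nat_lit 99623)))))
(Tr.nd (nat_lit 99679) (Tr.nd (nat_lit 99661) (Tr.lf (nat_lit 99643))
(Tr.nd (nat_lit 99667) (Tr.lf (nat_lit 99661))
(Tr.lf (nat_lit 99667))))
(Tr.nd (nat_lit 99689) (Tr.lf (nat_lit 99679))
(Tr.nd (nat_lit 99707) (Tr.lf (nat_lit 99689))
(Tr.lf (nat_lit 99707))))))
(Tr.nd (nat_lit 99761) (Tr.nd (nat_lit 99719) (Tr.nd (nat_lit 99713) (Tr.lf (nat_lit 99709))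
(Tr.lf (nat_lit 99713)))
(Tr.nd (nat_lit 99721) (Tr.lf (nat_lit 99719))
(Tr.nd (nat_lit 99733) (Tr.lf (nat_lit 99721))
(Tr.lf (nat_lit 99733)))))
(Tr.nd (nat_lit 99793) (Tr.nd (nat_lit 99767) (Tr.lf (nat_lit 99761))
(Tr.nd (nat_lit 99787) (Tr.lf (nat_lit 99767))
(Tr.lf (nat_lit 99787))))
(Tr.nd (nat_lit 99809) (Tr.lf (nat_lit 99793))
(Tr.nd (nat_lit 99817) (Tr.lf (nat_lit 99809))
(Tr.lf (nat_lit 99817)))))))
(Tr.nd (nat_lit 99929) (Tr.nd (nat_lit 99871) (Tr.nd (nat_lit 99833) (Tr.nd (nat_lit 99829) (Tr.lf (nat_lit 99823))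
(Tr.lf (nat_lit 99829)))
(Tr.nd (nat_lit 99839) (Tr.lf (nat_lit 99833))
(Tr.nd (nat_lit 99859) (Tr.lf (nat_lit 99839))
(Tr.lf (nat_lit 99859)))))
(Tr.nd (nat_lit 99901) (Tr.nd (nat_lit 99877) (Tr.lf (nat_lit 99871))
(Tr.nd (nat_lit 99881) (Tr.lf (nat_lit 99877))
(Tr.lf (nat_lit 99881))))
(Tr.nd (nat_lit 99907) (Tr.lf (nat_lit 99901))
(Tr.nd (nat_lit 99923) (Tr.lf (nat_lit 99907))
(Tr.lf (nat_lit 99923))))))
(Tr.nd (nat_lit 100003) (Tr.nd (nat_lit 99971) (Tr.nd (nat_lit 99961) (Tr.lf (nat_lit 99929))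
(Tr.lf (nat_lit 99961)))
(Tr.nd (nat_lit 99989) (Tr.lf (nat_lit 99971))
(Tr.nd (nat_lit 99991) (Tr.lf (nat_lit 99989))
(Tr.lf (nat_lit 99991)))))
(Tr.nd (nat_lit 100049) (Tr.nd (nat_lit 100019) (Tr.lf (nat_lit 100003))
(Tr.nd (nat_lit 100043) (Tr.lf (nat_lit 100019))
(Tr.lf (nat_lit 100043))))
(Tr.nd (nat_lit 100057) (Tr.lf (nat_lit 100049))
(Tr.nd (nat_lit 100069) (Tr.lf (nat_lit 100057))
(Tr.lf (nat_lit 100069)))))))))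
(Tr.nd (nat_lit 100673) (Tr.nd (nat_lit 100363) (Tr.nd (nat_lit 100237) (Tr.nd (nat_lit 100169) (Tr.nd (nat_lit 100129) (Tr.nd (nat_lit 100109) (Tr.lf (nat_lit 100103))
(Tr.lf (nat_lit 100109)))
(Tr.nd (nat_lit 100151) (Tr.lf (nat_lit 100129))
(Tr.nd (nat_lit 100153) (Tr.lf (nat_lit 100151))
(Tr.lf (nat_lit 100153)))))
(Tr.nd (nat_lit 100193) (Tr.nd (nat_lit 100183) (Tr.lf (nat_lit 100169))
(Tr.nd (nat_lit 100189) (Tr.lf (nat_lit 100183))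
(Tr.lf (nat_lit 100189))))
(Tr.nd (nat_lit 100207) (Tr.lf (nat_lit 100193))
(Tr.nd (nat_lit 100213) (Tr.lf (nat_lit 100207))
(Tr.lf (nat_lit 100213))))))
(Tr.nd (nat_lit 100297) (Tr.nd (nat_lit 100271) (Tr.nd (nat_lit 100267) (Tr.lf (nat_lit 100237))
(Tr.lf (nat_lit 100267)))
(Tr.nd (nat_lit 100279) (Tr.lf (nat_lit 100271))
(Tr.nd (nat_lit 100291) (Tr.lf (nat_lit 100279))
(Tr.lf (nat_lit 100291)))))
(Tr.nd (nat_lit 100343) (Tr.nd (nat_lit 100313) (Tr.lf (nat_lit 100297))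
(Tr.nd (nat_lit 100333) (Tr.lf (nat_lit 100313))
(Tr.lf (nat_lit 100333))))
(Tr.nd (nat_lit 100357) (Tr.lf (nat_lit 100343))
(Tr.nd (nat_lit 100361) (Tr.lf (nat_lit 100357))
(Tr.lf (nat_lit 100361)))))))
(Tr.nd (nat_lit 100517) (Tr.nd (nat_lit 100411) (Tr.nd (nat_lit 100391) (Tr.nd (nat_lit 100379) (Tr.lf (nat_lit 100363))
(Tr.lf (nat_lit 100379)))
(Tr.nd (nat_lit 100393) (Tr.lf (nat_lit 100391))
(Tr.nd (nat_lit 100403) (Tr.lf (nat_lit 100393))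
(Tr.lf (nat_lit 100403)))))
(Tr.nd (nat_lit 100493) (Tr.nd (nat_lit 100417) (Tr.lf (nat_lit 100411))
(Tr.nd (nat_lit 100483) (Tr.lf (nat_lit 100417))
(Tr.lf (nat_lit 100483))))
(Tr.nd (nat_lit 100501) (Tr.lf (nat_lit 100493))
(Tr.nd (nat_lit 100511) (Tr.lf (nat_lit 100501))
(Tr.lf (nat_lit 100511))))))
(Tr.nd (nat_lit 100549) (Tr.nd (nat_lit 100523) (Tr.nd (nat_lit 100519) (Tr.lf (nat_lit 100517))
(Tr.lf (nat_lit 100519)))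
(Tr.nd (nat_lit 100537) (Tr.lf (nat_lit 100523))
(Tr.nd (nat_lit 100547) (Tr.lf (nat_lit 100537))
(Tr.lf (nat_lit 100547)))))
(Tr.nd (nat_lit 100613) (Tr.nd (nat_lit 100559) (Tr.lf (nat_lit 100549))
(Tr.nd (nat_lit 100591) (Tr.lf (nat_lit 100559))
(Tr.lf (nat_lit 100591))))
(Tr.nd (nat_lit 100621) (Tr.lf (nat_lit 100613))
(Tr.nd (nat_lit 100669) (Tr.lf (nat_lit 100621))
(Tr.lf (nat_lit 100669))))))))
(Tr.nd (nat_lit 100957) (Tr.nd (nat_lit 100811) (Tr.nd (nat_lit 100741) (Tr.nd (nat_lit 100699) (Tr.nd (nat_lit 100693) (Tr.lf (nat_lit 100673))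
(Tr.lf (nat_lit 100693)))
(Tr.nd (nat_lit 100703) (Tr.lf (nat_lit 100699))
(Tr.nd (nat_lit 100733) (Tr.lf (nat_lit 100703))
(Tr.lf (nat_lit 100733)))))
(Tr.nd (nat_lit 100787) (Tr.nd (nat_lit 100747) (Tr.lf (nat_lit 100741))
(Tr.nd (nat_lit 100769) (Tr.lf (nat_lit 100747))
(Tr.lf (nat_lit 100769))))
(Tr.nd (nat_lit 100799) (Tr.lf (nat_lit 100787))
(Tr.nd (nat_lit 100801) (Tr.lf (nat_lit 100799))
(Tr.lf (nat_lit 100801))))))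
(Tr.nd (nat_lit 100907) (Tr.nd (nat_lit 100829) (Tr.nd (nat_lit 100823) (Tr.lf (nat_lit 100811))
(Tr.lf (nat_lit 100823)))
(Tr.nd (nat_lit 100847) (Tr.lf (nat_lit 100829))
(Tr.nd (nat_lit 100853) (Tr.lf (nat_lit 100847))
(Tr.lf (nat_lit 100853)))))
(Tr.nd (nat_lit 100931) (Tr.nd (nat_lit 100913) (Tr.lf (nat_lit 100907))
(Tr.nd (nat_lit 100927) (Tr.lf (nat_lit 100913))
(Tr.lf (nat_lit 100927))))
(Tr.nd (nat_lit 100937) (Tr.lf (nat_lit 100931))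
(Tr.nd (nat_lit 100943) (Tr.lf (nat_lit 100937))
(Tr.lf (nat_lit 100943)))))))
(Tr.nd (nat_lit 101107) (Tr.nd (nat_lit 101021) (Tr.nd (nat_lit 100987) (Tr.nd (nat_lit 100981) (Tr.lf (nat_lit 100957))
(Tr.lf (nat_lit 100981)))
(Tr.nd (nat_lit 100999) (Tr.lf (nat_lit 100987))
(Tr.nd (nat_lit 101009) (Tr.lf (nat_lit 100999))
(Tr.lf (nat_lit 101009)))))
(Tr.nd (nat_lit 101063) (Tr.nd (nat_lit 101027) (Tr.lf (nat_lit 101021))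
(Tr.nd (nat_lit 101051) (Tr.lf (nat_lit 101027))
(Tr.lf (nat_lit 101051))))
(Tr.nd (nat_lit 101081) (Tr.lf (nat_lit 101063))
(Tr.nd (nat_lit 101089) (Tr.lf (nat_lit 101081))
(Tr.lf (nat_lit 101089))))))
(Tr.nd (nat_lit 101141) (Tr.nd (nat_lit 101113) (Tr.nd (nat_lit 101111) (Tr.lf (nat_lit 101107))
(Tr.lf (nat_lit 101111)))
(Tr.nd (nat_lit 101117) (Tr.lf (nat_lit 101113))
(Tr.nd (nat_lit 101119) (Tr.lf (nat_lit 101117))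
(Tr.lf (nat_lit 101119)))))
(Tr.nd (nat_lit 101161) (Tr.nd (nat_lit 101149) (Tr.lf (nat_lit 101141))
(Tr.nd (nat_lit 101159) (Tr.lf (nat_lit 101149))
(Tr.lf (nat_lit 101159))))
(Tr.nd (nat_lit 101173) (Tr.lf (nat_lit 101161))
(Tr.nd (nat_lit 101183) (Tr.lf (nat_lit 101173))
(Tr.lf (nat_lit 101183)))))))))))
(Tr.nd (nat_lit 103307) (Tr.nd (nat_lit 102149) (Tr.nd (nat_lit 101693) (Tr.nd (nat_lit 101467) (Tr.nd (nat_lit 101333) (Tr.nd (nat_lit 101267) (Tr.nd (nat_lit 101207) (Tr.nd (nat_lit 101203) (Tr.lf (nat_lit 101197))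
(Tr.lf (nat_lit 101203)))
(Tr.nd (nat_lit 101209) (Tr.lf (nat_lit 101207))
(Tr.nd (nat_lit 101221) (Tr.lf (nat_lit 101209))
(Tr.lf (nat_lit 101221)))))
(Tr.nd (nat_lit 101281) (Tr.nd (nat_lit 101273) (Tr.lf (nat_lit 101267))
(Tr.nd (nat_lit 101279) (Tr.lf (nat_lit 101273))
(Tr.lf (nat_lit 101279))))
(Tr.nd (nat_lit 101287) (Tr.lf (nat_lit 101281))
(Tr.nd (nat_lit 101293) (Tr.lf (nat_lit 101287))
(Tr.lf (nat_lit 101293))))))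
(Tr.nd (nat_lit 101383) (Tr.nd (nat_lit 101359) (Tr.nd (nat_lit 101341) (Tr.lf (nat_lit 101333))
(Tr.lf (nat_lit 101341)))
(Tr.nd (nat_lit 101363) (Tr.lf (nat_lit 101359))
(Tr.nd (nat_lit 101377) (Tr.lf (nat_lit 101363))
(Tr.lf (nat_lit 101377)))))
(Tr.nd (nat_lit 101419) (Tr.nd (nat_lit 101399) (Tr.lf (nat_lit 101383))
(Tr.nd (nat_lit 101411) (Tr.lf (nat_lit 101399))
(Tr.lf (nat_lit 101411))))
(Tr.nd (nat_lit 101429) (Tr.lf (nat_lit 101419))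
(Tr.nd (nat_lit 101449) (Tr.lf (nat_lit 101429))
(Tr.lf (nat_lit 101449)))))))
(Tr.nd (nat_lit 101561) (Tr.nd (nat_lit 101503) (Tr.nd (nat_lit 101483) (Tr.nd (nat_lit 101477) (Tr.lf (nat_lit 101467))
(Tr.lf (nat_lit 101477)))
(Tr.nd (nat_lit 101489) (Tr.lf (nat_lit 101483))
(Tr.nd (nat_lit 101501) (Tr.lf (nat_lit 101489))
(Tr.lf (nat_lit 101501)))))
(Tr.nd (nat_lit 101531) (Tr.nd (nat_lit 101513) (Tr.lf (nat_lit 101503))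
(Tr.nd (nat_lit 101527) (Tr.lf (nat_lit 101513))
(Tr.lf (nat_lit 101527))))
(Tr.nd (nat_lit 101533) (Tr.lf (nat_lit 101531))
(Tr.nd (nat_lit 101537) (Tr.lf (nat_lit 101533))
(Tr.lf (nat_lit 101537))))))
(Tr.nd (nat_lit 101611) (Tr.nd (nat_lit 101581) (Tr.nd (nat_lit 101573) (Tr.lf (nat_lit 101561))
(Tr.lf (nat_lit 101573)))
(Tr.nd (nat_lit 101599) (Tr.lf (nat_lit 101581))
(Tr.nd (nat_lit 101603) (Tr.lf (nat_lit 101599))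
(Tr.lf (nat_lit 101603)))))
(Tr.nd (nat_lit 101653) (Tr.nd (nat_lit 101627) (Tr.lf (nat_lit 101611))
(Tr.nd (nat_lit 101641) (Tr.lf (nat_lit 101627))
(Tr.lf (nat_lit 101641))))
(Tr.nd (nat_lit 101663) (Tr.lf (nat_lit 101653))
(Tr.nd (nat_lit 101681) (Tr.lf (nat_lit 101663))
(Tr.lf (nat_lit 101681))))))))
(Tr.nd (nat_lit 101939) (Tr.nd (nat_lit 101807) (Tr.nd (nat_lit 101741) (Tr.nd (nat_lit 101719) (Tr.nd (nat_lit 101701) (Tr.lf (nat_lit 101693))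
(Tr.lf (nat_lit 101701)))
(Tr.nd (nat_lit 101723) (Tr.lf (nat_lit 101719))
(Tr.nd (nat_lit 101737) (Tr.lf (nat_lit 101723))
(Tr.lf (nat_lit 101737)))))
(Tr.nd (nat_lit 101771) (Tr.nd (nat_lit 101747) (Tr.lf (nat_lit 101741))
(Tr.nd (nat_lit 101749) (Tr.lf (nat_lit 101747))
(Tr.lf (nat_lit 101749))))
(Tr.nd (nat_lit 101789) (Tr.lf (nat_lit 101771))
(Tr.nd (nat_lit 101797) (Tr.lf (nat_lit 101789))
(Tr.lf (nat_lit 101797))))))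
(Tr.nd (nat_lit 101869) (Tr.nd (nat_lit 101837) (Tr.nd (nat_lit 101833) (Tr.lf (nat_lit 101807))
(Tr.lf (nat_lit 101833)))
(Tr.nd (nat_lit 101839) (Tr.lf (nat_lit 101837))
(Tr.nd (nat_lit 101863) (Tr.lf (nat_lit 101839))
(Tr.lf (nat_lit 101863)))))
(Tr.nd (nat_lit 101891) (Tr.nd (nat_lit 101873) (Tr.lf (nat_lit 101869))
(Tr.nd (nat_lit 101879) (Tr.lf (nat_lit 101873))
(Tr.lf (nat_lit 101879))))
(Tr.nd (nat_lit 101917) (Tr.lf (nat_lit 101891))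
(Tr.nd (nat_lit 101921) (Tr.lf (nat_lit 101917))
(Tr.lf (nat_lit 101921)))))))
(Tr.nd (nat_lit 102043) (Tr.nd (nat_lit 101999) (Tr.nd (nat_lit 101963) (Tr.nd (nat_lit 101957) (Tr.lf (nat_lit 101939))
(Tr.lf (nat_lit 101957)))
(Tr.nd (nat_lit 101977) (Tr.lf (nat_lit 101963))
(Tr.nd (nat_lit 101987) (Tr.lf (nat_lit 101977))
(Tr.lf (nat_lit 101987)))))
(Tr.nd (nat_lit 102019) (Tr.nd (nat_lit 102001) (Tr.lf (nat_lit 101999))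
(Tr.nd (nat_lit 102013) (Tr.lf (nat_lit 102001))
(Tr.lf (nat_lit 102013))))
(Tr.nd (nat_lit 102023) (Tr.lf (nat_lit 102019))
(Tr.nd (nat_lit 102031) (Tr.lf (nat_lit 102023))
(Tr.lf (nat_lit 102031))))))
(Tr.nd (nat_lit 102079) (Tr.nd (nat_lit 102061) (Tr.nd (nat_lit 102059) (Tr.lf (nat_lit 102043))
(Tr.lf (nat_lit 102059)))
(Tr.nd (nat_lit 102071) (Tr.lf (nat_lit 102061))
(Tr.nd (nat_lit 102077) (Tr.lf (nat_lit 102071))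
(Tr.lf (nat_lit 102077)))))
(Tr.nd (nat_lit 102107) (Tr.nd (nat_lit 102101) (Tr.lf (nat_lit 102079))
(Tr.nd (nat_lit 102103) (Tr.lf (nat_lit 102101))
(Tr.lf (nat_lit 102103))))
(Tr.nd (nat_lit 102121) (Tr.lf (nat_lit 102107))
(Tr.nd (nat_lit 102139) (Tr.lf (nat_lit 102121))
(Tr.lf (nat_lit 102139)))))))))
(Tr.nd (nat_lit 102673) (Tr.nd (nat_lit 102397) (Tr.nd (nat_lit 102251) (Tr.nd (nat_lit 102199) (Tr.nd (nat_lit 102181) (Tr.nd (nat_lit 102161) (Tr.lf (nat_lit 102149))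
(Tr.lf (nat_lit 102161)))
(Tr.nd (nat_lit 102191) (Tr.lf (nat_lit 102181))
(Tr.nd (nat_lit 102197) (Tr.lf (nat_lit 102191))
(Tr.lf (nat_lit 102197)))))
(Tr.nd (nat_lit 102229) (Tr.nd (nat_lit 102203) (Tr.lf (nat_lit 102199))
(Tr.nd (nat_lit 102217) (Tr.lf (nat_lit 102203))
(Tr.lf (nat_lit 102217))))
(Tr.nd (nat_lit 102233) (Tr.lf (nat_lit 102229))
(Tr.nd (nat_lit 102241) (Tr.lf (nat_lit 102233))
(Tr.lf (nat_lit 102241))))))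
(Tr.nd (nat_lit 102301) (Tr.nd (nat_lit 102259) (Tr.nd (nat_lit 102253) (Tr.lf (nat_lit 102251))
(Tr.lf (nat_lit 102253)))
(Tr.nd (nat_lit 102293) (Tr.lf (nat_lit 102259))
(Tr.nd (nat_lit 102299) (Tr.lf (nat_lit 102293))
(Tr.lf (nat_lit 102299)))))
(Tr.nd (nat_lit 102337) (Tr.nd (nat_lit 102317) (Tr.lf (nat_lit 102301))
(Tr.nd (nat_lit 102329) (Tr.lf (nat_lit 102317))
(Tr.lf (nat_lit 102329))))
(Tr.nd (nat_lit 102359) (Tr.lf (nat_lit 102337))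
(Tr.nd (nat_lit 102367) (Tr.lf (nat_lit 102359))
(Tr.lf (nat_lit 102367)))))))
(Tr.nd (nat_lit 102539) (Tr.nd (nat_lit 102451) (Tr.nd (nat_lit 102409) (Tr.nd (nat_lit 102407) (Tr.lf (nat_lit 102397))
(Tr.lf (nat_lit 102407)))
(Tr.nd (nat_lit 102433) (Tr.lf (nat_lit 102409))
(Tr.nd (nat_lit 102437) (Tr.lf (nat_lit 102433))
(Tr.lf (nat_lit 102437)))))
(Tr.nd (nat_lit 102503) (Tr.nd (nat_lit 102461) (Tr.lf (nat_lit 102451))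
(Tr.nd (nat_lit 102481) (Tr.lf (nat_lit 102461))
(Tr.lf (nat_lit 102481))))
(Tr.nd (nat_lit 102523) (Tr.lf (nat_lit 102503))
(Tr.nd (nat_lit 102533) (Tr.lf (nat_lit 102523))
(Tr.lf (nat_lit 102533))))))
(Tr.nd (nat_lit 102593) (Tr.nd (nat_lit 102551) (Tr.nd (nat_lit 102547) (Tr.lf (nat_lit 102539))
(Tr.lf (nat_lit 102547)))
(Tr.nd (nat_lit 102559) (Tr.lf (nat_lit 102551))
(Tr.nd (nat_lit 102563) (Tr.lf (nat_lit 102559))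
(Tr.lf (nat_lit 102563)))))
(Tr.nd (nat_lit 102647) (Tr.nd (nat_lit 102607) (Tr.lf (nat_lit 102593))
(Tr.nd (nat_lit 102643) (Tr.lf (nat_lit 102607))
(Tr.lf (nat_lit 102643))))
(Tr.nd (nat_lit 102653) (Tr.lf (nat_lit 102647))
(Tr.nd (nat_lit 102667) (Tr.lf (nat_lit 102653))
(Tr.lf (nat_lit 102667))))))))
(Tr.nd (nat_lit 102983) (Tr.nd (nat_lit 102841) (Tr.nd (nat_lit 102763) (Tr.nd (nat_lit 102679) (Tr.nd (nat_lit 102677) (Tr.lf (nat_lit 102673))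
(Tr.lf (nat_lit 102677)))
(Tr.nd (nat_lit 102701) (Tr.lf (nat_lit 102679))
(Tr.nd (nat_lit 102761) (Tr.lf (nat_lit 102701))
(Tr.lf (nat_lit 102761)))))
(Tr.nd (nat_lit 102797) (Tr.nd (nat_lit 102769) (Tr.lf (nat_lit 102763))
(Tr.nd (nat_lit 102793) (Tr.lf (nat_lit 102769))
(Tr.lf (nat_lit 102793))))
(Tr.nd (nat_lit 102811) (Tr.lf (nat_lit 102797))
(Tr.nd (nat_lit 102829) (Tr.lf (nat_lit 102811))
(Tr.lf (nat_lit 102829))))))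
(Tr.nd (nat_lit 102911) (Tr.nd (nat_lit 102871) (Tr.nd (nat_lit 102859) (Tr.lf (nat_lit 102841))
(Tr.lf (nat_lit 102859)))
(Tr.nd (nat_lit 102877) (Tr.lf (nat_lit 102871))
(Tr.nd (nat_lit 102881) (Tr.lf (nat_lit 102877))
(Tr.lf (nat_lit 102881)))))
(Tr.nd (nat_lit 102931) (Tr.nd (nat_lit 102913) (Tr.lf (nat_lit 102911))
(Tr.nd (nat_lit 102929) (Tr.lf (nat_lit 102913))
(Tr.lf (nat_lit 102929))))
(Tr.nd (nat_lit 102953) (Tr.lf (nat_lit 102931))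
(Tr.nd (nat_lit 102967) (Tr.lf (nat_lit 102953))
(Tr.lf (nat_lit 102967)))))))
(Tr.nd (nat_lit 103099) (Tr.nd (nat_lit 103067) (Tr.nd (nat_lit 103007) (Tr.nd (nat_lit 103001) (Tr.lf (nat_lit 102983))
(Tr.lf (nat_lit 103001)))
(Tr.nd (nat_lit 103043) (Tr.lf (nat_lit 103007))
(Tr.nd (nat_lit 103049) (Tr.lf (nat_lit 103043))
(Tr.lf (nat_lit 103049)))))
(Tr.nd (nat_lit 103087) (Tr.nd (nat_lit 103069) (Tr.lf (nat_lit 103067))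
(Tr.nd (nat_lit 103079) (Tr.lf (nat_lit 103069))
(Tr.lf (nat_lit 103079))))
(Tr.nd (nat_lit 103091) (Tr.lf (nat_lit 103087))
(Tr.nd (nat_lit 103093) (Tr.lf (nat_lit 103091))
(Tr.lf (nat_lit 103093))))))
(Tr.nd (nat_lit 103183) (Tr.nd (nat_lit 103141) (Tr.nd (nat_lit 103123) (Tr.lf (nat_lit 103099))
(Tr.lf (nat_lit 103123)))
(Tr.nd (nat_lit 103171) (Tr.lf (nat_lit 103141))
(Tr.nd (nat_lit 103177) (Tr.lf (nat_lit 103171))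
(Tr.lf (nat_lit 103177)))))
(Tr.nd (nat_lit 103237) (Tr.nd (nat_lit 103217) (Tr.lf (nat_lit 103183))
(Tr.nd (nat_lit 103231) (Tr.lf (nat_lit 103217))
(Tr.lf (nat_lit 103231))))
(Tr.nd (nat_lit 103289) (Tr.lf (nat_lit 103237))
(Tr.nd (nat_lit 103291) (Tr.lf (nat_lit 103289))
(Tr.lf (nat_lit 103291))))))))))
(Tr.nd (nat_lit 104347) (Tr.nd (nat_lit 103843) (Tr.nd (nat_lit 103573) (Tr.nd (nat_lit 103423) (Tr.nd (nat_lit 103387) (Tr.nd (nat_lit 103333) (Tr.nd (nat_lit 103319) (Tr.lf (nat_lit 103307))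
(Tr.lf (nat_lit 103319)))
(Tr.nd (nat_lit 103349) (Tr.lf (nat_lit 103333))
(Tr.nd (nat_lit 103357) (Tr.lf (nat_lit 103349))
(Tr.lf (nat_lit 103357)))))
(Tr.nd (nat_lit 103399) (Tr.nd (nat_lit 103391) (Tr.lf (nat_lit 103387))
(Tr.nd (nat_lit 103393) (Tr.lf (nat_lit 103391))
(Tr.lf (nat_lit 103393))))
(Tr.nd (nat_lit 103409) (Tr.lf (nat_lit 103399))
(Tr.nd (nat_lit 103421) (Tr.lf (nat_lit 103409))
(Tr.lf (nat_lit 103421))))))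
(Tr.nd (nat_lit 103511) (Tr.nd (nat_lit 103457) (Tr.nd (nat_lit 103451) (Tr.lf (nat_lit 103423))
(Tr.lf (nat_lit 103451)))
(Tr.nd (nat_lit 103471) (Tr.lf (nat_lit 103457))
(Tr.nd (nat_lit 103483) (Tr.lf (nat_lit 103471))
(Tr.lf (nat_lit 103483)))))
(Tr.nd (nat_lit 103553) (Tr.nd (nat_lit 103529) (Tr.lf (nat_lit 103511))
(Tr.nd (nat_lit 103549) (Tr.lf (nat_lit 103529))
(Tr.lf (nat_lit 103549))))
(Tr.nd (nat_lit 103561) (Tr.lf (nat_lit 103553))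
(Tr.nd (nat_lit 103567) (Tr.lf (nat_lit 103561))
(Tr.lf (nat_lit 103567)))))))
(Tr.nd (nat_lit 103687) (Tr.nd (nat_lit 103619) (Tr.nd (nat_lit 103583) (Tr.nd (nat_lit 103577) (Tr.lf (nat_lit 103573))
(Tr.lf (nat_lit 103577)))
(Tr.nd (nat_lit 103591) (Tr.lf (nat_lit 103583))
(Tr.nd (nat_lit 103613) (Tr.lf (nat_lit 103591))
(Tr.lf (nat_lit 103613)))))
(Tr.nd (nat_lit 103657) (Tr.nd (nat_lit 103643) (Tr.lf (nat_lit 103619))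
(Tr.nd (nat_lit 103651) (Tr.lf (nat_lit 103643))
(Tr.lf (nat_lit 103651))))
(Tr.nd (nat_lit 103669) (Tr.lf (nat_lit 103657))
(Tr.nd (nat_lit 103681) (Tr.lf (nat_lit 103669))
(Tr.lf (nat_lit 103681))))))
(Tr.nd (nat_lit 103787) (Tr.nd (nat_lit 103703) (Tr.nd (nat_lit 103699) (Tr.lf (nat_lit 103687))
(Tr.lf (nat_lit 103699)))
(Tr.nd (nat_lit 103723) (Tr.lf (nat_lit 103703))
(Tr.nd (nat_lit 103769) (Tr.lf (nat_lit 103723))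
(Tr.lf (nat_lit 103769)))))
(Tr.nd (nat_lit 103813) (Tr.nd (nat_lit 103801) (Tr.lf (nat_lit 103787))
(Tr.nd (nat_lit 103811) (Tr.lf (nat_lit 103801))
(Tr.lf (nat_lit 103811))))
(Tr.nd (nat_lit 103837) (Tr.lf (nat_lit 103813))
(Tr.nd (nat_lit 103841) (Tr.lf (nat_lit 103837))
(Tr.lf (nat_lit 103841))))))))
(Tr.nd (nat_lit 104087) (Tr.nd (nat_lit 103981) (Tr.nd (nat_lit 103919) (Tr.nd (nat_lit 103889) (Tr.nd (nat_lit 103867) (Tr.lf (nat_lit 103843))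
(Tr.lf (nat_lit 103867)))
(Tr.nd (nat_lit 103903) (Tr.lf (nat_lit 103889))
(Tr.nd (nat_lit 103913) (Tr.lf (nat_lit 103903))
(Tr.lf (nat_lit 103913)))))
(Tr.nd (nat_lit 103967) (Tr.nd (nat_lit 103951) (Tr.lf (nat_lit 103919))
(Tr.nd (nat_lit 103963) (Tr.lf (nat_lit 103951))
(Tr.lf (nat_lit 103963))))
(Tr.nd (nat_lit 103969) (Tr.lf (nat_lit 103967))
(Tr.nd (nat_lit 103979) (Tr.lf (nat_lit 103969))
(Tr.lf (nat_lit 103979))))))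
(Tr.nd (nat_lit 104009) (Tr.nd (nat_lit 103993) (Tr.nd (nat_lit 103991) (Tr.lf (nat_lit 103981))
(Tr.lf (nat_lit 103991)))
(Tr.nd (nat_lit 103997) (Tr.lf (nat_lit 103993))
(Tr.nd (nat_lit 104003) (Tr.lf (nat_lit 103997))
(Tr.lf (nat_lit 104003)))))
(Tr.nd (nat_lit 104047) (Tr.nd (nat_lit 104021) (Tr.lf (nat_lit 104009))
(Tr.nd (nat_lit 104033) (Tr.lf (nat_lit 104021))
(Tr.lf (nat_lit 104033))))
(Tr.nd (nat_lit 104053) (Tr.lf (nat_lit 104047))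
(Tr.nd (nat_lit 104059) (Tr.lf (nat_lit 104053))
(Tr.lf (nat_lit 104059)))))))
(Tr.nd (nat_lit 104231) (Tr.nd (nat_lit 104149) (Tr.nd (nat_lit 104119) (Tr.nd (nat_lit 104113) (Tr.lf (nat_lit 104087))
(Tr.lf (nat_lit 104113)))
(Tr.nd (nat_lit 104123) (Tr.lf (nat_lit 104119))
(Tr.nd (nat_lit 104147) (Tr.lf (nat_lit 104123))
(Tr.lf (nat_lit 104147)))))
(Tr.nd (nat_lit 104179) (Tr.nd (nat_lit 104161) (Tr.lf (nat_lit 104149))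
(Tr.nd (nat_lit 104173) (Tr.lf (nat_lit 104161))
(Tr.lf (nat_lit 104173))))
(Tr.nd (nat_lit 104183) (Tr.lf (nat_lit 104179))
(Tr.nd (nat_lit 104207) (Tr.lf (nat_lit 104183))
(Tr.lf (nat_lit 104207))))))
(Tr.nd (nat_lit 104287) (Tr.nd (nat_lit 104239) (Tr.nd (nat_lit 104233) (Tr.lf (nat_lit 104231))
(Tr.lf (nat_lit 104233)))
(Tr.nd (nat_lit 104243) (Tr.lf (nat_lit 104239))
(Tr.nd (nat_lit 104281) (Tr.lf (nat_lit 104243))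
(Tr.lf (nat_lit 104281)))))
(Tr.nd (nat_lit 104311) (Tr.nd (nat_lit 104297) (Tr.lf (nat_lit 104287))
(Tr.nd (nat_lit 104309) (Tr.lf (nat_lit 104297))
(Tr.lf (nat_lit 104309))))
(Tr.nd (nat_lit 104323) (Tr.lf (nat_lit 104311))
(Tr.nd (nat_lit 104327) (Tr.lf (nat_lit 104323))
(Tr.lf (nat_lit 104327)))))))))
(Tr.nd (nat_lit 104827) (Tr.nd (nat_lit 104623) (Tr.nd (nat_lit 104491) (Tr.nd (nat_lit 104399) (Tr.nd (nat_lit 104381) (Tr.nd (nat_lit 104369) (Tr.lf (nat_lit 104347))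
(Tr.lf (nat_lit 104369)))
(Tr.nd (nat_lit 104383) (Tr.lf (nat_lit 104381))
(Tr.nd (nat_lit 104393) (Tr.lf (nat_lit 104383))
(Tr.lf (nat_lit 104393)))))
(Tr.nd (nat_lit 104471) (Tr.nd (nat_lit 104417) (Tr.lf (nat_lit 104399))
(Tr.nd (nat_lit 104459) (Tr.lf (nat_lit 104417))
(Tr.lf (nat_lit 104459))))
(Tr.nd (nat_lit 104473) (Tr.lf (nat_lit 104471))
(Tr.nd (nat_lit 104479) (Tr.lf (nat_lit 104473))
(Tr.lf (nat_lit 104479))))))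
(Tr.nd (nat_lit 104549) (Tr.nd (nat_lit 104527) (Tr.nd (nat_lit 104513) (Tr.lf (nat_lit 104491))
(Tr.lf (nat_lit 104513)))
(Tr.nd (nat_lit 104537) (Tr.lf (nat_lit 104527))
(Tr.nd (nat_lit 104543) (Tr.lf (nat_lit 104537))
(Tr.lf (nat_lit 104543)))))
(Tr.nd (nat_lit 104579) (Tr.nd (nat_lit 104551) (Tr.lf (nat_lit 104549))
(Tr.nd (nat_lit 104561) (Tr.lf (nat_lit 104551))
(Tr.lf (nat_lit 104561))))
(Tr.nd (nat_lit 104593) (Tr.lf (nat_lit 104579))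
(Tr.nd (nat_lit 104597) (Tr.lf (nat_lit 104593))
(Tr.lf (nat_lit 104597)))))))
(Tr.nd (nat_lit 104717) (Tr.nd (nat_lit 104681) (Tr.nd (nat_lit 104651) (Tr.nd (nat_lit 104639) (Tr.lf (nat_lit 104623))
(Tr.lf (nat_lit 104639)))
(Tr.nd (nat_lit 104659) (Tr.lf (nat_lit 104651))
(Tr.nd (nat_lit 104677) (Tr.lf (nat_lit 104659))
(Tr.lf (nat_lit 104677)))))
(Tr.nd (nat_lit 104701) (Tr.nd (nat_lit 104683) (Tr.lf (nat_lit 104681))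
(Tr.nd (nat_lit 104693) (Tr.lf (nat_lit 104683))
(Tr.lf (nat_lit 104693))))
(Tr.nd (nat_lit 104707) (Tr.lf (nat_lit 104701))
(Tr.nd (nat_lit 104711) (Tr.lf (nat_lit 104707))
(Tr.lf (nat_lit 104711))))))
(Tr.nd (nat_lit 104761) (Tr.nd (nat_lit 104729) (Tr.nd (nat_lit 104723) (Tr.lf (nat_lit 104717))
(Tr.lf (nat_lit 104723)))
(Tr.nd (nat_lit 104743) (Tr.lf (nat_lit 104729))
(Tr.nd (nat_lit 104759) (Tr.lf (nat_lit 104743))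
(Tr.lf (nat_lit 104759)))))
(Tr.nd (nat_lit 104789) (Tr.nd (nat_lit 104773) (Tr.lf (nat_lit 104761))
(Tr.nd (nat_lit 104779) (Tr.lf (nat_lit 104773))
(Tr.lf (nat_lit 104779))))
(Tr.nd (nat_lit 104801) (Tr.lf (nat_lit 104789))
(Tr.nd (nat_lit 104803) (Tr.lf (nat_lit 104801))
(Tr.lf (nat_lit 104803))))))))
(Tr.nd (nat_lit 105107) (Tr.nd (nat_lit 104953) (Tr.nd (nat_lit 104879) (Tr.nd (nat_lit 104849) (Tr.nd (nat_lit 104831) (Tr.lf (nat_lit 104827))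
(Tr.lf (nat_lit 104831)))
(Tr.nd (nat_lit 104851) (Tr.lf (nat_lit 104849))
(Tr.nd (nat_lit 104869) (Tr.lf (nat_lit 104851))
(Tr.lf (nat_lit 104869)))))
(Tr.nd (nat_lit 104917) (Tr.nd (nat_lit 104891) (Tr.lf (nat_lit 104879))
(Tr.nd (nat_lit 104911) (Tr.lf (nat_lit 104891))
(Tr.lf (nat_lit 104911))))
(Tr.nd (nat_lit 104933) (Tr.lf (nat_lit 104917))
(Tr.nd (nat_lit 104947) (Tr.lf (nat_lit 104933))
(Tr.lf (nat_lit 104947))))))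
(Tr.nd (nat_lit 105019) (Tr.nd (nat_lit 104971) (Tr.nd (nat_lit 104959) (Tr.lf (nat_lit 104953))
(Tr.lf (nat_lit 104959)))
(Tr.nd (nat_lit 104987) (Tr.lf (nat_lit 104971))
(Tr.nd (nat_lit 104999) (Tr.lf (nat_lit 104987))
(Tr.lf (nat_lit 104999)))))
(Tr.nd (nat_lit 105037) (Tr.nd (nat_lit 105023) (Tr.lf (nat_lit 105019))
(Tr.nd (nat_lit 105031) (Tr.lf (nat_lit 105023))
(Tr.lf (nat_lit 105031))))
(Tr.nd (nat_lit 105071) (Tr.lf (nat_lit 105037))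
(Tr.nd (nat_lit 105097) (Tr.lf (nat_lit 105071))
(Tr.lf (nat_lit 105097)))))))
(Tr.nd (nat_lit 105253) (Tr.nd (nat_lit 105199) (Tr.nd (nat_lit 105143) (Tr.nd (nat_lit 105137) (Tr.lf (nat_lit 105107))
(Tr.lf (nat_lit 105137)))
(Tr.nd (nat_lit 105167) (Tr.lf (nat_lit 105143))
(Tr.nd (nat_lit 105173) (Tr.lf (nat_lit 105167))
(Tr.lf (nat_lit 105173)))))
(Tr.nd (nat_lit 105229) (Tr.nd (nat_lit 105211) (Tr.lf (nat_lit 105199))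
(Tr.nd (nat_lit 105227) (Tr.lf (nat_lit 105211))
(Tr.lf (nat_lit 105227))))
(Tr.nd (nat_lit 105239) (Tr.lf (nat_lit 105229))
(Tr.nd (nat_lit 105251) (Tr.lf (nat_lit 105239))
(Tr.lf (nat_lit 105251))))))
(Tr.nd (nat_lit 105323) (Tr.nd (nat_lit 105269) (Tr.nd (nat_lit 105263) (Tr.lf (nat_lit 105253))
(Tr.lf (nat_lit 105263)))
(Tr.nd (nat_lit 105277) (Tr.lf (nat_lit 105269))
(Tr.nd (nat_lit 105319) (Tr.lf (nat_lit 105277))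
(Tr.lf (nat_lit 105319)))))
(Tr.nd (nat_lit 105341) (Tr.nd (nat_lit 105331) (Tr.lf (nat_lit 105323))
(Tr.nd (nat_lit 105337) (Tr.lf (nat_lit 105331))
(Tr.lf (nat_lit 105337))))
(Tr.nd (nat_lit 105359) (Tr.lf (nat_lit 105341))
(Tr.nd (nat_lit 105361) (Tr.lf (nat_lit 105359))
(Tr.lf (nat_lit 105361))))))))))))))
noncomputable def HP1 : ℕ → ℕ := fun q => Nat.add (Nat.mod HP1t q) (nat_lit 65536)
noncomputable def HR1 : ℕ → ℕ := fun q => (Nat.mod HR1t q)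
noncomputable def HW1 : ℕ → ℕ := fun q => (Nat.mod HW1t q)
theorem tree1 : Tr.all (treeP LB1 stp HP1 HR1 HW1 WL1 (fun q => Nat.beq (nat_lit 84047) q)) LB1 = true := by decide +kernel
theorem sub1 : Tr.all (mem L) LB1 = true := by decide +kernel
theorem bst1 : bst LB1 65536 131072 = true := by decide +kernel
theorem size1 : size LB1 = 2816 := by decide +kernel
noncomputable def WL2 : List (List Col) := [[TCG_Fi22.Col.h, TCG_Fi22.Col.i, TCG_Fi22.Col.h], [TCG_Fi22.Col.e, TCG_Fi22.Col.f, TCG_Fi22.Col.e], [TCG_Fi22.Col.d, TCG_Fi22.Col.c, TCG_Fi22.Col.f, TCG_Fi22.Col.e, TCG_Fi22.Col.d, TCG_Fi22.Col.h, TCG_Fi22.Col.d, TCG_Fi22.Col.c, TCG_Fi22.Col.e, TCG_Fi22.Col.d, TCG_Fi22.Col.f], [TCG_Fi22.Col.b, TCG_Fi22.Col.a, TCG_Fi22.Col.c, TCG_Fi22.Col.b, TCG_Fi22.Col.f, TCG_Fi22.Col.g, TCG_Fi22.Col.f, TCG_Fi22.Col.d, TCG_Fi22.Col.e, TCG_Fi22.Col.h,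 TCG_Fi22.Col.d, TCG_Fi22.Col.c, TCG_Fi22.Col.b, TCG_Fi22.Col.a, TCG_Fi22.Col.d, TCG_Fi22.Col.e, TCG_Fi22.Col.h, TCG_Fi22.Col.d, TCG_Fi22.Col.c, TCG_Fi22.Col.b, TCG_Fi22.Col.a, TCG_Fi22.Col.d, TCG_Fi22.Col.g]]
noncomputable def HP2t : ℕ := (nat_lit 0x8a0253679c6c98d656eb03f8cf961ba40fee8e259d7d32dc83769a6d8391ebf2415f2498b89e995a9f5fa25e5382b9202b768699cd85e643b0f3074706eed06b3bfed16c5dfda9dccc28d867334c2ab4e53e0292a0cc850cbb9074fdb07308ea04aa2b189667929e38f159a47957a8ad94ccf5ab07758460844f505f6871a1c1455954e8d7333cb1a53413a088e223194428ee80ef55139c81342a90b54247e770bf190ef542759d18a549a3c42979432f7984d4e7c8a4e7e6ab494115fff3089b23c09f48c20b7774bb967015da6539ca9b745bc60111e4c36c560c4b25a886cab4e57a3a79dbcda46037292347391af989783408f0e54e20b5f2d0c43ff9e1b7e31e44dbb5596dcdc4b68799e5d0bf8a916e688e33171e7251650f1ac5599fdc3b45f19a29fd74c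9fc34fc53abc143fff6113dd2c7be72570f36d49ef46a422351359ecb36c0e6bfa322f6d4517089b56bfddf048710fbb8db8297e8db3ce6c4a1d0a11c1885ea79280b62ac9a28a4b4157dbceaff69aadf0b416a47ade3d52337002c22d1fd74668fb1a8bbf1c49a327c9e13503f700eaf9e716093072567e5f68bc52de6afdc0ad580a70b97167fe15a80a7b95b2732600a4d6aa15efac80cec08b012312b6b74d955a18f33871a218d9f92946e58a00efb68d50f8794a102dda1ba1d52c95c2c7fddd8d6b9be43fdaabdf4a916a0bb7c55f37fab9b79c74fde5ba52bc7ad3bc360e46b61da5e7830b1cf0ecf397d6f5983b27f5c7376a2afcc7592f55ae0b3b269227711285020d915e2a86836ec39bd0ed324e4bc352662801aa2f529bfe1a81a4b8fe80466c92e725e95db7dc2b937585ffb8d6982141ab8d7e3e62e7e5fda0c6d48e63aff2386d55abc95ee689b3b0aa74430f2e8fc95333bd613db2fa49a675e611c20a90e6b5e8606100aac6f8254aabd74d5ef0222bad692d87758b23d4987956b0701357336bed90adc20a848a3ee22ed76f6153cfce61181769f0e8152d0533171b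a96d8657cef8bed00870806cdeb35b4dace9ec754264c46bdc036a53a4617d4b3dc1f0e2a5fcd7329ac7d2737a7ebf67a0fd0dfaee4b048054898d4e5931df3f676017b30eaedb5ff145c097c6c7eee9a82d6075bf53885803d134d5c2aca6bfccab36d618e625aa413efdc8faec5481b3d845191a84f87c6774f177133ddff117da814783d0ed84af4c65eaec1c3d2eacde002a605b421f78e1746140543de4d21c5d42f5f218a37b30e3f0c75a3fa37afaf0d5a116ddced4bb75368de7b48f750c3972eb745afe4222685a5f54a529cea6e9d412adce507d63dd1dc10d2565a5f9a20b4ecf7cd9dbef8f0a23625a36cda122bf633b3b03f90a74d276bc06efe2b4778a4a51a9f74ad9c13ceaa74940b6256f462cd0f3aa3cfe685f3141cd9011ead3c2dc0e56a68d0aacb4f4aad885983bc2e341c55c67a80745ae30c2aa624a26e3d5f7fc7ecd5d413f2bd7e13359d11dfaa74474b9a34013d3673f5304860234b10133c328443055ce1f07551c495a97e94ea52260c83d5440d50ef9055bc5a17e27e2d8669d91df03ba9e1567d029c29a1dcd30adfb989115aade4513d610dd61240517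c8b8070087e0f7fea56f630b82cac550b4c5e089a439c68dcc3c851f3c76f28b189dcb6c93b3b5fe1a575300754a2cfee234d628aec6e0f70c450343acc6c3d1e3d840d112eebc042c5f62f3a52ee4770d7b7afef2a5579a2e8d98cdca1ab9e7c3f2dd668d77dff2f3593b3c92b6f6f9ee7f2600e35559630ec2872eaa046fe14c1220bae830ddbc47c08999833866b351d80dbb037d8a17d5610ac6d876db192fb6d19a86c6ed75d2eeb3dbe73424b89cf3a3999696be4b35763288ec66838acd7b5bf27fdfd66758f5f6f7633d77dcf813ef1608c115530cd5929422ca1f63d315fec24402ed9a09dba0f46a2762609c045a231e8e5ac6768fd63cd4574d8292ffc17d39ce66951b19e05b72c5d27695499387c01bb9f0916d03b9f91e82d7570f2c067877a12328b004db999ae252e83d36c30ae99df2b51fc1d583c2dad8e7be0c9ee51e8330ef472ef88b193833b438235cec870a95f6ed35ef1a0290773dad1feb2b1a6e355e0f5da7ab6b38db137fd23f56219610930f58faa53e858d88cb27577eebe20fda1e11020dc2396cce83126585391011318fee185ebac444cd88db9bf83b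d7c8041ec0ee0f7827f84e9f240b3b8c9b532334a88c2f5cd0550201ee70f55300ef59e3f65807a1881de5b220b29d96b22caf0389de845e4617e50d198bf8f57da9fccde53426f05a25a837d109b8d9cddbb8279ae098b510a659efaf7937d8f3d7edf2b3b1a1827b70ee1b5f5d59c08a5942e10b653801a585da879cb2ecfe4a34313e964b012045a992fbe7714c4696604ec488e85d102eb15564aff452386511511263c3e58b5906aa7e612c7fbc11b694366e0b221ba129aa4a6c79117ab13e5f7aec57fb40f89d0425f4b3075bb0fc4ab262ce2c90e2076919c4f715a7ae70ae196d5e330bf4b23c20481580e006a43e25cec17d23638b06cdac577dfabdba5e09f939e399a3e819bfbf3fad1d0295f55ee2d88798e3cdf0000bd7244fce781b4a65d499585644659bc75e7ff702f5f2ae5656a03136c1451b77a1a9d3e2b71992566113f4bc080e496ada17dd85d1d0be8a01e206a64bf31997e553cf9662038894cdbd3f8a60652e46b3c5e31f0dcc81d88a0f7f306d4010bac7077a6e18a0c6fc0cb2feb829aae9917f8e32125da35e9a75358b44e957305203ee87e39ef6e90ef7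7b2ff1cb3d1491b5a9146204b8d856943f64dcc01b11a74f9c679c22857b8a7b090df2875226f9bd3a533b2a4af55220cedb7761700cdc4306a69a0cc2e2590cceb01ac3b4a74fca3f1a514cb58dadaf42f2114d732f8671e9747a92aac74b80a6b6cd2fe68725eac426167cae4606f772e5e5c4a916823db0ac62022021b1a08023ab500b0f6d0da77d1b1f9612eb9a95a2c34337bf3560ad292f07d09c44db2a6a33e5f7ee4e975b147cd4c8b7bbbc6da729a88a5c3f30946006f27456521afb0825af99f1e364f9f46805b021872db8db87a955fa726065199a0ec56eb86744e2076b008b3e1cfc79f0c175a2f1386979dbbe62a6bf7b23c625fb69d4c485cbd2d9ceea91fa19e23b6123edcc1fd54ef20e070c2c67f3b5549703fffd68db7d5521ed0e86079c05b7be8c67a1a049723b604dc6125fbd4ede72a92b0311908c29fd7af36deb79e1e758281e28fa46ee98853201ba624243445748b8694fc36868a4dfc400f3330ba88d1baf138e286bfc5c417502b251f5d39540c834e17a66b12b83cb080c342ebdf07d1e3aad60f240d6ffddb5c6ee0dbde8102d6f3fab084ed54fe464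e26abc682a752b448fea6df8d17f939be69d683074006a687ca72ab96b757bdd697bec2c96548fa294053ade542904debffe3b496235a614539cee90634b98ae77a40aa926511bb136c657d286f488d47f03523dbb398293b219a73a28f5715836c75938e7a3220b24fbf6bd109a4f33e966d452e253d7eb4a3a4a0b3b9bc2d74f23f9165782c07e3e2a1cc0ca96d92c0f97b5b29b7c0cc138fc7a1c043d33e6d36e86cfa94cd4826a5fdd35f991ccdeae22b9b4f8e8fad947e349aff2f9e8c0f6c6494b398e8396ea4a4b40d526061eb7d8839c733dcb7643b0a90c26759d2bc4174be20194232145d9e576309d4a0d1ce0125e927775b47863cf6f2816c1d18de15c8fab2baf1142f6d57116c8ff81a69bf7b7b79c5154766787b931452bad2036f051ea65cac1ce52b9013f8499e51e49610a42f5d43bd7309d91fd6a8284878c2d44ce043cdb1aeb092744b51d49ff1adf5749e36ffb84a7c31e00eb965aed8d80b65bec6990946692b9b53fb5767b0d9958074f91abf86b5c05f6ac6921aa795d726c1f1c817af6bace8e69d24de21a9fd355a97b79576dcbbd6c6f02c9de171512fd3e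e87f1e15e5d28551faa5bb9109dfb540166deed021cd7f69ae33963662927a763b4789645ba5fdea1858c489005bf51e30edca5741230f7df9e2ab50edc0e1aa827dee2e2b3a4df87b0e73c08f32c7564458d452c92b3cc7ec02d6c5fa94b3c061a4f7d992ab74dc3a52b1a889d354d1ae599bac629f448886fe21a7d06d2dc5168b048615b989c45d9b09458bd0cba3aba883fa2f67b1c763b40de8fe42d86ab52aedfd5e568f5e2b1caa173bd9bd15104dfcfcffc1d2a0096f730bf8e6410002d6658687fba930a7aeb38f85f2649c6ab94b155cc29c793b1c41d355e26071f62cee7282b12df453b8d7979a49609f3dc52bd056e80bea2e3421fa609afd0f161ba7a1e2dd71dc56514496466cf51b0451bd4b846cb643d548a4a9b3a49273209eb2f8b71d83d111b96dfef1d7e72f327fe3f4802ade9e108b327cf96ee471da9566382152bd728cfa66f10a598d8211579987c6e78fb3244924e315ab2887590809cc71588098645379326c68927c114354e87b1f9cf09f60dad297d3ddfb94e98acd1a89fd31626adc238b3b0c4056151446216c23865298f6bffb2c15b84c3daee6c62230bd4e65320594947bae1a6cb6a0ffb222c89d7ef516f4e53aaa67fb91c23d9d8efe2d4d7b59c127047fc7ee9c353bb7a3e4579073d02d3e605d6f66ed1897794f5a535c98f0aefc5543c3c1720d424d63efd692951c8d7354ae24b9960c6bc6d37b3dfd46deaa0ed3460652f05e82323d85b1838b785724d12455ada27b78310168b0d40582bd33b2fd7d60bc1c215d514032e065a226a4e744e0bda27b1798840583168e05e973e0163db5a95f98624c1937fd7311ee97356f40f332324d06c)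
noncomputable def HR2t : ℕ := (nat_lit 0x7962661bc414146bfeae0d64c72a73e4e928237029833e0c747cdb53e4280107b75354d94a47f20fa5f150065eca0b8a3d6294b4bc699f233c3a766e53a0b2e33b9d89a3d1a8d431180c0fe83ccdf85f396b101a8f90a81374c7867c920230ee014f56bf2eb3b0c753b03680fbf559b348d2bce8e5295e0947fba3a4565ad65748f6ba830282dbae1370ed31d10d8efe8f124bb2cce5f2632602aa7d678a9747bff2053640abf5db10bd8c2d0d8ac9939ccce092882f88c888e819f97e96f8a6dfe61edd56629363d810e763823baeb216630849360256aef824391a286a3180316ef6d7ccb8a8efbb6d793ffbdbffa92805400fae341d4511029728ea8e2ef7ebe323dae1f33873f99ba59b9a502186b14ae926a672dece8cf35cd344daae40ae6229d75898e83440eb2a5c0912d8e7976e94f6d6c2d31004387ab52ec12b6970dfc12d3d1f5c2f1b53c187d230468a8f879dae53f7f09e4a0fa9e436b85d1c0254e8ee35c5649a28f8278e397d2880b532d1399177ecb47250b06d34d1eaed2e4a75c1911f74b1556d2f959d04119667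8c1a0211fb9fd0d4ef000e4c77bde019897817ee113f8c9f8d7c9cd672d29f2fae3f3218a5839bf09719af47d70a319bfeff730a739aaad50deb19e394de4bc6127eb470d1f5b3b3bd5d81774ea4aac687e4a8788d5a518249774b4ef499ca3ebfb4d722e58a23a3f1d2258f39b25910a3a8864786de811a57e7b7363167526ca809e92570d622d083979cd7aacaa12de858b325e926a777615283c4a7082fda9cd5ef375bba6c3c315734a04f8dfb87a6285c8055bfdab550b63f1988e0e23ec7fd838b4bdbfceef066325527c2869a6f0848ec39f3ed6eba11aaabce64d27a4bad47c0806037bdd289cf5ecac506bd69acc92966d12b022bbd77c933ed650e3b1df3bee700e2fffe512aec5bdb905640c4ed64f2753847a8bc5f69354b6119f6e58975f00bfd730347bb22b7ac725cca6752b87bda8f73ab05754df034aeef46765e0b660fa2366cf438f912d81cfb47eaf59558ce8c71ffa7356f077c96c04e492beef8fc7f906dbaaa83a31caf753d515556ba2ceb71c93bbc604cde05ea7ca973c4531a7428d97313cf6368282af37e8bc79e03bee9bdadb8374820619a778291395d5f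9c385f8f32352bedad19b8877813340d192f9416f8d2a2b4539d04af7e1e100e84e5644205ef9f00c9a5e27607cabebc4c1aed0ed3e0079c45226137aa603cdeebedde6b4236da9b16a8e474f4d112e7d4d58fd232dfbfcfd4f82b26b094c3fdd0147d31c96acda75972672fdaa7632effb02a2851fed8affba814c147edfa86f3a383930e8be58826db0c128cf64cf763aafc3c8a05ac5a6adf12275fd4ae4d966445be9cf425d98443699ad85c6f0cdb8b26e493e8293a40aec623a052d78cf6ac7ab85221cfa16b6843cdc5a15b3cc63d1ea4b533579fb5963c3e9e0edcbb7084961e3e400a647587ccb9555f69acbfc04d3a16471d147c1be850b3bb109c4f7833c9fd5a63f38fc7719636f6605ca263c3669555db0bec1607004c954b659ea174611cda10e6373631258d1548758911c7886afb04aed3270fac4b883ba952d7499a639e872b398214e5c1054f71d33ec6a19853b096aff97dcd86caec7e817b31b03e5355dfdb2c51fbb56bb3d73890d20ae35a29c7d7e2141184efe68f33cfdd0b938abe56267b2b78b7aa395cfed5d91290ce4bbaf6b4bbd2d767d67db8e1e8ab2200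cb143793d647a0a7f8b3f96cb0f50744ab2379939b69bf1e885c82a4818f896385e5ac6c53e030a96ab4c096a61ece5ed63724c96d8e086fef941536e5c671a196dc76f417fa3f213669b1cd8f848b9b6446c0455ce7f2f883788ac3d90795f5b63972c8327eac07441362273519380d97fb3d63acdc7014a1ec5c2a7cd45fb414ef4d7128c3273c37b3b5cf45d30ea1da23488ef635c01e9f616a4fd0da4f4fd2a23da6b9687c13f748d784c5700b9c7909e7df74ecb774f0badeabb4c0e0bd091529d7c2c738061fb4218fe7fb9d9ba57bcd400deda0d71fb828904d148672845247a39f9cd40ab1aaf8e32f598462bab30d60436ce3d408afcca80837c016d1be6a8cbdcff2eee81f54a0838d7a0c75bc18105e8f0dca58913f7855a2a4091327fdf92c8f2d9e265e5354521d17769b82fb56fb05bedd2c7f1e42c834e38979b3d051323d7331e87a80aa78ddfb888a803703ca7ddb12cb5c4e6a94cadc3c01d170486b2be384e07c10666be49a63175cce89ae21aed294c22d3bef6b38c3d1166fcba28e6c75748547e6c3b5bc49057812bf750c010ce7648beafa0ad6882b43b36494fd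ddfaf76e2d4d7d3ae74b69023849935ee118583d4c79e33d952330aa05f6a8a7159221f3c9d25f7074a6e19120eb201aee2d928b410b74da46af68e243ac7f2d50047cb49ae707b822bb159b1e81d22c9dd1cf2b2f5cead8591445e296e5cf6d89d64375cc5717abcc88bc4df6232478830003917aa2bed1e51ed3a4969a8eccfdc785134224cf506d358be4b766039a1e6525d5f6278eed9410815de110dcc4e2d63b9ec10f4c774d5a16b66f6f9f6b15f72ab2f22b702e7fc6dcb2ebb5b007058482fb827e9c5ddcb332f2fb83a41f871d215aeb10eb46af673db9dd746f25c6797bd07b9c9229dd3e66cbe7c28311ac6a871d907c7d71c919a00951c8d92ab5272608159cdf59305299787140edabd74ad122fe0c2363795fd1961b0325690fb8ecc1ed9573efc9ec99e6cc972361ea74b8e0a9f2243fb9746ffa9f3533f791633f4d49ba0536005d9153bb2c177d524905efc992c8e8d0b9aad3c3516b98faf384be6d286b682f8949995aa5b96239b4ee8d2df74652f371fbec1d70394375c9b1ffb0868dbcd96d125b6d107494dfa03de9fde40fb1e1d252660146577374f8f7a37ddd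8a2992d71547f56f17ec3647d8e96441649441763518430485f622ba337145ec8d86712d0e9c08ca7f69f5078d560c0e43427010e37c548dafd45aab2065b19c342156bc3256b0ef10a3e5ab3e854121ed6d557dfee66cf15e2efeb2b78dc5c3368cf690e934618bc8f917b0c26ee36dd202e752e5c4fa534d742f094b4900086b8619f4e4f6726b3e163e5535990fa705b397b181494c37931ef95c149e5df268a7bb1e7f765d4b184e427baabbeca3d8fb5d9df3e71f0521b7f8e02200c70d82bf77cfc53665c4bd40ae2d4d440f00e367e958618af33ad75da43c71f1d655e3f8761a8a85c5dd7a1d5b70aab0004bf3d054bdc176434e5935c81208978b819fbe6bbc288d1e43fded475c7f1a5dc2f1f027e2ed533b7d1f726b5a5b7dac5c00402597a18483ca52e7bbb39e87a18cce0250870ea7043315e94f02cc284a95ca230f8ce348bf1cdc4ccd3db24a48d9174917e4838b6cc3ba61371255af9565e486a9e6bb016166cb1a47ca54e2c7701fc6a53ed39731ef956af25f6c35a9abbfe93de4052317553f1bbad210cbe779a401e0bbad2d1c737ef492f8742644b6f222c8bc1862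42335a86f835f5e76956ce1f436088324b428888174cb19f5aba0a420ac61c7ff0d9d478b545c22914b1bb2583c6cd1f6e80a8f84eef621a1d5b679ac1354215eba23737d8f12a5ee67a05f1d2080a1391b5088340ad1d23ec4e5cdc8ce8f2aafa30dc2c0c4da00c2cf83bba80f8027944a3d9f760f571eb4e7d2d1c115fd13210f793f15c271c1858598cf429ff12d1f8ea45137ea2a0d6162de14f5f98a0673e48f548634ee25dba16e67a374bb7611e85f01dfaae5cffd9330ee8a6894bf4f8b591dd21057126d0e506c4a3baf1dd6c5ef8b831c568988f5a0eaf300c13150a4028014d9d638f23addcaf70a1d8b95dce676ee896f9bf3647a2638c5f6bf9df9369ff6f5787753242b87e191b04d01deab562e73022f4384304e1a2e768a780d1d57422591bfdc69465cdd233342d1606484ae7407d12188f44e879866b4986c21ce99d51899ac2527bb57a53bb43a0d209cb94d7953dc9bba0367ee074e81233bde99b58454991cfbc6543a0d143528ba9355036fc1cf1945e55579d1b329102b5659b9604174cd01a939a897d8fd0b333cbebf56b66ebfea74bb0879751c51c936e70fd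6c72d7b47161e028af0dd63c7d7c16de5d141165c851fea1280c2cefa704e47854ab3d5e052e797b11f6264d001eef6e99c5154dc2cf1bb8681a7b9623b285111339949fd9129404b96d88e1f23372ce1fd6c06d7a800b34d4d75588fb1c034d12369b7755322ff3c512f7d909a8154ab5993109cf2a31d67dd4e75ac95748341434188e4e258cb6a584328cddb97d40afac55ed68275f5cee63ae8a2b06054da11ed069b40ea4280a6659d83472b9bacb58ee54fa0834a202ebc8c8339d4912886d5a67c5b2d0c5843edc99474c2262a13943e3c30d6700a2ed57c40f825dc2ed254a37bf21ce30c0e695760b0398beae88e5acefa0670f35a1cf334c6c01cabc29e8aa587f594bd8b8dda75f1d2c618b4deeb0d50db712571f2ca496147f7c33507fd7beb6dc38a28d4baea7b165fd9bd6596c154d8d73f42dbe1d674f6a1686a1ed3a50f2981e2b8cefe9047bda906b4b329683d8d26400478692f6eddd87f40edc234412a0f66fab8370f5e51ab58c54ad960daddc09031afe9eca6d5f4dd323586e8a5a648506f4112c410d0d135688a7bbb058f94b49eaa5e69dfd385f394c5400e9b7a8234a1456d29dadd22ac20084fc1390f1b7a37785ed04ed0c3b35a1e6acdef0076d9e31a034d43299cbd1d8ed72a6e98d63688bf9c1b1d009a2298839ef5f5f560c10dd1f1b0842e0b33a364fd27a997e199d27c22bc338)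
noncomputable def HW2t : ℕ := (nat_lit 0x869549fd06253e6f34ef2c07c858ed47a07f739645196a9fd1e0263c9810bf5ad5450ba19cd99da0b76124343b0b88805bd7a45e26ff0d14542f6904d574395c621a476622fe38c2c5452725a17a48012f80fab0be817890cd053eaa25a62af73e3088e1660282baa8639af8f604611358abcd0ebf842eac0206bc6307be90791bae4abfad028cec53d86488b7111a86e5db7147f93d83eaf0d5c096a72379d3d0c9abf1e65d27fe1c957a5c442fa6eb1a43efcfa2f0286680fea779070760da78911adeac6e4509d89edbe72de94cd7ef36a2a9482c178748592c187fb5782138dfa853c379d54e80e09d6ce23a5dd03154d226723170168bec62c8a989a46439d4d654ff1068d6ab05c8493e7b07ceb5377b0f7a8382fab0e740b5b50b1304dd817143d1784c2cd8b0210a1a38fcf448cec9cd12664ab0ad191b9ab6f316100be367083844b201e442570c2e07ca0933f3ed6f19f4b6d29e74f451ee2ace2bfa49e4be320e3265492cf5badbde3a4ac3f8fc8c5cfc5e3faf609bd4450b7baf999df4e90951dc7fd08e905ed903bf048d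3f79c8516262f9e9d34bc162bc22a2af3f7ee34c64169f2eb3291d8ccc5b4d2441c0ba522e306f490a70db5c241a06ff07700ea86545591233987acc23ce362218d5f5d9cface5637ee8f6c8ba8648f3e0261f6b146936be3ea8f20f6bd757ed3c2341fdc4369c80a79ce527dcb1358f19f1e9ecd9e5be88327549b1844d5fa52ef2205a76fb99488550b39112efa55aeb2d16724d7c732c58f2a7e7855f95ab079903f8be0d05c1758b79b4c35db8c10811ed8fb221cdc963e78df59e2d54538404eb06c76053dab92efc93befc374df22d700360fba97c23a05acb632bd8066bb5db68438462c4fbef32b4a2c77b0310231a53b3e8eb2f09ad10199a818355bd66749fa9afcfba2c9ce06a8314f0e1bbad8f4a42d044c3801c7e0ad3cff6770e1cb9a06e4d7b7c05f500f8229bb233b2bd68919aa6a38ab3936962c06d967ba1b04ab82357452978ef3034e23d2e964836089fa3c2a50ab6db185a1db499495f34125447e95b6e97821b48a62824c9e9e2ac59d904f2a0f52959ac90b48b87783950402d9c3f44b2a22d1b6a72d9cb063693a7f0bb8d412e6b31e290b866c90df1b657deec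1c642f4fdb18e70c4e407f45e46434f4bd32152d16b469b5eac2f5489a342609a8bc8e97742d373747c33c7809d7421a2b922fad98c04846425c756944b61b2ba3819352a5422452f42d177f1a4bd49c7fa0c5885e0650b97c734416eab1b0454f99560323f0101325a9b1de0d181c83caa1cb35355925bd80c64627b2525fcafae4ffcf36d0148c2214f82548cfddb2e9c9ecb42970578b2f4aa130da36d3d8e95acbe68480d3e4bf22d36245783d09bba61a10f4aec936190f42f9ba72d46cd5fc8a77c1f2bddfa07a6e4e87a0bee488a739e3f2f722a194190087a9135640a7bc38a257bebbe79c6f67eb07aea270d1c644058227ab5f123e9761b79874c97aa5260a479e4cf765ba89c1756f8519fbb345868fecd014c43aa54da91c2929a53ff13dbcaa477974c06ee61f9740c3222066090b6a3337db10384d0368bd13ffe753f5d08fdafa9d314fb727bf14ee9a6ca91b8fae41895c773537c98bea733968ba87f3cc927373b7f8b64bb1d1b8017e12195827ae4e01dec6a678067de95375778969fc523ff94f3c2cf37375342e8185e7aee098cee3b3087cd996d72381e4b5cd4ac1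fc73fb9e2b31311ff940350df5929a077813614114490f9d99fb1944f44619b9c76ea3f04d83b01163d7bd79ae0a8f1097d39d8f2375a7e0aba95c04450f5f6f6c640ccfced9e31d73f9f2c9484e9836111090d454197fe376e5a77178e1d1fb46cb04c52b137efec94e4b9ec39260ffb961ad2ee781100f2c01dcef8b78b99b1ce78472eb171f95b5034f74958f03f307cb8d8eb000037e9e40d5680d79cae79dcdb2b992abb146bd26804ec9c883e813d669700c093bc87cc624429c5dfe5ee6fc2c8458e2365f0ff454d753df04e5a2c80b44c37c5c188cc702c086529ad84e0d8918c59f3278f64b49907107cac3675cb6b32aaa0bec74ea17233822351f2ffe4bfb6d1f50df00e7a991c114ca03d4a6a44213f4e2a161f7a161a590acac860de047b9642cbe77d7697715da493fc891d6539f424dfc4c7e4ef171ab70f2b4ab4291e7a652a6d766eea2ca1e53561060f8bc9b2d3df7b66ceadf2555655d800f9a6616f76fc66067ac7e9caba7bfbbcfb37164a58810beb4e22beaad8461939e069015cec18b23c4afdb631782db783694219ff66c0247086f0c71ac8cf7171f7efb0704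912c3702c2b65144a258a3d95bc8fcfc34698d0df945ccc778e90784ba53c95bf8fd5ce122200a5065097563e51a4e0a1158b3c547cd9ed76aec8b3063bb57b5a2de7e394a38922c58245d0ad9f15f6b52b351ba81e48e0ea9a96ab38a111271ee03ce8bd6b04bc7170f87c0056faa8fbcd629942e9e47f58f0f93a0b530abe199d459afa97b4ce05364c687b7450c45826870019f6419bb796f37a244187e3612744d7c41b179071ae9f358aafc749848e215e0db508624a2d69647727db062779f99215d466d5039683e3f8ed2ff075c83010f89ae2406979611d49563ed58ba98f0e2822a59f4806d3782f81c35178f16fd128a00127bc9ced96f770972421cc7241b9a0e6808a4a6320c6784dc588b92c455a75a2b445499326a079ecf21852cbe2d5b487b25286b7d96b40b21a08eded4aa80bf905d307a400837d8f84ab6d0c295b34bd56aa1f9d4a5e28416dfc36cddf17e361c3ceb5422231816b88e8b54af4aa6a1e1fdf5242ba0a9bcba71a15ef554adf9aca29cfb82db0741e6cba8eb001e77cf1ec974744fe7b9c8ac2a13c88525a4da6e5b69b9b2bee30a0e7040dd9fc56c74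173beabb35bda91834d0504bec690a0e2ab313fa826c95ed97b0e577212890518cea312c021ffdf01a5478996e84b1d755c1b74860f688dfae5cb2e848a9f7a93745cfbea64be88c21fa9de39c423dcd2df5fe3457f7a61086216bf222085d4ff9828e5d51943c49202cfc30086b155310b25c731d3286a9c66d76d430de5a5f1010ebf0d3983e0f68f8eb2ce49c757234d049e3782d27f711363adebd66dd6f269ee101bb3b842d72fce0e6382404179ffe78242932a2aa02957734e9ea58ce1b8dcd671782e7239cb039747aa9cfc48fab00ec558b97e976efef7d2eafe33d4697b4d8568b343988c3998c13491b84745f2c6b9263da131e446dfcdc354aa3b36f534afd25e710042278c45bdae5ec7dcd8ffaaaaa8218e9a450e9fe827602c2971156a1e08fa466816e4188061bec842c2e55dc32de3fa5b35833575be1e4af06ad5ef1062292150910591d41f236686a72e7079237551b139b298e8f3a608d0cd5c5666e4da237dcab4838c914e084d44c972336e74c3fdb4d6feb38e5d00fde7cfc74a8f66ba1294af177a717852f09ecb1bed7a1eef1502d41977cc092a2eb74e992b8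73f8a27ccc6f5f9d025bc16ce7cd94eb72692963391d43385aa007aea0109e3039a05579fdfa0c961134e368b3ca8b680bdff956320b2687b185bfe9a1b6b1675f5ad45cd5322fda01137140cf09c88635eb9b804f3ed5e380bb41d8516a24a305e0856189bc26ff260441318b88c9d6a530e09d5c647fb6892fb7cbbeb2a8b5f61e424acc7f8116a8fbb11ce95e86a1efbe3ce5a2bd58b60c4d4543dcc65c9e0e35aa1273110417aa97c6399a48d6827ae34a7192661032edfc100900f94e36ad10b8c81186e4cd36afabb78d90d1e85b20bf5f8ad0b33c5a1d908ad7c515d92427e7db036705ad6aafc0c7ce266e31efe7ed7a1155526ea2d9bac8841960c6a0b87df56769bf55b51094ef4732ffa8277d6ace1c6ac2f0bfde6eb82bec5d5fa392d944675d925b17e7af376f3fda4ac74a667719e266ee8cbd3b52a32e3336e374ad8669cdaf43d31fcaa152d585831f83b6a31046ba04e23ce8e12a7b52981556fce1758af4fb6c0ed27f7a09f959af3cb0924e80994b911ec526c8ae17ae6e44d181cf4d8a8ac31a3e06dcb43a23c0319551c5cb53cabe9bb389153c155f282e0c718d19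db396bdcf60aaf198315be7e2a1c0cbcf4e14052aff72bd365edae91dc9f957959b5b123bcc0ae645ad4dc469668239c24b5d9becfaf9865ca1e8eb45d61c50833b6fc57d8a3664d784cb058f73873b1014110e6fe43f404c296598de52c2a6bb5401c9388fcda8c7bafd1bc2372188a16258843c0a185f13c7808f167ba8f3123130abfc04eeb00a1f371e924926f2fcf97ead641222f0100112d9d0e3c4a526d521d6f14282b4e45208d89025eff4d2dae0ec6d628be9baf19310b8d9f7c02ca11ff033db56fa19a1c12f609a8f19297844cac5b56bab3f80985917262d171b48f85a3a7e2ebb12785e43bc86b08a8eb1faecbc8ebc2af958e2dea3a793715718c9fc7e46e08ec50b707722131ab7c87d583606e7aaacd885e2f512b9fb8ebfc3a217c0ff2379fac8e926b180e4153ff1060cba502e42f0b543fba7c32d7ca30e2efd7e0ad9d950ff1cf827dab7d9bcb30549a11c4220d223b2a3f823daaa8da9cecf04e21376e2ec697f94984c8357f13ffea7988c72871047265b66624ca095141928042a4d57fe9f71213934c27455093d298faef73a54aef651b428742fdc622100a76ee02daa2ea6acd6b43dc8aaa2ae4144fdbced90f4c212d3b1b64e0774f91ad92c38da95e8949a9f1b1744d015630f0ecd0543e39c50e9bdf9b547fd1e0f8fe8d0415eebac414a726f8556836f4eb6b576ea26f362bb1c40d)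
noncomputable def LB2 : Tr ℕ := (Tr.nd (nat_lit 88003) (Tr.nd (nat_lit 77017) (Tr.nd (nat_lit 71429) (Tr.nd (nat_lit 68729) (Tr.nd (nat_lit 67103) (Tr.nd (nat_lit 66161) (Tr.nd (nat_lit 65729) (Tr.nd (nat_lit 65633) (Tr.nd (nat_lit 65599) (Tr.nd (nat_lit 65581) (Tr.lf (nat_lit 65563))
(Tr.nd (nat_lit 65587) (Tr.lf (nat_lit 65581))
(Tr.lf (nat_lit 65587))))
(Tr.nd (nat_lit 65617) (Tr.lf (nat_lit 65599))
(Tr.nd (nat_lit 65629) (Tr.lf (nat_lit 65617))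
(Tr.lf (nat_lit 65629)))))
(Tr.nd (nat_lit 65707) (Tr.nd (nat_lit 65651) (Tr.lf (nat_lit 65633))
(Tr.nd (nat_lit 65699) (Tr.lf (nat_lit 65651))
(Tr.lf (nat_lit 65699))))
(Tr.nd (nat_lit 65717) (Tr.nd (nat_lit 65713) (Tr.lf (nat_lit 65707))
(Tr.lf (nat_lit 65713)))
(Tr.nd (nat_lit 65719) (Tr.lf (nat_lit 65717))
(Tr.lf (nat_lit 65719))))))
(Tr.nd (nat_lit 65899) (Tr.nd (nat_lit 65837) (Tr.nd (nat_lit 65827) (Tr.lf (nat_lit 65729))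
(Tr.nd (nat_lit 65831) (Tr.lf (nat_lit 65827))
(Tr.lf (nat_lit 65831))))
(Tr.nd (nat_lit 65839) (Tr.lf (nat_lit 65837))
(Tr.nd (nat_lit 65867) (Tr.lf (nat_lit 65839))
(Tr.lf (nat_lit 65867)))))
(Tr.nd (nat_lit 66071) (Tr.nd (nat_lit 66041) (Tr.lf (nat_lit 65899))
(Tr.nd (nat_lit 66067) (Tr.lf (nat_lit 66041))
(Tr.lf (nat_lit 66067))))
(Tr.nd (nat_lit 66103) (Tr.nd (nat_lit 66083) (Tr.lf (nat_lit 66071))
(Tr.lf (nat_lit 66083)))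
(Tr.nd (nat_lit 66137) (Tr.lf (nat_lit 66103))
(Tr.lf (nat_lit 66137)))))))
(Tr.nd (nat_lit 66733) (Tr.nd (nat_lit 66403) (Tr.nd (nat_lit 66359) (Tr.nd (nat_lit 66337) (Tr.lf (nat_lit 66161))
(Tr.nd (nat_lit 66343) (Tr.lf (nat_lit 66337))
(Tr.lf (nat_lit 66343))))
(Tr.nd (nat_lit 66373) (Tr.lf (nat_lit 66359))
(Tr.nd (nat_lit 66377) (Tr.lf (nat_lit 66373))
(Tr.lf (nat_lit 66377)))))
(Tr.nd (nat_lit 66617) (Tr.nd (nat_lit 66413) (Tr.lf (nat_lit 66403))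
(Tr.nd (nat_lit 66463) (Tr.lf (nat_lit 66413))
(Tr.lf (nat_lit 66463))))
(Tr.nd (nat_lit 66683) (Tr.nd (nat_lit 66629) (Tr.lf (nat_lit 66617))
(Tr.lf (nat_lit 66629)))
(Tr.nd (nat_lit 66721) (Tr.lf (nat_lit 66683))
(Tr.lf (nat_lit 66721))))))
(Tr.nd (nat_lit 66931) (Tr.nd (nat_lit 66797) (Tr.nd (nat_lit 66739) (Tr.lf (nat_lit 66733))
(Tr.nd (nat_lit 66751) (Tr.lf (nat_lit 66739))
(Tr.lf (nat_lit 66751))))
(Tr.nd (nat_lit 66809) (Tr.lf (nat_lit 66797))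
(Tr.nd (nat_lit 66841) (Tr.lf (nat_lit 66809))
(Tr.lf (nat_lit 66841)))))
(Tr.nd (nat_lit 66959) (Tr.nd (nat_lit 66943) (Tr.lf (nat_lit 66931))
(Tr.nd (nat_lit 66947) (Tr.lf (nat_lit 66943))
(Tr.lf (nat_lit 66947))))
(Tr.nd (nat_lit 66977) (Tr.nd (nat_lit 66973) (Tr.lf (nat_lit 66959))
(Tr.lf (nat_lit 66973)))
(Tr.nd (nat_lit 67021) (Tr.lf (nat_lit 66977))
(Tr.lf (nat_lit 67021))))))))
(Tr.nd (nat_lit 67759) (Tr.nd (nat_lit 67481) (Tr.nd (nat_lit 67339) (Tr.nd (nat_lit 67181) (Tr.nd (nat_lit 67121) (Tr.lf (nat_lit 67103))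
(Tr.nd (nat_lit 67157) (Tr.lf (nat_lit 67121))
(Tr.lf (nat_lit 67157))))
(Tr.nd (nat_lit 67211) (Tr.lf (nat_lit 67181))
(Tr.nd (nat_lit 67307) (Tr.lf (nat_lit 67211))
(Tr.lf (nat_lit 67307)))))
(Tr.nd (nat_lit 67409) (Tr.nd (nat_lit 67349) (Tr.lf (nat_lit 67339))
(Tr.nd (nat_lit 67391) (Tr.lf (nat_lit 67349))
(Tr.lf (nat_lit 67391))))
(Tr.nd (nat_lit 67453) (Tr.nd (nat_lit 67433) (Tr.lf (nat_lit 67409))
(Tr.lf (nat_lit 67433)))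
(Tr.nd (nat_lit 67477) (Tr.lf (nat_lit 67453))
(Tr.lf (nat_lit 67477))))))
(Tr.nd (nat_lit 67589) (Tr.nd (nat_lit 67559) (Tr.nd (nat_lit 67493) (Tr.lf (nat_lit 67481))
(Tr.nd (nat_lit 67499) (Tr.lf (nat_lit 67493))
(Tr.lf (nat_lit 67499))))
(Tr.nd (nat_lit 67577) (Tr.lf (nat_lit 67559))
(Tr.nd (nat_lit 67579) (Tr.lf (nat_lit 67577))
(Tr.lf (nat_lit 67579)))))
(Tr.nd (nat_lit 67723) (Tr.nd (nat_lit 67619) (Tr.lf (nat_lit 67589))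
(Tr.nd (nat_lit 67699) (Tr.lf (nat_lit 67619))
(Tr.lf (nat_lit 67699))))
(Tr.nd (nat_lit 67741) (Tr.nd (nat_lit 67733) (Tr.lf (nat_lit 67723))
(Tr.lf (nat_lit 67733)))
(Tr.nd (nat_lit 67757) (Tr.lf (nat_lit 67741))
(Tr.lf (nat_lit 67757)))))))
(Tr.nd (nat_lit 68207) (Tr.nd (nat_lit 67931) (Tr.nd (nat_lit 67789) (Tr.nd (nat_lit 67763) (Tr.lf (nat_lit 67759))
(Tr.nd (nat_lit 67783) (Tr.lf (nat_lit 67763))
(Tr.lf (nat_lit 67783))))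
(Tr.nd (nat_lit 67801) (Tr.lf (nat_lit 67789))
(Tr.nd (nat_lit 67807) (Tr.lf (nat_lit 67801))
(Tr.lf (nat_lit 67807)))))
(Tr.nd (nat_lit 68099) (Tr.nd (nat_lit 67933) (Tr.lf (nat_lit 67931))
(Tr.nd (nat_lit 68087) (Tr.lf (nat_lit 67933))
(Tr.lf (nat_lit 68087))))
(Tr.nd (nat_lit 68113) (Tr.nd (nat_lit 68111) (Tr.lf (nat_lit 68099))
(Tr.lf (nat_lit 68111)))
(Tr.nd (nat_lit 68147) (Tr.lf (nat_lit 68113))
(Tr.lf (nat_lit 68147))))))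
(Tr.nd (nat_lit 68473) (Tr.nd (nat_lit 68399) (Tr.nd (nat_lit 68261) (Tr.lf (nat_lit 68207))
(Tr.nd (nat_lit 68279) (Tr.lf (nat_lit 68261))
(Tr.lf (nat_lit 68279))))
(Tr.nd (nat_lit 68443) (Tr.nd (nat_lit 68437) (Tr.lf (nat_lit 68399))
(Tr.lf (nat_lit 68437)))
(Tr.nd (nat_lit 68447) (Tr.lf (nat_lit 68443))
(Tr.lf (nat_lit 68447)))))
(Tr.nd (nat_lit 68639) (Tr.nd (nat_lit 68477) (Tr.lf (nat_lit 68473))
(Tr.nd (nat_lit 68633) (Tr.lf (nat_lit 68477))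
(Tr.lf (nat_lit 68633))))
(Tr.nd (nat_lit 68699) (Tr.nd (nat_lit 68687) (Tr.lf (nat_lit 68639))
(Tr.lf (nat_lit 68687)))
(Tr.nd (nat_lit 68711) (Tr.lf (nat_lit 68699))
(Tr.lf (nat_lit 68711)))))))))
(Tr.nd (nat_lit 70181) (Tr.nd (nat_lit 69593) (Tr.nd (nat_lit 69163) (Tr.nd (nat_lit 69029) (Tr.nd (nat_lit 68897) (Tr.nd (nat_lit 68737) (Tr.lf (nat_lit 68729))
(Tr.nd (nat_lit 68879) (Tr.lf (nat_lit 68737))
(Tr.lf (nat_lit 68879))))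
(Tr.nd (nat_lit 68903) (Tr.lf (nat_lit 68897))
(Tr.nd (nat_lit 68917) (Tr.lf (nat_lit 68903))
(Tr.lf (nat_lit 68917)))))
(Tr.nd (nat_lit 69119) (Tr.nd (nat_lit 69031) (Tr.lf (nat_lit 69029))
(Tr.nd (nat_lit 69109) (Tr.lf (nat_lit 69031))
(Tr.lf (nat_lit 69109))))
(Tr.nd (nat_lit 69149) (Tr.nd (nat_lit 69127) (Tr.lf (nat_lit 69119))
(Tr.lf (nat_lit 69127)))
(Tr.nd (nat_lit 69151) (Tr.lf (nat_lit 69149))
(Tr.lf (nat_lit 69151))))))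
(Tr.nd (nat_lit 69467) (Tr.nd (nat_lit 69233) (Tr.nd (nat_lit 69191) (Tr.lf (nat_lit 69163))
(Tr.nd (nat_lit 69203) (Tr.lf (nat_lit 69191))
(Tr.lf (nat_lit 69203))))
(Tr.nd (nat_lit 69247) (Tr.lf (nat_lit 69233))
(Tr.nd (nat_lit 69463) (Tr.lf (nat_lit 69247))
(Tr.lf (nat_lit 69463)))))
(Tr.nd (nat_lit 69497) (Tr.nd (nat_lit 69481) (Tr.lf (nat_lit 69467))
(Tr.nd (nat_lit 69491) (Tr.lf (nat_lit 69481))
(Tr.lf (nat_lit 69491))))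
(Tr.nd (nat_lit 69539) (Tr.nd (nat_lit 69499) (Tr.lf (nat_lit 69497))
(Tr.lf (nat_lit 69499)))
(Tr.nd (nat_lit 69557) (Tr.lf (nat_lit 69539))
(Tr.lf (nat_lit 69557)))))))
(Tr.nd (nat_lit 69959) (Tr.nd (nat_lit 69857) (Tr.nd (nat_lit 69661) (Tr.nd (nat_lit 69623) (Tr.lf (nat_lit 69593))
(Tr.nd (nat_lit 69653) (Tr.lf (nat_lit 69623))
(Tr.lf (nat_lit 69653))))
(Tr.nd (nat_lit 69677) (Tr.lf (nat_lit 69661))
(Tr.nd (nat_lit 69809) (Tr.lf (nat_lit 69677))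
(Tr.lf (nat_lit 69809)))))
(Tr.nd (nat_lit 69899) (Tr.nd (nat_lit 69859) (Tr.lf (nat_lit 69857))
(Tr.nd (nat_lit 69877) (Tr.lf (nat_lit 69859))
(Tr.lf (nat_lit 69877))))
(Tr.nd (nat_lit 69929) (Tr.nd (nat_lit 69911) (Tr.lf (nat_lit 69899))
(Tr.lf (nat_lit 69911)))
(Tr.nd (nat_lit 69941) (Tr.lf (nat_lit 69929))
(Tr.lf (nat_lit 69941))))))
(Tr.nd (nat_lit 70121) (Tr.nd (nat_lit 70079) (Tr.nd (nat_lit 70051) (Tr.lf (nat_lit 69959))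
(Tr.nd (nat_lit 70061) (Tr.lf (nat_lit 70051))
(Tr.lf (nat_lit 70061))))
(Tr.nd (nat_lit 70099) (Tr.lf (nat_lit 70079))
(Tr.nd (nat_lit 70117) (Tr.lf (nat_lit 70099))
(Tr.lf (nat_lit 70117)))))
(Tr.nd (nat_lit 70141) (Tr.nd (nat_lit 70123) (Tr.lf (nat_lit 70121))
(Tr.nd (nat_lit 70139) (Tr.lf (nat_lit 70123))
(Tr.lf (nat_lit 70139))))
(Tr.nd (nat_lit 70163) (Tr.nd (nat_lit 70157) (Tr.lf (nat_lit 70141))
(Tr.lf (nat_lit 70157)))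
(Tr.nd (nat_lit 70177) (Tr.lf (nat_lit 70163))
(Tr.lf (nat_lit 70177))))))))
(Tr.nd (nat_lit 70957) (Tr.nd (nat_lit 70639) (Tr.nd (nat_lit 70241) (Tr.nd (nat_lit 70207) (Tr.nd (nat_lit 70199) (Tr.lf (nat_lit 70181))
(Tr.nd (nat_lit 70201) (Tr.lf (nat_lit 70199))
(Tr.lf (nat_lit 70201))))
(Tr.nd (nat_lit 70229) (Tr.lf (nat_lit 70207))
(Tr.nd (nat_lit 70237) (Tr.lf (nat_lit 70229))
(Tr.lf (nat_lit 70237)))))
(Tr.nd (nat_lit 70289) (Tr.nd (nat_lit 70249) (Tr.lf (nat_lit 70241))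
(Tr.nd (nat_lit 70271) (Tr.lf (nat_lit 70249))
(Tr.lf (nat_lit 70271))))
(Tr.nd (nat_lit 70619) (Tr.nd (nat_lit 70583) (Tr.lf (nat_lit 70289))
(Tr.lf (nat_lit 70583)))
(Tr.nd (nat_lit 70621) (Tr.lf (nat_lit 70619))
(Tr.lf (nat_lit 70621))))))
(Tr.nd (nat_lit 70769) (Tr.nd (nat_lit 70709) (Tr.nd (nat_lit 70657) (Tr.lf (nat_lit 70639))
(Tr.nd (nat_lit 70663) (Tr.lf (nat_lit 70657))
(Tr.lf (nat_lit 70663))))
(Tr.nd (nat_lit 70717) (Tr.lf (nat_lit 70709))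
(Tr.nd (nat_lit 70729) (Tr.lf (nat_lit 70717))
(Tr.lf (nat_lit 70729)))))
(Tr.nd (nat_lit 70823) (Tr.nd (nat_lit 70783) (Tr.lf (nat_lit 70769))
(Tr.nd (nat_lit 70793) (Tr.lf (nat_lit 70783))
(Tr.lf (nat_lit 70793))))
(Tr.nd (nat_lit 70849) (Tr.nd (nat_lit 70841) (Tr.lf (nat_lit 70823))
(Tr.lf (nat_lit 70841)))
(Tr.nd (nat_lit 70951) (Tr.lf (nat_lit 70849))
(Tr.lf (nat_lit 70951)))))))
(Tr.nd (nat_lit 71263) (Tr.nd (nat_lit 71119) (Tr.nd (nat_lit 71059) (Tr.nd (nat_lit 71011) (Tr.lf (nat_lit 70957))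
(Tr.nd (nat_lit 71039) (Tr.lf (nat_lit 71011))
(Tr.lf (nat_lit 71039))))
(Tr.nd (nat_lit 71069) (Tr.lf (nat_lit 71059))
(Tr.nd (nat_lit 71081) (Tr.lf (nat_lit 71069))
(Tr.lf (nat_lit 71081)))))
(Tr.nd (nat_lit 71191) (Tr.nd (nat_lit 71143) (Tr.lf (nat_lit 71119))
(Tr.nd (nat_lit 71147) (Tr.lf (nat_lit 71143))
(Tr.lf (nat_lit 71147))))
(Tr.nd (nat_lit 71249) (Tr.nd (nat_lit 71237) (Tr.lf (nat_lit 71191))
(Tr.lf (nat_lit 71237)))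
(Tr.nd (nat_lit 71261) (Tr.lf (nat_lit 71249))
(Tr.lf (nat_lit 71261))))))
(Tr.nd (nat_lit 71353) (Tr.nd (nat_lit 71329) (Tr.nd (nat_lit 71287) (Tr.lf (nat_lit 71263))
(Tr.nd (nat_lit 71327) (Tr.lf (nat_lit 71287))
(Tr.lf (nat_lit 71327))))
(Tr.nd (nat_lit 71341) (Tr.nd (nat_lit 71333) (Tr.lf (nat_lit 71329))
(Tr.lf (nat_lit 71333)))
(Tr.nd (nat_lit 71347) (Tr.lf (nat_lit 71341))
(Tr.lf (nat_lit 71347)))))
(Tr.nd (nat_lit 71387) (Tr.nd (nat_lit 71359) (Tr.lf (nat_lit 71353))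
(Tr.nd (nat_lit 71363) (Tr.lf (nat_lit 71359))
(Tr.lf (nat_lit 71363))))
(Tr.nd (nat_lit 71399) (Tr.nd (nat_lit 71389) (Tr.lf (nat_lit 71387))
(Tr.lf (nat_lit 71389)))
(Tr.nd (nat_lit 71413) (Tr.lf (nat_lit 71399))
(Tr.lf (nat_lit 71413))))))))))
(Tr.nd (nat_lit 74287) (Tr.nd (nat_lit 72889) (Tr.nd (nat_lit 72313) (Tr.nd (nat_lit 71941) (Tr.nd (nat_lit 71719) (Tr.nd (nat_lit 71471) (Tr.nd (nat_lit 71437) (Tr.lf (nat_lit 71429))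
(Tr.nd (nat_lit 71453) (Tr.lf (nat_lit 71437))
(Tr.lf (nat_lit 71453))))
(Tr.nd (nat_lit 71473) (Tr.lf (nat_lit 71471))
(Tr.nd (nat_lit 71479) (Tr.lf (nat_lit 71473))
(Tr.lf (nat_lit 71479)))))
(Tr.nd (nat_lit 71887) (Tr.nd (nat_lit 71777) (Tr.lf (nat_lit 71719))
(Tr.nd (nat_lit 71821) (Tr.lf (nat_lit 71777))
(Tr.lf (nat_lit 71821))))
(Tr.nd (nat_lit 71917) (Tr.nd (nat_lit 71899) (Tr.lf (nat_lit 71887))
(Tr.lf (nat_lit 71899)))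
(Tr.nd (nat_lit 71933) (Tr.lf (nat_lit 71917))
(Tr.lf (nat_lit 71933))))))
(Tr.nd (nat_lit 72053) (Tr.nd (nat_lit 71987) (Tr.nd (nat_lit 71947) (Tr.lf (nat_lit 71941))
(Tr.nd (nat_lit 71983) (Tr.lf (nat_lit 71947))
(Tr.lf (nat_lit 71983))))
(Tr.nd (nat_lit 71993) (Tr.lf (nat_lit 71987))
(Tr.nd (nat_lit 72031) (Tr.lf (nat_lit 71993))
(Tr.lf (nat_lit 72031)))))
(Tr.nd (nat_lit 72091) (Tr.nd (nat_lit 72073) (Tr.lf (nat_lit 72053))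
(Tr.nd (nat_lit 72089) (Tr.lf (nat_lit 72073))
(Tr.lf (nat_lit 72089))))
(Tr.nd (nat_lit 72103) (Tr.nd (nat_lit 72101) (Tr.lf (nat_lit 72091))
(Tr.lf (nat_lit 72101)))
(Tr.nd (nat_lit 72229) (Tr.lf (nat_lit 72103))
(Tr.lf (nat_lit 72229)))))))
(Tr.nd (nat_lit 72661) (Tr.nd (nat_lit 72493) (Tr.nd (nat_lit 72467) (Tr.nd (nat_lit 72341) (Tr.lf (nat_lit 72313))
(Tr.nd (nat_lit 72421) (Tr.lf (nat_lit 72341))
(Tr.lf (nat_lit 72421))))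
(Tr.nd (nat_lit 72469) (Tr.lf (nat_lit 72467))
(Tr.nd (nat_lit 72481) (Tr.lf (nat_lit 72469))
(Tr.lf (nat_lit 72481)))))
(Tr.nd (nat_lit 72547) (Tr.nd (nat_lit 72497) (Tr.lf (nat_lit 72493))
(Tr.nd (nat_lit 72503) (Tr.lf (nat_lit 72497))
(Tr.lf (nat_lit 72503))))
(Tr.nd (nat_lit 72643) (Tr.nd (nat_lit 72551) (Tr.lf (nat_lit 72547))
(Tr.lf (nat_lit 72551)))
(Tr.nd (nat_lit 72647) (Tr.lf (nat_lit 72643))
(Tr.lf (nat_lit 72647))))))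
(Tr.nd (nat_lit 72739) (Tr.nd (nat_lit 72707) (Tr.nd (nat_lit 72671) (Tr.lf (nat_lit 72661))
(Tr.nd (nat_lit 72673) (Tr.lf (nat_lit 72671))
(Tr.lf (nat_lit 72673))))
(Tr.nd (nat_lit 72719) (Tr.lf (nat_lit 72707))
(Tr.nd (nat_lit 72727) (Tr.lf (nat_lit 72719))
(Tr.lf (nat_lit 72727)))))
(Tr.nd (nat_lit 72823) (Tr.nd (nat_lit 72763) (Tr.lf (nat_lit 72739))
(Tr.nd (nat_lit 72817) (Tr.lf (nat_lit 72763))
(Tr.lf (nat_lit 72817))))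
(Tr.nd (nat_lit 72871) (Tr.nd (nat_lit 72869) (Tr.lf (nat_lit 72823))
(Tr.lf (nat_lit 72869)))
(Tr.nd (nat_lit 72883) (Tr.lf (nat_lit 72871))
(Tr.lf (nat_lit 72883))))))))
(Tr.nd (nat_lit 73721) (Tr.nd (nat_lit 73459) (Tr.nd (nat_lit 72959) (Tr.nd (nat_lit 72931) (Tr.nd (nat_lit 72901) (Tr.lf (nat_lit 72889))
(Tr.nd (nat_lit 72923) (Tr.lf (nat_lit 72901))
(Tr.lf (nat_lit 72923))))
(Tr.nd (nat_lit 72949) (Tr.lf (nat_lit 72931))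
(Tr.nd (nat_lit 72953) (Tr.lf (nat_lit 72949))
(Tr.lf (nat_lit 72953)))))
(Tr.nd (nat_lit 73351) (Tr.nd (nat_lit 72977) (Tr.lf (nat_lit 72959))
(Tr.nd (nat_lit 72997) (Tr.lf (nat_lit 72977))
(Tr.lf (nat_lit 72997))))
(Tr.nd (nat_lit 73387) (Tr.nd (nat_lit 73361) (Tr.lf (nat_lit 73351))
(Tr.lf (nat_lit 73361)))
(Tr.nd (nat_lit 73417) (Tr.lf (nat_lit 73387))
(Tr.lf (nat_lit 73417))))))
(Tr.nd (nat_lit 73637) (Tr.nd (nat_lit 73571) (Tr.nd (nat_lit 73471) (Tr.lf (nat_lit 73459))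
(Tr.nd (nat_lit 73477) (Tr.lf (nat_lit 73471))
(Tr.lf (nat_lit 73477))))
(Tr.nd (nat_lit 73583) (Tr.lf (nat_lit 73571))
(Tr.nd (nat_lit 73613) (Tr.lf (nat_lit 73583))
(Tr.lf (nat_lit 73613)))))
(Tr.nd (nat_lit 73681) (Tr.nd (nat_lit 73643) (Tr.lf (nat_lit 73637))
(Tr.nd (nat_lit 73673) (Tr.lf (nat_lit 73643))
(Tr.lf (nat_lit 73673))))
(Tr.nd (nat_lit 73699) (Tr.nd (nat_lit 73693) (Tr.lf (nat_lit 73681))
(Tr.lf (nat_lit 73693)))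
(Tr.nd (nat_lit 73709) (Tr.lf (nat_lit 73699))
(Tr.lf (nat_lit 73709)))))))
(Tr.nd (nat_lit 73897) (Tr.nd (nat_lit 73823) (Tr.nd (nat_lit 73757) (Tr.nd (nat_lit 73727) (Tr.lf (nat_lit 73721))
(Tr.nd (nat_lit 73751) (Tr.lf (nat_lit 73727))
(Tr.lf (nat_lit 73751))))
(Tr.nd (nat_lit 73783) (Tr.lf (nat_lit 73757))
(Tr.nd (nat_lit 73819) (Tr.lf (nat_lit 73783))
(Tr.lf (nat_lit 73819)))))
(Tr.nd (nat_lit 73859) (Tr.nd (nat_lit 73847) (Tr.lf (nat_lit 73823))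
(Tr.nd (nat_lit 73849) (Tr.lf (nat_lit 73847))
(Tr.lf (nat_lit 73849))))
(Tr.nd (nat_lit 73877) (Tr.nd (nat_lit 73867) (Tr.lf (nat_lit 73859))
(Tr.lf (nat_lit 73867)))
(Tr.nd (nat_lit 73883) (Tr.lf (nat_lit 73877))
(Tr.lf (nat_lit 73883))))))
(Tr.nd (nat_lit 74093) (Tr.nd (nat_lit 73961) (Tr.nd (nat_lit 73907) (Tr.lf (nat_lit 73897))
(Tr.nd (nat_lit 73951) (Tr.lf (nat_lit 73907))
(Tr.lf (nat_lit 73951))))
(Tr.nd (nat_lit 74047) (Tr.nd (nat_lit 73973) (Tr.lf (nat_lit 73961))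
(Tr.lf (nat_lit 73973)))
(Tr.nd (nat_lit 74077) (Tr.lf (nat_lit 74047))
(Tr.lf (nat_lit 74077)))))
(Tr.nd (nat_lit 74201) (Tr.nd (nat_lit 74149) (Tr.lf (nat_lit 74093))
(Tr.nd (nat_lit 74197) (Tr.lf (nat_lit 74149))
(Tr.lf (nat_lit 74197))))
(Tr.nd (nat_lit 74257) (Tr.nd (nat_lit 74209) (Tr.lf (nat_lit 74201))
(Tr.lf (nat_lit 74209)))
(Tr.nd (nat_lit 74279) (Tr.lf (nat_lit 74257))
(Tr.lf (nat_lit 74279)))))))))
(Tr.nd (nat_lit 75533) (Tr.nd (nat_lit 74699) (Tr.nd (nat_lit 74509) (Tr.nd (nat_lit 74383) (Tr.nd (nat_lit 74317) (Tr.nd (nat_lit 74293) (Tr.lf (nat_lit 74287))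
(Tr.nd (nat_lit 74311) (Tr.lf (nat_lit 74293))
(Tr.lf (nat_lit 74311))))
(Tr.nd (nat_lit 74353) (Tr.lf (nat_lit 74317))
(Tr.nd (nat_lit 74363) (Tr.lf (nat_lit 74353))
(Tr.lf (nat_lit 74363)))))
(Tr.nd (nat_lit 74441) (Tr.nd (nat_lit 74413) (Tr.lf (nat_lit 74383))
(Tr.nd (nat_lit 74419) (Tr.lf (nat_lit 74413))
(Tr.lf (nat_lit 74419))))
(Tr.nd (nat_lit 74489) (Tr.nd (nat_lit 74471) (Tr.lf (nat_lit 74441))
(Tr.lf (nat_lit 74471)))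
(Tr.nd (nat_lit 74507) (Tr.lf (nat_lit 74489))
(Tr.lf (nat_lit 74507))))))
(Tr.nd (nat_lit 74567) (Tr.nd (nat_lit 74531) (Tr.nd (nat_lit 74521) (Tr.lf (nat_lit 74509))
(Tr.nd (nat_lit 74527) (Tr.lf (nat_lit 74521))
(Tr.lf (nat_lit 74527))))
(Tr.nd (nat_lit 74551) (Tr.lf (nat_lit 74531))
(Tr.nd (nat_lit 74561) (Tr.lf (nat_lit 74551))
(Tr.lf (nat_lit 74561)))))
(Tr.nd (nat_lit 74609) (Tr.nd (nat_lit 74573) (Tr.lf (nat_lit 74567))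
(Tr.nd (nat_lit 74597) (Tr.lf (nat_lit 74573))
(Tr.lf (nat_lit 74597))))
(Tr.nd (nat_lit 74653) (Tr.nd (nat_lit 74611) (Tr.lf (nat_lit 74609))
(Tr.lf (nat_lit 74611)))
(Tr.nd (nat_lit 74687) (Tr.lf (nat_lit 74653))
(Tr.lf (nat_lit 74687)))))))
(Tr.nd (nat_lit 75239) (Tr.nd (nat_lit 74887) (Tr.nd (nat_lit 74717) (Tr.nd (nat_lit 74707) (Tr.lf (nat_lit 74699))
(Tr.nd (nat_lit 74713) (Tr.lf (nat_lit 74707))
(Tr.lf (nat_lit 74713))))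
(Tr.nd (nat_lit 74729) (Tr.lf (nat_lit 74717))
(Tr.nd (nat_lit 74857) (Tr.lf (nat_lit 74729))
(Tr.lf (nat_lit 74857)))))
(Tr.nd (nat_lit 75041) (Tr.nd (nat_lit 74941) (Tr.lf (nat_lit 74887))
(Tr.nd (nat_lit 75013) (Tr.lf (nat_lit 74941))
(Tr.lf (nat_lit 75013))))
(Tr.nd (nat_lit 75181) (Tr.nd (nat_lit 75149) (Tr.lf (nat_lit 75041))
(Tr.lf (nat_lit 75149)))
(Tr.nd (nat_lit 75227) (Tr.lf (nat_lit 75181))
(Tr.lf (nat_lit 75227))))))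
(Tr.nd (nat_lit 75403) (Tr.nd (nat_lit 75329) (Tr.nd (nat_lit 75307) (Tr.lf (nat_lit 75239))
(Tr.nd (nat_lit 75323) (Tr.lf (nat_lit 75307))
(Tr.lf (nat_lit 75323))))
(Tr.nd (nat_lit 75337) (Tr.lf (nat_lit 75329))
(Tr.nd (nat_lit 75347) (Tr.lf (nat_lit 75337))
(Tr.lf (nat_lit 75347)))))
(Tr.nd (nat_lit 75437) (Tr.nd (nat_lit 75407) (Tr.lf (nat_lit 75403))
(Tr.nd (nat_lit 75431) (Tr.lf (nat_lit 75407))
(Tr.lf (nat_lit 75431))))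
(Tr.nd (nat_lit 75511) (Tr.nd (nat_lit 75503) (Tr.lf (nat_lit 75437))
(Tr.lf (nat_lit 75503)))
(Tr.nd (nat_lit 75527) (Tr.lf (nat_lit 75511))
(Tr.lf (nat_lit 75527))))))))
(Tr.nd (nat_lit 76157) (Tr.nd (nat_lit 75731) (Tr.nd (nat_lit 75653) (Tr.nd (nat_lit 75557) (Tr.nd (nat_lit 75539) (Tr.lf (nat_lit 75533))
(Tr.nd (nat_lit 75553) (Tr.lf (nat_lit 75539))
(Tr.lf (nat_lit 75553))))
(Tr.nd (nat_lit 75617) (Tr.lf (nat_lit 75557))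
(Tr.nd (nat_lit 75629) (Tr.lf (nat_lit 75617))
(Tr.lf (nat_lit 75629)))))
(Tr.nd (nat_lit 75689) (Tr.nd (nat_lit 75659) (Tr.lf (nat_lit 75653))
(Tr.nd (nat_lit 75683) (Tr.lf (nat_lit 75659))
(Tr.lf (nat_lit 75683))))
(Tr.nd (nat_lit 75709) (Tr.nd (nat_lit 75703) (Tr.lf (nat_lit 75689))
(Tr.lf (nat_lit 75703)))
(Tr.nd (nat_lit 75721) (Tr.lf (nat_lit 75709))
(Tr.lf (nat_lit 75721))))))
(Tr.nd (nat_lit 75967) (Tr.nd (nat_lit 75787) (Tr.nd (nat_lit 75743) (Tr.lf (nat_lit 75731))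
(Tr.nd (nat_lit 75767) (Tr.lf (nat_lit 75743))
(Tr.lf (nat_lit 75767))))
(Tr.nd (nat_lit 75793) (Tr.lf (nat_lit 75787))
(Tr.nd (nat_lit 75869) (Tr.lf (nat_lit 75793))
(Tr.lf (nat_lit 75869)))))
(Tr.nd (nat_lit 76003) (Tr.nd (nat_lit 75997) (Tr.lf (nat_lit 75967))
(Tr.nd (nat_lit 76001) (Tr.lf (nat_lit 75997))
(Tr.lf (nat_lit 76001))))
(Tr.nd (nat_lit 76103) (Tr.nd (nat_lit 76081) (Tr.lf (nat_lit 76003))
(Tr.lf (nat_lit 76081)))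
(Tr.nd (nat_lit 76129) (Tr.lf (nat_lit 76103))
(Tr.lf (nat_lit 76129)))))))
(Tr.nd (nat_lit 76403) (Tr.nd (nat_lit 76253) (Tr.nd (nat_lit 76213) (Tr.nd (nat_lit 76163) (Tr.lf (nat_lit 76157))
(Tr.nd (nat_lit 76207) (Tr.lf (nat_lit 76163))
(Tr.lf (nat_lit 76207))))
(Tr.nd (nat_lit 76231) (Tr.lf (nat_lit 76213))
(Tr.nd (nat_lit 76243) (Tr.lf (nat_lit 76231))
(Tr.lf (nat_lit 76243)))))
(Tr.nd (nat_lit 76289) (Tr.nd (nat_lit 76261) (Tr.lf (nat_lit 76253))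
(Tr.nd (nat_lit 76283) (Tr.lf (nat_lit 76261))
(Tr.lf (nat_lit 76283))))
(Tr.nd (nat_lit 76343) (Tr.nd (nat_lit 76333) (Tr.lf (nat_lit 76289))
(Tr.lf (nat_lit 76333)))
(Tr.nd (nat_lit 76367) (Tr.lf (nat_lit 76343))
(Tr.lf (nat_lit 76367))))))
(Tr.nd (nat_lit 76603) (Tr.nd (nat_lit 76481) (Tr.nd (nat_lit 76423) (Tr.lf (nat_lit 76403))
(Tr.nd (nat_lit 76441) (Tr.lf (nat_lit 76423))
(Tr.lf (nat_lit 76441))))
(Tr.nd (nat_lit 76511) (Tr.nd (nat_lit 76493) (Tr.lf (nat_lit 76481))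
(Tr.lf (nat_lit 76493)))
(Tr.nd (nat_lit 76541) (Tr.lf (nat_lit 76511))
(Tr.lf (nat_lit 76541)))))
(Tr.nd (nat_lit 76781) (Tr.nd (nat_lit 76717) (Tr.lf (nat_lit 76603))
(Tr.nd (nat_lit 76777) (Tr.lf (nat_lit 76717))
(Tr.lf (nat_lit 76777))))
(Tr.nd (nat_lit 76831) (Tr.nd (nat_lit 76829) (Tr.lf (nat_lit 76781))
(Tr.lf (nat_lit 76829)))
(Tr.nd (nat_lit 76949) (Tr.lf (nat_lit 76831))
(Tr.lf (nat_lit 76949)))))))))))
(Tr.nd (nat_lit 82759) (Tr.nd (nat_lit 79873) (Tr.nd (nat_lit 78203) (Tr.nd (nat_lit 77711) (Tr.nd (nat_lit 77431) (Tr.nd (nat_lit 77167) (Tr.nd (nat_lit 77081) (Tr.nd (nat_lit 77023) (Tr.lf (nat_lit 77017))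
(Tr.nd (nat_lit 77069) (Tr.lf (nat_lit 77023))
(Tr.lf (nat_lit 77069))))
(Tr.nd (nat_lit 77093) (Tr.lf (nat_lit 77081))
(Tr.nd (nat_lit 77153) (Tr.lf (nat_lit 77093))
(Tr.lf (nat_lit 77153)))))
(Tr.nd (nat_lit 77249) (Tr.nd (nat_lit 77171) (Tr.lf (nat_lit 77167))
(Tr.nd (nat_lit 77243) (Tr.lf (nat_lit 77171))
(Tr.lf (nat_lit 77243))))
(Tr.nd (nat_lit 77359) (Tr.nd (nat_lit 77317) (Tr.lf (nat_lit 77249))
(Tr.lf (nat_lit 77317)))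
(Tr.nd (nat_lit 77419) (Tr.lf (nat_lit 77359))
(Tr.lf (nat_lit 77419))))))
(Tr.nd (nat_lit 77543) (Tr.nd (nat_lit 77489) (Tr.nd (nat_lit 77447) (Tr.lf (nat_lit 77431))
(Tr.nd (nat_lit 77471) (Tr.lf (nat_lit 77447))
(Tr.lf (nat_lit 77471))))
(Tr.nd (nat_lit 77521) (Tr.lf (nat_lit 77489))
(Tr.nd (nat_lit 77527) (Tr.lf (nat_lit 77521))
(Tr.lf (nat_lit 77527)))))
(Tr.nd (nat_lit 77621) (Tr.nd (nat_lit 77557) (Tr.lf (nat_lit 77543))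
(Tr.nd (nat_lit 77611) (Tr.lf (nat_lit 77557))
(Tr.lf (nat_lit 77611))))
(Tr.nd (nat_lit 77659) (Tr.nd (nat_lit 77647) (Tr.lf (nat_lit 77621))
(Tr.lf (nat_lit 77647)))
(Tr.nd (nat_lit 77689) (Tr.lf (nat_lit 77659))
(Tr.lf (nat_lit 77689)))))))
(Tr.nd (nat_lit 77899) (Tr.nd (nat_lit 77773) (Tr.nd (nat_lit 77731) (Tr.nd (nat_lit 77719) (Tr.lf (nat_lit 77711))
(Tr.nd (nat_lit 77723) (Tr.lf (nat_lit 77719))
(Tr.lf (nat_lit 77723))))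
(Tr.nd (nat_lit 77747) (Tr.lf (nat_lit 77731))
(Tr.nd (nat_lit 77761) (Tr.lf (nat_lit 77747))
(Tr.lf (nat_lit 77761)))))
(Tr.nd (nat_lit 77813) (Tr.nd (nat_lit 77797) (Tr.lf (nat_lit 77773))
(Tr.nd (nat_lit 77801) (Tr.lf (nat_lit 77797))
(Tr.lf (nat_lit 77801))))
(Tr.nd (nat_lit 77849) (Tr.nd (nat_lit 77839) (Tr.lf (nat_lit 77813))
(Tr.lf (nat_lit 77839)))
(Tr.nd (nat_lit 77893) (Tr.lf (nat_lit 77849))
(Tr.lf (nat_lit 77893))))))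
(Tr.nd (nat_lit 78049) (Tr.nd (nat_lit 77969) (Tr.nd (nat_lit 77933) (Tr.lf (nat_lit 77899))
(Tr.nd (nat_lit 77951) (Tr.lf (nat_lit 77933))
(Tr.lf (nat_lit 77951))))
(Tr.nd (nat_lit 77977) (Tr.lf (nat_lit 77969))
(Tr.nd (nat_lit 78017) (Tr.lf (nat_lit 77977))
(Tr.lf (nat_lit 78017)))))
(Tr.nd (nat_lit 78137) (Tr.nd (nat_lit 78059) (Tr.lf (nat_lit 78049))
(Tr.nd (nat_lit 78079) (Tr.lf (nat_lit 78059))
(Tr.lf (nat_lit 78079))))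
(Tr.nd (nat_lit 78179) (Tr.nd (nat_lit 78139) (Tr.lf (nat_lit 78137))
(Tr.lf (nat_lit 78139)))
(Tr.nd (nat_lit 78193) (Tr.lf (nat_lit 78179))
(Tr.lf (nat_lit 78193))))))))
(Tr.nd (nat_lit 79153) (Tr.nd (nat_lit 78511) (Tr.nd (nat_lit 78367) (Tr.nd (nat_lit 78311) (Tr.nd (nat_lit 78229) (Tr.lf (nat_lit 78203))
(Tr.nd (nat_lit 78277) (Tr.lf (nat_lit 78229))
(Tr.lf (nat_lit 78277))))
(Tr.nd (nat_lit 78317) (Tr.lf (nat_lit 78311))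
(Tr.nd (nat_lit 78341) (Tr.lf (nat_lit 78317))
(Tr.lf (nat_lit 78341)))))
(Tr.nd (nat_lit 78467) (Tr.nd (nat_lit 78401) (Tr.lf (nat_lit 78367))
(Tr.nd (nat_lit 78439) (Tr.lf (nat_lit 78401))
(Tr.lf (nat_lit 78439))))
(Tr.nd (nat_lit 78487) (Tr.nd (nat_lit 78479) (Tr.lf (nat_lit 78467))
(Tr.lf (nat_lit 78479)))
(Tr.nd (nat_lit 78497) (Tr.lf (nat_lit 78487))
(Tr.lf (nat_lit 78497))))))
(Tr.nd (nat_lit 78809) (Tr.nd (nat_lit 78707) (Tr.nd (nat_lit 78539) (Tr.lf (nat_lit 78511))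
(Tr.nd (nat_lit 78593) (Tr.lf (nat_lit 78539))
(Tr.lf (nat_lit 78593))))
(Tr.nd (nat_lit 78737) (Tr.lf (nat_lit 78707))
(Tr.nd (nat_lit 78779) (Tr.lf (nat_lit 78737))
(Tr.lf (nat_lit 78779)))))
(Tr.nd (nat_lit 78901) (Tr.nd (nat_lit 78857) (Tr.lf (nat_lit 78809))
(Tr.nd (nat_lit 78889) (Tr.lf (nat_lit 78857))
(Tr.lf (nat_lit 78889))))
(Tr.nd (nat_lit 79111) (Tr.nd (nat_lit 79103) (Tr.lf (nat_lit 78901))
(Tr.lf (nat_lit 79103)))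
(Tr.nd (nat_lit 79151) (Tr.lf (nat_lit 79111))
(Tr.lf (nat_lit 79151)))))))
(Tr.nd (nat_lit 79537) (Tr.nd (nat_lit 79333) (Tr.nd (nat_lit 79231) (Tr.nd (nat_lit 79201) (Tr.lf (nat_lit 79153))
(Tr.nd (nat_lit 79229) (Tr.lf (nat_lit 79201))
(Tr.lf (nat_lit 79229))))
(Tr.nd (nat_lit 79273) (Tr.lf (nat_lit 79231))
(Tr.nd (nat_lit 79319) (Tr.lf (nat_lit 79273))
(Tr.lf (nat_lit 79319)))))
(Tr.nd (nat_lit 79423) (Tr.nd (nat_lit 79367) (Tr.lf (nat_lit 79333))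
(Tr.nd (nat_lit 79411) (Tr.lf (nat_lit 79367))
(Tr.lf (nat_lit 79411))))
(Tr.nd (nat_lit 79493) (Tr.nd (nat_lit 79451) (Tr.lf (nat_lit 79423))
(Tr.lf (nat_lit 79451)))
(Tr.nd (nat_lit 79531) (Tr.lf (nat_lit 79493))
(Tr.lf (nat_lit 79531))))))
(Tr.nd (nat_lit 79769) (Tr.nd (nat_lit 79627) (Tr.nd (nat_lit 79549) (Tr.lf (nat_lit 79537))
(Tr.nd (nat_lit 79609) (Tr.lf (nat_lit 79549))
(Tr.lf (nat_lit 79609))))
(Tr.nd (nat_lit 79657) (Tr.nd (nat_lit 79631) (Tr.lf (nat_lit 79627))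
(Tr.lf (nat_lit 79631)))
(Tr.nd (nat_lit 79697) (Tr.lf (nat_lit 79657))
(Tr.lf (nat_lit 79697)))))
(Tr.nd (nat_lit 79823) (Tr.nd (nat_lit 79801) (Tr.lf (nat_lit 79769))
(Tr.nd (nat_lit 79817) (Tr.lf (nat_lit 79801))
(Tr.lf (nat_lit 79817))))
(Tr.nd (nat_lit 79843) (Tr.nd (nat_lit 79829) (Tr.lf (nat_lit 79823))
(Tr.lf (nat_lit 79829)))
(Tr.nd (nat_lit 79867) (Tr.lf (nat_lit 79843))
(Tr.lf (nat_lit 79867)))))))))
(Tr.nd (nat_lit 81197) (Tr.nd (nat_lit 80363) (Tr.nd (nat_lit 80077) (Tr.nd (nat_lit 79973) (Tr.nd (nat_lit 79907) (Tr.nd (nat_lit 79901) (Tr.lf (nat_lit 79873))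
(Tr.nd (nat_lit 79903) (Tr.lf (nat_lit 79901))
(Tr.lf (nat_lit 79903))))
(Tr.nd (nat_lit 79939) (Tr.lf (nat_lit 79907))
(Tr.nd (nat_lit 79943) (Tr.lf (nat_lit 79939))
(Tr.lf (nat_lit 79943)))))
(Tr.nd (nat_lit 79997) (Tr.nd (nat_lit 79979) (Tr.lf (nat_lit 79973))
(Tr.nd (nat_lit 79987) (Tr.lf (nat_lit 79979))
(Tr.lf (nat_lit 79987))))
(Tr.nd (nat_lit 80051) (Tr.nd (nat_lit 79999) (Tr.lf (nat_lit 79997))
(Tr.lf (nat_lit 79999)))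
(Tr.nd (nat_lit 80071) (Tr.lf (nat_lit 80051))
(Tr.lf (nat_lit 80071))))))
(Tr.nd (nat_lit 80231) (Tr.nd (nat_lit 80191) (Tr.nd (nat_lit 80147) (Tr.lf (nat_lit 80077))
(Tr.nd (nat_lit 80177) (Tr.lf (nat_lit 80147))
(Tr.lf (nat_lit 80177))))
(Tr.nd (nat_lit 80209) (Tr.lf (nat_lit 80191))
(Tr.nd (nat_lit 80221) (Tr.lf (nat_lit 80209))
(Tr.lf (nat_lit 80221)))))
(Tr.nd (nat_lit 80317) (Tr.nd (nat_lit 80263) (Tr.lf (nat_lit 80231))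
(Tr.nd (nat_lit 80287) (Tr.lf (nat_lit 80263))
(Tr.lf (nat_lit 80287))))
(Tr.nd (nat_lit 80341) (Tr.nd (nat_lit 80329) (Tr.lf (nat_lit 80317))
(Tr.lf (nat_lit 80329)))
(Tr.nd (nat_lit 80347) (Tr.lf (nat_lit 80341))
(Tr.lf (nat_lit 80347)))))))
(Tr.nd (nat_lit 80687) (Tr.nd (nat_lit 80489) (Tr.nd (nat_lit 80447) (Tr.nd (nat_lit 80387) (Tr.lf (nat_lit 80363))
(Tr.nd (nat_lit 80407) (Tr.lf (nat_lit 80387))
(Tr.lf (nat_lit 80407))))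
(Tr.nd (nat_lit 80471) (Tr.lf (nat_lit 80447))
(Tr.nd (nat_lit 80473) (Tr.lf (nat_lit 80471))
(Tr.lf (nat_lit 80473)))))
(Tr.nd (nat_lit 80567) (Tr.nd (nat_lit 80491) (Tr.lf (nat_lit 80489))
(Tr.nd (nat_lit 80557) (Tr.lf (nat_lit 80491))
(Tr.lf (nat_lit 80557))))
(Tr.nd (nat_lit 80603) (Tr.nd (nat_lit 80599) (Tr.lf (nat_lit 80567))
(Tr.lf (nat_lit 80599)))
(Tr.nd (nat_lit 80683) (Tr.lf (nat_lit 80603))
(Tr.lf (nat_lit 80683))))))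
(Tr.nd (nat_lit 80849) (Tr.nd (nat_lit 80783) (Tr.nd (nat_lit 80749) (Tr.lf (nat_lit 80687))
(Tr.nd (nat_lit 80777) (Tr.lf (nat_lit 80749))
(Tr.lf (nat_lit 80777))))
(Tr.nd (nat_lit 80809) (Tr.lf (nat_lit 80783))
(Tr.nd (nat_lit 80831) (Tr.lf (nat_lit 80809))
(Tr.lf (nat_lit 80831)))))
(Tr.nd (nat_lit 81017) (Tr.nd (nat_lit 80863) (Tr.lf (nat_lit 80849))
(Tr.nd (nat_lit 81001) (Tr.lf (nat_lit 80863))
(Tr.lf (nat_lit 81001))))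
(Tr.nd (nat_lit 81023) (Tr.nd (nat_lit 81019) (Tr.lf (nat_lit 81017))
(Tr.lf (nat_lit 81019)))
(Tr.nd (nat_lit 81043) (Tr.lf (nat_lit 81023))
(Tr.lf (nat_lit 81043))))))))
(Tr.nd (nat_lit 82031) (Tr.nd (nat_lit 81619) (Tr.nd (nat_lit 81421) (Tr.nd (nat_lit 81307) (Tr.nd (nat_lit 81199) (Tr.lf (nat_lit 81197))
(Tr.nd (nat_lit 81203) (Tr.lf (nat_lit 81199))
(Tr.lf (nat_lit 81203))))
(Tr.nd (nat_lit 81349) (Tr.lf (nat_lit 81307))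
(Tr.nd (nat_lit 81359) (Tr.lf (nat_lit 81349))
(Tr.lf (nat_lit 81359)))))
(Tr.nd (nat_lit 81527) (Tr.nd (nat_lit 81463) (Tr.lf (nat_lit 81421))
(Tr.nd (nat_lit 81509) (Tr.lf (nat_lit 81463))
(Tr.lf (nat_lit 81509))))
(Tr.nd (nat_lit 81547) (Tr.nd (nat_lit 81533) (Tr.lf (nat_lit 81527))
(Tr.lf (nat_lit 81533)))
(Tr.nd (nat_lit 81551) (Tr.lf (nat_lit 81547))
(Tr.lf (nat_lit 81551))))))
(Tr.nd (nat_lit 81769) (Tr.nd (nat_lit 81671) (Tr.nd (nat_lit 81637) (Tr.lf (nat_lit 81619))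
(Tr.nd (nat_lit 81647) (Tr.lf (nat_lit 81637))
(Tr.lf (nat_lit 81647))))
(Tr.nd (nat_lit 81677) (Tr.lf (nat_lit 81671))
(Tr.nd (nat_lit 81761) (Tr.lf (nat_lit 81677))
(Tr.lf (nat_lit 81761)))))
(Tr.nd (nat_lit 81967) (Tr.nd (nat_lit 81799) (Tr.lf (nat_lit 81769))
(Tr.nd (nat_lit 81883) (Tr.lf (nat_lit 81799))
(Tr.lf (nat_lit 81883))))
(Tr.nd (nat_lit 82013) (Tr.nd (nat_lit 82007) (Tr.lf (nat_lit 81967))
(Tr.lf (nat_lit 82007)))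
(Tr.nd (nat_lit 82021) (Tr.lf (nat_lit 82013))
(Tr.lf (nat_lit 82021)))))))
(Tr.nd (nat_lit 82307) (Tr.nd (nat_lit 82163) (Tr.nd (nat_lit 82067) (Tr.nd (nat_lit 82037) (Tr.lf (nat_lit 82031))
(Tr.nd (nat_lit 82039) (Tr.lf (nat_lit 82037))
(Tr.lf (nat_lit 82039))))
(Tr.nd (nat_lit 82073) (Tr.lf (nat_lit 82067))
(Tr.nd (nat_lit 82129) (Tr.lf (nat_lit 82073))
(Tr.lf (nat_lit 82129)))))
(Tr.nd (nat_lit 82219) (Tr.nd (nat_lit 82207) (Tr.lf (nat_lit 82163))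
(Tr.nd (nat_lit 82217) (Tr.lf (nat_lit 82207))
(Tr.lf (nat_lit 82217))))
(Tr.nd (nat_lit 82267) (Tr.nd (nat_lit 82223) (Tr.lf (nat_lit 82219))
(Tr.lf (nat_lit 82223)))
(Tr.nd (nat_lit 82279) (Tr.lf (nat_lit 82267))
(Tr.lf (nat_lit 82279))))))
(Tr.nd (nat_lit 82499) (Tr.nd (nat_lit 82351) (Tr.nd (nat_lit 82339) (Tr.lf (nat_lit 82307))
(Tr.nd (nat_lit 82349) (Tr.lf (nat_lit 82339))
(Tr.lf (nat_lit 82349))))
(Tr.nd (nat_lit 82457) (Tr.nd (nat_lit 82387) (Tr.lf (nat_lit 82351))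
(Tr.lf (nat_lit 82387)))
(Tr.nd (nat_lit 82463) (Tr.lf (nat_lit 82457))
(Tr.lf (nat_lit 82463)))))
(Tr.nd (nat_lit 82609) (Tr.nd (nat_lit 82591) (Tr.lf (nat_lit 82499))
(Tr.nd (nat_lit 82601) (Tr.lf (nat_lit 82591))
(Tr.lf (nat_lit 82601))))
(Tr.nd (nat_lit 82723) (Tr.nd (nat_lit 82619) (Tr.lf (nat_lit 82609))
(Tr.lf (nat_lit 82619)))
(Tr.nd (nat_lit 82727) (Tr.lf (nat_lit 82723))
(Tr.lf (nat_lit 82727))))))))))
(Tr.nd (nat_lit 85703) (Tr.nd (nat_lit 84401) (Tr.nd (nat_lit 83563) (Tr.nd (nat_lit 83059) (Tr.nd (nat_lit 82883) (Tr.nd (nat_lit 82787) (Tr.nd (nat_lit 82763) (Tr.lf (nat_lit 82759))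
(Tr.nd (nat_lit 82781) (Tr.lf (nat_lit 82763))
(Tr.lf (nat_lit 82781))))
(Tr.nd (nat_lit 82813) (Tr.lf (nat_lit 82787))
(Tr.nd (nat_lit 82847) (Tr.lf (nat_lit 82813))
(Tr.lf (nat_lit 82847)))))
(Tr.nd (nat_lit 82903) (Tr.nd (nat_lit 82889) (Tr.lf (nat_lit 82883))
(Tr.nd (nat_lit 82891) (Tr.lf (nat_lit 82889))
(Tr.lf (nat_lit 82891))))
(Tr.nd (nat_lit 82939) (Tr.nd (nat_lit 82913) (Tr.lf (nat_lit 82903))
(Tr.lf (nat_lit 82913)))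
(Tr.nd (nat_lit 83047) (Tr.lf (nat_lit 82939))
(Tr.lf (nat_lit 83047))))))
(Tr.nd (nat_lit 83311) (Tr.nd (nat_lit 83093) (Tr.nd (nat_lit 83063) (Tr.lf (nat_lit 83059))
(Tr.nd (nat_lit 83089) (Tr.lf (nat_lit 83063))
(Tr.lf (nat_lit 83089))))
(Tr.nd (nat_lit 83231) (Tr.lf (nat_lit 83093))
(Tr.nd (nat_lit 83233) (Tr.lf (nat_lit 83231))
(Tr.lf (nat_lit 83233)))))
(Tr.nd (nat_lit 83401) (Tr.nd (nat_lit 83383) (Tr.lf (nat_lit 83311))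
(Tr.nd (nat_lit 83399) (Tr.lf (nat_lit 83383))
(Tr.lf (nat_lit 83399))))
(Tr.nd (nat_lit 83557) (Tr.nd (nat_lit 83459) (Tr.lf (nat_lit 83401))
(Tr.lf (nat_lit 83459)))
(Tr.nd (nat_lit 83561) (Tr.lf (nat_lit 83557))
(Tr.lf (nat_lit 83561)))))))
(Tr.nd (nat_lit 84059) (Tr.nd (nat_lit 83689) (Tr.nd (nat_lit 83641) (Tr.nd (nat_lit 83617) (Tr.lf (nat_lit 83563))
(Tr.nd (nat_lit 83621) (Tr.lf (nat_lit 83617))
(Tr.lf (nat_lit 83621))))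
(Tr.nd (nat_lit 83653) (Tr.lf (nat_lit 83641))
(Tr.nd (nat_lit 83663) (Tr.lf (nat_lit 83653))
(Tr.lf (nat_lit 83663)))))
(Tr.nd (nat_lit 83773) (Tr.nd (nat_lit 83701) (Tr.lf (nat_lit 83689))
(Tr.nd (nat_lit 83717) (Tr.lf (nat_lit 83701))
(Tr.lf (nat_lit 83717))))
(Tr.nd (nat_lit 83813) (Tr.nd (nat_lit 83777) (Tr.lf (nat_lit 83773))
(Tr.lf (nat_lit 83777)))
(Tr.nd (nat_lit 83969) (Tr.lf (nat_lit 83813))
(Tr.lf (nat_lit 83969))))))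
(Tr.nd (nat_lit 84211) (Tr.nd (nat_lit 84179) (Tr.nd (nat_lit 84121) (Tr.lf (nat_lit 84059))
(Tr.nd (nat_lit 84163) (Tr.lf (nat_lit 84121))
(Tr.lf (nat_lit 84163))))
(Tr.nd (nat_lit 84191) (Tr.lf (nat_lit 84179))
(Tr.nd (nat_lit 84199) (Tr.lf (nat_lit 84191))
(Tr.lf (nat_lit 84199)))))
(Tr.nd (nat_lit 84317) (Tr.nd (nat_lit 84247) (Tr.lf (nat_lit 84211))
(Tr.nd (nat_lit 84313) (Tr.lf (nat_lit 84247))
(Tr.lf (nat_lit 84313))))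
(Tr.nd (nat_lit 84347) (Tr.nd (nat_lit 84319) (Tr.lf (nat_lit 84317))
(Tr.lf (nat_lit 84319)))
(Tr.nd (nat_lit 84349) (Tr.lf (nat_lit 84347))
(Tr.lf (nat_lit 84349))))))))
(Tr.nd (nat_lit 85049) (Tr.nd (nat_lit 84701) (Tr.nd (nat_lit 84499) (Tr.nd (nat_lit 84449) (Tr.nd (nat_lit 84407) (Tr.lf (nat_lit 84401))
(Tr.nd (nat_lit 84443) (Tr.lf (nat_lit 84407))
(Tr.lf (nat_lit 84443))))
(Tr.nd (nat_lit 84457) (Tr.lf (nat_lit 84449))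
(Tr.nd (nat_lit 84481) (Tr.lf (nat_lit 84457))
(Tr.lf (nat_lit 84481)))))
(Tr.nd (nat_lit 84559) (Tr.nd (nat_lit 84509) (Tr.lf (nat_lit 84499))
(Tr.nd (nat_lit 84551) (Tr.lf (nat_lit 84509))
(Tr.lf (nat_lit 84551))))
(Tr.nd (nat_lit 84631) (Tr.nd (nat_lit 84629) (Tr.lf (nat_lit 84559))
(Tr.lf (nat_lit 84629)))
(Tr.nd (nat_lit 84649) (Tr.lf (nat_lit 84631))
(Tr.lf (nat_lit 84649))))))
(Tr.nd (nat_lit 84827) (Tr.nd (nat_lit 84761) (Tr.nd (nat_lit 84713) (Tr.lf (nat_lit 84701))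
(Tr.nd (nat_lit 84719) (Tr.lf (nat_lit 84713))
(Tr.lf (nat_lit 84719))))
(Tr.nd (nat_lit 84793) (Tr.lf (nat_lit 84761))
(Tr.nd (nat_lit 84811) (Tr.lf (nat_lit 84793))
(Tr.lf (nat_lit 84811)))))
(Tr.nd (nat_lit 84967) (Tr.nd (nat_lit 84857) (Tr.lf (nat_lit 84827))
(Tr.nd (nat_lit 84859) (Tr.lf (nat_lit 84857))
(Tr.lf (nat_lit 84859))))
(Tr.nd (nat_lit 85021) (Tr.nd (nat_lit 85009) (Tr.lf (nat_lit 84967))
(Tr.lf (nat_lit 85009)))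
(Tr.nd (nat_lit 85027) (Tr.lf (nat_lit 85021))
(Tr.lf (nat_lit 85027)))))))
(Tr.nd (nat_lit 85229) (Tr.nd (nat_lit 85121) (Tr.nd (nat_lit 85087) (Tr.nd (nat_lit 85061) (Tr.lf (nat_lit 85049))
(Tr.nd (nat_lit 85081) (Tr.lf (nat_lit 85061))
(Tr.lf (nat_lit 85081))))
(Tr.nd (nat_lit 85103) (Tr.lf (nat_lit 85087))
(Tr.nd (nat_lit 85109) (Tr.lf (nat_lit 85103))
(Tr.lf (nat_lit 85109)))))
(Tr.nd (nat_lit 85159) (Tr.nd (nat_lit 85133) (Tr.lf (nat_lit 85121))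
(Tr.nd (nat_lit 85147) (Tr.lf (nat_lit 85133))
(Tr.lf (nat_lit 85147))))
(Tr.nd (nat_lit 85201) (Tr.nd (nat_lit 85199) (Tr.lf (nat_lit 85159))
(Tr.lf (nat_lit 85199)))
(Tr.nd (nat_lit 85223) (Tr.lf (nat_lit 85201))
(Tr.lf (nat_lit 85223))))))
(Tr.nd (nat_lit 85429) (Tr.nd (nat_lit 85259) (Tr.nd (nat_lit 85237) (Tr.lf (nat_lit 85229))
(Tr.nd (nat_lit 85247) (Tr.lf (nat_lit 85237))
(Tr.lf (nat_lit 85247))))
(Tr.nd (nat_lit 85369) (Tr.nd (nat_lit 85361) (Tr.lf (nat_lit 85259))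
(Tr.lf (nat_lit 85361)))
(Tr.nd (nat_lit 85427) (Tr.lf (nat_lit 85369))
(Tr.lf (nat_lit 85427)))))
(Tr.nd (nat_lit 85627) (Tr.nd (nat_lit 85577) (Tr.lf (nat_lit 85429))
(Tr.nd (nat_lit 85621) (Tr.lf (nat_lit 85577))
(Tr.lf (nat_lit 85621))))
(Tr.nd (nat_lit 85661) (Tr.nd (nat_lit 85643) (Tr.lf (nat_lit 85627))
(Tr.lf (nat_lit 85643)))
(Tr.nd (nat_lit 85691) (Tr.lf (nat_lit 85661))
(Tr.lf (nat_lit 85691)))))))))
(Tr.nd (nat_lit 86857) (Tr.nd (nat_lit 86297) (Tr.nd (nat_lit 86131) (Tr.nd (nat_lit 85817) (Tr.nd (nat_lit 85733) (Tr.nd (nat_lit 85711) (Tr.lf (nat_lit 85703))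
(Tr.nd (nat_lit 85717) (Tr.lf (nat_lit 85711))
(Tr.lf (nat_lit 85717))))
(Tr.nd (nat_lit 85751) (Tr.lf (nat_lit 85733))
(Tr.nd (nat_lit 85781) (Tr.lf (nat_lit 85751))
(Tr.lf (nat_lit 85781)))))
(Tr.nd (nat_lit 85933) (Tr.nd (nat_lit 85909) (Tr.lf (nat_lit 85817))
(Tr.nd (nat_lit 85931) (Tr.lf (nat_lit 85909))
(Tr.lf (nat_lit 85931))))
(Tr.nd (nat_lit 86017) (Tr.nd (nat_lit 86011) (Tr.lf (nat_lit 85933))
(Tr.lf (nat_lit 86011)))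
(Tr.nd (nat_lit 86029) (Tr.lf (nat_lit 86017))
(Tr.lf (nat_lit 86029))))))
(Tr.nd (nat_lit 86209) (Tr.nd (nat_lit 86179) (Tr.nd (nat_lit 86137) (Tr.lf (nat_lit 86131))
(Tr.nd (nat_lit 86143) (Tr.lf (nat_lit 86137))
(Tr.lf (nat_lit 86143))))
(Tr.nd (nat_lit 86183) (Tr.lf (nat_lit 86179))
(Tr.nd (nat_lit 86201) (Tr.lf (nat_lit 86183))
(Tr.lf (nat_lit 86201)))))
(Tr.nd (nat_lit 86269) (Tr.nd (nat_lit 86243) (Tr.lf (nat_lit 86209))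
(Tr.nd (nat_lit 86257) (Tr.lf (nat_lit 86243))
(Tr.lf (nat_lit 86257))))
(Tr.nd (nat_lit 86291) (Tr.nd (nat_lit 86287) (Tr.lf (nat_lit 86269))
(Tr.lf (nat_lit 86287)))
(Tr.nd (nat_lit 86293) (Tr.lf (nat_lit 86291))
(Tr.lf (nat_lit 86293)))))))
(Tr.nd (nat_lit 86587) (Tr.nd (nat_lit 86399) (Tr.nd (nat_lit 86371) (Tr.nd (nat_lit 86323) (Tr.lf (nat_lit 86297))
(Tr.nd (nat_lit 86369) (Tr.lf (nat_lit 86323))
(Tr.lf (nat_lit 86369))))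
(Tr.nd (nat_lit 86381) (Tr.lf (nat_lit 86371))
(Tr.nd (nat_lit 86389) (Tr.lf (nat_lit 86381))
(Tr.lf (nat_lit 86389)))))
(Tr.nd (nat_lit 86477) (Tr.nd (nat_lit 86461) (Tr.lf (nat_lit 86399))
(Tr.nd (nat_lit 86467) (Tr.lf (nat_lit 86461))
(Tr.lf (nat_lit 86467))))
(Tr.nd (nat_lit 86539) (Tr.nd (nat_lit 86501) (Tr.lf (nat_lit 86477))
(Tr.lf (nat_lit 86501)))
(Tr.nd (nat_lit 86579) (Tr.lf (nat_lit 86539))
(Tr.lf (nat_lit 86579))))))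
(Tr.nd (nat_lit 86719) (Tr.nd (nat_lit 86629) (Tr.nd (nat_lit 86599) (Tr.lf (nat_lit 86587))
(Tr.nd (nat_lit 86627) (Tr.lf (nat_lit 86599))
(Tr.lf (nat_lit 86627))))
(Tr.nd (nat_lit 86689) (Tr.lf (nat_lit 86629))
(Tr.nd (nat_lit 86693) (Tr.lf (nat_lit 86689))
(Tr.lf (nat_lit 86693)))))
(Tr.nd (nat_lit 86767) (Tr.nd (nat_lit 86729) (Tr.lf (nat_lit 86719))
(Tr.nd (nat_lit 86753) (Tr.lf (nat_lit 86729))
(Tr.lf (nat_lit 86753))))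
(Tr.nd (nat_lit 86837) (Tr.nd (nat_lit 86813) (Tr.lf (nat_lit 86767))
(Tr.lf (nat_lit 86813)))
(Tr.nd (nat_lit 86851) (Tr.lf (nat_lit 86837))
(Tr.lf (nat_lit 86851))))))))
(Tr.nd (nat_lit 87473) (Tr.nd (nat_lit 87149) (Tr.nd (nat_lit 86959) (Tr.nd (nat_lit 86927) (Tr.nd (nat_lit 86861) (Tr.lf (nat_lit 86857))
(Tr.nd (nat_lit 86923) (Tr.lf (nat_lit 86861))
(Tr.lf (nat_lit 86923))))
(Tr.nd (nat_lit 86939) (Tr.lf (nat_lit 86927))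
(Tr.nd (nat_lit 86951) (Tr.lf (nat_lit 86939))
(Tr.lf (nat_lit 86951)))))
(Tr.nd (nat_lit 87011) (Tr.nd (nat_lit 86981) (Tr.lf (nat_lit 86959))
(Tr.nd (nat_lit 86993) (Tr.lf (nat_lit 86981))
(Tr.lf (nat_lit 86993))))
(Tr.nd (nat_lit 87041) (Tr.nd (nat_lit 87013) (Tr.lf (nat_lit 87011))
(Tr.lf (nat_lit 87013)))
(Tr.nd (nat_lit 87119) (Tr.lf (nat_lit 87041))
(Tr.lf (nat_lit 87119))))))
(Tr.nd (nat_lit 87257) (Tr.nd (nat_lit 87211) (Tr.nd (nat_lit 87181) (Tr.lf (nat_lit 87149))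
(Tr.nd (nat_lit 87187) (Tr.lf (nat_lit 87181))
(Tr.lf (nat_lit 87187))))
(Tr.nd (nat_lit 87221) (Tr.lf (nat_lit 87211))
(Tr.nd (nat_lit 87223) (Tr.lf (nat_lit 87221))
(Tr.lf (nat_lit 87223)))))
(Tr.nd (nat_lit 87299) (Tr.nd (nat_lit 87277) (Tr.lf (nat_lit 87257))
(Tr.nd (nat_lit 87281) (Tr.lf (nat_lit 87277))
(Tr.lf (nat_lit 87281))))
(Tr.nd (nat_lit 87323) (Tr.nd (nat_lit 87313) (Tr.lf (nat_lit 87299))
(Tr.lf (nat_lit 87313)))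
(Tr.nd (nat_lit 87337) (Tr.lf (nat_lit 87323))
(Tr.lf (nat_lit 87337)))))))
(Tr.nd (nat_lit 87641) (Tr.nd (nat_lit 87547) (Tr.nd (nat_lit 87511) (Tr.nd (nat_lit 87481) (Tr.lf (nat_lit 87473))
(Tr.nd (nat_lit 87509) (Tr.lf (nat_lit 87481))
(Tr.lf (nat_lit 87509))))
(Tr.nd (nat_lit 87517) (Tr.lf (nat_lit 87511))
(Tr.nd (nat_lit 87523) (Tr.lf (nat_lit 87517))
(Tr.lf (nat_lit 87523)))))
(Tr.nd (nat_lit 87589) (Tr.nd (nat_lit 87553) (Tr.lf (nat_lit 87547))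
(Tr.nd (nat_lit 87587) (Tr.lf (nat_lit 87553))
(Tr.lf (nat_lit 87587))))
(Tr.nd (nat_lit 87623) (Tr.nd (nat_lit 87613) (Tr.lf (nat_lit 87589))
(Tr.lf (nat_lit 87613)))
(Tr.nd (nat_lit 87631) (Tr.lf (nat_lit 87623))
(Tr.lf (nat_lit 87631))))))
(Tr.nd (nat_lit 87767) (Tr.nd (nat_lit 87679) (Tr.nd (nat_lit 87643) (Tr.lf (nat_lit 87641))
(Tr.nd (nat_lit 87671) (Tr.lf (nat_lit 87643))
(Tr.lf (nat_lit 87671))))
(Tr.nd (nat_lit 87739) (Tr.nd (nat_lit 87701) (Tr.lf (nat_lit 87679))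
(Tr.lf (nat_lit 87701)))
(Tr.nd (nat_lit 87751) (Tr.lf (nat_lit 87739))
(Tr.lf (nat_lit 87751)))))
(Tr.nd (nat_lit 87881) (Tr.nd (nat_lit 87793) (Tr.lf (nat_lit 87767))
(Tr.nd (nat_lit 87797) (Tr.lf (nat_lit 87793))
(Tr.lf (nat_lit 87797))))
(Tr.nd (nat_lit 87931) (Tr.nd (nat_lit 87887) (Tr.lf (nat_lit 87881))
(Tr.lf (nat_lit 87887)))
(Tr.nd (nat_lit 88001) (Tr.lf (nat_lit 87931))
(Tr.lf (nat_lit 88001))))))))))))
(Tr.nd (nat_lit 96827) (Tr.nd (nat_lit 92507) (Tr.nd (nat_lit 90247) (Tr.nd (nat_lit 89231) (Tr.nd (nat_lit 88793) (Tr.nd (nat_lit 88321) (Tr.nd (nat_lit 88223) (Tr.nd (nat_lit 88037) (Tr.nd (nat_lit 88007) (Tr.lf (nat_lit 88003))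
(Tr.nd (nat_lit 88019) (Tr.lf (nat_lit 88007))
(Tr.lf (nat_lit 88019))))
(Tr.nd (nat_lit 88069) (Tr.lf (nat_lit 88037))
(Tr.nd (nat_lit 88211) (Tr.lf (nat_lit 88069))
(Tr.lf (nat_lit 88211)))))
(Tr.nd (nat_lit 88259) (Tr.nd (nat_lit 88237) (Tr.lf (nat_lit 88223))
(Tr.nd (nat_lit 88241) (Tr.lf (nat_lit 88237))
(Tr.lf (nat_lit 88241))))
(Tr.nd (nat_lit 88289) (Tr.nd (nat_lit 88261) (Tr.lf (nat_lit 88259))
(Tr.lf (nat_lit 88261)))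
(Tr.nd (nat_lit 88301) (Tr.lf (nat_lit 88289))
(Tr.lf (nat_lit 88301))))))
(Tr.nd (nat_lit 88643) (Tr.nd (nat_lit 88463) (Tr.nd (nat_lit 88337) (Tr.lf (nat_lit 88321))
(Tr.nd (nat_lit 88397) (Tr.lf (nat_lit 88337))
(Tr.lf (nat_lit 88397))))
(Tr.nd (nat_lit 88469) (Tr.lf (nat_lit 88463))
(Tr.nd (nat_lit 88471) (Tr.lf (nat_lit 88469))
(Tr.lf (nat_lit 88471)))))
(Tr.nd (nat_lit 88663) (Tr.nd (nat_lit 88651) (Tr.lf (nat_lit 88643))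
(Tr.nd (nat_lit 88661) (Tr.lf (nat_lit 88651))
(Tr.lf (nat_lit 88661))))
(Tr.nd (nat_lit 88729) (Tr.nd (nat_lit 88721) (Tr.lf (nat_lit 88663))
(Tr.lf (nat_lit 88721)))
(Tr.nd (nat_lit 88771) (Tr.lf (nat_lit 88729))
(Tr.lf (nat_lit 88771)))))))
(Tr.nd (nat_lit 89009) (Tr.nd (nat_lit 88867) (Tr.nd (nat_lit 88817) (Tr.nd (nat_lit 88801) (Tr.lf (nat_lit 88793))
(Tr.nd (nat_lit 88807) (Tr.lf (nat_lit 88801))
(Tr.lf (nat_lit 88807))))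
(Tr.nd (nat_lit 88819) (Tr.lf (nat_lit 88817))
(Tr.nd (nat_lit 88843) (Tr.lf (nat_lit 88819))
(Tr.lf (nat_lit 88843)))))
(Tr.nd (nat_lit 88919) (Tr.nd (nat_lit 88873) (Tr.lf (nat_lit 88867))
(Tr.nd (nat_lit 88897) (Tr.lf (nat_lit 88873))
(Tr.lf (nat_lit 88897))))
(Tr.nd (nat_lit 88969) (Tr.nd (nat_lit 88951) (Tr.lf (nat_lit 88919))
(Tr.lf (nat_lit 88951)))
(Tr.nd (nat_lit 89003) (Tr.lf (nat_lit 88969))
(Tr.lf (nat_lit 89003))))))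
(Tr.nd (nat_lit 89101) (Tr.nd (nat_lit 89057) (Tr.nd (nat_lit 89017) (Tr.lf (nat_lit 89009))
(Tr.nd (nat_lit 89021) (Tr.lf (nat_lit 89017))
(Tr.lf (nat_lit 89021))))
(Tr.nd (nat_lit 89083) (Tr.lf (nat_lit 89057))
(Tr.nd (nat_lit 89087) (Tr.lf (nat_lit 89083))
(Tr.lf (nat_lit 89087)))))
(Tr.nd (nat_lit 89137) (Tr.nd (nat_lit 89107) (Tr.lf (nat_lit 89101))
(Tr.nd (nat_lit 89119) (Tr.lf (nat_lit 89107))
(Tr.lf (nat_lit 89119))))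
(Tr.nd (nat_lit 89209) (Tr.nd (nat_lit 89203) (Tr.lf (nat_lit 89137))
(Tr.lf (nat_lit 89203)))
(Tr.nd (nat_lit 89213) (Tr.lf (nat_lit 89209))
(Tr.lf (nat_lit 89213))))))))
(Tr.nd (nat_lit 89627) (Tr.nd (nat_lit 89443) (Tr.nd (nat_lit 89371) (Tr.nd (nat_lit 89293) (Tr.nd (nat_lit 89237) (Tr.lf (nat_lit 89231))
(Tr.nd (nat_lit 89269) (Tr.lf (nat_lit 89237))
(Tr.lf (nat_lit 89269))))
(Tr.nd (nat_lit 89317) (Tr.lf (nat_lit 89293))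
(Tr.nd (nat_lit 89329) (Tr.lf (nat_lit 89317))
(Tr.lf (nat_lit 89329)))))
(Tr.nd (nat_lit 89393) (Tr.nd (nat_lit 89381) (Tr.lf (nat_lit 89371))
(Tr.nd (nat_lit 89387) (Tr.lf (nat_lit 89381))
(Tr.lf (nat_lit 89387))))
(Tr.nd (nat_lit 89417) (Tr.nd (nat_lit 89399) (Tr.lf (nat_lit 89393))
(Tr.lf (nat_lit 89399)))
(Tr.nd (nat_lit 89431) (Tr.lf (nat_lit 89417))
(Tr.lf (nat_lit 89431))))))
(Tr.nd (nat_lit 89527) (Tr.nd (nat_lit 89477) (Tr.nd (nat_lit 89449) (Tr.lf (nat_lit 89443))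
(Tr.nd (nat_lit 89459) (Tr.lf (nat_lit 89449))
(Tr.lf (nat_lit 89459))))
(Tr.nd (nat_lit 89501) (Tr.lf (nat_lit 89477))
(Tr.nd (nat_lit 89521) (Tr.lf (nat_lit 89501))
(Tr.lf (nat_lit 89521)))))
(Tr.nd (nat_lit 89567) (Tr.nd (nat_lit 89533) (Tr.lf (nat_lit 89527))
(Tr.nd (nat_lit 89561) (Tr.lf (nat_lit 89533))
(Tr.lf (nat_lit 89561))))
(Tr.nd (nat_lit 89603) (Tr.nd (nat_lit 89599) (Tr.lf (nat_lit 89567))
(Tr.lf (nat_lit 89599)))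
(Tr.nd (nat_lit 89611) (Tr.lf (nat_lit 89603))
(Tr.lf (nat_lit 89611)))))))
(Tr.nd (nat_lit 89897) (Tr.nd (nat_lit 89797) (Tr.nd (nat_lit 89681) (Tr.nd (nat_lit 89669) (Tr.lf (nat_lit 89627))
(Tr.nd (nat_lit 89671) (Tr.lf (nat_lit 89669))
(Tr.lf (nat_lit 89671))))
(Tr.nd (nat_lit 89689) (Tr.lf (nat_lit 89681))
(Tr.nd (nat_lit 89783) (Tr.lf (nat_lit 89689))
(Tr.lf (nat_lit 89783)))))
(Tr.nd (nat_lit 89821) (Tr.nd (nat_lit 89809) (Tr.lf (nat_lit 89797))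
(Tr.nd (nat_lit 89819) (Tr.lf (nat_lit 89809))
(Tr.lf (nat_lit 89819))))
(Tr.nd (nat_lit 89849) (Tr.nd (nat_lit 89839) (Tr.lf (nat_lit 89821))
(Tr.lf (nat_lit 89839)))
(Tr.nd (nat_lit 89891) (Tr.lf (nat_lit 89849))
(Tr.lf (nat_lit 89891))))))
(Tr.nd (nat_lit 90107) (Tr.nd (nat_lit 89983) (Tr.nd (nat_lit 89923) (Tr.lf (nat_lit 89897))
(Tr.nd (nat_lit 89963) (Tr.lf (nat_lit 89923))
(Tr.lf (nat_lit 89963))))
(Tr.nd (nat_lit 90071) (Tr.nd (nat_lit 90001) (Tr.lf (nat_lit 89983))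
(Tr.lf (nat_lit 90001)))
(Tr.nd (nat_lit 90073) (Tr.lf (nat_lit 90071))
(Tr.lf (nat_lit 90073)))))
(Tr.nd (nat_lit 90173) (Tr.nd (nat_lit 90121) (Tr.lf (nat_lit 90107))
(Tr.nd (nat_lit 90163) (Tr.lf (nat_lit 90121))
(Tr.lf (nat_lit 90163))))
(Tr.nd (nat_lit 90203) (Tr.nd (nat_lit 90197) (Tr.lf (nat_lit 90173))
(Tr.lf (nat_lit 90197)))
(Tr.nd (nat_lit 90217) (Tr.lf (nat_lit 90203))
(Tr.lf (nat_lit 90217)))))))))
(Tr.nd (nat_lit 91513) (Tr.nd (nat_lit 90931) (Tr.nd (nat_lit 90529) (Tr.nd (nat_lit 90403) (Tr.nd (nat_lit 90289) (Tr.nd (nat_lit 90263) (Tr.lf (nat_lit 90247))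
(Tr.nd (nat_lit 90271) (Tr.lf (nat_lit 90263))
(Tr.lf (nat_lit 90271))))
(Tr.nd (nat_lit 90371) (Tr.lf (nat_lit 90289))
(Tr.nd (nat_lit 90401) (Tr.lf (nat_lit 90371))
(Tr.lf (nat_lit 90401)))))
(Tr.nd (nat_lit 90473) (Tr.nd (nat_lit 90407) (Tr.lf (nat_lit 90403))
(Tr.nd (nat_lit 90439) (Tr.lf (nat_lit 90407))
(Tr.lf (nat_lit 90439))))
(Tr.nd (nat_lit 90523) (Tr.nd (nat_lit 90499) (Tr.lf (nat_lit 90473))
(Tr.lf (nat_lit 90499)))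
(Tr.nd (nat_lit 90527) (Tr.lf (nat_lit 90523))
(Tr.lf (nat_lit 90527))))))
(Tr.nd (nat_lit 90697) (Tr.nd (nat_lit 90617) (Tr.nd (nat_lit 90583) (Tr.lf (nat_lit 90529))
(Tr.nd (nat_lit 90599) (Tr.lf (nat_lit 90583))
(Tr.lf (nat_lit 90599))))
(Tr.nd (nat_lit 90641) (Tr.lf (nat_lit 90617))
(Tr.nd (nat_lit 90647) (Tr.lf (nat_lit 90641))
(Tr.lf (nat_lit 90647)))))
(Tr.nd (nat_lit 90841) (Tr.nd (nat_lit 90731) (Tr.lf (nat_lit 90697))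
(Tr.nd (nat_lit 90749) (Tr.lf (nat_lit 90731))
(Tr.lf (nat_lit 90749))))
(Tr.nd (nat_lit 90901) (Tr.nd (nat_lit 90863) (Tr.lf (nat_lit 90841))
(Tr.lf (nat_lit 90863)))
(Tr.nd (nat_lit 90917) (Tr.lf (nat_lit 90901))
(Tr.lf (nat_lit 90917)))))))
(Tr.nd (nat_lit 91253) (Tr.nd (nat_lit 91183) (Tr.nd (nat_lit 91127) (Tr.nd (nat_lit 90997) (Tr.lf (nat_lit 90931))
(Tr.nd (nat_lit 91081) (Tr.lf (nat_lit 90997))
(Tr.lf (nat_lit 91081))))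
(Tr.nd (nat_lit 91129) (Tr.lf (nat_lit 91127))
(Tr.nd (nat_lit 91159) (Tr.lf (nat_lit 91129))
(Tr.lf (nat_lit 91159)))))
(Tr.nd (nat_lit 91229) (Tr.nd (nat_lit 91193) (Tr.lf (nat_lit 91183))
(Tr.nd (nat_lit 91199) (Tr.lf (nat_lit 91193))
(Tr.lf (nat_lit 91199))))
(Tr.nd (nat_lit 91243) (Tr.nd (nat_lit 91237) (Tr.lf (nat_lit 91229))
(Tr.lf (nat_lit 91237)))
(Tr.nd (nat_lit 91249) (Tr.lf (nat_lit 91243))
(Tr.lf (nat_lit 91249))))))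
(Tr.nd (nat_lit 91411) (Tr.nd (nat_lit 91309) (Tr.nd (nat_lit 91291) (Tr.lf (nat_lit 91253))
(Tr.nd (nat_lit 91303) (Tr.lf (nat_lit 91291))
(Tr.lf (nat_lit 91303))))
(Tr.nd (nat_lit 91367) (Tr.lf (nat_lit 91309))
(Tr.nd (nat_lit 91397) (Tr.lf (nat_lit 91367))
(Tr.lf (nat_lit 91397)))))
(Tr.nd (nat_lit 91459) (Tr.nd (nat_lit 91423) (Tr.lf (nat_lit 91411))
(Tr.nd (nat_lit 91457) (Tr.lf (nat_lit 91423))
(Tr.lf (nat_lit 91457))))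
(Tr.nd (nat_lit 91493) (Tr.nd (nat_lit 91463) (Tr.lf (nat_lit 91459))
(Tr.lf (nat_lit 91463)))
(Tr.nd (nat_lit 91499) (Tr.lf (nat_lit 91493))
(Tr.lf (nat_lit 91499))))))))
(Tr.nd (nat_lit 92051) (Tr.nd (nat_lit 91811) (Tr.nd (nat_lit 91691) (Tr.nd (nat_lit 91573) (Tr.nd (nat_lit 91529) (Tr.lf (nat_lit 91513))
(Tr.nd (nat_lit 91571) (Tr.lf (nat_lit 91529))
(Tr.lf (nat_lit 91571))))
(Tr.nd (nat_lit 91577) (Tr.lf (nat_lit 91573))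
(Tr.nd (nat_lit 91631) (Tr.lf (nat_lit 91577))
(Tr.lf (nat_lit 91631)))))
(Tr.nd (nat_lit 91757) (Tr.nd (nat_lit 91703) (Tr.lf (nat_lit 91691))
(Tr.nd (nat_lit 91753) (Tr.lf (nat_lit 91703))
(Tr.lf (nat_lit 91753))))
(Tr.nd (nat_lit 91801) (Tr.nd (nat_lit 91771) (Tr.lf (nat_lit 91757))
(Tr.lf (nat_lit 91771)))
(Tr.nd (nat_lit 91807) (Tr.lf (nat_lit 91801))
(Tr.lf (nat_lit 91807))))))
(Tr.nd (nat_lit 91957) (Tr.nd (nat_lit 91873) (Tr.nd (nat_lit 91813) (Tr.lf (nat_lit 91811))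
(Tr.nd (nat_lit 91841) (Tr.lf (nat_lit 91813))
(Tr.lf (nat_lit 91841))))
(Tr.nd (nat_lit 91921) (Tr.lf (nat_lit 91873))
(Tr.nd (nat_lit 91951) (Tr.lf (nat_lit 91921))
(Tr.lf (nat_lit 91951)))))
(Tr.nd (nat_lit 91969) (Tr.nd (nat_lit 91961) (Tr.lf (nat_lit 91957))
(Tr.nd (nat_lit 91967) (Tr.lf (nat_lit 91961))
(Tr.lf (nat_lit 91967))))
(Tr.nd (nat_lit 92009) (Tr.nd (nat_lit 92003) (Tr.lf (nat_lit 91969))
(Tr.lf (nat_lit 92003)))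
(Tr.nd (nat_lit 92033) (Tr.lf (nat_lit 92009))
(Tr.lf (nat_lit 92033)))))))
(Tr.nd (nat_lit 92297) (Tr.nd (nat_lit 92173) (Tr.nd (nat_lit 92119) (Tr.nd (nat_lit 92083) (Tr.lf (nat_lit 92051))
(Tr.nd (nat_lit 92111) (Tr.lf (nat_lit 92083))
(Tr.lf (nat_lit 92111))))
(Tr.nd (nat_lit 92143) (Tr.lf (nat_lit 92119))
(Tr.nd (nat_lit 92153) (Tr.lf (nat_lit 92143))
(Tr.lf (nat_lit 92153)))))
(Tr.nd (nat_lit 92221) (Tr.nd (nat_lit 92177) (Tr.lf (nat_lit 92173))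
(Tr.nd (nat_lit 92219) (Tr.lf (nat_lit 92177))
(Tr.lf (nat_lit 92219))))
(Tr.nd (nat_lit 92251) (Tr.nd (nat_lit 92243) (Tr.lf (nat_lit 92221))
(Tr.lf (nat_lit 92243)))
(Tr.nd (nat_lit 92269) (Tr.lf (nat_lit 92251))
(Tr.lf (nat_lit 92269))))))
(Tr.nd (nat_lit 92387) (Tr.nd (nat_lit 92333) (Tr.nd (nat_lit 92311) (Tr.lf (nat_lit 92297))
(Tr.nd (nat_lit 92317) (Tr.lf (nat_lit 92311))
(Tr.lf (nat_lit 92317))))
(Tr.nd (nat_lit 92357) (Tr.nd (nat_lit 92347) (Tr.lf (nat_lit 92333))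
(Tr.lf (nat_lit 92347)))
(Tr.nd (nat_lit 92363) (Tr.lf (nat_lit 92357))
(Tr.lf (nat_lit 92363)))))
(Tr.nd (nat_lit 92431) (Tr.nd (nat_lit 92413) (Tr.lf (nat_lit 92387))
(Tr.nd (nat_lit 92419) (Tr.lf (nat_lit 92413))
(Tr.lf (nat_lit 92419))))
(Tr.nd (nat_lit 92467) (Tr.nd (nat_lit 92459) (Tr.lf (nat_lit 92431))
(Tr.lf (nat_lit 92459)))
(Tr.nd (nat_lit 92479) (Tr.lf (nat_lit 92467))
(Tr.lf (nat_lit 92479))))))))))
(Tr.nd (nat_lit 94723) (Tr.nd (nat_lit 93563) (Tr.nd (nat_lit 93139) (Tr.nd (nat_lit 92789) (Tr.nd (nat_lit 92681) (Tr.nd (nat_lit 92639) (Tr.nd (nat_lit 92569) (Tr.lf (nat_lit 92507))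
(Tr.nd (nat_lit 92623) (Tr.lf (nat_lit 92569))
(Tr.lf (nat_lit 92623))))
(Tr.nd (nat_lit 92647) (Tr.lf (nat_lit 92639))
(Tr.nd (nat_lit 92671) (Tr.lf (nat_lit 92647))
(Tr.lf (nat_lit 92671)))))
(Tr.nd (nat_lit 92707) (Tr.nd (nat_lit 92683) (Tr.lf (nat_lit 92681))
(Tr.nd (nat_lit 92693) (Tr.lf (nat_lit 92683))
(Tr.lf (nat_lit 92693))))
(Tr.nd (nat_lit 92737) (Tr.nd (nat_lit 92723) (Tr.lf (nat_lit 92707))
(Tr.lf (nat_lit 92723)))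
(Tr.nd (nat_lit 92753) (Tr.lf (nat_lit 92737))
(Tr.lf (nat_lit 92753))))))
(Tr.nd (nat_lit 93001) (Tr.nd (nat_lit 92921) (Tr.nd (nat_lit 92791) (Tr.lf (nat_lit 92789))
(Tr.nd (nat_lit 92801) (Tr.lf (nat_lit 92791))
(Tr.lf (nat_lit 92801))))
(Tr.nd (nat_lit 92951) (Tr.lf (nat_lit 92921))
(Tr.nd (nat_lit 92987) (Tr.lf (nat_lit 92951))
(Tr.lf (nat_lit 92987)))))
(Tr.nd (nat_lit 93089) (Tr.nd (nat_lit 93047) (Tr.lf (nat_lit 93001))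
(Tr.nd (nat_lit 93059) (Tr.lf (nat_lit 93047))
(Tr.lf (nat_lit 93059))))
(Tr.nd (nat_lit 93131) (Tr.nd (nat_lit 93113) (Tr.lf (nat_lit 93089))
(Tr.lf (nat_lit 93113)))
(Tr.nd (nat_lit 93133) (Tr.lf (nat_lit 93131))
(Tr.lf (nat_lit 93133)))))))
(Tr.nd (nat_lit 93329) (Tr.nd (nat_lit 93251) (Tr.nd (nat_lit 93179) (Tr.nd (nat_lit 93151) (Tr.lf (nat_lit 93139))
(Tr.nd (nat_lit 93169) (Tr.lf (nat_lit 93151))
(Tr.lf (nat_lit 93169))))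
(Tr.nd (nat_lit 93187) (Tr.lf (nat_lit 93179))
(Tr.nd (nat_lit 93239) (Tr.lf (nat_lit 93187))
(Tr.lf (nat_lit 93239)))))
(Tr.nd (nat_lit 93281) (Tr.nd (nat_lit 93253) (Tr.lf (nat_lit 93251))
(Tr.nd (nat_lit 93257) (Tr.lf (nat_lit 93253))
(Tr.lf (nat_lit 93257))))
(Tr.nd (nat_lit 93307) (Tr.nd (nat_lit 93287) (Tr.lf (nat_lit 93281))
(Tr.lf (nat_lit 93287)))
(Tr.nd (nat_lit 93323) (Tr.lf (nat_lit 93307))
(Tr.lf (nat_lit 93323))))))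
(Tr.nd (nat_lit 93479) (Tr.nd (nat_lit 93377) (Tr.nd (nat_lit 93337) (Tr.lf (nat_lit 93329))
(Tr.nd (nat_lit 93371) (Tr.lf (nat_lit 93337))
(Tr.lf (nat_lit 93371))))
(Tr.nd (nat_lit 93407) (Tr.lf (nat_lit 93377))
(Tr.nd (nat_lit 93463) (Tr.lf (nat_lit 93407))
(Tr.lf (nat_lit 93463)))))
(Tr.nd (nat_lit 93503) (Tr.nd (nat_lit 93487) (Tr.lf (nat_lit 93479))
(Tr.nd (nat_lit 93493) (Tr.lf (nat_lit 93487))
(Tr.lf (nat_lit 93493))))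
(Tr.nd (nat_lit 93529) (Tr.nd (nat_lit 93523) (Tr.lf (nat_lit 93503))
(Tr.lf (nat_lit 93523)))
(Tr.nd (nat_lit 93559) (Tr.lf (nat_lit 93529))
(Tr.lf (nat_lit 93559))))))))
(Tr.nd (nat_lit 94117) (Tr.nd (nat_lit 93923) (Tr.nd (nat_lit 93787) (Tr.nd (nat_lit 93703) (Tr.nd (nat_lit 93581) (Tr.lf (nat_lit 93563))
(Tr.nd (nat_lit 93601) (Tr.lf (nat_lit 93581))
(Tr.lf (nat_lit 93601))))
(Tr.nd (nat_lit 93739) (Tr.lf (nat_lit 93703))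
(Tr.nd (nat_lit 93761) (Tr.lf (nat_lit 93739))
(Tr.lf (nat_lit 93761)))))
(Tr.nd (nat_lit 93889) (Tr.nd (nat_lit 93809) (Tr.lf (nat_lit 93787))
(Tr.nd (nat_lit 93851) (Tr.lf (nat_lit 93809))
(Tr.lf (nat_lit 93851))))
(Tr.nd (nat_lit 93911) (Tr.nd (nat_lit 93893) (Tr.lf (nat_lit 93889))
(Tr.lf (nat_lit 93893)))
(Tr.nd (nat_lit 93913) (Tr.lf (nat_lit 93911))
(Tr.lf (nat_lit 93913))))))
(Tr.nd (nat_lit 93983) (Tr.nd (nat_lit 93949) (Tr.nd (nat_lit 93937) (Tr.lf (nat_lit 93923))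
(Tr.nd (nat_lit 93941) (Tr.lf (nat_lit 93937))
(Tr.lf (nat_lit 93941))))
(Tr.nd (nat_lit 93967) (Tr.lf (nat_lit 93949))
(Tr.nd (nat_lit 93979) (Tr.lf (nat_lit 93967))
(Tr.lf (nat_lit 93979)))))
(Tr.nd (nat_lit 94033) (Tr.nd (nat_lit 94007) (Tr.lf (nat_lit 93983))
(Tr.nd (nat_lit 94009) (Tr.lf (nat_lit 94007))
(Tr.lf (nat_lit 94009))))
(Tr.nd (nat_lit 94079) (Tr.nd (nat_lit 94057) (Tr.lf (nat_lit 94033))
(Tr.lf (nat_lit 94057)))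
(Tr.nd (nat_lit 94111) (Tr.lf (nat_lit 94079))
(Tr.lf (nat_lit 94111)))))))
(Tr.nd (nat_lit 94439) (Tr.nd (nat_lit 94309) (Tr.nd (nat_lit 94153) (Tr.nd (nat_lit 94121) (Tr.lf (nat_lit 94117))
(Tr.nd (nat_lit 94151) (Tr.lf (nat_lit 94121))
(Tr.lf (nat_lit 94151))))
(Tr.nd (nat_lit 94201) (Tr.lf (nat_lit 94153))
(Tr.nd (nat_lit 94207) (Tr.lf (nat_lit 94201))
(Tr.lf (nat_lit 94207)))))
(Tr.nd (nat_lit 94331) (Tr.nd (nat_lit 94321) (Tr.lf (nat_lit 94309))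
(Tr.nd (nat_lit 94327) (Tr.lf (nat_lit 94321))
(Tr.lf (nat_lit 94327))))
(Tr.nd (nat_lit 94379) (Tr.nd (nat_lit 94351) (Tr.lf (nat_lit 94331))
(Tr.lf (nat_lit 94351)))
(Tr.nd (nat_lit 94421) (Tr.lf (nat_lit 94379))
(Tr.lf (nat_lit 94421))))))
(Tr.nd (nat_lit 94597) (Tr.nd (nat_lit 94483) (Tr.nd (nat_lit 94463) (Tr.lf (nat_lit 94439))
(Tr.nd (nat_lit 94477) (Tr.lf (nat_lit 94463))
(Tr.lf (nat_lit 94477))))
(Tr.nd (nat_lit 94543) (Tr.nd (nat_lit 94541) (Tr.lf (nat_lit 94483))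
(Tr.lf (nat_lit 94541)))
(Tr.nd (nat_lit 94547) (Tr.lf (nat_lit 94543))
(Tr.lf (nat_lit 94547)))))
(Tr.nd (nat_lit 94649) (Tr.nd (nat_lit 94603) (Tr.lf (nat_lit 94597))
(Tr.nd (nat_lit 94613) (Tr.lf (nat_lit 94603))
(Tr.lf (nat_lit 94613))))
(Tr.nd (nat_lit 94693) (Tr.nd (nat_lit 94687) (Tr.lf (nat_lit 94649))
(Tr.lf (nat_lit 94687)))
(Tr.nd (nat_lit 94709) (Tr.lf (nat_lit 94693))
(Tr.lf (nat_lit 94709)))))))))
(Tr.nd (nat_lit 95621) (Tr.nd (nat_lit 95203) (Tr.nd (nat_lit 94951) (Tr.nd (nat_lit 94823) (Tr.nd (nat_lit 94777) (Tr.nd (nat_lit 94727) (Tr.lf (nat_lit 94723))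
(Tr.nd (nat_lit 94771) (Tr.lf (nat_lit 94727))
(Tr.lf (nat_lit 94771))))
(Tr.nd (nat_lit 94781) (Tr.lf (nat_lit 94777))
(Tr.nd (nat_lit 94819) (Tr.lf (nat_lit 94781))
(Tr.lf (nat_lit 94819)))))
(Tr.nd (nat_lit 94847) (Tr.nd (nat_lit 94837) (Tr.lf (nat_lit 94823))
(Tr.nd (nat_lit 94841) (Tr.lf (nat_lit 94837))
(Tr.lf (nat_lit 94841))))
(Tr.nd (nat_lit 94889) (Tr.nd (nat_lit 94873) (Tr.lf (nat_lit 94847))
(Tr.lf (nat_lit 94873)))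
(Tr.nd (nat_lit 94949) (Tr.lf (nat_lit 94889))
(Tr.lf (nat_lit 94949))))))
(Tr.nd (nat_lit 95063) (Tr.nd (nat_lit 95003) (Tr.nd (nat_lit 94961) (Tr.lf (nat_lit 94951))
(Tr.nd (nat_lit 94993) (Tr.lf (nat_lit 94961))
(Tr.lf (nat_lit 94993))))
(Tr.nd (nat_lit 95009) (Tr.lf (nat_lit 95003))
(Tr.nd (nat_lit 95021) (Tr.lf (nat_lit 95009))
(Tr.lf (nat_lit 95021)))))
(Tr.nd (nat_lit 95143) (Tr.nd (nat_lit 95071) (Tr.lf (nat_lit 95063))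
(Tr.nd (nat_lit 95089) (Tr.lf (nat_lit 95071))
(Tr.lf (nat_lit 95089))))
(Tr.nd (nat_lit 95177) (Tr.nd (nat_lit 95153) (Tr.lf (nat_lit 95143))
(Tr.lf (nat_lit 95153)))
(Tr.nd (nat_lit 95189) (Tr.lf (nat_lit 95177))
(Tr.lf (nat_lit 95189)))))))
(Tr.nd (nat_lit 95369) (Tr.nd (nat_lit 95261) (Tr.nd (nat_lit 95233) (Tr.nd (nat_lit 95213) (Tr.lf (nat_lit 95203))
(Tr.nd (nat_lit 95219) (Tr.lf (nat_lit 95213))
(Tr.lf (nat_lit 95219))))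
(Tr.nd (nat_lit 95239) (Tr.lf (nat_lit 95233))
(Tr.nd (nat_lit 95257) (Tr.lf (nat_lit 95239))
(Tr.lf (nat_lit 95257)))))
(Tr.nd (nat_lit 95287) (Tr.nd (nat_lit 95267) (Tr.lf (nat_lit 95261))
(Tr.nd (nat_lit 95279) (Tr.lf (nat_lit 95267))
(Tr.lf (nat_lit 95279))))
(Tr.nd (nat_lit 95317) (Tr.nd (nat_lit 95311) (Tr.lf (nat_lit 95287))
(Tr.lf (nat_lit 95311)))
(Tr.nd (nat_lit 95327) (Tr.lf (nat_lit 95317))
(Tr.lf (nat_lit 95327))))))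
(Tr.nd (nat_lit 95471) (Tr.nd (nat_lit 95401) (Tr.nd (nat_lit 95383) (Tr.lf (nat_lit 95369))
(Tr.nd (nat_lit 95393) (Tr.lf (nat_lit 95383))
(Tr.lf (nat_lit 95393))))
(Tr.nd (nat_lit 95441) (Tr.lf (nat_lit 95401))
(Tr.nd (nat_lit 95443) (Tr.lf (nat_lit 95441))
(Tr.lf (nat_lit 95443)))))
(Tr.nd (nat_lit 95527) (Tr.nd (nat_lit 95483) (Tr.lf (nat_lit 95471))
(Tr.nd (nat_lit 95507) (Tr.lf (nat_lit 95483))
(Tr.lf (nat_lit 95507))))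
(Tr.nd (nat_lit 95561) (Tr.nd (nat_lit 95539) (Tr.lf (nat_lit 95527))
(Tr.lf (nat_lit 95539)))
(Tr.nd (nat_lit 95617) (Tr.lf (nat_lit 95561))
(Tr.lf (nat_lit 95617))))))))
(Tr.nd (nat_lit 96263) (Tr.nd (nat_lit 95947) (Tr.nd (nat_lit 95737) (Tr.nd (nat_lit 95707) (Tr.nd (nat_lit 95629) (Tr.lf (nat_lit 95621))
(Tr.nd (nat_lit 95701) (Tr.lf (nat_lit 95629))
(Tr.lf (nat_lit 95701))))
(Tr.nd (nat_lit 95713) (Tr.lf (nat_lit 95707))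
(Tr.nd (nat_lit 95717) (Tr.lf (nat_lit 95713))
(Tr.lf (nat_lit 95717)))))
(Tr.nd (nat_lit 95873) (Tr.nd (nat_lit 95813) (Tr.lf (nat_lit 95737))
(Tr.nd (nat_lit 95869) (Tr.lf (nat_lit 95813))
(Tr.lf (nat_lit 95869))))
(Tr.nd (nat_lit 95911) (Tr.nd (nat_lit 95881) (Tr.lf (nat_lit 95873))
(Tr.lf (nat_lit 95881)))
(Tr.nd (nat_lit 95929) (Tr.lf (nat_lit 95911))
(Tr.lf (nat_lit 95929))))))
(Tr.nd (nat_lit 96137) (Tr.nd (nat_lit 95987) (Tr.nd (nat_lit 95959) (Tr.lf (nat_lit 95947))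
(Tr.nd (nat_lit 95971) (Tr.lf (nat_lit 95959))
(Tr.lf (nat_lit 95971))))
(Tr.nd (nat_lit 95989) (Tr.lf (nat_lit 95987))
(Tr.nd (nat_lit 96001) (Tr.lf (nat_lit 95989))
(Tr.lf (nat_lit 96001)))))
(Tr.nd (nat_lit 96179) (Tr.nd (nat_lit 96157) (Tr.lf (nat_lit 96137))
(Tr.nd (nat_lit 96167) (Tr.lf (nat_lit 96157))
(Tr.lf (nat_lit 96167))))
(Tr.nd (nat_lit 96211) (Tr.nd (nat_lit 96181) (Tr.lf (nat_lit 96179))
(Tr.lf (nat_lit 96181)))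
(Tr.nd (nat_lit 96233) (Tr.lf (nat_lit 96211))
(Tr.lf (nat_lit 96233)))))))
(Tr.nd (nat_lit 96493) (Tr.nd (nat_lit 96337) (Tr.nd (nat_lit 96289) (Tr.nd (nat_lit 96269) (Tr.lf (nat_lit 96263))
(Tr.nd (nat_lit 96281) (Tr.lf (nat_lit 96269))
(Tr.lf (nat_lit 96281))))
(Tr.nd (nat_lit 96293) (Tr.lf (nat_lit 96289))
(Tr.nd (nat_lit 96323) (Tr.lf (nat_lit 96293))
(Tr.lf (nat_lit 96323)))))
(Tr.nd (nat_lit 96443) (Tr.nd (nat_lit 96377) (Tr.lf (nat_lit 96337))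
(Tr.nd (nat_lit 96431) (Tr.lf (nat_lit 96377))
(Tr.lf (nat_lit 96431))))
(Tr.nd (nat_lit 96469) (Tr.nd (nat_lit 96451) (Tr.lf (nat_lit 96443))
(Tr.lf (nat_lit 96451)))
(Tr.nd (nat_lit 96479) (Tr.lf (nat_lit 96469))
(Tr.lf (nat_lit 96479))))))
(Tr.nd (nat_lit 96731) (Tr.nd (nat_lit 96527) (Tr.nd (nat_lit 96497) (Tr.lf (nat_lit 96493))
(Tr.nd (nat_lit 96517) (Tr.lf (nat_lit 96497))
(Tr.lf (nat_lit 96517))))
(Tr.nd (nat_lit 96589) (Tr.nd (nat_lit 96557) (Tr.lf (nat_lit 96527))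
(Tr.lf (nat_lit 96557)))
(Tr.nd (nat_lit 96667) (Tr.lf (nat_lit 96589))
(Tr.lf (nat_lit 96667)))))
(Tr.nd (nat_lit 96779) (Tr.nd (nat_lit 96749) (Tr.lf (nat_lit 96731))
(Tr.nd (nat_lit 96769) (Tr.lf (nat_lit 96749))
(Tr.lf (nat_lit 96769))))
(Tr.nd (nat_lit 96797) (Tr.nd (nat_lit 96787) (Tr.lf (nat_lit 96779))
(Tr.lf (nat_lit 96787)))
(Tr.nd (nat_lit 96821) (Tr.lf (nat_lit 96797))
(Tr.lf (nat_lit 96821)))))))))))
(Tr.nd (nat_lit 101141) (Tr.nd (nat_lit 99137) (Tr.nd (nat_lit 98081) (Tr.nd (nat_lit 97459) (Tr.nd (nat_lit 97157) (Tr.nd (nat_lit 97001) (Tr.nd (nat_lit 96911) (Tr.nd (nat_lit 96857) (Tr.lf (nat_lit 96827))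
(Tr.nd (nat_lit 96907) (Tr.lf (nat_lit 96857))
(Tr.lf (nat_lit 96907))))
(Tr.nd (nat_lit 96959) (Tr.lf (nat_lit 96911))
(Tr.nd (nat_lit 96989) (Tr.lf (nat_lit 96959))
(Tr.lf (nat_lit 96989)))))
(Tr.nd (nat_lit 97073) (Tr.nd (nat_lit 97003) (Tr.lf (nat_lit 97001))
(Tr.nd (nat_lit 97007) (Tr.lf (nat_lit 97003))
(Tr.lf (nat_lit 97007))))
(Tr.nd (nat_lit 97117) (Tr.nd (nat_lit 97081) (Tr.lf (nat_lit 97073))
(Tr.lf (nat_lit 97081)))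
(Tr.nd (nat_lit 97127) (Tr.lf (nat_lit 97117))
(Tr.lf (nat_lit 97127))))))
(Tr.nd (nat_lit 97367) (Tr.nd (nat_lit 97283) (Tr.nd (nat_lit 97169) (Tr.lf (nat_lit 97157))
(Tr.nd (nat_lit 97241) (Tr.lf (nat_lit 97169))
(Tr.lf (nat_lit 97241))))
(Tr.nd (nat_lit 97303) (Tr.lf (nat_lit 97283))
(Tr.nd (nat_lit 97327) (Tr.lf (nat_lit 97303))
(Tr.lf (nat_lit 97327)))))
(Tr.nd (nat_lit 97381) (Tr.nd (nat_lit 97373) (Tr.lf (nat_lit 97367))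
(Tr.nd (nat_lit 97379) (Tr.lf (nat_lit 97373))
(Tr.lf (nat_lit 97379))))
(Tr.nd (nat_lit 97429) (Tr.nd (nat_lit 97387) (Tr.lf (nat_lit 97381))
(Tr.lf (nat_lit 97387)))
(Tr.nd (nat_lit 97441) (Tr.lf (nat_lit 97429))
(Tr.lf (nat_lit 97441)))))))
(Tr.nd (nat_lit 97673) (Tr.nd (nat_lit 97553) (Tr.nd (nat_lit 97523) (Tr.nd (nat_lit 97499) (Tr.lf (nat_lit 97459))
(Tr.nd (nat_lit 97511) (Tr.lf (nat_lit 97499))
(Tr.lf (nat_lit 97511))))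
(Tr.nd (nat_lit 97547) (Tr.lf (nat_lit 97523))
(Tr.nd (nat_lit 97549) (Tr.lf (nat_lit 97547))
(Tr.lf (nat_lit 97549)))))
(Tr.nd (nat_lit 97579) (Tr.nd (nat_lit 97561) (Tr.lf (nat_lit 97553))
(Tr.nd (nat_lit 97577) (Tr.lf (nat_lit 97561))
(Tr.lf (nat_lit 97577))))
(Tr.nd (nat_lit 97613) (Tr.nd (nat_lit 97609) (Tr.lf (nat_lit 97579))
(Tr.lf (nat_lit 97609)))
(Tr.nd (nat_lit 97651) (Tr.lf (nat_lit 97613))
(Tr.lf (nat_lit 97651))))))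
(Tr.nd (nat_lit 97849) (Tr.nd (nat_lit 97771) (Tr.nd (nat_lit 97687) (Tr.lf (nat_lit 97673))
(Tr.nd (nat_lit 97729) (Tr.lf (nat_lit 97687))
(Tr.lf (nat_lit 97729))))
(Tr.nd (nat_lit 97841) (Tr.lf (nat_lit 97771))
(Tr.nd (nat_lit 97843) (Tr.lf (nat_lit 97841))
(Tr.lf (nat_lit 97843)))))
(Tr.nd (nat_lit 97879) (Tr.nd (nat_lit 97861) (Tr.lf (nat_lit 97849))
(Tr.nd (nat_lit 97871) (Tr.lf (nat_lit 97861))
(Tr.lf (nat_lit 97871))))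
(Tr.nd (nat_lit 98047) (Tr.nd (nat_lit 97919) (Tr.lf (nat_lit 97879))
(Tr.lf (nat_lit 97919)))
(Tr.nd (nat_lit 98057) (Tr.lf (nat_lit 98047))
(Tr.lf (nat_lit 98057))))))))
(Tr.nd (nat_lit 98689) (Tr.nd (nat_lit 98453) (Tr.nd (nat_lit 98321) (Tr.nd (nat_lit 98227) (Tr.nd (nat_lit 98143) (Tr.lf (nat_lit 98081))
(Tr.nd (nat_lit 98221) (Tr.lf (nat_lit 98143))
(Tr.lf (nat_lit 98221))))
(Tr.nd (nat_lit 98297) (Tr.lf (nat_lit 98227))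
(Tr.nd (nat_lit 98317) (Tr.lf (nat_lit 98297))
(Tr.lf (nat_lit 98317)))))
(Tr.nd (nat_lit 98377) (Tr.nd (nat_lit 98323) (Tr.lf (nat_lit 98321))
(Tr.nd (nat_lit 98347) (Tr.lf (nat_lit 98323))
(Tr.lf (nat_lit 98347))))
(Tr.nd (nat_lit 98419) (Tr.nd (nat_lit 98411) (Tr.lf (nat_lit 98377))
(Tr.lf (nat_lit 98411)))
(Tr.nd (nat_lit 98443) (Tr.lf (nat_lit 98419))
(Tr.lf (nat_lit 98443))))))
(Tr.nd (nat_lit 98519) (Tr.nd (nat_lit 98479) (Tr.nd (nat_lit 98467) (Tr.lf (nat_lit 98453))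
(Tr.nd (nat_lit 98473) (Tr.lf (nat_lit 98467))
(Tr.lf (nat_lit 98473))))
(Tr.nd (nat_lit 98491) (Tr.lf (nat_lit 98479))
(Tr.nd (nat_lit 98507) (Tr.lf (nat_lit 98491))
(Tr.lf (nat_lit 98507)))))
(Tr.nd (nat_lit 98561) (Tr.nd (nat_lit 98533) (Tr.lf (nat_lit 98519))
(Tr.nd (nat_lit 98543) (Tr.lf (nat_lit 98533))
(Tr.lf (nat_lit 98543))))
(Tr.nd (nat_lit 98573) (Tr.nd (nat_lit 98563) (Tr.lf (nat_lit 98561))
(Tr.lf (nat_lit 98563)))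
(Tr.nd (nat_lit 98641) (Tr.lf (nat_lit 98573))
(Tr.lf (nat_lit 98641)))))))
(Tr.nd (nat_lit 98927) (Tr.nd (nat_lit 98849) (Tr.nd (nat_lit 98717) (Tr.nd (nat_lit 98711) (Tr.lf (nat_lit 98689))
(Tr.nd (nat_lit 98713) (Tr.lf (nat_lit 98711))
(Tr.lf (nat_lit 98713))))
(Tr.nd (nat_lit 98773) (Tr.lf (nat_lit 98717))
(Tr.nd (nat_lit 98837) (Tr.lf (nat_lit 98773))
(Tr.lf (nat_lit 98837)))))
(Tr.nd (nat_lit 98893) (Tr.nd (nat_lit 98873) (Tr.lf (nat_lit 98849))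
(Tr.nd (nat_lit 98887) (Tr.lf (nat_lit 98873))
(Tr.lf (nat_lit 98887))))
(Tr.nd (nat_lit 98899) (Tr.nd (nat_lit 98897) (Tr.lf (nat_lit 98893))
(Tr.lf (nat_lit 98897)))
(Tr.nd (nat_lit 98911) (Tr.lf (nat_lit 98899))
(Tr.lf (nat_lit 98911))))))
(Tr.nd (nat_lit 99023) (Tr.nd (nat_lit 98981) (Tr.nd (nat_lit 98939) (Tr.lf (nat_lit 98927))
(Tr.nd (nat_lit 98963) (Tr.lf (nat_lit 98939))
(Tr.lf (nat_lit 98963))))
(Tr.nd (nat_lit 98999) (Tr.nd (nat_lit 98993) (Tr.lf (nat_lit 98981))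
(Tr.lf (nat_lit 98993)))
(Tr.nd (nat_lit 99013) (Tr.lf (nat_lit 98999))
(Tr.lf (nat_lit 99013)))))
(Tr.nd (nat_lit 99079) (Tr.nd (nat_lit 99041) (Tr.lf (nat_lit 99023))
(Tr.nd (nat_lit 99053) (Tr.lf (nat_lit 99041))
(Tr.lf (nat_lit 99053))))
(Tr.nd (nat_lit 99103) (Tr.nd (nat_lit 99083) (Tr.lf (nat_lit 99079))
(Tr.lf (nat_lit 99083)))
(Tr.nd (nat_lit 99133) (Tr.lf (nat_lit 99103))
(Tr.lf (nat_lit 99133)))))))))
(Tr.nd (nat_lit 100057) (Tr.nd (nat_lit 99607) (Tr.nd (nat_lit 99371) (Tr.nd (nat_lit 99241) (Tr.nd (nat_lit 99191) (Tr.nd (nat_lit 99139) (Tr.lf (nat_lit 99137))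
(Tr.nd (nat_lit 99149) (Tr.lf (nat_lit 99139))
(Tr.lf (nat_lit 99149))))
(Tr.nd (nat_lit 99223) (Tr.lf (nat_lit 99191))
(Tr.nd (nat_lit 99233) (Tr.lf (nat_lit 99223))
(Tr.lf (nat_lit 99233)))))
(Tr.nd (nat_lit 99277) (Tr.nd (nat_lit 99251) (Tr.lf (nat_lit 99241))
(Tr.nd (nat_lit 99257) (Tr.lf (nat_lit 99251))
(Tr.lf (nat_lit 99257))))
(Tr.nd (nat_lit 99349) (Tr.nd (nat_lit 99347) (Tr.lf (nat_lit 99277))
(Tr.lf (nat_lit 99347)))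
(Tr.nd (nat_lit 99367) (Tr.lf (nat_lit 99349))
(Tr.lf (nat_lit 99367))))))
(Tr.nd (nat_lit 99469) (Tr.nd (nat_lit 99409) (Tr.nd (nat_lit 99377) (Tr.lf (nat_lit 99371))
(Tr.nd (nat_lit 99391) (Tr.lf (nat_lit 99377))
(Tr.lf (nat_lit 99391))))
(Tr.nd (nat_lit 99431) (Tr.lf (nat_lit 99409))
(Tr.nd (nat_lit 99439) (Tr.lf (nat_lit 99431))
(Tr.lf (nat_lit 99439)))))
(Tr.nd (nat_lit 99559) (Tr.nd (nat_lit 99487) (Tr.lf (nat_lit 99469))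
(Tr.nd (nat_lit 99523) (Tr.lf (nat_lit 99487))
(Tr.lf (nat_lit 99523))))
(Tr.nd (nat_lit 99571) (Tr.nd (nat_lit 99563) (Tr.lf (nat_lit 99559))
(Tr.lf (nat_lit 99563)))
(Tr.nd (nat_lit 99581) (Tr.lf (nat_lit 99571))
(Tr.lf (nat_lit 99581)))))))
(Tr.nd (nat_lit 99859) (Tr.nd (nat_lit 99721) (Tr.nd (nat_lit 99689) (Tr.nd (nat_lit 99623) (Tr.lf (nat_lit 99607))
(Tr.nd (nat_lit 99661) (Tr.lf (nat_lit 99623))
(Tr.lf (nat_lit 99661))))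
(Tr.nd (nat_lit 99709) (Tr.lf (nat_lit 99689))
(Tr.nd (nat_lit 99713) (Tr.lf (nat_lit 99709))
(Tr.lf (nat_lit 99713)))))
(Tr.nd (nat_lit 99817) (Tr.nd (nat_lit 99733) (Tr.lf (nat_lit 99721))
(Tr.nd (nat_lit 99767) (Tr.lf (nat_lit 99733))
(Tr.lf (nat_lit 99767))))
(Tr.nd (nat_lit 99829) (Tr.nd (nat_lit 99823) (Tr.lf (nat_lit 99817))
(Tr.lf (nat_lit 99823)))
(Tr.nd (nat_lit 99833) (Tr.lf (nat_lit 99829))
(Tr.lf (nat_lit 99833))))))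
(Tr.nd (nat_lit 99929) (Tr.nd (nat_lit 99901) (Tr.nd (nat_lit 99871) (Tr.lf (nat_lit 99859))
(Tr.nd (nat_lit 99881) (Tr.lf (nat_lit 99871))
(Tr.lf (nat_lit 99881))))
(Tr.nd (nat_lit 99907) (Tr.lf (nat_lit 99901))
(Tr.nd (nat_lit 99923) (Tr.lf (nat_lit 99907))
(Tr.lf (nat_lit 99923)))))
(Tr.nd (nat_lit 99989) (Tr.nd (nat_lit 99961) (Tr.lf (nat_lit 99929))
(Tr.nd (nat_lit 99971) (Tr.lf (nat_lit 99961))
(Tr.lf (nat_lit 99971))))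
(Tr.nd (nat_lit 100019) (Tr.nd (nat_lit 99991) (Tr.lf (nat_lit 99989))
(Tr.lf (nat_lit 99991)))
(Tr.nd (nat_lit 100049) (Tr.lf (nat_lit 100019))
(Tr.lf (nat_lit 100049))))))))
(Tr.nd (nat_lit 100591) (Tr.nd (nat_lit 100363) (Tr.nd (nat_lit 100207) (Tr.nd (nat_lit 100169) (Tr.nd (nat_lit 100069) (Tr.lf (nat_lit 100057))
(Tr.nd (nat_lit 100153) (Tr.lf (nat_lit 100069))
(Tr.lf (nat_lit 100153))))
(Tr.nd (nat_lit 100183) (Tr.lf (nat_lit 100169))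
(Tr.nd (nat_lit 100193) (Tr.lf (nat_lit 100183))
(Tr.lf (nat_lit 100193)))))
(Tr.nd (nat_lit 100279) (Tr.nd (nat_lit 100237) (Tr.lf (nat_lit 100207))
(Tr.nd (nat_lit 100271) (Tr.lf (nat_lit 100237))
(Tr.lf (nat_lit 100271))))
(Tr.nd (nat_lit 100333) (Tr.nd (nat_lit 100313) (Tr.lf (nat_lit 100279))
(Tr.lf (nat_lit 100313)))
(Tr.nd (nat_lit 100357) (Tr.lf (nat_lit 100333))
(Tr.lf (nat_lit 100357))))))
(Tr.nd (nat_lit 100501) (Tr.nd (nat_lit 100393) (Tr.nd (nat_lit 100379) (Tr.lf (nat_lit 100363))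
(Tr.nd (nat_lit 100391) (Tr.lf (nat_lit 100379))
(Tr.lf (nat_lit 100391))))
(Tr.nd (nat_lit 100411) (Tr.lf (nat_lit 100393))
(Tr.nd (nat_lit 100483) (Tr.lf (nat_lit 100411))
(Tr.lf (nat_lit 100483)))))
(Tr.nd (nat_lit 100523) (Tr.nd (nat_lit 100517) (Tr.lf (nat_lit 100501))
(Tr.nd (nat_lit 100519) (Tr.lf (nat_lit 100517))
(Tr.lf (nat_lit 100519))))
(Tr.nd (nat_lit 100547) (Tr.nd (nat_lit 100537) (Tr.lf (nat_lit 100523))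
(Tr.lf (nat_lit 100537)))
(Tr.nd (nat_lit 100549) (Tr.lf (nat_lit 100547))
(Tr.lf (nat_lit 100549)))))))
(Tr.nd (nat_lit 100931) (Tr.nd (nat_lit 100787) (Tr.nd (nat_lit 100733) (Tr.nd (nat_lit 100669) (Tr.lf (nat_lit 100591))
(Tr.nd (nat_lit 100693) (Tr.lf (nat_lit 100669))
(Tr.lf (nat_lit 100693))))
(Tr.nd (nat_lit 100747) (Tr.lf (nat_lit 100733))
(Tr.nd (nat_lit 100769) (Tr.lf (nat_lit 100747))
(Tr.lf (nat_lit 100769)))))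
(Tr.nd (nat_lit 100823) (Tr.nd (nat_lit 100801) (Tr.lf (nat_lit 100787))
(Tr.nd (nat_lit 100811) (Tr.lf (nat_lit 100801))
(Tr.lf (nat_lit 100811))))
(Tr.nd (nat_lit 100913) (Tr.nd (nat_lit 100847) (Tr.lf (nat_lit 100823))
(Tr.lf (nat_lit 100847)))
(Tr.nd (nat_lit 100927) (Tr.lf (nat_lit 100913))
(Tr.lf (nat_lit 100927))))))
(Tr.nd (nat_lit 101009) (Tr.nd (nat_lit 100957) (Tr.nd (nat_lit 100937) (Tr.lf (nat_lit 100931))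
(Tr.nd (nat_lit 100943) (Tr.lf (nat_lit 100937))
(Tr.lf (nat_lit 100943))))
(Tr.nd (nat_lit 100987) (Tr.nd (nat_lit 100981) (Tr.lf (nat_lit 100957))
(Tr.lf (nat_lit 100981)))
(Tr.nd (nat_lit 100999) (Tr.lf (nat_lit 100987))
(Tr.lf (nat_lit 100999)))))
(Tr.nd (nat_lit 101107) (Tr.nd (nat_lit 101051) (Tr.lf (nat_lit 101009))
(Tr.nd (nat_lit 101089) (Tr.lf (nat_lit 101051))
(Tr.lf (nat_lit 101089))))
(Tr.nd (nat_lit 101113) (Tr.nd (nat_lit 101111) (Tr.lf (nat_lit 101107))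
(Tr.lf (nat_lit 101111)))
(Tr.nd (nat_lit 101117) (Tr.lf (nat_lit 101113))
(Tr.lf (nat_lit 101117))))))))))
(Tr.nd (nat_lit 103291) (Tr.nd (nat_lit 102077) (Tr.nd (nat_lit 101641) (Tr.nd (nat_lit 101377) (Tr.nd (nat_lit 101209) (Tr.nd (nat_lit 101183) (Tr.nd (nat_lit 101161) (Tr.lf (nat_lit 101141))
(Tr.nd (nat_lit 101173) (Tr.lf (nat_lit 101161))
(Tr.lf (nat_lit 101173))))
(Tr.nd (nat_lit 101197) (Tr.lf (nat_lit 101183))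
(Tr.nd (nat_lit 101207) (Tr.lf (nat_lit 101197))
(Tr.lf (nat_lit 101207)))))
(Tr.nd (nat_lit 101281) (Tr.nd (nat_lit 101267) (Tr.lf (nat_lit 101209))
(Tr.nd (nat_lit 101273) (Tr.lf (nat_lit 101267))
(Tr.lf (nat_lit 101273))))
(Tr.nd (nat_lit 101333) (Tr.nd (nat_lit 101287) (Tr.lf (nat_lit 101281))
(Tr.lf (nat_lit 101287)))
(Tr.nd (nat_lit 101363) (Tr.lf (nat_lit 101333))
(Tr.lf (nat_lit 101363))))))
(Tr.nd (nat_lit 101533) (Tr.nd (nat_lit 101483) (Tr.nd (nat_lit 101399) (Tr.lf (nat_lit 101377))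
(Tr.nd (nat_lit 101477) (Tr.lf (nat_lit 101399))
(Tr.lf (nat_lit 101477))))
(Tr.nd (nat_lit 101501) (Tr.lf (nat_lit 101483))
(Tr.nd (nat_lit 101527) (Tr.lf (nat_lit 101501))
(Tr.lf (nat_lit 101527)))))
(Tr.nd (nat_lit 101573) (Tr.nd (nat_lit 101537) (Tr.lf (nat_lit 101533))
(Tr.nd (nat_lit 101561) (Tr.lf (nat_lit 101537))
(Tr.lf (nat_lit 101561))))
(Tr.nd (nat_lit 101599) (Tr.nd (nat_lit 101581) (Tr.lf (nat_lit 101573))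
(Tr.lf (nat_lit 101581)))
(Tr.nd (nat_lit 101603) (Tr.lf (nat_lit 101599))
(Tr.lf (nat_lit 101603)))))))
(Tr.nd (nat_lit 101869) (Tr.nd (nat_lit 101749) (Tr.nd (nat_lit 101693) (Tr.nd (nat_lit 101653) (Tr.lf (nat_lit 101641))
(Tr.nd (nat_lit 101663) (Tr.lf (nat_lit 101653))
(Tr.lf (nat_lit 101663))))
(Tr.nd (nat_lit 101723) (Tr.lf (nat_lit 101693))
(Tr.nd (nat_lit 101737) (Tr.lf (nat_lit 101723))
(Tr.lf (nat_lit 101737)))))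
(Tr.nd (nat_lit 101797) (Tr.nd (nat_lit 101771) (Tr.lf (nat_lit 101749))
(Tr.nd (nat_lit 101789) (Tr.lf (nat_lit 101771))
(Tr.lf (nat_lit 101789))))
(Tr.nd (nat_lit 101833) (Tr.nd (nat_lit 101807) (Tr.lf (nat_lit 101797))
(Tr.lf (nat_lit 101807)))
(Tr.nd (nat_lit 101863) (Tr.lf (nat_lit 101833))
(Tr.lf (nat_lit 101863))))))
(Tr.nd (nat_lit 101977) (Tr.nd (nat_lit 101921) (Tr.nd (nat_lit 101873) (Tr.lf (nat_lit 101869))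
(Tr.nd (nat_lit 101891) (Tr.lf (nat_lit 101873))
(Tr.lf (nat_lit 101891))))
(Tr.nd (nat_lit 101957) (Tr.lf (nat_lit 101921))
(Tr.nd (nat_lit 101963) (Tr.lf (nat_lit 101957))
(Tr.lf (nat_lit 101963)))))
(Tr.nd (nat_lit 102031) (Tr.nd (nat_lit 102001) (Tr.lf (nat_lit 101977))
(Tr.nd (nat_lit 102023) (Tr.lf (nat_lit 102001))
(Tr.lf (nat_lit 102023))))
(Tr.nd (nat_lit 102061) (Tr.nd (nat_lit 102043) (Tr.lf (nat_lit 102031))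
(Tr.lf (nat_lit 102043)))
(Tr.nd (nat_lit 102071) (Tr.lf (nat_lit 102061))
(Tr.lf (nat_lit 102071))))))))
(Tr.nd (nat_lit 102653) (Tr.nd (nat_lit 102359) (Tr.nd (nat_lit 102233) (Tr.nd (nat_lit 102107) (Tr.nd (nat_lit 102079) (Tr.lf (nat_lit 102077))
(Tr.nd (nat_lit 102101) (Tr.lf (nat_lit 102079))
(Tr.lf (nat_lit 102101))))
(Tr.nd (nat_lit 102149) (Tr.lf (nat_lit 102107))
(Tr.nd (nat_lit 102197) (Tr.lf (nat_lit 102149))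
(Tr.lf (nat_lit 102197)))))
(Tr.nd (nat_lit 102259) (Tr.nd (nat_lit 102251) (Tr.lf (nat_lit 102233))
(Tr.nd (nat_lit 102253) (Tr.lf (nat_lit 102251))
(Tr.lf (nat_lit 102253))))
(Tr.nd (nat_lit 102301) (Tr.nd (nat_lit 102293) (Tr.lf (nat_lit 102259))
(Tr.lf (nat_lit 102293)))
(Tr.nd (nat_lit 102337) (Tr.lf (nat_lit 102301))
(Tr.lf (nat_lit 102337))))))
(Tr.nd (nat_lit 102481) (Tr.nd (nat_lit 102433) (Tr.nd (nat_lit 102397) (Tr.lf (nat_lit 102359))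
(Tr.nd (nat_lit 102409) (Tr.lf (nat_lit 102397))
(Tr.lf (nat_lit 102409))))
(Tr.nd (nat_lit 102451) (Tr.lf (nat_lit 102433))
(Tr.nd (nat_lit 102461) (Tr.lf (nat_lit 102451))
(Tr.lf (nat_lit 102461)))))
(Tr.nd (nat_lit 102539) (Tr.nd (nat_lit 102503) (Tr.lf (nat_lit 102481))
(Tr.nd (nat_lit 102523) (Tr.lf (nat_lit 102503))
(Tr.lf (nat_lit 102523))))
(Tr.nd (nat_lit 102607) (Tr.nd (nat_lit 102551) (Tr.lf (nat_lit 102539))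
(Tr.lf (nat_lit 102551)))
(Tr.nd (nat_lit 102647) (Tr.lf (nat_lit 102607))
(Tr.lf (nat_lit 102647)))))))
(Tr.nd (nat_lit 102967) (Tr.nd (nat_lit 102797) (Tr.nd (nat_lit 102679) (Tr.nd (nat_lit 102667) (Tr.lf (nat_lit 102653))
(Tr.nd (nat_lit 102673) (Tr.lf (nat_lit 102667))
(Tr.lf (nat_lit 102673))))
(Tr.nd (nat_lit 102701) (Tr.lf (nat_lit 102679))
(Tr.nd (nat_lit 102793) (Tr.lf (nat_lit 102701))
(Tr.lf (nat_lit 102793)))))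
(Tr.nd (nat_lit 102841) (Tr.nd (nat_lit 102811) (Tr.lf (nat_lit 102797))
(Tr.nd (nat_lit 102829) (Tr.lf (nat_lit 102811))
(Tr.lf (nat_lit 102829))))
(Tr.nd (nat_lit 102913) (Tr.nd (nat_lit 102881) (Tr.lf (nat_lit 102841))
(Tr.lf (nat_lit 102881)))
(Tr.nd (nat_lit 102931) (Tr.lf (nat_lit 102913))
(Tr.lf (nat_lit 102931))))))
(Tr.nd (nat_lit 103087) (Tr.nd (nat_lit 103049) (Tr.nd (nat_lit 102983) (Tr.lf (nat_lit 102967))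
(Tr.nd (nat_lit 103001) (Tr.lf (nat_lit 102983))
(Tr.lf (nat_lit 103001))))
(Tr.nd (nat_lit 103069) (Tr.nd (nat_lit 103067) (Tr.lf (nat_lit 103049))
(Tr.lf (nat_lit 103067)))
(Tr.nd (nat_lit 103079) (Tr.lf (nat_lit 103069))
(Tr.lf (nat_lit 103079)))))
(Tr.nd (nat_lit 103141) (Tr.nd (nat_lit 103091) (Tr.lf (nat_lit 103087))
(Tr.nd (nat_lit 103093) (Tr.lf (nat_lit 103091))
(Tr.lf (nat_lit 103093))))
(Tr.nd (nat_lit 103177) (Tr.nd (nat_lit 103171) (Tr.lf (nat_lit 103141))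
(Tr.lf (nat_lit 103171)))
(Tr.nd (nat_lit 103217) (Tr.lf (nat_lit 103177))
(Tr.lf (nat_lit 103217)))))))))
(Tr.nd (nat_lit 104287) (Tr.nd (nat_lit 103813) (Tr.nd (nat_lit 103549) (Tr.nd (nat_lit 103409) (Tr.nd (nat_lit 103349) (Tr.nd (nat_lit 103307) (Tr.lf (nat_lit 103291))
(Tr.nd (nat_lit 103319) (Tr.lf (nat_lit 103307))
(Tr.lf (nat_lit 103319))))
(Tr.nd (nat_lit 103357) (Tr.lf (nat_lit 103349))
(Tr.nd (nat_lit 103393) (Tr.lf (nat_lit 103357))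
(Tr.lf (nat_lit 103393)))))
(Tr.nd (nat_lit 103457) (Tr.nd (nat_lit 103421) (Tr.lf (nat_lit 103409))
(Tr.nd (nat_lit 103423) (Tr.lf (nat_lit 103421))
(Tr.lf (nat_lit 103423))))
(Tr.nd (nat_lit 103511) (Tr.nd (nat_lit 103471) (Tr.lf (nat_lit 103457))
(Tr.lf (nat_lit 103471)))
(Tr.nd (nat_lit 103529) (Tr.lf (nat_lit 103511))
(Tr.lf (nat_lit 103529))))))
(Tr.nd (nat_lit 103651) (Tr.nd (nat_lit 103591) (Tr.nd (nat_lit 103553) (Tr.lf (nat_lit 103549))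
(Tr.nd (nat_lit 103577) (Tr.lf (nat_lit 103553))
(Tr.lf (nat_lit 103577))))
(Tr.nd (nat_lit 103619) (Tr.lf (nat_lit 103591))
(Tr.nd (nat_lit 103643) (Tr.lf (nat_lit 103619))
(Tr.lf (nat_lit 103643)))))
(Tr.nd (nat_lit 103687) (Tr.nd (nat_lit 103657) (Tr.lf (nat_lit 103651))
(Tr.nd (nat_lit 103681) (Tr.lf (nat_lit 103657))
(Tr.lf (nat_lit 103681))))
(Tr.nd (nat_lit 103769) (Tr.nd (nat_lit 103699) (Tr.lf (nat_lit 103687))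
(Tr.lf (nat_lit 103699)))
(Tr.nd (nat_lit 103787) (Tr.lf (nat_lit 103769))
(Tr.lf (nat_lit 103787)))))))
(Tr.nd (nat_lit 104059) (Tr.nd (nat_lit 103979) (Tr.nd (nat_lit 103903) (Tr.nd (nat_lit 103841) (Tr.lf (nat_lit 103813))
(Tr.nd (nat_lit 103889) (Tr.lf (nat_lit 103841))
(Tr.lf (nat_lit 103889))))
(Tr.nd (nat_lit 103913) (Tr.lf (nat_lit 103903))
(Tr.nd (nat_lit 103969) (Tr.lf (nat_lit 103913))
(Tr.lf (nat_lit 103969)))))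
(Tr.nd (nat_lit 104003) (Tr.nd (nat_lit 103991) (Tr.lf (nat_lit 103979))
(Tr.nd (nat_lit 103993) (Tr.lf (nat_lit 103991))
(Tr.lf (nat_lit 103993))))
(Tr.nd (nat_lit 104033) (Tr.nd (nat_lit 104009) (Tr.lf (nat_lit 104003))
(Tr.lf (nat_lit 104009)))
(Tr.nd (nat_lit 104053) (Tr.lf (nat_lit 104033))
(Tr.lf (nat_lit 104053))))))
(Tr.nd (nat_lit 104173) (Tr.nd (nat_lit 104147) (Tr.nd (nat_lit 104087) (Tr.lf (nat_lit 104059))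
(Tr.nd (nat_lit 104119) (Tr.lf (nat_lit 104087))
(Tr.lf (nat_lit 104119))))
(Tr.nd (nat_lit 104149) (Tr.lf (nat_lit 104147))
(Tr.nd (nat_lit 104161) (Tr.lf (nat_lit 104149))
(Tr.lf (nat_lit 104161)))))
(Tr.nd (nat_lit 104231) (Tr.nd (nat_lit 104179) (Tr.lf (nat_lit 104173))
(Tr.nd (nat_lit 104183) (Tr.lf (nat_lit 104179))
(Tr.lf (nat_lit 104183))))
(Tr.nd (nat_lit 104243) (Tr.nd (nat_lit 104239) (Tr.lf (nat_lit 104231))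
(Tr.lf (nat_lit 104239)))
(Tr.nd (nat_lit 104281) (Tr.lf (nat_lit 104243))
(Tr.lf (nat_lit 104281))))))))
(Tr.nd (nat_lit 104773) (Tr.nd (nat_lit 104549) (Tr.nd (nat_lit 104381) (Tr.nd (nat_lit 104323) (Tr.nd (nat_lit 104297) (Tr.lf (nat_lit 104287))
(Tr.nd (nat_lit 104311) (Tr.lf (nat_lit 104297))
(Tr.lf (nat_lit 104311))))
(Tr.nd (nat_lit 104327) (Tr.lf (nat_lit 104323))
(Tr.nd (nat_lit 104369) (Tr.lf (nat_lit 104327))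
(Tr.lf (nat_lit 104369)))))
(Tr.nd (nat_lit 104417) (Tr.nd (nat_lit 104393) (Tr.lf (nat_lit 104381))
(Tr.nd (nat_lit 104399) (Tr.lf (nat_lit 104393))
(Tr.lf (nat_lit 104399))))
(Tr.nd (nat_lit 104479) (Tr.nd (nat_lit 104459) (Tr.lf (nat_lit 104417))
(Tr.lf (nat_lit 104459)))
(Tr.nd (nat_lit 104543) (Tr.lf (nat_lit 104479))
(Tr.lf (nat_lit 104543))))))
(Tr.nd (nat_lit 104681) (Tr.nd (nat_lit 104597) (Tr.nd (nat_lit 104561) (Tr.lf (nat_lit 104549))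
(Tr.nd (nat_lit 104579) (Tr.lf (nat_lit 104561))
(Tr.lf (nat_lit 104579))))
(Tr.nd (nat_lit 104623) (Tr.lf (nat_lit 104597))
(Tr.nd (nat_lit 104659) (Tr.lf (nat_lit 104623))
(Tr.lf (nat_lit 104659)))))
(Tr.nd (nat_lit 104711) (Tr.nd (nat_lit 104683) (Tr.lf (nat_lit 104681))
(Tr.nd (nat_lit 104707) (Tr.lf (nat_lit 104683))
(Tr.lf (nat_lit 104707))))
(Tr.nd (nat_lit 104759) (Tr.nd (nat_lit 104723) (Tr.lf (nat_lit 104711))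
(Tr.lf (nat_lit 104723)))
(Tr.nd (nat_lit 104761) (Tr.lf (nat_lit 104759))
(Tr.lf (nat_lit 104761)))))))
(Tr.nd (nat_lit 104987) (Tr.nd (nat_lit 104851) (Tr.nd (nat_lit 104827) (Tr.nd (nat_lit 104779) (Tr.lf (nat_lit 104773))
(Tr.nd (nat_lit 104803) (Tr.lf (nat_lit 104779))
(Tr.lf (nat_lit 104803))))
(Tr.nd (nat_lit 104831) (Tr.lf (nat_lit 104827))
(Tr.nd (nat_lit 104849) (Tr.lf (nat_lit 104831))
(Tr.lf (nat_lit 104849)))))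
(Tr.nd (nat_lit 104911) (Tr.nd (nat_lit 104869) (Tr.lf (nat_lit 104851))
(Tr.nd (nat_lit 104891) (Tr.lf (nat_lit 104869))
(Tr.lf (nat_lit 104891))))
(Tr.nd (nat_lit 104953) (Tr.nd (nat_lit 104947) (Tr.lf (nat_lit 104911))
(Tr.lf (nat_lit 104947)))
(Tr.nd (nat_lit 104959) (Tr.lf (nat_lit 104953))
(Tr.lf (nat_lit 104959))))))
(Tr.nd (nat_lit 105199) (Tr.nd (nat_lit 105037) (Tr.nd (nat_lit 105019) (Tr.lf (nat_lit 104987))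
(Tr.nd (nat_lit 105023) (Tr.lf (nat_lit 105019))
(Tr.lf (nat_lit 105023))))
(Tr.nd (nat_lit 105137) (Tr.nd (nat_lit 105107) (Tr.lf (nat_lit 105037))
(Tr.lf (nat_lit 105107)))
(Tr.nd (nat_lit 105143) (Tr.lf (nat_lit 105137))
(Tr.lf (nat_lit 105143)))))
(Tr.nd (nat_lit 105263) (Tr.nd (nat_lit 105227) (Tr.lf (nat_lit 105199))
(Tr.nd (nat_lit 105239) (Tr.lf (nat_lit 105227))
(Tr.lf (nat_lit 105239))))
(Tr.nd (nat_lit 105323) (Tr.nd (nat_lit 105277) (Tr.lf (nat_lit 105263))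
(Tr.lf (nat_lit 105277)))
(Tr.nd (nat_lit 105331) (Tr.lf (nat_lit 105323))
(Tr.lf (nat_lit 105331)))))))))))))
noncomputable def HP2 : ℕ → ℕ := fun q => Nat.add (Nat.mod HP2t q) (nat_lit 65536)
noncomputable def HR2 : ℕ → ℕ := fun q => (Nat.mod HR2t q)
noncomputable def HW2 : ℕ → ℕ := fun q => (Nat.mod HW2t q)
theorem tree2 : Tr.all (treeP LB2 stp HP2 HR2 HW2 WL2 (fun q => Nat.beq (nat_lit 87211) q)) LB2 = true := by decide +kernel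
theorem sub2 : Tr.all (mem L) LB2 = true := by decide +kernel
theorem bst2 : bst LB2 65536 131072 = true := by decide +kernel
theorem size2 : size LB2 = 1680 := by decide +kernel
noncomputable def WL3 : List (List Col) := [[TCG_Fi22.Col.d, TCG_Fi22.Col.e, TCG_Fi22.Col.d, TCG_Fi22.Col.b, TCG_Fi22.Col.a, TCG_Fi22.Col.h, TCG_Fi22.Col.d, TCG_Fi22.Col.c, TCG_Fi22.Col.b, TCG_Fi22.Col.a, TCG_Fi22.Col.f, TCG_Fi22.Col.e, TCG_Fi22.Col.h, TCG_Fi22.Col.d, TCG_Fi22.Col.c, TCG_Fi22.Col.f, TCG_Fi22.Col.e, TCG_Fi22.Col.h, TCG_Fi22.Col.d, TCG_Fi22.Col.c, TCG_Fi22.Col.b, TCG_Fi22.Col.a, TCG_Fi22.Col.e, TCG_Fi22.Col.h, TCG_Fi22.Col.d, TCG_Fi22.Col.c, TCG_Fi22.Col.b, TCG_Fi22.Col.c, TCG_Fi22.Col.e, TCG_Fi22.Col.f, TCG_Fi22.Col.h, TCG_Fi22.Col.d, TCG_Fi22.Col.e, TCG_Fi22.Col.d, TCG_Fi22.Col.h, TCG_Fi22.Col.d, TCG_Fi22.Col.e], [TCG_Fi22.Col.b, TCG_Fi22.Col.a,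 TCG_Fi22.Col.d, TCG_Fi22.Col.c, TCG_Fi22.Col.b, TCG_Fi22.Col.c, TCG_Fi22.Col.e, TCG_Fi22.Col.f, TCG_Fi22.Col.i, TCG_Fi22.Col.h, TCG_Fi22.Col.d, TCG_Fi22.Col.a, TCG_Fi22.Col.e, TCG_Fi22.Col.i, TCG_Fi22.Col.h, TCG_Fi22.Col.d, TCG_Fi22.Col.c, TCG_Fi22.Col.b, TCG_Fi22.Col.a, TCG_Fi22.Col.d, TCG_Fi22.Col.e, TCG_Fi22.Col.h, TCG_Fi22.Col.d, TCG_Fi22.Col.c, TCG_Fi22.Col.b, TCG_Fi22.Col.a, TCG_Fi22.Col.g, TCG_Fi22.Col.f, TCG_Fi22.Col.e, TCG_Fi22.Col.i, TCG_Fi22.Col.h, TCG_Fi22.Col.d, TCG_Fi22.Col.f, TCG_Fi22.Col.i, TCG_Fi22.Col.f, TCG_Fi22.Col.e, TCG_Fi22.Col.g, TCG_Fi22.Col.h, TCG_Fi22.Col.i, TCG_Fi22.Col.f, TCG_Fi22.Col.h], [TCG_Fi22.Col.e, TCG_Fi22.Col.f, TCG_Fi22.Col.e, TCG_Fi22.Col.a, TCG_Fi22.Col.c, TCG_Fi22.Col.d, TCG_Fi22.Col.c, TCG_Fi22.Col.e, TCG_Fi22.Col.g, TCG_Fi22.Col.b, TCG_Fi22.Col.a, TCG_Fi22.Col.d, TCG_Fi22.Col.c, TCG_Fi22.Col.b,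 TCG_Fi22.Col.i, TCG_Fi22.Col.h, TCG_Fi22.Col.d, TCG_Fi22.Col.c, TCG_Fi22.Col.f, TCG_Fi22.Col.e, TCG_Fi22.Col.i, TCG_Fi22.Col.h, TCG_Fi22.Col.d, TCG_Fi22.Col.c, TCG_Fi22.Col.b, TCG_Fi22.Col.a, TCG_Fi22.Col.e, TCG_Fi22.Col.h, TCG_Fi22.Col.d, TCG_Fi22.Col.c, TCG_Fi22.Col.b, TCG_Fi22.Col.d, TCG_Fi22.Col.c, TCG_Fi22.Col.e, TCG_Fi22.Col.d, TCG_Fi22.Col.c, TCG_Fi22.Col.i, TCG_Fi22.Col.a, TCG_Fi22.Col.f, TCG_Fi22.Col.e, TCG_Fi22.Col.g, TCG_Fi22.Col.a, TCG_Fi22.Col.f, TCG_Fi22.Col.e, TCG_Fi22.Col.f, TCG_Fi22.Col.e]]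
noncomputable def HP3t : ℕ := (nat_lit 0xbb638d70e36f94ca1a6b8eeec09b21734aab1addb26e954836b645e63bac1f323f6f3cb981856f4bf8ab930da19421cc769309107a6685ad11e356ff6c8f4973c44025eb87100330f741c5d163a44f9f952821ec58a202b88a72cff0df2a64f76744dbf9d9b852c9b1d7c0a3777fda174651026d08cf4a48d03cf7ecc124dfc5dfe3e4b1cabf25a4594c3a8993b4a7de82e56809612bc3e517ecaf59bb2c6557366ff75353474a15082a4c7ff35eb5a12ccd6781470d123191f44b9a38e68e66c2e3fffadd760e7b786f3b326adaa9b4e95a159c2ffc55bd4ebc0ce8f61)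
noncomputable def HR3t : ℕ := (nat_lit 0x8d0a62b87c1b46121cc8f69a8c3e50c61ffe0bb2431ede91bb96b49b9be61151add9a8f73fea826834257cc3e1bcd58ec6755c7282654300b16e2afc4c7668bc0bf431baa02f7134c8f29e5bd6181d5def333eb8e2c882dad48f545ffb3fbc4a0b01535c1739b34905d45f389164fe3390a26251f2e2ba8e0ce7e488b7abac4915fea3a343febcc936633d3192677c61a6c6b31fad85cfd2dd3badfab38da294d75478b6da7553408d0e599a0391037226698409cc45a45da1a02fcf4e00657c0bc57dd122356ef03df714a2835c815591da7c459f77cab17d4adc8a37)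
noncomputable def HW3t : ℕ := (nat_lit 0x6cf60438c60e0a784463954add8c9eaabf6fdc5cd85ad89300b3e7a19e97f605ac56a4847880adb15dc9059a32b0ce0ac19937d7cd1a78bdb70c9845ba656d31162f99b4ee49fabd77dd36e856f6bbff5ed778b0178d3df612129820844e037d513ba9f0067b373f4f79cd64e10796f401b1b01cc3fc21ec97e17a34fa91185be40a0deff5860f547200ce3e56bf6448b5a260bb61054e813f6de51b433edd0f79938929b1ade303000e5ab0daf8b0718e59d111bd22a035f7feb3a0122d0de0084b3868aef0fe92c28958acd097ac78e6a598091de8b5ef63c4df14f8d)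
noncomputable def LB3 : Tr ℕ := (Tr.nd (nat_lit 88667) (Tr.nd (nat_lit 78427) (Tr.nd (nat_lit 72109) (Tr.nd (nat_lit 69019) (Tr.nd (nat_lit 67901) (Tr.nd (nat_lit 66601) (Tr.lf (nat_lit 65551))
(Tr.nd (nat_lit 67369) (Tr.lf (nat_lit 66601))
(Tr.lf (nat_lit 67369))))
(Tr.nd (nat_lit 68281) (Tr.lf (nat_lit 67901))
(Tr.nd (nat_lit 68669) (Tr.lf (nat_lit 68281))
(Tr.lf (nat_lit 68669)))))
(Tr.nd (nat_lit 71023) (Tr.nd (nat_lit 70223) (Tr.lf (nat_lit 69019))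
(Tr.nd (nat_lit 70921) (Tr.lf (nat_lit 70223))
(Tr.lf (nat_lit 70921))))
(Tr.nd (nat_lit 71963) (Tr.nd (nat_lit 71209) (Tr.lf (nat_lit 71023))
(Tr.lf (nat_lit 71209)))
(Tr.nd (nat_lit 72019) (Tr.lf (nat_lit 71963))
(Tr.lf (nat_lit 72019))))))
(Tr.nd (nat_lit 76519) (Tr.nd (nat_lit 74017) (Tr.nd (nat_lit 72533) (Tr.lf (nat_lit 72109))
(Tr.nd (nat_lit 73943) (Tr.lf (nat_lit 72533))
(Tr.lf (nat_lit 73943))))
(Tr.nd (nat_lit 75209) (Tr.nd (nat_lit 74587) (Tr.lf (nat_lit 74017))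
(Tr.lf (nat_lit 74587)))
(Tr.nd (nat_lit 76249) (Tr.lf (nat_lit 75209))
(Tr.lf (nat_lit 76249)))))
(Tr.nd (nat_lit 77569) (Tr.nd (nat_lit 76961) (Tr.lf (nat_lit 76519))
(Tr.nd (nat_lit 77351) (Tr.lf (nat_lit 76961))
(Tr.lf (nat_lit 77351))))
(Tr.nd (nat_lit 77743) (Tr.nd (nat_lit 77713) (Tr.lf (nat_lit 77569))
(Tr.lf (nat_lit 77713)))
(Tr.nd (nat_lit 78031) (Tr.lf (nat_lit 77743))
(Tr.lf (nat_lit 78031)))))))
(Tr.nd (nat_lit 84377) (Tr.nd (nat_lit 81853) (Tr.nd (nat_lit 80669) (Tr.nd (nat_lit 78839) (Tr.lf (nat_lit 78427))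
(Tr.nd (nat_lit 79337) (Tr.lf (nat_lit 78839))
(Tr.lf (nat_lit 79337))))
(Tr.nd (nat_lit 81517) (Tr.lf (nat_lit 80669))
(Tr.nd (nat_lit 81689) (Tr.lf (nat_lit 81517))
(Tr.lf (nat_lit 81689)))))
(Tr.nd (nat_lit 82361) (Tr.nd (nat_lit 81869) (Tr.lf (nat_lit 81853))
(Tr.nd (nat_lit 82237) (Tr.lf (nat_lit 81869))
(Tr.lf (nat_lit 82237))))
(Tr.nd (nat_lit 83023) (Tr.nd (nat_lit 82837) (Tr.lf (nat_lit 82361))
(Tr.lf (nat_lit 82837)))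
(Tr.nd (nat_lit 83471) (Tr.lf (nat_lit 83023))
(Tr.lf (nat_lit 83471))))))
(Tr.nd (nat_lit 85523) (Tr.nd (nat_lit 84869) (Tr.nd (nat_lit 84653) (Tr.lf (nat_lit 84377))
(Tr.nd (nat_lit 84787) (Tr.lf (nat_lit 84653))
(Tr.lf (nat_lit 84787))))
(Tr.nd (nat_lit 84979) (Tr.nd (nat_lit 84977) (Tr.lf (nat_lit 84869))
(Tr.lf (nat_lit 84977)))
(Tr.nd (nat_lit 85517) (Tr.lf (nat_lit 84979))
(Tr.lf (nat_lit 85517)))))
(Tr.nd (nat_lit 86491) (Tr.nd (nat_lit 85571) (Tr.lf (nat_lit 85523))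
(Tr.nd (nat_lit 86453) (Tr.lf (nat_lit 85571))
(Tr.lf (nat_lit 86453))))
(Tr.nd (nat_lit 88379) (Tr.nd (nat_lit 86561) (Tr.lf (nat_lit 86491))
(Tr.lf (nat_lit 86561)))
(Tr.nd (nat_lit 88493) (Tr.lf (nat_lit 88379))
(Tr.lf (nat_lit 88493))))))))
(Tr.nd (nat_lit 97171) (Tr.nd (nat_lit 93199) (Tr.nd (nat_lit 89939) (Tr.nd (nat_lit 89491) (Tr.nd (nat_lit 88903) (Tr.lf (nat_lit 88667))
(Tr.nd (nat_lit 89069) (Tr.lf (nat_lit 88903))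
(Tr.lf (nat_lit 89069))))
(Tr.nd (nat_lit 89591) (Tr.lf (nat_lit 89491))
(Tr.nd (nat_lit 89833) (Tr.lf (nat_lit 89591))
(Tr.lf (nat_lit 89833)))))
(Tr.nd (nat_lit 90281) (Tr.nd (nat_lit 89959) (Tr.lf (nat_lit 89939))
(Tr.nd (nat_lit 89977) (Tr.lf (nat_lit 89959))
(Tr.lf (nat_lit 89977))))
(Tr.nd (nat_lit 91099) (Tr.nd (nat_lit 90709) (Tr.lf (nat_lit 90281))
(Tr.lf (nat_lit 90709)))
(Tr.nd (nat_lit 91141) (Tr.lf (nat_lit 91099))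
(Tr.lf (nat_lit 91141))))))
(Tr.nd (nat_lit 94441) (Tr.nd (nat_lit 93971) (Tr.nd (nat_lit 93229) (Tr.lf (nat_lit 93199))
(Tr.nd (nat_lit 93701) (Tr.lf (nat_lit 93229))
(Tr.lf (nat_lit 93701))))
(Tr.nd (nat_lit 94219) (Tr.nd (nat_lit 94049) (Tr.lf (nat_lit 93971))
(Tr.lf (nat_lit 94049)))
(Tr.nd (nat_lit 94273) (Tr.lf (nat_lit 94219))
(Tr.lf (nat_lit 94273)))))
(Tr.nd (nat_lit 95083) (Tr.nd (nat_lit 94531) (Tr.lf (nat_lit 94441))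
(Tr.nd (nat_lit 94621) (Tr.lf (nat_lit 94531))
(Tr.lf (nat_lit 94621))))
(Tr.nd (nat_lit 95891) (Tr.nd (nat_lit 95339) (Tr.lf (nat_lit 95083))
(Tr.lf (nat_lit 95339)))
(Tr.nd (nat_lit 96931) (Tr.lf (nat_lit 95891))
(Tr.lf (nat_lit 96931)))))))
(Tr.nd (nat_lit 100673) (Tr.nd (nat_lit 98867) (Tr.nd (nat_lit 98327) (Tr.nd (nat_lit 97231) (Tr.lf (nat_lit 97171))
(Tr.nd (nat_lit 98269) (Tr.lf (nat_lit 97231))
(Tr.lf (nat_lit 98269))))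
(Tr.nd (nat_lit 98597) (Tr.lf (nat_lit 98327))
(Tr.nd (nat_lit 98669) (Tr.lf (nat_lit 98597))
(Tr.lf (nat_lit 98669)))))
(Tr.nd (nat_lit 99707) (Tr.nd (nat_lit 99259) (Tr.lf (nat_lit 98867))
(Tr.nd (nat_lit 99289) (Tr.lf (nat_lit 99259))
(Tr.lf (nat_lit 99289))))
(Tr.nd (nat_lit 100343) (Tr.nd (nat_lit 100213) (Tr.lf (nat_lit 99707))
(Tr.lf (nat_lit 100213)))
(Tr.nd (nat_lit 100361) (Tr.lf (nat_lit 100343))
(Tr.lf (nat_lit 100361))))))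
(Tr.nd (nat_lit 104551) (Tr.nd (nat_lit 101531) (Tr.nd (nat_lit 101293) (Tr.lf (nat_lit 100673))
(Tr.nd (nat_lit 101467) (Tr.lf (nat_lit 101293))
(Tr.lf (nat_lit 101467))))
(Tr.nd (nat_lit 102059) (Tr.nd (nat_lit 101681) (Tr.lf (nat_lit 101531))
(Tr.lf (nat_lit 101681)))
(Tr.nd (nat_lit 103231) (Tr.lf (nat_lit 102059))
(Tr.lf (nat_lit 103231)))))
(Tr.nd (nat_lit 105097) (Tr.nd (nat_lit 104593) (Tr.lf (nat_lit 104551))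
(Tr.nd (nat_lit 104999) (Tr.lf (nat_lit 104593))
(Tr.lf (nat_lit 104999))))
(Tr.nd (nat_lit 105269) (Tr.nd (nat_lit 105173) (Tr.lf (nat_lit 105097))
(Tr.lf (nat_lit 105173)))
(Tr.nd (nat_lit 105337) (Tr.lf (nat_lit 105269))
(Tr.lf (nat_lit 105337)))))))))
noncomputable def HP3 : ℕ → ℕ := fun q => Nat.add (Nat.mod HP3t q) (nat_lit 65536)
noncomputable def HR3 : ℕ → ℕ := fun q => (Nat.mod HR3t q)
noncomputable def HW3 : ℕ → ℕ := fun q => (Nat.mod HW3t q)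
theorem tree3 : Tr.all (treeP LB3 stp HP3 HR3 HW3 WL3 (fun q => Nat.beq (nat_lit 77713) q)) LB3 = true := by decide +kernel
theorem sub3 : Tr.all (mem L) LB3 = true := by decide +kernel
theorem bst3 : bst LB3 65536 131072 = true := by decide +kernel
theorem size3 : size LB3 = 108 := by decide +kernel
noncomputable def WL4 : List (List Col) := [[TCG_Fi22.Col.f, TCG_Fi22.Col.g, TCG_Fi22.Col.h, TCG_Fi22.Col.d, TCG_Fi22.Col.e, TCG_Fi22.Col.i, TCG_Fi22.Col.f, TCG_Fi22.Col.e, TCG_Fi22.Col.h, TCG_Fi22.Col.d, TCG_Fi22.Col.c, TCG_Fi22.Col.b, TCG_Fi22.Col.a, TCG_Fi22.Col.c, TCG_Fi22.Col.b, TCG_Fi22.Col.a, TCG_Fi22.Col.d, TCG_Fi22.Col.h, TCG_Fi22.Col.c, TCG_Fi22.Col.e, TCG_Fi22.Col.d, TCG_Fi22.Col.c, TCG_Fi22.Col.g, TCG_Fi22.Col.h, TCG_Fi22.Col.b, TCG_Fi22.Col.a, TCG_Fi22.Col.e, TCG_Fi22.Col.d, TCG_Fi22.Col.c, TCG_Fi22.Col.b, TCG_Fi22.Col.d, TCG_Fi22.Col.f,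 TCG_Fi22.Col.h, TCG_Fi22.Col.d, TCG_Fi22.Col.h, TCG_Fi22.Col.g, TCG_Fi22.Col.h, TCG_Fi22.Col.d, TCG_Fi22.Col.i, TCG_Fi22.Col.e, TCG_Fi22.Col.f, TCG_Fi22.Col.e, TCG_Fi22.Col.d, TCG_Fi22.Col.g, TCG_Fi22.Col.h], [TCG_Fi22.Col.c, TCG_Fi22.Col.e, TCG_Fi22.Col.f, TCG_Fi22.Col.e, TCG_Fi22.Col.h, TCG_Fi22.Col.d, TCG_Fi22.Col.c, TCG_Fi22.Col.g, TCG_Fi22.Col.h, TCG_Fi22.Col.d, TCG_Fi22.Col.e, TCG_Fi22.Col.i, TCG_Fi22.Col.b, TCG_Fi22.Col.a, TCG_Fi22.Col.b, TCG_Fi22.Col.g, TCG_Fi22.Col.c, TCG_Fi22.Col.e, TCG_Fi22.Col.e, TCG_Fi22.Col.i, TCG_Fi22.Col.i, TCG_Fi22.Col.d, TCG_Fi22.Col.g, TCG_Fi22.Col.f, TCG_Fi22.Col.h, TCG_Fi22.Col.c, TCG_Fi22.Col.b, TCG_Fi22.Col.e, TCG_Fi22.Col.d, TCG_Fi22.Col.c, TCG_Fi22.Col.d, TCG_Fi22.Col.h, TCG_Fi22.Col.d, TCG_Fi22.Col.b, TCG_Fi22.Col.a, TCG_Fi22.Col.e, TCG_Fi22.Col.d, TCG_Fi22.Col.c, TCG_Fi22.Col.b, TCG_Fi22.Col.a,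 TCG_Fi22.Col.e, TCG_Fi22.Col.d, TCG_Fi22.Col.f, TCG_Fi22.Col.e, TCG_Fi22.Col.d, TCG_Fi22.Col.c, TCG_Fi22.Col.g, TCG_Fi22.Col.h, TCG_Fi22.Col.h, TCG_Fi22.Col.i, TCG_Fi22.Col.h, TCG_Fi22.Col.d, TCG_Fi22.Col.c, TCG_Fi22.Col.h, TCG_Fi22.Col.e, TCG_Fi22.Col.f, TCG_Fi22.Col.e], [TCG_Fi22.Col.e, TCG_Fi22.Col.d, TCG_Fi22.Col.c, TCG_Fi22.Col.b, TCG_Fi22.Col.h, TCG_Fi22.Col.d, TCG_Fi22.Col.c, TCG_Fi22.Col.h, TCG_Fi22.Col.i, TCG_Fi22.Col.d, TCG_Fi22.Col.g, TCG_Fi22.Col.a, TCG_Fi22.Col.e, TCG_Fi22.Col.h, TCG_Fi22.Col.d, TCG_Fi22.Col.c, TCG_Fi22.Col.b, TCG_Fi22.Col.c, TCG_Fi22.Col.d, TCG_Fi22.Col.c, TCG_Fi22.Col.a, TCG_Fi22.Col.e, TCG_Fi22.Col.h, TCG_Fi22.Col.d, TCG_Fi22.Col.c, TCG_Fi22.Col.b, TCG_Fi22.Col.e, TCG_Fi22.Col.g, TCG_Fi22.Col.f, TCG_Fi22.Col.e, TCG_Fi22.Col.d, TCG_Fi22.Col.c, TCG_Fi22.Col.g, TCG_Fi22.Col.f, TCG_Fi22.Col.h, TCG_Fi22.Col.d,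 TCG_Fi22.Col.e, TCG_Fi22.Col.f, TCG_Fi22.Col.d, TCG_Fi22.Col.g, TCG_Fi22.Col.h, TCG_Fi22.Col.c, TCG_Fi22.Col.d, TCG_Fi22.Col.c, TCG_Fi22.Col.e, TCG_Fi22.Col.d, TCG_Fi22.Col.c, TCG_Fi22.Col.h, TCG_Fi22.Col.d, TCG_Fi22.Col.i, TCG_Fi22.Col.a, TCG_Fi22.Col.c, TCG_Fi22.Col.h, TCG_Fi22.Col.d, TCG_Fi22.Col.f, TCG_Fi22.Col.e, TCG_Fi22.Col.d, TCG_Fi22.Col.c, TCG_Fi22.Col.i]]
noncomputable def HP4t : ℕ := (nat_lit 0x1c5cfdd69a24e872c5d589bbe8fdbb17dfb50)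
noncomputable def HR4t : ℕ := (nat_lit 0x1179c4735c80783843f77aed647dceb4f83be7)
noncomputable def HW4t : ℕ := (nat_lit 0xe7fce4f8817f03d3ddcb8b42b9025d35522c9)
noncomputable def LB4 : Tr ℕ := (Tr.nd (nat_lit 98041) (Tr.nd (nat_lit 91733) (Tr.nd (nat_lit 91583) (Tr.lf (nat_lit 83477))
(Tr.lf (nat_lit 91583)))
(Tr.nd (nat_lit 94747) (Tr.lf (nat_lit 91733))
(Tr.lf (nat_lit 94747))))
(Tr.nd (nat_lit 100511) (Tr.nd (nat_lit 100129) (Tr.lf (nat_lit 98041))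
(Tr.lf (nat_lit 100129)))
(Tr.nd (nat_lit 101839) (Tr.lf (nat_lit 100511))
(Tr.nd (nat_lit 102299) (Tr.lf (nat_lit 101839))
(Tr.lf (nat_lit 102299))))))
noncomputable def HP4 : ℕ → ℕ := fun q => Nat.add (Nat.mod HP4t q) (nat_lit 65536)
noncomputable def HR4 : ℕ → ℕ := fun q => (Nat.mod HR4t q)
noncomputable def HW4 : ℕ → ℕ := fun q => (Nat.mod HW4t q)
theorem tree4 : Tr.all (treeP LB4 stp HP4 HR4 HW4 WL4 (fun q => Nat.beq (nat_lit 91733) q)) LB4 = true := by decide +kernel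
theorem sub4 : Tr.all (mem L) LB4 = true := by decide +kernel
theorem bst4 : bst LB4 65536 131072 = true := by decide +kernel
theorem size4 : size LB4 = 9 := by decide +kernel
noncomputable def WL5 : List (List Col) := [[TCG_Fi22.Col.a, TCG_Fi22.Col.c, TCG_Fi22.Col.f, TCG_Fi22.Col.e, TCG_Fi22.Col.h, TCG_Fi22.Col.d, TCG_Fi22.Col.b, TCG_Fi22.Col.a, TCG_Fi22.Col.c, TCG_Fi22.Col.b, TCG_Fi22.Col.f, TCG_Fi22.Col.a, TCG_Fi22.Col.e, TCG_Fi22.Col.d, TCG_Fi22.Col.c, TCG_Fi22.Col.g, TCG_Fi22.Col.h, TCG_Fi22.Col.d, TCG_Fi22.Col.f, TCG_Fi22.Col.e, TCG_Fi22.Col.d, TCG_Fi22.Col.c, TCG_Fi22.Col.b, TCG_Fi22.Col.a, TCG_Fi22.Col.h, TCG_Fi22.Col.d, TCG_Fi22.Col.c, TCG_Fi22.Col.b, TCG_Fi22.Col.a, TCG_Fi22.Col.c, TCG_Fi22.Col.d, TCG_Fi22.Col.g, TCG_Fi22.Col.d, TCG_Fi22.Col.g, TCG_Fi22.Col.f, TCG_Fi22.Col.e, TCG_Fi22.Col.d, TCG_Fi22.Col.c, TCG_Fi22.Col.g,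 TCG_Fi22.Col.h, TCG_Fi22.Col.e, TCG_Fi22.Col.f, TCG_Fi22.Col.e], [TCG_Fi22.Col.c, TCG_Fi22.Col.e, TCG_Fi22.Col.g, TCG_Fi22.Col.h, TCG_Fi22.Col.d, TCG_Fi22.Col.c, TCG_Fi22.Col.e, TCG_Fi22.Col.f, TCG_Fi22.Col.e, TCG_Fi22.Col.h, TCG_Fi22.Col.d, TCG_Fi22.Col.c, TCG_Fi22.Col.g, TCG_Fi22.Col.h, TCG_Fi22.Col.d, TCG_Fi22.Col.e, TCG_Fi22.Col.i, TCG_Fi22.Col.b, TCG_Fi22.Col.a, TCG_Fi22.Col.b, TCG_Fi22.Col.g, TCG_Fi22.Col.c, TCG_Fi22.Col.e, TCG_Fi22.Col.e, TCG_Fi22.Col.i, TCG_Fi22.Col.i, TCG_Fi22.Col.d, TCG_Fi22.Col.g, TCG_Fi22.Col.f, TCG_Fi22.Col.h, TCG_Fi22.Col.c, TCG_Fi22.Col.b, TCG_Fi22.Col.e, TCG_Fi22.Col.d, TCG_Fi22.Col.c, TCG_Fi22.Col.d, TCG_Fi22.Col.h, TCG_Fi22.Col.d, TCG_Fi22.Col.b, TCG_Fi22.Col.a, TCG_Fi22.Col.e, TCG_Fi22.Col.d, TCG_Fi22.Col.c, TCG_Fi22.Col.b, TCG_Fi22.Col.a, TCG_Fi22.Col.e, TCG_Fi22.Col.d, TCG_Fi22.Col.f, TCG_Fi22.Col.e,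 TCG_Fi22.Col.d, TCG_Fi22.Col.c, TCG_Fi22.Col.g, TCG_Fi22.Col.h, TCG_Fi22.Col.h, TCG_Fi22.Col.i, TCG_Fi22.Col.h, TCG_Fi22.Col.d, TCG_Fi22.Col.c, TCG_Fi22.Col.h, TCG_Fi22.Col.e, TCG_Fi22.Col.f, TCG_Fi22.Col.e, TCG_Fi22.Col.d, TCG_Fi22.Col.c, TCG_Fi22.Col.e, TCG_Fi22.Col.g, TCG_Fi22.Col.h]]
noncomputable def HP5t : ℕ := (nat_lit 0x24eeb42d953a6573a)
noncomputable def HR5t : ℕ := (nat_lit 0x25870f28ce5ef89d7)
noncomputable def HW5t : ℕ := (nat_lit 0x1ad7e6898cd500f47)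
noncomputable def LB5 : Tr ℕ := (Tr.nd (nat_lit 86861) (Tr.nd (nat_lit 85009) (Tr.lf (nat_lit 79997))
(Tr.lf (nat_lit 85009)))
(Tr.nd (nat_lit 95213) (Tr.lf (nat_lit 86861))
(Tr.lf (nat_lit 95213))))
noncomputable def HP5 : ℕ → ℕ := fun q => Nat.add (Nat.mod HP5t q) (nat_lit 65536)
noncomputable def HR5 : ℕ → ℕ := fun q => (Nat.mod HR5t q)
noncomputable def HW5 : ℕ → ℕ := fun q => (Nat.mod HW5t q)
theorem tree5 : Tr.all (treeP LB5 stp HP5 HR5 HW5 WL5 (fun q => Nat.beq (nat_lit 95213) q)) LB5 = true := by decide +kernel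
theorem sub5 : Tr.all (mem L) LB5 = true := by decide +kernel
theorem bst5 : bst LB5 65536 131072 = true := by decide +kernel
theorem size5 : size LB5 = 4 := by decide +kernel
section
variable {Γ : Type} [Group Γ] [Finite Γ] (ψ : Γ →* Equiv.Perm (Om L)) (g : Col → Γ) (hψ : ∀ c, ψ (g c) = closed.perm c)
include hψ
omit hψ in
theorem lev6 : 1 ≤ Nat.card (stabN ψ [95213, 91733, 77713, 87211, 84047, 65537]) := lev_zero _ _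
theorem lev5 : 4 ≤ Nat.card (stabN ψ [91733, 77713, 87211, 84047, 65537]) :=
  lev_step closed ψ g hψ [91733, 77713, 87211, 84047, 65537] 95213 bst5 sub5 (by decide +kernel) (by decide +kernel) tree5 (lev6 ψ) size5 (by norm_num)
theorem lev4 : 36 ≤ Nat.card (stabN ψ [77713, 87211, 84047, 65537]) :=
  lev_step closed ψ g hψ [77713, 87211, 84047, 65537] 91733 bst4 sub4 (by decide +kernel) (by decide +kernel) tree4 (lev5 ψ g hψ) size4 (by norm_num)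
theorem lev3 : 3888 ≤ Nat.card (stabN ψ [87211, 84047, 65537]) :=
  lev_step closed ψ g hψ [87211, 84047, 65537] 77713 bst3 sub3 (by decide +kernel) (by decide +kernel) tree3 (lev4 ψ g hψ) size3 (by norm_num)
theorem lev2 : 6531840 ≤ Nat.card (stabN ψ [84047, 65537]) :=
  lev_step closed ψ g hψ [84047, 65537] 87211 bst2 sub2 (by decide +kernel) (by decide +kernel) tree2 (lev3 ψ g hψ) size2 (by norm_num)
theorem lev1 : 18393661440 ≤ Nat.card (stabN ψ [65537]) :=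
  lev_step closed ψ g hψ [65537] 84047 bst1 sub1 (by decide +kernel) (by decide +kernel) tree1 (lev2 ψ g hψ) size1 (by norm_num)
theorem lev0 : 64561751654400 ≤ Nat.card (stabN ψ []) :=
  lev_step closed ψ g hψ [] 65537 bst_chk sub0 (by decide +kernel) (by decide +kernel) tree0 (lev1 ψ g hψ) size_L (by norm_num)
end
end CfsgLib.TCFi22.ChainY
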