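import Cfsg.Agent.EqBase
import Cfsg.Agent.LibTCFi24W
import Cfsg.Agent.LibTCFi24N0
import Cfsg.Agent.LibTCFi24N1
import Cfsg.Agent.LibTCFi24N2
import Cfsg.Agent.LibTCFi24N3
import Cfsg.Agent.LibTCFi24N4
import Cfsg.Agent.LibTCFi24N5
import Cfsg.Agent.LibTCFi24N6
import Cfsg.Agent.LibTCFi24N7
import Cfsg.Agent.LibTCFi24N8
import Cfsg.Agent.LibTCFi24N9
import Cfsg.Agent.LibTCFi24N10
import Cfsg.Agent.LibTCFi24N11
import Cfsg.Agent.LibTCFi24N12
import Cfsg.Agent.LibTCFi24N13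
import Cfsg.Agent.LibTCFi24N14
import Cfsg.Agent.LibTCFi24N15
import Cfsg.Agent.LibTCFi24N16
import Cfsg.Agent.LibTCFi24N17
import Cfsg.Agent.LibTCFi24N18
import Cfsg.Agent.LibTCFi24N19
import Cfsg.Agent.LibTCFi24N20
import Cfsg.Agent.LibTCFi24N21
import Cfsg.Agent.LibTCFi24N22
import Cfsg.Agent.LibTCFi24N23
import Cfsg.Agent.LibTCFi24N24
import Cfsg.Agent.LibTCFi24N25
import Cfsg.Agent.LibTCFi24N26
import Cfsg.Agent.LibTCFi24N27
import Cfsg.Agent.LibTCFi24N28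
import Cfsg.Agent.LibTCFi24N29
set_option autoImplicit false
set_option linter.all false
set_option maxRecDepth 1000000
set_option maxHeartbeats 0
namespace CfsgLib.TCFi24
open CfsgLib.TC Cfsg.Spor CfsgLib.TCG_Fi24
noncomputable def ms0 : List ℕ := []
noncomputable def ms1 : List ℕ := (nat_lit 0x1000000) :: ms0
noncomputable def ms2 : List ℕ := (nat_lit 0x1000000000000) :: ms1
noncomputable def ms3 : List ℕ := (nat_lit 0x1000000000000000000000000) :: ms2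
noncomputable def ms4 : List ℕ := (nat_lit 0x1000000000000000000000000000000000000000000000000) :: ms3
noncomputable def ms5 : List ℕ := (nat_lit 0x1000000000000000000000000000000000000000000000000000000000000000000000000000000000000000000000000) :: ms4
noncomputable def ms6 : List ℕ := (nat_lit 0x1000000000000000000000000000000000000000000000000000000000000000000000000000000000000000000000000000000000000000000000000000000000000000000000000000000000000000000000000000000000000000000000000) :: ms5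
noncomputable def ms7 : List ℕ := (nat_lit 0x1000000000000000000000000000000000000000000000000000000000000000000000000000000000000000000000000000000000000000000000000000000000000000000000000000000000000000000000000000000000000000000000000000000000000000000000000000000000000000000000000000000000000000000000000000000000000000000000000000000000000000000000000000000000000000000000000000000000000000000000000000000000000000000000000) :: ms6
noncomputable def ms8 : List ℕ := (nat_lit 0x1000000000000000000000000000000000000000000000000000000000000000000000000000000000000000000000000000000000000000000000000000000000000000000000000000000000000000000000000000000000000000000000000000000000000000000000000000000000000000000000000000000000000000000000000000000000000000000000000000000000000000000000000000000000000000000000000000000000000000000000000000000000000000000000000000000000000000000000000000000000000000000000000000000000000000000000000000000000000000000000000000000000000000000000000000000000000000000000000000000000000000000000000000000000000000000000000000000000000000000000000000000000000000000000000000000000000000000000000000000000000000000000000000000000000000000000000000000000000000000000000000000000000000000000000000000000000000000000000)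 :: ms7
noncomputable def ms9 : List ℕ := (nat_lit 0x10000000000000000000000000000000000000000000000000000000000000000000000000000000000000000000000000000000000000000000000000000000000000000000000000000000000000000000000000000000000000000000000000000000000000000000000000000000000000000000000000000000000000000000000000000000000000000000000000000000000000000000000000000000000000000000000000000000000000000000000000000000000000000000000000000000000000000000000000000000000000000000000000000000000000000000000000000000000000000000000000000000000000000000000000000000000000000000000000000000000000000000000000000000000000000000000000000000000000000000000000000000000000000000000000000000000000000000000000000000000000000000000000000000000000000000000000000000000000000000000000000000000000000000000000000000000000000000000000000000000000000000000000000000000000000000000000000000000000000000000000000000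00000000000000000000000000000000000000000000000000000000000000000000000000000000000000000000000000000000000000000000000000000000000000000000000000000000000000000000000000000000000000000000000000000000000000000000000000000000000000000000000000000000000000000000000000000000000000000000000000000000000000000000000000000000000000000000000000000000000000000000000000000000000000000000000000000000000000000000000000000000000000000000000000000000000000000000000000000000000000000000000000000000000000000000000000000000000000000000000000000000000000000000000000000000000000000000000000000000000000000000000000000000000000000000000000000000000000000000000000000000000000000000000000000000000000000) :: ms8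
noncomputable def ms10 : List ℕ := (nat_lit 0x10000000000000000000000000000000000000000000000000000000000000000000000000000000000000000000000000000000000000000000000000000000000000000000000000000000000000000000000000000000000000000000000000000000000000000000000000000000000000000000000000000000000000000000000000000000000000000000000000000000000000000000000000000000000000000000000000000000000000000000000000000000000000000000000000000000000000000000000000000000000000000000000000000000000000000000000000000000000000000000000000000000000000000000000000000000000000000000000000000000000000000000000000000000000000000000000000000000000000000000000000000000000000000000000000000000000000000000000000000000000000000000000000000000000000000000000000000000000000000000000000000000000000000000000000000000000000000000000000000000000000000000000000000000000000000000000000000000000000000000000000000000000000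0000000000000000000000000000000000000000000000000000000000000000000000000000000000000000000000000000000000000000000000000000000000000000000000000000000000000000000000000000000000000000000000000000000000000000000000000000000000000000000000000000000000000000000000000000000000000000000000000000000000000000000000000000000000000000000000000000000000000000000000000000000000000000000000000000000000000000000000000000000000000000000000000000000000000000000000000000000000000000000000000000000000000000000000000000000000000000000000000000000000000000000000000000000000000000000000000000000000000000000000000000000000000000000000000000000000000000000000000000000000000000000000000000000000000000000000000000000000000000000000000000000000000000000000000000000000000000000000000000000000000000000000000000000000000000000000000000000000000000000000000000000000000000000000000000000000000000000000000000000000000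0000000000000000000000000000000000000000000000000000000000000000000000000000000000000000000000000000000000000000000000000000000000000000000000000000000000000000000000000000000000000000000000000000000000000000000000000000000000000000000000000000000000000000000000000000000000000000000000000000000000000000000000000000000000000000000000000000000000000000000000000000000000000000000000000000000000000000000000000000000000000000000000000000000000000000000000000000000000000000000000000000000000000000000000000000000000000000000000000000000000000000000000000000000000000000000000000000000000000000000000000000000000000000000000000000000000000000000000000000000000000000000000000000000000000000000000000000000000000000000000000000000000000000000000000000000000000000000000000000000000000000000000000000000000000000000000000000000000000000000000000000000000000000000000000000000000000000000000000000000000000000000000000000000000000000000000000000000000000000000000000000000000000000000000000000000000000000000000000000000000000000000000000000000000000000000000000000000000000000000000000000000000000000000000000000000000000000000000000000000000000000000000000000000000000000000000000000000000000000000000000000000000000000000000000000000000000000000000000000000000000000000000000000000000000000000000000000000000000000000000)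 :: ms9
noncomputable def ms11 : List ℕ := (nat_lit 0x1000000000000000000000000000000000000000000000000000000000000000000000000000000000000000000000000000000000000000000000000000000000000000000000000000000000000000000000000000000000000000000000000000000000000000000000000000000000000000000000000000000000000000000000000000000000000000000000000000000000000000000000000000000000000000000000000000000000000000000000000000000000000000000000000000000000000000000000000000000000000000000000000000000000000000000000000000000000000000000000000000000000000000000000000000000000000000000000000000000000000000000000000000000000000000000000000000000000000000000000000000000000000000000000000000000000000000000000000000000000000000000000000000000000000000000000000000000000000000000000000000000000000000000000000000000000000000000000000000000000000000000000000000000000000000000000000000000000000000000000000000000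0000000000000000000000000000000000000000000000000000000000000000000000000000000000000000000000000000000000000000000000000000000000000000000000000000000000000000000000000000000000000000000000000000000000000000000000000000000000000000000000000000000000000000000000000000000000000000000000000000000000000000000000000000000000000000000000000000000000000000000000000000000000000000000000000000000000000000000000000000000000000000000000000000000000000000000000000000000000000000000000000000000000000000000000000000000000000000000000000000000000000000000000000000000000000000000000000000000000000000000000000000000000000000000000000000000000000000000000000000000000000000000000000000000000000000000000000000000000000000000000000000000000000000000000000000000000000000000000000000000000000000000000000000000000000000000000000000000000000000000000000000000000000000000000000000000000000000000000000000000000000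0000000000000000000000000000000000000000000000000000000000000000000000000000000000000000000000000000000000000000000000000000000000000000000000000000000000000000000000000000000000000000000000000000000000000000000000000000000000000000000000000000000000000000000000000000000000000000000000000000000000000000000000000000000000000000000000000000000000000000000000000000000000000000000000000000000000000000000000000000000000000000000000000000000000000000000000000000000000000000000000000000000000000000000000000000000000000000000000000000000000000000000000000000000000000000000000000000000000000000000000000000000000000000000000000000000000000000000000000000000000000000000000000000000000000000000000000000000000000000000000000000000000000000000000000000000000000000000000000000000000000000000000000000000000000000000000000000000000000000000000000000000000000000000000000000000000000000000000000000000000000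0000000000000000000000000000000000000000000000000000000000000000000000000000000000000000000000000000000000000000000000000000000000000000000000000000000000000000000000000000000000000000000000000000000000000000000000000000000000000000000000000000000000000000000000000000000000000000000000000000000000000000000000000000000000000000000000000000000000000000000000000000000000000000000000000000000000000000000000000000000000000000000000000000000000000000000000000000000000000000000000000000000000000000000000000000000000000000000000000000000000000000000000000000000000000000000000000000000000000000000000000000000000000000000000000000000000000000000000000000000000000000000000000000000000000000000000000000000000000000000000000000000000000000000000000000000000000000000000000000000000000000000000000000000000000000000000000000000000000000000000000000000000000000000000000000000000000000000000000000000000000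0000000000000000000000000000000000000000000000000000000000000000000000000000000000000000000000000000000000000000000000000000000000000000000000000000000000000000000000000000000000000000000000000000000000000000000000000000000000000000000000000000000000000000000000000000000000000000000000000000000000000000000000000000000000000000000000000000000000000000000000000000000000000000000000000000000000000000000000000000000000000000000000000000000000000000000000000000000000000000000000000000000000000000000000000000000000000000000000000000000000000000000000000000000000000000000000000000000000000000000000000000000000000000000000000000000000000000000000000000000000000000000000000000000000000000000000000000000000000000000000000000000000000000000000000000000000000000000000000000000000000000000000000000000000000000000000000000000000000000000000000000000000000000000000000000000000000000000000000000000000000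0000000000000000000000000000000000000000000000000000000000000000000000000000000000000000000000000000000000000000000000000000000000000000000000000000000000000000000000000000000000000000000000000000000000000000000000000000000000000000000000000000000000000000000000000000000000000000000000000000000000000000000000000000000000000000000000000000000000000000000000000000000000000000000000000000000000000000000000000000000000000000000000000000000000000000000000000000000000000000000000000000000000000000000000000000000000000000000000000000000000000000000000000000000000000000000000000000000000000000000000000000000000000000000000000000000000000000000000000000000000000000000000000000000000000000000000000000000000000000000000000000000000000000000000000000000000000000000000000000000000000000000000000000000000000000000000000000000000000000000000000000000000000000000000000000000000000000000000000000000000000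0000000000000000000000000000000000000000000000000000000000000000000000000000000000000000000000000000000000000000000000000000000000000000000000000000000000000000000000000000000000000000000000000000000000000000000000000000000000000000000000000000000000000000000000000000000000000000000000000000000000000000000000000000000000000000000000000000000000000000000000000000000000000000000000000000000000000000000000000000000000000000000000000000000000000000000000000000000000000000000000000000000000000000000000000000000000000000000000000000000000000000000000000000000000000000000000000000000000000000000000000000000000000000000000000000000000000000000000000000000000000000000000000000000000000000000000000000000000000000000000000000000000000000000000000000000000000000000000000000000000000000000000000) :: ms10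
noncomputable def ms12 : List ℕ := (nat_lit 0x10000000000000000000000000000000000000000000000000000000000000000000000000000000000000000000000000000000000000000000000000000000000000000000000000000000000000000000000000000000000000000000000000000000000000000000000000000000000000000000000000000000000000000000000000000000000000000000000000000000000000000000000000000000000000000000000000000000000000000000000000000000000000000000000000000000000000000000000000000000000000000000000000000000000000000000000000000000000000000000000000000000000000000000000000000000000000000000000000000000000000000000000000000000000000000000000000000000000000000000000000000000000000000000000000000000000000000000000000000000000000000000000000000000000000000000000000000000000000000000000000000000000000000000000000000000000000000000000000000000000000000000000000000000000000000000000000000000000000000000000000000000000000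0000000000000000000000000000000000000000000000000000000000000000000000000000000000000000000000000000000000000000000000000000000000000000000000000000000000000000000000000000000000000000000000000000000000000000000000000000000000000000000000000000000000000000000000000000000000000000000000000000000000000000000000000000000000000000000000000000000000000000000000000000000000000000000000000000000000000000000000000000000000000000000000000000000000000000000000000000000000000000000000000000000000000000000000000000000000000000000000000000000000000000000000000000000000000000000000000000000000000000000000000000000000000000000000000000000000000000000000000000000000000000000000000000000000000000000000000000000000000000000000000000000000000000000000000000000000000000000000000000000000000000000000000000000000000000000000000000000000000000000000000000000000000000000000000000000000000000000000000000000000000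0000000000000000000000000000000000000000000000000000000000000000000000000000000000000000000000000000000000000000000000000000000000000000000000000000000000000000000000000000000000000000000000000000000000000000000000000000000000000000000000000000000000000000000000000000000000000000000000000000000000000000000000000000000000000000000000000000000000000000000000000000000000000000000000000000000000000000000000000000000000000000000000000000000000000000000000000000000000000000000000000000000000000000000000000000000000000000000000000000000000000000000000000000000000000000000000000000000000000000000000000000000000000000000000000000000000000000000000000000000000000000000000000000000000000000000000000000000000000000000000000000000000000000000000000000000000000000000000000000000000000000000000000000000000000000000000000000000000000000000000000000000000000000000000000000000000000000000000000000000000000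0000000000000000000000000000000000000000000000000000000000000000000000000000000000000000000000000000000000000000000000000000000000000000000000000000000000000000000000000000000000000000000000000000000000000000000000000000000000000000000000000000000000000000000000000000000000000000000000000000000000000000000000000000000000000000000000000000000000000000000000000000000000000000000000000000000000000000000000000000000000000000000000000000000000000000000000000000000000000000000000000000000000000000000000000000000000000000000000000000000000000000000000000000000000000000000000000000000000000000000000000000000000000000000000000000000000000000000000000000000000000000000000000000000000000000000000000000000000000000000000000000000000000000000000000000000000000000000000000000000000000000000000000000000000000000000000000000000000000000000000000000000000000000000000000000000000000000000000000000000000000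0000000000000000000000000000000000000000000000000000000000000000000000000000000000000000000000000000000000000000000000000000000000000000000000000000000000000000000000000000000000000000000000000000000000000000000000000000000000000000000000000000000000000000000000000000000000000000000000000000000000000000000000000000000000000000000000000000000000000000000000000000000000000000000000000000000000000000000000000000000000000000000000000000000000000000000000000000000000000000000000000000000000000000000000000000000000000000000000000000000000000000000000000000000000000000000000000000000000000000000000000000000000000000000000000000000000000000000000000000000000000000000000000000000000000000000000000000000000000000000000000000000000000000000000000000000000000000000000000000000000000000000000000000000000000000000000000000000000000000000000000000000000000000000000000000000000000000000000000000000000000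0000000000000000000000000000000000000000000000000000000000000000000000000000000000000000000000000000000000000000000000000000000000000000000000000000000000000000000000000000000000000000000000000000000000000000000000000000000000000000000000000000000000000000000000000000000000000000000000000000000000000000000000000000000000000000000000000000000000000000000000000000000000000000000000000000000000000000000000000000000000000000000000000000000000000000000000000000000000000000000000000000000000000000000000000000000000000000000000000000000000000000000000000000000000000000000000000000000000000000000000000000000000000000000000000000000000000000000000000000000000000000000000000000000000000000000000000000000000000000000000000000000000000000000000000000000000000000000000000000000000000000000000000000000000000000000000000000000000000000000000000000000000000000000000000000000000000000000000000000000000000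0000000000000000000000000000000000000000000000000000000000000000000000000000000000000000000000000000000000000000000000000000000000000000000000000000000000000000000000000000000000000000000000000000000000000000000000000000000000000000000000000000000000000000000000000000000000000000000000000000000000000000000000000000000000000000000000000000000000000000000000000000000000000000000000000000000000000000000000000000000000000000000000000000000000000000000000000000000000000000000000000000000000000000000000000000000000000000000000000000000000000000000000000000000000000000000000000000000000000000000000000000000000000000000000000000000000000000000000000000000000000000000000000000000000000000000000000000000000000000000000000000000000000000000000000000000000000000000000000000000000000000000000000000000000000000000000000000000000000000000000000000000000000000000000000000000000000000000000000000000000000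0000000000000000000000000000000000000000000000000000000000000000000000000000000000000000000000000000000000000000000000000000000000000000000000000000000000000000000000000000000000000000000000000000000000000000000000000000000000000000000000000000000000000000000000000000000000000000000000000000000000000000000000000000000000000000000000000000000000000000000000000000000000000000000000000000000000000000000000000000000000000000000000000000000000000000000000000000000000000000000000000000000000000000000000000000000000000000000000000000000000000000000000000000000000000000000000000000000000000000000000000000000000000000000000000000000000000000000000000000000000000000000000000000000000000000000000000000000000000000000000000000000000000000000000000000000000000000000000000000000000000000000000000000000000000000000000000000000000000000000000000000000000000000000000000000000000000000000000000000000000000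0000000000000000000000000000000000000000000000000000000000000000000000000000000000000000000000000000000000000000000000000000000000000000000000000000000000000000000000000000000000000000000000000000000000000000000000000000000000000000000000000000000000000000000000000000000000000000000000000000000000000000000000000000000000000000000000000000000000000000000000000000000000000000000000000000000000000000000000000000000000000000000000000000000000000000000000000000000000000000000000000000000000000000000000000000000000000000000000000000000000000000000000000000000000000000000000000000000000000000000000000000000000000000000000000000000000000000000000000000000000000000000000000000000000000000000000000000000000000000000000000000000000000000000000000000000000000000000000000000000000000000000000000000000000000000000000000000000000000000000000000000000000000000000000000000000000000000000000000000000000000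0000000000000000000000000000000000000000000000000000000000000000000000000000000000000000000000000000000000000000000000000000000000000000000000000000000000000000000000000000000000000000000000000000000000000000000000000000000000000000000000000000000000000000000000000000000000000000000000000000000000000000000000000000000000000000000000000000000000000000000000000000000000000000000000000000000000000000000000000000000000000000000000000000000000000000000000000000000000000000000000000000000000000000000000000000000000000000000000000000000000000000000000000000000000000000000000000000000000000000000000000000000000000000000000000000000000000000000000000000000000000000000000000000000000000000000000000000000000000000000000000000000000000000000000000000000000000000000000000000000000000000000000000000000000000000000000000000000000000000000000000000000000000000000000000000000000000000000000000000000000000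0000000000000000000000000000000000000000000000000000000000000000000000000000000000000000000000000000000000000000000000000000000000000000000000000000000000000000000000000000000000000000000000000000000000000000000000000000000000000000000000000000000000000000000000000000000000000000000000000000000000000000000000000000000000000000000000000000000000000000000000000000000000000000000000000000000000000000000000000000000000000000000000000000000000000000000000000000000000000000000000000000000000000000000000000000000000000000000000000000000000000000000000000000000000000000000000000000000000000000000000000000000000000000000000000000000000000000000000000000000000000000000000000000000000000000000000000000000000000000000000000000000000000000000000000000000000000000000000000000000000000000000000000000000000000000000000000000000000000000000000000000000000000000000000000000000000000000000000000000000000000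0000000000000000000000000000000000000000000000000000000000000000000000000000000000000000000000000000000000000000000000000000000000000000000000000000000000000000000000000000000000000000000000000000000000000000000000000000000000000000000000000000000000000000000000000000000000000000000000000000000000000000000000000000000000000000000000000000000000000000000000000000000000000000000000000000000000000000000000000000000000000000000000000000000000000000000000000000000000000000000000000000000000000000000000000000000000000000000000000000000000000000000000000000000000000000000000000000000000000000000000000000000000000000000000000000000000000000000000000000000000000000000000000000000000000000000000000000000000000000000000000000000000000000000000000000000000000000000000000000000000000000000000000000000000000000000000000000000000000000000000000000000000000000000000000000000000000000000000000000000000000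0000000000000000000000000000000000000000000000000000000000000000000000000000000000000000000000000000000000000000000000000000000000000000000000000000000000000000000000000000000000000000000000000000000000000000000000000000000000000000000000000000000000000000000000000000000000000000000000000000000000000000000000000000000000000000000000000000000000000000000000000000000000000000000000000000000000000000000000000000000000000000000000000000000000000000000000000000000000000000000000000000000000000000000000000000000000000000000000000000000000000000000000000000000000000000000000000000000000000000000000000000000000000000000000000000000000000000000000000000000000000000000000000000000000000000000000000000000000000000000000000000000000000000000000000000000000000000000000000000000000000000000000000000000000000000000000000000000000000000000000000000000000000000000000000000000000000000000000000000000000000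00000000000000000000000000000000000000000000000000000000000000000000000000000000000000000000000000000000000000000000000000000000000000000000000000000000000000000000000000000000000000000000000000000000000000000000000000000000000000000000000000000000000000000000000000000000000000000000000000000000000000000000000000000000000000000000000000000000000000000000000000000000000000000000000000000000000000000000000000000000000000000000000000000000000000000000000000000000000000000000000000000000000000000000000000000000000000000000000000000000000000000000000000000000000000000000000000000000000000000000000000000000000000000000000) :: ms11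
noncomputable def L_0 : Tr ℕ := (decT (nat_lit 16777216) (ms12) LN0_b12)
noncomputable def L_1 : Tr ℕ := (decT (nat_lit 16777216) (ms12) LN1_b12)
noncomputable def L_2 : Tr ℕ := (decT (nat_lit 16777216) (ms12) LN2_b12)
noncomputable def L_3 : Tr ℕ := (decT (nat_lit 16777216) (ms12) LN3_b12)
noncomputable def L_4 : Tr ℕ := (decT (nat_lit 16777216) (ms12) LN4_b12)
noncomputable def L_5 : Tr ℕ := (decT (nat_lit 16777216) (ms12) LN5_b12)
noncomputable def L_6 : Tr ℕ := (decT (nat_lit 16777216) (ms12) LN6_b12)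
noncomputable def L_7 : Tr ℕ := (decT (nat_lit 16777216) (ms12) LN7_b12)
noncomputable def L_8 : Tr ℕ := (decT (nat_lit 16777216) (ms12) LN8_b12)
noncomputable def L_9 : Tr ℕ := (decT (nat_lit 16777216) (ms12) LN9_b12)
noncomputable def L_10 : Tr ℕ := (decT (nat_lit 16777216) (ms12) LN10_b12)
noncomputable def L_11 : Tr ℕ := (decT (nat_lit 16777216) (ms12) LN11_b12)
noncomputable def L_12 : Tr ℕ := (decT (nat_lit 16777216) (ms12) LN12_b12)
noncomputable def L_13 : Tr ℕ := (decT (nat_lit 16777216) (ms12) LN13_b12)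
noncomputable def L_14 : Tr ℕ := (decT (nat_lit 16777216) (ms12) LN14_b12)
noncomputable def L_15 : Tr ℕ := (decT (nat_lit 16777216) (ms12) LN15_b12)
noncomputable def L_16 : Tr ℕ := (decT (nat_lit 16777216) (ms12) LN16_b12)
noncomputable def L_17 : Tr ℕ := (decT (nat_lit 16777216) (ms12) LN17_b12)
noncomputable def L_18 : Tr ℕ := (decT (nat_lit 16777216) (ms12) LN18_b12)
noncomputable def L_19 : Tr ℕ := (decT (nat_lit 16777216) (ms12) LN19_b12)
noncomputable def L_20 : Tr ℕ := (decT (nat_lit 16777216) (ms12) LN20_b12)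
noncomputable def L_21 : Tr ℕ := (decT (nat_lit 16777216) (ms12) LN21_b12)
noncomputable def L_22 : Tr ℕ := (decT (nat_lit 16777216) (ms12) LN22_b12)
noncomputable def L_23 : Tr ℕ := (decT (nat_lit 16777216) (ms12) LN23_b12)
noncomputable def L_24 : Tr ℕ := (decT (nat_lit 16777216) (ms12) LN24_b12)
noncomputable def L_25 : Tr ℕ := (decT (nat_lit 16777216) (ms12) LN25_b12)
noncomputable def L_26 : Tr ℕ := (decT (nat_lit 16777216) (ms12) LN26_b12)
noncomputable def L_27 : Tr ℕ := (decT (nat_lit 16777216) (ms12) LN27_b12)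
noncomputable def L_28 : Tr ℕ := (decT (nat_lit 16777216) (ms12) LN28_b12)
noncomputable def L_29 : Tr ℕ := (decT (nat_lit 16777216) (ms12) LN29_b12)
noncomputable def L_30 : Tr ℕ := (decT (nat_lit 16777216) (ms12) LN30_b12)
noncomputable def L_31 : Tr ℕ := (decT (nat_lit 16777216) (ms12) LN31_b12)
noncomputable def L_32 : Tr ℕ := (decT (nat_lit 16777216) (ms12) LN32_b12)
noncomputable def L_33 : Tr ℕ := (decT (nat_lit 16777216) (ms12) LN33_b12)
noncomputable def L_34 : Tr ℕ := (decT (nat_lit 16777216) (ms12) LN34_b12)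
noncomputable def L_35 : Tr ℕ := (decT (nat_lit 16777216) (ms12) LN35_b12)
noncomputable def L_36 : Tr ℕ := (decT (nat_lit 16777216) (ms12) LN36_b12)
noncomputable def L_37 : Tr ℕ := (decT (nat_lit 16777216) (ms12) LN37_b12)
noncomputable def L_38 : Tr ℕ := (decT (nat_lit 16777216) (ms12) LN38_b12)
noncomputable def L_39 : Tr ℕ := (decT (nat_lit 16777216) (ms12) LN39_b12)
noncomputable def L_40 : Tr ℕ := (decT (nat_lit 16777216) (ms12) LN40_b12)
noncomputable def L_41 : Tr ℕ := (decT (nat_lit 16777216) (ms12) LN41_b12)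
noncomputable def L_42 : Tr ℕ := (decT (nat_lit 16777216) (ms12) LN42_b12)
noncomputable def L_43 : Tr ℕ := (decT (nat_lit 16777216) (ms12) LN43_b12)
noncomputable def L_44 : Tr ℕ := (decT (nat_lit 16777216) (ms12) LN44_b12)
noncomputable def L_45 : Tr ℕ := (decT (nat_lit 16777216) (ms12) LN45_b12)
noncomputable def L_46 : Tr ℕ := (decT (nat_lit 16777216) (ms12) LN46_b12)
noncomputable def L_47 : Tr ℕ := (decT (nat_lit 16777216) (ms12) LN47_b12)
noncomputable def L_48 : Tr ℕ := (decT (nat_lit 16777216) (ms12) LN48_b12)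
noncomputable def L_49 : Tr ℕ := (decT (nat_lit 16777216) (ms12) LN49_b12)
noncomputable def L_50 : Tr ℕ := (decT (nat_lit 16777216) (ms12) LN50_b12)
noncomputable def L_51 : Tr ℕ := (decT (nat_lit 16777216) (ms12) LN51_b12)
noncomputable def L_52 : Tr ℕ := (decT (nat_lit 16777216) (ms12) LN52_b12)
noncomputable def L_53 : Tr ℕ := (decT (nat_lit 16777216) (ms12) LN53_b12)
noncomputable def L_54 : Tr ℕ := (decT (nat_lit 16777216) (ms12) LN54_b12)
noncomputable def L_55 : Tr ℕ := (decT (nat_lit 16777216) (ms12) LN55_b12)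
noncomputable def L_56 : Tr ℕ := (decT (nat_lit 16777216) (ms12) LN56_b12)
noncomputable def L_57 : Tr ℕ := (decT (nat_lit 16777216) (ms12) LN57_b12)
noncomputable def L_58 : Tr ℕ := (decT (nat_lit 16777216) (ms12) LN58_b12)
noncomputable def L_59 : Tr ℕ := (decT (nat_lit 16777216) (ms12) LN59_b12)
noncomputable def L_60 : Tr ℕ := (decT (nat_lit 16777216) (ms12) LN60_b12)
noncomputable def L_61 : Tr ℕ := (decT (nat_lit 16777216) (ms12) LN61_b12)
noncomputable def L_62 : Tr ℕ := (decT (nat_lit 16777216) (ms12) LN62_b12)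
noncomputable def L_63 : Tr ℕ := (decT (nat_lit 16777216) (ms12) LN63_b12)
noncomputable def L_64 : Tr ℕ := (decT (nat_lit 16777216) (ms12) LN64_b12)
noncomputable def L_65 : Tr ℕ := (decT (nat_lit 16777216) (ms12) LN65_b12)
noncomputable def L_66 : Tr ℕ := (decT (nat_lit 16777216) (ms12) LN66_b12)
noncomputable def L_67 : Tr ℕ := (decT (nat_lit 16777216) (ms12) LN67_b12)
noncomputable def L_68 : Tr ℕ := (decT (nat_lit 16777216) (ms12) LN68_b12)
noncomputable def L_69 : Tr ℕ := (decT (nat_lit 16777216) (ms12) LN69_b12)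
noncomputable def L_70 : Tr ℕ := (decT (nat_lit 16777216) (ms12) LN70_b12)
noncomputable def L_71 : Tr ℕ := (decT (nat_lit 16777216) (ms12) LN71_b12)
noncomputable def L_72 : Tr ℕ := (decT (nat_lit 16777216) (ms12) LN72_b12)
noncomputable def L_73 : Tr ℕ := (decT (nat_lit 16777216) (ms12) LN73_b12)
noncomputable def L_74 : Tr ℕ := (Tr.nd (nat_lit 10371553) (Tr.nd (nat_lit 10361437) (Tr.nd (nat_lit 10344773) (decT (nat_lit 16777216) (ms11) LN74_b11) (decT (nat_lit 16777216) (ms10) LN74_b10)) (Tr.nd (nat_lit 10369631) (decT (nat_lit 16777216) (ms9) LN74_b9) (decT (nat_lit 16777216) (ms7) LN74_b7))) (Tr.nd (nat_lit 10373119) (Tr.nd (nat_lit 10372639) (decT (nat_lit 16777216) (ms6) LN74_b6) (decT (nat_lit 16777216) (ms5) LN74_b5)) (Tr.nd (nat_lit 10373353) (decT (nat_lit 16777216) (ms4) LN74_b4) (decT (nat_lit 16777216) (ms3) LN74_b3))))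
noncomputable def L : Tr ℕ := (Tr.nd (nat_lit 7881739) (Tr.nd (nat_lit 6652979) (Tr.nd (nat_lit 6075263) (Tr.nd (nat_lit 5755531) (Tr.nd (nat_lit 5628131) (Tr.nd (nat_lit 5564497) L_0
L_1)
(Tr.nd (nat_lit 5692157) L_2
L_3))
(Tr.nd (nat_lit 5883737) (Tr.nd (nat_lit 5820037) L_4
L_5)
(Tr.nd (nat_lit 5946749) L_6
(Tr.nd (nat_lit 6010867) L_7
L_8))))
(Tr.nd (nat_lit 6330559) (Tr.nd (nat_lit 6203143) (Tr.nd (nat_lit 6139249) L_9
L_10)
(Tr.nd (nat_lit 6267619) L_11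
L_12))
(Tr.nd (nat_lit 6460379) (Tr.nd (nat_lit 6395947) L_13
L_14)
(Tr.nd (nat_lit 6524611) L_15
(Tr.nd (nat_lit 6588443) L_16
L_17)))))
(Tr.nd (nat_lit 7232899) (Tr.nd (nat_lit 6909907) (Tr.nd (nat_lit 6781547) (Tr.nd (nat_lit 6717307) L_18
L_19)
(Tr.nd (nat_lit 6846031) L_20
L_21))
(Tr.nd (nat_lit 7038397) (Tr.nd (nat_lit 6974053) L_22
L_23)
(Tr.nd (nat_lit 7102643) L_24
(Tr.nd (nat_lit 7167791) L_25
L_26))))
(Tr.nd (nat_lit 7557091) (Tr.nd (nat_lit 7362133) (Tr.nd (nat_lit 7296983) L_27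
L_28)
(Tr.nd (nat_lit 7427041) L_29
(Tr.nd (nat_lit 7492031) L_30
L_31)))
(Tr.nd (nat_lit 7686893) (Tr.nd (nat_lit 7622317) L_32
L_33)
(Tr.nd (nat_lit 7752179) L_34
(Tr.nd (nat_lit 7817143) L_35
L_36))))))
(Tr.nd (nat_lit 9124417) (Tr.nd (nat_lit 8469977) (Tr.nd (nat_lit 8143277) (Tr.nd (nat_lit 8012209) (Tr.nd (nat_lit 7946711) L_37
L_38)
(Tr.nd (nat_lit 8077529) L_39
L_40))
(Tr.nd (nat_lit 8273477) (Tr.nd (nat_lit 8208023) L_41
L_42)
(Tr.nd (nat_lit 8338643) L_43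
(Tr.nd (nat_lit 8403817) L_44
L_45))))
(Tr.nd (nat_lit 8795047) (Tr.nd (nat_lit 8599469) (Tr.nd (nat_lit 8534429) L_46
L_47)
(Tr.nd (nat_lit 8664559) L_48
(Tr.nd (nat_lit 8729821) L_49
L_50)))
(Tr.nd (nat_lit 8926363) (Tr.nd (nat_lit 8861159) L_51
L_52)
(Tr.nd (nat_lit 8992199) L_53
(Tr.nd (nat_lit 9058837) L_54
L_55)))))
(Tr.nd (nat_lit 9715969) (Tr.nd (nat_lit 9386471) (Tr.nd (nat_lit 9255023) (Tr.nd (nat_lit 9189703) L_56
L_57)
(Tr.nd (nat_lit 9320833) L_58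
L_59))
(Tr.nd (nat_lit 9518723) (Tr.nd (nat_lit 9452537) L_60
L_61)
(Tr.nd (nat_lit 9584063) L_62
(Tr.nd (nat_lit 9649747) L_63
L_64))))
(Tr.nd (nat_lit 10046903) (Tr.nd (nat_lit 9847967) (Tr.nd (nat_lit 9782029) L_65
L_66)
(Tr.nd (nat_lit 9914617) L_67
(Tr.nd (nat_lit 9980857) L_68
L_69)))
(Tr.nd (nat_lit 10179161) (Tr.nd (nat_lit 10112897) L_70
L_71)
(Tr.nd (nat_lit 10245751) L_72
(Tr.nd (nat_lit 10311997) L_73
L_74)))))))
abbrev q0 : ℕ := nat_lit 5500003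
noncomputable def T_l_n0_2 (X : ℕ) : ℕ := Bool.rec (motive := fun _ => ℕ) T_l_0 T_l_1 (Nat.ble (nat_lit 5564497) X)
noncomputable def T_l_n2_4 (X : ℕ) : ℕ := Bool.rec (motive := fun _ => ℕ) T_l_2 T_l_3 (Nat.ble (nat_lit 5692157) X)
noncomputable def T_l_n0_4 (X : ℕ) : ℕ := Bool.rec (motive := fun _ => ℕ) (T_l_n0_2 X) (T_l_n2_4 X) (Nat.ble (nat_lit 5628131) X)
noncomputable def T_l_n4_6 (X : ℕ) : ℕ := Bool.rec (motive := fun _ => ℕ) T_l_4 T_l_5 (Nat.ble (nat_lit 5820037) X)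
noncomputable def T_l_n7_9 (X : ℕ) : ℕ := Bool.rec (motive := fun _ => ℕ) T_l_7 T_l_8 (Nat.ble (nat_lit 6010867) X)
noncomputable def T_l_n6_9 (X : ℕ) : ℕ := Bool.rec (motive := fun _ => ℕ) T_l_6 (T_l_n7_9 X) (Nat.ble (nat_lit 5946749) X)
noncomputable def T_l_n4_9 (X : ℕ) : ℕ := Bool.rec (motive := fun _ => ℕ) (T_l_n4_6 X) (T_l_n6_9 X) (Nat.ble (nat_lit 5883737) X)
noncomputable def T_l_n0_9 (X : ℕ) : ℕ := Bool.rec (motive := fun _ => ℕ) (T_l_n0_4 X) (T_l_n4_9 X) (Nat.ble (nat_lit 5755531) X)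
noncomputable def T_l_n9_11 (X : ℕ) : ℕ := Bool.rec (motive := fun _ => ℕ) T_l_9 T_l_10 (Nat.ble (nat_lit 6139249) X)
noncomputable def T_l_n11_13 (X : ℕ) : ℕ := Bool.rec (motive := fun _ => ℕ) T_l_11 T_l_12 (Nat.ble (nat_lit 6267619) X)
noncomputable def T_l_n9_13 (X : ℕ) : ℕ := Bool.rec (motive := fun _ => ℕ) (T_l_n9_11 X) (T_l_n11_13 X) (Nat.ble (nat_lit 6203143) X)
noncomputable def T_l_n13_15 (X : ℕ) : ℕ := Bool.rec (motive := fun _ => ℕ) T_l_13 T_l_14 (Nat.ble (nat_lit 6395947) X)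
noncomputable def T_l_n16_18 (X : ℕ) : ℕ := Bool.rec (motive := fun _ => ℕ) T_l_16 T_l_17 (Nat.ble (nat_lit 6588443) X)
noncomputable def T_l_n15_18 (X : ℕ) : ℕ := Bool.rec (motive := fun _ => ℕ) T_l_15 (T_l_n16_18 X) (Nat.ble (nat_lit 6524611) X)
noncomputable def T_l_n13_18 (X : ℕ) : ℕ := Bool.rec (motive := fun _ => ℕ) (T_l_n13_15 X) (T_l_n15_18 X) (Nat.ble (nat_lit 6460379) X)
noncomputable def T_l_n9_18 (X : ℕ) : ℕ := Bool.rec (motive := fun _ => ℕ) (T_l_n9_13 X) (T_l_n13_18 X) (Nat.ble (nat_lit 6330559) X)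
noncomputable def T_l_n0_18 (X : ℕ) : ℕ := Bool.rec (motive := fun _ => ℕ) (T_l_n0_9 X) (T_l_n9_18 X) (Nat.ble (nat_lit 6075263) X)
noncomputable def T_l_n18_20 (X : ℕ) : ℕ := Bool.rec (motive := fun _ => ℕ) T_l_18 T_l_19 (Nat.ble (nat_lit 6717307) X)
noncomputable def T_l_n20_22 (X : ℕ) : ℕ := Bool.rec (motive := fun _ => ℕ) T_l_20 T_l_21 (Nat.ble (nat_lit 6846031) X)
noncomputable def T_l_n18_22 (X : ℕ) : ℕ := Bool.rec (motive := fun _ => ℕ) (T_l_n18_20 X) (T_l_n20_22 X) (Nat.ble (nat_lit 6781547) X)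
noncomputable def T_l_n22_24 (X : ℕ) : ℕ := Bool.rec (motive := fun _ => ℕ) T_l_22 T_l_23 (Nat.ble (nat_lit 6974053) X)
noncomputable def T_l_n25_27 (X : ℕ) : ℕ := Bool.rec (motive := fun _ => ℕ) T_l_25 T_l_26 (Nat.ble (nat_lit 7167791) X)
noncomputable def T_l_n24_27 (X : ℕ) : ℕ := Bool.rec (motive := fun _ => ℕ) T_l_24 (T_l_n25_27 X) (Nat.ble (nat_lit 7102643) X)
noncomputable def T_l_n22_27 (X : ℕ) : ℕ := Bool.rec (motive := fun _ => ℕ) (T_l_n22_24 X) (T_l_n24_27 X) (Nat.ble (nat_lit 7038397) X)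
noncomputable def T_l_n18_27 (X : ℕ) : ℕ := Bool.rec (motive := fun _ => ℕ) (T_l_n18_22 X) (T_l_n22_27 X) (Nat.ble (nat_lit 6909907) X)
noncomputable def T_l_n27_29 (X : ℕ) : ℕ := Bool.rec (motive := fun _ => ℕ) T_l_27 T_l_28 (Nat.ble (nat_lit 7296983) X)
noncomputable def T_l_n30_32 (X : ℕ) : ℕ := Bool.rec (motive := fun _ => ℕ) T_l_30 T_l_31 (Nat.ble (nat_lit 7492031) X)
noncomputable def T_l_n29_32 (X : ℕ) : ℕ := Bool.rec (motive := fun _ => ℕ) T_l_29 (T_l_n30_32 X) (Nat.ble (nat_lit 7427041) X)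
noncomputable def T_l_n27_32 (X : ℕ) : ℕ := Bool.rec (motive := fun _ => ℕ) (T_l_n27_29 X) (T_l_n29_32 X) (Nat.ble (nat_lit 7362133) X)
noncomputable def T_l_n32_34 (X : ℕ) : ℕ := Bool.rec (motive := fun _ => ℕ) T_l_32 T_l_33 (Nat.ble (nat_lit 7622317) X)
noncomputable def T_l_n35_37 (X : ℕ) : ℕ := Bool.rec (motive := fun _ => ℕ) T_l_35 T_l_36 (Nat.ble (nat_lit 7817143) X)
noncomputable def T_l_n34_37 (X : ℕ) : ℕ := Bool.rec (motive := fun _ => ℕ) T_l_34 (T_l_n35_37 X) (Nat.ble (nat_lit 7752179) X)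
noncomputable def T_l_n32_37 (X : ℕ) : ℕ := Bool.rec (motive := fun _ => ℕ) (T_l_n32_34 X) (T_l_n34_37 X) (Nat.ble (nat_lit 7686893) X)
noncomputable def T_l_n27_37 (X : ℕ) : ℕ := Bool.rec (motive := fun _ => ℕ) (T_l_n27_32 X) (T_l_n32_37 X) (Nat.ble (nat_lit 7557091) X)
noncomputable def T_l_n18_37 (X : ℕ) : ℕ := Bool.rec (motive := fun _ => ℕ) (T_l_n18_27 X) (T_l_n27_37 X) (Nat.ble (nat_lit 7232899) X)
noncomputable def T_l_n0_37 (X : ℕ) : ℕ := Bool.rec (motive := fun _ => ℕ) (T_l_n0_18 X) (T_l_n18_37 X) (Nat.ble (nat_lit 6652979) X)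
noncomputable def T_l_n37_39 (X : ℕ) : ℕ := Bool.rec (motive := fun _ => ℕ) T_l_37 T_l_38 (Nat.ble (nat_lit 7946711) X)
noncomputable def T_l_n39_41 (X : ℕ) : ℕ := Bool.rec (motive := fun _ => ℕ) T_l_39 T_l_40 (Nat.ble (nat_lit 8077529) X)
noncomputable def T_l_n37_41 (X : ℕ) : ℕ := Bool.rec (motive := fun _ => ℕ) (T_l_n37_39 X) (T_l_n39_41 X) (Nat.ble (nat_lit 8012209) X)
noncomputable def T_l_n41_43 (X : ℕ) : ℕ := Bool.rec (motive := fun _ => ℕ) T_l_41 T_l_42 (Nat.ble (nat_lit 8208023) X)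
noncomputable def T_l_n44_46 (X : ℕ) : ℕ := Bool.rec (motive := fun _ => ℕ) T_l_44 T_l_45 (Nat.ble (nat_lit 8403817) X)
noncomputable def T_l_n43_46 (X : ℕ) : ℕ := Bool.rec (motive := fun _ => ℕ) T_l_43 (T_l_n44_46 X) (Nat.ble (nat_lit 8338643) X)
noncomputable def T_l_n41_46 (X : ℕ) : ℕ := Bool.rec (motive := fun _ => ℕ) (T_l_n41_43 X) (T_l_n43_46 X) (Nat.ble (nat_lit 8273477) X)
noncomputable def T_l_n37_46 (X : ℕ) : ℕ := Bool.rec (motive := fun _ => ℕ) (T_l_n37_41 X) (T_l_n41_46 X) (Nat.ble (nat_lit 8143277) X)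
noncomputable def T_l_n46_48 (X : ℕ) : ℕ := Bool.rec (motive := fun _ => ℕ) T_l_46 T_l_47 (Nat.ble (nat_lit 8534429) X)
noncomputable def T_l_n49_51 (X : ℕ) : ℕ := Bool.rec (motive := fun _ => ℕ) T_l_49 T_l_50 (Nat.ble (nat_lit 8729821) X)
noncomputable def T_l_n48_51 (X : ℕ) : ℕ := Bool.rec (motive := fun _ => ℕ) T_l_48 (T_l_n49_51 X) (Nat.ble (nat_lit 8664559) X)
noncomputable def T_l_n46_51 (X : ℕ) : ℕ := Bool.rec (motive := fun _ => ℕ) (T_l_n46_48 X) (T_l_n48_51 X) (Nat.ble (nat_lit 8599469) X)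
noncomputable def T_l_n51_53 (X : ℕ) : ℕ := Bool.rec (motive := fun _ => ℕ) T_l_51 T_l_52 (Nat.ble (nat_lit 8861159) X)
noncomputable def T_l_n54_56 (X : ℕ) : ℕ := Bool.rec (motive := fun _ => ℕ) T_l_54 T_l_55 (Nat.ble (nat_lit 9058837) X)
noncomputable def T_l_n53_56 (X : ℕ) : ℕ := Bool.rec (motive := fun _ => ℕ) T_l_53 (T_l_n54_56 X) (Nat.ble (nat_lit 8992199) X)
noncomputable def T_l_n51_56 (X : ℕ) : ℕ := Bool.rec (motive := fun _ => ℕ) (T_l_n51_53 X) (T_l_n53_56 X) (Nat.ble (nat_lit 8926363) X)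
noncomputable def T_l_n46_56 (X : ℕ) : ℕ := Bool.rec (motive := fun _ => ℕ) (T_l_n46_51 X) (T_l_n51_56 X) (Nat.ble (nat_lit 8795047) X)
noncomputable def T_l_n37_56 (X : ℕ) : ℕ := Bool.rec (motive := fun _ => ℕ) (T_l_n37_46 X) (T_l_n46_56 X) (Nat.ble (nat_lit 8469977) X)
noncomputable def T_l_n56_58 (X : ℕ) : ℕ := Bool.rec (motive := fun _ => ℕ) T_l_56 T_l_57 (Nat.ble (nat_lit 9189703) X)
noncomputable def T_l_n58_60 (X : ℕ) : ℕ := Bool.rec (motive := fun _ => ℕ) T_l_58 T_l_59 (Nat.ble (nat_lit 9320833) X)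
noncomputable def T_l_n56_60 (X : ℕ) : ℕ := Bool.rec (motive := fun _ => ℕ) (T_l_n56_58 X) (T_l_n58_60 X) (Nat.ble (nat_lit 9255023) X)
noncomputable def T_l_n60_62 (X : ℕ) : ℕ := Bool.rec (motive := fun _ => ℕ) T_l_60 T_l_61 (Nat.ble (nat_lit 9452537) X)
noncomputable def T_l_n63_65 (X : ℕ) : ℕ := Bool.rec (motive := fun _ => ℕ) T_l_63 T_l_64 (Nat.ble (nat_lit 9649747) X)
noncomputable def T_l_n62_65 (X : ℕ) : ℕ := Bool.rec (motive := fun _ => ℕ) T_l_62 (T_l_n63_65 X) (Nat.ble (nat_lit 9584063) X)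
noncomputable def T_l_n60_65 (X : ℕ) : ℕ := Bool.rec (motive := fun _ => ℕ) (T_l_n60_62 X) (T_l_n62_65 X) (Nat.ble (nat_lit 9518723) X)
noncomputable def T_l_n56_65 (X : ℕ) : ℕ := Bool.rec (motive := fun _ => ℕ) (T_l_n56_60 X) (T_l_n60_65 X) (Nat.ble (nat_lit 9386471) X)
noncomputable def T_l_n65_67 (X : ℕ) : ℕ := Bool.rec (motive := fun _ => ℕ) T_l_65 T_l_66 (Nat.ble (nat_lit 9782029) X)
noncomputable def T_l_n68_70 (X : ℕ) : ℕ := Bool.rec (motive := fun _ => ℕ) T_l_68 T_l_69 (Nat.ble (nat_lit 9980857) X)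
noncomputable def T_l_n67_70 (X : ℕ) : ℕ := Bool.rec (motive := fun _ => ℕ) T_l_67 (T_l_n68_70 X) (Nat.ble (nat_lit 9914617) X)
noncomputable def T_l_n65_70 (X : ℕ) : ℕ := Bool.rec (motive := fun _ => ℕ) (T_l_n65_67 X) (T_l_n67_70 X) (Nat.ble (nat_lit 9847967) X)
noncomputable def T_l_n70_72 (X : ℕ) : ℕ := Bool.rec (motive := fun _ => ℕ) T_l_70 T_l_71 (Nat.ble (nat_lit 10112897) X)
noncomputable def T_l_n73_75 (X : ℕ) : ℕ := Bool.rec (motive := fun _ => ℕ) T_l_73 T_l_74 (Nat.ble (nat_lit 10311997) X)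
noncomputable def T_l_n72_75 (X : ℕ) : ℕ := Bool.rec (motive := fun _ => ℕ) T_l_72 (T_l_n73_75 X) (Nat.ble (nat_lit 10245751) X)
noncomputable def T_l_n70_75 (X : ℕ) : ℕ := Bool.rec (motive := fun _ => ℕ) (T_l_n70_72 X) (T_l_n72_75 X) (Nat.ble (nat_lit 10179161) X)
noncomputable def T_l_n65_75 (X : ℕ) : ℕ := Bool.rec (motive := fun _ => ℕ) (T_l_n65_70 X) (T_l_n70_75 X) (Nat.ble (nat_lit 10046903) X)
noncomputable def T_l_n56_75 (X : ℕ) : ℕ := Bool.rec (motive := fun _ => ℕ) (T_l_n56_65 X) (T_l_n65_75 X) (Nat.ble (nat_lit 9715969) X)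
noncomputable def T_l_n37_75 (X : ℕ) : ℕ := Bool.rec (motive := fun _ => ℕ) (T_l_n37_56 X) (T_l_n56_75 X) (Nat.ble (nat_lit 9124417) X)
noncomputable def T_l_sel (X : ℕ) : ℕ := Bool.rec (motive := fun _ => ℕ) (T_l_n0_37 X) (T_l_n37_75 X) (Nat.ble (nat_lit 7881739) X)
noncomputable def F_l (q : ℕ) : ℕ := Nat.add (nat_lit 5500000) (Nat.mod (T_l_sel q) q)
noncomputable def U_l_n0_2 (X : ℕ) : ℕ := Bool.rec (motive := fun _ => ℕ) U_l_0 U_l_1 (Nat.ble (nat_lit 5564497) X)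
noncomputable def U_l_n2_4 (X : ℕ) : ℕ := Bool.rec (motive := fun _ => ℕ) U_l_2 U_l_3 (Nat.ble (nat_lit 5692157) X)
noncomputable def U_l_n0_4 (X : ℕ) : ℕ := Bool.rec (motive := fun _ => ℕ) (U_l_n0_2 X) (U_l_n2_4 X) (Nat.ble (nat_lit 5628131) X)
noncomputable def U_l_n4_6 (X : ℕ) : ℕ := Bool.rec (motive := fun _ => ℕ) U_l_4 U_l_5 (Nat.ble (nat_lit 5820037) X)
noncomputable def U_l_n7_9 (X : ℕ) : ℕ := Bool.rec (motive := fun _ => ℕ) U_l_7 U_l_8 (Nat.ble (nat_lit 6010867) X)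
noncomputable def U_l_n6_9 (X : ℕ) : ℕ := Bool.rec (motive := fun _ => ℕ) U_l_6 (U_l_n7_9 X) (Nat.ble (nat_lit 5946749) X)
noncomputable def U_l_n4_9 (X : ℕ) : ℕ := Bool.rec (motive := fun _ => ℕ) (U_l_n4_6 X) (U_l_n6_9 X) (Nat.ble (nat_lit 5883737) X)
noncomputable def U_l_n0_9 (X : ℕ) : ℕ := Bool.rec (motive := fun _ => ℕ) (U_l_n0_4 X) (U_l_n4_9 X) (Nat.ble (nat_lit 5755531) X)
noncomputable def U_l_n9_11 (X : ℕ) : ℕ := Bool.rec (motive := fun _ => ℕ) U_l_9 U_l_10 (Nat.ble (nat_lit 6139249) X)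
noncomputable def U_l_n11_13 (X : ℕ) : ℕ := Bool.rec (motive := fun _ => ℕ) U_l_11 U_l_12 (Nat.ble (nat_lit 6267619) X)
noncomputable def U_l_n9_13 (X : ℕ) : ℕ := Bool.rec (motive := fun _ => ℕ) (U_l_n9_11 X) (U_l_n11_13 X) (Nat.ble (nat_lit 6203143) X)
noncomputable def U_l_n13_15 (X : ℕ) : ℕ := Bool.rec (motive := fun _ => ℕ) U_l_13 U_l_14 (Nat.ble (nat_lit 6395947) X)
noncomputable def U_l_n16_18 (X : ℕ) : ℕ := Bool.rec (motive := fun _ => ℕ) U_l_16 U_l_17 (Nat.ble (nat_lit 6588443) X)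
noncomputable def U_l_n15_18 (X : ℕ) : ℕ := Bool.rec (motive := fun _ => ℕ) U_l_15 (U_l_n16_18 X) (Nat.ble (nat_lit 6524611) X)
noncomputable def U_l_n13_18 (X : ℕ) : ℕ := Bool.rec (motive := fun _ => ℕ) (U_l_n13_15 X) (U_l_n15_18 X) (Nat.ble (nat_lit 6460379) X)
noncomputable def U_l_n9_18 (X : ℕ) : ℕ := Bool.rec (motive := fun _ => ℕ) (U_l_n9_13 X) (U_l_n13_18 X) (Nat.ble (nat_lit 6330559) X)
noncomputable def U_l_n0_18 (X : ℕ) : ℕ := Bool.rec (motive := fun _ => ℕ) (U_l_n0_9 X) (U_l_n9_18 X) (Nat.ble (nat_lit 6075263) X)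
noncomputable def U_l_n18_20 (X : ℕ) : ℕ := Bool.rec (motive := fun _ => ℕ) U_l_18 U_l_19 (Nat.ble (nat_lit 6717307) X)
noncomputable def U_l_n20_22 (X : ℕ) : ℕ := Bool.rec (motive := fun _ => ℕ) U_l_20 U_l_21 (Nat.ble (nat_lit 6846031) X)
noncomputable def U_l_n18_22 (X : ℕ) : ℕ := Bool.rec (motive := fun _ => ℕ) (U_l_n18_20 X) (U_l_n20_22 X) (Nat.ble (nat_lit 6781547) X)
noncomputable def U_l_n22_24 (X : ℕ) : ℕ := Bool.rec (motive := fun _ => ℕ) U_l_22 U_l_23 (Nat.ble (nat_lit 6974053) X)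
noncomputable def U_l_n25_27 (X : ℕ) : ℕ := Bool.rec (motive := fun _ => ℕ) U_l_25 U_l_26 (Nat.ble (nat_lit 7167791) X)
noncomputable def U_l_n24_27 (X : ℕ) : ℕ := Bool.rec (motive := fun _ => ℕ) U_l_24 (U_l_n25_27 X) (Nat.ble (nat_lit 7102643) X)
noncomputable def U_l_n22_27 (X : ℕ) : ℕ := Bool.rec (motive := fun _ => ℕ) (U_l_n22_24 X) (U_l_n24_27 X) (Nat.ble (nat_lit 7038397) X)
noncomputable def U_l_n18_27 (X : ℕ) : ℕ := Bool.rec (motive := fun _ => ℕ) (U_l_n18_22 X) (U_l_n22_27 X) (Nat.ble (nat_lit 6909907) X)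
noncomputable def U_l_n27_29 (X : ℕ) : ℕ := Bool.rec (motive := fun _ => ℕ) U_l_27 U_l_28 (Nat.ble (nat_lit 7296983) X)
noncomputable def U_l_n30_32 (X : ℕ) : ℕ := Bool.rec (motive := fun _ => ℕ) U_l_30 U_l_31 (Nat.ble (nat_lit 7492031) X)
noncomputable def U_l_n29_32 (X : ℕ) : ℕ := Bool.rec (motive := fun _ => ℕ) U_l_29 (U_l_n30_32 X) (Nat.ble (nat_lit 7427041) X)
noncomputable def U_l_n27_32 (X : ℕ) : ℕ := Bool.rec (motive := fun _ => ℕ) (U_l_n27_29 X) (U_l_n29_32 X) (Nat.ble (nat_lit 7362133) X)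
noncomputable def U_l_n32_34 (X : ℕ) : ℕ := Bool.rec (motive := fun _ => ℕ) U_l_32 U_l_33 (Nat.ble (nat_lit 7622317) X)
noncomputable def U_l_n35_37 (X : ℕ) : ℕ := Bool.rec (motive := fun _ => ℕ) U_l_35 U_l_36 (Nat.ble (nat_lit 7817143) X)
noncomputable def U_l_n34_37 (X : ℕ) : ℕ := Bool.rec (motive := fun _ => ℕ) U_l_34 (U_l_n35_37 X) (Nat.ble (nat_lit 7752179) X)
noncomputable def U_l_n32_37 (X : ℕ) : ℕ := Bool.rec (motive := fun _ => ℕ) (U_l_n32_34 X) (U_l_n34_37 X) (Nat.ble (nat_lit 7686893) X)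
noncomputable def U_l_n27_37 (X : ℕ) : ℕ := Bool.rec (motive := fun _ => ℕ) (U_l_n27_32 X) (U_l_n32_37 X) (Nat.ble (nat_lit 7557091) X)
noncomputable def U_l_n18_37 (X : ℕ) : ℕ := Bool.rec (motive := fun _ => ℕ) (U_l_n18_27 X) (U_l_n27_37 X) (Nat.ble (nat_lit 7232899) X)
noncomputable def U_l_n0_37 (X : ℕ) : ℕ := Bool.rec (motive := fun _ => ℕ) (U_l_n0_18 X) (U_l_n18_37 X) (Nat.ble (nat_lit 6652979) X)
noncomputable def U_l_n37_39 (X : ℕ) : ℕ := Bool.rec (motive := fun _ => ℕ) U_l_37 U_l_38 (Nat.ble (nat_lit 7946711) X)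
noncomputable def U_l_n39_41 (X : ℕ) : ℕ := Bool.rec (motive := fun _ => ℕ) U_l_39 U_l_40 (Nat.ble (nat_lit 8077529) X)
noncomputable def U_l_n37_41 (X : ℕ) : ℕ := Bool.rec (motive := fun _ => ℕ) (U_l_n37_39 X) (U_l_n39_41 X) (Nat.ble (nat_lit 8012209) X)
noncomputable def U_l_n41_43 (X : ℕ) : ℕ := Bool.rec (motive := fun _ => ℕ) U_l_41 U_l_42 (Nat.ble (nat_lit 8208023) X)
noncomputable def U_l_n44_46 (X : ℕ) : ℕ := Bool.rec (motive := fun _ => ℕ) U_l_44 U_l_45 (Nat.ble (nat_lit 8403817) X)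
noncomputable def U_l_n43_46 (X : ℕ) : ℕ := Bool.rec (motive := fun _ => ℕ) U_l_43 (U_l_n44_46 X) (Nat.ble (nat_lit 8338643) X)
noncomputable def U_l_n41_46 (X : ℕ) : ℕ := Bool.rec (motive := fun _ => ℕ) (U_l_n41_43 X) (U_l_n43_46 X) (Nat.ble (nat_lit 8273477) X)
noncomputable def U_l_n37_46 (X : ℕ) : ℕ := Bool.rec (motive := fun _ => ℕ) (U_l_n37_41 X) (U_l_n41_46 X) (Nat.ble (nat_lit 8143277) X)
noncomputable def U_l_n46_48 (X : ℕ) : ℕ := Bool.rec (motive := fun _ => ℕ) U_l_46 U_l_47 (Nat.ble (nat_lit 8534429) X)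
noncomputable def U_l_n49_51 (X : ℕ) : ℕ := Bool.rec (motive := fun _ => ℕ) U_l_49 U_l_50 (Nat.ble (nat_lit 8729821) X)
noncomputable def U_l_n48_51 (X : ℕ) : ℕ := Bool.rec (motive := fun _ => ℕ) U_l_48 (U_l_n49_51 X) (Nat.ble (nat_lit 8664559) X)
noncomputable def U_l_n46_51 (X : ℕ) : ℕ := Bool.rec (motive := fun _ => ℕ) (U_l_n46_48 X) (U_l_n48_51 X) (Nat.ble (nat_lit 8599469) X)
noncomputable def U_l_n51_53 (X : ℕ) : ℕ := Bool.rec (motive := fun _ => ℕ) U_l_51 U_l_52 (Nat.ble (nat_lit 8861159) X)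
noncomputable def U_l_n54_56 (X : ℕ) : ℕ := Bool.rec (motive := fun _ => ℕ) U_l_54 U_l_55 (Nat.ble (nat_lit 9058837) X)
noncomputable def U_l_n53_56 (X : ℕ) : ℕ := Bool.rec (motive := fun _ => ℕ) U_l_53 (U_l_n54_56 X) (Nat.ble (nat_lit 8992199) X)
noncomputable def U_l_n51_56 (X : ℕ) : ℕ := Bool.rec (motive := fun _ => ℕ) (U_l_n51_53 X) (U_l_n53_56 X) (Nat.ble (nat_lit 8926363) X)
noncomputable def U_l_n46_56 (X : ℕ) : ℕ := Bool.rec (motive := fun _ => ℕ) (U_l_n46_51 X) (U_l_n51_56 X) (Nat.ble (nat_lit 8795047) X)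
noncomputable def U_l_n37_56 (X : ℕ) : ℕ := Bool.rec (motive := fun _ => ℕ) (U_l_n37_46 X) (U_l_n46_56 X) (Nat.ble (nat_lit 8469977) X)
noncomputable def U_l_n56_58 (X : ℕ) : ℕ := Bool.rec (motive := fun _ => ℕ) U_l_56 U_l_57 (Nat.ble (nat_lit 9189703) X)
noncomputable def U_l_n58_60 (X : ℕ) : ℕ := Bool.rec (motive := fun _ => ℕ) U_l_58 U_l_59 (Nat.ble (nat_lit 9320833) X)
noncomputable def U_l_n56_60 (X : ℕ) : ℕ := Bool.rec (motive := fun _ => ℕ) (U_l_n56_58 X) (U_l_n58_60 X) (Nat.ble (nat_lit 9255023) X)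
noncomputable def U_l_n60_62 (X : ℕ) : ℕ := Bool.rec (motive := fun _ => ℕ) U_l_60 U_l_61 (Nat.ble (nat_lit 9452537) X)
noncomputable def U_l_n63_65 (X : ℕ) : ℕ := Bool.rec (motive := fun _ => ℕ) U_l_63 U_l_64 (Nat.ble (nat_lit 9649747) X)
noncomputable def U_l_n62_65 (X : ℕ) : ℕ := Bool.rec (motive := fun _ => ℕ) U_l_62 (U_l_n63_65 X) (Nat.ble (nat_lit 9584063) X)
noncomputable def U_l_n60_65 (X : ℕ) : ℕ := Bool.rec (motive := fun _ => ℕ) (U_l_n60_62 X) (U_l_n62_65 X) (Nat.ble (nat_lit 9518723) X)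
noncomputable def U_l_n56_65 (X : ℕ) : ℕ := Bool.rec (motive := fun _ => ℕ) (U_l_n56_60 X) (U_l_n60_65 X) (Nat.ble (nat_lit 9386471) X)
noncomputable def U_l_n65_67 (X : ℕ) : ℕ := Bool.rec (motive := fun _ => ℕ) U_l_65 U_l_66 (Nat.ble (nat_lit 9782029) X)
noncomputable def U_l_n68_70 (X : ℕ) : ℕ := Bool.rec (motive := fun _ => ℕ) U_l_68 U_l_69 (Nat.ble (nat_lit 9980857) X)
noncomputable def U_l_n67_70 (X : ℕ) : ℕ := Bool.rec (motive := fun _ => ℕ) U_l_67 (U_l_n68_70 X) (Nat.ble (nat_lit 9914617) X)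
noncomputable def U_l_n65_70 (X : ℕ) : ℕ := Bool.rec (motive := fun _ => ℕ) (U_l_n65_67 X) (U_l_n67_70 X) (Nat.ble (nat_lit 9847967) X)
noncomputable def U_l_n70_72 (X : ℕ) : ℕ := Bool.rec (motive := fun _ => ℕ) U_l_70 U_l_71 (Nat.ble (nat_lit 10112897) X)
noncomputable def U_l_n73_75 (X : ℕ) : ℕ := Bool.rec (motive := fun _ => ℕ) U_l_73 U_l_74 (Nat.ble (nat_lit 10311997) X)
noncomputable def U_l_n72_75 (X : ℕ) : ℕ := Bool.rec (motive := fun _ => ℕ) U_l_72 (U_l_n73_75 X) (Nat.ble (nat_lit 10245751) X)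
noncomputable def U_l_n70_75 (X : ℕ) : ℕ := Bool.rec (motive := fun _ => ℕ) (U_l_n70_72 X) (U_l_n72_75 X) (Nat.ble (nat_lit 10179161) X)
noncomputable def U_l_n65_75 (X : ℕ) : ℕ := Bool.rec (motive := fun _ => ℕ) (U_l_n65_70 X) (U_l_n70_75 X) (Nat.ble (nat_lit 10046903) X)
noncomputable def U_l_n56_75 (X : ℕ) : ℕ := Bool.rec (motive := fun _ => ℕ) (U_l_n56_65 X) (U_l_n65_75 X) (Nat.ble (nat_lit 9715969) X)
noncomputable def U_l_n37_75 (X : ℕ) : ℕ := Bool.rec (motive := fun _ => ℕ) (U_l_n37_56 X) (U_l_n56_75 X) (Nat.ble (nat_lit 9124417) X)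
noncomputable def U_l_sel (X : ℕ) : ℕ := Bool.rec (motive := fun _ => ℕ) (U_l_n0_37 X) (U_l_n37_75 X) (Nat.ble (nat_lit 7881739) X)
noncomputable def UU_l (q : ℕ) : ℕ := (Nat.mod (U_l_sel q) q)
noncomputable def V_l_n0_2 (X : ℕ) : ℕ := Bool.rec (motive := fun _ => ℕ) V_l_0 V_l_1 (Nat.ble (nat_lit 5564497) X)
noncomputable def V_l_n2_4 (X : ℕ) : ℕ := Bool.rec (motive := fun _ => ℕ) V_l_2 V_l_3 (Nat.ble (nat_lit 5692157) X)
noncomputable def V_l_n0_4 (X : ℕ) : ℕ := Bool.rec (motive := fun _ => ℕ) (V_l_n0_2 X) (V_l_n2_4 X) (Nat.ble (nat_lit 5628131) X)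
noncomputable def V_l_n4_6 (X : ℕ) : ℕ := Bool.rec (motive := fun _ => ℕ) V_l_4 V_l_5 (Nat.ble (nat_lit 5820037) X)
noncomputable def V_l_n7_9 (X : ℕ) : ℕ := Bool.rec (motive := fun _ => ℕ) V_l_7 V_l_8 (Nat.ble (nat_lit 6010867) X)
noncomputable def V_l_n6_9 (X : ℕ) : ℕ := Bool.rec (motive := fun _ => ℕ) V_l_6 (V_l_n7_9 X) (Nat.ble (nat_lit 5946749) X)
noncomputable def V_l_n4_9 (X : ℕ) : ℕ := Bool.rec (motive := fun _ => ℕ) (V_l_n4_6 X) (V_l_n6_9 X) (Nat.ble (nat_lit 5883737) X)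
noncomputable def V_l_n0_9 (X : ℕ) : ℕ := Bool.rec (motive := fun _ => ℕ) (V_l_n0_4 X) (V_l_n4_9 X) (Nat.ble (nat_lit 5755531) X)
noncomputable def V_l_n9_11 (X : ℕ) : ℕ := Bool.rec (motive := fun _ => ℕ) V_l_9 V_l_10 (Nat.ble (nat_lit 6139249) X)
noncomputable def V_l_n11_13 (X : ℕ) : ℕ := Bool.rec (motive := fun _ => ℕ) V_l_11 V_l_12 (Nat.ble (nat_lit 6267619) X)
noncomputable def V_l_n9_13 (X : ℕ) : ℕ := Bool.rec (motive := fun _ => ℕ) (V_l_n9_11 X) (V_l_n11_13 X) (Nat.ble (nat_lit 6203143) X)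
noncomputable def V_l_n13_15 (X : ℕ) : ℕ := Bool.rec (motive := fun _ => ℕ) V_l_13 V_l_14 (Nat.ble (nat_lit 6395947) X)
noncomputable def V_l_n16_18 (X : ℕ) : ℕ := Bool.rec (motive := fun _ => ℕ) V_l_16 V_l_17 (Nat.ble (nat_lit 6588443) X)
noncomputable def V_l_n15_18 (X : ℕ) : ℕ := Bool.rec (motive := fun _ => ℕ) V_l_15 (V_l_n16_18 X) (Nat.ble (nat_lit 6524611) X)
noncomputable def V_l_n13_18 (X : ℕ) : ℕ := Bool.rec (motive := fun _ => ℕ) (V_l_n13_15 X) (V_l_n15_18 X) (Nat.ble (nat_lit 6460379) X)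
noncomputable def V_l_n9_18 (X : ℕ) : ℕ := Bool.rec (motive := fun _ => ℕ) (V_l_n9_13 X) (V_l_n13_18 X) (Nat.ble (nat_lit 6330559) X)
noncomputable def V_l_n0_18 (X : ℕ) : ℕ := Bool.rec (motive := fun _ => ℕ) (V_l_n0_9 X) (V_l_n9_18 X) (Nat.ble (nat_lit 6075263) X)
noncomputable def V_l_n18_20 (X : ℕ) : ℕ := Bool.rec (motive := fun _ => ℕ) V_l_18 V_l_19 (Nat.ble (nat_lit 6717307) X)
noncomputable def V_l_n20_22 (X : ℕ) : ℕ := Bool.rec (motive := fun _ => ℕ) V_l_20 V_l_21 (Nat.ble (nat_lit 6846031) X)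
noncomputable def V_l_n18_22 (X : ℕ) : ℕ := Bool.rec (motive := fun _ => ℕ) (V_l_n18_20 X) (V_l_n20_22 X) (Nat.ble (nat_lit 6781547) X)
noncomputable def V_l_n22_24 (X : ℕ) : ℕ := Bool.rec (motive := fun _ => ℕ) V_l_22 V_l_23 (Nat.ble (nat_lit 6974053) X)
noncomputable def V_l_n25_27 (X : ℕ) : ℕ := Bool.rec (motive := fun _ => ℕ) V_l_25 V_l_26 (Nat.ble (nat_lit 7167791) X)
noncomputable def V_l_n24_27 (X : ℕ) : ℕ := Bool.rec (motive := fun _ => ℕ) V_l_24 (V_l_n25_27 X) (Nat.ble (nat_lit 7102643) X)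
noncomputable def V_l_n22_27 (X : ℕ) : ℕ := Bool.rec (motive := fun _ => ℕ) (V_l_n22_24 X) (V_l_n24_27 X) (Nat.ble (nat_lit 7038397) X)
noncomputable def V_l_n18_27 (X : ℕ) : ℕ := Bool.rec (motive := fun _ => ℕ) (V_l_n18_22 X) (V_l_n22_27 X) (Nat.ble (nat_lit 6909907) X)
noncomputable def V_l_n27_29 (X : ℕ) : ℕ := Bool.rec (motive := fun _ => ℕ) V_l_27 V_l_28 (Nat.ble (nat_lit 7296983) X)
noncomputable def V_l_n30_32 (X : ℕ) : ℕ := Bool.rec (motive := fun _ => ℕ) V_l_30 V_l_31 (Nat.ble (nat_lit 7492031) X)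
noncomputable def V_l_n29_32 (X : ℕ) : ℕ := Bool.rec (motive := fun _ => ℕ) V_l_29 (V_l_n30_32 X) (Nat.ble (nat_lit 7427041) X)
noncomputable def V_l_n27_32 (X : ℕ) : ℕ := Bool.rec (motive := fun _ => ℕ) (V_l_n27_29 X) (V_l_n29_32 X) (Nat.ble (nat_lit 7362133) X)
noncomputable def V_l_n32_34 (X : ℕ) : ℕ := Bool.rec (motive := fun _ => ℕ) V_l_32 V_l_33 (Nat.ble (nat_lit 7622317) X)
noncomputable def V_l_n35_37 (X : ℕ) : ℕ := Bool.rec (motive := fun _ => ℕ) V_l_35 V_l_36 (Nat.ble (nat_lit 7817143) X)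
noncomputable def V_l_n34_37 (X : ℕ) : ℕ := Bool.rec (motive := fun _ => ℕ) V_l_34 (V_l_n35_37 X) (Nat.ble (nat_lit 7752179) X)
noncomputable def V_l_n32_37 (X : ℕ) : ℕ := Bool.rec (motive := fun _ => ℕ) (V_l_n32_34 X) (V_l_n34_37 X) (Nat.ble (nat_lit 7686893) X)
noncomputable def V_l_n27_37 (X : ℕ) : ℕ := Bool.rec (motive := fun _ => ℕ) (V_l_n27_32 X) (V_l_n32_37 X) (Nat.ble (nat_lit 7557091) X)
noncomputable def V_l_n18_37 (X : ℕ) : ℕ := Bool.rec (motive := fun _ => ℕ) (V_l_n18_27 X) (V_l_n27_37 X) (Nat.ble (nat_lit 7232899) X)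
noncomputable def V_l_n0_37 (X : ℕ) : ℕ := Bool.rec (motive := fun _ => ℕ) (V_l_n0_18 X) (V_l_n18_37 X) (Nat.ble (nat_lit 6652979) X)
noncomputable def V_l_n37_39 (X : ℕ) : ℕ := Bool.rec (motive := fun _ => ℕ) V_l_37 V_l_38 (Nat.ble (nat_lit 7946711) X)
noncomputable def V_l_n39_41 (X : ℕ) : ℕ := Bool.rec (motive := fun _ => ℕ) V_l_39 V_l_40 (Nat.ble (nat_lit 8077529) X)
noncomputable def V_l_n37_41 (X : ℕ) : ℕ := Bool.rec (motive := fun _ => ℕ) (V_l_n37_39 X) (V_l_n39_41 X) (Nat.ble (nat_lit 8012209) X)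
noncomputable def V_l_n41_43 (X : ℕ) : ℕ := Bool.rec (motive := fun _ => ℕ) V_l_41 V_l_42 (Nat.ble (nat_lit 8208023) X)
noncomputable def V_l_n44_46 (X : ℕ) : ℕ := Bool.rec (motive := fun _ => ℕ) V_l_44 V_l_45 (Nat.ble (nat_lit 8403817) X)
noncomputable def V_l_n43_46 (X : ℕ) : ℕ := Bool.rec (motive := fun _ => ℕ) V_l_43 (V_l_n44_46 X) (Nat.ble (nat_lit 8338643) X)
noncomputable def V_l_n41_46 (X : ℕ) : ℕ := Bool.rec (motive := fun _ => ℕ) (V_l_n41_43 X) (V_l_n43_46 X) (Nat.ble (nat_lit 8273477) X)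
noncomputable def V_l_n37_46 (X : ℕ) : ℕ := Bool.rec (motive := fun _ => ℕ) (V_l_n37_41 X) (V_l_n41_46 X) (Nat.ble (nat_lit 8143277) X)
noncomputable def V_l_n46_48 (X : ℕ) : ℕ := Bool.rec (motive := fun _ => ℕ) V_l_46 V_l_47 (Nat.ble (nat_lit 8534429) X)
noncomputable def V_l_n49_51 (X : ℕ) : ℕ := Bool.rec (motive := fun _ => ℕ) V_l_49 V_l_50 (Nat.ble (nat_lit 8729821) X)
noncomputable def V_l_n48_51 (X : ℕ) : ℕ := Bool.rec (motive := fun _ => ℕ) V_l_48 (V_l_n49_51 X) (Nat.ble (nat_lit 8664559) X)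
noncomputable def V_l_n46_51 (X : ℕ) : ℕ := Bool.rec (motive := fun _ => ℕ) (V_l_n46_48 X) (V_l_n48_51 X) (Nat.ble (nat_lit 8599469) X)
noncomputable def V_l_n51_53 (X : ℕ) : ℕ := Bool.rec (motive := fun _ => ℕ) V_l_51 V_l_52 (Nat.ble (nat_lit 8861159) X)
noncomputable def V_l_n54_56 (X : ℕ) : ℕ := Bool.rec (motive := fun _ => ℕ) V_l_54 V_l_55 (Nat.ble (nat_lit 9058837) X)
noncomputable def V_l_n53_56 (X : ℕ) : ℕ := Bool.rec (motive := fun _ => ℕ) V_l_53 (V_l_n54_56 X) (Nat.ble (nat_lit 8992199) X)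
noncomputable def V_l_n51_56 (X : ℕ) : ℕ := Bool.rec (motive := fun _ => ℕ) (V_l_n51_53 X) (V_l_n53_56 X) (Nat.ble (nat_lit 8926363) X)
noncomputable def V_l_n46_56 (X : ℕ) : ℕ := Bool.rec (motive := fun _ => ℕ) (V_l_n46_51 X) (V_l_n51_56 X) (Nat.ble (nat_lit 8795047) X)
noncomputable def V_l_n37_56 (X : ℕ) : ℕ := Bool.rec (motive := fun _ => ℕ) (V_l_n37_46 X) (V_l_n46_56 X) (Nat.ble (nat_lit 8469977) X)
noncomputable def V_l_n56_58 (X : ℕ) : ℕ := Bool.rec (motive := fun _ => ℕ) V_l_56 V_l_57 (Nat.ble (nat_lit 9189703) X)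
noncomputable def V_l_n58_60 (X : ℕ) : ℕ := Bool.rec (motive := fun _ => ℕ) V_l_58 V_l_59 (Nat.ble (nat_lit 9320833) X)
noncomputable def V_l_n56_60 (X : ℕ) : ℕ := Bool.rec (motive := fun _ => ℕ) (V_l_n56_58 X) (V_l_n58_60 X) (Nat.ble (nat_lit 9255023) X)
noncomputable def V_l_n60_62 (X : ℕ) : ℕ := Bool.rec (motive := fun _ => ℕ) V_l_60 V_l_61 (Nat.ble (nat_lit 9452537) X)
noncomputable def V_l_n63_65 (X : ℕ) : ℕ := Bool.rec (motive := fun _ => ℕ) V_l_63 V_l_64 (Nat.ble (nat_lit 9649747) X)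
noncomputable def V_l_n62_65 (X : ℕ) : ℕ := Bool.rec (motive := fun _ => ℕ) V_l_62 (V_l_n63_65 X) (Nat.ble (nat_lit 9584063) X)
noncomputable def V_l_n60_65 (X : ℕ) : ℕ := Bool.rec (motive := fun _ => ℕ) (V_l_n60_62 X) (V_l_n62_65 X) (Nat.ble (nat_lit 9518723) X)
noncomputable def V_l_n56_65 (X : ℕ) : ℕ := Bool.rec (motive := fun _ => ℕ) (V_l_n56_60 X) (V_l_n60_65 X) (Nat.ble (nat_lit 9386471) X)
noncomputable def V_l_n65_67 (X : ℕ) : ℕ := Bool.rec (motive := fun _ => ℕ) V_l_65 V_l_66 (Nat.ble (nat_lit 9782029) X)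
noncomputable def V_l_n68_70 (X : ℕ) : ℕ := Bool.rec (motive := fun _ => ℕ) V_l_68 V_l_69 (Nat.ble (nat_lit 9980857) X)
noncomputable def V_l_n67_70 (X : ℕ) : ℕ := Bool.rec (motive := fun _ => ℕ) V_l_67 (V_l_n68_70 X) (Nat.ble (nat_lit 9914617) X)
noncomputable def V_l_n65_70 (X : ℕ) : ℕ := Bool.rec (motive := fun _ => ℕ) (V_l_n65_67 X) (V_l_n67_70 X) (Nat.ble (nat_lit 9847967) X)
noncomputable def V_l_n70_72 (X : ℕ) : ℕ := Bool.rec (motive := fun _ => ℕ) V_l_70 V_l_71 (Nat.ble (nat_lit 10112897) X)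
noncomputable def V_l_n73_75 (X : ℕ) : ℕ := Bool.rec (motive := fun _ => ℕ) V_l_73 V_l_74 (Nat.ble (nat_lit 10311997) X)
noncomputable def V_l_n72_75 (X : ℕ) : ℕ := Bool.rec (motive := fun _ => ℕ) V_l_72 (V_l_n73_75 X) (Nat.ble (nat_lit 10245751) X)
noncomputable def V_l_n70_75 (X : ℕ) : ℕ := Bool.rec (motive := fun _ => ℕ) (V_l_n70_72 X) (V_l_n72_75 X) (Nat.ble (nat_lit 10179161) X)
noncomputable def V_l_n65_75 (X : ℕ) : ℕ := Bool.rec (motive := fun _ => ℕ) (V_l_n65_70 X) (V_l_n70_75 X) (Nat.ble (nat_lit 10046903) X)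
noncomputable def V_l_n56_75 (X : ℕ) : ℕ := Bool.rec (motive := fun _ => ℕ) (V_l_n56_65 X) (V_l_n65_75 X) (Nat.ble (nat_lit 9715969) X)
noncomputable def V_l_n37_75 (X : ℕ) : ℕ := Bool.rec (motive := fun _ => ℕ) (V_l_n37_56 X) (V_l_n56_75 X) (Nat.ble (nat_lit 9124417) X)
noncomputable def V_l_sel (X : ℕ) : ℕ := Bool.rec (motive := fun _ => ℕ) (V_l_n0_37 X) (V_l_n37_75 X) (Nat.ble (nat_lit 7881739) X)
noncomputable def VV_l (q : ℕ) : ℕ := (Nat.mod (V_l_sel q) q)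
noncomputable def G_l (t q : ℕ) : ℕ := Bool.rec (motive := fun _ => ℕ) (nat_lit 0) (F_l q) (Nat.ble (Nat.succ (UU_l q)) t)
noncomputable def T_k_n0_2 (X : ℕ) : ℕ := Bool.rec (motive := fun _ => ℕ) T_k_0 T_k_1 (Nat.ble (nat_lit 5564497) X)
noncomputable def T_k_n2_4 (X : ℕ) : ℕ := Bool.rec (motive := fun _ => ℕ) T_k_2 T_k_3 (Nat.ble (nat_lit 5692157) X)
noncomputable def T_k_n0_4 (X : ℕ) : ℕ := Bool.rec (motive := fun _ => ℕ) (T_k_n0_2 X) (T_k_n2_4 X) (Nat.ble (nat_lit 5628131) X)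
noncomputable def T_k_n4_6 (X : ℕ) : ℕ := Bool.rec (motive := fun _ => ℕ) T_k_4 T_k_5 (Nat.ble (nat_lit 5820037) X)
noncomputable def T_k_n7_9 (X : ℕ) : ℕ := Bool.rec (motive := fun _ => ℕ) T_k_7 T_k_8 (Nat.ble (nat_lit 6010867) X)
noncomputable def T_k_n6_9 (X : ℕ) : ℕ := Bool.rec (motive := fun _ => ℕ) T_k_6 (T_k_n7_9 X) (Nat.ble (nat_lit 5946749) X)
noncomputable def T_k_n4_9 (X : ℕ) : ℕ := Bool.rec (motive := fun _ => ℕ) (T_k_n4_6 X) (T_k_n6_9 X) (Nat.ble (nat_lit 5883737) X)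
noncomputable def T_k_n0_9 (X : ℕ) : ℕ := Bool.rec (motive := fun _ => ℕ) (T_k_n0_4 X) (T_k_n4_9 X) (Nat.ble (nat_lit 5755531) X)
noncomputable def T_k_n9_11 (X : ℕ) : ℕ := Bool.rec (motive := fun _ => ℕ) T_k_9 T_k_10 (Nat.ble (nat_lit 6139249) X)
noncomputable def T_k_n11_13 (X : ℕ) : ℕ := Bool.rec (motive := fun _ => ℕ) T_k_11 T_k_12 (Nat.ble (nat_lit 6267619) X)
noncomputable def T_k_n9_13 (X : ℕ) : ℕ := Bool.rec (motive := fun _ => ℕ) (T_k_n9_11 X) (T_k_n11_13 X) (Nat.ble (nat_lit 6203143) X)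
noncomputable def T_k_n13_15 (X : ℕ) : ℕ := Bool.rec (motive := fun _ => ℕ) T_k_13 T_k_14 (Nat.ble (nat_lit 6395947) X)
noncomputable def T_k_n16_18 (X : ℕ) : ℕ := Bool.rec (motive := fun _ => ℕ) T_k_16 T_k_17 (Nat.ble (nat_lit 6588443) X)
noncomputable def T_k_n15_18 (X : ℕ) : ℕ := Bool.rec (motive := fun _ => ℕ) T_k_15 (T_k_n16_18 X) (Nat.ble (nat_lit 6524611) X)
noncomputable def T_k_n13_18 (X : ℕ) : ℕ := Bool.rec (motive := fun _ => ℕ) (T_k_n13_15 X) (T_k_n15_18 X) (Nat.ble (nat_lit 6460379) X)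
noncomputable def T_k_n9_18 (X : ℕ) : ℕ := Bool.rec (motive := fun _ => ℕ) (T_k_n9_13 X) (T_k_n13_18 X) (Nat.ble (nat_lit 6330559) X)
noncomputable def T_k_n0_18 (X : ℕ) : ℕ := Bool.rec (motive := fun _ => ℕ) (T_k_n0_9 X) (T_k_n9_18 X) (Nat.ble (nat_lit 6075263) X)
noncomputable def T_k_n18_20 (X : ℕ) : ℕ := Bool.rec (motive := fun _ => ℕ) T_k_18 T_k_19 (Nat.ble (nat_lit 6717307) X)
noncomputable def T_k_n20_22 (X : ℕ) : ℕ := Bool.rec (motive := fun _ => ℕ) T_k_20 T_k_21 (Nat.ble (nat_lit 6846031) X)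
noncomputable def T_k_n18_22 (X : ℕ) : ℕ := Bool.rec (motive := fun _ => ℕ) (T_k_n18_20 X) (T_k_n20_22 X) (Nat.ble (nat_lit 6781547) X)
noncomputable def T_k_n22_24 (X : ℕ) : ℕ := Bool.rec (motive := fun _ => ℕ) T_k_22 T_k_23 (Nat.ble (nat_lit 6974053) X)
noncomputable def T_k_n25_27 (X : ℕ) : ℕ := Bool.rec (motive := fun _ => ℕ) T_k_25 T_k_26 (Nat.ble (nat_lit 7167791) X)
noncomputable def T_k_n24_27 (X : ℕ) : ℕ := Bool.rec (motive := fun _ => ℕ) T_k_24 (T_k_n25_27 X) (Nat.ble (nat_lit 7102643) X)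
noncomputable def T_k_n22_27 (X : ℕ) : ℕ := Bool.rec (motive := fun _ => ℕ) (T_k_n22_24 X) (T_k_n24_27 X) (Nat.ble (nat_lit 7038397) X)
noncomputable def T_k_n18_27 (X : ℕ) : ℕ := Bool.rec (motive := fun _ => ℕ) (T_k_n18_22 X) (T_k_n22_27 X) (Nat.ble (nat_lit 6909907) X)
noncomputable def T_k_n27_29 (X : ℕ) : ℕ := Bool.rec (motive := fun _ => ℕ) T_k_27 T_k_28 (Nat.ble (nat_lit 7296983) X)
noncomputable def T_k_n30_32 (X : ℕ) : ℕ := Bool.rec (motive := fun _ => ℕ) T_k_30 T_k_31 (Nat.ble (nat_lit 7492031) X)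
noncomputable def T_k_n29_32 (X : ℕ) : ℕ := Bool.rec (motive := fun _ => ℕ) T_k_29 (T_k_n30_32 X) (Nat.ble (nat_lit 7427041) X)
noncomputable def T_k_n27_32 (X : ℕ) : ℕ := Bool.rec (motive := fun _ => ℕ) (T_k_n27_29 X) (T_k_n29_32 X) (Nat.ble (nat_lit 7362133) X)
noncomputable def T_k_n32_34 (X : ℕ) : ℕ := Bool.rec (motive := fun _ => ℕ) T_k_32 T_k_33 (Nat.ble (nat_lit 7622317) X)
noncomputable def T_k_n35_37 (X : ℕ) : ℕ := Bool.rec (motive := fun _ => ℕ) T_k_35 T_k_36 (Nat.ble (nat_lit 7817143) X)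
noncomputable def T_k_n34_37 (X : ℕ) : ℕ := Bool.rec (motive := fun _ => ℕ) T_k_34 (T_k_n35_37 X) (Nat.ble (nat_lit 7752179) X)
noncomputable def T_k_n32_37 (X : ℕ) : ℕ := Bool.rec (motive := fun _ => ℕ) (T_k_n32_34 X) (T_k_n34_37 X) (Nat.ble (nat_lit 7686893) X)
noncomputable def T_k_n27_37 (X : ℕ) : ℕ := Bool.rec (motive := fun _ => ℕ) (T_k_n27_32 X) (T_k_n32_37 X) (Nat.ble (nat_lit 7557091) X)
noncomputable def T_k_n18_37 (X : ℕ) : ℕ := Bool.rec (motive := fun _ => ℕ) (T_k_n18_27 X) (T_k_n27_37 X) (Nat.ble (nat_lit 7232899) X)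
noncomputable def T_k_n0_37 (X : ℕ) : ℕ := Bool.rec (motive := fun _ => ℕ) (T_k_n0_18 X) (T_k_n18_37 X) (Nat.ble (nat_lit 6652979) X)
noncomputable def T_k_n37_39 (X : ℕ) : ℕ := Bool.rec (motive := fun _ => ℕ) T_k_37 T_k_38 (Nat.ble (nat_lit 7946711) X)
noncomputable def T_k_n39_41 (X : ℕ) : ℕ := Bool.rec (motive := fun _ => ℕ) T_k_39 T_k_40 (Nat.ble (nat_lit 8077529) X)
noncomputable def T_k_n37_41 (X : ℕ) : ℕ := Bool.rec (motive := fun _ => ℕ) (T_k_n37_39 X) (T_k_n39_41 X) (Nat.ble (nat_lit 8012209) X)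
noncomputable def T_k_n41_43 (X : ℕ) : ℕ := Bool.rec (motive := fun _ => ℕ) T_k_41 T_k_42 (Nat.ble (nat_lit 8208023) X)
noncomputable def T_k_n44_46 (X : ℕ) : ℕ := Bool.rec (motive := fun _ => ℕ) T_k_44 T_k_45 (Nat.ble (nat_lit 8403817) X)
noncomputable def T_k_n43_46 (X : ℕ) : ℕ := Bool.rec (motive := fun _ => ℕ) T_k_43 (T_k_n44_46 X) (Nat.ble (nat_lit 8338643) X)
noncomputable def T_k_n41_46 (X : ℕ) : ℕ := Bool.rec (motive := fun _ => ℕ) (T_k_n41_43 X) (T_k_n43_46 X) (Nat.ble (nat_lit 8273477) X)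
noncomputable def T_k_n37_46 (X : ℕ) : ℕ := Bool.rec (motive := fun _ => ℕ) (T_k_n37_41 X) (T_k_n41_46 X) (Nat.ble (nat_lit 8143277) X)
noncomputable def T_k_n46_48 (X : ℕ) : ℕ := Bool.rec (motive := fun _ => ℕ) T_k_46 T_k_47 (Nat.ble (nat_lit 8534429) X)
noncomputable def T_k_n49_51 (X : ℕ) : ℕ := Bool.rec (motive := fun _ => ℕ) T_k_49 T_k_50 (Nat.ble (nat_lit 8729821) X)
noncomputable def T_k_n48_51 (X : ℕ) : ℕ := Bool.rec (motive := fun _ => ℕ) T_k_48 (T_k_n49_51 X) (Nat.ble (nat_lit 8664559) X)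
noncomputable def T_k_n46_51 (X : ℕ) : ℕ := Bool.rec (motive := fun _ => ℕ) (T_k_n46_48 X) (T_k_n48_51 X) (Nat.ble (nat_lit 8599469) X)
noncomputable def T_k_n51_53 (X : ℕ) : ℕ := Bool.rec (motive := fun _ => ℕ) T_k_51 T_k_52 (Nat.ble (nat_lit 8861159) X)
noncomputable def T_k_n54_56 (X : ℕ) : ℕ := Bool.rec (motive := fun _ => ℕ) T_k_54 T_k_55 (Nat.ble (nat_lit 9058837) X)
noncomputable def T_k_n53_56 (X : ℕ) : ℕ := Bool.rec (motive := fun _ => ℕ) T_k_53 (T_k_n54_56 X) (Nat.ble (nat_lit 8992199) X)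
noncomputable def T_k_n51_56 (X : ℕ) : ℕ := Bool.rec (motive := fun _ => ℕ) (T_k_n51_53 X) (T_k_n53_56 X) (Nat.ble (nat_lit 8926363) X)
noncomputable def T_k_n46_56 (X : ℕ) : ℕ := Bool.rec (motive := fun _ => ℕ) (T_k_n46_51 X) (T_k_n51_56 X) (Nat.ble (nat_lit 8795047) X)
noncomputable def T_k_n37_56 (X : ℕ) : ℕ := Bool.rec (motive := fun _ => ℕ) (T_k_n37_46 X) (T_k_n46_56 X) (Nat.ble (nat_lit 8469977) X)
noncomputable def T_k_n56_58 (X : ℕ) : ℕ := Bool.rec (motive := fun _ => ℕ) T_k_56 T_k_57 (Nat.ble (nat_lit 9189703) X)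
noncomputable def T_k_n58_60 (X : ℕ) : ℕ := Bool.rec (motive := fun _ => ℕ) T_k_58 T_k_59 (Nat.ble (nat_lit 9320833) X)
noncomputable def T_k_n56_60 (X : ℕ) : ℕ := Bool.rec (motive := fun _ => ℕ) (T_k_n56_58 X) (T_k_n58_60 X) (Nat.ble (nat_lit 9255023) X)
noncomputable def T_k_n60_62 (X : ℕ) : ℕ := Bool.rec (motive := fun _ => ℕ) T_k_60 T_k_61 (Nat.ble (nat_lit 9452537) X)
noncomputable def T_k_n63_65 (X : ℕ) : ℕ := Bool.rec (motive := fun _ => ℕ) T_k_63 T_k_64 (Nat.ble (nat_lit 9649747) X)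
noncomputable def T_k_n62_65 (X : ℕ) : ℕ := Bool.rec (motive := fun _ => ℕ) T_k_62 (T_k_n63_65 X) (Nat.ble (nat_lit 9584063) X)
noncomputable def T_k_n60_65 (X : ℕ) : ℕ := Bool.rec (motive := fun _ => ℕ) (T_k_n60_62 X) (T_k_n62_65 X) (Nat.ble (nat_lit 9518723) X)
noncomputable def T_k_n56_65 (X : ℕ) : ℕ := Bool.rec (motive := fun _ => ℕ) (T_k_n56_60 X) (T_k_n60_65 X) (Nat.ble (nat_lit 9386471) X)
noncomputable def T_k_n65_67 (X : ℕ) : ℕ := Bool.rec (motive := fun _ => ℕ) T_k_65 T_k_66 (Nat.ble (nat_lit 9782029) X)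
noncomputable def T_k_n68_70 (X : ℕ) : ℕ := Bool.rec (motive := fun _ => ℕ) T_k_68 T_k_69 (Nat.ble (nat_lit 9980857) X)
noncomputable def T_k_n67_70 (X : ℕ) : ℕ := Bool.rec (motive := fun _ => ℕ) T_k_67 (T_k_n68_70 X) (Nat.ble (nat_lit 9914617) X)
noncomputable def T_k_n65_70 (X : ℕ) : ℕ := Bool.rec (motive := fun _ => ℕ) (T_k_n65_67 X) (T_k_n67_70 X) (Nat.ble (nat_lit 9847967) X)
noncomputable def T_k_n70_72 (X : ℕ) : ℕ := Bool.rec (motive := fun _ => ℕ) T_k_70 T_k_71 (Nat.ble (nat_lit 10112897) X)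
noncomputable def T_k_n73_75 (X : ℕ) : ℕ := Bool.rec (motive := fun _ => ℕ) T_k_73 T_k_74 (Nat.ble (nat_lit 10311997) X)
noncomputable def T_k_n72_75 (X : ℕ) : ℕ := Bool.rec (motive := fun _ => ℕ) T_k_72 (T_k_n73_75 X) (Nat.ble (nat_lit 10245751) X)
noncomputable def T_k_n70_75 (X : ℕ) : ℕ := Bool.rec (motive := fun _ => ℕ) (T_k_n70_72 X) (T_k_n72_75 X) (Nat.ble (nat_lit 10179161) X)
noncomputable def T_k_n65_75 (X : ℕ) : ℕ := Bool.rec (motive := fun _ => ℕ) (T_k_n65_70 X) (T_k_n70_75 X) (Nat.ble (nat_lit 10046903) X)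
noncomputable def T_k_n56_75 (X : ℕ) : ℕ := Bool.rec (motive := fun _ => ℕ) (T_k_n56_65 X) (T_k_n65_75 X) (Nat.ble (nat_lit 9715969) X)
noncomputable def T_k_n37_75 (X : ℕ) : ℕ := Bool.rec (motive := fun _ => ℕ) (T_k_n37_56 X) (T_k_n56_75 X) (Nat.ble (nat_lit 9124417) X)
noncomputable def T_k_sel (X : ℕ) : ℕ := Bool.rec (motive := fun _ => ℕ) (T_k_n0_37 X) (T_k_n37_75 X) (Nat.ble (nat_lit 7881739) X)
noncomputable def F_k (q : ℕ) : ℕ := Nat.add (nat_lit 5500000) (Nat.mod (T_k_sel q) q)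
noncomputable def U_k_n0_2 (X : ℕ) : ℕ := Bool.rec (motive := fun _ => ℕ) U_k_0 U_k_1 (Nat.ble (nat_lit 5564497) X)
noncomputable def U_k_n2_4 (X : ℕ) : ℕ := Bool.rec (motive := fun _ => ℕ) U_k_2 U_k_3 (Nat.ble (nat_lit 5692157) X)
noncomputable def U_k_n0_4 (X : ℕ) : ℕ := Bool.rec (motive := fun _ => ℕ) (U_k_n0_2 X) (U_k_n2_4 X) (Nat.ble (nat_lit 5628131) X)
noncomputable def U_k_n4_6 (X : ℕ) : ℕ := Bool.rec (motive := fun _ => ℕ) U_k_4 U_k_5 (Nat.ble (nat_lit 5820037) X)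
noncomputable def U_k_n7_9 (X : ℕ) : ℕ := Bool.rec (motive := fun _ => ℕ) U_k_7 U_k_8 (Nat.ble (nat_lit 6010867) X)
noncomputable def U_k_n6_9 (X : ℕ) : ℕ := Bool.rec (motive := fun _ => ℕ) U_k_6 (U_k_n7_9 X) (Nat.ble (nat_lit 5946749) X)
noncomputable def U_k_n4_9 (X : ℕ) : ℕ := Bool.rec (motive := fun _ => ℕ) (U_k_n4_6 X) (U_k_n6_9 X) (Nat.ble (nat_lit 5883737) X)
noncomputable def U_k_n0_9 (X : ℕ) : ℕ := Bool.rec (motive := fun _ => ℕ) (U_k_n0_4 X) (U_k_n4_9 X) (Nat.ble (nat_lit 5755531) X)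
noncomputable def U_k_n9_11 (X : ℕ) : ℕ := Bool.rec (motive := fun _ => ℕ) U_k_9 U_k_10 (Nat.ble (nat_lit 6139249) X)
noncomputable def U_k_n11_13 (X : ℕ) : ℕ := Bool.rec (motive := fun _ => ℕ) U_k_11 U_k_12 (Nat.ble (nat_lit 6267619) X)
noncomputable def U_k_n9_13 (X : ℕ) : ℕ := Bool.rec (motive := fun _ => ℕ) (U_k_n9_11 X) (U_k_n11_13 X) (Nat.ble (nat_lit 6203143) X)
noncomputable def U_k_n13_15 (X : ℕ) : ℕ := Bool.rec (motive := fun _ => ℕ) U_k_13 U_k_14 (Nat.ble (nat_lit 6395947) X)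
noncomputable def U_k_n16_18 (X : ℕ) : ℕ := Bool.rec (motive := fun _ => ℕ) U_k_16 U_k_17 (Nat.ble (nat_lit 6588443) X)
noncomputable def U_k_n15_18 (X : ℕ) : ℕ := Bool.rec (motive := fun _ => ℕ) U_k_15 (U_k_n16_18 X) (Nat.ble (nat_lit 6524611) X)
noncomputable def U_k_n13_18 (X : ℕ) : ℕ := Bool.rec (motive := fun _ => ℕ) (U_k_n13_15 X) (U_k_n15_18 X) (Nat.ble (nat_lit 6460379) X)
noncomputable def U_k_n9_18 (X : ℕ) : ℕ := Bool.rec (motive := fun _ => ℕ) (U_k_n9_13 X) (U_k_n13_18 X) (Nat.ble (nat_lit 6330559) X)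
noncomputable def U_k_n0_18 (X : ℕ) : ℕ := Bool.rec (motive := fun _ => ℕ) (U_k_n0_9 X) (U_k_n9_18 X) (Nat.ble (nat_lit 6075263) X)
noncomputable def U_k_n18_20 (X : ℕ) : ℕ := Bool.rec (motive := fun _ => ℕ) U_k_18 U_k_19 (Nat.ble (nat_lit 6717307) X)
noncomputable def U_k_n20_22 (X : ℕ) : ℕ := Bool.rec (motive := fun _ => ℕ) U_k_20 U_k_21 (Nat.ble (nat_lit 6846031) X)
noncomputable def U_k_n18_22 (X : ℕ) : ℕ := Bool.rec (motive := fun _ => ℕ) (U_k_n18_20 X) (U_k_n20_22 X) (Nat.ble (nat_lit 6781547) X)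
noncomputable def U_k_n22_24 (X : ℕ) : ℕ := Bool.rec (motive := fun _ => ℕ) U_k_22 U_k_23 (Nat.ble (nat_lit 6974053) X)
noncomputable def U_k_n25_27 (X : ℕ) : ℕ := Bool.rec (motive := fun _ => ℕ) U_k_25 U_k_26 (Nat.ble (nat_lit 7167791) X)
noncomputable def U_k_n24_27 (X : ℕ) : ℕ := Bool.rec (motive := fun _ => ℕ) U_k_24 (U_k_n25_27 X) (Nat.ble (nat_lit 7102643) X)
noncomputable def U_k_n22_27 (X : ℕ) : ℕ := Bool.rec (motive := fun _ => ℕ) (U_k_n22_24 X) (U_k_n24_27 X) (Nat.ble (nat_lit 7038397) X)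
noncomputable def U_k_n18_27 (X : ℕ) : ℕ := Bool.rec (motive := fun _ => ℕ) (U_k_n18_22 X) (U_k_n22_27 X) (Nat.ble (nat_lit 6909907) X)
noncomputable def U_k_n27_29 (X : ℕ) : ℕ := Bool.rec (motive := fun _ => ℕ) U_k_27 U_k_28 (Nat.ble (nat_lit 7296983) X)
noncomputable def U_k_n30_32 (X : ℕ) : ℕ := Bool.rec (motive := fun _ => ℕ) U_k_30 U_k_31 (Nat.ble (nat_lit 7492031) X)
noncomputable def U_k_n29_32 (X : ℕ) : ℕ := Bool.rec (motive := fun _ => ℕ) U_k_29 (U_k_n30_32 X) (Nat.ble (nat_lit 7427041) X)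
noncomputable def U_k_n27_32 (X : ℕ) : ℕ := Bool.rec (motive := fun _ => ℕ) (U_k_n27_29 X) (U_k_n29_32 X) (Nat.ble (nat_lit 7362133) X)
noncomputable def U_k_n32_34 (X : ℕ) : ℕ := Bool.rec (motive := fun _ => ℕ) U_k_32 U_k_33 (Nat.ble (nat_lit 7622317) X)
noncomputable def U_k_n35_37 (X : ℕ) : ℕ := Bool.rec (motive := fun _ => ℕ) U_k_35 U_k_36 (Nat.ble (nat_lit 7817143) X)
noncomputable def U_k_n34_37 (X : ℕ) : ℕ := Bool.rec (motive := fun _ => ℕ) U_k_34 (U_k_n35_37 X) (Nat.ble (nat_lit 7752179) X)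
noncomputable def U_k_n32_37 (X : ℕ) : ℕ := Bool.rec (motive := fun _ => ℕ) (U_k_n32_34 X) (U_k_n34_37 X) (Nat.ble (nat_lit 7686893) X)
noncomputable def U_k_n27_37 (X : ℕ) : ℕ := Bool.rec (motive := fun _ => ℕ) (U_k_n27_32 X) (U_k_n32_37 X) (Nat.ble (nat_lit 7557091) X)
noncomputable def U_k_n18_37 (X : ℕ) : ℕ := Bool.rec (motive := fun _ => ℕ) (U_k_n18_27 X) (U_k_n27_37 X) (Nat.ble (nat_lit 7232899) X)
noncomputable def U_k_n0_37 (X : ℕ) : ℕ := Bool.rec (motive := fun _ => ℕ) (U_k_n0_18 X) (U_k_n18_37 X) (Nat.ble (nat_lit 6652979) X)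
noncomputable def U_k_n37_39 (X : ℕ) : ℕ := Bool.rec (motive := fun _ => ℕ) U_k_37 U_k_38 (Nat.ble (nat_lit 7946711) X)
noncomputable def U_k_n39_41 (X : ℕ) : ℕ := Bool.rec (motive := fun _ => ℕ) U_k_39 U_k_40 (Nat.ble (nat_lit 8077529) X)
noncomputable def U_k_n37_41 (X : ℕ) : ℕ := Bool.rec (motive := fun _ => ℕ) (U_k_n37_39 X) (U_k_n39_41 X) (Nat.ble (nat_lit 8012209) X)
noncomputable def U_k_n41_43 (X : ℕ) : ℕ := Bool.rec (motive := fun _ => ℕ) U_k_41 U_k_42 (Nat.ble (nat_lit 8208023) X)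
noncomputable def U_k_n44_46 (X : ℕ) : ℕ := Bool.rec (motive := fun _ => ℕ) U_k_44 U_k_45 (Nat.ble (nat_lit 8403817) X)
noncomputable def U_k_n43_46 (X : ℕ) : ℕ := Bool.rec (motive := fun _ => ℕ) U_k_43 (U_k_n44_46 X) (Nat.ble (nat_lit 8338643) X)
noncomputable def U_k_n41_46 (X : ℕ) : ℕ := Bool.rec (motive := fun _ => ℕ) (U_k_n41_43 X) (U_k_n43_46 X) (Nat.ble (nat_lit 8273477) X)
noncomputable def U_k_n37_46 (X : ℕ) : ℕ := Bool.rec (motive := fun _ => ℕ) (U_k_n37_41 X) (U_k_n41_46 X) (Nat.ble (nat_lit 8143277) X)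
noncomputable def U_k_n46_48 (X : ℕ) : ℕ := Bool.rec (motive := fun _ => ℕ) U_k_46 U_k_47 (Nat.ble (nat_lit 8534429) X)
noncomputable def U_k_n49_51 (X : ℕ) : ℕ := Bool.rec (motive := fun _ => ℕ) U_k_49 U_k_50 (Nat.ble (nat_lit 8729821) X)
noncomputable def U_k_n48_51 (X : ℕ) : ℕ := Bool.rec (motive := fun _ => ℕ) U_k_48 (U_k_n49_51 X) (Nat.ble (nat_lit 8664559) X)
noncomputable def U_k_n46_51 (X : ℕ) : ℕ := Bool.rec (motive := fun _ => ℕ) (U_k_n46_48 X) (U_k_n48_51 X) (Nat.ble (nat_lit 8599469) X)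
noncomputable def U_k_n51_53 (X : ℕ) : ℕ := Bool.rec (motive := fun _ => ℕ) U_k_51 U_k_52 (Nat.ble (nat_lit 8861159) X)
noncomputable def U_k_n54_56 (X : ℕ) : ℕ := Bool.rec (motive := fun _ => ℕ) U_k_54 U_k_55 (Nat.ble (nat_lit 9058837) X)
noncomputable def U_k_n53_56 (X : ℕ) : ℕ := Bool.rec (motive := fun _ => ℕ) U_k_53 (U_k_n54_56 X) (Nat.ble (nat_lit 8992199) X)
noncomputable def U_k_n51_56 (X : ℕ) : ℕ := Bool.rec (motive := fun _ => ℕ) (U_k_n51_53 X) (U_k_n53_56 X) (Nat.ble (nat_lit 8926363) X)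
noncomputable def U_k_n46_56 (X : ℕ) : ℕ := Bool.rec (motive := fun _ => ℕ) (U_k_n46_51 X) (U_k_n51_56 X) (Nat.ble (nat_lit 8795047) X)
noncomputable def U_k_n37_56 (X : ℕ) : ℕ := Bool.rec (motive := fun _ => ℕ) (U_k_n37_46 X) (U_k_n46_56 X) (Nat.ble (nat_lit 8469977) X)
noncomputable def U_k_n56_58 (X : ℕ) : ℕ := Bool.rec (motive := fun _ => ℕ) U_k_56 U_k_57 (Nat.ble (nat_lit 9189703) X)
noncomputable def U_k_n58_60 (X : ℕ) : ℕ := Bool.rec (motive := fun _ => ℕ) U_k_58 U_k_59 (Nat.ble (nat_lit 9320833) X)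
noncomputable def U_k_n56_60 (X : ℕ) : ℕ := Bool.rec (motive := fun _ => ℕ) (U_k_n56_58 X) (U_k_n58_60 X) (Nat.ble (nat_lit 9255023) X)
noncomputable def U_k_n60_62 (X : ℕ) : ℕ := Bool.rec (motive := fun _ => ℕ) U_k_60 U_k_61 (Nat.ble (nat_lit 9452537) X)
noncomputable def U_k_n63_65 (X : ℕ) : ℕ := Bool.rec (motive := fun _ => ℕ) U_k_63 U_k_64 (Nat.ble (nat_lit 9649747) X)
noncomputable def U_k_n62_65 (X : ℕ) : ℕ := Bool.rec (motive := fun _ => ℕ) U_k_62 (U_k_n63_65 X) (Nat.ble (nat_lit 9584063) X)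
noncomputable def U_k_n60_65 (X : ℕ) : ℕ := Bool.rec (motive := fun _ => ℕ) (U_k_n60_62 X) (U_k_n62_65 X) (Nat.ble (nat_lit 9518723) X)
noncomputable def U_k_n56_65 (X : ℕ) : ℕ := Bool.rec (motive := fun _ => ℕ) (U_k_n56_60 X) (U_k_n60_65 X) (Nat.ble (nat_lit 9386471) X)
noncomputable def U_k_n65_67 (X : ℕ) : ℕ := Bool.rec (motive := fun _ => ℕ) U_k_65 U_k_66 (Nat.ble (nat_lit 9782029) X)
noncomputable def U_k_n68_70 (X : ℕ) : ℕ := Bool.rec (motive := fun _ => ℕ) U_k_68 U_k_69 (Nat.ble (nat_lit 9980857) X)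
noncomputable def U_k_n67_70 (X : ℕ) : ℕ := Bool.rec (motive := fun _ => ℕ) U_k_67 (U_k_n68_70 X) (Nat.ble (nat_lit 9914617) X)
noncomputable def U_k_n65_70 (X : ℕ) : ℕ := Bool.rec (motive := fun _ => ℕ) (U_k_n65_67 X) (U_k_n67_70 X) (Nat.ble (nat_lit 9847967) X)
noncomputable def U_k_n70_72 (X : ℕ) : ℕ := Bool.rec (motive := fun _ => ℕ) U_k_70 U_k_71 (Nat.ble (nat_lit 10112897) X)
noncomputable def U_k_n73_75 (X : ℕ) : ℕ := Bool.rec (motive := fun _ => ℕ) U_k_73 U_k_74 (Nat.ble (nat_lit 10311997) X)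
noncomputable def U_k_n72_75 (X : ℕ) : ℕ := Bool.rec (motive := fun _ => ℕ) U_k_72 (U_k_n73_75 X) (Nat.ble (nat_lit 10245751) X)
noncomputable def U_k_n70_75 (X : ℕ) : ℕ := Bool.rec (motive := fun _ => ℕ) (U_k_n70_72 X) (U_k_n72_75 X) (Nat.ble (nat_lit 10179161) X)
noncomputable def U_k_n65_75 (X : ℕ) : ℕ := Bool.rec (motive := fun _ => ℕ) (U_k_n65_70 X) (U_k_n70_75 X) (Nat.ble (nat_lit 10046903) X)
noncomputable def U_k_n56_75 (X : ℕ) : ℕ := Bool.rec (motive := fun _ => ℕ) (U_k_n56_65 X) (U_k_n65_75 X) (Nat.ble (nat_lit 9715969) X)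
noncomputable def U_k_n37_75 (X : ℕ) : ℕ := Bool.rec (motive := fun _ => ℕ) (U_k_n37_56 X) (U_k_n56_75 X) (Nat.ble (nat_lit 9124417) X)
noncomputable def U_k_sel (X : ℕ) : ℕ := Bool.rec (motive := fun _ => ℕ) (U_k_n0_37 X) (U_k_n37_75 X) (Nat.ble (nat_lit 7881739) X)
noncomputable def UU_k (q : ℕ) : ℕ := (Nat.mod (U_k_sel q) q)
noncomputable def V_k_n0_2 (X : ℕ) : ℕ := Bool.rec (motive := fun _ => ℕ) V_k_0 V_k_1 (Nat.ble (nat_lit 5564497) X)
noncomputable def V_k_n2_4 (X : ℕ) : ℕ := Bool.rec (motive := fun _ => ℕ) V_k_2 V_k_3 (Nat.ble (nat_lit 5692157) X)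
noncomputable def V_k_n0_4 (X : ℕ) : ℕ := Bool.rec (motive := fun _ => ℕ) (V_k_n0_2 X) (V_k_n2_4 X) (Nat.ble (nat_lit 5628131) X)
noncomputable def V_k_n4_6 (X : ℕ) : ℕ := Bool.rec (motive := fun _ => ℕ) V_k_4 V_k_5 (Nat.ble (nat_lit 5820037) X)
noncomputable def V_k_n7_9 (X : ℕ) : ℕ := Bool.rec (motive := fun _ => ℕ) V_k_7 V_k_8 (Nat.ble (nat_lit 6010867) X)
noncomputable def V_k_n6_9 (X : ℕ) : ℕ := Bool.rec (motive := fun _ => ℕ) V_k_6 (V_k_n7_9 X) (Nat.ble (nat_lit 5946749) X)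
noncomputable def V_k_n4_9 (X : ℕ) : ℕ := Bool.rec (motive := fun _ => ℕ) (V_k_n4_6 X) (V_k_n6_9 X) (Nat.ble (nat_lit 5883737) X)
noncomputable def V_k_n0_9 (X : ℕ) : ℕ := Bool.rec (motive := fun _ => ℕ) (V_k_n0_4 X) (V_k_n4_9 X) (Nat.ble (nat_lit 5755531) X)
noncomputable def V_k_n9_11 (X : ℕ) : ℕ := Bool.rec (motive := fun _ => ℕ) V_k_9 V_k_10 (Nat.ble (nat_lit 6139249) X)
noncomputable def V_k_n11_13 (X : ℕ) : ℕ := Bool.rec (motive := fun _ => ℕ) V_k_11 V_k_12 (Nat.ble (nat_lit 6267619) X)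
noncomputable def V_k_n9_13 (X : ℕ) : ℕ := Bool.rec (motive := fun _ => ℕ) (V_k_n9_11 X) (V_k_n11_13 X) (Nat.ble (nat_lit 6203143) X)
noncomputable def V_k_n13_15 (X : ℕ) : ℕ := Bool.rec (motive := fun _ => ℕ) V_k_13 V_k_14 (Nat.ble (nat_lit 6395947) X)
noncomputable def V_k_n16_18 (X : ℕ) : ℕ := Bool.rec (motive := fun _ => ℕ) V_k_16 V_k_17 (Nat.ble (nat_lit 6588443) X)
noncomputable def V_k_n15_18 (X : ℕ) : ℕ := Bool.rec (motive := fun _ => ℕ) V_k_15 (V_k_n16_18 X) (Nat.ble (nat_lit 6524611) X)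
noncomputable def V_k_n13_18 (X : ℕ) : ℕ := Bool.rec (motive := fun _ => ℕ) (V_k_n13_15 X) (V_k_n15_18 X) (Nat.ble (nat_lit 6460379) X)
noncomputable def V_k_n9_18 (X : ℕ) : ℕ := Bool.rec (motive := fun _ => ℕ) (V_k_n9_13 X) (V_k_n13_18 X) (Nat.ble (nat_lit 6330559) X)
noncomputable def V_k_n0_18 (X : ℕ) : ℕ := Bool.rec (motive := fun _ => ℕ) (V_k_n0_9 X) (V_k_n9_18 X) (Nat.ble (nat_lit 6075263) X)
noncomputable def V_k_n18_20 (X : ℕ) : ℕ := Bool.rec (motive := fun _ => ℕ) V_k_18 V_k_19 (Nat.ble (nat_lit 6717307) X)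
noncomputable def V_k_n20_22 (X : ℕ) : ℕ := Bool.rec (motive := fun _ => ℕ) V_k_20 V_k_21 (Nat.ble (nat_lit 6846031) X)
noncomputable def V_k_n18_22 (X : ℕ) : ℕ := Bool.rec (motive := fun _ => ℕ) (V_k_n18_20 X) (V_k_n20_22 X) (Nat.ble (nat_lit 6781547) X)
noncomputable def V_k_n22_24 (X : ℕ) : ℕ := Bool.rec (motive := fun _ => ℕ) V_k_22 V_k_23 (Nat.ble (nat_lit 6974053) X)
noncomputable def V_k_n25_27 (X : ℕ) : ℕ := Bool.rec (motive := fun _ => ℕ) V_k_25 V_k_26 (Nat.ble (nat_lit 7167791) X)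
noncomputable def V_k_n24_27 (X : ℕ) : ℕ := Bool.rec (motive := fun _ => ℕ) V_k_24 (V_k_n25_27 X) (Nat.ble (nat_lit 7102643) X)
noncomputable def V_k_n22_27 (X : ℕ) : ℕ := Bool.rec (motive := fun _ => ℕ) (V_k_n22_24 X) (V_k_n24_27 X) (Nat.ble (nat_lit 7038397) X)
noncomputable def V_k_n18_27 (X : ℕ) : ℕ := Bool.rec (motive := fun _ => ℕ) (V_k_n18_22 X) (V_k_n22_27 X) (Nat.ble (nat_lit 6909907) X)
noncomputable def V_k_n27_29 (X : ℕ) : ℕ := Bool.rec (motive := fun _ => ℕ) V_k_27 V_k_28 (Nat.ble (nat_lit 7296983) X)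
noncomputable def V_k_n30_32 (X : ℕ) : ℕ := Bool.rec (motive := fun _ => ℕ) V_k_30 V_k_31 (Nat.ble (nat_lit 7492031) X)
noncomputable def V_k_n29_32 (X : ℕ) : ℕ := Bool.rec (motive := fun _ => ℕ) V_k_29 (V_k_n30_32 X) (Nat.ble (nat_lit 7427041) X)
noncomputable def V_k_n27_32 (X : ℕ) : ℕ := Bool.rec (motive := fun _ => ℕ) (V_k_n27_29 X) (V_k_n29_32 X) (Nat.ble (nat_lit 7362133) X)
noncomputable def V_k_n32_34 (X : ℕ) : ℕ := Bool.rec (motive := fun _ => ℕ) V_k_32 V_k_33 (Nat.ble (nat_lit 7622317) X)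
noncomputable def V_k_n35_37 (X : ℕ) : ℕ := Bool.rec (motive := fun _ => ℕ) V_k_35 V_k_36 (Nat.ble (nat_lit 7817143) X)
noncomputable def V_k_n34_37 (X : ℕ) : ℕ := Bool.rec (motive := fun _ => ℕ) V_k_34 (V_k_n35_37 X) (Nat.ble (nat_lit 7752179) X)
noncomputable def V_k_n32_37 (X : ℕ) : ℕ := Bool.rec (motive := fun _ => ℕ) (V_k_n32_34 X) (V_k_n34_37 X) (Nat.ble (nat_lit 7686893) X)
noncomputable def V_k_n27_37 (X : ℕ) : ℕ := Bool.rec (motive := fun _ => ℕ) (V_k_n27_32 X) (V_k_n32_37 X) (Nat.ble (nat_lit 7557091) X)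
noncomputable def V_k_n18_37 (X : ℕ) : ℕ := Bool.rec (motive := fun _ => ℕ) (V_k_n18_27 X) (V_k_n27_37 X) (Nat.ble (nat_lit 7232899) X)
noncomputable def V_k_n0_37 (X : ℕ) : ℕ := Bool.rec (motive := fun _ => ℕ) (V_k_n0_18 X) (V_k_n18_37 X) (Nat.ble (nat_lit 6652979) X)
noncomputable def V_k_n37_39 (X : ℕ) : ℕ := Bool.rec (motive := fun _ => ℕ) V_k_37 V_k_38 (Nat.ble (nat_lit 7946711) X)
noncomputable def V_k_n39_41 (X : ℕ) : ℕ := Bool.rec (motive := fun _ => ℕ) V_k_39 V_k_40 (Nat.ble (nat_lit 8077529) X)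
noncomputable def V_k_n37_41 (X : ℕ) : ℕ := Bool.rec (motive := fun _ => ℕ) (V_k_n37_39 X) (V_k_n39_41 X) (Nat.ble (nat_lit 8012209) X)
noncomputable def V_k_n41_43 (X : ℕ) : ℕ := Bool.rec (motive := fun _ => ℕ) V_k_41 V_k_42 (Nat.ble (nat_lit 8208023) X)
noncomputable def V_k_n44_46 (X : ℕ) : ℕ := Bool.rec (motive := fun _ => ℕ) V_k_44 V_k_45 (Nat.ble (nat_lit 8403817) X)
noncomputable def V_k_n43_46 (X : ℕ) : ℕ := Bool.rec (motive := fun _ => ℕ) V_k_43 (V_k_n44_46 X) (Nat.ble (nat_lit 8338643) X)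
noncomputable def V_k_n41_46 (X : ℕ) : ℕ := Bool.rec (motive := fun _ => ℕ) (V_k_n41_43 X) (V_k_n43_46 X) (Nat.ble (nat_lit 8273477) X)
noncomputable def V_k_n37_46 (X : ℕ) : ℕ := Bool.rec (motive := fun _ => ℕ) (V_k_n37_41 X) (V_k_n41_46 X) (Nat.ble (nat_lit 8143277) X)
noncomputable def V_k_n46_48 (X : ℕ) : ℕ := Bool.rec (motive := fun _ => ℕ) V_k_46 V_k_47 (Nat.ble (nat_lit 8534429) X)
noncomputable def V_k_n49_51 (X : ℕ) : ℕ := Bool.rec (motive := fun _ => ℕ) V_k_49 V_k_50 (Nat.ble (nat_lit 8729821) X)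
noncomputable def V_k_n48_51 (X : ℕ) : ℕ := Bool.rec (motive := fun _ => ℕ) V_k_48 (V_k_n49_51 X) (Nat.ble (nat_lit 8664559) X)
noncomputable def V_k_n46_51 (X : ℕ) : ℕ := Bool.rec (motive := fun _ => ℕ) (V_k_n46_48 X) (V_k_n48_51 X) (Nat.ble (nat_lit 8599469) X)
noncomputable def V_k_n51_53 (X : ℕ) : ℕ := Bool.rec (motive := fun _ => ℕ) V_k_51 V_k_52 (Nat.ble (nat_lit 8861159) X)
noncomputable def V_k_n54_56 (X : ℕ) : ℕ := Bool.rec (motive := fun _ => ℕ) V_k_54 V_k_55 (Nat.ble (nat_lit 9058837) X)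
noncomputable def V_k_n53_56 (X : ℕ) : ℕ := Bool.rec (motive := fun _ => ℕ) V_k_53 (V_k_n54_56 X) (Nat.ble (nat_lit 8992199) X)
noncomputable def V_k_n51_56 (X : ℕ) : ℕ := Bool.rec (motive := fun _ => ℕ) (V_k_n51_53 X) (V_k_n53_56 X) (Nat.ble (nat_lit 8926363) X)
noncomputable def V_k_n46_56 (X : ℕ) : ℕ := Bool.rec (motive := fun _ => ℕ) (V_k_n46_51 X) (V_k_n51_56 X) (Nat.ble (nat_lit 8795047) X)
noncomputable def V_k_n37_56 (X : ℕ) : ℕ := Bool.rec (motive := fun _ => ℕ) (V_k_n37_46 X) (V_k_n46_56 X) (Nat.ble (nat_lit 8469977) X)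
noncomputable def V_k_n56_58 (X : ℕ) : ℕ := Bool.rec (motive := fun _ => ℕ) V_k_56 V_k_57 (Nat.ble (nat_lit 9189703) X)
noncomputable def V_k_n58_60 (X : ℕ) : ℕ := Bool.rec (motive := fun _ => ℕ) V_k_58 V_k_59 (Nat.ble (nat_lit 9320833) X)
noncomputable def V_k_n56_60 (X : ℕ) : ℕ := Bool.rec (motive := fun _ => ℕ) (V_k_n56_58 X) (V_k_n58_60 X) (Nat.ble (nat_lit 9255023) X)
noncomputable def V_k_n60_62 (X : ℕ) : ℕ := Bool.rec (motive := fun _ => ℕ) V_k_60 V_k_61 (Nat.ble (nat_lit 9452537) X)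
noncomputable def V_k_n63_65 (X : ℕ) : ℕ := Bool.rec (motive := fun _ => ℕ) V_k_63 V_k_64 (Nat.ble (nat_lit 9649747) X)
noncomputable def V_k_n62_65 (X : ℕ) : ℕ := Bool.rec (motive := fun _ => ℕ) V_k_62 (V_k_n63_65 X) (Nat.ble (nat_lit 9584063) X)
noncomputable def V_k_n60_65 (X : ℕ) : ℕ := Bool.rec (motive := fun _ => ℕ) (V_k_n60_62 X) (V_k_n62_65 X) (Nat.ble (nat_lit 9518723) X)
noncomputable def V_k_n56_65 (X : ℕ) : ℕ := Bool.rec (motive := fun _ => ℕ) (V_k_n56_60 X) (V_k_n60_65 X) (Nat.ble (nat_lit 9386471) X)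
noncomputable def V_k_n65_67 (X : ℕ) : ℕ := Bool.rec (motive := fun _ => ℕ) V_k_65 V_k_66 (Nat.ble (nat_lit 9782029) X)
noncomputable def V_k_n68_70 (X : ℕ) : ℕ := Bool.rec (motive := fun _ => ℕ) V_k_68 V_k_69 (Nat.ble (nat_lit 9980857) X)
noncomputable def V_k_n67_70 (X : ℕ) : ℕ := Bool.rec (motive := fun _ => ℕ) V_k_67 (V_k_n68_70 X) (Nat.ble (nat_lit 9914617) X)
noncomputable def V_k_n65_70 (X : ℕ) : ℕ := Bool.rec (motive := fun _ => ℕ) (V_k_n65_67 X) (V_k_n67_70 X) (Nat.ble (nat_lit 9847967) X)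
noncomputable def V_k_n70_72 (X : ℕ) : ℕ := Bool.rec (motive := fun _ => ℕ) V_k_70 V_k_71 (Nat.ble (nat_lit 10112897) X)
noncomputable def V_k_n73_75 (X : ℕ) : ℕ := Bool.rec (motive := fun _ => ℕ) V_k_73 V_k_74 (Nat.ble (nat_lit 10311997) X)
noncomputable def V_k_n72_75 (X : ℕ) : ℕ := Bool.rec (motive := fun _ => ℕ) V_k_72 (V_k_n73_75 X) (Nat.ble (nat_lit 10245751) X)
noncomputable def V_k_n70_75 (X : ℕ) : ℕ := Bool.rec (motive := fun _ => ℕ) (V_k_n70_72 X) (V_k_n72_75 X) (Nat.ble (nat_lit 10179161) X)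
noncomputable def V_k_n65_75 (X : ℕ) : ℕ := Bool.rec (motive := fun _ => ℕ) (V_k_n65_70 X) (V_k_n70_75 X) (Nat.ble (nat_lit 10046903) X)
noncomputable def V_k_n56_75 (X : ℕ) : ℕ := Bool.rec (motive := fun _ => ℕ) (V_k_n56_65 X) (V_k_n65_75 X) (Nat.ble (nat_lit 9715969) X)
noncomputable def V_k_n37_75 (X : ℕ) : ℕ := Bool.rec (motive := fun _ => ℕ) (V_k_n37_56 X) (V_k_n56_75 X) (Nat.ble (nat_lit 9124417) X)
noncomputable def V_k_sel (X : ℕ) : ℕ := Bool.rec (motive := fun _ => ℕ) (V_k_n0_37 X) (V_k_n37_75 X) (Nat.ble (nat_lit 7881739) X)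
noncomputable def VV_k (q : ℕ) : ℕ := (Nat.mod (V_k_sel q) q)
noncomputable def G_k (t q : ℕ) : ℕ := Bool.rec (motive := fun _ => ℕ) (nat_lit 0) (F_k q) (Nat.ble (Nat.succ (UU_k q)) t)
noncomputable def T_a_n0_2 (X : ℕ) : ℕ := Bool.rec (motive := fun _ => ℕ) T_a_0 T_a_1 (Nat.ble (nat_lit 5564497) X)
noncomputable def T_a_n2_4 (X : ℕ) : ℕ := Bool.rec (motive := fun _ => ℕ) T_a_2 T_a_3 (Nat.ble (nat_lit 5692157) X)
noncomputable def T_a_n0_4 (X : ℕ) : ℕ := Bool.rec (motive := fun _ => ℕ) (T_a_n0_2 X) (T_a_n2_4 X) (Nat.ble (nat_lit 5628131) X)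
noncomputable def T_a_n4_6 (X : ℕ) : ℕ := Bool.rec (motive := fun _ => ℕ) T_a_4 T_a_5 (Nat.ble (nat_lit 5820037) X)
noncomputable def T_a_n7_9 (X : ℕ) : ℕ := Bool.rec (motive := fun _ => ℕ) T_a_7 T_a_8 (Nat.ble (nat_lit 6010867) X)
noncomputable def T_a_n6_9 (X : ℕ) : ℕ := Bool.rec (motive := fun _ => ℕ) T_a_6 (T_a_n7_9 X) (Nat.ble (nat_lit 5946749) X)
noncomputable def T_a_n4_9 (X : ℕ) : ℕ := Bool.rec (motive := fun _ => ℕ) (T_a_n4_6 X) (T_a_n6_9 X) (Nat.ble (nat_lit 5883737) X)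
noncomputable def T_a_n0_9 (X : ℕ) : ℕ := Bool.rec (motive := fun _ => ℕ) (T_a_n0_4 X) (T_a_n4_9 X) (Nat.ble (nat_lit 5755531) X)
noncomputable def T_a_n9_11 (X : ℕ) : ℕ := Bool.rec (motive := fun _ => ℕ) T_a_9 T_a_10 (Nat.ble (nat_lit 6139249) X)
noncomputable def T_a_n11_13 (X : ℕ) : ℕ := Bool.rec (motive := fun _ => ℕ) T_a_11 T_a_12 (Nat.ble (nat_lit 6267619) X)
noncomputable def T_a_n9_13 (X : ℕ) : ℕ := Bool.rec (motive := fun _ => ℕ) (T_a_n9_11 X) (T_a_n11_13 X) (Nat.ble (nat_lit 6203143) X)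
noncomputable def T_a_n13_15 (X : ℕ) : ℕ := Bool.rec (motive := fun _ => ℕ) T_a_13 T_a_14 (Nat.ble (nat_lit 6395947) X)
noncomputable def T_a_n16_18 (X : ℕ) : ℕ := Bool.rec (motive := fun _ => ℕ) T_a_16 T_a_17 (Nat.ble (nat_lit 6588443) X)
noncomputable def T_a_n15_18 (X : ℕ) : ℕ := Bool.rec (motive := fun _ => ℕ) T_a_15 (T_a_n16_18 X) (Nat.ble (nat_lit 6524611) X)
noncomputable def T_a_n13_18 (X : ℕ) : ℕ := Bool.rec (motive := fun _ => ℕ) (T_a_n13_15 X) (T_a_n15_18 X) (Nat.ble (nat_lit 6460379) X)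
noncomputable def T_a_n9_18 (X : ℕ) : ℕ := Bool.rec (motive := fun _ => ℕ) (T_a_n9_13 X) (T_a_n13_18 X) (Nat.ble (nat_lit 6330559) X)
noncomputable def T_a_n0_18 (X : ℕ) : ℕ := Bool.rec (motive := fun _ => ℕ) (T_a_n0_9 X) (T_a_n9_18 X) (Nat.ble (nat_lit 6075263) X)
noncomputable def T_a_n18_20 (X : ℕ) : ℕ := Bool.rec (motive := fun _ => ℕ) T_a_18 T_a_19 (Nat.ble (nat_lit 6717307) X)
noncomputable def T_a_n20_22 (X : ℕ) : ℕ := Bool.rec (motive := fun _ => ℕ) T_a_20 T_a_21 (Nat.ble (nat_lit 6846031) X)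
noncomputable def T_a_n18_22 (X : ℕ) : ℕ := Bool.rec (motive := fun _ => ℕ) (T_a_n18_20 X) (T_a_n20_22 X) (Nat.ble (nat_lit 6781547) X)
noncomputable def T_a_n22_24 (X : ℕ) : ℕ := Bool.rec (motive := fun _ => ℕ) T_a_22 T_a_23 (Nat.ble (nat_lit 6974053) X)
noncomputable def T_a_n25_27 (X : ℕ) : ℕ := Bool.rec (motive := fun _ => ℕ) T_a_25 T_a_26 (Nat.ble (nat_lit 7167791) X)
noncomputable def T_a_n24_27 (X : ℕ) : ℕ := Bool.rec (motive := fun _ => ℕ) T_a_24 (T_a_n25_27 X) (Nat.ble (nat_lit 7102643) X)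
noncomputable def T_a_n22_27 (X : ℕ) : ℕ := Bool.rec (motive := fun _ => ℕ) (T_a_n22_24 X) (T_a_n24_27 X) (Nat.ble (nat_lit 7038397) X)
noncomputable def T_a_n18_27 (X : ℕ) : ℕ := Bool.rec (motive := fun _ => ℕ) (T_a_n18_22 X) (T_a_n22_27 X) (Nat.ble (nat_lit 6909907) X)
noncomputable def T_a_n27_29 (X : ℕ) : ℕ := Bool.rec (motive := fun _ => ℕ) T_a_27 T_a_28 (Nat.ble (nat_lit 7296983) X)
noncomputable def T_a_n30_32 (X : ℕ) : ℕ := Bool.rec (motive := fun _ => ℕ) T_a_30 T_a_31 (Nat.ble (nat_lit 7492031) X)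
noncomputable def T_a_n29_32 (X : ℕ) : ℕ := Bool.rec (motive := fun _ => ℕ) T_a_29 (T_a_n30_32 X) (Nat.ble (nat_lit 7427041) X)
noncomputable def T_a_n27_32 (X : ℕ) : ℕ := Bool.rec (motive := fun _ => ℕ) (T_a_n27_29 X) (T_a_n29_32 X) (Nat.ble (nat_lit 7362133) X)
noncomputable def T_a_n32_34 (X : ℕ) : ℕ := Bool.rec (motive := fun _ => ℕ) T_a_32 T_a_33 (Nat.ble (nat_lit 7622317) X)
noncomputable def T_a_n35_37 (X : ℕ) : ℕ := Bool.rec (motive := fun _ => ℕ) T_a_35 T_a_36 (Nat.ble (nat_lit 7817143) X)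
noncomputable def T_a_n34_37 (X : ℕ) : ℕ := Bool.rec (motive := fun _ => ℕ) T_a_34 (T_a_n35_37 X) (Nat.ble (nat_lit 7752179) X)
noncomputable def T_a_n32_37 (X : ℕ) : ℕ := Bool.rec (motive := fun _ => ℕ) (T_a_n32_34 X) (T_a_n34_37 X) (Nat.ble (nat_lit 7686893) X)
noncomputable def T_a_n27_37 (X : ℕ) : ℕ := Bool.rec (motive := fun _ => ℕ) (T_a_n27_32 X) (T_a_n32_37 X) (Nat.ble (nat_lit 7557091) X)
noncomputable def T_a_n18_37 (X : ℕ) : ℕ := Bool.rec (motive := fun _ => ℕ) (T_a_n18_27 X) (T_a_n27_37 X) (Nat.ble (nat_lit 7232899) X)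
noncomputable def T_a_n0_37 (X : ℕ) : ℕ := Bool.rec (motive := fun _ => ℕ) (T_a_n0_18 X) (T_a_n18_37 X) (Nat.ble (nat_lit 6652979) X)
noncomputable def T_a_n37_39 (X : ℕ) : ℕ := Bool.rec (motive := fun _ => ℕ) T_a_37 T_a_38 (Nat.ble (nat_lit 7946711) X)
noncomputable def T_a_n39_41 (X : ℕ) : ℕ := Bool.rec (motive := fun _ => ℕ) T_a_39 T_a_40 (Nat.ble (nat_lit 8077529) X)
noncomputable def T_a_n37_41 (X : ℕ) : ℕ := Bool.rec (motive := fun _ => ℕ) (T_a_n37_39 X) (T_a_n39_41 X) (Nat.ble (nat_lit 8012209) X)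
noncomputable def T_a_n41_43 (X : ℕ) : ℕ := Bool.rec (motive := fun _ => ℕ) T_a_41 T_a_42 (Nat.ble (nat_lit 8208023) X)
noncomputable def T_a_n44_46 (X : ℕ) : ℕ := Bool.rec (motive := fun _ => ℕ) T_a_44 T_a_45 (Nat.ble (nat_lit 8403817) X)
noncomputable def T_a_n43_46 (X : ℕ) : ℕ := Bool.rec (motive := fun _ => ℕ) T_a_43 (T_a_n44_46 X) (Nat.ble (nat_lit 8338643) X)
noncomputable def T_a_n41_46 (X : ℕ) : ℕ := Bool.rec (motive := fun _ => ℕ) (T_a_n41_43 X) (T_a_n43_46 X) (Nat.ble (nat_lit 8273477) X)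
noncomputable def T_a_n37_46 (X : ℕ) : ℕ := Bool.rec (motive := fun _ => ℕ) (T_a_n37_41 X) (T_a_n41_46 X) (Nat.ble (nat_lit 8143277) X)
noncomputable def T_a_n46_48 (X : ℕ) : ℕ := Bool.rec (motive := fun _ => ℕ) T_a_46 T_a_47 (Nat.ble (nat_lit 8534429) X)
noncomputable def T_a_n49_51 (X : ℕ) : ℕ := Bool.rec (motive := fun _ => ℕ) T_a_49 T_a_50 (Nat.ble (nat_lit 8729821) X)
noncomputable def T_a_n48_51 (X : ℕ) : ℕ := Bool.rec (motive := fun _ => ℕ) T_a_48 (T_a_n49_51 X) (Nat.ble (nat_lit 8664559) X)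
noncomputable def T_a_n46_51 (X : ℕ) : ℕ := Bool.rec (motive := fun _ => ℕ) (T_a_n46_48 X) (T_a_n48_51 X) (Nat.ble (nat_lit 8599469) X)
noncomputable def T_a_n51_53 (X : ℕ) : ℕ := Bool.rec (motive := fun _ => ℕ) T_a_51 T_a_52 (Nat.ble (nat_lit 8861159) X)
noncomputable def T_a_n54_56 (X : ℕ) : ℕ := Bool.rec (motive := fun _ => ℕ) T_a_54 T_a_55 (Nat.ble (nat_lit 9058837) X)
noncomputable def T_a_n53_56 (X : ℕ) : ℕ := Bool.rec (motive := fun _ => ℕ) T_a_53 (T_a_n54_56 X) (Nat.ble (nat_lit 8992199) X)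
noncomputable def T_a_n51_56 (X : ℕ) : ℕ := Bool.rec (motive := fun _ => ℕ) (T_a_n51_53 X) (T_a_n53_56 X) (Nat.ble (nat_lit 8926363) X)
noncomputable def T_a_n46_56 (X : ℕ) : ℕ := Bool.rec (motive := fun _ => ℕ) (T_a_n46_51 X) (T_a_n51_56 X) (Nat.ble (nat_lit 8795047) X)
noncomputable def T_a_n37_56 (X : ℕ) : ℕ := Bool.rec (motive := fun _ => ℕ) (T_a_n37_46 X) (T_a_n46_56 X) (Nat.ble (nat_lit 8469977) X)
noncomputable def T_a_n56_58 (X : ℕ) : ℕ := Bool.rec (motive := fun _ => ℕ) T_a_56 T_a_57 (Nat.ble (nat_lit 9189703) X)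
noncomputable def T_a_n58_60 (X : ℕ) : ℕ := Bool.rec (motive := fun _ => ℕ) T_a_58 T_a_59 (Nat.ble (nat_lit 9320833) X)
noncomputable def T_a_n56_60 (X : ℕ) : ℕ := Bool.rec (motive := fun _ => ℕ) (T_a_n56_58 X) (T_a_n58_60 X) (Nat.ble (nat_lit 9255023) X)
noncomputable def T_a_n60_62 (X : ℕ) : ℕ := Bool.rec (motive := fun _ => ℕ) T_a_60 T_a_61 (Nat.ble (nat_lit 9452537) X)
noncomputable def T_a_n63_65 (X : ℕ) : ℕ := Bool.rec (motive := fun _ => ℕ) T_a_63 T_a_64 (Nat.ble (nat_lit 9649747) X)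
noncomputable def T_a_n62_65 (X : ℕ) : ℕ := Bool.rec (motive := fun _ => ℕ) T_a_62 (T_a_n63_65 X) (Nat.ble (nat_lit 9584063) X)
noncomputable def T_a_n60_65 (X : ℕ) : ℕ := Bool.rec (motive := fun _ => ℕ) (T_a_n60_62 X) (T_a_n62_65 X) (Nat.ble (nat_lit 9518723) X)
noncomputable def T_a_n56_65 (X : ℕ) : ℕ := Bool.rec (motive := fun _ => ℕ) (T_a_n56_60 X) (T_a_n60_65 X) (Nat.ble (nat_lit 9386471) X)
noncomputable def T_a_n65_67 (X : ℕ) : ℕ := Bool.rec (motive := fun _ => ℕ) T_a_65 T_a_66 (Nat.ble (nat_lit 9782029) X)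
noncomputable def T_a_n68_70 (X : ℕ) : ℕ := Bool.rec (motive := fun _ => ℕ) T_a_68 T_a_69 (Nat.ble (nat_lit 9980857) X)
noncomputable def T_a_n67_70 (X : ℕ) : ℕ := Bool.rec (motive := fun _ => ℕ) T_a_67 (T_a_n68_70 X) (Nat.ble (nat_lit 9914617) X)
noncomputable def T_a_n65_70 (X : ℕ) : ℕ := Bool.rec (motive := fun _ => ℕ) (T_a_n65_67 X) (T_a_n67_70 X) (Nat.ble (nat_lit 9847967) X)
noncomputable def T_a_n70_72 (X : ℕ) : ℕ := Bool.rec (motive := fun _ => ℕ) T_a_70 T_a_71 (Nat.ble (nat_lit 10112897) X)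
noncomputable def T_a_n73_75 (X : ℕ) : ℕ := Bool.rec (motive := fun _ => ℕ) T_a_73 T_a_74 (Nat.ble (nat_lit 10311997) X)
noncomputable def T_a_n72_75 (X : ℕ) : ℕ := Bool.rec (motive := fun _ => ℕ) T_a_72 (T_a_n73_75 X) (Nat.ble (nat_lit 10245751) X)
noncomputable def T_a_n70_75 (X : ℕ) : ℕ := Bool.rec (motive := fun _ => ℕ) (T_a_n70_72 X) (T_a_n72_75 X) (Nat.ble (nat_lit 10179161) X)
noncomputable def T_a_n65_75 (X : ℕ) : ℕ := Bool.rec (motive := fun _ => ℕ) (T_a_n65_70 X) (T_a_n70_75 X) (Nat.ble (nat_lit 10046903) X)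
noncomputable def T_a_n56_75 (X : ℕ) : ℕ := Bool.rec (motive := fun _ => ℕ) (T_a_n56_65 X) (T_a_n65_75 X) (Nat.ble (nat_lit 9715969) X)
noncomputable def T_a_n37_75 (X : ℕ) : ℕ := Bool.rec (motive := fun _ => ℕ) (T_a_n37_56 X) (T_a_n56_75 X) (Nat.ble (nat_lit 9124417) X)
noncomputable def T_a_sel (X : ℕ) : ℕ := Bool.rec (motive := fun _ => ℕ) (T_a_n0_37 X) (T_a_n37_75 X) (Nat.ble (nat_lit 7881739) X)
noncomputable def F_a (q : ℕ) : ℕ := Nat.add (nat_lit 5500000) (Nat.mod (T_a_sel q) q)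
noncomputable def U_a_n0_2 (X : ℕ) : ℕ := Bool.rec (motive := fun _ => ℕ) U_a_0 U_a_1 (Nat.ble (nat_lit 5564497) X)
noncomputable def U_a_n2_4 (X : ℕ) : ℕ := Bool.rec (motive := fun _ => ℕ) U_a_2 U_a_3 (Nat.ble (nat_lit 5692157) X)
noncomputable def U_a_n0_4 (X : ℕ) : ℕ := Bool.rec (motive := fun _ => ℕ) (U_a_n0_2 X) (U_a_n2_4 X) (Nat.ble (nat_lit 5628131) X)
noncomputable def U_a_n4_6 (X : ℕ) : ℕ := Bool.rec (motive := fun _ => ℕ) U_a_4 U_a_5 (Nat.ble (nat_lit 5820037) X)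
noncomputable def U_a_n7_9 (X : ℕ) : ℕ := Bool.rec (motive := fun _ => ℕ) U_a_7 U_a_8 (Nat.ble (nat_lit 6010867) X)
noncomputable def U_a_n6_9 (X : ℕ) : ℕ := Bool.rec (motive := fun _ => ℕ) U_a_6 (U_a_n7_9 X) (Nat.ble (nat_lit 5946749) X)
noncomputable def U_a_n4_9 (X : ℕ) : ℕ := Bool.rec (motive := fun _ => ℕ) (U_a_n4_6 X) (U_a_n6_9 X) (Nat.ble (nat_lit 5883737) X)
noncomputable def U_a_n0_9 (X : ℕ) : ℕ := Bool.rec (motive := fun _ => ℕ) (U_a_n0_4 X) (U_a_n4_9 X) (Nat.ble (nat_lit 5755531) X)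
noncomputable def U_a_n9_11 (X : ℕ) : ℕ := Bool.rec (motive := fun _ => ℕ) U_a_9 U_a_10 (Nat.ble (nat_lit 6139249) X)
noncomputable def U_a_n11_13 (X : ℕ) : ℕ := Bool.rec (motive := fun _ => ℕ) U_a_11 U_a_12 (Nat.ble (nat_lit 6267619) X)
noncomputable def U_a_n9_13 (X : ℕ) : ℕ := Bool.rec (motive := fun _ => ℕ) (U_a_n9_11 X) (U_a_n11_13 X) (Nat.ble (nat_lit 6203143) X)
noncomputable def U_a_n13_15 (X : ℕ) : ℕ := Bool.rec (motive := fun _ => ℕ) U_a_13 U_a_14 (Nat.ble (nat_lit 6395947) X)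
noncomputable def U_a_n16_18 (X : ℕ) : ℕ := Bool.rec (motive := fun _ => ℕ) U_a_16 U_a_17 (Nat.ble (nat_lit 6588443) X)
noncomputable def U_a_n15_18 (X : ℕ) : ℕ := Bool.rec (motive := fun _ => ℕ) U_a_15 (U_a_n16_18 X) (Nat.ble (nat_lit 6524611) X)
noncomputable def U_a_n13_18 (X : ℕ) : ℕ := Bool.rec (motive := fun _ => ℕ) (U_a_n13_15 X) (U_a_n15_18 X) (Nat.ble (nat_lit 6460379) X)
noncomputable def U_a_n9_18 (X : ℕ) : ℕ := Bool.rec (motive := fun _ => ℕ) (U_a_n9_13 X) (U_a_n13_18 X) (Nat.ble (nat_lit 6330559) X)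
noncomputable def U_a_n0_18 (X : ℕ) : ℕ := Bool.rec (motive := fun _ => ℕ) (U_a_n0_9 X) (U_a_n9_18 X) (Nat.ble (nat_lit 6075263) X)
noncomputable def U_a_n18_20 (X : ℕ) : ℕ := Bool.rec (motive := fun _ => ℕ) U_a_18 U_a_19 (Nat.ble (nat_lit 6717307) X)
noncomputable def U_a_n20_22 (X : ℕ) : ℕ := Bool.rec (motive := fun _ => ℕ) U_a_20 U_a_21 (Nat.ble (nat_lit 6846031) X)
noncomputable def U_a_n18_22 (X : ℕ) : ℕ := Bool.rec (motive := fun _ => ℕ) (U_a_n18_20 X) (U_a_n20_22 X) (Nat.ble (nat_lit 6781547) X)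
noncomputable def U_a_n22_24 (X : ℕ) : ℕ := Bool.rec (motive := fun _ => ℕ) U_a_22 U_a_23 (Nat.ble (nat_lit 6974053) X)
noncomputable def U_a_n25_27 (X : ℕ) : ℕ := Bool.rec (motive := fun _ => ℕ) U_a_25 U_a_26 (Nat.ble (nat_lit 7167791) X)
noncomputable def U_a_n24_27 (X : ℕ) : ℕ := Bool.rec (motive := fun _ => ℕ) U_a_24 (U_a_n25_27 X) (Nat.ble (nat_lit 7102643) X)
noncomputable def U_a_n22_27 (X : ℕ) : ℕ := Bool.rec (motive := fun _ => ℕ) (U_a_n22_24 X) (U_a_n24_27 X) (Nat.ble (nat_lit 7038397) X)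
noncomputable def U_a_n18_27 (X : ℕ) : ℕ := Bool.rec (motive := fun _ => ℕ) (U_a_n18_22 X) (U_a_n22_27 X) (Nat.ble (nat_lit 6909907) X)
noncomputable def U_a_n27_29 (X : ℕ) : ℕ := Bool.rec (motive := fun _ => ℕ) U_a_27 U_a_28 (Nat.ble (nat_lit 7296983) X)
noncomputable def U_a_n30_32 (X : ℕ) : ℕ := Bool.rec (motive := fun _ => ℕ) U_a_30 U_a_31 (Nat.ble (nat_lit 7492031) X)
noncomputable def U_a_n29_32 (X : ℕ) : ℕ := Bool.rec (motive := fun _ => ℕ) U_a_29 (U_a_n30_32 X) (Nat.ble (nat_lit 7427041) X)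
noncomputable def U_a_n27_32 (X : ℕ) : ℕ := Bool.rec (motive := fun _ => ℕ) (U_a_n27_29 X) (U_a_n29_32 X) (Nat.ble (nat_lit 7362133) X)
noncomputable def U_a_n32_34 (X : ℕ) : ℕ := Bool.rec (motive := fun _ => ℕ) U_a_32 U_a_33 (Nat.ble (nat_lit 7622317) X)
noncomputable def U_a_n35_37 (X : ℕ) : ℕ := Bool.rec (motive := fun _ => ℕ) U_a_35 U_a_36 (Nat.ble (nat_lit 7817143) X)
noncomputable def U_a_n34_37 (X : ℕ) : ℕ := Bool.rec (motive := fun _ => ℕ) U_a_34 (U_a_n35_37 X) (Nat.ble (nat_lit 7752179) X)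
noncomputable def U_a_n32_37 (X : ℕ) : ℕ := Bool.rec (motive := fun _ => ℕ) (U_a_n32_34 X) (U_a_n34_37 X) (Nat.ble (nat_lit 7686893) X)
noncomputable def U_a_n27_37 (X : ℕ) : ℕ := Bool.rec (motive := fun _ => ℕ) (U_a_n27_32 X) (U_a_n32_37 X) (Nat.ble (nat_lit 7557091) X)
noncomputable def U_a_n18_37 (X : ℕ) : ℕ := Bool.rec (motive := fun _ => ℕ) (U_a_n18_27 X) (U_a_n27_37 X) (Nat.ble (nat_lit 7232899) X)
noncomputable def U_a_n0_37 (X : ℕ) : ℕ := Bool.rec (motive := fun _ => ℕ) (U_a_n0_18 X) (U_a_n18_37 X) (Nat.ble (nat_lit 6652979) X)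
noncomputable def U_a_n37_39 (X : ℕ) : ℕ := Bool.rec (motive := fun _ => ℕ) U_a_37 U_a_38 (Nat.ble (nat_lit 7946711) X)
noncomputable def U_a_n39_41 (X : ℕ) : ℕ := Bool.rec (motive := fun _ => ℕ) U_a_39 U_a_40 (Nat.ble (nat_lit 8077529) X)
noncomputable def U_a_n37_41 (X : ℕ) : ℕ := Bool.rec (motive := fun _ => ℕ) (U_a_n37_39 X) (U_a_n39_41 X) (Nat.ble (nat_lit 8012209) X)
noncomputable def U_a_n41_43 (X : ℕ) : ℕ := Bool.rec (motive := fun _ => ℕ) U_a_41 U_a_42 (Nat.ble (nat_lit 8208023) X)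
noncomputable def U_a_n44_46 (X : ℕ) : ℕ := Bool.rec (motive := fun _ => ℕ) U_a_44 U_a_45 (Nat.ble (nat_lit 8403817) X)
noncomputable def U_a_n43_46 (X : ℕ) : ℕ := Bool.rec (motive := fun _ => ℕ) U_a_43 (U_a_n44_46 X) (Nat.ble (nat_lit 8338643) X)
noncomputable def U_a_n41_46 (X : ℕ) : ℕ := Bool.rec (motive := fun _ => ℕ) (U_a_n41_43 X) (U_a_n43_46 X) (Nat.ble (nat_lit 8273477) X)
noncomputable def U_a_n37_46 (X : ℕ) : ℕ := Bool.rec (motive := fun _ => ℕ) (U_a_n37_41 X) (U_a_n41_46 X) (Nat.ble (nat_lit 8143277) X)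
noncomputable def U_a_n46_48 (X : ℕ) : ℕ := Bool.rec (motive := fun _ => ℕ) U_a_46 U_a_47 (Nat.ble (nat_lit 8534429) X)
noncomputable def U_a_n49_51 (X : ℕ) : ℕ := Bool.rec (motive := fun _ => ℕ) U_a_49 U_a_50 (Nat.ble (nat_lit 8729821) X)
noncomputable def U_a_n48_51 (X : ℕ) : ℕ := Bool.rec (motive := fun _ => ℕ) U_a_48 (U_a_n49_51 X) (Nat.ble (nat_lit 8664559) X)
noncomputable def U_a_n46_51 (X : ℕ) : ℕ := Bool.rec (motive := fun _ => ℕ) (U_a_n46_48 X) (U_a_n48_51 X) (Nat.ble (nat_lit 8599469) X)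
noncomputable def U_a_n51_53 (X : ℕ) : ℕ := Bool.rec (motive := fun _ => ℕ) U_a_51 U_a_52 (Nat.ble (nat_lit 8861159) X)
noncomputable def U_a_n54_56 (X : ℕ) : ℕ := Bool.rec (motive := fun _ => ℕ) U_a_54 U_a_55 (Nat.ble (nat_lit 9058837) X)
noncomputable def U_a_n53_56 (X : ℕ) : ℕ := Bool.rec (motive := fun _ => ℕ) U_a_53 (U_a_n54_56 X) (Nat.ble (nat_lit 8992199) X)
noncomputable def U_a_n51_56 (X : ℕ) : ℕ := Bool.rec (motive := fun _ => ℕ) (U_a_n51_53 X) (U_a_n53_56 X) (Nat.ble (nat_lit 8926363) X)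
noncomputable def U_a_n46_56 (X : ℕ) : ℕ := Bool.rec (motive := fun _ => ℕ) (U_a_n46_51 X) (U_a_n51_56 X) (Nat.ble (nat_lit 8795047) X)
noncomputable def U_a_n37_56 (X : ℕ) : ℕ := Bool.rec (motive := fun _ => ℕ) (U_a_n37_46 X) (U_a_n46_56 X) (Nat.ble (nat_lit 8469977) X)
noncomputable def U_a_n56_58 (X : ℕ) : ℕ := Bool.rec (motive := fun _ => ℕ) U_a_56 U_a_57 (Nat.ble (nat_lit 9189703) X)
noncomputable def U_a_n58_60 (X : ℕ) : ℕ := Bool.rec (motive := fun _ => ℕ) U_a_58 U_a_59 (Nat.ble (nat_lit 9320833) X)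
noncomputable def U_a_n56_60 (X : ℕ) : ℕ := Bool.rec (motive := fun _ => ℕ) (U_a_n56_58 X) (U_a_n58_60 X) (Nat.ble (nat_lit 9255023) X)
noncomputable def U_a_n60_62 (X : ℕ) : ℕ := Bool.rec (motive := fun _ => ℕ) U_a_60 U_a_61 (Nat.ble (nat_lit 9452537) X)
noncomputable def U_a_n63_65 (X : ℕ) : ℕ := Bool.rec (motive := fun _ => ℕ) U_a_63 U_a_64 (Nat.ble (nat_lit 9649747) X)
noncomputable def U_a_n62_65 (X : ℕ) : ℕ := Bool.rec (motive := fun _ => ℕ) U_a_62 (U_a_n63_65 X) (Nat.ble (nat_lit 9584063) X)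
noncomputable def U_a_n60_65 (X : ℕ) : ℕ := Bool.rec (motive := fun _ => ℕ) (U_a_n60_62 X) (U_a_n62_65 X) (Nat.ble (nat_lit 9518723) X)
noncomputable def U_a_n56_65 (X : ℕ) : ℕ := Bool.rec (motive := fun _ => ℕ) (U_a_n56_60 X) (U_a_n60_65 X) (Nat.ble (nat_lit 9386471) X)
noncomputable def U_a_n65_67 (X : ℕ) : ℕ := Bool.rec (motive := fun _ => ℕ) U_a_65 U_a_66 (Nat.ble (nat_lit 9782029) X)
noncomputable def U_a_n68_70 (X : ℕ) : ℕ := Bool.rec (motive := fun _ => ℕ) U_a_68 U_a_69 (Nat.ble (nat_lit 9980857) X)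
noncomputable def U_a_n67_70 (X : ℕ) : ℕ := Bool.rec (motive := fun _ => ℕ) U_a_67 (U_a_n68_70 X) (Nat.ble (nat_lit 9914617) X)
noncomputable def U_a_n65_70 (X : ℕ) : ℕ := Bool.rec (motive := fun _ => ℕ) (U_a_n65_67 X) (U_a_n67_70 X) (Nat.ble (nat_lit 9847967) X)
noncomputable def U_a_n70_72 (X : ℕ) : ℕ := Bool.rec (motive := fun _ => ℕ) U_a_70 U_a_71 (Nat.ble (nat_lit 10112897) X)
noncomputable def U_a_n73_75 (X : ℕ) : ℕ := Bool.rec (motive := fun _ => ℕ) U_a_73 U_a_74 (Nat.ble (nat_lit 10311997) X)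
noncomputable def U_a_n72_75 (X : ℕ) : ℕ := Bool.rec (motive := fun _ => ℕ) U_a_72 (U_a_n73_75 X) (Nat.ble (nat_lit 10245751) X)
noncomputable def U_a_n70_75 (X : ℕ) : ℕ := Bool.rec (motive := fun _ => ℕ) (U_a_n70_72 X) (U_a_n72_75 X) (Nat.ble (nat_lit 10179161) X)
noncomputable def U_a_n65_75 (X : ℕ) : ℕ := Bool.rec (motive := fun _ => ℕ) (U_a_n65_70 X) (U_a_n70_75 X) (Nat.ble (nat_lit 10046903) X)
noncomputable def U_a_n56_75 (X : ℕ) : ℕ := Bool.rec (motive := fun _ => ℕ) (U_a_n56_65 X) (U_a_n65_75 X) (Nat.ble (nat_lit 9715969) X)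
noncomputable def U_a_n37_75 (X : ℕ) : ℕ := Bool.rec (motive := fun _ => ℕ) (U_a_n37_56 X) (U_a_n56_75 X) (Nat.ble (nat_lit 9124417) X)
noncomputable def U_a_sel (X : ℕ) : ℕ := Bool.rec (motive := fun _ => ℕ) (U_a_n0_37 X) (U_a_n37_75 X) (Nat.ble (nat_lit 7881739) X)
noncomputable def UU_a (q : ℕ) : ℕ := (Nat.mod (U_a_sel q) q)
noncomputable def V_a_n0_2 (X : ℕ) : ℕ := Bool.rec (motive := fun _ => ℕ) V_a_0 V_a_1 (Nat.ble (nat_lit 5564497) X)
noncomputable def V_a_n2_4 (X : ℕ) : ℕ := Bool.rec (motive := fun _ => ℕ) V_a_2 V_a_3 (Nat.ble (nat_lit 5692157) X)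
noncomputable def V_a_n0_4 (X : ℕ) : ℕ := Bool.rec (motive := fun _ => ℕ) (V_a_n0_2 X) (V_a_n2_4 X) (Nat.ble (nat_lit 5628131) X)
noncomputable def V_a_n4_6 (X : ℕ) : ℕ := Bool.rec (motive := fun _ => ℕ) V_a_4 V_a_5 (Nat.ble (nat_lit 5820037) X)
noncomputable def V_a_n7_9 (X : ℕ) : ℕ := Bool.rec (motive := fun _ => ℕ) V_a_7 V_a_8 (Nat.ble (nat_lit 6010867) X)
noncomputable def V_a_n6_9 (X : ℕ) : ℕ := Bool.rec (motive := fun _ => ℕ) V_a_6 (V_a_n7_9 X) (Nat.ble (nat_lit 5946749) X)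
noncomputable def V_a_n4_9 (X : ℕ) : ℕ := Bool.rec (motive := fun _ => ℕ) (V_a_n4_6 X) (V_a_n6_9 X) (Nat.ble (nat_lit 5883737) X)
noncomputable def V_a_n0_9 (X : ℕ) : ℕ := Bool.rec (motive := fun _ => ℕ) (V_a_n0_4 X) (V_a_n4_9 X) (Nat.ble (nat_lit 5755531) X)
noncomputable def V_a_n9_11 (X : ℕ) : ℕ := Bool.rec (motive := fun _ => ℕ) V_a_9 V_a_10 (Nat.ble (nat_lit 6139249) X)
noncomputable def V_a_n11_13 (X : ℕ) : ℕ := Bool.rec (motive := fun _ => ℕ) V_a_11 V_a_12 (Nat.ble (nat_lit 6267619) X)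
noncomputable def V_a_n9_13 (X : ℕ) : ℕ := Bool.rec (motive := fun _ => ℕ) (V_a_n9_11 X) (V_a_n11_13 X) (Nat.ble (nat_lit 6203143) X)
noncomputable def V_a_n13_15 (X : ℕ) : ℕ := Bool.rec (motive := fun _ => ℕ) V_a_13 V_a_14 (Nat.ble (nat_lit 6395947) X)
noncomputable def V_a_n16_18 (X : ℕ) : ℕ := Bool.rec (motive := fun _ => ℕ) V_a_16 V_a_17 (Nat.ble (nat_lit 6588443) X)
noncomputable def V_a_n15_18 (X : ℕ) : ℕ := Bool.rec (motive := fun _ => ℕ) V_a_15 (V_a_n16_18 X) (Nat.ble (nat_lit 6524611) X)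
noncomputable def V_a_n13_18 (X : ℕ) : ℕ := Bool.rec (motive := fun _ => ℕ) (V_a_n13_15 X) (V_a_n15_18 X) (Nat.ble (nat_lit 6460379) X)
noncomputable def V_a_n9_18 (X : ℕ) : ℕ := Bool.rec (motive := fun _ => ℕ) (V_a_n9_13 X) (V_a_n13_18 X) (Nat.ble (nat_lit 6330559) X)
noncomputable def V_a_n0_18 (X : ℕ) : ℕ := Bool.rec (motive := fun _ => ℕ) (V_a_n0_9 X) (V_a_n9_18 X) (Nat.ble (nat_lit 6075263) X)
noncomputable def V_a_n18_20 (X : ℕ) : ℕ := Bool.rec (motive := fun _ => ℕ) V_a_18 V_a_19 (Nat.ble (nat_lit 6717307) X)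
noncomputable def V_a_n20_22 (X : ℕ) : ℕ := Bool.rec (motive := fun _ => ℕ) V_a_20 V_a_21 (Nat.ble (nat_lit 6846031) X)
noncomputable def V_a_n18_22 (X : ℕ) : ℕ := Bool.rec (motive := fun _ => ℕ) (V_a_n18_20 X) (V_a_n20_22 X) (Nat.ble (nat_lit 6781547) X)
noncomputable def V_a_n22_24 (X : ℕ) : ℕ := Bool.rec (motive := fun _ => ℕ) V_a_22 V_a_23 (Nat.ble (nat_lit 6974053) X)
noncomputable def V_a_n25_27 (X : ℕ) : ℕ := Bool.rec (motive := fun _ => ℕ) V_a_25 V_a_26 (Nat.ble (nat_lit 7167791) X)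
noncomputable def V_a_n24_27 (X : ℕ) : ℕ := Bool.rec (motive := fun _ => ℕ) V_a_24 (V_a_n25_27 X) (Nat.ble (nat_lit 7102643) X)
noncomputable def V_a_n22_27 (X : ℕ) : ℕ := Bool.rec (motive := fun _ => ℕ) (V_a_n22_24 X) (V_a_n24_27 X) (Nat.ble (nat_lit 7038397) X)
noncomputable def V_a_n18_27 (X : ℕ) : ℕ := Bool.rec (motive := fun _ => ℕ) (V_a_n18_22 X) (V_a_n22_27 X) (Nat.ble (nat_lit 6909907) X)
noncomputable def V_a_n27_29 (X : ℕ) : ℕ := Bool.rec (motive := fun _ => ℕ) V_a_27 V_a_28 (Nat.ble (nat_lit 7296983) X)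
noncomputable def V_a_n30_32 (X : ℕ) : ℕ := Bool.rec (motive := fun _ => ℕ) V_a_30 V_a_31 (Nat.ble (nat_lit 7492031) X)
noncomputable def V_a_n29_32 (X : ℕ) : ℕ := Bool.rec (motive := fun _ => ℕ) V_a_29 (V_a_n30_32 X) (Nat.ble (nat_lit 7427041) X)
noncomputable def V_a_n27_32 (X : ℕ) : ℕ := Bool.rec (motive := fun _ => ℕ) (V_a_n27_29 X) (V_a_n29_32 X) (Nat.ble (nat_lit 7362133) X)
noncomputable def V_a_n32_34 (X : ℕ) : ℕ := Bool.rec (motive := fun _ => ℕ) V_a_32 V_a_33 (Nat.ble (nat_lit 7622317) X)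
noncomputable def V_a_n35_37 (X : ℕ) : ℕ := Bool.rec (motive := fun _ => ℕ) V_a_35 V_a_36 (Nat.ble (nat_lit 7817143) X)
noncomputable def V_a_n34_37 (X : ℕ) : ℕ := Bool.rec (motive := fun _ => ℕ) V_a_34 (V_a_n35_37 X) (Nat.ble (nat_lit 7752179) X)
noncomputable def V_a_n32_37 (X : ℕ) : ℕ := Bool.rec (motive := fun _ => ℕ) (V_a_n32_34 X) (V_a_n34_37 X) (Nat.ble (nat_lit 7686893) X)
noncomputable def V_a_n27_37 (X : ℕ) : ℕ := Bool.rec (motive := fun _ => ℕ) (V_a_n27_32 X) (V_a_n32_37 X) (Nat.ble (nat_lit 7557091) X)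
noncomputable def V_a_n18_37 (X : ℕ) : ℕ := Bool.rec (motive := fun _ => ℕ) (V_a_n18_27 X) (V_a_n27_37 X) (Nat.ble (nat_lit 7232899) X)
noncomputable def V_a_n0_37 (X : ℕ) : ℕ := Bool.rec (motive := fun _ => ℕ) (V_a_n0_18 X) (V_a_n18_37 X) (Nat.ble (nat_lit 6652979) X)
noncomputable def V_a_n37_39 (X : ℕ) : ℕ := Bool.rec (motive := fun _ => ℕ) V_a_37 V_a_38 (Nat.ble (nat_lit 7946711) X)
noncomputable def V_a_n39_41 (X : ℕ) : ℕ := Bool.rec (motive := fun _ => ℕ) V_a_39 V_a_40 (Nat.ble (nat_lit 8077529) X)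
noncomputable def V_a_n37_41 (X : ℕ) : ℕ := Bool.rec (motive := fun _ => ℕ) (V_a_n37_39 X) (V_a_n39_41 X) (Nat.ble (nat_lit 8012209) X)
noncomputable def V_a_n41_43 (X : ℕ) : ℕ := Bool.rec (motive := fun _ => ℕ) V_a_41 V_a_42 (Nat.ble (nat_lit 8208023) X)
noncomputable def V_a_n44_46 (X : ℕ) : ℕ := Bool.rec (motive := fun _ => ℕ) V_a_44 V_a_45 (Nat.ble (nat_lit 8403817) X)
noncomputable def V_a_n43_46 (X : ℕ) : ℕ := Bool.rec (motive := fun _ => ℕ) V_a_43 (V_a_n44_46 X) (Nat.ble (nat_lit 8338643) X)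
noncomputable def V_a_n41_46 (X : ℕ) : ℕ := Bool.rec (motive := fun _ => ℕ) (V_a_n41_43 X) (V_a_n43_46 X) (Nat.ble (nat_lit 8273477) X)
noncomputable def V_a_n37_46 (X : ℕ) : ℕ := Bool.rec (motive := fun _ => ℕ) (V_a_n37_41 X) (V_a_n41_46 X) (Nat.ble (nat_lit 8143277) X)
noncomputable def V_a_n46_48 (X : ℕ) : ℕ := Bool.rec (motive := fun _ => ℕ) V_a_46 V_a_47 (Nat.ble (nat_lit 8534429) X)
noncomputable def V_a_n49_51 (X : ℕ) : ℕ := Bool.rec (motive := fun _ => ℕ) V_a_49 V_a_50 (Nat.ble (nat_lit 8729821) X)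
noncomputable def V_a_n48_51 (X : ℕ) : ℕ := Bool.rec (motive := fun _ => ℕ) V_a_48 (V_a_n49_51 X) (Nat.ble (nat_lit 8664559) X)
noncomputable def V_a_n46_51 (X : ℕ) : ℕ := Bool.rec (motive := fun _ => ℕ) (V_a_n46_48 X) (V_a_n48_51 X) (Nat.ble (nat_lit 8599469) X)
noncomputable def V_a_n51_53 (X : ℕ) : ℕ := Bool.rec (motive := fun _ => ℕ) V_a_51 V_a_52 (Nat.ble (nat_lit 8861159) X)
noncomputable def V_a_n54_56 (X : ℕ) : ℕ := Bool.rec (motive := fun _ => ℕ) V_a_54 V_a_55 (Nat.ble (nat_lit 9058837) X)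
noncomputable def V_a_n53_56 (X : ℕ) : ℕ := Bool.rec (motive := fun _ => ℕ) V_a_53 (V_a_n54_56 X) (Nat.ble (nat_lit 8992199) X)
noncomputable def V_a_n51_56 (X : ℕ) : ℕ := Bool.rec (motive := fun _ => ℕ) (V_a_n51_53 X) (V_a_n53_56 X) (Nat.ble (nat_lit 8926363) X)
noncomputable def V_a_n46_56 (X : ℕ) : ℕ := Bool.rec (motive := fun _ => ℕ) (V_a_n46_51 X) (V_a_n51_56 X) (Nat.ble (nat_lit 8795047) X)
noncomputable def V_a_n37_56 (X : ℕ) : ℕ := Bool.rec (motive := fun _ => ℕ) (V_a_n37_46 X) (V_a_n46_56 X) (Nat.ble (nat_lit 8469977) X)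
noncomputable def V_a_n56_58 (X : ℕ) : ℕ := Bool.rec (motive := fun _ => ℕ) V_a_56 V_a_57 (Nat.ble (nat_lit 9189703) X)
noncomputable def V_a_n58_60 (X : ℕ) : ℕ := Bool.rec (motive := fun _ => ℕ) V_a_58 V_a_59 (Nat.ble (nat_lit 9320833) X)
noncomputable def V_a_n56_60 (X : ℕ) : ℕ := Bool.rec (motive := fun _ => ℕ) (V_a_n56_58 X) (V_a_n58_60 X) (Nat.ble (nat_lit 9255023) X)
noncomputable def V_a_n60_62 (X : ℕ) : ℕ := Bool.rec (motive := fun _ => ℕ) V_a_60 V_a_61 (Nat.ble (nat_lit 9452537) X)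
noncomputable def V_a_n63_65 (X : ℕ) : ℕ := Bool.rec (motive := fun _ => ℕ) V_a_63 V_a_64 (Nat.ble (nat_lit 9649747) X)
noncomputable def V_a_n62_65 (X : ℕ) : ℕ := Bool.rec (motive := fun _ => ℕ) V_a_62 (V_a_n63_65 X) (Nat.ble (nat_lit 9584063) X)
noncomputable def V_a_n60_65 (X : ℕ) : ℕ := Bool.rec (motive := fun _ => ℕ) (V_a_n60_62 X) (V_a_n62_65 X) (Nat.ble (nat_lit 9518723) X)
noncomputable def V_a_n56_65 (X : ℕ) : ℕ := Bool.rec (motive := fun _ => ℕ) (V_a_n56_60 X) (V_a_n60_65 X) (Nat.ble (nat_lit 9386471) X)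
noncomputable def V_a_n65_67 (X : ℕ) : ℕ := Bool.rec (motive := fun _ => ℕ) V_a_65 V_a_66 (Nat.ble (nat_lit 9782029) X)
noncomputable def V_a_n68_70 (X : ℕ) : ℕ := Bool.rec (motive := fun _ => ℕ) V_a_68 V_a_69 (Nat.ble (nat_lit 9980857) X)
noncomputable def V_a_n67_70 (X : ℕ) : ℕ := Bool.rec (motive := fun _ => ℕ) V_a_67 (V_a_n68_70 X) (Nat.ble (nat_lit 9914617) X)
noncomputable def V_a_n65_70 (X : ℕ) : ℕ := Bool.rec (motive := fun _ => ℕ) (V_a_n65_67 X) (V_a_n67_70 X) (Nat.ble (nat_lit 9847967) X)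
noncomputable def V_a_n70_72 (X : ℕ) : ℕ := Bool.rec (motive := fun _ => ℕ) V_a_70 V_a_71 (Nat.ble (nat_lit 10112897) X)
noncomputable def V_a_n73_75 (X : ℕ) : ℕ := Bool.rec (motive := fun _ => ℕ) V_a_73 V_a_74 (Nat.ble (nat_lit 10311997) X)
noncomputable def V_a_n72_75 (X : ℕ) : ℕ := Bool.rec (motive := fun _ => ℕ) V_a_72 (V_a_n73_75 X) (Nat.ble (nat_lit 10245751) X)
noncomputable def V_a_n70_75 (X : ℕ) : ℕ := Bool.rec (motive := fun _ => ℕ) (V_a_n70_72 X) (V_a_n72_75 X) (Nat.ble (nat_lit 10179161) X)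
noncomputable def V_a_n65_75 (X : ℕ) : ℕ := Bool.rec (motive := fun _ => ℕ) (V_a_n65_70 X) (V_a_n70_75 X) (Nat.ble (nat_lit 10046903) X)
noncomputable def V_a_n56_75 (X : ℕ) : ℕ := Bool.rec (motive := fun _ => ℕ) (V_a_n56_65 X) (V_a_n65_75 X) (Nat.ble (nat_lit 9715969) X)
noncomputable def V_a_n37_75 (X : ℕ) : ℕ := Bool.rec (motive := fun _ => ℕ) (V_a_n37_56 X) (V_a_n56_75 X) (Nat.ble (nat_lit 9124417) X)
noncomputable def V_a_sel (X : ℕ) : ℕ := Bool.rec (motive := fun _ => ℕ) (V_a_n0_37 X) (V_a_n37_75 X) (Nat.ble (nat_lit 7881739) X)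
noncomputable def VV_a (q : ℕ) : ℕ := (Nat.mod (V_a_sel q) q)
noncomputable def G_a (t q : ℕ) : ℕ := Bool.rec (motive := fun _ => ℕ) (nat_lit 0) (F_a q) (Nat.ble (Nat.succ (UU_a q)) t)
noncomputable def T_b_n0_2 (X : ℕ) : ℕ := Bool.rec (motive := fun _ => ℕ) T_b_0 T_b_1 (Nat.ble (nat_lit 5564497) X)
noncomputable def T_b_n2_4 (X : ℕ) : ℕ := Bool.rec (motive := fun _ => ℕ) T_b_2 T_b_3 (Nat.ble (nat_lit 5692157) X)
noncomputable def T_b_n0_4 (X : ℕ) : ℕ := Bool.rec (motive := fun _ => ℕ) (T_b_n0_2 X) (T_b_n2_4 X) (Nat.ble (nat_lit 5628131) X)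
noncomputable def T_b_n4_6 (X : ℕ) : ℕ := Bool.rec (motive := fun _ => ℕ) T_b_4 T_b_5 (Nat.ble (nat_lit 5820037) X)
noncomputable def T_b_n7_9 (X : ℕ) : ℕ := Bool.rec (motive := fun _ => ℕ) T_b_7 T_b_8 (Nat.ble (nat_lit 6010867) X)
noncomputable def T_b_n6_9 (X : ℕ) : ℕ := Bool.rec (motive := fun _ => ℕ) T_b_6 (T_b_n7_9 X) (Nat.ble (nat_lit 5946749) X)
noncomputable def T_b_n4_9 (X : ℕ) : ℕ := Bool.rec (motive := fun _ => ℕ) (T_b_n4_6 X) (T_b_n6_9 X) (Nat.ble (nat_lit 5883737) X)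
noncomputable def T_b_n0_9 (X : ℕ) : ℕ := Bool.rec (motive := fun _ => ℕ) (T_b_n0_4 X) (T_b_n4_9 X) (Nat.ble (nat_lit 5755531) X)
noncomputable def T_b_n9_11 (X : ℕ) : ℕ := Bool.rec (motive := fun _ => ℕ) T_b_9 T_b_10 (Nat.ble (nat_lit 6139249) X)
noncomputable def T_b_n11_13 (X : ℕ) : ℕ := Bool.rec (motive := fun _ => ℕ) T_b_11 T_b_12 (Nat.ble (nat_lit 6267619) X)
noncomputable def T_b_n9_13 (X : ℕ) : ℕ := Bool.rec (motive := fun _ => ℕ) (T_b_n9_11 X) (T_b_n11_13 X) (Nat.ble (nat_lit 6203143) X)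
noncomputable def T_b_n13_15 (X : ℕ) : ℕ := Bool.rec (motive := fun _ => ℕ) T_b_13 T_b_14 (Nat.ble (nat_lit 6395947) X)
noncomputable def T_b_n16_18 (X : ℕ) : ℕ := Bool.rec (motive := fun _ => ℕ) T_b_16 T_b_17 (Nat.ble (nat_lit 6588443) X)
noncomputable def T_b_n15_18 (X : ℕ) : ℕ := Bool.rec (motive := fun _ => ℕ) T_b_15 (T_b_n16_18 X) (Nat.ble (nat_lit 6524611) X)
noncomputable def T_b_n13_18 (X : ℕ) : ℕ := Bool.rec (motive := fun _ => ℕ) (T_b_n13_15 X) (T_b_n15_18 X) (Nat.ble (nat_lit 6460379) X)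
noncomputable def T_b_n9_18 (X : ℕ) : ℕ := Bool.rec (motive := fun _ => ℕ) (T_b_n9_13 X) (T_b_n13_18 X) (Nat.ble (nat_lit 6330559) X)
noncomputable def T_b_n0_18 (X : ℕ) : ℕ := Bool.rec (motive := fun _ => ℕ) (T_b_n0_9 X) (T_b_n9_18 X) (Nat.ble (nat_lit 6075263) X)
noncomputable def T_b_n18_20 (X : ℕ) : ℕ := Bool.rec (motive := fun _ => ℕ) T_b_18 T_b_19 (Nat.ble (nat_lit 6717307) X)
noncomputable def T_b_n20_22 (X : ℕ) : ℕ := Bool.rec (motive := fun _ => ℕ) T_b_20 T_b_21 (Nat.ble (nat_lit 6846031) X)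
noncomputable def T_b_n18_22 (X : ℕ) : ℕ := Bool.rec (motive := fun _ => ℕ) (T_b_n18_20 X) (T_b_n20_22 X) (Nat.ble (nat_lit 6781547) X)
noncomputable def T_b_n22_24 (X : ℕ) : ℕ := Bool.rec (motive := fun _ => ℕ) T_b_22 T_b_23 (Nat.ble (nat_lit 6974053) X)
noncomputable def T_b_n25_27 (X : ℕ) : ℕ := Bool.rec (motive := fun _ => ℕ) T_b_25 T_b_26 (Nat.ble (nat_lit 7167791) X)
noncomputable def T_b_n24_27 (X : ℕ) : ℕ := Bool.rec (motive := fun _ => ℕ) T_b_24 (T_b_n25_27 X) (Nat.ble (nat_lit 7102643) X)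
noncomputable def T_b_n22_27 (X : ℕ) : ℕ := Bool.rec (motive := fun _ => ℕ) (T_b_n22_24 X) (T_b_n24_27 X) (Nat.ble (nat_lit 7038397) X)
noncomputable def T_b_n18_27 (X : ℕ) : ℕ := Bool.rec (motive := fun _ => ℕ) (T_b_n18_22 X) (T_b_n22_27 X) (Nat.ble (nat_lit 6909907) X)
noncomputable def T_b_n27_29 (X : ℕ) : ℕ := Bool.rec (motive := fun _ => ℕ) T_b_27 T_b_28 (Nat.ble (nat_lit 7296983) X)
noncomputable def T_b_n30_32 (X : ℕ) : ℕ := Bool.rec (motive := fun _ => ℕ) T_b_30 T_b_31 (Nat.ble (nat_lit 7492031) X)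
noncomputable def T_b_n29_32 (X : ℕ) : ℕ := Bool.rec (motive := fun _ => ℕ) T_b_29 (T_b_n30_32 X) (Nat.ble (nat_lit 7427041) X)
noncomputable def T_b_n27_32 (X : ℕ) : ℕ := Bool.rec (motive := fun _ => ℕ) (T_b_n27_29 X) (T_b_n29_32 X) (Nat.ble (nat_lit 7362133) X)
noncomputable def T_b_n32_34 (X : ℕ) : ℕ := Bool.rec (motive := fun _ => ℕ) T_b_32 T_b_33 (Nat.ble (nat_lit 7622317) X)
noncomputable def T_b_n35_37 (X : ℕ) : ℕ := Bool.rec (motive := fun _ => ℕ) T_b_35 T_b_36 (Nat.ble (nat_lit 7817143) X)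
noncomputable def T_b_n34_37 (X : ℕ) : ℕ := Bool.rec (motive := fun _ => ℕ) T_b_34 (T_b_n35_37 X) (Nat.ble (nat_lit 7752179) X)
noncomputable def T_b_n32_37 (X : ℕ) : ℕ := Bool.rec (motive := fun _ => ℕ) (T_b_n32_34 X) (T_b_n34_37 X) (Nat.ble (nat_lit 7686893) X)
noncomputable def T_b_n27_37 (X : ℕ) : ℕ := Bool.rec (motive := fun _ => ℕ) (T_b_n27_32 X) (T_b_n32_37 X) (Nat.ble (nat_lit 7557091) X)
noncomputable def T_b_n18_37 (X : ℕ) : ℕ := Bool.rec (motive := fun _ => ℕ) (T_b_n18_27 X) (T_b_n27_37 X) (Nat.ble (nat_lit 7232899) X)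
noncomputable def T_b_n0_37 (X : ℕ) : ℕ := Bool.rec (motive := fun _ => ℕ) (T_b_n0_18 X) (T_b_n18_37 X) (Nat.ble (nat_lit 6652979) X)
noncomputable def T_b_n37_39 (X : ℕ) : ℕ := Bool.rec (motive := fun _ => ℕ) T_b_37 T_b_38 (Nat.ble (nat_lit 7946711) X)
noncomputable def T_b_n39_41 (X : ℕ) : ℕ := Bool.rec (motive := fun _ => ℕ) T_b_39 T_b_40 (Nat.ble (nat_lit 8077529) X)
noncomputable def T_b_n37_41 (X : ℕ) : ℕ := Bool.rec (motive := fun _ => ℕ) (T_b_n37_39 X) (T_b_n39_41 X) (Nat.ble (nat_lit 8012209) X)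
noncomputable def T_b_n41_43 (X : ℕ) : ℕ := Bool.rec (motive := fun _ => ℕ) T_b_41 T_b_42 (Nat.ble (nat_lit 8208023) X)
noncomputable def T_b_n44_46 (X : ℕ) : ℕ := Bool.rec (motive := fun _ => ℕ) T_b_44 T_b_45 (Nat.ble (nat_lit 8403817) X)
noncomputable def T_b_n43_46 (X : ℕ) : ℕ := Bool.rec (motive := fun _ => ℕ) T_b_43 (T_b_n44_46 X) (Nat.ble (nat_lit 8338643) X)
noncomputable def T_b_n41_46 (X : ℕ) : ℕ := Bool.rec (motive := fun _ => ℕ) (T_b_n41_43 X) (T_b_n43_46 X) (Nat.ble (nat_lit 8273477) X)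
noncomputable def T_b_n37_46 (X : ℕ) : ℕ := Bool.rec (motive := fun _ => ℕ) (T_b_n37_41 X) (T_b_n41_46 X) (Nat.ble (nat_lit 8143277) X)
noncomputable def T_b_n46_48 (X : ℕ) : ℕ := Bool.rec (motive := fun _ => ℕ) T_b_46 T_b_47 (Nat.ble (nat_lit 8534429) X)
noncomputable def T_b_n49_51 (X : ℕ) : ℕ := Bool.rec (motive := fun _ => ℕ) T_b_49 T_b_50 (Nat.ble (nat_lit 8729821) X)
noncomputable def T_b_n48_51 (X : ℕ) : ℕ := Bool.rec (motive := fun _ => ℕ) T_b_48 (T_b_n49_51 X) (Nat.ble (nat_lit 8664559) X)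
noncomputable def T_b_n46_51 (X : ℕ) : ℕ := Bool.rec (motive := fun _ => ℕ) (T_b_n46_48 X) (T_b_n48_51 X) (Nat.ble (nat_lit 8599469) X)
noncomputable def T_b_n51_53 (X : ℕ) : ℕ := Bool.rec (motive := fun _ => ℕ) T_b_51 T_b_52 (Nat.ble (nat_lit 8861159) X)
noncomputable def T_b_n54_56 (X : ℕ) : ℕ := Bool.rec (motive := fun _ => ℕ) T_b_54 T_b_55 (Nat.ble (nat_lit 9058837) X)
noncomputable def T_b_n53_56 (X : ℕ) : ℕ := Bool.rec (motive := fun _ => ℕ) T_b_53 (T_b_n54_56 X) (Nat.ble (nat_lit 8992199) X)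
noncomputable def T_b_n51_56 (X : ℕ) : ℕ := Bool.rec (motive := fun _ => ℕ) (T_b_n51_53 X) (T_b_n53_56 X) (Nat.ble (nat_lit 8926363) X)
noncomputable def T_b_n46_56 (X : ℕ) : ℕ := Bool.rec (motive := fun _ => ℕ) (T_b_n46_51 X) (T_b_n51_56 X) (Nat.ble (nat_lit 8795047) X)
noncomputable def T_b_n37_56 (X : ℕ) : ℕ := Bool.rec (motive := fun _ => ℕ) (T_b_n37_46 X) (T_b_n46_56 X) (Nat.ble (nat_lit 8469977) X)
noncomputable def T_b_n56_58 (X : ℕ) : ℕ := Bool.rec (motive := fun _ => ℕ) T_b_56 T_b_57 (Nat.ble (nat_lit 9189703) X)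
noncomputable def T_b_n58_60 (X : ℕ) : ℕ := Bool.rec (motive := fun _ => ℕ) T_b_58 T_b_59 (Nat.ble (nat_lit 9320833) X)
noncomputable def T_b_n56_60 (X : ℕ) : ℕ := Bool.rec (motive := fun _ => ℕ) (T_b_n56_58 X) (T_b_n58_60 X) (Nat.ble (nat_lit 9255023) X)
noncomputable def T_b_n60_62 (X : ℕ) : ℕ := Bool.rec (motive := fun _ => ℕ) T_b_60 T_b_61 (Nat.ble (nat_lit 9452537) X)
noncomputable def T_b_n63_65 (X : ℕ) : ℕ := Bool.rec (motive := fun _ => ℕ) T_b_63 T_b_64 (Nat.ble (nat_lit 9649747) X)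
noncomputable def T_b_n62_65 (X : ℕ) : ℕ := Bool.rec (motive := fun _ => ℕ) T_b_62 (T_b_n63_65 X) (Nat.ble (nat_lit 9584063) X)
noncomputable def T_b_n60_65 (X : ℕ) : ℕ := Bool.rec (motive := fun _ => ℕ) (T_b_n60_62 X) (T_b_n62_65 X) (Nat.ble (nat_lit 9518723) X)
noncomputable def T_b_n56_65 (X : ℕ) : ℕ := Bool.rec (motive := fun _ => ℕ) (T_b_n56_60 X) (T_b_n60_65 X) (Nat.ble (nat_lit 9386471) X)
noncomputable def T_b_n65_67 (X : ℕ) : ℕ := Bool.rec (motive := fun _ => ℕ) T_b_65 T_b_66 (Nat.ble (nat_lit 9782029) X)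
noncomputable def T_b_n68_70 (X : ℕ) : ℕ := Bool.rec (motive := fun _ => ℕ) T_b_68 T_b_69 (Nat.ble (nat_lit 9980857) X)
noncomputable def T_b_n67_70 (X : ℕ) : ℕ := Bool.rec (motive := fun _ => ℕ) T_b_67 (T_b_n68_70 X) (Nat.ble (nat_lit 9914617) X)
noncomputable def T_b_n65_70 (X : ℕ) : ℕ := Bool.rec (motive := fun _ => ℕ) (T_b_n65_67 X) (T_b_n67_70 X) (Nat.ble (nat_lit 9847967) X)
noncomputable def T_b_n70_72 (X : ℕ) : ℕ := Bool.rec (motive := fun _ => ℕ) T_b_70 T_b_71 (Nat.ble (nat_lit 10112897) X)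
noncomputable def T_b_n73_75 (X : ℕ) : ℕ := Bool.rec (motive := fun _ => ℕ) T_b_73 T_b_74 (Nat.ble (nat_lit 10311997) X)
noncomputable def T_b_n72_75 (X : ℕ) : ℕ := Bool.rec (motive := fun _ => ℕ) T_b_72 (T_b_n73_75 X) (Nat.ble (nat_lit 10245751) X)
noncomputable def T_b_n70_75 (X : ℕ) : ℕ := Bool.rec (motive := fun _ => ℕ) (T_b_n70_72 X) (T_b_n72_75 X) (Nat.ble (nat_lit 10179161) X)
noncomputable def T_b_n65_75 (X : ℕ) : ℕ := Bool.rec (motive := fun _ => ℕ) (T_b_n65_70 X) (T_b_n70_75 X) (Nat.ble (nat_lit 10046903) X)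
noncomputable def T_b_n56_75 (X : ℕ) : ℕ := Bool.rec (motive := fun _ => ℕ) (T_b_n56_65 X) (T_b_n65_75 X) (Nat.ble (nat_lit 9715969) X)
noncomputable def T_b_n37_75 (X : ℕ) : ℕ := Bool.rec (motive := fun _ => ℕ) (T_b_n37_56 X) (T_b_n56_75 X) (Nat.ble (nat_lit 9124417) X)
noncomputable def T_b_sel (X : ℕ) : ℕ := Bool.rec (motive := fun _ => ℕ) (T_b_n0_37 X) (T_b_n37_75 X) (Nat.ble (nat_lit 7881739) X)
noncomputable def F_b (q : ℕ) : ℕ := Nat.add (nat_lit 5500000) (Nat.mod (T_b_sel q) q)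
noncomputable def U_b_n0_2 (X : ℕ) : ℕ := Bool.rec (motive := fun _ => ℕ) U_b_0 U_b_1 (Nat.ble (nat_lit 5564497) X)
noncomputable def U_b_n2_4 (X : ℕ) : ℕ := Bool.rec (motive := fun _ => ℕ) U_b_2 U_b_3 (Nat.ble (nat_lit 5692157) X)
noncomputable def U_b_n0_4 (X : ℕ) : ℕ := Bool.rec (motive := fun _ => ℕ) (U_b_n0_2 X) (U_b_n2_4 X) (Nat.ble (nat_lit 5628131) X)
noncomputable def U_b_n4_6 (X : ℕ) : ℕ := Bool.rec (motive := fun _ => ℕ) U_b_4 U_b_5 (Nat.ble (nat_lit 5820037) X)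
noncomputable def U_b_n7_9 (X : ℕ) : ℕ := Bool.rec (motive := fun _ => ℕ) U_b_7 U_b_8 (Nat.ble (nat_lit 6010867) X)
noncomputable def U_b_n6_9 (X : ℕ) : ℕ := Bool.rec (motive := fun _ => ℕ) U_b_6 (U_b_n7_9 X) (Nat.ble (nat_lit 5946749) X)
noncomputable def U_b_n4_9 (X : ℕ) : ℕ := Bool.rec (motive := fun _ => ℕ) (U_b_n4_6 X) (U_b_n6_9 X) (Nat.ble (nat_lit 5883737) X)
noncomputable def U_b_n0_9 (X : ℕ) : ℕ := Bool.rec (motive := fun _ => ℕ) (U_b_n0_4 X) (U_b_n4_9 X) (Nat.ble (nat_lit 5755531) X)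
noncomputable def U_b_n9_11 (X : ℕ) : ℕ := Bool.rec (motive := fun _ => ℕ) U_b_9 U_b_10 (Nat.ble (nat_lit 6139249) X)
noncomputable def U_b_n11_13 (X : ℕ) : ℕ := Bool.rec (motive := fun _ => ℕ) U_b_11 U_b_12 (Nat.ble (nat_lit 6267619) X)
noncomputable def U_b_n9_13 (X : ℕ) : ℕ := Bool.rec (motive := fun _ => ℕ) (U_b_n9_11 X) (U_b_n11_13 X) (Nat.ble (nat_lit 6203143) X)
noncomputable def U_b_n13_15 (X : ℕ) : ℕ := Bool.rec (motive := fun _ => ℕ) U_b_13 U_b_14 (Nat.ble (nat_lit 6395947) X)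
noncomputable def U_b_n16_18 (X : ℕ) : ℕ := Bool.rec (motive := fun _ => ℕ) U_b_16 U_b_17 (Nat.ble (nat_lit 6588443) X)
noncomputable def U_b_n15_18 (X : ℕ) : ℕ := Bool.rec (motive := fun _ => ℕ) U_b_15 (U_b_n16_18 X) (Nat.ble (nat_lit 6524611) X)
noncomputable def U_b_n13_18 (X : ℕ) : ℕ := Bool.rec (motive := fun _ => ℕ) (U_b_n13_15 X) (U_b_n15_18 X) (Nat.ble (nat_lit 6460379) X)
noncomputable def U_b_n9_18 (X : ℕ) : ℕ := Bool.rec (motive := fun _ => ℕ) (U_b_n9_13 X) (U_b_n13_18 X) (Nat.ble (nat_lit 6330559) X)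
noncomputable def U_b_n0_18 (X : ℕ) : ℕ := Bool.rec (motive := fun _ => ℕ) (U_b_n0_9 X) (U_b_n9_18 X) (Nat.ble (nat_lit 6075263) X)
noncomputable def U_b_n18_20 (X : ℕ) : ℕ := Bool.rec (motive := fun _ => ℕ) U_b_18 U_b_19 (Nat.ble (nat_lit 6717307) X)
noncomputable def U_b_n20_22 (X : ℕ) : ℕ := Bool.rec (motive := fun _ => ℕ) U_b_20 U_b_21 (Nat.ble (nat_lit 6846031) X)
noncomputable def U_b_n18_22 (X : ℕ) : ℕ := Bool.rec (motive := fun _ => ℕ) (U_b_n18_20 X) (U_b_n20_22 X) (Nat.ble (nat_lit 6781547) X)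
noncomputable def U_b_n22_24 (X : ℕ) : ℕ := Bool.rec (motive := fun _ => ℕ) U_b_22 U_b_23 (Nat.ble (nat_lit 6974053) X)
noncomputable def U_b_n25_27 (X : ℕ) : ℕ := Bool.rec (motive := fun _ => ℕ) U_b_25 U_b_26 (Nat.ble (nat_lit 7167791) X)
noncomputable def U_b_n24_27 (X : ℕ) : ℕ := Bool.rec (motive := fun _ => ℕ) U_b_24 (U_b_n25_27 X) (Nat.ble (nat_lit 7102643) X)
noncomputable def U_b_n22_27 (X : ℕ) : ℕ := Bool.rec (motive := fun _ => ℕ) (U_b_n22_24 X) (U_b_n24_27 X) (Nat.ble (nat_lit 7038397) X)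
noncomputable def U_b_n18_27 (X : ℕ) : ℕ := Bool.rec (motive := fun _ => ℕ) (U_b_n18_22 X) (U_b_n22_27 X) (Nat.ble (nat_lit 6909907) X)
noncomputable def U_b_n27_29 (X : ℕ) : ℕ := Bool.rec (motive := fun _ => ℕ) U_b_27 U_b_28 (Nat.ble (nat_lit 7296983) X)
noncomputable def U_b_n30_32 (X : ℕ) : ℕ := Bool.rec (motive := fun _ => ℕ) U_b_30 U_b_31 (Nat.ble (nat_lit 7492031) X)
noncomputable def U_b_n29_32 (X : ℕ) : ℕ := Bool.rec (motive := fun _ => ℕ) U_b_29 (U_b_n30_32 X) (Nat.ble (nat_lit 7427041) X)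
noncomputable def U_b_n27_32 (X : ℕ) : ℕ := Bool.rec (motive := fun _ => ℕ) (U_b_n27_29 X) (U_b_n29_32 X) (Nat.ble (nat_lit 7362133) X)
noncomputable def U_b_n32_34 (X : ℕ) : ℕ := Bool.rec (motive := fun _ => ℕ) U_b_32 U_b_33 (Nat.ble (nat_lit 7622317) X)
noncomputable def U_b_n35_37 (X : ℕ) : ℕ := Bool.rec (motive := fun _ => ℕ) U_b_35 U_b_36 (Nat.ble (nat_lit 7817143) X)
noncomputable def U_b_n34_37 (X : ℕ) : ℕ := Bool.rec (motive := fun _ => ℕ) U_b_34 (U_b_n35_37 X) (Nat.ble (nat_lit 7752179) X)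
noncomputable def U_b_n32_37 (X : ℕ) : ℕ := Bool.rec (motive := fun _ => ℕ) (U_b_n32_34 X) (U_b_n34_37 X) (Nat.ble (nat_lit 7686893) X)
noncomputable def U_b_n27_37 (X : ℕ) : ℕ := Bool.rec (motive := fun _ => ℕ) (U_b_n27_32 X) (U_b_n32_37 X) (Nat.ble (nat_lit 7557091) X)
noncomputable def U_b_n18_37 (X : ℕ) : ℕ := Bool.rec (motive := fun _ => ℕ) (U_b_n18_27 X) (U_b_n27_37 X) (Nat.ble (nat_lit 7232899) X)
noncomputable def U_b_n0_37 (X : ℕ) : ℕ := Bool.rec (motive := fun _ => ℕ) (U_b_n0_18 X) (U_b_n18_37 X) (Nat.ble (nat_lit 6652979) X)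
noncomputable def U_b_n37_39 (X : ℕ) : ℕ := Bool.rec (motive := fun _ => ℕ) U_b_37 U_b_38 (Nat.ble (nat_lit 7946711) X)
noncomputable def U_b_n39_41 (X : ℕ) : ℕ := Bool.rec (motive := fun _ => ℕ) U_b_39 U_b_40 (Nat.ble (nat_lit 8077529) X)
noncomputable def U_b_n37_41 (X : ℕ) : ℕ := Bool.rec (motive := fun _ => ℕ) (U_b_n37_39 X) (U_b_n39_41 X) (Nat.ble (nat_lit 8012209) X)
noncomputable def U_b_n41_43 (X : ℕ) : ℕ := Bool.rec (motive := fun _ => ℕ) U_b_41 U_b_42 (Nat.ble (nat_lit 8208023) X)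
noncomputable def U_b_n44_46 (X : ℕ) : ℕ := Bool.rec (motive := fun _ => ℕ) U_b_44 U_b_45 (Nat.ble (nat_lit 8403817) X)
noncomputable def U_b_n43_46 (X : ℕ) : ℕ := Bool.rec (motive := fun _ => ℕ) U_b_43 (U_b_n44_46 X) (Nat.ble (nat_lit 8338643) X)
noncomputable def U_b_n41_46 (X : ℕ) : ℕ := Bool.rec (motive := fun _ => ℕ) (U_b_n41_43 X) (U_b_n43_46 X) (Nat.ble (nat_lit 8273477) X)
noncomputable def U_b_n37_46 (X : ℕ) : ℕ := Bool.rec (motive := fun _ => ℕ) (U_b_n37_41 X) (U_b_n41_46 X) (Nat.ble (nat_lit 8143277) X)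
noncomputable def U_b_n46_48 (X : ℕ) : ℕ := Bool.rec (motive := fun _ => ℕ) U_b_46 U_b_47 (Nat.ble (nat_lit 8534429) X)
noncomputable def U_b_n49_51 (X : ℕ) : ℕ := Bool.rec (motive := fun _ => ℕ) U_b_49 U_b_50 (Nat.ble (nat_lit 8729821) X)
noncomputable def U_b_n48_51 (X : ℕ) : ℕ := Bool.rec (motive := fun _ => ℕ) U_b_48 (U_b_n49_51 X) (Nat.ble (nat_lit 8664559) X)
noncomputable def U_b_n46_51 (X : ℕ) : ℕ := Bool.rec (motive := fun _ => ℕ) (U_b_n46_48 X) (U_b_n48_51 X) (Nat.ble (nat_lit 8599469) X)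
noncomputable def U_b_n51_53 (X : ℕ) : ℕ := Bool.rec (motive := fun _ => ℕ) U_b_51 U_b_52 (Nat.ble (nat_lit 8861159) X)
noncomputable def U_b_n54_56 (X : ℕ) : ℕ := Bool.rec (motive := fun _ => ℕ) U_b_54 U_b_55 (Nat.ble (nat_lit 9058837) X)
noncomputable def U_b_n53_56 (X : ℕ) : ℕ := Bool.rec (motive := fun _ => ℕ) U_b_53 (U_b_n54_56 X) (Nat.ble (nat_lit 8992199) X)
noncomputable def U_b_n51_56 (X : ℕ) : ℕ := Bool.rec (motive := fun _ => ℕ) (U_b_n51_53 X) (U_b_n53_56 X) (Nat.ble (nat_lit 8926363) X)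
noncomputable def U_b_n46_56 (X : ℕ) : ℕ := Bool.rec (motive := fun _ => ℕ) (U_b_n46_51 X) (U_b_n51_56 X) (Nat.ble (nat_lit 8795047) X)
noncomputable def U_b_n37_56 (X : ℕ) : ℕ := Bool.rec (motive := fun _ => ℕ) (U_b_n37_46 X) (U_b_n46_56 X) (Nat.ble (nat_lit 8469977) X)
noncomputable def U_b_n56_58 (X : ℕ) : ℕ := Bool.rec (motive := fun _ => ℕ) U_b_56 U_b_57 (Nat.ble (nat_lit 9189703) X)
noncomputable def U_b_n58_60 (X : ℕ) : ℕ := Bool.rec (motive := fun _ => ℕ) U_b_58 U_b_59 (Nat.ble (nat_lit 9320833) X)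
noncomputable def U_b_n56_60 (X : ℕ) : ℕ := Bool.rec (motive := fun _ => ℕ) (U_b_n56_58 X) (U_b_n58_60 X) (Nat.ble (nat_lit 9255023) X)
noncomputable def U_b_n60_62 (X : ℕ) : ℕ := Bool.rec (motive := fun _ => ℕ) U_b_60 U_b_61 (Nat.ble (nat_lit 9452537) X)
noncomputable def U_b_n63_65 (X : ℕ) : ℕ := Bool.rec (motive := fun _ => ℕ) U_b_63 U_b_64 (Nat.ble (nat_lit 9649747) X)
noncomputable def U_b_n62_65 (X : ℕ) : ℕ := Bool.rec (motive := fun _ => ℕ) U_b_62 (U_b_n63_65 X) (Nat.ble (nat_lit 9584063) X)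
noncomputable def U_b_n60_65 (X : ℕ) : ℕ := Bool.rec (motive := fun _ => ℕ) (U_b_n60_62 X) (U_b_n62_65 X) (Nat.ble (nat_lit 9518723) X)
noncomputable def U_b_n56_65 (X : ℕ) : ℕ := Bool.rec (motive := fun _ => ℕ) (U_b_n56_60 X) (U_b_n60_65 X) (Nat.ble (nat_lit 9386471) X)
noncomputable def U_b_n65_67 (X : ℕ) : ℕ := Bool.rec (motive := fun _ => ℕ) U_b_65 U_b_66 (Nat.ble (nat_lit 9782029) X)
noncomputable def U_b_n68_70 (X : ℕ) : ℕ := Bool.rec (motive := fun _ => ℕ) U_b_68 U_b_69 (Nat.ble (nat_lit 9980857) X)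
noncomputable def U_b_n67_70 (X : ℕ) : ℕ := Bool.rec (motive := fun _ => ℕ) U_b_67 (U_b_n68_70 X) (Nat.ble (nat_lit 9914617) X)
noncomputable def U_b_n65_70 (X : ℕ) : ℕ := Bool.rec (motive := fun _ => ℕ) (U_b_n65_67 X) (U_b_n67_70 X) (Nat.ble (nat_lit 9847967) X)
noncomputable def U_b_n70_72 (X : ℕ) : ℕ := Bool.rec (motive := fun _ => ℕ) U_b_70 U_b_71 (Nat.ble (nat_lit 10112897) X)
noncomputable def U_b_n73_75 (X : ℕ) : ℕ := Bool.rec (motive := fun _ => ℕ) U_b_73 U_b_74 (Nat.ble (nat_lit 10311997) X)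
noncomputable def U_b_n72_75 (X : ℕ) : ℕ := Bool.rec (motive := fun _ => ℕ) U_b_72 (U_b_n73_75 X) (Nat.ble (nat_lit 10245751) X)
noncomputable def U_b_n70_75 (X : ℕ) : ℕ := Bool.rec (motive := fun _ => ℕ) (U_b_n70_72 X) (U_b_n72_75 X) (Nat.ble (nat_lit 10179161) X)
noncomputable def U_b_n65_75 (X : ℕ) : ℕ := Bool.rec (motive := fun _ => ℕ) (U_b_n65_70 X) (U_b_n70_75 X) (Nat.ble (nat_lit 10046903) X)
noncomputable def U_b_n56_75 (X : ℕ) : ℕ := Bool.rec (motive := fun _ => ℕ) (U_b_n56_65 X) (U_b_n65_75 X) (Nat.ble (nat_lit 9715969) X)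
noncomputable def U_b_n37_75 (X : ℕ) : ℕ := Bool.rec (motive := fun _ => ℕ) (U_b_n37_56 X) (U_b_n56_75 X) (Nat.ble (nat_lit 9124417) X)
noncomputable def U_b_sel (X : ℕ) : ℕ := Bool.rec (motive := fun _ => ℕ) (U_b_n0_37 X) (U_b_n37_75 X) (Nat.ble (nat_lit 7881739) X)
noncomputable def UU_b (q : ℕ) : ℕ := (Nat.mod (U_b_sel q) q)
noncomputable def V_b_n0_2 (X : ℕ) : ℕ := Bool.rec (motive := fun _ => ℕ) V_b_0 V_b_1 (Nat.ble (nat_lit 5564497) X)
noncomputable def V_b_n2_4 (X : ℕ) : ℕ := Bool.rec (motive := fun _ => ℕ) V_b_2 V_b_3 (Nat.ble (nat_lit 5692157) X)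
noncomputable def V_b_n0_4 (X : ℕ) : ℕ := Bool.rec (motive := fun _ => ℕ) (V_b_n0_2 X) (V_b_n2_4 X) (Nat.ble (nat_lit 5628131) X)
noncomputable def V_b_n4_6 (X : ℕ) : ℕ := Bool.rec (motive := fun _ => ℕ) V_b_4 V_b_5 (Nat.ble (nat_lit 5820037) X)
noncomputable def V_b_n7_9 (X : ℕ) : ℕ := Bool.rec (motive := fun _ => ℕ) V_b_7 V_b_8 (Nat.ble (nat_lit 6010867) X)
noncomputable def V_b_n6_9 (X : ℕ) : ℕ := Bool.rec (motive := fun _ => ℕ) V_b_6 (V_b_n7_9 X) (Nat.ble (nat_lit 5946749) X)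
noncomputable def V_b_n4_9 (X : ℕ) : ℕ := Bool.rec (motive := fun _ => ℕ) (V_b_n4_6 X) (V_b_n6_9 X) (Nat.ble (nat_lit 5883737) X)
noncomputable def V_b_n0_9 (X : ℕ) : ℕ := Bool.rec (motive := fun _ => ℕ) (V_b_n0_4 X) (V_b_n4_9 X) (Nat.ble (nat_lit 5755531) X)
noncomputable def V_b_n9_11 (X : ℕ) : ℕ := Bool.rec (motive := fun _ => ℕ) V_b_9 V_b_10 (Nat.ble (nat_lit 6139249) X)
noncomputable def V_b_n11_13 (X : ℕ) : ℕ := Bool.rec (motive := fun _ => ℕ) V_b_11 V_b_12 (Nat.ble (nat_lit 6267619) X)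
noncomputable def V_b_n9_13 (X : ℕ) : ℕ := Bool.rec (motive := fun _ => ℕ) (V_b_n9_11 X) (V_b_n11_13 X) (Nat.ble (nat_lit 6203143) X)
noncomputable def V_b_n13_15 (X : ℕ) : ℕ := Bool.rec (motive := fun _ => ℕ) V_b_13 V_b_14 (Nat.ble (nat_lit 6395947) X)
noncomputable def V_b_n16_18 (X : ℕ) : ℕ := Bool.rec (motive := fun _ => ℕ) V_b_16 V_b_17 (Nat.ble (nat_lit 6588443) X)
noncomputable def V_b_n15_18 (X : ℕ) : ℕ := Bool.rec (motive := fun _ => ℕ) V_b_15 (V_b_n16_18 X) (Nat.ble (nat_lit 6524611) X)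
noncomputable def V_b_n13_18 (X : ℕ) : ℕ := Bool.rec (motive := fun _ => ℕ) (V_b_n13_15 X) (V_b_n15_18 X) (Nat.ble (nat_lit 6460379) X)
noncomputable def V_b_n9_18 (X : ℕ) : ℕ := Bool.rec (motive := fun _ => ℕ) (V_b_n9_13 X) (V_b_n13_18 X) (Nat.ble (nat_lit 6330559) X)
noncomputable def V_b_n0_18 (X : ℕ) : ℕ := Bool.rec (motive := fun _ => ℕ) (V_b_n0_9 X) (V_b_n9_18 X) (Nat.ble (nat_lit 6075263) X)
noncomputable def V_b_n18_20 (X : ℕ) : ℕ := Bool.rec (motive := fun _ => ℕ) V_b_18 V_b_19 (Nat.ble (nat_lit 6717307) X)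
noncomputable def V_b_n20_22 (X : ℕ) : ℕ := Bool.rec (motive := fun _ => ℕ) V_b_20 V_b_21 (Nat.ble (nat_lit 6846031) X)
noncomputable def V_b_n18_22 (X : ℕ) : ℕ := Bool.rec (motive := fun _ => ℕ) (V_b_n18_20 X) (V_b_n20_22 X) (Nat.ble (nat_lit 6781547) X)
noncomputable def V_b_n22_24 (X : ℕ) : ℕ := Bool.rec (motive := fun _ => ℕ) V_b_22 V_b_23 (Nat.ble (nat_lit 6974053) X)
noncomputable def V_b_n25_27 (X : ℕ) : ℕ := Bool.rec (motive := fun _ => ℕ) V_b_25 V_b_26 (Nat.ble (nat_lit 7167791) X)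
noncomputable def V_b_n24_27 (X : ℕ) : ℕ := Bool.rec (motive := fun _ => ℕ) V_b_24 (V_b_n25_27 X) (Nat.ble (nat_lit 7102643) X)
noncomputable def V_b_n22_27 (X : ℕ) : ℕ := Bool.rec (motive := fun _ => ℕ) (V_b_n22_24 X) (V_b_n24_27 X) (Nat.ble (nat_lit 7038397) X)
noncomputable def V_b_n18_27 (X : ℕ) : ℕ := Bool.rec (motive := fun _ => ℕ) (V_b_n18_22 X) (V_b_n22_27 X) (Nat.ble (nat_lit 6909907) X)
noncomputable def V_b_n27_29 (X : ℕ) : ℕ := Bool.rec (motive := fun _ => ℕ) V_b_27 V_b_28 (Nat.ble (nat_lit 7296983) X)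
noncomputable def V_b_n30_32 (X : ℕ) : ℕ := Bool.rec (motive := fun _ => ℕ) V_b_30 V_b_31 (Nat.ble (nat_lit 7492031) X)
noncomputable def V_b_n29_32 (X : ℕ) : ℕ := Bool.rec (motive := fun _ => ℕ) V_b_29 (V_b_n30_32 X) (Nat.ble (nat_lit 7427041) X)
noncomputable def V_b_n27_32 (X : ℕ) : ℕ := Bool.rec (motive := fun _ => ℕ) (V_b_n27_29 X) (V_b_n29_32 X) (Nat.ble (nat_lit 7362133) X)
noncomputable def V_b_n32_34 (X : ℕ) : ℕ := Bool.rec (motive := fun _ => ℕ) V_b_32 V_b_33 (Nat.ble (nat_lit 7622317) X)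
noncomputable def V_b_n35_37 (X : ℕ) : ℕ := Bool.rec (motive := fun _ => ℕ) V_b_35 V_b_36 (Nat.ble (nat_lit 7817143) X)
noncomputable def V_b_n34_37 (X : ℕ) : ℕ := Bool.rec (motive := fun _ => ℕ) V_b_34 (V_b_n35_37 X) (Nat.ble (nat_lit 7752179) X)
noncomputable def V_b_n32_37 (X : ℕ) : ℕ := Bool.rec (motive := fun _ => ℕ) (V_b_n32_34 X) (V_b_n34_37 X) (Nat.ble (nat_lit 7686893) X)
noncomputable def V_b_n27_37 (X : ℕ) : ℕ := Bool.rec (motive := fun _ => ℕ) (V_b_n27_32 X) (V_b_n32_37 X) (Nat.ble (nat_lit 7557091) X)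
noncomputable def V_b_n18_37 (X : ℕ) : ℕ := Bool.rec (motive := fun _ => ℕ) (V_b_n18_27 X) (V_b_n27_37 X) (Nat.ble (nat_lit 7232899) X)
noncomputable def V_b_n0_37 (X : ℕ) : ℕ := Bool.rec (motive := fun _ => ℕ) (V_b_n0_18 X) (V_b_n18_37 X) (Nat.ble (nat_lit 6652979) X)
noncomputable def V_b_n37_39 (X : ℕ) : ℕ := Bool.rec (motive := fun _ => ℕ) V_b_37 V_b_38 (Nat.ble (nat_lit 7946711) X)
noncomputable def V_b_n39_41 (X : ℕ) : ℕ := Bool.rec (motive := fun _ => ℕ) V_b_39 V_b_40 (Nat.ble (nat_lit 8077529) X)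
noncomputable def V_b_n37_41 (X : ℕ) : ℕ := Bool.rec (motive := fun _ => ℕ) (V_b_n37_39 X) (V_b_n39_41 X) (Nat.ble (nat_lit 8012209) X)
noncomputable def V_b_n41_43 (X : ℕ) : ℕ := Bool.rec (motive := fun _ => ℕ) V_b_41 V_b_42 (Nat.ble (nat_lit 8208023) X)
noncomputable def V_b_n44_46 (X : ℕ) : ℕ := Bool.rec (motive := fun _ => ℕ) V_b_44 V_b_45 (Nat.ble (nat_lit 8403817) X)
noncomputable def V_b_n43_46 (X : ℕ) : ℕ := Bool.rec (motive := fun _ => ℕ) V_b_43 (V_b_n44_46 X) (Nat.ble (nat_lit 8338643) X)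
noncomputable def V_b_n41_46 (X : ℕ) : ℕ := Bool.rec (motive := fun _ => ℕ) (V_b_n41_43 X) (V_b_n43_46 X) (Nat.ble (nat_lit 8273477) X)
noncomputable def V_b_n37_46 (X : ℕ) : ℕ := Bool.rec (motive := fun _ => ℕ) (V_b_n37_41 X) (V_b_n41_46 X) (Nat.ble (nat_lit 8143277) X)
noncomputable def V_b_n46_48 (X : ℕ) : ℕ := Bool.rec (motive := fun _ => ℕ) V_b_46 V_b_47 (Nat.ble (nat_lit 8534429) X)
noncomputable def V_b_n49_51 (X : ℕ) : ℕ := Bool.rec (motive := fun _ => ℕ) V_b_49 V_b_50 (Nat.ble (nat_lit 8729821) X)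
noncomputable def V_b_n48_51 (X : ℕ) : ℕ := Bool.rec (motive := fun _ => ℕ) V_b_48 (V_b_n49_51 X) (Nat.ble (nat_lit 8664559) X)
noncomputable def V_b_n46_51 (X : ℕ) : ℕ := Bool.rec (motive := fun _ => ℕ) (V_b_n46_48 X) (V_b_n48_51 X) (Nat.ble (nat_lit 8599469) X)
noncomputable def V_b_n51_53 (X : ℕ) : ℕ := Bool.rec (motive := fun _ => ℕ) V_b_51 V_b_52 (Nat.ble (nat_lit 8861159) X)
noncomputable def V_b_n54_56 (X : ℕ) : ℕ := Bool.rec (motive := fun _ => ℕ) V_b_54 V_b_55 (Nat.ble (nat_lit 9058837) X)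
noncomputable def V_b_n53_56 (X : ℕ) : ℕ := Bool.rec (motive := fun _ => ℕ) V_b_53 (V_b_n54_56 X) (Nat.ble (nat_lit 8992199) X)
noncomputable def V_b_n51_56 (X : ℕ) : ℕ := Bool.rec (motive := fun _ => ℕ) (V_b_n51_53 X) (V_b_n53_56 X) (Nat.ble (nat_lit 8926363) X)
noncomputable def V_b_n46_56 (X : ℕ) : ℕ := Bool.rec (motive := fun _ => ℕ) (V_b_n46_51 X) (V_b_n51_56 X) (Nat.ble (nat_lit 8795047) X)
noncomputable def V_b_n37_56 (X : ℕ) : ℕ := Bool.rec (motive := fun _ => ℕ) (V_b_n37_46 X) (V_b_n46_56 X) (Nat.ble (nat_lit 8469977) X)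
noncomputable def V_b_n56_58 (X : ℕ) : ℕ := Bool.rec (motive := fun _ => ℕ) V_b_56 V_b_57 (Nat.ble (nat_lit 9189703) X)
noncomputable def V_b_n58_60 (X : ℕ) : ℕ := Bool.rec (motive := fun _ => ℕ) V_b_58 V_b_59 (Nat.ble (nat_lit 9320833) X)
noncomputable def V_b_n56_60 (X : ℕ) : ℕ := Bool.rec (motive := fun _ => ℕ) (V_b_n56_58 X) (V_b_n58_60 X) (Nat.ble (nat_lit 9255023) X)
noncomputable def V_b_n60_62 (X : ℕ) : ℕ := Bool.rec (motive := fun _ => ℕ) V_b_60 V_b_61 (Nat.ble (nat_lit 9452537) X)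
noncomputable def V_b_n63_65 (X : ℕ) : ℕ := Bool.rec (motive := fun _ => ℕ) V_b_63 V_b_64 (Nat.ble (nat_lit 9649747) X)
noncomputable def V_b_n62_65 (X : ℕ) : ℕ := Bool.rec (motive := fun _ => ℕ) V_b_62 (V_b_n63_65 X) (Nat.ble (nat_lit 9584063) X)
noncomputable def V_b_n60_65 (X : ℕ) : ℕ := Bool.rec (motive := fun _ => ℕ) (V_b_n60_62 X) (V_b_n62_65 X) (Nat.ble (nat_lit 9518723) X)
noncomputable def V_b_n56_65 (X : ℕ) : ℕ := Bool.rec (motive := fun _ => ℕ) (V_b_n56_60 X) (V_b_n60_65 X) (Nat.ble (nat_lit 9386471) X)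
noncomputable def V_b_n65_67 (X : ℕ) : ℕ := Bool.rec (motive := fun _ => ℕ) V_b_65 V_b_66 (Nat.ble (nat_lit 9782029) X)
noncomputable def V_b_n68_70 (X : ℕ) : ℕ := Bool.rec (motive := fun _ => ℕ) V_b_68 V_b_69 (Nat.ble (nat_lit 9980857) X)
noncomputable def V_b_n67_70 (X : ℕ) : ℕ := Bool.rec (motive := fun _ => ℕ) V_b_67 (V_b_n68_70 X) (Nat.ble (nat_lit 9914617) X)
noncomputable def V_b_n65_70 (X : ℕ) : ℕ := Bool.rec (motive := fun _ => ℕ) (V_b_n65_67 X) (V_b_n67_70 X) (Nat.ble (nat_lit 9847967) X)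
noncomputable def V_b_n70_72 (X : ℕ) : ℕ := Bool.rec (motive := fun _ => ℕ) V_b_70 V_b_71 (Nat.ble (nat_lit 10112897) X)
noncomputable def V_b_n73_75 (X : ℕ) : ℕ := Bool.rec (motive := fun _ => ℕ) V_b_73 V_b_74 (Nat.ble (nat_lit 10311997) X)
noncomputable def V_b_n72_75 (X : ℕ) : ℕ := Bool.rec (motive := fun _ => ℕ) V_b_72 (V_b_n73_75 X) (Nat.ble (nat_lit 10245751) X)
noncomputable def V_b_n70_75 (X : ℕ) : ℕ := Bool.rec (motive := fun _ => ℕ) (V_b_n70_72 X) (V_b_n72_75 X) (Nat.ble (nat_lit 10179161) X)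
noncomputable def V_b_n65_75 (X : ℕ) : ℕ := Bool.rec (motive := fun _ => ℕ) (V_b_n65_70 X) (V_b_n70_75 X) (Nat.ble (nat_lit 10046903) X)
noncomputable def V_b_n56_75 (X : ℕ) : ℕ := Bool.rec (motive := fun _ => ℕ) (V_b_n56_65 X) (V_b_n65_75 X) (Nat.ble (nat_lit 9715969) X)
noncomputable def V_b_n37_75 (X : ℕ) : ℕ := Bool.rec (motive := fun _ => ℕ) (V_b_n37_56 X) (V_b_n56_75 X) (Nat.ble (nat_lit 9124417) X)
noncomputable def V_b_sel (X : ℕ) : ℕ := Bool.rec (motive := fun _ => ℕ) (V_b_n0_37 X) (V_b_n37_75 X) (Nat.ble (nat_lit 7881739) X)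
noncomputable def VV_b (q : ℕ) : ℕ := (Nat.mod (V_b_sel q) q)
noncomputable def G_b (t q : ℕ) : ℕ := Bool.rec (motive := fun _ => ℕ) (nat_lit 0) (F_b q) (Nat.ble (Nat.succ (UU_b q)) t)
noncomputable def T_c_n0_2 (X : ℕ) : ℕ := Bool.rec (motive := fun _ => ℕ) T_c_0 T_c_1 (Nat.ble (nat_lit 5564497) X)
noncomputable def T_c_n2_4 (X : ℕ) : ℕ := Bool.rec (motive := fun _ => ℕ) T_c_2 T_c_3 (Nat.ble (nat_lit 5692157) X)
noncomputable def T_c_n0_4 (X : ℕ) : ℕ := Bool.rec (motive := fun _ => ℕ) (T_c_n0_2 X) (T_c_n2_4 X) (Nat.ble (nat_lit 5628131) X)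
noncomputable def T_c_n4_6 (X : ℕ) : ℕ := Bool.rec (motive := fun _ => ℕ) T_c_4 T_c_5 (Nat.ble (nat_lit 5820037) X)
noncomputable def T_c_n7_9 (X : ℕ) : ℕ := Bool.rec (motive := fun _ => ℕ) T_c_7 T_c_8 (Nat.ble (nat_lit 6010867) X)
noncomputable def T_c_n6_9 (X : ℕ) : ℕ := Bool.rec (motive := fun _ => ℕ) T_c_6 (T_c_n7_9 X) (Nat.ble (nat_lit 5946749) X)
noncomputable def T_c_n4_9 (X : ℕ) : ℕ := Bool.rec (motive := fun _ => ℕ) (T_c_n4_6 X) (T_c_n6_9 X) (Nat.ble (nat_lit 5883737) X)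
noncomputable def T_c_n0_9 (X : ℕ) : ℕ := Bool.rec (motive := fun _ => ℕ) (T_c_n0_4 X) (T_c_n4_9 X) (Nat.ble (nat_lit 5755531) X)
noncomputable def T_c_n9_11 (X : ℕ) : ℕ := Bool.rec (motive := fun _ => ℕ) T_c_9 T_c_10 (Nat.ble (nat_lit 6139249) X)
noncomputable def T_c_n11_13 (X : ℕ) : ℕ := Bool.rec (motive := fun _ => ℕ) T_c_11 T_c_12 (Nat.ble (nat_lit 6267619) X)
noncomputable def T_c_n9_13 (X : ℕ) : ℕ := Bool.rec (motive := fun _ => ℕ) (T_c_n9_11 X) (T_c_n11_13 X) (Nat.ble (nat_lit 6203143) X)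
noncomputable def T_c_n13_15 (X : ℕ) : ℕ := Bool.rec (motive := fun _ => ℕ) T_c_13 T_c_14 (Nat.ble (nat_lit 6395947) X)
noncomputable def T_c_n16_18 (X : ℕ) : ℕ := Bool.rec (motive := fun _ => ℕ) T_c_16 T_c_17 (Nat.ble (nat_lit 6588443) X)
noncomputable def T_c_n15_18 (X : ℕ) : ℕ := Bool.rec (motive := fun _ => ℕ) T_c_15 (T_c_n16_18 X) (Nat.ble (nat_lit 6524611) X)
noncomputable def T_c_n13_18 (X : ℕ) : ℕ := Bool.rec (motive := fun _ => ℕ) (T_c_n13_15 X) (T_c_n15_18 X) (Nat.ble (nat_lit 6460379) X)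
noncomputable def T_c_n9_18 (X : ℕ) : ℕ := Bool.rec (motive := fun _ => ℕ) (T_c_n9_13 X) (T_c_n13_18 X) (Nat.ble (nat_lit 6330559) X)
noncomputable def T_c_n0_18 (X : ℕ) : ℕ := Bool.rec (motive := fun _ => ℕ) (T_c_n0_9 X) (T_c_n9_18 X) (Nat.ble (nat_lit 6075263) X)
noncomputable def T_c_n18_20 (X : ℕ) : ℕ := Bool.rec (motive := fun _ => ℕ) T_c_18 T_c_19 (Nat.ble (nat_lit 6717307) X)
noncomputable def T_c_n20_22 (X : ℕ) : ℕ := Bool.rec (motive := fun _ => ℕ) T_c_20 T_c_21 (Nat.ble (nat_lit 6846031) X)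
noncomputable def T_c_n18_22 (X : ℕ) : ℕ := Bool.rec (motive := fun _ => ℕ) (T_c_n18_20 X) (T_c_n20_22 X) (Nat.ble (nat_lit 6781547) X)
noncomputable def T_c_n22_24 (X : ℕ) : ℕ := Bool.rec (motive := fun _ => ℕ) T_c_22 T_c_23 (Nat.ble (nat_lit 6974053) X)
noncomputable def T_c_n25_27 (X : ℕ) : ℕ := Bool.rec (motive := fun _ => ℕ) T_c_25 T_c_26 (Nat.ble (nat_lit 7167791) X)
noncomputable def T_c_n24_27 (X : ℕ) : ℕ := Bool.rec (motive := fun _ => ℕ) T_c_24 (T_c_n25_27 X) (Nat.ble (nat_lit 7102643) X)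
noncomputable def T_c_n22_27 (X : ℕ) : ℕ := Bool.rec (motive := fun _ => ℕ) (T_c_n22_24 X) (T_c_n24_27 X) (Nat.ble (nat_lit 7038397) X)
noncomputable def T_c_n18_27 (X : ℕ) : ℕ := Bool.rec (motive := fun _ => ℕ) (T_c_n18_22 X) (T_c_n22_27 X) (Nat.ble (nat_lit 6909907) X)
noncomputable def T_c_n27_29 (X : ℕ) : ℕ := Bool.rec (motive := fun _ => ℕ) T_c_27 T_c_28 (Nat.ble (nat_lit 7296983) X)
noncomputable def T_c_n30_32 (X : ℕ) : ℕ := Bool.rec (motive := fun _ => ℕ) T_c_30 T_c_31 (Nat.ble (nat_lit 7492031) X)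
noncomputable def T_c_n29_32 (X : ℕ) : ℕ := Bool.rec (motive := fun _ => ℕ) T_c_29 (T_c_n30_32 X) (Nat.ble (nat_lit 7427041) X)
noncomputable def T_c_n27_32 (X : ℕ) : ℕ := Bool.rec (motive := fun _ => ℕ) (T_c_n27_29 X) (T_c_n29_32 X) (Nat.ble (nat_lit 7362133) X)
noncomputable def T_c_n32_34 (X : ℕ) : ℕ := Bool.rec (motive := fun _ => ℕ) T_c_32 T_c_33 (Nat.ble (nat_lit 7622317) X)
noncomputable def T_c_n35_37 (X : ℕ) : ℕ := Bool.rec (motive := fun _ => ℕ) T_c_35 T_c_36 (Nat.ble (nat_lit 7817143) X)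
noncomputable def T_c_n34_37 (X : ℕ) : ℕ := Bool.rec (motive := fun _ => ℕ) T_c_34 (T_c_n35_37 X) (Nat.ble (nat_lit 7752179) X)
noncomputable def T_c_n32_37 (X : ℕ) : ℕ := Bool.rec (motive := fun _ => ℕ) (T_c_n32_34 X) (T_c_n34_37 X) (Nat.ble (nat_lit 7686893) X)
noncomputable def T_c_n27_37 (X : ℕ) : ℕ := Bool.rec (motive := fun _ => ℕ) (T_c_n27_32 X) (T_c_n32_37 X) (Nat.ble (nat_lit 7557091) X)
noncomputable def T_c_n18_37 (X : ℕ) : ℕ := Bool.rec (motive := fun _ => ℕ) (T_c_n18_27 X) (T_c_n27_37 X) (Nat.ble (nat_lit 7232899) X)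
noncomputable def T_c_n0_37 (X : ℕ) : ℕ := Bool.rec (motive := fun _ => ℕ) (T_c_n0_18 X) (T_c_n18_37 X) (Nat.ble (nat_lit 6652979) X)
noncomputable def T_c_n37_39 (X : ℕ) : ℕ := Bool.rec (motive := fun _ => ℕ) T_c_37 T_c_38 (Nat.ble (nat_lit 7946711) X)
noncomputable def T_c_n39_41 (X : ℕ) : ℕ := Bool.rec (motive := fun _ => ℕ) T_c_39 T_c_40 (Nat.ble (nat_lit 8077529) X)
noncomputable def T_c_n37_41 (X : ℕ) : ℕ := Bool.rec (motive := fun _ => ℕ) (T_c_n37_39 X) (T_c_n39_41 X) (Nat.ble (nat_lit 8012209) X)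
noncomputable def T_c_n41_43 (X : ℕ) : ℕ := Bool.rec (motive := fun _ => ℕ) T_c_41 T_c_42 (Nat.ble (nat_lit 8208023) X)
noncomputable def T_c_n44_46 (X : ℕ) : ℕ := Bool.rec (motive := fun _ => ℕ) T_c_44 T_c_45 (Nat.ble (nat_lit 8403817) X)
noncomputable def T_c_n43_46 (X : ℕ) : ℕ := Bool.rec (motive := fun _ => ℕ) T_c_43 (T_c_n44_46 X) (Nat.ble (nat_lit 8338643) X)
noncomputable def T_c_n41_46 (X : ℕ) : ℕ := Bool.rec (motive := fun _ => ℕ) (T_c_n41_43 X) (T_c_n43_46 X) (Nat.ble (nat_lit 8273477) X)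
noncomputable def T_c_n37_46 (X : ℕ) : ℕ := Bool.rec (motive := fun _ => ℕ) (T_c_n37_41 X) (T_c_n41_46 X) (Nat.ble (nat_lit 8143277) X)
noncomputable def T_c_n46_48 (X : ℕ) : ℕ := Bool.rec (motive := fun _ => ℕ) T_c_46 T_c_47 (Nat.ble (nat_lit 8534429) X)
noncomputable def T_c_n49_51 (X : ℕ) : ℕ := Bool.rec (motive := fun _ => ℕ) T_c_49 T_c_50 (Nat.ble (nat_lit 8729821) X)
noncomputable def T_c_n48_51 (X : ℕ) : ℕ := Bool.rec (motive := fun _ => ℕ) T_c_48 (T_c_n49_51 X) (Nat.ble (nat_lit 8664559) X)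
noncomputable def T_c_n46_51 (X : ℕ) : ℕ := Bool.rec (motive := fun _ => ℕ) (T_c_n46_48 X) (T_c_n48_51 X) (Nat.ble (nat_lit 8599469) X)
noncomputable def T_c_n51_53 (X : ℕ) : ℕ := Bool.rec (motive := fun _ => ℕ) T_c_51 T_c_52 (Nat.ble (nat_lit 8861159) X)
noncomputable def T_c_n54_56 (X : ℕ) : ℕ := Bool.rec (motive := fun _ => ℕ) T_c_54 T_c_55 (Nat.ble (nat_lit 9058837) X)
noncomputable def T_c_n53_56 (X : ℕ) : ℕ := Bool.rec (motive := fun _ => ℕ) T_c_53 (T_c_n54_56 X) (Nat.ble (nat_lit 8992199) X)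
noncomputable def T_c_n51_56 (X : ℕ) : ℕ := Bool.rec (motive := fun _ => ℕ) (T_c_n51_53 X) (T_c_n53_56 X) (Nat.ble (nat_lit 8926363) X)
noncomputable def T_c_n46_56 (X : ℕ) : ℕ := Bool.rec (motive := fun _ => ℕ) (T_c_n46_51 X) (T_c_n51_56 X) (Nat.ble (nat_lit 8795047) X)
noncomputable def T_c_n37_56 (X : ℕ) : ℕ := Bool.rec (motive := fun _ => ℕ) (T_c_n37_46 X) (T_c_n46_56 X) (Nat.ble (nat_lit 8469977) X)
noncomputable def T_c_n56_58 (X : ℕ) : ℕ := Bool.rec (motive := fun _ => ℕ) T_c_56 T_c_57 (Nat.ble (nat_lit 9189703) X)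
noncomputable def T_c_n58_60 (X : ℕ) : ℕ := Bool.rec (motive := fun _ => ℕ) T_c_58 T_c_59 (Nat.ble (nat_lit 9320833) X)
noncomputable def T_c_n56_60 (X : ℕ) : ℕ := Bool.rec (motive := fun _ => ℕ) (T_c_n56_58 X) (T_c_n58_60 X) (Nat.ble (nat_lit 9255023) X)
noncomputable def T_c_n60_62 (X : ℕ) : ℕ := Bool.rec (motive := fun _ => ℕ) T_c_60 T_c_61 (Nat.ble (nat_lit 9452537) X)
noncomputable def T_c_n63_65 (X : ℕ) : ℕ := Bool.rec (motive := fun _ => ℕ) T_c_63 T_c_64 (Nat.ble (nat_lit 9649747) X)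
noncomputable def T_c_n62_65 (X : ℕ) : ℕ := Bool.rec (motive := fun _ => ℕ) T_c_62 (T_c_n63_65 X) (Nat.ble (nat_lit 9584063) X)
noncomputable def T_c_n60_65 (X : ℕ) : ℕ := Bool.rec (motive := fun _ => ℕ) (T_c_n60_62 X) (T_c_n62_65 X) (Nat.ble (nat_lit 9518723) X)
noncomputable def T_c_n56_65 (X : ℕ) : ℕ := Bool.rec (motive := fun _ => ℕ) (T_c_n56_60 X) (T_c_n60_65 X) (Nat.ble (nat_lit 9386471) X)
noncomputable def T_c_n65_67 (X : ℕ) : ℕ := Bool.rec (motive := fun _ => ℕ) T_c_65 T_c_66 (Nat.ble (nat_lit 9782029) X)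
noncomputable def T_c_n68_70 (X : ℕ) : ℕ := Bool.rec (motive := fun _ => ℕ) T_c_68 T_c_69 (Nat.ble (nat_lit 9980857) X)
noncomputable def T_c_n67_70 (X : ℕ) : ℕ := Bool.rec (motive := fun _ => ℕ) T_c_67 (T_c_n68_70 X) (Nat.ble (nat_lit 9914617) X)
noncomputable def T_c_n65_70 (X : ℕ) : ℕ := Bool.rec (motive := fun _ => ℕ) (T_c_n65_67 X) (T_c_n67_70 X) (Nat.ble (nat_lit 9847967) X)
noncomputable def T_c_n70_72 (X : ℕ) : ℕ := Bool.rec (motive := fun _ => ℕ) T_c_70 T_c_71 (Nat.ble (nat_lit 10112897) X)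
noncomputable def T_c_n73_75 (X : ℕ) : ℕ := Bool.rec (motive := fun _ => ℕ) T_c_73 T_c_74 (Nat.ble (nat_lit 10311997) X)
noncomputable def T_c_n72_75 (X : ℕ) : ℕ := Bool.rec (motive := fun _ => ℕ) T_c_72 (T_c_n73_75 X) (Nat.ble (nat_lit 10245751) X)
noncomputable def T_c_n70_75 (X : ℕ) : ℕ := Bool.rec (motive := fun _ => ℕ) (T_c_n70_72 X) (T_c_n72_75 X) (Nat.ble (nat_lit 10179161) X)
noncomputable def T_c_n65_75 (X : ℕ) : ℕ := Bool.rec (motive := fun _ => ℕ) (T_c_n65_70 X) (T_c_n70_75 X) (Nat.ble (nat_lit 10046903) X)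
noncomputable def T_c_n56_75 (X : ℕ) : ℕ := Bool.rec (motive := fun _ => ℕ) (T_c_n56_65 X) (T_c_n65_75 X) (Nat.ble (nat_lit 9715969) X)
noncomputable def T_c_n37_75 (X : ℕ) : ℕ := Bool.rec (motive := fun _ => ℕ) (T_c_n37_56 X) (T_c_n56_75 X) (Nat.ble (nat_lit 9124417) X)
noncomputable def T_c_sel (X : ℕ) : ℕ := Bool.rec (motive := fun _ => ℕ) (T_c_n0_37 X) (T_c_n37_75 X) (Nat.ble (nat_lit 7881739) X)
noncomputable def F_c (q : ℕ) : ℕ := Nat.add (nat_lit 5500000) (Nat.mod (T_c_sel q) q)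
noncomputable def U_c_n0_2 (X : ℕ) : ℕ := Bool.rec (motive := fun _ => ℕ) U_c_0 U_c_1 (Nat.ble (nat_lit 5564497) X)
noncomputable def U_c_n2_4 (X : ℕ) : ℕ := Bool.rec (motive := fun _ => ℕ) U_c_2 U_c_3 (Nat.ble (nat_lit 5692157) X)
noncomputable def U_c_n0_4 (X : ℕ) : ℕ := Bool.rec (motive := fun _ => ℕ) (U_c_n0_2 X) (U_c_n2_4 X) (Nat.ble (nat_lit 5628131) X)
noncomputable def U_c_n4_6 (X : ℕ) : ℕ := Bool.rec (motive := fun _ => ℕ) U_c_4 U_c_5 (Nat.ble (nat_lit 5820037) X)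
noncomputable def U_c_n7_9 (X : ℕ) : ℕ := Bool.rec (motive := fun _ => ℕ) U_c_7 U_c_8 (Nat.ble (nat_lit 6010867) X)
noncomputable def U_c_n6_9 (X : ℕ) : ℕ := Bool.rec (motive := fun _ => ℕ) U_c_6 (U_c_n7_9 X) (Nat.ble (nat_lit 5946749) X)
noncomputable def U_c_n4_9 (X : ℕ) : ℕ := Bool.rec (motive := fun _ => ℕ) (U_c_n4_6 X) (U_c_n6_9 X) (Nat.ble (nat_lit 5883737) X)
noncomputable def U_c_n0_9 (X : ℕ) : ℕ := Bool.rec (motive := fun _ => ℕ) (U_c_n0_4 X) (U_c_n4_9 X) (Nat.ble (nat_lit 5755531) X)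
noncomputable def U_c_n9_11 (X : ℕ) : ℕ := Bool.rec (motive := fun _ => ℕ) U_c_9 U_c_10 (Nat.ble (nat_lit 6139249) X)
noncomputable def U_c_n11_13 (X : ℕ) : ℕ := Bool.rec (motive := fun _ => ℕ) U_c_11 U_c_12 (Nat.ble (nat_lit 6267619) X)
noncomputable def U_c_n9_13 (X : ℕ) : ℕ := Bool.rec (motive := fun _ => ℕ) (U_c_n9_11 X) (U_c_n11_13 X) (Nat.ble (nat_lit 6203143) X)
noncomputable def U_c_n13_15 (X : ℕ) : ℕ := Bool.rec (motive := fun _ => ℕ) U_c_13 U_c_14 (Nat.ble (nat_lit 6395947) X)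
noncomputable def U_c_n16_18 (X : ℕ) : ℕ := Bool.rec (motive := fun _ => ℕ) U_c_16 U_c_17 (Nat.ble (nat_lit 6588443) X)
noncomputable def U_c_n15_18 (X : ℕ) : ℕ := Bool.rec (motive := fun _ => ℕ) U_c_15 (U_c_n16_18 X) (Nat.ble (nat_lit 6524611) X)
noncomputable def U_c_n13_18 (X : ℕ) : ℕ := Bool.rec (motive := fun _ => ℕ) (U_c_n13_15 X) (U_c_n15_18 X) (Nat.ble (nat_lit 6460379) X)
noncomputable def U_c_n9_18 (X : ℕ) : ℕ := Bool.rec (motive := fun _ => ℕ) (U_c_n9_13 X) (U_c_n13_18 X) (Nat.ble (nat_lit 6330559) X)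
noncomputable def U_c_n0_18 (X : ℕ) : ℕ := Bool.rec (motive := fun _ => ℕ) (U_c_n0_9 X) (U_c_n9_18 X) (Nat.ble (nat_lit 6075263) X)
noncomputable def U_c_n18_20 (X : ℕ) : ℕ := Bool.rec (motive := fun _ => ℕ) U_c_18 U_c_19 (Nat.ble (nat_lit 6717307) X)
noncomputable def U_c_n20_22 (X : ℕ) : ℕ := Bool.rec (motive := fun _ => ℕ) U_c_20 U_c_21 (Nat.ble (nat_lit 6846031) X)
noncomputable def U_c_n18_22 (X : ℕ) : ℕ := Bool.rec (motive := fun _ => ℕ) (U_c_n18_20 X) (U_c_n20_22 X) (Nat.ble (nat_lit 6781547) X)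
noncomputable def U_c_n22_24 (X : ℕ) : ℕ := Bool.rec (motive := fun _ => ℕ) U_c_22 U_c_23 (Nat.ble (nat_lit 6974053) X)
noncomputable def U_c_n25_27 (X : ℕ) : ℕ := Bool.rec (motive := fun _ => ℕ) U_c_25 U_c_26 (Nat.ble (nat_lit 7167791) X)
noncomputable def U_c_n24_27 (X : ℕ) : ℕ := Bool.rec (motive := fun _ => ℕ) U_c_24 (U_c_n25_27 X) (Nat.ble (nat_lit 7102643) X)
noncomputable def U_c_n22_27 (X : ℕ) : ℕ := Bool.rec (motive := fun _ => ℕ) (U_c_n22_24 X) (U_c_n24_27 X) (Nat.ble (nat_lit 7038397) X)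
noncomputable def U_c_n18_27 (X : ℕ) : ℕ := Bool.rec (motive := fun _ => ℕ) (U_c_n18_22 X) (U_c_n22_27 X) (Nat.ble (nat_lit 6909907) X)
noncomputable def U_c_n27_29 (X : ℕ) : ℕ := Bool.rec (motive := fun _ => ℕ) U_c_27 U_c_28 (Nat.ble (nat_lit 7296983) X)
noncomputable def U_c_n30_32 (X : ℕ) : ℕ := Bool.rec (motive := fun _ => ℕ) U_c_30 U_c_31 (Nat.ble (nat_lit 7492031) X)
noncomputable def U_c_n29_32 (X : ℕ) : ℕ := Bool.rec (motive := fun _ => ℕ) U_c_29 (U_c_n30_32 X) (Nat.ble (nat_lit 7427041) X)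
noncomputable def U_c_n27_32 (X : ℕ) : ℕ := Bool.rec (motive := fun _ => ℕ) (U_c_n27_29 X) (U_c_n29_32 X) (Nat.ble (nat_lit 7362133) X)
noncomputable def U_c_n32_34 (X : ℕ) : ℕ := Bool.rec (motive := fun _ => ℕ) U_c_32 U_c_33 (Nat.ble (nat_lit 7622317) X)
noncomputable def U_c_n35_37 (X : ℕ) : ℕ := Bool.rec (motive := fun _ => ℕ) U_c_35 U_c_36 (Nat.ble (nat_lit 7817143) X)
noncomputable def U_c_n34_37 (X : ℕ) : ℕ := Bool.rec (motive := fun _ => ℕ) U_c_34 (U_c_n35_37 X) (Nat.ble (nat_lit 7752179) X)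
noncomputable def U_c_n32_37 (X : ℕ) : ℕ := Bool.rec (motive := fun _ => ℕ) (U_c_n32_34 X) (U_c_n34_37 X) (Nat.ble (nat_lit 7686893) X)
noncomputable def U_c_n27_37 (X : ℕ) : ℕ := Bool.rec (motive := fun _ => ℕ) (U_c_n27_32 X) (U_c_n32_37 X) (Nat.ble (nat_lit 7557091) X)
noncomputable def U_c_n18_37 (X : ℕ) : ℕ := Bool.rec (motive := fun _ => ℕ) (U_c_n18_27 X) (U_c_n27_37 X) (Nat.ble (nat_lit 7232899) X)
noncomputable def U_c_n0_37 (X : ℕ) : ℕ := Bool.rec (motive := fun _ => ℕ) (U_c_n0_18 X) (U_c_n18_37 X) (Nat.ble (nat_lit 6652979) X)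
noncomputable def U_c_n37_39 (X : ℕ) : ℕ := Bool.rec (motive := fun _ => ℕ) U_c_37 U_c_38 (Nat.ble (nat_lit 7946711) X)
noncomputable def U_c_n39_41 (X : ℕ) : ℕ := Bool.rec (motive := fun _ => ℕ) U_c_39 U_c_40 (Nat.ble (nat_lit 8077529) X)
noncomputable def U_c_n37_41 (X : ℕ) : ℕ := Bool.rec (motive := fun _ => ℕ) (U_c_n37_39 X) (U_c_n39_41 X) (Nat.ble (nat_lit 8012209) X)
noncomputable def U_c_n41_43 (X : ℕ) : ℕ := Bool.rec (motive := fun _ => ℕ) U_c_41 U_c_42 (Nat.ble (nat_lit 8208023) X)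
noncomputable def U_c_n44_46 (X : ℕ) : ℕ := Bool.rec (motive := fun _ => ℕ) U_c_44 U_c_45 (Nat.ble (nat_lit 8403817) X)
noncomputable def U_c_n43_46 (X : ℕ) : ℕ := Bool.rec (motive := fun _ => ℕ) U_c_43 (U_c_n44_46 X) (Nat.ble (nat_lit 8338643) X)
noncomputable def U_c_n41_46 (X : ℕ) : ℕ := Bool.rec (motive := fun _ => ℕ) (U_c_n41_43 X) (U_c_n43_46 X) (Nat.ble (nat_lit 8273477) X)
noncomputable def U_c_n37_46 (X : ℕ) : ℕ := Bool.rec (motive := fun _ => ℕ) (U_c_n37_41 X) (U_c_n41_46 X) (Nat.ble (nat_lit 8143277) X)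
noncomputable def U_c_n46_48 (X : ℕ) : ℕ := Bool.rec (motive := fun _ => ℕ) U_c_46 U_c_47 (Nat.ble (nat_lit 8534429) X)
noncomputable def U_c_n49_51 (X : ℕ) : ℕ := Bool.rec (motive := fun _ => ℕ) U_c_49 U_c_50 (Nat.ble (nat_lit 8729821) X)
noncomputable def U_c_n48_51 (X : ℕ) : ℕ := Bool.rec (motive := fun _ => ℕ) U_c_48 (U_c_n49_51 X) (Nat.ble (nat_lit 8664559) X)
noncomputable def U_c_n46_51 (X : ℕ) : ℕ := Bool.rec (motive := fun _ => ℕ) (U_c_n46_48 X) (U_c_n48_51 X) (Nat.ble (nat_lit 8599469) X)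
noncomputable def U_c_n51_53 (X : ℕ) : ℕ := Bool.rec (motive := fun _ => ℕ) U_c_51 U_c_52 (Nat.ble (nat_lit 8861159) X)
noncomputable def U_c_n54_56 (X : ℕ) : ℕ := Bool.rec (motive := fun _ => ℕ) U_c_54 U_c_55 (Nat.ble (nat_lit 9058837) X)
noncomputable def U_c_n53_56 (X : ℕ) : ℕ := Bool.rec (motive := fun _ => ℕ) U_c_53 (U_c_n54_56 X) (Nat.ble (nat_lit 8992199) X)
noncomputable def U_c_n51_56 (X : ℕ) : ℕ := Bool.rec (motive := fun _ => ℕ) (U_c_n51_53 X) (U_c_n53_56 X) (Nat.ble (nat_lit 8926363) X)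
noncomputable def U_c_n46_56 (X : ℕ) : ℕ := Bool.rec (motive := fun _ => ℕ) (U_c_n46_51 X) (U_c_n51_56 X) (Nat.ble (nat_lit 8795047) X)
noncomputable def U_c_n37_56 (X : ℕ) : ℕ := Bool.rec (motive := fun _ => ℕ) (U_c_n37_46 X) (U_c_n46_56 X) (Nat.ble (nat_lit 8469977) X)
noncomputable def U_c_n56_58 (X : ℕ) : ℕ := Bool.rec (motive := fun _ => ℕ) U_c_56 U_c_57 (Nat.ble (nat_lit 9189703) X)
noncomputable def U_c_n58_60 (X : ℕ) : ℕ := Bool.rec (motive := fun _ => ℕ) U_c_58 U_c_59 (Nat.ble (nat_lit 9320833) X)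
noncomputable def U_c_n56_60 (X : ℕ) : ℕ := Bool.rec (motive := fun _ => ℕ) (U_c_n56_58 X) (U_c_n58_60 X) (Nat.ble (nat_lit 9255023) X)
noncomputable def U_c_n60_62 (X : ℕ) : ℕ := Bool.rec (motive := fun _ => ℕ) U_c_60 U_c_61 (Nat.ble (nat_lit 9452537) X)
noncomputable def U_c_n63_65 (X : ℕ) : ℕ := Bool.rec (motive := fun _ => ℕ) U_c_63 U_c_64 (Nat.ble (nat_lit 9649747) X)
noncomputable def U_c_n62_65 (X : ℕ) : ℕ := Bool.rec (motive := fun _ => ℕ) U_c_62 (U_c_n63_65 X) (Nat.ble (nat_lit 9584063) X)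
noncomputable def U_c_n60_65 (X : ℕ) : ℕ := Bool.rec (motive := fun _ => ℕ) (U_c_n60_62 X) (U_c_n62_65 X) (Nat.ble (nat_lit 9518723) X)
noncomputable def U_c_n56_65 (X : ℕ) : ℕ := Bool.rec (motive := fun _ => ℕ) (U_c_n56_60 X) (U_c_n60_65 X) (Nat.ble (nat_lit 9386471) X)
noncomputable def U_c_n65_67 (X : ℕ) : ℕ := Bool.rec (motive := fun _ => ℕ) U_c_65 U_c_66 (Nat.ble (nat_lit 9782029) X)
noncomputable def U_c_n68_70 (X : ℕ) : ℕ := Bool.rec (motive := fun _ => ℕ) U_c_68 U_c_69 (Nat.ble (nat_lit 9980857) X)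
noncomputable def U_c_n67_70 (X : ℕ) : ℕ := Bool.rec (motive := fun _ => ℕ) U_c_67 (U_c_n68_70 X) (Nat.ble (nat_lit 9914617) X)
noncomputable def U_c_n65_70 (X : ℕ) : ℕ := Bool.rec (motive := fun _ => ℕ) (U_c_n65_67 X) (U_c_n67_70 X) (Nat.ble (nat_lit 9847967) X)
noncomputable def U_c_n70_72 (X : ℕ) : ℕ := Bool.rec (motive := fun _ => ℕ) U_c_70 U_c_71 (Nat.ble (nat_lit 10112897) X)
noncomputable def U_c_n73_75 (X : ℕ) : ℕ := Bool.rec (motive := fun _ => ℕ) U_c_73 U_c_74 (Nat.ble (nat_lit 10311997) X)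
noncomputable def U_c_n72_75 (X : ℕ) : ℕ := Bool.rec (motive := fun _ => ℕ) U_c_72 (U_c_n73_75 X) (Nat.ble (nat_lit 10245751) X)
noncomputable def U_c_n70_75 (X : ℕ) : ℕ := Bool.rec (motive := fun _ => ℕ) (U_c_n70_72 X) (U_c_n72_75 X) (Nat.ble (nat_lit 10179161) X)
noncomputable def U_c_n65_75 (X : ℕ) : ℕ := Bool.rec (motive := fun _ => ℕ) (U_c_n65_70 X) (U_c_n70_75 X) (Nat.ble (nat_lit 10046903) X)
noncomputable def U_c_n56_75 (X : ℕ) : ℕ := Bool.rec (motive := fun _ => ℕ) (U_c_n56_65 X) (U_c_n65_75 X) (Nat.ble (nat_lit 9715969) X)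
noncomputable def U_c_n37_75 (X : ℕ) : ℕ := Bool.rec (motive := fun _ => ℕ) (U_c_n37_56 X) (U_c_n56_75 X) (Nat.ble (nat_lit 9124417) X)
noncomputable def U_c_sel (X : ℕ) : ℕ := Bool.rec (motive := fun _ => ℕ) (U_c_n0_37 X) (U_c_n37_75 X) (Nat.ble (nat_lit 7881739) X)
noncomputable def UU_c (q : ℕ) : ℕ := (Nat.mod (U_c_sel q) q)
noncomputable def V_c_n0_2 (X : ℕ) : ℕ := Bool.rec (motive := fun _ => ℕ) V_c_0 V_c_1 (Nat.ble (nat_lit 5564497) X)
noncomputable def V_c_n2_4 (X : ℕ) : ℕ := Bool.rec (motive := fun _ => ℕ) V_c_2 V_c_3 (Nat.ble (nat_lit 5692157) X)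
noncomputable def V_c_n0_4 (X : ℕ) : ℕ := Bool.rec (motive := fun _ => ℕ) (V_c_n0_2 X) (V_c_n2_4 X) (Nat.ble (nat_lit 5628131) X)
noncomputable def V_c_n4_6 (X : ℕ) : ℕ := Bool.rec (motive := fun _ => ℕ) V_c_4 V_c_5 (Nat.ble (nat_lit 5820037) X)
noncomputable def V_c_n7_9 (X : ℕ) : ℕ := Bool.rec (motive := fun _ => ℕ) V_c_7 V_c_8 (Nat.ble (nat_lit 6010867) X)
noncomputable def V_c_n6_9 (X : ℕ) : ℕ := Bool.rec (motive := fun _ => ℕ) V_c_6 (V_c_n7_9 X) (Nat.ble (nat_lit 5946749) X)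
noncomputable def V_c_n4_9 (X : ℕ) : ℕ := Bool.rec (motive := fun _ => ℕ) (V_c_n4_6 X) (V_c_n6_9 X) (Nat.ble (nat_lit 5883737) X)
noncomputable def V_c_n0_9 (X : ℕ) : ℕ := Bool.rec (motive := fun _ => ℕ) (V_c_n0_4 X) (V_c_n4_9 X) (Nat.ble (nat_lit 5755531) X)
noncomputable def V_c_n9_11 (X : ℕ) : ℕ := Bool.rec (motive := fun _ => ℕ) V_c_9 V_c_10 (Nat.ble (nat_lit 6139249) X)
noncomputable def V_c_n11_13 (X : ℕ) : ℕ := Bool.rec (motive := fun _ => ℕ) V_c_11 V_c_12 (Nat.ble (nat_lit 6267619) X)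
noncomputable def V_c_n9_13 (X : ℕ) : ℕ := Bool.rec (motive := fun _ => ℕ) (V_c_n9_11 X) (V_c_n11_13 X) (Nat.ble (nat_lit 6203143) X)
noncomputable def V_c_n13_15 (X : ℕ) : ℕ := Bool.rec (motive := fun _ => ℕ) V_c_13 V_c_14 (Nat.ble (nat_lit 6395947) X)
noncomputable def V_c_n16_18 (X : ℕ) : ℕ := Bool.rec (motive := fun _ => ℕ) V_c_16 V_c_17 (Nat.ble (nat_lit 6588443) X)
noncomputable def V_c_n15_18 (X : ℕ) : ℕ := Bool.rec (motive := fun _ => ℕ) V_c_15 (V_c_n16_18 X) (Nat.ble (nat_lit 6524611) X)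
noncomputable def V_c_n13_18 (X : ℕ) : ℕ := Bool.rec (motive := fun _ => ℕ) (V_c_n13_15 X) (V_c_n15_18 X) (Nat.ble (nat_lit 6460379) X)
noncomputable def V_c_n9_18 (X : ℕ) : ℕ := Bool.rec (motive := fun _ => ℕ) (V_c_n9_13 X) (V_c_n13_18 X) (Nat.ble (nat_lit 6330559) X)
noncomputable def V_c_n0_18 (X : ℕ) : ℕ := Bool.rec (motive := fun _ => ℕ) (V_c_n0_9 X) (V_c_n9_18 X) (Nat.ble (nat_lit 6075263) X)
noncomputable def V_c_n18_20 (X : ℕ) : ℕ := Bool.rec (motive := fun _ => ℕ) V_c_18 V_c_19 (Nat.ble (nat_lit 6717307) X)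
noncomputable def V_c_n20_22 (X : ℕ) : ℕ := Bool.rec (motive := fun _ => ℕ) V_c_20 V_c_21 (Nat.ble (nat_lit 6846031) X)
noncomputable def V_c_n18_22 (X : ℕ) : ℕ := Bool.rec (motive := fun _ => ℕ) (V_c_n18_20 X) (V_c_n20_22 X) (Nat.ble (nat_lit 6781547) X)
noncomputable def V_c_n22_24 (X : ℕ) : ℕ := Bool.rec (motive := fun _ => ℕ) V_c_22 V_c_23 (Nat.ble (nat_lit 6974053) X)
noncomputable def V_c_n25_27 (X : ℕ) : ℕ := Bool.rec (motive := fun _ => ℕ) V_c_25 V_c_26 (Nat.ble (nat_lit 7167791) X)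
noncomputable def V_c_n24_27 (X : ℕ) : ℕ := Bool.rec (motive := fun _ => ℕ) V_c_24 (V_c_n25_27 X) (Nat.ble (nat_lit 7102643) X)
noncomputable def V_c_n22_27 (X : ℕ) : ℕ := Bool.rec (motive := fun _ => ℕ) (V_c_n22_24 X) (V_c_n24_27 X) (Nat.ble (nat_lit 7038397) X)
noncomputable def V_c_n18_27 (X : ℕ) : ℕ := Bool.rec (motive := fun _ => ℕ) (V_c_n18_22 X) (V_c_n22_27 X) (Nat.ble (nat_lit 6909907) X)
noncomputable def V_c_n27_29 (X : ℕ) : ℕ := Bool.rec (motive := fun _ => ℕ) V_c_27 V_c_28 (Nat.ble (nat_lit 7296983) X)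
noncomputable def V_c_n30_32 (X : ℕ) : ℕ := Bool.rec (motive := fun _ => ℕ) V_c_30 V_c_31 (Nat.ble (nat_lit 7492031) X)
noncomputable def V_c_n29_32 (X : ℕ) : ℕ := Bool.rec (motive := fun _ => ℕ) V_c_29 (V_c_n30_32 X) (Nat.ble (nat_lit 7427041) X)
noncomputable def V_c_n27_32 (X : ℕ) : ℕ := Bool.rec (motive := fun _ => ℕ) (V_c_n27_29 X) (V_c_n29_32 X) (Nat.ble (nat_lit 7362133) X)
noncomputable def V_c_n32_34 (X : ℕ) : ℕ := Bool.rec (motive := fun _ => ℕ) V_c_32 V_c_33 (Nat.ble (nat_lit 7622317) X)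
noncomputable def V_c_n35_37 (X : ℕ) : ℕ := Bool.rec (motive := fun _ => ℕ) V_c_35 V_c_36 (Nat.ble (nat_lit 7817143) X)
noncomputable def V_c_n34_37 (X : ℕ) : ℕ := Bool.rec (motive := fun _ => ℕ) V_c_34 (V_c_n35_37 X) (Nat.ble (nat_lit 7752179) X)
noncomputable def V_c_n32_37 (X : ℕ) : ℕ := Bool.rec (motive := fun _ => ℕ) (V_c_n32_34 X) (V_c_n34_37 X) (Nat.ble (nat_lit 7686893) X)
noncomputable def V_c_n27_37 (X : ℕ) : ℕ := Bool.rec (motive := fun _ => ℕ) (V_c_n27_32 X) (V_c_n32_37 X) (Nat.ble (nat_lit 7557091) X)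
noncomputable def V_c_n18_37 (X : ℕ) : ℕ := Bool.rec (motive := fun _ => ℕ) (V_c_n18_27 X) (V_c_n27_37 X) (Nat.ble (nat_lit 7232899) X)
noncomputable def V_c_n0_37 (X : ℕ) : ℕ := Bool.rec (motive := fun _ => ℕ) (V_c_n0_18 X) (V_c_n18_37 X) (Nat.ble (nat_lit 6652979) X)
noncomputable def V_c_n37_39 (X : ℕ) : ℕ := Bool.rec (motive := fun _ => ℕ) V_c_37 V_c_38 (Nat.ble (nat_lit 7946711) X)
noncomputable def V_c_n39_41 (X : ℕ) : ℕ := Bool.rec (motive := fun _ => ℕ) V_c_39 V_c_40 (Nat.ble (nat_lit 8077529) X)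
noncomputable def V_c_n37_41 (X : ℕ) : ℕ := Bool.rec (motive := fun _ => ℕ) (V_c_n37_39 X) (V_c_n39_41 X) (Nat.ble (nat_lit 8012209) X)
noncomputable def V_c_n41_43 (X : ℕ) : ℕ := Bool.rec (motive := fun _ => ℕ) V_c_41 V_c_42 (Nat.ble (nat_lit 8208023) X)
noncomputable def V_c_n44_46 (X : ℕ) : ℕ := Bool.rec (motive := fun _ => ℕ) V_c_44 V_c_45 (Nat.ble (nat_lit 8403817) X)
noncomputable def V_c_n43_46 (X : ℕ) : ℕ := Bool.rec (motive := fun _ => ℕ) V_c_43 (V_c_n44_46 X) (Nat.ble (nat_lit 8338643) X)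
noncomputable def V_c_n41_46 (X : ℕ) : ℕ := Bool.rec (motive := fun _ => ℕ) (V_c_n41_43 X) (V_c_n43_46 X) (Nat.ble (nat_lit 8273477) X)
noncomputable def V_c_n37_46 (X : ℕ) : ℕ := Bool.rec (motive := fun _ => ℕ) (V_c_n37_41 X) (V_c_n41_46 X) (Nat.ble (nat_lit 8143277) X)
noncomputable def V_c_n46_48 (X : ℕ) : ℕ := Bool.rec (motive := fun _ => ℕ) V_c_46 V_c_47 (Nat.ble (nat_lit 8534429) X)
noncomputable def V_c_n49_51 (X : ℕ) : ℕ := Bool.rec (motive := fun _ => ℕ) V_c_49 V_c_50 (Nat.ble (nat_lit 8729821) X)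
noncomputable def V_c_n48_51 (X : ℕ) : ℕ := Bool.rec (motive := fun _ => ℕ) V_c_48 (V_c_n49_51 X) (Nat.ble (nat_lit 8664559) X)
noncomputable def V_c_n46_51 (X : ℕ) : ℕ := Bool.rec (motive := fun _ => ℕ) (V_c_n46_48 X) (V_c_n48_51 X) (Nat.ble (nat_lit 8599469) X)
noncomputable def V_c_n51_53 (X : ℕ) : ℕ := Bool.rec (motive := fun _ => ℕ) V_c_51 V_c_52 (Nat.ble (nat_lit 8861159) X)
noncomputable def V_c_n54_56 (X : ℕ) : ℕ := Bool.rec (motive := fun _ => ℕ) V_c_54 V_c_55 (Nat.ble (nat_lit 9058837) X)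
noncomputable def V_c_n53_56 (X : ℕ) : ℕ := Bool.rec (motive := fun _ => ℕ) V_c_53 (V_c_n54_56 X) (Nat.ble (nat_lit 8992199) X)
noncomputable def V_c_n51_56 (X : ℕ) : ℕ := Bool.rec (motive := fun _ => ℕ) (V_c_n51_53 X) (V_c_n53_56 X) (Nat.ble (nat_lit 8926363) X)
noncomputable def V_c_n46_56 (X : ℕ) : ℕ := Bool.rec (motive := fun _ => ℕ) (V_c_n46_51 X) (V_c_n51_56 X) (Nat.ble (nat_lit 8795047) X)
noncomputable def V_c_n37_56 (X : ℕ) : ℕ := Bool.rec (motive := fun _ => ℕ) (V_c_n37_46 X) (V_c_n46_56 X) (Nat.ble (nat_lit 8469977) X)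
noncomputable def V_c_n56_58 (X : ℕ) : ℕ := Bool.rec (motive := fun _ => ℕ) V_c_56 V_c_57 (Nat.ble (nat_lit 9189703) X)
noncomputable def V_c_n58_60 (X : ℕ) : ℕ := Bool.rec (motive := fun _ => ℕ) V_c_58 V_c_59 (Nat.ble (nat_lit 9320833) X)
noncomputable def V_c_n56_60 (X : ℕ) : ℕ := Bool.rec (motive := fun _ => ℕ) (V_c_n56_58 X) (V_c_n58_60 X) (Nat.ble (nat_lit 9255023) X)
noncomputable def V_c_n60_62 (X : ℕ) : ℕ := Bool.rec (motive := fun _ => ℕ) V_c_60 V_c_61 (Nat.ble (nat_lit 9452537) X)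
noncomputable def V_c_n63_65 (X : ℕ) : ℕ := Bool.rec (motive := fun _ => ℕ) V_c_63 V_c_64 (Nat.ble (nat_lit 9649747) X)
noncomputable def V_c_n62_65 (X : ℕ) : ℕ := Bool.rec (motive := fun _ => ℕ) V_c_62 (V_c_n63_65 X) (Nat.ble (nat_lit 9584063) X)
noncomputable def V_c_n60_65 (X : ℕ) : ℕ := Bool.rec (motive := fun _ => ℕ) (V_c_n60_62 X) (V_c_n62_65 X) (Nat.ble (nat_lit 9518723) X)
noncomputable def V_c_n56_65 (X : ℕ) : ℕ := Bool.rec (motive := fun _ => ℕ) (V_c_n56_60 X) (V_c_n60_65 X) (Nat.ble (nat_lit 9386471) X)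
noncomputable def V_c_n65_67 (X : ℕ) : ℕ := Bool.rec (motive := fun _ => ℕ) V_c_65 V_c_66 (Nat.ble (nat_lit 9782029) X)
noncomputable def V_c_n68_70 (X : ℕ) : ℕ := Bool.rec (motive := fun _ => ℕ) V_c_68 V_c_69 (Nat.ble (nat_lit 9980857) X)
noncomputable def V_c_n67_70 (X : ℕ) : ℕ := Bool.rec (motive := fun _ => ℕ) V_c_67 (V_c_n68_70 X) (Nat.ble (nat_lit 9914617) X)
noncomputable def V_c_n65_70 (X : ℕ) : ℕ := Bool.rec (motive := fun _ => ℕ) (V_c_n65_67 X) (V_c_n67_70 X) (Nat.ble (nat_lit 9847967) X)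
noncomputable def V_c_n70_72 (X : ℕ) : ℕ := Bool.rec (motive := fun _ => ℕ) V_c_70 V_c_71 (Nat.ble (nat_lit 10112897) X)
noncomputable def V_c_n73_75 (X : ℕ) : ℕ := Bool.rec (motive := fun _ => ℕ) V_c_73 V_c_74 (Nat.ble (nat_lit 10311997) X)
noncomputable def V_c_n72_75 (X : ℕ) : ℕ := Bool.rec (motive := fun _ => ℕ) V_c_72 (V_c_n73_75 X) (Nat.ble (nat_lit 10245751) X)
noncomputable def V_c_n70_75 (X : ℕ) : ℕ := Bool.rec (motive := fun _ => ℕ) (V_c_n70_72 X) (V_c_n72_75 X) (Nat.ble (nat_lit 10179161) X)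
noncomputable def V_c_n65_75 (X : ℕ) : ℕ := Bool.rec (motive := fun _ => ℕ) (V_c_n65_70 X) (V_c_n70_75 X) (Nat.ble (nat_lit 10046903) X)
noncomputable def V_c_n56_75 (X : ℕ) : ℕ := Bool.rec (motive := fun _ => ℕ) (V_c_n56_65 X) (V_c_n65_75 X) (Nat.ble (nat_lit 9715969) X)
noncomputable def V_c_n37_75 (X : ℕ) : ℕ := Bool.rec (motive := fun _ => ℕ) (V_c_n37_56 X) (V_c_n56_75 X) (Nat.ble (nat_lit 9124417) X)
noncomputable def V_c_sel (X : ℕ) : ℕ := Bool.rec (motive := fun _ => ℕ) (V_c_n0_37 X) (V_c_n37_75 X) (Nat.ble (nat_lit 7881739) X)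
noncomputable def VV_c (q : ℕ) : ℕ := (Nat.mod (V_c_sel q) q)
noncomputable def G_c (t q : ℕ) : ℕ := Bool.rec (motive := fun _ => ℕ) (nat_lit 0) (F_c q) (Nat.ble (Nat.succ (UU_c q)) t)
noncomputable def T_d_n0_2 (X : ℕ) : ℕ := Bool.rec (motive := fun _ => ℕ) T_d_0 T_d_1 (Nat.ble (nat_lit 5564497) X)
noncomputable def T_d_n2_4 (X : ℕ) : ℕ := Bool.rec (motive := fun _ => ℕ) T_d_2 T_d_3 (Nat.ble (nat_lit 5692157) X)
noncomputable def T_d_n0_4 (X : ℕ) : ℕ := Bool.rec (motive := fun _ => ℕ) (T_d_n0_2 X) (T_d_n2_4 X) (Nat.ble (nat_lit 5628131) X)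
noncomputable def T_d_n4_6 (X : ℕ) : ℕ := Bool.rec (motive := fun _ => ℕ) T_d_4 T_d_5 (Nat.ble (nat_lit 5820037) X)
noncomputable def T_d_n7_9 (X : ℕ) : ℕ := Bool.rec (motive := fun _ => ℕ) T_d_7 T_d_8 (Nat.ble (nat_lit 6010867) X)
noncomputable def T_d_n6_9 (X : ℕ) : ℕ := Bool.rec (motive := fun _ => ℕ) T_d_6 (T_d_n7_9 X) (Nat.ble (nat_lit 5946749) X)
noncomputable def T_d_n4_9 (X : ℕ) : ℕ := Bool.rec (motive := fun _ => ℕ) (T_d_n4_6 X) (T_d_n6_9 X) (Nat.ble (nat_lit 5883737) X)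
noncomputable def T_d_n0_9 (X : ℕ) : ℕ := Bool.rec (motive := fun _ => ℕ) (T_d_n0_4 X) (T_d_n4_9 X) (Nat.ble (nat_lit 5755531) X)
noncomputable def T_d_n9_11 (X : ℕ) : ℕ := Bool.rec (motive := fun _ => ℕ) T_d_9 T_d_10 (Nat.ble (nat_lit 6139249) X)
noncomputable def T_d_n11_13 (X : ℕ) : ℕ := Bool.rec (motive := fun _ => ℕ) T_d_11 T_d_12 (Nat.ble (nat_lit 6267619) X)
noncomputable def T_d_n9_13 (X : ℕ) : ℕ := Bool.rec (motive := fun _ => ℕ) (T_d_n9_11 X) (T_d_n11_13 X) (Nat.ble (nat_lit 6203143) X)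
noncomputable def T_d_n13_15 (X : ℕ) : ℕ := Bool.rec (motive := fun _ => ℕ) T_d_13 T_d_14 (Nat.ble (nat_lit 6395947) X)
noncomputable def T_d_n16_18 (X : ℕ) : ℕ := Bool.rec (motive := fun _ => ℕ) T_d_16 T_d_17 (Nat.ble (nat_lit 6588443) X)
noncomputable def T_d_n15_18 (X : ℕ) : ℕ := Bool.rec (motive := fun _ => ℕ) T_d_15 (T_d_n16_18 X) (Nat.ble (nat_lit 6524611) X)
noncomputable def T_d_n13_18 (X : ℕ) : ℕ := Bool.rec (motive := fun _ => ℕ) (T_d_n13_15 X) (T_d_n15_18 X) (Nat.ble (nat_lit 6460379) X)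
noncomputable def T_d_n9_18 (X : ℕ) : ℕ := Bool.rec (motive := fun _ => ℕ) (T_d_n9_13 X) (T_d_n13_18 X) (Nat.ble (nat_lit 6330559) X)
noncomputable def T_d_n0_18 (X : ℕ) : ℕ := Bool.rec (motive := fun _ => ℕ) (T_d_n0_9 X) (T_d_n9_18 X) (Nat.ble (nat_lit 6075263) X)
noncomputable def T_d_n18_20 (X : ℕ) : ℕ := Bool.rec (motive := fun _ => ℕ) T_d_18 T_d_19 (Nat.ble (nat_lit 6717307) X)
noncomputable def T_d_n20_22 (X : ℕ) : ℕ := Bool.rec (motive := fun _ => ℕ) T_d_20 T_d_21 (Nat.ble (nat_lit 6846031) X)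
noncomputable def T_d_n18_22 (X : ℕ) : ℕ := Bool.rec (motive := fun _ => ℕ) (T_d_n18_20 X) (T_d_n20_22 X) (Nat.ble (nat_lit 6781547) X)
noncomputable def T_d_n22_24 (X : ℕ) : ℕ := Bool.rec (motive := fun _ => ℕ) T_d_22 T_d_23 (Nat.ble (nat_lit 6974053) X)
noncomputable def T_d_n25_27 (X : ℕ) : ℕ := Bool.rec (motive := fun _ => ℕ) T_d_25 T_d_26 (Nat.ble (nat_lit 7167791) X)
noncomputable def T_d_n24_27 (X : ℕ) : ℕ := Bool.rec (motive := fun _ => ℕ) T_d_24 (T_d_n25_27 X) (Nat.ble (nat_lit 7102643) X)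
noncomputable def T_d_n22_27 (X : ℕ) : ℕ := Bool.rec (motive := fun _ => ℕ) (T_d_n22_24 X) (T_d_n24_27 X) (Nat.ble (nat_lit 7038397) X)
noncomputable def T_d_n18_27 (X : ℕ) : ℕ := Bool.rec (motive := fun _ => ℕ) (T_d_n18_22 X) (T_d_n22_27 X) (Nat.ble (nat_lit 6909907) X)
noncomputable def T_d_n27_29 (X : ℕ) : ℕ := Bool.rec (motive := fun _ => ℕ) T_d_27 T_d_28 (Nat.ble (nat_lit 7296983) X)
noncomputable def T_d_n30_32 (X : ℕ) : ℕ := Bool.rec (motive := fun _ => ℕ) T_d_30 T_d_31 (Nat.ble (nat_lit 7492031) X)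
noncomputable def T_d_n29_32 (X : ℕ) : ℕ := Bool.rec (motive := fun _ => ℕ) T_d_29 (T_d_n30_32 X) (Nat.ble (nat_lit 7427041) X)
noncomputable def T_d_n27_32 (X : ℕ) : ℕ := Bool.rec (motive := fun _ => ℕ) (T_d_n27_29 X) (T_d_n29_32 X) (Nat.ble (nat_lit 7362133) X)
noncomputable def T_d_n32_34 (X : ℕ) : ℕ := Bool.rec (motive := fun _ => ℕ) T_d_32 T_d_33 (Nat.ble (nat_lit 7622317) X)
noncomputable def T_d_n35_37 (X : ℕ) : ℕ := Bool.rec (motive := fun _ => ℕ) T_d_35 T_d_36 (Nat.ble (nat_lit 7817143) X)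
noncomputable def T_d_n34_37 (X : ℕ) : ℕ := Bool.rec (motive := fun _ => ℕ) T_d_34 (T_d_n35_37 X) (Nat.ble (nat_lit 7752179) X)
noncomputable def T_d_n32_37 (X : ℕ) : ℕ := Bool.rec (motive := fun _ => ℕ) (T_d_n32_34 X) (T_d_n34_37 X) (Nat.ble (nat_lit 7686893) X)
noncomputable def T_d_n27_37 (X : ℕ) : ℕ := Bool.rec (motive := fun _ => ℕ) (T_d_n27_32 X) (T_d_n32_37 X) (Nat.ble (nat_lit 7557091) X)
noncomputable def T_d_n18_37 (X : ℕ) : ℕ := Bool.rec (motive := fun _ => ℕ) (T_d_n18_27 X) (T_d_n27_37 X) (Nat.ble (nat_lit 7232899) X)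
noncomputable def T_d_n0_37 (X : ℕ) : ℕ := Bool.rec (motive := fun _ => ℕ) (T_d_n0_18 X) (T_d_n18_37 X) (Nat.ble (nat_lit 6652979) X)
noncomputable def T_d_n37_39 (X : ℕ) : ℕ := Bool.rec (motive := fun _ => ℕ) T_d_37 T_d_38 (Nat.ble (nat_lit 7946711) X)
noncomputable def T_d_n39_41 (X : ℕ) : ℕ := Bool.rec (motive := fun _ => ℕ) T_d_39 T_d_40 (Nat.ble (nat_lit 8077529) X)
noncomputable def T_d_n37_41 (X : ℕ) : ℕ := Bool.rec (motive := fun _ => ℕ) (T_d_n37_39 X) (T_d_n39_41 X) (Nat.ble (nat_lit 8012209) X)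
noncomputable def T_d_n41_43 (X : ℕ) : ℕ := Bool.rec (motive := fun _ => ℕ) T_d_41 T_d_42 (Nat.ble (nat_lit 8208023) X)
noncomputable def T_d_n44_46 (X : ℕ) : ℕ := Bool.rec (motive := fun _ => ℕ) T_d_44 T_d_45 (Nat.ble (nat_lit 8403817) X)
noncomputable def T_d_n43_46 (X : ℕ) : ℕ := Bool.rec (motive := fun _ => ℕ) T_d_43 (T_d_n44_46 X) (Nat.ble (nat_lit 8338643) X)
noncomputable def T_d_n41_46 (X : ℕ) : ℕ := Bool.rec (motive := fun _ => ℕ) (T_d_n41_43 X) (T_d_n43_46 X) (Nat.ble (nat_lit 8273477) X)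
noncomputable def T_d_n37_46 (X : ℕ) : ℕ := Bool.rec (motive := fun _ => ℕ) (T_d_n37_41 X) (T_d_n41_46 X) (Nat.ble (nat_lit 8143277) X)
noncomputable def T_d_n46_48 (X : ℕ) : ℕ := Bool.rec (motive := fun _ => ℕ) T_d_46 T_d_47 (Nat.ble (nat_lit 8534429) X)
noncomputable def T_d_n49_51 (X : ℕ) : ℕ := Bool.rec (motive := fun _ => ℕ) T_d_49 T_d_50 (Nat.ble (nat_lit 8729821) X)
noncomputable def T_d_n48_51 (X : ℕ) : ℕ := Bool.rec (motive := fun _ => ℕ) T_d_48 (T_d_n49_51 X) (Nat.ble (nat_lit 8664559) X)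
noncomputable def T_d_n46_51 (X : ℕ) : ℕ := Bool.rec (motive := fun _ => ℕ) (T_d_n46_48 X) (T_d_n48_51 X) (Nat.ble (nat_lit 8599469) X)
noncomputable def T_d_n51_53 (X : ℕ) : ℕ := Bool.rec (motive := fun _ => ℕ) T_d_51 T_d_52 (Nat.ble (nat_lit 8861159) X)
noncomputable def T_d_n54_56 (X : ℕ) : ℕ := Bool.rec (motive := fun _ => ℕ) T_d_54 T_d_55 (Nat.ble (nat_lit 9058837) X)
noncomputable def T_d_n53_56 (X : ℕ) : ℕ := Bool.rec (motive := fun _ => ℕ) T_d_53 (T_d_n54_56 X) (Nat.ble (nat_lit 8992199) X)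
noncomputable def T_d_n51_56 (X : ℕ) : ℕ := Bool.rec (motive := fun _ => ℕ) (T_d_n51_53 X) (T_d_n53_56 X) (Nat.ble (nat_lit 8926363) X)
noncomputable def T_d_n46_56 (X : ℕ) : ℕ := Bool.rec (motive := fun _ => ℕ) (T_d_n46_51 X) (T_d_n51_56 X) (Nat.ble (nat_lit 8795047) X)
noncomputable def T_d_n37_56 (X : ℕ) : ℕ := Bool.rec (motive := fun _ => ℕ) (T_d_n37_46 X) (T_d_n46_56 X) (Nat.ble (nat_lit 8469977) X)
noncomputable def T_d_n56_58 (X : ℕ) : ℕ := Bool.rec (motive := fun _ => ℕ) T_d_56 T_d_57 (Nat.ble (nat_lit 9189703) X)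
noncomputable def T_d_n58_60 (X : ℕ) : ℕ := Bool.rec (motive := fun _ => ℕ) T_d_58 T_d_59 (Nat.ble (nat_lit 9320833) X)
noncomputable def T_d_n56_60 (X : ℕ) : ℕ := Bool.rec (motive := fun _ => ℕ) (T_d_n56_58 X) (T_d_n58_60 X) (Nat.ble (nat_lit 9255023) X)
noncomputable def T_d_n60_62 (X : ℕ) : ℕ := Bool.rec (motive := fun _ => ℕ) T_d_60 T_d_61 (Nat.ble (nat_lit 9452537) X)
noncomputable def T_d_n63_65 (X : ℕ) : ℕ := Bool.rec (motive := fun _ => ℕ) T_d_63 T_d_64 (Nat.ble (nat_lit 9649747) X)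
noncomputable def T_d_n62_65 (X : ℕ) : ℕ := Bool.rec (motive := fun _ => ℕ) T_d_62 (T_d_n63_65 X) (Nat.ble (nat_lit 9584063) X)
noncomputable def T_d_n60_65 (X : ℕ) : ℕ := Bool.rec (motive := fun _ => ℕ) (T_d_n60_62 X) (T_d_n62_65 X) (Nat.ble (nat_lit 9518723) X)
noncomputable def T_d_n56_65 (X : ℕ) : ℕ := Bool.rec (motive := fun _ => ℕ) (T_d_n56_60 X) (T_d_n60_65 X) (Nat.ble (nat_lit 9386471) X)
noncomputable def T_d_n65_67 (X : ℕ) : ℕ := Bool.rec (motive := fun _ => ℕ) T_d_65 T_d_66 (Nat.ble (nat_lit 9782029) X)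
noncomputable def T_d_n68_70 (X : ℕ) : ℕ := Bool.rec (motive := fun _ => ℕ) T_d_68 T_d_69 (Nat.ble (nat_lit 9980857) X)
noncomputable def T_d_n67_70 (X : ℕ) : ℕ := Bool.rec (motive := fun _ => ℕ) T_d_67 (T_d_n68_70 X) (Nat.ble (nat_lit 9914617) X)
noncomputable def T_d_n65_70 (X : ℕ) : ℕ := Bool.rec (motive := fun _ => ℕ) (T_d_n65_67 X) (T_d_n67_70 X) (Nat.ble (nat_lit 9847967) X)
noncomputable def T_d_n70_72 (X : ℕ) : ℕ := Bool.rec (motive := fun _ => ℕ) T_d_70 T_d_71 (Nat.ble (nat_lit 10112897) X)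
noncomputable def T_d_n73_75 (X : ℕ) : ℕ := Bool.rec (motive := fun _ => ℕ) T_d_73 T_d_74 (Nat.ble (nat_lit 10311997) X)
noncomputable def T_d_n72_75 (X : ℕ) : ℕ := Bool.rec (motive := fun _ => ℕ) T_d_72 (T_d_n73_75 X) (Nat.ble (nat_lit 10245751) X)
noncomputable def T_d_n70_75 (X : ℕ) : ℕ := Bool.rec (motive := fun _ => ℕ) (T_d_n70_72 X) (T_d_n72_75 X) (Nat.ble (nat_lit 10179161) X)
noncomputable def T_d_n65_75 (X : ℕ) : ℕ := Bool.rec (motive := fun _ => ℕ) (T_d_n65_70 X) (T_d_n70_75 X) (Nat.ble (nat_lit 10046903) X)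
noncomputable def T_d_n56_75 (X : ℕ) : ℕ := Bool.rec (motive := fun _ => ℕ) (T_d_n56_65 X) (T_d_n65_75 X) (Nat.ble (nat_lit 9715969) X)
noncomputable def T_d_n37_75 (X : ℕ) : ℕ := Bool.rec (motive := fun _ => ℕ) (T_d_n37_56 X) (T_d_n56_75 X) (Nat.ble (nat_lit 9124417) X)
noncomputable def T_d_sel (X : ℕ) : ℕ := Bool.rec (motive := fun _ => ℕ) (T_d_n0_37 X) (T_d_n37_75 X) (Nat.ble (nat_lit 7881739) X)
noncomputable def F_d (q : ℕ) : ℕ := Nat.add (nat_lit 5500000) (Nat.mod (T_d_sel q) q)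
noncomputable def U_d_n0_2 (X : ℕ) : ℕ := Bool.rec (motive := fun _ => ℕ) U_d_0 U_d_1 (Nat.ble (nat_lit 5564497) X)
noncomputable def U_d_n2_4 (X : ℕ) : ℕ := Bool.rec (motive := fun _ => ℕ) U_d_2 U_d_3 (Nat.ble (nat_lit 5692157) X)
noncomputable def U_d_n0_4 (X : ℕ) : ℕ := Bool.rec (motive := fun _ => ℕ) (U_d_n0_2 X) (U_d_n2_4 X) (Nat.ble (nat_lit 5628131) X)
noncomputable def U_d_n4_6 (X : ℕ) : ℕ := Bool.rec (motive := fun _ => ℕ) U_d_4 U_d_5 (Nat.ble (nat_lit 5820037) X)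
noncomputable def U_d_n7_9 (X : ℕ) : ℕ := Bool.rec (motive := fun _ => ℕ) U_d_7 U_d_8 (Nat.ble (nat_lit 6010867) X)
noncomputable def U_d_n6_9 (X : ℕ) : ℕ := Bool.rec (motive := fun _ => ℕ) U_d_6 (U_d_n7_9 X) (Nat.ble (nat_lit 5946749) X)
noncomputable def U_d_n4_9 (X : ℕ) : ℕ := Bool.rec (motive := fun _ => ℕ) (U_d_n4_6 X) (U_d_n6_9 X) (Nat.ble (nat_lit 5883737) X)
noncomputable def U_d_n0_9 (X : ℕ) : ℕ := Bool.rec (motive := fun _ => ℕ) (U_d_n0_4 X) (U_d_n4_9 X) (Nat.ble (nat_lit 5755531) X)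
noncomputable def U_d_n9_11 (X : ℕ) : ℕ := Bool.rec (motive := fun _ => ℕ) U_d_9 U_d_10 (Nat.ble (nat_lit 6139249) X)
noncomputable def U_d_n11_13 (X : ℕ) : ℕ := Bool.rec (motive := fun _ => ℕ) U_d_11 U_d_12 (Nat.ble (nat_lit 6267619) X)
noncomputable def U_d_n9_13 (X : ℕ) : ℕ := Bool.rec (motive := fun _ => ℕ) (U_d_n9_11 X) (U_d_n11_13 X) (Nat.ble (nat_lit 6203143) X)
noncomputable def U_d_n13_15 (X : ℕ) : ℕ := Bool.rec (motive := fun _ => ℕ) U_d_13 U_d_14 (Nat.ble (nat_lit 6395947) X)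
noncomputable def U_d_n16_18 (X : ℕ) : ℕ := Bool.rec (motive := fun _ => ℕ) U_d_16 U_d_17 (Nat.ble (nat_lit 6588443) X)
noncomputable def U_d_n15_18 (X : ℕ) : ℕ := Bool.rec (motive := fun _ => ℕ) U_d_15 (U_d_n16_18 X) (Nat.ble (nat_lit 6524611) X)
noncomputable def U_d_n13_18 (X : ℕ) : ℕ := Bool.rec (motive := fun _ => ℕ) (U_d_n13_15 X) (U_d_n15_18 X) (Nat.ble (nat_lit 6460379) X)
noncomputable def U_d_n9_18 (X : ℕ) : ℕ := Bool.rec (motive := fun _ => ℕ) (U_d_n9_13 X) (U_d_n13_18 X) (Nat.ble (nat_lit 6330559) X)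
noncomputable def U_d_n0_18 (X : ℕ) : ℕ := Bool.rec (motive := fun _ => ℕ) (U_d_n0_9 X) (U_d_n9_18 X) (Nat.ble (nat_lit 6075263) X)
noncomputable def U_d_n18_20 (X : ℕ) : ℕ := Bool.rec (motive := fun _ => ℕ) U_d_18 U_d_19 (Nat.ble (nat_lit 6717307) X)
noncomputable def U_d_n20_22 (X : ℕ) : ℕ := Bool.rec (motive := fun _ => ℕ) U_d_20 U_d_21 (Nat.ble (nat_lit 6846031) X)
noncomputable def U_d_n18_22 (X : ℕ) : ℕ := Bool.rec (motive := fun _ => ℕ) (U_d_n18_20 X) (U_d_n20_22 X) (Nat.ble (nat_lit 6781547) X)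
noncomputable def U_d_n22_24 (X : ℕ) : ℕ := Bool.rec (motive := fun _ => ℕ) U_d_22 U_d_23 (Nat.ble (nat_lit 6974053) X)
noncomputable def U_d_n25_27 (X : ℕ) : ℕ := Bool.rec (motive := fun _ => ℕ) U_d_25 U_d_26 (Nat.ble (nat_lit 7167791) X)
noncomputable def U_d_n24_27 (X : ℕ) : ℕ := Bool.rec (motive := fun _ => ℕ) U_d_24 (U_d_n25_27 X) (Nat.ble (nat_lit 7102643) X)
noncomputable def U_d_n22_27 (X : ℕ) : ℕ := Bool.rec (motive := fun _ => ℕ) (U_d_n22_24 X) (U_d_n24_27 X) (Nat.ble (nat_lit 7038397) X)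
noncomputable def U_d_n18_27 (X : ℕ) : ℕ := Bool.rec (motive := fun _ => ℕ) (U_d_n18_22 X) (U_d_n22_27 X) (Nat.ble (nat_lit 6909907) X)
noncomputable def U_d_n27_29 (X : ℕ) : ℕ := Bool.rec (motive := fun _ => ℕ) U_d_27 U_d_28 (Nat.ble (nat_lit 7296983) X)
noncomputable def U_d_n30_32 (X : ℕ) : ℕ := Bool.rec (motive := fun _ => ℕ) U_d_30 U_d_31 (Nat.ble (nat_lit 7492031) X)
noncomputable def U_d_n29_32 (X : ℕ) : ℕ := Bool.rec (motive := fun _ => ℕ) U_d_29 (U_d_n30_32 X) (Nat.ble (nat_lit 7427041) X)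
noncomputable def U_d_n27_32 (X : ℕ) : ℕ := Bool.rec (motive := fun _ => ℕ) (U_d_n27_29 X) (U_d_n29_32 X) (Nat.ble (nat_lit 7362133) X)
noncomputable def U_d_n32_34 (X : ℕ) : ℕ := Bool.rec (motive := fun _ => ℕ) U_d_32 U_d_33 (Nat.ble (nat_lit 7622317) X)
noncomputable def U_d_n35_37 (X : ℕ) : ℕ := Bool.rec (motive := fun _ => ℕ) U_d_35 U_d_36 (Nat.ble (nat_lit 7817143) X)
noncomputable def U_d_n34_37 (X : ℕ) : ℕ := Bool.rec (motive := fun _ => ℕ) U_d_34 (U_d_n35_37 X) (Nat.ble (nat_lit 7752179) X)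
noncomputable def U_d_n32_37 (X : ℕ) : ℕ := Bool.rec (motive := fun _ => ℕ) (U_d_n32_34 X) (U_d_n34_37 X) (Nat.ble (nat_lit 7686893) X)
noncomputable def U_d_n27_37 (X : ℕ) : ℕ := Bool.rec (motive := fun _ => ℕ) (U_d_n27_32 X) (U_d_n32_37 X) (Nat.ble (nat_lit 7557091) X)
noncomputable def U_d_n18_37 (X : ℕ) : ℕ := Bool.rec (motive := fun _ => ℕ) (U_d_n18_27 X) (U_d_n27_37 X) (Nat.ble (nat_lit 7232899) X)
noncomputable def U_d_n0_37 (X : ℕ) : ℕ := Bool.rec (motive := fun _ => ℕ) (U_d_n0_18 X) (U_d_n18_37 X) (Nat.ble (nat_lit 6652979) X)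
noncomputable def U_d_n37_39 (X : ℕ) : ℕ := Bool.rec (motive := fun _ => ℕ) U_d_37 U_d_38 (Nat.ble (nat_lit 7946711) X)
noncomputable def U_d_n39_41 (X : ℕ) : ℕ := Bool.rec (motive := fun _ => ℕ) U_d_39 U_d_40 (Nat.ble (nat_lit 8077529) X)
noncomputable def U_d_n37_41 (X : ℕ) : ℕ := Bool.rec (motive := fun _ => ℕ) (U_d_n37_39 X) (U_d_n39_41 X) (Nat.ble (nat_lit 8012209) X)
noncomputable def U_d_n41_43 (X : ℕ) : ℕ := Bool.rec (motive := fun _ => ℕ) U_d_41 U_d_42 (Nat.ble (nat_lit 8208023) X)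
noncomputable def U_d_n44_46 (X : ℕ) : ℕ := Bool.rec (motive := fun _ => ℕ) U_d_44 U_d_45 (Nat.ble (nat_lit 8403817) X)
noncomputable def U_d_n43_46 (X : ℕ) : ℕ := Bool.rec (motive := fun _ => ℕ) U_d_43 (U_d_n44_46 X) (Nat.ble (nat_lit 8338643) X)
noncomputable def U_d_n41_46 (X : ℕ) : ℕ := Bool.rec (motive := fun _ => ℕ) (U_d_n41_43 X) (U_d_n43_46 X) (Nat.ble (nat_lit 8273477) X)
noncomputable def U_d_n37_46 (X : ℕ) : ℕ := Bool.rec (motive := fun _ => ℕ) (U_d_n37_41 X) (U_d_n41_46 X) (Nat.ble (nat_lit 8143277) X)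
noncomputable def U_d_n46_48 (X : ℕ) : ℕ := Bool.rec (motive := fun _ => ℕ) U_d_46 U_d_47 (Nat.ble (nat_lit 8534429) X)
noncomputable def U_d_n49_51 (X : ℕ) : ℕ := Bool.rec (motive := fun _ => ℕ) U_d_49 U_d_50 (Nat.ble (nat_lit 8729821) X)
noncomputable def U_d_n48_51 (X : ℕ) : ℕ := Bool.rec (motive := fun _ => ℕ) U_d_48 (U_d_n49_51 X) (Nat.ble (nat_lit 8664559) X)
noncomputable def U_d_n46_51 (X : ℕ) : ℕ := Bool.rec (motive := fun _ => ℕ) (U_d_n46_48 X) (U_d_n48_51 X) (Nat.ble (nat_lit 8599469) X)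
noncomputable def U_d_n51_53 (X : ℕ) : ℕ := Bool.rec (motive := fun _ => ℕ) U_d_51 U_d_52 (Nat.ble (nat_lit 8861159) X)
noncomputable def U_d_n54_56 (X : ℕ) : ℕ := Bool.rec (motive := fun _ => ℕ) U_d_54 U_d_55 (Nat.ble (nat_lit 9058837) X)
noncomputable def U_d_n53_56 (X : ℕ) : ℕ := Bool.rec (motive := fun _ => ℕ) U_d_53 (U_d_n54_56 X) (Nat.ble (nat_lit 8992199) X)
noncomputable def U_d_n51_56 (X : ℕ) : ℕ := Bool.rec (motive := fun _ => ℕ) (U_d_n51_53 X) (U_d_n53_56 X) (Nat.ble (nat_lit 8926363) X)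
noncomputable def U_d_n46_56 (X : ℕ) : ℕ := Bool.rec (motive := fun _ => ℕ) (U_d_n46_51 X) (U_d_n51_56 X) (Nat.ble (nat_lit 8795047) X)
noncomputable def U_d_n37_56 (X : ℕ) : ℕ := Bool.rec (motive := fun _ => ℕ) (U_d_n37_46 X) (U_d_n46_56 X) (Nat.ble (nat_lit 8469977) X)
noncomputable def U_d_n56_58 (X : ℕ) : ℕ := Bool.rec (motive := fun _ => ℕ) U_d_56 U_d_57 (Nat.ble (nat_lit 9189703) X)
noncomputable def U_d_n58_60 (X : ℕ) : ℕ := Bool.rec (motive := fun _ => ℕ) U_d_58 U_d_59 (Nat.ble (nat_lit 9320833) X)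
noncomputable def U_d_n56_60 (X : ℕ) : ℕ := Bool.rec (motive := fun _ => ℕ) (U_d_n56_58 X) (U_d_n58_60 X) (Nat.ble (nat_lit 9255023) X)
noncomputable def U_d_n60_62 (X : ℕ) : ℕ := Bool.rec (motive := fun _ => ℕ) U_d_60 U_d_61 (Nat.ble (nat_lit 9452537) X)
noncomputable def U_d_n63_65 (X : ℕ) : ℕ := Bool.rec (motive := fun _ => ℕ) U_d_63 U_d_64 (Nat.ble (nat_lit 9649747) X)
noncomputable def U_d_n62_65 (X : ℕ) : ℕ := Bool.rec (motive := fun _ => ℕ) U_d_62 (U_d_n63_65 X) (Nat.ble (nat_lit 9584063) X)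
noncomputable def U_d_n60_65 (X : ℕ) : ℕ := Bool.rec (motive := fun _ => ℕ) (U_d_n60_62 X) (U_d_n62_65 X) (Nat.ble (nat_lit 9518723) X)
noncomputable def U_d_n56_65 (X : ℕ) : ℕ := Bool.rec (motive := fun _ => ℕ) (U_d_n56_60 X) (U_d_n60_65 X) (Nat.ble (nat_lit 9386471) X)
noncomputable def U_d_n65_67 (X : ℕ) : ℕ := Bool.rec (motive := fun _ => ℕ) U_d_65 U_d_66 (Nat.ble (nat_lit 9782029) X)
noncomputable def U_d_n68_70 (X : ℕ) : ℕ := Bool.rec (motive := fun _ => ℕ) U_d_68 U_d_69 (Nat.ble (nat_lit 9980857) X)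
noncomputable def U_d_n67_70 (X : ℕ) : ℕ := Bool.rec (motive := fun _ => ℕ) U_d_67 (U_d_n68_70 X) (Nat.ble (nat_lit 9914617) X)
noncomputable def U_d_n65_70 (X : ℕ) : ℕ := Bool.rec (motive := fun _ => ℕ) (U_d_n65_67 X) (U_d_n67_70 X) (Nat.ble (nat_lit 9847967) X)
noncomputable def U_d_n70_72 (X : ℕ) : ℕ := Bool.rec (motive := fun _ => ℕ) U_d_70 U_d_71 (Nat.ble (nat_lit 10112897) X)
noncomputable def U_d_n73_75 (X : ℕ) : ℕ := Bool.rec (motive := fun _ => ℕ) U_d_73 U_d_74 (Nat.ble (nat_lit 10311997) X)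
noncomputable def U_d_n72_75 (X : ℕ) : ℕ := Bool.rec (motive := fun _ => ℕ) U_d_72 (U_d_n73_75 X) (Nat.ble (nat_lit 10245751) X)
noncomputable def U_d_n70_75 (X : ℕ) : ℕ := Bool.rec (motive := fun _ => ℕ) (U_d_n70_72 X) (U_d_n72_75 X) (Nat.ble (nat_lit 10179161) X)
noncomputable def U_d_n65_75 (X : ℕ) : ℕ := Bool.rec (motive := fun _ => ℕ) (U_d_n65_70 X) (U_d_n70_75 X) (Nat.ble (nat_lit 10046903) X)
noncomputable def U_d_n56_75 (X : ℕ) : ℕ := Bool.rec (motive := fun _ => ℕ) (U_d_n56_65 X) (U_d_n65_75 X) (Nat.ble (nat_lit 9715969) X)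
noncomputable def U_d_n37_75 (X : ℕ) : ℕ := Bool.rec (motive := fun _ => ℕ) (U_d_n37_56 X) (U_d_n56_75 X) (Nat.ble (nat_lit 9124417) X)
noncomputable def U_d_sel (X : ℕ) : ℕ := Bool.rec (motive := fun _ => ℕ) (U_d_n0_37 X) (U_d_n37_75 X) (Nat.ble (nat_lit 7881739) X)
noncomputable def UU_d (q : ℕ) : ℕ := (Nat.mod (U_d_sel q) q)
noncomputable def V_d_n0_2 (X : ℕ) : ℕ := Bool.rec (motive := fun _ => ℕ) V_d_0 V_d_1 (Nat.ble (nat_lit 5564497) X)
noncomputable def V_d_n2_4 (X : ℕ) : ℕ := Bool.rec (motive := fun _ => ℕ) V_d_2 V_d_3 (Nat.ble (nat_lit 5692157) X)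
noncomputable def V_d_n0_4 (X : ℕ) : ℕ := Bool.rec (motive := fun _ => ℕ) (V_d_n0_2 X) (V_d_n2_4 X) (Nat.ble (nat_lit 5628131) X)
noncomputable def V_d_n4_6 (X : ℕ) : ℕ := Bool.rec (motive := fun _ => ℕ) V_d_4 V_d_5 (Nat.ble (nat_lit 5820037) X)
noncomputable def V_d_n7_9 (X : ℕ) : ℕ := Bool.rec (motive := fun _ => ℕ) V_d_7 V_d_8 (Nat.ble (nat_lit 6010867) X)
noncomputable def V_d_n6_9 (X : ℕ) : ℕ := Bool.rec (motive := fun _ => ℕ) V_d_6 (V_d_n7_9 X) (Nat.ble (nat_lit 5946749) X)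
noncomputable def V_d_n4_9 (X : ℕ) : ℕ := Bool.rec (motive := fun _ => ℕ) (V_d_n4_6 X) (V_d_n6_9 X) (Nat.ble (nat_lit 5883737) X)
noncomputable def V_d_n0_9 (X : ℕ) : ℕ := Bool.rec (motive := fun _ => ℕ) (V_d_n0_4 X) (V_d_n4_9 X) (Nat.ble (nat_lit 5755531) X)
noncomputable def V_d_n9_11 (X : ℕ) : ℕ := Bool.rec (motive := fun _ => ℕ) V_d_9 V_d_10 (Nat.ble (nat_lit 6139249) X)
noncomputable def V_d_n11_13 (X : ℕ) : ℕ := Bool.rec (motive := fun _ => ℕ) V_d_11 V_d_12 (Nat.ble (nat_lit 6267619) X)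
noncomputable def V_d_n9_13 (X : ℕ) : ℕ := Bool.rec (motive := fun _ => ℕ) (V_d_n9_11 X) (V_d_n11_13 X) (Nat.ble (nat_lit 6203143) X)
noncomputable def V_d_n13_15 (X : ℕ) : ℕ := Bool.rec (motive := fun _ => ℕ) V_d_13 V_d_14 (Nat.ble (nat_lit 6395947) X)
noncomputable def V_d_n16_18 (X : ℕ) : ℕ := Bool.rec (motive := fun _ => ℕ) V_d_16 V_d_17 (Nat.ble (nat_lit 6588443) X)
noncomputable def V_d_n15_18 (X : ℕ) : ℕ := Bool.rec (motive := fun _ => ℕ) V_d_15 (V_d_n16_18 X) (Nat.ble (nat_lit 6524611) X)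
noncomputable def V_d_n13_18 (X : ℕ) : ℕ := Bool.rec (motive := fun _ => ℕ) (V_d_n13_15 X) (V_d_n15_18 X) (Nat.ble (nat_lit 6460379) X)
noncomputable def V_d_n9_18 (X : ℕ) : ℕ := Bool.rec (motive := fun _ => ℕ) (V_d_n9_13 X) (V_d_n13_18 X) (Nat.ble (nat_lit 6330559) X)
noncomputable def V_d_n0_18 (X : ℕ) : ℕ := Bool.rec (motive := fun _ => ℕ) (V_d_n0_9 X) (V_d_n9_18 X) (Nat.ble (nat_lit 6075263) X)
noncomputable def V_d_n18_20 (X : ℕ) : ℕ := Bool.rec (motive := fun _ => ℕ) V_d_18 V_d_19 (Nat.ble (nat_lit 6717307) X)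
noncomputable def V_d_n20_22 (X : ℕ) : ℕ := Bool.rec (motive := fun _ => ℕ) V_d_20 V_d_21 (Nat.ble (nat_lit 6846031) X)
noncomputable def V_d_n18_22 (X : ℕ) : ℕ := Bool.rec (motive := fun _ => ℕ) (V_d_n18_20 X) (V_d_n20_22 X) (Nat.ble (nat_lit 6781547) X)
noncomputable def V_d_n22_24 (X : ℕ) : ℕ := Bool.rec (motive := fun _ => ℕ) V_d_22 V_d_23 (Nat.ble (nat_lit 6974053) X)
noncomputable def V_d_n25_27 (X : ℕ) : ℕ := Bool.rec (motive := fun _ => ℕ) V_d_25 V_d_26 (Nat.ble (nat_lit 7167791) X)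
noncomputable def V_d_n24_27 (X : ℕ) : ℕ := Bool.rec (motive := fun _ => ℕ) V_d_24 (V_d_n25_27 X) (Nat.ble (nat_lit 7102643) X)
noncomputable def V_d_n22_27 (X : ℕ) : ℕ := Bool.rec (motive := fun _ => ℕ) (V_d_n22_24 X) (V_d_n24_27 X) (Nat.ble (nat_lit 7038397) X)
noncomputable def V_d_n18_27 (X : ℕ) : ℕ := Bool.rec (motive := fun _ => ℕ) (V_d_n18_22 X) (V_d_n22_27 X) (Nat.ble (nat_lit 6909907) X)
noncomputable def V_d_n27_29 (X : ℕ) : ℕ := Bool.rec (motive := fun _ => ℕ) V_d_27 V_d_28 (Nat.ble (nat_lit 7296983) X)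
noncomputable def V_d_n30_32 (X : ℕ) : ℕ := Bool.rec (motive := fun _ => ℕ) V_d_30 V_d_31 (Nat.ble (nat_lit 7492031) X)
noncomputable def V_d_n29_32 (X : ℕ) : ℕ := Bool.rec (motive := fun _ => ℕ) V_d_29 (V_d_n30_32 X) (Nat.ble (nat_lit 7427041) X)
noncomputable def V_d_n27_32 (X : ℕ) : ℕ := Bool.rec (motive := fun _ => ℕ) (V_d_n27_29 X) (V_d_n29_32 X) (Nat.ble (nat_lit 7362133) X)
noncomputable def V_d_n32_34 (X : ℕ) : ℕ := Bool.rec (motive := fun _ => ℕ) V_d_32 V_d_33 (Nat.ble (nat_lit 7622317) X)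
noncomputable def V_d_n35_37 (X : ℕ) : ℕ := Bool.rec (motive := fun _ => ℕ) V_d_35 V_d_36 (Nat.ble (nat_lit 7817143) X)
noncomputable def V_d_n34_37 (X : ℕ) : ℕ := Bool.rec (motive := fun _ => ℕ) V_d_34 (V_d_n35_37 X) (Nat.ble (nat_lit 7752179) X)
noncomputable def V_d_n32_37 (X : ℕ) : ℕ := Bool.rec (motive := fun _ => ℕ) (V_d_n32_34 X) (V_d_n34_37 X) (Nat.ble (nat_lit 7686893) X)
noncomputable def V_d_n27_37 (X : ℕ) : ℕ := Bool.rec (motive := fun _ => ℕ) (V_d_n27_32 X) (V_d_n32_37 X) (Nat.ble (nat_lit 7557091) X)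
noncomputable def V_d_n18_37 (X : ℕ) : ℕ := Bool.rec (motive := fun _ => ℕ) (V_d_n18_27 X) (V_d_n27_37 X) (Nat.ble (nat_lit 7232899) X)
noncomputable def V_d_n0_37 (X : ℕ) : ℕ := Bool.rec (motive := fun _ => ℕ) (V_d_n0_18 X) (V_d_n18_37 X) (Nat.ble (nat_lit 6652979) X)
noncomputable def V_d_n37_39 (X : ℕ) : ℕ := Bool.rec (motive := fun _ => ℕ) V_d_37 V_d_38 (Nat.ble (nat_lit 7946711) X)
noncomputable def V_d_n39_41 (X : ℕ) : ℕ := Bool.rec (motive := fun _ => ℕ) V_d_39 V_d_40 (Nat.ble (nat_lit 8077529) X)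
noncomputable def V_d_n37_41 (X : ℕ) : ℕ := Bool.rec (motive := fun _ => ℕ) (V_d_n37_39 X) (V_d_n39_41 X) (Nat.ble (nat_lit 8012209) X)
noncomputable def V_d_n41_43 (X : ℕ) : ℕ := Bool.rec (motive := fun _ => ℕ) V_d_41 V_d_42 (Nat.ble (nat_lit 8208023) X)
noncomputable def V_d_n44_46 (X : ℕ) : ℕ := Bool.rec (motive := fun _ => ℕ) V_d_44 V_d_45 (Nat.ble (nat_lit 8403817) X)
noncomputable def V_d_n43_46 (X : ℕ) : ℕ := Bool.rec (motive := fun _ => ℕ) V_d_43 (V_d_n44_46 X) (Nat.ble (nat_lit 8338643) X)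
noncomputable def V_d_n41_46 (X : ℕ) : ℕ := Bool.rec (motive := fun _ => ℕ) (V_d_n41_43 X) (V_d_n43_46 X) (Nat.ble (nat_lit 8273477) X)
noncomputable def V_d_n37_46 (X : ℕ) : ℕ := Bool.rec (motive := fun _ => ℕ) (V_d_n37_41 X) (V_d_n41_46 X) (Nat.ble (nat_lit 8143277) X)
noncomputable def V_d_n46_48 (X : ℕ) : ℕ := Bool.rec (motive := fun _ => ℕ) V_d_46 V_d_47 (Nat.ble (nat_lit 8534429) X)
noncomputable def V_d_n49_51 (X : ℕ) : ℕ := Bool.rec (motive := fun _ => ℕ) V_d_49 V_d_50 (Nat.ble (nat_lit 8729821) X)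
noncomputable def V_d_n48_51 (X : ℕ) : ℕ := Bool.rec (motive := fun _ => ℕ) V_d_48 (V_d_n49_51 X) (Nat.ble (nat_lit 8664559) X)
noncomputable def V_d_n46_51 (X : ℕ) : ℕ := Bool.rec (motive := fun _ => ℕ) (V_d_n46_48 X) (V_d_n48_51 X) (Nat.ble (nat_lit 8599469) X)
noncomputable def V_d_n51_53 (X : ℕ) : ℕ := Bool.rec (motive := fun _ => ℕ) V_d_51 V_d_52 (Nat.ble (nat_lit 8861159) X)
noncomputable def V_d_n54_56 (X : ℕ) : ℕ := Bool.rec (motive := fun _ => ℕ) V_d_54 V_d_55 (Nat.ble (nat_lit 9058837) X)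
noncomputable def V_d_n53_56 (X : ℕ) : ℕ := Bool.rec (motive := fun _ => ℕ) V_d_53 (V_d_n54_56 X) (Nat.ble (nat_lit 8992199) X)
noncomputable def V_d_n51_56 (X : ℕ) : ℕ := Bool.rec (motive := fun _ => ℕ) (V_d_n51_53 X) (V_d_n53_56 X) (Nat.ble (nat_lit 8926363) X)
noncomputable def V_d_n46_56 (X : ℕ) : ℕ := Bool.rec (motive := fun _ => ℕ) (V_d_n46_51 X) (V_d_n51_56 X) (Nat.ble (nat_lit 8795047) X)
noncomputable def V_d_n37_56 (X : ℕ) : ℕ := Bool.rec (motive := fun _ => ℕ) (V_d_n37_46 X) (V_d_n46_56 X) (Nat.ble (nat_lit 8469977) X)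
noncomputable def V_d_n56_58 (X : ℕ) : ℕ := Bool.rec (motive := fun _ => ℕ) V_d_56 V_d_57 (Nat.ble (nat_lit 9189703) X)
noncomputable def V_d_n58_60 (X : ℕ) : ℕ := Bool.rec (motive := fun _ => ℕ) V_d_58 V_d_59 (Nat.ble (nat_lit 9320833) X)
noncomputable def V_d_n56_60 (X : ℕ) : ℕ := Bool.rec (motive := fun _ => ℕ) (V_d_n56_58 X) (V_d_n58_60 X) (Nat.ble (nat_lit 9255023) X)
noncomputable def V_d_n60_62 (X : ℕ) : ℕ := Bool.rec (motive := fun _ => ℕ) V_d_60 V_d_61 (Nat.ble (nat_lit 9452537) X)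
noncomputable def V_d_n63_65 (X : ℕ) : ℕ := Bool.rec (motive := fun _ => ℕ) V_d_63 V_d_64 (Nat.ble (nat_lit 9649747) X)
noncomputable def V_d_n62_65 (X : ℕ) : ℕ := Bool.rec (motive := fun _ => ℕ) V_d_62 (V_d_n63_65 X) (Nat.ble (nat_lit 9584063) X)
noncomputable def V_d_n60_65 (X : ℕ) : ℕ := Bool.rec (motive := fun _ => ℕ) (V_d_n60_62 X) (V_d_n62_65 X) (Nat.ble (nat_lit 9518723) X)
noncomputable def V_d_n56_65 (X : ℕ) : ℕ := Bool.rec (motive := fun _ => ℕ) (V_d_n56_60 X) (V_d_n60_65 X) (Nat.ble (nat_lit 9386471) X)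
noncomputable def V_d_n65_67 (X : ℕ) : ℕ := Bool.rec (motive := fun _ => ℕ) V_d_65 V_d_66 (Nat.ble (nat_lit 9782029) X)
noncomputable def V_d_n68_70 (X : ℕ) : ℕ := Bool.rec (motive := fun _ => ℕ) V_d_68 V_d_69 (Nat.ble (nat_lit 9980857) X)
noncomputable def V_d_n67_70 (X : ℕ) : ℕ := Bool.rec (motive := fun _ => ℕ) V_d_67 (V_d_n68_70 X) (Nat.ble (nat_lit 9914617) X)
noncomputable def V_d_n65_70 (X : ℕ) : ℕ := Bool.rec (motive := fun _ => ℕ) (V_d_n65_67 X) (V_d_n67_70 X) (Nat.ble (nat_lit 9847967) X)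
noncomputable def V_d_n70_72 (X : ℕ) : ℕ := Bool.rec (motive := fun _ => ℕ) V_d_70 V_d_71 (Nat.ble (nat_lit 10112897) X)
noncomputable def V_d_n73_75 (X : ℕ) : ℕ := Bool.rec (motive := fun _ => ℕ) V_d_73 V_d_74 (Nat.ble (nat_lit 10311997) X)
noncomputable def V_d_n72_75 (X : ℕ) : ℕ := Bool.rec (motive := fun _ => ℕ) V_d_72 (V_d_n73_75 X) (Nat.ble (nat_lit 10245751) X)
noncomputable def V_d_n70_75 (X : ℕ) : ℕ := Bool.rec (motive := fun _ => ℕ) (V_d_n70_72 X) (V_d_n72_75 X) (Nat.ble (nat_lit 10179161) X)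
noncomputable def V_d_n65_75 (X : ℕ) : ℕ := Bool.rec (motive := fun _ => ℕ) (V_d_n65_70 X) (V_d_n70_75 X) (Nat.ble (nat_lit 10046903) X)
noncomputable def V_d_n56_75 (X : ℕ) : ℕ := Bool.rec (motive := fun _ => ℕ) (V_d_n56_65 X) (V_d_n65_75 X) (Nat.ble (nat_lit 9715969) X)
noncomputable def V_d_n37_75 (X : ℕ) : ℕ := Bool.rec (motive := fun _ => ℕ) (V_d_n37_56 X) (V_d_n56_75 X) (Nat.ble (nat_lit 9124417) X)
noncomputable def V_d_sel (X : ℕ) : ℕ := Bool.rec (motive := fun _ => ℕ) (V_d_n0_37 X) (V_d_n37_75 X) (Nat.ble (nat_lit 7881739) X)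
noncomputable def VV_d (q : ℕ) : ℕ := (Nat.mod (V_d_sel q) q)
noncomputable def G_d (t q : ℕ) : ℕ := Bool.rec (motive := fun _ => ℕ) (nat_lit 0) (F_d q) (Nat.ble (Nat.succ (UU_d q)) t)
noncomputable def T_e_n0_2 (X : ℕ) : ℕ := Bool.rec (motive := fun _ => ℕ) T_e_0 T_e_1 (Nat.ble (nat_lit 5564497) X)
noncomputable def T_e_n2_4 (X : ℕ) : ℕ := Bool.rec (motive := fun _ => ℕ) T_e_2 T_e_3 (Nat.ble (nat_lit 5692157) X)
noncomputable def T_e_n0_4 (X : ℕ) : ℕ := Bool.rec (motive := fun _ => ℕ) (T_e_n0_2 X) (T_e_n2_4 X) (Nat.ble (nat_lit 5628131) X)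
noncomputable def T_e_n4_6 (X : ℕ) : ℕ := Bool.rec (motive := fun _ => ℕ) T_e_4 T_e_5 (Nat.ble (nat_lit 5820037) X)
noncomputable def T_e_n7_9 (X : ℕ) : ℕ := Bool.rec (motive := fun _ => ℕ) T_e_7 T_e_8 (Nat.ble (nat_lit 6010867) X)
noncomputable def T_e_n6_9 (X : ℕ) : ℕ := Bool.rec (motive := fun _ => ℕ) T_e_6 (T_e_n7_9 X) (Nat.ble (nat_lit 5946749) X)
noncomputable def T_e_n4_9 (X : ℕ) : ℕ := Bool.rec (motive := fun _ => ℕ) (T_e_n4_6 X) (T_e_n6_9 X) (Nat.ble (nat_lit 5883737) X)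
noncomputable def T_e_n0_9 (X : ℕ) : ℕ := Bool.rec (motive := fun _ => ℕ) (T_e_n0_4 X) (T_e_n4_9 X) (Nat.ble (nat_lit 5755531) X)
noncomputable def T_e_n9_11 (X : ℕ) : ℕ := Bool.rec (motive := fun _ => ℕ) T_e_9 T_e_10 (Nat.ble (nat_lit 6139249) X)
noncomputable def T_e_n11_13 (X : ℕ) : ℕ := Bool.rec (motive := fun _ => ℕ) T_e_11 T_e_12 (Nat.ble (nat_lit 6267619) X)
noncomputable def T_e_n9_13 (X : ℕ) : ℕ := Bool.rec (motive := fun _ => ℕ) (T_e_n9_11 X) (T_e_n11_13 X) (Nat.ble (nat_lit 6203143) X)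
noncomputable def T_e_n13_15 (X : ℕ) : ℕ := Bool.rec (motive := fun _ => ℕ) T_e_13 T_e_14 (Nat.ble (nat_lit 6395947) X)
noncomputable def T_e_n16_18 (X : ℕ) : ℕ := Bool.rec (motive := fun _ => ℕ) T_e_16 T_e_17 (Nat.ble (nat_lit 6588443) X)
noncomputable def T_e_n15_18 (X : ℕ) : ℕ := Bool.rec (motive := fun _ => ℕ) T_e_15 (T_e_n16_18 X) (Nat.ble (nat_lit 6524611) X)
noncomputable def T_e_n13_18 (X : ℕ) : ℕ := Bool.rec (motive := fun _ => ℕ) (T_e_n13_15 X) (T_e_n15_18 X) (Nat.ble (nat_lit 6460379) X)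
noncomputable def T_e_n9_18 (X : ℕ) : ℕ := Bool.rec (motive := fun _ => ℕ) (T_e_n9_13 X) (T_e_n13_18 X) (Nat.ble (nat_lit 6330559) X)
noncomputable def T_e_n0_18 (X : ℕ) : ℕ := Bool.rec (motive := fun _ => ℕ) (T_e_n0_9 X) (T_e_n9_18 X) (Nat.ble (nat_lit 6075263) X)
noncomputable def T_e_n18_20 (X : ℕ) : ℕ := Bool.rec (motive := fun _ => ℕ) T_e_18 T_e_19 (Nat.ble (nat_lit 6717307) X)
noncomputable def T_e_n20_22 (X : ℕ) : ℕ := Bool.rec (motive := fun _ => ℕ) T_e_20 T_e_21 (Nat.ble (nat_lit 6846031) X)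
noncomputable def T_e_n18_22 (X : ℕ) : ℕ := Bool.rec (motive := fun _ => ℕ) (T_e_n18_20 X) (T_e_n20_22 X) (Nat.ble (nat_lit 6781547) X)
noncomputable def T_e_n22_24 (X : ℕ) : ℕ := Bool.rec (motive := fun _ => ℕ) T_e_22 T_e_23 (Nat.ble (nat_lit 6974053) X)
noncomputable def T_e_n25_27 (X : ℕ) : ℕ := Bool.rec (motive := fun _ => ℕ) T_e_25 T_e_26 (Nat.ble (nat_lit 7167791) X)
noncomputable def T_e_n24_27 (X : ℕ) : ℕ := Bool.rec (motive := fun _ => ℕ) T_e_24 (T_e_n25_27 X) (Nat.ble (nat_lit 7102643) X)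
noncomputable def T_e_n22_27 (X : ℕ) : ℕ := Bool.rec (motive := fun _ => ℕ) (T_e_n22_24 X) (T_e_n24_27 X) (Nat.ble (nat_lit 7038397) X)
noncomputable def T_e_n18_27 (X : ℕ) : ℕ := Bool.rec (motive := fun _ => ℕ) (T_e_n18_22 X) (T_e_n22_27 X) (Nat.ble (nat_lit 6909907) X)
noncomputable def T_e_n27_29 (X : ℕ) : ℕ := Bool.rec (motive := fun _ => ℕ) T_e_27 T_e_28 (Nat.ble (nat_lit 7296983) X)
noncomputable def T_e_n30_32 (X : ℕ) : ℕ := Bool.rec (motive := fun _ => ℕ) T_e_30 T_e_31 (Nat.ble (nat_lit 7492031) X)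
noncomputable def T_e_n29_32 (X : ℕ) : ℕ := Bool.rec (motive := fun _ => ℕ) T_e_29 (T_e_n30_32 X) (Nat.ble (nat_lit 7427041) X)
noncomputable def T_e_n27_32 (X : ℕ) : ℕ := Bool.rec (motive := fun _ => ℕ) (T_e_n27_29 X) (T_e_n29_32 X) (Nat.ble (nat_lit 7362133) X)
noncomputable def T_e_n32_34 (X : ℕ) : ℕ := Bool.rec (motive := fun _ => ℕ) T_e_32 T_e_33 (Nat.ble (nat_lit 7622317) X)
noncomputable def T_e_n35_37 (X : ℕ) : ℕ := Bool.rec (motive := fun _ => ℕ) T_e_35 T_e_36 (Nat.ble (nat_lit 7817143) X)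
noncomputable def T_e_n34_37 (X : ℕ) : ℕ := Bool.rec (motive := fun _ => ℕ) T_e_34 (T_e_n35_37 X) (Nat.ble (nat_lit 7752179) X)
noncomputable def T_e_n32_37 (X : ℕ) : ℕ := Bool.rec (motive := fun _ => ℕ) (T_e_n32_34 X) (T_e_n34_37 X) (Nat.ble (nat_lit 7686893) X)
noncomputable def T_e_n27_37 (X : ℕ) : ℕ := Bool.rec (motive := fun _ => ℕ) (T_e_n27_32 X) (T_e_n32_37 X) (Nat.ble (nat_lit 7557091) X)
noncomputable def T_e_n18_37 (X : ℕ) : ℕ := Bool.rec (motive := fun _ => ℕ) (T_e_n18_27 X) (T_e_n27_37 X) (Nat.ble (nat_lit 7232899) X)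
noncomputable def T_e_n0_37 (X : ℕ) : ℕ := Bool.rec (motive := fun _ => ℕ) (T_e_n0_18 X) (T_e_n18_37 X) (Nat.ble (nat_lit 6652979) X)
noncomputable def T_e_n37_39 (X : ℕ) : ℕ := Bool.rec (motive := fun _ => ℕ) T_e_37 T_e_38 (Nat.ble (nat_lit 7946711) X)
noncomputable def T_e_n39_41 (X : ℕ) : ℕ := Bool.rec (motive := fun _ => ℕ) T_e_39 T_e_40 (Nat.ble (nat_lit 8077529) X)
noncomputable def T_e_n37_41 (X : ℕ) : ℕ := Bool.rec (motive := fun _ => ℕ) (T_e_n37_39 X) (T_e_n39_41 X) (Nat.ble (nat_lit 8012209) X)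
noncomputable def T_e_n41_43 (X : ℕ) : ℕ := Bool.rec (motive := fun _ => ℕ) T_e_41 T_e_42 (Nat.ble (nat_lit 8208023) X)
noncomputable def T_e_n44_46 (X : ℕ) : ℕ := Bool.rec (motive := fun _ => ℕ) T_e_44 T_e_45 (Nat.ble (nat_lit 8403817) X)
noncomputable def T_e_n43_46 (X : ℕ) : ℕ := Bool.rec (motive := fun _ => ℕ) T_e_43 (T_e_n44_46 X) (Nat.ble (nat_lit 8338643) X)
noncomputable def T_e_n41_46 (X : ℕ) : ℕ := Bool.rec (motive := fun _ => ℕ) (T_e_n41_43 X) (T_e_n43_46 X) (Nat.ble (nat_lit 8273477) X)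
noncomputable def T_e_n37_46 (X : ℕ) : ℕ := Bool.rec (motive := fun _ => ℕ) (T_e_n37_41 X) (T_e_n41_46 X) (Nat.ble (nat_lit 8143277) X)
noncomputable def T_e_n46_48 (X : ℕ) : ℕ := Bool.rec (motive := fun _ => ℕ) T_e_46 T_e_47 (Nat.ble (nat_lit 8534429) X)
noncomputable def T_e_n49_51 (X : ℕ) : ℕ := Bool.rec (motive := fun _ => ℕ) T_e_49 T_e_50 (Nat.ble (nat_lit 8729821) X)
noncomputable def T_e_n48_51 (X : ℕ) : ℕ := Bool.rec (motive := fun _ => ℕ) T_e_48 (T_e_n49_51 X) (Nat.ble (nat_lit 8664559) X)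
noncomputable def T_e_n46_51 (X : ℕ) : ℕ := Bool.rec (motive := fun _ => ℕ) (T_e_n46_48 X) (T_e_n48_51 X) (Nat.ble (nat_lit 8599469) X)
noncomputable def T_e_n51_53 (X : ℕ) : ℕ := Bool.rec (motive := fun _ => ℕ) T_e_51 T_e_52 (Nat.ble (nat_lit 8861159) X)
noncomputable def T_e_n54_56 (X : ℕ) : ℕ := Bool.rec (motive := fun _ => ℕ) T_e_54 T_e_55 (Nat.ble (nat_lit 9058837) X)
noncomputable def T_e_n53_56 (X : ℕ) : ℕ := Bool.rec (motive := fun _ => ℕ) T_e_53 (T_e_n54_56 X) (Nat.ble (nat_lit 8992199) X)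
noncomputable def T_e_n51_56 (X : ℕ) : ℕ := Bool.rec (motive := fun _ => ℕ) (T_e_n51_53 X) (T_e_n53_56 X) (Nat.ble (nat_lit 8926363) X)
noncomputable def T_e_n46_56 (X : ℕ) : ℕ := Bool.rec (motive := fun _ => ℕ) (T_e_n46_51 X) (T_e_n51_56 X) (Nat.ble (nat_lit 8795047) X)
noncomputable def T_e_n37_56 (X : ℕ) : ℕ := Bool.rec (motive := fun _ => ℕ) (T_e_n37_46 X) (T_e_n46_56 X) (Nat.ble (nat_lit 8469977) X)
noncomputable def T_e_n56_58 (X : ℕ) : ℕ := Bool.rec (motive := fun _ => ℕ) T_e_56 T_e_57 (Nat.ble (nat_lit 9189703) X)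
noncomputable def T_e_n58_60 (X : ℕ) : ℕ := Bool.rec (motive := fun _ => ℕ) T_e_58 T_e_59 (Nat.ble (nat_lit 9320833) X)
noncomputable def T_e_n56_60 (X : ℕ) : ℕ := Bool.rec (motive := fun _ => ℕ) (T_e_n56_58 X) (T_e_n58_60 X) (Nat.ble (nat_lit 9255023) X)
noncomputable def T_e_n60_62 (X : ℕ) : ℕ := Bool.rec (motive := fun _ => ℕ) T_e_60 T_e_61 (Nat.ble (nat_lit 9452537) X)
noncomputable def T_e_n63_65 (X : ℕ) : ℕ := Bool.rec (motive := fun _ => ℕ) T_e_63 T_e_64 (Nat.ble (nat_lit 9649747) X)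
noncomputable def T_e_n62_65 (X : ℕ) : ℕ := Bool.rec (motive := fun _ => ℕ) T_e_62 (T_e_n63_65 X) (Nat.ble (nat_lit 9584063) X)
noncomputable def T_e_n60_65 (X : ℕ) : ℕ := Bool.rec (motive := fun _ => ℕ) (T_e_n60_62 X) (T_e_n62_65 X) (Nat.ble (nat_lit 9518723) X)
noncomputable def T_e_n56_65 (X : ℕ) : ℕ := Bool.rec (motive := fun _ => ℕ) (T_e_n56_60 X) (T_e_n60_65 X) (Nat.ble (nat_lit 9386471) X)
noncomputable def T_e_n65_67 (X : ℕ) : ℕ := Bool.rec (motive := fun _ => ℕ) T_e_65 T_e_66 (Nat.ble (nat_lit 9782029) X)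
noncomputable def T_e_n68_70 (X : ℕ) : ℕ := Bool.rec (motive := fun _ => ℕ) T_e_68 T_e_69 (Nat.ble (nat_lit 9980857) X)
noncomputable def T_e_n67_70 (X : ℕ) : ℕ := Bool.rec (motive := fun _ => ℕ) T_e_67 (T_e_n68_70 X) (Nat.ble (nat_lit 9914617) X)
noncomputable def T_e_n65_70 (X : ℕ) : ℕ := Bool.rec (motive := fun _ => ℕ) (T_e_n65_67 X) (T_e_n67_70 X) (Nat.ble (nat_lit 9847967) X)
noncomputable def T_e_n70_72 (X : ℕ) : ℕ := Bool.rec (motive := fun _ => ℕ) T_e_70 T_e_71 (Nat.ble (nat_lit 10112897) X)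
noncomputable def T_e_n73_75 (X : ℕ) : ℕ := Bool.rec (motive := fun _ => ℕ) T_e_73 T_e_74 (Nat.ble (nat_lit 10311997) X)
noncomputable def T_e_n72_75 (X : ℕ) : ℕ := Bool.rec (motive := fun _ => ℕ) T_e_72 (T_e_n73_75 X) (Nat.ble (nat_lit 10245751) X)
noncomputable def T_e_n70_75 (X : ℕ) : ℕ := Bool.rec (motive := fun _ => ℕ) (T_e_n70_72 X) (T_e_n72_75 X) (Nat.ble (nat_lit 10179161) X)
noncomputable def T_e_n65_75 (X : ℕ) : ℕ := Bool.rec (motive := fun _ => ℕ) (T_e_n65_70 X) (T_e_n70_75 X) (Nat.ble (nat_lit 10046903) X)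
noncomputable def T_e_n56_75 (X : ℕ) : ℕ := Bool.rec (motive := fun _ => ℕ) (T_e_n56_65 X) (T_e_n65_75 X) (Nat.ble (nat_lit 9715969) X)
noncomputable def T_e_n37_75 (X : ℕ) : ℕ := Bool.rec (motive := fun _ => ℕ) (T_e_n37_56 X) (T_e_n56_75 X) (Nat.ble (nat_lit 9124417) X)
noncomputable def T_e_sel (X : ℕ) : ℕ := Bool.rec (motive := fun _ => ℕ) (T_e_n0_37 X) (T_e_n37_75 X) (Nat.ble (nat_lit 7881739) X)
noncomputable def F_e (q : ℕ) : ℕ := Nat.add (nat_lit 5500000) (Nat.mod (T_e_sel q) q)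
noncomputable def U_e_n0_2 (X : ℕ) : ℕ := Bool.rec (motive := fun _ => ℕ) U_e_0 U_e_1 (Nat.ble (nat_lit 5564497) X)
noncomputable def U_e_n2_4 (X : ℕ) : ℕ := Bool.rec (motive := fun _ => ℕ) U_e_2 U_e_3 (Nat.ble (nat_lit 5692157) X)
noncomputable def U_e_n0_4 (X : ℕ) : ℕ := Bool.rec (motive := fun _ => ℕ) (U_e_n0_2 X) (U_e_n2_4 X) (Nat.ble (nat_lit 5628131) X)
noncomputable def U_e_n4_6 (X : ℕ) : ℕ := Bool.rec (motive := fun _ => ℕ) U_e_4 U_e_5 (Nat.ble (nat_lit 5820037) X)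
noncomputable def U_e_n7_9 (X : ℕ) : ℕ := Bool.rec (motive := fun _ => ℕ) U_e_7 U_e_8 (Nat.ble (nat_lit 6010867) X)
noncomputable def U_e_n6_9 (X : ℕ) : ℕ := Bool.rec (motive := fun _ => ℕ) U_e_6 (U_e_n7_9 X) (Nat.ble (nat_lit 5946749) X)
noncomputable def U_e_n4_9 (X : ℕ) : ℕ := Bool.rec (motive := fun _ => ℕ) (U_e_n4_6 X) (U_e_n6_9 X) (Nat.ble (nat_lit 5883737) X)
noncomputable def U_e_n0_9 (X : ℕ) : ℕ := Bool.rec (motive := fun _ => ℕ) (U_e_n0_4 X) (U_e_n4_9 X) (Nat.ble (nat_lit 5755531) X)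
noncomputable def U_e_n9_11 (X : ℕ) : ℕ := Bool.rec (motive := fun _ => ℕ) U_e_9 U_e_10 (Nat.ble (nat_lit 6139249) X)
noncomputable def U_e_n11_13 (X : ℕ) : ℕ := Bool.rec (motive := fun _ => ℕ) U_e_11 U_e_12 (Nat.ble (nat_lit 6267619) X)
noncomputable def U_e_n9_13 (X : ℕ) : ℕ := Bool.rec (motive := fun _ => ℕ) (U_e_n9_11 X) (U_e_n11_13 X) (Nat.ble (nat_lit 6203143) X)
noncomputable def U_e_n13_15 (X : ℕ) : ℕ := Bool.rec (motive := fun _ => ℕ) U_e_13 U_e_14 (Nat.ble (nat_lit 6395947) X)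
noncomputable def U_e_n16_18 (X : ℕ) : ℕ := Bool.rec (motive := fun _ => ℕ) U_e_16 U_e_17 (Nat.ble (nat_lit 6588443) X)
noncomputable def U_e_n15_18 (X : ℕ) : ℕ := Bool.rec (motive := fun _ => ℕ) U_e_15 (U_e_n16_18 X) (Nat.ble (nat_lit 6524611) X)
noncomputable def U_e_n13_18 (X : ℕ) : ℕ := Bool.rec (motive := fun _ => ℕ) (U_e_n13_15 X) (U_e_n15_18 X) (Nat.ble (nat_lit 6460379) X)
noncomputable def U_e_n9_18 (X : ℕ) : ℕ := Bool.rec (motive := fun _ => ℕ) (U_e_n9_13 X) (U_e_n13_18 X) (Nat.ble (nat_lit 6330559) X)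
noncomputable def U_e_n0_18 (X : ℕ) : ℕ := Bool.rec (motive := fun _ => ℕ) (U_e_n0_9 X) (U_e_n9_18 X) (Nat.ble (nat_lit 6075263) X)
noncomputable def U_e_n18_20 (X : ℕ) : ℕ := Bool.rec (motive := fun _ => ℕ) U_e_18 U_e_19 (Nat.ble (nat_lit 6717307) X)
noncomputable def U_e_n20_22 (X : ℕ) : ℕ := Bool.rec (motive := fun _ => ℕ) U_e_20 U_e_21 (Nat.ble (nat_lit 6846031) X)
noncomputable def U_e_n18_22 (X : ℕ) : ℕ := Bool.rec (motive := fun _ => ℕ) (U_e_n18_20 X) (U_e_n20_22 X) (Nat.ble (nat_lit 6781547) X)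
noncomputable def U_e_n22_24 (X : ℕ) : ℕ := Bool.rec (motive := fun _ => ℕ) U_e_22 U_e_23 (Nat.ble (nat_lit 6974053) X)
noncomputable def U_e_n25_27 (X : ℕ) : ℕ := Bool.rec (motive := fun _ => ℕ) U_e_25 U_e_26 (Nat.ble (nat_lit 7167791) X)
noncomputable def U_e_n24_27 (X : ℕ) : ℕ := Bool.rec (motive := fun _ => ℕ) U_e_24 (U_e_n25_27 X) (Nat.ble (nat_lit 7102643) X)
noncomputable def U_e_n22_27 (X : ℕ) : ℕ := Bool.rec (motive := fun _ => ℕ) (U_e_n22_24 X) (U_e_n24_27 X) (Nat.ble (nat_lit 7038397) X)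
noncomputable def U_e_n18_27 (X : ℕ) : ℕ := Bool.rec (motive := fun _ => ℕ) (U_e_n18_22 X) (U_e_n22_27 X) (Nat.ble (nat_lit 6909907) X)
noncomputable def U_e_n27_29 (X : ℕ) : ℕ := Bool.rec (motive := fun _ => ℕ) U_e_27 U_e_28 (Nat.ble (nat_lit 7296983) X)
noncomputable def U_e_n30_32 (X : ℕ) : ℕ := Bool.rec (motive := fun _ => ℕ) U_e_30 U_e_31 (Nat.ble (nat_lit 7492031) X)
noncomputable def U_e_n29_32 (X : ℕ) : ℕ := Bool.rec (motive := fun _ => ℕ) U_e_29 (U_e_n30_32 X) (Nat.ble (nat_lit 7427041) X)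
noncomputable def U_e_n27_32 (X : ℕ) : ℕ := Bool.rec (motive := fun _ => ℕ) (U_e_n27_29 X) (U_e_n29_32 X) (Nat.ble (nat_lit 7362133) X)
noncomputable def U_e_n32_34 (X : ℕ) : ℕ := Bool.rec (motive := fun _ => ℕ) U_e_32 U_e_33 (Nat.ble (nat_lit 7622317) X)
noncomputable def U_e_n35_37 (X : ℕ) : ℕ := Bool.rec (motive := fun _ => ℕ) U_e_35 U_e_36 (Nat.ble (nat_lit 7817143) X)
noncomputable def U_e_n34_37 (X : ℕ) : ℕ := Bool.rec (motive := fun _ => ℕ) U_e_34 (U_e_n35_37 X) (Nat.ble (nat_lit 7752179) X)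
noncomputable def U_e_n32_37 (X : ℕ) : ℕ := Bool.rec (motive := fun _ => ℕ) (U_e_n32_34 X) (U_e_n34_37 X) (Nat.ble (nat_lit 7686893) X)
noncomputable def U_e_n27_37 (X : ℕ) : ℕ := Bool.rec (motive := fun _ => ℕ) (U_e_n27_32 X) (U_e_n32_37 X) (Nat.ble (nat_lit 7557091) X)
noncomputable def U_e_n18_37 (X : ℕ) : ℕ := Bool.rec (motive := fun _ => ℕ) (U_e_n18_27 X) (U_e_n27_37 X) (Nat.ble (nat_lit 7232899) X)
noncomputable def U_e_n0_37 (X : ℕ) : ℕ := Bool.rec (motive := fun _ => ℕ) (U_e_n0_18 X) (U_e_n18_37 X) (Nat.ble (nat_lit 6652979) X)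
noncomputable def U_e_n37_39 (X : ℕ) : ℕ := Bool.rec (motive := fun _ => ℕ) U_e_37 U_e_38 (Nat.ble (nat_lit 7946711) X)
noncomputable def U_e_n39_41 (X : ℕ) : ℕ := Bool.rec (motive := fun _ => ℕ) U_e_39 U_e_40 (Nat.ble (nat_lit 8077529) X)
noncomputable def U_e_n37_41 (X : ℕ) : ℕ := Bool.rec (motive := fun _ => ℕ) (U_e_n37_39 X) (U_e_n39_41 X) (Nat.ble (nat_lit 8012209) X)
noncomputable def U_e_n41_43 (X : ℕ) : ℕ := Bool.rec (motive := fun _ => ℕ) U_e_41 U_e_42 (Nat.ble (nat_lit 8208023) X)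
noncomputable def U_e_n44_46 (X : ℕ) : ℕ := Bool.rec (motive := fun _ => ℕ) U_e_44 U_e_45 (Nat.ble (nat_lit 8403817) X)
noncomputable def U_e_n43_46 (X : ℕ) : ℕ := Bool.rec (motive := fun _ => ℕ) U_e_43 (U_e_n44_46 X) (Nat.ble (nat_lit 8338643) X)
noncomputable def U_e_n41_46 (X : ℕ) : ℕ := Bool.rec (motive := fun _ => ℕ) (U_e_n41_43 X) (U_e_n43_46 X) (Nat.ble (nat_lit 8273477) X)
noncomputable def U_e_n37_46 (X : ℕ) : ℕ := Bool.rec (motive := fun _ => ℕ) (U_e_n37_41 X) (U_e_n41_46 X) (Nat.ble (nat_lit 8143277) X)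
noncomputable def U_e_n46_48 (X : ℕ) : ℕ := Bool.rec (motive := fun _ => ℕ) U_e_46 U_e_47 (Nat.ble (nat_lit 8534429) X)
noncomputable def U_e_n49_51 (X : ℕ) : ℕ := Bool.rec (motive := fun _ => ℕ) U_e_49 U_e_50 (Nat.ble (nat_lit 8729821) X)
noncomputable def U_e_n48_51 (X : ℕ) : ℕ := Bool.rec (motive := fun _ => ℕ) U_e_48 (U_e_n49_51 X) (Nat.ble (nat_lit 8664559) X)
noncomputable def U_e_n46_51 (X : ℕ) : ℕ := Bool.rec (motive := fun _ => ℕ) (U_e_n46_48 X) (U_e_n48_51 X) (Nat.ble (nat_lit 8599469) X)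
noncomputable def U_e_n51_53 (X : ℕ) : ℕ := Bool.rec (motive := fun _ => ℕ) U_e_51 U_e_52 (Nat.ble (nat_lit 8861159) X)
noncomputable def U_e_n54_56 (X : ℕ) : ℕ := Bool.rec (motive := fun _ => ℕ) U_e_54 U_e_55 (Nat.ble (nat_lit 9058837) X)
noncomputable def U_e_n53_56 (X : ℕ) : ℕ := Bool.rec (motive := fun _ => ℕ) U_e_53 (U_e_n54_56 X) (Nat.ble (nat_lit 8992199) X)
noncomputable def U_e_n51_56 (X : ℕ) : ℕ := Bool.rec (motive := fun _ => ℕ) (U_e_n51_53 X) (U_e_n53_56 X) (Nat.ble (nat_lit 8926363) X)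
noncomputable def U_e_n46_56 (X : ℕ) : ℕ := Bool.rec (motive := fun _ => ℕ) (U_e_n46_51 X) (U_e_n51_56 X) (Nat.ble (nat_lit 8795047) X)
noncomputable def U_e_n37_56 (X : ℕ) : ℕ := Bool.rec (motive := fun _ => ℕ) (U_e_n37_46 X) (U_e_n46_56 X) (Nat.ble (nat_lit 8469977) X)
noncomputable def U_e_n56_58 (X : ℕ) : ℕ := Bool.rec (motive := fun _ => ℕ) U_e_56 U_e_57 (Nat.ble (nat_lit 9189703) X)
noncomputable def U_e_n58_60 (X : ℕ) : ℕ := Bool.rec (motive := fun _ => ℕ) U_e_58 U_e_59 (Nat.ble (nat_lit 9320833) X)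
noncomputable def U_e_n56_60 (X : ℕ) : ℕ := Bool.rec (motive := fun _ => ℕ) (U_e_n56_58 X) (U_e_n58_60 X) (Nat.ble (nat_lit 9255023) X)
noncomputable def U_e_n60_62 (X : ℕ) : ℕ := Bool.rec (motive := fun _ => ℕ) U_e_60 U_e_61 (Nat.ble (nat_lit 9452537) X)
noncomputable def U_e_n63_65 (X : ℕ) : ℕ := Bool.rec (motive := fun _ => ℕ) U_e_63 U_e_64 (Nat.ble (nat_lit 9649747) X)
noncomputable def U_e_n62_65 (X : ℕ) : ℕ := Bool.rec (motive := fun _ => ℕ) U_e_62 (U_e_n63_65 X) (Nat.ble (nat_lit 9584063) X)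
noncomputable def U_e_n60_65 (X : ℕ) : ℕ := Bool.rec (motive := fun _ => ℕ) (U_e_n60_62 X) (U_e_n62_65 X) (Nat.ble (nat_lit 9518723) X)
noncomputable def U_e_n56_65 (X : ℕ) : ℕ := Bool.rec (motive := fun _ => ℕ) (U_e_n56_60 X) (U_e_n60_65 X) (Nat.ble (nat_lit 9386471) X)
noncomputable def U_e_n65_67 (X : ℕ) : ℕ := Bool.rec (motive := fun _ => ℕ) U_e_65 U_e_66 (Nat.ble (nat_lit 9782029) X)
noncomputable def U_e_n68_70 (X : ℕ) : ℕ := Bool.rec (motive := fun _ => ℕ) U_e_68 U_e_69 (Nat.ble (nat_lit 9980857) X)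
noncomputable def U_e_n67_70 (X : ℕ) : ℕ := Bool.rec (motive := fun _ => ℕ) U_e_67 (U_e_n68_70 X) (Nat.ble (nat_lit 9914617) X)
noncomputable def U_e_n65_70 (X : ℕ) : ℕ := Bool.rec (motive := fun _ => ℕ) (U_e_n65_67 X) (U_e_n67_70 X) (Nat.ble (nat_lit 9847967) X)
noncomputable def U_e_n70_72 (X : ℕ) : ℕ := Bool.rec (motive := fun _ => ℕ) U_e_70 U_e_71 (Nat.ble (nat_lit 10112897) X)
noncomputable def U_e_n73_75 (X : ℕ) : ℕ := Bool.rec (motive := fun _ => ℕ) U_e_73 U_e_74 (Nat.ble (nat_lit 10311997) X)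
noncomputable def U_e_n72_75 (X : ℕ) : ℕ := Bool.rec (motive := fun _ => ℕ) U_e_72 (U_e_n73_75 X) (Nat.ble (nat_lit 10245751) X)
noncomputable def U_e_n70_75 (X : ℕ) : ℕ := Bool.rec (motive := fun _ => ℕ) (U_e_n70_72 X) (U_e_n72_75 X) (Nat.ble (nat_lit 10179161) X)
noncomputable def U_e_n65_75 (X : ℕ) : ℕ := Bool.rec (motive := fun _ => ℕ) (U_e_n65_70 X) (U_e_n70_75 X) (Nat.ble (nat_lit 10046903) X)
noncomputable def U_e_n56_75 (X : ℕ) : ℕ := Bool.rec (motive := fun _ => ℕ) (U_e_n56_65 X) (U_e_n65_75 X) (Nat.ble (nat_lit 9715969) X)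
noncomputable def U_e_n37_75 (X : ℕ) : ℕ := Bool.rec (motive := fun _ => ℕ) (U_e_n37_56 X) (U_e_n56_75 X) (Nat.ble (nat_lit 9124417) X)
noncomputable def U_e_sel (X : ℕ) : ℕ := Bool.rec (motive := fun _ => ℕ) (U_e_n0_37 X) (U_e_n37_75 X) (Nat.ble (nat_lit 7881739) X)
noncomputable def UU_e (q : ℕ) : ℕ := (Nat.mod (U_e_sel q) q)
noncomputable def V_e_n0_2 (X : ℕ) : ℕ := Bool.rec (motive := fun _ => ℕ) V_e_0 V_e_1 (Nat.ble (nat_lit 5564497) X)
noncomputable def V_e_n2_4 (X : ℕ) : ℕ := Bool.rec (motive := fun _ => ℕ) V_e_2 V_e_3 (Nat.ble (nat_lit 5692157) X)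
noncomputable def V_e_n0_4 (X : ℕ) : ℕ := Bool.rec (motive := fun _ => ℕ) (V_e_n0_2 X) (V_e_n2_4 X) (Nat.ble (nat_lit 5628131) X)
noncomputable def V_e_n4_6 (X : ℕ) : ℕ := Bool.rec (motive := fun _ => ℕ) V_e_4 V_e_5 (Nat.ble (nat_lit 5820037) X)
noncomputable def V_e_n7_9 (X : ℕ) : ℕ := Bool.rec (motive := fun _ => ℕ) V_e_7 V_e_8 (Nat.ble (nat_lit 6010867) X)
noncomputable def V_e_n6_9 (X : ℕ) : ℕ := Bool.rec (motive := fun _ => ℕ) V_e_6 (V_e_n7_9 X) (Nat.ble (nat_lit 5946749) X)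
noncomputable def V_e_n4_9 (X : ℕ) : ℕ := Bool.rec (motive := fun _ => ℕ) (V_e_n4_6 X) (V_e_n6_9 X) (Nat.ble (nat_lit 5883737) X)
noncomputable def V_e_n0_9 (X : ℕ) : ℕ := Bool.rec (motive := fun _ => ℕ) (V_e_n0_4 X) (V_e_n4_9 X) (Nat.ble (nat_lit 5755531) X)
noncomputable def V_e_n9_11 (X : ℕ) : ℕ := Bool.rec (motive := fun _ => ℕ) V_e_9 V_e_10 (Nat.ble (nat_lit 6139249) X)
noncomputable def V_e_n11_13 (X : ℕ) : ℕ := Bool.rec (motive := fun _ => ℕ) V_e_11 V_e_12 (Nat.ble (nat_lit 6267619) X)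
noncomputable def V_e_n9_13 (X : ℕ) : ℕ := Bool.rec (motive := fun _ => ℕ) (V_e_n9_11 X) (V_e_n11_13 X) (Nat.ble (nat_lit 6203143) X)
noncomputable def V_e_n13_15 (X : ℕ) : ℕ := Bool.rec (motive := fun _ => ℕ) V_e_13 V_e_14 (Nat.ble (nat_lit 6395947) X)
noncomputable def V_e_n16_18 (X : ℕ) : ℕ := Bool.rec (motive := fun _ => ℕ) V_e_16 V_e_17 (Nat.ble (nat_lit 6588443) X)
noncomputable def V_e_n15_18 (X : ℕ) : ℕ := Bool.rec (motive := fun _ => ℕ) V_e_15 (V_e_n16_18 X) (Nat.ble (nat_lit 6524611) X)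
noncomputable def V_e_n13_18 (X : ℕ) : ℕ := Bool.rec (motive := fun _ => ℕ) (V_e_n13_15 X) (V_e_n15_18 X) (Nat.ble (nat_lit 6460379) X)
noncomputable def V_e_n9_18 (X : ℕ) : ℕ := Bool.rec (motive := fun _ => ℕ) (V_e_n9_13 X) (V_e_n13_18 X) (Nat.ble (nat_lit 6330559) X)
noncomputable def V_e_n0_18 (X : ℕ) : ℕ := Bool.rec (motive := fun _ => ℕ) (V_e_n0_9 X) (V_e_n9_18 X) (Nat.ble (nat_lit 6075263) X)
noncomputable def V_e_n18_20 (X : ℕ) : ℕ := Bool.rec (motive := fun _ => ℕ) V_e_18 V_e_19 (Nat.ble (nat_lit 6717307) X)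
noncomputable def V_e_n20_22 (X : ℕ) : ℕ := Bool.rec (motive := fun _ => ℕ) V_e_20 V_e_21 (Nat.ble (nat_lit 6846031) X)
noncomputable def V_e_n18_22 (X : ℕ) : ℕ := Bool.rec (motive := fun _ => ℕ) (V_e_n18_20 X) (V_e_n20_22 X) (Nat.ble (nat_lit 6781547) X)
noncomputable def V_e_n22_24 (X : ℕ) : ℕ := Bool.rec (motive := fun _ => ℕ) V_e_22 V_e_23 (Nat.ble (nat_lit 6974053) X)
noncomputable def V_e_n25_27 (X : ℕ) : ℕ := Bool.rec (motive := fun _ => ℕ) V_e_25 V_e_26 (Nat.ble (nat_lit 7167791) X)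
noncomputable def V_e_n24_27 (X : ℕ) : ℕ := Bool.rec (motive := fun _ => ℕ) V_e_24 (V_e_n25_27 X) (Nat.ble (nat_lit 7102643) X)
noncomputable def V_e_n22_27 (X : ℕ) : ℕ := Bool.rec (motive := fun _ => ℕ) (V_e_n22_24 X) (V_e_n24_27 X) (Nat.ble (nat_lit 7038397) X)
noncomputable def V_e_n18_27 (X : ℕ) : ℕ := Bool.rec (motive := fun _ => ℕ) (V_e_n18_22 X) (V_e_n22_27 X) (Nat.ble (nat_lit 6909907) X)
noncomputable def V_e_n27_29 (X : ℕ) : ℕ := Bool.rec (motive := fun _ => ℕ) V_e_27 V_e_28 (Nat.ble (nat_lit 7296983) X)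
noncomputable def V_e_n30_32 (X : ℕ) : ℕ := Bool.rec (motive := fun _ => ℕ) V_e_30 V_e_31 (Nat.ble (nat_lit 7492031) X)
noncomputable def V_e_n29_32 (X : ℕ) : ℕ := Bool.rec (motive := fun _ => ℕ) V_e_29 (V_e_n30_32 X) (Nat.ble (nat_lit 7427041) X)
noncomputable def V_e_n27_32 (X : ℕ) : ℕ := Bool.rec (motive := fun _ => ℕ) (V_e_n27_29 X) (V_e_n29_32 X) (Nat.ble (nat_lit 7362133) X)
noncomputable def V_e_n32_34 (X : ℕ) : ℕ := Bool.rec (motive := fun _ => ℕ) V_e_32 V_e_33 (Nat.ble (nat_lit 7622317) X)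
noncomputable def V_e_n35_37 (X : ℕ) : ℕ := Bool.rec (motive := fun _ => ℕ) V_e_35 V_e_36 (Nat.ble (nat_lit 7817143) X)
noncomputable def V_e_n34_37 (X : ℕ) : ℕ := Bool.rec (motive := fun _ => ℕ) V_e_34 (V_e_n35_37 X) (Nat.ble (nat_lit 7752179) X)
noncomputable def V_e_n32_37 (X : ℕ) : ℕ := Bool.rec (motive := fun _ => ℕ) (V_e_n32_34 X) (V_e_n34_37 X) (Nat.ble (nat_lit 7686893) X)
noncomputable def V_e_n27_37 (X : ℕ) : ℕ := Bool.rec (motive := fun _ => ℕ) (V_e_n27_32 X) (V_e_n32_37 X) (Nat.ble (nat_lit 7557091) X)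
noncomputable def V_e_n18_37 (X : ℕ) : ℕ := Bool.rec (motive := fun _ => ℕ) (V_e_n18_27 X) (V_e_n27_37 X) (Nat.ble (nat_lit 7232899) X)
noncomputable def V_e_n0_37 (X : ℕ) : ℕ := Bool.rec (motive := fun _ => ℕ) (V_e_n0_18 X) (V_e_n18_37 X) (Nat.ble (nat_lit 6652979) X)
noncomputable def V_e_n37_39 (X : ℕ) : ℕ := Bool.rec (motive := fun _ => ℕ) V_e_37 V_e_38 (Nat.ble (nat_lit 7946711) X)
noncomputable def V_e_n39_41 (X : ℕ) : ℕ := Bool.rec (motive := fun _ => ℕ) V_e_39 V_e_40 (Nat.ble (nat_lit 8077529) X)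
noncomputable def V_e_n37_41 (X : ℕ) : ℕ := Bool.rec (motive := fun _ => ℕ) (V_e_n37_39 X) (V_e_n39_41 X) (Nat.ble (nat_lit 8012209) X)
noncomputable def V_e_n41_43 (X : ℕ) : ℕ := Bool.rec (motive := fun _ => ℕ) V_e_41 V_e_42 (Nat.ble (nat_lit 8208023) X)
noncomputable def V_e_n44_46 (X : ℕ) : ℕ := Bool.rec (motive := fun _ => ℕ) V_e_44 V_e_45 (Nat.ble (nat_lit 8403817) X)
noncomputable def V_e_n43_46 (X : ℕ) : ℕ := Bool.rec (motive := fun _ => ℕ) V_e_43 (V_e_n44_46 X) (Nat.ble (nat_lit 8338643) X)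
noncomputable def V_e_n41_46 (X : ℕ) : ℕ := Bool.rec (motive := fun _ => ℕ) (V_e_n41_43 X) (V_e_n43_46 X) (Nat.ble (nat_lit 8273477) X)
noncomputable def V_e_n37_46 (X : ℕ) : ℕ := Bool.rec (motive := fun _ => ℕ) (V_e_n37_41 X) (V_e_n41_46 X) (Nat.ble (nat_lit 8143277) X)
noncomputable def V_e_n46_48 (X : ℕ) : ℕ := Bool.rec (motive := fun _ => ℕ) V_e_46 V_e_47 (Nat.ble (nat_lit 8534429) X)
noncomputable def V_e_n49_51 (X : ℕ) : ℕ := Bool.rec (motive := fun _ => ℕ) V_e_49 V_e_50 (Nat.ble (nat_lit 8729821) X)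
noncomputable def V_e_n48_51 (X : ℕ) : ℕ := Bool.rec (motive := fun _ => ℕ) V_e_48 (V_e_n49_51 X) (Nat.ble (nat_lit 8664559) X)
noncomputable def V_e_n46_51 (X : ℕ) : ℕ := Bool.rec (motive := fun _ => ℕ) (V_e_n46_48 X) (V_e_n48_51 X) (Nat.ble (nat_lit 8599469) X)
noncomputable def V_e_n51_53 (X : ℕ) : ℕ := Bool.rec (motive := fun _ => ℕ) V_e_51 V_e_52 (Nat.ble (nat_lit 8861159) X)
noncomputable def V_e_n54_56 (X : ℕ) : ℕ := Bool.rec (motive := fun _ => ℕ) V_e_54 V_e_55 (Nat.ble (nat_lit 9058837) X)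
noncomputable def V_e_n53_56 (X : ℕ) : ℕ := Bool.rec (motive := fun _ => ℕ) V_e_53 (V_e_n54_56 X) (Nat.ble (nat_lit 8992199) X)
noncomputable def V_e_n51_56 (X : ℕ) : ℕ := Bool.rec (motive := fun _ => ℕ) (V_e_n51_53 X) (V_e_n53_56 X) (Nat.ble (nat_lit 8926363) X)
noncomputable def V_e_n46_56 (X : ℕ) : ℕ := Bool.rec (motive := fun _ => ℕ) (V_e_n46_51 X) (V_e_n51_56 X) (Nat.ble (nat_lit 8795047) X)
noncomputable def V_e_n37_56 (X : ℕ) : ℕ := Bool.rec (motive := fun _ => ℕ) (V_e_n37_46 X) (V_e_n46_56 X) (Nat.ble (nat_lit 8469977) X)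
noncomputable def V_e_n56_58 (X : ℕ) : ℕ := Bool.rec (motive := fun _ => ℕ) V_e_56 V_e_57 (Nat.ble (nat_lit 9189703) X)
noncomputable def V_e_n58_60 (X : ℕ) : ℕ := Bool.rec (motive := fun _ => ℕ) V_e_58 V_e_59 (Nat.ble (nat_lit 9320833) X)
noncomputable def V_e_n56_60 (X : ℕ) : ℕ := Bool.rec (motive := fun _ => ℕ) (V_e_n56_58 X) (V_e_n58_60 X) (Nat.ble (nat_lit 9255023) X)
noncomputable def V_e_n60_62 (X : ℕ) : ℕ := Bool.rec (motive := fun _ => ℕ) V_e_60 V_e_61 (Nat.ble (nat_lit 9452537) X)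
noncomputable def V_e_n63_65 (X : ℕ) : ℕ := Bool.rec (motive := fun _ => ℕ) V_e_63 V_e_64 (Nat.ble (nat_lit 9649747) X)
noncomputable def V_e_n62_65 (X : ℕ) : ℕ := Bool.rec (motive := fun _ => ℕ) V_e_62 (V_e_n63_65 X) (Nat.ble (nat_lit 9584063) X)
noncomputable def V_e_n60_65 (X : ℕ) : ℕ := Bool.rec (motive := fun _ => ℕ) (V_e_n60_62 X) (V_e_n62_65 X) (Nat.ble (nat_lit 9518723) X)
noncomputable def V_e_n56_65 (X : ℕ) : ℕ := Bool.rec (motive := fun _ => ℕ) (V_e_n56_60 X) (V_e_n60_65 X) (Nat.ble (nat_lit 9386471) X)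
noncomputable def V_e_n65_67 (X : ℕ) : ℕ := Bool.rec (motive := fun _ => ℕ) V_e_65 V_e_66 (Nat.ble (nat_lit 9782029) X)
noncomputable def V_e_n68_70 (X : ℕ) : ℕ := Bool.rec (motive := fun _ => ℕ) V_e_68 V_e_69 (Nat.ble (nat_lit 9980857) X)
noncomputable def V_e_n67_70 (X : ℕ) : ℕ := Bool.rec (motive := fun _ => ℕ) V_e_67 (V_e_n68_70 X) (Nat.ble (nat_lit 9914617) X)
noncomputable def V_e_n65_70 (X : ℕ) : ℕ := Bool.rec (motive := fun _ => ℕ) (V_e_n65_67 X) (V_e_n67_70 X) (Nat.ble (nat_lit 9847967) X)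
noncomputable def V_e_n70_72 (X : ℕ) : ℕ := Bool.rec (motive := fun _ => ℕ) V_e_70 V_e_71 (Nat.ble (nat_lit 10112897) X)
noncomputable def V_e_n73_75 (X : ℕ) : ℕ := Bool.rec (motive := fun _ => ℕ) V_e_73 V_e_74 (Nat.ble (nat_lit 10311997) X)
noncomputable def V_e_n72_75 (X : ℕ) : ℕ := Bool.rec (motive := fun _ => ℕ) V_e_72 (V_e_n73_75 X) (Nat.ble (nat_lit 10245751) X)
noncomputable def V_e_n70_75 (X : ℕ) : ℕ := Bool.rec (motive := fun _ => ℕ) (V_e_n70_72 X) (V_e_n72_75 X) (Nat.ble (nat_lit 10179161) X)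
noncomputable def V_e_n65_75 (X : ℕ) : ℕ := Bool.rec (motive := fun _ => ℕ) (V_e_n65_70 X) (V_e_n70_75 X) (Nat.ble (nat_lit 10046903) X)
noncomputable def V_e_n56_75 (X : ℕ) : ℕ := Bool.rec (motive := fun _ => ℕ) (V_e_n56_65 X) (V_e_n65_75 X) (Nat.ble (nat_lit 9715969) X)
noncomputable def V_e_n37_75 (X : ℕ) : ℕ := Bool.rec (motive := fun _ => ℕ) (V_e_n37_56 X) (V_e_n56_75 X) (Nat.ble (nat_lit 9124417) X)
noncomputable def V_e_sel (X : ℕ) : ℕ := Bool.rec (motive := fun _ => ℕ) (V_e_n0_37 X) (V_e_n37_75 X) (Nat.ble (nat_lit 7881739) X)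
noncomputable def VV_e (q : ℕ) : ℕ := (Nat.mod (V_e_sel q) q)
noncomputable def G_e (t q : ℕ) : ℕ := Bool.rec (motive := fun _ => ℕ) (nat_lit 0) (F_e q) (Nat.ble (Nat.succ (UU_e q)) t)
noncomputable def T_f_n0_2 (X : ℕ) : ℕ := Bool.rec (motive := fun _ => ℕ) T_f_0 T_f_1 (Nat.ble (nat_lit 5564497) X)
noncomputable def T_f_n2_4 (X : ℕ) : ℕ := Bool.rec (motive := fun _ => ℕ) T_f_2 T_f_3 (Nat.ble (nat_lit 5692157) X)
noncomputable def T_f_n0_4 (X : ℕ) : ℕ := Bool.rec (motive := fun _ => ℕ) (T_f_n0_2 X) (T_f_n2_4 X) (Nat.ble (nat_lit 5628131) X)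
noncomputable def T_f_n4_6 (X : ℕ) : ℕ := Bool.rec (motive := fun _ => ℕ) T_f_4 T_f_5 (Nat.ble (nat_lit 5820037) X)
noncomputable def T_f_n7_9 (X : ℕ) : ℕ := Bool.rec (motive := fun _ => ℕ) T_f_7 T_f_8 (Nat.ble (nat_lit 6010867) X)
noncomputable def T_f_n6_9 (X : ℕ) : ℕ := Bool.rec (motive := fun _ => ℕ) T_f_6 (T_f_n7_9 X) (Nat.ble (nat_lit 5946749) X)
noncomputable def T_f_n4_9 (X : ℕ) : ℕ := Bool.rec (motive := fun _ => ℕ) (T_f_n4_6 X) (T_f_n6_9 X) (Nat.ble (nat_lit 5883737) X)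
noncomputable def T_f_n0_9 (X : ℕ) : ℕ := Bool.rec (motive := fun _ => ℕ) (T_f_n0_4 X) (T_f_n4_9 X) (Nat.ble (nat_lit 5755531) X)
noncomputable def T_f_n9_11 (X : ℕ) : ℕ := Bool.rec (motive := fun _ => ℕ) T_f_9 T_f_10 (Nat.ble (nat_lit 6139249) X)
noncomputable def T_f_n11_13 (X : ℕ) : ℕ := Bool.rec (motive := fun _ => ℕ) T_f_11 T_f_12 (Nat.ble (nat_lit 6267619) X)
noncomputable def T_f_n9_13 (X : ℕ) : ℕ := Bool.rec (motive := fun _ => ℕ) (T_f_n9_11 X) (T_f_n11_13 X) (Nat.ble (nat_lit 6203143) X)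
noncomputable def T_f_n13_15 (X : ℕ) : ℕ := Bool.rec (motive := fun _ => ℕ) T_f_13 T_f_14 (Nat.ble (nat_lit 6395947) X)
noncomputable def T_f_n16_18 (X : ℕ) : ℕ := Bool.rec (motive := fun _ => ℕ) T_f_16 T_f_17 (Nat.ble (nat_lit 6588443) X)
noncomputable def T_f_n15_18 (X : ℕ) : ℕ := Bool.rec (motive := fun _ => ℕ) T_f_15 (T_f_n16_18 X) (Nat.ble (nat_lit 6524611) X)
noncomputable def T_f_n13_18 (X : ℕ) : ℕ := Bool.rec (motive := fun _ => ℕ) (T_f_n13_15 X) (T_f_n15_18 X) (Nat.ble (nat_lit 6460379) X)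
noncomputable def T_f_n9_18 (X : ℕ) : ℕ := Bool.rec (motive := fun _ => ℕ) (T_f_n9_13 X) (T_f_n13_18 X) (Nat.ble (nat_lit 6330559) X)
noncomputable def T_f_n0_18 (X : ℕ) : ℕ := Bool.rec (motive := fun _ => ℕ) (T_f_n0_9 X) (T_f_n9_18 X) (Nat.ble (nat_lit 6075263) X)
noncomputable def T_f_n18_20 (X : ℕ) : ℕ := Bool.rec (motive := fun _ => ℕ) T_f_18 T_f_19 (Nat.ble (nat_lit 6717307) X)
noncomputable def T_f_n20_22 (X : ℕ) : ℕ := Bool.rec (motive := fun _ => ℕ) T_f_20 T_f_21 (Nat.ble (nat_lit 6846031) X)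
noncomputable def T_f_n18_22 (X : ℕ) : ℕ := Bool.rec (motive := fun _ => ℕ) (T_f_n18_20 X) (T_f_n20_22 X) (Nat.ble (nat_lit 6781547) X)
noncomputable def T_f_n22_24 (X : ℕ) : ℕ := Bool.rec (motive := fun _ => ℕ) T_f_22 T_f_23 (Nat.ble (nat_lit 6974053) X)
noncomputable def T_f_n25_27 (X : ℕ) : ℕ := Bool.rec (motive := fun _ => ℕ) T_f_25 T_f_26 (Nat.ble (nat_lit 7167791) X)
noncomputable def T_f_n24_27 (X : ℕ) : ℕ := Bool.rec (motive := fun _ => ℕ) T_f_24 (T_f_n25_27 X) (Nat.ble (nat_lit 7102643) X)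
noncomputable def T_f_n22_27 (X : ℕ) : ℕ := Bool.rec (motive := fun _ => ℕ) (T_f_n22_24 X) (T_f_n24_27 X) (Nat.ble (nat_lit 7038397) X)
noncomputable def T_f_n18_27 (X : ℕ) : ℕ := Bool.rec (motive := fun _ => ℕ) (T_f_n18_22 X) (T_f_n22_27 X) (Nat.ble (nat_lit 6909907) X)
noncomputable def T_f_n27_29 (X : ℕ) : ℕ := Bool.rec (motive := fun _ => ℕ) T_f_27 T_f_28 (Nat.ble (nat_lit 7296983) X)
noncomputable def T_f_n30_32 (X : ℕ) : ℕ := Bool.rec (motive := fun _ => ℕ) T_f_30 T_f_31 (Nat.ble (nat_lit 7492031) X)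
noncomputable def T_f_n29_32 (X : ℕ) : ℕ := Bool.rec (motive := fun _ => ℕ) T_f_29 (T_f_n30_32 X) (Nat.ble (nat_lit 7427041) X)
noncomputable def T_f_n27_32 (X : ℕ) : ℕ := Bool.rec (motive := fun _ => ℕ) (T_f_n27_29 X) (T_f_n29_32 X) (Nat.ble (nat_lit 7362133) X)
noncomputable def T_f_n32_34 (X : ℕ) : ℕ := Bool.rec (motive := fun _ => ℕ) T_f_32 T_f_33 (Nat.ble (nat_lit 7622317) X)
noncomputable def T_f_n35_37 (X : ℕ) : ℕ := Bool.rec (motive := fun _ => ℕ) T_f_35 T_f_36 (Nat.ble (nat_lit 7817143) X)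
noncomputable def T_f_n34_37 (X : ℕ) : ℕ := Bool.rec (motive := fun _ => ℕ) T_f_34 (T_f_n35_37 X) (Nat.ble (nat_lit 7752179) X)
noncomputable def T_f_n32_37 (X : ℕ) : ℕ := Bool.rec (motive := fun _ => ℕ) (T_f_n32_34 X) (T_f_n34_37 X) (Nat.ble (nat_lit 7686893) X)
noncomputable def T_f_n27_37 (X : ℕ) : ℕ := Bool.rec (motive := fun _ => ℕ) (T_f_n27_32 X) (T_f_n32_37 X) (Nat.ble (nat_lit 7557091) X)
noncomputable def T_f_n18_37 (X : ℕ) : ℕ := Bool.rec (motive := fun _ => ℕ) (T_f_n18_27 X) (T_f_n27_37 X) (Nat.ble (nat_lit 7232899) X)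
noncomputable def T_f_n0_37 (X : ℕ) : ℕ := Bool.rec (motive := fun _ => ℕ) (T_f_n0_18 X) (T_f_n18_37 X) (Nat.ble (nat_lit 6652979) X)
noncomputable def T_f_n37_39 (X : ℕ) : ℕ := Bool.rec (motive := fun _ => ℕ) T_f_37 T_f_38 (Nat.ble (nat_lit 7946711) X)
noncomputable def T_f_n39_41 (X : ℕ) : ℕ := Bool.rec (motive := fun _ => ℕ) T_f_39 T_f_40 (Nat.ble (nat_lit 8077529) X)
noncomputable def T_f_n37_41 (X : ℕ) : ℕ := Bool.rec (motive := fun _ => ℕ) (T_f_n37_39 X) (T_f_n39_41 X) (Nat.ble (nat_lit 8012209) X)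
noncomputable def T_f_n41_43 (X : ℕ) : ℕ := Bool.rec (motive := fun _ => ℕ) T_f_41 T_f_42 (Nat.ble (nat_lit 8208023) X)
noncomputable def T_f_n44_46 (X : ℕ) : ℕ := Bool.rec (motive := fun _ => ℕ) T_f_44 T_f_45 (Nat.ble (nat_lit 8403817) X)
noncomputable def T_f_n43_46 (X : ℕ) : ℕ := Bool.rec (motive := fun _ => ℕ) T_f_43 (T_f_n44_46 X) (Nat.ble (nat_lit 8338643) X)
noncomputable def T_f_n41_46 (X : ℕ) : ℕ := Bool.rec (motive := fun _ => ℕ) (T_f_n41_43 X) (T_f_n43_46 X) (Nat.ble (nat_lit 8273477) X)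
noncomputable def T_f_n37_46 (X : ℕ) : ℕ := Bool.rec (motive := fun _ => ℕ) (T_f_n37_41 X) (T_f_n41_46 X) (Nat.ble (nat_lit 8143277) X)
noncomputable def T_f_n46_48 (X : ℕ) : ℕ := Bool.rec (motive := fun _ => ℕ) T_f_46 T_f_47 (Nat.ble (nat_lit 8534429) X)
noncomputable def T_f_n49_51 (X : ℕ) : ℕ := Bool.rec (motive := fun _ => ℕ) T_f_49 T_f_50 (Nat.ble (nat_lit 8729821) X)
noncomputable def T_f_n48_51 (X : ℕ) : ℕ := Bool.rec (motive := fun _ => ℕ) T_f_48 (T_f_n49_51 X) (Nat.ble (nat_lit 8664559) X)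
noncomputable def T_f_n46_51 (X : ℕ) : ℕ := Bool.rec (motive := fun _ => ℕ) (T_f_n46_48 X) (T_f_n48_51 X) (Nat.ble (nat_lit 8599469) X)
noncomputable def T_f_n51_53 (X : ℕ) : ℕ := Bool.rec (motive := fun _ => ℕ) T_f_51 T_f_52 (Nat.ble (nat_lit 8861159) X)
noncomputable def T_f_n54_56 (X : ℕ) : ℕ := Bool.rec (motive := fun _ => ℕ) T_f_54 T_f_55 (Nat.ble (nat_lit 9058837) X)
noncomputable def T_f_n53_56 (X : ℕ) : ℕ := Bool.rec (motive := fun _ => ℕ) T_f_53 (T_f_n54_56 X) (Nat.ble (nat_lit 8992199) X)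
noncomputable def T_f_n51_56 (X : ℕ) : ℕ := Bool.rec (motive := fun _ => ℕ) (T_f_n51_53 X) (T_f_n53_56 X) (Nat.ble (nat_lit 8926363) X)
noncomputable def T_f_n46_56 (X : ℕ) : ℕ := Bool.rec (motive := fun _ => ℕ) (T_f_n46_51 X) (T_f_n51_56 X) (Nat.ble (nat_lit 8795047) X)
noncomputable def T_f_n37_56 (X : ℕ) : ℕ := Bool.rec (motive := fun _ => ℕ) (T_f_n37_46 X) (T_f_n46_56 X) (Nat.ble (nat_lit 8469977) X)
noncomputable def T_f_n56_58 (X : ℕ) : ℕ := Bool.rec (motive := fun _ => ℕ) T_f_56 T_f_57 (Nat.ble (nat_lit 9189703) X)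
noncomputable def T_f_n58_60 (X : ℕ) : ℕ := Bool.rec (motive := fun _ => ℕ) T_f_58 T_f_59 (Nat.ble (nat_lit 9320833) X)
noncomputable def T_f_n56_60 (X : ℕ) : ℕ := Bool.rec (motive := fun _ => ℕ) (T_f_n56_58 X) (T_f_n58_60 X) (Nat.ble (nat_lit 9255023) X)
noncomputable def T_f_n60_62 (X : ℕ) : ℕ := Bool.rec (motive := fun _ => ℕ) T_f_60 T_f_61 (Nat.ble (nat_lit 9452537) X)
noncomputable def T_f_n63_65 (X : ℕ) : ℕ := Bool.rec (motive := fun _ => ℕ) T_f_63 T_f_64 (Nat.ble (nat_lit 9649747) X)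
noncomputable def T_f_n62_65 (X : ℕ) : ℕ := Bool.rec (motive := fun _ => ℕ) T_f_62 (T_f_n63_65 X) (Nat.ble (nat_lit 9584063) X)
noncomputable def T_f_n60_65 (X : ℕ) : ℕ := Bool.rec (motive := fun _ => ℕ) (T_f_n60_62 X) (T_f_n62_65 X) (Nat.ble (nat_lit 9518723) X)
noncomputable def T_f_n56_65 (X : ℕ) : ℕ := Bool.rec (motive := fun _ => ℕ) (T_f_n56_60 X) (T_f_n60_65 X) (Nat.ble (nat_lit 9386471) X)
noncomputable def T_f_n65_67 (X : ℕ) : ℕ := Bool.rec (motive := fun _ => ℕ) T_f_65 T_f_66 (Nat.ble (nat_lit 9782029) X)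
noncomputable def T_f_n68_70 (X : ℕ) : ℕ := Bool.rec (motive := fun _ => ℕ) T_f_68 T_f_69 (Nat.ble (nat_lit 9980857) X)
noncomputable def T_f_n67_70 (X : ℕ) : ℕ := Bool.rec (motive := fun _ => ℕ) T_f_67 (T_f_n68_70 X) (Nat.ble (nat_lit 9914617) X)
noncomputable def T_f_n65_70 (X : ℕ) : ℕ := Bool.rec (motive := fun _ => ℕ) (T_f_n65_67 X) (T_f_n67_70 X) (Nat.ble (nat_lit 9847967) X)
noncomputable def T_f_n70_72 (X : ℕ) : ℕ := Bool.rec (motive := fun _ => ℕ) T_f_70 T_f_71 (Nat.ble (nat_lit 10112897) X)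
noncomputable def T_f_n73_75 (X : ℕ) : ℕ := Bool.rec (motive := fun _ => ℕ) T_f_73 T_f_74 (Nat.ble (nat_lit 10311997) X)
noncomputable def T_f_n72_75 (X : ℕ) : ℕ := Bool.rec (motive := fun _ => ℕ) T_f_72 (T_f_n73_75 X) (Nat.ble (nat_lit 10245751) X)
noncomputable def T_f_n70_75 (X : ℕ) : ℕ := Bool.rec (motive := fun _ => ℕ) (T_f_n70_72 X) (T_f_n72_75 X) (Nat.ble (nat_lit 10179161) X)
noncomputable def T_f_n65_75 (X : ℕ) : ℕ := Bool.rec (motive := fun _ => ℕ) (T_f_n65_70 X) (T_f_n70_75 X) (Nat.ble (nat_lit 10046903) X)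
noncomputable def T_f_n56_75 (X : ℕ) : ℕ := Bool.rec (motive := fun _ => ℕ) (T_f_n56_65 X) (T_f_n65_75 X) (Nat.ble (nat_lit 9715969) X)
noncomputable def T_f_n37_75 (X : ℕ) : ℕ := Bool.rec (motive := fun _ => ℕ) (T_f_n37_56 X) (T_f_n56_75 X) (Nat.ble (nat_lit 9124417) X)
noncomputable def T_f_sel (X : ℕ) : ℕ := Bool.rec (motive := fun _ => ℕ) (T_f_n0_37 X) (T_f_n37_75 X) (Nat.ble (nat_lit 7881739) X)
noncomputable def F_f (q : ℕ) : ℕ := Nat.add (nat_lit 5500000) (Nat.mod (T_f_sel q) q)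
noncomputable def U_f_n0_2 (X : ℕ) : ℕ := Bool.rec (motive := fun _ => ℕ) U_f_0 U_f_1 (Nat.ble (nat_lit 5564497) X)
noncomputable def U_f_n2_4 (X : ℕ) : ℕ := Bool.rec (motive := fun _ => ℕ) U_f_2 U_f_3 (Nat.ble (nat_lit 5692157) X)
noncomputable def U_f_n0_4 (X : ℕ) : ℕ := Bool.rec (motive := fun _ => ℕ) (U_f_n0_2 X) (U_f_n2_4 X) (Nat.ble (nat_lit 5628131) X)
noncomputable def U_f_n4_6 (X : ℕ) : ℕ := Bool.rec (motive := fun _ => ℕ) U_f_4 U_f_5 (Nat.ble (nat_lit 5820037) X)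
noncomputable def U_f_n7_9 (X : ℕ) : ℕ := Bool.rec (motive := fun _ => ℕ) U_f_7 U_f_8 (Nat.ble (nat_lit 6010867) X)
noncomputable def U_f_n6_9 (X : ℕ) : ℕ := Bool.rec (motive := fun _ => ℕ) U_f_6 (U_f_n7_9 X) (Nat.ble (nat_lit 5946749) X)
noncomputable def U_f_n4_9 (X : ℕ) : ℕ := Bool.rec (motive := fun _ => ℕ) (U_f_n4_6 X) (U_f_n6_9 X) (Nat.ble (nat_lit 5883737) X)
noncomputable def U_f_n0_9 (X : ℕ) : ℕ := Bool.rec (motive := fun _ => ℕ) (U_f_n0_4 X) (U_f_n4_9 X) (Nat.ble (nat_lit 5755531) X)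
noncomputable def U_f_n9_11 (X : ℕ) : ℕ := Bool.rec (motive := fun _ => ℕ) U_f_9 U_f_10 (Nat.ble (nat_lit 6139249) X)
noncomputable def U_f_n11_13 (X : ℕ) : ℕ := Bool.rec (motive := fun _ => ℕ) U_f_11 U_f_12 (Nat.ble (nat_lit 6267619) X)
noncomputable def U_f_n9_13 (X : ℕ) : ℕ := Bool.rec (motive := fun _ => ℕ) (U_f_n9_11 X) (U_f_n11_13 X) (Nat.ble (nat_lit 6203143) X)
noncomputable def U_f_n13_15 (X : ℕ) : ℕ := Bool.rec (motive := fun _ => ℕ) U_f_13 U_f_14 (Nat.ble (nat_lit 6395947) X)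
noncomputable def U_f_n16_18 (X : ℕ) : ℕ := Bool.rec (motive := fun _ => ℕ) U_f_16 U_f_17 (Nat.ble (nat_lit 6588443) X)
noncomputable def U_f_n15_18 (X : ℕ) : ℕ := Bool.rec (motive := fun _ => ℕ) U_f_15 (U_f_n16_18 X) (Nat.ble (nat_lit 6524611) X)
noncomputable def U_f_n13_18 (X : ℕ) : ℕ := Bool.rec (motive := fun _ => ℕ) (U_f_n13_15 X) (U_f_n15_18 X) (Nat.ble (nat_lit 6460379) X)
noncomputable def U_f_n9_18 (X : ℕ) : ℕ := Bool.rec (motive := fun _ => ℕ) (U_f_n9_13 X) (U_f_n13_18 X) (Nat.ble (nat_lit 6330559) X)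
noncomputable def U_f_n0_18 (X : ℕ) : ℕ := Bool.rec (motive := fun _ => ℕ) (U_f_n0_9 X) (U_f_n9_18 X) (Nat.ble (nat_lit 6075263) X)
noncomputable def U_f_n18_20 (X : ℕ) : ℕ := Bool.rec (motive := fun _ => ℕ) U_f_18 U_f_19 (Nat.ble (nat_lit 6717307) X)
noncomputable def U_f_n20_22 (X : ℕ) : ℕ := Bool.rec (motive := fun _ => ℕ) U_f_20 U_f_21 (Nat.ble (nat_lit 6846031) X)
noncomputable def U_f_n18_22 (X : ℕ) : ℕ := Bool.rec (motive := fun _ => ℕ) (U_f_n18_20 X) (U_f_n20_22 X) (Nat.ble (nat_lit 6781547) X)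
noncomputable def U_f_n22_24 (X : ℕ) : ℕ := Bool.rec (motive := fun _ => ℕ) U_f_22 U_f_23 (Nat.ble (nat_lit 6974053) X)
noncomputable def U_f_n25_27 (X : ℕ) : ℕ := Bool.rec (motive := fun _ => ℕ) U_f_25 U_f_26 (Nat.ble (nat_lit 7167791) X)
noncomputable def U_f_n24_27 (X : ℕ) : ℕ := Bool.rec (motive := fun _ => ℕ) U_f_24 (U_f_n25_27 X) (Nat.ble (nat_lit 7102643) X)
noncomputable def U_f_n22_27 (X : ℕ) : ℕ := Bool.rec (motive := fun _ => ℕ) (U_f_n22_24 X) (U_f_n24_27 X) (Nat.ble (nat_lit 7038397) X)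
noncomputable def U_f_n18_27 (X : ℕ) : ℕ := Bool.rec (motive := fun _ => ℕ) (U_f_n18_22 X) (U_f_n22_27 X) (Nat.ble (nat_lit 6909907) X)
noncomputable def U_f_n27_29 (X : ℕ) : ℕ := Bool.rec (motive := fun _ => ℕ) U_f_27 U_f_28 (Nat.ble (nat_lit 7296983) X)
noncomputable def U_f_n30_32 (X : ℕ) : ℕ := Bool.rec (motive := fun _ => ℕ) U_f_30 U_f_31 (Nat.ble (nat_lit 7492031) X)
noncomputable def U_f_n29_32 (X : ℕ) : ℕ := Bool.rec (motive := fun _ => ℕ) U_f_29 (U_f_n30_32 X) (Nat.ble (nat_lit 7427041) X)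
noncomputable def U_f_n27_32 (X : ℕ) : ℕ := Bool.rec (motive := fun _ => ℕ) (U_f_n27_29 X) (U_f_n29_32 X) (Nat.ble (nat_lit 7362133) X)
noncomputable def U_f_n32_34 (X : ℕ) : ℕ := Bool.rec (motive := fun _ => ℕ) U_f_32 U_f_33 (Nat.ble (nat_lit 7622317) X)
noncomputable def U_f_n35_37 (X : ℕ) : ℕ := Bool.rec (motive := fun _ => ℕ) U_f_35 U_f_36 (Nat.ble (nat_lit 7817143) X)
noncomputable def U_f_n34_37 (X : ℕ) : ℕ := Bool.rec (motive := fun _ => ℕ) U_f_34 (U_f_n35_37 X) (Nat.ble (nat_lit 7752179) X)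
noncomputable def U_f_n32_37 (X : ℕ) : ℕ := Bool.rec (motive := fun _ => ℕ) (U_f_n32_34 X) (U_f_n34_37 X) (Nat.ble (nat_lit 7686893) X)
noncomputable def U_f_n27_37 (X : ℕ) : ℕ := Bool.rec (motive := fun _ => ℕ) (U_f_n27_32 X) (U_f_n32_37 X) (Nat.ble (nat_lit 7557091) X)
noncomputable def U_f_n18_37 (X : ℕ) : ℕ := Bool.rec (motive := fun _ => ℕ) (U_f_n18_27 X) (U_f_n27_37 X) (Nat.ble (nat_lit 7232899) X)
noncomputable def U_f_n0_37 (X : ℕ) : ℕ := Bool.rec (motive := fun _ => ℕ) (U_f_n0_18 X) (U_f_n18_37 X) (Nat.ble (nat_lit 6652979) X)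
noncomputable def U_f_n37_39 (X : ℕ) : ℕ := Bool.rec (motive := fun _ => ℕ) U_f_37 U_f_38 (Nat.ble (nat_lit 7946711) X)
noncomputable def U_f_n39_41 (X : ℕ) : ℕ := Bool.rec (motive := fun _ => ℕ) U_f_39 U_f_40 (Nat.ble (nat_lit 8077529) X)
noncomputable def U_f_n37_41 (X : ℕ) : ℕ := Bool.rec (motive := fun _ => ℕ) (U_f_n37_39 X) (U_f_n39_41 X) (Nat.ble (nat_lit 8012209) X)
noncomputable def U_f_n41_43 (X : ℕ) : ℕ := Bool.rec (motive := fun _ => ℕ) U_f_41 U_f_42 (Nat.ble (nat_lit 8208023) X)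
noncomputable def U_f_n44_46 (X : ℕ) : ℕ := Bool.rec (motive := fun _ => ℕ) U_f_44 U_f_45 (Nat.ble (nat_lit 8403817) X)
noncomputable def U_f_n43_46 (X : ℕ) : ℕ := Bool.rec (motive := fun _ => ℕ) U_f_43 (U_f_n44_46 X) (Nat.ble (nat_lit 8338643) X)
noncomputable def U_f_n41_46 (X : ℕ) : ℕ := Bool.rec (motive := fun _ => ℕ) (U_f_n41_43 X) (U_f_n43_46 X) (Nat.ble (nat_lit 8273477) X)
noncomputable def U_f_n37_46 (X : ℕ) : ℕ := Bool.rec (motive := fun _ => ℕ) (U_f_n37_41 X) (U_f_n41_46 X) (Nat.ble (nat_lit 8143277) X)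
noncomputable def U_f_n46_48 (X : ℕ) : ℕ := Bool.rec (motive := fun _ => ℕ) U_f_46 U_f_47 (Nat.ble (nat_lit 8534429) X)
noncomputable def U_f_n49_51 (X : ℕ) : ℕ := Bool.rec (motive := fun _ => ℕ) U_f_49 U_f_50 (Nat.ble (nat_lit 8729821) X)
noncomputable def U_f_n48_51 (X : ℕ) : ℕ := Bool.rec (motive := fun _ => ℕ) U_f_48 (U_f_n49_51 X) (Nat.ble (nat_lit 8664559) X)
noncomputable def U_f_n46_51 (X : ℕ) : ℕ := Bool.rec (motive := fun _ => ℕ) (U_f_n46_48 X) (U_f_n48_51 X) (Nat.ble (nat_lit 8599469) X)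
noncomputable def U_f_n51_53 (X : ℕ) : ℕ := Bool.rec (motive := fun _ => ℕ) U_f_51 U_f_52 (Nat.ble (nat_lit 8861159) X)
noncomputable def U_f_n54_56 (X : ℕ) : ℕ := Bool.rec (motive := fun _ => ℕ) U_f_54 U_f_55 (Nat.ble (nat_lit 9058837) X)
noncomputable def U_f_n53_56 (X : ℕ) : ℕ := Bool.rec (motive := fun _ => ℕ) U_f_53 (U_f_n54_56 X) (Nat.ble (nat_lit 8992199) X)
noncomputable def U_f_n51_56 (X : ℕ) : ℕ := Bool.rec (motive := fun _ => ℕ) (U_f_n51_53 X) (U_f_n53_56 X) (Nat.ble (nat_lit 8926363) X)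
noncomputable def U_f_n46_56 (X : ℕ) : ℕ := Bool.rec (motive := fun _ => ℕ) (U_f_n46_51 X) (U_f_n51_56 X) (Nat.ble (nat_lit 8795047) X)
noncomputable def U_f_n37_56 (X : ℕ) : ℕ := Bool.rec (motive := fun _ => ℕ) (U_f_n37_46 X) (U_f_n46_56 X) (Nat.ble (nat_lit 8469977) X)
noncomputable def U_f_n56_58 (X : ℕ) : ℕ := Bool.rec (motive := fun _ => ℕ) U_f_56 U_f_57 (Nat.ble (nat_lit 9189703) X)
noncomputable def U_f_n58_60 (X : ℕ) : ℕ := Bool.rec (motive := fun _ => ℕ) U_f_58 U_f_59 (Nat.ble (nat_lit 9320833) X)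
noncomputable def U_f_n56_60 (X : ℕ) : ℕ := Bool.rec (motive := fun _ => ℕ) (U_f_n56_58 X) (U_f_n58_60 X) (Nat.ble (nat_lit 9255023) X)
noncomputable def U_f_n60_62 (X : ℕ) : ℕ := Bool.rec (motive := fun _ => ℕ) U_f_60 U_f_61 (Nat.ble (nat_lit 9452537) X)
noncomputable def U_f_n63_65 (X : ℕ) : ℕ := Bool.rec (motive := fun _ => ℕ) U_f_63 U_f_64 (Nat.ble (nat_lit 9649747) X)
noncomputable def U_f_n62_65 (X : ℕ) : ℕ := Bool.rec (motive := fun _ => ℕ) U_f_62 (U_f_n63_65 X) (Nat.ble (nat_lit 9584063) X)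
noncomputable def U_f_n60_65 (X : ℕ) : ℕ := Bool.rec (motive := fun _ => ℕ) (U_f_n60_62 X) (U_f_n62_65 X) (Nat.ble (nat_lit 9518723) X)
noncomputable def U_f_n56_65 (X : ℕ) : ℕ := Bool.rec (motive := fun _ => ℕ) (U_f_n56_60 X) (U_f_n60_65 X) (Nat.ble (nat_lit 9386471) X)
noncomputable def U_f_n65_67 (X : ℕ) : ℕ := Bool.rec (motive := fun _ => ℕ) U_f_65 U_f_66 (Nat.ble (nat_lit 9782029) X)
noncomputable def U_f_n68_70 (X : ℕ) : ℕ := Bool.rec (motive := fun _ => ℕ) U_f_68 U_f_69 (Nat.ble (nat_lit 9980857) X)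
noncomputable def U_f_n67_70 (X : ℕ) : ℕ := Bool.rec (motive := fun _ => ℕ) U_f_67 (U_f_n68_70 X) (Nat.ble (nat_lit 9914617) X)
noncomputable def U_f_n65_70 (X : ℕ) : ℕ := Bool.rec (motive := fun _ => ℕ) (U_f_n65_67 X) (U_f_n67_70 X) (Nat.ble (nat_lit 9847967) X)
noncomputable def U_f_n70_72 (X : ℕ) : ℕ := Bool.rec (motive := fun _ => ℕ) U_f_70 U_f_71 (Nat.ble (nat_lit 10112897) X)
noncomputable def U_f_n73_75 (X : ℕ) : ℕ := Bool.rec (motive := fun _ => ℕ) U_f_73 U_f_74 (Nat.ble (nat_lit 10311997) X)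
noncomputable def U_f_n72_75 (X : ℕ) : ℕ := Bool.rec (motive := fun _ => ℕ) U_f_72 (U_f_n73_75 X) (Nat.ble (nat_lit 10245751) X)
noncomputable def U_f_n70_75 (X : ℕ) : ℕ := Bool.rec (motive := fun _ => ℕ) (U_f_n70_72 X) (U_f_n72_75 X) (Nat.ble (nat_lit 10179161) X)
noncomputable def U_f_n65_75 (X : ℕ) : ℕ := Bool.rec (motive := fun _ => ℕ) (U_f_n65_70 X) (U_f_n70_75 X) (Nat.ble (nat_lit 10046903) X)
noncomputable def U_f_n56_75 (X : ℕ) : ℕ := Bool.rec (motive := fun _ => ℕ) (U_f_n56_65 X) (U_f_n65_75 X) (Nat.ble (nat_lit 9715969) X)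
noncomputable def U_f_n37_75 (X : ℕ) : ℕ := Bool.rec (motive := fun _ => ℕ) (U_f_n37_56 X) (U_f_n56_75 X) (Nat.ble (nat_lit 9124417) X)
noncomputable def U_f_sel (X : ℕ) : ℕ := Bool.rec (motive := fun _ => ℕ) (U_f_n0_37 X) (U_f_n37_75 X) (Nat.ble (nat_lit 7881739) X)
noncomputable def UU_f (q : ℕ) : ℕ := (Nat.mod (U_f_sel q) q)
noncomputable def V_f_n0_2 (X : ℕ) : ℕ := Bool.rec (motive := fun _ => ℕ) V_f_0 V_f_1 (Nat.ble (nat_lit 5564497) X)
noncomputable def V_f_n2_4 (X : ℕ) : ℕ := Bool.rec (motive := fun _ => ℕ) V_f_2 V_f_3 (Nat.ble (nat_lit 5692157) X)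
noncomputable def V_f_n0_4 (X : ℕ) : ℕ := Bool.rec (motive := fun _ => ℕ) (V_f_n0_2 X) (V_f_n2_4 X) (Nat.ble (nat_lit 5628131) X)
noncomputable def V_f_n4_6 (X : ℕ) : ℕ := Bool.rec (motive := fun _ => ℕ) V_f_4 V_f_5 (Nat.ble (nat_lit 5820037) X)
noncomputable def V_f_n7_9 (X : ℕ) : ℕ := Bool.rec (motive := fun _ => ℕ) V_f_7 V_f_8 (Nat.ble (nat_lit 6010867) X)
noncomputable def V_f_n6_9 (X : ℕ) : ℕ := Bool.rec (motive := fun _ => ℕ) V_f_6 (V_f_n7_9 X) (Nat.ble (nat_lit 5946749) X)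
noncomputable def V_f_n4_9 (X : ℕ) : ℕ := Bool.rec (motive := fun _ => ℕ) (V_f_n4_6 X) (V_f_n6_9 X) (Nat.ble (nat_lit 5883737) X)
noncomputable def V_f_n0_9 (X : ℕ) : ℕ := Bool.rec (motive := fun _ => ℕ) (V_f_n0_4 X) (V_f_n4_9 X) (Nat.ble (nat_lit 5755531) X)
noncomputable def V_f_n9_11 (X : ℕ) : ℕ := Bool.rec (motive := fun _ => ℕ) V_f_9 V_f_10 (Nat.ble (nat_lit 6139249) X)
noncomputable def V_f_n11_13 (X : ℕ) : ℕ := Bool.rec (motive := fun _ => ℕ) V_f_11 V_f_12 (Nat.ble (nat_lit 6267619) X)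
noncomputable def V_f_n9_13 (X : ℕ) : ℕ := Bool.rec (motive := fun _ => ℕ) (V_f_n9_11 X) (V_f_n11_13 X) (Nat.ble (nat_lit 6203143) X)
noncomputable def V_f_n13_15 (X : ℕ) : ℕ := Bool.rec (motive := fun _ => ℕ) V_f_13 V_f_14 (Nat.ble (nat_lit 6395947) X)
noncomputable def V_f_n16_18 (X : ℕ) : ℕ := Bool.rec (motive := fun _ => ℕ) V_f_16 V_f_17 (Nat.ble (nat_lit 6588443) X)
noncomputable def V_f_n15_18 (X : ℕ) : ℕ := Bool.rec (motive := fun _ => ℕ) V_f_15 (V_f_n16_18 X) (Nat.ble (nat_lit 6524611) X)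
noncomputable def V_f_n13_18 (X : ℕ) : ℕ := Bool.rec (motive := fun _ => ℕ) (V_f_n13_15 X) (V_f_n15_18 X) (Nat.ble (nat_lit 6460379) X)
noncomputable def V_f_n9_18 (X : ℕ) : ℕ := Bool.rec (motive := fun _ => ℕ) (V_f_n9_13 X) (V_f_n13_18 X) (Nat.ble (nat_lit 6330559) X)
noncomputable def V_f_n0_18 (X : ℕ) : ℕ := Bool.rec (motive := fun _ => ℕ) (V_f_n0_9 X) (V_f_n9_18 X) (Nat.ble (nat_lit 6075263) X)
noncomputable def V_f_n18_20 (X : ℕ) : ℕ := Bool.rec (motive := fun _ => ℕ) V_f_18 V_f_19 (Nat.ble (nat_lit 6717307) X)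
noncomputable def V_f_n20_22 (X : ℕ) : ℕ := Bool.rec (motive := fun _ => ℕ) V_f_20 V_f_21 (Nat.ble (nat_lit 6846031) X)
noncomputable def V_f_n18_22 (X : ℕ) : ℕ := Bool.rec (motive := fun _ => ℕ) (V_f_n18_20 X) (V_f_n20_22 X) (Nat.ble (nat_lit 6781547) X)
noncomputable def V_f_n22_24 (X : ℕ) : ℕ := Bool.rec (motive := fun _ => ℕ) V_f_22 V_f_23 (Nat.ble (nat_lit 6974053) X)
noncomputable def V_f_n25_27 (X : ℕ) : ℕ := Bool.rec (motive := fun _ => ℕ) V_f_25 V_f_26 (Nat.ble (nat_lit 7167791) X)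
noncomputable def V_f_n24_27 (X : ℕ) : ℕ := Bool.rec (motive := fun _ => ℕ) V_f_24 (V_f_n25_27 X) (Nat.ble (nat_lit 7102643) X)
noncomputable def V_f_n22_27 (X : ℕ) : ℕ := Bool.rec (motive := fun _ => ℕ) (V_f_n22_24 X) (V_f_n24_27 X) (Nat.ble (nat_lit 7038397) X)
noncomputable def V_f_n18_27 (X : ℕ) : ℕ := Bool.rec (motive := fun _ => ℕ) (V_f_n18_22 X) (V_f_n22_27 X) (Nat.ble (nat_lit 6909907) X)
noncomputable def V_f_n27_29 (X : ℕ) : ℕ := Bool.rec (motive := fun _ => ℕ) V_f_27 V_f_28 (Nat.ble (nat_lit 7296983) X)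
noncomputable def V_f_n30_32 (X : ℕ) : ℕ := Bool.rec (motive := fun _ => ℕ) V_f_30 V_f_31 (Nat.ble (nat_lit 7492031) X)
noncomputable def V_f_n29_32 (X : ℕ) : ℕ := Bool.rec (motive := fun _ => ℕ) V_f_29 (V_f_n30_32 X) (Nat.ble (nat_lit 7427041) X)
noncomputable def V_f_n27_32 (X : ℕ) : ℕ := Bool.rec (motive := fun _ => ℕ) (V_f_n27_29 X) (V_f_n29_32 X) (Nat.ble (nat_lit 7362133) X)
noncomputable def V_f_n32_34 (X : ℕ) : ℕ := Bool.rec (motive := fun _ => ℕ) V_f_32 V_f_33 (Nat.ble (nat_lit 7622317) X)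
noncomputable def V_f_n35_37 (X : ℕ) : ℕ := Bool.rec (motive := fun _ => ℕ) V_f_35 V_f_36 (Nat.ble (nat_lit 7817143) X)
noncomputable def V_f_n34_37 (X : ℕ) : ℕ := Bool.rec (motive := fun _ => ℕ) V_f_34 (V_f_n35_37 X) (Nat.ble (nat_lit 7752179) X)
noncomputable def V_f_n32_37 (X : ℕ) : ℕ := Bool.rec (motive := fun _ => ℕ) (V_f_n32_34 X) (V_f_n34_37 X) (Nat.ble (nat_lit 7686893) X)
noncomputable def V_f_n27_37 (X : ℕ) : ℕ := Bool.rec (motive := fun _ => ℕ) (V_f_n27_32 X) (V_f_n32_37 X) (Nat.ble (nat_lit 7557091) X)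
noncomputable def V_f_n18_37 (X : ℕ) : ℕ := Bool.rec (motive := fun _ => ℕ) (V_f_n18_27 X) (V_f_n27_37 X) (Nat.ble (nat_lit 7232899) X)
noncomputable def V_f_n0_37 (X : ℕ) : ℕ := Bool.rec (motive := fun _ => ℕ) (V_f_n0_18 X) (V_f_n18_37 X) (Nat.ble (nat_lit 6652979) X)
noncomputable def V_f_n37_39 (X : ℕ) : ℕ := Bool.rec (motive := fun _ => ℕ) V_f_37 V_f_38 (Nat.ble (nat_lit 7946711) X)
noncomputable def V_f_n39_41 (X : ℕ) : ℕ := Bool.rec (motive := fun _ => ℕ) V_f_39 V_f_40 (Nat.ble (nat_lit 8077529) X)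
noncomputable def V_f_n37_41 (X : ℕ) : ℕ := Bool.rec (motive := fun _ => ℕ) (V_f_n37_39 X) (V_f_n39_41 X) (Nat.ble (nat_lit 8012209) X)
noncomputable def V_f_n41_43 (X : ℕ) : ℕ := Bool.rec (motive := fun _ => ℕ) V_f_41 V_f_42 (Nat.ble (nat_lit 8208023) X)
noncomputable def V_f_n44_46 (X : ℕ) : ℕ := Bool.rec (motive := fun _ => ℕ) V_f_44 V_f_45 (Nat.ble (nat_lit 8403817) X)
noncomputable def V_f_n43_46 (X : ℕ) : ℕ := Bool.rec (motive := fun _ => ℕ) V_f_43 (V_f_n44_46 X) (Nat.ble (nat_lit 8338643) X)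
noncomputable def V_f_n41_46 (X : ℕ) : ℕ := Bool.rec (motive := fun _ => ℕ) (V_f_n41_43 X) (V_f_n43_46 X) (Nat.ble (nat_lit 8273477) X)
noncomputable def V_f_n37_46 (X : ℕ) : ℕ := Bool.rec (motive := fun _ => ℕ) (V_f_n37_41 X) (V_f_n41_46 X) (Nat.ble (nat_lit 8143277) X)
noncomputable def V_f_n46_48 (X : ℕ) : ℕ := Bool.rec (motive := fun _ => ℕ) V_f_46 V_f_47 (Nat.ble (nat_lit 8534429) X)
noncomputable def V_f_n49_51 (X : ℕ) : ℕ := Bool.rec (motive := fun _ => ℕ) V_f_49 V_f_50 (Nat.ble (nat_lit 8729821) X)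
noncomputable def V_f_n48_51 (X : ℕ) : ℕ := Bool.rec (motive := fun _ => ℕ) V_f_48 (V_f_n49_51 X) (Nat.ble (nat_lit 8664559) X)
noncomputable def V_f_n46_51 (X : ℕ) : ℕ := Bool.rec (motive := fun _ => ℕ) (V_f_n46_48 X) (V_f_n48_51 X) (Nat.ble (nat_lit 8599469) X)
noncomputable def V_f_n51_53 (X : ℕ) : ℕ := Bool.rec (motive := fun _ => ℕ) V_f_51 V_f_52 (Nat.ble (nat_lit 8861159) X)
noncomputable def V_f_n54_56 (X : ℕ) : ℕ := Bool.rec (motive := fun _ => ℕ) V_f_54 V_f_55 (Nat.ble (nat_lit 9058837) X)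
noncomputable def V_f_n53_56 (X : ℕ) : ℕ := Bool.rec (motive := fun _ => ℕ) V_f_53 (V_f_n54_56 X) (Nat.ble (nat_lit 8992199) X)
noncomputable def V_f_n51_56 (X : ℕ) : ℕ := Bool.rec (motive := fun _ => ℕ) (V_f_n51_53 X) (V_f_n53_56 X) (Nat.ble (nat_lit 8926363) X)
noncomputable def V_f_n46_56 (X : ℕ) : ℕ := Bool.rec (motive := fun _ => ℕ) (V_f_n46_51 X) (V_f_n51_56 X) (Nat.ble (nat_lit 8795047) X)
noncomputable def V_f_n37_56 (X : ℕ) : ℕ := Bool.rec (motive := fun _ => ℕ) (V_f_n37_46 X) (V_f_n46_56 X) (Nat.ble (nat_lit 8469977) X)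
noncomputable def V_f_n56_58 (X : ℕ) : ℕ := Bool.rec (motive := fun _ => ℕ) V_f_56 V_f_57 (Nat.ble (nat_lit 9189703) X)
noncomputable def V_f_n58_60 (X : ℕ) : ℕ := Bool.rec (motive := fun _ => ℕ) V_f_58 V_f_59 (Nat.ble (nat_lit 9320833) X)
noncomputable def V_f_n56_60 (X : ℕ) : ℕ := Bool.rec (motive := fun _ => ℕ) (V_f_n56_58 X) (V_f_n58_60 X) (Nat.ble (nat_lit 9255023) X)
noncomputable def V_f_n60_62 (X : ℕ) : ℕ := Bool.rec (motive := fun _ => ℕ) V_f_60 V_f_61 (Nat.ble (nat_lit 9452537) X)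
noncomputable def V_f_n63_65 (X : ℕ) : ℕ := Bool.rec (motive := fun _ => ℕ) V_f_63 V_f_64 (Nat.ble (nat_lit 9649747) X)
noncomputable def V_f_n62_65 (X : ℕ) : ℕ := Bool.rec (motive := fun _ => ℕ) V_f_62 (V_f_n63_65 X) (Nat.ble (nat_lit 9584063) X)
noncomputable def V_f_n60_65 (X : ℕ) : ℕ := Bool.rec (motive := fun _ => ℕ) (V_f_n60_62 X) (V_f_n62_65 X) (Nat.ble (nat_lit 9518723) X)
noncomputable def V_f_n56_65 (X : ℕ) : ℕ := Bool.rec (motive := fun _ => ℕ) (V_f_n56_60 X) (V_f_n60_65 X) (Nat.ble (nat_lit 9386471) X)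
noncomputable def V_f_n65_67 (X : ℕ) : ℕ := Bool.rec (motive := fun _ => ℕ) V_f_65 V_f_66 (Nat.ble (nat_lit 9782029) X)
noncomputable def V_f_n68_70 (X : ℕ) : ℕ := Bool.rec (motive := fun _ => ℕ) V_f_68 V_f_69 (Nat.ble (nat_lit 9980857) X)
noncomputable def V_f_n67_70 (X : ℕ) : ℕ := Bool.rec (motive := fun _ => ℕ) V_f_67 (V_f_n68_70 X) (Nat.ble (nat_lit 9914617) X)
noncomputable def V_f_n65_70 (X : ℕ) : ℕ := Bool.rec (motive := fun _ => ℕ) (V_f_n65_67 X) (V_f_n67_70 X) (Nat.ble (nat_lit 9847967) X)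
noncomputable def V_f_n70_72 (X : ℕ) : ℕ := Bool.rec (motive := fun _ => ℕ) V_f_70 V_f_71 (Nat.ble (nat_lit 10112897) X)
noncomputable def V_f_n73_75 (X : ℕ) : ℕ := Bool.rec (motive := fun _ => ℕ) V_f_73 V_f_74 (Nat.ble (nat_lit 10311997) X)
noncomputable def V_f_n72_75 (X : ℕ) : ℕ := Bool.rec (motive := fun _ => ℕ) V_f_72 (V_f_n73_75 X) (Nat.ble (nat_lit 10245751) X)
noncomputable def V_f_n70_75 (X : ℕ) : ℕ := Bool.rec (motive := fun _ => ℕ) (V_f_n70_72 X) (V_f_n72_75 X) (Nat.ble (nat_lit 10179161) X)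
noncomputable def V_f_n65_75 (X : ℕ) : ℕ := Bool.rec (motive := fun _ => ℕ) (V_f_n65_70 X) (V_f_n70_75 X) (Nat.ble (nat_lit 10046903) X)
noncomputable def V_f_n56_75 (X : ℕ) : ℕ := Bool.rec (motive := fun _ => ℕ) (V_f_n56_65 X) (V_f_n65_75 X) (Nat.ble (nat_lit 9715969) X)
noncomputable def V_f_n37_75 (X : ℕ) : ℕ := Bool.rec (motive := fun _ => ℕ) (V_f_n37_56 X) (V_f_n56_75 X) (Nat.ble (nat_lit 9124417) X)
noncomputable def V_f_sel (X : ℕ) : ℕ := Bool.rec (motive := fun _ => ℕ) (V_f_n0_37 X) (V_f_n37_75 X) (Nat.ble (nat_lit 7881739) X)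
noncomputable def VV_f (q : ℕ) : ℕ := (Nat.mod (V_f_sel q) q)
noncomputable def G_f (t q : ℕ) : ℕ := Bool.rec (motive := fun _ => ℕ) (nat_lit 0) (F_f q) (Nat.ble (Nat.succ (UU_f q)) t)
noncomputable def T_g_n0_2 (X : ℕ) : ℕ := Bool.rec (motive := fun _ => ℕ) T_g_0 T_g_1 (Nat.ble (nat_lit 5564497) X)
noncomputable def T_g_n2_4 (X : ℕ) : ℕ := Bool.rec (motive := fun _ => ℕ) T_g_2 T_g_3 (Nat.ble (nat_lit 5692157) X)
noncomputable def T_g_n0_4 (X : ℕ) : ℕ := Bool.rec (motive := fun _ => ℕ) (T_g_n0_2 X) (T_g_n2_4 X) (Nat.ble (nat_lit 5628131) X)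
noncomputable def T_g_n4_6 (X : ℕ) : ℕ := Bool.rec (motive := fun _ => ℕ) T_g_4 T_g_5 (Nat.ble (nat_lit 5820037) X)
noncomputable def T_g_n7_9 (X : ℕ) : ℕ := Bool.rec (motive := fun _ => ℕ) T_g_7 T_g_8 (Nat.ble (nat_lit 6010867) X)
noncomputable def T_g_n6_9 (X : ℕ) : ℕ := Bool.rec (motive := fun _ => ℕ) T_g_6 (T_g_n7_9 X) (Nat.ble (nat_lit 5946749) X)
noncomputable def T_g_n4_9 (X : ℕ) : ℕ := Bool.rec (motive := fun _ => ℕ) (T_g_n4_6 X) (T_g_n6_9 X) (Nat.ble (nat_lit 5883737) X)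
noncomputable def T_g_n0_9 (X : ℕ) : ℕ := Bool.rec (motive := fun _ => ℕ) (T_g_n0_4 X) (T_g_n4_9 X) (Nat.ble (nat_lit 5755531) X)
noncomputable def T_g_n9_11 (X : ℕ) : ℕ := Bool.rec (motive := fun _ => ℕ) T_g_9 T_g_10 (Nat.ble (nat_lit 6139249) X)
noncomputable def T_g_n11_13 (X : ℕ) : ℕ := Bool.rec (motive := fun _ => ℕ) T_g_11 T_g_12 (Nat.ble (nat_lit 6267619) X)
noncomputable def T_g_n9_13 (X : ℕ) : ℕ := Bool.rec (motive := fun _ => ℕ) (T_g_n9_11 X) (T_g_n11_13 X) (Nat.ble (nat_lit 6203143) X)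
noncomputable def T_g_n13_15 (X : ℕ) : ℕ := Bool.rec (motive := fun _ => ℕ) T_g_13 T_g_14 (Nat.ble (nat_lit 6395947) X)
noncomputable def T_g_n16_18 (X : ℕ) : ℕ := Bool.rec (motive := fun _ => ℕ) T_g_16 T_g_17 (Nat.ble (nat_lit 6588443) X)
noncomputable def T_g_n15_18 (X : ℕ) : ℕ := Bool.rec (motive := fun _ => ℕ) T_g_15 (T_g_n16_18 X) (Nat.ble (nat_lit 6524611) X)
noncomputable def T_g_n13_18 (X : ℕ) : ℕ := Bool.rec (motive := fun _ => ℕ) (T_g_n13_15 X) (T_g_n15_18 X) (Nat.ble (nat_lit 6460379) X)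
noncomputable def T_g_n9_18 (X : ℕ) : ℕ := Bool.rec (motive := fun _ => ℕ) (T_g_n9_13 X) (T_g_n13_18 X) (Nat.ble (nat_lit 6330559) X)
noncomputable def T_g_n0_18 (X : ℕ) : ℕ := Bool.rec (motive := fun _ => ℕ) (T_g_n0_9 X) (T_g_n9_18 X) (Nat.ble (nat_lit 6075263) X)
noncomputable def T_g_n18_20 (X : ℕ) : ℕ := Bool.rec (motive := fun _ => ℕ) T_g_18 T_g_19 (Nat.ble (nat_lit 6717307) X)
noncomputable def T_g_n20_22 (X : ℕ) : ℕ := Bool.rec (motive := fun _ => ℕ) T_g_20 T_g_21 (Nat.ble (nat_lit 6846031) X)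
noncomputable def T_g_n18_22 (X : ℕ) : ℕ := Bool.rec (motive := fun _ => ℕ) (T_g_n18_20 X) (T_g_n20_22 X) (Nat.ble (nat_lit 6781547) X)
noncomputable def T_g_n22_24 (X : ℕ) : ℕ := Bool.rec (motive := fun _ => ℕ) T_g_22 T_g_23 (Nat.ble (nat_lit 6974053) X)
noncomputable def T_g_n25_27 (X : ℕ) : ℕ := Bool.rec (motive := fun _ => ℕ) T_g_25 T_g_26 (Nat.ble (nat_lit 7167791) X)
noncomputable def T_g_n24_27 (X : ℕ) : ℕ := Bool.rec (motive := fun _ => ℕ) T_g_24 (T_g_n25_27 X) (Nat.ble (nat_lit 7102643) X)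
noncomputable def T_g_n22_27 (X : ℕ) : ℕ := Bool.rec (motive := fun _ => ℕ) (T_g_n22_24 X) (T_g_n24_27 X) (Nat.ble (nat_lit 7038397) X)
noncomputable def T_g_n18_27 (X : ℕ) : ℕ := Bool.rec (motive := fun _ => ℕ) (T_g_n18_22 X) (T_g_n22_27 X) (Nat.ble (nat_lit 6909907) X)
noncomputable def T_g_n27_29 (X : ℕ) : ℕ := Bool.rec (motive := fun _ => ℕ) T_g_27 T_g_28 (Nat.ble (nat_lit 7296983) X)
noncomputable def T_g_n30_32 (X : ℕ) : ℕ := Bool.rec (motive := fun _ => ℕ) T_g_30 T_g_31 (Nat.ble (nat_lit 7492031) X)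
noncomputable def T_g_n29_32 (X : ℕ) : ℕ := Bool.rec (motive := fun _ => ℕ) T_g_29 (T_g_n30_32 X) (Nat.ble (nat_lit 7427041) X)
noncomputable def T_g_n27_32 (X : ℕ) : ℕ := Bool.rec (motive := fun _ => ℕ) (T_g_n27_29 X) (T_g_n29_32 X) (Nat.ble (nat_lit 7362133) X)
noncomputable def T_g_n32_34 (X : ℕ) : ℕ := Bool.rec (motive := fun _ => ℕ) T_g_32 T_g_33 (Nat.ble (nat_lit 7622317) X)
noncomputable def T_g_n35_37 (X : ℕ) : ℕ := Bool.rec (motive := fun _ => ℕ) T_g_35 T_g_36 (Nat.ble (nat_lit 7817143) X)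
noncomputable def T_g_n34_37 (X : ℕ) : ℕ := Bool.rec (motive := fun _ => ℕ) T_g_34 (T_g_n35_37 X) (Nat.ble (nat_lit 7752179) X)
noncomputable def T_g_n32_37 (X : ℕ) : ℕ := Bool.rec (motive := fun _ => ℕ) (T_g_n32_34 X) (T_g_n34_37 X) (Nat.ble (nat_lit 7686893) X)
noncomputable def T_g_n27_37 (X : ℕ) : ℕ := Bool.rec (motive := fun _ => ℕ) (T_g_n27_32 X) (T_g_n32_37 X) (Nat.ble (nat_lit 7557091) X)
noncomputable def T_g_n18_37 (X : ℕ) : ℕ := Bool.rec (motive := fun _ => ℕ) (T_g_n18_27 X) (T_g_n27_37 X) (Nat.ble (nat_lit 7232899) X)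
noncomputable def T_g_n0_37 (X : ℕ) : ℕ := Bool.rec (motive := fun _ => ℕ) (T_g_n0_18 X) (T_g_n18_37 X) (Nat.ble (nat_lit 6652979) X)
noncomputable def T_g_n37_39 (X : ℕ) : ℕ := Bool.rec (motive := fun _ => ℕ) T_g_37 T_g_38 (Nat.ble (nat_lit 7946711) X)
noncomputable def T_g_n39_41 (X : ℕ) : ℕ := Bool.rec (motive := fun _ => ℕ) T_g_39 T_g_40 (Nat.ble (nat_lit 8077529) X)
noncomputable def T_g_n37_41 (X : ℕ) : ℕ := Bool.rec (motive := fun _ => ℕ) (T_g_n37_39 X) (T_g_n39_41 X) (Nat.ble (nat_lit 8012209) X)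
noncomputable def T_g_n41_43 (X : ℕ) : ℕ := Bool.rec (motive := fun _ => ℕ) T_g_41 T_g_42 (Nat.ble (nat_lit 8208023) X)
noncomputable def T_g_n44_46 (X : ℕ) : ℕ := Bool.rec (motive := fun _ => ℕ) T_g_44 T_g_45 (Nat.ble (nat_lit 8403817) X)
noncomputable def T_g_n43_46 (X : ℕ) : ℕ := Bool.rec (motive := fun _ => ℕ) T_g_43 (T_g_n44_46 X) (Nat.ble (nat_lit 8338643) X)
noncomputable def T_g_n41_46 (X : ℕ) : ℕ := Bool.rec (motive := fun _ => ℕ) (T_g_n41_43 X) (T_g_n43_46 X) (Nat.ble (nat_lit 8273477) X)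
noncomputable def T_g_n37_46 (X : ℕ) : ℕ := Bool.rec (motive := fun _ => ℕ) (T_g_n37_41 X) (T_g_n41_46 X) (Nat.ble (nat_lit 8143277) X)
noncomputable def T_g_n46_48 (X : ℕ) : ℕ := Bool.rec (motive := fun _ => ℕ) T_g_46 T_g_47 (Nat.ble (nat_lit 8534429) X)
noncomputable def T_g_n49_51 (X : ℕ) : ℕ := Bool.rec (motive := fun _ => ℕ) T_g_49 T_g_50 (Nat.ble (nat_lit 8729821) X)
noncomputable def T_g_n48_51 (X : ℕ) : ℕ := Bool.rec (motive := fun _ => ℕ) T_g_48 (T_g_n49_51 X) (Nat.ble (nat_lit 8664559) X)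
noncomputable def T_g_n46_51 (X : ℕ) : ℕ := Bool.rec (motive := fun _ => ℕ) (T_g_n46_48 X) (T_g_n48_51 X) (Nat.ble (nat_lit 8599469) X)
noncomputable def T_g_n51_53 (X : ℕ) : ℕ := Bool.rec (motive := fun _ => ℕ) T_g_51 T_g_52 (Nat.ble (nat_lit 8861159) X)
noncomputable def T_g_n54_56 (X : ℕ) : ℕ := Bool.rec (motive := fun _ => ℕ) T_g_54 T_g_55 (Nat.ble (nat_lit 9058837) X)
noncomputable def T_g_n53_56 (X : ℕ) : ℕ := Bool.rec (motive := fun _ => ℕ) T_g_53 (T_g_n54_56 X) (Nat.ble (nat_lit 8992199) X)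
noncomputable def T_g_n51_56 (X : ℕ) : ℕ := Bool.rec (motive := fun _ => ℕ) (T_g_n51_53 X) (T_g_n53_56 X) (Nat.ble (nat_lit 8926363) X)
noncomputable def T_g_n46_56 (X : ℕ) : ℕ := Bool.rec (motive := fun _ => ℕ) (T_g_n46_51 X) (T_g_n51_56 X) (Nat.ble (nat_lit 8795047) X)
noncomputable def T_g_n37_56 (X : ℕ) : ℕ := Bool.rec (motive := fun _ => ℕ) (T_g_n37_46 X) (T_g_n46_56 X) (Nat.ble (nat_lit 8469977) X)
noncomputable def T_g_n56_58 (X : ℕ) : ℕ := Bool.rec (motive := fun _ => ℕ) T_g_56 T_g_57 (Nat.ble (nat_lit 9189703) X)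
noncomputable def T_g_n58_60 (X : ℕ) : ℕ := Bool.rec (motive := fun _ => ℕ) T_g_58 T_g_59 (Nat.ble (nat_lit 9320833) X)
noncomputable def T_g_n56_60 (X : ℕ) : ℕ := Bool.rec (motive := fun _ => ℕ) (T_g_n56_58 X) (T_g_n58_60 X) (Nat.ble (nat_lit 9255023) X)
noncomputable def T_g_n60_62 (X : ℕ) : ℕ := Bool.rec (motive := fun _ => ℕ) T_g_60 T_g_61 (Nat.ble (nat_lit 9452537) X)
noncomputable def T_g_n63_65 (X : ℕ) : ℕ := Bool.rec (motive := fun _ => ℕ) T_g_63 T_g_64 (Nat.ble (nat_lit 9649747) X)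
noncomputable def T_g_n62_65 (X : ℕ) : ℕ := Bool.rec (motive := fun _ => ℕ) T_g_62 (T_g_n63_65 X) (Nat.ble (nat_lit 9584063) X)
noncomputable def T_g_n60_65 (X : ℕ) : ℕ := Bool.rec (motive := fun _ => ℕ) (T_g_n60_62 X) (T_g_n62_65 X) (Nat.ble (nat_lit 9518723) X)
noncomputable def T_g_n56_65 (X : ℕ) : ℕ := Bool.rec (motive := fun _ => ℕ) (T_g_n56_60 X) (T_g_n60_65 X) (Nat.ble (nat_lit 9386471) X)
noncomputable def T_g_n65_67 (X : ℕ) : ℕ := Bool.rec (motive := fun _ => ℕ) T_g_65 T_g_66 (Nat.ble (nat_lit 9782029) X)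
noncomputable def T_g_n68_70 (X : ℕ) : ℕ := Bool.rec (motive := fun _ => ℕ) T_g_68 T_g_69 (Nat.ble (nat_lit 9980857) X)
noncomputable def T_g_n67_70 (X : ℕ) : ℕ := Bool.rec (motive := fun _ => ℕ) T_g_67 (T_g_n68_70 X) (Nat.ble (nat_lit 9914617) X)
noncomputable def T_g_n65_70 (X : ℕ) : ℕ := Bool.rec (motive := fun _ => ℕ) (T_g_n65_67 X) (T_g_n67_70 X) (Nat.ble (nat_lit 9847967) X)
noncomputable def T_g_n70_72 (X : ℕ) : ℕ := Bool.rec (motive := fun _ => ℕ) T_g_70 T_g_71 (Nat.ble (nat_lit 10112897) X)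
noncomputable def T_g_n73_75 (X : ℕ) : ℕ := Bool.rec (motive := fun _ => ℕ) T_g_73 T_g_74 (Nat.ble (nat_lit 10311997) X)
noncomputable def T_g_n72_75 (X : ℕ) : ℕ := Bool.rec (motive := fun _ => ℕ) T_g_72 (T_g_n73_75 X) (Nat.ble (nat_lit 10245751) X)
noncomputable def T_g_n70_75 (X : ℕ) : ℕ := Bool.rec (motive := fun _ => ℕ) (T_g_n70_72 X) (T_g_n72_75 X) (Nat.ble (nat_lit 10179161) X)
noncomputable def T_g_n65_75 (X : ℕ) : ℕ := Bool.rec (motive := fun _ => ℕ) (T_g_n65_70 X) (T_g_n70_75 X) (Nat.ble (nat_lit 10046903) X)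
noncomputable def T_g_n56_75 (X : ℕ) : ℕ := Bool.rec (motive := fun _ => ℕ) (T_g_n56_65 X) (T_g_n65_75 X) (Nat.ble (nat_lit 9715969) X)
noncomputable def T_g_n37_75 (X : ℕ) : ℕ := Bool.rec (motive := fun _ => ℕ) (T_g_n37_56 X) (T_g_n56_75 X) (Nat.ble (nat_lit 9124417) X)
noncomputable def T_g_sel (X : ℕ) : ℕ := Bool.rec (motive := fun _ => ℕ) (T_g_n0_37 X) (T_g_n37_75 X) (Nat.ble (nat_lit 7881739) X)
noncomputable def F_g (q : ℕ) : ℕ := Nat.add (nat_lit 5500000) (Nat.mod (T_g_sel q) q)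
noncomputable def U_g_n0_2 (X : ℕ) : ℕ := Bool.rec (motive := fun _ => ℕ) U_g_0 U_g_1 (Nat.ble (nat_lit 5564497) X)
noncomputable def U_g_n2_4 (X : ℕ) : ℕ := Bool.rec (motive := fun _ => ℕ) U_g_2 U_g_3 (Nat.ble (nat_lit 5692157) X)
noncomputable def U_g_n0_4 (X : ℕ) : ℕ := Bool.rec (motive := fun _ => ℕ) (U_g_n0_2 X) (U_g_n2_4 X) (Nat.ble (nat_lit 5628131) X)
noncomputable def U_g_n4_6 (X : ℕ) : ℕ := Bool.rec (motive := fun _ => ℕ) U_g_4 U_g_5 (Nat.ble (nat_lit 5820037) X)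
noncomputable def U_g_n7_9 (X : ℕ) : ℕ := Bool.rec (motive := fun _ => ℕ) U_g_7 U_g_8 (Nat.ble (nat_lit 6010867) X)
noncomputable def U_g_n6_9 (X : ℕ) : ℕ := Bool.rec (motive := fun _ => ℕ) U_g_6 (U_g_n7_9 X) (Nat.ble (nat_lit 5946749) X)
noncomputable def U_g_n4_9 (X : ℕ) : ℕ := Bool.rec (motive := fun _ => ℕ) (U_g_n4_6 X) (U_g_n6_9 X) (Nat.ble (nat_lit 5883737) X)
noncomputable def U_g_n0_9 (X : ℕ) : ℕ := Bool.rec (motive := fun _ => ℕ) (U_g_n0_4 X) (U_g_n4_9 X) (Nat.ble (nat_lit 5755531) X)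
noncomputable def U_g_n9_11 (X : ℕ) : ℕ := Bool.rec (motive := fun _ => ℕ) U_g_9 U_g_10 (Nat.ble (nat_lit 6139249) X)
noncomputable def U_g_n11_13 (X : ℕ) : ℕ := Bool.rec (motive := fun _ => ℕ) U_g_11 U_g_12 (Nat.ble (nat_lit 6267619) X)
noncomputable def U_g_n9_13 (X : ℕ) : ℕ := Bool.rec (motive := fun _ => ℕ) (U_g_n9_11 X) (U_g_n11_13 X) (Nat.ble (nat_lit 6203143) X)
noncomputable def U_g_n13_15 (X : ℕ) : ℕ := Bool.rec (motive := fun _ => ℕ) U_g_13 U_g_14 (Nat.ble (nat_lit 6395947) X)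
noncomputable def U_g_n16_18 (X : ℕ) : ℕ := Bool.rec (motive := fun _ => ℕ) U_g_16 U_g_17 (Nat.ble (nat_lit 6588443) X)
noncomputable def U_g_n15_18 (X : ℕ) : ℕ := Bool.rec (motive := fun _ => ℕ) U_g_15 (U_g_n16_18 X) (Nat.ble (nat_lit 6524611) X)
noncomputable def U_g_n13_18 (X : ℕ) : ℕ := Bool.rec (motive := fun _ => ℕ) (U_g_n13_15 X) (U_g_n15_18 X) (Nat.ble (nat_lit 6460379) X)
noncomputable def U_g_n9_18 (X : ℕ) : ℕ := Bool.rec (motive := fun _ => ℕ) (U_g_n9_13 X) (U_g_n13_18 X) (Nat.ble (nat_lit 6330559) X)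
noncomputable def U_g_n0_18 (X : ℕ) : ℕ := Bool.rec (motive := fun _ => ℕ) (U_g_n0_9 X) (U_g_n9_18 X) (Nat.ble (nat_lit 6075263) X)
noncomputable def U_g_n18_20 (X : ℕ) : ℕ := Bool.rec (motive := fun _ => ℕ) U_g_18 U_g_19 (Nat.ble (nat_lit 6717307) X)
noncomputable def U_g_n20_22 (X : ℕ) : ℕ := Bool.rec (motive := fun _ => ℕ) U_g_20 U_g_21 (Nat.ble (nat_lit 6846031) X)
noncomputable def U_g_n18_22 (X : ℕ) : ℕ := Bool.rec (motive := fun _ => ℕ) (U_g_n18_20 X) (U_g_n20_22 X) (Nat.ble (nat_lit 6781547) X)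
noncomputable def U_g_n22_24 (X : ℕ) : ℕ := Bool.rec (motive := fun _ => ℕ) U_g_22 U_g_23 (Nat.ble (nat_lit 6974053) X)
noncomputable def U_g_n25_27 (X : ℕ) : ℕ := Bool.rec (motive := fun _ => ℕ) U_g_25 U_g_26 (Nat.ble (nat_lit 7167791) X)
noncomputable def U_g_n24_27 (X : ℕ) : ℕ := Bool.rec (motive := fun _ => ℕ) U_g_24 (U_g_n25_27 X) (Nat.ble (nat_lit 7102643) X)
noncomputable def U_g_n22_27 (X : ℕ) : ℕ := Bool.rec (motive := fun _ => ℕ) (U_g_n22_24 X) (U_g_n24_27 X) (Nat.ble (nat_lit 7038397) X)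
noncomputable def U_g_n18_27 (X : ℕ) : ℕ := Bool.rec (motive := fun _ => ℕ) (U_g_n18_22 X) (U_g_n22_27 X) (Nat.ble (nat_lit 6909907) X)
noncomputable def U_g_n27_29 (X : ℕ) : ℕ := Bool.rec (motive := fun _ => ℕ) U_g_27 U_g_28 (Nat.ble (nat_lit 7296983) X)
noncomputable def U_g_n30_32 (X : ℕ) : ℕ := Bool.rec (motive := fun _ => ℕ) U_g_30 U_g_31 (Nat.ble (nat_lit 7492031) X)
noncomputable def U_g_n29_32 (X : ℕ) : ℕ := Bool.rec (motive := fun _ => ℕ) U_g_29 (U_g_n30_32 X) (Nat.ble (nat_lit 7427041) X)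
noncomputable def U_g_n27_32 (X : ℕ) : ℕ := Bool.rec (motive := fun _ => ℕ) (U_g_n27_29 X) (U_g_n29_32 X) (Nat.ble (nat_lit 7362133) X)
noncomputable def U_g_n32_34 (X : ℕ) : ℕ := Bool.rec (motive := fun _ => ℕ) U_g_32 U_g_33 (Nat.ble (nat_lit 7622317) X)
noncomputable def U_g_n35_37 (X : ℕ) : ℕ := Bool.rec (motive := fun _ => ℕ) U_g_35 U_g_36 (Nat.ble (nat_lit 7817143) X)
noncomputable def U_g_n34_37 (X : ℕ) : ℕ := Bool.rec (motive := fun _ => ℕ) U_g_34 (U_g_n35_37 X) (Nat.ble (nat_lit 7752179) X)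
noncomputable def U_g_n32_37 (X : ℕ) : ℕ := Bool.rec (motive := fun _ => ℕ) (U_g_n32_34 X) (U_g_n34_37 X) (Nat.ble (nat_lit 7686893) X)
noncomputable def U_g_n27_37 (X : ℕ) : ℕ := Bool.rec (motive := fun _ => ℕ) (U_g_n27_32 X) (U_g_n32_37 X) (Nat.ble (nat_lit 7557091) X)
noncomputable def U_g_n18_37 (X : ℕ) : ℕ := Bool.rec (motive := fun _ => ℕ) (U_g_n18_27 X) (U_g_n27_37 X) (Nat.ble (nat_lit 7232899) X)
noncomputable def U_g_n0_37 (X : ℕ) : ℕ := Bool.rec (motive := fun _ => ℕ) (U_g_n0_18 X) (U_g_n18_37 X) (Nat.ble (nat_lit 6652979) X)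
noncomputable def U_g_n37_39 (X : ℕ) : ℕ := Bool.rec (motive := fun _ => ℕ) U_g_37 U_g_38 (Nat.ble (nat_lit 7946711) X)
noncomputable def U_g_n39_41 (X : ℕ) : ℕ := Bool.rec (motive := fun _ => ℕ) U_g_39 U_g_40 (Nat.ble (nat_lit 8077529) X)
noncomputable def U_g_n37_41 (X : ℕ) : ℕ := Bool.rec (motive := fun _ => ℕ) (U_g_n37_39 X) (U_g_n39_41 X) (Nat.ble (nat_lit 8012209) X)
noncomputable def U_g_n41_43 (X : ℕ) : ℕ := Bool.rec (motive := fun _ => ℕ) U_g_41 U_g_42 (Nat.ble (nat_lit 8208023) X)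
noncomputable def U_g_n44_46 (X : ℕ) : ℕ := Bool.rec (motive := fun _ => ℕ) U_g_44 U_g_45 (Nat.ble (nat_lit 8403817) X)
noncomputable def U_g_n43_46 (X : ℕ) : ℕ := Bool.rec (motive := fun _ => ℕ) U_g_43 (U_g_n44_46 X) (Nat.ble (nat_lit 8338643) X)
noncomputable def U_g_n41_46 (X : ℕ) : ℕ := Bool.rec (motive := fun _ => ℕ) (U_g_n41_43 X) (U_g_n43_46 X) (Nat.ble (nat_lit 8273477) X)
noncomputable def U_g_n37_46 (X : ℕ) : ℕ := Bool.rec (motive := fun _ => ℕ) (U_g_n37_41 X) (U_g_n41_46 X) (Nat.ble (nat_lit 8143277) X)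
noncomputable def U_g_n46_48 (X : ℕ) : ℕ := Bool.rec (motive := fun _ => ℕ) U_g_46 U_g_47 (Nat.ble (nat_lit 8534429) X)
noncomputable def U_g_n49_51 (X : ℕ) : ℕ := Bool.rec (motive := fun _ => ℕ) U_g_49 U_g_50 (Nat.ble (nat_lit 8729821) X)
noncomputable def U_g_n48_51 (X : ℕ) : ℕ := Bool.rec (motive := fun _ => ℕ) U_g_48 (U_g_n49_51 X) (Nat.ble (nat_lit 8664559) X)
noncomputable def U_g_n46_51 (X : ℕ) : ℕ := Bool.rec (motive := fun _ => ℕ) (U_g_n46_48 X) (U_g_n48_51 X) (Nat.ble (nat_lit 8599469) X)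
noncomputable def U_g_n51_53 (X : ℕ) : ℕ := Bool.rec (motive := fun _ => ℕ) U_g_51 U_g_52 (Nat.ble (nat_lit 8861159) X)
noncomputable def U_g_n54_56 (X : ℕ) : ℕ := Bool.rec (motive := fun _ => ℕ) U_g_54 U_g_55 (Nat.ble (nat_lit 9058837) X)
noncomputable def U_g_n53_56 (X : ℕ) : ℕ := Bool.rec (motive := fun _ => ℕ) U_g_53 (U_g_n54_56 X) (Nat.ble (nat_lit 8992199) X)
noncomputable def U_g_n51_56 (X : ℕ) : ℕ := Bool.rec (motive := fun _ => ℕ) (U_g_n51_53 X) (U_g_n53_56 X) (Nat.ble (nat_lit 8926363) X)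
noncomputable def U_g_n46_56 (X : ℕ) : ℕ := Bool.rec (motive := fun _ => ℕ) (U_g_n46_51 X) (U_g_n51_56 X) (Nat.ble (nat_lit 8795047) X)
noncomputable def U_g_n37_56 (X : ℕ) : ℕ := Bool.rec (motive := fun _ => ℕ) (U_g_n37_46 X) (U_g_n46_56 X) (Nat.ble (nat_lit 8469977) X)
noncomputable def U_g_n56_58 (X : ℕ) : ℕ := Bool.rec (motive := fun _ => ℕ) U_g_56 U_g_57 (Nat.ble (nat_lit 9189703) X)
noncomputable def U_g_n58_60 (X : ℕ) : ℕ := Bool.rec (motive := fun _ => ℕ) U_g_58 U_g_59 (Nat.ble (nat_lit 9320833) X)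
noncomputable def U_g_n56_60 (X : ℕ) : ℕ := Bool.rec (motive := fun _ => ℕ) (U_g_n56_58 X) (U_g_n58_60 X) (Nat.ble (nat_lit 9255023) X)
noncomputable def U_g_n60_62 (X : ℕ) : ℕ := Bool.rec (motive := fun _ => ℕ) U_g_60 U_g_61 (Nat.ble (nat_lit 9452537) X)
noncomputable def U_g_n63_65 (X : ℕ) : ℕ := Bool.rec (motive := fun _ => ℕ) U_g_63 U_g_64 (Nat.ble (nat_lit 9649747) X)
noncomputable def U_g_n62_65 (X : ℕ) : ℕ := Bool.rec (motive := fun _ => ℕ) U_g_62 (U_g_n63_65 X) (Nat.ble (nat_lit 9584063) X)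
noncomputable def U_g_n60_65 (X : ℕ) : ℕ := Bool.rec (motive := fun _ => ℕ) (U_g_n60_62 X) (U_g_n62_65 X) (Nat.ble (nat_lit 9518723) X)
noncomputable def U_g_n56_65 (X : ℕ) : ℕ := Bool.rec (motive := fun _ => ℕ) (U_g_n56_60 X) (U_g_n60_65 X) (Nat.ble (nat_lit 9386471) X)
noncomputable def U_g_n65_67 (X : ℕ) : ℕ := Bool.rec (motive := fun _ => ℕ) U_g_65 U_g_66 (Nat.ble (nat_lit 9782029) X)
noncomputable def U_g_n68_70 (X : ℕ) : ℕ := Bool.rec (motive := fun _ => ℕ) U_g_68 U_g_69 (Nat.ble (nat_lit 9980857) X)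
noncomputable def U_g_n67_70 (X : ℕ) : ℕ := Bool.rec (motive := fun _ => ℕ) U_g_67 (U_g_n68_70 X) (Nat.ble (nat_lit 9914617) X)
noncomputable def U_g_n65_70 (X : ℕ) : ℕ := Bool.rec (motive := fun _ => ℕ) (U_g_n65_67 X) (U_g_n67_70 X) (Nat.ble (nat_lit 9847967) X)
noncomputable def U_g_n70_72 (X : ℕ) : ℕ := Bool.rec (motive := fun _ => ℕ) U_g_70 U_g_71 (Nat.ble (nat_lit 10112897) X)
noncomputable def U_g_n73_75 (X : ℕ) : ℕ := Bool.rec (motive := fun _ => ℕ) U_g_73 U_g_74 (Nat.ble (nat_lit 10311997) X)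
noncomputable def U_g_n72_75 (X : ℕ) : ℕ := Bool.rec (motive := fun _ => ℕ) U_g_72 (U_g_n73_75 X) (Nat.ble (nat_lit 10245751) X)
noncomputable def U_g_n70_75 (X : ℕ) : ℕ := Bool.rec (motive := fun _ => ℕ) (U_g_n70_72 X) (U_g_n72_75 X) (Nat.ble (nat_lit 10179161) X)
noncomputable def U_g_n65_75 (X : ℕ) : ℕ := Bool.rec (motive := fun _ => ℕ) (U_g_n65_70 X) (U_g_n70_75 X) (Nat.ble (nat_lit 10046903) X)
noncomputable def U_g_n56_75 (X : ℕ) : ℕ := Bool.rec (motive := fun _ => ℕ) (U_g_n56_65 X) (U_g_n65_75 X) (Nat.ble (nat_lit 9715969) X)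
noncomputable def U_g_n37_75 (X : ℕ) : ℕ := Bool.rec (motive := fun _ => ℕ) (U_g_n37_56 X) (U_g_n56_75 X) (Nat.ble (nat_lit 9124417) X)
noncomputable def U_g_sel (X : ℕ) : ℕ := Bool.rec (motive := fun _ => ℕ) (U_g_n0_37 X) (U_g_n37_75 X) (Nat.ble (nat_lit 7881739) X)
noncomputable def UU_g (q : ℕ) : ℕ := (Nat.mod (U_g_sel q) q)
noncomputable def V_g_n0_2 (X : ℕ) : ℕ := Bool.rec (motive := fun _ => ℕ) V_g_0 V_g_1 (Nat.ble (nat_lit 5564497) X)
noncomputable def V_g_n2_4 (X : ℕ) : ℕ := Bool.rec (motive := fun _ => ℕ) V_g_2 V_g_3 (Nat.ble (nat_lit 5692157) X)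
noncomputable def V_g_n0_4 (X : ℕ) : ℕ := Bool.rec (motive := fun _ => ℕ) (V_g_n0_2 X) (V_g_n2_4 X) (Nat.ble (nat_lit 5628131) X)
noncomputable def V_g_n4_6 (X : ℕ) : ℕ := Bool.rec (motive := fun _ => ℕ) V_g_4 V_g_5 (Nat.ble (nat_lit 5820037) X)
noncomputable def V_g_n7_9 (X : ℕ) : ℕ := Bool.rec (motive := fun _ => ℕ) V_g_7 V_g_8 (Nat.ble (nat_lit 6010867) X)
noncomputable def V_g_n6_9 (X : ℕ) : ℕ := Bool.rec (motive := fun _ => ℕ) V_g_6 (V_g_n7_9 X) (Nat.ble (nat_lit 5946749) X)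
noncomputable def V_g_n4_9 (X : ℕ) : ℕ := Bool.rec (motive := fun _ => ℕ) (V_g_n4_6 X) (V_g_n6_9 X) (Nat.ble (nat_lit 5883737) X)
noncomputable def V_g_n0_9 (X : ℕ) : ℕ := Bool.rec (motive := fun _ => ℕ) (V_g_n0_4 X) (V_g_n4_9 X) (Nat.ble (nat_lit 5755531) X)
noncomputable def V_g_n9_11 (X : ℕ) : ℕ := Bool.rec (motive := fun _ => ℕ) V_g_9 V_g_10 (Nat.ble (nat_lit 6139249) X)
noncomputable def V_g_n11_13 (X : ℕ) : ℕ := Bool.rec (motive := fun _ => ℕ) V_g_11 V_g_12 (Nat.ble (nat_lit 6267619) X)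
noncomputable def V_g_n9_13 (X : ℕ) : ℕ := Bool.rec (motive := fun _ => ℕ) (V_g_n9_11 X) (V_g_n11_13 X) (Nat.ble (nat_lit 6203143) X)
noncomputable def V_g_n13_15 (X : ℕ) : ℕ := Bool.rec (motive := fun _ => ℕ) V_g_13 V_g_14 (Nat.ble (nat_lit 6395947) X)
noncomputable def V_g_n16_18 (X : ℕ) : ℕ := Bool.rec (motive := fun _ => ℕ) V_g_16 V_g_17 (Nat.ble (nat_lit 6588443) X)
noncomputable def V_g_n15_18 (X : ℕ) : ℕ := Bool.rec (motive := fun _ => ℕ) V_g_15 (V_g_n16_18 X) (Nat.ble (nat_lit 6524611) X)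
noncomputable def V_g_n13_18 (X : ℕ) : ℕ := Bool.rec (motive := fun _ => ℕ) (V_g_n13_15 X) (V_g_n15_18 X) (Nat.ble (nat_lit 6460379) X)
noncomputable def V_g_n9_18 (X : ℕ) : ℕ := Bool.rec (motive := fun _ => ℕ) (V_g_n9_13 X) (V_g_n13_18 X) (Nat.ble (nat_lit 6330559) X)
noncomputable def V_g_n0_18 (X : ℕ) : ℕ := Bool.rec (motive := fun _ => ℕ) (V_g_n0_9 X) (V_g_n9_18 X) (Nat.ble (nat_lit 6075263) X)
noncomputable def V_g_n18_20 (X : ℕ) : ℕ := Bool.rec (motive := fun _ => ℕ) V_g_18 V_g_19 (Nat.ble (nat_lit 6717307) X)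
noncomputable def V_g_n20_22 (X : ℕ) : ℕ := Bool.rec (motive := fun _ => ℕ) V_g_20 V_g_21 (Nat.ble (nat_lit 6846031) X)
noncomputable def V_g_n18_22 (X : ℕ) : ℕ := Bool.rec (motive := fun _ => ℕ) (V_g_n18_20 X) (V_g_n20_22 X) (Nat.ble (nat_lit 6781547) X)
noncomputable def V_g_n22_24 (X : ℕ) : ℕ := Bool.rec (motive := fun _ => ℕ) V_g_22 V_g_23 (Nat.ble (nat_lit 6974053) X)
noncomputable def V_g_n25_27 (X : ℕ) : ℕ := Bool.rec (motive := fun _ => ℕ) V_g_25 V_g_26 (Nat.ble (nat_lit 7167791) X)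
noncomputable def V_g_n24_27 (X : ℕ) : ℕ := Bool.rec (motive := fun _ => ℕ) V_g_24 (V_g_n25_27 X) (Nat.ble (nat_lit 7102643) X)
noncomputable def V_g_n22_27 (X : ℕ) : ℕ := Bool.rec (motive := fun _ => ℕ) (V_g_n22_24 X) (V_g_n24_27 X) (Nat.ble (nat_lit 7038397) X)
noncomputable def V_g_n18_27 (X : ℕ) : ℕ := Bool.rec (motive := fun _ => ℕ) (V_g_n18_22 X) (V_g_n22_27 X) (Nat.ble (nat_lit 6909907) X)
noncomputable def V_g_n27_29 (X : ℕ) : ℕ := Bool.rec (motive := fun _ => ℕ) V_g_27 V_g_28 (Nat.ble (nat_lit 7296983) X)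
noncomputable def V_g_n30_32 (X : ℕ) : ℕ := Bool.rec (motive := fun _ => ℕ) V_g_30 V_g_31 (Nat.ble (nat_lit 7492031) X)
noncomputable def V_g_n29_32 (X : ℕ) : ℕ := Bool.rec (motive := fun _ => ℕ) V_g_29 (V_g_n30_32 X) (Nat.ble (nat_lit 7427041) X)
noncomputable def V_g_n27_32 (X : ℕ) : ℕ := Bool.rec (motive := fun _ => ℕ) (V_g_n27_29 X) (V_g_n29_32 X) (Nat.ble (nat_lit 7362133) X)
noncomputable def V_g_n32_34 (X : ℕ) : ℕ := Bool.rec (motive := fun _ => ℕ) V_g_32 V_g_33 (Nat.ble (nat_lit 7622317) X)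
noncomputable def V_g_n35_37 (X : ℕ) : ℕ := Bool.rec (motive := fun _ => ℕ) V_g_35 V_g_36 (Nat.ble (nat_lit 7817143) X)
noncomputable def V_g_n34_37 (X : ℕ) : ℕ := Bool.rec (motive := fun _ => ℕ) V_g_34 (V_g_n35_37 X) (Nat.ble (nat_lit 7752179) X)
noncomputable def V_g_n32_37 (X : ℕ) : ℕ := Bool.rec (motive := fun _ => ℕ) (V_g_n32_34 X) (V_g_n34_37 X) (Nat.ble (nat_lit 7686893) X)
noncomputable def V_g_n27_37 (X : ℕ) : ℕ := Bool.rec (motive := fun _ => ℕ) (V_g_n27_32 X) (V_g_n32_37 X) (Nat.ble (nat_lit 7557091) X)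
noncomputable def V_g_n18_37 (X : ℕ) : ℕ := Bool.rec (motive := fun _ => ℕ) (V_g_n18_27 X) (V_g_n27_37 X) (Nat.ble (nat_lit 7232899) X)
noncomputable def V_g_n0_37 (X : ℕ) : ℕ := Bool.rec (motive := fun _ => ℕ) (V_g_n0_18 X) (V_g_n18_37 X) (Nat.ble (nat_lit 6652979) X)
noncomputable def V_g_n37_39 (X : ℕ) : ℕ := Bool.rec (motive := fun _ => ℕ) V_g_37 V_g_38 (Nat.ble (nat_lit 7946711) X)
noncomputable def V_g_n39_41 (X : ℕ) : ℕ := Bool.rec (motive := fun _ => ℕ) V_g_39 V_g_40 (Nat.ble (nat_lit 8077529) X)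
noncomputable def V_g_n37_41 (X : ℕ) : ℕ := Bool.rec (motive := fun _ => ℕ) (V_g_n37_39 X) (V_g_n39_41 X) (Nat.ble (nat_lit 8012209) X)
noncomputable def V_g_n41_43 (X : ℕ) : ℕ := Bool.rec (motive := fun _ => ℕ) V_g_41 V_g_42 (Nat.ble (nat_lit 8208023) X)
noncomputable def V_g_n44_46 (X : ℕ) : ℕ := Bool.rec (motive := fun _ => ℕ) V_g_44 V_g_45 (Nat.ble (nat_lit 8403817) X)
noncomputable def V_g_n43_46 (X : ℕ) : ℕ := Bool.rec (motive := fun _ => ℕ) V_g_43 (V_g_n44_46 X) (Nat.ble (nat_lit 8338643) X)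
noncomputable def V_g_n41_46 (X : ℕ) : ℕ := Bool.rec (motive := fun _ => ℕ) (V_g_n41_43 X) (V_g_n43_46 X) (Nat.ble (nat_lit 8273477) X)
noncomputable def V_g_n37_46 (X : ℕ) : ℕ := Bool.rec (motive := fun _ => ℕ) (V_g_n37_41 X) (V_g_n41_46 X) (Nat.ble (nat_lit 8143277) X)
noncomputable def V_g_n46_48 (X : ℕ) : ℕ := Bool.rec (motive := fun _ => ℕ) V_g_46 V_g_47 (Nat.ble (nat_lit 8534429) X)
noncomputable def V_g_n49_51 (X : ℕ) : ℕ := Bool.rec (motive := fun _ => ℕ) V_g_49 V_g_50 (Nat.ble (nat_lit 8729821) X)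
noncomputable def V_g_n48_51 (X : ℕ) : ℕ := Bool.rec (motive := fun _ => ℕ) V_g_48 (V_g_n49_51 X) (Nat.ble (nat_lit 8664559) X)
noncomputable def V_g_n46_51 (X : ℕ) : ℕ := Bool.rec (motive := fun _ => ℕ) (V_g_n46_48 X) (V_g_n48_51 X) (Nat.ble (nat_lit 8599469) X)
noncomputable def V_g_n51_53 (X : ℕ) : ℕ := Bool.rec (motive := fun _ => ℕ) V_g_51 V_g_52 (Nat.ble (nat_lit 8861159) X)
noncomputable def V_g_n54_56 (X : ℕ) : ℕ := Bool.rec (motive := fun _ => ℕ) V_g_54 V_g_55 (Nat.ble (nat_lit 9058837) X)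
noncomputable def V_g_n53_56 (X : ℕ) : ℕ := Bool.rec (motive := fun _ => ℕ) V_g_53 (V_g_n54_56 X) (Nat.ble (nat_lit 8992199) X)
noncomputable def V_g_n51_56 (X : ℕ) : ℕ := Bool.rec (motive := fun _ => ℕ) (V_g_n51_53 X) (V_g_n53_56 X) (Nat.ble (nat_lit 8926363) X)
noncomputable def V_g_n46_56 (X : ℕ) : ℕ := Bool.rec (motive := fun _ => ℕ) (V_g_n46_51 X) (V_g_n51_56 X) (Nat.ble (nat_lit 8795047) X)
noncomputable def V_g_n37_56 (X : ℕ) : ℕ := Bool.rec (motive := fun _ => ℕ) (V_g_n37_46 X) (V_g_n46_56 X) (Nat.ble (nat_lit 8469977) X)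
noncomputable def V_g_n56_58 (X : ℕ) : ℕ := Bool.rec (motive := fun _ => ℕ) V_g_56 V_g_57 (Nat.ble (nat_lit 9189703) X)
noncomputable def V_g_n58_60 (X : ℕ) : ℕ := Bool.rec (motive := fun _ => ℕ) V_g_58 V_g_59 (Nat.ble (nat_lit 9320833) X)
noncomputable def V_g_n56_60 (X : ℕ) : ℕ := Bool.rec (motive := fun _ => ℕ) (V_g_n56_58 X) (V_g_n58_60 X) (Nat.ble (nat_lit 9255023) X)
noncomputable def V_g_n60_62 (X : ℕ) : ℕ := Bool.rec (motive := fun _ => ℕ) V_g_60 V_g_61 (Nat.ble (nat_lit 9452537) X)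
noncomputable def V_g_n63_65 (X : ℕ) : ℕ := Bool.rec (motive := fun _ => ℕ) V_g_63 V_g_64 (Nat.ble (nat_lit 9649747) X)
noncomputable def V_g_n62_65 (X : ℕ) : ℕ := Bool.rec (motive := fun _ => ℕ) V_g_62 (V_g_n63_65 X) (Nat.ble (nat_lit 9584063) X)
noncomputable def V_g_n60_65 (X : ℕ) : ℕ := Bool.rec (motive := fun _ => ℕ) (V_g_n60_62 X) (V_g_n62_65 X) (Nat.ble (nat_lit 9518723) X)
noncomputable def V_g_n56_65 (X : ℕ) : ℕ := Bool.rec (motive := fun _ => ℕ) (V_g_n56_60 X) (V_g_n60_65 X) (Nat.ble (nat_lit 9386471) X)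
noncomputable def V_g_n65_67 (X : ℕ) : ℕ := Bool.rec (motive := fun _ => ℕ) V_g_65 V_g_66 (Nat.ble (nat_lit 9782029) X)
noncomputable def V_g_n68_70 (X : ℕ) : ℕ := Bool.rec (motive := fun _ => ℕ) V_g_68 V_g_69 (Nat.ble (nat_lit 9980857) X)
noncomputable def V_g_n67_70 (X : ℕ) : ℕ := Bool.rec (motive := fun _ => ℕ) V_g_67 (V_g_n68_70 X) (Nat.ble (nat_lit 9914617) X)
noncomputable def V_g_n65_70 (X : ℕ) : ℕ := Bool.rec (motive := fun _ => ℕ) (V_g_n65_67 X) (V_g_n67_70 X) (Nat.ble (nat_lit 9847967) X)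
noncomputable def V_g_n70_72 (X : ℕ) : ℕ := Bool.rec (motive := fun _ => ℕ) V_g_70 V_g_71 (Nat.ble (nat_lit 10112897) X)
noncomputable def V_g_n73_75 (X : ℕ) : ℕ := Bool.rec (motive := fun _ => ℕ) V_g_73 V_g_74 (Nat.ble (nat_lit 10311997) X)
noncomputable def V_g_n72_75 (X : ℕ) : ℕ := Bool.rec (motive := fun _ => ℕ) V_g_72 (V_g_n73_75 X) (Nat.ble (nat_lit 10245751) X)
noncomputable def V_g_n70_75 (X : ℕ) : ℕ := Bool.rec (motive := fun _ => ℕ) (V_g_n70_72 X) (V_g_n72_75 X) (Nat.ble (nat_lit 10179161) X)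
noncomputable def V_g_n65_75 (X : ℕ) : ℕ := Bool.rec (motive := fun _ => ℕ) (V_g_n65_70 X) (V_g_n70_75 X) (Nat.ble (nat_lit 10046903) X)
noncomputable def V_g_n56_75 (X : ℕ) : ℕ := Bool.rec (motive := fun _ => ℕ) (V_g_n56_65 X) (V_g_n65_75 X) (Nat.ble (nat_lit 9715969) X)
noncomputable def V_g_n37_75 (X : ℕ) : ℕ := Bool.rec (motive := fun _ => ℕ) (V_g_n37_56 X) (V_g_n56_75 X) (Nat.ble (nat_lit 9124417) X)
noncomputable def V_g_sel (X : ℕ) : ℕ := Bool.rec (motive := fun _ => ℕ) (V_g_n0_37 X) (V_g_n37_75 X) (Nat.ble (nat_lit 7881739) X)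
noncomputable def VV_g (q : ℕ) : ℕ := (Nat.mod (V_g_sel q) q)
noncomputable def G_g (t q : ℕ) : ℕ := Bool.rec (motive := fun _ => ℕ) (nat_lit 0) (F_g q) (Nat.ble (Nat.succ (UU_g q)) t)
noncomputable def T_j_n0_2 (X : ℕ) : ℕ := Bool.rec (motive := fun _ => ℕ) T_j_0 T_j_1 (Nat.ble (nat_lit 5564497) X)
noncomputable def T_j_n2_4 (X : ℕ) : ℕ := Bool.rec (motive := fun _ => ℕ) T_j_2 T_j_3 (Nat.ble (nat_lit 5692157) X)
noncomputable def T_j_n0_4 (X : ℕ) : ℕ := Bool.rec (motive := fun _ => ℕ) (T_j_n0_2 X) (T_j_n2_4 X) (Nat.ble (nat_lit 5628131) X)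
noncomputable def T_j_n4_6 (X : ℕ) : ℕ := Bool.rec (motive := fun _ => ℕ) T_j_4 T_j_5 (Nat.ble (nat_lit 5820037) X)
noncomputable def T_j_n7_9 (X : ℕ) : ℕ := Bool.rec (motive := fun _ => ℕ) T_j_7 T_j_8 (Nat.ble (nat_lit 6010867) X)
noncomputable def T_j_n6_9 (X : ℕ) : ℕ := Bool.rec (motive := fun _ => ℕ) T_j_6 (T_j_n7_9 X) (Nat.ble (nat_lit 5946749) X)
noncomputable def T_j_n4_9 (X : ℕ) : ℕ := Bool.rec (motive := fun _ => ℕ) (T_j_n4_6 X) (T_j_n6_9 X) (Nat.ble (nat_lit 5883737) X)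
noncomputable def T_j_n0_9 (X : ℕ) : ℕ := Bool.rec (motive := fun _ => ℕ) (T_j_n0_4 X) (T_j_n4_9 X) (Nat.ble (nat_lit 5755531) X)
noncomputable def T_j_n9_11 (X : ℕ) : ℕ := Bool.rec (motive := fun _ => ℕ) T_j_9 T_j_10 (Nat.ble (nat_lit 6139249) X)
noncomputable def T_j_n11_13 (X : ℕ) : ℕ := Bool.rec (motive := fun _ => ℕ) T_j_11 T_j_12 (Nat.ble (nat_lit 6267619) X)
noncomputable def T_j_n9_13 (X : ℕ) : ℕ := Bool.rec (motive := fun _ => ℕ) (T_j_n9_11 X) (T_j_n11_13 X) (Nat.ble (nat_lit 6203143) X)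
noncomputable def T_j_n13_15 (X : ℕ) : ℕ := Bool.rec (motive := fun _ => ℕ) T_j_13 T_j_14 (Nat.ble (nat_lit 6395947) X)
noncomputable def T_j_n16_18 (X : ℕ) : ℕ := Bool.rec (motive := fun _ => ℕ) T_j_16 T_j_17 (Nat.ble (nat_lit 6588443) X)
noncomputable def T_j_n15_18 (X : ℕ) : ℕ := Bool.rec (motive := fun _ => ℕ) T_j_15 (T_j_n16_18 X) (Nat.ble (nat_lit 6524611) X)
noncomputable def T_j_n13_18 (X : ℕ) : ℕ := Bool.rec (motive := fun _ => ℕ) (T_j_n13_15 X) (T_j_n15_18 X) (Nat.ble (nat_lit 6460379) X)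
noncomputable def T_j_n9_18 (X : ℕ) : ℕ := Bool.rec (motive := fun _ => ℕ) (T_j_n9_13 X) (T_j_n13_18 X) (Nat.ble (nat_lit 6330559) X)
noncomputable def T_j_n0_18 (X : ℕ) : ℕ := Bool.rec (motive := fun _ => ℕ) (T_j_n0_9 X) (T_j_n9_18 X) (Nat.ble (nat_lit 6075263) X)
noncomputable def T_j_n18_20 (X : ℕ) : ℕ := Bool.rec (motive := fun _ => ℕ) T_j_18 T_j_19 (Nat.ble (nat_lit 6717307) X)
noncomputable def T_j_n20_22 (X : ℕ) : ℕ := Bool.rec (motive := fun _ => ℕ) T_j_20 T_j_21 (Nat.ble (nat_lit 6846031) X)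
noncomputable def T_j_n18_22 (X : ℕ) : ℕ := Bool.rec (motive := fun _ => ℕ) (T_j_n18_20 X) (T_j_n20_22 X) (Nat.ble (nat_lit 6781547) X)
noncomputable def T_j_n22_24 (X : ℕ) : ℕ := Bool.rec (motive := fun _ => ℕ) T_j_22 T_j_23 (Nat.ble (nat_lit 6974053) X)
noncomputable def T_j_n25_27 (X : ℕ) : ℕ := Bool.rec (motive := fun _ => ℕ) T_j_25 T_j_26 (Nat.ble (nat_lit 7167791) X)
noncomputable def T_j_n24_27 (X : ℕ) : ℕ := Bool.rec (motive := fun _ => ℕ) T_j_24 (T_j_n25_27 X) (Nat.ble (nat_lit 7102643) X)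
noncomputable def T_j_n22_27 (X : ℕ) : ℕ := Bool.rec (motive := fun _ => ℕ) (T_j_n22_24 X) (T_j_n24_27 X) (Nat.ble (nat_lit 7038397) X)
noncomputable def T_j_n18_27 (X : ℕ) : ℕ := Bool.rec (motive := fun _ => ℕ) (T_j_n18_22 X) (T_j_n22_27 X) (Nat.ble (nat_lit 6909907) X)
noncomputable def T_j_n27_29 (X : ℕ) : ℕ := Bool.rec (motive := fun _ => ℕ) T_j_27 T_j_28 (Nat.ble (nat_lit 7296983) X)
noncomputable def T_j_n30_32 (X : ℕ) : ℕ := Bool.rec (motive := fun _ => ℕ) T_j_30 T_j_31 (Nat.ble (nat_lit 7492031) X)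
noncomputable def T_j_n29_32 (X : ℕ) : ℕ := Bool.rec (motive := fun _ => ℕ) T_j_29 (T_j_n30_32 X) (Nat.ble (nat_lit 7427041) X)
noncomputable def T_j_n27_32 (X : ℕ) : ℕ := Bool.rec (motive := fun _ => ℕ) (T_j_n27_29 X) (T_j_n29_32 X) (Nat.ble (nat_lit 7362133) X)
noncomputable def T_j_n32_34 (X : ℕ) : ℕ := Bool.rec (motive := fun _ => ℕ) T_j_32 T_j_33 (Nat.ble (nat_lit 7622317) X)
noncomputable def T_j_n35_37 (X : ℕ) : ℕ := Bool.rec (motive := fun _ => ℕ) T_j_35 T_j_36 (Nat.ble (nat_lit 7817143) X)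
noncomputable def T_j_n34_37 (X : ℕ) : ℕ := Bool.rec (motive := fun _ => ℕ) T_j_34 (T_j_n35_37 X) (Nat.ble (nat_lit 7752179) X)
noncomputable def T_j_n32_37 (X : ℕ) : ℕ := Bool.rec (motive := fun _ => ℕ) (T_j_n32_34 X) (T_j_n34_37 X) (Nat.ble (nat_lit 7686893) X)
noncomputable def T_j_n27_37 (X : ℕ) : ℕ := Bool.rec (motive := fun _ => ℕ) (T_j_n27_32 X) (T_j_n32_37 X) (Nat.ble (nat_lit 7557091) X)
noncomputable def T_j_n18_37 (X : ℕ) : ℕ := Bool.rec (motive := fun _ => ℕ) (T_j_n18_27 X) (T_j_n27_37 X) (Nat.ble (nat_lit 7232899) X)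
noncomputable def T_j_n0_37 (X : ℕ) : ℕ := Bool.rec (motive := fun _ => ℕ) (T_j_n0_18 X) (T_j_n18_37 X) (Nat.ble (nat_lit 6652979) X)
noncomputable def T_j_n37_39 (X : ℕ) : ℕ := Bool.rec (motive := fun _ => ℕ) T_j_37 T_j_38 (Nat.ble (nat_lit 7946711) X)
noncomputable def T_j_n39_41 (X : ℕ) : ℕ := Bool.rec (motive := fun _ => ℕ) T_j_39 T_j_40 (Nat.ble (nat_lit 8077529) X)
noncomputable def T_j_n37_41 (X : ℕ) : ℕ := Bool.rec (motive := fun _ => ℕ) (T_j_n37_39 X) (T_j_n39_41 X) (Nat.ble (nat_lit 8012209) X)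
noncomputable def T_j_n41_43 (X : ℕ) : ℕ := Bool.rec (motive := fun _ => ℕ) T_j_41 T_j_42 (Nat.ble (nat_lit 8208023) X)
noncomputable def T_j_n44_46 (X : ℕ) : ℕ := Bool.rec (motive := fun _ => ℕ) T_j_44 T_j_45 (Nat.ble (nat_lit 8403817) X)
noncomputable def T_j_n43_46 (X : ℕ) : ℕ := Bool.rec (motive := fun _ => ℕ) T_j_43 (T_j_n44_46 X) (Nat.ble (nat_lit 8338643) X)
noncomputable def T_j_n41_46 (X : ℕ) : ℕ := Bool.rec (motive := fun _ => ℕ) (T_j_n41_43 X) (T_j_n43_46 X) (Nat.ble (nat_lit 8273477) X)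
noncomputable def T_j_n37_46 (X : ℕ) : ℕ := Bool.rec (motive := fun _ => ℕ) (T_j_n37_41 X) (T_j_n41_46 X) (Nat.ble (nat_lit 8143277) X)
noncomputable def T_j_n46_48 (X : ℕ) : ℕ := Bool.rec (motive := fun _ => ℕ) T_j_46 T_j_47 (Nat.ble (nat_lit 8534429) X)
noncomputable def T_j_n49_51 (X : ℕ) : ℕ := Bool.rec (motive := fun _ => ℕ) T_j_49 T_j_50 (Nat.ble (nat_lit 8729821) X)
noncomputable def T_j_n48_51 (X : ℕ) : ℕ := Bool.rec (motive := fun _ => ℕ) T_j_48 (T_j_n49_51 X) (Nat.ble (nat_lit 8664559) X)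
noncomputable def T_j_n46_51 (X : ℕ) : ℕ := Bool.rec (motive := fun _ => ℕ) (T_j_n46_48 X) (T_j_n48_51 X) (Nat.ble (nat_lit 8599469) X)
noncomputable def T_j_n51_53 (X : ℕ) : ℕ := Bool.rec (motive := fun _ => ℕ) T_j_51 T_j_52 (Nat.ble (nat_lit 8861159) X)
noncomputable def T_j_n54_56 (X : ℕ) : ℕ := Bool.rec (motive := fun _ => ℕ) T_j_54 T_j_55 (Nat.ble (nat_lit 9058837) X)
noncomputable def T_j_n53_56 (X : ℕ) : ℕ := Bool.rec (motive := fun _ => ℕ) T_j_53 (T_j_n54_56 X) (Nat.ble (nat_lit 8992199) X)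
noncomputable def T_j_n51_56 (X : ℕ) : ℕ := Bool.rec (motive := fun _ => ℕ) (T_j_n51_53 X) (T_j_n53_56 X) (Nat.ble (nat_lit 8926363) X)
noncomputable def T_j_n46_56 (X : ℕ) : ℕ := Bool.rec (motive := fun _ => ℕ) (T_j_n46_51 X) (T_j_n51_56 X) (Nat.ble (nat_lit 8795047) X)
noncomputable def T_j_n37_56 (X : ℕ) : ℕ := Bool.rec (motive := fun _ => ℕ) (T_j_n37_46 X) (T_j_n46_56 X) (Nat.ble (nat_lit 8469977) X)
noncomputable def T_j_n56_58 (X : ℕ) : ℕ := Bool.rec (motive := fun _ => ℕ) T_j_56 T_j_57 (Nat.ble (nat_lit 9189703) X)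
noncomputable def T_j_n58_60 (X : ℕ) : ℕ := Bool.rec (motive := fun _ => ℕ) T_j_58 T_j_59 (Nat.ble (nat_lit 9320833) X)
noncomputable def T_j_n56_60 (X : ℕ) : ℕ := Bool.rec (motive := fun _ => ℕ) (T_j_n56_58 X) (T_j_n58_60 X) (Nat.ble (nat_lit 9255023) X)
noncomputable def T_j_n60_62 (X : ℕ) : ℕ := Bool.rec (motive := fun _ => ℕ) T_j_60 T_j_61 (Nat.ble (nat_lit 9452537) X)
noncomputable def T_j_n63_65 (X : ℕ) : ℕ := Bool.rec (motive := fun _ => ℕ) T_j_63 T_j_64 (Nat.ble (nat_lit 9649747) X)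
noncomputable def T_j_n62_65 (X : ℕ) : ℕ := Bool.rec (motive := fun _ => ℕ) T_j_62 (T_j_n63_65 X) (Nat.ble (nat_lit 9584063) X)
noncomputable def T_j_n60_65 (X : ℕ) : ℕ := Bool.rec (motive := fun _ => ℕ) (T_j_n60_62 X) (T_j_n62_65 X) (Nat.ble (nat_lit 9518723) X)
noncomputable def T_j_n56_65 (X : ℕ) : ℕ := Bool.rec (motive := fun _ => ℕ) (T_j_n56_60 X) (T_j_n60_65 X) (Nat.ble (nat_lit 9386471) X)
noncomputable def T_j_n65_67 (X : ℕ) : ℕ := Bool.rec (motive := fun _ => ℕ) T_j_65 T_j_66 (Nat.ble (nat_lit 9782029) X)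
noncomputable def T_j_n68_70 (X : ℕ) : ℕ := Bool.rec (motive := fun _ => ℕ) T_j_68 T_j_69 (Nat.ble (nat_lit 9980857) X)
noncomputable def T_j_n67_70 (X : ℕ) : ℕ := Bool.rec (motive := fun _ => ℕ) T_j_67 (T_j_n68_70 X) (Nat.ble (nat_lit 9914617) X)
noncomputable def T_j_n65_70 (X : ℕ) : ℕ := Bool.rec (motive := fun _ => ℕ) (T_j_n65_67 X) (T_j_n67_70 X) (Nat.ble (nat_lit 9847967) X)
noncomputable def T_j_n70_72 (X : ℕ) : ℕ := Bool.rec (motive := fun _ => ℕ) T_j_70 T_j_71 (Nat.ble (nat_lit 10112897) X)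
noncomputable def T_j_n73_75 (X : ℕ) : ℕ := Bool.rec (motive := fun _ => ℕ) T_j_73 T_j_74 (Nat.ble (nat_lit 10311997) X)
noncomputable def T_j_n72_75 (X : ℕ) : ℕ := Bool.rec (motive := fun _ => ℕ) T_j_72 (T_j_n73_75 X) (Nat.ble (nat_lit 10245751) X)
noncomputable def T_j_n70_75 (X : ℕ) : ℕ := Bool.rec (motive := fun _ => ℕ) (T_j_n70_72 X) (T_j_n72_75 X) (Nat.ble (nat_lit 10179161) X)
noncomputable def T_j_n65_75 (X : ℕ) : ℕ := Bool.rec (motive := fun _ => ℕ) (T_j_n65_70 X) (T_j_n70_75 X) (Nat.ble (nat_lit 10046903) X)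
noncomputable def T_j_n56_75 (X : ℕ) : ℕ := Bool.rec (motive := fun _ => ℕ) (T_j_n56_65 X) (T_j_n65_75 X) (Nat.ble (nat_lit 9715969) X)
noncomputable def T_j_n37_75 (X : ℕ) : ℕ := Bool.rec (motive := fun _ => ℕ) (T_j_n37_56 X) (T_j_n56_75 X) (Nat.ble (nat_lit 9124417) X)
noncomputable def T_j_sel (X : ℕ) : ℕ := Bool.rec (motive := fun _ => ℕ) (T_j_n0_37 X) (T_j_n37_75 X) (Nat.ble (nat_lit 7881739) X)
noncomputable def F_j (q : ℕ) : ℕ := Nat.add (nat_lit 5500000) (Nat.mod (T_j_sel q) q)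
noncomputable def U_j_n0_2 (X : ℕ) : ℕ := Bool.rec (motive := fun _ => ℕ) U_j_0 U_j_1 (Nat.ble (nat_lit 5564497) X)
noncomputable def U_j_n2_4 (X : ℕ) : ℕ := Bool.rec (motive := fun _ => ℕ) U_j_2 U_j_3 (Nat.ble (nat_lit 5692157) X)
noncomputable def U_j_n0_4 (X : ℕ) : ℕ := Bool.rec (motive := fun _ => ℕ) (U_j_n0_2 X) (U_j_n2_4 X) (Nat.ble (nat_lit 5628131) X)
noncomputable def U_j_n4_6 (X : ℕ) : ℕ := Bool.rec (motive := fun _ => ℕ) U_j_4 U_j_5 (Nat.ble (nat_lit 5820037) X)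
noncomputable def U_j_n7_9 (X : ℕ) : ℕ := Bool.rec (motive := fun _ => ℕ) U_j_7 U_j_8 (Nat.ble (nat_lit 6010867) X)
noncomputable def U_j_n6_9 (X : ℕ) : ℕ := Bool.rec (motive := fun _ => ℕ) U_j_6 (U_j_n7_9 X) (Nat.ble (nat_lit 5946749) X)
noncomputable def U_j_n4_9 (X : ℕ) : ℕ := Bool.rec (motive := fun _ => ℕ) (U_j_n4_6 X) (U_j_n6_9 X) (Nat.ble (nat_lit 5883737) X)
noncomputable def U_j_n0_9 (X : ℕ) : ℕ := Bool.rec (motive := fun _ => ℕ) (U_j_n0_4 X) (U_j_n4_9 X) (Nat.ble (nat_lit 5755531) X)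
noncomputable def U_j_n9_11 (X : ℕ) : ℕ := Bool.rec (motive := fun _ => ℕ) U_j_9 U_j_10 (Nat.ble (nat_lit 6139249) X)
noncomputable def U_j_n11_13 (X : ℕ) : ℕ := Bool.rec (motive := fun _ => ℕ) U_j_11 U_j_12 (Nat.ble (nat_lit 6267619) X)
noncomputable def U_j_n9_13 (X : ℕ) : ℕ := Bool.rec (motive := fun _ => ℕ) (U_j_n9_11 X) (U_j_n11_13 X) (Nat.ble (nat_lit 6203143) X)
noncomputable def U_j_n13_15 (X : ℕ) : ℕ := Bool.rec (motive := fun _ => ℕ) U_j_13 U_j_14 (Nat.ble (nat_lit 6395947) X)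
noncomputable def U_j_n16_18 (X : ℕ) : ℕ := Bool.rec (motive := fun _ => ℕ) U_j_16 U_j_17 (Nat.ble (nat_lit 6588443) X)
noncomputable def U_j_n15_18 (X : ℕ) : ℕ := Bool.rec (motive := fun _ => ℕ) U_j_15 (U_j_n16_18 X) (Nat.ble (nat_lit 6524611) X)
noncomputable def U_j_n13_18 (X : ℕ) : ℕ := Bool.rec (motive := fun _ => ℕ) (U_j_n13_15 X) (U_j_n15_18 X) (Nat.ble (nat_lit 6460379) X)
noncomputable def U_j_n9_18 (X : ℕ) : ℕ := Bool.rec (motive := fun _ => ℕ) (U_j_n9_13 X) (U_j_n13_18 X) (Nat.ble (nat_lit 6330559) X)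
noncomputable def U_j_n0_18 (X : ℕ) : ℕ := Bool.rec (motive := fun _ => ℕ) (U_j_n0_9 X) (U_j_n9_18 X) (Nat.ble (nat_lit 6075263) X)
noncomputable def U_j_n18_20 (X : ℕ) : ℕ := Bool.rec (motive := fun _ => ℕ) U_j_18 U_j_19 (Nat.ble (nat_lit 6717307) X)
noncomputable def U_j_n20_22 (X : ℕ) : ℕ := Bool.rec (motive := fun _ => ℕ) U_j_20 U_j_21 (Nat.ble (nat_lit 6846031) X)
noncomputable def U_j_n18_22 (X : ℕ) : ℕ := Bool.rec (motive := fun _ => ℕ) (U_j_n18_20 X) (U_j_n20_22 X) (Nat.ble (nat_lit 6781547) X)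
noncomputable def U_j_n22_24 (X : ℕ) : ℕ := Bool.rec (motive := fun _ => ℕ) U_j_22 U_j_23 (Nat.ble (nat_lit 6974053) X)
noncomputable def U_j_n25_27 (X : ℕ) : ℕ := Bool.rec (motive := fun _ => ℕ) U_j_25 U_j_26 (Nat.ble (nat_lit 7167791) X)
noncomputable def U_j_n24_27 (X : ℕ) : ℕ := Bool.rec (motive := fun _ => ℕ) U_j_24 (U_j_n25_27 X) (Nat.ble (nat_lit 7102643) X)
noncomputable def U_j_n22_27 (X : ℕ) : ℕ := Bool.rec (motive := fun _ => ℕ) (U_j_n22_24 X) (U_j_n24_27 X) (Nat.ble (nat_lit 7038397) X)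
noncomputable def U_j_n18_27 (X : ℕ) : ℕ := Bool.rec (motive := fun _ => ℕ) (U_j_n18_22 X) (U_j_n22_27 X) (Nat.ble (nat_lit 6909907) X)
noncomputable def U_j_n27_29 (X : ℕ) : ℕ := Bool.rec (motive := fun _ => ℕ) U_j_27 U_j_28 (Nat.ble (nat_lit 7296983) X)
noncomputable def U_j_n30_32 (X : ℕ) : ℕ := Bool.rec (motive := fun _ => ℕ) U_j_30 U_j_31 (Nat.ble (nat_lit 7492031) X)
noncomputable def U_j_n29_32 (X : ℕ) : ℕ := Bool.rec (motive := fun _ => ℕ) U_j_29 (U_j_n30_32 X) (Nat.ble (nat_lit 7427041) X)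
noncomputable def U_j_n27_32 (X : ℕ) : ℕ := Bool.rec (motive := fun _ => ℕ) (U_j_n27_29 X) (U_j_n29_32 X) (Nat.ble (nat_lit 7362133) X)
noncomputable def U_j_n32_34 (X : ℕ) : ℕ := Bool.rec (motive := fun _ => ℕ) U_j_32 U_j_33 (Nat.ble (nat_lit 7622317) X)
noncomputable def U_j_n35_37 (X : ℕ) : ℕ := Bool.rec (motive := fun _ => ℕ) U_j_35 U_j_36 (Nat.ble (nat_lit 7817143) X)
noncomputable def U_j_n34_37 (X : ℕ) : ℕ := Bool.rec (motive := fun _ => ℕ) U_j_34 (U_j_n35_37 X) (Nat.ble (nat_lit 7752179) X)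
noncomputable def U_j_n32_37 (X : ℕ) : ℕ := Bool.rec (motive := fun _ => ℕ) (U_j_n32_34 X) (U_j_n34_37 X) (Nat.ble (nat_lit 7686893) X)
noncomputable def U_j_n27_37 (X : ℕ) : ℕ := Bool.rec (motive := fun _ => ℕ) (U_j_n27_32 X) (U_j_n32_37 X) (Nat.ble (nat_lit 7557091) X)
noncomputable def U_j_n18_37 (X : ℕ) : ℕ := Bool.rec (motive := fun _ => ℕ) (U_j_n18_27 X) (U_j_n27_37 X) (Nat.ble (nat_lit 7232899) X)
noncomputable def U_j_n0_37 (X : ℕ) : ℕ := Bool.rec (motive := fun _ => ℕ) (U_j_n0_18 X) (U_j_n18_37 X) (Nat.ble (nat_lit 6652979) X)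
noncomputable def U_j_n37_39 (X : ℕ) : ℕ := Bool.rec (motive := fun _ => ℕ) U_j_37 U_j_38 (Nat.ble (nat_lit 7946711) X)
noncomputable def U_j_n39_41 (X : ℕ) : ℕ := Bool.rec (motive := fun _ => ℕ) U_j_39 U_j_40 (Nat.ble (nat_lit 8077529) X)
noncomputable def U_j_n37_41 (X : ℕ) : ℕ := Bool.rec (motive := fun _ => ℕ) (U_j_n37_39 X) (U_j_n39_41 X) (Nat.ble (nat_lit 8012209) X)
noncomputable def U_j_n41_43 (X : ℕ) : ℕ := Bool.rec (motive := fun _ => ℕ) U_j_41 U_j_42 (Nat.ble (nat_lit 8208023) X)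
noncomputable def U_j_n44_46 (X : ℕ) : ℕ := Bool.rec (motive := fun _ => ℕ) U_j_44 U_j_45 (Nat.ble (nat_lit 8403817) X)
noncomputable def U_j_n43_46 (X : ℕ) : ℕ := Bool.rec (motive := fun _ => ℕ) U_j_43 (U_j_n44_46 X) (Nat.ble (nat_lit 8338643) X)
noncomputable def U_j_n41_46 (X : ℕ) : ℕ := Bool.rec (motive := fun _ => ℕ) (U_j_n41_43 X) (U_j_n43_46 X) (Nat.ble (nat_lit 8273477) X)
noncomputable def U_j_n37_46 (X : ℕ) : ℕ := Bool.rec (motive := fun _ => ℕ) (U_j_n37_41 X) (U_j_n41_46 X) (Nat.ble (nat_lit 8143277) X)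
noncomputable def U_j_n46_48 (X : ℕ) : ℕ := Bool.rec (motive := fun _ => ℕ) U_j_46 U_j_47 (Nat.ble (nat_lit 8534429) X)
noncomputable def U_j_n49_51 (X : ℕ) : ℕ := Bool.rec (motive := fun _ => ℕ) U_j_49 U_j_50 (Nat.ble (nat_lit 8729821) X)
noncomputable def U_j_n48_51 (X : ℕ) : ℕ := Bool.rec (motive := fun _ => ℕ) U_j_48 (U_j_n49_51 X) (Nat.ble (nat_lit 8664559) X)
noncomputable def U_j_n46_51 (X : ℕ) : ℕ := Bool.rec (motive := fun _ => ℕ) (U_j_n46_48 X) (U_j_n48_51 X) (Nat.ble (nat_lit 8599469) X)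
noncomputable def U_j_n51_53 (X : ℕ) : ℕ := Bool.rec (motive := fun _ => ℕ) U_j_51 U_j_52 (Nat.ble (nat_lit 8861159) X)
noncomputable def U_j_n54_56 (X : ℕ) : ℕ := Bool.rec (motive := fun _ => ℕ) U_j_54 U_j_55 (Nat.ble (nat_lit 9058837) X)
noncomputable def U_j_n53_56 (X : ℕ) : ℕ := Bool.rec (motive := fun _ => ℕ) U_j_53 (U_j_n54_56 X) (Nat.ble (nat_lit 8992199) X)
noncomputable def U_j_n51_56 (X : ℕ) : ℕ := Bool.rec (motive := fun _ => ℕ) (U_j_n51_53 X) (U_j_n53_56 X) (Nat.ble (nat_lit 8926363) X)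
noncomputable def U_j_n46_56 (X : ℕ) : ℕ := Bool.rec (motive := fun _ => ℕ) (U_j_n46_51 X) (U_j_n51_56 X) (Nat.ble (nat_lit 8795047) X)
noncomputable def U_j_n37_56 (X : ℕ) : ℕ := Bool.rec (motive := fun _ => ℕ) (U_j_n37_46 X) (U_j_n46_56 X) (Nat.ble (nat_lit 8469977) X)
noncomputable def U_j_n56_58 (X : ℕ) : ℕ := Bool.rec (motive := fun _ => ℕ) U_j_56 U_j_57 (Nat.ble (nat_lit 9189703) X)
noncomputable def U_j_n58_60 (X : ℕ) : ℕ := Bool.rec (motive := fun _ => ℕ) U_j_58 U_j_59 (Nat.ble (nat_lit 9320833) X)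
noncomputable def U_j_n56_60 (X : ℕ) : ℕ := Bool.rec (motive := fun _ => ℕ) (U_j_n56_58 X) (U_j_n58_60 X) (Nat.ble (nat_lit 9255023) X)
noncomputable def U_j_n60_62 (X : ℕ) : ℕ := Bool.rec (motive := fun _ => ℕ) U_j_60 U_j_61 (Nat.ble (nat_lit 9452537) X)
noncomputable def U_j_n63_65 (X : ℕ) : ℕ := Bool.rec (motive := fun _ => ℕ) U_j_63 U_j_64 (Nat.ble (nat_lit 9649747) X)
noncomputable def U_j_n62_65 (X : ℕ) : ℕ := Bool.rec (motive := fun _ => ℕ) U_j_62 (U_j_n63_65 X) (Nat.ble (nat_lit 9584063) X)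
noncomputable def U_j_n60_65 (X : ℕ) : ℕ := Bool.rec (motive := fun _ => ℕ) (U_j_n60_62 X) (U_j_n62_65 X) (Nat.ble (nat_lit 9518723) X)
noncomputable def U_j_n56_65 (X : ℕ) : ℕ := Bool.rec (motive := fun _ => ℕ) (U_j_n56_60 X) (U_j_n60_65 X) (Nat.ble (nat_lit 9386471) X)
noncomputable def U_j_n65_67 (X : ℕ) : ℕ := Bool.rec (motive := fun _ => ℕ) U_j_65 U_j_66 (Nat.ble (nat_lit 9782029) X)
noncomputable def U_j_n68_70 (X : ℕ) : ℕ := Bool.rec (motive := fun _ => ℕ) U_j_68 U_j_69 (Nat.ble (nat_lit 9980857) X)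
noncomputable def U_j_n67_70 (X : ℕ) : ℕ := Bool.rec (motive := fun _ => ℕ) U_j_67 (U_j_n68_70 X) (Nat.ble (nat_lit 9914617) X)
noncomputable def U_j_n65_70 (X : ℕ) : ℕ := Bool.rec (motive := fun _ => ℕ) (U_j_n65_67 X) (U_j_n67_70 X) (Nat.ble (nat_lit 9847967) X)
noncomputable def U_j_n70_72 (X : ℕ) : ℕ := Bool.rec (motive := fun _ => ℕ) U_j_70 U_j_71 (Nat.ble (nat_lit 10112897) X)
noncomputable def U_j_n73_75 (X : ℕ) : ℕ := Bool.rec (motive := fun _ => ℕ) U_j_73 U_j_74 (Nat.ble (nat_lit 10311997) X)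
noncomputable def U_j_n72_75 (X : ℕ) : ℕ := Bool.rec (motive := fun _ => ℕ) U_j_72 (U_j_n73_75 X) (Nat.ble (nat_lit 10245751) X)
noncomputable def U_j_n70_75 (X : ℕ) : ℕ := Bool.rec (motive := fun _ => ℕ) (U_j_n70_72 X) (U_j_n72_75 X) (Nat.ble (nat_lit 10179161) X)
noncomputable def U_j_n65_75 (X : ℕ) : ℕ := Bool.rec (motive := fun _ => ℕ) (U_j_n65_70 X) (U_j_n70_75 X) (Nat.ble (nat_lit 10046903) X)
noncomputable def U_j_n56_75 (X : ℕ) : ℕ := Bool.rec (motive := fun _ => ℕ) (U_j_n56_65 X) (U_j_n65_75 X) (Nat.ble (nat_lit 9715969) X)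
noncomputable def U_j_n37_75 (X : ℕ) : ℕ := Bool.rec (motive := fun _ => ℕ) (U_j_n37_56 X) (U_j_n56_75 X) (Nat.ble (nat_lit 9124417) X)
noncomputable def U_j_sel (X : ℕ) : ℕ := Bool.rec (motive := fun _ => ℕ) (U_j_n0_37 X) (U_j_n37_75 X) (Nat.ble (nat_lit 7881739) X)
noncomputable def UU_j (q : ℕ) : ℕ := (Nat.mod (U_j_sel q) q)
noncomputable def V_j_n0_2 (X : ℕ) : ℕ := Bool.rec (motive := fun _ => ℕ) V_j_0 V_j_1 (Nat.ble (nat_lit 5564497) X)
noncomputable def V_j_n2_4 (X : ℕ) : ℕ := Bool.rec (motive := fun _ => ℕ) V_j_2 V_j_3 (Nat.ble (nat_lit 5692157) X)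
noncomputable def V_j_n0_4 (X : ℕ) : ℕ := Bool.rec (motive := fun _ => ℕ) (V_j_n0_2 X) (V_j_n2_4 X) (Nat.ble (nat_lit 5628131) X)
noncomputable def V_j_n4_6 (X : ℕ) : ℕ := Bool.rec (motive := fun _ => ℕ) V_j_4 V_j_5 (Nat.ble (nat_lit 5820037) X)
noncomputable def V_j_n7_9 (X : ℕ) : ℕ := Bool.rec (motive := fun _ => ℕ) V_j_7 V_j_8 (Nat.ble (nat_lit 6010867) X)
noncomputable def V_j_n6_9 (X : ℕ) : ℕ := Bool.rec (motive := fun _ => ℕ) V_j_6 (V_j_n7_9 X) (Nat.ble (nat_lit 5946749) X)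
noncomputable def V_j_n4_9 (X : ℕ) : ℕ := Bool.rec (motive := fun _ => ℕ) (V_j_n4_6 X) (V_j_n6_9 X) (Nat.ble (nat_lit 5883737) X)
noncomputable def V_j_n0_9 (X : ℕ) : ℕ := Bool.rec (motive := fun _ => ℕ) (V_j_n0_4 X) (V_j_n4_9 X) (Nat.ble (nat_lit 5755531) X)
noncomputable def V_j_n9_11 (X : ℕ) : ℕ := Bool.rec (motive := fun _ => ℕ) V_j_9 V_j_10 (Nat.ble (nat_lit 6139249) X)
noncomputable def V_j_n11_13 (X : ℕ) : ℕ := Bool.rec (motive := fun _ => ℕ) V_j_11 V_j_12 (Nat.ble (nat_lit 6267619) X)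
noncomputable def V_j_n9_13 (X : ℕ) : ℕ := Bool.rec (motive := fun _ => ℕ) (V_j_n9_11 X) (V_j_n11_13 X) (Nat.ble (nat_lit 6203143) X)
noncomputable def V_j_n13_15 (X : ℕ) : ℕ := Bool.rec (motive := fun _ => ℕ) V_j_13 V_j_14 (Nat.ble (nat_lit 6395947) X)
noncomputable def V_j_n16_18 (X : ℕ) : ℕ := Bool.rec (motive := fun _ => ℕ) V_j_16 V_j_17 (Nat.ble (nat_lit 6588443) X)
noncomputable def V_j_n15_18 (X : ℕ) : ℕ := Bool.rec (motive := fun _ => ℕ) V_j_15 (V_j_n16_18 X) (Nat.ble (nat_lit 6524611) X)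
noncomputable def V_j_n13_18 (X : ℕ) : ℕ := Bool.rec (motive := fun _ => ℕ) (V_j_n13_15 X) (V_j_n15_18 X) (Nat.ble (nat_lit 6460379) X)
noncomputable def V_j_n9_18 (X : ℕ) : ℕ := Bool.rec (motive := fun _ => ℕ) (V_j_n9_13 X) (V_j_n13_18 X) (Nat.ble (nat_lit 6330559) X)
noncomputable def V_j_n0_18 (X : ℕ) : ℕ := Bool.rec (motive := fun _ => ℕ) (V_j_n0_9 X) (V_j_n9_18 X) (Nat.ble (nat_lit 6075263) X)
noncomputable def V_j_n18_20 (X : ℕ) : ℕ := Bool.rec (motive := fun _ => ℕ) V_j_18 V_j_19 (Nat.ble (nat_lit 6717307) X)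
noncomputable def V_j_n20_22 (X : ℕ) : ℕ := Bool.rec (motive := fun _ => ℕ) V_j_20 V_j_21 (Nat.ble (nat_lit 6846031) X)
noncomputable def V_j_n18_22 (X : ℕ) : ℕ := Bool.rec (motive := fun _ => ℕ) (V_j_n18_20 X) (V_j_n20_22 X) (Nat.ble (nat_lit 6781547) X)
noncomputable def V_j_n22_24 (X : ℕ) : ℕ := Bool.rec (motive := fun _ => ℕ) V_j_22 V_j_23 (Nat.ble (nat_lit 6974053) X)
noncomputable def V_j_n25_27 (X : ℕ) : ℕ := Bool.rec (motive := fun _ => ℕ) V_j_25 V_j_26 (Nat.ble (nat_lit 7167791) X)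
noncomputable def V_j_n24_27 (X : ℕ) : ℕ := Bool.rec (motive := fun _ => ℕ) V_j_24 (V_j_n25_27 X) (Nat.ble (nat_lit 7102643) X)
noncomputable def V_j_n22_27 (X : ℕ) : ℕ := Bool.rec (motive := fun _ => ℕ) (V_j_n22_24 X) (V_j_n24_27 X) (Nat.ble (nat_lit 7038397) X)
noncomputable def V_j_n18_27 (X : ℕ) : ℕ := Bool.rec (motive := fun _ => ℕ) (V_j_n18_22 X) (V_j_n22_27 X) (Nat.ble (nat_lit 6909907) X)
noncomputable def V_j_n27_29 (X : ℕ) : ℕ := Bool.rec (motive := fun _ => ℕ) V_j_27 V_j_28 (Nat.ble (nat_lit 7296983) X)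
noncomputable def V_j_n30_32 (X : ℕ) : ℕ := Bool.rec (motive := fun _ => ℕ) V_j_30 V_j_31 (Nat.ble (nat_lit 7492031) X)
noncomputable def V_j_n29_32 (X : ℕ) : ℕ := Bool.rec (motive := fun _ => ℕ) V_j_29 (V_j_n30_32 X) (Nat.ble (nat_lit 7427041) X)
noncomputable def V_j_n27_32 (X : ℕ) : ℕ := Bool.rec (motive := fun _ => ℕ) (V_j_n27_29 X) (V_j_n29_32 X) (Nat.ble (nat_lit 7362133) X)
noncomputable def V_j_n32_34 (X : ℕ) : ℕ := Bool.rec (motive := fun _ => ℕ) V_j_32 V_j_33 (Nat.ble (nat_lit 7622317) X)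
noncomputable def V_j_n35_37 (X : ℕ) : ℕ := Bool.rec (motive := fun _ => ℕ) V_j_35 V_j_36 (Nat.ble (nat_lit 7817143) X)
noncomputable def V_j_n34_37 (X : ℕ) : ℕ := Bool.rec (motive := fun _ => ℕ) V_j_34 (V_j_n35_37 X) (Nat.ble (nat_lit 7752179) X)
noncomputable def V_j_n32_37 (X : ℕ) : ℕ := Bool.rec (motive := fun _ => ℕ) (V_j_n32_34 X) (V_j_n34_37 X) (Nat.ble (nat_lit 7686893) X)
noncomputable def V_j_n27_37 (X : ℕ) : ℕ := Bool.rec (motive := fun _ => ℕ) (V_j_n27_32 X) (V_j_n32_37 X) (Nat.ble (nat_lit 7557091) X)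
noncomputable def V_j_n18_37 (X : ℕ) : ℕ := Bool.rec (motive := fun _ => ℕ) (V_j_n18_27 X) (V_j_n27_37 X) (Nat.ble (nat_lit 7232899) X)
noncomputable def V_j_n0_37 (X : ℕ) : ℕ := Bool.rec (motive := fun _ => ℕ) (V_j_n0_18 X) (V_j_n18_37 X) (Nat.ble (nat_lit 6652979) X)
noncomputable def V_j_n37_39 (X : ℕ) : ℕ := Bool.rec (motive := fun _ => ℕ) V_j_37 V_j_38 (Nat.ble (nat_lit 7946711) X)
noncomputable def V_j_n39_41 (X : ℕ) : ℕ := Bool.rec (motive := fun _ => ℕ) V_j_39 V_j_40 (Nat.ble (nat_lit 8077529) X)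
noncomputable def V_j_n37_41 (X : ℕ) : ℕ := Bool.rec (motive := fun _ => ℕ) (V_j_n37_39 X) (V_j_n39_41 X) (Nat.ble (nat_lit 8012209) X)
noncomputable def V_j_n41_43 (X : ℕ) : ℕ := Bool.rec (motive := fun _ => ℕ) V_j_41 V_j_42 (Nat.ble (nat_lit 8208023) X)
noncomputable def V_j_n44_46 (X : ℕ) : ℕ := Bool.rec (motive := fun _ => ℕ) V_j_44 V_j_45 (Nat.ble (nat_lit 8403817) X)
noncomputable def V_j_n43_46 (X : ℕ) : ℕ := Bool.rec (motive := fun _ => ℕ) V_j_43 (V_j_n44_46 X) (Nat.ble (nat_lit 8338643) X)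
noncomputable def V_j_n41_46 (X : ℕ) : ℕ := Bool.rec (motive := fun _ => ℕ) (V_j_n41_43 X) (V_j_n43_46 X) (Nat.ble (nat_lit 8273477) X)
noncomputable def V_j_n37_46 (X : ℕ) : ℕ := Bool.rec (motive := fun _ => ℕ) (V_j_n37_41 X) (V_j_n41_46 X) (Nat.ble (nat_lit 8143277) X)
noncomputable def V_j_n46_48 (X : ℕ) : ℕ := Bool.rec (motive := fun _ => ℕ) V_j_46 V_j_47 (Nat.ble (nat_lit 8534429) X)
noncomputable def V_j_n49_51 (X : ℕ) : ℕ := Bool.rec (motive := fun _ => ℕ) V_j_49 V_j_50 (Nat.ble (nat_lit 8729821) X)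
noncomputable def V_j_n48_51 (X : ℕ) : ℕ := Bool.rec (motive := fun _ => ℕ) V_j_48 (V_j_n49_51 X) (Nat.ble (nat_lit 8664559) X)
noncomputable def V_j_n46_51 (X : ℕ) : ℕ := Bool.rec (motive := fun _ => ℕ) (V_j_n46_48 X) (V_j_n48_51 X) (Nat.ble (nat_lit 8599469) X)
noncomputable def V_j_n51_53 (X : ℕ) : ℕ := Bool.rec (motive := fun _ => ℕ) V_j_51 V_j_52 (Nat.ble (nat_lit 8861159) X)
noncomputable def V_j_n54_56 (X : ℕ) : ℕ := Bool.rec (motive := fun _ => ℕ) V_j_54 V_j_55 (Nat.ble (nat_lit 9058837) X)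
noncomputable def V_j_n53_56 (X : ℕ) : ℕ := Bool.rec (motive := fun _ => ℕ) V_j_53 (V_j_n54_56 X) (Nat.ble (nat_lit 8992199) X)
noncomputable def V_j_n51_56 (X : ℕ) : ℕ := Bool.rec (motive := fun _ => ℕ) (V_j_n51_53 X) (V_j_n53_56 X) (Nat.ble (nat_lit 8926363) X)
noncomputable def V_j_n46_56 (X : ℕ) : ℕ := Bool.rec (motive := fun _ => ℕ) (V_j_n46_51 X) (V_j_n51_56 X) (Nat.ble (nat_lit 8795047) X)
noncomputable def V_j_n37_56 (X : ℕ) : ℕ := Bool.rec (motive := fun _ => ℕ) (V_j_n37_46 X) (V_j_n46_56 X) (Nat.ble (nat_lit 8469977) X)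
noncomputable def V_j_n56_58 (X : ℕ) : ℕ := Bool.rec (motive := fun _ => ℕ) V_j_56 V_j_57 (Nat.ble (nat_lit 9189703) X)
noncomputable def V_j_n58_60 (X : ℕ) : ℕ := Bool.rec (motive := fun _ => ℕ) V_j_58 V_j_59 (Nat.ble (nat_lit 9320833) X)
noncomputable def V_j_n56_60 (X : ℕ) : ℕ := Bool.rec (motive := fun _ => ℕ) (V_j_n56_58 X) (V_j_n58_60 X) (Nat.ble (nat_lit 9255023) X)
noncomputable def V_j_n60_62 (X : ℕ) : ℕ := Bool.rec (motive := fun _ => ℕ) V_j_60 V_j_61 (Nat.ble (nat_lit 9452537) X)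
noncomputable def V_j_n63_65 (X : ℕ) : ℕ := Bool.rec (motive := fun _ => ℕ) V_j_63 V_j_64 (Nat.ble (nat_lit 9649747) X)
noncomputable def V_j_n62_65 (X : ℕ) : ℕ := Bool.rec (motive := fun _ => ℕ) V_j_62 (V_j_n63_65 X) (Nat.ble (nat_lit 9584063) X)
noncomputable def V_j_n60_65 (X : ℕ) : ℕ := Bool.rec (motive := fun _ => ℕ) (V_j_n60_62 X) (V_j_n62_65 X) (Nat.ble (nat_lit 9518723) X)
noncomputable def V_j_n56_65 (X : ℕ) : ℕ := Bool.rec (motive := fun _ => ℕ) (V_j_n56_60 X) (V_j_n60_65 X) (Nat.ble (nat_lit 9386471) X)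
noncomputable def V_j_n65_67 (X : ℕ) : ℕ := Bool.rec (motive := fun _ => ℕ) V_j_65 V_j_66 (Nat.ble (nat_lit 9782029) X)
noncomputable def V_j_n68_70 (X : ℕ) : ℕ := Bool.rec (motive := fun _ => ℕ) V_j_68 V_j_69 (Nat.ble (nat_lit 9980857) X)
noncomputable def V_j_n67_70 (X : ℕ) : ℕ := Bool.rec (motive := fun _ => ℕ) V_j_67 (V_j_n68_70 X) (Nat.ble (nat_lit 9914617) X)
noncomputable def V_j_n65_70 (X : ℕ) : ℕ := Bool.rec (motive := fun _ => ℕ) (V_j_n65_67 X) (V_j_n67_70 X) (Nat.ble (nat_lit 9847967) X)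
noncomputable def V_j_n70_72 (X : ℕ) : ℕ := Bool.rec (motive := fun _ => ℕ) V_j_70 V_j_71 (Nat.ble (nat_lit 10112897) X)
noncomputable def V_j_n73_75 (X : ℕ) : ℕ := Bool.rec (motive := fun _ => ℕ) V_j_73 V_j_74 (Nat.ble (nat_lit 10311997) X)
noncomputable def V_j_n72_75 (X : ℕ) : ℕ := Bool.rec (motive := fun _ => ℕ) V_j_72 (V_j_n73_75 X) (Nat.ble (nat_lit 10245751) X)
noncomputable def V_j_n70_75 (X : ℕ) : ℕ := Bool.rec (motive := fun _ => ℕ) (V_j_n70_72 X) (V_j_n72_75 X) (Nat.ble (nat_lit 10179161) X)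
noncomputable def V_j_n65_75 (X : ℕ) : ℕ := Bool.rec (motive := fun _ => ℕ) (V_j_n65_70 X) (V_j_n70_75 X) (Nat.ble (nat_lit 10046903) X)
noncomputable def V_j_n56_75 (X : ℕ) : ℕ := Bool.rec (motive := fun _ => ℕ) (V_j_n56_65 X) (V_j_n65_75 X) (Nat.ble (nat_lit 9715969) X)
noncomputable def V_j_n37_75 (X : ℕ) : ℕ := Bool.rec (motive := fun _ => ℕ) (V_j_n37_56 X) (V_j_n56_75 X) (Nat.ble (nat_lit 9124417) X)
noncomputable def V_j_sel (X : ℕ) : ℕ := Bool.rec (motive := fun _ => ℕ) (V_j_n0_37 X) (V_j_n37_75 X) (Nat.ble (nat_lit 7881739) X)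
noncomputable def VV_j (q : ℕ) : ℕ := (Nat.mod (V_j_sel q) q)
noncomputable def G_j (t q : ℕ) : ℕ := Bool.rec (motive := fun _ => ℕ) (nat_lit 0) (F_j q) (Nat.ble (Nat.succ (UU_j q)) t)
noncomputable def T_h_n0_2 (X : ℕ) : ℕ := Bool.rec (motive := fun _ => ℕ) T_h_0 T_h_1 (Nat.ble (nat_lit 5564497) X)
noncomputable def T_h_n2_4 (X : ℕ) : ℕ := Bool.rec (motive := fun _ => ℕ) T_h_2 T_h_3 (Nat.ble (nat_lit 5692157) X)
noncomputable def T_h_n0_4 (X : ℕ) : ℕ := Bool.rec (motive := fun _ => ℕ) (T_h_n0_2 X) (T_h_n2_4 X) (Nat.ble (nat_lit 5628131) X)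
noncomputable def T_h_n4_6 (X : ℕ) : ℕ := Bool.rec (motive := fun _ => ℕ) T_h_4 T_h_5 (Nat.ble (nat_lit 5820037) X)
noncomputable def T_h_n7_9 (X : ℕ) : ℕ := Bool.rec (motive := fun _ => ℕ) T_h_7 T_h_8 (Nat.ble (nat_lit 6010867) X)
noncomputable def T_h_n6_9 (X : ℕ) : ℕ := Bool.rec (motive := fun _ => ℕ) T_h_6 (T_h_n7_9 X) (Nat.ble (nat_lit 5946749) X)
noncomputable def T_h_n4_9 (X : ℕ) : ℕ := Bool.rec (motive := fun _ => ℕ) (T_h_n4_6 X) (T_h_n6_9 X) (Nat.ble (nat_lit 5883737) X)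
noncomputable def T_h_n0_9 (X : ℕ) : ℕ := Bool.rec (motive := fun _ => ℕ) (T_h_n0_4 X) (T_h_n4_9 X) (Nat.ble (nat_lit 5755531) X)
noncomputable def T_h_n9_11 (X : ℕ) : ℕ := Bool.rec (motive := fun _ => ℕ) T_h_9 T_h_10 (Nat.ble (nat_lit 6139249) X)
noncomputable def T_h_n11_13 (X : ℕ) : ℕ := Bool.rec (motive := fun _ => ℕ) T_h_11 T_h_12 (Nat.ble (nat_lit 6267619) X)
noncomputable def T_h_n9_13 (X : ℕ) : ℕ := Bool.rec (motive := fun _ => ℕ) (T_h_n9_11 X) (T_h_n11_13 X) (Nat.ble (nat_lit 6203143) X)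
noncomputable def T_h_n13_15 (X : ℕ) : ℕ := Bool.rec (motive := fun _ => ℕ) T_h_13 T_h_14 (Nat.ble (nat_lit 6395947) X)
noncomputable def T_h_n16_18 (X : ℕ) : ℕ := Bool.rec (motive := fun _ => ℕ) T_h_16 T_h_17 (Nat.ble (nat_lit 6588443) X)
noncomputable def T_h_n15_18 (X : ℕ) : ℕ := Bool.rec (motive := fun _ => ℕ) T_h_15 (T_h_n16_18 X) (Nat.ble (nat_lit 6524611) X)
noncomputable def T_h_n13_18 (X : ℕ) : ℕ := Bool.rec (motive := fun _ => ℕ) (T_h_n13_15 X) (T_h_n15_18 X) (Nat.ble (nat_lit 6460379) X)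
noncomputable def T_h_n9_18 (X : ℕ) : ℕ := Bool.rec (motive := fun _ => ℕ) (T_h_n9_13 X) (T_h_n13_18 X) (Nat.ble (nat_lit 6330559) X)
noncomputable def T_h_n0_18 (X : ℕ) : ℕ := Bool.rec (motive := fun _ => ℕ) (T_h_n0_9 X) (T_h_n9_18 X) (Nat.ble (nat_lit 6075263) X)
noncomputable def T_h_n18_20 (X : ℕ) : ℕ := Bool.rec (motive := fun _ => ℕ) T_h_18 T_h_19 (Nat.ble (nat_lit 6717307) X)
noncomputable def T_h_n20_22 (X : ℕ) : ℕ := Bool.rec (motive := fun _ => ℕ) T_h_20 T_h_21 (Nat.ble (nat_lit 6846031) X)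
noncomputable def T_h_n18_22 (X : ℕ) : ℕ := Bool.rec (motive := fun _ => ℕ) (T_h_n18_20 X) (T_h_n20_22 X) (Nat.ble (nat_lit 6781547) X)
noncomputable def T_h_n22_24 (X : ℕ) : ℕ := Bool.rec (motive := fun _ => ℕ) T_h_22 T_h_23 (Nat.ble (nat_lit 6974053) X)
noncomputable def T_h_n25_27 (X : ℕ) : ℕ := Bool.rec (motive := fun _ => ℕ) T_h_25 T_h_26 (Nat.ble (nat_lit 7167791) X)
noncomputable def T_h_n24_27 (X : ℕ) : ℕ := Bool.rec (motive := fun _ => ℕ) T_h_24 (T_h_n25_27 X) (Nat.ble (nat_lit 7102643) X)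
noncomputable def T_h_n22_27 (X : ℕ) : ℕ := Bool.rec (motive := fun _ => ℕ) (T_h_n22_24 X) (T_h_n24_27 X) (Nat.ble (nat_lit 7038397) X)
noncomputable def T_h_n18_27 (X : ℕ) : ℕ := Bool.rec (motive := fun _ => ℕ) (T_h_n18_22 X) (T_h_n22_27 X) (Nat.ble (nat_lit 6909907) X)
noncomputable def T_h_n27_29 (X : ℕ) : ℕ := Bool.rec (motive := fun _ => ℕ) T_h_27 T_h_28 (Nat.ble (nat_lit 7296983) X)
noncomputable def T_h_n30_32 (X : ℕ) : ℕ := Bool.rec (motive := fun _ => ℕ) T_h_30 T_h_31 (Nat.ble (nat_lit 7492031) X)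
noncomputable def T_h_n29_32 (X : ℕ) : ℕ := Bool.rec (motive := fun _ => ℕ) T_h_29 (T_h_n30_32 X) (Nat.ble (nat_lit 7427041) X)
noncomputable def T_h_n27_32 (X : ℕ) : ℕ := Bool.rec (motive := fun _ => ℕ) (T_h_n27_29 X) (T_h_n29_32 X) (Nat.ble (nat_lit 7362133) X)
noncomputable def T_h_n32_34 (X : ℕ) : ℕ := Bool.rec (motive := fun _ => ℕ) T_h_32 T_h_33 (Nat.ble (nat_lit 7622317) X)
noncomputable def T_h_n35_37 (X : ℕ) : ℕ := Bool.rec (motive := fun _ => ℕ) T_h_35 T_h_36 (Nat.ble (nat_lit 7817143) X)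
noncomputable def T_h_n34_37 (X : ℕ) : ℕ := Bool.rec (motive := fun _ => ℕ) T_h_34 (T_h_n35_37 X) (Nat.ble (nat_lit 7752179) X)
noncomputable def T_h_n32_37 (X : ℕ) : ℕ := Bool.rec (motive := fun _ => ℕ) (T_h_n32_34 X) (T_h_n34_37 X) (Nat.ble (nat_lit 7686893) X)
noncomputable def T_h_n27_37 (X : ℕ) : ℕ := Bool.rec (motive := fun _ => ℕ) (T_h_n27_32 X) (T_h_n32_37 X) (Nat.ble (nat_lit 7557091) X)
noncomputable def T_h_n18_37 (X : ℕ) : ℕ := Bool.rec (motive := fun _ => ℕ) (T_h_n18_27 X) (T_h_n27_37 X) (Nat.ble (nat_lit 7232899) X)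
noncomputable def T_h_n0_37 (X : ℕ) : ℕ := Bool.rec (motive := fun _ => ℕ) (T_h_n0_18 X) (T_h_n18_37 X) (Nat.ble (nat_lit 6652979) X)
noncomputable def T_h_n37_39 (X : ℕ) : ℕ := Bool.rec (motive := fun _ => ℕ) T_h_37 T_h_38 (Nat.ble (nat_lit 7946711) X)
noncomputable def T_h_n39_41 (X : ℕ) : ℕ := Bool.rec (motive := fun _ => ℕ) T_h_39 T_h_40 (Nat.ble (nat_lit 8077529) X)
noncomputable def T_h_n37_41 (X : ℕ) : ℕ := Bool.rec (motive := fun _ => ℕ) (T_h_n37_39 X) (T_h_n39_41 X) (Nat.ble (nat_lit 8012209) X)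
noncomputable def T_h_n41_43 (X : ℕ) : ℕ := Bool.rec (motive := fun _ => ℕ) T_h_41 T_h_42 (Nat.ble (nat_lit 8208023) X)
noncomputable def T_h_n44_46 (X : ℕ) : ℕ := Bool.rec (motive := fun _ => ℕ) T_h_44 T_h_45 (Nat.ble (nat_lit 8403817) X)
noncomputable def T_h_n43_46 (X : ℕ) : ℕ := Bool.rec (motive := fun _ => ℕ) T_h_43 (T_h_n44_46 X) (Nat.ble (nat_lit 8338643) X)
noncomputable def T_h_n41_46 (X : ℕ) : ℕ := Bool.rec (motive := fun _ => ℕ) (T_h_n41_43 X) (T_h_n43_46 X) (Nat.ble (nat_lit 8273477) X)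
noncomputable def T_h_n37_46 (X : ℕ) : ℕ := Bool.rec (motive := fun _ => ℕ) (T_h_n37_41 X) (T_h_n41_46 X) (Nat.ble (nat_lit 8143277) X)
noncomputable def T_h_n46_48 (X : ℕ) : ℕ := Bool.rec (motive := fun _ => ℕ) T_h_46 T_h_47 (Nat.ble (nat_lit 8534429) X)
noncomputable def T_h_n49_51 (X : ℕ) : ℕ := Bool.rec (motive := fun _ => ℕ) T_h_49 T_h_50 (Nat.ble (nat_lit 8729821) X)
noncomputable def T_h_n48_51 (X : ℕ) : ℕ := Bool.rec (motive := fun _ => ℕ) T_h_48 (T_h_n49_51 X) (Nat.ble (nat_lit 8664559) X)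
noncomputable def T_h_n46_51 (X : ℕ) : ℕ := Bool.rec (motive := fun _ => ℕ) (T_h_n46_48 X) (T_h_n48_51 X) (Nat.ble (nat_lit 8599469) X)
noncomputable def T_h_n51_53 (X : ℕ) : ℕ := Bool.rec (motive := fun _ => ℕ) T_h_51 T_h_52 (Nat.ble (nat_lit 8861159) X)
noncomputable def T_h_n54_56 (X : ℕ) : ℕ := Bool.rec (motive := fun _ => ℕ) T_h_54 T_h_55 (Nat.ble (nat_lit 9058837) X)
noncomputable def T_h_n53_56 (X : ℕ) : ℕ := Bool.rec (motive := fun _ => ℕ) T_h_53 (T_h_n54_56 X) (Nat.ble (nat_lit 8992199) X)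
noncomputable def T_h_n51_56 (X : ℕ) : ℕ := Bool.rec (motive := fun _ => ℕ) (T_h_n51_53 X) (T_h_n53_56 X) (Nat.ble (nat_lit 8926363) X)
noncomputable def T_h_n46_56 (X : ℕ) : ℕ := Bool.rec (motive := fun _ => ℕ) (T_h_n46_51 X) (T_h_n51_56 X) (Nat.ble (nat_lit 8795047) X)
noncomputable def T_h_n37_56 (X : ℕ) : ℕ := Bool.rec (motive := fun _ => ℕ) (T_h_n37_46 X) (T_h_n46_56 X) (Nat.ble (nat_lit 8469977) X)
noncomputable def T_h_n56_58 (X : ℕ) : ℕ := Bool.rec (motive := fun _ => ℕ) T_h_56 T_h_57 (Nat.ble (nat_lit 9189703) X)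
noncomputable def T_h_n58_60 (X : ℕ) : ℕ := Bool.rec (motive := fun _ => ℕ) T_h_58 T_h_59 (Nat.ble (nat_lit 9320833) X)
noncomputable def T_h_n56_60 (X : ℕ) : ℕ := Bool.rec (motive := fun _ => ℕ) (T_h_n56_58 X) (T_h_n58_60 X) (Nat.ble (nat_lit 9255023) X)
noncomputable def T_h_n60_62 (X : ℕ) : ℕ := Bool.rec (motive := fun _ => ℕ) T_h_60 T_h_61 (Nat.ble (nat_lit 9452537) X)
noncomputable def T_h_n63_65 (X : ℕ) : ℕ := Bool.rec (motive := fun _ => ℕ) T_h_63 T_h_64 (Nat.ble (nat_lit 9649747) X)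
noncomputable def T_h_n62_65 (X : ℕ) : ℕ := Bool.rec (motive := fun _ => ℕ) T_h_62 (T_h_n63_65 X) (Nat.ble (nat_lit 9584063) X)
noncomputable def T_h_n60_65 (X : ℕ) : ℕ := Bool.rec (motive := fun _ => ℕ) (T_h_n60_62 X) (T_h_n62_65 X) (Nat.ble (nat_lit 9518723) X)
noncomputable def T_h_n56_65 (X : ℕ) : ℕ := Bool.rec (motive := fun _ => ℕ) (T_h_n56_60 X) (T_h_n60_65 X) (Nat.ble (nat_lit 9386471) X)
noncomputable def T_h_n65_67 (X : ℕ) : ℕ := Bool.rec (motive := fun _ => ℕ) T_h_65 T_h_66 (Nat.ble (nat_lit 9782029) X)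
noncomputable def T_h_n68_70 (X : ℕ) : ℕ := Bool.rec (motive := fun _ => ℕ) T_h_68 T_h_69 (Nat.ble (nat_lit 9980857) X)
noncomputable def T_h_n67_70 (X : ℕ) : ℕ := Bool.rec (motive := fun _ => ℕ) T_h_67 (T_h_n68_70 X) (Nat.ble (nat_lit 9914617) X)
noncomputable def T_h_n65_70 (X : ℕ) : ℕ := Bool.rec (motive := fun _ => ℕ) (T_h_n65_67 X) (T_h_n67_70 X) (Nat.ble (nat_lit 9847967) X)
noncomputable def T_h_n70_72 (X : ℕ) : ℕ := Bool.rec (motive := fun _ => ℕ) T_h_70 T_h_71 (Nat.ble (nat_lit 10112897) X)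
noncomputable def T_h_n73_75 (X : ℕ) : ℕ := Bool.rec (motive := fun _ => ℕ) T_h_73 T_h_74 (Nat.ble (nat_lit 10311997) X)
noncomputable def T_h_n72_75 (X : ℕ) : ℕ := Bool.rec (motive := fun _ => ℕ) T_h_72 (T_h_n73_75 X) (Nat.ble (nat_lit 10245751) X)
noncomputable def T_h_n70_75 (X : ℕ) : ℕ := Bool.rec (motive := fun _ => ℕ) (T_h_n70_72 X) (T_h_n72_75 X) (Nat.ble (nat_lit 10179161) X)
noncomputable def T_h_n65_75 (X : ℕ) : ℕ := Bool.rec (motive := fun _ => ℕ) (T_h_n65_70 X) (T_h_n70_75 X) (Nat.ble (nat_lit 10046903) X)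
noncomputable def T_h_n56_75 (X : ℕ) : ℕ := Bool.rec (motive := fun _ => ℕ) (T_h_n56_65 X) (T_h_n65_75 X) (Nat.ble (nat_lit 9715969) X)
noncomputable def T_h_n37_75 (X : ℕ) : ℕ := Bool.rec (motive := fun _ => ℕ) (T_h_n37_56 X) (T_h_n56_75 X) (Nat.ble (nat_lit 9124417) X)
noncomputable def T_h_sel (X : ℕ) : ℕ := Bool.rec (motive := fun _ => ℕ) (T_h_n0_37 X) (T_h_n37_75 X) (Nat.ble (nat_lit 7881739) X)
noncomputable def F_h (q : ℕ) : ℕ := Nat.add (nat_lit 5500000) (Nat.mod (T_h_sel q) q)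
noncomputable def U_h_n0_2 (X : ℕ) : ℕ := Bool.rec (motive := fun _ => ℕ) U_h_0 U_h_1 (Nat.ble (nat_lit 5564497) X)
noncomputable def U_h_n2_4 (X : ℕ) : ℕ := Bool.rec (motive := fun _ => ℕ) U_h_2 U_h_3 (Nat.ble (nat_lit 5692157) X)
noncomputable def U_h_n0_4 (X : ℕ) : ℕ := Bool.rec (motive := fun _ => ℕ) (U_h_n0_2 X) (U_h_n2_4 X) (Nat.ble (nat_lit 5628131) X)
noncomputable def U_h_n4_6 (X : ℕ) : ℕ := Bool.rec (motive := fun _ => ℕ) U_h_4 U_h_5 (Nat.ble (nat_lit 5820037) X)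
noncomputable def U_h_n7_9 (X : ℕ) : ℕ := Bool.rec (motive := fun _ => ℕ) U_h_7 U_h_8 (Nat.ble (nat_lit 6010867) X)
noncomputable def U_h_n6_9 (X : ℕ) : ℕ := Bool.rec (motive := fun _ => ℕ) U_h_6 (U_h_n7_9 X) (Nat.ble (nat_lit 5946749) X)
noncomputable def U_h_n4_9 (X : ℕ) : ℕ := Bool.rec (motive := fun _ => ℕ) (U_h_n4_6 X) (U_h_n6_9 X) (Nat.ble (nat_lit 5883737) X)
noncomputable def U_h_n0_9 (X : ℕ) : ℕ := Bool.rec (motive := fun _ => ℕ) (U_h_n0_4 X) (U_h_n4_9 X) (Nat.ble (nat_lit 5755531) X)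
noncomputable def U_h_n9_11 (X : ℕ) : ℕ := Bool.rec (motive := fun _ => ℕ) U_h_9 U_h_10 (Nat.ble (nat_lit 6139249) X)
noncomputable def U_h_n11_13 (X : ℕ) : ℕ := Bool.rec (motive := fun _ => ℕ) U_h_11 U_h_12 (Nat.ble (nat_lit 6267619) X)
noncomputable def U_h_n9_13 (X : ℕ) : ℕ := Bool.rec (motive := fun _ => ℕ) (U_h_n9_11 X) (U_h_n11_13 X) (Nat.ble (nat_lit 6203143) X)
noncomputable def U_h_n13_15 (X : ℕ) : ℕ := Bool.rec (motive := fun _ => ℕ) U_h_13 U_h_14 (Nat.ble (nat_lit 6395947) X)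
noncomputable def U_h_n16_18 (X : ℕ) : ℕ := Bool.rec (motive := fun _ => ℕ) U_h_16 U_h_17 (Nat.ble (nat_lit 6588443) X)
noncomputable def U_h_n15_18 (X : ℕ) : ℕ := Bool.rec (motive := fun _ => ℕ) U_h_15 (U_h_n16_18 X) (Nat.ble (nat_lit 6524611) X)
noncomputable def U_h_n13_18 (X : ℕ) : ℕ := Bool.rec (motive := fun _ => ℕ) (U_h_n13_15 X) (U_h_n15_18 X) (Nat.ble (nat_lit 6460379) X)
noncomputable def U_h_n9_18 (X : ℕ) : ℕ := Bool.rec (motive := fun _ => ℕ) (U_h_n9_13 X) (U_h_n13_18 X) (Nat.ble (nat_lit 6330559) X)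
noncomputable def U_h_n0_18 (X : ℕ) : ℕ := Bool.rec (motive := fun _ => ℕ) (U_h_n0_9 X) (U_h_n9_18 X) (Nat.ble (nat_lit 6075263) X)
noncomputable def U_h_n18_20 (X : ℕ) : ℕ := Bool.rec (motive := fun _ => ℕ) U_h_18 U_h_19 (Nat.ble (nat_lit 6717307) X)
noncomputable def U_h_n20_22 (X : ℕ) : ℕ := Bool.rec (motive := fun _ => ℕ) U_h_20 U_h_21 (Nat.ble (nat_lit 6846031) X)
noncomputable def U_h_n18_22 (X : ℕ) : ℕ := Bool.rec (motive := fun _ => ℕ) (U_h_n18_20 X) (U_h_n20_22 X) (Nat.ble (nat_lit 6781547) X)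
noncomputable def U_h_n22_24 (X : ℕ) : ℕ := Bool.rec (motive := fun _ => ℕ) U_h_22 U_h_23 (Nat.ble (nat_lit 6974053) X)
noncomputable def U_h_n25_27 (X : ℕ) : ℕ := Bool.rec (motive := fun _ => ℕ) U_h_25 U_h_26 (Nat.ble (nat_lit 7167791) X)
noncomputable def U_h_n24_27 (X : ℕ) : ℕ := Bool.rec (motive := fun _ => ℕ) U_h_24 (U_h_n25_27 X) (Nat.ble (nat_lit 7102643) X)
noncomputable def U_h_n22_27 (X : ℕ) : ℕ := Bool.rec (motive := fun _ => ℕ) (U_h_n22_24 X) (U_h_n24_27 X) (Nat.ble (nat_lit 7038397) X)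
noncomputable def U_h_n18_27 (X : ℕ) : ℕ := Bool.rec (motive := fun _ => ℕ) (U_h_n18_22 X) (U_h_n22_27 X) (Nat.ble (nat_lit 6909907) X)
noncomputable def U_h_n27_29 (X : ℕ) : ℕ := Bool.rec (motive := fun _ => ℕ) U_h_27 U_h_28 (Nat.ble (nat_lit 7296983) X)
noncomputable def U_h_n30_32 (X : ℕ) : ℕ := Bool.rec (motive := fun _ => ℕ) U_h_30 U_h_31 (Nat.ble (nat_lit 7492031) X)
noncomputable def U_h_n29_32 (X : ℕ) : ℕ := Bool.rec (motive := fun _ => ℕ) U_h_29 (U_h_n30_32 X) (Nat.ble (nat_lit 7427041) X)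
noncomputable def U_h_n27_32 (X : ℕ) : ℕ := Bool.rec (motive := fun _ => ℕ) (U_h_n27_29 X) (U_h_n29_32 X) (Nat.ble (nat_lit 7362133) X)
noncomputable def U_h_n32_34 (X : ℕ) : ℕ := Bool.rec (motive := fun _ => ℕ) U_h_32 U_h_33 (Nat.ble (nat_lit 7622317) X)
noncomputable def U_h_n35_37 (X : ℕ) : ℕ := Bool.rec (motive := fun _ => ℕ) U_h_35 U_h_36 (Nat.ble (nat_lit 7817143) X)
noncomputable def U_h_n34_37 (X : ℕ) : ℕ := Bool.rec (motive := fun _ => ℕ) U_h_34 (U_h_n35_37 X) (Nat.ble (nat_lit 7752179) X)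
noncomputable def U_h_n32_37 (X : ℕ) : ℕ := Bool.rec (motive := fun _ => ℕ) (U_h_n32_34 X) (U_h_n34_37 X) (Nat.ble (nat_lit 7686893) X)
noncomputable def U_h_n27_37 (X : ℕ) : ℕ := Bool.rec (motive := fun _ => ℕ) (U_h_n27_32 X) (U_h_n32_37 X) (Nat.ble (nat_lit 7557091) X)
noncomputable def U_h_n18_37 (X : ℕ) : ℕ := Bool.rec (motive := fun _ => ℕ) (U_h_n18_27 X) (U_h_n27_37 X) (Nat.ble (nat_lit 7232899) X)
noncomputable def U_h_n0_37 (X : ℕ) : ℕ := Bool.rec (motive := fun _ => ℕ) (U_h_n0_18 X) (U_h_n18_37 X) (Nat.ble (nat_lit 6652979) X)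
noncomputable def U_h_n37_39 (X : ℕ) : ℕ := Bool.rec (motive := fun _ => ℕ) U_h_37 U_h_38 (Nat.ble (nat_lit 7946711) X)
noncomputable def U_h_n39_41 (X : ℕ) : ℕ := Bool.rec (motive := fun _ => ℕ) U_h_39 U_h_40 (Nat.ble (nat_lit 8077529) X)
noncomputable def U_h_n37_41 (X : ℕ) : ℕ := Bool.rec (motive := fun _ => ℕ) (U_h_n37_39 X) (U_h_n39_41 X) (Nat.ble (nat_lit 8012209) X)
noncomputable def U_h_n41_43 (X : ℕ) : ℕ := Bool.rec (motive := fun _ => ℕ) U_h_41 U_h_42 (Nat.ble (nat_lit 8208023) X)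
noncomputable def U_h_n44_46 (X : ℕ) : ℕ := Bool.rec (motive := fun _ => ℕ) U_h_44 U_h_45 (Nat.ble (nat_lit 8403817) X)
noncomputable def U_h_n43_46 (X : ℕ) : ℕ := Bool.rec (motive := fun _ => ℕ) U_h_43 (U_h_n44_46 X) (Nat.ble (nat_lit 8338643) X)
noncomputable def U_h_n41_46 (X : ℕ) : ℕ := Bool.rec (motive := fun _ => ℕ) (U_h_n41_43 X) (U_h_n43_46 X) (Nat.ble (nat_lit 8273477) X)
noncomputable def U_h_n37_46 (X : ℕ) : ℕ := Bool.rec (motive := fun _ => ℕ) (U_h_n37_41 X) (U_h_n41_46 X) (Nat.ble (nat_lit 8143277) X)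
noncomputable def U_h_n46_48 (X : ℕ) : ℕ := Bool.rec (motive := fun _ => ℕ) U_h_46 U_h_47 (Nat.ble (nat_lit 8534429) X)
noncomputable def U_h_n49_51 (X : ℕ) : ℕ := Bool.rec (motive := fun _ => ℕ) U_h_49 U_h_50 (Nat.ble (nat_lit 8729821) X)
noncomputable def U_h_n48_51 (X : ℕ) : ℕ := Bool.rec (motive := fun _ => ℕ) U_h_48 (U_h_n49_51 X) (Nat.ble (nat_lit 8664559) X)
noncomputable def U_h_n46_51 (X : ℕ) : ℕ := Bool.rec (motive := fun _ => ℕ) (U_h_n46_48 X) (U_h_n48_51 X) (Nat.ble (nat_lit 8599469) X)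
noncomputable def U_h_n51_53 (X : ℕ) : ℕ := Bool.rec (motive := fun _ => ℕ) U_h_51 U_h_52 (Nat.ble (nat_lit 8861159) X)
noncomputable def U_h_n54_56 (X : ℕ) : ℕ := Bool.rec (motive := fun _ => ℕ) U_h_54 U_h_55 (Nat.ble (nat_lit 9058837) X)
noncomputable def U_h_n53_56 (X : ℕ) : ℕ := Bool.rec (motive := fun _ => ℕ) U_h_53 (U_h_n54_56 X) (Nat.ble (nat_lit 8992199) X)
noncomputable def U_h_n51_56 (X : ℕ) : ℕ := Bool.rec (motive := fun _ => ℕ) (U_h_n51_53 X) (U_h_n53_56 X) (Nat.ble (nat_lit 8926363) X)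
noncomputable def U_h_n46_56 (X : ℕ) : ℕ := Bool.rec (motive := fun _ => ℕ) (U_h_n46_51 X) (U_h_n51_56 X) (Nat.ble (nat_lit 8795047) X)
noncomputable def U_h_n37_56 (X : ℕ) : ℕ := Bool.rec (motive := fun _ => ℕ) (U_h_n37_46 X) (U_h_n46_56 X) (Nat.ble (nat_lit 8469977) X)
noncomputable def U_h_n56_58 (X : ℕ) : ℕ := Bool.rec (motive := fun _ => ℕ) U_h_56 U_h_57 (Nat.ble (nat_lit 9189703) X)
noncomputable def U_h_n58_60 (X : ℕ) : ℕ := Bool.rec (motive := fun _ => ℕ) U_h_58 U_h_59 (Nat.ble (nat_lit 9320833) X)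
noncomputable def U_h_n56_60 (X : ℕ) : ℕ := Bool.rec (motive := fun _ => ℕ) (U_h_n56_58 X) (U_h_n58_60 X) (Nat.ble (nat_lit 9255023) X)
noncomputable def U_h_n60_62 (X : ℕ) : ℕ := Bool.rec (motive := fun _ => ℕ) U_h_60 U_h_61 (Nat.ble (nat_lit 9452537) X)
noncomputable def U_h_n63_65 (X : ℕ) : ℕ := Bool.rec (motive := fun _ => ℕ) U_h_63 U_h_64 (Nat.ble (nat_lit 9649747) X)
noncomputable def U_h_n62_65 (X : ℕ) : ℕ := Bool.rec (motive := fun _ => ℕ) U_h_62 (U_h_n63_65 X) (Nat.ble (nat_lit 9584063) X)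
noncomputable def U_h_n60_65 (X : ℕ) : ℕ := Bool.rec (motive := fun _ => ℕ) (U_h_n60_62 X) (U_h_n62_65 X) (Nat.ble (nat_lit 9518723) X)
noncomputable def U_h_n56_65 (X : ℕ) : ℕ := Bool.rec (motive := fun _ => ℕ) (U_h_n56_60 X) (U_h_n60_65 X) (Nat.ble (nat_lit 9386471) X)
noncomputable def U_h_n65_67 (X : ℕ) : ℕ := Bool.rec (motive := fun _ => ℕ) U_h_65 U_h_66 (Nat.ble (nat_lit 9782029) X)
noncomputable def U_h_n68_70 (X : ℕ) : ℕ := Bool.rec (motive := fun _ => ℕ) U_h_68 U_h_69 (Nat.ble (nat_lit 9980857) X)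
noncomputable def U_h_n67_70 (X : ℕ) : ℕ := Bool.rec (motive := fun _ => ℕ) U_h_67 (U_h_n68_70 X) (Nat.ble (nat_lit 9914617) X)
noncomputable def U_h_n65_70 (X : ℕ) : ℕ := Bool.rec (motive := fun _ => ℕ) (U_h_n65_67 X) (U_h_n67_70 X) (Nat.ble (nat_lit 9847967) X)
noncomputable def U_h_n70_72 (X : ℕ) : ℕ := Bool.rec (motive := fun _ => ℕ) U_h_70 U_h_71 (Nat.ble (nat_lit 10112897) X)
noncomputable def U_h_n73_75 (X : ℕ) : ℕ := Bool.rec (motive := fun _ => ℕ) U_h_73 U_h_74 (Nat.ble (nat_lit 10311997) X)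
noncomputable def U_h_n72_75 (X : ℕ) : ℕ := Bool.rec (motive := fun _ => ℕ) U_h_72 (U_h_n73_75 X) (Nat.ble (nat_lit 10245751) X)
noncomputable def U_h_n70_75 (X : ℕ) : ℕ := Bool.rec (motive := fun _ => ℕ) (U_h_n70_72 X) (U_h_n72_75 X) (Nat.ble (nat_lit 10179161) X)
noncomputable def U_h_n65_75 (X : ℕ) : ℕ := Bool.rec (motive := fun _ => ℕ) (U_h_n65_70 X) (U_h_n70_75 X) (Nat.ble (nat_lit 10046903) X)
noncomputable def U_h_n56_75 (X : ℕ) : ℕ := Bool.rec (motive := fun _ => ℕ) (U_h_n56_65 X) (U_h_n65_75 X) (Nat.ble (nat_lit 9715969) X)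
noncomputable def U_h_n37_75 (X : ℕ) : ℕ := Bool.rec (motive := fun _ => ℕ) (U_h_n37_56 X) (U_h_n56_75 X) (Nat.ble (nat_lit 9124417) X)
noncomputable def U_h_sel (X : ℕ) : ℕ := Bool.rec (motive := fun _ => ℕ) (U_h_n0_37 X) (U_h_n37_75 X) (Nat.ble (nat_lit 7881739) X)
noncomputable def UU_h (q : ℕ) : ℕ := (Nat.mod (U_h_sel q) q)
noncomputable def V_h_n0_2 (X : ℕ) : ℕ := Bool.rec (motive := fun _ => ℕ) V_h_0 V_h_1 (Nat.ble (nat_lit 5564497) X)
noncomputable def V_h_n2_4 (X : ℕ) : ℕ := Bool.rec (motive := fun _ => ℕ) V_h_2 V_h_3 (Nat.ble (nat_lit 5692157) X)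
noncomputable def V_h_n0_4 (X : ℕ) : ℕ := Bool.rec (motive := fun _ => ℕ) (V_h_n0_2 X) (V_h_n2_4 X) (Nat.ble (nat_lit 5628131) X)
noncomputable def V_h_n4_6 (X : ℕ) : ℕ := Bool.rec (motive := fun _ => ℕ) V_h_4 V_h_5 (Nat.ble (nat_lit 5820037) X)
noncomputable def V_h_n7_9 (X : ℕ) : ℕ := Bool.rec (motive := fun _ => ℕ) V_h_7 V_h_8 (Nat.ble (nat_lit 6010867) X)
noncomputable def V_h_n6_9 (X : ℕ) : ℕ := Bool.rec (motive := fun _ => ℕ) V_h_6 (V_h_n7_9 X) (Nat.ble (nat_lit 5946749) X)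
noncomputable def V_h_n4_9 (X : ℕ) : ℕ := Bool.rec (motive := fun _ => ℕ) (V_h_n4_6 X) (V_h_n6_9 X) (Nat.ble (nat_lit 5883737) X)
noncomputable def V_h_n0_9 (X : ℕ) : ℕ := Bool.rec (motive := fun _ => ℕ) (V_h_n0_4 X) (V_h_n4_9 X) (Nat.ble (nat_lit 5755531) X)
noncomputable def V_h_n9_11 (X : ℕ) : ℕ := Bool.rec (motive := fun _ => ℕ) V_h_9 V_h_10 (Nat.ble (nat_lit 6139249) X)
noncomputable def V_h_n11_13 (X : ℕ) : ℕ := Bool.rec (motive := fun _ => ℕ) V_h_11 V_h_12 (Nat.ble (nat_lit 6267619) X)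
noncomputable def V_h_n9_13 (X : ℕ) : ℕ := Bool.rec (motive := fun _ => ℕ) (V_h_n9_11 X) (V_h_n11_13 X) (Nat.ble (nat_lit 6203143) X)
noncomputable def V_h_n13_15 (X : ℕ) : ℕ := Bool.rec (motive := fun _ => ℕ) V_h_13 V_h_14 (Nat.ble (nat_lit 6395947) X)
noncomputable def V_h_n16_18 (X : ℕ) : ℕ := Bool.rec (motive := fun _ => ℕ) V_h_16 V_h_17 (Nat.ble (nat_lit 6588443) X)
noncomputable def V_h_n15_18 (X : ℕ) : ℕ := Bool.rec (motive := fun _ => ℕ) V_h_15 (V_h_n16_18 X) (Nat.ble (nat_lit 6524611) X)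
noncomputable def V_h_n13_18 (X : ℕ) : ℕ := Bool.rec (motive := fun _ => ℕ) (V_h_n13_15 X) (V_h_n15_18 X) (Nat.ble (nat_lit 6460379) X)
noncomputable def V_h_n9_18 (X : ℕ) : ℕ := Bool.rec (motive := fun _ => ℕ) (V_h_n9_13 X) (V_h_n13_18 X) (Nat.ble (nat_lit 6330559) X)
noncomputable def V_h_n0_18 (X : ℕ) : ℕ := Bool.rec (motive := fun _ => ℕ) (V_h_n0_9 X) (V_h_n9_18 X) (Nat.ble (nat_lit 6075263) X)
noncomputable def V_h_n18_20 (X : ℕ) : ℕ := Bool.rec (motive := fun _ => ℕ) V_h_18 V_h_19 (Nat.ble (nat_lit 6717307) X)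
noncomputable def V_h_n20_22 (X : ℕ) : ℕ := Bool.rec (motive := fun _ => ℕ) V_h_20 V_h_21 (Nat.ble (nat_lit 6846031) X)
noncomputable def V_h_n18_22 (X : ℕ) : ℕ := Bool.rec (motive := fun _ => ℕ) (V_h_n18_20 X) (V_h_n20_22 X) (Nat.ble (nat_lit 6781547) X)
noncomputable def V_h_n22_24 (X : ℕ) : ℕ := Bool.rec (motive := fun _ => ℕ) V_h_22 V_h_23 (Nat.ble (nat_lit 6974053) X)
noncomputable def V_h_n25_27 (X : ℕ) : ℕ := Bool.rec (motive := fun _ => ℕ) V_h_25 V_h_26 (Nat.ble (nat_lit 7167791) X)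
noncomputable def V_h_n24_27 (X : ℕ) : ℕ := Bool.rec (motive := fun _ => ℕ) V_h_24 (V_h_n25_27 X) (Nat.ble (nat_lit 7102643) X)
noncomputable def V_h_n22_27 (X : ℕ) : ℕ := Bool.rec (motive := fun _ => ℕ) (V_h_n22_24 X) (V_h_n24_27 X) (Nat.ble (nat_lit 7038397) X)
noncomputable def V_h_n18_27 (X : ℕ) : ℕ := Bool.rec (motive := fun _ => ℕ) (V_h_n18_22 X) (V_h_n22_27 X) (Nat.ble (nat_lit 6909907) X)
noncomputable def V_h_n27_29 (X : ℕ) : ℕ := Bool.rec (motive := fun _ => ℕ) V_h_27 V_h_28 (Nat.ble (nat_lit 7296983) X)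
noncomputable def V_h_n30_32 (X : ℕ) : ℕ := Bool.rec (motive := fun _ => ℕ) V_h_30 V_h_31 (Nat.ble (nat_lit 7492031) X)
noncomputable def V_h_n29_32 (X : ℕ) : ℕ := Bool.rec (motive := fun _ => ℕ) V_h_29 (V_h_n30_32 X) (Nat.ble (nat_lit 7427041) X)
noncomputable def V_h_n27_32 (X : ℕ) : ℕ := Bool.rec (motive := fun _ => ℕ) (V_h_n27_29 X) (V_h_n29_32 X) (Nat.ble (nat_lit 7362133) X)
noncomputable def V_h_n32_34 (X : ℕ) : ℕ := Bool.rec (motive := fun _ => ℕ) V_h_32 V_h_33 (Nat.ble (nat_lit 7622317) X)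
noncomputable def V_h_n35_37 (X : ℕ) : ℕ := Bool.rec (motive := fun _ => ℕ) V_h_35 V_h_36 (Nat.ble (nat_lit 7817143) X)
noncomputable def V_h_n34_37 (X : ℕ) : ℕ := Bool.rec (motive := fun _ => ℕ) V_h_34 (V_h_n35_37 X) (Nat.ble (nat_lit 7752179) X)
noncomputable def V_h_n32_37 (X : ℕ) : ℕ := Bool.rec (motive := fun _ => ℕ) (V_h_n32_34 X) (V_h_n34_37 X) (Nat.ble (nat_lit 7686893) X)
noncomputable def V_h_n27_37 (X : ℕ) : ℕ := Bool.rec (motive := fun _ => ℕ) (V_h_n27_32 X) (V_h_n32_37 X) (Nat.ble (nat_lit 7557091) X)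
noncomputable def V_h_n18_37 (X : ℕ) : ℕ := Bool.rec (motive := fun _ => ℕ) (V_h_n18_27 X) (V_h_n27_37 X) (Nat.ble (nat_lit 7232899) X)
noncomputable def V_h_n0_37 (X : ℕ) : ℕ := Bool.rec (motive := fun _ => ℕ) (V_h_n0_18 X) (V_h_n18_37 X) (Nat.ble (nat_lit 6652979) X)
noncomputable def V_h_n37_39 (X : ℕ) : ℕ := Bool.rec (motive := fun _ => ℕ) V_h_37 V_h_38 (Nat.ble (nat_lit 7946711) X)
noncomputable def V_h_n39_41 (X : ℕ) : ℕ := Bool.rec (motive := fun _ => ℕ) V_h_39 V_h_40 (Nat.ble (nat_lit 8077529) X)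
noncomputable def V_h_n37_41 (X : ℕ) : ℕ := Bool.rec (motive := fun _ => ℕ) (V_h_n37_39 X) (V_h_n39_41 X) (Nat.ble (nat_lit 8012209) X)
noncomputable def V_h_n41_43 (X : ℕ) : ℕ := Bool.rec (motive := fun _ => ℕ) V_h_41 V_h_42 (Nat.ble (nat_lit 8208023) X)
noncomputable def V_h_n44_46 (X : ℕ) : ℕ := Bool.rec (motive := fun _ => ℕ) V_h_44 V_h_45 (Nat.ble (nat_lit 8403817) X)
noncomputable def V_h_n43_46 (X : ℕ) : ℕ := Bool.rec (motive := fun _ => ℕ) V_h_43 (V_h_n44_46 X) (Nat.ble (nat_lit 8338643) X)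
noncomputable def V_h_n41_46 (X : ℕ) : ℕ := Bool.rec (motive := fun _ => ℕ) (V_h_n41_43 X) (V_h_n43_46 X) (Nat.ble (nat_lit 8273477) X)
noncomputable def V_h_n37_46 (X : ℕ) : ℕ := Bool.rec (motive := fun _ => ℕ) (V_h_n37_41 X) (V_h_n41_46 X) (Nat.ble (nat_lit 8143277) X)
noncomputable def V_h_n46_48 (X : ℕ) : ℕ := Bool.rec (motive := fun _ => ℕ) V_h_46 V_h_47 (Nat.ble (nat_lit 8534429) X)
noncomputable def V_h_n49_51 (X : ℕ) : ℕ := Bool.rec (motive := fun _ => ℕ) V_h_49 V_h_50 (Nat.ble (nat_lit 8729821) X)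
noncomputable def V_h_n48_51 (X : ℕ) : ℕ := Bool.rec (motive := fun _ => ℕ) V_h_48 (V_h_n49_51 X) (Nat.ble (nat_lit 8664559) X)
noncomputable def V_h_n46_51 (X : ℕ) : ℕ := Bool.rec (motive := fun _ => ℕ) (V_h_n46_48 X) (V_h_n48_51 X) (Nat.ble (nat_lit 8599469) X)
noncomputable def V_h_n51_53 (X : ℕ) : ℕ := Bool.rec (motive := fun _ => ℕ) V_h_51 V_h_52 (Nat.ble (nat_lit 8861159) X)
noncomputable def V_h_n54_56 (X : ℕ) : ℕ := Bool.rec (motive := fun _ => ℕ) V_h_54 V_h_55 (Nat.ble (nat_lit 9058837) X)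
noncomputable def V_h_n53_56 (X : ℕ) : ℕ := Bool.rec (motive := fun _ => ℕ) V_h_53 (V_h_n54_56 X) (Nat.ble (nat_lit 8992199) X)
noncomputable def V_h_n51_56 (X : ℕ) : ℕ := Bool.rec (motive := fun _ => ℕ) (V_h_n51_53 X) (V_h_n53_56 X) (Nat.ble (nat_lit 8926363) X)
noncomputable def V_h_n46_56 (X : ℕ) : ℕ := Bool.rec (motive := fun _ => ℕ) (V_h_n46_51 X) (V_h_n51_56 X) (Nat.ble (nat_lit 8795047) X)
noncomputable def V_h_n37_56 (X : ℕ) : ℕ := Bool.rec (motive := fun _ => ℕ) (V_h_n37_46 X) (V_h_n46_56 X) (Nat.ble (nat_lit 8469977) X)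
noncomputable def V_h_n56_58 (X : ℕ) : ℕ := Bool.rec (motive := fun _ => ℕ) V_h_56 V_h_57 (Nat.ble (nat_lit 9189703) X)
noncomputable def V_h_n58_60 (X : ℕ) : ℕ := Bool.rec (motive := fun _ => ℕ) V_h_58 V_h_59 (Nat.ble (nat_lit 9320833) X)
noncomputable def V_h_n56_60 (X : ℕ) : ℕ := Bool.rec (motive := fun _ => ℕ) (V_h_n56_58 X) (V_h_n58_60 X) (Nat.ble (nat_lit 9255023) X)
noncomputable def V_h_n60_62 (X : ℕ) : ℕ := Bool.rec (motive := fun _ => ℕ) V_h_60 V_h_61 (Nat.ble (nat_lit 9452537) X)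
noncomputable def V_h_n63_65 (X : ℕ) : ℕ := Bool.rec (motive := fun _ => ℕ) V_h_63 V_h_64 (Nat.ble (nat_lit 9649747) X)
noncomputable def V_h_n62_65 (X : ℕ) : ℕ := Bool.rec (motive := fun _ => ℕ) V_h_62 (V_h_n63_65 X) (Nat.ble (nat_lit 9584063) X)
noncomputable def V_h_n60_65 (X : ℕ) : ℕ := Bool.rec (motive := fun _ => ℕ) (V_h_n60_62 X) (V_h_n62_65 X) (Nat.ble (nat_lit 9518723) X)
noncomputable def V_h_n56_65 (X : ℕ) : ℕ := Bool.rec (motive := fun _ => ℕ) (V_h_n56_60 X) (V_h_n60_65 X) (Nat.ble (nat_lit 9386471) X)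
noncomputable def V_h_n65_67 (X : ℕ) : ℕ := Bool.rec (motive := fun _ => ℕ) V_h_65 V_h_66 (Nat.ble (nat_lit 9782029) X)
noncomputable def V_h_n68_70 (X : ℕ) : ℕ := Bool.rec (motive := fun _ => ℕ) V_h_68 V_h_69 (Nat.ble (nat_lit 9980857) X)
noncomputable def V_h_n67_70 (X : ℕ) : ℕ := Bool.rec (motive := fun _ => ℕ) V_h_67 (V_h_n68_70 X) (Nat.ble (nat_lit 9914617) X)
noncomputable def V_h_n65_70 (X : ℕ) : ℕ := Bool.rec (motive := fun _ => ℕ) (V_h_n65_67 X) (V_h_n67_70 X) (Nat.ble (nat_lit 9847967) X)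
noncomputable def V_h_n70_72 (X : ℕ) : ℕ := Bool.rec (motive := fun _ => ℕ) V_h_70 V_h_71 (Nat.ble (nat_lit 10112897) X)
noncomputable def V_h_n73_75 (X : ℕ) : ℕ := Bool.rec (motive := fun _ => ℕ) V_h_73 V_h_74 (Nat.ble (nat_lit 10311997) X)
noncomputable def V_h_n72_75 (X : ℕ) : ℕ := Bool.rec (motive := fun _ => ℕ) V_h_72 (V_h_n73_75 X) (Nat.ble (nat_lit 10245751) X)
noncomputable def V_h_n70_75 (X : ℕ) : ℕ := Bool.rec (motive := fun _ => ℕ) (V_h_n70_72 X) (V_h_n72_75 X) (Nat.ble (nat_lit 10179161) X)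
noncomputable def V_h_n65_75 (X : ℕ) : ℕ := Bool.rec (motive := fun _ => ℕ) (V_h_n65_70 X) (V_h_n70_75 X) (Nat.ble (nat_lit 10046903) X)
noncomputable def V_h_n56_75 (X : ℕ) : ℕ := Bool.rec (motive := fun _ => ℕ) (V_h_n56_65 X) (V_h_n65_75 X) (Nat.ble (nat_lit 9715969) X)
noncomputable def V_h_n37_75 (X : ℕ) : ℕ := Bool.rec (motive := fun _ => ℕ) (V_h_n37_56 X) (V_h_n56_75 X) (Nat.ble (nat_lit 9124417) X)
noncomputable def V_h_sel (X : ℕ) : ℕ := Bool.rec (motive := fun _ => ℕ) (V_h_n0_37 X) (V_h_n37_75 X) (Nat.ble (nat_lit 7881739) X)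
noncomputable def VV_h (q : ℕ) : ℕ := (Nat.mod (V_h_sel q) q)
noncomputable def G_h (t q : ℕ) : ℕ := Bool.rec (motive := fun _ => ℕ) (nat_lit 0) (F_h q) (Nat.ble (Nat.succ (UU_h q)) t)
noncomputable def T_i_n0_2 (X : ℕ) : ℕ := Bool.rec (motive := fun _ => ℕ) T_i_0 T_i_1 (Nat.ble (nat_lit 5564497) X)
noncomputable def T_i_n2_4 (X : ℕ) : ℕ := Bool.rec (motive := fun _ => ℕ) T_i_2 T_i_3 (Nat.ble (nat_lit 5692157) X)
noncomputable def T_i_n0_4 (X : ℕ) : ℕ := Bool.rec (motive := fun _ => ℕ) (T_i_n0_2 X) (T_i_n2_4 X) (Nat.ble (nat_lit 5628131) X)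
noncomputable def T_i_n4_6 (X : ℕ) : ℕ := Bool.rec (motive := fun _ => ℕ) T_i_4 T_i_5 (Nat.ble (nat_lit 5820037) X)
noncomputable def T_i_n7_9 (X : ℕ) : ℕ := Bool.rec (motive := fun _ => ℕ) T_i_7 T_i_8 (Nat.ble (nat_lit 6010867) X)
noncomputable def T_i_n6_9 (X : ℕ) : ℕ := Bool.rec (motive := fun _ => ℕ) T_i_6 (T_i_n7_9 X) (Nat.ble (nat_lit 5946749) X)
noncomputable def T_i_n4_9 (X : ℕ) : ℕ := Bool.rec (motive := fun _ => ℕ) (T_i_n4_6 X) (T_i_n6_9 X) (Nat.ble (nat_lit 5883737) X)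
noncomputable def T_i_n0_9 (X : ℕ) : ℕ := Bool.rec (motive := fun _ => ℕ) (T_i_n0_4 X) (T_i_n4_9 X) (Nat.ble (nat_lit 5755531) X)
noncomputable def T_i_n9_11 (X : ℕ) : ℕ := Bool.rec (motive := fun _ => ℕ) T_i_9 T_i_10 (Nat.ble (nat_lit 6139249) X)
noncomputable def T_i_n11_13 (X : ℕ) : ℕ := Bool.rec (motive := fun _ => ℕ) T_i_11 T_i_12 (Nat.ble (nat_lit 6267619) X)
noncomputable def T_i_n9_13 (X : ℕ) : ℕ := Bool.rec (motive := fun _ => ℕ) (T_i_n9_11 X) (T_i_n11_13 X) (Nat.ble (nat_lit 6203143) X)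
noncomputable def T_i_n13_15 (X : ℕ) : ℕ := Bool.rec (motive := fun _ => ℕ) T_i_13 T_i_14 (Nat.ble (nat_lit 6395947) X)
noncomputable def T_i_n16_18 (X : ℕ) : ℕ := Bool.rec (motive := fun _ => ℕ) T_i_16 T_i_17 (Nat.ble (nat_lit 6588443) X)
noncomputable def T_i_n15_18 (X : ℕ) : ℕ := Bool.rec (motive := fun _ => ℕ) T_i_15 (T_i_n16_18 X) (Nat.ble (nat_lit 6524611) X)
noncomputable def T_i_n13_18 (X : ℕ) : ℕ := Bool.rec (motive := fun _ => ℕ) (T_i_n13_15 X) (T_i_n15_18 X) (Nat.ble (nat_lit 6460379) X)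
noncomputable def T_i_n9_18 (X : ℕ) : ℕ := Bool.rec (motive := fun _ => ℕ) (T_i_n9_13 X) (T_i_n13_18 X) (Nat.ble (nat_lit 6330559) X)
noncomputable def T_i_n0_18 (X : ℕ) : ℕ := Bool.rec (motive := fun _ => ℕ) (T_i_n0_9 X) (T_i_n9_18 X) (Nat.ble (nat_lit 6075263) X)
noncomputable def T_i_n18_20 (X : ℕ) : ℕ := Bool.rec (motive := fun _ => ℕ) T_i_18 T_i_19 (Nat.ble (nat_lit 6717307) X)
noncomputable def T_i_n20_22 (X : ℕ) : ℕ := Bool.rec (motive := fun _ => ℕ) T_i_20 T_i_21 (Nat.ble (nat_lit 6846031) X)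
noncomputable def T_i_n18_22 (X : ℕ) : ℕ := Bool.rec (motive := fun _ => ℕ) (T_i_n18_20 X) (T_i_n20_22 X) (Nat.ble (nat_lit 6781547) X)
noncomputable def T_i_n22_24 (X : ℕ) : ℕ := Bool.rec (motive := fun _ => ℕ) T_i_22 T_i_23 (Nat.ble (nat_lit 6974053) X)
noncomputable def T_i_n25_27 (X : ℕ) : ℕ := Bool.rec (motive := fun _ => ℕ) T_i_25 T_i_26 (Nat.ble (nat_lit 7167791) X)
noncomputable def T_i_n24_27 (X : ℕ) : ℕ := Bool.rec (motive := fun _ => ℕ) T_i_24 (T_i_n25_27 X) (Nat.ble (nat_lit 7102643) X)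
noncomputable def T_i_n22_27 (X : ℕ) : ℕ := Bool.rec (motive := fun _ => ℕ) (T_i_n22_24 X) (T_i_n24_27 X) (Nat.ble (nat_lit 7038397) X)
noncomputable def T_i_n18_27 (X : ℕ) : ℕ := Bool.rec (motive := fun _ => ℕ) (T_i_n18_22 X) (T_i_n22_27 X) (Nat.ble (nat_lit 6909907) X)
noncomputable def T_i_n27_29 (X : ℕ) : ℕ := Bool.rec (motive := fun _ => ℕ) T_i_27 T_i_28 (Nat.ble (nat_lit 7296983) X)
noncomputable def T_i_n30_32 (X : ℕ) : ℕ := Bool.rec (motive := fun _ => ℕ) T_i_30 T_i_31 (Nat.ble (nat_lit 7492031) X)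
noncomputable def T_i_n29_32 (X : ℕ) : ℕ := Bool.rec (motive := fun _ => ℕ) T_i_29 (T_i_n30_32 X) (Nat.ble (nat_lit 7427041) X)
noncomputable def T_i_n27_32 (X : ℕ) : ℕ := Bool.rec (motive := fun _ => ℕ) (T_i_n27_29 X) (T_i_n29_32 X) (Nat.ble (nat_lit 7362133) X)
noncomputable def T_i_n32_34 (X : ℕ) : ℕ := Bool.rec (motive := fun _ => ℕ) T_i_32 T_i_33 (Nat.ble (nat_lit 7622317) X)
noncomputable def T_i_n35_37 (X : ℕ) : ℕ := Bool.rec (motive := fun _ => ℕ) T_i_35 T_i_36 (Nat.ble (nat_lit 7817143) X)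
noncomputable def T_i_n34_37 (X : ℕ) : ℕ := Bool.rec (motive := fun _ => ℕ) T_i_34 (T_i_n35_37 X) (Nat.ble (nat_lit 7752179) X)
noncomputable def T_i_n32_37 (X : ℕ) : ℕ := Bool.rec (motive := fun _ => ℕ) (T_i_n32_34 X) (T_i_n34_37 X) (Nat.ble (nat_lit 7686893) X)
noncomputable def T_i_n27_37 (X : ℕ) : ℕ := Bool.rec (motive := fun _ => ℕ) (T_i_n27_32 X) (T_i_n32_37 X) (Nat.ble (nat_lit 7557091) X)
noncomputable def T_i_n18_37 (X : ℕ) : ℕ := Bool.rec (motive := fun _ => ℕ) (T_i_n18_27 X) (T_i_n27_37 X) (Nat.ble (nat_lit 7232899) X)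
noncomputable def T_i_n0_37 (X : ℕ) : ℕ := Bool.rec (motive := fun _ => ℕ) (T_i_n0_18 X) (T_i_n18_37 X) (Nat.ble (nat_lit 6652979) X)
noncomputable def T_i_n37_39 (X : ℕ) : ℕ := Bool.rec (motive := fun _ => ℕ) T_i_37 T_i_38 (Nat.ble (nat_lit 7946711) X)
noncomputable def T_i_n39_41 (X : ℕ) : ℕ := Bool.rec (motive := fun _ => ℕ) T_i_39 T_i_40 (Nat.ble (nat_lit 8077529) X)
noncomputable def T_i_n37_41 (X : ℕ) : ℕ := Bool.rec (motive := fun _ => ℕ) (T_i_n37_39 X) (T_i_n39_41 X) (Nat.ble (nat_lit 8012209) X)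
noncomputable def T_i_n41_43 (X : ℕ) : ℕ := Bool.rec (motive := fun _ => ℕ) T_i_41 T_i_42 (Nat.ble (nat_lit 8208023) X)
noncomputable def T_i_n44_46 (X : ℕ) : ℕ := Bool.rec (motive := fun _ => ℕ) T_i_44 T_i_45 (Nat.ble (nat_lit 8403817) X)
noncomputable def T_i_n43_46 (X : ℕ) : ℕ := Bool.rec (motive := fun _ => ℕ) T_i_43 (T_i_n44_46 X) (Nat.ble (nat_lit 8338643) X)
noncomputable def T_i_n41_46 (X : ℕ) : ℕ := Bool.rec (motive := fun _ => ℕ) (T_i_n41_43 X) (T_i_n43_46 X) (Nat.ble (nat_lit 8273477) X)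
noncomputable def T_i_n37_46 (X : ℕ) : ℕ := Bool.rec (motive := fun _ => ℕ) (T_i_n37_41 X) (T_i_n41_46 X) (Nat.ble (nat_lit 8143277) X)
noncomputable def T_i_n46_48 (X : ℕ) : ℕ := Bool.rec (motive := fun _ => ℕ) T_i_46 T_i_47 (Nat.ble (nat_lit 8534429) X)
noncomputable def T_i_n49_51 (X : ℕ) : ℕ := Bool.rec (motive := fun _ => ℕ) T_i_49 T_i_50 (Nat.ble (nat_lit 8729821) X)
noncomputable def T_i_n48_51 (X : ℕ) : ℕ := Bool.rec (motive := fun _ => ℕ) T_i_48 (T_i_n49_51 X) (Nat.ble (nat_lit 8664559) X)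
noncomputable def T_i_n46_51 (X : ℕ) : ℕ := Bool.rec (motive := fun _ => ℕ) (T_i_n46_48 X) (T_i_n48_51 X) (Nat.ble (nat_lit 8599469) X)
noncomputable def T_i_n51_53 (X : ℕ) : ℕ := Bool.rec (motive := fun _ => ℕ) T_i_51 T_i_52 (Nat.ble (nat_lit 8861159) X)
noncomputable def T_i_n54_56 (X : ℕ) : ℕ := Bool.rec (motive := fun _ => ℕ) T_i_54 T_i_55 (Nat.ble (nat_lit 9058837) X)
noncomputable def T_i_n53_56 (X : ℕ) : ℕ := Bool.rec (motive := fun _ => ℕ) T_i_53 (T_i_n54_56 X) (Nat.ble (nat_lit 8992199) X)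
noncomputable def T_i_n51_56 (X : ℕ) : ℕ := Bool.rec (motive := fun _ => ℕ) (T_i_n51_53 X) (T_i_n53_56 X) (Nat.ble (nat_lit 8926363) X)
noncomputable def T_i_n46_56 (X : ℕ) : ℕ := Bool.rec (motive := fun _ => ℕ) (T_i_n46_51 X) (T_i_n51_56 X) (Nat.ble (nat_lit 8795047) X)
noncomputable def T_i_n37_56 (X : ℕ) : ℕ := Bool.rec (motive := fun _ => ℕ) (T_i_n37_46 X) (T_i_n46_56 X) (Nat.ble (nat_lit 8469977) X)
noncomputable def T_i_n56_58 (X : ℕ) : ℕ := Bool.rec (motive := fun _ => ℕ) T_i_56 T_i_57 (Nat.ble (nat_lit 9189703) X)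
noncomputable def T_i_n58_60 (X : ℕ) : ℕ := Bool.rec (motive := fun _ => ℕ) T_i_58 T_i_59 (Nat.ble (nat_lit 9320833) X)
noncomputable def T_i_n56_60 (X : ℕ) : ℕ := Bool.rec (motive := fun _ => ℕ) (T_i_n56_58 X) (T_i_n58_60 X) (Nat.ble (nat_lit 9255023) X)
noncomputable def T_i_n60_62 (X : ℕ) : ℕ := Bool.rec (motive := fun _ => ℕ) T_i_60 T_i_61 (Nat.ble (nat_lit 9452537) X)
noncomputable def T_i_n63_65 (X : ℕ) : ℕ := Bool.rec (motive := fun _ => ℕ) T_i_63 T_i_64 (Nat.ble (nat_lit 9649747) X)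
noncomputable def T_i_n62_65 (X : ℕ) : ℕ := Bool.rec (motive := fun _ => ℕ) T_i_62 (T_i_n63_65 X) (Nat.ble (nat_lit 9584063) X)
noncomputable def T_i_n60_65 (X : ℕ) : ℕ := Bool.rec (motive := fun _ => ℕ) (T_i_n60_62 X) (T_i_n62_65 X) (Nat.ble (nat_lit 9518723) X)
noncomputable def T_i_n56_65 (X : ℕ) : ℕ := Bool.rec (motive := fun _ => ℕ) (T_i_n56_60 X) (T_i_n60_65 X) (Nat.ble (nat_lit 9386471) X)
noncomputable def T_i_n65_67 (X : ℕ) : ℕ := Bool.rec (motive := fun _ => ℕ) T_i_65 T_i_66 (Nat.ble (nat_lit 9782029) X)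
noncomputable def T_i_n68_70 (X : ℕ) : ℕ := Bool.rec (motive := fun _ => ℕ) T_i_68 T_i_69 (Nat.ble (nat_lit 9980857) X)
noncomputable def T_i_n67_70 (X : ℕ) : ℕ := Bool.rec (motive := fun _ => ℕ) T_i_67 (T_i_n68_70 X) (Nat.ble (nat_lit 9914617) X)
noncomputable def T_i_n65_70 (X : ℕ) : ℕ := Bool.rec (motive := fun _ => ℕ) (T_i_n65_67 X) (T_i_n67_70 X) (Nat.ble (nat_lit 9847967) X)
noncomputable def T_i_n70_72 (X : ℕ) : ℕ := Bool.rec (motive := fun _ => ℕ) T_i_70 T_i_71 (Nat.ble (nat_lit 10112897) X)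
noncomputable def T_i_n73_75 (X : ℕ) : ℕ := Bool.rec (motive := fun _ => ℕ) T_i_73 T_i_74 (Nat.ble (nat_lit 10311997) X)
noncomputable def T_i_n72_75 (X : ℕ) : ℕ := Bool.rec (motive := fun _ => ℕ) T_i_72 (T_i_n73_75 X) (Nat.ble (nat_lit 10245751) X)
noncomputable def T_i_n70_75 (X : ℕ) : ℕ := Bool.rec (motive := fun _ => ℕ) (T_i_n70_72 X) (T_i_n72_75 X) (Nat.ble (nat_lit 10179161) X)
noncomputable def T_i_n65_75 (X : ℕ) : ℕ := Bool.rec (motive := fun _ => ℕ) (T_i_n65_70 X) (T_i_n70_75 X) (Nat.ble (nat_lit 10046903) X)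
noncomputable def T_i_n56_75 (X : ℕ) : ℕ := Bool.rec (motive := fun _ => ℕ) (T_i_n56_65 X) (T_i_n65_75 X) (Nat.ble (nat_lit 9715969) X)
noncomputable def T_i_n37_75 (X : ℕ) : ℕ := Bool.rec (motive := fun _ => ℕ) (T_i_n37_56 X) (T_i_n56_75 X) (Nat.ble (nat_lit 9124417) X)
noncomputable def T_i_sel (X : ℕ) : ℕ := Bool.rec (motive := fun _ => ℕ) (T_i_n0_37 X) (T_i_n37_75 X) (Nat.ble (nat_lit 7881739) X)
noncomputable def F_i (q : ℕ) : ℕ := Nat.add (nat_lit 5500000) (Nat.mod (T_i_sel q) q)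
noncomputable def U_i_n0_2 (X : ℕ) : ℕ := Bool.rec (motive := fun _ => ℕ) U_i_0 U_i_1 (Nat.ble (nat_lit 5564497) X)
noncomputable def U_i_n2_4 (X : ℕ) : ℕ := Bool.rec (motive := fun _ => ℕ) U_i_2 U_i_3 (Nat.ble (nat_lit 5692157) X)
noncomputable def U_i_n0_4 (X : ℕ) : ℕ := Bool.rec (motive := fun _ => ℕ) (U_i_n0_2 X) (U_i_n2_4 X) (Nat.ble (nat_lit 5628131) X)
noncomputable def U_i_n4_6 (X : ℕ) : ℕ := Bool.rec (motive := fun _ => ℕ) U_i_4 U_i_5 (Nat.ble (nat_lit 5820037) X)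
noncomputable def U_i_n7_9 (X : ℕ) : ℕ := Bool.rec (motive := fun _ => ℕ) U_i_7 U_i_8 (Nat.ble (nat_lit 6010867) X)
noncomputable def U_i_n6_9 (X : ℕ) : ℕ := Bool.rec (motive := fun _ => ℕ) U_i_6 (U_i_n7_9 X) (Nat.ble (nat_lit 5946749) X)
noncomputable def U_i_n4_9 (X : ℕ) : ℕ := Bool.rec (motive := fun _ => ℕ) (U_i_n4_6 X) (U_i_n6_9 X) (Nat.ble (nat_lit 5883737) X)
noncomputable def U_i_n0_9 (X : ℕ) : ℕ := Bool.rec (motive := fun _ => ℕ) (U_i_n0_4 X) (U_i_n4_9 X) (Nat.ble (nat_lit 5755531) X)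
noncomputable def U_i_n9_11 (X : ℕ) : ℕ := Bool.rec (motive := fun _ => ℕ) U_i_9 U_i_10 (Nat.ble (nat_lit 6139249) X)
noncomputable def U_i_n11_13 (X : ℕ) : ℕ := Bool.rec (motive := fun _ => ℕ) U_i_11 U_i_12 (Nat.ble (nat_lit 6267619) X)
noncomputable def U_i_n9_13 (X : ℕ) : ℕ := Bool.rec (motive := fun _ => ℕ) (U_i_n9_11 X) (U_i_n11_13 X) (Nat.ble (nat_lit 6203143) X)
noncomputable def U_i_n13_15 (X : ℕ) : ℕ := Bool.rec (motive := fun _ => ℕ) U_i_13 U_i_14 (Nat.ble (nat_lit 6395947) X)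
noncomputable def U_i_n16_18 (X : ℕ) : ℕ := Bool.rec (motive := fun _ => ℕ) U_i_16 U_i_17 (Nat.ble (nat_lit 6588443) X)
noncomputable def U_i_n15_18 (X : ℕ) : ℕ := Bool.rec (motive := fun _ => ℕ) U_i_15 (U_i_n16_18 X) (Nat.ble (nat_lit 6524611) X)
noncomputable def U_i_n13_18 (X : ℕ) : ℕ := Bool.rec (motive := fun _ => ℕ) (U_i_n13_15 X) (U_i_n15_18 X) (Nat.ble (nat_lit 6460379) X)
noncomputable def U_i_n9_18 (X : ℕ) : ℕ := Bool.rec (motive := fun _ => ℕ) (U_i_n9_13 X) (U_i_n13_18 X) (Nat.ble (nat_lit 6330559) X)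
noncomputable def U_i_n0_18 (X : ℕ) : ℕ := Bool.rec (motive := fun _ => ℕ) (U_i_n0_9 X) (U_i_n9_18 X) (Nat.ble (nat_lit 6075263) X)
noncomputable def U_i_n18_20 (X : ℕ) : ℕ := Bool.rec (motive := fun _ => ℕ) U_i_18 U_i_19 (Nat.ble (nat_lit 6717307) X)
noncomputable def U_i_n20_22 (X : ℕ) : ℕ := Bool.rec (motive := fun _ => ℕ) U_i_20 U_i_21 (Nat.ble (nat_lit 6846031) X)
noncomputable def U_i_n18_22 (X : ℕ) : ℕ := Bool.rec (motive := fun _ => ℕ) (U_i_n18_20 X) (U_i_n20_22 X) (Nat.ble (nat_lit 6781547) X)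
noncomputable def U_i_n22_24 (X : ℕ) : ℕ := Bool.rec (motive := fun _ => ℕ) U_i_22 U_i_23 (Nat.ble (nat_lit 6974053) X)
noncomputable def U_i_n25_27 (X : ℕ) : ℕ := Bool.rec (motive := fun _ => ℕ) U_i_25 U_i_26 (Nat.ble (nat_lit 7167791) X)
noncomputable def U_i_n24_27 (X : ℕ) : ℕ := Bool.rec (motive := fun _ => ℕ) U_i_24 (U_i_n25_27 X) (Nat.ble (nat_lit 7102643) X)
noncomputable def U_i_n22_27 (X : ℕ) : ℕ := Bool.rec (motive := fun _ => ℕ) (U_i_n22_24 X) (U_i_n24_27 X) (Nat.ble (nat_lit 7038397) X)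
noncomputable def U_i_n18_27 (X : ℕ) : ℕ := Bool.rec (motive := fun _ => ℕ) (U_i_n18_22 X) (U_i_n22_27 X) (Nat.ble (nat_lit 6909907) X)
noncomputable def U_i_n27_29 (X : ℕ) : ℕ := Bool.rec (motive := fun _ => ℕ) U_i_27 U_i_28 (Nat.ble (nat_lit 7296983) X)
noncomputable def U_i_n30_32 (X : ℕ) : ℕ := Bool.rec (motive := fun _ => ℕ) U_i_30 U_i_31 (Nat.ble (nat_lit 7492031) X)
noncomputable def U_i_n29_32 (X : ℕ) : ℕ := Bool.rec (motive := fun _ => ℕ) U_i_29 (U_i_n30_32 X) (Nat.ble (nat_lit 7427041) X)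
noncomputable def U_i_n27_32 (X : ℕ) : ℕ := Bool.rec (motive := fun _ => ℕ) (U_i_n27_29 X) (U_i_n29_32 X) (Nat.ble (nat_lit 7362133) X)
noncomputable def U_i_n32_34 (X : ℕ) : ℕ := Bool.rec (motive := fun _ => ℕ) U_i_32 U_i_33 (Nat.ble (nat_lit 7622317) X)
noncomputable def U_i_n35_37 (X : ℕ) : ℕ := Bool.rec (motive := fun _ => ℕ) U_i_35 U_i_36 (Nat.ble (nat_lit 7817143) X)
noncomputable def U_i_n34_37 (X : ℕ) : ℕ := Bool.rec (motive := fun _ => ℕ) U_i_34 (U_i_n35_37 X) (Nat.ble (nat_lit 7752179) X)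
noncomputable def U_i_n32_37 (X : ℕ) : ℕ := Bool.rec (motive := fun _ => ℕ) (U_i_n32_34 X) (U_i_n34_37 X) (Nat.ble (nat_lit 7686893) X)
noncomputable def U_i_n27_37 (X : ℕ) : ℕ := Bool.rec (motive := fun _ => ℕ) (U_i_n27_32 X) (U_i_n32_37 X) (Nat.ble (nat_lit 7557091) X)
noncomputable def U_i_n18_37 (X : ℕ) : ℕ := Bool.rec (motive := fun _ => ℕ) (U_i_n18_27 X) (U_i_n27_37 X) (Nat.ble (nat_lit 7232899) X)
noncomputable def U_i_n0_37 (X : ℕ) : ℕ := Bool.rec (motive := fun _ => ℕ) (U_i_n0_18 X) (U_i_n18_37 X) (Nat.ble (nat_lit 6652979) X)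
noncomputable def U_i_n37_39 (X : ℕ) : ℕ := Bool.rec (motive := fun _ => ℕ) U_i_37 U_i_38 (Nat.ble (nat_lit 7946711) X)
noncomputable def U_i_n39_41 (X : ℕ) : ℕ := Bool.rec (motive := fun _ => ℕ) U_i_39 U_i_40 (Nat.ble (nat_lit 8077529) X)
noncomputable def U_i_n37_41 (X : ℕ) : ℕ := Bool.rec (motive := fun _ => ℕ) (U_i_n37_39 X) (U_i_n39_41 X) (Nat.ble (nat_lit 8012209) X)
noncomputable def U_i_n41_43 (X : ℕ) : ℕ := Bool.rec (motive := fun _ => ℕ) U_i_41 U_i_42 (Nat.ble (nat_lit 8208023) X)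
noncomputable def U_i_n44_46 (X : ℕ) : ℕ := Bool.rec (motive := fun _ => ℕ) U_i_44 U_i_45 (Nat.ble (nat_lit 8403817) X)
noncomputable def U_i_n43_46 (X : ℕ) : ℕ := Bool.rec (motive := fun _ => ℕ) U_i_43 (U_i_n44_46 X) (Nat.ble (nat_lit 8338643) X)
noncomputable def U_i_n41_46 (X : ℕ) : ℕ := Bool.rec (motive := fun _ => ℕ) (U_i_n41_43 X) (U_i_n43_46 X) (Nat.ble (nat_lit 8273477) X)
noncomputable def U_i_n37_46 (X : ℕ) : ℕ := Bool.rec (motive := fun _ => ℕ) (U_i_n37_41 X) (U_i_n41_46 X) (Nat.ble (nat_lit 8143277) X)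
noncomputable def U_i_n46_48 (X : ℕ) : ℕ := Bool.rec (motive := fun _ => ℕ) U_i_46 U_i_47 (Nat.ble (nat_lit 8534429) X)
noncomputable def U_i_n49_51 (X : ℕ) : ℕ := Bool.rec (motive := fun _ => ℕ) U_i_49 U_i_50 (Nat.ble (nat_lit 8729821) X)
noncomputable def U_i_n48_51 (X : ℕ) : ℕ := Bool.rec (motive := fun _ => ℕ) U_i_48 (U_i_n49_51 X) (Nat.ble (nat_lit 8664559) X)
noncomputable def U_i_n46_51 (X : ℕ) : ℕ := Bool.rec (motive := fun _ => ℕ) (U_i_n46_48 X) (U_i_n48_51 X) (Nat.ble (nat_lit 8599469) X)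
noncomputable def U_i_n51_53 (X : ℕ) : ℕ := Bool.rec (motive := fun _ => ℕ) U_i_51 U_i_52 (Nat.ble (nat_lit 8861159) X)
noncomputable def U_i_n54_56 (X : ℕ) : ℕ := Bool.rec (motive := fun _ => ℕ) U_i_54 U_i_55 (Nat.ble (nat_lit 9058837) X)
noncomputable def U_i_n53_56 (X : ℕ) : ℕ := Bool.rec (motive := fun _ => ℕ) U_i_53 (U_i_n54_56 X) (Nat.ble (nat_lit 8992199) X)
noncomputable def U_i_n51_56 (X : ℕ) : ℕ := Bool.rec (motive := fun _ => ℕ) (U_i_n51_53 X) (U_i_n53_56 X) (Nat.ble (nat_lit 8926363) X)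
noncomputable def U_i_n46_56 (X : ℕ) : ℕ := Bool.rec (motive := fun _ => ℕ) (U_i_n46_51 X) (U_i_n51_56 X) (Nat.ble (nat_lit 8795047) X)
noncomputable def U_i_n37_56 (X : ℕ) : ℕ := Bool.rec (motive := fun _ => ℕ) (U_i_n37_46 X) (U_i_n46_56 X) (Nat.ble (nat_lit 8469977) X)
noncomputable def U_i_n56_58 (X : ℕ) : ℕ := Bool.rec (motive := fun _ => ℕ) U_i_56 U_i_57 (Nat.ble (nat_lit 9189703) X)
noncomputable def U_i_n58_60 (X : ℕ) : ℕ := Bool.rec (motive := fun _ => ℕ) U_i_58 U_i_59 (Nat.ble (nat_lit 9320833) X)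
noncomputable def U_i_n56_60 (X : ℕ) : ℕ := Bool.rec (motive := fun _ => ℕ) (U_i_n56_58 X) (U_i_n58_60 X) (Nat.ble (nat_lit 9255023) X)
noncomputable def U_i_n60_62 (X : ℕ) : ℕ := Bool.rec (motive := fun _ => ℕ) U_i_60 U_i_61 (Nat.ble (nat_lit 9452537) X)
noncomputable def U_i_n63_65 (X : ℕ) : ℕ := Bool.rec (motive := fun _ => ℕ) U_i_63 U_i_64 (Nat.ble (nat_lit 9649747) X)
noncomputable def U_i_n62_65 (X : ℕ) : ℕ := Bool.rec (motive := fun _ => ℕ) U_i_62 (U_i_n63_65 X) (Nat.ble (nat_lit 9584063) X)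
noncomputable def U_i_n60_65 (X : ℕ) : ℕ := Bool.rec (motive := fun _ => ℕ) (U_i_n60_62 X) (U_i_n62_65 X) (Nat.ble (nat_lit 9518723) X)
noncomputable def U_i_n56_65 (X : ℕ) : ℕ := Bool.rec (motive := fun _ => ℕ) (U_i_n56_60 X) (U_i_n60_65 X) (Nat.ble (nat_lit 9386471) X)
noncomputable def U_i_n65_67 (X : ℕ) : ℕ := Bool.rec (motive := fun _ => ℕ) U_i_65 U_i_66 (Nat.ble (nat_lit 9782029) X)
noncomputable def U_i_n68_70 (X : ℕ) : ℕ := Bool.rec (motive := fun _ => ℕ) U_i_68 U_i_69 (Nat.ble (nat_lit 9980857) X)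
noncomputable def U_i_n67_70 (X : ℕ) : ℕ := Bool.rec (motive := fun _ => ℕ) U_i_67 (U_i_n68_70 X) (Nat.ble (nat_lit 9914617) X)
noncomputable def U_i_n65_70 (X : ℕ) : ℕ := Bool.rec (motive := fun _ => ℕ) (U_i_n65_67 X) (U_i_n67_70 X) (Nat.ble (nat_lit 9847967) X)
noncomputable def U_i_n70_72 (X : ℕ) : ℕ := Bool.rec (motive := fun _ => ℕ) U_i_70 U_i_71 (Nat.ble (nat_lit 10112897) X)
noncomputable def U_i_n73_75 (X : ℕ) : ℕ := Bool.rec (motive := fun _ => ℕ) U_i_73 U_i_74 (Nat.ble (nat_lit 10311997) X)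
noncomputable def U_i_n72_75 (X : ℕ) : ℕ := Bool.rec (motive := fun _ => ℕ) U_i_72 (U_i_n73_75 X) (Nat.ble (nat_lit 10245751) X)
noncomputable def U_i_n70_75 (X : ℕ) : ℕ := Bool.rec (motive := fun _ => ℕ) (U_i_n70_72 X) (U_i_n72_75 X) (Nat.ble (nat_lit 10179161) X)
noncomputable def U_i_n65_75 (X : ℕ) : ℕ := Bool.rec (motive := fun _ => ℕ) (U_i_n65_70 X) (U_i_n70_75 X) (Nat.ble (nat_lit 10046903) X)
noncomputable def U_i_n56_75 (X : ℕ) : ℕ := Bool.rec (motive := fun _ => ℕ) (U_i_n56_65 X) (U_i_n65_75 X) (Nat.ble (nat_lit 9715969) X)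
noncomputable def U_i_n37_75 (X : ℕ) : ℕ := Bool.rec (motive := fun _ => ℕ) (U_i_n37_56 X) (U_i_n56_75 X) (Nat.ble (nat_lit 9124417) X)
noncomputable def U_i_sel (X : ℕ) : ℕ := Bool.rec (motive := fun _ => ℕ) (U_i_n0_37 X) (U_i_n37_75 X) (Nat.ble (nat_lit 7881739) X)
noncomputable def UU_i (q : ℕ) : ℕ := (Nat.mod (U_i_sel q) q)
noncomputable def V_i_n0_2 (X : ℕ) : ℕ := Bool.rec (motive := fun _ => ℕ) V_i_0 V_i_1 (Nat.ble (nat_lit 5564497) X)
noncomputable def V_i_n2_4 (X : ℕ) : ℕ := Bool.rec (motive := fun _ => ℕ) V_i_2 V_i_3 (Nat.ble (nat_lit 5692157) X)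
noncomputable def V_i_n0_4 (X : ℕ) : ℕ := Bool.rec (motive := fun _ => ℕ) (V_i_n0_2 X) (V_i_n2_4 X) (Nat.ble (nat_lit 5628131) X)
noncomputable def V_i_n4_6 (X : ℕ) : ℕ := Bool.rec (motive := fun _ => ℕ) V_i_4 V_i_5 (Nat.ble (nat_lit 5820037) X)
noncomputable def V_i_n7_9 (X : ℕ) : ℕ := Bool.rec (motive := fun _ => ℕ) V_i_7 V_i_8 (Nat.ble (nat_lit 6010867) X)
noncomputable def V_i_n6_9 (X : ℕ) : ℕ := Bool.rec (motive := fun _ => ℕ) V_i_6 (V_i_n7_9 X) (Nat.ble (nat_lit 5946749) X)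
noncomputable def V_i_n4_9 (X : ℕ) : ℕ := Bool.rec (motive := fun _ => ℕ) (V_i_n4_6 X) (V_i_n6_9 X) (Nat.ble (nat_lit 5883737) X)
noncomputable def V_i_n0_9 (X : ℕ) : ℕ := Bool.rec (motive := fun _ => ℕ) (V_i_n0_4 X) (V_i_n4_9 X) (Nat.ble (nat_lit 5755531) X)
noncomputable def V_i_n9_11 (X : ℕ) : ℕ := Bool.rec (motive := fun _ => ℕ) V_i_9 V_i_10 (Nat.ble (nat_lit 6139249) X)
noncomputable def V_i_n11_13 (X : ℕ) : ℕ := Bool.rec (motive := fun _ => ℕ) V_i_11 V_i_12 (Nat.ble (nat_lit 6267619) X)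
noncomputable def V_i_n9_13 (X : ℕ) : ℕ := Bool.rec (motive := fun _ => ℕ) (V_i_n9_11 X) (V_i_n11_13 X) (Nat.ble (nat_lit 6203143) X)
noncomputable def V_i_n13_15 (X : ℕ) : ℕ := Bool.rec (motive := fun _ => ℕ) V_i_13 V_i_14 (Nat.ble (nat_lit 6395947) X)
noncomputable def V_i_n16_18 (X : ℕ) : ℕ := Bool.rec (motive := fun _ => ℕ) V_i_16 V_i_17 (Nat.ble (nat_lit 6588443) X)
noncomputable def V_i_n15_18 (X : ℕ) : ℕ := Bool.rec (motive := fun _ => ℕ) V_i_15 (V_i_n16_18 X) (Nat.ble (nat_lit 6524611) X)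
noncomputable def V_i_n13_18 (X : ℕ) : ℕ := Bool.rec (motive := fun _ => ℕ) (V_i_n13_15 X) (V_i_n15_18 X) (Nat.ble (nat_lit 6460379) X)
noncomputable def V_i_n9_18 (X : ℕ) : ℕ := Bool.rec (motive := fun _ => ℕ) (V_i_n9_13 X) (V_i_n13_18 X) (Nat.ble (nat_lit 6330559) X)
noncomputable def V_i_n0_18 (X : ℕ) : ℕ := Bool.rec (motive := fun _ => ℕ) (V_i_n0_9 X) (V_i_n9_18 X) (Nat.ble (nat_lit 6075263) X)
noncomputable def V_i_n18_20 (X : ℕ) : ℕ := Bool.rec (motive := fun _ => ℕ) V_i_18 V_i_19 (Nat.ble (nat_lit 6717307) X)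
noncomputable def V_i_n20_22 (X : ℕ) : ℕ := Bool.rec (motive := fun _ => ℕ) V_i_20 V_i_21 (Nat.ble (nat_lit 6846031) X)
noncomputable def V_i_n18_22 (X : ℕ) : ℕ := Bool.rec (motive := fun _ => ℕ) (V_i_n18_20 X) (V_i_n20_22 X) (Nat.ble (nat_lit 6781547) X)
noncomputable def V_i_n22_24 (X : ℕ) : ℕ := Bool.rec (motive := fun _ => ℕ) V_i_22 V_i_23 (Nat.ble (nat_lit 6974053) X)
noncomputable def V_i_n25_27 (X : ℕ) : ℕ := Bool.rec (motive := fun _ => ℕ) V_i_25 V_i_26 (Nat.ble (nat_lit 7167791) X)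
noncomputable def V_i_n24_27 (X : ℕ) : ℕ := Bool.rec (motive := fun _ => ℕ) V_i_24 (V_i_n25_27 X) (Nat.ble (nat_lit 7102643) X)
noncomputable def V_i_n22_27 (X : ℕ) : ℕ := Bool.rec (motive := fun _ => ℕ) (V_i_n22_24 X) (V_i_n24_27 X) (Nat.ble (nat_lit 7038397) X)
noncomputable def V_i_n18_27 (X : ℕ) : ℕ := Bool.rec (motive := fun _ => ℕ) (V_i_n18_22 X) (V_i_n22_27 X) (Nat.ble (nat_lit 6909907) X)
noncomputable def V_i_n27_29 (X : ℕ) : ℕ := Bool.rec (motive := fun _ => ℕ) V_i_27 V_i_28 (Nat.ble (nat_lit 7296983) X)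
noncomputable def V_i_n30_32 (X : ℕ) : ℕ := Bool.rec (motive := fun _ => ℕ) V_i_30 V_i_31 (Nat.ble (nat_lit 7492031) X)
noncomputable def V_i_n29_32 (X : ℕ) : ℕ := Bool.rec (motive := fun _ => ℕ) V_i_29 (V_i_n30_32 X) (Nat.ble (nat_lit 7427041) X)
noncomputable def V_i_n27_32 (X : ℕ) : ℕ := Bool.rec (motive := fun _ => ℕ) (V_i_n27_29 X) (V_i_n29_32 X) (Nat.ble (nat_lit 7362133) X)
noncomputable def V_i_n32_34 (X : ℕ) : ℕ := Bool.rec (motive := fun _ => ℕ) V_i_32 V_i_33 (Nat.ble (nat_lit 7622317) X)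
noncomputable def V_i_n35_37 (X : ℕ) : ℕ := Bool.rec (motive := fun _ => ℕ) V_i_35 V_i_36 (Nat.ble (nat_lit 7817143) X)
noncomputable def V_i_n34_37 (X : ℕ) : ℕ := Bool.rec (motive := fun _ => ℕ) V_i_34 (V_i_n35_37 X) (Nat.ble (nat_lit 7752179) X)
noncomputable def V_i_n32_37 (X : ℕ) : ℕ := Bool.rec (motive := fun _ => ℕ) (V_i_n32_34 X) (V_i_n34_37 X) (Nat.ble (nat_lit 7686893) X)
noncomputable def V_i_n27_37 (X : ℕ) : ℕ := Bool.rec (motive := fun _ => ℕ) (V_i_n27_32 X) (V_i_n32_37 X) (Nat.ble (nat_lit 7557091) X)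
noncomputable def V_i_n18_37 (X : ℕ) : ℕ := Bool.rec (motive := fun _ => ℕ) (V_i_n18_27 X) (V_i_n27_37 X) (Nat.ble (nat_lit 7232899) X)
noncomputable def V_i_n0_37 (X : ℕ) : ℕ := Bool.rec (motive := fun _ => ℕ) (V_i_n0_18 X) (V_i_n18_37 X) (Nat.ble (nat_lit 6652979) X)
noncomputable def V_i_n37_39 (X : ℕ) : ℕ := Bool.rec (motive := fun _ => ℕ) V_i_37 V_i_38 (Nat.ble (nat_lit 7946711) X)
noncomputable def V_i_n39_41 (X : ℕ) : ℕ := Bool.rec (motive := fun _ => ℕ) V_i_39 V_i_40 (Nat.ble (nat_lit 8077529) X)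
noncomputable def V_i_n37_41 (X : ℕ) : ℕ := Bool.rec (motive := fun _ => ℕ) (V_i_n37_39 X) (V_i_n39_41 X) (Nat.ble (nat_lit 8012209) X)
noncomputable def V_i_n41_43 (X : ℕ) : ℕ := Bool.rec (motive := fun _ => ℕ) V_i_41 V_i_42 (Nat.ble (nat_lit 8208023) X)
noncomputable def V_i_n44_46 (X : ℕ) : ℕ := Bool.rec (motive := fun _ => ℕ) V_i_44 V_i_45 (Nat.ble (nat_lit 8403817) X)
noncomputable def V_i_n43_46 (X : ℕ) : ℕ := Bool.rec (motive := fun _ => ℕ) V_i_43 (V_i_n44_46 X) (Nat.ble (nat_lit 8338643) X)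
noncomputable def V_i_n41_46 (X : ℕ) : ℕ := Bool.rec (motive := fun _ => ℕ) (V_i_n41_43 X) (V_i_n43_46 X) (Nat.ble (nat_lit 8273477) X)
noncomputable def V_i_n37_46 (X : ℕ) : ℕ := Bool.rec (motive := fun _ => ℕ) (V_i_n37_41 X) (V_i_n41_46 X) (Nat.ble (nat_lit 8143277) X)
noncomputable def V_i_n46_48 (X : ℕ) : ℕ := Bool.rec (motive := fun _ => ℕ) V_i_46 V_i_47 (Nat.ble (nat_lit 8534429) X)
noncomputable def V_i_n49_51 (X : ℕ) : ℕ := Bool.rec (motive := fun _ => ℕ) V_i_49 V_i_50 (Nat.ble (nat_lit 8729821) X)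
noncomputable def V_i_n48_51 (X : ℕ) : ℕ := Bool.rec (motive := fun _ => ℕ) V_i_48 (V_i_n49_51 X) (Nat.ble (nat_lit 8664559) X)
noncomputable def V_i_n46_51 (X : ℕ) : ℕ := Bool.rec (motive := fun _ => ℕ) (V_i_n46_48 X) (V_i_n48_51 X) (Nat.ble (nat_lit 8599469) X)
noncomputable def V_i_n51_53 (X : ℕ) : ℕ := Bool.rec (motive := fun _ => ℕ) V_i_51 V_i_52 (Nat.ble (nat_lit 8861159) X)
noncomputable def V_i_n54_56 (X : ℕ) : ℕ := Bool.rec (motive := fun _ => ℕ) V_i_54 V_i_55 (Nat.ble (nat_lit 9058837) X)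
noncomputable def V_i_n53_56 (X : ℕ) : ℕ := Bool.rec (motive := fun _ => ℕ) V_i_53 (V_i_n54_56 X) (Nat.ble (nat_lit 8992199) X)
noncomputable def V_i_n51_56 (X : ℕ) : ℕ := Bool.rec (motive := fun _ => ℕ) (V_i_n51_53 X) (V_i_n53_56 X) (Nat.ble (nat_lit 8926363) X)
noncomputable def V_i_n46_56 (X : ℕ) : ℕ := Bool.rec (motive := fun _ => ℕ) (V_i_n46_51 X) (V_i_n51_56 X) (Nat.ble (nat_lit 8795047) X)
noncomputable def V_i_n37_56 (X : ℕ) : ℕ := Bool.rec (motive := fun _ => ℕ) (V_i_n37_46 X) (V_i_n46_56 X) (Nat.ble (nat_lit 8469977) X)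
noncomputable def V_i_n56_58 (X : ℕ) : ℕ := Bool.rec (motive := fun _ => ℕ) V_i_56 V_i_57 (Nat.ble (nat_lit 9189703) X)
noncomputable def V_i_n58_60 (X : ℕ) : ℕ := Bool.rec (motive := fun _ => ℕ) V_i_58 V_i_59 (Nat.ble (nat_lit 9320833) X)
noncomputable def V_i_n56_60 (X : ℕ) : ℕ := Bool.rec (motive := fun _ => ℕ) (V_i_n56_58 X) (V_i_n58_60 X) (Nat.ble (nat_lit 9255023) X)
noncomputable def V_i_n60_62 (X : ℕ) : ℕ := Bool.rec (motive := fun _ => ℕ) V_i_60 V_i_61 (Nat.ble (nat_lit 9452537) X)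
noncomputable def V_i_n63_65 (X : ℕ) : ℕ := Bool.rec (motive := fun _ => ℕ) V_i_63 V_i_64 (Nat.ble (nat_lit 9649747) X)
noncomputable def V_i_n62_65 (X : ℕ) : ℕ := Bool.rec (motive := fun _ => ℕ) V_i_62 (V_i_n63_65 X) (Nat.ble (nat_lit 9584063) X)
noncomputable def V_i_n60_65 (X : ℕ) : ℕ := Bool.rec (motive := fun _ => ℕ) (V_i_n60_62 X) (V_i_n62_65 X) (Nat.ble (nat_lit 9518723) X)
noncomputable def V_i_n56_65 (X : ℕ) : ℕ := Bool.rec (motive := fun _ => ℕ) (V_i_n56_60 X) (V_i_n60_65 X) (Nat.ble (nat_lit 9386471) X)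
noncomputable def V_i_n65_67 (X : ℕ) : ℕ := Bool.rec (motive := fun _ => ℕ) V_i_65 V_i_66 (Nat.ble (nat_lit 9782029) X)
noncomputable def V_i_n68_70 (X : ℕ) : ℕ := Bool.rec (motive := fun _ => ℕ) V_i_68 V_i_69 (Nat.ble (nat_lit 9980857) X)
noncomputable def V_i_n67_70 (X : ℕ) : ℕ := Bool.rec (motive := fun _ => ℕ) V_i_67 (V_i_n68_70 X) (Nat.ble (nat_lit 9914617) X)
noncomputable def V_i_n65_70 (X : ℕ) : ℕ := Bool.rec (motive := fun _ => ℕ) (V_i_n65_67 X) (V_i_n67_70 X) (Nat.ble (nat_lit 9847967) X)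
noncomputable def V_i_n70_72 (X : ℕ) : ℕ := Bool.rec (motive := fun _ => ℕ) V_i_70 V_i_71 (Nat.ble (nat_lit 10112897) X)
noncomputable def V_i_n73_75 (X : ℕ) : ℕ := Bool.rec (motive := fun _ => ℕ) V_i_73 V_i_74 (Nat.ble (nat_lit 10311997) X)
noncomputable def V_i_n72_75 (X : ℕ) : ℕ := Bool.rec (motive := fun _ => ℕ) V_i_72 (V_i_n73_75 X) (Nat.ble (nat_lit 10245751) X)
noncomputable def V_i_n70_75 (X : ℕ) : ℕ := Bool.rec (motive := fun _ => ℕ) (V_i_n70_72 X) (V_i_n72_75 X) (Nat.ble (nat_lit 10179161) X)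
noncomputable def V_i_n65_75 (X : ℕ) : ℕ := Bool.rec (motive := fun _ => ℕ) (V_i_n65_70 X) (V_i_n70_75 X) (Nat.ble (nat_lit 10046903) X)
noncomputable def V_i_n56_75 (X : ℕ) : ℕ := Bool.rec (motive := fun _ => ℕ) (V_i_n56_65 X) (V_i_n65_75 X) (Nat.ble (nat_lit 9715969) X)
noncomputable def V_i_n37_75 (X : ℕ) : ℕ := Bool.rec (motive := fun _ => ℕ) (V_i_n37_56 X) (V_i_n56_75 X) (Nat.ble (nat_lit 9124417) X)
noncomputable def V_i_sel (X : ℕ) : ℕ := Bool.rec (motive := fun _ => ℕ) (V_i_n0_37 X) (V_i_n37_75 X) (Nat.ble (nat_lit 7881739) X)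
noncomputable def VV_i (q : ℕ) : ℕ := (Nat.mod (V_i_sel q) q)
noncomputable def G_i (t q : ℕ) : ℕ := Bool.rec (motive := fun _ => ℕ) (nat_lit 0) (F_i q) (Nat.ble (Nat.succ (UU_i q)) t)
theorem Fge_l (q : ℕ) : 5500000 ≤ F_l q := Nat.le_add_right _ _
theorem Fge_k (q : ℕ) : 5500000 ≤ F_k q := Nat.le_add_right _ _
theorem Fge_a (q : ℕ) : 5500000 ≤ F_a q := Nat.le_add_right _ _
theorem Fge_b (q : ℕ) : 5500000 ≤ F_b q := Nat.le_add_right _ _
theorem Fge_c (q : ℕ) : 5500000 ≤ F_c q := Nat.le_add_right _ _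
theorem Fge_d (q : ℕ) : 5500000 ≤ F_d q := Nat.le_add_right _ _
theorem Fge_e (q : ℕ) : 5500000 ≤ F_e q := Nat.le_add_right _ _
theorem Fge_f (q : ℕ) : 5500000 ≤ F_f q := Nat.le_add_right _ _
theorem Fge_g (q : ℕ) : 5500000 ≤ F_g q := Nat.le_add_right _ _
theorem Fge_j (q : ℕ) : 5500000 ≤ F_j q := Nat.le_add_right _ _
theorem Fge_h (q : ℕ) : 5500000 ≤ F_h q := Nat.le_add_right _ _
theorem Fge_i (q : ℕ) : 5500000 ≤ F_i q := Nat.le_add_right _ _
attribute [irreducible] F_l F_k F_a F_b F_c F_d F_e F_f F_g F_j F_h F_i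
noncomputable def stp : Col → ℕ → ℕ := fun c => Col.rec (motive := fun _ => ℕ → ℕ) F_l F_k F_a F_b F_c F_d F_e F_f F_g F_j F_h F_i c
noncomputable def tau : Col → ℕ → ℕ := fun c => Col.rec (motive := fun _ => ℕ → ℕ) UU_l UU_k UU_a UU_b UU_c UU_d UU_e UU_f UU_g UU_j UU_h UU_i c
noncomputable def PP_n0_2 (X : ℕ) : ℕ := Bool.rec (motive := fun _ => ℕ) PP_0 PP_1 (Nat.ble (nat_lit 5564497) X)
noncomputable def PP_n2_4 (X : ℕ) : ℕ := Bool.rec (motive := fun _ => ℕ) PP_2 PP_3 (Nat.ble (nat_lit 5692157) X)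
noncomputable def PP_n0_4 (X : ℕ) : ℕ := Bool.rec (motive := fun _ => ℕ) (PP_n0_2 X) (PP_n2_4 X) (Nat.ble (nat_lit 5628131) X)
noncomputable def PP_n4_6 (X : ℕ) : ℕ := Bool.rec (motive := fun _ => ℕ) PP_4 PP_5 (Nat.ble (nat_lit 5820037) X)
noncomputable def PP_n7_9 (X : ℕ) : ℕ := Bool.rec (motive := fun _ => ℕ) PP_7 PP_8 (Nat.ble (nat_lit 6010867) X)
noncomputable def PP_n6_9 (X : ℕ) : ℕ := Bool.rec (motive := fun _ => ℕ) PP_6 (PP_n7_9 X) (Nat.ble (nat_lit 5946749) X)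
noncomputable def PP_n4_9 (X : ℕ) : ℕ := Bool.rec (motive := fun _ => ℕ) (PP_n4_6 X) (PP_n6_9 X) (Nat.ble (nat_lit 5883737) X)
noncomputable def PP_n0_9 (X : ℕ) : ℕ := Bool.rec (motive := fun _ => ℕ) (PP_n0_4 X) (PP_n4_9 X) (Nat.ble (nat_lit 5755531) X)
noncomputable def PP_n9_11 (X : ℕ) : ℕ := Bool.rec (motive := fun _ => ℕ) PP_9 PP_10 (Nat.ble (nat_lit 6139249) X)
noncomputable def PP_n11_13 (X : ℕ) : ℕ := Bool.rec (motive := fun _ => ℕ) PP_11 PP_12 (Nat.ble (nat_lit 6267619) X)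
noncomputable def PP_n9_13 (X : ℕ) : ℕ := Bool.rec (motive := fun _ => ℕ) (PP_n9_11 X) (PP_n11_13 X) (Nat.ble (nat_lit 6203143) X)
noncomputable def PP_n13_15 (X : ℕ) : ℕ := Bool.rec (motive := fun _ => ℕ) PP_13 PP_14 (Nat.ble (nat_lit 6395947) X)
noncomputable def PP_n16_18 (X : ℕ) : ℕ := Bool.rec (motive := fun _ => ℕ) PP_16 PP_17 (Nat.ble (nat_lit 6588443) X)
noncomputable def PP_n15_18 (X : ℕ) : ℕ := Bool.rec (motive := fun _ => ℕ) PP_15 (PP_n16_18 X) (Nat.ble (nat_lit 6524611) X)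
noncomputable def PP_n13_18 (X : ℕ) : ℕ := Bool.rec (motive := fun _ => ℕ) (PP_n13_15 X) (PP_n15_18 X) (Nat.ble (nat_lit 6460379) X)
noncomputable def PP_n9_18 (X : ℕ) : ℕ := Bool.rec (motive := fun _ => ℕ) (PP_n9_13 X) (PP_n13_18 X) (Nat.ble (nat_lit 6330559) X)
noncomputable def PP_n0_18 (X : ℕ) : ℕ := Bool.rec (motive := fun _ => ℕ) (PP_n0_9 X) (PP_n9_18 X) (Nat.ble (nat_lit 6075263) X)
noncomputable def PP_n18_20 (X : ℕ) : ℕ := Bool.rec (motive := fun _ => ℕ) PP_18 PP_19 (Nat.ble (nat_lit 6717307) X)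
noncomputable def PP_n20_22 (X : ℕ) : ℕ := Bool.rec (motive := fun _ => ℕ) PP_20 PP_21 (Nat.ble (nat_lit 6846031) X)
noncomputable def PP_n18_22 (X : ℕ) : ℕ := Bool.rec (motive := fun _ => ℕ) (PP_n18_20 X) (PP_n20_22 X) (Nat.ble (nat_lit 6781547) X)
noncomputable def PP_n22_24 (X : ℕ) : ℕ := Bool.rec (motive := fun _ => ℕ) PP_22 PP_23 (Nat.ble (nat_lit 6974053) X)
noncomputable def PP_n25_27 (X : ℕ) : ℕ := Bool.rec (motive := fun _ => ℕ) PP_25 PP_26 (Nat.ble (nat_lit 7167791) X)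
noncomputable def PP_n24_27 (X : ℕ) : ℕ := Bool.rec (motive := fun _ => ℕ) PP_24 (PP_n25_27 X) (Nat.ble (nat_lit 7102643) X)
noncomputable def PP_n22_27 (X : ℕ) : ℕ := Bool.rec (motive := fun _ => ℕ) (PP_n22_24 X) (PP_n24_27 X) (Nat.ble (nat_lit 7038397) X)
noncomputable def PP_n18_27 (X : ℕ) : ℕ := Bool.rec (motive := fun _ => ℕ) (PP_n18_22 X) (PP_n22_27 X) (Nat.ble (nat_lit 6909907) X)
noncomputable def PP_n27_29 (X : ℕ) : ℕ := Bool.rec (motive := fun _ => ℕ) PP_27 PP_28 (Nat.ble (nat_lit 7296983) X)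
noncomputable def PP_n30_32 (X : ℕ) : ℕ := Bool.rec (motive := fun _ => ℕ) PP_30 PP_31 (Nat.ble (nat_lit 7492031) X)
noncomputable def PP_n29_32 (X : ℕ) : ℕ := Bool.rec (motive := fun _ => ℕ) PP_29 (PP_n30_32 X) (Nat.ble (nat_lit 7427041) X)
noncomputable def PP_n27_32 (X : ℕ) : ℕ := Bool.rec (motive := fun _ => ℕ) (PP_n27_29 X) (PP_n29_32 X) (Nat.ble (nat_lit 7362133) X)
noncomputable def PP_n32_34 (X : ℕ) : ℕ := Bool.rec (motive := fun _ => ℕ) PP_32 PP_33 (Nat.ble (nat_lit 7622317) X)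
noncomputable def PP_n35_37 (X : ℕ) : ℕ := Bool.rec (motive := fun _ => ℕ) PP_35 PP_36 (Nat.ble (nat_lit 7817143) X)
noncomputable def PP_n34_37 (X : ℕ) : ℕ := Bool.rec (motive := fun _ => ℕ) PP_34 (PP_n35_37 X) (Nat.ble (nat_lit 7752179) X)
noncomputable def PP_n32_37 (X : ℕ) : ℕ := Bool.rec (motive := fun _ => ℕ) (PP_n32_34 X) (PP_n34_37 X) (Nat.ble (nat_lit 7686893) X)
noncomputable def PP_n27_37 (X : ℕ) : ℕ := Bool.rec (motive := fun _ => ℕ) (PP_n27_32 X) (PP_n32_37 X) (Nat.ble (nat_lit 7557091) X)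
noncomputable def PP_n18_37 (X : ℕ) : ℕ := Bool.rec (motive := fun _ => ℕ) (PP_n18_27 X) (PP_n27_37 X) (Nat.ble (nat_lit 7232899) X)
noncomputable def PP_n0_37 (X : ℕ) : ℕ := Bool.rec (motive := fun _ => ℕ) (PP_n0_18 X) (PP_n18_37 X) (Nat.ble (nat_lit 6652979) X)
noncomputable def PP_n37_39 (X : ℕ) : ℕ := Bool.rec (motive := fun _ => ℕ) PP_37 PP_38 (Nat.ble (nat_lit 7946711) X)
noncomputable def PP_n39_41 (X : ℕ) : ℕ := Bool.rec (motive := fun _ => ℕ) PP_39 PP_40 (Nat.ble (nat_lit 8077529) X)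
noncomputable def PP_n37_41 (X : ℕ) : ℕ := Bool.rec (motive := fun _ => ℕ) (PP_n37_39 X) (PP_n39_41 X) (Nat.ble (nat_lit 8012209) X)
noncomputable def PP_n41_43 (X : ℕ) : ℕ := Bool.rec (motive := fun _ => ℕ) PP_41 PP_42 (Nat.ble (nat_lit 8208023) X)
noncomputable def PP_n44_46 (X : ℕ) : ℕ := Bool.rec (motive := fun _ => ℕ) PP_44 PP_45 (Nat.ble (nat_lit 8403817) X)
noncomputable def PP_n43_46 (X : ℕ) : ℕ := Bool.rec (motive := fun _ => ℕ) PP_43 (PP_n44_46 X) (Nat.ble (nat_lit 8338643) X)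
noncomputable def PP_n41_46 (X : ℕ) : ℕ := Bool.rec (motive := fun _ => ℕ) (PP_n41_43 X) (PP_n43_46 X) (Nat.ble (nat_lit 8273477) X)
noncomputable def PP_n37_46 (X : ℕ) : ℕ := Bool.rec (motive := fun _ => ℕ) (PP_n37_41 X) (PP_n41_46 X) (Nat.ble (nat_lit 8143277) X)
noncomputable def PP_n46_48 (X : ℕ) : ℕ := Bool.rec (motive := fun _ => ℕ) PP_46 PP_47 (Nat.ble (nat_lit 8534429) X)
noncomputable def PP_n49_51 (X : ℕ) : ℕ := Bool.rec (motive := fun _ => ℕ) PP_49 PP_50 (Nat.ble (nat_lit 8729821) X)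
noncomputable def PP_n48_51 (X : ℕ) : ℕ := Bool.rec (motive := fun _ => ℕ) PP_48 (PP_n49_51 X) (Nat.ble (nat_lit 8664559) X)
noncomputable def PP_n46_51 (X : ℕ) : ℕ := Bool.rec (motive := fun _ => ℕ) (PP_n46_48 X) (PP_n48_51 X) (Nat.ble (nat_lit 8599469) X)
noncomputable def PP_n51_53 (X : ℕ) : ℕ := Bool.rec (motive := fun _ => ℕ) PP_51 PP_52 (Nat.ble (nat_lit 8861159) X)
noncomputable def PP_n54_56 (X : ℕ) : ℕ := Bool.rec (motive := fun _ => ℕ) PP_54 PP_55 (Nat.ble (nat_lit 9058837) X)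
noncomputable def PP_n53_56 (X : ℕ) : ℕ := Bool.rec (motive := fun _ => ℕ) PP_53 (PP_n54_56 X) (Nat.ble (nat_lit 8992199) X)
noncomputable def PP_n51_56 (X : ℕ) : ℕ := Bool.rec (motive := fun _ => ℕ) (PP_n51_53 X) (PP_n53_56 X) (Nat.ble (nat_lit 8926363) X)
noncomputable def PP_n46_56 (X : ℕ) : ℕ := Bool.rec (motive := fun _ => ℕ) (PP_n46_51 X) (PP_n51_56 X) (Nat.ble (nat_lit 8795047) X)
noncomputable def PP_n37_56 (X : ℕ) : ℕ := Bool.rec (motive := fun _ => ℕ) (PP_n37_46 X) (PP_n46_56 X) (Nat.ble (nat_lit 8469977) X)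
noncomputable def PP_n56_58 (X : ℕ) : ℕ := Bool.rec (motive := fun _ => ℕ) PP_56 PP_57 (Nat.ble (nat_lit 9189703) X)
noncomputable def PP_n58_60 (X : ℕ) : ℕ := Bool.rec (motive := fun _ => ℕ) PP_58 PP_59 (Nat.ble (nat_lit 9320833) X)
noncomputable def PP_n56_60 (X : ℕ) : ℕ := Bool.rec (motive := fun _ => ℕ) (PP_n56_58 X) (PP_n58_60 X) (Nat.ble (nat_lit 9255023) X)
noncomputable def PP_n60_62 (X : ℕ) : ℕ := Bool.rec (motive := fun _ => ℕ) PP_60 PP_61 (Nat.ble (nat_lit 9452537) X)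
noncomputable def PP_n63_65 (X : ℕ) : ℕ := Bool.rec (motive := fun _ => ℕ) PP_63 PP_64 (Nat.ble (nat_lit 9649747) X)
noncomputable def PP_n62_65 (X : ℕ) : ℕ := Bool.rec (motive := fun _ => ℕ) PP_62 (PP_n63_65 X) (Nat.ble (nat_lit 9584063) X)
noncomputable def PP_n60_65 (X : ℕ) : ℕ := Bool.rec (motive := fun _ => ℕ) (PP_n60_62 X) (PP_n62_65 X) (Nat.ble (nat_lit 9518723) X)
noncomputable def PP_n56_65 (X : ℕ) : ℕ := Bool.rec (motive := fun _ => ℕ) (PP_n56_60 X) (PP_n60_65 X) (Nat.ble (nat_lit 9386471) X)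
noncomputable def PP_n65_67 (X : ℕ) : ℕ := Bool.rec (motive := fun _ => ℕ) PP_65 PP_66 (Nat.ble (nat_lit 9782029) X)
noncomputable def PP_n68_70 (X : ℕ) : ℕ := Bool.rec (motive := fun _ => ℕ) PP_68 PP_69 (Nat.ble (nat_lit 9980857) X)
noncomputable def PP_n67_70 (X : ℕ) : ℕ := Bool.rec (motive := fun _ => ℕ) PP_67 (PP_n68_70 X) (Nat.ble (nat_lit 9914617) X)
noncomputable def PP_n65_70 (X : ℕ) : ℕ := Bool.rec (motive := fun _ => ℕ) (PP_n65_67 X) (PP_n67_70 X) (Nat.ble (nat_lit 9847967) X)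
noncomputable def PP_n70_72 (X : ℕ) : ℕ := Bool.rec (motive := fun _ => ℕ) PP_70 PP_71 (Nat.ble (nat_lit 10112897) X)
noncomputable def PP_n73_75 (X : ℕ) : ℕ := Bool.rec (motive := fun _ => ℕ) PP_73 PP_74 (Nat.ble (nat_lit 10311997) X)
noncomputable def PP_n72_75 (X : ℕ) : ℕ := Bool.rec (motive := fun _ => ℕ) PP_72 (PP_n73_75 X) (Nat.ble (nat_lit 10245751) X)
noncomputable def PP_n70_75 (X : ℕ) : ℕ := Bool.rec (motive := fun _ => ℕ) (PP_n70_72 X) (PP_n72_75 X) (Nat.ble (nat_lit 10179161) X)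
noncomputable def PP_n65_75 (X : ℕ) : ℕ := Bool.rec (motive := fun _ => ℕ) (PP_n65_70 X) (PP_n70_75 X) (Nat.ble (nat_lit 10046903) X)
noncomputable def PP_n56_75 (X : ℕ) : ℕ := Bool.rec (motive := fun _ => ℕ) (PP_n56_65 X) (PP_n65_75 X) (Nat.ble (nat_lit 9715969) X)
noncomputable def PP_n37_75 (X : ℕ) : ℕ := Bool.rec (motive := fun _ => ℕ) (PP_n37_56 X) (PP_n56_75 X) (Nat.ble (nat_lit 9124417) X)
noncomputable def PP_sel (X : ℕ) : ℕ := Bool.rec (motive := fun _ => ℕ) (PP_n0_37 X) (PP_n37_75 X) (Nat.ble (nat_lit 7881739) X)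
noncomputable def PT (q : ℕ) : ℕ := Nat.add (nat_lit 5500000) (Nat.mod (PP_sel q) q)
noncomputable def DD_n0_2 (X : ℕ) : ℕ := Bool.rec (motive := fun _ => ℕ) DD_0 DD_1 (Nat.ble (nat_lit 5564497) X)
noncomputable def DD_n2_4 (X : ℕ) : ℕ := Bool.rec (motive := fun _ => ℕ) DD_2 DD_3 (Nat.ble (nat_lit 5692157) X)
noncomputable def DD_n0_4 (X : ℕ) : ℕ := Bool.rec (motive := fun _ => ℕ) (DD_n0_2 X) (DD_n2_4 X) (Nat.ble (nat_lit 5628131) X)
noncomputable def DD_n4_6 (X : ℕ) : ℕ := Bool.rec (motive := fun _ => ℕ) DD_4 DD_5 (Nat.ble (nat_lit 5820037) X)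
noncomputable def DD_n7_9 (X : ℕ) : ℕ := Bool.rec (motive := fun _ => ℕ) DD_7 DD_8 (Nat.ble (nat_lit 6010867) X)
noncomputable def DD_n6_9 (X : ℕ) : ℕ := Bool.rec (motive := fun _ => ℕ) DD_6 (DD_n7_9 X) (Nat.ble (nat_lit 5946749) X)
noncomputable def DD_n4_9 (X : ℕ) : ℕ := Bool.rec (motive := fun _ => ℕ) (DD_n4_6 X) (DD_n6_9 X) (Nat.ble (nat_lit 5883737) X)
noncomputable def DD_n0_9 (X : ℕ) : ℕ := Bool.rec (motive := fun _ => ℕ) (DD_n0_4 X) (DD_n4_9 X) (Nat.ble (nat_lit 5755531) X)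
noncomputable def DD_n9_11 (X : ℕ) : ℕ := Bool.rec (motive := fun _ => ℕ) DD_9 DD_10 (Nat.ble (nat_lit 6139249) X)
noncomputable def DD_n11_13 (X : ℕ) : ℕ := Bool.rec (motive := fun _ => ℕ) DD_11 DD_12 (Nat.ble (nat_lit 6267619) X)
noncomputable def DD_n9_13 (X : ℕ) : ℕ := Bool.rec (motive := fun _ => ℕ) (DD_n9_11 X) (DD_n11_13 X) (Nat.ble (nat_lit 6203143) X)
noncomputable def DD_n13_15 (X : ℕ) : ℕ := Bool.rec (motive := fun _ => ℕ) DD_13 DD_14 (Nat.ble (nat_lit 6395947) X)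
noncomputable def DD_n16_18 (X : ℕ) : ℕ := Bool.rec (motive := fun _ => ℕ) DD_16 DD_17 (Nat.ble (nat_lit 6588443) X)
noncomputable def DD_n15_18 (X : ℕ) : ℕ := Bool.rec (motive := fun _ => ℕ) DD_15 (DD_n16_18 X) (Nat.ble (nat_lit 6524611) X)
noncomputable def DD_n13_18 (X : ℕ) : ℕ := Bool.rec (motive := fun _ => ℕ) (DD_n13_15 X) (DD_n15_18 X) (Nat.ble (nat_lit 6460379) X)
noncomputable def DD_n9_18 (X : ℕ) : ℕ := Bool.rec (motive := fun _ => ℕ) (DD_n9_13 X) (DD_n13_18 X) (Nat.ble (nat_lit 6330559) X)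
noncomputable def DD_n0_18 (X : ℕ) : ℕ := Bool.rec (motive := fun _ => ℕ) (DD_n0_9 X) (DD_n9_18 X) (Nat.ble (nat_lit 6075263) X)
noncomputable def DD_n18_20 (X : ℕ) : ℕ := Bool.rec (motive := fun _ => ℕ) DD_18 DD_19 (Nat.ble (nat_lit 6717307) X)
noncomputable def DD_n20_22 (X : ℕ) : ℕ := Bool.rec (motive := fun _ => ℕ) DD_20 DD_21 (Nat.ble (nat_lit 6846031) X)
noncomputable def DD_n18_22 (X : ℕ) : ℕ := Bool.rec (motive := fun _ => ℕ) (DD_n18_20 X) (DD_n20_22 X) (Nat.ble (nat_lit 6781547) X)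
noncomputable def DD_n22_24 (X : ℕ) : ℕ := Bool.rec (motive := fun _ => ℕ) DD_22 DD_23 (Nat.ble (nat_lit 6974053) X)
noncomputable def DD_n25_27 (X : ℕ) : ℕ := Bool.rec (motive := fun _ => ℕ) DD_25 DD_26 (Nat.ble (nat_lit 7167791) X)
noncomputable def DD_n24_27 (X : ℕ) : ℕ := Bool.rec (motive := fun _ => ℕ) DD_24 (DD_n25_27 X) (Nat.ble (nat_lit 7102643) X)
noncomputable def DD_n22_27 (X : ℕ) : ℕ := Bool.rec (motive := fun _ => ℕ) (DD_n22_24 X) (DD_n24_27 X) (Nat.ble (nat_lit 7038397) X)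
noncomputable def DD_n18_27 (X : ℕ) : ℕ := Bool.rec (motive := fun _ => ℕ) (DD_n18_22 X) (DD_n22_27 X) (Nat.ble (nat_lit 6909907) X)
noncomputable def DD_n27_29 (X : ℕ) : ℕ := Bool.rec (motive := fun _ => ℕ) DD_27 DD_28 (Nat.ble (nat_lit 7296983) X)
noncomputable def DD_n30_32 (X : ℕ) : ℕ := Bool.rec (motive := fun _ => ℕ) DD_30 DD_31 (Nat.ble (nat_lit 7492031) X)
noncomputable def DD_n29_32 (X : ℕ) : ℕ := Bool.rec (motive := fun _ => ℕ) DD_29 (DD_n30_32 X) (Nat.ble (nat_lit 7427041) X)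
noncomputable def DD_n27_32 (X : ℕ) : ℕ := Bool.rec (motive := fun _ => ℕ) (DD_n27_29 X) (DD_n29_32 X) (Nat.ble (nat_lit 7362133) X)
noncomputable def DD_n32_34 (X : ℕ) : ℕ := Bool.rec (motive := fun _ => ℕ) DD_32 DD_33 (Nat.ble (nat_lit 7622317) X)
noncomputable def DD_n35_37 (X : ℕ) : ℕ := Bool.rec (motive := fun _ => ℕ) DD_35 DD_36 (Nat.ble (nat_lit 7817143) X)
noncomputable def DD_n34_37 (X : ℕ) : ℕ := Bool.rec (motive := fun _ => ℕ) DD_34 (DD_n35_37 X) (Nat.ble (nat_lit 7752179) X)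
noncomputable def DD_n32_37 (X : ℕ) : ℕ := Bool.rec (motive := fun _ => ℕ) (DD_n32_34 X) (DD_n34_37 X) (Nat.ble (nat_lit 7686893) X)
noncomputable def DD_n27_37 (X : ℕ) : ℕ := Bool.rec (motive := fun _ => ℕ) (DD_n27_32 X) (DD_n32_37 X) (Nat.ble (nat_lit 7557091) X)
noncomputable def DD_n18_37 (X : ℕ) : ℕ := Bool.rec (motive := fun _ => ℕ) (DD_n18_27 X) (DD_n27_37 X) (Nat.ble (nat_lit 7232899) X)
noncomputable def DD_n0_37 (X : ℕ) : ℕ := Bool.rec (motive := fun _ => ℕ) (DD_n0_18 X) (DD_n18_37 X) (Nat.ble (nat_lit 6652979) X)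
noncomputable def DD_n37_39 (X : ℕ) : ℕ := Bool.rec (motive := fun _ => ℕ) DD_37 DD_38 (Nat.ble (nat_lit 7946711) X)
noncomputable def DD_n39_41 (X : ℕ) : ℕ := Bool.rec (motive := fun _ => ℕ) DD_39 DD_40 (Nat.ble (nat_lit 8077529) X)
noncomputable def DD_n37_41 (X : ℕ) : ℕ := Bool.rec (motive := fun _ => ℕ) (DD_n37_39 X) (DD_n39_41 X) (Nat.ble (nat_lit 8012209) X)
noncomputable def DD_n41_43 (X : ℕ) : ℕ := Bool.rec (motive := fun _ => ℕ) DD_41 DD_42 (Nat.ble (nat_lit 8208023) X)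
noncomputable def DD_n44_46 (X : ℕ) : ℕ := Bool.rec (motive := fun _ => ℕ) DD_44 DD_45 (Nat.ble (nat_lit 8403817) X)
noncomputable def DD_n43_46 (X : ℕ) : ℕ := Bool.rec (motive := fun _ => ℕ) DD_43 (DD_n44_46 X) (Nat.ble (nat_lit 8338643) X)
noncomputable def DD_n41_46 (X : ℕ) : ℕ := Bool.rec (motive := fun _ => ℕ) (DD_n41_43 X) (DD_n43_46 X) (Nat.ble (nat_lit 8273477) X)
noncomputable def DD_n37_46 (X : ℕ) : ℕ := Bool.rec (motive := fun _ => ℕ) (DD_n37_41 X) (DD_n41_46 X) (Nat.ble (nat_lit 8143277) X)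
noncomputable def DD_n46_48 (X : ℕ) : ℕ := Bool.rec (motive := fun _ => ℕ) DD_46 DD_47 (Nat.ble (nat_lit 8534429) X)
noncomputable def DD_n49_51 (X : ℕ) : ℕ := Bool.rec (motive := fun _ => ℕ) DD_49 DD_50 (Nat.ble (nat_lit 8729821) X)
noncomputable def DD_n48_51 (X : ℕ) : ℕ := Bool.rec (motive := fun _ => ℕ) DD_48 (DD_n49_51 X) (Nat.ble (nat_lit 8664559) X)
noncomputable def DD_n46_51 (X : ℕ) : ℕ := Bool.rec (motive := fun _ => ℕ) (DD_n46_48 X) (DD_n48_51 X) (Nat.ble (nat_lit 8599469) X)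
noncomputable def DD_n51_53 (X : ℕ) : ℕ := Bool.rec (motive := fun _ => ℕ) DD_51 DD_52 (Nat.ble (nat_lit 8861159) X)
noncomputable def DD_n54_56 (X : ℕ) : ℕ := Bool.rec (motive := fun _ => ℕ) DD_54 DD_55 (Nat.ble (nat_lit 9058837) X)
noncomputable def DD_n53_56 (X : ℕ) : ℕ := Bool.rec (motive := fun _ => ℕ) DD_53 (DD_n54_56 X) (Nat.ble (nat_lit 8992199) X)
noncomputable def DD_n51_56 (X : ℕ) : ℕ := Bool.rec (motive := fun _ => ℕ) (DD_n51_53 X) (DD_n53_56 X) (Nat.ble (nat_lit 8926363) X)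
noncomputable def DD_n46_56 (X : ℕ) : ℕ := Bool.rec (motive := fun _ => ℕ) (DD_n46_51 X) (DD_n51_56 X) (Nat.ble (nat_lit 8795047) X)
noncomputable def DD_n37_56 (X : ℕ) : ℕ := Bool.rec (motive := fun _ => ℕ) (DD_n37_46 X) (DD_n46_56 X) (Nat.ble (nat_lit 8469977) X)
noncomputable def DD_n56_58 (X : ℕ) : ℕ := Bool.rec (motive := fun _ => ℕ) DD_56 DD_57 (Nat.ble (nat_lit 9189703) X)
noncomputable def DD_n58_60 (X : ℕ) : ℕ := Bool.rec (motive := fun _ => ℕ) DD_58 DD_59 (Nat.ble (nat_lit 9320833) X)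
noncomputable def DD_n56_60 (X : ℕ) : ℕ := Bool.rec (motive := fun _ => ℕ) (DD_n56_58 X) (DD_n58_60 X) (Nat.ble (nat_lit 9255023) X)
noncomputable def DD_n60_62 (X : ℕ) : ℕ := Bool.rec (motive := fun _ => ℕ) DD_60 DD_61 (Nat.ble (nat_lit 9452537) X)
noncomputable def DD_n63_65 (X : ℕ) : ℕ := Bool.rec (motive := fun _ => ℕ) DD_63 DD_64 (Nat.ble (nat_lit 9649747) X)
noncomputable def DD_n62_65 (X : ℕ) : ℕ := Bool.rec (motive := fun _ => ℕ) DD_62 (DD_n63_65 X) (Nat.ble (nat_lit 9584063) X)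
noncomputable def DD_n60_65 (X : ℕ) : ℕ := Bool.rec (motive := fun _ => ℕ) (DD_n60_62 X) (DD_n62_65 X) (Nat.ble (nat_lit 9518723) X)
noncomputable def DD_n56_65 (X : ℕ) : ℕ := Bool.rec (motive := fun _ => ℕ) (DD_n56_60 X) (DD_n60_65 X) (Nat.ble (nat_lit 9386471) X)
noncomputable def DD_n65_67 (X : ℕ) : ℕ := Bool.rec (motive := fun _ => ℕ) DD_65 DD_66 (Nat.ble (nat_lit 9782029) X)
noncomputable def DD_n68_70 (X : ℕ) : ℕ := Bool.rec (motive := fun _ => ℕ) DD_68 DD_69 (Nat.ble (nat_lit 9980857) X)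
noncomputable def DD_n67_70 (X : ℕ) : ℕ := Bool.rec (motive := fun _ => ℕ) DD_67 (DD_n68_70 X) (Nat.ble (nat_lit 9914617) X)
noncomputable def DD_n65_70 (X : ℕ) : ℕ := Bool.rec (motive := fun _ => ℕ) (DD_n65_67 X) (DD_n67_70 X) (Nat.ble (nat_lit 9847967) X)
noncomputable def DD_n70_72 (X : ℕ) : ℕ := Bool.rec (motive := fun _ => ℕ) DD_70 DD_71 (Nat.ble (nat_lit 10112897) X)
noncomputable def DD_n73_75 (X : ℕ) : ℕ := Bool.rec (motive := fun _ => ℕ) DD_73 DD_74 (Nat.ble (nat_lit 10311997) X)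
noncomputable def DD_n72_75 (X : ℕ) : ℕ := Bool.rec (motive := fun _ => ℕ) DD_72 (DD_n73_75 X) (Nat.ble (nat_lit 10245751) X)
noncomputable def DD_n70_75 (X : ℕ) : ℕ := Bool.rec (motive := fun _ => ℕ) (DD_n70_72 X) (DD_n72_75 X) (Nat.ble (nat_lit 10179161) X)
noncomputable def DD_n65_75 (X : ℕ) : ℕ := Bool.rec (motive := fun _ => ℕ) (DD_n65_70 X) (DD_n70_75 X) (Nat.ble (nat_lit 10046903) X)
noncomputable def DD_n56_75 (X : ℕ) : ℕ := Bool.rec (motive := fun _ => ℕ) (DD_n56_65 X) (DD_n65_75 X) (Nat.ble (nat_lit 9715969) X)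
noncomputable def DD_n37_75 (X : ℕ) : ℕ := Bool.rec (motive := fun _ => ℕ) (DD_n37_56 X) (DD_n56_75 X) (Nat.ble (nat_lit 9124417) X)
noncomputable def DD_sel (X : ℕ) : ℕ := Bool.rec (motive := fun _ => ℕ) (DD_n0_37 X) (DD_n37_75 X) (Nat.ble (nat_lit 7881739) X)
noncomputable def DT (q : ℕ) : ℕ := (Nat.mod (DD_sel q) q)
noncomputable def MM_n0_2 (X : ℕ) : ℕ := Bool.rec (motive := fun _ => ℕ) MM_0 MM_1 (Nat.ble (nat_lit 5564497) X)
noncomputable def MM_n2_4 (X : ℕ) : ℕ := Bool.rec (motive := fun _ => ℕ) MM_2 MM_3 (Nat.ble (nat_lit 5692157) X)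
noncomputable def MM_n0_4 (X : ℕ) : ℕ := Bool.rec (motive := fun _ => ℕ) (MM_n0_2 X) (MM_n2_4 X) (Nat.ble (nat_lit 5628131) X)
noncomputable def MM_n4_6 (X : ℕ) : ℕ := Bool.rec (motive := fun _ => ℕ) MM_4 MM_5 (Nat.ble (nat_lit 5820037) X)
noncomputable def MM_n7_9 (X : ℕ) : ℕ := Bool.rec (motive := fun _ => ℕ) MM_7 MM_8 (Nat.ble (nat_lit 6010867) X)
noncomputable def MM_n6_9 (X : ℕ) : ℕ := Bool.rec (motive := fun _ => ℕ) MM_6 (MM_n7_9 X) (Nat.ble (nat_lit 5946749) X)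
noncomputable def MM_n4_9 (X : ℕ) : ℕ := Bool.rec (motive := fun _ => ℕ) (MM_n4_6 X) (MM_n6_9 X) (Nat.ble (nat_lit 5883737) X)
noncomputable def MM_n0_9 (X : ℕ) : ℕ := Bool.rec (motive := fun _ => ℕ) (MM_n0_4 X) (MM_n4_9 X) (Nat.ble (nat_lit 5755531) X)
noncomputable def MM_n9_11 (X : ℕ) : ℕ := Bool.rec (motive := fun _ => ℕ) MM_9 MM_10 (Nat.ble (nat_lit 6139249) X)
noncomputable def MM_n11_13 (X : ℕ) : ℕ := Bool.rec (motive := fun _ => ℕ) MM_11 MM_12 (Nat.ble (nat_lit 6267619) X)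
noncomputable def MM_n9_13 (X : ℕ) : ℕ := Bool.rec (motive := fun _ => ℕ) (MM_n9_11 X) (MM_n11_13 X) (Nat.ble (nat_lit 6203143) X)
noncomputable def MM_n13_15 (X : ℕ) : ℕ := Bool.rec (motive := fun _ => ℕ) MM_13 MM_14 (Nat.ble (nat_lit 6395947) X)
noncomputable def MM_n16_18 (X : ℕ) : ℕ := Bool.rec (motive := fun _ => ℕ) MM_16 MM_17 (Nat.ble (nat_lit 6588443) X)
noncomputable def MM_n15_18 (X : ℕ) : ℕ := Bool.rec (motive := fun _ => ℕ) MM_15 (MM_n16_18 X) (Nat.ble (nat_lit 6524611) X)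
noncomputable def MM_n13_18 (X : ℕ) : ℕ := Bool.rec (motive := fun _ => ℕ) (MM_n13_15 X) (MM_n15_18 X) (Nat.ble (nat_lit 6460379) X)
noncomputable def MM_n9_18 (X : ℕ) : ℕ := Bool.rec (motive := fun _ => ℕ) (MM_n9_13 X) (MM_n13_18 X) (Nat.ble (nat_lit 6330559) X)
noncomputable def MM_n0_18 (X : ℕ) : ℕ := Bool.rec (motive := fun _ => ℕ) (MM_n0_9 X) (MM_n9_18 X) (Nat.ble (nat_lit 6075263) X)
noncomputable def MM_n18_20 (X : ℕ) : ℕ := Bool.rec (motive := fun _ => ℕ) MM_18 MM_19 (Nat.ble (nat_lit 6717307) X)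
noncomputable def MM_n20_22 (X : ℕ) : ℕ := Bool.rec (motive := fun _ => ℕ) MM_20 MM_21 (Nat.ble (nat_lit 6846031) X)
noncomputable def MM_n18_22 (X : ℕ) : ℕ := Bool.rec (motive := fun _ => ℕ) (MM_n18_20 X) (MM_n20_22 X) (Nat.ble (nat_lit 6781547) X)
noncomputable def MM_n22_24 (X : ℕ) : ℕ := Bool.rec (motive := fun _ => ℕ) MM_22 MM_23 (Nat.ble (nat_lit 6974053) X)
noncomputable def MM_n25_27 (X : ℕ) : ℕ := Bool.rec (motive := fun _ => ℕ) MM_25 MM_26 (Nat.ble (nat_lit 7167791) X)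
noncomputable def MM_n24_27 (X : ℕ) : ℕ := Bool.rec (motive := fun _ => ℕ) MM_24 (MM_n25_27 X) (Nat.ble (nat_lit 7102643) X)
noncomputable def MM_n22_27 (X : ℕ) : ℕ := Bool.rec (motive := fun _ => ℕ) (MM_n22_24 X) (MM_n24_27 X) (Nat.ble (nat_lit 7038397) X)
noncomputable def MM_n18_27 (X : ℕ) : ℕ := Bool.rec (motive := fun _ => ℕ) (MM_n18_22 X) (MM_n22_27 X) (Nat.ble (nat_lit 6909907) X)
noncomputable def MM_n27_29 (X : ℕ) : ℕ := Bool.rec (motive := fun _ => ℕ) MM_27 MM_28 (Nat.ble (nat_lit 7296983) X)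
noncomputable def MM_n30_32 (X : ℕ) : ℕ := Bool.rec (motive := fun _ => ℕ) MM_30 MM_31 (Nat.ble (nat_lit 7492031) X)
noncomputable def MM_n29_32 (X : ℕ) : ℕ := Bool.rec (motive := fun _ => ℕ) MM_29 (MM_n30_32 X) (Nat.ble (nat_lit 7427041) X)
noncomputable def MM_n27_32 (X : ℕ) : ℕ := Bool.rec (motive := fun _ => ℕ) (MM_n27_29 X) (MM_n29_32 X) (Nat.ble (nat_lit 7362133) X)
noncomputable def MM_n32_34 (X : ℕ) : ℕ := Bool.rec (motive := fun _ => ℕ) MM_32 MM_33 (Nat.ble (nat_lit 7622317) X)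
noncomputable def MM_n35_37 (X : ℕ) : ℕ := Bool.rec (motive := fun _ => ℕ) MM_35 MM_36 (Nat.ble (nat_lit 7817143) X)
noncomputable def MM_n34_37 (X : ℕ) : ℕ := Bool.rec (motive := fun _ => ℕ) MM_34 (MM_n35_37 X) (Nat.ble (nat_lit 7752179) X)
noncomputable def MM_n32_37 (X : ℕ) : ℕ := Bool.rec (motive := fun _ => ℕ) (MM_n32_34 X) (MM_n34_37 X) (Nat.ble (nat_lit 7686893) X)
noncomputable def MM_n27_37 (X : ℕ) : ℕ := Bool.rec (motive := fun _ => ℕ) (MM_n27_32 X) (MM_n32_37 X) (Nat.ble (nat_lit 7557091) X)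
noncomputable def MM_n18_37 (X : ℕ) : ℕ := Bool.rec (motive := fun _ => ℕ) (MM_n18_27 X) (MM_n27_37 X) (Nat.ble (nat_lit 7232899) X)
noncomputable def MM_n0_37 (X : ℕ) : ℕ := Bool.rec (motive := fun _ => ℕ) (MM_n0_18 X) (MM_n18_37 X) (Nat.ble (nat_lit 6652979) X)
noncomputable def MM_n37_39 (X : ℕ) : ℕ := Bool.rec (motive := fun _ => ℕ) MM_37 MM_38 (Nat.ble (nat_lit 7946711) X)
noncomputable def MM_n39_41 (X : ℕ) : ℕ := Bool.rec (motive := fun _ => ℕ) MM_39 MM_40 (Nat.ble (nat_lit 8077529) X)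
noncomputable def MM_n37_41 (X : ℕ) : ℕ := Bool.rec (motive := fun _ => ℕ) (MM_n37_39 X) (MM_n39_41 X) (Nat.ble (nat_lit 8012209) X)
noncomputable def MM_n41_43 (X : ℕ) : ℕ := Bool.rec (motive := fun _ => ℕ) MM_41 MM_42 (Nat.ble (nat_lit 8208023) X)
noncomputable def MM_n44_46 (X : ℕ) : ℕ := Bool.rec (motive := fun _ => ℕ) MM_44 MM_45 (Nat.ble (nat_lit 8403817) X)
noncomputable def MM_n43_46 (X : ℕ) : ℕ := Bool.rec (motive := fun _ => ℕ) MM_43 (MM_n44_46 X) (Nat.ble (nat_lit 8338643) X)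
noncomputable def MM_n41_46 (X : ℕ) : ℕ := Bool.rec (motive := fun _ => ℕ) (MM_n41_43 X) (MM_n43_46 X) (Nat.ble (nat_lit 8273477) X)
noncomputable def MM_n37_46 (X : ℕ) : ℕ := Bool.rec (motive := fun _ => ℕ) (MM_n37_41 X) (MM_n41_46 X) (Nat.ble (nat_lit 8143277) X)
noncomputable def MM_n46_48 (X : ℕ) : ℕ := Bool.rec (motive := fun _ => ℕ) MM_46 MM_47 (Nat.ble (nat_lit 8534429) X)
noncomputable def MM_n49_51 (X : ℕ) : ℕ := Bool.rec (motive := fun _ => ℕ) MM_49 MM_50 (Nat.ble (nat_lit 8729821) X)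
noncomputable def MM_n48_51 (X : ℕ) : ℕ := Bool.rec (motive := fun _ => ℕ) MM_48 (MM_n49_51 X) (Nat.ble (nat_lit 8664559) X)
noncomputable def MM_n46_51 (X : ℕ) : ℕ := Bool.rec (motive := fun _ => ℕ) (MM_n46_48 X) (MM_n48_51 X) (Nat.ble (nat_lit 8599469) X)
noncomputable def MM_n51_53 (X : ℕ) : ℕ := Bool.rec (motive := fun _ => ℕ) MM_51 MM_52 (Nat.ble (nat_lit 8861159) X)
noncomputable def MM_n54_56 (X : ℕ) : ℕ := Bool.rec (motive := fun _ => ℕ) MM_54 MM_55 (Nat.ble (nat_lit 9058837) X)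
noncomputable def MM_n53_56 (X : ℕ) : ℕ := Bool.rec (motive := fun _ => ℕ) MM_53 (MM_n54_56 X) (Nat.ble (nat_lit 8992199) X)
noncomputable def MM_n51_56 (X : ℕ) : ℕ := Bool.rec (motive := fun _ => ℕ) (MM_n51_53 X) (MM_n53_56 X) (Nat.ble (nat_lit 8926363) X)
noncomputable def MM_n46_56 (X : ℕ) : ℕ := Bool.rec (motive := fun _ => ℕ) (MM_n46_51 X) (MM_n51_56 X) (Nat.ble (nat_lit 8795047) X)
noncomputable def MM_n37_56 (X : ℕ) : ℕ := Bool.rec (motive := fun _ => ℕ) (MM_n37_46 X) (MM_n46_56 X) (Nat.ble (nat_lit 8469977) X)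
noncomputable def MM_n56_58 (X : ℕ) : ℕ := Bool.rec (motive := fun _ => ℕ) MM_56 MM_57 (Nat.ble (nat_lit 9189703) X)
noncomputable def MM_n58_60 (X : ℕ) : ℕ := Bool.rec (motive := fun _ => ℕ) MM_58 MM_59 (Nat.ble (nat_lit 9320833) X)
noncomputable def MM_n56_60 (X : ℕ) : ℕ := Bool.rec (motive := fun _ => ℕ) (MM_n56_58 X) (MM_n58_60 X) (Nat.ble (nat_lit 9255023) X)
noncomputable def MM_n60_62 (X : ℕ) : ℕ := Bool.rec (motive := fun _ => ℕ) MM_60 MM_61 (Nat.ble (nat_lit 9452537) X)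
noncomputable def MM_n63_65 (X : ℕ) : ℕ := Bool.rec (motive := fun _ => ℕ) MM_63 MM_64 (Nat.ble (nat_lit 9649747) X)
noncomputable def MM_n62_65 (X : ℕ) : ℕ := Bool.rec (motive := fun _ => ℕ) MM_62 (MM_n63_65 X) (Nat.ble (nat_lit 9584063) X)
noncomputable def MM_n60_65 (X : ℕ) : ℕ := Bool.rec (motive := fun _ => ℕ) (MM_n60_62 X) (MM_n62_65 X) (Nat.ble (nat_lit 9518723) X)
noncomputable def MM_n56_65 (X : ℕ) : ℕ := Bool.rec (motive := fun _ => ℕ) (MM_n56_60 X) (MM_n60_65 X) (Nat.ble (nat_lit 9386471) X)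
noncomputable def MM_n65_67 (X : ℕ) : ℕ := Bool.rec (motive := fun _ => ℕ) MM_65 MM_66 (Nat.ble (nat_lit 9782029) X)
noncomputable def MM_n68_70 (X : ℕ) : ℕ := Bool.rec (motive := fun _ => ℕ) MM_68 MM_69 (Nat.ble (nat_lit 9980857) X)
noncomputable def MM_n67_70 (X : ℕ) : ℕ := Bool.rec (motive := fun _ => ℕ) MM_67 (MM_n68_70 X) (Nat.ble (nat_lit 9914617) X)
noncomputable def MM_n65_70 (X : ℕ) : ℕ := Bool.rec (motive := fun _ => ℕ) (MM_n65_67 X) (MM_n67_70 X) (Nat.ble (nat_lit 9847967) X)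
noncomputable def MM_n70_72 (X : ℕ) : ℕ := Bool.rec (motive := fun _ => ℕ) MM_70 MM_71 (Nat.ble (nat_lit 10112897) X)
noncomputable def MM_n73_75 (X : ℕ) : ℕ := Bool.rec (motive := fun _ => ℕ) MM_73 MM_74 (Nat.ble (nat_lit 10311997) X)
noncomputable def MM_n72_75 (X : ℕ) : ℕ := Bool.rec (motive := fun _ => ℕ) MM_72 (MM_n73_75 X) (Nat.ble (nat_lit 10245751) X)
noncomputable def MM_n70_75 (X : ℕ) : ℕ := Bool.rec (motive := fun _ => ℕ) (MM_n70_72 X) (MM_n72_75 X) (Nat.ble (nat_lit 10179161) X)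
noncomputable def MM_n65_75 (X : ℕ) : ℕ := Bool.rec (motive := fun _ => ℕ) (MM_n65_70 X) (MM_n70_75 X) (Nat.ble (nat_lit 10046903) X)
noncomputable def MM_n56_75 (X : ℕ) : ℕ := Bool.rec (motive := fun _ => ℕ) (MM_n56_65 X) (MM_n65_75 X) (Nat.ble (nat_lit 9715969) X)
noncomputable def MM_n37_75 (X : ℕ) : ℕ := Bool.rec (motive := fun _ => ℕ) (MM_n37_56 X) (MM_n56_75 X) (Nat.ble (nat_lit 9124417) X)
noncomputable def MM_sel (X : ℕ) : ℕ := Bool.rec (motive := fun _ => ℕ) (MM_n0_37 X) (MM_n37_75 X) (Nat.ble (nat_lit 7881739) X)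
noncomputable def MB (q : ℕ) : ℕ := (MM_sel q)
noncomputable def mt (q : ℕ) : Bool := memt MB (nat_lit 5500000) (nat_lit 11000000) q
noncomputable def sd (d q : ℕ) : ℕ := (Bool.rec (motive := fun _ => ℕ) (Bool.rec (motive := fun _ => ℕ) (Bool.rec (motive := fun _ => ℕ) (F_l q) (Bool.rec (motive := fun _ => ℕ) (F_k q) (F_a q) (Nat.ble (nat_lit 2) d)) (Nat.ble (nat_lit 1) d)) (Bool.rec (motive := fun _ => ℕ) (F_b q) (Bool.rec (motive := fun _ => ℕ) (F_c q) (F_d q) (Nat.ble (nat_lit 5) d)) (Nat.ble (nat_lit 4) d)) (Nat.ble (nat_lit 3) d)) (Bool.rec (motive := fun _ => ℕ) (Bool.rec (motive := fun _ => ℕ) (F_e q) (Bool.rec (motive := fun _ => ℕ) (F_f q) (F_g q) (Nat.ble (nat_lit 8) d)) (Nat.ble (nat_lit 7) d)) (Bool.rec (motive := fun _ => ℕ) (F_j q) (Bool.rec (motive := fun _ => ℕ) (F_h q) (F_i q) (Nat.ble (nat_lit 11) d)) (Nat.ble (nat_lit 10) d)) (Nat.ble (nat_lit 9) d)) (Nat.ble (nat_lit 6)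 d))
noncomputable def E_0 (t q : ℕ) : Bool := Nat.beq (G_l t (F_l q)) q
noncomputable def a_0 : CfsgLib.TC.AG Col := .word .l 0 0 true [Col.l]
noncomputable def E_1 (t q : ℕ) : Bool := Nat.beq (G_h t (G_l t (G_h t (F_l q)))) q
noncomputable def a_1 : CfsgLib.TC.AG Col := .word .l 10 1 true [Col.h, Col.l, Col.h]
noncomputable def E_2 (t q : ℕ) : Bool := Nat.beq (G_i t (G_l t (G_i t (F_l q)))) q
noncomputable def a_2 : CfsgLib.TC.AG Col := .word .l 11 1 true [Col.i, Col.l, Col.i]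
noncomputable def E_3 (t q : ℕ) : Bool := Nat.beq (G_d t (G_l t (G_d t (F_l q)))) q
noncomputable def a_3 : CfsgLib.TC.AG Col := .word .l 5 1 true [Col.d, Col.l, Col.d]
noncomputable def E_4 (t q : ℕ) : Bool := Nat.beq (G_e t (G_l t (G_e t (F_l q)))) q
noncomputable def a_4 : CfsgLib.TC.AG Col := .word .l 6 1 true [Col.e, Col.l, Col.e]
noncomputable def E_5 (t q : ℕ) : Bool := Nat.beq (G_f t (G_l t (G_f t (F_l q)))) q
noncomputable def a_5 : CfsgLib.TC.AG Col := .word .l 7 1 true [Col.f, Col.l, Col.f]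
noncomputable def E_6 (t q : ℕ) : Bool := Nat.beq (G_c t (G_l t (G_c t (F_l q)))) q
noncomputable def a_6 : CfsgLib.TC.AG Col := .word .l 4 1 true [Col.c, Col.l, Col.c]
noncomputable def E_7 (t q : ℕ) : Bool := Nat.beq (G_g t (G_l t (G_g t (F_l q)))) q
noncomputable def a_7 : CfsgLib.TC.AG Col := .word .l 8 1 true [Col.g, Col.l, Col.g]
noncomputable def E_8 (t q : ℕ) : Bool := Nat.beq (G_b t (G_l t (G_b t (F_l q)))) q
noncomputable def a_8 : CfsgLib.TC.AG Col := .word .l 3 1 true [Col.b, Col.l, Col.b]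
noncomputable def E_9 (t q : ℕ) : Bool := Nat.beq (G_j t (G_l t (G_j t (F_l q)))) q
noncomputable def a_9 : CfsgLib.TC.AG Col := .word .l 9 1 true [Col.j, Col.l, Col.j]
noncomputable def E_10 (t q : ℕ) : Bool := Nat.beq (G_a t (G_l t (G_a t (F_l q)))) q
noncomputable def a_10 : CfsgLib.TC.AG Col := .word .l 2 1 true [Col.a, Col.l, Col.a]
noncomputable def E_11 (t q : ℕ) : Bool := band (Nat.beq (PT (F_l q)) q) (band (Nat.beq (DT (F_l q)) 0) (band (Nat.ble (Nat.succ q) (F_l q)) (Nat.ble (Nat.succ q0) (F_l q))))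
noncomputable def a_11 : CfsgLib.TC.AG Col := .tree .l
noncomputable def E_12 (t q : ℕ) : Bool := Nat.beq (G_k t (G_l t (G_k t (G_l t (G_k t (F_l q)))))) q
noncomputable def a_12 : CfsgLib.TC.AG Col := .word .l 1 1 true [Col.k, Col.l, Col.k, Col.l, Col.k]
noncomputable def E_13 (t q : ℕ) : Bool := Nat.beq (G_h t (G_f t (G_e t (G_d t (G_c t (G_b t (G_a t (G_h t (G_f t (G_e t (G_d t (G_c t (G_b t (G_a t (G_h t (G_f t (G_e t (G_d t (G_c t (G_b t (G_a t (G_h t (G_f t (G_e t (G_d t (G_c t (G_b t (G_a t (G_h t (G_f t (G_e t (G_d t (G_c t (G_b t (G_a t (G_h t (G_f t (G_e t (G_d t (G_c t (G_b t (G_a t (G_h t (G_f t (G_e t (G_d t (G_c t (G_b t (G_a t (G_h t (G_f t (G_e t (G_d t (G_c t (G_b t (G_a t (G_h t (G_f t (G_e t (G_d t (G_c t (G_b t (G_a t (F_l q)))))))))))))))))))))))))))))))))))))))))))))))))))))))))))))))) q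
noncomputable def a_13 : CfsgLib.TC.AG Col := .word .l 78 63 true [Col.a, Col.b, Col.c, Col.d, Col.e, Col.f, Col.h, Col.a, Col.b, Col.c, Col.d, Col.e, Col.f, Col.h, Col.a, Col.b, Col.c, Col.d, Col.e, Col.f, Col.h, Col.a, Col.b, Col.c, Col.d, Col.e, Col.f, Col.h, Col.a, Col.b, Col.c, Col.d, Col.e, Col.f, Col.h, Col.a, Col.b, Col.c, Col.d, Col.e, Col.f, Col.h, Col.a, Col.b, Col.c, Col.d, Col.e, Col.f, Col.h, Col.a, Col.b, Col.c, Col.d, Col.e, Col.f, Col.h, Col.a, Col.b, Col.c, Col.d, Col.e, Col.f, Col.h]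
noncomputable def D_l (q : ℕ) : Bool := (Bool.rec (motive := fun _ => Bool) (Bool.rec (motive := fun _ => Bool) (E_0 (UU_l q) q) (E_1 (UU_l q) q) (Nat.ble (nat_lit 1) (VV_l q))) (Bool.rec (motive := fun _ => Bool) (Bool.rec (motive := fun _ => Bool) (Bool.rec (motive := fun _ => Bool) (E_2 (UU_l q) q) (Bool.rec (motive := fun _ => Bool) (E_3 (UU_l q) q) (E_4 (UU_l q) q) (Nat.ble (nat_lit 4) (VV_l q))) (Nat.ble (nat_lit 3) (VV_l q))) (Bool.rec (motive := fun _ => Bool) (E_5 (UU_l q) q) (Bool.rec (motive := fun _ => Bool) (E_6 (UU_l q) q) (E_7 (UU_l q) q) (Nat.ble (nat_lit 7) (VV_l q))) (Nat.ble (nat_lit 6) (VV_l q))) (Nat.ble (nat_lit 5) (VV_l q))) (Bool.rec (motive := fun _ => Bool) (Bool.rec (motive := fun _ => Bool) (E_8 (UU_l q) q) (Bool.rec (motive := fun _ => Bool) (E_9 (UU_l q) q) (E_10 (UU_l q) q) (Nat.ble (nat_lit 10) (VV_l q))) (Nat.ble (nat_lit 9) (VV_l q))) (Bool.rec (motive :=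 fun _ => Bool) (E_11 (UU_l q) q) (Bool.rec (motive := fun _ => Bool) (E_12 (UU_l q) q) (E_13 (UU_l q) q) (Nat.ble (nat_lit 13) (VV_l q))) (Nat.ble (nat_lit 12) (VV_l q))) (Nat.ble (nat_lit 11) (VV_l q))) (Nat.ble (nat_lit 8) (VV_l q))) (Nat.ble (nat_lit 2) (VV_l q)))
noncomputable def E_14 (t q : ℕ) : Bool := Nat.beq (G_k t (F_k q)) q
noncomputable def a_14 : CfsgLib.TC.AG Col := .word .k 12 0 true [Col.k]
noncomputable def E_15 (t q : ℕ) : Bool := Nat.beq (G_h t (G_k t (G_h t (F_k q)))) q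
noncomputable def a_15 : CfsgLib.TC.AG Col := .word .k 21 1 true [Col.h, Col.k, Col.h]
noncomputable def E_16 (t q : ℕ) : Bool := Nat.beq (G_i t (G_k t (G_i t (F_k q)))) q
noncomputable def a_16 : CfsgLib.TC.AG Col := .word .k 22 1 true [Col.i, Col.k, Col.i]
noncomputable def E_17 (t q : ℕ) : Bool := Nat.beq (G_d t (G_k t (G_d t (F_k q)))) q
noncomputable def a_17 : CfsgLib.TC.AG Col := .word .k 16 1 true [Col.d, Col.k, Col.d]
noncomputable def E_18 (t q : ℕ) : Bool := Nat.beq (G_e t (G_k t (G_e t (F_k q)))) q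
noncomputable def a_18 : CfsgLib.TC.AG Col := .word .k 17 1 true [Col.e, Col.k, Col.e]
noncomputable def E_19 (t q : ℕ) : Bool := Nat.beq (G_f t (G_k t (G_f t (F_k q)))) q
noncomputable def a_19 : CfsgLib.TC.AG Col := .word .k 18 1 true [Col.f, Col.k, Col.f]
noncomputable def E_20 (t q : ℕ) : Bool := Nat.beq (G_c t (G_k t (G_c t (F_k q)))) q
noncomputable def a_20 : CfsgLib.TC.AG Col := .word .k 15 1 true [Col.c, Col.k, Col.c]
noncomputable def E_21 (t q : ℕ) : Bool := Nat.beq (G_g t (G_k t (G_g t (F_k q)))) q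
noncomputable def a_21 : CfsgLib.TC.AG Col := .word .k 19 1 true [Col.g, Col.k, Col.g]
noncomputable def E_22 (t q : ℕ) : Bool := Nat.beq (G_b t (G_k t (G_b t (F_k q)))) q
noncomputable def a_22 : CfsgLib.TC.AG Col := .word .k 14 1 true [Col.b, Col.k, Col.b]
noncomputable def E_23 (t q : ℕ) : Bool := Nat.beq (G_j t (G_k t (G_j t (F_k q)))) q
noncomputable def a_23 : CfsgLib.TC.AG Col := .word .k 20 1 true [Col.j, Col.k, Col.j]
noncomputable def E_24 (t q : ℕ) : Bool := band (Nat.beq (PT (F_k q)) q) (band (Nat.beq (DT (F_k q)) 1) (band (Nat.ble (Nat.succ q) (F_k q)) (Nat.ble (Nat.succ q0) (F_k q))))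
noncomputable def a_24 : CfsgLib.TC.AG Col := .tree .k
noncomputable def E_25 (t q : ℕ) : Bool := Nat.beq (G_a t (G_k t (G_a t (G_k t (G_a t (F_k q)))))) q
noncomputable def a_25 : CfsgLib.TC.AG Col := .word .k 13 1 true [Col.a, Col.k, Col.a, Col.k, Col.a]
noncomputable def E_26 (t q : ℕ) : Bool := Nat.beq (G_l t (G_k t (G_l t (G_k t (G_l t (F_k q)))))) q
noncomputable def a_26 : CfsgLib.TC.AG Col := .word .k 1 0 true [Col.l, Col.k, Col.l, Col.k, Col.l]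
noncomputable def D_k (q : ℕ) : Bool := (Bool.rec (motive := fun _ => Bool) (Bool.rec (motive := fun _ => Bool) (E_14 (UU_k q) q) (E_15 (UU_k q) q) (Nat.ble (nat_lit 1) (VV_k q))) (Bool.rec (motive := fun _ => Bool) (Bool.rec (motive := fun _ => Bool) (Bool.rec (motive := fun _ => Bool) (E_16 (UU_k q) q) (E_17 (UU_k q) q) (Nat.ble (nat_lit 3) (VV_k q))) (Bool.rec (motive := fun _ => Bool) (E_18 (UU_k q) q) (Bool.rec (motive := fun _ => Bool) (E_19 (UU_k q) q) (E_20 (UU_k q) q) (Nat.ble (nat_lit 6) (VV_k q))) (Nat.ble (nat_lit 5) (VV_k q))) (Nat.ble (nat_lit 4) (VV_k q))) (Bool.rec (motive := fun _ => Bool) (Bool.rec (motive := fun _ => Bool) (E_21 (UU_k q) q) (Bool.rec (motive := fun _ => Bool) (E_22 (UU_k q) q) (E_23 (UU_k q) q) (Nat.ble (nat_lit 9) (VV_k q))) (Nat.ble (nat_lit 8) (VV_k q))) (Bool.rec (motive := fun _ => Bool) (E_24 (UU_k q) q) (Bool.rec (motive := fun _ => Bool) (E_25 (UU_k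 q) q) (E_26 (UU_k q) q) (Nat.ble (nat_lit 12) (VV_k q))) (Nat.ble (nat_lit 11) (VV_k q))) (Nat.ble (nat_lit 10) (VV_k q))) (Nat.ble (nat_lit 7) (VV_k q))) (Nat.ble (nat_lit 2) (VV_k q)))
noncomputable def E_27 (t q : ℕ) : Bool := Nat.beq (G_a t (F_a q)) q
noncomputable def a_27 : CfsgLib.TC.AG Col := .word .a 23 0 true [Col.a]
noncomputable def E_28 (t q : ℕ) : Bool := Nat.beq (G_l t (G_a t (G_l t (F_a q)))) q
noncomputable def a_28 : CfsgLib.TC.AG Col := .word .a 2 0 true [Col.l, Col.a, Col.l]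
noncomputable def E_29 (t q : ℕ) : Bool := Nat.beq (G_h t (G_a t (G_h t (F_a q)))) q
noncomputable def a_29 : CfsgLib.TC.AG Col := .word .a 31 1 true [Col.h, Col.a, Col.h]
noncomputable def E_30 (t q : ℕ) : Bool := Nat.beq (G_i t (G_a t (G_i t (F_a q)))) q
noncomputable def a_30 : CfsgLib.TC.AG Col := .word .a 32 1 true [Col.i, Col.a, Col.i]
noncomputable def E_31 (t q : ℕ) : Bool := Nat.beq (G_d t (G_a t (G_d t (F_a q)))) q
noncomputable def a_31 : CfsgLib.TC.AG Col := .word .a 26 1 true [Col.d, Col.a, Col.d]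
noncomputable def E_32 (t q : ℕ) : Bool := Nat.beq (G_e t (G_a t (G_e t (F_a q)))) q
noncomputable def a_32 : CfsgLib.TC.AG Col := .word .a 27 1 true [Col.e, Col.a, Col.e]
noncomputable def E_33 (t q : ℕ) : Bool := Nat.beq (G_f t (G_a t (G_f t (F_a q)))) q
noncomputable def a_33 : CfsgLib.TC.AG Col := .word .a 28 1 true [Col.f, Col.a, Col.f]
noncomputable def E_34 (t q : ℕ) : Bool := Nat.beq (G_c t (G_a t (G_c t (F_a q)))) q
noncomputable def a_34 : CfsgLib.TC.AG Col := .word .a 25 1 true [Col.c, Col.a, Col.c]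
noncomputable def E_35 (t q : ℕ) : Bool := band (Nat.beq (PT (F_a q)) q) (band (Nat.beq (DT (F_a q)) 2) (band (Nat.ble (Nat.succ q) (F_a q)) (Nat.ble (Nat.succ q0) (F_a q))))
noncomputable def a_35 : CfsgLib.TC.AG Col := .tree .a
noncomputable def E_36 (t q : ℕ) : Bool := Nat.beq (G_g t (G_a t (G_g t (F_a q)))) q
noncomputable def a_36 : CfsgLib.TC.AG Col := .word .a 29 1 true [Col.g, Col.a, Col.g]
noncomputable def E_37 (t q : ℕ) : Bool := Nat.beq (G_j t (G_a t (G_j t (F_a q)))) q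
noncomputable def a_37 : CfsgLib.TC.AG Col := .word .a 30 1 true [Col.j, Col.a, Col.j]
noncomputable def E_38 (t q : ℕ) : Bool := Nat.beq (G_b t (G_a t (G_b t (G_a t (G_b t (F_a q)))))) q
noncomputable def a_38 : CfsgLib.TC.AG Col := .word .a 24 1 true [Col.b, Col.a, Col.b, Col.a, Col.b]
noncomputable def E_39 (t q : ℕ) : Bool := Nat.beq (G_k t (G_a t (G_k t (G_a t (G_k t (F_a q)))))) q
noncomputable def a_39 : CfsgLib.TC.AG Col := .word .a 13 0 true [Col.k, Col.a, Col.k, Col.a, Col.k]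
noncomputable def E_40 (t q : ℕ) : Bool := band (Nat.beq q0 q) (Nat.beq (F_a q) q0)
noncomputable def a_40 : CfsgLib.TC.AG Col := .base .a 0 [] []
noncomputable def D_a (q : ℕ) : Bool := (Bool.rec (motive := fun _ => Bool) (Bool.rec (motive := fun _ => Bool) (E_27 (UU_a q) q) (E_28 (UU_a q) q) (Nat.ble (nat_lit 1) (VV_a q))) (Bool.rec (motive := fun _ => Bool) (Bool.rec (motive := fun _ => Bool) (Bool.rec (motive := fun _ => Bool) (E_29 (UU_a q) q) (Bool.rec (motive := fun _ => Bool) (E_30 (UU_a q) q) (E_31 (UU_a q) q) (Nat.ble (nat_lit 4) (VV_a q))) (Nat.ble (nat_lit 3) (VV_a q))) (Bool.rec (motive := fun _ => Bool) (E_32 (UU_a q) q) (Bool.rec (motive := fun _ => Bool) (E_33 (UU_a q) q) (E_34 (UU_a q) q) (Nat.ble (nat_lit 7) (VV_a q))) (Nat.ble (nat_lit 6) (VV_a q))) (Nat.ble (nat_lit 5) (VV_a q))) (Bool.rec (motive := fun _ => Bool) (Bool.rec (motive := fun _ => Bool) (E_35 (UU_a q) q)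 (Bool.rec (motive := fun _ => Bool) (E_36 (UU_a q) q) (E_37 (UU_a q) q) (Nat.ble (nat_lit 10) (VV_a q))) (Nat.ble (nat_lit 9) (VV_a q))) (Bool.rec (motive := fun _ => Bool) (E_38 (UU_a q) q) (Bool.rec (motive := fun _ => Bool) (E_39 (UU_a q) q) (E_40 (UU_a q) q) (Nat.ble (nat_lit 13) (VV_a q))) (Nat.ble (nat_lit 12) (VV_a q))) (Nat.ble (nat_lit 11) (VV_a q))) (Nat.ble (nat_lit 8) (VV_a q))) (Nat.ble (nat_lit 2) (VV_a q)))
noncomputable def E_41 (t q : ℕ) : Bool := Nat.beq (G_b t (F_b q)) q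
noncomputable def a_41 : CfsgLib.TC.AG Col := .word .b 33 0 true [Col.b]
noncomputable def E_42 (t q : ℕ) : Bool := Nat.beq (G_l t (G_b t (G_l t (F_b q)))) q
noncomputable def a_42 : CfsgLib.TC.AG Col := .word .b 3 0 true [Col.l, Col.b, Col.l]
noncomputable def E_43 (t q : ℕ) : Bool := Nat.beq (G_k t (G_b t (G_k t (F_b q)))) q
noncomputable def a_43 : CfsgLib.TC.AG Col := .word .b 14 0 true [Col.k, Col.b, Col.k]
noncomputable def E_44 (t q : ℕ) : Bool := Nat.beq (G_h t (G_b t (G_h t (F_b q)))) q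
noncomputable def a_44 : CfsgLib.TC.AG Col := .word .b 40 1 true [Col.h, Col.b, Col.h]
noncomputable def E_45 (t q : ℕ) : Bool := Nat.beq (G_i t (G_b t (G_i t (F_b q)))) q
noncomputable def a_45 : CfsgLib.TC.AG Col := .word .b 41 1 true [Col.i, Col.b, Col.i]
noncomputable def E_46 (t q : ℕ) : Bool := band (Nat.beq (PT (F_b q)) q) (band (Nat.beq (DT (F_b q)) 3) (band (Nat.ble (Nat.succ q) (F_b q)) (Nat.ble (Nat.succ q0) (F_b q))))
noncomputable def a_46 : CfsgLib.TC.AG Col := .tree .b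
noncomputable def E_47 (t q : ℕ) : Bool := Nat.beq (G_d t (G_b t (G_d t (F_b q)))) q
noncomputable def a_47 : CfsgLib.TC.AG Col := .word .b 35 1 true [Col.d, Col.b, Col.d]
noncomputable def E_48 (t q : ℕ) : Bool := Nat.beq (G_e t (G_b t (G_e t (F_b q)))) q
noncomputable def a_48 : CfsgLib.TC.AG Col := .word .b 36 1 true [Col.e, Col.b, Col.e]
noncomputable def E_49 (t q : ℕ) : Bool := Nat.beq (G_f t (G_b t (G_f t (F_b q)))) q
noncomputable def a_49 : CfsgLib.TC.AG Col := .word .b 37 1 true [Col.f, Col.b, Col.f]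
noncomputable def E_50 (t q : ℕ) : Bool := Nat.beq (G_g t (G_b t (G_g t (F_b q)))) q
noncomputable def a_50 : CfsgLib.TC.AG Col := .word .b 38 1 true [Col.g, Col.b, Col.g]
noncomputable def E_51 (t q : ℕ) : Bool := Nat.beq (G_j t (G_b t (G_j t (F_b q)))) q
noncomputable def a_51 : CfsgLib.TC.AG Col := .word .b 39 1 true [Col.j, Col.b, Col.j]
noncomputable def E_52 (t q : ℕ) : Bool := Nat.beq (G_c t (G_b t (G_c t (G_b t (G_c t (F_b q)))))) q
noncomputable def a_52 : CfsgLib.TC.AG Col := .word .b 34 1 true [Col.c, Col.b, Col.c, Col.b, Col.c]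
noncomputable def E_53 (t q : ℕ) : Bool := Nat.beq (G_a t (G_b t (G_a t (G_b t (G_a t (F_b q)))))) q
noncomputable def a_53 : CfsgLib.TC.AG Col := .word .b 24 0 true [Col.a, Col.b, Col.a, Col.b, Col.a]
noncomputable def E_54 (t q : ℕ) : Bool := band (Nat.beq q0 q) (Nat.beq (F_b q) q0)
noncomputable def a_54 : CfsgLib.TC.AG Col := .base .b 1 [] []
noncomputable def E_55 (t q : ℕ) : Bool := Nat.beq (G_a t (G_h t (G_f t (G_e t (G_d t (G_c t (G_b t (G_a t (G_h t (G_f t (G_e t (G_d t (G_c t (G_b t (G_a t (G_h t (G_f t (G_e t (G_d t (G_c t (G_b t (G_a t (G_l t (G_h t (G_f t (G_e t (G_d t (G_c t (G_b t (G_a t (G_h t (G_f t (G_e t (G_d t (G_c t (G_b t (G_a t (G_h t (G_f t (G_e t (G_d t (G_c t (G_b t (G_a t (G_h t (G_f t (G_e t (G_d t (G_c t (G_b t (G_a t (G_h t (G_f t (G_e t (G_d t (G_c t (G_b t (G_a t (G_h t (G_f t (G_e t (G_d t (G_c t (F_b q))))))))))))))))))))))))))))))))))))))))))))))))))))))))))))))))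 q
noncomputable def a_55 : CfsgLib.TC.AG Col := .word .b 78 22 true [Col.c, Col.d, Col.e, Col.f, Col.h, Col.a, Col.b, Col.c, Col.d, Col.e, Col.f, Col.h, Col.a, Col.b, Col.c, Col.d, Col.e, Col.f, Col.h, Col.a, Col.b, Col.c, Col.d, Col.e, Col.f, Col.h, Col.a, Col.b, Col.c, Col.d, Col.e, Col.f, Col.h, Col.a, Col.b, Col.c, Col.d, Col.e, Col.f, Col.h, Col.l, Col.a, Col.b, Col.c, Col.d, Col.e, Col.f, Col.h, Col.a, Col.b, Col.c, Col.d, Col.e, Col.f, Col.h, Col.a, Col.b, Col.c, Col.d, Col.e, Col.f, Col.h, Col.a]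
noncomputable def D_b (q : ℕ) : Bool := (Bool.rec (motive := fun _ => Bool) (Bool.rec (motive := fun _ => Bool) (E_41 (UU_b q) q) (E_42 (UU_b q) q) (Nat.ble (nat_lit 1) (VV_b q))) (Bool.rec (motive := fun _ => Bool) (Bool.rec (motive := fun _ => Bool) (Bool.rec (motive := fun _ => Bool) (E_43 (UU_b q) q) (Bool.rec (motive := fun _ => Bool) (E_44 (UU_b q) q) (E_45 (UU_b q) q) (Nat.ble (nat_lit 4) (VV_b q))) (Nat.ble (nat_lit 3) (VV_b q))) (Bool.rec (motive := fun _ => Bool) (E_46 (UU_b q) q) (Bool.rec (motive := fun _ => Bool) (E_47 (UU_b q) q) (E_48 (UU_b q) q) (Nat.ble (nat_lit 7) (VV_b q))) (Nat.ble (nat_lit 6) (VV_b q))) (Nat.ble (nat_lit 5) (VV_b q))) (Bool.rec (motive := fun _ => Bool) (Bool.rec (motive := fun _ => Bool) (E_49 (UU_b q) q) (Bool.rec (motive := fun _ => Bool) (E_50 (UU_b q) q) (E_51 (UU_b q) q) (Nat.ble (nat_lit 10) (VV_b q))) (Nat.ble (nat_lit 9) (VV_b q))) (Bool.rec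 (motive := fun _ => Bool) (Bool.rec (motive := fun _ => Bool) (E_52 (UU_b q) q) (E_53 (UU_b q) q) (Nat.ble (nat_lit 12) (VV_b q))) (Bool.rec (motive := fun _ => Bool) (E_54 (UU_b q) q) (E_55 (UU_b q) q) (Nat.ble (nat_lit 14) (VV_b q))) (Nat.ble (nat_lit 13) (VV_b q))) (Nat.ble (nat_lit 11) (VV_b q))) (Nat.ble (nat_lit 8) (VV_b q))) (Nat.ble (nat_lit 2) (VV_b q)))
noncomputable def E_56 (t q : ℕ) : Bool := Nat.beq (G_c t (F_c q)) q
noncomputable def a_56 : CfsgLib.TC.AG Col := .word .c 42 0 true [Col.c]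
noncomputable def E_57 (t q : ℕ) : Bool := Nat.beq (G_l t (G_c t (G_l t (F_c q)))) q
noncomputable def a_57 : CfsgLib.TC.AG Col := .word .c 4 0 true [Col.l, Col.c, Col.l]
noncomputable def E_58 (t q : ℕ) : Bool := Nat.beq (G_k t (G_c t (G_k t (F_c q)))) q
noncomputable def a_58 : CfsgLib.TC.AG Col := .word .c 15 0 true [Col.k, Col.c, Col.k]
noncomputable def E_59 (t q : ℕ) : Bool := Nat.beq (G_a t (G_c t (G_a t (F_c q)))) q
noncomputable def a_59 : CfsgLib.TC.AG Col := .word .c 25 0 true [Col.a, Col.c, Col.a]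
noncomputable def E_60 (t q : ℕ) : Bool := band (Nat.beq (PT (F_c q)) q) (band (Nat.beq (DT (F_c q)) 4) (band (Nat.ble (Nat.succ q) (F_c q)) (Nat.ble (Nat.succ q0) (F_c q))))
noncomputable def a_60 : CfsgLib.TC.AG Col := .tree .c
noncomputable def E_61 (t q : ℕ) : Bool := Nat.beq (G_h t (G_c t (G_h t (F_c q)))) q
noncomputable def a_61 : CfsgLib.TC.AG Col := .word .c 48 1 true [Col.h, Col.c, Col.h]
noncomputable def E_62 (t q : ℕ) : Bool := Nat.beq (G_i t (G_c t (G_i t (F_c q)))) q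
noncomputable def a_62 : CfsgLib.TC.AG Col := .word .c 49 1 true [Col.i, Col.c, Col.i]
noncomputable def E_63 (t q : ℕ) : Bool := Nat.beq (G_e t (G_c t (G_e t (F_c q)))) q
noncomputable def a_63 : CfsgLib.TC.AG Col := .word .c 44 1 true [Col.e, Col.c, Col.e]
noncomputable def E_64 (t q : ℕ) : Bool := Nat.beq (G_f t (G_c t (G_f t (F_c q)))) q
noncomputable def a_64 : CfsgLib.TC.AG Col := .word .c 45 1 true [Col.f, Col.c, Col.f]
noncomputable def E_65 (t q : ℕ) : Bool := Nat.beq (G_g t (G_c t (G_g t (F_c q)))) q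
noncomputable def a_65 : CfsgLib.TC.AG Col := .word .c 46 1 true [Col.g, Col.c, Col.g]
noncomputable def E_66 (t q : ℕ) : Bool := Nat.beq (G_j t (G_c t (G_j t (F_c q)))) q
noncomputable def a_66 : CfsgLib.TC.AG Col := .word .c 47 1 true [Col.j, Col.c, Col.j]
noncomputable def E_67 (t q : ℕ) : Bool := Nat.beq (G_d t (G_c t (G_d t (G_c t (G_d t (F_c q)))))) q
noncomputable def a_67 : CfsgLib.TC.AG Col := .word .c 43 1 true [Col.d, Col.c, Col.d, Col.c, Col.d]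
noncomputable def E_68 (t q : ℕ) : Bool := Nat.beq (G_b t (G_c t (G_b t (G_c t (G_b t (F_c q)))))) q
noncomputable def a_68 : CfsgLib.TC.AG Col := .word .c 34 0 true [Col.b, Col.c, Col.b, Col.c, Col.b]
noncomputable def E_69 (t q : ℕ) : Bool := band (Nat.beq q0 q) (Nat.beq (F_c q) q0)
noncomputable def a_69 : CfsgLib.TC.AG Col := .base .c 2 [] []
noncomputable def E_70 (t q : ℕ) : Bool := band (Nat.beq (G_d t (G_h t (G_i t (G_a t (G_b t (G_c t (G_d t (G_h t (G_e t (G_d t (G_c t (G_b t (G_a t (G_k t q0)))))))))))))) q) (Nat.beq (G_k t (G_l t (G_a t (G_b t (G_c t (G_d t (G_e t (G_h t (G_d t (G_c t (G_b t (G_i t (G_h t (G_d t (G_e t (F_c q)))))))))))))))) q0)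
noncomputable def a_70 : CfsgLib.TC.AG Col := .base .c 11 [Col.k, Col.a, Col.b, Col.c, Col.d, Col.e, Col.h, Col.d, Col.c, Col.b, Col.a, Col.i, Col.h, Col.d] [Col.e, Col.d, Col.h, Col.i, Col.b, Col.c, Col.d, Col.h, Col.e, Col.d, Col.c, Col.b, Col.a, Col.l, Col.k]
noncomputable def E_71 (t q : ℕ) : Bool := Nat.beq (G_d t (G_e t (G_f t (G_h t (G_l t (G_a t (G_b t (G_c t (G_d t (G_e t (G_f t (G_h t (G_a t (G_b t (G_c t (G_d t (G_e t (G_f t (G_h t (G_a t (G_b t (G_c t (G_d t (G_e t (G_f t (G_h t (G_a t (G_b t (G_c t (G_d t (G_e t (G_f t (G_h t (G_a t (G_b t (G_c t (G_d t (G_e t (G_f t (G_h t (G_a t (G_b t (G_c t (G_d t (G_e t (G_f t (G_h t (G_a t (G_b t (G_c t (G_d t (G_e t (G_f t (G_h t (G_a t (G_b t (G_c t (G_d t (G_e t (G_f t (G_h t (G_a t (G_b t (F_c q)))))))))))))))))))))))))))))))))))))))))))))))))))))))))))))))) q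
noncomputable def a_71 : CfsgLib.TC.AG Col := .word .c 78 5 false [Col.b, Col.a, Col.h, Col.f, Col.e, Col.d, Col.c, Col.b, Col.a, Col.h, Col.f, Col.e, Col.d, Col.c, Col.b, Col.a, Col.h, Col.f, Col.e, Col.d, Col.c, Col.b, Col.a, Col.h, Col.f, Col.e, Col.d, Col.c, Col.b, Col.a, Col.h, Col.f, Col.e, Col.d, Col.c, Col.b, Col.a, Col.h, Col.f, Col.e, Col.d, Col.c, Col.b, Col.a, Col.h, Col.f, Col.e, Col.d, Col.c, Col.b, Col.a, Col.h, Col.f, Col.e, Col.d, Col.c, Col.b, Col.a, Col.l, Col.h, Col.f, Col.e, Col.d]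
noncomputable def E_72 (t q : ℕ) : Bool := Nat.beq (G_b t (G_a t (G_l t (G_h t (G_f t (G_e t (G_d t (G_c t (G_b t (G_a t (G_h t (G_f t (G_e t (G_d t (G_c t (G_b t (G_a t (G_h t (G_f t (G_e t (G_d t (G_c t (G_b t (G_a t (G_h t (G_f t (G_e t (G_d t (G_c t (G_b t (G_a t (G_h t (G_f t (G_e t (G_d t (G_c t (G_b t (G_a t (G_h t (G_f t (G_e t (G_d t (G_c t (G_b t (G_a t (G_h t (G_f t (G_e t (G_d t (G_c t (G_b t (G_a t (G_h t (G_f t (G_e t (G_d t (G_c t (G_b t (G_a t (G_h t (G_f t (G_e t (G_d t (F_c q)))))))))))))))))))))))))))))))))))))))))))))))))))))))))))))))) q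
noncomputable def a_72 : CfsgLib.TC.AG Col := .word .c 78 2 true [Col.d, Col.e, Col.f, Col.h, Col.a, Col.b, Col.c, Col.d, Col.e, Col.f, Col.h, Col.a, Col.b, Col.c, Col.d, Col.e, Col.f, Col.h, Col.a, Col.b, Col.c, Col.d, Col.e, Col.f, Col.h, Col.a, Col.b, Col.c, Col.d, Col.e, Col.f, Col.h, Col.a, Col.b, Col.c, Col.d, Col.e, Col.f, Col.h, Col.a, Col.b, Col.c, Col.d, Col.e, Col.f, Col.h, Col.a, Col.b, Col.c, Col.d, Col.e, Col.f, Col.h, Col.a, Col.b, Col.c, Col.d, Col.e, Col.f, Col.h, Col.l, Col.a, Col.b]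
noncomputable def E_73 (t q : ℕ) : Bool := Nat.beq (G_b t (G_a t (G_k t (G_l t (G_d t (G_e t (G_f t (G_g t (G_j t (G_d t (G_h t (G_i t (G_d t (G_c t (G_b t (G_a t (G_k t (G_l t (G_d t (G_e t (G_f t (G_g t (G_j t (G_d t (G_h t (G_i t (G_d t (G_c t (G_b t (G_a t (G_k t (G_l t (G_d t (G_e t (G_f t (G_g t (G_j t (G_d t (G_h t (G_i t (G_d t (G_c t (G_b t (G_a t (G_k t (G_l t (G_d t (G_e t (G_f t (G_g t (G_j t (G_d t (G_h t (G_i t (G_d t (G_c t (G_b t (G_a t (G_k t (G_l t (G_d t (G_e t (G_f t (G_g t (G_j t (G_d t (G_h t (G_i t (G_d t (G_c t (G_b t (G_a t (G_k t (G_l t (G_d t (G_e t (G_f t (G_g t (G_j t (G_d t (G_h t (G_i t (G_d t (G_c t (G_b t (G_a t (G_k t (G_l t (G_d t (G_e t (G_f t (G_g t (G_j t (G_d t (G_h t (G_i t (G_d t (G_c t (G_b t (G_a t (G_k t (G_l t (G_d t (G_e t (G_f t (G_g t (G_j t (G_d t (G_h t (G_i t (G_d t (G_c t (G_b t (G_a t (G_k t (G_l t (G_d t (G_e t (G_f t (G_g t (G_j t (G_d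 t (G_h t (G_i t (G_d t (G_c t (G_b t (G_a t (G_k t (G_l t (G_d t (G_e t (G_f t (G_g t (G_j t (G_d t (G_h t (G_i t (G_d t (G_c t (G_b t (G_a t (G_k t (G_l t (G_d t (G_e t (G_f t (G_g t (G_j t (G_d t (G_h t (G_i t (G_d t (G_c t (G_b t (G_a t (G_k t (G_l t (G_d t (G_e t (G_f t (G_g t (G_j t (G_d t (G_h t (G_i t (G_d t (G_c t (G_b t (G_a t (G_k t (G_l t (G_d t (G_e t (G_f t (G_g t (G_j t (G_d t (G_h t (G_i t (G_d t (G_c t (G_b t (G_a t (G_k t (G_l t (G_d t (G_e t (G_f t (G_g t (G_j t (G_d t (G_h t (G_i t (G_d t (G_c t (G_b t (G_a t (G_k t (G_l t (G_d t (G_e t (G_f t (G_g t (G_j t (G_d t (G_h t (G_i t (G_d t (G_c t (G_b t (G_a t (G_k t (G_l t (G_d t (G_e t (G_f t (G_g t (G_j t (G_d t (G_h t (G_i t (G_d t (G_c t (G_b t (G_a t (G_k t (G_l t (G_d t (G_e t (G_f t (G_g t (G_j t (G_d t (G_h t (G_i t (G_d t (F_c q))))))))))))))))))))))))))))))))))))))))))))))))))))))))))))))))))))))))))))))))))))))))))))))))))))))))))))))))))))))))))))))))))))))))))))))))))))))))))))))))))))))))))))))))))))))))))))))))))))))))))))))))))))))))))))))))))))))))))))))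 q
noncomputable def a_73 : CfsgLib.TC.AG Col := .word .c 79 12 true [Col.d, Col.i, Col.h, Col.d, Col.j, Col.g, Col.f, Col.e, Col.d, Col.l, Col.k, Col.a, Col.b, Col.c, Col.d, Col.i, Col.h, Col.d, Col.j, Col.g, Col.f, Col.e, Col.d, Col.l, Col.k, Col.a, Col.b, Col.c, Col.d, Col.i, Col.h, Col.d, Col.j, Col.g, Col.f, Col.e, Col.d, Col.l, Col.k, Col.a, Col.b, Col.c, Col.d, Col.i, Col.h, Col.d, Col.j, Col.g, Col.f, Col.e, Col.d, Col.l, Col.k, Col.a, Col.b, Col.c, Col.d, Col.i, Col.h, Col.d, Col.j, Col.g, Col.f, Col.e, Col.d, Col.l, Col.k, Col.a, Col.b, Col.c, Col.d, Col.i, Col.h, Col.d, Col.j, Col.g, Col.f, Col.e, Col.d, Col.l, Col.k, Col.a, Col.b, Col.c, Col.d, Col.i, Col.h, Col.d, Col.j, Col.g, Col.f, Col.e, Col.d, Col.l, Col.k, Col.a, Col.b, Col.c, Col.d, Col.i, Col.h, Col.d, Col.j, Col.g, Col.f, Col.e, Col.d, Col.l, Col.k, Col.a, Col.b, Col.c, Col.d, Col.i, Col.h, Col.d, Col.j, Col.g, Col.f,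 Col.e, Col.d, Col.l, Col.k, Col.a, Col.b, Col.c, Col.d, Col.i, Col.h, Col.d, Col.j, Col.g, Col.f, Col.e, Col.d, Col.l, Col.k, Col.a, Col.b, Col.c, Col.d, Col.i, Col.h, Col.d, Col.j, Col.g, Col.f, Col.e, Col.d, Col.l, Col.k, Col.a, Col.b, Col.c, Col.d, Col.i, Col.h, Col.d, Col.j, Col.g, Col.f, Col.e, Col.d, Col.l, Col.k, Col.a, Col.b, Col.c, Col.d, Col.i, Col.h, Col.d, Col.j, Col.g, Col.f, Col.e, Col.d, Col.l, Col.k, Col.a, Col.b, Col.c, Col.d, Col.i, Col.h, Col.d, Col.j, Col.g, Col.f, Col.e, Col.d, Col.l, Col.k, Col.a, Col.b, Col.c, Col.d, Col.i, Col.h, Col.d, Col.j, Col.g, Col.f, Col.e, Col.d, Col.l, Col.k, Col.a, Col.b, Col.c, Col.d, Col.i, Col.h, Col.d, Col.j, Col.g, Col.f, Col.e, Col.d, Col.l, Col.k, Col.a, Col.b, Col.c, Col.d, Col.i, Col.h, Col.d, Col.j, Col.g, Col.f, Col.e, Col.d, Col.l, Col.k, Col.a, Col.b]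
noncomputable def D_c (q : ℕ) : Bool := (Bool.rec (motive := fun _ => Bool) (Bool.rec (motive := fun _ => Bool) (E_56 (UU_c q) q) (E_57 (UU_c q) q) (Nat.ble (nat_lit 1) (VV_c q))) (Bool.rec (motive := fun _ => Bool) (Bool.rec (motive := fun _ => Bool) (Bool.rec (motive := fun _ => Bool) (Bool.rec (motive := fun _ => Bool) (E_58 (UU_c q) q) (E_59 (UU_c q) q) (Nat.ble (nat_lit 3) (VV_c q))) (Bool.rec (motive := fun _ => Bool) (E_60 (UU_c q) q) (E_61 (UU_c q) q) (Nat.ble (nat_lit 5) (VV_c q))) (Nat.ble (nat_lit 4) (VV_c q))) (Bool.rec (motive := fun _ => Bool) (Bool.rec (motive := fun _ => Bool) (E_62 (UU_c q) q) (E_63 (UU_c q) q) (Nat.ble (nat_lit 7) (VV_c q))) (Bool.rec (motive := fun _ => Bool) (E_64 (UU_c q) q) (E_65 (UU_c q) q) (Nat.ble (nat_lit 9) (VV_c q))) (Nat.ble (nat_lit 8) (VV_c q))) (Nat.ble (nat_lit 6) (VV_c q))) (Bool.rec (motive := fun _ => Bool) (Bool.rec (motive := fun _ =>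 Bool) (Bool.rec (motive := fun _ => Bool) (E_66 (UU_c q) q) (E_67 (UU_c q) q) (Nat.ble (nat_lit 11) (VV_c q))) (Bool.rec (motive := fun _ => Bool) (E_68 (UU_c q) q) (E_69 (UU_c q) q) (Nat.ble (nat_lit 13) (VV_c q))) (Nat.ble (nat_lit 12) (VV_c q))) (Bool.rec (motive := fun _ => Bool) (Bool.rec (motive := fun _ => Bool) (E_70 (UU_c q) q) (E_71 (UU_c q) q) (Nat.ble (nat_lit 15) (VV_c q))) (Bool.rec (motive := fun _ => Bool) (E_72 (UU_c q) q) (E_73 (UU_c q) q) (Nat.ble (nat_lit 17) (VV_c q))) (Nat.ble (nat_lit 16) (VV_c q))) (Nat.ble (nat_lit 14) (VV_c q))) (Nat.ble (nat_lit 10) (VV_c q))) (Nat.ble (nat_lit 2) (VV_c q)))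
noncomputable def E_74 (t q : ℕ) : Bool := Nat.beq (G_d t (F_d q)) q
noncomputable def a_74 : CfsgLib.TC.AG Col := .word .d 50 0 true [Col.d]
noncomputable def E_75 (t q : ℕ) : Bool := Nat.beq (G_l t (G_d t (G_l t (F_d q)))) q
noncomputable def a_75 : CfsgLib.TC.AG Col := .word .d 5 0 true [Col.l, Col.d, Col.l]
noncomputable def E_76 (t q : ℕ) : Bool := band (Nat.beq (PT (F_d q)) q) (band (Nat.beq (DT (F_d q)) 5) (band (Nat.ble (Nat.succ q) (F_d q)) (Nat.ble (Nat.succ q0) (F_d q))))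
noncomputable def a_76 : CfsgLib.TC.AG Col := .tree .d
noncomputable def E_77 (t q : ℕ) : Bool := Nat.beq (G_k t (G_d t (G_k t (F_d q)))) q
noncomputable def a_77 : CfsgLib.TC.AG Col := .word .d 16 0 true [Col.k, Col.d, Col.k]
noncomputable def E_78 (t q : ℕ) : Bool := Nat.beq (G_a t (G_d t (G_a t (F_d q)))) q
noncomputable def a_78 : CfsgLib.TC.AG Col := .word .d 26 0 true [Col.a, Col.d, Col.a]
noncomputable def E_79 (t q : ℕ) : Bool := Nat.beq (G_b t (G_d t (G_b t (F_d q)))) q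
noncomputable def a_79 : CfsgLib.TC.AG Col := .word .d 35 0 true [Col.b, Col.d, Col.b]
noncomputable def E_80 (t q : ℕ) : Bool := Nat.beq (G_i t (G_d t (G_i t (F_d q)))) q
noncomputable def a_80 : CfsgLib.TC.AG Col := .word .d 56 1 true [Col.i, Col.d, Col.i]
noncomputable def E_81 (t q : ℕ) : Bool := Nat.beq (G_f t (G_d t (G_f t (F_d q)))) q
noncomputable def a_81 : CfsgLib.TC.AG Col := .word .d 52 1 true [Col.f, Col.d, Col.f]
noncomputable def E_82 (t q : ℕ) : Bool := Nat.beq (G_g t (G_d t (G_g t (F_d q)))) q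
noncomputable def a_82 : CfsgLib.TC.AG Col := .word .d 53 1 true [Col.g, Col.d, Col.g]
noncomputable def E_83 (t q : ℕ) : Bool := Nat.beq (G_j t (G_d t (G_j t (F_d q)))) q
noncomputable def a_83 : CfsgLib.TC.AG Col := .word .d 54 1 true [Col.j, Col.d, Col.j]
noncomputable def E_84 (t q : ℕ) : Bool := Nat.beq (G_c t (G_d t (G_c t (G_d t (G_c t (F_d q)))))) q
noncomputable def a_84 : CfsgLib.TC.AG Col := .word .d 43 0 true [Col.c, Col.d, Col.c, Col.d, Col.c]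
noncomputable def E_85 (t q : ℕ) : Bool := Nat.beq (G_e t (G_d t (G_e t (G_d t (G_e t (F_d q)))))) q
noncomputable def a_85 : CfsgLib.TC.AG Col := .word .d 51 1 true [Col.e, Col.d, Col.e, Col.d, Col.e]
noncomputable def E_86 (t q : ℕ) : Bool := Nat.beq (G_h t (G_d t (G_h t (G_d t (G_h t (F_d q)))))) q
noncomputable def a_86 : CfsgLib.TC.AG Col := .word .d 55 1 true [Col.h, Col.d, Col.h, Col.d, Col.h]
noncomputable def E_87 (t q : ℕ) : Bool := band (Nat.beq q0 q) (Nat.beq (F_d q) q0)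
noncomputable def a_87 : CfsgLib.TC.AG Col := .base .d 3 [] []
noncomputable def D_d (q : ℕ) : Bool := (Bool.rec (motive := fun _ => Bool) (Bool.rec (motive := fun _ => Bool) (E_74 (UU_d q) q) (E_75 (UU_d q) q) (Nat.ble (nat_lit 1) (VV_d q))) (Bool.rec (motive := fun _ => Bool) (Bool.rec (motive := fun _ => Bool) (Bool.rec (motive := fun _ => Bool) (E_76 (UU_d q) q) (Bool.rec (motive := fun _ => Bool) (E_77 (UU_d q) q) (E_78 (UU_d q) q) (Nat.ble (nat_lit 4) (VV_d q))) (Nat.ble (nat_lit 3) (VV_d q))) (Bool.rec (motive := fun _ => Bool) (E_79 (UU_d q) q) (Bool.rec (motive := fun _ => Bool) (E_80 (UU_d q) q) (E_81 (UU_d q) q) (Nat.ble (nat_lit 7) (VV_d q))) (Nat.ble (nat_lit 6) (VV_d q))) (Nat.ble (nat_lit 5) (VV_d q))) (Bool.rec (motive := fun _ => Bool) (Bool.rec (motive := fun _ => Bool) (E_82 (UU_d q) q) (Bool.rec (motive := fun _ => Bool) (E_83 (UU_d q) q) (E_84 (UU_d q) q) (Nat.ble (nat_lit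 10) (VV_d q))) (Nat.ble (nat_lit 9) (VV_d q))) (Bool.rec (motive := fun _ => Bool) (E_85 (UU_d q) q) (Bool.rec (motive := fun _ => Bool) (E_86 (UU_d q) q) (E_87 (UU_d q) q) (Nat.ble (nat_lit 13) (VV_d q))) (Nat.ble (nat_lit 12) (VV_d q))) (Nat.ble (nat_lit 11) (VV_d q))) (Nat.ble (nat_lit 8) (VV_d q))) (Nat.ble (nat_lit 2) (VV_d q)))
noncomputable def E_88 (t q : ℕ) : Bool := Nat.beq (G_e t (F_e q)) q
noncomputable def a_88 : CfsgLib.TC.AG Col := .word .e 57 0 true [Col.e]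
noncomputable def E_89 (t q : ℕ) : Bool := Nat.beq (G_l t (G_e t (G_l t (F_e q)))) q
noncomputable def a_89 : CfsgLib.TC.AG Col := .word .e 6 0 true [Col.l, Col.e, Col.l]
noncomputable def E_90 (t q : ℕ) : Bool := band (Nat.beq (PT (F_e q)) q) (band (Nat.beq (DT (F_e q)) 6) (band (Nat.ble (Nat.succ q) (F_e q)) (Nat.ble (Nat.succ q0) (F_e q))))
noncomputable def a_90 : CfsgLib.TC.AG Col := .tree .e
noncomputable def E_91 (t q : ℕ) : Bool := Nat.beq (G_k t (G_e t (G_k t (F_e q)))) q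
noncomputable def a_91 : CfsgLib.TC.AG Col := .word .e 17 0 true [Col.k, Col.e, Col.k]
noncomputable def E_92 (t q : ℕ) : Bool := Nat.beq (G_a t (G_e t (G_a t (F_e q)))) q
noncomputable def a_92 : CfsgLib.TC.AG Col := .word .e 27 0 true [Col.a, Col.e, Col.a]
noncomputable def E_93 (t q : ℕ) : Bool := Nat.beq (G_b t (G_e t (G_b t (F_e q)))) q
noncomputable def a_93 : CfsgLib.TC.AG Col := .word .e 36 0 true [Col.b, Col.e, Col.b]
noncomputable def E_94 (t q : ℕ) : Bool := Nat.beq (G_c t (G_e t (G_c t (F_e q)))) q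
noncomputable def a_94 : CfsgLib.TC.AG Col := .word .e 44 0 true [Col.c, Col.e, Col.c]
noncomputable def E_95 (t q : ℕ) : Bool := Nat.beq (G_h t (G_e t (G_h t (F_e q)))) q
noncomputable def a_95 : CfsgLib.TC.AG Col := .word .e 61 1 true [Col.h, Col.e, Col.h]
noncomputable def E_96 (t q : ℕ) : Bool := Nat.beq (G_i t (G_e t (G_i t (F_e q)))) q
noncomputable def a_96 : CfsgLib.TC.AG Col := .word .e 62 1 true [Col.i, Col.e, Col.i]
noncomputable def E_97 (t q : ℕ) : Bool := Nat.beq (G_g t (G_e t (G_g t (F_e q)))) q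
noncomputable def a_97 : CfsgLib.TC.AG Col := .word .e 59 1 true [Col.g, Col.e, Col.g]
noncomputable def E_98 (t q : ℕ) : Bool := Nat.beq (G_j t (G_e t (G_j t (F_e q)))) q
noncomputable def a_98 : CfsgLib.TC.AG Col := .word .e 60 1 true [Col.j, Col.e, Col.j]
noncomputable def E_99 (t q : ℕ) : Bool := Nat.beq (G_d t (G_e t (G_d t (G_e t (G_d t (F_e q)))))) q
noncomputable def a_99 : CfsgLib.TC.AG Col := .word .e 51 0 true [Col.d, Col.e, Col.d, Col.e, Col.d]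
noncomputable def E_100 (t q : ℕ) : Bool := Nat.beq (G_f t (G_e t (G_f t (G_e t (G_f t (F_e q)))))) q
noncomputable def a_100 : CfsgLib.TC.AG Col := .word .e 58 1 true [Col.f, Col.e, Col.f, Col.e, Col.f]
noncomputable def E_101 (t q : ℕ) : Bool := band (Nat.beq q0 q) (Nat.beq (F_e q) q0)
noncomputable def a_101 : CfsgLib.TC.AG Col := .base .e 4 [] []
noncomputable def E_102 (t q : ℕ) : Bool := Nat.beq (G_d t (G_c t (G_b t (G_a t (G_l t (G_h t (G_f t (G_e t (G_d t (G_c t (G_b t (G_a t (G_h t (G_f t (G_e t (G_d t (G_c t (G_b t (G_a t (G_h t (G_f t (G_e t (G_d t (G_c t (G_b t (G_a t (G_h t (G_f t (G_e t (G_d t (G_c t (G_b t (G_a t (G_h t (G_f t (G_e t (G_d t (G_c t (G_b t (G_a t (G_h t (G_f t (G_e t (G_d t (G_c t (G_b t (G_a t (G_h t (G_f t (G_e t (G_d t (G_c t (G_b t (G_a t (G_h t (G_f t (G_e t (G_d t (G_c t (G_b t (G_a t (G_h t (G_f t (F_e q))))))))))))))))))))))))))))))))))))))))))))))))))))))))))))))))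 q
noncomputable def a_102 : CfsgLib.TC.AG Col := .word .e 78 4 true [Col.f, Col.h, Col.a, Col.b, Col.c, Col.d, Col.e, Col.f, Col.h, Col.a, Col.b, Col.c, Col.d, Col.e, Col.f, Col.h, Col.a, Col.b, Col.c, Col.d, Col.e, Col.f, Col.h, Col.a, Col.b, Col.c, Col.d, Col.e, Col.f, Col.h, Col.a, Col.b, Col.c, Col.d, Col.e, Col.f, Col.h, Col.a, Col.b, Col.c, Col.d, Col.e, Col.f, Col.h, Col.a, Col.b, Col.c, Col.d, Col.e, Col.f, Col.h, Col.a, Col.b, Col.c, Col.d, Col.e, Col.f, Col.h, Col.l, Col.a, Col.b, Col.c, Col.d]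
noncomputable def E_103 (t q : ℕ) : Bool := Nat.beq (G_f t (G_h t (G_l t (G_a t (G_b t (G_c t (G_d t (G_e t (G_f t (G_h t (G_a t (G_b t (G_c t (G_d t (G_e t (G_f t (G_h t (G_a t (G_b t (G_c t (G_d t (G_e t (G_f t (G_h t (G_a t (G_b t (G_c t (G_d t (G_e t (G_f t (G_h t (G_a t (G_b t (G_c t (G_d t (G_e t (G_f t (G_h t (G_a t (G_b t (G_c t (G_d t (G_e t (G_f t (G_h t (G_a t (G_b t (G_c t (G_d t (G_e t (G_f t (G_h t (G_a t (G_b t (G_c t (G_d t (G_e t (G_f t (G_h t (G_a t (G_b t (G_c t (G_d t (F_e q)))))))))))))))))))))))))))))))))))))))))))))))))))))))))))))))) q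
noncomputable def a_103 : CfsgLib.TC.AG Col := .word .e 78 3 false [Col.d, Col.c, Col.b, Col.a, Col.h, Col.f, Col.e, Col.d, Col.c, Col.b, Col.a, Col.h, Col.f, Col.e, Col.d, Col.c, Col.b, Col.a, Col.h, Col.f, Col.e, Col.d, Col.c, Col.b, Col.a, Col.h, Col.f, Col.e, Col.d, Col.c, Col.b, Col.a, Col.h, Col.f, Col.e, Col.d, Col.c, Col.b, Col.a, Col.h, Col.f, Col.e, Col.d, Col.c, Col.b, Col.a, Col.h, Col.f, Col.e, Col.d, Col.c, Col.b, Col.a, Col.h, Col.f, Col.e, Col.d, Col.c, Col.b, Col.a, Col.l, Col.h, Col.f]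
noncomputable def D_e (q : ℕ) : Bool := (Bool.rec (motive := fun _ => Bool) (Bool.rec (motive := fun _ => Bool) (E_88 (UU_e q) q) (E_89 (UU_e q) q) (Nat.ble (nat_lit 1) (VV_e q))) (Bool.rec (motive := fun _ => Bool) (Bool.rec (motive := fun _ => Bool) (Bool.rec (motive := fun _ => Bool) (E_90 (UU_e q) q) (Bool.rec (motive := fun _ => Bool) (E_91 (UU_e q) q) (E_92 (UU_e q) q) (Nat.ble (nat_lit 4) (VV_e q))) (Nat.ble (nat_lit 3) (VV_e q))) (Bool.rec (motive := fun _ => Bool) (Bool.rec (motive := fun _ => Bool) (E_93 (UU_e q) q) (E_94 (UU_e q) q) (Nat.ble (nat_lit 6) (VV_e q))) (Bool.rec (motive := fun _ => Bool) (E_95 (UU_e q) q) (E_96 (UU_e q) q) (Nat.ble (nat_lit 8) (VV_e q))) (Nat.ble (nat_lit 7) (VV_e q))) (Nat.ble (nat_lit 5) (VV_e q))) (Bool.rec (motive := fun _ => Bool) (Bool.rec (motive := fun _ => Bool) (E_97 (UU_e q) q) (Bool.rec (motive := fun _ => Bool) (E_98 (UU_e q) q) (E_99 (UU_e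 q) q) (Nat.ble (nat_lit 11) (VV_e q))) (Nat.ble (nat_lit 10) (VV_e q))) (Bool.rec (motive := fun _ => Bool) (Bool.rec (motive := fun _ => Bool) (E_100 (UU_e q) q) (E_101 (UU_e q) q) (Nat.ble (nat_lit 13) (VV_e q))) (Bool.rec (motive := fun _ => Bool) (E_102 (UU_e q) q) (E_103 (UU_e q) q) (Nat.ble (nat_lit 15) (VV_e q))) (Nat.ble (nat_lit 14) (VV_e q))) (Nat.ble (nat_lit 12) (VV_e q))) (Nat.ble (nat_lit 9) (VV_e q))) (Nat.ble (nat_lit 2) (VV_e q)))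
noncomputable def E_104 (t q : ℕ) : Bool := Nat.beq (G_f t (F_f q)) q
noncomputable def a_104 : CfsgLib.TC.AG Col := .word .f 63 0 true [Col.f]
noncomputable def E_105 (t q : ℕ) : Bool := Nat.beq (G_l t (G_f t (G_l t (F_f q)))) q
noncomputable def a_105 : CfsgLib.TC.AG Col := .word .f 7 0 true [Col.l, Col.f, Col.l]
noncomputable def E_106 (t q : ℕ) : Bool := Nat.beq (G_k t (G_f t (G_k t (F_f q)))) q
noncomputable def a_106 : CfsgLib.TC.AG Col := .word .f 18 0 true [Col.k, Col.f, Col.k]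
noncomputable def E_107 (t q : ℕ) : Bool := band (Nat.beq (PT (F_f q)) q) (band (Nat.beq (DT (F_f q)) 7) (band (Nat.ble (Nat.succ q) (F_f q)) (Nat.ble (Nat.succ q0) (F_f q))))
noncomputable def a_107 : CfsgLib.TC.AG Col := .tree .f
noncomputable def E_108 (t q : ℕ) : Bool := Nat.beq (G_a t (G_f t (G_a t (F_f q)))) q
noncomputable def a_108 : CfsgLib.TC.AG Col := .word .f 28 0 true [Col.a, Col.f, Col.a]
noncomputable def E_109 (t q : ℕ) : Bool := Nat.beq (G_b t (G_f t (G_b t (F_f q)))) q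
noncomputable def a_109 : CfsgLib.TC.AG Col := .word .f 37 0 true [Col.b, Col.f, Col.b]
noncomputable def E_110 (t q : ℕ) : Bool := Nat.beq (G_c t (G_f t (G_c t (F_f q)))) q
noncomputable def a_110 : CfsgLib.TC.AG Col := .word .f 45 0 true [Col.c, Col.f, Col.c]
noncomputable def E_111 (t q : ℕ) : Bool := Nat.beq (G_d t (G_f t (G_d t (F_f q)))) q
noncomputable def a_111 : CfsgLib.TC.AG Col := .word .f 52 0 true [Col.d, Col.f, Col.d]
noncomputable def E_112 (t q : ℕ) : Bool := Nat.beq (G_h t (G_f t (G_h t (F_f q)))) q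
noncomputable def a_112 : CfsgLib.TC.AG Col := .word .f 66 1 true [Col.h, Col.f, Col.h]
noncomputable def E_113 (t q : ℕ) : Bool := Nat.beq (G_i t (G_f t (G_i t (F_f q)))) q
noncomputable def a_113 : CfsgLib.TC.AG Col := .word .f 67 1 true [Col.i, Col.f, Col.i]
noncomputable def E_114 (t q : ℕ) : Bool := Nat.beq (G_j t (G_f t (G_j t (F_f q)))) q
noncomputable def a_114 : CfsgLib.TC.AG Col := .word .f 65 1 true [Col.j, Col.f, Col.j]
noncomputable def E_115 (t q : ℕ) : Bool := Nat.beq (G_e t (G_f t (G_e t (G_f t (G_e t (F_f q)))))) q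
noncomputable def a_115 : CfsgLib.TC.AG Col := .word .f 58 0 true [Col.e, Col.f, Col.e, Col.f, Col.e]
noncomputable def E_116 (t q : ℕ) : Bool := Nat.beq (G_g t (G_f t (G_g t (G_f t (G_g t (F_f q)))))) q
noncomputable def a_116 : CfsgLib.TC.AG Col := .word .f 64 1 true [Col.g, Col.f, Col.g, Col.f, Col.g]
noncomputable def E_117 (t q : ℕ) : Bool := band (Nat.beq q0 q) (Nat.beq (F_f q) q0)
noncomputable def a_117 : CfsgLib.TC.AG Col := .base .f 5 [] []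
noncomputable def D_f (q : ℕ) : Bool := (Bool.rec (motive := fun _ => Bool) (Bool.rec (motive := fun _ => Bool) (E_104 (UU_f q) q) (E_105 (UU_f q) q) (Nat.ble (nat_lit 1) (VV_f q))) (Bool.rec (motive := fun _ => Bool) (Bool.rec (motive := fun _ => Bool) (Bool.rec (motive := fun _ => Bool) (E_106 (UU_f q) q) (Bool.rec (motive := fun _ => Bool) (E_107 (UU_f q) q) (E_108 (UU_f q) q) (Nat.ble (nat_lit 4) (VV_f q))) (Nat.ble (nat_lit 3) (VV_f q))) (Bool.rec (motive := fun _ => Bool) (E_109 (UU_f q) q) (Bool.rec (motive := fun _ => Bool) (E_110 (UU_f q) q) (E_111 (UU_f q) q) (Nat.ble (nat_lit 7) (VV_f q))) (Nat.ble (nat_lit 6) (VV_f q))) (Nat.ble (nat_lit 5) (VV_f q))) (Bool.rec (motive := fun _ => Bool) (Bool.rec (motive := fun _ => Bool) (E_112 (UU_f q) q) (Bool.rec (motive := fun _ => Bool) (E_113 (UU_f q) q) (E_114 (UU_f q) q) (Nat.ble (nat_lit 10) (VV_f q))) (Nat.ble (nat_lit 9) (VV_f q)))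 (Bool.rec (motive := fun _ => Bool) (E_115 (UU_f q) q) (Bool.rec (motive := fun _ => Bool) (E_116 (UU_f q) q) (E_117 (UU_f q) q) (Nat.ble (nat_lit 13) (VV_f q))) (Nat.ble (nat_lit 12) (VV_f q))) (Nat.ble (nat_lit 11) (VV_f q))) (Nat.ble (nat_lit 8) (VV_f q))) (Nat.ble (nat_lit 2) (VV_f q)))
noncomputable def E_118 (t q : ℕ) : Bool := Nat.beq (G_g t (F_g q)) q
noncomputable def a_118 : CfsgLib.TC.AG Col := .word .g 68 0 true [Col.g]
noncomputable def E_119 (t q : ℕ) : Bool := Nat.beq (G_l t (G_g t (G_l t (F_g q)))) q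
noncomputable def a_119 : CfsgLib.TC.AG Col := .word .g 8 0 true [Col.l, Col.g, Col.l]
noncomputable def E_120 (t q : ℕ) : Bool := Nat.beq (G_k t (G_g t (G_k t (F_g q)))) q
noncomputable def a_120 : CfsgLib.TC.AG Col := .word .g 19 0 true [Col.k, Col.g, Col.k]
noncomputable def E_121 (t q : ℕ) : Bool := Nat.beq (G_a t (G_g t (G_a t (F_g q)))) q
noncomputable def a_121 : CfsgLib.TC.AG Col := .word .g 29 0 true [Col.a, Col.g, Col.a]
noncomputable def E_122 (t q : ℕ) : Bool := band (Nat.beq (PT (F_g q)) q) (band (Nat.beq (DT (F_g q)) 8) (band (Nat.ble (Nat.succ q) (F_g q)) (Nat.ble (Nat.succ q0) (F_g q))))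
noncomputable def a_122 : CfsgLib.TC.AG Col := .tree .g
noncomputable def E_123 (t q : ℕ) : Bool := Nat.beq (G_b t (G_g t (G_b t (F_g q)))) q
noncomputable def a_123 : CfsgLib.TC.AG Col := .word .g 38 0 true [Col.b, Col.g, Col.b]
noncomputable def E_124 (t q : ℕ) : Bool := Nat.beq (G_c t (G_g t (G_c t (F_g q)))) q
noncomputable def a_124 : CfsgLib.TC.AG Col := .word .g 46 0 true [Col.c, Col.g, Col.c]
noncomputable def E_125 (t q : ℕ) : Bool := Nat.beq (G_d t (G_g t (G_d t (F_g q)))) q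
noncomputable def a_125 : CfsgLib.TC.AG Col := .word .g 53 0 true [Col.d, Col.g, Col.d]
noncomputable def E_126 (t q : ℕ) : Bool := Nat.beq (G_e t (G_g t (G_e t (F_g q)))) q
noncomputable def a_126 : CfsgLib.TC.AG Col := .word .g 59 0 true [Col.e, Col.g, Col.e]
noncomputable def E_127 (t q : ℕ) : Bool := Nat.beq (G_h t (G_g t (G_h t (F_g q)))) q
noncomputable def a_127 : CfsgLib.TC.AG Col := .word .g 70 1 true [Col.h, Col.g, Col.h]
noncomputable def E_128 (t q : ℕ) : Bool := Nat.beq (G_i t (G_g t (G_i t (F_g q)))) q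
noncomputable def a_128 : CfsgLib.TC.AG Col := .word .g 71 1 true [Col.i, Col.g, Col.i]
noncomputable def E_129 (t q : ℕ) : Bool := Nat.beq (G_f t (G_g t (G_f t (G_g t (G_f t (F_g q)))))) q
noncomputable def a_129 : CfsgLib.TC.AG Col := .word .g 64 0 true [Col.f, Col.g, Col.f, Col.g, Col.f]
noncomputable def E_130 (t q : ℕ) : Bool := Nat.beq (G_j t (G_g t (G_j t (G_g t (G_j t (F_g q)))))) q
noncomputable def a_130 : CfsgLib.TC.AG Col := .word .g 69 1 true [Col.j, Col.g, Col.j, Col.g, Col.j]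
noncomputable def E_131 (t q : ℕ) : Bool := band (Nat.beq q0 q) (Nat.beq (F_g q) q0)
noncomputable def a_131 : CfsgLib.TC.AG Col := .base .g 6 [] []
noncomputable def D_g (q : ℕ) : Bool := (Bool.rec (motive := fun _ => Bool) (Bool.rec (motive := fun _ => Bool) (E_118 (UU_g q) q) (E_119 (UU_g q) q) (Nat.ble (nat_lit 1) (VV_g q))) (Bool.rec (motive := fun _ => Bool) (Bool.rec (motive := fun _ => Bool) (Bool.rec (motive := fun _ => Bool) (E_120 (UU_g q) q) (Bool.rec (motive := fun _ => Bool) (E_121 (UU_g q) q) (E_122 (UU_g q) q) (Nat.ble (nat_lit 4) (VV_g q))) (Nat.ble (nat_lit 3) (VV_g q))) (Bool.rec (motive := fun _ => Bool) (E_123 (UU_g q) q) (Bool.rec (motive := fun _ => Bool) (E_124 (UU_g q) q) (E_125 (UU_g q) q) (Nat.ble (nat_lit 7) (VV_g q))) (Nat.ble (nat_lit 6) (VV_g q))) (Nat.ble (nat_lit 5) (VV_g q))) (Bool.rec (motive := fun _ => Bool) (Bool.rec (motive := fun _ => Bool) (E_126 (UU_g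 q) q) (Bool.rec (motive := fun _ => Bool) (E_127 (UU_g q) q) (E_128 (UU_g q) q) (Nat.ble (nat_lit 10) (VV_g q))) (Nat.ble (nat_lit 9) (VV_g q))) (Bool.rec (motive := fun _ => Bool) (E_129 (UU_g q) q) (Bool.rec (motive := fun _ => Bool) (E_130 (UU_g q) q) (E_131 (UU_g q) q) (Nat.ble (nat_lit 13) (VV_g q))) (Nat.ble (nat_lit 12) (VV_g q))) (Nat.ble (nat_lit 11) (VV_g q))) (Nat.ble (nat_lit 8) (VV_g q))) (Nat.ble (nat_lit 2) (VV_g q)))
noncomputable def E_132 (t q : ℕ) : Bool := Nat.beq (G_j t (F_j q)) q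
noncomputable def a_132 : CfsgLib.TC.AG Col := .word .j 72 0 true [Col.j]
noncomputable def E_133 (t q : ℕ) : Bool := Nat.beq (G_l t (G_j t (G_l t (F_j q)))) q
noncomputable def a_133 : CfsgLib.TC.AG Col := .word .j 9 0 true [Col.l, Col.j, Col.l]
noncomputable def E_134 (t q : ℕ) : Bool := Nat.beq (G_k t (G_j t (G_k t (F_j q)))) q
noncomputable def a_134 : CfsgLib.TC.AG Col := .word .j 20 0 true [Col.k, Col.j, Col.k]
noncomputable def E_135 (t q : ℕ) : Bool := Nat.beq (G_a t (G_j t (G_a t (F_j q)))) q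
noncomputable def a_135 : CfsgLib.TC.AG Col := .word .j 30 0 true [Col.a, Col.j, Col.a]
noncomputable def E_136 (t q : ℕ) : Bool := Nat.beq (G_b t (G_j t (G_b t (F_j q)))) q
noncomputable def a_136 : CfsgLib.TC.AG Col := .word .j 39 0 true [Col.b, Col.j, Col.b]
noncomputable def E_137 (t q : ℕ) : Bool := band (Nat.beq (PT (F_j q)) q) (band (Nat.beq (DT (F_j q)) 9) (band (Nat.ble (Nat.succ q) (F_j q)) (Nat.ble (Nat.succ q0) (F_j q))))
noncomputable def a_137 : CfsgLib.TC.AG Col := .tree .j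
noncomputable def E_138 (t q : ℕ) : Bool := Nat.beq (G_c t (G_j t (G_c t (F_j q)))) q
noncomputable def a_138 : CfsgLib.TC.AG Col := .word .j 47 0 true [Col.c, Col.j, Col.c]
noncomputable def E_139 (t q : ℕ) : Bool := Nat.beq (G_d t (G_j t (G_d t (F_j q)))) q
noncomputable def a_139 : CfsgLib.TC.AG Col := .word .j 54 0 true [Col.d, Col.j, Col.d]
noncomputable def E_140 (t q : ℕ) : Bool := Nat.beq (G_e t (G_j t (G_e t (F_j q)))) q
noncomputable def a_140 : CfsgLib.TC.AG Col := .word .j 60 0 true [Col.e, Col.j, Col.e]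
noncomputable def E_141 (t q : ℕ) : Bool := Nat.beq (G_f t (G_j t (G_f t (F_j q)))) q
noncomputable def a_141 : CfsgLib.TC.AG Col := .word .j 65 0 true [Col.f, Col.j, Col.f]
noncomputable def E_142 (t q : ℕ) : Bool := Nat.beq (G_h t (G_j t (G_h t (F_j q)))) q
noncomputable def a_142 : CfsgLib.TC.AG Col := .word .j 73 1 true [Col.h, Col.j, Col.h]
noncomputable def E_143 (t q : ℕ) : Bool := Nat.beq (G_i t (G_j t (G_i t (F_j q)))) q
noncomputable def a_143 : CfsgLib.TC.AG Col := .word .j 74 1 true [Col.i, Col.j, Col.i]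
noncomputable def E_144 (t q : ℕ) : Bool := Nat.beq (G_g t (G_j t (G_g t (G_j t (G_g t (F_j q)))))) q
noncomputable def a_144 : CfsgLib.TC.AG Col := .word .j 69 0 true [Col.g, Col.j, Col.g, Col.j, Col.g]
noncomputable def E_145 (t q : ℕ) : Bool := band (Nat.beq q0 q) (Nat.beq (F_j q) q0)
noncomputable def a_145 : CfsgLib.TC.AG Col := .base .j 9 [] []
noncomputable def D_j (q : ℕ) : Bool := (Bool.rec (motive := fun _ => Bool) (Bool.rec (motive := fun _ => Bool) (E_132 (UU_j q) q) (E_133 (UU_j q) q) (Nat.ble (nat_lit 1) (VV_j q))) (Bool.rec (motive := fun _ => Bool) (Bool.rec (motive := fun _ => Bool) (Bool.rec (motive := fun _ => Bool) (E_134 (UU_j q) q) (Bool.rec (motive := fun _ => Bool) (E_135 (UU_j q) q) (E_136 (UU_j q) q) (Nat.ble (nat_lit 4) (VV_j q))) (Nat.ble (nat_lit 3) (VV_j q))) (Bool.rec (motive := fun _ => Bool) (E_137 (UU_j q) q) (Bool.rec (motive := fun _ => Bool) (E_138 (UU_j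 q) q) (E_139 (UU_j q) q) (Nat.ble (nat_lit 7) (VV_j q))) (Nat.ble (nat_lit 6) (VV_j q))) (Nat.ble (nat_lit 5) (VV_j q))) (Bool.rec (motive := fun _ => Bool) (Bool.rec (motive := fun _ => Bool) (E_140 (UU_j q) q) (Bool.rec (motive := fun _ => Bool) (E_141 (UU_j q) q) (E_142 (UU_j q) q) (Nat.ble (nat_lit 10) (VV_j q))) (Nat.ble (nat_lit 9) (VV_j q))) (Bool.rec (motive := fun _ => Bool) (E_143 (UU_j q) q) (Bool.rec (motive := fun _ => Bool) (E_144 (UU_j q) q) (E_145 (UU_j q) q) (Nat.ble (nat_lit 13) (VV_j q))) (Nat.ble (nat_lit 12) (VV_j q))) (Nat.ble (nat_lit 11) (VV_j q))) (Nat.ble (nat_lit 8) (VV_j q))) (Nat.ble (nat_lit 2) (VV_j q)))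
noncomputable def E_146 (t q : ℕ) : Bool := Nat.beq (G_h t (F_h q)) q
noncomputable def a_146 : CfsgLib.TC.AG Col := .word .h 75 0 true [Col.h]
noncomputable def E_147 (t q : ℕ) : Bool := band (Nat.beq (PT (F_h q)) q) (band (Nat.beq (DT (F_h q)) 10) (band (Nat.ble (Nat.succ q) (F_h q)) (Nat.ble (Nat.succ q0) (F_h q))))
noncomputable def a_147 : CfsgLib.TC.AG Col := .tree .h
noncomputable def E_148 (t q : ℕ) : Bool := Nat.beq (G_l t (G_h t (G_l t (F_h q)))) q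
noncomputable def a_148 : CfsgLib.TC.AG Col := .word .h 10 0 true [Col.l, Col.h, Col.l]
noncomputable def E_149 (t q : ℕ) : Bool := Nat.beq (G_k t (G_h t (G_k t (F_h q)))) q
noncomputable def a_149 : CfsgLib.TC.AG Col := .word .h 21 0 true [Col.k, Col.h, Col.k]
noncomputable def E_150 (t q : ℕ) : Bool := Nat.beq (G_a t (G_h t (G_a t (F_h q)))) q
noncomputable def a_150 : CfsgLib.TC.AG Col := .word .h 31 0 true [Col.a, Col.h, Col.a]
noncomputable def E_151 (t q : ℕ) : Bool := Nat.beq (G_b t (G_h t (G_b t (F_h q)))) q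
noncomputable def a_151 : CfsgLib.TC.AG Col := .word .h 40 0 true [Col.b, Col.h, Col.b]
noncomputable def E_152 (t q : ℕ) : Bool := Nat.beq (G_c t (G_h t (G_c t (F_h q)))) q
noncomputable def a_152 : CfsgLib.TC.AG Col := .word .h 48 0 true [Col.c, Col.h, Col.c]
noncomputable def E_153 (t q : ℕ) : Bool := Nat.beq (G_e t (G_h t (G_e t (F_h q)))) q
noncomputable def a_153 : CfsgLib.TC.AG Col := .word .h 61 0 true [Col.e, Col.h, Col.e]
noncomputable def E_154 (t q : ℕ) : Bool := Nat.beq (G_f t (G_h t (G_f t (F_h q)))) q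
noncomputable def a_154 : CfsgLib.TC.AG Col := .word .h 66 0 true [Col.f, Col.h, Col.f]
noncomputable def E_155 (t q : ℕ) : Bool := Nat.beq (G_g t (G_h t (G_g t (F_h q)))) q
noncomputable def a_155 : CfsgLib.TC.AG Col := .word .h 70 0 true [Col.g, Col.h, Col.g]
noncomputable def E_156 (t q : ℕ) : Bool := Nat.beq (G_d t (G_h t (G_d t (G_h t (G_d t (F_h q)))))) q
noncomputable def a_156 : CfsgLib.TC.AG Col := .word .h 55 0 true [Col.d, Col.h, Col.d, Col.h, Col.d]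
noncomputable def E_157 (t q : ℕ) : Bool := Nat.beq (G_j t (G_h t (G_j t (F_h q)))) q
noncomputable def a_157 : CfsgLib.TC.AG Col := .word .h 73 0 true [Col.j, Col.h, Col.j]
noncomputable def E_158 (t q : ℕ) : Bool := Nat.beq (G_i t (G_h t (G_i t (G_h t (G_i t (F_h q)))))) q
noncomputable def a_158 : CfsgLib.TC.AG Col := .word .h 76 1 true [Col.i, Col.h, Col.i, Col.h, Col.i]
noncomputable def E_159 (t q : ℕ) : Bool := band (Nat.beq q0 q) (Nat.beq (F_h q) q0)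
noncomputable def a_159 : CfsgLib.TC.AG Col := .base .h 7 [] []
noncomputable def D_h (q : ℕ) : Bool := (Bool.rec (motive := fun _ => Bool) (Bool.rec (motive := fun _ => Bool) (E_146 (UU_h q) q) (E_147 (UU_h q) q) (Nat.ble (nat_lit 1) (VV_h q))) (Bool.rec (motive := fun _ => Bool) (Bool.rec (motive := fun _ => Bool) (Bool.rec (motive := fun _ => Bool) (E_148 (UU_h q) q) (Bool.rec (motive := fun _ => Bool) (E_149 (UU_h q) q) (E_150 (UU_h q) q) (Nat.ble (nat_lit 4) (VV_h q))) (Nat.ble (nat_lit 3) (VV_h q))) (Bool.rec (motive := fun _ => Bool) (E_151 (UU_h q) q) (Bool.rec (motive := fun _ => Bool) (E_152 (UU_h q) q) (E_153 (UU_h q) q) (Nat.ble (nat_lit 7) (VV_h q))) (Nat.ble (nat_lit 6) (VV_h q))) (Nat.ble (nat_lit 5) (VV_h q))) (Bool.rec (motive := fun _ => Bool) (Bool.rec (motive := fun _ => Bool) (E_154 (UU_h q) q) (Bool.rec (motive := fun _ => Bool) (E_155 (UU_h q) q) (E_156 (UU_h q) q)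 (Nat.ble (nat_lit 10) (VV_h q))) (Nat.ble (nat_lit 9) (VV_h q))) (Bool.rec (motive := fun _ => Bool) (E_157 (UU_h q) q) (Bool.rec (motive := fun _ => Bool) (E_158 (UU_h q) q) (E_159 (UU_h q) q) (Nat.ble (nat_lit 13) (VV_h q))) (Nat.ble (nat_lit 12) (VV_h q))) (Nat.ble (nat_lit 11) (VV_h q))) (Nat.ble (nat_lit 8) (VV_h q))) (Nat.ble (nat_lit 2) (VV_h q)))
noncomputable def E_160 (t q : ℕ) : Bool := Nat.beq (G_i t (F_i q)) q
noncomputable def a_160 : CfsgLib.TC.AG Col := .word .i 77 0 true [Col.i]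
noncomputable def E_161 (t q : ℕ) : Bool := band (Nat.beq (PT (F_i q)) q) (band (Nat.beq (DT (F_i q)) 11) (band (Nat.ble (Nat.succ q) (F_i q)) (Nat.ble (Nat.succ q0) (F_i q))))
noncomputable def a_161 : CfsgLib.TC.AG Col := .tree .i
noncomputable def E_162 (t q : ℕ) : Bool := Nat.beq (G_l t (G_i t (G_l t (F_i q)))) q
noncomputable def a_162 : CfsgLib.TC.AG Col := .word .i 11 0 true [Col.l, Col.i, Col.l]
noncomputable def E_163 (t q : ℕ) : Bool := Nat.beq (G_k t (G_i t (G_k t (F_i q)))) q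
noncomputable def a_163 : CfsgLib.TC.AG Col := .word .i 22 0 true [Col.k, Col.i, Col.k]
noncomputable def E_164 (t q : ℕ) : Bool := Nat.beq (G_a t (G_i t (G_a t (F_i q)))) q
noncomputable def a_164 : CfsgLib.TC.AG Col := .word .i 32 0 true [Col.a, Col.i, Col.a]
noncomputable def E_165 (t q : ℕ) : Bool := Nat.beq (G_b t (G_i t (G_b t (F_i q)))) q
noncomputable def a_165 : CfsgLib.TC.AG Col := .word .i 41 0 true [Col.b, Col.i, Col.b]
noncomputable def E_166 (t q : ℕ) : Bool := Nat.beq (G_c t (G_i t (G_c t (F_i q)))) q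
noncomputable def a_166 : CfsgLib.TC.AG Col := .word .i 49 0 true [Col.c, Col.i, Col.c]
noncomputable def E_167 (t q : ℕ) : Bool := Nat.beq (G_d t (G_i t (G_d t (F_i q)))) q
noncomputable def a_167 : CfsgLib.TC.AG Col := .word .i 56 0 true [Col.d, Col.i, Col.d]
noncomputable def E_168 (t q : ℕ) : Bool := Nat.beq (G_e t (G_i t (G_e t (F_i q)))) q
noncomputable def a_168 : CfsgLib.TC.AG Col := .word .i 62 0 true [Col.e, Col.i, Col.e]
noncomputable def E_169 (t q : ℕ) : Bool := Nat.beq (G_f t (G_i t (G_f t (F_i q)))) q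
noncomputable def a_169 : CfsgLib.TC.AG Col := .word .i 67 0 true [Col.f, Col.i, Col.f]
noncomputable def E_170 (t q : ℕ) : Bool := Nat.beq (G_g t (G_i t (G_g t (F_i q)))) q
noncomputable def a_170 : CfsgLib.TC.AG Col := .word .i 71 0 true [Col.g, Col.i, Col.g]
noncomputable def E_171 (t q : ℕ) : Bool := Nat.beq (G_j t (G_i t (G_j t (F_i q)))) q
noncomputable def a_171 : CfsgLib.TC.AG Col := .word .i 74 0 true [Col.j, Col.i, Col.j]
noncomputable def E_172 (t q : ℕ) : Bool := Nat.beq (G_h t (G_i t (G_h t (G_i t (G_h t (F_i q)))))) q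
noncomputable def a_172 : CfsgLib.TC.AG Col := .word .i 76 0 true [Col.h, Col.i, Col.h, Col.i, Col.h]
noncomputable def E_173 (t q : ℕ) : Bool := band (Nat.beq q0 q) (Nat.beq (F_i q) q0)
noncomputable def a_173 : CfsgLib.TC.AG Col := .base .i 8 [] []
noncomputable def E_174 (t q : ℕ) : Bool := band (Nat.beq (G_b t (G_c t (G_d t (G_h t (G_e t (G_f t (G_d t (G_e t (G_c t (G_d t (G_h t (G_g t (G_f t (G_e t (G_d t (G_c t (G_a t (G_b t (G_k t (G_a t (G_l t (G_k t q0)))))))))))))))))))))) q) (Nat.beq (G_k t (G_l t (G_a t (G_k t (G_b t (G_a t (G_c t (G_b t (G_d t (G_e t (G_f t (G_g t (G_h t (G_d t (G_e t (G_f t (G_i t (G_h t (G_d t (G_c t (G_e t (G_d t (G_h t (F_i q)))))))))))))))))))))))) q0)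
noncomputable def a_174 : CfsgLib.TC.AG Col := .base .i 12 [Col.k, Col.l, Col.a, Col.k, Col.b, Col.a, Col.c, Col.d, Col.e, Col.f, Col.g, Col.h, Col.d, Col.c, Col.e, Col.d, Col.f, Col.e, Col.h, Col.d, Col.c, Col.b] [Col.h, Col.d, Col.e, Col.c, Col.d, Col.h, Col.i, Col.f, Col.e, Col.d, Col.h, Col.g, Col.f, Col.e, Col.d, Col.b, Col.c, Col.a, Col.b, Col.k, Col.a, Col.l, Col.k]
noncomputable def D_i (q : ℕ) : Bool := (Bool.rec (motive := fun _ => Bool) (Bool.rec (motive := fun _ => Bool) (E_160 (UU_i q) q) (E_161 (UU_i q) q) (Nat.ble (nat_lit 1) (VV_i q))) (Bool.rec (motive := fun _ => Bool) (Bool.rec (motive := fun _ => Bool) (Bool.rec (motive := fun _ => Bool) (E_162 (UU_i q) q) (Bool.rec (motive := fun _ => Bool) (E_163 (UU_i q) q) (E_164 (UU_i q) q) (Nat.ble (nat_lit 4) (VV_i q))) (Nat.ble (nat_lit 3) (VV_i q))) (Bool.rec (motive := fun _ => Bool) (E_165 (UU_i q) q) (Bool.rec (motive := fun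 _ => Bool) (E_166 (UU_i q) q) (E_167 (UU_i q) q) (Nat.ble (nat_lit 7) (VV_i q))) (Nat.ble (nat_lit 6) (VV_i q))) (Nat.ble (nat_lit 5) (VV_i q))) (Bool.rec (motive := fun _ => Bool) (Bool.rec (motive := fun _ => Bool) (E_168 (UU_i q) q) (Bool.rec (motive := fun _ => Bool) (E_169 (UU_i q) q) (E_170 (UU_i q) q) (Nat.ble (nat_lit 10) (VV_i q))) (Nat.ble (nat_lit 9) (VV_i q))) (Bool.rec (motive := fun _ => Bool) (Bool.rec (motive := fun _ => Bool) (E_171 (UU_i q) q) (E_172 (UU_i q) q) (Nat.ble (nat_lit 12) (VV_i q))) (Bool.rec (motive := fun _ => Bool) (E_173 (UU_i q) q) (E_174 (UU_i q) q) (Nat.ble (nat_lit 14) (VV_i q))) (Nat.ble (nat_lit 13) (VV_i q))) (Nat.ble (nat_lit 11) (VV_i q))) (Nat.ble (nat_lit 8) (VV_i q))) (Nat.ble (nat_lit 2) (VV_i q)))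
noncomputable def CD_l (q : ℕ) : Bool := band (clQ mt F_l F_l q) (D_l q)
noncomputable def CD_k (q : ℕ) : Bool := band (clQ mt F_k F_k q) (D_k q)
noncomputable def CD_a (q : ℕ) : Bool := band (clQ mt F_a F_a q) (D_a q)
noncomputable def CD_b (q : ℕ) : Bool := band (clQ mt F_b F_b q) (D_b q)
noncomputable def CD_c (q : ℕ) : Bool := band (clQ mt F_c F_c q) (D_c q)
noncomputable def CD_d (q : ℕ) : Bool := band (clQ mt F_d F_d q) (D_d q)
noncomputable def CD_e (q : ℕ) : Bool := band (clQ mt F_e F_e q) (D_e q)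
noncomputable def CD_f (q : ℕ) : Bool := band (clQ mt F_f F_f q) (D_f q)
noncomputable def CD_g (q : ℕ) : Bool := band (clQ mt F_g F_g q) (D_g q)
noncomputable def CD_j (q : ℕ) : Bool := band (clQ mt F_j F_j q) (D_j q)
noncomputable def CD_h (q : ℕ) : Bool := band (clQ mt F_h F_h q) (D_h q)
noncomputable def CD_i (q : ℕ) : Bool := band (clQ mt F_i F_i q) (D_i q)
noncomputable def CE_0 (q : ℕ) : Bool := (Bool.rec (motive := fun _ => Bool) false (Bool.rec (motive := fun _ => Bool) false (Bool.rec (motive := fun _ => Bool) false (Bool.rec (motive := fun _ => Bool) false (Bool.rec (motive := fun _ => Bool) false true (CD_c q)) (CD_b q)) (CD_a q)) (CD_k q)) (CD_l q))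
noncomputable def CE_1 (q : ℕ) : Bool := (Bool.rec (motive := fun _ => Bool) false (Bool.rec (motive := fun _ => Bool) false (Bool.rec (motive := fun _ => Bool) false (Bool.rec (motive := fun _ => Bool) false (Bool.rec (motive := fun _ => Bool) false true (CD_j q)) (CD_g q)) (CD_f q)) (CD_e q)) (CD_d q))
noncomputable def CE_2 (q : ℕ) : Bool := (Bool.rec (motive := fun _ => Bool) false (Bool.rec (motive := fun _ => Bool) false true (CD_i q)) (CD_h q))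
noncomputable def WT_0_n0_2 (X : ℕ) : ℕ := Bool.rec (motive := fun _ => ℕ) WT_0_0 WT_0_1 (Nat.ble (nat_lit 5564497) X)
noncomputable def WT_0_n2_4 (X : ℕ) : ℕ := Bool.rec (motive := fun _ => ℕ) WT_0_2 WT_0_3 (Nat.ble (nat_lit 5692157) X)
noncomputable def WT_0_n0_4 (X : ℕ) : ℕ := Bool.rec (motive := fun _ => ℕ) (WT_0_n0_2 X) (WT_0_n2_4 X) (Nat.ble (nat_lit 5628131) X)
noncomputable def WT_0_n4_6 (X : ℕ) : ℕ := Bool.rec (motive := fun _ => ℕ) WT_0_4 WT_0_5 (Nat.ble (nat_lit 5820037) X)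
noncomputable def WT_0_n7_9 (X : ℕ) : ℕ := Bool.rec (motive := fun _ => ℕ) WT_0_7 WT_0_8 (Nat.ble (nat_lit 6010867) X)
noncomputable def WT_0_n6_9 (X : ℕ) : ℕ := Bool.rec (motive := fun _ => ℕ) WT_0_6 (WT_0_n7_9 X) (Nat.ble (nat_lit 5946749) X)
noncomputable def WT_0_n4_9 (X : ℕ) : ℕ := Bool.rec (motive := fun _ => ℕ) (WT_0_n4_6 X) (WT_0_n6_9 X) (Nat.ble (nat_lit 5883737) X)
noncomputable def WT_0_n0_9 (X : ℕ) : ℕ := Bool.rec (motive := fun _ => ℕ) (WT_0_n0_4 X) (WT_0_n4_9 X) (Nat.ble (nat_lit 5755531) X)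
noncomputable def WT_0_n9_11 (X : ℕ) : ℕ := Bool.rec (motive := fun _ => ℕ) WT_0_9 WT_0_10 (Nat.ble (nat_lit 6139249) X)
noncomputable def WT_0_n11_13 (X : ℕ) : ℕ := Bool.rec (motive := fun _ => ℕ) WT_0_11 WT_0_12 (Nat.ble (nat_lit 6267619) X)
noncomputable def WT_0_n9_13 (X : ℕ) : ℕ := Bool.rec (motive := fun _ => ℕ) (WT_0_n9_11 X) (WT_0_n11_13 X) (Nat.ble (nat_lit 6203143) X)
noncomputable def WT_0_n13_15 (X : ℕ) : ℕ := Bool.rec (motive := fun _ => ℕ) WT_0_13 WT_0_14 (Nat.ble (nat_lit 6395947) X)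
noncomputable def WT_0_n16_18 (X : ℕ) : ℕ := Bool.rec (motive := fun _ => ℕ) WT_0_16 WT_0_17 (Nat.ble (nat_lit 6588443) X)
noncomputable def WT_0_n15_18 (X : ℕ) : ℕ := Bool.rec (motive := fun _ => ℕ) WT_0_15 (WT_0_n16_18 X) (Nat.ble (nat_lit 6524611) X)
noncomputable def WT_0_n13_18 (X : ℕ) : ℕ := Bool.rec (motive := fun _ => ℕ) (WT_0_n13_15 X) (WT_0_n15_18 X) (Nat.ble (nat_lit 6460379) X)
noncomputable def WT_0_n9_18 (X : ℕ) : ℕ := Bool.rec (motive := fun _ => ℕ) (WT_0_n9_13 X) (WT_0_n13_18 X) (Nat.ble (nat_lit 6330559) X)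
noncomputable def WT_0_n0_18 (X : ℕ) : ℕ := Bool.rec (motive := fun _ => ℕ) (WT_0_n0_9 X) (WT_0_n9_18 X) (Nat.ble (nat_lit 6075263) X)
noncomputable def WT_0_n18_20 (X : ℕ) : ℕ := Bool.rec (motive := fun _ => ℕ) WT_0_18 WT_0_19 (Nat.ble (nat_lit 6717307) X)
noncomputable def WT_0_n20_22 (X : ℕ) : ℕ := Bool.rec (motive := fun _ => ℕ) WT_0_20 WT_0_21 (Nat.ble (nat_lit 6846031) X)
noncomputable def WT_0_n18_22 (X : ℕ) : ℕ := Bool.rec (motive := fun _ => ℕ) (WT_0_n18_20 X) (WT_0_n20_22 X) (Nat.ble (nat_lit 6781547) X)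
noncomputable def WT_0_n22_24 (X : ℕ) : ℕ := Bool.rec (motive := fun _ => ℕ) WT_0_22 WT_0_23 (Nat.ble (nat_lit 6974053) X)
noncomputable def WT_0_n25_27 (X : ℕ) : ℕ := Bool.rec (motive := fun _ => ℕ) WT_0_25 WT_0_26 (Nat.ble (nat_lit 7167791) X)
noncomputable def WT_0_n24_27 (X : ℕ) : ℕ := Bool.rec (motive := fun _ => ℕ) WT_0_24 (WT_0_n25_27 X) (Nat.ble (nat_lit 7102643) X)
noncomputable def WT_0_n22_27 (X : ℕ) : ℕ := Bool.rec (motive := fun _ => ℕ) (WT_0_n22_24 X) (WT_0_n24_27 X) (Nat.ble (nat_lit 7038397) X)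
noncomputable def WT_0_n18_27 (X : ℕ) : ℕ := Bool.rec (motive := fun _ => ℕ) (WT_0_n18_22 X) (WT_0_n22_27 X) (Nat.ble (nat_lit 6909907) X)
noncomputable def WT_0_n27_29 (X : ℕ) : ℕ := Bool.rec (motive := fun _ => ℕ) WT_0_27 WT_0_28 (Nat.ble (nat_lit 7296983) X)
noncomputable def WT_0_n30_32 (X : ℕ) : ℕ := Bool.rec (motive := fun _ => ℕ) WT_0_30 WT_0_31 (Nat.ble (nat_lit 7492031) X)
noncomputable def WT_0_n29_32 (X : ℕ) : ℕ := Bool.rec (motive := fun _ => ℕ) WT_0_29 (WT_0_n30_32 X) (Nat.ble (nat_lit 7427041) X)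
noncomputable def WT_0_n27_32 (X : ℕ) : ℕ := Bool.rec (motive := fun _ => ℕ) (WT_0_n27_29 X) (WT_0_n29_32 X) (Nat.ble (nat_lit 7362133) X)
noncomputable def WT_0_n32_34 (X : ℕ) : ℕ := Bool.rec (motive := fun _ => ℕ) WT_0_32 WT_0_33 (Nat.ble (nat_lit 7622317) X)
noncomputable def WT_0_n35_37 (X : ℕ) : ℕ := Bool.rec (motive := fun _ => ℕ) WT_0_35 WT_0_36 (Nat.ble (nat_lit 7817143) X)
noncomputable def WT_0_n34_37 (X : ℕ) : ℕ := Bool.rec (motive := fun _ => ℕ) WT_0_34 (WT_0_n35_37 X) (Nat.ble (nat_lit 7752179) X)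
noncomputable def WT_0_n32_37 (X : ℕ) : ℕ := Bool.rec (motive := fun _ => ℕ) (WT_0_n32_34 X) (WT_0_n34_37 X) (Nat.ble (nat_lit 7686893) X)
noncomputable def WT_0_n27_37 (X : ℕ) : ℕ := Bool.rec (motive := fun _ => ℕ) (WT_0_n27_32 X) (WT_0_n32_37 X) (Nat.ble (nat_lit 7557091) X)
noncomputable def WT_0_n18_37 (X : ℕ) : ℕ := Bool.rec (motive := fun _ => ℕ) (WT_0_n18_27 X) (WT_0_n27_37 X) (Nat.ble (nat_lit 7232899) X)
noncomputable def WT_0_n0_37 (X : ℕ) : ℕ := Bool.rec (motive := fun _ => ℕ) (WT_0_n0_18 X) (WT_0_n18_37 X) (Nat.ble (nat_lit 6652979) X)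
noncomputable def WT_0_n37_39 (X : ℕ) : ℕ := Bool.rec (motive := fun _ => ℕ) WT_0_37 WT_0_38 (Nat.ble (nat_lit 7946711) X)
noncomputable def WT_0_n39_41 (X : ℕ) : ℕ := Bool.rec (motive := fun _ => ℕ) WT_0_39 WT_0_40 (Nat.ble (nat_lit 8077529) X)
noncomputable def WT_0_n37_41 (X : ℕ) : ℕ := Bool.rec (motive := fun _ => ℕ) (WT_0_n37_39 X) (WT_0_n39_41 X) (Nat.ble (nat_lit 8012209) X)
noncomputable def WT_0_n41_43 (X : ℕ) : ℕ := Bool.rec (motive := fun _ => ℕ) WT_0_41 WT_0_42 (Nat.ble (nat_lit 8208023) X)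
noncomputable def WT_0_n44_46 (X : ℕ) : ℕ := Bool.rec (motive := fun _ => ℕ) WT_0_44 WT_0_45 (Nat.ble (nat_lit 8403817) X)
noncomputable def WT_0_n43_46 (X : ℕ) : ℕ := Bool.rec (motive := fun _ => ℕ) WT_0_43 (WT_0_n44_46 X) (Nat.ble (nat_lit 8338643) X)
noncomputable def WT_0_n41_46 (X : ℕ) : ℕ := Bool.rec (motive := fun _ => ℕ) (WT_0_n41_43 X) (WT_0_n43_46 X) (Nat.ble (nat_lit 8273477) X)
noncomputable def WT_0_n37_46 (X : ℕ) : ℕ := Bool.rec (motive := fun _ => ℕ) (WT_0_n37_41 X) (WT_0_n41_46 X) (Nat.ble (nat_lit 8143277) X)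
noncomputable def WT_0_n46_48 (X : ℕ) : ℕ := Bool.rec (motive := fun _ => ℕ) WT_0_46 WT_0_47 (Nat.ble (nat_lit 8534429) X)
noncomputable def WT_0_n49_51 (X : ℕ) : ℕ := Bool.rec (motive := fun _ => ℕ) WT_0_49 WT_0_50 (Nat.ble (nat_lit 8729821) X)
noncomputable def WT_0_n48_51 (X : ℕ) : ℕ := Bool.rec (motive := fun _ => ℕ) WT_0_48 (WT_0_n49_51 X) (Nat.ble (nat_lit 8664559) X)
noncomputable def WT_0_n46_51 (X : ℕ) : ℕ := Bool.rec (motive := fun _ => ℕ) (WT_0_n46_48 X) (WT_0_n48_51 X) (Nat.ble (nat_lit 8599469) X)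
noncomputable def WT_0_n51_53 (X : ℕ) : ℕ := Bool.rec (motive := fun _ => ℕ) WT_0_51 WT_0_52 (Nat.ble (nat_lit 8861159) X)
noncomputable def WT_0_n54_56 (X : ℕ) : ℕ := Bool.rec (motive := fun _ => ℕ) WT_0_54 WT_0_55 (Nat.ble (nat_lit 9058837) X)
noncomputable def WT_0_n53_56 (X : ℕ) : ℕ := Bool.rec (motive := fun _ => ℕ) WT_0_53 (WT_0_n54_56 X) (Nat.ble (nat_lit 8992199) X)
noncomputable def WT_0_n51_56 (X : ℕ) : ℕ := Bool.rec (motive := fun _ => ℕ) (WT_0_n51_53 X) (WT_0_n53_56 X) (Nat.ble (nat_lit 8926363) X)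
noncomputable def WT_0_n46_56 (X : ℕ) : ℕ := Bool.rec (motive := fun _ => ℕ) (WT_0_n46_51 X) (WT_0_n51_56 X) (Nat.ble (nat_lit 8795047) X)
noncomputable def WT_0_n37_56 (X : ℕ) : ℕ := Bool.rec (motive := fun _ => ℕ) (WT_0_n37_46 X) (WT_0_n46_56 X) (Nat.ble (nat_lit 8469977) X)
noncomputable def WT_0_n56_58 (X : ℕ) : ℕ := Bool.rec (motive := fun _ => ℕ) WT_0_56 WT_0_57 (Nat.ble (nat_lit 9189703) X)
noncomputable def WT_0_n58_60 (X : ℕ) : ℕ := Bool.rec (motive := fun _ => ℕ) WT_0_58 WT_0_59 (Nat.ble (nat_lit 9320833) X)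
noncomputable def WT_0_n56_60 (X : ℕ) : ℕ := Bool.rec (motive := fun _ => ℕ) (WT_0_n56_58 X) (WT_0_n58_60 X) (Nat.ble (nat_lit 9255023) X)
noncomputable def WT_0_n60_62 (X : ℕ) : ℕ := Bool.rec (motive := fun _ => ℕ) WT_0_60 WT_0_61 (Nat.ble (nat_lit 9452537) X)
noncomputable def WT_0_n63_65 (X : ℕ) : ℕ := Bool.rec (motive := fun _ => ℕ) WT_0_63 WT_0_64 (Nat.ble (nat_lit 9649747) X)
noncomputable def WT_0_n62_65 (X : ℕ) : ℕ := Bool.rec (motive := fun _ => ℕ) WT_0_62 (WT_0_n63_65 X) (Nat.ble (nat_lit 9584063) X)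
noncomputable def WT_0_n60_65 (X : ℕ) : ℕ := Bool.rec (motive := fun _ => ℕ) (WT_0_n60_62 X) (WT_0_n62_65 X) (Nat.ble (nat_lit 9518723) X)
noncomputable def WT_0_n56_65 (X : ℕ) : ℕ := Bool.rec (motive := fun _ => ℕ) (WT_0_n56_60 X) (WT_0_n60_65 X) (Nat.ble (nat_lit 9386471) X)
noncomputable def WT_0_n65_67 (X : ℕ) : ℕ := Bool.rec (motive := fun _ => ℕ) WT_0_65 WT_0_66 (Nat.ble (nat_lit 9782029) X)
noncomputable def WT_0_n68_70 (X : ℕ) : ℕ := Bool.rec (motive := fun _ => ℕ) WT_0_68 WT_0_69 (Nat.ble (nat_lit 9980857) X)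
noncomputable def WT_0_n67_70 (X : ℕ) : ℕ := Bool.rec (motive := fun _ => ℕ) WT_0_67 (WT_0_n68_70 X) (Nat.ble (nat_lit 9914617) X)
noncomputable def WT_0_n65_70 (X : ℕ) : ℕ := Bool.rec (motive := fun _ => ℕ) (WT_0_n65_67 X) (WT_0_n67_70 X) (Nat.ble (nat_lit 9847967) X)
noncomputable def WT_0_n70_72 (X : ℕ) : ℕ := Bool.rec (motive := fun _ => ℕ) WT_0_70 WT_0_71 (Nat.ble (nat_lit 10112897) X)
noncomputable def WT_0_n73_75 (X : ℕ) : ℕ := Bool.rec (motive := fun _ => ℕ) WT_0_73 WT_0_74 (Nat.ble (nat_lit 10311997) X)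
noncomputable def WT_0_n72_75 (X : ℕ) : ℕ := Bool.rec (motive := fun _ => ℕ) WT_0_72 (WT_0_n73_75 X) (Nat.ble (nat_lit 10245751) X)
noncomputable def WT_0_n70_75 (X : ℕ) : ℕ := Bool.rec (motive := fun _ => ℕ) (WT_0_n70_72 X) (WT_0_n72_75 X) (Nat.ble (nat_lit 10179161) X)
noncomputable def WT_0_n65_75 (X : ℕ) : ℕ := Bool.rec (motive := fun _ => ℕ) (WT_0_n65_70 X) (WT_0_n70_75 X) (Nat.ble (nat_lit 10046903) X)
noncomputable def WT_0_n56_75 (X : ℕ) : ℕ := Bool.rec (motive := fun _ => ℕ) (WT_0_n56_65 X) (WT_0_n65_75 X) (Nat.ble (nat_lit 9715969) X)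
noncomputable def WT_0_n37_75 (X : ℕ) : ℕ := Bool.rec (motive := fun _ => ℕ) (WT_0_n37_56 X) (WT_0_n56_75 X) (Nat.ble (nat_lit 9124417) X)
noncomputable def WT_0_sel (X : ℕ) : ℕ := Bool.rec (motive := fun _ => ℕ) (WT_0_n0_37 X) (WT_0_n37_75 X) (Nat.ble (nat_lit 7881739) X)
noncomputable def WF_0 (q : ℕ) : ℕ := Nat.add (nat_lit 5500000) (Nat.mod (WT_0_sel q) q)
noncomputable def w_WF0 : List Col := [Col.a, Col.b, Col.c, Col.d, Col.e, Col.f, Col.h]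
noncomputable def WT_1_n0_2 (X : ℕ) : ℕ := Bool.rec (motive := fun _ => ℕ) WT_1_0 WT_1_1 (Nat.ble (nat_lit 5564497) X)
noncomputable def WT_1_n2_4 (X : ℕ) : ℕ := Bool.rec (motive := fun _ => ℕ) WT_1_2 WT_1_3 (Nat.ble (nat_lit 5692157) X)
noncomputable def WT_1_n0_4 (X : ℕ) : ℕ := Bool.rec (motive := fun _ => ℕ) (WT_1_n0_2 X) (WT_1_n2_4 X) (Nat.ble (nat_lit 5628131) X)
noncomputable def WT_1_n4_6 (X : ℕ) : ℕ := Bool.rec (motive := fun _ => ℕ) WT_1_4 WT_1_5 (Nat.ble (nat_lit 5820037) X)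
noncomputable def WT_1_n7_9 (X : ℕ) : ℕ := Bool.rec (motive := fun _ => ℕ) WT_1_7 WT_1_8 (Nat.ble (nat_lit 6010867) X)
noncomputable def WT_1_n6_9 (X : ℕ) : ℕ := Bool.rec (motive := fun _ => ℕ) WT_1_6 (WT_1_n7_9 X) (Nat.ble (nat_lit 5946749) X)
noncomputable def WT_1_n4_9 (X : ℕ) : ℕ := Bool.rec (motive := fun _ => ℕ) (WT_1_n4_6 X) (WT_1_n6_9 X) (Nat.ble (nat_lit 5883737) X)
noncomputable def WT_1_n0_9 (X : ℕ) : ℕ := Bool.rec (motive := fun _ => ℕ) (WT_1_n0_4 X) (WT_1_n4_9 X) (Nat.ble (nat_lit 5755531) X)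
noncomputable def WT_1_n9_11 (X : ℕ) : ℕ := Bool.rec (motive := fun _ => ℕ) WT_1_9 WT_1_10 (Nat.ble (nat_lit 6139249) X)
noncomputable def WT_1_n11_13 (X : ℕ) : ℕ := Bool.rec (motive := fun _ => ℕ) WT_1_11 WT_1_12 (Nat.ble (nat_lit 6267619) X)
noncomputable def WT_1_n9_13 (X : ℕ) : ℕ := Bool.rec (motive := fun _ => ℕ) (WT_1_n9_11 X) (WT_1_n11_13 X) (Nat.ble (nat_lit 6203143) X)
noncomputable def WT_1_n13_15 (X : ℕ) : ℕ := Bool.rec (motive := fun _ => ℕ) WT_1_13 WT_1_14 (Nat.ble (nat_lit 6395947) X)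
noncomputable def WT_1_n16_18 (X : ℕ) : ℕ := Bool.rec (motive := fun _ => ℕ) WT_1_16 WT_1_17 (Nat.ble (nat_lit 6588443) X)
noncomputable def WT_1_n15_18 (X : ℕ) : ℕ := Bool.rec (motive := fun _ => ℕ) WT_1_15 (WT_1_n16_18 X) (Nat.ble (nat_lit 6524611) X)
noncomputable def WT_1_n13_18 (X : ℕ) : ℕ := Bool.rec (motive := fun _ => ℕ) (WT_1_n13_15 X) (WT_1_n15_18 X) (Nat.ble (nat_lit 6460379) X)
noncomputable def WT_1_n9_18 (X : ℕ) : ℕ := Bool.rec (motive := fun _ => ℕ) (WT_1_n9_13 X) (WT_1_n13_18 X) (Nat.ble (nat_lit 6330559) X)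
noncomputable def WT_1_n0_18 (X : ℕ) : ℕ := Bool.rec (motive := fun _ => ℕ) (WT_1_n0_9 X) (WT_1_n9_18 X) (Nat.ble (nat_lit 6075263) X)
noncomputable def WT_1_n18_20 (X : ℕ) : ℕ := Bool.rec (motive := fun _ => ℕ) WT_1_18 WT_1_19 (Nat.ble (nat_lit 6717307) X)
noncomputable def WT_1_n20_22 (X : ℕ) : ℕ := Bool.rec (motive := fun _ => ℕ) WT_1_20 WT_1_21 (Nat.ble (nat_lit 6846031) X)
noncomputable def WT_1_n18_22 (X : ℕ) : ℕ := Bool.rec (motive := fun _ => ℕ) (WT_1_n18_20 X) (WT_1_n20_22 X) (Nat.ble (nat_lit 6781547) X)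
noncomputable def WT_1_n22_24 (X : ℕ) : ℕ := Bool.rec (motive := fun _ => ℕ) WT_1_22 WT_1_23 (Nat.ble (nat_lit 6974053) X)
noncomputable def WT_1_n25_27 (X : ℕ) : ℕ := Bool.rec (motive := fun _ => ℕ) WT_1_25 WT_1_26 (Nat.ble (nat_lit 7167791) X)
noncomputable def WT_1_n24_27 (X : ℕ) : ℕ := Bool.rec (motive := fun _ => ℕ) WT_1_24 (WT_1_n25_27 X) (Nat.ble (nat_lit 7102643) X)
noncomputable def WT_1_n22_27 (X : ℕ) : ℕ := Bool.rec (motive := fun _ => ℕ) (WT_1_n22_24 X) (WT_1_n24_27 X) (Nat.ble (nat_lit 7038397) X)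
noncomputable def WT_1_n18_27 (X : ℕ) : ℕ := Bool.rec (motive := fun _ => ℕ) (WT_1_n18_22 X) (WT_1_n22_27 X) (Nat.ble (nat_lit 6909907) X)
noncomputable def WT_1_n27_29 (X : ℕ) : ℕ := Bool.rec (motive := fun _ => ℕ) WT_1_27 WT_1_28 (Nat.ble (nat_lit 7296983) X)
noncomputable def WT_1_n30_32 (X : ℕ) : ℕ := Bool.rec (motive := fun _ => ℕ) WT_1_30 WT_1_31 (Nat.ble (nat_lit 7492031) X)
noncomputable def WT_1_n29_32 (X : ℕ) : ℕ := Bool.rec (motive := fun _ => ℕ) WT_1_29 (WT_1_n30_32 X) (Nat.ble (nat_lit 7427041) X)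
noncomputable def WT_1_n27_32 (X : ℕ) : ℕ := Bool.rec (motive := fun _ => ℕ) (WT_1_n27_29 X) (WT_1_n29_32 X) (Nat.ble (nat_lit 7362133) X)
noncomputable def WT_1_n32_34 (X : ℕ) : ℕ := Bool.rec (motive := fun _ => ℕ) WT_1_32 WT_1_33 (Nat.ble (nat_lit 7622317) X)
noncomputable def WT_1_n35_37 (X : ℕ) : ℕ := Bool.rec (motive := fun _ => ℕ) WT_1_35 WT_1_36 (Nat.ble (nat_lit 7817143) X)
noncomputable def WT_1_n34_37 (X : ℕ) : ℕ := Bool.rec (motive := fun _ => ℕ) WT_1_34 (WT_1_n35_37 X) (Nat.ble (nat_lit 7752179) X)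
noncomputable def WT_1_n32_37 (X : ℕ) : ℕ := Bool.rec (motive := fun _ => ℕ) (WT_1_n32_34 X) (WT_1_n34_37 X) (Nat.ble (nat_lit 7686893) X)
noncomputable def WT_1_n27_37 (X : ℕ) : ℕ := Bool.rec (motive := fun _ => ℕ) (WT_1_n27_32 X) (WT_1_n32_37 X) (Nat.ble (nat_lit 7557091) X)
noncomputable def WT_1_n18_37 (X : ℕ) : ℕ := Bool.rec (motive := fun _ => ℕ) (WT_1_n18_27 X) (WT_1_n27_37 X) (Nat.ble (nat_lit 7232899) X)
noncomputable def WT_1_n0_37 (X : ℕ) : ℕ := Bool.rec (motive := fun _ => ℕ) (WT_1_n0_18 X) (WT_1_n18_37 X) (Nat.ble (nat_lit 6652979) X)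
noncomputable def WT_1_n37_39 (X : ℕ) : ℕ := Bool.rec (motive := fun _ => ℕ) WT_1_37 WT_1_38 (Nat.ble (nat_lit 7946711) X)
noncomputable def WT_1_n39_41 (X : ℕ) : ℕ := Bool.rec (motive := fun _ => ℕ) WT_1_39 WT_1_40 (Nat.ble (nat_lit 8077529) X)
noncomputable def WT_1_n37_41 (X : ℕ) : ℕ := Bool.rec (motive := fun _ => ℕ) (WT_1_n37_39 X) (WT_1_n39_41 X) (Nat.ble (nat_lit 8012209) X)
noncomputable def WT_1_n41_43 (X : ℕ) : ℕ := Bool.rec (motive := fun _ => ℕ) WT_1_41 WT_1_42 (Nat.ble (nat_lit 8208023) X)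
noncomputable def WT_1_n44_46 (X : ℕ) : ℕ := Bool.rec (motive := fun _ => ℕ) WT_1_44 WT_1_45 (Nat.ble (nat_lit 8403817) X)
noncomputable def WT_1_n43_46 (X : ℕ) : ℕ := Bool.rec (motive := fun _ => ℕ) WT_1_43 (WT_1_n44_46 X) (Nat.ble (nat_lit 8338643) X)
noncomputable def WT_1_n41_46 (X : ℕ) : ℕ := Bool.rec (motive := fun _ => ℕ) (WT_1_n41_43 X) (WT_1_n43_46 X) (Nat.ble (nat_lit 8273477) X)
noncomputable def WT_1_n37_46 (X : ℕ) : ℕ := Bool.rec (motive := fun _ => ℕ) (WT_1_n37_41 X) (WT_1_n41_46 X) (Nat.ble (nat_lit 8143277) X)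
noncomputable def WT_1_n46_48 (X : ℕ) : ℕ := Bool.rec (motive := fun _ => ℕ) WT_1_46 WT_1_47 (Nat.ble (nat_lit 8534429) X)
noncomputable def WT_1_n49_51 (X : ℕ) : ℕ := Bool.rec (motive := fun _ => ℕ) WT_1_49 WT_1_50 (Nat.ble (nat_lit 8729821) X)
noncomputable def WT_1_n48_51 (X : ℕ) : ℕ := Bool.rec (motive := fun _ => ℕ) WT_1_48 (WT_1_n49_51 X) (Nat.ble (nat_lit 8664559) X)
noncomputable def WT_1_n46_51 (X : ℕ) : ℕ := Bool.rec (motive := fun _ => ℕ) (WT_1_n46_48 X) (WT_1_n48_51 X) (Nat.ble (nat_lit 8599469) X)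
noncomputable def WT_1_n51_53 (X : ℕ) : ℕ := Bool.rec (motive := fun _ => ℕ) WT_1_51 WT_1_52 (Nat.ble (nat_lit 8861159) X)
noncomputable def WT_1_n54_56 (X : ℕ) : ℕ := Bool.rec (motive := fun _ => ℕ) WT_1_54 WT_1_55 (Nat.ble (nat_lit 9058837) X)
noncomputable def WT_1_n53_56 (X : ℕ) : ℕ := Bool.rec (motive := fun _ => ℕ) WT_1_53 (WT_1_n54_56 X) (Nat.ble (nat_lit 8992199) X)
noncomputable def WT_1_n51_56 (X : ℕ) : ℕ := Bool.rec (motive := fun _ => ℕ) (WT_1_n51_53 X) (WT_1_n53_56 X) (Nat.ble (nat_lit 8926363) X)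
noncomputable def WT_1_n46_56 (X : ℕ) : ℕ := Bool.rec (motive := fun _ => ℕ) (WT_1_n46_51 X) (WT_1_n51_56 X) (Nat.ble (nat_lit 8795047) X)
noncomputable def WT_1_n37_56 (X : ℕ) : ℕ := Bool.rec (motive := fun _ => ℕ) (WT_1_n37_46 X) (WT_1_n46_56 X) (Nat.ble (nat_lit 8469977) X)
noncomputable def WT_1_n56_58 (X : ℕ) : ℕ := Bool.rec (motive := fun _ => ℕ) WT_1_56 WT_1_57 (Nat.ble (nat_lit 9189703) X)
noncomputable def WT_1_n58_60 (X : ℕ) : ℕ := Bool.rec (motive := fun _ => ℕ) WT_1_58 WT_1_59 (Nat.ble (nat_lit 9320833) X)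
noncomputable def WT_1_n56_60 (X : ℕ) : ℕ := Bool.rec (motive := fun _ => ℕ) (WT_1_n56_58 X) (WT_1_n58_60 X) (Nat.ble (nat_lit 9255023) X)
noncomputable def WT_1_n60_62 (X : ℕ) : ℕ := Bool.rec (motive := fun _ => ℕ) WT_1_60 WT_1_61 (Nat.ble (nat_lit 9452537) X)
noncomputable def WT_1_n63_65 (X : ℕ) : ℕ := Bool.rec (motive := fun _ => ℕ) WT_1_63 WT_1_64 (Nat.ble (nat_lit 9649747) X)
noncomputable def WT_1_n62_65 (X : ℕ) : ℕ := Bool.rec (motive := fun _ => ℕ) WT_1_62 (WT_1_n63_65 X) (Nat.ble (nat_lit 9584063) X)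
noncomputable def WT_1_n60_65 (X : ℕ) : ℕ := Bool.rec (motive := fun _ => ℕ) (WT_1_n60_62 X) (WT_1_n62_65 X) (Nat.ble (nat_lit 9518723) X)
noncomputable def WT_1_n56_65 (X : ℕ) : ℕ := Bool.rec (motive := fun _ => ℕ) (WT_1_n56_60 X) (WT_1_n60_65 X) (Nat.ble (nat_lit 9386471) X)
noncomputable def WT_1_n65_67 (X : ℕ) : ℕ := Bool.rec (motive := fun _ => ℕ) WT_1_65 WT_1_66 (Nat.ble (nat_lit 9782029) X)
noncomputable def WT_1_n68_70 (X : ℕ) : ℕ := Bool.rec (motive := fun _ => ℕ) WT_1_68 WT_1_69 (Nat.ble (nat_lit 9980857) X)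
noncomputable def WT_1_n67_70 (X : ℕ) : ℕ := Bool.rec (motive := fun _ => ℕ) WT_1_67 (WT_1_n68_70 X) (Nat.ble (nat_lit 9914617) X)
noncomputable def WT_1_n65_70 (X : ℕ) : ℕ := Bool.rec (motive := fun _ => ℕ) (WT_1_n65_67 X) (WT_1_n67_70 X) (Nat.ble (nat_lit 9847967) X)
noncomputable def WT_1_n70_72 (X : ℕ) : ℕ := Bool.rec (motive := fun _ => ℕ) WT_1_70 WT_1_71 (Nat.ble (nat_lit 10112897) X)
noncomputable def WT_1_n73_75 (X : ℕ) : ℕ := Bool.rec (motive := fun _ => ℕ) WT_1_73 WT_1_74 (Nat.ble (nat_lit 10311997) X)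
noncomputable def WT_1_n72_75 (X : ℕ) : ℕ := Bool.rec (motive := fun _ => ℕ) WT_1_72 (WT_1_n73_75 X) (Nat.ble (nat_lit 10245751) X)
noncomputable def WT_1_n70_75 (X : ℕ) : ℕ := Bool.rec (motive := fun _ => ℕ) (WT_1_n70_72 X) (WT_1_n72_75 X) (Nat.ble (nat_lit 10179161) X)
noncomputable def WT_1_n65_75 (X : ℕ) : ℕ := Bool.rec (motive := fun _ => ℕ) (WT_1_n65_70 X) (WT_1_n70_75 X) (Nat.ble (nat_lit 10046903) X)
noncomputable def WT_1_n56_75 (X : ℕ) : ℕ := Bool.rec (motive := fun _ => ℕ) (WT_1_n56_65 X) (WT_1_n65_75 X) (Nat.ble (nat_lit 9715969) X)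
noncomputable def WT_1_n37_75 (X : ℕ) : ℕ := Bool.rec (motive := fun _ => ℕ) (WT_1_n37_56 X) (WT_1_n56_75 X) (Nat.ble (nat_lit 9124417) X)
noncomputable def WT_1_sel (X : ℕ) : ℕ := Bool.rec (motive := fun _ => ℕ) (WT_1_n0_37 X) (WT_1_n37_75 X) (Nat.ble (nat_lit 7881739) X)
noncomputable def WF_1 (q : ℕ) : ℕ := Nat.add (nat_lit 5500000) (Nat.mod (WT_1_sel q) q)
noncomputable def w_WF1 : List Col := [Col.i, Col.h, Col.d, Col.j, Col.g, Col.f, Col.e, Col.d, Col.l, Col.k, Col.a, Col.b, Col.c, Col.d]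
attribute [irreducible] WF_0 WF_1
noncomputable def Rf_0 (q : ℕ) : Bool := (Bool.rec (motive := fun _ => Bool) false (Bool.rec (motive := fun _ => Bool) false (Bool.rec (motive := fun _ => Bool) false (Bool.rec (motive := fun _ => Bool) false (Bool.rec (motive := fun _ => Bool) false (Bool.rec (motive := fun _ => Bool) false (Bool.rec (motive := fun _ => Bool) false (Bool.rec (motive := fun _ => Bool) false (Bool.rec (motive := fun _ => Bool) false (Bool.rec (motive := fun _ => Bool) false (Bool.rec (motive := fun _ => Bool) false true (Nat.beq (F_l (F_g (F_l (F_g q)))) q)) (Nat.beq (F_l (F_f (F_l (F_f q)))) q)) (Nat.beq (F_l (F_e (F_l (F_e q)))) q)) (Nat.beq (F_l (F_d (F_l (F_d q)))) q)) (Nat.beq (F_l (F_c (F_l (F_c q)))) q)) (Nat.beq (F_l (F_b (F_l (F_b q)))) q)) (Nat.beq (F_l (F_a (F_l (F_a q)))) q)) (Nat.beq (F_l (F_k (F_l (F_k (F_l (F_k q)))))) q)) (Nat.beq (F_l (F_l q)) q)) (Nat.beq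 (F_d (F_c (F_b (F_a (F_k (F_l (F_d (F_e (F_f (F_g (F_j (F_d (F_h (F_i q)))))))))))))) (WF_1 q))) (Nat.beq (F_h (F_f (F_e (F_d (F_c (F_b (F_a q))))))) (WF_0 q)))
noncomputable def Rf_1 (q : ℕ) : Bool := (Bool.rec (motive := fun _ => Bool) false (Bool.rec (motive := fun _ => Bool) false (Bool.rec (motive := fun _ => Bool) false (Bool.rec (motive := fun _ => Bool) false (Bool.rec (motive := fun _ => Bool) false (Bool.rec (motive := fun _ => Bool) false (Bool.rec (motive := fun _ => Bool) false (Bool.rec (motive := fun _ => Bool) false (Bool.rec (motive := fun _ => Bool) false (Bool.rec (motive := fun _ => Bool) false (Bool.rec (motive := fun _ => Bool) false (Bool.rec (motive := fun _ => Bool) false (Bool.rec (motive := fun _ => Bool) false (Bool.rec (motive := fun _ => Bool) false (Bool.rec (motive := fun _ => Bool) false true (Nat.beq (F_a (F_a q)) q)) (Nat.beq (F_k (F_i (F_k (F_i q)))) q))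 (Nat.beq (F_k (F_h (F_k (F_h q)))) q)) (Nat.beq (F_k (F_j (F_k (F_j q)))) q)) (Nat.beq (F_k (F_g (F_k (F_g q)))) q)) (Nat.beq (F_k (F_f (F_k (F_f q)))) q)) (Nat.beq (F_k (F_e (F_k (F_e q)))) q)) (Nat.beq (F_k (F_d (F_k (F_d q)))) q)) (Nat.beq (F_k (F_c (F_k (F_c q)))) q)) (Nat.beq (F_k (F_b (F_k (F_b q)))) q)) (Nat.beq (F_k (F_a (F_k (F_a (F_k (F_a q)))))) q)) (Nat.beq (F_k (F_k q)) q)) (Nat.beq (F_l (F_i (F_l (F_i q)))) q)) (Nat.beq (F_l (F_h (F_l (F_h q)))) q)) (Nat.beq (F_l (F_j (F_l (F_j q)))) q))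
noncomputable def Rf_2 (q : ℕ) : Bool := (Bool.rec (motive := fun _ => Bool) false (Bool.rec (motive := fun _ => Bool) false (Bool.rec (motive := fun _ => Bool) false (Bool.rec (motive := fun _ => Bool) false (Bool.rec (motive := fun _ => Bool) false (Bool.rec (motive := fun _ => Bool) false (Bool.rec (motive := fun _ => Bool) false (Bool.rec (motive := fun _ => Bool) false (Bool.rec (motive := fun _ => Bool) false (Bool.rec (motive := fun _ => Bool) false (Bool.rec (motive := fun _ => Bool) false (Bool.rec (motive := fun _ => Bool) false (Bool.rec (motive := fun _ => Bool) false (Bool.rec (motive := fun _ => Bool) false true (Nat.beq (F_b (F_f (F_b (F_f q)))) q)) (Nat.beq (F_b (F_e (F_b (F_e q)))) q)) (Nat.beq (F_b (F_d (F_b (F_d q)))) q)) (Nat.beq (F_b (F_c (F_b (F_c (F_b (F_c q)))))) q)) (Nat.beq (F_b (F_b q)) q)) (Nat.beq (F_a (F_i (F_a (F_i q)))) q)) (Nat.beq (F_a (F_h (F_a (F_h q))))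 q)) (Nat.beq (F_a (F_j (F_a (F_j q)))) q)) (Nat.beq (F_a (F_g (F_a (F_g q)))) q)) (Nat.beq (F_a (F_f (F_a (F_f q)))) q)) (Nat.beq (F_a (F_e (F_a (F_e q)))) q)) (Nat.beq (F_a (F_d (F_a (F_d q)))) q)) (Nat.beq (F_a (F_c (F_a (F_c q)))) q)) (Nat.beq (F_a (F_b (F_a (F_b (F_a (F_b q)))))) q))
noncomputable def Rf_3 (q : ℕ) : Bool := (Bool.rec (motive := fun _ => Bool) false (Bool.rec (motive := fun _ => Bool) false (Bool.rec (motive := fun _ => Bool) false (Bool.rec (motive := fun _ => Bool) false (Bool.rec (motive := fun _ => Bool) false (Bool.rec (motive := fun _ => Bool) false (Bool.rec (motive := fun _ => Bool) false (Bool.rec (motive := fun _ => Bool) false (Bool.rec (motive := fun _ => Bool) false (Bool.rec (motive := fun _ => Bool) false (Bool.rec (motive := fun _ => Bool) false (Bool.rec (motive := fun _ => Bool) false (Bool.rec (motive := fun _ => Bool) false (Bool.rec (motive := fun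 _ => Bool) false (Bool.rec (motive := fun _ => Bool) false true (Nat.beq (F_d (F_f (F_d (F_f q)))) q)) (Nat.beq (F_d (F_e (F_d (F_e (F_d (F_e q)))))) q)) (Nat.beq (F_d (F_d q)) q)) (Nat.beq (F_c (F_i (F_c (F_i q)))) q)) (Nat.beq (F_c (F_h (F_c (F_h q)))) q)) (Nat.beq (F_c (F_j (F_c (F_j q)))) q)) (Nat.beq (F_c (F_g (F_c (F_g q)))) q)) (Nat.beq (F_c (F_f (F_c (F_f q)))) q)) (Nat.beq (F_c (F_e (F_c (F_e q)))) q)) (Nat.beq (F_c (F_d (F_c (F_d (F_c (F_d q)))))) q)) (Nat.beq (F_c (F_c q)) q)) (Nat.beq (F_b (F_i (F_b (F_i q)))) q)) (Nat.beq (F_b (F_h (F_b (F_h q)))) q)) (Nat.beq (F_b (F_j (F_b (F_j q)))) q)) (Nat.beq (F_b (F_g (F_b (F_g q)))) q))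
noncomputable def Rf_4 (q : ℕ) : Bool := (Bool.rec (motive := fun _ => Bool) false (Bool.rec (motive := fun _ => Bool) false (Bool.rec (motive := fun _ => Bool) false (Bool.rec (motive := fun _ => Bool) false (Bool.rec (motive := fun _ => Bool) false (Bool.rec (motive := fun _ => Bool) false (Bool.rec (motive := fun _ => Bool) false (Bool.rec (motive := fun _ => Bool) false (Bool.rec (motive := fun _ => Bool) false (Bool.rec (motive := fun _ => Bool) false (Bool.rec (motive := fun _ => Bool) false (Bool.rec (motive := fun _ => Bool) false (Bool.rec (motive := fun _ => Bool) false (Bool.rec (motive := fun _ => Bool) false true (Nat.beq (F_f (F_h (F_f (F_h q)))) q)) (Nat.beq (F_f (F_j (F_f (F_j q)))) q)) (Nat.beq (F_f (F_g (F_f (F_g (F_f (F_g q)))))) q)) (Nat.beq (F_f (F_f q)) q)) (Nat.beq (F_e (F_i (F_e (F_i q)))) q)) (Nat.beq (F_e (F_h (F_e (F_h q)))) q)) (Nat.beq (F_e (F_j (F_e (F_j q))))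 q)) (Nat.beq (F_e (F_g (F_e (F_g q)))) q)) (Nat.beq (F_e (F_f (F_e (F_f (F_e (F_f q)))))) q)) (Nat.beq (F_e (F_e q)) q)) (Nat.beq (F_d (F_i (F_d (F_i q)))) q)) (Nat.beq (F_d (F_h (F_d (F_h (F_d (F_h q)))))) q)) (Nat.beq (F_d (F_j (F_d (F_j q)))) q)) (Nat.beq (F_d (F_g (F_d (F_g q)))) q))
noncomputable def Rf_5 (q : ℕ) : Bool := (Bool.rec (motive := fun _ => Bool) false (Bool.rec (motive := fun _ => Bool) false (Bool.rec (motive := fun _ => Bool) false (Bool.rec (motive := fun _ => Bool) false (Bool.rec (motive := fun _ => Bool) false (Bool.rec (motive := fun _ => Bool) false (Bool.rec (motive := fun _ => Bool) false (Bool.rec (motive := fun _ => Bool) false (Bool.rec (motive := fun _ => Bool) false (Bool.rec (motive := fun _ => Bool) false (Bool.rec (motive := fun _ => Bool) false (Bool.rec (motive := fun _ => Bool) false true (Nat.beq (F_l (WF_0 (WF_0 (WF_0 (WF_0 (WF_0 (WF_0 (WF_0 (WF_0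 (WF_0 q)))))))))) q)) (Nat.beq (F_i (F_i q)) q)) (Nat.beq (F_h (F_i (F_h (F_i (F_h (F_i q)))))) q)) (Nat.beq (F_h (F_h q)) q)) (Nat.beq (F_j (F_i (F_j (F_i q)))) q)) (Nat.beq (F_j (F_h (F_j (F_h q)))) q)) (Nat.beq (F_j (F_j q)) q)) (Nat.beq (F_g (F_i (F_g (F_i q)))) q)) (Nat.beq (F_g (F_h (F_g (F_h q)))) q)) (Nat.beq (F_g (F_j (F_g (F_j (F_g (F_j q)))))) q)) (Nat.beq (F_g (F_g q)) q)) (Nat.beq (F_f (F_i (F_f (F_i q)))) q))
noncomputable def Rf_6 (q : ℕ) : Bool := (Bool.rec (motive := fun _ => Bool) false true (Nat.beq (WF_1 (WF_1 (WF_1 (WF_1 (WF_1 (WF_1 (WF_1 (WF_1 (WF_1 (WF_1 (WF_1 (WF_1 (WF_1 (WF_1 (WF_1 (WF_1 (WF_1 q))))))))))))))))) q))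
end CfsgLib.TCFi24
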