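import Cfsg.Agent.EqBase
import Cfsg.Agent.LibTCFi24W
set_option autoImplicit false
set_option linter.all false
set_option maxRecDepth 1000000
set_option maxHeartbeats 0
namespace CfsgLib.TCFi24
open CfsgLib.TC Cfsg.Spor CfsgLib.TCG_Fi24
noncomputable def mini0S : Tr (Fc Col) := (Tr.nd (nat_lit 359) (Tr.nd (nat_lit 179) (Tr.nd (nat_lit 89) (Tr.nd (nat_lit 44) (Tr.nd (nat_lit 22) (Tr.nd (nat_lit 11) (Tr.nd (nat_lit 5) (Tr.nd (nat_lit 2) (Tr.nd (nat_lit 1) (Tr.lf (Fc.ed (nat_lit 0) (nat_lit 0) Col.a (nat_lit 0) (Dv.sb (nat_lit 0) [] [])))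
(Tr.lf (Fc.ed (nat_lit 1) (nat_lit 0) Col.b (nat_lit 0) (Dv.sb (nat_lit 1) [] []))))
(Tr.nd (nat_lit 3) (Tr.lf (Fc.ed (nat_lit 2) (nat_lit 0) Col.c (nat_lit 0) (Dv.sb (nat_lit 2) [] [])))
(Tr.nd (nat_lit 4) (Tr.lf (Fc.ed (nat_lit 3) (nat_lit 0) Col.d (nat_lit 0) (Dv.sb (nat_lit 3) [] [])))
(Tr.lf (Fc.ed (nat_lit 4) (nat_lit 0) Col.e (nat_lit 0) (Dv.sb (nat_lit 4) [] []))))))
(Tr.nd (nat_lit 8) (Tr.nd (nat_lit 6) (Tr.lf (Fc.ed (nat_lit 5) (nat_lit 0) Col.f (nat_lit 0) (Dv.sb (nat_lit 5) [] [])))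
(Tr.nd (nat_lit 7) (Tr.lf (Fc.ed (nat_lit 6) (nat_lit 0) Col.h (nat_lit 0) (Dv.sb (nat_lit 6) [] [])))
(Tr.lf (Fc.ed (nat_lit 7) (nat_lit 0) Col.i (nat_lit 0) (Dv.sb (nat_lit 7) [] [])))))
(Tr.nd (nat_lit 9) (Tr.lf (Fc.ed (nat_lit 8) (nat_lit 0) Col.k (nat_lit 1) Dv.df))
(Tr.nd (nat_lit 10) (Tr.lf (Fc.ed (nat_lit 9) (nat_lit 1) Col.b (nat_lit 1) (Dv.wd (nat_lit 8) [Mv.b (nat_lit 8), Mv.f (nat_lit 1), Mv.f (nat_lit 8)])))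
(Tr.lf (Fc.ed (nat_lit 10) (nat_lit 1) Col.c (nat_lit 1) (Dv.wd (nat_lit 9) [Mv.b (nat_lit 8), Mv.f (nat_lit 2), Mv.f (nat_lit 8)])))))))
(Tr.nd (nat_lit 16) (Tr.nd (nat_lit 13) (Tr.nd (nat_lit 12) (Tr.lf (Fc.ed (nat_lit 11) (nat_lit 1) Col.d (nat_lit 1) (Dv.wd (nat_lit 10) [Mv.b (nat_lit 8), Mv.f (nat_lit 3), Mv.f (nat_lit 8)])))
(Tr.lf (Fc.ed (nat_lit 12) (nat_lit 1) Col.e (nat_lit 1) (Dv.wd (nat_lit 11) [Mv.b (nat_lit 8), Mv.f (nat_lit 4), Mv.f (nat_lit 8)]))))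
(Tr.nd (nat_lit 14) (Tr.lf (Fc.ed (nat_lit 13) (nat_lit 1) Col.f (nat_lit 1) (Dv.wd (nat_lit 12) [Mv.b (nat_lit 8), Mv.f (nat_lit 5), Mv.f (nat_lit 8)])))
(Tr.nd (nat_lit 15) (Tr.lf (Fc.ed (nat_lit 14) (nat_lit 1) Col.h (nat_lit 1) (Dv.wd (nat_lit 13) [Mv.b (nat_lit 8), Mv.f (nat_lit 6), Mv.f (nat_lit 8)])))
(Tr.lf (Fc.ed (nat_lit 15) (nat_lit 1) Col.i (nat_lit 1) (Dv.wd (nat_lit 14) [Mv.b (nat_lit 8), Mv.f (nat_lit 7), Mv.f (nat_lit 8)]))))))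
(Tr.nd (nat_lit 19) (Tr.nd (nat_lit 17) (Tr.lf (Fc.ed (nat_lit 16) (nat_lit 1) Col.a (nat_lit 2) Dv.df))
(Tr.nd (nat_lit 18) (Tr.lf (Fc.ed (nat_lit 17) (nat_lit 2) Col.c (nat_lit 2) (Dv.wd (nat_lit 15) [Mv.b (nat_lit 16), Mv.f (nat_lit 10), Mv.f (nat_lit 16)])))
(Tr.lf (Fc.ed (nat_lit 18) (nat_lit 2) Col.d (nat_lit 2) (Dv.wd (nat_lit 16) [Mv.b (nat_lit 16), Mv.f (nat_lit 11), Mv.f (nat_lit 16)])))))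
(Tr.nd (nat_lit 20) (Tr.lf (Fc.ed (nat_lit 19) (nat_lit 2) Col.e (nat_lit 2) (Dv.wd (nat_lit 17) [Mv.b (nat_lit 16), Mv.f (nat_lit 12), Mv.f (nat_lit 16)])))
(Tr.nd (nat_lit 21) (Tr.lf (Fc.ed (nat_lit 20) (nat_lit 2) Col.f (nat_lit 2) (Dv.wd (nat_lit 18) [Mv.b (nat_lit 16), Mv.f (nat_lit 13), Mv.f (nat_lit 16)])))
(Tr.lf (Fc.ed (nat_lit 21) (nat_lit 2) Col.h (nat_lit 2) (Dv.wd (nat_lit 19) [Mv.b (nat_lit 16), Mv.f (nat_lit 14), Mv.f (nat_lit 16)]))))))))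
(Tr.nd (nat_lit 33) (Tr.nd (nat_lit 27) (Tr.nd (nat_lit 24) (Tr.nd (nat_lit 23) (Tr.lf (Fc.ed (nat_lit 22) (nat_lit 2) Col.i (nat_lit 2) (Dv.wd (nat_lit 20) [Mv.b (nat_lit 16), Mv.f (nat_lit 15), Mv.f (nat_lit 16)])))
(Tr.lf (Fc.ed (nat_lit 23) (nat_lit 2) Col.k (nat_lit 2) (Dv.wd (nat_lit 21) [Mv.b (nat_lit 16), Mv.b (nat_lit 8), Mv.f (nat_lit 0), Mv.f (nat_lit 8), Mv.f (nat_lit 16)]))))
(Tr.nd (nat_lit 25) (Tr.lf (Fc.ed (nat_lit 24) (nat_lit 2) Col.b (nat_lit 3) Dv.df))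
(Tr.nd (nat_lit 26) (Tr.lf (Fc.ed (nat_lit 25) (nat_lit 3) Col.k (nat_lit 3) (Dv.wd (nat_lit 22) [Mv.b (nat_lit 24), Mv.f (nat_lit 23), Mv.f (nat_lit 24)])))
(Tr.lf (Fc.ed (nat_lit 26) (nat_lit 3) Col.d (nat_lit 3) (Dv.wd (nat_lit 23) [Mv.b (nat_lit 24), Mv.f (nat_lit 18), Mv.f (nat_lit 24)]))))))
(Tr.nd (nat_lit 30) (Tr.nd (nat_lit 28) (Tr.lf (Fc.ed (nat_lit 27) (nat_lit 3) Col.e (nat_lit 3) (Dv.wd (nat_lit 24) [Mv.b (nat_lit 24), Mv.f (nat_lit 19), Mv.f (nat_lit 24)])))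
(Tr.nd (nat_lit 29) (Tr.lf (Fc.ed (nat_lit 28) (nat_lit 3) Col.f (nat_lit 3) (Dv.wd (nat_lit 25) [Mv.b (nat_lit 24), Mv.f (nat_lit 20), Mv.f (nat_lit 24)])))
(Tr.lf (Fc.ed (nat_lit 29) (nat_lit 3) Col.h (nat_lit 3) (Dv.wd (nat_lit 26) [Mv.b (nat_lit 24), Mv.f (nat_lit 21), Mv.f (nat_lit 24)])))))
(Tr.nd (nat_lit 31) (Tr.lf (Fc.ed (nat_lit 30) (nat_lit 3) Col.i (nat_lit 3) (Dv.wd (nat_lit 27) [Mv.b (nat_lit 24), Mv.f (nat_lit 22), Mv.f (nat_lit 24)])))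
(Tr.nd (nat_lit 32) (Tr.lf (Fc.ed (nat_lit 31) (nat_lit 3) Col.a (nat_lit 3) (Dv.wd (nat_lit 28) [Mv.b (nat_lit 24), Mv.b (nat_lit 16), Mv.f (nat_lit 9), Mv.f (nat_lit 16), Mv.f (nat_lit 24)])))
(Tr.lf (Fc.ed (nat_lit 32) (nat_lit 3) Col.c (nat_lit 4) Dv.df))))))
(Tr.nd (nat_lit 38) (Tr.nd (nat_lit 35) (Tr.nd (nat_lit 34) (Tr.lf (Fc.ed (nat_lit 33) (nat_lit 4) Col.k (nat_lit 4) (Dv.wd (nat_lit 29) [Mv.b (nat_lit 32), Mv.f (nat_lit 25), Mv.f (nat_lit 32)])))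
(Tr.lf (Fc.ed (nat_lit 34) (nat_lit 4) Col.a (nat_lit 4) (Dv.wd (nat_lit 30) [Mv.b (nat_lit 32), Mv.f (nat_lit 31), Mv.f (nat_lit 32)]))))
(Tr.nd (nat_lit 36) (Tr.lf (Fc.ed (nat_lit 35) (nat_lit 4) Col.e (nat_lit 4) (Dv.wd (nat_lit 31) [Mv.b (nat_lit 32), Mv.f (nat_lit 27), Mv.f (nat_lit 32)])))
(Tr.nd (nat_lit 37) (Tr.lf (Fc.ed (nat_lit 36) (nat_lit 4) Col.f (nat_lit 4) (Dv.wd (nat_lit 32) [Mv.b (nat_lit 32), Mv.f (nat_lit 28), Mv.f (nat_lit 32)])))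
(Tr.lf (Fc.ed (nat_lit 37) (nat_lit 4) Col.h (nat_lit 4) (Dv.wd (nat_lit 33) [Mv.b (nat_lit 32), Mv.f (nat_lit 29), Mv.f (nat_lit 32)]))))))
(Tr.nd (nat_lit 41) (Tr.nd (nat_lit 39) (Tr.lf (Fc.ed (nat_lit 38) (nat_lit 4) Col.i (nat_lit 4) (Dv.wd (nat_lit 34) [Mv.b (nat_lit 32), Mv.f (nat_lit 30), Mv.f (nat_lit 32)])))
(Tr.nd (nat_lit 40) (Tr.lf (Fc.ed (nat_lit 39) (nat_lit 4) Col.b (nat_lit 4) (Dv.wd (nat_lit 35) [Mv.b (nat_lit 32), Mv.b (nat_lit 24), Mv.f (nat_lit 17), Mv.f (nat_lit 24), Mv.f (nat_lit 32)])))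
(Tr.lf (Fc.ed (nat_lit 40) (nat_lit 4) Col.d (nat_lit 5) Dv.df))))
(Tr.nd (nat_lit 42) (Tr.lf (Fc.ed (nat_lit 41) (nat_lit 5) Col.k (nat_lit 5) (Dv.wd (nat_lit 36) [Mv.b (nat_lit 40), Mv.f (nat_lit 33), Mv.f (nat_lit 40)])))
(Tr.nd (nat_lit 43) (Tr.lf (Fc.ed (nat_lit 42) (nat_lit 5) Col.a (nat_lit 5) (Dv.wd (nat_lit 37) [Mv.b (nat_lit 40), Mv.f (nat_lit 34), Mv.f (nat_lit 40)])))
(Tr.lf (Fc.ed (nat_lit 43) (nat_lit 5) Col.b (nat_lit 5) (Dv.wd (nat_lit 38) [Mv.b (nat_lit 40), Mv.f (nat_lit 39), Mv.f (nat_lit 40)])))))))))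
(Tr.nd (nat_lit 66) (Tr.nd (nat_lit 55) (Tr.nd (nat_lit 49) (Tr.nd (nat_lit 46) (Tr.nd (nat_lit 45) (Tr.lf (Fc.ed (nat_lit 44) (nat_lit 5) Col.f (nat_lit 5) (Dv.wd (nat_lit 39) [Mv.b (nat_lit 40), Mv.f (nat_lit 36), Mv.f (nat_lit 40)])))
(Tr.lf (Fc.ed (nat_lit 45) (nat_lit 5) Col.i (nat_lit 5) (Dv.wd (nat_lit 40) [Mv.b (nat_lit 40), Mv.f (nat_lit 38), Mv.f (nat_lit 40)]))))
(Tr.nd (nat_lit 47) (Tr.lf (Fc.ed (nat_lit 46) (nat_lit 5) Col.c (nat_lit 5) (Dv.wd (nat_lit 41) [Mv.b (nat_lit 40), Mv.b (nat_lit 32), Mv.f (nat_lit 26), Mv.f (nat_lit 32), Mv.f (nat_lit 40)])))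
(Tr.nd (nat_lit 48) (Tr.lf (Fc.ed (nat_lit 47) (nat_lit 5) Col.e (nat_lit 6) Dv.df))
(Tr.lf (Fc.ed (nat_lit 48) (nat_lit 6) Col.k (nat_lit 6) (Dv.wd (nat_lit 42) [Mv.b (nat_lit 47), Mv.f (nat_lit 41), Mv.f (nat_lit 47)]))))))
(Tr.nd (nat_lit 52) (Tr.nd (nat_lit 50) (Tr.lf (Fc.ed (nat_lit 49) (nat_lit 6) Col.a (nat_lit 6) (Dv.wd (nat_lit 43) [Mv.b (nat_lit 47), Mv.f (nat_lit 42), Mv.f (nat_lit 47)])))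
(Tr.nd (nat_lit 51) (Tr.lf (Fc.ed (nat_lit 50) (nat_lit 6) Col.b (nat_lit 6) (Dv.wd (nat_lit 44) [Mv.b (nat_lit 47), Mv.f (nat_lit 43), Mv.f (nat_lit 47)])))
(Tr.lf (Fc.ed (nat_lit 51) (nat_lit 6) Col.c (nat_lit 6) (Dv.wd (nat_lit 45) [Mv.b (nat_lit 47), Mv.f (nat_lit 46), Mv.f (nat_lit 47)])))))
(Tr.nd (nat_lit 53) (Tr.lf (Fc.ed (nat_lit 52) (nat_lit 6) Col.i (nat_lit 6) (Dv.wd (nat_lit 46) [Mv.b (nat_lit 47), Mv.f (nat_lit 45), Mv.f (nat_lit 47)])))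
(Tr.nd (nat_lit 54) (Tr.lf (Fc.ed (nat_lit 53) (nat_lit 6) Col.d (nat_lit 6) (Dv.wd (nat_lit 47) [Mv.b (nat_lit 47), Mv.b (nat_lit 40), Mv.f (nat_lit 35), Mv.f (nat_lit 40), Mv.f (nat_lit 47)])))
(Tr.lf (Fc.ed (nat_lit 54) (nat_lit 6) Col.h (nat_lit 7) Dv.df))))))
(Tr.nd (nat_lit 60) (Tr.nd (nat_lit 57) (Tr.nd (nat_lit 56) (Tr.lf (Fc.ed (nat_lit 55) (nat_lit 7) Col.k (nat_lit 7) (Dv.wd (nat_lit 48) [Mv.b (nat_lit 54), Mv.f (nat_lit 48), Mv.f (nat_lit 54)])))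
(Tr.lf (Fc.ed (nat_lit 56) (nat_lit 7) Col.a (nat_lit 7) (Dv.wd (nat_lit 49) [Mv.b (nat_lit 54), Mv.f (nat_lit 49), Mv.f (nat_lit 54)]))))
(Tr.nd (nat_lit 58) (Tr.lf (Fc.ed (nat_lit 57) (nat_lit 7) Col.b (nat_lit 7) (Dv.wd (nat_lit 50) [Mv.b (nat_lit 54), Mv.f (nat_lit 50), Mv.f (nat_lit 54)])))
(Tr.nd (nat_lit 59) (Tr.lf (Fc.ed (nat_lit 58) (nat_lit 7) Col.c (nat_lit 7) (Dv.wd (nat_lit 51) [Mv.b (nat_lit 54), Mv.f (nat_lit 51), Mv.f (nat_lit 54)])))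
(Tr.lf (Fc.ed (nat_lit 59) (nat_lit 7) Col.d (nat_lit 8) Dv.df)))))
(Tr.nd (nat_lit 63) (Tr.nd (nat_lit 61) (Tr.lf (Fc.ed (nat_lit 60) (nat_lit 8) Col.k (nat_lit 8) (Dv.wd (nat_lit 36) [Mv.b (nat_lit 59), Mv.f (nat_lit 55), Mv.f (nat_lit 59)])))
(Tr.nd (nat_lit 62) (Tr.lf (Fc.ed (nat_lit 61) (nat_lit 8) Col.a (nat_lit 8) (Dv.wd (nat_lit 37) [Mv.b (nat_lit 59), Mv.f (nat_lit 56), Mv.f (nat_lit 59)])))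
(Tr.lf (Fc.ed (nat_lit 62) (nat_lit 8) Col.b (nat_lit 8) (Dv.wd (nat_lit 38) [Mv.b (nat_lit 59), Mv.f (nat_lit 57), Mv.f (nat_lit 59)])))))
(Tr.nd (nat_lit 64) (Tr.lf (Fc.ed (nat_lit 63) (nat_lit 8) Col.h (nat_lit 8) (Dv.wd (nat_lit 52) [Mv.b (nat_lit 59), Mv.b (nat_lit 54), Mv.f (nat_lit 53), Mv.f (nat_lit 54), Mv.f (nat_lit 59)])))
(Tr.nd (nat_lit 65) (Tr.lf (Fc.ed (nat_lit 64) (nat_lit 8) Col.c (nat_lit 9) Dv.df))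
(Tr.lf (Fc.ed (nat_lit 65) (nat_lit 9) Col.k (nat_lit 9) (Dv.wd (nat_lit 29) [Mv.b (nat_lit 64), Mv.f (nat_lit 60), Mv.f (nat_lit 64)]))))))))
(Tr.nd (nat_lit 77) (Tr.nd (nat_lit 71) (Tr.nd (nat_lit 68) (Tr.nd (nat_lit 67) (Tr.lf (Fc.ed (nat_lit 66) (nat_lit 9) Col.a (nat_lit 9) (Dv.wd (nat_lit 30) [Mv.b (nat_lit 64), Mv.f (nat_lit 61), Mv.f (nat_lit 64)])))
(Tr.lf (Fc.ed (nat_lit 67) (nat_lit 9) Col.h (nat_lit 9) (Dv.wd (nat_lit 33) [Mv.b (nat_lit 64), Mv.f (nat_lit 63), Mv.f (nat_lit 64)]))))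
(Tr.nd (nat_lit 69) (Tr.lf (Fc.ed (nat_lit 68) (nat_lit 9) Col.d (nat_lit 9) (Dv.wd (nat_lit 53) [Mv.b (nat_lit 64), Mv.b (nat_lit 59), Mv.f (nat_lit 58), Mv.f (nat_lit 59), Mv.f (nat_lit 64)])))
(Tr.nd (nat_lit 70) (Tr.lf (Fc.ed (nat_lit 69) (nat_lit 9) Col.b (nat_lit 10) Dv.df))
(Tr.lf (Fc.ed (nat_lit 70) (nat_lit 10) Col.k (nat_lit 10) (Dv.wd (nat_lit 22) [Mv.b (nat_lit 69), Mv.f (nat_lit 65), Mv.f (nat_lit 69)]))))))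
(Tr.nd (nat_lit 74) (Tr.nd (nat_lit 72) (Tr.lf (Fc.ed (nat_lit 71) (nat_lit 10) Col.d (nat_lit 10) (Dv.wd (nat_lit 23) [Mv.b (nat_lit 69), Mv.f (nat_lit 68), Mv.f (nat_lit 69)])))
(Tr.nd (nat_lit 73) (Tr.lf (Fc.ed (nat_lit 72) (nat_lit 10) Col.h (nat_lit 10) (Dv.wd (nat_lit 26) [Mv.b (nat_lit 69), Mv.f (nat_lit 67), Mv.f (nat_lit 69)])))
(Tr.lf (Fc.ed (nat_lit 73) (nat_lit 10) Col.c (nat_lit 10) (Dv.wd (nat_lit 54) [Mv.b (nat_lit 69), Mv.b (nat_lit 64), Mv.f (nat_lit 62), Mv.f (nat_lit 64), Mv.f (nat_lit 69)])))))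
(Tr.nd (nat_lit 75) (Tr.lf (Fc.ed (nat_lit 74) (nat_lit 10) Col.a (nat_lit 11) Dv.df))
(Tr.nd (nat_lit 76) (Tr.lf (Fc.ed (nat_lit 75) (nat_lit 11) Col.c (nat_lit 11) (Dv.wd (nat_lit 15) [Mv.b (nat_lit 74), Mv.f (nat_lit 73), Mv.f (nat_lit 74)])))
(Tr.lf (Fc.ed (nat_lit 76) (nat_lit 11) Col.d (nat_lit 11) (Dv.wd (nat_lit 16) [Mv.b (nat_lit 74), Mv.f (nat_lit 71), Mv.f (nat_lit 74)])))))))
(Tr.nd (nat_lit 83) (Tr.nd (nat_lit 80) (Tr.nd (nat_lit 78) (Tr.lf (Fc.ed (nat_lit 77) (nat_lit 11) Col.b (nat_lit 11) (Dv.wd (nat_lit 55) [Mv.b (nat_lit 74), Mv.b (nat_lit 69), Mv.f (nat_lit 66), Mv.f (nat_lit 69), Mv.f (nat_lit 74)])))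
(Tr.nd (nat_lit 79) (Tr.lf (Fc.ed (nat_lit 78) (nat_lit 11) Col.i (nat_lit 12) Dv.df))
(Tr.lf (Fc.ed (nat_lit 79) (nat_lit 12) Col.b (nat_lit 12) (Dv.wd (nat_lit 56) [Mv.b (nat_lit 78), Mv.f (nat_lit 77), Mv.f (nat_lit 78)])))))
(Tr.nd (nat_lit 81) (Tr.lf (Fc.ed (nat_lit 80) (nat_lit 12) Col.c (nat_lit 12) (Dv.wd (nat_lit 57) [Mv.b (nat_lit 78), Mv.f (nat_lit 75), Mv.f (nat_lit 78)])))
(Tr.nd (nat_lit 82) (Tr.lf (Fc.ed (nat_lit 81) (nat_lit 12) Col.d (nat_lit 12) (Dv.wd (nat_lit 58) [Mv.b (nat_lit 78), Mv.f (nat_lit 76), Mv.f (nat_lit 78)])))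
(Tr.lf (Fc.ed (nat_lit 82) (nat_lit 12) Col.h (nat_lit 13) Dv.df)))))
(Tr.nd (nat_lit 86) (Tr.nd (nat_lit 84) (Tr.lf (Fc.ed (nat_lit 83) (nat_lit 13) Col.b (nat_lit 13) (Dv.wd (nat_lit 50) [Mv.b (nat_lit 82), Mv.f (nat_lit 79), Mv.f (nat_lit 82)])))
(Tr.nd (nat_lit 85) (Tr.lf (Fc.ed (nat_lit 84) (nat_lit 13) Col.c (nat_lit 13) (Dv.wd (nat_lit 51) [Mv.b (nat_lit 82), Mv.f (nat_lit 80), Mv.f (nat_lit 82)])))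
(Tr.lf (Fc.ed (nat_lit 85) (nat_lit 13) Col.d (nat_lit 14) Dv.df))))
(Tr.nd (nat_lit 87) (Tr.lf (Fc.ed (nat_lit 86) (nat_lit 14) Col.b (nat_lit 14) (Dv.wd (nat_lit 38) [Mv.b (nat_lit 85), Mv.f (nat_lit 83), Mv.f (nat_lit 85)])))
(Tr.nd (nat_lit 88) (Tr.lf (Fc.ed (nat_lit 87) (nat_lit 14) Col.h (nat_lit 14) (Dv.wd (nat_lit 52) [Mv.b (nat_lit 85), Mv.b (nat_lit 82), Mv.f (nat_lit 81), Mv.f (nat_lit 82), Mv.f (nat_lit 85)])))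
(Tr.lf (Fc.ed (nat_lit 88) (nat_lit 14) Col.c (nat_lit 15) Dv.df)))))))))
(Tr.nd (nat_lit 134) (Tr.nd (nat_lit 111) (Tr.nd (nat_lit 100) (Tr.nd (nat_lit 94) (Tr.nd (nat_lit 91) (Tr.nd (nat_lit 90) (Tr.lf (Fc.ed (nat_lit 89) (nat_lit 15) Col.h (nat_lit 15) (Dv.wd (nat_lit 33) [Mv.b (nat_lit 88), Mv.f (nat_lit 87), Mv.f (nat_lit 88)])))
(Tr.lf (Fc.ed (nat_lit 90) (nat_lit 15) Col.d (nat_lit 15) (Dv.wd (nat_lit 53) [Mv.b (nat_lit 88), Mv.b (nat_lit 85), Mv.f (nat_lit 84), Mv.f (nat_lit 85), Mv.f (nat_lit 88)]))))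
(Tr.nd (nat_lit 92) (Tr.lf (Fc.ed (nat_lit 91) (nat_lit 15) Col.e (nat_lit 16) Dv.df))
(Tr.nd (nat_lit 93) (Tr.lf (Fc.ed (nat_lit 92) (nat_lit 16) Col.d (nat_lit 17) Dv.df))
(Tr.lf (Fc.ed (nat_lit 93) (nat_lit 17) Col.e (nat_lit 17) (Dv.wd (nat_lit 59) [Mv.b (nat_lit 92), Mv.b (nat_lit 91), Mv.f (nat_lit 90), Mv.f (nat_lit 91), Mv.f (nat_lit 92)]))))))
(Tr.nd (nat_lit 97) (Tr.nd (nat_lit 95) (Tr.lf (Fc.ed (nat_lit 94) (nat_lit 17) Col.h (nat_lit 18) Dv.df))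
(Tr.nd (nat_lit 96) (Tr.lf (Fc.ed (nat_lit 95) (nat_lit 18) Col.e (nat_lit 18) (Dv.wd (nat_lit 60) [Mv.b (nat_lit 94), Mv.f (nat_lit 93), Mv.f (nat_lit 94)])))
(Tr.lf (Fc.ed (nat_lit 96) (nat_lit 18) Col.i (nat_lit 19) Dv.df))))
(Tr.nd (nat_lit 98) (Tr.lf (Fc.ed (nat_lit 97) (nat_lit 19) Col.e (nat_lit 19) (Dv.wd (nat_lit 61) [Mv.b (nat_lit 96), Mv.f (nat_lit 95), Mv.f (nat_lit 96)])))
(Tr.nd (nat_lit 99) (Tr.lf (Fc.ed (nat_lit 98) (nat_lit 19) Col.b (nat_lit 20) Dv.df))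
(Tr.lf (Fc.ed (nat_lit 99) (nat_lit 20) Col.e (nat_lit 20) (Dv.wd (nat_lit 24) [Mv.b (nat_lit 98), Mv.f (nat_lit 97), Mv.f (nat_lit 98)])))))))
(Tr.nd (nat_lit 105) (Tr.nd (nat_lit 102) (Tr.nd (nat_lit 101) (Tr.lf (Fc.ed (nat_lit 100) (nat_lit 20) Col.c (nat_lit 21) Dv.df))
(Tr.lf (Fc.ed (nat_lit 101) (nat_lit 21) Col.e (nat_lit 21) (Dv.wd (nat_lit 31) [Mv.b (nat_lit 100), Mv.f (nat_lit 99), Mv.f (nat_lit 100)]))))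
(Tr.nd (nat_lit 103) (Tr.lf (Fc.ed (nat_lit 102) (nat_lit 21) Col.d (nat_lit 22) Dv.df))
(Tr.nd (nat_lit 104) (Tr.lf (Fc.ed (nat_lit 103) (nat_lit 22) Col.h (nat_lit 23) Dv.df))
(Tr.lf (Fc.ed (nat_lit 104) (nat_lit 23) Col.e (nat_lit 24) Dv.df)))))
(Tr.nd (nat_lit 108) (Tr.nd (nat_lit 106) (Tr.lf (Fc.ed (nat_lit 105) (nat_lit 24) Col.d (nat_lit 25) Dv.df))
(Tr.nd (nat_lit 107) (Tr.lf (Fc.ed (nat_lit 106) (nat_lit 25) Col.c (nat_lit 26) Dv.df))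
(Tr.lf (Fc.ed (nat_lit 107) (nat_lit 26) Col.b (nat_lit 27) Dv.df))))
(Tr.nd (nat_lit 109) (Tr.lf (Fc.ed (nat_lit 108) (nat_lit 27) Col.a (nat_lit 28) Dv.df))
(Tr.nd (nat_lit 110) (Tr.lf (Fc.ed (nat_lit 109) (nat_lit 12) Col.k (nat_lit 29) Dv.df))
(Tr.lf (Fc.ed (nat_lit 110) (nat_lit 10) Col.i (nat_lit 30) Dv.df)))))))
(Tr.nd (nat_lit 122) (Tr.nd (nat_lit 116) (Tr.nd (nat_lit 113) (Tr.nd (nat_lit 112) (Tr.lf (Fc.ed (nat_lit 111) (nat_lit 30) Col.k (nat_lit 30) (Dv.wd (nat_lit 62) [Mv.b (nat_lit 110), Mv.f (nat_lit 70), Mv.f (nat_lit 110)])))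
(Tr.lf (Fc.ed (nat_lit 112) (nat_lit 30) Col.a (nat_lit 12) (Dv.wd (nat_lit 63) [Mv.b (nat_lit 78), Mv.b (nat_lit 74), Mv.f (nat_lit 110)]))))
(Tr.nd (nat_lit 114) (Tr.lf (Fc.ed (nat_lit 113) (nat_lit 29) Col.a (nat_lit 29) (Dv.wd (nat_lit 64) [Mv.b (nat_lit 109), Mv.b (nat_lit 112), Mv.f (nat_lit 111), Mv.f (nat_lit 112), Mv.f (nat_lit 109)])))
(Tr.nd (nat_lit 115) (Tr.lf (Fc.ed (nat_lit 114) (nat_lit 14) Col.e (nat_lit 31) Dv.df))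
(Tr.lf (Fc.ed (nat_lit 115) (nat_lit 31) Col.b (nat_lit 31) (Dv.wd (nat_lit 44) [Mv.b (nat_lit 114), Mv.f (nat_lit 86), Mv.f (nat_lit 114)]))))))
(Tr.nd (nat_lit 119) (Tr.nd (nat_lit 117) (Tr.lf (Fc.ed (nat_lit 116) (nat_lit 31) Col.c (nat_lit 16) (Dv.wd (nat_lit 45) [Mv.b (nat_lit 91), Mv.b (nat_lit 88), Mv.f (nat_lit 114)])))
(Tr.nd (nat_lit 118) (Tr.lf (Fc.ed (nat_lit 117) (nat_lit 11) Col.k (nat_lit 32) Dv.df))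
(Tr.lf (Fc.ed (nat_lit 118) (nat_lit 32) Col.i (nat_lit 29) (Dv.wd (nat_lit 14) [Mv.b (nat_lit 109), Mv.b (nat_lit 78), Mv.f (nat_lit 117)])))))
(Tr.nd (nat_lit 120) (Tr.lf (Fc.ed (nat_lit 119) (nat_lit 10) Col.l (nat_lit 33) Dv.df))
(Tr.nd (nat_lit 121) (Tr.lf (Fc.ed (nat_lit 120) (nat_lit 33) Col.h (nat_lit 33) (Dv.wd (nat_lit 65) [Mv.b (nat_lit 119), Mv.f (nat_lit 72), Mv.f (nat_lit 119)])))
(Tr.lf (Fc.ed (nat_lit 121) (nat_lit 13) Col.k (nat_lit 34) Dv.df))))))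
(Tr.nd (nat_lit 128) (Tr.nd (nat_lit 125) (Tr.nd (nat_lit 123) (Tr.lf (Fc.ed (nat_lit 122) (nat_lit 34) Col.h (nat_lit 29) (Dv.wd (nat_lit 13) [Mv.b (nat_lit 109), Mv.f (nat_lit 82), Mv.f (nat_lit 121)])))
(Tr.nd (nat_lit 124) (Tr.lf (Fc.ed (nat_lit 123) (nat_lit 34) Col.a (nat_lit 34) (Dv.wd (nat_lit 66) [Mv.f (nat_lit 122), Mv.f (nat_lit 113), Mv.b (nat_lit 122)])))
(Tr.lf (Fc.ed (nat_lit 124) (nat_lit 7) Col.l (nat_lit 35) Dv.df))))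
(Tr.nd (nat_lit 126) (Tr.lf (Fc.ed (nat_lit 125) (nat_lit 16) Col.b (nat_lit 36) Dv.df))
(Tr.nd (nat_lit 127) (Tr.lf (Fc.ed (nat_lit 126) (nat_lit 14) Col.a (nat_lit 37) Dv.df))
(Tr.lf (Fc.ed (nat_lit 127) (nat_lit 37) Col.h (nat_lit 37) (Dv.wd (nat_lit 19) [Mv.b (nat_lit 126), Mv.f (nat_lit 87), Mv.f (nat_lit 126)]))))))
(Tr.nd (nat_lit 131) (Tr.nd (nat_lit 129) (Tr.lf (Fc.ed (nat_lit 128) (nat_lit 1) Col.l (nat_lit 38) Dv.df))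
(Tr.nd (nat_lit 130) (Tr.lf (Fc.ed (nat_lit 129) (nat_lit 35) Col.d (nat_lit 39) Dv.df))
(Tr.lf (Fc.ed (nat_lit 130) (nat_lit 39) Col.l (nat_lit 8) (Dv.wd (nat_lit 67) [Mv.b (nat_lit 59), Mv.f (nat_lit 124), Mv.f (nat_lit 129)])))))
(Tr.nd (nat_lit 132) (Tr.lf (Fc.ed (nat_lit 131) (nat_lit 35) Col.h (nat_lit 40) Dv.df))
(Tr.nd (nat_lit 133) (Tr.lf (Fc.ed (nat_lit 132) (nat_lit 40) Col.l (nat_lit 6) (Dv.wd (nat_lit 68) [Mv.f (nat_lit 54), Mv.f (nat_lit 124), Mv.f (nat_lit 131)])))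
(Tr.lf (Fc.ed (nat_lit 133) (nat_lit 15) Col.k (nat_lit 41) Dv.df))))))))
(Tr.nd (nat_lit 156) (Tr.nd (nat_lit 145) (Tr.nd (nat_lit 139) (Tr.nd (nat_lit 136) (Tr.nd (nat_lit 135) (Tr.lf (Fc.ed (nat_lit 134) (nat_lit 13) Col.l (nat_lit 42) Dv.df))
(Tr.lf (Fc.ed (nat_lit 135) (nat_lit 18) Col.k (nat_lit 43) Dv.df)))
(Tr.nd (nat_lit 137) (Tr.lf (Fc.ed (nat_lit 136) (nat_lit 21) Col.b (nat_lit 44) Dv.df))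
(Tr.nd (nat_lit 138) (Tr.lf (Fc.ed (nat_lit 137) (nat_lit 33) Col.a (nat_lit 45) Dv.df))
(Tr.lf (Fc.ed (nat_lit 138) (nat_lit 45) Col.l (nat_lit 11) (Dv.wd (nat_lit 69) [Mv.b (nat_lit 74), Mv.f (nat_lit 119), Mv.f (nat_lit 137)]))))))
(Tr.nd (nat_lit 142) (Tr.nd (nat_lit 140) (Tr.lf (Fc.ed (nat_lit 139) (nat_lit 45) Col.h (nat_lit 45) (Dv.wd (nat_lit 19) [Mv.b (nat_lit 137), Mv.f (nat_lit 120), Mv.f (nat_lit 137)])))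
(Tr.nd (nat_lit 141) (Tr.lf (Fc.ed (nat_lit 140) (nat_lit 5) Col.h (nat_lit 46) Dv.df))
(Tr.lf (Fc.ed (nat_lit 141) (nat_lit 46) Col.e (nat_lit 7) (Dv.wd (nat_lit 60) [Mv.b (nat_lit 54), Mv.b (nat_lit 47), Mv.f (nat_lit 140)])))))
(Tr.nd (nat_lit 143) (Tr.lf (Fc.ed (nat_lit 142) (nat_lit 46) Col.f (nat_lit 46) (Dv.wd (nat_lit 70) [Mv.b (nat_lit 140), Mv.f (nat_lit 44), Mv.f (nat_lit 140)])))
(Tr.nd (nat_lit 144) (Tr.lf (Fc.ed (nat_lit 143) (nat_lit 46) Col.d (nat_lit 46) (Dv.wd (nat_lit 71) [Mv.b (nat_lit 140), Mv.b (nat_lit 40), Mv.f (nat_lit 37), Mv.f (nat_lit 40), Mv.f (nat_lit 140)])))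
(Tr.lf (Fc.ed (nat_lit 144) (nat_lit 8) Col.e (nat_lit 8) (Dv.wd (nat_lit 72) [Mv.b (nat_lit 59), Mv.b (nat_lit 141), Mv.f (nat_lit 143), Mv.f (nat_lit 141), Mv.f (nat_lit 59)])))))))
(Tr.nd (nat_lit 150) (Tr.nd (nat_lit 147) (Tr.nd (nat_lit 146) (Tr.lf (Fc.ed (nat_lit 145) (nat_lit 9) Col.e (nat_lit 9) (Dv.wd (nat_lit 31) [Mv.b (nat_lit 64), Mv.f (nat_lit 144), Mv.f (nat_lit 64)])))
(Tr.lf (Fc.ed (nat_lit 146) (nat_lit 10) Col.e (nat_lit 10) (Dv.wd (nat_lit 24) [Mv.b (nat_lit 69), Mv.f (nat_lit 145), Mv.f (nat_lit 69)]))))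
(Tr.nd (nat_lit 148) (Tr.lf (Fc.ed (nat_lit 147) (nat_lit 30) Col.e (nat_lit 30) (Dv.wd (nat_lit 73) [Mv.b (nat_lit 110), Mv.f (nat_lit 146), Mv.f (nat_lit 110)])))
(Tr.nd (nat_lit 149) (Tr.lf (Fc.ed (nat_lit 148) (nat_lit 12) Col.e (nat_lit 12) (Dv.wd (nat_lit 17) [Mv.b (nat_lit 112), Mv.f (nat_lit 147), Mv.f (nat_lit 112)])))
(Tr.lf (Fc.ed (nat_lit 149) (nat_lit 13) Col.e (nat_lit 13) (Dv.wd (nat_lit 74) [Mv.b (nat_lit 82), Mv.f (nat_lit 148), Mv.f (nat_lit 82)]))))))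
(Tr.nd (nat_lit 153) (Tr.nd (nat_lit 151) (Tr.lf (Fc.ed (nat_lit 150) (nat_lit 31) Col.d (nat_lit 31) (Dv.wd (nat_lit 75) [Mv.b (nat_lit 114), Mv.b (nat_lit 85), Mv.f (nat_lit 149), Mv.f (nat_lit 85), Mv.f (nat_lit 114)])))
(Tr.nd (nat_lit 152) (Tr.lf (Fc.ed (nat_lit 151) (nat_lit 17) Col.c (nat_lit 17) (Dv.wd (nat_lit 76) [Mv.b (nat_lit 92), Mv.b (nat_lit 116), Mv.f (nat_lit 150), Mv.f (nat_lit 116), Mv.f (nat_lit 92)])))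
(Tr.lf (Fc.ed (nat_lit 152) (nat_lit 18) Col.c (nat_lit 18) (Dv.wd (nat_lit 77) [Mv.b (nat_lit 94), Mv.f (nat_lit 151), Mv.f (nat_lit 94)])))))
(Tr.nd (nat_lit 154) (Tr.lf (Fc.ed (nat_lit 153) (nat_lit 19) Col.c (nat_lit 19) (Dv.wd (nat_lit 78) [Mv.b (nat_lit 96), Mv.f (nat_lit 152), Mv.f (nat_lit 96)])))
(Tr.nd (nat_lit 155) (Tr.lf (Fc.al (nat_lit 154) (nat_lit 44) (nat_lit 21) (Dv.wd (nat_lit 79) [Mv.b (nat_lit 100), Mv.b (nat_lit 98), Mv.f (nat_lit 153), Mv.f (nat_lit 98), Mv.f (nat_lit 100), Mv.f (nat_lit 136)])))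
(Tr.lf (Fc.ed (nat_lit 155) (nat_lit 21) Col.b (nat_lit 21) (Dv.wd (nat_lit 80) [Mv.f (nat_lit 136), Mv.f (nat_lit 154)]))))))))
(Tr.nd (nat_lit 167) (Tr.nd (nat_lit 161) (Tr.nd (nat_lit 158) (Tr.nd (nat_lit 157) (Tr.lf (Fc.ed (nat_lit 156) (nat_lit 37) Col.b (nat_lit 47) Dv.df))
(Tr.lf (Fc.ed (nat_lit 157) (nat_lit 18) Col.f (nat_lit 48) Dv.df)))
(Tr.nd (nat_lit 159) (Tr.lf (Fc.ed (nat_lit 158) (nat_lit 21) Col.k (nat_lit 49) Dv.df))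
(Tr.nd (nat_lit 160) (Tr.lf (Fc.ed (nat_lit 159) (nat_lit 18) Col.b (nat_lit 50) Dv.df))
(Tr.lf (Fc.ed (nat_lit 160) (nat_lit 50) Col.i (nat_lit 20) (Dv.wd (nat_lit 27) [Mv.b (nat_lit 98), Mv.b (nat_lit 96), Mv.f (nat_lit 159)]))))))
(Tr.nd (nat_lit 164) (Tr.nd (nat_lit 162) (Tr.lf (Fc.ed (nat_lit 161) (nat_lit 41) Col.e (nat_lit 51) Dv.df))
(Tr.nd (nat_lit 163) (Tr.lf (Fc.ed (nat_lit 162) (nat_lit 51) Col.k (nat_lit 16) (Dv.wd (nat_lit 42) [Mv.b (nat_lit 91), Mv.f (nat_lit 133), Mv.f (nat_lit 161)])))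
(Tr.lf (Fc.ed (nat_lit 163) (nat_lit 13) Col.a (nat_lit 52) Dv.df))))
(Tr.nd (nat_lit 165) (Tr.lf (Fc.ed (nat_lit 164) (nat_lit 52) Col.d (nat_lit 37) (Dv.wd (nat_lit 16) [Mv.b (nat_lit 126), Mv.b (nat_lit 85), Mv.f (nat_lit 163)])))
(Tr.nd (nat_lit 166) (Tr.lf (Fc.ed (nat_lit 165) (nat_lit 52) Col.h (nat_lit 30) (Dv.wd (nat_lit 19) [Mv.f (nat_lit 112), Mv.f (nat_lit 82), Mv.f (nat_lit 163)])))
(Tr.lf (Fc.ed (nat_lit 166) (nat_lit 52) Col.k (nat_lit 52) (Dv.wd (nat_lit 21) [Mv.b (nat_lit 163), Mv.f (nat_lit 121), Mv.f (nat_lit 123), Mv.b (nat_lit 121), Mv.f (nat_lit 163)])))))))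
(Tr.nd (nat_lit 173) (Tr.nd (nat_lit 170) (Tr.nd (nat_lit 168) (Tr.lf (Fc.ed (nat_lit 167) (nat_lit 37) Col.k (nat_lit 37) (Dv.wd (nat_lit 81) [Mv.b (nat_lit 164), Mv.f (nat_lit 166), Mv.f (nat_lit 164)])))
(Tr.nd (nat_lit 169) (Tr.lf (Fc.ed (nat_lit 168) (nat_lit 37) Col.c (nat_lit 53) Dv.df))
(Tr.lf (Fc.ed (nat_lit 169) (nat_lit 53) Col.k (nat_lit 53) (Dv.wd (nat_lit 29) [Mv.b (nat_lit 168), Mv.f (nat_lit 167), Mv.f (nat_lit 168)])))))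
(Tr.nd (nat_lit 171) (Tr.lf (Fc.ed (nat_lit 170) (nat_lit 53) Col.a (nat_lit 15) (Dv.wd (nat_lit 30) [Mv.b (nat_lit 88), Mv.f (nat_lit 126), Mv.f (nat_lit 168)])))
(Tr.nd (nat_lit 172) (Tr.lf (Fc.ed (nat_lit 171) (nat_lit 41) Col.a (nat_lit 41) (Dv.wd (nat_lit 64) [Mv.b (nat_lit 133), Mv.b (nat_lit 170), Mv.f (nat_lit 169), Mv.f (nat_lit 170), Mv.f (nat_lit 133)])))
(Tr.lf (Fc.ed (nat_lit 172) (nat_lit 51) Col.a (nat_lit 51) (Dv.wd (nat_lit 82) [Mv.b (nat_lit 161), Mv.f (nat_lit 171), Mv.f (nat_lit 161)]))))))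
(Tr.nd (nat_lit 176) (Tr.nd (nat_lit 174) (Tr.lf (Fc.ed (nat_lit 173) (nat_lit 43) Col.f (nat_lit 54) Dv.df))
(Tr.nd (nat_lit 175) (Tr.lf (Fc.ed (nat_lit 174) (nat_lit 22) Col.i (nat_lit 55) Dv.df))
(Tr.lf (Fc.ed (nat_lit 175) (nat_lit 41) Col.f (nat_lit 56) Dv.df))))
(Tr.nd (nat_lit 177) (Tr.lf (Fc.ed (nat_lit 176) (nat_lit 2) Col.l (nat_lit 57) Dv.df))
(Tr.nd (nat_lit 178) (Tr.lf (Fc.ed (nat_lit 177) (nat_lit 57) Col.a (nat_lit 38) (Dv.wd (nat_lit 83) [Mv.b (nat_lit 128), Mv.f (nat_lit 16), Mv.f (nat_lit 176)])))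
(Tr.lf (Fc.ed (nat_lit 178) (nat_lit 21) Col.i (nat_lit 58) Dv.df))))))))))
(Tr.nd (nat_lit 269) (Tr.nd (nat_lit 224) (Tr.nd (nat_lit 201) (Tr.nd (nat_lit 190) (Tr.nd (nat_lit 184) (Tr.nd (nat_lit 181) (Tr.nd (nat_lit 180) (Tr.lf (Fc.ed (nat_lit 179) (nat_lit 58) Col.b (nat_lit 58) (Dv.wd (nat_lit 56) [Mv.b (nat_lit 178), Mv.f (nat_lit 155), Mv.f (nat_lit 178)])))
(Tr.lf (Fc.ed (nat_lit 180) (nat_lit 58) Col.c (nat_lit 50) (Dv.wd (nat_lit 57) [Mv.f (nat_lit 160), Mv.f (nat_lit 100), Mv.f (nat_lit 178)]))))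
(Tr.nd (nat_lit 182) (Tr.lf (Fc.ed (nat_lit 181) (nat_lit 58) Col.d (nat_lit 55) (Dv.wd (nat_lit 58) [Mv.b (nat_lit 174), Mv.b (nat_lit 102), Mv.f (nat_lit 178)])))
(Tr.nd (nat_lit 183) (Tr.lf (Fc.ed (nat_lit 182) (nat_lit 58) Col.e (nat_lit 58) (Dv.wd (nat_lit 61) [Mv.b (nat_lit 178), Mv.f (nat_lit 101), Mv.f (nat_lit 178)])))
(Tr.lf (Fc.ed (nat_lit 183) (nat_lit 17) Col.f (nat_lit 59) Dv.df)))))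
(Tr.nd (nat_lit 187) (Tr.nd (nat_lit 185) (Tr.lf (Fc.ed (nat_lit 184) (nat_lit 59) Col.h (nat_lit 48) (Dv.wd (nat_lit 84) [Mv.b (nat_lit 157), Mv.b (nat_lit 94), Mv.f (nat_lit 183)])))
(Tr.nd (nat_lit 186) (Tr.lf (Fc.ed (nat_lit 185) (nat_lit 15) Col.l (nat_lit 60) Dv.df))
(Tr.lf (Fc.ed (nat_lit 186) (nat_lit 60) Col.h (nat_lit 60) (Dv.wd (nat_lit 65) [Mv.b (nat_lit 185), Mv.f (nat_lit 89), Mv.f (nat_lit 185)])))))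
(Tr.nd (nat_lit 188) (Tr.lf (Fc.ed (nat_lit 187) (nat_lit 17) Col.b (nat_lit 61) Dv.df))
(Tr.nd (nat_lit 189) (Tr.lf (Fc.ed (nat_lit 188) (nat_lit 61) Col.d (nat_lit 36) (Dv.wd (nat_lit 23) [Mv.b (nat_lit 125), Mv.f (nat_lit 92), Mv.f (nat_lit 187)])))
(Tr.lf (Fc.ed (nat_lit 189) (nat_lit 61) Col.h (nat_lit 50) (Dv.wd (nat_lit 26) [Mv.b (nat_lit 159), Mv.b (nat_lit 94), Mv.f (nat_lit 187)])))))))
(Tr.nd (nat_lit 195) (Tr.nd (nat_lit 192) (Tr.nd (nat_lit 191) (Tr.lf (Fc.ed (nat_lit 190) (nat_lit 16) Col.f (nat_lit 62) Dv.df))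
(Tr.lf (Fc.ed (nat_lit 191) (nat_lit 62) Col.d (nat_lit 59) (Dv.wd (nat_lit 85) [Mv.b (nat_lit 183), Mv.b (nat_lit 92), Mv.f (nat_lit 190)]))))
(Tr.nd (nat_lit 193) (Tr.lf (Fc.ed (nat_lit 192) (nat_lit 4) Col.l (nat_lit 63) Dv.df))
(Tr.nd (nat_lit 194) (Tr.lf (Fc.ed (nat_lit 193) (nat_lit 60) Col.b (nat_lit 64) Dv.df))
(Tr.lf (Fc.ed (nat_lit 194) (nat_lit 64) Col.h (nat_lit 64) (Dv.wd (nat_lit 26) [Mv.b (nat_lit 193), Mv.f (nat_lit 186), Mv.f (nat_lit 193)]))))))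
(Tr.nd (nat_lit 198) (Tr.nd (nat_lit 196) (Tr.lf (Fc.ed (nat_lit 195) (nat_lit 37) Col.e (nat_lit 65) Dv.df))
(Tr.nd (nat_lit 197) (Tr.lf (Fc.ed (nat_lit 196) (nat_lit 65) Col.a (nat_lit 31) (Dv.wd (nat_lit 43) [Mv.b (nat_lit 114), Mv.f (nat_lit 126), Mv.f (nat_lit 195)])))
(Tr.lf (Fc.ed (nat_lit 197) (nat_lit 65) Col.h (nat_lit 65) (Dv.wd (nat_lit 86) [Mv.b (nat_lit 195), Mv.f (nat_lit 127), Mv.f (nat_lit 195)])))))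
(Tr.nd (nat_lit 199) (Tr.lf (Fc.ed (nat_lit 198) (nat_lit 50) Col.k (nat_lit 66) Dv.df))
(Tr.nd (nat_lit 200) (Tr.lf (Fc.ed (nat_lit 199) (nat_lit 66) Col.b (nat_lit 43) (Dv.wd (nat_lit 8) [Mv.b (nat_lit 135), Mv.f (nat_lit 159), Mv.f (nat_lit 198)])))
(Tr.lf (Fc.ed (nat_lit 200) (nat_lit 20) Col.k (nat_lit 67) Dv.df)))))))
(Tr.nd (nat_lit 212) (Tr.nd (nat_lit 206) (Tr.nd (nat_lit 203) (Tr.nd (nat_lit 202) (Tr.lf (Fc.ed (nat_lit 201) (nat_lit 67) Col.c (nat_lit 49) (Dv.wd (nat_lit 9) [Mv.b (nat_lit 158), Mv.b (nat_lit 100), Mv.f (nat_lit 200)])))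
(Tr.lf (Fc.ed (nat_lit 202) (nat_lit 67) Col.i (nat_lit 66) (Dv.wd (nat_lit 14) [Mv.b (nat_lit 198), Mv.f (nat_lit 160), Mv.f (nat_lit 200)]))))
(Tr.nd (nat_lit 204) (Tr.lf (Fc.ed (nat_lit 203) (nat_lit 21) Col.l (nat_lit 68) Dv.df))
(Tr.nd (nat_lit 205) (Tr.lf (Fc.ed (nat_lit 204) (nat_lit 16) Col.a (nat_lit 69) Dv.df))
(Tr.lf (Fc.ed (nat_lit 205) (nat_lit 69) Col.c (nat_lit 65) (Dv.wd (nat_lit 15) [Mv.f (nat_lit 196), Mv.f (nat_lit 116), Mv.f (nat_lit 204)]))))))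
(Tr.nd (nat_lit 209) (Tr.nd (nat_lit 207) (Tr.lf (Fc.ed (nat_lit 206) (nat_lit 21) Col.a (nat_lit 70) Dv.df))
(Tr.nd (nat_lit 208) (Tr.lf (Fc.ed (nat_lit 207) (nat_lit 48) Col.i (nat_lit 71) Dv.df))
(Tr.lf (Fc.ed (nat_lit 208) (nat_lit 71) Col.f (nat_lit 19) (Dv.wd (nat_lit 87) [Mv.b (nat_lit 96), Mv.f (nat_lit 157), Mv.f (nat_lit 207)])))))
(Tr.nd (nat_lit 210) (Tr.lf (Fc.ed (nat_lit 209) (nat_lit 36) Col.e (nat_lit 72) Dv.df))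
(Tr.nd (nat_lit 211) (Tr.lf (Fc.ed (nat_lit 210) (nat_lit 72) Col.b (nat_lit 15) (Dv.wd (nat_lit 44) [Mv.f (nat_lit 91), Mv.f (nat_lit 125), Mv.f (nat_lit 209)])))
(Tr.lf (Fc.ed (nat_lit 211) (nat_lit 64) Col.l (nat_lit 72) (Dv.wd (nat_lit 88) [Mv.f (nat_lit 210), Mv.f (nat_lit 185), Mv.f (nat_lit 193)])))))))
(Tr.nd (nat_lit 218) (Tr.nd (nat_lit 215) (Tr.nd (nat_lit 213) (Tr.lf (Fc.ed (nat_lit 212) (nat_lit 17) Col.k (nat_lit 73) Dv.df))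
(Tr.nd (nat_lit 214) (Tr.lf (Fc.ed (nat_lit 213) (nat_lit 73) Col.d (nat_lit 51) (Dv.wd (nat_lit 10) [Mv.f (nat_lit 162), Mv.f (nat_lit 92), Mv.f (nat_lit 212)])))
(Tr.lf (Fc.ed (nat_lit 214) (nat_lit 73) Col.h (nat_lit 43) (Dv.wd (nat_lit 13) [Mv.b (nat_lit 135), Mv.b (nat_lit 94), Mv.f (nat_lit 212)])))))
(Tr.nd (nat_lit 216) (Tr.lf (Fc.ed (nat_lit 215) (nat_lit 73) Col.a (nat_lit 73) (Dv.wd (nat_lit 89) [Mv.f (nat_lit 213), Mv.f (nat_lit 172), Mv.b (nat_lit 213)])))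
(Tr.nd (nat_lit 217) (Tr.lf (Fc.ed (nat_lit 216) (nat_lit 43) Col.a (nat_lit 43) (Dv.wd (nat_lit 66) [Mv.b (nat_lit 214), Mv.f (nat_lit 215), Mv.f (nat_lit 214)])))
(Tr.lf (Fc.ed (nat_lit 217) (nat_lit 29) Col.f (nat_lit 74) Dv.df)))))
(Tr.nd (nat_lit 221) (Tr.nd (nat_lit 219) (Tr.lf (Fc.ed (nat_lit 218) (nat_lit 14) Col.f (nat_lit 75) Dv.df))
(Tr.nd (nat_lit 220) (Tr.lf (Fc.ed (nat_lit 219) (nat_lit 58) Col.a (nat_lit 76) Dv.df))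
(Tr.lf (Fc.ed (nat_lit 220) (nat_lit 76) Col.i (nat_lit 70) (Dv.wd (nat_lit 20) [Mv.b (nat_lit 206), Mv.f (nat_lit 178), Mv.f (nat_lit 219)])))))
(Tr.nd (nat_lit 222) (Tr.lf (Fc.ed (nat_lit 221) (nat_lit 41) Col.c (nat_lit 77) Dv.df))
(Tr.nd (nat_lit 223) (Tr.lf (Fc.ed (nat_lit 222) (nat_lit 77) Col.k (nat_lit 14) (Dv.wd (nat_lit 29) [Mv.f (nat_lit 88), Mv.f (nat_lit 133), Mv.f (nat_lit 221)])))
(Tr.lf (Fc.ed (nat_lit 223) (nat_lit 34) Col.d (nat_lit 77) (Dv.wd (nat_lit 90) [Mv.f (nat_lit 222), Mv.b (nat_lit 85), Mv.f (nat_lit 121)])))))))))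
(Tr.nd (nat_lit 246) (Tr.nd (nat_lit 235) (Tr.nd (nat_lit 229) (Tr.nd (nat_lit 226) (Tr.nd (nat_lit 225) (Tr.lf (Fc.ed (nat_lit 224) (nat_lit 18) Col.a (nat_lit 78) Dv.df))
(Tr.lf (Fc.ed (nat_lit 225) (nat_lit 78) Col.k (nat_lit 78) (Dv.wd (nat_lit 21) [Mv.b (nat_lit 224), Mv.f (nat_lit 135), Mv.f (nat_lit 216), Mv.b (nat_lit 135), Mv.f (nat_lit 224)]))))
(Tr.nd (nat_lit 227) (Tr.lf (Fc.ed (nat_lit 226) (nat_lit 56) Col.k (nat_lit 79) Dv.df))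
(Tr.nd (nat_lit 228) (Tr.lf (Fc.ed (nat_lit 227) (nat_lit 79) Col.f (nat_lit 15) (Dv.wd (nat_lit 12) [Mv.f (nat_lit 133), Mv.f (nat_lit 175), Mv.f (nat_lit 226)])))
(Tr.lf (Fc.ed (nat_lit 228) (nat_lit 75) Col.c (nat_lit 79) (Dv.wd (nat_lit 91) [Mv.f (nat_lit 227), Mv.b (nat_lit 88), Mv.f (nat_lit 218)]))))))
(Tr.nd (nat_lit 232) (Tr.nd (nat_lit 230) (Tr.lf (Fc.ed (nat_lit 229) (nat_lit 13) Col.f (nat_lit 80) Dv.df))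
(Tr.nd (nat_lit 231) (Tr.lf (Fc.ed (nat_lit 230) (nat_lit 80) Col.d (nat_lit 75) (Dv.wd (nat_lit 85) [Mv.b (nat_lit 218), Mv.b (nat_lit 85), Mv.f (nat_lit 229)])))
(Tr.lf (Fc.ed (nat_lit 231) (nat_lit 9) Col.i (nat_lit 81) Dv.df))))
(Tr.nd (nat_lit 233) (Tr.lf (Fc.ed (nat_lit 232) (nat_lit 81) Col.b (nat_lit 30) (Dv.wd (nat_lit 56) [Mv.b (nat_lit 110), Mv.b (nat_lit 69), Mv.f (nat_lit 231)])))
(Tr.nd (nat_lit 234) (Tr.lf (Fc.ed (nat_lit 233) (nat_lit 42) Col.d (nat_lit 82) Dv.df))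
(Tr.lf (Fc.ed (nat_lit 234) (nat_lit 82) Col.l (nat_lit 14) (Dv.wd (nat_lit 67) [Mv.b (nat_lit 85), Mv.f (nat_lit 134), Mv.f (nat_lit 233)])))))))
(Tr.nd (nat_lit 240) (Tr.nd (nat_lit 237) (Tr.nd (nat_lit 236) (Tr.lf (Fc.ed (nat_lit 235) (nat_lit 42) Col.a (nat_lit 83) Dv.df))
(Tr.lf (Fc.ed (nat_lit 236) (nat_lit 83) Col.l (nat_lit 52) (Dv.wd (nat_lit 69) [Mv.b (nat_lit 163), Mv.f (nat_lit 134), Mv.f (nat_lit 235)]))))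
(Tr.nd (nat_lit 238) (Tr.lf (Fc.ed (nat_lit 237) (nat_lit 34) Col.f (nat_lit 84) Dv.df))
(Tr.nd (nat_lit 239) (Tr.lf (Fc.ed (nat_lit 238) (nat_lit 84) Col.k (nat_lit 80) (Dv.wd (nat_lit 92) [Mv.b (nat_lit 229), Mv.f (nat_lit 121), Mv.f (nat_lit 237)])))
(Tr.lf (Fc.ed (nat_lit 239) (nat_lit 84) Col.h (nat_lit 74) (Dv.wd (nat_lit 84) [Mv.b (nat_lit 217), Mv.b (nat_lit 122), Mv.f (nat_lit 237)]))))))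
(Tr.nd (nat_lit 243) (Tr.nd (nat_lit 241) (Tr.lf (Fc.ed (nat_lit 240) (nat_lit 29) Col.l (nat_lit 85) Dv.df))
(Tr.nd (nat_lit 242) (Tr.lf (Fc.ed (nat_lit 241) (nat_lit 74) Col.k (nat_lit 86) Dv.df))
(Tr.lf (Fc.ed (nat_lit 242) (nat_lit 86) Col.f (nat_lit 12) (Dv.wd (nat_lit 12) [Mv.f (nat_lit 109), Mv.f (nat_lit 217), Mv.f (nat_lit 241)])))))
(Tr.nd (nat_lit 244) (Tr.lf (Fc.ed (nat_lit 243) (nat_lit 86) Col.h (nat_lit 80) (Dv.wd (nat_lit 13) [Mv.b (nat_lit 238), Mv.f (nat_lit 239), Mv.f (nat_lit 241)])))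
(Tr.nd (nat_lit 245) (Tr.lf (Fc.ed (nat_lit 244) (nat_lit 5) Col.l (nat_lit 87) Dv.df))
(Tr.lf (Fc.ed (nat_lit 245) (nat_lit 87) Col.d (nat_lit 63) (Dv.wd (nat_lit 93) [Mv.b (nat_lit 192), Mv.f (nat_lit 40), Mv.f (nat_lit 244)]))))))))
(Tr.nd (nat_lit 257) (Tr.nd (nat_lit 251) (Tr.nd (nat_lit 248) (Tr.nd (nat_lit 247) (Tr.lf (Fc.ed (nat_lit 246) (nat_lit 87) Col.e (nat_lit 40) (Dv.wd (nat_lit 94) [Mv.f (nat_lit 132), Mv.b (nat_lit 47), Mv.f (nat_lit 244)])))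
(Tr.lf (Fc.ed (nat_lit 247) (nat_lit 8) Col.f (nat_lit 88) Dv.df)))
(Tr.nd (nat_lit 249) (Tr.lf (Fc.ed (nat_lit 248) (nat_lit 88) Col.a (nat_lit 88) (Dv.wd (nat_lit 95) [Mv.b (nat_lit 247), Mv.f (nat_lit 61), Mv.f (nat_lit 247)])))
(Tr.nd (nat_lit 250) (Tr.lf (Fc.ed (nat_lit 249) (nat_lit 88) Col.b (nat_lit 88) (Dv.wd (nat_lit 96) [Mv.b (nat_lit 247), Mv.f (nat_lit 62), Mv.f (nat_lit 247)])))
(Tr.lf (Fc.ed (nat_lit 250) (nat_lit 88) Col.h (nat_lit 88) (Dv.wd (nat_lit 84) [Mv.b (nat_lit 247), Mv.f (nat_lit 63), Mv.f (nat_lit 247)]))))))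
(Tr.nd (nat_lit 254) (Tr.nd (nat_lit 252) (Tr.lf (Fc.ed (nat_lit 251) (nat_lit 3) Col.l (nat_lit 89) Dv.df))
(Tr.nd (nat_lit 253) (Tr.lf (Fc.ed (nat_lit 252) (nat_lit 89) Col.b (nat_lit 57) (Dv.wd (nat_lit 97) [Mv.b (nat_lit 176), Mv.f (nat_lit 24), Mv.f (nat_lit 251)])))
(Tr.lf (Fc.ed (nat_lit 253) (nat_lit 89) Col.c (nat_lit 63) (Dv.wd (nat_lit 98) [Mv.b (nat_lit 192), Mv.b (nat_lit 32), Mv.f (nat_lit 251)])))))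
(Tr.nd (nat_lit 255) (Tr.lf (Fc.ed (nat_lit 254) (nat_lit 8) Col.i (nat_lit 90) Dv.df))
(Tr.nd (nat_lit 256) (Tr.lf (Fc.ed (nat_lit 255) (nat_lit 90) Col.a (nat_lit 90) (Dv.wd (nat_lit 63) [Mv.b (nat_lit 254), Mv.f (nat_lit 61), Mv.f (nat_lit 254)])))
(Tr.lf (Fc.ed (nat_lit 256) (nat_lit 90) Col.b (nat_lit 90) (Dv.wd (nat_lit 56) [Mv.b (nat_lit 254), Mv.f (nat_lit 62), Mv.f (nat_lit 254)])))))))
(Tr.nd (nat_lit 263) (Tr.nd (nat_lit 260) (Tr.nd (nat_lit 258) (Tr.lf (Fc.ed (nat_lit 257) (nat_lit 90) Col.c (nat_lit 81) (Dv.wd (nat_lit 57) [Mv.b (nat_lit 231), Mv.b (nat_lit 64), Mv.f (nat_lit 254)])))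
(Tr.nd (nat_lit 259) (Tr.lf (Fc.ed (nat_lit 258) (nat_lit 49) Col.f (nat_lit 91) Dv.df))
(Tr.lf (Fc.ed (nat_lit 259) (nat_lit 36) Col.f (nat_lit 92) Dv.df))))
(Tr.nd (nat_lit 261) (Tr.lf (Fc.ed (nat_lit 260) (nat_lit 92) Col.b (nat_lit 62) (Dv.wd (nat_lit 96) [Mv.b (nat_lit 190), Mv.f (nat_lit 125), Mv.f (nat_lit 259)])))
(Tr.nd (nat_lit 262) (Tr.lf (Fc.ed (nat_lit 261) (nat_lit 20) Col.f (nat_lit 93) Dv.df))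
(Tr.lf (Fc.ed (nat_lit 262) (nat_lit 93) Col.b (nat_lit 71) (Dv.wd (nat_lit 96) [Mv.f (nat_lit 208), Mv.f (nat_lit 98), Mv.f (nat_lit 261)]))))))
(Tr.nd (nat_lit 266) (Tr.nd (nat_lit 264) (Tr.lf (Fc.ed (nat_lit 263) (nat_lit 45) Col.f (nat_lit 94) Dv.df))
(Tr.nd (nat_lit 265) (Tr.lf (Fc.ed (nat_lit 264) (nat_lit 34) Col.l (nat_lit 95) Dv.df))
(Tr.lf (Fc.ed (nat_lit 265) (nat_lit 95) Col.h (nat_lit 85) (Dv.wd (nat_lit 65) [Mv.b (nat_lit 240), Mv.b (nat_lit 122), Mv.f (nat_lit 264)])))))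
(Tr.nd (nat_lit 267) (Tr.lf (Fc.ed (nat_lit 266) (nat_lit 35) Col.e (nat_lit 96) Dv.df))
(Tr.nd (nat_lit 268) (Tr.lf (Fc.ed (nat_lit 267) (nat_lit 96) Col.l (nat_lit 46) (Dv.wd (nat_lit 99) [Mv.f (nat_lit 141), Mv.f (nat_lit 124), Mv.f (nat_lit 266)])))
(Tr.lf (Fc.ed (nat_lit 268) (nat_lit 96) Col.h (nat_lit 87) (Dv.wd (nat_lit 86) [Mv.f (nat_lit 246), Mv.b (nat_lit 131), Mv.f (nat_lit 266)]))))))))))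
(Tr.nd (nat_lit 314) (Tr.nd (nat_lit 291) (Tr.nd (nat_lit 280) (Tr.nd (nat_lit 274) (Tr.nd (nat_lit 271) (Tr.nd (nat_lit 270) (Tr.lf (Fc.ed (nat_lit 269) (nat_lit 50) Col.f (nat_lit 97) Dv.df))
(Tr.lf (Fc.ed (nat_lit 270) (nat_lit 97) Col.i (nat_lit 93) (Dv.wd (nat_lit 100) [Mv.b (nat_lit 261), Mv.b (nat_lit 160), Mv.f (nat_lit 269)]))))
(Tr.nd (nat_lit 272) (Tr.lf (Fc.ed (nat_lit 271) (nat_lit 46) Col.i (nat_lit 98) Dv.df))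
(Tr.nd (nat_lit 273) (Tr.lf (Fc.ed (nat_lit 272) (nat_lit 98) Col.f (nat_lit 98) (Dv.wd (nat_lit 87) [Mv.b (nat_lit 271), Mv.f (nat_lit 142), Mv.f (nat_lit 271)])))
(Tr.lf (Fc.ed (nat_lit 273) (nat_lit 78) Col.f (nat_lit 99) Dv.df)))))
(Tr.nd (nat_lit 277) (Tr.nd (nat_lit 275) (Tr.lf (Fc.ed (nat_lit 274) (nat_lit 99) Col.k (nat_lit 99) (Dv.wd (nat_lit 92) [Mv.b (nat_lit 273), Mv.f (nat_lit 225), Mv.f (nat_lit 273)])))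
(Tr.nd (nat_lit 276) (Tr.lf (Fc.ed (nat_lit 275) (nat_lit 99) Col.a (nat_lit 48) (Dv.wd (nat_lit 95) [Mv.b (nat_lit 157), Mv.f (nat_lit 224), Mv.f (nat_lit 273)])))
(Tr.lf (Fc.ed (nat_lit 276) (nat_lit 93) Col.c (nat_lit 100) Dv.df))))
(Tr.nd (nat_lit 278) (Tr.lf (Fc.ed (nat_lit 277) (nat_lit 100) Col.f (nat_lit 21) (Dv.wd (nat_lit 32) [Mv.b (nat_lit 100), Mv.f (nat_lit 261), Mv.f (nat_lit 276)])))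
(Tr.nd (nat_lit 279) (Tr.lf (Fc.ed (nat_lit 278) (nat_lit 91) Col.k (nat_lit 100) (Dv.wd (nat_lit 101) [Mv.f (nat_lit 277), Mv.f (nat_lit 158), Mv.f (nat_lit 258)])))
(Tr.lf (Fc.ed (nat_lit 279) (nat_lit 51) Col.l (nat_lit 101) Dv.df))))))
(Tr.nd (nat_lit 285) (Tr.nd (nat_lit 282) (Tr.nd (nat_lit 281) (Tr.lf (Fc.ed (nat_lit 280) (nat_lit 32) Col.l (nat_lit 102) Dv.df))
(Tr.lf (Fc.ed (nat_lit 281) (nat_lit 102) Col.i (nat_lit 85) (Dv.wd (nat_lit 102) [Mv.b (nat_lit 240), Mv.b (nat_lit 118), Mv.f (nat_lit 280)]))))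
(Tr.nd (nat_lit 283) (Tr.lf (Fc.ed (nat_lit 282) (nat_lit 59) Col.e (nat_lit 103) Dv.df))
(Tr.nd (nat_lit 284) (Tr.lf (Fc.ed (nat_lit 283) (nat_lit 103) Col.f (nat_lit 103) (Dv.wd (nat_lit 103) [Mv.b (nat_lit 282), Mv.b (nat_lit 183), Mv.f (nat_lit 93), Mv.f (nat_lit 183), Mv.f (nat_lit 282)])))
(Tr.lf (Fc.ed (nat_lit 284) (nat_lit 81) Col.h (nat_lit 104) Dv.df)))))
(Tr.nd (nat_lit 288) (Tr.nd (nat_lit 286) (Tr.lf (Fc.ed (nat_lit 285) (nat_lit 104) Col.b (nat_lit 52) (Dv.wd (nat_lit 50) [Mv.f (nat_lit 165), Mv.b (nat_lit 232), Mv.f (nat_lit 284)])))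
(Tr.nd (nat_lit 287) (Tr.lf (Fc.ed (nat_lit 286) (nat_lit 47) Col.d (nat_lit 104) (Dv.wd (nat_lit 104) [Mv.f (nat_lit 285), Mv.f (nat_lit 164), Mv.f (nat_lit 156)])))
(Tr.lf (Fc.ed (nat_lit 287) (nat_lit 47) Col.l (nat_lit 105) Dv.df))))
(Tr.nd (nat_lit 289) (Tr.lf (Fc.ed (nat_lit 288) (nat_lit 58) Col.l (nat_lit 106) Dv.df))
(Tr.nd (nat_lit 290) (Tr.lf (Fc.ed (nat_lit 289) (nat_lit 106) Col.b (nat_lit 106) (Dv.wd (nat_lit 97) [Mv.b (nat_lit 288), Mv.f (nat_lit 179), Mv.f (nat_lit 288)])))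
(Tr.lf (Fc.ed (nat_lit 290) (nat_lit 106) Col.e (nat_lit 106) (Dv.wd (nat_lit 94) [Mv.b (nat_lit 288), Mv.f (nat_lit 182), Mv.f (nat_lit 288)]))))))))
(Tr.nd (nat_lit 302) (Tr.nd (nat_lit 296) (Tr.nd (nat_lit 293) (Tr.nd (nat_lit 292) (Tr.lf (Fc.ed (nat_lit 291) (nat_lit 106) Col.i (nat_lit 68) (Dv.wd (nat_lit 102) [Mv.b (nat_lit 203), Mv.f (nat_lit 178), Mv.f (nat_lit 288)])))
(Tr.lf (Fc.ed (nat_lit 292) (nat_lit 65) Col.b (nat_lit 107) Dv.df)))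
(Tr.nd (nat_lit 294) (Tr.lf (Fc.ed (nat_lit 293) (nat_lit 107) Col.e (nat_lit 47) (Dv.wd (nat_lit 24) [Mv.b (nat_lit 156), Mv.f (nat_lit 195), Mv.f (nat_lit 292)])))
(Tr.nd (nat_lit 295) (Tr.lf (Fc.ed (nat_lit 294) (nat_lit 107) Col.h (nat_lit 107) (Dv.wd (nat_lit 26) [Mv.b (nat_lit 292), Mv.f (nat_lit 197), Mv.f (nat_lit 292)])))
(Tr.lf (Fc.ed (nat_lit 295) (nat_lit 107) Col.a (nat_lit 107) (Dv.wd (nat_lit 28) [Mv.b (nat_lit 292), Mv.f (nat_lit 196), Mv.f (nat_lit 115), Mv.b (nat_lit 196), Mv.f (nat_lit 292)]))))))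
(Tr.nd (nat_lit 299) (Tr.nd (nat_lit 297) (Tr.lf (Fc.ed (nat_lit 296) (nat_lit 9) Col.f (nat_lit 108) Dv.df))
(Tr.nd (nat_lit 298) (Tr.lf (Fc.ed (nat_lit 297) (nat_lit 108) Col.k (nat_lit 108) (Dv.wd (nat_lit 92) [Mv.b (nat_lit 296), Mv.f (nat_lit 65), Mv.f (nat_lit 296)])))
(Tr.lf (Fc.ed (nat_lit 298) (nat_lit 108) Col.a (nat_lit 108) (Dv.wd (nat_lit 95) [Mv.b (nat_lit 296), Mv.f (nat_lit 66), Mv.f (nat_lit 296)])))))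
(Tr.nd (nat_lit 300) (Tr.lf (Fc.ed (nat_lit 299) (nat_lit 108) Col.c (nat_lit 88) (Dv.wd (nat_lit 105) [Mv.b (nat_lit 247), Mv.f (nat_lit 64), Mv.f (nat_lit 296)])))
(Tr.nd (nat_lit 301) (Tr.lf (Fc.ed (nat_lit 300) (nat_lit 108) Col.d (nat_lit 108) (Dv.wd (nat_lit 85) [Mv.b (nat_lit 296), Mv.f (nat_lit 68), Mv.f (nat_lit 296)])))
(Tr.lf (Fc.ed (nat_lit 301) (nat_lit 30) Col.f (nat_lit 109) Dv.df))))))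
(Tr.nd (nat_lit 308) (Tr.nd (nat_lit 305) (Tr.nd (nat_lit 303) (Tr.lf (Fc.ed (nat_lit 302) (nat_lit 109) Col.a (nat_lit 86) (Dv.wd (nat_lit 95) [Mv.f (nat_lit 242), Mv.b (nat_lit 112), Mv.f (nat_lit 301)])))
(Tr.nd (nat_lit 304) (Tr.lf (Fc.ed (nat_lit 303) (nat_lit 41) Col.l (nat_lit 110) Dv.df))
(Tr.lf (Fc.ed (nat_lit 304) (nat_lit 110) Col.e (nat_lit 101) (Dv.wd (nat_lit 94) [Mv.b (nat_lit 279), Mv.b (nat_lit 161), Mv.f (nat_lit 303)])))))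
(Tr.nd (nat_lit 306) (Tr.lf (Fc.ed (nat_lit 305) (nat_lit 82) Col.a (nat_lit 111) Dv.df))
(Tr.nd (nat_lit 307) (Tr.lf (Fc.ed (nat_lit 306) (nat_lit 111) Col.l (nat_lit 37) (Dv.wd (nat_lit 69) [Mv.b (nat_lit 126), Mv.b (nat_lit 234), Mv.f (nat_lit 305)])))
(Tr.lf (Fc.ed (nat_lit 307) (nat_lit 111) Col.d (nat_lit 83) (Dv.wd (nat_lit 16) [Mv.b (nat_lit 235), Mv.f (nat_lit 233), Mv.f (nat_lit 305)]))))))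
(Tr.nd (nat_lit 311) (Tr.nd (nat_lit 309) (Tr.lf (Fc.ed (nat_lit 308) (nat_lit 105) Col.b (nat_lit 111) (Dv.wd (nat_lit 106) [Mv.f (nat_lit 306), Mv.f (nat_lit 156), Mv.f (nat_lit 287)])))
(Tr.nd (nat_lit 310) (Tr.lf (Fc.ed (nat_lit 309) (nat_lit 69) Col.f (nat_lit 112) Dv.df))
(Tr.lf (Fc.ed (nat_lit 310) (nat_lit 112) Col.a (nat_lit 62) (Dv.wd (nat_lit 95) [Mv.b (nat_lit 190), Mv.f (nat_lit 204), Mv.f (nat_lit 309)])))))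
(Tr.nd (nat_lit 312) (Tr.lf (Fc.ed (nat_lit 311) (nat_lit 45) Col.k (nat_lit 113) Dv.df))
(Tr.nd (nat_lit 313) (Tr.lf (Fc.ed (nat_lit 312) (nat_lit 68) Col.f (nat_lit 114) Dv.df))
(Tr.lf (Fc.ed (nat_lit 313) (nat_lit 114) Col.l (nat_lit 100) (Dv.wd (nat_lit 107) [Mv.f (nat_lit 277), Mv.f (nat_lit 203), Mv.f (nat_lit 312)])))))))))
(Tr.nd (nat_lit 336) (Tr.nd (nat_lit 325) (Tr.nd (nat_lit 319) (Tr.nd (nat_lit 316) (Tr.nd (nat_lit 315) (Tr.lf (Fc.ed (nat_lit 314) (nat_lit 58) Col.h (nat_lit 115) Dv.df))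
(Tr.lf (Fc.ed (nat_lit 315) (nat_lit 115) Col.b (nat_lit 115) (Dv.wd (nat_lit 50) [Mv.b (nat_lit 314), Mv.f (nat_lit 179), Mv.f (nat_lit 314)]))))
(Tr.nd (nat_lit 317) (Tr.lf (Fc.ed (nat_lit 316) (nat_lit 115) Col.c (nat_lit 61) (Dv.wd (nat_lit 51) [Mv.f (nat_lit 189), Mv.b (nat_lit 180), Mv.f (nat_lit 314)])))
(Tr.nd (nat_lit 318) (Tr.lf (Fc.ed (nat_lit 317) (nat_lit 22) Col.e (nat_lit 116) Dv.df))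
(Tr.lf (Fc.ed (nat_lit 318) (nat_lit 116) Col.h (nat_lit 24) (Dv.wd (nat_lit 86) [Mv.b (nat_lit 104), Mv.b (nat_lit 103), Mv.f (nat_lit 317)]))))))
(Tr.nd (nat_lit 322) (Tr.nd (nat_lit 320) (Tr.lf (Fc.ed (nat_lit 319) (nat_lit 81) Col.f (nat_lit 117) Dv.df))
(Tr.nd (nat_lit 321) (Tr.lf (Fc.ed (nat_lit 320) (nat_lit 117) Col.b (nat_lit 109) (Dv.wd (nat_lit 96) [Mv.b (nat_lit 301), Mv.b (nat_lit 232), Mv.f (nat_lit 319)])))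
(Tr.lf (Fc.ed (nat_lit 321) (nat_lit 68) Col.a (nat_lit 118) Dv.df))))
(Tr.nd (nat_lit 323) (Tr.lf (Fc.ed (nat_lit 322) (nat_lit 118) Col.l (nat_lit 70) (Dv.wd (nat_lit 69) [Mv.b (nat_lit 206), Mv.f (nat_lit 203), Mv.f (nat_lit 321)])))
(Tr.nd (nat_lit 324) (Tr.lf (Fc.ed (nat_lit 323) (nat_lit 99) Col.l (nat_lit 119) Dv.df))
(Tr.lf (Fc.ed (nat_lit 324) (nat_lit 99) Col.h (nat_lit 120) Dv.df))))))
(Tr.nd (nat_lit 330) (Tr.nd (nat_lit 327) (Tr.nd (nat_lit 326) (Tr.lf (Fc.ed (nat_lit 325) (nat_lit 120) Col.a (nat_lit 59) (Dv.wd (nat_lit 49) [Mv.f (nat_lit 184), Mv.b (nat_lit 275), Mv.f (nat_lit 324)])))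
(Tr.lf (Fc.ed (nat_lit 326) (nat_lit 112) Col.d (nat_lit 120) (Dv.wd (nat_lit 108) [Mv.f (nat_lit 325), Mv.b (nat_lit 191), Mv.b (nat_lit 310)]))))
(Tr.nd (nat_lit 328) (Tr.lf (Fc.ed (nat_lit 327) (nat_lit 7) Col.f (nat_lit 121) Dv.df))
(Tr.nd (nat_lit 329) (Tr.lf (Fc.ed (nat_lit 328) (nat_lit 121) Col.a (nat_lit 121) (Dv.wd (nat_lit 95) [Mv.b (nat_lit 327), Mv.f (nat_lit 56), Mv.f (nat_lit 327)])))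
(Tr.lf (Fc.ed (nat_lit 329) (nat_lit 121) Col.b (nat_lit 121) (Dv.wd (nat_lit 96) [Mv.b (nat_lit 327), Mv.f (nat_lit 57), Mv.f (nat_lit 327)]))))))
(Tr.nd (nat_lit 333) (Tr.nd (nat_lit 331) (Tr.lf (Fc.ed (nat_lit 330) (nat_lit 121) Col.c (nat_lit 121) (Dv.wd (nat_lit 105) [Mv.b (nat_lit 327), Mv.f (nat_lit 58), Mv.f (nat_lit 327)])))
(Tr.nd (nat_lit 332) (Tr.lf (Fc.ed (nat_lit 331) (nat_lit 121) Col.d (nat_lit 88) (Dv.wd (nat_lit 85) [Mv.b (nat_lit 247), Mv.b (nat_lit 59), Mv.f (nat_lit 327)])))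
(Tr.lf (Fc.ed (nat_lit 332) (nat_lit 76) Col.l (nat_lit 122) Dv.df))))
(Tr.nd (nat_lit 334) (Tr.lf (Fc.ed (nat_lit 333) (nat_lit 122) Col.a (nat_lit 106) (Dv.wd (nat_lit 83) [Mv.b (nat_lit 288), Mv.f (nat_lit 219), Mv.f (nat_lit 332)])))
(Tr.nd (nat_lit 335) (Tr.lf (Fc.ed (nat_lit 334) (nat_lit 122) Col.i (nat_lit 118) (Dv.wd (nat_lit 102) [Mv.f (nat_lit 322), Mv.b (nat_lit 220), Mv.f (nat_lit 332)])))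
(Tr.lf (Fc.ed (nat_lit 335) (nat_lit 106) Col.f (nat_lit 123) Dv.df)))))))
(Tr.nd (nat_lit 347) (Tr.nd (nat_lit 341) (Tr.nd (nat_lit 338) (Tr.nd (nat_lit 337) (Tr.lf (Fc.ed (nat_lit 336) (nat_lit 123) Col.b (nat_lit 123) (Dv.wd (nat_lit 96) [Mv.b (nat_lit 335), Mv.f (nat_lit 289), Mv.f (nat_lit 335)])))
(Tr.lf (Fc.ed (nat_lit 337) (nat_lit 123) Col.i (nat_lit 114) (Dv.wd (nat_lit 100) [Mv.b (nat_lit 312), Mv.b (nat_lit 291), Mv.f (nat_lit 335)]))))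
(Tr.nd (nat_lit 339) (Tr.lf (Fc.ed (nat_lit 338) (nat_lit 77) Col.l (nat_lit 124) Dv.df))
(Tr.nd (nat_lit 340) (Tr.lf (Fc.ed (nat_lit 339) (nat_lit 124) Col.c (nat_lit 110) (Dv.wd (nat_lit 98) [Mv.b (nat_lit 303), Mv.f (nat_lit 221), Mv.f (nat_lit 338)])))
(Tr.lf (Fc.ed (nat_lit 340) (nat_lit 124) Col.d (nat_lit 95) (Dv.wd (nat_lit 93) [Mv.b (nat_lit 264), Mv.f (nat_lit 223), Mv.f (nat_lit 338)]))))))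
(Tr.nd (nat_lit 344) (Tr.nd (nat_lit 342) (Tr.lf (Fc.ed (nat_lit 341) (nat_lit 54) Col.h (nat_lit 125) Dv.df))
(Tr.nd (nat_lit 343) (Tr.lf (Fc.ed (nat_lit 342) (nat_lit 125) Col.f (nat_lit 73) (Dv.wd (nat_lit 70) [Mv.f (nat_lit 214), Mv.f (nat_lit 173), Mv.f (nat_lit 341)])))
(Tr.lf (Fc.ed (nat_lit 343) (nat_lit 83) Col.b (nat_lit 126) Dv.df))))
(Tr.nd (nat_lit 345) (Tr.lf (Fc.ed (nat_lit 344) (nat_lit 126) Col.l (nat_lit 104) (Dv.wd (nat_lit 109) [Mv.f (nat_lit 285), Mv.b (nat_lit 236), Mv.f (nat_lit 343)])))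
(Tr.nd (nat_lit 346) (Tr.lf (Fc.ed (nat_lit 345) (nat_lit 126) Col.d (nat_lit 105) (Dv.wd (nat_lit 23) [Mv.f (nat_lit 308), Mv.f (nat_lit 307), Mv.f (nat_lit 343)])))
(Tr.lf (Fc.ed (nat_lit 346) (nat_lit 39) Col.i (nat_lit 127) Dv.df))))))
(Tr.nd (nat_lit 353) (Tr.nd (nat_lit 350) (Tr.nd (nat_lit 348) (Tr.lf (Fc.ed (nat_lit 347) (nat_lit 127) Col.l (nat_lit 90) (Dv.wd (nat_lit 110) [Mv.b (nat_lit 254), Mv.b (nat_lit 130), Mv.f (nat_lit 346)])))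
(Tr.nd (nat_lit 349) (Tr.lf (Fc.ed (nat_lit 348) (nat_lit 65) Col.f (nat_lit 128) Dv.df))
(Tr.lf (Fc.ed (nat_lit 349) (nat_lit 128) Col.c (nat_lit 112) (Dv.wd (nat_lit 105) [Mv.b (nat_lit 309), Mv.f (nat_lit 205), Mv.f (nat_lit 348)])))))
(Tr.nd (nat_lit 351) (Tr.lf (Fc.ed (nat_lit 350) (nat_lit 90) Col.d (nat_lit 129) Dv.df))
(Tr.nd (nat_lit 352) (Tr.lf (Fc.ed (nat_lit 351) (nat_lit 129) Col.i (nat_lit 7) (Dv.wd (nat_lit 40) [Mv.f (nat_lit 59), Mv.f (nat_lit 254), Mv.f (nat_lit 350)])))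
(Tr.lf (Fc.ed (nat_lit 352) (nat_lit 98) Col.e (nat_lit 129) (Dv.wd (nat_lit 73) [Mv.f (nat_lit 351), Mv.b (nat_lit 141), Mv.f (nat_lit 271)]))))))
(Tr.nd (nat_lit 356) (Tr.nd (nat_lit 354) (Tr.lf (Fc.ed (nat_lit 353) (nat_lit 129) Col.h (nat_lit 129) (Dv.wd (nat_lit 111) [Mv.f (nat_lit 351), Mv.b (nat_lit 54), Mv.f (nat_lit 52), Mv.f (nat_lit 54), Mv.b (nat_lit 351)])))
(Tr.nd (nat_lit 355) (Tr.lf (Fc.ed (nat_lit 354) (nat_lit 67) Col.f (nat_lit 130) Dv.df))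
(Tr.lf (Fc.ed (nat_lit 355) (nat_lit 130) Col.c (nat_lit 91) (Dv.wd (nat_lit 105) [Mv.b (nat_lit 258), Mv.b (nat_lit 201), Mv.f (nat_lit 354)])))))
(Tr.nd (nat_lit 357) (Tr.lf (Fc.ed (nat_lit 356) (nat_lit 69) Col.l (nat_lit 131) Dv.df))
(Tr.nd (nat_lit 358) (Tr.lf (Fc.ed (nat_lit 357) (nat_lit 103) Col.a (nat_lit 132) Dv.df))
(Tr.lf (Fc.ed (nat_lit 358) (nat_lit 132) Col.e (nat_lit 120) (Dv.wd (nat_lit 17) [Mv.f (nat_lit 325), Mv.f (nat_lit 282), Mv.f (nat_lit 357)]))))))))))))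
(Tr.nd (nat_lit 538) (Tr.nd (nat_lit 448) (Tr.nd (nat_lit 403) (Tr.nd (nat_lit 381) (Tr.nd (nat_lit 370) (Tr.nd (nat_lit 364) (Tr.nd (nat_lit 361) (Tr.nd (nat_lit 360) (Tr.lf (Fc.ed (nat_lit 359) (nat_lit 132) Col.f (nat_lit 132) (Dv.wd (nat_lit 18) [Mv.b (nat_lit 357), Mv.f (nat_lit 283), Mv.f (nat_lit 357)])))
(Tr.lf (Fc.ed (nat_lit 360) (nat_lit 66) Col.f (nat_lit 133) Dv.df)))
(Tr.nd (nat_lit 362) (Tr.lf (Fc.ed (nat_lit 361) (nat_lit 133) Col.b (nat_lit 54) (Dv.wd (nat_lit 96) [Mv.b (nat_lit 173), Mv.b (nat_lit 199), Mv.f (nat_lit 360)])))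
(Tr.nd (nat_lit 363) (Tr.lf (Fc.ed (nat_lit 362) (nat_lit 133) Col.i (nat_lit 130) (Dv.wd (nat_lit 100) [Mv.b (nat_lit 354), Mv.f (nat_lit 202), Mv.f (nat_lit 360)])))
(Tr.lf (Fc.ed (nat_lit 363) (nat_lit 72) Col.a (nat_lit 134) Dv.df)))))
(Tr.nd (nat_lit 367) (Tr.nd (nat_lit 365) (Tr.lf (Fc.ed (nat_lit 364) (nat_lit 53) Col.b (nat_lit 135) Dv.df))
(Tr.nd (nat_lit 366) (Tr.lf (Fc.ed (nat_lit 365) (nat_lit 92) Col.d (nat_lit 136) Dv.df))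
(Tr.lf (Fc.ed (nat_lit 366) (nat_lit 136) Col.b (nat_lit 59) (Dv.wd (nat_lit 38) [Mv.b (nat_lit 191), Mv.b (nat_lit 260), Mv.f (nat_lit 365)])))))
(Tr.nd (nat_lit 368) (Tr.lf (Fc.ed (nat_lit 367) (nat_lit 136) Col.f (nat_lit 61) (Dv.wd (nat_lit 39) [Mv.f (nat_lit 188), Mv.f (nat_lit 259), Mv.f (nat_lit 365)])))
(Tr.nd (nat_lit 369) (Tr.lf (Fc.ed (nat_lit 368) (nat_lit 97) Col.h (nat_lit 136) (Dv.wd (nat_lit 112) [Mv.f (nat_lit 367), Mv.f (nat_lit 189), Mv.f (nat_lit 269)])))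
(Tr.lf (Fc.ed (nat_lit 369) (nat_lit 94) Col.e (nat_lit 137) Dv.df))))))
(Tr.nd (nat_lit 375) (Tr.nd (nat_lit 372) (Tr.nd (nat_lit 371) (Tr.lf (Fc.ed (nat_lit 370) (nat_lit 58) Col.f (nat_lit 138) Dv.df))
(Tr.lf (Fc.ed (nat_lit 371) (nat_lit 138) Col.l (nat_lit 123) (Dv.wd (nat_lit 107) [Mv.b (nat_lit 335), Mv.b (nat_lit 288), Mv.f (nat_lit 370)]))))
(Tr.nd (nat_lit 373) (Tr.lf (Fc.ed (nat_lit 372) (nat_lit 138) Col.b (nat_lit 138) (Dv.wd (nat_lit 96) [Mv.b (nat_lit 370), Mv.f (nat_lit 179), Mv.f (nat_lit 370)])))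
(Tr.nd (nat_lit 374) (Tr.lf (Fc.ed (nat_lit 373) (nat_lit 138) Col.c (nat_lit 97) (Dv.wd (nat_lit 105) [Mv.b (nat_lit 269), Mv.b (nat_lit 180), Mv.f (nat_lit 370)])))
(Tr.lf (Fc.ed (nat_lit 374) (nat_lit 138) Col.i (nat_lit 100) (Dv.wd (nat_lit 100) [Mv.f (nat_lit 277), Mv.f (nat_lit 178), Mv.f (nat_lit 370)]))))))
(Tr.nd (nat_lit 378) (Tr.nd (nat_lit 376) (Tr.lf (Fc.ed (nat_lit 375) (nat_lit 135) Col.a (nat_lit 139) Dv.df))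
(Tr.nd (nat_lit 377) (Tr.lf (Fc.ed (nat_lit 376) (nat_lit 139) Col.b (nat_lit 134) (Dv.wd (nat_lit 55) [Mv.b (nat_lit 363), Mv.f (nat_lit 210), Mv.b (nat_lit 170), Mv.f (nat_lit 364), Mv.f (nat_lit 375)])))
(Tr.lf (Fc.ed (nat_lit 377) (nat_lit 113) Col.l (nat_lit 140) Dv.df))))
(Tr.nd (nat_lit 379) (Tr.lf (Fc.ed (nat_lit 378) (nat_lit 140) Col.k (nat_lit 102) (Dv.wd (nat_lit 113) [Mv.b (nat_lit 280), Mv.b (nat_lit 117), Mv.b (nat_lit 138), Mv.f (nat_lit 311), Mv.f (nat_lit 377)])))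
(Tr.nd (nat_lit 380) (Tr.lf (Fc.ed (nat_lit 379) (nat_lit 100) Col.a (nat_lit 141) Dv.df))
(Tr.lf (Fc.ed (nat_lit 380) (nat_lit 141) Col.f (nat_lit 70) (Dv.wd (nat_lit 18) [Mv.b (nat_lit 206), Mv.b (nat_lit 277), Mv.f (nat_lit 379)]))))))))
(Tr.nd (nat_lit 392) (Tr.nd (nat_lit 386) (Tr.nd (nat_lit 383) (Tr.nd (nat_lit 382) (Tr.lf (Fc.ed (nat_lit 381) (nat_lit 90) Col.f (nat_lit 142) Dv.df))
(Tr.lf (Fc.ed (nat_lit 382) (nat_lit 142) Col.c (nat_lit 117) (Dv.wd (nat_lit 105) [Mv.b (nat_lit 319), Mv.b (nat_lit 257), Mv.f (nat_lit 381)]))))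
(Tr.nd (nat_lit 384) (Tr.lf (Fc.ed (nat_lit 383) (nat_lit 99) Col.e (nat_lit 143) Dv.df))
(Tr.nd (nat_lit 385) (Tr.lf (Fc.ed (nat_lit 384) (nat_lit 143) Col.k (nat_lit 143) (Dv.wd (nat_lit 42) [Mv.b (nat_lit 383), Mv.f (nat_lit 274), Mv.f (nat_lit 383)])))
(Tr.lf (Fc.ed (nat_lit 385) (nat_lit 143) Col.h (nat_lit 132) (Dv.wd (nat_lit 86) [Mv.f (nat_lit 358), Mv.b (nat_lit 324), Mv.f (nat_lit 383)]))))))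
(Tr.nd (nat_lit 389) (Tr.nd (nat_lit 387) (Tr.lf (Fc.ed (nat_lit 386) (nat_lit 64) Col.f (nat_lit 144) Dv.df))
(Tr.nd (nat_lit 388) (Tr.lf (Fc.ed (nat_lit 387) (nat_lit 144) Col.h (nat_lit 144) (Dv.wd (nat_lit 84) [Mv.b (nat_lit 386), Mv.f (nat_lit 194), Mv.f (nat_lit 386)])))
(Tr.lf (Fc.ed (nat_lit 388) (nat_lit 54) Col.l (nat_lit 145) Dv.df))))
(Tr.nd (nat_lit 390) (Tr.lf (Fc.ed (nat_lit 389) (nat_lit 90) Col.h (nat_lit 146) Dv.df))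
(Tr.nd (nat_lit 391) (Tr.lf (Fc.ed (nat_lit 390) (nat_lit 146) Col.a (nat_lit 146) (Dv.wd (nat_lit 49) [Mv.b (nat_lit 389), Mv.f (nat_lit 255), Mv.f (nat_lit 389)])))
(Tr.lf (Fc.ed (nat_lit 391) (nat_lit 146) Col.b (nat_lit 146) (Dv.wd (nat_lit 50) [Mv.b (nat_lit 389), Mv.f (nat_lit 256), Mv.f (nat_lit 389)])))))))
(Tr.nd (nat_lit 397) (Tr.nd (nat_lit 394) (Tr.nd (nat_lit 393) (Tr.lf (Fc.ed (nat_lit 392) (nat_lit 146) Col.c (nat_lit 104) (Dv.wd (nat_lit 51) [Mv.b (nat_lit 284), Mv.b (nat_lit 257), Mv.f (nat_lit 389)])))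
(Tr.lf (Fc.ed (nat_lit 393) (nat_lit 146) Col.d (nat_lit 146) (Dv.wd (nat_lit 71) [Mv.b (nat_lit 389), Mv.f (nat_lit 350), Mv.f (nat_lit 353), Mv.b (nat_lit 350), Mv.f (nat_lit 389)]))))
(Tr.nd (nat_lit 395) (Tr.lf (Fc.ed (nat_lit 394) (nat_lit 47) Col.c (nat_lit 47) (Dv.wd (nat_lit 76) [Mv.f (nat_lit 286), Mv.b (nat_lit 392), Mv.f (nat_lit 393), Mv.f (nat_lit 392), Mv.b (nat_lit 286)])))
(Tr.nd (nat_lit 396) (Tr.lf (Fc.al (nat_lit 395) (nat_lit 135) (nat_lit 53) (Dv.wd (nat_lit 79) [Mv.b (nat_lit 168), Mv.f (nat_lit 156), Mv.f (nat_lit 394), Mv.b (nat_lit 156), Mv.f (nat_lit 168), Mv.f (nat_lit 364)])))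
(Tr.lf (Fc.al (nat_lit 396) (nat_lit 15) (nat_lit 139) (Dv.wd (nat_lit 114) [Mv.b (nat_lit 375), Mv.f (nat_lit 395), Mv.f (nat_lit 170)]))))))
(Tr.nd (nat_lit 400) (Tr.nd (nat_lit 398) (Tr.lf (Fc.al (nat_lit 397) (nat_lit 72) (nat_lit 134) (Dv.wd (nat_lit 80) [Mv.b (nat_lit 376), Mv.b (nat_lit 396), Mv.b (nat_lit 210)])))
(Tr.nd (nat_lit 399) (Tr.lf (Fc.ed (nat_lit 398) (nat_lit 72) Col.a (nat_lit 72) (Dv.wd (nat_lit 114) [Mv.f (nat_lit 363), Mv.b (nat_lit 397)])))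
(Tr.lf (Fc.ed (nat_lit 399) (nat_lit 64) Col.a (nat_lit 64) (Dv.wd (nat_lit 83) [Mv.f (nat_lit 211), Mv.f (nat_lit 398), Mv.b (nat_lit 211)])))))
(Tr.nd (nat_lit 401) (Tr.lf (Fc.ed (nat_lit 400) (nat_lit 36) Col.a (nat_lit 36) (Dv.wd (nat_lit 82) [Mv.f (nat_lit 209), Mv.f (nat_lit 398), Mv.b (nat_lit 209)])))
(Tr.nd (nat_lit 402) (Tr.lf (Fc.ed (nat_lit 401) (nat_lit 69) Col.b (nat_lit 69) (Dv.wd (nat_lit 115) [Mv.b (nat_lit 204), Mv.f (nat_lit 125), Mv.f (nat_lit 400), Mv.b (nat_lit 125), Mv.f (nat_lit 204)])))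
(Tr.lf (Fc.ed (nat_lit 402) (nat_lit 112) Col.b (nat_lit 112) (Dv.wd (nat_lit 116) [Mv.b (nat_lit 309), Mv.f (nat_lit 401), Mv.f (nat_lit 309)])))))))))
(Tr.nd (nat_lit 425) (Tr.nd (nat_lit 414) (Tr.nd (nat_lit 408) (Tr.nd (nat_lit 405) (Tr.nd (nat_lit 404) (Tr.lf (Fc.ed (nat_lit 403) (nat_lit 120) Col.b (nat_lit 120) (Dv.wd (nat_lit 117) [Mv.b (nat_lit 326), Mv.f (nat_lit 402), Mv.f (nat_lit 326)])))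
(Tr.lf (Fc.ed (nat_lit 404) (nat_lit 136) Col.a (nat_lit 136) (Dv.wd (nat_lit 118) [Mv.f (nat_lit 366), Mv.b (nat_lit 325), Mv.f (nat_lit 403), Mv.f (nat_lit 325), Mv.b (nat_lit 366)]))))
(Tr.nd (nat_lit 406) (Tr.lf (Fc.ed (nat_lit 405) (nat_lit 97) Col.a (nat_lit 97) (Dv.wd (nat_lit 66) [Mv.f (nat_lit 368), Mv.f (nat_lit 404), Mv.b (nat_lit 368)])))
(Tr.nd (nat_lit 407) (Tr.lf (Fc.ed (nat_lit 406) (nat_lit 138) Col.a (nat_lit 138) (Dv.wd (nat_lit 119) [Mv.f (nat_lit 373), Mv.f (nat_lit 405), Mv.b (nat_lit 373)])))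
(Tr.lf (Fc.ed (nat_lit 407) (nat_lit 93) Col.a (nat_lit 93) (Dv.wd (nat_lit 120) [Mv.b (nat_lit 270), Mv.f (nat_lit 405), Mv.f (nat_lit 270)]))))))
(Tr.nd (nat_lit 411) (Tr.nd (nat_lit 409) (Tr.lf (Fc.al (nat_lit 408) (nat_lit 141) (nat_lit 100) (Dv.wd (nat_lit 121) [Mv.b (nat_lit 276), Mv.f (nat_lit 407), Mv.f (nat_lit 276), Mv.f (nat_lit 379)])))
(Tr.nd (nat_lit 410) (Tr.lf (Fc.al (nat_lit 409) (nat_lit 21) (nat_lit 70) (Dv.wd (nat_lit 122) [Mv.b (nat_lit 380), Mv.f (nat_lit 408), Mv.f (nat_lit 277)])))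
(Tr.lf (Fc.al (nat_lit 410) (nat_lit 68) (nat_lit 118) (Dv.wd (nat_lit 123) [Mv.f (nat_lit 322), Mv.b (nat_lit 409), Mv.f (nat_lit 203)])))))
(Tr.nd (nat_lit 412) (Tr.lf (Fc.al (nat_lit 411) (nat_lit 58) (nat_lit 76) (Dv.wd (nat_lit 124) [Mv.f (nat_lit 220), Mv.b (nat_lit 409), Mv.f (nat_lit 178)])))
(Tr.nd (nat_lit 413) (Tr.lf (Fc.al (nat_lit 412) (nat_lit 106) (nat_lit 122) (Dv.wd (nat_lit 124) [Mv.f (nat_lit 334), Mv.b (nat_lit 410), Mv.b (nat_lit 291)])))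
(Tr.lf (Fc.ed (nat_lit 413) (nat_lit 58) Col.a (nat_lit 58) (Dv.wd (nat_lit 114) [Mv.f (nat_lit 219), Mv.b (nat_lit 411)])))))))
(Tr.nd (nat_lit 419) (Tr.nd (nat_lit 416) (Tr.nd (nat_lit 415) (Tr.lf (Fc.ed (nat_lit 414) (nat_lit 106) Col.a (nat_lit 106) (Dv.wd (nat_lit 114) [Mv.b (nat_lit 333), Mv.b (nat_lit 412)])))
(Tr.lf (Fc.ed (nat_lit 415) (nat_lit 123) Col.a (nat_lit 123) (Dv.wd (nat_lit 125) [Mv.b (nat_lit 335), Mv.f (nat_lit 414), Mv.f (nat_lit 335)]))))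
(Tr.nd (nat_lit 417) (Tr.lf (Fc.ed (nat_lit 416) (nat_lit 115) Col.a (nat_lit 115) (Dv.wd (nat_lit 66) [Mv.b (nat_lit 314), Mv.f (nat_lit 413), Mv.f (nat_lit 314)])))
(Tr.nd (nat_lit 418) (Tr.lf (Fc.ed (nat_lit 417) (nat_lit 144) Col.a (nat_lit 144) (Dv.wd (nat_lit 125) [Mv.b (nat_lit 386), Mv.f (nat_lit 399), Mv.f (nat_lit 386)])))
(Tr.lf (Fc.ed (nat_lit 418) (nat_lit 91) Col.e (nat_lit 147) Dv.df)))))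
(Tr.nd (nat_lit 422) (Tr.nd (nat_lit 420) (Tr.lf (Fc.ed (nat_lit 419) (nat_lit 48) Col.e (nat_lit 148) Dv.df))
(Tr.nd (nat_lit 421) (Tr.lf (Fc.ed (nat_lit 420) (nat_lit 148) Col.a (nat_lit 143) (Dv.wd (nat_lit 43) [Mv.b (nat_lit 383), Mv.f (nat_lit 275), Mv.f (nat_lit 419)])))
(Tr.lf (Fc.ed (nat_lit 421) (nat_lit 138) Col.e (nat_lit 149) Dv.df))))
(Tr.nd (nat_lit 423) (Tr.lf (Fc.ed (nat_lit 422) (nat_lit 149) Col.a (nat_lit 149) (Dv.wd (nat_lit 43) [Mv.b (nat_lit 421), Mv.f (nat_lit 406), Mv.f (nat_lit 421)])))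
(Tr.nd (nat_lit 424) (Tr.lf (Fc.ed (nat_lit 423) (nat_lit 149) Col.b (nat_lit 149) (Dv.wd (nat_lit 44) [Mv.b (nat_lit 421), Mv.f (nat_lit 372), Mv.f (nat_lit 421)])))
(Tr.lf (Fc.ed (nat_lit 424) (nat_lit 149) Col.f (nat_lit 149) (Dv.wd (nat_lit 103) [Mv.b (nat_lit 421), Mv.b (nat_lit 370), Mv.f (nat_lit 182), Mv.f (nat_lit 370), Mv.f (nat_lit 421)]))))))))
(Tr.nd (nat_lit 436) (Tr.nd (nat_lit 430) (Tr.nd (nat_lit 427) (Tr.nd (nat_lit 426) (Tr.lf (Fc.ed (nat_lit 425) (nat_lit 60) Col.f (nat_lit 150) Dv.df))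
(Tr.lf (Fc.ed (nat_lit 426) (nat_lit 150) Col.l (nat_lit 79) (Dv.wd (nat_lit 107) [Mv.f (nat_lit 227), Mv.f (nat_lit 185), Mv.f (nat_lit 425)]))))
(Tr.nd (nat_lit 428) (Tr.lf (Fc.ed (nat_lit 427) (nat_lit 150) Col.b (nat_lit 144) (Dv.wd (nat_lit 96) [Mv.b (nat_lit 386), Mv.b (nat_lit 193), Mv.f (nat_lit 425)])))
(Tr.nd (nat_lit 429) (Tr.lf (Fc.ed (nat_lit 428) (nat_lit 107) Col.f (nat_lit 151) Dv.df))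
(Tr.lf (Fc.ed (nat_lit 429) (nat_lit 151) Col.a (nat_lit 151) (Dv.wd (nat_lit 95) [Mv.b (nat_lit 428), Mv.f (nat_lit 295), Mv.f (nat_lit 428)]))))))
(Tr.nd (nat_lit 433) (Tr.nd (nat_lit 431) (Tr.lf (Fc.ed (nat_lit 430) (nat_lit 151) Col.b (nat_lit 128) (Dv.wd (nat_lit 96) [Mv.b (nat_lit 348), Mv.f (nat_lit 292), Mv.f (nat_lit 428)])))
(Tr.nd (nat_lit 432) (Tr.lf (Fc.ed (nat_lit 431) (nat_lit 151) Col.h (nat_lit 151) (Dv.wd (nat_lit 84) [Mv.b (nat_lit 428), Mv.f (nat_lit 294), Mv.f (nat_lit 428)])))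
(Tr.lf (Fc.ed (nat_lit 432) (nat_lit 129) Col.f (nat_lit 152) Dv.df))))
(Tr.nd (nat_lit 434) (Tr.lf (Fc.ed (nat_lit 433) (nat_lit 152) Col.d (nat_lit 142) (Dv.wd (nat_lit 85) [Mv.b (nat_lit 381), Mv.f (nat_lit 350), Mv.f (nat_lit 432)])))
(Tr.nd (nat_lit 435) (Tr.lf (Fc.ed (nat_lit 434) (nat_lit 152) Col.e (nat_lit 152) (Dv.wd (nat_lit 126) [Mv.b (nat_lit 432), Mv.b (nat_lit 352), Mv.f (nat_lit 272), Mv.f (nat_lit 352), Mv.f (nat_lit 432)])))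
(Tr.lf (Fc.ed (nat_lit 435) (nat_lit 143) Col.d (nat_lit 153) Dv.df))))))
(Tr.nd (nat_lit 442) (Tr.nd (nat_lit 439) (Tr.nd (nat_lit 437) (Tr.lf (Fc.ed (nat_lit 436) (nat_lit 153) Col.k (nat_lit 153) (Dv.wd (nat_lit 36) [Mv.b (nat_lit 435), Mv.f (nat_lit 384), Mv.f (nat_lit 435)])))
(Tr.nd (nat_lit 438) (Tr.lf (Fc.ed (nat_lit 437) (nat_lit 121) Col.h (nat_lit 154) Dv.df))
(Tr.lf (Fc.ed (nat_lit 438) (nat_lit 154) Col.f (nat_lit 6) (Dv.wd (nat_lit 70) [Mv.f (nat_lit 54), Mv.f (nat_lit 327), Mv.f (nat_lit 437)])))))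
(Tr.nd (nat_lit 440) (Tr.lf (Fc.ed (nat_lit 439) (nat_lit 94) Col.k (nat_lit 155) Dv.df))
(Tr.nd (nat_lit 441) (Tr.lf (Fc.ed (nat_lit 440) (nat_lit 155) Col.f (nat_lit 113) (Dv.wd (nat_lit 12) [Mv.b (nat_lit 311), Mv.f (nat_lit 263), Mv.f (nat_lit 439)])))
(Tr.lf (Fc.ed (nat_lit 441) (nat_lit 131) Col.f (nat_lit 156) Dv.df)))))
(Tr.nd (nat_lit 445) (Tr.nd (nat_lit 443) (Tr.lf (Fc.ed (nat_lit 442) (nat_lit 156) Col.l (nat_lit 112) (Dv.wd (nat_lit 107) [Mv.b (nat_lit 309), Mv.f (nat_lit 356), Mv.f (nat_lit 441)])))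
(Tr.nd (nat_lit 444) (Tr.lf (Fc.ed (nat_lit 443) (nat_lit 86) Col.e (nat_lit 157) Dv.df))
(Tr.lf (Fc.ed (nat_lit 444) (nat_lit 107) Col.l (nat_lit 158) Dv.df))))
(Tr.nd (nat_lit 446) (Tr.lf (Fc.ed (nat_lit 445) (nat_lit 158) Col.e (nat_lit 105) (Dv.wd (nat_lit 94) [Mv.b (nat_lit 287), Mv.b (nat_lit 293), Mv.f (nat_lit 444)])))
(Tr.nd (nat_lit 447) (Tr.lf (Fc.ed (nat_lit 446) (nat_lit 148) Col.i (nat_lit 159) Dv.df))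
(Tr.lf (Fc.ed (nat_lit 447) (nat_lit 159) Col.e (nat_lit 71) (Dv.wd (nat_lit 61) [Mv.b (nat_lit 207), Mv.f (nat_lit 419), Mv.f (nat_lit 446)]))))))))))
(Tr.nd (nat_lit 493) (Tr.nd (nat_lit 470) (Tr.nd (nat_lit 459) (Tr.nd (nat_lit 453) (Tr.nd (nat_lit 450) (Tr.nd (nat_lit 449) (Tr.lf (Fc.ed (nat_lit 448) (nat_lit 114) Col.e (nat_lit 160) Dv.df))
(Tr.lf (Fc.ed (nat_lit 449) (nat_lit 120) Col.l (nat_lit 161) Dv.df)))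
(Tr.nd (nat_lit 451) (Tr.lf (Fc.ed (nat_lit 450) (nat_lit 161) Col.d (nat_lit 156) (Dv.wd (nat_lit 93) [Mv.f (nat_lit 442), Mv.f (nat_lit 326), Mv.f (nat_lit 449)])))
(Tr.nd (nat_lit 452) (Tr.lf (Fc.ed (nat_lit 451) (nat_lit 161) Col.h (nat_lit 119) (Dv.wd (nat_lit 65) [Mv.b (nat_lit 323), Mv.f (nat_lit 324), Mv.f (nat_lit 449)])))
(Tr.lf (Fc.ed (nat_lit 452) (nat_lit 119) Col.e (nat_lit 162) Dv.df)))))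
(Tr.nd (nat_lit 456) (Tr.nd (nat_lit 454) (Tr.lf (Fc.ed (nat_lit 453) (nat_lit 162) Col.l (nat_lit 143) (Dv.wd (nat_lit 99) [Mv.b (nat_lit 383), Mv.f (nat_lit 323), Mv.f (nat_lit 452)])))
(Tr.nd (nat_lit 455) (Tr.lf (Fc.ed (nat_lit 454) (nat_lit 128) Col.l (nat_lit 163) Dv.df))
(Tr.lf (Fc.ed (nat_lit 455) (nat_lit 163) Col.c (nat_lit 156) (Dv.wd (nat_lit 98) [Mv.f (nat_lit 442), Mv.b (nat_lit 349), Mv.f (nat_lit 454)])))))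
(Tr.nd (nat_lit 457) (Tr.lf (Fc.ed (nat_lit 456) (nat_lit 117) Col.e (nat_lit 164) Dv.df))
(Tr.nd (nat_lit 458) (Tr.lf (Fc.ed (nat_lit 457) (nat_lit 96) Col.i (nat_lit 165) Dv.df))
(Tr.lf (Fc.ed (nat_lit 458) (nat_lit 165) Col.l (nat_lit 98) (Dv.wd (nat_lit 110) [Mv.b (nat_lit 271), Mv.b (nat_lit 267), Mv.f (nat_lit 457)])))))))
(Tr.nd (nat_lit 464) (Tr.nd (nat_lit 461) (Tr.nd (nat_lit 460) (Tr.lf (Fc.ed (nat_lit 459) (nat_lit 145) Col.b (nat_lit 166) Dv.df))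
(Tr.lf (Fc.ed (nat_lit 460) (nat_lit 166) Col.l (nat_lit 133) (Dv.wd (nat_lit 109) [Mv.f (nat_lit 361), Mv.f (nat_lit 388), Mv.f (nat_lit 459)]))))
(Tr.nd (nat_lit 462) (Tr.lf (Fc.ed (nat_lit 461) (nat_lit 93) Col.e (nat_lit 167) Dv.df))
(Tr.nd (nat_lit 463) (Tr.lf (Fc.ed (nat_lit 462) (nat_lit 167) Col.b (nat_lit 159) (Dv.wd (nat_lit 44) [Mv.f (nat_lit 447), Mv.b (nat_lit 262), Mv.f (nat_lit 461)])))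
(Tr.lf (Fc.ed (nat_lit 463) (nat_lit 88) Col.e (nat_lit 168) Dv.df)))))
(Tr.nd (nat_lit 467) (Tr.nd (nat_lit 465) (Tr.lf (Fc.ed (nat_lit 464) (nat_lit 168) Col.a (nat_lit 168) (Dv.wd (nat_lit 43) [Mv.b (nat_lit 463), Mv.f (nat_lit 248), Mv.f (nat_lit 463)])))
(Tr.nd (nat_lit 466) (Tr.lf (Fc.ed (nat_lit 465) (nat_lit 168) Col.b (nat_lit 168) (Dv.wd (nat_lit 44) [Mv.b (nat_lit 463), Mv.f (nat_lit 249), Mv.f (nat_lit 463)])))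
(Tr.lf (Fc.ed (nat_lit 466) (nat_lit 168) Col.h (nat_lit 168) (Dv.wd (nat_lit 86) [Mv.b (nat_lit 463), Mv.f (nat_lit 250), Mv.f (nat_lit 463)])))))
(Tr.nd (nat_lit 468) (Tr.lf (Fc.ed (nat_lit 467) (nat_lit 168) Col.f (nat_lit 168) (Dv.wd (nat_lit 103) [Mv.b (nat_lit 463), Mv.b (nat_lit 247), Mv.f (nat_lit 144), Mv.f (nat_lit 247), Mv.f (nat_lit 463)])))
(Tr.nd (nat_lit 469) (Tr.lf (Fc.ed (nat_lit 468) (nat_lit 55) Col.e (nat_lit 169) Dv.df))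
(Tr.lf (Fc.ed (nat_lit 469) (nat_lit 169) Col.i (nat_lit 116) (Dv.wd (nat_lit 46) [Mv.b (nat_lit 317), Mv.f (nat_lit 174), Mv.f (nat_lit 468)]))))))))
(Tr.nd (nat_lit 481) (Tr.nd (nat_lit 475) (Tr.nd (nat_lit 472) (Tr.nd (nat_lit 471) (Tr.lf (Fc.ed (nat_lit 470) (nat_lit 80) Col.e (nat_lit 170) Dv.df))
(Tr.lf (Fc.ed (nat_lit 471) (nat_lit 170) Col.h (nat_lit 157) (Dv.wd (nat_lit 86) [Mv.b (nat_lit 443), Mv.f (nat_lit 243), Mv.f (nat_lit 470)]))))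
(Tr.nd (nat_lit 473) (Tr.lf (Fc.ed (nat_lit 472) (nat_lit 170) Col.f (nat_lit 170) (Dv.wd (nat_lit 103) [Mv.b (nat_lit 470), Mv.b (nat_lit 229), Mv.f (nat_lit 149), Mv.f (nat_lit 229), Mv.f (nat_lit 470)])))
(Tr.nd (nat_lit 474) (Tr.lf (Fc.ed (nat_lit 473) (nat_lit 144) Col.l (nat_lit 171) Dv.df))
(Tr.lf (Fc.ed (nat_lit 474) (nat_lit 171) Col.a (nat_lit 171) (Dv.wd (nat_lit 83) [Mv.b (nat_lit 473), Mv.f (nat_lit 417), Mv.f (nat_lit 473)]))))))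
(Tr.nd (nat_lit 478) (Tr.nd (nat_lit 476) (Tr.lf (Fc.ed (nat_lit 475) (nat_lit 171) Col.b (nat_lit 79) (Dv.wd (nat_lit 97) [Mv.b (nat_lit 426), Mv.f (nat_lit 427), Mv.f (nat_lit 473)])))
(Tr.nd (nat_lit 477) (Tr.lf (Fc.ed (nat_lit 476) (nat_lit 171) Col.f (nat_lit 72) (Dv.wd (nat_lit 127) [Mv.b (nat_lit 211), Mv.f (nat_lit 386), Mv.f (nat_lit 473)])))
(Tr.lf (Fc.ed (nat_lit 477) (nat_lit 171) Col.h (nat_lit 171) (Dv.wd (nat_lit 65) [Mv.b (nat_lit 473), Mv.f (nat_lit 387), Mv.f (nat_lit 473)])))))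
(Tr.nd (nat_lit 479) (Tr.lf (Fc.ed (nat_lit 478) (nat_lit 129) Col.l (nat_lit 172) Dv.df))
(Tr.nd (nat_lit 480) (Tr.lf (Fc.ed (nat_lit 479) (nat_lit 172) Col.d (nat_lit 127) (Dv.wd (nat_lit 93) [Mv.f (nat_lit 347), Mv.f (nat_lit 350), Mv.f (nat_lit 478)])))
(Tr.lf (Fc.ed (nat_lit 480) (nat_lit 172) Col.e (nat_lit 165) (Dv.wd (nat_lit 94) [Mv.f (nat_lit 458), Mv.f (nat_lit 352), Mv.f (nat_lit 478)])))))))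
(Tr.nd (nat_lit 487) (Tr.nd (nat_lit 484) (Tr.nd (nat_lit 482) (Tr.lf (Fc.ed (nat_lit 481) (nat_lit 73) Col.l (nat_lit 173) Dv.df))
(Tr.nd (nat_lit 483) (Tr.lf (Fc.ed (nat_lit 482) (nat_lit 173) Col.d (nat_lit 101) (Dv.wd (nat_lit 93) [Mv.b (nat_lit 279), Mv.b (nat_lit 213), Mv.f (nat_lit 481)])))
(Tr.lf (Fc.ed (nat_lit 483) (nat_lit 123) Col.e (nat_lit 174) Dv.df))))
(Tr.nd (nat_lit 485) (Tr.lf (Fc.ed (nat_lit 484) (nat_lit 174) Col.l (nat_lit 149) (Dv.wd (nat_lit 99) [Mv.b (nat_lit 421), Mv.f (nat_lit 371), Mv.f (nat_lit 483)])))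
(Tr.nd (nat_lit 486) (Tr.lf (Fc.ed (nat_lit 485) (nat_lit 174) Col.a (nat_lit 174) (Dv.wd (nat_lit 43) [Mv.b (nat_lit 483), Mv.f (nat_lit 415), Mv.f (nat_lit 483)])))
(Tr.lf (Fc.ed (nat_lit 486) (nat_lit 174) Col.b (nat_lit 174) (Dv.wd (nat_lit 44) [Mv.b (nat_lit 483), Mv.f (nat_lit 336), Mv.f (nat_lit 483)]))))))
(Tr.nd (nat_lit 490) (Tr.nd (nat_lit 488) (Tr.lf (Fc.ed (nat_lit 487) (nat_lit 174) Col.i (nat_lit 160) (Dv.wd (nat_lit 46) [Mv.b (nat_lit 448), Mv.b (nat_lit 337), Mv.f (nat_lit 483)])))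
(Tr.nd (nat_lit 489) (Tr.lf (Fc.ed (nat_lit 488) (nat_lit 174) Col.f (nat_lit 174) (Dv.wd (nat_lit 103) [Mv.b (nat_lit 483), Mv.b (nat_lit 335), Mv.f (nat_lit 290), Mv.f (nat_lit 335), Mv.f (nat_lit 483)])))
(Tr.lf (Fc.ed (nat_lit 489) (nat_lit 166) Col.i (nat_lit 175) Dv.df))))
(Tr.nd (nat_lit 491) (Tr.lf (Fc.ed (nat_lit 490) (nat_lit 175) Col.l (nat_lit 130) (Dv.wd (nat_lit 110) [Mv.b (nat_lit 362), Mv.b (nat_lit 460), Mv.f (nat_lit 489)])))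
(Tr.nd (nat_lit 492) (Tr.lf (Fc.ed (nat_lit 491) (nat_lit 109) Col.e (nat_lit 176) Dv.df))
(Tr.lf (Fc.ed (nat_lit 492) (nat_lit 176) Col.a (nat_lit 157) (Dv.wd (nat_lit 43) [Mv.b (nat_lit 443), Mv.b (nat_lit 302), Mv.f (nat_lit 491)])))))))))
(Tr.nd (nat_lit 515) (Tr.nd (nat_lit 504) (Tr.nd (nat_lit 498) (Tr.nd (nat_lit 495) (Tr.nd (nat_lit 494) (Tr.lf (Fc.ed (nat_lit 493) (nat_lit 176) Col.b (nat_lit 164) (Dv.wd (nat_lit 44) [Mv.b (nat_lit 456), Mv.f (nat_lit 320), Mv.f (nat_lit 491)])))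
(Tr.lf (Fc.ed (nat_lit 494) (nat_lit 108) Col.e (nat_lit 177) Dv.df)))
(Tr.nd (nat_lit 496) (Tr.lf (Fc.ed (nat_lit 495) (nat_lit 177) Col.k (nat_lit 177) (Dv.wd (nat_lit 42) [Mv.b (nat_lit 494), Mv.f (nat_lit 297), Mv.f (nat_lit 494)])))
(Tr.nd (nat_lit 497) (Tr.lf (Fc.ed (nat_lit 496) (nat_lit 177) Col.a (nat_lit 177) (Dv.wd (nat_lit 43) [Mv.b (nat_lit 494), Mv.f (nat_lit 298), Mv.f (nat_lit 494)])))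
(Tr.lf (Fc.ed (nat_lit 497) (nat_lit 177) Col.c (nat_lit 168) (Dv.wd (nat_lit 45) [Mv.b (nat_lit 463), Mv.b (nat_lit 299), Mv.f (nat_lit 494)]))))))
(Tr.nd (nat_lit 501) (Tr.nd (nat_lit 499) (Tr.lf (Fc.ed (nat_lit 498) (nat_lit 177) Col.f (nat_lit 177) (Dv.wd (nat_lit 103) [Mv.b (nat_lit 494), Mv.b (nat_lit 296), Mv.f (nat_lit 145), Mv.f (nat_lit 296), Mv.f (nat_lit 494)])))
(Tr.nd (nat_lit 500) (Tr.lf (Fc.ed (nat_lit 499) (nat_lit 177) Col.d (nat_lit 178) Dv.df))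
(Tr.lf (Fc.ed (nat_lit 500) (nat_lit 178) Col.k (nat_lit 178) (Dv.wd (nat_lit 36) [Mv.b (nat_lit 499), Mv.f (nat_lit 495), Mv.f (nat_lit 499)])))))
(Tr.nd (nat_lit 502) (Tr.lf (Fc.ed (nat_lit 501) (nat_lit 178) Col.a (nat_lit 178) (Dv.wd (nat_lit 37) [Mv.b (nat_lit 499), Mv.f (nat_lit 496), Mv.f (nat_lit 499)])))
(Tr.nd (nat_lit 503) (Tr.lf (Fc.ed (nat_lit 502) (nat_lit 178) Col.f (nat_lit 178) (Dv.wd (nat_lit 39) [Mv.b (nat_lit 499), Mv.f (nat_lit 498), Mv.f (nat_lit 499)])))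
(Tr.lf (Fc.ed (nat_lit 503) (nat_lit 178) Col.e (nat_lit 178) (Dv.wd (nat_lit 59) [Mv.b (nat_lit 499), Mv.b (nat_lit 494), Mv.f (nat_lit 300), Mv.f (nat_lit 494), Mv.f (nat_lit 499)])))))))
(Tr.nd (nat_lit 509) (Tr.nd (nat_lit 506) (Tr.nd (nat_lit 505) (Tr.lf (Fc.ed (nat_lit 504) (nat_lit 125) Col.l (nat_lit 179) Dv.df))
(Tr.lf (Fc.ed (nat_lit 505) (nat_lit 179) Col.f (nat_lit 173) (Dv.wd (nat_lit 127) [Mv.b (nat_lit 481), Mv.b (nat_lit 342), Mv.f (nat_lit 504)]))))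
(Tr.nd (nat_lit 507) (Tr.lf (Fc.ed (nat_lit 506) (nat_lit 179) Col.h (nat_lit 145) (Dv.wd (nat_lit 65) [Mv.b (nat_lit 388), Mv.f (nat_lit 341), Mv.f (nat_lit 504)])))
(Tr.nd (nat_lit 508) (Tr.lf (Fc.ed (nat_lit 507) (nat_lit 178) Col.h (nat_lit 180) Dv.df))
(Tr.lf (Fc.ed (nat_lit 508) (nat_lit 180) Col.k (nat_lit 180) (Dv.wd (nat_lit 48) [Mv.b (nat_lit 507), Mv.f (nat_lit 500), Mv.f (nat_lit 507)]))))))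
(Tr.nd (nat_lit 512) (Tr.nd (nat_lit 510) (Tr.lf (Fc.ed (nat_lit 509) (nat_lit 180) Col.a (nat_lit 180) (Dv.wd (nat_lit 49) [Mv.b (nat_lit 507), Mv.f (nat_lit 501), Mv.f (nat_lit 507)])))
(Tr.nd (nat_lit 511) (Tr.lf (Fc.ed (nat_lit 510) (nat_lit 180) Col.b (nat_lit 181) Dv.df))
(Tr.lf (Fc.ed (nat_lit 511) (nat_lit 181) Col.k (nat_lit 181) (Dv.wd (nat_lit 22) [Mv.b (nat_lit 510), Mv.f (nat_lit 508), Mv.f (nat_lit 510)])))))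
(Tr.nd (nat_lit 513) (Tr.lf (Fc.ed (nat_lit 512) (nat_lit 175) Col.c (nat_lit 182) Dv.df))
(Tr.nd (nat_lit 514) (Tr.lf (Fc.ed (nat_lit 513) (nat_lit 182) Col.l (nat_lit 91) (Dv.wd (nat_lit 128) [Mv.b (nat_lit 355), Mv.b (nat_lit 490), Mv.f (nat_lit 512)])))
(Tr.lf (Fc.ed (nat_lit 514) (nat_lit 100) Col.e (nat_lit 183) Dv.df)))))))
(Tr.nd (nat_lit 526) (Tr.nd (nat_lit 520) (Tr.nd (nat_lit 517) (Tr.nd (nat_lit 516) (Tr.lf (Fc.ed (nat_lit 515) (nat_lit 183) Col.l (nat_lit 160) (Dv.wd (nat_lit 99) [Mv.b (nat_lit 448), Mv.f (nat_lit 313), Mv.f (nat_lit 514)])))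
(Tr.lf (Fc.ed (nat_lit 516) (nat_lit 183) Col.k (nat_lit 147) (Dv.wd (nat_lit 42) [Mv.b (nat_lit 418), Mv.f (nat_lit 278), Mv.f (nat_lit 514)]))))
(Tr.nd (nat_lit 518) (Tr.lf (Fc.ed (nat_lit 517) (nat_lit 183) Col.c (nat_lit 167) (Dv.wd (nat_lit 45) [Mv.b (nat_lit 461), Mv.f (nat_lit 276), Mv.f (nat_lit 514)])))
(Tr.nd (nat_lit 519) (Tr.lf (Fc.ed (nat_lit 518) (nat_lit 183) Col.i (nat_lit 149) (Dv.wd (nat_lit 46) [Mv.b (nat_lit 421), Mv.f (nat_lit 374), Mv.f (nat_lit 514)])))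
(Tr.lf (Fc.ed (nat_lit 519) (nat_lit 137) Col.d (nat_lit 184) Dv.df)))))
(Tr.nd (nat_lit 523) (Tr.nd (nat_lit 521) (Tr.lf (Fc.ed (nat_lit 520) (nat_lit 184) Col.c (nat_lit 181) (Dv.wd (nat_lit 129) [Mv.b (nat_lit 510), Mv.f (nat_lit 509), Mv.b (nat_lit 507), Mv.f (nat_lit 502), Mv.f (nat_lit 503), Mv.b (nat_lit 499), Mv.f (nat_lit 497), Mv.f (nat_lit 465), Mv.f (nat_lit 464), Mv.f (nat_lit 466), Mv.f (nat_lit 467), Mv.b (nat_lit 463), Mv.b (nat_lit 331), Mv.f (nat_lit 330), Mv.f (nat_lit 329), Mv.f (nat_lit 328), Mv.f (nat_lit 437), Mv.f (nat_lit 438), Mv.b (nat_lit 47), Mv.b (nat_lit 40), Mv.b (nat_lit 32), Mv.b (nat_lit 24), Mv.b (nat_lit 16), Mv.f (nat_lit 14), Mv.f (nat_lit 13), Mv.f (nat_lit 12), Mv.f (nat_lit 11), Mv.f (nat_lit 10), Mv.f (nat_lit 9), Mv.f (nat_lit 16), Mv.f (nat_lit 21),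 Mv.f (nat_lit 20), Mv.f (nat_lit 19), Mv.f (nat_lit 18), Mv.f (nat_lit 17), Mv.f (nat_lit 24), Mv.f (nat_lit 31), Mv.f (nat_lit 29), Mv.f (nat_lit 28), Mv.f (nat_lit 27), Mv.f (nat_lit 26), Mv.f (nat_lit 32), Mv.f (nat_lit 39), Mv.f (nat_lit 34), Mv.f (nat_lit 37), Mv.f (nat_lit 36), Mv.f (nat_lit 35), Mv.f (nat_lit 40), Mv.f (nat_lit 46), Mv.f (nat_lit 43), Mv.f (nat_lit 42), Mv.f (nat_lit 140), Mv.f (nat_lit 142), Mv.f (nat_lit 141), Mv.f (nat_lit 59), Mv.f (nat_lit 64), Mv.f (nat_lit 69), Mv.f (nat_lit 74), Mv.b (nat_lit 138), Mv.f (nat_lit 139), Mv.f (nat_lit 263), Mv.f (nat_lit 369), Mv.f (nat_lit 519)])))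
(Tr.nd (nat_lit 522) (Tr.lf (Fc.ed (nat_lit 521) (nat_lit 184) Col.k (nat_lit 184) (Dv.wd (nat_lit 130) [Mv.f (nat_lit 520), Mv.f (nat_lit 511), Mv.b (nat_lit 520)])))
(Tr.lf (Fc.ed (nat_lit 522) (nat_lit 137) Col.k (nat_lit 137) (Dv.wd (nat_lit 81) [Mv.f (nat_lit 519), Mv.f (nat_lit 521), Mv.b (nat_lit 519)])))))
(Tr.nd (nat_lit 524) (Tr.lf (Fc.al (nat_lit 523) (nat_lit 155) (nat_lit 94) (Dv.wd (nat_lit 131) [Mv.f (nat_lit 369), Mv.f (nat_lit 522), Mv.b (nat_lit 369), Mv.f (nat_lit 439)])))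
(Tr.nd (nat_lit 525) (Tr.lf (Fc.al (nat_lit 524) (nat_lit 45) (nat_lit 113) (Dv.wd (nat_lit 122) [Mv.b (nat_lit 440), Mv.f (nat_lit 523), Mv.b (nat_lit 263)])))
(Tr.lf (Fc.al (nat_lit 525) (nat_lit 11) (nat_lit 140) (Dv.wd (nat_lit 123) [Mv.b (nat_lit 377), Mv.b (nat_lit 524), Mv.f (nat_lit 138)])))))))
(Tr.nd (nat_lit 532) (Tr.nd (nat_lit 529) (Tr.nd (nat_lit 527) (Tr.lf (Fc.al (nat_lit 526) (nat_lit 32) (nat_lit 102) (Dv.wd (nat_lit 132) [Mv.b (nat_lit 378), Mv.b (nat_lit 525), Mv.f (nat_lit 117)])))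
(Tr.nd (nat_lit 528) (Tr.lf (Fc.al (nat_lit 527) (nat_lit 29) (nat_lit 85) (Dv.wd (nat_lit 124) [Mv.b (nat_lit 281), Mv.b (nat_lit 526), Mv.f (nat_lit 118)])))
(Tr.lf (Fc.al (nat_lit 528) (nat_lit 34) (nat_lit 95) (Dv.wd (nat_lit 133) [Mv.f (nat_lit 265), Mv.b (nat_lit 527), Mv.b (nat_lit 122)])))))
(Tr.nd (nat_lit 530) (Tr.lf (Fc.al (nat_lit 529) (nat_lit 77) (nat_lit 124) (Dv.wd (nat_lit 134) [Mv.f (nat_lit 340), Mv.b (nat_lit 528), Mv.f (nat_lit 223)])))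
(Tr.nd (nat_lit 531) (Tr.lf (Fc.al (nat_lit 530) (nat_lit 41) (nat_lit 110) (Dv.wd (nat_lit 135) [Mv.b (nat_lit 339), Mv.b (nat_lit 529), Mv.b (nat_lit 221)])))
(Tr.lf (Fc.al (nat_lit 531) (nat_lit 51) (nat_lit 101) (Dv.wd (nat_lit 136) [Mv.b (nat_lit 304), Mv.b (nat_lit 530), Mv.f (nat_lit 161)]))))))
(Tr.nd (nat_lit 535) (Tr.nd (nat_lit 533) (Tr.lf (Fc.al (nat_lit 532) (nat_lit 73) (nat_lit 173) (Dv.wd (nat_lit 134) [Mv.f (nat_lit 482), Mv.b (nat_lit 531), Mv.b (nat_lit 213)])))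
(Tr.nd (nat_lit 534) (Tr.lf (Fc.al (nat_lit 533) (nat_lit 125) (nat_lit 179) (Dv.wd (nat_lit 122) [Mv.f (nat_lit 505), Mv.b (nat_lit 532), Mv.b (nat_lit 342)])))
(Tr.lf (Fc.al (nat_lit 534) (nat_lit 54) (nat_lit 145) (Dv.wd (nat_lit 133) [Mv.b (nat_lit 506), Mv.b (nat_lit 533), Mv.b (nat_lit 341)])))))
(Tr.nd (nat_lit 536) (Tr.lf (Fc.al (nat_lit 535) (nat_lit 133) (nat_lit 166) (Dv.wd (nat_lit 80) [Mv.b (nat_lit 459), Mv.b (nat_lit 534), Mv.b (nat_lit 361)])))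
(Tr.nd (nat_lit 537) (Tr.lf (Fc.al (nat_lit 536) (nat_lit 130) (nat_lit 175) (Dv.wd (nat_lit 124) [Mv.b (nat_lit 489), Mv.b (nat_lit 535), Mv.f (nat_lit 362)])))
(Tr.lf (Fc.al (nat_lit 537) (nat_lit 91) (nat_lit 182) (Dv.wd (nat_lit 135) [Mv.b (nat_lit 512), Mv.b (nat_lit 536), Mv.f (nat_lit 355)])))))))))))
(Tr.nd (nat_lit 628) (Tr.nd (nat_lit 583) (Tr.nd (nat_lit 560) (Tr.nd (nat_lit 549) (Tr.nd (nat_lit 543) (Tr.nd (nat_lit 540) (Tr.nd (nat_lit 539) (Tr.lf (Fc.ed (nat_lit 538) (nat_lit 91) Col.l (nat_lit 91) (Dv.wd (nat_lit 123) [Mv.b (nat_lit 513), Mv.b (nat_lit 537)])))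
(Tr.lf (Fc.ed (nat_lit 539) (nat_lit 147) Col.l (nat_lit 147) (Dv.wd (nat_lit 137) [Mv.b (nat_lit 418), Mv.f (nat_lit 538), Mv.f (nat_lit 418)]))))
(Tr.nd (nat_lit 541) (Tr.lf (Fc.ed (nat_lit 540) (nat_lit 160) Col.k (nat_lit 160) (Dv.wd (nat_lit 138) [Mv.b (nat_lit 515), Mv.f (nat_lit 516), Mv.f (nat_lit 539), Mv.b (nat_lit 516), Mv.f (nat_lit 515)])))
(Tr.nd (nat_lit 542) (Tr.lf (Fc.ed (nat_lit 541) (nat_lit 174) Col.k (nat_lit 174) (Dv.wd (nat_lit 139) [Mv.f (nat_lit 487), Mv.f (nat_lit 540), Mv.b (nat_lit 487)])))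
(Tr.lf (Fc.ed (nat_lit 542) (nat_lit 146) Col.l (nat_lit 185) Dv.df)))))
(Tr.nd (nat_lit 546) (Tr.nd (nat_lit 544) (Tr.lf (Fc.ed (nat_lit 543) (nat_lit 185) Col.c (nat_lit 126) (Dv.wd (nat_lit 98) [Mv.f (nat_lit 344), Mv.b (nat_lit 392), Mv.f (nat_lit 542)])))
(Tr.nd (nat_lit 545) (Tr.lf (Fc.ed (nat_lit 544) (nat_lit 185) Col.h (nat_lit 127) (Dv.wd (nat_lit 65) [Mv.f (nat_lit 347), Mv.f (nat_lit 389), Mv.f (nat_lit 542)])))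
(Tr.lf (Fc.ed (nat_lit 545) (nat_lit 162) Col.h (nat_lit 186) Dv.df))))
(Tr.nd (nat_lit 547) (Tr.lf (Fc.ed (nat_lit 546) (nat_lit 186) Col.e (nat_lit 161) (Dv.wd (nat_lit 60) [Mv.f (nat_lit 451), Mv.f (nat_lit 452), Mv.f (nat_lit 545)])))
(Tr.nd (nat_lit 548) (Tr.lf (Fc.ed (nat_lit 547) (nat_lit 151) Col.l (nat_lit 187) Dv.df))
(Tr.lf (Fc.ed (nat_lit 548) (nat_lit 187) Col.b (nat_lit 163) (Dv.wd (nat_lit 97) [Mv.b (nat_lit 454), Mv.b (nat_lit 430), Mv.f (nat_lit 547)])))))))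
(Tr.nd (nat_lit 554) (Tr.nd (nat_lit 551) (Tr.nd (nat_lit 550) (Tr.lf (Fc.ed (nat_lit 549) (nat_lit 187) Col.f (nat_lit 158) (Dv.wd (nat_lit 127) [Mv.b (nat_lit 444), Mv.f (nat_lit 428), Mv.f (nat_lit 547)])))
(Tr.lf (Fc.ed (nat_lit 550) (nat_lit 142) Col.e (nat_lit 188) Dv.df)))
(Tr.nd (nat_lit 552) (Tr.lf (Fc.ed (nat_lit 551) (nat_lit 188) Col.c (nat_lit 164) (Dv.wd (nat_lit 45) [Mv.b (nat_lit 456), Mv.b (nat_lit 382), Mv.f (nat_lit 550)])))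
(Tr.nd (nat_lit 553) (Tr.lf (Fc.ed (nat_lit 552) (nat_lit 188) Col.d (nat_lit 188) (Dv.wd (nat_lit 47) [Mv.b (nat_lit 550), Mv.b (nat_lit 433), Mv.f (nat_lit 434), Mv.f (nat_lit 433), Mv.f (nat_lit 550)])))
(Tr.lf (Fc.ed (nat_lit 553) (nat_lit 149) Col.d (nat_lit 189) Dv.df)))))
(Tr.nd (nat_lit 557) (Tr.nd (nat_lit 555) (Tr.lf (Fc.ed (nat_lit 554) (nat_lit 189) Col.a (nat_lit 189) (Dv.wd (nat_lit 37) [Mv.b (nat_lit 553), Mv.f (nat_lit 422), Mv.f (nat_lit 553)])))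
(Tr.nd (nat_lit 556) (Tr.lf (Fc.ed (nat_lit 555) (nat_lit 189) Col.b (nat_lit 189) (Dv.wd (nat_lit 38) [Mv.b (nat_lit 553), Mv.f (nat_lit 423), Mv.f (nat_lit 553)])))
(Tr.lf (Fc.ed (nat_lit 556) (nat_lit 189) Col.f (nat_lit 189) (Dv.wd (nat_lit 39) [Mv.b (nat_lit 553), Mv.f (nat_lit 424), Mv.f (nat_lit 553)])))))
(Tr.nd (nat_lit 558) (Tr.lf (Fc.ed (nat_lit 557) (nat_lit 189) Col.c (nat_lit 190) Dv.df))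
(Tr.nd (nat_lit 559) (Tr.lf (Fc.ed (nat_lit 558) (nat_lit 190) Col.f (nat_lit 190) (Dv.wd (nat_lit 32) [Mv.b (nat_lit 557), Mv.f (nat_lit 556), Mv.f (nat_lit 557)])))
(Tr.lf (Fc.ed (nat_lit 559) (nat_lit 190) Col.b (nat_lit 191) Dv.df)))))))
(Tr.nd (nat_lit 571) (Tr.nd (nat_lit 565) (Tr.nd (nat_lit 562) (Tr.nd (nat_lit 561) (Tr.lf (Fc.ed (nat_lit 560) (nat_lit 191) Col.f (nat_lit 191) (Dv.wd (nat_lit 25) [Mv.b (nat_lit 559), Mv.f (nat_lit 558), Mv.f (nat_lit 559)])))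
(Tr.lf (Fc.ed (nat_lit 561) (nat_lit 148) Col.b (nat_lit 192) Dv.df)))
(Tr.nd (nat_lit 563) (Tr.lf (Fc.ed (nat_lit 562) (nat_lit 192) Col.i (nat_lit 167) (Dv.wd (nat_lit 27) [Mv.f (nat_lit 462), Mv.b (nat_lit 446), Mv.f (nat_lit 561)])))
(Tr.nd (nat_lit 564) (Tr.lf (Fc.ed (nat_lit 563) (nat_lit 149) Col.c (nat_lit 192) (Dv.wd (nat_lit 78) [Mv.f (nat_lit 562), Mv.b (nat_lit 517), Mv.f (nat_lit 518)])))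
(Tr.lf (Fc.ed (nat_lit 564) (nat_lit 174) Col.d (nat_lit 193) Dv.df)))))
(Tr.nd (nat_lit 568) (Tr.nd (nat_lit 566) (Tr.lf (Fc.ed (nat_lit 565) (nat_lit 193) Col.l (nat_lit 189) (Dv.wd (nat_lit 67) [Mv.b (nat_lit 553), Mv.b (nat_lit 484), Mv.f (nat_lit 564)])))
(Tr.nd (nat_lit 567) (Tr.lf (Fc.ed (nat_lit 566) (nat_lit 193) Col.k (nat_lit 193) (Dv.wd (nat_lit 36) [Mv.b (nat_lit 564), Mv.f (nat_lit 541), Mv.f (nat_lit 564)])))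
(Tr.lf (Fc.ed (nat_lit 567) (nat_lit 193) Col.a (nat_lit 193) (Dv.wd (nat_lit 37) [Mv.b (nat_lit 564), Mv.f (nat_lit 485), Mv.f (nat_lit 564)])))))
(Tr.nd (nat_lit 569) (Tr.lf (Fc.ed (nat_lit 568) (nat_lit 193) Col.b (nat_lit 193) (Dv.wd (nat_lit 38) [Mv.b (nat_lit 564), Mv.f (nat_lit 486), Mv.f (nat_lit 564)])))
(Tr.nd (nat_lit 570) (Tr.lf (Fc.ed (nat_lit 569) (nat_lit 193) Col.f (nat_lit 193) (Dv.wd (nat_lit 39) [Mv.b (nat_lit 564), Mv.f (nat_lit 488), Mv.f (nat_lit 564)])))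
(Tr.lf (Fc.ed (nat_lit 570) (nat_lit 148) Col.d (nat_lit 194) Dv.df))))))
(Tr.nd (nat_lit 577) (Tr.nd (nat_lit 574) (Tr.nd (nat_lit 572) (Tr.lf (Fc.ed (nat_lit 571) (nat_lit 194) Col.a (nat_lit 153) (Dv.wd (nat_lit 37) [Mv.b (nat_lit 435), Mv.b (nat_lit 420), Mv.f (nat_lit 570)])))
(Tr.nd (nat_lit 573) (Tr.lf (Fc.ed (nat_lit 572) (nat_lit 153) Col.c (nat_lit 195) Dv.df))
(Tr.lf (Fc.ed (nat_lit 573) (nat_lit 195) Col.k (nat_lit 195) (Dv.wd (nat_lit 29) [Mv.b (nat_lit 572), Mv.f (nat_lit 436), Mv.f (nat_lit 572)])))))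
(Tr.nd (nat_lit 575) (Tr.lf (Fc.ed (nat_lit 574) (nat_lit 194) Col.c (nat_lit 196) Dv.df))
(Tr.nd (nat_lit 576) (Tr.lf (Fc.ed (nat_lit 575) (nat_lit 196) Col.a (nat_lit 195) (Dv.wd (nat_lit 30) [Mv.b (nat_lit 572), Mv.b (nat_lit 571), Mv.f (nat_lit 574)])))
(Tr.lf (Fc.ed (nat_lit 576) (nat_lit 192) Col.d (nat_lit 197) Dv.df)))))
(Tr.nd (nat_lit 580) (Tr.nd (nat_lit 578) (Tr.lf (Fc.ed (nat_lit 577) (nat_lit 197) Col.b (nat_lit 194) (Dv.wd (nat_lit 38) [Mv.b (nat_lit 570), Mv.f (nat_lit 561), Mv.f (nat_lit 576)])))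
(Tr.nd (nat_lit 579) (Tr.lf (Fc.ed (nat_lit 578) (nat_lit 193) Col.e (nat_lit 198) Dv.df))
(Tr.lf (Fc.ed (nat_lit 579) (nat_lit 198) Col.k (nat_lit 198) (Dv.wd (nat_lit 42) [Mv.b (nat_lit 578), Mv.f (nat_lit 566), Mv.f (nat_lit 578)])))))
(Tr.nd (nat_lit 581) (Tr.lf (Fc.ed (nat_lit 580) (nat_lit 198) Col.a (nat_lit 198) (Dv.wd (nat_lit 43) [Mv.b (nat_lit 578), Mv.f (nat_lit 567), Mv.f (nat_lit 578)])))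
(Tr.nd (nat_lit 582) (Tr.lf (Fc.ed (nat_lit 581) (nat_lit 189) Col.e (nat_lit 199) Dv.df))
(Tr.lf (Fc.ed (nat_lit 582) (nat_lit 199) Col.l (nat_lit 198) (Dv.wd (nat_lit 99) [Mv.b (nat_lit 578), Mv.f (nat_lit 565), Mv.f (nat_lit 581)])))))))))
(Tr.nd (nat_lit 605) (Tr.nd (nat_lit 594) (Tr.nd (nat_lit 588) (Tr.nd (nat_lit 585) (Tr.nd (nat_lit 584) (Tr.lf (Fc.ed (nat_lit 583) (nat_lit 199) Col.a (nat_lit 199) (Dv.wd (nat_lit 43) [Mv.b (nat_lit 581), Mv.f (nat_lit 554), Mv.f (nat_lit 581)])))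
(Tr.lf (Fc.ed (nat_lit 584) (nat_lit 199) Col.b (nat_lit 199) (Dv.wd (nat_lit 44) [Mv.b (nat_lit 581), Mv.f (nat_lit 555), Mv.f (nat_lit 581)]))))
(Tr.nd (nat_lit 586) (Tr.lf (Fc.ed (nat_lit 585) (nat_lit 193) Col.c (nat_lit 200) Dv.df))
(Tr.nd (nat_lit 587) (Tr.lf (Fc.ed (nat_lit 586) (nat_lit 200) Col.l (nat_lit 190) (Dv.wd (nat_lit 128) [Mv.b (nat_lit 557), Mv.b (nat_lit 565), Mv.f (nat_lit 585)])))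
(Tr.lf (Fc.ed (nat_lit 587) (nat_lit 200) Col.f (nat_lit 200) (Dv.wd (nat_lit 32) [Mv.b (nat_lit 585), Mv.f (nat_lit 569), Mv.f (nat_lit 585)]))))))
(Tr.nd (nat_lit 591) (Tr.nd (nat_lit 589) (Tr.lf (Fc.ed (nat_lit 588) (nat_lit 198) Col.f (nat_lit 201) Dv.df))
(Tr.nd (nat_lit 590) (Tr.lf (Fc.ed (nat_lit 589) (nat_lit 201) Col.k (nat_lit 201) (Dv.wd (nat_lit 92) [Mv.b (nat_lit 588), Mv.f (nat_lit 579), Mv.f (nat_lit 588)])))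
(Tr.lf (Fc.ed (nat_lit 590) (nat_lit 201) Col.a (nat_lit 201) (Dv.wd (nat_lit 95) [Mv.b (nat_lit 588), Mv.f (nat_lit 580), Mv.f (nat_lit 588)])))))
(Tr.nd (nat_lit 592) (Tr.lf (Fc.ed (nat_lit 591) (nat_lit 200) Col.b (nat_lit 202) Dv.df))
(Tr.nd (nat_lit 593) (Tr.lf (Fc.ed (nat_lit 592) (nat_lit 202) Col.l (nat_lit 191) (Dv.wd (nat_lit 109) [Mv.b (nat_lit 559), Mv.b (nat_lit 586), Mv.f (nat_lit 591)])))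
(Tr.lf (Fc.ed (nat_lit 593) (nat_lit 202) Col.f (nat_lit 202) (Dv.wd (nat_lit 25) [Mv.b (nat_lit 591), Mv.f (nat_lit 587), Mv.f (nat_lit 591)])))))))
(Tr.nd (nat_lit 599) (Tr.nd (nat_lit 596) (Tr.nd (nat_lit 595) (Tr.lf (Fc.ed (nat_lit 594) (nat_lit 202) Col.c (nat_lit 202) (Dv.wd (nat_lit 54) [Mv.b (nat_lit 591), Mv.b (nat_lit 585), Mv.f (nat_lit 568), Mv.f (nat_lit 585), Mv.f (nat_lit 591)])))
(Tr.lf (Fc.ed (nat_lit 595) (nat_lit 199) Col.f (nat_lit 203) Dv.df)))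
(Tr.nd (nat_lit 597) (Tr.lf (Fc.ed (nat_lit 596) (nat_lit 203) Col.l (nat_lit 201) (Dv.wd (nat_lit 107) [Mv.b (nat_lit 588), Mv.b (nat_lit 582), Mv.f (nat_lit 595)])))
(Tr.nd (nat_lit 598) (Tr.lf (Fc.ed (nat_lit 597) (nat_lit 203) Col.a (nat_lit 203) (Dv.wd (nat_lit 95) [Mv.b (nat_lit 595), Mv.f (nat_lit 583), Mv.f (nat_lit 595)])))
(Tr.lf (Fc.ed (nat_lit 598) (nat_lit 203) Col.b (nat_lit 203) (Dv.wd (nat_lit 96) [Mv.b (nat_lit 595), Mv.f (nat_lit 584), Mv.f (nat_lit 595)]))))))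
(Tr.nd (nat_lit 602) (Tr.nd (nat_lit 600) (Tr.lf (Fc.ed (nat_lit 599) (nat_lit 203) Col.e (nat_lit 203) (Dv.wd (nat_lit 126) [Mv.b (nat_lit 595), Mv.b (nat_lit 581), Mv.f (nat_lit 556), Mv.f (nat_lit 581), Mv.f (nat_lit 595)])))
(Tr.nd (nat_lit 601) (Tr.lf (Fc.ed (nat_lit 600) (nat_lit 195) Col.b (nat_lit 204) Dv.df))
(Tr.lf (Fc.ed (nat_lit 601) (nat_lit 204) Col.k (nat_lit 204) (Dv.wd (nat_lit 22) [Mv.b (nat_lit 600), Mv.f (nat_lit 573), Mv.f (nat_lit 600)])))))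
(Tr.nd (nat_lit 603) (Tr.lf (Fc.ed (nat_lit 602) (nat_lit 201) Col.h (nat_lit 205) Dv.df))
(Tr.nd (nat_lit 604) (Tr.lf (Fc.ed (nat_lit 603) (nat_lit 205) Col.k (nat_lit 205) (Dv.wd (nat_lit 48) [Mv.b (nat_lit 602), Mv.f (nat_lit 589), Mv.f (nat_lit 602)])))
(Tr.lf (Fc.ed (nat_lit 604) (nat_lit 205) Col.a (nat_lit 205) (Dv.wd (nat_lit 49) [Mv.b (nat_lit 602), Mv.f (nat_lit 590), Mv.f (nat_lit 602)]))))))))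
(Tr.nd (nat_lit 616) (Tr.nd (nat_lit 610) (Tr.nd (nat_lit 607) (Tr.nd (nat_lit 606) (Tr.lf (Fc.ed (nat_lit 605) (nat_lit 203) Col.h (nat_lit 206) Dv.df))
(Tr.lf (Fc.ed (nat_lit 606) (nat_lit 206) Col.l (nat_lit 205) (Dv.wd (nat_lit 68) [Mv.b (nat_lit 602), Mv.b (nat_lit 596), Mv.f (nat_lit 605)]))))
(Tr.nd (nat_lit 608) (Tr.lf (Fc.ed (nat_lit 607) (nat_lit 206) Col.a (nat_lit 206) (Dv.wd (nat_lit 49) [Mv.b (nat_lit 605), Mv.f (nat_lit 597), Mv.f (nat_lit 605)])))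
(Tr.nd (nat_lit 609) (Tr.lf (Fc.ed (nat_lit 608) (nat_lit 206) Col.b (nat_lit 206) (Dv.wd (nat_lit 50) [Mv.b (nat_lit 605), Mv.f (nat_lit 598), Mv.f (nat_lit 605)])))
(Tr.lf (Fc.ed (nat_lit 609) (nat_lit 206) Col.e (nat_lit 206) (Dv.wd (nat_lit 60) [Mv.b (nat_lit 605), Mv.f (nat_lit 599), Mv.f (nat_lit 605)]))))))
(Tr.nd (nat_lit 613) (Tr.nd (nat_lit 611) (Tr.lf (Fc.ed (nat_lit 610) (nat_lit 205) Col.c (nat_lit 207) Dv.df))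
(Tr.nd (nat_lit 612) (Tr.lf (Fc.ed (nat_lit 611) (nat_lit 207) Col.k (nat_lit 207) (Dv.wd (nat_lit 29) [Mv.b (nat_lit 610), Mv.f (nat_lit 603), Mv.f (nat_lit 610)])))
(Tr.lf (Fc.ed (nat_lit 612) (nat_lit 207) Col.a (nat_lit 207) (Dv.wd (nat_lit 30) [Mv.b (nat_lit 610), Mv.f (nat_lit 604), Mv.f (nat_lit 610)])))))
(Tr.nd (nat_lit 614) (Tr.lf (Fc.ed (nat_lit 613) (nat_lit 206) Col.c (nat_lit 208) Dv.df))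
(Tr.nd (nat_lit 615) (Tr.lf (Fc.ed (nat_lit 614) (nat_lit 208) Col.l (nat_lit 207) (Dv.wd (nat_lit 128) [Mv.b (nat_lit 610), Mv.b (nat_lit 606), Mv.f (nat_lit 613)])))
(Tr.lf (Fc.ed (nat_lit 615) (nat_lit 208) Col.a (nat_lit 208) (Dv.wd (nat_lit 30) [Mv.b (nat_lit 613), Mv.f (nat_lit 607), Mv.f (nat_lit 613)])))))))
(Tr.nd (nat_lit 622) (Tr.nd (nat_lit 619) (Tr.nd (nat_lit 617) (Tr.lf (Fc.ed (nat_lit 616) (nat_lit 208) Col.e (nat_lit 208) (Dv.wd (nat_lit 31) [Mv.b (nat_lit 613), Mv.f (nat_lit 609), Mv.f (nat_lit 613)])))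
(Tr.nd (nat_lit 618) (Tr.lf (Fc.ed (nat_lit 617) (nat_lit 208) Col.d (nat_lit 209) Dv.df))
(Tr.lf (Fc.ed (nat_lit 618) (nat_lit 209) Col.a (nat_lit 209) (Dv.wd (nat_lit 37) [Mv.b (nat_lit 617), Mv.f (nat_lit 615), Mv.f (nat_lit 617)])))))
(Tr.nd (nat_lit 620) (Tr.lf (Fc.ed (nat_lit 619) (nat_lit 209) Col.e (nat_lit 210) Dv.df))
(Tr.nd (nat_lit 621) (Tr.lf (Fc.ed (nat_lit 620) (nat_lit 210) Col.a (nat_lit 210) (Dv.wd (nat_lit 43) [Mv.b (nat_lit 619), Mv.f (nat_lit 618), Mv.f (nat_lit 619)])))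
(Tr.lf (Fc.ed (nat_lit 621) (nat_lit 210) Col.d (nat_lit 210) (Dv.wd (nat_lit 47) [Mv.b (nat_lit 619), Mv.b (nat_lit 617), Mv.f (nat_lit 616), Mv.f (nat_lit 617), Mv.f (nat_lit 619)]))))))
(Tr.nd (nat_lit 625) (Tr.nd (nat_lit 623) (Tr.lf (Fc.ed (nat_lit 622) (nat_lit 191) Col.a (nat_lit 211) Dv.df))
(Tr.nd (nat_lit 624) (Tr.lf (Fc.ed (nat_lit 623) (nat_lit 211) Col.f (nat_lit 211) (Dv.wd (nat_lit 18) [Mv.b (nat_lit 622), Mv.f (nat_lit 560), Mv.f (nat_lit 622)])))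
(Tr.lf (Fc.ed (nat_lit 624) (nat_lit 204) Col.a (nat_lit 212) Dv.df))))
(Tr.nd (nat_lit 626) (Tr.lf (Fc.ed (nat_lit 625) (nat_lit 197) Col.c (nat_lit 213) Dv.df))
(Tr.nd (nat_lit 627) (Tr.lf (Fc.ed (nat_lit 626) (nat_lit 213) Col.d (nat_lit 190) (Dv.wd (nat_lit 53) [Mv.b (nat_lit 557), Mv.b (nat_lit 553), Mv.f (nat_lit 563), Mv.f (nat_lit 576), Mv.f (nat_lit 625)])))
(Tr.lf (Fc.ed (nat_lit 627) (nat_lit 207) Col.d (nat_lit 214) Dv.df)))))))))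
(Tr.nd (nat_lit 673) (Tr.nd (nat_lit 650) (Tr.nd (nat_lit 639) (Tr.nd (nat_lit 633) (Tr.nd (nat_lit 630) (Tr.nd (nat_lit 629) (Tr.lf (Fc.ed (nat_lit 628) (nat_lit 214) Col.l (nat_lit 209) (Dv.wd (nat_lit 67) [Mv.b (nat_lit 617), Mv.f (nat_lit 614), Mv.f (nat_lit 627)])))
(Tr.lf (Fc.ed (nat_lit 629) (nat_lit 214) Col.k (nat_lit 214) (Dv.wd (nat_lit 36) [Mv.b (nat_lit 627), Mv.f (nat_lit 611), Mv.f (nat_lit 627)]))))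
(Tr.nd (nat_lit 631) (Tr.lf (Fc.ed (nat_lit 630) (nat_lit 214) Col.a (nat_lit 214) (Dv.wd (nat_lit 37) [Mv.b (nat_lit 627), Mv.f (nat_lit 612), Mv.f (nat_lit 627)])))
(Tr.nd (nat_lit 632) (Tr.lf (Fc.ed (nat_lit 631) (nat_lit 210) Col.f (nat_lit 215) Dv.df))
(Tr.lf (Fc.ed (nat_lit 632) (nat_lit 215) Col.a (nat_lit 215) (Dv.wd (nat_lit 95) [Mv.b (nat_lit 631), Mv.f (nat_lit 620), Mv.f (nat_lit 631)]))))))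
(Tr.nd (nat_lit 636) (Tr.nd (nat_lit 634) (Tr.lf (Fc.ed (nat_lit 633) (nat_lit 215) Col.d (nat_lit 215) (Dv.wd (nat_lit 85) [Mv.b (nat_lit 631), Mv.f (nat_lit 621), Mv.f (nat_lit 631)])))
(Tr.nd (nat_lit 635) (Tr.lf (Fc.ed (nat_lit 634) (nat_lit 202) Col.a (nat_lit 216) Dv.df))
(Tr.lf (Fc.ed (nat_lit 635) (nat_lit 216) Col.l (nat_lit 211) (Dv.wd (nat_lit 69) [Mv.b (nat_lit 622), Mv.b (nat_lit 592), Mv.f (nat_lit 634)])))))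
(Tr.nd (nat_lit 637) (Tr.lf (Fc.ed (nat_lit 636) (nat_lit 216) Col.c (nat_lit 216) (Dv.wd (nat_lit 15) [Mv.b (nat_lit 634), Mv.f (nat_lit 594), Mv.f (nat_lit 634)])))
(Tr.nd (nat_lit 638) (Tr.lf (Fc.ed (nat_lit 637) (nat_lit 216) Col.f (nat_lit 216) (Dv.wd (nat_lit 18) [Mv.b (nat_lit 634), Mv.f (nat_lit 593), Mv.f (nat_lit 634)])))
(Tr.lf (Fc.ed (nat_lit 638) (nat_lit 196) Col.b (nat_lit 217) Dv.df))))))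
(Tr.nd (nat_lit 644) (Tr.nd (nat_lit 641) (Tr.nd (nat_lit 640) (Tr.lf (Fc.ed (nat_lit 639) (nat_lit 215) Col.h (nat_lit 218) Dv.df))
(Tr.lf (Fc.ed (nat_lit 640) (nat_lit 218) Col.a (nat_lit 218) (Dv.wd (nat_lit 49) [Mv.b (nat_lit 639), Mv.f (nat_lit 632), Mv.f (nat_lit 639)]))))
(Tr.nd (nat_lit 642) (Tr.lf (Fc.ed (nat_lit 641) (nat_lit 214) Col.e (nat_lit 219) Dv.df))
(Tr.nd (nat_lit 643) (Tr.lf (Fc.ed (nat_lit 642) (nat_lit 219) Col.l (nat_lit 210) (Dv.wd (nat_lit 99) [Mv.b (nat_lit 619), Mv.b (nat_lit 628), Mv.f (nat_lit 641)])))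
(Tr.lf (Fc.ed (nat_lit 643) (nat_lit 219) Col.k (nat_lit 219) (Dv.wd (nat_lit 42) [Mv.b (nat_lit 641), Mv.f (nat_lit 629), Mv.f (nat_lit 641)]))))))
(Tr.nd (nat_lit 647) (Tr.nd (nat_lit 645) (Tr.lf (Fc.ed (nat_lit 644) (nat_lit 219) Col.a (nat_lit 219) (Dv.wd (nat_lit 43) [Mv.b (nat_lit 641), Mv.f (nat_lit 630), Mv.f (nat_lit 641)])))
(Tr.nd (nat_lit 646) (Tr.lf (Fc.ed (nat_lit 645) (nat_lit 211) Col.h (nat_lit 220) Dv.df))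
(Tr.lf (Fc.ed (nat_lit 646) (nat_lit 220) Col.f (nat_lit 220) (Dv.wd (nat_lit 70) [Mv.b (nat_lit 645), Mv.f (nat_lit 623), Mv.f (nat_lit 645)])))))
(Tr.nd (nat_lit 648) (Tr.lf (Fc.ed (nat_lit 647) (nat_lit 218) Col.b (nat_lit 221) Dv.df))
(Tr.nd (nat_lit 649) (Tr.lf (Fc.ed (nat_lit 648) (nat_lit 220) Col.e (nat_lit 222) Dv.df))
(Tr.lf (Fc.ed (nat_lit 649) (nat_lit 221) Col.c (nat_lit 223) Dv.df)))))))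
(Tr.nd (nat_lit 661) (Tr.nd (nat_lit 655) (Tr.nd (nat_lit 652) (Tr.nd (nat_lit 651) (Tr.lf (Fc.ed (nat_lit 650) (nat_lit 219) Col.f (nat_lit 224) Dv.df))
(Tr.lf (Fc.ed (nat_lit 651) (nat_lit 224) Col.l (nat_lit 215) (Dv.wd (nat_lit 107) [Mv.b (nat_lit 631), Mv.b (nat_lit 642), Mv.f (nat_lit 650)]))))
(Tr.nd (nat_lit 653) (Tr.lf (Fc.ed (nat_lit 652) (nat_lit 224) Col.k (nat_lit 224) (Dv.wd (nat_lit 92) [Mv.b (nat_lit 650), Mv.f (nat_lit 643), Mv.f (nat_lit 650)])))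
(Tr.nd (nat_lit 654) (Tr.lf (Fc.ed (nat_lit 653) (nat_lit 224) Col.a (nat_lit 224) (Dv.wd (nat_lit 95) [Mv.b (nat_lit 650), Mv.f (nat_lit 644), Mv.f (nat_lit 650)])))
(Tr.lf (Fc.ed (nat_lit 654) (nat_lit 216) Col.h (nat_lit 225) Dv.df)))))
(Tr.nd (nat_lit 658) (Tr.nd (nat_lit 656) (Tr.lf (Fc.ed (nat_lit 655) (nat_lit 225) Col.c (nat_lit 225) (Dv.wd (nat_lit 51) [Mv.b (nat_lit 654), Mv.f (nat_lit 636), Mv.f (nat_lit 654)])))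
(Tr.nd (nat_lit 657) (Tr.lf (Fc.ed (nat_lit 656) (nat_lit 225) Col.f (nat_lit 225) (Dv.wd (nat_lit 70) [Mv.b (nat_lit 654), Mv.f (nat_lit 637), Mv.f (nat_lit 654)])))
(Tr.lf (Fc.ed (nat_lit 657) (nat_lit 213) Col.b (nat_lit 226) Dv.df))))
(Tr.nd (nat_lit 659) (Tr.lf (Fc.ed (nat_lit 658) (nat_lit 226) Col.d (nat_lit 191) (Dv.wd (nat_lit 23) [Mv.b (nat_lit 559), Mv.b (nat_lit 626), Mv.f (nat_lit 657)])))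
(Tr.nd (nat_lit 660) (Tr.lf (Fc.ed (nat_lit 659) (nat_lit 226) Col.c (nat_lit 217) (Dv.wd (nat_lit 54) [Mv.b (nat_lit 638), Mv.b (nat_lit 574), Mv.b (nat_lit 577), Mv.f (nat_lit 625), Mv.f (nat_lit 657)])))
(Tr.lf (Fc.ed (nat_lit 660) (nat_lit 217) Col.a (nat_lit 227) Dv.df))))))
(Tr.nd (nat_lit 667) (Tr.nd (nat_lit 664) (Tr.nd (nat_lit 662) (Tr.lf (Fc.ed (nat_lit 661) (nat_lit 227) Col.b (nat_lit 212) (Dv.wd (nat_lit 55) [Mv.b (nat_lit 624), Mv.b (nat_lit 600), Mv.b (nat_lit 575), Mv.f (nat_lit 638), Mv.f (nat_lit 660)])))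
(Tr.nd (nat_lit 663) (Tr.lf (Fc.ed (nat_lit 662) (nat_lit 225) Col.e (nat_lit 228) Dv.df))
(Tr.lf (Fc.ed (nat_lit 663) (nat_lit 228) Col.c (nat_lit 228) (Dv.wd (nat_lit 45) [Mv.b (nat_lit 662), Mv.f (nat_lit 655), Mv.f (nat_lit 662)])))))
(Tr.nd (nat_lit 665) (Tr.lf (Fc.ed (nat_lit 664) (nat_lit 228) Col.d (nat_lit 223) (Dv.wd (nat_lit 140) [Mv.b (nat_lit 649), Mv.b (nat_lit 647), Mv.f (nat_lit 640), Mv.b (nat_lit 639), Mv.b (nat_lit 631), Mv.b (nat_lit 619), Mv.b (nat_lit 617), Mv.b (nat_lit 613), Mv.f (nat_lit 608), Mv.f (nat_lit 607), Mv.b (nat_lit 605), Mv.b (nat_lit 595), Mv.b (nat_lit 581), Mv.b (nat_lit 553), Mv.f (nat_lit 563), Mv.b (nat_lit 561), Mv.f (nat_lit 420), Mv.f (nat_lit 385), Mv.f (nat_lit 359), Mv.f (nat_lit 358), Mv.b (nat_lit 326), Mv.b (nat_lit 349), Mv.b (nat_lit 430),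 Mv.f (nat_lit 429), Mv.f (nat_lit 431), Mv.b (nat_lit 428), Mv.f (nat_lit 293), Mv.f (nat_lit 286), Mv.b (nat_lit 392), Mv.f (nat_lit 391), Mv.f (nat_lit 390), Mv.b (nat_lit 389), Mv.f (nat_lit 381), Mv.f (nat_lit 550), Mv.f (nat_lit 552), Mv.f (nat_lit 551), Mv.b (nat_lit 493), Mv.f (nat_lit 492), Mv.b (nat_lit 471), Mv.f (nat_lit 472), Mv.b (nat_lit 470), Mv.f (nat_lit 230), Mv.f (nat_lit 228), Mv.b (nat_lit 475), Mv.f (nat_lit 474), Mv.f (nat_lit 477), Mv.f (nat_lit 476), Mv.b (nat_lit 209), Mv.b (nat_lit 188), Mv.b (nat_lit 316), Mv.f (nat_lit 315), Mv.f (nat_lit 416), Mv.b (nat_lit 314), Mv.f (nat_lit 370), Mv.f (nat_lit 421), Mv.f (nat_lit 553), Mv.f (nat_lit 557), Mv.f (nat_lit 559), Mv.f (nat_lit 622), Mv.b (nat_lit 635), Mv.f (nat_lit 654), Mv.f (nat_lit 656), Mv.f (nat_lit 662)])))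
(Tr.nd (nat_lit 666) (Tr.lf (Fc.ed (nat_lit 665) (nat_lit 221) Col.d (nat_lit 221) (Dv.wd (nat_lit 53) [Mv.f (nat_lit 649), Mv.b (nat_lit 664), Mv.f (nat_lit 663), Mv.f (nat_lit 664), Mv.b (nat_lit 649)])))
(Tr.lf (Fc.ed (nat_lit 666) (nat_lit 218) Col.d (nat_lit 218) (Dv.wd (nat_lit 23) [Mv.f (nat_lit 647), Mv.f (nat_lit 665), Mv.b (nat_lit 647)]))))))
(Tr.nd (nat_lit 670) (Tr.nd (nat_lit 668) (Tr.lf (Fc.al (nat_lit 667) (nat_lit 215) (nat_lit 218) (Dv.wd (nat_lit 71) [Mv.f (nat_lit 666), Mv.b (nat_lit 639), Mv.f (nat_lit 633), Mv.f (nat_lit 639), Mv.f (nat_lit 666), Mv.b (nat_lit 639)])))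
(Tr.nd (nat_lit 669) (Tr.lf (Fc.ed (nat_lit 668) (nat_lit 215) Col.b (nat_lit 221) (Dv.wd (nat_lit 80) [Mv.b (nat_lit 647), Mv.b (nat_lit 667)])))
(Tr.lf (Fc.ed (nat_lit 669) (nat_lit 215) Col.h (nat_lit 215) (Dv.wd (nat_lit 133) [Mv.f (nat_lit 639), Mv.b (nat_lit 667)])))))
(Tr.nd (nat_lit 671) (Tr.lf (Fc.ed (nat_lit 670) (nat_lit 224) Col.b (nat_lit 229) Dv.df))
(Tr.nd (nat_lit 672) (Tr.lf (Fc.ed (nat_lit 671) (nat_lit 229) Col.k (nat_lit 229) (Dv.wd (nat_lit 22) [Mv.b (nat_lit 670), Mv.f (nat_lit 652), Mv.f (nat_lit 670)])))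
(Tr.lf (Fc.ed (nat_lit 672) (nat_lit 229) Col.c (nat_lit 230) Dv.df))))))))
(Tr.nd (nat_lit 695) (Tr.nd (nat_lit 684) (Tr.nd (nat_lit 678) (Tr.nd (nat_lit 675) (Tr.nd (nat_lit 674) (Tr.lf (Fc.ed (nat_lit 673) (nat_lit 230) Col.k (nat_lit 230) (Dv.wd (nat_lit 29) [Mv.b (nat_lit 672), Mv.f (nat_lit 671), Mv.f (nat_lit 672)])))
(Tr.lf (Fc.ed (nat_lit 674) (nat_lit 230) Col.d (nat_lit 222) (Dv.wd (nat_lit 141) [Mv.b (nat_lit 648), Mv.f (nat_lit 646), Mv.b (nat_lit 645), Mv.b (nat_lit 622), Mv.b (nat_lit 559), Mv.b (nat_lit 557), Mv.b (nat_lit 553), Mv.b (nat_lit 421), Mv.b (nat_lit 370), Mv.f (nat_lit 314), Mv.f (nat_lit 416), Mv.f (nat_lit 315), Mv.f (nat_lit 316), Mv.f (nat_lit 188), Mv.f (nat_lit 209), Mv.b (nat_lit 476), Mv.f (nat_lit 477), Mv.f (nat_lit 474), Mv.f (nat_lit 475), Mv.b (nat_lit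 228), Mv.b (nat_lit 230), Mv.f (nat_lit 470), Mv.f (nat_lit 472), Mv.f (nat_lit 471), Mv.b (nat_lit 492), Mv.f (nat_lit 493), Mv.b (nat_lit 551), Mv.f (nat_lit 552), Mv.b (nat_lit 550), Mv.b (nat_lit 381), Mv.f (nat_lit 389), Mv.f (nat_lit 390), Mv.f (nat_lit 391), Mv.f (nat_lit 392), Mv.b (nat_lit 286), Mv.b (nat_lit 293), Mv.f (nat_lit 428), Mv.f (nat_lit 431), Mv.f (nat_lit 429), Mv.f (nat_lit 430), Mv.f (nat_lit 349), Mv.f (nat_lit 326), Mv.b (nat_lit 358), Mv.f (nat_lit 359), Mv.b (nat_lit 385), Mv.b (nat_lit 420), Mv.f (nat_lit 561), Mv.b (nat_lit 563), Mv.f (nat_lit 553), Mv.f (nat_lit 581), Mv.f (nat_lit 595), Mv.f (nat_lit 605), Mv.f (nat_lit 607), Mv.f (nat_lit 608), Mv.f (nat_lit 613), Mv.f (nat_lit 617), Mv.f (nat_lit 619), Mv.f (nat_lit 631), Mv.f (nat_lit 669), Mv.b (nat_lit 651),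 Mv.f (nat_lit 653), Mv.f (nat_lit 670), Mv.f (nat_lit 672)]))))
(Tr.nd (nat_lit 676) (Tr.lf (Fc.ed (nat_lit 675) (nat_lit 222) Col.k (nat_lit 222) (Dv.wd (nat_lit 36) [Mv.b (nat_lit 674), Mv.f (nat_lit 673), Mv.f (nat_lit 674)])))
(Tr.nd (nat_lit 677) (Tr.lf (Fc.ed (nat_lit 676) (nat_lit 220) Col.k (nat_lit 220) (Dv.wd (nat_lit 142) [Mv.f (nat_lit 648), Mv.f (nat_lit 675), Mv.b (nat_lit 648)])))
(Tr.lf (Fc.ed (nat_lit 677) (nat_lit 211) Col.k (nat_lit 211) (Dv.wd (nat_lit 143) [Mv.f (nat_lit 645), Mv.f (nat_lit 676), Mv.b (nat_lit 645)]))))))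
(Tr.nd (nat_lit 681) (Tr.nd (nat_lit 679) (Tr.lf (Fc.ed (nat_lit 678) (nat_lit 226) Col.a (nat_lit 231) Dv.df))
(Tr.nd (nat_lit 680) (Tr.lf (Fc.ed (nat_lit 679) (nat_lit 231) Col.c (nat_lit 227) (Dv.wd (nat_lit 15) [Mv.b (nat_lit 660), Mv.b (nat_lit 659), Mv.f (nat_lit 678)])))
(Tr.lf (Fc.ed (nat_lit 680) (nat_lit 231) Col.d (nat_lit 211) (Dv.wd (nat_lit 16) [Mv.b (nat_lit 622), Mv.b (nat_lit 658), Mv.f (nat_lit 678)])))))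
(Tr.nd (nat_lit 682) (Tr.lf (Fc.ed (nat_lit 681) (nat_lit 231) Col.k (nat_lit 231) (Dv.wd (nat_lit 81) [Mv.f (nat_lit 680), Mv.f (nat_lit 677), Mv.b (nat_lit 680)])))
(Tr.nd (nat_lit 683) (Tr.lf (Fc.ed (nat_lit 682) (nat_lit 227) Col.k (nat_lit 227) (Dv.wd (nat_lit 130) [Mv.b (nat_lit 679), Mv.f (nat_lit 681), Mv.f (nat_lit 679)])))
(Tr.lf (Fc.ed (nat_lit 683) (nat_lit 212) Col.k (nat_lit 212) (Dv.wd (nat_lit 144) [Mv.b (nat_lit 661), Mv.f (nat_lit 682), Mv.f (nat_lit 661)])))))))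
(Tr.nd (nat_lit 689) (Tr.nd (nat_lit 686) (Tr.nd (nat_lit 685) (Tr.lf (Fc.al (nat_lit 684) (nat_lit 204) (nat_lit 212) (Dv.wd (nat_lit 21) [Mv.f (nat_lit 683), Mv.b (nat_lit 624), Mv.f (nat_lit 601), Mv.f (nat_lit 624), Mv.f (nat_lit 683), Mv.b (nat_lit 624)])))
(Tr.lf (Fc.al (nat_lit 685) (nat_lit 195) (nat_lit 227) (Dv.wd (nat_lit 80) [Mv.f (nat_lit 661), Mv.b (nat_lit 684), Mv.b (nat_lit 600)]))))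
(Tr.nd (nat_lit 687) (Tr.lf (Fc.al (nat_lit 686) (nat_lit 196) (nat_lit 217) (Dv.wd (nat_lit 114) [Mv.f (nat_lit 660), Mv.b (nat_lit 685), Mv.b (nat_lit 575)])))
(Tr.nd (nat_lit 688) (Tr.lf (Fc.al (nat_lit 687) (nat_lit 153) (nat_lit 231) (Dv.wd (nat_lit 135) [Mv.f (nat_lit 679), Mv.b (nat_lit 685), Mv.b (nat_lit 572)])))
(Tr.lf (Fc.al (nat_lit 688) (nat_lit 194) (nat_lit 226) (Dv.wd (nat_lit 135) [Mv.f (nat_lit 659), Mv.b (nat_lit 686), Mv.b (nat_lit 574)]))))))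
(Tr.nd (nat_lit 692) (Tr.nd (nat_lit 690) (Tr.lf (Fc.al (nat_lit 689) (nat_lit 143) (nat_lit 211) (Dv.wd (nat_lit 134) [Mv.b (nat_lit 680), Mv.b (nat_lit 687), Mv.b (nat_lit 435)])))
(Tr.nd (nat_lit 691) (Tr.lf (Fc.al (nat_lit 690) (nat_lit 197) (nat_lit 213) (Dv.wd (nat_lit 80) [Mv.f (nat_lit 657), Mv.b (nat_lit 688), Mv.b (nat_lit 577)])))
(Tr.lf (Fc.al (nat_lit 691) (nat_lit 162) (nat_lit 216) (Dv.wd (nat_lit 123) [Mv.f (nat_lit 635), Mv.b (nat_lit 689), Mv.b (nat_lit 453)])))))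
(Tr.nd (nat_lit 693) (Tr.lf (Fc.al (nat_lit 692) (nat_lit 192) (nat_lit 190) (Dv.wd (nat_lit 134) [Mv.b (nat_lit 626), Mv.b (nat_lit 690), Mv.b (nat_lit 576)])))
(Tr.nd (nat_lit 694) (Tr.lf (Fc.al (nat_lit 693) (nat_lit 186) (nat_lit 225) (Dv.wd (nat_lit 133) [Mv.b (nat_lit 654), Mv.b (nat_lit 691), Mv.f (nat_lit 545)])))
(Tr.lf (Fc.al (nat_lit 694) (nat_lit 189) (nat_lit 149) (Dv.wd (nat_lit 135) [Mv.f (nat_lit 563), Mv.f (nat_lit 692), Mv.b (nat_lit 557)]))))))))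
(Tr.nd (nat_lit 706) (Tr.nd (nat_lit 700) (Tr.nd (nat_lit 697) (Tr.nd (nat_lit 696) (Tr.lf (Fc.al (nat_lit 695) (nat_lit 161) (nat_lit 228) (Dv.wd (nat_lit 136) [Mv.b (nat_lit 662), Mv.b (nat_lit 693), Mv.f (nat_lit 546)])))
(Tr.lf (Fc.al (nat_lit 696) (nat_lit 138) (nat_lit 199) (Dv.wd (nat_lit 136) [Mv.b (nat_lit 581), Mv.f (nat_lit 694), Mv.b (nat_lit 421)]))))
(Tr.nd (nat_lit 698) (Tr.lf (Fc.al (nat_lit 697) (nat_lit 156) (nat_lit 223) (Dv.wd (nat_lit 134) [Mv.b (nat_lit 664), Mv.b (nat_lit 695), Mv.f (nat_lit 450)])))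
(Tr.nd (nat_lit 699) (Tr.lf (Fc.al (nat_lit 698) (nat_lit 58) (nat_lit 203) (Dv.wd (nat_lit 122) [Mv.b (nat_lit 595), Mv.b (nat_lit 696), Mv.b (nat_lit 370)])))
(Tr.lf (Fc.al (nat_lit 699) (nat_lit 163) (nat_lit 221) (Dv.wd (nat_lit 135) [Mv.f (nat_lit 649), Mv.b (nat_lit 697), Mv.b (nat_lit 455)]))))))
(Tr.nd (nat_lit 703) (Tr.nd (nat_lit 701) (Tr.lf (Fc.al (nat_lit 700) (nat_lit 115) (nat_lit 206) (Dv.wd (nat_lit 133) [Mv.b (nat_lit 605), Mv.b (nat_lit 698), Mv.f (nat_lit 314)])))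
(Tr.nd (nat_lit 702) (Tr.lf (Fc.al (nat_lit 701) (nat_lit 187) (nat_lit 215) (Dv.wd (nat_lit 80) [Mv.f (nat_lit 668), Mv.b (nat_lit 699), Mv.b (nat_lit 548)])))
(Tr.lf (Fc.al (nat_lit 702) (nat_lit 61) (nat_lit 208) (Dv.wd (nat_lit 135) [Mv.b (nat_lit 613), Mv.b (nat_lit 700), Mv.f (nat_lit 316)])))))
(Tr.nd (nat_lit 704) (Tr.lf (Fc.al (nat_lit 703) (nat_lit 158) (nat_lit 210) (Dv.wd (nat_lit 122) [Mv.f (nat_lit 631), Mv.b (nat_lit 701), Mv.f (nat_lit 549)])))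
(Tr.nd (nat_lit 705) (Tr.lf (Fc.al (nat_lit 704) (nat_lit 36) (nat_lit 209) (Dv.wd (nat_lit 134) [Mv.b (nat_lit 617), Mv.b (nat_lit 702), Mv.f (nat_lit 188)])))
(Tr.lf (Fc.al (nat_lit 705) (nat_lit 105) (nat_lit 36) (Dv.wd (nat_lit 136) [Mv.f (nat_lit 704), Mv.f (nat_lit 619), Mv.b (nat_lit 703), Mv.f (nat_lit 445)])))))))
(Tr.nd (nat_lit 712) (Tr.nd (nat_lit 709) (Tr.nd (nat_lit 707) (Tr.lf (Fc.al (nat_lit 706) (nat_lit 61) (nat_lit 126) (Dv.wd (nat_lit 134) [Mv.f (nat_lit 345), Mv.f (nat_lit 705), Mv.b (nat_lit 188)])))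
(Tr.nd (nat_lit 708) (Tr.lf (Fc.al (nat_lit 707) (nat_lit 115) (nat_lit 185) (Dv.wd (nat_lit 135) [Mv.f (nat_lit 543), Mv.b (nat_lit 706), Mv.b (nat_lit 316)])))
(Tr.lf (Fc.al (nat_lit 708) (nat_lit 58) (nat_lit 127) (Dv.wd (nat_lit 133) [Mv.b (nat_lit 544), Mv.b (nat_lit 707), Mv.b (nat_lit 314)])))))
(Tr.nd (nat_lit 710) (Tr.lf (Fc.al (nat_lit 709) (nat_lit 55) (nat_lit 172) (Dv.wd (nat_lit 134) [Mv.f (nat_lit 479), Mv.b (nat_lit 708), Mv.f (nat_lit 181)])))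
(Tr.nd (nat_lit 711) (Tr.lf (Fc.al (nat_lit 710) (nat_lit 169) (nat_lit 165) (Dv.wd (nat_lit 136) [Mv.b (nat_lit 480), Mv.b (nat_lit 709), Mv.f (nat_lit 468)])))
(Tr.lf (Fc.al (nat_lit 711) (nat_lit 96) (nat_lit 116) (Dv.wd (nat_lit 124) [Mv.b (nat_lit 469), Mv.f (nat_lit 710), Mv.b (nat_lit 457)]))))))
(Tr.nd (nat_lit 715) (Tr.nd (nat_lit 713) (Tr.lf (Fc.al (nat_lit 712) (nat_lit 87) (nat_lit 24) (Dv.wd (nat_lit 133) [Mv.b (nat_lit 318), Mv.b (nat_lit 711), Mv.f (nat_lit 268)])))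
(Tr.nd (nat_lit 714) (Tr.lf (Fc.al (nat_lit 713) (nat_lit 25) (nat_lit 63) (Dv.wd (nat_lit 134) [Mv.b (nat_lit 245), Mv.f (nat_lit 712), Mv.f (nat_lit 105)])))
(Tr.lf (Fc.al (nat_lit 714) (nat_lit 26) (nat_lit 89) (Dv.wd (nat_lit 135) [Mv.f (nat_lit 253), Mv.b (nat_lit 713), Mv.f (nat_lit 106)])))))
(Tr.nd (nat_lit 716) (Tr.lf (Fc.al (nat_lit 715) (nat_lit 27) (nat_lit 57) (Dv.wd (nat_lit 80) [Mv.b (nat_lit 252), Mv.b (nat_lit 714), Mv.f (nat_lit 107)])))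
(Tr.nd (nat_lit 717) (Tr.lf (Fc.al (nat_lit 716) (nat_lit 28) (nat_lit 38) (Dv.wd (nat_lit 114) [Mv.b (nat_lit 177), Mv.b (nat_lit 715), Mv.f (nat_lit 108)])))
(Tr.lf (Fc.ed (nat_lit 717) (nat_lit 28) Col.l (nat_lit 1) (Dv.wd (nat_lit 123) [Mv.f (nat_lit 128), Mv.b (nat_lit 716)])))))))))))))
noncomputable def mini0A : Tr (Alt Col) := (Tr.nd (nat_lit 72) (Tr.nd (nat_lit 36) (Tr.nd (nat_lit 18) (Tr.nd (nat_lit 9) (Tr.nd (nat_lit 4) (Tr.nd (nat_lit 2) (Tr.nd (nat_lit 1) (Tr.lf (Alt.base (nat_lit 0) [] [Col.a]))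
(Tr.lf (Alt.base (nat_lit 1) [] [Col.b])))
(Tr.nd (nat_lit 3) (Tr.lf (Alt.base (nat_lit 2) [] [Col.c]))
(Tr.lf (Alt.base (nat_lit 3) [] [Col.d]))))
(Tr.nd (nat_lit 6) (Tr.nd (nat_lit 5) (Tr.lf (Alt.base (nat_lit 4) [] [Col.e]))
(Tr.lf (Alt.base (nat_lit 5) [] [Col.f])))
(Tr.nd (nat_lit 7) (Tr.lf (Alt.base (nat_lit 7) [] [Col.h]))
(Tr.nd (nat_lit 8) (Tr.lf (Alt.base (nat_lit 8) [] [Col.i]))
(Tr.lf (Alt.word (nat_lit 14) (nat_lit 2) true [Col.b, Col.k, Col.b, Col.k]))))))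
(Tr.nd (nat_lit 13) (Tr.nd (nat_lit 11) (Tr.nd (nat_lit 10) (Tr.lf (Alt.word (nat_lit 15) (nat_lit 2) true [Col.c, Col.k, Col.c, Col.k]))
(Tr.lf (Alt.word (nat_lit 16) (nat_lit 2) true [Col.d, Col.k, Col.d, Col.k])))
(Tr.nd (nat_lit 12) (Tr.lf (Alt.word (nat_lit 17) (nat_lit 2) true [Col.e, Col.k, Col.e, Col.k]))
(Tr.lf (Alt.word (nat_lit 18) (nat_lit 2) true [Col.f, Col.k, Col.f, Col.k]))))
(Tr.nd (nat_lit 15) (Tr.nd (nat_lit 14) (Tr.lf (Alt.word (nat_lit 21) (nat_lit 2) true [Col.h, Col.k, Col.h, Col.k]))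
(Tr.lf (Alt.word (nat_lit 22) (nat_lit 2) true [Col.i, Col.k, Col.i, Col.k])))
(Tr.nd (nat_lit 16) (Tr.lf (Alt.word (nat_lit 25) (nat_lit 2) true [Col.c, Col.a, Col.c, Col.a]))
(Tr.nd (nat_lit 17) (Tr.lf (Alt.word (nat_lit 26) (nat_lit 2) true [Col.d, Col.a, Col.d, Col.a]))
(Tr.lf (Alt.word (nat_lit 27) (nat_lit 2) true [Col.e, Col.a, Col.e, Col.a])))))))
(Tr.nd (nat_lit 27) (Tr.nd (nat_lit 22) (Tr.nd (nat_lit 20) (Tr.nd (nat_lit 19) (Tr.lf (Alt.word (nat_lit 28) (nat_lit 2) true [Col.f, Col.a, Col.f, Col.a]))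
(Tr.lf (Alt.word (nat_lit 31) (nat_lit 2) true [Col.h, Col.a, Col.h, Col.a])))
(Tr.nd (nat_lit 21) (Tr.lf (Alt.word (nat_lit 32) (nat_lit 2) true [Col.i, Col.a, Col.i, Col.a]))
(Tr.lf (Alt.word (nat_lit 13) (nat_lit 1) true [Col.k, Col.a, Col.k, Col.a, Col.k, Col.a]))))
(Tr.nd (nat_lit 24) (Tr.nd (nat_lit 23) (Tr.lf (Alt.word (nat_lit 14) (nat_lit 1) true [Col.k, Col.b, Col.k, Col.b]))
(Tr.lf (Alt.word (nat_lit 35) (nat_lit 2) true [Col.d, Col.b, Col.d, Col.b])))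
(Tr.nd (nat_lit 25) (Tr.lf (Alt.word (nat_lit 36) (nat_lit 2) true [Col.e, Col.b, Col.e, Col.b]))
(Tr.nd (nat_lit 26) (Tr.lf (Alt.word (nat_lit 37) (nat_lit 2) true [Col.f, Col.b, Col.f, Col.b]))
(Tr.lf (Alt.word (nat_lit 40) (nat_lit 2) true [Col.h, Col.b, Col.h, Col.b]))))))
(Tr.nd (nat_lit 31) (Tr.nd (nat_lit 29) (Tr.nd (nat_lit 28) (Tr.lf (Alt.word (nat_lit 41) (nat_lit 2) true [Col.i, Col.b, Col.i, Col.b]))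
(Tr.lf (Alt.word (nat_lit 24) (nat_lit 1) true [Col.a, Col.b, Col.a, Col.b, Col.a, Col.b])))
(Tr.nd (nat_lit 30) (Tr.lf (Alt.word (nat_lit 15) (nat_lit 1) true [Col.k, Col.c, Col.k, Col.c]))
(Tr.lf (Alt.word (nat_lit 25) (nat_lit 1) true [Col.a, Col.c, Col.a, Col.c]))))
(Tr.nd (nat_lit 33) (Tr.nd (nat_lit 32) (Tr.lf (Alt.word (nat_lit 44) (nat_lit 2) true [Col.e, Col.c, Col.e, Col.c]))
(Tr.lf (Alt.word (nat_lit 45) (nat_lit 2) true [Col.f, Col.c, Col.f, Col.c])))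
(Tr.nd (nat_lit 34) (Tr.lf (Alt.word (nat_lit 48) (nat_lit 2) true [Col.h, Col.c, Col.h, Col.c]))
(Tr.nd (nat_lit 35) (Tr.lf (Alt.word (nat_lit 49) (nat_lit 2) true [Col.i, Col.c, Col.i, Col.c]))
(Tr.lf (Alt.word (nat_lit 34) (nat_lit 1) true [Col.b, Col.c, Col.b, Col.c, Col.b, Col.c]))))))))
(Tr.nd (nat_lit 54) (Tr.nd (nat_lit 45) (Tr.nd (nat_lit 40) (Tr.nd (nat_lit 38) (Tr.nd (nat_lit 37) (Tr.lf (Alt.word (nat_lit 16) (nat_lit 1) true [Col.k, Col.d, Col.k, Col.d]))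
(Tr.lf (Alt.word (nat_lit 26) (nat_lit 1) true [Col.a, Col.d, Col.a, Col.d])))
(Tr.nd (nat_lit 39) (Tr.lf (Alt.word (nat_lit 35) (nat_lit 1) true [Col.b, Col.d, Col.b, Col.d]))
(Tr.lf (Alt.word (nat_lit 52) (nat_lit 2) true [Col.f, Col.d, Col.f, Col.d]))))
(Tr.nd (nat_lit 42) (Tr.nd (nat_lit 41) (Tr.lf (Alt.word (nat_lit 56) (nat_lit 2) true [Col.i, Col.d, Col.i, Col.d]))
(Tr.lf (Alt.word (nat_lit 43) (nat_lit 1) true [Col.c, Col.d, Col.c, Col.d, Col.c, Col.d])))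
(Tr.nd (nat_lit 43) (Tr.lf (Alt.word (nat_lit 17) (nat_lit 1) true [Col.k, Col.e, Col.k, Col.e]))
(Tr.nd (nat_lit 44) (Tr.lf (Alt.word (nat_lit 27) (nat_lit 1) true [Col.a, Col.e, Col.a, Col.e]))
(Tr.lf (Alt.word (nat_lit 36) (nat_lit 1) true [Col.b, Col.e, Col.b, Col.e]))))))
(Tr.nd (nat_lit 49) (Tr.nd (nat_lit 47) (Tr.nd (nat_lit 46) (Tr.lf (Alt.word (nat_lit 44) (nat_lit 1) true [Col.c, Col.e, Col.c, Col.e]))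
(Tr.lf (Alt.word (nat_lit 62) (nat_lit 2) true [Col.i, Col.e, Col.i, Col.e])))
(Tr.nd (nat_lit 48) (Tr.lf (Alt.word (nat_lit 51) (nat_lit 1) true [Col.d, Col.e, Col.d, Col.e, Col.d, Col.e]))
(Tr.lf (Alt.word (nat_lit 21) (nat_lit 1) true [Col.k, Col.h, Col.k, Col.h]))))
(Tr.nd (nat_lit 51) (Tr.nd (nat_lit 50) (Tr.lf (Alt.word (nat_lit 31) (nat_lit 1) true [Col.a, Col.h, Col.a, Col.h]))
(Tr.lf (Alt.word (nat_lit 40) (nat_lit 1) true [Col.b, Col.h, Col.b, Col.h])))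
(Tr.nd (nat_lit 52) (Tr.lf (Alt.word (nat_lit 48) (nat_lit 1) true [Col.c, Col.h, Col.c, Col.h]))
(Tr.nd (nat_lit 53) (Tr.lf (Alt.word (nat_lit 55) (nat_lit 2) true [Col.h, Col.d, Col.h, Col.d, Col.h, Col.d]))
(Tr.lf (Alt.word (nat_lit 43) (nat_lit 2) true [Col.d, Col.c, Col.d, Col.c, Col.d, Col.c])))))))
(Tr.nd (nat_lit 63) (Tr.nd (nat_lit 58) (Tr.nd (nat_lit 56) (Tr.nd (nat_lit 55) (Tr.lf (Alt.word (nat_lit 34) (nat_lit 2) true [Col.c, Col.b, Col.c, Col.b, Col.c, Col.b]))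
(Tr.lf (Alt.word (nat_lit 24) (nat_lit 2) true [Col.b, Col.a, Col.b, Col.a, Col.b, Col.a])))
(Tr.nd (nat_lit 57) (Tr.lf (Alt.word (nat_lit 41) (nat_lit 1) true [Col.b, Col.i, Col.b, Col.i]))
(Tr.lf (Alt.word (nat_lit 49) (nat_lit 1) true [Col.c, Col.i, Col.c, Col.i]))))
(Tr.nd (nat_lit 60) (Tr.nd (nat_lit 59) (Tr.lf (Alt.word (nat_lit 56) (nat_lit 1) true [Col.d, Col.i, Col.d, Col.i]))
(Tr.lf (Alt.word (nat_lit 51) (nat_lit 2) true [Col.e, Col.d, Col.e, Col.d, Col.e, Col.d])))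
(Tr.nd (nat_lit 61) (Tr.lf (Alt.word (nat_lit 61) (nat_lit 1) true [Col.e, Col.h, Col.e, Col.h]))
(Tr.nd (nat_lit 62) (Tr.lf (Alt.word (nat_lit 62) (nat_lit 1) true [Col.e, Col.i, Col.e, Col.i]))
(Tr.lf (Alt.word (nat_lit 22) (nat_lit 1) true [Col.k, Col.i, Col.k, Col.i]))))))
(Tr.nd (nat_lit 67) (Tr.nd (nat_lit 65) (Tr.nd (nat_lit 64) (Tr.lf (Alt.word (nat_lit 32) (nat_lit 1) true [Col.a, Col.i, Col.a, Col.i]))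
(Tr.lf (Alt.word (nat_lit 13) (nat_lit 2) true [Col.a, Col.k, Col.a, Col.k, Col.a, Col.k])))
(Tr.nd (nat_lit 66) (Tr.lf (Alt.word (nat_lit 10) (nat_lit 2) true [Col.h, Col.l, Col.h, Col.l]))
(Tr.lf (Alt.word (nat_lit 31) (nat_lit 3) true [Col.a, Col.h, Col.a, Col.h]))))
(Tr.nd (nat_lit 69) (Tr.nd (nat_lit 68) (Tr.lf (Alt.word (nat_lit 5) (nat_lit 1) true [Col.l, Col.d, Col.l, Col.d]))
(Tr.lf (Alt.word (nat_lit 10) (nat_lit 1) true [Col.l, Col.h, Col.l, Col.h])))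
(Tr.nd (nat_lit 70) (Tr.lf (Alt.word (nat_lit 2) (nat_lit 1) true [Col.l, Col.a, Col.l, Col.a]))
(Tr.nd (nat_lit 71) (Tr.lf (Alt.word (nat_lit 66) (nat_lit 1) true [Col.f, Col.h, Col.f, Col.h]))
(Tr.lf (Alt.word (nat_lit 55) (nat_lit 1) true [Col.d, Col.h, Col.d, Col.h, Col.d, Col.h])))))))))
(Tr.nd (nat_lit 108) (Tr.nd (nat_lit 90) (Tr.nd (nat_lit 81) (Tr.nd (nat_lit 76) (Tr.nd (nat_lit 74) (Tr.nd (nat_lit 73) (Tr.lf (Alt.word (nat_lit 51) (nat_lit 4) true [Col.e, Col.d, Col.e, Col.d, Col.e, Col.d]))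
(Tr.lf (Alt.word (nat_lit 62) (nat_lit 3) true [Col.e, Col.i, Col.e, Col.i])))
(Tr.nd (nat_lit 75) (Tr.lf (Alt.word (nat_lit 61) (nat_lit 3) true [Col.e, Col.h, Col.e, Col.h]))
(Tr.lf (Alt.word (nat_lit 51) (nat_lit 3) true [Col.d, Col.e, Col.d, Col.e, Col.d, Col.e]))))
(Tr.nd (nat_lit 78) (Tr.nd (nat_lit 77) (Tr.lf (Alt.word (nat_lit 43) (nat_lit 3) true [Col.c, Col.d, Col.c, Col.d, Col.c, Col.d]))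
(Tr.lf (Alt.word (nat_lit 48) (nat_lit 3) true [Col.c, Col.h, Col.c, Col.h])))
(Tr.nd (nat_lit 79) (Tr.lf (Alt.word (nat_lit 49) (nat_lit 3) true [Col.c, Col.i, Col.c, Col.i]))
(Tr.nd (nat_lit 80) (Tr.lf (Alt.word (nat_lit 34) (nat_lit 4) true [Col.c, Col.b, Col.c, Col.b, Col.c, Col.b]))
(Tr.lf (Alt.word (nat_lit 33) (nat_lit 0) true [Col.b, Col.b]))))))
(Tr.nd (nat_lit 85) (Tr.nd (nat_lit 83) (Tr.nd (nat_lit 82) (Tr.lf (Alt.word (nat_lit 16) (nat_lit 3) true [Col.k, Col.d, Col.k, Col.d]))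
(Tr.lf (Alt.word (nat_lit 27) (nat_lit 3) true [Col.a, Col.e, Col.a, Col.e])))
(Tr.nd (nat_lit 84) (Tr.lf (Alt.word (nat_lit 2) (nat_lit 2) true [Col.a, Col.l, Col.a, Col.l]))
(Tr.lf (Alt.word (nat_lit 66) (nat_lit 2) true [Col.h, Col.f, Col.h, Col.f]))))
(Tr.nd (nat_lit 87) (Tr.nd (nat_lit 86) (Tr.lf (Alt.word (nat_lit 52) (nat_lit 1) true [Col.d, Col.f, Col.d, Col.f]))
(Tr.lf (Alt.word (nat_lit 61) (nat_lit 2) true [Col.h, Col.e, Col.h, Col.e])))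
(Tr.nd (nat_lit 88) (Tr.lf (Alt.word (nat_lit 67) (nat_lit 1) true [Col.f, Col.i, Col.f, Col.i]))
(Tr.nd (nat_lit 89) (Tr.lf (Alt.word (nat_lit 3) (nat_lit 3) true [Col.l, Col.b, Col.l, Col.b]))
(Tr.lf (Alt.word (nat_lit 26) (nat_lit 3) true [Col.a, Col.d, Col.a, Col.d])))))))
(Tr.nd (nat_lit 99) (Tr.nd (nat_lit 94) (Tr.nd (nat_lit 92) (Tr.nd (nat_lit 91) (Tr.lf (Alt.word (nat_lit 16) (nat_lit 0) true [Col.d, Col.k, Col.d, Col.k]))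
(Tr.lf (Alt.word (nat_lit 45) (nat_lit 3) true [Col.c, Col.f, Col.c, Col.f])))
(Tr.nd (nat_lit 93) (Tr.lf (Alt.word (nat_lit 18) (nat_lit 1) true [Col.k, Col.f, Col.k, Col.f]))
(Tr.lf (Alt.word (nat_lit 5) (nat_lit 2) true [Col.d, Col.l, Col.d, Col.l]))))
(Tr.nd (nat_lit 96) (Tr.nd (nat_lit 95) (Tr.lf (Alt.word (nat_lit 6) (nat_lit 2) true [Col.e, Col.l, Col.e, Col.l]))
(Tr.lf (Alt.word (nat_lit 28) (nat_lit 1) true [Col.a, Col.f, Col.a, Col.f])))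
(Tr.nd (nat_lit 97) (Tr.lf (Alt.word (nat_lit 37) (nat_lit 1) true [Col.b, Col.f, Col.b, Col.f]))
(Tr.nd (nat_lit 98) (Tr.lf (Alt.word (nat_lit 3) (nat_lit 2) true [Col.b, Col.l, Col.b, Col.l]))
(Tr.lf (Alt.word (nat_lit 4) (nat_lit 2) true [Col.c, Col.l, Col.c, Col.l]))))))
(Tr.nd (nat_lit 103) (Tr.nd (nat_lit 101) (Tr.nd (nat_lit 100) (Tr.lf (Alt.word (nat_lit 6) (nat_lit 1) true [Col.l, Col.e, Col.l, Col.e]))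
(Tr.lf (Alt.word (nat_lit 67) (nat_lit 2) true [Col.i, Col.f, Col.i, Col.f])))
(Tr.nd (nat_lit 102) (Tr.lf (Alt.word (nat_lit 18) (nat_lit 3) true [Col.k, Col.f, Col.k, Col.f]))
(Tr.lf (Alt.word (nat_lit 11) (nat_lit 2) true [Col.i, Col.l, Col.i, Col.l]))))
(Tr.nd (nat_lit 105) (Tr.nd (nat_lit 104) (Tr.lf (Alt.word (nat_lit 58) (nat_lit 2) true [Col.f, Col.e, Col.f, Col.e, Col.f, Col.e]))
(Tr.lf (Alt.word (nat_lit 35) (nat_lit 0) true [Col.d, Col.b, Col.d, Col.b])))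
(Tr.nd (nat_lit 106) (Tr.lf (Alt.word (nat_lit 45) (nat_lit 1) true [Col.c, Col.f, Col.c, Col.f]))
(Tr.nd (nat_lit 107) (Tr.lf (Alt.word (nat_lit 3) (nat_lit 0) true [Col.b, Col.l, Col.b, Col.l]))
(Tr.lf (Alt.word (nat_lit 7) (nat_lit 1) true [Col.l, Col.f, Col.l, Col.f]))))))))
(Tr.nd (nat_lit 126) (Tr.nd (nat_lit 117) (Tr.nd (nat_lit 112) (Tr.nd (nat_lit 110) (Tr.nd (nat_lit 109) (Tr.lf (Alt.word (nat_lit 26) (nat_lit 0) true [Col.d, Col.a, Col.d, Col.a]))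
(Tr.lf (Alt.word (nat_lit 3) (nat_lit 1) true [Col.l, Col.b, Col.l, Col.b])))
(Tr.nd (nat_lit 111) (Tr.lf (Alt.word (nat_lit 11) (nat_lit 1) true [Col.l, Col.i, Col.l, Col.i]))
(Tr.lf (Alt.word (nat_lit 76) (nat_lit 5) true [Col.h, Col.i, Col.h, Col.i, Col.h, Col.i]))))
(Tr.nd (nat_lit 114) (Tr.nd (nat_lit 113) (Tr.lf (Alt.word (nat_lit 66) (nat_lit 0) true [Col.h, Col.f, Col.h, Col.f]))
(Tr.lf (Alt.word (nat_lit 1) (nat_lit 2) true [Col.k, Col.l, Col.k, Col.l, Col.k, Col.l])))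
(Tr.nd (nat_lit 115) (Tr.lf (Alt.word (nat_lit 23) (nat_lit 0) true [Col.a, Col.a]))
(Tr.nd (nat_lit 116) (Tr.lf (Alt.word (nat_lit 24) (nat_lit 4) true [Col.b, Col.a, Col.b, Col.a, Col.b, Col.a]))
(Tr.lf (Alt.word (nat_lit 37) (nat_lit 3) true [Col.b, Col.f, Col.b, Col.f]))))))
(Tr.nd (nat_lit 121) (Tr.nd (nat_lit 119) (Tr.nd (nat_lit 118) (Tr.lf (Alt.word (nat_lit 35) (nat_lit 3) true [Col.b, Col.d, Col.b, Col.d]))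
(Tr.lf (Alt.word (nat_lit 24) (nat_lit 3) true [Col.a, Col.b, Col.a, Col.b, Col.a, Col.b])))
(Tr.nd (nat_lit 120) (Tr.lf (Alt.word (nat_lit 25) (nat_lit 3) true [Col.a, Col.c, Col.a, Col.c]))
(Tr.lf (Alt.word (nat_lit 32) (nat_lit 3) true [Col.a, Col.i, Col.a, Col.i]))))
(Tr.nd (nat_lit 123) (Tr.nd (nat_lit 122) (Tr.lf (Alt.word (nat_lit 25) (nat_lit 0) true [Col.c, Col.a, Col.c, Col.a]))
(Tr.lf (Alt.word (nat_lit 63) (nat_lit 0) true [Col.f, Col.f])))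
(Tr.nd (nat_lit 124) (Tr.lf (Alt.word (nat_lit 0) (nat_lit 0) true [Col.l, Col.l]))
(Tr.nd (nat_lit 125) (Tr.lf (Alt.word (nat_lit 77) (nat_lit 0) true [Col.i, Col.i]))
(Tr.lf (Alt.word (nat_lit 28) (nat_lit 3) true [Col.a, Col.f, Col.a, Col.f])))))))
(Tr.nd (nat_lit 135) (Tr.nd (nat_lit 130) (Tr.nd (nat_lit 128) (Tr.nd (nat_lit 127) (Tr.lf (Alt.word (nat_lit 58) (nat_lit 1) true [Col.e, Col.f, Col.e, Col.f, Col.e, Col.f]))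
(Tr.lf (Alt.word (nat_lit 7) (nat_lit 2) true [Col.f, Col.l, Col.f, Col.l])))
(Tr.nd (nat_lit 129) (Tr.lf (Alt.word (nat_lit 4) (nat_lit 1) true [Col.l, Col.c, Col.l, Col.c]))
(Tr.lf (Alt.word (nat_lit 78) (nat_lit 5) false [Col.c, Col.b, Col.a, Col.h, Col.f, Col.e, Col.d, Col.c, Col.b, Col.a, Col.h, Col.f, Col.e, Col.d, Col.c, Col.b, Col.a, Col.h, Col.f, Col.e, Col.d, Col.c, Col.b, Col.a, Col.h, Col.f, Col.e, Col.d, Col.c, Col.b, Col.a, Col.h, Col.f, Col.e, Col.d, Col.c, Col.b, Col.a, Col.h, Col.f, Col.e, Col.d, Col.c, Col.b, Col.a, Col.h, Col.f, Col.e, Col.d, Col.c, Col.b, Col.a, Col.h, Col.f, Col.e, Col.d, Col.c, Col.b, Col.a, Col.l, Col.h, Col.f, Col.e, Col.d]))))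
(Tr.nd (nat_lit 132) (Tr.nd (nat_lit 131) (Tr.lf (Alt.word (nat_lit 15) (nat_lit 3) true [Col.k, Col.c, Col.k, Col.c]))
(Tr.lf (Alt.word (nat_lit 17) (nat_lit 0) true [Col.e, Col.k, Col.e, Col.k])))
(Tr.nd (nat_lit 133) (Tr.lf (Alt.word (nat_lit 12) (nat_lit 0) true [Col.k, Col.k]))
(Tr.nd (nat_lit 134) (Tr.lf (Alt.word (nat_lit 75) (nat_lit 0) true [Col.h, Col.h]))
(Tr.lf (Alt.word (nat_lit 50) (nat_lit 0) true [Col.d, Col.d]))))))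
(Tr.nd (nat_lit 140) (Tr.nd (nat_lit 137) (Tr.nd (nat_lit 136) (Tr.lf (Alt.word (nat_lit 42) (nat_lit 0) true [Col.c, Col.c]))
(Tr.lf (Alt.word (nat_lit 57) (nat_lit 0) true [Col.e, Col.e])))
(Tr.nd (nat_lit 138) (Tr.lf (Alt.word (nat_lit 6) (nat_lit 3) true [Col.l, Col.e, Col.l, Col.e]))
(Tr.nd (nat_lit 139) (Tr.lf (Alt.word (nat_lit 1) (nat_lit 4) true [Col.k, Col.l, Col.k, Col.l, Col.k, Col.l]))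
(Tr.lf (Alt.word (nat_lit 22) (nat_lit 3) true [Col.k, Col.i, Col.k, Col.i])))))
(Tr.nd (nat_lit 142) (Tr.nd (nat_lit 141) (Tr.lf (Alt.word (nat_lit 78) (nat_lit 4) false [Col.d, Col.c, Col.b, Col.a, Col.h, Col.f, Col.e, Col.d, Col.c, Col.b, Col.a, Col.h, Col.f, Col.e, Col.d, Col.c, Col.b, Col.a, Col.h, Col.f, Col.e, Col.d, Col.c, Col.b, Col.a, Col.h, Col.f, Col.e, Col.d, Col.c, Col.b, Col.a, Col.h, Col.f, Col.e, Col.d, Col.c, Col.b, Col.a, Col.h, Col.f, Col.e, Col.d, Col.c, Col.b, Col.a, Col.h, Col.f, Col.e, Col.d, Col.c, Col.b, Col.a, Col.h, Col.f, Col.e, Col.d, Col.c, Col.b, Col.a, Col.l, Col.h, Col.f, Col.e]))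
(Tr.lf (Alt.word (nat_lit 78) (nat_lit 3) true [Col.d, Col.e, Col.f, Col.h, Col.a, Col.b, Col.c, Col.d, Col.e, Col.f, Col.h, Col.a, Col.b, Col.c, Col.d, Col.e, Col.f, Col.h, Col.a, Col.b, Col.c, Col.d, Col.e, Col.f, Col.h, Col.a, Col.b, Col.c, Col.d, Col.e, Col.f, Col.h, Col.a, Col.b, Col.c, Col.d, Col.e, Col.f, Col.h, Col.a, Col.b, Col.c, Col.d, Col.e, Col.f, Col.h, Col.a, Col.b, Col.c, Col.d, Col.e, Col.f, Col.h, Col.a, Col.b, Col.c, Col.d, Col.e, Col.f, Col.h, Col.l, Col.a, Col.b, Col.c])))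
(Tr.nd (nat_lit 143) (Tr.lf (Alt.word (nat_lit 17) (nat_lit 3) true [Col.k, Col.e, Col.k, Col.e]))
(Tr.nd (nat_lit 144) (Tr.lf (Alt.word (nat_lit 21) (nat_lit 3) true [Col.k, Col.h, Col.k, Col.h]))
(Tr.lf (Alt.word (nat_lit 14) (nat_lit 3) true [Col.k, Col.b, Col.k, Col.b]))))))))))
noncomputable def mini0P : Tr ℕ := (Tr.nd (nat_lit 116) (Tr.nd (nat_lit 58) (Tr.nd (nat_lit 29) (Tr.nd (nat_lit 14) (Tr.nd (nat_lit 7) (Tr.nd (nat_lit 3) (Tr.nd (nat_lit 1) (Tr.lf (nat_lit 0))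
(Tr.nd (nat_lit 2) (Tr.lf (nat_lit 0))
(Tr.lf (nat_lit 1))))
(Tr.nd (nat_lit 5) (Tr.nd (nat_lit 4) (Tr.lf (nat_lit 2))
(Tr.lf (nat_lit 3)))
(Tr.nd (nat_lit 6) (Tr.lf (nat_lit 4))
(Tr.lf (nat_lit 5)))))
(Tr.nd (nat_lit 10) (Tr.nd (nat_lit 8) (Tr.lf (nat_lit 6))
(Tr.nd (nat_lit 9) (Tr.lf (nat_lit 7))
(Tr.lf (nat_lit 8))))
(Tr.nd (nat_lit 12) (Tr.nd (nat_lit 11) (Tr.lf (nat_lit 9))
(Tr.lf (nat_lit 10)))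
(Tr.nd (nat_lit 13) (Tr.lf (nat_lit 11))
(Tr.lf (nat_lit 12))))))
(Tr.nd (nat_lit 21) (Tr.nd (nat_lit 17) (Tr.nd (nat_lit 15) (Tr.lf (nat_lit 13))
(Tr.nd (nat_lit 16) (Tr.lf (nat_lit 14))
(Tr.lf (nat_lit 15))))
(Tr.nd (nat_lit 19) (Tr.nd (nat_lit 18) (Tr.lf (nat_lit 16))
(Tr.lf (nat_lit 17)))
(Tr.nd (nat_lit 20) (Tr.lf (nat_lit 18))
(Tr.lf (nat_lit 19)))))
(Tr.nd (nat_lit 25) (Tr.nd (nat_lit 23) (Tr.nd (nat_lit 22) (Tr.lf (nat_lit 20))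
(Tr.lf (nat_lit 21)))
(Tr.nd (nat_lit 24) (Tr.lf (nat_lit 22))
(Tr.lf (nat_lit 23))))
(Tr.nd (nat_lit 27) (Tr.nd (nat_lit 26) (Tr.lf (nat_lit 24))
(Tr.lf (nat_lit 25)))
(Tr.nd (nat_lit 28) (Tr.lf (nat_lit 26))
(Tr.lf (nat_lit 27)))))))
(Tr.nd (nat_lit 43) (Tr.nd (nat_lit 36) (Tr.nd (nat_lit 32) (Tr.nd (nat_lit 30) (Tr.lf (nat_lit 12))
(Tr.nd (nat_lit 31) (Tr.lf (nat_lit 10))
(Tr.lf (nat_lit 14))))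
(Tr.nd (nat_lit 34) (Tr.nd (nat_lit 33) (Tr.lf (nat_lit 11))
(Tr.lf (nat_lit 10)))
(Tr.nd (nat_lit 35) (Tr.lf (nat_lit 13))
(Tr.lf (nat_lit 7)))))
(Tr.nd (nat_lit 39) (Tr.nd (nat_lit 37) (Tr.lf (nat_lit 16))
(Tr.nd (nat_lit 38) (Tr.lf (nat_lit 14))
(Tr.lf (nat_lit 1))))
(Tr.nd (nat_lit 41) (Tr.nd (nat_lit 40) (Tr.lf (nat_lit 35))
(Tr.lf (nat_lit 35)))
(Tr.nd (nat_lit 42) (Tr.lf (nat_lit 15))
(Tr.lf (nat_lit 13))))))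
(Tr.nd (nat_lit 50) (Tr.nd (nat_lit 46) (Tr.nd (nat_lit 44) (Tr.lf (nat_lit 18))
(Tr.nd (nat_lit 45) (Tr.lf (nat_lit 21))
(Tr.lf (nat_lit 33))))
(Tr.nd (nat_lit 48) (Tr.nd (nat_lit 47) (Tr.lf (nat_lit 5))
(Tr.lf (nat_lit 37)))
(Tr.nd (nat_lit 49) (Tr.lf (nat_lit 18))
(Tr.lf (nat_lit 21)))))
(Tr.nd (nat_lit 54) (Tr.nd (nat_lit 52) (Tr.nd (nat_lit 51) (Tr.lf (nat_lit 18))
(Tr.lf (nat_lit 41)))
(Tr.nd (nat_lit 53) (Tr.lf (nat_lit 13))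
(Tr.lf (nat_lit 37))))
(Tr.nd (nat_lit 56) (Tr.nd (nat_lit 55) (Tr.lf (nat_lit 43))
(Tr.lf (nat_lit 22)))
(Tr.nd (nat_lit 57) (Tr.lf (nat_lit 41))
(Tr.lf (nat_lit 2))))))))
(Tr.nd (nat_lit 87) (Tr.nd (nat_lit 72) (Tr.nd (nat_lit 65) (Tr.nd (nat_lit 61) (Tr.nd (nat_lit 59) (Tr.lf (nat_lit 21))
(Tr.nd (nat_lit 60) (Tr.lf (nat_lit 17))
(Tr.lf (nat_lit 15))))
(Tr.nd (nat_lit 63) (Tr.nd (nat_lit 62) (Tr.lf (nat_lit 17))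
(Tr.lf (nat_lit 16)))
(Tr.nd (nat_lit 64) (Tr.lf (nat_lit 4))
(Tr.lf (nat_lit 60)))))
(Tr.nd (nat_lit 68) (Tr.nd (nat_lit 66) (Tr.lf (nat_lit 37))
(Tr.nd (nat_lit 67) (Tr.lf (nat_lit 50))
(Tr.lf (nat_lit 20))))
(Tr.nd (nat_lit 70) (Tr.nd (nat_lit 69) (Tr.lf (nat_lit 21))
(Tr.lf (nat_lit 16)))
(Tr.nd (nat_lit 71) (Tr.lf (nat_lit 21))
(Tr.lf (nat_lit 48))))))
(Tr.nd (nat_lit 79) (Tr.nd (nat_lit 75) (Tr.nd (nat_lit 73) (Tr.lf (nat_lit 36))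
(Tr.nd (nat_lit 74) (Tr.lf (nat_lit 17))
(Tr.lf (nat_lit 29))))
(Tr.nd (nat_lit 77) (Tr.nd (nat_lit 76) (Tr.lf (nat_lit 14))
(Tr.lf (nat_lit 58)))
(Tr.nd (nat_lit 78) (Tr.lf (nat_lit 41))
(Tr.lf (nat_lit 18)))))
(Tr.nd (nat_lit 83) (Tr.nd (nat_lit 81) (Tr.nd (nat_lit 80) (Tr.lf (nat_lit 56))
(Tr.lf (nat_lit 13)))
(Tr.nd (nat_lit 82) (Tr.lf (nat_lit 9))
(Tr.lf (nat_lit 42))))
(Tr.nd (nat_lit 85) (Tr.nd (nat_lit 84) (Tr.lf (nat_lit 42))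
(Tr.lf (nat_lit 34)))
(Tr.nd (nat_lit 86) (Tr.lf (nat_lit 29))
(Tr.lf (nat_lit 74)))))))
(Tr.nd (nat_lit 101) (Tr.nd (nat_lit 94) (Tr.nd (nat_lit 90) (Tr.nd (nat_lit 88) (Tr.lf (nat_lit 5))
(Tr.nd (nat_lit 89) (Tr.lf (nat_lit 8))
(Tr.lf (nat_lit 3))))
(Tr.nd (nat_lit 92) (Tr.nd (nat_lit 91) (Tr.lf (nat_lit 8))
(Tr.lf (nat_lit 49)))
(Tr.nd (nat_lit 93) (Tr.lf (nat_lit 36))
(Tr.lf (nat_lit 20)))))
(Tr.nd (nat_lit 97) (Tr.nd (nat_lit 95) (Tr.lf (nat_lit 45))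
(Tr.nd (nat_lit 96) (Tr.lf (nat_lit 34))
(Tr.lf (nat_lit 35))))
(Tr.nd (nat_lit 99) (Tr.nd (nat_lit 98) (Tr.lf (nat_lit 50))
(Tr.lf (nat_lit 46)))
(Tr.nd (nat_lit 100) (Tr.lf (nat_lit 78))
(Tr.lf (nat_lit 93))))))
(Tr.nd (nat_lit 108) (Tr.nd (nat_lit 104) (Tr.nd (nat_lit 102) (Tr.lf (nat_lit 51))
(Tr.nd (nat_lit 103) (Tr.lf (nat_lit 32))
(Tr.lf (nat_lit 59))))
(Tr.nd (nat_lit 106) (Tr.nd (nat_lit 105) (Tr.lf (nat_lit 81))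
(Tr.lf (nat_lit 47)))
(Tr.nd (nat_lit 107) (Tr.lf (nat_lit 58))
(Tr.lf (nat_lit 65)))))
(Tr.nd (nat_lit 112) (Tr.nd (nat_lit 110) (Tr.nd (nat_lit 109) (Tr.lf (nat_lit 9))
(Tr.lf (nat_lit 30)))
(Tr.nd (nat_lit 111) (Tr.lf (nat_lit 41))
(Tr.lf (nat_lit 82))))
(Tr.nd (nat_lit 114) (Tr.nd (nat_lit 113) (Tr.lf (nat_lit 69))
(Tr.lf (nat_lit 45)))
(Tr.nd (nat_lit 115) (Tr.lf (nat_lit 68))
(Tr.lf (nat_lit 58)))))))))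
(Tr.nd (nat_lit 174) (Tr.nd (nat_lit 145) (Tr.nd (nat_lit 130) (Tr.nd (nat_lit 123) (Tr.nd (nat_lit 119) (Tr.nd (nat_lit 117) (Tr.lf (nat_lit 22))
(Tr.nd (nat_lit 118) (Tr.lf (nat_lit 81))
(Tr.lf (nat_lit 68))))
(Tr.nd (nat_lit 121) (Tr.nd (nat_lit 120) (Tr.lf (nat_lit 99))
(Tr.lf (nat_lit 99)))
(Tr.nd (nat_lit 122) (Tr.lf (nat_lit 7))
(Tr.lf (nat_lit 76)))))
(Tr.nd (nat_lit 126) (Tr.nd (nat_lit 124) (Tr.lf (nat_lit 106))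
(Tr.nd (nat_lit 125) (Tr.lf (nat_lit 77))
(Tr.lf (nat_lit 54))))
(Tr.nd (nat_lit 128) (Tr.nd (nat_lit 127) (Tr.lf (nat_lit 83))
(Tr.lf (nat_lit 39)))
(Tr.nd (nat_lit 129) (Tr.lf (nat_lit 65))
(Tr.lf (nat_lit 90))))))
(Tr.nd (nat_lit 137) (Tr.nd (nat_lit 133) (Tr.nd (nat_lit 131) (Tr.lf (nat_lit 67))
(Tr.nd (nat_lit 132) (Tr.lf (nat_lit 69))
(Tr.lf (nat_lit 103))))
(Tr.nd (nat_lit 135) (Tr.nd (nat_lit 134) (Tr.lf (nat_lit 66))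
(Tr.lf (nat_lit 72)))
(Tr.nd (nat_lit 136) (Tr.lf (nat_lit 53))
(Tr.lf (nat_lit 92)))))
(Tr.nd (nat_lit 141) (Tr.nd (nat_lit 139) (Tr.nd (nat_lit 138) (Tr.lf (nat_lit 94))
(Tr.lf (nat_lit 58)))
(Tr.nd (nat_lit 140) (Tr.lf (nat_lit 135))
(Tr.lf (nat_lit 113))))
(Tr.nd (nat_lit 143) (Tr.nd (nat_lit 142) (Tr.lf (nat_lit 100))
(Tr.lf (nat_lit 90)))
(Tr.nd (nat_lit 144) (Tr.lf (nat_lit 99))
(Tr.lf (nat_lit 64)))))))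
(Tr.nd (nat_lit 159) (Tr.nd (nat_lit 152) (Tr.nd (nat_lit 148) (Tr.nd (nat_lit 146) (Tr.lf (nat_lit 54))
(Tr.nd (nat_lit 147) (Tr.lf (nat_lit 90))
(Tr.lf (nat_lit 91))))
(Tr.nd (nat_lit 150) (Tr.nd (nat_lit 149) (Tr.lf (nat_lit 48))
(Tr.lf (nat_lit 138)))
(Tr.nd (nat_lit 151) (Tr.lf (nat_lit 60))
(Tr.lf (nat_lit 107)))))
(Tr.nd (nat_lit 155) (Tr.nd (nat_lit 153) (Tr.lf (nat_lit 129))
(Tr.nd (nat_lit 154) (Tr.lf (nat_lit 143))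
(Tr.lf (nat_lit 121))))
(Tr.nd (nat_lit 157) (Tr.nd (nat_lit 156) (Tr.lf (nat_lit 94))
(Tr.lf (nat_lit 131)))
(Tr.nd (nat_lit 158) (Tr.lf (nat_lit 86))
(Tr.lf (nat_lit 107))))))
(Tr.nd (nat_lit 166) (Tr.nd (nat_lit 162) (Tr.nd (nat_lit 160) (Tr.lf (nat_lit 148))
(Tr.nd (nat_lit 161) (Tr.lf (nat_lit 114))
(Tr.lf (nat_lit 120))))
(Tr.nd (nat_lit 164) (Tr.nd (nat_lit 163) (Tr.lf (nat_lit 119))
(Tr.lf (nat_lit 128)))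
(Tr.nd (nat_lit 165) (Tr.lf (nat_lit 117))
(Tr.lf (nat_lit 96)))))
(Tr.nd (nat_lit 170) (Tr.nd (nat_lit 168) (Tr.nd (nat_lit 167) (Tr.lf (nat_lit 145))
(Tr.lf (nat_lit 93)))
(Tr.nd (nat_lit 169) (Tr.lf (nat_lit 88))
(Tr.lf (nat_lit 55))))
(Tr.nd (nat_lit 172) (Tr.nd (nat_lit 171) (Tr.lf (nat_lit 80))
(Tr.lf (nat_lit 144)))
(Tr.nd (nat_lit 173) (Tr.lf (nat_lit 129))
(Tr.lf (nat_lit 73))))))))
(Tr.nd (nat_lit 203) (Tr.nd (nat_lit 188) (Tr.nd (nat_lit 181) (Tr.nd (nat_lit 177) (Tr.nd (nat_lit 175) (Tr.lf (nat_lit 123))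
(Tr.nd (nat_lit 176) (Tr.lf (nat_lit 166))
(Tr.lf (nat_lit 109))))
(Tr.nd (nat_lit 179) (Tr.nd (nat_lit 178) (Tr.lf (nat_lit 108))
(Tr.lf (nat_lit 177)))
(Tr.nd (nat_lit 180) (Tr.lf (nat_lit 125))
(Tr.lf (nat_lit 178)))))
(Tr.nd (nat_lit 184) (Tr.nd (nat_lit 182) (Tr.lf (nat_lit 180))
(Tr.nd (nat_lit 183) (Tr.lf (nat_lit 175))
(Tr.lf (nat_lit 100))))
(Tr.nd (nat_lit 186) (Tr.nd (nat_lit 185) (Tr.lf (nat_lit 137))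
(Tr.lf (nat_lit 146)))
(Tr.nd (nat_lit 187) (Tr.lf (nat_lit 162))
(Tr.lf (nat_lit 151))))))
(Tr.nd (nat_lit 195) (Tr.nd (nat_lit 191) (Tr.nd (nat_lit 189) (Tr.lf (nat_lit 142))
(Tr.nd (nat_lit 190) (Tr.lf (nat_lit 149))
(Tr.lf (nat_lit 189))))
(Tr.nd (nat_lit 193) (Tr.nd (nat_lit 192) (Tr.lf (nat_lit 190))
(Tr.lf (nat_lit 148)))
(Tr.nd (nat_lit 194) (Tr.lf (nat_lit 174))
(Tr.lf (nat_lit 148)))))
(Tr.nd (nat_lit 199) (Tr.nd (nat_lit 197) (Tr.nd (nat_lit 196) (Tr.lf (nat_lit 153))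
(Tr.lf (nat_lit 194)))
(Tr.nd (nat_lit 198) (Tr.lf (nat_lit 192))
(Tr.lf (nat_lit 193))))
(Tr.nd (nat_lit 201) (Tr.nd (nat_lit 200) (Tr.lf (nat_lit 189))
(Tr.lf (nat_lit 193)))
(Tr.nd (nat_lit 202) (Tr.lf (nat_lit 198))
(Tr.lf (nat_lit 200)))))))
(Tr.nd (nat_lit 217) (Tr.nd (nat_lit 210) (Tr.nd (nat_lit 206) (Tr.nd (nat_lit 204) (Tr.lf (nat_lit 199))
(Tr.nd (nat_lit 205) (Tr.lf (nat_lit 195))
(Tr.lf (nat_lit 201))))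
(Tr.nd (nat_lit 208) (Tr.nd (nat_lit 207) (Tr.lf (nat_lit 203))
(Tr.lf (nat_lit 205)))
(Tr.nd (nat_lit 209) (Tr.lf (nat_lit 206))
(Tr.lf (nat_lit 208)))))
(Tr.nd (nat_lit 213) (Tr.nd (nat_lit 211) (Tr.lf (nat_lit 209))
(Tr.nd (nat_lit 212) (Tr.lf (nat_lit 191))
(Tr.lf (nat_lit 204))))
(Tr.nd (nat_lit 215) (Tr.nd (nat_lit 214) (Tr.lf (nat_lit 197))
(Tr.lf (nat_lit 207)))
(Tr.nd (nat_lit 216) (Tr.lf (nat_lit 210))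
(Tr.lf (nat_lit 202))))))
(Tr.nd (nat_lit 224) (Tr.nd (nat_lit 220) (Tr.nd (nat_lit 218) (Tr.lf (nat_lit 196))
(Tr.nd (nat_lit 219) (Tr.lf (nat_lit 215))
(Tr.lf (nat_lit 214))))
(Tr.nd (nat_lit 222) (Tr.nd (nat_lit 221) (Tr.lf (nat_lit 211))
(Tr.lf (nat_lit 218)))
(Tr.nd (nat_lit 223) (Tr.lf (nat_lit 220))
(Tr.lf (nat_lit 221)))))
(Tr.nd (nat_lit 228) (Tr.nd (nat_lit 226) (Tr.nd (nat_lit 225) (Tr.lf (nat_lit 219))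
(Tr.lf (nat_lit 216)))
(Tr.nd (nat_lit 227) (Tr.lf (nat_lit 213))
(Tr.lf (nat_lit 217))))
(Tr.nd (nat_lit 230) (Tr.nd (nat_lit 229) (Tr.lf (nat_lit 225))
(Tr.lf (nat_lit 224)))
(Tr.nd (nat_lit 231) (Tr.lf (nat_lit 229))
(Tr.lf (nat_lit 226))))))))))
noncomputable def mini0Q : Tr ℕ := (Tr.nd (nat_lit 116) (Tr.nd (nat_lit 58) (Tr.nd (nat_lit 29) (Tr.nd (nat_lit 14) (Tr.nd (nat_lit 7) (Tr.nd (nat_lit 3) (Tr.nd (nat_lit 1) (Tr.lf (nat_lit 0))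
(Tr.nd (nat_lit 2) (Tr.lf (nat_lit 1))
(Tr.lf (nat_lit 2))))
(Tr.nd (nat_lit 5) (Tr.nd (nat_lit 4) (Tr.lf (nat_lit 3))
(Tr.lf (nat_lit 4)))
(Tr.nd (nat_lit 6) (Tr.lf (nat_lit 5))
(Tr.lf (nat_lit 6)))))
(Tr.nd (nat_lit 10) (Tr.nd (nat_lit 8) (Tr.lf (nat_lit 10))
(Tr.nd (nat_lit 9) (Tr.lf (nat_lit 5))
(Tr.lf (nat_lit 4))))
(Tr.nd (nat_lit 12) (Tr.nd (nat_lit 11) (Tr.lf (nat_lit 3))
(Tr.lf (nat_lit 2)))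
(Tr.nd (nat_lit 13) (Tr.lf (nat_lit 11))
(Tr.lf (nat_lit 10))))))
(Tr.nd (nat_lit 21) (Tr.nd (nat_lit 17) (Tr.nd (nat_lit 15) (Tr.lf (nat_lit 5))
(Tr.nd (nat_lit 16) (Tr.lf (nat_lit 4))
(Tr.lf (nat_lit 6))))
(Tr.nd (nat_lit 19) (Tr.nd (nat_lit 18) (Tr.lf (nat_lit 5))
(Tr.lf (nat_lit 10)))
(Tr.nd (nat_lit 20) (Tr.lf (nat_lit 11))
(Tr.lf (nat_lit 3)))))
(Tr.nd (nat_lit 25) (Tr.nd (nat_lit 23) (Tr.nd (nat_lit 22) (Tr.lf (nat_lit 4))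
(Tr.lf (nat_lit 5)))
(Tr.nd (nat_lit 24) (Tr.lf (nat_lit 10))
(Tr.lf (nat_lit 6))))
(Tr.nd (nat_lit 27) (Tr.nd (nat_lit 26) (Tr.lf (nat_lit 5))
(Tr.lf (nat_lit 4)))
(Tr.nd (nat_lit 28) (Tr.lf (nat_lit 3))
(Tr.lf (nat_lit 2)))))))
(Tr.nd (nat_lit 43) (Tr.nd (nat_lit 36) (Tr.nd (nat_lit 32) (Tr.nd (nat_lit 30) (Tr.lf (nat_lit 1))
(Tr.nd (nat_lit 31) (Tr.lf (nat_lit 11))
(Tr.lf (nat_lit 6))))
(Tr.nd (nat_lit 34) (Tr.nd (nat_lit 33) (Tr.lf (nat_lit 1))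
(Tr.lf (nat_lit 0)))
(Tr.nd (nat_lit 35) (Tr.lf (nat_lit 1))
(Tr.lf (nat_lit 0)))))
(Tr.nd (nat_lit 39) (Tr.nd (nat_lit 37) (Tr.lf (nat_lit 3))
(Tr.nd (nat_lit 38) (Tr.lf (nat_lit 2))
(Tr.lf (nat_lit 0))))
(Tr.nd (nat_lit 41) (Tr.nd (nat_lit 40) (Tr.lf (nat_lit 5))
(Tr.lf (nat_lit 10)))
(Tr.nd (nat_lit 42) (Tr.lf (nat_lit 1))
(Tr.lf (nat_lit 0))))))
(Tr.nd (nat_lit 50) (Tr.nd (nat_lit 46) (Tr.nd (nat_lit 44) (Tr.lf (nat_lit 1))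
(Tr.nd (nat_lit 45) (Tr.lf (nat_lit 3))
(Tr.lf (nat_lit 2))))
(Tr.nd (nat_lit 48) (Tr.nd (nat_lit 47) (Tr.lf (nat_lit 10))
(Tr.lf (nat_lit 3)))
(Tr.nd (nat_lit 49) (Tr.lf (nat_lit 7))
(Tr.lf (nat_lit 1)))))
(Tr.nd (nat_lit 54) (Tr.nd (nat_lit 52) (Tr.nd (nat_lit 51) (Tr.lf (nat_lit 3))
(Tr.lf (nat_lit 6)))
(Tr.nd (nat_lit 53) (Tr.lf (nat_lit 2))
(Tr.lf (nat_lit 4))))
(Tr.nd (nat_lit 56) (Tr.nd (nat_lit 55) (Tr.lf (nat_lit 7))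
(Tr.lf (nat_lit 11)))
(Tr.nd (nat_lit 57) (Tr.lf (nat_lit 7))
(Tr.lf (nat_lit 0))))))))
(Tr.nd (nat_lit 87) (Tr.nd (nat_lit 72) (Tr.nd (nat_lit 65) (Tr.nd (nat_lit 61) (Tr.nd (nat_lit 59) (Tr.lf (nat_lit 11))
(Tr.nd (nat_lit 60) (Tr.lf (nat_lit 7))
(Tr.lf (nat_lit 0))))
(Tr.nd (nat_lit 63) (Tr.nd (nat_lit 62) (Tr.lf (nat_lit 3))
(Tr.lf (nat_lit 7)))
(Tr.nd (nat_lit 64) (Tr.lf (nat_lit 0))
(Tr.lf (nat_lit 3)))))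
(Tr.nd (nat_lit 68) (Tr.nd (nat_lit 66) (Tr.lf (nat_lit 6))
(Tr.nd (nat_lit 67) (Tr.lf (nat_lit 1))
(Tr.lf (nat_lit 1))))
(Tr.nd (nat_lit 70) (Tr.nd (nat_lit 69) (Tr.lf (nat_lit 0))
(Tr.lf (nat_lit 2)))
(Tr.nd (nat_lit 71) (Tr.lf (nat_lit 2))
(Tr.lf (nat_lit 11))))))
(Tr.nd (nat_lit 79) (Tr.nd (nat_lit 75) (Tr.nd (nat_lit 73) (Tr.lf (nat_lit 6))
(Tr.nd (nat_lit 74) (Tr.lf (nat_lit 1))
(Tr.lf (nat_lit 7))))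
(Tr.nd (nat_lit 77) (Tr.nd (nat_lit 76) (Tr.lf (nat_lit 7))
(Tr.lf (nat_lit 2)))
(Tr.nd (nat_lit 78) (Tr.lf (nat_lit 4))
(Tr.lf (nat_lit 2)))))
(Tr.nd (nat_lit 83) (Tr.nd (nat_lit 81) (Tr.nd (nat_lit 80) (Tr.lf (nat_lit 1))
(Tr.lf (nat_lit 7)))
(Tr.nd (nat_lit 82) (Tr.lf (nat_lit 11))
(Tr.lf (nat_lit 5))))
(Tr.nd (nat_lit 85) (Tr.nd (nat_lit 84) (Tr.lf (nat_lit 2))
(Tr.lf (nat_lit 7)))
(Tr.nd (nat_lit 86) (Tr.lf (nat_lit 0))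
(Tr.lf (nat_lit 1)))))))
(Tr.nd (nat_lit 101) (Tr.nd (nat_lit 94) (Tr.nd (nat_lit 90) (Tr.nd (nat_lit 88) (Tr.lf (nat_lit 0))
(Tr.nd (nat_lit 89) (Tr.lf (nat_lit 7))
(Tr.lf (nat_lit 0))))
(Tr.nd (nat_lit 92) (Tr.nd (nat_lit 91) (Tr.lf (nat_lit 11))
(Tr.lf (nat_lit 7)))
(Tr.nd (nat_lit 93) (Tr.lf (nat_lit 7))
(Tr.lf (nat_lit 7)))))
(Tr.nd (nat_lit 97) (Tr.nd (nat_lit 95) (Tr.lf (nat_lit 7))
(Tr.nd (nat_lit 96) (Tr.lf (nat_lit 0))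
(Tr.lf (nat_lit 6))))
(Tr.nd (nat_lit 99) (Tr.nd (nat_lit 98) (Tr.lf (nat_lit 7))
(Tr.lf (nat_lit 11)))
(Tr.nd (nat_lit 100) (Tr.lf (nat_lit 7))
(Tr.lf (nat_lit 4))))))
(Tr.nd (nat_lit 108) (Tr.nd (nat_lit 104) (Tr.nd (nat_lit 102) (Tr.lf (nat_lit 0))
(Tr.nd (nat_lit 103) (Tr.lf (nat_lit 0))
(Tr.lf (nat_lit 6))))
(Tr.nd (nat_lit 106) (Tr.nd (nat_lit 105) (Tr.lf (nat_lit 10))
(Tr.lf (nat_lit 0)))
(Tr.nd (nat_lit 107) (Tr.lf (nat_lit 0))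
(Tr.lf (nat_lit 3)))))
(Tr.nd (nat_lit 112) (Tr.nd (nat_lit 110) (Tr.nd (nat_lit 109) (Tr.lf (nat_lit 7))
(Tr.lf (nat_lit 7)))
(Tr.nd (nat_lit 111) (Tr.lf (nat_lit 0))
(Tr.lf (nat_lit 2))))
(Tr.nd (nat_lit 114) (Tr.nd (nat_lit 113) (Tr.lf (nat_lit 7))
(Tr.lf (nat_lit 1)))
(Tr.nd (nat_lit 115) (Tr.lf (nat_lit 7))
(Tr.lf (nat_lit 10)))))))))
(Tr.nd (nat_lit 174) (Tr.nd (nat_lit 145) (Tr.nd (nat_lit 130) (Tr.nd (nat_lit 123) (Tr.nd (nat_lit 119) (Tr.nd (nat_lit 117) (Tr.lf (nat_lit 6))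
(Tr.nd (nat_lit 118) (Tr.lf (nat_lit 7))
(Tr.lf (nat_lit 2))))
(Tr.nd (nat_lit 121) (Tr.nd (nat_lit 120) (Tr.lf (nat_lit 0))
(Tr.lf (nat_lit 10)))
(Tr.nd (nat_lit 122) (Tr.lf (nat_lit 7))
(Tr.lf (nat_lit 0)))))
(Tr.nd (nat_lit 126) (Tr.nd (nat_lit 124) (Tr.lf (nat_lit 7))
(Tr.nd (nat_lit 125) (Tr.lf (nat_lit 0))
(Tr.lf (nat_lit 10))))
(Tr.nd (nat_lit 128) (Tr.nd (nat_lit 127) (Tr.lf (nat_lit 3))
(Tr.lf (nat_lit 11)))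
(Tr.nd (nat_lit 129) (Tr.lf (nat_lit 7))
(Tr.lf (nat_lit 5))))))
(Tr.nd (nat_lit 137) (Tr.nd (nat_lit 133) (Tr.nd (nat_lit 131) (Tr.lf (nat_lit 7))
(Tr.nd (nat_lit 132) (Tr.lf (nat_lit 0))
(Tr.lf (nat_lit 2))))
(Tr.nd (nat_lit 135) (Tr.nd (nat_lit 134) (Tr.lf (nat_lit 7))
(Tr.lf (nat_lit 2)))
(Tr.nd (nat_lit 136) (Tr.lf (nat_lit 3))
(Tr.lf (nat_lit 5)))))
(Tr.nd (nat_lit 141) (Tr.nd (nat_lit 139) (Tr.nd (nat_lit 138) (Tr.lf (nat_lit 6))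
(Tr.lf (nat_lit 7)))
(Tr.nd (nat_lit 140) (Tr.lf (nat_lit 2))
(Tr.lf (nat_lit 0))))
(Tr.nd (nat_lit 143) (Tr.nd (nat_lit 142) (Tr.lf (nat_lit 2))
(Tr.lf (nat_lit 7)))
(Tr.nd (nat_lit 144) (Tr.lf (nat_lit 6))
(Tr.lf (nat_lit 7)))))))
(Tr.nd (nat_lit 159) (Tr.nd (nat_lit 152) (Tr.nd (nat_lit 148) (Tr.nd (nat_lit 146) (Tr.lf (nat_lit 0))
(Tr.nd (nat_lit 147) (Tr.lf (nat_lit 10))
(Tr.lf (nat_lit 6))))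
(Tr.nd (nat_lit 150) (Tr.nd (nat_lit 149) (Tr.lf (nat_lit 6))
(Tr.lf (nat_lit 6)))
(Tr.nd (nat_lit 151) (Tr.lf (nat_lit 7))
(Tr.lf (nat_lit 7)))))
(Tr.nd (nat_lit 155) (Tr.nd (nat_lit 153) (Tr.lf (nat_lit 7))
(Tr.nd (nat_lit 154) (Tr.lf (nat_lit 5))
(Tr.lf (nat_lit 10))))
(Tr.nd (nat_lit 157) (Tr.nd (nat_lit 156) (Tr.lf (nat_lit 1))
(Tr.lf (nat_lit 7)))
(Tr.nd (nat_lit 158) (Tr.lf (nat_lit 6))
(Tr.lf (nat_lit 0))))))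
(Tr.nd (nat_lit 166) (Tr.nd (nat_lit 162) (Tr.nd (nat_lit 160) (Tr.lf (nat_lit 11))
(Tr.nd (nat_lit 161) (Tr.lf (nat_lit 6))
(Tr.lf (nat_lit 0))))
(Tr.nd (nat_lit 164) (Tr.nd (nat_lit 163) (Tr.lf (nat_lit 6))
(Tr.lf (nat_lit 0)))
(Tr.nd (nat_lit 165) (Tr.lf (nat_lit 6))
(Tr.lf (nat_lit 11)))))
(Tr.nd (nat_lit 170) (Tr.nd (nat_lit 168) (Tr.nd (nat_lit 167) (Tr.lf (nat_lit 3))
(Tr.lf (nat_lit 6)))
(Tr.nd (nat_lit 169) (Tr.lf (nat_lit 6))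
(Tr.lf (nat_lit 6))))
(Tr.nd (nat_lit 172) (Tr.nd (nat_lit 171) (Tr.lf (nat_lit 6))
(Tr.lf (nat_lit 0)))
(Tr.nd (nat_lit 173) (Tr.lf (nat_lit 0))
(Tr.lf (nat_lit 0))))))))
(Tr.nd (nat_lit 203) (Tr.nd (nat_lit 188) (Tr.nd (nat_lit 181) (Tr.nd (nat_lit 177) (Tr.nd (nat_lit 175) (Tr.lf (nat_lit 6))
(Tr.nd (nat_lit 176) (Tr.lf (nat_lit 11))
(Tr.lf (nat_lit 6))))
(Tr.nd (nat_lit 179) (Tr.nd (nat_lit 178) (Tr.lf (nat_lit 6))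
(Tr.lf (nat_lit 5)))
(Tr.nd (nat_lit 180) (Tr.lf (nat_lit 0))
(Tr.lf (nat_lit 10)))))
(Tr.nd (nat_lit 184) (Tr.nd (nat_lit 182) (Tr.lf (nat_lit 3))
(Tr.nd (nat_lit 183) (Tr.lf (nat_lit 4))
(Tr.lf (nat_lit 6))))
(Tr.nd (nat_lit 186) (Tr.nd (nat_lit 185) (Tr.lf (nat_lit 5))
(Tr.lf (nat_lit 0)))
(Tr.nd (nat_lit 187) (Tr.lf (nat_lit 10))
(Tr.lf (nat_lit 0))))))
(Tr.nd (nat_lit 195) (Tr.nd (nat_lit 191) (Tr.nd (nat_lit 189) (Tr.lf (nat_lit 6))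
(Tr.nd (nat_lit 190) (Tr.lf (nat_lit 5))
(Tr.lf (nat_lit 4))))
(Tr.nd (nat_lit 193) (Tr.nd (nat_lit 192) (Tr.lf (nat_lit 3))
(Tr.lf (nat_lit 3)))
(Tr.nd (nat_lit 194) (Tr.lf (nat_lit 5))
(Tr.lf (nat_lit 5)))))
(Tr.nd (nat_lit 199) (Tr.nd (nat_lit 197) (Tr.nd (nat_lit 196) (Tr.lf (nat_lit 4))
(Tr.lf (nat_lit 4)))
(Tr.nd (nat_lit 198) (Tr.lf (nat_lit 5))
(Tr.lf (nat_lit 6))))
(Tr.nd (nat_lit 201) (Tr.nd (nat_lit 200) (Tr.lf (nat_lit 6))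
(Tr.lf (nat_lit 4)))
(Tr.nd (nat_lit 202) (Tr.lf (nat_lit 7))
(Tr.lf (nat_lit 3)))))))
(Tr.nd (nat_lit 217) (Tr.nd (nat_lit 210) (Tr.nd (nat_lit 206) (Tr.nd (nat_lit 204) (Tr.lf (nat_lit 7))
(Tr.nd (nat_lit 205) (Tr.lf (nat_lit 3))
(Tr.lf (nat_lit 10))))
(Tr.nd (nat_lit 208) (Tr.nd (nat_lit 207) (Tr.lf (nat_lit 10))
(Tr.lf (nat_lit 4)))
(Tr.nd (nat_lit 209) (Tr.lf (nat_lit 4))
(Tr.lf (nat_lit 5)))))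
(Tr.nd (nat_lit 213) (Tr.nd (nat_lit 211) (Tr.lf (nat_lit 6))
(Tr.nd (nat_lit 212) (Tr.lf (nat_lit 2))
(Tr.lf (nat_lit 2))))
(Tr.nd (nat_lit 215) (Tr.nd (nat_lit 214) (Tr.lf (nat_lit 4))
(Tr.lf (nat_lit 5)))
(Tr.nd (nat_lit 216) (Tr.lf (nat_lit 7))
(Tr.lf (nat_lit 2))))))
(Tr.nd (nat_lit 224) (Tr.nd (nat_lit 220) (Tr.nd (nat_lit 218) (Tr.lf (nat_lit 3))
(Tr.nd (nat_lit 219) (Tr.lf (nat_lit 10))
(Tr.lf (nat_lit 6))))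
(Tr.nd (nat_lit 222) (Tr.nd (nat_lit 221) (Tr.lf (nat_lit 10))
(Tr.lf (nat_lit 3)))
(Tr.nd (nat_lit 223) (Tr.lf (nat_lit 6))
(Tr.lf (nat_lit 4)))))
(Tr.nd (nat_lit 228) (Tr.nd (nat_lit 226) (Tr.nd (nat_lit 225) (Tr.lf (nat_lit 7))
(Tr.lf (nat_lit 10)))
(Tr.nd (nat_lit 227) (Tr.lf (nat_lit 3))
(Tr.lf (nat_lit 2))))
(Tr.nd (nat_lit 230) (Tr.nd (nat_lit 229) (Tr.lf (nat_lit 6))
(Tr.lf (nat_lit 3)))
(Tr.nd (nat_lit 231) (Tr.lf (nat_lit 4))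
(Tr.lf (nat_lit 2))))))))))
theorem mini0_alt : Tr.all (altChk idx inv RW (SW0)) mini0A = true := by decide +kernel
theorem mini0_chk : Tr.all (chkFc idx inv mini0S mini0A (fun b => Tr.find b mini0P) (fun b => Tr.find b mini0Q)) mini0S = true := by decide +kernel
theorem mini0_run : runM idx inv mini0S 718 0 [Mv.f (nat_lit 8), Mv.f (nat_lit 16), Mv.f (nat_lit 24), Mv.f (nat_lit 32), Mv.f (nat_lit 40), Mv.f (nat_lit 47), Mv.f (nat_lit 54), Mv.f (nat_lit 59), Mv.f (nat_lit 64), Mv.f (nat_lit 69), Mv.f (nat_lit 74), Mv.f (nat_lit 78), Mv.f (nat_lit 82), Mv.f (nat_lit 85), Mv.f (nat_lit 88), Mv.f (nat_lit 91), Mv.f (nat_lit 92), Mv.f (nat_lit 94), Mv.f (nat_lit 96), Mv.f (nat_lit 98), Mv.f (nat_lit 100), Mv.f (nat_lit 102), Mv.f (nat_lit 103), Mv.f (nat_lit 104), Mv.f (nat_lit 105), Mv.f (nat_lit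 106), Mv.f (nat_lit 107), Mv.f (nat_lit 108), Mv.f (nat_lit 717), Mv.b (nat_lit 8)] [Col.k, Col.a, Col.b, Col.c, Col.d, Col.e, Col.h, Col.d, Col.c, Col.b, Col.a, Col.i, Col.h, Col.d, Col.c, Col.e, Col.d, Col.h, Col.i, Col.b, Col.c, Col.d, Col.h, Col.e, Col.d, Col.c, Col.b, Col.a, Col.l, Col.k] 0 = true := by decide +kernel
theorem mini0_fix {G X : Type*} [Group G] [MulAction G X] (g : Col → G) (x0 : X) (hinv : ∀ c, g (inv c) = (g c)⁻¹)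
    (hRW : ∀ w ∈ RW, gw g w = 1) (hSW : ∀ w ∈ SW0, gw g w • x0 = x0) : gw g [Col.k, Col.a, Col.b, Col.c, Col.d, Col.e, Col.h, Col.d, Col.c, Col.b, Col.a, Col.i, Col.h, Col.d, Col.c, Col.e, Col.d, Col.h, Col.i, Col.b, Col.c, Col.d, Col.h, Col.e, Col.d, Col.c, Col.b, Col.a, Col.l, Col.k] • x0 = x0 :=
  mini_sound g x0 dec hdec hinv
    (fun a ha => altChk_sound g x0 dec hdec hinv hRW hSW ((Tr.all_iff _ _).1 mini0_alt a ha)) mini0_chk mini0_run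
noncomputable def mini1S : Tr (Fc Col) := (Tr.nd (nat_lit 1878) (Tr.nd (nat_lit 939) (Tr.nd (nat_lit 469) (Tr.nd (nat_lit 234) (Tr.nd (nat_lit 117) (Tr.nd (nat_lit 58) (Tr.nd (nat_lit 29) (Tr.nd (nat_lit 14) (Tr.nd (nat_lit 7) (Tr.nd (nat_lit 3) (Tr.nd (nat_lit 1) (Tr.lf (Fc.ed (nat_lit 0) (nat_lit 0) Col.a (nat_lit 0) (Dv.sb (nat_lit 0) [] [])))
(Tr.nd (nat_lit 2) (Tr.lf (Fc.ed (nat_lit 1) (nat_lit 0) Col.b (nat_lit 0) (Dv.sb (nat_lit 1) [] [])))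
(Tr.lf (Fc.ed (nat_lit 2) (nat_lit 0) Col.c (nat_lit 0) (Dv.sb (nat_lit 2) [] [])))))
(Tr.nd (nat_lit 5) (Tr.nd (nat_lit 4) (Tr.lf (Fc.ed (nat_lit 3) (nat_lit 0) Col.d (nat_lit 0) (Dv.sb (nat_lit 3) [] [])))
(Tr.lf (Fc.ed (nat_lit 4) (nat_lit 0) Col.e (nat_lit 0) (Dv.sb (nat_lit 4) [] []))))
(Tr.nd (nat_lit 6) (Tr.lf (Fc.ed (nat_lit 5) (nat_lit 0) Col.f (nat_lit 0) (Dv.sb (nat_lit 5) [] [])))
(Tr.lf (Fc.ed (nat_lit 6) (nat_lit 0) Col.g (nat_lit 0) (Dv.sb (nat_lit 6) [] []))))))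
(Tr.nd (nat_lit 10) (Tr.nd (nat_lit 8) (Tr.lf (Fc.ed (nat_lit 7) (nat_lit 0) Col.h (nat_lit 0) (Dv.sb (nat_lit 7) [] [])))
(Tr.nd (nat_lit 9) (Tr.lf (Fc.ed (nat_lit 8) (nat_lit 0) Col.k (nat_lit 1) Dv.df))
(Tr.lf (Fc.ed (nat_lit 9) (nat_lit 1) Col.a (nat_lit 2) Dv.df))))
(Tr.nd (nat_lit 12) (Tr.nd (nat_lit 11) (Tr.lf (Fc.ed (nat_lit 10) (nat_lit 2) Col.b (nat_lit 3) Dv.df))
(Tr.lf (Fc.ed (nat_lit 11) (nat_lit 3) Col.c (nat_lit 4) Dv.df)))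
(Tr.nd (nat_lit 13) (Tr.lf (Fc.ed (nat_lit 12) (nat_lit 4) Col.d (nat_lit 5) Dv.df))
(Tr.lf (Fc.ed (nat_lit 13) (nat_lit 5) Col.e (nat_lit 6) Dv.df))))))
(Tr.nd (nat_lit 21) (Tr.nd (nat_lit 17) (Tr.nd (nat_lit 15) (Tr.lf (Fc.ed (nat_lit 14) (nat_lit 6) Col.h (nat_lit 7) Dv.df))
(Tr.nd (nat_lit 16) (Tr.lf (Fc.ed (nat_lit 15) (nat_lit 7) Col.d (nat_lit 8) Dv.df))
(Tr.lf (Fc.ed (nat_lit 16) (nat_lit 8) Col.c (nat_lit 9) Dv.df))))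
(Tr.nd (nat_lit 19) (Tr.nd (nat_lit 18) (Tr.lf (Fc.ed (nat_lit 17) (nat_lit 9) Col.b (nat_lit 10) Dv.df))
(Tr.lf (Fc.ed (nat_lit 18) (nat_lit 10) Col.a (nat_lit 11) Dv.df)))
(Tr.nd (nat_lit 20) (Tr.lf (Fc.ed (nat_lit 19) (nat_lit 11) Col.i (nat_lit 12) Dv.df))
(Tr.lf (Fc.ed (nat_lit 20) (nat_lit 12) Col.h (nat_lit 13) Dv.df)))))
(Tr.nd (nat_lit 25) (Tr.nd (nat_lit 23) (Tr.nd (nat_lit 22) (Tr.lf (Fc.ed (nat_lit 21) (nat_lit 13) Col.d (nat_lit 14) Dv.df))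
(Tr.lf (Fc.ed (nat_lit 22) (nat_lit 14) Col.c (nat_lit 15) Dv.df)))
(Tr.nd (nat_lit 24) (Tr.lf (Fc.ed (nat_lit 23) (nat_lit 15) Col.e (nat_lit 16) Dv.df))
(Tr.lf (Fc.ed (nat_lit 24) (nat_lit 16) Col.d (nat_lit 17) Dv.df))))
(Tr.nd (nat_lit 27) (Tr.nd (nat_lit 26) (Tr.lf (Fc.ed (nat_lit 25) (nat_lit 17) Col.h (nat_lit 18) Dv.df))
(Tr.lf (Fc.ed (nat_lit 26) (nat_lit 18) Col.i (nat_lit 19) Dv.df)))
(Tr.nd (nat_lit 28) (Tr.lf (Fc.ed (nat_lit 27) (nat_lit 19) Col.b (nat_lit 20) Dv.df))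
(Tr.lf (Fc.ed (nat_lit 28) (nat_lit 20) Col.c (nat_lit 21) Dv.df)))))))
(Tr.nd (nat_lit 43) (Tr.nd (nat_lit 36) (Tr.nd (nat_lit 32) (Tr.nd (nat_lit 30) (Tr.lf (Fc.ed (nat_lit 29) (nat_lit 21) Col.d (nat_lit 22) Dv.df))
(Tr.nd (nat_lit 31) (Tr.lf (Fc.ed (nat_lit 30) (nat_lit 22) Col.h (nat_lit 23) Dv.df))
(Tr.lf (Fc.ed (nat_lit 31) (nat_lit 23) Col.e (nat_lit 24) Dv.df))))
(Tr.nd (nat_lit 34) (Tr.nd (nat_lit 33) (Tr.lf (Fc.ed (nat_lit 32) (nat_lit 24) Col.d (nat_lit 25) Dv.df))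
(Tr.lf (Fc.ed (nat_lit 33) (nat_lit 25) Col.c (nat_lit 26) Dv.df)))
(Tr.nd (nat_lit 35) (Tr.lf (Fc.ed (nat_lit 34) (nat_lit 26) Col.b (nat_lit 27) Dv.df))
(Tr.lf (Fc.ed (nat_lit 35) (nat_lit 27) Col.a (nat_lit 28) Dv.df)))))
(Tr.nd (nat_lit 39) (Tr.nd (nat_lit 37) (Tr.lf (Fc.ed (nat_lit 36) (nat_lit 28) Col.l (nat_lit 1) (Dv.sb (nat_lit 8) [Mv.f (nat_lit 8), Mv.f (nat_lit 9), Mv.f (nat_lit 10), Mv.f (nat_lit 11), Mv.f (nat_lit 12), Mv.f (nat_lit 13), Mv.f (nat_lit 14), Mv.f (nat_lit 15), Mv.f (nat_lit 16), Mv.f (nat_lit 17), Mv.f (nat_lit 18), Mv.f (nat_lit 19), Mv.f (nat_lit 20), Mv.f (nat_lit 21), Mv.f (nat_lit 22), Mv.f (nat_lit 23), Mv.f (nat_lit 24), Mv.f (nat_lit 25), Mv.f (nat_lit 26), Mv.f (nat_lit 27), Mv.f (nat_lit 28), Mv.f (nat_lit 29), Mv.f (nat_lit 30), Mv.f (nat_lit 31), Mv.f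 (nat_lit 32), Mv.f (nat_lit 33), Mv.f (nat_lit 34), Mv.f (nat_lit 35)] [Mv.b (nat_lit 8)])))
(Tr.nd (nat_lit 38) (Tr.lf (Fc.ed (nat_lit 37) (nat_lit 2) Col.l (nat_lit 27) (Dv.wd (nat_lit 9) [Mv.f (nat_lit 35), Mv.f (nat_lit 36), Mv.f (nat_lit 9)])))
(Tr.lf (Fc.ed (nat_lit 38) (nat_lit 26) Col.l (nat_lit 3) (Dv.wd (nat_lit 10) [Mv.b (nat_lit 10), Mv.f (nat_lit 37), Mv.b (nat_lit 34)])))))
(Tr.nd (nat_lit 41) (Tr.nd (nat_lit 40) (Tr.lf (Fc.ed (nat_lit 39) (nat_lit 4) Col.l (nat_lit 25) (Dv.wd (nat_lit 11) [Mv.f (nat_lit 33), Mv.f (nat_lit 38), Mv.f (nat_lit 11)])))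
(Tr.lf (Fc.ed (nat_lit 40) (nat_lit 24) Col.l (nat_lit 5) (Dv.wd (nat_lit 12) [Mv.b (nat_lit 12), Mv.f (nat_lit 39), Mv.b (nat_lit 32)]))))
(Tr.nd (nat_lit 42) (Tr.lf (Fc.ed (nat_lit 41) (nat_lit 6) Col.l (nat_lit 23) (Dv.wd (nat_lit 13) [Mv.f (nat_lit 31), Mv.f (nat_lit 40), Mv.f (nat_lit 13)])))
(Tr.lf (Fc.ed (nat_lit 42) (nat_lit 22) Col.l (nat_lit 7) (Dv.wd (nat_lit 14) [Mv.b (nat_lit 14), Mv.f (nat_lit 41), Mv.b (nat_lit 30)])))))))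
(Tr.nd (nat_lit 50) (Tr.nd (nat_lit 46) (Tr.nd (nat_lit 44) (Tr.lf (Fc.ed (nat_lit 43) (nat_lit 8) Col.l (nat_lit 21) (Dv.wd (nat_lit 12) [Mv.f (nat_lit 29), Mv.f (nat_lit 42), Mv.f (nat_lit 15)])))
(Tr.nd (nat_lit 45) (Tr.lf (Fc.ed (nat_lit 44) (nat_lit 20) Col.l (nat_lit 9) (Dv.wd (nat_lit 11) [Mv.b (nat_lit 16), Mv.f (nat_lit 43), Mv.b (nat_lit 28)])))
(Tr.lf (Fc.ed (nat_lit 45) (nat_lit 10) Col.l (nat_lit 19) (Dv.wd (nat_lit 10) [Mv.f (nat_lit 27), Mv.f (nat_lit 44), Mv.f (nat_lit 17)])))))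
(Tr.nd (nat_lit 48) (Tr.nd (nat_lit 47) (Tr.lf (Fc.ed (nat_lit 46) (nat_lit 2) Col.k (nat_lit 2) (Dv.wd (nat_lit 15) [Mv.b (nat_lit 9), Mv.b (nat_lit 8), Mv.f (nat_lit 0), Mv.f (nat_lit 8), Mv.f (nat_lit 9)])))
(Tr.lf (Fc.ed (nat_lit 47) (nat_lit 3) Col.k (nat_lit 3) (Dv.wd (nat_lit 16) [Mv.b (nat_lit 10), Mv.f (nat_lit 46), Mv.f (nat_lit 10)]))))
(Tr.nd (nat_lit 49) (Tr.lf (Fc.ed (nat_lit 48) (nat_lit 4) Col.k (nat_lit 4) (Dv.wd (nat_lit 17) [Mv.b (nat_lit 11), Mv.f (nat_lit 47), Mv.f (nat_lit 11)])))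
(Tr.lf (Fc.ed (nat_lit 49) (nat_lit 5) Col.k (nat_lit 5) (Dv.wd (nat_lit 18) [Mv.b (nat_lit 12), Mv.f (nat_lit 48), Mv.f (nat_lit 12)]))))))
(Tr.nd (nat_lit 54) (Tr.nd (nat_lit 52) (Tr.nd (nat_lit 51) (Tr.lf (Fc.ed (nat_lit 50) (nat_lit 6) Col.k (nat_lit 6) (Dv.wd (nat_lit 19) [Mv.b (nat_lit 13), Mv.f (nat_lit 49), Mv.f (nat_lit 13)])))
(Tr.lf (Fc.ed (nat_lit 51) (nat_lit 7) Col.k (nat_lit 7) (Dv.wd (nat_lit 20) [Mv.b (nat_lit 14), Mv.f (nat_lit 50), Mv.f (nat_lit 14)]))))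
(Tr.nd (nat_lit 53) (Tr.lf (Fc.ed (nat_lit 52) (nat_lit 8) Col.k (nat_lit 8) (Dv.wd (nat_lit 18) [Mv.b (nat_lit 15), Mv.f (nat_lit 51), Mv.f (nat_lit 15)])))
(Tr.lf (Fc.ed (nat_lit 53) (nat_lit 9) Col.k (nat_lit 9) (Dv.wd (nat_lit 17) [Mv.b (nat_lit 16), Mv.f (nat_lit 52), Mv.f (nat_lit 16)])))))
(Tr.nd (nat_lit 56) (Tr.nd (nat_lit 55) (Tr.lf (Fc.ed (nat_lit 54) (nat_lit 10) Col.k (nat_lit 10) (Dv.wd (nat_lit 16) [Mv.b (nat_lit 17), Mv.f (nat_lit 53), Mv.f (nat_lit 17)])))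
(Tr.lf (Fc.ed (nat_lit 55) (nat_lit 1) Col.b (nat_lit 1) (Dv.wd (nat_lit 21) [Mv.b (nat_lit 8), Mv.f (nat_lit 1), Mv.f (nat_lit 8)]))))
(Tr.nd (nat_lit 57) (Tr.lf (Fc.ed (nat_lit 56) (nat_lit 1) Col.c (nat_lit 1) (Dv.wd (nat_lit 22) [Mv.b (nat_lit 8), Mv.f (nat_lit 2), Mv.f (nat_lit 8)])))
(Tr.lf (Fc.ed (nat_lit 57) (nat_lit 1) Col.d (nat_lit 1) (Dv.wd (nat_lit 23) [Mv.b (nat_lit 8), Mv.f (nat_lit 3), Mv.f (nat_lit 8)])))))))))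
(Tr.nd (nat_lit 87) (Tr.nd (nat_lit 72) (Tr.nd (nat_lit 65) (Tr.nd (nat_lit 61) (Tr.nd (nat_lit 59) (Tr.lf (Fc.ed (nat_lit 58) (nat_lit 1) Col.e (nat_lit 1) (Dv.wd (nat_lit 24) [Mv.b (nat_lit 8), Mv.f (nat_lit 4), Mv.f (nat_lit 8)])))
(Tr.nd (nat_lit 60) (Tr.lf (Fc.ed (nat_lit 59) (nat_lit 1) Col.f (nat_lit 1) (Dv.wd (nat_lit 25) [Mv.b (nat_lit 8), Mv.f (nat_lit 5), Mv.f (nat_lit 8)])))
(Tr.lf (Fc.ed (nat_lit 60) (nat_lit 1) Col.g (nat_lit 1) (Dv.wd (nat_lit 26) [Mv.b (nat_lit 8), Mv.f (nat_lit 6), Mv.f (nat_lit 8)])))))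
(Tr.nd (nat_lit 63) (Tr.nd (nat_lit 62) (Tr.lf (Fc.ed (nat_lit 61) (nat_lit 1) Col.h (nat_lit 1) (Dv.wd (nat_lit 27) [Mv.b (nat_lit 8), Mv.f (nat_lit 7), Mv.f (nat_lit 8)])))
(Tr.lf (Fc.ed (nat_lit 62) (nat_lit 2) Col.h (nat_lit 2) (Dv.wd (nat_lit 28) [Mv.b (nat_lit 9), Mv.f (nat_lit 61), Mv.f (nat_lit 9)]))))
(Tr.nd (nat_lit 64) (Tr.lf (Fc.ed (nat_lit 63) (nat_lit 3) Col.h (nat_lit 3) (Dv.wd (nat_lit 29) [Mv.b (nat_lit 10), Mv.f (nat_lit 62), Mv.f (nat_lit 10)])))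
(Tr.lf (Fc.ed (nat_lit 64) (nat_lit 4) Col.h (nat_lit 4) (Dv.wd (nat_lit 30) [Mv.b (nat_lit 11), Mv.f (nat_lit 63), Mv.f (nat_lit 11)]))))))
(Tr.nd (nat_lit 68) (Tr.nd (nat_lit 66) (Tr.lf (Fc.ed (nat_lit 65) (nat_lit 2) Col.g (nat_lit 2) (Dv.wd (nat_lit 31) [Mv.b (nat_lit 9), Mv.f (nat_lit 60), Mv.f (nat_lit 9)])))
(Tr.nd (nat_lit 67) (Tr.lf (Fc.ed (nat_lit 66) (nat_lit 27) Col.g (nat_lit 27) (Dv.wd (nat_lit 32) [Mv.b (nat_lit 37), Mv.f (nat_lit 65), Mv.f (nat_lit 37)])))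
(Tr.lf (Fc.ed (nat_lit 67) (nat_lit 2) Col.f (nat_lit 2) (Dv.wd (nat_lit 33) [Mv.b (nat_lit 9), Mv.f (nat_lit 59), Mv.f (nat_lit 9)])))))
(Tr.nd (nat_lit 70) (Tr.nd (nat_lit 69) (Tr.lf (Fc.ed (nat_lit 68) (nat_lit 27) Col.f (nat_lit 27) (Dv.wd (nat_lit 34) [Mv.b (nat_lit 37), Mv.f (nat_lit 67), Mv.f (nat_lit 37)])))
(Tr.lf (Fc.ed (nat_lit 69) (nat_lit 3) Col.f (nat_lit 3) (Dv.wd (nat_lit 35) [Mv.b (nat_lit 10), Mv.f (nat_lit 67), Mv.f (nat_lit 10)]))))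
(Tr.nd (nat_lit 71) (Tr.lf (Fc.ed (nat_lit 70) (nat_lit 4) Col.f (nat_lit 4) (Dv.wd (nat_lit 36) [Mv.b (nat_lit 11), Mv.f (nat_lit 69), Mv.f (nat_lit 11)])))
(Tr.lf (Fc.ed (nat_lit 71) (nat_lit 5) Col.f (nat_lit 5) (Dv.wd (nat_lit 37) [Mv.b (nat_lit 12), Mv.f (nat_lit 70), Mv.f (nat_lit 12)])))))))
(Tr.nd (nat_lit 79) (Tr.nd (nat_lit 75) (Tr.nd (nat_lit 73) (Tr.lf (Fc.ed (nat_lit 72) (nat_lit 24) Col.f (nat_lit 24) (Dv.wd (nat_lit 34) [Mv.f (nat_lit 40), Mv.f (nat_lit 71), Mv.b (nat_lit 40)])))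
(Tr.nd (nat_lit 74) (Tr.lf (Fc.ed (nat_lit 73) (nat_lit 2) Col.e (nat_lit 2) (Dv.wd (nat_lit 38) [Mv.b (nat_lit 9), Mv.f (nat_lit 58), Mv.f (nat_lit 9)])))
(Tr.lf (Fc.ed (nat_lit 74) (nat_lit 27) Col.e (nat_lit 27) (Dv.wd (nat_lit 39) [Mv.b (nat_lit 37), Mv.f (nat_lit 73), Mv.f (nat_lit 37)])))))
(Tr.nd (nat_lit 77) (Tr.nd (nat_lit 76) (Tr.lf (Fc.ed (nat_lit 75) (nat_lit 3) Col.e (nat_lit 3) (Dv.wd (nat_lit 40) [Mv.b (nat_lit 10), Mv.f (nat_lit 73), Mv.f (nat_lit 10)])))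
(Tr.lf (Fc.ed (nat_lit 76) (nat_lit 4) Col.e (nat_lit 4) (Dv.wd (nat_lit 41) [Mv.b (nat_lit 11), Mv.f (nat_lit 75), Mv.f (nat_lit 11)]))))
(Tr.nd (nat_lit 78) (Tr.lf (Fc.ed (nat_lit 77) (nat_lit 6) Col.d (nat_lit 6) (Dv.wd (nat_lit 42) [Mv.b (nat_lit 13), Mv.b (nat_lit 12), Mv.f (nat_lit 76), Mv.f (nat_lit 12), Mv.f (nat_lit 13)])))
(Tr.lf (Fc.ed (nat_lit 78) (nat_lit 8) Col.h (nat_lit 8) (Dv.wd (nat_lit 43) [Mv.b (nat_lit 15), Mv.b (nat_lit 14), Mv.f (nat_lit 77), Mv.f (nat_lit 14), Mv.f (nat_lit 15)]))))))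
(Tr.nd (nat_lit 83) (Tr.nd (nat_lit 81) (Tr.nd (nat_lit 80) (Tr.lf (Fc.ed (nat_lit 79) (nat_lit 9) Col.h (nat_lit 9) (Dv.wd (nat_lit 30) [Mv.b (nat_lit 16), Mv.f (nat_lit 78), Mv.f (nat_lit 16)])))
(Tr.lf (Fc.ed (nat_lit 80) (nat_lit 10) Col.h (nat_lit 10) (Dv.wd (nat_lit 29) [Mv.b (nat_lit 17), Mv.f (nat_lit 79), Mv.f (nat_lit 17)]))))
(Tr.nd (nat_lit 82) (Tr.lf (Fc.ed (nat_lit 81) (nat_lit 11) Col.h (nat_lit 11) (Dv.wd (nat_lit 28) [Mv.b (nat_lit 18), Mv.f (nat_lit 80), Mv.f (nat_lit 18)])))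
(Tr.lf (Fc.ed (nat_lit 82) (nat_lit 2) Col.d (nat_lit 2) (Dv.wd (nat_lit 44) [Mv.b (nat_lit 9), Mv.f (nat_lit 57), Mv.f (nat_lit 9)])))))
(Tr.nd (nat_lit 85) (Tr.nd (nat_lit 84) (Tr.lf (Fc.ed (nat_lit 83) (nat_lit 27) Col.d (nat_lit 27) (Dv.wd (nat_lit 45) [Mv.b (nat_lit 37), Mv.f (nat_lit 82), Mv.f (nat_lit 37)])))
(Tr.lf (Fc.ed (nat_lit 84) (nat_lit 3) Col.d (nat_lit 3) (Dv.wd (nat_lit 46) [Mv.b (nat_lit 10), Mv.f (nat_lit 82), Mv.f (nat_lit 10)]))))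
(Tr.nd (nat_lit 86) (Tr.lf (Fc.ed (nat_lit 85) (nat_lit 5) Col.c (nat_lit 5) (Dv.wd (nat_lit 47) [Mv.b (nat_lit 12), Mv.b (nat_lit 11), Mv.f (nat_lit 84), Mv.f (nat_lit 11), Mv.f (nat_lit 12)])))
(Tr.lf (Fc.ed (nat_lit 86) (nat_lit 6) Col.c (nat_lit 6) (Dv.wd (nat_lit 48) [Mv.b (nat_lit 13), Mv.f (nat_lit 85), Mv.f (nat_lit 13)]))))))))
(Tr.nd (nat_lit 102) (Tr.nd (nat_lit 94) (Tr.nd (nat_lit 90) (Tr.nd (nat_lit 88) (Tr.lf (Fc.ed (nat_lit 87) (nat_lit 7) Col.c (nat_lit 7) (Dv.wd (nat_lit 49) [Mv.b (nat_lit 14), Mv.f (nat_lit 86), Mv.f (nat_lit 14)])))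
(Tr.nd (nat_lit 89) (Tr.lf (Fc.ed (nat_lit 88) (nat_lit 9) Col.d (nat_lit 9) (Dv.wd (nat_lit 50) [Mv.b (nat_lit 16), Mv.b (nat_lit 15), Mv.f (nat_lit 87), Mv.f (nat_lit 15), Mv.f (nat_lit 16)])))
(Tr.lf (Fc.ed (nat_lit 89) (nat_lit 10) Col.d (nat_lit 10) (Dv.wd (nat_lit 46) [Mv.b (nat_lit 17), Mv.f (nat_lit 88), Mv.f (nat_lit 17)])))))
(Tr.nd (nat_lit 92) (Tr.nd (nat_lit 91) (Tr.lf (Fc.ed (nat_lit 90) (nat_lit 11) Col.d (nat_lit 11) (Dv.wd (nat_lit 44) [Mv.b (nat_lit 18), Mv.f (nat_lit 89), Mv.f (nat_lit 18)])))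
(Tr.lf (Fc.ed (nat_lit 91) (nat_lit 12) Col.d (nat_lit 12) (Dv.wd (nat_lit 51) [Mv.b (nat_lit 19), Mv.f (nat_lit 90), Mv.f (nat_lit 19)]))))
(Tr.nd (nat_lit 93) (Tr.lf (Fc.ed (nat_lit 92) (nat_lit 14) Col.h (nat_lit 14) (Dv.wd (nat_lit 43) [Mv.b (nat_lit 21), Mv.b (nat_lit 20), Mv.f (nat_lit 91), Mv.f (nat_lit 20), Mv.f (nat_lit 21)])))
(Tr.lf (Fc.ed (nat_lit 93) (nat_lit 2) Col.c (nat_lit 2) (Dv.wd (nat_lit 52) [Mv.b (nat_lit 9), Mv.f (nat_lit 56), Mv.f (nat_lit 9)]))))))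
(Tr.nd (nat_lit 98) (Tr.nd (nat_lit 96) (Tr.nd (nat_lit 95) (Tr.lf (Fc.ed (nat_lit 94) (nat_lit 4) Col.b (nat_lit 4) (Dv.wd (nat_lit 53) [Mv.b (nat_lit 11), Mv.b (nat_lit 10), Mv.f (nat_lit 93), Mv.f (nat_lit 10), Mv.f (nat_lit 11)])))
(Tr.lf (Fc.ed (nat_lit 95) (nat_lit 5) Col.b (nat_lit 5) (Dv.wd (nat_lit 54) [Mv.b (nat_lit 12), Mv.f (nat_lit 94), Mv.f (nat_lit 12)]))))
(Tr.nd (nat_lit 97) (Tr.lf (Fc.ed (nat_lit 96) (nat_lit 6) Col.b (nat_lit 6) (Dv.wd (nat_lit 55) [Mv.b (nat_lit 13), Mv.f (nat_lit 95), Mv.f (nat_lit 13)])))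
(Tr.lf (Fc.ed (nat_lit 97) (nat_lit 23) Col.b (nat_lit 23) (Dv.wd (nat_lit 56) [Mv.b (nat_lit 41), Mv.f (nat_lit 96), Mv.f (nat_lit 41)])))))
(Tr.nd (nat_lit 100) (Tr.nd (nat_lit 99) (Tr.lf (Fc.ed (nat_lit 98) (nat_lit 7) Col.b (nat_lit 7) (Dv.wd (nat_lit 57) [Mv.b (nat_lit 14), Mv.f (nat_lit 96), Mv.f (nat_lit 14)])))
(Tr.lf (Fc.ed (nat_lit 99) (nat_lit 8) Col.b (nat_lit 8) (Dv.wd (nat_lit 54) [Mv.b (nat_lit 15), Mv.f (nat_lit 98), Mv.f (nat_lit 15)]))))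
(Tr.nd (nat_lit 101) (Tr.lf (Fc.ed (nat_lit 100) (nat_lit 10) Col.c (nat_lit 10) (Dv.wd (nat_lit 58) [Mv.b (nat_lit 17), Mv.b (nat_lit 16), Mv.f (nat_lit 99), Mv.f (nat_lit 16), Mv.f (nat_lit 17)])))
(Tr.lf (Fc.ed (nat_lit 101) (nat_lit 19) Col.c (nat_lit 19) (Dv.wd (nat_lit 59) [Mv.b (nat_lit 45), Mv.f (nat_lit 100), Mv.f (nat_lit 45)])))))))
(Tr.nd (nat_lit 109) (Tr.nd (nat_lit 105) (Tr.nd (nat_lit 103) (Tr.lf (Fc.ed (nat_lit 102) (nat_lit 11) Col.c (nat_lit 11) (Dv.wd (nat_lit 52) [Mv.b (nat_lit 18), Mv.f (nat_lit 100), Mv.f (nat_lit 18)])))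
(Tr.nd (nat_lit 104) (Tr.lf (Fc.ed (nat_lit 103) (nat_lit 12) Col.c (nat_lit 12) (Dv.wd (nat_lit 60) [Mv.b (nat_lit 19), Mv.f (nat_lit 102), Mv.f (nat_lit 19)])))
(Tr.lf (Fc.ed (nat_lit 104) (nat_lit 13) Col.c (nat_lit 13) (Dv.wd (nat_lit 49) [Mv.b (nat_lit 20), Mv.f (nat_lit 103), Mv.f (nat_lit 20)])))))
(Tr.nd (nat_lit 107) (Tr.nd (nat_lit 106) (Tr.lf (Fc.ed (nat_lit 105) (nat_lit 15) Col.d (nat_lit 15) (Dv.wd (nat_lit 50) [Mv.b (nat_lit 22), Mv.b (nat_lit 21), Mv.f (nat_lit 104), Mv.f (nat_lit 21), Mv.f (nat_lit 22)])))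
(Tr.lf (Fc.ed (nat_lit 106) (nat_lit 17) Col.e (nat_lit 17) (Dv.wd (nat_lit 61) [Mv.b (nat_lit 24), Mv.b (nat_lit 23), Mv.f (nat_lit 105), Mv.f (nat_lit 23), Mv.f (nat_lit 24)]))))
(Tr.nd (nat_lit 108) (Tr.lf (Fc.ed (nat_lit 107) (nat_lit 18) Col.e (nat_lit 18) (Dv.wd (nat_lit 62) [Mv.b (nat_lit 25), Mv.f (nat_lit 106), Mv.f (nat_lit 25)])))
(Tr.lf (Fc.ed (nat_lit 108) (nat_lit 19) Col.e (nat_lit 19) (Dv.wd (nat_lit 63) [Mv.b (nat_lit 26), Mv.f (nat_lit 107), Mv.f (nat_lit 26)]))))))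
(Tr.nd (nat_lit 113) (Tr.nd (nat_lit 111) (Tr.nd (nat_lit 110) (Tr.lf (Fc.ed (nat_lit 109) (nat_lit 20) Col.e (nat_lit 20) (Dv.wd (nat_lit 40) [Mv.b (nat_lit 27), Mv.f (nat_lit 108), Mv.f (nat_lit 27)])))
(Tr.lf (Fc.ed (nat_lit 110) (nat_lit 9) Col.e (nat_lit 9) (Dv.wd (nat_lit 39) [Mv.b (nat_lit 44), Mv.f (nat_lit 109), Mv.f (nat_lit 44)]))))
(Tr.nd (nat_lit 112) (Tr.lf (Fc.ed (nat_lit 111) (nat_lit 21) Col.e (nat_lit 21) (Dv.wd (nat_lit 41) [Mv.b (nat_lit 28), Mv.f (nat_lit 109), Mv.f (nat_lit 28)])))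
(Tr.lf (Fc.ed (nat_lit 112) (nat_lit 8) Col.e (nat_lit 8) (Dv.wd (nat_lit 39) [Mv.f (nat_lit 43), Mv.f (nat_lit 111), Mv.b (nat_lit 43)])))))
(Tr.nd (nat_lit 115) (Tr.nd (nat_lit 114) (Tr.lf (Fc.ed (nat_lit 113) (nat_lit 18) Col.c (nat_lit 18) (Dv.wd (nat_lit 60) [Mv.f (nat_lit 26), Mv.f (nat_lit 101), Mv.b (nat_lit 26)])))
(Tr.lf (Fc.ed (nat_lit 114) (nat_lit 17) Col.c (nat_lit 17) (Dv.wd (nat_lit 49) [Mv.f (nat_lit 25), Mv.f (nat_lit 113), Mv.b (nat_lit 25)]))))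
(Tr.nd (nat_lit 116) (Tr.lf (Fc.ed (nat_lit 115) (nat_lit 3) Col.a (nat_lit 3) (Dv.wd (nat_lit 64) [Mv.b (nat_lit 10), Mv.b (nat_lit 9), Mv.f (nat_lit 55), Mv.f (nat_lit 9), Mv.f (nat_lit 10)])))
(Tr.lf (Fc.ed (nat_lit 116) (nat_lit 26) Col.a (nat_lit 26) (Dv.wd (nat_lit 65) [Mv.f (nat_lit 38), Mv.f (nat_lit 115), Mv.b (nat_lit 38)]))))))))))
(Tr.nd (nat_lit 175) (Tr.nd (nat_lit 146) (Tr.nd (nat_lit 131) (Tr.nd (nat_lit 124) (Tr.nd (nat_lit 120) (Tr.nd (nat_lit 118) (Tr.lf (Fc.ed (nat_lit 117) (nat_lit 4) Col.a (nat_lit 4) (Dv.wd (nat_lit 66) [Mv.b (nat_lit 11), Mv.f (nat_lit 115), Mv.f (nat_lit 11)])))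
(Tr.nd (nat_lit 119) (Tr.lf (Fc.ed (nat_lit 118) (nat_lit 5) Col.a (nat_lit 5) (Dv.wd (nat_lit 67) [Mv.b (nat_lit 12), Mv.f (nat_lit 117), Mv.f (nat_lit 12)])))
(Tr.lf (Fc.ed (nat_lit 119) (nat_lit 6) Col.a (nat_lit 6) (Dv.wd (nat_lit 68) [Mv.b (nat_lit 13), Mv.f (nat_lit 118), Mv.f (nat_lit 13)])))))
(Tr.nd (nat_lit 122) (Tr.nd (nat_lit 121) (Tr.lf (Fc.ed (nat_lit 120) (nat_lit 7) Col.a (nat_lit 7) (Dv.wd (nat_lit 69) [Mv.b (nat_lit 14), Mv.f (nat_lit 119), Mv.f (nat_lit 14)])))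
(Tr.lf (Fc.ed (nat_lit 121) (nat_lit 8) Col.a (nat_lit 8) (Dv.wd (nat_lit 67) [Mv.b (nat_lit 15), Mv.f (nat_lit 120), Mv.f (nat_lit 15)]))))
(Tr.nd (nat_lit 123) (Tr.lf (Fc.ed (nat_lit 122) (nat_lit 9) Col.a (nat_lit 9) (Dv.wd (nat_lit 66) [Mv.b (nat_lit 16), Mv.f (nat_lit 121), Mv.f (nat_lit 16)])))
(Tr.lf (Fc.ed (nat_lit 123) (nat_lit 11) Col.b (nat_lit 11) (Dv.wd (nat_lit 70) [Mv.b (nat_lit 18), Mv.b (nat_lit 17), Mv.f (nat_lit 122), Mv.f (nat_lit 17), Mv.f (nat_lit 18)]))))))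
(Tr.nd (nat_lit 127) (Tr.nd (nat_lit 125) (Tr.lf (Fc.ed (nat_lit 124) (nat_lit 12) Col.b (nat_lit 12) (Dv.wd (nat_lit 71) [Mv.b (nat_lit 19), Mv.f (nat_lit 123), Mv.f (nat_lit 19)])))
(Tr.nd (nat_lit 126) (Tr.lf (Fc.ed (nat_lit 125) (nat_lit 13) Col.b (nat_lit 13) (Dv.wd (nat_lit 57) [Mv.b (nat_lit 20), Mv.f (nat_lit 124), Mv.f (nat_lit 20)])))
(Tr.lf (Fc.ed (nat_lit 126) (nat_lit 14) Col.b (nat_lit 14) (Dv.wd (nat_lit 54) [Mv.b (nat_lit 21), Mv.f (nat_lit 125), Mv.f (nat_lit 21)])))))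
(Tr.nd (nat_lit 129) (Tr.nd (nat_lit 128) (Tr.lf (Fc.ed (nat_lit 127) (nat_lit 27) Col.k (nat_lit 29) Dv.df))
(Tr.lf (Fc.ed (nat_lit 128) (nat_lit 29) Col.d (nat_lit 29) (Dv.wd (nat_lit 23) [Mv.b (nat_lit 127), Mv.f (nat_lit 83), Mv.f (nat_lit 127)]))))
(Tr.nd (nat_lit 130) (Tr.lf (Fc.ed (nat_lit 129) (nat_lit 29) Col.e (nat_lit 29) (Dv.wd (nat_lit 24) [Mv.b (nat_lit 127), Mv.f (nat_lit 74), Mv.f (nat_lit 127)])))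
(Tr.lf (Fc.ed (nat_lit 130) (nat_lit 29) Col.f (nat_lit 29) (Dv.wd (nat_lit 25) [Mv.b (nat_lit 127), Mv.f (nat_lit 68), Mv.f (nat_lit 127)])))))))
(Tr.nd (nat_lit 138) (Tr.nd (nat_lit 134) (Tr.nd (nat_lit 132) (Tr.lf (Fc.ed (nat_lit 131) (nat_lit 29) Col.g (nat_lit 29) (Dv.wd (nat_lit 26) [Mv.b (nat_lit 127), Mv.f (nat_lit 66), Mv.f (nat_lit 127)])))
(Tr.nd (nat_lit 133) (Tr.lf (Fc.ed (nat_lit 132) (nat_lit 29) Col.l (nat_lit 29) (Dv.wd (nat_lit 72) [Mv.b (nat_lit 127), Mv.b (nat_lit 37), Mv.f (nat_lit 46), Mv.f (nat_lit 37), Mv.f (nat_lit 127)])))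
(Tr.lf (Fc.ed (nat_lit 133) (nat_lit 29) Col.b (nat_lit 30) Dv.df))))
(Tr.nd (nat_lit 136) (Tr.nd (nat_lit 135) (Tr.lf (Fc.ed (nat_lit 134) (nat_lit 30) Col.l (nat_lit 30) (Dv.wd (nat_lit 73) [Mv.b (nat_lit 133), Mv.f (nat_lit 132), Mv.f (nat_lit 133)])))
(Tr.lf (Fc.ed (nat_lit 135) (nat_lit 30) Col.k (nat_lit 26) (Dv.wd (nat_lit 74) [Mv.f (nat_lit 34), Mv.f (nat_lit 127), Mv.f (nat_lit 133)]))))
(Tr.nd (nat_lit 137) (Tr.lf (Fc.ed (nat_lit 136) (nat_lit 30) Col.d (nat_lit 30) (Dv.wd (nat_lit 46) [Mv.b (nat_lit 133), Mv.f (nat_lit 128), Mv.f (nat_lit 133)])))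
(Tr.lf (Fc.ed (nat_lit 137) (nat_lit 30) Col.e (nat_lit 30) (Dv.wd (nat_lit 40) [Mv.b (nat_lit 133), Mv.f (nat_lit 129), Mv.f (nat_lit 133)]))))))
(Tr.nd (nat_lit 142) (Tr.nd (nat_lit 140) (Tr.nd (nat_lit 139) (Tr.lf (Fc.ed (nat_lit 138) (nat_lit 30) Col.f (nat_lit 30) (Dv.wd (nat_lit 35) [Mv.b (nat_lit 133), Mv.f (nat_lit 130), Mv.f (nat_lit 133)])))
(Tr.lf (Fc.ed (nat_lit 139) (nat_lit 30) Col.g (nat_lit 30) (Dv.wd (nat_lit 75) [Mv.b (nat_lit 133), Mv.f (nat_lit 131), Mv.f (nat_lit 133)]))))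
(Tr.nd (nat_lit 141) (Tr.lf (Fc.ed (nat_lit 140) (nat_lit 30) Col.a (nat_lit 31) Dv.df))
(Tr.lf (Fc.ed (nat_lit 141) (nat_lit 31) Col.l (nat_lit 31) (Dv.wd (nat_lit 76) [Mv.b (nat_lit 140), Mv.f (nat_lit 134), Mv.f (nat_lit 140)])))))
(Tr.nd (nat_lit 144) (Tr.nd (nat_lit 143) (Tr.lf (Fc.ed (nat_lit 142) (nat_lit 31) Col.d (nat_lit 31) (Dv.wd (nat_lit 44) [Mv.b (nat_lit 140), Mv.f (nat_lit 136), Mv.f (nat_lit 140)])))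
(Tr.lf (Fc.ed (nat_lit 143) (nat_lit 31) Col.e (nat_lit 31) (Dv.wd (nat_lit 38) [Mv.b (nat_lit 140), Mv.f (nat_lit 137), Mv.f (nat_lit 140)]))))
(Tr.nd (nat_lit 145) (Tr.lf (Fc.ed (nat_lit 144) (nat_lit 31) Col.f (nat_lit 31) (Dv.wd (nat_lit 33) [Mv.b (nat_lit 140), Mv.f (nat_lit 138), Mv.f (nat_lit 140)])))
(Tr.lf (Fc.ed (nat_lit 145) (nat_lit 31) Col.g (nat_lit 31) (Dv.wd (nat_lit 31) [Mv.b (nat_lit 140), Mv.f (nat_lit 139), Mv.f (nat_lit 140)]))))))))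
(Tr.nd (nat_lit 160) (Tr.nd (nat_lit 153) (Tr.nd (nat_lit 149) (Tr.nd (nat_lit 147) (Tr.lf (Fc.ed (nat_lit 146) (nat_lit 31) Col.k (nat_lit 31) (Dv.wd (nat_lit 15) [Mv.b (nat_lit 140), Mv.f (nat_lit 135), Mv.f (nat_lit 116), Mv.b (nat_lit 135), Mv.f (nat_lit 140)])))
(Tr.nd (nat_lit 148) (Tr.lf (Fc.ed (nat_lit 147) (nat_lit 31) Col.c (nat_lit 32) Dv.df))
(Tr.lf (Fc.ed (nat_lit 148) (nat_lit 32) Col.l (nat_lit 32) (Dv.wd (nat_lit 77) [Mv.b (nat_lit 147), Mv.f (nat_lit 141), Mv.f (nat_lit 147)])))))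
(Tr.nd (nat_lit 151) (Tr.nd (nat_lit 150) (Tr.lf (Fc.ed (nat_lit 149) (nat_lit 32) Col.k (nat_lit 32) (Dv.wd (nat_lit 78) [Mv.b (nat_lit 147), Mv.f (nat_lit 146), Mv.f (nat_lit 147)])))
(Tr.lf (Fc.ed (nat_lit 150) (nat_lit 32) Col.e (nat_lit 32) (Dv.wd (nat_lit 41) [Mv.b (nat_lit 147), Mv.f (nat_lit 143), Mv.f (nat_lit 147)]))))
(Tr.nd (nat_lit 152) (Tr.lf (Fc.ed (nat_lit 151) (nat_lit 32) Col.f (nat_lit 32) (Dv.wd (nat_lit 36) [Mv.b (nat_lit 147), Mv.f (nat_lit 144), Mv.f (nat_lit 147)])))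
(Tr.lf (Fc.ed (nat_lit 152) (nat_lit 32) Col.g (nat_lit 32) (Dv.wd (nat_lit 79) [Mv.b (nat_lit 147), Mv.f (nat_lit 145), Mv.f (nat_lit 147)]))))))
(Tr.nd (nat_lit 156) (Tr.nd (nat_lit 154) (Tr.lf (Fc.ed (nat_lit 153) (nat_lit 32) Col.d (nat_lit 33) Dv.df))
(Tr.nd (nat_lit 155) (Tr.lf (Fc.ed (nat_lit 154) (nat_lit 33) Col.l (nat_lit 33) (Dv.wd (nat_lit 80) [Mv.b (nat_lit 153), Mv.f (nat_lit 148), Mv.f (nat_lit 153)])))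
(Tr.lf (Fc.ed (nat_lit 155) (nat_lit 33) Col.k (nat_lit 33) (Dv.wd (nat_lit 81) [Mv.b (nat_lit 153), Mv.f (nat_lit 149), Mv.f (nat_lit 153)])))))
(Tr.nd (nat_lit 158) (Tr.nd (nat_lit 157) (Tr.lf (Fc.ed (nat_lit 156) (nat_lit 33) Col.f (nat_lit 33) (Dv.wd (nat_lit 37) [Mv.b (nat_lit 153), Mv.f (nat_lit 151), Mv.f (nat_lit 153)])))
(Tr.lf (Fc.ed (nat_lit 157) (nat_lit 33) Col.g (nat_lit 33) (Dv.wd (nat_lit 82) [Mv.b (nat_lit 153), Mv.f (nat_lit 152), Mv.f (nat_lit 153)]))))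
(Tr.nd (nat_lit 159) (Tr.lf (Fc.ed (nat_lit 158) (nat_lit 33) Col.c (nat_lit 33) (Dv.wd (nat_lit 83) [Mv.b (nat_lit 153), Mv.b (nat_lit 147), Mv.f (nat_lit 142), Mv.f (nat_lit 147), Mv.f (nat_lit 153)])))
(Tr.lf (Fc.ed (nat_lit 159) (nat_lit 33) Col.e (nat_lit 34) Dv.df))))))
(Tr.nd (nat_lit 167) (Tr.nd (nat_lit 163) (Tr.nd (nat_lit 161) (Tr.lf (Fc.ed (nat_lit 160) (nat_lit 34) Col.l (nat_lit 34) (Dv.wd (nat_lit 84) [Mv.b (nat_lit 159), Mv.f (nat_lit 154), Mv.f (nat_lit 159)])))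
(Tr.nd (nat_lit 162) (Tr.lf (Fc.ed (nat_lit 161) (nat_lit 34) Col.k (nat_lit 34) (Dv.wd (nat_lit 85) [Mv.b (nat_lit 159), Mv.f (nat_lit 155), Mv.f (nat_lit 159)])))
(Tr.lf (Fc.ed (nat_lit 162) (nat_lit 34) Col.c (nat_lit 34) (Dv.wd (nat_lit 86) [Mv.b (nat_lit 159), Mv.f (nat_lit 158), Mv.f (nat_lit 159)])))))
(Tr.nd (nat_lit 165) (Tr.nd (nat_lit 164) (Tr.lf (Fc.ed (nat_lit 163) (nat_lit 34) Col.g (nat_lit 34) (Dv.wd (nat_lit 87) [Mv.b (nat_lit 159), Mv.f (nat_lit 157), Mv.f (nat_lit 159)])))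
(Tr.lf (Fc.ed (nat_lit 164) (nat_lit 34) Col.d (nat_lit 34) (Dv.wd (nat_lit 88) [Mv.b (nat_lit 159), Mv.b (nat_lit 153), Mv.f (nat_lit 150), Mv.f (nat_lit 153), Mv.f (nat_lit 159)]))))
(Tr.nd (nat_lit 166) (Tr.lf (Fc.ed (nat_lit 165) (nat_lit 34) Col.f (nat_lit 35) Dv.df))
(Tr.lf (Fc.ed (nat_lit 166) (nat_lit 35) Col.l (nat_lit 35) (Dv.wd (nat_lit 89) [Mv.b (nat_lit 165), Mv.f (nat_lit 160), Mv.f (nat_lit 165)]))))))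
(Tr.nd (nat_lit 171) (Tr.nd (nat_lit 169) (Tr.nd (nat_lit 168) (Tr.lf (Fc.ed (nat_lit 167) (nat_lit 35) Col.k (nat_lit 35) (Dv.wd (nat_lit 90) [Mv.b (nat_lit 165), Mv.f (nat_lit 161), Mv.f (nat_lit 165)])))
(Tr.lf (Fc.ed (nat_lit 168) (nat_lit 35) Col.c (nat_lit 35) (Dv.wd (nat_lit 91) [Mv.b (nat_lit 165), Mv.f (nat_lit 162), Mv.f (nat_lit 165)]))))
(Tr.nd (nat_lit 170) (Tr.lf (Fc.ed (nat_lit 169) (nat_lit 35) Col.d (nat_lit 35) (Dv.wd (nat_lit 92) [Mv.b (nat_lit 165), Mv.f (nat_lit 164), Mv.f (nat_lit 165)])))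
(Tr.lf (Fc.ed (nat_lit 170) (nat_lit 35) Col.e (nat_lit 35) (Dv.wd (nat_lit 93) [Mv.b (nat_lit 165), Mv.b (nat_lit 159), Mv.f (nat_lit 156), Mv.f (nat_lit 159), Mv.f (nat_lit 165)])))))
(Tr.nd (nat_lit 173) (Tr.nd (nat_lit 172) (Tr.lf (Fc.ed (nat_lit 171) (nat_lit 35) Col.g (nat_lit 36) Dv.df))
(Tr.lf (Fc.ed (nat_lit 172) (nat_lit 36) Col.l (nat_lit 36) (Dv.wd (nat_lit 94) [Mv.b (nat_lit 171), Mv.f (nat_lit 166), Mv.f (nat_lit 171)]))))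
(Tr.nd (nat_lit 174) (Tr.lf (Fc.ed (nat_lit 173) (nat_lit 36) Col.k (nat_lit 36) (Dv.wd (nat_lit 95) [Mv.b (nat_lit 171), Mv.f (nat_lit 167), Mv.f (nat_lit 171)])))
(Tr.lf (Fc.ed (nat_lit 174) (nat_lit 36) Col.c (nat_lit 36) (Dv.wd (nat_lit 96) [Mv.b (nat_lit 171), Mv.f (nat_lit 168), Mv.f (nat_lit 171)])))))))))
(Tr.nd (nat_lit 204) (Tr.nd (nat_lit 189) (Tr.nd (nat_lit 182) (Tr.nd (nat_lit 178) (Tr.nd (nat_lit 176) (Tr.lf (Fc.ed (nat_lit 175) (nat_lit 36) Col.d (nat_lit 36) (Dv.wd (nat_lit 97) [Mv.b (nat_lit 171), Mv.f (nat_lit 169), Mv.f (nat_lit 171)])))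
(Tr.nd (nat_lit 177) (Tr.lf (Fc.ed (nat_lit 176) (nat_lit 36) Col.e (nat_lit 36) (Dv.wd (nat_lit 98) [Mv.b (nat_lit 171), Mv.f (nat_lit 170), Mv.f (nat_lit 171)])))
(Tr.lf (Fc.ed (nat_lit 177) (nat_lit 36) Col.f (nat_lit 36) (Dv.wd (nat_lit 99) [Mv.b (nat_lit 171), Mv.b (nat_lit 165), Mv.f (nat_lit 163), Mv.f (nat_lit 165), Mv.f (nat_lit 171)])))))
(Tr.nd (nat_lit 180) (Tr.nd (nat_lit 179) (Tr.lf (Fc.ed (nat_lit 178) (nat_lit 36) Col.h (nat_lit 37) Dv.df))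
(Tr.lf (Fc.ed (nat_lit 179) (nat_lit 37) Col.l (nat_lit 37) (Dv.wd (nat_lit 100) [Mv.b (nat_lit 178), Mv.f (nat_lit 172), Mv.f (nat_lit 178)]))))
(Tr.nd (nat_lit 181) (Tr.lf (Fc.ed (nat_lit 180) (nat_lit 37) Col.k (nat_lit 37) (Dv.wd (nat_lit 101) [Mv.b (nat_lit 178), Mv.f (nat_lit 173), Mv.f (nat_lit 178)])))
(Tr.lf (Fc.ed (nat_lit 181) (nat_lit 37) Col.c (nat_lit 37) (Dv.wd (nat_lit 102) [Mv.b (nat_lit 178), Mv.f (nat_lit 174), Mv.f (nat_lit 178)]))))))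
(Tr.nd (nat_lit 185) (Tr.nd (nat_lit 183) (Tr.lf (Fc.ed (nat_lit 182) (nat_lit 37) Col.e (nat_lit 37) (Dv.wd (nat_lit 103) [Mv.b (nat_lit 178), Mv.f (nat_lit 176), Mv.f (nat_lit 178)])))
(Tr.nd (nat_lit 184) (Tr.lf (Fc.ed (nat_lit 183) (nat_lit 37) Col.f (nat_lit 37) (Dv.wd (nat_lit 104) [Mv.b (nat_lit 178), Mv.f (nat_lit 177), Mv.f (nat_lit 178)])))
(Tr.lf (Fc.ed (nat_lit 184) (nat_lit 37) Col.d (nat_lit 38) Dv.df))))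
(Tr.nd (nat_lit 187) (Tr.nd (nat_lit 186) (Tr.lf (Fc.ed (nat_lit 185) (nat_lit 38) Col.l (nat_lit 38) (Dv.wd (nat_lit 80) [Mv.b (nat_lit 184), Mv.f (nat_lit 179), Mv.f (nat_lit 184)])))
(Tr.lf (Fc.ed (nat_lit 186) (nat_lit 38) Col.k (nat_lit 38) (Dv.wd (nat_lit 81) [Mv.b (nat_lit 184), Mv.f (nat_lit 180), Mv.f (nat_lit 184)]))))
(Tr.nd (nat_lit 188) (Tr.lf (Fc.ed (nat_lit 187) (nat_lit 38) Col.f (nat_lit 38) (Dv.wd (nat_lit 37) [Mv.b (nat_lit 184), Mv.f (nat_lit 183), Mv.f (nat_lit 184)])))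
(Tr.lf (Fc.ed (nat_lit 188) (nat_lit 38) Col.h (nat_lit 38) (Dv.wd (nat_lit 105) [Mv.b (nat_lit 184), Mv.b (nat_lit 178), Mv.f (nat_lit 175), Mv.f (nat_lit 178), Mv.f (nat_lit 184)])))))))
(Tr.nd (nat_lit 196) (Tr.nd (nat_lit 192) (Tr.nd (nat_lit 190) (Tr.lf (Fc.ed (nat_lit 189) (nat_lit 38) Col.c (nat_lit 39) Dv.df))
(Tr.nd (nat_lit 191) (Tr.lf (Fc.ed (nat_lit 190) (nat_lit 39) Col.l (nat_lit 39) (Dv.wd (nat_lit 77) [Mv.b (nat_lit 189), Mv.f (nat_lit 185), Mv.f (nat_lit 189)])))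
(Tr.lf (Fc.ed (nat_lit 191) (nat_lit 39) Col.k (nat_lit 39) (Dv.wd (nat_lit 78) [Mv.b (nat_lit 189), Mv.f (nat_lit 186), Mv.f (nat_lit 189)])))))
(Tr.nd (nat_lit 194) (Tr.nd (nat_lit 193) (Tr.lf (Fc.ed (nat_lit 192) (nat_lit 39) Col.f (nat_lit 39) (Dv.wd (nat_lit 36) [Mv.b (nat_lit 189), Mv.f (nat_lit 187), Mv.f (nat_lit 189)])))
(Tr.lf (Fc.ed (nat_lit 193) (nat_lit 39) Col.h (nat_lit 39) (Dv.wd (nat_lit 30) [Mv.b (nat_lit 189), Mv.f (nat_lit 188), Mv.f (nat_lit 189)]))))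
(Tr.nd (nat_lit 195) (Tr.lf (Fc.ed (nat_lit 194) (nat_lit 39) Col.d (nat_lit 39) (Dv.wd (nat_lit 106) [Mv.b (nat_lit 189), Mv.b (nat_lit 184), Mv.f (nat_lit 181), Mv.f (nat_lit 184), Mv.f (nat_lit 189)])))
(Tr.lf (Fc.ed (nat_lit 195) (nat_lit 39) Col.e (nat_lit 40) Dv.df)))))
(Tr.nd (nat_lit 200) (Tr.nd (nat_lit 198) (Tr.nd (nat_lit 197) (Tr.lf (Fc.ed (nat_lit 196) (nat_lit 40) Col.l (nat_lit 40) (Dv.wd (nat_lit 84) [Mv.b (nat_lit 195), Mv.f (nat_lit 190), Mv.f (nat_lit 195)])))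
(Tr.lf (Fc.ed (nat_lit 197) (nat_lit 40) Col.k (nat_lit 40) (Dv.wd (nat_lit 85) [Mv.b (nat_lit 195), Mv.f (nat_lit 191), Mv.f (nat_lit 195)]))))
(Tr.nd (nat_lit 199) (Tr.lf (Fc.ed (nat_lit 198) (nat_lit 40) Col.h (nat_lit 40) (Dv.wd (nat_lit 107) [Mv.b (nat_lit 195), Mv.f (nat_lit 193), Mv.f (nat_lit 195)])))
(Tr.lf (Fc.ed (nat_lit 199) (nat_lit 40) Col.d (nat_lit 41) Dv.df))))
(Tr.nd (nat_lit 202) (Tr.nd (nat_lit 201) (Tr.lf (Fc.ed (nat_lit 200) (nat_lit 41) Col.l (nat_lit 41) (Dv.wd (nat_lit 80) [Mv.b (nat_lit 199), Mv.f (nat_lit 196), Mv.f (nat_lit 199)])))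
(Tr.lf (Fc.ed (nat_lit 201) (nat_lit 41) Col.k (nat_lit 41) (Dv.wd (nat_lit 81) [Mv.b (nat_lit 199), Mv.f (nat_lit 197), Mv.f (nat_lit 199)]))))
(Tr.nd (nat_lit 203) (Tr.lf (Fc.ed (nat_lit 202) (nat_lit 41) Col.e (nat_lit 41) (Dv.wd (nat_lit 108) [Mv.b (nat_lit 199), Mv.b (nat_lit 195), Mv.f (nat_lit 194), Mv.f (nat_lit 195), Mv.f (nat_lit 199)])))
(Tr.lf (Fc.ed (nat_lit 203) (nat_lit 41) Col.f (nat_lit 42) Dv.df)))))))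
(Tr.nd (nat_lit 219) (Tr.nd (nat_lit 211) (Tr.nd (nat_lit 207) (Tr.nd (nat_lit 205) (Tr.lf (Fc.ed (nat_lit 204) (nat_lit 42) Col.l (nat_lit 42) (Dv.wd (nat_lit 89) [Mv.b (nat_lit 203), Mv.f (nat_lit 200), Mv.f (nat_lit 203)])))
(Tr.nd (nat_lit 206) (Tr.lf (Fc.ed (nat_lit 205) (nat_lit 42) Col.k (nat_lit 42) (Dv.wd (nat_lit 90) [Mv.b (nat_lit 203), Mv.f (nat_lit 201), Mv.f (nat_lit 203)])))
(Tr.lf (Fc.ed (nat_lit 206) (nat_lit 42) Col.e (nat_lit 43) Dv.df))))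
(Tr.nd (nat_lit 209) (Tr.nd (nat_lit 208) (Tr.lf (Fc.ed (nat_lit 207) (nat_lit 43) Col.l (nat_lit 43) (Dv.wd (nat_lit 84) [Mv.b (nat_lit 206), Mv.f (nat_lit 204), Mv.f (nat_lit 206)])))
(Tr.lf (Fc.ed (nat_lit 208) (nat_lit 43) Col.k (nat_lit 43) (Dv.wd (nat_lit 85) [Mv.b (nat_lit 206), Mv.f (nat_lit 205), Mv.f (nat_lit 206)]))))
(Tr.nd (nat_lit 210) (Tr.lf (Fc.ed (nat_lit 209) (nat_lit 43) Col.f (nat_lit 43) (Dv.wd (nat_lit 109) [Mv.b (nat_lit 206), Mv.b (nat_lit 203), Mv.f (nat_lit 202), Mv.f (nat_lit 203), Mv.f (nat_lit 206)])))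
(Tr.lf (Fc.ed (nat_lit 210) (nat_lit 43) Col.h (nat_lit 44) Dv.df)))))
(Tr.nd (nat_lit 215) (Tr.nd (nat_lit 213) (Tr.nd (nat_lit 212) (Tr.lf (Fc.ed (nat_lit 211) (nat_lit 44) Col.l (nat_lit 44) (Dv.wd (nat_lit 100) [Mv.b (nat_lit 210), Mv.f (nat_lit 207), Mv.f (nat_lit 210)])))
(Tr.lf (Fc.ed (nat_lit 212) (nat_lit 44) Col.k (nat_lit 44) (Dv.wd (nat_lit 101) [Mv.b (nat_lit 210), Mv.f (nat_lit 208), Mv.f (nat_lit 210)]))))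
(Tr.nd (nat_lit 214) (Tr.lf (Fc.ed (nat_lit 213) (nat_lit 44) Col.f (nat_lit 44) (Dv.wd (nat_lit 104) [Mv.b (nat_lit 210), Mv.f (nat_lit 209), Mv.f (nat_lit 210)])))
(Tr.lf (Fc.ed (nat_lit 214) (nat_lit 44) Col.d (nat_lit 45) Dv.df))))
(Tr.nd (nat_lit 217) (Tr.nd (nat_lit 216) (Tr.lf (Fc.ed (nat_lit 215) (nat_lit 45) Col.l (nat_lit 45) (Dv.wd (nat_lit 80) [Mv.b (nat_lit 214), Mv.f (nat_lit 211), Mv.f (nat_lit 214)])))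
(Tr.lf (Fc.ed (nat_lit 216) (nat_lit 45) Col.k (nat_lit 45) (Dv.wd (nat_lit 81) [Mv.b (nat_lit 214), Mv.f (nat_lit 212), Mv.f (nat_lit 214)]))))
(Tr.nd (nat_lit 218) (Tr.lf (Fc.ed (nat_lit 217) (nat_lit 45) Col.f (nat_lit 45) (Dv.wd (nat_lit 37) [Mv.b (nat_lit 214), Mv.f (nat_lit 213), Mv.f (nat_lit 214)])))
(Tr.lf (Fc.ed (nat_lit 218) (nat_lit 45) Col.c (nat_lit 46) Dv.df))))))
(Tr.nd (nat_lit 226) (Tr.nd (nat_lit 222) (Tr.nd (nat_lit 220) (Tr.lf (Fc.ed (nat_lit 219) (nat_lit 46) Col.l (nat_lit 46) (Dv.wd (nat_lit 77) [Mv.b (nat_lit 218), Mv.f (nat_lit 215), Mv.f (nat_lit 218)])))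
(Tr.nd (nat_lit 221) (Tr.lf (Fc.ed (nat_lit 220) (nat_lit 46) Col.k (nat_lit 46) (Dv.wd (nat_lit 78) [Mv.b (nat_lit 218), Mv.f (nat_lit 216), Mv.f (nat_lit 218)])))
(Tr.lf (Fc.ed (nat_lit 221) (nat_lit 46) Col.f (nat_lit 46) (Dv.wd (nat_lit 36) [Mv.b (nat_lit 218), Mv.f (nat_lit 217), Mv.f (nat_lit 218)])))))
(Tr.nd (nat_lit 224) (Tr.nd (nat_lit 223) (Tr.lf (Fc.ed (nat_lit 222) (nat_lit 46) Col.b (nat_lit 47) Dv.df))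
(Tr.lf (Fc.ed (nat_lit 223) (nat_lit 47) Col.l (nat_lit 47) (Dv.wd (nat_lit 73) [Mv.b (nat_lit 222), Mv.f (nat_lit 219), Mv.f (nat_lit 222)]))))
(Tr.nd (nat_lit 225) (Tr.lf (Fc.ed (nat_lit 224) (nat_lit 47) Col.k (nat_lit 47) (Dv.wd (nat_lit 74) [Mv.b (nat_lit 222), Mv.f (nat_lit 220), Mv.f (nat_lit 222)])))
(Tr.lf (Fc.ed (nat_lit 225) (nat_lit 47) Col.f (nat_lit 47) (Dv.wd (nat_lit 35) [Mv.b (nat_lit 222), Mv.f (nat_lit 221), Mv.f (nat_lit 222)]))))))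
(Tr.nd (nat_lit 230) (Tr.nd (nat_lit 228) (Tr.nd (nat_lit 227) (Tr.lf (Fc.ed (nat_lit 226) (nat_lit 47) Col.i (nat_lit 48) Dv.df))
(Tr.lf (Fc.ed (nat_lit 227) (nat_lit 48) Col.l (nat_lit 48) (Dv.wd (nat_lit 110) [Mv.b (nat_lit 226), Mv.f (nat_lit 223), Mv.f (nat_lit 226)]))))
(Tr.nd (nat_lit 229) (Tr.lf (Fc.ed (nat_lit 228) (nat_lit 48) Col.k (nat_lit 48) (Dv.wd (nat_lit 111) [Mv.b (nat_lit 226), Mv.f (nat_lit 224), Mv.f (nat_lit 226)])))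
(Tr.lf (Fc.ed (nat_lit 229) (nat_lit 48) Col.f (nat_lit 48) (Dv.wd (nat_lit 112) [Mv.b (nat_lit 226), Mv.f (nat_lit 225), Mv.f (nat_lit 226)])))))
(Tr.nd (nat_lit 232) (Tr.nd (nat_lit 231) (Tr.lf (Fc.ed (nat_lit 230) (nat_lit 48) Col.h (nat_lit 49) Dv.df))
(Tr.lf (Fc.ed (nat_lit 231) (nat_lit 49) Col.l (nat_lit 49) (Dv.wd (nat_lit 100) [Mv.b (nat_lit 230), Mv.f (nat_lit 227), Mv.f (nat_lit 230)]))))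
(Tr.nd (nat_lit 233) (Tr.lf (Fc.ed (nat_lit 232) (nat_lit 49) Col.k (nat_lit 49) (Dv.wd (nat_lit 101) [Mv.b (nat_lit 230), Mv.f (nat_lit 228), Mv.f (nat_lit 230)])))
(Tr.lf (Fc.ed (nat_lit 233) (nat_lit 49) Col.f (nat_lit 49) (Dv.wd (nat_lit 104) [Mv.b (nat_lit 230), Mv.f (nat_lit 229), Mv.f (nat_lit 230)])))))))))))
(Tr.nd (nat_lit 351) (Tr.nd (nat_lit 292) (Tr.nd (nat_lit 263) (Tr.nd (nat_lit 248) (Tr.nd (nat_lit 241) (Tr.nd (nat_lit 237) (Tr.nd (nat_lit 235) (Tr.lf (Fc.ed (nat_lit 234) (nat_lit 49) Col.d (nat_lit 50) Dv.df))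
(Tr.nd (nat_lit 236) (Tr.lf (Fc.ed (nat_lit 235) (nat_lit 50) Col.l (nat_lit 50) (Dv.wd (nat_lit 80) [Mv.b (nat_lit 234), Mv.f (nat_lit 231), Mv.f (nat_lit 234)])))
(Tr.lf (Fc.ed (nat_lit 236) (nat_lit 50) Col.k (nat_lit 50) (Dv.wd (nat_lit 81) [Mv.b (nat_lit 234), Mv.f (nat_lit 232), Mv.f (nat_lit 234)])))))
(Tr.nd (nat_lit 239) (Tr.nd (nat_lit 238) (Tr.lf (Fc.ed (nat_lit 237) (nat_lit 50) Col.f (nat_lit 50) (Dv.wd (nat_lit 37) [Mv.b (nat_lit 234), Mv.f (nat_lit 233), Mv.f (nat_lit 234)])))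
(Tr.lf (Fc.ed (nat_lit 238) (nat_lit 50) Col.e (nat_lit 51) Dv.df)))
(Tr.nd (nat_lit 240) (Tr.lf (Fc.ed (nat_lit 239) (nat_lit 51) Col.l (nat_lit 51) (Dv.wd (nat_lit 84) [Mv.b (nat_lit 238), Mv.f (nat_lit 235), Mv.f (nat_lit 238)])))
(Tr.lf (Fc.ed (nat_lit 240) (nat_lit 51) Col.k (nat_lit 51) (Dv.wd (nat_lit 85) [Mv.b (nat_lit 238), Mv.f (nat_lit 236), Mv.f (nat_lit 238)]))))))
(Tr.nd (nat_lit 244) (Tr.nd (nat_lit 242) (Tr.lf (Fc.ed (nat_lit 241) (nat_lit 51) Col.c (nat_lit 52) Dv.df))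
(Tr.nd (nat_lit 243) (Tr.lf (Fc.ed (nat_lit 242) (nat_lit 52) Col.l (nat_lit 52) (Dv.wd (nat_lit 77) [Mv.b (nat_lit 241), Mv.f (nat_lit 239), Mv.f (nat_lit 241)])))
(Tr.lf (Fc.ed (nat_lit 243) (nat_lit 52) Col.k (nat_lit 52) (Dv.wd (nat_lit 78) [Mv.b (nat_lit 241), Mv.f (nat_lit 240), Mv.f (nat_lit 241)])))))
(Tr.nd (nat_lit 246) (Tr.nd (nat_lit 245) (Tr.lf (Fc.ed (nat_lit 244) (nat_lit 52) Col.d (nat_lit 53) Dv.df))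
(Tr.lf (Fc.ed (nat_lit 245) (nat_lit 53) Col.l (nat_lit 53) (Dv.wd (nat_lit 80) [Mv.b (nat_lit 244), Mv.f (nat_lit 242), Mv.f (nat_lit 244)]))))
(Tr.nd (nat_lit 247) (Tr.lf (Fc.ed (nat_lit 246) (nat_lit 53) Col.k (nat_lit 53) (Dv.wd (nat_lit 81) [Mv.b (nat_lit 244), Mv.f (nat_lit 243), Mv.f (nat_lit 244)])))
(Tr.lf (Fc.ed (nat_lit 247) (nat_lit 53) Col.h (nat_lit 54) Dv.df))))))
(Tr.nd (nat_lit 255) (Tr.nd (nat_lit 251) (Tr.nd (nat_lit 249) (Tr.lf (Fc.ed (nat_lit 248) (nat_lit 54) Col.l (nat_lit 54) (Dv.wd (nat_lit 100) [Mv.b (nat_lit 247), Mv.f (nat_lit 245), Mv.f (nat_lit 247)])))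
(Tr.nd (nat_lit 250) (Tr.lf (Fc.ed (nat_lit 249) (nat_lit 54) Col.k (nat_lit 54) (Dv.wd (nat_lit 101) [Mv.b (nat_lit 247), Mv.f (nat_lit 246), Mv.f (nat_lit 247)])))
(Tr.lf (Fc.ed (nat_lit 250) (nat_lit 54) Col.i (nat_lit 55) Dv.df))))
(Tr.nd (nat_lit 253) (Tr.nd (nat_lit 252) (Tr.lf (Fc.ed (nat_lit 251) (nat_lit 55) Col.l (nat_lit 55) (Dv.wd (nat_lit 110) [Mv.b (nat_lit 250), Mv.f (nat_lit 248), Mv.f (nat_lit 250)])))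
(Tr.lf (Fc.ed (nat_lit 252) (nat_lit 55) Col.k (nat_lit 55) (Dv.wd (nat_lit 111) [Mv.b (nat_lit 250), Mv.f (nat_lit 249), Mv.f (nat_lit 250)]))))
(Tr.nd (nat_lit 254) (Tr.lf (Fc.ed (nat_lit 253) (nat_lit 55) Col.f (nat_lit 56) Dv.df))
(Tr.lf (Fc.ed (nat_lit 254) (nat_lit 56) Col.l (nat_lit 56) (Dv.wd (nat_lit 89) [Mv.b (nat_lit 253), Mv.f (nat_lit 251), Mv.f (nat_lit 253)]))))))
(Tr.nd (nat_lit 259) (Tr.nd (nat_lit 257) (Tr.nd (nat_lit 256) (Tr.lf (Fc.ed (nat_lit 255) (nat_lit 56) Col.k (nat_lit 56) (Dv.wd (nat_lit 90) [Mv.b (nat_lit 253), Mv.f (nat_lit 252), Mv.f (nat_lit 253)])))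
(Tr.lf (Fc.ed (nat_lit 256) (nat_lit 56) Col.e (nat_lit 57) Dv.df)))
(Tr.nd (nat_lit 258) (Tr.lf (Fc.ed (nat_lit 257) (nat_lit 57) Col.l (nat_lit 57) (Dv.wd (nat_lit 84) [Mv.b (nat_lit 256), Mv.f (nat_lit 254), Mv.f (nat_lit 256)])))
(Tr.lf (Fc.ed (nat_lit 258) (nat_lit 57) Col.k (nat_lit 57) (Dv.wd (nat_lit 85) [Mv.b (nat_lit 256), Mv.f (nat_lit 255), Mv.f (nat_lit 256)])))))
(Tr.nd (nat_lit 261) (Tr.nd (nat_lit 260) (Tr.lf (Fc.ed (nat_lit 259) (nat_lit 57) Col.d (nat_lit 58) Dv.df))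
(Tr.lf (Fc.ed (nat_lit 260) (nat_lit 58) Col.l (nat_lit 58) (Dv.wd (nat_lit 80) [Mv.b (nat_lit 259), Mv.f (nat_lit 257), Mv.f (nat_lit 259)]))))
(Tr.nd (nat_lit 262) (Tr.lf (Fc.ed (nat_lit 261) (nat_lit 58) Col.k (nat_lit 58) (Dv.wd (nat_lit 81) [Mv.b (nat_lit 259), Mv.f (nat_lit 258), Mv.f (nat_lit 259)])))
(Tr.lf (Fc.ed (nat_lit 262) (nat_lit 58) Col.h (nat_lit 59) Dv.df)))))))
(Tr.nd (nat_lit 277) (Tr.nd (nat_lit 270) (Tr.nd (nat_lit 266) (Tr.nd (nat_lit 264) (Tr.lf (Fc.ed (nat_lit 263) (nat_lit 59) Col.l (nat_lit 59) (Dv.wd (nat_lit 100) [Mv.b (nat_lit 262), Mv.f (nat_lit 260), Mv.f (nat_lit 262)])))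
(Tr.nd (nat_lit 265) (Tr.lf (Fc.ed (nat_lit 264) (nat_lit 59) Col.k (nat_lit 59) (Dv.wd (nat_lit 101) [Mv.b (nat_lit 262), Mv.f (nat_lit 261), Mv.f (nat_lit 262)])))
(Tr.lf (Fc.ed (nat_lit 265) (nat_lit 59) Col.g (nat_lit 60) Dv.df))))
(Tr.nd (nat_lit 268) (Tr.nd (nat_lit 267) (Tr.lf (Fc.ed (nat_lit 266) (nat_lit 60) Col.k (nat_lit 60) (Dv.wd (nat_lit 95) [Mv.b (nat_lit 265), Mv.f (nat_lit 264), Mv.f (nat_lit 265)])))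
(Tr.lf (Fc.ed (nat_lit 267) (nat_lit 60) Col.f (nat_lit 61) Dv.df)))
(Tr.nd (nat_lit 269) (Tr.lf (Fc.ed (nat_lit 268) (nat_lit 61) Col.k (nat_lit 61) (Dv.wd (nat_lit 90) [Mv.b (nat_lit 267), Mv.f (nat_lit 266), Mv.f (nat_lit 267)])))
(Tr.lf (Fc.ed (nat_lit 269) (nat_lit 61) Col.e (nat_lit 62) Dv.df)))))
(Tr.nd (nat_lit 273) (Tr.nd (nat_lit 271) (Tr.lf (Fc.ed (nat_lit 270) (nat_lit 62) Col.k (nat_lit 62) (Dv.wd (nat_lit 85) [Mv.b (nat_lit 269), Mv.f (nat_lit 268), Mv.f (nat_lit 269)])))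
(Tr.nd (nat_lit 272) (Tr.lf (Fc.ed (nat_lit 271) (nat_lit 62) Col.d (nat_lit 63) Dv.df))
(Tr.lf (Fc.ed (nat_lit 272) (nat_lit 63) Col.b (nat_lit 64) Dv.df))))
(Tr.nd (nat_lit 275) (Tr.nd (nat_lit 274) (Tr.lf (Fc.ed (nat_lit 273) (nat_lit 64) Col.c (nat_lit 65) Dv.df))
(Tr.lf (Fc.ed (nat_lit 274) (nat_lit 65) Col.a (nat_lit 66) Dv.df)))
(Tr.nd (nat_lit 276) (Tr.lf (Fc.ed (nat_lit 275) (nat_lit 5) Col.h (nat_lit 67) Dv.df))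
(Tr.lf (Fc.ed (nat_lit 276) (nat_lit 67) Col.e (nat_lit 7) (Dv.wd (nat_lit 103) [Mv.b (nat_lit 14), Mv.b (nat_lit 13), Mv.f (nat_lit 275)])))))))
(Tr.nd (nat_lit 284) (Tr.nd (nat_lit 280) (Tr.nd (nat_lit 278) (Tr.lf (Fc.ed (nat_lit 277) (nat_lit 67) Col.f (nat_lit 67) (Dv.wd (nat_lit 104) [Mv.b (nat_lit 275), Mv.f (nat_lit 71), Mv.f (nat_lit 275)])))
(Tr.nd (nat_lit 279) (Tr.lf (Fc.ed (nat_lit 278) (nat_lit 6) Col.f (nat_lit 68) Dv.df))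
(Tr.lf (Fc.ed (nat_lit 279) (nat_lit 7) Col.f (nat_lit 69) Dv.df))))
(Tr.nd (nat_lit 282) (Tr.nd (nat_lit 281) (Tr.lf (Fc.ed (nat_lit 280) (nat_lit 69) Col.a (nat_lit 69) (Dv.wd (nat_lit 113) [Mv.b (nat_lit 279), Mv.f (nat_lit 120), Mv.f (nat_lit 279)])))
(Tr.lf (Fc.ed (nat_lit 281) (nat_lit 69) Col.b (nat_lit 69) (Dv.wd (nat_lit 114) [Mv.b (nat_lit 279), Mv.f (nat_lit 98), Mv.f (nat_lit 279)]))))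
(Tr.nd (nat_lit 283) (Tr.lf (Fc.ed (nat_lit 282) (nat_lit 69) Col.c (nat_lit 69) (Dv.wd (nat_lit 91) [Mv.b (nat_lit 279), Mv.f (nat_lit 87), Mv.f (nat_lit 279)])))
(Tr.lf (Fc.ed (nat_lit 283) (nat_lit 69) Col.h (nat_lit 68) (Dv.wd (nat_lit 115) [Mv.b (nat_lit 278), Mv.f (nat_lit 14), Mv.f (nat_lit 279)]))))))
(Tr.nd (nat_lit 288) (Tr.nd (nat_lit 286) (Tr.nd (nat_lit 285) (Tr.lf (Fc.ed (nat_lit 284) (nat_lit 8) Col.f (nat_lit 70) Dv.df))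
(Tr.lf (Fc.ed (nat_lit 285) (nat_lit 70) Col.a (nat_lit 70) (Dv.wd (nat_lit 113) [Mv.b (nat_lit 284), Mv.f (nat_lit 121), Mv.f (nat_lit 284)]))))
(Tr.nd (nat_lit 287) (Tr.lf (Fc.ed (nat_lit 286) (nat_lit 70) Col.b (nat_lit 70) (Dv.wd (nat_lit 114) [Mv.b (nat_lit 284), Mv.f (nat_lit 99), Mv.f (nat_lit 284)])))
(Tr.lf (Fc.ed (nat_lit 287) (nat_lit 70) Col.d (nat_lit 69) (Dv.wd (nat_lit 92) [Mv.b (nat_lit 279), Mv.f (nat_lit 15), Mv.f (nat_lit 284)])))))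
(Tr.nd (nat_lit 290) (Tr.nd (nat_lit 289) (Tr.lf (Fc.ed (nat_lit 288) (nat_lit 70) Col.h (nat_lit 70) (Dv.wd (nat_lit 115) [Mv.b (nat_lit 284), Mv.f (nat_lit 78), Mv.f (nat_lit 284)])))
(Tr.lf (Fc.ed (nat_lit 289) (nat_lit 9) Col.f (nat_lit 71) Dv.df)))
(Tr.nd (nat_lit 291) (Tr.lf (Fc.ed (nat_lit 290) (nat_lit 71) Col.a (nat_lit 71) (Dv.wd (nat_lit 113) [Mv.b (nat_lit 289), Mv.f (nat_lit 122), Mv.f (nat_lit 289)])))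
(Tr.lf (Fc.ed (nat_lit 291) (nat_lit 71) Col.c (nat_lit 70) (Dv.wd (nat_lit 91) [Mv.b (nat_lit 284), Mv.f (nat_lit 16), Mv.f (nat_lit 289)])))))))))
(Tr.nd (nat_lit 321) (Tr.nd (nat_lit 306) (Tr.nd (nat_lit 299) (Tr.nd (nat_lit 295) (Tr.nd (nat_lit 293) (Tr.lf (Fc.ed (nat_lit 292) (nat_lit 71) Col.d (nat_lit 71) (Dv.wd (nat_lit 92) [Mv.b (nat_lit 289), Mv.f (nat_lit 88), Mv.f (nat_lit 289)])))
(Tr.nd (nat_lit 294) (Tr.lf (Fc.ed (nat_lit 293) (nat_lit 10) Col.f (nat_lit 72) Dv.df))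
(Tr.lf (Fc.ed (nat_lit 294) (nat_lit 72) Col.b (nat_lit 71) (Dv.wd (nat_lit 114) [Mv.b (nat_lit 289), Mv.f (nat_lit 17), Mv.f (nat_lit 293)])))))
(Tr.nd (nat_lit 297) (Tr.nd (nat_lit 296) (Tr.lf (Fc.ed (nat_lit 295) (nat_lit 10) Col.i (nat_lit 73) Dv.df))
(Tr.lf (Fc.ed (nat_lit 296) (nat_lit 73) Col.l (nat_lit 18) (Dv.wd (nat_lit 110) [Mv.f (nat_lit 26), Mv.b (nat_lit 45), Mv.f (nat_lit 295)]))))
(Tr.nd (nat_lit 298) (Tr.lf (Fc.ed (nat_lit 297) (nat_lit 73) Col.k (nat_lit 73) (Dv.wd (nat_lit 111) [Mv.b (nat_lit 295), Mv.f (nat_lit 54), Mv.f (nat_lit 295)])))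
(Tr.lf (Fc.ed (nat_lit 298) (nat_lit 73) Col.a (nat_lit 12) (Dv.wd (nat_lit 116) [Mv.b (nat_lit 19), Mv.b (nat_lit 18), Mv.f (nat_lit 295)]))))))
(Tr.nd (nat_lit 302) (Tr.nd (nat_lit 300) (Tr.lf (Fc.ed (nat_lit 299) (nat_lit 11) Col.l (nat_lit 74) Dv.df))
(Tr.nd (nat_lit 301) (Tr.lf (Fc.ed (nat_lit 300) (nat_lit 74) Col.a (nat_lit 19) (Dv.wd (nat_lit 65) [Mv.b (nat_lit 45), Mv.f (nat_lit 18), Mv.f (nat_lit 299)])))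
(Tr.lf (Fc.ed (nat_lit 301) (nat_lit 74) Col.h (nat_lit 74) (Dv.wd (nat_lit 117) [Mv.b (nat_lit 299), Mv.f (nat_lit 81), Mv.f (nat_lit 299)])))))
(Tr.nd (nat_lit 304) (Tr.nd (nat_lit 303) (Tr.lf (Fc.ed (nat_lit 302) (nat_lit 11) Col.k (nat_lit 75) Dv.df))
(Tr.lf (Fc.ed (nat_lit 303) (nat_lit 11) Col.f (nat_lit 76) Dv.df)))
(Tr.nd (nat_lit 305) (Tr.lf (Fc.ed (nat_lit 304) (nat_lit 76) Col.a (nat_lit 72) (Dv.wd (nat_lit 113) [Mv.b (nat_lit 293), Mv.f (nat_lit 18), Mv.f (nat_lit 303)])))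
(Tr.lf (Fc.ed (nat_lit 305) (nat_lit 12) Col.l (nat_lit 77) Dv.df))))))
(Tr.nd (nat_lit 313) (Tr.nd (nat_lit 309) (Tr.nd (nat_lit 307) (Tr.lf (Fc.ed (nat_lit 306) (nat_lit 77) Col.a (nat_lit 18) (Dv.wd (nat_lit 65) [Mv.b (nat_lit 296), Mv.f (nat_lit 298), Mv.f (nat_lit 305)])))
(Tr.nd (nat_lit 308) (Tr.lf (Fc.ed (nat_lit 307) (nat_lit 77) Col.i (nat_lit 74) (Dv.wd (nat_lit 118) [Mv.b (nat_lit 299), Mv.f (nat_lit 19), Mv.f (nat_lit 305)])))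
(Tr.lf (Fc.ed (nat_lit 308) (nat_lit 12) Col.k (nat_lit 78) Dv.df))))
(Tr.nd (nat_lit 311) (Tr.nd (nat_lit 310) (Tr.lf (Fc.ed (nat_lit 309) (nat_lit 78) Col.i (nat_lit 75) (Dv.wd (nat_lit 119) [Mv.b (nat_lit 302), Mv.f (nat_lit 19), Mv.f (nat_lit 308)])))
(Tr.lf (Fc.ed (nat_lit 310) (nat_lit 78) Col.a (nat_lit 78) (Dv.wd (nat_lit 120) [Mv.b (nat_lit 308), Mv.b (nat_lit 298), Mv.f (nat_lit 297), Mv.f (nat_lit 298), Mv.f (nat_lit 308)]))))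
(Tr.nd (nat_lit 312) (Tr.lf (Fc.ed (nat_lit 311) (nat_lit 13) Col.l (nat_lit 79) Dv.df))
(Tr.lf (Fc.ed (nat_lit 312) (nat_lit 79) Col.h (nat_lit 77) (Dv.wd (nat_lit 117) [Mv.b (nat_lit 305), Mv.f (nat_lit 20), Mv.f (nat_lit 311)]))))))
(Tr.nd (nat_lit 317) (Tr.nd (nat_lit 315) (Tr.nd (nat_lit 314) (Tr.lf (Fc.ed (nat_lit 313) (nat_lit 17) Col.a (nat_lit 79) (Dv.wd (nat_lit 69) [Mv.f (nat_lit 312), Mv.f (nat_lit 306), Mv.b (nat_lit 25)])))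
(Tr.lf (Fc.ed (nat_lit 314) (nat_lit 13) Col.k (nat_lit 80) Dv.df)))
(Tr.nd (nat_lit 316) (Tr.lf (Fc.ed (nat_lit 315) (nat_lit 80) Col.b (nat_lit 80) (Dv.wd (nat_lit 21) [Mv.b (nat_lit 314), Mv.f (nat_lit 125), Mv.f (nat_lit 314)])))
(Tr.lf (Fc.ed (nat_lit 316) (nat_lit 80) Col.c (nat_lit 80) (Dv.wd (nat_lit 22) [Mv.b (nat_lit 314), Mv.f (nat_lit 104), Mv.f (nat_lit 314)])))))
(Tr.nd (nat_lit 319) (Tr.nd (nat_lit 318) (Tr.lf (Fc.ed (nat_lit 317) (nat_lit 80) Col.h (nat_lit 78) (Dv.wd (nat_lit 27) [Mv.b (nat_lit 308), Mv.f (nat_lit 20), Mv.f (nat_lit 314)])))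
(Tr.lf (Fc.ed (nat_lit 318) (nat_lit 80) Col.a (nat_lit 80) (Dv.wd (nat_lit 69) [Mv.f (nat_lit 317), Mv.f (nat_lit 310), Mv.b (nat_lit 317)]))))
(Tr.nd (nat_lit 320) (Tr.lf (Fc.ed (nat_lit 319) (nat_lit 14) Col.l (nat_lit 81) Dv.df))
(Tr.lf (Fc.ed (nat_lit 320) (nat_lit 81) Col.d (nat_lit 79) (Dv.wd (nat_lit 45) [Mv.b (nat_lit 311), Mv.f (nat_lit 21), Mv.f (nat_lit 319)]))))))))
(Tr.nd (nat_lit 336) (Tr.nd (nat_lit 328) (Tr.nd (nat_lit 324) (Tr.nd (nat_lit 322) (Tr.lf (Fc.ed (nat_lit 321) (nat_lit 16) Col.a (nat_lit 81) (Dv.wd (nat_lit 67) [Mv.f (nat_lit 320), Mv.b (nat_lit 313), Mv.b (nat_lit 24)])))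
(Tr.nd (nat_lit 323) (Tr.lf (Fc.ed (nat_lit 322) (nat_lit 14) Col.k (nat_lit 82) Dv.df))
(Tr.lf (Fc.ed (nat_lit 323) (nat_lit 82) Col.b (nat_lit 82) (Dv.wd (nat_lit 21) [Mv.b (nat_lit 322), Mv.f (nat_lit 126), Mv.f (nat_lit 322)])))))
(Tr.nd (nat_lit 326) (Tr.nd (nat_lit 325) (Tr.lf (Fc.ed (nat_lit 324) (nat_lit 82) Col.d (nat_lit 80) (Dv.wd (nat_lit 23) [Mv.b (nat_lit 314), Mv.f (nat_lit 21), Mv.f (nat_lit 322)])))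
(Tr.lf (Fc.ed (nat_lit 325) (nat_lit 82) Col.h (nat_lit 82) (Dv.wd (nat_lit 27) [Mv.b (nat_lit 322), Mv.f (nat_lit 92), Mv.f (nat_lit 322)]))))
(Tr.nd (nat_lit 327) (Tr.lf (Fc.ed (nat_lit 326) (nat_lit 82) Col.a (nat_lit 82) (Dv.wd (nat_lit 67) [Mv.f (nat_lit 324), Mv.f (nat_lit 318), Mv.b (nat_lit 324)])))
(Tr.lf (Fc.ed (nat_lit 327) (nat_lit 14) Col.a (nat_lit 83) Dv.df)))))
(Tr.nd (nat_lit 332) (Tr.nd (nat_lit 330) (Tr.nd (nat_lit 329) (Tr.lf (Fc.ed (nat_lit 328) (nat_lit 83) Col.l (nat_lit 16) (Dv.wd (nat_lit 76) [Mv.f (nat_lit 321), Mv.b (nat_lit 319), Mv.f (nat_lit 327)])))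
(Tr.lf (Fc.ed (nat_lit 329) (nat_lit 83) Col.k (nat_lit 83) (Dv.wd (nat_lit 15) [Mv.b (nat_lit 327), Mv.f (nat_lit 322), Mv.f (nat_lit 326), Mv.b (nat_lit 322), Mv.f (nat_lit 327)]))))
(Tr.nd (nat_lit 331) (Tr.lf (Fc.ed (nat_lit 330) (nat_lit 15) Col.l (nat_lit 84) Dv.df))
(Tr.lf (Fc.ed (nat_lit 331) (nat_lit 84) Col.c (nat_lit 81) (Dv.wd (nat_lit 59) [Mv.b (nat_lit 319), Mv.f (nat_lit 22), Mv.f (nat_lit 330)])))))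
(Tr.nd (nat_lit 334) (Tr.nd (nat_lit 333) (Tr.lf (Fc.ed (nat_lit 332) (nat_lit 84) Col.e (nat_lit 83) (Dv.wd (nat_lit 39) [Mv.f (nat_lit 328), Mv.b (nat_lit 23), Mv.f (nat_lit 330)])))
(Tr.lf (Fc.ed (nat_lit 333) (nat_lit 84) Col.k (nat_lit 84) (Dv.wd (nat_lit 19) [Mv.f (nat_lit 332), Mv.f (nat_lit 329), Mv.b (nat_lit 332)]))))
(Tr.nd (nat_lit 335) (Tr.lf (Fc.ed (nat_lit 334) (nat_lit 81) Col.k (nat_lit 81) (Dv.wd (nat_lit 17) [Mv.b (nat_lit 331), Mv.f (nat_lit 333), Mv.f (nat_lit 331)])))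
(Tr.lf (Fc.ed (nat_lit 335) (nat_lit 79) Col.k (nat_lit 79) (Dv.wd (nat_lit 18) [Mv.b (nat_lit 320), Mv.f (nat_lit 334), Mv.f (nat_lit 320)])))))))
(Tr.nd (nat_lit 343) (Tr.nd (nat_lit 339) (Tr.nd (nat_lit 337) (Tr.lf (Fc.ed (nat_lit 336) (nat_lit 82) Col.l (nat_lit 82) (Dv.wd (nat_lit 121) [Mv.b (nat_lit 322), Mv.f (nat_lit 319), Mv.f (nat_lit 334), Mv.b (nat_lit 319), Mv.f (nat_lit 322)])))
(Tr.nd (nat_lit 338) (Tr.lf (Fc.ed (nat_lit 337) (nat_lit 80) Col.l (nat_lit 80) (Dv.wd (nat_lit 12) [Mv.b (nat_lit 324), Mv.f (nat_lit 336), Mv.f (nat_lit 324)])))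
(Tr.lf (Fc.ed (nat_lit 338) (nat_lit 78) Col.l (nat_lit 78) (Dv.wd (nat_lit 14) [Mv.b (nat_lit 317), Mv.f (nat_lit 337), Mv.f (nat_lit 317)])))))
(Tr.nd (nat_lit 341) (Tr.nd (nat_lit 340) (Tr.lf (Fc.ed (nat_lit 339) (nat_lit 77) Col.k (nat_lit 77) (Dv.wd (nat_lit 122) [Mv.b (nat_lit 305), Mv.f (nat_lit 308), Mv.f (nat_lit 338), Mv.b (nat_lit 308), Mv.f (nat_lit 305)])))
(Tr.lf (Fc.ed (nat_lit 340) (nat_lit 74) Col.k (nat_lit 74) (Dv.wd (nat_lit 123) [Mv.b (nat_lit 307), Mv.f (nat_lit 339), Mv.f (nat_lit 307)]))))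
(Tr.nd (nat_lit 342) (Tr.lf (Fc.ed (nat_lit 341) (nat_lit 15) Col.k (nat_lit 85) Dv.df))
(Tr.lf (Fc.ed (nat_lit 342) (nat_lit 85) Col.c (nat_lit 82) (Dv.wd (nat_lit 22) [Mv.b (nat_lit 322), Mv.f (nat_lit 22), Mv.f (nat_lit 341)]))))))
(Tr.nd (nat_lit 347) (Tr.nd (nat_lit 345) (Tr.nd (nat_lit 344) (Tr.lf (Fc.ed (nat_lit 343) (nat_lit 85) Col.a (nat_lit 85) (Dv.wd (nat_lit 66) [Mv.f (nat_lit 342), Mv.f (nat_lit 326), Mv.b (nat_lit 342)])))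
(Tr.lf (Fc.ed (nat_lit 344) (nat_lit 16) Col.k (nat_lit 86) Dv.df)))
(Tr.nd (nat_lit 346) (Tr.lf (Fc.ed (nat_lit 345) (nat_lit 86) Col.e (nat_lit 85) (Dv.wd (nat_lit 24) [Mv.b (nat_lit 341), Mv.f (nat_lit 23), Mv.f (nat_lit 344)])))
(Tr.lf (Fc.ed (nat_lit 346) (nat_lit 17) Col.k (nat_lit 87) Dv.df))))
(Tr.nd (nat_lit 349) (Tr.nd (nat_lit 348) (Tr.lf (Fc.ed (nat_lit 347) (nat_lit 87) Col.c (nat_lit 87) (Dv.wd (nat_lit 22) [Mv.b (nat_lit 346), Mv.f (nat_lit 114), Mv.f (nat_lit 346)])))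
(Tr.lf (Fc.ed (nat_lit 348) (nat_lit 87) Col.d (nat_lit 86) (Dv.wd (nat_lit 23) [Mv.b (nat_lit 344), Mv.f (nat_lit 24), Mv.f (nat_lit 346)]))))
(Tr.nd (nat_lit 350) (Tr.lf (Fc.ed (nat_lit 349) (nat_lit 87) Col.e (nat_lit 87) (Dv.wd (nat_lit 24) [Mv.b (nat_lit 346), Mv.f (nat_lit 106), Mv.f (nat_lit 346)])))
(Tr.lf (Fc.ed (nat_lit 350) (nat_lit 87) Col.a (nat_lit 87) (Dv.wd (nat_lit 120) [Mv.b (nat_lit 346), Mv.f (nat_lit 313), Mv.f (nat_lit 335), Mv.b (nat_lit 313), Mv.f (nat_lit 346)]))))))))))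
(Tr.nd (nat_lit 410) (Tr.nd (nat_lit 380) (Tr.nd (nat_lit 365) (Tr.nd (nat_lit 358) (Tr.nd (nat_lit 354) (Tr.nd (nat_lit 352) (Tr.lf (Fc.ed (nat_lit 351) (nat_lit 18) Col.k (nat_lit 88) Dv.df))
(Tr.nd (nat_lit 353) (Tr.lf (Fc.ed (nat_lit 352) (nat_lit 88) Col.h (nat_lit 87) (Dv.wd (nat_lit 27) [Mv.b (nat_lit 346), Mv.f (nat_lit 25), Mv.f (nat_lit 351)])))
(Tr.lf (Fc.ed (nat_lit 353) (nat_lit 88) Col.a (nat_lit 88) (Dv.wd (nat_lit 120) [Mv.b (nat_lit 351), Mv.b (nat_lit 306), Mv.f (nat_lit 339), Mv.f (nat_lit 306), Mv.f (nat_lit 351)])))))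
(Tr.nd (nat_lit 356) (Tr.nd (nat_lit 355) (Tr.lf (Fc.ed (nat_lit 354) (nat_lit 19) Col.k (nat_lit 89) Dv.df))
(Tr.lf (Fc.ed (nat_lit 355) (nat_lit 89) Col.i (nat_lit 88) (Dv.wd (nat_lit 119) [Mv.b (nat_lit 351), Mv.f (nat_lit 26), Mv.f (nat_lit 354)]))))
(Tr.nd (nat_lit 357) (Tr.lf (Fc.ed (nat_lit 356) (nat_lit 89) Col.a (nat_lit 89) (Dv.wd (nat_lit 120) [Mv.b (nat_lit 354), Mv.b (nat_lit 300), Mv.f (nat_lit 340), Mv.f (nat_lit 300), Mv.f (nat_lit 354)])))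
(Tr.lf (Fc.ed (nat_lit 357) (nat_lit 19) Col.f (nat_lit 90) Dv.df)))))
(Tr.nd (nat_lit 361) (Tr.nd (nat_lit 359) (Tr.lf (Fc.ed (nat_lit 358) (nat_lit 20) Col.k (nat_lit 91) Dv.df))
(Tr.nd (nat_lit 360) (Tr.lf (Fc.ed (nat_lit 359) (nat_lit 91) Col.b (nat_lit 89) (Dv.wd (nat_lit 21) [Mv.b (nat_lit 354), Mv.f (nat_lit 27), Mv.f (nat_lit 358)])))
(Tr.lf (Fc.ed (nat_lit 360) (nat_lit 91) Col.e (nat_lit 91) (Dv.wd (nat_lit 24) [Mv.b (nat_lit 358), Mv.f (nat_lit 109), Mv.f (nat_lit 358)])))))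
(Tr.nd (nat_lit 363) (Tr.nd (nat_lit 362) (Tr.lf (Fc.ed (nat_lit 361) (nat_lit 20) Col.f (nat_lit 92) Dv.df))
(Tr.lf (Fc.ed (nat_lit 362) (nat_lit 92) Col.b (nat_lit 90) (Dv.wd (nat_lit 114) [Mv.b (nat_lit 357), Mv.f (nat_lit 27), Mv.f (nat_lit 361)]))))
(Tr.nd (nat_lit 364) (Tr.lf (Fc.ed (nat_lit 363) (nat_lit 21) Col.k (nat_lit 93) Dv.df))
(Tr.lf (Fc.ed (nat_lit 364) (nat_lit 93) Col.c (nat_lit 91) (Dv.wd (nat_lit 22) [Mv.b (nat_lit 358), Mv.f (nat_lit 28), Mv.f (nat_lit 363)])))))))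
(Tr.nd (nat_lit 372) (Tr.nd (nat_lit 368) (Tr.nd (nat_lit 366) (Tr.lf (Fc.ed (nat_lit 365) (nat_lit 22) Col.k (nat_lit 94) Dv.df))
(Tr.nd (nat_lit 367) (Tr.lf (Fc.ed (nat_lit 366) (nat_lit 94) Col.d (nat_lit 93) (Dv.wd (nat_lit 23) [Mv.b (nat_lit 363), Mv.f (nat_lit 29), Mv.f (nat_lit 365)])))
(Tr.lf (Fc.ed (nat_lit 367) (nat_lit 23) Col.k (nat_lit 95) Dv.df))))
(Tr.nd (nat_lit 370) (Tr.nd (nat_lit 369) (Tr.lf (Fc.ed (nat_lit 368) (nat_lit 95) Col.b (nat_lit 95) (Dv.wd (nat_lit 21) [Mv.b (nat_lit 367), Mv.f (nat_lit 97), Mv.f (nat_lit 367)])))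
(Tr.lf (Fc.ed (nat_lit 369) (nat_lit 95) Col.h (nat_lit 94) (Dv.wd (nat_lit 27) [Mv.b (nat_lit 365), Mv.f (nat_lit 30), Mv.f (nat_lit 367)]))))
(Tr.nd (nat_lit 371) (Tr.lf (Fc.ed (nat_lit 370) (nat_lit 24) Col.k (nat_lit 96) Dv.df))
(Tr.lf (Fc.ed (nat_lit 371) (nat_lit 96) Col.e (nat_lit 95) (Dv.wd (nat_lit 24) [Mv.b (nat_lit 367), Mv.f (nat_lit 31), Mv.f (nat_lit 370)]))))))
(Tr.nd (nat_lit 376) (Tr.nd (nat_lit 374) (Tr.nd (nat_lit 373) (Tr.lf (Fc.ed (nat_lit 372) (nat_lit 96) Col.f (nat_lit 96) (Dv.wd (nat_lit 25) [Mv.b (nat_lit 370), Mv.f (nat_lit 72), Mv.f (nat_lit 370)])))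
(Tr.lf (Fc.ed (nat_lit 373) (nat_lit 25) Col.k (nat_lit 97) Dv.df)))
(Tr.nd (nat_lit 375) (Tr.lf (Fc.ed (nat_lit 374) (nat_lit 97) Col.c (nat_lit 30) (Dv.wd (nat_lit 22) [Mv.f (nat_lit 135), Mv.b (nat_lit 33), Mv.f (nat_lit 373)])))
(Tr.lf (Fc.ed (nat_lit 375) (nat_lit 97) Col.d (nat_lit 96) (Dv.wd (nat_lit 23) [Mv.b (nat_lit 370), Mv.f (nat_lit 32), Mv.f (nat_lit 373)])))))
(Tr.nd (nat_lit 378) (Tr.nd (nat_lit 377) (Tr.lf (Fc.ed (nat_lit 376) (nat_lit 32) Col.a (nat_lit 97) (Dv.wd (nat_lit 66) [Mv.f (nat_lit 374), Mv.f (nat_lit 140), Mv.f (nat_lit 147)])))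
(Tr.lf (Fc.ed (nat_lit 377) (nat_lit 96) Col.a (nat_lit 33) (Dv.wd (nat_lit 67) [Mv.b (nat_lit 153), Mv.f (nat_lit 376), Mv.f (nat_lit 375)]))))
(Tr.nd (nat_lit 379) (Tr.lf (Fc.ed (nat_lit 378) (nat_lit 34) Col.a (nat_lit 95) (Dv.wd (nat_lit 68) [Mv.b (nat_lit 371), Mv.f (nat_lit 377), Mv.f (nat_lit 159)])))
(Tr.lf (Fc.ed (nat_lit 379) (nat_lit 32) Col.b (nat_lit 98) Dv.df)))))))
(Tr.nd (nat_lit 395) (Tr.nd (nat_lit 387) (Tr.nd (nat_lit 383) (Tr.nd (nat_lit 381) (Tr.lf (Fc.ed (nat_lit 380) (nat_lit 33) Col.b (nat_lit 99) Dv.df))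
(Tr.nd (nat_lit 382) (Tr.lf (Fc.ed (nat_lit 381) (nat_lit 99) Col.d (nat_lit 98) (Dv.wd (nat_lit 46) [Mv.b (nat_lit 379), Mv.f (nat_lit 153), Mv.f (nat_lit 380)])))
(Tr.lf (Fc.ed (nat_lit 382) (nat_lit 34) Col.b (nat_lit 100) Dv.df))))
(Tr.nd (nat_lit 385) (Tr.nd (nat_lit 384) (Tr.lf (Fc.ed (nat_lit 383) (nat_lit 100) Col.e (nat_lit 99) (Dv.wd (nat_lit 40) [Mv.b (nat_lit 380), Mv.f (nat_lit 159), Mv.f (nat_lit 382)])))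
(Tr.lf (Fc.ed (nat_lit 384) (nat_lit 34) Col.h (nat_lit 101) Dv.df)))
(Tr.nd (nat_lit 386) (Tr.lf (Fc.ed (nat_lit 385) (nat_lit 101) Col.a (nat_lit 94) (Dv.wd (nat_lit 124) [Mv.b (nat_lit 369), Mv.b (nat_lit 378), Mv.f (nat_lit 384)])))
(Tr.lf (Fc.ed (nat_lit 386) (nat_lit 35) Col.a (nat_lit 102) Dv.df)))))
(Tr.nd (nat_lit 391) (Tr.nd (nat_lit 389) (Tr.nd (nat_lit 388) (Tr.lf (Fc.ed (nat_lit 387) (nat_lit 102) Col.f (nat_lit 95) (Dv.wd (nat_lit 33) [Mv.b (nat_lit 378), Mv.f (nat_lit 165), Mv.f (nat_lit 386)])))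
(Tr.lf (Fc.ed (nat_lit 388) (nat_lit 102) Col.b (nat_lit 102) (Dv.wd (nat_lit 125) [Mv.f (nat_lit 387), Mv.f (nat_lit 368), Mv.b (nat_lit 387)]))))
(Tr.nd (nat_lit 390) (Tr.lf (Fc.ed (nat_lit 389) (nat_lit 35) Col.b (nat_lit 103) Dv.df))
(Tr.lf (Fc.ed (nat_lit 390) (nat_lit 103) Col.f (nat_lit 100) (Dv.wd (nat_lit 35) [Mv.b (nat_lit 382), Mv.f (nat_lit 165), Mv.f (nat_lit 389)])))))
(Tr.nd (nat_lit 393) (Tr.nd (nat_lit 392) (Tr.lf (Fc.ed (nat_lit 391) (nat_lit 35) Col.h (nat_lit 104) Dv.df))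
(Tr.lf (Fc.ed (nat_lit 392) (nat_lit 104) Col.f (nat_lit 101) (Dv.wd (nat_lit 104) [Mv.b (nat_lit 384), Mv.f (nat_lit 165), Mv.f (nat_lit 391)]))))
(Tr.nd (nat_lit 394) (Tr.lf (Fc.ed (nat_lit 393) (nat_lit 104) Col.g (nat_lit 37) (Dv.wd (nat_lit 126) [Mv.b (nat_lit 178), Mv.b (nat_lit 171), Mv.f (nat_lit 391)])))
(Tr.lf (Fc.ed (nat_lit 394) (nat_lit 36) Col.a (nat_lit 105) Dv.df))))))
(Tr.nd (nat_lit 402) (Tr.nd (nat_lit 398) (Tr.nd (nat_lit 396) (Tr.lf (Fc.ed (nat_lit 395) (nat_lit 105) Col.g (nat_lit 102) (Dv.wd (nat_lit 31) [Mv.b (nat_lit 386), Mv.f (nat_lit 171), Mv.f (nat_lit 394)])))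
(Tr.nd (nat_lit 397) (Tr.lf (Fc.ed (nat_lit 396) (nat_lit 105) Col.b (nat_lit 105) (Dv.wd (nat_lit 127) [Mv.f (nat_lit 395), Mv.f (nat_lit 388), Mv.b (nat_lit 395)])))
(Tr.lf (Fc.ed (nat_lit 397) (nat_lit 36) Col.b (nat_lit 106) Dv.df))))
(Tr.nd (nat_lit 400) (Tr.nd (nat_lit 399) (Tr.lf (Fc.ed (nat_lit 398) (nat_lit 106) Col.g (nat_lit 103) (Dv.wd (nat_lit 75) [Mv.b (nat_lit 389), Mv.f (nat_lit 171), Mv.f (nat_lit 397)])))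
(Tr.lf (Fc.ed (nat_lit 399) (nat_lit 37) Col.a (nat_lit 107) Dv.df)))
(Tr.nd (nat_lit 401) (Tr.lf (Fc.ed (nat_lit 400) (nat_lit 107) Col.e (nat_lit 107) (Dv.wd (nat_lit 38) [Mv.b (nat_lit 399), Mv.f (nat_lit 182), Mv.f (nat_lit 399)])))
(Tr.lf (Fc.ed (nat_lit 401) (nat_lit 107) Col.h (nat_lit 105) (Dv.wd (nat_lit 28) [Mv.b (nat_lit 394), Mv.f (nat_lit 178), Mv.f (nat_lit 399)]))))))
(Tr.nd (nat_lit 406) (Tr.nd (nat_lit 404) (Tr.nd (nat_lit 403) (Tr.lf (Fc.ed (nat_lit 402) (nat_lit 107) Col.b (nat_lit 107) (Dv.wd (nat_lit 57) [Mv.f (nat_lit 401), Mv.f (nat_lit 396), Mv.b (nat_lit 401)])))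
(Tr.lf (Fc.ed (nat_lit 403) (nat_lit 37) Col.b (nat_lit 108) Dv.df)))
(Tr.nd (nat_lit 405) (Tr.lf (Fc.ed (nat_lit 404) (nat_lit 108) Col.e (nat_lit 108) (Dv.wd (nat_lit 40) [Mv.b (nat_lit 403), Mv.f (nat_lit 182), Mv.f (nat_lit 403)])))
(Tr.lf (Fc.ed (nat_lit 405) (nat_lit 108) Col.h (nat_lit 106) (Dv.wd (nat_lit 29) [Mv.b (nat_lit 397), Mv.f (nat_lit 178), Mv.f (nat_lit 403)])))))
(Tr.nd (nat_lit 408) (Tr.nd (nat_lit 407) (Tr.lf (Fc.ed (nat_lit 406) (nat_lit 38) Col.a (nat_lit 109) Dv.df))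
(Tr.lf (Fc.ed (nat_lit 407) (nat_lit 109) Col.d (nat_lit 107) (Dv.wd (nat_lit 44) [Mv.b (nat_lit 399), Mv.f (nat_lit 184), Mv.f (nat_lit 406)]))))
(Tr.nd (nat_lit 409) (Tr.lf (Fc.ed (nat_lit 408) (nat_lit 109) Col.f (nat_lit 109) (Dv.wd (nat_lit 33) [Mv.b (nat_lit 406), Mv.f (nat_lit 187), Mv.f (nat_lit 406)])))
(Tr.lf (Fc.ed (nat_lit 409) (nat_lit 109) Col.h (nat_lit 109) (Dv.wd (nat_lit 28) [Mv.b (nat_lit 406), Mv.f (nat_lit 188), Mv.f (nat_lit 406)])))))))))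
(Tr.nd (nat_lit 439) (Tr.nd (nat_lit 424) (Tr.nd (nat_lit 417) (Tr.nd (nat_lit 413) (Tr.nd (nat_lit 411) (Tr.lf (Fc.ed (nat_lit 410) (nat_lit 109) Col.b (nat_lit 109) (Dv.wd (nat_lit 54) [Mv.f (nat_lit 407), Mv.f (nat_lit 402), Mv.b (nat_lit 407)])))
(Tr.nd (nat_lit 412) (Tr.lf (Fc.ed (nat_lit 411) (nat_lit 38) Col.b (nat_lit 110) Dv.df))
(Tr.lf (Fc.ed (nat_lit 412) (nat_lit 110) Col.d (nat_lit 108) (Dv.wd (nat_lit 46) [Mv.b (nat_lit 403), Mv.f (nat_lit 184), Mv.f (nat_lit 411)])))))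
(Tr.nd (nat_lit 415) (Tr.nd (nat_lit 414) (Tr.lf (Fc.ed (nat_lit 413) (nat_lit 110) Col.f (nat_lit 110) (Dv.wd (nat_lit 35) [Mv.b (nat_lit 411), Mv.f (nat_lit 187), Mv.f (nat_lit 411)])))
(Tr.lf (Fc.ed (nat_lit 414) (nat_lit 110) Col.h (nat_lit 110) (Dv.wd (nat_lit 29) [Mv.b (nat_lit 411), Mv.f (nat_lit 188), Mv.f (nat_lit 411)]))))
(Tr.nd (nat_lit 416) (Tr.lf (Fc.ed (nat_lit 415) (nat_lit 110) Col.a (nat_lit 110) (Dv.wd (nat_lit 128) [Mv.b (nat_lit 411), Mv.f (nat_lit 406), Mv.f (nat_lit 410), Mv.b (nat_lit 406), Mv.f (nat_lit 411)])))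
(Tr.lf (Fc.ed (nat_lit 416) (nat_lit 38) Col.e (nat_lit 111) Dv.df)))))
(Tr.nd (nat_lit 420) (Tr.nd (nat_lit 418) (Tr.lf (Fc.ed (nat_lit 417) (nat_lit 111) Col.c (nat_lit 40) (Dv.wd (nat_lit 86) [Mv.b (nat_lit 195), Mv.b (nat_lit 189), Mv.f (nat_lit 416)])))
(Tr.nd (nat_lit 419) (Tr.lf (Fc.ed (nat_lit 418) (nat_lit 111) Col.d (nat_lit 111) (Dv.wd (nat_lit 88) [Mv.b (nat_lit 416), Mv.b (nat_lit 184), Mv.f (nat_lit 182), Mv.f (nat_lit 184), Mv.f (nat_lit 416)])))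
(Tr.lf (Fc.ed (nat_lit 419) (nat_lit 41) Col.c (nat_lit 41) (Dv.wd (nat_lit 47) [Mv.b (nat_lit 199), Mv.b (nat_lit 417), Mv.f (nat_lit 418), Mv.f (nat_lit 417), Mv.f (nat_lit 199)])))))
(Tr.nd (nat_lit 422) (Tr.nd (nat_lit 421) (Tr.lf (Fc.ed (nat_lit 420) (nat_lit 42) Col.c (nat_lit 42) (Dv.wd (nat_lit 129) [Mv.b (nat_lit 203), Mv.f (nat_lit 419), Mv.f (nat_lit 203)])))
(Tr.lf (Fc.ed (nat_lit 421) (nat_lit 43) Col.c (nat_lit 43) (Dv.wd (nat_lit 48) [Mv.b (nat_lit 206), Mv.f (nat_lit 420), Mv.f (nat_lit 206)]))))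
(Tr.nd (nat_lit 423) (Tr.lf (Fc.ed (nat_lit 422) (nat_lit 44) Col.c (nat_lit 44) (Dv.wd (nat_lit 49) [Mv.b (nat_lit 210), Mv.f (nat_lit 421), Mv.f (nat_lit 210)])))
(Tr.lf (Fc.ed (nat_lit 423) (nat_lit 46) Col.d (nat_lit 46) (Dv.wd (nat_lit 50) [Mv.b (nat_lit 218), Mv.b (nat_lit 214), Mv.f (nat_lit 422), Mv.f (nat_lit 214), Mv.f (nat_lit 218)])))))))
(Tr.nd (nat_lit 431) (Tr.nd (nat_lit 427) (Tr.nd (nat_lit 425) (Tr.lf (Fc.ed (nat_lit 424) (nat_lit 47) Col.d (nat_lit 47) (Dv.wd (nat_lit 46) [Mv.b (nat_lit 222), Mv.f (nat_lit 423), Mv.f (nat_lit 222)])))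
(Tr.nd (nat_lit 426) (Tr.lf (Fc.ed (nat_lit 425) (nat_lit 48) Col.d (nat_lit 48) (Dv.wd (nat_lit 51) [Mv.b (nat_lit 226), Mv.f (nat_lit 424), Mv.f (nat_lit 226)])))
(Tr.lf (Fc.ed (nat_lit 426) (nat_lit 50) Col.h (nat_lit 50) (Dv.wd (nat_lit 43) [Mv.b (nat_lit 234), Mv.b (nat_lit 230), Mv.f (nat_lit 425), Mv.f (nat_lit 230), Mv.f (nat_lit 234)])))))
(Tr.nd (nat_lit 429) (Tr.nd (nat_lit 428) (Tr.lf (Fc.ed (nat_lit 427) (nat_lit 51) Col.h (nat_lit 51) (Dv.wd (nat_lit 107) [Mv.b (nat_lit 238), Mv.f (nat_lit 426), Mv.f (nat_lit 238)])))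
(Tr.lf (Fc.ed (nat_lit 428) (nat_lit 52) Col.h (nat_lit 52) (Dv.wd (nat_lit 30) [Mv.b (nat_lit 241), Mv.f (nat_lit 427), Mv.f (nat_lit 241)]))))
(Tr.nd (nat_lit 430) (Tr.lf (Fc.ed (nat_lit 429) (nat_lit 54) Col.d (nat_lit 54) (Dv.wd (nat_lit 130) [Mv.b (nat_lit 247), Mv.b (nat_lit 244), Mv.f (nat_lit 428), Mv.f (nat_lit 244), Mv.f (nat_lit 247)])))
(Tr.lf (Fc.ed (nat_lit 430) (nat_lit 55) Col.d (nat_lit 55) (Dv.wd (nat_lit 51) [Mv.b (nat_lit 250), Mv.f (nat_lit 429), Mv.f (nat_lit 250)]))))))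
(Tr.nd (nat_lit 435) (Tr.nd (nat_lit 433) (Tr.nd (nat_lit 432) (Tr.lf (Fc.ed (nat_lit 431) (nat_lit 56) Col.d (nat_lit 56) (Dv.wd (nat_lit 131) [Mv.b (nat_lit 253), Mv.f (nat_lit 430), Mv.f (nat_lit 253)])))
(Tr.lf (Fc.ed (nat_lit 432) (nat_lit 58) Col.e (nat_lit 58) (Dv.wd (nat_lit 61) [Mv.b (nat_lit 259), Mv.b (nat_lit 256), Mv.f (nat_lit 431), Mv.f (nat_lit 256), Mv.f (nat_lit 259)]))))
(Tr.nd (nat_lit 434) (Tr.lf (Fc.ed (nat_lit 433) (nat_lit 59) Col.e (nat_lit 59) (Dv.wd (nat_lit 62) [Mv.b (nat_lit 262), Mv.f (nat_lit 432), Mv.f (nat_lit 262)])))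
(Tr.lf (Fc.ed (nat_lit 434) (nat_lit 60) Col.e (nat_lit 60) (Dv.wd (nat_lit 132) [Mv.b (nat_lit 265), Mv.f (nat_lit 433), Mv.f (nat_lit 265)])))))
(Tr.nd (nat_lit 437) (Tr.nd (nat_lit 436) (Tr.lf (Fc.ed (nat_lit 435) (nat_lit 62) Col.f (nat_lit 62) (Dv.wd (nat_lit 133) [Mv.b (nat_lit 269), Mv.b (nat_lit 267), Mv.f (nat_lit 434), Mv.f (nat_lit 267), Mv.f (nat_lit 269)])))
(Tr.lf (Fc.ed (nat_lit 436) (nat_lit 38) Col.g (nat_lit 112) Dv.df)))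
(Tr.nd (nat_lit 438) (Tr.lf (Fc.ed (nat_lit 437) (nat_lit 112) Col.d (nat_lit 104) (Dv.wd (nat_lit 97) [Mv.f (nat_lit 393), Mv.f (nat_lit 184), Mv.f (nat_lit 436)])))
(Tr.lf (Fc.ed (nat_lit 438) (nat_lit 39) Col.a (nat_lit 113) Dv.df)))))))
(Tr.nd (nat_lit 454) (Tr.nd (nat_lit 446) (Tr.nd (nat_lit 442) (Tr.nd (nat_lit 440) (Tr.lf (Fc.ed (nat_lit 439) (nat_lit 113) Col.c (nat_lit 109) (Dv.wd (nat_lit 52) [Mv.b (nat_lit 406), Mv.f (nat_lit 189), Mv.f (nat_lit 438)])))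
(Tr.nd (nat_lit 441) (Tr.lf (Fc.ed (nat_lit 440) (nat_lit 113) Col.d (nat_lit 113) (Dv.wd (nat_lit 44) [Mv.b (nat_lit 438), Mv.f (nat_lit 194), Mv.f (nat_lit 438)])))
(Tr.lf (Fc.ed (nat_lit 441) (nat_lit 39) Col.b (nat_lit 114) Dv.df))))
(Tr.nd (nat_lit 444) (Tr.nd (nat_lit 443) (Tr.lf (Fc.ed (nat_lit 442) (nat_lit 39) Col.g (nat_lit 115) Dv.df))
(Tr.lf (Fc.ed (nat_lit 443) (nat_lit 115) Col.c (nat_lit 112) (Dv.wd (nat_lit 96) [Mv.b (nat_lit 436), Mv.f (nat_lit 189), Mv.f (nat_lit 442)]))))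
(Tr.nd (nat_lit 445) (Tr.lf (Fc.ed (nat_lit 444) (nat_lit 115) Col.d (nat_lit 115) (Dv.wd (nat_lit 97) [Mv.b (nat_lit 442), Mv.f (nat_lit 194), Mv.f (nat_lit 442)])))
(Tr.lf (Fc.ed (nat_lit 445) (nat_lit 40) Col.a (nat_lit 116) Dv.df)))))
(Tr.nd (nat_lit 450) (Tr.nd (nat_lit 448) (Tr.nd (nat_lit 447) (Tr.lf (Fc.ed (nat_lit 446) (nat_lit 116) Col.e (nat_lit 113) (Dv.wd (nat_lit 38) [Mv.b (nat_lit 438), Mv.f (nat_lit 195), Mv.f (nat_lit 445)])))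
(Tr.lf (Fc.ed (nat_lit 447) (nat_lit 116) Col.h (nat_lit 116) (Dv.wd (nat_lit 28) [Mv.b (nat_lit 445), Mv.f (nat_lit 198), Mv.f (nat_lit 445)]))))
(Tr.nd (nat_lit 449) (Tr.lf (Fc.ed (nat_lit 448) (nat_lit 40) Col.b (nat_lit 117) Dv.df))
(Tr.lf (Fc.ed (nat_lit 449) (nat_lit 117) Col.e (nat_lit 114) (Dv.wd (nat_lit 40) [Mv.b (nat_lit 441), Mv.f (nat_lit 195), Mv.f (nat_lit 448)])))))
(Tr.nd (nat_lit 452) (Tr.nd (nat_lit 451) (Tr.lf (Fc.ed (nat_lit 450) (nat_lit 40) Col.f (nat_lit 118) Dv.df))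
(Tr.lf (Fc.ed (nat_lit 451) (nat_lit 118) Col.d (nat_lit 42) (Dv.wd (nat_lit 92) [Mv.b (nat_lit 203), Mv.b (nat_lit 199), Mv.f (nat_lit 450)]))))
(Tr.nd (nat_lit 453) (Tr.lf (Fc.ed (nat_lit 452) (nat_lit 118) Col.h (nat_lit 118) (Dv.wd (nat_lit 115) [Mv.b (nat_lit 450), Mv.f (nat_lit 198), Mv.f (nat_lit 450)])))
(Tr.lf (Fc.ed (nat_lit 453) (nat_lit 118) Col.e (nat_lit 118) (Dv.wd (nat_lit 93) [Mv.b (nat_lit 450), Mv.b (nat_lit 195), Mv.f (nat_lit 192), Mv.f (nat_lit 195), Mv.f (nat_lit 450)])))))))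
(Tr.nd (nat_lit 461) (Tr.nd (nat_lit 457) (Tr.nd (nat_lit 455) (Tr.lf (Fc.ed (nat_lit 454) (nat_lit 43) Col.d (nat_lit 43) (Dv.wd (nat_lit 42) [Mv.b (nat_lit 206), Mv.b (nat_lit 451), Mv.f (nat_lit 453), Mv.f (nat_lit 451), Mv.f (nat_lit 206)])))
(Tr.nd (nat_lit 456) (Tr.lf (Fc.ed (nat_lit 455) (nat_lit 45) Col.h (nat_lit 45) (Dv.wd (nat_lit 43) [Mv.b (nat_lit 214), Mv.b (nat_lit 210), Mv.f (nat_lit 454), Mv.f (nat_lit 210), Mv.f (nat_lit 214)])))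
(Tr.lf (Fc.ed (nat_lit 456) (nat_lit 46) Col.h (nat_lit 46) (Dv.wd (nat_lit 30) [Mv.b (nat_lit 218), Mv.f (nat_lit 455), Mv.f (nat_lit 218)])))))
(Tr.nd (nat_lit 459) (Tr.nd (nat_lit 458) (Tr.lf (Fc.ed (nat_lit 457) (nat_lit 47) Col.h (nat_lit 47) (Dv.wd (nat_lit 29) [Mv.b (nat_lit 222), Mv.f (nat_lit 456), Mv.f (nat_lit 222)])))
(Tr.lf (Fc.ed (nat_lit 458) (nat_lit 49) Col.i (nat_lit 49) (Dv.wd (nat_lit 134) [Mv.b (nat_lit 230), Mv.b (nat_lit 226), Mv.f (nat_lit 457), Mv.f (nat_lit 226), Mv.f (nat_lit 230)]))))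
(Tr.nd (nat_lit 460) (Tr.lf (Fc.ed (nat_lit 459) (nat_lit 50) Col.i (nat_lit 50) (Dv.wd (nat_lit 135) [Mv.b (nat_lit 234), Mv.f (nat_lit 458), Mv.f (nat_lit 234)])))
(Tr.lf (Fc.ed (nat_lit 460) (nat_lit 51) Col.i (nat_lit 51) (Dv.wd (nat_lit 136) [Mv.b (nat_lit 238), Mv.f (nat_lit 459), Mv.f (nat_lit 238)]))))))
(Tr.nd (nat_lit 465) (Tr.nd (nat_lit 463) (Tr.nd (nat_lit 462) (Tr.lf (Fc.ed (nat_lit 461) (nat_lit 52) Col.i (nat_lit 52) (Dv.wd (nat_lit 137) [Mv.b (nat_lit 241), Mv.f (nat_lit 460), Mv.f (nat_lit 241)])))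
(Tr.lf (Fc.ed (nat_lit 462) (nat_lit 53) Col.i (nat_lit 53) (Dv.wd (nat_lit 135) [Mv.b (nat_lit 244), Mv.f (nat_lit 461), Mv.f (nat_lit 244)]))))
(Tr.nd (nat_lit 464) (Tr.lf (Fc.ed (nat_lit 463) (nat_lit 55) Col.h (nat_lit 55) (Dv.wd (nat_lit 138) [Mv.b (nat_lit 250), Mv.b (nat_lit 247), Mv.f (nat_lit 462), Mv.f (nat_lit 247), Mv.f (nat_lit 250)])))
(Tr.lf (Fc.ed (nat_lit 464) (nat_lit 56) Col.h (nat_lit 56) (Dv.wd (nat_lit 115) [Mv.b (nat_lit 253), Mv.f (nat_lit 463), Mv.f (nat_lit 253)])))))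
(Tr.nd (nat_lit 467) (Tr.nd (nat_lit 466) (Tr.lf (Fc.ed (nat_lit 465) (nat_lit 57) Col.h (nat_lit 57) (Dv.wd (nat_lit 107) [Mv.b (nat_lit 256), Mv.f (nat_lit 464), Mv.f (nat_lit 256)])))
(Tr.lf (Fc.ed (nat_lit 466) (nat_lit 59) Col.d (nat_lit 59) (Dv.wd (nat_lit 130) [Mv.b (nat_lit 262), Mv.b (nat_lit 259), Mv.f (nat_lit 465), Mv.f (nat_lit 259), Mv.f (nat_lit 262)]))))
(Tr.nd (nat_lit 468) (Tr.lf (Fc.ed (nat_lit 467) (nat_lit 60) Col.d (nat_lit 60) (Dv.wd (nat_lit 139) [Mv.b (nat_lit 265), Mv.f (nat_lit 466), Mv.f (nat_lit 265)])))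
(Tr.lf (Fc.ed (nat_lit 468) (nat_lit 61) Col.d (nat_lit 61) (Dv.wd (nat_lit 131) [Mv.b (nat_lit 267), Mv.f (nat_lit 467), Mv.f (nat_lit 267)]))))))))))))
(Tr.nd (nat_lit 704) (Tr.nd (nat_lit 586) (Tr.nd (nat_lit 527) (Tr.nd (nat_lit 498) (Tr.nd (nat_lit 483) (Tr.nd (nat_lit 476) (Tr.nd (nat_lit 472) (Tr.nd (nat_lit 470) (Tr.lf (Fc.ed (nat_lit 469) (nat_lit 40) Col.g (nat_lit 119) Dv.df))
(Tr.nd (nat_lit 471) (Tr.lf (Fc.ed (nat_lit 470) (nat_lit 119) Col.e (nat_lit 115) (Dv.wd (nat_lit 98) [Mv.b (nat_lit 442), Mv.f (nat_lit 195), Mv.f (nat_lit 469)])))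
(Tr.lf (Fc.ed (nat_lit 471) (nat_lit 119) Col.h (nat_lit 119) (Dv.wd (nat_lit 140) [Mv.b (nat_lit 469), Mv.f (nat_lit 198), Mv.f (nat_lit 469)])))))
(Tr.nd (nat_lit 474) (Tr.nd (nat_lit 473) (Tr.lf (Fc.ed (nat_lit 472) (nat_lit 41) Col.a (nat_lit 120) Dv.df))
(Tr.lf (Fc.ed (nat_lit 473) (nat_lit 120) Col.d (nat_lit 116) (Dv.wd (nat_lit 44) [Mv.b (nat_lit 445), Mv.f (nat_lit 199), Mv.f (nat_lit 472)]))))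
(Tr.nd (nat_lit 475) (Tr.lf (Fc.ed (nat_lit 474) (nat_lit 41) Col.b (nat_lit 121) Dv.df))
(Tr.lf (Fc.ed (nat_lit 475) (nat_lit 121) Col.d (nat_lit 117) (Dv.wd (nat_lit 46) [Mv.b (nat_lit 448), Mv.f (nat_lit 199), Mv.f (nat_lit 474)]))))))
(Tr.nd (nat_lit 479) (Tr.nd (nat_lit 477) (Tr.lf (Fc.ed (nat_lit 476) (nat_lit 41) Col.g (nat_lit 122) Dv.df))
(Tr.nd (nat_lit 478) (Tr.lf (Fc.ed (nat_lit 477) (nat_lit 122) Col.l (nat_lit 122) (Dv.wd (nat_lit 94) [Mv.b (nat_lit 476), Mv.f (nat_lit 200), Mv.f (nat_lit 476)])))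
(Tr.lf (Fc.ed (nat_lit 478) (nat_lit 122) Col.d (nat_lit 119) (Dv.wd (nat_lit 97) [Mv.b (nat_lit 469), Mv.f (nat_lit 199), Mv.f (nat_lit 476)])))))
(Tr.nd (nat_lit 481) (Tr.nd (nat_lit 480) (Tr.lf (Fc.ed (nat_lit 479) (nat_lit 122) Col.e (nat_lit 122) (Dv.wd (nat_lit 98) [Mv.b (nat_lit 476), Mv.f (nat_lit 202), Mv.f (nat_lit 476)])))
(Tr.lf (Fc.ed (nat_lit 480) (nat_lit 41) Col.h (nat_lit 123) Dv.df)))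
(Tr.nd (nat_lit 482) (Tr.lf (Fc.ed (nat_lit 481) (nat_lit 41) Col.i (nat_lit 124) Dv.df))
(Tr.lf (Fc.ed (nat_lit 482) (nat_lit 42) Col.a (nat_lit 125) Dv.df))))))
(Tr.nd (nat_lit 490) (Tr.nd (nat_lit 486) (Tr.nd (nat_lit 484) (Tr.lf (Fc.ed (nat_lit 483) (nat_lit 125) Col.f (nat_lit 120) (Dv.wd (nat_lit 33) [Mv.b (nat_lit 472), Mv.f (nat_lit 203), Mv.f (nat_lit 482)])))
(Tr.nd (nat_lit 485) (Tr.lf (Fc.ed (nat_lit 484) (nat_lit 42) Col.b (nat_lit 126) Dv.df))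
(Tr.lf (Fc.ed (nat_lit 485) (nat_lit 126) Col.f (nat_lit 121) (Dv.wd (nat_lit 35) [Mv.b (nat_lit 474), Mv.f (nat_lit 203), Mv.f (nat_lit 484)])))))
(Tr.nd (nat_lit 488) (Tr.nd (nat_lit 487) (Tr.lf (Fc.ed (nat_lit 486) (nat_lit 42) Col.g (nat_lit 127) Dv.df))
(Tr.lf (Fc.ed (nat_lit 487) (nat_lit 42) Col.h (nat_lit 128) Dv.df)))
(Tr.nd (nat_lit 489) (Tr.lf (Fc.ed (nat_lit 488) (nat_lit 128) Col.e (nat_lit 44) (Dv.wd (nat_lit 103) [Mv.b (nat_lit 210), Mv.b (nat_lit 206), Mv.f (nat_lit 487)])))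
(Tr.lf (Fc.ed (nat_lit 489) (nat_lit 128) Col.f (nat_lit 123) (Dv.wd (nat_lit 104) [Mv.b (nat_lit 480), Mv.f (nat_lit 203), Mv.f (nat_lit 487)]))))))
(Tr.nd (nat_lit 494) (Tr.nd (nat_lit 492) (Tr.nd (nat_lit 491) (Tr.lf (Fc.ed (nat_lit 490) (nat_lit 128) Col.d (nat_lit 128) (Dv.wd (nat_lit 141) [Mv.b (nat_lit 487), Mv.b (nat_lit 451), Mv.f (nat_lit 452), Mv.f (nat_lit 451), Mv.f (nat_lit 487)])))
(Tr.lf (Fc.ed (nat_lit 491) (nat_lit 45) Col.e (nat_lit 45) (Dv.wd (nat_lit 61) [Mv.b (nat_lit 214), Mv.b (nat_lit 488), Mv.f (nat_lit 490), Mv.f (nat_lit 488), Mv.f (nat_lit 214)]))))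
(Tr.nd (nat_lit 493) (Tr.lf (Fc.ed (nat_lit 492) (nat_lit 46) Col.e (nat_lit 46) (Dv.wd (nat_lit 41) [Mv.b (nat_lit 218), Mv.f (nat_lit 491), Mv.f (nat_lit 218)])))
(Tr.lf (Fc.ed (nat_lit 493) (nat_lit 47) Col.e (nat_lit 47) (Dv.wd (nat_lit 40) [Mv.b (nat_lit 222), Mv.f (nat_lit 492), Mv.f (nat_lit 222)])))))
(Tr.nd (nat_lit 496) (Tr.nd (nat_lit 495) (Tr.lf (Fc.ed (nat_lit 494) (nat_lit 48) Col.e (nat_lit 48) (Dv.wd (nat_lit 63) [Mv.b (nat_lit 226), Mv.f (nat_lit 493), Mv.f (nat_lit 226)])))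
(Tr.lf (Fc.ed (nat_lit 495) (nat_lit 49) Col.e (nat_lit 49) (Dv.wd (nat_lit 62) [Mv.b (nat_lit 230), Mv.f (nat_lit 494), Mv.f (nat_lit 230)]))))
(Tr.nd (nat_lit 497) (Tr.lf (Fc.ed (nat_lit 496) (nat_lit 51) Col.d (nat_lit 51) (Dv.wd (nat_lit 42) [Mv.b (nat_lit 238), Mv.b (nat_lit 234), Mv.f (nat_lit 495), Mv.f (nat_lit 234), Mv.f (nat_lit 238)])))
(Tr.lf (Fc.ed (nat_lit 497) (nat_lit 53) Col.c (nat_lit 53) (Dv.wd (nat_lit 47) [Mv.b (nat_lit 244), Mv.b (nat_lit 241), Mv.f (nat_lit 496), Mv.f (nat_lit 241), Mv.f (nat_lit 244)]))))))))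
(Tr.nd (nat_lit 512) (Tr.nd (nat_lit 505) (Tr.nd (nat_lit 501) (Tr.nd (nat_lit 499) (Tr.lf (Fc.ed (nat_lit 498) (nat_lit 54) Col.c (nat_lit 54) (Dv.wd (nat_lit 49) [Mv.b (nat_lit 247), Mv.f (nat_lit 497), Mv.f (nat_lit 247)])))
(Tr.nd (nat_lit 500) (Tr.lf (Fc.ed (nat_lit 499) (nat_lit 55) Col.c (nat_lit 55) (Dv.wd (nat_lit 60) [Mv.b (nat_lit 250), Mv.f (nat_lit 498), Mv.f (nat_lit 250)])))
(Tr.lf (Fc.ed (nat_lit 500) (nat_lit 56) Col.c (nat_lit 56) (Dv.wd (nat_lit 129) [Mv.b (nat_lit 253), Mv.f (nat_lit 499), Mv.f (nat_lit 253)])))))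
(Tr.nd (nat_lit 503) (Tr.nd (nat_lit 502) (Tr.lf (Fc.ed (nat_lit 501) (nat_lit 57) Col.c (nat_lit 57) (Dv.wd (nat_lit 48) [Mv.b (nat_lit 256), Mv.f (nat_lit 500), Mv.f (nat_lit 256)])))
(Tr.lf (Fc.ed (nat_lit 502) (nat_lit 42) Col.i (nat_lit 129) Dv.df)))
(Tr.nd (nat_lit 504) (Tr.lf (Fc.ed (nat_lit 503) (nat_lit 129) Col.f (nat_lit 124) (Dv.wd (nat_lit 112) [Mv.b (nat_lit 481), Mv.f (nat_lit 203), Mv.f (nat_lit 502)])))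
(Tr.lf (Fc.ed (nat_lit 504) (nat_lit 43) Col.a (nat_lit 130) Dv.df)))))
(Tr.nd (nat_lit 508) (Tr.nd (nat_lit 506) (Tr.lf (Fc.ed (nat_lit 505) (nat_lit 130) Col.e (nat_lit 125) (Dv.wd (nat_lit 38) [Mv.b (nat_lit 482), Mv.f (nat_lit 206), Mv.f (nat_lit 504)])))
(Tr.nd (nat_lit 507) (Tr.lf (Fc.ed (nat_lit 506) (nat_lit 130) Col.f (nat_lit 130) (Dv.wd (nat_lit 33) [Mv.b (nat_lit 504), Mv.f (nat_lit 209), Mv.f (nat_lit 504)])))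
(Tr.lf (Fc.ed (nat_lit 507) (nat_lit 43) Col.b (nat_lit 131) Dv.df))))
(Tr.nd (nat_lit 510) (Tr.nd (nat_lit 509) (Tr.lf (Fc.ed (nat_lit 508) (nat_lit 131) Col.e (nat_lit 126) (Dv.wd (nat_lit 40) [Mv.b (nat_lit 484), Mv.f (nat_lit 206), Mv.f (nat_lit 507)])))
(Tr.lf (Fc.ed (nat_lit 509) (nat_lit 43) Col.g (nat_lit 132) Dv.df)))
(Tr.nd (nat_lit 511) (Tr.lf (Fc.ed (nat_lit 510) (nat_lit 132) Col.e (nat_lit 127) (Dv.wd (nat_lit 98) [Mv.b (nat_lit 486), Mv.f (nat_lit 206), Mv.f (nat_lit 509)])))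
(Tr.lf (Fc.ed (nat_lit 511) (nat_lit 43) Col.i (nat_lit 133) Dv.df))))))
(Tr.nd (nat_lit 519) (Tr.nd (nat_lit 515) (Tr.nd (nat_lit 513) (Tr.lf (Fc.ed (nat_lit 512) (nat_lit 133) Col.d (nat_lit 133) (Dv.wd (nat_lit 142) [Mv.b (nat_lit 511), Mv.f (nat_lit 454), Mv.f (nat_lit 511)])))
(Tr.nd (nat_lit 514) (Tr.lf (Fc.ed (nat_lit 513) (nat_lit 133) Col.e (nat_lit 129) (Dv.wd (nat_lit 143) [Mv.b (nat_lit 502), Mv.f (nat_lit 206), Mv.f (nat_lit 511)])))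
(Tr.lf (Fc.ed (nat_lit 514) (nat_lit 44) Col.a (nat_lit 134) Dv.df))))
(Tr.nd (nat_lit 517) (Tr.nd (nat_lit 516) (Tr.lf (Fc.ed (nat_lit 515) (nat_lit 134) Col.c (nat_lit 134) (Dv.wd (nat_lit 52) [Mv.b (nat_lit 514), Mv.f (nat_lit 422), Mv.f (nat_lit 514)])))
(Tr.lf (Fc.ed (nat_lit 516) (nat_lit 134) Col.h (nat_lit 130) (Dv.wd (nat_lit 28) [Mv.b (nat_lit 504), Mv.f (nat_lit 210), Mv.f (nat_lit 514)]))))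
(Tr.nd (nat_lit 518) (Tr.lf (Fc.ed (nat_lit 517) (nat_lit 44) Col.b (nat_lit 135) Dv.df))
(Tr.lf (Fc.ed (nat_lit 518) (nat_lit 135) Col.h (nat_lit 131) (Dv.wd (nat_lit 29) [Mv.b (nat_lit 507), Mv.f (nat_lit 210), Mv.f (nat_lit 517)]))))))
(Tr.nd (nat_lit 523) (Tr.nd (nat_lit 521) (Tr.nd (nat_lit 520) (Tr.lf (Fc.ed (nat_lit 519) (nat_lit 44) Col.g (nat_lit 136) Dv.df))
(Tr.lf (Fc.ed (nat_lit 520) (nat_lit 136) Col.h (nat_lit 132) (Dv.wd (nat_lit 140) [Mv.b (nat_lit 509), Mv.f (nat_lit 210), Mv.f (nat_lit 519)]))))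
(Tr.nd (nat_lit 522) (Tr.lf (Fc.ed (nat_lit 521) (nat_lit 44) Col.i (nat_lit 137) Dv.df))
(Tr.lf (Fc.ed (nat_lit 522) (nat_lit 45) Col.a (nat_lit 138) Dv.df))))
(Tr.nd (nat_lit 525) (Tr.nd (nat_lit 524) (Tr.lf (Fc.ed (nat_lit 523) (nat_lit 138) Col.d (nat_lit 134) (Dv.wd (nat_lit 44) [Mv.b (nat_lit 514), Mv.f (nat_lit 214), Mv.f (nat_lit 522)])))
(Tr.lf (Fc.ed (nat_lit 524) (nat_lit 138) Col.e (nat_lit 138) (Dv.wd (nat_lit 38) [Mv.b (nat_lit 522), Mv.f (nat_lit 491), Mv.f (nat_lit 522)]))))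
(Tr.nd (nat_lit 526) (Tr.lf (Fc.ed (nat_lit 525) (nat_lit 138) Col.f (nat_lit 138) (Dv.wd (nat_lit 33) [Mv.b (nat_lit 522), Mv.f (nat_lit 217), Mv.f (nat_lit 522)])))
(Tr.lf (Fc.ed (nat_lit 526) (nat_lit 138) Col.h (nat_lit 138) (Dv.wd (nat_lit 28) [Mv.b (nat_lit 522), Mv.f (nat_lit 455), Mv.f (nat_lit 522)])))))))))
(Tr.nd (nat_lit 556) (Tr.nd (nat_lit 541) (Tr.nd (nat_lit 534) (Tr.nd (nat_lit 530) (Tr.nd (nat_lit 528) (Tr.lf (Fc.ed (nat_lit 527) (nat_lit 45) Col.b (nat_lit 139) Dv.df))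
(Tr.nd (nat_lit 529) (Tr.lf (Fc.ed (nat_lit 528) (nat_lit 139) Col.d (nat_lit 135) (Dv.wd (nat_lit 46) [Mv.b (nat_lit 517), Mv.f (nat_lit 214), Mv.f (nat_lit 527)])))
(Tr.lf (Fc.ed (nat_lit 529) (nat_lit 45) Col.g (nat_lit 140) Dv.df))))
(Tr.nd (nat_lit 532) (Tr.nd (nat_lit 531) (Tr.lf (Fc.ed (nat_lit 530) (nat_lit 140) Col.d (nat_lit 136) (Dv.wd (nat_lit 97) [Mv.b (nat_lit 519), Mv.f (nat_lit 214), Mv.f (nat_lit 529)])))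
(Tr.lf (Fc.ed (nat_lit 531) (nat_lit 45) Col.i (nat_lit 141) Dv.df)))
(Tr.nd (nat_lit 533) (Tr.lf (Fc.ed (nat_lit 532) (nat_lit 141) Col.d (nat_lit 137) (Dv.wd (nat_lit 142) [Mv.b (nat_lit 521), Mv.f (nat_lit 214), Mv.f (nat_lit 531)])))
(Tr.lf (Fc.ed (nat_lit 533) (nat_lit 46) Col.a (nat_lit 142) Dv.df)))))
(Tr.nd (nat_lit 537) (Tr.nd (nat_lit 535) (Tr.lf (Fc.ed (nat_lit 534) (nat_lit 142) Col.c (nat_lit 138) (Dv.wd (nat_lit 52) [Mv.b (nat_lit 522), Mv.f (nat_lit 218), Mv.f (nat_lit 533)])))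
(Tr.nd (nat_lit 536) (Tr.lf (Fc.ed (nat_lit 535) (nat_lit 46) Col.g (nat_lit 143) Dv.df))
(Tr.lf (Fc.ed (nat_lit 536) (nat_lit 143) Col.c (nat_lit 140) (Dv.wd (nat_lit 96) [Mv.b (nat_lit 529), Mv.f (nat_lit 218), Mv.f (nat_lit 535)])))))
(Tr.nd (nat_lit 539) (Tr.nd (nat_lit 538) (Tr.lf (Fc.ed (nat_lit 537) (nat_lit 46) Col.i (nat_lit 144) Dv.df))
(Tr.lf (Fc.ed (nat_lit 538) (nat_lit 144) Col.b (nat_lit 48) (Dv.wd (nat_lit 144) [Mv.b (nat_lit 226), Mv.b (nat_lit 222), Mv.f (nat_lit 537)]))))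
(Tr.nd (nat_lit 540) (Tr.lf (Fc.ed (nat_lit 539) (nat_lit 144) Col.c (nat_lit 141) (Dv.wd (nat_lit 145) [Mv.b (nat_lit 531), Mv.f (nat_lit 218), Mv.f (nat_lit 537)])))
(Tr.lf (Fc.ed (nat_lit 540) (nat_lit 47) Col.a (nat_lit 145) Dv.df))))))
(Tr.nd (nat_lit 548) (Tr.nd (nat_lit 544) (Tr.nd (nat_lit 542) (Tr.lf (Fc.ed (nat_lit 541) (nat_lit 47) Col.c (nat_lit 146) Dv.df))
(Tr.nd (nat_lit 543) (Tr.lf (Fc.ed (nat_lit 542) (nat_lit 47) Col.g (nat_lit 147) Dv.df))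
(Tr.lf (Fc.ed (nat_lit 543) (nat_lit 147) Col.b (nat_lit 143) (Dv.wd (nat_lit 146) [Mv.b (nat_lit 535), Mv.f (nat_lit 222), Mv.f (nat_lit 542)])))))
(Tr.nd (nat_lit 546) (Tr.nd (nat_lit 545) (Tr.lf (Fc.ed (nat_lit 544) (nat_lit 48) Col.a (nat_lit 148) Dv.df))
(Tr.lf (Fc.ed (nat_lit 545) (nat_lit 148) Col.i (nat_lit 145) (Dv.wd (nat_lit 147) [Mv.b (nat_lit 540), Mv.f (nat_lit 226), Mv.f (nat_lit 544)]))))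
(Tr.nd (nat_lit 547) (Tr.lf (Fc.ed (nat_lit 546) (nat_lit 48) Col.c (nat_lit 149) Dv.df))
(Tr.lf (Fc.ed (nat_lit 547) (nat_lit 149) Col.i (nat_lit 146) (Dv.wd (nat_lit 137) [Mv.b (nat_lit 541), Mv.f (nat_lit 226), Mv.f (nat_lit 546)]))))))
(Tr.nd (nat_lit 552) (Tr.nd (nat_lit 550) (Tr.nd (nat_lit 549) (Tr.lf (Fc.ed (nat_lit 548) (nat_lit 48) Col.g (nat_lit 150) Dv.df))
(Tr.lf (Fc.ed (nat_lit 549) (nat_lit 150) Col.i (nat_lit 147) (Dv.wd (nat_lit 148) [Mv.b (nat_lit 542), Mv.f (nat_lit 226), Mv.f (nat_lit 548)]))))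
(Tr.nd (nat_lit 551) (Tr.lf (Fc.ed (nat_lit 550) (nat_lit 49) Col.a (nat_lit 151) Dv.df))
(Tr.lf (Fc.ed (nat_lit 551) (nat_lit 151) Col.h (nat_lit 148) (Dv.wd (nat_lit 28) [Mv.b (nat_lit 544), Mv.f (nat_lit 230), Mv.f (nat_lit 550)])))))
(Tr.nd (nat_lit 554) (Tr.nd (nat_lit 553) (Tr.lf (Fc.ed (nat_lit 552) (nat_lit 49) Col.b (nat_lit 152) Dv.df))
(Tr.lf (Fc.ed (nat_lit 553) (nat_lit 152) Col.h (nat_lit 144) (Dv.wd (nat_lit 29) [Mv.f (nat_lit 538), Mv.f (nat_lit 230), Mv.f (nat_lit 552)]))))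
(Tr.nd (nat_lit 555) (Tr.lf (Fc.ed (nat_lit 554) (nat_lit 49) Col.c (nat_lit 153) Dv.df))
(Tr.lf (Fc.ed (nat_lit 555) (nat_lit 153) Col.h (nat_lit 149) (Dv.wd (nat_lit 30) [Mv.b (nat_lit 546), Mv.f (nat_lit 230), Mv.f (nat_lit 554)]))))))))
(Tr.nd (nat_lit 571) (Tr.nd (nat_lit 563) (Tr.nd (nat_lit 559) (Tr.nd (nat_lit 557) (Tr.lf (Fc.ed (nat_lit 556) (nat_lit 49) Col.g (nat_lit 154) Dv.df))
(Tr.nd (nat_lit 558) (Tr.lf (Fc.ed (nat_lit 557) (nat_lit 154) Col.h (nat_lit 150) (Dv.wd (nat_lit 140) [Mv.b (nat_lit 548), Mv.f (nat_lit 230), Mv.f (nat_lit 556)])))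
(Tr.lf (Fc.ed (nat_lit 558) (nat_lit 50) Col.a (nat_lit 155) Dv.df))))
(Tr.nd (nat_lit 561) (Tr.nd (nat_lit 560) (Tr.lf (Fc.ed (nat_lit 559) (nat_lit 155) Col.d (nat_lit 151) (Dv.wd (nat_lit 44) [Mv.b (nat_lit 550), Mv.f (nat_lit 234), Mv.f (nat_lit 558)])))
(Tr.lf (Fc.ed (nat_lit 560) (nat_lit 50) Col.b (nat_lit 156) Dv.df)))
(Tr.nd (nat_lit 562) (Tr.lf (Fc.ed (nat_lit 561) (nat_lit 156) Col.d (nat_lit 152) (Dv.wd (nat_lit 46) [Mv.b (nat_lit 552), Mv.f (nat_lit 234), Mv.f (nat_lit 560)])))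
(Tr.lf (Fc.ed (nat_lit 562) (nat_lit 156) Col.f (nat_lit 156) (Dv.wd (nat_lit 35) [Mv.b (nat_lit 560), Mv.f (nat_lit 237), Mv.f (nat_lit 560)]))))))
(Tr.nd (nat_lit 567) (Tr.nd (nat_lit 565) (Tr.nd (nat_lit 564) (Tr.lf (Fc.ed (nat_lit 563) (nat_lit 50) Col.c (nat_lit 157) Dv.df))
(Tr.lf (Fc.ed (nat_lit 564) (nat_lit 157) Col.e (nat_lit 52) (Dv.wd (nat_lit 41) [Mv.b (nat_lit 241), Mv.b (nat_lit 238), Mv.f (nat_lit 563)]))))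
(Tr.nd (nat_lit 566) (Tr.lf (Fc.ed (nat_lit 565) (nat_lit 157) Col.f (nat_lit 157) (Dv.wd (nat_lit 36) [Mv.b (nat_lit 563), Mv.f (nat_lit 237), Mv.f (nat_lit 563)])))
(Tr.lf (Fc.ed (nat_lit 566) (nat_lit 50) Col.g (nat_lit 158) Dv.df))))
(Tr.nd (nat_lit 569) (Tr.nd (nat_lit 568) (Tr.lf (Fc.ed (nat_lit 567) (nat_lit 158) Col.d (nat_lit 154) (Dv.wd (nat_lit 97) [Mv.b (nat_lit 556), Mv.f (nat_lit 234), Mv.f (nat_lit 566)])))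
(Tr.lf (Fc.ed (nat_lit 568) (nat_lit 51) Col.a (nat_lit 159) Dv.df)))
(Tr.nd (nat_lit 570) (Tr.lf (Fc.ed (nat_lit 569) (nat_lit 159) Col.e (nat_lit 155) (Dv.wd (nat_lit 38) [Mv.b (nat_lit 558), Mv.f (nat_lit 238), Mv.f (nat_lit 568)])))
(Tr.lf (Fc.ed (nat_lit 570) (nat_lit 51) Col.b (nat_lit 160) Dv.df))))))
(Tr.nd (nat_lit 578) (Tr.nd (nat_lit 574) (Tr.nd (nat_lit 572) (Tr.lf (Fc.ed (nat_lit 571) (nat_lit 160) Col.l (nat_lit 160) (Dv.wd (nat_lit 73) [Mv.b (nat_lit 570), Mv.f (nat_lit 239), Mv.f (nat_lit 570)])))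
(Tr.nd (nat_lit 573) (Tr.lf (Fc.ed (nat_lit 572) (nat_lit 160) Col.d (nat_lit 160) (Dv.wd (nat_lit 46) [Mv.b (nat_lit 570), Mv.f (nat_lit 496), Mv.f (nat_lit 570)])))
(Tr.lf (Fc.ed (nat_lit 573) (nat_lit 160) Col.e (nat_lit 156) (Dv.wd (nat_lit 40) [Mv.b (nat_lit 560), Mv.f (nat_lit 238), Mv.f (nat_lit 570)])))))
(Tr.nd (nat_lit 576) (Tr.nd (nat_lit 575) (Tr.lf (Fc.ed (nat_lit 574) (nat_lit 160) Col.h (nat_lit 160) (Dv.wd (nat_lit 29) [Mv.b (nat_lit 570), Mv.f (nat_lit 427), Mv.f (nat_lit 570)])))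
(Tr.lf (Fc.ed (nat_lit 575) (nat_lit 160) Col.i (nat_lit 160) (Dv.wd (nat_lit 149) [Mv.b (nat_lit 570), Mv.f (nat_lit 460), Mv.f (nat_lit 570)]))))
(Tr.nd (nat_lit 577) (Tr.lf (Fc.ed (nat_lit 576) (nat_lit 51) Col.g (nat_lit 161) Dv.df))
(Tr.lf (Fc.ed (nat_lit 577) (nat_lit 161) Col.e (nat_lit 158) (Dv.wd (nat_lit 98) [Mv.b (nat_lit 566), Mv.f (nat_lit 238), Mv.f (nat_lit 576)]))))))
(Tr.nd (nat_lit 582) (Tr.nd (nat_lit 580) (Tr.nd (nat_lit 579) (Tr.lf (Fc.ed (nat_lit 578) (nat_lit 52) Col.a (nat_lit 162) Dv.df))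
(Tr.lf (Fc.ed (nat_lit 579) (nat_lit 162) Col.c (nat_lit 159) (Dv.wd (nat_lit 52) [Mv.b (nat_lit 568), Mv.f (nat_lit 241), Mv.f (nat_lit 578)]))))
(Tr.nd (nat_lit 581) (Tr.lf (Fc.ed (nat_lit 580) (nat_lit 52) Col.b (nat_lit 163) Dv.df))
(Tr.lf (Fc.ed (nat_lit 581) (nat_lit 163) Col.h (nat_lit 163) (Dv.wd (nat_lit 29) [Mv.b (nat_lit 580), Mv.f (nat_lit 428), Mv.f (nat_lit 580)])))))
(Tr.nd (nat_lit 584) (Tr.nd (nat_lit 583) (Tr.lf (Fc.ed (nat_lit 582) (nat_lit 52) Col.g (nat_lit 164) Dv.df))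
(Tr.lf (Fc.ed (nat_lit 583) (nat_lit 164) Col.c (nat_lit 161) (Dv.wd (nat_lit 96) [Mv.b (nat_lit 576), Mv.f (nat_lit 241), Mv.f (nat_lit 582)]))))
(Tr.nd (nat_lit 585) (Tr.lf (Fc.ed (nat_lit 584) (nat_lit 53) Col.a (nat_lit 165) Dv.df))
(Tr.lf (Fc.ed (nat_lit 585) (nat_lit 165) Col.d (nat_lit 162) (Dv.wd (nat_lit 44) [Mv.b (nat_lit 578), Mv.f (nat_lit 244), Mv.f (nat_lit 584)]))))))))))
(Tr.nd (nat_lit 645) (Tr.nd (nat_lit 615) (Tr.nd (nat_lit 600) (Tr.nd (nat_lit 593) (Tr.nd (nat_lit 589) (Tr.nd (nat_lit 587) (Tr.lf (Fc.ed (nat_lit 586) (nat_lit 53) Col.b (nat_lit 166) Dv.df))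
(Tr.nd (nat_lit 588) (Tr.lf (Fc.ed (nat_lit 587) (nat_lit 166) Col.l (nat_lit 166) (Dv.wd (nat_lit 73) [Mv.b (nat_lit 586), Mv.f (nat_lit 245), Mv.f (nat_lit 586)])))
(Tr.lf (Fc.ed (nat_lit 588) (nat_lit 166) Col.k (nat_lit 166) (Dv.wd (nat_lit 74) [Mv.b (nat_lit 586), Mv.f (nat_lit 246), Mv.f (nat_lit 586)])))))
(Tr.nd (nat_lit 591) (Tr.nd (nat_lit 590) (Tr.lf (Fc.ed (nat_lit 589) (nat_lit 166) Col.d (nat_lit 163) (Dv.wd (nat_lit 46) [Mv.b (nat_lit 580), Mv.f (nat_lit 244), Mv.f (nat_lit 586)])))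
(Tr.lf (Fc.ed (nat_lit 590) (nat_lit 53) Col.e (nat_lit 167) Dv.df)))
(Tr.nd (nat_lit 592) (Tr.lf (Fc.ed (nat_lit 591) (nat_lit 53) Col.f (nat_lit 168) Dv.df))
(Tr.lf (Fc.ed (nat_lit 592) (nat_lit 53) Col.g (nat_lit 169) Dv.df)))))
(Tr.nd (nat_lit 596) (Tr.nd (nat_lit 594) (Tr.lf (Fc.ed (nat_lit 593) (nat_lit 169) Col.d (nat_lit 164) (Dv.wd (nat_lit 97) [Mv.b (nat_lit 582), Mv.f (nat_lit 244), Mv.f (nat_lit 592)])))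
(Tr.nd (nat_lit 595) (Tr.lf (Fc.ed (nat_lit 594) (nat_lit 54) Col.a (nat_lit 170) Dv.df))
(Tr.lf (Fc.ed (nat_lit 595) (nat_lit 170) Col.h (nat_lit 165) (Dv.wd (nat_lit 28) [Mv.b (nat_lit 584), Mv.f (nat_lit 247), Mv.f (nat_lit 594)])))))
(Tr.nd (nat_lit 598) (Tr.nd (nat_lit 597) (Tr.lf (Fc.ed (nat_lit 596) (nat_lit 54) Col.b (nat_lit 171) Dv.df))
(Tr.lf (Fc.ed (nat_lit 597) (nat_lit 171) Col.d (nat_lit 171) (Dv.wd (nat_lit 46) [Mv.b (nat_lit 596), Mv.f (nat_lit 429), Mv.f (nat_lit 596)]))))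
(Tr.nd (nat_lit 599) (Tr.lf (Fc.ed (nat_lit 598) (nat_lit 171) Col.h (nat_lit 166) (Dv.wd (nat_lit 29) [Mv.b (nat_lit 586), Mv.f (nat_lit 247), Mv.f (nat_lit 596)])))
(Tr.lf (Fc.ed (nat_lit 599) (nat_lit 54) Col.e (nat_lit 172) Dv.df))))))
(Tr.nd (nat_lit 607) (Tr.nd (nat_lit 603) (Tr.nd (nat_lit 601) (Tr.lf (Fc.ed (nat_lit 600) (nat_lit 172) Col.h (nat_lit 167) (Dv.wd (nat_lit 107) [Mv.b (nat_lit 590), Mv.f (nat_lit 247), Mv.f (nat_lit 599)])))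
(Tr.nd (nat_lit 602) (Tr.lf (Fc.ed (nat_lit 601) (nat_lit 54) Col.f (nat_lit 173) Dv.df))
(Tr.lf (Fc.ed (nat_lit 602) (nat_lit 173) Col.h (nat_lit 168) (Dv.wd (nat_lit 115) [Mv.b (nat_lit 591), Mv.f (nat_lit 247), Mv.f (nat_lit 601)])))))
(Tr.nd (nat_lit 605) (Tr.nd (nat_lit 604) (Tr.lf (Fc.ed (nat_lit 603) (nat_lit 173) Col.i (nat_lit 56) (Dv.wd (nat_lit 150) [Mv.b (nat_lit 253), Mv.b (nat_lit 250), Mv.f (nat_lit 601)])))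
(Tr.lf (Fc.ed (nat_lit 604) (nat_lit 54) Col.g (nat_lit 174) Dv.df)))
(Tr.nd (nat_lit 606) (Tr.lf (Fc.ed (nat_lit 605) (nat_lit 174) Col.h (nat_lit 169) (Dv.wd (nat_lit 140) [Mv.b (nat_lit 592), Mv.f (nat_lit 247), Mv.f (nat_lit 604)])))
(Tr.lf (Fc.ed (nat_lit 606) (nat_lit 55) Col.a (nat_lit 175) Dv.df)))))
(Tr.nd (nat_lit 611) (Tr.nd (nat_lit 609) (Tr.nd (nat_lit 608) (Tr.lf (Fc.ed (nat_lit 607) (nat_lit 175) Col.i (nat_lit 170) (Dv.wd (nat_lit 147) [Mv.b (nat_lit 594), Mv.f (nat_lit 250), Mv.f (nat_lit 606)])))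
(Tr.lf (Fc.ed (nat_lit 608) (nat_lit 55) Col.b (nat_lit 176) Dv.df)))
(Tr.nd (nat_lit 610) (Tr.lf (Fc.ed (nat_lit 609) (nat_lit 176) Col.i (nat_lit 171) (Dv.wd (nat_lit 149) [Mv.b (nat_lit 596), Mv.f (nat_lit 250), Mv.f (nat_lit 608)])))
(Tr.lf (Fc.ed (nat_lit 610) (nat_lit 55) Col.e (nat_lit 177) Dv.df))))
(Tr.nd (nat_lit 613) (Tr.nd (nat_lit 612) (Tr.lf (Fc.ed (nat_lit 611) (nat_lit 177) Col.i (nat_lit 172) (Dv.wd (nat_lit 136) [Mv.b (nat_lit 599), Mv.f (nat_lit 250), Mv.f (nat_lit 610)])))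
(Tr.lf (Fc.ed (nat_lit 612) (nat_lit 55) Col.g (nat_lit 178) Dv.df)))
(Tr.nd (nat_lit 614) (Tr.lf (Fc.ed (nat_lit 613) (nat_lit 178) Col.i (nat_lit 174) (Dv.wd (nat_lit 148) [Mv.b (nat_lit 604), Mv.f (nat_lit 250), Mv.f (nat_lit 612)])))
(Tr.lf (Fc.ed (nat_lit 614) (nat_lit 56) Col.a (nat_lit 179) Dv.df)))))))
(Tr.nd (nat_lit 630) (Tr.nd (nat_lit 622) (Tr.nd (nat_lit 618) (Tr.nd (nat_lit 616) (Tr.lf (Fc.ed (nat_lit 615) (nat_lit 179) Col.f (nat_lit 175) (Dv.wd (nat_lit 33) [Mv.b (nat_lit 606), Mv.f (nat_lit 253), Mv.f (nat_lit 614)])))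
(Tr.nd (nat_lit 617) (Tr.lf (Fc.ed (nat_lit 616) (nat_lit 56) Col.b (nat_lit 180) Dv.df))
(Tr.lf (Fc.ed (nat_lit 617) (nat_lit 180) Col.k (nat_lit 180) (Dv.wd (nat_lit 74) [Mv.b (nat_lit 616), Mv.f (nat_lit 255), Mv.f (nat_lit 616)])))))
(Tr.nd (nat_lit 620) (Tr.nd (nat_lit 619) (Tr.lf (Fc.ed (nat_lit 618) (nat_lit 180) Col.d (nat_lit 180) (Dv.wd (nat_lit 46) [Mv.b (nat_lit 616), Mv.f (nat_lit 431), Mv.f (nat_lit 616)])))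
(Tr.lf (Fc.ed (nat_lit 619) (nat_lit 180) Col.f (nat_lit 176) (Dv.wd (nat_lit 35) [Mv.b (nat_lit 608), Mv.f (nat_lit 253), Mv.f (nat_lit 616)]))))
(Tr.nd (nat_lit 621) (Tr.lf (Fc.ed (nat_lit 620) (nat_lit 180) Col.h (nat_lit 180) (Dv.wd (nat_lit 29) [Mv.b (nat_lit 616), Mv.f (nat_lit 464), Mv.f (nat_lit 616)])))
(Tr.lf (Fc.ed (nat_lit 621) (nat_lit 56) Col.g (nat_lit 181) Dv.df)))))
(Tr.nd (nat_lit 626) (Tr.nd (nat_lit 624) (Tr.nd (nat_lit 623) (Tr.lf (Fc.ed (nat_lit 622) (nat_lit 57) Col.a (nat_lit 182) Dv.df))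
(Tr.lf (Fc.ed (nat_lit 623) (nat_lit 182) Col.e (nat_lit 179) (Dv.wd (nat_lit 38) [Mv.b (nat_lit 614), Mv.f (nat_lit 256), Mv.f (nat_lit 622)]))))
(Tr.nd (nat_lit 625) (Tr.lf (Fc.ed (nat_lit 624) (nat_lit 57) Col.b (nat_lit 183) Dv.df))
(Tr.lf (Fc.ed (nat_lit 625) (nat_lit 183) Col.k (nat_lit 183) (Dv.wd (nat_lit 74) [Mv.b (nat_lit 624), Mv.f (nat_lit 258), Mv.f (nat_lit 624)])))))
(Tr.nd (nat_lit 628) (Tr.nd (nat_lit 627) (Tr.lf (Fc.ed (nat_lit 626) (nat_lit 183) Col.e (nat_lit 180) (Dv.wd (nat_lit 40) [Mv.b (nat_lit 616), Mv.f (nat_lit 256), Mv.f (nat_lit 624)])))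
(Tr.lf (Fc.ed (nat_lit 627) (nat_lit 183) Col.h (nat_lit 183) (Dv.wd (nat_lit 29) [Mv.b (nat_lit 624), Mv.f (nat_lit 465), Mv.f (nat_lit 624)]))))
(Tr.nd (nat_lit 629) (Tr.lf (Fc.ed (nat_lit 628) (nat_lit 57) Col.f (nat_lit 184) Dv.df))
(Tr.lf (Fc.ed (nat_lit 629) (nat_lit 57) Col.g (nat_lit 185) Dv.df))))))
(Tr.nd (nat_lit 637) (Tr.nd (nat_lit 633) (Tr.nd (nat_lit 631) (Tr.lf (Fc.ed (nat_lit 630) (nat_lit 185) Col.e (nat_lit 181) (Dv.wd (nat_lit 98) [Mv.b (nat_lit 621), Mv.f (nat_lit 256), Mv.f (nat_lit 629)])))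
(Tr.nd (nat_lit 632) (Tr.lf (Fc.ed (nat_lit 631) (nat_lit 57) Col.i (nat_lit 186) Dv.df))
(Tr.lf (Fc.ed (nat_lit 632) (nat_lit 186) Col.e (nat_lit 173) (Dv.wd (nat_lit 143) [Mv.f (nat_lit 603), Mv.f (nat_lit 256), Mv.f (nat_lit 631)])))))
(Tr.nd (nat_lit 635) (Tr.nd (nat_lit 634) (Tr.lf (Fc.ed (nat_lit 633) (nat_lit 58) Col.a (nat_lit 187) Dv.df))
(Tr.lf (Fc.ed (nat_lit 634) (nat_lit 187) Col.d (nat_lit 182) (Dv.wd (nat_lit 44) [Mv.b (nat_lit 622), Mv.f (nat_lit 259), Mv.f (nat_lit 633)]))))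
(Tr.nd (nat_lit 636) (Tr.lf (Fc.ed (nat_lit 635) (nat_lit 58) Col.b (nat_lit 188) Dv.df))
(Tr.lf (Fc.ed (nat_lit 636) (nat_lit 188) Col.d (nat_lit 183) (Dv.wd (nat_lit 46) [Mv.b (nat_lit 624), Mv.f (nat_lit 259), Mv.f (nat_lit 635)]))))))
(Tr.nd (nat_lit 641) (Tr.nd (nat_lit 639) (Tr.nd (nat_lit 638) (Tr.lf (Fc.ed (nat_lit 637) (nat_lit 188) Col.e (nat_lit 188) (Dv.wd (nat_lit 40) [Mv.b (nat_lit 635), Mv.f (nat_lit 432), Mv.f (nat_lit 635)])))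
(Tr.lf (Fc.ed (nat_lit 638) (nat_lit 58) Col.c (nat_lit 189) Dv.df)))
(Tr.nd (nat_lit 640) (Tr.lf (Fc.ed (nat_lit 639) (nat_lit 189) Col.d (nat_lit 189) (Dv.wd (nat_lit 106) [Mv.b (nat_lit 638), Mv.b (nat_lit 259), Mv.f (nat_lit 501), Mv.f (nat_lit 259), Mv.f (nat_lit 638)])))
(Tr.lf (Fc.ed (nat_lit 640) (nat_lit 58) Col.f (nat_lit 190) Dv.df))))
(Tr.nd (nat_lit 643) (Tr.nd (nat_lit 642) (Tr.lf (Fc.ed (nat_lit 641) (nat_lit 190) Col.d (nat_lit 184) (Dv.wd (nat_lit 92) [Mv.b (nat_lit 628), Mv.f (nat_lit 259), Mv.f (nat_lit 640)])))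
(Tr.lf (Fc.ed (nat_lit 642) (nat_lit 58) Col.g (nat_lit 191) Dv.df)))
(Tr.nd (nat_lit 644) (Tr.lf (Fc.ed (nat_lit 643) (nat_lit 191) Col.d (nat_lit 185) (Dv.wd (nat_lit 97) [Mv.b (nat_lit 629), Mv.f (nat_lit 259), Mv.f (nat_lit 642)])))
(Tr.lf (Fc.ed (nat_lit 644) (nat_lit 191) Col.h (nat_lit 60) (Dv.wd (nat_lit 140) [Mv.b (nat_lit 265), Mv.b (nat_lit 262), Mv.f (nat_lit 642)])))))))))
(Tr.nd (nat_lit 674) (Tr.nd (nat_lit 659) (Tr.nd (nat_lit 652) (Tr.nd (nat_lit 648) (Tr.nd (nat_lit 646) (Tr.lf (Fc.ed (nat_lit 645) (nat_lit 58) Col.i (nat_lit 192) Dv.df))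
(Tr.nd (nat_lit 647) (Tr.lf (Fc.ed (nat_lit 646) (nat_lit 192) Col.d (nat_lit 186) (Dv.wd (nat_lit 142) [Mv.b (nat_lit 631), Mv.f (nat_lit 259), Mv.f (nat_lit 645)])))
(Tr.lf (Fc.ed (nat_lit 647) (nat_lit 59) Col.a (nat_lit 193) Dv.df))))
(Tr.nd (nat_lit 650) (Tr.nd (nat_lit 649) (Tr.lf (Fc.ed (nat_lit 648) (nat_lit 193) Col.h (nat_lit 187) (Dv.wd (nat_lit 28) [Mv.b (nat_lit 633), Mv.f (nat_lit 262), Mv.f (nat_lit 647)])))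
(Tr.lf (Fc.ed (nat_lit 649) (nat_lit 59) Col.b (nat_lit 194) Dv.df)))
(Tr.nd (nat_lit 651) (Tr.lf (Fc.ed (nat_lit 650) (nat_lit 194) Col.h (nat_lit 188) (Dv.wd (nat_lit 29) [Mv.b (nat_lit 635), Mv.f (nat_lit 262), Mv.f (nat_lit 649)])))
(Tr.lf (Fc.ed (nat_lit 651) (nat_lit 59) Col.c (nat_lit 195) Dv.df)))))
(Tr.nd (nat_lit 655) (Tr.nd (nat_lit 653) (Tr.lf (Fc.ed (nat_lit 652) (nat_lit 195) Col.l (nat_lit 195) (Dv.wd (nat_lit 77) [Mv.b (nat_lit 651), Mv.f (nat_lit 263), Mv.f (nat_lit 651)])))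
(Tr.nd (nat_lit 654) (Tr.lf (Fc.ed (nat_lit 653) (nat_lit 195) Col.e (nat_lit 195) (Dv.wd (nat_lit 41) [Mv.b (nat_lit 651), Mv.f (nat_lit 433), Mv.f (nat_lit 651)])))
(Tr.lf (Fc.ed (nat_lit 654) (nat_lit 195) Col.h (nat_lit 189) (Dv.wd (nat_lit 30) [Mv.b (nat_lit 638), Mv.f (nat_lit 262), Mv.f (nat_lit 651)])))))
(Tr.nd (nat_lit 657) (Tr.nd (nat_lit 656) (Tr.lf (Fc.ed (nat_lit 655) (nat_lit 59) Col.f (nat_lit 196) Dv.df))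
(Tr.lf (Fc.ed (nat_lit 656) (nat_lit 196) Col.h (nat_lit 190) (Dv.wd (nat_lit 115) [Mv.b (nat_lit 640), Mv.f (nat_lit 262), Mv.f (nat_lit 655)]))))
(Tr.nd (nat_lit 658) (Tr.lf (Fc.ed (nat_lit 657) (nat_lit 60) Col.a (nat_lit 197) Dv.df))
(Tr.lf (Fc.ed (nat_lit 658) (nat_lit 197) Col.g (nat_lit 193) (Dv.wd (nat_lit 31) [Mv.b (nat_lit 647), Mv.f (nat_lit 265), Mv.f (nat_lit 657)])))))))
(Tr.nd (nat_lit 666) (Tr.nd (nat_lit 662) (Tr.nd (nat_lit 660) (Tr.lf (Fc.ed (nat_lit 659) (nat_lit 60) Col.b (nat_lit 198) Dv.df))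
(Tr.nd (nat_lit 661) (Tr.lf (Fc.ed (nat_lit 660) (nat_lit 198) Col.k (nat_lit 198) (Dv.wd (nat_lit 74) [Mv.b (nat_lit 659), Mv.f (nat_lit 266), Mv.f (nat_lit 659)])))
(Tr.lf (Fc.ed (nat_lit 661) (nat_lit 198) Col.d (nat_lit 198) (Dv.wd (nat_lit 46) [Mv.b (nat_lit 659), Mv.f (nat_lit 467), Mv.f (nat_lit 659)])))))
(Tr.nd (nat_lit 664) (Tr.nd (nat_lit 663) (Tr.lf (Fc.ed (nat_lit 662) (nat_lit 198) Col.e (nat_lit 198) (Dv.wd (nat_lit 40) [Mv.b (nat_lit 659), Mv.f (nat_lit 434), Mv.f (nat_lit 659)])))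
(Tr.lf (Fc.ed (nat_lit 663) (nat_lit 198) Col.g (nat_lit 194) (Dv.wd (nat_lit 75) [Mv.b (nat_lit 649), Mv.f (nat_lit 265), Mv.f (nat_lit 659)]))))
(Tr.nd (nat_lit 665) (Tr.lf (Fc.ed (nat_lit 664) (nat_lit 60) Col.c (nat_lit 199) Dv.df))
(Tr.lf (Fc.ed (nat_lit 665) (nat_lit 199) Col.g (nat_lit 195) (Dv.wd (nat_lit 79) [Mv.b (nat_lit 651), Mv.f (nat_lit 265), Mv.f (nat_lit 664)]))))))
(Tr.nd (nat_lit 670) (Tr.nd (nat_lit 668) (Tr.nd (nat_lit 667) (Tr.lf (Fc.ed (nat_lit 666) (nat_lit 61) Col.a (nat_lit 200) Dv.df))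
(Tr.lf (Fc.ed (nat_lit 667) (nat_lit 200) Col.f (nat_lit 197) (Dv.wd (nat_lit 33) [Mv.b (nat_lit 657), Mv.f (nat_lit 267), Mv.f (nat_lit 666)]))))
(Tr.nd (nat_lit 669) (Tr.lf (Fc.ed (nat_lit 668) (nat_lit 61) Col.b (nat_lit 201) Dv.df))
(Tr.lf (Fc.ed (nat_lit 669) (nat_lit 201) Col.k (nat_lit 201) (Dv.wd (nat_lit 74) [Mv.b (nat_lit 668), Mv.f (nat_lit 268), Mv.f (nat_lit 668)])))))
(Tr.nd (nat_lit 672) (Tr.nd (nat_lit 671) (Tr.lf (Fc.ed (nat_lit 670) (nat_lit 201) Col.d (nat_lit 201) (Dv.wd (nat_lit 46) [Mv.b (nat_lit 668), Mv.f (nat_lit 468), Mv.f (nat_lit 668)])))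
(Tr.lf (Fc.ed (nat_lit 671) (nat_lit 201) Col.f (nat_lit 198) (Dv.wd (nat_lit 35) [Mv.b (nat_lit 659), Mv.f (nat_lit 267), Mv.f (nat_lit 668)]))))
(Tr.nd (nat_lit 673) (Tr.lf (Fc.ed (nat_lit 672) (nat_lit 61) Col.c (nat_lit 202) Dv.df))
(Tr.lf (Fc.ed (nat_lit 673) (nat_lit 202) Col.f (nat_lit 199) (Dv.wd (nat_lit 36) [Mv.b (nat_lit 664), Mv.f (nat_lit 267), Mv.f (nat_lit 672)]))))))))
(Tr.nd (nat_lit 689) (Tr.nd (nat_lit 681) (Tr.nd (nat_lit 677) (Tr.nd (nat_lit 675) (Tr.lf (Fc.ed (nat_lit 674) (nat_lit 61) Col.h (nat_lit 203) Dv.df))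
(Tr.nd (nat_lit 676) (Tr.lf (Fc.ed (nat_lit 675) (nat_lit 203) Col.f (nat_lit 191) (Dv.wd (nat_lit 104) [Mv.f (nat_lit 644), Mv.f (nat_lit 267), Mv.f (nat_lit 674)])))
(Tr.lf (Fc.ed (nat_lit 676) (nat_lit 62) Col.a (nat_lit 204) Dv.df))))
(Tr.nd (nat_lit 679) (Tr.nd (nat_lit 678) (Tr.lf (Fc.ed (nat_lit 677) (nat_lit 204) Col.e (nat_lit 200) (Dv.wd (nat_lit 38) [Mv.b (nat_lit 666), Mv.f (nat_lit 269), Mv.f (nat_lit 676)])))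
(Tr.lf (Fc.ed (nat_lit 678) (nat_lit 62) Col.b (nat_lit 205) Dv.df)))
(Tr.nd (nat_lit 680) (Tr.lf (Fc.ed (nat_lit 679) (nat_lit 205) Col.k (nat_lit 205) (Dv.wd (nat_lit 74) [Mv.b (nat_lit 678), Mv.f (nat_lit 270), Mv.f (nat_lit 678)])))
(Tr.lf (Fc.ed (nat_lit 680) (nat_lit 205) Col.d (nat_lit 64) (Dv.wd (nat_lit 46) [Mv.b (nat_lit 272), Mv.b (nat_lit 271), Mv.f (nat_lit 678)]))))))
(Tr.nd (nat_lit 685) (Tr.nd (nat_lit 683) (Tr.nd (nat_lit 682) (Tr.lf (Fc.ed (nat_lit 681) (nat_lit 205) Col.e (nat_lit 201) (Dv.wd (nat_lit 40) [Mv.b (nat_lit 668), Mv.f (nat_lit 269), Mv.f (nat_lit 678)])))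
(Tr.lf (Fc.ed (nat_lit 682) (nat_lit 205) Col.f (nat_lit 205) (Dv.wd (nat_lit 35) [Mv.b (nat_lit 678), Mv.f (nat_lit 435), Mv.f (nat_lit 678)]))))
(Tr.nd (nat_lit 684) (Tr.lf (Fc.ed (nat_lit 683) (nat_lit 62) Col.h (nat_lit 206) Dv.df))
(Tr.lf (Fc.ed (nat_lit 684) (nat_lit 206) Col.e (nat_lit 203) (Dv.wd (nat_lit 103) [Mv.b (nat_lit 674), Mv.f (nat_lit 269), Mv.f (nat_lit 683)])))))
(Tr.nd (nat_lit 687) (Tr.nd (nat_lit 686) (Tr.lf (Fc.ed (nat_lit 685) (nat_lit 63) Col.a (nat_lit 207) Dv.df))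
(Tr.lf (Fc.ed (nat_lit 686) (nat_lit 207) Col.d (nat_lit 204) (Dv.wd (nat_lit 44) [Mv.b (nat_lit 676), Mv.f (nat_lit 271), Mv.f (nat_lit 685)]))))
(Tr.nd (nat_lit 688) (Tr.lf (Fc.ed (nat_lit 687) (nat_lit 63) Col.h (nat_lit 208) Dv.df))
(Tr.lf (Fc.ed (nat_lit 688) (nat_lit 64) Col.a (nat_lit 209) Dv.df))))))
(Tr.nd (nat_lit 696) (Tr.nd (nat_lit 692) (Tr.nd (nat_lit 690) (Tr.lf (Fc.ed (nat_lit 689) (nat_lit 209) Col.c (nat_lit 66) (Dv.wd (nat_lit 52) [Mv.b (nat_lit 274), Mv.b (nat_lit 273), Mv.f (nat_lit 688)])))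
(Tr.nd (nat_lit 691) (Tr.lf (Fc.ed (nat_lit 690) (nat_lit 64) Col.h (nat_lit 210) Dv.df))
(Tr.lf (Fc.ed (nat_lit 691) (nat_lit 210) Col.b (nat_lit 208) (Dv.wd (nat_lit 151) [Mv.b (nat_lit 687), Mv.f (nat_lit 272), Mv.f (nat_lit 690)])))))
(Tr.nd (nat_lit 694) (Tr.nd (nat_lit 693) (Tr.lf (Fc.ed (nat_lit 692) (nat_lit 65) Col.h (nat_lit 211) Dv.df))
(Tr.lf (Fc.ed (nat_lit 693) (nat_lit 211) Col.c (nat_lit 210) (Dv.wd (nat_lit 102) [Mv.b (nat_lit 690), Mv.f (nat_lit 273), Mv.f (nat_lit 692)]))))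
(Tr.nd (nat_lit 695) (Tr.lf (Fc.ed (nat_lit 694) (nat_lit 66) Col.h (nat_lit 212) Dv.df))
(Tr.lf (Fc.ed (nat_lit 695) (nat_lit 212) Col.a (nat_lit 211) (Dv.wd (nat_lit 124) [Mv.b (nat_lit 692), Mv.f (nat_lit 274), Mv.f (nat_lit 694)]))))))
(Tr.nd (nat_lit 700) (Tr.nd (nat_lit 698) (Tr.nd (nat_lit 697) (Tr.lf (Fc.ed (nat_lit 696) (nat_lit 70) Col.e (nat_lit 213) Dv.df))
(Tr.lf (Fc.ed (nat_lit 697) (nat_lit 213) Col.a (nat_lit 213) (Dv.wd (nat_lit 152) [Mv.b (nat_lit 696), Mv.f (nat_lit 285), Mv.f (nat_lit 696)]))))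
(Tr.nd (nat_lit 699) (Tr.lf (Fc.ed (nat_lit 698) (nat_lit 213) Col.b (nat_lit 213) (Dv.wd (nat_lit 153) [Mv.b (nat_lit 696), Mv.f (nat_lit 286), Mv.f (nat_lit 696)])))
(Tr.lf (Fc.ed (nat_lit 699) (nat_lit 213) Col.h (nat_lit 213) (Dv.wd (nat_lit 107) [Mv.b (nat_lit 696), Mv.f (nat_lit 288), Mv.f (nat_lit 696)])))))
(Tr.nd (nat_lit 702) (Tr.nd (nat_lit 701) (Tr.lf (Fc.ed (nat_lit 700) (nat_lit 213) Col.f (nat_lit 213) (Dv.wd (nat_lit 109) [Mv.b (nat_lit 696), Mv.b (nat_lit 284), Mv.f (nat_lit 112), Mv.f (nat_lit 284), Mv.f (nat_lit 696)])))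
(Tr.lf (Fc.ed (nat_lit 701) (nat_lit 71) Col.e (nat_lit 214) Dv.df)))
(Tr.nd (nat_lit 703) (Tr.lf (Fc.ed (nat_lit 702) (nat_lit 214) Col.a (nat_lit 214) (Dv.wd (nat_lit 152) [Mv.b (nat_lit 701), Mv.f (nat_lit 290), Mv.f (nat_lit 701)])))
(Tr.lf (Fc.ed (nat_lit 703) (nat_lit 214) Col.c (nat_lit 213) (Dv.wd (nat_lit 86) [Mv.b (nat_lit 696), Mv.b (nat_lit 291), Mv.f (nat_lit 701)])))))))))))
(Tr.nd (nat_lit 821) (Tr.nd (nat_lit 762) (Tr.nd (nat_lit 733) (Tr.nd (nat_lit 718) (Tr.nd (nat_lit 711) (Tr.nd (nat_lit 707) (Tr.nd (nat_lit 705) (Tr.lf (Fc.ed (nat_lit 704) (nat_lit 214) Col.f (nat_lit 214) (Dv.wd (nat_lit 109) [Mv.b (nat_lit 701), Mv.b (nat_lit 289), Mv.f (nat_lit 110), Mv.f (nat_lit 289), Mv.f (nat_lit 701)])))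
(Tr.nd (nat_lit 706) (Tr.lf (Fc.ed (nat_lit 705) (nat_lit 72) Col.e (nat_lit 215) Dv.df))
(Tr.lf (Fc.ed (nat_lit 706) (nat_lit 215) Col.b (nat_lit 214) (Dv.wd (nat_lit 153) [Mv.b (nat_lit 701), Mv.b (nat_lit 294), Mv.f (nat_lit 705)])))))
(Tr.nd (nat_lit 709) (Tr.nd (nat_lit 708) (Tr.lf (Fc.ed (nat_lit 707) (nat_lit 74) Col.f (nat_lit 216) Dv.df))
(Tr.lf (Fc.ed (nat_lit 708) (nat_lit 216) Col.a (nat_lit 90) (Dv.wd (nat_lit 113) [Mv.b (nat_lit 357), Mv.b (nat_lit 300), Mv.f (nat_lit 707)]))))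
(Tr.nd (nat_lit 710) (Tr.lf (Fc.ed (nat_lit 709) (nat_lit 75) Col.f (nat_lit 217) Dv.df))
(Tr.lf (Fc.ed (nat_lit 710) (nat_lit 217) Col.k (nat_lit 76) (Dv.wd (nat_lit 90) [Mv.b (nat_lit 303), Mv.f (nat_lit 302), Mv.f (nat_lit 709)]))))))
(Tr.nd (nat_lit 714) (Tr.nd (nat_lit 712) (Tr.lf (Fc.ed (nat_lit 711) (nat_lit 76) Col.e (nat_lit 218) Dv.df))
(Tr.nd (nat_lit 713) (Tr.lf (Fc.ed (nat_lit 712) (nat_lit 218) Col.a (nat_lit 215) (Dv.wd (nat_lit 152) [Mv.b (nat_lit 705), Mv.b (nat_lit 304), Mv.f (nat_lit 711)])))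
(Tr.lf (Fc.ed (nat_lit 713) (nat_lit 78) Col.f (nat_lit 219) Dv.df))))
(Tr.nd (nat_lit 716) (Tr.nd (nat_lit 715) (Tr.lf (Fc.ed (nat_lit 714) (nat_lit 219) Col.i (nat_lit 217) (Dv.wd (nat_lit 150) [Mv.b (nat_lit 709), Mv.b (nat_lit 309), Mv.f (nat_lit 713)])))
(Tr.lf (Fc.ed (nat_lit 715) (nat_lit 82) Col.e (nat_lit 220) Dv.df)))
(Tr.nd (nat_lit 717) (Tr.lf (Fc.ed (nat_lit 716) (nat_lit 220) Col.a (nat_lit 220) (Dv.wd (nat_lit 152) [Mv.b (nat_lit 715), Mv.f (nat_lit 326), Mv.f (nat_lit 715)])))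
(Tr.lf (Fc.ed (nat_lit 717) (nat_lit 220) Col.b (nat_lit 220) (Dv.wd (nat_lit 153) [Mv.b (nat_lit 715), Mv.f (nat_lit 323), Mv.f (nat_lit 715)])))))))
(Tr.nd (nat_lit 725) (Tr.nd (nat_lit 721) (Tr.nd (nat_lit 719) (Tr.lf (Fc.ed (nat_lit 718) (nat_lit 220) Col.c (nat_lit 86) (Dv.wd (nat_lit 86) [Mv.f (nat_lit 345), Mv.f (nat_lit 342), Mv.f (nat_lit 715)])))
(Tr.nd (nat_lit 720) (Tr.lf (Fc.ed (nat_lit 719) (nat_lit 220) Col.h (nat_lit 220) (Dv.wd (nat_lit 107) [Mv.b (nat_lit 715), Mv.f (nat_lit 325), Mv.f (nat_lit 715)])))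
(Tr.lf (Fc.ed (nat_lit 720) (nat_lit 85) Col.b (nat_lit 221) Dv.df))))
(Tr.nd (nat_lit 723) (Tr.nd (nat_lit 722) (Tr.lf (Fc.ed (nat_lit 721) (nat_lit 85) Col.f (nat_lit 222) Dv.df))
(Tr.lf (Fc.ed (nat_lit 722) (nat_lit 222) Col.a (nat_lit 222) (Dv.wd (nat_lit 113) [Mv.b (nat_lit 721), Mv.f (nat_lit 343), Mv.f (nat_lit 721)]))))
(Tr.nd (nat_lit 724) (Tr.lf (Fc.ed (nat_lit 723) (nat_lit 86) Col.b (nat_lit 223) Dv.df))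
(Tr.lf (Fc.ed (nat_lit 724) (nat_lit 223) Col.e (nat_lit 221) (Dv.wd (nat_lit 40) [Mv.b (nat_lit 720), Mv.b (nat_lit 345), Mv.f (nat_lit 723)]))))))
(Tr.nd (nat_lit 729) (Tr.nd (nat_lit 727) (Tr.nd (nat_lit 726) (Tr.lf (Fc.ed (nat_lit 725) (nat_lit 223) Col.c (nat_lit 223) (Dv.wd (nat_lit 154) [Mv.b (nat_lit 723), Mv.b (nat_lit 718), Mv.f (nat_lit 717), Mv.f (nat_lit 718), Mv.f (nat_lit 723)])))
(Tr.lf (Fc.ed (nat_lit 726) (nat_lit 86) Col.f (nat_lit 224) Dv.df)))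
(Tr.nd (nat_lit 728) (Tr.lf (Fc.ed (nat_lit 727) (nat_lit 87) Col.b (nat_lit 225) Dv.df))
(Tr.lf (Fc.ed (nat_lit 728) (nat_lit 225) Col.d (nat_lit 223) (Dv.wd (nat_lit 46) [Mv.b (nat_lit 723), Mv.b (nat_lit 348), Mv.f (nat_lit 727)])))))
(Tr.nd (nat_lit 731) (Tr.nd (nat_lit 730) (Tr.lf (Fc.ed (nat_lit 729) (nat_lit 225) Col.e (nat_lit 225) (Dv.wd (nat_lit 40) [Mv.b (nat_lit 727), Mv.f (nat_lit 349), Mv.f (nat_lit 727)])))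
(Tr.lf (Fc.ed (nat_lit 730) (nat_lit 87) Col.f (nat_lit 226) Dv.df)))
(Tr.nd (nat_lit 732) (Tr.lf (Fc.ed (nat_lit 731) (nat_lit 226) Col.c (nat_lit 226) (Dv.wd (nat_lit 91) [Mv.b (nat_lit 730), Mv.f (nat_lit 347), Mv.f (nat_lit 730)])))
(Tr.lf (Fc.ed (nat_lit 732) (nat_lit 226) Col.d (nat_lit 224) (Dv.wd (nat_lit 92) [Mv.b (nat_lit 726), Mv.b (nat_lit 348), Mv.f (nat_lit 730)]))))))))
(Tr.nd (nat_lit 747) (Tr.nd (nat_lit 740) (Tr.nd (nat_lit 736) (Tr.nd (nat_lit 734) (Tr.lf (Fc.ed (nat_lit 733) (nat_lit 88) Col.b (nat_lit 227) Dv.df))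
(Tr.nd (nat_lit 735) (Tr.lf (Fc.ed (nat_lit 734) (nat_lit 227) Col.h (nat_lit 225) (Dv.wd (nat_lit 29) [Mv.b (nat_lit 727), Mv.b (nat_lit 352), Mv.f (nat_lit 733)])))
(Tr.lf (Fc.ed (nat_lit 735) (nat_lit 227) Col.i (nat_lit 91) (Dv.wd (nat_lit 149) [Mv.f (nat_lit 359), Mv.f (nat_lit 355), Mv.f (nat_lit 733)])))))
(Tr.nd (nat_lit 738) (Tr.nd (nat_lit 737) (Tr.lf (Fc.ed (nat_lit 736) (nat_lit 88) Col.f (nat_lit 228) Dv.df))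
(Tr.lf (Fc.ed (nat_lit 737) (nat_lit 228) Col.a (nat_lit 228) (Dv.wd (nat_lit 113) [Mv.b (nat_lit 736), Mv.f (nat_lit 353), Mv.f (nat_lit 736)]))))
(Tr.nd (nat_lit 739) (Tr.lf (Fc.ed (nat_lit 738) (nat_lit 228) Col.h (nat_lit 226) (Dv.wd (nat_lit 115) [Mv.b (nat_lit 730), Mv.b (nat_lit 352), Mv.f (nat_lit 736)])))
(Tr.lf (Fc.ed (nat_lit 739) (nat_lit 89) Col.f (nat_lit 229) Dv.df)))))
(Tr.nd (nat_lit 743) (Tr.nd (nat_lit 741) (Tr.lf (Fc.ed (nat_lit 740) (nat_lit 229) Col.i (nat_lit 228) (Dv.wd (nat_lit 150) [Mv.b (nat_lit 736), Mv.b (nat_lit 355), Mv.f (nat_lit 739)])))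
(Tr.nd (nat_lit 742) (Tr.lf (Fc.ed (nat_lit 741) (nat_lit 90) Col.e (nat_lit 230) Dv.df))
(Tr.lf (Fc.ed (nat_lit 742) (nat_lit 91) Col.a (nat_lit 231) Dv.df))))
(Tr.nd (nat_lit 745) (Tr.nd (nat_lit 744) (Tr.lf (Fc.ed (nat_lit 743) (nat_lit 231) Col.e (nat_lit 231) (Dv.wd (nat_lit 38) [Mv.b (nat_lit 742), Mv.f (nat_lit 360), Mv.f (nat_lit 742)])))
(Tr.lf (Fc.ed (nat_lit 744) (nat_lit 231) Col.b (nat_lit 231) (Dv.wd (nat_lit 155) [Mv.b (nat_lit 742), Mv.f (nat_lit 359), Mv.f (nat_lit 356), Mv.b (nat_lit 359), Mv.f (nat_lit 742)]))))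
(Tr.nd (nat_lit 746) (Tr.lf (Fc.ed (nat_lit 745) (nat_lit 91) Col.f (nat_lit 232) Dv.df))
(Tr.lf (Fc.ed (nat_lit 746) (nat_lit 232) Col.k (nat_lit 92) (Dv.wd (nat_lit 90) [Mv.b (nat_lit 361), Mv.f (nat_lit 358), Mv.f (nat_lit 745)])))))))
(Tr.nd (nat_lit 754) (Tr.nd (nat_lit 750) (Tr.nd (nat_lit 748) (Tr.lf (Fc.ed (nat_lit 747) (nat_lit 232) Col.b (nat_lit 229) (Dv.wd (nat_lit 114) [Mv.b (nat_lit 739), Mv.b (nat_lit 359), Mv.f (nat_lit 745)])))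
(Tr.nd (nat_lit 749) (Tr.lf (Fc.ed (nat_lit 748) (nat_lit 92) Col.e (nat_lit 233) Dv.df))
(Tr.lf (Fc.ed (nat_lit 749) (nat_lit 233) Col.b (nat_lit 230) (Dv.wd (nat_lit 153) [Mv.b (nat_lit 741), Mv.b (nat_lit 362), Mv.f (nat_lit 748)])))))
(Tr.nd (nat_lit 752) (Tr.nd (nat_lit 751) (Tr.lf (Fc.ed (nat_lit 750) (nat_lit 92) Col.g (nat_lit 234) Dv.df))
(Tr.lf (Fc.ed (nat_lit 751) (nat_lit 93) Col.a (nat_lit 235) Dv.df)))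
(Tr.nd (nat_lit 753) (Tr.lf (Fc.ed (nat_lit 752) (nat_lit 235) Col.c (nat_lit 231) (Dv.wd (nat_lit 52) [Mv.b (nat_lit 742), Mv.b (nat_lit 364), Mv.f (nat_lit 751)])))
(Tr.lf (Fc.ed (nat_lit 753) (nat_lit 235) Col.d (nat_lit 101) (Dv.wd (nat_lit 44) [Mv.f (nat_lit 385), Mv.f (nat_lit 366), Mv.f (nat_lit 751)]))))))
(Tr.nd (nat_lit 758) (Tr.nd (nat_lit 756) (Tr.nd (nat_lit 755) (Tr.lf (Fc.ed (nat_lit 754) (nat_lit 112) Col.f (nat_lit 235) (Dv.wd (nat_lit 156) [Mv.f (nat_lit 753), Mv.b (nat_lit 392), Mv.b (nat_lit 437)])))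
(Tr.lf (Fc.ed (nat_lit 755) (nat_lit 231) Col.f (nat_lit 115) (Dv.wd (nat_lit 36) [Mv.f (nat_lit 443), Mv.f (nat_lit 754), Mv.f (nat_lit 752)]))))
(Tr.nd (nat_lit 757) (Tr.lf (Fc.ed (nat_lit 756) (nat_lit 115) Col.a (nat_lit 232) (Dv.wd (nat_lit 113) [Mv.b (nat_lit 745), Mv.f (nat_lit 742), Mv.f (nat_lit 755)])))
(Tr.lf (Fc.ed (nat_lit 757) (nat_lit 115) Col.b (nat_lit 115) (Dv.wd (nat_lit 114) [Mv.b (nat_lit 755), Mv.f (nat_lit 744), Mv.f (nat_lit 755)])))))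
(Tr.nd (nat_lit 760) (Tr.nd (nat_lit 759) (Tr.lf (Fc.ed (nat_lit 758) (nat_lit 119) Col.f (nat_lit 119) (Dv.wd (nat_lit 109) [Mv.f (nat_lit 470), Mv.b (nat_lit 755), Mv.f (nat_lit 743), Mv.f (nat_lit 755), Mv.b (nat_lit 470)])))
(Tr.lf (Fc.ed (nat_lit 759) (nat_lit 122) Col.f (nat_lit 122) (Dv.wd (nat_lit 37) [Mv.f (nat_lit 478), Mv.f (nat_lit 758), Mv.b (nat_lit 478)]))))
(Tr.nd (nat_lit 761) (Tr.lf (Fc.ed (nat_lit 760) (nat_lit 118) Col.g (nat_lit 118) (Dv.wd (nat_lit 157) [Mv.b (nat_lit 450), Mv.f (nat_lit 469), Mv.f (nat_lit 758), Mv.b (nat_lit 469), Mv.f (nat_lit 450)])))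
(Tr.lf (Fc.al (nat_lit 761) (nat_lit 127) (nat_lit 42) (Dv.wd (nat_lit 139) [Mv.b (nat_lit 451), Mv.f (nat_lit 760), Mv.f (nat_lit 451), Mv.f (nat_lit 486)])))))))))
(Tr.nd (nat_lit 791) (Tr.nd (nat_lit 776) (Tr.nd (nat_lit 769) (Tr.nd (nat_lit 765) (Tr.nd (nat_lit 763) (Tr.lf (Fc.al (nat_lit 762) (nat_lit 43) (nat_lit 132) (Dv.wd (nat_lit 158) [Mv.f (nat_lit 510), Mv.f (nat_lit 761), Mv.f (nat_lit 206)])))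
(Tr.nd (nat_lit 764) (Tr.lf (Fc.al (nat_lit 763) (nat_lit 44) (nat_lit 136) (Dv.wd (nat_lit 159) [Mv.f (nat_lit 520), Mv.b (nat_lit 762), Mv.f (nat_lit 210)])))
(Tr.lf (Fc.al (nat_lit 764) (nat_lit 45) (nat_lit 140) (Dv.wd (nat_lit 160) [Mv.f (nat_lit 530), Mv.b (nat_lit 763), Mv.f (nat_lit 214)])))))
(Tr.nd (nat_lit 767) (Tr.nd (nat_lit 766) (Tr.lf (Fc.al (nat_lit 765) (nat_lit 46) (nat_lit 143) (Dv.wd (nat_lit 161) [Mv.f (nat_lit 536), Mv.b (nat_lit 764), Mv.f (nat_lit 218)])))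
(Tr.lf (Fc.al (nat_lit 766) (nat_lit 47) (nat_lit 147) (Dv.wd (nat_lit 162) [Mv.f (nat_lit 543), Mv.b (nat_lit 765), Mv.f (nat_lit 222)]))))
(Tr.nd (nat_lit 768) (Tr.lf (Fc.al (nat_lit 767) (nat_lit 48) (nat_lit 150) (Dv.wd (nat_lit 163) [Mv.f (nat_lit 549), Mv.b (nat_lit 766), Mv.f (nat_lit 226)])))
(Tr.lf (Fc.al (nat_lit 768) (nat_lit 49) (nat_lit 154) (Dv.wd (nat_lit 159) [Mv.f (nat_lit 557), Mv.b (nat_lit 767), Mv.f (nat_lit 230)]))))))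
(Tr.nd (nat_lit 772) (Tr.nd (nat_lit 770) (Tr.lf (Fc.al (nat_lit 769) (nat_lit 50) (nat_lit 158) (Dv.wd (nat_lit 160) [Mv.f (nat_lit 567), Mv.b (nat_lit 768), Mv.f (nat_lit 234)])))
(Tr.nd (nat_lit 771) (Tr.lf (Fc.al (nat_lit 770) (nat_lit 51) (nat_lit 161) (Dv.wd (nat_lit 158) [Mv.f (nat_lit 577), Mv.b (nat_lit 769), Mv.f (nat_lit 238)])))
(Tr.lf (Fc.al (nat_lit 771) (nat_lit 52) (nat_lit 164) (Dv.wd (nat_lit 161) [Mv.f (nat_lit 583), Mv.b (nat_lit 770), Mv.f (nat_lit 241)])))))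
(Tr.nd (nat_lit 774) (Tr.nd (nat_lit 773) (Tr.lf (Fc.ed (nat_lit 772) (nat_lit 51) Col.g (nat_lit 51) (Dv.wd (nat_lit 164) [Mv.f (nat_lit 576), Mv.b (nat_lit 770)])))
(Tr.lf (Fc.al (nat_lit 773) (nat_lit 53) (nat_lit 169) (Dv.wd (nat_lit 160) [Mv.f (nat_lit 593), Mv.b (nat_lit 771), Mv.f (nat_lit 244)]))))
(Tr.nd (nat_lit 775) (Tr.lf (Fc.al (nat_lit 774) (nat_lit 54) (nat_lit 174) (Dv.wd (nat_lit 159) [Mv.f (nat_lit 605), Mv.b (nat_lit 773), Mv.f (nat_lit 247)])))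
(Tr.lf (Fc.al (nat_lit 775) (nat_lit 55) (nat_lit 178) (Dv.wd (nat_lit 163) [Mv.f (nat_lit 613), Mv.b (nat_lit 774), Mv.f (nat_lit 250)])))))))
(Tr.nd (nat_lit 783) (Tr.nd (nat_lit 779) (Tr.nd (nat_lit 777) (Tr.lf (Fc.ed (nat_lit 776) (nat_lit 55) Col.g (nat_lit 55) (Dv.wd (nat_lit 164) [Mv.f (nat_lit 612), Mv.b (nat_lit 775)])))
(Tr.nd (nat_lit 778) (Tr.lf (Fc.ed (nat_lit 777) (nat_lit 176) Col.g (nat_lit 176) (Dv.wd (nat_lit 75) [Mv.b (nat_lit 608), Mv.f (nat_lit 776), Mv.f (nat_lit 608)])))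
(Tr.lf (Fc.ed (nat_lit 778) (nat_lit 181) Col.f (nat_lit 181) (Dv.wd (nat_lit 165) [Mv.b (nat_lit 621), Mv.b (nat_lit 253), Mv.f (nat_lit 776), Mv.f (nat_lit 253), Mv.f (nat_lit 621)])))))
(Tr.nd (nat_lit 781) (Tr.nd (nat_lit 780) (Tr.lf (Fc.ed (nat_lit 779) (nat_lit 171) Col.g (nat_lit 171) (Dv.wd (nat_lit 166) [Mv.b (nat_lit 609), Mv.f (nat_lit 777), Mv.f (nat_lit 609)])))
(Tr.lf (Fc.ed (nat_lit 780) (nat_lit 166) Col.g (nat_lit 166) (Dv.wd (nat_lit 167) [Mv.b (nat_lit 598), Mv.f (nat_lit 779), Mv.f (nat_lit 598)]))))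
(Tr.nd (nat_lit 782) (Tr.lf (Fc.ed (nat_lit 781) (nat_lit 163) Col.g (nat_lit 163) (Dv.wd (nat_lit 82) [Mv.b (nat_lit 589), Mv.f (nat_lit 780), Mv.f (nat_lit 589)])))
(Tr.lf (Fc.ed (nat_lit 782) (nat_lit 160) Col.g (nat_lit 160) (Dv.wd (nat_lit 75) [Mv.b (nat_lit 570), Mv.f (nat_lit 772), Mv.f (nat_lit 570)]))))))
(Tr.nd (nat_lit 787) (Tr.nd (nat_lit 785) (Tr.nd (nat_lit 784) (Tr.lf (Fc.al (nat_lit 783) (nat_lit 114) (nat_lit 39) (Dv.wd (nat_lit 168) [Mv.f (nat_lit 442), Mv.f (nat_lit 757), Mv.b (nat_lit 442), Mv.f (nat_lit 441)])))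
(Tr.lf (Fc.ed (nat_lit 784) (nat_lit 39) Col.b (nat_lit 39) (Dv.wd (nat_lit 162) [Mv.f (nat_lit 441), Mv.f (nat_lit 783)]))))
(Tr.nd (nat_lit 786) (Tr.lf (Fc.al (nat_lit 785) (nat_lit 40) (nat_lit 117) (Dv.wd (nat_lit 158) [Mv.f (nat_lit 449), Mv.f (nat_lit 783), Mv.f (nat_lit 195)])))
(Tr.lf (Fc.ed (nat_lit 786) (nat_lit 40) Col.b (nat_lit 40) (Dv.wd (nat_lit 162) [Mv.f (nat_lit 448), Mv.b (nat_lit 785)])))))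
(Tr.nd (nat_lit 789) (Tr.nd (nat_lit 788) (Tr.lf (Fc.al (nat_lit 787) (nat_lit 41) (nat_lit 121) (Dv.wd (nat_lit 160) [Mv.f (nat_lit 475), Mv.b (nat_lit 785), Mv.f (nat_lit 199)])))
(Tr.lf (Fc.ed (nat_lit 788) (nat_lit 41) Col.b (nat_lit 41) (Dv.wd (nat_lit 162) [Mv.f (nat_lit 474), Mv.b (nat_lit 787)]))))
(Tr.nd (nat_lit 790) (Tr.lf (Fc.al (nat_lit 789) (nat_lit 42) (nat_lit 126) (Dv.wd (nat_lit 169) [Mv.f (nat_lit 485), Mv.b (nat_lit 787), Mv.f (nat_lit 203)])))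
(Tr.lf (Fc.al (nat_lit 790) (nat_lit 43) (nat_lit 131) (Dv.wd (nat_lit 158) [Mv.f (nat_lit 508), Mv.b (nat_lit 789), Mv.f (nat_lit 206)]))))))))
(Tr.nd (nat_lit 806) (Tr.nd (nat_lit 798) (Tr.nd (nat_lit 794) (Tr.nd (nat_lit 792) (Tr.lf (Fc.al (nat_lit 791) (nat_lit 44) (nat_lit 135) (Dv.wd (nat_lit 159) [Mv.f (nat_lit 518), Mv.b (nat_lit 790), Mv.f (nat_lit 210)])))
(Tr.nd (nat_lit 793) (Tr.lf (Fc.ed (nat_lit 792) (nat_lit 44) Col.b (nat_lit 44) (Dv.wd (nat_lit 162) [Mv.f (nat_lit 517), Mv.b (nat_lit 791)])))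
(Tr.lf (Fc.al (nat_lit 793) (nat_lit 45) (nat_lit 139) (Dv.wd (nat_lit 160) [Mv.f (nat_lit 528), Mv.b (nat_lit 791), Mv.f (nat_lit 214)])))))
(Tr.nd (nat_lit 796) (Tr.nd (nat_lit 795) (Tr.lf (Fc.ed (nat_lit 794) (nat_lit 45) Col.b (nat_lit 45) (Dv.wd (nat_lit 162) [Mv.f (nat_lit 527), Mv.b (nat_lit 793)])))
(Tr.lf (Fc.al (nat_lit 795) (nat_lit 146) (nat_lit 47) (Dv.wd (nat_lit 170) [Mv.b (nat_lit 222), Mv.b (nat_lit 218), Mv.f (nat_lit 794), Mv.f (nat_lit 218), Mv.f (nat_lit 222), Mv.f (nat_lit 541)]))))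
(Tr.nd (nat_lit 797) (Tr.lf (Fc.al (nat_lit 796) (nat_lit 48) (nat_lit 149) (Dv.wd (nat_lit 163) [Mv.f (nat_lit 547), Mv.f (nat_lit 795), Mv.f (nat_lit 226)])))
(Tr.lf (Fc.al (nat_lit 797) (nat_lit 49) (nat_lit 153) (Dv.wd (nat_lit 159) [Mv.f (nat_lit 555), Mv.b (nat_lit 796), Mv.f (nat_lit 230)]))))))
(Tr.nd (nat_lit 802) (Tr.nd (nat_lit 800) (Tr.nd (nat_lit 799) (Tr.lf (Fc.ed (nat_lit 798) (nat_lit 49) Col.c (nat_lit 49) (Dv.wd (nat_lit 161) [Mv.f (nat_lit 554), Mv.b (nat_lit 797)])))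
(Tr.lf (Fc.ed (nat_lit 799) (nat_lit 157) Col.d (nat_lit 157) (Dv.wd (nat_lit 50) [Mv.b (nat_lit 563), Mv.b (nat_lit 234), Mv.f (nat_lit 798), Mv.f (nat_lit 234), Mv.f (nat_lit 563)]))))
(Tr.nd (nat_lit 801) (Tr.lf (Fc.al (nat_lit 800) (nat_lit 167) (nat_lit 53) (Dv.wd (nat_lit 171) [Mv.b (nat_lit 244), Mv.b (nat_lit 564), Mv.f (nat_lit 799), Mv.f (nat_lit 564), Mv.f (nat_lit 244), Mv.f (nat_lit 590)])))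
(Tr.lf (Fc.al (nat_lit 801) (nat_lit 54) (nat_lit 172) (Dv.wd (nat_lit 159) [Mv.f (nat_lit 600), Mv.f (nat_lit 800), Mv.f (nat_lit 247)])))))
(Tr.nd (nat_lit 804) (Tr.nd (nat_lit 803) (Tr.lf (Fc.al (nat_lit 802) (nat_lit 55) (nat_lit 177) (Dv.wd (nat_lit 163) [Mv.f (nat_lit 611), Mv.b (nat_lit 801), Mv.f (nat_lit 250)])))
(Tr.lf (Fc.ed (nat_lit 803) (nat_lit 55) Col.e (nat_lit 55) (Dv.wd (nat_lit 158) [Mv.f (nat_lit 610), Mv.b (nat_lit 802)]))))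
(Tr.nd (nat_lit 805) (Tr.lf (Fc.ed (nat_lit 804) (nat_lit 176) Col.e (nat_lit 176) (Dv.wd (nat_lit 40) [Mv.b (nat_lit 608), Mv.f (nat_lit 803), Mv.f (nat_lit 608)])))
(Tr.lf (Fc.al (nat_lit 805) (nat_lit 184) (nat_lit 57) (Dv.wd (nat_lit 172) [Mv.b (nat_lit 256), Mv.b (nat_lit 253), Mv.f (nat_lit 803), Mv.f (nat_lit 253), Mv.f (nat_lit 256), Mv.f (nat_lit 628)])))))))
(Tr.nd (nat_lit 813) (Tr.nd (nat_lit 809) (Tr.nd (nat_lit 807) (Tr.lf (Fc.al (nat_lit 806) (nat_lit 58) (nat_lit 190) (Dv.wd (nat_lit 160) [Mv.f (nat_lit 641), Mv.f (nat_lit 805), Mv.f (nat_lit 259)])))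
(Tr.nd (nat_lit 808) (Tr.lf (Fc.al (nat_lit 807) (nat_lit 59) (nat_lit 196) (Dv.wd (nat_lit 159) [Mv.f (nat_lit 656), Mv.b (nat_lit 806), Mv.f (nat_lit 262)])))
(Tr.lf (Fc.ed (nat_lit 808) (nat_lit 59) Col.f (nat_lit 59) (Dv.wd (nat_lit 169) [Mv.f (nat_lit 655), Mv.b (nat_lit 807)])))))
(Tr.nd (nat_lit 811) (Tr.nd (nat_lit 810) (Tr.lf (Fc.ed (nat_lit 809) (nat_lit 194) Col.f (nat_lit 194) (Dv.wd (nat_lit 35) [Mv.b (nat_lit 649), Mv.f (nat_lit 808), Mv.f (nat_lit 649)])))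
(Tr.lf (Fc.ed (nat_lit 810) (nat_lit 195) Col.f (nat_lit 195) (Dv.wd (nat_lit 36) [Mv.b (nat_lit 651), Mv.f (nat_lit 808), Mv.f (nat_lit 651)]))))
(Tr.nd (nat_lit 812) (Tr.lf (Fc.ed (nat_lit 811) (nat_lit 188) Col.f (nat_lit 188) (Dv.wd (nat_lit 173) [Mv.b (nat_lit 650), Mv.f (nat_lit 809), Mv.f (nat_lit 650)])))
(Tr.lf (Fc.ed (nat_lit 812) (nat_lit 183) Col.f (nat_lit 183) (Dv.wd (nat_lit 37) [Mv.b (nat_lit 636), Mv.f (nat_lit 811), Mv.f (nat_lit 636)]))))))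
(Tr.nd (nat_lit 817) (Tr.nd (nat_lit 815) (Tr.nd (nat_lit 814) (Tr.lf (Fc.ed (nat_lit 813) (nat_lit 171) Col.e (nat_lit 171) (Dv.wd (nat_lit 63) [Mv.b (nat_lit 609), Mv.f (nat_lit 804), Mv.f (nat_lit 609)])))
(Tr.lf (Fc.ed (nat_lit 814) (nat_lit 166) Col.e (nat_lit 166) (Dv.wd (nat_lit 62) [Mv.b (nat_lit 598), Mv.f (nat_lit 813), Mv.f (nat_lit 598)]))))
(Tr.nd (nat_lit 816) (Tr.lf (Fc.ed (nat_lit 815) (nat_lit 110) Col.c (nat_lit 110) (Dv.wd (nat_lit 58) [Mv.b (nat_lit 411), Mv.f (nat_lit 189), Mv.f (nat_lit 784), Mv.b (nat_lit 189), Mv.f (nat_lit 411)])))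
(Tr.lf (Fc.ed (nat_lit 816) (nat_lit 232) Col.g (nat_lit 113) (Dv.wd (nat_lit 31) [Mv.b (nat_lit 438), Mv.f (nat_lit 442), Mv.f (nat_lit 756)])))))
(Tr.nd (nat_lit 819) (Tr.nd (nat_lit 818) (Tr.lf (Fc.ed (nat_lit 817) (nat_lit 113) Col.k (nat_lit 234) (Dv.wd (nat_lit 95) [Mv.b (nat_lit 750), Mv.b (nat_lit 746), Mv.f (nat_lit 816)])))
(Tr.lf (Fc.ed (nat_lit 818) (nat_lit 93) Col.f (nat_lit 236) Dv.df)))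
(Tr.nd (nat_lit 820) (Tr.lf (Fc.ed (nat_lit 819) (nat_lit 236) Col.c (nat_lit 232) (Dv.wd (nat_lit 91) [Mv.b (nat_lit 745), Mv.b (nat_lit 364), Mv.f (nat_lit 818)])))
(Tr.lf (Fc.ed (nat_lit 820) (nat_lit 93) Col.i (nat_lit 237) Dv.df)))))))))
(Tr.nd (nat_lit 880) (Tr.nd (nat_lit 850) (Tr.nd (nat_lit 835) (Tr.nd (nat_lit 828) (Tr.nd (nat_lit 824) (Tr.nd (nat_lit 822) (Tr.lf (Fc.ed (nat_lit 821) (nat_lit 237) Col.c (nat_lit 227) (Dv.wd (nat_lit 145) [Mv.f (nat_lit 735), Mv.b (nat_lit 364), Mv.f (nat_lit 820)])))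
(Tr.nd (nat_lit 823) (Tr.lf (Fc.ed (nat_lit 822) (nat_lit 94) Col.e (nat_lit 238) Dv.df))
(Tr.lf (Fc.ed (nat_lit 823) (nat_lit 238) Col.h (nat_lit 96) (Dv.wd (nat_lit 107) [Mv.f (nat_lit 371), Mv.f (nat_lit 369), Mv.f (nat_lit 822)])))))
(Tr.nd (nat_lit 826) (Tr.nd (nat_lit 825) (Tr.lf (Fc.ed (nat_lit 824) (nat_lit 238) Col.f (nat_lit 238) (Dv.wd (nat_lit 173) [Mv.f (nat_lit 823), Mv.f (nat_lit 372), Mv.b (nat_lit 823)])))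
(Tr.lf (Fc.ed (nat_lit 825) (nat_lit 94) Col.f (nat_lit 239) Dv.df)))
(Tr.nd (nat_lit 827) (Tr.lf (Fc.ed (nat_lit 826) (nat_lit 239) Col.d (nat_lit 236) (Dv.wd (nat_lit 92) [Mv.b (nat_lit 818), Mv.b (nat_lit 366), Mv.f (nat_lit 825)])))
(Tr.lf (Fc.ed (nat_lit 827) (nat_lit 239) Col.e (nat_lit 239) (Dv.wd (nat_lit 93) [Mv.b (nat_lit 825), Mv.f (nat_lit 822), Mv.f (nat_lit 824), Mv.b (nat_lit 822), Mv.f (nat_lit 825)]))))))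
(Tr.nd (nat_lit 831) (Tr.nd (nat_lit 829) (Tr.lf (Fc.ed (nat_lit 828) (nat_lit 99) Col.h (nat_lit 240) Dv.df))
(Tr.nd (nat_lit 830) (Tr.lf (Fc.ed (nat_lit 829) (nat_lit 100) Col.h (nat_lit 241) Dv.df))
(Tr.lf (Fc.ed (nat_lit 830) (nat_lit 241) Col.e (nat_lit 240) (Dv.wd (nat_lit 103) [Mv.b (nat_lit 828), Mv.b (nat_lit 383), Mv.f (nat_lit 829)])))))
(Tr.nd (nat_lit 833) (Tr.nd (nat_lit 832) (Tr.lf (Fc.ed (nat_lit 831) (nat_lit 103) Col.h (nat_lit 242) Dv.df))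
(Tr.lf (Fc.ed (nat_lit 832) (nat_lit 242) Col.f (nat_lit 241) (Dv.wd (nat_lit 104) [Mv.b (nat_lit 829), Mv.b (nat_lit 390), Mv.f (nat_lit 831)]))))
(Tr.nd (nat_lit 834) (Tr.lf (Fc.ed (nat_lit 833) (nat_lit 242) Col.g (nat_lit 108) (Dv.wd (nat_lit 126) [Mv.f (nat_lit 405), Mv.f (nat_lit 398), Mv.f (nat_lit 831)])))
(Tr.lf (Fc.ed (nat_lit 834) (nat_lit 109) Col.e (nat_lit 243) Dv.df))))))
(Tr.nd (nat_lit 842) (Tr.nd (nat_lit 838) (Tr.nd (nat_lit 836) (Tr.lf (Fc.ed (nat_lit 835) (nat_lit 243) Col.a (nat_lit 111) (Dv.wd (nat_lit 152) [Mv.b (nat_lit 416), Mv.f (nat_lit 406), Mv.f (nat_lit 834)])))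
(Tr.nd (nat_lit 837) (Tr.lf (Fc.ed (nat_lit 836) (nat_lit 243) Col.b (nat_lit 243) (Dv.wd (nat_lit 153) [Mv.b (nat_lit 834), Mv.f (nat_lit 410), Mv.f (nat_lit 834)])))
(Tr.lf (Fc.ed (nat_lit 837) (nat_lit 243) Col.c (nat_lit 116) (Dv.wd (nat_lit 86) [Mv.f (nat_lit 446), Mv.f (nat_lit 439), Mv.f (nat_lit 834)])))))
(Tr.nd (nat_lit 840) (Tr.nd (nat_lit 839) (Tr.lf (Fc.ed (nat_lit 838) (nat_lit 243) Col.h (nat_lit 243) (Dv.wd (nat_lit 107) [Mv.b (nat_lit 834), Mv.f (nat_lit 409), Mv.f (nat_lit 834)])))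
(Tr.lf (Fc.ed (nat_lit 839) (nat_lit 243) Col.d (nat_lit 243) (Dv.wd (nat_lit 88) [Mv.b (nat_lit 834), Mv.f (nat_lit 407), Mv.f (nat_lit 400), Mv.b (nat_lit 407), Mv.f (nat_lit 834)]))))
(Tr.nd (nat_lit 841) (Tr.lf (Fc.ed (nat_lit 840) (nat_lit 110) Col.e (nat_lit 244) Dv.df))
(Tr.lf (Fc.ed (nat_lit 841) (nat_lit 244) Col.b (nat_lit 111) (Dv.wd (nat_lit 153) [Mv.b (nat_lit 416), Mv.f (nat_lit 411), Mv.f (nat_lit 840)]))))))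
(Tr.nd (nat_lit 846) (Tr.nd (nat_lit 844) (Tr.nd (nat_lit 843) (Tr.lf (Fc.ed (nat_lit 842) (nat_lit 244) Col.c (nat_lit 244) (Dv.wd (nat_lit 86) [Mv.b (nat_lit 840), Mv.f (nat_lit 815), Mv.f (nat_lit 840)])))
(Tr.lf (Fc.ed (nat_lit 843) (nat_lit 244) Col.d (nat_lit 244) (Dv.wd (nat_lit 88) [Mv.b (nat_lit 840), Mv.f (nat_lit 412), Mv.f (nat_lit 404), Mv.b (nat_lit 412), Mv.f (nat_lit 840)]))))
(Tr.nd (nat_lit 845) (Tr.lf (Fc.ed (nat_lit 844) (nat_lit 110) Col.g (nat_lit 245) Dv.df))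
(Tr.lf (Fc.ed (nat_lit 845) (nat_lit 245) Col.a (nat_lit 245) (Dv.wd (nat_lit 174) [Mv.b (nat_lit 844), Mv.f (nat_lit 415), Mv.f (nat_lit 844)])))))
(Tr.nd (nat_lit 848) (Tr.nd (nat_lit 847) (Tr.lf (Fc.ed (nat_lit 846) (nat_lit 245) Col.b (nat_lit 112) (Dv.wd (nat_lit 146) [Mv.b (nat_lit 436), Mv.f (nat_lit 411), Mv.f (nat_lit 844)])))
(Tr.lf (Fc.ed (nat_lit 847) (nat_lit 245) Col.d (nat_lit 242) (Dv.wd (nat_lit 97) [Mv.f (nat_lit 833), Mv.b (nat_lit 412), Mv.f (nat_lit 844)]))))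
(Tr.nd (nat_lit 849) (Tr.lf (Fc.ed (nat_lit 848) (nat_lit 111) Col.g (nat_lit 246) Dv.df))
(Tr.lf (Fc.ed (nat_lit 849) (nat_lit 246) Col.c (nat_lit 119) (Dv.wd (nat_lit 96) [Mv.b (nat_lit 469), Mv.b (nat_lit 417), Mv.f (nat_lit 848)]))))))))
(Tr.nd (nat_lit 865) (Tr.nd (nat_lit 857) (Tr.nd (nat_lit 853) (Tr.nd (nat_lit 851) (Tr.lf (Fc.ed (nat_lit 850) (nat_lit 112) Col.i (nat_lit 247) Dv.df))
(Tr.nd (nat_lit 852) (Tr.lf (Fc.ed (nat_lit 851) (nat_lit 113) Col.b (nat_lit 248) Dv.df))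
(Tr.lf (Fc.ed (nat_lit 852) (nat_lit 248) Col.d (nat_lit 248) (Dv.wd (nat_lit 46) [Mv.b (nat_lit 851), Mv.f (nat_lit 440), Mv.f (nat_lit 851)])))))
(Tr.nd (nat_lit 855) (Tr.nd (nat_lit 854) (Tr.lf (Fc.ed (nat_lit 853) (nat_lit 248) Col.c (nat_lit 248) (Dv.wd (nat_lit 154) [Mv.b (nat_lit 851), Mv.f (nat_lit 439), Mv.f (nat_lit 410), Mv.b (nat_lit 439), Mv.f (nat_lit 851)])))
(Tr.lf (Fc.ed (nat_lit 854) (nat_lit 113) Col.i (nat_lit 249) Dv.df)))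
(Tr.nd (nat_lit 856) (Tr.lf (Fc.ed (nat_lit 855) (nat_lit 115) Col.i (nat_lit 250) Dv.df))
(Tr.lf (Fc.ed (nat_lit 856) (nat_lit 250) Col.c (nat_lit 247) (Dv.wd (nat_lit 145) [Mv.b (nat_lit 850), Mv.b (nat_lit 443), Mv.f (nat_lit 855)]))))))
(Tr.nd (nat_lit 861) (Tr.nd (nat_lit 859) (Tr.nd (nat_lit 858) (Tr.lf (Fc.ed (nat_lit 857) (nat_lit 250) Col.d (nat_lit 250) (Dv.wd (nat_lit 142) [Mv.b (nat_lit 855), Mv.f (nat_lit 444), Mv.f (nat_lit 855)])))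
(Tr.lf (Fc.ed (nat_lit 858) (nat_lit 116) Col.k (nat_lit 251) Dv.df)))
(Tr.nd (nat_lit 860) (Tr.lf (Fc.ed (nat_lit 859) (nat_lit 251) Col.e (nat_lit 234) (Dv.wd (nat_lit 24) [Mv.b (nat_lit 817), Mv.b (nat_lit 446), Mv.f (nat_lit 858)])))
(Tr.lf (Fc.ed (nat_lit 860) (nat_lit 233) Col.g (nat_lit 251) (Dv.wd (nat_lit 175) [Mv.f (nat_lit 859), Mv.b (nat_lit 750), Mv.f (nat_lit 748)])))))
(Tr.nd (nat_lit 863) (Tr.nd (nat_lit 862) (Tr.lf (Fc.ed (nat_lit 861) (nat_lit 116) Col.b (nat_lit 252) Dv.df))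
(Tr.lf (Fc.ed (nat_lit 862) (nat_lit 252) Col.e (nat_lit 248) (Dv.wd (nat_lit 40) [Mv.b (nat_lit 851), Mv.b (nat_lit 446), Mv.f (nat_lit 861)]))))
(Tr.nd (nat_lit 864) (Tr.lf (Fc.ed (nat_lit 863) (nat_lit 252) Col.h (nat_lit 252) (Dv.wd (nat_lit 29) [Mv.b (nat_lit 861), Mv.f (nat_lit 447), Mv.f (nat_lit 861)])))
(Tr.lf (Fc.ed (nat_lit 864) (nat_lit 252) Col.a (nat_lit 252) (Dv.wd (nat_lit 128) [Mv.b (nat_lit 861), Mv.b (nat_lit 445), Mv.f (nat_lit 786), Mv.f (nat_lit 445), Mv.f (nat_lit 861)])))))))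
(Tr.nd (nat_lit 872) (Tr.nd (nat_lit 868) (Tr.nd (nat_lit 866) (Tr.lf (Fc.ed (nat_lit 865) (nat_lit 252) Col.c (nat_lit 252) (Dv.wd (nat_lit 154) [Mv.b (nat_lit 861), Mv.b (nat_lit 837), Mv.f (nat_lit 836), Mv.f (nat_lit 837), Mv.f (nat_lit 861)])))
(Tr.nd (nat_lit 867) (Tr.lf (Fc.ed (nat_lit 866) (nat_lit 116) Col.f (nat_lit 253) Dv.df))
(Tr.lf (Fc.ed (nat_lit 867) (nat_lit 253) Col.a (nat_lit 118) (Dv.wd (nat_lit 113) [Mv.b (nat_lit 450), Mv.f (nat_lit 445), Mv.f (nat_lit 866)])))))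
(Tr.nd (nat_lit 870) (Tr.nd (nat_lit 869) (Tr.lf (Fc.ed (nat_lit 868) (nat_lit 116) Col.g (nat_lit 254) Dv.df))
(Tr.lf (Fc.ed (nat_lit 869) (nat_lit 254) Col.e (nat_lit 232) (Dv.wd (nat_lit 98) [Mv.f (nat_lit 816), Mv.b (nat_lit 446), Mv.f (nat_lit 868)]))))
(Tr.nd (nat_lit 871) (Tr.lf (Fc.ed (nat_lit 870) (nat_lit 116) Col.i (nat_lit 255) Dv.df))
(Tr.lf (Fc.ed (nat_lit 871) (nat_lit 255) Col.e (nat_lit 249) (Dv.wd (nat_lit 143) [Mv.b (nat_lit 854), Mv.b (nat_lit 446), Mv.f (nat_lit 870)]))))))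
(Tr.nd (nat_lit 876) (Tr.nd (nat_lit 874) (Tr.nd (nat_lit 873) (Tr.lf (Fc.ed (nat_lit 872) (nat_lit 118) Col.i (nat_lit 256) Dv.df))
(Tr.lf (Fc.ed (nat_lit 873) (nat_lit 256) Col.d (nat_lit 129) (Dv.wd (nat_lit 142) [Mv.b (nat_lit 502), Mv.b (nat_lit 451), Mv.f (nat_lit 872)]))))
(Tr.nd (nat_lit 875) (Tr.lf (Fc.ed (nat_lit 874) (nat_lit 119) Col.i (nat_lit 257) Dv.df))
(Tr.lf (Fc.ed (nat_lit 875) (nat_lit 257) Col.e (nat_lit 250) (Dv.wd (nat_lit 143) [Mv.b (nat_lit 855), Mv.b (nat_lit 470), Mv.f (nat_lit 874)])))))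
(Tr.nd (nat_lit 878) (Tr.nd (nat_lit 877) (Tr.lf (Fc.ed (nat_lit 876) (nat_lit 257) Col.f (nat_lit 257) (Dv.wd (nat_lit 112) [Mv.b (nat_lit 874), Mv.f (nat_lit 758), Mv.f (nat_lit 874)])))
(Tr.lf (Fc.ed (nat_lit 877) (nat_lit 120) Col.k (nat_lit 258) Dv.df)))
(Tr.nd (nat_lit 879) (Tr.lf (Fc.ed (nat_lit 878) (nat_lit 258) Col.d (nat_lit 251) (Dv.wd (nat_lit 23) [Mv.b (nat_lit 858), Mv.b (nat_lit 473), Mv.f (nat_lit 877)])))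
(Tr.lf (Fc.ed (nat_lit 879) (nat_lit 120) Col.b (nat_lit 259) Dv.df))))))))
(Tr.nd (nat_lit 909) (Tr.nd (nat_lit 894) (Tr.nd (nat_lit 887) (Tr.nd (nat_lit 883) (Tr.nd (nat_lit 881) (Tr.lf (Fc.ed (nat_lit 880) (nat_lit 259) Col.d (nat_lit 252) (Dv.wd (nat_lit 46) [Mv.b (nat_lit 861), Mv.b (nat_lit 473), Mv.f (nat_lit 879)])))
(Tr.nd (nat_lit 882) (Tr.lf (Fc.ed (nat_lit 881) (nat_lit 120) Col.g (nat_lit 260) Dv.df))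
(Tr.lf (Fc.ed (nat_lit 882) (nat_lit 260) Col.a (nat_lit 122) (Dv.wd (nat_lit 174) [Mv.b (nat_lit 476), Mv.f (nat_lit 472), Mv.f (nat_lit 881)])))))
(Tr.nd (nat_lit 885) (Tr.nd (nat_lit 884) (Tr.lf (Fc.ed (nat_lit 883) (nat_lit 120) Col.h (nat_lit 261) Dv.df))
(Tr.lf (Fc.ed (nat_lit 884) (nat_lit 120) Col.i (nat_lit 262) Dv.df)))
(Tr.nd (nat_lit 886) (Tr.lf (Fc.ed (nat_lit 885) (nat_lit 262) Col.d (nat_lit 255) (Dv.wd (nat_lit 142) [Mv.b (nat_lit 870), Mv.b (nat_lit 473), Mv.f (nat_lit 884)])))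
(Tr.lf (Fc.ed (nat_lit 886) (nat_lit 122) Col.h (nat_lit 263) Dv.df)))))
(Tr.nd (nat_lit 890) (Tr.nd (nat_lit 888) (Tr.lf (Fc.ed (nat_lit 887) (nat_lit 263) Col.l (nat_lit 263) (Dv.wd (nat_lit 100) [Mv.b (nat_lit 886), Mv.f (nat_lit 477), Mv.f (nat_lit 886)])))
(Tr.nd (nat_lit 889) (Tr.lf (Fc.ed (nat_lit 888) (nat_lit 263) Col.e (nat_lit 263) (Dv.wd (nat_lit 103) [Mv.b (nat_lit 886), Mv.f (nat_lit 479), Mv.f (nat_lit 886)])))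
(Tr.lf (Fc.ed (nat_lit 889) (nat_lit 263) Col.f (nat_lit 263) (Dv.wd (nat_lit 104) [Mv.b (nat_lit 886), Mv.f (nat_lit 759), Mv.f (nat_lit 886)])))))
(Tr.nd (nat_lit 892) (Tr.nd (nat_lit 891) (Tr.lf (Fc.ed (nat_lit 890) (nat_lit 263) Col.g (nat_lit 123) (Dv.wd (nat_lit 126) [Mv.b (nat_lit 480), Mv.f (nat_lit 476), Mv.f (nat_lit 886)])))
(Tr.lf (Fc.ed (nat_lit 891) (nat_lit 263) Col.d (nat_lit 263) (Dv.wd (nat_lit 141) [Mv.b (nat_lit 886), Mv.f (nat_lit 478), Mv.f (nat_lit 471), Mv.b (nat_lit 478), Mv.f (nat_lit 886)]))))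
(Tr.nd (nat_lit 893) (Tr.lf (Fc.ed (nat_lit 892) (nat_lit 122) Col.i (nat_lit 264) Dv.df))
(Tr.lf (Fc.ed (nat_lit 893) (nat_lit 264) Col.d (nat_lit 257) (Dv.wd (nat_lit 142) [Mv.b (nat_lit 874), Mv.b (nat_lit 478), Mv.f (nat_lit 892)])))))))
(Tr.nd (nat_lit 901) (Tr.nd (nat_lit 897) (Tr.nd (nat_lit 895) (Tr.lf (Fc.ed (nat_lit 894) (nat_lit 264) Col.g (nat_lit 124) (Dv.wd (nat_lit 176) [Mv.b (nat_lit 481), Mv.f (nat_lit 476), Mv.f (nat_lit 892)])))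
(Tr.nd (nat_lit 896) (Tr.lf (Fc.ed (nat_lit 895) (nat_lit 123) Col.i (nat_lit 265) Dv.df))
(Tr.lf (Fc.ed (nat_lit 896) (nat_lit 124) Col.h (nat_lit 266) Dv.df))))
(Tr.nd (nat_lit 899) (Tr.nd (nat_lit 898) (Tr.lf (Fc.ed (nat_lit 897) (nat_lit 125) Col.b (nat_lit 267) Dv.df))
(Tr.lf (Fc.ed (nat_lit 898) (nat_lit 267) Col.f (nat_lit 259) (Dv.wd (nat_lit 35) [Mv.b (nat_lit 879), Mv.b (nat_lit 483), Mv.f (nat_lit 897)]))))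
(Tr.nd (nat_lit 900) (Tr.lf (Fc.ed (nat_lit 899) (nat_lit 125) Col.h (nat_lit 268) Dv.df))
(Tr.lf (Fc.ed (nat_lit 900) (nat_lit 268) Col.e (nat_lit 134) (Dv.wd (nat_lit 103) [Mv.f (nat_lit 516), Mv.f (nat_lit 505), Mv.f (nat_lit 899)]))))))
(Tr.nd (nat_lit 905) (Tr.nd (nat_lit 903) (Tr.nd (nat_lit 902) (Tr.lf (Fc.ed (nat_lit 901) (nat_lit 268) Col.f (nat_lit 261) (Dv.wd (nat_lit 104) [Mv.b (nat_lit 883), Mv.b (nat_lit 483), Mv.f (nat_lit 899)])))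
(Tr.lf (Fc.ed (nat_lit 902) (nat_lit 128) Col.i (nat_lit 269) Dv.df)))
(Tr.nd (nat_lit 904) (Tr.lf (Fc.ed (nat_lit 903) (nat_lit 269) Col.e (nat_lit 137) (Dv.wd (nat_lit 143) [Mv.b (nat_lit 521), Mv.b (nat_lit 488), Mv.f (nat_lit 902)])))
(Tr.lf (Fc.ed (nat_lit 904) (nat_lit 269) Col.f (nat_lit 265) (Dv.wd (nat_lit 112) [Mv.b (nat_lit 895), Mv.b (nat_lit 489), Mv.f (nat_lit 902)])))))
(Tr.nd (nat_lit 907) (Tr.nd (nat_lit 906) (Tr.lf (Fc.ed (nat_lit 905) (nat_lit 129) Col.h (nat_lit 270) Dv.df))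
(Tr.lf (Fc.ed (nat_lit 906) (nat_lit 270) Col.f (nat_lit 266) (Dv.wd (nat_lit 104) [Mv.b (nat_lit 896), Mv.b (nat_lit 503), Mv.f (nat_lit 905)]))))
(Tr.nd (nat_lit 908) (Tr.lf (Fc.ed (nat_lit 907) (nat_lit 130) Col.b (nat_lit 271) Dv.df))
(Tr.lf (Fc.ed (nat_lit 908) (nat_lit 271) Col.e (nat_lit 267) (Dv.wd (nat_lit 40) [Mv.b (nat_lit 897), Mv.b (nat_lit 505), Mv.f (nat_lit 907)]))))))))
(Tr.nd (nat_lit 924) (Tr.nd (nat_lit 916) (Tr.nd (nat_lit 912) (Tr.nd (nat_lit 910) (Tr.lf (Fc.ed (nat_lit 909) (nat_lit 271) Col.f (nat_lit 271) (Dv.wd (nat_lit 35) [Mv.b (nat_lit 907), Mv.f (nat_lit 506), Mv.f (nat_lit 907)])))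
(Tr.nd (nat_lit 911) (Tr.lf (Fc.ed (nat_lit 910) (nat_lit 130) Col.i (nat_lit 272) Dv.df))
(Tr.lf (Fc.ed (nat_lit 911) (nat_lit 272) Col.a (nat_lit 133) (Dv.wd (nat_lit 116) [Mv.b (nat_lit 511), Mv.f (nat_lit 504), Mv.f (nat_lit 910)])))))
(Tr.nd (nat_lit 914) (Tr.nd (nat_lit 913) (Tr.lf (Fc.ed (nat_lit 912) (nat_lit 133) Col.h (nat_lit 273) Dv.df))
(Tr.lf (Fc.ed (nat_lit 913) (nat_lit 273) Col.e (nat_lit 270) (Dv.wd (nat_lit 103) [Mv.b (nat_lit 905), Mv.b (nat_lit 513), Mv.f (nat_lit 912)]))))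
(Tr.nd (nat_lit 915) (Tr.lf (Fc.ed (nat_lit 914) (nat_lit 134) Col.b (nat_lit 274) Dv.df))
(Tr.lf (Fc.ed (nat_lit 915) (nat_lit 274) Col.h (nat_lit 271) (Dv.wd (nat_lit 29) [Mv.b (nat_lit 907), Mv.b (nat_lit 516), Mv.f (nat_lit 914)]))))))
(Tr.nd (nat_lit 920) (Tr.nd (nat_lit 918) (Tr.nd (nat_lit 917) (Tr.lf (Fc.ed (nat_lit 916) (nat_lit 274) Col.a (nat_lit 274) (Dv.wd (nat_lit 128) [Mv.b (nat_lit 914), Mv.b (nat_lit 514), Mv.f (nat_lit 792), Mv.f (nat_lit 514), Mv.f (nat_lit 914)])))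
(Tr.lf (Fc.ed (nat_lit 917) (nat_lit 134) Col.i (nat_lit 275) Dv.df)))
(Tr.nd (nat_lit 919) (Tr.lf (Fc.ed (nat_lit 918) (nat_lit 275) Col.a (nat_lit 137) (Dv.wd (nat_lit 116) [Mv.b (nat_lit 521), Mv.f (nat_lit 514), Mv.f (nat_lit 917)])))
(Tr.lf (Fc.ed (nat_lit 919) (nat_lit 137) Col.h (nat_lit 276) Dv.df))))
(Tr.nd (nat_lit 922) (Tr.nd (nat_lit 921) (Tr.lf (Fc.ed (nat_lit 920) (nat_lit 276) Col.i (nat_lit 273) (Dv.wd (nat_lit 177) [Mv.b (nat_lit 912), Mv.b (nat_lit 511), Mv.f (nat_lit 210), Mv.f (nat_lit 521), Mv.f (nat_lit 919)])))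
(Tr.lf (Fc.ed (nat_lit 921) (nat_lit 138) Col.i (nat_lit 277) Dv.df)))
(Tr.nd (nat_lit 923) (Tr.lf (Fc.ed (nat_lit 922) (nat_lit 277) Col.d (nat_lit 275) (Dv.wd (nat_lit 142) [Mv.b (nat_lit 917), Mv.b (nat_lit 523), Mv.f (nat_lit 921)])))
(Tr.lf (Fc.ed (nat_lit 923) (nat_lit 141) Col.h (nat_lit 278) Dv.df))))))
(Tr.nd (nat_lit 931) (Tr.nd (nat_lit 927) (Tr.nd (nat_lit 925) (Tr.lf (Fc.ed (nat_lit 924) (nat_lit 278) Col.c (nat_lit 152) (Dv.wd (nat_lit 102) [Mv.f (nat_lit 553), Mv.f (nat_lit 539), Mv.f (nat_lit 923)])))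
(Tr.nd (nat_lit 926) (Tr.lf (Fc.ed (nat_lit 925) (nat_lit 142) Col.b (nat_lit 279) Dv.df))
(Tr.lf (Fc.ed (nat_lit 926) (nat_lit 142) Col.i (nat_lit 280) Dv.df))))
(Tr.nd (nat_lit 929) (Tr.nd (nat_lit 928) (Tr.lf (Fc.ed (nat_lit 927) (nat_lit 280) Col.a (nat_lit 144) (Dv.wd (nat_lit 116) [Mv.b (nat_lit 537), Mv.f (nat_lit 533), Mv.f (nat_lit 926)])))
(Tr.lf (Fc.ed (nat_lit 928) (nat_lit 280) Col.c (nat_lit 277) (Dv.wd (nat_lit 145) [Mv.b (nat_lit 921), Mv.b (nat_lit 534), Mv.f (nat_lit 926)]))))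
(Tr.nd (nat_lit 930) (Tr.lf (Fc.ed (nat_lit 929) (nat_lit 145) Col.b (nat_lit 281) Dv.df))
(Tr.lf (Fc.ed (nat_lit 930) (nat_lit 281) Col.a (nat_lit 279) (Dv.wd (nat_lit 128) [Mv.b (nat_lit 925), Mv.b (nat_lit 533), Mv.f (nat_lit 222), Mv.f (nat_lit 540), Mv.f (nat_lit 929)]))))))
(Tr.nd (nat_lit 935) (Tr.nd (nat_lit 933) (Tr.nd (nat_lit 932) (Tr.lf (Fc.ed (nat_lit 931) (nat_lit 152) Col.a (nat_lit 282) Dv.df))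
(Tr.lf (Fc.ed (nat_lit 932) (nat_lit 282) Col.h (nat_lit 280) (Dv.wd (nat_lit 28) [Mv.f (nat_lit 927), Mv.b (nat_lit 553), Mv.f (nat_lit 931)]))))
(Tr.nd (nat_lit 934) (Tr.lf (Fc.ed (nat_lit 933) (nat_lit 155) Col.c (nat_lit 283) Dv.df))
(Tr.lf (Fc.ed (nat_lit 934) (nat_lit 283) Col.e (nat_lit 162) (Dv.wd (nat_lit 41) [Mv.f (nat_lit 579), Mv.f (nat_lit 569), Mv.f (nat_lit 933)])))))
(Tr.nd (nat_lit 937) (Tr.nd (nat_lit 936) (Tr.lf (Fc.ed (nat_lit 935) (nat_lit 156) Col.a (nat_lit 284) Dv.df))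
(Tr.lf (Fc.ed (nat_lit 936) (nat_lit 284) Col.d (nat_lit 282) (Dv.wd (nat_lit 44) [Mv.b (nat_lit 931), Mv.b (nat_lit 561), Mv.f (nat_lit 935)]))))
(Tr.nd (nat_lit 938) (Tr.lf (Fc.ed (nat_lit 937) (nat_lit 284) Col.f (nat_lit 284) (Dv.wd (nat_lit 33) [Mv.b (nat_lit 935), Mv.f (nat_lit 562), Mv.f (nat_lit 935)])))
(Tr.lf (Fc.ed (nat_lit 938) (nat_lit 156) Col.c (nat_lit 285) Dv.df))))))))))))
(Tr.nd (nat_lit 1408) (Tr.nd (nat_lit 1173) (Tr.nd (nat_lit 1056) (Tr.nd (nat_lit 997) (Tr.nd (nat_lit 968) (Tr.nd (nat_lit 953) (Tr.nd (nat_lit 946) (Tr.nd (nat_lit 942) (Tr.nd (nat_lit 940) (Tr.lf (Fc.ed (nat_lit 939) (nat_lit 285) Col.f (nat_lit 285) (Dv.wd (nat_lit 36) [Mv.b (nat_lit 938), Mv.f (nat_lit 562), Mv.f (nat_lit 938)])))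
(Tr.nd (nat_lit 941) (Tr.lf (Fc.ed (nat_lit 940) (nat_lit 157) Col.b (nat_lit 286) Dv.df))
(Tr.lf (Fc.ed (nat_lit 941) (nat_lit 286) Col.e (nat_lit 163) (Dv.wd (nat_lit 40) [Mv.b (nat_lit 580), Mv.b (nat_lit 564), Mv.f (nat_lit 940)])))))
(Tr.nd (nat_lit 944) (Tr.nd (nat_lit 943) (Tr.lf (Fc.ed (nat_lit 942) (nat_lit 286) Col.f (nat_lit 286) (Dv.wd (nat_lit 35) [Mv.b (nat_lit 940), Mv.f (nat_lit 565), Mv.f (nat_lit 940)])))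
(Tr.lf (Fc.ed (nat_lit 943) (nat_lit 160) Col.a (nat_lit 287) Dv.df)))
(Tr.nd (nat_lit 945) (Tr.lf (Fc.ed (nat_lit 944) (nat_lit 287) Col.l (nat_lit 287) (Dv.wd (nat_lit 76) [Mv.b (nat_lit 943), Mv.f (nat_lit 571), Mv.f (nat_lit 943)])))
(Tr.lf (Fc.ed (nat_lit 945) (nat_lit 287) Col.d (nat_lit 287) (Dv.wd (nat_lit 44) [Mv.b (nat_lit 943), Mv.f (nat_lit 572), Mv.f (nat_lit 943)]))))))
(Tr.nd (nat_lit 949) (Tr.nd (nat_lit 947) (Tr.lf (Fc.ed (nat_lit 946) (nat_lit 287) Col.e (nat_lit 284) (Dv.wd (nat_lit 38) [Mv.b (nat_lit 935), Mv.b (nat_lit 573), Mv.f (nat_lit 943)])))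
(Tr.nd (nat_lit 948) (Tr.lf (Fc.ed (nat_lit 947) (nat_lit 287) Col.g (nat_lit 287) (Dv.wd (nat_lit 31) [Mv.b (nat_lit 943), Mv.f (nat_lit 782), Mv.f (nat_lit 943)])))
(Tr.lf (Fc.ed (nat_lit 948) (nat_lit 287) Col.h (nat_lit 287) (Dv.wd (nat_lit 28) [Mv.b (nat_lit 943), Mv.f (nat_lit 574), Mv.f (nat_lit 943)])))))
(Tr.nd (nat_lit 951) (Tr.nd (nat_lit 950) (Tr.lf (Fc.ed (nat_lit 949) (nat_lit 287) Col.i (nat_lit 287) (Dv.wd (nat_lit 147) [Mv.b (nat_lit 943), Mv.f (nat_lit 575), Mv.f (nat_lit 943)])))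
(Tr.lf (Fc.ed (nat_lit 950) (nat_lit 160) Col.c (nat_lit 288) Dv.df)))
(Tr.nd (nat_lit 952) (Tr.lf (Fc.ed (nat_lit 951) (nat_lit 288) Col.l (nat_lit 288) (Dv.wd (nat_lit 77) [Mv.b (nat_lit 950), Mv.f (nat_lit 571), Mv.f (nat_lit 950)])))
(Tr.lf (Fc.ed (nat_lit 952) (nat_lit 288) Col.e (nat_lit 285) (Dv.wd (nat_lit 41) [Mv.b (nat_lit 938), Mv.b (nat_lit 573), Mv.f (nat_lit 950)])))))))
(Tr.nd (nat_lit 960) (Tr.nd (nat_lit 956) (Tr.nd (nat_lit 954) (Tr.lf (Fc.ed (nat_lit 953) (nat_lit 288) Col.h (nat_lit 288) (Dv.wd (nat_lit 30) [Mv.b (nat_lit 950), Mv.f (nat_lit 574), Mv.f (nat_lit 950)])))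
(Tr.nd (nat_lit 955) (Tr.lf (Fc.ed (nat_lit 954) (nat_lit 288) Col.i (nat_lit 288) (Dv.wd (nat_lit 137) [Mv.b (nat_lit 950), Mv.f (nat_lit 575), Mv.f (nat_lit 950)])))
(Tr.lf (Fc.ed (nat_lit 955) (nat_lit 162) Col.b (nat_lit 289) Dv.df))))
(Tr.nd (nat_lit 958) (Tr.nd (nat_lit 957) (Tr.lf (Fc.ed (nat_lit 956) (nat_lit 163) Col.a (nat_lit 290) Dv.df))
(Tr.lf (Fc.ed (nat_lit 957) (nat_lit 290) Col.g (nat_lit 290) (Dv.wd (nat_lit 31) [Mv.b (nat_lit 956), Mv.f (nat_lit 781), Mv.f (nat_lit 956)]))))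
(Tr.nd (nat_lit 959) (Tr.lf (Fc.ed (nat_lit 958) (nat_lit 163) Col.c (nat_lit 291) Dv.df))
(Tr.lf (Fc.ed (nat_lit 959) (nat_lit 291) Col.b (nat_lit 288) (Dv.wd (nat_lit 178) [Mv.b (nat_lit 950), Mv.b (nat_lit 570), Mv.f (nat_lit 241), Mv.f (nat_lit 580), Mv.f (nat_lit 958)]))))))
(Tr.nd (nat_lit 964) (Tr.nd (nat_lit 962) (Tr.nd (nat_lit 961) (Tr.lf (Fc.ed (nat_lit 960) (nat_lit 163) Col.f (nat_lit 292) Dv.df))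
(Tr.lf (Fc.ed (nat_lit 961) (nat_lit 292) Col.h (nat_lit 292) (Dv.wd (nat_lit 115) [Mv.b (nat_lit 960), Mv.f (nat_lit 581), Mv.f (nat_lit 960)]))))
(Tr.nd (nat_lit 963) (Tr.lf (Fc.ed (nat_lit 962) (nat_lit 292) Col.e (nat_lit 292) (Dv.wd (nat_lit 93) [Mv.b (nat_lit 960), Mv.b (nat_lit 941), Mv.f (nat_lit 942), Mv.f (nat_lit 941), Mv.f (nat_lit 960)])))
(Tr.lf (Fc.ed (nat_lit 963) (nat_lit 165) Col.b (nat_lit 293) Dv.df))))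
(Tr.nd (nat_lit 966) (Tr.nd (nat_lit 965) (Tr.lf (Fc.ed (nat_lit 964) (nat_lit 293) Col.d (nat_lit 289) (Dv.wd (nat_lit 46) [Mv.b (nat_lit 955), Mv.b (nat_lit 585), Mv.f (nat_lit 963)])))
(Tr.lf (Fc.ed (nat_lit 965) (nat_lit 165) Col.f (nat_lit 294) Dv.df)))
(Tr.nd (nat_lit 967) (Tr.lf (Fc.ed (nat_lit 966) (nat_lit 166) Col.a (nat_lit 295) Dv.df))
(Tr.lf (Fc.ed (nat_lit 967) (nat_lit 295) Col.l (nat_lit 295) (Dv.wd (nat_lit 76) [Mv.b (nat_lit 966), Mv.f (nat_lit 587), Mv.f (nat_lit 966)]))))))))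
(Tr.nd (nat_lit 982) (Tr.nd (nat_lit 975) (Tr.nd (nat_lit 971) (Tr.nd (nat_lit 969) (Tr.lf (Fc.ed (nat_lit 968) (nat_lit 295) Col.d (nat_lit 290) (Dv.wd (nat_lit 44) [Mv.b (nat_lit 956), Mv.b (nat_lit 589), Mv.f (nat_lit 966)])))
(Tr.nd (nat_lit 970) (Tr.lf (Fc.ed (nat_lit 969) (nat_lit 295) Col.e (nat_lit 295) (Dv.wd (nat_lit 38) [Mv.b (nat_lit 966), Mv.f (nat_lit 814), Mv.f (nat_lit 966)])))
(Tr.lf (Fc.ed (nat_lit 970) (nat_lit 166) Col.c (nat_lit 296) Dv.df))))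
(Tr.nd (nat_lit 973) (Tr.nd (nat_lit 972) (Tr.lf (Fc.ed (nat_lit 971) (nat_lit 296) Col.b (nat_lit 296) (Dv.wd (nat_lit 178) [Mv.b (nat_lit 970), Mv.b (nat_lit 586), Mv.f (nat_lit 497), Mv.f (nat_lit 586), Mv.f (nat_lit 970)])))
(Tr.lf (Fc.ed (nat_lit 972) (nat_lit 166) Col.f (nat_lit 297) Dv.df)))
(Tr.nd (nat_lit 974) (Tr.lf (Fc.ed (nat_lit 973) (nat_lit 297) Col.d (nat_lit 292) (Dv.wd (nat_lit 92) [Mv.b (nat_lit 960), Mv.b (nat_lit 589), Mv.f (nat_lit 972)])))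
(Tr.lf (Fc.ed (nat_lit 974) (nat_lit 170) Col.b (nat_lit 298) Dv.df)))))
(Tr.nd (nat_lit 978) (Tr.nd (nat_lit 976) (Tr.lf (Fc.ed (nat_lit 975) (nat_lit 298) Col.h (nat_lit 293) (Dv.wd (nat_lit 29) [Mv.b (nat_lit 963), Mv.b (nat_lit 595), Mv.f (nat_lit 974)])))
(Tr.nd (nat_lit 977) (Tr.lf (Fc.ed (nat_lit 976) (nat_lit 170) Col.f (nat_lit 299) Dv.df))
(Tr.lf (Fc.ed (nat_lit 977) (nat_lit 299) Col.h (nat_lit 294) (Dv.wd (nat_lit 115) [Mv.b (nat_lit 965), Mv.b (nat_lit 595), Mv.f (nat_lit 976)])))))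
(Tr.nd (nat_lit 980) (Tr.nd (nat_lit 979) (Tr.lf (Fc.ed (nat_lit 978) (nat_lit 299) Col.i (nat_lit 179) (Dv.wd (nat_lit 150) [Mv.f (nat_lit 615), Mv.f (nat_lit 607), Mv.f (nat_lit 976)])))
(Tr.lf (Fc.ed (nat_lit 979) (nat_lit 171) Col.a (nat_lit 300) Dv.df)))
(Tr.nd (nat_lit 981) (Tr.lf (Fc.ed (nat_lit 980) (nat_lit 300) Col.d (nat_lit 300) (Dv.wd (nat_lit 44) [Mv.b (nat_lit 979), Mv.f (nat_lit 597), Mv.f (nat_lit 979)])))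
(Tr.lf (Fc.ed (nat_lit 981) (nat_lit 300) Col.g (nat_lit 300) (Dv.wd (nat_lit 31) [Mv.b (nat_lit 979), Mv.f (nat_lit 779), Mv.f (nat_lit 979)])))))))
(Tr.nd (nat_lit 989) (Tr.nd (nat_lit 985) (Tr.nd (nat_lit 983) (Tr.lf (Fc.ed (nat_lit 982) (nat_lit 300) Col.h (nat_lit 295) (Dv.wd (nat_lit 28) [Mv.b (nat_lit 966), Mv.b (nat_lit 598), Mv.f (nat_lit 979)])))
(Tr.nd (nat_lit 984) (Tr.lf (Fc.ed (nat_lit 983) (nat_lit 171) Col.c (nat_lit 301) Dv.df))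
(Tr.lf (Fc.ed (nat_lit 984) (nat_lit 301) Col.h (nat_lit 296) (Dv.wd (nat_lit 30) [Mv.b (nat_lit 970), Mv.b (nat_lit 598), Mv.f (nat_lit 983)])))))
(Tr.nd (nat_lit 987) (Tr.nd (nat_lit 986) (Tr.lf (Fc.ed (nat_lit 985) (nat_lit 301) Col.b (nat_lit 301) (Dv.wd (nat_lit 178) [Mv.b (nat_lit 983), Mv.b (nat_lit 596), Mv.f (nat_lit 498), Mv.f (nat_lit 596), Mv.f (nat_lit 983)])))
(Tr.lf (Fc.ed (nat_lit 986) (nat_lit 171) Col.f (nat_lit 302) Dv.df)))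
(Tr.nd (nat_lit 988) (Tr.lf (Fc.ed (nat_lit 987) (nat_lit 302) Col.b (nat_lit 173) (Dv.wd (nat_lit 114) [Mv.b (nat_lit 601), Mv.f (nat_lit 596), Mv.f (nat_lit 986)])))
(Tr.lf (Fc.ed (nat_lit 988) (nat_lit 302) Col.h (nat_lit 297) (Dv.wd (nat_lit 115) [Mv.b (nat_lit 972), Mv.b (nat_lit 598), Mv.f (nat_lit 986)]))))))
(Tr.nd (nat_lit 993) (Tr.nd (nat_lit 991) (Tr.nd (nat_lit 990) (Tr.lf (Fc.ed (nat_lit 989) (nat_lit 302) Col.i (nat_lit 180) (Dv.wd (nat_lit 150) [Mv.f (nat_lit 619), Mv.f (nat_lit 609), Mv.f (nat_lit 986)])))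
(Tr.lf (Fc.ed (nat_lit 990) (nat_lit 173) Col.g (nat_lit 303) Dv.df)))
(Tr.nd (nat_lit 992) (Tr.lf (Fc.ed (nat_lit 991) (nat_lit 303) Col.i (nat_lit 181) (Dv.wd (nat_lit 148) [Mv.b (nat_lit 621), Mv.b (nat_lit 603), Mv.f (nat_lit 990)])))
(Tr.lf (Fc.ed (nat_lit 992) (nat_lit 175) Col.b (nat_lit 304) Dv.df))))
(Tr.nd (nat_lit 995) (Tr.nd (nat_lit 994) (Tr.lf (Fc.ed (nat_lit 993) (nat_lit 304) Col.i (nat_lit 298) (Dv.wd (nat_lit 149) [Mv.b (nat_lit 974), Mv.b (nat_lit 607), Mv.f (nat_lit 992)])))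
(Tr.lf (Fc.ed (nat_lit 994) (nat_lit 176) Col.a (nat_lit 305) Dv.df)))
(Tr.nd (nat_lit 996) (Tr.lf (Fc.ed (nat_lit 995) (nat_lit 305) Col.g (nat_lit 305) (Dv.wd (nat_lit 31) [Mv.b (nat_lit 994), Mv.f (nat_lit 777), Mv.f (nat_lit 994)])))
(Tr.lf (Fc.ed (nat_lit 996) (nat_lit 305) Col.i (nat_lit 300) (Dv.wd (nat_lit 147) [Mv.b (nat_lit 979), Mv.b (nat_lit 609), Mv.f (nat_lit 994)])))))))))
(Tr.nd (nat_lit 1026) (Tr.nd (nat_lit 1011) (Tr.nd (nat_lit 1004) (Tr.nd (nat_lit 1000) (Tr.nd (nat_lit 998) (Tr.lf (Fc.ed (nat_lit 997) (nat_lit 176) Col.c (nat_lit 306) Dv.df))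
(Tr.nd (nat_lit 999) (Tr.lf (Fc.ed (nat_lit 998) (nat_lit 306) Col.i (nat_lit 301) (Dv.wd (nat_lit 137) [Mv.b (nat_lit 983), Mv.b (nat_lit 609), Mv.f (nat_lit 997)])))
(Tr.lf (Fc.ed (nat_lit 999) (nat_lit 179) Col.b (nat_lit 307) Dv.df))))
(Tr.nd (nat_lit 1002) (Tr.nd (nat_lit 1001) (Tr.lf (Fc.ed (nat_lit 1000) (nat_lit 307) Col.f (nat_lit 304) (Dv.wd (nat_lit 35) [Mv.b (nat_lit 992), Mv.b (nat_lit 615), Mv.f (nat_lit 999)])))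
(Tr.lf (Fc.ed (nat_lit 1001) (nat_lit 180) Col.a (nat_lit 308) Dv.df)))
(Tr.nd (nat_lit 1003) (Tr.lf (Fc.ed (nat_lit 1002) (nat_lit 308) Col.d (nat_lit 308) (Dv.wd (nat_lit 44) [Mv.b (nat_lit 1001), Mv.f (nat_lit 618), Mv.f (nat_lit 1001)])))
(Tr.lf (Fc.ed (nat_lit 1003) (nat_lit 308) Col.f (nat_lit 305) (Dv.wd (nat_lit 33) [Mv.b (nat_lit 994), Mv.b (nat_lit 619), Mv.f (nat_lit 1001)]))))))
(Tr.nd (nat_lit 1007) (Tr.nd (nat_lit 1005) (Tr.lf (Fc.ed (nat_lit 1004) (nat_lit 308) Col.h (nat_lit 308) (Dv.wd (nat_lit 28) [Mv.b (nat_lit 1001), Mv.f (nat_lit 620), Mv.f (nat_lit 1001)])))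
(Tr.nd (nat_lit 1006) (Tr.lf (Fc.ed (nat_lit 1005) (nat_lit 180) Col.c (nat_lit 309) Dv.df))
(Tr.lf (Fc.ed (nat_lit 1006) (nat_lit 309) Col.f (nat_lit 306) (Dv.wd (nat_lit 36) [Mv.b (nat_lit 997), Mv.b (nat_lit 619), Mv.f (nat_lit 1005)])))))
(Tr.nd (nat_lit 1009) (Tr.nd (nat_lit 1008) (Tr.lf (Fc.ed (nat_lit 1007) (nat_lit 309) Col.b (nat_lit 309) (Dv.wd (nat_lit 178) [Mv.b (nat_lit 1005), Mv.b (nat_lit 616), Mv.f (nat_lit 500), Mv.f (nat_lit 616), Mv.f (nat_lit 1005)])))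
(Tr.lf (Fc.ed (nat_lit 1008) (nat_lit 182) Col.b (nat_lit 310) Dv.df)))
(Tr.nd (nat_lit 1010) (Tr.lf (Fc.ed (nat_lit 1009) (nat_lit 310) Col.e (nat_lit 307) (Dv.wd (nat_lit 40) [Mv.b (nat_lit 999), Mv.b (nat_lit 623), Mv.f (nat_lit 1008)])))
(Tr.lf (Fc.ed (nat_lit 1010) (nat_lit 182) Col.i (nat_lit 311) Dv.df))))))
(Tr.nd (nat_lit 1018) (Tr.nd (nat_lit 1014) (Tr.nd (nat_lit 1012) (Tr.lf (Fc.ed (nat_lit 1011) (nat_lit 311) Col.e (nat_lit 299) (Dv.wd (nat_lit 143) [Mv.f (nat_lit 978), Mv.b (nat_lit 623), Mv.f (nat_lit 1010)])))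
(Tr.nd (nat_lit 1013) (Tr.lf (Fc.ed (nat_lit 1012) (nat_lit 183) Col.a (nat_lit 312) Dv.df))
(Tr.lf (Fc.ed (nat_lit 1013) (nat_lit 312) Col.e (nat_lit 308) (Dv.wd (nat_lit 38) [Mv.b (nat_lit 1001), Mv.b (nat_lit 626), Mv.f (nat_lit 1012)])))))
(Tr.nd (nat_lit 1016) (Tr.nd (nat_lit 1015) (Tr.lf (Fc.ed (nat_lit 1014) (nat_lit 312) Col.f (nat_lit 312) (Dv.wd (nat_lit 33) [Mv.b (nat_lit 1012), Mv.f (nat_lit 812), Mv.f (nat_lit 1012)])))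
(Tr.lf (Fc.ed (nat_lit 1015) (nat_lit 312) Col.h (nat_lit 312) (Dv.wd (nat_lit 28) [Mv.b (nat_lit 1012), Mv.f (nat_lit 627), Mv.f (nat_lit 1012)]))))
(Tr.nd (nat_lit 1017) (Tr.lf (Fc.ed (nat_lit 1016) (nat_lit 183) Col.c (nat_lit 313) Dv.df))
(Tr.lf (Fc.ed (nat_lit 1017) (nat_lit 313) Col.e (nat_lit 309) (Dv.wd (nat_lit 41) [Mv.b (nat_lit 1005), Mv.b (nat_lit 626), Mv.f (nat_lit 1016)]))))))
(Tr.nd (nat_lit 1022) (Tr.nd (nat_lit 1020) (Tr.nd (nat_lit 1019) (Tr.lf (Fc.ed (nat_lit 1018) (nat_lit 313) Col.b (nat_lit 313) (Dv.wd (nat_lit 178) [Mv.b (nat_lit 1016), Mv.b (nat_lit 624), Mv.f (nat_lit 501), Mv.f (nat_lit 624), Mv.f (nat_lit 1016)])))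
(Tr.lf (Fc.ed (nat_lit 1019) (nat_lit 183) Col.g (nat_lit 314) Dv.df)))
(Tr.nd (nat_lit 1021) (Tr.lf (Fc.ed (nat_lit 1020) (nat_lit 183) Col.i (nat_lit 315) Dv.df))
(Tr.lf (Fc.ed (nat_lit 1021) (nat_lit 315) Col.e (nat_lit 302) (Dv.wd (nat_lit 143) [Mv.f (nat_lit 989), Mv.b (nat_lit 626), Mv.f (nat_lit 1020)])))))
(Tr.nd (nat_lit 1024) (Tr.nd (nat_lit 1023) (Tr.lf (Fc.ed (nat_lit 1022) (nat_lit 185) Col.f (nat_lit 316) Dv.df))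
(Tr.lf (Fc.ed (nat_lit 1023) (nat_lit 316) Col.d (nat_lit 203) (Dv.wd (nat_lit 92) [Mv.f (nat_lit 675), Mv.f (nat_lit 643), Mv.f (nat_lit 1022)]))))
(Tr.nd (nat_lit 1025) (Tr.lf (Fc.ed (nat_lit 1024) (nat_lit 316) Col.e (nat_lit 316) (Dv.wd (nat_lit 93) [Mv.b (nat_lit 1022), Mv.f (nat_lit 630), Mv.f (nat_lit 778), Mv.b (nat_lit 630), Mv.f (nat_lit 1022)])))
(Tr.lf (Fc.ed (nat_lit 1025) (nat_lit 206) Col.d (nat_lit 206) (Dv.wd (nat_lit 42) [Mv.f (nat_lit 684), Mv.b (nat_lit 1023), Mv.f (nat_lit 1024), Mv.f (nat_lit 1023), Mv.b (nat_lit 684)]))))))))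
(Tr.nd (nat_lit 1041) (Tr.nd (nat_lit 1033) (Tr.nd (nat_lit 1029) (Tr.nd (nat_lit 1027) (Tr.lf (Fc.al (nat_lit 1026) (nat_lit 208) (nat_lit 63) (Dv.wd (nat_lit 179) [Mv.b (nat_lit 271), Mv.f (nat_lit 683), Mv.f (nat_lit 1025), Mv.b (nat_lit 683), Mv.f (nat_lit 271), Mv.f (nat_lit 687)])))
(Tr.nd (nat_lit 1028) (Tr.lf (Fc.al (nat_lit 1027) (nat_lit 64) (nat_lit 210) (Dv.wd (nat_lit 162) [Mv.f (nat_lit 691), Mv.f (nat_lit 1026), Mv.f (nat_lit 272)])))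
(Tr.lf (Fc.al (nat_lit 1028) (nat_lit 65) (nat_lit 211) (Dv.wd (nat_lit 161) [Mv.f (nat_lit 693), Mv.b (nat_lit 1027), Mv.f (nat_lit 273)])))))
(Tr.nd (nat_lit 1031) (Tr.nd (nat_lit 1030) (Tr.lf (Fc.al (nat_lit 1029) (nat_lit 66) (nat_lit 212) (Dv.wd (nat_lit 180) [Mv.f (nat_lit 695), Mv.b (nat_lit 1028), Mv.f (nat_lit 274)])))
(Tr.lf (Fc.ed (nat_lit 1030) (nat_lit 66) Col.h (nat_lit 66) (Dv.wd (nat_lit 159) [Mv.f (nat_lit 694), Mv.b (nat_lit 1029)]))))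
(Tr.nd (nat_lit 1032) (Tr.lf (Fc.ed (nat_lit 1031) (nat_lit 209) Col.h (nat_lit 209) (Dv.wd (nat_lit 30) [Mv.f (nat_lit 689), Mv.f (nat_lit 1030), Mv.b (nat_lit 689)])))
(Tr.lf (Fc.ed (nat_lit 1032) (nat_lit 185) Col.i (nat_lit 317) Dv.df)))))
(Tr.nd (nat_lit 1037) (Tr.nd (nat_lit 1035) (Tr.nd (nat_lit 1034) (Tr.lf (Fc.ed (nat_lit 1033) (nat_lit 317) Col.e (nat_lit 303) (Dv.wd (nat_lit 143) [Mv.f (nat_lit 991), Mv.b (nat_lit 630), Mv.f (nat_lit 1032)])))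
(Tr.lf (Fc.ed (nat_lit 1034) (nat_lit 187) Col.b (nat_lit 318) Dv.df)))
(Tr.nd (nat_lit 1036) (Tr.lf (Fc.ed (nat_lit 1035) (nat_lit 318) Col.d (nat_lit 310) (Dv.wd (nat_lit 46) [Mv.b (nat_lit 1008), Mv.b (nat_lit 634), Mv.f (nat_lit 1034)])))
(Tr.lf (Fc.ed (nat_lit 1036) (nat_lit 187) Col.c (nat_lit 319) Dv.df))))
(Tr.nd (nat_lit 1039) (Tr.nd (nat_lit 1038) (Tr.lf (Fc.ed (nat_lit 1037) (nat_lit 319) Col.a (nat_lit 189) (Dv.wd (nat_lit 181) [Mv.b (nat_lit 638), Mv.f (nat_lit 633), Mv.f (nat_lit 1036)])))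
(Tr.lf (Fc.ed (nat_lit 1038) (nat_lit 187) Col.i (nat_lit 320) Dv.df)))
(Tr.nd (nat_lit 1040) (Tr.lf (Fc.ed (nat_lit 1039) (nat_lit 320) Col.d (nat_lit 311) (Dv.wd (nat_lit 142) [Mv.b (nat_lit 1010), Mv.b (nat_lit 634), Mv.f (nat_lit 1038)])))
(Tr.lf (Fc.ed (nat_lit 1040) (nat_lit 188) Col.a (nat_lit 321) Dv.df))))))
(Tr.nd (nat_lit 1048) (Tr.nd (nat_lit 1044) (Tr.nd (nat_lit 1042) (Tr.lf (Fc.ed (nat_lit 1041) (nat_lit 321) Col.d (nat_lit 312) (Dv.wd (nat_lit 44) [Mv.b (nat_lit 1012), Mv.b (nat_lit 636), Mv.f (nat_lit 1040)])))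
(Tr.nd (nat_lit 1043) (Tr.lf (Fc.ed (nat_lit 1042) (nat_lit 321) Col.e (nat_lit 321) (Dv.wd (nat_lit 38) [Mv.b (nat_lit 1040), Mv.f (nat_lit 637), Mv.f (nat_lit 1040)])))
(Tr.lf (Fc.ed (nat_lit 1043) (nat_lit 321) Col.f (nat_lit 321) (Dv.wd (nat_lit 33) [Mv.b (nat_lit 1040), Mv.f (nat_lit 811), Mv.f (nat_lit 1040)])))))
(Tr.nd (nat_lit 1046) (Tr.nd (nat_lit 1045) (Tr.lf (Fc.ed (nat_lit 1044) (nat_lit 188) Col.c (nat_lit 322) Dv.df))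
(Tr.lf (Fc.ed (nat_lit 1045) (nat_lit 189) Col.b (nat_lit 323) Dv.df)))
(Tr.nd (nat_lit 1047) (Tr.lf (Fc.ed (nat_lit 1046) (nat_lit 189) Col.i (nat_lit 324) Dv.df))
(Tr.lf (Fc.ed (nat_lit 1047) (nat_lit 324) Col.c (nat_lit 192) (Dv.wd (nat_lit 145) [Mv.b (nat_lit 645), Mv.f (nat_lit 638), Mv.f (nat_lit 1046)]))))))
(Tr.nd (nat_lit 1052) (Tr.nd (nat_lit 1050) (Tr.nd (nat_lit 1049) (Tr.lf (Fc.ed (nat_lit 1048) (nat_lit 191) Col.i (nat_lit 325) Dv.df))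
(Tr.lf (Fc.ed (nat_lit 1049) (nat_lit 325) Col.d (nat_lit 317) (Dv.wd (nat_lit 142) [Mv.b (nat_lit 1032), Mv.b (nat_lit 643), Mv.f (nat_lit 1048)]))))
(Tr.nd (nat_lit 1051) (Tr.lf (Fc.ed (nat_lit 1050) (nat_lit 193) Col.b (nat_lit 326) Dv.df))
(Tr.lf (Fc.ed (nat_lit 1051) (nat_lit 326) Col.h (nat_lit 318) (Dv.wd (nat_lit 29) [Mv.b (nat_lit 1034), Mv.b (nat_lit 648), Mv.f (nat_lit 1050)])))))
(Tr.nd (nat_lit 1054) (Tr.nd (nat_lit 1053) (Tr.lf (Fc.ed (nat_lit 1052) (nat_lit 193) Col.c (nat_lit 327) Dv.df))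
(Tr.lf (Fc.ed (nat_lit 1053) (nat_lit 327) Col.h (nat_lit 319) (Dv.wd (nat_lit 30) [Mv.b (nat_lit 1036), Mv.b (nat_lit 648), Mv.f (nat_lit 1052)]))))
(Tr.nd (nat_lit 1055) (Tr.lf (Fc.ed (nat_lit 1054) (nat_lit 194) Col.a (nat_lit 328) Dv.df))
(Tr.lf (Fc.ed (nat_lit 1055) (nat_lit 328) Col.h (nat_lit 321) (Dv.wd (nat_lit 28) [Mv.b (nat_lit 1040), Mv.b (nat_lit 650), Mv.f (nat_lit 1054)]))))))))))
(Tr.nd (nat_lit 1114) (Tr.nd (nat_lit 1085) (Tr.nd (nat_lit 1070) (Tr.nd (nat_lit 1063) (Tr.nd (nat_lit 1059) (Tr.nd (nat_lit 1057) (Tr.lf (Fc.ed (nat_lit 1056) (nat_lit 195) Col.b (nat_lit 329) Dv.df))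
(Tr.nd (nat_lit 1058) (Tr.lf (Fc.ed (nat_lit 1057) (nat_lit 329) Col.h (nat_lit 323) (Dv.wd (nat_lit 29) [Mv.b (nat_lit 1045), Mv.b (nat_lit 654), Mv.f (nat_lit 1056)])))
(Tr.lf (Fc.ed (nat_lit 1058) (nat_lit 195) Col.d (nat_lit 330) Dv.df))))
(Tr.nd (nat_lit 1061) (Tr.nd (nat_lit 1060) (Tr.lf (Fc.ed (nat_lit 1059) (nat_lit 330) Col.l (nat_lit 330) (Dv.wd (nat_lit 80) [Mv.b (nat_lit 1058), Mv.f (nat_lit 652), Mv.f (nat_lit 1058)])))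
(Tr.lf (Fc.ed (nat_lit 1060) (nat_lit 330) Col.f (nat_lit 330) (Dv.wd (nat_lit 37) [Mv.b (nat_lit 1058), Mv.f (nat_lit 810), Mv.f (nat_lit 1058)]))))
(Tr.nd (nat_lit 1062) (Tr.lf (Fc.ed (nat_lit 1061) (nat_lit 330) Col.c (nat_lit 330) (Dv.wd (nat_lit 83) [Mv.b (nat_lit 1058), Mv.b (nat_lit 651), Mv.f (nat_lit 466), Mv.f (nat_lit 651), Mv.f (nat_lit 1058)])))
(Tr.lf (Fc.ed (nat_lit 1062) (nat_lit 330) Col.h (nat_lit 330) (Dv.wd (nat_lit 105) [Mv.b (nat_lit 1058), Mv.f (nat_lit 654), Mv.f (nat_lit 639), Mv.b (nat_lit 654), Mv.f (nat_lit 1058)]))))))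
(Tr.nd (nat_lit 1066) (Tr.nd (nat_lit 1064) (Tr.lf (Fc.ed (nat_lit 1063) (nat_lit 197) Col.b (nat_lit 331) Dv.df))
(Tr.nd (nat_lit 1065) (Tr.lf (Fc.ed (nat_lit 1064) (nat_lit 331) Col.g (nat_lit 326) (Dv.wd (nat_lit 75) [Mv.b (nat_lit 1050), Mv.b (nat_lit 658), Mv.f (nat_lit 1063)])))
(Tr.lf (Fc.ed (nat_lit 1065) (nat_lit 197) Col.c (nat_lit 332) Dv.df))))
(Tr.nd (nat_lit 1068) (Tr.nd (nat_lit 1067) (Tr.lf (Fc.ed (nat_lit 1066) (nat_lit 332) Col.g (nat_lit 327) (Dv.wd (nat_lit 79) [Mv.b (nat_lit 1052), Mv.b (nat_lit 658), Mv.f (nat_lit 1065)])))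
(Tr.lf (Fc.ed (nat_lit 1067) (nat_lit 198) Col.a (nat_lit 333) Dv.df)))
(Tr.nd (nat_lit 1069) (Tr.lf (Fc.ed (nat_lit 1068) (nat_lit 333) Col.d (nat_lit 333) (Dv.wd (nat_lit 44) [Mv.b (nat_lit 1067), Mv.f (nat_lit 661), Mv.f (nat_lit 1067)])))
(Tr.lf (Fc.ed (nat_lit 1069) (nat_lit 333) Col.e (nat_lit 333) (Dv.wd (nat_lit 38) [Mv.b (nat_lit 1067), Mv.f (nat_lit 662), Mv.f (nat_lit 1067)])))))))
(Tr.nd (nat_lit 1077) (Tr.nd (nat_lit 1073) (Tr.nd (nat_lit 1071) (Tr.lf (Fc.ed (nat_lit 1070) (nat_lit 333) Col.g (nat_lit 328) (Dv.wd (nat_lit 31) [Mv.b (nat_lit 1054), Mv.b (nat_lit 663), Mv.f (nat_lit 1067)])))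
(Tr.nd (nat_lit 1072) (Tr.lf (Fc.ed (nat_lit 1071) (nat_lit 199) Col.d (nat_lit 334) Dv.df))
(Tr.lf (Fc.ed (nat_lit 1072) (nat_lit 334) Col.g (nat_lit 330) (Dv.wd (nat_lit 82) [Mv.b (nat_lit 1058), Mv.b (nat_lit 665), Mv.f (nat_lit 1071)])))))
(Tr.nd (nat_lit 1075) (Tr.nd (nat_lit 1074) (Tr.lf (Fc.ed (nat_lit 1073) (nat_lit 200) Col.b (nat_lit 335) Dv.df))
(Tr.lf (Fc.ed (nat_lit 1074) (nat_lit 335) Col.f (nat_lit 331) (Dv.wd (nat_lit 35) [Mv.b (nat_lit 1063), Mv.b (nat_lit 667), Mv.f (nat_lit 1073)]))))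
(Tr.nd (nat_lit 1076) (Tr.lf (Fc.ed (nat_lit 1075) (nat_lit 200) Col.c (nat_lit 336) Dv.df))
(Tr.lf (Fc.ed (nat_lit 1076) (nat_lit 336) Col.a (nat_lit 202) (Dv.wd (nat_lit 181) [Mv.b (nat_lit 672), Mv.f (nat_lit 666), Mv.f (nat_lit 1075)]))))))
(Tr.nd (nat_lit 1081) (Tr.nd (nat_lit 1079) (Tr.nd (nat_lit 1078) (Tr.lf (Fc.ed (nat_lit 1077) (nat_lit 336) Col.f (nat_lit 332) (Dv.wd (nat_lit 36) [Mv.b (nat_lit 1065), Mv.b (nat_lit 667), Mv.f (nat_lit 1075)])))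
(Tr.lf (Fc.ed (nat_lit 1078) (nat_lit 201) Col.a (nat_lit 337) Dv.df)))
(Tr.nd (nat_lit 1080) (Tr.lf (Fc.ed (nat_lit 1079) (nat_lit 337) Col.d (nat_lit 337) (Dv.wd (nat_lit 44) [Mv.b (nat_lit 1078), Mv.f (nat_lit 670), Mv.f (nat_lit 1078)])))
(Tr.lf (Fc.ed (nat_lit 1080) (nat_lit 337) Col.f (nat_lit 333) (Dv.wd (nat_lit 33) [Mv.b (nat_lit 1067), Mv.b (nat_lit 671), Mv.f (nat_lit 1078)])))))
(Tr.nd (nat_lit 1083) (Tr.nd (nat_lit 1082) (Tr.lf (Fc.ed (nat_lit 1081) (nat_lit 202) Col.d (nat_lit 338) Dv.df))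
(Tr.lf (Fc.ed (nat_lit 1082) (nat_lit 338) Col.f (nat_lit 334) (Dv.wd (nat_lit 37) [Mv.b (nat_lit 1071), Mv.b (nat_lit 673), Mv.f (nat_lit 1081)]))))
(Tr.nd (nat_lit 1084) (Tr.lf (Fc.ed (nat_lit 1083) (nat_lit 203) Col.i (nat_lit 339) Dv.df))
(Tr.lf (Fc.ed (nat_lit 1084) (nat_lit 339) Col.f (nat_lit 325) (Dv.wd (nat_lit 112) [Mv.b (nat_lit 1048), Mv.b (nat_lit 675), Mv.f (nat_lit 1083)]))))))))
(Tr.nd (nat_lit 1099) (Tr.nd (nat_lit 1092) (Tr.nd (nat_lit 1088) (Tr.nd (nat_lit 1086) (Tr.lf (Fc.ed (nat_lit 1085) (nat_lit 204) Col.b (nat_lit 340) Dv.df))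
(Tr.nd (nat_lit 1087) (Tr.lf (Fc.ed (nat_lit 1086) (nat_lit 340) Col.e (nat_lit 335) (Dv.wd (nat_lit 40) [Mv.b (nat_lit 1073), Mv.b (nat_lit 677), Mv.f (nat_lit 1085)])))
(Tr.lf (Fc.ed (nat_lit 1087) (nat_lit 205) Col.a (nat_lit 341) Dv.df))))
(Tr.nd (nat_lit 1090) (Tr.nd (nat_lit 1089) (Tr.lf (Fc.ed (nat_lit 1088) (nat_lit 341) Col.d (nat_lit 209) (Dv.wd (nat_lit 44) [Mv.b (nat_lit 688), Mv.b (nat_lit 680), Mv.f (nat_lit 1087)])))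
(Tr.lf (Fc.ed (nat_lit 1089) (nat_lit 341) Col.e (nat_lit 337) (Dv.wd (nat_lit 38) [Mv.b (nat_lit 1078), Mv.b (nat_lit 681), Mv.f (nat_lit 1087)]))))
(Tr.nd (nat_lit 1091) (Tr.lf (Fc.ed (nat_lit 1090) (nat_lit 341) Col.f (nat_lit 341) (Dv.wd (nat_lit 33) [Mv.b (nat_lit 1087), Mv.f (nat_lit 682), Mv.f (nat_lit 1087)])))
(Tr.lf (Fc.ed (nat_lit 1091) (nat_lit 206) Col.i (nat_lit 342) Dv.df)))))
(Tr.nd (nat_lit 1095) (Tr.nd (nat_lit 1093) (Tr.lf (Fc.ed (nat_lit 1092) (nat_lit 342) Col.e (nat_lit 339) (Dv.wd (nat_lit 143) [Mv.b (nat_lit 1083), Mv.b (nat_lit 684), Mv.f (nat_lit 1091)])))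
(Tr.nd (nat_lit 1094) (Tr.lf (Fc.ed (nat_lit 1093) (nat_lit 207) Col.b (nat_lit 343) Dv.df))
(Tr.lf (Fc.ed (nat_lit 1094) (nat_lit 343) Col.d (nat_lit 340) (Dv.wd (nat_lit 46) [Mv.b (nat_lit 1085), Mv.b (nat_lit 686), Mv.f (nat_lit 1093)])))))
(Tr.nd (nat_lit 1097) (Tr.nd (nat_lit 1096) (Tr.lf (Fc.ed (nat_lit 1095) (nat_lit 209) Col.k (nat_lit 344) Dv.df))
(Tr.lf (Fc.ed (nat_lit 1096) (nat_lit 344) Col.h (nat_lit 344) (Dv.wd (nat_lit 27) [Mv.b (nat_lit 1095), Mv.f (nat_lit 1031), Mv.f (nat_lit 1095)]))))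
(Tr.nd (nat_lit 1098) (Tr.lf (Fc.ed (nat_lit 1097) (nat_lit 209) Col.b (nat_lit 345) Dv.df))
(Tr.lf (Fc.ed (nat_lit 1098) (nat_lit 345) Col.a (nat_lit 343) (Dv.wd (nat_lit 128) [Mv.b (nat_lit 1093), Mv.b (nat_lit 685), Mv.f (nat_lit 272), Mv.f (nat_lit 688), Mv.f (nat_lit 1097)])))))))
(Tr.nd (nat_lit 1106) (Tr.nd (nat_lit 1102) (Tr.nd (nat_lit 1100) (Tr.lf (Fc.ed (nat_lit 1099) (nat_lit 214) Col.d (nat_lit 346) Dv.df))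
(Tr.nd (nat_lit 1101) (Tr.lf (Fc.ed (nat_lit 1100) (nat_lit 346) Col.a (nat_lit 346) (Dv.wd (nat_lit 182) [Mv.b (nat_lit 1099), Mv.f (nat_lit 702), Mv.f (nat_lit 1099)])))
(Tr.lf (Fc.ed (nat_lit 1101) (nat_lit 346) Col.f (nat_lit 346) (Dv.wd (nat_lit 37) [Mv.b (nat_lit 1099), Mv.f (nat_lit 704), Mv.f (nat_lit 1099)])))))
(Tr.nd (nat_lit 1104) (Tr.nd (nat_lit 1103) (Tr.lf (Fc.ed (nat_lit 1102) (nat_lit 346) Col.e (nat_lit 346) (Dv.wd (nat_lit 108) [Mv.b (nat_lit 1099), Mv.b (nat_lit 701), Mv.f (nat_lit 292), Mv.f (nat_lit 701), Mv.f (nat_lit 1099)])))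
(Tr.lf (Fc.ed (nat_lit 1103) (nat_lit 215) Col.d (nat_lit 347) Dv.df)))
(Tr.nd (nat_lit 1105) (Tr.lf (Fc.ed (nat_lit 1104) (nat_lit 347) Col.b (nat_lit 346) (Dv.wd (nat_lit 183) [Mv.b (nat_lit 1099), Mv.b (nat_lit 706), Mv.f (nat_lit 1103)])))
(Tr.lf (Fc.ed (nat_lit 1105) (nat_lit 216) Col.e (nat_lit 348) Dv.df)))))
(Tr.nd (nat_lit 1110) (Tr.nd (nat_lit 1108) (Tr.nd (nat_lit 1107) (Tr.lf (Fc.ed (nat_lit 1106) (nat_lit 348) Col.a (nat_lit 230) (Dv.wd (nat_lit 152) [Mv.b (nat_lit 741), Mv.b (nat_lit 708), Mv.f (nat_lit 1105)])))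
(Tr.lf (Fc.ed (nat_lit 1107) (nat_lit 217) Col.e (nat_lit 349) Dv.df)))
(Tr.nd (nat_lit 1109) (Tr.lf (Fc.ed (nat_lit 1108) (nat_lit 349) Col.k (nat_lit 218) (Dv.wd (nat_lit 85) [Mv.b (nat_lit 711), Mv.b (nat_lit 710), Mv.f (nat_lit 1107)])))
(Tr.lf (Fc.ed (nat_lit 1109) (nat_lit 218) Col.d (nat_lit 350) Dv.df))))
(Tr.nd (nat_lit 1112) (Tr.nd (nat_lit 1111) (Tr.lf (Fc.ed (nat_lit 1110) (nat_lit 350) Col.a (nat_lit 347) (Dv.wd (nat_lit 182) [Mv.b (nat_lit 1103), Mv.b (nat_lit 712), Mv.f (nat_lit 1109)])))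
(Tr.lf (Fc.ed (nat_lit 1111) (nat_lit 219) Col.e (nat_lit 351) Dv.df)))
(Tr.nd (nat_lit 1113) (Tr.lf (Fc.ed (nat_lit 1112) (nat_lit 351) Col.i (nat_lit 349) (Dv.wd (nat_lit 136) [Mv.b (nat_lit 1107), Mv.b (nat_lit 714), Mv.f (nat_lit 1111)])))
(Tr.lf (Fc.ed (nat_lit 1113) (nat_lit 220) Col.f (nat_lit 352) Dv.df))))))))
(Tr.nd (nat_lit 1143) (Tr.nd (nat_lit 1128) (Tr.nd (nat_lit 1121) (Tr.nd (nat_lit 1117) (Tr.nd (nat_lit 1115) (Tr.lf (Fc.ed (nat_lit 1114) (nat_lit 352) Col.a (nat_lit 352) (Dv.wd (nat_lit 113) [Mv.b (nat_lit 1113), Mv.f (nat_lit 716), Mv.f (nat_lit 1113)])))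
(Tr.nd (nat_lit 1116) (Tr.lf (Fc.ed (nat_lit 1115) (nat_lit 352) Col.b (nat_lit 352) (Dv.wd (nat_lit 114) [Mv.b (nat_lit 1113), Mv.f (nat_lit 717), Mv.f (nat_lit 1113)])))
(Tr.lf (Fc.ed (nat_lit 1116) (nat_lit 352) Col.c (nat_lit 224) (Dv.wd (nat_lit 91) [Mv.b (nat_lit 726), Mv.b (nat_lit 718), Mv.f (nat_lit 1113)])))))
(Tr.nd (nat_lit 1119) (Tr.nd (nat_lit 1118) (Tr.lf (Fc.ed (nat_lit 1117) (nat_lit 352) Col.h (nat_lit 352) (Dv.wd (nat_lit 115) [Mv.b (nat_lit 1113), Mv.f (nat_lit 719), Mv.f (nat_lit 1113)])))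
(Tr.lf (Fc.ed (nat_lit 1118) (nat_lit 221) Col.f (nat_lit 353) Dv.df)))
(Tr.nd (nat_lit 1120) (Tr.lf (Fc.ed (nat_lit 1119) (nat_lit 353) Col.b (nat_lit 222) (Dv.wd (nat_lit 114) [Mv.b (nat_lit 721), Mv.f (nat_lit 720), Mv.f (nat_lit 1118)])))
(Tr.lf (Fc.ed (nat_lit 1120) (nat_lit 222) Col.e (nat_lit 354) Dv.df)))))
(Tr.nd (nat_lit 1124) (Tr.nd (nat_lit 1122) (Tr.lf (Fc.ed (nat_lit 1121) (nat_lit 354) Col.a (nat_lit 354) (Dv.wd (nat_lit 152) [Mv.b (nat_lit 1120), Mv.f (nat_lit 722), Mv.f (nat_lit 1120)])))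
(Tr.nd (nat_lit 1123) (Tr.lf (Fc.ed (nat_lit 1122) (nat_lit 223) Col.a (nat_lit 355) Dv.df))
(Tr.lf (Fc.ed (nat_lit 1123) (nat_lit 355) Col.c (nat_lit 355) (Dv.wd (nat_lit 52) [Mv.b (nat_lit 1122), Mv.f (nat_lit 725), Mv.f (nat_lit 1122)])))))
(Tr.nd (nat_lit 1126) (Tr.nd (nat_lit 1125) (Tr.lf (Fc.ed (nat_lit 1124) (nat_lit 223) Col.f (nat_lit 356) Dv.df))
(Tr.lf (Fc.ed (nat_lit 1125) (nat_lit 224) Col.e (nat_lit 357) Dv.df)))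
(Tr.nd (nat_lit 1127) (Tr.lf (Fc.ed (nat_lit 1126) (nat_lit 357) Col.f (nat_lit 354) (Dv.wd (nat_lit 109) [Mv.b (nat_lit 1120), Mv.b (nat_lit 721), Mv.b (nat_lit 345), Mv.f (nat_lit 726), Mv.f (nat_lit 1125)])))
(Tr.lf (Fc.ed (nat_lit 1127) (nat_lit 225) Col.a (nat_lit 358) Dv.df))))))
(Tr.nd (nat_lit 1135) (Tr.nd (nat_lit 1131) (Tr.nd (nat_lit 1129) (Tr.lf (Fc.ed (nat_lit 1128) (nat_lit 358) Col.d (nat_lit 355) (Dv.wd (nat_lit 44) [Mv.b (nat_lit 1122), Mv.b (nat_lit 728), Mv.f (nat_lit 1127)])))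
(Tr.nd (nat_lit 1130) (Tr.lf (Fc.ed (nat_lit 1129) (nat_lit 358) Col.e (nat_lit 358) (Dv.wd (nat_lit 38) [Mv.b (nat_lit 1127), Mv.f (nat_lit 729), Mv.f (nat_lit 1127)])))
(Tr.lf (Fc.ed (nat_lit 1130) (nat_lit 358) Col.b (nat_lit 358) (Dv.wd (nat_lit 155) [Mv.b (nat_lit 1127), Mv.b (nat_lit 727), Mv.f (nat_lit 350), Mv.f (nat_lit 727), Mv.f (nat_lit 1127)])))))
(Tr.nd (nat_lit 1133) (Tr.nd (nat_lit 1132) (Tr.lf (Fc.ed (nat_lit 1131) (nat_lit 225) Col.c (nat_lit 359) Dv.df))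
(Tr.lf (Fc.ed (nat_lit 1132) (nat_lit 359) Col.h (nat_lit 237) (Dv.wd (nat_lit 30) [Mv.f (nat_lit 821), Mv.f (nat_lit 734), Mv.f (nat_lit 1131)]))))
(Tr.nd (nat_lit 1134) (Tr.lf (Fc.ed (nat_lit 1133) (nat_lit 225) Col.f (nat_lit 360) Dv.df))
(Tr.lf (Fc.ed (nat_lit 1134) (nat_lit 360) Col.b (nat_lit 226) (Dv.wd (nat_lit 114) [Mv.b (nat_lit 730), Mv.f (nat_lit 727), Mv.f (nat_lit 1133)]))))))
(Tr.nd (nat_lit 1139) (Tr.nd (nat_lit 1137) (Tr.nd (nat_lit 1136) (Tr.lf (Fc.ed (nat_lit 1135) (nat_lit 360) Col.d (nat_lit 356) (Dv.wd (nat_lit 92) [Mv.b (nat_lit 1124), Mv.b (nat_lit 728), Mv.f (nat_lit 1133)])))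
(Tr.lf (Fc.ed (nat_lit 1136) (nat_lit 226) Col.e (nat_lit 361) Dv.df)))
(Tr.nd (nat_lit 1138) (Tr.lf (Fc.ed (nat_lit 1137) (nat_lit 361) Col.c (nat_lit 361) (Dv.wd (nat_lit 86) [Mv.b (nat_lit 1136), Mv.f (nat_lit 731), Mv.f (nat_lit 1136)])))
(Tr.lf (Fc.ed (nat_lit 1138) (nat_lit 361) Col.f (nat_lit 361) (Dv.wd (nat_lit 109) [Mv.b (nat_lit 1136), Mv.b (nat_lit 730), Mv.f (nat_lit 349), Mv.f (nat_lit 730), Mv.f (nat_lit 1136)])))))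
(Tr.nd (nat_lit 1141) (Tr.nd (nat_lit 1140) (Tr.lf (Fc.ed (nat_lit 1139) (nat_lit 227) Col.a (nat_lit 362) Dv.df))
(Tr.lf (Fc.ed (nat_lit 1140) (nat_lit 362) Col.h (nat_lit 358) (Dv.wd (nat_lit 28) [Mv.b (nat_lit 1127), Mv.b (nat_lit 734), Mv.f (nat_lit 1139)]))))
(Tr.nd (nat_lit 1142) (Tr.lf (Fc.ed (nat_lit 1141) (nat_lit 362) Col.i (nat_lit 231) (Dv.wd (nat_lit 147) [Mv.b (nat_lit 742), Mv.b (nat_lit 735), Mv.f (nat_lit 1139)])))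
(Tr.lf (Fc.ed (nat_lit 1142) (nat_lit 250) Col.f (nat_lit 362) (Dv.wd (nat_lit 184) [Mv.f (nat_lit 1141), Mv.f (nat_lit 755), Mv.f (nat_lit 855)]))))))))
(Tr.nd (nat_lit 1158) (Tr.nd (nat_lit 1150) (Tr.nd (nat_lit 1146) (Tr.nd (nat_lit 1144) (Tr.lf (Fc.ed (nat_lit 1143) (nat_lit 227) Col.f (nat_lit 363) Dv.df))
(Tr.nd (nat_lit 1145) (Tr.lf (Fc.ed (nat_lit 1144) (nat_lit 363) Col.a (nat_lit 250) (Dv.wd (nat_lit 113) [Mv.f (nat_lit 1142), Mv.b (nat_lit 1139), Mv.f (nat_lit 1143)])))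
(Tr.lf (Fc.ed (nat_lit 1145) (nat_lit 363) Col.h (nat_lit 360) (Dv.wd (nat_lit 115) [Mv.b (nat_lit 1133), Mv.b (nat_lit 734), Mv.f (nat_lit 1143)])))))
(Tr.nd (nat_lit 1148) (Tr.nd (nat_lit 1147) (Tr.lf (Fc.ed (nat_lit 1146) (nat_lit 363) Col.i (nat_lit 232) (Dv.wd (nat_lit 150) [Mv.b (nat_lit 745), Mv.b (nat_lit 735), Mv.f (nat_lit 1143)])))
(Tr.lf (Fc.ed (nat_lit 1147) (nat_lit 249) Col.g (nat_lit 363) (Dv.wd (nat_lit 166) [Mv.f (nat_lit 1146), Mv.f (nat_lit 816), Mv.f (nat_lit 854)]))))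
(Tr.nd (nat_lit 1149) (Tr.lf (Fc.ed (nat_lit 1148) (nat_lit 228) Col.e (nat_lit 364) Dv.df))
(Tr.lf (Fc.ed (nat_lit 1149) (nat_lit 364) Col.a (nat_lit 364) (Dv.wd (nat_lit 152) [Mv.b (nat_lit 1148), Mv.f (nat_lit 737), Mv.f (nat_lit 1148)]))))))
(Tr.nd (nat_lit 1154) (Tr.nd (nat_lit 1152) (Tr.nd (nat_lit 1151) (Tr.lf (Fc.ed (nat_lit 1150) (nat_lit 364) Col.h (nat_lit 361) (Dv.wd (nat_lit 107) [Mv.b (nat_lit 1136), Mv.b (nat_lit 738), Mv.f (nat_lit 1148)])))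
(Tr.lf (Fc.ed (nat_lit 1151) (nat_lit 229) Col.e (nat_lit 365) Dv.df)))
(Tr.nd (nat_lit 1153) (Tr.lf (Fc.ed (nat_lit 1152) (nat_lit 365) Col.b (nat_lit 254) (Dv.wd (nat_lit 153) [Mv.f (nat_lit 869), Mv.f (nat_lit 747), Mv.f (nat_lit 1151)])))
(Tr.lf (Fc.ed (nat_lit 1153) (nat_lit 365) Col.i (nat_lit 364) (Dv.wd (nat_lit 136) [Mv.b (nat_lit 1148), Mv.b (nat_lit 740), Mv.f (nat_lit 1151)])))))
(Tr.nd (nat_lit 1156) (Tr.nd (nat_lit 1155) (Tr.lf (Fc.ed (nat_lit 1154) (nat_lit 230) Col.d (nat_lit 366) Dv.df))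
(Tr.lf (Fc.ed (nat_lit 1155) (nat_lit 233) Col.d (nat_lit 367) Dv.df)))
(Tr.nd (nat_lit 1157) (Tr.lf (Fc.ed (nat_lit 1156) (nat_lit 367) Col.b (nat_lit 366) (Dv.wd (nat_lit 183) [Mv.b (nat_lit 1154), Mv.b (nat_lit 749), Mv.f (nat_lit 1155)])))
(Tr.lf (Fc.ed (nat_lit 1157) (nat_lit 367) Col.g (nat_lit 258) (Dv.wd (nat_lit 82) [Mv.f (nat_lit 878), Mv.b (nat_lit 860), Mv.f (nat_lit 1155)])))))))
(Tr.nd (nat_lit 1165) (Tr.nd (nat_lit 1161) (Tr.nd (nat_lit 1159) (Tr.lf (Fc.ed (nat_lit 1158) (nat_lit 236) Col.e (nat_lit 368) Dv.df))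
(Tr.nd (nat_lit 1160) (Tr.lf (Fc.ed (nat_lit 1159) (nat_lit 368) Col.c (nat_lit 254) (Dv.wd (nat_lit 86) [Mv.f (nat_lit 869), Mv.b (nat_lit 819), Mv.f (nat_lit 1158)])))
(Tr.lf (Fc.ed (nat_lit 1160) (nat_lit 368) Col.d (nat_lit 368) (Dv.wd (nat_lit 88) [Mv.b (nat_lit 1158), Mv.b (nat_lit 826), Mv.f (nat_lit 827), Mv.f (nat_lit 826), Mv.f (nat_lit 1158)])))))
(Tr.nd (nat_lit 1163) (Tr.nd (nat_lit 1162) (Tr.lf (Fc.ed (nat_lit 1161) (nat_lit 236) Col.i (nat_lit 369) Dv.df))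
(Tr.lf (Fc.ed (nat_lit 1162) (nat_lit 369) Col.f (nat_lit 237) (Dv.wd (nat_lit 112) [Mv.b (nat_lit 820), Mv.f (nat_lit 818), Mv.f (nat_lit 1161)]))))
(Tr.nd (nat_lit 1164) (Tr.lf (Fc.ed (nat_lit 1163) (nat_lit 240) Col.i (nat_lit 370) Dv.df))
(Tr.lf (Fc.ed (nat_lit 1164) (nat_lit 241) Col.i (nat_lit 371) Dv.df)))))
(Tr.nd (nat_lit 1169) (Tr.nd (nat_lit 1167) (Tr.nd (nat_lit 1166) (Tr.lf (Fc.ed (nat_lit 1165) (nat_lit 371) Col.e (nat_lit 370) (Dv.wd (nat_lit 143) [Mv.b (nat_lit 1163), Mv.b (nat_lit 830), Mv.f (nat_lit 1164)])))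
(Tr.lf (Fc.ed (nat_lit 1166) (nat_lit 242) Col.i (nat_lit 372) Dv.df)))
(Tr.nd (nat_lit 1168) (Tr.lf (Fc.ed (nat_lit 1167) (nat_lit 372) Col.f (nat_lit 371) (Dv.wd (nat_lit 112) [Mv.b (nat_lit 1164), Mv.b (nat_lit 832), Mv.f (nat_lit 1166)])))
(Tr.lf (Fc.ed (nat_lit 1168) (nat_lit 243) Col.f (nat_lit 373) Dv.df))))
(Tr.nd (nat_lit 1171) (Tr.nd (nat_lit 1170) (Tr.lf (Fc.ed (nat_lit 1169) (nat_lit 373) Col.c (nat_lit 253) (Dv.wd (nat_lit 91) [Mv.b (nat_lit 866), Mv.b (nat_lit 837), Mv.f (nat_lit 1168)])))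
(Tr.lf (Fc.ed (nat_lit 1170) (nat_lit 373) Col.d (nat_lit 373) (Dv.wd (nat_lit 92) [Mv.b (nat_lit 1168), Mv.f (nat_lit 839), Mv.f (nat_lit 1168)]))))
(Tr.nd (nat_lit 1172) (Tr.lf (Fc.ed (nat_lit 1171) (nat_lit 373) Col.e (nat_lit 373) (Dv.wd (nat_lit 93) [Mv.b (nat_lit 1168), Mv.b (nat_lit 834), Mv.f (nat_lit 408), Mv.f (nat_lit 834), Mv.f (nat_lit 1168)])))
(Tr.lf (Fc.ed (nat_lit 1172) (nat_lit 244) Col.g (nat_lit 374) Dv.df))))))))))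
(Tr.nd (nat_lit 1290) (Tr.nd (nat_lit 1231) (Tr.nd (nat_lit 1202) (Tr.nd (nat_lit 1187) (Tr.nd (nat_lit 1180) (Tr.nd (nat_lit 1176) (Tr.nd (nat_lit 1174) (Tr.lf (Fc.ed (nat_lit 1173) (nat_lit 374) Col.b (nat_lit 246) (Dv.wd (nat_lit 146) [Mv.b (nat_lit 848), Mv.b (nat_lit 841), Mv.f (nat_lit 1172)])))
(Tr.nd (nat_lit 1175) (Tr.lf (Fc.ed (nat_lit 1174) (nat_lit 374) Col.e (nat_lit 245) (Dv.wd (nat_lit 98) [Mv.b (nat_lit 844), Mv.f (nat_lit 840), Mv.f (nat_lit 1172)])))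
(Tr.lf (Fc.ed (nat_lit 1175) (nat_lit 245) Col.i (nat_lit 375) Dv.df))))
(Tr.nd (nat_lit 1178) (Tr.nd (nat_lit 1177) (Tr.lf (Fc.ed (nat_lit 1176) (nat_lit 375) Col.a (nat_lit 375) (Dv.wd (nat_lit 116) [Mv.b (nat_lit 1175), Mv.f (nat_lit 845), Mv.f (nat_lit 1175)])))
(Tr.lf (Fc.ed (nat_lit 1177) (nat_lit 375) Col.b (nat_lit 247) (Dv.wd (nat_lit 144) [Mv.b (nat_lit 850), Mv.b (nat_lit 846), Mv.f (nat_lit 1175)]))))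
(Tr.nd (nat_lit 1179) (Tr.lf (Fc.ed (nat_lit 1178) (nat_lit 375) Col.d (nat_lit 372) (Dv.wd (nat_lit 142) [Mv.b (nat_lit 1166), Mv.b (nat_lit 847), Mv.f (nat_lit 1175)])))
(Tr.lf (Fc.ed (nat_lit 1179) (nat_lit 246) Col.i (nat_lit 376) Dv.df)))))
(Tr.nd (nat_lit 1183) (Tr.nd (nat_lit 1181) (Tr.lf (Fc.ed (nat_lit 1180) (nat_lit 376) Col.c (nat_lit 257) (Dv.wd (nat_lit 145) [Mv.b (nat_lit 874), Mv.b (nat_lit 849), Mv.f (nat_lit 1179)])))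
(Tr.nd (nat_lit 1182) (Tr.lf (Fc.ed (nat_lit 1181) (nat_lit 247) Col.h (nat_lit 377) Dv.df))
(Tr.lf (Fc.ed (nat_lit 1182) (nat_lit 249) Col.h (nat_lit 378) Dv.df))))
(Tr.nd (nat_lit 1185) (Tr.nd (nat_lit 1184) (Tr.lf (Fc.ed (nat_lit 1183) (nat_lit 378) Col.g (nat_lit 360) (Dv.wd (nat_lit 126) [Mv.b (nat_lit 1145), Mv.b (nat_lit 1147), Mv.f (nat_lit 1182)])))
(Tr.lf (Fc.ed (nat_lit 1184) (nat_lit 250) Col.h (nat_lit 379) Dv.df)))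
(Tr.nd (nat_lit 1186) (Tr.lf (Fc.ed (nat_lit 1185) (nat_lit 379) Col.a (nat_lit 360) (Dv.wd (nat_lit 124) [Mv.b (nat_lit 1145), Mv.f (nat_lit 1144), Mv.f (nat_lit 1184)])))
(Tr.lf (Fc.ed (nat_lit 1186) (nat_lit 379) Col.c (nat_lit 377) (Dv.wd (nat_lit 102) [Mv.b (nat_lit 1181), Mv.b (nat_lit 856), Mv.f (nat_lit 1184)])))))))
(Tr.nd (nat_lit 1194) (Tr.nd (nat_lit 1190) (Tr.nd (nat_lit 1188) (Tr.lf (Fc.ed (nat_lit 1187) (nat_lit 379) Col.f (nat_lit 358) (Dv.wd (nat_lit 104) [Mv.b (nat_lit 1140), Mv.b (nat_lit 1142), Mv.f (nat_lit 1184)])))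
(Tr.nd (nat_lit 1189) (Tr.lf (Fc.ed (nat_lit 1188) (nat_lit 252) Col.f (nat_lit 380) Dv.df))
(Tr.lf (Fc.ed (nat_lit 1189) (nat_lit 380) Col.a (nat_lit 380) (Dv.wd (nat_lit 113) [Mv.b (nat_lit 1188), Mv.f (nat_lit 864), Mv.f (nat_lit 1188)])))))
(Tr.nd (nat_lit 1192) (Tr.nd (nat_lit 1191) (Tr.lf (Fc.ed (nat_lit 1190) (nat_lit 380) Col.b (nat_lit 253) (Dv.wd (nat_lit 114) [Mv.b (nat_lit 866), Mv.f (nat_lit 861), Mv.f (nat_lit 1188)])))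
(Tr.lf (Fc.ed (nat_lit 1191) (nat_lit 380) Col.c (nat_lit 380) (Dv.wd (nat_lit 91) [Mv.b (nat_lit 1188), Mv.f (nat_lit 865), Mv.f (nat_lit 1188)]))))
(Tr.nd (nat_lit 1193) (Tr.lf (Fc.ed (nat_lit 1192) (nat_lit 380) Col.d (nat_lit 267) (Dv.wd (nat_lit 92) [Mv.f (nat_lit 898), Mv.f (nat_lit 880), Mv.f (nat_lit 1188)])))
(Tr.lf (Fc.ed (nat_lit 1193) (nat_lit 380) Col.h (nat_lit 380) (Dv.wd (nat_lit 115) [Mv.b (nat_lit 1188), Mv.f (nat_lit 863), Mv.f (nat_lit 1188)]))))))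
(Tr.nd (nat_lit 1198) (Tr.nd (nat_lit 1196) (Tr.nd (nat_lit 1195) (Tr.lf (Fc.al (nat_lit 1194) (nat_lit 279) (nat_lit 142) (Dv.wd (nat_lit 185) [Mv.f (nat_lit 534), Mv.f (nat_lit 523), Mv.b (nat_lit 900), Mv.f (nat_lit 901), Mv.b (nat_lit 883), Mv.b (nat_lit 472), Mv.f (nat_lit 788), Mv.f (nat_lit 419), Mv.b (nat_lit 199), Mv.b (nat_lit 195), Mv.f (nat_lit 192), Mv.f (nat_lit 193), Mv.f (nat_lit 190), Mv.f (nat_lit 438), Mv.f (nat_lit 851), Mv.f (nat_lit 853), Mv.f (nat_lit 852), Mv.b (nat_lit 862), Mv.f (nat_lit 1188), Mv.f (nat_lit 1193), Mv.f (nat_lit 1189), Mv.f (nat_lit 1190), Mv.b (nat_lit 1169), Mv.f (nat_lit 1170), Mv.f (nat_lit 1171), Mv.b (nat_lit 1168), Mv.f (nat_lit 838), Mv.f (nat_lit 835), Mv.b (nat_lit 841), Mv.f (nat_lit 842), Mv.f (nat_lit 843), Mv.b (nat_lit 840), Mv.f (nat_lit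 413), Mv.f (nat_lit 414), Mv.f (nat_lit 415), Mv.b (nat_lit 411), Mv.f (nat_lit 189), Mv.f (nat_lit 194), Mv.f (nat_lit 195), Mv.f (nat_lit 450), Mv.f (nat_lit 452), Mv.b (nat_lit 867), Mv.b (nat_lit 1190), Mv.f (nat_lit 1191), Mv.f (nat_lit 1192), Mv.b (nat_lit 908), Mv.f (nat_lit 909), Mv.b (nat_lit 915), Mv.f (nat_lit 916), Mv.b (nat_lit 914), Mv.f (nat_lit 515), Mv.b (nat_lit 523), Mv.f (nat_lit 524), Mv.f (nat_lit 525), Mv.f (nat_lit 526), Mv.b (nat_lit 522), Mv.f (nat_lit 794), Mv.f (nat_lit 218), Mv.f (nat_lit 423), Mv.f (nat_lit 492), Mv.f (nat_lit 221), Mv.f (nat_lit 456), Mv.f (nat_lit 533), Mv.f (nat_lit 925)])))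
(Tr.lf (Fc.al (nat_lit 1195) (nat_lit 46) (nat_lit 281) (Dv.wd (nat_lit 180) [Mv.f (nat_lit 930), Mv.f (nat_lit 1194), Mv.b (nat_lit 533)]))))
(Tr.nd (nat_lit 1197) (Tr.lf (Fc.al (nat_lit 1196) (nat_lit 47) (nat_lit 145) (Dv.wd (nat_lit 162) [Mv.f (nat_lit 929), Mv.b (nat_lit 1195), Mv.f (nat_lit 222)])))
(Tr.lf (Fc.al (nat_lit 1197) (nat_lit 48) (nat_lit 148) (Dv.wd (nat_lit 163) [Mv.f (nat_lit 545), Mv.b (nat_lit 1196), Mv.f (nat_lit 226)])))))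
(Tr.nd (nat_lit 1200) (Tr.nd (nat_lit 1199) (Tr.lf (Fc.al (nat_lit 1198) (nat_lit 49) (nat_lit 151) (Dv.wd (nat_lit 159) [Mv.f (nat_lit 551), Mv.b (nat_lit 1197), Mv.f (nat_lit 230)])))
(Tr.lf (Fc.al (nat_lit 1199) (nat_lit 50) (nat_lit 155) (Dv.wd (nat_lit 160) [Mv.f (nat_lit 559), Mv.b (nat_lit 1198), Mv.f (nat_lit 234)]))))
(Tr.nd (nat_lit 1201) (Tr.lf (Fc.al (nat_lit 1200) (nat_lit 157) (nat_lit 283) (Dv.wd (nat_lit 161) [Mv.b (nat_lit 933), Mv.b (nat_lit 1199), Mv.f (nat_lit 563)])))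
(Tr.lf (Fc.al (nat_lit 1201) (nat_lit 52) (nat_lit 162) (Dv.wd (nat_lit 158) [Mv.b (nat_lit 934), Mv.b (nat_lit 1200), Mv.f (nat_lit 564)]))))))))
(Tr.nd (nat_lit 1216) (Tr.nd (nat_lit 1209) (Tr.nd (nat_lit 1205) (Tr.nd (nat_lit 1203) (Tr.lf (Fc.al (nat_lit 1202) (nat_lit 163) (nat_lit 289) (Dv.wd (nat_lit 162) [Mv.b (nat_lit 955), Mv.b (nat_lit 1201), Mv.f (nat_lit 580)])))
(Tr.nd (nat_lit 1204) (Tr.lf (Fc.al (nat_lit 1203) (nat_lit 53) (nat_lit 165) (Dv.wd (nat_lit 160) [Mv.f (nat_lit 585), Mv.b (nat_lit 1201), Mv.f (nat_lit 244)])))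
(Tr.lf (Fc.al (nat_lit 1204) (nat_lit 166) (nat_lit 293) (Dv.wd (nat_lit 160) [Mv.f (nat_lit 964), Mv.b (nat_lit 1202), Mv.b (nat_lit 589)])))))
(Tr.nd (nat_lit 1207) (Tr.nd (nat_lit 1206) (Tr.lf (Fc.al (nat_lit 1205) (nat_lit 168) (nat_lit 294) (Dv.wd (nat_lit 169) [Mv.b (nat_lit 965), Mv.b (nat_lit 1203), Mv.f (nat_lit 591)])))
(Tr.lf (Fc.al (nat_lit 1206) (nat_lit 54) (nat_lit 170) (Dv.wd (nat_lit 159) [Mv.f (nat_lit 595), Mv.b (nat_lit 1203), Mv.f (nat_lit 247)]))))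
(Tr.nd (nat_lit 1208) (Tr.lf (Fc.al (nat_lit 1207) (nat_lit 171) (nat_lit 298) (Dv.wd (nat_lit 159) [Mv.f (nat_lit 975), Mv.b (nat_lit 1204), Mv.b (nat_lit 598)])))
(Tr.lf (Fc.al (nat_lit 1208) (nat_lit 173) (nat_lit 299) (Dv.wd (nat_lit 159) [Mv.f (nat_lit 977), Mv.b (nat_lit 1205), Mv.b (nat_lit 602)]))))))
(Tr.nd (nat_lit 1212) (Tr.nd (nat_lit 1210) (Tr.lf (Fc.al (nat_lit 1209) (nat_lit 55) (nat_lit 175) (Dv.wd (nat_lit 163) [Mv.f (nat_lit 607), Mv.b (nat_lit 1206), Mv.f (nat_lit 250)])))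
(Tr.nd (nat_lit 1211) (Tr.lf (Fc.al (nat_lit 1210) (nat_lit 176) (nat_lit 304) (Dv.wd (nat_lit 163) [Mv.f (nat_lit 993), Mv.b (nat_lit 1207), Mv.b (nat_lit 609)])))
(Tr.lf (Fc.al (nat_lit 1211) (nat_lit 186) (nat_lit 311) (Dv.wd (nat_lit 158) [Mv.f (nat_lit 1011), Mv.b (nat_lit 1208), Mv.b (nat_lit 632)])))))
(Tr.nd (nat_lit 1214) (Tr.nd (nat_lit 1213) (Tr.lf (Fc.ed (nat_lit 1212) (nat_lit 55) Col.a (nat_lit 55) (Dv.wd (nat_lit 180) [Mv.f (nat_lit 606), Mv.b (nat_lit 1209)])))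
(Tr.lf (Fc.al (nat_lit 1213) (nat_lit 180) (nat_lit 307) (Dv.wd (nat_lit 169) [Mv.f (nat_lit 1000), Mv.b (nat_lit 1210), Mv.b (nat_lit 619)]))))
(Tr.nd (nat_lit 1215) (Tr.lf (Fc.al (nat_lit 1214) (nat_lit 192) (nat_lit 320) (Dv.wd (nat_lit 160) [Mv.f (nat_lit 1039), Mv.b (nat_lit 1211), Mv.b (nat_lit 646)])))
(Tr.lf (Fc.al (nat_lit 1215) (nat_lit 183) (nat_lit 310) (Dv.wd (nat_lit 158) [Mv.f (nat_lit 1009), Mv.b (nat_lit 1213), Mv.b (nat_lit 626)])))))))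
(Tr.nd (nat_lit 1223) (Tr.nd (nat_lit 1219) (Tr.nd (nat_lit 1217) (Tr.lf (Fc.al (nat_lit 1216) (nat_lit 58) (nat_lit 187) (Dv.wd (nat_lit 163) [Mv.f (nat_lit 1038), Mv.b (nat_lit 1214), Mv.b (nat_lit 645)])))
(Tr.nd (nat_lit 1218) (Tr.lf (Fc.al (nat_lit 1217) (nat_lit 188) (nat_lit 318) (Dv.wd (nat_lit 160) [Mv.f (nat_lit 1035), Mv.b (nat_lit 1215), Mv.b (nat_lit 636)])))
(Tr.lf (Fc.al (nat_lit 1218) (nat_lit 189) (nat_lit 319) (Dv.wd (nat_lit 161) [Mv.b (nat_lit 1036), Mv.b (nat_lit 1216), Mv.f (nat_lit 638)])))))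
(Tr.nd (nat_lit 1221) (Tr.nd (nat_lit 1220) (Tr.lf (Fc.al (nat_lit 1219) (nat_lit 194) (nat_lit 326) (Dv.wd (nat_lit 159) [Mv.f (nat_lit 1051), Mv.b (nat_lit 1217), Mv.b (nat_lit 650)])))
(Tr.lf (Fc.ed (nat_lit 1220) (nat_lit 189) Col.a (nat_lit 189) (Dv.wd (nat_lit 180) [Mv.b (nat_lit 1037), Mv.b (nat_lit 1218)]))))
(Tr.nd (nat_lit 1222) (Tr.lf (Fc.al (nat_lit 1221) (nat_lit 195) (nat_lit 327) (Dv.wd (nat_lit 159) [Mv.f (nat_lit 1053), Mv.b (nat_lit 1218), Mv.b (nat_lit 654)])))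
(Tr.lf (Fc.al (nat_lit 1222) (nat_lit 198) (nat_lit 331) (Dv.wd (nat_lit 164) [Mv.f (nat_lit 1064), Mv.b (nat_lit 1219), Mv.b (nat_lit 663)]))))))
(Tr.nd (nat_lit 1227) (Tr.nd (nat_lit 1225) (Tr.nd (nat_lit 1224) (Tr.lf (Fc.al (nat_lit 1223) (nat_lit 199) (nat_lit 332) (Dv.wd (nat_lit 164) [Mv.f (nat_lit 1066), Mv.b (nat_lit 1221), Mv.b (nat_lit 665)])))
(Tr.lf (Fc.al (nat_lit 1224) (nat_lit 201) (nat_lit 335) (Dv.wd (nat_lit 169) [Mv.f (nat_lit 1074), Mv.b (nat_lit 1222), Mv.b (nat_lit 671)]))))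
(Tr.nd (nat_lit 1226) (Tr.lf (Fc.al (nat_lit 1225) (nat_lit 202) (nat_lit 336) (Dv.wd (nat_lit 169) [Mv.f (nat_lit 1077), Mv.b (nat_lit 1223), Mv.b (nat_lit 673)])))
(Tr.lf (Fc.al (nat_lit 1226) (nat_lit 205) (nat_lit 340) (Dv.wd (nat_lit 158) [Mv.f (nat_lit 1086), Mv.b (nat_lit 1224), Mv.b (nat_lit 681)])))))
(Tr.nd (nat_lit 1229) (Tr.nd (nat_lit 1228) (Tr.lf (Fc.ed (nat_lit 1227) (nat_lit 202) Col.a (nat_lit 202) (Dv.wd (nat_lit 180) [Mv.b (nat_lit 1076), Mv.b (nat_lit 1225)])))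
(Tr.lf (Fc.al (nat_lit 1228) (nat_lit 64) (nat_lit 343) (Dv.wd (nat_lit 160) [Mv.f (nat_lit 1094), Mv.b (nat_lit 1226), Mv.f (nat_lit 680)]))))
(Tr.nd (nat_lit 1230) (Tr.lf (Fc.al (nat_lit 1229) (nat_lit 209) (nat_lit 345) (Dv.wd (nat_lit 180) [Mv.f (nat_lit 1098), Mv.b (nat_lit 1228), Mv.f (nat_lit 688)])))
(Tr.lf (Fc.ed (nat_lit 1230) (nat_lit 209) Col.b (nat_lit 209) (Dv.wd (nat_lit 162) [Mv.f (nat_lit 1097), Mv.b (nat_lit 1229)])))))))))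
(Tr.nd (nat_lit 1260) (Tr.nd (nat_lit 1245) (Tr.nd (nat_lit 1238) (Tr.nd (nat_lit 1234) (Tr.nd (nat_lit 1232) (Tr.lf (Fc.ed (nat_lit 1231) (nat_lit 341) Col.b (nat_lit 341) (Dv.wd (nat_lit 54) [Mv.f (nat_lit 1088), Mv.f (nat_lit 1230), Mv.b (nat_lit 1088)])))
(Tr.nd (nat_lit 1233) (Tr.lf (Fc.ed (nat_lit 1232) (nat_lit 337) Col.b (nat_lit 337) (Dv.wd (nat_lit 55) [Mv.b (nat_lit 1089), Mv.f (nat_lit 1231), Mv.f (nat_lit 1089)])))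
(Tr.lf (Fc.ed (nat_lit 1233) (nat_lit 333) Col.b (nat_lit 333) (Dv.wd (nat_lit 125) [Mv.b (nat_lit 1080), Mv.f (nat_lit 1232), Mv.f (nat_lit 1080)])))))
(Tr.nd (nat_lit 1236) (Tr.nd (nat_lit 1235) (Tr.lf (Fc.ed (nat_lit 1234) (nat_lit 328) Col.b (nat_lit 328) (Dv.wd (nat_lit 127) [Mv.b (nat_lit 1070), Mv.f (nat_lit 1233), Mv.f (nat_lit 1070)])))
(Tr.lf (Fc.ed (nat_lit 1235) (nat_lit 321) Col.b (nat_lit 321) (Dv.wd (nat_lit 57) [Mv.b (nat_lit 1055), Mv.f (nat_lit 1234), Mv.f (nat_lit 1055)]))))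
(Tr.nd (nat_lit 1237) (Tr.lf (Fc.ed (nat_lit 1236) (nat_lit 312) Col.b (nat_lit 312) (Dv.wd (nat_lit 54) [Mv.b (nat_lit 1041), Mv.f (nat_lit 1235), Mv.f (nat_lit 1041)])))
(Tr.lf (Fc.ed (nat_lit 1237) (nat_lit 308) Col.b (nat_lit 308) (Dv.wd (nat_lit 55) [Mv.b (nat_lit 1013), Mv.f (nat_lit 1236), Mv.f (nat_lit 1013)]))))))
(Tr.nd (nat_lit 1241) (Tr.nd (nat_lit 1239) (Tr.lf (Fc.ed (nat_lit 1238) (nat_lit 305) Col.b (nat_lit 305) (Dv.wd (nat_lit 125) [Mv.b (nat_lit 1003), Mv.f (nat_lit 1237), Mv.f (nat_lit 1003)])))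
(Tr.nd (nat_lit 1240) (Tr.lf (Fc.ed (nat_lit 1239) (nat_lit 300) Col.b (nat_lit 300) (Dv.wd (nat_lit 71) [Mv.b (nat_lit 996), Mv.f (nat_lit 1238), Mv.f (nat_lit 996)])))
(Tr.lf (Fc.ed (nat_lit 1240) (nat_lit 295) Col.b (nat_lit 295) (Dv.wd (nat_lit 57) [Mv.b (nat_lit 982), Mv.f (nat_lit 1239), Mv.f (nat_lit 982)])))))
(Tr.nd (nat_lit 1243) (Tr.nd (nat_lit 1242) (Tr.lf (Fc.ed (nat_lit 1241) (nat_lit 290) Col.b (nat_lit 290) (Dv.wd (nat_lit 54) [Mv.b (nat_lit 968), Mv.f (nat_lit 1240), Mv.f (nat_lit 968)])))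
(Tr.lf (Fc.ed (nat_lit 1242) (nat_lit 338) Col.a (nat_lit 338) (Dv.wd (nat_lit 67) [Mv.b (nat_lit 1081), Mv.f (nat_lit 1227), Mv.f (nat_lit 1081)]))))
(Tr.nd (nat_lit 1244) (Tr.lf (Fc.ed (nat_lit 1243) (nat_lit 334) Col.a (nat_lit 334) (Dv.wd (nat_lit 186) [Mv.b (nat_lit 1082), Mv.f (nat_lit 1242), Mv.f (nat_lit 1082)])))
(Tr.lf (Fc.ed (nat_lit 1244) (nat_lit 330) Col.a (nat_lit 330) (Dv.wd (nat_lit 187) [Mv.b (nat_lit 1072), Mv.f (nat_lit 1243), Mv.f (nat_lit 1072)])))))))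
(Tr.nd (nat_lit 1252) (Tr.nd (nat_lit 1248) (Tr.nd (nat_lit 1246) (Tr.lf (Fc.ed (nat_lit 1245) (nat_lit 254) Col.i (nat_lit 381) Dv.df))
(Tr.nd (nat_lit 1247) (Tr.lf (Fc.ed (nat_lit 1246) (nat_lit 381) Col.b (nat_lit 364) (Dv.wd (nat_lit 144) [Mv.b (nat_lit 1153), Mv.f (nat_lit 1152), Mv.f (nat_lit 1245)])))
(Tr.lf (Fc.ed (nat_lit 1247) (nat_lit 255) Col.h (nat_lit 382) Dv.df))))
(Tr.nd (nat_lit 1250) (Tr.nd (nat_lit 1249) (Tr.lf (Fc.ed (nat_lit 1248) (nat_lit 382) Col.e (nat_lit 378) (Dv.wd (nat_lit 103) [Mv.b (nat_lit 1182), Mv.b (nat_lit 871), Mv.f (nat_lit 1247)])))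
(Tr.lf (Fc.ed (nat_lit 1249) (nat_lit 256) Col.h (nat_lit 383) Dv.df)))
(Tr.nd (nat_lit 1251) (Tr.lf (Fc.ed (nat_lit 1250) (nat_lit 257) Col.h (nat_lit 384) Dv.df))
(Tr.lf (Fc.ed (nat_lit 1251) (nat_lit 384) Col.e (nat_lit 379) (Dv.wd (nat_lit 103) [Mv.b (nat_lit 1184), Mv.b (nat_lit 875), Mv.f (nat_lit 1250)]))))))
(Tr.nd (nat_lit 1256) (Tr.nd (nat_lit 1254) (Tr.nd (nat_lit 1253) (Tr.lf (Fc.ed (nat_lit 1252) (nat_lit 258) Col.b (nat_lit 385) Dv.df))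
(Tr.lf (Fc.ed (nat_lit 1253) (nat_lit 385) Col.k (nat_lit 259) (Dv.wd (nat_lit 74) [Mv.b (nat_lit 879), Mv.f (nat_lit 877), Mv.f (nat_lit 1252)]))))
(Tr.nd (nat_lit 1255) (Tr.lf (Fc.ed (nat_lit 1254) (nat_lit 385) Col.g (nat_lit 366) (Dv.wd (nat_lit 75) [Mv.b (nat_lit 1156), Mv.f (nat_lit 1157), Mv.f (nat_lit 1252)])))
(Tr.lf (Fc.ed (nat_lit 1255) (nat_lit 259) Col.c (nat_lit 386) Dv.df))))
(Tr.nd (nat_lit 1258) (Tr.nd (nat_lit 1257) (Tr.lf (Fc.ed (nat_lit 1256) (nat_lit 259) Col.g (nat_lit 387) Dv.df))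
(Tr.lf (Fc.ed (nat_lit 1257) (nat_lit 387) Col.b (nat_lit 260) (Dv.wd (nat_lit 146) [Mv.b (nat_lit 881), Mv.f (nat_lit 879), Mv.f (nat_lit 1256)]))))
(Tr.nd (nat_lit 1259) (Tr.lf (Fc.ed (nat_lit 1258) (nat_lit 260) Col.h (nat_lit 388) Dv.df))
(Tr.lf (Fc.ed (nat_lit 1259) (nat_lit 388) Col.a (nat_lit 263) (Dv.wd (nat_lit 124) [Mv.b (nat_lit 886), Mv.b (nat_lit 882), Mv.f (nat_lit 1258)]))))))))
(Tr.nd (nat_lit 1275) (Tr.nd (nat_lit 1267) (Tr.nd (nat_lit 1263) (Tr.nd (nat_lit 1261) (Tr.lf (Fc.ed (nat_lit 1260) (nat_lit 261) Col.i (nat_lit 389) Dv.df))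
(Tr.nd (nat_lit 1262) (Tr.lf (Fc.ed (nat_lit 1261) (nat_lit 262) Col.h (nat_lit 390) Dv.df))
(Tr.lf (Fc.ed (nat_lit 1262) (nat_lit 263) Col.i (nat_lit 391) Dv.df))))
(Tr.nd (nat_lit 1265) (Tr.nd (nat_lit 1264) (Tr.lf (Fc.ed (nat_lit 1263) (nat_lit 391) Col.l (nat_lit 391) (Dv.wd (nat_lit 110) [Mv.b (nat_lit 1262), Mv.f (nat_lit 887), Mv.f (nat_lit 1262)])))
(Tr.lf (Fc.ed (nat_lit 1264) (nat_lit 391) Col.d (nat_lit 391) (Dv.wd (nat_lit 142) [Mv.b (nat_lit 1262), Mv.f (nat_lit 891), Mv.f (nat_lit 1262)]))))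
(Tr.nd (nat_lit 1266) (Tr.lf (Fc.ed (nat_lit 1265) (nat_lit 391) Col.e (nat_lit 391) (Dv.wd (nat_lit 143) [Mv.b (nat_lit 1262), Mv.f (nat_lit 888), Mv.f (nat_lit 1262)])))
(Tr.lf (Fc.ed (nat_lit 1266) (nat_lit 391) Col.f (nat_lit 391) (Dv.wd (nat_lit 112) [Mv.b (nat_lit 1262), Mv.f (nat_lit 889), Mv.f (nat_lit 1262)]))))))
(Tr.nd (nat_lit 1271) (Tr.nd (nat_lit 1269) (Tr.nd (nat_lit 1268) (Tr.lf (Fc.ed (nat_lit 1267) (nat_lit 391) Col.g (nat_lit 265) (Dv.wd (nat_lit 176) [Mv.b (nat_lit 895), Mv.b (nat_lit 890), Mv.f (nat_lit 1262)])))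
(Tr.lf (Fc.ed (nat_lit 1268) (nat_lit 264) Col.h (nat_lit 392) Dv.df)))
(Tr.nd (nat_lit 1270) (Tr.lf (Fc.ed (nat_lit 1269) (nat_lit 392) Col.g (nat_lit 266) (Dv.wd (nat_lit 126) [Mv.b (nat_lit 896), Mv.b (nat_lit 894), Mv.f (nat_lit 1268)])))
(Tr.lf (Fc.ed (nat_lit 1270) (nat_lit 265) Col.h (nat_lit 393) Dv.df))))
(Tr.nd (nat_lit 1273) (Tr.nd (nat_lit 1272) (Tr.lf (Fc.ed (nat_lit 1271) (nat_lit 266) Col.d (nat_lit 394) Dv.df))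
(Tr.lf (Fc.ed (nat_lit 1272) (nat_lit 268) Col.i (nat_lit 395) Dv.df)))
(Tr.nd (nat_lit 1274) (Tr.lf (Fc.ed (nat_lit 1273) (nat_lit 395) Col.e (nat_lit 275) (Dv.wd (nat_lit 143) [Mv.b (nat_lit 917), Mv.b (nat_lit 900), Mv.f (nat_lit 1272)])))
(Tr.lf (Fc.ed (nat_lit 1274) (nat_lit 395) Col.f (nat_lit 389) (Dv.wd (nat_lit 112) [Mv.b (nat_lit 1260), Mv.b (nat_lit 901), Mv.f (nat_lit 1272)])))))))
(Tr.nd (nat_lit 1282) (Tr.nd (nat_lit 1278) (Tr.nd (nat_lit 1276) (Tr.lf (Fc.ed (nat_lit 1275) (nat_lit 269) Col.h (nat_lit 396) Dv.df))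
(Tr.nd (nat_lit 1277) (Tr.lf (Fc.ed (nat_lit 1276) (nat_lit 396) Col.e (nat_lit 276) (Dv.wd (nat_lit 103) [Mv.b (nat_lit 919), Mv.b (nat_lit 903), Mv.f (nat_lit 1275)])))
(Tr.lf (Fc.ed (nat_lit 1277) (nat_lit 396) Col.f (nat_lit 393) (Dv.wd (nat_lit 104) [Mv.b (nat_lit 1270), Mv.b (nat_lit 904), Mv.f (nat_lit 1275)])))))
(Tr.nd (nat_lit 1280) (Tr.nd (nat_lit 1279) (Tr.lf (Fc.ed (nat_lit 1278) (nat_lit 396) Col.i (nat_lit 270) (Dv.wd (nat_lit 177) [Mv.b (nat_lit 905), Mv.b (nat_lit 502), Mv.f (nat_lit 487), Mv.f (nat_lit 902), Mv.f (nat_lit 1275)])))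
(Tr.lf (Fc.ed (nat_lit 1279) (nat_lit 270) Col.d (nat_lit 397) Dv.df)))
(Tr.nd (nat_lit 1281) (Tr.lf (Fc.ed (nat_lit 1280) (nat_lit 397) Col.f (nat_lit 394) (Dv.wd (nat_lit 37) [Mv.b (nat_lit 1271), Mv.b (nat_lit 906), Mv.f (nat_lit 1279)])))
(Tr.lf (Fc.ed (nat_lit 1281) (nat_lit 272) Col.h (nat_lit 398) Dv.df)))))
(Tr.nd (nat_lit 1286) (Tr.nd (nat_lit 1284) (Tr.nd (nat_lit 1283) (Tr.lf (Fc.ed (nat_lit 1282) (nat_lit 398) Col.a (nat_lit 273) (Dv.wd (nat_lit 124) [Mv.b (nat_lit 912), Mv.b (nat_lit 911), Mv.f (nat_lit 1281)])))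
(Tr.lf (Fc.ed (nat_lit 1283) (nat_lit 273) Col.d (nat_lit 399) Dv.df)))
(Tr.nd (nat_lit 1285) (Tr.lf (Fc.ed (nat_lit 1284) (nat_lit 399) Col.h (nat_lit 399) (Dv.wd (nat_lit 105) [Mv.b (nat_lit 1283), Mv.b (nat_lit 912), Mv.f (nat_lit 512), Mv.f (nat_lit 912), Mv.f (nat_lit 1283)])))
(Tr.lf (Fc.ed (nat_lit 1285) (nat_lit 275) Col.h (nat_lit 400) Dv.df))))
(Tr.nd (nat_lit 1288) (Tr.nd (nat_lit 1287) (Tr.lf (Fc.ed (nat_lit 1286) (nat_lit 400) Col.a (nat_lit 276) (Dv.wd (nat_lit 124) [Mv.b (nat_lit 919), Mv.b (nat_lit 918), Mv.f (nat_lit 1285)])))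
(Tr.lf (Fc.ed (nat_lit 1287) (nat_lit 400) Col.i (nat_lit 398) (Dv.wd (nat_lit 177) [Mv.b (nat_lit 1281), Mv.b (nat_lit 910), Mv.b (nat_lit 516), Mv.f (nat_lit 917), Mv.f (nat_lit 1285)]))))
(Tr.nd (nat_lit 1289) (Tr.lf (Fc.ed (nat_lit 1288) (nat_lit 276) Col.d (nat_lit 401) Dv.df))
(Tr.lf (Fc.ed (nat_lit 1289) (nat_lit 401) Col.i (nat_lit 399) (Dv.wd (nat_lit 135) [Mv.b (nat_lit 1283), Mv.b (nat_lit 920), Mv.f (nat_lit 1288)]))))))))))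
(Tr.nd (nat_lit 1349) (Tr.nd (nat_lit 1319) (Tr.nd (nat_lit 1304) (Tr.nd (nat_lit 1297) (Tr.nd (nat_lit 1293) (Tr.nd (nat_lit 1291) (Tr.lf (Fc.ed (nat_lit 1290) (nat_lit 277) Col.h (nat_lit 402) Dv.df))
(Tr.nd (nat_lit 1292) (Tr.lf (Fc.ed (nat_lit 1291) (nat_lit 402) Col.c (nat_lit 282) (Dv.wd (nat_lit 102) [Mv.f (nat_lit 932), Mv.f (nat_lit 928), Mv.f (nat_lit 1290)])))
(Tr.lf (Fc.ed (nat_lit 1292) (nat_lit 278) Col.d (nat_lit 403) Dv.df))))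
(Tr.nd (nat_lit 1295) (Tr.nd (nat_lit 1294) (Tr.lf (Fc.ed (nat_lit 1293) (nat_lit 403) Col.h (nat_lit 401) (Dv.wd (nat_lit 105) [Mv.b (nat_lit 1288), Mv.b (nat_lit 919), Mv.b (nat_lit 532), Mv.f (nat_lit 923), Mv.f (nat_lit 1292)])))
(Tr.lf (Fc.ed (nat_lit 1294) (nat_lit 284) Col.c (nat_lit 404) Dv.df)))
(Tr.nd (nat_lit 1296) (Tr.lf (Fc.ed (nat_lit 1295) (nat_lit 404) Col.f (nat_lit 404) (Dv.wd (nat_lit 36) [Mv.b (nat_lit 1294), Mv.f (nat_lit 937), Mv.f (nat_lit 1294)])))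
(Tr.lf (Fc.ed (nat_lit 1296) (nat_lit 285) Col.b (nat_lit 405) Dv.df)))))
(Tr.nd (nat_lit 1300) (Tr.nd (nat_lit 1298) (Tr.lf (Fc.ed (nat_lit 1297) (nat_lit 405) Col.e (nat_lit 291) (Dv.wd (nat_lit 40) [Mv.f (nat_lit 959), Mv.f (nat_lit 952), Mv.f (nat_lit 1296)])))
(Tr.nd (nat_lit 1299) (Tr.lf (Fc.ed (nat_lit 1298) (nat_lit 285) Col.d (nat_lit 406) Dv.df))
(Tr.lf (Fc.ed (nat_lit 1299) (nat_lit 406) Col.c (nat_lit 403) (Dv.wd (nat_lit 83) [Mv.b (nat_lit 1292), Mv.f (nat_lit 924), Mv.b (nat_lit 561), Mv.f (nat_lit 938), Mv.f (nat_lit 1298)])))))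
(Tr.nd (nat_lit 1302) (Tr.nd (nat_lit 1301) (Tr.lf (Fc.ed (nat_lit 1300) (nat_lit 287) Col.c (nat_lit 407) Dv.df))
(Tr.lf (Fc.ed (nat_lit 1301) (nat_lit 407) Col.l (nat_lit 407) (Dv.wd (nat_lit 77) [Mv.b (nat_lit 1300), Mv.f (nat_lit 944), Mv.f (nat_lit 1300)]))))
(Tr.nd (nat_lit 1303) (Tr.lf (Fc.ed (nat_lit 1302) (nat_lit 407) Col.a (nat_lit 288) (Dv.wd (nat_lit 181) [Mv.b (nat_lit 950), Mv.f (nat_lit 943), Mv.f (nat_lit 1300)])))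
(Tr.lf (Fc.ed (nat_lit 1303) (nat_lit 407) Col.e (nat_lit 404) (Dv.wd (nat_lit 41) [Mv.b (nat_lit 1294), Mv.b (nat_lit 946), Mv.f (nat_lit 1300)])))))))
(Tr.nd (nat_lit 1311) (Tr.nd (nat_lit 1307) (Tr.nd (nat_lit 1305) (Tr.lf (Fc.ed (nat_lit 1304) (nat_lit 407) Col.g (nat_lit 407) (Dv.wd (nat_lit 79) [Mv.b (nat_lit 1300), Mv.f (nat_lit 947), Mv.f (nat_lit 1300)])))
(Tr.nd (nat_lit 1306) (Tr.lf (Fc.ed (nat_lit 1305) (nat_lit 407) Col.h (nat_lit 407) (Dv.wd (nat_lit 30) [Mv.b (nat_lit 1300), Mv.f (nat_lit 948), Mv.f (nat_lit 1300)])))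
(Tr.lf (Fc.ed (nat_lit 1306) (nat_lit 407) Col.i (nat_lit 407) (Dv.wd (nat_lit 137) [Mv.b (nat_lit 1300), Mv.f (nat_lit 949), Mv.f (nat_lit 1300)])))))
(Tr.nd (nat_lit 1309) (Tr.nd (nat_lit 1308) (Tr.lf (Fc.ed (nat_lit 1307) (nat_lit 288) Col.d (nat_lit 408) Dv.df))
(Tr.lf (Fc.ed (nat_lit 1308) (nat_lit 408) Col.l (nat_lit 408) (Dv.wd (nat_lit 80) [Mv.b (nat_lit 1307), Mv.f (nat_lit 951), Mv.f (nat_lit 1307)]))))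
(Tr.nd (nat_lit 1310) (Tr.lf (Fc.ed (nat_lit 1309) (nat_lit 408) Col.i (nat_lit 408) (Dv.wd (nat_lit 135) [Mv.b (nat_lit 1307), Mv.f (nat_lit 954), Mv.f (nat_lit 1307)])))
(Tr.lf (Fc.ed (nat_lit 1310) (nat_lit 408) Col.c (nat_lit 408) (Dv.wd (nat_lit 83) [Mv.b (nat_lit 1307), Mv.b (nat_lit 950), Mv.f (nat_lit 572), Mv.f (nat_lit 950), Mv.f (nat_lit 1307)]))))))
(Tr.nd (nat_lit 1315) (Tr.nd (nat_lit 1313) (Tr.nd (nat_lit 1312) (Tr.lf (Fc.ed (nat_lit 1311) (nat_lit 288) Col.f (nat_lit 409) Dv.df))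
(Tr.lf (Fc.ed (nat_lit 1312) (nat_lit 409) Col.h (nat_lit 409) (Dv.wd (nat_lit 115) [Mv.b (nat_lit 1311), Mv.f (nat_lit 953), Mv.f (nat_lit 1311)]))))
(Tr.nd (nat_lit 1314) (Tr.lf (Fc.ed (nat_lit 1313) (nat_lit 409) Col.e (nat_lit 409) (Dv.wd (nat_lit 93) [Mv.b (nat_lit 1311), Mv.f (nat_lit 952), Mv.f (nat_lit 939), Mv.b (nat_lit 952), Mv.f (nat_lit 1311)])))
(Tr.lf (Fc.ed (nat_lit 1314) (nat_lit 290) Col.c (nat_lit 410) Dv.df))))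
(Tr.nd (nat_lit 1317) (Tr.nd (nat_lit 1316) (Tr.lf (Fc.ed (nat_lit 1315) (nat_lit 410) Col.a (nat_lit 291) (Dv.wd (nat_lit 181) [Mv.b (nat_lit 958), Mv.f (nat_lit 956), Mv.f (nat_lit 1314)])))
(Tr.lf (Fc.ed (nat_lit 1316) (nat_lit 410) Col.g (nat_lit 410) (Dv.wd (nat_lit 79) [Mv.b (nat_lit 1314), Mv.f (nat_lit 957), Mv.f (nat_lit 1314)]))))
(Tr.nd (nat_lit 1318) (Tr.lf (Fc.ed (nat_lit 1317) (nat_lit 290) Col.f (nat_lit 411) Dv.df))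
(Tr.lf (Fc.ed (nat_lit 1318) (nat_lit 411) Col.a (nat_lit 292) (Dv.wd (nat_lit 113) [Mv.b (nat_lit 960), Mv.f (nat_lit 956), Mv.f (nat_lit 1317)]))))))))
(Tr.nd (nat_lit 1334) (Tr.nd (nat_lit 1326) (Tr.nd (nat_lit 1322) (Tr.nd (nat_lit 1320) (Tr.lf (Fc.ed (nat_lit 1319) (nat_lit 411) Col.b (nat_lit 411) (Dv.wd (nat_lit 114) [Mv.b (nat_lit 1317), Mv.f (nat_lit 1241), Mv.f (nat_lit 1317)])))
(Tr.nd (nat_lit 1321) (Tr.lf (Fc.ed (nat_lit 1320) (nat_lit 291) Col.d (nat_lit 412) Dv.df))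
(Tr.lf (Fc.ed (nat_lit 1321) (nat_lit 412) Col.b (nat_lit 408) (Dv.wd (nat_lit 183) [Mv.b (nat_lit 1307), Mv.b (nat_lit 959), Mv.f (nat_lit 1320)])))))
(Tr.nd (nat_lit 1324) (Tr.nd (nat_lit 1323) (Tr.lf (Fc.ed (nat_lit 1322) (nat_lit 292) Col.g (nat_lit 413) Dv.df))
(Tr.lf (Fc.ed (nat_lit 1323) (nat_lit 413) Col.e (nat_lit 413) (Dv.wd (nat_lit 98) [Mv.b (nat_lit 1322), Mv.f (nat_lit 962), Mv.f (nat_lit 1322)]))))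
(Tr.nd (nat_lit 1325) (Tr.lf (Fc.ed (nat_lit 1324) (nat_lit 413) Col.h (nat_lit 413) (Dv.wd (nat_lit 140) [Mv.b (nat_lit 1322), Mv.f (nat_lit 961), Mv.f (nat_lit 1322)])))
(Tr.lf (Fc.ed (nat_lit 1325) (nat_lit 413) Col.f (nat_lit 413) (Dv.wd (nat_lit 99) [Mv.b (nat_lit 1322), Mv.b (nat_lit 960), Mv.f (nat_lit 781), Mv.f (nat_lit 960), Mv.f (nat_lit 1322)]))))))
(Tr.nd (nat_lit 1330) (Tr.nd (nat_lit 1328) (Tr.nd (nat_lit 1327) (Tr.lf (Fc.ed (nat_lit 1326) (nat_lit 295) Col.k (nat_lit 414) Dv.df))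
(Tr.lf (Fc.ed (nat_lit 1327) (nat_lit 414) Col.e (nat_lit 414) (Dv.wd (nat_lit 24) [Mv.b (nat_lit 1326), Mv.f (nat_lit 969), Mv.f (nat_lit 1326)]))))
(Tr.nd (nat_lit 1329) (Tr.lf (Fc.ed (nat_lit 1328) (nat_lit 414) Col.a (nat_lit 414) (Dv.wd (nat_lit 120) [Mv.b (nat_lit 1326), Mv.b (nat_lit 966), Mv.f (nat_lit 588), Mv.f (nat_lit 966), Mv.f (nat_lit 1326)])))
(Tr.lf (Fc.ed (nat_lit 1329) (nat_lit 295) Col.c (nat_lit 415) Dv.df))))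
(Tr.nd (nat_lit 1332) (Tr.nd (nat_lit 1331) (Tr.lf (Fc.ed (nat_lit 1330) (nat_lit 415) Col.a (nat_lit 296) (Dv.wd (nat_lit 181) [Mv.b (nat_lit 970), Mv.f (nat_lit 966), Mv.f (nat_lit 1329)])))
(Tr.lf (Fc.ed (nat_lit 1331) (nat_lit 296) Col.d (nat_lit 416) Dv.df)))
(Tr.nd (nat_lit 1333) (Tr.lf (Fc.ed (nat_lit 1332) (nat_lit 416) Col.c (nat_lit 412) (Dv.wd (nat_lit 83) [Mv.b (nat_lit 1320), Mv.b (nat_lit 958), Mv.b (nat_lit 589), Mv.f (nat_lit 970), Mv.f (nat_lit 1331)])))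
(Tr.lf (Fc.ed (nat_lit 1333) (nat_lit 296) Col.f (nat_lit 417) Dv.df))))))
(Tr.nd (nat_lit 1341) (Tr.nd (nat_lit 1337) (Tr.nd (nat_lit 1335) (Tr.lf (Fc.ed (nat_lit 1334) (nat_lit 417) Col.b (nat_lit 417) (Dv.wd (nat_lit 114) [Mv.b (nat_lit 1333), Mv.f (nat_lit 971), Mv.f (nat_lit 1333)])))
(Tr.nd (nat_lit 1336) (Tr.lf (Fc.ed (nat_lit 1335) (nat_lit 417) Col.c (nat_lit 297) (Dv.wd (nat_lit 91) [Mv.b (nat_lit 972), Mv.f (nat_lit 970), Mv.f (nat_lit 1333)])))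
(Tr.lf (Fc.ed (nat_lit 1336) (nat_lit 297) Col.e (nat_lit 418) Dv.df))))
(Tr.nd (nat_lit 1339) (Tr.nd (nat_lit 1338) (Tr.lf (Fc.ed (nat_lit 1337) (nat_lit 418) Col.h (nat_lit 315) (Dv.wd (nat_lit 107) [Mv.f (nat_lit 1021), Mv.f (nat_lit 988), Mv.f (nat_lit 1336)])))
(Tr.lf (Fc.ed (nat_lit 1338) (nat_lit 418) Col.d (nat_lit 418) (Dv.wd (nat_lit 88) [Mv.b (nat_lit 1336), Mv.f (nat_lit 973), Mv.f (nat_lit 962), Mv.b (nat_lit 973), Mv.f (nat_lit 1336)]))))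
(Tr.nd (nat_lit 1340) (Tr.lf (Fc.ed (nat_lit 1339) (nat_lit 297) Col.g (nat_lit 419) Dv.df))
(Tr.lf (Fc.ed (nat_lit 1340) (nat_lit 419) Col.d (nat_lit 413) (Dv.wd (nat_lit 97) [Mv.b (nat_lit 1322), Mv.b (nat_lit 973), Mv.f (nat_lit 1339)]))))))
(Tr.nd (nat_lit 1345) (Tr.nd (nat_lit 1343) (Tr.nd (nat_lit 1342) (Tr.lf (Fc.ed (nat_lit 1341) (nat_lit 419) Col.f (nat_lit 419) (Dv.wd (nat_lit 99) [Mv.b (nat_lit 1339), Mv.b (nat_lit 972), Mv.f (nat_lit 780), Mv.f (nat_lit 972), Mv.f (nat_lit 1339)])))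
(Tr.lf (Fc.ed (nat_lit 1342) (nat_lit 300) Col.k (nat_lit 420) Dv.df)))
(Tr.nd (nat_lit 1344) (Tr.lf (Fc.ed (nat_lit 1343) (nat_lit 420) Col.h (nat_lit 414) (Dv.wd (nat_lit 27) [Mv.b (nat_lit 1326), Mv.b (nat_lit 982), Mv.f (nat_lit 1342)])))
(Tr.lf (Fc.ed (nat_lit 1344) (nat_lit 300) Col.c (nat_lit 421) Dv.df))))
(Tr.nd (nat_lit 1347) (Tr.nd (nat_lit 1346) (Tr.lf (Fc.ed (nat_lit 1345) (nat_lit 421) Col.a (nat_lit 301) (Dv.wd (nat_lit 181) [Mv.b (nat_lit 983), Mv.f (nat_lit 979), Mv.f (nat_lit 1344)])))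
(Tr.lf (Fc.ed (nat_lit 1346) (nat_lit 421) Col.g (nat_lit 421) (Dv.wd (nat_lit 79) [Mv.b (nat_lit 1344), Mv.f (nat_lit 981), Mv.f (nat_lit 1344)]))))
(Tr.nd (nat_lit 1348) (Tr.lf (Fc.ed (nat_lit 1347) (nat_lit 421) Col.h (nat_lit 415) (Dv.wd (nat_lit 30) [Mv.b (nat_lit 1329), Mv.b (nat_lit 982), Mv.f (nat_lit 1344)])))
(Tr.lf (Fc.ed (nat_lit 1348) (nat_lit 301) Col.d (nat_lit 422) Dv.df))))))))
(Tr.nd (nat_lit 1378) (Tr.nd (nat_lit 1363) (Tr.nd (nat_lit 1356) (Tr.nd (nat_lit 1352) (Tr.nd (nat_lit 1350) (Tr.lf (Fc.ed (nat_lit 1349) (nat_lit 301) Col.f (nat_lit 423) Dv.df))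
(Tr.nd (nat_lit 1351) (Tr.lf (Fc.ed (nat_lit 1350) (nat_lit 423) Col.c (nat_lit 302) (Dv.wd (nat_lit 91) [Mv.b (nat_lit 986), Mv.f (nat_lit 983), Mv.f (nat_lit 1349)])))
(Tr.lf (Fc.ed (nat_lit 1351) (nat_lit 423) Col.h (nat_lit 417) (Dv.wd (nat_lit 115) [Mv.b (nat_lit 1333), Mv.b (nat_lit 984), Mv.f (nat_lit 1349)])))))
(Tr.nd (nat_lit 1354) (Tr.nd (nat_lit 1353) (Tr.lf (Fc.ed (nat_lit 1352) (nat_lit 302) Col.g (nat_lit 424) Dv.df))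
(Tr.lf (Fc.ed (nat_lit 1353) (nat_lit 424) Col.b (nat_lit 303) (Dv.wd (nat_lit 146) [Mv.b (nat_lit 990), Mv.b (nat_lit 987), Mv.f (nat_lit 1352)]))))
(Tr.nd (nat_lit 1355) (Tr.lf (Fc.ed (nat_lit 1354) (nat_lit 305) Col.k (nat_lit 425) Dv.df))
(Tr.lf (Fc.ed (nat_lit 1355) (nat_lit 425) Col.g (nat_lit 425) (Dv.wd (nat_lit 26) [Mv.b (nat_lit 1354), Mv.f (nat_lit 995), Mv.f (nat_lit 1354)]))))))
(Tr.nd (nat_lit 1359) (Tr.nd (nat_lit 1357) (Tr.lf (Fc.ed (nat_lit 1356) (nat_lit 425) Col.i (nat_lit 420) (Dv.wd (nat_lit 119) [Mv.b (nat_lit 1342), Mv.b (nat_lit 996), Mv.f (nat_lit 1354)])))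
(Tr.nd (nat_lit 1358) (Tr.lf (Fc.ed (nat_lit 1357) (nat_lit 305) Col.c (nat_lit 426) Dv.df))
(Tr.lf (Fc.ed (nat_lit 1358) (nat_lit 426) Col.a (nat_lit 306) (Dv.wd (nat_lit 181) [Mv.b (nat_lit 997), Mv.f (nat_lit 994), Mv.f (nat_lit 1357)])))))
(Tr.nd (nat_lit 1361) (Tr.nd (nat_lit 1360) (Tr.lf (Fc.ed (nat_lit 1359) (nat_lit 426) Col.i (nat_lit 421) (Dv.wd (nat_lit 137) [Mv.b (nat_lit 1344), Mv.b (nat_lit 996), Mv.f (nat_lit 1357)])))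
(Tr.lf (Fc.ed (nat_lit 1360) (nat_lit 306) Col.d (nat_lit 427) Dv.df)))
(Tr.nd (nat_lit 1362) (Tr.lf (Fc.ed (nat_lit 1361) (nat_lit 427) Col.i (nat_lit 422) (Dv.wd (nat_lit 135) [Mv.b (nat_lit 1348), Mv.b (nat_lit 998), Mv.f (nat_lit 1360)])))
(Tr.lf (Fc.ed (nat_lit 1362) (nat_lit 308) Col.k (nat_lit 428) Dv.df))))))
(Tr.nd (nat_lit 1370) (Tr.nd (nat_lit 1366) (Tr.nd (nat_lit 1364) (Tr.lf (Fc.ed (nat_lit 1363) (nat_lit 428) Col.b (nat_lit 428) (Dv.wd (nat_lit 21) [Mv.b (nat_lit 1362), Mv.f (nat_lit 1237), Mv.f (nat_lit 1362)])))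
(Tr.nd (nat_lit 1365) (Tr.lf (Fc.ed (nat_lit 1364) (nat_lit 428) Col.d (nat_lit 428) (Dv.wd (nat_lit 23) [Mv.b (nat_lit 1362), Mv.f (nat_lit 1002), Mv.f (nat_lit 1362)])))
(Tr.lf (Fc.ed (nat_lit 1365) (nat_lit 428) Col.f (nat_lit 425) (Dv.wd (nat_lit 25) [Mv.b (nat_lit 1354), Mv.b (nat_lit 1003), Mv.f (nat_lit 1362)])))))
(Tr.nd (nat_lit 1368) (Tr.nd (nat_lit 1367) (Tr.lf (Fc.ed (nat_lit 1366) (nat_lit 428) Col.h (nat_lit 428) (Dv.wd (nat_lit 27) [Mv.b (nat_lit 1362), Mv.f (nat_lit 1004), Mv.f (nat_lit 1362)])))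
(Tr.lf (Fc.ed (nat_lit 1367) (nat_lit 428) Col.a (nat_lit 428) (Dv.wd (nat_lit 120) [Mv.b (nat_lit 1362), Mv.b (nat_lit 1001), Mv.f (nat_lit 617), Mv.f (nat_lit 1001), Mv.f (nat_lit 1362)]))))
(Tr.nd (nat_lit 1369) (Tr.lf (Fc.ed (nat_lit 1368) (nat_lit 308) Col.c (nat_lit 429) Dv.df))
(Tr.lf (Fc.ed (nat_lit 1369) (nat_lit 429) Col.a (nat_lit 309) (Dv.wd (nat_lit 181) [Mv.b (nat_lit 1005), Mv.f (nat_lit 1001), Mv.f (nat_lit 1368)]))))))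
(Tr.nd (nat_lit 1374) (Tr.nd (nat_lit 1372) (Tr.nd (nat_lit 1371) (Tr.lf (Fc.ed (nat_lit 1370) (nat_lit 429) Col.f (nat_lit 426) (Dv.wd (nat_lit 36) [Mv.b (nat_lit 1357), Mv.b (nat_lit 1003), Mv.f (nat_lit 1368)])))
(Tr.lf (Fc.ed (nat_lit 1371) (nat_lit 309) Col.d (nat_lit 430) Dv.df)))
(Tr.nd (nat_lit 1373) (Tr.lf (Fc.ed (nat_lit 1372) (nat_lit 430) Col.f (nat_lit 427) (Dv.wd (nat_lit 37) [Mv.b (nat_lit 1360), Mv.b (nat_lit 1006), Mv.f (nat_lit 1371)])))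
(Tr.lf (Fc.ed (nat_lit 1373) (nat_lit 312) Col.k (nat_lit 431) Dv.df))))
(Tr.nd (nat_lit 1376) (Tr.nd (nat_lit 1375) (Tr.lf (Fc.ed (nat_lit 1374) (nat_lit 431) Col.b (nat_lit 431) (Dv.wd (nat_lit 21) [Mv.b (nat_lit 1373), Mv.f (nat_lit 1236), Mv.f (nat_lit 1373)])))
(Tr.lf (Fc.ed (nat_lit 1375) (nat_lit 431) Col.e (nat_lit 428) (Dv.wd (nat_lit 24) [Mv.b (nat_lit 1362), Mv.b (nat_lit 1013), Mv.f (nat_lit 1373)]))))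
(Tr.nd (nat_lit 1377) (Tr.lf (Fc.ed (nat_lit 1376) (nat_lit 431) Col.h (nat_lit 431) (Dv.wd (nat_lit 27) [Mv.b (nat_lit 1373), Mv.f (nat_lit 1015), Mv.f (nat_lit 1373)])))
(Tr.lf (Fc.ed (nat_lit 1377) (nat_lit 431) Col.a (nat_lit 431) (Dv.wd (nat_lit 120) [Mv.b (nat_lit 1373), Mv.b (nat_lit 1012), Mv.f (nat_lit 625), Mv.f (nat_lit 1012), Mv.f (nat_lit 1373)]))))))))
(Tr.nd (nat_lit 1393) (Tr.nd (nat_lit 1385) (Tr.nd (nat_lit 1381) (Tr.nd (nat_lit 1379) (Tr.lf (Fc.ed (nat_lit 1378) (nat_lit 312) Col.c (nat_lit 432) Dv.df))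
(Tr.nd (nat_lit 1380) (Tr.lf (Fc.ed (nat_lit 1379) (nat_lit 432) Col.a (nat_lit 313) (Dv.wd (nat_lit 181) [Mv.b (nat_lit 1016), Mv.f (nat_lit 1012), Mv.f (nat_lit 1378)])))
(Tr.lf (Fc.ed (nat_lit 1380) (nat_lit 432) Col.e (nat_lit 429) (Dv.wd (nat_lit 41) [Mv.b (nat_lit 1368), Mv.b (nat_lit 1013), Mv.f (nat_lit 1378)])))))
(Tr.nd (nat_lit 1383) (Tr.nd (nat_lit 1382) (Tr.lf (Fc.ed (nat_lit 1381) (nat_lit 432) Col.f (nat_lit 432) (Dv.wd (nat_lit 36) [Mv.b (nat_lit 1378), Mv.f (nat_lit 1014), Mv.f (nat_lit 1378)])))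
(Tr.lf (Fc.ed (nat_lit 1382) (nat_lit 432) Col.h (nat_lit 432) (Dv.wd (nat_lit 30) [Mv.b (nat_lit 1378), Mv.f (nat_lit 1015), Mv.f (nat_lit 1378)]))))
(Tr.nd (nat_lit 1384) (Tr.lf (Fc.ed (nat_lit 1383) (nat_lit 312) Col.g (nat_lit 433) Dv.df))
(Tr.lf (Fc.ed (nat_lit 1384) (nat_lit 433) Col.a (nat_lit 314) (Dv.wd (nat_lit 174) [Mv.b (nat_lit 1019), Mv.f (nat_lit 1012), Mv.f (nat_lit 1383)]))))))
(Tr.nd (nat_lit 1389) (Tr.nd (nat_lit 1387) (Tr.nd (nat_lit 1386) (Tr.lf (Fc.ed (nat_lit 1385) (nat_lit 433) Col.b (nat_lit 433) (Dv.wd (nat_lit 146) [Mv.b (nat_lit 1383), Mv.f (nat_lit 1236), Mv.f (nat_lit 1383)])))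
(Tr.lf (Fc.ed (nat_lit 1386) (nat_lit 313) Col.d (nat_lit 434) Dv.df)))
(Tr.nd (nat_lit 1388) (Tr.lf (Fc.ed (nat_lit 1387) (nat_lit 314) Col.i (nat_lit 435) Dv.df))
(Tr.lf (Fc.ed (nat_lit 1388) (nat_lit 435) Col.g (nat_lit 315) (Dv.wd (nat_lit 176) [Mv.b (nat_lit 1020), Mv.f (nat_lit 1019), Mv.f (nat_lit 1387)])))))
(Tr.nd (nat_lit 1391) (Tr.nd (nat_lit 1390) (Tr.lf (Fc.ed (nat_lit 1389) (nat_lit 321) Col.k (nat_lit 436) Dv.df))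
(Tr.lf (Fc.ed (nat_lit 1390) (nat_lit 436) Col.d (nat_lit 431) (Dv.wd (nat_lit 23) [Mv.b (nat_lit 1373), Mv.b (nat_lit 1041), Mv.f (nat_lit 1389)]))))
(Tr.nd (nat_lit 1392) (Tr.lf (Fc.ed (nat_lit 1391) (nat_lit 436) Col.e (nat_lit 436) (Dv.wd (nat_lit 24) [Mv.b (nat_lit 1389), Mv.f (nat_lit 1042), Mv.f (nat_lit 1389)])))
(Tr.lf (Fc.ed (nat_lit 1392) (nat_lit 322) Col.b (nat_lit 437) Dv.df))))))
(Tr.nd (nat_lit 1400) (Tr.nd (nat_lit 1396) (Tr.nd (nat_lit 1394) (Tr.lf (Fc.ed (nat_lit 1393) (nat_lit 437) Col.c (nat_lit 323) (Dv.wd (nat_lit 154) [Mv.b (nat_lit 1045), Mv.b (nat_lit 638), Mv.f (nat_lit 635), Mv.f (nat_lit 1044), Mv.f (nat_lit 1392)])))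
(Tr.nd (nat_lit 1395) (Tr.lf (Fc.ed (nat_lit 1394) (nat_lit 322) Col.d (nat_lit 438) Dv.df))
(Tr.lf (Fc.ed (nat_lit 1395) (nat_lit 438) Col.c (nat_lit 434) (Dv.wd (nat_lit 83) [Mv.b (nat_lit 1386), Mv.b (nat_lit 1016), Mv.b (nat_lit 636), Mv.f (nat_lit 1044), Mv.f (nat_lit 1394)])))))
(Tr.nd (nat_lit 1398) (Tr.nd (nat_lit 1397) (Tr.lf (Fc.ed (nat_lit 1396) (nat_lit 323) Col.i (nat_lit 439) Dv.df))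
(Tr.lf (Fc.ed (nat_lit 1397) (nat_lit 328) Col.k (nat_lit 440) Dv.df)))
(Tr.nd (nat_lit 1399) (Tr.lf (Fc.ed (nat_lit 1398) (nat_lit 440) Col.h (nat_lit 436) (Dv.wd (nat_lit 27) [Mv.b (nat_lit 1389), Mv.b (nat_lit 1055), Mv.f (nat_lit 1397)])))
(Tr.lf (Fc.ed (nat_lit 1399) (nat_lit 329) Col.d (nat_lit 441) Dv.df)))))
(Tr.nd (nat_lit 1404) (Tr.nd (nat_lit 1402) (Tr.nd (nat_lit 1401) (Tr.lf (Fc.ed (nat_lit 1400) (nat_lit 441) Col.b (nat_lit 330) (Dv.wd (nat_lit 183) [Mv.b (nat_lit 1058), Mv.f (nat_lit 1056), Mv.f (nat_lit 1399)])))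
(Tr.lf (Fc.ed (nat_lit 1401) (nat_lit 330) Col.e (nat_lit 442) Dv.df)))
(Tr.nd (nat_lit 1403) (Tr.lf (Fc.ed (nat_lit 1402) (nat_lit 442) Col.l (nat_lit 442) (Dv.wd (nat_lit 84) [Mv.b (nat_lit 1401), Mv.f (nat_lit 1059), Mv.f (nat_lit 1401)])))
(Tr.lf (Fc.ed (nat_lit 1403) (nat_lit 442) Col.a (nat_lit 442) (Dv.wd (nat_lit 152) [Mv.b (nat_lit 1401), Mv.f (nat_lit 1244), Mv.f (nat_lit 1401)])))))
(Tr.nd (nat_lit 1406) (Tr.nd (nat_lit 1405) (Tr.lf (Fc.ed (nat_lit 1404) (nat_lit 442) Col.c (nat_lit 442) (Dv.wd (nat_lit 86) [Mv.b (nat_lit 1401), Mv.f (nat_lit 1061), Mv.f (nat_lit 1401)])))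
(Tr.lf (Fc.ed (nat_lit 1405) (nat_lit 442) Col.h (nat_lit 442) (Dv.wd (nat_lit 107) [Mv.b (nat_lit 1401), Mv.f (nat_lit 1062), Mv.f (nat_lit 1401)]))))
(Tr.nd (nat_lit 1407) (Tr.lf (Fc.ed (nat_lit 1406) (nat_lit 442) Col.d (nat_lit 442) (Dv.wd (nat_lit 88) [Mv.b (nat_lit 1401), Mv.b (nat_lit 1058), Mv.f (nat_lit 653), Mv.f (nat_lit 1058), Mv.f (nat_lit 1401)])))
(Tr.lf (Fc.ed (nat_lit 1407) (nat_lit 333) Col.k (nat_lit 443) Dv.df)))))))))))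
(Tr.nd (nat_lit 1643) (Tr.nd (nat_lit 1525) (Tr.nd (nat_lit 1466) (Tr.nd (nat_lit 1437) (Tr.nd (nat_lit 1422) (Tr.nd (nat_lit 1415) (Tr.nd (nat_lit 1411) (Tr.nd (nat_lit 1409) (Tr.lf (Fc.ed (nat_lit 1408) (nat_lit 443) Col.b (nat_lit 443) (Dv.wd (nat_lit 21) [Mv.b (nat_lit 1407), Mv.f (nat_lit 1233), Mv.f (nat_lit 1407)])))
(Tr.nd (nat_lit 1410) (Tr.lf (Fc.ed (nat_lit 1409) (nat_lit 443) Col.d (nat_lit 443) (Dv.wd (nat_lit 23) [Mv.b (nat_lit 1407), Mv.f (nat_lit 1068), Mv.f (nat_lit 1407)])))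
(Tr.lf (Fc.ed (nat_lit 1410) (nat_lit 443) Col.e (nat_lit 443) (Dv.wd (nat_lit 24) [Mv.b (nat_lit 1407), Mv.f (nat_lit 1069), Mv.f (nat_lit 1407)])))))
(Tr.nd (nat_lit 1413) (Tr.nd (nat_lit 1412) (Tr.lf (Fc.ed (nat_lit 1411) (nat_lit 443) Col.g (nat_lit 440) (Dv.wd (nat_lit 26) [Mv.b (nat_lit 1397), Mv.b (nat_lit 1070), Mv.f (nat_lit 1407)])))
(Tr.lf (Fc.ed (nat_lit 1412) (nat_lit 443) Col.a (nat_lit 443) (Dv.wd (nat_lit 120) [Mv.b (nat_lit 1407), Mv.b (nat_lit 1067), Mv.f (nat_lit 660), Mv.f (nat_lit 1067), Mv.f (nat_lit 1407)]))))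
(Tr.nd (nat_lit 1414) (Tr.lf (Fc.ed (nat_lit 1413) (nat_lit 337) Col.k (nat_lit 444) Dv.df))
(Tr.lf (Fc.ed (nat_lit 1414) (nat_lit 444) Col.b (nat_lit 444) (Dv.wd (nat_lit 21) [Mv.b (nat_lit 1413), Mv.f (nat_lit 1232), Mv.f (nat_lit 1413)]))))))
(Tr.nd (nat_lit 1418) (Tr.nd (nat_lit 1416) (Tr.lf (Fc.ed (nat_lit 1415) (nat_lit 444) Col.d (nat_lit 444) (Dv.wd (nat_lit 23) [Mv.b (nat_lit 1413), Mv.f (nat_lit 1079), Mv.f (nat_lit 1413)])))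
(Tr.nd (nat_lit 1417) (Tr.lf (Fc.ed (nat_lit 1416) (nat_lit 444) Col.f (nat_lit 443) (Dv.wd (nat_lit 25) [Mv.b (nat_lit 1407), Mv.b (nat_lit 1080), Mv.f (nat_lit 1413)])))
(Tr.lf (Fc.ed (nat_lit 1417) (nat_lit 444) Col.a (nat_lit 444) (Dv.wd (nat_lit 120) [Mv.b (nat_lit 1413), Mv.b (nat_lit 1078), Mv.f (nat_lit 669), Mv.f (nat_lit 1078), Mv.f (nat_lit 1413)])))))
(Tr.nd (nat_lit 1420) (Tr.nd (nat_lit 1419) (Tr.lf (Fc.ed (nat_lit 1418) (nat_lit 341) Col.k (nat_lit 445) Dv.df))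
(Tr.lf (Fc.ed (nat_lit 1419) (nat_lit 445) Col.b (nat_lit 445) (Dv.wd (nat_lit 21) [Mv.b (nat_lit 1418), Mv.f (nat_lit 1231), Mv.f (nat_lit 1418)]))))
(Tr.nd (nat_lit 1421) (Tr.lf (Fc.ed (nat_lit 1420) (nat_lit 445) Col.d (nat_lit 344) (Dv.wd (nat_lit 23) [Mv.b (nat_lit 1095), Mv.b (nat_lit 1088), Mv.f (nat_lit 1418)])))
(Tr.lf (Fc.ed (nat_lit 1421) (nat_lit 445) Col.e (nat_lit 444) (Dv.wd (nat_lit 24) [Mv.b (nat_lit 1413), Mv.b (nat_lit 1089), Mv.f (nat_lit 1418)])))))))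
(Tr.nd (nat_lit 1429) (Tr.nd (nat_lit 1425) (Tr.nd (nat_lit 1423) (Tr.lf (Fc.ed (nat_lit 1422) (nat_lit 445) Col.f (nat_lit 445) (Dv.wd (nat_lit 25) [Mv.b (nat_lit 1418), Mv.f (nat_lit 1090), Mv.f (nat_lit 1418)])))
(Tr.nd (nat_lit 1424) (Tr.lf (Fc.ed (nat_lit 1423) (nat_lit 445) Col.a (nat_lit 445) (Dv.wd (nat_lit 120) [Mv.b (nat_lit 1418), Mv.b (nat_lit 1087), Mv.f (nat_lit 679), Mv.f (nat_lit 1087), Mv.f (nat_lit 1418)])))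
(Tr.lf (Fc.ed (nat_lit 1424) (nat_lit 346) Col.h (nat_lit 446) Dv.df))))
(Tr.nd (nat_lit 1427) (Tr.nd (nat_lit 1426) (Tr.lf (Fc.ed (nat_lit 1425) (nat_lit 446) Col.a (nat_lit 446) (Dv.wd (nat_lit 124) [Mv.b (nat_lit 1424), Mv.f (nat_lit 1100), Mv.f (nat_lit 1424)])))
(Tr.lf (Fc.ed (nat_lit 1426) (nat_lit 347) Col.c (nat_lit 447) Dv.df)))
(Tr.nd (nat_lit 1428) (Tr.lf (Fc.ed (nat_lit 1427) (nat_lit 347) Col.h (nat_lit 448) Dv.df))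
(Tr.lf (Fc.ed (nat_lit 1428) (nat_lit 448) Col.b (nat_lit 446) (Dv.wd (nat_lit 151) [Mv.b (nat_lit 1424), Mv.b (nat_lit 1104), Mv.f (nat_lit 1427)]))))))
(Tr.nd (nat_lit 1433) (Tr.nd (nat_lit 1431) (Tr.nd (nat_lit 1430) (Tr.lf (Fc.ed (nat_lit 1429) (nat_lit 348) Col.d (nat_lit 449) Dv.df))
(Tr.lf (Fc.ed (nat_lit 1430) (nat_lit 449) Col.a (nat_lit 366) (Dv.wd (nat_lit 182) [Mv.b (nat_lit 1154), Mv.b (nat_lit 1106), Mv.f (nat_lit 1429)]))))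
(Tr.nd (nat_lit 1432) (Tr.lf (Fc.ed (nat_lit 1431) (nat_lit 449) Col.c (nat_lit 448) (Dv.wd (nat_lit 188) [Mv.f (nat_lit 1428), Mv.f (nat_lit 1425), Mv.b (nat_lit 1424), Mv.f (nat_lit 1101), Mv.f (nat_lit 1102), Mv.b (nat_lit 1099), Mv.f (nat_lit 703), Mv.f (nat_lit 698), Mv.f (nat_lit 697), Mv.f (nat_lit 699), Mv.f (nat_lit 700), Mv.b (nat_lit 696), Mv.f (nat_lit 287), Mv.f (nat_lit 282), Mv.f (nat_lit 281), Mv.f (nat_lit 280), Mv.f (nat_lit 283), Mv.b (nat_lit 278), Mv.b (nat_lit 13), Mv.b (nat_lit 12), Mv.b (nat_lit 11), Mv.b (nat_lit 10), Mv.b (nat_lit 9), Mv.f (nat_lit 61), Mv.f (nat_lit 59), Mv.f (nat_lit 58), Mv.f (nat_lit 57), Mv.f (nat_lit 56), Mv.f (nat_lit 55), Mv.f (nat_lit 9), Mv.f (nat_lit 62), Mv.f (nat_lit 67), Mv.f (nat_lit 73), Mv.f (nat_lit 82), Mv.f (nat_lit 93), Mv.f (nat_lit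 10), Mv.f (nat_lit 115), Mv.f (nat_lit 63), Mv.f (nat_lit 69), Mv.f (nat_lit 75), Mv.f (nat_lit 84), Mv.f (nat_lit 11), Mv.f (nat_lit 94), Mv.f (nat_lit 117), Mv.f (nat_lit 64), Mv.f (nat_lit 70), Mv.f (nat_lit 76), Mv.f (nat_lit 12), Mv.f (nat_lit 85), Mv.f (nat_lit 95), Mv.f (nat_lit 118), Mv.f (nat_lit 275), Mv.f (nat_lit 277), Mv.f (nat_lit 276), Mv.f (nat_lit 15), Mv.f (nat_lit 16), Mv.f (nat_lit 17), Mv.f (nat_lit 18), Mv.f (nat_lit 299), Mv.f (nat_lit 301), Mv.f (nat_lit 707), Mv.f (nat_lit 1105), Mv.f (nat_lit 1429)])))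
(Tr.lf (Fc.ed (nat_lit 1432) (nat_lit 447) Col.h (nat_lit 449) (Dv.wd (nat_lit 189) [Mv.f (nat_lit 1431), Mv.b (nat_lit 1427), Mv.f (nat_lit 1426)])))))
(Tr.nd (nat_lit 1435) (Tr.nd (nat_lit 1434) (Tr.lf (Fc.ed (nat_lit 1433) (nat_lit 349) Col.d (nat_lit 450) Dv.df))
(Tr.lf (Fc.ed (nat_lit 1434) (nat_lit 450) Col.k (nat_lit 350) (Dv.wd (nat_lit 81) [Mv.b (nat_lit 1109), Mv.b (nat_lit 1108), Mv.f (nat_lit 1433)]))))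
(Tr.nd (nat_lit 1436) (Tr.lf (Fc.ed (nat_lit 1435) (nat_lit 350) Col.c (nat_lit 451) Dv.df))
(Tr.lf (Fc.ed (nat_lit 1436) (nat_lit 451) Col.a (nat_lit 447) (Dv.wd (nat_lit 181) [Mv.b (nat_lit 1426), Mv.b (nat_lit 1110), Mv.f (nat_lit 1435)]))))))))
(Tr.nd (nat_lit 1451) (Tr.nd (nat_lit 1444) (Tr.nd (nat_lit 1440) (Tr.nd (nat_lit 1438) (Tr.lf (Fc.ed (nat_lit 1437) (nat_lit 366) Col.h (nat_lit 451) (Dv.wd (nat_lit 190) [Mv.f (nat_lit 1436), Mv.f (nat_lit 1432), Mv.f (nat_lit 1430)])))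
(Tr.nd (nat_lit 1439) (Tr.lf (Fc.ed (nat_lit 1438) (nat_lit 350) Col.h (nat_lit 452) Dv.df))
(Tr.lf (Fc.ed (nat_lit 1439) (nat_lit 452) Col.c (nat_lit 366) (Dv.wd (nat_lit 102) [Mv.f (nat_lit 1437), Mv.b (nat_lit 1435), Mv.f (nat_lit 1438)])))))
(Tr.nd (nat_lit 1442) (Tr.nd (nat_lit 1441) (Tr.lf (Fc.ed (nat_lit 1440) (nat_lit 351) Col.d (nat_lit 453) Dv.df))
(Tr.lf (Fc.ed (nat_lit 1441) (nat_lit 453) Col.i (nat_lit 450) (Dv.wd (nat_lit 135) [Mv.b (nat_lit 1433), Mv.b (nat_lit 1112), Mv.f (nat_lit 1440)]))))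
(Tr.nd (nat_lit 1443) (Tr.lf (Fc.ed (nat_lit 1442) (nat_lit 353) Col.e (nat_lit 454) Dv.df))
(Tr.lf (Fc.ed (nat_lit 1443) (nat_lit 454) Col.b (nat_lit 354) (Dv.wd (nat_lit 153) [Mv.b (nat_lit 1120), Mv.b (nat_lit 1119), Mv.f (nat_lit 1442)]))))))
(Tr.nd (nat_lit 1447) (Tr.nd (nat_lit 1445) (Tr.lf (Fc.ed (nat_lit 1444) (nat_lit 354) Col.d (nat_lit 455) Dv.df))
(Tr.nd (nat_lit 1446) (Tr.lf (Fc.ed (nat_lit 1445) (nat_lit 455) Col.a (nat_lit 455) (Dv.wd (nat_lit 182) [Mv.b (nat_lit 1444), Mv.f (nat_lit 1121), Mv.f (nat_lit 1444)])))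
(Tr.lf (Fc.ed (nat_lit 1446) (nat_lit 356) Col.e (nat_lit 456) Dv.df))))
(Tr.nd (nat_lit 1449) (Tr.nd (nat_lit 1448) (Tr.lf (Fc.ed (nat_lit 1447) (nat_lit 456) Col.f (nat_lit 454) (Dv.wd (nat_lit 109) [Mv.b (nat_lit 1442), Mv.b (nat_lit 1118), Mv.b (nat_lit 724), Mv.f (nat_lit 1124), Mv.f (nat_lit 1446)])))
(Tr.lf (Fc.ed (nat_lit 1448) (nat_lit 357) Col.d (nat_lit 457) Dv.df)))
(Tr.nd (nat_lit 1450) (Tr.lf (Fc.ed (nat_lit 1449) (nat_lit 457) Col.f (nat_lit 455) (Dv.wd (nat_lit 37) [Mv.b (nat_lit 1444), Mv.b (nat_lit 1126), Mv.f (nat_lit 1448)])))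
(Tr.lf (Fc.ed (nat_lit 1450) (nat_lit 358) Col.c (nat_lit 458) Dv.df))))))
(Tr.nd (nat_lit 1458) (Tr.nd (nat_lit 1454) (Tr.nd (nat_lit 1452) (Tr.lf (Fc.ed (nat_lit 1451) (nat_lit 458) Col.a (nat_lit 359) (Dv.wd (nat_lit 181) [Mv.b (nat_lit 1131), Mv.f (nat_lit 1127), Mv.f (nat_lit 1450)])))
(Tr.nd (nat_lit 1453) (Tr.lf (Fc.ed (nat_lit 1452) (nat_lit 458) Col.e (nat_lit 458) (Dv.wd (nat_lit 41) [Mv.b (nat_lit 1450), Mv.f (nat_lit 1129), Mv.f (nat_lit 1450)])))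
(Tr.lf (Fc.ed (nat_lit 1453) (nat_lit 458) Col.f (nat_lit 377) (Dv.wd (nat_lit 36) [Mv.b (nat_lit 1186), Mv.f (nat_lit 1187), Mv.f (nat_lit 1450)])))))
(Tr.nd (nat_lit 1456) (Tr.nd (nat_lit 1455) (Tr.lf (Fc.ed (nat_lit 1454) (nat_lit 458) Col.d (nat_lit 458) (Dv.wd (nat_lit 106) [Mv.b (nat_lit 1450), Mv.f (nat_lit 1128), Mv.f (nat_lit 1123), Mv.b (nat_lit 1128), Mv.f (nat_lit 1450)])))
(Tr.lf (Fc.ed (nat_lit 1455) (nat_lit 360) Col.e (nat_lit 459) Dv.df)))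
(Tr.nd (nat_lit 1457) (Tr.lf (Fc.ed (nat_lit 1456) (nat_lit 459) Col.a (nat_lit 384) (Dv.wd (nat_lit 152) [Mv.f (nat_lit 1251), Mv.f (nat_lit 1185), Mv.f (nat_lit 1455)])))
(Tr.lf (Fc.ed (nat_lit 1457) (nat_lit 459) Col.b (nat_lit 361) (Dv.wd (nat_lit 153) [Mv.b (nat_lit 1136), Mv.b (nat_lit 1134), Mv.f (nat_lit 1455)]))))))
(Tr.nd (nat_lit 1462) (Tr.nd (nat_lit 1460) (Tr.nd (nat_lit 1459) (Tr.lf (Fc.ed (nat_lit 1458) (nat_lit 459) Col.g (nat_lit 382) (Dv.wd (nat_lit 87) [Mv.f (nat_lit 1248), Mv.f (nat_lit 1183), Mv.f (nat_lit 1455)])))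
(Tr.lf (Fc.ed (nat_lit 1459) (nat_lit 361) Col.d (nat_lit 460) Dv.df)))
(Tr.nd (nat_lit 1461) (Tr.lf (Fc.ed (nat_lit 1460) (nat_lit 460) Col.e (nat_lit 457) (Dv.wd (nat_lit 108) [Mv.b (nat_lit 1448), Mv.b (nat_lit 1125), Mv.b (nat_lit 732), Mv.f (nat_lit 1136), Mv.f (nat_lit 1459)])))
(Tr.lf (Fc.ed (nat_lit 1461) (nat_lit 368) Col.i (nat_lit 461) Dv.df))))
(Tr.nd (nat_lit 1464) (Tr.nd (nat_lit 1463) (Tr.lf (Fc.ed (nat_lit 1462) (nat_lit 461) Col.c (nat_lit 381) (Dv.wd (nat_lit 145) [Mv.b (nat_lit 1245), Mv.b (nat_lit 1159), Mv.f (nat_lit 1461)])))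
(Tr.lf (Fc.ed (nat_lit 1463) (nat_lit 461) Col.d (nat_lit 461) (Dv.wd (nat_lit 142) [Mv.b (nat_lit 1461), Mv.f (nat_lit 1160), Mv.f (nat_lit 1461)]))))
(Tr.nd (nat_lit 1465) (Tr.lf (Fc.ed (nat_lit 1464) (nat_lit 461) Col.e (nat_lit 369) (Dv.wd (nat_lit 143) [Mv.b (nat_lit 1161), Mv.f (nat_lit 1158), Mv.f (nat_lit 1461)])))
(Tr.lf (Fc.ed (nat_lit 1465) (nat_lit 374) Col.i (nat_lit 462) Dv.df))))))))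
(Tr.nd (nat_lit 1495) (Tr.nd (nat_lit 1480) (Tr.nd (nat_lit 1473) (Tr.nd (nat_lit 1469) (Tr.nd (nat_lit 1467) (Tr.lf (Fc.ed (nat_lit 1466) (nat_lit 462) Col.b (nat_lit 376) (Dv.wd (nat_lit 144) [Mv.b (nat_lit 1179), Mv.b (nat_lit 1173), Mv.f (nat_lit 1465)])))
(Tr.nd (nat_lit 1468) (Tr.lf (Fc.ed (nat_lit 1467) (nat_lit 462) Col.e (nat_lit 375) (Dv.wd (nat_lit 143) [Mv.b (nat_lit 1175), Mv.b (nat_lit 1174), Mv.f (nat_lit 1465)])))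
(Tr.lf (Fc.ed (nat_lit 1468) (nat_lit 375) Col.h (nat_lit 463) Dv.df))))
(Tr.nd (nat_lit 1471) (Tr.nd (nat_lit 1470) (Tr.lf (Fc.ed (nat_lit 1469) (nat_lit 463) Col.b (nat_lit 377) (Dv.wd (nat_lit 151) [Mv.b (nat_lit 1181), Mv.b (nat_lit 1177), Mv.f (nat_lit 1468)])))
(Tr.lf (Fc.ed (nat_lit 1470) (nat_lit 382) Col.d (nat_lit 464) Dv.df)))
(Tr.nd (nat_lit 1472) (Tr.lf (Fc.ed (nat_lit 1471) (nat_lit 383) Col.d (nat_lit 465) Dv.df))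
(Tr.lf (Fc.ed (nat_lit 1472) (nat_lit 465) Col.h (nat_lit 397) (Dv.wd (nat_lit 105) [Mv.b (nat_lit 1279), Mv.b (nat_lit 905), Mv.b (nat_lit 873), Mv.f (nat_lit 1249), Mv.f (nat_lit 1471)]))))))
(Tr.nd (nat_lit 1476) (Tr.nd (nat_lit 1474) (Tr.lf (Fc.ed (nat_lit 1473) (nat_lit 384) Col.d (nat_lit 466) Dv.df))
(Tr.nd (nat_lit 1475) (Tr.lf (Fc.ed (nat_lit 1474) (nat_lit 385) Col.c (nat_lit 467) Dv.df))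
(Tr.lf (Fc.ed (nat_lit 1475) (nat_lit 467) Col.k (nat_lit 386) (Dv.wd (nat_lit 78) [Mv.b (nat_lit 1255), Mv.b (nat_lit 1253), Mv.f (nat_lit 1474)])))))
(Tr.nd (nat_lit 1478) (Tr.nd (nat_lit 1477) (Tr.lf (Fc.ed (nat_lit 1476) (nat_lit 467) Col.g (nat_lit 452) (Dv.wd (nat_lit 79) [Mv.f (nat_lit 1439), Mv.b (nat_lit 1254), Mv.f (nat_lit 1474)])))
(Tr.lf (Fc.ed (nat_lit 1477) (nat_lit 386) Col.g (nat_lit 468) Dv.df)))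
(Tr.nd (nat_lit 1479) (Tr.lf (Fc.ed (nat_lit 1478) (nat_lit 468) Col.k (nat_lit 452) (Dv.wd (nat_lit 95) [Mv.b (nat_lit 1476), Mv.f (nat_lit 1475), Mv.f (nat_lit 1477)])))
(Tr.lf (Fc.ed (nat_lit 1479) (nat_lit 468) Col.c (nat_lit 387) (Dv.wd (nat_lit 96) [Mv.b (nat_lit 1256), Mv.f (nat_lit 1255), Mv.f (nat_lit 1477)])))))))
(Tr.nd (nat_lit 1487) (Tr.nd (nat_lit 1483) (Tr.nd (nat_lit 1481) (Tr.lf (Fc.ed (nat_lit 1480) (nat_lit 450) Col.h (nat_lit 468) (Dv.wd (nat_lit 191) [Mv.f (nat_lit 1478), Mv.b (nat_lit 1438), Mv.b (nat_lit 1434)])))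
(Tr.nd (nat_lit 1482) (Tr.lf (Fc.ed (nat_lit 1481) (nat_lit 387) Col.h (nat_lit 469) Dv.df))
(Tr.lf (Fc.ed (nat_lit 1482) (nat_lit 469) Col.b (nat_lit 388) (Dv.wd (nat_lit 151) [Mv.b (nat_lit 1258), Mv.b (nat_lit 1257), Mv.f (nat_lit 1481)])))))
(Tr.nd (nat_lit 1485) (Tr.nd (nat_lit 1484) (Tr.lf (Fc.ed (nat_lit 1483) (nat_lit 469) Col.c (nat_lit 450) (Dv.wd (nat_lit 102) [Mv.f (nat_lit 1480), Mv.f (nat_lit 1479), Mv.f (nat_lit 1481)])))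
(Tr.lf (Fc.ed (nat_lit 1484) (nat_lit 388) Col.i (nat_lit 470) Dv.df)))
(Tr.nd (nat_lit 1486) (Tr.lf (Fc.ed (nat_lit 1485) (nat_lit 470) Col.a (nat_lit 391) (Dv.wd (nat_lit 116) [Mv.b (nat_lit 1262), Mv.b (nat_lit 1259), Mv.f (nat_lit 1484)])))
(Tr.lf (Fc.ed (nat_lit 1486) (nat_lit 389) Col.h (nat_lit 471) Dv.df)))))
(Tr.nd (nat_lit 1491) (Tr.nd (nat_lit 1489) (Tr.nd (nat_lit 1488) (Tr.lf (Fc.ed (nat_lit 1487) (nat_lit 471) Col.i (nat_lit 390) (Dv.wd (nat_lit 177) [Mv.b (nat_lit 1261), Mv.b (nat_lit 884), Mv.f (nat_lit 883), Mv.f (nat_lit 1260), Mv.f (nat_lit 1486)])))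
(Tr.lf (Fc.ed (nat_lit 1488) (nat_lit 390) Col.d (nat_lit 472) Dv.df)))
(Tr.nd (nat_lit 1490) (Tr.lf (Fc.ed (nat_lit 1489) (nat_lit 472) Col.h (nat_lit 464) (Dv.wd (nat_lit 105) [Mv.b (nat_lit 1470), Mv.b (nat_lit 1247), Mv.b (nat_lit 885), Mv.f (nat_lit 1261), Mv.f (nat_lit 1488)])))
(Tr.lf (Fc.ed (nat_lit 1490) (nat_lit 391) Col.h (nat_lit 473) Dv.df))))
(Tr.nd (nat_lit 1493) (Tr.nd (nat_lit 1492) (Tr.lf (Fc.ed (nat_lit 1491) (nat_lit 473) Col.e (nat_lit 473) (Dv.wd (nat_lit 103) [Mv.b (nat_lit 1490), Mv.f (nat_lit 1265), Mv.f (nat_lit 1490)])))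
(Tr.lf (Fc.ed (nat_lit 1492) (nat_lit 473) Col.f (nat_lit 473) (Dv.wd (nat_lit 104) [Mv.b (nat_lit 1490), Mv.f (nat_lit 1266), Mv.f (nat_lit 1490)]))))
(Tr.nd (nat_lit 1494) (Tr.lf (Fc.ed (nat_lit 1493) (nat_lit 473) Col.g (nat_lit 393) (Dv.wd (nat_lit 126) [Mv.b (nat_lit 1270), Mv.b (nat_lit 1267), Mv.f (nat_lit 1490)])))
(Tr.lf (Fc.ed (nat_lit 1494) (nat_lit 473) Col.i (nat_lit 392) (Dv.wd (nat_lit 177) [Mv.b (nat_lit 1268), Mv.b (nat_lit 892), Mv.f (nat_lit 886), Mv.f (nat_lit 1262), Mv.f (nat_lit 1490)]))))))))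
(Tr.nd (nat_lit 1510) (Tr.nd (nat_lit 1502) (Tr.nd (nat_lit 1498) (Tr.nd (nat_lit 1496) (Tr.lf (Fc.ed (nat_lit 1495) (nat_lit 392) Col.d (nat_lit 474) Dv.df))
(Tr.nd (nat_lit 1497) (Tr.lf (Fc.ed (nat_lit 1496) (nat_lit 474) Col.g (nat_lit 394) (Dv.wd (nat_lit 82) [Mv.b (nat_lit 1271), Mv.b (nat_lit 1269), Mv.f (nat_lit 1495)])))
(Tr.lf (Fc.ed (nat_lit 1497) (nat_lit 474) Col.h (nat_lit 466) (Dv.wd (nat_lit 105) [Mv.b (nat_lit 1473), Mv.b (nat_lit 1250), Mv.b (nat_lit 893), Mv.f (nat_lit 1268), Mv.f (nat_lit 1495)])))))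
(Tr.nd (nat_lit 1500) (Tr.nd (nat_lit 1499) (Tr.lf (Fc.ed (nat_lit 1498) (nat_lit 393) Col.d (nat_lit 475) Dv.df))
(Tr.lf (Fc.ed (nat_lit 1499) (nat_lit 394) Col.c (nat_lit 476) Dv.df)))
(Tr.nd (nat_lit 1501) (Tr.lf (Fc.ed (nat_lit 1500) (nat_lit 394) Col.e (nat_lit 477) Dv.df))
(Tr.lf (Fc.ed (nat_lit 1501) (nat_lit 395) Col.h (nat_lit 478) Dv.df)))))
(Tr.nd (nat_lit 1506) (Tr.nd (nat_lit 1504) (Tr.nd (nat_lit 1503) (Tr.lf (Fc.ed (nat_lit 1502) (nat_lit 478) Col.e (nat_lit 400) (Dv.wd (nat_lit 103) [Mv.b (nat_lit 1285), Mv.b (nat_lit 1273), Mv.f (nat_lit 1501)])))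
(Tr.lf (Fc.ed (nat_lit 1503) (nat_lit 478) Col.f (nat_lit 471) (Dv.wd (nat_lit 104) [Mv.b (nat_lit 1486), Mv.b (nat_lit 1274), Mv.f (nat_lit 1501)]))))
(Tr.nd (nat_lit 1505) (Tr.lf (Fc.ed (nat_lit 1504) (nat_lit 396) Col.d (nat_lit 479) Dv.df))
(Tr.lf (Fc.ed (nat_lit 1505) (nat_lit 479) Col.f (nat_lit 475) (Dv.wd (nat_lit 37) [Mv.b (nat_lit 1498), Mv.b (nat_lit 1277), Mv.f (nat_lit 1504)])))))
(Tr.nd (nat_lit 1508) (Tr.nd (nat_lit 1507) (Tr.lf (Fc.ed (nat_lit 1506) (nat_lit 479) Col.i (nat_lit 397) (Dv.wd (nat_lit 135) [Mv.b (nat_lit 1279), Mv.b (nat_lit 1278), Mv.f (nat_lit 1504)])))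
(Tr.lf (Fc.ed (nat_lit 1507) (nat_lit 397) Col.c (nat_lit 480) Dv.df)))
(Tr.nd (nat_lit 1509) (Tr.lf (Fc.ed (nat_lit 1508) (nat_lit 480) Col.f (nat_lit 476) (Dv.wd (nat_lit 36) [Mv.b (nat_lit 1499), Mv.b (nat_lit 1280), Mv.f (nat_lit 1507)])))
(Tr.lf (Fc.ed (nat_lit 1509) (nat_lit 397) Col.e (nat_lit 481) Dv.df))))))
(Tr.nd (nat_lit 1517) (Tr.nd (nat_lit 1513) (Tr.nd (nat_lit 1511) (Tr.lf (Fc.ed (nat_lit 1510) (nat_lit 398) Col.d (nat_lit 482) Dv.df))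
(Tr.nd (nat_lit 1512) (Tr.lf (Fc.ed (nat_lit 1511) (nat_lit 482) Col.a (nat_lit 399) (Dv.wd (nat_lit 182) [Mv.b (nat_lit 1283), Mv.b (nat_lit 1282), Mv.f (nat_lit 1510)])))
(Tr.lf (Fc.ed (nat_lit 1512) (nat_lit 399) Col.c (nat_lit 483) Dv.df))))
(Tr.nd (nat_lit 1515) (Tr.nd (nat_lit 1514) (Tr.lf (Fc.ed (nat_lit 1513) (nat_lit 483) Col.h (nat_lit 483) (Dv.wd (nat_lit 30) [Mv.b (nat_lit 1512), Mv.f (nat_lit 1284), Mv.f (nat_lit 1512)])))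
(Tr.lf (Fc.ed (nat_lit 1514) (nat_lit 399) Col.e (nat_lit 484) Dv.df)))
(Tr.nd (nat_lit 1516) (Tr.lf (Fc.ed (nat_lit 1515) (nat_lit 484) Col.d (nat_lit 481) (Dv.wd (nat_lit 88) [Mv.b (nat_lit 1509), Mv.b (nat_lit 1279), Mv.b (nat_lit 913), Mv.f (nat_lit 1283), Mv.f (nat_lit 1514)])))
(Tr.lf (Fc.ed (nat_lit 1516) (nat_lit 400) Col.d (nat_lit 485) Dv.df)))))
(Tr.nd (nat_lit 1521) (Tr.nd (nat_lit 1519) (Tr.nd (nat_lit 1518) (Tr.lf (Fc.ed (nat_lit 1517) (nat_lit 485) Col.a (nat_lit 401) (Dv.wd (nat_lit 182) [Mv.b (nat_lit 1288), Mv.b (nat_lit 1286), Mv.f (nat_lit 1516)])))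
(Tr.lf (Fc.ed (nat_lit 1518) (nat_lit 485) Col.i (nat_lit 482) (Dv.wd (nat_lit 135) [Mv.b (nat_lit 1510), Mv.b (nat_lit 1287), Mv.f (nat_lit 1516)]))))
(Tr.nd (nat_lit 1520) (Tr.lf (Fc.ed (nat_lit 1519) (nat_lit 401) Col.c (nat_lit 486) Dv.df))
(Tr.lf (Fc.ed (nat_lit 1520) (nat_lit 486) Col.h (nat_lit 406) (Dv.wd (nat_lit 30) [Mv.f (nat_lit 1299), Mv.f (nat_lit 1293), Mv.f (nat_lit 1519)])))))
(Tr.nd (nat_lit 1523) (Tr.nd (nat_lit 1522) (Tr.lf (Fc.ed (nat_lit 1521) (nat_lit 486) Col.i (nat_lit 483) (Dv.wd (nat_lit 137) [Mv.b (nat_lit 1512), Mv.b (nat_lit 1289), Mv.f (nat_lit 1519)])))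
(Tr.lf (Fc.ed (nat_lit 1522) (nat_lit 401) Col.e (nat_lit 487) Dv.df)))
(Tr.nd (nat_lit 1524) (Tr.lf (Fc.ed (nat_lit 1523) (nat_lit 402) Col.d (nat_lit 488) Dv.df))
(Tr.lf (Fc.ed (nat_lit 1524) (nat_lit 488) Col.h (nat_lit 485) (Dv.wd (nat_lit 105) [Mv.b (nat_lit 1516), Mv.b (nat_lit 1285), Mv.b (nat_lit 922), Mv.f (nat_lit 1290), Mv.f (nat_lit 1523)]))))))))))
(Tr.nd (nat_lit 1584) (Tr.nd (nat_lit 1554) (Tr.nd (nat_lit 1539) (Tr.nd (nat_lit 1532) (Tr.nd (nat_lit 1528) (Tr.nd (nat_lit 1526) (Tr.lf (Fc.ed (nat_lit 1525) (nat_lit 404) Col.b (nat_lit 489) Dv.df))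
(Tr.nd (nat_lit 1527) (Tr.lf (Fc.ed (nat_lit 1526) (nat_lit 489) Col.f (nat_lit 489) (Dv.wd (nat_lit 35) [Mv.b (nat_lit 1525), Mv.f (nat_lit 1295), Mv.f (nat_lit 1525)])))
(Tr.lf (Fc.ed (nat_lit 1527) (nat_lit 404) Col.d (nat_lit 490) Dv.df))))
(Tr.nd (nat_lit 1530) (Tr.nd (nat_lit 1529) (Tr.lf (Fc.ed (nat_lit 1528) (nat_lit 490) Col.c (nat_lit 488) (Dv.wd (nat_lit 83) [Mv.b (nat_lit 1523), Mv.f (nat_lit 1291), Mv.b (nat_lit 936), Mv.f (nat_lit 1294), Mv.f (nat_lit 1527)])))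
(Tr.lf (Fc.ed (nat_lit 1529) (nat_lit 405) Col.a (nat_lit 491) Dv.df)))
(Tr.nd (nat_lit 1531) (Tr.lf (Fc.ed (nat_lit 1530) (nat_lit 491) Col.e (nat_lit 410) (Dv.wd (nat_lit 38) [Mv.f (nat_lit 1315), Mv.b (nat_lit 1297), Mv.f (nat_lit 1529)])))
(Tr.lf (Fc.ed (nat_lit 1531) (nat_lit 405) Col.d (nat_lit 492) Dv.df)))))
(Tr.nd (nat_lit 1535) (Tr.nd (nat_lit 1533) (Tr.lf (Fc.ed (nat_lit 1532) (nat_lit 492) Col.b (nat_lit 406) (Dv.wd (nat_lit 183) [Mv.b (nat_lit 1298), Mv.f (nat_lit 1296), Mv.f (nat_lit 1531)])))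
(Tr.nd (nat_lit 1534) (Tr.lf (Fc.ed (nat_lit 1533) (nat_lit 406) Col.e (nat_lit 493) Dv.df))
(Tr.lf (Fc.ed (nat_lit 1534) (nat_lit 407) Col.b (nat_lit 494) Dv.df))))
(Tr.nd (nat_lit 1537) (Tr.nd (nat_lit 1536) (Tr.lf (Fc.ed (nat_lit 1535) (nat_lit 494) Col.l (nat_lit 494) (Dv.wd (nat_lit 73) [Mv.b (nat_lit 1534), Mv.f (nat_lit 1301), Mv.f (nat_lit 1534)])))
(Tr.lf (Fc.ed (nat_lit 1536) (nat_lit 494) Col.e (nat_lit 489) (Dv.wd (nat_lit 40) [Mv.b (nat_lit 1525), Mv.b (nat_lit 1303), Mv.f (nat_lit 1534)]))))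
(Tr.nd (nat_lit 1538) (Tr.lf (Fc.ed (nat_lit 1537) (nat_lit 494) Col.g (nat_lit 494) (Dv.wd (nat_lit 75) [Mv.b (nat_lit 1534), Mv.f (nat_lit 1304), Mv.f (nat_lit 1534)])))
(Tr.lf (Fc.ed (nat_lit 1538) (nat_lit 407) Col.d (nat_lit 495) Dv.df))))))
(Tr.nd (nat_lit 1546) (Tr.nd (nat_lit 1542) (Tr.nd (nat_lit 1540) (Tr.lf (Fc.ed (nat_lit 1539) (nat_lit 495) Col.a (nat_lit 408) (Dv.wd (nat_lit 182) [Mv.b (nat_lit 1307), Mv.b (nat_lit 1302), Mv.f (nat_lit 1538)])))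
(Tr.nd (nat_lit 1541) (Tr.lf (Fc.ed (nat_lit 1540) (nat_lit 495) Col.i (nat_lit 495) (Dv.wd (nat_lit 135) [Mv.b (nat_lit 1538), Mv.f (nat_lit 1306), Mv.f (nat_lit 1538)])))
(Tr.lf (Fc.ed (nat_lit 1541) (nat_lit 495) Col.c (nat_lit 495) (Dv.wd (nat_lit 83) [Mv.b (nat_lit 1538), Mv.b (nat_lit 1300), Mv.f (nat_lit 945), Mv.f (nat_lit 1300), Mv.f (nat_lit 1538)])))))
(Tr.nd (nat_lit 1544) (Tr.nd (nat_lit 1543) (Tr.lf (Fc.ed (nat_lit 1542) (nat_lit 407) Col.f (nat_lit 496) Dv.df))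
(Tr.lf (Fc.ed (nat_lit 1543) (nat_lit 496) Col.h (nat_lit 496) (Dv.wd (nat_lit 115) [Mv.b (nat_lit 1542), Mv.f (nat_lit 1305), Mv.f (nat_lit 1542)]))))
(Tr.nd (nat_lit 1545) (Tr.lf (Fc.ed (nat_lit 1544) (nat_lit 408) Col.e (nat_lit 497) Dv.df))
(Tr.lf (Fc.ed (nat_lit 1545) (nat_lit 497) Col.d (nat_lit 493) (Dv.wd (nat_lit 88) [Mv.b (nat_lit 1533), Mv.b (nat_lit 1298), Mv.b (nat_lit 952), Mv.f (nat_lit 1307), Mv.f (nat_lit 1544)]))))))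
(Tr.nd (nat_lit 1550) (Tr.nd (nat_lit 1548) (Tr.nd (nat_lit 1547) (Tr.lf (Fc.ed (nat_lit 1546) (nat_lit 408) Col.f (nat_lit 498) Dv.df))
(Tr.lf (Fc.ed (nat_lit 1547) (nat_lit 498) Col.l (nat_lit 498) (Dv.wd (nat_lit 89) [Mv.b (nat_lit 1546), Mv.f (nat_lit 1308), Mv.f (nat_lit 1546)]))))
(Tr.nd (nat_lit 1549) (Tr.lf (Fc.ed (nat_lit 1548) (nat_lit 498) Col.c (nat_lit 498) (Dv.wd (nat_lit 91) [Mv.b (nat_lit 1546), Mv.f (nat_lit 1310), Mv.f (nat_lit 1546)])))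
(Tr.lf (Fc.ed (nat_lit 1549) (nat_lit 498) Col.d (nat_lit 409) (Dv.wd (nat_lit 92) [Mv.b (nat_lit 1311), Mv.f (nat_lit 1307), Mv.f (nat_lit 1546)])))))
(Tr.nd (nat_lit 1552) (Tr.nd (nat_lit 1551) (Tr.lf (Fc.ed (nat_lit 1550) (nat_lit 498) Col.i (nat_lit 498) (Dv.wd (nat_lit 150) [Mv.b (nat_lit 1546), Mv.f (nat_lit 1309), Mv.f (nat_lit 1546)])))
(Tr.lf (Fc.ed (nat_lit 1551) (nat_lit 408) Col.h (nat_lit 499) Dv.df)))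
(Tr.nd (nat_lit 1553) (Tr.lf (Fc.ed (nat_lit 1552) (nat_lit 409) Col.g (nat_lit 500) Dv.df))
(Tr.lf (Fc.ed (nat_lit 1553) (nat_lit 500) Col.h (nat_lit 500) (Dv.wd (nat_lit 140) [Mv.b (nat_lit 1552), Mv.f (nat_lit 1312), Mv.f (nat_lit 1552)]))))))))
(Tr.nd (nat_lit 1569) (Tr.nd (nat_lit 1561) (Tr.nd (nat_lit 1557) (Tr.nd (nat_lit 1555) (Tr.lf (Fc.ed (nat_lit 1554) (nat_lit 410) Col.b (nat_lit 501) Dv.df))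
(Tr.nd (nat_lit 1556) (Tr.lf (Fc.ed (nat_lit 1555) (nat_lit 501) Col.g (nat_lit 501) (Dv.wd (nat_lit 75) [Mv.b (nat_lit 1554), Mv.f (nat_lit 1316), Mv.f (nat_lit 1554)])))
(Tr.lf (Fc.ed (nat_lit 1556) (nat_lit 501) Col.a (nat_lit 494) (Dv.wd (nat_lit 128) [Mv.b (nat_lit 1534), Mv.f (nat_lit 1302), Mv.b (nat_lit 959), Mv.b (nat_lit 1315), Mv.f (nat_lit 1554)])))))
(Tr.nd (nat_lit 1559) (Tr.nd (nat_lit 1558) (Tr.lf (Fc.ed (nat_lit 1557) (nat_lit 410) Col.d (nat_lit 502) Dv.df))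
(Tr.lf (Fc.ed (nat_lit 1558) (nat_lit 502) Col.a (nat_lit 412) (Dv.wd (nat_lit 182) [Mv.b (nat_lit 1320), Mv.b (nat_lit 1315), Mv.f (nat_lit 1557)]))))
(Tr.nd (nat_lit 1560) (Tr.lf (Fc.ed (nat_lit 1559) (nat_lit 410) Col.f (nat_lit 503) Dv.df))
(Tr.lf (Fc.ed (nat_lit 1560) (nat_lit 503) Col.c (nat_lit 411) (Dv.wd (nat_lit 91) [Mv.b (nat_lit 1317), Mv.f (nat_lit 1314), Mv.f (nat_lit 1559)]))))))
(Tr.nd (nat_lit 1565) (Tr.nd (nat_lit 1563) (Tr.nd (nat_lit 1562) (Tr.lf (Fc.ed (nat_lit 1561) (nat_lit 411) Col.g (nat_lit 504) Dv.df))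
(Tr.lf (Fc.ed (nat_lit 1562) (nat_lit 504) Col.a (nat_lit 413) (Dv.wd (nat_lit 174) [Mv.b (nat_lit 1322), Mv.b (nat_lit 1318), Mv.f (nat_lit 1561)]))))
(Tr.nd (nat_lit 1564) (Tr.lf (Fc.ed (nat_lit 1563) (nat_lit 504) Col.b (nat_lit 504) (Dv.wd (nat_lit 146) [Mv.b (nat_lit 1561), Mv.f (nat_lit 1319), Mv.f (nat_lit 1561)])))
(Tr.lf (Fc.ed (nat_lit 1564) (nat_lit 412) Col.e (nat_lit 505) Dv.df))))
(Tr.nd (nat_lit 1567) (Tr.nd (nat_lit 1566) (Tr.lf (Fc.ed (nat_lit 1565) (nat_lit 505) Col.b (nat_lit 497) (Dv.wd (nat_lit 153) [Mv.b (nat_lit 1544), Mv.b (nat_lit 1321), Mv.f (nat_lit 1564)])))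
(Tr.lf (Fc.ed (nat_lit 1566) (nat_lit 412) Col.f (nat_lit 506) Dv.df)))
(Tr.nd (nat_lit 1568) (Tr.lf (Fc.ed (nat_lit 1567) (nat_lit 506) Col.b (nat_lit 498) (Dv.wd (nat_lit 114) [Mv.b (nat_lit 1546), Mv.b (nat_lit 1321), Mv.f (nat_lit 1566)])))
(Tr.lf (Fc.ed (nat_lit 1568) (nat_lit 414) Col.l (nat_lit 507) Dv.df))))))
(Tr.nd (nat_lit 1576) (Tr.nd (nat_lit 1572) (Tr.nd (nat_lit 1570) (Tr.lf (Fc.ed (nat_lit 1569) (nat_lit 507) Col.a (nat_lit 507) (Dv.wd (nat_lit 65) [Mv.b (nat_lit 1568), Mv.f (nat_lit 1328), Mv.f (nat_lit 1568)])))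
(Tr.nd (nat_lit 1571) (Tr.lf (Fc.ed (nat_lit 1570) (nat_lit 507) Col.e (nat_lit 507) (Dv.wd (nat_lit 39) [Mv.b (nat_lit 1568), Mv.f (nat_lit 1327), Mv.f (nat_lit 1568)])))
(Tr.lf (Fc.ed (nat_lit 1571) (nat_lit 507) Col.k (nat_lit 507) (Dv.wd (nat_lit 192) [Mv.b (nat_lit 1568), Mv.b (nat_lit 1326), Mv.f (nat_lit 967), Mv.f (nat_lit 1326), Mv.f (nat_lit 1568)])))))
(Tr.nd (nat_lit 1574) (Tr.nd (nat_lit 1573) (Tr.lf (Fc.ed (nat_lit 1572) (nat_lit 415) Col.b (nat_lit 508) Dv.df))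
(Tr.lf (Fc.ed (nat_lit 1573) (nat_lit 508) Col.a (nat_lit 508) (Dv.wd (nat_lit 128) [Mv.b (nat_lit 1572), Mv.f (nat_lit 1330), Mv.f (nat_lit 971), Mv.b (nat_lit 1330), Mv.f (nat_lit 1572)]))))
(Tr.nd (nat_lit 1575) (Tr.lf (Fc.ed (nat_lit 1574) (nat_lit 415) Col.d (nat_lit 509) Dv.df))
(Tr.lf (Fc.ed (nat_lit 1575) (nat_lit 509) Col.c (nat_lit 502) (Dv.wd (nat_lit 83) [Mv.b (nat_lit 1557), Mv.b (nat_lit 1314), Mv.b (nat_lit 968), Mv.f (nat_lit 1329), Mv.f (nat_lit 1574)]))))))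
(Tr.nd (nat_lit 1580) (Tr.nd (nat_lit 1578) (Tr.nd (nat_lit 1577) (Tr.lf (Fc.ed (nat_lit 1576) (nat_lit 415) Col.f (nat_lit 510) Dv.df))
(Tr.lf (Fc.ed (nat_lit 1577) (nat_lit 510) Col.a (nat_lit 417) (Dv.wd (nat_lit 113) [Mv.b (nat_lit 1333), Mv.b (nat_lit 1330), Mv.f (nat_lit 1576)]))))
(Tr.nd (nat_lit 1579) (Tr.lf (Fc.ed (nat_lit 1578) (nat_lit 416) Col.e (nat_lit 511) Dv.df))
(Tr.lf (Fc.ed (nat_lit 1579) (nat_lit 511) Col.c (nat_lit 505) (Dv.wd (nat_lit 86) [Mv.b (nat_lit 1564), Mv.b (nat_lit 1332), Mv.f (nat_lit 1578)])))))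
(Tr.nd (nat_lit 1582) (Tr.nd (nat_lit 1581) (Tr.lf (Fc.ed (nat_lit 1580) (nat_lit 416) Col.f (nat_lit 512) Dv.df))
(Tr.lf (Fc.ed (nat_lit 1581) (nat_lit 512) Col.d (nat_lit 417) (Dv.wd (nat_lit 92) [Mv.b (nat_lit 1333), Mv.f (nat_lit 1331), Mv.f (nat_lit 1580)]))))
(Tr.nd (nat_lit 1583) (Tr.lf (Fc.ed (nat_lit 1582) (nat_lit 416) Col.h (nat_lit 513) Dv.df))
(Tr.lf (Fc.ed (nat_lit 1583) (nat_lit 417) Col.e (nat_lit 514) Dv.df))))))))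
(Tr.nd (nat_lit 1613) (Tr.nd (nat_lit 1598) (Tr.nd (nat_lit 1591) (Tr.nd (nat_lit 1587) (Tr.nd (nat_lit 1585) (Tr.lf (Fc.ed (nat_lit 1584) (nat_lit 514) Col.b (nat_lit 514) (Dv.wd (nat_lit 153) [Mv.b (nat_lit 1583), Mv.f (nat_lit 1334), Mv.f (nat_lit 1583)])))
(Tr.nd (nat_lit 1586) (Tr.lf (Fc.ed (nat_lit 1585) (nat_lit 514) Col.c (nat_lit 418) (Dv.wd (nat_lit 86) [Mv.b (nat_lit 1336), Mv.b (nat_lit 1335), Mv.f (nat_lit 1583)])))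
(Tr.lf (Fc.ed (nat_lit 1586) (nat_lit 417) Col.g (nat_lit 515) Dv.df))))
(Tr.nd (nat_lit 1589) (Tr.nd (nat_lit 1588) (Tr.lf (Fc.ed (nat_lit 1587) (nat_lit 515) Col.b (nat_lit 515) (Dv.wd (nat_lit 146) [Mv.b (nat_lit 1586), Mv.f (nat_lit 1334), Mv.f (nat_lit 1586)])))
(Tr.lf (Fc.ed (nat_lit 1588) (nat_lit 515) Col.c (nat_lit 419) (Dv.wd (nat_lit 96) [Mv.b (nat_lit 1339), Mv.b (nat_lit 1335), Mv.f (nat_lit 1586)]))))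
(Tr.nd (nat_lit 1590) (Tr.lf (Fc.ed (nat_lit 1589) (nat_lit 418) Col.g (nat_lit 516) Dv.df))
(Tr.lf (Fc.ed (nat_lit 1590) (nat_lit 516) Col.d (nat_lit 516) (Dv.wd (nat_lit 97) [Mv.b (nat_lit 1589), Mv.f (nat_lit 1338), Mv.f (nat_lit 1589)]))))))
(Tr.nd (nat_lit 1594) (Tr.nd (nat_lit 1592) (Tr.lf (Fc.ed (nat_lit 1591) (nat_lit 516) Col.e (nat_lit 419) (Dv.wd (nat_lit 98) [Mv.b (nat_lit 1339), Mv.f (nat_lit 1336), Mv.f (nat_lit 1589)])))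
(Tr.nd (nat_lit 1593) (Tr.lf (Fc.ed (nat_lit 1592) (nat_lit 516) Col.h (nat_lit 435) (Dv.wd (nat_lit 140) [Mv.f (nat_lit 1388), Mv.b (nat_lit 1337), Mv.f (nat_lit 1589)])))
(Tr.lf (Fc.ed (nat_lit 1593) (nat_lit 420) Col.l (nat_lit 517) Dv.df))))
(Tr.nd (nat_lit 1596) (Tr.nd (nat_lit 1595) (Tr.lf (Fc.ed (nat_lit 1594) (nat_lit 517) Col.h (nat_lit 507) (Dv.wd (nat_lit 117) [Mv.b (nat_lit 1568), Mv.b (nat_lit 1343), Mv.f (nat_lit 1593)])))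
(Tr.lf (Fc.ed (nat_lit 1595) (nat_lit 420) Col.c (nat_lit 518) Dv.df)))
(Tr.nd (nat_lit 1597) (Tr.lf (Fc.ed (nat_lit 1596) (nat_lit 518) Col.k (nat_lit 421) (Dv.wd (nat_lit 78) [Mv.b (nat_lit 1344), Mv.f (nat_lit 1342), Mv.f (nat_lit 1595)])))
(Tr.lf (Fc.ed (nat_lit 1597) (nat_lit 420) Col.f (nat_lit 519) Dv.df))))))
(Tr.nd (nat_lit 1605) (Tr.nd (nat_lit 1601) (Tr.nd (nat_lit 1599) (Tr.lf (Fc.ed (nat_lit 1598) (nat_lit 519) Col.i (nat_lit 428) (Dv.wd (nat_lit 150) [Mv.f (nat_lit 1365), Mv.f (nat_lit 1356), Mv.f (nat_lit 1597)])))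
(Tr.nd (nat_lit 1600) (Tr.lf (Fc.ed (nat_lit 1599) (nat_lit 421) Col.b (nat_lit 520) Dv.df))
(Tr.lf (Fc.ed (nat_lit 1600) (nat_lit 520) Col.g (nat_lit 520) (Dv.wd (nat_lit 75) [Mv.b (nat_lit 1599), Mv.f (nat_lit 1346), Mv.f (nat_lit 1599)])))))
(Tr.nd (nat_lit 1603) (Tr.nd (nat_lit 1602) (Tr.lf (Fc.ed (nat_lit 1601) (nat_lit 520) Col.h (nat_lit 508) (Dv.wd (nat_lit 29) [Mv.b (nat_lit 1572), Mv.b (nat_lit 1347), Mv.f (nat_lit 1599)])))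
(Tr.lf (Fc.ed (nat_lit 1602) (nat_lit 520) Col.a (nat_lit 520) (Dv.wd (nat_lit 128) [Mv.b (nat_lit 1599), Mv.f (nat_lit 1345), Mv.f (nat_lit 985), Mv.b (nat_lit 1345), Mv.f (nat_lit 1599)]))))
(Tr.nd (nat_lit 1604) (Tr.lf (Fc.ed (nat_lit 1603) (nat_lit 421) Col.d (nat_lit 521) Dv.df))
(Tr.lf (Fc.ed (nat_lit 1604) (nat_lit 521) Col.a (nat_lit 422) (Dv.wd (nat_lit 182) [Mv.b (nat_lit 1348), Mv.b (nat_lit 1345), Mv.f (nat_lit 1603)]))))))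
(Tr.nd (nat_lit 1609) (Tr.nd (nat_lit 1607) (Tr.nd (nat_lit 1606) (Tr.lf (Fc.ed (nat_lit 1605) (nat_lit 521) Col.c (nat_lit 521) (Dv.wd (nat_lit 83) [Mv.b (nat_lit 1603), Mv.b (nat_lit 1344), Mv.f (nat_lit 980), Mv.f (nat_lit 1344), Mv.f (nat_lit 1603)])))
(Tr.lf (Fc.ed (nat_lit 1606) (nat_lit 421) Col.f (nat_lit 522) Dv.df)))
(Tr.nd (nat_lit 1608) (Tr.lf (Fc.ed (nat_lit 1607) (nat_lit 522) Col.h (nat_lit 510) (Dv.wd (nat_lit 115) [Mv.b (nat_lit 1576), Mv.b (nat_lit 1347), Mv.f (nat_lit 1606)])))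
(Tr.lf (Fc.ed (nat_lit 1608) (nat_lit 522) Col.i (nat_lit 429) (Dv.wd (nat_lit 150) [Mv.f (nat_lit 1370), Mv.f (nat_lit 1359), Mv.f (nat_lit 1606)])))))
(Tr.nd (nat_lit 1611) (Tr.nd (nat_lit 1610) (Tr.lf (Fc.ed (nat_lit 1609) (nat_lit 422) Col.e (nat_lit 523) Dv.df))
(Tr.lf (Fc.ed (nat_lit 1610) (nat_lit 422) Col.f (nat_lit 524) Dv.df)))
(Tr.nd (nat_lit 1612) (Tr.lf (Fc.ed (nat_lit 1611) (nat_lit 524) Col.d (nat_lit 423) (Dv.wd (nat_lit 92) [Mv.b (nat_lit 1349), Mv.f (nat_lit 1348), Mv.f (nat_lit 1610)])))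
(Tr.lf (Fc.ed (nat_lit 1612) (nat_lit 524) Col.i (nat_lit 430) (Dv.wd (nat_lit 150) [Mv.f (nat_lit 1372), Mv.f (nat_lit 1361), Mv.f (nat_lit 1610)]))))))))
(Tr.nd (nat_lit 1628) (Tr.nd (nat_lit 1620) (Tr.nd (nat_lit 1616) (Tr.nd (nat_lit 1614) (Tr.lf (Fc.ed (nat_lit 1613) (nat_lit 422) Col.h (nat_lit 525) Dv.df))
(Tr.nd (nat_lit 1615) (Tr.lf (Fc.ed (nat_lit 1614) (nat_lit 525) Col.d (nat_lit 513) (Dv.wd (nat_lit 141) [Mv.b (nat_lit 1582), Mv.b (nat_lit 1331), Mv.b (nat_lit 984), Mv.f (nat_lit 1348), Mv.f (nat_lit 1613)])))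
(Tr.lf (Fc.ed (nat_lit 1615) (nat_lit 423) Col.g (nat_lit 526) Dv.df))))
(Tr.nd (nat_lit 1618) (Tr.nd (nat_lit 1617) (Tr.lf (Fc.ed (nat_lit 1616) (nat_lit 526) Col.c (nat_lit 424) (Dv.wd (nat_lit 96) [Mv.b (nat_lit 1352), Mv.b (nat_lit 1350), Mv.f (nat_lit 1615)])))
(Tr.lf (Fc.ed (nat_lit 1617) (nat_lit 425) Col.l (nat_lit 527) Dv.df)))
(Tr.nd (nat_lit 1619) (Tr.lf (Fc.ed (nat_lit 1618) (nat_lit 527) Col.i (nat_lit 517) (Dv.wd (nat_lit 118) [Mv.b (nat_lit 1593), Mv.b (nat_lit 1356), Mv.f (nat_lit 1617)])))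
(Tr.lf (Fc.ed (nat_lit 1619) (nat_lit 425) Col.c (nat_lit 528) Dv.df)))))
(Tr.nd (nat_lit 1624) (Tr.nd (nat_lit 1622) (Tr.nd (nat_lit 1621) (Tr.lf (Fc.ed (nat_lit 1620) (nat_lit 528) Col.g (nat_lit 528) (Dv.wd (nat_lit 79) [Mv.b (nat_lit 1619), Mv.f (nat_lit 1355), Mv.f (nat_lit 1619)])))
(Tr.lf (Fc.ed (nat_lit 1621) (nat_lit 528) Col.i (nat_lit 518) (Dv.wd (nat_lit 137) [Mv.b (nat_lit 1595), Mv.b (nat_lit 1356), Mv.f (nat_lit 1619)]))))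
(Tr.nd (nat_lit 1623) (Tr.lf (Fc.ed (nat_lit 1622) (nat_lit 426) Col.b (nat_lit 529) Dv.df))
(Tr.lf (Fc.ed (nat_lit 1623) (nat_lit 529) Col.i (nat_lit 520) (Dv.wd (nat_lit 149) [Mv.b (nat_lit 1599), Mv.b (nat_lit 1359), Mv.f (nat_lit 1622)])))))
(Tr.nd (nat_lit 1626) (Tr.nd (nat_lit 1625) (Tr.lf (Fc.ed (nat_lit 1624) (nat_lit 426) Col.d (nat_lit 530) Dv.df))
(Tr.lf (Fc.ed (nat_lit 1625) (nat_lit 530) Col.a (nat_lit 427) (Dv.wd (nat_lit 182) [Mv.b (nat_lit 1360), Mv.b (nat_lit 1358), Mv.f (nat_lit 1624)]))))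
(Tr.nd (nat_lit 1627) (Tr.lf (Fc.ed (nat_lit 1626) (nat_lit 530) Col.i (nat_lit 521) (Dv.wd (nat_lit 135) [Mv.b (nat_lit 1603), Mv.b (nat_lit 1359), Mv.f (nat_lit 1624)])))
(Tr.lf (Fc.ed (nat_lit 1627) (nat_lit 427) Col.e (nat_lit 531) Dv.df))))))
(Tr.nd (nat_lit 1635) (Tr.nd (nat_lit 1631) (Tr.nd (nat_lit 1629) (Tr.lf (Fc.ed (nat_lit 1628) (nat_lit 531) Col.i (nat_lit 523) (Dv.wd (nat_lit 136) [Mv.b (nat_lit 1609), Mv.b (nat_lit 1361), Mv.f (nat_lit 1627)])))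
(Tr.nd (nat_lit 1630) (Tr.lf (Fc.ed (nat_lit 1629) (nat_lit 428) Col.l (nat_lit 532) Dv.df))
(Tr.lf (Fc.ed (nat_lit 1630) (nat_lit 532) Col.d (nat_lit 532) (Dv.wd (nat_lit 45) [Mv.b (nat_lit 1629), Mv.f (nat_lit 1364), Mv.f (nat_lit 1629)])))))
(Tr.nd (nat_lit 1633) (Tr.nd (nat_lit 1632) (Tr.lf (Fc.ed (nat_lit 1631) (nat_lit 532) Col.f (nat_lit 527) (Dv.wd (nat_lit 34) [Mv.b (nat_lit 1617), Mv.b (nat_lit 1365), Mv.f (nat_lit 1629)])))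
(Tr.lf (Fc.ed (nat_lit 1632) (nat_lit 428) Col.c (nat_lit 533) Dv.df)))
(Tr.nd (nat_lit 1634) (Tr.lf (Fc.ed (nat_lit 1633) (nat_lit 533) Col.k (nat_lit 429) (Dv.wd (nat_lit 78) [Mv.b (nat_lit 1368), Mv.f (nat_lit 1362), Mv.f (nat_lit 1632)])))
(Tr.lf (Fc.ed (nat_lit 1634) (nat_lit 533) Col.a (nat_lit 533) (Dv.wd (nat_lit 181) [Mv.b (nat_lit 1632), Mv.f (nat_lit 1367), Mv.f (nat_lit 1632)]))))))
(Tr.nd (nat_lit 1639) (Tr.nd (nat_lit 1637) (Tr.nd (nat_lit 1636) (Tr.lf (Fc.ed (nat_lit 1635) (nat_lit 533) Col.f (nat_lit 528) (Dv.wd (nat_lit 36) [Mv.b (nat_lit 1619), Mv.b (nat_lit 1365), Mv.f (nat_lit 1632)])))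
(Tr.lf (Fc.ed (nat_lit 1636) (nat_lit 533) Col.h (nat_lit 533) (Dv.wd (nat_lit 30) [Mv.b (nat_lit 1632), Mv.f (nat_lit 1366), Mv.f (nat_lit 1632)]))))
(Tr.nd (nat_lit 1638) (Tr.lf (Fc.ed (nat_lit 1637) (nat_lit 428) Col.g (nat_lit 534) Dv.df))
(Tr.lf (Fc.ed (nat_lit 1638) (nat_lit 534) Col.f (nat_lit 534) (Dv.wd (nat_lit 99) [Mv.b (nat_lit 1637), Mv.f (nat_lit 1365), Mv.f (nat_lit 1355), Mv.b (nat_lit 1365), Mv.f (nat_lit 1637)])))))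
(Tr.nd (nat_lit 1641) (Tr.nd (nat_lit 1640) (Tr.lf (Fc.ed (nat_lit 1639) (nat_lit 429) Col.b (nat_lit 535) Dv.df))
(Tr.lf (Fc.ed (nat_lit 1640) (nat_lit 535) Col.f (nat_lit 529) (Dv.wd (nat_lit 35) [Mv.b (nat_lit 1622), Mv.b (nat_lit 1370), Mv.f (nat_lit 1639)]))))
(Tr.nd (nat_lit 1642) (Tr.lf (Fc.ed (nat_lit 1641) (nat_lit 535) Col.a (nat_lit 535) (Dv.wd (nat_lit 128) [Mv.b (nat_lit 1639), Mv.f (nat_lit 1369), Mv.f (nat_lit 1007), Mv.b (nat_lit 1369), Mv.f (nat_lit 1639)])))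
(Tr.lf (Fc.ed (nat_lit 1642) (nat_lit 429) Col.d (nat_lit 536) Dv.df))))))))))
(Tr.nd (nat_lit 1760) (Tr.nd (nat_lit 1701) (Tr.nd (nat_lit 1672) (Tr.nd (nat_lit 1657) (Tr.nd (nat_lit 1650) (Tr.nd (nat_lit 1646) (Tr.nd (nat_lit 1644) (Tr.lf (Fc.ed (nat_lit 1643) (nat_lit 536) Col.f (nat_lit 530) (Dv.wd (nat_lit 37) [Mv.b (nat_lit 1624), Mv.b (nat_lit 1370), Mv.f (nat_lit 1642)])))
(Tr.nd (nat_lit 1645) (Tr.lf (Fc.ed (nat_lit 1644) (nat_lit 536) Col.c (nat_lit 536) (Dv.wd (nat_lit 83) [Mv.b (nat_lit 1642), Mv.b (nat_lit 1368), Mv.f (nat_lit 1002), Mv.f (nat_lit 1368), Mv.f (nat_lit 1642)])))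
(Tr.lf (Fc.ed (nat_lit 1645) (nat_lit 429) Col.g (nat_lit 537) Dv.df))))
(Tr.nd (nat_lit 1648) (Tr.nd (nat_lit 1647) (Tr.lf (Fc.ed (nat_lit 1646) (nat_lit 430) Col.e (nat_lit 538) Dv.df))
(Tr.lf (Fc.ed (nat_lit 1647) (nat_lit 431) Col.l (nat_lit 539) Dv.df)))
(Tr.nd (nat_lit 1649) (Tr.lf (Fc.ed (nat_lit 1648) (nat_lit 539) Col.e (nat_lit 532) (Dv.wd (nat_lit 39) [Mv.b (nat_lit 1629), Mv.b (nat_lit 1375), Mv.f (nat_lit 1647)])))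
(Tr.lf (Fc.ed (nat_lit 1649) (nat_lit 539) Col.h (nat_lit 539) (Dv.wd (nat_lit 117) [Mv.b (nat_lit 1647), Mv.f (nat_lit 1376), Mv.f (nat_lit 1647)]))))))
(Tr.nd (nat_lit 1653) (Tr.nd (nat_lit 1651) (Tr.lf (Fc.ed (nat_lit 1650) (nat_lit 431) Col.c (nat_lit 540) Dv.df))
(Tr.nd (nat_lit 1652) (Tr.lf (Fc.ed (nat_lit 1651) (nat_lit 540) Col.a (nat_lit 540) (Dv.wd (nat_lit 181) [Mv.b (nat_lit 1650), Mv.f (nat_lit 1377), Mv.f (nat_lit 1650)])))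
(Tr.lf (Fc.ed (nat_lit 1652) (nat_lit 540) Col.e (nat_lit 533) (Dv.wd (nat_lit 41) [Mv.b (nat_lit 1632), Mv.b (nat_lit 1375), Mv.f (nat_lit 1650)])))))
(Tr.nd (nat_lit 1655) (Tr.nd (nat_lit 1654) (Tr.lf (Fc.ed (nat_lit 1653) (nat_lit 540) Col.h (nat_lit 540) (Dv.wd (nat_lit 30) [Mv.b (nat_lit 1650), Mv.f (nat_lit 1376), Mv.f (nat_lit 1650)])))
(Tr.lf (Fc.ed (nat_lit 1654) (nat_lit 431) Col.g (nat_lit 541) Dv.df)))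
(Tr.nd (nat_lit 1656) (Tr.lf (Fc.ed (nat_lit 1655) (nat_lit 541) Col.a (nat_lit 541) (Dv.wd (nat_lit 174) [Mv.b (nat_lit 1654), Mv.f (nat_lit 1377), Mv.f (nat_lit 1654)])))
(Tr.lf (Fc.ed (nat_lit 1656) (nat_lit 541) Col.b (nat_lit 541) (Dv.wd (nat_lit 146) [Mv.b (nat_lit 1654), Mv.f (nat_lit 1374), Mv.f (nat_lit 1654)])))))))
(Tr.nd (nat_lit 1664) (Tr.nd (nat_lit 1660) (Tr.nd (nat_lit 1658) (Tr.lf (Fc.ed (nat_lit 1657) (nat_lit 541) Col.e (nat_lit 534) (Dv.wd (nat_lit 98) [Mv.b (nat_lit 1637), Mv.b (nat_lit 1375), Mv.f (nat_lit 1654)])))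
(Tr.nd (nat_lit 1659) (Tr.lf (Fc.ed (nat_lit 1658) (nat_lit 541) Col.h (nat_lit 541) (Dv.wd (nat_lit 140) [Mv.b (nat_lit 1654), Mv.f (nat_lit 1376), Mv.f (nat_lit 1654)])))
(Tr.lf (Fc.ed (nat_lit 1659) (nat_lit 431) Col.i (nat_lit 542) Dv.df))))
(Tr.nd (nat_lit 1662) (Tr.nd (nat_lit 1661) (Tr.lf (Fc.ed (nat_lit 1660) (nat_lit 542) Col.e (nat_lit 519) (Dv.wd (nat_lit 143) [Mv.f (nat_lit 1598), Mv.b (nat_lit 1375), Mv.f (nat_lit 1659)])))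
(Tr.lf (Fc.ed (nat_lit 1661) (nat_lit 432) Col.b (nat_lit 543) Dv.df)))
(Tr.nd (nat_lit 1663) (Tr.lf (Fc.ed (nat_lit 1662) (nat_lit 543) Col.e (nat_lit 535) (Dv.wd (nat_lit 40) [Mv.b (nat_lit 1639), Mv.b (nat_lit 1380), Mv.f (nat_lit 1661)])))
(Tr.lf (Fc.ed (nat_lit 1663) (nat_lit 543) Col.f (nat_lit 543) (Dv.wd (nat_lit 35) [Mv.b (nat_lit 1661), Mv.f (nat_lit 1381), Mv.f (nat_lit 1661)]))))))
(Tr.nd (nat_lit 1668) (Tr.nd (nat_lit 1666) (Tr.nd (nat_lit 1665) (Tr.lf (Fc.ed (nat_lit 1664) (nat_lit 543) Col.h (nat_lit 543) (Dv.wd (nat_lit 29) [Mv.b (nat_lit 1661), Mv.f (nat_lit 1382), Mv.f (nat_lit 1661)])))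
(Tr.lf (Fc.ed (nat_lit 1665) (nat_lit 543) Col.a (nat_lit 543) (Dv.wd (nat_lit 128) [Mv.b (nat_lit 1661), Mv.f (nat_lit 1379), Mv.f (nat_lit 1018), Mv.b (nat_lit 1379), Mv.f (nat_lit 1661)]))))
(Tr.nd (nat_lit 1667) (Tr.lf (Fc.ed (nat_lit 1666) (nat_lit 432) Col.d (nat_lit 544) Dv.df))
(Tr.lf (Fc.ed (nat_lit 1667) (nat_lit 432) Col.g (nat_lit 545) Dv.df))))
(Tr.nd (nat_lit 1670) (Tr.nd (nat_lit 1669) (Tr.lf (Fc.ed (nat_lit 1668) (nat_lit 545) Col.c (nat_lit 433) (Dv.wd (nat_lit 96) [Mv.b (nat_lit 1383), Mv.f (nat_lit 1378), Mv.f (nat_lit 1667)])))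
(Tr.lf (Fc.ed (nat_lit 1669) (nat_lit 545) Col.e (nat_lit 537) (Dv.wd (nat_lit 98) [Mv.b (nat_lit 1645), Mv.b (nat_lit 1380), Mv.f (nat_lit 1667)]))))
(Tr.nd (nat_lit 1671) (Tr.lf (Fc.ed (nat_lit 1670) (nat_lit 432) Col.i (nat_lit 546) Dv.df))
(Tr.lf (Fc.ed (nat_lit 1671) (nat_lit 546) Col.e (nat_lit 522) (Dv.wd (nat_lit 143) [Mv.f (nat_lit 1608), Mv.b (nat_lit 1380), Mv.f (nat_lit 1670)]))))))))
(Tr.nd (nat_lit 1686) (Tr.nd (nat_lit 1679) (Tr.nd (nat_lit 1675) (Tr.nd (nat_lit 1673) (Tr.lf (Fc.ed (nat_lit 1672) (nat_lit 433) Col.i (nat_lit 547) Dv.df))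
(Tr.nd (nat_lit 1674) (Tr.lf (Fc.ed (nat_lit 1673) (nat_lit 547) Col.a (nat_lit 435) (Dv.wd (nat_lit 116) [Mv.b (nat_lit 1387), Mv.b (nat_lit 1384), Mv.f (nat_lit 1672)])))
(Tr.lf (Fc.ed (nat_lit 1674) (nat_lit 547) Col.b (nat_lit 547) (Dv.wd (nat_lit 144) [Mv.b (nat_lit 1672), Mv.f (nat_lit 1385), Mv.f (nat_lit 1672)])))))
(Tr.nd (nat_lit 1677) (Tr.nd (nat_lit 1676) (Tr.lf (Fc.ed (nat_lit 1675) (nat_lit 434) Col.e (nat_lit 548) Dv.df))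
(Tr.lf (Fc.ed (nat_lit 1676) (nat_lit 548) Col.d (nat_lit 538) (Dv.wd (nat_lit 88) [Mv.b (nat_lit 1646), Mv.b (nat_lit 1371), Mv.b (nat_lit 1017), Mv.f (nat_lit 1386), Mv.f (nat_lit 1675)]))))
(Tr.nd (nat_lit 1678) (Tr.lf (Fc.ed (nat_lit 1677) (nat_lit 436) Col.c (nat_lit 549) Dv.df))
(Tr.lf (Fc.ed (nat_lit 1678) (nat_lit 436) Col.g (nat_lit 550) Dv.df)))))
(Tr.nd (nat_lit 1682) (Tr.nd (nat_lit 1680) (Tr.lf (Fc.ed (nat_lit 1679) (nat_lit 550) Col.d (nat_lit 541) (Dv.wd (nat_lit 97) [Mv.b (nat_lit 1654), Mv.b (nat_lit 1390), Mv.f (nat_lit 1678)])))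
(Tr.nd (nat_lit 1681) (Tr.lf (Fc.ed (nat_lit 1680) (nat_lit 550) Col.e (nat_lit 550) (Dv.wd (nat_lit 98) [Mv.b (nat_lit 1678), Mv.f (nat_lit 1391), Mv.f (nat_lit 1678)])))
(Tr.lf (Fc.ed (nat_lit 1681) (nat_lit 550) Col.h (nat_lit 443) (Dv.wd (nat_lit 140) [Mv.f (nat_lit 1411), Mv.f (nat_lit 1398), Mv.f (nat_lit 1678)])))))
(Tr.nd (nat_lit 1684) (Tr.nd (nat_lit 1683) (Tr.lf (Fc.ed (nat_lit 1682) (nat_lit 436) Col.i (nat_lit 551) Dv.df))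
(Tr.lf (Fc.ed (nat_lit 1683) (nat_lit 551) Col.d (nat_lit 542) (Dv.wd (nat_lit 142) [Mv.b (nat_lit 1659), Mv.b (nat_lit 1390), Mv.f (nat_lit 1682)]))))
(Tr.nd (nat_lit 1685) (Tr.lf (Fc.ed (nat_lit 1684) (nat_lit 437) Col.d (nat_lit 552) Dv.df))
(Tr.lf (Fc.ed (nat_lit 1685) (nat_lit 552) Col.b (nat_lit 438) (Dv.wd (nat_lit 183) [Mv.b (nat_lit 1394), Mv.f (nat_lit 1392), Mv.f (nat_lit 1684)])))))))
(Tr.nd (nat_lit 1693) (Tr.nd (nat_lit 1689) (Tr.nd (nat_lit 1687) (Tr.lf (Fc.ed (nat_lit 1686) (nat_lit 437) Col.i (nat_lit 553) Dv.df))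
(Tr.nd (nat_lit 1688) (Tr.lf (Fc.ed (nat_lit 1687) (nat_lit 553) Col.c (nat_lit 439) (Dv.wd (nat_lit 145) [Mv.b (nat_lit 1396), Mv.b (nat_lit 1393), Mv.f (nat_lit 1686)])))
(Tr.lf (Fc.ed (nat_lit 1688) (nat_lit 438) Col.e (nat_lit 554) Dv.df))))
(Tr.nd (nat_lit 1691) (Tr.nd (nat_lit 1690) (Tr.lf (Fc.ed (nat_lit 1689) (nat_lit 554) Col.c (nat_lit 548) (Dv.wd (nat_lit 86) [Mv.b (nat_lit 1675), Mv.b (nat_lit 1395), Mv.f (nat_lit 1688)])))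
(Tr.lf (Fc.ed (nat_lit 1690) (nat_lit 440) Col.c (nat_lit 555) Dv.df)))
(Tr.nd (nat_lit 1692) (Tr.lf (Fc.ed (nat_lit 1691) (nat_lit 555) Col.h (nat_lit 549) (Dv.wd (nat_lit 30) [Mv.b (nat_lit 1677), Mv.b (nat_lit 1398), Mv.f (nat_lit 1690)])))
(Tr.lf (Fc.ed (nat_lit 1692) (nat_lit 441) Col.e (nat_lit 556) Dv.df)))))
(Tr.nd (nat_lit 1697) (Tr.nd (nat_lit 1695) (Tr.nd (nat_lit 1694) (Tr.lf (Fc.ed (nat_lit 1693) (nat_lit 556) Col.b (nat_lit 442) (Dv.wd (nat_lit 153) [Mv.b (nat_lit 1401), Mv.b (nat_lit 1400), Mv.f (nat_lit 1692)])))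
(Tr.lf (Fc.ed (nat_lit 1694) (nat_lit 442) Col.f (nat_lit 557) Dv.df)))
(Tr.nd (nat_lit 1696) (Tr.lf (Fc.ed (nat_lit 1695) (nat_lit 557) Col.l (nat_lit 557) (Dv.wd (nat_lit 89) [Mv.b (nat_lit 1694), Mv.f (nat_lit 1402), Mv.f (nat_lit 1694)])))
(Tr.lf (Fc.ed (nat_lit 1696) (nat_lit 557) Col.a (nat_lit 557) (Dv.wd (nat_lit 113) [Mv.b (nat_lit 1694), Mv.f (nat_lit 1403), Mv.f (nat_lit 1694)])))))
(Tr.nd (nat_lit 1699) (Tr.nd (nat_lit 1698) (Tr.lf (Fc.ed (nat_lit 1697) (nat_lit 557) Col.c (nat_lit 557) (Dv.wd (nat_lit 91) [Mv.b (nat_lit 1694), Mv.f (nat_lit 1404), Mv.f (nat_lit 1694)])))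
(Tr.lf (Fc.ed (nat_lit 1698) (nat_lit 557) Col.d (nat_lit 557) (Dv.wd (nat_lit 92) [Mv.b (nat_lit 1694), Mv.f (nat_lit 1406), Mv.f (nat_lit 1694)]))))
(Tr.nd (nat_lit 1700) (Tr.lf (Fc.ed (nat_lit 1699) (nat_lit 557) Col.h (nat_lit 557) (Dv.wd (nat_lit 115) [Mv.b (nat_lit 1694), Mv.f (nat_lit 1405), Mv.f (nat_lit 1694)])))
(Tr.lf (Fc.ed (nat_lit 1700) (nat_lit 557) Col.e (nat_lit 557) (Dv.wd (nat_lit 93) [Mv.b (nat_lit 1694), Mv.b (nat_lit 1401), Mv.f (nat_lit 1060), Mv.f (nat_lit 1401), Mv.f (nat_lit 1694)])))))))))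
(Tr.nd (nat_lit 1730) (Tr.nd (nat_lit 1715) (Tr.nd (nat_lit 1708) (Tr.nd (nat_lit 1704) (Tr.nd (nat_lit 1702) (Tr.lf (Fc.ed (nat_lit 1701) (nat_lit 443) Col.c (nat_lit 558) Dv.df))
(Tr.nd (nat_lit 1703) (Tr.lf (Fc.ed (nat_lit 1702) (nat_lit 558) Col.g (nat_lit 555) (Dv.wd (nat_lit 79) [Mv.b (nat_lit 1690), Mv.b (nat_lit 1411), Mv.f (nat_lit 1701)])))
(Tr.lf (Fc.ed (nat_lit 1703) (nat_lit 444) Col.c (nat_lit 559) Dv.df))))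
(Tr.nd (nat_lit 1706) (Tr.nd (nat_lit 1705) (Tr.lf (Fc.ed (nat_lit 1704) (nat_lit 559) Col.f (nat_lit 558) (Dv.wd (nat_lit 36) [Mv.b (nat_lit 1701), Mv.b (nat_lit 1416), Mv.f (nat_lit 1703)])))
(Tr.lf (Fc.ed (nat_lit 1705) (nat_lit 444) Col.h (nat_lit 560) Dv.df)))
(Tr.nd (nat_lit 1707) (Tr.lf (Fc.ed (nat_lit 1706) (nat_lit 560) Col.a (nat_lit 560) (Dv.wd (nat_lit 124) [Mv.b (nat_lit 1705), Mv.f (nat_lit 1417), Mv.f (nat_lit 1705)])))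
(Tr.lf (Fc.ed (nat_lit 1707) (nat_lit 560) Col.b (nat_lit 560) (Dv.wd (nat_lit 151) [Mv.b (nat_lit 1705), Mv.f (nat_lit 1414), Mv.f (nat_lit 1705)]))))))
(Tr.nd (nat_lit 1711) (Tr.nd (nat_lit 1709) (Tr.lf (Fc.ed (nat_lit 1708) (nat_lit 560) Col.f (nat_lit 550) (Dv.wd (nat_lit 104) [Mv.f (nat_lit 1681), Mv.b (nat_lit 1416), Mv.f (nat_lit 1705)])))
(Tr.nd (nat_lit 1710) (Tr.lf (Fc.ed (nat_lit 1709) (nat_lit 445) Col.c (nat_lit 561) Dv.df))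
(Tr.lf (Fc.ed (nat_lit 1710) (nat_lit 561) Col.e (nat_lit 559) (Dv.wd (nat_lit 41) [Mv.b (nat_lit 1703), Mv.b (nat_lit 1421), Mv.f (nat_lit 1709)])))))
(Tr.nd (nat_lit 1713) (Tr.nd (nat_lit 1712) (Tr.lf (Fc.ed (nat_lit 1711) (nat_lit 445) Col.h (nat_lit 562) Dv.df))
(Tr.lf (Fc.ed (nat_lit 1712) (nat_lit 562) Col.a (nat_lit 562) (Dv.wd (nat_lit 124) [Mv.b (nat_lit 1711), Mv.f (nat_lit 1423), Mv.f (nat_lit 1711)]))))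
(Tr.nd (nat_lit 1714) (Tr.lf (Fc.ed (nat_lit 1713) (nat_lit 562) Col.b (nat_lit 562) (Dv.wd (nat_lit 151) [Mv.b (nat_lit 1711), Mv.f (nat_lit 1419), Mv.f (nat_lit 1711)])))
(Tr.lf (Fc.ed (nat_lit 1714) (nat_lit 562) Col.e (nat_lit 560) (Dv.wd (nat_lit 103) [Mv.b (nat_lit 1705), Mv.b (nat_lit 1421), Mv.f (nat_lit 1711)])))))))
(Tr.nd (nat_lit 1722) (Tr.nd (nat_lit 1718) (Tr.nd (nat_lit 1716) (Tr.lf (Fc.ed (nat_lit 1715) (nat_lit 562) Col.d (nat_lit 562) (Dv.wd (nat_lit 141) [Mv.b (nat_lit 1711), Mv.f (nat_lit 1420), Mv.f (nat_lit 1096), Mv.b (nat_lit 1420), Mv.f (nat_lit 1711)])))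
(Tr.nd (nat_lit 1717) (Tr.lf (Fc.ed (nat_lit 1716) (nat_lit 453) Col.c (nat_lit 563) Dv.df))
(Tr.lf (Fc.ed (nat_lit 1717) (nat_lit 563) Col.i (nat_lit 469) (Dv.wd (nat_lit 137) [Mv.f (nat_lit 1483), Mv.b (nat_lit 1441), Mv.f (nat_lit 1716)])))))
(Tr.nd (nat_lit 1720) (Tr.nd (nat_lit 1719) (Tr.lf (Fc.ed (nat_lit 1718) (nat_lit 470) Col.b (nat_lit 563) (Dv.wd (nat_lit 71) [Mv.f (nat_lit 1717), Mv.f (nat_lit 1482), Mv.f (nat_lit 1484)])))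
(Tr.lf (Fc.ed (nat_lit 1719) (nat_lit 454) Col.d (nat_lit 564) Dv.df)))
(Tr.nd (nat_lit 1721) (Tr.lf (Fc.ed (nat_lit 1720) (nat_lit 564) Col.b (nat_lit 455) (Dv.wd (nat_lit 183) [Mv.b (nat_lit 1444), Mv.b (nat_lit 1443), Mv.f (nat_lit 1719)])))
(Tr.lf (Fc.ed (nat_lit 1721) (nat_lit 455) Col.h (nat_lit 565) Dv.df)))))
(Tr.nd (nat_lit 1726) (Tr.nd (nat_lit 1724) (Tr.nd (nat_lit 1723) (Tr.lf (Fc.ed (nat_lit 1722) (nat_lit 565) Col.a (nat_lit 565) (Dv.wd (nat_lit 124) [Mv.b (nat_lit 1721), Mv.f (nat_lit 1445), Mv.f (nat_lit 1721)])))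
(Tr.lf (Fc.ed (nat_lit 1723) (nat_lit 456) Col.d (nat_lit 566) Dv.df)))
(Tr.nd (nat_lit 1725) (Tr.lf (Fc.ed (nat_lit 1724) (nat_lit 566) Col.f (nat_lit 564) (Dv.wd (nat_lit 37) [Mv.b (nat_lit 1719), Mv.b (nat_lit 1447), Mv.f (nat_lit 1723)])))
(Tr.lf (Fc.ed (nat_lit 1725) (nat_lit 458) Col.b (nat_lit 567) Dv.df))))
(Tr.nd (nat_lit 1728) (Tr.nd (nat_lit 1727) (Tr.lf (Fc.ed (nat_lit 1726) (nat_lit 567) Col.d (nat_lit 567) (Dv.wd (nat_lit 46) [Mv.b (nat_lit 1725), Mv.f (nat_lit 1454), Mv.f (nat_lit 1725)])))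
(Tr.lf (Fc.ed (nat_lit 1727) (nat_lit 567) Col.e (nat_lit 567) (Dv.wd (nat_lit 40) [Mv.b (nat_lit 1725), Mv.f (nat_lit 1452), Mv.f (nat_lit 1725)]))))
(Tr.nd (nat_lit 1729) (Tr.lf (Fc.ed (nat_lit 1728) (nat_lit 567) Col.f (nat_lit 463) (Dv.wd (nat_lit 35) [Mv.f (nat_lit 1469), Mv.b (nat_lit 1453), Mv.f (nat_lit 1725)])))
(Tr.lf (Fc.ed (nat_lit 1729) (nat_lit 567) Col.c (nat_lit 567) (Dv.wd (nat_lit 154) [Mv.b (nat_lit 1725), Mv.b (nat_lit 1450), Mv.f (nat_lit 1130), Mv.f (nat_lit 1450), Mv.f (nat_lit 1725)]))))))))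
(Tr.nd (nat_lit 1745) (Tr.nd (nat_lit 1737) (Tr.nd (nat_lit 1733) (Tr.nd (nat_lit 1731) (Tr.lf (Fc.ed (nat_lit 1730) (nat_lit 459) Col.d (nat_lit 568) Dv.df))
(Tr.nd (nat_lit 1732) (Tr.lf (Fc.ed (nat_lit 1731) (nat_lit 568) Col.a (nat_lit 466) (Dv.wd (nat_lit 182) [Mv.b (nat_lit 1473), Mv.b (nat_lit 1456), Mv.f (nat_lit 1730)])))
(Tr.lf (Fc.ed (nat_lit 1732) (nat_lit 568) Col.g (nat_lit 464) (Dv.wd (nat_lit 82) [Mv.b (nat_lit 1470), Mv.b (nat_lit 1458), Mv.f (nat_lit 1730)])))))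
(Tr.nd (nat_lit 1735) (Tr.nd (nat_lit 1734) (Tr.lf (Fc.ed (nat_lit 1733) (nat_lit 568) Col.e (nat_lit 566) (Dv.wd (nat_lit 108) [Mv.b (nat_lit 1723), Mv.b (nat_lit 1446), Mv.b (nat_lit 1135), Mv.f (nat_lit 1455), Mv.f (nat_lit 1730)])))
(Tr.lf (Fc.ed (nat_lit 1734) (nat_lit 464) Col.c (nat_lit 569) Dv.df)))
(Tr.nd (nat_lit 1736) (Tr.lf (Fc.ed (nat_lit 1735) (nat_lit 465) Col.c (nat_lit 570) Dv.df))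
(Tr.lf (Fc.ed (nat_lit 1736) (nat_lit 570) Col.h (nat_lit 480) (Dv.wd (nat_lit 30) [Mv.b (nat_lit 1507), Mv.b (nat_lit 1472), Mv.f (nat_lit 1735)]))))))
(Tr.nd (nat_lit 1741) (Tr.nd (nat_lit 1739) (Tr.nd (nat_lit 1738) (Tr.lf (Fc.ed (nat_lit 1737) (nat_lit 466) Col.c (nat_lit 571) Dv.df))
(Tr.lf (Fc.ed (nat_lit 1738) (nat_lit 471) Col.d (nat_lit 572) Dv.df)))
(Tr.nd (nat_lit 1740) (Tr.lf (Fc.ed (nat_lit 1739) (nat_lit 572) Col.i (nat_lit 472) (Dv.wd (nat_lit 135) [Mv.b (nat_lit 1488), Mv.b (nat_lit 1487), Mv.f (nat_lit 1738)])))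
(Tr.lf (Fc.ed (nat_lit 1740) (nat_lit 472) Col.c (nat_lit 573) Dv.df))))
(Tr.nd (nat_lit 1743) (Tr.nd (nat_lit 1742) (Tr.lf (Fc.ed (nat_lit 1741) (nat_lit 573) Col.h (nat_lit 569) (Dv.wd (nat_lit 30) [Mv.b (nat_lit 1734), Mv.b (nat_lit 1489), Mv.f (nat_lit 1740)])))
(Tr.lf (Fc.ed (nat_lit 1742) (nat_lit 473) Col.d (nat_lit 574) Dv.df)))
(Tr.nd (nat_lit 1744) (Tr.lf (Fc.ed (nat_lit 1743) (nat_lit 574) Col.f (nat_lit 574) (Dv.wd (nat_lit 37) [Mv.b (nat_lit 1742), Mv.f (nat_lit 1492), Mv.f (nat_lit 1742)])))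
(Tr.lf (Fc.ed (nat_lit 1744) (nat_lit 574) Col.g (nat_lit 475) (Dv.wd (nat_lit 82) [Mv.b (nat_lit 1498), Mv.b (nat_lit 1493), Mv.f (nat_lit 1742)])))))))
(Tr.nd (nat_lit 1752) (Tr.nd (nat_lit 1748) (Tr.nd (nat_lit 1746) (Tr.lf (Fc.ed (nat_lit 1745) (nat_lit 574) Col.i (nat_lit 474) (Dv.wd (nat_lit 135) [Mv.b (nat_lit 1495), Mv.b (nat_lit 1494), Mv.f (nat_lit 1742)])))
(Tr.nd (nat_lit 1747) (Tr.lf (Fc.ed (nat_lit 1746) (nat_lit 574) Col.h (nat_lit 574) (Dv.wd (nat_lit 105) [Mv.b (nat_lit 1742), Mv.b (nat_lit 1490), Mv.f (nat_lit 1264), Mv.f (nat_lit 1490), Mv.f (nat_lit 1742)])))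
(Tr.lf (Fc.ed (nat_lit 1747) (nat_lit 474) Col.c (nat_lit 575) Dv.df))))
(Tr.nd (nat_lit 1750) (Tr.nd (nat_lit 1749) (Tr.lf (Fc.ed (nat_lit 1748) (nat_lit 575) Col.g (nat_lit 476) (Dv.wd (nat_lit 79) [Mv.b (nat_lit 1499), Mv.b (nat_lit 1496), Mv.f (nat_lit 1747)])))
(Tr.lf (Fc.ed (nat_lit 1749) (nat_lit 575) Col.h (nat_lit 571) (Dv.wd (nat_lit 30) [Mv.b (nat_lit 1737), Mv.b (nat_lit 1497), Mv.f (nat_lit 1747)]))))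
(Tr.nd (nat_lit 1751) (Tr.lf (Fc.ed (nat_lit 1750) (nat_lit 475) Col.c (nat_lit 576) Dv.df))
(Tr.lf (Fc.ed (nat_lit 1751) (nat_lit 476) Col.b (nat_lit 577) Dv.df)))))
(Tr.nd (nat_lit 1756) (Tr.nd (nat_lit 1754) (Tr.nd (nat_lit 1753) (Tr.lf (Fc.ed (nat_lit 1752) (nat_lit 477) Col.f (nat_lit 578) Dv.df))
(Tr.lf (Fc.ed (nat_lit 1753) (nat_lit 478) Col.d (nat_lit 579) Dv.df)))
(Tr.nd (nat_lit 1755) (Tr.lf (Fc.ed (nat_lit 1754) (nat_lit 579) Col.f (nat_lit 572) (Dv.wd (nat_lit 37) [Mv.b (nat_lit 1738), Mv.b (nat_lit 1503), Mv.f (nat_lit 1753)])))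
(Tr.lf (Fc.ed (nat_lit 1755) (nat_lit 479) Col.c (nat_lit 580) Dv.df))))
(Tr.nd (nat_lit 1758) (Tr.nd (nat_lit 1757) (Tr.lf (Fc.ed (nat_lit 1756) (nat_lit 580) Col.f (nat_lit 576) (Dv.wd (nat_lit 36) [Mv.b (nat_lit 1750), Mv.b (nat_lit 1505), Mv.f (nat_lit 1755)])))
(Tr.lf (Fc.ed (nat_lit 1757) (nat_lit 580) Col.i (nat_lit 480) (Dv.wd (nat_lit 137) [Mv.b (nat_lit 1507), Mv.b (nat_lit 1506), Mv.f (nat_lit 1755)]))))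
(Tr.nd (nat_lit 1759) (Tr.lf (Fc.ed (nat_lit 1758) (nat_lit 479) Col.e (nat_lit 581) Dv.df))
(Tr.lf (Fc.ed (nat_lit 1759) (nat_lit 581) Col.d (nat_lit 487) (Dv.wd (nat_lit 88) [Mv.b (nat_lit 1522), Mv.b (nat_lit 1288), Mv.b (nat_lit 1276), Mv.f (nat_lit 1504), Mv.f (nat_lit 1758)]))))))))))
(Tr.nd (nat_lit 1819) (Tr.nd (nat_lit 1789) (Tr.nd (nat_lit 1774) (Tr.nd (nat_lit 1767) (Tr.nd (nat_lit 1763) (Tr.nd (nat_lit 1761) (Tr.lf (Fc.ed (nat_lit 1760) (nat_lit 480) Col.b (nat_lit 582) Dv.df))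
(Tr.nd (nat_lit 1762) (Tr.lf (Fc.ed (nat_lit 1761) (nat_lit 582) Col.f (nat_lit 577) (Dv.wd (nat_lit 35) [Mv.b (nat_lit 1751), Mv.b (nat_lit 1508), Mv.f (nat_lit 1760)])))
(Tr.lf (Fc.ed (nat_lit 1762) (nat_lit 481) Col.f (nat_lit 583) Dv.df))))
(Tr.nd (nat_lit 1765) (Tr.nd (nat_lit 1764) (Tr.lf (Fc.ed (nat_lit 1763) (nat_lit 583) Col.e (nat_lit 578) (Dv.wd (nat_lit 93) [Mv.b (nat_lit 1752), Mv.b (nat_lit 1500), Mv.b (nat_lit 1280), Mv.f (nat_lit 1509), Mv.f (nat_lit 1762)])))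
(Tr.lf (Fc.ed (nat_lit 1764) (nat_lit 482) Col.e (nat_lit 584) Dv.df)))
(Tr.nd (nat_lit 1766) (Tr.lf (Fc.ed (nat_lit 1765) (nat_lit 584) Col.a (nat_lit 484) (Dv.wd (nat_lit 152) [Mv.b (nat_lit 1514), Mv.b (nat_lit 1511), Mv.f (nat_lit 1764)])))
(Tr.lf (Fc.ed (nat_lit 1766) (nat_lit 483) Col.b (nat_lit 585) Dv.df)))))
(Tr.nd (nat_lit 1770) (Tr.nd (nat_lit 1768) (Tr.lf (Fc.ed (nat_lit 1767) (nat_lit 585) Col.h (nat_lit 585) (Dv.wd (nat_lit 29) [Mv.b (nat_lit 1766), Mv.f (nat_lit 1513), Mv.f (nat_lit 1766)])))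
(Tr.nd (nat_lit 1769) (Tr.lf (Fc.ed (nat_lit 1768) (nat_lit 483) Col.e (nat_lit 586) Dv.df))
(Tr.lf (Fc.ed (nat_lit 1769) (nat_lit 484) Col.f (nat_lit 587) Dv.df))))
(Tr.nd (nat_lit 1772) (Tr.nd (nat_lit 1771) (Tr.lf (Fc.ed (nat_lit 1770) (nat_lit 587) Col.d (nat_lit 583) (Dv.wd (nat_lit 92) [Mv.b (nat_lit 1762), Mv.b (nat_lit 1515), Mv.f (nat_lit 1769)])))
(Tr.lf (Fc.ed (nat_lit 1771) (nat_lit 485) Col.c (nat_lit 588) Dv.df)))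
(Tr.nd (nat_lit 1773) (Tr.lf (Fc.ed (nat_lit 1772) (nat_lit 588) Col.a (nat_lit 486) (Dv.wd (nat_lit 181) [Mv.b (nat_lit 1519), Mv.b (nat_lit 1517), Mv.f (nat_lit 1771)])))
(Tr.lf (Fc.ed (nat_lit 1773) (nat_lit 588) Col.h (nat_lit 490) (Dv.wd (nat_lit 30) [Mv.f (nat_lit 1528), Mv.f (nat_lit 1524), Mv.f (nat_lit 1771)])))))))
(Tr.nd (nat_lit 1781) (Tr.nd (nat_lit 1777) (Tr.nd (nat_lit 1775) (Tr.lf (Fc.ed (nat_lit 1774) (nat_lit 485) Col.e (nat_lit 589) Dv.df))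
(Tr.nd (nat_lit 1776) (Tr.lf (Fc.ed (nat_lit 1775) (nat_lit 589) Col.i (nat_lit 584) (Dv.wd (nat_lit 136) [Mv.b (nat_lit 1764), Mv.b (nat_lit 1518), Mv.f (nat_lit 1774)])))
(Tr.lf (Fc.ed (nat_lit 1776) (nat_lit 486) Col.b (nat_lit 590) Dv.df))))
(Tr.nd (nat_lit 1779) (Tr.nd (nat_lit 1778) (Tr.lf (Fc.ed (nat_lit 1777) (nat_lit 590) Col.h (nat_lit 492) (Dv.wd (nat_lit 29) [Mv.f (nat_lit 1532), Mv.b (nat_lit 1520), Mv.f (nat_lit 1776)])))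
(Tr.lf (Fc.ed (nat_lit 1778) (nat_lit 590) Col.i (nat_lit 585) (Dv.wd (nat_lit 149) [Mv.b (nat_lit 1766), Mv.b (nat_lit 1521), Mv.f (nat_lit 1776)]))))
(Tr.nd (nat_lit 1780) (Tr.lf (Fc.ed (nat_lit 1779) (nat_lit 486) Col.e (nat_lit 591) Dv.df))
(Tr.lf (Fc.ed (nat_lit 1780) (nat_lit 591) Col.c (nat_lit 487) (Dv.wd (nat_lit 86) [Mv.b (nat_lit 1522), Mv.f (nat_lit 1519), Mv.f (nat_lit 1779)]))))))
(Tr.nd (nat_lit 1785) (Tr.nd (nat_lit 1783) (Tr.nd (nat_lit 1782) (Tr.lf (Fc.ed (nat_lit 1781) (nat_lit 591) Col.h (nat_lit 493) (Dv.wd (nat_lit 107) [Mv.b (nat_lit 1533), Mv.b (nat_lit 1520), Mv.f (nat_lit 1779)])))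
(Tr.lf (Fc.ed (nat_lit 1782) (nat_lit 591) Col.i (nat_lit 586) (Dv.wd (nat_lit 136) [Mv.b (nat_lit 1768), Mv.b (nat_lit 1521), Mv.f (nat_lit 1779)]))))
(Tr.nd (nat_lit 1784) (Tr.lf (Fc.ed (nat_lit 1783) (nat_lit 488) Col.e (nat_lit 592) Dv.df))
(Tr.lf (Fc.ed (nat_lit 1784) (nat_lit 592) Col.h (nat_lit 589) (Dv.wd (nat_lit 107) [Mv.b (nat_lit 1774), Mv.b (nat_lit 1524), Mv.f (nat_lit 1783)])))))
(Tr.nd (nat_lit 1787) (Tr.nd (nat_lit 1786) (Tr.lf (Fc.ed (nat_lit 1785) (nat_lit 489) Col.a (nat_lit 593) Dv.df))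
(Tr.lf (Fc.ed (nat_lit 1786) (nat_lit 593) Col.e (nat_lit 501) (Dv.wd (nat_lit 38) [Mv.f (nat_lit 1556), Mv.f (nat_lit 1536), Mv.f (nat_lit 1785)]))))
(Tr.nd (nat_lit 1788) (Tr.lf (Fc.ed (nat_lit 1787) (nat_lit 489) Col.d (nat_lit 594) Dv.df))
(Tr.lf (Fc.ed (nat_lit 1788) (nat_lit 594) Col.b (nat_lit 490) (Dv.wd (nat_lit 183) [Mv.b (nat_lit 1527), Mv.f (nat_lit 1525), Mv.f (nat_lit 1787)]))))))))
(Tr.nd (nat_lit 1804) (Tr.nd (nat_lit 1796) (Tr.nd (nat_lit 1792) (Tr.nd (nat_lit 1790) (Tr.lf (Fc.ed (nat_lit 1789) (nat_lit 490) Col.e (nat_lit 595) Dv.df))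
(Tr.nd (nat_lit 1791) (Tr.lf (Fc.ed (nat_lit 1790) (nat_lit 595) Col.c (nat_lit 592) (Dv.wd (nat_lit 86) [Mv.b (nat_lit 1783), Mv.b (nat_lit 1528), Mv.f (nat_lit 1789)])))
(Tr.lf (Fc.ed (nat_lit 1791) (nat_lit 491) Col.d (nat_lit 596) Dv.df))))
(Tr.nd (nat_lit 1794) (Tr.nd (nat_lit 1793) (Tr.lf (Fc.ed (nat_lit 1792) (nat_lit 596) Col.a (nat_lit 492) (Dv.wd (nat_lit 182) [Mv.b (nat_lit 1531), Mv.f (nat_lit 1529), Mv.f (nat_lit 1791)])))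
(Tr.lf (Fc.ed (nat_lit 1793) (nat_lit 492) Col.e (nat_lit 597) Dv.df)))
(Tr.nd (nat_lit 1795) (Tr.lf (Fc.ed (nat_lit 1794) (nat_lit 597) Col.d (nat_lit 505) (Dv.wd (nat_lit 88) [Mv.b (nat_lit 1564), Mv.b (nat_lit 1320), Mv.b (nat_lit 1297), Mv.f (nat_lit 1531), Mv.f (nat_lit 1793)])))
(Tr.lf (Fc.ed (nat_lit 1795) (nat_lit 493) Col.f (nat_lit 598) Dv.df)))))
(Tr.nd (nat_lit 1800) (Tr.nd (nat_lit 1798) (Tr.nd (nat_lit 1797) (Tr.lf (Fc.ed (nat_lit 1796) (nat_lit 494) Col.d (nat_lit 599) Dv.df))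
(Tr.lf (Fc.ed (nat_lit 1797) (nat_lit 599) Col.l (nat_lit 599) (Dv.wd (nat_lit 80) [Mv.b (nat_lit 1796), Mv.f (nat_lit 1535), Mv.f (nat_lit 1796)]))))
(Tr.nd (nat_lit 1799) (Tr.lf (Fc.ed (nat_lit 1798) (nat_lit 599) Col.b (nat_lit 495) (Dv.wd (nat_lit 183) [Mv.b (nat_lit 1538), Mv.f (nat_lit 1534), Mv.f (nat_lit 1796)])))
(Tr.lf (Fc.ed (nat_lit 1799) (nat_lit 599) Col.g (nat_lit 599) (Dv.wd (nat_lit 82) [Mv.b (nat_lit 1796), Mv.f (nat_lit 1537), Mv.f (nat_lit 1796)])))))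
(Tr.nd (nat_lit 1802) (Tr.nd (nat_lit 1801) (Tr.lf (Fc.ed (nat_lit 1800) (nat_lit 494) Col.f (nat_lit 600) Dv.df))
(Tr.lf (Fc.ed (nat_lit 1801) (nat_lit 600) Col.e (nat_lit 600) (Dv.wd (nat_lit 93) [Mv.b (nat_lit 1800), Mv.f (nat_lit 1536), Mv.f (nat_lit 1526), Mv.b (nat_lit 1536), Mv.f (nat_lit 1800)]))))
(Tr.nd (nat_lit 1803) (Tr.lf (Fc.ed (nat_lit 1802) (nat_lit 495) Col.e (nat_lit 601) Dv.df))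
(Tr.lf (Fc.ed (nat_lit 1803) (nat_lit 601) Col.a (nat_lit 497) (Dv.wd (nat_lit 152) [Mv.b (nat_lit 1544), Mv.b (nat_lit 1539), Mv.f (nat_lit 1802)])))))))
(Tr.nd (nat_lit 1811) (Tr.nd (nat_lit 1807) (Tr.nd (nat_lit 1805) (Tr.lf (Fc.ed (nat_lit 1804) (nat_lit 601) Col.c (nat_lit 601) (Dv.wd (nat_lit 86) [Mv.b (nat_lit 1802), Mv.f (nat_lit 1541), Mv.f (nat_lit 1802)])))
(Tr.nd (nat_lit 1806) (Tr.lf (Fc.ed (nat_lit 1805) (nat_lit 601) Col.i (nat_lit 601) (Dv.wd (nat_lit 136) [Mv.b (nat_lit 1802), Mv.f (nat_lit 1540), Mv.f (nat_lit 1802)])))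
(Tr.lf (Fc.ed (nat_lit 1806) (nat_lit 601) Col.d (nat_lit 595) (Dv.wd (nat_lit 88) [Mv.b (nat_lit 1789), Mv.b (nat_lit 1527), Mv.b (nat_lit 1303), Mv.f (nat_lit 1538), Mv.f (nat_lit 1802)])))))
(Tr.nd (nat_lit 1809) (Tr.nd (nat_lit 1808) (Tr.lf (Fc.ed (nat_lit 1807) (nat_lit 495) Col.f (nat_lit 602) Dv.df))
(Tr.lf (Fc.ed (nat_lit 1808) (nat_lit 602) Col.a (nat_lit 498) (Dv.wd (nat_lit 113) [Mv.b (nat_lit 1546), Mv.b (nat_lit 1539), Mv.f (nat_lit 1807)]))))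
(Tr.nd (nat_lit 1810) (Tr.lf (Fc.ed (nat_lit 1809) (nat_lit 602) Col.d (nat_lit 496) (Dv.wd (nat_lit 92) [Mv.b (nat_lit 1542), Mv.f (nat_lit 1538), Mv.f (nat_lit 1807)])))
(Tr.lf (Fc.ed (nat_lit 1810) (nat_lit 497) Col.f (nat_lit 603) Dv.df)))))
(Tr.nd (nat_lit 1815) (Tr.nd (nat_lit 1813) (Tr.nd (nat_lit 1812) (Tr.lf (Fc.ed (nat_lit 1811) (nat_lit 603) Col.d (nat_lit 598) (Dv.wd (nat_lit 92) [Mv.b (nat_lit 1795), Mv.b (nat_lit 1545), Mv.f (nat_lit 1810)])))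
(Tr.lf (Fc.ed (nat_lit 1812) (nat_lit 497) Col.h (nat_lit 604) Dv.df)))
(Tr.nd (nat_lit 1814) (Tr.lf (Fc.ed (nat_lit 1813) (nat_lit 604) Col.e (nat_lit 499) (Dv.wd (nat_lit 103) [Mv.b (nat_lit 1551), Mv.f (nat_lit 1544), Mv.f (nat_lit 1812)])))
(Tr.lf (Fc.ed (nat_lit 1814) (nat_lit 498) Col.e (nat_lit 605) Dv.df))))
(Tr.nd (nat_lit 1817) (Tr.nd (nat_lit 1816) (Tr.lf (Fc.ed (nat_lit 1815) (nat_lit 605) Col.l (nat_lit 605) (Dv.wd (nat_lit 84) [Mv.b (nat_lit 1814), Mv.f (nat_lit 1547), Mv.f (nat_lit 1814)])))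
(Tr.lf (Fc.ed (nat_lit 1816) (nat_lit 605) Col.c (nat_lit 605) (Dv.wd (nat_lit 86) [Mv.b (nat_lit 1814), Mv.f (nat_lit 1548), Mv.f (nat_lit 1814)]))))
(Tr.nd (nat_lit 1818) (Tr.lf (Fc.ed (nat_lit 1817) (nat_lit 605) Col.d (nat_lit 605) (Dv.wd (nat_lit 88) [Mv.b (nat_lit 1814), Mv.f (nat_lit 1549), Mv.f (nat_lit 1313), Mv.b (nat_lit 1549), Mv.f (nat_lit 1814)])))
(Tr.lf (Fc.ed (nat_lit 1818) (nat_lit 498) Col.g (nat_lit 606) Dv.df))))))))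
(Tr.nd (nat_lit 1848) (Tr.nd (nat_lit 1833) (Tr.nd (nat_lit 1826) (Tr.nd (nat_lit 1822) (Tr.nd (nat_lit 1820) (Tr.lf (Fc.ed (nat_lit 1819) (nat_lit 606) Col.d (nat_lit 500) (Dv.wd (nat_lit 97) [Mv.b (nat_lit 1552), Mv.b (nat_lit 1549), Mv.f (nat_lit 1818)])))
(Tr.nd (nat_lit 1821) (Tr.lf (Fc.ed (nat_lit 1820) (nat_lit 498) Col.h (nat_lit 607) Dv.df))
(Tr.lf (Fc.ed (nat_lit 1821) (nat_lit 607) Col.f (nat_lit 499) (Dv.wd (nat_lit 104) [Mv.b (nat_lit 1551), Mv.f (nat_lit 1546), Mv.f (nat_lit 1820)])))))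
(Tr.nd (nat_lit 1824) (Tr.nd (nat_lit 1823) (Tr.lf (Fc.ed (nat_lit 1822) (nat_lit 499) Col.i (nat_lit 608) Dv.df))
(Tr.lf (Fc.ed (nat_lit 1823) (nat_lit 501) Col.d (nat_lit 609) Dv.df)))
(Tr.nd (nat_lit 1825) (Tr.lf (Fc.ed (nat_lit 1824) (nat_lit 609) Col.a (nat_lit 599) (Dv.wd (nat_lit 182) [Mv.b (nat_lit 1796), Mv.b (nat_lit 1556), Mv.f (nat_lit 1823)])))
(Tr.lf (Fc.ed (nat_lit 1825) (nat_lit 609) Col.b (nat_lit 502) (Dv.wd (nat_lit 183) [Mv.b (nat_lit 1557), Mv.f (nat_lit 1554), Mv.f (nat_lit 1823)]))))))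
(Tr.nd (nat_lit 1829) (Tr.nd (nat_lit 1827) (Tr.lf (Fc.ed (nat_lit 1826) (nat_lit 609) Col.g (nat_lit 609) (Dv.wd (nat_lit 82) [Mv.b (nat_lit 1823), Mv.f (nat_lit 1555), Mv.f (nat_lit 1823)])))
(Tr.nd (nat_lit 1828) (Tr.lf (Fc.ed (nat_lit 1827) (nat_lit 502) Col.e (nat_lit 610) Dv.df))
(Tr.lf (Fc.ed (nat_lit 1828) (nat_lit 610) Col.a (nat_lit 505) (Dv.wd (nat_lit 152) [Mv.b (nat_lit 1564), Mv.b (nat_lit 1558), Mv.f (nat_lit 1827)])))))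
(Tr.nd (nat_lit 1831) (Tr.nd (nat_lit 1830) (Tr.lf (Fc.ed (nat_lit 1829) (nat_lit 502) Col.f (nat_lit 611) Dv.df))
(Tr.lf (Fc.ed (nat_lit 1830) (nat_lit 611) Col.a (nat_lit 506) (Dv.wd (nat_lit 113) [Mv.b (nat_lit 1566), Mv.b (nat_lit 1558), Mv.f (nat_lit 1829)]))))
(Tr.nd (nat_lit 1832) (Tr.lf (Fc.ed (nat_lit 1831) (nat_lit 611) Col.d (nat_lit 503) (Dv.wd (nat_lit 92) [Mv.b (nat_lit 1559), Mv.f (nat_lit 1557), Mv.f (nat_lit 1829)])))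
(Tr.lf (Fc.ed (nat_lit 1832) (nat_lit 503) Col.g (nat_lit 612) Dv.df))))))
(Tr.nd (nat_lit 1840) (Tr.nd (nat_lit 1836) (Tr.nd (nat_lit 1834) (Tr.lf (Fc.ed (nat_lit 1833) (nat_lit 612) Col.c (nat_lit 504) (Dv.wd (nat_lit 96) [Mv.b (nat_lit 1561), Mv.b (nat_lit 1560), Mv.f (nat_lit 1832)])))
(Tr.nd (nat_lit 1835) (Tr.lf (Fc.ed (nat_lit 1834) (nat_lit 505) Col.f (nat_lit 613) Dv.df))
(Tr.lf (Fc.ed (nat_lit 1835) (nat_lit 505) Col.h (nat_lit 614) Dv.df))))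
(Tr.nd (nat_lit 1838) (Tr.nd (nat_lit 1837) (Tr.lf (Fc.ed (nat_lit 1836) (nat_lit 614) Col.b (nat_lit 604) (Dv.wd (nat_lit 151) [Mv.b (nat_lit 1812), Mv.b (nat_lit 1565), Mv.f (nat_lit 1835)])))
(Tr.lf (Fc.ed (nat_lit 1837) (nat_lit 506) Col.e (nat_lit 615) Dv.df)))
(Tr.nd (nat_lit 1839) (Tr.lf (Fc.ed (nat_lit 1838) (nat_lit 615) Col.b (nat_lit 605) (Dv.wd (nat_lit 153) [Mv.b (nat_lit 1814), Mv.b (nat_lit 1567), Mv.f (nat_lit 1837)])))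
(Tr.lf (Fc.ed (nat_lit 1839) (nat_lit 507) Col.c (nat_lit 616) Dv.df)))))
(Tr.nd (nat_lit 1844) (Tr.nd (nat_lit 1842) (Tr.nd (nat_lit 1841) (Tr.lf (Fc.ed (nat_lit 1840) (nat_lit 616) Col.k (nat_lit 616) (Dv.wd (nat_lit 78) [Mv.b (nat_lit 1839), Mv.f (nat_lit 1571), Mv.f (nat_lit 1839)])))
(Tr.lf (Fc.ed (nat_lit 1841) (nat_lit 616) Col.a (nat_lit 616) (Dv.wd (nat_lit 181) [Mv.b (nat_lit 1839), Mv.f (nat_lit 1569), Mv.f (nat_lit 1839)]))))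
(Tr.nd (nat_lit 1843) (Tr.lf (Fc.ed (nat_lit 1842) (nat_lit 616) Col.e (nat_lit 616) (Dv.wd (nat_lit 41) [Mv.b (nat_lit 1839), Mv.f (nat_lit 1570), Mv.f (nat_lit 1839)])))
(Tr.lf (Fc.ed (nat_lit 1843) (nat_lit 508) Col.d (nat_lit 617) Dv.df))))
(Tr.nd (nat_lit 1846) (Tr.nd (nat_lit 1845) (Tr.lf (Fc.ed (nat_lit 1844) (nat_lit 617) Col.a (nat_lit 617) (Dv.wd (nat_lit 182) [Mv.b (nat_lit 1843), Mv.f (nat_lit 1573), Mv.f (nat_lit 1843)])))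
(Tr.lf (Fc.ed (nat_lit 1845) (nat_lit 617) Col.b (nat_lit 509) (Dv.wd (nat_lit 183) [Mv.b (nat_lit 1574), Mv.f (nat_lit 1572), Mv.f (nat_lit 1843)]))))
(Tr.nd (nat_lit 1847) (Tr.lf (Fc.ed (nat_lit 1846) (nat_lit 508) Col.f (nat_lit 618) Dv.df))
(Tr.lf (Fc.ed (nat_lit 1847) (nat_lit 509) Col.e (nat_lit 619) Dv.df)))))))
(Tr.nd (nat_lit 1863) (Tr.nd (nat_lit 1855) (Tr.nd (nat_lit 1851) (Tr.nd (nat_lit 1849) (Tr.lf (Fc.ed (nat_lit 1848) (nat_lit 619) Col.c (nat_lit 610) (Dv.wd (nat_lit 86) [Mv.b (nat_lit 1827), Mv.b (nat_lit 1575), Mv.f (nat_lit 1847)])))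
(Tr.nd (nat_lit 1850) (Tr.lf (Fc.ed (nat_lit 1849) (nat_lit 509) Col.f (nat_lit 620) Dv.df))
(Tr.lf (Fc.ed (nat_lit 1850) (nat_lit 620) Col.c (nat_lit 611) (Dv.wd (nat_lit 91) [Mv.b (nat_lit 1829), Mv.b (nat_lit 1575), Mv.f (nat_lit 1849)])))))
(Tr.nd (nat_lit 1853) (Tr.nd (nat_lit 1852) (Tr.lf (Fc.ed (nat_lit 1851) (nat_lit 620) Col.d (nat_lit 510) (Dv.wd (nat_lit 92) [Mv.b (nat_lit 1576), Mv.f (nat_lit 1574), Mv.f (nat_lit 1849)])))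
(Tr.lf (Fc.ed (nat_lit 1852) (nat_lit 510) Col.e (nat_lit 621) Dv.df)))
(Tr.nd (nat_lit 1854) (Tr.lf (Fc.ed (nat_lit 1853) (nat_lit 621) Col.a (nat_lit 514) (Dv.wd (nat_lit 152) [Mv.b (nat_lit 1583), Mv.b (nat_lit 1577), Mv.f (nat_lit 1852)])))
(Tr.lf (Fc.ed (nat_lit 1854) (nat_lit 621) Col.h (nat_lit 546) (Dv.wd (nat_lit 107) [Mv.f (nat_lit 1671), Mv.f (nat_lit 1607), Mv.f (nat_lit 1852)]))))))
(Tr.nd (nat_lit 1859) (Tr.nd (nat_lit 1857) (Tr.nd (nat_lit 1856) (Tr.lf (Fc.ed (nat_lit 1855) (nat_lit 510) Col.g (nat_lit 622) Dv.df))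
(Tr.lf (Fc.ed (nat_lit 1856) (nat_lit 622) Col.a (nat_lit 515) (Dv.wd (nat_lit 174) [Mv.b (nat_lit 1586), Mv.b (nat_lit 1577), Mv.f (nat_lit 1855)]))))
(Tr.nd (nat_lit 1858) (Tr.lf (Fc.ed (nat_lit 1857) (nat_lit 511) Col.f (nat_lit 623) Dv.df))
(Tr.lf (Fc.ed (nat_lit 1858) (nat_lit 623) Col.c (nat_lit 613) (Dv.wd (nat_lit 91) [Mv.b (nat_lit 1834), Mv.b (nat_lit 1579), Mv.f (nat_lit 1857)])))))
(Tr.nd (nat_lit 1861) (Tr.nd (nat_lit 1860) (Tr.lf (Fc.ed (nat_lit 1859) (nat_lit 511) Col.h (nat_lit 624) Dv.df))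
(Tr.lf (Fc.ed (nat_lit 1860) (nat_lit 624) Col.c (nat_lit 614) (Dv.wd (nat_lit 102) [Mv.b (nat_lit 1835), Mv.b (nat_lit 1579), Mv.f (nat_lit 1859)]))))
(Tr.nd (nat_lit 1862) (Tr.lf (Fc.ed (nat_lit 1861) (nat_lit 624) Col.e (nat_lit 513) (Dv.wd (nat_lit 103) [Mv.b (nat_lit 1582), Mv.f (nat_lit 1578), Mv.f (nat_lit 1859)])))
(Tr.lf (Fc.ed (nat_lit 1862) (nat_lit 512) Col.e (nat_lit 625) Dv.df))))))
(Tr.nd (nat_lit 1870) (Tr.nd (nat_lit 1866) (Tr.nd (nat_lit 1864) (Tr.lf (Fc.ed (nat_lit 1863) (nat_lit 512) Col.h (nat_lit 626) Dv.df))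
(Tr.nd (nat_lit 1865) (Tr.lf (Fc.ed (nat_lit 1864) (nat_lit 514) Col.g (nat_lit 627) Dv.df))
(Tr.lf (Fc.ed (nat_lit 1865) (nat_lit 627) Col.b (nat_lit 627) (Dv.wd (nat_lit 146) [Mv.b (nat_lit 1864), Mv.f (nat_lit 1584), Mv.f (nat_lit 1864)])))))
(Tr.nd (nat_lit 1868) (Tr.nd (nat_lit 1867) (Tr.lf (Fc.ed (nat_lit 1866) (nat_lit 627) Col.c (nat_lit 516) (Dv.wd (nat_lit 96) [Mv.b (nat_lit 1589), Mv.b (nat_lit 1585), Mv.f (nat_lit 1864)])))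
(Tr.lf (Fc.ed (nat_lit 1867) (nat_lit 516) Col.f (nat_lit 628) Dv.df)))
(Tr.nd (nat_lit 1869) (Tr.lf (Fc.ed (nat_lit 1868) (nat_lit 628) Col.d (nat_lit 628) (Dv.wd (nat_lit 92) [Mv.b (nat_lit 1867), Mv.f (nat_lit 1590), Mv.f (nat_lit 1867)])))
(Tr.lf (Fc.ed (nat_lit 1869) (nat_lit 628) Col.e (nat_lit 628) (Dv.wd (nat_lit 93) [Mv.b (nat_lit 1867), Mv.f (nat_lit 1591), Mv.f (nat_lit 1341), Mv.b (nat_lit 1591), Mv.f (nat_lit 1867)]))))))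
(Tr.nd (nat_lit 1874) (Tr.nd (nat_lit 1872) (Tr.nd (nat_lit 1871) (Tr.lf (Fc.ed (nat_lit 1870) (nat_lit 517) Col.c (nat_lit 629) Dv.df))
(Tr.lf (Fc.ed (nat_lit 1871) (nat_lit 629) Col.h (nat_lit 616) (Dv.wd (nat_lit 30) [Mv.b (nat_lit 1839), Mv.b (nat_lit 1594), Mv.f (nat_lit 1870)]))))
(Tr.nd (nat_lit 1873) (Tr.lf (Fc.ed (nat_lit 1872) (nat_lit 518) Col.b (nat_lit 630) Dv.df))
(Tr.lf (Fc.ed (nat_lit 1873) (nat_lit 518) Col.d (nat_lit 631) Dv.df))))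
(Tr.nd (nat_lit 1876) (Tr.nd (nat_lit 1875) (Tr.lf (Fc.ed (nat_lit 1874) (nat_lit 631) Col.k (nat_lit 521) (Dv.wd (nat_lit 81) [Mv.b (nat_lit 1603), Mv.b (nat_lit 1596), Mv.f (nat_lit 1873)])))
(Tr.lf (Fc.ed (nat_lit 1875) (nat_lit 518) Col.f (nat_lit 632) Dv.df)))
(Tr.nd (nat_lit 1877) (Tr.lf (Fc.ed (nat_lit 1876) (nat_lit 632) Col.i (nat_lit 533) (Dv.wd (nat_lit 150) [Mv.f (nat_lit 1635), Mv.f (nat_lit 1621), Mv.f (nat_lit 1875)])))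
(Tr.lf (Fc.ed (nat_lit 1877) (nat_lit 520) Col.d (nat_lit 633) Dv.df)))))))))))))
(Tr.nd (nat_lit 2817) (Tr.nd (nat_lit 2347) (Tr.nd (nat_lit 2112) (Tr.nd (nat_lit 1995) (Tr.nd (nat_lit 1936) (Tr.nd (nat_lit 1907) (Tr.nd (nat_lit 1892) (Tr.nd (nat_lit 1885) (Tr.nd (nat_lit 1881) (Tr.nd (nat_lit 1879) (Tr.lf (Fc.ed (nat_lit 1878) (nat_lit 633) Col.a (nat_lit 633) (Dv.wd (nat_lit 182) [Mv.b (nat_lit 1877), Mv.f (nat_lit 1602), Mv.f (nat_lit 1877)])))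
(Tr.nd (nat_lit 1880) (Tr.lf (Fc.ed (nat_lit 1879) (nat_lit 633) Col.b (nat_lit 521) (Dv.wd (nat_lit 183) [Mv.b (nat_lit 1603), Mv.f (nat_lit 1599), Mv.f (nat_lit 1877)])))
(Tr.lf (Fc.ed (nat_lit 1880) (nat_lit 633) Col.g (nat_lit 633) (Dv.wd (nat_lit 82) [Mv.b (nat_lit 1877), Mv.f (nat_lit 1600), Mv.f (nat_lit 1877)])))))
(Tr.nd (nat_lit 1883) (Tr.nd (nat_lit 1882) (Tr.lf (Fc.ed (nat_lit 1881) (nat_lit 520) Col.f (nat_lit 634) Dv.df))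
(Tr.lf (Fc.ed (nat_lit 1882) (nat_lit 634) Col.h (nat_lit 618) (Dv.wd (nat_lit 115) [Mv.b (nat_lit 1846), Mv.b (nat_lit 1601), Mv.f (nat_lit 1881)]))))
(Tr.nd (nat_lit 1884) (Tr.lf (Fc.ed (nat_lit 1883) (nat_lit 521) Col.e (nat_lit 635) Dv.df))
(Tr.lf (Fc.ed (nat_lit 1884) (nat_lit 635) Col.a (nat_lit 523) (Dv.wd (nat_lit 152) [Mv.b (nat_lit 1609), Mv.b (nat_lit 1604), Mv.f (nat_lit 1883)]))))))
(Tr.nd (nat_lit 1888) (Tr.nd (nat_lit 1886) (Tr.lf (Fc.ed (nat_lit 1885) (nat_lit 521) Col.f (nat_lit 636) Dv.df))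
(Tr.nd (nat_lit 1887) (Tr.lf (Fc.ed (nat_lit 1886) (nat_lit 636) Col.c (nat_lit 636) (Dv.wd (nat_lit 91) [Mv.b (nat_lit 1885), Mv.f (nat_lit 1605), Mv.f (nat_lit 1885)])))
(Tr.lf (Fc.ed (nat_lit 1887) (nat_lit 636) Col.d (nat_lit 522) (Dv.wd (nat_lit 92) [Mv.b (nat_lit 1606), Mv.f (nat_lit 1603), Mv.f (nat_lit 1885)])))))
(Tr.nd (nat_lit 1890) (Tr.nd (nat_lit 1889) (Tr.lf (Fc.ed (nat_lit 1888) (nat_lit 636) Col.i (nat_lit 536) (Dv.wd (nat_lit 150) [Mv.f (nat_lit 1643), Mv.f (nat_lit 1626), Mv.f (nat_lit 1885)])))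
(Tr.lf (Fc.ed (nat_lit 1889) (nat_lit 521) Col.h (nat_lit 637) Dv.df)))
(Tr.nd (nat_lit 1891) (Tr.lf (Fc.ed (nat_lit 1890) (nat_lit 522) Col.g (nat_lit 638) Dv.df))
(Tr.lf (Fc.ed (nat_lit 1891) (nat_lit 638) Col.h (nat_lit 622) (Dv.wd (nat_lit 140) [Mv.b (nat_lit 1855), Mv.b (nat_lit 1607), Mv.f (nat_lit 1890)])))))))
(Tr.nd (nat_lit 1899) (Tr.nd (nat_lit 1895) (Tr.nd (nat_lit 1893) (Tr.lf (Fc.ed (nat_lit 1892) (nat_lit 638) Col.i (nat_lit 537) (Dv.wd (nat_lit 148) [Mv.b (nat_lit 1645), Mv.b (nat_lit 1608), Mv.f (nat_lit 1890)])))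
(Tr.nd (nat_lit 1894) (Tr.lf (Fc.ed (nat_lit 1893) (nat_lit 638) Col.f (nat_lit 638) (Dv.wd (nat_lit 99) [Mv.b (nat_lit 1890), Mv.b (nat_lit 1606), Mv.f (nat_lit 1346), Mv.f (nat_lit 1606), Mv.f (nat_lit 1890)])))
(Tr.lf (Fc.ed (nat_lit 1894) (nat_lit 523) Col.f (nat_lit 639) Dv.df))))
(Tr.nd (nat_lit 1897) (Tr.nd (nat_lit 1896) (Tr.lf (Fc.ed (nat_lit 1895) (nat_lit 523) Col.h (nat_lit 640) Dv.df))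
(Tr.lf (Fc.ed (nat_lit 1896) (nat_lit 640) Col.e (nat_lit 525) (Dv.wd (nat_lit 103) [Mv.b (nat_lit 1613), Mv.f (nat_lit 1609), Mv.f (nat_lit 1895)]))))
(Tr.nd (nat_lit 1898) (Tr.lf (Fc.ed (nat_lit 1897) (nat_lit 524) Col.e (nat_lit 641) Dv.df))
(Tr.lf (Fc.ed (nat_lit 1898) (nat_lit 641) Col.i (nat_lit 538) (Dv.wd (nat_lit 136) [Mv.b (nat_lit 1646), Mv.b (nat_lit 1612), Mv.f (nat_lit 1897)]))))))
(Tr.nd (nat_lit 1903) (Tr.nd (nat_lit 1901) (Tr.nd (nat_lit 1900) (Tr.lf (Fc.ed (nat_lit 1899) (nat_lit 524) Col.g (nat_lit 642) Dv.df))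
(Tr.lf (Fc.ed (nat_lit 1900) (nat_lit 642) Col.d (nat_lit 526) (Dv.wd (nat_lit 97) [Mv.b (nat_lit 1615), Mv.b (nat_lit 1611), Mv.f (nat_lit 1899)]))))
(Tr.nd (nat_lit 1902) (Tr.lf (Fc.ed (nat_lit 1901) (nat_lit 524) Col.h (nat_lit 643) Dv.df))
(Tr.lf (Fc.ed (nat_lit 1902) (nat_lit 643) Col.f (nat_lit 525) (Dv.wd (nat_lit 104) [Mv.b (nat_lit 1613), Mv.f (nat_lit 1610), Mv.f (nat_lit 1901)])))))
(Tr.nd (nat_lit 1905) (Tr.nd (nat_lit 1904) (Tr.lf (Fc.ed (nat_lit 1903) (nat_lit 643) Col.d (nat_lit 626) (Dv.wd (nat_lit 141) [Mv.b (nat_lit 1863), Mv.f (nat_lit 1581), Mv.b (nat_lit 1351), Mv.b (nat_lit 1611), Mv.f (nat_lit 1901)])))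
(Tr.lf (Fc.ed (nat_lit 1904) (nat_lit 527) Col.c (nat_lit 644) Dv.df)))
(Tr.nd (nat_lit 1906) (Tr.lf (Fc.ed (nat_lit 1905) (nat_lit 644) Col.i (nat_lit 629) (Dv.wd (nat_lit 137) [Mv.b (nat_lit 1870), Mv.b (nat_lit 1618), Mv.f (nat_lit 1904)])))
(Tr.lf (Fc.ed (nat_lit 1906) (nat_lit 528) Col.b (nat_lit 645) Dv.df)))))))
(Tr.nd (nat_lit 1921) (Tr.nd (nat_lit 1914) (Tr.nd (nat_lit 1910) (Tr.nd (nat_lit 1908) (Tr.lf (Fc.ed (nat_lit 1907) (nat_lit 645) Col.g (nat_lit 645) (Dv.wd (nat_lit 75) [Mv.b (nat_lit 1906), Mv.f (nat_lit 1620), Mv.f (nat_lit 1906)])))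
(Tr.nd (nat_lit 1909) (Tr.lf (Fc.ed (nat_lit 1908) (nat_lit 645) Col.i (nat_lit 630) (Dv.wd (nat_lit 149) [Mv.b (nat_lit 1872), Mv.b (nat_lit 1621), Mv.f (nat_lit 1906)])))
(Tr.lf (Fc.ed (nat_lit 1909) (nat_lit 528) Col.d (nat_lit 646) Dv.df))))
(Tr.nd (nat_lit 1912) (Tr.nd (nat_lit 1911) (Tr.lf (Fc.ed (nat_lit 1910) (nat_lit 646) Col.i (nat_lit 631) (Dv.wd (nat_lit 135) [Mv.b (nat_lit 1873), Mv.b (nat_lit 1621), Mv.f (nat_lit 1909)])))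
(Tr.lf (Fc.ed (nat_lit 1911) (nat_lit 529) Col.d (nat_lit 647) Dv.df)))
(Tr.nd (nat_lit 1913) (Tr.lf (Fc.ed (nat_lit 1912) (nat_lit 647) Col.b (nat_lit 530) (Dv.wd (nat_lit 183) [Mv.b (nat_lit 1624), Mv.f (nat_lit 1622), Mv.f (nat_lit 1911)])))
(Tr.lf (Fc.ed (nat_lit 1913) (nat_lit 647) Col.i (nat_lit 633) (Dv.wd (nat_lit 135) [Mv.b (nat_lit 1877), Mv.b (nat_lit 1623), Mv.f (nat_lit 1911)]))))))
(Tr.nd (nat_lit 1917) (Tr.nd (nat_lit 1915) (Tr.lf (Fc.ed (nat_lit 1914) (nat_lit 530) Col.e (nat_lit 648) Dv.df))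
(Tr.nd (nat_lit 1916) (Tr.lf (Fc.ed (nat_lit 1915) (nat_lit 648) Col.a (nat_lit 531) (Dv.wd (nat_lit 152) [Mv.b (nat_lit 1627), Mv.b (nat_lit 1625), Mv.f (nat_lit 1914)])))
(Tr.lf (Fc.ed (nat_lit 1916) (nat_lit 531) Col.f (nat_lit 649) Dv.df))))
(Tr.nd (nat_lit 1919) (Tr.nd (nat_lit 1918) (Tr.lf (Fc.ed (nat_lit 1917) (nat_lit 649) Col.i (nat_lit 639) (Dv.wd (nat_lit 150) [Mv.b (nat_lit 1894), Mv.b (nat_lit 1628), Mv.f (nat_lit 1916)])))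
(Tr.lf (Fc.ed (nat_lit 1918) (nat_lit 531) Col.h (nat_lit 650) Dv.df)))
(Tr.nd (nat_lit 1920) (Tr.lf (Fc.ed (nat_lit 1919) (nat_lit 532) Col.c (nat_lit 651) Dv.df))
(Tr.lf (Fc.ed (nat_lit 1920) (nat_lit 651) Col.f (nat_lit 644) (Dv.wd (nat_lit 36) [Mv.b (nat_lit 1904), Mv.b (nat_lit 1631), Mv.f (nat_lit 1919)])))))))
(Tr.nd (nat_lit 1928) (Tr.nd (nat_lit 1924) (Tr.nd (nat_lit 1922) (Tr.lf (Fc.ed (nat_lit 1921) (nat_lit 533) Col.b (nat_lit 652) Dv.df))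
(Tr.nd (nat_lit 1923) (Tr.lf (Fc.ed (nat_lit 1922) (nat_lit 652) Col.k (nat_lit 535) (Dv.wd (nat_lit 74) [Mv.b (nat_lit 1639), Mv.b (nat_lit 1633), Mv.f (nat_lit 1921)])))
(Tr.lf (Fc.ed (nat_lit 1923) (nat_lit 652) Col.f (nat_lit 645) (Dv.wd (nat_lit 35) [Mv.b (nat_lit 1906), Mv.b (nat_lit 1635), Mv.f (nat_lit 1921)])))))
(Tr.nd (nat_lit 1926) (Tr.nd (nat_lit 1925) (Tr.lf (Fc.ed (nat_lit 1924) (nat_lit 652) Col.c (nat_lit 652) (Dv.wd (nat_lit 154) [Mv.b (nat_lit 1921), Mv.b (nat_lit 1632), Mv.f (nat_lit 1363), Mv.f (nat_lit 1632), Mv.f (nat_lit 1921)])))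
(Tr.lf (Fc.ed (nat_lit 1925) (nat_lit 533) Col.d (nat_lit 653) Dv.df)))
(Tr.nd (nat_lit 1927) (Tr.lf (Fc.ed (nat_lit 1926) (nat_lit 653) Col.f (nat_lit 646) (Dv.wd (nat_lit 37) [Mv.b (nat_lit 1909), Mv.b (nat_lit 1635), Mv.f (nat_lit 1925)])))
(Tr.lf (Fc.ed (nat_lit 1927) (nat_lit 533) Col.g (nat_lit 654) Dv.df)))))
(Tr.nd (nat_lit 1932) (Tr.nd (nat_lit 1930) (Tr.nd (nat_lit 1929) (Tr.lf (Fc.ed (nat_lit 1928) (nat_lit 654) Col.a (nat_lit 654) (Dv.wd (nat_lit 174) [Mv.b (nat_lit 1927), Mv.f (nat_lit 1634), Mv.f (nat_lit 1927)])))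
(Tr.lf (Fc.ed (nat_lit 1929) (nat_lit 654) Col.h (nat_lit 654) (Dv.wd (nat_lit 140) [Mv.b (nat_lit 1927), Mv.f (nat_lit 1636), Mv.f (nat_lit 1927)]))))
(Tr.nd (nat_lit 1931) (Tr.lf (Fc.ed (nat_lit 1930) (nat_lit 654) Col.f (nat_lit 654) (Dv.wd (nat_lit 99) [Mv.b (nat_lit 1927), Mv.f (nat_lit 1635), Mv.f (nat_lit 1620), Mv.b (nat_lit 1635), Mv.f (nat_lit 1927)])))
(Tr.lf (Fc.ed (nat_lit 1931) (nat_lit 535) Col.d (nat_lit 655) Dv.df))))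
(Tr.nd (nat_lit 1934) (Tr.nd (nat_lit 1933) (Tr.lf (Fc.ed (nat_lit 1932) (nat_lit 655) Col.a (nat_lit 655) (Dv.wd (nat_lit 182) [Mv.b (nat_lit 1931), Mv.f (nat_lit 1641), Mv.f (nat_lit 1931)])))
(Tr.lf (Fc.ed (nat_lit 1933) (nat_lit 655) Col.b (nat_lit 536) (Dv.wd (nat_lit 183) [Mv.b (nat_lit 1642), Mv.f (nat_lit 1639), Mv.f (nat_lit 1931)]))))
(Tr.nd (nat_lit 1935) (Tr.lf (Fc.ed (nat_lit 1934) (nat_lit 655) Col.f (nat_lit 647) (Dv.wd (nat_lit 37) [Mv.b (nat_lit 1911), Mv.b (nat_lit 1640), Mv.f (nat_lit 1931)])))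
(Tr.lf (Fc.ed (nat_lit 1935) (nat_lit 536) Col.e (nat_lit 656) Dv.df))))))))
(Tr.nd (nat_lit 1965) (Tr.nd (nat_lit 1950) (Tr.nd (nat_lit 1943) (Tr.nd (nat_lit 1939) (Tr.nd (nat_lit 1937) (Tr.lf (Fc.ed (nat_lit 1936) (nat_lit 539) Col.c (nat_lit 657) Dv.df))
(Tr.nd (nat_lit 1938) (Tr.lf (Fc.ed (nat_lit 1937) (nat_lit 657) Col.l (nat_lit 540) (Dv.wd (nat_lit 77) [Mv.b (nat_lit 1650), Mv.f (nat_lit 1647), Mv.f (nat_lit 1936)])))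
(Tr.lf (Fc.ed (nat_lit 1938) (nat_lit 657) Col.e (nat_lit 651) (Dv.wd (nat_lit 41) [Mv.b (nat_lit 1919), Mv.b (nat_lit 1648), Mv.f (nat_lit 1936)])))))
(Tr.nd (nat_lit 1941) (Tr.nd (nat_lit 1940) (Tr.lf (Fc.ed (nat_lit 1939) (nat_lit 657) Col.h (nat_lit 657) (Dv.wd (nat_lit 30) [Mv.b (nat_lit 1936), Mv.f (nat_lit 1649), Mv.f (nat_lit 1936)])))
(Tr.lf (Fc.ed (nat_lit 1940) (nat_lit 540) Col.b (nat_lit 658) Dv.df)))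
(Tr.nd (nat_lit 1942) (Tr.lf (Fc.ed (nat_lit 1941) (nat_lit 658) Col.e (nat_lit 652) (Dv.wd (nat_lit 40) [Mv.b (nat_lit 1921), Mv.b (nat_lit 1652), Mv.f (nat_lit 1940)])))
(Tr.lf (Fc.ed (nat_lit 1942) (nat_lit 658) Col.h (nat_lit 658) (Dv.wd (nat_lit 29) [Mv.b (nat_lit 1940), Mv.f (nat_lit 1653), Mv.f (nat_lit 1940)]))))))
(Tr.nd (nat_lit 1946) (Tr.nd (nat_lit 1944) (Tr.lf (Fc.ed (nat_lit 1943) (nat_lit 658) Col.c (nat_lit 658) (Dv.wd (nat_lit 154) [Mv.b (nat_lit 1940), Mv.b (nat_lit 1650), Mv.f (nat_lit 1374), Mv.f (nat_lit 1650), Mv.f (nat_lit 1940)])))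
(Tr.nd (nat_lit 1945) (Tr.lf (Fc.ed (nat_lit 1944) (nat_lit 540) Col.d (nat_lit 659) Dv.df))
(Tr.lf (Fc.ed (nat_lit 1945) (nat_lit 540) Col.g (nat_lit 660) Dv.df))))
(Tr.nd (nat_lit 1948) (Tr.nd (nat_lit 1947) (Tr.lf (Fc.ed (nat_lit 1946) (nat_lit 660) Col.c (nat_lit 541) (Dv.wd (nat_lit 96) [Mv.b (nat_lit 1654), Mv.f (nat_lit 1650), Mv.f (nat_lit 1945)])))
(Tr.lf (Fc.ed (nat_lit 1947) (nat_lit 660) Col.e (nat_lit 654) (Dv.wd (nat_lit 98) [Mv.b (nat_lit 1927), Mv.b (nat_lit 1652), Mv.f (nat_lit 1945)]))))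
(Tr.nd (nat_lit 1949) (Tr.lf (Fc.ed (nat_lit 1948) (nat_lit 540) Col.i (nat_lit 661) Dv.df))
(Tr.lf (Fc.ed (nat_lit 1949) (nat_lit 661) Col.e (nat_lit 632) (Dv.wd (nat_lit 143) [Mv.f (nat_lit 1876), Mv.b (nat_lit 1652), Mv.f (nat_lit 1948)])))))))
(Tr.nd (nat_lit 1957) (Tr.nd (nat_lit 1953) (Tr.nd (nat_lit 1951) (Tr.lf (Fc.ed (nat_lit 1950) (nat_lit 541) Col.f (nat_lit 662) Dv.df))
(Tr.nd (nat_lit 1952) (Tr.lf (Fc.ed (nat_lit 1951) (nat_lit 662) Col.d (nat_lit 560) (Dv.wd (nat_lit 92) [Mv.f (nat_lit 1708), Mv.f (nat_lit 1679), Mv.f (nat_lit 1950)])))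
(Tr.lf (Fc.ed (nat_lit 1952) (nat_lit 662) Col.e (nat_lit 662) (Dv.wd (nat_lit 93) [Mv.b (nat_lit 1950), Mv.f (nat_lit 1657), Mv.f (nat_lit 1638), Mv.b (nat_lit 1657), Mv.f (nat_lit 1950)])))))
(Tr.nd (nat_lit 1955) (Tr.nd (nat_lit 1954) (Tr.lf (Fc.ed (nat_lit 1953) (nat_lit 544) Col.e (nat_lit 663) Dv.df))
(Tr.lf (Fc.ed (nat_lit 1954) (nat_lit 663) Col.d (nat_lit 656) (Dv.wd (nat_lit 88) [Mv.b (nat_lit 1935), Mv.b (nat_lit 1642), Mv.b (nat_lit 1380), Mv.f (nat_lit 1666), Mv.f (nat_lit 1953)]))))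
(Tr.nd (nat_lit 1956) (Tr.lf (Fc.ed (nat_lit 1955) (nat_lit 544) Col.g (nat_lit 664) Dv.df))
(Tr.lf (Fc.ed (nat_lit 1956) (nat_lit 664) Col.d (nat_lit 545) (Dv.wd (nat_lit 97) [Mv.b (nat_lit 1667), Mv.f (nat_lit 1666), Mv.f (nat_lit 1955)]))))))
(Tr.nd (nat_lit 1961) (Tr.nd (nat_lit 1959) (Tr.nd (nat_lit 1958) (Tr.lf (Fc.ed (nat_lit 1957) (nat_lit 544) Col.i (nat_lit 665) Dv.df))
(Tr.lf (Fc.ed (nat_lit 1958) (nat_lit 665) Col.d (nat_lit 546) (Dv.wd (nat_lit 142) [Mv.b (nat_lit 1670), Mv.f (nat_lit 1666), Mv.f (nat_lit 1957)]))))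
(Tr.nd (nat_lit 1960) (Tr.lf (Fc.ed (nat_lit 1959) (nat_lit 545) Col.f (nat_lit 666) Dv.df))
(Tr.lf (Fc.ed (nat_lit 1960) (nat_lit 545) Col.i (nat_lit 667) Dv.df))))
(Tr.nd (nat_lit 1963) (Tr.nd (nat_lit 1962) (Tr.lf (Fc.ed (nat_lit 1961) (nat_lit 667) Col.c (nat_lit 547) (Dv.wd (nat_lit 145) [Mv.b (nat_lit 1672), Mv.b (nat_lit 1668), Mv.f (nat_lit 1960)])))
(Tr.lf (Fc.ed (nat_lit 1962) (nat_lit 667) Col.e (nat_lit 638) (Dv.wd (nat_lit 143) [Mv.f (nat_lit 1892), Mv.b (nat_lit 1669), Mv.f (nat_lit 1960)]))))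
(Tr.nd (nat_lit 1964) (Tr.lf (Fc.ed (nat_lit 1963) (nat_lit 667) Col.g (nat_lit 546) (Dv.wd (nat_lit 176) [Mv.b (nat_lit 1670), Mv.f (nat_lit 1667), Mv.f (nat_lit 1960)])))
(Tr.lf (Fc.ed (nat_lit 1964) (nat_lit 548) Col.i (nat_lit 668) Dv.df)))))))
(Tr.nd (nat_lit 1980) (Tr.nd (nat_lit 1972) (Tr.nd (nat_lit 1968) (Tr.nd (nat_lit 1966) (Tr.lf (Fc.ed (nat_lit 1965) (nat_lit 668) Col.d (nat_lit 641) (Dv.wd (nat_lit 142) [Mv.f (nat_lit 1898), Mv.b (nat_lit 1676), Mv.f (nat_lit 1964)])))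
(Tr.nd (nat_lit 1967) (Tr.lf (Fc.ed (nat_lit 1966) (nat_lit 549) Col.d (nat_lit 669) Dv.df))
(Tr.lf (Fc.ed (nat_lit 1967) (nat_lit 669) Col.c (nat_lit 659) (Dv.wd (nat_lit 83) [Mv.b (nat_lit 1944), Mv.b (nat_lit 1650), Mv.b (nat_lit 1390), Mv.f (nat_lit 1677), Mv.f (nat_lit 1966)])))))
(Tr.nd (nat_lit 1970) (Tr.nd (nat_lit 1969) (Tr.lf (Fc.ed (nat_lit 1968) (nat_lit 549) Col.g (nat_lit 670) Dv.df))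
(Tr.lf (Fc.ed (nat_lit 1969) (nat_lit 670) Col.h (nat_lit 558) (Dv.wd (nat_lit 140) [Mv.f (nat_lit 1702), Mv.f (nat_lit 1691), Mv.f (nat_lit 1968)]))))
(Tr.nd (nat_lit 1971) (Tr.lf (Fc.ed (nat_lit 1970) (nat_lit 549) Col.i (nat_lit 671) Dv.df))
(Tr.lf (Fc.ed (nat_lit 1971) (nat_lit 550) Col.i (nat_lit 672) Dv.df)))))
(Tr.nd (nat_lit 1976) (Tr.nd (nat_lit 1974) (Tr.nd (nat_lit 1973) (Tr.lf (Fc.ed (nat_lit 1972) (nat_lit 672) Col.g (nat_lit 551) (Dv.wd (nat_lit 176) [Mv.b (nat_lit 1682), Mv.f (nat_lit 1678), Mv.f (nat_lit 1971)])))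
(Tr.lf (Fc.ed (nat_lit 1973) (nat_lit 552) Col.e (nat_lit 673) Dv.df)))
(Tr.nd (nat_lit 1975) (Tr.lf (Fc.ed (nat_lit 1974) (nat_lit 673) Col.b (nat_lit 554) (Dv.wd (nat_lit 153) [Mv.b (nat_lit 1688), Mv.b (nat_lit 1685), Mv.f (nat_lit 1973)])))
(Tr.lf (Fc.ed (nat_lit 1975) (nat_lit 552) Col.i (nat_lit 674) Dv.df))))
(Tr.nd (nat_lit 1978) (Tr.nd (nat_lit 1977) (Tr.lf (Fc.ed (nat_lit 1976) (nat_lit 674) Col.d (nat_lit 553) (Dv.wd (nat_lit 142) [Mv.b (nat_lit 1686), Mv.f (nat_lit 1684), Mv.f (nat_lit 1975)])))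
(Tr.lf (Fc.ed (nat_lit 1977) (nat_lit 554) Col.i (nat_lit 675) Dv.df)))
(Tr.nd (nat_lit 1979) (Tr.lf (Fc.ed (nat_lit 1978) (nat_lit 675) Col.c (nat_lit 668) (Dv.wd (nat_lit 145) [Mv.b (nat_lit 1964), Mv.b (nat_lit 1689), Mv.f (nat_lit 1977)])))
(Tr.lf (Fc.ed (nat_lit 1979) (nat_lit 556) Col.f (nat_lit 676) Dv.df))))))
(Tr.nd (nat_lit 1987) (Tr.nd (nat_lit 1983) (Tr.nd (nat_lit 1981) (Tr.lf (Fc.ed (nat_lit 1980) (nat_lit 676) Col.b (nat_lit 557) (Dv.wd (nat_lit 114) [Mv.b (nat_lit 1694), Mv.b (nat_lit 1693), Mv.f (nat_lit 1979)])))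
(Tr.nd (nat_lit 1982) (Tr.lf (Fc.ed (nat_lit 1981) (nat_lit 559) Col.h (nat_lit 677) Dv.df))
(Tr.lf (Fc.ed (nat_lit 1982) (nat_lit 677) Col.c (nat_lit 560) (Dv.wd (nat_lit 102) [Mv.b (nat_lit 1705), Mv.f (nat_lit 1703), Mv.f (nat_lit 1981)])))))
(Tr.nd (nat_lit 1985) (Tr.nd (nat_lit 1984) (Tr.lf (Fc.ed (nat_lit 1983) (nat_lit 677) Col.f (nat_lit 670) (Dv.wd (nat_lit 104) [Mv.f (nat_lit 1969), Mv.b (nat_lit 1704), Mv.f (nat_lit 1981)])))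
(Tr.lf (Fc.ed (nat_lit 1984) (nat_lit 560) Col.i (nat_lit 678) Dv.df)))
(Tr.nd (nat_lit 1986) (Tr.lf (Fc.ed (nat_lit 1985) (nat_lit 678) Col.f (nat_lit 672) (Dv.wd (nat_lit 112) [Mv.b (nat_lit 1971), Mv.b (nat_lit 1708), Mv.f (nat_lit 1984)])))
(Tr.lf (Fc.ed (nat_lit 1986) (nat_lit 561) Col.h (nat_lit 679) Dv.df)))))
(Tr.nd (nat_lit 1991) (Tr.nd (nat_lit 1989) (Tr.nd (nat_lit 1988) (Tr.lf (Fc.ed (nat_lit 1987) (nat_lit 679) Col.c (nat_lit 562) (Dv.wd (nat_lit 102) [Mv.b (nat_lit 1711), Mv.f (nat_lit 1709), Mv.f (nat_lit 1986)])))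
(Tr.lf (Fc.ed (nat_lit 1988) (nat_lit 679) Col.e (nat_lit 677) (Dv.wd (nat_lit 103) [Mv.b (nat_lit 1981), Mv.b (nat_lit 1710), Mv.f (nat_lit 1986)]))))
(Tr.nd (nat_lit 1990) (Tr.lf (Fc.ed (nat_lit 1989) (nat_lit 562) Col.i (nat_lit 680) Dv.df))
(Tr.lf (Fc.ed (nat_lit 1990) (nat_lit 680) Col.e (nat_lit 678) (Dv.wd (nat_lit 143) [Mv.b (nat_lit 1984), Mv.b (nat_lit 1714), Mv.f (nat_lit 1989)])))))
(Tr.nd (nat_lit 1993) (Tr.nd (nat_lit 1992) (Tr.lf (Fc.ed (nat_lit 1991) (nat_lit 564) Col.c (nat_lit 681) Dv.df))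
(Tr.lf (Fc.ed (nat_lit 1992) (nat_lit 564) Col.h (nat_lit 682) Dv.df)))
(Tr.nd (nat_lit 1994) (Tr.lf (Fc.ed (nat_lit 1993) (nat_lit 682) Col.b (nat_lit 565) (Dv.wd (nat_lit 151) [Mv.b (nat_lit 1721), Mv.b (nat_lit 1720), Mv.f (nat_lit 1992)])))
(Tr.lf (Fc.ed (nat_lit 1994) (nat_lit 566) Col.c (nat_lit 683) Dv.df)))))))))
(Tr.nd (nat_lit 2053) (Tr.nd (nat_lit 2024) (Tr.nd (nat_lit 2009) (Tr.nd (nat_lit 2002) (Tr.nd (nat_lit 1998) (Tr.nd (nat_lit 1996) (Tr.lf (Fc.ed (nat_lit 1995) (nat_lit 683) Col.f (nat_lit 681) (Dv.wd (nat_lit 36) [Mv.b (nat_lit 1991), Mv.b (nat_lit 1724), Mv.f (nat_lit 1994)])))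
(Tr.nd (nat_lit 1997) (Tr.lf (Fc.ed (nat_lit 1996) (nat_lit 568) Col.c (nat_lit 684) Dv.df))
(Tr.lf (Fc.ed (nat_lit 1997) (nat_lit 684) Col.a (nat_lit 571) (Dv.wd (nat_lit 181) [Mv.b (nat_lit 1737), Mv.b (nat_lit 1731), Mv.f (nat_lit 1996)])))))
(Tr.nd (nat_lit 2000) (Tr.nd (nat_lit 1999) (Tr.lf (Fc.ed (nat_lit 1998) (nat_lit 684) Col.e (nat_lit 683) (Dv.wd (nat_lit 41) [Mv.b (nat_lit 1994), Mv.b (nat_lit 1733), Mv.f (nat_lit 1996)])))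
(Tr.lf (Fc.ed (nat_lit 1999) (nat_lit 684) Col.g (nat_lit 569) (Dv.wd (nat_lit 79) [Mv.b (nat_lit 1734), Mv.b (nat_lit 1732), Mv.f (nat_lit 1996)]))))
(Tr.nd (nat_lit 2001) (Tr.lf (Fc.ed (nat_lit 2000) (nat_lit 569) Col.e (nat_lit 685) Dv.df))
(Tr.lf (Fc.ed (nat_lit 2001) (nat_lit 685) Col.g (nat_lit 683) (Dv.wd (nat_lit 87) [Mv.b (nat_lit 1998), Mv.f (nat_lit 1999), Mv.f (nat_lit 2000)]))))))
(Tr.nd (nat_lit 2005) (Tr.nd (nat_lit 2003) (Tr.lf (Fc.ed (nat_lit 2002) (nat_lit 570) Col.b (nat_lit 686) Dv.df))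
(Tr.nd (nat_lit 2004) (Tr.lf (Fc.ed (nat_lit 2003) (nat_lit 686) Col.h (nat_lit 582) (Dv.wd (nat_lit 29) [Mv.b (nat_lit 1760), Mv.b (nat_lit 1736), Mv.f (nat_lit 2002)])))
(Tr.lf (Fc.ed (nat_lit 2004) (nat_lit 571) Col.e (nat_lit 687) Dv.df))))
(Tr.nd (nat_lit 2007) (Tr.nd (nat_lit 2006) (Tr.lf (Fc.ed (nat_lit 2005) (nat_lit 687) Col.a (nat_lit 683) (Dv.wd (nat_lit 152) [Mv.b (nat_lit 1998), Mv.f (nat_lit 1997), Mv.f (nat_lit 2004)])))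
(Tr.lf (Fc.ed (nat_lit 2006) (nat_lit 572) Col.c (nat_lit 688) Dv.df)))
(Tr.nd (nat_lit 2008) (Tr.lf (Fc.ed (nat_lit 2007) (nat_lit 688) Col.i (nat_lit 573) (Dv.wd (nat_lit 137) [Mv.b (nat_lit 1740), Mv.b (nat_lit 1739), Mv.f (nat_lit 2006)])))
(Tr.lf (Fc.ed (nat_lit 2008) (nat_lit 573) Col.e (nat_lit 689) Dv.df))))))
(Tr.nd (nat_lit 2016) (Tr.nd (nat_lit 2012) (Tr.nd (nat_lit 2010) (Tr.lf (Fc.ed (nat_lit 2009) (nat_lit 689) Col.h (nat_lit 685) (Dv.wd (nat_lit 107) [Mv.b (nat_lit 2000), Mv.b (nat_lit 1741), Mv.f (nat_lit 2008)])))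
(Tr.nd (nat_lit 2011) (Tr.lf (Fc.ed (nat_lit 2010) (nat_lit 574) Col.c (nat_lit 690) Dv.df))
(Tr.lf (Fc.ed (nat_lit 2011) (nat_lit 690) Col.f (nat_lit 690) (Dv.wd (nat_lit 36) [Mv.b (nat_lit 2010), Mv.f (nat_lit 1743), Mv.f (nat_lit 2010)])))))
(Tr.nd (nat_lit 2014) (Tr.nd (nat_lit 2013) (Tr.lf (Fc.ed (nat_lit 2012) (nat_lit 690) Col.g (nat_lit 576) (Dv.wd (nat_lit 79) [Mv.b (nat_lit 1750), Mv.b (nat_lit 1744), Mv.f (nat_lit 2010)])))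
(Tr.lf (Fc.ed (nat_lit 2013) (nat_lit 690) Col.h (nat_lit 690) (Dv.wd (nat_lit 30) [Mv.b (nat_lit 2010), Mv.f (nat_lit 1746), Mv.f (nat_lit 2010)]))))
(Tr.nd (nat_lit 2015) (Tr.lf (Fc.ed (nat_lit 2014) (nat_lit 690) Col.i (nat_lit 575) (Dv.wd (nat_lit 137) [Mv.b (nat_lit 1747), Mv.b (nat_lit 1745), Mv.f (nat_lit 2010)])))
(Tr.lf (Fc.ed (nat_lit 2015) (nat_lit 575) Col.b (nat_lit 691) Dv.df)))))
(Tr.nd (nat_lit 2020) (Tr.nd (nat_lit 2018) (Tr.nd (nat_lit 2017) (Tr.lf (Fc.ed (nat_lit 2016) (nat_lit 691) Col.g (nat_lit 577) (Dv.wd (nat_lit 75) [Mv.b (nat_lit 1751), Mv.b (nat_lit 1748), Mv.f (nat_lit 2015)])))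
(Tr.lf (Fc.ed (nat_lit 2017) (nat_lit 575) Col.e (nat_lit 692) Dv.df)))
(Tr.nd (nat_lit 2019) (Tr.lf (Fc.ed (nat_lit 2018) (nat_lit 692) Col.h (nat_lit 687) (Dv.wd (nat_lit 107) [Mv.b (nat_lit 2004), Mv.b (nat_lit 1749), Mv.f (nat_lit 2017)])))
(Tr.lf (Fc.ed (nat_lit 2019) (nat_lit 576) Col.e (nat_lit 693) Dv.df))))
(Tr.nd (nat_lit 2022) (Tr.nd (nat_lit 2021) (Tr.lf (Fc.ed (nat_lit 2020) (nat_lit 577) Col.a (nat_lit 694) Dv.df))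
(Tr.lf (Fc.ed (nat_lit 2021) (nat_lit 577) Col.e (nat_lit 695) Dv.df)))
(Tr.nd (nat_lit 2023) (Tr.lf (Fc.ed (nat_lit 2022) (nat_lit 579) Col.c (nat_lit 696) Dv.df))
(Tr.lf (Fc.ed (nat_lit 2023) (nat_lit 696) Col.f (nat_lit 688) (Dv.wd (nat_lit 36) [Mv.b (nat_lit 2006), Mv.b (nat_lit 1754), Mv.f (nat_lit 2022)]))))))))
(Tr.nd (nat_lit 2038) (Tr.nd (nat_lit 2031) (Tr.nd (nat_lit 2027) (Tr.nd (nat_lit 2025) (Tr.lf (Fc.ed (nat_lit 2024) (nat_lit 579) Col.e (nat_lit 697) Dv.df))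
(Tr.nd (nat_lit 2026) (Tr.lf (Fc.ed (nat_lit 2025) (nat_lit 697) Col.d (nat_lit 589) (Dv.wd (nat_lit 88) [Mv.b (nat_lit 1774), Mv.b (nat_lit 1516), Mv.b (nat_lit 1502), Mv.f (nat_lit 1753), Mv.f (nat_lit 2024)])))
(Tr.lf (Fc.ed (nat_lit 2026) (nat_lit 580) Col.b (nat_lit 698) Dv.df))))
(Tr.nd (nat_lit 2029) (Tr.nd (nat_lit 2028) (Tr.lf (Fc.ed (nat_lit 2027) (nat_lit 698) Col.i (nat_lit 582) (Dv.wd (nat_lit 149) [Mv.b (nat_lit 1760), Mv.b (nat_lit 1757), Mv.f (nat_lit 2026)])))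
(Tr.lf (Fc.ed (nat_lit 2028) (nat_lit 580) Col.e (nat_lit 699) Dv.df)))
(Tr.nd (nat_lit 2030) (Tr.lf (Fc.ed (nat_lit 2029) (nat_lit 699) Col.c (nat_lit 581) (Dv.wd (nat_lit 86) [Mv.b (nat_lit 1758), Mv.f (nat_lit 1755), Mv.f (nat_lit 2028)])))
(Tr.lf (Fc.ed (nat_lit 2030) (nat_lit 582) Col.a (nat_lit 700) Dv.df)))))
(Tr.nd (nat_lit 2034) (Tr.nd (nat_lit 2032) (Tr.lf (Fc.ed (nat_lit 2031) (nat_lit 700) Col.f (nat_lit 694) (Dv.wd (nat_lit 33) [Mv.b (nat_lit 2020), Mv.b (nat_lit 1761), Mv.f (nat_lit 2030)])))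
(Tr.nd (nat_lit 2033) (Tr.lf (Fc.ed (nat_lit 2032) (nat_lit 582) Col.e (nat_lit 701) Dv.df))
(Tr.lf (Fc.ed (nat_lit 2033) (nat_lit 584) Col.f (nat_lit 702) Dv.df))))
(Tr.nd (nat_lit 2036) (Tr.nd (nat_lit 2035) (Tr.lf (Fc.ed (nat_lit 2034) (nat_lit 702) Col.a (nat_lit 587) (Dv.wd (nat_lit 113) [Mv.b (nat_lit 1769), Mv.b (nat_lit 1765), Mv.f (nat_lit 2033)])))
(Tr.lf (Fc.ed (nat_lit 2035) (nat_lit 585) Col.a (nat_lit 703) Dv.df)))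
(Tr.nd (nat_lit 2037) (Tr.lf (Fc.ed (nat_lit 2036) (nat_lit 585) Col.e (nat_lit 704) Dv.df))
(Tr.lf (Fc.ed (nat_lit 2037) (nat_lit 704) Col.b (nat_lit 586) (Dv.wd (nat_lit 153) [Mv.b (nat_lit 1768), Mv.f (nat_lit 1766), Mv.f (nat_lit 2036)])))))))
(Tr.nd (nat_lit 2045) (Tr.nd (nat_lit 2041) (Tr.nd (nat_lit 2039) (Tr.lf (Fc.ed (nat_lit 2038) (nat_lit 704) Col.h (nat_lit 704) (Dv.wd (nat_lit 107) [Mv.b (nat_lit 2036), Mv.f (nat_lit 1767), Mv.f (nat_lit 2036)])))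
(Tr.nd (nat_lit 2040) (Tr.lf (Fc.ed (nat_lit 2039) (nat_lit 586) Col.d (nat_lit 705) Dv.df))
(Tr.lf (Fc.ed (nat_lit 2040) (nat_lit 587) Col.g (nat_lit 706) Dv.df))))
(Tr.nd (nat_lit 2043) (Tr.nd (nat_lit 2042) (Tr.lf (Fc.ed (nat_lit 2041) (nat_lit 588) Col.b (nat_lit 707) Dv.df))
(Tr.lf (Fc.ed (nat_lit 2042) (nat_lit 707) Col.h (nat_lit 594) (Dv.wd (nat_lit 29) [Mv.f (nat_lit 1788), Mv.b (nat_lit 1773), Mv.f (nat_lit 2041)]))))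
(Tr.nd (nat_lit 2044) (Tr.lf (Fc.ed (nat_lit 2043) (nat_lit 588) Col.e (nat_lit 708) Dv.df))
(Tr.lf (Fc.ed (nat_lit 2044) (nat_lit 708) Col.c (nat_lit 589) (Dv.wd (nat_lit 86) [Mv.b (nat_lit 1774), Mv.f (nat_lit 1771), Mv.f (nat_lit 2043)]))))))
(Tr.nd (nat_lit 2049) (Tr.nd (nat_lit 2047) (Tr.nd (nat_lit 2046) (Tr.lf (Fc.ed (nat_lit 2045) (nat_lit 708) Col.h (nat_lit 595) (Dv.wd (nat_lit 107) [Mv.b (nat_lit 1789), Mv.b (nat_lit 1773), Mv.f (nat_lit 2043)])))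
(Tr.lf (Fc.ed (nat_lit 2046) (nat_lit 589) Col.f (nat_lit 709) Dv.df)))
(Tr.nd (nat_lit 2048) (Tr.lf (Fc.ed (nat_lit 2047) (nat_lit 709) Col.i (nat_lit 702) (Dv.wd (nat_lit 150) [Mv.b (nat_lit 2033), Mv.b (nat_lit 1775), Mv.f (nat_lit 2046)])))
(Tr.lf (Fc.ed (nat_lit 2048) (nat_lit 590) Col.a (nat_lit 710) Dv.df))))
(Tr.nd (nat_lit 2051) (Tr.nd (nat_lit 2050) (Tr.lf (Fc.ed (nat_lit 2049) (nat_lit 710) Col.h (nat_lit 596) (Dv.wd (nat_lit 28) [Mv.f (nat_lit 1792), Mv.b (nat_lit 1777), Mv.f (nat_lit 2048)])))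
(Tr.lf (Fc.ed (nat_lit 2050) (nat_lit 710) Col.i (nat_lit 703) (Dv.wd (nat_lit 147) [Mv.b (nat_lit 2035), Mv.b (nat_lit 1778), Mv.f (nat_lit 2048)]))))
(Tr.nd (nat_lit 2052) (Tr.lf (Fc.ed (nat_lit 2051) (nat_lit 590) Col.e (nat_lit 711) Dv.df))
(Tr.lf (Fc.ed (nat_lit 2052) (nat_lit 711) Col.b (nat_lit 591) (Dv.wd (nat_lit 153) [Mv.b (nat_lit 1779), Mv.f (nat_lit 1776), Mv.f (nat_lit 2051)])))))))))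
(Tr.nd (nat_lit 2082) (Tr.nd (nat_lit 2067) (Tr.nd (nat_lit 2060) (Tr.nd (nat_lit 2056) (Tr.nd (nat_lit 2054) (Tr.lf (Fc.ed (nat_lit 2053) (nat_lit 711) Col.h (nat_lit 597) (Dv.wd (nat_lit 107) [Mv.b (nat_lit 1793), Mv.b (nat_lit 1777), Mv.f (nat_lit 2051)])))
(Tr.nd (nat_lit 2055) (Tr.lf (Fc.ed (nat_lit 2054) (nat_lit 591) Col.d (nat_lit 712) Dv.df))
(Tr.lf (Fc.ed (nat_lit 2055) (nat_lit 712) Col.i (nat_lit 705) (Dv.wd (nat_lit 135) [Mv.b (nat_lit 2039), Mv.b (nat_lit 1782), Mv.f (nat_lit 2054)])))))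
(Tr.nd (nat_lit 2058) (Tr.nd (nat_lit 2057) (Tr.lf (Fc.ed (nat_lit 2056) (nat_lit 591) Col.f (nat_lit 713) Dv.df))
(Tr.lf (Fc.ed (nat_lit 2057) (nat_lit 713) Col.h (nat_lit 598) (Dv.wd (nat_lit 115) [Mv.b (nat_lit 1795), Mv.b (nat_lit 1781), Mv.f (nat_lit 2056)]))))
(Tr.nd (nat_lit 2059) (Tr.lf (Fc.ed (nat_lit 2058) (nat_lit 592) Col.f (nat_lit 714) Dv.df))
(Tr.lf (Fc.ed (nat_lit 2059) (nat_lit 714) Col.h (nat_lit 709) (Dv.wd (nat_lit 115) [Mv.b (nat_lit 2046), Mv.b (nat_lit 1784), Mv.f (nat_lit 2058)]))))))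
(Tr.nd (nat_lit 2063) (Tr.nd (nat_lit 2061) (Tr.lf (Fc.ed (nat_lit 2060) (nat_lit 593) Col.d (nat_lit 715) Dv.df))
(Tr.nd (nat_lit 2062) (Tr.lf (Fc.ed (nat_lit 2061) (nat_lit 715) Col.a (nat_lit 594) (Dv.wd (nat_lit 182) [Mv.b (nat_lit 1787), Mv.f (nat_lit 1785), Mv.f (nat_lit 2060)])))
(Tr.lf (Fc.ed (nat_lit 2062) (nat_lit 595) Col.f (nat_lit 716) Dv.df))))
(Tr.nd (nat_lit 2065) (Tr.nd (nat_lit 2064) (Tr.lf (Fc.ed (nat_lit 2063) (nat_lit 716) Col.c (nat_lit 714) (Dv.wd (nat_lit 91) [Mv.b (nat_lit 2058), Mv.b (nat_lit 1790), Mv.f (nat_lit 2062)])))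
(Tr.lf (Fc.ed (nat_lit 2064) (nat_lit 596) Col.e (nat_lit 717) Dv.df)))
(Tr.nd (nat_lit 2066) (Tr.lf (Fc.ed (nat_lit 2065) (nat_lit 717) Col.d (nat_lit 610) (Dv.wd (nat_lit 88) [Mv.b (nat_lit 1827), Mv.b (nat_lit 1557), Mv.b (nat_lit 1530), Mv.f (nat_lit 1791), Mv.f (nat_lit 2064)])))
(Tr.lf (Fc.ed (nat_lit 2066) (nat_lit 598) Col.g (nat_lit 718) Dv.df))))))
(Tr.nd (nat_lit 2074) (Tr.nd (nat_lit 2070) (Tr.nd (nat_lit 2068) (Tr.lf (Fc.ed (nat_lit 2067) (nat_lit 599) Col.c (nat_lit 719) Dv.df))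
(Tr.nd (nat_lit 2069) (Tr.lf (Fc.ed (nat_lit 2068) (nat_lit 719) Col.l (nat_lit 719) (Dv.wd (nat_lit 77) [Mv.b (nat_lit 2067), Mv.f (nat_lit 1797), Mv.f (nat_lit 2067)])))
(Tr.lf (Fc.ed (nat_lit 2069) (nat_lit 719) Col.g (nat_lit 719) (Dv.wd (nat_lit 79) [Mv.b (nat_lit 2067), Mv.f (nat_lit 1799), Mv.f (nat_lit 2067)])))))
(Tr.nd (nat_lit 2072) (Tr.nd (nat_lit 2071) (Tr.lf (Fc.ed (nat_lit 2070) (nat_lit 719) Col.b (nat_lit 719) (Dv.wd (nat_lit 178) [Mv.b (nat_lit 2067), Mv.f (nat_lit 1798), Mv.f (nat_lit 1541), Mv.b (nat_lit 1798), Mv.f (nat_lit 2067)])))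
(Tr.lf (Fc.ed (nat_lit 2071) (nat_lit 599) Col.e (nat_lit 720) Dv.df)))
(Tr.nd (nat_lit 2073) (Tr.lf (Fc.ed (nat_lit 2072) (nat_lit 720) Col.b (nat_lit 601) (Dv.wd (nat_lit 153) [Mv.b (nat_lit 1802), Mv.b (nat_lit 1798), Mv.f (nat_lit 2071)])))
(Tr.lf (Fc.ed (nat_lit 2073) (nat_lit 599) Col.f (nat_lit 721) Dv.df)))))
(Tr.nd (nat_lit 2078) (Tr.nd (nat_lit 2076) (Tr.nd (nat_lit 2075) (Tr.lf (Fc.ed (nat_lit 2074) (nat_lit 721) Col.b (nat_lit 602) (Dv.wd (nat_lit 114) [Mv.b (nat_lit 1807), Mv.b (nat_lit 1798), Mv.f (nat_lit 2073)])))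
(Tr.lf (Fc.ed (nat_lit 2075) (nat_lit 721) Col.d (nat_lit 600) (Dv.wd (nat_lit 92) [Mv.b (nat_lit 1800), Mv.f (nat_lit 1796), Mv.f (nat_lit 2073)]))))
(Tr.nd (nat_lit 2077) (Tr.lf (Fc.ed (nat_lit 2076) (nat_lit 601) Col.f (nat_lit 722) Dv.df))
(Tr.lf (Fc.ed (nat_lit 2077) (nat_lit 722) Col.a (nat_lit 603) (Dv.wd (nat_lit 113) [Mv.b (nat_lit 1810), Mv.b (nat_lit 1803), Mv.f (nat_lit 2076)])))))
(Tr.nd (nat_lit 2080) (Tr.nd (nat_lit 2079) (Tr.lf (Fc.ed (nat_lit 2078) (nat_lit 722) Col.c (nat_lit 722) (Dv.wd (nat_lit 91) [Mv.b (nat_lit 2076), Mv.f (nat_lit 1804), Mv.f (nat_lit 2076)])))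
(Tr.lf (Fc.ed (nat_lit 2079) (nat_lit 722) Col.d (nat_lit 716) (Dv.wd (nat_lit 92) [Mv.b (nat_lit 2062), Mv.b (nat_lit 1806), Mv.f (nat_lit 2076)]))))
(Tr.nd (nat_lit 2081) (Tr.lf (Fc.ed (nat_lit 2080) (nat_lit 601) Col.h (nat_lit 723) Dv.df))
(Tr.lf (Fc.ed (nat_lit 2081) (nat_lit 723) Col.a (nat_lit 604) (Dv.wd (nat_lit 124) [Mv.b (nat_lit 1812), Mv.b (nat_lit 1803), Mv.f (nat_lit 2080)]))))))))
(Tr.nd (nat_lit 2097) (Tr.nd (nat_lit 2089) (Tr.nd (nat_lit 2085) (Tr.nd (nat_lit 2083) (Tr.lf (Fc.ed (nat_lit 2082) (nat_lit 602) Col.e (nat_lit 724) Dv.df))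
(Tr.nd (nat_lit 2084) (Tr.lf (Fc.ed (nat_lit 2083) (nat_lit 724) Col.a (nat_lit 605) (Dv.wd (nat_lit 152) [Mv.b (nat_lit 1814), Mv.b (nat_lit 1808), Mv.f (nat_lit 2082)])))
(Tr.lf (Fc.ed (nat_lit 2084) (nat_lit 602) Col.h (nat_lit 725) Dv.df))))
(Tr.nd (nat_lit 2087) (Tr.nd (nat_lit 2086) (Tr.lf (Fc.ed (nat_lit 2085) (nat_lit 725) Col.a (nat_lit 607) (Dv.wd (nat_lit 124) [Mv.b (nat_lit 1820), Mv.b (nat_lit 1808), Mv.f (nat_lit 2084)])))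
(Tr.lf (Fc.ed (nat_lit 2086) (nat_lit 725) Col.d (nat_lit 725) (Dv.wd (nat_lit 141) [Mv.b (nat_lit 2084), Mv.f (nat_lit 1809), Mv.f (nat_lit 1543), Mv.b (nat_lit 1809), Mv.f (nat_lit 2084)]))))
(Tr.nd (nat_lit 2088) (Tr.lf (Fc.ed (nat_lit 2087) (nat_lit 603) Col.e (nat_lit 726) Dv.df))
(Tr.lf (Fc.ed (nat_lit 2088) (nat_lit 726) Col.f (nat_lit 605) (Dv.wd (nat_lit 109) [Mv.b (nat_lit 1814), Mv.b (nat_lit 1546), Mv.f (nat_lit 1544), Mv.f (nat_lit 1810), Mv.f (nat_lit 2087)]))))))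
(Tr.nd (nat_lit 2093) (Tr.nd (nat_lit 2091) (Tr.nd (nat_lit 2090) (Tr.lf (Fc.ed (nat_lit 2089) (nat_lit 603) Col.g (nat_lit 727) Dv.df))
(Tr.lf (Fc.ed (nat_lit 2090) (nat_lit 727) Col.d (nat_lit 718) (Dv.wd (nat_lit 97) [Mv.b (nat_lit 2066), Mv.b (nat_lit 1811), Mv.f (nat_lit 2089)]))))
(Tr.nd (nat_lit 2092) (Tr.lf (Fc.ed (nat_lit 2091) (nat_lit 604) Col.d (nat_lit 728) Dv.df))
(Tr.lf (Fc.ed (nat_lit 2092) (nat_lit 728) Col.h (nat_lit 712) (Dv.wd (nat_lit 105) [Mv.b (nat_lit 2054), Mv.f (nat_lit 1781), Mv.b (nat_lit 1545), Mv.f (nat_lit 1812), Mv.f (nat_lit 2091)])))))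
(Tr.nd (nat_lit 2095) (Tr.nd (nat_lit 2094) (Tr.lf (Fc.ed (nat_lit 2093) (nat_lit 604) Col.i (nat_lit 729) Dv.df))
(Tr.lf (Fc.ed (nat_lit 2094) (nat_lit 729) Col.e (nat_lit 608) (Dv.wd (nat_lit 143) [Mv.b (nat_lit 1822), Mv.b (nat_lit 1813), Mv.f (nat_lit 2093)]))))
(Tr.nd (nat_lit 2096) (Tr.lf (Fc.ed (nat_lit 2095) (nat_lit 605) Col.g (nat_lit 730) Dv.df))
(Tr.lf (Fc.ed (nat_lit 2096) (nat_lit 730) Col.l (nat_lit 730) (Dv.wd (nat_lit 94) [Mv.b (nat_lit 2095), Mv.f (nat_lit 1815), Mv.f (nat_lit 2095)])))))))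
(Tr.nd (nat_lit 2104) (Tr.nd (nat_lit 2100) (Tr.nd (nat_lit 2098) (Tr.lf (Fc.ed (nat_lit 2097) (nat_lit 730) Col.c (nat_lit 730) (Dv.wd (nat_lit 96) [Mv.b (nat_lit 2095), Mv.f (nat_lit 1816), Mv.f (nat_lit 2095)])))
(Tr.nd (nat_lit 2099) (Tr.lf (Fc.ed (nat_lit 2098) (nat_lit 730) Col.d (nat_lit 730) (Dv.wd (nat_lit 97) [Mv.b (nat_lit 2095), Mv.f (nat_lit 1817), Mv.f (nat_lit 2095)])))
(Tr.lf (Fc.ed (nat_lit 2099) (nat_lit 730) Col.e (nat_lit 606) (Dv.wd (nat_lit 98) [Mv.b (nat_lit 1818), Mv.f (nat_lit 1814), Mv.f (nat_lit 2095)])))))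
(Tr.nd (nat_lit 2102) (Tr.nd (nat_lit 2101) (Tr.lf (Fc.ed (nat_lit 2100) (nat_lit 605) Col.j (nat_lit 731) Dv.df))
(Tr.lf (Fc.ed (nat_lit 2101) (nat_lit 605) Col.h (nat_lit 732) Dv.df)))
(Tr.nd (nat_lit 2103) (Tr.lf (Fc.ed (nat_lit 2102) (nat_lit 606) Col.h (nat_lit 733) Dv.df))
(Tr.lf (Fc.ed (nat_lit 2103) (nat_lit 733) Col.d (nat_lit 733) (Dv.wd (nat_lit 141) [Mv.b (nat_lit 2102), Mv.f (nat_lit 1819), Mv.f (nat_lit 1553), Mv.b (nat_lit 1819), Mv.f (nat_lit 2102)]))))))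
(Tr.nd (nat_lit 2108) (Tr.nd (nat_lit 2106) (Tr.nd (nat_lit 2105) (Tr.lf (Fc.ed (nat_lit 2104) (nat_lit 607) Col.i (nat_lit 734) Dv.df))
(Tr.lf (Fc.ed (nat_lit 2105) (nat_lit 734) Col.f (nat_lit 608) (Dv.wd (nat_lit 112) [Mv.b (nat_lit 1822), Mv.b (nat_lit 1821), Mv.f (nat_lit 2104)]))))
(Tr.nd (nat_lit 2107) (Tr.lf (Fc.ed (nat_lit 2106) (nat_lit 734) Col.h (nat_lit 734) (Dv.wd (nat_lit 193) [Mv.b (nat_lit 2104), Mv.b (nat_lit 1820), Mv.f (nat_lit 1550), Mv.f (nat_lit 1820), Mv.f (nat_lit 2104)])))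
(Tr.lf (Fc.ed (nat_lit 2107) (nat_lit 609) Col.c (nat_lit 735) Dv.df))))
(Tr.nd (nat_lit 2110) (Tr.nd (nat_lit 2109) (Tr.lf (Fc.ed (nat_lit 2108) (nat_lit 735) Col.a (nat_lit 719) (Dv.wd (nat_lit 181) [Mv.b (nat_lit 2067), Mv.b (nat_lit 1824), Mv.f (nat_lit 2107)])))
(Tr.lf (Fc.ed (nat_lit 2109) (nat_lit 609) Col.e (nat_lit 736) Dv.df)))
(Tr.nd (nat_lit 2111) (Tr.lf (Fc.ed (nat_lit 2110) (nat_lit 736) Col.a (nat_lit 720) (Dv.wd (nat_lit 152) [Mv.b (nat_lit 2071), Mv.b (nat_lit 1824), Mv.f (nat_lit 2109)])))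
(Tr.lf (Fc.ed (nat_lit 2111) (nat_lit 736) Col.b (nat_lit 610) (Dv.wd (nat_lit 153) [Mv.b (nat_lit 1827), Mv.b (nat_lit 1825), Mv.f (nat_lit 2109)])))))))))))
(Tr.nd (nat_lit 2229) (Tr.nd (nat_lit 2170) (Tr.nd (nat_lit 2141) (Tr.nd (nat_lit 2126) (Tr.nd (nat_lit 2119) (Tr.nd (nat_lit 2115) (Tr.nd (nat_lit 2113) (Tr.lf (Fc.ed (nat_lit 2112) (nat_lit 736) Col.g (nat_lit 736) (Dv.wd (nat_lit 87) [Mv.b (nat_lit 2109), Mv.f (nat_lit 1826), Mv.f (nat_lit 2109)])))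
(Tr.nd (nat_lit 2114) (Tr.lf (Fc.ed (nat_lit 2113) (nat_lit 609) Col.f (nat_lit 737) Dv.df))
(Tr.lf (Fc.ed (nat_lit 2114) (nat_lit 737) Col.a (nat_lit 721) (Dv.wd (nat_lit 113) [Mv.b (nat_lit 2073), Mv.b (nat_lit 1824), Mv.f (nat_lit 2113)])))))
(Tr.nd (nat_lit 2117) (Tr.nd (nat_lit 2116) (Tr.lf (Fc.ed (nat_lit 2115) (nat_lit 610) Col.f (nat_lit 738) Dv.df))
(Tr.lf (Fc.ed (nat_lit 2116) (nat_lit 738) Col.a (nat_lit 613) (Dv.wd (nat_lit 113) [Mv.b (nat_lit 1834), Mv.b (nat_lit 1828), Mv.f (nat_lit 2115)]))))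
(Tr.nd (nat_lit 2118) (Tr.lf (Fc.ed (nat_lit 2117) (nat_lit 610) Col.h (nat_lit 739) Dv.df))
(Tr.lf (Fc.ed (nat_lit 2118) (nat_lit 611) Col.e (nat_lit 740) Dv.df)))))
(Tr.nd (nat_lit 2122) (Tr.nd (nat_lit 2120) (Tr.lf (Fc.ed (nat_lit 2119) (nat_lit 740) Col.a (nat_lit 615) (Dv.wd (nat_lit 152) [Mv.b (nat_lit 1837), Mv.b (nat_lit 1830), Mv.f (nat_lit 2118)])))
(Tr.nd (nat_lit 2121) (Tr.lf (Fc.ed (nat_lit 2120) (nat_lit 611) Col.g (nat_lit 741) Dv.df))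
(Tr.lf (Fc.ed (nat_lit 2121) (nat_lit 741) Col.d (nat_lit 612) (Dv.wd (nat_lit 97) [Mv.b (nat_lit 1832), Mv.b (nat_lit 1831), Mv.f (nat_lit 2120)])))))
(Tr.nd (nat_lit 2124) (Tr.nd (nat_lit 2123) (Tr.lf (Fc.ed (nat_lit 2122) (nat_lit 613) Col.e (nat_lit 742) Dv.df))
(Tr.lf (Fc.ed (nat_lit 2123) (nat_lit 613) Col.h (nat_lit 743) Dv.df)))
(Tr.nd (nat_lit 2125) (Tr.lf (Fc.ed (nat_lit 2124) (nat_lit 743) Col.f (nat_lit 614) (Dv.wd (nat_lit 104) [Mv.b (nat_lit 1835), Mv.f (nat_lit 1834), Mv.f (nat_lit 2123)])))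
(Tr.lf (Fc.ed (nat_lit 2125) (nat_lit 614) Col.d (nat_lit 744) Dv.df))))))
(Tr.nd (nat_lit 2133) (Tr.nd (nat_lit 2129) (Tr.nd (nat_lit 2127) (Tr.lf (Fc.ed (nat_lit 2126) (nat_lit 614) Col.i (nat_lit 745) Dv.df))
(Tr.nd (nat_lit 2128) (Tr.lf (Fc.ed (nat_lit 2127) (nat_lit 745) Col.b (nat_lit 729) (Dv.wd (nat_lit 144) [Mv.b (nat_lit 2093), Mv.b (nat_lit 1836), Mv.f (nat_lit 2126)])))
(Tr.lf (Fc.ed (nat_lit 2128) (nat_lit 615) Col.g (nat_lit 746) Dv.df))))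
(Tr.nd (nat_lit 2131) (Tr.nd (nat_lit 2130) (Tr.lf (Fc.ed (nat_lit 2129) (nat_lit 746) Col.b (nat_lit 730) (Dv.wd (nat_lit 146) [Mv.b (nat_lit 2095), Mv.b (nat_lit 1838), Mv.f (nat_lit 2128)])))
(Tr.lf (Fc.ed (nat_lit 2130) (nat_lit 615) Col.j (nat_lit 747) Dv.df)))
(Tr.nd (nat_lit 2132) (Tr.lf (Fc.ed (nat_lit 2131) (nat_lit 747) Col.b (nat_lit 731) (Dv.wd (nat_lit 194) [Mv.b (nat_lit 2100), Mv.b (nat_lit 1838), Mv.f (nat_lit 2130)])))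
(Tr.lf (Fc.ed (nat_lit 2132) (nat_lit 616) Col.b (nat_lit 748) Dv.df)))))
(Tr.nd (nat_lit 2137) (Tr.nd (nat_lit 2135) (Tr.nd (nat_lit 2134) (Tr.lf (Fc.ed (nat_lit 2133) (nat_lit 748) Col.k (nat_lit 748) (Dv.wd (nat_lit 74) [Mv.b (nat_lit 2132), Mv.f (nat_lit 1840), Mv.f (nat_lit 2132)])))
(Tr.lf (Fc.ed (nat_lit 2134) (nat_lit 748) Col.e (nat_lit 748) (Dv.wd (nat_lit 40) [Mv.b (nat_lit 2132), Mv.f (nat_lit 1842), Mv.f (nat_lit 2132)]))))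
(Tr.nd (nat_lit 2136) (Tr.lf (Fc.ed (nat_lit 2135) (nat_lit 617) Col.c (nat_lit 749) Dv.df))
(Tr.lf (Fc.ed (nat_lit 2136) (nat_lit 749) Col.b (nat_lit 735) (Dv.wd (nat_lit 178) [Mv.b (nat_lit 2107), Mv.f (nat_lit 1825), Mv.b (nat_lit 1575), Mv.b (nat_lit 1845), Mv.f (nat_lit 2135)])))))
(Tr.nd (nat_lit 2139) (Tr.nd (nat_lit 2138) (Tr.lf (Fc.ed (nat_lit 2137) (nat_lit 617) Col.e (nat_lit 750) Dv.df))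
(Tr.lf (Fc.ed (nat_lit 2138) (nat_lit 750) Col.a (nat_lit 750) (Dv.wd (nat_lit 152) [Mv.b (nat_lit 2137), Mv.f (nat_lit 1844), Mv.f (nat_lit 2137)]))))
(Tr.nd (nat_lit 2140) (Tr.lf (Fc.ed (nat_lit 2139) (nat_lit 750) Col.b (nat_lit 619) (Dv.wd (nat_lit 153) [Mv.b (nat_lit 1847), Mv.b (nat_lit 1845), Mv.f (nat_lit 2137)])))
(Tr.lf (Fc.ed (nat_lit 2140) (nat_lit 617) Col.f (nat_lit 751) Dv.df)))))))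
(Tr.nd (nat_lit 2155) (Tr.nd (nat_lit 2148) (Tr.nd (nat_lit 2144) (Tr.nd (nat_lit 2142) (Tr.lf (Fc.ed (nat_lit 2141) (nat_lit 751) Col.d (nat_lit 618) (Dv.wd (nat_lit 92) [Mv.b (nat_lit 1846), Mv.f (nat_lit 1843), Mv.f (nat_lit 2140)])))
(Tr.nd (nat_lit 2143) (Tr.lf (Fc.ed (nat_lit 2142) (nat_lit 617) Col.h (nat_lit 752) Dv.df))
(Tr.lf (Fc.ed (nat_lit 2143) (nat_lit 618) Col.g (nat_lit 753) Dv.df))))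
(Tr.nd (nat_lit 2146) (Tr.nd (nat_lit 2145) (Tr.lf (Fc.ed (nat_lit 2144) (nat_lit 619) Col.f (nat_lit 754) Dv.df))
(Tr.lf (Fc.ed (nat_lit 2145) (nat_lit 754) Col.c (nat_lit 738) (Dv.wd (nat_lit 91) [Mv.b (nat_lit 2115), Mv.b (nat_lit 1848), Mv.f (nat_lit 2144)]))))
(Tr.nd (nat_lit 2147) (Tr.lf (Fc.ed (nat_lit 2146) (nat_lit 620) Col.e (nat_lit 755) Dv.df))
(Tr.lf (Fc.ed (nat_lit 2147) (nat_lit 755) Col.c (nat_lit 740) (Dv.wd (nat_lit 86) [Mv.b (nat_lit 2118), Mv.b (nat_lit 1850), Mv.f (nat_lit 2146)]))))))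
(Tr.nd (nat_lit 2151) (Tr.nd (nat_lit 2149) (Tr.lf (Fc.ed (nat_lit 2148) (nat_lit 620) Col.h (nat_lit 756) Dv.df))
(Tr.nd (nat_lit 2150) (Tr.lf (Fc.ed (nat_lit 2149) (nat_lit 621) Col.d (nat_lit 757) Dv.df))
(Tr.lf (Fc.ed (nat_lit 2150) (nat_lit 621) Col.g (nat_lit 758) Dv.df))))
(Tr.nd (nat_lit 2153) (Tr.nd (nat_lit 2152) (Tr.lf (Fc.ed (nat_lit 2151) (nat_lit 758) Col.a (nat_lit 627) (Dv.wd (nat_lit 174) [Mv.b (nat_lit 1864), Mv.b (nat_lit 1853), Mv.f (nat_lit 2150)])))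
(Tr.lf (Fc.ed (nat_lit 2152) (nat_lit 758) Col.h (nat_lit 667) (Dv.wd (nat_lit 140) [Mv.f (nat_lit 1963), Mv.b (nat_lit 1854), Mv.f (nat_lit 2150)]))))
(Tr.nd (nat_lit 2154) (Tr.lf (Fc.ed (nat_lit 2153) (nat_lit 623) Col.e (nat_lit 759) Dv.df))
(Tr.lf (Fc.ed (nat_lit 2154) (nat_lit 759) Col.c (nat_lit 742) (Dv.wd (nat_lit 86) [Mv.b (nat_lit 2122), Mv.b (nat_lit 1858), Mv.f (nat_lit 2153)])))))))
(Tr.nd (nat_lit 2162) (Tr.nd (nat_lit 2158) (Tr.nd (nat_lit 2156) (Tr.lf (Fc.ed (nat_lit 2155) (nat_lit 759) Col.f (nat_lit 625) (Dv.wd (nat_lit 109) [Mv.b (nat_lit 1862), Mv.b (nat_lit 1580), Mv.f (nat_lit 1578), Mv.f (nat_lit 1857), Mv.f (nat_lit 2153)])))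
(Tr.nd (nat_lit 2157) (Tr.lf (Fc.ed (nat_lit 2156) (nat_lit 623) Col.g (nat_lit 760) Dv.df))
(Tr.lf (Fc.ed (nat_lit 2157) (nat_lit 623) Col.h (nat_lit 761) Dv.df))))
(Tr.nd (nat_lit 2160) (Tr.nd (nat_lit 2159) (Tr.lf (Fc.ed (nat_lit 2158) (nat_lit 761) Col.c (nat_lit 743) (Dv.wd (nat_lit 102) [Mv.b (nat_lit 2123), Mv.b (nat_lit 1858), Mv.f (nat_lit 2157)])))
(Tr.lf (Fc.ed (nat_lit 2159) (nat_lit 761) Col.f (nat_lit 624) (Dv.wd (nat_lit 104) [Mv.b (nat_lit 1859), Mv.f (nat_lit 1857), Mv.f (nat_lit 2157)]))))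
(Tr.nd (nat_lit 2161) (Tr.lf (Fc.ed (nat_lit 2160) (nat_lit 624) Col.d (nat_lit 762) Dv.df))
(Tr.lf (Fc.ed (nat_lit 2161) (nat_lit 624) Col.i (nat_lit 763) Dv.df)))))
(Tr.nd (nat_lit 2166) (Tr.nd (nat_lit 2164) (Tr.nd (nat_lit 2163) (Tr.lf (Fc.ed (nat_lit 2162) (nat_lit 763) Col.c (nat_lit 745) (Dv.wd (nat_lit 145) [Mv.b (nat_lit 2126), Mv.b (nat_lit 1860), Mv.f (nat_lit 2161)])))
(Tr.lf (Fc.ed (nat_lit 2163) (nat_lit 625) Col.h (nat_lit 764) Dv.df)))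
(Tr.nd (nat_lit 2165) (Tr.lf (Fc.ed (nat_lit 2164) (nat_lit 764) Col.e (nat_lit 626) (Dv.wd (nat_lit 103) [Mv.b (nat_lit 1863), Mv.f (nat_lit 1862), Mv.f (nat_lit 2163)])))
(Tr.lf (Fc.ed (nat_lit 2165) (nat_lit 627) Col.f (nat_lit 765) Dv.df))))
(Tr.nd (nat_lit 2168) (Tr.nd (nat_lit 2167) (Tr.lf (Fc.ed (nat_lit 2166) (nat_lit 765) Col.b (nat_lit 765) (Dv.wd (nat_lit 114) [Mv.b (nat_lit 2165), Mv.f (nat_lit 1865), Mv.f (nat_lit 2165)])))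
(Tr.lf (Fc.ed (nat_lit 2167) (nat_lit 765) Col.c (nat_lit 628) (Dv.wd (nat_lit 91) [Mv.b (nat_lit 1867), Mv.b (nat_lit 1866), Mv.f (nat_lit 2165)]))))
(Tr.nd (nat_lit 2169) (Tr.lf (Fc.ed (nat_lit 2168) (nat_lit 629) Col.b (nat_lit 766) Dv.df))
(Tr.lf (Fc.ed (nat_lit 2169) (nat_lit 766) Col.h (nat_lit 748) (Dv.wd (nat_lit 29) [Mv.b (nat_lit 2132), Mv.b (nat_lit 1871), Mv.f (nat_lit 2168)])))))))))
(Tr.nd (nat_lit 2199) (Tr.nd (nat_lit 2184) (Tr.nd (nat_lit 2177) (Tr.nd (nat_lit 2173) (Tr.nd (nat_lit 2171) (Tr.lf (Fc.ed (nat_lit 2170) (nat_lit 630) Col.d (nat_lit 767) Dv.df))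
(Tr.nd (nat_lit 2172) (Tr.lf (Fc.ed (nat_lit 2171) (nat_lit 767) Col.b (nat_lit 631) (Dv.wd (nat_lit 183) [Mv.b (nat_lit 1873), Mv.f (nat_lit 1872), Mv.f (nat_lit 2170)])))
(Tr.lf (Fc.ed (nat_lit 2172) (nat_lit 631) Col.e (nat_lit 768) Dv.df))))
(Tr.nd (nat_lit 2175) (Tr.nd (nat_lit 2174) (Tr.lf (Fc.ed (nat_lit 2173) (nat_lit 768) Col.k (nat_lit 635) (Dv.wd (nat_lit 85) [Mv.b (nat_lit 1883), Mv.b (nat_lit 1874), Mv.f (nat_lit 2172)])))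
(Tr.lf (Fc.ed (nat_lit 2174) (nat_lit 633) Col.c (nat_lit 769) Dv.df)))
(Tr.nd (nat_lit 2176) (Tr.lf (Fc.ed (nat_lit 2175) (nat_lit 633) Col.e (nat_lit 770) Dv.df))
(Tr.lf (Fc.ed (nat_lit 2176) (nat_lit 770) Col.b (nat_lit 635) (Dv.wd (nat_lit 153) [Mv.b (nat_lit 1883), Mv.b (nat_lit 1879), Mv.f (nat_lit 2175)]))))))
(Tr.nd (nat_lit 2180) (Tr.nd (nat_lit 2178) (Tr.lf (Fc.ed (nat_lit 2177) (nat_lit 633) Col.f (nat_lit 771) Dv.df))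
(Tr.nd (nat_lit 2179) (Tr.lf (Fc.ed (nat_lit 2178) (nat_lit 771) Col.a (nat_lit 771) (Dv.wd (nat_lit 113) [Mv.b (nat_lit 2177), Mv.f (nat_lit 1878), Mv.f (nat_lit 2177)])))
(Tr.lf (Fc.ed (nat_lit 2179) (nat_lit 771) Col.b (nat_lit 636) (Dv.wd (nat_lit 114) [Mv.b (nat_lit 1885), Mv.b (nat_lit 1879), Mv.f (nat_lit 2177)])))))
(Tr.nd (nat_lit 2182) (Tr.nd (nat_lit 2181) (Tr.lf (Fc.ed (nat_lit 2180) (nat_lit 771) Col.d (nat_lit 634) (Dv.wd (nat_lit 92) [Mv.b (nat_lit 1881), Mv.f (nat_lit 1877), Mv.f (nat_lit 2177)])))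
(Tr.lf (Fc.ed (nat_lit 2181) (nat_lit 633) Col.h (nat_lit 772) Dv.df)))
(Tr.nd (nat_lit 2183) (Tr.lf (Fc.ed (nat_lit 2182) (nat_lit 772) Col.d (nat_lit 752) (Dv.wd (nat_lit 141) [Mv.b (nat_lit 2142), Mv.b (nat_lit 1843), Mv.b (nat_lit 1601), Mv.f (nat_lit 1877), Mv.f (nat_lit 2181)])))
(Tr.lf (Fc.ed (nat_lit 2183) (nat_lit 634) Col.g (nat_lit 773) Dv.df))))))
(Tr.nd (nat_lit 2191) (Tr.nd (nat_lit 2187) (Tr.nd (nat_lit 2185) (Tr.lf (Fc.ed (nat_lit 2184) (nat_lit 773) Col.h (nat_lit 753) (Dv.wd (nat_lit 140) [Mv.b (nat_lit 2143), Mv.b (nat_lit 1882), Mv.f (nat_lit 2183)])))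
(Tr.nd (nat_lit 2186) (Tr.lf (Fc.ed (nat_lit 2185) (nat_lit 635) Col.f (nat_lit 774) Dv.df))
(Tr.lf (Fc.ed (nat_lit 2186) (nat_lit 774) Col.a (nat_lit 639) (Dv.wd (nat_lit 113) [Mv.b (nat_lit 1894), Mv.b (nat_lit 1884), Mv.f (nat_lit 2185)])))))
(Tr.nd (nat_lit 2189) (Tr.nd (nat_lit 2188) (Tr.lf (Fc.ed (nat_lit 2187) (nat_lit 635) Col.h (nat_lit 775) Dv.df))
(Tr.lf (Fc.ed (nat_lit 2188) (nat_lit 775) Col.a (nat_lit 640) (Dv.wd (nat_lit 124) [Mv.b (nat_lit 1895), Mv.b (nat_lit 1884), Mv.f (nat_lit 2187)]))))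
(Tr.nd (nat_lit 2190) (Tr.lf (Fc.ed (nat_lit 2189) (nat_lit 775) Col.e (nat_lit 637) (Dv.wd (nat_lit 103) [Mv.b (nat_lit 1889), Mv.f (nat_lit 1883), Mv.f (nat_lit 2187)])))
(Tr.lf (Fc.ed (nat_lit 2190) (nat_lit 636) Col.e (nat_lit 776) Dv.df)))))
(Tr.nd (nat_lit 2195) (Tr.nd (nat_lit 2193) (Tr.nd (nat_lit 2192) (Tr.lf (Fc.ed (nat_lit 2191) (nat_lit 776) Col.i (nat_lit 656) (Dv.wd (nat_lit 136) [Mv.b (nat_lit 1935), Mv.b (nat_lit 1888), Mv.f (nat_lit 2190)])))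
(Tr.lf (Fc.ed (nat_lit 2192) (nat_lit 636) Col.g (nat_lit 777) Dv.df)))
(Tr.nd (nat_lit 2194) (Tr.lf (Fc.ed (nat_lit 2193) (nat_lit 777) Col.c (nat_lit 777) (Dv.wd (nat_lit 96) [Mv.b (nat_lit 2192), Mv.f (nat_lit 1886), Mv.f (nat_lit 2192)])))
(Tr.lf (Fc.ed (nat_lit 2194) (nat_lit 777) Col.d (nat_lit 638) (Dv.wd (nat_lit 97) [Mv.b (nat_lit 1890), Mv.b (nat_lit 1887), Mv.f (nat_lit 2192)])))))
(Tr.nd (nat_lit 2197) (Tr.nd (nat_lit 2196) (Tr.lf (Fc.ed (nat_lit 2195) (nat_lit 636) Col.h (nat_lit 778) Dv.df))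
(Tr.lf (Fc.ed (nat_lit 2196) (nat_lit 778) Col.f (nat_lit 637) (Dv.wd (nat_lit 104) [Mv.b (nat_lit 1889), Mv.f (nat_lit 1885), Mv.f (nat_lit 2195)]))))
(Tr.nd (nat_lit 2198) (Tr.lf (Fc.ed (nat_lit 2197) (nat_lit 778) Col.d (nat_lit 756) (Dv.wd (nat_lit 141) [Mv.b (nat_lit 2148), Mv.f (nat_lit 1851), Mv.b (nat_lit 1607), Mv.b (nat_lit 1887), Mv.f (nat_lit 2195)])))
(Tr.lf (Fc.ed (nat_lit 2198) (nat_lit 639) Col.e (nat_lit 779) Dv.df)))))))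
(Tr.nd (nat_lit 2214) (Tr.nd (nat_lit 2206) (Tr.nd (nat_lit 2202) (Tr.nd (nat_lit 2200) (Tr.lf (Fc.ed (nat_lit 2199) (nat_lit 779) Col.f (nat_lit 641) (Dv.wd (nat_lit 109) [Mv.b (nat_lit 1897), Mv.b (nat_lit 1610), Mv.f (nat_lit 1609), Mv.f (nat_lit 1894), Mv.f (nat_lit 2198)])))
(Tr.nd (nat_lit 2201) (Tr.lf (Fc.ed (nat_lit 2200) (nat_lit 639) Col.h (nat_lit 780) Dv.df))
(Tr.lf (Fc.ed (nat_lit 2201) (nat_lit 780) Col.f (nat_lit 640) (Dv.wd (nat_lit 104) [Mv.b (nat_lit 1895), Mv.f (nat_lit 1894), Mv.f (nat_lit 2200)])))))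
(Tr.nd (nat_lit 2204) (Tr.nd (nat_lit 2203) (Tr.lf (Fc.ed (nat_lit 2202) (nat_lit 640) Col.d (nat_lit 781) Dv.df))
(Tr.lf (Fc.ed (nat_lit 2203) (nat_lit 781) Col.e (nat_lit 762) (Dv.wd (nat_lit 108) [Mv.b (nat_lit 2160), Mv.f (nat_lit 1861), Mv.b (nat_lit 1614), Mv.b (nat_lit 1896), Mv.f (nat_lit 2202)]))))
(Tr.nd (nat_lit 2205) (Tr.lf (Fc.ed (nat_lit 2204) (nat_lit 641) Col.h (nat_lit 782) Dv.df))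
(Tr.lf (Fc.ed (nat_lit 2205) (nat_lit 642) Col.h (nat_lit 783) Dv.df)))))
(Tr.nd (nat_lit 2210) (Tr.nd (nat_lit 2208) (Tr.nd (nat_lit 2207) (Tr.lf (Fc.ed (nat_lit 2206) (nat_lit 783) Col.g (nat_lit 643) (Dv.wd (nat_lit 126) [Mv.b (nat_lit 1901), Mv.f (nat_lit 1899), Mv.f (nat_lit 2205)])))
(Tr.lf (Fc.ed (nat_lit 2207) (nat_lit 644) Col.b (nat_lit 784) Dv.df)))
(Tr.nd (nat_lit 2209) (Tr.lf (Fc.ed (nat_lit 2208) (nat_lit 784) Col.i (nat_lit 766) (Dv.wd (nat_lit 149) [Mv.b (nat_lit 2168), Mv.b (nat_lit 1905), Mv.f (nat_lit 2207)])))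
(Tr.lf (Fc.ed (nat_lit 2209) (nat_lit 645) Col.a (nat_lit 785) Dv.df))))
(Tr.nd (nat_lit 2212) (Tr.nd (nat_lit 2211) (Tr.lf (Fc.ed (nat_lit 2210) (nat_lit 785) Col.g (nat_lit 785) (Dv.wd (nat_lit 31) [Mv.b (nat_lit 2209), Mv.f (nat_lit 1907), Mv.f (nat_lit 2209)])))
(Tr.lf (Fc.ed (nat_lit 2211) (nat_lit 645) Col.d (nat_lit 786) Dv.df)))
(Tr.nd (nat_lit 2213) (Tr.lf (Fc.ed (nat_lit 2212) (nat_lit 786) Col.g (nat_lit 786) (Dv.wd (nat_lit 82) [Mv.b (nat_lit 2211), Mv.f (nat_lit 1907), Mv.f (nat_lit 2211)])))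
(Tr.lf (Fc.ed (nat_lit 2213) (nat_lit 786) Col.i (nat_lit 767) (Dv.wd (nat_lit 135) [Mv.b (nat_lit 2170), Mv.b (nat_lit 1908), Mv.f (nat_lit 2211)])))))))
(Tr.nd (nat_lit 2221) (Tr.nd (nat_lit 2217) (Tr.nd (nat_lit 2215) (Tr.lf (Fc.ed (nat_lit 2214) (nat_lit 646) Col.e (nat_lit 787) Dv.df))
(Tr.nd (nat_lit 2216) (Tr.lf (Fc.ed (nat_lit 2215) (nat_lit 787) Col.i (nat_lit 768) (Dv.wd (nat_lit 136) [Mv.b (nat_lit 2172), Mv.b (nat_lit 1910), Mv.f (nat_lit 2214)])))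
(Tr.lf (Fc.ed (nat_lit 2216) (nat_lit 647) Col.c (nat_lit 788) Dv.df))))
(Tr.nd (nat_lit 2219) (Tr.nd (nat_lit 2218) (Tr.lf (Fc.ed (nat_lit 2217) (nat_lit 788) Col.i (nat_lit 769) (Dv.wd (nat_lit 137) [Mv.b (nat_lit 2174), Mv.b (nat_lit 1913), Mv.f (nat_lit 2216)])))
(Tr.lf (Fc.ed (nat_lit 2218) (nat_lit 647) Col.e (nat_lit 789) Dv.df)))
(Tr.nd (nat_lit 2220) (Tr.lf (Fc.ed (nat_lit 2219) (nat_lit 789) Col.b (nat_lit 648) (Dv.wd (nat_lit 153) [Mv.b (nat_lit 1914), Mv.b (nat_lit 1912), Mv.f (nat_lit 2218)])))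
(Tr.lf (Fc.ed (nat_lit 2220) (nat_lit 648) Col.h (nat_lit 790) Dv.df)))))
(Tr.nd (nat_lit 2225) (Tr.nd (nat_lit 2223) (Tr.nd (nat_lit 2222) (Tr.lf (Fc.ed (nat_lit 2221) (nat_lit 790) Col.a (nat_lit 650) (Dv.wd (nat_lit 124) [Mv.b (nat_lit 1918), Mv.b (nat_lit 1915), Mv.f (nat_lit 2220)])))
(Tr.lf (Fc.ed (nat_lit 2222) (nat_lit 651) Col.b (nat_lit 791) Dv.df)))
(Tr.nd (nat_lit 2224) (Tr.lf (Fc.ed (nat_lit 2223) (nat_lit 791) Col.f (nat_lit 784) (Dv.wd (nat_lit 35) [Mv.b (nat_lit 2207), Mv.b (nat_lit 1920), Mv.f (nat_lit 2222)])))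
(Tr.lf (Fc.ed (nat_lit 2224) (nat_lit 651) Col.d (nat_lit 792) Dv.df))))
(Tr.nd (nat_lit 2227) (Tr.nd (nat_lit 2226) (Tr.lf (Fc.ed (nat_lit 2225) (nat_lit 792) Col.c (nat_lit 792) (Dv.wd (nat_lit 83) [Mv.b (nat_lit 2224), Mv.b (nat_lit 1919), Mv.f (nat_lit 1630), Mv.f (nat_lit 1919), Mv.f (nat_lit 2224)])))
(Tr.lf (Fc.ed (nat_lit 2226) (nat_lit 652) Col.a (nat_lit 793) Dv.df)))
(Tr.nd (nat_lit 2228) (Tr.lf (Fc.ed (nat_lit 2227) (nat_lit 793) Col.f (nat_lit 785) (Dv.wd (nat_lit 33) [Mv.b (nat_lit 2209), Mv.b (nat_lit 1923), Mv.f (nat_lit 2226)])))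
(Tr.lf (Fc.ed (nat_lit 2228) (nat_lit 652) Col.d (nat_lit 794) Dv.df)))))))))
(Tr.nd (nat_lit 2288) (Tr.nd (nat_lit 2258) (Tr.nd (nat_lit 2243) (Tr.nd (nat_lit 2236) (Tr.nd (nat_lit 2232) (Tr.nd (nat_lit 2230) (Tr.lf (Fc.ed (nat_lit 2229) (nat_lit 794) Col.k (nat_lit 655) (Dv.wd (nat_lit 81) [Mv.b (nat_lit 1931), Mv.b (nat_lit 1922), Mv.f (nat_lit 2228)])))
(Tr.nd (nat_lit 2231) (Tr.lf (Fc.ed (nat_lit 2230) (nat_lit 794) Col.f (nat_lit 786) (Dv.wd (nat_lit 37) [Mv.b (nat_lit 2211), Mv.b (nat_lit 1923), Mv.f (nat_lit 2228)])))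
(Tr.lf (Fc.ed (nat_lit 2231) (nat_lit 652) Col.g (nat_lit 795) Dv.df))))
(Tr.nd (nat_lit 2234) (Tr.nd (nat_lit 2233) (Tr.lf (Fc.ed (nat_lit 2232) (nat_lit 795) Col.b (nat_lit 654) (Dv.wd (nat_lit 146) [Mv.b (nat_lit 1927), Mv.f (nat_lit 1921), Mv.f (nat_lit 2231)])))
(Tr.lf (Fc.ed (nat_lit 2233) (nat_lit 795) Col.c (nat_lit 795) (Dv.wd (nat_lit 96) [Mv.b (nat_lit 2231), Mv.f (nat_lit 1924), Mv.f (nat_lit 2231)]))))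
(Tr.nd (nat_lit 2235) (Tr.lf (Fc.ed (nat_lit 2234) (nat_lit 653) Col.e (nat_lit 796) Dv.df))
(Tr.lf (Fc.ed (nat_lit 2235) (nat_lit 655) Col.c (nat_lit 797) Dv.df)))))
(Tr.nd (nat_lit 2239) (Tr.nd (nat_lit 2237) (Tr.lf (Fc.ed (nat_lit 2236) (nat_lit 797) Col.a (nat_lit 797) (Dv.wd (nat_lit 181) [Mv.b (nat_lit 2235), Mv.f (nat_lit 1932), Mv.f (nat_lit 2235)])))
(Tr.nd (nat_lit 2238) (Tr.lf (Fc.ed (nat_lit 2237) (nat_lit 797) Col.f (nat_lit 788) (Dv.wd (nat_lit 36) [Mv.b (nat_lit 2216), Mv.b (nat_lit 1934), Mv.f (nat_lit 2235)])))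
(Tr.lf (Fc.ed (nat_lit 2238) (nat_lit 797) Col.b (nat_lit 797) (Dv.wd (nat_lit 178) [Mv.b (nat_lit 2235), Mv.f (nat_lit 1933), Mv.f (nat_lit 1644), Mv.b (nat_lit 1933), Mv.f (nat_lit 2235)])))))
(Tr.nd (nat_lit 2241) (Tr.nd (nat_lit 2240) (Tr.lf (Fc.ed (nat_lit 2239) (nat_lit 656) Col.g (nat_lit 798) Dv.df))
(Tr.lf (Fc.ed (nat_lit 2240) (nat_lit 657) Col.b (nat_lit 799) Dv.df)))
(Tr.nd (nat_lit 2242) (Tr.lf (Fc.ed (nat_lit 2241) (nat_lit 799) Col.l (nat_lit 658) (Dv.wd (nat_lit 73) [Mv.b (nat_lit 1940), Mv.b (nat_lit 1937), Mv.f (nat_lit 2240)])))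
(Tr.lf (Fc.ed (nat_lit 2242) (nat_lit 799) Col.e (nat_lit 791) (Dv.wd (nat_lit 40) [Mv.b (nat_lit 2222), Mv.b (nat_lit 1938), Mv.f (nat_lit 2240)])))))))
(Tr.nd (nat_lit 2250) (Tr.nd (nat_lit 2246) (Tr.nd (nat_lit 2244) (Tr.lf (Fc.ed (nat_lit 2243) (nat_lit 799) Col.h (nat_lit 799) (Dv.wd (nat_lit 29) [Mv.b (nat_lit 2240), Mv.f (nat_lit 1939), Mv.f (nat_lit 2240)])))
(Tr.nd (nat_lit 2245) (Tr.lf (Fc.ed (nat_lit 2244) (nat_lit 658) Col.a (nat_lit 800) Dv.df))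
(Tr.lf (Fc.ed (nat_lit 2245) (nat_lit 800) Col.c (nat_lit 800) (Dv.wd (nat_lit 52) [Mv.b (nat_lit 2244), Mv.f (nat_lit 1943), Mv.f (nat_lit 2244)])))))
(Tr.nd (nat_lit 2248) (Tr.nd (nat_lit 2247) (Tr.lf (Fc.ed (nat_lit 2246) (nat_lit 800) Col.e (nat_lit 793) (Dv.wd (nat_lit 38) [Mv.b (nat_lit 2226), Mv.b (nat_lit 1941), Mv.f (nat_lit 2244)])))
(Tr.lf (Fc.ed (nat_lit 2247) (nat_lit 800) Col.h (nat_lit 800) (Dv.wd (nat_lit 28) [Mv.b (nat_lit 2244), Mv.f (nat_lit 1942), Mv.f (nat_lit 2244)]))))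
(Tr.nd (nat_lit 2249) (Tr.lf (Fc.ed (nat_lit 2248) (nat_lit 800) Col.b (nat_lit 800) (Dv.wd (nat_lit 155) [Mv.b (nat_lit 2244), Mv.b (nat_lit 1940), Mv.f (nat_lit 1651), Mv.f (nat_lit 1940), Mv.f (nat_lit 2244)])))
(Tr.lf (Fc.ed (nat_lit 2249) (nat_lit 658) Col.d (nat_lit 801) Dv.df)))))
(Tr.nd (nat_lit 2254) (Tr.nd (nat_lit 2252) (Tr.nd (nat_lit 2251) (Tr.lf (Fc.ed (nat_lit 2250) (nat_lit 658) Col.g (nat_lit 802) Dv.df))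
(Tr.lf (Fc.ed (nat_lit 2251) (nat_lit 802) Col.b (nat_lit 660) (Dv.wd (nat_lit 146) [Mv.b (nat_lit 1945), Mv.f (nat_lit 1940), Mv.f (nat_lit 2250)]))))
(Tr.nd (nat_lit 2253) (Tr.lf (Fc.ed (nat_lit 2252) (nat_lit 659) Col.e (nat_lit 803) Dv.df))
(Tr.lf (Fc.ed (nat_lit 2253) (nat_lit 803) Col.d (nat_lit 796) (Dv.wd (nat_lit 88) [Mv.b (nat_lit 2234), Mv.b (nat_lit 1925), Mv.b (nat_lit 1652), Mv.f (nat_lit 1944), Mv.f (nat_lit 2252)])))))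
(Tr.nd (nat_lit 2256) (Tr.nd (nat_lit 2255) (Tr.lf (Fc.ed (nat_lit 2254) (nat_lit 659) Col.g (nat_lit 804) Dv.df))
(Tr.lf (Fc.ed (nat_lit 2255) (nat_lit 804) Col.d (nat_lit 660) (Dv.wd (nat_lit 97) [Mv.b (nat_lit 1945), Mv.f (nat_lit 1944), Mv.f (nat_lit 2254)]))))
(Tr.nd (nat_lit 2257) (Tr.lf (Fc.ed (nat_lit 2256) (nat_lit 659) Col.i (nat_lit 805) Dv.df))
(Tr.lf (Fc.ed (nat_lit 2257) (nat_lit 660) Col.i (nat_lit 806) Dv.df)))))))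
(Tr.nd (nat_lit 2273) (Tr.nd (nat_lit 2265) (Tr.nd (nat_lit 2261) (Tr.nd (nat_lit 2259) (Tr.lf (Fc.ed (nat_lit 2258) (nat_lit 806) Col.g (nat_lit 661) (Dv.wd (nat_lit 176) [Mv.b (nat_lit 1948), Mv.f (nat_lit 1945), Mv.f (nat_lit 2257)])))
(Tr.nd (nat_lit 2260) (Tr.lf (Fc.ed (nat_lit 2259) (nat_lit 663) Col.g (nat_lit 807) Dv.df))
(Tr.lf (Fc.ed (nat_lit 2260) (nat_lit 807) Col.d (nat_lit 798) (Dv.wd (nat_lit 97) [Mv.b (nat_lit 2239), Mv.b (nat_lit 1954), Mv.f (nat_lit 2259)])))))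
(Tr.nd (nat_lit 2263) (Tr.nd (nat_lit 2262) (Tr.lf (Fc.ed (nat_lit 2261) (nat_lit 807) Col.e (nat_lit 664) (Dv.wd (nat_lit 98) [Mv.b (nat_lit 1955), Mv.f (nat_lit 1953), Mv.f (nat_lit 2259)])))
(Tr.lf (Fc.ed (nat_lit 2262) (nat_lit 663) Col.i (nat_lit 808) Dv.df)))
(Tr.nd (nat_lit 2264) (Tr.lf (Fc.ed (nat_lit 2263) (nat_lit 808) Col.d (nat_lit 776) (Dv.wd (nat_lit 142) [Mv.f (nat_lit 2191), Mv.b (nat_lit 1954), Mv.f (nat_lit 2262)])))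
(Tr.lf (Fc.ed (nat_lit 2264) (nat_lit 808) Col.e (nat_lit 665) (Dv.wd (nat_lit 143) [Mv.b (nat_lit 1957), Mv.f (nat_lit 1953), Mv.f (nat_lit 2262)]))))))
(Tr.nd (nat_lit 2269) (Tr.nd (nat_lit 2267) (Tr.nd (nat_lit 2266) (Tr.lf (Fc.ed (nat_lit 2265) (nat_lit 664) Col.i (nat_lit 809) Dv.df))
(Tr.lf (Fc.ed (nat_lit 2266) (nat_lit 809) Col.d (nat_lit 667) (Dv.wd (nat_lit 142) [Mv.b (nat_lit 1960), Mv.b (nat_lit 1956), Mv.f (nat_lit 2265)]))))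
(Tr.nd (nat_lit 2268) (Tr.lf (Fc.ed (nat_lit 2267) (nat_lit 665) Col.h (nat_lit 810) Dv.df))
(Tr.lf (Fc.ed (nat_lit 2268) (nat_lit 666) Col.i (nat_lit 811) Dv.df))))
(Tr.nd (nat_lit 2271) (Tr.nd (nat_lit 2270) (Tr.lf (Fc.ed (nat_lit 2269) (nat_lit 811) Col.f (nat_lit 667) (Dv.wd (nat_lit 112) [Mv.b (nat_lit 1960), Mv.f (nat_lit 1959), Mv.f (nat_lit 2268)])))
(Tr.lf (Fc.ed (nat_lit 2270) (nat_lit 669) Col.e (nat_lit 812) Dv.df)))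
(Tr.nd (nat_lit 2272) (Tr.lf (Fc.ed (nat_lit 2271) (nat_lit 812) Col.c (nat_lit 803) (Dv.wd (nat_lit 86) [Mv.b (nat_lit 2252), Mv.b (nat_lit 1967), Mv.f (nat_lit 2270)])))
(Tr.lf (Fc.ed (nat_lit 2272) (nat_lit 669) Col.i (nat_lit 813) Dv.df))))))
(Tr.nd (nat_lit 2280) (Tr.nd (nat_lit 2276) (Tr.nd (nat_lit 2274) (Tr.lf (Fc.ed (nat_lit 2273) (nat_lit 813) Col.d (nat_lit 671) (Dv.wd (nat_lit 142) [Mv.b (nat_lit 1970), Mv.f (nat_lit 1966), Mv.f (nat_lit 2272)])))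
(Tr.nd (nat_lit 2275) (Tr.lf (Fc.ed (nat_lit 2274) (nat_lit 670) Col.i (nat_lit 814) Dv.df))
(Tr.lf (Fc.ed (nat_lit 2275) (nat_lit 814) Col.g (nat_lit 671) (Dv.wd (nat_lit 176) [Mv.b (nat_lit 1970), Mv.f (nat_lit 1968), Mv.f (nat_lit 2274)])))))
(Tr.nd (nat_lit 2278) (Tr.nd (nat_lit 2277) (Tr.lf (Fc.ed (nat_lit 2276) (nat_lit 673) Col.i (nat_lit 815) Dv.df))
(Tr.lf (Fc.ed (nat_lit 2277) (nat_lit 815) Col.b (nat_lit 675) (Dv.wd (nat_lit 144) [Mv.b (nat_lit 1977), Mv.b (nat_lit 1974), Mv.f (nat_lit 2276)]))))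
(Tr.nd (nat_lit 2279) (Tr.lf (Fc.ed (nat_lit 2278) (nat_lit 815) Col.e (nat_lit 674) (Dv.wd (nat_lit 143) [Mv.b (nat_lit 1975), Mv.f (nat_lit 1973), Mv.f (nat_lit 2276)])))
(Tr.lf (Fc.ed (nat_lit 2279) (nat_lit 677) Col.i (nat_lit 816) Dv.df)))))
(Tr.nd (nat_lit 2284) (Tr.nd (nat_lit 2282) (Tr.nd (nat_lit 2281) (Tr.lf (Fc.ed (nat_lit 2280) (nat_lit 816) Col.f (nat_lit 814) (Dv.wd (nat_lit 112) [Mv.b (nat_lit 2274), Mv.b (nat_lit 1983), Mv.f (nat_lit 2279)])))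
(Tr.lf (Fc.ed (nat_lit 2281) (nat_lit 679) Col.i (nat_lit 817) Dv.df)))
(Tr.nd (nat_lit 2283) (Tr.lf (Fc.ed (nat_lit 2282) (nat_lit 817) Col.e (nat_lit 816) (Dv.wd (nat_lit 143) [Mv.b (nat_lit 2279), Mv.b (nat_lit 1988), Mv.f (nat_lit 2281)])))
(Tr.lf (Fc.ed (nat_lit 2283) (nat_lit 681) Col.h (nat_lit 818) Dv.df))))
(Tr.nd (nat_lit 2286) (Tr.nd (nat_lit 2285) (Tr.lf (Fc.ed (nat_lit 2284) (nat_lit 818) Col.c (nat_lit 682) (Dv.wd (nat_lit 102) [Mv.b (nat_lit 1992), Mv.f (nat_lit 1991), Mv.f (nat_lit 2283)])))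
(Tr.lf (Fc.ed (nat_lit 2285) (nat_lit 683) Col.h (nat_lit 819) Dv.df)))
(Tr.nd (nat_lit 2287) (Tr.lf (Fc.ed (nat_lit 2286) (nat_lit 819) Col.a (nat_lit 692) (Dv.wd (nat_lit 124) [Mv.f (nat_lit 2018), Mv.f (nat_lit 2005), Mv.f (nat_lit 2285)])))
(Tr.lf (Fc.ed (nat_lit 2287) (nat_lit 819) Col.f (nat_lit 818) (Dv.wd (nat_lit 104) [Mv.b (nat_lit 2283), Mv.b (nat_lit 1995), Mv.f (nat_lit 2285)])))))))))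
(Tr.nd (nat_lit 2317) (Tr.nd (nat_lit 2302) (Tr.nd (nat_lit 2295) (Tr.nd (nat_lit 2291) (Tr.nd (nat_lit 2289) (Tr.lf (Fc.ed (nat_lit 2288) (nat_lit 819) Col.g (nat_lit 689) (Dv.wd (nat_lit 126) [Mv.f (nat_lit 2009), Mv.f (nat_lit 2001), Mv.f (nat_lit 2285)])))
(Tr.nd (nat_lit 2290) (Tr.lf (Fc.ed (nat_lit 2289) (nat_lit 686) Col.e (nat_lit 820) Dv.df))
(Tr.lf (Fc.ed (nat_lit 2290) (nat_lit 820) Col.h (nat_lit 701) (Dv.wd (nat_lit 107) [Mv.b (nat_lit 2032), Mv.b (nat_lit 2003), Mv.f (nat_lit 2289)])))))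
(Tr.nd (nat_lit 2293) (Tr.nd (nat_lit 2292) (Tr.lf (Fc.ed (nat_lit 2291) (nat_lit 688) Col.e (nat_lit 821) Dv.df))
(Tr.lf (Fc.ed (nat_lit 2292) (nat_lit 821) Col.i (nat_lit 689) (Dv.wd (nat_lit 136) [Mv.b (nat_lit 2008), Mv.b (nat_lit 2007), Mv.f (nat_lit 2291)]))))
(Tr.nd (nat_lit 2294) (Tr.lf (Fc.ed (nat_lit 2293) (nat_lit 689) Col.d (nat_lit 822) Dv.df))
(Tr.lf (Fc.ed (nat_lit 2294) (nat_lit 690) Col.b (nat_lit 823) Dv.df)))))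
(Tr.nd (nat_lit 2298) (Tr.nd (nat_lit 2296) (Tr.lf (Fc.ed (nat_lit 2295) (nat_lit 823) Col.f (nat_lit 823) (Dv.wd (nat_lit 35) [Mv.b (nat_lit 2294), Mv.f (nat_lit 2011), Mv.f (nat_lit 2294)])))
(Tr.nd (nat_lit 2297) (Tr.lf (Fc.ed (nat_lit 2296) (nat_lit 823) Col.h (nat_lit 823) (Dv.wd (nat_lit 29) [Mv.b (nat_lit 2294), Mv.f (nat_lit 2013), Mv.f (nat_lit 2294)])))
(Tr.lf (Fc.ed (nat_lit 2297) (nat_lit 823) Col.i (nat_lit 691) (Dv.wd (nat_lit 149) [Mv.b (nat_lit 2015), Mv.b (nat_lit 2014), Mv.f (nat_lit 2294)])))))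
(Tr.nd (nat_lit 2300) (Tr.nd (nat_lit 2299) (Tr.lf (Fc.ed (nat_lit 2298) (nat_lit 690) Col.e (nat_lit 824) Dv.df))
(Tr.lf (Fc.ed (nat_lit 2299) (nat_lit 824) Col.g (nat_lit 693) (Dv.wd (nat_lit 87) [Mv.b (nat_lit 2019), Mv.b (nat_lit 2012), Mv.f (nat_lit 2298)]))))
(Tr.nd (nat_lit 2301) (Tr.lf (Fc.ed (nat_lit 2300) (nat_lit 824) Col.i (nat_lit 692) (Dv.wd (nat_lit 136) [Mv.b (nat_lit 2017), Mv.b (nat_lit 2014), Mv.f (nat_lit 2298)])))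
(Tr.lf (Fc.ed (nat_lit 2301) (nat_lit 691) Col.a (nat_lit 825) Dv.df))))))
(Tr.nd (nat_lit 2309) (Tr.nd (nat_lit 2305) (Tr.nd (nat_lit 2303) (Tr.lf (Fc.ed (nat_lit 2302) (nat_lit 825) Col.g (nat_lit 694) (Dv.wd (nat_lit 31) [Mv.b (nat_lit 2020), Mv.b (nat_lit 2016), Mv.f (nat_lit 2301)])))
(Tr.nd (nat_lit 2304) (Tr.lf (Fc.ed (nat_lit 2303) (nat_lit 691) Col.e (nat_lit 826) Dv.df))
(Tr.lf (Fc.ed (nat_lit 2304) (nat_lit 826) Col.g (nat_lit 695) (Dv.wd (nat_lit 87) [Mv.b (nat_lit 2021), Mv.b (nat_lit 2016), Mv.f (nat_lit 2303)])))))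
(Tr.nd (nat_lit 2307) (Tr.nd (nat_lit 2306) (Tr.lf (Fc.ed (nat_lit 2305) (nat_lit 692) Col.d (nat_lit 827) Dv.df))
(Tr.lf (Fc.ed (nat_lit 2306) (nat_lit 693) Col.d (nat_lit 828) Dv.df)))
(Tr.nd (nat_lit 2308) (Tr.lf (Fc.ed (nat_lit 2307) (nat_lit 693) Col.f (nat_lit 829) Dv.df))
(Tr.lf (Fc.ed (nat_lit 2308) (nat_lit 694) Col.e (nat_lit 830) Dv.df)))))
(Tr.nd (nat_lit 2313) (Tr.nd (nat_lit 2311) (Tr.nd (nat_lit 2310) (Tr.lf (Fc.ed (nat_lit 2309) (nat_lit 695) Col.f (nat_lit 831) Dv.df))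
(Tr.lf (Fc.ed (nat_lit 2310) (nat_lit 696) Col.e (nat_lit 832) Dv.df)))
(Tr.nd (nat_lit 2312) (Tr.lf (Fc.ed (nat_lit 2311) (nat_lit 832) Col.c (nat_lit 697) (Dv.wd (nat_lit 86) [Mv.b (nat_lit 2024), Mv.f (nat_lit 2022), Mv.f (nat_lit 2310)])))
(Tr.lf (Fc.ed (nat_lit 2312) (nat_lit 698) Col.a (nat_lit 833) Dv.df))))
(Tr.nd (nat_lit 2315) (Tr.nd (nat_lit 2314) (Tr.lf (Fc.ed (nat_lit 2313) (nat_lit 833) Col.i (nat_lit 700) (Dv.wd (nat_lit 147) [Mv.b (nat_lit 2030), Mv.b (nat_lit 2027), Mv.f (nat_lit 2312)])))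
(Tr.lf (Fc.ed (nat_lit 2314) (nat_lit 698) Col.e (nat_lit 834) Dv.df)))
(Tr.nd (nat_lit 2316) (Tr.lf (Fc.ed (nat_lit 2315) (nat_lit 834) Col.b (nat_lit 699) (Dv.wd (nat_lit 153) [Mv.b (nat_lit 2028), Mv.f (nat_lit 2026), Mv.f (nat_lit 2314)])))
(Tr.lf (Fc.ed (nat_lit 2316) (nat_lit 834) Col.i (nat_lit 701) (Dv.wd (nat_lit 136) [Mv.b (nat_lit 2032), Mv.b (nat_lit 2027), Mv.f (nat_lit 2314)]))))))))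
(Tr.nd (nat_lit 2332) (Tr.nd (nat_lit 2324) (Tr.nd (nat_lit 2320) (Tr.nd (nat_lit 2318) (Tr.lf (Fc.ed (nat_lit 2317) (nat_lit 699) Col.d (nat_lit 835) Dv.df))
(Tr.nd (nat_lit 2319) (Tr.lf (Fc.ed (nat_lit 2318) (nat_lit 835) Col.c (nat_lit 712) (Dv.wd (nat_lit 83) [Mv.b (nat_lit 2054), Mv.f (nat_lit 1780), Mv.b (nat_lit 1759), Mv.b (nat_lit 2029), Mv.f (nat_lit 2317)])))
(Tr.lf (Fc.ed (nat_lit 2319) (nat_lit 699) Col.f (nat_lit 836) Dv.df))))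
(Tr.nd (nat_lit 2322) (Tr.nd (nat_lit 2321) (Tr.lf (Fc.ed (nat_lit 2320) (nat_lit 836) Col.e (nat_lit 829) (Dv.wd (nat_lit 93) [Mv.b (nat_lit 2307), Mv.b (nat_lit 2019), Mv.b (nat_lit 1756), Mv.f (nat_lit 2028), Mv.f (nat_lit 2319)])))
(Tr.lf (Fc.ed (nat_lit 2321) (nat_lit 700) Col.e (nat_lit 837) Dv.df)))
(Tr.nd (nat_lit 2323) (Tr.lf (Fc.ed (nat_lit 2322) (nat_lit 701) Col.d (nat_lit 838) Dv.df))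
(Tr.lf (Fc.ed (nat_lit 2323) (nat_lit 701) Col.f (nat_lit 839) Dv.df)))))
(Tr.nd (nat_lit 2328) (Tr.nd (nat_lit 2326) (Tr.nd (nat_lit 2325) (Tr.lf (Fc.ed (nat_lit 2324) (nat_lit 839) Col.e (nat_lit 831) (Dv.wd (nat_lit 93) [Mv.b (nat_lit 2309), Mv.b (nat_lit 2021), Mv.b (nat_lit 1761), Mv.f (nat_lit 2032), Mv.f (nat_lit 2323)])))
(Tr.lf (Fc.ed (nat_lit 2325) (nat_lit 702) Col.g (nat_lit 840) Dv.df)))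
(Tr.nd (nat_lit 2327) (Tr.lf (Fc.ed (nat_lit 2326) (nat_lit 840) Col.a (nat_lit 706) (Dv.wd (nat_lit 174) [Mv.b (nat_lit 2040), Mv.b (nat_lit 2034), Mv.f (nat_lit 2325)])))
(Tr.lf (Fc.ed (nat_lit 2327) (nat_lit 703) Col.e (nat_lit 841) Dv.df))))
(Tr.nd (nat_lit 2330) (Tr.nd (nat_lit 2329) (Tr.lf (Fc.ed (nat_lit 2328) (nat_lit 841) Col.a (nat_lit 704) (Dv.wd (nat_lit 152) [Mv.b (nat_lit 2036), Mv.f (nat_lit 2035), Mv.f (nat_lit 2327)])))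
(Tr.lf (Fc.ed (nat_lit 2329) (nat_lit 704) Col.d (nat_lit 842) Dv.df)))
(Tr.nd (nat_lit 2331) (Tr.lf (Fc.ed (nat_lit 2330) (nat_lit 842) Col.b (nat_lit 705) (Dv.wd (nat_lit 183) [Mv.b (nat_lit 2039), Mv.b (nat_lit 2037), Mv.f (nat_lit 2329)])))
(Tr.lf (Fc.ed (nat_lit 2331) (nat_lit 704) Col.f (nat_lit 843) Dv.df))))))
(Tr.nd (nat_lit 2339) (Tr.nd (nat_lit 2335) (Tr.nd (nat_lit 2333) (Tr.lf (Fc.ed (nat_lit 2332) (nat_lit 843) Col.h (nat_lit 843) (Dv.wd (nat_lit 115) [Mv.b (nat_lit 2331), Mv.f (nat_lit 2038), Mv.f (nat_lit 2331)])))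
(Tr.nd (nat_lit 2334) (Tr.lf (Fc.ed (nat_lit 2333) (nat_lit 705) Col.f (nat_lit 844) Dv.df))
(Tr.lf (Fc.ed (nat_lit 2334) (nat_lit 707) Col.a (nat_lit 845) Dv.df))))
(Tr.nd (nat_lit 2337) (Tr.nd (nat_lit 2336) (Tr.lf (Fc.ed (nat_lit 2335) (nat_lit 845) Col.h (nat_lit 715) (Dv.wd (nat_lit 28) [Mv.f (nat_lit 2061), Mv.b (nat_lit 2042), Mv.f (nat_lit 2334)])))
(Tr.lf (Fc.ed (nat_lit 2336) (nat_lit 845) Col.b (nat_lit 710) (Dv.wd (nat_lit 155) [Mv.b (nat_lit 2048), Mv.b (nat_lit 1776), Mv.b (nat_lit 1772), Mv.f (nat_lit 2041), Mv.f (nat_lit 2334)]))))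
(Tr.nd (nat_lit 2338) (Tr.lf (Fc.ed (nat_lit 2337) (nat_lit 708) Col.d (nat_lit 846) Dv.df))
(Tr.lf (Fc.ed (nat_lit 2338) (nat_lit 708) Col.f (nat_lit 847) Dv.df)))))
(Tr.nd (nat_lit 2343) (Tr.nd (nat_lit 2341) (Tr.nd (nat_lit 2340) (Tr.lf (Fc.ed (nat_lit 2339) (nat_lit 847) Col.h (nat_lit 716) (Dv.wd (nat_lit 115) [Mv.b (nat_lit 2062), Mv.b (nat_lit 2045), Mv.f (nat_lit 2338)])))
(Tr.lf (Fc.ed (nat_lit 2340) (nat_lit 709) Col.g (nat_lit 848) Dv.df)))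
(Tr.nd (nat_lit 2342) (Tr.lf (Fc.ed (nat_lit 2341) (nat_lit 848) Col.i (nat_lit 840) (Dv.wd (nat_lit 148) [Mv.b (nat_lit 2325), Mv.b (nat_lit 2047), Mv.f (nat_lit 2340)])))
(Tr.lf (Fc.ed (nat_lit 2342) (nat_lit 710) Col.e (nat_lit 849) Dv.df))))
(Tr.nd (nat_lit 2345) (Tr.nd (nat_lit 2344) (Tr.lf (Fc.ed (nat_lit 2343) (nat_lit 849) Col.a (nat_lit 711) (Dv.wd (nat_lit 152) [Mv.b (nat_lit 2051), Mv.f (nat_lit 2048), Mv.f (nat_lit 2342)])))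
(Tr.lf (Fc.ed (nat_lit 2344) (nat_lit 849) Col.h (nat_lit 717) (Dv.wd (nat_lit 107) [Mv.b (nat_lit 2064), Mv.b (nat_lit 2049), Mv.f (nat_lit 2342)]))))
(Tr.nd (nat_lit 2346) (Tr.lf (Fc.ed (nat_lit 2345) (nat_lit 849) Col.i (nat_lit 841) (Dv.wd (nat_lit 136) [Mv.b (nat_lit 2327), Mv.b (nat_lit 2050), Mv.f (nat_lit 2342)])))
(Tr.lf (Fc.ed (nat_lit 2346) (nat_lit 711) Col.d (nat_lit 850) Dv.df)))))))))))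
(Tr.nd (nat_lit 2582) (Tr.nd (nat_lit 2464) (Tr.nd (nat_lit 2405) (Tr.nd (nat_lit 2376) (Tr.nd (nat_lit 2361) (Tr.nd (nat_lit 2354) (Tr.nd (nat_lit 2350) (Tr.nd (nat_lit 2348) (Tr.lf (Fc.ed (nat_lit 2347) (nat_lit 850) Col.b (nat_lit 712) (Dv.wd (nat_lit 183) [Mv.b (nat_lit 2054), Mv.b (nat_lit 2052), Mv.f (nat_lit 2346)])))
(Tr.nd (nat_lit 2349) (Tr.lf (Fc.ed (nat_lit 2348) (nat_lit 850) Col.h (nat_lit 744) (Dv.wd (nat_lit 105) [Mv.b (nat_lit 2125), Mv.b (nat_lit 1835), Mv.b (nat_lit 1794), Mv.b (nat_lit 2053), Mv.f (nat_lit 2346)])))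
(Tr.lf (Fc.ed (nat_lit 2349) (nat_lit 712) Col.f (nat_lit 851) Dv.df))))
(Tr.nd (nat_lit 2352) (Tr.nd (nat_lit 2351) (Tr.lf (Fc.ed (nat_lit 2350) (nat_lit 851) Col.d (nat_lit 713) (Dv.wd (nat_lit 92) [Mv.b (nat_lit 2056), Mv.f (nat_lit 2054), Mv.f (nat_lit 2349)])))
(Tr.lf (Fc.ed (nat_lit 2351) (nat_lit 851) Col.i (nat_lit 844) (Dv.wd (nat_lit 150) [Mv.b (nat_lit 2333), Mv.b (nat_lit 2055), Mv.f (nat_lit 2349)]))))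
(Tr.nd (nat_lit 2353) (Tr.lf (Fc.ed (nat_lit 2352) (nat_lit 713) Col.g (nat_lit 852) Dv.df))
(Tr.lf (Fc.ed (nat_lit 2353) (nat_lit 852) Col.h (nat_lit 718) (Dv.wd (nat_lit 140) [Mv.b (nat_lit 2066), Mv.b (nat_lit 2057), Mv.f (nat_lit 2352)]))))))
(Tr.nd (nat_lit 2357) (Tr.nd (nat_lit 2355) (Tr.lf (Fc.ed (nat_lit 2354) (nat_lit 714) Col.g (nat_lit 853) Dv.df))
(Tr.nd (nat_lit 2356) (Tr.lf (Fc.ed (nat_lit 2355) (nat_lit 853) Col.h (nat_lit 848) (Dv.wd (nat_lit 140) [Mv.b (nat_lit 2340), Mv.b (nat_lit 2059), Mv.f (nat_lit 2354)])))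
(Tr.lf (Fc.ed (nat_lit 2356) (nat_lit 715) Col.e (nat_lit 854) Dv.df))))
(Tr.nd (nat_lit 2359) (Tr.nd (nat_lit 2358) (Tr.lf (Fc.ed (nat_lit 2357) (nat_lit 854) Col.d (nat_lit 736) (Dv.wd (nat_lit 88) [Mv.b (nat_lit 2109), Mv.b (nat_lit 1823), Mv.b (nat_lit 1786), Mv.f (nat_lit 2060), Mv.f (nat_lit 2356)])))
(Tr.lf (Fc.ed (nat_lit 2358) (nat_lit 716) Col.g (nat_lit 855) Dv.df)))
(Tr.nd (nat_lit 2360) (Tr.lf (Fc.ed (nat_lit 2359) (nat_lit 855) Col.c (nat_lit 853) (Dv.wd (nat_lit 96) [Mv.b (nat_lit 2354), Mv.b (nat_lit 2063), Mv.f (nat_lit 2358)])))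
(Tr.lf (Fc.ed (nat_lit 2360) (nat_lit 719) Col.e (nat_lit 856) Dv.df))))))
(Tr.nd (nat_lit 2368) (Tr.nd (nat_lit 2364) (Tr.nd (nat_lit 2362) (Tr.lf (Fc.ed (nat_lit 2361) (nat_lit 856) Col.c (nat_lit 720) (Dv.wd (nat_lit 86) [Mv.b (nat_lit 2071), Mv.f (nat_lit 2067), Mv.f (nat_lit 2360)])))
(Tr.nd (nat_lit 2363) (Tr.lf (Fc.ed (nat_lit 2362) (nat_lit 719) Col.f (nat_lit 857) Dv.df))
(Tr.lf (Fc.ed (nat_lit 2363) (nat_lit 857) Col.l (nat_lit 857) (Dv.wd (nat_lit 89) [Mv.b (nat_lit 2362), Mv.f (nat_lit 2068), Mv.f (nat_lit 2362)])))))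
(Tr.nd (nat_lit 2366) (Tr.nd (nat_lit 2365) (Tr.lf (Fc.ed (nat_lit 2364) (nat_lit 857) Col.b (nat_lit 857) (Dv.wd (nat_lit 114) [Mv.b (nat_lit 2362), Mv.f (nat_lit 2070), Mv.f (nat_lit 2362)])))
(Tr.lf (Fc.ed (nat_lit 2365) (nat_lit 857) Col.c (nat_lit 721) (Dv.wd (nat_lit 91) [Mv.b (nat_lit 2073), Mv.f (nat_lit 2067), Mv.f (nat_lit 2362)]))))
(Tr.nd (nat_lit 2367) (Tr.lf (Fc.ed (nat_lit 2366) (nat_lit 720) Col.f (nat_lit 858) Dv.df))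
(Tr.lf (Fc.ed (nat_lit 2367) (nat_lit 858) Col.b (nat_lit 722) (Dv.wd (nat_lit 114) [Mv.b (nat_lit 2076), Mv.b (nat_lit 2072), Mv.f (nat_lit 2366)]))))))
(Tr.nd (nat_lit 2372) (Tr.nd (nat_lit 2370) (Tr.nd (nat_lit 2369) (Tr.lf (Fc.ed (nat_lit 2368) (nat_lit 721) Col.e (nat_lit 859) Dv.df))
(Tr.lf (Fc.ed (nat_lit 2369) (nat_lit 859) Col.b (nat_lit 724) (Dv.wd (nat_lit 153) [Mv.b (nat_lit 2082), Mv.b (nat_lit 2074), Mv.f (nat_lit 2368)]))))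
(Tr.nd (nat_lit 2371) (Tr.lf (Fc.ed (nat_lit 2370) (nat_lit 859) Col.d (nat_lit 859) (Dv.wd (nat_lit 88) [Mv.b (nat_lit 2368), Mv.f (nat_lit 2075), Mv.f (nat_lit 1801), Mv.b (nat_lit 2075), Mv.f (nat_lit 2368)])))
(Tr.lf (Fc.ed (nat_lit 2371) (nat_lit 721) Col.h (nat_lit 860) Dv.df))))
(Tr.nd (nat_lit 2374) (Tr.nd (nat_lit 2373) (Tr.lf (Fc.ed (nat_lit 2372) (nat_lit 860) Col.b (nat_lit 725) (Dv.wd (nat_lit 151) [Mv.b (nat_lit 2084), Mv.b (nat_lit 2074), Mv.f (nat_lit 2371)])))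
(Tr.lf (Fc.ed (nat_lit 2373) (nat_lit 722) Col.e (nat_lit 861) Dv.df)))
(Tr.nd (nat_lit 2375) (Tr.lf (Fc.ed (nat_lit 2374) (nat_lit 861) Col.a (nat_lit 726) (Dv.wd (nat_lit 152) [Mv.b (nat_lit 2087), Mv.b (nat_lit 2077), Mv.f (nat_lit 2373)])))
(Tr.lf (Fc.ed (nat_lit 2375) (nat_lit 861) Col.f (nat_lit 724) (Dv.wd (nat_lit 109) [Mv.b (nat_lit 2082), Mv.b (nat_lit 1807), Mv.f (nat_lit 1802), Mv.f (nat_lit 2076), Mv.f (nat_lit 2373)]))))))))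
(Tr.nd (nat_lit 2390) (Tr.nd (nat_lit 2383) (Tr.nd (nat_lit 2379) (Tr.nd (nat_lit 2377) (Tr.lf (Fc.ed (nat_lit 2376) (nat_lit 722) Col.g (nat_lit 862) Dv.df))
(Tr.nd (nat_lit 2378) (Tr.lf (Fc.ed (nat_lit 2377) (nat_lit 862) Col.c (nat_lit 862) (Dv.wd (nat_lit 96) [Mv.b (nat_lit 2376), Mv.f (nat_lit 2078), Mv.f (nat_lit 2376)])))
(Tr.lf (Fc.ed (nat_lit 2378) (nat_lit 862) Col.d (nat_lit 855) (Dv.wd (nat_lit 97) [Mv.b (nat_lit 2358), Mv.b (nat_lit 2079), Mv.f (nat_lit 2376)])))))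
(Tr.nd (nat_lit 2381) (Tr.nd (nat_lit 2380) (Tr.lf (Fc.ed (nat_lit 2379) (nat_lit 722) Col.h (nat_lit 863) Dv.df))
(Tr.lf (Fc.ed (nat_lit 2380) (nat_lit 863) Col.f (nat_lit 723) (Dv.wd (nat_lit 104) [Mv.b (nat_lit 2080), Mv.f (nat_lit 2076), Mv.f (nat_lit 2379)]))))
(Tr.nd (nat_lit 2382) (Tr.lf (Fc.ed (nat_lit 2381) (nat_lit 723) Col.i (nat_lit 864) Dv.df))
(Tr.lf (Fc.ed (nat_lit 2382) (nat_lit 864) Col.a (nat_lit 729) (Dv.wd (nat_lit 116) [Mv.b (nat_lit 2093), Mv.b (nat_lit 2081), Mv.f (nat_lit 2381)]))))))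
(Tr.nd (nat_lit 2386) (Tr.nd (nat_lit 2384) (Tr.lf (Fc.ed (nat_lit 2383) (nat_lit 864) Col.h (nat_lit 864) (Dv.wd (nat_lit 193) [Mv.b (nat_lit 2381), Mv.b (nat_lit 2080), Mv.f (nat_lit 1805), Mv.f (nat_lit 2080), Mv.f (nat_lit 2381)])))
(Tr.nd (nat_lit 2385) (Tr.lf (Fc.ed (nat_lit 2384) (nat_lit 724) Col.g (nat_lit 865) Dv.df))
(Tr.lf (Fc.ed (nat_lit 2385) (nat_lit 865) Col.a (nat_lit 730) (Dv.wd (nat_lit 174) [Mv.b (nat_lit 2095), Mv.b (nat_lit 2083), Mv.f (nat_lit 2384)])))))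
(Tr.nd (nat_lit 2388) (Tr.nd (nat_lit 2387) (Tr.lf (Fc.ed (nat_lit 2386) (nat_lit 724) Col.h (nat_lit 866) Dv.df))
(Tr.lf (Fc.ed (nat_lit 2387) (nat_lit 866) Col.e (nat_lit 725) (Dv.wd (nat_lit 103) [Mv.b (nat_lit 2084), Mv.f (nat_lit 2082), Mv.f (nat_lit 2386)]))))
(Tr.nd (nat_lit 2389) (Tr.lf (Fc.ed (nat_lit 2388) (nat_lit 725) Col.i (nat_lit 867) Dv.df))
(Tr.lf (Fc.ed (nat_lit 2389) (nat_lit 867) Col.a (nat_lit 734) (Dv.wd (nat_lit 116) [Mv.b (nat_lit 2104), Mv.b (nat_lit 2085), Mv.f (nat_lit 2388)])))))))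
(Tr.nd (nat_lit 2397) (Tr.nd (nat_lit 2393) (Tr.nd (nat_lit 2391) (Tr.lf (Fc.ed (nat_lit 2390) (nat_lit 726) Col.g (nat_lit 868) Dv.df))
(Tr.nd (nat_lit 2392) (Tr.lf (Fc.ed (nat_lit 2391) (nat_lit 868) Col.e (nat_lit 727) (Dv.wd (nat_lit 98) [Mv.b (nat_lit 2089), Mv.f (nat_lit 2087), Mv.f (nat_lit 2390)])))
(Tr.lf (Fc.ed (nat_lit 2392) (nat_lit 726) Col.h (nat_lit 869) Dv.df))))
(Tr.nd (nat_lit 2395) (Tr.nd (nat_lit 2394) (Tr.lf (Fc.ed (nat_lit 2393) (nat_lit 869) Col.f (nat_lit 732) (Dv.wd (nat_lit 104) [Mv.b (nat_lit 2101), Mv.b (nat_lit 2088), Mv.f (nat_lit 2392)])))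
(Tr.lf (Fc.ed (nat_lit 2394) (nat_lit 727) Col.h (nat_lit 870) Dv.df)))
(Tr.nd (nat_lit 2396) (Tr.lf (Fc.ed (nat_lit 2395) (nat_lit 728) Col.c (nat_lit 871) Dv.df))
(Tr.lf (Fc.ed (nat_lit 2396) (nat_lit 871) Col.h (nat_lit 835) (Dv.wd (nat_lit 30) [Mv.f (nat_lit 2318), Mv.b (nat_lit 2092), Mv.f (nat_lit 2395)]))))))
(Tr.nd (nat_lit 2401) (Tr.nd (nat_lit 2399) (Tr.nd (nat_lit 2398) (Tr.lf (Fc.ed (nat_lit 2397) (nat_lit 728) Col.i (nat_lit 872) Dv.df))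
(Tr.lf (Fc.ed (nat_lit 2398) (nat_lit 872) Col.d (nat_lit 729) (Dv.wd (nat_lit 142) [Mv.b (nat_lit 2093), Mv.f (nat_lit 2091), Mv.f (nat_lit 2397)]))))
(Tr.nd (nat_lit 2400) (Tr.lf (Fc.ed (nat_lit 2399) (nat_lit 730) Col.f (nat_lit 873) Dv.df))
(Tr.lf (Fc.ed (nat_lit 2400) (nat_lit 873) Col.l (nat_lit 873) (Dv.wd (nat_lit 89) [Mv.b (nat_lit 2399), Mv.f (nat_lit 2096), Mv.f (nat_lit 2399)])))))
(Tr.nd (nat_lit 2403) (Tr.nd (nat_lit 2402) (Tr.lf (Fc.ed (nat_lit 2401) (nat_lit 873) Col.c (nat_lit 873) (Dv.wd (nat_lit 91) [Mv.b (nat_lit 2399), Mv.f (nat_lit 2097), Mv.f (nat_lit 2399)])))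
(Tr.lf (Fc.ed (nat_lit 2402) (nat_lit 873) Col.d (nat_lit 873) (Dv.wd (nat_lit 92) [Mv.b (nat_lit 2399), Mv.f (nat_lit 2098), Mv.f (nat_lit 2399)]))))
(Tr.nd (nat_lit 2404) (Tr.lf (Fc.ed (nat_lit 2403) (nat_lit 730) Col.h (nat_lit 874) Dv.df))
(Tr.lf (Fc.ed (nat_lit 2404) (nat_lit 874) Col.e (nat_lit 733) (Dv.wd (nat_lit 103) [Mv.b (nat_lit 2102), Mv.b (nat_lit 2099), Mv.f (nat_lit 2403)])))))))))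
(Tr.nd (nat_lit 2434) (Tr.nd (nat_lit 2419) (Tr.nd (nat_lit 2412) (Tr.nd (nat_lit 2408) (Tr.nd (nat_lit 2406) (Tr.lf (Fc.ed (nat_lit 2405) (nat_lit 731) Col.h (nat_lit 875) Dv.df))
(Tr.nd (nat_lit 2407) (Tr.lf (Fc.ed (nat_lit 2406) (nat_lit 875) Col.j (nat_lit 732) (Dv.wd (nat_lit 195) [Mv.b (nat_lit 2101), Mv.f (nat_lit 2100), Mv.f (nat_lit 2405)])))
(Tr.lf (Fc.ed (nat_lit 2407) (nat_lit 732) Col.d (nat_lit 876) Dv.df))))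
(Tr.nd (nat_lit 2410) (Tr.nd (nat_lit 2409) (Tr.lf (Fc.ed (nat_lit 2408) (nat_lit 735) Col.e (nat_lit 877) Dv.df))
(Tr.lf (Fc.ed (nat_lit 2409) (nat_lit 877) Col.a (nat_lit 856) (Dv.wd (nat_lit 152) [Mv.b (nat_lit 2360), Mv.b (nat_lit 2108), Mv.f (nat_lit 2408)]))))
(Tr.nd (nat_lit 2411) (Tr.lf (Fc.ed (nat_lit 2410) (nat_lit 877) Col.c (nat_lit 736) (Dv.wd (nat_lit 86) [Mv.b (nat_lit 2109), Mv.f (nat_lit 2107), Mv.f (nat_lit 2408)])))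
(Tr.lf (Fc.ed (nat_lit 2411) (nat_lit 735) Col.f (nat_lit 878) Dv.df)))))
(Tr.nd (nat_lit 2415) (Tr.nd (nat_lit 2413) (Tr.lf (Fc.ed (nat_lit 2412) (nat_lit 878) Col.a (nat_lit 857) (Dv.wd (nat_lit 113) [Mv.b (nat_lit 2362), Mv.b (nat_lit 2108), Mv.f (nat_lit 2411)])))
(Tr.nd (nat_lit 2414) (Tr.lf (Fc.ed (nat_lit 2413) (nat_lit 878) Col.c (nat_lit 737) (Dv.wd (nat_lit 91) [Mv.b (nat_lit 2113), Mv.f (nat_lit 2107), Mv.f (nat_lit 2411)])))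
(Tr.lf (Fc.ed (nat_lit 2414) (nat_lit 735) Col.h (nat_lit 879) Dv.df))))
(Tr.nd (nat_lit 2417) (Tr.nd (nat_lit 2416) (Tr.lf (Fc.ed (nat_lit 2415) (nat_lit 736) Col.f (nat_lit 880) Dv.df))
(Tr.lf (Fc.ed (nat_lit 2416) (nat_lit 880) Col.a (nat_lit 858) (Dv.wd (nat_lit 113) [Mv.b (nat_lit 2366), Mv.b (nat_lit 2110), Mv.f (nat_lit 2415)]))))
(Tr.nd (nat_lit 2418) (Tr.lf (Fc.ed (nat_lit 2417) (nat_lit 880) Col.b (nat_lit 738) (Dv.wd (nat_lit 114) [Mv.b (nat_lit 2115), Mv.b (nat_lit 2111), Mv.f (nat_lit 2415)])))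
(Tr.lf (Fc.ed (nat_lit 2418) (nat_lit 736) Col.h (nat_lit 881) Dv.df))))))
(Tr.nd (nat_lit 2426) (Tr.nd (nat_lit 2422) (Tr.nd (nat_lit 2420) (Tr.lf (Fc.ed (nat_lit 2419) (nat_lit 737) Col.e (nat_lit 882) Dv.df))
(Tr.nd (nat_lit 2421) (Tr.lf (Fc.ed (nat_lit 2420) (nat_lit 882) Col.a (nat_lit 859) (Dv.wd (nat_lit 152) [Mv.b (nat_lit 2368), Mv.b (nat_lit 2114), Mv.f (nat_lit 2419)])))
(Tr.lf (Fc.ed (nat_lit 2421) (nat_lit 738) Col.e (nat_lit 883) Dv.df))))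
(Tr.nd (nat_lit 2424) (Tr.nd (nat_lit 2423) (Tr.lf (Fc.ed (nat_lit 2422) (nat_lit 883) Col.a (nat_lit 742) (Dv.wd (nat_lit 152) [Mv.b (nat_lit 2122), Mv.b (nat_lit 2116), Mv.f (nat_lit 2421)])))
(Tr.lf (Fc.ed (nat_lit 2423) (nat_lit 738) Col.g (nat_lit 884) Dv.df)))
(Tr.nd (nat_lit 2425) (Tr.lf (Fc.ed (nat_lit 2424) (nat_lit 738) Col.h (nat_lit 885) Dv.df))
(Tr.lf (Fc.ed (nat_lit 2425) (nat_lit 885) Col.f (nat_lit 739) (Dv.wd (nat_lit 104) [Mv.b (nat_lit 2117), Mv.f (nat_lit 2115), Mv.f (nat_lit 2424)]))))))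
(Tr.nd (nat_lit 2430) (Tr.nd (nat_lit 2428) (Tr.nd (nat_lit 2427) (Tr.lf (Fc.ed (nat_lit 2426) (nat_lit 739) Col.d (nat_lit 886) Dv.df))
(Tr.lf (Fc.ed (nat_lit 2427) (nat_lit 740) Col.g (nat_lit 887) Dv.df)))
(Tr.nd (nat_lit 2429) (Tr.lf (Fc.ed (nat_lit 2428) (nat_lit 887) Col.a (nat_lit 746) (Dv.wd (nat_lit 174) [Mv.b (nat_lit 2128), Mv.b (nat_lit 2119), Mv.f (nat_lit 2427)])))
(Tr.lf (Fc.ed (nat_lit 2429) (nat_lit 887) Col.e (nat_lit 741) (Dv.wd (nat_lit 98) [Mv.b (nat_lit 2120), Mv.f (nat_lit 2118), Mv.f (nat_lit 2427)])))))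
(Tr.nd (nat_lit 2432) (Tr.nd (nat_lit 2431) (Tr.lf (Fc.ed (nat_lit 2430) (nat_lit 740) Col.j (nat_lit 888) Dv.df))
(Tr.lf (Fc.ed (nat_lit 2431) (nat_lit 888) Col.a (nat_lit 747) (Dv.wd (nat_lit 196) [Mv.b (nat_lit 2130), Mv.b (nat_lit 2119), Mv.f (nat_lit 2430)]))))
(Tr.nd (nat_lit 2433) (Tr.lf (Fc.ed (nat_lit 2432) (nat_lit 742) Col.g (nat_lit 889) Dv.df))
(Tr.lf (Fc.ed (nat_lit 2433) (nat_lit 743) Col.d (nat_lit 890) Dv.df)))))))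
(Tr.nd (nat_lit 2449) (Tr.nd (nat_lit 2441) (Tr.nd (nat_lit 2437) (Tr.nd (nat_lit 2435) (Tr.lf (Fc.ed (nat_lit 2434) (nat_lit 890) Col.f (nat_lit 744) (Dv.wd (nat_lit 37) [Mv.b (nat_lit 2125), Mv.b (nat_lit 2124), Mv.f (nat_lit 2433)])))
(Tr.nd (nat_lit 2436) (Tr.lf (Fc.ed (nat_lit 2435) (nat_lit 744) Col.c (nat_lit 891) Dv.df))
(Tr.lf (Fc.ed (nat_lit 2436) (nat_lit 746) Col.f (nat_lit 892) Dv.df))))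
(Tr.nd (nat_lit 2439) (Tr.nd (nat_lit 2438) (Tr.lf (Fc.ed (nat_lit 2437) (nat_lit 892) Col.b (nat_lit 873) (Dv.wd (nat_lit 114) [Mv.b (nat_lit 2399), Mv.b (nat_lit 2129), Mv.f (nat_lit 2436)])))
(Tr.lf (Fc.ed (nat_lit 2438) (nat_lit 747) Col.h (nat_lit 893) Dv.df)))
(Tr.nd (nat_lit 2440) (Tr.lf (Fc.ed (nat_lit 2439) (nat_lit 893) Col.b (nat_lit 875) (Dv.wd (nat_lit 151) [Mv.b (nat_lit 2405), Mv.b (nat_lit 2131), Mv.f (nat_lit 2438)])))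
(Tr.lf (Fc.ed (nat_lit 2440) (nat_lit 748) Col.a (nat_lit 894) Dv.df)))))
(Tr.nd (nat_lit 2445) (Tr.nd (nat_lit 2443) (Tr.nd (nat_lit 2442) (Tr.lf (Fc.ed (nat_lit 2441) (nat_lit 894) Col.e (nat_lit 894) (Dv.wd (nat_lit 38) [Mv.b (nat_lit 2440), Mv.f (nat_lit 2134), Mv.f (nat_lit 2440)])))
(Tr.lf (Fc.ed (nat_lit 2442) (nat_lit 894) Col.b (nat_lit 894) (Dv.wd (nat_lit 155) [Mv.b (nat_lit 2440), Mv.b (nat_lit 2132), Mv.f (nat_lit 1841), Mv.f (nat_lit 2132), Mv.f (nat_lit 2440)]))))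
(Tr.nd (nat_lit 2444) (Tr.lf (Fc.ed (nat_lit 2443) (nat_lit 749) Col.f (nat_lit 895) Dv.df))
(Tr.lf (Fc.ed (nat_lit 2444) (nat_lit 895) Col.b (nat_lit 878) (Dv.wd (nat_lit 114) [Mv.b (nat_lit 2411), Mv.b (nat_lit 2136), Mv.f (nat_lit 2443)])))))
(Tr.nd (nat_lit 2447) (Tr.nd (nat_lit 2446) (Tr.lf (Fc.ed (nat_lit 2445) (nat_lit 895) Col.c (nat_lit 751) (Dv.wd (nat_lit 91) [Mv.b (nat_lit 2140), Mv.f (nat_lit 2135), Mv.f (nat_lit 2443)])))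
(Tr.lf (Fc.ed (nat_lit 2446) (nat_lit 749) Col.h (nat_lit 896) Dv.df)))
(Tr.nd (nat_lit 2448) (Tr.lf (Fc.ed (nat_lit 2447) (nat_lit 896) Col.b (nat_lit 879) (Dv.wd (nat_lit 151) [Mv.b (nat_lit 2414), Mv.b (nat_lit 2136), Mv.f (nat_lit 2446)])))
(Tr.lf (Fc.ed (nat_lit 2448) (nat_lit 896) Col.c (nat_lit 752) (Dv.wd (nat_lit 102) [Mv.b (nat_lit 2142), Mv.f (nat_lit 2135), Mv.f (nat_lit 2446)])))))))
(Tr.nd (nat_lit 2456) (Tr.nd (nat_lit 2452) (Tr.nd (nat_lit 2450) (Tr.lf (Fc.ed (nat_lit 2449) (nat_lit 750) Col.f (nat_lit 897) Dv.df))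
(Tr.nd (nat_lit 2451) (Tr.lf (Fc.ed (nat_lit 2450) (nat_lit 897) Col.a (nat_lit 897) (Dv.wd (nat_lit 113) [Mv.b (nat_lit 2449), Mv.f (nat_lit 2138), Mv.f (nat_lit 2449)])))
(Tr.lf (Fc.ed (nat_lit 2451) (nat_lit 897) Col.b (nat_lit 754) (Dv.wd (nat_lit 114) [Mv.b (nat_lit 2144), Mv.b (nat_lit 2139), Mv.f (nat_lit 2449)])))))
(Tr.nd (nat_lit 2454) (Tr.nd (nat_lit 2453) (Tr.lf (Fc.ed (nat_lit 2452) (nat_lit 750) Col.h (nat_lit 898) Dv.df))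
(Tr.lf (Fc.ed (nat_lit 2453) (nat_lit 898) Col.e (nat_lit 752) (Dv.wd (nat_lit 103) [Mv.b (nat_lit 2142), Mv.f (nat_lit 2137), Mv.f (nat_lit 2452)]))))
(Tr.nd (nat_lit 2455) (Tr.lf (Fc.ed (nat_lit 2454) (nat_lit 751) Col.g (nat_lit 899) Dv.df))
(Tr.lf (Fc.ed (nat_lit 2455) (nat_lit 899) Col.d (nat_lit 753) (Dv.wd (nat_lit 97) [Mv.b (nat_lit 2143), Mv.b (nat_lit 2141), Mv.f (nat_lit 2454)]))))))
(Tr.nd (nat_lit 2460) (Tr.nd (nat_lit 2458) (Tr.nd (nat_lit 2457) (Tr.lf (Fc.ed (nat_lit 2456) (nat_lit 754) Col.e (nat_lit 900) Dv.df))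
(Tr.lf (Fc.ed (nat_lit 2457) (nat_lit 900) Col.c (nat_lit 883) (Dv.wd (nat_lit 86) [Mv.b (nat_lit 2421), Mv.b (nat_lit 2145), Mv.f (nat_lit 2456)]))))
(Tr.nd (nat_lit 2459) (Tr.lf (Fc.ed (nat_lit 2458) (nat_lit 754) Col.g (nat_lit 901) Dv.df))
(Tr.lf (Fc.ed (nat_lit 2459) (nat_lit 901) Col.c (nat_lit 884) (Dv.wd (nat_lit 96) [Mv.b (nat_lit 2423), Mv.b (nat_lit 2145), Mv.f (nat_lit 2458)])))))
(Tr.nd (nat_lit 2462) (Tr.nd (nat_lit 2461) (Tr.lf (Fc.ed (nat_lit 2460) (nat_lit 754) Col.h (nat_lit 902) Dv.df))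
(Tr.lf (Fc.ed (nat_lit 2461) (nat_lit 902) Col.c (nat_lit 885) (Dv.wd (nat_lit 102) [Mv.b (nat_lit 2424), Mv.b (nat_lit 2145), Mv.f (nat_lit 2460)]))))
(Tr.nd (nat_lit 2463) (Tr.lf (Fc.ed (nat_lit 2462) (nat_lit 755) Col.d (nat_lit 903) Dv.df))
(Tr.lf (Fc.ed (nat_lit 2463) (nat_lit 903) Col.e (nat_lit 757) (Dv.wd (nat_lit 108) [Mv.b (nat_lit 2149), Mv.b (nat_lit 1852), Mv.b (nat_lit 1851), Mv.f (nat_lit 2146), Mv.f (nat_lit 2462)]))))))))))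
(Tr.nd (nat_lit 2523) (Tr.nd (nat_lit 2493) (Tr.nd (nat_lit 2478) (Tr.nd (nat_lit 2471) (Tr.nd (nat_lit 2467) (Tr.nd (nat_lit 2465) (Tr.lf (Fc.ed (nat_lit 2464) (nat_lit 755) Col.j (nat_lit 904) Dv.df))
(Tr.nd (nat_lit 2466) (Tr.lf (Fc.ed (nat_lit 2465) (nat_lit 904) Col.c (nat_lit 888) (Dv.wd (nat_lit 197) [Mv.b (nat_lit 2430), Mv.b (nat_lit 2147), Mv.f (nat_lit 2464)])))
(Tr.lf (Fc.ed (nat_lit 2466) (nat_lit 757) Col.j (nat_lit 905) Dv.df))))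
(Tr.nd (nat_lit 2469) (Tr.nd (nat_lit 2468) (Tr.lf (Fc.ed (nat_lit 2467) (nat_lit 757) Col.h (nat_lit 906) Dv.df))
(Tr.lf (Fc.ed (nat_lit 2468) (nat_lit 906) Col.d (nat_lit 810) (Dv.wd (nat_lit 141) [Mv.b (nat_lit 2267), Mv.f (nat_lit 1958), Mv.b (nat_lit 1854), Mv.f (nat_lit 2149), Mv.f (nat_lit 2467)]))))
(Tr.nd (nat_lit 2470) (Tr.lf (Fc.ed (nat_lit 2469) (nat_lit 758) Col.f (nat_lit 907) Dv.df))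
(Tr.lf (Fc.ed (nat_lit 2470) (nat_lit 907) Col.a (nat_lit 765) (Dv.wd (nat_lit 113) [Mv.b (nat_lit 2165), Mv.b (nat_lit 2151), Mv.f (nat_lit 2469)]))))))
(Tr.nd (nat_lit 2474) (Tr.nd (nat_lit 2472) (Tr.lf (Fc.ed (nat_lit 2471) (nat_lit 907) Col.h (nat_lit 811) (Dv.wd (nat_lit 115) [Mv.f (nat_lit 2269), Mv.b (nat_lit 2152), Mv.f (nat_lit 2469)])))
(Tr.nd (nat_lit 2473) (Tr.lf (Fc.ed (nat_lit 2472) (nat_lit 759) Col.g (nat_lit 908) Dv.df))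
(Tr.lf (Fc.ed (nat_lit 2473) (nat_lit 908) Col.c (nat_lit 889) (Dv.wd (nat_lit 96) [Mv.b (nat_lit 2432), Mv.b (nat_lit 2154), Mv.f (nat_lit 2472)])))))
(Tr.nd (nat_lit 2476) (Tr.nd (nat_lit 2475) (Tr.lf (Fc.ed (nat_lit 2474) (nat_lit 908) Col.e (nat_lit 760) (Dv.wd (nat_lit 98) [Mv.b (nat_lit 2156), Mv.f (nat_lit 2153), Mv.f (nat_lit 2472)])))
(Tr.lf (Fc.ed (nat_lit 2475) (nat_lit 759) Col.h (nat_lit 909) Dv.df)))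
(Tr.nd (nat_lit 2477) (Tr.lf (Fc.ed (nat_lit 2476) (nat_lit 909) Col.e (nat_lit 761) (Dv.wd (nat_lit 103) [Mv.b (nat_lit 2157), Mv.f (nat_lit 2153), Mv.f (nat_lit 2475)])))
(Tr.lf (Fc.ed (nat_lit 2477) (nat_lit 909) Col.f (nat_lit 764) (Dv.wd (nat_lit 104) [Mv.b (nat_lit 2163), Mv.b (nat_lit 2155), Mv.f (nat_lit 2475)])))))))
(Tr.nd (nat_lit 2485) (Tr.nd (nat_lit 2481) (Tr.nd (nat_lit 2479) (Tr.lf (Fc.ed (nat_lit 2478) (nat_lit 760) Col.h (nat_lit 910) Dv.df))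
(Tr.nd (nat_lit 2480) (Tr.lf (Fc.ed (nat_lit 2479) (nat_lit 761) Col.d (nat_lit 911) Dv.df))
(Tr.lf (Fc.ed (nat_lit 2480) (nat_lit 911) Col.f (nat_lit 762) (Dv.wd (nat_lit 37) [Mv.b (nat_lit 2160), Mv.b (nat_lit 2159), Mv.f (nat_lit 2479)])))))
(Tr.nd (nat_lit 2483) (Tr.nd (nat_lit 2482) (Tr.lf (Fc.ed (nat_lit 2481) (nat_lit 762) Col.i (nat_lit 912) Dv.df))
(Tr.lf (Fc.ed (nat_lit 2482) (nat_lit 912) Col.d (nat_lit 763) (Dv.wd (nat_lit 142) [Mv.b (nat_lit 2161), Mv.f (nat_lit 2160), Mv.f (nat_lit 2481)]))))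
(Tr.nd (nat_lit 2484) (Tr.lf (Fc.ed (nat_lit 2483) (nat_lit 766) Col.a (nat_lit 913) Dv.df))
(Tr.lf (Fc.ed (nat_lit 2484) (nat_lit 913) Col.h (nat_lit 894) (Dv.wd (nat_lit 28) [Mv.b (nat_lit 2440), Mv.b (nat_lit 2169), Mv.f (nat_lit 2483)]))))))
(Tr.nd (nat_lit 2489) (Tr.nd (nat_lit 2487) (Tr.nd (nat_lit 2486) (Tr.lf (Fc.ed (nat_lit 2485) (nat_lit 767) Col.e (nat_lit 914) Dv.df))
(Tr.lf (Fc.ed (nat_lit 2486) (nat_lit 914) Col.b (nat_lit 768) (Dv.wd (nat_lit 153) [Mv.b (nat_lit 2172), Mv.b (nat_lit 2171), Mv.f (nat_lit 2485)]))))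
(Tr.nd (nat_lit 2488) (Tr.lf (Fc.ed (nat_lit 2487) (nat_lit 768) Col.f (nat_lit 915) Dv.df))
(Tr.lf (Fc.ed (nat_lit 2488) (nat_lit 915) Col.k (nat_lit 774) (Dv.wd (nat_lit 90) [Mv.b (nat_lit 2185), Mv.b (nat_lit 2173), Mv.f (nat_lit 2487)])))))
(Tr.nd (nat_lit 2491) (Tr.nd (nat_lit 2490) (Tr.lf (Fc.ed (nat_lit 2489) (nat_lit 768) Col.h (nat_lit 916) Dv.df))
(Tr.lf (Fc.ed (nat_lit 2490) (nat_lit 916) Col.k (nat_lit 775) (Dv.wd (nat_lit 101) [Mv.b (nat_lit 2187), Mv.b (nat_lit 2173), Mv.f (nat_lit 2489)]))))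
(Tr.nd (nat_lit 2492) (Tr.lf (Fc.ed (nat_lit 2491) (nat_lit 769) Col.e (nat_lit 917) Dv.df))
(Tr.lf (Fc.ed (nat_lit 2492) (nat_lit 917) Col.c (nat_lit 770) (Dv.wd (nat_lit 86) [Mv.b (nat_lit 2175), Mv.f (nat_lit 2174), Mv.f (nat_lit 2491)]))))))))
(Tr.nd (nat_lit 2508) (Tr.nd (nat_lit 2500) (Tr.nd (nat_lit 2496) (Tr.nd (nat_lit 2494) (Tr.lf (Fc.ed (nat_lit 2493) (nat_lit 769) Col.f (nat_lit 918) Dv.df))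
(Tr.nd (nat_lit 2495) (Tr.lf (Fc.ed (nat_lit 2494) (nat_lit 918) Col.c (nat_lit 771) (Dv.wd (nat_lit 91) [Mv.b (nat_lit 2177), Mv.f (nat_lit 2174), Mv.f (nat_lit 2493)])))
(Tr.lf (Fc.ed (nat_lit 2495) (nat_lit 769) Col.h (nat_lit 919) Dv.df))))
(Tr.nd (nat_lit 2498) (Tr.nd (nat_lit 2497) (Tr.lf (Fc.ed (nat_lit 2496) (nat_lit 919) Col.c (nat_lit 772) (Dv.wd (nat_lit 102) [Mv.b (nat_lit 2181), Mv.f (nat_lit 2174), Mv.f (nat_lit 2495)])))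
(Tr.lf (Fc.ed (nat_lit 2497) (nat_lit 770) Col.f (nat_lit 920) Dv.df)))
(Tr.nd (nat_lit 2499) (Tr.lf (Fc.ed (nat_lit 2498) (nat_lit 920) Col.b (nat_lit 774) (Dv.wd (nat_lit 114) [Mv.b (nat_lit 2185), Mv.b (nat_lit 2176), Mv.f (nat_lit 2497)])))
(Tr.lf (Fc.ed (nat_lit 2499) (nat_lit 770) Col.h (nat_lit 921) Dv.df)))))
(Tr.nd (nat_lit 2504) (Tr.nd (nat_lit 2502) (Tr.nd (nat_lit 2501) (Tr.lf (Fc.ed (nat_lit 2500) (nat_lit 921) Col.b (nat_lit 775) (Dv.wd (nat_lit 151) [Mv.b (nat_lit 2187), Mv.b (nat_lit 2176), Mv.f (nat_lit 2499)])))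
(Tr.lf (Fc.ed (nat_lit 2501) (nat_lit 921) Col.e (nat_lit 772) (Dv.wd (nat_lit 103) [Mv.b (nat_lit 2181), Mv.f (nat_lit 2175), Mv.f (nat_lit 2499)]))))
(Tr.nd (nat_lit 2503) (Tr.lf (Fc.ed (nat_lit 2502) (nat_lit 771) Col.e (nat_lit 922) Dv.df))
(Tr.lf (Fc.ed (nat_lit 2503) (nat_lit 771) Col.g (nat_lit 923) Dv.df))))
(Tr.nd (nat_lit 2506) (Tr.nd (nat_lit 2505) (Tr.lf (Fc.ed (nat_lit 2504) (nat_lit 923) Col.a (nat_lit 923) (Dv.wd (nat_lit 174) [Mv.b (nat_lit 2503), Mv.f (nat_lit 2178), Mv.f (nat_lit 2503)])))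
(Tr.lf (Fc.ed (nat_lit 2505) (nat_lit 923) Col.b (nat_lit 777) (Dv.wd (nat_lit 146) [Mv.b (nat_lit 2192), Mv.b (nat_lit 2179), Mv.f (nat_lit 2503)]))))
(Tr.nd (nat_lit 2507) (Tr.lf (Fc.ed (nat_lit 2506) (nat_lit 923) Col.d (nat_lit 773) (Dv.wd (nat_lit 97) [Mv.b (nat_lit 2183), Mv.b (nat_lit 2180), Mv.f (nat_lit 2503)])))
(Tr.lf (Fc.ed (nat_lit 2507) (nat_lit 923) Col.f (nat_lit 923) (Dv.wd (nat_lit 99) [Mv.b (nat_lit 2503), Mv.b (nat_lit 2177), Mv.f (nat_lit 1880), Mv.f (nat_lit 2177), Mv.f (nat_lit 2503)])))))))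
(Tr.nd (nat_lit 2515) (Tr.nd (nat_lit 2511) (Tr.nd (nat_lit 2509) (Tr.lf (Fc.ed (nat_lit 2508) (nat_lit 774) Col.e (nat_lit 924) Dv.df))
(Tr.nd (nat_lit 2510) (Tr.lf (Fc.ed (nat_lit 2509) (nat_lit 924) Col.f (nat_lit 776) (Dv.wd (nat_lit 109) [Mv.b (nat_lit 2190), Mv.b (nat_lit 1885), Mv.f (nat_lit 1883), Mv.f (nat_lit 2185), Mv.f (nat_lit 2508)])))
(Tr.lf (Fc.ed (nat_lit 2510) (nat_lit 774) Col.h (nat_lit 925) Dv.df))))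
(Tr.nd (nat_lit 2513) (Tr.nd (nat_lit 2512) (Tr.lf (Fc.ed (nat_lit 2511) (nat_lit 925) Col.a (nat_lit 780) (Dv.wd (nat_lit 124) [Mv.b (nat_lit 2200), Mv.b (nat_lit 2186), Mv.f (nat_lit 2510)])))
(Tr.lf (Fc.ed (nat_lit 2512) (nat_lit 775) Col.d (nat_lit 926) Dv.df)))
(Tr.nd (nat_lit 2514) (Tr.lf (Fc.ed (nat_lit 2513) (nat_lit 926) Col.a (nat_lit 781) (Dv.wd (nat_lit 182) [Mv.b (nat_lit 2202), Mv.b (nat_lit 2188), Mv.f (nat_lit 2512)])))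
(Tr.lf (Fc.ed (nat_lit 2514) (nat_lit 776) Col.g (nat_lit 927) Dv.df)))))
(Tr.nd (nat_lit 2519) (Tr.nd (nat_lit 2517) (Tr.nd (nat_lit 2516) (Tr.lf (Fc.ed (nat_lit 2515) (nat_lit 927) Col.i (nat_lit 798) (Dv.wd (nat_lit 148) [Mv.b (nat_lit 2239), Mv.b (nat_lit 2191), Mv.f (nat_lit 2514)])))
(Tr.lf (Fc.ed (nat_lit 2516) (nat_lit 776) Col.h (nat_lit 928) Dv.df)))
(Tr.nd (nat_lit 2518) (Tr.lf (Fc.ed (nat_lit 2517) (nat_lit 777) Col.h (nat_lit 929) Dv.df))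
(Tr.lf (Fc.ed (nat_lit 2518) (nat_lit 929) Col.g (nat_lit 778) (Dv.wd (nat_lit 126) [Mv.b (nat_lit 2195), Mv.f (nat_lit 2192), Mv.f (nat_lit 2517)])))))
(Tr.nd (nat_lit 2521) (Tr.nd (nat_lit 2520) (Tr.lf (Fc.ed (nat_lit 2519) (nat_lit 779) Col.h (nat_lit 930) Dv.df))
(Tr.lf (Fc.ed (nat_lit 2520) (nat_lit 930) Col.e (nat_lit 780) (Dv.wd (nat_lit 103) [Mv.b (nat_lit 2200), Mv.f (nat_lit 2198), Mv.f (nat_lit 2519)]))))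
(Tr.nd (nat_lit 2522) (Tr.lf (Fc.ed (nat_lit 2521) (nat_lit 930) Col.f (nat_lit 782) (Dv.wd (nat_lit 104) [Mv.b (nat_lit 2204), Mv.b (nat_lit 2199), Mv.f (nat_lit 2519)])))
(Tr.lf (Fc.ed (nat_lit 2522) (nat_lit 780) Col.d (nat_lit 931) Dv.df))))))))
(Tr.nd (nat_lit 2552) (Tr.nd (nat_lit 2537) (Tr.nd (nat_lit 2530) (Tr.nd (nat_lit 2526) (Tr.nd (nat_lit 2524) (Tr.lf (Fc.ed (nat_lit 2523) (nat_lit 931) Col.f (nat_lit 781) (Dv.wd (nat_lit 37) [Mv.b (nat_lit 2202), Mv.b (nat_lit 2201), Mv.f (nat_lit 2522)])))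
(Tr.nd (nat_lit 2525) (Tr.lf (Fc.ed (nat_lit 2524) (nat_lit 781) Col.i (nat_lit 932) Dv.df))
(Tr.lf (Fc.ed (nat_lit 2525) (nat_lit 932) Col.e (nat_lit 912) (Dv.wd (nat_lit 143) [Mv.b (nat_lit 2481), Mv.b (nat_lit 2203), Mv.f (nat_lit 2524)])))))
(Tr.nd (nat_lit 2528) (Tr.nd (nat_lit 2527) (Tr.lf (Fc.ed (nat_lit 2526) (nat_lit 784) Col.a (nat_lit 933) Dv.df))
(Tr.lf (Fc.ed (nat_lit 2527) (nat_lit 933) Col.i (nat_lit 913) (Dv.wd (nat_lit 147) [Mv.b (nat_lit 2483), Mv.b (nat_lit 2208), Mv.f (nat_lit 2526)]))))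
(Tr.nd (nat_lit 2529) (Tr.lf (Fc.ed (nat_lit 2528) (nat_lit 786) Col.e (nat_lit 934) Dv.df))
(Tr.lf (Fc.ed (nat_lit 2529) (nat_lit 934) Col.i (nat_lit 914) (Dv.wd (nat_lit 136) [Mv.b (nat_lit 2485), Mv.b (nat_lit 2213), Mv.f (nat_lit 2528)]))))))
(Tr.nd (nat_lit 2533) (Tr.nd (nat_lit 2531) (Tr.lf (Fc.ed (nat_lit 2530) (nat_lit 787) Col.f (nat_lit 935) Dv.df))
(Tr.nd (nat_lit 2532) (Tr.lf (Fc.ed (nat_lit 2531) (nat_lit 935) Col.i (nat_lit 915) (Dv.wd (nat_lit 150) [Mv.b (nat_lit 2487), Mv.b (nat_lit 2215), Mv.f (nat_lit 2530)])))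
(Tr.lf (Fc.ed (nat_lit 2532) (nat_lit 788) Col.e (nat_lit 936) Dv.df))))
(Tr.nd (nat_lit 2535) (Tr.nd (nat_lit 2534) (Tr.lf (Fc.ed (nat_lit 2533) (nat_lit 936) Col.c (nat_lit 789) (Dv.wd (nat_lit 86) [Mv.b (nat_lit 2218), Mv.f (nat_lit 2216), Mv.f (nat_lit 2532)])))
(Tr.lf (Fc.ed (nat_lit 2534) (nat_lit 936) Col.i (nat_lit 917) (Dv.wd (nat_lit 136) [Mv.b (nat_lit 2491), Mv.b (nat_lit 2217), Mv.f (nat_lit 2532)]))))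
(Tr.nd (nat_lit 2536) (Tr.lf (Fc.ed (nat_lit 2535) (nat_lit 788) Col.h (nat_lit 937) Dv.df))
(Tr.lf (Fc.ed (nat_lit 2536) (nat_lit 789) Col.h (nat_lit 938) Dv.df))))))
(Tr.nd (nat_lit 2544) (Tr.nd (nat_lit 2540) (Tr.nd (nat_lit 2538) (Tr.lf (Fc.ed (nat_lit 2537) (nat_lit 938) Col.b (nat_lit 790) (Dv.wd (nat_lit 151) [Mv.b (nat_lit 2220), Mv.b (nat_lit 2219), Mv.f (nat_lit 2536)])))
(Tr.nd (nat_lit 2539) (Tr.lf (Fc.ed (nat_lit 2538) (nat_lit 791) Col.a (nat_lit 939) Dv.df))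
(Tr.lf (Fc.ed (nat_lit 2539) (nat_lit 939) Col.f (nat_lit 933) (Dv.wd (nat_lit 33) [Mv.b (nat_lit 2526), Mv.b (nat_lit 2223), Mv.f (nat_lit 2538)])))))
(Tr.nd (nat_lit 2542) (Tr.nd (nat_lit 2541) (Tr.lf (Fc.ed (nat_lit 2540) (nat_lit 791) Col.d (nat_lit 940) Dv.df))
(Tr.lf (Fc.ed (nat_lit 2541) (nat_lit 940) Col.b (nat_lit 792) (Dv.wd (nat_lit 183) [Mv.b (nat_lit 2224), Mv.f (nat_lit 2222), Mv.f (nat_lit 2540)]))))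
(Tr.nd (nat_lit 2543) (Tr.lf (Fc.ed (nat_lit 2542) (nat_lit 791) Col.g (nat_lit 941) Dv.df))
(Tr.lf (Fc.ed (nat_lit 2543) (nat_lit 793) Col.g (nat_lit 942) Dv.df)))))
(Tr.nd (nat_lit 2548) (Tr.nd (nat_lit 2546) (Tr.nd (nat_lit 2545) (Tr.lf (Fc.ed (nat_lit 2544) (nat_lit 942) Col.f (nat_lit 942) (Dv.wd (nat_lit 99) [Mv.b (nat_lit 2543), Mv.f (nat_lit 2227), Mv.f (nat_lit 2210), Mv.b (nat_lit 2227), Mv.f (nat_lit 2543)])))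
(Tr.lf (Fc.ed (nat_lit 2545) (nat_lit 794) Col.c (nat_lit 943) Dv.df)))
(Tr.nd (nat_lit 2547) (Tr.lf (Fc.ed (nat_lit 2546) (nat_lit 943) Col.k (nat_lit 797) (Dv.wd (nat_lit 78) [Mv.b (nat_lit 2235), Mv.b (nat_lit 2229), Mv.f (nat_lit 2545)])))
(Tr.lf (Fc.ed (nat_lit 2547) (nat_lit 794) Col.e (nat_lit 944) Dv.df))))
(Tr.nd (nat_lit 2550) (Tr.nd (nat_lit 2549) (Tr.lf (Fc.ed (nat_lit 2548) (nat_lit 794) Col.g (nat_lit 945) Dv.df))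
(Tr.lf (Fc.ed (nat_lit 2549) (nat_lit 945) Col.d (nat_lit 795) (Dv.wd (nat_lit 97) [Mv.b (nat_lit 2231), Mv.f (nat_lit 2228), Mv.f (nat_lit 2548)]))))
(Tr.nd (nat_lit 2551) (Tr.lf (Fc.ed (nat_lit 2550) (nat_lit 945) Col.f (nat_lit 945) (Dv.wd (nat_lit 99) [Mv.b (nat_lit 2548), Mv.f (nat_lit 2230), Mv.f (nat_lit 2212), Mv.b (nat_lit 2230), Mv.f (nat_lit 2548)])))
(Tr.lf (Fc.ed (nat_lit 2551) (nat_lit 794) Col.h (nat_lit 946) Dv.df)))))))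
(Tr.nd (nat_lit 2567) (Tr.nd (nat_lit 2559) (Tr.nd (nat_lit 2555) (Tr.nd (nat_lit 2553) (Tr.lf (Fc.ed (nat_lit 2552) (nat_lit 796) Col.f (nat_lit 947) Dv.df))
(Tr.nd (nat_lit 2554) (Tr.lf (Fc.ed (nat_lit 2553) (nat_lit 947) Col.e (nat_lit 935) (Dv.wd (nat_lit 93) [Mv.b (nat_lit 2530), Mv.b (nat_lit 2214), Mv.b (nat_lit 1926), Mv.f (nat_lit 2234), Mv.f (nat_lit 2552)])))
(Tr.lf (Fc.ed (nat_lit 2554) (nat_lit 797) Col.h (nat_lit 948) Dv.df))))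
(Tr.nd (nat_lit 2557) (Tr.nd (nat_lit 2556) (Tr.lf (Fc.ed (nat_lit 2555) (nat_lit 948) Col.f (nat_lit 937) (Dv.wd (nat_lit 104) [Mv.b (nat_lit 2535), Mv.b (nat_lit 2237), Mv.f (nat_lit 2554)])))
(Tr.lf (Fc.ed (nat_lit 2556) (nat_lit 799) Col.g (nat_lit 949) Dv.df)))
(Tr.nd (nat_lit 2558) (Tr.lf (Fc.ed (nat_lit 2557) (nat_lit 949) Col.l (nat_lit 802) (Dv.wd (nat_lit 94) [Mv.b (nat_lit 2250), Mv.b (nat_lit 2241), Mv.f (nat_lit 2556)])))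
(Tr.lf (Fc.ed (nat_lit 2558) (nat_lit 949) Col.e (nat_lit 941) (Dv.wd (nat_lit 98) [Mv.b (nat_lit 2542), Mv.b (nat_lit 2242), Mv.f (nat_lit 2556)]))))))
(Tr.nd (nat_lit 2563) (Tr.nd (nat_lit 2561) (Tr.nd (nat_lit 2560) (Tr.lf (Fc.ed (nat_lit 2559) (nat_lit 949) Col.h (nat_lit 949) (Dv.wd (nat_lit 140) [Mv.b (nat_lit 2556), Mv.f (nat_lit 2243), Mv.f (nat_lit 2556)])))
(Tr.lf (Fc.ed (nat_lit 2560) (nat_lit 800) Col.g (nat_lit 950) Dv.df)))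
(Tr.nd (nat_lit 2562) (Tr.lf (Fc.ed (nat_lit 2561) (nat_lit 950) Col.a (nat_lit 802) (Dv.wd (nat_lit 174) [Mv.b (nat_lit 2250), Mv.f (nat_lit 2244), Mv.f (nat_lit 2560)])))
(Tr.lf (Fc.ed (nat_lit 2562) (nat_lit 950) Col.b (nat_lit 950) (Dv.wd (nat_lit 146) [Mv.b (nat_lit 2560), Mv.f (nat_lit 2248), Mv.f (nat_lit 2560)])))))
(Tr.nd (nat_lit 2565) (Tr.nd (nat_lit 2564) (Tr.lf (Fc.ed (nat_lit 2563) (nat_lit 950) Col.c (nat_lit 950) (Dv.wd (nat_lit 96) [Mv.b (nat_lit 2560), Mv.f (nat_lit 2245), Mv.f (nat_lit 2560)])))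
(Tr.lf (Fc.ed (nat_lit 2564) (nat_lit 950) Col.e (nat_lit 942) (Dv.wd (nat_lit 98) [Mv.b (nat_lit 2543), Mv.b (nat_lit 2246), Mv.f (nat_lit 2560)]))))
(Tr.nd (nat_lit 2566) (Tr.lf (Fc.ed (nat_lit 2565) (nat_lit 950) Col.h (nat_lit 950) (Dv.wd (nat_lit 140) [Mv.b (nat_lit 2560), Mv.f (nat_lit 2247), Mv.f (nat_lit 2560)])))
(Tr.lf (Fc.ed (nat_lit 2566) (nat_lit 801) Col.e (nat_lit 951) Dv.df))))))
(Tr.nd (nat_lit 2574) (Tr.nd (nat_lit 2570) (Tr.nd (nat_lit 2568) (Tr.lf (Fc.ed (nat_lit 2567) (nat_lit 951) Col.d (nat_lit 944) (Dv.wd (nat_lit 88) [Mv.b (nat_lit 2547), Mv.b (nat_lit 2228), Mv.b (nat_lit 1941), Mv.f (nat_lit 2249), Mv.f (nat_lit 2566)])))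
(Tr.nd (nat_lit 2569) (Tr.lf (Fc.ed (nat_lit 2568) (nat_lit 801) Col.g (nat_lit 952) Dv.df))
(Tr.lf (Fc.ed (nat_lit 2569) (nat_lit 952) Col.d (nat_lit 802) (Dv.wd (nat_lit 97) [Mv.b (nat_lit 2250), Mv.f (nat_lit 2249), Mv.f (nat_lit 2568)])))))
(Tr.nd (nat_lit 2572) (Tr.nd (nat_lit 2571) (Tr.lf (Fc.ed (nat_lit 2570) (nat_lit 802) Col.f (nat_lit 953) Dv.df))
(Tr.lf (Fc.ed (nat_lit 2571) (nat_lit 803) Col.f (nat_lit 954) Dv.df)))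
(Tr.nd (nat_lit 2573) (Tr.lf (Fc.ed (nat_lit 2572) (nat_lit 954) Col.d (nat_lit 947) (Dv.wd (nat_lit 92) [Mv.b (nat_lit 2552), Mv.b (nat_lit 2253), Mv.f (nat_lit 2571)])))
(Tr.lf (Fc.ed (nat_lit 2573) (nat_lit 803) Col.i (nat_lit 955) Dv.df)))))
(Tr.nd (nat_lit 2578) (Tr.nd (nat_lit 2576) (Tr.nd (nat_lit 2575) (Tr.lf (Fc.ed (nat_lit 2574) (nat_lit 955) Col.e (nat_lit 805) (Dv.wd (nat_lit 143) [Mv.b (nat_lit 2256), Mv.f (nat_lit 2252), Mv.f (nat_lit 2573)])))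
(Tr.lf (Fc.ed (nat_lit 2575) (nat_lit 804) Col.i (nat_lit 956) Dv.df)))
(Tr.nd (nat_lit 2577) (Tr.lf (Fc.ed (nat_lit 2576) (nat_lit 956) Col.g (nat_lit 805) (Dv.wd (nat_lit 176) [Mv.b (nat_lit 2256), Mv.f (nat_lit 2254), Mv.f (nat_lit 2575)])))
(Tr.lf (Fc.ed (nat_lit 2577) (nat_lit 807) Col.i (nat_lit 957) Dv.df))))
(Tr.nd (nat_lit 2580) (Tr.nd (nat_lit 2579) (Tr.lf (Fc.ed (nat_lit 2578) (nat_lit 957) Col.d (nat_lit 927) (Dv.wd (nat_lit 142) [Mv.f (nat_lit 2515), Mv.b (nat_lit 2260), Mv.f (nat_lit 2577)])))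
(Tr.lf (Fc.ed (nat_lit 2579) (nat_lit 957) Col.e (nat_lit 809) (Dv.wd (nat_lit 143) [Mv.b (nat_lit 2265), Mv.b (nat_lit 2261), Mv.f (nat_lit 2577)]))))
(Tr.nd (nat_lit 2581) (Tr.lf (Fc.ed (nat_lit 2580) (nat_lit 808) Col.h (nat_lit 958) Dv.df))
(Tr.lf (Fc.ed (nat_lit 2581) (nat_lit 958) Col.e (nat_lit 810) (Dv.wd (nat_lit 103) [Mv.b (nat_lit 2267), Mv.b (nat_lit 2264), Mv.f (nat_lit 2580)])))))))))))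
(Tr.nd (nat_lit 2699) (Tr.nd (nat_lit 2640) (Tr.nd (nat_lit 2611) (Tr.nd (nat_lit 2596) (Tr.nd (nat_lit 2589) (Tr.nd (nat_lit 2585) (Tr.nd (nat_lit 2583) (Tr.lf (Fc.ed (nat_lit 2582) (nat_lit 812) Col.f (nat_lit 959) Dv.df))
(Tr.nd (nat_lit 2584) (Tr.lf (Fc.ed (nat_lit 2583) (nat_lit 959) Col.c (nat_lit 954) (Dv.wd (nat_lit 91) [Mv.b (nat_lit 2571), Mv.b (nat_lit 2271), Mv.f (nat_lit 2582)])))
(Tr.lf (Fc.ed (nat_lit 2584) (nat_lit 812) Col.i (nat_lit 960) Dv.df))))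
(Tr.nd (nat_lit 2587) (Tr.nd (nat_lit 2586) (Tr.lf (Fc.ed (nat_lit 2585) (nat_lit 960) Col.e (nat_lit 813) (Dv.wd (nat_lit 143) [Mv.b (nat_lit 2272), Mv.f (nat_lit 2270), Mv.f (nat_lit 2584)])))
(Tr.lf (Fc.ed (nat_lit 2586) (nat_lit 818) Col.d (nat_lit 961) Dv.df)))
(Tr.nd (nat_lit 2588) (Tr.lf (Fc.ed (nat_lit 2587) (nat_lit 819) Col.d (nat_lit 962) Dv.df))
(Tr.lf (Fc.ed (nat_lit 2588) (nat_lit 962) Col.a (nat_lit 827) (Dv.wd (nat_lit 182) [Mv.b (nat_lit 2305), Mv.b (nat_lit 2286), Mv.f (nat_lit 2587)]))))))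
(Tr.nd (nat_lit 2592) (Tr.nd (nat_lit 2590) (Tr.lf (Fc.ed (nat_lit 2589) (nat_lit 962) Col.f (nat_lit 961) (Dv.wd (nat_lit 37) [Mv.b (nat_lit 2586), Mv.b (nat_lit 2287), Mv.f (nat_lit 2587)])))
(Tr.nd (nat_lit 2591) (Tr.lf (Fc.ed (nat_lit 2590) (nat_lit 962) Col.g (nat_lit 822) (Dv.wd (nat_lit 82) [Mv.b (nat_lit 2293), Mv.b (nat_lit 2288), Mv.f (nat_lit 2587)])))
(Tr.lf (Fc.ed (nat_lit 2591) (nat_lit 820) Col.d (nat_lit 963) Dv.df))))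
(Tr.nd (nat_lit 2594) (Tr.nd (nat_lit 2593) (Tr.lf (Fc.ed (nat_lit 2592) (nat_lit 820) Col.f (nat_lit 964) Dv.df))
(Tr.lf (Fc.ed (nat_lit 2593) (nat_lit 964) Col.h (nat_lit 839) (Dv.wd (nat_lit 115) [Mv.b (nat_lit 2323), Mv.b (nat_lit 2290), Mv.f (nat_lit 2592)]))))
(Tr.nd (nat_lit 2595) (Tr.lf (Fc.ed (nat_lit 2594) (nat_lit 821) Col.d (nat_lit 965) Dv.df))
(Tr.lf (Fc.ed (nat_lit 2595) (nat_lit 965) Col.i (nat_lit 822) (Dv.wd (nat_lit 135) [Mv.b (nat_lit 2293), Mv.b (nat_lit 2292), Mv.f (nat_lit 2594)])))))))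
(Tr.nd (nat_lit 2603) (Tr.nd (nat_lit 2599) (Tr.nd (nat_lit 2597) (Tr.lf (Fc.ed (nat_lit 2596) (nat_lit 821) Col.f (nat_lit 966) Dv.df))
(Tr.nd (nat_lit 2598) (Tr.lf (Fc.ed (nat_lit 2597) (nat_lit 823) Col.a (nat_lit 967) Dv.df))
(Tr.lf (Fc.ed (nat_lit 2598) (nat_lit 967) Col.f (nat_lit 967) (Dv.wd (nat_lit 33) [Mv.b (nat_lit 2597), Mv.f (nat_lit 2295), Mv.f (nat_lit 2597)])))))
(Tr.nd (nat_lit 2601) (Tr.nd (nat_lit 2600) (Tr.lf (Fc.ed (nat_lit 2599) (nat_lit 967) Col.h (nat_lit 967) (Dv.wd (nat_lit 28) [Mv.b (nat_lit 2597), Mv.f (nat_lit 2296), Mv.f (nat_lit 2597)])))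
(Tr.lf (Fc.ed (nat_lit 2600) (nat_lit 967) Col.i (nat_lit 825) (Dv.wd (nat_lit 147) [Mv.b (nat_lit 2301), Mv.b (nat_lit 2297), Mv.f (nat_lit 2597)]))))
(Tr.nd (nat_lit 2602) (Tr.lf (Fc.ed (nat_lit 2601) (nat_lit 967) Col.e (nat_lit 961) (Dv.wd (nat_lit 198) [Mv.b (nat_lit 2586), Mv.f (nat_lit 2284), Mv.f (nat_lit 1993), Mv.f (nat_lit 1722), Mv.b (nat_lit 1721), Mv.b (nat_lit 1449), Mv.b (nat_lit 1460), Mv.b (nat_lit 1459), Mv.f (nat_lit 1137), Mv.b (nat_lit 1457), Mv.f (nat_lit 1456), Mv.b (nat_lit 1250), Mv.f (nat_lit 876), Mv.f (nat_lit 875), Mv.f (nat_lit 857), Mv.f (nat_lit 856), Mv.b (nat_lit 1177), Mv.f (nat_lit 1176), Mv.f (nat_lit 1468), Mv.b (nat_lit 1728), Mv.f (nat_lit 1727), Mv.f (nat_lit 1726), Mv.f (nat_lit 1729), Mv.b (nat_lit 1725), Mv.f (nat_lit 1451), Mv.f (nat_lit 1132),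 Mv.b (nat_lit 1162), Mv.b (nat_lit 1464), Mv.f (nat_lit 1463), Mv.f (nat_lit 1462), Mv.f (nat_lit 1246), Mv.f (nat_lit 1149), Mv.f (nat_lit 1150), Mv.f (nat_lit 1138), Mv.b (nat_lit 1136), Mv.f (nat_lit 732), Mv.b (nat_lit 1116), Mv.f (nat_lit 1115), Mv.f (nat_lit 1114), Mv.f (nat_lit 1117), Mv.b (nat_lit 1113), Mv.b (nat_lit 715), Mv.f (nat_lit 324), Mv.f (nat_lit 316), Mv.f (nat_lit 315), Mv.f (nat_lit 318), Mv.f (nat_lit 317), Mv.f (nat_lit 713), Mv.f (nat_lit 1111), Mv.f (nat_lit 1440), Mv.f (nat_lit 1716), Mv.b (nat_lit 1718), Mv.f (nat_lit 1485), Mv.f (nat_lit 1263), Mv.f (nat_lit 1490), Mv.f (nat_lit 1492), Mv.f (nat_lit 1491), Mv.f (nat_lit 1742), Mv.f (nat_lit 2010), Mv.f (nat_lit 2294), Mv.f (nat_lit 2597), Mv.f (nat_lit 2599), Mv.f (nat_lit 2598)])))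
(Tr.lf (Fc.ed (nat_lit 2602) (nat_lit 823) Col.e (nat_lit 968) Dv.df)))))
(Tr.nd (nat_lit 2607) (Tr.nd (nat_lit 2605) (Tr.nd (nat_lit 2604) (Tr.lf (Fc.ed (nat_lit 2603) (nat_lit 968) Col.a (nat_lit 961) (Dv.wd (nat_lit 152) [Mv.b (nat_lit 2601), Mv.b (nat_lit 2597), Mv.f (nat_lit 2602)])))
(Tr.lf (Fc.ed (nat_lit 2604) (nat_lit 968) Col.i (nat_lit 826) (Dv.wd (nat_lit 136) [Mv.b (nat_lit 2303), Mv.b (nat_lit 2297), Mv.f (nat_lit 2602)]))))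
(Tr.nd (nat_lit 2606) (Tr.lf (Fc.ed (nat_lit 2605) (nat_lit 827) Col.f (nat_lit 968) (Dv.wd (nat_lit 199) [Mv.f (nat_lit 2603), Mv.b (nat_lit 2589), Mv.f (nat_lit 2588)])))
(Tr.lf (Fc.ed (nat_lit 2606) (nat_lit 824) Col.d (nat_lit 969) Dv.df))))
(Tr.nd (nat_lit 2609) (Tr.nd (nat_lit 2608) (Tr.lf (Fc.ed (nat_lit 2607) (nat_lit 969) Col.g (nat_lit 828) (Dv.wd (nat_lit 82) [Mv.b (nat_lit 2306), Mv.b (nat_lit 2299), Mv.f (nat_lit 2606)])))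
(Tr.lf (Fc.ed (nat_lit 2608) (nat_lit 969) Col.i (nat_lit 827) (Dv.wd (nat_lit 135) [Mv.b (nat_lit 2305), Mv.b (nat_lit 2300), Mv.f (nat_lit 2606)]))))
(Tr.nd (nat_lit 2610) (Tr.lf (Fc.ed (nat_lit 2609) (nat_lit 826) Col.f (nat_lit 969) (Dv.wd (nat_lit 184) [Mv.f (nat_lit 2608), Mv.f (nat_lit 2605), Mv.f (nat_lit 2604)])))
(Tr.lf (Fc.ed (nat_lit 2610) (nat_lit 825) Col.e (nat_lit 970) Dv.df)))))))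
(Tr.nd (nat_lit 2625) (Tr.nd (nat_lit 2618) (Tr.nd (nat_lit 2614) (Tr.nd (nat_lit 2612) (Tr.lf (Fc.ed (nat_lit 2611) (nat_lit 970) Col.g (nat_lit 830) (Dv.wd (nat_lit 87) [Mv.b (nat_lit 2308), Mv.b (nat_lit 2302), Mv.f (nat_lit 2610)])))
(Tr.nd (nat_lit 2613) (Tr.lf (Fc.ed (nat_lit 2612) (nat_lit 970) Col.i (nat_lit 961) (Dv.wd (nat_lit 136) [Mv.b (nat_lit 2601), Mv.f (nat_lit 2600), Mv.f (nat_lit 2610)])))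
(Tr.lf (Fc.ed (nat_lit 2613) (nat_lit 828) Col.f (nat_lit 971) Dv.df))))
(Tr.nd (nat_lit 2616) (Tr.nd (nat_lit 2615) (Tr.lf (Fc.ed (nat_lit 2614) (nat_lit 971) Col.d (nat_lit 829) (Dv.wd (nat_lit 92) [Mv.b (nat_lit 2307), Mv.f (nat_lit 2306), Mv.f (nat_lit 2613)])))
(Tr.lf (Fc.ed (nat_lit 2615) (nat_lit 971) Col.g (nat_lit 831) (Dv.wd (nat_lit 200) [Mv.b (nat_lit 2309), Mv.b (nat_lit 2304), Mv.f (nat_lit 2609), Mv.f (nat_lit 2607), Mv.f (nat_lit 2613)]))))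
(Tr.nd (nat_lit 2617) (Tr.lf (Fc.ed (nat_lit 2616) (nat_lit 830) Col.f (nat_lit 972) Dv.df))
(Tr.lf (Fc.ed (nat_lit 2617) (nat_lit 832) Col.d (nat_lit 973) Dv.df)))))
(Tr.nd (nat_lit 2621) (Tr.nd (nat_lit 2619) (Tr.lf (Fc.ed (nat_lit 2618) (nat_lit 973) Col.c (nat_lit 846) (Dv.wd (nat_lit 83) [Mv.b (nat_lit 2337), Mv.f (nat_lit 2044), Mv.b (nat_lit 2025), Mv.b (nat_lit 2311), Mv.f (nat_lit 2617)])))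
(Tr.nd (nat_lit 2620) (Tr.lf (Fc.ed (nat_lit 2619) (nat_lit 832) Col.f (nat_lit 974) Dv.df))
(Tr.lf (Fc.ed (nat_lit 2620) (nat_lit 974) Col.e (nat_lit 966) (Dv.wd (nat_lit 93) [Mv.b (nat_lit 2596), Mv.b (nat_lit 2291), Mv.b (nat_lit 2023), Mv.f (nat_lit 2310), Mv.f (nat_lit 2619)])))))
(Tr.nd (nat_lit 2623) (Tr.nd (nat_lit 2622) (Tr.lf (Fc.ed (nat_lit 2621) (nat_lit 833) Col.e (nat_lit 975) Dv.df))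
(Tr.lf (Fc.ed (nat_lit 2622) (nat_lit 975) Col.a (nat_lit 834) (Dv.wd (nat_lit 152) [Mv.b (nat_lit 2314), Mv.f (nat_lit 2312), Mv.f (nat_lit 2621)]))))
(Tr.nd (nat_lit 2624) (Tr.lf (Fc.ed (nat_lit 2623) (nat_lit 975) Col.i (nat_lit 837) (Dv.wd (nat_lit 136) [Mv.b (nat_lit 2321), Mv.b (nat_lit 2313), Mv.f (nat_lit 2621)])))
(Tr.lf (Fc.ed (nat_lit 2624) (nat_lit 834) Col.d (nat_lit 976) Dv.df))))))
(Tr.nd (nat_lit 2632) (Tr.nd (nat_lit 2628) (Tr.nd (nat_lit 2626) (Tr.lf (Fc.ed (nat_lit 2625) (nat_lit 976) Col.b (nat_lit 835) (Dv.wd (nat_lit 183) [Mv.b (nat_lit 2317), Mv.b (nat_lit 2315), Mv.f (nat_lit 2624)])))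
(Tr.nd (nat_lit 2627) (Tr.lf (Fc.ed (nat_lit 2626) (nat_lit 976) Col.i (nat_lit 838) (Dv.wd (nat_lit 135) [Mv.b (nat_lit 2322), Mv.b (nat_lit 2316), Mv.f (nat_lit 2624)])))
(Tr.lf (Fc.ed (nat_lit 2627) (nat_lit 835) Col.f (nat_lit 977) Dv.df))))
(Tr.nd (nat_lit 2630) (Tr.nd (nat_lit 2629) (Tr.lf (Fc.ed (nat_lit 2628) (nat_lit 977) Col.c (nat_lit 851) (Dv.wd (nat_lit 91) [Mv.b (nat_lit 2349), Mv.b (nat_lit 2318), Mv.f (nat_lit 2627)])))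
(Tr.lf (Fc.ed (nat_lit 2629) (nat_lit 977) Col.d (nat_lit 836) (Dv.wd (nat_lit 92) [Mv.b (nat_lit 2319), Mv.f (nat_lit 2317), Mv.f (nat_lit 2627)]))))
(Tr.nd (nat_lit 2631) (Tr.lf (Fc.ed (nat_lit 2630) (nat_lit 837) Col.d (nat_lit 978) Dv.df))
(Tr.lf (Fc.ed (nat_lit 2631) (nat_lit 837) Col.f (nat_lit 979) Dv.df)))))
(Tr.nd (nat_lit 2636) (Tr.nd (nat_lit 2634) (Tr.nd (nat_lit 2633) (Tr.lf (Fc.ed (nat_lit 2632) (nat_lit 979) Col.e (nat_lit 972) (Dv.wd (nat_lit 93) [Mv.b (nat_lit 2616), Mv.b (nat_lit 2308), Mv.b (nat_lit 2031), Mv.f (nat_lit 2321), Mv.f (nat_lit 2631)])))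
(Tr.lf (Fc.ed (nat_lit 2633) (nat_lit 838) Col.c (nat_lit 980) Dv.df)))
(Tr.nd (nat_lit 2635) (Tr.lf (Fc.ed (nat_lit 2634) (nat_lit 838) Col.f (nat_lit 981) Dv.df))
(Tr.lf (Fc.ed (nat_lit 2635) (nat_lit 981) Col.d (nat_lit 839) (Dv.wd (nat_lit 92) [Mv.b (nat_lit 2323), Mv.f (nat_lit 2322), Mv.f (nat_lit 2634)])))))
(Tr.nd (nat_lit 2638) (Tr.nd (nat_lit 2637) (Tr.lf (Fc.ed (nat_lit 2636) (nat_lit 839) Col.g (nat_lit 982) Dv.df))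
(Tr.lf (Fc.ed (nat_lit 2637) (nat_lit 982) Col.e (nat_lit 971) (Dv.wd (nat_lit 98) [Mv.f (nat_lit 2615), Mv.b (nat_lit 2324), Mv.f (nat_lit 2636)]))))
(Tr.nd (nat_lit 2639) (Tr.lf (Fc.ed (nat_lit 2638) (nat_lit 841) Col.d (nat_lit 983) Dv.df))
(Tr.lf (Fc.ed (nat_lit 2639) (nat_lit 983) Col.a (nat_lit 842) (Dv.wd (nat_lit 182) [Mv.b (nat_lit 2329), Mv.b (nat_lit 2328), Mv.f (nat_lit 2638)])))))))))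
(Tr.nd (nat_lit 2669) (Tr.nd (nat_lit 2654) (Tr.nd (nat_lit 2647) (Tr.nd (nat_lit 2643) (Tr.nd (nat_lit 2641) (Tr.lf (Fc.ed (nat_lit 2640) (nat_lit 842) Col.f (nat_lit 984) Dv.df))
(Tr.nd (nat_lit 2642) (Tr.lf (Fc.ed (nat_lit 2641) (nat_lit 984) Col.b (nat_lit 844) (Dv.wd (nat_lit 114) [Mv.b (nat_lit 2333), Mv.b (nat_lit 2330), Mv.f (nat_lit 2640)])))
(Tr.lf (Fc.ed (nat_lit 2642) (nat_lit 984) Col.d (nat_lit 843) (Dv.wd (nat_lit 92) [Mv.b (nat_lit 2331), Mv.f (nat_lit 2329), Mv.f (nat_lit 2640)])))))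
(Tr.nd (nat_lit 2645) (Tr.nd (nat_lit 2644) (Tr.lf (Fc.ed (nat_lit 2643) (nat_lit 843) Col.g (nat_lit 985) Dv.df))
(Tr.lf (Fc.ed (nat_lit 2644) (nat_lit 985) Col.h (nat_lit 985) (Dv.wd (nat_lit 140) [Mv.b (nat_lit 2643), Mv.f (nat_lit 2332), Mv.f (nat_lit 2643)]))))
(Tr.nd (nat_lit 2646) (Tr.lf (Fc.ed (nat_lit 2645) (nat_lit 844) Col.e (nat_lit 986) Dv.df))
(Tr.lf (Fc.ed (nat_lit 2646) (nat_lit 844) Col.g (nat_lit 987) Dv.df)))))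
(Tr.nd (nat_lit 2650) (Tr.nd (nat_lit 2648) (Tr.lf (Fc.ed (nat_lit 2647) (nat_lit 845) Col.e (nat_lit 988) Dv.df))
(Tr.nd (nat_lit 2649) (Tr.lf (Fc.ed (nat_lit 2648) (nat_lit 988) Col.b (nat_lit 849) (Dv.wd (nat_lit 153) [Mv.b (nat_lit 2342), Mv.b (nat_lit 2336), Mv.f (nat_lit 2647)])))
(Tr.lf (Fc.ed (nat_lit 2649) (nat_lit 988) Col.h (nat_lit 854) (Dv.wd (nat_lit 107) [Mv.b (nat_lit 2356), Mv.b (nat_lit 2335), Mv.f (nat_lit 2647)])))))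
(Tr.nd (nat_lit 2652) (Tr.nd (nat_lit 2651) (Tr.lf (Fc.ed (nat_lit 2650) (nat_lit 846) Col.f (nat_lit 989) Dv.df))
(Tr.lf (Fc.ed (nat_lit 2651) (nat_lit 989) Col.d (nat_lit 847) (Dv.wd (nat_lit 92) [Mv.b (nat_lit 2338), Mv.f (nat_lit 2337), Mv.f (nat_lit 2650)]))))
(Tr.nd (nat_lit 2653) (Tr.lf (Fc.ed (nat_lit 2652) (nat_lit 847) Col.g (nat_lit 990) Dv.df))
(Tr.lf (Fc.ed (nat_lit 2653) (nat_lit 990) Col.h (nat_lit 855) (Dv.wd (nat_lit 140) [Mv.b (nat_lit 2358), Mv.b (nat_lit 2339), Mv.f (nat_lit 2652)])))))))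
(Tr.nd (nat_lit 2661) (Tr.nd (nat_lit 2657) (Tr.nd (nat_lit 2655) (Tr.lf (Fc.ed (nat_lit 2654) (nat_lit 849) Col.d (nat_lit 991) Dv.df))
(Tr.nd (nat_lit 2656) (Tr.lf (Fc.ed (nat_lit 2655) (nat_lit 991) Col.a (nat_lit 850) (Dv.wd (nat_lit 182) [Mv.b (nat_lit 2346), Mv.b (nat_lit 2343), Mv.f (nat_lit 2654)])))
(Tr.lf (Fc.ed (nat_lit 2656) (nat_lit 991) Col.i (nat_lit 983) (Dv.wd (nat_lit 135) [Mv.b (nat_lit 2638), Mv.b (nat_lit 2345), Mv.f (nat_lit 2654)])))))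
(Tr.nd (nat_lit 2659) (Tr.nd (nat_lit 2658) (Tr.lf (Fc.ed (nat_lit 2657) (nat_lit 991) Col.h (nat_lit 886) (Dv.wd (nat_lit 105) [Mv.b (nat_lit 2426), Mv.b (nat_lit 2117), Mv.b (nat_lit 2065), Mv.b (nat_lit 2344), Mv.f (nat_lit 2654)])))
(Tr.lf (Fc.ed (nat_lit 2658) (nat_lit 850) Col.c (nat_lit 992) Dv.df)))
(Tr.nd (nat_lit 2660) (Tr.lf (Fc.ed (nat_lit 2659) (nat_lit 992) Col.h (nat_lit 891) (Dv.wd (nat_lit 30) [Mv.b (nat_lit 2435), Mv.b (nat_lit 2348), Mv.f (nat_lit 2658)])))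
(Tr.lf (Fc.ed (nat_lit 2660) (nat_lit 851) Col.e (nat_lit 993) Dv.df)))))
(Tr.nd (nat_lit 2665) (Tr.nd (nat_lit 2663) (Tr.nd (nat_lit 2662) (Tr.lf (Fc.ed (nat_lit 2661) (nat_lit 993) Col.i (nat_lit 986) (Dv.wd (nat_lit 136) [Mv.b (nat_lit 2645), Mv.b (nat_lit 2351), Mv.f (nat_lit 2660)])))
(Tr.lf (Fc.ed (nat_lit 2662) (nat_lit 851) Col.g (nat_lit 994) Dv.df)))
(Tr.nd (nat_lit 2664) (Tr.lf (Fc.ed (nat_lit 2663) (nat_lit 994) Col.d (nat_lit 852) (Dv.wd (nat_lit 97) [Mv.b (nat_lit 2352), Mv.b (nat_lit 2350), Mv.f (nat_lit 2662)])))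
(Tr.lf (Fc.ed (nat_lit 2664) (nat_lit 856) Col.f (nat_lit 995) Dv.df))))
(Tr.nd (nat_lit 2667) (Tr.nd (nat_lit 2666) (Tr.lf (Fc.ed (nat_lit 2665) (nat_lit 995) Col.c (nat_lit 858) (Dv.wd (nat_lit 91) [Mv.b (nat_lit 2366), Mv.b (nat_lit 2361), Mv.f (nat_lit 2664)])))
(Tr.lf (Fc.ed (nat_lit 2666) (nat_lit 857) Col.e (nat_lit 996) Dv.df)))
(Tr.nd (nat_lit 2668) (Tr.lf (Fc.ed (nat_lit 2667) (nat_lit 996) Col.b (nat_lit 996) (Dv.wd (nat_lit 153) [Mv.b (nat_lit 2666), Mv.f (nat_lit 2364), Mv.f (nat_lit 2666)])))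
(Tr.lf (Fc.ed (nat_lit 2668) (nat_lit 996) Col.c (nat_lit 859) (Dv.wd (nat_lit 86) [Mv.b (nat_lit 2368), Mv.b (nat_lit 2365), Mv.f (nat_lit 2666)]))))))))
(Tr.nd (nat_lit 2684) (Tr.nd (nat_lit 2676) (Tr.nd (nat_lit 2672) (Tr.nd (nat_lit 2670) (Tr.lf (Fc.ed (nat_lit 2669) (nat_lit 857) Col.g (nat_lit 997) Dv.df))
(Tr.nd (nat_lit 2671) (Tr.lf (Fc.ed (nat_lit 2670) (nat_lit 997) Col.f (nat_lit 997) (Dv.wd (nat_lit 99) [Mv.b (nat_lit 2669), Mv.b (nat_lit 2362), Mv.f (nat_lit 2069), Mv.f (nat_lit 2362), Mv.f (nat_lit 2669)])))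
(Tr.lf (Fc.ed (nat_lit 2671) (nat_lit 857) Col.h (nat_lit 998) Dv.df))))
(Tr.nd (nat_lit 2674) (Tr.nd (nat_lit 2673) (Tr.lf (Fc.ed (nat_lit 2672) (nat_lit 998) Col.l (nat_lit 998) (Dv.wd (nat_lit 100) [Mv.b (nat_lit 2671), Mv.f (nat_lit 2363), Mv.f (nat_lit 2671)])))
(Tr.lf (Fc.ed (nat_lit 2673) (nat_lit 998) Col.c (nat_lit 860) (Dv.wd (nat_lit 102) [Mv.b (nat_lit 2371), Mv.b (nat_lit 2365), Mv.f (nat_lit 2671)]))))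
(Tr.nd (nat_lit 2675) (Tr.lf (Fc.ed (nat_lit 2674) (nat_lit 858) Col.e (nat_lit 999) Dv.df))
(Tr.lf (Fc.ed (nat_lit 2675) (nat_lit 999) Col.b (nat_lit 861) (Dv.wd (nat_lit 153) [Mv.b (nat_lit 2373), Mv.b (nat_lit 2367), Mv.f (nat_lit 2674)]))))))
(Tr.nd (nat_lit 2680) (Tr.nd (nat_lit 2678) (Tr.nd (nat_lit 2677) (Tr.lf (Fc.ed (nat_lit 2676) (nat_lit 858) Col.g (nat_lit 1000) Dv.df))
(Tr.lf (Fc.ed (nat_lit 2677) (nat_lit 1000) Col.b (nat_lit 862) (Dv.wd (nat_lit 146) [Mv.b (nat_lit 2376), Mv.b (nat_lit 2367), Mv.f (nat_lit 2676)]))))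
(Tr.nd (nat_lit 2679) (Tr.lf (Fc.ed (nat_lit 2678) (nat_lit 859) Col.g (nat_lit 1001) Dv.df))
(Tr.lf (Fc.ed (nat_lit 2679) (nat_lit 1001) Col.b (nat_lit 865) (Dv.wd (nat_lit 146) [Mv.b (nat_lit 2384), Mv.b (nat_lit 2369), Mv.f (nat_lit 2678)])))))
(Tr.nd (nat_lit 2682) (Tr.nd (nat_lit 2681) (Tr.lf (Fc.ed (nat_lit 2680) (nat_lit 859) Col.h (nat_lit 1002) Dv.df))
(Tr.lf (Fc.ed (nat_lit 2681) (nat_lit 1002) Col.b (nat_lit 866) (Dv.wd (nat_lit 151) [Mv.b (nat_lit 2386), Mv.b (nat_lit 2369), Mv.f (nat_lit 2680)]))))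
(Tr.nd (nat_lit 2683) (Tr.lf (Fc.ed (nat_lit 2682) (nat_lit 860) Col.i (nat_lit 1003) Dv.df))
(Tr.lf (Fc.ed (nat_lit 2683) (nat_lit 1003) Col.b (nat_lit 867) (Dv.wd (nat_lit 144) [Mv.b (nat_lit 2388), Mv.b (nat_lit 2372), Mv.f (nat_lit 2682)])))))))
(Tr.nd (nat_lit 2691) (Tr.nd (nat_lit 2687) (Tr.nd (nat_lit 2685) (Tr.lf (Fc.ed (nat_lit 2684) (nat_lit 861) Col.g (nat_lit 1004) Dv.df))
(Tr.nd (nat_lit 2686) (Tr.lf (Fc.ed (nat_lit 2685) (nat_lit 1004) Col.e (nat_lit 862) (Dv.wd (nat_lit 98) [Mv.b (nat_lit 2376), Mv.f (nat_lit 2373), Mv.f (nat_lit 2684)])))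
(Tr.lf (Fc.ed (nat_lit 2686) (nat_lit 861) Col.h (nat_lit 1005) Dv.df))))
(Tr.nd (nat_lit 2689) (Tr.nd (nat_lit 2688) (Tr.lf (Fc.ed (nat_lit 2687) (nat_lit 1005) Col.a (nat_lit 869) (Dv.wd (nat_lit 124) [Mv.b (nat_lit 2392), Mv.b (nat_lit 2374), Mv.f (nat_lit 2686)])))
(Tr.lf (Fc.ed (nat_lit 2688) (nat_lit 1005) Col.e (nat_lit 863) (Dv.wd (nat_lit 103) [Mv.b (nat_lit 2379), Mv.f (nat_lit 2373), Mv.f (nat_lit 2686)]))))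
(Tr.nd (nat_lit 2690) (Tr.lf (Fc.ed (nat_lit 2689) (nat_lit 1005) Col.f (nat_lit 866) (Dv.wd (nat_lit 104) [Mv.b (nat_lit 2386), Mv.b (nat_lit 2375), Mv.f (nat_lit 2686)])))
(Tr.lf (Fc.ed (nat_lit 2690) (nat_lit 862) Col.h (nat_lit 1006) Dv.df)))))
(Tr.nd (nat_lit 2695) (Tr.nd (nat_lit 2693) (Tr.nd (nat_lit 2692) (Tr.lf (Fc.ed (nat_lit 2691) (nat_lit 1006) Col.c (nat_lit 1006) (Dv.wd (nat_lit 102) [Mv.b (nat_lit 2690), Mv.f (nat_lit 2377), Mv.f (nat_lit 2690)])))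
(Tr.lf (Fc.ed (nat_lit 2692) (nat_lit 863) Col.i (nat_lit 1007) Dv.df)))
(Tr.nd (nat_lit 2694) (Tr.lf (Fc.ed (nat_lit 2693) (nat_lit 1007) Col.f (nat_lit 864) (Dv.wd (nat_lit 112) [Mv.b (nat_lit 2381), Mv.b (nat_lit 2380), Mv.f (nat_lit 2692)])))
(Tr.lf (Fc.ed (nat_lit 2694) (nat_lit 865) Col.f (nat_lit 1008) Dv.df))))
(Tr.nd (nat_lit 2697) (Tr.nd (nat_lit 2696) (Tr.lf (Fc.ed (nat_lit 2695) (nat_lit 1008) Col.a (nat_lit 873) (Dv.wd (nat_lit 113) [Mv.b (nat_lit 2399), Mv.b (nat_lit 2385), Mv.f (nat_lit 2694)])))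
(Tr.lf (Fc.ed (nat_lit 2696) (nat_lit 866) Col.d (nat_lit 1009) Dv.df)))
(Tr.nd (nat_lit 2698) (Tr.lf (Fc.ed (nat_lit 2697) (nat_lit 1009) Col.e (nat_lit 1009) (Dv.wd (nat_lit 108) [Mv.b (nat_lit 2696), Mv.f (nat_lit 2387), Mv.f (nat_lit 2086), Mv.b (nat_lit 2387), Mv.f (nat_lit 2696)])))
(Tr.lf (Fc.ed (nat_lit 2698) (nat_lit 868) Col.h (nat_lit 1010) Dv.df)))))))))
(Tr.nd (nat_lit 2758) (Tr.nd (nat_lit 2728) (Tr.nd (nat_lit 2713) (Tr.nd (nat_lit 2706) (Tr.nd (nat_lit 2702) (Tr.nd (nat_lit 2700) (Tr.lf (Fc.ed (nat_lit 2699) (nat_lit 1010) Col.e (nat_lit 870) (Dv.wd (nat_lit 103) [Mv.b (nat_lit 2394), Mv.b (nat_lit 2391), Mv.f (nat_lit 2698)])))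
(Tr.nd (nat_lit 2701) (Tr.lf (Fc.ed (nat_lit 2700) (nat_lit 1010) Col.g (nat_lit 869) (Dv.wd (nat_lit 126) [Mv.b (nat_lit 2392), Mv.f (nat_lit 2390), Mv.f (nat_lit 2698)])))
(Tr.lf (Fc.ed (nat_lit 2701) (nat_lit 869) Col.d (nat_lit 1011) Dv.df))))
(Tr.nd (nat_lit 2704) (Tr.nd (nat_lit 2703) (Tr.lf (Fc.ed (nat_lit 2702) (nat_lit 1011) Col.f (nat_lit 876) (Dv.wd (nat_lit 37) [Mv.b (nat_lit 2407), Mv.b (nat_lit 2393), Mv.f (nat_lit 2701)])))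
(Tr.lf (Fc.ed (nat_lit 2703) (nat_lit 870) Col.d (nat_lit 1012) Dv.df)))
(Tr.nd (nat_lit 2705) (Tr.lf (Fc.ed (nat_lit 2704) (nat_lit 1012) Col.h (nat_lit 994) (Dv.wd (nat_lit 105) [Mv.f (nat_lit 2663), Mv.f (nat_lit 2353), Mv.b (nat_lit 2090), Mv.f (nat_lit 2394), Mv.f (nat_lit 2703)])))
(Tr.lf (Fc.ed (nat_lit 2705) (nat_lit 871) Col.b (nat_lit 1013) Dv.df)))))
(Tr.nd (nat_lit 2709) (Tr.nd (nat_lit 2707) (Tr.lf (Fc.ed (nat_lit 2706) (nat_lit 1013) Col.h (nat_lit 976) (Dv.wd (nat_lit 29) [Mv.f (nat_lit 2625), Mv.b (nat_lit 2396), Mv.f (nat_lit 2705)])))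
(Tr.nd (nat_lit 2708) (Tr.lf (Fc.ed (nat_lit 2707) (nat_lit 871) Col.i (nat_lit 1014) Dv.df))
(Tr.lf (Fc.ed (nat_lit 2708) (nat_lit 1014) Col.c (nat_lit 872) (Dv.wd (nat_lit 145) [Mv.b (nat_lit 2397), Mv.f (nat_lit 2395), Mv.f (nat_lit 2707)])))))
(Tr.nd (nat_lit 2711) (Tr.nd (nat_lit 2710) (Tr.lf (Fc.ed (nat_lit 2709) (nat_lit 873) Col.h (nat_lit 1015) Dv.df))
(Tr.lf (Fc.ed (nat_lit 2710) (nat_lit 1015) Col.l (nat_lit 1015) (Dv.wd (nat_lit 100) [Mv.b (nat_lit 2709), Mv.f (nat_lit 2400), Mv.f (nat_lit 2709)]))))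
(Tr.nd (nat_lit 2712) (Tr.lf (Fc.ed (nat_lit 2711) (nat_lit 1015) Col.c (nat_lit 1015) (Dv.wd (nat_lit 102) [Mv.b (nat_lit 2709), Mv.f (nat_lit 2401), Mv.f (nat_lit 2709)])))
(Tr.lf (Fc.ed (nat_lit 2712) (nat_lit 1015) Col.f (nat_lit 874) (Dv.wd (nat_lit 104) [Mv.b (nat_lit 2403), Mv.f (nat_lit 2399), Mv.f (nat_lit 2709)])))))))
(Tr.nd (nat_lit 2720) (Tr.nd (nat_lit 2716) (Tr.nd (nat_lit 2714) (Tr.lf (Fc.ed (nat_lit 2713) (nat_lit 874) Col.d (nat_lit 1016) Dv.df))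
(Tr.nd (nat_lit 2715) (Tr.lf (Fc.ed (nat_lit 2714) (nat_lit 1016) Col.e (nat_lit 1016) (Dv.wd (nat_lit 108) [Mv.b (nat_lit 2713), Mv.f (nat_lit 2404), Mv.f (nat_lit 2103), Mv.b (nat_lit 2404), Mv.f (nat_lit 2713)])))
(Tr.lf (Fc.ed (nat_lit 2715) (nat_lit 875) Col.d (nat_lit 1017) Dv.df))))
(Tr.nd (nat_lit 2718) (Tr.nd (nat_lit 2717) (Tr.lf (Fc.ed (nat_lit 2716) (nat_lit 1017) Col.j (nat_lit 876) (Dv.wd (nat_lit 201) [Mv.b (nat_lit 2407), Mv.b (nat_lit 2406), Mv.f (nat_lit 2715)])))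
(Tr.lf (Fc.ed (nat_lit 2717) (nat_lit 876) Col.c (nat_lit 1018) Dv.df)))
(Tr.nd (nat_lit 2719) (Tr.lf (Fc.ed (nat_lit 2718) (nat_lit 877) Col.f (nat_lit 1019) Dv.df))
(Tr.lf (Fc.ed (nat_lit 2719) (nat_lit 1019) Col.a (nat_lit 995) (Dv.wd (nat_lit 113) [Mv.b (nat_lit 2664), Mv.b (nat_lit 2409), Mv.f (nat_lit 2718)]))))))
(Tr.nd (nat_lit 2724) (Tr.nd (nat_lit 2722) (Tr.nd (nat_lit 2721) (Tr.lf (Fc.ed (nat_lit 2720) (nat_lit 1019) Col.c (nat_lit 880) (Dv.wd (nat_lit 91) [Mv.b (nat_lit 2415), Mv.b (nat_lit 2410), Mv.f (nat_lit 2718)])))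
(Tr.lf (Fc.ed (nat_lit 2721) (nat_lit 878) Col.e (nat_lit 1020) Dv.df)))
(Tr.nd (nat_lit 2723) (Tr.lf (Fc.ed (nat_lit 2722) (nat_lit 1020) Col.a (nat_lit 996) (Dv.wd (nat_lit 152) [Mv.b (nat_lit 2666), Mv.b (nat_lit 2412), Mv.f (nat_lit 2721)])))
(Tr.lf (Fc.ed (nat_lit 2723) (nat_lit 1020) Col.c (nat_lit 882) (Dv.wd (nat_lit 86) [Mv.b (nat_lit 2419), Mv.b (nat_lit 2413), Mv.f (nat_lit 2721)])))))
(Tr.nd (nat_lit 2726) (Tr.nd (nat_lit 2725) (Tr.lf (Fc.ed (nat_lit 2724) (nat_lit 878) Col.g (nat_lit 1021) Dv.df))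
(Tr.lf (Fc.ed (nat_lit 2725) (nat_lit 1021) Col.a (nat_lit 997) (Dv.wd (nat_lit 174) [Mv.b (nat_lit 2669), Mv.b (nat_lit 2412), Mv.f (nat_lit 2724)]))))
(Tr.nd (nat_lit 2727) (Tr.lf (Fc.ed (nat_lit 2726) (nat_lit 878) Col.h (nat_lit 1022) Dv.df))
(Tr.lf (Fc.ed (nat_lit 2727) (nat_lit 1022) Col.a (nat_lit 998) (Dv.wd (nat_lit 124) [Mv.b (nat_lit 2671), Mv.b (nat_lit 2412), Mv.f (nat_lit 2726)]))))))))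
(Tr.nd (nat_lit 2743) (Tr.nd (nat_lit 2735) (Tr.nd (nat_lit 2731) (Tr.nd (nat_lit 2729) (Tr.lf (Fc.ed (nat_lit 2728) (nat_lit 1022) Col.f (nat_lit 879) (Dv.wd (nat_lit 104) [Mv.b (nat_lit 2414), Mv.f (nat_lit 2411), Mv.f (nat_lit 2726)])))
(Tr.nd (nat_lit 2730) (Tr.lf (Fc.ed (nat_lit 2729) (nat_lit 879) Col.d (nat_lit 1023) Dv.df))
(Tr.lf (Fc.ed (nat_lit 2730) (nat_lit 880) Col.e (nat_lit 1024) Dv.df))))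
(Tr.nd (nat_lit 2733) (Tr.nd (nat_lit 2732) (Tr.lf (Fc.ed (nat_lit 2731) (nat_lit 1024) Col.a (nat_lit 999) (Dv.wd (nat_lit 152) [Mv.b (nat_lit 2674), Mv.b (nat_lit 2416), Mv.f (nat_lit 2730)])))
(Tr.lf (Fc.ed (nat_lit 2732) (nat_lit 1024) Col.b (nat_lit 883) (Dv.wd (nat_lit 153) [Mv.b (nat_lit 2421), Mv.b (nat_lit 2417), Mv.f (nat_lit 2730)]))))
(Tr.nd (nat_lit 2734) (Tr.lf (Fc.ed (nat_lit 2733) (nat_lit 1024) Col.f (nat_lit 882) (Dv.wd (nat_lit 109) [Mv.b (nat_lit 2419), Mv.b (nat_lit 2113), Mv.f (nat_lit 2109), Mv.f (nat_lit 2415), Mv.f (nat_lit 2730)])))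
(Tr.lf (Fc.ed (nat_lit 2734) (nat_lit 880) Col.g (nat_lit 1025) Dv.df)))))
(Tr.nd (nat_lit 2739) (Tr.nd (nat_lit 2737) (Tr.nd (nat_lit 2736) (Tr.lf (Fc.ed (nat_lit 2735) (nat_lit 1025) Col.a (nat_lit 1000) (Dv.wd (nat_lit 174) [Mv.b (nat_lit 2676), Mv.b (nat_lit 2416), Mv.f (nat_lit 2734)])))
(Tr.lf (Fc.ed (nat_lit 2736) (nat_lit 1025) Col.f (nat_lit 1025) (Dv.wd (nat_lit 99) [Mv.b (nat_lit 2734), Mv.b (nat_lit 2415), Mv.f (nat_lit 2112), Mv.f (nat_lit 2415), Mv.f (nat_lit 2734)]))))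
(Tr.nd (nat_lit 2738) (Tr.lf (Fc.ed (nat_lit 2737) (nat_lit 880) Col.h (nat_lit 1026) Dv.df))
(Tr.lf (Fc.ed (nat_lit 2738) (nat_lit 1026) Col.f (nat_lit 881) (Dv.wd (nat_lit 104) [Mv.b (nat_lit 2418), Mv.f (nat_lit 2415), Mv.f (nat_lit 2737)])))))
(Tr.nd (nat_lit 2741) (Tr.nd (nat_lit 2740) (Tr.lf (Fc.ed (nat_lit 2739) (nat_lit 881) Col.d (nat_lit 1027) Dv.df))
(Tr.lf (Fc.ed (nat_lit 2740) (nat_lit 882) Col.h (nat_lit 1028) Dv.df)))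
(Tr.nd (nat_lit 2742) (Tr.lf (Fc.ed (nat_lit 2741) (nat_lit 1028) Col.a (nat_lit 1002) (Dv.wd (nat_lit 124) [Mv.b (nat_lit 2680), Mv.b (nat_lit 2420), Mv.f (nat_lit 2740)])))
(Tr.lf (Fc.ed (nat_lit 2742) (nat_lit 883) Col.g (nat_lit 1029) Dv.df))))))
(Tr.nd (nat_lit 2750) (Tr.nd (nat_lit 2746) (Tr.nd (nat_lit 2744) (Tr.lf (Fc.ed (nat_lit 2743) (nat_lit 1029) Col.a (nat_lit 889) (Dv.wd (nat_lit 174) [Mv.b (nat_lit 2432), Mv.b (nat_lit 2422), Mv.f (nat_lit 2742)])))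
(Tr.nd (nat_lit 2745) (Tr.lf (Fc.ed (nat_lit 2744) (nat_lit 883) Col.h (nat_lit 1030) Dv.df))
(Tr.lf (Fc.ed (nat_lit 2745) (nat_lit 1030) Col.e (nat_lit 885) (Dv.wd (nat_lit 103) [Mv.b (nat_lit 2424), Mv.f (nat_lit 2421), Mv.f (nat_lit 2744)])))))
(Tr.nd (nat_lit 2748) (Tr.nd (nat_lit 2747) (Tr.lf (Fc.ed (nat_lit 2746) (nat_lit 884) Col.h (nat_lit 1031) Dv.df))
(Tr.lf (Fc.ed (nat_lit 2747) (nat_lit 1031) Col.g (nat_lit 885) (Dv.wd (nat_lit 126) [Mv.b (nat_lit 2424), Mv.f (nat_lit 2423), Mv.f (nat_lit 2746)]))))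
(Tr.nd (nat_lit 2749) (Tr.lf (Fc.ed (nat_lit 2748) (nat_lit 885) Col.d (nat_lit 1032) Dv.df))
(Tr.lf (Fc.ed (nat_lit 2749) (nat_lit 1032) Col.f (nat_lit 886) (Dv.wd (nat_lit 37) [Mv.b (nat_lit 2426), Mv.b (nat_lit 2425), Mv.f (nat_lit 2748)]))))))
(Tr.nd (nat_lit 2754) (Tr.nd (nat_lit 2752) (Tr.nd (nat_lit 2751) (Tr.lf (Fc.ed (nat_lit 2750) (nat_lit 886) Col.c (nat_lit 1033) Dv.df))
(Tr.lf (Fc.ed (nat_lit 2751) (nat_lit 887) Col.f (nat_lit 1034) Dv.df)))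
(Tr.nd (nat_lit 2753) (Tr.lf (Fc.ed (nat_lit 2752) (nat_lit 1034) Col.a (nat_lit 892) (Dv.wd (nat_lit 113) [Mv.b (nat_lit 2436), Mv.b (nat_lit 2428), Mv.f (nat_lit 2751)])))
(Tr.lf (Fc.ed (nat_lit 2753) (nat_lit 888) Col.h (nat_lit 1035) Dv.df))))
(Tr.nd (nat_lit 2756) (Tr.nd (nat_lit 2755) (Tr.lf (Fc.ed (nat_lit 2754) (nat_lit 1035) Col.a (nat_lit 893) (Dv.wd (nat_lit 124) [Mv.b (nat_lit 2438), Mv.b (nat_lit 2431), Mv.f (nat_lit 2753)])))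
(Tr.lf (Fc.ed (nat_lit 2755) (nat_lit 890) Col.c (nat_lit 1036) Dv.df)))
(Tr.nd (nat_lit 2757) (Tr.lf (Fc.ed (nat_lit 2756) (nat_lit 1036) Col.f (nat_lit 891) (Dv.wd (nat_lit 36) [Mv.b (nat_lit 2435), Mv.b (nat_lit 2434), Mv.f (nat_lit 2755)])))
(Tr.lf (Fc.ed (nat_lit 2757) (nat_lit 892) Col.h (nat_lit 1037) Dv.df))))))))
(Tr.nd (nat_lit 2787) (Tr.nd (nat_lit 2772) (Tr.nd (nat_lit 2765) (Tr.nd (nat_lit 2761) (Tr.nd (nat_lit 2759) (Tr.lf (Fc.ed (nat_lit 2758) (nat_lit 1037) Col.b (nat_lit 1015) (Dv.wd (nat_lit 151) [Mv.b (nat_lit 2709), Mv.b (nat_lit 2437), Mv.f (nat_lit 2757)])))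
(Tr.nd (nat_lit 2760) (Tr.lf (Fc.ed (nat_lit 2759) (nat_lit 893) Col.d (nat_lit 1038) Dv.df))
(Tr.lf (Fc.ed (nat_lit 2760) (nat_lit 1038) Col.b (nat_lit 1017) (Dv.wd (nat_lit 183) [Mv.b (nat_lit 2715), Mv.b (nat_lit 2439), Mv.f (nat_lit 2759)])))))
(Tr.nd (nat_lit 2763) (Tr.nd (nat_lit 2762) (Tr.lf (Fc.ed (nat_lit 2761) (nat_lit 894) Col.k (nat_lit 1039) Dv.df))
(Tr.lf (Fc.ed (nat_lit 2762) (nat_lit 1039) Col.b (nat_lit 1039) (Dv.wd (nat_lit 21) [Mv.b (nat_lit 2761), Mv.f (nat_lit 2442), Mv.f (nat_lit 2761)]))))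
(Tr.nd (nat_lit 2764) (Tr.lf (Fc.ed (nat_lit 2763) (nat_lit 1039) Col.e (nat_lit 1039) (Dv.wd (nat_lit 24) [Mv.b (nat_lit 2761), Mv.f (nat_lit 2441), Mv.f (nat_lit 2761)])))
(Tr.lf (Fc.ed (nat_lit 2764) (nat_lit 1039) Col.a (nat_lit 1039) (Dv.wd (nat_lit 120) [Mv.b (nat_lit 2761), Mv.b (nat_lit 2440), Mv.f (nat_lit 2133), Mv.f (nat_lit 2440), Mv.f (nat_lit 2761)]))))))
(Tr.nd (nat_lit 2768) (Tr.nd (nat_lit 2766) (Tr.lf (Fc.ed (nat_lit 2765) (nat_lit 895) Col.g (nat_lit 1040) Dv.df))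
(Tr.nd (nat_lit 2767) (Tr.lf (Fc.ed (nat_lit 2766) (nat_lit 1040) Col.b (nat_lit 1021) (Dv.wd (nat_lit 146) [Mv.b (nat_lit 2724), Mv.b (nat_lit 2444), Mv.f (nat_lit 2765)])))
(Tr.lf (Fc.ed (nat_lit 2767) (nat_lit 1040) Col.c (nat_lit 899) (Dv.wd (nat_lit 96) [Mv.b (nat_lit 2454), Mv.b (nat_lit 2445), Mv.f (nat_lit 2765)])))))
(Tr.nd (nat_lit 2770) (Tr.nd (nat_lit 2769) (Tr.lf (Fc.ed (nat_lit 2768) (nat_lit 896) Col.d (nat_lit 1041) Dv.df))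
(Tr.lf (Fc.ed (nat_lit 2769) (nat_lit 1041) Col.b (nat_lit 1023) (Dv.wd (nat_lit 183) [Mv.b (nat_lit 2729), Mv.b (nat_lit 2447), Mv.f (nat_lit 2768)]))))
(Tr.nd (nat_lit 2771) (Tr.lf (Fc.ed (nat_lit 2770) (nat_lit 897) Col.h (nat_lit 1042) Dv.df))
(Tr.lf (Fc.ed (nat_lit 2771) (nat_lit 1042) Col.a (nat_lit 1042) (Dv.wd (nat_lit 124) [Mv.b (nat_lit 2770), Mv.f (nat_lit 2450), Mv.f (nat_lit 2770)])))))))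
(Tr.nd (nat_lit 2779) (Tr.nd (nat_lit 2775) (Tr.nd (nat_lit 2773) (Tr.lf (Fc.ed (nat_lit 2772) (nat_lit 1042) Col.b (nat_lit 902) (Dv.wd (nat_lit 151) [Mv.b (nat_lit 2460), Mv.b (nat_lit 2451), Mv.f (nat_lit 2770)])))
(Tr.nd (nat_lit 2774) (Tr.lf (Fc.ed (nat_lit 2773) (nat_lit 1042) Col.f (nat_lit 898) (Dv.wd (nat_lit 104) [Mv.b (nat_lit 2452), Mv.f (nat_lit 2449), Mv.f (nat_lit 2770)])))
(Tr.lf (Fc.ed (nat_lit 2774) (nat_lit 898) Col.d (nat_lit 1043) Dv.df))))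
(Tr.nd (nat_lit 2777) (Tr.nd (nat_lit 2776) (Tr.lf (Fc.ed (nat_lit 2775) (nat_lit 899) Col.h (nat_lit 1044) Dv.df))
(Tr.lf (Fc.ed (nat_lit 2776) (nat_lit 900) Col.g (nat_lit 1045) Dv.df)))
(Tr.nd (nat_lit 2778) (Tr.lf (Fc.ed (nat_lit 2777) (nat_lit 1045) Col.c (nat_lit 1029) (Dv.wd (nat_lit 96) [Mv.b (nat_lit 2742), Mv.b (nat_lit 2457), Mv.f (nat_lit 2776)])))
(Tr.lf (Fc.ed (nat_lit 2778) (nat_lit 1045) Col.e (nat_lit 901) (Dv.wd (nat_lit 98) [Mv.b (nat_lit 2458), Mv.f (nat_lit 2456), Mv.f (nat_lit 2776)]))))))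
(Tr.nd (nat_lit 2783) (Tr.nd (nat_lit 2781) (Tr.nd (nat_lit 2780) (Tr.lf (Fc.ed (nat_lit 2779) (nat_lit 901) Col.h (nat_lit 1046) Dv.df))
(Tr.lf (Fc.ed (nat_lit 2780) (nat_lit 1046) Col.c (nat_lit 1031) (Dv.wd (nat_lit 102) [Mv.b (nat_lit 2746), Mv.b (nat_lit 2459), Mv.f (nat_lit 2779)]))))
(Tr.nd (nat_lit 2782) (Tr.lf (Fc.ed (nat_lit 2781) (nat_lit 902) Col.d (nat_lit 1047) Dv.df))
(Tr.lf (Fc.ed (nat_lit 2782) (nat_lit 903) Col.j (nat_lit 1048) Dv.df))))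
(Tr.nd (nat_lit 2785) (Tr.nd (nat_lit 2784) (Tr.lf (Fc.ed (nat_lit 2783) (nat_lit 1048) Col.d (nat_lit 904) (Dv.wd (nat_lit 202) [Mv.b (nat_lit 2464), Mv.f (nat_lit 2462), Mv.f (nat_lit 2782)])))
(Tr.lf (Fc.ed (nat_lit 2784) (nat_lit 1048) Col.e (nat_lit 905) (Dv.wd (nat_lit 203) [Mv.b (nat_lit 2466), Mv.b (nat_lit 2463), Mv.f (nat_lit 2782)]))))
(Tr.nd (nat_lit 2786) (Tr.lf (Fc.ed (nat_lit 2785) (nat_lit 904) Col.h (nat_lit 1049) Dv.df))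
(Tr.lf (Fc.ed (nat_lit 2786) (nat_lit 1049) Col.c (nat_lit 1035) (Dv.wd (nat_lit 102) [Mv.b (nat_lit 2753), Mv.b (nat_lit 2465), Mv.f (nat_lit 2785)]))))))))
(Tr.nd (nat_lit 2802) (Tr.nd (nat_lit 2794) (Tr.nd (nat_lit 2790) (Tr.nd (nat_lit 2788) (Tr.lf (Fc.ed (nat_lit 2787) (nat_lit 905) Col.h (nat_lit 1050) Dv.df))
(Tr.nd (nat_lit 2789) (Tr.lf (Fc.ed (nat_lit 2788) (nat_lit 1050) Col.j (nat_lit 906) (Dv.wd (nat_lit 195) [Mv.b (nat_lit 2467), Mv.f (nat_lit 2466), Mv.f (nat_lit 2787)])))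
(Tr.lf (Fc.ed (nat_lit 2789) (nat_lit 910) Col.d (nat_lit 1051) Dv.df))))
(Tr.nd (nat_lit 2792) (Tr.nd (nat_lit 2791) (Tr.lf (Fc.ed (nat_lit 2790) (nat_lit 911) Col.c (nat_lit 1052) Dv.df))
(Tr.lf (Fc.ed (nat_lit 2791) (nat_lit 1052) Col.d (nat_lit 1036) (Dv.wd (nat_lit 106) [Mv.b (nat_lit 2755), Mv.b (nat_lit 2433), Mv.b (nat_lit 2158), Mv.f (nat_lit 2479), Mv.f (nat_lit 2790)]))))
(Tr.nd (nat_lit 2793) (Tr.lf (Fc.ed (nat_lit 2792) (nat_lit 911) Col.e (nat_lit 1053) Dv.df))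
(Tr.lf (Fc.ed (nat_lit 2793) (nat_lit 913) Col.k (nat_lit 1054) Dv.df)))))
(Tr.nd (nat_lit 2798) (Tr.nd (nat_lit 2796) (Tr.nd (nat_lit 2795) (Tr.lf (Fc.ed (nat_lit 2794) (nat_lit 1054) Col.h (nat_lit 1039) (Dv.wd (nat_lit 27) [Mv.b (nat_lit 2761), Mv.b (nat_lit 2484), Mv.f (nat_lit 2793)])))
(Tr.lf (Fc.ed (nat_lit 2795) (nat_lit 914) Col.f (nat_lit 1055) Dv.df)))
(Tr.nd (nat_lit 2797) (Tr.lf (Fc.ed (nat_lit 2796) (nat_lit 1055) Col.b (nat_lit 915) (Dv.wd (nat_lit 114) [Mv.b (nat_lit 2487), Mv.b (nat_lit 2486), Mv.f (nat_lit 2795)])))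
(Tr.lf (Fc.ed (nat_lit 2797) (nat_lit 915) Col.e (nat_lit 1056) Dv.df))))
(Tr.nd (nat_lit 2800) (Tr.nd (nat_lit 2799) (Tr.lf (Fc.ed (nat_lit 2798) (nat_lit 1056) Col.i (nat_lit 947) (Dv.wd (nat_lit 136) [Mv.f (nat_lit 2553), Mv.f (nat_lit 2531), Mv.f (nat_lit 2797)])))
(Tr.lf (Fc.ed (nat_lit 2799) (nat_lit 915) Col.h (nat_lit 1057) Dv.df)))
(Tr.nd (nat_lit 2801) (Tr.lf (Fc.ed (nat_lit 2800) (nat_lit 1057) Col.k (nat_lit 925) (Dv.wd (nat_lit 101) [Mv.b (nat_lit 2510), Mv.b (nat_lit 2488), Mv.f (nat_lit 2799)])))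
(Tr.lf (Fc.ed (nat_lit 2801) (nat_lit 917) Col.d (nat_lit 1058) Dv.df))))))
(Tr.nd (nat_lit 2809) (Tr.nd (nat_lit 2805) (Tr.nd (nat_lit 2803) (Tr.lf (Fc.ed (nat_lit 2802) (nat_lit 917) Col.h (nat_lit 1059) Dv.df))
(Tr.nd (nat_lit 2804) (Tr.lf (Fc.ed (nat_lit 2803) (nat_lit 1059) Col.c (nat_lit 921) (Dv.wd (nat_lit 102) [Mv.b (nat_lit 2499), Mv.b (nat_lit 2492), Mv.f (nat_lit 2802)])))
(Tr.lf (Fc.ed (nat_lit 2804) (nat_lit 918) Col.e (nat_lit 1060) Dv.df))))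
(Tr.nd (nat_lit 2807) (Tr.nd (nat_lit 2806) (Tr.lf (Fc.ed (nat_lit 2805) (nat_lit 1060) Col.c (nat_lit 922) (Dv.wd (nat_lit 86) [Mv.b (nat_lit 2502), Mv.b (nat_lit 2494), Mv.f (nat_lit 2804)])))
(Tr.lf (Fc.ed (nat_lit 2806) (nat_lit 918) Col.h (nat_lit 1061) Dv.df)))
(Tr.nd (nat_lit 2808) (Tr.lf (Fc.ed (nat_lit 2807) (nat_lit 1061) Col.f (nat_lit 919) (Dv.wd (nat_lit 104) [Mv.b (nat_lit 2495), Mv.f (nat_lit 2493), Mv.f (nat_lit 2806)])))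
(Tr.lf (Fc.ed (nat_lit 2808) (nat_lit 919) Col.d (nat_lit 1062) Dv.df)))))
(Tr.nd (nat_lit 2813) (Tr.nd (nat_lit 2811) (Tr.nd (nat_lit 2810) (Tr.lf (Fc.ed (nat_lit 2809) (nat_lit 1062) Col.c (nat_lit 1041) (Dv.wd (nat_lit 83) [Mv.b (nat_lit 2768), Mv.f (nat_lit 2448), Mv.b (nat_lit 2182), Mv.b (nat_lit 2496), Mv.f (nat_lit 2808)])))
(Tr.lf (Fc.ed (nat_lit 2810) (nat_lit 919) Col.i (nat_lit 1063) Dv.df)))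
(Tr.nd (nat_lit 2812) (Tr.lf (Fc.ed (nat_lit 2811) (nat_lit 920) Col.e (nat_lit 1064) Dv.df))
(Tr.lf (Fc.ed (nat_lit 2812) (nat_lit 1064) Col.f (nat_lit 922) (Dv.wd (nat_lit 109) [Mv.b (nat_lit 2502), Mv.b (nat_lit 2177), Mv.f (nat_lit 2175), Mv.f (nat_lit 2497), Mv.f (nat_lit 2811)])))))
(Tr.nd (nat_lit 2815) (Tr.nd (nat_lit 2814) (Tr.lf (Fc.ed (nat_lit 2813) (nat_lit 920) Col.h (nat_lit 1065) Dv.df))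
(Tr.lf (Fc.ed (nat_lit 2814) (nat_lit 1065) Col.b (nat_lit 925) (Dv.wd (nat_lit 151) [Mv.b (nat_lit 2510), Mv.b (nat_lit 2498), Mv.f (nat_lit 2813)]))))
(Tr.nd (nat_lit 2816) (Tr.lf (Fc.ed (nat_lit 2815) (nat_lit 921) Col.d (nat_lit 1066) Dv.df))
(Tr.lf (Fc.ed (nat_lit 2816) (nat_lit 1066) Col.b (nat_lit 926) (Dv.wd (nat_lit 183) [Mv.b (nat_lit 2512), Mv.b (nat_lit 2500), Mv.f (nat_lit 2815)])))))))))))))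
(Tr.nd (nat_lit 3287) (Tr.nd (nat_lit 3052) (Tr.nd (nat_lit 2934) (Tr.nd (nat_lit 2875) (Tr.nd (nat_lit 2846) (Tr.nd (nat_lit 2831) (Tr.nd (nat_lit 2824) (Tr.nd (nat_lit 2820) (Tr.nd (nat_lit 2818) (Tr.lf (Fc.ed (nat_lit 2817) (nat_lit 1066) Col.e (nat_lit 1043) (Dv.wd (nat_lit 108) [Mv.b (nat_lit 2774), Mv.f (nat_lit 2453), Mv.b (nat_lit 2182), Mv.b (nat_lit 2501), Mv.f (nat_lit 2815)])))
(Tr.nd (nat_lit 2819) (Tr.lf (Fc.ed (nat_lit 2818) (nat_lit 922) Col.g (nat_lit 1067) Dv.df))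
(Tr.lf (Fc.ed (nat_lit 2819) (nat_lit 1067) Col.e (nat_lit 923) (Dv.wd (nat_lit 98) [Mv.b (nat_lit 2503), Mv.f (nat_lit 2502), Mv.f (nat_lit 2818)])))))
(Tr.nd (nat_lit 2822) (Tr.nd (nat_lit 2821) (Tr.lf (Fc.ed (nat_lit 2820) (nat_lit 923) Col.h (nat_lit 1068) Dv.df))
(Tr.lf (Fc.ed (nat_lit 2821) (nat_lit 1068) Col.f (nat_lit 1068) (Dv.wd (nat_lit 104) [Mv.b (nat_lit 2820), Mv.f (nat_lit 2507), Mv.f (nat_lit 2820)]))))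
(Tr.nd (nat_lit 2823) (Tr.lf (Fc.ed (nat_lit 2822) (nat_lit 1068) Col.d (nat_lit 1044) (Dv.wd (nat_lit 141) [Mv.b (nat_lit 2775), Mv.f (nat_lit 2455), Mv.b (nat_lit 2184), Mv.b (nat_lit 2506), Mv.f (nat_lit 2820)])))
(Tr.lf (Fc.ed (nat_lit 2823) (nat_lit 924) Col.h (nat_lit 1069) Dv.df)))))
(Tr.nd (nat_lit 2827) (Tr.nd (nat_lit 2825) (Tr.lf (Fc.ed (nat_lit 2824) (nat_lit 1069) Col.e (nat_lit 925) (Dv.wd (nat_lit 103) [Mv.b (nat_lit 2510), Mv.f (nat_lit 2508), Mv.f (nat_lit 2823)])))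
(Tr.nd (nat_lit 2826) (Tr.lf (Fc.ed (nat_lit 2825) (nat_lit 1069) Col.f (nat_lit 928) (Dv.wd (nat_lit 104) [Mv.b (nat_lit 2516), Mv.b (nat_lit 2509), Mv.f (nat_lit 2823)])))
(Tr.lf (Fc.ed (nat_lit 2826) (nat_lit 925) Col.d (nat_lit 1070) Dv.df))))
(Tr.nd (nat_lit 2829) (Tr.nd (nat_lit 2828) (Tr.lf (Fc.ed (nat_lit 2827) (nat_lit 1070) Col.a (nat_lit 931) (Dv.wd (nat_lit 182) [Mv.b (nat_lit 2522), Mv.b (nat_lit 2511), Mv.f (nat_lit 2826)])))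
(Tr.lf (Fc.ed (nat_lit 2828) (nat_lit 926) Col.i (nat_lit 1071) Dv.df)))
(Tr.nd (nat_lit 2830) (Tr.lf (Fc.ed (nat_lit 2829) (nat_lit 1071) Col.a (nat_lit 932) (Dv.wd (nat_lit 116) [Mv.b (nat_lit 2524), Mv.b (nat_lit 2513), Mv.f (nat_lit 2828)])))
(Tr.lf (Fc.ed (nat_lit 2830) (nat_lit 927) Col.h (nat_lit 1072) Dv.df))))))
(Tr.nd (nat_lit 2838) (Tr.nd (nat_lit 2834) (Tr.nd (nat_lit 2832) (Tr.lf (Fc.ed (nat_lit 2831) (nat_lit 1072) Col.g (nat_lit 928) (Dv.wd (nat_lit 126) [Mv.b (nat_lit 2516), Mv.f (nat_lit 2514), Mv.f (nat_lit 2830)])))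
(Tr.nd (nat_lit 2833) (Tr.lf (Fc.ed (nat_lit 2832) (nat_lit 928) Col.d (nat_lit 1073) Dv.df))
(Tr.lf (Fc.ed (nat_lit 2833) (nat_lit 931) Col.e (nat_lit 1074) Dv.df))))
(Tr.nd (nat_lit 2836) (Tr.nd (nat_lit 2835) (Tr.lf (Fc.ed (nat_lit 2834) (nat_lit 1074) Col.f (nat_lit 1053) (Dv.wd (nat_lit 109) [Mv.b (nat_lit 2792), Mv.f (nat_lit 2480), Mv.b (nat_lit 2203), Mv.b (nat_lit 2523), Mv.f (nat_lit 2833)])))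
(Tr.lf (Fc.ed (nat_lit 2835) (nat_lit 931) Col.i (nat_lit 1075) Dv.df)))
(Tr.nd (nat_lit 2837) (Tr.lf (Fc.ed (nat_lit 2836) (nat_lit 1075) Col.f (nat_lit 932) (Dv.wd (nat_lit 112) [Mv.b (nat_lit 2524), Mv.b (nat_lit 2523), Mv.f (nat_lit 2835)])))
(Tr.lf (Fc.ed (nat_lit 2837) (nat_lit 932) Col.h (nat_lit 1076) Dv.df)))))
(Tr.nd (nat_lit 2842) (Tr.nd (nat_lit 2840) (Tr.nd (nat_lit 2839) (Tr.lf (Fc.ed (nat_lit 2838) (nat_lit 933) Col.k (nat_lit 1077) Dv.df))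
(Tr.lf (Fc.ed (nat_lit 2839) (nat_lit 1077) Col.i (nat_lit 1054) (Dv.wd (nat_lit 119) [Mv.b (nat_lit 2793), Mv.b (nat_lit 2527), Mv.f (nat_lit 2838)]))))
(Tr.nd (nat_lit 2841) (Tr.lf (Fc.ed (nat_lit 2840) (nat_lit 934) Col.f (nat_lit 1078) Dv.df))
(Tr.lf (Fc.ed (nat_lit 2841) (nat_lit 1078) Col.i (nat_lit 1055) (Dv.wd (nat_lit 150) [Mv.b (nat_lit 2795), Mv.b (nat_lit 2529), Mv.f (nat_lit 2840)])))))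
(Tr.nd (nat_lit 2844) (Tr.nd (nat_lit 2843) (Tr.lf (Fc.ed (nat_lit 2842) (nat_lit 936) Col.d (nat_lit 1079) Dv.df))
(Tr.lf (Fc.ed (nat_lit 2843) (nat_lit 1079) Col.i (nat_lit 1058) (Dv.wd (nat_lit 135) [Mv.b (nat_lit 2801), Mv.b (nat_lit 2534), Mv.f (nat_lit 2842)]))))
(Tr.nd (nat_lit 2845) (Tr.lf (Fc.ed (nat_lit 2844) (nat_lit 936) Col.h (nat_lit 1080) Dv.df))
(Tr.lf (Fc.ed (nat_lit 2845) (nat_lit 1080) Col.c (nat_lit 938) (Dv.wd (nat_lit 102) [Mv.b (nat_lit 2536), Mv.b (nat_lit 2533), Mv.f (nat_lit 2844)]))))))))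
(Tr.nd (nat_lit 2860) (Tr.nd (nat_lit 2853) (Tr.nd (nat_lit 2849) (Tr.nd (nat_lit 2847) (Tr.lf (Fc.ed (nat_lit 2846) (nat_lit 1080) Col.e (nat_lit 937) (Dv.wd (nat_lit 103) [Mv.b (nat_lit 2535), Mv.f (nat_lit 2532), Mv.f (nat_lit 2844)])))
(Tr.nd (nat_lit 2848) (Tr.lf (Fc.ed (nat_lit 2847) (nat_lit 937) Col.d (nat_lit 1081) Dv.df))
(Tr.lf (Fc.ed (nat_lit 2848) (nat_lit 937) Col.i (nat_lit 1082) Dv.df))))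
(Tr.nd (nat_lit 2851) (Tr.nd (nat_lit 2850) (Tr.lf (Fc.ed (nat_lit 2849) (nat_lit 1082) Col.h (nat_lit 1063) (Dv.wd (nat_lit 193) [Mv.b (nat_lit 2810), Mv.b (nat_lit 2495), Mv.b (nat_lit 2217), Mv.f (nat_lit 2535), Mv.f (nat_lit 2848)])))
(Tr.lf (Fc.ed (nat_lit 2850) (nat_lit 939) Col.k (nat_lit 1083) Dv.df)))
(Tr.nd (nat_lit 2852) (Tr.lf (Fc.ed (nat_lit 2851) (nat_lit 1083) Col.f (nat_lit 1077) (Dv.wd (nat_lit 25) [Mv.b (nat_lit 2838), Mv.b (nat_lit 2539), Mv.f (nat_lit 2850)])))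
(Tr.lf (Fc.ed (nat_lit 2852) (nat_lit 939) Col.d (nat_lit 1084) Dv.df)))))
(Tr.nd (nat_lit 2856) (Tr.nd (nat_lit 2854) (Tr.lf (Fc.ed (nat_lit 2853) (nat_lit 1084) Col.a (nat_lit 940) (Dv.wd (nat_lit 182) [Mv.b (nat_lit 2540), Mv.f (nat_lit 2538), Mv.f (nat_lit 2852)])))
(Tr.nd (nat_lit 2855) (Tr.lf (Fc.ed (nat_lit 2854) (nat_lit 940) Col.c (nat_lit 1085) Dv.df))
(Tr.lf (Fc.ed (nat_lit 2855) (nat_lit 1085) Col.b (nat_lit 1085) (Dv.wd (nat_lit 178) [Mv.b (nat_lit 2854), Mv.f (nat_lit 2541), Mv.f (nat_lit 2225), Mv.b (nat_lit 2541), Mv.f (nat_lit 2854)])))))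
(Tr.nd (nat_lit 2858) (Tr.nd (nat_lit 2857) (Tr.lf (Fc.ed (nat_lit 2856) (nat_lit 940) Col.g (nat_lit 1086) Dv.df))
(Tr.lf (Fc.ed (nat_lit 2857) (nat_lit 1086) Col.d (nat_lit 941) (Dv.wd (nat_lit 97) [Mv.b (nat_lit 2542), Mv.f (nat_lit 2540), Mv.f (nat_lit 2856)]))))
(Tr.nd (nat_lit 2859) (Tr.lf (Fc.ed (nat_lit 2858) (nat_lit 943) Col.h (nat_lit 1087) Dv.df))
(Tr.lf (Fc.ed (nat_lit 2859) (nat_lit 1087) Col.k (nat_lit 948) (Dv.wd (nat_lit 101) [Mv.b (nat_lit 2554), Mv.b (nat_lit 2546), Mv.f (nat_lit 2858)])))))))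
(Tr.nd (nat_lit 2867) (Tr.nd (nat_lit 2863) (Tr.nd (nat_lit 2861) (Tr.lf (Fc.ed (nat_lit 2860) (nat_lit 1087) Col.c (nat_lit 946) (Dv.wd (nat_lit 102) [Mv.b (nat_lit 2551), Mv.f (nat_lit 2545), Mv.f (nat_lit 2858)])))
(Tr.nd (nat_lit 2862) (Tr.lf (Fc.ed (nat_lit 2861) (nat_lit 944) Col.f (nat_lit 1088) Dv.df))
(Tr.lf (Fc.ed (nat_lit 2862) (nat_lit 1088) Col.e (nat_lit 1078) (Dv.wd (nat_lit 93) [Mv.b (nat_lit 2840), Mv.b (nat_lit 2528), Mv.b (nat_lit 2230), Mv.f (nat_lit 2547), Mv.f (nat_lit 2861)])))))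
(Tr.nd (nat_lit 2865) (Tr.nd (nat_lit 2864) (Tr.lf (Fc.ed (nat_lit 2863) (nat_lit 944) Col.g (nat_lit 1089) Dv.df))
(Tr.lf (Fc.ed (nat_lit 2864) (nat_lit 1089) Col.e (nat_lit 945) (Dv.wd (nat_lit 98) [Mv.b (nat_lit 2548), Mv.f (nat_lit 2547), Mv.f (nat_lit 2863)]))))
(Tr.nd (nat_lit 2866) (Tr.lf (Fc.ed (nat_lit 2865) (nat_lit 945) Col.h (nat_lit 1090) Dv.df))
(Tr.lf (Fc.ed (nat_lit 2866) (nat_lit 1090) Col.g (nat_lit 946) (Dv.wd (nat_lit 126) [Mv.b (nat_lit 2551), Mv.f (nat_lit 2548), Mv.f (nat_lit 2865)]))))))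
(Tr.nd (nat_lit 2871) (Tr.nd (nat_lit 2869) (Tr.nd (nat_lit 2868) (Tr.lf (Fc.ed (nat_lit 2867) (nat_lit 948) Col.d (nat_lit 1091) Dv.df))
(Tr.lf (Fc.ed (nat_lit 2868) (nat_lit 1091) Col.f (nat_lit 1081) (Dv.wd (nat_lit 37) [Mv.b (nat_lit 2847), Mv.b (nat_lit 2555), Mv.f (nat_lit 2867)]))))
(Tr.nd (nat_lit 2870) (Tr.lf (Fc.ed (nat_lit 2869) (nat_lit 949) Col.f (nat_lit 1092) Dv.df))
(Tr.lf (Fc.ed (nat_lit 2870) (nat_lit 1092) Col.l (nat_lit 953) (Dv.wd (nat_lit 89) [Mv.b (nat_lit 2570), Mv.b (nat_lit 2557), Mv.f (nat_lit 2869)])))))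
(Tr.nd (nat_lit 2873) (Tr.nd (nat_lit 2872) (Tr.lf (Fc.ed (nat_lit 2871) (nat_lit 1092) Col.h (nat_lit 1092) (Dv.wd (nat_lit 115) [Mv.b (nat_lit 2869), Mv.f (nat_lit 2559), Mv.f (nat_lit 2869)])))
(Tr.lf (Fc.ed (nat_lit 2872) (nat_lit 950) Col.f (nat_lit 1093) Dv.df)))
(Tr.nd (nat_lit 2874) (Tr.lf (Fc.ed (nat_lit 2873) (nat_lit 1093) Col.a (nat_lit 953) (Dv.wd (nat_lit 113) [Mv.b (nat_lit 2570), Mv.b (nat_lit 2561), Mv.f (nat_lit 2872)])))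
(Tr.lf (Fc.ed (nat_lit 2874) (nat_lit 1093) Col.b (nat_lit 1093) (Dv.wd (nat_lit 114) [Mv.b (nat_lit 2872), Mv.f (nat_lit 2562), Mv.f (nat_lit 2872)])))))))))
(Tr.nd (nat_lit 2904) (Tr.nd (nat_lit 2889) (Tr.nd (nat_lit 2882) (Tr.nd (nat_lit 2878) (Tr.nd (nat_lit 2876) (Tr.lf (Fc.ed (nat_lit 2875) (nat_lit 1093) Col.c (nat_lit 1093) (Dv.wd (nat_lit 91) [Mv.b (nat_lit 2872), Mv.f (nat_lit 2563), Mv.f (nat_lit 2872)])))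
(Tr.nd (nat_lit 2877) (Tr.lf (Fc.ed (nat_lit 2876) (nat_lit 1093) Col.e (nat_lit 1093) (Dv.wd (nat_lit 93) [Mv.b (nat_lit 2872), Mv.f (nat_lit 2564), Mv.f (nat_lit 2544), Mv.b (nat_lit 2564), Mv.f (nat_lit 2872)])))
(Tr.lf (Fc.ed (nat_lit 2877) (nat_lit 951) Col.f (nat_lit 1094) Dv.df))))
(Tr.nd (nat_lit 2880) (Tr.nd (nat_lit 2879) (Tr.lf (Fc.ed (nat_lit 2878) (nat_lit 1094) Col.d (nat_lit 1088) (Dv.wd (nat_lit 92) [Mv.b (nat_lit 2861), Mv.b (nat_lit 2567), Mv.f (nat_lit 2877)])))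
(Tr.lf (Fc.ed (nat_lit 2879) (nat_lit 952) Col.f (nat_lit 1095) Dv.df)))
(Tr.nd (nat_lit 2881) (Tr.lf (Fc.ed (nat_lit 2880) (nat_lit 1095) Col.d (nat_lit 953) (Dv.wd (nat_lit 92) [Mv.b (nat_lit 2570), Mv.b (nat_lit 2569), Mv.f (nat_lit 2879)])))
(Tr.lf (Fc.ed (nat_lit 2881) (nat_lit 954) Col.i (nat_lit 1096) Dv.df)))))
(Tr.nd (nat_lit 2885) (Tr.nd (nat_lit 2883) (Tr.lf (Fc.ed (nat_lit 2882) (nat_lit 1096) Col.d (nat_lit 1056) (Dv.wd (nat_lit 142) [Mv.f (nat_lit 2798), Mv.b (nat_lit 2572), Mv.f (nat_lit 2881)])))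
(Tr.nd (nat_lit 2884) (Tr.lf (Fc.ed (nat_lit 2883) (nat_lit 1096) Col.f (nat_lit 955) (Dv.wd (nat_lit 112) [Mv.b (nat_lit 2573), Mv.f (nat_lit 2571), Mv.f (nat_lit 2881)])))
(Tr.lf (Fc.ed (nat_lit 2884) (nat_lit 958) Col.d (nat_lit 1097) Dv.df))))
(Tr.nd (nat_lit 2887) (Tr.nd (nat_lit 2886) (Tr.lf (Fc.ed (nat_lit 2885) (nat_lit 1097) Col.h (nat_lit 1073) (Dv.wd (nat_lit 105) [Mv.b (nat_lit 2832), Mv.b (nat_lit 2516), Mv.b (nat_lit 2263), Mv.f (nat_lit 2580), Mv.f (nat_lit 2884)])))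
(Tr.lf (Fc.ed (nat_lit 2886) (nat_lit 959) Col.i (nat_lit 1098) Dv.df)))
(Tr.nd (nat_lit 2888) (Tr.lf (Fc.ed (nat_lit 2887) (nat_lit 1098) Col.c (nat_lit 1096) (Dv.wd (nat_lit 145) [Mv.b (nat_lit 2881), Mv.b (nat_lit 2583), Mv.f (nat_lit 2886)])))
(Tr.lf (Fc.ed (nat_lit 2888) (nat_lit 1098) Col.f (nat_lit 960) (Dv.wd (nat_lit 112) [Mv.b (nat_lit 2584), Mv.f (nat_lit 2582), Mv.f (nat_lit 2886)])))))))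
(Tr.nd (nat_lit 2896) (Tr.nd (nat_lit 2892) (Tr.nd (nat_lit 2890) (Tr.lf (Fc.ed (nat_lit 2889) (nat_lit 962) Col.i (nat_lit 1099) Dv.df))
(Tr.nd (nat_lit 2891) (Tr.lf (Fc.ed (nat_lit 2890) (nat_lit 1099) Col.f (nat_lit 970) (Dv.wd (nat_lit 112) [Mv.f (nat_lit 2612), Mv.b (nat_lit 2589), Mv.f (nat_lit 2889)])))
(Tr.lf (Fc.ed (nat_lit 2891) (nat_lit 1099) Col.g (nat_lit 965) (Dv.wd (nat_lit 176) [Mv.f (nat_lit 2595), Mv.b (nat_lit 2590), Mv.f (nat_lit 2889)])))))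
(Tr.nd (nat_lit 2894) (Tr.nd (nat_lit 2893) (Tr.lf (Fc.ed (nat_lit 2892) (nat_lit 963) Col.c (nat_lit 1100) Dv.df))
(Tr.lf (Fc.ed (nat_lit 2893) (nat_lit 963) Col.f (nat_lit 1101) Dv.df)))
(Tr.nd (nat_lit 2895) (Tr.lf (Fc.ed (nat_lit 2894) (nat_lit 1101) Col.d (nat_lit 964) (Dv.wd (nat_lit 92) [Mv.b (nat_lit 2592), Mv.f (nat_lit 2591), Mv.f (nat_lit 2893)])))
(Tr.lf (Fc.ed (nat_lit 2895) (nat_lit 965) Col.f (nat_lit 1102) Dv.df)))))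
(Tr.nd (nat_lit 2900) (Tr.nd (nat_lit 2898) (Tr.nd (nat_lit 2897) (Tr.lf (Fc.ed (nat_lit 2896) (nat_lit 1102) Col.d (nat_lit 966) (Dv.wd (nat_lit 92) [Mv.b (nat_lit 2596), Mv.f (nat_lit 2594), Mv.f (nat_lit 2895)])))
(Tr.lf (Fc.ed (nat_lit 2897) (nat_lit 1102) Col.g (nat_lit 972) (Dv.wd (nat_lit 200) [Mv.b (nat_lit 2616), Mv.b (nat_lit 2611), Mv.b (nat_lit 2890), Mv.f (nat_lit 2891), Mv.f (nat_lit 2895)]))))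
(Tr.nd (nat_lit 2899) (Tr.lf (Fc.ed (nat_lit 2898) (nat_lit 973) Col.f (nat_lit 1103) Dv.df))
(Tr.lf (Fc.ed (nat_lit 2899) (nat_lit 1103) Col.c (nat_lit 989) (Dv.wd (nat_lit 91) [Mv.b (nat_lit 2650), Mv.b (nat_lit 2618), Mv.f (nat_lit 2898)])))))
(Tr.nd (nat_lit 2902) (Tr.nd (nat_lit 2901) (Tr.lf (Fc.ed (nat_lit 2900) (nat_lit 1103) Col.d (nat_lit 974) (Dv.wd (nat_lit 92) [Mv.b (nat_lit 2619), Mv.f (nat_lit 2617), Mv.f (nat_lit 2898)])))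
(Tr.lf (Fc.ed (nat_lit 2901) (nat_lit 975) Col.d (nat_lit 1104) Dv.df)))
(Tr.nd (nat_lit 2903) (Tr.lf (Fc.ed (nat_lit 2902) (nat_lit 1104) Col.a (nat_lit 976) (Dv.wd (nat_lit 182) [Mv.b (nat_lit 2624), Mv.b (nat_lit 2622), Mv.f (nat_lit 2901)])))
(Tr.lf (Fc.ed (nat_lit 2903) (nat_lit 1104) Col.i (nat_lit 978) (Dv.wd (nat_lit 135) [Mv.b (nat_lit 2630), Mv.b (nat_lit 2623), Mv.f (nat_lit 2901)]))))))))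
(Tr.nd (nat_lit 2919) (Tr.nd (nat_lit 2911) (Tr.nd (nat_lit 2907) (Tr.nd (nat_lit 2905) (Tr.lf (Fc.ed (nat_lit 2904) (nat_lit 976) Col.c (nat_lit 1105) Dv.df))
(Tr.nd (nat_lit 2906) (Tr.lf (Fc.ed (nat_lit 2905) (nat_lit 1105) Col.i (nat_lit 980) (Dv.wd (nat_lit 137) [Mv.b (nat_lit 2633), Mv.b (nat_lit 2626), Mv.f (nat_lit 2904)])))
(Tr.lf (Fc.ed (nat_lit 2906) (nat_lit 1105) Col.b (nat_lit 992) (Dv.wd (nat_lit 178) [Mv.b (nat_lit 2658), Mv.f (nat_lit 2347), Mv.b (nat_lit 2318), Mv.b (nat_lit 2625), Mv.f (nat_lit 2904)])))))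
(Tr.nd (nat_lit 2909) (Tr.nd (nat_lit 2908) (Tr.lf (Fc.ed (nat_lit 2907) (nat_lit 977) Col.e (nat_lit 1106) Dv.df))
(Tr.lf (Fc.ed (nat_lit 2908) (nat_lit 1106) Col.c (nat_lit 993) (Dv.wd (nat_lit 86) [Mv.b (nat_lit 2660), Mv.b (nat_lit 2628), Mv.f (nat_lit 2907)]))))
(Tr.nd (nat_lit 2910) (Tr.lf (Fc.ed (nat_lit 2909) (nat_lit 1106) Col.d (nat_lit 982) (Dv.wd (nat_lit 88) [Mv.f (nat_lit 2637), Mv.f (nat_lit 2614), Mv.b (nat_lit 2320), Mv.b (nat_lit 2629), Mv.f (nat_lit 2907)])))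
(Tr.lf (Fc.ed (nat_lit 2910) (nat_lit 981) Col.g (nat_lit 1106) (Dv.wd (nat_lit 204) [Mv.f (nat_lit 2909), Mv.b (nat_lit 2636), Mv.b (nat_lit 2635)]))))))
(Tr.nd (nat_lit 2915) (Tr.nd (nat_lit 2913) (Tr.nd (nat_lit 2912) (Tr.lf (Fc.ed (nat_lit 2911) (nat_lit 977) Col.g (nat_lit 1107) Dv.df))
(Tr.lf (Fc.ed (nat_lit 2912) (nat_lit 1107) Col.c (nat_lit 994) (Dv.wd (nat_lit 96) [Mv.b (nat_lit 2662), Mv.b (nat_lit 2628), Mv.f (nat_lit 2911)]))))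
(Tr.nd (nat_lit 2914) (Tr.lf (Fc.ed (nat_lit 2913) (nat_lit 1107) Col.e (nat_lit 981) (Dv.wd (nat_lit 98) [Mv.f (nat_lit 2910), Mv.b (nat_lit 2907), Mv.f (nat_lit 2911)])))
(Tr.lf (Fc.ed (nat_lit 2914) (nat_lit 978) Col.f (nat_lit 1108) Dv.df))))
(Tr.nd (nat_lit 2917) (Tr.nd (nat_lit 2916) (Tr.lf (Fc.ed (nat_lit 2915) (nat_lit 1108) Col.d (nat_lit 979) (Dv.wd (nat_lit 92) [Mv.b (nat_lit 2631), Mv.f (nat_lit 2630), Mv.f (nat_lit 2914)])))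
(Tr.lf (Fc.ed (nat_lit 2916) (nat_lit 978) Col.h (nat_lit 1109) Dv.df)))
(Tr.nd (nat_lit 2918) (Tr.lf (Fc.ed (nat_lit 2917) (nat_lit 979) Col.g (nat_lit 1110) Dv.df))
(Tr.lf (Fc.ed (nat_lit 2918) (nat_lit 1110) Col.e (nat_lit 1102) (Dv.wd (nat_lit 98) [Mv.f (nat_lit 2897), Mv.b (nat_lit 2632), Mv.f (nat_lit 2917)])))))))
(Tr.nd (nat_lit 2926) (Tr.nd (nat_lit 2922) (Tr.nd (nat_lit 2920) (Tr.lf (Fc.ed (nat_lit 2919) (nat_lit 980) Col.f (nat_lit 1111) Dv.df))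
(Tr.nd (nat_lit 2921) (Tr.lf (Fc.ed (nat_lit 2920) (nat_lit 1111) Col.c (nat_lit 981) (Dv.wd (nat_lit 91) [Mv.b (nat_lit 2634), Mv.f (nat_lit 2633), Mv.f (nat_lit 2919)])))
(Tr.lf (Fc.ed (nat_lit 2921) (nat_lit 993) Col.g (nat_lit 1111) (Dv.wd (nat_lit 205) [Mv.f (nat_lit 2920), Mv.f (nat_lit 2910), Mv.f (nat_lit 2908)])))))
(Tr.nd (nat_lit 2924) (Tr.nd (nat_lit 2923) (Tr.lf (Fc.ed (nat_lit 2922) (nat_lit 981) Col.h (nat_lit 1112) Dv.df))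
(Tr.lf (Fc.ed (nat_lit 2923) (nat_lit 983) Col.c (nat_lit 1113) Dv.df)))
(Tr.nd (nat_lit 2925) (Tr.lf (Fc.ed (nat_lit 2924) (nat_lit 983) Col.f (nat_lit 1114) Dv.df))
(Tr.lf (Fc.ed (nat_lit 2925) (nat_lit 1114) Col.a (nat_lit 984) (Dv.wd (nat_lit 113) [Mv.b (nat_lit 2640), Mv.b (nat_lit 2639), Mv.f (nat_lit 2924)]))))))
(Tr.nd (nat_lit 2930) (Tr.nd (nat_lit 2928) (Tr.nd (nat_lit 2927) (Tr.lf (Fc.ed (nat_lit 2926) (nat_lit 984) Col.e (nat_lit 1115) Dv.df))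
(Tr.lf (Fc.ed (nat_lit 2927) (nat_lit 1115) Col.b (nat_lit 986) (Dv.wd (nat_lit 153) [Mv.b (nat_lit 2645), Mv.b (nat_lit 2641), Mv.f (nat_lit 2926)]))))
(Tr.nd (nat_lit 2929) (Tr.lf (Fc.ed (nat_lit 2928) (nat_lit 984) Col.g (nat_lit 1116) Dv.df))
(Tr.lf (Fc.ed (nat_lit 2929) (nat_lit 1116) Col.b (nat_lit 987) (Dv.wd (nat_lit 146) [Mv.b (nat_lit 2646), Mv.b (nat_lit 2641), Mv.f (nat_lit 2928)])))))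
(Tr.nd (nat_lit 2932) (Tr.nd (nat_lit 2931) (Tr.lf (Fc.ed (nat_lit 2930) (nat_lit 1116) Col.d (nat_lit 985) (Dv.wd (nat_lit 97) [Mv.b (nat_lit 2643), Mv.b (nat_lit 2642), Mv.f (nat_lit 2928)])))
(Tr.lf (Fc.ed (nat_lit 2931) (nat_lit 986) Col.g (nat_lit 1117) Dv.df)))
(Tr.nd (nat_lit 2933) (Tr.lf (Fc.ed (nat_lit 2932) (nat_lit 1117) Col.e (nat_lit 987) (Dv.wd (nat_lit 98) [Mv.b (nat_lit 2646), Mv.f (nat_lit 2645), Mv.f (nat_lit 2931)])))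
(Tr.lf (Fc.ed (nat_lit 2933) (nat_lit 1117) Col.i (nat_lit 1111) (Dv.wd (nat_lit 148) [Mv.b (nat_lit 2921), Mv.f (nat_lit 2661), Mv.f (nat_lit 2931)]))))))))))
(Tr.nd (nat_lit 2993) (Tr.nd (nat_lit 2963) (Tr.nd (nat_lit 2948) (Tr.nd (nat_lit 2941) (Tr.nd (nat_lit 2937) (Tr.nd (nat_lit 2935) (Tr.lf (Fc.ed (nat_lit 2934) (nat_lit 1105) Col.f (nat_lit 1117) (Dv.wd (nat_lit 184) [Mv.f (nat_lit 2933), Mv.b (nat_lit 2919), Mv.b (nat_lit 2905)])))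
(Tr.nd (nat_lit 2936) (Tr.lf (Fc.ed (nat_lit 2935) (nat_lit 988) Col.d (nat_lit 1118) Dv.df))
(Tr.lf (Fc.ed (nat_lit 2936) (nat_lit 1118) Col.b (nat_lit 991) (Dv.wd (nat_lit 183) [Mv.b (nat_lit 2654), Mv.b (nat_lit 2648), Mv.f (nat_lit 2935)])))))
(Tr.nd (nat_lit 2939) (Tr.nd (nat_lit 2938) (Tr.lf (Fc.ed (nat_lit 2937) (nat_lit 1118) Col.h (nat_lit 1027) (Dv.wd (nat_lit 105) [Mv.b (nat_lit 2739), Mv.b (nat_lit 2418), Mv.b (nat_lit 2357), Mv.b (nat_lit 2649), Mv.f (nat_lit 2935)])))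
(Tr.lf (Fc.ed (nat_lit 2938) (nat_lit 989) Col.g (nat_lit 1119) Dv.df)))
(Tr.nd (nat_lit 2940) (Tr.lf (Fc.ed (nat_lit 2939) (nat_lit 1119) Col.d (nat_lit 990) (Dv.wd (nat_lit 97) [Mv.b (nat_lit 2652), Mv.b (nat_lit 2651), Mv.f (nat_lit 2938)])))
(Tr.lf (Fc.ed (nat_lit 2940) (nat_lit 991) Col.c (nat_lit 1120) Dv.df)))))
(Tr.nd (nat_lit 2944) (Tr.nd (nat_lit 2942) (Tr.lf (Fc.ed (nat_lit 2941) (nat_lit 1120) Col.a (nat_lit 992) (Dv.wd (nat_lit 181) [Mv.b (nat_lit 2658), Mv.b (nat_lit 2655), Mv.f (nat_lit 2940)])))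
(Tr.nd (nat_lit 2943) (Tr.lf (Fc.ed (nat_lit 2942) (nat_lit 1120) Col.h (nat_lit 1033) (Dv.wd (nat_lit 30) [Mv.b (nat_lit 2750), Mv.b (nat_lit 2657), Mv.f (nat_lit 2940)])))
(Tr.lf (Fc.ed (nat_lit 2943) (nat_lit 1120) Col.i (nat_lit 1113) (Dv.wd (nat_lit 137) [Mv.b (nat_lit 2923), Mv.b (nat_lit 2656), Mv.f (nat_lit 2940)])))))
(Tr.nd (nat_lit 2946) (Tr.nd (nat_lit 2945) (Tr.lf (Fc.ed (nat_lit 2944) (nat_lit 991) Col.f (nat_lit 1121) Dv.df))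
(Tr.lf (Fc.ed (nat_lit 2945) (nat_lit 1121) Col.h (nat_lit 1032) (Dv.wd (nat_lit 115) [Mv.f (nat_lit 2749), Mv.b (nat_lit 2657), Mv.f (nat_lit 2944)]))))
(Tr.nd (nat_lit 2947) (Tr.lf (Fc.ed (nat_lit 2946) (nat_lit 1121) Col.i (nat_lit 1114) (Dv.wd (nat_lit 150) [Mv.b (nat_lit 2924), Mv.b (nat_lit 2656), Mv.f (nat_lit 2944)])))
(Tr.lf (Fc.ed (nat_lit 2947) (nat_lit 992) Col.f (nat_lit 1122) Dv.df))))))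
(Tr.nd (nat_lit 2955) (Tr.nd (nat_lit 2951) (Tr.nd (nat_lit 2949) (Tr.lf (Fc.ed (nat_lit 2948) (nat_lit 1122) Col.b (nat_lit 1117) (Dv.wd (nat_lit 114) [Mv.b (nat_lit 2934), Mv.f (nat_lit 2906), Mv.f (nat_lit 2947)])))
(Tr.nd (nat_lit 2950) (Tr.lf (Fc.ed (nat_lit 2949) (nat_lit 1122) Col.h (nat_lit 1036) (Dv.wd (nat_lit 115) [Mv.f (nat_lit 2756), Mv.b (nat_lit 2659), Mv.f (nat_lit 2947)])))
(Tr.lf (Fc.ed (nat_lit 2950) (nat_lit 1116) Col.e (nat_lit 1122) (Dv.wd (nat_lit 206) [Mv.f (nat_lit 2948), Mv.f (nat_lit 2932), Mv.b (nat_lit 2929)])))))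
(Tr.nd (nat_lit 2953) (Tr.nd (nat_lit 2952) (Tr.lf (Fc.ed (nat_lit 2951) (nat_lit 1115) Col.g (nat_lit 1122) (Dv.wd (nat_lit 168) [Mv.f (nat_lit 2948), Mv.b (nat_lit 2931), Mv.b (nat_lit 2927)])))
(Tr.lf (Fc.ed (nat_lit 2952) (nat_lit 995) Col.e (nat_lit 1123) Dv.df)))
(Tr.nd (nat_lit 2954) (Tr.lf (Fc.ed (nat_lit 2953) (nat_lit 1123) Col.c (nat_lit 999) (Dv.wd (nat_lit 86) [Mv.b (nat_lit 2674), Mv.b (nat_lit 2665), Mv.f (nat_lit 2952)])))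
(Tr.lf (Fc.ed (nat_lit 2954) (nat_lit 1123) Col.f (nat_lit 996) (Dv.wd (nat_lit 109) [Mv.b (nat_lit 2666), Mv.b (nat_lit 2362), Mv.f (nat_lit 2360), Mv.f (nat_lit 2664), Mv.f (nat_lit 2952)]))))))
(Tr.nd (nat_lit 2959) (Tr.nd (nat_lit 2957) (Tr.nd (nat_lit 2956) (Tr.lf (Fc.ed (nat_lit 2955) (nat_lit 996) Col.d (nat_lit 1124) Dv.df))
(Tr.lf (Fc.ed (nat_lit 2956) (nat_lit 1124) Col.b (nat_lit 1124) (Dv.wd (nat_lit 183) [Mv.b (nat_lit 2955), Mv.f (nat_lit 2667), Mv.f (nat_lit 2955)]))))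
(Tr.nd (nat_lit 2958) (Tr.lf (Fc.ed (nat_lit 2957) (nat_lit 1124) Col.c (nat_lit 1124) (Dv.wd (nat_lit 83) [Mv.b (nat_lit 2955), Mv.f (nat_lit 2668), Mv.f (nat_lit 2370), Mv.b (nat_lit 2668), Mv.f (nat_lit 2955)])))
(Tr.lf (Fc.ed (nat_lit 2958) (nat_lit 996) Col.g (nat_lit 1125) Dv.df))))
(Tr.nd (nat_lit 2961) (Tr.nd (nat_lit 2960) (Tr.lf (Fc.ed (nat_lit 2959) (nat_lit 1125) Col.c (nat_lit 1001) (Dv.wd (nat_lit 96) [Mv.b (nat_lit 2678), Mv.b (nat_lit 2668), Mv.f (nat_lit 2958)])))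
(Tr.lf (Fc.ed (nat_lit 2960) (nat_lit 1125) Col.e (nat_lit 997) (Dv.wd (nat_lit 98) [Mv.b (nat_lit 2669), Mv.f (nat_lit 2666), Mv.f (nat_lit 2958)]))))
(Tr.nd (nat_lit 2962) (Tr.lf (Fc.ed (nat_lit 2961) (nat_lit 996) Col.h (nat_lit 1126) Dv.df))
(Tr.lf (Fc.ed (nat_lit 2962) (nat_lit 1126) Col.e (nat_lit 998) (Dv.wd (nat_lit 103) [Mv.b (nat_lit 2671), Mv.f (nat_lit 2666), Mv.f (nat_lit 2961)]))))))))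
(Tr.nd (nat_lit 2978) (Tr.nd (nat_lit 2970) (Tr.nd (nat_lit 2966) (Tr.nd (nat_lit 2964) (Tr.lf (Fc.ed (nat_lit 2963) (nat_lit 997) Col.h (nat_lit 1127) Dv.df))
(Tr.nd (nat_lit 2965) (Tr.lf (Fc.ed (nat_lit 2964) (nat_lit 1127) Col.g (nat_lit 998) (Dv.wd (nat_lit 126) [Mv.b (nat_lit 2671), Mv.f (nat_lit 2669), Mv.f (nat_lit 2963)])))
(Tr.lf (Fc.ed (nat_lit 2965) (nat_lit 998) Col.d (nat_lit 1128) Dv.df))))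
(Tr.nd (nat_lit 2968) (Tr.nd (nat_lit 2967) (Tr.lf (Fc.ed (nat_lit 2966) (nat_lit 1128) Col.l (nat_lit 1128) (Dv.wd (nat_lit 80) [Mv.b (nat_lit 2965), Mv.f (nat_lit 2672), Mv.f (nat_lit 2965)])))
(Tr.lf (Fc.ed (nat_lit 2967) (nat_lit 998) Col.i (nat_lit 1129) Dv.df)))
(Tr.nd (nat_lit 2969) (Tr.lf (Fc.ed (nat_lit 2968) (nat_lit 1129) Col.c (nat_lit 1003) (Dv.wd (nat_lit 145) [Mv.b (nat_lit 2682), Mv.b (nat_lit 2673), Mv.f (nat_lit 2967)])))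
(Tr.lf (Fc.ed (nat_lit 2969) (nat_lit 999) Col.g (nat_lit 1130) Dv.df)))))
(Tr.nd (nat_lit 2974) (Tr.nd (nat_lit 2972) (Tr.nd (nat_lit 2971) (Tr.lf (Fc.ed (nat_lit 2970) (nat_lit 1130) Col.b (nat_lit 1004) (Dv.wd (nat_lit 146) [Mv.b (nat_lit 2684), Mv.b (nat_lit 2675), Mv.f (nat_lit 2969)])))
(Tr.lf (Fc.ed (nat_lit 2971) (nat_lit 999) Col.h (nat_lit 1131) Dv.df)))
(Tr.nd (nat_lit 2973) (Tr.lf (Fc.ed (nat_lit 2972) (nat_lit 1131) Col.b (nat_lit 1005) (Dv.wd (nat_lit 151) [Mv.b (nat_lit 2686), Mv.b (nat_lit 2675), Mv.f (nat_lit 2971)])))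
(Tr.lf (Fc.ed (nat_lit 2973) (nat_lit 1000) Col.h (nat_lit 1132) Dv.df))))
(Tr.nd (nat_lit 2976) (Tr.nd (nat_lit 2975) (Tr.lf (Fc.ed (nat_lit 2974) (nat_lit 1132) Col.b (nat_lit 1006) (Dv.wd (nat_lit 151) [Mv.b (nat_lit 2690), Mv.b (nat_lit 2677), Mv.f (nat_lit 2973)])))
(Tr.lf (Fc.ed (nat_lit 2975) (nat_lit 1001) Col.f (nat_lit 1133) Dv.df)))
(Tr.nd (nat_lit 2977) (Tr.lf (Fc.ed (nat_lit 2976) (nat_lit 1133) Col.b (nat_lit 1008) (Dv.wd (nat_lit 114) [Mv.b (nat_lit 2694), Mv.b (nat_lit 2679), Mv.f (nat_lit 2975)])))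
(Tr.lf (Fc.ed (nat_lit 2977) (nat_lit 1002) Col.d (nat_lit 1134) Dv.df))))))
(Tr.nd (nat_lit 2985) (Tr.nd (nat_lit 2981) (Tr.nd (nat_lit 2979) (Tr.lf (Fc.ed (nat_lit 2978) (nat_lit 1134) Col.b (nat_lit 1009) (Dv.wd (nat_lit 183) [Mv.b (nat_lit 2696), Mv.b (nat_lit 2681), Mv.f (nat_lit 2977)])))
(Tr.nd (nat_lit 2980) (Tr.lf (Fc.ed (nat_lit 2979) (nat_lit 1005) Col.d (nat_lit 1135) Dv.df))
(Tr.lf (Fc.ed (nat_lit 2980) (nat_lit 1135) Col.a (nat_lit 1011) (Dv.wd (nat_lit 182) [Mv.b (nat_lit 2701), Mv.b (nat_lit 2687), Mv.f (nat_lit 2979)])))))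
(Tr.nd (nat_lit 2983) (Tr.nd (nat_lit 2982) (Tr.lf (Fc.ed (nat_lit 2981) (nat_lit 1135) Col.f (nat_lit 1009) (Dv.wd (nat_lit 37) [Mv.b (nat_lit 2696), Mv.b (nat_lit 2689), Mv.f (nat_lit 2979)])))
(Tr.lf (Fc.ed (nat_lit 2982) (nat_lit 1005) Col.i (nat_lit 1136) Dv.df)))
(Tr.nd (nat_lit 2984) (Tr.lf (Fc.ed (nat_lit 2983) (nat_lit 1136) Col.e (nat_lit 1007) (Dv.wd (nat_lit 143) [Mv.b (nat_lit 2692), Mv.b (nat_lit 2688), Mv.f (nat_lit 2982)])))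
(Tr.lf (Fc.ed (nat_lit 2984) (nat_lit 1006) Col.d (nat_lit 1137) Dv.df)))))
(Tr.nd (nat_lit 2989) (Tr.nd (nat_lit 2987) (Tr.nd (nat_lit 2986) (Tr.lf (Fc.ed (nat_lit 2985) (nat_lit 1137) Col.h (nat_lit 1119) (Dv.wd (nat_lit 105) [Mv.f (nat_lit 2939), Mv.f (nat_lit 2653), Mv.b (nat_lit 2378), Mv.f (nat_lit 2690), Mv.f (nat_lit 2984)])))
(Tr.lf (Fc.ed (nat_lit 2986) (nat_lit 1008) Col.h (nat_lit 1138) Dv.df)))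
(Tr.nd (nat_lit 2988) (Tr.lf (Fc.ed (nat_lit 2987) (nat_lit 1138) Col.a (nat_lit 1015) (Dv.wd (nat_lit 124) [Mv.b (nat_lit 2709), Mv.b (nat_lit 2695), Mv.f (nat_lit 2986)])))
(Tr.lf (Fc.ed (nat_lit 2988) (nat_lit 1009) Col.c (nat_lit 1139) Dv.df))))
(Tr.nd (nat_lit 2991) (Tr.nd (nat_lit 2990) (Tr.lf (Fc.ed (nat_lit 2989) (nat_lit 1139) Col.e (nat_lit 1139) (Dv.wd (nat_lit 41) [Mv.b (nat_lit 2988), Mv.f (nat_lit 2697), Mv.f (nat_lit 2988)])))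
(Tr.lf (Fc.ed (nat_lit 2990) (nat_lit 1010) Col.d (nat_lit 1140) Dv.df)))
(Tr.nd (nat_lit 2992) (Tr.lf (Fc.ed (nat_lit 2991) (nat_lit 1140) Col.g (nat_lit 1011) (Dv.wd (nat_lit 82) [Mv.b (nat_lit 2701), Mv.b (nat_lit 2700), Mv.f (nat_lit 2990)])))
(Tr.lf (Fc.ed (nat_lit 2992) (nat_lit 1011) Col.c (nat_lit 1141) Dv.df))))))))
(Tr.nd (nat_lit 3022) (Tr.nd (nat_lit 3007) (Tr.nd (nat_lit 3000) (Tr.nd (nat_lit 2996) (Tr.nd (nat_lit 2994) (Tr.lf (Fc.ed (nat_lit 2993) (nat_lit 1141) Col.f (nat_lit 1018) (Dv.wd (nat_lit 36) [Mv.b (nat_lit 2717), Mv.b (nat_lit 2702), Mv.f (nat_lit 2992)])))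
(Tr.nd (nat_lit 2995) (Tr.lf (Fc.ed (nat_lit 2994) (nat_lit 1011) Col.i (nat_lit 1142) Dv.df))
(Tr.lf (Fc.ed (nat_lit 2995) (nat_lit 1012) Col.c (nat_lit 1143) Dv.df))))
(Tr.nd (nat_lit 2998) (Tr.nd (nat_lit 2997) (Tr.lf (Fc.ed (nat_lit 2996) (nat_lit 1143) Col.h (nat_lit 1107) (Dv.wd (nat_lit 30) [Mv.f (nat_lit 2912), Mv.b (nat_lit 2704), Mv.f (nat_lit 2995)])))
(Tr.lf (Fc.ed (nat_lit 2997) (nat_lit 1112) Col.e (nat_lit 1143) (Dv.wd (nat_lit 62) [Mv.f (nat_lit 2996), Mv.f (nat_lit 2913), Mv.f (nat_lit 2922)]))))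
(Tr.nd (nat_lit 2999) (Tr.lf (Fc.ed (nat_lit 2998) (nat_lit 1012) Col.e (nat_lit 1144) Dv.df))
(Tr.lf (Fc.ed (nat_lit 2999) (nat_lit 1144) Col.c (nat_lit 1112) (Dv.wd (nat_lit 86) [Mv.f (nat_lit 2997), Mv.b (nat_lit 2995), Mv.f (nat_lit 2998)]))))))
(Tr.nd (nat_lit 3003) (Tr.nd (nat_lit 3001) (Tr.lf (Fc.ed (nat_lit 3000) (nat_lit 1013) Col.a (nat_lit 1145) Dv.df))
(Tr.nd (nat_lit 3002) (Tr.lf (Fc.ed (nat_lit 3001) (nat_lit 1145) Col.h (nat_lit 1104) (Dv.wd (nat_lit 28) [Mv.f (nat_lit 2902), Mv.b (nat_lit 2706), Mv.f (nat_lit 3000)])))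
(Tr.lf (Fc.ed (nat_lit 3002) (nat_lit 1013) Col.i (nat_lit 1146) Dv.df))))
(Tr.nd (nat_lit 3005) (Tr.nd (nat_lit 3004) (Tr.lf (Fc.ed (nat_lit 3003) (nat_lit 1146) Col.b (nat_lit 1014) (Dv.wd (nat_lit 144) [Mv.b (nat_lit 2707), Mv.f (nat_lit 2705), Mv.f (nat_lit 3002)])))
(Tr.lf (Fc.ed (nat_lit 3004) (nat_lit 1015) Col.d (nat_lit 1147) Dv.df)))
(Tr.nd (nat_lit 3006) (Tr.lf (Fc.ed (nat_lit 3005) (nat_lit 1147) Col.l (nat_lit 1147) (Dv.wd (nat_lit 80) [Mv.b (nat_lit 3004), Mv.f (nat_lit 2710), Mv.f (nat_lit 3004)])))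
(Tr.lf (Fc.ed (nat_lit 3006) (nat_lit 1147) Col.f (nat_lit 1016) (Dv.wd (nat_lit 37) [Mv.b (nat_lit 2713), Mv.b (nat_lit 2712), Mv.f (nat_lit 3004)])))))))
(Tr.nd (nat_lit 3014) (Tr.nd (nat_lit 3010) (Tr.nd (nat_lit 3008) (Tr.lf (Fc.ed (nat_lit 3007) (nat_lit 1147) Col.h (nat_lit 1147) (Dv.wd (nat_lit 105) [Mv.b (nat_lit 3004), Mv.b (nat_lit 2709), Mv.f (nat_lit 2402), Mv.f (nat_lit 2709), Mv.f (nat_lit 3004)])))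
(Tr.nd (nat_lit 3009) (Tr.lf (Fc.ed (nat_lit 3008) (nat_lit 1017) Col.c (nat_lit 1148) Dv.df))
(Tr.lf (Fc.ed (nat_lit 3009) (nat_lit 1148) Col.j (nat_lit 1018) (Dv.wd (nat_lit 207) [Mv.b (nat_lit 2717), Mv.b (nat_lit 2716), Mv.f (nat_lit 3008)])))))
(Tr.nd (nat_lit 3012) (Tr.nd (nat_lit 3011) (Tr.lf (Fc.ed (nat_lit 3010) (nat_lit 1018) Col.b (nat_lit 1149) Dv.df))
(Tr.lf (Fc.ed (nat_lit 3011) (nat_lit 1019) Col.e (nat_lit 1150) Dv.df)))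
(Tr.nd (nat_lit 3013) (Tr.lf (Fc.ed (nat_lit 3012) (nat_lit 1150) Col.a (nat_lit 1123) (Dv.wd (nat_lit 152) [Mv.b (nat_lit 2952), Mv.b (nat_lit 2719), Mv.f (nat_lit 3011)])))
(Tr.lf (Fc.ed (nat_lit 3013) (nat_lit 1150) Col.c (nat_lit 1024) (Dv.wd (nat_lit 86) [Mv.b (nat_lit 2730), Mv.b (nat_lit 2720), Mv.f (nat_lit 3011)]))))))
(Tr.nd (nat_lit 3018) (Tr.nd (nat_lit 3016) (Tr.nd (nat_lit 3015) (Tr.lf (Fc.ed (nat_lit 3014) (nat_lit 1020) Col.d (nat_lit 1151) Dv.df))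
(Tr.lf (Fc.ed (nat_lit 3015) (nat_lit 1151) Col.a (nat_lit 1124) (Dv.wd (nat_lit 182) [Mv.b (nat_lit 2955), Mv.b (nat_lit 2722), Mv.f (nat_lit 3014)]))))
(Tr.nd (nat_lit 3017) (Tr.lf (Fc.ed (nat_lit 3016) (nat_lit 1020) Col.h (nat_lit 1152) Dv.df))
(Tr.lf (Fc.ed (nat_lit 3017) (nat_lit 1152) Col.a (nat_lit 1126) (Dv.wd (nat_lit 124) [Mv.b (nat_lit 2961), Mv.b (nat_lit 2722), Mv.f (nat_lit 3016)])))))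
(Tr.nd (nat_lit 3020) (Tr.nd (nat_lit 3019) (Tr.lf (Fc.ed (nat_lit 3018) (nat_lit 1152) Col.c (nat_lit 1028) (Dv.wd (nat_lit 102) [Mv.b (nat_lit 2740), Mv.b (nat_lit 2723), Mv.f (nat_lit 3016)])))
(Tr.lf (Fc.ed (nat_lit 3019) (nat_lit 1021) Col.h (nat_lit 1153) Dv.df)))
(Tr.nd (nat_lit 3021) (Tr.lf (Fc.ed (nat_lit 3020) (nat_lit 1153) Col.a (nat_lit 1127) (Dv.wd (nat_lit 124) [Mv.b (nat_lit 2963), Mv.b (nat_lit 2725), Mv.f (nat_lit 3019)])))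
(Tr.lf (Fc.ed (nat_lit 3021) (nat_lit 1022) Col.d (nat_lit 1154) Dv.df)))))))
(Tr.nd (nat_lit 3037) (Tr.nd (nat_lit 3029) (Tr.nd (nat_lit 3025) (Tr.nd (nat_lit 3023) (Tr.lf (Fc.ed (nat_lit 3022) (nat_lit 1154) Col.a (nat_lit 1128) (Dv.wd (nat_lit 182) [Mv.b (nat_lit 2965), Mv.b (nat_lit 2727), Mv.f (nat_lit 3021)])))
(Tr.nd (nat_lit 3024) (Tr.lf (Fc.ed (nat_lit 3023) (nat_lit 1154) Col.f (nat_lit 1023) (Dv.wd (nat_lit 37) [Mv.b (nat_lit 2729), Mv.b (nat_lit 2728), Mv.f (nat_lit 3021)])))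
(Tr.lf (Fc.ed (nat_lit 3024) (nat_lit 1023) Col.e (nat_lit 1155) Dv.df))))
(Tr.nd (nat_lit 3027) (Tr.nd (nat_lit 3026) (Tr.lf (Fc.ed (nat_lit 3025) (nat_lit 1023) Col.i (nat_lit 1156) Dv.df))
(Tr.lf (Fc.ed (nat_lit 3026) (nat_lit 1024) Col.g (nat_lit 1157) Dv.df)))
(Tr.nd (nat_lit 3028) (Tr.lf (Fc.ed (nat_lit 3027) (nat_lit 1157) Col.b (nat_lit 1029) (Dv.wd (nat_lit 146) [Mv.b (nat_lit 2742), Mv.b (nat_lit 2732), Mv.f (nat_lit 3026)])))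
(Tr.lf (Fc.ed (nat_lit 3028) (nat_lit 1024) Col.h (nat_lit 1158) Dv.df)))))
(Tr.nd (nat_lit 3033) (Tr.nd (nat_lit 3031) (Tr.nd (nat_lit 3030) (Tr.lf (Fc.ed (nat_lit 3029) (nat_lit 1158) Col.a (nat_lit 1131) (Dv.wd (nat_lit 124) [Mv.b (nat_lit 2971), Mv.b (nat_lit 2731), Mv.f (nat_lit 3028)])))
(Tr.lf (Fc.ed (nat_lit 3030) (nat_lit 1158) Col.b (nat_lit 1030) (Dv.wd (nat_lit 151) [Mv.b (nat_lit 2744), Mv.b (nat_lit 2732), Mv.f (nat_lit 3028)]))))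
(Tr.nd (nat_lit 3032) (Tr.lf (Fc.ed (nat_lit 3031) (nat_lit 1158) Col.f (nat_lit 1028) (Dv.wd (nat_lit 104) [Mv.b (nat_lit 2740), Mv.b (nat_lit 2733), Mv.f (nat_lit 3028)])))
(Tr.lf (Fc.ed (nat_lit 3032) (nat_lit 1025) Col.h (nat_lit 1159) Dv.df))))
(Tr.nd (nat_lit 3035) (Tr.nd (nat_lit 3034) (Tr.lf (Fc.ed (nat_lit 3033) (nat_lit 1159) Col.a (nat_lit 1132) (Dv.wd (nat_lit 124) [Mv.b (nat_lit 2973), Mv.b (nat_lit 2735), Mv.f (nat_lit 3032)])))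
(Tr.lf (Fc.ed (nat_lit 3034) (nat_lit 1159) Col.f (nat_lit 1159) (Dv.wd (nat_lit 104) [Mv.b (nat_lit 3032), Mv.f (nat_lit 2736), Mv.f (nat_lit 3032)]))))
(Tr.nd (nat_lit 3036) (Tr.lf (Fc.ed (nat_lit 3035) (nat_lit 1159) Col.g (nat_lit 1026) (Dv.wd (nat_lit 126) [Mv.b (nat_lit 2737), Mv.f (nat_lit 2734), Mv.f (nat_lit 3032)])))
(Tr.lf (Fc.ed (nat_lit 3036) (nat_lit 1026) Col.d (nat_lit 1160) Dv.df))))))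
(Tr.nd (nat_lit 3044) (Tr.nd (nat_lit 3040) (Tr.nd (nat_lit 3038) (Tr.lf (Fc.ed (nat_lit 3037) (nat_lit 1160) Col.f (nat_lit 1027) (Dv.wd (nat_lit 37) [Mv.b (nat_lit 2739), Mv.b (nat_lit 2738), Mv.f (nat_lit 3036)])))
(Tr.nd (nat_lit 3039) (Tr.lf (Fc.ed (nat_lit 3038) (nat_lit 1028) Col.d (nat_lit 1161) Dv.df))
(Tr.lf (Fc.ed (nat_lit 3039) (nat_lit 1161) Col.a (nat_lit 1134) (Dv.wd (nat_lit 182) [Mv.b (nat_lit 2977), Mv.b (nat_lit 2741), Mv.f (nat_lit 3038)])))))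
(Tr.nd (nat_lit 3042) (Tr.nd (nat_lit 3041) (Tr.lf (Fc.ed (nat_lit 3040) (nat_lit 1030) Col.d (nat_lit 1162) Dv.df))
(Tr.lf (Fc.ed (nat_lit 3041) (nat_lit 1031) Col.d (nat_lit 1163) Dv.df)))
(Tr.nd (nat_lit 3043) (Tr.lf (Fc.ed (nat_lit 3042) (nat_lit 1163) Col.g (nat_lit 1032) (Dv.wd (nat_lit 82) [Mv.b (nat_lit 2748), Mv.b (nat_lit 2747), Mv.f (nat_lit 3041)])))
(Tr.lf (Fc.ed (nat_lit 3043) (nat_lit 1032) Col.c (nat_lit 1164) Dv.df)))))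
(Tr.nd (nat_lit 3048) (Tr.nd (nat_lit 3046) (Tr.nd (nat_lit 3045) (Tr.lf (Fc.ed (nat_lit 3044) (nat_lit 1164) Col.f (nat_lit 1033) (Dv.wd (nat_lit 36) [Mv.b (nat_lit 2750), Mv.b (nat_lit 2749), Mv.f (nat_lit 3043)])))
(Tr.lf (Fc.ed (nat_lit 3045) (nat_lit 1032) Col.e (nat_lit 1165) Dv.df)))
(Tr.nd (nat_lit 3047) (Tr.lf (Fc.ed (nat_lit 3046) (nat_lit 1033) Col.b (nat_lit 1166) Dv.df))
(Tr.lf (Fc.ed (nat_lit 3047) (nat_lit 1034) Col.h (nat_lit 1167) Dv.df))))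
(Tr.nd (nat_lit 3050) (Tr.nd (nat_lit 3049) (Tr.lf (Fc.ed (nat_lit 3048) (nat_lit 1167) Col.a (nat_lit 1037) (Dv.wd (nat_lit 124) [Mv.b (nat_lit 2757), Mv.b (nat_lit 2752), Mv.f (nat_lit 3047)])))
(Tr.lf (Fc.ed (nat_lit 3049) (nat_lit 1035) Col.d (nat_lit 1168) Dv.df)))
(Tr.nd (nat_lit 3051) (Tr.lf (Fc.ed (nat_lit 3050) (nat_lit 1168) Col.a (nat_lit 1038) (Dv.wd (nat_lit 182) [Mv.b (nat_lit 2759), Mv.b (nat_lit 2754), Mv.f (nat_lit 3049)])))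
(Tr.lf (Fc.ed (nat_lit 3051) (nat_lit 1036) Col.e (nat_lit 1169) Dv.df))))))))))
(Tr.nd (nat_lit 3169) (Tr.nd (nat_lit 3110) (Tr.nd (nat_lit 3081) (Tr.nd (nat_lit 3066) (Tr.nd (nat_lit 3059) (Tr.nd (nat_lit 3055) (Tr.nd (nat_lit 3053) (Tr.lf (Fc.ed (nat_lit 3052) (nat_lit 1169) Col.h (nat_lit 1116) (Dv.wd (nat_lit 107) [Mv.f (nat_lit 2950), Mv.f (nat_lit 2949), Mv.f (nat_lit 3051)])))
(Tr.nd (nat_lit 3054) (Tr.lf (Fc.ed (nat_lit 3053) (nat_lit 1169) Col.d (nat_lit 1169) (Dv.wd (nat_lit 179) [Mv.f (nat_lit 3052), Mv.f (nat_lit 2930), Mv.f (nat_lit 2644), Mv.b (nat_lit 2930), Mv.b (nat_lit 3052)])))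
(Tr.lf (Fc.ed (nat_lit 3054) (nat_lit 1052) Col.e (nat_lit 1052) (Dv.wd (nat_lit 61) [Mv.f (nat_lit 2791), Mv.f (nat_lit 3051), Mv.f (nat_lit 3053), Mv.b (nat_lit 3051), Mv.b (nat_lit 2791)])))))
(Tr.nd (nat_lit 3057) (Tr.nd (nat_lit 3056) (Tr.lf (Fc.al (nat_lit 3055) (nat_lit 1053) (nat_lit 911) (Dv.wd (nat_lit 48) [Mv.f (nat_lit 2790), Mv.f (nat_lit 3054), Mv.b (nat_lit 2790), Mv.f (nat_lit 2792)])))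
(Tr.lf (Fc.al (nat_lit 3056) (nat_lit 762) (nat_lit 1074) (Dv.wd (nat_lit 169) [Mv.f (nat_lit 2834), Mv.f (nat_lit 3055), Mv.f (nat_lit 2480)]))))
(Tr.nd (nat_lit 3058) (Tr.lf (Fc.al (nat_lit 3057) (nat_lit 781) (nat_lit 931) (Dv.wd (nat_lit 158) [Mv.f (nat_lit 2833), Mv.b (nat_lit 3056), Mv.b (nat_lit 2203)])))
(Tr.lf (Fc.al (nat_lit 3058) (nat_lit 926) (nat_lit 1070) (Dv.wd (nat_lit 180) [Mv.f (nat_lit 2827), Mv.b (nat_lit 3057), Mv.b (nat_lit 2513)]))))))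
(Tr.nd (nat_lit 3062) (Tr.nd (nat_lit 3060) (Tr.lf (Fc.al (nat_lit 3059) (nat_lit 640) (nat_lit 780) (Dv.wd (nat_lit 160) [Mv.f (nat_lit 2522), Mv.b (nat_lit 3057), Mv.b (nat_lit 2202)])))
(Tr.nd (nat_lit 3061) (Tr.lf (Fc.al (nat_lit 3060) (nat_lit 932) (nat_lit 1075) (Dv.wd (nat_lit 163) [Mv.b (nat_lit 2835), Mv.b (nat_lit 3057), Mv.f (nat_lit 2524)])))
(Tr.lf (Fc.al (nat_lit 3061) (nat_lit 775) (nat_lit 925) (Dv.wd (nat_lit 160) [Mv.f (nat_lit 2826), Mv.b (nat_lit 3058), Mv.b (nat_lit 2512)])))))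
(Tr.nd (nat_lit 3064) (Tr.nd (nat_lit 3063) (Tr.lf (Fc.al (nat_lit 3062) (nat_lit 525) (nat_lit 930) (Dv.wd (nat_lit 158) [Mv.f (nat_lit 2520), Mv.b (nat_lit 3059), Mv.f (nat_lit 1896)])))
(Tr.lf (Fc.al (nat_lit 3063) (nat_lit 523) (nat_lit 639) (Dv.wd (nat_lit 159) [Mv.f (nat_lit 2200), Mv.b (nat_lit 3059), Mv.b (nat_lit 1895)]))))
(Tr.nd (nat_lit 3065) (Tr.lf (Fc.ed (nat_lit 3064) (nat_lit 932) Col.f (nat_lit 932) (Dv.wd (nat_lit 169) [Mv.b (nat_lit 2836), Mv.b (nat_lit 3060)])))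
(Tr.lf (Fc.al (nat_lit 3065) (nat_lit 916) (nat_lit 1057) (Dv.wd (nat_lit 208) [Mv.f (nat_lit 2800), Mv.b (nat_lit 3061), Mv.b (nat_lit 2490)])))))))
(Tr.nd (nat_lit 3073) (Tr.nd (nat_lit 3069) (Tr.nd (nat_lit 3067) (Tr.lf (Fc.al (nat_lit 3066) (nat_lit 921) (nat_lit 1065) (Dv.wd (nat_lit 162) [Mv.f (nat_lit 2814), Mv.b (nat_lit 3061), Mv.b (nat_lit 2500)])))
(Tr.nd (nat_lit 3068) (Tr.lf (Fc.al (nat_lit 3067) (nat_lit 637) (nat_lit 1069) (Dv.wd (nat_lit 158) [Mv.f (nat_lit 2824), Mv.b (nat_lit 3061), Mv.f (nat_lit 2189)])))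
(Tr.lf (Fc.al (nat_lit 3068) (nat_lit 643) (nat_lit 782) (Dv.wd (nat_lit 169) [Mv.b (nat_lit 2521), Mv.b (nat_lit 3062), Mv.b (nat_lit 1902)])))))
(Tr.nd (nat_lit 3071) (Tr.nd (nat_lit 3070) (Tr.lf (Fc.al (nat_lit 3069) (nat_lit 531) (nat_lit 649) (Dv.wd (nat_lit 163) [Mv.f (nat_lit 1917), Mv.b (nat_lit 3063), Mv.b (nat_lit 1628)])))
(Tr.lf (Fc.al (nat_lit 3070) (nat_lit 768) (nat_lit 915) (Dv.wd (nat_lit 159) [Mv.f (nat_lit 2799), Mv.b (nat_lit 3065), Mv.b (nat_lit 2489)]))))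
(Tr.nd (nat_lit 3072) (Tr.lf (Fc.al (nat_lit 3071) (nat_lit 770) (nat_lit 920) (Dv.wd (nat_lit 159) [Mv.f (nat_lit 2813), Mv.b (nat_lit 3066), Mv.b (nat_lit 2499)])))
(Tr.lf (Fc.al (nat_lit 3072) (nat_lit 778) (nat_lit 928) (Dv.wd (nat_lit 169) [Mv.b (nat_lit 2825), Mv.b (nat_lit 3067), Mv.b (nat_lit 2196)]))))))
(Tr.nd (nat_lit 3077) (Tr.nd (nat_lit 3075) (Tr.nd (nat_lit 3074) (Tr.lf (Fc.al (nat_lit 3073) (nat_lit 524) (nat_lit 641) (Dv.wd (nat_lit 159) [Mv.f (nat_lit 2204), Mv.b (nat_lit 3068), Mv.b (nat_lit 1901)])))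
(Tr.lf (Fc.ed (nat_lit 3074) (nat_lit 531) Col.f (nat_lit 531) (Dv.wd (nat_lit 169) [Mv.f (nat_lit 1916), Mv.b (nat_lit 3069)]))))
(Tr.nd (nat_lit 3076) (Tr.lf (Fc.al (nat_lit 3075) (nat_lit 914) (nat_lit 1055) (Dv.wd (nat_lit 162) [Mv.f (nat_lit 2796), Mv.b (nat_lit 3070), Mv.b (nat_lit 2486)])))
(Tr.lf (Fc.al (nat_lit 3076) (nat_lit 631) (nat_lit 1056) (Dv.wd (nat_lit 158) [Mv.b (nat_lit 2797), Mv.b (nat_lit 3070), Mv.b (nat_lit 2172)])))))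
(Tr.nd (nat_lit 3079) (Tr.nd (nat_lit 3078) (Tr.lf (Fc.al (nat_lit 3077) (nat_lit 633) (nat_lit 1064) (Dv.wd (nat_lit 158) [Mv.b (nat_lit 2811), Mv.b (nat_lit 3071), Mv.b (nat_lit 2175)])))
(Tr.lf (Fc.al (nat_lit 3078) (nat_lit 756) (nat_lit 1073) (Dv.wd (nat_lit 160) [Mv.b (nat_lit 2832), Mv.b (nat_lit 3072), Mv.f (nat_lit 2197)]))))
(Tr.nd (nat_lit 3080) (Tr.lf (Fc.al (nat_lit 3079) (nat_lit 929) (nat_lit 1072) (Dv.wd (nat_lit 164) [Mv.f (nat_lit 2831), Mv.b (nat_lit 3072), Mv.b (nat_lit 2518)])))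
(Tr.lf (Fc.al (nat_lit 3080) (nat_lit 423) (nat_lit 668) (Dv.wd (nat_lit 160) [Mv.f (nat_lit 1965), Mv.b (nat_lit 3073), Mv.f (nat_lit 1611)]))))))))
(Tr.nd (nat_lit 3095) (Tr.nd (nat_lit 3088) (Tr.nd (nat_lit 3084) (Tr.nd (nat_lit 3082) (Tr.lf (Fc.al (nat_lit 3081) (nat_lit 934) (nat_lit 1078) (Dv.wd (nat_lit 163) [Mv.f (nat_lit 2841), Mv.b (nat_lit 3075), Mv.b (nat_lit 2529)])))
(Tr.nd (nat_lit 3083) (Tr.lf (Fc.al (nat_lit 3082) (nat_lit 518) (nat_lit 1096) (Dv.wd (nat_lit 160) [Mv.f (nat_lit 2882), Mv.b (nat_lit 3076), Mv.b (nat_lit 1873)])))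
(Tr.lf (Fc.al (nat_lit 3083) (nat_lit 771) (nat_lit 922) (Dv.wd (nat_lit 169) [Mv.b (nat_lit 2812), Mv.b (nat_lit 3077), Mv.f (nat_lit 2177)])))))
(Tr.nd (nat_lit 3086) (Tr.nd (nat_lit 3085) (Tr.lf (Fc.al (nat_lit 3084) (nat_lit 620) (nat_lit 1097) (Dv.wd (nat_lit 159) [Mv.f (nat_lit 2885), Mv.b (nat_lit 3078), Mv.b (nat_lit 2148)])))
(Tr.lf (Fc.al (nat_lit 3085) (nat_lit 777) (nat_lit 927) (Dv.wd (nat_lit 159) [Mv.f (nat_lit 2830), Mv.b (nat_lit 3079), Mv.b (nat_lit 2517)]))))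
(Tr.nd (nat_lit 3087) (Tr.lf (Fc.al (nat_lit 3086) (nat_lit 302) (nat_lit 675) (Dv.wd (nat_lit 161) [Mv.f (nat_lit 1978), Mv.b (nat_lit 3080), Mv.f (nat_lit 1350)])))
(Tr.lf (Fc.al (nat_lit 3087) (nat_lit 786) (nat_lit 1088) (Dv.wd (nat_lit 158) [Mv.f (nat_lit 2862), Mv.b (nat_lit 3081), Mv.b (nat_lit 2528)]))))))
(Tr.nd (nat_lit 3091) (Tr.nd (nat_lit 3089) (Tr.lf (Fc.al (nat_lit 3088) (nat_lit 420) (nat_lit 1098) (Dv.wd (nat_lit 161) [Mv.f (nat_lit 2887), Mv.b (nat_lit 3082), Mv.b (nat_lit 1595)])))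
(Tr.nd (nat_lit 3090) (Tr.lf (Fc.al (nat_lit 3089) (nat_lit 632) (nat_lit 955) (Dv.wd (nat_lit 169) [Mv.b (nat_lit 2883), Mv.b (nat_lit 3082), Mv.f (nat_lit 1875)])))
(Tr.lf (Fc.al (nat_lit 3090) (nat_lit 918) (nat_lit 1060) (Dv.wd (nat_lit 161) [Mv.f (nat_lit 2805), Mv.b (nat_lit 3083), Mv.b (nat_lit 2494)])))))
(Tr.nd (nat_lit 3093) (Tr.nd (nat_lit 3092) (Tr.lf (Fc.al (nat_lit 3091) (nat_lit 923) (nat_lit 1067) (Dv.wd (nat_lit 164) [Mv.b (nat_lit 2818), Mv.b (nat_lit 3083), Mv.f (nat_lit 2503)])))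
(Tr.lf (Fc.al (nat_lit 3092) (nat_lit 510) (nat_lit 958) (Dv.wd (nat_lit 160) [Mv.f (nat_lit 2884), Mv.b (nat_lit 3084), Mv.f (nat_lit 1851)]))))
(Tr.nd (nat_lit 3094) (Tr.lf (Fc.al (nat_lit 3093) (nat_lit 638) (nat_lit 957) (Dv.wd (nat_lit 160) [Mv.f (nat_lit 2578), Mv.b (nat_lit 3085), Mv.f (nat_lit 2194)])))
(Tr.lf (Fc.al (nat_lit 3094) (nat_lit 173) (nat_lit 815) (Dv.wd (nat_lit 162) [Mv.f (nat_lit 2277), Mv.b (nat_lit 3086), Mv.f (nat_lit 987)])))))))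
(Tr.nd (nat_lit 3102) (Tr.nd (nat_lit 3098) (Tr.nd (nat_lit 3096) (Tr.lf (Fc.al (nat_lit 3095) (nat_lit 645) (nat_lit 1094) (Dv.wd (nat_lit 160) [Mv.f (nat_lit 2878), Mv.b (nat_lit 3087), Mv.b (nat_lit 2211)])))
(Tr.nd (nat_lit 3097) (Tr.lf (Fc.al (nat_lit 3096) (nat_lit 794) (nat_lit 944) (Dv.wd (nat_lit 169) [Mv.f (nat_lit 2861), Mv.b (nat_lit 3087), Mv.b (nat_lit 2230)])))
(Tr.lf (Fc.al (nat_lit 3097) (nat_lit 519) (nat_lit 960) (Dv.wd (nat_lit 169) [Mv.b (nat_lit 2888), Mv.b (nat_lit 3088), Mv.f (nat_lit 1597)])))))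
(Tr.nd (nat_lit 3100) (Tr.nd (nat_lit 3099) (Tr.lf (Fc.al (nat_lit 3098) (nat_lit 661) (nat_lit 805) (Dv.wd (nat_lit 158) [Mv.b (nat_lit 2574), Mv.b (nat_lit 3089), Mv.b (nat_lit 1949)])))
(Tr.lf (Fc.ed (nat_lit 3099) (nat_lit 918) Col.e (nat_lit 918) (Dv.wd (nat_lit 158) [Mv.f (nat_lit 2804), Mv.b (nat_lit 3090)]))))
(Tr.nd (nat_lit 3101) (Tr.lf (Fc.ed (nat_lit 3100) (nat_lit 923) Col.e (nat_lit 923) (Dv.wd (nat_lit 158) [Mv.b (nat_lit 2819), Mv.b (nat_lit 3091)])))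
(Tr.lf (Fc.al (nat_lit 3101) (nat_lit 621) (nat_lit 810) (Dv.wd (nat_lit 158) [Mv.b (nat_lit 2581), Mv.b (nat_lit 3092), Mv.f (nat_lit 1852)]))))))
(Tr.nd (nat_lit 3106) (Tr.nd (nat_lit 3104) (Tr.nd (nat_lit 3103) (Tr.lf (Fc.al (nat_lit 3102) (nat_lit 667) (nat_lit 809) (Dv.wd (nat_lit 158) [Mv.b (nat_lit 2579), Mv.b (nat_lit 3093), Mv.b (nat_lit 1962)])))
(Tr.lf (Fc.al (nat_lit 3103) (nat_lit 186) (nat_lit 674) (Dv.wd (nat_lit 158) [Mv.b (nat_lit 2278), Mv.b (nat_lit 3094), Mv.b (nat_lit 632)]))))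
(Tr.nd (nat_lit 3105) (Tr.lf (Fc.al (nat_lit 3104) (nat_lit 652) (nat_lit 951) (Dv.wd (nat_lit 169) [Mv.f (nat_lit 2877), Mv.b (nat_lit 3095), Mv.b (nat_lit 1923)])))
(Tr.lf (Fc.al (nat_lit 3105) (nat_lit 945) (nat_lit 1089) (Dv.wd (nat_lit 164) [Mv.b (nat_lit 2863), Mv.b (nat_lit 3096), Mv.f (nat_lit 2548)])))))
(Tr.nd (nat_lit 3108) (Tr.nd (nat_lit 3107) (Tr.lf (Fc.al (nat_lit 3106) (nat_lit 542) (nat_lit 813) (Dv.wd (nat_lit 158) [Mv.b (nat_lit 2585), Mv.b (nat_lit 3097), Mv.b (nat_lit 1660)])))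
(Tr.lf (Fc.al (nat_lit 3107) (nat_lit 806) (nat_lit 956) (Dv.wd (nat_lit 164) [Mv.f (nat_lit 2576), Mv.b (nat_lit 3098), Mv.b (nat_lit 2258)]))))
(Tr.nd (nat_lit 3109) (Tr.lf (Fc.al (nat_lit 3108) (nat_lit 757) (nat_lit 906) (Dv.wd (nat_lit 160) [Mv.f (nat_lit 2468), Mv.b (nat_lit 3101), Mv.f (nat_lit 2149)])))
(Tr.lf (Fc.ed (nat_lit 3109) (nat_lit 667) Col.d (nat_lit 667) (Dv.wd (nat_lit 160) [Mv.b (nat_lit 2266), Mv.b (nat_lit 3102)])))))))))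
(Tr.nd (nat_lit 3139) (Tr.nd (nat_lit 3124) (Tr.nd (nat_lit 3117) (Tr.nd (nat_lit 3113) (Tr.nd (nat_lit 3111) (Tr.lf (Fc.al (nat_lit 3110) (nat_lit 192) (nat_lit 553) (Dv.wd (nat_lit 160) [Mv.b (nat_lit 1976), Mv.b (nat_lit 3103), Mv.b (nat_lit 646)])))
(Tr.nd (nat_lit 3112) (Tr.lf (Fc.al (nat_lit 3111) (nat_lit 658) (nat_lit 801) (Dv.wd (nat_lit 158) [Mv.f (nat_lit 2566), Mv.b (nat_lit 3104), Mv.b (nat_lit 1941)])))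
(Tr.lf (Fc.ed (nat_lit 3112) (nat_lit 945) Col.e (nat_lit 945) (Dv.wd (nat_lit 158) [Mv.b (nat_lit 2864), Mv.b (nat_lit 3105)])))))
(Tr.nd (nat_lit 3115) (Tr.nd (nat_lit 3114) (Tr.lf (Fc.al (nat_lit 3113) (nat_lit 551) (nat_lit 671) (Dv.wd (nat_lit 160) [Mv.b (nat_lit 2273), Mv.b (nat_lit 3106), Mv.b (nat_lit 1683)])))
(Tr.lf (Fc.al (nat_lit 3114) (nat_lit 660) (nat_lit 804) (Dv.wd (nat_lit 163) [Mv.f (nat_lit 2575), Mv.b (nat_lit 3107), Mv.b (nat_lit 2257)]))))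
(Tr.nd (nat_lit 3116) (Tr.lf (Fc.al (nat_lit 3115) (nat_lit 905) (nat_lit 1050) (Dv.wd (nat_lit 209) [Mv.f (nat_lit 2788), Mv.b (nat_lit 3108), Mv.f (nat_lit 2466)])))
(Tr.lf (Fc.al (nat_lit 3116) (nat_lit 324) (nat_lit 439) (Dv.wd (nat_lit 161) [Mv.b (nat_lit 1687), Mv.b (nat_lit 3110), Mv.b (nat_lit 1047)]))))))
(Tr.nd (nat_lit 3120) (Tr.nd (nat_lit 3118) (Tr.lf (Fc.al (nat_lit 3117) (nat_lit 802) (nat_lit 952) (Dv.wd (nat_lit 164) [Mv.b (nat_lit 2568), Mv.b (nat_lit 3111), Mv.f (nat_lit 2250)])))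
(Tr.nd (nat_lit 3119) (Tr.lf (Fc.al (nat_lit 3118) (nat_lit 672) (nat_lit 814) (Dv.wd (nat_lit 164) [Mv.f (nat_lit 2275), Mv.b (nat_lit 3113), Mv.b (nat_lit 1972)])))
(Tr.lf (Fc.ed (nat_lit 3119) (nat_lit 660) Col.d (nat_lit 660) (Dv.wd (nat_lit 160) [Mv.b (nat_lit 2255), Mv.b (nat_lit 3114)])))))
(Tr.nd (nat_lit 3122) (Tr.nd (nat_lit 3121) (Tr.lf (Fc.ed (nat_lit 3120) (nat_lit 905) Col.h (nat_lit 905) (Dv.wd (nat_lit 159) [Mv.f (nat_lit 2787), Mv.b (nat_lit 3115)])))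
(Tr.lf (Fc.al (nat_lit 3121) (nat_lit 189) (nat_lit 323) (Dv.wd (nat_lit 163) [Mv.f (nat_lit 1396), Mv.b (nat_lit 3116), Mv.b (nat_lit 1046)]))))
(Tr.nd (nat_lit 3123) (Tr.lf (Fc.al (nat_lit 3122) (nat_lit 953) (nat_lit 1095) (Dv.wd (nat_lit 169) [Mv.b (nat_lit 2879), Mv.b (nat_lit 3117), Mv.f (nat_lit 2570)])))
(Tr.lf (Fc.al (nat_lit 3123) (nat_lit 678) (nat_lit 816) (Dv.wd (nat_lit 169) [Mv.f (nat_lit 2280), Mv.b (nat_lit 3118), Mv.b (nat_lit 1985)])))))))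
(Tr.nd (nat_lit 3131) (Tr.nd (nat_lit 3127) (Tr.nd (nat_lit 3125) (Tr.lf (Fc.al (nat_lit 3124) (nat_lit 550) (nat_lit 670) (Dv.wd (nat_lit 163) [Mv.f (nat_lit 2274), Mv.b (nat_lit 3118), Mv.b (nat_lit 1971)])))
(Tr.nd (nat_lit 3126) (Tr.lf (Fc.ed (nat_lit 3125) (nat_lit 189) Col.b (nat_lit 189) (Dv.wd (nat_lit 162) [Mv.f (nat_lit 1045), Mv.b (nat_lit 3121)])))
(Tr.lf (Fc.al (nat_lit 3126) (nat_lit 195) (nat_lit 329) (Dv.wd (nat_lit 159) [Mv.f (nat_lit 1057), Mv.b (nat_lit 3121), Mv.b (nat_lit 654)])))))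
(Tr.nd (nat_lit 3129) (Tr.nd (nat_lit 3128) (Tr.lf (Fc.ed (nat_lit 3127) (nat_lit 953) Col.d (nat_lit 953) (Dv.wd (nat_lit 160) [Mv.b (nat_lit 2880), Mv.b (nat_lit 3122)])))
(Tr.lf (Fc.al (nat_lit 3128) (nat_lit 680) (nat_lit 817) (Dv.wd (nat_lit 158) [Mv.f (nat_lit 2282), Mv.b (nat_lit 3123), Mv.b (nat_lit 1990)]))))
(Tr.nd (nat_lit 3130) (Tr.lf (Fc.al (nat_lit 3129) (nat_lit 560) (nat_lit 677) (Dv.wd (nat_lit 163) [Mv.f (nat_lit 2279), Mv.b (nat_lit 3123), Mv.b (nat_lit 1984)])))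
(Tr.lf (Fc.al (nat_lit 3130) (nat_lit 443) (nat_lit 558) (Dv.wd (nat_lit 159) [Mv.b (nat_lit 1969), Mv.b (nat_lit 3124), Mv.f (nat_lit 1681)]))))))
(Tr.nd (nat_lit 3135) (Tr.nd (nat_lit 3133) (Tr.nd (nat_lit 3132) (Tr.lf (Fc.al (nat_lit 3131) (nat_lit 330) (nat_lit 441) (Dv.wd (nat_lit 160) [Mv.b (nat_lit 1399), Mv.b (nat_lit 3126), Mv.f (nat_lit 1058)])))
(Tr.lf (Fc.al (nat_lit 3132) (nat_lit 562) (nat_lit 679) (Dv.wd (nat_lit 163) [Mv.f (nat_lit 2281), Mv.b (nat_lit 3128), Mv.b (nat_lit 1989)]))))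
(Tr.nd (nat_lit 3134) (Tr.lf (Fc.ed (nat_lit 3133) (nat_lit 560) Col.c (nat_lit 560) (Dv.wd (nat_lit 161) [Mv.b (nat_lit 1982), Mv.b (nat_lit 3129)])))
(Tr.lf (Fc.al (nat_lit 3134) (nat_lit 444) (nat_lit 559) (Dv.wd (nat_lit 159) [Mv.f (nat_lit 1981), Mv.b (nat_lit 3129), Mv.b (nat_lit 1705)])))))
(Tr.nd (nat_lit 3137) (Tr.nd (nat_lit 3136) (Tr.lf (Fc.ed (nat_lit 3135) (nat_lit 443) Col.c (nat_lit 443) (Dv.wd (nat_lit 161) [Mv.f (nat_lit 1701), Mv.b (nat_lit 3130)])))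
(Tr.lf (Fc.ed (nat_lit 3136) (nat_lit 330) Col.b (nat_lit 330) (Dv.wd (nat_lit 162) [Mv.b (nat_lit 1400), Mv.b (nat_lit 3131)]))))
(Tr.nd (nat_lit 3138) (Tr.lf (Fc.al (nat_lit 3137) (nat_lit 442) (nat_lit 556) (Dv.wd (nat_lit 158) [Mv.b (nat_lit 1692), Mv.b (nat_lit 3131), Mv.f (nat_lit 1401)])))
(Tr.lf (Fc.ed (nat_lit 3138) (nat_lit 562) Col.c (nat_lit 562) (Dv.wd (nat_lit 161) [Mv.b (nat_lit 1987), Mv.b (nat_lit 3132)]))))))))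
(Tr.nd (nat_lit 3154) (Tr.nd (nat_lit 3146) (Tr.nd (nat_lit 3142) (Tr.nd (nat_lit 3140) (Tr.lf (Fc.ed (nat_lit 3139) (nat_lit 444) Col.c (nat_lit 444) (Dv.wd (nat_lit 161) [Mv.f (nat_lit 1703), Mv.b (nat_lit 3134)])))
(Tr.nd (nat_lit 3141) (Tr.lf (Fc.ed (nat_lit 3140) (nat_lit 442) Col.b (nat_lit 442) (Dv.wd (nat_lit 162) [Mv.b (nat_lit 1693), Mv.b (nat_lit 3137)])))
(Tr.lf (Fc.al (nat_lit 3141) (nat_lit 557) (nat_lit 676) (Dv.wd (nat_lit 169) [Mv.b (nat_lit 1979), Mv.b (nat_lit 3137), Mv.f (nat_lit 1694)])))))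
(Tr.nd (nat_lit 3144) (Tr.nd (nat_lit 3143) (Tr.lf (Fc.ed (nat_lit 3142) (nat_lit 557) Col.b (nat_lit 557) (Dv.wd (nat_lit 162) [Mv.b (nat_lit 1980), Mv.b (nat_lit 3141)])))
(Tr.lf (Fc.ed (nat_lit 3143) (nat_lit 1080) Col.d (nat_lit 1080) (Dv.wd (nat_lit 210) [Mv.f (nat_lit 2846), Mv.b (nat_lit 2555), Mv.b (nat_lit 2554), Mv.f (nat_lit 2236), Mv.f (nat_lit 2238), Mv.b (nat_lit 2235), Mv.b (nat_lit 1931), Mv.b (nat_lit 1662), Mv.f (nat_lit 1663), Mv.f (nat_lit 1664), Mv.f (nat_lit 1665), Mv.b (nat_lit 1661), Mv.b (nat_lit 1378), Mv.b (nat_lit 1041), Mv.f (nat_lit 1042), Mv.f (nat_lit 1043), Mv.b (nat_lit 1055), Mv.b (nat_lit 1054), Mv.b (nat_lit 649), Mv.f (nat_lit 651), Mv.f (nat_lit 1058), Mv.f (nat_lit 1401), Mv.f (nat_lit 1694), Mv.f (nat_lit 1699), Mv.f (nat_lit 1695), Mv.f (nat_lit 1696),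 Mv.f (nat_lit 3142), Mv.f (nat_lit 1697), Mv.f (nat_lit 1698), Mv.f (nat_lit 1700), Mv.b (nat_lit 1694), Mv.f (nat_lit 1405), Mv.f (nat_lit 1403), Mv.f (nat_lit 3140), Mv.f (nat_lit 1404), Mv.f (nat_lit 1406), Mv.b (nat_lit 1401), Mv.f (nat_lit 1060), Mv.f (nat_lit 1062), Mv.f (nat_lit 1244), Mv.f (nat_lit 3136), Mv.f (nat_lit 1061), Mv.b (nat_lit 1058), Mv.f (nat_lit 653), Mv.f (nat_lit 810), Mv.f (nat_lit 654), Mv.f (nat_lit 1220), Mv.f (nat_lit 3125), Mv.b (nat_lit 638), Mv.b (nat_lit 259), Mv.b (nat_lit 256), Mv.b (nat_lit 253), Mv.f (nat_lit 463), Mv.f (nat_lit 1212), Mv.f (nat_lit 608), Mv.f (nat_lit 997), Mv.f (nat_lit 1360), Mv.f (nat_lit 1627), Mv.f (nat_lit 3074), Mv.f (nat_lit 1918), Mv.b (nat_lit 2221), Mv.b (nat_lit 2537), Mv.b (nat_lit 2845)]))))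
(Tr.nd (nat_lit 3145) (Tr.lf (Fc.ed (nat_lit 3144) (nat_lit 1079) Col.h (nat_lit 1079) (Dv.wd (nat_lit 43) [Mv.b (nat_lit 2842), Mv.f (nat_lit 2844), Mv.f (nat_lit 3143), Mv.b (nat_lit 2844), Mv.f (nat_lit 2842)])))
(Tr.lf (Fc.ed (nat_lit 3145) (nat_lit 1093) Col.d (nat_lit 1093) (Dv.wd (nat_lit 44) [Mv.f (nat_lit 2873), Mv.f (nat_lit 3127), Mv.b (nat_lit 2873)]))))))
(Tr.nd (nat_lit 3150) (Tr.nd (nat_lit 3148) (Tr.nd (nat_lit 3147) (Tr.lf (Fc.ed (nat_lit 3146) (nat_lit 1048) Col.h (nat_lit 1048) (Dv.wd (nat_lit 107) [Mv.f (nat_lit 2784), Mv.f (nat_lit 3120), Mv.b (nat_lit 2784)])))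
(Tr.lf (Fc.ed (nat_lit 3147) (nat_lit 1049) Col.d (nat_lit 1049) (Dv.wd (nat_lit 130) [Mv.b (nat_lit 2785), Mv.b (nat_lit 2783), Mv.f (nat_lit 3146), Mv.f (nat_lit 2783), Mv.f (nat_lit 2785)]))))
(Tr.nd (nat_lit 3149) (Tr.lf (Fc.ed (nat_lit 3148) (nat_lit 1168) Col.c (nat_lit 1168) (Dv.wd (nat_lit 47) [Mv.b (nat_lit 3049), Mv.b (nat_lit 2786), Mv.f (nat_lit 3147), Mv.f (nat_lit 2786), Mv.f (nat_lit 3049)])))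
(Tr.lf (Fc.ed (nat_lit 3149) (nat_lit 1038) Col.c (nat_lit 1038) (Dv.wd (nat_lit 52) [Mv.b (nat_lit 3050), Mv.f (nat_lit 3148), Mv.f (nat_lit 3050)])))))
(Tr.nd (nat_lit 3152) (Tr.nd (nat_lit 3151) (Tr.lf (Fc.ed (nat_lit 3150) (nat_lit 1148) Col.b (nat_lit 1148) (Dv.wd (nat_lit 53) [Mv.b (nat_lit 3008), Mv.b (nat_lit 2760), Mv.f (nat_lit 3149), Mv.f (nat_lit 2760), Mv.f (nat_lit 3008)])))
(Tr.lf (Fc.al (nat_lit 3151) (nat_lit 1149) (nat_lit 1018) (Dv.wd (nat_lit 211) [Mv.b (nat_lit 3009), Mv.f (nat_lit 3150), Mv.f (nat_lit 3009), Mv.f (nat_lit 3010)]))))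
(Tr.nd (nat_lit 3153) (Tr.lf (Fc.ed (nat_lit 3152) (nat_lit 1018) Col.b (nat_lit 1018) (Dv.wd (nat_lit 162) [Mv.f (nat_lit 3010), Mv.f (nat_lit 3151)])))
(Tr.lf (Fc.ed (nat_lit 3153) (nat_lit 1141) Col.b (nat_lit 1141) (Dv.wd (nat_lit 125) [Mv.f (nat_lit 2993), Mv.f (nat_lit 3152), Mv.b (nat_lit 2993)])))))))
(Tr.nd (nat_lit 3161) (Tr.nd (nat_lit 3157) (Tr.nd (nat_lit 3155) (Tr.lf (Fc.ed (nat_lit 3154) (nat_lit 1068) Col.e (nat_lit 1068) (Dv.wd (nat_lit 62) [Mv.b (nat_lit 2820), Mv.f (nat_lit 3100), Mv.f (nat_lit 2820)])))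
(Tr.nd (nat_lit 3156) (Tr.lf (Fc.ed (nat_lit 3155) (nat_lit 1061) Col.e (nat_lit 1061) (Dv.wd (nat_lit 62) [Mv.b (nat_lit 2806), Mv.f (nat_lit 3099), Mv.f (nat_lit 2806)])))
(Tr.lf (Fc.ed (nat_lit 3156) (nat_lit 1039) Col.d (nat_lit 1170) Dv.df))))
(Tr.nd (nat_lit 3159) (Tr.nd (nat_lit 3158) (Tr.lf (Fc.ed (nat_lit 3157) (nat_lit 1170) Col.a (nat_lit 1170) (Dv.wd (nat_lit 182) [Mv.b (nat_lit 3156), Mv.f (nat_lit 2764), Mv.f (nat_lit 3156)])))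
(Tr.lf (Fc.ed (nat_lit 3158) (nat_lit 1170) Col.b (nat_lit 1170) (Dv.wd (nat_lit 183) [Mv.b (nat_lit 3156), Mv.f (nat_lit 2762), Mv.f (nat_lit 3156)]))))
(Tr.nd (nat_lit 3160) (Tr.lf (Fc.ed (nat_lit 3159) (nat_lit 1040) Col.h (nat_lit 1171) Dv.df))
(Tr.lf (Fc.ed (nat_lit 3160) (nat_lit 1171) Col.b (nat_lit 1153) (Dv.wd (nat_lit 151) [Mv.b (nat_lit 3019), Mv.b (nat_lit 2766), Mv.f (nat_lit 3159)]))))))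
(Tr.nd (nat_lit 3165) (Tr.nd (nat_lit 3163) (Tr.nd (nat_lit 3162) (Tr.lf (Fc.ed (nat_lit 3161) (nat_lit 1171) Col.c (nat_lit 1044) (Dv.wd (nat_lit 102) [Mv.b (nat_lit 2775), Mv.b (nat_lit 2767), Mv.f (nat_lit 3159)])))
(Tr.lf (Fc.ed (nat_lit 3162) (nat_lit 1041) Col.i (nat_lit 1172) Dv.df)))
(Tr.nd (nat_lit 3164) (Tr.lf (Fc.ed (nat_lit 3163) (nat_lit 1172) Col.b (nat_lit 1156) (Dv.wd (nat_lit 144) [Mv.b (nat_lit 3025), Mv.b (nat_lit 2769), Mv.f (nat_lit 3162)])))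
(Tr.lf (Fc.ed (nat_lit 3164) (nat_lit 1042) Col.d (nat_lit 1173) Dv.df))))
(Tr.nd (nat_lit 3167) (Tr.nd (nat_lit 3166) (Tr.lf (Fc.ed (nat_lit 3165) (nat_lit 1173) Col.a (nat_lit 1173) (Dv.wd (nat_lit 182) [Mv.b (nat_lit 3164), Mv.f (nat_lit 2771), Mv.f (nat_lit 3164)])))
(Tr.lf (Fc.ed (nat_lit 3166) (nat_lit 1173) Col.b (nat_lit 1047) (Dv.wd (nat_lit 183) [Mv.b (nat_lit 2781), Mv.b (nat_lit 2772), Mv.f (nat_lit 3164)]))))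
(Tr.nd (nat_lit 3168) (Tr.lf (Fc.ed (nat_lit 3167) (nat_lit 1173) Col.f (nat_lit 1043) (Dv.wd (nat_lit 37) [Mv.b (nat_lit 2774), Mv.b (nat_lit 2773), Mv.f (nat_lit 3164)])))
(Tr.lf (Fc.ed (nat_lit 3168) (nat_lit 1043) Col.c (nat_lit 1174) Dv.df)))))))))
(Tr.nd (nat_lit 3228) (Tr.nd (nat_lit 3198) (Tr.nd (nat_lit 3183) (Tr.nd (nat_lit 3176) (Tr.nd (nat_lit 3172) (Tr.nd (nat_lit 3170) (Tr.lf (Fc.ed (nat_lit 3169) (nat_lit 1046) Col.d (nat_lit 1175) Dv.df))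
(Tr.nd (nat_lit 3171) (Tr.lf (Fc.ed (nat_lit 3170) (nat_lit 1047) Col.c (nat_lit 1176) Dv.df))
(Tr.lf (Fc.ed (nat_lit 3171) (nat_lit 1176) Col.d (nat_lit 1164) (Dv.wd (nat_lit 106) [Mv.b (nat_lit 3043), Mv.b (nat_lit 2748), Mv.b (nat_lit 2461), Mv.f (nat_lit 2781), Mv.f (nat_lit 3170)])))))
(Tr.nd (nat_lit 3174) (Tr.nd (nat_lit 3173) (Tr.lf (Fc.ed (nat_lit 3172) (nat_lit 1058) Col.h (nat_lit 1177) Dv.df))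
(Tr.lf (Fc.ed (nat_lit 3173) (nat_lit 1177) Col.i (nat_lit 1177) (Dv.wd (nat_lit 177) [Mv.b (nat_lit 3172), Mv.b (nat_lit 2843), Mv.f (nat_lit 3144), Mv.f (nat_lit 2843), Mv.f (nat_lit 3172)]))))
(Tr.nd (nat_lit 3175) (Tr.lf (Fc.ed (nat_lit 3174) (nat_lit 1059) Col.d (nat_lit 1178) Dv.df))
(Tr.lf (Fc.ed (nat_lit 3175) (nat_lit 1061) Col.d (nat_lit 1179) Dv.df)))))
(Tr.nd (nat_lit 3179) (Tr.nd (nat_lit 3177) (Tr.lf (Fc.ed (nat_lit 3176) (nat_lit 1179) Col.f (nat_lit 1062) (Dv.wd (nat_lit 37) [Mv.b (nat_lit 2808), Mv.b (nat_lit 2807), Mv.f (nat_lit 3175)])))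
(Tr.nd (nat_lit 3178) (Tr.lf (Fc.ed (nat_lit 3177) (nat_lit 1062) Col.i (nat_lit 1180) Dv.df))
(Tr.lf (Fc.ed (nat_lit 3178) (nat_lit 1180) Col.c (nat_lit 1172) (Dv.wd (nat_lit 145) [Mv.b (nat_lit 3162), Mv.b (nat_lit 2809), Mv.f (nat_lit 3177)])))))
(Tr.nd (nat_lit 3181) (Tr.nd (nat_lit 3180) (Tr.lf (Fc.ed (nat_lit 3179) (nat_lit 1180) Col.d (nat_lit 1063) (Dv.wd (nat_lit 142) [Mv.b (nat_lit 2810), Mv.f (nat_lit 2808), Mv.f (nat_lit 3177)])))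
(Tr.lf (Fc.ed (nat_lit 3180) (nat_lit 1066) Col.c (nat_lit 1181) Dv.df)))
(Tr.nd (nat_lit 3182) (Tr.lf (Fc.ed (nat_lit 3181) (nat_lit 1181) Col.e (nat_lit 1174) (Dv.wd (nat_lit 41) [Mv.b (nat_lit 3168), Mv.b (nat_lit 2817), Mv.f (nat_lit 3180)])))
(Tr.lf (Fc.ed (nat_lit 3182) (nat_lit 1066) Col.i (nat_lit 1182) Dv.df))))))
(Tr.nd (nat_lit 3190) (Tr.nd (nat_lit 3186) (Tr.nd (nat_lit 3184) (Tr.lf (Fc.ed (nat_lit 3183) (nat_lit 1182) Col.b (nat_lit 1071) (Dv.wd (nat_lit 144) [Mv.b (nat_lit 2828), Mv.b (nat_lit 2816), Mv.f (nat_lit 3182)])))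
(Tr.nd (nat_lit 3185) (Tr.lf (Fc.ed (nat_lit 3184) (nat_lit 1071) Col.h (nat_lit 1183) Dv.df))
(Tr.lf (Fc.ed (nat_lit 3185) (nat_lit 1183) Col.a (nat_lit 1076) (Dv.wd (nat_lit 124) [Mv.b (nat_lit 2837), Mv.b (nat_lit 2829), Mv.f (nat_lit 3184)])))))
(Tr.nd (nat_lit 3188) (Tr.nd (nat_lit 3187) (Tr.lf (Fc.ed (nat_lit 3186) (nat_lit 1081) Col.i (nat_lit 1184) Dv.df))
(Tr.lf (Fc.ed (nat_lit 3187) (nat_lit 1184) Col.d (nat_lit 1082) (Dv.wd (nat_lit 142) [Mv.b (nat_lit 2848), Mv.f (nat_lit 2847), Mv.f (nat_lit 3186)]))))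
(Tr.nd (nat_lit 3189) (Tr.lf (Fc.ed (nat_lit 3188) (nat_lit 1083) Col.d (nat_lit 1185) Dv.df))
(Tr.lf (Fc.ed (nat_lit 3189) (nat_lit 1185) Col.k (nat_lit 1084) (Dv.wd (nat_lit 81) [Mv.b (nat_lit 2852), Mv.f (nat_lit 2850), Mv.f (nat_lit 3188)]))))))
(Tr.nd (nat_lit 3194) (Tr.nd (nat_lit 3192) (Tr.nd (nat_lit 3191) (Tr.lf (Fc.ed (nat_lit 3190) (nat_lit 1084) Col.c (nat_lit 1186) Dv.df))
(Tr.lf (Fc.ed (nat_lit 3191) (nat_lit 1084) Col.g (nat_lit 1187) Dv.df)))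
(Tr.nd (nat_lit 3193) (Tr.lf (Fc.ed (nat_lit 3192) (nat_lit 1187) Col.a (nat_lit 1086) (Dv.wd (nat_lit 174) [Mv.b (nat_lit 2856), Mv.b (nat_lit 2853), Mv.f (nat_lit 3191)])))
(Tr.lf (Fc.ed (nat_lit 3193) (nat_lit 1085) Col.g (nat_lit 1188) Dv.df))))
(Tr.nd (nat_lit 3196) (Tr.nd (nat_lit 3195) (Tr.lf (Fc.ed (nat_lit 3194) (nat_lit 1188) Col.b (nat_lit 1188) (Dv.wd (nat_lit 146) [Mv.b (nat_lit 3193), Mv.f (nat_lit 2855), Mv.f (nat_lit 3193)])))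
(Tr.lf (Fc.ed (nat_lit 3195) (nat_lit 1188) Col.c (nat_lit 1086) (Dv.wd (nat_lit 96) [Mv.b (nat_lit 2856), Mv.f (nat_lit 2854), Mv.f (nat_lit 3193)]))))
(Tr.nd (nat_lit 3197) (Tr.lf (Fc.ed (nat_lit 3196) (nat_lit 1090) Col.a (nat_lit 1188) (Dv.wd (nat_lit 212) [Mv.f (nat_lit 3194), Mv.f (nat_lit 3195), Mv.f (nat_lit 2857), Mv.b (nat_lit 2558), Mv.f (nat_lit 2869), Mv.f (nat_lit 2871), Mv.f (nat_lit 2870), Mv.b (nat_lit 2873), Mv.f (nat_lit 2874), Mv.f (nat_lit 2875), Mv.f (nat_lit 3145), Mv.f (nat_lit 2876), Mv.b (nat_lit 2872), Mv.f (nat_lit 2565), Mv.f (nat_lit 2561), Mv.f (nat_lit 2251), Mv.f (nat_lit 1946), Mv.b (nat_lit 1679), Mv.f (nat_lit 1680), Mv.b (nat_lit 1708), Mv.b (nat_lit 1705), Mv.f (nat_lit 1417), Mv.f (nat_lit 1414), Mv.f (nat_lit 3139), Mv.f (nat_lit 1415), Mv.b (nat_lit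 1421), Mv.f (nat_lit 1422), Mv.f (nat_lit 1711), Mv.f (nat_lit 1712), Mv.f (nat_lit 1713), Mv.f (nat_lit 3138), Mv.f (nat_lit 1715), Mv.f (nat_lit 1714), Mv.f (nat_lit 1708), Mv.f (nat_lit 1681), Mv.f (nat_lit 1412), Mv.f (nat_lit 1408), Mv.f (nat_lit 3135), Mv.f (nat_lit 1409), Mv.f (nat_lit 1410), Mv.b (nat_lit 1416), Mv.f (nat_lit 1705), Mv.f (nat_lit 1706), Mv.f (nat_lit 1707), Mv.f (nat_lit 3133), Mv.b (nat_lit 1951), Mv.f (nat_lit 1952), Mv.b (nat_lit 1950), Mv.f (nat_lit 1658), Mv.f (nat_lit 1655), Mv.f (nat_lit 1656), Mv.b (nat_lit 1946), Mv.f (nat_lit 3119), Mv.f (nat_lit 1947), Mv.f (nat_lit 1930), Mv.f (nat_lit 1929), Mv.f (nat_lit 1928), Mv.b (nat_lit 2232), Mv.f (nat_lit 2233), Mv.b (nat_lit 2549), Mv.f (nat_lit 3112), Mv.f (nat_lit 2550), Mv.f (nat_lit 2865)])))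
(Tr.lf (Fc.ed (nat_lit 3197) (nat_lit 1090) Col.c (nat_lit 1187) (Dv.wd (nat_lit 52) [Mv.f (nat_lit 3192), Mv.b (nat_lit 3195), Mv.b (nat_lit 3196)]))))))))
(Tr.nd (nat_lit 3213) (Tr.nd (nat_lit 3205) (Tr.nd (nat_lit 3201) (Tr.nd (nat_lit 3199) (Tr.lf (Fc.al (nat_lit 3198) (nat_lit 1186) (nat_lit 946) (Dv.wd (nat_lit 205) [Mv.b (nat_lit 2866), Mv.f (nat_lit 3197), Mv.b (nat_lit 3191), Mv.f (nat_lit 3190)])))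
(Tr.nd (nat_lit 3200) (Tr.lf (Fc.al (nat_lit 3199) (nat_lit 1087) (nat_lit 1084) (Dv.wd (nat_lit 161) [Mv.f (nat_lit 3190), Mv.f (nat_lit 3198), Mv.b (nat_lit 2860)])))
(Tr.lf (Fc.al (nat_lit 3200) (nat_lit 1185) (nat_lit 948) (Dv.wd (nat_lit 208) [Mv.b (nat_lit 2859), Mv.f (nat_lit 3199), Mv.b (nat_lit 3189)])))))
(Tr.nd (nat_lit 3203) (Tr.nd (nat_lit 3202) (Tr.lf (Fc.al (nat_lit 3201) (nat_lit 1091) (nat_lit 1083) (Dv.wd (nat_lit 160) [Mv.f (nat_lit 3188), Mv.f (nat_lit 3200), Mv.f (nat_lit 2867)])))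
(Tr.lf (Fc.al (nat_lit 3202) (nat_lit 1077) (nat_lit 1081) (Dv.wd (nat_lit 169) [Mv.b (nat_lit 2868), Mv.f (nat_lit 3201), Mv.f (nat_lit 2851)]))))
(Tr.nd (nat_lit 3204) (Tr.lf (Fc.al (nat_lit 3203) (nat_lit 1054) (nat_lit 1184) (Dv.wd (nat_lit 163) [Mv.b (nat_lit 3186), Mv.b (nat_lit 3202), Mv.f (nat_lit 2839)])))
(Tr.lf (Fc.ed (nat_lit 3204) (nat_lit 1054) Col.d (nat_lit 1082) (Dv.wd (nat_lit 160) [Mv.b (nat_lit 3187), Mv.b (nat_lit 3203)]))))))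
(Tr.nd (nat_lit 3209) (Tr.nd (nat_lit 3207) (Tr.nd (nat_lit 3206) (Tr.lf (Fc.ed (nat_lit 3205) (nat_lit 1180) Col.h (nat_lit 1170) (Dv.wd (nat_lit 43) [Mv.b (nat_lit 3156), Mv.b (nat_lit 2794), Mv.f (nat_lit 3204), Mv.f (nat_lit 2849), Mv.b (nat_lit 3179)])))
(Tr.lf (Fc.ed (nat_lit 3206) (nat_lit 1100) Col.f (nat_lit 1189) Dv.df)))
(Tr.nd (nat_lit 3208) (Tr.lf (Fc.ed (nat_lit 3207) (nat_lit 1189) Col.c (nat_lit 1101) (Dv.wd (nat_lit 91) [Mv.b (nat_lit 2893), Mv.f (nat_lit 2892), Mv.f (nat_lit 3206)])))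
(Tr.lf (Fc.ed (nat_lit 3208) (nat_lit 1101) Col.h (nat_lit 1190) Dv.df))))
(Tr.nd (nat_lit 3211) (Tr.nd (nat_lit 3210) (Tr.lf (Fc.ed (nat_lit 3209) (nat_lit 1190) Col.d (nat_lit 1112) (Dv.wd (nat_lit 141) [Mv.b (nat_lit 2922), Mv.f (nat_lit 2635), Mv.b (nat_lit 2593), Mv.b (nat_lit 2894), Mv.f (nat_lit 3208)])))
(Tr.lf (Fc.ed (nat_lit 3210) (nat_lit 1103) Col.e (nat_lit 1191) Dv.df)))
(Tr.nd (nat_lit 3212) (Tr.lf (Fc.ed (nat_lit 3211) (nat_lit 1191) Col.d (nat_lit 1110) (Dv.wd (nat_lit 88) [Mv.f (nat_lit 2918), Mv.f (nat_lit 2896), Mv.b (nat_lit 2620), Mv.b (nat_lit 2900), Mv.f (nat_lit 3210)])))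
(Tr.lf (Fc.ed (nat_lit 3212) (nat_lit 1108) Col.g (nat_lit 1191) (Dv.wd (nat_lit 204) [Mv.f (nat_lit 3211), Mv.b (nat_lit 2917), Mv.b (nat_lit 2915)])))))))
(Tr.nd (nat_lit 3220) (Tr.nd (nat_lit 3216) (Tr.nd (nat_lit 3214) (Tr.lf (Fc.ed (nat_lit 3213) (nat_lit 1103) Col.g (nat_lit 1192) Dv.df))
(Tr.nd (nat_lit 3215) (Tr.lf (Fc.ed (nat_lit 3214) (nat_lit 1192) Col.c (nat_lit 1119) (Dv.wd (nat_lit 96) [Mv.b (nat_lit 2938), Mv.b (nat_lit 2899), Mv.f (nat_lit 3213)])))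
(Tr.lf (Fc.ed (nat_lit 3215) (nat_lit 1192) Col.e (nat_lit 1108) (Dv.wd (nat_lit 98) [Mv.f (nat_lit 3212), Mv.b (nat_lit 3210), Mv.f (nat_lit 3213)])))))
(Tr.nd (nat_lit 3218) (Tr.nd (nat_lit 3217) (Tr.lf (Fc.ed (nat_lit 3216) (nat_lit 1108) Col.h (nat_lit 1193) Dv.df))
(Tr.lf (Fc.ed (nat_lit 3217) (nat_lit 1193) Col.f (nat_lit 1109) (Dv.wd (nat_lit 104) [Mv.b (nat_lit 2916), Mv.f (nat_lit 2914), Mv.f (nat_lit 3216)]))))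
(Tr.nd (nat_lit 3219) (Tr.lf (Fc.ed (nat_lit 3218) (nat_lit 1109) Col.i (nat_lit 1194) Dv.df))
(Tr.lf (Fc.ed (nat_lit 3219) (nat_lit 1113) Col.b (nat_lit 1195) Dv.df)))))
(Tr.nd (nat_lit 3224) (Tr.nd (nat_lit 3222) (Tr.nd (nat_lit 3221) (Tr.lf (Fc.ed (nat_lit 3220) (nat_lit 1113) Col.f (nat_lit 1196) Dv.df))
(Tr.lf (Fc.ed (nat_lit 3221) (nat_lit 1114) Col.e (nat_lit 1197) Dv.df)))
(Tr.nd (nat_lit 3223) (Tr.lf (Fc.ed (nat_lit 3222) (nat_lit 1197) Col.a (nat_lit 1115) (Dv.wd (nat_lit 152) [Mv.b (nat_lit 2926), Mv.b (nat_lit 2925), Mv.f (nat_lit 3221)])))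
(Tr.lf (Fc.ed (nat_lit 3223) (nat_lit 1118) Col.f (nat_lit 1198) Dv.df))))
(Tr.nd (nat_lit 3226) (Tr.nd (nat_lit 3225) (Tr.lf (Fc.ed (nat_lit 3224) (nat_lit 1198) Col.b (nat_lit 1121) (Dv.wd (nat_lit 114) [Mv.b (nat_lit 2944), Mv.b (nat_lit 2936), Mv.f (nat_lit 3223)])))
(Tr.lf (Fc.ed (nat_lit 3225) (nat_lit 1198) Col.h (nat_lit 1160) (Dv.wd (nat_lit 115) [Mv.f (nat_lit 3037), Mv.b (nat_lit 2937), Mv.f (nat_lit 3223)]))))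
(Tr.nd (nat_lit 3227) (Tr.lf (Fc.ed (nat_lit 3226) (nat_lit 1120) Col.b (nat_lit 1199) Dv.df))
(Tr.lf (Fc.ed (nat_lit 3227) (nat_lit 1199) Col.h (nat_lit 1166) (Dv.wd (nat_lit 29) [Mv.b (nat_lit 3046), Mv.b (nat_lit 2942), Mv.f (nat_lit 3226)])))))))))
(Tr.nd (nat_lit 3257) (Tr.nd (nat_lit 3242) (Tr.nd (nat_lit 3235) (Tr.nd (nat_lit 3231) (Tr.nd (nat_lit 3229) (Tr.lf (Fc.ed (nat_lit 3228) (nat_lit 1199) Col.i (nat_lit 1195) (Dv.wd (nat_lit 149) [Mv.b (nat_lit 3219), Mv.b (nat_lit 2943), Mv.f (nat_lit 3226)])))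
(Tr.nd (nat_lit 3230) (Tr.lf (Fc.ed (nat_lit 3229) (nat_lit 1120) Col.f (nat_lit 1200) Dv.df))
(Tr.lf (Fc.ed (nat_lit 3230) (nat_lit 1200) Col.a (nat_lit 1122) (Dv.wd (nat_lit 113) [Mv.b (nat_lit 2947), Mv.b (nat_lit 2941), Mv.f (nat_lit 3229)])))))
(Tr.nd (nat_lit 3233) (Tr.nd (nat_lit 3232) (Tr.lf (Fc.ed (nat_lit 3231) (nat_lit 1200) Col.c (nat_lit 1121) (Dv.wd (nat_lit 91) [Mv.b (nat_lit 2944), Mv.f (nat_lit 2940), Mv.f (nat_lit 3229)])))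
(Tr.lf (Fc.ed (nat_lit 3232) (nat_lit 1200) Col.i (nat_lit 1196) (Dv.wd (nat_lit 150) [Mv.b (nat_lit 3220), Mv.b (nat_lit 2943), Mv.f (nat_lit 3229)]))))
(Tr.nd (nat_lit 3234) (Tr.lf (Fc.ed (nat_lit 3233) (nat_lit 1197) Col.g (nat_lit 1200) (Dv.wd (nat_lit 213) [Mv.f (nat_lit 3230), Mv.b (nat_lit 2951), Mv.b (nat_lit 3222)])))
(Tr.lf (Fc.ed (nat_lit 3234) (nat_lit 1121) Col.e (nat_lit 1201) Dv.df)))))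
(Tr.nd (nat_lit 3238) (Tr.nd (nat_lit 3236) (Tr.lf (Fc.ed (nat_lit 3235) (nat_lit 1201) Col.h (nat_lit 1165) (Dv.wd (nat_lit 107) [Mv.b (nat_lit 3045), Mv.b (nat_lit 2945), Mv.f (nat_lit 3234)])))
(Tr.nd (nat_lit 3237) (Tr.lf (Fc.ed (nat_lit 3236) (nat_lit 1201) Col.i (nat_lit 1197) (Dv.wd (nat_lit 136) [Mv.b (nat_lit 3221), Mv.b (nat_lit 2946), Mv.f (nat_lit 3234)])))
(Tr.lf (Fc.ed (nat_lit 3237) (nat_lit 1196) Col.g (nat_lit 1201) (Dv.wd (nat_lit 166) [Mv.f (nat_lit 3236), Mv.f (nat_lit 3233), Mv.f (nat_lit 3232)])))))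
(Tr.nd (nat_lit 3240) (Tr.nd (nat_lit 3239) (Tr.lf (Fc.ed (nat_lit 3238) (nat_lit 1121) Col.g (nat_lit 1202) Dv.df))
(Tr.lf (Fc.ed (nat_lit 3239) (nat_lit 1202) Col.c (nat_lit 1197) (Dv.wd (nat_lit 96) [Mv.f (nat_lit 3233), Mv.f (nat_lit 3231), Mv.f (nat_lit 3238)]))))
(Tr.nd (nat_lit 3241) (Tr.lf (Fc.ed (nat_lit 3240) (nat_lit 1202) Col.h (nat_lit 1163) (Dv.wd (nat_lit 140) [Mv.f (nat_lit 3042), Mv.b (nat_lit 2945), Mv.f (nat_lit 3238)])))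
(Tr.lf (Fc.ed (nat_lit 3241) (nat_lit 1123) Col.d (nat_lit 1203) Dv.df))))))
(Tr.nd (nat_lit 3249) (Tr.nd (nat_lit 3245) (Tr.nd (nat_lit 3243) (Tr.lf (Fc.ed (nat_lit 3242) (nat_lit 1203) Col.f (nat_lit 1124) (Dv.wd (nat_lit 37) [Mv.b (nat_lit 2955), Mv.b (nat_lit 2954), Mv.f (nat_lit 3241)])))
(Tr.nd (nat_lit 3244) (Tr.lf (Fc.ed (nat_lit 3243) (nat_lit 1123) Col.g (nat_lit 1204) Dv.df))
(Tr.lf (Fc.ed (nat_lit 3244) (nat_lit 1204) Col.c (nat_lit 1130) (Dv.wd (nat_lit 96) [Mv.b (nat_lit 2969), Mv.b (nat_lit 2953), Mv.f (nat_lit 3243)])))))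
(Tr.nd (nat_lit 3247) (Tr.nd (nat_lit 3246) (Tr.lf (Fc.ed (nat_lit 3245) (nat_lit 1124) Col.g (nat_lit 1205) Dv.df))
(Tr.lf (Fc.ed (nat_lit 3246) (nat_lit 1205) Col.b (nat_lit 1205) (Dv.wd (nat_lit 146) [Mv.b (nat_lit 3245), Mv.f (nat_lit 2956), Mv.f (nat_lit 3245)]))))
(Tr.nd (nat_lit 3248) (Tr.lf (Fc.ed (nat_lit 3247) (nat_lit 1205) Col.c (nat_lit 1205) (Dv.wd (nat_lit 96) [Mv.b (nat_lit 3245), Mv.f (nat_lit 2957), Mv.f (nat_lit 3245)])))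
(Tr.lf (Fc.ed (nat_lit 3248) (nat_lit 1205) Col.d (nat_lit 1125) (Dv.wd (nat_lit 97) [Mv.b (nat_lit 2958), Mv.f (nat_lit 2955), Mv.f (nat_lit 3245)]))))))
(Tr.nd (nat_lit 3253) (Tr.nd (nat_lit 3251) (Tr.nd (nat_lit 3250) (Tr.lf (Fc.ed (nat_lit 3249) (nat_lit 1124) Col.h (nat_lit 1206) Dv.df))
(Tr.lf (Fc.ed (nat_lit 3250) (nat_lit 1125) Col.f (nat_lit 1207) Dv.df)))
(Tr.nd (nat_lit 3252) (Tr.lf (Fc.ed (nat_lit 3251) (nat_lit 1207) Col.c (nat_lit 1133) (Dv.wd (nat_lit 91) [Mv.b (nat_lit 2975), Mv.b (nat_lit 2959), Mv.f (nat_lit 3250)])))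
(Tr.lf (Fc.ed (nat_lit 3252) (nat_lit 1125) Col.h (nat_lit 1208) Dv.df))))
(Tr.nd (nat_lit 3255) (Tr.nd (nat_lit 3254) (Tr.lf (Fc.ed (nat_lit 3253) (nat_lit 1208) Col.e (nat_lit 1127) (Dv.wd (nat_lit 103) [Mv.b (nat_lit 2963), Mv.b (nat_lit 2960), Mv.f (nat_lit 3252)])))
(Tr.lf (Fc.ed (nat_lit 3254) (nat_lit 1126) Col.d (nat_lit 1209) Dv.df)))
(Tr.nd (nat_lit 3256) (Tr.lf (Fc.ed (nat_lit 3255) (nat_lit 1127) Col.d (nat_lit 1210) Dv.df))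
(Tr.lf (Fc.ed (nat_lit 3256) (nat_lit 1210) Col.g (nat_lit 1128) (Dv.wd (nat_lit 82) [Mv.b (nat_lit 2965), Mv.b (nat_lit 2964), Mv.f (nat_lit 3255)]))))))))
(Tr.nd (nat_lit 3272) (Tr.nd (nat_lit 3264) (Tr.nd (nat_lit 3260) (Tr.nd (nat_lit 3258) (Tr.lf (Fc.ed (nat_lit 3257) (nat_lit 1128) Col.e (nat_lit 1211) Dv.df))
(Tr.nd (nat_lit 3259) (Tr.lf (Fc.ed (nat_lit 3258) (nat_lit 1211) Col.l (nat_lit 1211) (Dv.wd (nat_lit 84) [Mv.b (nat_lit 3257), Mv.f (nat_lit 2966), Mv.f (nat_lit 3257)])))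
(Tr.lf (Fc.ed (nat_lit 3259) (nat_lit 1128) Col.i (nat_lit 1212) Dv.df))))
(Tr.nd (nat_lit 3262) (Tr.nd (nat_lit 3261) (Tr.lf (Fc.ed (nat_lit 3260) (nat_lit 1212) Col.d (nat_lit 1129) (Dv.wd (nat_lit 142) [Mv.b (nat_lit 2967), Mv.f (nat_lit 2965), Mv.f (nat_lit 3259)])))
(Tr.lf (Fc.ed (nat_lit 3261) (nat_lit 1131) Col.d (nat_lit 1213) Dv.df)))
(Tr.nd (nat_lit 3263) (Tr.lf (Fc.ed (nat_lit 3262) (nat_lit 1213) Col.b (nat_lit 1135) (Dv.wd (nat_lit 183) [Mv.b (nat_lit 2979), Mv.b (nat_lit 2972), Mv.f (nat_lit 3261)])))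
(Tr.lf (Fc.ed (nat_lit 3263) (nat_lit 1132) Col.d (nat_lit 1214) Dv.df)))))
(Tr.nd (nat_lit 3268) (Tr.nd (nat_lit 3266) (Tr.nd (nat_lit 3265) (Tr.lf (Fc.ed (nat_lit 3264) (nat_lit 1214) Col.b (nat_lit 1137) (Dv.wd (nat_lit 183) [Mv.b (nat_lit 2984), Mv.b (nat_lit 2974), Mv.f (nat_lit 3263)])))
(Tr.lf (Fc.ed (nat_lit 3265) (nat_lit 1133) Col.h (nat_lit 1215) Dv.df)))
(Tr.nd (nat_lit 3267) (Tr.lf (Fc.ed (nat_lit 3266) (nat_lit 1215) Col.b (nat_lit 1138) (Dv.wd (nat_lit 151) [Mv.b (nat_lit 2986), Mv.b (nat_lit 2976), Mv.f (nat_lit 3265)])))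
(Tr.lf (Fc.ed (nat_lit 3267) (nat_lit 1134) Col.c (nat_lit 1216) Dv.df))))
(Tr.nd (nat_lit 3270) (Tr.nd (nat_lit 3269) (Tr.lf (Fc.ed (nat_lit 3268) (nat_lit 1135) Col.c (nat_lit 1217) Dv.df))
(Tr.lf (Fc.ed (nat_lit 3269) (nat_lit 1217) Col.a (nat_lit 1141) (Dv.wd (nat_lit 181) [Mv.b (nat_lit 2992), Mv.b (nat_lit 2980), Mv.f (nat_lit 3268)]))))
(Tr.nd (nat_lit 3271) (Tr.lf (Fc.ed (nat_lit 3270) (nat_lit 1217) Col.f (nat_lit 1139) (Dv.wd (nat_lit 36) [Mv.b (nat_lit 2988), Mv.b (nat_lit 2981), Mv.f (nat_lit 3268)])))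
(Tr.lf (Fc.ed (nat_lit 3271) (nat_lit 1135) Col.i (nat_lit 1218) Dv.df))))))
(Tr.nd (nat_lit 3279) (Tr.nd (nat_lit 3275) (Tr.nd (nat_lit 3273) (Tr.lf (Fc.ed (nat_lit 3272) (nat_lit 1218) Col.a (nat_lit 1142) (Dv.wd (nat_lit 116) [Mv.b (nat_lit 2994), Mv.b (nat_lit 2980), Mv.f (nat_lit 3271)])))
(Tr.nd (nat_lit 3274) (Tr.lf (Fc.ed (nat_lit 3273) (nat_lit 1218) Col.d (nat_lit 1136) (Dv.wd (nat_lit 142) [Mv.b (nat_lit 2982), Mv.f (nat_lit 2979), Mv.f (nat_lit 3271)])))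
(Tr.lf (Fc.ed (nat_lit 3274) (nat_lit 1137) Col.c (nat_lit 1219) Dv.df))))
(Tr.nd (nat_lit 3277) (Tr.nd (nat_lit 3276) (Tr.lf (Fc.ed (nat_lit 3275) (nat_lit 1219) Col.h (nat_lit 1192) (Dv.wd (nat_lit 30) [Mv.f (nat_lit 3214), Mv.b (nat_lit 2985), Mv.f (nat_lit 3274)])))
(Tr.lf (Fc.ed (nat_lit 3276) (nat_lit 1219) Col.d (nat_lit 1219) (Dv.wd (nat_lit 106) [Mv.b (nat_lit 3274), Mv.b (nat_lit 2984), Mv.f (nat_lit 2691), Mv.f (nat_lit 2984), Mv.f (nat_lit 3274)]))))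
(Tr.nd (nat_lit 3278) (Tr.lf (Fc.ed (nat_lit 3277) (nat_lit 1193) Col.e (nat_lit 1219) (Dv.wd (nat_lit 62) [Mv.f (nat_lit 3275), Mv.f (nat_lit 3215), Mv.f (nat_lit 3216)])))
(Tr.lf (Fc.ed (nat_lit 3278) (nat_lit 1137) Col.i (nat_lit 1220) Dv.df)))))
(Tr.nd (nat_lit 3283) (Tr.nd (nat_lit 3281) (Tr.nd (nat_lit 3280) (Tr.lf (Fc.ed (nat_lit 3279) (nat_lit 1138) Col.d (nat_lit 1221) Dv.df))
(Tr.lf (Fc.ed (nat_lit 3280) (nat_lit 1221) Col.a (nat_lit 1147) (Dv.wd (nat_lit 182) [Mv.b (nat_lit 3004), Mv.b (nat_lit 2987), Mv.f (nat_lit 3279)]))))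
(Tr.nd (nat_lit 3282) (Tr.lf (Fc.ed (nat_lit 3281) (nat_lit 1139) Col.b (nat_lit 1222) Dv.df))
(Tr.lf (Fc.ed (nat_lit 3282) (nat_lit 1222) Col.e (nat_lit 1222) (Dv.wd (nat_lit 40) [Mv.b (nat_lit 3281), Mv.f (nat_lit 2989), Mv.f (nat_lit 3281)])))))
(Tr.nd (nat_lit 3285) (Tr.nd (nat_lit 3284) (Tr.lf (Fc.ed (nat_lit 3283) (nat_lit 1140) Col.c (nat_lit 1223) Dv.df))
(Tr.lf (Fc.ed (nat_lit 3284) (nat_lit 1223) Col.g (nat_lit 1141) (Dv.wd (nat_lit 79) [Mv.b (nat_lit 2992), Mv.b (nat_lit 2991), Mv.f (nat_lit 3283)]))))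
(Tr.nd (nat_lit 3286) (Tr.lf (Fc.ed (nat_lit 3285) (nat_lit 1140) Col.e (nat_lit 1224) Dv.df))
(Tr.lf (Fc.ed (nat_lit 3286) (nat_lit 1224) Col.d (nat_lit 1144) (Dv.wd (nat_lit 88) [Mv.b (nat_lit 2998), Mv.b (nat_lit 2703), Mv.b (nat_lit 2699), Mv.f (nat_lit 2990), Mv.f (nat_lit 3285)]))))))))))))
(Tr.nd (nat_lit 3522) (Tr.nd (nat_lit 3404) (Tr.nd (nat_lit 3345) (Tr.nd (nat_lit 3316) (Tr.nd (nat_lit 3301) (Tr.nd (nat_lit 3294) (Tr.nd (nat_lit 3290) (Tr.nd (nat_lit 3288) (Tr.lf (Fc.ed (nat_lit 3287) (nat_lit 1141) Col.e (nat_lit 1225) Dv.df))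
(Tr.nd (nat_lit 3289) (Tr.lf (Fc.ed (nat_lit 3288) (nat_lit 1141) Col.i (nat_lit 1226) Dv.df))
(Tr.lf (Fc.ed (nat_lit 3289) (nat_lit 1226) Col.c (nat_lit 1142) (Dv.wd (nat_lit 145) [Mv.b (nat_lit 2994), Mv.f (nat_lit 2992), Mv.f (nat_lit 3288)])))))
(Tr.nd (nat_lit 3292) (Tr.nd (nat_lit 3291) (Tr.lf (Fc.ed (nat_lit 3290) (nat_lit 1142) Col.h (nat_lit 1227) Dv.df))
(Tr.lf (Fc.ed (nat_lit 3291) (nat_lit 1145) Col.i (nat_lit 1228) Dv.df)))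
(Tr.nd (nat_lit 3293) (Tr.lf (Fc.ed (nat_lit 3292) (nat_lit 1228) Col.a (nat_lit 1146) (Dv.wd (nat_lit 116) [Mv.b (nat_lit 3002), Mv.f (nat_lit 3000), Mv.f (nat_lit 3291)])))
(Tr.lf (Fc.ed (nat_lit 3293) (nat_lit 1228) Col.h (nat_lit 1194) (Dv.wd (nat_lit 193) [Mv.b (nat_lit 3218), Mv.b (nat_lit 2916), Mv.b (nat_lit 2903), Mv.b (nat_lit 3001), Mv.f (nat_lit 3291)]))))))
(Tr.nd (nat_lit 3297) (Tr.nd (nat_lit 3295) (Tr.lf (Fc.ed (nat_lit 3294) (nat_lit 1147) Col.e (nat_lit 1229) Dv.df))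
(Tr.nd (nat_lit 3296) (Tr.lf (Fc.ed (nat_lit 3295) (nat_lit 1229) Col.l (nat_lit 1229) (Dv.wd (nat_lit 84) [Mv.b (nat_lit 3294), Mv.f (nat_lit 3005), Mv.f (nat_lit 3294)])))
(Tr.lf (Fc.ed (nat_lit 3296) (nat_lit 1229) Col.h (nat_lit 1229) (Dv.wd (nat_lit 107) [Mv.b (nat_lit 3294), Mv.f (nat_lit 3007), Mv.f (nat_lit 3294)])))))
(Tr.nd (nat_lit 3299) (Tr.nd (nat_lit 3298) (Tr.lf (Fc.ed (nat_lit 3297) (nat_lit 1229) Col.f (nat_lit 1229) (Dv.wd (nat_lit 109) [Mv.b (nat_lit 3294), Mv.f (nat_lit 3006), Mv.f (nat_lit 2714), Mv.b (nat_lit 3006), Mv.f (nat_lit 3294)])))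
(Tr.lf (Fc.ed (nat_lit 3298) (nat_lit 1150) Col.g (nat_lit 1230) Dv.df)))
(Tr.nd (nat_lit 3300) (Tr.lf (Fc.ed (nat_lit 3299) (nat_lit 1230) Col.a (nat_lit 1204) (Dv.wd (nat_lit 174) [Mv.b (nat_lit 3243), Mv.b (nat_lit 3012), Mv.f (nat_lit 3298)])))
(Tr.lf (Fc.ed (nat_lit 3300) (nat_lit 1230) Col.c (nat_lit 1157) (Dv.wd (nat_lit 96) [Mv.b (nat_lit 3026), Mv.b (nat_lit 3013), Mv.f (nat_lit 3298)])))))))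
(Tr.nd (nat_lit 3308) (Tr.nd (nat_lit 3304) (Tr.nd (nat_lit 3302) (Tr.lf (Fc.ed (nat_lit 3301) (nat_lit 1151) Col.g (nat_lit 1231) Dv.df))
(Tr.nd (nat_lit 3303) (Tr.lf (Fc.ed (nat_lit 3302) (nat_lit 1231) Col.a (nat_lit 1205) (Dv.wd (nat_lit 174) [Mv.b (nat_lit 3245), Mv.b (nat_lit 3015), Mv.f (nat_lit 3301)])))
(Tr.lf (Fc.ed (nat_lit 3303) (nat_lit 1151) Col.h (nat_lit 1232) Dv.df))))
(Tr.nd (nat_lit 3306) (Tr.nd (nat_lit 3305) (Tr.lf (Fc.ed (nat_lit 3304) (nat_lit 1152) Col.d (nat_lit 1233) Dv.df))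
(Tr.lf (Fc.ed (nat_lit 3305) (nat_lit 1233) Col.a (nat_lit 1209) (Dv.wd (nat_lit 182) [Mv.b (nat_lit 3254), Mv.b (nat_lit 3017), Mv.f (nat_lit 3304)]))))
(Tr.nd (nat_lit 3307) (Tr.lf (Fc.ed (nat_lit 3306) (nat_lit 1154) Col.e (nat_lit 1234) Dv.df))
(Tr.lf (Fc.ed (nat_lit 3307) (nat_lit 1234) Col.a (nat_lit 1211) (Dv.wd (nat_lit 152) [Mv.b (nat_lit 3257), Mv.b (nat_lit 3022), Mv.f (nat_lit 3306)]))))))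
(Tr.nd (nat_lit 3312) (Tr.nd (nat_lit 3310) (Tr.nd (nat_lit 3309) (Tr.lf (Fc.ed (nat_lit 3308) (nat_lit 1154) Col.i (nat_lit 1235) Dv.df))
(Tr.lf (Fc.ed (nat_lit 3309) (nat_lit 1235) Col.f (nat_lit 1156) (Dv.wd (nat_lit 112) [Mv.b (nat_lit 3025), Mv.b (nat_lit 3023), Mv.f (nat_lit 3308)]))))
(Tr.nd (nat_lit 3311) (Tr.lf (Fc.ed (nat_lit 3310) (nat_lit 1155) Col.f (nat_lit 1236) Dv.df))
(Tr.lf (Fc.ed (nat_lit 3311) (nat_lit 1155) Col.i (nat_lit 1237) Dv.df))))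
(Tr.nd (nat_lit 3314) (Tr.nd (nat_lit 3313) (Tr.lf (Fc.ed (nat_lit 3312) (nat_lit 1237) Col.e (nat_lit 1156) (Dv.wd (nat_lit 143) [Mv.b (nat_lit 3025), Mv.f (nat_lit 3024), Mv.f (nat_lit 3311)])))
(Tr.lf (Fc.ed (nat_lit 3313) (nat_lit 1156) Col.h (nat_lit 1238) Dv.df)))
(Tr.nd (nat_lit 3315) (Tr.lf (Fc.ed (nat_lit 3314) (nat_lit 1158) Col.d (nat_lit 1239) Dv.df))
(Tr.lf (Fc.ed (nat_lit 3315) (nat_lit 1239) Col.a (nat_lit 1213) (Dv.wd (nat_lit 182) [Mv.b (nat_lit 3261), Mv.b (nat_lit 3029), Mv.f (nat_lit 3314)]))))))))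
(Tr.nd (nat_lit 3330) (Tr.nd (nat_lit 3323) (Tr.nd (nat_lit 3319) (Tr.nd (nat_lit 3317) (Tr.lf (Fc.ed (nat_lit 3316) (nat_lit 1239) Col.b (nat_lit 1162) (Dv.wd (nat_lit 183) [Mv.b (nat_lit 3040), Mv.b (nat_lit 3030), Mv.f (nat_lit 3314)])))
(Tr.nd (nat_lit 3318) (Tr.lf (Fc.ed (nat_lit 3317) (nat_lit 1239) Col.f (nat_lit 1161) (Dv.wd (nat_lit 37) [Mv.b (nat_lit 3038), Mv.b (nat_lit 3031), Mv.f (nat_lit 3314)])))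
(Tr.lf (Fc.ed (nat_lit 3318) (nat_lit 1159) Col.d (nat_lit 1240) Dv.df))))
(Tr.nd (nat_lit 3321) (Tr.nd (nat_lit 3320) (Tr.lf (Fc.ed (nat_lit 3319) (nat_lit 1240) Col.a (nat_lit 1214) (Dv.wd (nat_lit 182) [Mv.b (nat_lit 3263), Mv.b (nat_lit 3033), Mv.f (nat_lit 3318)])))
(Tr.lf (Fc.ed (nat_lit 3320) (nat_lit 1240) Col.f (nat_lit 1240) (Dv.wd (nat_lit 37) [Mv.b (nat_lit 3318), Mv.f (nat_lit 3034), Mv.f (nat_lit 3318)]))))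
(Tr.nd (nat_lit 3322) (Tr.lf (Fc.ed (nat_lit 3321) (nat_lit 1240) Col.g (nat_lit 1160) (Dv.wd (nat_lit 82) [Mv.b (nat_lit 3036), Mv.b (nat_lit 3035), Mv.f (nat_lit 3318)])))
(Tr.lf (Fc.ed (nat_lit 3322) (nat_lit 1161) Col.c (nat_lit 1241) Dv.df)))))
(Tr.nd (nat_lit 3326) (Tr.nd (nat_lit 3324) (Tr.lf (Fc.ed (nat_lit 3323) (nat_lit 1241) Col.a (nat_lit 1216) (Dv.wd (nat_lit 181) [Mv.b (nat_lit 3267), Mv.b (nat_lit 3039), Mv.f (nat_lit 3322)])))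
(Tr.nd (nat_lit 3325) (Tr.lf (Fc.ed (nat_lit 3324) (nat_lit 1162) Col.e (nat_lit 1242) Dv.df))
(Tr.lf (Fc.ed (nat_lit 3325) (nat_lit 1242) Col.d (nat_lit 1165) (Dv.wd (nat_lit 88) [Mv.b (nat_lit 3045), Mv.b (nat_lit 2748), Mv.b (nat_lit 2745), Mv.f (nat_lit 3040), Mv.f (nat_lit 3324)])))))
(Tr.nd (nat_lit 3328) (Tr.nd (nat_lit 3327) (Tr.lf (Fc.ed (nat_lit 3326) (nat_lit 1162) Col.i (nat_lit 1243) Dv.df))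
(Tr.lf (Fc.ed (nat_lit 3327) (nat_lit 1163) Col.c (nat_lit 1244) Dv.df)))
(Tr.nd (nat_lit 3329) (Tr.lf (Fc.ed (nat_lit 3328) (nat_lit 1244) Col.h (nat_lit 1197) (Dv.wd (nat_lit 30) [Mv.b (nat_lit 3239), Mv.f (nat_lit 3240), Mv.f (nat_lit 3327)])))
(Tr.lf (Fc.ed (nat_lit 3329) (nat_lit 1164) Col.b (nat_lit 1245) Dv.df))))))
(Tr.nd (nat_lit 3337) (Tr.nd (nat_lit 3333) (Tr.nd (nat_lit 3331) (Tr.lf (Fc.ed (nat_lit 3330) (nat_lit 1245) Col.f (nat_lit 1166) (Dv.wd (nat_lit 35) [Mv.b (nat_lit 3046), Mv.b (nat_lit 3044), Mv.f (nat_lit 3329)])))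
(Tr.nd (nat_lit 3332) (Tr.lf (Fc.ed (nat_lit 3331) (nat_lit 1165) Col.i (nat_lit 1246) Dv.df))
(Tr.lf (Fc.ed (nat_lit 3332) (nat_lit 1170) Col.c (nat_lit 1247) Dv.df))))
(Tr.nd (nat_lit 3335) (Tr.nd (nat_lit 3334) (Tr.lf (Fc.ed (nat_lit 3333) (nat_lit 1247) Col.h (nat_lit 1172) (Dv.wd (nat_lit 30) [Mv.b (nat_lit 3178), Mv.f (nat_lit 3205), Mv.f (nat_lit 3332)])))
(Tr.lf (Fc.ed (nat_lit 3334) (nat_lit 1238) Col.b (nat_lit 1247) (Dv.wd (nat_lit 57) [Mv.f (nat_lit 3333), Mv.f (nat_lit 3163), Mv.f (nat_lit 3313)]))))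
(Tr.nd (nat_lit 3336) (Tr.lf (Fc.ed (nat_lit 3335) (nat_lit 1170) Col.e (nat_lit 1248) Dv.df))
(Tr.lf (Fc.ed (nat_lit 3336) (nat_lit 1248) Col.d (nat_lit 1248) (Dv.wd (nat_lit 88) [Mv.b (nat_lit 3335), Mv.b (nat_lit 3156), Mv.f (nat_lit 2763), Mv.f (nat_lit 3156), Mv.f (nat_lit 3335)]))))))
(Tr.nd (nat_lit 3341) (Tr.nd (nat_lit 3339) (Tr.nd (nat_lit 3338) (Tr.lf (Fc.ed (nat_lit 3337) (nat_lit 1170) Col.f (nat_lit 1249) Dv.df))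
(Tr.lf (Fc.ed (nat_lit 3338) (nat_lit 1249) Col.a (nat_lit 1249) (Dv.wd (nat_lit 113) [Mv.b (nat_lit 3337), Mv.f (nat_lit 3157), Mv.f (nat_lit 3337)]))))
(Tr.nd (nat_lit 3340) (Tr.lf (Fc.ed (nat_lit 3339) (nat_lit 1249) Col.b (nat_lit 1249) (Dv.wd (nat_lit 114) [Mv.b (nat_lit 3337), Mv.f (nat_lit 3158), Mv.f (nat_lit 3337)])))
(Tr.lf (Fc.ed (nat_lit 3340) (nat_lit 1173) Col.c (nat_lit 1250) Dv.df))))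
(Tr.nd (nat_lit 3343) (Tr.nd (nat_lit 3342) (Tr.lf (Fc.ed (nat_lit 3341) (nat_lit 1250) Col.a (nat_lit 1250) (Dv.wd (nat_lit 181) [Mv.b (nat_lit 3340), Mv.f (nat_lit 3165), Mv.f (nat_lit 3340)])))
(Tr.lf (Fc.ed (nat_lit 3342) (nat_lit 1250) Col.f (nat_lit 1174) (Dv.wd (nat_lit 36) [Mv.b (nat_lit 3168), Mv.b (nat_lit 3167), Mv.f (nat_lit 3340)]))))
(Tr.nd (nat_lit 3344) (Tr.lf (Fc.ed (nat_lit 3343) (nat_lit 1174) Col.i (nat_lit 1251) Dv.df))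
(Tr.lf (Fc.ed (nat_lit 3344) (nat_lit 1175) Col.c (nat_lit 1252) Dv.df))))))))
(Tr.nd (nat_lit 3374) (Tr.nd (nat_lit 3359) (Tr.nd (nat_lit 3352) (Tr.nd (nat_lit 3348) (Tr.nd (nat_lit 3346) (Tr.lf (Fc.ed (nat_lit 3345) (nat_lit 1252) Col.d (nat_lit 1244) (Dv.wd (nat_lit 106) [Mv.b (nat_lit 3327), Mv.b (nat_lit 3041), Mv.b (nat_lit 2780), Mv.f (nat_lit 3169), Mv.f (nat_lit 3344)])))
(Tr.nd (nat_lit 3347) (Tr.lf (Fc.ed (nat_lit 3346) (nat_lit 1175) Col.i (nat_lit 1253) Dv.df))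
(Tr.lf (Fc.ed (nat_lit 3347) (nat_lit 1176) Col.b (nat_lit 1254) Dv.df))))
(Tr.nd (nat_lit 3350) (Tr.nd (nat_lit 3349) (Tr.lf (Fc.ed (nat_lit 3348) (nat_lit 1254) Col.d (nat_lit 1245) (Dv.wd (nat_lit 46) [Mv.b (nat_lit 3329), Mv.b (nat_lit 3171), Mv.f (nat_lit 3347)])))
(Tr.lf (Fc.ed (nat_lit 3349) (nat_lit 1177) Col.d (nat_lit 1255) Dv.df)))
(Tr.nd (nat_lit 3351) (Tr.lf (Fc.ed (nat_lit 3350) (nat_lit 1255) Col.i (nat_lit 1255) (Dv.wd (nat_lit 135) [Mv.b (nat_lit 3349), Mv.f (nat_lit 3173), Mv.f (nat_lit 3349)])))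
(Tr.lf (Fc.ed (nat_lit 3351) (nat_lit 1255) Col.h (nat_lit 1178) (Dv.wd (nat_lit 105) [Mv.b (nat_lit 3174), Mv.b (nat_lit 2802), Mv.f (nat_lit 2801), Mv.f (nat_lit 3172), Mv.f (nat_lit 3349)]))))))
(Tr.nd (nat_lit 3355) (Tr.nd (nat_lit 3353) (Tr.lf (Fc.ed (nat_lit 3352) (nat_lit 1178) Col.c (nat_lit 1256) Dv.df))
(Tr.nd (nat_lit 3354) (Tr.lf (Fc.ed (nat_lit 3353) (nat_lit 1256) Col.d (nat_lit 1181) (Dv.wd (nat_lit 106) [Mv.b (nat_lit 3180), Mv.b (nat_lit 2815), Mv.b (nat_lit 2803), Mv.f (nat_lit 3174), Mv.f (nat_lit 3352)])))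
(Tr.lf (Fc.ed (nat_lit 3354) (nat_lit 1179) Col.e (nat_lit 1257) Dv.df))))
(Tr.nd (nat_lit 3357) (Tr.nd (nat_lit 3356) (Tr.lf (Fc.ed (nat_lit 3355) (nat_lit 1257) Col.d (nat_lit 1257) (Dv.wd (nat_lit 88) [Mv.b (nat_lit 3354), Mv.b (nat_lit 3175), Mv.f (nat_lit 3155), Mv.f (nat_lit 3175), Mv.f (nat_lit 3354)])))
(Tr.lf (Fc.ed (nat_lit 3356) (nat_lit 1179) Col.i (nat_lit 1258) Dv.df)))
(Tr.nd (nat_lit 3358) (Tr.lf (Fc.ed (nat_lit 3357) (nat_lit 1258) Col.f (nat_lit 1180) (Dv.wd (nat_lit 112) [Mv.b (nat_lit 3177), Mv.b (nat_lit 3176), Mv.f (nat_lit 3356)])))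
(Tr.lf (Fc.ed (nat_lit 3358) (nat_lit 1249) Col.h (nat_lit 1258) (Dv.wd (nat_lit 214) [Mv.f (nat_lit 3357), Mv.f (nat_lit 3205), Mv.f (nat_lit 3337)])))))))
(Tr.nd (nat_lit 3366) (Tr.nd (nat_lit 3362) (Tr.nd (nat_lit 3360) (Tr.lf (Fc.ed (nat_lit 3359) (nat_lit 1181) Col.i (nat_lit 1259) Dv.df))
(Tr.nd (nat_lit 3361) (Tr.lf (Fc.ed (nat_lit 3360) (nat_lit 1259) Col.c (nat_lit 1182) (Dv.wd (nat_lit 145) [Mv.b (nat_lit 3182), Mv.f (nat_lit 3180), Mv.f (nat_lit 3359)])))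
(Tr.lf (Fc.ed (nat_lit 3361) (nat_lit 1259) Col.e (nat_lit 1251) (Dv.wd (nat_lit 143) [Mv.b (nat_lit 3343), Mv.b (nat_lit 3181), Mv.f (nat_lit 3359)])))))
(Tr.nd (nat_lit 3364) (Tr.nd (nat_lit 3363) (Tr.lf (Fc.ed (nat_lit 3362) (nat_lit 1182) Col.h (nat_lit 1260) Dv.df))
(Tr.lf (Fc.ed (nat_lit 3363) (nat_lit 1260) Col.b (nat_lit 1183) (Dv.wd (nat_lit 151) [Mv.b (nat_lit 3184), Mv.b (nat_lit 3183), Mv.f (nat_lit 3362)]))))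
(Tr.nd (nat_lit 3365) (Tr.lf (Fc.ed (nat_lit 3364) (nat_lit 1189) Col.h (nat_lit 1261) Dv.df))
(Tr.lf (Fc.ed (nat_lit 3365) (nat_lit 1261) Col.c (nat_lit 1190) (Dv.wd (nat_lit 102) [Mv.b (nat_lit 3208), Mv.b (nat_lit 3207), Mv.f (nat_lit 3364)]))))))
(Tr.nd (nat_lit 3370) (Tr.nd (nat_lit 3368) (Tr.nd (nat_lit 3367) (Tr.lf (Fc.ed (nat_lit 3366) (nat_lit 1193) Col.i (nat_lit 1262) Dv.df))
(Tr.lf (Fc.ed (nat_lit 3367) (nat_lit 1262) Col.f (nat_lit 1194) (Dv.wd (nat_lit 112) [Mv.b (nat_lit 3218), Mv.b (nat_lit 3217), Mv.f (nat_lit 3366)]))))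
(Tr.nd (nat_lit 3369) (Tr.lf (Fc.ed (nat_lit 3368) (nat_lit 1195) Col.f (nat_lit 1263) Dv.df))
(Tr.lf (Fc.ed (nat_lit 3369) (nat_lit 1263) Col.b (nat_lit 1196) (Dv.wd (nat_lit 114) [Mv.b (nat_lit 3220), Mv.f (nat_lit 3219), Mv.f (nat_lit 3368)])))))
(Tr.nd (nat_lit 3372) (Tr.nd (nat_lit 3371) (Tr.lf (Fc.ed (nat_lit 3370) (nat_lit 1198) Col.e (nat_lit 1264) Dv.df))
(Tr.lf (Fc.ed (nat_lit 3371) (nat_lit 1264) Col.b (nat_lit 1201) (Dv.wd (nat_lit 153) [Mv.b (nat_lit 3234), Mv.b (nat_lit 3224), Mv.f (nat_lit 3370)]))))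
(Tr.nd (nat_lit 3373) (Tr.lf (Fc.ed (nat_lit 3372) (nat_lit 1263) Col.g (nat_lit 1264) (Dv.wd (nat_lit 168) [Mv.f (nat_lit 3371), Mv.b (nat_lit 3237), Mv.b (nat_lit 3369)])))
(Tr.lf (Fc.ed (nat_lit 3373) (nat_lit 1198) Col.g (nat_lit 1265) Dv.df)))))))
(Tr.nd (nat_lit 3389) (Tr.nd (nat_lit 3381) (Tr.nd (nat_lit 3377) (Tr.nd (nat_lit 3375) (Tr.lf (Fc.ed (nat_lit 3374) (nat_lit 1265) Col.e (nat_lit 1263) (Dv.wd (nat_lit 98) [Mv.f (nat_lit 3372), Mv.b (nat_lit 3370), Mv.f (nat_lit 3373)])))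
(Tr.nd (nat_lit 3376) (Tr.lf (Fc.ed (nat_lit 3375) (nat_lit 1265) Col.h (nat_lit 1240) (Dv.wd (nat_lit 140) [Mv.f (nat_lit 3321), Mv.b (nat_lit 3225), Mv.f (nat_lit 3373)])))
(Tr.lf (Fc.ed (nat_lit 3376) (nat_lit 1199) Col.f (nat_lit 1266) Dv.df))))
(Tr.nd (nat_lit 3379) (Tr.nd (nat_lit 3378) (Tr.lf (Fc.ed (nat_lit 3377) (nat_lit 1266) Col.h (nat_lit 1245) (Dv.wd (nat_lit 115) [Mv.f (nat_lit 3330), Mv.b (nat_lit 3227), Mv.f (nat_lit 3376)])))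
(Tr.lf (Fc.ed (nat_lit 3378) (nat_lit 1266) Col.i (nat_lit 1263) (Dv.wd (nat_lit 150) [Mv.b (nat_lit 3368), Mv.b (nat_lit 3228), Mv.f (nat_lit 3376)]))))
(Tr.nd (nat_lit 3380) (Tr.lf (Fc.ed (nat_lit 3379) (nat_lit 1203) Col.g (nat_lit 1267) Dv.df))
(Tr.lf (Fc.ed (nat_lit 3380) (nat_lit 1267) Col.d (nat_lit 1204) (Dv.wd (nat_lit 97) [Mv.b (nat_lit 3243), Mv.f (nat_lit 3241), Mv.f (nat_lit 3379)]))))))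
(Tr.nd (nat_lit 3385) (Tr.nd (nat_lit 3383) (Tr.nd (nat_lit 3382) (Tr.lf (Fc.ed (nat_lit 3381) (nat_lit 1203) Col.h (nat_lit 1268) Dv.df))
(Tr.lf (Fc.ed (nat_lit 3382) (nat_lit 1268) Col.f (nat_lit 1206) (Dv.wd (nat_lit 104) [Mv.b (nat_lit 3249), Mv.b (nat_lit 3242), Mv.f (nat_lit 3381)]))))
(Tr.nd (nat_lit 3384) (Tr.lf (Fc.ed (nat_lit 3383) (nat_lit 1206) Col.d (nat_lit 1269) Dv.df))
(Tr.lf (Fc.ed (nat_lit 3384) (nat_lit 1269) Col.h (nat_lit 1209) (Dv.wd (nat_lit 105) [Mv.b (nat_lit 3254), Mv.b (nat_lit 2961), Mv.f (nat_lit 2955), Mv.f (nat_lit 3249), Mv.f (nat_lit 3383)])))))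
(Tr.nd (nat_lit 3387) (Tr.nd (nat_lit 3386) (Tr.lf (Fc.ed (nat_lit 3385) (nat_lit 1206) Col.i (nat_lit 1270) Dv.df))
(Tr.lf (Fc.ed (nat_lit 3386) (nat_lit 1207) Col.h (nat_lit 1271) Dv.df)))
(Tr.nd (nat_lit 3388) (Tr.lf (Fc.ed (nat_lit 3387) (nat_lit 1271) Col.c (nat_lit 1215) (Dv.wd (nat_lit 102) [Mv.b (nat_lit 3265), Mv.b (nat_lit 3251), Mv.f (nat_lit 3386)])))
(Tr.lf (Fc.ed (nat_lit 3388) (nat_lit 1271) Col.f (nat_lit 1208) (Dv.wd (nat_lit 104) [Mv.b (nat_lit 3252), Mv.f (nat_lit 3250), Mv.f (nat_lit 3386)])))))))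
(Tr.nd (nat_lit 3396) (Tr.nd (nat_lit 3392) (Tr.nd (nat_lit 3390) (Tr.lf (Fc.ed (nat_lit 3389) (nat_lit 1208) Col.d (nat_lit 1272) Dv.df))
(Tr.nd (nat_lit 3391) (Tr.lf (Fc.ed (nat_lit 3390) (nat_lit 1209) Col.c (nat_lit 1273) Dv.df))
(Tr.lf (Fc.ed (nat_lit 3391) (nat_lit 1209) Col.e (nat_lit 1274) Dv.df))))
(Tr.nd (nat_lit 3394) (Tr.nd (nat_lit 3393) (Tr.lf (Fc.ed (nat_lit 3392) (nat_lit 1274) Col.d (nat_lit 1211) (Dv.wd (nat_lit 88) [Mv.b (nat_lit 3257), Mv.b (nat_lit 2965), Mv.b (nat_lit 2962), Mv.f (nat_lit 3254), Mv.f (nat_lit 3391)])))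
(Tr.lf (Fc.ed (nat_lit 3393) (nat_lit 1209) Col.i (nat_lit 1275) Dv.df)))
(Tr.nd (nat_lit 3395) (Tr.lf (Fc.ed (nat_lit 3394) (nat_lit 1210) Col.e (nat_lit 1276) Dv.df))
(Tr.lf (Fc.ed (nat_lit 3395) (nat_lit 1276) Col.g (nat_lit 1211) (Dv.wd (nat_lit 87) [Mv.b (nat_lit 3257), Mv.b (nat_lit 3256), Mv.f (nat_lit 3394)]))))))
(Tr.nd (nat_lit 3400) (Tr.nd (nat_lit 3398) (Tr.nd (nat_lit 3397) (Tr.lf (Fc.ed (nat_lit 3396) (nat_lit 1211) Col.f (nat_lit 1277) Dv.df))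
(Tr.lf (Fc.ed (nat_lit 3397) (nat_lit 1277) Col.l (nat_lit 1277) (Dv.wd (nat_lit 89) [Mv.b (nat_lit 3396), Mv.f (nat_lit 3258), Mv.f (nat_lit 3396)]))))
(Tr.nd (nat_lit 3399) (Tr.lf (Fc.ed (nat_lit 3398) (nat_lit 1211) Col.i (nat_lit 1278) Dv.df))
(Tr.lf (Fc.ed (nat_lit 3399) (nat_lit 1278) Col.e (nat_lit 1212) (Dv.wd (nat_lit 143) [Mv.b (nat_lit 3259), Mv.f (nat_lit 3257), Mv.f (nat_lit 3398)])))))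
(Tr.nd (nat_lit 3402) (Tr.nd (nat_lit 3401) (Tr.lf (Fc.ed (nat_lit 3400) (nat_lit 1213) Col.c (nat_lit 1279) Dv.df))
(Tr.lf (Fc.ed (nat_lit 3401) (nat_lit 1213) Col.i (nat_lit 1280) Dv.df)))
(Tr.nd (nat_lit 3403) (Tr.lf (Fc.ed (nat_lit 3402) (nat_lit 1280) Col.b (nat_lit 1218) (Dv.wd (nat_lit 144) [Mv.b (nat_lit 3271), Mv.b (nat_lit 3262), Mv.f (nat_lit 3401)])))
(Tr.lf (Fc.ed (nat_lit 3403) (nat_lit 1214) Col.i (nat_lit 1281) Dv.df)))))))))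
(Tr.nd (nat_lit 3463) (Tr.nd (nat_lit 3433) (Tr.nd (nat_lit 3418) (Tr.nd (nat_lit 3411) (Tr.nd (nat_lit 3407) (Tr.nd (nat_lit 3405) (Tr.lf (Fc.ed (nat_lit 3404) (nat_lit 1281) Col.b (nat_lit 1220) (Dv.wd (nat_lit 144) [Mv.b (nat_lit 3278), Mv.b (nat_lit 3264), Mv.f (nat_lit 3403)])))
(Tr.nd (nat_lit 3406) (Tr.lf (Fc.ed (nat_lit 3405) (nat_lit 1215) Col.d (nat_lit 1282) Dv.df))
(Tr.lf (Fc.ed (nat_lit 3406) (nat_lit 1282) Col.b (nat_lit 1221) (Dv.wd (nat_lit 183) [Mv.b (nat_lit 3279), Mv.b (nat_lit 3266), Mv.f (nat_lit 3405)])))))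
(Tr.nd (nat_lit 3409) (Tr.nd (nat_lit 3408) (Tr.lf (Fc.ed (nat_lit 3407) (nat_lit 1216) Col.b (nat_lit 1283) Dv.df))
(Tr.lf (Fc.ed (nat_lit 3408) (nat_lit 1283) Col.c (nat_lit 1222) (Dv.wd (nat_lit 154) [Mv.b (nat_lit 3281), Mv.b (nat_lit 2988), Mv.b (nat_lit 2978), Mv.f (nat_lit 3267), Mv.f (nat_lit 3407)]))))
(Tr.nd (nat_lit 3410) (Tr.lf (Fc.ed (nat_lit 3409) (nat_lit 1216) Col.i (nat_lit 1284) Dv.df))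
(Tr.lf (Fc.ed (nat_lit 3410) (nat_lit 1217) Col.b (nat_lit 1285) Dv.df)))))
(Tr.nd (nat_lit 3414) (Tr.nd (nat_lit 3412) (Tr.lf (Fc.ed (nat_lit 3411) (nat_lit 1285) Col.f (nat_lit 1222) (Dv.wd (nat_lit 35) [Mv.b (nat_lit 3281), Mv.b (nat_lit 3270), Mv.f (nat_lit 3410)])))
(Tr.nd (nat_lit 3413) (Tr.lf (Fc.ed (nat_lit 3412) (nat_lit 1285) Col.a (nat_lit 1285) (Dv.wd (nat_lit 128) [Mv.b (nat_lit 3410), Mv.f (nat_lit 3269), Mv.f (nat_lit 3153), Mv.b (nat_lit 3269), Mv.f (nat_lit 3410)])))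
(Tr.lf (Fc.ed (nat_lit 3413) (nat_lit 1217) Col.e (nat_lit 1286) Dv.df))))
(Tr.nd (nat_lit 3416) (Tr.nd (nat_lit 3415) (Tr.lf (Fc.ed (nat_lit 3414) (nat_lit 1286) Col.a (nat_lit 1225) (Dv.wd (nat_lit 152) [Mv.b (nat_lit 3287), Mv.b (nat_lit 3269), Mv.f (nat_lit 3413)])))
(Tr.lf (Fc.ed (nat_lit 3415) (nat_lit 1217) Col.i (nat_lit 1287) Dv.df)))
(Tr.nd (nat_lit 3417) (Tr.lf (Fc.ed (nat_lit 3416) (nat_lit 1287) Col.c (nat_lit 1218) (Dv.wd (nat_lit 145) [Mv.b (nat_lit 3271), Mv.f (nat_lit 3268), Mv.f (nat_lit 3415)])))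
(Tr.lf (Fc.ed (nat_lit 3417) (nat_lit 1218) Col.h (nat_lit 1288) Dv.df))))))
(Tr.nd (nat_lit 3425) (Tr.nd (nat_lit 3421) (Tr.nd (nat_lit 3419) (Tr.lf (Fc.ed (nat_lit 3418) (nat_lit 1288) Col.a (nat_lit 1227) (Dv.wd (nat_lit 124) [Mv.b (nat_lit 3290), Mv.b (nat_lit 3272), Mv.f (nat_lit 3417)])))
(Tr.nd (nat_lit 3420) (Tr.lf (Fc.ed (nat_lit 3419) (nat_lit 1219) Col.i (nat_lit 1289) Dv.df))
(Tr.lf (Fc.ed (nat_lit 3420) (nat_lit 1289) Col.c (nat_lit 1220) (Dv.wd (nat_lit 145) [Mv.b (nat_lit 3278), Mv.f (nat_lit 3274), Mv.f (nat_lit 3419)])))))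
(Tr.nd (nat_lit 3423) (Tr.nd (nat_lit 3422) (Tr.lf (Fc.ed (nat_lit 3421) (nat_lit 1289) Col.d (nat_lit 1289) (Dv.wd (nat_lit 142) [Mv.b (nat_lit 3419), Mv.f (nat_lit 3276), Mv.f (nat_lit 3419)])))
(Tr.lf (Fc.ed (nat_lit 3422) (nat_lit 1289) Col.e (nat_lit 1262) (Dv.wd (nat_lit 143) [Mv.b (nat_lit 3366), Mv.f (nat_lit 3277), Mv.f (nat_lit 3419)]))))
(Tr.nd (nat_lit 3424) (Tr.lf (Fc.ed (nat_lit 3423) (nat_lit 1221) Col.e (nat_lit 1290) Dv.df))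
(Tr.lf (Fc.ed (nat_lit 3424) (nat_lit 1290) Col.a (nat_lit 1229) (Dv.wd (nat_lit 152) [Mv.b (nat_lit 3294), Mv.b (nat_lit 3280), Mv.f (nat_lit 3423)]))))))
(Tr.nd (nat_lit 3429) (Tr.nd (nat_lit 3427) (Tr.nd (nat_lit 3426) (Tr.lf (Fc.ed (nat_lit 3425) (nat_lit 1222) Col.i (nat_lit 1291) Dv.df))
(Tr.lf (Fc.ed (nat_lit 3426) (nat_lit 1291) Col.e (nat_lit 1291) (Dv.wd (nat_lit 143) [Mv.b (nat_lit 3425), Mv.f (nat_lit 3282), Mv.f (nat_lit 3425)]))))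
(Tr.nd (nat_lit 3428) (Tr.lf (Fc.ed (nat_lit 3427) (nat_lit 1223) Col.e (nat_lit 1292) Dv.df))
(Tr.lf (Fc.ed (nat_lit 3428) (nat_lit 1292) Col.c (nat_lit 1224) (Dv.wd (nat_lit 86) [Mv.b (nat_lit 3285), Mv.f (nat_lit 3283), Mv.f (nat_lit 3427)])))))
(Tr.nd (nat_lit 3431) (Tr.nd (nat_lit 3430) (Tr.lf (Fc.ed (nat_lit 3429) (nat_lit 1292) Col.g (nat_lit 1225) (Dv.wd (nat_lit 87) [Mv.b (nat_lit 3287), Mv.b (nat_lit 3284), Mv.f (nat_lit 3427)])))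
(Tr.lf (Fc.ed (nat_lit 3430) (nat_lit 1261) Col.d (nat_lit 1292) (Dv.wd (nat_lit 215) [Mv.f (nat_lit 3428), Mv.f (nat_lit 3286), Mv.f (nat_lit 2999), Mv.b (nat_lit 3209), Mv.b (nat_lit 3365)]))))
(Tr.nd (nat_lit 3432) (Tr.lf (Fc.ed (nat_lit 3431) (nat_lit 1225) Col.d (nat_lit 1293) Dv.df))
(Tr.lf (Fc.ed (nat_lit 3432) (nat_lit 1293) Col.g (nat_lit 1261) (Dv.wd (nat_lit 82) [Mv.f (nat_lit 3430), Mv.f (nat_lit 3429), Mv.f (nat_lit 3431)]))))))))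
(Tr.nd (nat_lit 3448) (Tr.nd (nat_lit 3440) (Tr.nd (nat_lit 3436) (Tr.nd (nat_lit 3434) (Tr.lf (Fc.ed (nat_lit 3433) (nat_lit 1225) Col.i (nat_lit 1294) Dv.df))
(Tr.nd (nat_lit 3435) (Tr.lf (Fc.ed (nat_lit 3434) (nat_lit 1294) Col.e (nat_lit 1226) (Dv.wd (nat_lit 143) [Mv.b (nat_lit 3288), Mv.f (nat_lit 3287), Mv.f (nat_lit 3433)])))
(Tr.lf (Fc.ed (nat_lit 3435) (nat_lit 1226) Col.h (nat_lit 1295) Dv.df))))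
(Tr.nd (nat_lit 3438) (Tr.nd (nat_lit 3437) (Tr.lf (Fc.ed (nat_lit 3436) (nat_lit 1295) Col.c (nat_lit 1227) (Dv.wd (nat_lit 102) [Mv.b (nat_lit 3290), Mv.b (nat_lit 3289), Mv.f (nat_lit 3435)])))
(Tr.lf (Fc.ed (nat_lit 3437) (nat_lit 1231) Col.f (nat_lit 1296) Dv.df)))
(Tr.nd (nat_lit 3439) (Tr.lf (Fc.ed (nat_lit 3438) (nat_lit 1231) Col.h (nat_lit 1297) Dv.df))
(Tr.lf (Fc.ed (nat_lit 3439) (nat_lit 1297) Col.g (nat_lit 1232) (Dv.wd (nat_lit 126) [Mv.b (nat_lit 3303), Mv.f (nat_lit 3301), Mv.f (nat_lit 3438)]))))))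
(Tr.nd (nat_lit 3444) (Tr.nd (nat_lit 3442) (Tr.nd (nat_lit 3441) (Tr.lf (Fc.ed (nat_lit 3440) (nat_lit 1232) Col.d (nat_lit 1298) Dv.df))
(Tr.lf (Fc.ed (nat_lit 3441) (nat_lit 1298) Col.h (nat_lit 1233) (Dv.wd (nat_lit 105) [Mv.b (nat_lit 3304), Mv.b (nat_lit 3016), Mv.f (nat_lit 3014), Mv.f (nat_lit 3303), Mv.f (nat_lit 3440)]))))
(Tr.nd (nat_lit 3443) (Tr.lf (Fc.ed (nat_lit 3442) (nat_lit 1233) Col.c (nat_lit 1299) Dv.df))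
(Tr.lf (Fc.ed (nat_lit 3443) (nat_lit 1299) Col.a (nat_lit 1273) (Dv.wd (nat_lit 181) [Mv.b (nat_lit 3390), Mv.b (nat_lit 3305), Mv.f (nat_lit 3442)])))))
(Tr.nd (nat_lit 3446) (Tr.nd (nat_lit 3445) (Tr.lf (Fc.ed (nat_lit 3444) (nat_lit 1299) Col.d (nat_lit 1241) (Dv.wd (nat_lit 106) [Mv.b (nat_lit 3322), Mv.b (nat_lit 3038), Mv.b (nat_lit 3018), Mv.f (nat_lit 3304), Mv.f (nat_lit 3442)])))
(Tr.lf (Fc.ed (nat_lit 3445) (nat_lit 1233) Col.e (nat_lit 1300) Dv.df)))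
(Tr.nd (nat_lit 3447) (Tr.lf (Fc.ed (nat_lit 3446) (nat_lit 1300) Col.a (nat_lit 1274) (Dv.wd (nat_lit 152) [Mv.b (nat_lit 3391), Mv.b (nat_lit 3305), Mv.f (nat_lit 3445)])))
(Tr.lf (Fc.ed (nat_lit 3447) (nat_lit 1234) Col.f (nat_lit 1301) Dv.df))))))
(Tr.nd (nat_lit 3455) (Tr.nd (nat_lit 3451) (Tr.nd (nat_lit 3449) (Tr.lf (Fc.ed (nat_lit 3448) (nat_lit 1301) Col.a (nat_lit 1277) (Dv.wd (nat_lit 113) [Mv.b (nat_lit 3396), Mv.b (nat_lit 3307), Mv.f (nat_lit 3447)])))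
(Tr.nd (nat_lit 3450) (Tr.lf (Fc.ed (nat_lit 3449) (nat_lit 1301) Col.e (nat_lit 1236) (Dv.wd (nat_lit 93) [Mv.b (nat_lit 3310), Mv.b (nat_lit 3024), Mv.b (nat_lit 3023), Mv.f (nat_lit 3306), Mv.f (nat_lit 3447)])))
(Tr.lf (Fc.ed (nat_lit 3450) (nat_lit 1234) Col.i (nat_lit 1302) Dv.df))))
(Tr.nd (nat_lit 3453) (Tr.nd (nat_lit 3452) (Tr.lf (Fc.ed (nat_lit 3451) (nat_lit 1302) Col.a (nat_lit 1278) (Dv.wd (nat_lit 116) [Mv.b (nat_lit 3398), Mv.b (nat_lit 3307), Mv.f (nat_lit 3450)])))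
(Tr.lf (Fc.ed (nat_lit 3452) (nat_lit 1302) Col.e (nat_lit 1235) (Dv.wd (nat_lit 143) [Mv.b (nat_lit 3308), Mv.f (nat_lit 3306), Mv.f (nat_lit 3450)]))))
(Tr.nd (nat_lit 3454) (Tr.lf (Fc.ed (nat_lit 3453) (nat_lit 1235) Col.h (nat_lit 1303) Dv.df))
(Tr.lf (Fc.ed (nat_lit 3454) (nat_lit 1303) Col.f (nat_lit 1238) (Dv.wd (nat_lit 104) [Mv.b (nat_lit 3313), Mv.b (nat_lit 3309), Mv.f (nat_lit 3453)]))))))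
(Tr.nd (nat_lit 3459) (Tr.nd (nat_lit 3457) (Tr.nd (nat_lit 3456) (Tr.lf (Fc.ed (nat_lit 3455) (nat_lit 1236) Col.i (nat_lit 1304) Dv.df))
(Tr.lf (Fc.ed (nat_lit 3456) (nat_lit 1304) Col.f (nat_lit 1237) (Dv.wd (nat_lit 112) [Mv.b (nat_lit 3311), Mv.f (nat_lit 3310), Mv.f (nat_lit 3455)]))))
(Tr.nd (nat_lit 3458) (Tr.lf (Fc.ed (nat_lit 3457) (nat_lit 1237) Col.h (nat_lit 1305) Dv.df))
(Tr.lf (Fc.ed (nat_lit 3458) (nat_lit 1305) Col.e (nat_lit 1238) (Dv.wd (nat_lit 103) [Mv.b (nat_lit 3313), Mv.b (nat_lit 3312), Mv.f (nat_lit 3457)])))))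
(Tr.nd (nat_lit 3461) (Tr.nd (nat_lit 3460) (Tr.lf (Fc.ed (nat_lit 3459) (nat_lit 1239) Col.c (nat_lit 1306) Dv.df))
(Tr.lf (Fc.ed (nat_lit 3460) (nat_lit 1306) Col.a (nat_lit 1279) (Dv.wd (nat_lit 181) [Mv.b (nat_lit 3400), Mv.b (nat_lit 3315), Mv.f (nat_lit 3459)]))))
(Tr.nd (nat_lit 3462) (Tr.lf (Fc.ed (nat_lit 3461) (nat_lit 1306) Col.f (nat_lit 1241) (Dv.wd (nat_lit 36) [Mv.b (nat_lit 3322), Mv.b (nat_lit 3317), Mv.f (nat_lit 3459)])))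
(Tr.lf (Fc.ed (nat_lit 3462) (nat_lit 1239) Col.i (nat_lit 1307) Dv.df))))))))
(Tr.nd (nat_lit 3492) (Tr.nd (nat_lit 3477) (Tr.nd (nat_lit 3470) (Tr.nd (nat_lit 3466) (Tr.nd (nat_lit 3464) (Tr.lf (Fc.ed (nat_lit 3463) (nat_lit 1307) Col.b (nat_lit 1243) (Dv.wd (nat_lit 144) [Mv.b (nat_lit 3326), Mv.b (nat_lit 3316), Mv.f (nat_lit 3462)])))
(Tr.nd (nat_lit 3465) (Tr.lf (Fc.ed (nat_lit 3464) (nat_lit 1240) Col.e (nat_lit 1308) Dv.df))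
(Tr.lf (Fc.ed (nat_lit 3465) (nat_lit 1308) Col.h (nat_lit 1263) (Dv.wd (nat_lit 107) [Mv.b (nat_lit 3374), Mv.f (nat_lit 3375), Mv.f (nat_lit 3464)])))))
(Tr.nd (nat_lit 3468) (Tr.nd (nat_lit 3467) (Tr.lf (Fc.ed (nat_lit 3466) (nat_lit 1240) Col.i (nat_lit 1309) Dv.df))
(Tr.lf (Fc.ed (nat_lit 3467) (nat_lit 1309) Col.a (nat_lit 1281) (Dv.wd (nat_lit 116) [Mv.b (nat_lit 3403), Mv.b (nat_lit 3319), Mv.f (nat_lit 3466)]))))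
(Tr.nd (nat_lit 3469) (Tr.lf (Fc.ed (nat_lit 3468) (nat_lit 1309) Col.f (nat_lit 1309) (Dv.wd (nat_lit 112) [Mv.b (nat_lit 3466), Mv.f (nat_lit 3320), Mv.f (nat_lit 3466)])))
(Tr.lf (Fc.ed (nat_lit 3469) (nat_lit 1241) Col.i (nat_lit 1310) Dv.df)))))
(Tr.nd (nat_lit 3473) (Tr.nd (nat_lit 3471) (Tr.lf (Fc.ed (nat_lit 3470) (nat_lit 1310) Col.a (nat_lit 1284) (Dv.wd (nat_lit 116) [Mv.b (nat_lit 3409), Mv.b (nat_lit 3323), Mv.f (nat_lit 3469)])))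
(Tr.nd (nat_lit 3472) (Tr.lf (Fc.ed (nat_lit 3471) (nat_lit 1242) Col.i (nat_lit 1311) Dv.df))
(Tr.lf (Fc.ed (nat_lit 3472) (nat_lit 1311) Col.d (nat_lit 1246) (Dv.wd (nat_lit 142) [Mv.b (nat_lit 3331), Mv.b (nat_lit 3325), Mv.f (nat_lit 3471)])))))
(Tr.nd (nat_lit 3475) (Tr.nd (nat_lit 3474) (Tr.lf (Fc.ed (nat_lit 3473) (nat_lit 1311) Col.e (nat_lit 1243) (Dv.wd (nat_lit 143) [Mv.b (nat_lit 3326), Mv.f (nat_lit 3324), Mv.f (nat_lit 3471)])))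
(Tr.lf (Fc.ed (nat_lit 3474) (nat_lit 1243) Col.h (nat_lit 1312) Dv.df)))
(Tr.nd (nat_lit 3476) (Tr.lf (Fc.ed (nat_lit 3475) (nat_lit 1244) Col.i (nat_lit 1313) Dv.df))
(Tr.lf (Fc.ed (nat_lit 3476) (nat_lit 1313) Col.h (nat_lit 1246) (Dv.wd (nat_lit 193) [Mv.b (nat_lit 3331), Mv.b (nat_lit 3235), Mv.f (nat_lit 3236), Mv.b (nat_lit 3328), Mv.f (nat_lit 3475)])))))))
(Tr.nd (nat_lit 3484) (Tr.nd (nat_lit 3480) (Tr.nd (nat_lit 3478) (Tr.lf (Fc.ed (nat_lit 3477) (nat_lit 1245) Col.i (nat_lit 1314) Dv.df))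
(Tr.nd (nat_lit 3479) (Tr.lf (Fc.ed (nat_lit 3478) (nat_lit 1247) Col.e (nat_lit 1315) Dv.df))
(Tr.lf (Fc.ed (nat_lit 3479) (nat_lit 1315) Col.b (nat_lit 1305) (Dv.wd (nat_lit 153) [Mv.f (nat_lit 3458), Mv.f (nat_lit 3334), Mv.f (nat_lit 3478)])))))
(Tr.nd (nat_lit 3482) (Tr.nd (nat_lit 3481) (Tr.lf (Fc.ed (nat_lit 3480) (nat_lit 1315) Col.c (nat_lit 1248) (Dv.wd (nat_lit 86) [Mv.b (nat_lit 3335), Mv.f (nat_lit 3332), Mv.f (nat_lit 3478)])))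
(Tr.lf (Fc.ed (nat_lit 3481) (nat_lit 1247) Col.f (nat_lit 1316) Dv.df)))
(Tr.nd (nat_lit 3483) (Tr.lf (Fc.ed (nat_lit 3482) (nat_lit 1316) Col.b (nat_lit 1303) (Dv.wd (nat_lit 114) [Mv.f (nat_lit 3454), Mv.f (nat_lit 3334), Mv.f (nat_lit 3481)])))
(Tr.lf (Fc.ed (nat_lit 3483) (nat_lit 1316) Col.c (nat_lit 1249) (Dv.wd (nat_lit 91) [Mv.b (nat_lit 3337), Mv.f (nat_lit 3332), Mv.f (nat_lit 3481)]))))))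
(Tr.nd (nat_lit 3488) (Tr.nd (nat_lit 3486) (Tr.nd (nat_lit 3485) (Tr.lf (Fc.ed (nat_lit 3484) (nat_lit 1248) Col.f (nat_lit 1317) Dv.df))
(Tr.lf (Fc.ed (nat_lit 3485) (nat_lit 1317) Col.d (nat_lit 1317) (Dv.wd (nat_lit 92) [Mv.b (nat_lit 3484), Mv.f (nat_lit 3336), Mv.f (nat_lit 3484)]))))
(Tr.nd (nat_lit 3487) (Tr.lf (Fc.ed (nat_lit 3486) (nat_lit 1249) Col.e (nat_lit 1318) Dv.df))
(Tr.lf (Fc.ed (nat_lit 3487) (nat_lit 1318) Col.a (nat_lit 1318) (Dv.wd (nat_lit 152) [Mv.b (nat_lit 3486), Mv.f (nat_lit 3338), Mv.f (nat_lit 3486)])))))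
(Tr.nd (nat_lit 3490) (Tr.nd (nat_lit 3489) (Tr.lf (Fc.ed (nat_lit 3488) (nat_lit 1318) Col.b (nat_lit 1318) (Dv.wd (nat_lit 153) [Mv.b (nat_lit 3486), Mv.f (nat_lit 3339), Mv.f (nat_lit 3486)])))
(Tr.lf (Fc.ed (nat_lit 3489) (nat_lit 1250) Col.b (nat_lit 1319) Dv.df)))
(Tr.nd (nat_lit 3491) (Tr.lf (Fc.ed (nat_lit 3490) (nat_lit 1319) Col.c (nat_lit 1254) (Dv.wd (nat_lit 154) [Mv.b (nat_lit 3347), Mv.b (nat_lit 3170), Mv.b (nat_lit 3166), Mv.f (nat_lit 3340), Mv.f (nat_lit 3489)])))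
(Tr.lf (Fc.ed (nat_lit 3491) (nat_lit 1250) Col.i (nat_lit 1320) Dv.df)))))))
(Tr.nd (nat_lit 3507) (Tr.nd (nat_lit 3499) (Tr.nd (nat_lit 3495) (Tr.nd (nat_lit 3493) (Tr.lf (Fc.ed (nat_lit 3492) (nat_lit 1320) Col.a (nat_lit 1320) (Dv.wd (nat_lit 116) [Mv.b (nat_lit 3491), Mv.f (nat_lit 3341), Mv.f (nat_lit 3491)])))
(Tr.nd (nat_lit 3494) (Tr.lf (Fc.ed (nat_lit 3493) (nat_lit 1320) Col.f (nat_lit 1251) (Dv.wd (nat_lit 112) [Mv.b (nat_lit 3343), Mv.b (nat_lit 3342), Mv.f (nat_lit 3491)])))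
(Tr.lf (Fc.ed (nat_lit 3494) (nat_lit 1251) Col.h (nat_lit 1321) Dv.df))))
(Tr.nd (nat_lit 3497) (Tr.nd (nat_lit 3496) (Tr.lf (Fc.ed (nat_lit 3495) (nat_lit 1252) Col.i (nat_lit 1322) Dv.df))
(Tr.lf (Fc.ed (nat_lit 3496) (nat_lit 1322) Col.c (nat_lit 1253) (Dv.wd (nat_lit 145) [Mv.b (nat_lit 3346), Mv.f (nat_lit 3344), Mv.f (nat_lit 3495)]))))
(Tr.nd (nat_lit 3498) (Tr.lf (Fc.ed (nat_lit 3497) (nat_lit 1322) Col.d (nat_lit 1313) (Dv.wd (nat_lit 142) [Mv.b (nat_lit 3475), Mv.b (nat_lit 3345), Mv.f (nat_lit 3495)])))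
(Tr.lf (Fc.ed (nat_lit 3498) (nat_lit 1253) Col.h (nat_lit 1323) Dv.df)))))
(Tr.nd (nat_lit 3503) (Tr.nd (nat_lit 3501) (Tr.nd (nat_lit 3500) (Tr.lf (Fc.ed (nat_lit 3499) (nat_lit 1254) Col.i (nat_lit 1324) Dv.df))
(Tr.lf (Fc.ed (nat_lit 3500) (nat_lit 1324) Col.d (nat_lit 1314) (Dv.wd (nat_lit 142) [Mv.b (nat_lit 3477), Mv.b (nat_lit 3348), Mv.f (nat_lit 3499)]))))
(Tr.nd (nat_lit 3502) (Tr.lf (Fc.ed (nat_lit 3501) (nat_lit 1255) Col.c (nat_lit 1325) Dv.df))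
(Tr.lf (Fc.ed (nat_lit 3502) (nat_lit 1325) Col.h (nat_lit 1256) (Dv.wd (nat_lit 30) [Mv.b (nat_lit 3352), Mv.b (nat_lit 3351), Mv.f (nat_lit 3501)])))))
(Tr.nd (nat_lit 3505) (Tr.nd (nat_lit 3504) (Tr.lf (Fc.ed (nat_lit 3503) (nat_lit 1325) Col.i (nat_lit 1325) (Dv.wd (nat_lit 137) [Mv.b (nat_lit 3501), Mv.f (nat_lit 3350), Mv.f (nat_lit 3501)])))
(Tr.lf (Fc.ed (nat_lit 3504) (nat_lit 1256) Col.i (nat_lit 1326) Dv.df)))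
(Tr.nd (nat_lit 3506) (Tr.lf (Fc.ed (nat_lit 3505) (nat_lit 1326) Col.d (nat_lit 1259) (Dv.wd (nat_lit 142) [Mv.b (nat_lit 3359), Mv.b (nat_lit 3353), Mv.f (nat_lit 3504)])))
(Tr.lf (Fc.ed (nat_lit 3506) (nat_lit 1326) Col.h (nat_lit 1326) (Dv.wd (nat_lit 193) [Mv.b (nat_lit 3504), Mv.b (nat_lit 3502), Mv.f (nat_lit 3503), Mv.f (nat_lit 3502), Mv.f (nat_lit 3504)])))))))
(Tr.nd (nat_lit 3514) (Tr.nd (nat_lit 3510) (Tr.nd (nat_lit 3508) (Tr.lf (Fc.ed (nat_lit 3507) (nat_lit 1257) Col.i (nat_lit 1327) Dv.df))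
(Tr.nd (nat_lit 3509) (Tr.lf (Fc.ed (nat_lit 3508) (nat_lit 1327) Col.d (nat_lit 1327) (Dv.wd (nat_lit 142) [Mv.b (nat_lit 3507), Mv.f (nat_lit 3355), Mv.f (nat_lit 3507)])))
(Tr.lf (Fc.ed (nat_lit 3509) (nat_lit 1327) Col.e (nat_lit 1258) (Dv.wd (nat_lit 143) [Mv.b (nat_lit 3356), Mv.f (nat_lit 3354), Mv.f (nat_lit 3507)])))))
(Tr.nd (nat_lit 3512) (Tr.nd (nat_lit 3511) (Tr.lf (Fc.ed (nat_lit 3510) (nat_lit 1318) Col.h (nat_lit 1327) (Dv.wd (nat_lit 216) [Mv.f (nat_lit 3509), Mv.b (nat_lit 3358), Mv.f (nat_lit 3486)])))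
(Tr.lf (Fc.ed (nat_lit 3511) (nat_lit 1259) Col.h (nat_lit 1328) Dv.df)))
(Tr.nd (nat_lit 3513) (Tr.lf (Fc.ed (nat_lit 3512) (nat_lit 1328) Col.c (nat_lit 1260) (Dv.wd (nat_lit 102) [Mv.b (nat_lit 3362), Mv.b (nat_lit 3360), Mv.f (nat_lit 3511)])))
(Tr.lf (Fc.ed (nat_lit 3513) (nat_lit 1328) Col.e (nat_lit 1321) (Dv.wd (nat_lit 103) [Mv.b (nat_lit 3494), Mv.b (nat_lit 3361), Mv.f (nat_lit 3511)]))))))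
(Tr.nd (nat_lit 3518) (Tr.nd (nat_lit 3516) (Tr.nd (nat_lit 3515) (Tr.lf (Fc.ed (nat_lit 3514) (nat_lit 1328) Col.d (nat_lit 1328) (Dv.wd (nat_lit 141) [Mv.b (nat_lit 3511), Mv.b (nat_lit 3505), Mv.f (nat_lit 3506), Mv.f (nat_lit 3505), Mv.f (nat_lit 3511)])))
(Tr.lf (Fc.ed (nat_lit 3515) (nat_lit 1261) Col.i (nat_lit 1329) Dv.df)))
(Tr.nd (nat_lit 3517) (Tr.lf (Fc.ed (nat_lit 3516) (nat_lit 1267) Col.h (nat_lit 1330) Dv.df))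
(Tr.lf (Fc.ed (nat_lit 3517) (nat_lit 1330) Col.g (nat_lit 1268) (Dv.wd (nat_lit 126) [Mv.b (nat_lit 3381), Mv.f (nat_lit 3379), Mv.f (nat_lit 3516)])))))
(Tr.nd (nat_lit 3520) (Tr.nd (nat_lit 3519) (Tr.lf (Fc.ed (nat_lit 3518) (nat_lit 1268) Col.i (nat_lit 1331) Dv.df))
(Tr.lf (Fc.ed (nat_lit 3519) (nat_lit 1331) Col.f (nat_lit 1270) (Dv.wd (nat_lit 112) [Mv.b (nat_lit 3385), Mv.b (nat_lit 3382), Mv.f (nat_lit 3518)]))))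
(Tr.nd (nat_lit 3521) (Tr.lf (Fc.ed (nat_lit 3520) (nat_lit 1269) Col.i (nat_lit 1332) Dv.df))
(Tr.lf (Fc.ed (nat_lit 3521) (nat_lit 1332) Col.d (nat_lit 1270) (Dv.wd (nat_lit 142) [Mv.b (nat_lit 3385), Mv.f (nat_lit 3383), Mv.f (nat_lit 3520)])))))))))))
(Tr.nd (nat_lit 3639) (Tr.nd (nat_lit 3580) (Tr.nd (nat_lit 3551) (Tr.nd (nat_lit 3536) (Tr.nd (nat_lit 3529) (Tr.nd (nat_lit 3525) (Tr.nd (nat_lit 3523) (Tr.lf (Fc.ed (nat_lit 3522) (nat_lit 1271) Col.d (nat_lit 1333) Dv.df))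
(Tr.nd (nat_lit 3524) (Tr.lf (Fc.ed (nat_lit 3523) (nat_lit 1333) Col.f (nat_lit 1272) (Dv.wd (nat_lit 37) [Mv.b (nat_lit 3389), Mv.b (nat_lit 3388), Mv.f (nat_lit 3522)])))
(Tr.lf (Fc.ed (nat_lit 3524) (nat_lit 1272) Col.e (nat_lit 1334) Dv.df))))
(Tr.nd (nat_lit 3527) (Tr.nd (nat_lit 3526) (Tr.lf (Fc.ed (nat_lit 3525) (nat_lit 1334) Col.d (nat_lit 1276) (Dv.wd (nat_lit 88) [Mv.b (nat_lit 3394), Mv.b (nat_lit 3255), Mv.b (nat_lit 3253), Mv.f (nat_lit 3389), Mv.f (nat_lit 3524)])))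
(Tr.lf (Fc.ed (nat_lit 3526) (nat_lit 1273) Col.i (nat_lit 1335) Dv.df)))
(Tr.nd (nat_lit 3528) (Tr.lf (Fc.ed (nat_lit 3527) (nat_lit 1335) Col.c (nat_lit 1275) (Dv.wd (nat_lit 145) [Mv.b (nat_lit 3393), Mv.f (nat_lit 3390), Mv.f (nat_lit 3526)])))
(Tr.lf (Fc.ed (nat_lit 3528) (nat_lit 1274) Col.i (nat_lit 1336) Dv.df)))))
(Tr.nd (nat_lit 3532) (Tr.nd (nat_lit 3530) (Tr.lf (Fc.ed (nat_lit 3529) (nat_lit 1336) Col.d (nat_lit 1278) (Dv.wd (nat_lit 142) [Mv.b (nat_lit 3398), Mv.b (nat_lit 3392), Mv.f (nat_lit 3528)])))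
(Tr.nd (nat_lit 3531) (Tr.lf (Fc.ed (nat_lit 3530) (nat_lit 1275) Col.h (nat_lit 1337) Dv.df))
(Tr.lf (Fc.ed (nat_lit 3531) (nat_lit 1276) Col.f (nat_lit 1338) Dv.df))))
(Tr.nd (nat_lit 3534) (Tr.nd (nat_lit 3533) (Tr.lf (Fc.ed (nat_lit 3532) (nat_lit 1277) Col.g (nat_lit 1339) Dv.df))
(Tr.lf (Fc.ed (nat_lit 3533) (nat_lit 1277) Col.i (nat_lit 1340) Dv.df)))
(Tr.nd (nat_lit 3535) (Tr.lf (Fc.ed (nat_lit 3534) (nat_lit 1340) Col.l (nat_lit 1340) (Dv.wd (nat_lit 110) [Mv.b (nat_lit 3533), Mv.f (nat_lit 3397), Mv.f (nat_lit 3533)])))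
(Tr.lf (Fc.ed (nat_lit 3535) (nat_lit 1340) Col.f (nat_lit 1278) (Dv.wd (nat_lit 112) [Mv.b (nat_lit 3398), Mv.f (nat_lit 3396), Mv.f (nat_lit 3533)])))))))
(Tr.nd (nat_lit 3543) (Tr.nd (nat_lit 3539) (Tr.nd (nat_lit 3537) (Tr.lf (Fc.ed (nat_lit 3536) (nat_lit 1278) Col.h (nat_lit 1341) Dv.df))
(Tr.nd (nat_lit 3538) (Tr.lf (Fc.ed (nat_lit 3537) (nat_lit 1279) Col.i (nat_lit 1342) Dv.df))
(Tr.lf (Fc.ed (nat_lit 3538) (nat_lit 1342) Col.c (nat_lit 1280) (Dv.wd (nat_lit 145) [Mv.b (nat_lit 3401), Mv.f (nat_lit 3400), Mv.f (nat_lit 3537)])))))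
(Tr.nd (nat_lit 3541) (Tr.nd (nat_lit 3540) (Tr.lf (Fc.ed (nat_lit 3539) (nat_lit 1280) Col.h (nat_lit 1343) Dv.df))
(Tr.lf (Fc.ed (nat_lit 3540) (nat_lit 1343) Col.b (nat_lit 1288) (Dv.wd (nat_lit 151) [Mv.b (nat_lit 3417), Mv.b (nat_lit 3402), Mv.f (nat_lit 3539)]))))
(Tr.nd (nat_lit 3542) (Tr.lf (Fc.ed (nat_lit 3541) (nat_lit 1282) Col.c (nat_lit 1344) Dv.df))
(Tr.lf (Fc.ed (nat_lit 3542) (nat_lit 1282) Col.e (nat_lit 1345) Dv.df)))))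
(Tr.nd (nat_lit 3547) (Tr.nd (nat_lit 3545) (Tr.nd (nat_lit 3544) (Tr.lf (Fc.ed (nat_lit 3543) (nat_lit 1345) Col.b (nat_lit 1290) (Dv.wd (nat_lit 153) [Mv.b (nat_lit 3423), Mv.b (nat_lit 3406), Mv.f (nat_lit 3542)])))
(Tr.lf (Fc.ed (nat_lit 3544) (nat_lit 1283) Col.i (nat_lit 1346) Dv.df)))
(Tr.nd (nat_lit 3546) (Tr.lf (Fc.ed (nat_lit 3545) (nat_lit 1346) Col.b (nat_lit 1284) (Dv.wd (nat_lit 144) [Mv.b (nat_lit 3409), Mv.f (nat_lit 3407), Mv.f (nat_lit 3544)])))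
(Tr.lf (Fc.ed (nat_lit 3546) (nat_lit 1346) Col.c (nat_lit 1291) (Dv.wd (nat_lit 145) [Mv.b (nat_lit 3425), Mv.b (nat_lit 3408), Mv.f (nat_lit 3544)])))))
(Tr.nd (nat_lit 3549) (Tr.nd (nat_lit 3548) (Tr.lf (Fc.ed (nat_lit 3547) (nat_lit 1284) Col.h (nat_lit 1347) Dv.df))
(Tr.lf (Fc.ed (nat_lit 3548) (nat_lit 1285) Col.i (nat_lit 1348) Dv.df)))
(Tr.nd (nat_lit 3550) (Tr.lf (Fc.ed (nat_lit 3549) (nat_lit 1348) Col.a (nat_lit 1348) (Dv.wd (nat_lit 116) [Mv.b (nat_lit 3548), Mv.f (nat_lit 3412), Mv.f (nat_lit 3548)])))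
(Tr.lf (Fc.ed (nat_lit 3550) (nat_lit 1348) Col.b (nat_lit 1287) (Dv.wd (nat_lit 144) [Mv.b (nat_lit 3415), Mv.f (nat_lit 3410), Mv.f (nat_lit 3548)]))))))))
(Tr.nd (nat_lit 3565) (Tr.nd (nat_lit 3558) (Tr.nd (nat_lit 3554) (Tr.nd (nat_lit 3552) (Tr.lf (Fc.ed (nat_lit 3551) (nat_lit 1348) Col.f (nat_lit 1291) (Dv.wd (nat_lit 112) [Mv.b (nat_lit 3425), Mv.b (nat_lit 3411), Mv.f (nat_lit 3548)])))
(Tr.nd (nat_lit 3553) (Tr.lf (Fc.ed (nat_lit 3552) (nat_lit 1286) Col.d (nat_lit 1349) Dv.df))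
(Tr.lf (Fc.ed (nat_lit 3553) (nat_lit 1349) Col.a (nat_lit 1293) (Dv.wd (nat_lit 182) [Mv.b (nat_lit 3431), Mv.b (nat_lit 3414), Mv.f (nat_lit 3552)])))))
(Tr.nd (nat_lit 3556) (Tr.nd (nat_lit 3555) (Tr.lf (Fc.ed (nat_lit 3554) (nat_lit 1286) Col.i (nat_lit 1350) Dv.df))
(Tr.lf (Fc.ed (nat_lit 3555) (nat_lit 1350) Col.e (nat_lit 1287) (Dv.wd (nat_lit 143) [Mv.b (nat_lit 3415), Mv.f (nat_lit 3413), Mv.f (nat_lit 3554)]))))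
(Tr.nd (nat_lit 3557) (Tr.lf (Fc.ed (nat_lit 3556) (nat_lit 1287) Col.h (nat_lit 1351) Dv.df))
(Tr.lf (Fc.ed (nat_lit 3557) (nat_lit 1351) Col.c (nat_lit 1288) (Dv.wd (nat_lit 102) [Mv.b (nat_lit 3417), Mv.b (nat_lit 3416), Mv.f (nat_lit 3556)]))))))
(Tr.nd (nat_lit 3561) (Tr.nd (nat_lit 3559) (Tr.lf (Fc.ed (nat_lit 3558) (nat_lit 1291) Col.h (nat_lit 1352) Dv.df))
(Tr.nd (nat_lit 3560) (Tr.lf (Fc.ed (nat_lit 3559) (nat_lit 1352) Col.e (nat_lit 1352) (Dv.wd (nat_lit 103) [Mv.b (nat_lit 3558), Mv.f (nat_lit 3426), Mv.f (nat_lit 3558)])))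
(Tr.lf (Fc.ed (nat_lit 3560) (nat_lit 1292) Col.i (nat_lit 1353) Dv.df))))
(Tr.nd (nat_lit 3563) (Tr.nd (nat_lit 3562) (Tr.lf (Fc.ed (nat_lit 3561) (nat_lit 1353) Col.d (nat_lit 1329) (Dv.wd (nat_lit 142) [Mv.b (nat_lit 3515), Mv.f (nat_lit 3430), Mv.f (nat_lit 3560)])))
(Tr.lf (Fc.ed (nat_lit 3562) (nat_lit 1353) Col.g (nat_lit 1294) (Dv.wd (nat_lit 176) [Mv.b (nat_lit 3433), Mv.b (nat_lit 3429), Mv.f (nat_lit 3560)]))))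
(Tr.nd (nat_lit 3564) (Tr.lf (Fc.ed (nat_lit 3563) (nat_lit 1293) Col.i (nat_lit 1354) Dv.df))
(Tr.lf (Fc.ed (nat_lit 3564) (nat_lit 1354) Col.d (nat_lit 1294) (Dv.wd (nat_lit 142) [Mv.b (nat_lit 3433), Mv.f (nat_lit 3431), Mv.f (nat_lit 3563)])))))))
(Tr.nd (nat_lit 3572) (Tr.nd (nat_lit 3568) (Tr.nd (nat_lit 3566) (Tr.lf (Fc.ed (nat_lit 3565) (nat_lit 1354) Col.g (nat_lit 1329) (Dv.wd (nat_lit 176) [Mv.b (nat_lit 3515), Mv.b (nat_lit 3432), Mv.f (nat_lit 3563)])))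
(Tr.nd (nat_lit 3567) (Tr.lf (Fc.ed (nat_lit 3566) (nat_lit 1294) Col.h (nat_lit 1355) Dv.df))
(Tr.lf (Fc.ed (nat_lit 3567) (nat_lit 1355) Col.e (nat_lit 1295) (Dv.wd (nat_lit 103) [Mv.b (nat_lit 3435), Mv.b (nat_lit 3434), Mv.f (nat_lit 3566)])))))
(Tr.nd (nat_lit 3570) (Tr.nd (nat_lit 3569) (Tr.lf (Fc.ed (nat_lit 3568) (nat_lit 1296) Col.e (nat_lit 1356) Dv.df))
(Tr.lf (Fc.ed (nat_lit 3569) (nat_lit 1296) Col.h (nat_lit 1357) Dv.df)))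
(Tr.nd (nat_lit 3571) (Tr.lf (Fc.ed (nat_lit 3570) (nat_lit 1357) Col.f (nat_lit 1297) (Dv.wd (nat_lit 104) [Mv.b (nat_lit 3438), Mv.f (nat_lit 3437), Mv.f (nat_lit 3569)])))
(Tr.lf (Fc.ed (nat_lit 3571) (nat_lit 1297) Col.d (nat_lit 1358) Dv.df)))))
(Tr.nd (nat_lit 3576) (Tr.nd (nat_lit 3574) (Tr.nd (nat_lit 3573) (Tr.lf (Fc.ed (nat_lit 3572) (nat_lit 1358) Col.g (nat_lit 1298) (Dv.wd (nat_lit 82) [Mv.b (nat_lit 3440), Mv.b (nat_lit 3439), Mv.f (nat_lit 3571)])))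
(Tr.lf (Fc.ed (nat_lit 3573) (nat_lit 1298) Col.c (nat_lit 1359) Dv.df)))
(Tr.nd (nat_lit 3575) (Tr.lf (Fc.ed (nat_lit 3574) (nat_lit 1359) Col.h (nat_lit 1299) (Dv.wd (nat_lit 30) [Mv.b (nat_lit 3442), Mv.b (nat_lit 3441), Mv.f (nat_lit 3573)])))
(Tr.lf (Fc.ed (nat_lit 3575) (nat_lit 1299) Col.e (nat_lit 1360) Dv.df))))
(Tr.nd (nat_lit 3578) (Tr.nd (nat_lit 3577) (Tr.lf (Fc.ed (nat_lit 3576) (nat_lit 1360) Col.c (nat_lit 1300) (Dv.wd (nat_lit 86) [Mv.b (nat_lit 3445), Mv.f (nat_lit 3442), Mv.f (nat_lit 3575)])))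
(Tr.lf (Fc.ed (nat_lit 3577) (nat_lit 1299) Col.i (nat_lit 1361) Dv.df)))
(Tr.nd (nat_lit 3579) (Tr.lf (Fc.ed (nat_lit 3578) (nat_lit 1361) Col.a (nat_lit 1335) (Dv.wd (nat_lit 116) [Mv.b (nat_lit 3526), Mv.b (nat_lit 3443), Mv.f (nat_lit 3577)])))
(Tr.lf (Fc.ed (nat_lit 3579) (nat_lit 1361) Col.d (nat_lit 1310) (Dv.wd (nat_lit 142) [Mv.b (nat_lit 3469), Mv.b (nat_lit 3444), Mv.f (nat_lit 3577)])))))))))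
(Tr.nd (nat_lit 3609) (Tr.nd (nat_lit 3594) (Tr.nd (nat_lit 3587) (Tr.nd (nat_lit 3583) (Tr.nd (nat_lit 3581) (Tr.lf (Fc.ed (nat_lit 3580) (nat_lit 1300) Col.i (nat_lit 1362) Dv.df))
(Tr.nd (nat_lit 3582) (Tr.lf (Fc.ed (nat_lit 3581) (nat_lit 1362) Col.a (nat_lit 1336) (Dv.wd (nat_lit 116) [Mv.b (nat_lit 3528), Mv.b (nat_lit 3446), Mv.f (nat_lit 3580)])))
(Tr.lf (Fc.ed (nat_lit 3582) (nat_lit 1301) Col.i (nat_lit 1363) Dv.df))))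
(Tr.nd (nat_lit 3585) (Tr.nd (nat_lit 3584) (Tr.lf (Fc.ed (nat_lit 3583) (nat_lit 1363) Col.a (nat_lit 1340) (Dv.wd (nat_lit 116) [Mv.b (nat_lit 3533), Mv.b (nat_lit 3448), Mv.f (nat_lit 3582)])))
(Tr.lf (Fc.ed (nat_lit 3584) (nat_lit 1363) Col.e (nat_lit 1304) (Dv.wd (nat_lit 143) [Mv.b (nat_lit 3455), Mv.b (nat_lit 3449), Mv.f (nat_lit 3582)]))))
(Tr.nd (nat_lit 3586) (Tr.lf (Fc.ed (nat_lit 3585) (nat_lit 1302) Col.h (nat_lit 1364) Dv.df))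
(Tr.lf (Fc.ed (nat_lit 3586) (nat_lit 1364) Col.a (nat_lit 1341) (Dv.wd (nat_lit 124) [Mv.b (nat_lit 3536), Mv.b (nat_lit 3451), Mv.f (nat_lit 3585)]))))))
(Tr.nd (nat_lit 3590) (Tr.nd (nat_lit 3588) (Tr.lf (Fc.ed (nat_lit 3587) (nat_lit 1364) Col.e (nat_lit 1303) (Dv.wd (nat_lit 103) [Mv.b (nat_lit 3453), Mv.b (nat_lit 3452), Mv.f (nat_lit 3585)])))
(Tr.nd (nat_lit 3589) (Tr.lf (Fc.ed (nat_lit 3588) (nat_lit 1304) Col.h (nat_lit 1365) Dv.df))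
(Tr.lf (Fc.ed (nat_lit 3589) (nat_lit 1365) Col.f (nat_lit 1305) (Dv.wd (nat_lit 104) [Mv.b (nat_lit 3457), Mv.b (nat_lit 3456), Mv.f (nat_lit 3588)])))))
(Tr.nd (nat_lit 3592) (Tr.nd (nat_lit 3591) (Tr.lf (Fc.ed (nat_lit 3590) (nat_lit 1306) Col.i (nat_lit 1366) Dv.df))
(Tr.lf (Fc.ed (nat_lit 3591) (nat_lit 1366) Col.a (nat_lit 1342) (Dv.wd (nat_lit 116) [Mv.b (nat_lit 3537), Mv.b (nat_lit 3460), Mv.f (nat_lit 3590)]))))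
(Tr.nd (nat_lit 3593) (Tr.lf (Fc.ed (nat_lit 3592) (nat_lit 1366) Col.c (nat_lit 1307) (Dv.wd (nat_lit 145) [Mv.b (nat_lit 3462), Mv.f (nat_lit 3459), Mv.f (nat_lit 3590)])))
(Tr.lf (Fc.ed (nat_lit 3593) (nat_lit 1366) Col.f (nat_lit 1310) (Dv.wd (nat_lit 112) [Mv.b (nat_lit 3469), Mv.b (nat_lit 3461), Mv.f (nat_lit 3590)])))))))
(Tr.nd (nat_lit 3601) (Tr.nd (nat_lit 3597) (Tr.nd (nat_lit 3595) (Tr.lf (Fc.ed (nat_lit 3594) (nat_lit 1307) Col.h (nat_lit 1367) Dv.df))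
(Tr.nd (nat_lit 3596) (Tr.lf (Fc.ed (nat_lit 3595) (nat_lit 1367) Col.b (nat_lit 1312) (Dv.wd (nat_lit 151) [Mv.b (nat_lit 3474), Mv.b (nat_lit 3463), Mv.f (nat_lit 3594)])))
(Tr.lf (Fc.ed (nat_lit 3596) (nat_lit 1308) Col.i (nat_lit 1368) Dv.df))))
(Tr.nd (nat_lit 3599) (Tr.nd (nat_lit 3598) (Tr.lf (Fc.ed (nat_lit 3597) (nat_lit 1368) Col.e (nat_lit 1309) (Dv.wd (nat_lit 143) [Mv.b (nat_lit 3466), Mv.f (nat_lit 3464), Mv.f (nat_lit 3596)])))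
(Tr.lf (Fc.ed (nat_lit 3598) (nat_lit 1368) Col.h (nat_lit 1314) (Dv.wd (nat_lit 193) [Mv.b (nat_lit 3477), Mv.b (nat_lit 3377), Mv.f (nat_lit 3378), Mv.b (nat_lit 3465), Mv.f (nat_lit 3596)]))))
(Tr.nd (nat_lit 3600) (Tr.lf (Fc.ed (nat_lit 3599) (nat_lit 1309) Col.h (nat_lit 1369) Dv.df))
(Tr.lf (Fc.ed (nat_lit 3600) (nat_lit 1369) Col.e (nat_lit 1314) (Dv.wd (nat_lit 103) [Mv.b (nat_lit 3598), Mv.f (nat_lit 3597), Mv.f (nat_lit 3599)]))))))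
(Tr.nd (nat_lit 3605) (Tr.nd (nat_lit 3603) (Tr.nd (nat_lit 3602) (Tr.lf (Fc.ed (nat_lit 3601) (nat_lit 1369) Col.f (nat_lit 1369) (Dv.wd (nat_lit 104) [Mv.b (nat_lit 3599), Mv.f (nat_lit 3468), Mv.f (nat_lit 3599)])))
(Tr.lf (Fc.ed (nat_lit 3602) (nat_lit 1310) Col.h (nat_lit 1370) Dv.df)))
(Tr.nd (nat_lit 3604) (Tr.lf (Fc.ed (nat_lit 3603) (nat_lit 1370) Col.a (nat_lit 1347) (Dv.wd (nat_lit 124) [Mv.b (nat_lit 3547), Mv.b (nat_lit 3470), Mv.f (nat_lit 3602)])))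
(Tr.lf (Fc.ed (nat_lit 3604) (nat_lit 1311) Col.h (nat_lit 1371) Dv.df))))
(Tr.nd (nat_lit 3607) (Tr.nd (nat_lit 3606) (Tr.lf (Fc.ed (nat_lit 3605) (nat_lit 1371) Col.e (nat_lit 1312) (Dv.wd (nat_lit 103) [Mv.b (nat_lit 3474), Mv.b (nat_lit 3473), Mv.f (nat_lit 3604)])))
(Tr.lf (Fc.ed (nat_lit 3606) (nat_lit 1315) Col.f (nat_lit 1372) Dv.df)))
(Tr.nd (nat_lit 3608) (Tr.lf (Fc.ed (nat_lit 3607) (nat_lit 1372) Col.b (nat_lit 1365) (Dv.wd (nat_lit 114) [Mv.f (nat_lit 3589), Mv.b (nat_lit 3479), Mv.f (nat_lit 3606)])))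
(Tr.lf (Fc.ed (nat_lit 3608) (nat_lit 1372) Col.c (nat_lit 1317) (Dv.wd (nat_lit 91) [Mv.b (nat_lit 3484), Mv.b (nat_lit 3480), Mv.f (nat_lit 3606)]))))))))
(Tr.nd (nat_lit 3624) (Tr.nd (nat_lit 3616) (Tr.nd (nat_lit 3612) (Tr.nd (nat_lit 3610) (Tr.lf (Fc.ed (nat_lit 3609) (nat_lit 1316) Col.e (nat_lit 1373) Dv.df))
(Tr.nd (nat_lit 3611) (Tr.lf (Fc.ed (nat_lit 3610) (nat_lit 1373) Col.b (nat_lit 1364) (Dv.wd (nat_lit 153) [Mv.f (nat_lit 3587), Mv.b (nat_lit 3482), Mv.f (nat_lit 3609)])))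
(Tr.lf (Fc.ed (nat_lit 3611) (nat_lit 1373) Col.c (nat_lit 1318) (Dv.wd (nat_lit 86) [Mv.b (nat_lit 3486), Mv.b (nat_lit 3483), Mv.f (nat_lit 3609)])))))
(Tr.nd (nat_lit 3614) (Tr.nd (nat_lit 3613) (Tr.lf (Fc.ed (nat_lit 3612) (nat_lit 1317) Col.e (nat_lit 1374) Dv.df))
(Tr.lf (Fc.ed (nat_lit 3613) (nat_lit 1374) Col.f (nat_lit 1318) (Dv.wd (nat_lit 109) [Mv.b (nat_lit 3486), Mv.b (nat_lit 3337), Mv.f (nat_lit 3335), Mv.f (nat_lit 3484), Mv.f (nat_lit 3612)]))))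
(Tr.nd (nat_lit 3615) (Tr.lf (Fc.ed (nat_lit 3614) (nat_lit 1318) Col.d (nat_lit 1375) Dv.df))
(Tr.lf (Fc.ed (nat_lit 3615) (nat_lit 1375) Col.a (nat_lit 1375) (Dv.wd (nat_lit 182) [Mv.b (nat_lit 3614), Mv.f (nat_lit 3487), Mv.f (nat_lit 3614)]))))))
(Tr.nd (nat_lit 3620) (Tr.nd (nat_lit 3618) (Tr.nd (nat_lit 3617) (Tr.lf (Fc.ed (nat_lit 3616) (nat_lit 1375) Col.b (nat_lit 1375) (Dv.wd (nat_lit 183) [Mv.b (nat_lit 3614), Mv.f (nat_lit 3488), Mv.f (nat_lit 3614)])))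
(Tr.lf (Fc.ed (nat_lit 3617) (nat_lit 1375) Col.h (nat_lit 1375) (Dv.wd (nat_lit 105) [Mv.b (nat_lit 3614), Mv.f (nat_lit 3510), Mv.f (nat_lit 3508), Mv.b (nat_lit 3510), Mv.f (nat_lit 3614)]))))
(Tr.nd (nat_lit 3619) (Tr.lf (Fc.ed (nat_lit 3618) (nat_lit 1319) Col.i (nat_lit 1376) Dv.df))
(Tr.lf (Fc.ed (nat_lit 3619) (nat_lit 1376) Col.b (nat_lit 1320) (Dv.wd (nat_lit 144) [Mv.b (nat_lit 3491), Mv.f (nat_lit 3489), Mv.f (nat_lit 3618)])))))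
(Tr.nd (nat_lit 3622) (Tr.nd (nat_lit 3621) (Tr.lf (Fc.ed (nat_lit 3620) (nat_lit 1376) Col.c (nat_lit 1324) (Dv.wd (nat_lit 145) [Mv.b (nat_lit 3499), Mv.b (nat_lit 3490), Mv.f (nat_lit 3618)])))
(Tr.lf (Fc.ed (nat_lit 3621) (nat_lit 1320) Col.h (nat_lit 1377) Dv.df)))
(Tr.nd (nat_lit 3623) (Tr.lf (Fc.ed (nat_lit 3622) (nat_lit 1377) Col.f (nat_lit 1321) (Dv.wd (nat_lit 104) [Mv.b (nat_lit 3494), Mv.b (nat_lit 3493), Mv.f (nat_lit 3621)])))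
(Tr.lf (Fc.ed (nat_lit 3623) (nat_lit 1322) Col.h (nat_lit 1378) Dv.df))))))
(Tr.nd (nat_lit 3631) (Tr.nd (nat_lit 3627) (Tr.nd (nat_lit 3625) (Tr.lf (Fc.ed (nat_lit 3624) (nat_lit 1378) Col.c (nat_lit 1323) (Dv.wd (nat_lit 102) [Mv.b (nat_lit 3498), Mv.b (nat_lit 3496), Mv.f (nat_lit 3623)])))
(Tr.nd (nat_lit 3626) (Tr.lf (Fc.ed (nat_lit 3625) (nat_lit 1378) Col.d (nat_lit 1371) (Dv.wd (nat_lit 141) [Mv.b (nat_lit 3604), Mv.f (nat_lit 3472), Mv.b (nat_lit 3476), Mv.b (nat_lit 3497), Mv.f (nat_lit 3623)])))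
(Tr.lf (Fc.ed (nat_lit 3626) (nat_lit 1330) Col.i (nat_lit 1379) Dv.df))))
(Tr.nd (nat_lit 3629) (Tr.nd (nat_lit 3628) (Tr.lf (Fc.ed (nat_lit 3627) (nat_lit 1379) Col.g (nat_lit 1331) (Dv.wd (nat_lit 176) [Mv.b (nat_lit 3518), Mv.b (nat_lit 3517), Mv.f (nat_lit 3626)])))
(Tr.lf (Fc.ed (nat_lit 3628) (nat_lit 1332) Col.h (nat_lit 1380) Dv.df)))
(Tr.nd (nat_lit 3630) (Tr.lf (Fc.ed (nat_lit 3629) (nat_lit 1380) Col.i (nat_lit 1337) (Dv.wd (nat_lit 177) [Mv.b (nat_lit 3530), Mv.b (nat_lit 3393), Mv.b (nat_lit 3384), Mv.f (nat_lit 3520), Mv.f (nat_lit 3628)])))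
(Tr.lf (Fc.ed (nat_lit 3630) (nat_lit 1333) Col.c (nat_lit 1381) Dv.df)))))
(Tr.nd (nat_lit 3635) (Tr.nd (nat_lit 3633) (Tr.nd (nat_lit 3632) (Tr.lf (Fc.ed (nat_lit 3631) (nat_lit 1381) Col.d (nat_lit 1344) (Dv.wd (nat_lit 106) [Mv.b (nat_lit 3541), Mv.b (nat_lit 3405), Mv.b (nat_lit 3387), Mv.f (nat_lit 3522), Mv.f (nat_lit 3630)])))
(Tr.lf (Fc.ed (nat_lit 3632) (nat_lit 1333) Col.e (nat_lit 1382) Dv.df)))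
(Tr.nd (nat_lit 3634) (Tr.lf (Fc.ed (nat_lit 3633) (nat_lit 1334) Col.f (nat_lit 1383) Dv.df))
(Tr.lf (Fc.ed (nat_lit 3634) (nat_lit 1383) Col.d (nat_lit 1338) (Dv.wd (nat_lit 92) [Mv.b (nat_lit 3531), Mv.b (nat_lit 3525), Mv.f (nat_lit 3633)])))))
(Tr.nd (nat_lit 3637) (Tr.nd (nat_lit 3636) (Tr.lf (Fc.ed (nat_lit 3635) (nat_lit 1335) Col.h (nat_lit 1384) Dv.df))
(Tr.lf (Fc.ed (nat_lit 3636) (nat_lit 1384) Col.c (nat_lit 1337) (Dv.wd (nat_lit 102) [Mv.b (nat_lit 3530), Mv.b (nat_lit 3527), Mv.f (nat_lit 3635)]))))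
(Tr.nd (nat_lit 3638) (Tr.lf (Fc.ed (nat_lit 3637) (nat_lit 1338) Col.g (nat_lit 1385) Dv.df))
(Tr.lf (Fc.ed (nat_lit 3638) (nat_lit 1385) Col.f (nat_lit 1339) (Dv.wd (nat_lit 99) [Mv.b (nat_lit 3532), Mv.b (nat_lit 3396), Mv.b (nat_lit 3395), Mv.f (nat_lit 3531), Mv.f (nat_lit 3637)]))))))))))
(Tr.nd (nat_lit 3698) (Tr.nd (nat_lit 3668) (Tr.nd (nat_lit 3653) (Tr.nd (nat_lit 3646) (Tr.nd (nat_lit 3642) (Tr.nd (nat_lit 3640) (Tr.lf (Fc.ed (nat_lit 3639) (nat_lit 1340) Col.h (nat_lit 1386) Dv.df))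
(Tr.nd (nat_lit 3641) (Tr.lf (Fc.ed (nat_lit 3640) (nat_lit 1386) Col.l (nat_lit 1386) (Dv.wd (nat_lit 100) [Mv.b (nat_lit 3639), Mv.f (nat_lit 3534), Mv.f (nat_lit 3639)])))
(Tr.lf (Fc.ed (nat_lit 3641) (nat_lit 1386) Col.f (nat_lit 1341) (Dv.wd (nat_lit 104) [Mv.b (nat_lit 3536), Mv.b (nat_lit 3535), Mv.f (nat_lit 3639)])))))
(Tr.nd (nat_lit 3644) (Tr.nd (nat_lit 3643) (Tr.lf (Fc.ed (nat_lit 3642) (nat_lit 1341) Col.d (nat_lit 1387) Dv.df))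
(Tr.lf (Fc.ed (nat_lit 3643) (nat_lit 1342) Col.h (nat_lit 1388) Dv.df)))
(Tr.nd (nat_lit 3645) (Tr.lf (Fc.ed (nat_lit 3644) (nat_lit 1388) Col.c (nat_lit 1343) (Dv.wd (nat_lit 102) [Mv.b (nat_lit 3539), Mv.b (nat_lit 3538), Mv.f (nat_lit 3643)])))
(Tr.lf (Fc.ed (nat_lit 3645) (nat_lit 1344) Col.e (nat_lit 1389) Dv.df)))))
(Tr.nd (nat_lit 3649) (Tr.nd (nat_lit 3647) (Tr.lf (Fc.ed (nat_lit 3646) (nat_lit 1389) Col.c (nat_lit 1345) (Dv.wd (nat_lit 86) [Mv.b (nat_lit 3542), Mv.f (nat_lit 3541), Mv.f (nat_lit 3645)])))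
(Tr.nd (nat_lit 3648) (Tr.lf (Fc.ed (nat_lit 3647) (nat_lit 1346) Col.h (nat_lit 1390) Dv.df))
(Tr.lf (Fc.ed (nat_lit 3648) (nat_lit 1390) Col.b (nat_lit 1347) (Dv.wd (nat_lit 151) [Mv.b (nat_lit 3547), Mv.b (nat_lit 3545), Mv.f (nat_lit 3647)])))))
(Tr.nd (nat_lit 3651) (Tr.nd (nat_lit 3650) (Tr.lf (Fc.ed (nat_lit 3649) (nat_lit 1390) Col.c (nat_lit 1352) (Dv.wd (nat_lit 102) [Mv.b (nat_lit 3558), Mv.b (nat_lit 3546), Mv.f (nat_lit 3647)])))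
(Tr.lf (Fc.ed (nat_lit 3650) (nat_lit 1348) Col.h (nat_lit 1391) Dv.df)))
(Tr.nd (nat_lit 3652) (Tr.lf (Fc.ed (nat_lit 3651) (nat_lit 1391) Col.f (nat_lit 1352) (Dv.wd (nat_lit 104) [Mv.b (nat_lit 3558), Mv.b (nat_lit 3551), Mv.f (nat_lit 3650)])))
(Tr.lf (Fc.ed (nat_lit 3652) (nat_lit 1349) Col.i (nat_lit 1392) Dv.df))))))
(Tr.nd (nat_lit 3660) (Tr.nd (nat_lit 3656) (Tr.nd (nat_lit 3654) (Tr.lf (Fc.ed (nat_lit 3653) (nat_lit 1392) Col.a (nat_lit 1354) (Dv.wd (nat_lit 116) [Mv.b (nat_lit 3563), Mv.b (nat_lit 3553), Mv.f (nat_lit 3652)])))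
(Tr.nd (nat_lit 3655) (Tr.lf (Fc.ed (nat_lit 3654) (nat_lit 1392) Col.d (nat_lit 1350) (Dv.wd (nat_lit 142) [Mv.b (nat_lit 3554), Mv.f (nat_lit 3552), Mv.f (nat_lit 3652)])))
(Tr.lf (Fc.ed (nat_lit 3655) (nat_lit 1350) Col.h (nat_lit 1393) Dv.df))))
(Tr.nd (nat_lit 3658) (Tr.nd (nat_lit 3657) (Tr.lf (Fc.ed (nat_lit 3656) (nat_lit 1393) Col.e (nat_lit 1351) (Dv.wd (nat_lit 103) [Mv.b (nat_lit 3556), Mv.b (nat_lit 3555), Mv.f (nat_lit 3655)])))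
(Tr.lf (Fc.ed (nat_lit 3657) (nat_lit 1352) Col.d (nat_lit 1394) Dv.df)))
(Tr.nd (nat_lit 3659) (Tr.lf (Fc.ed (nat_lit 3658) (nat_lit 1353) Col.h (nat_lit 1395) Dv.df))
(Tr.lf (Fc.ed (nat_lit 3659) (nat_lit 1395) Col.g (nat_lit 1355) (Dv.wd (nat_lit 126) [Mv.b (nat_lit 3566), Mv.b (nat_lit 3562), Mv.f (nat_lit 3658)]))))))
(Tr.nd (nat_lit 3664) (Tr.nd (nat_lit 3662) (Tr.nd (nat_lit 3661) (Tr.lf (Fc.ed (nat_lit 3660) (nat_lit 1356) Col.h (nat_lit 1396) Dv.df))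
(Tr.lf (Fc.ed (nat_lit 3661) (nat_lit 1396) Col.e (nat_lit 1357) (Dv.wd (nat_lit 103) [Mv.b (nat_lit 3569), Mv.f (nat_lit 3568), Mv.f (nat_lit 3660)]))))
(Tr.nd (nat_lit 3663) (Tr.lf (Fc.ed (nat_lit 3662) (nat_lit 1389) Col.d (nat_lit 1396) (Dv.wd (nat_lit 217) [Mv.f (nat_lit 3661), Mv.f (nat_lit 3570), Mv.b (nat_lit 3438), Mv.f (nat_lit 3302), Mv.f (nat_lit 3246), Mv.f (nat_lit 3247), Mv.f (nat_lit 3248), Mv.f (nat_lit 2960), Mv.f (nat_lit 2670), Mv.f (nat_lit 2963), Mv.b (nat_lit 3020), Mv.b (nat_lit 3160), Mv.f (nat_lit 3161), Mv.b (nat_lit 2822), Mv.f (nat_lit 3154), Mv.f (nat_lit 2821), Mv.b (nat_lit 2820), Mv.f (nat_lit 2504), Mv.f (nat_lit 2505), Mv.f (nat_lit 2193), Mv.f (nat_lit 2194), Mv.b (nat_lit 1962), Mv.b (nat_lit 2269), Mv.b (nat_lit 2471), Mv.f (nat_lit 2470), Mv.f (nat_lit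 2166), Mv.f (nat_lit 2167), Mv.f (nat_lit 1868), Mv.f (nat_lit 1869), Mv.b (nat_lit 1867), Mv.f (nat_lit 1592), Mv.b (nat_lit 1673), Mv.f (nat_lit 1674), Mv.b (nat_lit 1961), Mv.f (nat_lit 3109), Mv.f (nat_lit 1962), Mv.f (nat_lit 1893), Mv.f (nat_lit 1891), Mv.f (nat_lit 1856), Mv.f (nat_lit 1587), Mv.f (nat_lit 1588), Mv.f (nat_lit 1340), Mv.f (nat_lit 1323), Mv.f (nat_lit 1325), Mv.f (nat_lit 1324), Mv.b (nat_lit 1562), Mv.f (nat_lit 1563), Mv.b (nat_lit 1833), Mv.b (nat_lit 2121), Mv.b (nat_lit 2429), Mv.f (nat_lit 2751), Mv.f (nat_lit 3047), Mv.f (nat_lit 3048), Mv.f (nat_lit 2758), Mv.f (nat_lit 2711), Mv.f (nat_lit 3004), Mv.f (nat_lit 3294), Mv.f (nat_lit 3297), Mv.f (nat_lit 3296), Mv.f (nat_lit 3295), Mv.b (nat_lit 3424), Mv.b (nat_lit 3543), Mv.b (nat_lit 3646)])))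
(Tr.lf (Fc.ed (nat_lit 3663) (nat_lit 1357) Col.d (nat_lit 1397) Dv.df))))
(Tr.nd (nat_lit 3666) (Tr.nd (nat_lit 3665) (Tr.lf (Fc.ed (nat_lit 3664) (nat_lit 1397) Col.f (nat_lit 1358) (Dv.wd (nat_lit 37) [Mv.b (nat_lit 3571), Mv.b (nat_lit 3570), Mv.f (nat_lit 3663)])))
(Tr.lf (Fc.ed (nat_lit 3665) (nat_lit 1397) Col.e (nat_lit 1381) (Dv.wd (nat_lit 108) [Mv.f (nat_lit 3631), Mv.f (nat_lit 3645), Mv.f (nat_lit 3662), Mv.f (nat_lit 3661), Mv.f (nat_lit 3663)]))))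
(Tr.nd (nat_lit 3667) (Tr.lf (Fc.ed (nat_lit 3666) (nat_lit 1382) Col.c (nat_lit 1397) (Dv.wd (nat_lit 48) [Mv.f (nat_lit 3665), Mv.b (nat_lit 3630), Mv.f (nat_lit 3632)])))
(Tr.lf (Fc.ed (nat_lit 3667) (nat_lit 1358) Col.c (nat_lit 1398) Dv.df)))))))
(Tr.nd (nat_lit 3683) (Tr.nd (nat_lit 3675) (Tr.nd (nat_lit 3671) (Tr.nd (nat_lit 3669) (Tr.lf (Fc.ed (nat_lit 3668) (nat_lit 1398) Col.f (nat_lit 1382) (Dv.wd (nat_lit 36) [Mv.f (nat_lit 3666), Mv.f (nat_lit 3664), Mv.f (nat_lit 3667)])))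
(Tr.nd (nat_lit 3670) (Tr.lf (Fc.ed (nat_lit 3669) (nat_lit 1398) Col.g (nat_lit 1359) (Dv.wd (nat_lit 79) [Mv.b (nat_lit 3573), Mv.b (nat_lit 3572), Mv.f (nat_lit 3667)])))
(Tr.lf (Fc.ed (nat_lit 3670) (nat_lit 1383) Col.e (nat_lit 1398) (Dv.wd (nat_lit 172) [Mv.f (nat_lit 3668), Mv.b (nat_lit 3632), Mv.f (nat_lit 3523), Mv.f (nat_lit 3524), Mv.f (nat_lit 3633)])))))
(Tr.nd (nat_lit 3673) (Tr.nd (nat_lit 3672) (Tr.lf (Fc.ed (nat_lit 3671) (nat_lit 1359) Col.e (nat_lit 1399) Dv.df))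
(Tr.lf (Fc.ed (nat_lit 3672) (nat_lit 1399) Col.g (nat_lit 1383) (Dv.wd (nat_lit 87) [Mv.f (nat_lit 3670), Mv.f (nat_lit 3669), Mv.f (nat_lit 3671)]))))
(Tr.nd (nat_lit 3674) (Tr.lf (Fc.ed (nat_lit 3673) (nat_lit 1399) Col.h (nat_lit 1360) (Dv.wd (nat_lit 107) [Mv.b (nat_lit 3575), Mv.b (nat_lit 3574), Mv.f (nat_lit 3671)])))
(Tr.lf (Fc.ed (nat_lit 3674) (nat_lit 1385) Col.d (nat_lit 1399) (Dv.wd (nat_lit 139) [Mv.f (nat_lit 3672), Mv.f (nat_lit 3634), Mv.f (nat_lit 3637)]))))))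
(Tr.nd (nat_lit 3679) (Tr.nd (nat_lit 3677) (Tr.nd (nat_lit 3676) (Tr.lf (Fc.ed (nat_lit 3675) (nat_lit 1360) Col.i (nat_lit 1400) Dv.df))
(Tr.lf (Fc.ed (nat_lit 3676) (nat_lit 1400) Col.c (nat_lit 1362) (Dv.wd (nat_lit 145) [Mv.b (nat_lit 3580), Mv.b (nat_lit 3576), Mv.f (nat_lit 3675)]))))
(Tr.nd (nat_lit 3678) (Tr.lf (Fc.ed (nat_lit 3677) (nat_lit 1361) Col.h (nat_lit 1401) Dv.df))
(Tr.lf (Fc.ed (nat_lit 3678) (nat_lit 1401) Col.a (nat_lit 1384) (Dv.wd (nat_lit 124) [Mv.b (nat_lit 3635), Mv.b (nat_lit 3578), Mv.f (nat_lit 3677)])))))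
(Tr.nd (nat_lit 3681) (Tr.nd (nat_lit 3680) (Tr.lf (Fc.ed (nat_lit 3679) (nat_lit 1363) Col.h (nat_lit 1402) Dv.df))
(Tr.lf (Fc.ed (nat_lit 3680) (nat_lit 1402) Col.a (nat_lit 1386) (Dv.wd (nat_lit 124) [Mv.b (nat_lit 3639), Mv.b (nat_lit 3583), Mv.f (nat_lit 3679)]))))
(Tr.nd (nat_lit 3682) (Tr.lf (Fc.ed (nat_lit 3681) (nat_lit 1402) Col.e (nat_lit 1365) (Dv.wd (nat_lit 103) [Mv.b (nat_lit 3588), Mv.b (nat_lit 3584), Mv.f (nat_lit 3679)])))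
(Tr.lf (Fc.ed (nat_lit 3682) (nat_lit 1364) Col.d (nat_lit 1403) Dv.df))))))
(Tr.nd (nat_lit 3690) (Tr.nd (nat_lit 3686) (Tr.nd (nat_lit 3684) (Tr.lf (Fc.ed (nat_lit 3683) (nat_lit 1403) Col.a (nat_lit 1387) (Dv.wd (nat_lit 182) [Mv.b (nat_lit 3642), Mv.b (nat_lit 3586), Mv.f (nat_lit 3682)])))
(Tr.nd (nat_lit 3685) (Tr.lf (Fc.ed (nat_lit 3684) (nat_lit 1366) Col.h (nat_lit 1404) Dv.df))
(Tr.lf (Fc.ed (nat_lit 3685) (nat_lit 1404) Col.a (nat_lit 1388) (Dv.wd (nat_lit 124) [Mv.b (nat_lit 3643), Mv.b (nat_lit 3591), Mv.f (nat_lit 3684)])))))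
(Tr.nd (nat_lit 3688) (Tr.nd (nat_lit 3687) (Tr.lf (Fc.ed (nat_lit 3686) (nat_lit 1404) Col.c (nat_lit 1367) (Dv.wd (nat_lit 102) [Mv.b (nat_lit 3594), Mv.b (nat_lit 3592), Mv.f (nat_lit 3684)])))
(Tr.lf (Fc.ed (nat_lit 3687) (nat_lit 1404) Col.f (nat_lit 1370) (Dv.wd (nat_lit 104) [Mv.b (nat_lit 3602), Mv.b (nat_lit 3593), Mv.f (nat_lit 3684)]))))
(Tr.nd (nat_lit 3689) (Tr.lf (Fc.ed (nat_lit 3688) (nat_lit 1370) Col.d (nat_lit 1405) Dv.df))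
(Tr.lf (Fc.ed (nat_lit 3689) (nat_lit 1372) Col.e (nat_lit 1406) Dv.df)))))
(Tr.nd (nat_lit 3694) (Tr.nd (nat_lit 3692) (Tr.nd (nat_lit 3691) (Tr.lf (Fc.ed (nat_lit 3690) (nat_lit 1406) Col.b (nat_lit 1402) (Dv.wd (nat_lit 153) [Mv.f (nat_lit 3681), Mv.b (nat_lit 3607), Mv.f (nat_lit 3689)])))
(Tr.lf (Fc.ed (nat_lit 3691) (nat_lit 1406) Col.c (nat_lit 1374) (Dv.wd (nat_lit 86) [Mv.b (nat_lit 3612), Mv.b (nat_lit 3608), Mv.f (nat_lit 3689)]))))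
(Tr.nd (nat_lit 3693) (Tr.lf (Fc.ed (nat_lit 3692) (nat_lit 1373) Col.d (nat_lit 1407) Dv.df))
(Tr.lf (Fc.ed (nat_lit 3693) (nat_lit 1407) Col.b (nat_lit 1403) (Dv.wd (nat_lit 183) [Mv.b (nat_lit 3682), Mv.b (nat_lit 3610), Mv.f (nat_lit 3692)])))))
(Tr.nd (nat_lit 3696) (Tr.nd (nat_lit 3695) (Tr.lf (Fc.ed (nat_lit 3694) (nat_lit 1374) Col.d (nat_lit 1408) Dv.df))
(Tr.lf (Fc.ed (nat_lit 3695) (nat_lit 1408) Col.f (nat_lit 1375) (Dv.wd (nat_lit 37) [Mv.b (nat_lit 3614), Mv.b (nat_lit 3613), Mv.f (nat_lit 3694)]))))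
(Tr.nd (nat_lit 3697) (Tr.lf (Fc.ed (nat_lit 3696) (nat_lit 1408) Col.e (nat_lit 1408) (Dv.wd (nat_lit 108) [Mv.b (nat_lit 3694), Mv.b (nat_lit 3612), Mv.f (nat_lit 3485), Mv.f (nat_lit 3612), Mv.f (nat_lit 3694)])))
(Tr.lf (Fc.ed (nat_lit 3697) (nat_lit 1375) Col.c (nat_lit 1394) (Dv.wd (nat_lit 218) [Mv.b (nat_lit 3657), Mv.f (nat_lit 3559), Mv.b (nat_lit 3651), Mv.b (nat_lit 3650), Mv.f (nat_lit 3549), Mv.f (nat_lit 3550), Mv.f (nat_lit 3416), Mv.f (nat_lit 3273), Mv.f (nat_lit 2983), Mv.f (nat_lit 2693), Mv.f (nat_lit 2383), Mv.f (nat_lit 2382), Mv.b (nat_lit 2127), Mv.b (nat_lit 2162), Mv.b (nat_lit 2482), Mv.b (nat_lit 2525), Mv.f (nat_lit 3064), Mv.f (nat_lit 2837), Mv.b (nat_lit 3185), Mv.b (nat_lit 3363), Mv.b (nat_lit 3512), Mv.f (nat_lit 3514), Mv.f (nat_lit 3513), Mv.b (nat_lit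 3622), Mv.b (nat_lit 3621), Mv.f (nat_lit 3492), Mv.b (nat_lit 3619), Mv.f (nat_lit 3620), Mv.f (nat_lit 3500), Mv.b (nat_lit 3600), Mv.f (nat_lit 3601), Mv.b (nat_lit 3599), Mv.f (nat_lit 3467), Mv.f (nat_lit 3404), Mv.b (nat_lit 3420), Mv.f (nat_lit 3421), Mv.f (nat_lit 3422), Mv.f (nat_lit 3367), Mv.b (nat_lit 3293), Mv.f (nat_lit 3292), Mv.f (nat_lit 3003), Mv.f (nat_lit 2708), Mv.f (nat_lit 2398), Mv.f (nat_lit 2094), Mv.b (nat_lit 2105), Mv.f (nat_lit 2106), Mv.b (nat_lit 2389), Mv.b (nat_lit 2683), Mv.b (nat_lit 2968), Mv.b (nat_lit 3260), Mv.b (nat_lit 3399), Mv.b (nat_lit 3535), Mv.f (nat_lit 3639), Mv.f (nat_lit 3640), Mv.b (nat_lit 3680), Mv.b (nat_lit 3690), Mv.f (nat_lit 3691), Mv.f (nat_lit 3694), Mv.f (nat_lit 3696), Mv.f (nat_lit 3695), Mv.f (nat_lit 3617), Mv.f (nat_lit 3615),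 Mv.f (nat_lit 3616)])))))))))
(Tr.nd (nat_lit 3727) (Tr.nd (nat_lit 3712) (Tr.nd (nat_lit 3705) (Tr.nd (nat_lit 3701) (Tr.nd (nat_lit 3699) (Tr.lf (Fc.al (nat_lit 3698) (nat_lit 1390) (nat_lit 1407) (Dv.wd (nat_lit 50) [Mv.b (nat_lit 3692), Mv.f (nat_lit 3611), Mv.f (nat_lit 3614), Mv.f (nat_lit 3697), Mv.b (nat_lit 3657), Mv.b (nat_lit 3649)])))
(Tr.nd (nat_lit 3700) (Tr.lf (Fc.al (nat_lit 3699) (nat_lit 1347) (nat_lit 1403) (Dv.wd (nat_lit 162) [Mv.b (nat_lit 3693), Mv.b (nat_lit 3698), Mv.f (nat_lit 3648)])))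
(Tr.lf (Fc.al (nat_lit 3700) (nat_lit 1370) (nat_lit 1387) (Dv.wd (nat_lit 180) [Mv.b (nat_lit 3683), Mv.b (nat_lit 3699), Mv.b (nat_lit 3603)])))))
(Tr.nd (nat_lit 3703) (Tr.nd (nat_lit 3702) (Tr.lf (Fc.al (nat_lit 3701) (nat_lit 1405) (nat_lit 1341) (Dv.wd (nat_lit 160) [Mv.f (nat_lit 3642), Mv.b (nat_lit 3700), Mv.f (nat_lit 3688)])))
(Tr.lf (Fc.ed (nat_lit 3702) (nat_lit 1341) Col.d (nat_lit 1370) (Dv.wd (nat_lit 160) [Mv.f (nat_lit 3688), Mv.f (nat_lit 3701)]))))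
(Tr.nd (nat_lit 3704) (Tr.lf (Fc.ed (nat_lit 3703) (nat_lit 1404) Col.d (nat_lit 1386) (Dv.wd (nat_lit 131) [Mv.f (nat_lit 3641), Mv.f (nat_lit 3702), Mv.b (nat_lit 3687)])))
(Tr.lf (Fc.al (nat_lit 3704) (nat_lit 1401) (nat_lit 1336) (Dv.wd (nat_lit 179) [Mv.f (nat_lit 3529), Mv.f (nat_lit 3536), Mv.f (nat_lit 3702), Mv.b (nat_lit 3602), Mv.b (nat_lit 3579), Mv.f (nat_lit 3677)]))))))
(Tr.nd (nat_lit 3708) (Tr.nd (nat_lit 3706) (Tr.lf (Fc.al (nat_lit 3705) (nat_lit 1362) (nat_lit 1384) (Dv.wd (nat_lit 180) [Mv.b (nat_lit 3678), Mv.f (nat_lit 3704), Mv.b (nat_lit 3581)])))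
(Tr.nd (nat_lit 3707) (Tr.lf (Fc.al (nat_lit 3706) (nat_lit 1400) (nat_lit 1337) (Dv.wd (nat_lit 161) [Mv.b (nat_lit 3636), Mv.b (nat_lit 3705), Mv.b (nat_lit 3676)])))
(Tr.lf (Fc.al (nat_lit 3707) (nat_lit 1380) (nat_lit 1360) (Dv.wd (nat_lit 163) [Mv.f (nat_lit 3675), Mv.f (nat_lit 3706), Mv.b (nat_lit 3629)])))))
(Tr.nd (nat_lit 3710) (Tr.nd (nat_lit 3709) (Tr.lf (Fc.al (nat_lit 3708) (nat_lit 1399) (nat_lit 1332) (Dv.wd (nat_lit 159) [Mv.f (nat_lit 3628), Mv.f (nat_lit 3707), Mv.b (nat_lit 3673)])))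
(Tr.lf (Fc.al (nat_lit 3709) (nat_lit 1270) (nat_lit 1385) (Dv.wd (nat_lit 160) [Mv.f (nat_lit 3674), Mv.f (nat_lit 3708), Mv.f (nat_lit 3521)]))))
(Tr.nd (nat_lit 3711) (Tr.lf (Fc.al (nat_lit 3710) (nat_lit 1331) (nat_lit 1339) (Dv.wd (nat_lit 169) [Mv.b (nat_lit 3638), Mv.b (nat_lit 3709), Mv.b (nat_lit 3519)])))
(Tr.lf (Fc.al (nat_lit 3711) (nat_lit 1379) (nat_lit 1277) (Dv.wd (nat_lit 164) [Mv.f (nat_lit 3532), Mv.b (nat_lit 3710), Mv.b (nat_lit 3627)])))))))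
(Tr.nd (nat_lit 3719) (Tr.nd (nat_lit 3715) (Tr.nd (nat_lit 3713) (Tr.lf (Fc.al (nat_lit 3712) (nat_lit 1340) (nat_lit 1330) (Dv.wd (nat_lit 163) [Mv.f (nat_lit 3626), Mv.f (nat_lit 3711), Mv.f (nat_lit 3533)])))
(Tr.nd (nat_lit 3714) (Tr.lf (Fc.al (nat_lit 3713) (nat_lit 1267) (nat_lit 1386) (Dv.wd (nat_lit 159) [Mv.b (nat_lit 3639), Mv.f (nat_lit 3712), Mv.b (nat_lit 3516)])))
(Tr.lf (Fc.al (nat_lit 3714) (nat_lit 1204) (nat_lit 1404) (Dv.wd (nat_lit 160) [Mv.f (nat_lit 3703), Mv.b (nat_lit 3713), Mv.f (nat_lit 3380)])))))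
(Tr.nd (nat_lit 3717) (Tr.nd (nat_lit 3716) (Tr.lf (Fc.al (nat_lit 3715) (nat_lit 1230) (nat_lit 1388) (Dv.wd (nat_lit 180) [Mv.b (nat_lit 3685), Mv.b (nat_lit 3714), Mv.b (nat_lit 3299)])))
(Tr.lf (Fc.al (nat_lit 3716) (nat_lit 1130) (nat_lit 1367) (Dv.wd (nat_lit 161) [Mv.b (nat_lit 3686), Mv.b (nat_lit 3714), Mv.f (nat_lit 3244)]))))
(Tr.nd (nat_lit 3718) (Tr.lf (Fc.al (nat_lit 3717) (nat_lit 1157) (nat_lit 1343) (Dv.wd (nat_lit 161) [Mv.b (nat_lit 3644), Mv.b (nat_lit 3715), Mv.f (nat_lit 3300)])))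
(Tr.lf (Fc.al (nat_lit 3718) (nat_lit 1004) (nat_lit 1312) (Dv.wd (nat_lit 162) [Mv.b (nat_lit 3595), Mv.b (nat_lit 3716), Mv.f (nat_lit 2970)]))))))
(Tr.nd (nat_lit 3723) (Tr.nd (nat_lit 3721) (Tr.nd (nat_lit 3720) (Tr.lf (Fc.al (nat_lit 3719) (nat_lit 1029) (nat_lit 1288) (Dv.wd (nat_lit 162) [Mv.b (nat_lit 3540), Mv.b (nat_lit 3717), Mv.f (nat_lit 3027)])))
(Tr.lf (Fc.al (nat_lit 3720) (nat_lit 862) (nat_lit 1371) (Dv.wd (nat_lit 158) [Mv.f (nat_lit 3605), Mv.b (nat_lit 3718), Mv.f (nat_lit 2685)]))))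
(Tr.nd (nat_lit 3722) (Tr.lf (Fc.al (nat_lit 3721) (nat_lit 889) (nat_lit 1227) (Dv.wd (nat_lit 180) [Mv.b (nat_lit 3418), Mv.b (nat_lit 3719), Mv.f (nat_lit 2743)])))
(Tr.lf (Fc.al (nat_lit 3722) (nat_lit 1045) (nat_lit 1351) (Dv.wd (nat_lit 161) [Mv.f (nat_lit 3557), Mv.b (nat_lit 3719), Mv.b (nat_lit 2777)])))))
(Tr.nd (nat_lit 3725) (Tr.nd (nat_lit 3724) (Tr.lf (Fc.al (nat_lit 3723) (nat_lit 855) (nat_lit 1378) (Dv.wd (nat_lit 160) [Mv.f (nat_lit 3625), Mv.b (nat_lit 3720), Mv.f (nat_lit 2378)])))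
(Tr.lf (Fc.al (nat_lit 3724) (nat_lit 908) (nat_lit 1295) (Dv.wd (nat_lit 161) [Mv.f (nat_lit 3436), Mv.b (nat_lit 3721), Mv.b (nat_lit 2473)]))))
(Tr.nd (nat_lit 3726) (Tr.lf (Fc.al (nat_lit 3725) (nat_lit 901) (nat_lit 1393) (Dv.wd (nat_lit 158) [Mv.f (nat_lit 3656), Mv.b (nat_lit 3722), Mv.f (nat_lit 2778)])))
(Tr.lf (Fc.al (nat_lit 3726) (nat_lit 853) (nat_lit 1323) (Dv.wd (nat_lit 161) [Mv.b (nat_lit 3624), Mv.b (nat_lit 3723), Mv.f (nat_lit 2359)]))))))))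
(Tr.nd (nat_lit 3742) (Tr.nd (nat_lit 3734) (Tr.nd (nat_lit 3730) (Tr.nd (nat_lit 3728) (Tr.lf (Fc.al (nat_lit 3727) (nat_lit 760) (nat_lit 1355) (Dv.wd (nat_lit 158) [Mv.f (nat_lit 3567), Mv.b (nat_lit 3724), Mv.f (nat_lit 2474)])))
(Tr.nd (nat_lit 3729) (Tr.lf (Fc.al (nat_lit 3728) (nat_lit 1046) (nat_lit 1350) (Dv.wd (nat_lit 159) [Mv.f (nat_lit 3655), Mv.b (nat_lit 3725), Mv.f (nat_lit 2779)])))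
(Tr.lf (Fc.al (nat_lit 3729) (nat_lit 848) (nat_lit 1253) (Dv.wd (nat_lit 159) [Mv.f (nat_lit 3498), Mv.b (nat_lit 3726), Mv.f (nat_lit 2355)])))))
(Tr.nd (nat_lit 3732) (Tr.nd (nat_lit 3731) (Tr.lf (Fc.al (nat_lit 3730) (nat_lit 623) (nat_lit 1395) (Dv.wd (nat_lit 164) [Mv.f (nat_lit 3659), Mv.b (nat_lit 3727), Mv.b (nat_lit 2156)])))
(Tr.lf (Fc.al (nat_lit 3731) (nat_lit 910) (nat_lit 1294) (Dv.wd (nat_lit 159) [Mv.f (nat_lit 3566), Mv.b (nat_lit 3727), Mv.f (nat_lit 2478)]))))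
(Tr.nd (nat_lit 3733) (Tr.lf (Fc.al (nat_lit 3732) (nat_lit 1175) (nat_lit 1392) (Dv.wd (nat_lit 160) [Mv.f (nat_lit 3654), Mv.b (nat_lit 3728), Mv.f (nat_lit 3169)])))
(Tr.lf (Fc.al (nat_lit 3733) (nat_lit 840) (nat_lit 1175) (Dv.wd (nat_lit 163) [Mv.f (nat_lit 3346), Mv.b (nat_lit 3729), Mv.f (nat_lit 2341)]))))))
(Tr.nd (nat_lit 3738) (Tr.nd (nat_lit 3736) (Tr.nd (nat_lit 3735) (Tr.lf (Fc.al (nat_lit 3734) (nat_lit 761) (nat_lit 1353) (Dv.wd (nat_lit 159) [Mv.f (nat_lit 3658), Mv.b (nat_lit 3730), Mv.f (nat_lit 2157)])))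
(Tr.lf (Fc.al (nat_lit 3735) (nat_lit 1051) (nat_lit 1354) (Dv.wd (nat_lit 160) [Mv.f (nat_lit 3564), Mv.b (nat_lit 3731), Mv.f (nat_lit 2789)]))))
(Tr.nd (nat_lit 3737) (Tr.lf (Fc.al (nat_lit 3736) (nat_lit 706) (nat_lit 1051) (Dv.wd (nat_lit 180) [Mv.f (nat_lit 3735), Mv.b (nat_lit 3653), Mv.b (nat_lit 3732), Mv.b (nat_lit 3733), Mv.f (nat_lit 2326)])))
(Tr.lf (Fc.al (nat_lit 3737) (nat_lit 911) (nat_lit 1329) (Dv.wd (nat_lit 160) [Mv.b (nat_lit 3561), Mv.b (nat_lit 3734), Mv.f (nat_lit 2479)])))))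
(Tr.nd (nat_lit 3740) (Tr.nd (nat_lit 3739) (Tr.lf (Fc.al (nat_lit 3738) (nat_lit 587) (nat_lit 911) (Dv.wd (nat_lit 164) [Mv.f (nat_lit 3737), Mv.b (nat_lit 3565), Mv.b (nat_lit 3735), Mv.b (nat_lit 3736), Mv.b (nat_lit 2040)])))
(Tr.lf (Fc.al (nat_lit 3739) (nat_lit 583) (nat_lit 761) (Dv.wd (nat_lit 160) [Mv.f (nat_lit 2479), Mv.b (nat_lit 3738), Mv.f (nat_lit 1770)]))))
(Tr.nd (nat_lit 3741) (Tr.lf (Fc.al (nat_lit 3740) (nat_lit 578) (nat_lit 909) (Dv.wd (nat_lit 158) [Mv.f (nat_lit 2476), Mv.b (nat_lit 3739), Mv.f (nat_lit 1763)])))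
(Tr.lf (Fc.al (nat_lit 3741) (nat_lit 477) (nat_lit 764) (Dv.wd (nat_lit 169) [Mv.b (nat_lit 2477), Mv.b (nat_lit 3740), Mv.b (nat_lit 1752)])))))))
(Tr.nd (nat_lit 3749) (Tr.nd (nat_lit 3745) (Tr.nd (nat_lit 3743) (Tr.lf (Fc.al (nat_lit 3742) (nat_lit 394) (nat_lit 626) (Dv.wd (nat_lit 158) [Mv.b (nat_lit 2164), Mv.b (nat_lit 3741), Mv.b (nat_lit 1500)])))
(Tr.nd (nat_lit 3744) (Tr.lf (Fc.al (nat_lit 3743) (nat_lit 266) (nat_lit 643) (Dv.wd (nat_lit 160) [Mv.f (nat_lit 1903), Mv.b (nat_lit 3742), Mv.b (nat_lit 1271)])))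
(Tr.lf (Fc.al (nat_lit 3744) (nat_lit 392) (nat_lit 783) (Dv.wd (nat_lit 164) [Mv.f (nat_lit 2206), Mv.b (nat_lit 3743), Mv.b (nat_lit 1269)])))))
(Tr.nd (nat_lit 3747) (Tr.nd (nat_lit 3746) (Tr.lf (Fc.al (nat_lit 3745) (nat_lit 264) (nat_lit 642) (Dv.wd (nat_lit 159) [Mv.f (nat_lit 2205), Mv.b (nat_lit 3744), Mv.b (nat_lit 1268)])))
(Tr.lf (Fc.al (nat_lit 3746) (nat_lit 257) (nat_lit 526) (Dv.wd (nat_lit 160) [Mv.b (nat_lit 1900), Mv.b (nat_lit 3745), Mv.f (nat_lit 893)]))))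
(Tr.nd (nat_lit 3748) (Tr.lf (Fc.al (nat_lit 3747) (nat_lit 376) (nat_lit 424) (Dv.wd (nat_lit 161) [Mv.b (nat_lit 1616), Mv.b (nat_lit 3746), Mv.b (nat_lit 1180)])))
(Tr.lf (Fc.al (nat_lit 3748) (nat_lit 462) (nat_lit 303) (Dv.wd (nat_lit 162) [Mv.b (nat_lit 1353), Mv.b (nat_lit 3747), Mv.b (nat_lit 1466)]))))))
(Tr.nd (nat_lit 3753) (Tr.nd (nat_lit 3751) (Tr.nd (nat_lit 3750) (Tr.lf (Fc.al (nat_lit 3749) (nat_lit 317) (nat_lit 375) (Dv.wd (nat_lit 158) [Mv.b (nat_lit 1467), Mv.f (nat_lit 3748), Mv.b (nat_lit 1033)])))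
(Tr.lf (Fc.al (nat_lit 3750) (nat_lit 325) (nat_lit 372) (Dv.wd (nat_lit 160) [Mv.b (nat_lit 1178), Mv.b (nat_lit 3749), Mv.b (nat_lit 1049)]))))
(Tr.nd (nat_lit 3752) (Tr.lf (Fc.al (nat_lit 3751) (nat_lit 339) (nat_lit 371) (Dv.wd (nat_lit 169) [Mv.b (nat_lit 1167), Mv.b (nat_lit 3750), Mv.b (nat_lit 1084)])))
(Tr.lf (Fc.al (nat_lit 3752) (nat_lit 342) (nat_lit 370) (Dv.wd (nat_lit 158) [Mv.b (nat_lit 1165), Mv.b (nat_lit 3751), Mv.b (nat_lit 1092)])))))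
(Tr.nd (nat_lit 3755) (Tr.nd (nat_lit 3754) (Tr.lf (Fc.al (nat_lit 3753) (nat_lit 206) (nat_lit 240) (Dv.wd (nat_lit 163) [Mv.f (nat_lit 1163), Mv.b (nat_lit 3752), Mv.b (nat_lit 1091)])))
(Tr.lf (Fc.al (nat_lit 3754) (nat_lit 62) (nat_lit 99) (Dv.wd (nat_lit 159) [Mv.f (nat_lit 828), Mv.b (nat_lit 3753), Mv.b (nat_lit 683)]))))
(Tr.nd (nat_lit 3756) (Tr.lf (Fc.al (nat_lit 3755) (nat_lit 63) (nat_lit 98) (Dv.wd (nat_lit 160) [Mv.b (nat_lit 381), Mv.b (nat_lit 3754), Mv.f (nat_lit 271)])))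
(Tr.lf (Fc.ed (nat_lit 3756) (nat_lit 63) Col.b (nat_lit 32) (Dv.wd (nat_lit 162) [Mv.f (nat_lit 379), Mv.b (nat_lit 3755)])))))))))))))))
noncomputable def mini1A : Tr (Alt Col) := (Tr.nd (nat_lit 109) (Tr.nd (nat_lit 54) (Tr.nd (nat_lit 27) (Tr.nd (nat_lit 13) (Tr.nd (nat_lit 6) (Tr.nd (nat_lit 3) (Tr.nd (nat_lit 1) (Tr.lf (Alt.base (nat_lit 0) [] [Col.a]))
(Tr.nd (nat_lit 2) (Tr.lf (Alt.base (nat_lit 1) [] [Col.b]))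
(Tr.lf (Alt.base (nat_lit 2) [] [Col.c]))))
(Tr.nd (nat_lit 4) (Tr.lf (Alt.base (nat_lit 3) [] [Col.d]))
(Tr.nd (nat_lit 5) (Tr.lf (Alt.base (nat_lit 4) [] [Col.e]))
(Tr.lf (Alt.base (nat_lit 5) [] [Col.f])))))
(Tr.nd (nat_lit 9) (Tr.nd (nat_lit 7) (Tr.lf (Alt.base (nat_lit 6) [] [Col.g]))
(Tr.nd (nat_lit 8) (Tr.lf (Alt.base (nat_lit 7) [] [Col.h]))
(Tr.lf (Alt.base (nat_lit 11) [Col.k, Col.a, Col.b, Col.c, Col.d, Col.e, Col.h, Col.d, Col.c, Col.b, Col.a, Col.i, Col.h, Col.d, Col.c, Col.e, Col.d, Col.h, Col.i, Col.b, Col.c, Col.d, Col.h, Col.e, Col.d, Col.c, Col.b, Col.a] [Col.l, Col.k]))))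
(Tr.nd (nat_lit 11) (Tr.nd (nat_lit 10) (Tr.lf (Alt.word (nat_lit 2) (nat_lit 3) true [Col.l, Col.a, Col.l, Col.a]))
(Tr.lf (Alt.word (nat_lit 3) (nat_lit 3) true [Col.l, Col.b, Col.l, Col.b])))
(Tr.nd (nat_lit 12) (Tr.lf (Alt.word (nat_lit 4) (nat_lit 3) true [Col.l, Col.c, Col.l, Col.c]))
(Tr.lf (Alt.word (nat_lit 5) (nat_lit 3) true [Col.l, Col.d, Col.l, Col.d]))))))
(Tr.nd (nat_lit 20) (Tr.nd (nat_lit 16) (Tr.nd (nat_lit 14) (Tr.lf (Alt.word (nat_lit 6) (nat_lit 3) true [Col.l, Col.e, Col.l, Col.e]))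
(Tr.nd (nat_lit 15) (Tr.lf (Alt.word (nat_lit 10) (nat_lit 3) true [Col.l, Col.h, Col.l, Col.h]))
(Tr.lf (Alt.word (nat_lit 13) (nat_lit 1) true [Col.k, Col.a, Col.k, Col.a, Col.k, Col.a]))))
(Tr.nd (nat_lit 18) (Tr.nd (nat_lit 17) (Tr.lf (Alt.word (nat_lit 14) (nat_lit 3) true [Col.k, Col.b, Col.k, Col.b]))
(Tr.lf (Alt.word (nat_lit 15) (nat_lit 3) true [Col.k, Col.c, Col.k, Col.c])))
(Tr.nd (nat_lit 19) (Tr.lf (Alt.word (nat_lit 16) (nat_lit 3) true [Col.k, Col.d, Col.k, Col.d]))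
(Tr.lf (Alt.word (nat_lit 17) (nat_lit 3) true [Col.k, Col.e, Col.k, Col.e])))))
(Tr.nd (nat_lit 23) (Tr.nd (nat_lit 21) (Tr.lf (Alt.word (nat_lit 21) (nat_lit 3) true [Col.k, Col.h, Col.k, Col.h]))
(Tr.nd (nat_lit 22) (Tr.lf (Alt.word (nat_lit 14) (nat_lit 2) true [Col.b, Col.k, Col.b, Col.k]))
(Tr.lf (Alt.word (nat_lit 15) (nat_lit 2) true [Col.c, Col.k, Col.c, Col.k]))))
(Tr.nd (nat_lit 25) (Tr.nd (nat_lit 24) (Tr.lf (Alt.word (nat_lit 16) (nat_lit 2) true [Col.d, Col.k, Col.d, Col.k]))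
(Tr.lf (Alt.word (nat_lit 17) (nat_lit 2) true [Col.e, Col.k, Col.e, Col.k])))
(Tr.nd (nat_lit 26) (Tr.lf (Alt.word (nat_lit 18) (nat_lit 2) true [Col.f, Col.k, Col.f, Col.k]))
(Tr.lf (Alt.word (nat_lit 19) (nat_lit 2) true [Col.g, Col.k, Col.g, Col.k])))))))
(Tr.nd (nat_lit 40) (Tr.nd (nat_lit 33) (Tr.nd (nat_lit 30) (Tr.nd (nat_lit 28) (Tr.lf (Alt.word (nat_lit 21) (nat_lit 2) true [Col.h, Col.k, Col.h, Col.k]))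
(Tr.nd (nat_lit 29) (Tr.lf (Alt.word (nat_lit 31) (nat_lit 2) true [Col.h, Col.a, Col.h, Col.a]))
(Tr.lf (Alt.word (nat_lit 40) (nat_lit 2) true [Col.h, Col.b, Col.h, Col.b]))))
(Tr.nd (nat_lit 31) (Tr.lf (Alt.word (nat_lit 48) (nat_lit 2) true [Col.h, Col.c, Col.h, Col.c]))
(Tr.nd (nat_lit 32) (Tr.lf (Alt.word (nat_lit 29) (nat_lit 2) true [Col.g, Col.a, Col.g, Col.a]))
(Tr.lf (Alt.word (nat_lit 8) (nat_lit 2) true [Col.g, Col.l, Col.g, Col.l])))))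
(Tr.nd (nat_lit 36) (Tr.nd (nat_lit 34) (Tr.lf (Alt.word (nat_lit 28) (nat_lit 2) true [Col.f, Col.a, Col.f, Col.a]))
(Tr.nd (nat_lit 35) (Tr.lf (Alt.word (nat_lit 7) (nat_lit 2) true [Col.f, Col.l, Col.f, Col.l]))
(Tr.lf (Alt.word (nat_lit 37) (nat_lit 2) true [Col.f, Col.b, Col.f, Col.b]))))
(Tr.nd (nat_lit 38) (Tr.nd (nat_lit 37) (Tr.lf (Alt.word (nat_lit 45) (nat_lit 2) true [Col.f, Col.c, Col.f, Col.c]))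
(Tr.lf (Alt.word (nat_lit 52) (nat_lit 2) true [Col.f, Col.d, Col.f, Col.d])))
(Tr.nd (nat_lit 39) (Tr.lf (Alt.word (nat_lit 27) (nat_lit 2) true [Col.e, Col.a, Col.e, Col.a]))
(Tr.lf (Alt.word (nat_lit 6) (nat_lit 2) true [Col.e, Col.l, Col.e, Col.l]))))))
(Tr.nd (nat_lit 47) (Tr.nd (nat_lit 43) (Tr.nd (nat_lit 41) (Tr.lf (Alt.word (nat_lit 36) (nat_lit 2) true [Col.e, Col.b, Col.e, Col.b]))
(Tr.nd (nat_lit 42) (Tr.lf (Alt.word (nat_lit 44) (nat_lit 2) true [Col.e, Col.c, Col.e, Col.c]))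
(Tr.lf (Alt.word (nat_lit 51) (nat_lit 3) true [Col.d, Col.e, Col.d, Col.e, Col.d, Col.e]))))
(Tr.nd (nat_lit 45) (Tr.nd (nat_lit 44) (Tr.lf (Alt.word (nat_lit 55) (nat_lit 4) true [Col.h, Col.d, Col.h, Col.d, Col.h, Col.d]))
(Tr.lf (Alt.word (nat_lit 26) (nat_lit 2) true [Col.d, Col.a, Col.d, Col.a])))
(Tr.nd (nat_lit 46) (Tr.lf (Alt.word (nat_lit 5) (nat_lit 2) true [Col.d, Col.l, Col.d, Col.l]))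
(Tr.lf (Alt.word (nat_lit 35) (nat_lit 2) true [Col.d, Col.b, Col.d, Col.b])))))
(Tr.nd (nat_lit 50) (Tr.nd (nat_lit 48) (Tr.lf (Alt.word (nat_lit 43) (nat_lit 3) true [Col.c, Col.d, Col.c, Col.d, Col.c, Col.d]))
(Tr.nd (nat_lit 49) (Tr.lf (Alt.word (nat_lit 44) (nat_lit 3) true [Col.c, Col.e, Col.c, Col.e]))
(Tr.lf (Alt.word (nat_lit 48) (nat_lit 3) true [Col.c, Col.h, Col.c, Col.h]))))
(Tr.nd (nat_lit 52) (Tr.nd (nat_lit 51) (Tr.lf (Alt.word (nat_lit 43) (nat_lit 4) true [Col.d, Col.c, Col.d, Col.c, Col.d, Col.c]))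
(Tr.lf (Alt.word (nat_lit 56) (nat_lit 3) true [Col.d, Col.i, Col.d, Col.i])))
(Tr.nd (nat_lit 53) (Tr.lf (Alt.word (nat_lit 25) (nat_lit 2) true [Col.c, Col.a, Col.c, Col.a]))
(Tr.lf (Alt.word (nat_lit 34) (nat_lit 3) true [Col.b, Col.c, Col.b, Col.c, Col.b, Col.c]))))))))
(Tr.nd (nat_lit 81) (Tr.nd (nat_lit 67) (Tr.nd (nat_lit 60) (Tr.nd (nat_lit 57) (Tr.nd (nat_lit 55) (Tr.lf (Alt.word (nat_lit 35) (nat_lit 3) true [Col.b, Col.d, Col.b, Col.d]))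
(Tr.nd (nat_lit 56) (Tr.lf (Alt.word (nat_lit 36) (nat_lit 3) true [Col.b, Col.e, Col.b, Col.e]))
(Tr.lf (Alt.word (nat_lit 3) (nat_lit 2) true [Col.b, Col.l, Col.b, Col.l]))))
(Tr.nd (nat_lit 58) (Tr.lf (Alt.word (nat_lit 40) (nat_lit 3) true [Col.b, Col.h, Col.b, Col.h]))
(Tr.nd (nat_lit 59) (Tr.lf (Alt.word (nat_lit 34) (nat_lit 4) true [Col.c, Col.b, Col.c, Col.b, Col.c, Col.b]))
(Tr.lf (Alt.word (nat_lit 4) (nat_lit 2) true [Col.c, Col.l, Col.c, Col.l])))))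
(Tr.nd (nat_lit 63) (Tr.nd (nat_lit 61) (Tr.lf (Alt.word (nat_lit 49) (nat_lit 3) true [Col.c, Col.i, Col.c, Col.i]))
(Tr.nd (nat_lit 62) (Tr.lf (Alt.word (nat_lit 51) (nat_lit 4) true [Col.e, Col.d, Col.e, Col.d, Col.e, Col.d]))
(Tr.lf (Alt.word (nat_lit 61) (nat_lit 3) true [Col.e, Col.h, Col.e, Col.h]))))
(Tr.nd (nat_lit 65) (Tr.nd (nat_lit 64) (Tr.lf (Alt.word (nat_lit 62) (nat_lit 3) true [Col.e, Col.i, Col.e, Col.i]))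
(Tr.lf (Alt.word (nat_lit 24) (nat_lit 3) true [Col.a, Col.b, Col.a, Col.b, Col.a, Col.b])))
(Tr.nd (nat_lit 66) (Tr.lf (Alt.word (nat_lit 2) (nat_lit 2) true [Col.a, Col.l, Col.a, Col.l]))
(Tr.lf (Alt.word (nat_lit 25) (nat_lit 3) true [Col.a, Col.c, Col.a, Col.c]))))))
(Tr.nd (nat_lit 74) (Tr.nd (nat_lit 70) (Tr.nd (nat_lit 68) (Tr.lf (Alt.word (nat_lit 26) (nat_lit 3) true [Col.a, Col.d, Col.a, Col.d]))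
(Tr.nd (nat_lit 69) (Tr.lf (Alt.word (nat_lit 27) (nat_lit 3) true [Col.a, Col.e, Col.a, Col.e]))
(Tr.lf (Alt.word (nat_lit 31) (nat_lit 3) true [Col.a, Col.h, Col.a, Col.h]))))
(Tr.nd (nat_lit 72) (Tr.nd (nat_lit 71) (Tr.lf (Alt.word (nat_lit 24) (nat_lit 4) true [Col.b, Col.a, Col.b, Col.a, Col.b, Col.a]))
(Tr.lf (Alt.word (nat_lit 41) (nat_lit 3) true [Col.b, Col.i, Col.b, Col.i])))
(Tr.nd (nat_lit 73) (Tr.lf (Alt.word (nat_lit 1) (nat_lit 1) true [Col.l, Col.k, Col.l, Col.k, Col.l, Col.k]))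
(Tr.lf (Alt.word (nat_lit 3) (nat_lit 1) true [Col.l, Col.b, Col.l, Col.b])))))
(Tr.nd (nat_lit 77) (Tr.nd (nat_lit 75) (Tr.lf (Alt.word (nat_lit 14) (nat_lit 1) true [Col.k, Col.b, Col.k, Col.b]))
(Tr.nd (nat_lit 76) (Tr.lf (Alt.word (nat_lit 38) (nat_lit 2) true [Col.g, Col.b, Col.g, Col.b]))
(Tr.lf (Alt.word (nat_lit 2) (nat_lit 1) true [Col.l, Col.a, Col.l, Col.a]))))
(Tr.nd (nat_lit 79) (Tr.nd (nat_lit 78) (Tr.lf (Alt.word (nat_lit 4) (nat_lit 1) true [Col.l, Col.c, Col.l, Col.c]))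
(Tr.lf (Alt.word (nat_lit 15) (nat_lit 1) true [Col.k, Col.c, Col.k, Col.c])))
(Tr.nd (nat_lit 80) (Tr.lf (Alt.word (nat_lit 46) (nat_lit 2) true [Col.g, Col.c, Col.g, Col.c]))
(Tr.lf (Alt.word (nat_lit 5) (nat_lit 1) true [Col.l, Col.d, Col.l, Col.d])))))))
(Tr.nd (nat_lit 95) (Tr.nd (nat_lit 88) (Tr.nd (nat_lit 84) (Tr.nd (nat_lit 82) (Tr.lf (Alt.word (nat_lit 16) (nat_lit 1) true [Col.k, Col.d, Col.k, Col.d]))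
(Tr.nd (nat_lit 83) (Tr.lf (Alt.word (nat_lit 53) (nat_lit 2) true [Col.g, Col.d, Col.g, Col.d]))
(Tr.lf (Alt.word (nat_lit 43) (nat_lit 1) true [Col.c, Col.d, Col.c, Col.d, Col.c, Col.d]))))
(Tr.nd (nat_lit 86) (Tr.nd (nat_lit 85) (Tr.lf (Alt.word (nat_lit 6) (nat_lit 1) true [Col.l, Col.e, Col.l, Col.e]))
(Tr.lf (Alt.word (nat_lit 17) (nat_lit 1) true [Col.k, Col.e, Col.k, Col.e])))
(Tr.nd (nat_lit 87) (Tr.lf (Alt.word (nat_lit 44) (nat_lit 1) true [Col.c, Col.e, Col.c, Col.e]))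
(Tr.lf (Alt.word (nat_lit 59) (nat_lit 2) true [Col.g, Col.e, Col.g, Col.e])))))
(Tr.nd (nat_lit 91) (Tr.nd (nat_lit 89) (Tr.lf (Alt.word (nat_lit 51) (nat_lit 1) true [Col.d, Col.e, Col.d, Col.e, Col.d, Col.e]))
(Tr.nd (nat_lit 90) (Tr.lf (Alt.word (nat_lit 7) (nat_lit 1) true [Col.l, Col.f, Col.l, Col.f]))
(Tr.lf (Alt.word (nat_lit 18) (nat_lit 1) true [Col.k, Col.f, Col.k, Col.f]))))
(Tr.nd (nat_lit 93) (Tr.nd (nat_lit 92) (Tr.lf (Alt.word (nat_lit 45) (nat_lit 1) true [Col.c, Col.f, Col.c, Col.f]))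
(Tr.lf (Alt.word (nat_lit 52) (nat_lit 1) true [Col.d, Col.f, Col.d, Col.f])))
(Tr.nd (nat_lit 94) (Tr.lf (Alt.word (nat_lit 58) (nat_lit 1) true [Col.e, Col.f, Col.e, Col.f, Col.e, Col.f]))
(Tr.lf (Alt.word (nat_lit 8) (nat_lit 1) true [Col.l, Col.g, Col.l, Col.g]))))))
(Tr.nd (nat_lit 102) (Tr.nd (nat_lit 98) (Tr.nd (nat_lit 96) (Tr.lf (Alt.word (nat_lit 19) (nat_lit 1) true [Col.k, Col.g, Col.k, Col.g]))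
(Tr.nd (nat_lit 97) (Tr.lf (Alt.word (nat_lit 46) (nat_lit 1) true [Col.c, Col.g, Col.c, Col.g]))
(Tr.lf (Alt.word (nat_lit 53) (nat_lit 1) true [Col.d, Col.g, Col.d, Col.g]))))
(Tr.nd (nat_lit 100) (Tr.nd (nat_lit 99) (Tr.lf (Alt.word (nat_lit 59) (nat_lit 1) true [Col.e, Col.g, Col.e, Col.g]))
(Tr.lf (Alt.word (nat_lit 64) (nat_lit 1) true [Col.f, Col.g, Col.f, Col.g, Col.f, Col.g])))
(Tr.nd (nat_lit 101) (Tr.lf (Alt.word (nat_lit 10) (nat_lit 1) true [Col.l, Col.h, Col.l, Col.h]))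
(Tr.lf (Alt.word (nat_lit 21) (nat_lit 1) true [Col.k, Col.h, Col.k, Col.h])))))
(Tr.nd (nat_lit 105) (Tr.nd (nat_lit 103) (Tr.lf (Alt.word (nat_lit 48) (nat_lit 1) true [Col.c, Col.h, Col.c, Col.h]))
(Tr.nd (nat_lit 104) (Tr.lf (Alt.word (nat_lit 61) (nat_lit 1) true [Col.e, Col.h, Col.e, Col.h]))
(Tr.lf (Alt.word (nat_lit 66) (nat_lit 1) true [Col.f, Col.h, Col.f, Col.h]))))
(Tr.nd (nat_lit 107) (Tr.nd (nat_lit 106) (Tr.lf (Alt.word (nat_lit 55) (nat_lit 2) true [Col.h, Col.d, Col.h, Col.d, Col.h, Col.d]))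
(Tr.lf (Alt.word (nat_lit 43) (nat_lit 2) true [Col.d, Col.c, Col.d, Col.c, Col.d, Col.c])))
(Tr.nd (nat_lit 108) (Tr.lf (Alt.word (nat_lit 61) (nat_lit 2) true [Col.h, Col.e, Col.h, Col.e]))
(Tr.lf (Alt.word (nat_lit 51) (nat_lit 2) true [Col.e, Col.d, Col.e, Col.d, Col.e, Col.d])))))))))
(Tr.nd (nat_lit 164) (Tr.nd (nat_lit 136) (Tr.nd (nat_lit 122) (Tr.nd (nat_lit 115) (Tr.nd (nat_lit 112) (Tr.nd (nat_lit 110) (Tr.lf (Alt.word (nat_lit 58) (nat_lit 2) true [Col.f, Col.e, Col.f, Col.e, Col.f, Col.e]))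
(Tr.nd (nat_lit 111) (Tr.lf (Alt.word (nat_lit 11) (nat_lit 1) true [Col.l, Col.i, Col.l, Col.i]))
(Tr.lf (Alt.word (nat_lit 22) (nat_lit 1) true [Col.k, Col.i, Col.k, Col.i]))))
(Tr.nd (nat_lit 113) (Tr.lf (Alt.word (nat_lit 67) (nat_lit 1) true [Col.f, Col.i, Col.f, Col.i]))
(Tr.nd (nat_lit 114) (Tr.lf (Alt.word (nat_lit 28) (nat_lit 1) true [Col.a, Col.f, Col.a, Col.f]))
(Tr.lf (Alt.word (nat_lit 37) (nat_lit 1) true [Col.b, Col.f, Col.b, Col.f])))))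
(Tr.nd (nat_lit 118) (Tr.nd (nat_lit 116) (Tr.lf (Alt.word (nat_lit 66) (nat_lit 2) true [Col.h, Col.f, Col.h, Col.f]))
(Tr.nd (nat_lit 117) (Tr.lf (Alt.word (nat_lit 32) (nat_lit 1) true [Col.a, Col.i, Col.a, Col.i]))
(Tr.lf (Alt.word (nat_lit 10) (nat_lit 2) true [Col.h, Col.l, Col.h, Col.l]))))
(Tr.nd (nat_lit 120) (Tr.nd (nat_lit 119) (Tr.lf (Alt.word (nat_lit 11) (nat_lit 2) true [Col.i, Col.l, Col.i, Col.l]))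
(Tr.lf (Alt.word (nat_lit 22) (nat_lit 2) true [Col.i, Col.k, Col.i, Col.k])))
(Tr.nd (nat_lit 121) (Tr.lf (Alt.word (nat_lit 13) (nat_lit 2) true [Col.a, Col.k, Col.a, Col.k, Col.a, Col.k]))
(Tr.lf (Alt.word (nat_lit 1) (nat_lit 3) true [Col.l, Col.k, Col.l, Col.k, Col.l, Col.k]))))))
(Tr.nd (nat_lit 129) (Tr.nd (nat_lit 125) (Tr.nd (nat_lit 123) (Tr.lf (Alt.word (nat_lit 1) (nat_lit 4) true [Col.k, Col.l, Col.k, Col.l, Col.k, Col.l]))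
(Tr.nd (nat_lit 124) (Tr.lf (Alt.word (nat_lit 22) (nat_lit 3) true [Col.k, Col.i, Col.k, Col.i]))
(Tr.lf (Alt.word (nat_lit 31) (nat_lit 1) true [Col.a, Col.h, Col.a, Col.h]))))
(Tr.nd (nat_lit 127) (Tr.nd (nat_lit 126) (Tr.lf (Alt.word (nat_lit 37) (nat_lit 3) true [Col.b, Col.f, Col.b, Col.f]))
(Tr.lf (Alt.word (nat_lit 70) (nat_lit 1) true [Col.g, Col.h, Col.g, Col.h])))
(Tr.nd (nat_lit 128) (Tr.lf (Alt.word (nat_lit 38) (nat_lit 3) true [Col.b, Col.g, Col.b, Col.g]))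
(Tr.lf (Alt.word (nat_lit 24) (nat_lit 1) true [Col.a, Col.b, Col.a, Col.b, Col.a, Col.b])))))
(Tr.nd (nat_lit 132) (Tr.nd (nat_lit 130) (Tr.lf (Alt.word (nat_lit 45) (nat_lit 3) true [Col.c, Col.f, Col.c, Col.f]))
(Tr.nd (nat_lit 131) (Tr.lf (Alt.word (nat_lit 55) (nat_lit 3) true [Col.d, Col.h, Col.d, Col.h, Col.d, Col.h]))
(Tr.lf (Alt.word (nat_lit 52) (nat_lit 3) true [Col.d, Col.f, Col.d, Col.f]))))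
(Tr.nd (nat_lit 134) (Tr.nd (nat_lit 133) (Tr.lf (Alt.word (nat_lit 59) (nat_lit 3) true [Col.e, Col.g, Col.e, Col.g]))
(Tr.lf (Alt.word (nat_lit 58) (nat_lit 4) true [Col.f, Col.e, Col.f, Col.e, Col.f, Col.e])))
(Tr.nd (nat_lit 135) (Tr.lf (Alt.word (nat_lit 76) (nat_lit 4) true [Col.i, Col.h, Col.i, Col.h, Col.i, Col.h]))
(Tr.lf (Alt.word (nat_lit 56) (nat_lit 2) true [Col.i, Col.d, Col.i, Col.d])))))))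
(Tr.nd (nat_lit 150) (Tr.nd (nat_lit 143) (Tr.nd (nat_lit 139) (Tr.nd (nat_lit 137) (Tr.lf (Alt.word (nat_lit 62) (nat_lit 2) true [Col.i, Col.e, Col.i, Col.e]))
(Tr.nd (nat_lit 138) (Tr.lf (Alt.word (nat_lit 49) (nat_lit 2) true [Col.i, Col.c, Col.i, Col.c]))
(Tr.lf (Alt.word (nat_lit 76) (nat_lit 3) true [Col.h, Col.i, Col.h, Col.i, Col.h, Col.i]))))
(Tr.nd (nat_lit 141) (Tr.nd (nat_lit 140) (Tr.lf (Alt.word (nat_lit 53) (nat_lit 3) true [Col.d, Col.g, Col.d, Col.g]))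
(Tr.lf (Alt.word (nat_lit 70) (nat_lit 2) true [Col.h, Col.g, Col.h, Col.g])))
(Tr.nd (nat_lit 142) (Tr.lf (Alt.word (nat_lit 55) (nat_lit 1) true [Col.d, Col.h, Col.d, Col.h, Col.d, Col.h]))
(Tr.lf (Alt.word (nat_lit 56) (nat_lit 1) true [Col.d, Col.i, Col.d, Col.i])))))
(Tr.nd (nat_lit 146) (Tr.nd (nat_lit 144) (Tr.lf (Alt.word (nat_lit 62) (nat_lit 1) true [Col.e, Col.i, Col.e, Col.i]))
(Tr.nd (nat_lit 145) (Tr.lf (Alt.word (nat_lit 41) (nat_lit 1) true [Col.b, Col.i, Col.b, Col.i]))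
(Tr.lf (Alt.word (nat_lit 49) (nat_lit 1) true [Col.c, Col.i, Col.c, Col.i]))))
(Tr.nd (nat_lit 148) (Tr.nd (nat_lit 147) (Tr.lf (Alt.word (nat_lit 38) (nat_lit 1) true [Col.b, Col.g, Col.b, Col.g]))
(Tr.lf (Alt.word (nat_lit 32) (nat_lit 2) true [Col.i, Col.a, Col.i, Col.a])))
(Tr.nd (nat_lit 149) (Tr.lf (Alt.word (nat_lit 71) (nat_lit 2) true [Col.i, Col.g, Col.i, Col.g]))
(Tr.lf (Alt.word (nat_lit 41) (nat_lit 2) true [Col.i, Col.b, Col.i, Col.b]))))))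
(Tr.nd (nat_lit 157) (Tr.nd (nat_lit 153) (Tr.nd (nat_lit 151) (Tr.lf (Alt.word (nat_lit 67) (nat_lit 2) true [Col.i, Col.f, Col.i, Col.f]))
(Tr.nd (nat_lit 152) (Tr.lf (Alt.word (nat_lit 40) (nat_lit 1) true [Col.b, Col.h, Col.b, Col.h]))
(Tr.lf (Alt.word (nat_lit 27) (nat_lit 1) true [Col.a, Col.e, Col.a, Col.e]))))
(Tr.nd (nat_lit 155) (Tr.nd (nat_lit 154) (Tr.lf (Alt.word (nat_lit 36) (nat_lit 1) true [Col.b, Col.e, Col.b, Col.e]))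
(Tr.lf (Alt.word (nat_lit 34) (nat_lit 2) true [Col.c, Col.b, Col.c, Col.b, Col.c, Col.b])))
(Tr.nd (nat_lit 156) (Tr.lf (Alt.word (nat_lit 24) (nat_lit 2) true [Col.b, Col.a, Col.b, Col.a, Col.b, Col.a]))
(Tr.lf (Alt.word (nat_lit 52) (nat_lit 0) true [Col.f, Col.d, Col.f, Col.d])))))
(Tr.nd (nat_lit 160) (Tr.nd (nat_lit 158) (Tr.lf (Alt.word (nat_lit 64) (nat_lit 4) true [Col.g, Col.f, Col.g, Col.f, Col.g, Col.f]))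
(Tr.nd (nat_lit 159) (Tr.lf (Alt.word (nat_lit 57) (nat_lit 0) true [Col.e, Col.e]))
(Tr.lf (Alt.word (nat_lit 75) (nat_lit 0) true [Col.h, Col.h]))))
(Tr.nd (nat_lit 162) (Tr.nd (nat_lit 161) (Tr.lf (Alt.word (nat_lit 50) (nat_lit 0) true [Col.d, Col.d]))
(Tr.lf (Alt.word (nat_lit 42) (nat_lit 0) true [Col.c, Col.c])))
(Tr.nd (nat_lit 163) (Tr.lf (Alt.word (nat_lit 33) (nat_lit 0) true [Col.b, Col.b]))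
(Tr.lf (Alt.word (nat_lit 77) (nat_lit 0) true [Col.i, Col.i]))))))))
(Tr.nd (nat_lit 191) (Tr.nd (nat_lit 177) (Tr.nd (nat_lit 170) (Tr.nd (nat_lit 167) (Tr.nd (nat_lit 165) (Tr.lf (Alt.word (nat_lit 68) (nat_lit 0) true [Col.g, Col.g]))
(Tr.nd (nat_lit 166) (Tr.lf (Alt.word (nat_lit 64) (nat_lit 3) true [Col.f, Col.g, Col.f, Col.g, Col.f, Col.g]))
(Tr.lf (Alt.word (nat_lit 71) (nat_lit 3) true [Col.g, Col.i, Col.g, Col.i]))))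
(Tr.nd (nat_lit 168) (Tr.lf (Alt.word (nat_lit 70) (nat_lit 3) true [Col.g, Col.h, Col.g, Col.h]))
(Tr.nd (nat_lit 169) (Tr.lf (Alt.word (nat_lit 38) (nat_lit 0) true [Col.g, Col.b, Col.g, Col.b]))
(Tr.lf (Alt.word (nat_lit 63) (nat_lit 0) true [Col.f, Col.f])))))
(Tr.nd (nat_lit 173) (Tr.nd (nat_lit 171) (Tr.lf (Alt.word (nat_lit 34) (nat_lit 5) true [Col.b, Col.c, Col.b, Col.c, Col.b, Col.c]))
(Tr.nd (nat_lit 172) (Tr.lf (Alt.word (nat_lit 51) (nat_lit 5) true [Col.d, Col.e, Col.d, Col.e, Col.d, Col.e]))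
(Tr.lf (Alt.word (nat_lit 58) (nat_lit 5) true [Col.e, Col.f, Col.e, Col.f, Col.e, Col.f]))))
(Tr.nd (nat_lit 175) (Tr.nd (nat_lit 174) (Tr.lf (Alt.word (nat_lit 66) (nat_lit 3) true [Col.f, Col.h, Col.f, Col.h]))
(Tr.lf (Alt.word (nat_lit 29) (nat_lit 1) true [Col.a, Col.g, Col.a, Col.g])))
(Tr.nd (nat_lit 176) (Tr.lf (Alt.word (nat_lit 59) (nat_lit 0) true [Col.g, Col.e, Col.g, Col.e]))
(Tr.lf (Alt.word (nat_lit 71) (nat_lit 1) true [Col.g, Col.i, Col.g, Col.i]))))))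
(Tr.nd (nat_lit 184) (Tr.nd (nat_lit 180) (Tr.nd (nat_lit 178) (Tr.lf (Alt.word (nat_lit 76) (nat_lit 2) true [Col.i, Col.h, Col.i, Col.h, Col.i, Col.h]))
(Tr.nd (nat_lit 179) (Tr.lf (Alt.word (nat_lit 34) (nat_lit 1) true [Col.b, Col.c, Col.b, Col.c, Col.b, Col.c]))
(Tr.lf (Alt.word (nat_lit 55) (nat_lit 5) true [Col.d, Col.h, Col.d, Col.h, Col.d, Col.h]))))
(Tr.nd (nat_lit 182) (Tr.nd (nat_lit 181) (Tr.lf (Alt.word (nat_lit 23) (nat_lit 0) true [Col.a, Col.a]))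
(Tr.lf (Alt.word (nat_lit 25) (nat_lit 1) true [Col.a, Col.c, Col.a, Col.c])))
(Tr.nd (nat_lit 183) (Tr.lf (Alt.word (nat_lit 26) (nat_lit 1) true [Col.a, Col.d, Col.a, Col.d]))
(Tr.lf (Alt.word (nat_lit 35) (nat_lit 1) true [Col.b, Col.d, Col.b, Col.d])))))
(Tr.nd (nat_lit 187) (Tr.nd (nat_lit 185) (Tr.lf (Alt.word (nat_lit 67) (nat_lit 3) true [Col.f, Col.i, Col.f, Col.i]))
(Tr.nd (nat_lit 186) (Tr.lf (Alt.word (nat_lit 78) (nat_lit 51) true [Col.c, Col.d, Col.e, Col.f, Col.h, Col.a, Col.b, Col.c, Col.d, Col.e, Col.f, Col.h, Col.l, Col.a, Col.b, Col.c, Col.d, Col.e, Col.f, Col.h, Col.a, Col.b, Col.c, Col.d, Col.e, Col.f, Col.h, Col.a, Col.b, Col.c, Col.d, Col.e, Col.f, Col.h, Col.a, Col.b, Col.c, Col.d, Col.e, Col.f, Col.h, Col.a, Col.b, Col.c, Col.d, Col.e, Col.f, Col.h, Col.a, Col.b, Col.c,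 Col.d, Col.e, Col.f, Col.h, Col.a, Col.b, Col.c, Col.d, Col.e, Col.f, Col.h, Col.a, Col.b]))
(Tr.lf (Alt.word (nat_lit 28) (nat_lit 3) true [Col.a, Col.f, Col.a, Col.f]))))
(Tr.nd (nat_lit 189) (Tr.nd (nat_lit 188) (Tr.lf (Alt.word (nat_lit 29) (nat_lit 3) true [Col.a, Col.g, Col.a, Col.g]))
(Tr.lf (Alt.word (nat_lit 78) (nat_lit 5) false [Col.c, Col.b, Col.a, Col.h, Col.f, Col.e, Col.d, Col.c, Col.b, Col.a, Col.h, Col.f, Col.e, Col.d, Col.c, Col.b, Col.a, Col.h, Col.f, Col.e, Col.d, Col.c, Col.b, Col.a, Col.h, Col.f, Col.e, Col.d, Col.c, Col.b, Col.a, Col.h, Col.f, Col.e, Col.d, Col.c, Col.b, Col.a, Col.h, Col.f, Col.e, Col.d, Col.c, Col.b, Col.a, Col.h, Col.f, Col.e, Col.d, Col.c, Col.b, Col.a, Col.h, Col.f, Col.e, Col.d, Col.c, Col.b, Col.a, Col.l, Col.h, Col.f, Col.e, Col.d])))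
(Tr.nd (nat_lit 190) (Tr.lf (Alt.word (nat_lit 48) (nat_lit 0) true [Col.h, Col.c, Col.h, Col.c]))
(Tr.lf (Alt.word (nat_lit 31) (nat_lit 0) true [Col.h, Col.a, Col.h, Col.a])))))))
(Tr.nd (nat_lit 205) (Tr.nd (nat_lit 198) (Tr.nd (nat_lit 194) (Tr.nd (nat_lit 192) (Tr.lf (Alt.word (nat_lit 21) (nat_lit 0) true [Col.h, Col.k, Col.h, Col.k]))
(Tr.nd (nat_lit 193) (Tr.lf (Alt.word (nat_lit 1) (nat_lit 2) true [Col.k, Col.l, Col.k, Col.l, Col.k, Col.l]))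
(Tr.lf (Alt.word (nat_lit 76) (nat_lit 1) true [Col.h, Col.i, Col.h, Col.i, Col.h, Col.i]))))
(Tr.nd (nat_lit 196) (Tr.nd (nat_lit 195) (Tr.lf (Alt.word (nat_lit 39) (nat_lit 1) true [Col.b, Col.j, Col.b, Col.j]))
(Tr.lf (Alt.word (nat_lit 73) (nat_lit 1) true [Col.j, Col.h, Col.j, Col.h])))
(Tr.nd (nat_lit 197) (Tr.lf (Alt.word (nat_lit 30) (nat_lit 1) true [Col.a, Col.j, Col.a, Col.j]))
(Tr.lf (Alt.word (nat_lit 47) (nat_lit 1) true [Col.c, Col.j, Col.c, Col.j])))))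
(Tr.nd (nat_lit 201) (Tr.nd (nat_lit 199) (Tr.lf (Alt.word (nat_lit 78) (nat_lit 10) false [Col.e, Col.d, Col.c, Col.b, Col.a, Col.h, Col.f, Col.e, Col.d, Col.c, Col.b, Col.a, Col.h, Col.f, Col.e, Col.d, Col.c, Col.b, Col.a, Col.h, Col.f, Col.e, Col.d, Col.c, Col.b, Col.a, Col.h, Col.f, Col.e, Col.d, Col.c, Col.b, Col.a, Col.h, Col.f, Col.e, Col.d, Col.c, Col.b, Col.a, Col.h, Col.f, Col.e, Col.d, Col.c, Col.b, Col.a, Col.h, Col.f, Col.e, Col.d, Col.c, Col.b, Col.a, Col.l, Col.h, Col.f, Col.e, Col.d, Col.c, Col.b, Col.a, Col.h, Col.f]))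
(Tr.nd (nat_lit 200) (Tr.lf (Alt.word (nat_lit 28) (nat_lit 0) true [Col.f, Col.a, Col.f, Col.a]))
(Tr.lf (Alt.word (nat_lit 64) (nat_lit 2) true [Col.g, Col.f, Col.g, Col.f, Col.g, Col.f]))))
(Tr.nd (nat_lit 203) (Tr.nd (nat_lit 202) (Tr.lf (Alt.word (nat_lit 54) (nat_lit 2) true [Col.j, Col.d, Col.j, Col.d]))
(Tr.lf (Alt.word (nat_lit 54) (nat_lit 1) true [Col.d, Col.j, Col.d, Col.j])))
(Tr.nd (nat_lit 204) (Tr.lf (Alt.word (nat_lit 60) (nat_lit 1) true [Col.e, Col.j, Col.e, Col.j]))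
(Tr.lf (Alt.word (nat_lit 53) (nat_lit 0) true [Col.g, Col.d, Col.g, Col.d]))))))
(Tr.nd (nat_lit 212) (Tr.nd (nat_lit 208) (Tr.nd (nat_lit 206) (Tr.lf (Alt.word (nat_lit 46) (nat_lit 0) true [Col.g, Col.c, Col.g, Col.c]))
(Tr.nd (nat_lit 207) (Tr.lf (Alt.word (nat_lit 36) (nat_lit 0) true [Col.e, Col.b, Col.e, Col.b]))
(Tr.lf (Alt.word (nat_lit 47) (nat_lit 2) true [Col.j, Col.c, Col.j, Col.c]))))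
(Tr.nd (nat_lit 210) (Tr.nd (nat_lit 209) (Tr.lf (Alt.word (nat_lit 12) (nat_lit 0) true [Col.k, Col.k]))
(Tr.lf (Alt.word (nat_lit 72) (nat_lit 0) true [Col.j, Col.j])))
(Tr.nd (nat_lit 211) (Tr.lf (Alt.word (nat_lit 78) (nat_lit 38) true [Col.d, Col.e, Col.f, Col.h, Col.a, Col.b, Col.c, Col.d, Col.e, Col.f, Col.h, Col.a, Col.b, Col.c, Col.d, Col.e, Col.f, Col.h, Col.a, Col.b, Col.c, Col.d, Col.e, Col.f, Col.h, Col.l, Col.a, Col.b, Col.c, Col.d, Col.e, Col.f, Col.h, Col.a, Col.b, Col.c, Col.d, Col.e, Col.f, Col.h, Col.a, Col.b, Col.c, Col.d, Col.e, Col.f, Col.h, Col.a, Col.b, Col.c, Col.d, Col.e, Col.f, Col.h, Col.a, Col.b, Col.c, Col.d, Col.e, Col.f, Col.h, Col.a, Col.b, Col.c]))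
(Tr.lf (Alt.word (nat_lit 39) (nat_lit 0) true [Col.j, Col.b, Col.j, Col.b])))))
(Tr.nd (nat_lit 215) (Tr.nd (nat_lit 213) (Tr.lf (Alt.word (nat_lit 78) (nat_lit 56) true [Col.a, Col.b, Col.c, Col.d, Col.e, Col.f, Col.h, Col.l, Col.a, Col.b, Col.c, Col.d, Col.e, Col.f, Col.h, Col.a, Col.b, Col.c, Col.d, Col.e, Col.f, Col.h, Col.a, Col.b, Col.c, Col.d, Col.e, Col.f, Col.h, Col.a, Col.b, Col.c, Col.d, Col.e, Col.f, Col.h, Col.a, Col.b, Col.c, Col.d, Col.e, Col.f, Col.h, Col.a, Col.b, Col.c, Col.d, Col.e, Col.f, Col.h, Col.a, Col.b, Col.c, Col.d, Col.e, Col.f, Col.h, Col.a, Col.b, Col.c, Col.d, Col.e, Col.f, Col.h]))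
(Tr.nd (nat_lit 214) (Tr.lf (Alt.word (nat_lit 29) (nat_lit 0) true [Col.g, Col.a, Col.g, Col.a]))
(Tr.lf (Alt.word (nat_lit 66) (nat_lit 0) true [Col.h, Col.f, Col.h, Col.f]))))
(Tr.nd (nat_lit 217) (Tr.nd (nat_lit 216) (Tr.lf (Alt.word (nat_lit 43) (nat_lit 0) true [Col.d, Col.c, Col.d, Col.c, Col.d, Col.c]))
(Tr.lf (Alt.word (nat_lit 61) (nat_lit 0) true [Col.h, Col.e, Col.h, Col.e])))
(Tr.nd (nat_lit 218) (Tr.lf (Alt.word (nat_lit 78) (nat_lit 3) true [Col.d, Col.e, Col.f, Col.h, Col.a, Col.b, Col.c, Col.d, Col.e, Col.f, Col.h, Col.a, Col.b, Col.c, Col.d, Col.e, Col.f, Col.h, Col.a, Col.b, Col.c, Col.d, Col.e, Col.f, Col.h, Col.a, Col.b, Col.c, Col.d, Col.e, Col.f, Col.h, Col.a, Col.b, Col.c, Col.d, Col.e, Col.f, Col.h, Col.a, Col.b, Col.c, Col.d, Col.e, Col.f, Col.h, Col.a, Col.b, Col.c,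 Col.d, Col.e, Col.f, Col.h, Col.a, Col.b, Col.c, Col.d, Col.e, Col.f, Col.h, Col.l, Col.a, Col.b, Col.c]))
(Tr.lf (Alt.word (nat_lit 78) (nat_lit 9) true [Col.c, Col.d, Col.e, Col.f, Col.h, Col.a, Col.b, Col.c, Col.d, Col.e, Col.f, Col.h, Col.a, Col.b, Col.c, Col.d, Col.e, Col.f, Col.h, Col.a, Col.b, Col.c, Col.d, Col.e, Col.f, Col.h, Col.a, Col.b, Col.c, Col.d, Col.e, Col.f, Col.h, Col.a, Col.b, Col.c, Col.d, Col.e, Col.f, Col.h, Col.a, Col.b, Col.c, Col.d, Col.e, Col.f, Col.h, Col.a, Col.b, Col.c, Col.d, Col.e, Col.f, Col.h, Col.l, Col.a, Col.b, Col.c, Col.d, Col.e, Col.f, Col.h, Col.a, Col.b]))))))))))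
noncomputable def mini1P : Tr ℕ := (Tr.nd (nat_lit 704) (Tr.nd (nat_lit 352) (Tr.nd (nat_lit 176) (Tr.nd (nat_lit 88) (Tr.nd (nat_lit 44) (Tr.nd (nat_lit 22) (Tr.nd (nat_lit 11) (Tr.nd (nat_lit 5) (Tr.nd (nat_lit 2) (Tr.nd (nat_lit 1) (Tr.lf (nat_lit 0))
(Tr.lf (nat_lit 0)))
(Tr.nd (nat_lit 3) (Tr.lf (nat_lit 1))
(Tr.nd (nat_lit 4) (Tr.lf (nat_lit 2))
(Tr.lf (nat_lit 3)))))
(Tr.nd (nat_lit 8) (Tr.nd (nat_lit 6) (Tr.lf (nat_lit 4))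
(Tr.nd (nat_lit 7) (Tr.lf (nat_lit 5))
(Tr.lf (nat_lit 6))))
(Tr.nd (nat_lit 9) (Tr.lf (nat_lit 7))
(Tr.nd (nat_lit 10) (Tr.lf (nat_lit 8))
(Tr.lf (nat_lit 9))))))
(Tr.nd (nat_lit 16) (Tr.nd (nat_lit 13) (Tr.nd (nat_lit 12) (Tr.lf (nat_lit 10))
(Tr.lf (nat_lit 11)))
(Tr.nd (nat_lit 14) (Tr.lf (nat_lit 12))
(Tr.nd (nat_lit 15) (Tr.lf (nat_lit 13))
(Tr.lf (nat_lit 14)))))
(Tr.nd (nat_lit 19) (Tr.nd (nat_lit 17) (Tr.lf (nat_lit 15))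
(Tr.nd (nat_lit 18) (Tr.lf (nat_lit 16))
(Tr.lf (nat_lit 17))))
(Tr.nd (nat_lit 20) (Tr.lf (nat_lit 18))
(Tr.nd (nat_lit 21) (Tr.lf (nat_lit 19))
(Tr.lf (nat_lit 20)))))))
(Tr.nd (nat_lit 33) (Tr.nd (nat_lit 27) (Tr.nd (nat_lit 24) (Tr.nd (nat_lit 23) (Tr.lf (nat_lit 21))
(Tr.lf (nat_lit 22)))
(Tr.nd (nat_lit 25) (Tr.lf (nat_lit 23))
(Tr.nd (nat_lit 26) (Tr.lf (nat_lit 24))
(Tr.lf (nat_lit 25)))))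
(Tr.nd (nat_lit 30) (Tr.nd (nat_lit 28) (Tr.lf (nat_lit 26))
(Tr.nd (nat_lit 29) (Tr.lf (nat_lit 27))
(Tr.lf (nat_lit 27))))
(Tr.nd (nat_lit 31) (Tr.lf (nat_lit 29))
(Tr.nd (nat_lit 32) (Tr.lf (nat_lit 30))
(Tr.lf (nat_lit 31))))))
(Tr.nd (nat_lit 38) (Tr.nd (nat_lit 35) (Tr.nd (nat_lit 34) (Tr.lf (nat_lit 32))
(Tr.lf (nat_lit 33)))
(Tr.nd (nat_lit 36) (Tr.lf (nat_lit 34))
(Tr.nd (nat_lit 37) (Tr.lf (nat_lit 35))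
(Tr.lf (nat_lit 36)))))
(Tr.nd (nat_lit 41) (Tr.nd (nat_lit 39) (Tr.lf (nat_lit 37))
(Tr.nd (nat_lit 40) (Tr.lf (nat_lit 38))
(Tr.lf (nat_lit 39))))
(Tr.nd (nat_lit 42) (Tr.lf (nat_lit 40))
(Tr.nd (nat_lit 43) (Tr.lf (nat_lit 41))
(Tr.lf (nat_lit 42))))))))
(Tr.nd (nat_lit 66) (Tr.nd (nat_lit 55) (Tr.nd (nat_lit 49) (Tr.nd (nat_lit 46) (Tr.nd (nat_lit 45) (Tr.lf (nat_lit 43))
(Tr.lf (nat_lit 44)))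
(Tr.nd (nat_lit 47) (Tr.lf (nat_lit 45))
(Tr.nd (nat_lit 48) (Tr.lf (nat_lit 46))
(Tr.lf (nat_lit 47)))))
(Tr.nd (nat_lit 52) (Tr.nd (nat_lit 50) (Tr.lf (nat_lit 48))
(Tr.nd (nat_lit 51) (Tr.lf (nat_lit 49))
(Tr.lf (nat_lit 50))))
(Tr.nd (nat_lit 53) (Tr.lf (nat_lit 51))
(Tr.nd (nat_lit 54) (Tr.lf (nat_lit 52))
(Tr.lf (nat_lit 53))))))
(Tr.nd (nat_lit 60) (Tr.nd (nat_lit 57) (Tr.nd (nat_lit 56) (Tr.lf (nat_lit 54))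
(Tr.lf (nat_lit 55)))
(Tr.nd (nat_lit 58) (Tr.lf (nat_lit 56))
(Tr.nd (nat_lit 59) (Tr.lf (nat_lit 57))
(Tr.lf (nat_lit 58)))))
(Tr.nd (nat_lit 63) (Tr.nd (nat_lit 61) (Tr.lf (nat_lit 59))
(Tr.nd (nat_lit 62) (Tr.lf (nat_lit 60))
(Tr.lf (nat_lit 61))))
(Tr.nd (nat_lit 64) (Tr.lf (nat_lit 62))
(Tr.nd (nat_lit 65) (Tr.lf (nat_lit 63))
(Tr.lf (nat_lit 64)))))))
(Tr.nd (nat_lit 77) (Tr.nd (nat_lit 71) (Tr.nd (nat_lit 68) (Tr.nd (nat_lit 67) (Tr.lf (nat_lit 65))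
(Tr.lf (nat_lit 5)))
(Tr.nd (nat_lit 69) (Tr.lf (nat_lit 6))
(Tr.nd (nat_lit 70) (Tr.lf (nat_lit 7))
(Tr.lf (nat_lit 8)))))
(Tr.nd (nat_lit 74) (Tr.nd (nat_lit 72) (Tr.lf (nat_lit 9))
(Tr.nd (nat_lit 73) (Tr.lf (nat_lit 10))
(Tr.lf (nat_lit 10))))
(Tr.nd (nat_lit 75) (Tr.lf (nat_lit 11))
(Tr.nd (nat_lit 76) (Tr.lf (nat_lit 11))
(Tr.lf (nat_lit 11))))))
(Tr.nd (nat_lit 82) (Tr.nd (nat_lit 79) (Tr.nd (nat_lit 78) (Tr.lf (nat_lit 12))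
(Tr.lf (nat_lit 12)))
(Tr.nd (nat_lit 80) (Tr.lf (nat_lit 13))
(Tr.nd (nat_lit 81) (Tr.lf (nat_lit 13))
(Tr.lf (nat_lit 14)))))
(Tr.nd (nat_lit 85) (Tr.nd (nat_lit 83) (Tr.lf (nat_lit 14))
(Tr.nd (nat_lit 84) (Tr.lf (nat_lit 14))
(Tr.lf (nat_lit 15))))
(Tr.nd (nat_lit 86) (Tr.lf (nat_lit 15))
(Tr.nd (nat_lit 87) (Tr.lf (nat_lit 16))
(Tr.lf (nat_lit 17)))))))))
(Tr.nd (nat_lit 132) (Tr.nd (nat_lit 110) (Tr.nd (nat_lit 99) (Tr.nd (nat_lit 93) (Tr.nd (nat_lit 90) (Tr.nd (nat_lit 89) (Tr.lf (nat_lit 18))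
(Tr.lf (nat_lit 19)))
(Tr.nd (nat_lit 91) (Tr.lf (nat_lit 19))
(Tr.nd (nat_lit 92) (Tr.lf (nat_lit 20))
(Tr.lf (nat_lit 20)))))
(Tr.nd (nat_lit 96) (Tr.nd (nat_lit 94) (Tr.lf (nat_lit 21))
(Tr.nd (nat_lit 95) (Tr.lf (nat_lit 22))
(Tr.lf (nat_lit 23))))
(Tr.nd (nat_lit 97) (Tr.lf (nat_lit 24))
(Tr.nd (nat_lit 98) (Tr.lf (nat_lit 25))
(Tr.lf (nat_lit 32))))))
(Tr.nd (nat_lit 104) (Tr.nd (nat_lit 101) (Tr.nd (nat_lit 100) (Tr.lf (nat_lit 33))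
(Tr.lf (nat_lit 34)))
(Tr.nd (nat_lit 102) (Tr.lf (nat_lit 34))
(Tr.nd (nat_lit 103) (Tr.lf (nat_lit 35))
(Tr.lf (nat_lit 35)))))
(Tr.nd (nat_lit 107) (Tr.nd (nat_lit 105) (Tr.lf (nat_lit 35))
(Tr.nd (nat_lit 106) (Tr.lf (nat_lit 36))
(Tr.lf (nat_lit 36))))
(Tr.nd (nat_lit 108) (Tr.lf (nat_lit 37))
(Tr.nd (nat_lit 109) (Tr.lf (nat_lit 37))
(Tr.lf (nat_lit 38)))))))
(Tr.nd (nat_lit 121) (Tr.nd (nat_lit 115) (Tr.nd (nat_lit 112) (Tr.nd (nat_lit 111) (Tr.lf (nat_lit 38))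
(Tr.lf (nat_lit 38)))
(Tr.nd (nat_lit 113) (Tr.lf (nat_lit 38))
(Tr.nd (nat_lit 114) (Tr.lf (nat_lit 39))
(Tr.lf (nat_lit 39)))))
(Tr.nd (nat_lit 118) (Tr.nd (nat_lit 116) (Tr.lf (nat_lit 39))
(Tr.nd (nat_lit 117) (Tr.lf (nat_lit 40))
(Tr.lf (nat_lit 40))))
(Tr.nd (nat_lit 119) (Tr.lf (nat_lit 40))
(Tr.nd (nat_lit 120) (Tr.lf (nat_lit 40))
(Tr.lf (nat_lit 41))))))
(Tr.nd (nat_lit 126) (Tr.nd (nat_lit 123) (Tr.nd (nat_lit 122) (Tr.lf (nat_lit 41))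
(Tr.lf (nat_lit 41)))
(Tr.nd (nat_lit 124) (Tr.lf (nat_lit 41))
(Tr.nd (nat_lit 125) (Tr.lf (nat_lit 41))
(Tr.lf (nat_lit 42)))))
(Tr.nd (nat_lit 129) (Tr.nd (nat_lit 127) (Tr.lf (nat_lit 42))
(Tr.nd (nat_lit 128) (Tr.lf (nat_lit 42))
(Tr.lf (nat_lit 42))))
(Tr.nd (nat_lit 130) (Tr.lf (nat_lit 42))
(Tr.nd (nat_lit 131) (Tr.lf (nat_lit 43))
(Tr.lf (nat_lit 43))))))))
(Tr.nd (nat_lit 154) (Tr.nd (nat_lit 143) (Tr.nd (nat_lit 137) (Tr.nd (nat_lit 134) (Tr.nd (nat_lit 133) (Tr.lf (nat_lit 43))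
(Tr.lf (nat_lit 43)))
(Tr.nd (nat_lit 135) (Tr.lf (nat_lit 44))
(Tr.nd (nat_lit 136) (Tr.lf (nat_lit 44))
(Tr.lf (nat_lit 44)))))
(Tr.nd (nat_lit 140) (Tr.nd (nat_lit 138) (Tr.lf (nat_lit 44))
(Tr.nd (nat_lit 139) (Tr.lf (nat_lit 45))
(Tr.lf (nat_lit 45))))
(Tr.nd (nat_lit 141) (Tr.lf (nat_lit 45))
(Tr.nd (nat_lit 142) (Tr.lf (nat_lit 45))
(Tr.lf (nat_lit 46))))))
(Tr.nd (nat_lit 148) (Tr.nd (nat_lit 145) (Tr.nd (nat_lit 144) (Tr.lf (nat_lit 46))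
(Tr.lf (nat_lit 46)))
(Tr.nd (nat_lit 146) (Tr.lf (nat_lit 47))
(Tr.nd (nat_lit 147) (Tr.lf (nat_lit 47))
(Tr.lf (nat_lit 47)))))
(Tr.nd (nat_lit 151) (Tr.nd (nat_lit 149) (Tr.lf (nat_lit 48))
(Tr.nd (nat_lit 150) (Tr.lf (nat_lit 48))
(Tr.lf (nat_lit 48))))
(Tr.nd (nat_lit 152) (Tr.lf (nat_lit 49))
(Tr.nd (nat_lit 153) (Tr.lf (nat_lit 49))
(Tr.lf (nat_lit 49)))))))
(Tr.nd (nat_lit 165) (Tr.nd (nat_lit 159) (Tr.nd (nat_lit 156) (Tr.nd (nat_lit 155) (Tr.lf (nat_lit 49))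
(Tr.lf (nat_lit 50)))
(Tr.nd (nat_lit 157) (Tr.lf (nat_lit 50))
(Tr.nd (nat_lit 158) (Tr.lf (nat_lit 50))
(Tr.lf (nat_lit 50)))))
(Tr.nd (nat_lit 162) (Tr.nd (nat_lit 160) (Tr.lf (nat_lit 51))
(Tr.nd (nat_lit 161) (Tr.lf (nat_lit 51))
(Tr.lf (nat_lit 51))))
(Tr.nd (nat_lit 163) (Tr.lf (nat_lit 52))
(Tr.nd (nat_lit 164) (Tr.lf (nat_lit 52))
(Tr.lf (nat_lit 52))))))
(Tr.nd (nat_lit 170) (Tr.nd (nat_lit 167) (Tr.nd (nat_lit 166) (Tr.lf (nat_lit 53))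
(Tr.lf (nat_lit 53)))
(Tr.nd (nat_lit 168) (Tr.lf (nat_lit 53))
(Tr.nd (nat_lit 169) (Tr.lf (nat_lit 53))
(Tr.lf (nat_lit 53)))))
(Tr.nd (nat_lit 173) (Tr.nd (nat_lit 171) (Tr.lf (nat_lit 54))
(Tr.nd (nat_lit 172) (Tr.lf (nat_lit 54))
(Tr.lf (nat_lit 54))))
(Tr.nd (nat_lit 174) (Tr.lf (nat_lit 54))
(Tr.nd (nat_lit 175) (Tr.lf (nat_lit 54))
(Tr.lf (nat_lit 55))))))))))
(Tr.nd (nat_lit 264) (Tr.nd (nat_lit 220) (Tr.nd (nat_lit 198) (Tr.nd (nat_lit 187) (Tr.nd (nat_lit 181) (Tr.nd (nat_lit 178) (Tr.nd (nat_lit 177) (Tr.lf (nat_lit 55))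
(Tr.lf (nat_lit 55)))
(Tr.nd (nat_lit 179) (Tr.lf (nat_lit 55))
(Tr.nd (nat_lit 180) (Tr.lf (nat_lit 56))
(Tr.lf (nat_lit 56)))))
(Tr.nd (nat_lit 184) (Tr.nd (nat_lit 182) (Tr.lf (nat_lit 56))
(Tr.nd (nat_lit 183) (Tr.lf (nat_lit 57))
(Tr.lf (nat_lit 57))))
(Tr.nd (nat_lit 185) (Tr.lf (nat_lit 57))
(Tr.nd (nat_lit 186) (Tr.lf (nat_lit 57))
(Tr.lf (nat_lit 57))))))
(Tr.nd (nat_lit 192) (Tr.nd (nat_lit 189) (Tr.nd (nat_lit 188) (Tr.lf (nat_lit 58))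
(Tr.lf (nat_lit 58)))
(Tr.nd (nat_lit 190) (Tr.lf (nat_lit 58))
(Tr.nd (nat_lit 191) (Tr.lf (nat_lit 58))
(Tr.lf (nat_lit 58)))))
(Tr.nd (nat_lit 195) (Tr.nd (nat_lit 193) (Tr.lf (nat_lit 58))
(Tr.nd (nat_lit 194) (Tr.lf (nat_lit 59))
(Tr.lf (nat_lit 59))))
(Tr.nd (nat_lit 196) (Tr.lf (nat_lit 59))
(Tr.nd (nat_lit 197) (Tr.lf (nat_lit 59))
(Tr.lf (nat_lit 60)))))))
(Tr.nd (nat_lit 209) (Tr.nd (nat_lit 203) (Tr.nd (nat_lit 200) (Tr.nd (nat_lit 199) (Tr.lf (nat_lit 60))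
(Tr.lf (nat_lit 60)))
(Tr.nd (nat_lit 201) (Tr.lf (nat_lit 61))
(Tr.nd (nat_lit 202) (Tr.lf (nat_lit 61))
(Tr.lf (nat_lit 61)))))
(Tr.nd (nat_lit 206) (Tr.nd (nat_lit 204) (Tr.lf (nat_lit 61))
(Tr.nd (nat_lit 205) (Tr.lf (nat_lit 62))
(Tr.lf (nat_lit 62))))
(Tr.nd (nat_lit 207) (Tr.lf (nat_lit 62))
(Tr.nd (nat_lit 208) (Tr.lf (nat_lit 63))
(Tr.lf (nat_lit 63))))))
(Tr.nd (nat_lit 214) (Tr.nd (nat_lit 211) (Tr.nd (nat_lit 210) (Tr.lf (nat_lit 64))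
(Tr.lf (nat_lit 64)))
(Tr.nd (nat_lit 212) (Tr.lf (nat_lit 65))
(Tr.nd (nat_lit 213) (Tr.lf (nat_lit 66))
(Tr.lf (nat_lit 70)))))
(Tr.nd (nat_lit 217) (Tr.nd (nat_lit 215) (Tr.lf (nat_lit 71))
(Tr.nd (nat_lit 216) (Tr.lf (nat_lit 72))
(Tr.lf (nat_lit 74))))
(Tr.nd (nat_lit 218) (Tr.lf (nat_lit 75))
(Tr.nd (nat_lit 219) (Tr.lf (nat_lit 76))
(Tr.lf (nat_lit 78))))))))
(Tr.nd (nat_lit 242) (Tr.nd (nat_lit 231) (Tr.nd (nat_lit 225) (Tr.nd (nat_lit 222) (Tr.nd (nat_lit 221) (Tr.lf (nat_lit 82))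
(Tr.lf (nat_lit 85)))
(Tr.nd (nat_lit 223) (Tr.lf (nat_lit 85))
(Tr.nd (nat_lit 224) (Tr.lf (nat_lit 86))
(Tr.lf (nat_lit 86)))))
(Tr.nd (nat_lit 228) (Tr.nd (nat_lit 226) (Tr.lf (nat_lit 87))
(Tr.nd (nat_lit 227) (Tr.lf (nat_lit 87))
(Tr.lf (nat_lit 88))))
(Tr.nd (nat_lit 229) (Tr.lf (nat_lit 88))
(Tr.nd (nat_lit 230) (Tr.lf (nat_lit 89))
(Tr.lf (nat_lit 90))))))
(Tr.nd (nat_lit 236) (Tr.nd (nat_lit 233) (Tr.nd (nat_lit 232) (Tr.lf (nat_lit 91))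
(Tr.lf (nat_lit 91)))
(Tr.nd (nat_lit 234) (Tr.lf (nat_lit 92))
(Tr.nd (nat_lit 235) (Tr.lf (nat_lit 92))
(Tr.lf (nat_lit 93)))))
(Tr.nd (nat_lit 239) (Tr.nd (nat_lit 237) (Tr.lf (nat_lit 93))
(Tr.nd (nat_lit 238) (Tr.lf (nat_lit 93))
(Tr.lf (nat_lit 94))))
(Tr.nd (nat_lit 240) (Tr.lf (nat_lit 94))
(Tr.nd (nat_lit 241) (Tr.lf (nat_lit 99))
(Tr.lf (nat_lit 100)))))))
(Tr.nd (nat_lit 253) (Tr.nd (nat_lit 247) (Tr.nd (nat_lit 244) (Tr.nd (nat_lit 243) (Tr.lf (nat_lit 103))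
(Tr.lf (nat_lit 109)))
(Tr.nd (nat_lit 245) (Tr.lf (nat_lit 110))
(Tr.nd (nat_lit 246) (Tr.lf (nat_lit 110))
(Tr.lf (nat_lit 111)))))
(Tr.nd (nat_lit 250) (Tr.nd (nat_lit 248) (Tr.lf (nat_lit 112))
(Tr.nd (nat_lit 249) (Tr.lf (nat_lit 113))
(Tr.lf (nat_lit 113))))
(Tr.nd (nat_lit 251) (Tr.lf (nat_lit 115))
(Tr.nd (nat_lit 252) (Tr.lf (nat_lit 116))
(Tr.lf (nat_lit 116))))))
(Tr.nd (nat_lit 258) (Tr.nd (nat_lit 255) (Tr.nd (nat_lit 254) (Tr.lf (nat_lit 116))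
(Tr.lf (nat_lit 116)))
(Tr.nd (nat_lit 256) (Tr.lf (nat_lit 116))
(Tr.nd (nat_lit 257) (Tr.lf (nat_lit 118))
(Tr.lf (nat_lit 119)))))
(Tr.nd (nat_lit 261) (Tr.nd (nat_lit 259) (Tr.lf (nat_lit 120))
(Tr.nd (nat_lit 260) (Tr.lf (nat_lit 120))
(Tr.lf (nat_lit 120))))
(Tr.nd (nat_lit 262) (Tr.lf (nat_lit 120))
(Tr.nd (nat_lit 263) (Tr.lf (nat_lit 120))
(Tr.lf (nat_lit 122)))))))))
(Tr.nd (nat_lit 308) (Tr.nd (nat_lit 286) (Tr.nd (nat_lit 275) (Tr.nd (nat_lit 269) (Tr.nd (nat_lit 266) (Tr.nd (nat_lit 265) (Tr.lf (nat_lit 122))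
(Tr.lf (nat_lit 123)))
(Tr.nd (nat_lit 267) (Tr.lf (nat_lit 124))
(Tr.nd (nat_lit 268) (Tr.lf (nat_lit 125))
(Tr.lf (nat_lit 125)))))
(Tr.nd (nat_lit 272) (Tr.nd (nat_lit 270) (Tr.lf (nat_lit 128))
(Tr.nd (nat_lit 271) (Tr.lf (nat_lit 129))
(Tr.lf (nat_lit 130))))
(Tr.nd (nat_lit 273) (Tr.lf (nat_lit 130))
(Tr.nd (nat_lit 274) (Tr.lf (nat_lit 133))
(Tr.lf (nat_lit 134))))))
(Tr.nd (nat_lit 280) (Tr.nd (nat_lit 277) (Tr.nd (nat_lit 276) (Tr.lf (nat_lit 134))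
(Tr.lf (nat_lit 137)))
(Tr.nd (nat_lit 278) (Tr.lf (nat_lit 138))
(Tr.nd (nat_lit 279) (Tr.lf (nat_lit 141))
(Tr.lf (nat_lit 142)))))
(Tr.nd (nat_lit 283) (Tr.nd (nat_lit 281) (Tr.lf (nat_lit 142))
(Tr.nd (nat_lit 282) (Tr.lf (nat_lit 145))
(Tr.lf (nat_lit 152))))
(Tr.nd (nat_lit 284) (Tr.lf (nat_lit 155))
(Tr.nd (nat_lit 285) (Tr.lf (nat_lit 156))
(Tr.lf (nat_lit 156)))))))
(Tr.nd (nat_lit 297) (Tr.nd (nat_lit 291) (Tr.nd (nat_lit 288) (Tr.nd (nat_lit 287) (Tr.lf (nat_lit 157))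
(Tr.lf (nat_lit 160)))
(Tr.nd (nat_lit 289) (Tr.lf (nat_lit 160))
(Tr.nd (nat_lit 290) (Tr.lf (nat_lit 162))
(Tr.lf (nat_lit 163)))))
(Tr.nd (nat_lit 294) (Tr.nd (nat_lit 292) (Tr.lf (nat_lit 163))
(Tr.nd (nat_lit 293) (Tr.lf (nat_lit 163))
(Tr.lf (nat_lit 165))))
(Tr.nd (nat_lit 295) (Tr.lf (nat_lit 165))
(Tr.nd (nat_lit 296) (Tr.lf (nat_lit 166))
(Tr.lf (nat_lit 166))))))
(Tr.nd (nat_lit 302) (Tr.nd (nat_lit 299) (Tr.nd (nat_lit 298) (Tr.lf (nat_lit 166))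
(Tr.lf (nat_lit 170)))
(Tr.nd (nat_lit 300) (Tr.lf (nat_lit 170))
(Tr.nd (nat_lit 301) (Tr.lf (nat_lit 171))
(Tr.lf (nat_lit 171)))))
(Tr.nd (nat_lit 305) (Tr.nd (nat_lit 303) (Tr.lf (nat_lit 171))
(Tr.nd (nat_lit 304) (Tr.lf (nat_lit 173))
(Tr.lf (nat_lit 175))))
(Tr.nd (nat_lit 306) (Tr.lf (nat_lit 176))
(Tr.nd (nat_lit 307) (Tr.lf (nat_lit 176))
(Tr.lf (nat_lit 179))))))))
(Tr.nd (nat_lit 330) (Tr.nd (nat_lit 319) (Tr.nd (nat_lit 313) (Tr.nd (nat_lit 310) (Tr.nd (nat_lit 309) (Tr.lf (nat_lit 180))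
(Tr.lf (nat_lit 180)))
(Tr.nd (nat_lit 311) (Tr.lf (nat_lit 182))
(Tr.nd (nat_lit 312) (Tr.lf (nat_lit 182))
(Tr.lf (nat_lit 183)))))
(Tr.nd (nat_lit 316) (Tr.nd (nat_lit 314) (Tr.lf (nat_lit 183))
(Tr.nd (nat_lit 315) (Tr.lf (nat_lit 183))
(Tr.lf (nat_lit 183))))
(Tr.nd (nat_lit 317) (Tr.lf (nat_lit 185))
(Tr.nd (nat_lit 318) (Tr.lf (nat_lit 185))
(Tr.lf (nat_lit 187))))))
(Tr.nd (nat_lit 324) (Tr.nd (nat_lit 321) (Tr.nd (nat_lit 320) (Tr.lf (nat_lit 187))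
(Tr.lf (nat_lit 187)))
(Tr.nd (nat_lit 322) (Tr.lf (nat_lit 188))
(Tr.nd (nat_lit 323) (Tr.lf (nat_lit 188))
(Tr.lf (nat_lit 189)))))
(Tr.nd (nat_lit 327) (Tr.nd (nat_lit 325) (Tr.lf (nat_lit 189))
(Tr.nd (nat_lit 326) (Tr.lf (nat_lit 191))
(Tr.lf (nat_lit 193))))
(Tr.nd (nat_lit 328) (Tr.lf (nat_lit 193))
(Tr.nd (nat_lit 329) (Tr.lf (nat_lit 194))
(Tr.lf (nat_lit 195)))))))
(Tr.nd (nat_lit 341) (Tr.nd (nat_lit 335) (Tr.nd (nat_lit 332) (Tr.nd (nat_lit 331) (Tr.lf (nat_lit 195))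
(Tr.lf (nat_lit 197)))
(Tr.nd (nat_lit 333) (Tr.lf (nat_lit 197))
(Tr.nd (nat_lit 334) (Tr.lf (nat_lit 198))
(Tr.lf (nat_lit 199)))))
(Tr.nd (nat_lit 338) (Tr.nd (nat_lit 336) (Tr.lf (nat_lit 200))
(Tr.nd (nat_lit 337) (Tr.lf (nat_lit 200))
(Tr.lf (nat_lit 201))))
(Tr.nd (nat_lit 339) (Tr.lf (nat_lit 202))
(Tr.nd (nat_lit 340) (Tr.lf (nat_lit 203))
(Tr.lf (nat_lit 204))))))
(Tr.nd (nat_lit 346) (Tr.nd (nat_lit 343) (Tr.nd (nat_lit 342) (Tr.lf (nat_lit 205))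
(Tr.lf (nat_lit 206)))
(Tr.nd (nat_lit 344) (Tr.lf (nat_lit 207))
(Tr.nd (nat_lit 345) (Tr.lf (nat_lit 209))
(Tr.lf (nat_lit 209)))))
(Tr.nd (nat_lit 349) (Tr.nd (nat_lit 347) (Tr.lf (nat_lit 214))
(Tr.nd (nat_lit 348) (Tr.lf (nat_lit 215))
(Tr.lf (nat_lit 216))))
(Tr.nd (nat_lit 350) (Tr.lf (nat_lit 217))
(Tr.nd (nat_lit 351) (Tr.lf (nat_lit 218))
(Tr.lf (nat_lit 219)))))))))))
(Tr.nd (nat_lit 528) (Tr.nd (nat_lit 440) (Tr.nd (nat_lit 396) (Tr.nd (nat_lit 374) (Tr.nd (nat_lit 363) (Tr.nd (nat_lit 357) (Tr.nd (nat_lit 354) (Tr.nd (nat_lit 353) (Tr.lf (nat_lit 220))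
(Tr.lf (nat_lit 221)))
(Tr.nd (nat_lit 355) (Tr.lf (nat_lit 222))
(Tr.nd (nat_lit 356) (Tr.lf (nat_lit 223))
(Tr.lf (nat_lit 223)))))
(Tr.nd (nat_lit 360) (Tr.nd (nat_lit 358) (Tr.lf (nat_lit 224))
(Tr.nd (nat_lit 359) (Tr.lf (nat_lit 225))
(Tr.lf (nat_lit 225))))
(Tr.nd (nat_lit 361) (Tr.lf (nat_lit 225))
(Tr.nd (nat_lit 362) (Tr.lf (nat_lit 226))
(Tr.lf (nat_lit 227))))))
(Tr.nd (nat_lit 368) (Tr.nd (nat_lit 365) (Tr.nd (nat_lit 364) (Tr.lf (nat_lit 227))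
(Tr.lf (nat_lit 228)))
(Tr.nd (nat_lit 366) (Tr.lf (nat_lit 229))
(Tr.nd (nat_lit 367) (Tr.lf (nat_lit 230))
(Tr.lf (nat_lit 233)))))
(Tr.nd (nat_lit 371) (Tr.nd (nat_lit 369) (Tr.lf (nat_lit 236))
(Tr.nd (nat_lit 370) (Tr.lf (nat_lit 236))
(Tr.lf (nat_lit 240))))
(Tr.nd (nat_lit 372) (Tr.lf (nat_lit 241))
(Tr.nd (nat_lit 373) (Tr.lf (nat_lit 242))
(Tr.lf (nat_lit 243)))))))
(Tr.nd (nat_lit 385) (Tr.nd (nat_lit 379) (Tr.nd (nat_lit 376) (Tr.nd (nat_lit 375) (Tr.lf (nat_lit 244))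
(Tr.lf (nat_lit 245)))
(Tr.nd (nat_lit 377) (Tr.lf (nat_lit 246))
(Tr.nd (nat_lit 378) (Tr.lf (nat_lit 247))
(Tr.lf (nat_lit 249)))))
(Tr.nd (nat_lit 382) (Tr.nd (nat_lit 380) (Tr.lf (nat_lit 250))
(Tr.nd (nat_lit 381) (Tr.lf (nat_lit 252))
(Tr.lf (nat_lit 254))))
(Tr.nd (nat_lit 383) (Tr.lf (nat_lit 255))
(Tr.nd (nat_lit 384) (Tr.lf (nat_lit 256))
(Tr.lf (nat_lit 257))))))
(Tr.nd (nat_lit 390) (Tr.nd (nat_lit 387) (Tr.nd (nat_lit 386) (Tr.lf (nat_lit 258))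
(Tr.lf (nat_lit 259)))
(Tr.nd (nat_lit 388) (Tr.lf (nat_lit 259))
(Tr.nd (nat_lit 389) (Tr.lf (nat_lit 260))
(Tr.lf (nat_lit 261)))))
(Tr.nd (nat_lit 393) (Tr.nd (nat_lit 391) (Tr.lf (nat_lit 262))
(Tr.nd (nat_lit 392) (Tr.lf (nat_lit 263))
(Tr.lf (nat_lit 264))))
(Tr.nd (nat_lit 394) (Tr.lf (nat_lit 265))
(Tr.nd (nat_lit 395) (Tr.lf (nat_lit 266))
(Tr.lf (nat_lit 268))))))))
(Tr.nd (nat_lit 418) (Tr.nd (nat_lit 407) (Tr.nd (nat_lit 401) (Tr.nd (nat_lit 398) (Tr.nd (nat_lit 397) (Tr.lf (nat_lit 269))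
(Tr.lf (nat_lit 270)))
(Tr.nd (nat_lit 399) (Tr.lf (nat_lit 272))
(Tr.nd (nat_lit 400) (Tr.lf (nat_lit 273))
(Tr.lf (nat_lit 275)))))
(Tr.nd (nat_lit 404) (Tr.nd (nat_lit 402) (Tr.lf (nat_lit 276))
(Tr.nd (nat_lit 403) (Tr.lf (nat_lit 277))
(Tr.lf (nat_lit 278))))
(Tr.nd (nat_lit 405) (Tr.lf (nat_lit 284))
(Tr.nd (nat_lit 406) (Tr.lf (nat_lit 285))
(Tr.lf (nat_lit 285))))))
(Tr.nd (nat_lit 412) (Tr.nd (nat_lit 409) (Tr.nd (nat_lit 408) (Tr.lf (nat_lit 287))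
(Tr.lf (nat_lit 288)))
(Tr.nd (nat_lit 410) (Tr.lf (nat_lit 288))
(Tr.nd (nat_lit 411) (Tr.lf (nat_lit 290))
(Tr.lf (nat_lit 290)))))
(Tr.nd (nat_lit 415) (Tr.nd (nat_lit 413) (Tr.lf (nat_lit 291))
(Tr.nd (nat_lit 414) (Tr.lf (nat_lit 292))
(Tr.lf (nat_lit 295))))
(Tr.nd (nat_lit 416) (Tr.lf (nat_lit 295))
(Tr.nd (nat_lit 417) (Tr.lf (nat_lit 296))
(Tr.lf (nat_lit 296)))))))
(Tr.nd (nat_lit 429) (Tr.nd (nat_lit 423) (Tr.nd (nat_lit 420) (Tr.nd (nat_lit 419) (Tr.lf (nat_lit 297))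
(Tr.lf (nat_lit 297)))
(Tr.nd (nat_lit 421) (Tr.lf (nat_lit 300))
(Tr.nd (nat_lit 422) (Tr.lf (nat_lit 300))
(Tr.lf (nat_lit 301)))))
(Tr.nd (nat_lit 426) (Tr.nd (nat_lit 424) (Tr.lf (nat_lit 301))
(Tr.nd (nat_lit 425) (Tr.lf (nat_lit 302))
(Tr.lf (nat_lit 305))))
(Tr.nd (nat_lit 427) (Tr.lf (nat_lit 305))
(Tr.nd (nat_lit 428) (Tr.lf (nat_lit 306))
(Tr.lf (nat_lit 308))))))
(Tr.nd (nat_lit 434) (Tr.nd (nat_lit 431) (Tr.nd (nat_lit 430) (Tr.lf (nat_lit 308))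
(Tr.lf (nat_lit 309)))
(Tr.nd (nat_lit 432) (Tr.lf (nat_lit 312))
(Tr.nd (nat_lit 433) (Tr.lf (nat_lit 312))
(Tr.lf (nat_lit 312)))))
(Tr.nd (nat_lit 437) (Tr.nd (nat_lit 435) (Tr.lf (nat_lit 313))
(Tr.nd (nat_lit 436) (Tr.lf (nat_lit 314))
(Tr.lf (nat_lit 321))))
(Tr.nd (nat_lit 438) (Tr.lf (nat_lit 322))
(Tr.nd (nat_lit 439) (Tr.lf (nat_lit 322))
(Tr.lf (nat_lit 323)))))))))
(Tr.nd (nat_lit 484) (Tr.nd (nat_lit 462) (Tr.nd (nat_lit 451) (Tr.nd (nat_lit 445) (Tr.nd (nat_lit 442) (Tr.nd (nat_lit 441) (Tr.lf (nat_lit 328))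
(Tr.lf (nat_lit 329)))
(Tr.nd (nat_lit 443) (Tr.lf (nat_lit 330))
(Tr.nd (nat_lit 444) (Tr.lf (nat_lit 333))
(Tr.lf (nat_lit 337)))))
(Tr.nd (nat_lit 448) (Tr.nd (nat_lit 446) (Tr.lf (nat_lit 341))
(Tr.nd (nat_lit 447) (Tr.lf (nat_lit 346))
(Tr.lf (nat_lit 347))))
(Tr.nd (nat_lit 449) (Tr.lf (nat_lit 347))
(Tr.nd (nat_lit 450) (Tr.lf (nat_lit 348))
(Tr.lf (nat_lit 349))))))
(Tr.nd (nat_lit 456) (Tr.nd (nat_lit 453) (Tr.nd (nat_lit 452) (Tr.lf (nat_lit 350))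
(Tr.lf (nat_lit 350)))
(Tr.nd (nat_lit 454) (Tr.lf (nat_lit 351))
(Tr.nd (nat_lit 455) (Tr.lf (nat_lit 353))
(Tr.lf (nat_lit 354)))))
(Tr.nd (nat_lit 459) (Tr.nd (nat_lit 457) (Tr.lf (nat_lit 356))
(Tr.nd (nat_lit 458) (Tr.lf (nat_lit 357))
(Tr.lf (nat_lit 358))))
(Tr.nd (nat_lit 460) (Tr.lf (nat_lit 360))
(Tr.nd (nat_lit 461) (Tr.lf (nat_lit 361))
(Tr.lf (nat_lit 368)))))))
(Tr.nd (nat_lit 473) (Tr.nd (nat_lit 467) (Tr.nd (nat_lit 464) (Tr.nd (nat_lit 463) (Tr.lf (nat_lit 374))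
(Tr.lf (nat_lit 375)))
(Tr.nd (nat_lit 465) (Tr.lf (nat_lit 382))
(Tr.nd (nat_lit 466) (Tr.lf (nat_lit 383))
(Tr.lf (nat_lit 384)))))
(Tr.nd (nat_lit 470) (Tr.nd (nat_lit 468) (Tr.lf (nat_lit 385))
(Tr.nd (nat_lit 469) (Tr.lf (nat_lit 386))
(Tr.lf (nat_lit 387))))
(Tr.nd (nat_lit 471) (Tr.lf (nat_lit 388))
(Tr.nd (nat_lit 472) (Tr.lf (nat_lit 389))
(Tr.lf (nat_lit 390))))))
(Tr.nd (nat_lit 478) (Tr.nd (nat_lit 475) (Tr.nd (nat_lit 474) (Tr.lf (nat_lit 391))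
(Tr.lf (nat_lit 392)))
(Tr.nd (nat_lit 476) (Tr.lf (nat_lit 393))
(Tr.nd (nat_lit 477) (Tr.lf (nat_lit 394))
(Tr.lf (nat_lit 394)))))
(Tr.nd (nat_lit 481) (Tr.nd (nat_lit 479) (Tr.lf (nat_lit 395))
(Tr.nd (nat_lit 480) (Tr.lf (nat_lit 396))
(Tr.lf (nat_lit 397))))
(Tr.nd (nat_lit 482) (Tr.lf (nat_lit 397))
(Tr.nd (nat_lit 483) (Tr.lf (nat_lit 398))
(Tr.lf (nat_lit 399))))))))
(Tr.nd (nat_lit 506) (Tr.nd (nat_lit 495) (Tr.nd (nat_lit 489) (Tr.nd (nat_lit 486) (Tr.nd (nat_lit 485) (Tr.lf (nat_lit 399))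
(Tr.lf (nat_lit 400)))
(Tr.nd (nat_lit 487) (Tr.lf (nat_lit 401))
(Tr.nd (nat_lit 488) (Tr.lf (nat_lit 401))
(Tr.lf (nat_lit 402)))))
(Tr.nd (nat_lit 492) (Tr.nd (nat_lit 490) (Tr.lf (nat_lit 404))
(Tr.nd (nat_lit 491) (Tr.lf (nat_lit 404))
(Tr.lf (nat_lit 405))))
(Tr.nd (nat_lit 493) (Tr.lf (nat_lit 405))
(Tr.nd (nat_lit 494) (Tr.lf (nat_lit 406))
(Tr.lf (nat_lit 407))))))
(Tr.nd (nat_lit 500) (Tr.nd (nat_lit 497) (Tr.nd (nat_lit 496) (Tr.lf (nat_lit 407))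
(Tr.lf (nat_lit 407)))
(Tr.nd (nat_lit 498) (Tr.lf (nat_lit 408))
(Tr.nd (nat_lit 499) (Tr.lf (nat_lit 408))
(Tr.lf (nat_lit 408)))))
(Tr.nd (nat_lit 503) (Tr.nd (nat_lit 501) (Tr.lf (nat_lit 409))
(Tr.nd (nat_lit 502) (Tr.lf (nat_lit 410))
(Tr.lf (nat_lit 410))))
(Tr.nd (nat_lit 504) (Tr.lf (nat_lit 410))
(Tr.nd (nat_lit 505) (Tr.lf (nat_lit 411))
(Tr.lf (nat_lit 412)))))))
(Tr.nd (nat_lit 517) (Tr.nd (nat_lit 511) (Tr.nd (nat_lit 508) (Tr.nd (nat_lit 507) (Tr.lf (nat_lit 412))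
(Tr.lf (nat_lit 414)))
(Tr.nd (nat_lit 509) (Tr.lf (nat_lit 415))
(Tr.nd (nat_lit 510) (Tr.lf (nat_lit 415))
(Tr.lf (nat_lit 415)))))
(Tr.nd (nat_lit 514) (Tr.nd (nat_lit 512) (Tr.lf (nat_lit 416))
(Tr.nd (nat_lit 513) (Tr.lf (nat_lit 416))
(Tr.lf (nat_lit 416))))
(Tr.nd (nat_lit 515) (Tr.lf (nat_lit 417))
(Tr.nd (nat_lit 516) (Tr.lf (nat_lit 417))
(Tr.lf (nat_lit 418))))))
(Tr.nd (nat_lit 522) (Tr.nd (nat_lit 519) (Tr.nd (nat_lit 518) (Tr.lf (nat_lit 420))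
(Tr.lf (nat_lit 420)))
(Tr.nd (nat_lit 520) (Tr.lf (nat_lit 420))
(Tr.nd (nat_lit 521) (Tr.lf (nat_lit 421))
(Tr.lf (nat_lit 421)))))
(Tr.nd (nat_lit 525) (Tr.nd (nat_lit 523) (Tr.lf (nat_lit 421))
(Tr.nd (nat_lit 524) (Tr.lf (nat_lit 422))
(Tr.lf (nat_lit 422))))
(Tr.nd (nat_lit 526) (Tr.lf (nat_lit 422))
(Tr.nd (nat_lit 527) (Tr.lf (nat_lit 423))
(Tr.lf (nat_lit 425))))))))))
(Tr.nd (nat_lit 616) (Tr.nd (nat_lit 572) (Tr.nd (nat_lit 550) (Tr.nd (nat_lit 539) (Tr.nd (nat_lit 533) (Tr.nd (nat_lit 530) (Tr.nd (nat_lit 529) (Tr.lf (nat_lit 425))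
(Tr.lf (nat_lit 426)))
(Tr.nd (nat_lit 531) (Tr.lf (nat_lit 426))
(Tr.nd (nat_lit 532) (Tr.lf (nat_lit 427))
(Tr.lf (nat_lit 428)))))
(Tr.nd (nat_lit 536) (Tr.nd (nat_lit 534) (Tr.lf (nat_lit 428))
(Tr.nd (nat_lit 535) (Tr.lf (nat_lit 428))
(Tr.lf (nat_lit 429))))
(Tr.nd (nat_lit 537) (Tr.lf (nat_lit 429))
(Tr.nd (nat_lit 538) (Tr.lf (nat_lit 429))
(Tr.lf (nat_lit 430))))))
(Tr.nd (nat_lit 544) (Tr.nd (nat_lit 541) (Tr.nd (nat_lit 540) (Tr.lf (nat_lit 431))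
(Tr.lf (nat_lit 431)))
(Tr.nd (nat_lit 542) (Tr.lf (nat_lit 431))
(Tr.nd (nat_lit 543) (Tr.lf (nat_lit 431))
(Tr.lf (nat_lit 432)))))
(Tr.nd (nat_lit 547) (Tr.nd (nat_lit 545) (Tr.lf (nat_lit 432))
(Tr.nd (nat_lit 546) (Tr.lf (nat_lit 432))
(Tr.lf (nat_lit 432))))
(Tr.nd (nat_lit 548) (Tr.lf (nat_lit 433))
(Tr.nd (nat_lit 549) (Tr.lf (nat_lit 434))
(Tr.lf (nat_lit 436)))))))
(Tr.nd (nat_lit 561) (Tr.nd (nat_lit 555) (Tr.nd (nat_lit 552) (Tr.nd (nat_lit 551) (Tr.lf (nat_lit 436))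
(Tr.lf (nat_lit 436)))
(Tr.nd (nat_lit 553) (Tr.lf (nat_lit 437))
(Tr.nd (nat_lit 554) (Tr.lf (nat_lit 437))
(Tr.lf (nat_lit 438)))))
(Tr.nd (nat_lit 558) (Tr.nd (nat_lit 556) (Tr.lf (nat_lit 440))
(Tr.nd (nat_lit 557) (Tr.lf (nat_lit 441))
(Tr.lf (nat_lit 442))))
(Tr.nd (nat_lit 559) (Tr.lf (nat_lit 443))
(Tr.nd (nat_lit 560) (Tr.lf (nat_lit 444))
(Tr.lf (nat_lit 444))))))
(Tr.nd (nat_lit 566) (Tr.nd (nat_lit 563) (Tr.nd (nat_lit 562) (Tr.lf (nat_lit 445))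
(Tr.lf (nat_lit 445)))
(Tr.nd (nat_lit 564) (Tr.lf (nat_lit 453))
(Tr.nd (nat_lit 565) (Tr.lf (nat_lit 454))
(Tr.lf (nat_lit 455)))))
(Tr.nd (nat_lit 569) (Tr.nd (nat_lit 567) (Tr.lf (nat_lit 456))
(Tr.nd (nat_lit 568) (Tr.lf (nat_lit 458))
(Tr.lf (nat_lit 459))))
(Tr.nd (nat_lit 570) (Tr.lf (nat_lit 464))
(Tr.nd (nat_lit 571) (Tr.lf (nat_lit 465))
(Tr.lf (nat_lit 466))))))))
(Tr.nd (nat_lit 594) (Tr.nd (nat_lit 583) (Tr.nd (nat_lit 577) (Tr.nd (nat_lit 574) (Tr.nd (nat_lit 573) (Tr.lf (nat_lit 471))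
(Tr.lf (nat_lit 472)))
(Tr.nd (nat_lit 575) (Tr.lf (nat_lit 473))
(Tr.nd (nat_lit 576) (Tr.lf (nat_lit 474))
(Tr.lf (nat_lit 475)))))
(Tr.nd (nat_lit 580) (Tr.nd (nat_lit 578) (Tr.lf (nat_lit 476))
(Tr.nd (nat_lit 579) (Tr.lf (nat_lit 477))
(Tr.lf (nat_lit 478))))
(Tr.nd (nat_lit 581) (Tr.lf (nat_lit 479))
(Tr.nd (nat_lit 582) (Tr.lf (nat_lit 479))
(Tr.lf (nat_lit 480))))))
(Tr.nd (nat_lit 588) (Tr.nd (nat_lit 585) (Tr.nd (nat_lit 584) (Tr.lf (nat_lit 481))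
(Tr.lf (nat_lit 482)))
(Tr.nd (nat_lit 586) (Tr.lf (nat_lit 483))
(Tr.nd (nat_lit 587) (Tr.lf (nat_lit 483))
(Tr.lf (nat_lit 484)))))
(Tr.nd (nat_lit 591) (Tr.nd (nat_lit 589) (Tr.lf (nat_lit 485))
(Tr.nd (nat_lit 590) (Tr.lf (nat_lit 485))
(Tr.lf (nat_lit 486))))
(Tr.nd (nat_lit 592) (Tr.lf (nat_lit 486))
(Tr.nd (nat_lit 593) (Tr.lf (nat_lit 488))
(Tr.lf (nat_lit 489)))))))
(Tr.nd (nat_lit 605) (Tr.nd (nat_lit 599) (Tr.nd (nat_lit 596) (Tr.nd (nat_lit 595) (Tr.lf (nat_lit 489))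
(Tr.lf (nat_lit 490)))
(Tr.nd (nat_lit 597) (Tr.lf (nat_lit 491))
(Tr.nd (nat_lit 598) (Tr.lf (nat_lit 492))
(Tr.lf (nat_lit 493)))))
(Tr.nd (nat_lit 602) (Tr.nd (nat_lit 600) (Tr.lf (nat_lit 494))
(Tr.nd (nat_lit 601) (Tr.lf (nat_lit 494))
(Tr.lf (nat_lit 495))))
(Tr.nd (nat_lit 603) (Tr.lf (nat_lit 495))
(Tr.nd (nat_lit 604) (Tr.lf (nat_lit 497))
(Tr.lf (nat_lit 497))))))
(Tr.nd (nat_lit 610) (Tr.nd (nat_lit 607) (Tr.nd (nat_lit 606) (Tr.lf (nat_lit 498))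
(Tr.lf (nat_lit 498)))
(Tr.nd (nat_lit 608) (Tr.lf (nat_lit 498))
(Tr.nd (nat_lit 609) (Tr.lf (nat_lit 499))
(Tr.lf (nat_lit 501)))))
(Tr.nd (nat_lit 613) (Tr.nd (nat_lit 611) (Tr.lf (nat_lit 502))
(Tr.nd (nat_lit 612) (Tr.lf (nat_lit 502))
(Tr.lf (nat_lit 503))))
(Tr.nd (nat_lit 614) (Tr.lf (nat_lit 505))
(Tr.nd (nat_lit 615) (Tr.lf (nat_lit 505))
(Tr.lf (nat_lit 506)))))))))
(Tr.nd (nat_lit 660) (Tr.nd (nat_lit 638) (Tr.nd (nat_lit 627) (Tr.nd (nat_lit 621) (Tr.nd (nat_lit 618) (Tr.nd (nat_lit 617) (Tr.lf (nat_lit 507))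
(Tr.lf (nat_lit 508)))
(Tr.nd (nat_lit 619) (Tr.lf (nat_lit 508))
(Tr.nd (nat_lit 620) (Tr.lf (nat_lit 509))
(Tr.lf (nat_lit 509)))))
(Tr.nd (nat_lit 624) (Tr.nd (nat_lit 622) (Tr.lf (nat_lit 510))
(Tr.nd (nat_lit 623) (Tr.lf (nat_lit 510))
(Tr.lf (nat_lit 511))))
(Tr.nd (nat_lit 625) (Tr.lf (nat_lit 511))
(Tr.nd (nat_lit 626) (Tr.lf (nat_lit 512))
(Tr.lf (nat_lit 512))))))
(Tr.nd (nat_lit 632) (Tr.nd (nat_lit 629) (Tr.nd (nat_lit 628) (Tr.lf (nat_lit 514))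
(Tr.lf (nat_lit 516)))
(Tr.nd (nat_lit 630) (Tr.lf (nat_lit 517))
(Tr.nd (nat_lit 631) (Tr.lf (nat_lit 518))
(Tr.lf (nat_lit 518)))))
(Tr.nd (nat_lit 635) (Tr.nd (nat_lit 633) (Tr.lf (nat_lit 518))
(Tr.nd (nat_lit 634) (Tr.lf (nat_lit 520))
(Tr.lf (nat_lit 520))))
(Tr.nd (nat_lit 636) (Tr.lf (nat_lit 521))
(Tr.nd (nat_lit 637) (Tr.lf (nat_lit 521))
(Tr.lf (nat_lit 521)))))))
(Tr.nd (nat_lit 649) (Tr.nd (nat_lit 643) (Tr.nd (nat_lit 640) (Tr.nd (nat_lit 639) (Tr.lf (nat_lit 522))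
(Tr.lf (nat_lit 523)))
(Tr.nd (nat_lit 641) (Tr.lf (nat_lit 523))
(Tr.nd (nat_lit 642) (Tr.lf (nat_lit 524))
(Tr.lf (nat_lit 524)))))
(Tr.nd (nat_lit 646) (Tr.nd (nat_lit 644) (Tr.lf (nat_lit 524))
(Tr.nd (nat_lit 645) (Tr.lf (nat_lit 527))
(Tr.lf (nat_lit 528))))
(Tr.nd (nat_lit 647) (Tr.lf (nat_lit 528))
(Tr.nd (nat_lit 648) (Tr.lf (nat_lit 529))
(Tr.lf (nat_lit 530))))))
(Tr.nd (nat_lit 654) (Tr.nd (nat_lit 651) (Tr.nd (nat_lit 650) (Tr.lf (nat_lit 531))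
(Tr.lf (nat_lit 531)))
(Tr.nd (nat_lit 652) (Tr.lf (nat_lit 532))
(Tr.nd (nat_lit 653) (Tr.lf (nat_lit 533))
(Tr.lf (nat_lit 533)))))
(Tr.nd (nat_lit 657) (Tr.nd (nat_lit 655) (Tr.lf (nat_lit 533))
(Tr.nd (nat_lit 656) (Tr.lf (nat_lit 535))
(Tr.lf (nat_lit 536))))
(Tr.nd (nat_lit 658) (Tr.lf (nat_lit 539))
(Tr.nd (nat_lit 659) (Tr.lf (nat_lit 540))
(Tr.lf (nat_lit 540))))))))
(Tr.nd (nat_lit 682) (Tr.nd (nat_lit 671) (Tr.nd (nat_lit 665) (Tr.nd (nat_lit 662) (Tr.nd (nat_lit 661) (Tr.lf (nat_lit 540))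
(Tr.lf (nat_lit 540)))
(Tr.nd (nat_lit 663) (Tr.lf (nat_lit 541))
(Tr.nd (nat_lit 664) (Tr.lf (nat_lit 544))
(Tr.lf (nat_lit 544)))))
(Tr.nd (nat_lit 668) (Tr.nd (nat_lit 666) (Tr.lf (nat_lit 544))
(Tr.nd (nat_lit 667) (Tr.lf (nat_lit 545))
(Tr.lf (nat_lit 545))))
(Tr.nd (nat_lit 669) (Tr.lf (nat_lit 548))
(Tr.nd (nat_lit 670) (Tr.lf (nat_lit 549))
(Tr.lf (nat_lit 549))))))
(Tr.nd (nat_lit 676) (Tr.nd (nat_lit 673) (Tr.nd (nat_lit 672) (Tr.lf (nat_lit 549))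
(Tr.lf (nat_lit 550)))
(Tr.nd (nat_lit 674) (Tr.lf (nat_lit 552))
(Tr.nd (nat_lit 675) (Tr.lf (nat_lit 552))
(Tr.lf (nat_lit 554)))))
(Tr.nd (nat_lit 679) (Tr.nd (nat_lit 677) (Tr.lf (nat_lit 556))
(Tr.nd (nat_lit 678) (Tr.lf (nat_lit 559))
(Tr.lf (nat_lit 560))))
(Tr.nd (nat_lit 680) (Tr.lf (nat_lit 561))
(Tr.nd (nat_lit 681) (Tr.lf (nat_lit 562))
(Tr.lf (nat_lit 564)))))))
(Tr.nd (nat_lit 693) (Tr.nd (nat_lit 687) (Tr.nd (nat_lit 684) (Tr.nd (nat_lit 683) (Tr.lf (nat_lit 564))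
(Tr.lf (nat_lit 566)))
(Tr.nd (nat_lit 685) (Tr.lf (nat_lit 568))
(Tr.nd (nat_lit 686) (Tr.lf (nat_lit 569))
(Tr.lf (nat_lit 570)))))
(Tr.nd (nat_lit 690) (Tr.nd (nat_lit 688) (Tr.lf (nat_lit 571))
(Tr.nd (nat_lit 689) (Tr.lf (nat_lit 572))
(Tr.lf (nat_lit 573))))
(Tr.nd (nat_lit 691) (Tr.lf (nat_lit 574))
(Tr.nd (nat_lit 692) (Tr.lf (nat_lit 575))
(Tr.lf (nat_lit 575))))))
(Tr.nd (nat_lit 698) (Tr.nd (nat_lit 695) (Tr.nd (nat_lit 694) (Tr.lf (nat_lit 576))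
(Tr.lf (nat_lit 577)))
(Tr.nd (nat_lit 696) (Tr.lf (nat_lit 577))
(Tr.nd (nat_lit 697) (Tr.lf (nat_lit 579))
(Tr.lf (nat_lit 579)))))
(Tr.nd (nat_lit 701) (Tr.nd (nat_lit 699) (Tr.lf (nat_lit 580))
(Tr.nd (nat_lit 700) (Tr.lf (nat_lit 580))
(Tr.lf (nat_lit 582))))
(Tr.nd (nat_lit 702) (Tr.lf (nat_lit 582))
(Tr.nd (nat_lit 703) (Tr.lf (nat_lit 584))
(Tr.lf (nat_lit 585))))))))))))
(Tr.nd (nat_lit 1056) (Tr.nd (nat_lit 880) (Tr.nd (nat_lit 792) (Tr.nd (nat_lit 748) (Tr.nd (nat_lit 726) (Tr.nd (nat_lit 715) (Tr.nd (nat_lit 709) (Tr.nd (nat_lit 706) (Tr.nd (nat_lit 705) (Tr.lf (nat_lit 585))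
(Tr.lf (nat_lit 586)))
(Tr.nd (nat_lit 707) (Tr.lf (nat_lit 587))
(Tr.nd (nat_lit 708) (Tr.lf (nat_lit 588))
(Tr.lf (nat_lit 588)))))
(Tr.nd (nat_lit 712) (Tr.nd (nat_lit 710) (Tr.lf (nat_lit 589))
(Tr.nd (nat_lit 711) (Tr.lf (nat_lit 590))
(Tr.lf (nat_lit 590))))
(Tr.nd (nat_lit 713) (Tr.lf (nat_lit 591))
(Tr.nd (nat_lit 714) (Tr.lf (nat_lit 591))
(Tr.lf (nat_lit 592))))))
(Tr.nd (nat_lit 720) (Tr.nd (nat_lit 717) (Tr.nd (nat_lit 716) (Tr.lf (nat_lit 593))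
(Tr.lf (nat_lit 595)))
(Tr.nd (nat_lit 718) (Tr.lf (nat_lit 596))
(Tr.nd (nat_lit 719) (Tr.lf (nat_lit 598))
(Tr.lf (nat_lit 599)))))
(Tr.nd (nat_lit 723) (Tr.nd (nat_lit 721) (Tr.lf (nat_lit 599))
(Tr.nd (nat_lit 722) (Tr.lf (nat_lit 599))
(Tr.lf (nat_lit 601))))
(Tr.nd (nat_lit 724) (Tr.lf (nat_lit 601))
(Tr.nd (nat_lit 725) (Tr.lf (nat_lit 602))
(Tr.lf (nat_lit 602)))))))
(Tr.nd (nat_lit 737) (Tr.nd (nat_lit 731) (Tr.nd (nat_lit 728) (Tr.nd (nat_lit 727) (Tr.lf (nat_lit 603))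
(Tr.lf (nat_lit 603)))
(Tr.nd (nat_lit 729) (Tr.lf (nat_lit 604))
(Tr.nd (nat_lit 730) (Tr.lf (nat_lit 604))
(Tr.lf (nat_lit 605)))))
(Tr.nd (nat_lit 734) (Tr.nd (nat_lit 732) (Tr.lf (nat_lit 605))
(Tr.nd (nat_lit 733) (Tr.lf (nat_lit 605))
(Tr.lf (nat_lit 606))))
(Tr.nd (nat_lit 735) (Tr.lf (nat_lit 607))
(Tr.nd (nat_lit 736) (Tr.lf (nat_lit 609))
(Tr.lf (nat_lit 609))))))
(Tr.nd (nat_lit 742) (Tr.nd (nat_lit 739) (Tr.nd (nat_lit 738) (Tr.lf (nat_lit 609))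
(Tr.lf (nat_lit 610)))
(Tr.nd (nat_lit 740) (Tr.lf (nat_lit 610))
(Tr.nd (nat_lit 741) (Tr.lf (nat_lit 611))
(Tr.lf (nat_lit 611)))))
(Tr.nd (nat_lit 745) (Tr.nd (nat_lit 743) (Tr.lf (nat_lit 613))
(Tr.nd (nat_lit 744) (Tr.lf (nat_lit 613))
(Tr.lf (nat_lit 614))))
(Tr.nd (nat_lit 746) (Tr.lf (nat_lit 614))
(Tr.nd (nat_lit 747) (Tr.lf (nat_lit 615))
(Tr.lf (nat_lit 615))))))))
(Tr.nd (nat_lit 770) (Tr.nd (nat_lit 759) (Tr.nd (nat_lit 753) (Tr.nd (nat_lit 750) (Tr.nd (nat_lit 749) (Tr.lf (nat_lit 616))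
(Tr.lf (nat_lit 617)))
(Tr.nd (nat_lit 751) (Tr.lf (nat_lit 617))
(Tr.nd (nat_lit 752) (Tr.lf (nat_lit 617))
(Tr.lf (nat_lit 617)))))
(Tr.nd (nat_lit 756) (Tr.nd (nat_lit 754) (Tr.lf (nat_lit 618))
(Tr.nd (nat_lit 755) (Tr.lf (nat_lit 619))
(Tr.lf (nat_lit 620))))
(Tr.nd (nat_lit 757) (Tr.lf (nat_lit 620))
(Tr.nd (nat_lit 758) (Tr.lf (nat_lit 621))
(Tr.lf (nat_lit 621))))))
(Tr.nd (nat_lit 764) (Tr.nd (nat_lit 761) (Tr.nd (nat_lit 760) (Tr.lf (nat_lit 623))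
(Tr.lf (nat_lit 623)))
(Tr.nd (nat_lit 762) (Tr.lf (nat_lit 623))
(Tr.nd (nat_lit 763) (Tr.lf (nat_lit 624))
(Tr.lf (nat_lit 624)))))
(Tr.nd (nat_lit 767) (Tr.nd (nat_lit 765) (Tr.lf (nat_lit 625))
(Tr.nd (nat_lit 766) (Tr.lf (nat_lit 627))
(Tr.lf (nat_lit 629))))
(Tr.nd (nat_lit 768) (Tr.lf (nat_lit 630))
(Tr.nd (nat_lit 769) (Tr.lf (nat_lit 631))
(Tr.lf (nat_lit 633)))))))
(Tr.nd (nat_lit 781) (Tr.nd (nat_lit 775) (Tr.nd (nat_lit 772) (Tr.nd (nat_lit 771) (Tr.lf (nat_lit 633))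
(Tr.lf (nat_lit 633)))
(Tr.nd (nat_lit 773) (Tr.lf (nat_lit 633))
(Tr.nd (nat_lit 774) (Tr.lf (nat_lit 634))
(Tr.lf (nat_lit 635)))))
(Tr.nd (nat_lit 778) (Tr.nd (nat_lit 776) (Tr.lf (nat_lit 635))
(Tr.nd (nat_lit 777) (Tr.lf (nat_lit 636))
(Tr.lf (nat_lit 636))))
(Tr.nd (nat_lit 779) (Tr.lf (nat_lit 636))
(Tr.nd (nat_lit 780) (Tr.lf (nat_lit 639))
(Tr.lf (nat_lit 639))))))
(Tr.nd (nat_lit 786) (Tr.nd (nat_lit 783) (Tr.nd (nat_lit 782) (Tr.lf (nat_lit 640))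
(Tr.lf (nat_lit 641)))
(Tr.nd (nat_lit 784) (Tr.lf (nat_lit 642))
(Tr.nd (nat_lit 785) (Tr.lf (nat_lit 644))
(Tr.lf (nat_lit 645)))))
(Tr.nd (nat_lit 789) (Tr.nd (nat_lit 787) (Tr.lf (nat_lit 645))
(Tr.nd (nat_lit 788) (Tr.lf (nat_lit 646))
(Tr.lf (nat_lit 647))))
(Tr.nd (nat_lit 790) (Tr.lf (nat_lit 647))
(Tr.nd (nat_lit 791) (Tr.lf (nat_lit 648))
(Tr.lf (nat_lit 651)))))))))
(Tr.nd (nat_lit 836) (Tr.nd (nat_lit 814) (Tr.nd (nat_lit 803) (Tr.nd (nat_lit 797) (Tr.nd (nat_lit 794) (Tr.nd (nat_lit 793) (Tr.lf (nat_lit 651))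
(Tr.lf (nat_lit 652)))
(Tr.nd (nat_lit 795) (Tr.lf (nat_lit 652))
(Tr.nd (nat_lit 796) (Tr.lf (nat_lit 652))
(Tr.lf (nat_lit 653)))))
(Tr.nd (nat_lit 800) (Tr.nd (nat_lit 798) (Tr.lf (nat_lit 655))
(Tr.nd (nat_lit 799) (Tr.lf (nat_lit 656))
(Tr.lf (nat_lit 657))))
(Tr.nd (nat_lit 801) (Tr.lf (nat_lit 658))
(Tr.nd (nat_lit 802) (Tr.lf (nat_lit 658))
(Tr.lf (nat_lit 658))))))
(Tr.nd (nat_lit 808) (Tr.nd (nat_lit 805) (Tr.nd (nat_lit 804) (Tr.lf (nat_lit 659))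
(Tr.lf (nat_lit 659)))
(Tr.nd (nat_lit 806) (Tr.lf (nat_lit 659))
(Tr.nd (nat_lit 807) (Tr.lf (nat_lit 660))
(Tr.lf (nat_lit 663)))))
(Tr.nd (nat_lit 811) (Tr.nd (nat_lit 809) (Tr.lf (nat_lit 663))
(Tr.nd (nat_lit 810) (Tr.lf (nat_lit 664))
(Tr.lf (nat_lit 665))))
(Tr.nd (nat_lit 812) (Tr.lf (nat_lit 666))
(Tr.nd (nat_lit 813) (Tr.lf (nat_lit 669))
(Tr.lf (nat_lit 669)))))))
(Tr.nd (nat_lit 825) (Tr.nd (nat_lit 819) (Tr.nd (nat_lit 816) (Tr.nd (nat_lit 815) (Tr.lf (nat_lit 670))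
(Tr.lf (nat_lit 673)))
(Tr.nd (nat_lit 817) (Tr.lf (nat_lit 677))
(Tr.nd (nat_lit 818) (Tr.lf (nat_lit 679))
(Tr.lf (nat_lit 681)))))
(Tr.nd (nat_lit 822) (Tr.nd (nat_lit 820) (Tr.lf (nat_lit 683))
(Tr.nd (nat_lit 821) (Tr.lf (nat_lit 686))
(Tr.lf (nat_lit 688))))
(Tr.nd (nat_lit 823) (Tr.lf (nat_lit 689))
(Tr.nd (nat_lit 824) (Tr.lf (nat_lit 690))
(Tr.lf (nat_lit 690))))))
(Tr.nd (nat_lit 830) (Tr.nd (nat_lit 827) (Tr.nd (nat_lit 826) (Tr.lf (nat_lit 691))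
(Tr.lf (nat_lit 691)))
(Tr.nd (nat_lit 828) (Tr.lf (nat_lit 692))
(Tr.nd (nat_lit 829) (Tr.lf (nat_lit 693))
(Tr.lf (nat_lit 693)))))
(Tr.nd (nat_lit 833) (Tr.nd (nat_lit 831) (Tr.lf (nat_lit 694))
(Tr.nd (nat_lit 832) (Tr.lf (nat_lit 695))
(Tr.lf (nat_lit 696))))
(Tr.nd (nat_lit 834) (Tr.lf (nat_lit 698))
(Tr.nd (nat_lit 835) (Tr.lf (nat_lit 698))
(Tr.lf (nat_lit 699))))))))
(Tr.nd (nat_lit 858) (Tr.nd (nat_lit 847) (Tr.nd (nat_lit 841) (Tr.nd (nat_lit 838) (Tr.nd (nat_lit 837) (Tr.lf (nat_lit 699))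
(Tr.lf (nat_lit 700)))
(Tr.nd (nat_lit 839) (Tr.lf (nat_lit 701))
(Tr.nd (nat_lit 840) (Tr.lf (nat_lit 701))
(Tr.lf (nat_lit 702)))))
(Tr.nd (nat_lit 844) (Tr.nd (nat_lit 842) (Tr.lf (nat_lit 703))
(Tr.nd (nat_lit 843) (Tr.lf (nat_lit 704))
(Tr.lf (nat_lit 704))))
(Tr.nd (nat_lit 845) (Tr.lf (nat_lit 705))
(Tr.nd (nat_lit 846) (Tr.lf (nat_lit 707))
(Tr.lf (nat_lit 708))))))
(Tr.nd (nat_lit 852) (Tr.nd (nat_lit 849) (Tr.nd (nat_lit 848) (Tr.lf (nat_lit 708))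
(Tr.lf (nat_lit 709)))
(Tr.nd (nat_lit 850) (Tr.lf (nat_lit 710))
(Tr.nd (nat_lit 851) (Tr.lf (nat_lit 711))
(Tr.lf (nat_lit 712)))))
(Tr.nd (nat_lit 855) (Tr.nd (nat_lit 853) (Tr.lf (nat_lit 713))
(Tr.nd (nat_lit 854) (Tr.lf (nat_lit 714))
(Tr.lf (nat_lit 715))))
(Tr.nd (nat_lit 856) (Tr.lf (nat_lit 716))
(Tr.nd (nat_lit 857) (Tr.lf (nat_lit 719))
(Tr.lf (nat_lit 719)))))))
(Tr.nd (nat_lit 869) (Tr.nd (nat_lit 863) (Tr.nd (nat_lit 860) (Tr.nd (nat_lit 859) (Tr.lf (nat_lit 720))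
(Tr.lf (nat_lit 721)))
(Tr.nd (nat_lit 861) (Tr.lf (nat_lit 721))
(Tr.nd (nat_lit 862) (Tr.lf (nat_lit 722))
(Tr.lf (nat_lit 722)))))
(Tr.nd (nat_lit 866) (Tr.nd (nat_lit 864) (Tr.lf (nat_lit 722))
(Tr.nd (nat_lit 865) (Tr.lf (nat_lit 723))
(Tr.lf (nat_lit 724))))
(Tr.nd (nat_lit 867) (Tr.lf (nat_lit 724))
(Tr.nd (nat_lit 868) (Tr.lf (nat_lit 725))
(Tr.lf (nat_lit 726))))))
(Tr.nd (nat_lit 874) (Tr.nd (nat_lit 871) (Tr.nd (nat_lit 870) (Tr.lf (nat_lit 726))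
(Tr.lf (nat_lit 727)))
(Tr.nd (nat_lit 872) (Tr.lf (nat_lit 728))
(Tr.nd (nat_lit 873) (Tr.lf (nat_lit 728))
(Tr.lf (nat_lit 730)))))
(Tr.nd (nat_lit 877) (Tr.nd (nat_lit 875) (Tr.lf (nat_lit 730))
(Tr.nd (nat_lit 876) (Tr.lf (nat_lit 731))
(Tr.lf (nat_lit 732))))
(Tr.nd (nat_lit 878) (Tr.lf (nat_lit 735))
(Tr.nd (nat_lit 879) (Tr.lf (nat_lit 735))
(Tr.lf (nat_lit 735))))))))))
(Tr.nd (nat_lit 968) (Tr.nd (nat_lit 924) (Tr.nd (nat_lit 902) (Tr.nd (nat_lit 891) (Tr.nd (nat_lit 885) (Tr.nd (nat_lit 882) (Tr.nd (nat_lit 881) (Tr.lf (nat_lit 736))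
(Tr.lf (nat_lit 736)))
(Tr.nd (nat_lit 883) (Tr.lf (nat_lit 737))
(Tr.nd (nat_lit 884) (Tr.lf (nat_lit 738))
(Tr.lf (nat_lit 738)))))
(Tr.nd (nat_lit 888) (Tr.nd (nat_lit 886) (Tr.lf (nat_lit 738))
(Tr.nd (nat_lit 887) (Tr.lf (nat_lit 739))
(Tr.lf (nat_lit 740))))
(Tr.nd (nat_lit 889) (Tr.lf (nat_lit 740))
(Tr.nd (nat_lit 890) (Tr.lf (nat_lit 742))
(Tr.lf (nat_lit 743))))))
(Tr.nd (nat_lit 896) (Tr.nd (nat_lit 893) (Tr.nd (nat_lit 892) (Tr.lf (nat_lit 744))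
(Tr.lf (nat_lit 746)))
(Tr.nd (nat_lit 894) (Tr.lf (nat_lit 747))
(Tr.nd (nat_lit 895) (Tr.lf (nat_lit 748))
(Tr.lf (nat_lit 749)))))
(Tr.nd (nat_lit 899) (Tr.nd (nat_lit 897) (Tr.lf (nat_lit 749))
(Tr.nd (nat_lit 898) (Tr.lf (nat_lit 750))
(Tr.lf (nat_lit 750))))
(Tr.nd (nat_lit 900) (Tr.lf (nat_lit 751))
(Tr.nd (nat_lit 901) (Tr.lf (nat_lit 754))
(Tr.lf (nat_lit 754)))))))
(Tr.nd (nat_lit 913) (Tr.nd (nat_lit 907) (Tr.nd (nat_lit 904) (Tr.nd (nat_lit 903) (Tr.lf (nat_lit 754))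
(Tr.lf (nat_lit 755)))
(Tr.nd (nat_lit 905) (Tr.lf (nat_lit 755))
(Tr.nd (nat_lit 906) (Tr.lf (nat_lit 757))
(Tr.lf (nat_lit 757)))))
(Tr.nd (nat_lit 910) (Tr.nd (nat_lit 908) (Tr.lf (nat_lit 758))
(Tr.nd (nat_lit 909) (Tr.lf (nat_lit 759))
(Tr.lf (nat_lit 759))))
(Tr.nd (nat_lit 911) (Tr.lf (nat_lit 760))
(Tr.nd (nat_lit 912) (Tr.lf (nat_lit 761))
(Tr.lf (nat_lit 762))))))
(Tr.nd (nat_lit 918) (Tr.nd (nat_lit 915) (Tr.nd (nat_lit 914) (Tr.lf (nat_lit 766))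
(Tr.lf (nat_lit 767)))
(Tr.nd (nat_lit 916) (Tr.lf (nat_lit 768))
(Tr.nd (nat_lit 917) (Tr.lf (nat_lit 768))
(Tr.lf (nat_lit 769)))))
(Tr.nd (nat_lit 921) (Tr.nd (nat_lit 919) (Tr.lf (nat_lit 769))
(Tr.nd (nat_lit 920) (Tr.lf (nat_lit 769))
(Tr.lf (nat_lit 770))))
(Tr.nd (nat_lit 922) (Tr.lf (nat_lit 770))
(Tr.nd (nat_lit 923) (Tr.lf (nat_lit 771))
(Tr.lf (nat_lit 771))))))))
(Tr.nd (nat_lit 946) (Tr.nd (nat_lit 935) (Tr.nd (nat_lit 929) (Tr.nd (nat_lit 926) (Tr.nd (nat_lit 925) (Tr.lf (nat_lit 774))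
(Tr.lf (nat_lit 774)))
(Tr.nd (nat_lit 927) (Tr.lf (nat_lit 775))
(Tr.nd (nat_lit 928) (Tr.lf (nat_lit 776))
(Tr.lf (nat_lit 776)))))
(Tr.nd (nat_lit 932) (Tr.nd (nat_lit 930) (Tr.lf (nat_lit 777))
(Tr.nd (nat_lit 931) (Tr.lf (nat_lit 779))
(Tr.lf (nat_lit 780))))
(Tr.nd (nat_lit 933) (Tr.lf (nat_lit 781))
(Tr.nd (nat_lit 934) (Tr.lf (nat_lit 784))
(Tr.lf (nat_lit 786))))))
(Tr.nd (nat_lit 940) (Tr.nd (nat_lit 937) (Tr.nd (nat_lit 936) (Tr.lf (nat_lit 787))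
(Tr.lf (nat_lit 788)))
(Tr.nd (nat_lit 938) (Tr.lf (nat_lit 788))
(Tr.nd (nat_lit 939) (Tr.lf (nat_lit 789))
(Tr.lf (nat_lit 791)))))
(Tr.nd (nat_lit 943) (Tr.nd (nat_lit 941) (Tr.lf (nat_lit 791))
(Tr.nd (nat_lit 942) (Tr.lf (nat_lit 791))
(Tr.lf (nat_lit 793))))
(Tr.nd (nat_lit 944) (Tr.lf (nat_lit 794))
(Tr.nd (nat_lit 945) (Tr.lf (nat_lit 794))
(Tr.lf (nat_lit 794)))))))
(Tr.nd (nat_lit 957) (Tr.nd (nat_lit 951) (Tr.nd (nat_lit 948) (Tr.nd (nat_lit 947) (Tr.lf (nat_lit 794))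
(Tr.lf (nat_lit 796)))
(Tr.nd (nat_lit 949) (Tr.lf (nat_lit 797))
(Tr.nd (nat_lit 950) (Tr.lf (nat_lit 799))
(Tr.lf (nat_lit 800)))))
(Tr.nd (nat_lit 954) (Tr.nd (nat_lit 952) (Tr.lf (nat_lit 801))
(Tr.nd (nat_lit 953) (Tr.lf (nat_lit 801))
(Tr.lf (nat_lit 802))))
(Tr.nd (nat_lit 955) (Tr.lf (nat_lit 803))
(Tr.nd (nat_lit 956) (Tr.lf (nat_lit 803))
(Tr.lf (nat_lit 804))))))
(Tr.nd (nat_lit 962) (Tr.nd (nat_lit 959) (Tr.nd (nat_lit 958) (Tr.lf (nat_lit 807))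
(Tr.lf (nat_lit 808)))
(Tr.nd (nat_lit 960) (Tr.lf (nat_lit 812))
(Tr.nd (nat_lit 961) (Tr.lf (nat_lit 812))
(Tr.lf (nat_lit 818)))))
(Tr.nd (nat_lit 965) (Tr.nd (nat_lit 963) (Tr.lf (nat_lit 819))
(Tr.nd (nat_lit 964) (Tr.lf (nat_lit 820))
(Tr.lf (nat_lit 820))))
(Tr.nd (nat_lit 966) (Tr.lf (nat_lit 821))
(Tr.nd (nat_lit 967) (Tr.lf (nat_lit 821))
(Tr.lf (nat_lit 823)))))))))
(Tr.nd (nat_lit 1012) (Tr.nd (nat_lit 990) (Tr.nd (nat_lit 979) (Tr.nd (nat_lit 973) (Tr.nd (nat_lit 970) (Tr.nd (nat_lit 969) (Tr.lf (nat_lit 823))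
(Tr.lf (nat_lit 824)))
(Tr.nd (nat_lit 971) (Tr.lf (nat_lit 825))
(Tr.nd (nat_lit 972) (Tr.lf (nat_lit 828))
(Tr.lf (nat_lit 830)))))
(Tr.nd (nat_lit 976) (Tr.nd (nat_lit 974) (Tr.lf (nat_lit 832))
(Tr.nd (nat_lit 975) (Tr.lf (nat_lit 832))
(Tr.lf (nat_lit 833))))
(Tr.nd (nat_lit 977) (Tr.lf (nat_lit 834))
(Tr.nd (nat_lit 978) (Tr.lf (nat_lit 835))
(Tr.lf (nat_lit 837))))))
(Tr.nd (nat_lit 984) (Tr.nd (nat_lit 981) (Tr.nd (nat_lit 980) (Tr.lf (nat_lit 837))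
(Tr.lf (nat_lit 838)))
(Tr.nd (nat_lit 982) (Tr.lf (nat_lit 838))
(Tr.nd (nat_lit 983) (Tr.lf (nat_lit 839))
(Tr.lf (nat_lit 841)))))
(Tr.nd (nat_lit 987) (Tr.nd (nat_lit 985) (Tr.lf (nat_lit 842))
(Tr.nd (nat_lit 986) (Tr.lf (nat_lit 843))
(Tr.lf (nat_lit 844))))
(Tr.nd (nat_lit 988) (Tr.lf (nat_lit 844))
(Tr.nd (nat_lit 989) (Tr.lf (nat_lit 845))
(Tr.lf (nat_lit 846)))))))
(Tr.nd (nat_lit 1001) (Tr.nd (nat_lit 995) (Tr.nd (nat_lit 992) (Tr.nd (nat_lit 991) (Tr.lf (nat_lit 847))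
(Tr.lf (nat_lit 849)))
(Tr.nd (nat_lit 993) (Tr.lf (nat_lit 850))
(Tr.nd (nat_lit 994) (Tr.lf (nat_lit 851))
(Tr.lf (nat_lit 851)))))
(Tr.nd (nat_lit 998) (Tr.nd (nat_lit 996) (Tr.lf (nat_lit 856))
(Tr.nd (nat_lit 997) (Tr.lf (nat_lit 857))
(Tr.lf (nat_lit 857))))
(Tr.nd (nat_lit 999) (Tr.lf (nat_lit 857))
(Tr.nd (nat_lit 1000) (Tr.lf (nat_lit 858))
(Tr.lf (nat_lit 858))))))
(Tr.nd (nat_lit 1006) (Tr.nd (nat_lit 1003) (Tr.nd (nat_lit 1002) (Tr.lf (nat_lit 859))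
(Tr.lf (nat_lit 859)))
(Tr.nd (nat_lit 1004) (Tr.lf (nat_lit 860))
(Tr.nd (nat_lit 1005) (Tr.lf (nat_lit 861))
(Tr.lf (nat_lit 861)))))
(Tr.nd (nat_lit 1009) (Tr.nd (nat_lit 1007) (Tr.lf (nat_lit 862))
(Tr.nd (nat_lit 1008) (Tr.lf (nat_lit 863))
(Tr.lf (nat_lit 865))))
(Tr.nd (nat_lit 1010) (Tr.lf (nat_lit 866))
(Tr.nd (nat_lit 1011) (Tr.lf (nat_lit 868))
(Tr.lf (nat_lit 869))))))))
(Tr.nd (nat_lit 1034) (Tr.nd (nat_lit 1023) (Tr.nd (nat_lit 1017) (Tr.nd (nat_lit 1014) (Tr.nd (nat_lit 1013) (Tr.lf (nat_lit 870))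
(Tr.lf (nat_lit 871)))
(Tr.nd (nat_lit 1015) (Tr.lf (nat_lit 871))
(Tr.nd (nat_lit 1016) (Tr.lf (nat_lit 873))
(Tr.lf (nat_lit 874)))))
(Tr.nd (nat_lit 1020) (Tr.nd (nat_lit 1018) (Tr.lf (nat_lit 875))
(Tr.nd (nat_lit 1019) (Tr.lf (nat_lit 876))
(Tr.lf (nat_lit 877))))
(Tr.nd (nat_lit 1021) (Tr.lf (nat_lit 878))
(Tr.nd (nat_lit 1022) (Tr.lf (nat_lit 878))
(Tr.lf (nat_lit 878))))))
(Tr.nd (nat_lit 1028) (Tr.nd (nat_lit 1025) (Tr.nd (nat_lit 1024) (Tr.lf (nat_lit 879))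
(Tr.lf (nat_lit 880)))
(Tr.nd (nat_lit 1026) (Tr.lf (nat_lit 880))
(Tr.nd (nat_lit 1027) (Tr.lf (nat_lit 880))
(Tr.lf (nat_lit 881)))))
(Tr.nd (nat_lit 1031) (Tr.nd (nat_lit 1029) (Tr.lf (nat_lit 882))
(Tr.nd (nat_lit 1030) (Tr.lf (nat_lit 883))
(Tr.lf (nat_lit 883))))
(Tr.nd (nat_lit 1032) (Tr.lf (nat_lit 884))
(Tr.nd (nat_lit 1033) (Tr.lf (nat_lit 885))
(Tr.lf (nat_lit 886)))))))
(Tr.nd (nat_lit 1045) (Tr.nd (nat_lit 1039) (Tr.nd (nat_lit 1036) (Tr.nd (nat_lit 1035) (Tr.lf (nat_lit 887))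
(Tr.lf (nat_lit 888)))
(Tr.nd (nat_lit 1037) (Tr.lf (nat_lit 890))
(Tr.nd (nat_lit 1038) (Tr.lf (nat_lit 892))
(Tr.lf (nat_lit 893)))))
(Tr.nd (nat_lit 1042) (Tr.nd (nat_lit 1040) (Tr.lf (nat_lit 894))
(Tr.nd (nat_lit 1041) (Tr.lf (nat_lit 895))
(Tr.lf (nat_lit 896))))
(Tr.nd (nat_lit 1043) (Tr.lf (nat_lit 897))
(Tr.nd (nat_lit 1044) (Tr.lf (nat_lit 898))
(Tr.lf (nat_lit 899))))))
(Tr.nd (nat_lit 1050) (Tr.nd (nat_lit 1047) (Tr.nd (nat_lit 1046) (Tr.lf (nat_lit 900))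
(Tr.lf (nat_lit 901)))
(Tr.nd (nat_lit 1048) (Tr.lf (nat_lit 902))
(Tr.nd (nat_lit 1049) (Tr.lf (nat_lit 903))
(Tr.lf (nat_lit 904)))))
(Tr.nd (nat_lit 1053) (Tr.nd (nat_lit 1051) (Tr.lf (nat_lit 905))
(Tr.nd (nat_lit 1052) (Tr.lf (nat_lit 910))
(Tr.lf (nat_lit 911))))
(Tr.nd (nat_lit 1054) (Tr.lf (nat_lit 911))
(Tr.nd (nat_lit 1055) (Tr.lf (nat_lit 913))
(Tr.lf (nat_lit 914)))))))))))
(Tr.nd (nat_lit 1232) (Tr.nd (nat_lit 1144) (Tr.nd (nat_lit 1100) (Tr.nd (nat_lit 1078) (Tr.nd (nat_lit 1067) (Tr.nd (nat_lit 1061) (Tr.nd (nat_lit 1058) (Tr.nd (nat_lit 1057) (Tr.lf (nat_lit 915))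
(Tr.lf (nat_lit 915)))
(Tr.nd (nat_lit 1059) (Tr.lf (nat_lit 917))
(Tr.nd (nat_lit 1060) (Tr.lf (nat_lit 917))
(Tr.lf (nat_lit 918)))))
(Tr.nd (nat_lit 1064) (Tr.nd (nat_lit 1062) (Tr.lf (nat_lit 918))
(Tr.nd (nat_lit 1063) (Tr.lf (nat_lit 919))
(Tr.lf (nat_lit 919))))
(Tr.nd (nat_lit 1065) (Tr.lf (nat_lit 920))
(Tr.nd (nat_lit 1066) (Tr.lf (nat_lit 920))
(Tr.lf (nat_lit 921))))))
(Tr.nd (nat_lit 1072) (Tr.nd (nat_lit 1069) (Tr.nd (nat_lit 1068) (Tr.lf (nat_lit 922))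
(Tr.lf (nat_lit 923)))
(Tr.nd (nat_lit 1070) (Tr.lf (nat_lit 924))
(Tr.nd (nat_lit 1071) (Tr.lf (nat_lit 925))
(Tr.lf (nat_lit 926)))))
(Tr.nd (nat_lit 1075) (Tr.nd (nat_lit 1073) (Tr.lf (nat_lit 927))
(Tr.nd (nat_lit 1074) (Tr.lf (nat_lit 928))
(Tr.lf (nat_lit 931))))
(Tr.nd (nat_lit 1076) (Tr.lf (nat_lit 931))
(Tr.nd (nat_lit 1077) (Tr.lf (nat_lit 932))
(Tr.lf (nat_lit 933)))))))
(Tr.nd (nat_lit 1089) (Tr.nd (nat_lit 1083) (Tr.nd (nat_lit 1080) (Tr.nd (nat_lit 1079) (Tr.lf (nat_lit 934))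
(Tr.lf (nat_lit 936)))
(Tr.nd (nat_lit 1081) (Tr.lf (nat_lit 936))
(Tr.nd (nat_lit 1082) (Tr.lf (nat_lit 937))
(Tr.lf (nat_lit 937)))))
(Tr.nd (nat_lit 1086) (Tr.nd (nat_lit 1084) (Tr.lf (nat_lit 939))
(Tr.nd (nat_lit 1085) (Tr.lf (nat_lit 939))
(Tr.lf (nat_lit 940))))
(Tr.nd (nat_lit 1087) (Tr.lf (nat_lit 940))
(Tr.nd (nat_lit 1088) (Tr.lf (nat_lit 943))
(Tr.lf (nat_lit 944))))))
(Tr.nd (nat_lit 1094) (Tr.nd (nat_lit 1091) (Tr.nd (nat_lit 1090) (Tr.lf (nat_lit 944))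
(Tr.lf (nat_lit 945)))
(Tr.nd (nat_lit 1092) (Tr.lf (nat_lit 948))
(Tr.nd (nat_lit 1093) (Tr.lf (nat_lit 949))
(Tr.lf (nat_lit 950)))))
(Tr.nd (nat_lit 1097) (Tr.nd (nat_lit 1095) (Tr.lf (nat_lit 951))
(Tr.nd (nat_lit 1096) (Tr.lf (nat_lit 952))
(Tr.lf (nat_lit 954))))
(Tr.nd (nat_lit 1098) (Tr.lf (nat_lit 958))
(Tr.nd (nat_lit 1099) (Tr.lf (nat_lit 959))
(Tr.lf (nat_lit 962))))))))
(Tr.nd (nat_lit 1122) (Tr.nd (nat_lit 1111) (Tr.nd (nat_lit 1105) (Tr.nd (nat_lit 1102) (Tr.nd (nat_lit 1101) (Tr.lf (nat_lit 963))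
(Tr.lf (nat_lit 963)))
(Tr.nd (nat_lit 1103) (Tr.lf (nat_lit 965))
(Tr.nd (nat_lit 1104) (Tr.lf (nat_lit 973))
(Tr.lf (nat_lit 975)))))
(Tr.nd (nat_lit 1108) (Tr.nd (nat_lit 1106) (Tr.lf (nat_lit 976))
(Tr.nd (nat_lit 1107) (Tr.lf (nat_lit 977))
(Tr.lf (nat_lit 977))))
(Tr.nd (nat_lit 1109) (Tr.lf (nat_lit 978))
(Tr.nd (nat_lit 1110) (Tr.lf (nat_lit 978))
(Tr.lf (nat_lit 979))))))
(Tr.nd (nat_lit 1116) (Tr.nd (nat_lit 1113) (Tr.nd (nat_lit 1112) (Tr.lf (nat_lit 980))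
(Tr.lf (nat_lit 981)))
(Tr.nd (nat_lit 1114) (Tr.lf (nat_lit 983))
(Tr.nd (nat_lit 1115) (Tr.lf (nat_lit 983))
(Tr.lf (nat_lit 984)))))
(Tr.nd (nat_lit 1119) (Tr.nd (nat_lit 1117) (Tr.lf (nat_lit 984))
(Tr.nd (nat_lit 1118) (Tr.lf (nat_lit 986))
(Tr.lf (nat_lit 988))))
(Tr.nd (nat_lit 1120) (Tr.lf (nat_lit 989))
(Tr.nd (nat_lit 1121) (Tr.lf (nat_lit 991))
(Tr.lf (nat_lit 991)))))))
(Tr.nd (nat_lit 1133) (Tr.nd (nat_lit 1127) (Tr.nd (nat_lit 1124) (Tr.nd (nat_lit 1123) (Tr.lf (nat_lit 992))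
(Tr.lf (nat_lit 995)))
(Tr.nd (nat_lit 1125) (Tr.lf (nat_lit 996))
(Tr.nd (nat_lit 1126) (Tr.lf (nat_lit 996))
(Tr.lf (nat_lit 996)))))
(Tr.nd (nat_lit 1130) (Tr.nd (nat_lit 1128) (Tr.lf (nat_lit 997))
(Tr.nd (nat_lit 1129) (Tr.lf (nat_lit 998))
(Tr.lf (nat_lit 998))))
(Tr.nd (nat_lit 1131) (Tr.lf (nat_lit 999))
(Tr.nd (nat_lit 1132) (Tr.lf (nat_lit 999))
(Tr.lf (nat_lit 1000))))))
(Tr.nd (nat_lit 1138) (Tr.nd (nat_lit 1135) (Tr.nd (nat_lit 1134) (Tr.lf (nat_lit 1001))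
(Tr.lf (nat_lit 1002)))
(Tr.nd (nat_lit 1136) (Tr.lf (nat_lit 1005))
(Tr.nd (nat_lit 1137) (Tr.lf (nat_lit 1005))
(Tr.lf (nat_lit 1006)))))
(Tr.nd (nat_lit 1141) (Tr.nd (nat_lit 1139) (Tr.lf (nat_lit 1008))
(Tr.nd (nat_lit 1140) (Tr.lf (nat_lit 1009))
(Tr.lf (nat_lit 1010))))
(Tr.nd (nat_lit 1142) (Tr.lf (nat_lit 1011))
(Tr.nd (nat_lit 1143) (Tr.lf (nat_lit 1011))
(Tr.lf (nat_lit 1012)))))))))
(Tr.nd (nat_lit 1188) (Tr.nd (nat_lit 1166) (Tr.nd (nat_lit 1155) (Tr.nd (nat_lit 1149) (Tr.nd (nat_lit 1146) (Tr.nd (nat_lit 1145) (Tr.lf (nat_lit 1012))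
(Tr.lf (nat_lit 1013)))
(Tr.nd (nat_lit 1147) (Tr.lf (nat_lit 1013))
(Tr.nd (nat_lit 1148) (Tr.lf (nat_lit 1015))
(Tr.lf (nat_lit 1017)))))
(Tr.nd (nat_lit 1152) (Tr.nd (nat_lit 1150) (Tr.lf (nat_lit 1018))
(Tr.nd (nat_lit 1151) (Tr.lf (nat_lit 1019))
(Tr.lf (nat_lit 1020))))
(Tr.nd (nat_lit 1153) (Tr.lf (nat_lit 1020))
(Tr.nd (nat_lit 1154) (Tr.lf (nat_lit 1021))
(Tr.lf (nat_lit 1022))))))
(Tr.nd (nat_lit 1160) (Tr.nd (nat_lit 1157) (Tr.nd (nat_lit 1156) (Tr.lf (nat_lit 1023))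
(Tr.lf (nat_lit 1023)))
(Tr.nd (nat_lit 1158) (Tr.lf (nat_lit 1024))
(Tr.nd (nat_lit 1159) (Tr.lf (nat_lit 1024))
(Tr.lf (nat_lit 1025)))))
(Tr.nd (nat_lit 1163) (Tr.nd (nat_lit 1161) (Tr.lf (nat_lit 1026))
(Tr.nd (nat_lit 1162) (Tr.lf (nat_lit 1028))
(Tr.lf (nat_lit 1030))))
(Tr.nd (nat_lit 1164) (Tr.lf (nat_lit 1031))
(Tr.nd (nat_lit 1165) (Tr.lf (nat_lit 1032))
(Tr.lf (nat_lit 1032)))))))
(Tr.nd (nat_lit 1177) (Tr.nd (nat_lit 1171) (Tr.nd (nat_lit 1168) (Tr.nd (nat_lit 1167) (Tr.lf (nat_lit 1033))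
(Tr.lf (nat_lit 1034)))
(Tr.nd (nat_lit 1169) (Tr.lf (nat_lit 1035))
(Tr.nd (nat_lit 1170) (Tr.lf (nat_lit 1036))
(Tr.lf (nat_lit 1039)))))
(Tr.nd (nat_lit 1174) (Tr.nd (nat_lit 1172) (Tr.lf (nat_lit 1040))
(Tr.nd (nat_lit 1173) (Tr.lf (nat_lit 1041))
(Tr.lf (nat_lit 1042))))
(Tr.nd (nat_lit 1175) (Tr.lf (nat_lit 1043))
(Tr.nd (nat_lit 1176) (Tr.lf (nat_lit 1046))
(Tr.lf (nat_lit 1047))))))
(Tr.nd (nat_lit 1182) (Tr.nd (nat_lit 1179) (Tr.nd (nat_lit 1178) (Tr.lf (nat_lit 1058))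
(Tr.lf (nat_lit 1059)))
(Tr.nd (nat_lit 1180) (Tr.lf (nat_lit 1061))
(Tr.nd (nat_lit 1181) (Tr.lf (nat_lit 1062))
(Tr.lf (nat_lit 1066)))))
(Tr.nd (nat_lit 1185) (Tr.nd (nat_lit 1183) (Tr.lf (nat_lit 1066))
(Tr.nd (nat_lit 1184) (Tr.lf (nat_lit 1071))
(Tr.lf (nat_lit 1081))))
(Tr.nd (nat_lit 1186) (Tr.lf (nat_lit 1083))
(Tr.nd (nat_lit 1187) (Tr.lf (nat_lit 1084))
(Tr.lf (nat_lit 1084))))))))
(Tr.nd (nat_lit 1210) (Tr.nd (nat_lit 1199) (Tr.nd (nat_lit 1193) (Tr.nd (nat_lit 1190) (Tr.nd (nat_lit 1189) (Tr.lf (nat_lit 1085))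
(Tr.lf (nat_lit 1100)))
(Tr.nd (nat_lit 1191) (Tr.lf (nat_lit 1101))
(Tr.nd (nat_lit 1192) (Tr.lf (nat_lit 1103))
(Tr.lf (nat_lit 1103)))))
(Tr.nd (nat_lit 1196) (Tr.nd (nat_lit 1194) (Tr.lf (nat_lit 1108))
(Tr.nd (nat_lit 1195) (Tr.lf (nat_lit 1109))
(Tr.lf (nat_lit 1113))))
(Tr.nd (nat_lit 1197) (Tr.lf (nat_lit 1113))
(Tr.nd (nat_lit 1198) (Tr.lf (nat_lit 1114))
(Tr.lf (nat_lit 1118))))))
(Tr.nd (nat_lit 1204) (Tr.nd (nat_lit 1201) (Tr.nd (nat_lit 1200) (Tr.lf (nat_lit 1120))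
(Tr.lf (nat_lit 1120)))
(Tr.nd (nat_lit 1202) (Tr.lf (nat_lit 1121))
(Tr.nd (nat_lit 1203) (Tr.lf (nat_lit 1121))
(Tr.lf (nat_lit 1123)))))
(Tr.nd (nat_lit 1207) (Tr.nd (nat_lit 1205) (Tr.lf (nat_lit 1123))
(Tr.nd (nat_lit 1206) (Tr.lf (nat_lit 1124))
(Tr.lf (nat_lit 1124))))
(Tr.nd (nat_lit 1208) (Tr.lf (nat_lit 1125))
(Tr.nd (nat_lit 1209) (Tr.lf (nat_lit 1125))
(Tr.lf (nat_lit 1126)))))))
(Tr.nd (nat_lit 1221) (Tr.nd (nat_lit 1215) (Tr.nd (nat_lit 1212) (Tr.nd (nat_lit 1211) (Tr.lf (nat_lit 1127))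
(Tr.lf (nat_lit 1128)))
(Tr.nd (nat_lit 1213) (Tr.lf (nat_lit 1128))
(Tr.nd (nat_lit 1214) (Tr.lf (nat_lit 1131))
(Tr.lf (nat_lit 1132)))))
(Tr.nd (nat_lit 1218) (Tr.nd (nat_lit 1216) (Tr.lf (nat_lit 1133))
(Tr.nd (nat_lit 1217) (Tr.lf (nat_lit 1134))
(Tr.lf (nat_lit 1135))))
(Tr.nd (nat_lit 1219) (Tr.lf (nat_lit 1135))
(Tr.nd (nat_lit 1220) (Tr.lf (nat_lit 1137))
(Tr.lf (nat_lit 1137))))))
(Tr.nd (nat_lit 1226) (Tr.nd (nat_lit 1223) (Tr.nd (nat_lit 1222) (Tr.lf (nat_lit 1138))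
(Tr.lf (nat_lit 1139)))
(Tr.nd (nat_lit 1224) (Tr.lf (nat_lit 1140))
(Tr.nd (nat_lit 1225) (Tr.lf (nat_lit 1140))
(Tr.lf (nat_lit 1141)))))
(Tr.nd (nat_lit 1229) (Tr.nd (nat_lit 1227) (Tr.lf (nat_lit 1141))
(Tr.nd (nat_lit 1228) (Tr.lf (nat_lit 1142))
(Tr.lf (nat_lit 1145))))
(Tr.nd (nat_lit 1230) (Tr.lf (nat_lit 1147))
(Tr.nd (nat_lit 1231) (Tr.lf (nat_lit 1150))
(Tr.lf (nat_lit 1151))))))))))
(Tr.nd (nat_lit 1320) (Tr.nd (nat_lit 1276) (Tr.nd (nat_lit 1254) (Tr.nd (nat_lit 1243) (Tr.nd (nat_lit 1237) (Tr.nd (nat_lit 1234) (Tr.nd (nat_lit 1233) (Tr.lf (nat_lit 1151))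
(Tr.lf (nat_lit 1152)))
(Tr.nd (nat_lit 1235) (Tr.lf (nat_lit 1154))
(Tr.nd (nat_lit 1236) (Tr.lf (nat_lit 1154))
(Tr.lf (nat_lit 1155)))))
(Tr.nd (nat_lit 1240) (Tr.nd (nat_lit 1238) (Tr.lf (nat_lit 1155))
(Tr.nd (nat_lit 1239) (Tr.lf (nat_lit 1156))
(Tr.lf (nat_lit 1158))))
(Tr.nd (nat_lit 1241) (Tr.lf (nat_lit 1159))
(Tr.nd (nat_lit 1242) (Tr.lf (nat_lit 1161))
(Tr.lf (nat_lit 1162))))))
(Tr.nd (nat_lit 1248) (Tr.nd (nat_lit 1245) (Tr.nd (nat_lit 1244) (Tr.lf (nat_lit 1162))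
(Tr.lf (nat_lit 1163)))
(Tr.nd (nat_lit 1246) (Tr.lf (nat_lit 1164))
(Tr.nd (nat_lit 1247) (Tr.lf (nat_lit 1165))
(Tr.lf (nat_lit 1170)))))
(Tr.nd (nat_lit 1251) (Tr.nd (nat_lit 1249) (Tr.lf (nat_lit 1170))
(Tr.nd (nat_lit 1250) (Tr.lf (nat_lit 1170))
(Tr.lf (nat_lit 1173))))
(Tr.nd (nat_lit 1252) (Tr.lf (nat_lit 1174))
(Tr.nd (nat_lit 1253) (Tr.lf (nat_lit 1175))
(Tr.lf (nat_lit 1175)))))))
(Tr.nd (nat_lit 1265) (Tr.nd (nat_lit 1259) (Tr.nd (nat_lit 1256) (Tr.nd (nat_lit 1255) (Tr.lf (nat_lit 1176))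
(Tr.lf (nat_lit 1177)))
(Tr.nd (nat_lit 1257) (Tr.lf (nat_lit 1178))
(Tr.nd (nat_lit 1258) (Tr.lf (nat_lit 1179))
(Tr.lf (nat_lit 1179)))))
(Tr.nd (nat_lit 1262) (Tr.nd (nat_lit 1260) (Tr.lf (nat_lit 1181))
(Tr.nd (nat_lit 1261) (Tr.lf (nat_lit 1182))
(Tr.lf (nat_lit 1189))))
(Tr.nd (nat_lit 1263) (Tr.lf (nat_lit 1193))
(Tr.nd (nat_lit 1264) (Tr.lf (nat_lit 1195))
(Tr.lf (nat_lit 1198))))))
(Tr.nd (nat_lit 1270) (Tr.nd (nat_lit 1267) (Tr.nd (nat_lit 1266) (Tr.lf (nat_lit 1198))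
(Tr.lf (nat_lit 1199)))
(Tr.nd (nat_lit 1268) (Tr.lf (nat_lit 1203))
(Tr.nd (nat_lit 1269) (Tr.lf (nat_lit 1203))
(Tr.lf (nat_lit 1206)))))
(Tr.nd (nat_lit 1273) (Tr.nd (nat_lit 1271) (Tr.lf (nat_lit 1206))
(Tr.nd (nat_lit 1272) (Tr.lf (nat_lit 1207))
(Tr.lf (nat_lit 1208))))
(Tr.nd (nat_lit 1274) (Tr.lf (nat_lit 1209))
(Tr.nd (nat_lit 1275) (Tr.lf (nat_lit 1209))
(Tr.lf (nat_lit 1209))))))))
(Tr.nd (nat_lit 1298) (Tr.nd (nat_lit 1287) (Tr.nd (nat_lit 1281) (Tr.nd (nat_lit 1278) (Tr.nd (nat_lit 1277) (Tr.lf (nat_lit 1210))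
(Tr.lf (nat_lit 1211)))
(Tr.nd (nat_lit 1279) (Tr.lf (nat_lit 1211))
(Tr.nd (nat_lit 1280) (Tr.lf (nat_lit 1213))
(Tr.lf (nat_lit 1213)))))
(Tr.nd (nat_lit 1284) (Tr.nd (nat_lit 1282) (Tr.lf (nat_lit 1214))
(Tr.nd (nat_lit 1283) (Tr.lf (nat_lit 1215))
(Tr.lf (nat_lit 1216))))
(Tr.nd (nat_lit 1285) (Tr.lf (nat_lit 1216))
(Tr.nd (nat_lit 1286) (Tr.lf (nat_lit 1217))
(Tr.lf (nat_lit 1217))))))
(Tr.nd (nat_lit 1292) (Tr.nd (nat_lit 1289) (Tr.nd (nat_lit 1288) (Tr.lf (nat_lit 1217))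
(Tr.lf (nat_lit 1218)))
(Tr.nd (nat_lit 1290) (Tr.lf (nat_lit 1219))
(Tr.nd (nat_lit 1291) (Tr.lf (nat_lit 1221))
(Tr.lf (nat_lit 1222)))))
(Tr.nd (nat_lit 1295) (Tr.nd (nat_lit 1293) (Tr.lf (nat_lit 1223))
(Tr.nd (nat_lit 1294) (Tr.lf (nat_lit 1225))
(Tr.lf (nat_lit 1225))))
(Tr.nd (nat_lit 1296) (Tr.lf (nat_lit 1226))
(Tr.nd (nat_lit 1297) (Tr.lf (nat_lit 1231))
(Tr.lf (nat_lit 1231)))))))
(Tr.nd (nat_lit 1309) (Tr.nd (nat_lit 1303) (Tr.nd (nat_lit 1300) (Tr.nd (nat_lit 1299) (Tr.lf (nat_lit 1232))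
(Tr.lf (nat_lit 1233)))
(Tr.nd (nat_lit 1301) (Tr.lf (nat_lit 1233))
(Tr.nd (nat_lit 1302) (Tr.lf (nat_lit 1234))
(Tr.lf (nat_lit 1234)))))
(Tr.nd (nat_lit 1306) (Tr.nd (nat_lit 1304) (Tr.lf (nat_lit 1235))
(Tr.nd (nat_lit 1305) (Tr.lf (nat_lit 1236))
(Tr.lf (nat_lit 1237))))
(Tr.nd (nat_lit 1307) (Tr.lf (nat_lit 1239))
(Tr.nd (nat_lit 1308) (Tr.lf (nat_lit 1239))
(Tr.lf (nat_lit 1240))))))
(Tr.nd (nat_lit 1314) (Tr.nd (nat_lit 1311) (Tr.nd (nat_lit 1310) (Tr.lf (nat_lit 1240))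
(Tr.lf (nat_lit 1241)))
(Tr.nd (nat_lit 1312) (Tr.lf (nat_lit 1242))
(Tr.nd (nat_lit 1313) (Tr.lf (nat_lit 1243))
(Tr.lf (nat_lit 1244)))))
(Tr.nd (nat_lit 1317) (Tr.nd (nat_lit 1315) (Tr.lf (nat_lit 1245))
(Tr.nd (nat_lit 1316) (Tr.lf (nat_lit 1247))
(Tr.lf (nat_lit 1247))))
(Tr.nd (nat_lit 1318) (Tr.lf (nat_lit 1248))
(Tr.nd (nat_lit 1319) (Tr.lf (nat_lit 1249))
(Tr.lf (nat_lit 1250)))))))))
(Tr.nd (nat_lit 1364) (Tr.nd (nat_lit 1342) (Tr.nd (nat_lit 1331) (Tr.nd (nat_lit 1325) (Tr.nd (nat_lit 1322) (Tr.nd (nat_lit 1321) (Tr.lf (nat_lit 1250))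
(Tr.lf (nat_lit 1251)))
(Tr.nd (nat_lit 1323) (Tr.lf (nat_lit 1252))
(Tr.nd (nat_lit 1324) (Tr.lf (nat_lit 1253))
(Tr.lf (nat_lit 1254)))))
(Tr.nd (nat_lit 1328) (Tr.nd (nat_lit 1326) (Tr.lf (nat_lit 1255))
(Tr.nd (nat_lit 1327) (Tr.lf (nat_lit 1256))
(Tr.lf (nat_lit 1257))))
(Tr.nd (nat_lit 1329) (Tr.lf (nat_lit 1259))
(Tr.nd (nat_lit 1330) (Tr.lf (nat_lit 1261))
(Tr.lf (nat_lit 1267))))))
(Tr.nd (nat_lit 1336) (Tr.nd (nat_lit 1333) (Tr.nd (nat_lit 1332) (Tr.lf (nat_lit 1268))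
(Tr.lf (nat_lit 1269)))
(Tr.nd (nat_lit 1334) (Tr.lf (nat_lit 1271))
(Tr.nd (nat_lit 1335) (Tr.lf (nat_lit 1272))
(Tr.lf (nat_lit 1273)))))
(Tr.nd (nat_lit 1339) (Tr.nd (nat_lit 1337) (Tr.lf (nat_lit 1274))
(Tr.nd (nat_lit 1338) (Tr.lf (nat_lit 1275))
(Tr.lf (nat_lit 1276))))
(Tr.nd (nat_lit 1340) (Tr.lf (nat_lit 1277))
(Tr.nd (nat_lit 1341) (Tr.lf (nat_lit 1277))
(Tr.lf (nat_lit 1278)))))))
(Tr.nd (nat_lit 1353) (Tr.nd (nat_lit 1347) (Tr.nd (nat_lit 1344) (Tr.nd (nat_lit 1343) (Tr.lf (nat_lit 1279))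
(Tr.lf (nat_lit 1280)))
(Tr.nd (nat_lit 1345) (Tr.lf (nat_lit 1282))
(Tr.nd (nat_lit 1346) (Tr.lf (nat_lit 1282))
(Tr.lf (nat_lit 1283)))))
(Tr.nd (nat_lit 1350) (Tr.nd (nat_lit 1348) (Tr.lf (nat_lit 1284))
(Tr.nd (nat_lit 1349) (Tr.lf (nat_lit 1285))
(Tr.lf (nat_lit 1286))))
(Tr.nd (nat_lit 1351) (Tr.lf (nat_lit 1286))
(Tr.nd (nat_lit 1352) (Tr.lf (nat_lit 1287))
(Tr.lf (nat_lit 1291))))))
(Tr.nd (nat_lit 1358) (Tr.nd (nat_lit 1355) (Tr.nd (nat_lit 1354) (Tr.lf (nat_lit 1292))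
(Tr.lf (nat_lit 1293)))
(Tr.nd (nat_lit 1356) (Tr.lf (nat_lit 1294))
(Tr.nd (nat_lit 1357) (Tr.lf (nat_lit 1296))
(Tr.lf (nat_lit 1296)))))
(Tr.nd (nat_lit 1361) (Tr.nd (nat_lit 1359) (Tr.lf (nat_lit 1297))
(Tr.nd (nat_lit 1360) (Tr.lf (nat_lit 1298))
(Tr.lf (nat_lit 1299))))
(Tr.nd (nat_lit 1362) (Tr.lf (nat_lit 1299))
(Tr.nd (nat_lit 1363) (Tr.lf (nat_lit 1300))
(Tr.lf (nat_lit 1301))))))))
(Tr.nd (nat_lit 1386) (Tr.nd (nat_lit 1375) (Tr.nd (nat_lit 1369) (Tr.nd (nat_lit 1366) (Tr.nd (nat_lit 1365) (Tr.lf (nat_lit 1302))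
(Tr.lf (nat_lit 1304)))
(Tr.nd (nat_lit 1367) (Tr.lf (nat_lit 1306))
(Tr.nd (nat_lit 1368) (Tr.lf (nat_lit 1307))
(Tr.lf (nat_lit 1308)))))
(Tr.nd (nat_lit 1372) (Tr.nd (nat_lit 1370) (Tr.lf (nat_lit 1309))
(Tr.nd (nat_lit 1371) (Tr.lf (nat_lit 1310))
(Tr.lf (nat_lit 1311))))
(Tr.nd (nat_lit 1373) (Tr.lf (nat_lit 1315))
(Tr.nd (nat_lit 1374) (Tr.lf (nat_lit 1316))
(Tr.lf (nat_lit 1317))))))
(Tr.nd (nat_lit 1380) (Tr.nd (nat_lit 1377) (Tr.nd (nat_lit 1376) (Tr.lf (nat_lit 1318))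
(Tr.lf (nat_lit 1319)))
(Tr.nd (nat_lit 1378) (Tr.lf (nat_lit 1320))
(Tr.nd (nat_lit 1379) (Tr.lf (nat_lit 1322))
(Tr.lf (nat_lit 1330)))))
(Tr.nd (nat_lit 1383) (Tr.nd (nat_lit 1381) (Tr.lf (nat_lit 1332))
(Tr.nd (nat_lit 1382) (Tr.lf (nat_lit 1333))
(Tr.lf (nat_lit 1333))))
(Tr.nd (nat_lit 1384) (Tr.lf (nat_lit 1334))
(Tr.nd (nat_lit 1385) (Tr.lf (nat_lit 1335))
(Tr.lf (nat_lit 1338)))))))
(Tr.nd (nat_lit 1397) (Tr.nd (nat_lit 1391) (Tr.nd (nat_lit 1388) (Tr.nd (nat_lit 1387) (Tr.lf (nat_lit 1340))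
(Tr.lf (nat_lit 1341)))
(Tr.nd (nat_lit 1389) (Tr.lf (nat_lit 1342))
(Tr.nd (nat_lit 1390) (Tr.lf (nat_lit 1344))
(Tr.lf (nat_lit 1346)))))
(Tr.nd (nat_lit 1394) (Tr.nd (nat_lit 1392) (Tr.lf (nat_lit 1348))
(Tr.nd (nat_lit 1393) (Tr.lf (nat_lit 1349))
(Tr.lf (nat_lit 1350))))
(Tr.nd (nat_lit 1395) (Tr.lf (nat_lit 1352))
(Tr.nd (nat_lit 1396) (Tr.lf (nat_lit 1353))
(Tr.lf (nat_lit 1356))))))
(Tr.nd (nat_lit 1403) (Tr.nd (nat_lit 1400) (Tr.nd (nat_lit 1398) (Tr.lf (nat_lit 1357))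
(Tr.nd (nat_lit 1399) (Tr.lf (nat_lit 1358))
(Tr.lf (nat_lit 1359))))
(Tr.nd (nat_lit 1401) (Tr.lf (nat_lit 1360))
(Tr.nd (nat_lit 1402) (Tr.lf (nat_lit 1361))
(Tr.lf (nat_lit 1363)))))
(Tr.nd (nat_lit 1406) (Tr.nd (nat_lit 1404) (Tr.lf (nat_lit 1364))
(Tr.nd (nat_lit 1405) (Tr.lf (nat_lit 1366))
(Tr.lf (nat_lit 1370))))
(Tr.nd (nat_lit 1407) (Tr.lf (nat_lit 1372))
(Tr.nd (nat_lit 1408) (Tr.lf (nat_lit 1373))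
(Tr.lf (nat_lit 1374)))))))))))))
noncomputable def mini1Q : Tr ℕ := (Tr.nd (nat_lit 704) (Tr.nd (nat_lit 352) (Tr.nd (nat_lit 176) (Tr.nd (nat_lit 88) (Tr.nd (nat_lit 44) (Tr.nd (nat_lit 22) (Tr.nd (nat_lit 11) (Tr.nd (nat_lit 5) (Tr.nd (nat_lit 2) (Tr.nd (nat_lit 1) (Tr.lf (nat_lit 0))
(Tr.lf (nat_lit 1)))
(Tr.nd (nat_lit 3) (Tr.lf (nat_lit 2))
(Tr.nd (nat_lit 4) (Tr.lf (nat_lit 3))
(Tr.lf (nat_lit 4)))))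
(Tr.nd (nat_lit 8) (Tr.nd (nat_lit 6) (Tr.lf (nat_lit 5))
(Tr.nd (nat_lit 7) (Tr.lf (nat_lit 6))
(Tr.lf (nat_lit 10))))
(Tr.nd (nat_lit 9) (Tr.lf (nat_lit 5))
(Tr.nd (nat_lit 10) (Tr.lf (nat_lit 4))
(Tr.lf (nat_lit 3))))))
(Tr.nd (nat_lit 16) (Tr.nd (nat_lit 13) (Tr.nd (nat_lit 12) (Tr.lf (nat_lit 2))
(Tr.lf (nat_lit 11)))
(Tr.nd (nat_lit 14) (Tr.lf (nat_lit 10))
(Tr.nd (nat_lit 15) (Tr.lf (nat_lit 5))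
(Tr.lf (nat_lit 4)))))
(Tr.nd (nat_lit 19) (Tr.nd (nat_lit 17) (Tr.lf (nat_lit 6))
(Tr.nd (nat_lit 18) (Tr.lf (nat_lit 5))
(Tr.lf (nat_lit 10))))
(Tr.nd (nat_lit 20) (Tr.lf (nat_lit 11))
(Tr.nd (nat_lit 21) (Tr.lf (nat_lit 3))
(Tr.lf (nat_lit 4)))))))
(Tr.nd (nat_lit 33) (Tr.nd (nat_lit 27) (Tr.nd (nat_lit 24) (Tr.nd (nat_lit 23) (Tr.lf (nat_lit 5))
(Tr.lf (nat_lit 10)))
(Tr.nd (nat_lit 25) (Tr.lf (nat_lit 6))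
(Tr.nd (nat_lit 26) (Tr.lf (nat_lit 5))
(Tr.lf (nat_lit 4)))))
(Tr.nd (nat_lit 30) (Tr.nd (nat_lit 28) (Tr.lf (nat_lit 3))
(Tr.nd (nat_lit 29) (Tr.lf (nat_lit 2))
(Tr.lf (nat_lit 1))))
(Tr.nd (nat_lit 31) (Tr.lf (nat_lit 3))
(Tr.nd (nat_lit 32) (Tr.lf (nat_lit 2))
(Tr.lf (nat_lit 4))))))
(Tr.nd (nat_lit 38) (Tr.nd (nat_lit 35) (Tr.nd (nat_lit 34) (Tr.lf (nat_lit 5))
(Tr.lf (nat_lit 6)))
(Tr.nd (nat_lit 36) (Tr.lf (nat_lit 7))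
(Tr.nd (nat_lit 37) (Tr.lf (nat_lit 8))
(Tr.lf (nat_lit 10)))))
(Tr.nd (nat_lit 41) (Tr.nd (nat_lit 39) (Tr.lf (nat_lit 5))
(Tr.nd (nat_lit 40) (Tr.lf (nat_lit 4))
(Tr.lf (nat_lit 6))))
(Tr.nd (nat_lit 42) (Tr.lf (nat_lit 5))
(Tr.nd (nat_lit 43) (Tr.lf (nat_lit 7))
(Tr.lf (nat_lit 6))))))))
(Tr.nd (nat_lit 66) (Tr.nd (nat_lit 55) (Tr.nd (nat_lit 49) (Tr.nd (nat_lit 46) (Tr.nd (nat_lit 45) (Tr.lf (nat_lit 10))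
(Tr.lf (nat_lit 5)))
(Tr.nd (nat_lit 47) (Tr.lf (nat_lit 4))
(Tr.nd (nat_lit 48) (Tr.lf (nat_lit 3))
(Tr.lf (nat_lit 11)))))
(Tr.nd (nat_lit 52) (Tr.nd (nat_lit 50) (Tr.lf (nat_lit 10))
(Tr.nd (nat_lit 51) (Tr.lf (nat_lit 5))
(Tr.lf (nat_lit 6))))
(Tr.nd (nat_lit 53) (Tr.lf (nat_lit 4))
(Tr.nd (nat_lit 54) (Tr.lf (nat_lit 5))
(Tr.lf (nat_lit 10))))))
(Tr.nd (nat_lit 60) (Tr.nd (nat_lit 57) (Tr.nd (nat_lit 56) (Tr.lf (nat_lit 11))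
(Tr.lf (nat_lit 7)))
(Tr.nd (nat_lit 58) (Tr.lf (nat_lit 6))
(Tr.nd (nat_lit 59) (Tr.lf (nat_lit 5))
(Tr.lf (nat_lit 10)))))
(Tr.nd (nat_lit 63) (Tr.nd (nat_lit 61) (Tr.lf (nat_lit 8))
(Tr.nd (nat_lit 62) (Tr.lf (nat_lit 7))
(Tr.lf (nat_lit 6))))
(Tr.nd (nat_lit 64) (Tr.lf (nat_lit 5))
(Tr.nd (nat_lit 65) (Tr.lf (nat_lit 3))
(Tr.lf (nat_lit 4)))))))
(Tr.nd (nat_lit 77) (Tr.nd (nat_lit 71) (Tr.nd (nat_lit 68) (Tr.nd (nat_lit 67) (Tr.lf (nat_lit 2))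
(Tr.lf (nat_lit 10)))
(Tr.nd (nat_lit 69) (Tr.lf (nat_lit 7))
(Tr.nd (nat_lit 70) (Tr.lf (nat_lit 7))
(Tr.lf (nat_lit 7)))))
(Tr.nd (nat_lit 74) (Tr.nd (nat_lit 72) (Tr.lf (nat_lit 7))
(Tr.nd (nat_lit 73) (Tr.lf (nat_lit 7))
(Tr.lf (nat_lit 11))))
(Tr.nd (nat_lit 75) (Tr.lf (nat_lit 0))
(Tr.nd (nat_lit 76) (Tr.lf (nat_lit 1))
(Tr.lf (nat_lit 7))))))
(Tr.nd (nat_lit 82) (Tr.nd (nat_lit 79) (Tr.nd (nat_lit 78) (Tr.lf (nat_lit 0))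
(Tr.lf (nat_lit 1)))
(Tr.nd (nat_lit 80) (Tr.lf (nat_lit 0))
(Tr.nd (nat_lit 81) (Tr.lf (nat_lit 1))
(Tr.lf (nat_lit 0)))))
(Tr.nd (nat_lit 85) (Tr.nd (nat_lit 83) (Tr.lf (nat_lit 1))
(Tr.nd (nat_lit 84) (Tr.lf (nat_lit 2))
(Tr.lf (nat_lit 0))))
(Tr.nd (nat_lit 86) (Tr.lf (nat_lit 1))
(Tr.nd (nat_lit 87) (Tr.lf (nat_lit 1))
(Tr.lf (nat_lit 1)))))))))
(Tr.nd (nat_lit 132) (Tr.nd (nat_lit 110) (Tr.nd (nat_lit 99) (Tr.nd (nat_lit 93) (Tr.nd (nat_lit 90) (Tr.nd (nat_lit 89) (Tr.lf (nat_lit 1))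
(Tr.lf (nat_lit 1)))
(Tr.nd (nat_lit 91) (Tr.lf (nat_lit 7))
(Tr.nd (nat_lit 92) (Tr.lf (nat_lit 1))
(Tr.lf (nat_lit 7)))))
(Tr.nd (nat_lit 96) (Tr.nd (nat_lit 94) (Tr.lf (nat_lit 1))
(Tr.nd (nat_lit 95) (Tr.lf (nat_lit 1))
(Tr.lf (nat_lit 1))))
(Tr.nd (nat_lit 97) (Tr.lf (nat_lit 1))
(Tr.nd (nat_lit 98) (Tr.lf (nat_lit 1))
(Tr.lf (nat_lit 3))))))
(Tr.nd (nat_lit 104) (Tr.nd (nat_lit 101) (Tr.nd (nat_lit 100) (Tr.lf (nat_lit 3))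
(Tr.lf (nat_lit 3)))
(Tr.nd (nat_lit 102) (Tr.lf (nat_lit 10))
(Tr.nd (nat_lit 103) (Tr.lf (nat_lit 2))
(Tr.lf (nat_lit 3)))))
(Tr.nd (nat_lit 107) (Tr.nd (nat_lit 105) (Tr.lf (nat_lit 10))
(Tr.nd (nat_lit 106) (Tr.lf (nat_lit 2))
(Tr.lf (nat_lit 3))))
(Tr.nd (nat_lit 108) (Tr.lf (nat_lit 2))
(Tr.nd (nat_lit 109) (Tr.lf (nat_lit 3))
(Tr.lf (nat_lit 2)))))))
(Tr.nd (nat_lit 121) (Tr.nd (nat_lit 115) (Tr.nd (nat_lit 112) (Tr.nd (nat_lit 111) (Tr.lf (nat_lit 3))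
(Tr.lf (nat_lit 6)))
(Tr.nd (nat_lit 113) (Tr.lf (nat_lit 8))
(Tr.nd (nat_lit 114) (Tr.lf (nat_lit 2))
(Tr.lf (nat_lit 3)))))
(Tr.nd (nat_lit 118) (Tr.nd (nat_lit 116) (Tr.lf (nat_lit 8))
(Tr.nd (nat_lit 117) (Tr.lf (nat_lit 2))
(Tr.lf (nat_lit 3))))
(Tr.nd (nat_lit 119) (Tr.lf (nat_lit 7))
(Tr.nd (nat_lit 120) (Tr.lf (nat_lit 8))
(Tr.lf (nat_lit 2))))))
(Tr.nd (nat_lit 126) (Tr.nd (nat_lit 123) (Tr.nd (nat_lit 122) (Tr.lf (nat_lit 3))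
(Tr.lf (nat_lit 8)))
(Tr.nd (nat_lit 124) (Tr.lf (nat_lit 10))
(Tr.nd (nat_lit 125) (Tr.lf (nat_lit 11))
(Tr.lf (nat_lit 2)))))
(Tr.nd (nat_lit 129) (Tr.nd (nat_lit 127) (Tr.lf (nat_lit 3))
(Tr.nd (nat_lit 128) (Tr.lf (nat_lit 8))
(Tr.lf (nat_lit 10))))
(Tr.nd (nat_lit 130) (Tr.lf (nat_lit 11))
(Tr.nd (nat_lit 131) (Tr.lf (nat_lit 2))
(Tr.lf (nat_lit 3))))))))
(Tr.nd (nat_lit 154) (Tr.nd (nat_lit 143) (Tr.nd (nat_lit 137) (Tr.nd (nat_lit 134) (Tr.nd (nat_lit 133) (Tr.lf (nat_lit 8))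
(Tr.lf (nat_lit 11)))
(Tr.nd (nat_lit 135) (Tr.lf (nat_lit 2))
(Tr.nd (nat_lit 136) (Tr.lf (nat_lit 3))
(Tr.lf (nat_lit 8)))))
(Tr.nd (nat_lit 140) (Tr.nd (nat_lit 138) (Tr.lf (nat_lit 11))
(Tr.nd (nat_lit 139) (Tr.lf (nat_lit 2))
(Tr.lf (nat_lit 3))))
(Tr.nd (nat_lit 141) (Tr.lf (nat_lit 8))
(Tr.nd (nat_lit 142) (Tr.lf (nat_lit 11))
(Tr.lf (nat_lit 2))))))
(Tr.nd (nat_lit 148) (Tr.nd (nat_lit 145) (Tr.nd (nat_lit 144) (Tr.lf (nat_lit 8))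
(Tr.lf (nat_lit 11)))
(Tr.nd (nat_lit 146) (Tr.lf (nat_lit 2))
(Tr.nd (nat_lit 147) (Tr.lf (nat_lit 4))
(Tr.lf (nat_lit 8)))))
(Tr.nd (nat_lit 151) (Tr.nd (nat_lit 149) (Tr.lf (nat_lit 2))
(Tr.nd (nat_lit 150) (Tr.lf (nat_lit 4))
(Tr.lf (nat_lit 8))))
(Tr.nd (nat_lit 152) (Tr.lf (nat_lit 2))
(Tr.nd (nat_lit 153) (Tr.lf (nat_lit 3))
(Tr.lf (nat_lit 4)))))))
(Tr.nd (nat_lit 165) (Tr.nd (nat_lit 159) (Tr.nd (nat_lit 156) (Tr.nd (nat_lit 155) (Tr.lf (nat_lit 8))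
(Tr.lf (nat_lit 2)))
(Tr.nd (nat_lit 157) (Tr.lf (nat_lit 3))
(Tr.nd (nat_lit 158) (Tr.lf (nat_lit 4))
(Tr.lf (nat_lit 8)))))
(Tr.nd (nat_lit 162) (Tr.nd (nat_lit 160) (Tr.lf (nat_lit 2))
(Tr.nd (nat_lit 161) (Tr.lf (nat_lit 3))
(Tr.lf (nat_lit 8))))
(Tr.nd (nat_lit 163) (Tr.lf (nat_lit 2))
(Tr.nd (nat_lit 164) (Tr.lf (nat_lit 3))
(Tr.lf (nat_lit 8))))))
(Tr.nd (nat_lit 170) (Tr.nd (nat_lit 167) (Tr.nd (nat_lit 166) (Tr.lf (nat_lit 2))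
(Tr.lf (nat_lit 3)))
(Tr.nd (nat_lit 168) (Tr.lf (nat_lit 6))
(Tr.nd (nat_lit 169) (Tr.lf (nat_lit 7))
(Tr.lf (nat_lit 8)))))
(Tr.nd (nat_lit 173) (Tr.nd (nat_lit 171) (Tr.lf (nat_lit 2))
(Tr.nd (nat_lit 172) (Tr.lf (nat_lit 3))
(Tr.lf (nat_lit 6))))
(Tr.nd (nat_lit 174) (Tr.lf (nat_lit 7))
(Tr.nd (nat_lit 175) (Tr.lf (nat_lit 8))
(Tr.lf (nat_lit 2))))))))))
(Tr.nd (nat_lit 264) (Tr.nd (nat_lit 220) (Tr.nd (nat_lit 198) (Tr.nd (nat_lit 187) (Tr.nd (nat_lit 181) (Tr.nd (nat_lit 178) (Tr.nd (nat_lit 177) (Tr.lf (nat_lit 3))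
(Tr.lf (nat_lit 6)))
(Tr.nd (nat_lit 179) (Tr.lf (nat_lit 8))
(Tr.nd (nat_lit 180) (Tr.lf (nat_lit 2))
(Tr.lf (nat_lit 3)))))
(Tr.nd (nat_lit 184) (Tr.nd (nat_lit 182) (Tr.lf (nat_lit 8))
(Tr.nd (nat_lit 183) (Tr.lf (nat_lit 2))
(Tr.lf (nat_lit 3))))
(Tr.nd (nat_lit 185) (Tr.lf (nat_lit 7))
(Tr.nd (nat_lit 186) (Tr.lf (nat_lit 8))
(Tr.lf (nat_lit 11))))))
(Tr.nd (nat_lit 192) (Tr.nd (nat_lit 189) (Tr.nd (nat_lit 188) (Tr.lf (nat_lit 2))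
(Tr.lf (nat_lit 3)))
(Tr.nd (nat_lit 190) (Tr.lf (nat_lit 4))
(Tr.nd (nat_lit 191) (Tr.lf (nat_lit 7))
(Tr.lf (nat_lit 8)))))
(Tr.nd (nat_lit 195) (Tr.nd (nat_lit 193) (Tr.lf (nat_lit 11))
(Tr.nd (nat_lit 194) (Tr.lf (nat_lit 2))
(Tr.lf (nat_lit 3))))
(Tr.nd (nat_lit 196) (Tr.lf (nat_lit 4))
(Tr.nd (nat_lit 197) (Tr.lf (nat_lit 7))
(Tr.lf (nat_lit 2)))))))
(Tr.nd (nat_lit 209) (Tr.nd (nat_lit 203) (Tr.nd (nat_lit 200) (Tr.nd (nat_lit 199) (Tr.lf (nat_lit 3))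
(Tr.lf (nat_lit 4)))
(Tr.nd (nat_lit 201) (Tr.lf (nat_lit 2))
(Tr.nd (nat_lit 202) (Tr.lf (nat_lit 3))
(Tr.lf (nat_lit 4)))))
(Tr.nd (nat_lit 206) (Tr.nd (nat_lit 204) (Tr.lf (nat_lit 10))
(Tr.nd (nat_lit 205) (Tr.lf (nat_lit 2))
(Tr.lf (nat_lit 3))))
(Tr.nd (nat_lit 207) (Tr.lf (nat_lit 10))
(Tr.nd (nat_lit 208) (Tr.lf (nat_lit 2))
(Tr.lf (nat_lit 10))))))
(Tr.nd (nat_lit 214) (Tr.nd (nat_lit 211) (Tr.nd (nat_lit 210) (Tr.lf (nat_lit 2))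
(Tr.lf (nat_lit 10)))
(Tr.nd (nat_lit 212) (Tr.lf (nat_lit 10))
(Tr.nd (nat_lit 213) (Tr.lf (nat_lit 10))
(Tr.lf (nat_lit 6)))))
(Tr.nd (nat_lit 217) (Tr.nd (nat_lit 215) (Tr.lf (nat_lit 6))
(Tr.nd (nat_lit 216) (Tr.lf (nat_lit 6))
(Tr.lf (nat_lit 7))))
(Tr.nd (nat_lit 218) (Tr.lf (nat_lit 7))
(Tr.nd (nat_lit 219) (Tr.lf (nat_lit 6))
(Tr.lf (nat_lit 7))))))))
(Tr.nd (nat_lit 242) (Tr.nd (nat_lit 231) (Tr.nd (nat_lit 225) (Tr.nd (nat_lit 222) (Tr.nd (nat_lit 221) (Tr.lf (nat_lit 6))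
(Tr.lf (nat_lit 3)))
(Tr.nd (nat_lit 223) (Tr.lf (nat_lit 7))
(Tr.nd (nat_lit 224) (Tr.lf (nat_lit 3))
(Tr.lf (nat_lit 7)))))
(Tr.nd (nat_lit 228) (Tr.nd (nat_lit 226) (Tr.lf (nat_lit 3))
(Tr.nd (nat_lit 227) (Tr.lf (nat_lit 7))
(Tr.lf (nat_lit 3))))
(Tr.nd (nat_lit 229) (Tr.lf (nat_lit 7))
(Tr.nd (nat_lit 230) (Tr.lf (nat_lit 7))
(Tr.lf (nat_lit 6))))))
(Tr.nd (nat_lit 236) (Tr.nd (nat_lit 233) (Tr.nd (nat_lit 232) (Tr.lf (nat_lit 2))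
(Tr.lf (nat_lit 7)))
(Tr.nd (nat_lit 234) (Tr.lf (nat_lit 6))
(Tr.nd (nat_lit 235) (Tr.lf (nat_lit 8))
(Tr.lf (nat_lit 2)))))
(Tr.nd (nat_lit 239) (Tr.nd (nat_lit 237) (Tr.lf (nat_lit 7))
(Tr.nd (nat_lit 238) (Tr.lf (nat_lit 11))
(Tr.lf (nat_lit 6))))
(Tr.nd (nat_lit 240) (Tr.lf (nat_lit 7))
(Tr.nd (nat_lit 241) (Tr.lf (nat_lit 10))
(Tr.lf (nat_lit 10)))))))
(Tr.nd (nat_lit 253) (Tr.nd (nat_lit 247) (Tr.nd (nat_lit 244) (Tr.nd (nat_lit 243) (Tr.lf (nat_lit 10))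
(Tr.lf (nat_lit 6)))
(Tr.nd (nat_lit 245) (Tr.lf (nat_lit 6))
(Tr.nd (nat_lit 246) (Tr.lf (nat_lit 8))
(Tr.lf (nat_lit 8)))))
(Tr.nd (nat_lit 250) (Tr.nd (nat_lit 248) (Tr.lf (nat_lit 11))
(Tr.nd (nat_lit 249) (Tr.lf (nat_lit 3))
(Tr.lf (nat_lit 11))))
(Tr.nd (nat_lit 251) (Tr.lf (nat_lit 11))
(Tr.nd (nat_lit 252) (Tr.lf (nat_lit 1))
(Tr.lf (nat_lit 3))))))
(Tr.nd (nat_lit 258) (Tr.nd (nat_lit 255) (Tr.nd (nat_lit 254) (Tr.lf (nat_lit 7))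
(Tr.lf (nat_lit 8)))
(Tr.nd (nat_lit 256) (Tr.lf (nat_lit 11))
(Tr.nd (nat_lit 257) (Tr.lf (nat_lit 11))
(Tr.lf (nat_lit 11)))))
(Tr.nd (nat_lit 261) (Tr.nd (nat_lit 259) (Tr.lf (nat_lit 1))
(Tr.nd (nat_lit 260) (Tr.lf (nat_lit 3))
(Tr.lf (nat_lit 8))))
(Tr.nd (nat_lit 262) (Tr.lf (nat_lit 10))
(Tr.nd (nat_lit 263) (Tr.lf (nat_lit 11))
(Tr.lf (nat_lit 10)))))))))
(Tr.nd (nat_lit 308) (Tr.nd (nat_lit 286) (Tr.nd (nat_lit 275) (Tr.nd (nat_lit 269) (Tr.nd (nat_lit 266) (Tr.nd (nat_lit 265) (Tr.lf (nat_lit 11))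
(Tr.lf (nat_lit 11)))
(Tr.nd (nat_lit 267) (Tr.lf (nat_lit 10))
(Tr.nd (nat_lit 268) (Tr.lf (nat_lit 3))
(Tr.lf (nat_lit 10)))))
(Tr.nd (nat_lit 272) (Tr.nd (nat_lit 270) (Tr.lf (nat_lit 11))
(Tr.nd (nat_lit 271) (Tr.lf (nat_lit 10))
(Tr.lf (nat_lit 3))))
(Tr.nd (nat_lit 273) (Tr.lf (nat_lit 11))
(Tr.nd (nat_lit 274) (Tr.lf (nat_lit 10))
(Tr.lf (nat_lit 3))))))
(Tr.nd (nat_lit 280) (Tr.nd (nat_lit 277) (Tr.nd (nat_lit 276) (Tr.lf (nat_lit 11))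
(Tr.lf (nat_lit 10)))
(Tr.nd (nat_lit 278) (Tr.lf (nat_lit 11))
(Tr.nd (nat_lit 279) (Tr.lf (nat_lit 10))
(Tr.lf (nat_lit 3)))))
(Tr.nd (nat_lit 283) (Tr.nd (nat_lit 281) (Tr.lf (nat_lit 11))
(Tr.nd (nat_lit 282) (Tr.lf (nat_lit 3))
(Tr.lf (nat_lit 2))))
(Tr.nd (nat_lit 284) (Tr.lf (nat_lit 4))
(Tr.nd (nat_lit 285) (Tr.lf (nat_lit 2))
(Tr.lf (nat_lit 4)))))))
(Tr.nd (nat_lit 297) (Tr.nd (nat_lit 291) (Tr.nd (nat_lit 288) (Tr.nd (nat_lit 287) (Tr.lf (nat_lit 3))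
(Tr.lf (nat_lit 2)))
(Tr.nd (nat_lit 289) (Tr.lf (nat_lit 4))
(Tr.nd (nat_lit 290) (Tr.lf (nat_lit 3))
(Tr.lf (nat_lit 2)))))
(Tr.nd (nat_lit 294) (Tr.nd (nat_lit 292) (Tr.lf (nat_lit 4))
(Tr.nd (nat_lit 293) (Tr.lf (nat_lit 7))
(Tr.lf (nat_lit 3))))
(Tr.nd (nat_lit 295) (Tr.lf (nat_lit 7))
(Tr.nd (nat_lit 296) (Tr.lf (nat_lit 2))
(Tr.lf (nat_lit 4))))))
(Tr.nd (nat_lit 302) (Tr.nd (nat_lit 299) (Tr.nd (nat_lit 298) (Tr.lf (nat_lit 7))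
(Tr.lf (nat_lit 3)))
(Tr.nd (nat_lit 300) (Tr.lf (nat_lit 7))
(Tr.nd (nat_lit 301) (Tr.lf (nat_lit 2))
(Tr.lf (nat_lit 4)))))
(Tr.nd (nat_lit 305) (Tr.nd (nat_lit 303) (Tr.lf (nat_lit 7))
(Tr.nd (nat_lit 304) (Tr.lf (nat_lit 8))
(Tr.lf (nat_lit 3))))
(Tr.nd (nat_lit 306) (Tr.lf (nat_lit 2))
(Tr.nd (nat_lit 307) (Tr.lf (nat_lit 4))
(Tr.lf (nat_lit 3))))))))
(Tr.nd (nat_lit 330) (Tr.nd (nat_lit 319) (Tr.nd (nat_lit 313) (Tr.nd (nat_lit 310) (Tr.nd (nat_lit 309) (Tr.lf (nat_lit 2))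
(Tr.lf (nat_lit 4)))
(Tr.nd (nat_lit 311) (Tr.lf (nat_lit 3))
(Tr.nd (nat_lit 312) (Tr.lf (nat_lit 11))
(Tr.lf (nat_lit 2)))))
(Tr.nd (nat_lit 316) (Tr.nd (nat_lit 314) (Tr.lf (nat_lit 4))
(Tr.nd (nat_lit 315) (Tr.lf (nat_lit 8))
(Tr.lf (nat_lit 11))))
(Tr.nd (nat_lit 317) (Tr.lf (nat_lit 7))
(Tr.nd (nat_lit 318) (Tr.lf (nat_lit 11))
(Tr.lf (nat_lit 3))))))
(Tr.nd (nat_lit 324) (Tr.nd (nat_lit 321) (Tr.nd (nat_lit 320) (Tr.lf (nat_lit 4))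
(Tr.lf (nat_lit 11)))
(Tr.nd (nat_lit 322) (Tr.lf (nat_lit 2))
(Tr.nd (nat_lit 323) (Tr.lf (nat_lit 4))
(Tr.lf (nat_lit 3)))))
(Tr.nd (nat_lit 327) (Tr.nd (nat_lit 325) (Tr.lf (nat_lit 11))
(Tr.nd (nat_lit 326) (Tr.lf (nat_lit 11))
(Tr.lf (nat_lit 3))))
(Tr.nd (nat_lit 328) (Tr.lf (nat_lit 4))
(Tr.nd (nat_lit 329) (Tr.lf (nat_lit 2))
(Tr.lf (nat_lit 3)))))))
(Tr.nd (nat_lit 341) (Tr.nd (nat_lit 335) (Tr.nd (nat_lit 332) (Tr.nd (nat_lit 331) (Tr.lf (nat_lit 5))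
(Tr.lf (nat_lit 3)))
(Tr.nd (nat_lit 333) (Tr.lf (nat_lit 4))
(Tr.nd (nat_lit 334) (Tr.lf (nat_lit 2))
(Tr.lf (nat_lit 5)))))
(Tr.nd (nat_lit 338) (Tr.nd (nat_lit 336) (Tr.lf (nat_lit 3))
(Tr.nd (nat_lit 337) (Tr.lf (nat_lit 4))
(Tr.lf (nat_lit 2))))
(Tr.nd (nat_lit 339) (Tr.lf (nat_lit 5))
(Tr.nd (nat_lit 340) (Tr.lf (nat_lit 11))
(Tr.lf (nat_lit 3))))))
(Tr.nd (nat_lit 346) (Tr.nd (nat_lit 343) (Tr.nd (nat_lit 342) (Tr.lf (nat_lit 2))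
(Tr.lf (nat_lit 11)))
(Tr.nd (nat_lit 344) (Tr.lf (nat_lit 3))
(Tr.nd (nat_lit 345) (Tr.lf (nat_lit 1))
(Tr.lf (nat_lit 3)))))
(Tr.nd (nat_lit 349) (Tr.nd (nat_lit 347) (Tr.lf (nat_lit 5))
(Tr.nd (nat_lit 348) (Tr.lf (nat_lit 5))
(Tr.lf (nat_lit 6))))
(Tr.nd (nat_lit 350) (Tr.lf (nat_lit 6))
(Tr.nd (nat_lit 351) (Tr.lf (nat_lit 5))
(Tr.lf (nat_lit 6)))))))))))
(Tr.nd (nat_lit 528) (Tr.nd (nat_lit 440) (Tr.nd (nat_lit 396) (Tr.nd (nat_lit 374) (Tr.nd (nat_lit 363) (Tr.nd (nat_lit 357) (Tr.nd (nat_lit 354) (Tr.nd (nat_lit 353) (Tr.lf (nat_lit 7))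
(Tr.lf (nat_lit 7)))
(Tr.nd (nat_lit 355) (Tr.lf (nat_lit 6))
(Tr.nd (nat_lit 356) (Tr.lf (nat_lit 2))
(Tr.lf (nat_lit 7)))))
(Tr.nd (nat_lit 360) (Tr.nd (nat_lit 358) (Tr.lf (nat_lit 6))
(Tr.nd (nat_lit 359) (Tr.lf (nat_lit 2))
(Tr.lf (nat_lit 4))))
(Tr.nd (nat_lit 361) (Tr.lf (nat_lit 7))
(Tr.nd (nat_lit 362) (Tr.lf (nat_lit 6))
(Tr.lf (nat_lit 2))))))
(Tr.nd (nat_lit 368) (Tr.nd (nat_lit 365) (Tr.nd (nat_lit 364) (Tr.lf (nat_lit 7))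
(Tr.lf (nat_lit 6)))
(Tr.nd (nat_lit 366) (Tr.lf (nat_lit 6))
(Tr.nd (nat_lit 367) (Tr.lf (nat_lit 5))
(Tr.lf (nat_lit 5)))))
(Tr.nd (nat_lit 371) (Tr.nd (nat_lit 369) (Tr.lf (nat_lit 6))
(Tr.nd (nat_lit 370) (Tr.lf (nat_lit 11))
(Tr.lf (nat_lit 11))))
(Tr.nd (nat_lit 372) (Tr.lf (nat_lit 11))
(Tr.nd (nat_lit 373) (Tr.lf (nat_lit 11))
(Tr.lf (nat_lit 7)))))))
(Tr.nd (nat_lit 385) (Tr.nd (nat_lit 379) (Tr.nd (nat_lit 376) (Tr.nd (nat_lit 375) (Tr.lf (nat_lit 8))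
(Tr.lf (nat_lit 11)))
(Tr.nd (nat_lit 377) (Tr.lf (nat_lit 11))
(Tr.nd (nat_lit 378) (Tr.lf (nat_lit 10))
(Tr.lf (nat_lit 10)))))
(Tr.nd (nat_lit 382) (Tr.nd (nat_lit 380) (Tr.lf (nat_lit 10))
(Tr.nd (nat_lit 381) (Tr.lf (nat_lit 7))
(Tr.lf (nat_lit 11))))
(Tr.nd (nat_lit 383) (Tr.lf (nat_lit 10))
(Tr.nd (nat_lit 384) (Tr.lf (nat_lit 10))
(Tr.lf (nat_lit 10))))))
(Tr.nd (nat_lit 390) (Tr.nd (nat_lit 387) (Tr.nd (nat_lit 386) (Tr.lf (nat_lit 3))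
(Tr.lf (nat_lit 4)))
(Tr.nd (nat_lit 388) (Tr.lf (nat_lit 8))
(Tr.nd (nat_lit 389) (Tr.lf (nat_lit 10))
(Tr.lf (nat_lit 11)))))
(Tr.nd (nat_lit 393) (Tr.nd (nat_lit 391) (Tr.lf (nat_lit 10))
(Tr.nd (nat_lit 392) (Tr.lf (nat_lit 11))
(Tr.lf (nat_lit 10))))
(Tr.nd (nat_lit 394) (Tr.lf (nat_lit 10))
(Tr.nd (nat_lit 395) (Tr.lf (nat_lit 5))
(Tr.lf (nat_lit 11))))))))
(Tr.nd (nat_lit 418) (Tr.nd (nat_lit 407) (Tr.nd (nat_lit 401) (Tr.nd (nat_lit 398) (Tr.nd (nat_lit 397) (Tr.lf (nat_lit 10))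
(Tr.lf (nat_lit 5)))
(Tr.nd (nat_lit 399) (Tr.lf (nat_lit 10))
(Tr.nd (nat_lit 400) (Tr.lf (nat_lit 5))
(Tr.lf (nat_lit 10)))))
(Tr.nd (nat_lit 404) (Tr.nd (nat_lit 402) (Tr.lf (nat_lit 5))
(Tr.nd (nat_lit 403) (Tr.lf (nat_lit 10))
(Tr.lf (nat_lit 5))))
(Tr.nd (nat_lit 405) (Tr.lf (nat_lit 4))
(Tr.nd (nat_lit 406) (Tr.lf (nat_lit 3))
(Tr.lf (nat_lit 5))))))
(Tr.nd (nat_lit 412) (Tr.nd (nat_lit 409) (Tr.nd (nat_lit 408) (Tr.lf (nat_lit 4))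
(Tr.lf (nat_lit 5)))
(Tr.nd (nat_lit 410) (Tr.lf (nat_lit 7))
(Tr.nd (nat_lit 411) (Tr.lf (nat_lit 4))
(Tr.lf (nat_lit 7)))))
(Tr.nd (nat_lit 415) (Tr.nd (nat_lit 413) (Tr.lf (nat_lit 5))
(Tr.nd (nat_lit 414) (Tr.lf (nat_lit 8))
(Tr.lf (nat_lit 1))))
(Tr.nd (nat_lit 416) (Tr.lf (nat_lit 4))
(Tr.nd (nat_lit 417) (Tr.lf (nat_lit 5))
(Tr.lf (nat_lit 7)))))))
(Tr.nd (nat_lit 429) (Tr.nd (nat_lit 423) (Tr.nd (nat_lit 420) (Tr.nd (nat_lit 419) (Tr.lf (nat_lit 6))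
(Tr.lf (nat_lit 8)))
(Tr.nd (nat_lit 421) (Tr.lf (nat_lit 1))
(Tr.nd (nat_lit 422) (Tr.lf (nat_lit 4))
(Tr.lf (nat_lit 5)))))
(Tr.nd (nat_lit 426) (Tr.nd (nat_lit 424) (Tr.lf (nat_lit 7))
(Tr.nd (nat_lit 425) (Tr.lf (nat_lit 8))
(Tr.lf (nat_lit 1))))
(Tr.nd (nat_lit 427) (Tr.lf (nat_lit 4))
(Tr.nd (nat_lit 428) (Tr.lf (nat_lit 5))
(Tr.lf (nat_lit 1))))))
(Tr.nd (nat_lit 434) (Tr.nd (nat_lit 431) (Tr.nd (nat_lit 430) (Tr.lf (nat_lit 4))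
(Tr.lf (nat_lit 5)))
(Tr.nd (nat_lit 432) (Tr.lf (nat_lit 1))
(Tr.nd (nat_lit 433) (Tr.lf (nat_lit 4))
(Tr.lf (nat_lit 8)))))
(Tr.nd (nat_lit 437) (Tr.nd (nat_lit 435) (Tr.lf (nat_lit 5))
(Tr.nd (nat_lit 436) (Tr.lf (nat_lit 11))
(Tr.lf (nat_lit 1))))
(Tr.nd (nat_lit 438) (Tr.lf (nat_lit 3))
(Tr.nd (nat_lit 439) (Tr.lf (nat_lit 5))
(Tr.lf (nat_lit 11)))))))))
(Tr.nd (nat_lit 484) (Tr.nd (nat_lit 462) (Tr.nd (nat_lit 451) (Tr.nd (nat_lit 445) (Tr.nd (nat_lit 442) (Tr.nd (nat_lit 441) (Tr.lf (nat_lit 1))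
(Tr.lf (nat_lit 5)))
(Tr.nd (nat_lit 443) (Tr.lf (nat_lit 6))
(Tr.nd (nat_lit 444) (Tr.lf (nat_lit 1))
(Tr.lf (nat_lit 1)))))
(Tr.nd (nat_lit 448) (Tr.nd (nat_lit 446) (Tr.lf (nat_lit 1))
(Tr.nd (nat_lit 447) (Tr.lf (nat_lit 10))
(Tr.lf (nat_lit 4))))
(Tr.nd (nat_lit 449) (Tr.lf (nat_lit 10))
(Tr.nd (nat_lit 450) (Tr.lf (nat_lit 5))
(Tr.lf (nat_lit 5))))))
(Tr.nd (nat_lit 456) (Tr.nd (nat_lit 453) (Tr.nd (nat_lit 452) (Tr.lf (nat_lit 4))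
(Tr.lf (nat_lit 10)))
(Tr.nd (nat_lit 454) (Tr.lf (nat_lit 5))
(Tr.nd (nat_lit 455) (Tr.lf (nat_lit 6))
(Tr.lf (nat_lit 5)))))
(Tr.nd (nat_lit 459) (Tr.nd (nat_lit 457) (Tr.lf (nat_lit 6))
(Tr.nd (nat_lit 458) (Tr.lf (nat_lit 5))
(Tr.lf (nat_lit 4))))
(Tr.nd (nat_lit 460) (Tr.lf (nat_lit 6))
(Tr.nd (nat_lit 461) (Tr.lf (nat_lit 5))
(Tr.lf (nat_lit 11)))))))
(Tr.nd (nat_lit 473) (Tr.nd (nat_lit 467) (Tr.nd (nat_lit 464) (Tr.nd (nat_lit 463) (Tr.lf (nat_lit 11))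
(Tr.lf (nat_lit 10)))
(Tr.nd (nat_lit 465) (Tr.lf (nat_lit 5))
(Tr.nd (nat_lit 466) (Tr.lf (nat_lit 5))
(Tr.lf (nat_lit 5)))))
(Tr.nd (nat_lit 470) (Tr.nd (nat_lit 468) (Tr.lf (nat_lit 4))
(Tr.nd (nat_lit 469) (Tr.lf (nat_lit 8))
(Tr.lf (nat_lit 10))))
(Tr.nd (nat_lit 471) (Tr.lf (nat_lit 11))
(Tr.nd (nat_lit 472) (Tr.lf (nat_lit 10))
(Tr.lf (nat_lit 5))))))
(Tr.nd (nat_lit 478) (Tr.nd (nat_lit 475) (Tr.nd (nat_lit 474) (Tr.lf (nat_lit 10))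
(Tr.lf (nat_lit 5)))
(Tr.nd (nat_lit 476) (Tr.lf (nat_lit 5))
(Tr.nd (nat_lit 477) (Tr.lf (nat_lit 4))
(Tr.lf (nat_lit 6)))))
(Tr.nd (nat_lit 481) (Tr.nd (nat_lit 479) (Tr.lf (nat_lit 10))
(Tr.nd (nat_lit 480) (Tr.lf (nat_lit 5))
(Tr.lf (nat_lit 4))))
(Tr.nd (nat_lit 482) (Tr.lf (nat_lit 6))
(Tr.nd (nat_lit 483) (Tr.lf (nat_lit 5))
(Tr.lf (nat_lit 4))))))))
(Tr.nd (nat_lit 506) (Tr.nd (nat_lit 495) (Tr.nd (nat_lit 489) (Tr.nd (nat_lit 486) (Tr.nd (nat_lit 485) (Tr.lf (nat_lit 6))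
(Tr.lf (nat_lit 5)))
(Tr.nd (nat_lit 487) (Tr.lf (nat_lit 4))
(Tr.nd (nat_lit 488) (Tr.lf (nat_lit 6))
(Tr.lf (nat_lit 5)))))
(Tr.nd (nat_lit 492) (Tr.nd (nat_lit 490) (Tr.lf (nat_lit 3))
(Tr.nd (nat_lit 491) (Tr.lf (nat_lit 5))
(Tr.lf (nat_lit 2))))
(Tr.nd (nat_lit 493) (Tr.lf (nat_lit 5))
(Tr.nd (nat_lit 494) (Tr.lf (nat_lit 6))
(Tr.lf (nat_lit 3))))))
(Tr.nd (nat_lit 500) (Tr.nd (nat_lit 497) (Tr.nd (nat_lit 496) (Tr.lf (nat_lit 5))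
(Tr.lf (nat_lit 7)))
(Tr.nd (nat_lit 498) (Tr.lf (nat_lit 6))
(Tr.nd (nat_lit 499) (Tr.lf (nat_lit 7))
(Tr.lf (nat_lit 10)))))
(Tr.nd (nat_lit 503) (Tr.nd (nat_lit 501) (Tr.lf (nat_lit 8))
(Tr.nd (nat_lit 502) (Tr.lf (nat_lit 3))
(Tr.lf (nat_lit 5))))
(Tr.nd (nat_lit 504) (Tr.lf (nat_lit 7))
(Tr.nd (nat_lit 505) (Tr.lf (nat_lit 8))
(Tr.lf (nat_lit 6)))))))
(Tr.nd (nat_lit 517) (Tr.nd (nat_lit 511) (Tr.nd (nat_lit 508) (Tr.nd (nat_lit 507) (Tr.lf (nat_lit 7))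
(Tr.lf (nat_lit 0)))
(Tr.nd (nat_lit 509) (Tr.lf (nat_lit 3))
(Tr.nd (nat_lit 510) (Tr.lf (nat_lit 5))
(Tr.lf (nat_lit 7)))))
(Tr.nd (nat_lit 514) (Tr.nd (nat_lit 512) (Tr.lf (nat_lit 6))
(Tr.nd (nat_lit 513) (Tr.lf (nat_lit 7))
(Tr.lf (nat_lit 10))))
(Tr.nd (nat_lit 515) (Tr.lf (nat_lit 6))
(Tr.nd (nat_lit 516) (Tr.lf (nat_lit 8))
(Tr.lf (nat_lit 8))))))
(Tr.nd (nat_lit 522) (Tr.nd (nat_lit 519) (Tr.nd (nat_lit 518) (Tr.lf (nat_lit 0))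
(Tr.lf (nat_lit 4)))
(Tr.nd (nat_lit 520) (Tr.lf (nat_lit 7))
(Tr.nd (nat_lit 521) (Tr.lf (nat_lit 3))
(Tr.lf (nat_lit 5)))))
(Tr.nd (nat_lit 525) (Tr.nd (nat_lit 523) (Tr.lf (nat_lit 7))
(Tr.nd (nat_lit 524) (Tr.lf (nat_lit 6))
(Tr.lf (nat_lit 7))))
(Tr.nd (nat_lit 526) (Tr.lf (nat_lit 10))
(Tr.nd (nat_lit 527) (Tr.lf (nat_lit 8))
(Tr.lf (nat_lit 0))))))))))
(Tr.nd (nat_lit 616) (Tr.nd (nat_lit 572) (Tr.nd (nat_lit 550) (Tr.nd (nat_lit 539) (Tr.nd (nat_lit 533) (Tr.nd (nat_lit 530) (Tr.nd (nat_lit 529) (Tr.lf (nat_lit 4))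
(Tr.lf (nat_lit 3)))
(Tr.nd (nat_lit 531) (Tr.lf (nat_lit 5))
(Tr.nd (nat_lit 532) (Tr.lf (nat_lit 6))
(Tr.lf (nat_lit 0)))))
(Tr.nd (nat_lit 536) (Tr.nd (nat_lit 534) (Tr.lf (nat_lit 4))
(Tr.nd (nat_lit 535) (Tr.lf (nat_lit 8))
(Tr.lf (nat_lit 3))))
(Tr.nd (nat_lit 537) (Tr.lf (nat_lit 5))
(Tr.nd (nat_lit 538) (Tr.lf (nat_lit 8))
(Tr.lf (nat_lit 6))))))
(Tr.nd (nat_lit 544) (Tr.nd (nat_lit 541) (Tr.nd (nat_lit 540) (Tr.lf (nat_lit 0))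
(Tr.lf (nat_lit 4)))
(Tr.nd (nat_lit 542) (Tr.lf (nat_lit 8))
(Tr.nd (nat_lit 543) (Tr.lf (nat_lit 11))
(Tr.lf (nat_lit 3)))))
(Tr.nd (nat_lit 547) (Tr.nd (nat_lit 545) (Tr.lf (nat_lit 5))
(Tr.nd (nat_lit 546) (Tr.lf (nat_lit 8))
(Tr.lf (nat_lit 11))))
(Tr.nd (nat_lit 548) (Tr.lf (nat_lit 11))
(Tr.nd (nat_lit 549) (Tr.lf (nat_lit 6))
(Tr.lf (nat_lit 4)))))))
(Tr.nd (nat_lit 561) (Tr.nd (nat_lit 555) (Tr.nd (nat_lit 552) (Tr.nd (nat_lit 551) (Tr.lf (nat_lit 8))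
(Tr.lf (nat_lit 11)))
(Tr.nd (nat_lit 553) (Tr.lf (nat_lit 5))
(Tr.nd (nat_lit 554) (Tr.lf (nat_lit 11))
(Tr.lf (nat_lit 6)))))
(Tr.nd (nat_lit 558) (Tr.nd (nat_lit 556) (Tr.lf (nat_lit 4))
(Tr.nd (nat_lit 557) (Tr.lf (nat_lit 6))
(Tr.lf (nat_lit 7))))
(Tr.nd (nat_lit 559) (Tr.lf (nat_lit 4))
(Tr.nd (nat_lit 560) (Tr.lf (nat_lit 4))
(Tr.lf (nat_lit 10))))))
(Tr.nd (nat_lit 566) (Tr.nd (nat_lit 563) (Tr.nd (nat_lit 562) (Tr.lf (nat_lit 4))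
(Tr.lf (nat_lit 10)))
(Tr.nd (nat_lit 564) (Tr.lf (nat_lit 4))
(Tr.nd (nat_lit 565) (Tr.lf (nat_lit 5))
(Tr.lf (nat_lit 10)))))
(Tr.nd (nat_lit 569) (Tr.nd (nat_lit 567) (Tr.lf (nat_lit 5))
(Tr.nd (nat_lit 568) (Tr.lf (nat_lit 3))
(Tr.lf (nat_lit 5))))
(Tr.nd (nat_lit 570) (Tr.lf (nat_lit 4))
(Tr.nd (nat_lit 571) (Tr.lf (nat_lit 4))
(Tr.lf (nat_lit 4))))))))
(Tr.nd (nat_lit 594) (Tr.nd (nat_lit 583) (Tr.nd (nat_lit 577) (Tr.nd (nat_lit 574) (Tr.nd (nat_lit 573) (Tr.lf (nat_lit 5))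
(Tr.lf (nat_lit 4)))
(Tr.nd (nat_lit 575) (Tr.lf (nat_lit 5))
(Tr.nd (nat_lit 576) (Tr.lf (nat_lit 4))
(Tr.lf (nat_lit 4)))))
(Tr.nd (nat_lit 580) (Tr.nd (nat_lit 578) (Tr.lf (nat_lit 3))
(Tr.nd (nat_lit 579) (Tr.lf (nat_lit 7))
(Tr.lf (nat_lit 5))))
(Tr.nd (nat_lit 581) (Tr.lf (nat_lit 4))
(Tr.nd (nat_lit 582) (Tr.lf (nat_lit 6))
(Tr.lf (nat_lit 3))))))
(Tr.nd (nat_lit 588) (Tr.nd (nat_lit 585) (Tr.nd (nat_lit 584) (Tr.lf (nat_lit 7))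
(Tr.lf (nat_lit 6)))
(Tr.nd (nat_lit 586) (Tr.lf (nat_lit 3))
(Tr.nd (nat_lit 587) (Tr.lf (nat_lit 6))
(Tr.lf (nat_lit 7)))))
(Tr.nd (nat_lit 591) (Tr.nd (nat_lit 589) (Tr.lf (nat_lit 4))
(Tr.nd (nat_lit 590) (Tr.lf (nat_lit 6))
(Tr.lf (nat_lit 3))))
(Tr.nd (nat_lit 592) (Tr.lf (nat_lit 6))
(Tr.nd (nat_lit 593) (Tr.lf (nat_lit 6))
(Tr.lf (nat_lit 2)))))))
(Tr.nd (nat_lit 605) (Tr.nd (nat_lit 599) (Tr.nd (nat_lit 596) (Tr.nd (nat_lit 595) (Tr.lf (nat_lit 5))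
(Tr.lf (nat_lit 6)))
(Tr.nd (nat_lit 597) (Tr.lf (nat_lit 5))
(Tr.nd (nat_lit 598) (Tr.lf (nat_lit 6))
(Tr.lf (nat_lit 7)))))
(Tr.nd (nat_lit 602) (Tr.nd (nat_lit 600) (Tr.lf (nat_lit 5))
(Tr.nd (nat_lit 601) (Tr.lf (nat_lit 7))
(Tr.lf (nat_lit 6))))
(Tr.nd (nat_lit 603) (Tr.lf (nat_lit 7))
(Tr.nd (nat_lit 604) (Tr.lf (nat_lit 7))
(Tr.lf (nat_lit 10))))))
(Tr.nd (nat_lit 610) (Tr.nd (nat_lit 607) (Tr.nd (nat_lit 606) (Tr.lf (nat_lit 6))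
(Tr.lf (nat_lit 8)))
(Tr.nd (nat_lit 608) (Tr.lf (nat_lit 10))
(Tr.nd (nat_lit 609) (Tr.lf (nat_lit 11))
(Tr.lf (nat_lit 5)))))
(Tr.nd (nat_lit 613) (Tr.nd (nat_lit 611) (Tr.lf (nat_lit 6))
(Tr.nd (nat_lit 612) (Tr.lf (nat_lit 7))
(Tr.lf (nat_lit 8))))
(Tr.nd (nat_lit 614) (Tr.lf (nat_lit 7))
(Tr.nd (nat_lit 615) (Tr.lf (nat_lit 10))
(Tr.lf (nat_lit 6)))))))))
(Tr.nd (nat_lit 660) (Tr.nd (nat_lit 638) (Tr.nd (nat_lit 627) (Tr.nd (nat_lit 621) (Tr.nd (nat_lit 618) (Tr.nd (nat_lit 617) (Tr.lf (nat_lit 4))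
(Tr.lf (nat_lit 5)))
(Tr.nd (nat_lit 619) (Tr.lf (nat_lit 7))
(Tr.nd (nat_lit 620) (Tr.lf (nat_lit 6))
(Tr.lf (nat_lit 7)))))
(Tr.nd (nat_lit 624) (Tr.nd (nat_lit 622) (Tr.lf (nat_lit 6))
(Tr.nd (nat_lit 623) (Tr.lf (nat_lit 8))
(Tr.lf (nat_lit 7))))
(Tr.nd (nat_lit 625) (Tr.lf (nat_lit 10))
(Tr.nd (nat_lit 626) (Tr.lf (nat_lit 6))
(Tr.lf (nat_lit 10))))))
(Tr.nd (nat_lit 632) (Tr.nd (nat_lit 629) (Tr.nd (nat_lit 628) (Tr.lf (nat_lit 8))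
(Tr.lf (nat_lit 7)))
(Tr.nd (nat_lit 630) (Tr.lf (nat_lit 4))
(Tr.nd (nat_lit 631) (Tr.lf (nat_lit 3))
(Tr.lf (nat_lit 5)))))
(Tr.nd (nat_lit 635) (Tr.nd (nat_lit 633) (Tr.lf (nat_lit 7))
(Tr.nd (nat_lit 634) (Tr.lf (nat_lit 5))
(Tr.lf (nat_lit 7))))
(Tr.nd (nat_lit 636) (Tr.lf (nat_lit 6))
(Tr.nd (nat_lit 637) (Tr.lf (nat_lit 7))
(Tr.lf (nat_lit 10)))))))
(Tr.nd (nat_lit 649) (Tr.nd (nat_lit 643) (Tr.nd (nat_lit 640) (Tr.nd (nat_lit 639) (Tr.lf (nat_lit 8))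
(Tr.lf (nat_lit 7)))
(Tr.nd (nat_lit 641) (Tr.lf (nat_lit 10))
(Tr.nd (nat_lit 642) (Tr.lf (nat_lit 6))
(Tr.lf (nat_lit 8)))))
(Tr.nd (nat_lit 646) (Tr.nd (nat_lit 644) (Tr.lf (nat_lit 10))
(Tr.nd (nat_lit 645) (Tr.lf (nat_lit 4))
(Tr.lf (nat_lit 3))))
(Tr.nd (nat_lit 647) (Tr.lf (nat_lit 5))
(Tr.nd (nat_lit 648) (Tr.lf (nat_lit 5))
(Tr.lf (nat_lit 6))))))
(Tr.nd (nat_lit 654) (Tr.nd (nat_lit 651) (Tr.nd (nat_lit 650) (Tr.lf (nat_lit 7))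
(Tr.lf (nat_lit 10)))
(Tr.nd (nat_lit 652) (Tr.lf (nat_lit 4))
(Tr.nd (nat_lit 653) (Tr.lf (nat_lit 3))
(Tr.lf (nat_lit 5)))))
(Tr.nd (nat_lit 657) (Tr.nd (nat_lit 655) (Tr.lf (nat_lit 8))
(Tr.nd (nat_lit 656) (Tr.lf (nat_lit 5))
(Tr.lf (nat_lit 6))))
(Tr.nd (nat_lit 658) (Tr.lf (nat_lit 4))
(Tr.nd (nat_lit 659) (Tr.lf (nat_lit 3))
(Tr.lf (nat_lit 5))))))))
(Tr.nd (nat_lit 682) (Tr.nd (nat_lit 671) (Tr.nd (nat_lit 665) (Tr.nd (nat_lit 662) (Tr.nd (nat_lit 661) (Tr.lf (nat_lit 8))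
(Tr.lf (nat_lit 11)))
(Tr.nd (nat_lit 663) (Tr.lf (nat_lit 7))
(Tr.nd (nat_lit 664) (Tr.lf (nat_lit 6))
(Tr.lf (nat_lit 8)))))
(Tr.nd (nat_lit 668) (Tr.nd (nat_lit 666) (Tr.lf (nat_lit 11))
(Tr.nd (nat_lit 667) (Tr.lf (nat_lit 7))
(Tr.lf (nat_lit 11))))
(Tr.nd (nat_lit 669) (Tr.lf (nat_lit 11))
(Tr.nd (nat_lit 670) (Tr.lf (nat_lit 5))
(Tr.lf (nat_lit 8))))))
(Tr.nd (nat_lit 676) (Tr.nd (nat_lit 673) (Tr.nd (nat_lit 672) (Tr.lf (nat_lit 11))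
(Tr.lf (nat_lit 11)))
(Tr.nd (nat_lit 674) (Tr.lf (nat_lit 6))
(Tr.nd (nat_lit 675) (Tr.lf (nat_lit 11))
(Tr.lf (nat_lit 11)))))
(Tr.nd (nat_lit 679) (Tr.nd (nat_lit 677) (Tr.lf (nat_lit 7))
(Tr.nd (nat_lit 678) (Tr.lf (nat_lit 10))
(Tr.lf (nat_lit 11))))
(Tr.nd (nat_lit 680) (Tr.lf (nat_lit 10))
(Tr.nd (nat_lit 681) (Tr.lf (nat_lit 11))
(Tr.lf (nat_lit 4)))))))
(Tr.nd (nat_lit 693) (Tr.nd (nat_lit 687) (Tr.nd (nat_lit 684) (Tr.nd (nat_lit 683) (Tr.lf (nat_lit 10))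
(Tr.lf (nat_lit 4)))
(Tr.nd (nat_lit 685) (Tr.lf (nat_lit 4))
(Tr.nd (nat_lit 686) (Tr.lf (nat_lit 6))
(Tr.lf (nat_lit 3)))))
(Tr.nd (nat_lit 690) (Tr.nd (nat_lit 688) (Tr.lf (nat_lit 6))
(Tr.nd (nat_lit 689) (Tr.lf (nat_lit 4))
(Tr.lf (nat_lit 6))))
(Tr.nd (nat_lit 691) (Tr.lf (nat_lit 4))
(Tr.nd (nat_lit 692) (Tr.lf (nat_lit 3))
(Tr.lf (nat_lit 6))))))
(Tr.nd (nat_lit 698) (Tr.nd (nat_lit 695) (Tr.nd (nat_lit 694) (Tr.lf (nat_lit 6))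
(Tr.lf (nat_lit 2)))
(Tr.nd (nat_lit 696) (Tr.lf (nat_lit 6))
(Tr.nd (nat_lit 697) (Tr.lf (nat_lit 4))
(Tr.lf (nat_lit 6)))))
(Tr.nd (nat_lit 701) (Tr.nd (nat_lit 699) (Tr.lf (nat_lit 3))
(Tr.nd (nat_lit 700) (Tr.lf (nat_lit 6))
(Tr.lf (nat_lit 2))))
(Tr.nd (nat_lit 702) (Tr.lf (nat_lit 6))
(Tr.nd (nat_lit 703) (Tr.lf (nat_lit 7))
(Tr.lf (nat_lit 2))))))))))))
(Tr.nd (nat_lit 1056) (Tr.nd (nat_lit 880) (Tr.nd (nat_lit 792) (Tr.nd (nat_lit 748) (Tr.nd (nat_lit 726) (Tr.nd (nat_lit 715) (Tr.nd (nat_lit 709) (Tr.nd (nat_lit 706) (Tr.nd (nat_lit 705) (Tr.lf (nat_lit 6))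
(Tr.lf (nat_lit 5)))
(Tr.nd (nat_lit 707) (Tr.lf (nat_lit 8))
(Tr.nd (nat_lit 708) (Tr.lf (nat_lit 3))
(Tr.lf (nat_lit 6)))))
(Tr.nd (nat_lit 712) (Tr.nd (nat_lit 710) (Tr.lf (nat_lit 7))
(Tr.nd (nat_lit 711) (Tr.lf (nat_lit 2))
(Tr.lf (nat_lit 6))))
(Tr.nd (nat_lit 713) (Tr.lf (nat_lit 5))
(Tr.nd (nat_lit 714) (Tr.lf (nat_lit 7))
(Tr.lf (nat_lit 7))))))
(Tr.nd (nat_lit 720) (Tr.nd (nat_lit 717) (Tr.nd (nat_lit 716) (Tr.lf (nat_lit 5))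
(Tr.lf (nat_lit 7)))
(Tr.nd (nat_lit 718) (Tr.lf (nat_lit 6))
(Tr.nd (nat_lit 719) (Tr.lf (nat_lit 8))
(Tr.lf (nat_lit 4)))))
(Tr.nd (nat_lit 723) (Tr.nd (nat_lit 721) (Tr.lf (nat_lit 6))
(Tr.nd (nat_lit 722) (Tr.lf (nat_lit 7))
(Tr.lf (nat_lit 7))))
(Tr.nd (nat_lit 724) (Tr.lf (nat_lit 10))
(Tr.nd (nat_lit 725) (Tr.lf (nat_lit 6))
(Tr.lf (nat_lit 10)))))))
(Tr.nd (nat_lit 737) (Tr.nd (nat_lit 731) (Tr.nd (nat_lit 728) (Tr.nd (nat_lit 727) (Tr.lf (nat_lit 6))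
(Tr.lf (nat_lit 8)))
(Tr.nd (nat_lit 729) (Tr.lf (nat_lit 5))
(Tr.nd (nat_lit 730) (Tr.lf (nat_lit 11))
(Tr.lf (nat_lit 8)))))
(Tr.nd (nat_lit 734) (Tr.nd (nat_lit 732) (Tr.lf (nat_lit 9))
(Tr.nd (nat_lit 733) (Tr.lf (nat_lit 10))
(Tr.lf (nat_lit 10))))
(Tr.nd (nat_lit 735) (Tr.lf (nat_lit 11))
(Tr.nd (nat_lit 736) (Tr.lf (nat_lit 4))
(Tr.lf (nat_lit 6))))))
(Tr.nd (nat_lit 742) (Tr.nd (nat_lit 739) (Tr.nd (nat_lit 738) (Tr.lf (nat_lit 7))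
(Tr.lf (nat_lit 7)))
(Tr.nd (nat_lit 740) (Tr.lf (nat_lit 10))
(Tr.nd (nat_lit 741) (Tr.lf (nat_lit 6))
(Tr.lf (nat_lit 8)))))
(Tr.nd (nat_lit 745) (Tr.nd (nat_lit 743) (Tr.lf (nat_lit 6))
(Tr.nd (nat_lit 744) (Tr.lf (nat_lit 10))
(Tr.lf (nat_lit 5))))
(Tr.nd (nat_lit 746) (Tr.lf (nat_lit 11))
(Tr.nd (nat_lit 747) (Tr.lf (nat_lit 8))
(Tr.lf (nat_lit 9))))))))
(Tr.nd (nat_lit 770) (Tr.nd (nat_lit 759) (Tr.nd (nat_lit 753) (Tr.nd (nat_lit 750) (Tr.nd (nat_lit 749) (Tr.lf (nat_lit 3))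
(Tr.lf (nat_lit 4)))
(Tr.nd (nat_lit 751) (Tr.lf (nat_lit 6))
(Tr.nd (nat_lit 752) (Tr.lf (nat_lit 7))
(Tr.lf (nat_lit 10)))))
(Tr.nd (nat_lit 756) (Tr.nd (nat_lit 754) (Tr.lf (nat_lit 8))
(Tr.nd (nat_lit 755) (Tr.lf (nat_lit 7))
(Tr.lf (nat_lit 6))))
(Tr.nd (nat_lit 757) (Tr.lf (nat_lit 10))
(Tr.nd (nat_lit 758) (Tr.lf (nat_lit 5))
(Tr.lf (nat_lit 8))))))
(Tr.nd (nat_lit 764) (Tr.nd (nat_lit 761) (Tr.nd (nat_lit 760) (Tr.lf (nat_lit 6))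
(Tr.lf (nat_lit 8)))
(Tr.nd (nat_lit 762) (Tr.lf (nat_lit 10))
(Tr.nd (nat_lit 763) (Tr.lf (nat_lit 5))
(Tr.lf (nat_lit 11)))))
(Tr.nd (nat_lit 767) (Tr.nd (nat_lit 765) (Tr.lf (nat_lit 10))
(Tr.nd (nat_lit 766) (Tr.lf (nat_lit 7))
(Tr.lf (nat_lit 3))))
(Tr.nd (nat_lit 768) (Tr.lf (nat_lit 5))
(Tr.nd (nat_lit 769) (Tr.lf (nat_lit 6))
(Tr.lf (nat_lit 4)))))))
(Tr.nd (nat_lit 781) (Tr.nd (nat_lit 775) (Tr.nd (nat_lit 772) (Tr.nd (nat_lit 771) (Tr.lf (nat_lit 6))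
(Tr.lf (nat_lit 7)))
(Tr.nd (nat_lit 773) (Tr.lf (nat_lit 10))
(Tr.nd (nat_lit 774) (Tr.lf (nat_lit 8))
(Tr.lf (nat_lit 7)))))
(Tr.nd (nat_lit 778) (Tr.nd (nat_lit 776) (Tr.lf (nat_lit 10))
(Tr.nd (nat_lit 777) (Tr.lf (nat_lit 6))
(Tr.lf (nat_lit 8))))
(Tr.nd (nat_lit 779) (Tr.lf (nat_lit 10))
(Tr.nd (nat_lit 780) (Tr.lf (nat_lit 6))
(Tr.lf (nat_lit 10))))))
(Tr.nd (nat_lit 786) (Tr.nd (nat_lit 783) (Tr.nd (nat_lit 782) (Tr.lf (nat_lit 5))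
(Tr.lf (nat_lit 10)))
(Tr.nd (nat_lit 784) (Tr.lf (nat_lit 10))
(Tr.nd (nat_lit 785) (Tr.lf (nat_lit 3))
(Tr.lf (nat_lit 2)))))
(Tr.nd (nat_lit 789) (Tr.nd (nat_lit 787) (Tr.lf (nat_lit 5))
(Tr.nd (nat_lit 788) (Tr.lf (nat_lit 6))
(Tr.lf (nat_lit 4))))
(Tr.nd (nat_lit 790) (Tr.lf (nat_lit 6))
(Tr.nd (nat_lit 791) (Tr.lf (nat_lit 10))
(Tr.lf (nat_lit 3)))))))))
(Tr.nd (nat_lit 836) (Tr.nd (nat_lit 814) (Tr.nd (nat_lit 803) (Tr.nd (nat_lit 797) (Tr.nd (nat_lit 794) (Tr.nd (nat_lit 793) (Tr.lf (nat_lit 5))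
(Tr.lf (nat_lit 2)))
(Tr.nd (nat_lit 795) (Tr.lf (nat_lit 5))
(Tr.nd (nat_lit 796) (Tr.lf (nat_lit 8))
(Tr.lf (nat_lit 6)))))
(Tr.nd (nat_lit 800) (Tr.nd (nat_lit 798) (Tr.lf (nat_lit 4))
(Tr.nd (nat_lit 799) (Tr.lf (nat_lit 8))
(Tr.lf (nat_lit 3))))
(Tr.nd (nat_lit 801) (Tr.lf (nat_lit 2))
(Tr.nd (nat_lit 802) (Tr.lf (nat_lit 5))
(Tr.lf (nat_lit 8))))))
(Tr.nd (nat_lit 808) (Tr.nd (nat_lit 805) (Tr.nd (nat_lit 804) (Tr.lf (nat_lit 6))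
(Tr.lf (nat_lit 8)))
(Tr.nd (nat_lit 806) (Tr.lf (nat_lit 11))
(Tr.nd (nat_lit 807) (Tr.lf (nat_lit 11))
(Tr.lf (nat_lit 8)))))
(Tr.nd (nat_lit 811) (Tr.nd (nat_lit 809) (Tr.lf (nat_lit 11))
(Tr.nd (nat_lit 810) (Tr.lf (nat_lit 11))
(Tr.lf (nat_lit 10))))
(Tr.nd (nat_lit 812) (Tr.lf (nat_lit 11))
(Tr.nd (nat_lit 813) (Tr.lf (nat_lit 6))
(Tr.lf (nat_lit 11)))))))
(Tr.nd (nat_lit 825) (Tr.nd (nat_lit 819) (Tr.nd (nat_lit 816) (Tr.nd (nat_lit 815) (Tr.lf (nat_lit 11))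
(Tr.lf (nat_lit 11)))
(Tr.nd (nat_lit 817) (Tr.lf (nat_lit 11))
(Tr.nd (nat_lit 818) (Tr.lf (nat_lit 11))
(Tr.lf (nat_lit 10)))))
(Tr.nd (nat_lit 822) (Tr.nd (nat_lit 820) (Tr.lf (nat_lit 10))
(Tr.nd (nat_lit 821) (Tr.lf (nat_lit 6))
(Tr.lf (nat_lit 6))))
(Tr.nd (nat_lit 823) (Tr.lf (nat_lit 5))
(Tr.nd (nat_lit 824) (Tr.lf (nat_lit 3))
(Tr.lf (nat_lit 6))))))
(Tr.nd (nat_lit 830) (Tr.nd (nat_lit 827) (Tr.nd (nat_lit 826) (Tr.lf (nat_lit 2))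
(Tr.lf (nat_lit 6)))
(Tr.nd (nat_lit 828) (Tr.lf (nat_lit 5))
(Tr.nd (nat_lit 829) (Tr.lf (nat_lit 5))
(Tr.lf (nat_lit 7)))))
(Tr.nd (nat_lit 833) (Tr.nd (nat_lit 831) (Tr.lf (nat_lit 6))
(Tr.nd (nat_lit 832) (Tr.lf (nat_lit 7))
(Tr.lf (nat_lit 6))))
(Tr.nd (nat_lit 834) (Tr.lf (nat_lit 2))
(Tr.nd (nat_lit 835) (Tr.lf (nat_lit 6))
(Tr.lf (nat_lit 5))))))))
(Tr.nd (nat_lit 858) (Tr.nd (nat_lit 847) (Tr.nd (nat_lit 841) (Tr.nd (nat_lit 838) (Tr.nd (nat_lit 837) (Tr.lf (nat_lit 7))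
(Tr.lf (nat_lit 6)))
(Tr.nd (nat_lit 839) (Tr.lf (nat_lit 5))
(Tr.nd (nat_lit 840) (Tr.lf (nat_lit 7))
(Tr.lf (nat_lit 8)))))
(Tr.nd (nat_lit 844) (Tr.nd (nat_lit 842) (Tr.lf (nat_lit 6))
(Tr.nd (nat_lit 843) (Tr.lf (nat_lit 5))
(Tr.lf (nat_lit 7))))
(Tr.nd (nat_lit 845) (Tr.lf (nat_lit 7))
(Tr.nd (nat_lit 846) (Tr.lf (nat_lit 2))
(Tr.lf (nat_lit 5))))))
(Tr.nd (nat_lit 852) (Tr.nd (nat_lit 849) (Tr.nd (nat_lit 848) (Tr.lf (nat_lit 7))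
(Tr.lf (nat_lit 8)))
(Tr.nd (nat_lit 850) (Tr.lf (nat_lit 6))
(Tr.nd (nat_lit 851) (Tr.lf (nat_lit 5))
(Tr.lf (nat_lit 7)))))
(Tr.nd (nat_lit 855) (Tr.nd (nat_lit 853) (Tr.lf (nat_lit 8))
(Tr.nd (nat_lit 854) (Tr.lf (nat_lit 8))
(Tr.lf (nat_lit 6))))
(Tr.nd (nat_lit 856) (Tr.lf (nat_lit 8))
(Tr.nd (nat_lit 857) (Tr.lf (nat_lit 6))
(Tr.lf (nat_lit 7)))))))
(Tr.nd (nat_lit 869) (Tr.nd (nat_lit 863) (Tr.nd (nat_lit 860) (Tr.nd (nat_lit 859) (Tr.lf (nat_lit 7))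
(Tr.lf (nat_lit 6)))
(Tr.nd (nat_lit 861) (Tr.lf (nat_lit 10))
(Tr.nd (nat_lit 862) (Tr.lf (nat_lit 6))
(Tr.lf (nat_lit 8)))))
(Tr.nd (nat_lit 866) (Tr.nd (nat_lit 864) (Tr.lf (nat_lit 10))
(Tr.nd (nat_lit 865) (Tr.lf (nat_lit 11))
(Tr.lf (nat_lit 8))))
(Tr.nd (nat_lit 867) (Tr.lf (nat_lit 10))
(Tr.nd (nat_lit 868) (Tr.lf (nat_lit 11))
(Tr.lf (nat_lit 8))))))
(Tr.nd (nat_lit 874) (Tr.nd (nat_lit 871) (Tr.nd (nat_lit 870) (Tr.lf (nat_lit 10))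
(Tr.lf (nat_lit 10)))
(Tr.nd (nat_lit 872) (Tr.lf (nat_lit 4))
(Tr.nd (nat_lit 873) (Tr.lf (nat_lit 11))
(Tr.lf (nat_lit 7)))))
(Tr.nd (nat_lit 877) (Tr.nd (nat_lit 875) (Tr.lf (nat_lit 10))
(Tr.nd (nat_lit 876) (Tr.lf (nat_lit 10))
(Tr.lf (nat_lit 5))))
(Tr.nd (nat_lit 878) (Tr.lf (nat_lit 6))
(Tr.nd (nat_lit 879) (Tr.lf (nat_lit 7))
(Tr.lf (nat_lit 10))))))))))
(Tr.nd (nat_lit 968) (Tr.nd (nat_lit 924) (Tr.nd (nat_lit 902) (Tr.nd (nat_lit 891) (Tr.nd (nat_lit 885) (Tr.nd (nat_lit 882) (Tr.nd (nat_lit 881) (Tr.lf (nat_lit 7))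
(Tr.lf (nat_lit 10)))
(Tr.nd (nat_lit 883) (Tr.lf (nat_lit 6))
(Tr.nd (nat_lit 884) (Tr.lf (nat_lit 6))
(Tr.lf (nat_lit 8)))))
(Tr.nd (nat_lit 888) (Tr.nd (nat_lit 886) (Tr.lf (nat_lit 10))
(Tr.nd (nat_lit 887) (Tr.lf (nat_lit 5))
(Tr.lf (nat_lit 8))))
(Tr.nd (nat_lit 889) (Tr.lf (nat_lit 9))
(Tr.nd (nat_lit 890) (Tr.lf (nat_lit 8))
(Tr.lf (nat_lit 5))))))
(Tr.nd (nat_lit 896) (Tr.nd (nat_lit 893) (Tr.nd (nat_lit 892) (Tr.lf (nat_lit 4))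
(Tr.lf (nat_lit 7)))
(Tr.nd (nat_lit 894) (Tr.lf (nat_lit 10))
(Tr.nd (nat_lit 895) (Tr.lf (nat_lit 2))
(Tr.lf (nat_lit 7)))))
(Tr.nd (nat_lit 899) (Tr.nd (nat_lit 897) (Tr.lf (nat_lit 10))
(Tr.nd (nat_lit 898) (Tr.lf (nat_lit 7))
(Tr.lf (nat_lit 10))))
(Tr.nd (nat_lit 900) (Tr.lf (nat_lit 8))
(Tr.nd (nat_lit 901) (Tr.lf (nat_lit 6))
(Tr.lf (nat_lit 8)))))))
(Tr.nd (nat_lit 913) (Tr.nd (nat_lit 907) (Tr.nd (nat_lit 904) (Tr.nd (nat_lit 903) (Tr.lf (nat_lit 10))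
(Tr.lf (nat_lit 5)))
(Tr.nd (nat_lit 905) (Tr.lf (nat_lit 9))
(Tr.nd (nat_lit 906) (Tr.lf (nat_lit 9))
(Tr.lf (nat_lit 10)))))
(Tr.nd (nat_lit 910) (Tr.nd (nat_lit 908) (Tr.lf (nat_lit 7))
(Tr.nd (nat_lit 909) (Tr.lf (nat_lit 8))
(Tr.lf (nat_lit 10))))
(Tr.nd (nat_lit 911) (Tr.lf (nat_lit 10))
(Tr.nd (nat_lit 912) (Tr.lf (nat_lit 5))
(Tr.lf (nat_lit 11))))))
(Tr.nd (nat_lit 918) (Tr.nd (nat_lit 915) (Tr.nd (nat_lit 914) (Tr.lf (nat_lit 2))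
(Tr.lf (nat_lit 6)))
(Tr.nd (nat_lit 916) (Tr.lf (nat_lit 7))
(Tr.nd (nat_lit 917) (Tr.lf (nat_lit 10))
(Tr.lf (nat_lit 6)))))
(Tr.nd (nat_lit 921) (Tr.nd (nat_lit 919) (Tr.lf (nat_lit 7))
(Tr.nd (nat_lit 920) (Tr.lf (nat_lit 10))
(Tr.lf (nat_lit 7))))
(Tr.nd (nat_lit 922) (Tr.lf (nat_lit 10))
(Tr.nd (nat_lit 923) (Tr.lf (nat_lit 6))
(Tr.lf (nat_lit 8))))))))
(Tr.nd (nat_lit 946) (Tr.nd (nat_lit 935) (Tr.nd (nat_lit 929) (Tr.nd (nat_lit 926) (Tr.nd (nat_lit 925) (Tr.lf (nat_lit 6))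
(Tr.lf (nat_lit 10)))
(Tr.nd (nat_lit 927) (Tr.lf (nat_lit 5))
(Tr.nd (nat_lit 928) (Tr.lf (nat_lit 8))
(Tr.lf (nat_lit 10)))))
(Tr.nd (nat_lit 932) (Tr.nd (nat_lit 930) (Tr.lf (nat_lit 10))
(Tr.nd (nat_lit 931) (Tr.lf (nat_lit 10))
(Tr.lf (nat_lit 5))))
(Tr.nd (nat_lit 933) (Tr.lf (nat_lit 11))
(Tr.nd (nat_lit 934) (Tr.lf (nat_lit 2))
(Tr.lf (nat_lit 6))))))
(Tr.nd (nat_lit 940) (Tr.nd (nat_lit 937) (Tr.nd (nat_lit 936) (Tr.lf (nat_lit 7))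
(Tr.lf (nat_lit 6)))
(Tr.nd (nat_lit 938) (Tr.lf (nat_lit 10))
(Tr.nd (nat_lit 939) (Tr.lf (nat_lit 10))
(Tr.lf (nat_lit 2)))))
(Tr.nd (nat_lit 943) (Tr.nd (nat_lit 941) (Tr.lf (nat_lit 5))
(Tr.nd (nat_lit 942) (Tr.lf (nat_lit 8))
(Tr.lf (nat_lit 8))))
(Tr.nd (nat_lit 944) (Tr.lf (nat_lit 4))
(Tr.nd (nat_lit 945) (Tr.lf (nat_lit 6))
(Tr.lf (nat_lit 8)))))))
(Tr.nd (nat_lit 957) (Tr.nd (nat_lit 951) (Tr.nd (nat_lit 948) (Tr.nd (nat_lit 947) (Tr.lf (nat_lit 10))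
(Tr.lf (nat_lit 7)))
(Tr.nd (nat_lit 949) (Tr.lf (nat_lit 10))
(Tr.nd (nat_lit 950) (Tr.lf (nat_lit 8))
(Tr.lf (nat_lit 8)))))
(Tr.nd (nat_lit 954) (Tr.nd (nat_lit 952) (Tr.lf (nat_lit 6))
(Tr.nd (nat_lit 953) (Tr.lf (nat_lit 8))
(Tr.lf (nat_lit 7))))
(Tr.nd (nat_lit 955) (Tr.lf (nat_lit 7))
(Tr.nd (nat_lit 956) (Tr.lf (nat_lit 11))
(Tr.lf (nat_lit 11))))))
(Tr.nd (nat_lit 962) (Tr.nd (nat_lit 959) (Tr.nd (nat_lit 958) (Tr.lf (nat_lit 11))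
(Tr.lf (nat_lit 10)))
(Tr.nd (nat_lit 960) (Tr.lf (nat_lit 7))
(Tr.nd (nat_lit 961) (Tr.lf (nat_lit 11))
(Tr.lf (nat_lit 5)))))
(Tr.nd (nat_lit 965) (Tr.nd (nat_lit 963) (Tr.lf (nat_lit 5))
(Tr.nd (nat_lit 964) (Tr.lf (nat_lit 5))
(Tr.lf (nat_lit 7))))
(Tr.nd (nat_lit 966) (Tr.lf (nat_lit 5))
(Tr.nd (nat_lit 967) (Tr.lf (nat_lit 7))
(Tr.lf (nat_lit 2)))))))))
(Tr.nd (nat_lit 1012) (Tr.nd (nat_lit 990) (Tr.nd (nat_lit 979) (Tr.nd (nat_lit 973) (Tr.nd (nat_lit 970) (Tr.nd (nat_lit 969) (Tr.lf (nat_lit 6))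
(Tr.lf (nat_lit 5)))
(Tr.nd (nat_lit 971) (Tr.lf (nat_lit 6))
(Tr.nd (nat_lit 972) (Tr.lf (nat_lit 7))
(Tr.lf (nat_lit 7)))))
(Tr.nd (nat_lit 976) (Tr.nd (nat_lit 974) (Tr.lf (nat_lit 5))
(Tr.nd (nat_lit 975) (Tr.lf (nat_lit 7))
(Tr.lf (nat_lit 6))))
(Tr.nd (nat_lit 977) (Tr.lf (nat_lit 5))
(Tr.nd (nat_lit 978) (Tr.lf (nat_lit 7))
(Tr.lf (nat_lit 5))))))
(Tr.nd (nat_lit 984) (Tr.nd (nat_lit 981) (Tr.nd (nat_lit 980) (Tr.lf (nat_lit 7))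
(Tr.lf (nat_lit 4)))
(Tr.nd (nat_lit 982) (Tr.lf (nat_lit 7))
(Tr.nd (nat_lit 983) (Tr.lf (nat_lit 8))
(Tr.lf (nat_lit 5)))))
(Tr.nd (nat_lit 987) (Tr.nd (nat_lit 985) (Tr.lf (nat_lit 7))
(Tr.nd (nat_lit 986) (Tr.lf (nat_lit 8))
(Tr.lf (nat_lit 6))))
(Tr.nd (nat_lit 988) (Tr.lf (nat_lit 8))
(Tr.nd (nat_lit 989) (Tr.lf (nat_lit 6))
(Tr.lf (nat_lit 7)))))))
(Tr.nd (nat_lit 1001) (Tr.nd (nat_lit 995) (Tr.nd (nat_lit 992) (Tr.nd (nat_lit 991) (Tr.lf (nat_lit 8))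
(Tr.lf (nat_lit 5)))
(Tr.nd (nat_lit 993) (Tr.lf (nat_lit 4))
(Tr.nd (nat_lit 994) (Tr.lf (nat_lit 6))
(Tr.lf (nat_lit 8)))))
(Tr.nd (nat_lit 998) (Tr.nd (nat_lit 996) (Tr.lf (nat_lit 7))
(Tr.nd (nat_lit 997) (Tr.lf (nat_lit 6))
(Tr.lf (nat_lit 8))))
(Tr.nd (nat_lit 999) (Tr.lf (nat_lit 10))
(Tr.nd (nat_lit 1000) (Tr.lf (nat_lit 6))
(Tr.lf (nat_lit 8))))))
(Tr.nd (nat_lit 1006) (Tr.nd (nat_lit 1003) (Tr.nd (nat_lit 1002) (Tr.lf (nat_lit 8))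
(Tr.lf (nat_lit 10)))
(Tr.nd (nat_lit 1004) (Tr.lf (nat_lit 11))
(Tr.nd (nat_lit 1005) (Tr.lf (nat_lit 8))
(Tr.lf (nat_lit 10)))))
(Tr.nd (nat_lit 1009) (Tr.nd (nat_lit 1007) (Tr.lf (nat_lit 10))
(Tr.nd (nat_lit 1008) (Tr.lf (nat_lit 11))
(Tr.lf (nat_lit 7))))
(Tr.nd (nat_lit 1010) (Tr.lf (nat_lit 5))
(Tr.nd (nat_lit 1011) (Tr.lf (nat_lit 10))
(Tr.lf (nat_lit 5))))))))
(Tr.nd (nat_lit 1034) (Tr.nd (nat_lit 1023) (Tr.nd (nat_lit 1017) (Tr.nd (nat_lit 1014) (Tr.nd (nat_lit 1013) (Tr.lf (nat_lit 5))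
(Tr.lf (nat_lit 3)))
(Tr.nd (nat_lit 1015) (Tr.lf (nat_lit 11))
(Tr.nd (nat_lit 1016) (Tr.lf (nat_lit 10))
(Tr.lf (nat_lit 5)))))
(Tr.nd (nat_lit 1020) (Tr.nd (nat_lit 1018) (Tr.lf (nat_lit 5))
(Tr.nd (nat_lit 1019) (Tr.lf (nat_lit 4))
(Tr.lf (nat_lit 7))))
(Tr.nd (nat_lit 1021) (Tr.lf (nat_lit 6))
(Tr.nd (nat_lit 1022) (Tr.lf (nat_lit 8))
(Tr.lf (nat_lit 10))))))
(Tr.nd (nat_lit 1028) (Tr.nd (nat_lit 1025) (Tr.nd (nat_lit 1024) (Tr.lf (nat_lit 5))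
(Tr.lf (nat_lit 6)))
(Tr.nd (nat_lit 1026) (Tr.lf (nat_lit 8))
(Tr.nd (nat_lit 1027) (Tr.lf (nat_lit 10))
(Tr.lf (nat_lit 5)))))
(Tr.nd (nat_lit 1031) (Tr.nd (nat_lit 1029) (Tr.lf (nat_lit 10))
(Tr.nd (nat_lit 1030) (Tr.lf (nat_lit 8))
(Tr.lf (nat_lit 10))))
(Tr.nd (nat_lit 1032) (Tr.lf (nat_lit 10))
(Tr.nd (nat_lit 1033) (Tr.lf (nat_lit 5))
(Tr.lf (nat_lit 4)))))))
(Tr.nd (nat_lit 1045) (Tr.nd (nat_lit 1039) (Tr.nd (nat_lit 1036) (Tr.nd (nat_lit 1035) (Tr.lf (nat_lit 7))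
(Tr.lf (nat_lit 10)))
(Tr.nd (nat_lit 1037) (Tr.lf (nat_lit 4))
(Tr.nd (nat_lit 1038) (Tr.lf (nat_lit 10))
(Tr.lf (nat_lit 5)))))
(Tr.nd (nat_lit 1042) (Tr.nd (nat_lit 1040) (Tr.lf (nat_lit 1))
(Tr.nd (nat_lit 1041) (Tr.lf (nat_lit 8))
(Tr.lf (nat_lit 5))))
(Tr.nd (nat_lit 1043) (Tr.lf (nat_lit 10))
(Tr.nd (nat_lit 1044) (Tr.lf (nat_lit 5))
(Tr.lf (nat_lit 10))))))
(Tr.nd (nat_lit 1050) (Tr.nd (nat_lit 1047) (Tr.nd (nat_lit 1046) (Tr.lf (nat_lit 8))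
(Tr.lf (nat_lit 10)))
(Tr.nd (nat_lit 1048) (Tr.lf (nat_lit 5))
(Tr.nd (nat_lit 1049) (Tr.lf (nat_lit 9))
(Tr.lf (nat_lit 10)))))
(Tr.nd (nat_lit 1053) (Tr.nd (nat_lit 1051) (Tr.lf (nat_lit 10))
(Tr.nd (nat_lit 1052) (Tr.lf (nat_lit 5))
(Tr.lf (nat_lit 4))))
(Tr.nd (nat_lit 1054) (Tr.lf (nat_lit 6))
(Tr.nd (nat_lit 1055) (Tr.lf (nat_lit 1))
(Tr.lf (nat_lit 7)))))))))))
(Tr.nd (nat_lit 1232) (Tr.nd (nat_lit 1144) (Tr.nd (nat_lit 1100) (Tr.nd (nat_lit 1078) (Tr.nd (nat_lit 1067) (Tr.nd (nat_lit 1061) (Tr.nd (nat_lit 1058) (Tr.nd (nat_lit 1057) (Tr.lf (nat_lit 6))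
(Tr.lf (nat_lit 10)))
(Tr.nd (nat_lit 1059) (Tr.lf (nat_lit 5))
(Tr.nd (nat_lit 1060) (Tr.lf (nat_lit 10))
(Tr.lf (nat_lit 6)))))
(Tr.nd (nat_lit 1064) (Tr.nd (nat_lit 1062) (Tr.lf (nat_lit 10))
(Tr.nd (nat_lit 1063) (Tr.lf (nat_lit 5))
(Tr.lf (nat_lit 11))))
(Tr.nd (nat_lit 1065) (Tr.lf (nat_lit 6))
(Tr.nd (nat_lit 1066) (Tr.lf (nat_lit 10))
(Tr.lf (nat_lit 5))))))
(Tr.nd (nat_lit 1072) (Tr.nd (nat_lit 1069) (Tr.nd (nat_lit 1068) (Tr.lf (nat_lit 8))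
(Tr.lf (nat_lit 10)))
(Tr.nd (nat_lit 1070) (Tr.lf (nat_lit 10))
(Tr.nd (nat_lit 1071) (Tr.lf (nat_lit 5))
(Tr.lf (nat_lit 11)))))
(Tr.nd (nat_lit 1075) (Tr.nd (nat_lit 1073) (Tr.lf (nat_lit 10))
(Tr.nd (nat_lit 1074) (Tr.lf (nat_lit 5))
(Tr.lf (nat_lit 6))))
(Tr.nd (nat_lit 1076) (Tr.lf (nat_lit 11))
(Tr.nd (nat_lit 1077) (Tr.lf (nat_lit 10))
(Tr.lf (nat_lit 1)))))))
(Tr.nd (nat_lit 1089) (Tr.nd (nat_lit 1083) (Tr.nd (nat_lit 1080) (Tr.nd (nat_lit 1079) (Tr.lf (nat_lit 7))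
(Tr.lf (nat_lit 5)))
(Tr.nd (nat_lit 1081) (Tr.lf (nat_lit 10))
(Tr.nd (nat_lit 1082) (Tr.lf (nat_lit 5))
(Tr.lf (nat_lit 11)))))
(Tr.nd (nat_lit 1086) (Tr.nd (nat_lit 1084) (Tr.lf (nat_lit 1))
(Tr.nd (nat_lit 1085) (Tr.lf (nat_lit 5))
(Tr.lf (nat_lit 4))))
(Tr.nd (nat_lit 1087) (Tr.lf (nat_lit 8))
(Tr.nd (nat_lit 1088) (Tr.lf (nat_lit 10))
(Tr.lf (nat_lit 7))))))
(Tr.nd (nat_lit 1094) (Tr.nd (nat_lit 1091) (Tr.nd (nat_lit 1090) (Tr.lf (nat_lit 8))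
(Tr.lf (nat_lit 10)))
(Tr.nd (nat_lit 1092) (Tr.lf (nat_lit 5))
(Tr.nd (nat_lit 1093) (Tr.lf (nat_lit 7))
(Tr.lf (nat_lit 7)))))
(Tr.nd (nat_lit 1097) (Tr.nd (nat_lit 1095) (Tr.lf (nat_lit 7))
(Tr.nd (nat_lit 1096) (Tr.lf (nat_lit 7))
(Tr.lf (nat_lit 11))))
(Tr.nd (nat_lit 1098) (Tr.lf (nat_lit 5))
(Tr.nd (nat_lit 1099) (Tr.lf (nat_lit 11))
(Tr.lf (nat_lit 11))))))))
(Tr.nd (nat_lit 1122) (Tr.nd (nat_lit 1111) (Tr.nd (nat_lit 1105) (Tr.nd (nat_lit 1102) (Tr.nd (nat_lit 1101) (Tr.lf (nat_lit 4))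
(Tr.lf (nat_lit 7)))
(Tr.nd (nat_lit 1103) (Tr.lf (nat_lit 7))
(Tr.nd (nat_lit 1104) (Tr.lf (nat_lit 7))
(Tr.lf (nat_lit 5)))))
(Tr.nd (nat_lit 1108) (Tr.nd (nat_lit 1106) (Tr.lf (nat_lit 4))
(Tr.nd (nat_lit 1107) (Tr.lf (nat_lit 6))
(Tr.lf (nat_lit 8))))
(Tr.nd (nat_lit 1109) (Tr.lf (nat_lit 7))
(Tr.nd (nat_lit 1110) (Tr.lf (nat_lit 10))
(Tr.lf (nat_lit 8))))))
(Tr.nd (nat_lit 1116) (Tr.nd (nat_lit 1113) (Tr.nd (nat_lit 1112) (Tr.lf (nat_lit 7))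
(Tr.lf (nat_lit 10)))
(Tr.nd (nat_lit 1114) (Tr.lf (nat_lit 4))
(Tr.nd (nat_lit 1115) (Tr.lf (nat_lit 7))
(Tr.lf (nat_lit 6)))))
(Tr.nd (nat_lit 1119) (Tr.nd (nat_lit 1117) (Tr.lf (nat_lit 8))
(Tr.nd (nat_lit 1118) (Tr.lf (nat_lit 8))
(Tr.lf (nat_lit 5))))
(Tr.nd (nat_lit 1120) (Tr.lf (nat_lit 8))
(Tr.nd (nat_lit 1121) (Tr.lf (nat_lit 4))
(Tr.lf (nat_lit 7)))))))
(Tr.nd (nat_lit 1133) (Tr.nd (nat_lit 1127) (Tr.nd (nat_lit 1124) (Tr.nd (nat_lit 1123) (Tr.lf (nat_lit 7))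
(Tr.lf (nat_lit 6)))
(Tr.nd (nat_lit 1125) (Tr.lf (nat_lit 5))
(Tr.nd (nat_lit 1126) (Tr.lf (nat_lit 8))
(Tr.lf (nat_lit 10)))))
(Tr.nd (nat_lit 1130) (Tr.nd (nat_lit 1128) (Tr.lf (nat_lit 10))
(Tr.nd (nat_lit 1129) (Tr.lf (nat_lit 5))
(Tr.lf (nat_lit 11))))
(Tr.nd (nat_lit 1131) (Tr.lf (nat_lit 8))
(Tr.nd (nat_lit 1132) (Tr.lf (nat_lit 10))
(Tr.lf (nat_lit 10))))))
(Tr.nd (nat_lit 1138) (Tr.nd (nat_lit 1135) (Tr.nd (nat_lit 1134) (Tr.lf (nat_lit 7))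
(Tr.lf (nat_lit 5)))
(Tr.nd (nat_lit 1136) (Tr.lf (nat_lit 5))
(Tr.nd (nat_lit 1137) (Tr.lf (nat_lit 11))
(Tr.lf (nat_lit 5)))))
(Tr.nd (nat_lit 1141) (Tr.nd (nat_lit 1139) (Tr.lf (nat_lit 10))
(Tr.nd (nat_lit 1140) (Tr.lf (nat_lit 4))
(Tr.lf (nat_lit 5))))
(Tr.nd (nat_lit 1142) (Tr.lf (nat_lit 4))
(Tr.nd (nat_lit 1143) (Tr.lf (nat_lit 11))
(Tr.lf (nat_lit 4)))))))))
(Tr.nd (nat_lit 1188) (Tr.nd (nat_lit 1166) (Tr.nd (nat_lit 1155) (Tr.nd (nat_lit 1149) (Tr.nd (nat_lit 1146) (Tr.nd (nat_lit 1145) (Tr.lf (nat_lit 6))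
(Tr.lf (nat_lit 2)))
(Tr.nd (nat_lit 1147) (Tr.lf (nat_lit 11))
(Tr.nd (nat_lit 1148) (Tr.lf (nat_lit 5))
(Tr.lf (nat_lit 4)))))
(Tr.nd (nat_lit 1152) (Tr.nd (nat_lit 1150) (Tr.lf (nat_lit 3))
(Tr.nd (nat_lit 1151) (Tr.lf (nat_lit 6))
(Tr.lf (nat_lit 5))))
(Tr.nd (nat_lit 1153) (Tr.lf (nat_lit 10))
(Tr.nd (nat_lit 1154) (Tr.lf (nat_lit 10))
(Tr.lf (nat_lit 5))))))
(Tr.nd (nat_lit 1160) (Tr.nd (nat_lit 1157) (Tr.nd (nat_lit 1156) (Tr.lf (nat_lit 6))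
(Tr.lf (nat_lit 11)))
(Tr.nd (nat_lit 1158) (Tr.lf (nat_lit 8))
(Tr.nd (nat_lit 1159) (Tr.lf (nat_lit 10))
(Tr.lf (nat_lit 10)))))
(Tr.nd (nat_lit 1163) (Tr.nd (nat_lit 1161) (Tr.lf (nat_lit 5))
(Tr.nd (nat_lit 1162) (Tr.lf (nat_lit 5))
(Tr.lf (nat_lit 5))))
(Tr.nd (nat_lit 1164) (Tr.lf (nat_lit 5))
(Tr.nd (nat_lit 1165) (Tr.lf (nat_lit 4))
(Tr.lf (nat_lit 6)))))))
(Tr.nd (nat_lit 1177) (Tr.nd (nat_lit 1171) (Tr.nd (nat_lit 1168) (Tr.nd (nat_lit 1167) (Tr.lf (nat_lit 3))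
(Tr.lf (nat_lit 10)))
(Tr.nd (nat_lit 1169) (Tr.lf (nat_lit 5))
(Tr.nd (nat_lit 1170) (Tr.lf (nat_lit 6))
(Tr.lf (nat_lit 5)))))
(Tr.nd (nat_lit 1174) (Tr.nd (nat_lit 1172) (Tr.lf (nat_lit 10))
(Tr.nd (nat_lit 1173) (Tr.lf (nat_lit 11))
(Tr.lf (nat_lit 5))))
(Tr.nd (nat_lit 1175) (Tr.lf (nat_lit 4))
(Tr.nd (nat_lit 1176) (Tr.lf (nat_lit 5))
(Tr.lf (nat_lit 4))))))
(Tr.nd (nat_lit 1182) (Tr.nd (nat_lit 1179) (Tr.nd (nat_lit 1178) (Tr.lf (nat_lit 10))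
(Tr.lf (nat_lit 5)))
(Tr.nd (nat_lit 1180) (Tr.lf (nat_lit 5))
(Tr.nd (nat_lit 1181) (Tr.lf (nat_lit 11))
(Tr.lf (nat_lit 4)))))
(Tr.nd (nat_lit 1185) (Tr.nd (nat_lit 1183) (Tr.lf (nat_lit 11))
(Tr.nd (nat_lit 1184) (Tr.lf (nat_lit 10))
(Tr.lf (nat_lit 11))))
(Tr.nd (nat_lit 1186) (Tr.lf (nat_lit 5))
(Tr.nd (nat_lit 1187) (Tr.lf (nat_lit 4))
(Tr.lf (nat_lit 8))))))))
(Tr.nd (nat_lit 1210) (Tr.nd (nat_lit 1199) (Tr.nd (nat_lit 1193) (Tr.nd (nat_lit 1190) (Tr.nd (nat_lit 1189) (Tr.lf (nat_lit 8))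
(Tr.lf (nat_lit 7)))
(Tr.nd (nat_lit 1191) (Tr.lf (nat_lit 10))
(Tr.nd (nat_lit 1192) (Tr.lf (nat_lit 6))
(Tr.lf (nat_lit 8)))))
(Tr.nd (nat_lit 1196) (Tr.nd (nat_lit 1194) (Tr.lf (nat_lit 10))
(Tr.nd (nat_lit 1195) (Tr.lf (nat_lit 11))
(Tr.lf (nat_lit 3))))
(Tr.nd (nat_lit 1197) (Tr.lf (nat_lit 7))
(Tr.nd (nat_lit 1198) (Tr.lf (nat_lit 6))
(Tr.lf (nat_lit 7))))))
(Tr.nd (nat_lit 1204) (Tr.nd (nat_lit 1201) (Tr.nd (nat_lit 1200) (Tr.lf (nat_lit 3))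
(Tr.lf (nat_lit 7)))
(Tr.nd (nat_lit 1202) (Tr.lf (nat_lit 6))
(Tr.nd (nat_lit 1203) (Tr.lf (nat_lit 8))
(Tr.lf (nat_lit 5)))))
(Tr.nd (nat_lit 1207) (Tr.nd (nat_lit 1205) (Tr.lf (nat_lit 8))
(Tr.nd (nat_lit 1206) (Tr.lf (nat_lit 8))
(Tr.lf (nat_lit 10))))
(Tr.nd (nat_lit 1208) (Tr.lf (nat_lit 7))
(Tr.nd (nat_lit 1209) (Tr.lf (nat_lit 10))
(Tr.lf (nat_lit 5)))))))
(Tr.nd (nat_lit 1221) (Tr.nd (nat_lit 1215) (Tr.nd (nat_lit 1212) (Tr.nd (nat_lit 1211) (Tr.lf (nat_lit 5))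
(Tr.lf (nat_lit 6)))
(Tr.nd (nat_lit 1213) (Tr.lf (nat_lit 11))
(Tr.nd (nat_lit 1214) (Tr.lf (nat_lit 5))
(Tr.lf (nat_lit 5)))))
(Tr.nd (nat_lit 1218) (Tr.nd (nat_lit 1216) (Tr.lf (nat_lit 10))
(Tr.nd (nat_lit 1217) (Tr.lf (nat_lit 4))
(Tr.lf (nat_lit 4))))
(Tr.nd (nat_lit 1219) (Tr.lf (nat_lit 11))
(Tr.nd (nat_lit 1220) (Tr.lf (nat_lit 4))
(Tr.lf (nat_lit 11))))))
(Tr.nd (nat_lit 1226) (Tr.nd (nat_lit 1223) (Tr.nd (nat_lit 1222) (Tr.lf (nat_lit 5))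
(Tr.lf (nat_lit 3)))
(Tr.nd (nat_lit 1224) (Tr.lf (nat_lit 4))
(Tr.nd (nat_lit 1225) (Tr.lf (nat_lit 6))
(Tr.lf (nat_lit 6)))))
(Tr.nd (nat_lit 1229) (Tr.nd (nat_lit 1227) (Tr.lf (nat_lit 11))
(Tr.nd (nat_lit 1228) (Tr.lf (nat_lit 10))
(Tr.lf (nat_lit 11))))
(Tr.nd (nat_lit 1230) (Tr.lf (nat_lit 6))
(Tr.nd (nat_lit 1231) (Tr.lf (nat_lit 8))
(Tr.lf (nat_lit 8))))))))))
(Tr.nd (nat_lit 1320) (Tr.nd (nat_lit 1276) (Tr.nd (nat_lit 1254) (Tr.nd (nat_lit 1243) (Tr.nd (nat_lit 1237) (Tr.nd (nat_lit 1234) (Tr.nd (nat_lit 1233) (Tr.lf (nat_lit 10))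
(Tr.lf (nat_lit 5)))
(Tr.nd (nat_lit 1235) (Tr.lf (nat_lit 6))
(Tr.nd (nat_lit 1236) (Tr.lf (nat_lit 11))
(Tr.lf (nat_lit 7)))))
(Tr.nd (nat_lit 1240) (Tr.nd (nat_lit 1238) (Tr.lf (nat_lit 11))
(Tr.nd (nat_lit 1239) (Tr.lf (nat_lit 10))
(Tr.lf (nat_lit 5))))
(Tr.nd (nat_lit 1241) (Tr.lf (nat_lit 5))
(Tr.nd (nat_lit 1242) (Tr.lf (nat_lit 4))
(Tr.lf (nat_lit 6))))))
(Tr.nd (nat_lit 1248) (Tr.nd (nat_lit 1245) (Tr.nd (nat_lit 1244) (Tr.lf (nat_lit 11))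
(Tr.lf (nat_lit 4)))
(Tr.nd (nat_lit 1246) (Tr.lf (nat_lit 3))
(Tr.nd (nat_lit 1247) (Tr.lf (nat_lit 11))
(Tr.lf (nat_lit 4)))))
(Tr.nd (nat_lit 1251) (Tr.nd (nat_lit 1249) (Tr.lf (nat_lit 6))
(Tr.nd (nat_lit 1250) (Tr.lf (nat_lit 7))
(Tr.lf (nat_lit 4))))
(Tr.nd (nat_lit 1252) (Tr.lf (nat_lit 11))
(Tr.nd (nat_lit 1253) (Tr.lf (nat_lit 4))
(Tr.lf (nat_lit 11)))))))
(Tr.nd (nat_lit 1265) (Tr.nd (nat_lit 1259) (Tr.nd (nat_lit 1256) (Tr.nd (nat_lit 1255) (Tr.lf (nat_lit 3))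
(Tr.lf (nat_lit 5)))
(Tr.nd (nat_lit 1257) (Tr.lf (nat_lit 4))
(Tr.nd (nat_lit 1258) (Tr.lf (nat_lit 6))
(Tr.lf (nat_lit 11)))))
(Tr.nd (nat_lit 1262) (Tr.nd (nat_lit 1260) (Tr.lf (nat_lit 11))
(Tr.nd (nat_lit 1261) (Tr.lf (nat_lit 10))
(Tr.lf (nat_lit 10))))
(Tr.nd (nat_lit 1263) (Tr.lf (nat_lit 11))
(Tr.nd (nat_lit 1264) (Tr.lf (nat_lit 7))
(Tr.lf (nat_lit 6))))))
(Tr.nd (nat_lit 1270) (Tr.nd (nat_lit 1267) (Tr.nd (nat_lit 1266) (Tr.lf (nat_lit 8))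
(Tr.lf (nat_lit 7)))
(Tr.nd (nat_lit 1268) (Tr.lf (nat_lit 8))
(Tr.nd (nat_lit 1269) (Tr.lf (nat_lit 10))
(Tr.lf (nat_lit 5)))))
(Tr.nd (nat_lit 1273) (Tr.nd (nat_lit 1271) (Tr.lf (nat_lit 11))
(Tr.nd (nat_lit 1272) (Tr.lf (nat_lit 10))
(Tr.lf (nat_lit 5))))
(Tr.nd (nat_lit 1274) (Tr.lf (nat_lit 4))
(Tr.nd (nat_lit 1275) (Tr.lf (nat_lit 6))
(Tr.lf (nat_lit 11))))))))
(Tr.nd (nat_lit 1298) (Tr.nd (nat_lit 1287) (Tr.nd (nat_lit 1281) (Tr.nd (nat_lit 1278) (Tr.nd (nat_lit 1277) (Tr.lf (nat_lit 6))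
(Tr.lf (nat_lit 7)))
(Tr.nd (nat_lit 1279) (Tr.lf (nat_lit 11))
(Tr.nd (nat_lit 1280) (Tr.lf (nat_lit 4))
(Tr.lf (nat_lit 11)))))
(Tr.nd (nat_lit 1284) (Tr.nd (nat_lit 1282) (Tr.lf (nat_lit 11))
(Tr.nd (nat_lit 1283) (Tr.lf (nat_lit 5))
(Tr.lf (nat_lit 3))))
(Tr.nd (nat_lit 1285) (Tr.lf (nat_lit 11))
(Tr.nd (nat_lit 1286) (Tr.lf (nat_lit 3))
(Tr.lf (nat_lit 6))))))
(Tr.nd (nat_lit 1292) (Tr.nd (nat_lit 1289) (Tr.nd (nat_lit 1288) (Tr.lf (nat_lit 11))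
(Tr.lf (nat_lit 10)))
(Tr.nd (nat_lit 1290) (Tr.lf (nat_lit 11))
(Tr.nd (nat_lit 1291) (Tr.lf (nat_lit 6))
(Tr.lf (nat_lit 11)))))
(Tr.nd (nat_lit 1295) (Tr.nd (nat_lit 1293) (Tr.lf (nat_lit 6))
(Tr.nd (nat_lit 1294) (Tr.lf (nat_lit 5))
(Tr.lf (nat_lit 11))))
(Tr.nd (nat_lit 1296) (Tr.lf (nat_lit 10))
(Tr.nd (nat_lit 1297) (Tr.lf (nat_lit 7))
(Tr.lf (nat_lit 10)))))))
(Tr.nd (nat_lit 1309) (Tr.nd (nat_lit 1303) (Tr.nd (nat_lit 1300) (Tr.nd (nat_lit 1299) (Tr.lf (nat_lit 5))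
(Tr.lf (nat_lit 4)))
(Tr.nd (nat_lit 1301) (Tr.lf (nat_lit 6))
(Tr.nd (nat_lit 1302) (Tr.lf (nat_lit 7))
(Tr.lf (nat_lit 11)))))
(Tr.nd (nat_lit 1306) (Tr.nd (nat_lit 1304) (Tr.lf (nat_lit 10))
(Tr.nd (nat_lit 1305) (Tr.lf (nat_lit 11))
(Tr.lf (nat_lit 10))))
(Tr.nd (nat_lit 1307) (Tr.lf (nat_lit 4))
(Tr.nd (nat_lit 1308) (Tr.lf (nat_lit 11))
(Tr.lf (nat_lit 6))))))
(Tr.nd (nat_lit 1314) (Tr.nd (nat_lit 1311) (Tr.nd (nat_lit 1310) (Tr.lf (nat_lit 11))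
(Tr.lf (nat_lit 11)))
(Tr.nd (nat_lit 1312) (Tr.lf (nat_lit 11))
(Tr.nd (nat_lit 1313) (Tr.lf (nat_lit 10))
(Tr.lf (nat_lit 11)))))
(Tr.nd (nat_lit 1317) (Tr.nd (nat_lit 1315) (Tr.lf (nat_lit 11))
(Tr.nd (nat_lit 1316) (Tr.lf (nat_lit 6))
(Tr.lf (nat_lit 7))))
(Tr.nd (nat_lit 1318) (Tr.lf (nat_lit 7))
(Tr.nd (nat_lit 1319) (Tr.lf (nat_lit 6))
(Tr.lf (nat_lit 3)))))))))
(Tr.nd (nat_lit 1364) (Tr.nd (nat_lit 1342) (Tr.nd (nat_lit 1331) (Tr.nd (nat_lit 1325) (Tr.nd (nat_lit 1322) (Tr.nd (nat_lit 1321) (Tr.lf (nat_lit 11))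
(Tr.lf (nat_lit 10)))
(Tr.nd (nat_lit 1323) (Tr.lf (nat_lit 11))
(Tr.nd (nat_lit 1324) (Tr.lf (nat_lit 10))
(Tr.lf (nat_lit 11)))))
(Tr.nd (nat_lit 1328) (Tr.nd (nat_lit 1326) (Tr.lf (nat_lit 4))
(Tr.nd (nat_lit 1327) (Tr.lf (nat_lit 11))
(Tr.lf (nat_lit 11))))
(Tr.nd (nat_lit 1329) (Tr.lf (nat_lit 10))
(Tr.nd (nat_lit 1330) (Tr.lf (nat_lit 11))
(Tr.lf (nat_lit 10))))))
(Tr.nd (nat_lit 1336) (Tr.nd (nat_lit 1333) (Tr.nd (nat_lit 1332) (Tr.lf (nat_lit 11))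
(Tr.lf (nat_lit 11)))
(Tr.nd (nat_lit 1334) (Tr.lf (nat_lit 5))
(Tr.nd (nat_lit 1335) (Tr.lf (nat_lit 6))
(Tr.lf (nat_lit 11)))))
(Tr.nd (nat_lit 1339) (Tr.nd (nat_lit 1337) (Tr.lf (nat_lit 11))
(Tr.nd (nat_lit 1338) (Tr.lf (nat_lit 10))
(Tr.lf (nat_lit 7))))
(Tr.nd (nat_lit 1340) (Tr.lf (nat_lit 8))
(Tr.nd (nat_lit 1341) (Tr.lf (nat_lit 11))
(Tr.lf (nat_lit 10)))))))
(Tr.nd (nat_lit 1353) (Tr.nd (nat_lit 1347) (Tr.nd (nat_lit 1344) (Tr.nd (nat_lit 1343) (Tr.lf (nat_lit 11))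
(Tr.lf (nat_lit 10)))
(Tr.nd (nat_lit 1345) (Tr.lf (nat_lit 4))
(Tr.nd (nat_lit 1346) (Tr.lf (nat_lit 6))
(Tr.lf (nat_lit 11)))))
(Tr.nd (nat_lit 1350) (Tr.nd (nat_lit 1348) (Tr.lf (nat_lit 10))
(Tr.nd (nat_lit 1349) (Tr.lf (nat_lit 11))
(Tr.lf (nat_lit 5))))
(Tr.nd (nat_lit 1351) (Tr.lf (nat_lit 11))
(Tr.nd (nat_lit 1352) (Tr.lf (nat_lit 10))
(Tr.lf (nat_lit 10))))))
(Tr.nd (nat_lit 1358) (Tr.nd (nat_lit 1355) (Tr.nd (nat_lit 1354) (Tr.lf (nat_lit 11))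
(Tr.lf (nat_lit 11)))
(Tr.nd (nat_lit 1356) (Tr.lf (nat_lit 10))
(Tr.nd (nat_lit 1357) (Tr.lf (nat_lit 6))
(Tr.lf (nat_lit 10)))))
(Tr.nd (nat_lit 1361) (Tr.nd (nat_lit 1359) (Tr.lf (nat_lit 5))
(Tr.nd (nat_lit 1360) (Tr.lf (nat_lit 4))
(Tr.lf (nat_lit 6))))
(Tr.nd (nat_lit 1362) (Tr.lf (nat_lit 11))
(Tr.nd (nat_lit 1363) (Tr.lf (nat_lit 11))
(Tr.lf (nat_lit 11))))))))
(Tr.nd (nat_lit 1386) (Tr.nd (nat_lit 1375) (Tr.nd (nat_lit 1369) (Tr.nd (nat_lit 1366) (Tr.nd (nat_lit 1365) (Tr.lf (nat_lit 10))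
(Tr.lf (nat_lit 10)))
(Tr.nd (nat_lit 1367) (Tr.lf (nat_lit 11))
(Tr.nd (nat_lit 1368) (Tr.lf (nat_lit 10))
(Tr.lf (nat_lit 11)))))
(Tr.nd (nat_lit 1372) (Tr.nd (nat_lit 1370) (Tr.lf (nat_lit 10))
(Tr.nd (nat_lit 1371) (Tr.lf (nat_lit 10))
(Tr.lf (nat_lit 10))))
(Tr.nd (nat_lit 1373) (Tr.lf (nat_lit 7))
(Tr.nd (nat_lit 1374) (Tr.lf (nat_lit 6))
(Tr.lf (nat_lit 6))))))
(Tr.nd (nat_lit 1380) (Tr.nd (nat_lit 1377) (Tr.nd (nat_lit 1376) (Tr.lf (nat_lit 5))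
(Tr.lf (nat_lit 11)))
(Tr.nd (nat_lit 1378) (Tr.lf (nat_lit 10))
(Tr.nd (nat_lit 1379) (Tr.lf (nat_lit 10))
(Tr.lf (nat_lit 11)))))
(Tr.nd (nat_lit 1383) (Tr.nd (nat_lit 1381) (Tr.lf (nat_lit 10))
(Tr.nd (nat_lit 1382) (Tr.lf (nat_lit 4))
(Tr.lf (nat_lit 6))))
(Tr.nd (nat_lit 1384) (Tr.lf (nat_lit 7))
(Tr.nd (nat_lit 1385) (Tr.lf (nat_lit 10))
(Tr.lf (nat_lit 8)))))))
(Tr.nd (nat_lit 1397) (Tr.nd (nat_lit 1391) (Tr.nd (nat_lit 1388) (Tr.nd (nat_lit 1387) (Tr.lf (nat_lit 10))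
(Tr.lf (nat_lit 5)))
(Tr.nd (nat_lit 1389) (Tr.lf (nat_lit 10))
(Tr.nd (nat_lit 1390) (Tr.lf (nat_lit 6))
(Tr.lf (nat_lit 10)))))
(Tr.nd (nat_lit 1394) (Tr.nd (nat_lit 1392) (Tr.lf (nat_lit 10))
(Tr.nd (nat_lit 1393) (Tr.lf (nat_lit 11))
(Tr.lf (nat_lit 10))))
(Tr.nd (nat_lit 1395) (Tr.lf (nat_lit 5))
(Tr.nd (nat_lit 1396) (Tr.lf (nat_lit 10))
(Tr.lf (nat_lit 10))))))
(Tr.nd (nat_lit 1403) (Tr.nd (nat_lit 1400) (Tr.nd (nat_lit 1398) (Tr.lf (nat_lit 5))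
(Tr.nd (nat_lit 1399) (Tr.lf (nat_lit 4))
(Tr.lf (nat_lit 6))))
(Tr.nd (nat_lit 1401) (Tr.lf (nat_lit 11))
(Tr.nd (nat_lit 1402) (Tr.lf (nat_lit 10))
(Tr.lf (nat_lit 10)))))
(Tr.nd (nat_lit 1406) (Tr.nd (nat_lit 1404) (Tr.lf (nat_lit 5))
(Tr.nd (nat_lit 1405) (Tr.lf (nat_lit 10))
(Tr.lf (nat_lit 5))))
(Tr.nd (nat_lit 1407) (Tr.lf (nat_lit 6))
(Tr.nd (nat_lit 1408) (Tr.lf (nat_lit 5))
(Tr.lf (nat_lit 5)))))))))))))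
theorem mini1_alt : Tr.all (altChk idx inv RW (SW1)) mini1A = true := by decide +kernel
theorem mini1_chk : Tr.all (chkFc idx inv mini1S mini1A (fun b => Tr.find b mini1P) (fun b => Tr.find b mini1Q)) mini1S = true := by decide +kernel
theorem mini1_run : runM idx inv mini1S 3757 0 [Mv.f (nat_lit 8), Mv.b (nat_lit 36), Mv.b (nat_lit 35), Mv.f (nat_lit 127), Mv.f (nat_lit 133), Mv.f (nat_lit 140), Mv.f (nat_lit 147), Mv.f (nat_lit 153), Mv.f (nat_lit 159), Mv.f (nat_lit 165), Mv.f (nat_lit 171), Mv.f (nat_lit 178), Mv.f (nat_lit 184), Mv.f (nat_lit 189), Mv.f (nat_lit 195), Mv.f (nat_lit 199), Mv.f (nat_lit 203), Mv.f (nat_lit 206), Mv.f (nat_lit 210), Mv.f (nat_lit 214), Mv.f (nat_lit 218), Mv.f (nat_lit 222), Mv.f (nat_lit 226), Mv.f (nat_lit 230), Mv.f (nat_lit 234), Mv.f (nat_lit 238), Mv.f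 (nat_lit 241), Mv.f (nat_lit 244), Mv.f (nat_lit 247), Mv.f (nat_lit 250), Mv.f (nat_lit 253), Mv.f (nat_lit 256), Mv.f (nat_lit 259), Mv.f (nat_lit 262), Mv.f (nat_lit 265), Mv.f (nat_lit 267), Mv.f (nat_lit 269), Mv.f (nat_lit 271), Mv.f (nat_lit 3756), Mv.b (nat_lit 147), Mv.b (nat_lit 140), Mv.b (nat_lit 133), Mv.b (nat_lit 127), Mv.f (nat_lit 35), Mv.f (nat_lit 36), Mv.b (nat_lit 8)] [Col.k, Col.l, Col.a, Col.k, Col.b, Col.a, Col.c, Col.d, Col.e, Col.f, Col.g, Col.h, Col.d, Col.c, Col.e, Col.d, Col.f, Col.e, Col.h, Col.d, Col.c, Col.b, Col.i, Col.h, Col.d, Col.e, Col.c, Col.d, Col.h, Col.i, Col.f, Col.e, Col.d, Col.h, Col.g, Col.f, Col.e, Col.d, Col.b, Col.c, Col.a, Col.b, Col.k, Col.a, Col.l, Col.k] 0 = true := by decide +kernel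
theorem mini1_fix {G X : Type*} [Group G] [MulAction G X] (g : Col → G) (x0 : X) (hinv : ∀ c, g (inv c) = (g c)⁻¹)
    (hRW : ∀ w ∈ RW, gw g w = 1) (hSW : ∀ w ∈ SW1, gw g w • x0 = x0) : gw g [Col.k, Col.l, Col.a, Col.k, Col.b, Col.a, Col.c, Col.d, Col.e, Col.f, Col.g, Col.h, Col.d, Col.c, Col.e, Col.d, Col.f, Col.e, Col.h, Col.d, Col.c, Col.b, Col.i, Col.h, Col.d, Col.e, Col.c, Col.d, Col.h, Col.i, Col.f, Col.e, Col.d, Col.h, Col.g, Col.f, Col.e, Col.d, Col.b, Col.c, Col.a, Col.b, Col.k, Col.a, Col.l, Col.k] • x0 = x0 :=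
  mini_sound g x0 dec hdec hinv
    (fun a ha => altChk_sound g x0 dec hdec hinv hRW hSW ((Tr.all_iff _ _).1 mini1_alt a ha)) mini1_chk mini1_run
end CfsgLib.TCFi24
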