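import Cfsg.Agent.EqBase
import Cfsg.Agent.LibTCFi24OD
set_option autoImplicit false
set_option linter.all false
set_option maxRecDepth 1000000
set_option maxHeartbeats 0
namespace CfsgLib.TCFi24
open CfsgLib.TC Cfsg.Spor CfsgLib.TCG_Fi24
theorem iv_5 : Tr.all IV L_5 = true := by decide +kernel
theorem iv_12 : Tr.all IV L_12 = true := by decide +kernel
theorem iv_19 : Tr.all IV L_19 = true := by decide +kernel
theorem iv_26 : Tr.all IV L_26 = true := by decide +kernel
theorem iv_33 : Tr.all IV L_33 = true := by decide +kernel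
theorem iv_40 : Tr.all IV L_40 = true := by decide +kernel
theorem iv_47 : Tr.all IV L_47 = true := by decide +kernel
theorem iv_54 : Tr.all IV L_54 = true := by decide +kernel
theorem iv_61 : Tr.all IV L_61 = true := by decide +kernel
theorem iv_68 : Tr.all IV L_68 = true := by decide +kernel
theorem ht_0 : Tr.all (treeQ mt (fun q => Nat.beq (RP (OB q)) q) wsH HP HR HW) L_0 = true := by decide +kernel
theorem ht_2 : Tr.all (treeQ mt (fun q => Nat.beq (RP (OB q)) q) wsH HP HR HW) L_2 = true := by decide +kernel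
theorem ht_4 : Tr.all (treeQ mt (fun q => Nat.beq (RP (OB q)) q) wsH HP HR HW) L_4 = true := by decide +kernel
theorem ht_7 : Tr.all (treeQ mt (fun q => Nat.beq (RP (OB q)) q) wsH HP HR HW) L_7 = true := by decide +kernel
theorem ht_14 : Tr.all (treeQ mt (fun q => Nat.beq (RP (OB q)) q) wsH HP HR HW) L_14 = true := by decide +kernel
theorem ht_21 : Tr.all (treeQ mt (fun q => Nat.beq (RP (OB q)) q) wsH HP HR HW) L_21 = true := by decide +kernel
theorem ht_28 : Tr.all (treeQ mt (fun q => Nat.beq (RP (OB q)) q) wsH HP HR HW) L_28 = true := by decide +kernel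
theorem ht_35 : Tr.all (treeQ mt (fun q => Nat.beq (RP (OB q)) q) wsH HP HR HW) L_35 = true := by decide +kernel
theorem ht_42 : Tr.all (treeQ mt (fun q => Nat.beq (RP (OB q)) q) wsH HP HR HW) L_42 = true := by decide +kernel
theorem ht_49 : Tr.all (treeQ mt (fun q => Nat.beq (RP (OB q)) q) wsH HP HR HW) L_49 = true := by decide +kernel
theorem ht_56 : Tr.all (treeQ mt (fun q => Nat.beq (RP (OB q)) q) wsH HP HR HW) L_56 = true := by decide +kernel
theorem ht_63 : Tr.all (treeQ mt (fun q => Nat.beq (RP (OB q)) q) wsH HP HR HW) L_63 = true := by decide +kernel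
theorem ht_70 : Tr.all (treeQ mt (fun q => Nat.beq (RP (OB q)) q) wsH HP HR HW) L_70 = true := by decide +kernel
theorem cn_2_1 : cnt OB 2 L_1 = 3002 := by decide +kernel
theorem cn_1_5 : cnt OB 1 L_5 = 916 := by decide +kernel
theorem cn_2_8 : cnt OB 2 L_8 = 3951 := by decide +kernel
theorem cn_1_12 : cnt OB 1 L_12 = 267 := by decide +kernel
theorem cn_2_15 : cnt OB 2 L_15 = 3757 := by decide +kernel
theorem cn_1_19 : cnt OB 1 L_19 = 366 := by decide +kernel
theorem cn_2_22 : cnt OB 2 L_22 = 3713 := by decide +kernel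
theorem cn_1_26 : cnt OB 1 L_26 = 1670 := by decide +kernel
theorem cn_2_29 : cnt OB 2 L_29 = 4096 := by decide +kernel
theorem cn_1_33 : cnt OB 1 L_33 = 270 := by decide +kernel
theorem cn_2_36 : cnt OB 2 L_36 = 2739 := by decide +kernel
theorem cn_1_40 : cnt OB 1 L_40 = 0 := by decide +kernel
theorem cn_2_43 : cnt OB 2 L_43 = 4096 := by decide +kernel
theorem cn_1_47 : cnt OB 1 L_47 = 1068 := by decide +kernel
theorem cn_2_50 : cnt OB 2 L_50 = 3911 := by decide +kernel
theorem cn_1_54 : cnt OB 1 L_54 = 412 := by decide +kernel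
theorem cn_2_57 : cnt OB 2 L_57 = 4096 := by decide +kernel
theorem cn_1_61 : cnt OB 1 L_61 = 0 := by decide +kernel
theorem cn_2_64 : cnt OB 2 L_64 = 4096 := by decide +kernel
theorem cn_1_68 : cnt OB 1 L_68 = 0 := by decide +kernel
theorem cn_2_71 : cnt OB 2 L_71 = 3941 := by decide +kernel
end CfsgLib.TCFi24
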