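import Cfsg.Agent.EqBase
import Cfsg.Agent.LibTCFi24OD
set_option autoImplicit false
set_option linter.all false
set_option maxRecDepth 1000000
set_option maxHeartbeats 0
namespace CfsgLib.TCFi24
open CfsgLib.TC Cfsg.Spor CfsgLib.TCG_Fi24
theorem iv_6 : Tr.all IV L_6 = true := by decide +kernel
theorem iv_13 : Tr.all IV L_13 = true := by decide +kernel
theorem iv_20 : Tr.all IV L_20 = true := by decide +kernel
theorem iv_27 : Tr.all IV L_27 = true := by decide +kernel
theorem iv_34 : Tr.all IV L_34 = true := by decide +kernel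
theorem iv_41 : Tr.all IV L_41 = true := by decide +kernel
theorem iv_48 : Tr.all IV L_48 = true := by decide +kernel
theorem iv_55 : Tr.all IV L_55 = true := by decide +kernel
theorem iv_62 : Tr.all IV L_62 = true := by decide +kernel
theorem iv_69 : Tr.all IV L_69 = true := by decide +kernel
theorem ht_1 : Tr.all (treeQ mt (fun q => Nat.beq (RP (OB q)) q) wsH HP HR HW) L_1 = true := by decide +kernel
theorem ht_3 : Tr.all (treeQ mt (fun q => Nat.beq (RP (OB q)) q) wsH HP HR HW) L_3 = true := by decide +kernel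
theorem ht_5 : Tr.all (treeQ mt (fun q => Nat.beq (RP (OB q)) q) wsH HP HR HW) L_5 = true := by decide +kernel
theorem ht_8 : Tr.all (treeQ mt (fun q => Nat.beq (RP (OB q)) q) wsH HP HR HW) L_8 = true := by decide +kernel
theorem ht_15 : Tr.all (treeQ mt (fun q => Nat.beq (RP (OB q)) q) wsH HP HR HW) L_15 = true := by decide +kernel
theorem ht_22 : Tr.all (treeQ mt (fun q => Nat.beq (RP (OB q)) q) wsH HP HR HW) L_22 = true := by decide +kernel
theorem ht_29 : Tr.all (treeQ mt (fun q => Nat.beq (RP (OB q)) q) wsH HP HR HW) L_29 = true := by decide +kernel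
theorem ht_36 : Tr.all (treeQ mt (fun q => Nat.beq (RP (OB q)) q) wsH HP HR HW) L_36 = true := by decide +kernel
theorem ht_43 : Tr.all (treeQ mt (fun q => Nat.beq (RP (OB q)) q) wsH HP HR HW) L_43 = true := by decide +kernel
theorem ht_50 : Tr.all (treeQ mt (fun q => Nat.beq (RP (OB q)) q) wsH HP HR HW) L_50 = true := by decide +kernel
theorem ht_57 : Tr.all (treeQ mt (fun q => Nat.beq (RP (OB q)) q) wsH HP HR HW) L_57 = true := by decide +kernel
theorem ht_64 : Tr.all (treeQ mt (fun q => Nat.beq (RP (OB q)) q) wsH HP HR HW) L_64 = true := by decide +kernel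
theorem ht_71 : Tr.all (treeQ mt (fun q => Nat.beq (RP (OB q)) q) wsH HP HR HW) L_71 = true := by decide +kernel
theorem cn_1_2 : cnt OB 1 L_2 = 997 := by decide +kernel
theorem cn_2_5 : cnt OB 2 L_5 = 3180 := by decide +kernel
theorem cn_1_9 : cnt OB 1 L_9 = 1094 := by decide +kernel
theorem cn_2_12 : cnt OB 2 L_12 = 3829 := by decide +kernel
theorem cn_1_16 : cnt OB 1 L_16 = 0 := by decide +kernel
theorem cn_2_19 : cnt OB 2 L_19 = 3730 := by decide +kernel
theorem cn_1_23 : cnt OB 1 L_23 = 343 := by decide +kernel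
theorem cn_2_26 : cnt OB 2 L_26 = 2426 := by decide +kernel
theorem cn_1_30 : cnt OB 1 L_30 = 279 := by decide +kernel
theorem cn_2_33 : cnt OB 2 L_33 = 3826 := by decide +kernel
theorem cn_1_37 : cnt OB 1 L_37 = 0 := by decide +kernel
theorem cn_2_40 : cnt OB 2 L_40 = 4096 := by decide +kernel
theorem cn_1_44 : cnt OB 1 L_44 = 196 := by decide +kernel
theorem cn_2_47 : cnt OB 2 L_47 = 3028 := by decide +kernel
theorem cn_1_51 : cnt OB 1 L_51 = 0 := by decide +kernel
theorem cn_2_54 : cnt OB 2 L_54 = 3684 := by decide +kernel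
theorem cn_1_58 : cnt OB 1 L_58 = 0 := by decide +kernel
theorem cn_2_61 : cnt OB 2 L_61 = 4096 := by decide +kernel
theorem cn_1_65 : cnt OB 1 L_65 = 995 := by decide +kernel
theorem cn_2_68 : cnt OB 2 L_68 = 4096 := by decide +kernel
theorem cn_1_72 : cnt OB 1 L_72 = 748 := by decide +kernel
end CfsgLib.TCFi24
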