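import Cfsg.Agent.EqBase
import Cfsg.Agent.LibTCFi24YW
set_option autoImplicit false
set_option linter.all false
set_option maxRecDepth 1000000
set_option maxHeartbeats 0
namespace CfsgLib.TCFi24Y
open CfsgLib.TC Cfsg.Spor CfsgLib.TCG_Fi24Y
noncomputable def mini0S : Tr (Fc Col) := (Tr.nd (nat_lit 423) (Tr.nd (nat_lit 211) (Tr.nd (nat_lit 105) (Tr.nd (nat_lit 52) (Tr.nd (nat_lit 26) (Tr.nd (nat_lit 13) (Tr.nd (nat_lit 6) (Tr.nd (nat_lit 3) (Tr.nd (nat_lit 1) (Tr.lf (Fc.ed (nat_lit 0) (nat_lit 0) Col.a (nat_lit 0) (Dv.sb (nat_lit 0) [] [])))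
(Tr.nd (nat_lit 2) (Tr.lf (Fc.ed (nat_lit 1) (nat_lit 0) Col.b (nat_lit 0) (Dv.sb (nat_lit 1) [] [])))
(Tr.lf (Fc.ed (nat_lit 2) (nat_lit 0) Col.c (nat_lit 0) (Dv.sb (nat_lit 2) [] [])))))
(Tr.nd (nat_lit 4) (Tr.lf (Fc.ed (nat_lit 3) (nat_lit 0) Col.d (nat_lit 0) (Dv.sb (nat_lit 3) [] [])))
(Tr.nd (nat_lit 5) (Tr.lf (Fc.ed (nat_lit 4) (nat_lit 0) Col.e (nat_lit 0) (Dv.sb (nat_lit 4) [] [])))
(Tr.lf (Fc.ed (nat_lit 5) (nat_lit 0) Col.f (nat_lit 0) (Dv.sb (nat_lit 5) [] []))))))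
(Tr.nd (nat_lit 9) (Tr.nd (nat_lit 7) (Tr.lf (Fc.ed (nat_lit 6) (nat_lit 0) Col.h (nat_lit 0) (Dv.sb (nat_lit 6) [] [])))
(Tr.nd (nat_lit 8) (Tr.lf (Fc.ed (nat_lit 7) (nat_lit 0) Col.i (nat_lit 0) (Dv.sb (nat_lit 7) [] [])))
(Tr.lf (Fc.ed (nat_lit 8) (nat_lit 0) Col.k (nat_lit 1) Dv.df))))
(Tr.nd (nat_lit 11) (Tr.nd (nat_lit 10) (Tr.lf (Fc.ed (nat_lit 9) (nat_lit 1) Col.b (nat_lit 1) (Dv.wd (nat_lit 8) [Mv.b (nat_lit 8), Mv.f (nat_lit 1), Mv.f (nat_lit 8)])))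
(Tr.lf (Fc.ed (nat_lit 10) (nat_lit 1) Col.c (nat_lit 1) (Dv.wd (nat_lit 9) [Mv.b (nat_lit 8), Mv.f (nat_lit 2), Mv.f (nat_lit 8)]))))
(Tr.nd (nat_lit 12) (Tr.lf (Fc.ed (nat_lit 11) (nat_lit 1) Col.d (nat_lit 1) (Dv.wd (nat_lit 10) [Mv.b (nat_lit 8), Mv.f (nat_lit 3), Mv.f (nat_lit 8)])))
(Tr.lf (Fc.ed (nat_lit 12) (nat_lit 1) Col.e (nat_lit 1) (Dv.wd (nat_lit 11) [Mv.b (nat_lit 8), Mv.f (nat_lit 4), Mv.f (nat_lit 8)])))))))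
(Tr.nd (nat_lit 19) (Tr.nd (nat_lit 16) (Tr.nd (nat_lit 14) (Tr.lf (Fc.ed (nat_lit 13) (nat_lit 1) Col.f (nat_lit 1) (Dv.wd (nat_lit 12) [Mv.b (nat_lit 8), Mv.f (nat_lit 5), Mv.f (nat_lit 8)])))
(Tr.nd (nat_lit 15) (Tr.lf (Fc.ed (nat_lit 14) (nat_lit 1) Col.h (nat_lit 1) (Dv.wd (nat_lit 13) [Mv.b (nat_lit 8), Mv.f (nat_lit 6), Mv.f (nat_lit 8)])))
(Tr.lf (Fc.ed (nat_lit 15) (nat_lit 1) Col.i (nat_lit 1) (Dv.wd (nat_lit 14) [Mv.b (nat_lit 8), Mv.f (nat_lit 7), Mv.f (nat_lit 8)])))))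
(Tr.nd (nat_lit 17) (Tr.lf (Fc.ed (nat_lit 16) (nat_lit 1) Col.a (nat_lit 2) Dv.df))
(Tr.nd (nat_lit 18) (Tr.lf (Fc.ed (nat_lit 17) (nat_lit 2) Col.c (nat_lit 2) (Dv.wd (nat_lit 15) [Mv.b (nat_lit 16), Mv.f (nat_lit 10), Mv.f (nat_lit 16)])))
(Tr.lf (Fc.ed (nat_lit 18) (nat_lit 2) Col.d (nat_lit 2) (Dv.wd (nat_lit 16) [Mv.b (nat_lit 16), Mv.f (nat_lit 11), Mv.f (nat_lit 16)]))))))
(Tr.nd (nat_lit 22) (Tr.nd (nat_lit 20) (Tr.lf (Fc.ed (nat_lit 19) (nat_lit 2) Col.e (nat_lit 2) (Dv.wd (nat_lit 17) [Mv.b (nat_lit 16), Mv.f (nat_lit 12), Mv.f (nat_lit 16)])))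
(Tr.nd (nat_lit 21) (Tr.lf (Fc.ed (nat_lit 20) (nat_lit 2) Col.f (nat_lit 2) (Dv.wd (nat_lit 18) [Mv.b (nat_lit 16), Mv.f (nat_lit 13), Mv.f (nat_lit 16)])))
(Tr.lf (Fc.ed (nat_lit 21) (nat_lit 2) Col.h (nat_lit 2) (Dv.wd (nat_lit 19) [Mv.b (nat_lit 16), Mv.f (nat_lit 14), Mv.f (nat_lit 16)])))))
(Tr.nd (nat_lit 24) (Tr.nd (nat_lit 23) (Tr.lf (Fc.ed (nat_lit 22) (nat_lit 2) Col.i (nat_lit 2) (Dv.wd (nat_lit 20) [Mv.b (nat_lit 16), Mv.f (nat_lit 15), Mv.f (nat_lit 16)])))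
(Tr.lf (Fc.ed (nat_lit 23) (nat_lit 2) Col.k (nat_lit 2) (Dv.wd (nat_lit 21) [Mv.b (nat_lit 16), Mv.b (nat_lit 8), Mv.f (nat_lit 0), Mv.f (nat_lit 8), Mv.f (nat_lit 16)]))))
(Tr.nd (nat_lit 25) (Tr.lf (Fc.ed (nat_lit 24) (nat_lit 2) Col.b (nat_lit 3) Dv.df))
(Tr.lf (Fc.ed (nat_lit 25) (nat_lit 3) Col.k (nat_lit 3) (Dv.wd (nat_lit 22) [Mv.b (nat_lit 24), Mv.f (nat_lit 23), Mv.f (nat_lit 24)]))))))))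
(Tr.nd (nat_lit 39) (Tr.nd (nat_lit 32) (Tr.nd (nat_lit 29) (Tr.nd (nat_lit 27) (Tr.lf (Fc.ed (nat_lit 26) (nat_lit 3) Col.d (nat_lit 3) (Dv.wd (nat_lit 23) [Mv.b (nat_lit 24), Mv.f (nat_lit 18), Mv.f (nat_lit 24)])))
(Tr.nd (nat_lit 28) (Tr.lf (Fc.ed (nat_lit 27) (nat_lit 3) Col.e (nat_lit 3) (Dv.wd (nat_lit 24) [Mv.b (nat_lit 24), Mv.f (nat_lit 19), Mv.f (nat_lit 24)])))
(Tr.lf (Fc.ed (nat_lit 28) (nat_lit 3) Col.f (nat_lit 3) (Dv.wd (nat_lit 25) [Mv.b (nat_lit 24), Mv.f (nat_lit 20), Mv.f (nat_lit 24)])))))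
(Tr.nd (nat_lit 30) (Tr.lf (Fc.ed (nat_lit 29) (nat_lit 3) Col.h (nat_lit 3) (Dv.wd (nat_lit 26) [Mv.b (nat_lit 24), Mv.f (nat_lit 21), Mv.f (nat_lit 24)])))
(Tr.nd (nat_lit 31) (Tr.lf (Fc.ed (nat_lit 30) (nat_lit 3) Col.i (nat_lit 3) (Dv.wd (nat_lit 27) [Mv.b (nat_lit 24), Mv.f (nat_lit 22), Mv.f (nat_lit 24)])))
(Tr.lf (Fc.ed (nat_lit 31) (nat_lit 3) Col.a (nat_lit 3) (Dv.wd (nat_lit 28) [Mv.b (nat_lit 24), Mv.b (nat_lit 16), Mv.f (nat_lit 9), Mv.f (nat_lit 16), Mv.f (nat_lit 24)]))))))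
(Tr.nd (nat_lit 35) (Tr.nd (nat_lit 33) (Tr.lf (Fc.ed (nat_lit 32) (nat_lit 3) Col.c (nat_lit 4) Dv.df))
(Tr.nd (nat_lit 34) (Tr.lf (Fc.ed (nat_lit 33) (nat_lit 4) Col.k (nat_lit 4) (Dv.wd (nat_lit 29) [Mv.b (nat_lit 32), Mv.f (nat_lit 25), Mv.f (nat_lit 32)])))
(Tr.lf (Fc.ed (nat_lit 34) (nat_lit 4) Col.a (nat_lit 4) (Dv.wd (nat_lit 30) [Mv.b (nat_lit 32), Mv.f (nat_lit 31), Mv.f (nat_lit 32)])))))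
(Tr.nd (nat_lit 37) (Tr.nd (nat_lit 36) (Tr.lf (Fc.ed (nat_lit 35) (nat_lit 4) Col.e (nat_lit 4) (Dv.wd (nat_lit 31) [Mv.b (nat_lit 32), Mv.f (nat_lit 27), Mv.f (nat_lit 32)])))
(Tr.lf (Fc.ed (nat_lit 36) (nat_lit 4) Col.f (nat_lit 4) (Dv.wd (nat_lit 32) [Mv.b (nat_lit 32), Mv.f (nat_lit 28), Mv.f (nat_lit 32)]))))
(Tr.nd (nat_lit 38) (Tr.lf (Fc.ed (nat_lit 37) (nat_lit 4) Col.h (nat_lit 4) (Dv.wd (nat_lit 33) [Mv.b (nat_lit 32), Mv.f (nat_lit 29), Mv.f (nat_lit 32)])))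
(Tr.lf (Fc.ed (nat_lit 38) (nat_lit 4) Col.i (nat_lit 4) (Dv.wd (nat_lit 34) [Mv.b (nat_lit 32), Mv.f (nat_lit 30), Mv.f (nat_lit 32)])))))))
(Tr.nd (nat_lit 45) (Tr.nd (nat_lit 42) (Tr.nd (nat_lit 40) (Tr.lf (Fc.ed (nat_lit 39) (nat_lit 4) Col.b (nat_lit 4) (Dv.wd (nat_lit 35) [Mv.b (nat_lit 32), Mv.b (nat_lit 24), Mv.f (nat_lit 17), Mv.f (nat_lit 24), Mv.f (nat_lit 32)])))
(Tr.nd (nat_lit 41) (Tr.lf (Fc.ed (nat_lit 40) (nat_lit 4) Col.d (nat_lit 5) Dv.df))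
(Tr.lf (Fc.ed (nat_lit 41) (nat_lit 5) Col.k (nat_lit 5) (Dv.wd (nat_lit 36) [Mv.b (nat_lit 40), Mv.f (nat_lit 33), Mv.f (nat_lit 40)])))))
(Tr.nd (nat_lit 43) (Tr.lf (Fc.ed (nat_lit 42) (nat_lit 5) Col.a (nat_lit 5) (Dv.wd (nat_lit 37) [Mv.b (nat_lit 40), Mv.f (nat_lit 34), Mv.f (nat_lit 40)])))
(Tr.nd (nat_lit 44) (Tr.lf (Fc.ed (nat_lit 43) (nat_lit 5) Col.b (nat_lit 5) (Dv.wd (nat_lit 38) [Mv.b (nat_lit 40), Mv.f (nat_lit 39), Mv.f (nat_lit 40)])))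
(Tr.lf (Fc.ed (nat_lit 44) (nat_lit 5) Col.f (nat_lit 5) (Dv.wd (nat_lit 39) [Mv.b (nat_lit 40), Mv.f (nat_lit 36), Mv.f (nat_lit 40)]))))))
(Tr.nd (nat_lit 48) (Tr.nd (nat_lit 46) (Tr.lf (Fc.ed (nat_lit 45) (nat_lit 5) Col.i (nat_lit 5) (Dv.wd (nat_lit 40) [Mv.b (nat_lit 40), Mv.f (nat_lit 38), Mv.f (nat_lit 40)])))
(Tr.nd (nat_lit 47) (Tr.lf (Fc.ed (nat_lit 46) (nat_lit 5) Col.c (nat_lit 5) (Dv.wd (nat_lit 41) [Mv.b (nat_lit 40), Mv.b (nat_lit 32), Mv.f (nat_lit 26), Mv.f (nat_lit 32), Mv.f (nat_lit 40)])))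
(Tr.lf (Fc.ed (nat_lit 47) (nat_lit 5) Col.e (nat_lit 6) Dv.df))))
(Tr.nd (nat_lit 50) (Tr.nd (nat_lit 49) (Tr.lf (Fc.ed (nat_lit 48) (nat_lit 6) Col.k (nat_lit 6) (Dv.wd (nat_lit 42) [Mv.b (nat_lit 47), Mv.f (nat_lit 41), Mv.f (nat_lit 47)])))
(Tr.lf (Fc.ed (nat_lit 49) (nat_lit 6) Col.a (nat_lit 6) (Dv.wd (nat_lit 43) [Mv.b (nat_lit 47), Mv.f (nat_lit 42), Mv.f (nat_lit 47)]))))
(Tr.nd (nat_lit 51) (Tr.lf (Fc.ed (nat_lit 50) (nat_lit 6) Col.b (nat_lit 6) (Dv.wd (nat_lit 44) [Mv.b (nat_lit 47), Mv.f (nat_lit 43), Mv.f (nat_lit 47)])))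
(Tr.lf (Fc.ed (nat_lit 51) (nat_lit 6) Col.c (nat_lit 6) (Dv.wd (nat_lit 45) [Mv.b (nat_lit 47), Mv.f (nat_lit 46), Mv.f (nat_lit 47)])))))))))
(Tr.nd (nat_lit 78) (Tr.nd (nat_lit 65) (Tr.nd (nat_lit 58) (Tr.nd (nat_lit 55) (Tr.nd (nat_lit 53) (Tr.lf (Fc.ed (nat_lit 52) (nat_lit 6) Col.i (nat_lit 6) (Dv.wd (nat_lit 46) [Mv.b (nat_lit 47), Mv.f (nat_lit 45), Mv.f (nat_lit 47)])))
(Tr.nd (nat_lit 54) (Tr.lf (Fc.ed (nat_lit 53) (nat_lit 6) Col.d (nat_lit 6) (Dv.wd (nat_lit 47) [Mv.b (nat_lit 47), Mv.b (nat_lit 40), Mv.f (nat_lit 35), Mv.f (nat_lit 40), Mv.f (nat_lit 47)])))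
(Tr.lf (Fc.ed (nat_lit 54) (nat_lit 6) Col.h (nat_lit 7) Dv.df))))
(Tr.nd (nat_lit 56) (Tr.lf (Fc.ed (nat_lit 55) (nat_lit 7) Col.k (nat_lit 7) (Dv.wd (nat_lit 48) [Mv.b (nat_lit 54), Mv.f (nat_lit 48), Mv.f (nat_lit 54)])))
(Tr.nd (nat_lit 57) (Tr.lf (Fc.ed (nat_lit 56) (nat_lit 7) Col.a (nat_lit 7) (Dv.wd (nat_lit 49) [Mv.b (nat_lit 54), Mv.f (nat_lit 49), Mv.f (nat_lit 54)])))
(Tr.lf (Fc.ed (nat_lit 57) (nat_lit 7) Col.b (nat_lit 7) (Dv.wd (nat_lit 50) [Mv.b (nat_lit 54), Mv.f (nat_lit 50), Mv.f (nat_lit 54)]))))))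
(Tr.nd (nat_lit 61) (Tr.nd (nat_lit 59) (Tr.lf (Fc.ed (nat_lit 58) (nat_lit 7) Col.c (nat_lit 7) (Dv.wd (nat_lit 51) [Mv.b (nat_lit 54), Mv.f (nat_lit 51), Mv.f (nat_lit 54)])))
(Tr.nd (nat_lit 60) (Tr.lf (Fc.ed (nat_lit 59) (nat_lit 7) Col.d (nat_lit 8) Dv.df))
(Tr.lf (Fc.ed (nat_lit 60) (nat_lit 8) Col.k (nat_lit 8) (Dv.wd (nat_lit 36) [Mv.b (nat_lit 59), Mv.f (nat_lit 55), Mv.f (nat_lit 59)])))))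
(Tr.nd (nat_lit 63) (Tr.nd (nat_lit 62) (Tr.lf (Fc.ed (nat_lit 61) (nat_lit 8) Col.a (nat_lit 8) (Dv.wd (nat_lit 37) [Mv.b (nat_lit 59), Mv.f (nat_lit 56), Mv.f (nat_lit 59)])))
(Tr.lf (Fc.ed (nat_lit 62) (nat_lit 8) Col.b (nat_lit 8) (Dv.wd (nat_lit 38) [Mv.b (nat_lit 59), Mv.f (nat_lit 57), Mv.f (nat_lit 59)]))))
(Tr.nd (nat_lit 64) (Tr.lf (Fc.ed (nat_lit 63) (nat_lit 8) Col.h (nat_lit 8) (Dv.wd (nat_lit 52) [Mv.b (nat_lit 59), Mv.b (nat_lit 54), Mv.f (nat_lit 53), Mv.f (nat_lit 54), Mv.f (nat_lit 59)])))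
(Tr.lf (Fc.ed (nat_lit 64) (nat_lit 8) Col.c (nat_lit 9) Dv.df))))))
(Tr.nd (nat_lit 71) (Tr.nd (nat_lit 68) (Tr.nd (nat_lit 66) (Tr.lf (Fc.ed (nat_lit 65) (nat_lit 9) Col.k (nat_lit 9) (Dv.wd (nat_lit 29) [Mv.b (nat_lit 64), Mv.f (nat_lit 60), Mv.f (nat_lit 64)])))
(Tr.nd (nat_lit 67) (Tr.lf (Fc.ed (nat_lit 66) (nat_lit 9) Col.a (nat_lit 9) (Dv.wd (nat_lit 30) [Mv.b (nat_lit 64), Mv.f (nat_lit 61), Mv.f (nat_lit 64)])))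
(Tr.lf (Fc.ed (nat_lit 67) (nat_lit 9) Col.h (nat_lit 9) (Dv.wd (nat_lit 33) [Mv.b (nat_lit 64), Mv.f (nat_lit 63), Mv.f (nat_lit 64)])))))
(Tr.nd (nat_lit 69) (Tr.lf (Fc.ed (nat_lit 68) (nat_lit 9) Col.d (nat_lit 9) (Dv.wd (nat_lit 53) [Mv.b (nat_lit 64), Mv.b (nat_lit 59), Mv.f (nat_lit 58), Mv.f (nat_lit 59), Mv.f (nat_lit 64)])))
(Tr.nd (nat_lit 70) (Tr.lf (Fc.ed (nat_lit 69) (nat_lit 9) Col.b (nat_lit 10) Dv.df))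
(Tr.lf (Fc.ed (nat_lit 70) (nat_lit 10) Col.k (nat_lit 10) (Dv.wd (nat_lit 22) [Mv.b (nat_lit 69), Mv.f (nat_lit 65), Mv.f (nat_lit 69)]))))))
(Tr.nd (nat_lit 74) (Tr.nd (nat_lit 72) (Tr.lf (Fc.ed (nat_lit 71) (nat_lit 10) Col.d (nat_lit 10) (Dv.wd (nat_lit 23) [Mv.b (nat_lit 69), Mv.f (nat_lit 68), Mv.f (nat_lit 69)])))
(Tr.nd (nat_lit 73) (Tr.lf (Fc.ed (nat_lit 72) (nat_lit 10) Col.h (nat_lit 10) (Dv.wd (nat_lit 26) [Mv.b (nat_lit 69), Mv.f (nat_lit 67), Mv.f (nat_lit 69)])))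
(Tr.lf (Fc.ed (nat_lit 73) (nat_lit 10) Col.c (nat_lit 10) (Dv.wd (nat_lit 54) [Mv.b (nat_lit 69), Mv.b (nat_lit 64), Mv.f (nat_lit 62), Mv.f (nat_lit 64), Mv.f (nat_lit 69)])))))
(Tr.nd (nat_lit 76) (Tr.nd (nat_lit 75) (Tr.lf (Fc.ed (nat_lit 74) (nat_lit 10) Col.a (nat_lit 11) Dv.df))
(Tr.lf (Fc.ed (nat_lit 75) (nat_lit 11) Col.c (nat_lit 11) (Dv.wd (nat_lit 15) [Mv.b (nat_lit 74), Mv.f (nat_lit 73), Mv.f (nat_lit 74)]))))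
(Tr.nd (nat_lit 77) (Tr.lf (Fc.ed (nat_lit 76) (nat_lit 11) Col.d (nat_lit 11) (Dv.wd (nat_lit 16) [Mv.b (nat_lit 74), Mv.f (nat_lit 71), Mv.f (nat_lit 74)])))
(Tr.lf (Fc.ed (nat_lit 77) (nat_lit 11) Col.h (nat_lit 11) (Dv.wd (nat_lit 19) [Mv.b (nat_lit 74), Mv.f (nat_lit 72), Mv.f (nat_lit 74)]))))))))
(Tr.nd (nat_lit 91) (Tr.nd (nat_lit 84) (Tr.nd (nat_lit 81) (Tr.nd (nat_lit 79) (Tr.lf (Fc.ed (nat_lit 78) (nat_lit 11) Col.b (nat_lit 11) (Dv.wd (nat_lit 55) [Mv.b (nat_lit 74), Mv.b (nat_lit 69), Mv.f (nat_lit 66), Mv.f (nat_lit 69), Mv.f (nat_lit 74)])))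
(Tr.nd (nat_lit 80) (Tr.lf (Fc.ed (nat_lit 79) (nat_lit 11) Col.i (nat_lit 12) Dv.df))
(Tr.lf (Fc.ed (nat_lit 80) (nat_lit 12) Col.b (nat_lit 12) (Dv.wd (nat_lit 56) [Mv.b (nat_lit 79), Mv.f (nat_lit 78), Mv.f (nat_lit 79)])))))
(Tr.nd (nat_lit 82) (Tr.lf (Fc.ed (nat_lit 81) (nat_lit 12) Col.c (nat_lit 12) (Dv.wd (nat_lit 57) [Mv.b (nat_lit 79), Mv.f (nat_lit 75), Mv.f (nat_lit 79)])))
(Tr.nd (nat_lit 83) (Tr.lf (Fc.ed (nat_lit 82) (nat_lit 12) Col.d (nat_lit 12) (Dv.wd (nat_lit 58) [Mv.b (nat_lit 79), Mv.f (nat_lit 76), Mv.f (nat_lit 79)])))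
(Tr.lf (Fc.ed (nat_lit 83) (nat_lit 12) Col.h (nat_lit 13) Dv.df)))))
(Tr.nd (nat_lit 87) (Tr.nd (nat_lit 85) (Tr.lf (Fc.ed (nat_lit 84) (nat_lit 13) Col.b (nat_lit 13) (Dv.wd (nat_lit 50) [Mv.b (nat_lit 83), Mv.f (nat_lit 80), Mv.f (nat_lit 83)])))
(Tr.nd (nat_lit 86) (Tr.lf (Fc.ed (nat_lit 85) (nat_lit 13) Col.c (nat_lit 13) (Dv.wd (nat_lit 51) [Mv.b (nat_lit 83), Mv.f (nat_lit 81), Mv.f (nat_lit 83)])))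
(Tr.lf (Fc.ed (nat_lit 86) (nat_lit 13) Col.d (nat_lit 14) Dv.df))))
(Tr.nd (nat_lit 89) (Tr.nd (nat_lit 88) (Tr.lf (Fc.ed (nat_lit 87) (nat_lit 14) Col.b (nat_lit 14) (Dv.wd (nat_lit 38) [Mv.b (nat_lit 86), Mv.f (nat_lit 84), Mv.f (nat_lit 86)])))
(Tr.lf (Fc.ed (nat_lit 88) (nat_lit 14) Col.h (nat_lit 14) (Dv.wd (nat_lit 52) [Mv.b (nat_lit 86), Mv.b (nat_lit 83), Mv.f (nat_lit 82), Mv.f (nat_lit 83), Mv.f (nat_lit 86)]))))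
(Tr.nd (nat_lit 90) (Tr.lf (Fc.ed (nat_lit 89) (nat_lit 14) Col.c (nat_lit 15) Dv.df))
(Tr.lf (Fc.ed (nat_lit 90) (nat_lit 15) Col.d (nat_lit 15) (Dv.wd (nat_lit 53) [Mv.b (nat_lit 89), Mv.b (nat_lit 86), Mv.f (nat_lit 85), Mv.f (nat_lit 86), Mv.f (nat_lit 89)])))))))
(Tr.nd (nat_lit 98) (Tr.nd (nat_lit 94) (Tr.nd (nat_lit 92) (Tr.lf (Fc.ed (nat_lit 91) (nat_lit 15) Col.e (nat_lit 16) Dv.df))
(Tr.nd (nat_lit 93) (Tr.lf (Fc.ed (nat_lit 92) (nat_lit 16) Col.d (nat_lit 17) Dv.df))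
(Tr.lf (Fc.ed (nat_lit 93) (nat_lit 17) Col.e (nat_lit 17) (Dv.wd (nat_lit 59) [Mv.b (nat_lit 92), Mv.b (nat_lit 91), Mv.f (nat_lit 90), Mv.f (nat_lit 91), Mv.f (nat_lit 92)])))))
(Tr.nd (nat_lit 96) (Tr.nd (nat_lit 95) (Tr.lf (Fc.ed (nat_lit 94) (nat_lit 17) Col.h (nat_lit 18) Dv.df))
(Tr.lf (Fc.ed (nat_lit 95) (nat_lit 18) Col.e (nat_lit 18) (Dv.wd (nat_lit 60) [Mv.b (nat_lit 94), Mv.f (nat_lit 93), Mv.f (nat_lit 94)]))))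
(Tr.nd (nat_lit 97) (Tr.lf (Fc.ed (nat_lit 96) (nat_lit 18) Col.i (nat_lit 19) Dv.df))
(Tr.lf (Fc.ed (nat_lit 97) (nat_lit 19) Col.e (nat_lit 19) (Dv.wd (nat_lit 61) [Mv.b (nat_lit 96), Mv.f (nat_lit 95), Mv.f (nat_lit 96)]))))))
(Tr.nd (nat_lit 101) (Tr.nd (nat_lit 99) (Tr.lf (Fc.ed (nat_lit 98) (nat_lit 19) Col.b (nat_lit 20) Dv.df))
(Tr.nd (nat_lit 100) (Tr.lf (Fc.ed (nat_lit 99) (nat_lit 20) Col.e (nat_lit 20) (Dv.wd (nat_lit 24) [Mv.b (nat_lit 98), Mv.f (nat_lit 97), Mv.f (nat_lit 98)])))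
(Tr.lf (Fc.ed (nat_lit 100) (nat_lit 20) Col.c (nat_lit 21) Dv.df))))
(Tr.nd (nat_lit 103) (Tr.nd (nat_lit 102) (Tr.lf (Fc.ed (nat_lit 101) (nat_lit 21) Col.e (nat_lit 21) (Dv.wd (nat_lit 31) [Mv.b (nat_lit 100), Mv.f (nat_lit 99), Mv.f (nat_lit 100)])))
(Tr.lf (Fc.ed (nat_lit 102) (nat_lit 21) Col.d (nat_lit 22) Dv.df)))
(Tr.nd (nat_lit 104) (Tr.lf (Fc.ed (nat_lit 103) (nat_lit 22) Col.h (nat_lit 23) Dv.df))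
(Tr.lf (Fc.ed (nat_lit 104) (nat_lit 23) Col.e (nat_lit 24) Dv.df)))))))))
(Tr.nd (nat_lit 158) (Tr.nd (nat_lit 131) (Tr.nd (nat_lit 118) (Tr.nd (nat_lit 111) (Tr.nd (nat_lit 108) (Tr.nd (nat_lit 106) (Tr.lf (Fc.ed (nat_lit 105) (nat_lit 24) Col.d (nat_lit 25) Dv.df))
(Tr.nd (nat_lit 107) (Tr.lf (Fc.ed (nat_lit 106) (nat_lit 25) Col.c (nat_lit 26) Dv.df))
(Tr.lf (Fc.ed (nat_lit 107) (nat_lit 26) Col.b (nat_lit 27) Dv.df))))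
(Tr.nd (nat_lit 109) (Tr.lf (Fc.ed (nat_lit 108) (nat_lit 27) Col.a (nat_lit 28) Dv.df))
(Tr.nd (nat_lit 110) (Tr.lf (Fc.ed (nat_lit 109) (nat_lit 10) Col.i (nat_lit 29) Dv.df))
(Tr.lf (Fc.ed (nat_lit 110) (nat_lit 29) Col.k (nat_lit 29) (Dv.wd (nat_lit 62) [Mv.b (nat_lit 109), Mv.f (nat_lit 70), Mv.f (nat_lit 109)]))))))
(Tr.nd (nat_lit 114) (Tr.nd (nat_lit 112) (Tr.lf (Fc.ed (nat_lit 111) (nat_lit 29) Col.a (nat_lit 12) (Dv.wd (nat_lit 63) [Mv.b (nat_lit 79), Mv.b (nat_lit 74), Mv.f (nat_lit 109)])))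
(Tr.nd (nat_lit 113) (Tr.lf (Fc.ed (nat_lit 112) (nat_lit 14) Col.e (nat_lit 30) Dv.df))
(Tr.lf (Fc.ed (nat_lit 113) (nat_lit 30) Col.c (nat_lit 16) (Dv.wd (nat_lit 45) [Mv.b (nat_lit 91), Mv.b (nat_lit 89), Mv.f (nat_lit 112)])))))
(Tr.nd (nat_lit 116) (Tr.nd (nat_lit 115) (Tr.lf (Fc.ed (nat_lit 114) (nat_lit 30) Col.h (nat_lit 30) (Dv.wd (nat_lit 64) [Mv.b (nat_lit 112), Mv.f (nat_lit 88), Mv.f (nat_lit 112)])))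
(Tr.lf (Fc.ed (nat_lit 115) (nat_lit 7) Col.e (nat_lit 31) Dv.df)))
(Tr.nd (nat_lit 117) (Tr.lf (Fc.ed (nat_lit 116) (nat_lit 31) Col.a (nat_lit 31) (Dv.wd (nat_lit 43) [Mv.b (nat_lit 115), Mv.f (nat_lit 56), Mv.f (nat_lit 115)])))
(Tr.lf (Fc.ed (nat_lit 117) (nat_lit 31) Col.b (nat_lit 31) (Dv.wd (nat_lit 44) [Mv.b (nat_lit 115), Mv.f (nat_lit 57), Mv.f (nat_lit 115)])))))))
(Tr.nd (nat_lit 124) (Tr.nd (nat_lit 121) (Tr.nd (nat_lit 119) (Tr.lf (Fc.ed (nat_lit 118) (nat_lit 31) Col.c (nat_lit 31) (Dv.wd (nat_lit 45) [Mv.b (nat_lit 115), Mv.f (nat_lit 58), Mv.f (nat_lit 115)])))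
(Tr.nd (nat_lit 120) (Tr.lf (Fc.ed (nat_lit 119) (nat_lit 31) Col.h (nat_lit 5) (Dv.wd (nat_lit 64) [Mv.f (nat_lit 47), Mv.f (nat_lit 54), Mv.f (nat_lit 115)])))
(Tr.lf (Fc.ed (nat_lit 120) (nat_lit 31) Col.f (nat_lit 31) (Dv.wd (nat_lit 65) [Mv.f (nat_lit 119), Mv.f (nat_lit 44), Mv.b (nat_lit 119)])))))
(Tr.nd (nat_lit 122) (Tr.lf (Fc.ed (nat_lit 121) (nat_lit 31) Col.d (nat_lit 31) (Dv.wd (nat_lit 66) [Mv.f (nat_lit 119), Mv.b (nat_lit 40), Mv.f (nat_lit 37), Mv.f (nat_lit 40), Mv.b (nat_lit 119)])))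
(Tr.nd (nat_lit 123) (Tr.lf (Fc.ed (nat_lit 122) (nat_lit 8) Col.e (nat_lit 8) (Dv.wd (nat_lit 67) [Mv.b (nat_lit 59), Mv.f (nat_lit 115), Mv.f (nat_lit 121), Mv.b (nat_lit 115), Mv.f (nat_lit 59)])))
(Tr.lf (Fc.ed (nat_lit 123) (nat_lit 9) Col.e (nat_lit 9) (Dv.wd (nat_lit 31) [Mv.b (nat_lit 64), Mv.f (nat_lit 122), Mv.f (nat_lit 64)]))))))
(Tr.nd (nat_lit 127) (Tr.nd (nat_lit 125) (Tr.lf (Fc.ed (nat_lit 124) (nat_lit 10) Col.e (nat_lit 10) (Dv.wd (nat_lit 24) [Mv.b (nat_lit 69), Mv.f (nat_lit 123), Mv.f (nat_lit 69)])))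
(Tr.nd (nat_lit 126) (Tr.lf (Fc.ed (nat_lit 125) (nat_lit 11) Col.e (nat_lit 11) (Dv.wd (nat_lit 17) [Mv.b (nat_lit 74), Mv.f (nat_lit 124), Mv.f (nat_lit 74)])))
(Tr.lf (Fc.ed (nat_lit 126) (nat_lit 29) Col.e (nat_lit 29) (Dv.wd (nat_lit 68) [Mv.b (nat_lit 109), Mv.f (nat_lit 124), Mv.f (nat_lit 109)])))))
(Tr.nd (nat_lit 129) (Tr.nd (nat_lit 128) (Tr.lf (Fc.ed (nat_lit 127) (nat_lit 12) Col.e (nat_lit 12) (Dv.wd (nat_lit 17) [Mv.b (nat_lit 111), Mv.f (nat_lit 126), Mv.f (nat_lit 111)])))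
(Tr.lf (Fc.ed (nat_lit 128) (nat_lit 13) Col.e (nat_lit 13) (Dv.wd (nat_lit 69) [Mv.b (nat_lit 83), Mv.f (nat_lit 127), Mv.f (nat_lit 83)]))))
(Tr.nd (nat_lit 130) (Tr.lf (Fc.ed (nat_lit 129) (nat_lit 30) Col.d (nat_lit 30) (Dv.wd (nat_lit 70) [Mv.b (nat_lit 112), Mv.b (nat_lit 86), Mv.f (nat_lit 128), Mv.f (nat_lit 86), Mv.f (nat_lit 112)])))
(Tr.lf (Fc.ed (nat_lit 130) (nat_lit 17) Col.c (nat_lit 17) (Dv.wd (nat_lit 71) [Mv.b (nat_lit 92), Mv.b (nat_lit 113), Mv.f (nat_lit 129), Mv.f (nat_lit 113), Mv.f (nat_lit 92)]))))))))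
(Tr.nd (nat_lit 144) (Tr.nd (nat_lit 137) (Tr.nd (nat_lit 134) (Tr.nd (nat_lit 132) (Tr.lf (Fc.ed (nat_lit 131) (nat_lit 18) Col.c (nat_lit 18) (Dv.wd (nat_lit 72) [Mv.b (nat_lit 94), Mv.f (nat_lit 130), Mv.f (nat_lit 94)])))
(Tr.nd (nat_lit 133) (Tr.lf (Fc.ed (nat_lit 132) (nat_lit 19) Col.c (nat_lit 19) (Dv.wd (nat_lit 73) [Mv.b (nat_lit 96), Mv.f (nat_lit 131), Mv.f (nat_lit 96)])))
(Tr.lf (Fc.ed (nat_lit 133) (nat_lit 21) Col.b (nat_lit 21) (Dv.wd (nat_lit 74) [Mv.b (nat_lit 100), Mv.b (nat_lit 98), Mv.f (nat_lit 132), Mv.f (nat_lit 98), Mv.f (nat_lit 100)])))))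
(Tr.nd (nat_lit 135) (Tr.lf (Fc.ed (nat_lit 134) (nat_lit 9) Col.i (nat_lit 32) Dv.df))
(Tr.nd (nat_lit 136) (Tr.lf (Fc.ed (nat_lit 135) (nat_lit 32) Col.a (nat_lit 32) (Dv.wd (nat_lit 63) [Mv.b (nat_lit 134), Mv.f (nat_lit 66), Mv.f (nat_lit 134)])))
(Tr.lf (Fc.ed (nat_lit 136) (nat_lit 32) Col.b (nat_lit 29) (Dv.wd (nat_lit 56) [Mv.b (nat_lit 109), Mv.b (nat_lit 69), Mv.f (nat_lit 134)]))))))
(Tr.nd (nat_lit 140) (Tr.nd (nat_lit 138) (Tr.lf (Fc.ed (nat_lit 137) (nat_lit 10) Col.f (nat_lit 33) Dv.df))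
(Tr.nd (nat_lit 139) (Tr.lf (Fc.ed (nat_lit 138) (nat_lit 33) Col.k (nat_lit 33) (Dv.wd (nat_lit 75) [Mv.b (nat_lit 137), Mv.f (nat_lit 70), Mv.f (nat_lit 137)])))
(Tr.lf (Fc.ed (nat_lit 139) (nat_lit 33) Col.c (nat_lit 33) (Dv.wd (nat_lit 76) [Mv.b (nat_lit 137), Mv.f (nat_lit 73), Mv.f (nat_lit 137)])))))
(Tr.nd (nat_lit 142) (Tr.nd (nat_lit 141) (Tr.lf (Fc.ed (nat_lit 140) (nat_lit 33) Col.d (nat_lit 33) (Dv.wd (nat_lit 77) [Mv.b (nat_lit 137), Mv.f (nat_lit 71), Mv.f (nat_lit 137)])))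
(Tr.lf (Fc.ed (nat_lit 141) (nat_lit 33) Col.h (nat_lit 33) (Dv.wd (nat_lit 78) [Mv.b (nat_lit 137), Mv.f (nat_lit 72), Mv.f (nat_lit 137)]))))
(Tr.nd (nat_lit 143) (Tr.lf (Fc.ed (nat_lit 142) (nat_lit 29) Col.h (nat_lit 34) Dv.df))
(Tr.lf (Fc.ed (nat_lit 143) (nat_lit 34) Col.k (nat_lit 34) (Dv.wd (nat_lit 48) [Mv.b (nat_lit 142), Mv.f (nat_lit 110), Mv.f (nat_lit 142)])))))))
(Tr.nd (nat_lit 151) (Tr.nd (nat_lit 147) (Tr.nd (nat_lit 145) (Tr.lf (Fc.ed (nat_lit 144) (nat_lit 34) Col.a (nat_lit 13) (Dv.wd (nat_lit 49) [Mv.b (nat_lit 83), Mv.b (nat_lit 111), Mv.f (nat_lit 142)])))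
(Tr.nd (nat_lit 146) (Tr.lf (Fc.ed (nat_lit 145) (nat_lit 34) Col.d (nat_lit 35) Dv.df))
(Tr.lf (Fc.ed (nat_lit 146) (nat_lit 35) Col.k (nat_lit 35) (Dv.wd (nat_lit 36) [Mv.b (nat_lit 145), Mv.f (nat_lit 143), Mv.f (nat_lit 145)])))))
(Tr.nd (nat_lit 149) (Tr.nd (nat_lit 148) (Tr.lf (Fc.ed (nat_lit 147) (nat_lit 35) Col.a (nat_lit 14) (Dv.wd (nat_lit 37) [Mv.b (nat_lit 86), Mv.b (nat_lit 144), Mv.f (nat_lit 145)])))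
(Tr.lf (Fc.ed (nat_lit 148) (nat_lit 33) Col.b (nat_lit 36) Dv.df)))
(Tr.nd (nat_lit 150) (Tr.lf (Fc.ed (nat_lit 149) (nat_lit 36) Col.d (nat_lit 36) (Dv.wd (nat_lit 23) [Mv.b (nat_lit 148), Mv.f (nat_lit 140), Mv.f (nat_lit 148)])))
(Tr.lf (Fc.ed (nat_lit 150) (nat_lit 36) Col.f (nat_lit 9) (Dv.wd (nat_lit 25) [Mv.f (nat_lit 69), Mv.f (nat_lit 137), Mv.f (nat_lit 148)]))))))
(Tr.nd (nat_lit 154) (Tr.nd (nat_lit 152) (Tr.lf (Fc.ed (nat_lit 151) (nat_lit 36) Col.h (nat_lit 36) (Dv.wd (nat_lit 26) [Mv.b (nat_lit 148), Mv.f (nat_lit 141), Mv.f (nat_lit 148)])))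
(Tr.nd (nat_lit 153) (Tr.lf (Fc.ed (nat_lit 152) (nat_lit 36) Col.a (nat_lit 36) (Dv.wd (nat_lit 79) [Mv.f (nat_lit 150), Mv.f (nat_lit 66), Mv.b (nat_lit 150)])))
(Tr.lf (Fc.ed (nat_lit 153) (nat_lit 17) Col.b (nat_lit 37) Dv.df))))
(Tr.nd (nat_lit 156) (Tr.nd (nat_lit 155) (Tr.lf (Fc.ed (nat_lit 154) (nat_lit 15) Col.f (nat_lit 38) Dv.df))
(Tr.lf (Fc.ed (nat_lit 155) (nat_lit 32) Col.f (nat_lit 39) Dv.df)))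
(Tr.nd (nat_lit 157) (Tr.lf (Fc.ed (nat_lit 156) (nat_lit 39) Col.a (nat_lit 39) (Dv.wd (nat_lit 80) [Mv.b (nat_lit 155), Mv.f (nat_lit 135), Mv.f (nat_lit 155)])))
(Tr.lf (Fc.ed (nat_lit 157) (nat_lit 39) Col.i (nat_lit 36) (Dv.wd (nat_lit 81) [Mv.f (nat_lit 150), Mv.f (nat_lit 134), Mv.f (nat_lit 155)])))))))))
(Tr.nd (nat_lit 184) (Tr.nd (nat_lit 171) (Tr.nd (nat_lit 164) (Tr.nd (nat_lit 161) (Tr.nd (nat_lit 159) (Tr.lf (Fc.ed (nat_lit 158) (nat_lit 32) Col.c (nat_lit 40) Dv.df))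
(Tr.nd (nat_lit 160) (Tr.lf (Fc.ed (nat_lit 159) (nat_lit 40) Col.i (nat_lit 8) (Dv.wd (nat_lit 34) [Mv.f (nat_lit 64), Mv.f (nat_lit 134), Mv.f (nat_lit 158)])))
(Tr.lf (Fc.ed (nat_lit 160) (nat_lit 7) Col.i (nat_lit 41) Dv.df))))
(Tr.nd (nat_lit 162) (Tr.lf (Fc.ed (nat_lit 161) (nat_lit 41) Col.d (nat_lit 40) (Dv.wd (nat_lit 58) [Mv.f (nat_lit 159), Mv.b (nat_lit 59), Mv.f (nat_lit 160)])))
(Tr.nd (nat_lit 163) (Tr.lf (Fc.ed (nat_lit 162) (nat_lit 41) Col.h (nat_lit 41) (Dv.wd (nat_lit 82) [Mv.b (nat_lit 160), Mv.b (nat_lit 54), Mv.f (nat_lit 52), Mv.f (nat_lit 54), Mv.f (nat_lit 160)])))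
(Tr.lf (Fc.ed (nat_lit 163) (nat_lit 18) Col.b (nat_lit 42) Dv.df)))))
(Tr.nd (nat_lit 167) (Tr.nd (nat_lit 165) (Tr.lf (Fc.ed (nat_lit 164) (nat_lit 42) Col.e (nat_lit 42) (Dv.wd (nat_lit 24) [Mv.b (nat_lit 163), Mv.f (nat_lit 95), Mv.f (nat_lit 163)])))
(Tr.nd (nat_lit 166) (Tr.lf (Fc.ed (nat_lit 165) (nat_lit 42) Col.h (nat_lit 37) (Dv.wd (nat_lit 26) [Mv.b (nat_lit 153), Mv.f (nat_lit 94), Mv.f (nat_lit 163)])))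
(Tr.lf (Fc.ed (nat_lit 166) (nat_lit 42) Col.i (nat_lit 20) (Dv.wd (nat_lit 27) [Mv.b (nat_lit 98), Mv.b (nat_lit 96), Mv.f (nat_lit 163)])))))
(Tr.nd (nat_lit 169) (Tr.nd (nat_lit 168) (Tr.lf (Fc.ed (nat_lit 167) (nat_lit 21) Col.i (nat_lit 43) Dv.df))
(Tr.lf (Fc.ed (nat_lit 168) (nat_lit 43) Col.b (nat_lit 43) (Dv.wd (nat_lit 56) [Mv.b (nat_lit 167), Mv.f (nat_lit 133), Mv.f (nat_lit 167)]))))
(Tr.nd (nat_lit 170) (Tr.lf (Fc.ed (nat_lit 169) (nat_lit 43) Col.c (nat_lit 42) (Dv.wd (nat_lit 57) [Mv.f (nat_lit 166), Mv.f (nat_lit 100), Mv.f (nat_lit 167)])))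
(Tr.lf (Fc.ed (nat_lit 170) (nat_lit 43) Col.e (nat_lit 43) (Dv.wd (nat_lit 61) [Mv.b (nat_lit 167), Mv.f (nat_lit 101), Mv.f (nat_lit 167)])))))))
(Tr.nd (nat_lit 177) (Tr.nd (nat_lit 174) (Tr.nd (nat_lit 172) (Tr.lf (Fc.ed (nat_lit 171) (nat_lit 16) Col.b (nat_lit 44) Dv.df))
(Tr.nd (nat_lit 173) (Tr.lf (Fc.ed (nat_lit 172) (nat_lit 44) Col.d (nat_lit 37) (Dv.wd (nat_lit 23) [Mv.b (nat_lit 153), Mv.b (nat_lit 92), Mv.f (nat_lit 171)])))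
(Tr.lf (Fc.ed (nat_lit 173) (nat_lit 19) Col.k (nat_lit 45) Dv.df))))
(Tr.nd (nat_lit 175) (Tr.lf (Fc.ed (nat_lit 174) (nat_lit 45) Col.b (nat_lit 46) Dv.df))
(Tr.nd (nat_lit 176) (Tr.lf (Fc.ed (nat_lit 175) (nat_lit 46) Col.k (nat_lit 20) (Dv.wd (nat_lit 22) [Mv.b (nat_lit 98), Mv.f (nat_lit 173), Mv.f (nat_lit 174)])))
(Tr.lf (Fc.ed (nat_lit 176) (nat_lit 38) Col.c (nat_lit 47) Dv.df)))))
(Tr.nd (nat_lit 180) (Tr.nd (nat_lit 178) (Tr.lf (Fc.ed (nat_lit 177) (nat_lit 47) Col.f (nat_lit 14) (Dv.wd (nat_lit 32) [Mv.f (nat_lit 89), Mv.f (nat_lit 154), Mv.f (nat_lit 176)])))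
(Tr.nd (nat_lit 179) (Tr.lf (Fc.ed (nat_lit 178) (nat_lit 46) Col.i (nat_lit 48) Dv.df))
(Tr.lf (Fc.ed (nat_lit 179) (nat_lit 48) Col.k (nat_lit 42) (Dv.wd (nat_lit 62) [Mv.f (nat_lit 166), Mv.b (nat_lit 175), Mv.f (nat_lit 178)])))))
(Tr.nd (nat_lit 182) (Tr.nd (nat_lit 181) (Tr.lf (Fc.ed (nat_lit 180) (nat_lit 45) Col.i (nat_lit 49) Dv.df))
(Tr.lf (Fc.ed (nat_lit 181) (nat_lit 49) Col.k (nat_lit 18) (Dv.wd (nat_lit 62) [Mv.f (nat_lit 96), Mv.f (nat_lit 173), Mv.f (nat_lit 180)]))))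
(Tr.nd (nat_lit 183) (Tr.lf (Fc.ed (nat_lit 182) (nat_lit 49) Col.b (nat_lit 48) (Dv.wd (nat_lit 56) [Mv.b (nat_lit 178), Mv.b (nat_lit 174), Mv.f (nat_lit 180)])))
(Tr.lf (Fc.ed (nat_lit 183) (nat_lit 11) Col.f (nat_lit 50) Dv.df)))))))
(Tr.nd (nat_lit 197) (Tr.nd (nat_lit 190) (Tr.nd (nat_lit 187) (Tr.nd (nat_lit 185) (Tr.lf (Fc.ed (nat_lit 184) (nat_lit 50) Col.a (nat_lit 33) (Dv.wd (nat_lit 80) [Mv.b (nat_lit 137), Mv.f (nat_lit 74), Mv.f (nat_lit 183)])))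
(Tr.nd (nat_lit 186) (Tr.lf (Fc.ed (nat_lit 185) (nat_lit 50) Col.h (nat_lit 50) (Dv.wd (nat_lit 78) [Mv.b (nat_lit 183), Mv.f (nat_lit 77), Mv.f (nat_lit 183)])))
(Tr.lf (Fc.ed (nat_lit 186) (nat_lit 15) Col.b (nat_lit 51) Dv.df))))
(Tr.nd (nat_lit 188) (Tr.lf (Fc.ed (nat_lit 187) (nat_lit 51) Col.e (nat_lit 44) (Dv.wd (nat_lit 24) [Mv.b (nat_lit 171), Mv.b (nat_lit 91), Mv.f (nat_lit 186)])))
(Tr.nd (nat_lit 189) (Tr.lf (Fc.ed (nat_lit 188) (nat_lit 50) Col.k (nat_lit 52) Dv.df))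
(Tr.lf (Fc.ed (nat_lit 189) (nat_lit 5) Col.l (nat_lit 53) Dv.df)))))
(Tr.nd (nat_lit 193) (Tr.nd (nat_lit 191) (Tr.lf (Fc.ed (nat_lit 190) (nat_lit 43) Col.k (nat_lit 54) Dv.df))
(Tr.nd (nat_lit 192) (Tr.lf (Fc.ed (nat_lit 191) (nat_lit 54) Col.c (nat_lit 48) (Dv.wd (nat_lit 9) [Mv.f (nat_lit 179), Mv.b (nat_lit 169), Mv.f (nat_lit 190)])))
(Tr.lf (Fc.ed (nat_lit 192) (nat_lit 41) Col.e (nat_lit 55) Dv.df))))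
(Tr.nd (nat_lit 195) (Tr.nd (nat_lit 194) (Tr.lf (Fc.ed (nat_lit 193) (nat_lit 55) Col.i (nat_lit 31) (Dv.wd (nat_lit 46) [Mv.b (nat_lit 115), Mv.f (nat_lit 160), Mv.f (nat_lit 192)])))
(Tr.lf (Fc.ed (nat_lit 194) (nat_lit 55) Col.f (nat_lit 55) (Dv.wd (nat_lit 83) [Mv.f (nat_lit 193), Mv.f (nat_lit 120), Mv.b (nat_lit 193)]))))
(Tr.nd (nat_lit 196) (Tr.lf (Fc.ed (nat_lit 195) (nat_lit 49) Col.h (nat_lit 56) Dv.df))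
(Tr.lf (Fc.ed (nat_lit 196) (nat_lit 56) Col.k (nat_lit 17) (Dv.wd (nat_lit 48) [Mv.f (nat_lit 94), Mv.b (nat_lit 181), Mv.f (nat_lit 195)])))))))
(Tr.nd (nat_lit 204) (Tr.nd (nat_lit 200) (Tr.nd (nat_lit 198) (Tr.lf (Fc.ed (nat_lit 197) (nat_lit 56) Col.d (nat_lit 57) Dv.df))
(Tr.nd (nat_lit 199) (Tr.lf (Fc.ed (nat_lit 198) (nat_lit 57) Col.k (nat_lit 16) (Dv.wd (nat_lit 36) [Mv.f (nat_lit 92), Mv.b (nat_lit 196), Mv.f (nat_lit 197)])))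
(Tr.lf (Fc.ed (nat_lit 199) (nat_lit 12) Col.f (nat_lit 58) Dv.df))))
(Tr.nd (nat_lit 202) (Tr.nd (nat_lit 201) (Tr.lf (Fc.ed (nat_lit 200) (nat_lit 58) Col.i (nat_lit 50) (Dv.wd (nat_lit 81) [Mv.b (nat_lit 183), Mv.f (nat_lit 79), Mv.f (nat_lit 199)])))
(Tr.lf (Fc.ed (nat_lit 201) (nat_lit 15) Col.k (nat_lit 59) Dv.df)))
(Tr.nd (nat_lit 203) (Tr.lf (Fc.ed (nat_lit 202) (nat_lit 59) Col.e (nat_lit 57) (Dv.wd (nat_lit 11) [Mv.f (nat_lit 198), Mv.b (nat_lit 91), Mv.f (nat_lit 201)])))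
(Tr.lf (Fc.ed (nat_lit 203) (nat_lit 14) Col.k (nat_lit 60) Dv.df)))))
(Tr.nd (nat_lit 207) (Tr.nd (nat_lit 205) (Tr.lf (Fc.ed (nat_lit 204) (nat_lit 60) Col.b (nat_lit 60) (Dv.wd (nat_lit 8) [Mv.b (nat_lit 203), Mv.f (nat_lit 87), Mv.f (nat_lit 203)])))
(Tr.nd (nat_lit 206) (Tr.lf (Fc.ed (nat_lit 205) (nat_lit 60) Col.c (nat_lit 59) (Dv.wd (nat_lit 9) [Mv.b (nat_lit 201), Mv.b (nat_lit 89), Mv.f (nat_lit 203)])))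
(Tr.lf (Fc.ed (nat_lit 206) (nat_lit 60) Col.a (nat_lit 60) (Dv.wd (nat_lit 84) [Mv.b (nat_lit 203), Mv.b (nat_lit 147), Mv.f (nat_lit 146), Mv.f (nat_lit 147), Mv.f (nat_lit 203)])))))
(Tr.nd (nat_lit 209) (Tr.nd (nat_lit 208) (Tr.lf (Fc.ed (nat_lit 207) (nat_lit 59) Col.a (nat_lit 59) (Dv.wd (nat_lit 85) [Mv.b (nat_lit 205), Mv.f (nat_lit 206), Mv.f (nat_lit 205)])))
(Tr.lf (Fc.ed (nat_lit 208) (nat_lit 57) Col.a (nat_lit 57) (Dv.wd (nat_lit 86) [Mv.b (nat_lit 202), Mv.f (nat_lit 207), Mv.f (nat_lit 202)]))))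
(Tr.nd (nat_lit 210) (Tr.lf (Fc.ed (nat_lit 209) (nat_lit 56) Col.a (nat_lit 56) (Dv.wd (nat_lit 87) [Mv.f (nat_lit 197), Mv.f (nat_lit 208), Mv.b (nat_lit 197)])))
(Tr.lf (Fc.ed (nat_lit 210) (nat_lit 49) Col.a (nat_lit 49) (Dv.wd (nat_lit 88) [Mv.f (nat_lit 195), Mv.f (nat_lit 209), Mv.b (nat_lit 195)])))))))))))
(Tr.nd (nat_lit 317) (Tr.nd (nat_lit 264) (Tr.nd (nat_lit 237) (Tr.nd (nat_lit 224) (Tr.nd (nat_lit 217) (Tr.nd (nat_lit 214) (Tr.nd (nat_lit 212) (Tr.lf (Fc.ed (nat_lit 211) (nat_lit 58) Col.h (nat_lit 61) Dv.df))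
(Tr.nd (nat_lit 213) (Tr.lf (Fc.ed (nat_lit 212) (nat_lit 61) Col.f (nat_lit 13) (Dv.wd (nat_lit 89) [Mv.b (nat_lit 83), Mv.f (nat_lit 199), Mv.f (nat_lit 211)])))
(Tr.lf (Fc.ed (nat_lit 213) (nat_lit 47) Col.d (nat_lit 61) (Dv.wd (nat_lit 90) [Mv.f (nat_lit 212), Mv.f (nat_lit 86), Mv.b (nat_lit 177)])))))
(Tr.nd (nat_lit 215) (Tr.lf (Fc.ed (nat_lit 214) (nat_lit 31) Col.l (nat_lit 62) Dv.df))
(Tr.nd (nat_lit 216) (Tr.lf (Fc.ed (nat_lit 215) (nat_lit 62) Col.h (nat_lit 53) (Dv.wd (nat_lit 91) [Mv.b (nat_lit 189), Mv.b (nat_lit 119), Mv.f (nat_lit 214)])))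
(Tr.lf (Fc.ed (nat_lit 216) (nat_lit 52) Col.i (nat_lit 63) Dv.df)))))
(Tr.nd (nat_lit 220) (Tr.nd (nat_lit 218) (Tr.lf (Fc.ed (nat_lit 217) (nat_lit 63) Col.k (nat_lit 58) (Dv.wd (nat_lit 62) [Mv.f (nat_lit 200), Mv.f (nat_lit 188), Mv.f (nat_lit 216)])))
(Tr.nd (nat_lit 219) (Tr.lf (Fc.ed (nat_lit 218) (nat_lit 43) Col.d (nat_lit 64) Dv.df))
(Tr.lf (Fc.ed (nat_lit 219) (nat_lit 64) Col.i (nat_lit 22) (Dv.wd (nat_lit 40) [Mv.b (nat_lit 102), Mv.f (nat_lit 167), Mv.f (nat_lit 218)])))))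
(Tr.nd (nat_lit 222) (Tr.nd (nat_lit 221) (Tr.lf (Fc.ed (nat_lit 220) (nat_lit 29) Col.f (nat_lit 65) Dv.df))
(Tr.lf (Fc.ed (nat_lit 221) (nat_lit 65) Col.b (nat_lit 39) (Dv.wd (nat_lit 92) [Mv.b (nat_lit 155), Mv.f (nat_lit 136), Mv.f (nat_lit 220)]))))
(Tr.nd (nat_lit 223) (Tr.lf (Fc.ed (nat_lit 222) (nat_lit 65) Col.i (nat_lit 33) (Dv.wd (nat_lit 81) [Mv.b (nat_lit 137), Mv.f (nat_lit 109), Mv.f (nat_lit 220)])))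
(Tr.lf (Fc.ed (nat_lit 223) (nat_lit 22) Col.l (nat_lit 66) Dv.df))))))
(Tr.nd (nat_lit 230) (Tr.nd (nat_lit 227) (Tr.nd (nat_lit 225) (Tr.lf (Fc.ed (nat_lit 224) (nat_lit 22) Col.e (nat_lit 67) Dv.df))
(Tr.nd (nat_lit 226) (Tr.lf (Fc.ed (nat_lit 225) (nat_lit 67) Col.h (nat_lit 24) (Dv.wd (nat_lit 64) [Mv.b (nat_lit 104), Mv.b (nat_lit 103), Mv.f (nat_lit 224)])))
(Tr.lf (Fc.ed (nat_lit 226) (nat_lit 60) Col.e (nat_lit 68) Dv.df))))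
(Tr.nd (nat_lit 228) (Tr.lf (Fc.ed (nat_lit 227) (nat_lit 68) Col.k (nat_lit 30) (Dv.wd (nat_lit 42) [Mv.b (nat_lit 112), Mv.f (nat_lit 203), Mv.f (nat_lit 226)])))
(Tr.nd (nat_lit 229) (Tr.lf (Fc.ed (nat_lit 228) (nat_lit 68) Col.b (nat_lit 68) (Dv.wd (nat_lit 44) [Mv.b (nat_lit 226), Mv.f (nat_lit 204), Mv.f (nat_lit 226)])))
(Tr.lf (Fc.ed (nat_lit 229) (nat_lit 68) Col.c (nat_lit 57) (Dv.wd (nat_lit 45) [Mv.b (nat_lit 202), Mv.b (nat_lit 205), Mv.f (nat_lit 226)]))))))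
(Tr.nd (nat_lit 233) (Tr.nd (nat_lit 231) (Tr.lf (Fc.ed (nat_lit 230) (nat_lit 35) Col.e (nat_lit 69) Dv.df))
(Tr.nd (nat_lit 232) (Tr.lf (Fc.ed (nat_lit 231) (nat_lit 69) Col.a (nat_lit 30) (Dv.wd (nat_lit 43) [Mv.b (nat_lit 112), Mv.b (nat_lit 147), Mv.f (nat_lit 230)])))
(Tr.lf (Fc.ed (nat_lit 232) (nat_lit 62) Col.i (nat_lit 70) Dv.df))))
(Tr.nd (nat_lit 235) (Tr.nd (nat_lit 234) (Tr.lf (Fc.ed (nat_lit 233) (nat_lit 34) Col.b (nat_lit 71) Dv.df))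
(Tr.lf (Fc.ed (nat_lit 234) (nat_lit 71) Col.h (nat_lit 32) (Dv.wd (nat_lit 26) [Mv.f (nat_lit 136), Mv.f (nat_lit 142), Mv.f (nat_lit 233)]))))
(Tr.nd (nat_lit 236) (Tr.lf (Fc.ed (nat_lit 235) (nat_lit 8) Col.f (nat_lit 72) Dv.df))
(Tr.lf (Fc.ed (nat_lit 236) (nat_lit 72) Col.a (nat_lit 72) (Dv.wd (nat_lit 80) [Mv.b (nat_lit 235), Mv.f (nat_lit 61), Mv.f (nat_lit 235)]))))))))
(Tr.nd (nat_lit 250) (Tr.nd (nat_lit 243) (Tr.nd (nat_lit 240) (Tr.nd (nat_lit 238) (Tr.lf (Fc.ed (nat_lit 237) (nat_lit 72) Col.b (nat_lit 72) (Dv.wd (nat_lit 92) [Mv.b (nat_lit 235), Mv.f (nat_lit 62), Mv.f (nat_lit 235)])))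
(Tr.nd (nat_lit 239) (Tr.lf (Fc.ed (nat_lit 238) (nat_lit 72) Col.c (nat_lit 36) (Dv.wd (nat_lit 76) [Mv.f (nat_lit 150), Mv.b (nat_lit 64), Mv.f (nat_lit 235)])))
(Tr.lf (Fc.ed (nat_lit 239) (nat_lit 72) Col.h (nat_lit 72) (Dv.wd (nat_lit 78) [Mv.b (nat_lit 235), Mv.f (nat_lit 63), Mv.f (nat_lit 235)])))))
(Tr.nd (nat_lit 241) (Tr.lf (Fc.ed (nat_lit 240) (nat_lit 40) Col.h (nat_lit 73) Dv.df))
(Tr.nd (nat_lit 242) (Tr.lf (Fc.ed (nat_lit 241) (nat_lit 73) Col.c (nat_lit 71) (Dv.wd (nat_lit 51) [Mv.f (nat_lit 234), Mv.f (nat_lit 158), Mv.f (nat_lit 240)])))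
(Tr.lf (Fc.ed (nat_lit 242) (nat_lit 73) Col.d (nat_lit 73) (Dv.wd (nat_lit 93) [Mv.b (nat_lit 240), Mv.b (nat_lit 161), Mv.f (nat_lit 162), Mv.f (nat_lit 161), Mv.f (nat_lit 240)]))))))
(Tr.nd (nat_lit 246) (Tr.nd (nat_lit 244) (Tr.lf (Fc.ed (nat_lit 243) (nat_lit 72) Col.d (nat_lit 74) Dv.df))
(Tr.nd (nat_lit 245) (Tr.lf (Fc.ed (nat_lit 244) (nat_lit 74) Col.f (nat_lit 7) (Dv.wd (nat_lit 39) [Mv.f (nat_lit 59), Mv.f (nat_lit 235), Mv.f (nat_lit 243)])))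
(Tr.lf (Fc.ed (nat_lit 245) (nat_lit 74) Col.e (nat_lit 74) (Dv.wd (nat_lit 94) [Mv.f (nat_lit 244), Mv.f (nat_lit 115), Mv.f (nat_lit 120), Mv.b (nat_lit 115), Mv.b (nat_lit 244)])))))
(Tr.nd (nat_lit 248) (Tr.nd (nat_lit 247) (Tr.lf (Fc.ed (nat_lit 246) (nat_lit 36) Col.e (nat_lit 75) Dv.df))
(Tr.lf (Fc.ed (nat_lit 247) (nat_lit 75) Col.a (nat_lit 75) (Dv.wd (nat_lit 43) [Mv.b (nat_lit 246), Mv.f (nat_lit 152), Mv.f (nat_lit 246)]))))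
(Tr.nd (nat_lit 249) (Tr.lf (Fc.ed (nat_lit 248) (nat_lit 75) Col.h (nat_lit 75) (Dv.wd (nat_lit 64) [Mv.b (nat_lit 246), Mv.f (nat_lit 151), Mv.f (nat_lit 246)])))
(Tr.lf (Fc.ed (nat_lit 249) (nat_lit 75) Col.f (nat_lit 75) (Dv.wd (nat_lit 95) [Mv.b (nat_lit 246), Mv.f (nat_lit 150), Mv.f (nat_lit 123), Mv.b (nat_lit 150), Mv.f (nat_lit 246)])))))))
(Tr.nd (nat_lit 257) (Tr.nd (nat_lit 253) (Tr.nd (nat_lit 251) (Tr.lf (Fc.ed (nat_lit 250) (nat_lit 64) Col.l (nat_lit 76) Dv.df))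
(Tr.nd (nat_lit 252) (Tr.lf (Fc.ed (nat_lit 251) (nat_lit 76) Col.i (nat_lit 66) (Dv.wd (nat_lit 96) [Mv.b (nat_lit 223), Mv.b (nat_lit 219), Mv.f (nat_lit 250)])))
(Tr.lf (Fc.ed (nat_lit 252) (nat_lit 72) Col.i (nat_lit 77) Dv.df))))
(Tr.nd (nat_lit 255) (Tr.nd (nat_lit 254) (Tr.lf (Fc.ed (nat_lit 253) (nat_lit 77) Col.c (nat_lit 39) (Dv.wd (nat_lit 57) [Mv.f (nat_lit 157), Mv.b (nat_lit 238), Mv.f (nat_lit 252)])))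
(Tr.lf (Fc.ed (nat_lit 254) (nat_lit 77) Col.f (nat_lit 40) (Dv.wd (nat_lit 97) [Mv.f (nat_lit 159), Mv.f (nat_lit 235), Mv.f (nat_lit 252)]))))
(Tr.nd (nat_lit 256) (Tr.lf (Fc.ed (nat_lit 255) (nat_lit 39) Col.e (nat_lit 78) Dv.df))
(Tr.lf (Fc.ed (nat_lit 256) (nat_lit 78) Col.i (nat_lit 75) (Dv.wd (nat_lit 46) [Mv.b (nat_lit 246), Mv.b (nat_lit 157), Mv.f (nat_lit 255)]))))))
(Tr.nd (nat_lit 260) (Tr.nd (nat_lit 258) (Tr.lf (Fc.ed (nat_lit 257) (nat_lit 37) Col.c (nat_lit 79) Dv.df))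
(Tr.nd (nat_lit 259) (Tr.lf (Fc.ed (nat_lit 258) (nat_lit 79) Col.h (nat_lit 43) (Dv.wd (nat_lit 33) [Mv.f (nat_lit 169), Mv.f (nat_lit 165), Mv.f (nat_lit 257)])))
(Tr.lf (Fc.ed (nat_lit 259) (nat_lit 7) Col.l (nat_lit 80) Dv.df))))
(Tr.nd (nat_lit 262) (Tr.nd (nat_lit 261) (Tr.lf (Fc.ed (nat_lit 260) (nat_lit 80) Col.e (nat_lit 62) (Dv.wd (nat_lit 98) [Mv.b (nat_lit 214), Mv.b (nat_lit 115), Mv.f (nat_lit 259)])))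
(Tr.lf (Fc.ed (nat_lit 261) (nat_lit 10) Col.l (nat_lit 81) Dv.df)))
(Tr.nd (nat_lit 263) (Tr.lf (Fc.ed (nat_lit 262) (nat_lit 81) Col.e (nat_lit 81) (Dv.wd (nat_lit 98) [Mv.b (nat_lit 261), Mv.f (nat_lit 124), Mv.f (nat_lit 261)])))
(Tr.lf (Fc.ed (nat_lit 263) (nat_lit 41) Col.f (nat_lit 82) Dv.df))))))))
(Tr.nd (nat_lit 290) (Tr.nd (nat_lit 277) (Tr.nd (nat_lit 270) (Tr.nd (nat_lit 267) (Tr.nd (nat_lit 265) (Tr.lf (Fc.ed (nat_lit 264) (nat_lit 82) Col.d (nat_lit 77) (Dv.wd (nat_lit 77) [Mv.f (nat_lit 254), Mv.b (nat_lit 161), Mv.f (nat_lit 263)])))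
(Tr.nd (nat_lit 266) (Tr.lf (Fc.ed (nat_lit 265) (nat_lit 82) Col.e (nat_lit 82) (Dv.wd (nat_lit 99) [Mv.b (nat_lit 263), Mv.f (nat_lit 192), Mv.f (nat_lit 194), Mv.b (nat_lit 192), Mv.f (nat_lit 263)])))
(Tr.lf (Fc.ed (nat_lit 266) (nat_lit 21) Col.l (nat_lit 83) Dv.df))))
(Tr.nd (nat_lit 268) (Tr.lf (Fc.ed (nat_lit 267) (nat_lit 83) Col.b (nat_lit 83) (Dv.wd (nat_lit 100) [Mv.b (nat_lit 266), Mv.f (nat_lit 133), Mv.f (nat_lit 266)])))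
(Tr.nd (nat_lit 269) (Tr.lf (Fc.ed (nat_lit 268) (nat_lit 83) Col.d (nat_lit 66) (Dv.wd (nat_lit 101) [Mv.b (nat_lit 223), Mv.b (nat_lit 102), Mv.f (nat_lit 266)])))
(Tr.lf (Fc.ed (nat_lit 269) (nat_lit 8) Col.l (nat_lit 84) Dv.df)))))
(Tr.nd (nat_lit 273) (Tr.nd (nat_lit 271) (Tr.lf (Fc.ed (nat_lit 270) (nat_lit 84) Col.a (nat_lit 84) (Dv.wd (nat_lit 102) [Mv.b (nat_lit 269), Mv.f (nat_lit 61), Mv.f (nat_lit 269)])))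
(Tr.nd (nat_lit 272) (Tr.lf (Fc.ed (nat_lit 271) (nat_lit 84) Col.b (nat_lit 84) (Dv.wd (nat_lit 100) [Mv.b (nat_lit 269), Mv.f (nat_lit 62), Mv.f (nat_lit 269)])))
(Tr.lf (Fc.ed (nat_lit 272) (nat_lit 84) Col.d (nat_lit 80) (Dv.wd (nat_lit 101) [Mv.b (nat_lit 259), Mv.f (nat_lit 59), Mv.f (nat_lit 269)])))))
(Tr.nd (nat_lit 275) (Tr.nd (nat_lit 274) (Tr.lf (Fc.ed (nat_lit 273) (nat_lit 51) Col.f (nat_lit 85) Dv.df))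
(Tr.lf (Fc.ed (nat_lit 274) (nat_lit 80) Col.i (nat_lit 86) Dv.df)))
(Tr.nd (nat_lit 276) (Tr.lf (Fc.ed (nat_lit 275) (nat_lit 86) Col.e (nat_lit 70) (Dv.wd (nat_lit 61) [Mv.b (nat_lit 232), Mv.b (nat_lit 260), Mv.f (nat_lit 274)])))
(Tr.lf (Fc.ed (nat_lit 276) (nat_lit 20) Col.l (nat_lit 87) Dv.df))))))
(Tr.nd (nat_lit 283) (Tr.nd (nat_lit 280) (Tr.nd (nat_lit 278) (Tr.lf (Fc.ed (nat_lit 277) (nat_lit 53) Col.d (nat_lit 88) Dv.df))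
(Tr.nd (nat_lit 279) (Tr.lf (Fc.ed (nat_lit 278) (nat_lit 88) Col.l (nat_lit 4) (Dv.wd (nat_lit 103) [Mv.f (nat_lit 40), Mv.f (nat_lit 189), Mv.f (nat_lit 277)])))
(Tr.lf (Fc.ed (nat_lit 279) (nat_lit 84) Col.i (nat_lit 89) Dv.df))))
(Tr.nd (nat_lit 281) (Tr.lf (Fc.ed (nat_lit 280) (nat_lit 89) Col.l (nat_lit 40) (Dv.wd (nat_lit 104) [Mv.f (nat_lit 159), Mv.f (nat_lit 269), Mv.f (nat_lit 279)])))
(Tr.nd (nat_lit 282) (Tr.lf (Fc.ed (nat_lit 281) (nat_lit 89) Col.a (nat_lit 89) (Dv.wd (nat_lit 63) [Mv.b (nat_lit 279), Mv.f (nat_lit 270), Mv.f (nat_lit 279)])))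
(Tr.lf (Fc.ed (nat_lit 282) (nat_lit 89) Col.b (nat_lit 89) (Dv.wd (nat_lit 56) [Mv.b (nat_lit 279), Mv.f (nat_lit 271), Mv.f (nat_lit 279)]))))))
(Tr.nd (nat_lit 286) (Tr.nd (nat_lit 284) (Tr.lf (Fc.ed (nat_lit 283) (nat_lit 89) Col.d (nat_lit 86) (Dv.wd (nat_lit 58) [Mv.b (nat_lit 274), Mv.b (nat_lit 272), Mv.f (nat_lit 279)])))
(Tr.nd (nat_lit 285) (Tr.lf (Fc.ed (nat_lit 284) (nat_lit 11) Col.l (nat_lit 90) Dv.df))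
(Tr.lf (Fc.ed (nat_lit 285) (nat_lit 89) Col.h (nat_lit 91) Dv.df))))
(Tr.nd (nat_lit 288) (Tr.nd (nat_lit 287) (Tr.lf (Fc.ed (nat_lit 286) (nat_lit 91) Col.l (nat_lit 73) (Dv.wd (nat_lit 105) [Mv.b (nat_lit 240), Mv.b (nat_lit 280), Mv.f (nat_lit 285)])))
(Tr.lf (Fc.ed (nat_lit 287) (nat_lit 91) Col.a (nat_lit 91) (Dv.wd (nat_lit 49) [Mv.b (nat_lit 285), Mv.f (nat_lit 281), Mv.f (nat_lit 285)]))))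
(Tr.nd (nat_lit 289) (Tr.lf (Fc.ed (nat_lit 288) (nat_lit 91) Col.b (nat_lit 91) (Dv.wd (nat_lit 50) [Mv.b (nat_lit 285), Mv.f (nat_lit 282), Mv.f (nat_lit 285)])))
(Tr.lf (Fc.ed (nat_lit 289) (nat_lit 12) Col.l (nat_lit 92) Dv.df)))))))
(Tr.nd (nat_lit 303) (Tr.nd (nat_lit 296) (Tr.nd (nat_lit 293) (Tr.nd (nat_lit 291) (Tr.lf (Fc.ed (nat_lit 290) (nat_lit 92) Col.d (nat_lit 92) (Dv.wd (nat_lit 101) [Mv.b (nat_lit 289), Mv.f (nat_lit 82), Mv.f (nat_lit 289)])))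
(Tr.nd (nat_lit 292) (Tr.lf (Fc.ed (nat_lit 291) (nat_lit 92) Col.i (nat_lit 90) (Dv.wd (nat_lit 96) [Mv.b (nat_lit 284), Mv.f (nat_lit 79), Mv.f (nat_lit 289)])))
(Tr.lf (Fc.ed (nat_lit 292) (nat_lit 13) Col.l (nat_lit 93) Dv.df))))
(Tr.nd (nat_lit 294) (Tr.lf (Fc.ed (nat_lit 293) (nat_lit 93) Col.e (nat_lit 93) (Dv.wd (nat_lit 98) [Mv.b (nat_lit 292), Mv.f (nat_lit 128), Mv.f (nat_lit 292)])))
(Tr.nd (nat_lit 295) (Tr.lf (Fc.ed (nat_lit 294) (nat_lit 93) Col.h (nat_lit 92) (Dv.wd (nat_lit 91) [Mv.b (nat_lit 289), Mv.f (nat_lit 83), Mv.f (nat_lit 292)])))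
(Tr.lf (Fc.ed (nat_lit 295) (nat_lit 6) Col.f (nat_lit 94) Dv.df)))))
(Tr.nd (nat_lit 299) (Tr.nd (nat_lit 297) (Tr.lf (Fc.ed (nat_lit 296) (nat_lit 94) Col.a (nat_lit 94) (Dv.wd (nat_lit 80) [Mv.b (nat_lit 295), Mv.f (nat_lit 49), Mv.f (nat_lit 295)])))
(Tr.nd (nat_lit 298) (Tr.lf (Fc.ed (nat_lit 297) (nat_lit 94) Col.b (nat_lit 94) (Dv.wd (nat_lit 92) [Mv.b (nat_lit 295), Mv.f (nat_lit 50), Mv.f (nat_lit 295)])))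
(Tr.lf (Fc.ed (nat_lit 298) (nat_lit 94) Col.c (nat_lit 94) (Dv.wd (nat_lit 76) [Mv.b (nat_lit 295), Mv.f (nat_lit 51), Mv.f (nat_lit 295)])))))
(Tr.nd (nat_lit 301) (Tr.nd (nat_lit 300) (Tr.lf (Fc.ed (nat_lit 299) (nat_lit 94) Col.d (nat_lit 94) (Dv.wd (nat_lit 77) [Mv.b (nat_lit 295), Mv.f (nat_lit 53), Mv.f (nat_lit 295)])))
(Tr.lf (Fc.ed (nat_lit 300) (nat_lit 94) Col.h (nat_lit 74) (Dv.wd (nat_lit 78) [Mv.f (nat_lit 244), Mv.b (nat_lit 54), Mv.f (nat_lit 295)]))))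
(Tr.nd (nat_lit 302) (Tr.lf (Fc.ed (nat_lit 301) (nat_lit 94) Col.e (nat_lit 94) (Dv.wd (nat_lit 99) [Mv.b (nat_lit 295), Mv.b (nat_lit 47), Mv.f (nat_lit 44), Mv.f (nat_lit 47), Mv.f (nat_lit 295)])))
(Tr.lf (Fc.ed (nat_lit 302) (nat_lit 83) Col.i (nat_lit 95) Dv.df))))))
(Tr.nd (nat_lit 310) (Tr.nd (nat_lit 306) (Tr.nd (nat_lit 304) (Tr.lf (Fc.ed (nat_lit 303) (nat_lit 95) Col.l (nat_lit 43) (Dv.wd (nat_lit 104) [Mv.b (nat_lit 167), Mv.f (nat_lit 266), Mv.f (nat_lit 302)])))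
(Tr.nd (nat_lit 305) (Tr.lf (Fc.ed (nat_lit 304) (nat_lit 95) Col.b (nat_lit 95) (Dv.wd (nat_lit 56) [Mv.b (nat_lit 302), Mv.f (nat_lit 267), Mv.f (nat_lit 302)])))
(Tr.lf (Fc.ed (nat_lit 305) (nat_lit 95) Col.d (nat_lit 76) (Dv.wd (nat_lit 58) [Mv.f (nat_lit 251), Mv.b (nat_lit 268), Mv.f (nat_lit 302)])))))
(Tr.nd (nat_lit 308) (Tr.nd (nat_lit 307) (Tr.lf (Fc.ed (nat_lit 306) (nat_lit 33) Col.e (nat_lit 96) Dv.df))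
(Tr.lf (Fc.ed (nat_lit 307) (nat_lit 96) Col.k (nat_lit 96) (Dv.wd (nat_lit 42) [Mv.b (nat_lit 306), Mv.f (nat_lit 138), Mv.f (nat_lit 306)]))))
(Tr.nd (nat_lit 309) (Tr.lf (Fc.ed (nat_lit 308) (nat_lit 96) Col.b (nat_lit 75) (Dv.wd (nat_lit 44) [Mv.b (nat_lit 246), Mv.b (nat_lit 148), Mv.f (nat_lit 306)])))
(Tr.lf (Fc.ed (nat_lit 309) (nat_lit 65) Col.l (nat_lit 97) Dv.df)))))
(Tr.nd (nat_lit 313) (Tr.nd (nat_lit 311) (Tr.lf (Fc.ed (nat_lit 310) (nat_lit 93) Col.d (nat_lit 98) Dv.df))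
(Tr.nd (nat_lit 312) (Tr.lf (Fc.ed (nat_lit 311) (nat_lit 98) Col.l (nat_lit 14) (Dv.wd (nat_lit 103) [Mv.b (nat_lit 86), Mv.f (nat_lit 292), Mv.f (nat_lit 310)])))
(Tr.lf (Fc.ed (nat_lit 312) (nat_lit 98) Col.h (nat_lit 98) (Dv.wd (nat_lit 52) [Mv.b (nat_lit 310), Mv.f (nat_lit 294), Mv.f (nat_lit 290), Mv.b (nat_lit 294), Mv.f (nat_lit 310)])))))
(Tr.nd (nat_lit 315) (Tr.nd (nat_lit 314) (Tr.lf (Fc.ed (nat_lit 313) (nat_lit 71) Col.l (nat_lit 99) Dv.df))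
(Tr.lf (Fc.ed (nat_lit 314) (nat_lit 99) Col.c (nat_lit 91) (Dv.wd (nat_lit 106) [Mv.f (nat_lit 286), Mv.f (nat_lit 241), Mv.f (nat_lit 313)]))))
(Tr.nd (nat_lit 316) (Tr.lf (Fc.ed (nat_lit 315) (nat_lit 98) Col.a (nat_lit 100) Dv.df))
(Tr.lf (Fc.ed (nat_lit 316) (nat_lit 100) Col.l (nat_lit 35) (Dv.wd (nat_lit 107) [Mv.f (nat_lit 147), Mv.b (nat_lit 311), Mv.f (nat_lit 315)]))))))))))
(Tr.nd (nat_lit 370) (Tr.nd (nat_lit 343) (Tr.nd (nat_lit 330) (Tr.nd (nat_lit 323) (Tr.nd (nat_lit 320) (Tr.nd (nat_lit 318) (Tr.lf (Fc.ed (nat_lit 317) (nat_lit 100) Col.h (nat_lit 100) (Dv.wd (nat_lit 19) [Mv.b (nat_lit 315), Mv.f (nat_lit 312), Mv.f (nat_lit 315)])))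
(Tr.nd (nat_lit 319) (Tr.lf (Fc.ed (nat_lit 318) (nat_lit 36) Col.l (nat_lit 101) Dv.df))
(Tr.lf (Fc.ed (nat_lit 319) (nat_lit 35) Col.b (nat_lit 102) Dv.df))))
(Tr.nd (nat_lit 321) (Tr.lf (Fc.ed (nat_lit 320) (nat_lit 102) Col.d (nat_lit 71) (Dv.wd (nat_lit 23) [Mv.b (nat_lit 233), Mv.f (nat_lit 145), Mv.f (nat_lit 319)])))
(Tr.nd (nat_lit 322) (Tr.lf (Fc.ed (nat_lit 321) (nat_lit 102) Col.c (nat_lit 102) (Dv.wd (nat_lit 108) [Mv.f (nat_lit 320), Mv.b (nat_lit 241), Mv.f (nat_lit 242), Mv.f (nat_lit 241), Mv.b (nat_lit 320)])))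
(Tr.lf (Fc.ed (nat_lit 322) (nat_lit 95) Col.h (nat_lit 103) Dv.df)))))
(Tr.nd (nat_lit 326) (Tr.nd (nat_lit 324) (Tr.lf (Fc.ed (nat_lit 323) (nat_lit 103) Col.b (nat_lit 103) (Dv.wd (nat_lit 50) [Mv.b (nat_lit 322), Mv.f (nat_lit 304), Mv.f (nat_lit 322)])))
(Tr.nd (nat_lit 325) (Tr.lf (Fc.ed (nat_lit 324) (nat_lit 33) Col.l (nat_lit 104) Dv.df))
(Tr.lf (Fc.ed (nat_lit 325) (nat_lit 104) Col.b (nat_lit 101) (Dv.wd (nat_lit 100) [Mv.b (nat_lit 318), Mv.b (nat_lit 148), Mv.f (nat_lit 324)])))))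
(Tr.nd (nat_lit 328) (Tr.nd (nat_lit 327) (Tr.lf (Fc.ed (nat_lit 326) (nat_lit 104) Col.c (nat_lit 104) (Dv.wd (nat_lit 106) [Mv.b (nat_lit 324), Mv.f (nat_lit 139), Mv.f (nat_lit 324)])))
(Tr.lf (Fc.ed (nat_lit 327) (nat_lit 104) Col.d (nat_lit 104) (Dv.wd (nat_lit 101) [Mv.b (nat_lit 324), Mv.f (nat_lit 140), Mv.f (nat_lit 324)]))))
(Tr.nd (nat_lit 329) (Tr.lf (Fc.ed (nat_lit 328) (nat_lit 104) Col.f (nat_lit 81) (Dv.wd (nat_lit 109) [Mv.b (nat_lit 261), Mv.f (nat_lit 137), Mv.f (nat_lit 324)])))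
(Tr.lf (Fc.ed (nat_lit 329) (nat_lit 42) Col.l (nat_lit 105) Dv.df))))))
(Tr.nd (nat_lit 336) (Tr.nd (nat_lit 333) (Tr.nd (nat_lit 331) (Tr.lf (Fc.ed (nat_lit 330) (nat_lit 105) Col.c (nat_lit 95) (Dv.wd (nat_lit 106) [Mv.f (nat_lit 303), Mv.f (nat_lit 169), Mv.f (nat_lit 329)])))
(Tr.nd (nat_lit 332) (Tr.lf (Fc.ed (nat_lit 331) (nat_lit 105) Col.e (nat_lit 105) (Dv.wd (nat_lit 98) [Mv.b (nat_lit 329), Mv.f (nat_lit 164), Mv.f (nat_lit 329)])))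
(Tr.lf (Fc.ed (nat_lit 332) (nat_lit 105) Col.i (nat_lit 87) (Dv.wd (nat_lit 96) [Mv.b (nat_lit 276), Mv.b (nat_lit 166), Mv.f (nat_lit 329)])))))
(Tr.nd (nat_lit 334) (Tr.lf (Fc.ed (nat_lit 333) (nat_lit 96) Col.i (nat_lit 106) Dv.df))
(Tr.nd (nat_lit 335) (Tr.lf (Fc.ed (nat_lit 334) (nat_lit 106) Col.e (nat_lit 65) (Dv.wd (nat_lit 61) [Mv.f (nat_lit 222), Mv.f (nat_lit 306), Mv.f (nat_lit 333)])))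
(Tr.lf (Fc.ed (nat_lit 335) (nat_lit 39) Col.l (nat_lit 107) Dv.df)))))
(Tr.nd (nat_lit 339) (Tr.nd (nat_lit 337) (Tr.lf (Fc.ed (nat_lit 336) (nat_lit 107) Col.a (nat_lit 107) (Dv.wd (nat_lit 102) [Mv.b (nat_lit 335), Mv.f (nat_lit 156), Mv.f (nat_lit 335)])))
(Tr.nd (nat_lit 338) (Tr.lf (Fc.ed (nat_lit 337) (nat_lit 107) Col.b (nat_lit 97) (Dv.wd (nat_lit 100) [Mv.b (nat_lit 309), Mv.f (nat_lit 221), Mv.f (nat_lit 335)])))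
(Tr.lf (Fc.ed (nat_lit 338) (nat_lit 107) Col.i (nat_lit 101) (Dv.wd (nat_lit 96) [Mv.b (nat_lit 318), Mv.b (nat_lit 157), Mv.f (nat_lit 335)])))))
(Tr.nd (nat_lit 341) (Tr.nd (nat_lit 340) (Tr.lf (Fc.ed (nat_lit 339) (nat_lit 96) Col.a (nat_lit 108) Dv.df))
(Tr.lf (Fc.ed (nat_lit 340) (nat_lit 108) Col.e (nat_lit 50) (Dv.wd (nat_lit 17) [Mv.f (nat_lit 184), Mv.f (nat_lit 306), Mv.f (nat_lit 339)]))))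
(Tr.nd (nat_lit 342) (Tr.lf (Fc.ed (nat_lit 341) (nat_lit 108) Col.b (nat_lit 108) (Dv.wd (nat_lit 55) [Mv.b (nat_lit 339), Mv.f (nat_lit 308), Mv.f (nat_lit 247), Mv.b (nat_lit 308), Mv.f (nat_lit 339)])))
(Tr.lf (Fc.ed (nat_lit 342) (nat_lit 98) Col.f (nat_lit 109) Dv.df)))))))
(Tr.nd (nat_lit 356) (Tr.nd (nat_lit 349) (Tr.nd (nat_lit 346) (Tr.nd (nat_lit 344) (Tr.lf (Fc.ed (nat_lit 343) (nat_lit 109) Col.l (nat_lit 47) (Dv.wd (nat_lit 110) [Mv.f (nat_lit 177), Mv.b (nat_lit 311), Mv.f (nat_lit 342)])))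
(Tr.nd (nat_lit 345) (Tr.lf (Fc.ed (nat_lit 344) (nat_lit 61) Col.l (nat_lit 110) Dv.df))
(Tr.lf (Fc.ed (nat_lit 345) (nat_lit 110) Col.d (nat_lit 109) (Dv.wd (nat_lit 101) [Mv.f (nat_lit 343), Mv.f (nat_lit 213), Mv.f (nat_lit 344)])))))
(Tr.nd (nat_lit 347) (Tr.lf (Fc.ed (nat_lit 346) (nat_lit 110) Col.f (nat_lit 93) (Dv.wd (nat_lit 109) [Mv.b (nat_lit 292), Mv.b (nat_lit 212), Mv.f (nat_lit 344)])))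
(Tr.nd (nat_lit 348) (Tr.lf (Fc.ed (nat_lit 347) (nat_lit 48) Col.a (nat_lit 111) Dv.df))
(Tr.lf (Fc.ed (nat_lit 348) (nat_lit 111) Col.b (nat_lit 111) (Dv.wd (nat_lit 55) [Mv.b (nat_lit 347), Mv.b (nat_lit 182), Mv.f (nat_lit 210), Mv.f (nat_lit 182), Mv.f (nat_lit 347)]))))))
(Tr.nd (nat_lit 352) (Tr.nd (nat_lit 350) (Tr.lf (Fc.ed (nat_lit 349) (nat_lit 92) Col.f (nat_lit 112) Dv.df))
(Tr.nd (nat_lit 351) (Tr.lf (Fc.ed (nat_lit 350) (nat_lit 112) Col.l (nat_lit 58) (Dv.wd (nat_lit 110) [Mv.b (nat_lit 199), Mv.f (nat_lit 289), Mv.f (nat_lit 349)])))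
(Tr.lf (Fc.ed (nat_lit 351) (nat_lit 112) Col.h (nat_lit 110) (Dv.wd (nat_lit 78) [Mv.f (nat_lit 346), Mv.f (nat_lit 294), Mv.f (nat_lit 349)])))))
(Tr.nd (nat_lit 354) (Tr.nd (nat_lit 353) (Tr.lf (Fc.ed (nat_lit 352) (nat_lit 69) Col.b (nat_lit 113) Dv.df))
(Tr.lf (Fc.ed (nat_lit 353) (nat_lit 113) Col.e (nat_lit 102) (Dv.wd (nat_lit 24) [Mv.b (nat_lit 319), Mv.f (nat_lit 230), Mv.f (nat_lit 352)]))))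
(Tr.nd (nat_lit 355) (Tr.lf (Fc.ed (nat_lit 354) (nat_lit 113) Col.c (nat_lit 113) (Dv.wd (nat_lit 111) [Mv.f (nat_lit 353), Mv.f (nat_lit 321), Mv.b (nat_lit 353)])))
(Tr.lf (Fc.ed (nat_lit 355) (nat_lit 18) Col.l (nat_lit 114) Dv.df))))))
(Tr.nd (nat_lit 363) (Tr.nd (nat_lit 359) (Tr.nd (nat_lit 357) (Tr.lf (Fc.ed (nat_lit 356) (nat_lit 114) Col.b (nat_lit 105) (Dv.wd (nat_lit 100) [Mv.b (nat_lit 329), Mv.b (nat_lit 163), Mv.f (nat_lit 355)])))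
(Tr.nd (nat_lit 358) (Tr.lf (Fc.ed (nat_lit 357) (nat_lit 49) Col.f (nat_lit 115) Dv.df))
(Tr.lf (Fc.ed (nat_lit 358) (nat_lit 112) Col.i (nat_lit 116) Dv.df))))
(Tr.nd (nat_lit 361) (Tr.nd (nat_lit 360) (Tr.lf (Fc.ed (nat_lit 359) (nat_lit 116) Col.l (nat_lit 50) (Dv.wd (nat_lit 104) [Mv.b (nat_lit 200), Mv.b (nat_lit 350), Mv.f (nat_lit 358)])))
(Tr.lf (Fc.ed (nat_lit 360) (nat_lit 116) Col.f (nat_lit 90) (Dv.wd (nat_lit 97) [Mv.b (nat_lit 291), Mv.f (nat_lit 349), Mv.f (nat_lit 358)]))))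
(Tr.nd (nat_lit 362) (Tr.lf (Fc.ed (nat_lit 361) (nat_lit 77) Col.e (nat_lit 117) Dv.df))
(Tr.lf (Fc.ed (nat_lit 362) (nat_lit 117) Col.c (nat_lit 78) (Dv.wd (nat_lit 45) [Mv.b (nat_lit 255), Mv.b (nat_lit 253), Mv.f (nat_lit 361)]))))))
(Tr.nd (nat_lit 366) (Tr.nd (nat_lit 364) (Tr.lf (Fc.ed (nat_lit 363) (nat_lit 117) Col.d (nat_lit 117) (Dv.wd (nat_lit 47) [Mv.b (nat_lit 361), Mv.b (nat_lit 264), Mv.f (nat_lit 265), Mv.f (nat_lit 264), Mv.f (nat_lit 361)])))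
(Tr.nd (nat_lit 365) (Tr.lf (Fc.ed (nat_lit 364) (nat_lit 104) Col.e (nat_lit 118) Dv.df))
(Tr.lf (Fc.ed (nat_lit 365) (nat_lit 118) Col.l (nat_lit 96) (Dv.wd (nat_lit 112) [Mv.b (nat_lit 306), Mv.f (nat_lit 324), Mv.f (nat_lit 364)])))))
(Tr.nd (nat_lit 368) (Tr.nd (nat_lit 367) (Tr.lf (Fc.ed (nat_lit 366) (nat_lit 118) Col.c (nat_lit 118) (Dv.wd (nat_lit 45) [Mv.b (nat_lit 364), Mv.f (nat_lit 326), Mv.f (nat_lit 364)])))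
(Tr.lf (Fc.ed (nat_lit 367) (nat_lit 118) Col.f (nat_lit 118) (Dv.wd (nat_lit 95) [Mv.b (nat_lit 364), Mv.f (nat_lit 328), Mv.f (nat_lit 262), Mv.b (nat_lit 328), Mv.f (nat_lit 364)]))))
(Tr.nd (nat_lit 369) (Tr.lf (Fc.ed (nat_lit 368) (nat_lit 100) Col.e (nat_lit 119) Dv.df))
(Tr.lf (Fc.ed (nat_lit 369) (nat_lit 119) Col.l (nat_lit 69) (Dv.wd (nat_lit 112) [Mv.b (nat_lit 230), Mv.b (nat_lit 316), Mv.f (nat_lit 368)])))))))))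
(Tr.nd (nat_lit 396) (Tr.nd (nat_lit 383) (Tr.nd (nat_lit 376) (Tr.nd (nat_lit 373) (Tr.nd (nat_lit 371) (Tr.lf (Fc.ed (nat_lit 370) (nat_lit 119) Col.h (nat_lit 119) (Dv.wd (nat_lit 64) [Mv.b (nat_lit 368), Mv.f (nat_lit 317), Mv.f (nat_lit 368)])))
(Tr.nd (nat_lit 372) (Tr.lf (Fc.ed (nat_lit 371) (nat_lit 102) Col.l (nat_lit 120) Dv.df))
(Tr.lf (Fc.ed (nat_lit 372) (nat_lit 120) Col.d (nat_lit 99) (Dv.wd (nat_lit 101) [Mv.b (nat_lit 313), Mv.b (nat_lit 320), Mv.f (nat_lit 371)])))))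
(Tr.nd (nat_lit 374) (Tr.lf (Fc.ed (nat_lit 373) (nat_lit 69) Col.c (nat_lit 121) Dv.df))
(Tr.nd (nat_lit 375) (Tr.lf (Fc.ed (nat_lit 374) (nat_lit 121) Col.a (nat_lit 16) (Dv.wd (nat_lit 30) [Mv.b (nat_lit 113), Mv.b (nat_lit 231), Mv.f (nat_lit 373)])))
(Tr.lf (Fc.ed (nat_lit 375) (nat_lit 121) Col.b (nat_lit 121) (Dv.wd (nat_lit 35) [Mv.b (nat_lit 373), Mv.f (nat_lit 352), Mv.f (nat_lit 354), Mv.b (nat_lit 352), Mv.f (nat_lit 373)]))))))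
(Tr.nd (nat_lit 379) (Tr.nd (nat_lit 377) (Tr.lf (Fc.ed (nat_lit 376) (nat_lit 44) Col.a (nat_lit 44) (Dv.wd (nat_lit 113) [Mv.b (nat_lit 171), Mv.b (nat_lit 374), Mv.f (nat_lit 375), Mv.f (nat_lit 374), Mv.f (nat_lit 171)])))
(Tr.nd (nat_lit 378) (Tr.lf (Fc.ed (nat_lit 377) (nat_lit 37) Col.a (nat_lit 37) (Dv.wd (nat_lit 87) [Mv.b (nat_lit 172), Mv.f (nat_lit 376), Mv.f (nat_lit 172)])))
(Tr.lf (Fc.ed (nat_lit 378) (nat_lit 42) Col.a (nat_lit 42) (Dv.wd (nat_lit 88) [Mv.f (nat_lit 165), Mv.f (nat_lit 377), Mv.b (nat_lit 165)])))))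
(Tr.nd (nat_lit 381) (Tr.nd (nat_lit 380) (Tr.lf (Fc.ed (nat_lit 379) (nat_lit 43) Col.a (nat_lit 43) (Dv.wd (nat_lit 85) [Mv.f (nat_lit 169), Mv.f (nat_lit 378), Mv.b (nat_lit 169)])))
(Tr.lf (Fc.ed (nat_lit 380) (nat_lit 20) Col.a (nat_lit 20) (Dv.wd (nat_lit 114) [Mv.b (nat_lit 166), Mv.f (nat_lit 378), Mv.f (nat_lit 166)]))))
(Tr.nd (nat_lit 382) (Tr.lf (Fc.ed (nat_lit 381) (nat_lit 21) Col.a (nat_lit 21) (Dv.wd (nat_lit 85) [Mv.b (nat_lit 100), Mv.f (nat_lit 380), Mv.f (nat_lit 100)])))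
(Tr.lf (Fc.ed (nat_lit 382) (nat_lit 22) Col.a (nat_lit 22) (Dv.wd (nat_lit 87) [Mv.b (nat_lit 102), Mv.f (nat_lit 381), Mv.f (nat_lit 102)])))))))
(Tr.nd (nat_lit 389) (Tr.nd (nat_lit 386) (Tr.nd (nat_lit 384) (Tr.lf (Fc.ed (nat_lit 383) (nat_lit 64) Col.a (nat_lit 64) (Dv.wd (nat_lit 114) [Mv.f (nat_lit 219), Mv.f (nat_lit 382), Mv.b (nat_lit 219)])))
(Tr.nd (nat_lit 385) (Tr.lf (Fc.ed (nat_lit 384) (nat_lit 76) Col.a (nat_lit 76) (Dv.wd (nat_lit 102) [Mv.b (nat_lit 250), Mv.f (nat_lit 383), Mv.f (nat_lit 250)])))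
(Tr.lf (Fc.ed (nat_lit 385) (nat_lit 95) Col.a (nat_lit 95) (Dv.wd (nat_lit 87) [Mv.f (nat_lit 305), Mv.f (nat_lit 384), Mv.b (nat_lit 305)])))))
(Tr.nd (nat_lit 387) (Tr.lf (Fc.ed (nat_lit 386) (nat_lit 103) Col.a (nat_lit 103) (Dv.wd (nat_lit 88) [Mv.b (nat_lit 322), Mv.f (nat_lit 385), Mv.f (nat_lit 322)])))
(Tr.nd (nat_lit 388) (Tr.lf (Fc.ed (nat_lit 387) (nat_lit 108) Col.k (nat_lit 122) Dv.df))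
(Tr.lf (Fc.ed (nat_lit 388) (nat_lit 122) Col.e (nat_lit 52) (Dv.wd (nat_lit 11) [Mv.b (nat_lit 188), Mv.b (nat_lit 340), Mv.f (nat_lit 387)]))))))
(Tr.nd (nat_lit 392) (Tr.nd (nat_lit 390) (Tr.lf (Fc.ed (nat_lit 389) (nat_lit 122) Col.a (nat_lit 122) (Dv.wd (nat_lit 84) [Mv.b (nat_lit 387), Mv.b (nat_lit 339), Mv.f (nat_lit 307), Mv.f (nat_lit 339), Mv.f (nat_lit 387)])))
(Tr.nd (nat_lit 391) (Tr.lf (Fc.ed (nat_lit 390) (nat_lit 30) Col.l (nat_lit 123) Dv.df))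
(Tr.lf (Fc.ed (nat_lit 391) (nat_lit 123) Col.a (nat_lit 119) (Dv.wd (nat_lit 102) [Mv.f (nat_lit 369), Mv.f (nat_lit 231), Mv.f (nat_lit 390)])))))
(Tr.nd (nat_lit 394) (Tr.nd (nat_lit 393) (Tr.lf (Fc.ed (nat_lit 392) (nat_lit 123) Col.h (nat_lit 123) (Dv.wd (nat_lit 91) [Mv.b (nat_lit 390), Mv.f (nat_lit 114), Mv.f (nat_lit 390)])))
(Tr.lf (Fc.ed (nat_lit 393) (nat_lit 17) Col.a (nat_lit 124) Dv.df)))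
(Tr.nd (nat_lit 395) (Tr.lf (Fc.ed (nat_lit 394) (nat_lit 67) Col.i (nat_lit 125) Dv.df))
(Tr.lf (Fc.ed (nat_lit 395) (nat_lit 125) Col.e (nat_lit 64) (Dv.wd (nat_lit 61) [Mv.f (nat_lit 219), Mv.f (nat_lit 224), Mv.f (nat_lit 394)]))))))))
(Tr.nd (nat_lit 409) (Tr.nd (nat_lit 402) (Tr.nd (nat_lit 399) (Tr.nd (nat_lit 397) (Tr.lf (Fc.ed (nat_lit 396) (nat_lit 123) Col.c (nat_lit 126) Dv.df))
(Tr.nd (nat_lit 398) (Tr.lf (Fc.ed (nat_lit 397) (nat_lit 126) Col.l (nat_lit 16) (Dv.wd (nat_lit 115) [Mv.b (nat_lit 113), Mv.f (nat_lit 390), Mv.f (nat_lit 396)])))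
(Tr.lf (Fc.ed (nat_lit 398) (nat_lit 126) Col.h (nat_lit 126) (Dv.wd (nat_lit 33) [Mv.b (nat_lit 396), Mv.f (nat_lit 392), Mv.f (nat_lit 396)])))))
(Tr.nd (nat_lit 400) (Tr.lf (Fc.ed (nat_lit 399) (nat_lit 116) Col.e (nat_lit 127) Dv.df))
(Tr.nd (nat_lit 401) (Tr.lf (Fc.ed (nat_lit 400) (nat_lit 127) Col.l (nat_lit 108) (Dv.wd (nat_lit 112) [Mv.f (nat_lit 340), Mv.b (nat_lit 359), Mv.f (nat_lit 399)])))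
(Tr.lf (Fc.ed (nat_lit 401) (nat_lit 126) Col.b (nat_lit 128) Dv.df)))))
(Tr.nd (nat_lit 405) (Tr.nd (nat_lit 403) (Tr.lf (Fc.ed (nat_lit 402) (nat_lit 128) Col.l (nat_lit 44) (Dv.wd (nat_lit 116) [Mv.b (nat_lit 171), Mv.b (nat_lit 397), Mv.f (nat_lit 401)])))
(Tr.nd (nat_lit 404) (Tr.lf (Fc.ed (nat_lit 403) (nat_lit 128) Col.h (nat_lit 128) (Dv.wd (nat_lit 26) [Mv.b (nat_lit 401), Mv.f (nat_lit 398), Mv.f (nat_lit 401)])))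
(Tr.lf (Fc.ed (nat_lit 404) (nat_lit 128) Col.a (nat_lit 128) (Dv.wd (nat_lit 117) [Mv.f (nat_lit 402), Mv.f (nat_lit 376), Mv.b (nat_lit 402)])))))
(Tr.nd (nat_lit 407) (Tr.nd (nat_lit 406) (Tr.lf (Fc.ed (nat_lit 405) (nat_lit 105) Col.h (nat_lit 129) Dv.df))
(Tr.lf (Fc.ed (nat_lit 406) (nat_lit 129) Col.l (nat_lit 37) (Dv.wd (nat_lit 105) [Mv.b (nat_lit 165), Mv.f (nat_lit 329), Mv.f (nat_lit 405)]))))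
(Tr.nd (nat_lit 408) (Tr.lf (Fc.ed (nat_lit 407) (nat_lit 129) Col.c (nat_lit 103) (Dv.wd (nat_lit 51) [Mv.b (nat_lit 322), Mv.b (nat_lit 330), Mv.f (nat_lit 405)])))
(Tr.lf (Fc.ed (nat_lit 408) (nat_lit 129) Col.e (nat_lit 129) (Dv.wd (nat_lit 60) [Mv.b (nat_lit 405), Mv.f (nat_lit 331), Mv.f (nat_lit 405)])))))))
(Tr.nd (nat_lit 416) (Tr.nd (nat_lit 412) (Tr.nd (nat_lit 410) (Tr.lf (Fc.ed (nat_lit 409) (nat_lit 128) Col.d (nat_lit 129) (Dv.wd (nat_lit 118) [Mv.f (nat_lit 406), Mv.b (nat_lit 172), Mv.b (nat_lit 402)])))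
(Tr.nd (nat_lit 411) (Tr.lf (Fc.ed (nat_lit 410) (nat_lit 77) Col.l (nat_lit 130) Dv.df))
(Tr.lf (Fc.ed (nat_lit 411) (nat_lit 130) Col.f (nat_lit 89) (Dv.wd (nat_lit 109) [Mv.f (nat_lit 280), Mv.b (nat_lit 254), Mv.f (nat_lit 410)])))))
(Tr.nd (nat_lit 414) (Tr.nd (nat_lit 413) (Tr.lf (Fc.ed (nat_lit 412) (nat_lit 107) Col.e (nat_lit 131) Dv.df))
(Tr.lf (Fc.ed (nat_lit 413) (nat_lit 131) Col.l (nat_lit 78) (Dv.wd (nat_lit 112) [Mv.b (nat_lit 255), Mv.f (nat_lit 335), Mv.f (nat_lit 412)]))))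
(Tr.nd (nat_lit 415) (Tr.lf (Fc.ed (nat_lit 414) (nat_lit 131) Col.a (nat_lit 131) (Dv.wd (nat_lit 43) [Mv.b (nat_lit 412), Mv.f (nat_lit 336), Mv.f (nat_lit 412)])))
(Tr.lf (Fc.ed (nat_lit 415) (nat_lit 126) Col.a (nat_lit 132) Dv.df)))))
(Tr.nd (nat_lit 419) (Tr.nd (nat_lit 417) (Tr.lf (Fc.ed (nat_lit 416) (nat_lit 132) Col.c (nat_lit 119) (Dv.wd (nat_lit 15) [Mv.b (nat_lit 391), Mv.f (nat_lit 396), Mv.f (nat_lit 415)])))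
(Tr.nd (nat_lit 418) (Tr.lf (Fc.ed (nat_lit 417) (nat_lit 45) Col.f (nat_lit 133) Dv.df))
(Tr.lf (Fc.ed (nat_lit 418) (nat_lit 108) Col.i (nat_lit 134) Dv.df))))
(Tr.nd (nat_lit 421) (Tr.nd (nat_lit 420) (Tr.lf (Fc.ed (nat_lit 419) (nat_lit 134) Col.a (nat_lit 106) (Dv.wd (nat_lit 63) [Mv.b (nat_lit 333), Mv.f (nat_lit 339), Mv.f (nat_lit 418)])))
(Tr.lf (Fc.ed (nat_lit 420) (nat_lit 134) Col.b (nat_lit 134) (Dv.wd (nat_lit 56) [Mv.b (nat_lit 418), Mv.f (nat_lit 341), Mv.f (nat_lit 418)]))))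
(Tr.nd (nat_lit 422) (Tr.lf (Fc.ed (nat_lit 421) (nat_lit 134) Col.e (nat_lit 58) (Dv.wd (nat_lit 61) [Mv.f (nat_lit 200), Mv.b (nat_lit 340), Mv.f (nat_lit 418)])))
(Tr.lf (Fc.ed (nat_lit 422) (nat_lit 88) Col.c (nat_lit 135) Dv.df)))))))))))
(Tr.nd (nat_lit 634) (Tr.nd (nat_lit 528) (Tr.nd (nat_lit 475) (Tr.nd (nat_lit 449) (Tr.nd (nat_lit 436) (Tr.nd (nat_lit 429) (Tr.nd (nat_lit 426) (Tr.nd (nat_lit 424) (Tr.lf (Fc.ed (nat_lit 423) (nat_lit 135) Col.l (nat_lit 3) (Dv.wd (nat_lit 115) [Mv.f (nat_lit 32), Mv.b (nat_lit 278), Mv.f (nat_lit 422)])))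
(Tr.nd (nat_lit 425) (Tr.lf (Fc.ed (nat_lit 424) (nat_lit 129) Col.b (nat_lit 136) Dv.df))
(Tr.lf (Fc.ed (nat_lit 425) (nat_lit 136) Col.d (nat_lit 126) (Dv.wd (nat_lit 23) [Mv.f (nat_lit 401), Mv.f (nat_lit 409), Mv.f (nat_lit 424)])))))
(Tr.nd (nat_lit 427) (Tr.lf (Fc.ed (nat_lit 426) (nat_lit 136) Col.e (nat_lit 136) (Dv.wd (nat_lit 24) [Mv.b (nat_lit 424), Mv.f (nat_lit 408), Mv.f (nat_lit 424)])))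
(Tr.nd (nat_lit 428) (Tr.lf (Fc.ed (nat_lit 427) (nat_lit 136) Col.h (nat_lit 114) (Dv.wd (nat_lit 26) [Mv.f (nat_lit 356), Mv.f (nat_lit 405), Mv.f (nat_lit 424)])))
(Tr.lf (Fc.ed (nat_lit 428) (nat_lit 63) Col.e (nat_lit 137) Dv.df)))))
(Tr.nd (nat_lit 432) (Tr.nd (nat_lit 430) (Tr.lf (Fc.ed (nat_lit 429) (nat_lit 137) Col.k (nat_lit 134) (Dv.wd (nat_lit 42) [Mv.f (nat_lit 421), Mv.b (nat_lit 217), Mv.f (nat_lit 428)])))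
(Tr.nd (nat_lit 431) (Tr.lf (Fc.ed (nat_lit 430) (nat_lit 137) Col.i (nat_lit 122) (Dv.wd (nat_lit 46) [Mv.f (nat_lit 388), Mv.f (nat_lit 216), Mv.f (nat_lit 428)])))
(Tr.lf (Fc.ed (nat_lit 431) (nat_lit 131) Col.i (nat_lit 138) Dv.df))))
(Tr.nd (nat_lit 434) (Tr.nd (nat_lit 433) (Tr.lf (Fc.ed (nat_lit 432) (nat_lit 138) Col.l (nat_lit 75) (Dv.wd (nat_lit 104) [Mv.b (nat_lit 256), Mv.b (nat_lit 413), Mv.f (nat_lit 431)])))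
(Tr.lf (Fc.ed (nat_lit 433) (nat_lit 138) Col.a (nat_lit 138) (Dv.wd (nat_lit 63) [Mv.b (nat_lit 431), Mv.f (nat_lit 414), Mv.f (nat_lit 431)]))))
(Tr.nd (nat_lit 435) (Tr.lf (Fc.ed (nat_lit 434) (nat_lit 138) Col.e (nat_lit 101) (Dv.wd (nat_lit 61) [Mv.b (nat_lit 338), Mv.f (nat_lit 412), Mv.f (nat_lit 431)])))
(Tr.lf (Fc.ed (nat_lit 435) (nat_lit 118) Col.b (nat_lit 138) (Dv.wd (nat_lit 119) [Mv.f (nat_lit 434), Mv.b (nat_lit 325), Mv.f (nat_lit 364)])))))))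
(Tr.nd (nat_lit 442) (Tr.nd (nat_lit 439) (Tr.nd (nat_lit 437) (Tr.lf (Fc.ed (nat_lit 436) (nat_lit 97) Col.e (nat_lit 139) Dv.df))
(Tr.nd (nat_lit 438) (Tr.lf (Fc.ed (nat_lit 437) (nat_lit 139) Col.l (nat_lit 106) (Dv.wd (nat_lit 112) [Mv.f (nat_lit 334), Mv.f (nat_lit 309), Mv.f (nat_lit 436)])))
(Tr.lf (Fc.ed (nat_lit 438) (nat_lit 139) Col.b (nat_lit 131) (Dv.wd (nat_lit 44) [Mv.b (nat_lit 412), Mv.f (nat_lit 337), Mv.f (nat_lit 436)])))))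
(Tr.nd (nat_lit 440) (Tr.lf (Fc.ed (nat_lit 439) (nat_lit 100) Col.c (nat_lit 140) Dv.df))
(Tr.nd (nat_lit 441) (Tr.lf (Fc.ed (nat_lit 440) (nat_lit 140) Col.e (nat_lit 132) (Dv.wd (nat_lit 31) [Mv.f (nat_lit 416), Mv.b (nat_lit 368), Mv.f (nat_lit 439)])))
(Tr.lf (Fc.ed (nat_lit 441) (nat_lit 140) Col.a (nat_lit 141) Dv.df)))))
(Tr.nd (nat_lit 445) (Tr.nd (nat_lit 443) (Tr.lf (Fc.ed (nat_lit 442) (nat_lit 141) Col.c (nat_lit 98) (Dv.wd (nat_lit 15) [Mv.f (nat_lit 315), Mv.f (nat_lit 439), Mv.f (nat_lit 441)])))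
(Tr.nd (nat_lit 444) (Tr.lf (Fc.ed (nat_lit 443) (nat_lit 141) Col.e (nat_lit 126) (Dv.wd (nat_lit 17) [Mv.f (nat_lit 415), Mv.b (nat_lit 440), Mv.f (nat_lit 441)])))
(Tr.lf (Fc.ed (nat_lit 444) (nat_lit 115) Col.k (nat_lit 142) Dv.df))))
(Tr.nd (nat_lit 447) (Tr.nd (nat_lit 446) (Tr.lf (Fc.ed (nat_lit 445) (nat_lit 142) Col.f (nat_lit 18) (Dv.wd (nat_lit 12) [Mv.b (nat_lit 181), Mv.f (nat_lit 357), Mv.f (nat_lit 444)])))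
(Tr.lf (Fc.ed (nat_lit 446) (nat_lit 18) Col.a (nat_lit 143) Dv.df)))
(Tr.nd (nat_lit 448) (Tr.lf (Fc.ed (nat_lit 447) (nat_lit 143) Col.h (nat_lit 124) (Dv.wd (nat_lit 19) [Mv.b (nat_lit 393), Mv.f (nat_lit 94), Mv.f (nat_lit 446)])))
(Tr.lf (Fc.ed (nat_lit 448) (nat_lit 128) Col.e (nat_lit 144) Dv.df)))))))
(Tr.nd (nat_lit 462) (Tr.nd (nat_lit 455) (Tr.nd (nat_lit 452) (Tr.nd (nat_lit 450) (Tr.lf (Fc.ed (nat_lit 449) (nat_lit 144) Col.l (nat_lit 51) (Dv.wd (nat_lit 112) [Mv.f (nat_lit 187), Mv.b (nat_lit 402), Mv.f (nat_lit 448)])))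
(Tr.nd (nat_lit 451) (Tr.lf (Fc.ed (nat_lit 450) (nat_lit 144) Col.a (nat_lit 144) (Dv.wd (nat_lit 43) [Mv.b (nat_lit 448), Mv.f (nat_lit 404), Mv.f (nat_lit 448)])))
(Tr.lf (Fc.ed (nat_lit 451) (nat_lit 144) Col.b (nat_lit 141) (Dv.wd (nat_lit 44) [Mv.f (nat_lit 443), Mv.f (nat_lit 401), Mv.f (nat_lit 448)])))))
(Tr.nd (nat_lit 453) (Tr.lf (Fc.ed (nat_lit 452) (nat_lit 144) Col.h (nat_lit 144) (Dv.wd (nat_lit 64) [Mv.b (nat_lit 448), Mv.f (nat_lit 403), Mv.f (nat_lit 448)])))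
(Tr.nd (nat_lit 454) (Tr.lf (Fc.ed (nat_lit 453) (nat_lit 48) Col.f (nat_lit 145) Dv.df))
(Tr.lf (Fc.ed (nat_lit 454) (nat_lit 145) Col.b (nat_lit 115) (Dv.wd (nat_lit 92) [Mv.b (nat_lit 357), Mv.f (nat_lit 182), Mv.f (nat_lit 453)]))))))
(Tr.nd (nat_lit 458) (Tr.nd (nat_lit 456) (Tr.lf (Fc.ed (nat_lit 455) (nat_lit 133) Col.b (nat_lit 146) Dv.df))
(Tr.nd (nat_lit 457) (Tr.lf (Fc.ed (nat_lit 456) (nat_lit 146) Col.f (nat_lit 46) (Dv.wd (nat_lit 25) [Mv.b (nat_lit 174), Mv.f (nat_lit 417), Mv.f (nat_lit 455)])))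
(Tr.lf (Fc.ed (nat_lit 457) (nat_lit 144) Col.f (nat_lit 147) Dv.df))))
(Tr.nd (nat_lit 460) (Tr.nd (nat_lit 459) (Tr.lf (Fc.ed (nat_lit 458) (nat_lit 147) Col.l (nat_lit 85) (Dv.wd (nat_lit 110) [Mv.b (nat_lit 273), Mv.b (nat_lit 449), Mv.f (nat_lit 457)])))
(Tr.lf (Fc.ed (nat_lit 459) (nat_lit 147) Col.a (nat_lit 147) (Dv.wd (nat_lit 80) [Mv.b (nat_lit 457), Mv.f (nat_lit 450), Mv.f (nat_lit 457)]))))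
(Tr.nd (nat_lit 461) (Tr.lf (Fc.ed (nat_lit 460) (nat_lit 147) Col.h (nat_lit 147) (Dv.wd (nat_lit 78) [Mv.b (nat_lit 457), Mv.f (nat_lit 452), Mv.f (nat_lit 457)])))
(Tr.lf (Fc.ed (nat_lit 461) (nat_lit 146) Col.k (nat_lit 148) Dv.df))))))
(Tr.nd (nat_lit 468) (Tr.nd (nat_lit 465) (Tr.nd (nat_lit 463) (Tr.lf (Fc.ed (nat_lit 462) (nat_lit 148) Col.f (nat_lit 20) (Dv.wd (nat_lit 12) [Mv.b (nat_lit 175), Mv.b (nat_lit 456), Mv.f (nat_lit 461)])))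
(Tr.nd (nat_lit 464) (Tr.lf (Fc.ed (nat_lit 463) (nat_lit 143) Col.f (nat_lit 149) Dv.df))
(Tr.lf (Fc.ed (nat_lit 464) (nat_lit 149) Col.a (nat_lit 142) (Dv.wd (nat_lit 80) [Mv.f (nat_lit 445), Mv.f (nat_lit 446), Mv.f (nat_lit 463)])))))
(Tr.nd (nat_lit 466) (Tr.lf (Fc.ed (nat_lit 465) (nat_lit 17) Col.f (nat_lit 150) Dv.df))
(Tr.nd (nat_lit 467) (Tr.lf (Fc.ed (nat_lit 466) (nat_lit 142) Col.i (nat_lit 151) Dv.df))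
(Tr.lf (Fc.ed (nat_lit 467) (nat_lit 151) Col.f (nat_lit 19) (Dv.wd (nat_lit 97) [Mv.b (nat_lit 96), Mv.b (nat_lit 445), Mv.f (nat_lit 466)]))))))
(Tr.nd (nat_lit 471) (Tr.nd (nat_lit 469) (Tr.lf (Fc.ed (nat_lit 468) (nat_lit 148) Col.b (nat_lit 151) (Dv.wd (nat_lit 120) [Mv.f (nat_lit 467), Mv.f (nat_lit 98), Mv.b (nat_lit 462)])))
(Tr.nd (nat_lit 470) (Tr.lf (Fc.ed (nat_lit 469) (nat_lit 134) Col.l (nat_lit 152) Dv.df))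
(Tr.lf (Fc.ed (nat_lit 470) (nat_lit 152) Col.a (nat_lit 139) (Dv.wd (nat_lit 102) [Mv.f (nat_lit 437), Mv.b (nat_lit 419), Mv.f (nat_lit 469)])))))
(Tr.nd (nat_lit 473) (Tr.nd (nat_lit 472) (Tr.lf (Fc.ed (nat_lit 471) (nat_lit 152) Col.e (nat_lit 112) (Dv.wd (nat_lit 98) [Mv.f (nat_lit 350), Mv.b (nat_lit 421), Mv.f (nat_lit 469)])))
(Tr.lf (Fc.ed (nat_lit 472) (nat_lit 144) Col.k (nat_lit 153) Dv.df)))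
(Tr.nd (nat_lit 474) (Tr.lf (Fc.ed (nat_lit 473) (nat_lit 122) Col.d (nat_lit 154) Dv.df))
(Tr.lf (Fc.ed (nat_lit 474) (nat_lit 154) Col.a (nat_lit 154) (Dv.wd (nat_lit 37) [Mv.b (nat_lit 473), Mv.f (nat_lit 389), Mv.f (nat_lit 473)])))))))))
(Tr.nd (nat_lit 501) (Tr.nd (nat_lit 488) (Tr.nd (nat_lit 481) (Tr.nd (nat_lit 478) (Tr.nd (nat_lit 476) (Tr.lf (Fc.ed (nat_lit 475) (nat_lit 57) Col.f (nat_lit 155) Dv.df))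
(Tr.nd (nat_lit 477) (Tr.lf (Fc.ed (nat_lit 476) (nat_lit 98) Col.k (nat_lit 156) Dv.df))
(Tr.lf (Fc.ed (nat_lit 477) (nat_lit 93) Col.k (nat_lit 157) Dv.df))))
(Tr.nd (nat_lit 479) (Tr.lf (Fc.ed (nat_lit 478) (nat_lit 157) Col.d (nat_lit 156) (Dv.wd (nat_lit 10) [Mv.b (nat_lit 476), Mv.b (nat_lit 310), Mv.f (nat_lit 477)])))
(Tr.nd (nat_lit 480) (Tr.lf (Fc.ed (nat_lit 479) (nat_lit 68) Col.f (nat_lit 158) Dv.df))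
(Tr.lf (Fc.ed (nat_lit 480) (nat_lit 158) Col.b (nat_lit 158) (Dv.wd (nat_lit 92) [Mv.b (nat_lit 479), Mv.f (nat_lit 228), Mv.f (nat_lit 479)]))))))
(Tr.nd (nat_lit 484) (Tr.nd (nat_lit 482) (Tr.lf (Fc.ed (nat_lit 481) (nat_lit 158) Col.c (nat_lit 155) (Dv.wd (nat_lit 76) [Mv.b (nat_lit 475), Mv.b (nat_lit 229), Mv.f (nat_lit 479)])))
(Tr.nd (nat_lit 483) (Tr.lf (Fc.ed (nat_lit 482) (nat_lit 157) Col.h (nat_lit 159) Dv.df))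
(Tr.lf (Fc.ed (nat_lit 483) (nat_lit 159) Col.k (nat_lit 92) (Dv.wd (nat_lit 48) [Mv.b (nat_lit 294), Mv.f (nat_lit 477), Mv.f (nat_lit 482)])))))
(Tr.nd (nat_lit 486) (Tr.nd (nat_lit 485) (Tr.lf (Fc.ed (nat_lit 484) (nat_lit 148) Col.l (nat_lit 160) Dv.df))
(Tr.lf (Fc.ed (nat_lit 485) (nat_lit 160) Col.f (nat_lit 87) (Dv.wd (nat_lit 109) [Mv.b (nat_lit 276), Mv.b (nat_lit 462), Mv.f (nat_lit 484)]))))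
(Tr.nd (nat_lit 487) (Tr.lf (Fc.ed (nat_lit 486) (nat_lit 142) Col.b (nat_lit 161) Dv.df))
(Tr.lf (Fc.ed (nat_lit 487) (nat_lit 161) Col.k (nat_lit 145) (Dv.wd (nat_lit 22) [Mv.f (nat_lit 454), Mv.f (nat_lit 444), Mv.f (nat_lit 486)])))))))
(Tr.nd (nat_lit 494) (Tr.nd (nat_lit 491) (Tr.nd (nat_lit 489) (Tr.lf (Fc.ed (nat_lit 488) (nat_lit 161) Col.f (nat_lit 42) (Dv.wd (nat_lit 25) [Mv.b (nat_lit 163), Mv.b (nat_lit 445), Mv.f (nat_lit 486)])))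
(Tr.nd (nat_lit 490) (Tr.lf (Fc.ed (nat_lit 489) (nat_lit 161) Col.i (nat_lit 148) (Dv.wd (nat_lit 27) [Mv.f (nat_lit 468), Mv.b (nat_lit 466), Mv.f (nat_lit 486)])))
(Tr.lf (Fc.ed (nat_lit 490) (nat_lit 141) Col.f (nat_lit 162) Dv.df))))
(Tr.nd (nat_lit 492) (Tr.lf (Fc.ed (nat_lit 491) (nat_lit 162) Col.b (nat_lit 147) (Dv.wd (nat_lit 92) [Mv.b (nat_lit 457), Mv.f (nat_lit 451), Mv.f (nat_lit 490)])))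
(Tr.nd (nat_lit 493) (Tr.lf (Fc.ed (nat_lit 492) (nat_lit 162) Col.c (nat_lit 109) (Dv.wd (nat_lit 76) [Mv.b (nat_lit 342), Mv.b (nat_lit 442), Mv.f (nat_lit 490)])))
(Tr.lf (Fc.ed (nat_lit 493) (nat_lit 16) Col.f (nat_lit 163) Dv.df)))))
(Tr.nd (nat_lit 497) (Tr.nd (nat_lit 495) (Tr.lf (Fc.ed (nat_lit 494) (nat_lit 163) Col.k (nat_lit 155) (Dv.wd (nat_lit 75) [Mv.b (nat_lit 475), Mv.f (nat_lit 198), Mv.f (nat_lit 493)])))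
(Tr.nd (nat_lit 496) (Tr.lf (Fc.ed (nat_lit 495) (nat_lit 163) Col.d (nat_lit 150) (Dv.wd (nat_lit 77) [Mv.b (nat_lit 465), Mv.b (nat_lit 92), Mv.f (nat_lit 493)])))
(Tr.lf (Fc.ed (nat_lit 496) (nat_lit 117) Col.l (nat_lit 164) Dv.df))))
(Tr.nd (nat_lit 499) (Tr.nd (nat_lit 498) (Tr.lf (Fc.ed (nat_lit 497) (nat_lit 164) Col.c (nat_lit 131) (Dv.wd (nat_lit 106) [Mv.f (nat_lit 413), Mv.b (nat_lit 362), Mv.f (nat_lit 496)])))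
(Tr.lf (Fc.ed (nat_lit 498) (nat_lit 164) Col.d (nat_lit 164) (Dv.wd (nat_lit 101) [Mv.b (nat_lit 496), Mv.f (nat_lit 363), Mv.f (nat_lit 496)]))))
(Tr.nd (nat_lit 500) (Tr.lf (Fc.ed (nat_lit 499) (nat_lit 164) Col.e (nat_lit 130) (Dv.wd (nat_lit 98) [Mv.b (nat_lit 410), Mv.f (nat_lit 361), Mv.f (nat_lit 496)])))
(Tr.lf (Fc.ed (nat_lit 500) (nat_lit 158) Col.k (nat_lit 165) Dv.df)))))))
(Tr.nd (nat_lit 514) (Tr.nd (nat_lit 507) (Tr.nd (nat_lit 504) (Tr.nd (nat_lit 502) (Tr.lf (Fc.ed (nat_lit 501) (nat_lit 165) Col.b (nat_lit 165) (Dv.wd (nat_lit 8) [Mv.b (nat_lit 500), Mv.f (nat_lit 480), Mv.f (nat_lit 500)])))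
(Tr.nd (nat_lit 503) (Tr.lf (Fc.ed (nat_lit 502) (nat_lit 165) Col.c (nat_lit 163) (Dv.wd (nat_lit 9) [Mv.f (nat_lit 494), Mv.b (nat_lit 481), Mv.f (nat_lit 500)])))
(Tr.lf (Fc.ed (nat_lit 503) (nat_lit 165) Col.f (nat_lit 30) (Dv.wd (nat_lit 12) [Mv.b (nat_lit 227), Mv.f (nat_lit 479), Mv.f (nat_lit 500)])))))
(Tr.nd (nat_lit 505) (Tr.lf (Fc.ed (nat_lit 504) (nat_lit 2) Col.l (nat_lit 166) Dv.df))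
(Tr.nd (nat_lit 506) (Tr.lf (Fc.ed (nat_lit 505) (nat_lit 166) Col.b (nat_lit 135) (Dv.wd (nat_lit 100) [Mv.f (nat_lit 423), Mv.b (nat_lit 24), Mv.f (nat_lit 504)])))
(Tr.lf (Fc.ed (nat_lit 506) (nat_lit 159) Col.f (nat_lit 167) Dv.df)))))
(Tr.nd (nat_lit 510) (Tr.nd (nat_lit 508) (Tr.lf (Fc.ed (nat_lit 507) (nat_lit 167) Col.k (nat_lit 112) (Dv.wd (nat_lit 75) [Mv.b (nat_lit 349), Mv.b (nat_lit 483), Mv.f (nat_lit 506)])))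
(Tr.nd (nat_lit 509) (Tr.lf (Fc.ed (nat_lit 508) (nat_lit 156) Col.c (nat_lit 168) Dv.df))
(Tr.lf (Fc.ed (nat_lit 509) (nat_lit 168) Col.k (nat_lit 141) (Dv.wd (nat_lit 29) [Mv.f (nat_lit 442), Mv.f (nat_lit 476), Mv.f (nat_lit 508)])))))
(Tr.nd (nat_lit 512) (Tr.nd (nat_lit 511) (Tr.lf (Fc.ed (nat_lit 510) (nat_lit 153) Col.b (nat_lit 168) (Dv.wd (nat_lit 121) [Mv.f (nat_lit 509), Mv.b (nat_lit 451), Mv.f (nat_lit 472)])))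
(Tr.lf (Fc.ed (nat_lit 511) (nat_lit 116) Col.k (nat_lit 169) Dv.df)))
(Tr.nd (nat_lit 513) (Tr.lf (Fc.ed (nat_lit 512) (nat_lit 169) Col.i (nat_lit 167) (Dv.wd (nat_lit 14) [Mv.f (nat_lit 507), Mv.f (nat_lit 358), Mv.f (nat_lit 511)])))
(Tr.lf (Fc.ed (nat_lit 513) (nat_lit 54) Col.f (nat_lit 170) Dv.df))))))
(Tr.nd (nat_lit 521) (Tr.nd (nat_lit 517) (Tr.nd (nat_lit 515) (Tr.lf (Fc.ed (nat_lit 514) (nat_lit 170) Col.c (nat_lit 145) (Dv.wd (nat_lit 76) [Mv.b (nat_lit 453), Mv.b (nat_lit 191), Mv.f (nat_lit 513)])))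
(Tr.nd (nat_lit 516) (Tr.lf (Fc.ed (nat_lit 515) (nat_lit 113) Col.l (nat_lit 171) Dv.df))
(Tr.lf (Fc.ed (nat_lit 516) (nat_lit 171) Col.b (nat_lit 119) (Dv.wd (nat_lit 100) [Mv.f (nat_lit 369), Mv.f (nat_lit 352), Mv.f (nat_lit 515)])))))
(Tr.nd (nat_lit 519) (Tr.nd (nat_lit 518) (Tr.lf (Fc.ed (nat_lit 517) (nat_lit 171) Col.e (nat_lit 120) (Dv.wd (nat_lit 98) [Mv.b (nat_lit 371), Mv.b (nat_lit 353), Mv.f (nat_lit 515)])))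
(Tr.lf (Fc.ed (nat_lit 518) (nat_lit 160) Col.i (nat_lit 172) Dv.df)))
(Tr.nd (nat_lit 520) (Tr.lf (Fc.ed (nat_lit 519) (nat_lit 172) Col.l (nat_lit 161) (Dv.wd (nat_lit 104) [Mv.f (nat_lit 489), Mv.f (nat_lit 484), Mv.f (nat_lit 518)])))
(Tr.lf (Fc.ed (nat_lit 520) (nat_lit 172) Col.f (nat_lit 105) (Dv.wd (nat_lit 97) [Mv.f (nat_lit 332), Mv.b (nat_lit 485), Mv.f (nat_lit 518)]))))))
(Tr.nd (nat_lit 524) (Tr.nd (nat_lit 522) (Tr.lf (Fc.ed (nat_lit 521) (nat_lit 124) Col.f (nat_lit 173) Dv.df))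
(Tr.nd (nat_lit 523) (Tr.lf (Fc.ed (nat_lit 522) (nat_lit 173) Col.a (nat_lit 150) (Dv.wd (nat_lit 80) [Mv.b (nat_lit 465), Mv.f (nat_lit 393), Mv.f (nat_lit 521)])))
(Tr.lf (Fc.ed (nat_lit 523) (nat_lit 173) Col.h (nat_lit 149) (Dv.wd (nat_lit 78) [Mv.b (nat_lit 463), Mv.f (nat_lit 447), Mv.f (nat_lit 521)])))))
(Tr.nd (nat_lit 526) (Tr.nd (nat_lit 525) (Tr.lf (Fc.ed (nat_lit 524) (nat_lit 142) Col.l (nat_lit 174) Dv.df))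
(Tr.lf (Fc.ed (nat_lit 525) (nat_lit 174) Col.b (nat_lit 172) (Dv.wd (nat_lit 100) [Mv.f (nat_lit 519), Mv.b (nat_lit 486), Mv.f (nat_lit 524)]))))
(Tr.nd (nat_lit 527) (Tr.lf (Fc.ed (nat_lit 526) (nat_lit 174) Col.f (nat_lit 114) (Dv.wd (nat_lit 109) [Mv.b (nat_lit 355), Mv.b (nat_lit 445), Mv.f (nat_lit 524)])))
(Tr.lf (Fc.ed (nat_lit 527) (nat_lit 143) Col.l (nat_lit 175) Dv.df)))))))))
(Tr.nd (nat_lit 581) (Tr.nd (nat_lit 554) (Tr.nd (nat_lit 541) (Tr.nd (nat_lit 534) (Tr.nd (nat_lit 531) (Tr.nd (nat_lit 529) (Tr.lf (Fc.ed (nat_lit 528) (nat_lit 175) Col.a (nat_lit 114) (Dv.wd (nat_lit 102) [Mv.b (nat_lit 355), Mv.f (nat_lit 446), Mv.f (nat_lit 527)])))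
(Tr.nd (nat_lit 530) (Tr.lf (Fc.ed (nat_lit 529) (nat_lit 110) Col.e (nat_lit 176) Dv.df))
(Tr.lf (Fc.ed (nat_lit 530) (nat_lit 176) Col.h (nat_lit 152) (Dv.wd (nat_lit 64) [Mv.f (nat_lit 471), Mv.f (nat_lit 351), Mv.f (nat_lit 529)])))))
(Tr.nd (nat_lit 532) (Tr.lf (Fc.ed (nat_lit 531) (nat_lit 176) Col.f (nat_lit 176) (Dv.wd (nat_lit 95) [Mv.b (nat_lit 529), Mv.f (nat_lit 346), Mv.f (nat_lit 293), Mv.b (nat_lit 346), Mv.f (nat_lit 529)])))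
(Tr.nd (nat_lit 533) (Tr.lf (Fc.ed (nat_lit 532) (nat_lit 136) Col.a (nat_lit 177) Dv.df))
(Tr.lf (Fc.ed (nat_lit 533) (nat_lit 177) Col.d (nat_lit 132) (Dv.wd (nat_lit 16) [Mv.b (nat_lit 415), Mv.b (nat_lit 425), Mv.f (nat_lit 532)]))))))
(Tr.nd (nat_lit 537) (Tr.nd (nat_lit 535) (Tr.lf (Fc.ed (nat_lit 534) (nat_lit 177) Col.e (nat_lit 177) (Dv.wd (nat_lit 17) [Mv.b (nat_lit 532), Mv.f (nat_lit 426), Mv.f (nat_lit 532)])))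
(Tr.nd (nat_lit 536) (Tr.lf (Fc.ed (nat_lit 535) (nat_lit 177) Col.h (nat_lit 175) (Dv.wd (nat_lit 19) [Mv.f (nat_lit 528), Mv.b (nat_lit 427), Mv.f (nat_lit 532)])))
(Tr.lf (Fc.ed (nat_lit 536) (nat_lit 166) Col.a (nat_lit 178) Dv.df))))
(Tr.nd (nat_lit 539) (Tr.nd (nat_lit 538) (Tr.lf (Fc.ed (nat_lit 537) (nat_lit 178) Col.l (nat_lit 1) (Dv.wd (nat_lit 107) [Mv.f (nat_lit 16), Mv.f (nat_lit 504), Mv.f (nat_lit 536)])))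
(Tr.lf (Fc.ed (nat_lit 538) (nat_lit 169) Col.f (nat_lit 179) Dv.df)))
(Tr.nd (nat_lit 540) (Tr.lf (Fc.ed (nat_lit 539) (nat_lit 179) Col.i (nat_lit 159) (Dv.wd (nat_lit 81) [Mv.f (nat_lit 506), Mv.b (nat_lit 512), Mv.f (nat_lit 538)])))
(Tr.lf (Fc.ed (nat_lit 540) (nat_lit 165) Col.l (nat_lit 180) Dv.df))))))
(Tr.nd (nat_lit 547) (Tr.nd (nat_lit 544) (Tr.nd (nat_lit 542) (Tr.lf (Fc.ed (nat_lit 541) (nat_lit 180) Col.b (nat_lit 180) (Dv.wd (nat_lit 100) [Mv.b (nat_lit 540), Mv.f (nat_lit 501), Mv.f (nat_lit 540)])))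
(Tr.nd (nat_lit 543) (Tr.lf (Fc.ed (nat_lit 542) (nat_lit 180) Col.f (nat_lit 123) (Dv.wd (nat_lit 109) [Mv.b (nat_lit 390), Mv.b (nat_lit 503), Mv.f (nat_lit 540)])))
(Tr.lf (Fc.ed (nat_lit 543) (nat_lit 95) Col.f (nat_lit 181) Dv.df))))
(Tr.nd (nat_lit 545) (Tr.lf (Fc.ed (nat_lit 544) (nat_lit 181) Col.c (nat_lit 172) (Dv.wd (nat_lit 76) [Mv.f (nat_lit 520), Mv.f (nat_lit 330), Mv.f (nat_lit 543)])))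
(Tr.nd (nat_lit 546) (Tr.lf (Fc.ed (nat_lit 545) (nat_lit 111) Col.f (nat_lit 182) Dv.df))
(Tr.lf (Fc.ed (nat_lit 546) (nat_lit 182) Col.a (nat_lit 145) (Dv.wd (nat_lit 80) [Mv.b (nat_lit 453), Mv.f (nat_lit 347), Mv.f (nat_lit 545)]))))))
(Tr.nd (nat_lit 550) (Tr.nd (nat_lit 548) (Tr.lf (Fc.ed (nat_lit 547) (nat_lit 182) Col.b (nat_lit 182) (Dv.wd (nat_lit 92) [Mv.b (nat_lit 545), Mv.f (nat_lit 348), Mv.f (nat_lit 545)])))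
(Tr.nd (nat_lit 549) (Tr.lf (Fc.ed (nat_lit 548) (nat_lit 103) Col.k (nat_lit 183) Dv.df))
(Tr.lf (Fc.ed (nat_lit 549) (nat_lit 43) Col.f (nat_lit 184) Dv.df))))
(Tr.nd (nat_lit 552) (Tr.nd (nat_lit 551) (Tr.lf (Fc.ed (nat_lit 550) (nat_lit 184) Col.l (nat_lit 181) (Dv.wd (nat_lit 110) [Mv.b (nat_lit 543), Mv.f (nat_lit 303), Mv.f (nat_lit 549)])))
(Tr.lf (Fc.ed (nat_lit 551) (nat_lit 184) Col.k (nat_lit 170) (Dv.wd (nat_lit 75) [Mv.b (nat_lit 513), Mv.b (nat_lit 190), Mv.f (nat_lit 549)]))))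
(Tr.nd (nat_lit 553) (Tr.lf (Fc.ed (nat_lit 552) (nat_lit 184) Col.a (nat_lit 184) (Dv.wd (nat_lit 80) [Mv.b (nat_lit 549), Mv.f (nat_lit 379), Mv.f (nat_lit 549)])))
(Tr.lf (Fc.ed (nat_lit 553) (nat_lit 184) Col.b (nat_lit 184) (Dv.wd (nat_lit 92) [Mv.b (nat_lit 549), Mv.f (nat_lit 168), Mv.f (nat_lit 549)]))))))))
(Tr.nd (nat_lit 567) (Tr.nd (nat_lit 560) (Tr.nd (nat_lit 557) (Tr.nd (nat_lit 555) (Tr.lf (Fc.ed (nat_lit 554) (nat_lit 184) Col.c (nat_lit 161) (Dv.wd (nat_lit 76) [Mv.f (nat_lit 488), Mv.b (nat_lit 169), Mv.f (nat_lit 549)])))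
(Tr.nd (nat_lit 556) (Tr.lf (Fc.ed (nat_lit 555) (nat_lit 69) Col.f (nat_lit 185) Dv.df))
(Tr.lf (Fc.ed (nat_lit 556) (nat_lit 185) Col.a (nat_lit 165) (Dv.wd (nat_lit 80) [Mv.f (nat_lit 503), Mv.b (nat_lit 231), Mv.f (nat_lit 555)])))))
(Tr.nd (nat_lit 558) (Tr.lf (Fc.ed (nat_lit 557) (nat_lit 154) Col.i (nat_lit 186) Dv.df))
(Tr.nd (nat_lit 559) (Tr.lf (Fc.ed (nat_lit 558) (nat_lit 186) Col.d (nat_lit 137) (Dv.wd (nat_lit 58) [Mv.f (nat_lit 430), Mv.f (nat_lit 473), Mv.f (nat_lit 557)])))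
(Tr.lf (Fc.ed (nat_lit 559) (nat_lit 103) Col.f (nat_lit 187) Dv.df)))))
(Tr.nd (nat_lit 563) (Tr.nd (nat_lit 561) (Tr.lf (Fc.ed (nat_lit 560) (nat_lit 187) Col.h (nat_lit 181) (Dv.wd (nat_lit 78) [Mv.b (nat_lit 543), Mv.f (nat_lit 322), Mv.f (nat_lit 559)])))
(Tr.nd (nat_lit 562) (Tr.lf (Fc.ed (nat_lit 561) (nat_lit 113) Col.f (nat_lit 188) Dv.df))
(Tr.lf (Fc.ed (nat_lit 562) (nat_lit 188) Col.b (nat_lit 185) (Dv.wd (nat_lit 92) [Mv.b (nat_lit 555), Mv.f (nat_lit 352), Mv.f (nat_lit 561)])))))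
(Tr.nd (nat_lit 565) (Tr.nd (nat_lit 564) (Tr.lf (Fc.ed (nat_lit 563) (nat_lit 119) Col.f (nat_lit 189) Dv.df))
(Tr.lf (Fc.ed (nat_lit 564) (nat_lit 189) Col.l (nat_lit 185) (Dv.wd (nat_lit 110) [Mv.b (nat_lit 555), Mv.b (nat_lit 369), Mv.f (nat_lit 563)]))))
(Tr.nd (nat_lit 566) (Tr.lf (Fc.ed (nat_lit 565) (nat_lit 189) Col.a (nat_lit 180) (Dv.wd (nat_lit 80) [Mv.f (nat_lit 542), Mv.f (nat_lit 391), Mv.f (nat_lit 563)])))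
(Tr.lf (Fc.ed (nat_lit 566) (nat_lit 189) Col.h (nat_lit 189) (Dv.wd (nat_lit 78) [Mv.b (nat_lit 563), Mv.f (nat_lit 370), Mv.f (nat_lit 563)])))))))
(Tr.nd (nat_lit 574) (Tr.nd (nat_lit 570) (Tr.nd (nat_lit 568) (Tr.lf (Fc.ed (nat_lit 567) (nat_lit 134) Col.d (nat_lit 190) Dv.df))
(Tr.nd (nat_lit 569) (Tr.lf (Fc.ed (nat_lit 568) (nat_lit 190) Col.k (nat_lit 186) (Dv.wd (nat_lit 36) [Mv.f (nat_lit 558), Mv.f (nat_lit 429), Mv.f (nat_lit 567)])))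
(Tr.lf (Fc.ed (nat_lit 569) (nat_lit 190) Col.b (nat_lit 190) (Dv.wd (nat_lit 38) [Mv.b (nat_lit 567), Mv.f (nat_lit 420), Mv.f (nat_lit 567)])))))
(Tr.nd (nat_lit 572) (Tr.nd (nat_lit 571) (Tr.lf (Fc.ed (nat_lit 570) (nat_lit 127) Col.k (nat_lit 191) Dv.df))
(Tr.lf (Fc.ed (nat_lit 571) (nat_lit 191) Col.e (nat_lit 169) (Dv.wd (nat_lit 11) [Mv.b (nat_lit 511), Mv.f (nat_lit 399), Mv.f (nat_lit 570)]))))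
(Tr.nd (nat_lit 573) (Tr.lf (Fc.ed (nat_lit 572) (nat_lit 129) Col.k (nat_lit 192) Dv.df))
(Tr.lf (Fc.ed (nat_lit 573) (nat_lit 192) Col.c (nat_lit 183) (Dv.wd (nat_lit 9) [Mv.b (nat_lit 548), Mv.b (nat_lit 407), Mv.f (nat_lit 572)]))))))
(Tr.nd (nat_lit 577) (Tr.nd (nat_lit 575) (Tr.lf (Fc.ed (nat_lit 574) (nat_lit 189) Col.b (nat_lit 193) Dv.df))
(Tr.nd (nat_lit 576) (Tr.lf (Fc.ed (nat_lit 575) (nat_lit 193) Col.l (nat_lit 188) (Dv.wd (nat_lit 116) [Mv.f (nat_lit 562), Mv.b (nat_lit 564), Mv.f (nat_lit 574)])))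
(Tr.lf (Fc.ed (nat_lit 576) (nat_lit 193) Col.f (nat_lit 171) (Dv.wd (nat_lit 25) [Mv.f (nat_lit 516), Mv.f (nat_lit 563), Mv.f (nat_lit 574)])))))
(Tr.nd (nat_lit 579) (Tr.nd (nat_lit 578) (Tr.lf (Fc.ed (nat_lit 577) (nat_lit 193) Col.h (nat_lit 193) (Dv.wd (nat_lit 26) [Mv.b (nat_lit 574), Mv.f (nat_lit 566), Mv.f (nat_lit 574)])))
(Tr.lf (Fc.ed (nat_lit 578) (nat_lit 193) Col.a (nat_lit 193) (Dv.wd (nat_lit 28) [Mv.b (nat_lit 574), Mv.f (nat_lit 565), Mv.f (nat_lit 541), Mv.b (nat_lit 565), Mv.f (nat_lit 574)]))))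
(Tr.nd (nat_lit 580) (Tr.lf (Fc.ed (nat_lit 579) (nat_lit 132) Col.f (nat_lit 194) Dv.df))
(Tr.lf (Fc.ed (nat_lit 580) (nat_lit 194) Col.c (nat_lit 189) (Dv.wd (nat_lit 76) [Mv.b (nat_lit 563), Mv.b (nat_lit 416), Mv.f (nat_lit 579)])))))))))
(Tr.nd (nat_lit 607) (Tr.nd (nat_lit 594) (Tr.nd (nat_lit 587) (Tr.nd (nat_lit 584) (Tr.nd (nat_lit 582) (Tr.lf (Fc.ed (nat_lit 581) (nat_lit 192) Col.d (nat_lit 195) Dv.df))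
(Tr.nd (nat_lit 583) (Tr.lf (Fc.ed (nat_lit 582) (nat_lit 195) Col.k (nat_lit 128) (Dv.wd (nat_lit 36) [Mv.f (nat_lit 409), Mv.f (nat_lit 572), Mv.f (nat_lit 581)])))
(Tr.lf (Fc.ed (nat_lit 583) (nat_lit 153) Col.e (nat_lit 195) (Dv.wd (nat_lit 122) [Mv.f (nat_lit 582), Mv.f (nat_lit 448), Mv.f (nat_lit 472)])))))
(Tr.nd (nat_lit 585) (Tr.lf (Fc.ed (nat_lit 584) (nat_lit 177) Col.f (nat_lit 196) Dv.df))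
(Tr.nd (nat_lit 586) (Tr.lf (Fc.ed (nat_lit 585) (nat_lit 196) Col.d (nat_lit 194) (Dv.wd (nat_lit 77) [Mv.b (nat_lit 579), Mv.b (nat_lit 533), Mv.f (nat_lit 584)])))
(Tr.lf (Fc.ed (nat_lit 586) (nat_lit 175) Col.f (nat_lit 197) Dv.df)))))
(Tr.nd (nat_lit 590) (Tr.nd (nat_lit 588) (Tr.lf (Fc.ed (nat_lit 587) (nat_lit 197) Col.a (nat_lit 174) (Dv.wd (nat_lit 80) [Mv.f (nat_lit 526), Mv.b (nat_lit 528), Mv.f (nat_lit 586)])))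
(Tr.nd (nat_lit 589) (Tr.lf (Fc.ed (nat_lit 588) (nat_lit 197) Col.h (nat_lit 196) (Dv.wd (nat_lit 78) [Mv.b (nat_lit 584), Mv.f (nat_lit 535), Mv.f (nat_lit 586)])))
(Tr.lf (Fc.ed (nat_lit 589) (nat_lit 142) Col.e (nat_lit 198) Dv.df))))
(Tr.nd (nat_lit 592) (Tr.nd (nat_lit 591) (Tr.lf (Fc.ed (nat_lit 590) (nat_lit 190) Col.i (nat_lit 199) Dv.df))
(Tr.lf (Fc.ed (nat_lit 591) (nat_lit 199) Col.k (nat_lit 154) (Dv.wd (nat_lit 62) [Mv.f (nat_lit 557), Mv.b (nat_lit 568), Mv.f (nat_lit 590)]))))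
(Tr.nd (nat_lit 593) (Tr.lf (Fc.ed (nat_lit 592) (nat_lit 199) Col.b (nat_lit 199) (Dv.wd (nat_lit 56) [Mv.b (nat_lit 590), Mv.f (nat_lit 569), Mv.f (nat_lit 590)])))
(Tr.lf (Fc.ed (nat_lit 593) (nat_lit 199) Col.d (nat_lit 108) (Dv.wd (nat_lit 58) [Mv.f (nat_lit 418), Mv.f (nat_lit 567), Mv.f (nat_lit 590)])))))))
(Tr.nd (nat_lit 600) (Tr.nd (nat_lit 597) (Tr.nd (nat_lit 595) (Tr.lf (Fc.ed (nat_lit 594) (nat_lit 199) Col.a (nat_lit 200) Dv.df))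
(Tr.nd (nat_lit 596) (Tr.lf (Fc.ed (nat_lit 595) (nat_lit 200) Col.d (nat_lit 96) (Dv.wd (nat_lit 16) [Mv.f (nat_lit 339), Mv.b (nat_lit 593), Mv.f (nat_lit 594)])))
(Tr.lf (Fc.ed (nat_lit 596) (nat_lit 200) Col.k (nat_lit 200) (Dv.wd (nat_lit 21) [Mv.b (nat_lit 594), Mv.f (nat_lit 591), Mv.f (nat_lit 474), Mv.b (nat_lit 591), Mv.f (nat_lit 594)])))))
(Tr.nd (nat_lit 598) (Tr.lf (Fc.ed (nat_lit 597) (nat_lit 181) Col.k (nat_lit 201) Dv.df))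
(Tr.nd (nat_lit 599) (Tr.lf (Fc.ed (nat_lit 598) (nat_lit 118) Col.d (nat_lit 202) Dv.df))
(Tr.lf (Fc.ed (nat_lit 599) (nat_lit 202) Col.l (nat_lit 200) (Dv.wd (nat_lit 103) [Mv.f (nat_lit 595), Mv.b (nat_lit 365), Mv.f (nat_lit 598)]))))))
(Tr.nd (nat_lit 603) (Tr.nd (nat_lit 601) (Tr.lf (Fc.ed (nat_lit 600) (nat_lit 202) Col.f (nat_lit 202) (Dv.wd (nat_lit 39) [Mv.b (nat_lit 598), Mv.f (nat_lit 367), Mv.f (nat_lit 598)])))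
(Tr.nd (nat_lit 602) (Tr.lf (Fc.ed (nat_lit 601) (nat_lit 202) Col.e (nat_lit 202) (Dv.wd (nat_lit 59) [Mv.b (nat_lit 598), Mv.b (nat_lit 364), Mv.f (nat_lit 327), Mv.f (nat_lit 364), Mv.f (nat_lit 598)])))
(Tr.lf (Fc.ed (nat_lit 602) (nat_lit 199) Col.l (nat_lit 203) Dv.df))))
(Tr.nd (nat_lit 605) (Tr.nd (nat_lit 604) (Tr.lf (Fc.ed (nat_lit 603) (nat_lit 203) Col.a (nat_lit 202) (Dv.wd (nat_lit 102) [Mv.f (nat_lit 599), Mv.b (nat_lit 594), Mv.f (nat_lit 602)])))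
(Tr.lf (Fc.ed (nat_lit 604) (nat_lit 203) Col.b (nat_lit 203) (Dv.wd (nat_lit 100) [Mv.b (nat_lit 602), Mv.f (nat_lit 592), Mv.f (nat_lit 602)]))))
(Tr.nd (nat_lit 606) (Tr.lf (Fc.ed (nat_lit 605) (nat_lit 203) Col.d (nat_lit 127) (Dv.wd (nat_lit 101) [Mv.f (nat_lit 400), Mv.b (nat_lit 593), Mv.f (nat_lit 602)])))
(Tr.lf (Fc.ed (nat_lit 606) (nat_lit 163) Col.a (nat_lit 204) Dv.df)))))))
(Tr.nd (nat_lit 620) (Tr.nd (nat_lit 613) (Tr.nd (nat_lit 610) (Tr.nd (nat_lit 608) (Tr.lf (Fc.ed (nat_lit 607) (nat_lit 204) Col.c (nat_lit 185) (Dv.wd (nat_lit 15) [Mv.f (nat_lit 556), Mv.f (nat_lit 502), Mv.f (nat_lit 606)])))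
(Tr.nd (nat_lit 609) (Tr.lf (Fc.ed (nat_lit 608) (nat_lit 204) Col.d (nat_lit 173) (Dv.wd (nat_lit 16) [Mv.f (nat_lit 522), Mv.b (nat_lit 495), Mv.f (nat_lit 606)])))
(Tr.lf (Fc.ed (nat_lit 609) (nat_lit 187) Col.k (nat_lit 205) Dv.df))))
(Tr.nd (nat_lit 611) (Tr.lf (Fc.ed (nat_lit 610) (nat_lit 205) Col.f (nat_lit 183) (Dv.wd (nat_lit 12) [Mv.b (nat_lit 548), Mv.f (nat_lit 559), Mv.f (nat_lit 609)])))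
(Tr.nd (nat_lit 612) (Tr.lf (Fc.ed (nat_lit 611) (nat_lit 205) Col.h (nat_lit 201) (Dv.wd (nat_lit 13) [Mv.b (nat_lit 597), Mv.b (nat_lit 560), Mv.f (nat_lit 609)])))
(Tr.lf (Fc.ed (nat_lit 612) (nat_lit 145) Col.e (nat_lit 206) Dv.df)))))
(Tr.nd (nat_lit 616) (Tr.nd (nat_lit 614) (Tr.lf (Fc.ed (nat_lit 613) (nat_lit 191) Col.d (nat_lit 207) Dv.df))
(Tr.nd (nat_lit 615) (Tr.lf (Fc.ed (nat_lit 614) (nat_lit 207) Col.k (nat_lit 203) (Dv.wd (nat_lit 36) [Mv.f (nat_lit 605), Mv.f (nat_lit 570), Mv.f (nat_lit 613)])))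
(Tr.lf (Fc.ed (nat_lit 615) (nat_lit 149) Col.e (nat_lit 208) Dv.df))))
(Tr.nd (nat_lit 618) (Tr.nd (nat_lit 617) (Tr.lf (Fc.ed (nat_lit 616) (nat_lit 208) Col.a (nat_lit 198) (Dv.wd (nat_lit 43) [Mv.b (nat_lit 589), Mv.b (nat_lit 464), Mv.f (nat_lit 615)])))
(Tr.lf (Fc.ed (nat_lit 617) (nat_lit 161) Col.e (nat_lit 209) Dv.df)))
(Tr.nd (nat_lit 619) (Tr.lf (Fc.ed (nat_lit 618) (nat_lit 209) Col.k (nat_lit 206) (Dv.wd (nat_lit 42) [Mv.b (nat_lit 612), Mv.b (nat_lit 487), Mv.f (nat_lit 617)])))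
(Tr.lf (Fc.ed (nat_lit 619) (nat_lit 209) Col.b (nat_lit 198) (Dv.wd (nat_lit 44) [Mv.b (nat_lit 589), Mv.f (nat_lit 486), Mv.f (nat_lit 617)])))))))
(Tr.nd (nat_lit 627) (Tr.nd (nat_lit 623) (Tr.nd (nat_lit 621) (Tr.lf (Fc.ed (nat_lit 620) (nat_lit 172) Col.e (nat_lit 210) Dv.df))
(Tr.nd (nat_lit 622) (Tr.lf (Fc.ed (nat_lit 621) (nat_lit 210) Col.l (nat_lit 209) (Dv.wd (nat_lit 112) [Mv.b (nat_lit 617), Mv.b (nat_lit 519), Mv.f (nat_lit 620)])))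
(Tr.lf (Fc.ed (nat_lit 622) (nat_lit 197) Col.e (nat_lit 211) Dv.df))))
(Tr.nd (nat_lit 625) (Tr.nd (nat_lit 624) (Tr.lf (Fc.ed (nat_lit 623) (nat_lit 202) Col.h (nat_lit 212) Dv.df))
(Tr.lf (Fc.ed (nat_lit 624) (nat_lit 212) Col.a (nat_lit 213) Dv.df)))
(Tr.nd (nat_lit 626) (Tr.lf (Fc.ed (nat_lit 625) (nat_lit 213) Col.h (nat_lit 203) (Dv.wd (nat_lit 19) [Mv.f (nat_lit 603), Mv.f (nat_lit 623), Mv.f (nat_lit 624)])))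
(Tr.lf (Fc.ed (nat_lit 626) (nat_lit 213) Col.b (nat_lit 213) (Dv.wd (nat_lit 123) [Mv.f (nat_lit 625), Mv.f (nat_lit 604), Mv.b (nat_lit 625)]))))))
(Tr.nd (nat_lit 630) (Tr.nd (nat_lit 628) (Tr.lf (Fc.ed (nat_lit 627) (nat_lit 213) Col.c (nat_lit 200) (Dv.wd (nat_lit 124) [Mv.f (nat_lit 595), Mv.b (nat_lit 306), Mv.b (nat_lit 137), Mv.f (nat_lit 72), Mv.f (nat_lit 74), Mv.f (nat_lit 78), Mv.f (nat_lit 75), Mv.f (nat_lit 76), Mv.f (nat_lit 125), Mv.f (nat_lit 183), Mv.f (nat_lit 185), Mv.f (nat_lit 184), Mv.f (nat_lit 148), Mv.b (nat_lit 238), Mv.f (nat_lit 243), Mv.f (nat_lit 245), Mv.f (nat_lit 244), Mv.b (nat_lit 54), Mv.f (nat_lit 49), Mv.f (nat_lit 50), Mv.f (nat_lit 51), Mv.f (nat_lit 53), Mv.b (nat_lit 47), Mv.f (nat_lit 44), Mv.b (nat_lit 119), Mv.f (nat_lit 116), Mv.f (nat_lit 117),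 Mv.f (nat_lit 118), Mv.f (nat_lit 121), Mv.b (nat_lit 115), Mv.b (nat_lit 244), Mv.b (nat_lit 300), Mv.f (nat_lit 296), Mv.f (nat_lit 297), Mv.f (nat_lit 298), Mv.f (nat_lit 299), Mv.f (nat_lit 301), Mv.b (nat_lit 295), Mv.f (nat_lit 54), Mv.f (nat_lit 56), Mv.f (nat_lit 57), Mv.f (nat_lit 58), Mv.f (nat_lit 59), Mv.f (nat_lit 122), Mv.f (nat_lit 235), Mv.f (nat_lit 239), Mv.f (nat_lit 236), Mv.f (nat_lit 237), Mv.f (nat_lit 238), Mv.f (nat_lit 149), Mv.f (nat_lit 246), Mv.f (nat_lit 249), Mv.f (nat_lit 248), Mv.b (nat_lit 432), Mv.f (nat_lit 433), Mv.b (nat_lit 435), Mv.f (nat_lit 366), Mv.f (nat_lit 598), Mv.f (nat_lit 601), Mv.f (nat_lit 600), Mv.f (nat_lit 623), Mv.f (nat_lit 624), Mv.f (nat_lit 626)])))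
(Tr.nd (nat_lit 629) (Tr.lf (Fc.ed (nat_lit 628) (nat_lit 213) Col.k (nat_lit 213) (Dv.wd (nat_lit 125) [Mv.f (nat_lit 627), Mv.f (nat_lit 596), Mv.b (nat_lit 627)])))
(Tr.lf (Fc.al (nat_lit 629) (nat_lit 207) (nat_lit 203) (Dv.wd (nat_lit 126) [Mv.b (nat_lit 625), Mv.f (nat_lit 628), Mv.f (nat_lit 625), Mv.b (nat_lit 614)])))))
(Tr.nd (nat_lit 632) (Tr.nd (nat_lit 631) (Tr.lf (Fc.al (nat_lit 630) (nat_lit 127) (nat_lit 191) (Dv.wd (nat_lit 127) [Mv.f (nat_lit 613), Mv.f (nat_lit 629), Mv.f (nat_lit 605)])))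
(Tr.lf (Fc.al (nat_lit 631) (nat_lit 116) (nat_lit 169) (Dv.wd (nat_lit 128) [Mv.b (nat_lit 571), Mv.b (nat_lit 630), Mv.b (nat_lit 399)]))))
(Tr.nd (nat_lit 633) (Tr.lf (Fc.al (nat_lit 632) (nat_lit 90) (nat_lit 179) (Dv.wd (nat_lit 129) [Mv.b (nat_lit 538), Mv.b (nat_lit 631), Mv.f (nat_lit 360)])))
(Tr.lf (Fc.al (nat_lit 633) (nat_lit 92) (nat_lit 159) (Dv.wd (nat_lit 130) [Mv.b (nat_lit 539), Mv.b (nat_lit 632), Mv.b (nat_lit 291)])))))))))))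
(Tr.nd (nat_lit 740) (Tr.nd (nat_lit 687) (Tr.nd (nat_lit 660) (Tr.nd (nat_lit 647) (Tr.nd (nat_lit 640) (Tr.nd (nat_lit 637) (Tr.nd (nat_lit 635) (Tr.lf (Fc.al (nat_lit 634) (nat_lit 93) (nat_lit 157) (Dv.wd (nat_lit 131) [Mv.f (nat_lit 482), Mv.b (nat_lit 633), Mv.b (nat_lit 294)])))
(Tr.nd (nat_lit 636) (Tr.lf (Fc.al (nat_lit 635) (nat_lit 98) (nat_lit 156) (Dv.wd (nat_lit 127) [Mv.b (nat_lit 478), Mv.b (nat_lit 634), Mv.f (nat_lit 310)])))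
(Tr.lf (Fc.al (nat_lit 636) (nat_lit 141) (nat_lit 168) (Dv.wd (nat_lit 132) [Mv.b (nat_lit 508), Mv.b (nat_lit 635), Mv.b (nat_lit 442)])))))
(Tr.nd (nat_lit 638) (Tr.lf (Fc.al (nat_lit 637) (nat_lit 144) (nat_lit 153) (Dv.wd (nat_lit 133) [Mv.f (nat_lit 510), Mv.b (nat_lit 636), Mv.b (nat_lit 451)])))
(Tr.nd (nat_lit 639) (Tr.lf (Fc.al (nat_lit 638) (nat_lit 128) (nat_lit 195) (Dv.wd (nat_lit 128) [Mv.b (nat_lit 583), Mv.b (nat_lit 637), Mv.b (nat_lit 448)])))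
(Tr.lf (Fc.al (nat_lit 639) (nat_lit 129) (nat_lit 192) (Dv.wd (nat_lit 127) [Mv.f (nat_lit 581), Mv.b (nat_lit 638), Mv.f (nat_lit 409)]))))))
(Tr.nd (nat_lit 643) (Tr.nd (nat_lit 641) (Tr.lf (Fc.al (nat_lit 640) (nat_lit 103) (nat_lit 183) (Dv.wd (nat_lit 132) [Mv.b (nat_lit 573), Mv.b (nat_lit 639), Mv.f (nat_lit 407)])))
(Tr.nd (nat_lit 642) (Tr.lf (Fc.al (nat_lit 641) (nat_lit 187) (nat_lit 205) (Dv.wd (nat_lit 129) [Mv.f (nat_lit 610), Mv.b (nat_lit 640), Mv.f (nat_lit 559)])))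
(Tr.lf (Fc.al (nat_lit 642) (nat_lit 181) (nat_lit 201) (Dv.wd (nat_lit 131) [Mv.b (nat_lit 611), Mv.b (nat_lit 641), Mv.f (nat_lit 560)])))))
(Tr.nd (nat_lit 645) (Tr.nd (nat_lit 644) (Tr.lf (Fc.ed (nat_lit 643) (nat_lit 181) Col.k (nat_lit 181) (Dv.wd (nat_lit 134) [Mv.f (nat_lit 597), Mv.b (nat_lit 642)])))
(Tr.lf (Fc.ed (nat_lit 644) (nat_lit 170) Col.e (nat_lit 214) Dv.df)))
(Tr.nd (nat_lit 646) (Tr.lf (Fc.ed (nat_lit 645) (nat_lit 214) Col.c (nat_lit 206) (Dv.wd (nat_lit 45) [Mv.b (nat_lit 612), Mv.b (nat_lit 514), Mv.f (nat_lit 644)])))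
(Tr.lf (Fc.ed (nat_lit 646) (nat_lit 184) Col.e (nat_lit 215) Dv.df))))))
(Tr.nd (nat_lit 653) (Tr.nd (nat_lit 650) (Tr.nd (nat_lit 648) (Tr.lf (Fc.ed (nat_lit 647) (nat_lit 215) Col.k (nat_lit 214) (Dv.wd (nat_lit 42) [Mv.b (nat_lit 644), Mv.b (nat_lit 551), Mv.f (nat_lit 646)])))
(Tr.nd (nat_lit 649) (Tr.lf (Fc.ed (nat_lit 648) (nat_lit 215) Col.a (nat_lit 215) (Dv.wd (nat_lit 43) [Mv.b (nat_lit 646), Mv.f (nat_lit 552), Mv.f (nat_lit 646)])))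
(Tr.lf (Fc.ed (nat_lit 649) (nat_lit 215) Col.b (nat_lit 215) (Dv.wd (nat_lit 44) [Mv.b (nat_lit 646), Mv.f (nat_lit 553), Mv.f (nat_lit 646)])))))
(Tr.nd (nat_lit 651) (Tr.lf (Fc.ed (nat_lit 650) (nat_lit 215) Col.c (nat_lit 209) (Dv.wd (nat_lit 45) [Mv.b (nat_lit 617), Mv.b (nat_lit 554), Mv.f (nat_lit 646)])))
(Tr.nd (nat_lit 652) (Tr.lf (Fc.ed (nat_lit 651) (nat_lit 215) Col.f (nat_lit 215) (Dv.wd (nat_lit 95) [Mv.b (nat_lit 646), Mv.b (nat_lit 549), Mv.f (nat_lit 170), Mv.f (nat_lit 549), Mv.f (nat_lit 646)])))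
(Tr.lf (Fc.ed (nat_lit 652) (nat_lit 174) Col.e (nat_lit 216) Dv.df)))))
(Tr.nd (nat_lit 656) (Tr.nd (nat_lit 654) (Tr.lf (Fc.ed (nat_lit 653) (nat_lit 216) Col.a (nat_lit 211) (Dv.wd (nat_lit 43) [Mv.b (nat_lit 622), Mv.f (nat_lit 587), Mv.f (nat_lit 652)])))
(Tr.nd (nat_lit 655) (Tr.lf (Fc.ed (nat_lit 654) (nat_lit 216) Col.b (nat_lit 210) (Dv.wd (nat_lit 44) [Mv.b (nat_lit 620), Mv.b (nat_lit 525), Mv.f (nat_lit 652)])))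
(Tr.lf (Fc.ed (nat_lit 655) (nat_lit 215) Col.d (nat_lit 217) Dv.df))))
(Tr.nd (nat_lit 658) (Tr.nd (nat_lit 657) (Tr.lf (Fc.ed (nat_lit 656) (nat_lit 217) Col.a (nat_lit 217) (Dv.wd (nat_lit 37) [Mv.b (nat_lit 655), Mv.f (nat_lit 648), Mv.f (nat_lit 655)])))
(Tr.lf (Fc.ed (nat_lit 657) (nat_lit 217) Col.b (nat_lit 217) (Dv.wd (nat_lit 38) [Mv.b (nat_lit 655), Mv.f (nat_lit 649), Mv.f (nat_lit 655)]))))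
(Tr.nd (nat_lit 659) (Tr.lf (Fc.ed (nat_lit 658) (nat_lit 217) Col.f (nat_lit 217) (Dv.wd (nat_lit 39) [Mv.b (nat_lit 655), Mv.f (nat_lit 651), Mv.f (nat_lit 655)])))
(Tr.lf (Fc.ed (nat_lit 659) (nat_lit 181) Col.e (nat_lit 218) Dv.df)))))))
(Tr.nd (nat_lit 673) (Tr.nd (nat_lit 666) (Tr.nd (nat_lit 663) (Tr.nd (nat_lit 661) (Tr.lf (Fc.ed (nat_lit 660) (nat_lit 218) Col.l (nat_lit 215) (Dv.wd (nat_lit 112) [Mv.b (nat_lit 646), Mv.f (nat_lit 550), Mv.f (nat_lit 659)])))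
(Tr.nd (nat_lit 662) (Tr.lf (Fc.ed (nat_lit 661) (nat_lit 218) Col.k (nat_lit 218) (Dv.wd (nat_lit 42) [Mv.b (nat_lit 659), Mv.f (nat_lit 643), Mv.f (nat_lit 659)])))
(Tr.lf (Fc.ed (nat_lit 662) (nat_lit 218) Col.c (nat_lit 210) (Dv.wd (nat_lit 45) [Mv.b (nat_lit 620), Mv.b (nat_lit 544), Mv.f (nat_lit 659)])))))
(Tr.nd (nat_lit 664) (Tr.lf (Fc.ed (nat_lit 663) (nat_lit 217) Col.c (nat_lit 219) Dv.df))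
(Tr.nd (nat_lit 665) (Tr.lf (Fc.ed (nat_lit 664) (nat_lit 219) Col.f (nat_lit 219) (Dv.wd (nat_lit 32) [Mv.b (nat_lit 663), Mv.f (nat_lit 658), Mv.f (nat_lit 663)])))
(Tr.lf (Fc.ed (nat_lit 665) (nat_lit 219) Col.b (nat_lit 220) Dv.df)))))
(Tr.nd (nat_lit 669) (Tr.nd (nat_lit 667) (Tr.lf (Fc.ed (nat_lit 666) (nat_lit 220) Col.f (nat_lit 220) (Dv.wd (nat_lit 25) [Mv.b (nat_lit 665), Mv.f (nat_lit 664), Mv.f (nat_lit 665)])))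
(Tr.nd (nat_lit 668) (Tr.lf (Fc.ed (nat_lit 667) (nat_lit 220) Col.c (nat_lit 220) (Dv.wd (nat_lit 54) [Mv.b (nat_lit 665), Mv.b (nat_lit 663), Mv.f (nat_lit 657), Mv.f (nat_lit 663), Mv.f (nat_lit 665)])))
(Tr.lf (Fc.ed (nat_lit 668) (nat_lit 220) Col.a (nat_lit 221) Dv.df))))
(Tr.nd (nat_lit 671) (Tr.nd (nat_lit 670) (Tr.lf (Fc.ed (nat_lit 669) (nat_lit 221) Col.c (nat_lit 221) (Dv.wd (nat_lit 15) [Mv.b (nat_lit 668), Mv.f (nat_lit 667), Mv.f (nat_lit 668)])))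
(Tr.lf (Fc.ed (nat_lit 670) (nat_lit 221) Col.f (nat_lit 221) (Dv.wd (nat_lit 18) [Mv.b (nat_lit 668), Mv.f (nat_lit 666), Mv.f (nat_lit 668)]))))
(Tr.nd (nat_lit 672) (Tr.lf (Fc.ed (nat_lit 671) (nat_lit 182) Col.e (nat_lit 222) Dv.df))
(Tr.lf (Fc.ed (nat_lit 672) (nat_lit 222) Col.a (nat_lit 206) (Dv.wd (nat_lit 43) [Mv.b (nat_lit 612), Mv.b (nat_lit 546), Mv.f (nat_lit 671)])))))))
(Tr.nd (nat_lit 680) (Tr.nd (nat_lit 676) (Tr.nd (nat_lit 674) (Tr.lf (Fc.ed (nat_lit 673) (nat_lit 222) Col.b (nat_lit 222) (Dv.wd (nat_lit 44) [Mv.b (nat_lit 671), Mv.f (nat_lit 547), Mv.f (nat_lit 671)])))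
(Tr.nd (nat_lit 675) (Tr.lf (Fc.ed (nat_lit 674) (nat_lit 217) Col.e (nat_lit 223) Dv.df))
(Tr.lf (Fc.ed (nat_lit 675) (nat_lit 223) Col.a (nat_lit 223) (Dv.wd (nat_lit 43) [Mv.b (nat_lit 674), Mv.f (nat_lit 656), Mv.f (nat_lit 674)])))))
(Tr.nd (nat_lit 678) (Tr.nd (nat_lit 677) (Tr.lf (Fc.ed (nat_lit 676) (nat_lit 223) Col.b (nat_lit 223) (Dv.wd (nat_lit 44) [Mv.b (nat_lit 674), Mv.f (nat_lit 657), Mv.f (nat_lit 674)])))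
(Tr.lf (Fc.ed (nat_lit 677) (nat_lit 223) Col.f (nat_lit 224) Dv.df)))
(Tr.nd (nat_lit 679) (Tr.lf (Fc.ed (nat_lit 678) (nat_lit 224) Col.a (nat_lit 224) (Dv.wd (nat_lit 80) [Mv.b (nat_lit 677), Mv.f (nat_lit 675), Mv.f (nat_lit 677)])))
(Tr.lf (Fc.ed (nat_lit 679) (nat_lit 224) Col.b (nat_lit 224) (Dv.wd (nat_lit 92) [Mv.b (nat_lit 677), Mv.f (nat_lit 676), Mv.f (nat_lit 677)]))))))
(Tr.nd (nat_lit 683) (Tr.nd (nat_lit 681) (Tr.lf (Fc.ed (nat_lit 680) (nat_lit 224) Col.e (nat_lit 224) (Dv.wd (nat_lit 99) [Mv.b (nat_lit 677), Mv.b (nat_lit 674), Mv.f (nat_lit 658), Mv.f (nat_lit 674), Mv.f (nat_lit 677)])))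
(Tr.nd (nat_lit 682) (Tr.lf (Fc.ed (nat_lit 681) (nat_lit 218) Col.d (nat_lit 225) Dv.df))
(Tr.lf (Fc.ed (nat_lit 682) (nat_lit 225) Col.l (nat_lit 217) (Dv.wd (nat_lit 103) [Mv.b (nat_lit 655), Mv.b (nat_lit 660), Mv.f (nat_lit 681)])))))
(Tr.nd (nat_lit 685) (Tr.nd (nat_lit 684) (Tr.lf (Fc.ed (nat_lit 683) (nat_lit 225) Col.k (nat_lit 225) (Dv.wd (nat_lit 36) [Mv.b (nat_lit 681), Mv.f (nat_lit 661), Mv.f (nat_lit 681)])))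
(Tr.lf (Fc.ed (nat_lit 684) (nat_lit 225) Col.c (nat_lit 226) Dv.df)))
(Tr.nd (nat_lit 686) (Tr.lf (Fc.ed (nat_lit 685) (nat_lit 226) Col.l (nat_lit 219) (Dv.wd (nat_lit 115) [Mv.b (nat_lit 663), Mv.b (nat_lit 682), Mv.f (nat_lit 684)])))
(Tr.lf (Fc.ed (nat_lit 686) (nat_lit 221) Col.l (nat_lit 227) Dv.df))))))))
(Tr.nd (nat_lit 713) (Tr.nd (nat_lit 700) (Tr.nd (nat_lit 693) (Tr.nd (nat_lit 690) (Tr.nd (nat_lit 688) (Tr.lf (Fc.ed (nat_lit 687) (nat_lit 227) Col.c (nat_lit 227) (Dv.wd (nat_lit 106) [Mv.b (nat_lit 686), Mv.f (nat_lit 669), Mv.f (nat_lit 686)])))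
(Tr.nd (nat_lit 689) (Tr.lf (Fc.ed (nat_lit 688) (nat_lit 227) Col.f (nat_lit 227) (Dv.wd (nat_lit 109) [Mv.b (nat_lit 686), Mv.f (nat_lit 670), Mv.f (nat_lit 686)])))
(Tr.lf (Fc.ed (nat_lit 689) (nat_lit 224) Col.h (nat_lit 228) Dv.df))))
(Tr.nd (nat_lit 691) (Tr.lf (Fc.ed (nat_lit 690) (nat_lit 228) Col.a (nat_lit 228) (Dv.wd (nat_lit 49) [Mv.b (nat_lit 689), Mv.f (nat_lit 678), Mv.f (nat_lit 689)])))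
(Tr.nd (nat_lit 692) (Tr.lf (Fc.ed (nat_lit 691) (nat_lit 228) Col.b (nat_lit 228) (Dv.wd (nat_lit 50) [Mv.b (nat_lit 689), Mv.f (nat_lit 679), Mv.f (nat_lit 689)])))
(Tr.lf (Fc.ed (nat_lit 692) (nat_lit 228) Col.e (nat_lit 228) (Dv.wd (nat_lit 60) [Mv.b (nat_lit 689), Mv.f (nat_lit 680), Mv.f (nat_lit 689)]))))))
(Tr.nd (nat_lit 696) (Tr.nd (nat_lit 694) (Tr.lf (Fc.ed (nat_lit 693) (nat_lit 228) Col.c (nat_lit 229) Dv.df))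
(Tr.nd (nat_lit 695) (Tr.lf (Fc.ed (nat_lit 694) (nat_lit 229) Col.a (nat_lit 229) (Dv.wd (nat_lit 30) [Mv.b (nat_lit 693), Mv.f (nat_lit 690), Mv.f (nat_lit 693)])))
(Tr.lf (Fc.ed (nat_lit 695) (nat_lit 229) Col.e (nat_lit 229) (Dv.wd (nat_lit 31) [Mv.b (nat_lit 693), Mv.f (nat_lit 692), Mv.f (nat_lit 693)])))))
(Tr.nd (nat_lit 698) (Tr.nd (nat_lit 697) (Tr.lf (Fc.ed (nat_lit 696) (nat_lit 226) Col.b (nat_lit 230) Dv.df))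
(Tr.lf (Fc.ed (nat_lit 697) (nat_lit 230) Col.l (nat_lit 220) (Dv.wd (nat_lit 116) [Mv.b (nat_lit 665), Mv.b (nat_lit 685), Mv.f (nat_lit 696)]))))
(Tr.nd (nat_lit 699) (Tr.lf (Fc.ed (nat_lit 698) (nat_lit 227) Col.a (nat_lit 230) (Dv.wd (nat_lit 117) [Mv.f (nat_lit 697), Mv.f (nat_lit 668), Mv.f (nat_lit 686)])))
(Tr.lf (Fc.ed (nat_lit 699) (nat_lit 196) Col.e (nat_lit 231) Dv.df))))))
(Tr.nd (nat_lit 706) (Tr.nd (nat_lit 703) (Tr.nd (nat_lit 701) (Tr.lf (Fc.ed (nat_lit 700) (nat_lit 231) Col.h (nat_lit 211) (Dv.wd (nat_lit 64) [Mv.b (nat_lit 622), Mv.f (nat_lit 588), Mv.f (nat_lit 699)])))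
(Tr.nd (nat_lit 702) (Tr.lf (Fc.ed (nat_lit 701) (nat_lit 231) Col.f (nat_lit 231) (Dv.wd (nat_lit 95) [Mv.b (nat_lit 699), Mv.b (nat_lit 584), Mv.f (nat_lit 534), Mv.f (nat_lit 584), Mv.f (nat_lit 699)])))
(Tr.lf (Fc.ed (nat_lit 702) (nat_lit 229) Col.d (nat_lit 232) Dv.df))))
(Tr.nd (nat_lit 704) (Tr.lf (Fc.ed (nat_lit 703) (nat_lit 232) Col.a (nat_lit 232) (Dv.wd (nat_lit 37) [Mv.b (nat_lit 702), Mv.f (nat_lit 694), Mv.f (nat_lit 702)])))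
(Tr.nd (nat_lit 705) (Tr.lf (Fc.ed (nat_lit 704) (nat_lit 227) Col.h (nat_lit 233) Dv.df))
(Tr.lf (Fc.ed (nat_lit 705) (nat_lit 233) Col.c (nat_lit 233) (Dv.wd (nat_lit 51) [Mv.b (nat_lit 704), Mv.f (nat_lit 687), Mv.f (nat_lit 704)]))))))
(Tr.nd (nat_lit 709) (Tr.nd (nat_lit 707) (Tr.lf (Fc.ed (nat_lit 706) (nat_lit 233) Col.f (nat_lit 233) (Dv.wd (nat_lit 89) [Mv.b (nat_lit 704), Mv.f (nat_lit 688), Mv.f (nat_lit 704)])))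
(Tr.nd (nat_lit 708) (Tr.lf (Fc.ed (nat_lit 707) (nat_lit 233) Col.e (nat_lit 234) Dv.df))
(Tr.lf (Fc.ed (nat_lit 708) (nat_lit 234) Col.c (nat_lit 234) (Dv.wd (nat_lit 45) [Mv.b (nat_lit 707), Mv.f (nat_lit 705), Mv.f (nat_lit 707)])))))
(Tr.nd (nat_lit 711) (Tr.nd (nat_lit 710) (Tr.lf (Fc.ed (nat_lit 709) (nat_lit 232) Col.e (nat_lit 235) Dv.df))
(Tr.lf (Fc.ed (nat_lit 710) (nat_lit 235) Col.a (nat_lit 235) (Dv.wd (nat_lit 43) [Mv.b (nat_lit 709), Mv.f (nat_lit 703), Mv.f (nat_lit 709)]))))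
(Tr.nd (nat_lit 712) (Tr.lf (Fc.ed (nat_lit 711) (nat_lit 235) Col.d (nat_lit 235) (Dv.wd (nat_lit 47) [Mv.b (nat_lit 709), Mv.b (nat_lit 702), Mv.f (nat_lit 695), Mv.f (nat_lit 702), Mv.f (nat_lit 709)])))
(Tr.lf (Fc.ed (nat_lit 712) (nat_lit 228) Col.l (nat_lit 236) Dv.df)))))))
(Tr.nd (nat_lit 726) (Tr.nd (nat_lit 719) (Tr.nd (nat_lit 716) (Tr.nd (nat_lit 714) (Tr.lf (Fc.ed (nat_lit 713) (nat_lit 236) Col.a (nat_lit 236) (Dv.wd (nat_lit 102) [Mv.b (nat_lit 712), Mv.f (nat_lit 690), Mv.f (nat_lit 712)])))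
(Tr.nd (nat_lit 715) (Tr.lf (Fc.ed (nat_lit 714) (nat_lit 236) Col.b (nat_lit 236) (Dv.wd (nat_lit 100) [Mv.b (nat_lit 712), Mv.f (nat_lit 691), Mv.f (nat_lit 712)])))
(Tr.lf (Fc.ed (nat_lit 715) (nat_lit 234) Col.d (nat_lit 237) Dv.df))))
(Tr.nd (nat_lit 717) (Tr.lf (Fc.ed (nat_lit 716) (nat_lit 237) Col.c (nat_lit 238) Dv.df))
(Tr.nd (nat_lit 718) (Tr.lf (Fc.ed (nat_lit 717) (nat_lit 238) Col.d (nat_lit 238) (Dv.wd (nat_lit 53) [Mv.b (nat_lit 716), Mv.b (nat_lit 715), Mv.f (nat_lit 708), Mv.f (nat_lit 715), Mv.f (nat_lit 716)])))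
(Tr.lf (Fc.ed (nat_lit 718) (nat_lit 221) Col.h (nat_lit 239) Dv.df)))))
(Tr.nd (nat_lit 722) (Tr.nd (nat_lit 720) (Tr.lf (Fc.ed (nat_lit 719) (nat_lit 239) Col.f (nat_lit 239) (Dv.wd (nat_lit 89) [Mv.b (nat_lit 718), Mv.f (nat_lit 670), Mv.f (nat_lit 718)])))
(Tr.nd (nat_lit 721) (Tr.lf (Fc.ed (nat_lit 720) (nat_lit 238) Col.b (nat_lit 240) Dv.df))
(Tr.lf (Fc.ed (nat_lit 721) (nat_lit 240) Col.d (nat_lit 240) (Dv.wd (nat_lit 23) [Mv.b (nat_lit 720), Mv.f (nat_lit 717), Mv.f (nat_lit 720)])))))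
(Tr.nd (nat_lit 724) (Tr.nd (nat_lit 723) (Tr.lf (Fc.ed (nat_lit 722) (nat_lit 225) Col.e (nat_lit 241) Dv.df))
(Tr.lf (Fc.ed (nat_lit 723) (nat_lit 241) Col.l (nat_lit 223) (Dv.wd (nat_lit 112) [Mv.b (nat_lit 674), Mv.b (nat_lit 682), Mv.f (nat_lit 722)]))))
(Tr.nd (nat_lit 725) (Tr.lf (Fc.ed (nat_lit 724) (nat_lit 241) Col.k (nat_lit 241) (Dv.wd (nat_lit 42) [Mv.b (nat_lit 722), Mv.f (nat_lit 683), Mv.f (nat_lit 722)])))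
(Tr.lf (Fc.ed (nat_lit 725) (nat_lit 222) Col.d (nat_lit 242) Dv.df))))))
(Tr.nd (nat_lit 733) (Tr.nd (nat_lit 729) (Tr.nd (nat_lit 727) (Tr.lf (Fc.ed (nat_lit 726) (nat_lit 242) Col.b (nat_lit 242) (Dv.wd (nat_lit 38) [Mv.b (nat_lit 725), Mv.f (nat_lit 673), Mv.f (nat_lit 725)])))
(Tr.nd (nat_lit 728) (Tr.lf (Fc.ed (nat_lit 727) (nat_lit 241) Col.f (nat_lit 243) Dv.df))
(Tr.lf (Fc.ed (nat_lit 728) (nat_lit 243) Col.l (nat_lit 224) (Dv.wd (nat_lit 110) [Mv.b (nat_lit 677), Mv.b (nat_lit 723), Mv.f (nat_lit 727)])))))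
(Tr.nd (nat_lit 731) (Tr.nd (nat_lit 730) (Tr.lf (Fc.ed (nat_lit 729) (nat_lit 243) Col.k (nat_lit 243) (Dv.wd (nat_lit 75) [Mv.b (nat_lit 727), Mv.f (nat_lit 724), Mv.f (nat_lit 727)])))
(Tr.lf (Fc.ed (nat_lit 730) (nat_lit 236) Col.h (nat_lit 243) (Dv.wd (nat_lit 135) [Mv.f (nat_lit 728), Mv.f (nat_lit 689), Mv.f (nat_lit 712)]))))
(Tr.nd (nat_lit 732) (Tr.lf (Fc.ed (nat_lit 731) (nat_lit 236) Col.k (nat_lit 236) (Dv.wd (nat_lit 136) [Mv.f (nat_lit 730), Mv.f (nat_lit 729), Mv.b (nat_lit 730)])))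
(Tr.lf (Fc.ed (nat_lit 732) (nat_lit 236) Col.c (nat_lit 244) Dv.df)))))
(Tr.nd (nat_lit 736) (Tr.nd (nat_lit 734) (Tr.lf (Fc.ed (nat_lit 733) (nat_lit 244) Col.l (nat_lit 229) (Dv.wd (nat_lit 115) [Mv.b (nat_lit 693), Mv.f (nat_lit 712), Mv.f (nat_lit 732)])))
(Tr.nd (nat_lit 735) (Tr.lf (Fc.ed (nat_lit 734) (nat_lit 244) Col.k (nat_lit 244) (Dv.wd (nat_lit 29) [Mv.b (nat_lit 732), Mv.f (nat_lit 731), Mv.f (nat_lit 732)])))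
(Tr.lf (Fc.ed (nat_lit 735) (nat_lit 235) Col.f (nat_lit 245) Dv.df))))
(Tr.nd (nat_lit 738) (Tr.nd (nat_lit 737) (Tr.lf (Fc.ed (nat_lit 736) (nat_lit 245) Col.a (nat_lit 245) (Dv.wd (nat_lit 80) [Mv.b (nat_lit 735), Mv.f (nat_lit 710), Mv.f (nat_lit 735)])))
(Tr.lf (Fc.ed (nat_lit 737) (nat_lit 245) Col.d (nat_lit 245) (Dv.wd (nat_lit 77) [Mv.b (nat_lit 735), Mv.f (nat_lit 711), Mv.f (nat_lit 735)]))))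
(Tr.nd (nat_lit 739) (Tr.lf (Fc.ed (nat_lit 738) (nat_lit 245) Col.h (nat_lit 246) Dv.df))
(Tr.lf (Fc.ed (nat_lit 739) (nat_lit 246) Col.a (nat_lit 246) (Dv.wd (nat_lit 49) [Mv.b (nat_lit 738), Mv.f (nat_lit 736), Mv.f (nat_lit 738)]))))))))))
(Tr.nd (nat_lit 793) (Tr.nd (nat_lit 766) (Tr.nd (nat_lit 753) (Tr.nd (nat_lit 746) (Tr.nd (nat_lit 743) (Tr.nd (nat_lit 741) (Tr.lf (Fc.al (nat_lit 740) (nat_lit 246) (nat_lit 240) (Dv.wd (nat_lit 137) [Mv.b (nat_lit 720), Mv.b (nat_lit 716), Mv.b (nat_lit 715), Mv.b (nat_lit 707), Mv.f (nat_lit 706), Mv.b (nat_lit 704), Mv.f (nat_lit 698), Mv.b (nat_lit 696), Mv.b (nat_lit 684), Mv.b (nat_lit 681), Mv.b (nat_lit 659), Mv.b (nat_lit 543), Mv.f (nat_lit 322), Mv.f (nat_lit 386), Mv.f (nat_lit 323), Mv.b (nat_lit 407), Mv.b (nat_lit 409), Mv.f (nat_lit 448),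 Mv.f (nat_lit 457), Mv.f (nat_lit 460), Mv.f (nat_lit 459), Mv.b (nat_lit 491), Mv.f (nat_lit 492), Mv.b (nat_lit 345), Mv.f (nat_lit 529), Mv.f (nat_lit 531), Mv.f (nat_lit 530), Mv.f (nat_lit 470), Mv.f (nat_lit 438), Mv.b (nat_lit 497), Mv.f (nat_lit 498), Mv.f (nat_lit 499), Mv.f (nat_lit 411), Mv.f (nat_lit 285), Mv.f (nat_lit 287), Mv.f (nat_lit 288), Mv.b (nat_lit 314), Mv.b (nat_lit 372), Mv.b (nat_lit 517), Mv.b (nat_lit 576), Mv.f (nat_lit 577), Mv.f (nat_lit 578), Mv.b (nat_lit 574), Mv.b (nat_lit 580), Mv.b (nat_lit 585), Mv.f (nat_lit 699), Mv.f (nat_lit 701), Mv.f (nat_lit 700), Mv.b (nat_lit 653), Mv.f (nat_lit 654), Mv.b (nat_lit 662), Mv.f (nat_lit 681), Mv.f (nat_lit 722), Mv.f (nat_lit 727), Mv.b (nat_lit 730), Mv.b (nat_lit 712), Mv.f (nat_lit 690), Mv.f (nat_lit 691), Mv.f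 (nat_lit 693), Mv.f (nat_lit 702), Mv.f (nat_lit 709), Mv.f (nat_lit 735), Mv.f (nat_lit 738), Mv.f (nat_lit 739)])))
(Tr.nd (nat_lit 742) (Tr.lf (Fc.ed (nat_lit 741) (nat_lit 240) Col.a (nat_lit 240) (Dv.wd (nat_lit 138) [Mv.b (nat_lit 740), Mv.f (nat_lit 739), Mv.f (nat_lit 740)])))
(Tr.lf (Fc.ed (nat_lit 742) (nat_lit 240) Col.h (nat_lit 245) (Dv.wd (nat_lit 131) [Mv.f (nat_lit 738), Mv.f (nat_lit 740)])))))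
(Tr.nd (nat_lit 744) (Tr.lf (Fc.al (nat_lit 743) (nat_lit 245) (nat_lit 240) (Dv.wd (nat_lit 139) [Mv.f (nat_lit 742), Mv.f (nat_lit 737), Mv.b (nat_lit 742), Mv.f (nat_lit 721), Mv.f (nat_lit 742), Mv.f (nat_lit 737)])))
(Tr.nd (nat_lit 745) (Tr.lf (Fc.ed (nat_lit 744) (nat_lit 240) Col.f (nat_lit 235) (Dv.wd (nat_lit 129) [Mv.f (nat_lit 735), Mv.f (nat_lit 743)])))
(Tr.lf (Fc.ed (nat_lit 745) (nat_lit 240) Col.h (nat_lit 240) (Dv.wd (nat_lit 131) [Mv.f (nat_lit 742), Mv.f (nat_lit 743)]))))))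
(Tr.nd (nat_lit 749) (Tr.nd (nat_lit 747) (Tr.lf (Fc.ed (nat_lit 746) (nat_lit 239) Col.e (nat_lit 247) Dv.df))
(Tr.nd (nat_lit 748) (Tr.lf (Fc.ed (nat_lit 747) (nat_lit 244) Col.d (nat_lit 248) Dv.df))
(Tr.lf (Fc.ed (nat_lit 748) (nat_lit 248) Col.l (nat_lit 232) (Dv.wd (nat_lit 103) [Mv.b (nat_lit 702), Mv.b (nat_lit 733), Mv.f (nat_lit 747)])))))
(Tr.nd (nat_lit 751) (Tr.nd (nat_lit 750) (Tr.lf (Fc.ed (nat_lit 749) (nat_lit 248) Col.k (nat_lit 248) (Dv.wd (nat_lit 36) [Mv.b (nat_lit 747), Mv.f (nat_lit 734), Mv.f (nat_lit 747)])))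
(Tr.lf (Fc.ed (nat_lit 750) (nat_lit 248) Col.e (nat_lit 249) Dv.df)))
(Tr.nd (nat_lit 752) (Tr.lf (Fc.ed (nat_lit 751) (nat_lit 249) Col.l (nat_lit 235) (Dv.wd (nat_lit 112) [Mv.b (nat_lit 709), Mv.b (nat_lit 748), Mv.f (nat_lit 750)])))
(Tr.lf (Fc.ed (nat_lit 752) (nat_lit 249) Col.k (nat_lit 249) (Dv.wd (nat_lit 42) [Mv.b (nat_lit 750), Mv.f (nat_lit 749), Mv.f (nat_lit 750)])))))))
(Tr.nd (nat_lit 759) (Tr.nd (nat_lit 756) (Tr.nd (nat_lit 754) (Tr.lf (Fc.ed (nat_lit 753) (nat_lit 247) Col.d (nat_lit 250) Dv.df))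
(Tr.nd (nat_lit 755) (Tr.lf (Fc.ed (nat_lit 754) (nat_lit 240) Col.l (nat_lit 251) Dv.df))
(Tr.lf (Fc.ed (nat_lit 755) (nat_lit 251) Col.a (nat_lit 251) (Dv.wd (nat_lit 102) [Mv.b (nat_lit 754), Mv.f (nat_lit 741), Mv.f (nat_lit 754)])))))
(Tr.nd (nat_lit 757) (Tr.lf (Fc.ed (nat_lit 756) (nat_lit 251) Col.f (nat_lit 249) (Dv.wd (nat_lit 109) [Mv.f (nat_lit 751), Mv.b (nat_lit 744), Mv.f (nat_lit 754)])))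
(Tr.nd (nat_lit 758) (Tr.lf (Fc.ed (nat_lit 757) (nat_lit 251) Col.h (nat_lit 251) (Dv.wd (nat_lit 91) [Mv.b (nat_lit 754), Mv.f (nat_lit 745), Mv.f (nat_lit 754)])))
(Tr.lf (Fc.ed (nat_lit 758) (nat_lit 251) Col.k (nat_lit 251) (Dv.wd (nat_lit 140) [Mv.f (nat_lit 756), Mv.f (nat_lit 752), Mv.b (nat_lit 756)]))))))
(Tr.nd (nat_lit 762) (Tr.nd (nat_lit 760) (Tr.lf (Fc.ed (nat_lit 759) (nat_lit 250) Col.c (nat_lit 252) Dv.df))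
(Tr.nd (nat_lit 761) (Tr.lf (Fc.ed (nat_lit 760) (nat_lit 252) Col.b (nat_lit 251) (Dv.wd (nat_lit 141) [Mv.f (nat_lit 755), Mv.f (nat_lit 757), Mv.f (nat_lit 756), Mv.b (nat_lit 750), Mv.b (nat_lit 747), Mv.b (nat_lit 732), Mv.f (nat_lit 714), Mv.f (nat_lit 713), Mv.f (nat_lit 730), Mv.b (nat_lit 727), Mv.b (nat_lit 722), Mv.b (nat_lit 681), Mv.f (nat_lit 662), Mv.b (nat_lit 654), Mv.f (nat_lit 653), Mv.b (nat_lit 700), Mv.f (nat_lit 701), Mv.b (nat_lit 699), Mv.f (nat_lit 585), Mv.f (nat_lit 580), Mv.f (nat_lit 574), Mv.f (nat_lit 578), Mv.f (nat_lit 577), Mv.f (nat_lit 576), Mv.f (nat_lit 517), Mv.f (nat_lit 372), Mv.f (nat_lit 314), Mv.f (nat_lit 288), Mv.f (nat_lit 287), Mv.b (nat_lit 285), Mv.b (nat_lit 411), Mv.b (nat_lit 499), Mv.f (nat_lit 498), Mv.f (nat_lit 497), Mv.b (nat_lit 438),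 Mv.b (nat_lit 470), Mv.b (nat_lit 530), Mv.f (nat_lit 531), Mv.b (nat_lit 529), Mv.f (nat_lit 345), Mv.b (nat_lit 492), Mv.f (nat_lit 491), Mv.f (nat_lit 459), Mv.f (nat_lit 460), Mv.b (nat_lit 457), Mv.b (nat_lit 448), Mv.f (nat_lit 409), Mv.f (nat_lit 407), Mv.f (nat_lit 323), Mv.f (nat_lit 386), Mv.b (nat_lit 322), Mv.f (nat_lit 543), Mv.f (nat_lit 659), Mv.f (nat_lit 681), Mv.f (nat_lit 684), Mv.f (nat_lit 696), Mv.b (nat_lit 698), Mv.b (nat_lit 686), Mv.f (nat_lit 718), Mv.f (nat_lit 719), Mv.f (nat_lit 746), Mv.f (nat_lit 753), Mv.f (nat_lit 759)])))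
(Tr.lf (Fc.ed (nat_lit 761) (nat_lit 252) Col.k (nat_lit 252) (Dv.wd (nat_lit 142) [Mv.f (nat_lit 760), Mv.f (nat_lit 758), Mv.b (nat_lit 760)])))))
(Tr.nd (nat_lit 764) (Tr.nd (nat_lit 763) (Tr.lf (Fc.ed (nat_lit 762) (nat_lit 250) Col.k (nat_lit 250) (Dv.wd (nat_lit 125) [Mv.f (nat_lit 759), Mv.f (nat_lit 761), Mv.b (nat_lit 759)])))
(Tr.lf (Fc.ed (nat_lit 763) (nat_lit 247) Col.k (nat_lit 247) (Dv.wd (nat_lit 143) [Mv.f (nat_lit 753), Mv.f (nat_lit 762), Mv.b (nat_lit 753)]))))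
(Tr.nd (nat_lit 765) (Tr.lf (Fc.ed (nat_lit 764) (nat_lit 239) Col.k (nat_lit 239) (Dv.wd (nat_lit 144) [Mv.f (nat_lit 746), Mv.f (nat_lit 763), Mv.b (nat_lit 746)])))
(Tr.lf (Fc.ed (nat_lit 765) (nat_lit 221) Col.k (nat_lit 221) (Dv.wd (nat_lit 136) [Mv.f (nat_lit 718), Mv.f (nat_lit 764), Mv.b (nat_lit 718)]))))))))
(Tr.nd (nat_lit 779) (Tr.nd (nat_lit 772) (Tr.nd (nat_lit 769) (Tr.nd (nat_lit 767) (Tr.lf (Fc.ed (nat_lit 766) (nat_lit 208) Col.d (nat_lit 253) Dv.df))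
(Tr.nd (nat_lit 768) (Tr.lf (Fc.ed (nat_lit 767) (nat_lit 198) Col.d (nat_lit 254) Dv.df))
(Tr.lf (Fc.ed (nat_lit 768) (nat_lit 254) Col.a (nat_lit 253) (Dv.wd (nat_lit 37) [Mv.b (nat_lit 766), Mv.f (nat_lit 616), Mv.f (nat_lit 767)])))))
(Tr.nd (nat_lit 770) (Tr.lf (Fc.ed (nat_lit 769) (nat_lit 209) Col.d (nat_lit 255) Dv.df))
(Tr.nd (nat_lit 771) (Tr.lf (Fc.ed (nat_lit 770) (nat_lit 255) Col.b (nat_lit 254) (Dv.wd (nat_lit 38) [Mv.b (nat_lit 767), Mv.b (nat_lit 619), Mv.f (nat_lit 769)])))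
(Tr.lf (Fc.ed (nat_lit 771) (nat_lit 214) Col.d (nat_lit 256) Dv.df)))))
(Tr.nd (nat_lit 775) (Tr.nd (nat_lit 773) (Tr.lf (Fc.ed (nat_lit 772) (nat_lit 256) Col.k (nat_lit 217) (Dv.wd (nat_lit 36) [Mv.b (nat_lit 655), Mv.f (nat_lit 647), Mv.f (nat_lit 771)])))
(Tr.nd (nat_lit 774) (Tr.lf (Fc.ed (nat_lit 773) (nat_lit 255) Col.c (nat_lit 257) Dv.df))
(Tr.lf (Fc.ed (nat_lit 774) (nat_lit 257) Col.d (nat_lit 219) (Dv.wd (nat_lit 53) [Mv.b (nat_lit 663), Mv.b (nat_lit 655), Mv.f (nat_lit 650), Mv.f (nat_lit 769), Mv.f (nat_lit 773)])))))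
(Tr.nd (nat_lit 777) (Tr.nd (nat_lit 776) (Tr.lf (Fc.ed (nat_lit 775) (nat_lit 210) Col.d (nat_lit 258) Dv.df))
(Tr.lf (Fc.ed (nat_lit 776) (nat_lit 258) Col.l (nat_lit 255) (Dv.wd (nat_lit 103) [Mv.b (nat_lit 769), Mv.b (nat_lit 621), Mv.f (nat_lit 775)]))))
(Tr.nd (nat_lit 778) (Tr.lf (Fc.ed (nat_lit 777) (nat_lit 206) Col.d (nat_lit 259) Dv.df))
(Tr.lf (Fc.ed (nat_lit 778) (nat_lit 259) Col.k (nat_lit 255) (Dv.wd (nat_lit 36) [Mv.b (nat_lit 769), Mv.f (nat_lit 618), Mv.f (nat_lit 777)])))))))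
(Tr.nd (nat_lit 786) (Tr.nd (nat_lit 782) (Tr.nd (nat_lit 780) (Tr.lf (Fc.ed (nat_lit 779) (nat_lit 259) Col.a (nat_lit 242) (Dv.wd (nat_lit 37) [Mv.b (nat_lit 725), Mv.f (nat_lit 672), Mv.f (nat_lit 777)])))
(Tr.nd (nat_lit 781) (Tr.lf (Fc.ed (nat_lit 780) (nat_lit 257) Col.b (nat_lit 260) Dv.df))
(Tr.lf (Fc.ed (nat_lit 781) (nat_lit 260) Col.d (nat_lit 220) (Dv.wd (nat_lit 23) [Mv.b (nat_lit 665), Mv.b (nat_lit 774), Mv.f (nat_lit 780)])))))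
(Tr.nd (nat_lit 784) (Tr.nd (nat_lit 783) (Tr.lf (Fc.ed (nat_lit 782) (nat_lit 260) Col.a (nat_lit 261) Dv.df))
(Tr.lf (Fc.ed (nat_lit 783) (nat_lit 261) Col.d (nat_lit 221) (Dv.wd (nat_lit 16) [Mv.b (nat_lit 668), Mv.b (nat_lit 781), Mv.f (nat_lit 782)]))))
(Tr.nd (nat_lit 785) (Tr.lf (Fc.ed (nat_lit 784) (nat_lit 261) Col.k (nat_lit 261) (Dv.wd (nat_lit 143) [Mv.f (nat_lit 783), Mv.f (nat_lit 765), Mv.b (nat_lit 783)])))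
(Tr.lf (Fc.ed (nat_lit 785) (nat_lit 219) Col.e (nat_lit 262) Dv.df)))))
(Tr.nd (nat_lit 789) (Tr.nd (nat_lit 787) (Tr.lf (Fc.ed (nat_lit 786) (nat_lit 262) Col.c (nat_lit 223) (Dv.wd (nat_lit 45) [Mv.b (nat_lit 674), Mv.f (nat_lit 663), Mv.f (nat_lit 785)])))
(Tr.nd (nat_lit 788) (Tr.lf (Fc.ed (nat_lit 787) (nat_lit 262) Col.l (nat_lit 263) Dv.df))
(Tr.lf (Fc.ed (nat_lit 788) (nat_lit 263) Col.c (nat_lit 241) (Dv.wd (nat_lit 106) [Mv.f (nat_lit 723), Mv.b (nat_lit 786), Mv.f (nat_lit 787)])))))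
(Tr.nd (nat_lit 791) (Tr.nd (nat_lit 790) (Tr.lf (Fc.ed (nat_lit 789) (nat_lit 263) Col.e (nat_lit 226) (Dv.wd (nat_lit 98) [Mv.f (nat_lit 685), Mv.f (nat_lit 785), Mv.f (nat_lit 787)])))
(Tr.lf (Fc.ed (nat_lit 790) (nat_lit 258) Col.c (nat_lit 264) Dv.df)))
(Tr.nd (nat_lit 792) (Tr.lf (Fc.ed (nat_lit 791) (nat_lit 264) Col.l (nat_lit 257) (Dv.wd (nat_lit 115) [Mv.b (nat_lit 773), Mv.b (nat_lit 776), Mv.f (nat_lit 790)])))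
(Tr.lf (Fc.ed (nat_lit 792) (nat_lit 264) Col.d (nat_lit 226) (Dv.wd (nat_lit 53) [Mv.b (nat_lit 684), Mv.b (nat_lit 681), Mv.f (nat_lit 662), Mv.f (nat_lit 775), Mv.f (nat_lit 790)])))))))))
(Tr.nd (nat_lit 819) (Tr.nd (nat_lit 806) (Tr.nd (nat_lit 799) (Tr.nd (nat_lit 796) (Tr.nd (nat_lit 794) (Tr.lf (Fc.ed (nat_lit 793) (nat_lit 256) Col.c (nat_lit 265) Dv.df))
(Tr.nd (nat_lit 795) (Tr.lf (Fc.ed (nat_lit 794) (nat_lit 265) Col.k (nat_lit 219) (Dv.wd (nat_lit 29) [Mv.b (nat_lit 663), Mv.b (nat_lit 772), Mv.f (nat_lit 793)])))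
(Tr.lf (Fc.ed (nat_lit 795) (nat_lit 265) Col.b (nat_lit 266) Dv.df))))
(Tr.nd (nat_lit 797) (Tr.lf (Fc.ed (nat_lit 796) (nat_lit 266) Col.k (nat_lit 220) (Dv.wd (nat_lit 22) [Mv.b (nat_lit 665), Mv.b (nat_lit 794), Mv.f (nat_lit 795)])))
(Tr.nd (nat_lit 798) (Tr.lf (Fc.ed (nat_lit 797) (nat_lit 260) Col.k (nat_lit 267) Dv.df))
(Tr.lf (Fc.ed (nat_lit 798) (nat_lit 267) Col.d (nat_lit 266) (Dv.wd (nat_lit 10) [Mv.f (nat_lit 796), Mv.b (nat_lit 781), Mv.f (nat_lit 797)]))))))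
(Tr.nd (nat_lit 802) (Tr.nd (nat_lit 800) (Tr.lf (Fc.ed (nat_lit 799) (nat_lit 267) Col.a (nat_lit 267) (Dv.wd (nat_lit 84) [Mv.b (nat_lit 797), Mv.f (nat_lit 782), Mv.f (nat_lit 784), Mv.b (nat_lit 782), Mv.f (nat_lit 797)])))
(Tr.nd (nat_lit 801) (Tr.lf (Fc.ed (nat_lit 800) (nat_lit 265) Col.d (nat_lit 268) Dv.df))
(Tr.lf (Fc.ed (nat_lit 801) (nat_lit 268) Col.k (nat_lit 257) (Dv.wd (nat_lit 36) [Mv.f (nat_lit 774), Mv.b (nat_lit 794), Mv.f (nat_lit 800)])))))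
(Tr.nd (nat_lit 804) (Tr.nd (nat_lit 803) (Tr.lf (Fc.ed (nat_lit 802) (nat_lit 268) Col.b (nat_lit 267) (Dv.wd (nat_lit 38) [Mv.f (nat_lit 798), Mv.b (nat_lit 795), Mv.f (nat_lit 800)])))
(Tr.lf (Fc.ed (nat_lit 803) (nat_lit 268) Col.c (nat_lit 259) (Dv.wd (nat_lit 41) [Mv.b (nat_lit 777), Mv.b (nat_lit 645), Mv.f (nat_lit 771), Mv.f (nat_lit 793), Mv.f (nat_lit 800)]))))
(Tr.nd (nat_lit 805) (Tr.lf (Fc.ed (nat_lit 804) (nat_lit 221) Col.e (nat_lit 269) Dv.df))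
(Tr.lf (Fc.ed (nat_lit 805) (nat_lit 269) Col.h (nat_lit 247) (Dv.wd (nat_lit 64) [Mv.b (nat_lit 746), Mv.b (nat_lit 718), Mv.f (nat_lit 804)])))))))
(Tr.nd (nat_lit 812) (Tr.nd (nat_lit 809) (Tr.nd (nat_lit 807) (Tr.lf (Fc.ed (nat_lit 806) (nat_lit 244) Col.h (nat_lit 270) Dv.df))
(Tr.nd (nat_lit 808) (Tr.lf (Fc.ed (nat_lit 807) (nat_lit 270) Col.c (nat_lit 243) (Dv.wd (nat_lit 51) [Mv.b (nat_lit 730), Mv.f (nat_lit 732), Mv.f (nat_lit 806)])))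
(Tr.lf (Fc.ed (nat_lit 808) (nat_lit 263) Col.f (nat_lit 270) (Dv.wd (nat_lit 145) [Mv.f (nat_lit 807), Mv.b (nat_lit 727), Mv.b (nat_lit 788)])))))
(Tr.nd (nat_lit 810) (Tr.lf (Fc.ed (nat_lit 809) (nat_lit 242) Col.c (nat_lit 271) Dv.df))
(Tr.nd (nat_lit 811) (Tr.lf (Fc.ed (nat_lit 810) (nat_lit 271) Col.a (nat_lit 268) (Dv.wd (nat_lit 30) [Mv.f (nat_lit 803), Mv.f (nat_lit 779), Mv.f (nat_lit 809)])))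
(Tr.lf (Fc.ed (nat_lit 811) (nat_lit 271) Col.b (nat_lit 271) (Dv.wd (nat_lit 146) [Mv.f (nat_lit 810), Mv.f (nat_lit 802), Mv.f (nat_lit 799), Mv.b (nat_lit 802), Mv.b (nat_lit 810)]))))))
(Tr.nd (nat_lit 815) (Tr.nd (nat_lit 813) (Tr.lf (Fc.al (nat_lit 812) (nat_lit 242) (nat_lit 271) (Dv.wd (nat_lit 35) [Mv.f (nat_lit 811), Mv.b (nat_lit 809), Mv.f (nat_lit 726), Mv.f (nat_lit 809), Mv.f (nat_lit 811), Mv.b (nat_lit 809)])))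
(Tr.nd (nat_lit 814) (Tr.lf (Fc.al (nat_lit 813) (nat_lit 259) (nat_lit 268) (Dv.wd (nat_lit 138) [Mv.b (nat_lit 810), Mv.b (nat_lit 812), Mv.b (nat_lit 779)])))
(Tr.lf (Fc.al (nat_lit 814) (nat_lit 255) (nat_lit 257) (Dv.wd (nat_lit 134) [Mv.b (nat_lit 801), Mv.b (nat_lit 813), Mv.f (nat_lit 778)])))))
(Tr.nd (nat_lit 817) (Tr.nd (nat_lit 816) (Tr.lf (Fc.al (nat_lit 815) (nat_lit 258) (nat_lit 264) (Dv.wd (nat_lit 147) [Mv.f (nat_lit 791), Mv.b (nat_lit 814), Mv.b (nat_lit 776)])))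
(Tr.lf (Fc.al (nat_lit 816) (nat_lit 254) (nat_lit 260) (Dv.wd (nat_lit 133) [Mv.b (nat_lit 780), Mv.b (nat_lit 814), Mv.f (nat_lit 770)]))))
(Tr.nd (nat_lit 818) (Tr.lf (Fc.al (nat_lit 817) (nat_lit 210) (nat_lit 226) (Dv.wd (nat_lit 127) [Mv.b (nat_lit 792), Mv.b (nat_lit 815), Mv.b (nat_lit 775)])))
(Tr.lf (Fc.al (nat_lit 818) (nat_lit 253) (nat_lit 261) (Dv.wd (nat_lit 138) [Mv.b (nat_lit 782), Mv.b (nat_lit 816), Mv.f (nat_lit 768)]))))))))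
(Tr.nd (nat_lit 832) (Tr.nd (nat_lit 825) (Tr.nd (nat_lit 822) (Tr.nd (nat_lit 820) (Tr.lf (Fc.al (nat_lit 819) (nat_lit 172) (nat_lit 263) (Dv.wd (nat_lit 128) [Mv.f (nat_lit 789), Mv.b (nat_lit 817), Mv.b (nat_lit 620)])))
(Tr.nd (nat_lit 821) (Tr.lf (Fc.al (nat_lit 820) (nat_lit 208) (nat_lit 221) (Dv.wd (nat_lit 127) [Mv.b (nat_lit 783), Mv.b (nat_lit 818), Mv.b (nat_lit 766)])))
(Tr.lf (Fc.al (nat_lit 821) (nat_lit 105) (nat_lit 270) (Dv.wd (nat_lit 129) [Mv.b (nat_lit 808), Mv.b (nat_lit 819), Mv.f (nat_lit 520)])))))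
(Tr.nd (nat_lit 823) (Tr.lf (Fc.al (nat_lit 822) (nat_lit 149) (nat_lit 269) (Dv.wd (nat_lit 128) [Mv.b (nat_lit 804), Mv.b (nat_lit 820), Mv.b (nat_lit 615)])))
(Tr.nd (nat_lit 824) (Tr.lf (Fc.al (nat_lit 823) (nat_lit 129) (nat_lit 244) (Dv.wd (nat_lit 131) [Mv.f (nat_lit 806), Mv.b (nat_lit 821), Mv.f (nat_lit 405)])))
(Tr.lf (Fc.al (nat_lit 824) (nat_lit 173) (nat_lit 247) (Dv.wd (nat_lit 131) [Mv.b (nat_lit 805), Mv.b (nat_lit 822), Mv.b (nat_lit 523)]))))))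
(Tr.nd (nat_lit 828) (Tr.nd (nat_lit 826) (Tr.lf (Fc.al (nat_lit 825) (nat_lit 128) (nat_lit 248) (Dv.wd (nat_lit 127) [Mv.b (nat_lit 747), Mv.b (nat_lit 823), Mv.b (nat_lit 409)])))
(Tr.nd (nat_lit 827) (Tr.lf (Fc.al (nat_lit 826) (nat_lit 204) (nat_lit 250) (Dv.wd (nat_lit 127) [Mv.b (nat_lit 753), Mv.b (nat_lit 824), Mv.b (nat_lit 608)])))
(Tr.lf (Fc.al (nat_lit 827) (nat_lit 144) (nat_lit 249) (Dv.wd (nat_lit 128) [Mv.b (nat_lit 750), Mv.b (nat_lit 825), Mv.f (nat_lit 448)])))))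
(Tr.nd (nat_lit 830) (Tr.nd (nat_lit 829) (Tr.lf (Fc.al (nat_lit 828) (nat_lit 185) (nat_lit 252) (Dv.wd (nat_lit 132) [Mv.b (nat_lit 759), Mv.b (nat_lit 826), Mv.f (nat_lit 607)])))
(Tr.lf (Fc.al (nat_lit 829) (nat_lit 147) (nat_lit 251) (Dv.wd (nat_lit 129) [Mv.f (nat_lit 756), Mv.b (nat_lit 827), Mv.f (nat_lit 457)]))))
(Tr.nd (nat_lit 831) (Tr.lf (Fc.al (nat_lit 830) (nat_lit 188) (nat_lit 147) (Dv.wd (nat_lit 133) [Mv.f (nat_lit 829), Mv.b (nat_lit 760), Mv.b (nat_lit 828), Mv.b (nat_lit 562)])))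
(Tr.lf (Fc.al (nat_lit 831) (nat_lit 85) (nat_lit 193) (Dv.wd (nat_lit 147) [Mv.f (nat_lit 575), Mv.f (nat_lit 830), Mv.f (nat_lit 458)])))))))
(Tr.nd (nat_lit 839) (Tr.nd (nat_lit 835) (Tr.nd (nat_lit 833) (Tr.lf (Fc.al (nat_lit 832) (nat_lit 51) (nat_lit 171) (Dv.wd (nat_lit 129) [Mv.b (nat_lit 576), Mv.b (nat_lit 831), Mv.b (nat_lit 273)])))
(Tr.nd (nat_lit 834) (Tr.lf (Fc.al (nat_lit 833) (nat_lit 44) (nat_lit 120) (Dv.wd (nat_lit 128) [Mv.b (nat_lit 517), Mv.b (nat_lit 832), Mv.f (nat_lit 187)])))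
(Tr.lf (Fc.al (nat_lit 834) (nat_lit 37) (nat_lit 99) (Dv.wd (nat_lit 127) [Mv.b (nat_lit 372), Mv.b (nat_lit 833), Mv.f (nat_lit 172)])))))
(Tr.nd (nat_lit 837) (Tr.nd (nat_lit 836) (Tr.lf (Fc.al (nat_lit 835) (nat_lit 79) (nat_lit 91) (Dv.wd (nat_lit 132) [Mv.b (nat_lit 314), Mv.b (nat_lit 834), Mv.f (nat_lit 257)])))
(Tr.lf (Fc.al (nat_lit 836) (nat_lit 43) (nat_lit 89) (Dv.wd (nat_lit 131) [Mv.f (nat_lit 285), Mv.b (nat_lit 835), Mv.f (nat_lit 258)]))))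
(Tr.nd (nat_lit 838) (Tr.lf (Fc.al (nat_lit 837) (nat_lit 64) (nat_lit 86) (Dv.wd (nat_lit 127) [Mv.b (nat_lit 283), Mv.b (nat_lit 836), Mv.f (nat_lit 218)])))
(Tr.lf (Fc.al (nat_lit 838) (nat_lit 125) (nat_lit 70) (Dv.wd (nat_lit 128) [Mv.b (nat_lit 275), Mv.b (nat_lit 837), Mv.b (nat_lit 395)]))))))
(Tr.nd (nat_lit 842) (Tr.nd (nat_lit 840) (Tr.lf (Fc.al (nat_lit 839) (nat_lit 62) (nat_lit 67) (Dv.wd (nat_lit 130) [Mv.f (nat_lit 394), Mv.f (nat_lit 838), Mv.b (nat_lit 232)])))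
(Tr.nd (nat_lit 841) (Tr.lf (Fc.al (nat_lit 840) (nat_lit 53) (nat_lit 24) (Dv.wd (nat_lit 131) [Mv.b (nat_lit 225), Mv.b (nat_lit 839), Mv.f (nat_lit 215)])))
(Tr.lf (Fc.al (nat_lit 841) (nat_lit 25) (nat_lit 88) (Dv.wd (nat_lit 127) [Mv.b (nat_lit 277), Mv.f (nat_lit 840), Mv.f (nat_lit 105)])))))
(Tr.nd (nat_lit 844) (Tr.nd (nat_lit 843) (Tr.lf (Fc.al (nat_lit 842) (nat_lit 26) (nat_lit 135) (Dv.wd (nat_lit 132) [Mv.b (nat_lit 422), Mv.b (nat_lit 841), Mv.f (nat_lit 106)])))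
(Tr.lf (Fc.al (nat_lit 843) (nat_lit 27) (nat_lit 166) (Dv.wd (nat_lit 133) [Mv.f (nat_lit 505), Mv.b (nat_lit 842), Mv.f (nat_lit 107)]))))
(Tr.nd (nat_lit 845) (Tr.lf (Fc.al (nat_lit 844) (nat_lit 28) (nat_lit 178) (Dv.wd (nat_lit 138) [Mv.b (nat_lit 536), Mv.b (nat_lit 843), Mv.f (nat_lit 108)])))
(Tr.lf (Fc.ed (nat_lit 845) (nat_lit 28) Col.l (nat_lit 1) (Dv.wd (nat_lit 147) [Mv.b (nat_lit 537), Mv.b (nat_lit 844)])))))))))))))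
noncomputable def mini0A : Tr (Alt Col) := (Tr.nd (nat_lit 74) (Tr.nd (nat_lit 37) (Tr.nd (nat_lit 18) (Tr.nd (nat_lit 9) (Tr.nd (nat_lit 4) (Tr.nd (nat_lit 2) (Tr.nd (nat_lit 1) (Tr.lf (Alt.base (nat_lit 1) [] [Col.a]))
(Tr.lf (Alt.base (nat_lit 2) [] [Col.b])))
(Tr.nd (nat_lit 3) (Tr.lf (Alt.base (nat_lit 3) [] [Col.c]))
(Tr.lf (Alt.base (nat_lit 4) [] [Col.d]))))
(Tr.nd (nat_lit 6) (Tr.nd (nat_lit 5) (Tr.lf (Alt.base (nat_lit 5) [] [Col.e]))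
(Tr.lf (Alt.base (nat_lit 6) [] [Col.f])))
(Tr.nd (nat_lit 7) (Tr.lf (Alt.base (nat_lit 7) [] [Col.h]))
(Tr.nd (nat_lit 8) (Tr.lf (Alt.base (nat_lit 8) [] [Col.i]))
(Tr.lf (Alt.word (nat_lit 12) (nat_lit 2) true [Col.b, Col.k, Col.b, Col.k]))))))
(Tr.nd (nat_lit 13) (Tr.nd (nat_lit 11) (Tr.nd (nat_lit 10) (Tr.lf (Alt.word (nat_lit 13) (nat_lit 2) true [Col.c, Col.k, Col.c, Col.k]))
(Tr.lf (Alt.word (nat_lit 14) (nat_lit 2) true [Col.d, Col.k, Col.d, Col.k])))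
(Tr.nd (nat_lit 12) (Tr.lf (Alt.word (nat_lit 15) (nat_lit 2) true [Col.e, Col.k, Col.e, Col.k]))
(Tr.lf (Alt.word (nat_lit 16) (nat_lit 2) true [Col.f, Col.k, Col.f, Col.k]))))
(Tr.nd (nat_lit 15) (Tr.nd (nat_lit 14) (Tr.lf (Alt.word (nat_lit 17) (nat_lit 2) true [Col.h, Col.k, Col.h, Col.k]))
(Tr.lf (Alt.word (nat_lit 18) (nat_lit 2) true [Col.i, Col.k, Col.i, Col.k])))
(Tr.nd (nat_lit 16) (Tr.lf (Alt.word (nat_lit 21) (nat_lit 2) true [Col.c, Col.a, Col.c, Col.a]))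
(Tr.nd (nat_lit 17) (Tr.lf (Alt.word (nat_lit 22) (nat_lit 2) true [Col.d, Col.a, Col.d, Col.a]))
(Tr.lf (Alt.word (nat_lit 23) (nat_lit 2) true [Col.e, Col.a, Col.e, Col.a])))))))
(Tr.nd (nat_lit 27) (Tr.nd (nat_lit 22) (Tr.nd (nat_lit 20) (Tr.nd (nat_lit 19) (Tr.lf (Alt.word (nat_lit 24) (nat_lit 2) true [Col.f, Col.a, Col.f, Col.a]))
(Tr.lf (Alt.word (nat_lit 25) (nat_lit 2) true [Col.h, Col.a, Col.h, Col.a])))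
(Tr.nd (nat_lit 21) (Tr.lf (Alt.word (nat_lit 26) (nat_lit 2) true [Col.i, Col.a, Col.i, Col.a]))
(Tr.lf (Alt.word (nat_lit 11) (nat_lit 1) true [Col.k, Col.a, Col.k, Col.a, Col.k, Col.a]))))
(Tr.nd (nat_lit 24) (Tr.nd (nat_lit 23) (Tr.lf (Alt.word (nat_lit 12) (nat_lit 1) true [Col.k, Col.b, Col.k, Col.b]))
(Tr.lf (Alt.word (nat_lit 29) (nat_lit 2) true [Col.d, Col.b, Col.d, Col.b])))
(Tr.nd (nat_lit 25) (Tr.lf (Alt.word (nat_lit 30) (nat_lit 2) true [Col.e, Col.b, Col.e, Col.b]))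
(Tr.nd (nat_lit 26) (Tr.lf (Alt.word (nat_lit 31) (nat_lit 2) true [Col.f, Col.b, Col.f, Col.b]))
(Tr.lf (Alt.word (nat_lit 32) (nat_lit 2) true [Col.h, Col.b, Col.h, Col.b]))))))
(Tr.nd (nat_lit 32) (Tr.nd (nat_lit 29) (Tr.nd (nat_lit 28) (Tr.lf (Alt.word (nat_lit 33) (nat_lit 2) true [Col.i, Col.b, Col.i, Col.b]))
(Tr.lf (Alt.word (nat_lit 20) (nat_lit 1) true [Col.a, Col.b, Col.a, Col.b, Col.a, Col.b])))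
(Tr.nd (nat_lit 30) (Tr.lf (Alt.word (nat_lit 13) (nat_lit 1) true [Col.k, Col.c, Col.k, Col.c]))
(Tr.nd (nat_lit 31) (Tr.lf (Alt.word (nat_lit 21) (nat_lit 1) true [Col.a, Col.c, Col.a, Col.c]))
(Tr.lf (Alt.word (nat_lit 36) (nat_lit 2) true [Col.e, Col.c, Col.e, Col.c])))))
(Tr.nd (nat_lit 34) (Tr.nd (nat_lit 33) (Tr.lf (Alt.word (nat_lit 37) (nat_lit 2) true [Col.f, Col.c, Col.f, Col.c]))
(Tr.lf (Alt.word (nat_lit 38) (nat_lit 2) true [Col.h, Col.c, Col.h, Col.c])))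
(Tr.nd (nat_lit 35) (Tr.lf (Alt.word (nat_lit 39) (nat_lit 2) true [Col.i, Col.c, Col.i, Col.c]))
(Tr.nd (nat_lit 36) (Tr.lf (Alt.word (nat_lit 28) (nat_lit 1) true [Col.b, Col.c, Col.b, Col.c, Col.b, Col.c]))
(Tr.lf (Alt.word (nat_lit 14) (nat_lit 1) true [Col.k, Col.d, Col.k, Col.d]))))))))
(Tr.nd (nat_lit 55) (Tr.nd (nat_lit 46) (Tr.nd (nat_lit 41) (Tr.nd (nat_lit 39) (Tr.nd (nat_lit 38) (Tr.lf (Alt.word (nat_lit 22) (nat_lit 1) true [Col.a, Col.d, Col.a, Col.d]))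
(Tr.lf (Alt.word (nat_lit 29) (nat_lit 1) true [Col.b, Col.d, Col.b, Col.d])))
(Tr.nd (nat_lit 40) (Tr.lf (Alt.word (nat_lit 42) (nat_lit 2) true [Col.f, Col.d, Col.f, Col.d]))
(Tr.lf (Alt.word (nat_lit 44) (nat_lit 2) true [Col.i, Col.d, Col.i, Col.d]))))
(Tr.nd (nat_lit 43) (Tr.nd (nat_lit 42) (Tr.lf (Alt.word (nat_lit 35) (nat_lit 1) true [Col.c, Col.d, Col.c, Col.d, Col.c, Col.d]))
(Tr.lf (Alt.word (nat_lit 15) (nat_lit 1) true [Col.k, Col.e, Col.k, Col.e])))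
(Tr.nd (nat_lit 44) (Tr.lf (Alt.word (nat_lit 23) (nat_lit 1) true [Col.a, Col.e, Col.a, Col.e]))
(Tr.nd (nat_lit 45) (Tr.lf (Alt.word (nat_lit 30) (nat_lit 1) true [Col.b, Col.e, Col.b, Col.e]))
(Tr.lf (Alt.word (nat_lit 36) (nat_lit 1) true [Col.c, Col.e, Col.c, Col.e]))))))
(Tr.nd (nat_lit 50) (Tr.nd (nat_lit 48) (Tr.nd (nat_lit 47) (Tr.lf (Alt.word (nat_lit 48) (nat_lit 2) true [Col.i, Col.e, Col.i, Col.e]))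
(Tr.lf (Alt.word (nat_lit 41) (nat_lit 1) true [Col.d, Col.e, Col.d, Col.e, Col.d, Col.e])))
(Tr.nd (nat_lit 49) (Tr.lf (Alt.word (nat_lit 17) (nat_lit 1) true [Col.k, Col.h, Col.k, Col.h]))
(Tr.lf (Alt.word (nat_lit 25) (nat_lit 1) true [Col.a, Col.h, Col.a, Col.h]))))
(Tr.nd (nat_lit 52) (Tr.nd (nat_lit 51) (Tr.lf (Alt.word (nat_lit 32) (nat_lit 1) true [Col.b, Col.h, Col.b, Col.h]))
(Tr.lf (Alt.word (nat_lit 38) (nat_lit 1) true [Col.c, Col.h, Col.c, Col.h])))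
(Tr.nd (nat_lit 53) (Tr.lf (Alt.word (nat_lit 43) (nat_lit 2) true [Col.h, Col.d, Col.h, Col.d, Col.h, Col.d]))
(Tr.nd (nat_lit 54) (Tr.lf (Alt.word (nat_lit 35) (nat_lit 2) true [Col.d, Col.c, Col.d, Col.c, Col.d, Col.c]))
(Tr.lf (Alt.word (nat_lit 28) (nat_lit 2) true [Col.c, Col.b, Col.c, Col.b, Col.c, Col.b])))))))
(Tr.nd (nat_lit 64) (Tr.nd (nat_lit 59) (Tr.nd (nat_lit 57) (Tr.nd (nat_lit 56) (Tr.lf (Alt.word (nat_lit 20) (nat_lit 2) true [Col.b, Col.a, Col.b, Col.a, Col.b, Col.a]))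
(Tr.lf (Alt.word (nat_lit 33) (nat_lit 1) true [Col.b, Col.i, Col.b, Col.i])))
(Tr.nd (nat_lit 58) (Tr.lf (Alt.word (nat_lit 39) (nat_lit 1) true [Col.c, Col.i, Col.c, Col.i]))
(Tr.lf (Alt.word (nat_lit 44) (nat_lit 1) true [Col.d, Col.i, Col.d, Col.i]))))
(Tr.nd (nat_lit 61) (Tr.nd (nat_lit 60) (Tr.lf (Alt.word (nat_lit 41) (nat_lit 2) true [Col.e, Col.d, Col.e, Col.d, Col.e, Col.d]))
(Tr.lf (Alt.word (nat_lit 47) (nat_lit 1) true [Col.e, Col.h, Col.e, Col.h])))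
(Tr.nd (nat_lit 62) (Tr.lf (Alt.word (nat_lit 48) (nat_lit 1) true [Col.e, Col.i, Col.e, Col.i]))
(Tr.nd (nat_lit 63) (Tr.lf (Alt.word (nat_lit 18) (nat_lit 1) true [Col.k, Col.i, Col.k, Col.i]))
(Tr.lf (Alt.word (nat_lit 26) (nat_lit 1) true [Col.a, Col.i, Col.a, Col.i]))))))
(Tr.nd (nat_lit 69) (Tr.nd (nat_lit 66) (Tr.nd (nat_lit 65) (Tr.lf (Alt.word (nat_lit 47) (nat_lit 2) true [Col.h, Col.e, Col.h, Col.e]))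
(Tr.lf (Alt.word (nat_lit 50) (nat_lit 3) true [Col.f, Col.h, Col.f, Col.h])))
(Tr.nd (nat_lit 67) (Tr.lf (Alt.word (nat_lit 43) (nat_lit 5) true [Col.d, Col.h, Col.d, Col.h, Col.d, Col.h]))
(Tr.nd (nat_lit 68) (Tr.lf (Alt.word (nat_lit 41) (nat_lit 4) true [Col.e, Col.d, Col.e, Col.d, Col.e, Col.d]))
(Tr.lf (Alt.word (nat_lit 48) (nat_lit 3) true [Col.e, Col.i, Col.e, Col.i])))))
(Tr.nd (nat_lit 71) (Tr.nd (nat_lit 70) (Tr.lf (Alt.word (nat_lit 47) (nat_lit 3) true [Col.e, Col.h, Col.e, Col.h]))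
(Tr.lf (Alt.word (nat_lit 41) (nat_lit 3) true [Col.d, Col.e, Col.d, Col.e, Col.d, Col.e])))
(Tr.nd (nat_lit 72) (Tr.lf (Alt.word (nat_lit 35) (nat_lit 3) true [Col.c, Col.d, Col.c, Col.d, Col.c, Col.d]))
(Tr.nd (nat_lit 73) (Tr.lf (Alt.word (nat_lit 38) (nat_lit 3) true [Col.c, Col.h, Col.c, Col.h]))
(Tr.lf (Alt.word (nat_lit 39) (nat_lit 3) true [Col.c, Col.i, Col.c, Col.i])))))))))
(Tr.nd (nat_lit 111) (Tr.nd (nat_lit 92) (Tr.nd (nat_lit 83) (Tr.nd (nat_lit 78) (Tr.nd (nat_lit 76) (Tr.nd (nat_lit 75) (Tr.lf (Alt.word (nat_lit 28) (nat_lit 3) true [Col.b, Col.c, Col.b, Col.c, Col.b, Col.c]))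
(Tr.lf (Alt.word (nat_lit 16) (nat_lit 1) true [Col.k, Col.f, Col.k, Col.f])))
(Tr.nd (nat_lit 77) (Tr.lf (Alt.word (nat_lit 37) (nat_lit 1) true [Col.c, Col.f, Col.c, Col.f]))
(Tr.lf (Alt.word (nat_lit 42) (nat_lit 1) true [Col.d, Col.f, Col.d, Col.f]))))
(Tr.nd (nat_lit 80) (Tr.nd (nat_lit 79) (Tr.lf (Alt.word (nat_lit 50) (nat_lit 2) true [Col.h, Col.f, Col.h, Col.f]))
(Tr.lf (Alt.word (nat_lit 24) (nat_lit 3) true [Col.a, Col.f, Col.a, Col.f])))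
(Tr.nd (nat_lit 81) (Tr.lf (Alt.word (nat_lit 24) (nat_lit 1) true [Col.a, Col.f, Col.a, Col.f]))
(Tr.nd (nat_lit 82) (Tr.lf (Alt.word (nat_lit 51) (nat_lit 2) true [Col.i, Col.f, Col.i, Col.f]))
(Tr.lf (Alt.word (nat_lit 53) (nat_lit 1) true [Col.h, Col.i, Col.h, Col.i, Col.h, Col.i]))))))
(Tr.nd (nat_lit 87) (Tr.nd (nat_lit 85) (Tr.nd (nat_lit 84) (Tr.lf (Alt.word (nat_lit 51) (nat_lit 3) true [Col.f, Col.i, Col.f, Col.i]))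
(Tr.lf (Alt.word (nat_lit 11) (nat_lit 2) true [Col.a, Col.k, Col.a, Col.k, Col.a, Col.k])))
(Tr.nd (nat_lit 86) (Tr.lf (Alt.word (nat_lit 21) (nat_lit 3) true [Col.a, Col.c, Col.a, Col.c]))
(Tr.lf (Alt.word (nat_lit 23) (nat_lit 3) true [Col.a, Col.e, Col.a, Col.e]))))
(Tr.nd (nat_lit 89) (Tr.nd (nat_lit 88) (Tr.lf (Alt.word (nat_lit 22) (nat_lit 3) true [Col.a, Col.d, Col.a, Col.d]))
(Tr.lf (Alt.word (nat_lit 25) (nat_lit 3) true [Col.a, Col.h, Col.a, Col.h])))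
(Tr.nd (nat_lit 90) (Tr.lf (Alt.word (nat_lit 50) (nat_lit 1) true [Col.f, Col.h, Col.f, Col.h]))
(Tr.nd (nat_lit 91) (Tr.lf (Alt.word (nat_lit 42) (nat_lit 3) true [Col.d, Col.f, Col.d, Col.f]))
(Tr.lf (Alt.word (nat_lit 8) (nat_lit 2) true [Col.h, Col.l, Col.h, Col.l])))))))
(Tr.nd (nat_lit 101) (Tr.nd (nat_lit 96) (Tr.nd (nat_lit 94) (Tr.nd (nat_lit 93) (Tr.lf (Alt.word (nat_lit 31) (nat_lit 1) true [Col.b, Col.f, Col.b, Col.f]))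
(Tr.lf (Alt.word (nat_lit 43) (nat_lit 1) true [Col.d, Col.h, Col.d, Col.h, Col.d, Col.h])))
(Tr.nd (nat_lit 95) (Tr.lf (Alt.word (nat_lit 46) (nat_lit 5) true [Col.e, Col.f, Col.e, Col.f, Col.e, Col.f]))
(Tr.lf (Alt.word (nat_lit 46) (nat_lit 2) true [Col.f, Col.e, Col.f, Col.e, Col.f, Col.e]))))
(Tr.nd (nat_lit 98) (Tr.nd (nat_lit 97) (Tr.lf (Alt.word (nat_lit 9) (nat_lit 2) true [Col.i, Col.l, Col.i, Col.l]))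
(Tr.lf (Alt.word (nat_lit 51) (nat_lit 1) true [Col.f, Col.i, Col.f, Col.i])))
(Tr.nd (nat_lit 99) (Tr.lf (Alt.word (nat_lit 6) (nat_lit 2) true [Col.e, Col.l, Col.e, Col.l]))
(Tr.nd (nat_lit 100) (Tr.lf (Alt.word (nat_lit 46) (nat_lit 1) true [Col.e, Col.f, Col.e, Col.f, Col.e, Col.f]))
(Tr.lf (Alt.word (nat_lit 3) (nat_lit 2) true [Col.b, Col.l, Col.b, Col.l]))))))
(Tr.nd (nat_lit 106) (Tr.nd (nat_lit 103) (Tr.nd (nat_lit 102) (Tr.lf (Alt.word (nat_lit 5) (nat_lit 2) true [Col.d, Col.l, Col.d, Col.l]))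
(Tr.lf (Alt.word (nat_lit 2) (nat_lit 2) true [Col.a, Col.l, Col.a, Col.l])))
(Tr.nd (nat_lit 104) (Tr.lf (Alt.word (nat_lit 5) (nat_lit 1) true [Col.l, Col.d, Col.l, Col.d]))
(Tr.nd (nat_lit 105) (Tr.lf (Alt.word (nat_lit 9) (nat_lit 1) true [Col.l, Col.i, Col.l, Col.i]))
(Tr.lf (Alt.word (nat_lit 8) (nat_lit 1) true [Col.l, Col.h, Col.l, Col.h])))))
(Tr.nd (nat_lit 108) (Tr.nd (nat_lit 107) (Tr.lf (Alt.word (nat_lit 4) (nat_lit 2) true [Col.c, Col.l, Col.c, Col.l]))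
(Tr.lf (Alt.word (nat_lit 2) (nat_lit 1) true [Col.l, Col.a, Col.l, Col.a])))
(Tr.nd (nat_lit 109) (Tr.lf (Alt.word (nat_lit 35) (nat_lit 5) true [Col.c, Col.d, Col.c, Col.d, Col.c, Col.d]))
(Tr.nd (nat_lit 110) (Tr.lf (Alt.word (nat_lit 7) (nat_lit 2) true [Col.f, Col.l, Col.f, Col.l]))
(Tr.lf (Alt.word (nat_lit 7) (nat_lit 1) true [Col.l, Col.f, Col.l, Col.f]))))))))
(Tr.nd (nat_lit 129) (Tr.nd (nat_lit 120) (Tr.nd (nat_lit 115) (Tr.nd (nat_lit 113) (Tr.nd (nat_lit 112) (Tr.lf (Alt.word (nat_lit 36) (nat_lit 3) true [Col.c, Col.e, Col.c, Col.e]))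
(Tr.lf (Alt.word (nat_lit 6) (nat_lit 1) true [Col.l, Col.e, Col.l, Col.e])))
(Tr.nd (nat_lit 114) (Tr.lf (Alt.word (nat_lit 20) (nat_lit 3) true [Col.a, Col.b, Col.a, Col.b, Col.a, Col.b]))
(Tr.lf (Alt.word (nat_lit 26) (nat_lit 3) true [Col.a, Col.i, Col.a, Col.i]))))
(Tr.nd (nat_lit 117) (Tr.nd (nat_lit 116) (Tr.lf (Alt.word (nat_lit 4) (nat_lit 1) true [Col.l, Col.c, Col.l, Col.c]))
(Tr.lf (Alt.word (nat_lit 3) (nat_lit 1) true [Col.l, Col.b, Col.l, Col.b])))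
(Tr.nd (nat_lit 118) (Tr.lf (Alt.word (nat_lit 2) (nat_lit 0) true [Col.a, Col.l, Col.a, Col.l]))
(Tr.nd (nat_lit 119) (Tr.lf (Alt.word (nat_lit 5) (nat_lit 0) true [Col.d, Col.l, Col.d, Col.l]))
(Tr.lf (Alt.word (nat_lit 30) (nat_lit 3) true [Col.b, Col.e, Col.b, Col.e]))))))
(Tr.nd (nat_lit 124) (Tr.nd (nat_lit 122) (Tr.nd (nat_lit 121) (Tr.lf (Alt.word (nat_lit 31) (nat_lit 3) true [Col.b, Col.f, Col.b, Col.f]))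
(Tr.lf (Alt.word (nat_lit 12) (nat_lit 0) true [Col.b, Col.k, Col.b, Col.k])))
(Tr.nd (nat_lit 123) (Tr.lf (Alt.word (nat_lit 15) (nat_lit 0) true [Col.e, Col.k, Col.e, Col.k]))
(Tr.lf (Alt.word (nat_lit 32) (nat_lit 3) true [Col.b, Col.h, Col.b, Col.h]))))
(Tr.nd (nat_lit 126) (Tr.nd (nat_lit 125) (Tr.lf (Alt.word (nat_lit 55) (nat_lit 9) true [Col.c, Col.d, Col.e, Col.f, Col.h, Col.a, Col.b, Col.c, Col.d, Col.e, Col.f, Col.h, Col.a, Col.b, Col.c, Col.d, Col.e, Col.f, Col.h, Col.a, Col.b, Col.c, Col.d, Col.e, Col.f, Col.h, Col.a, Col.b, Col.c, Col.d, Col.e, Col.f, Col.h, Col.a, Col.b, Col.c, Col.d, Col.e, Col.f, Col.h, Col.a, Col.b, Col.c, Col.d, Col.e, Col.f, Col.h, Col.a, Col.b, Col.c, Col.d, Col.e, Col.f, Col.h, Col.l, Col.a, Col.b, Col.c, Col.d, Col.e, Col.f, Col.h, Col.a, Col.b]))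
(Tr.lf (Alt.word (nat_lit 13) (nat_lit 3) true [Col.k, Col.c, Col.k, Col.c])))
(Tr.nd (nat_lit 127) (Tr.lf (Alt.word (nat_lit 17) (nat_lit 0) true [Col.h, Col.k, Col.h, Col.k]))
(Tr.nd (nat_lit 128) (Tr.lf (Alt.word (nat_lit 40) (nat_lit 0) true [Col.d, Col.d]))
(Tr.lf (Alt.word (nat_lit 45) (nat_lit 0) true [Col.e, Col.e])))))))
(Tr.nd (nat_lit 138) (Tr.nd (nat_lit 133) (Tr.nd (nat_lit 131) (Tr.nd (nat_lit 130) (Tr.lf (Alt.word (nat_lit 49) (nat_lit 0) true [Col.f, Col.f]))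
(Tr.lf (Alt.word (nat_lit 54) (nat_lit 0) true [Col.i, Col.i])))
(Tr.nd (nat_lit 132) (Tr.lf (Alt.word (nat_lit 52) (nat_lit 0) true [Col.h, Col.h]))
(Tr.lf (Alt.word (nat_lit 34) (nat_lit 0) true [Col.c, Col.c]))))
(Tr.nd (nat_lit 135) (Tr.nd (nat_lit 134) (Tr.lf (Alt.word (nat_lit 27) (nat_lit 0) true [Col.b, Col.b]))
(Tr.lf (Alt.word (nat_lit 10) (nat_lit 0) true [Col.k, Col.k])))
(Tr.nd (nat_lit 136) (Tr.lf (Alt.word (nat_lit 8) (nat_lit 0) true [Col.h, Col.l, Col.h, Col.l]))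
(Tr.nd (nat_lit 137) (Tr.lf (Alt.word (nat_lit 17) (nat_lit 3) true [Col.k, Col.h, Col.k, Col.h]))
(Tr.lf (Alt.word (nat_lit 55) (nat_lit 8) true [Col.b, Col.c, Col.d, Col.e, Col.f, Col.h, Col.a, Col.b, Col.c, Col.d, Col.e, Col.f, Col.h, Col.a, Col.b, Col.c, Col.d, Col.e, Col.f, Col.h, Col.a, Col.b, Col.c, Col.d, Col.e, Col.f, Col.h, Col.a, Col.b, Col.c, Col.d, Col.e, Col.f, Col.h, Col.a, Col.b, Col.c, Col.d, Col.e, Col.f, Col.h, Col.a, Col.b, Col.c, Col.d, Col.e, Col.f, Col.h, Col.a, Col.b, Col.c, Col.d, Col.e, Col.f, Col.h, Col.l, Col.a, Col.b, Col.c, Col.d, Col.e, Col.f, Col.h, Col.a]))))))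
(Tr.nd (nat_lit 143) (Tr.nd (nat_lit 140) (Tr.nd (nat_lit 139) (Tr.lf (Alt.word (nat_lit 19) (nat_lit 0) true [Col.a, Col.a]))
(Tr.lf (Alt.word (nat_lit 43) (nat_lit 0) true [Col.h, Col.d, Col.h, Col.d, Col.h, Col.d])))
(Tr.nd (nat_lit 141) (Tr.lf (Alt.word (nat_lit 16) (nat_lit 3) true [Col.k, Col.f, Col.k, Col.f]))
(Tr.nd (nat_lit 142) (Tr.lf (Alt.word (nat_lit 55) (nat_lit 6) false [Col.b, Col.a, Col.h, Col.f, Col.e, Col.d, Col.c, Col.b, Col.a, Col.h, Col.f, Col.e, Col.d, Col.c, Col.b, Col.a, Col.h, Col.f, Col.e, Col.d, Col.c, Col.b, Col.a, Col.h, Col.f, Col.e, Col.d, Col.c, Col.b, Col.a, Col.h, Col.f, Col.e, Col.d, Col.c, Col.b, Col.a, Col.h, Col.f, Col.e, Col.d, Col.c, Col.b, Col.a, Col.h, Col.f, Col.e, Col.d, Col.c, Col.b, Col.a, Col.h, Col.f, Col.e, Col.d, Col.c, Col.b, Col.a, Col.l, Col.h,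 Col.f, Col.e, Col.d, Col.c]))
(Tr.lf (Alt.word (nat_lit 12) (nat_lit 3) true [Col.k, Col.b, Col.k, Col.b])))))
(Tr.nd (nat_lit 145) (Tr.nd (nat_lit 144) (Tr.lf (Alt.word (nat_lit 14) (nat_lit 3) true [Col.k, Col.d, Col.k, Col.d]))
(Tr.lf (Alt.word (nat_lit 15) (nat_lit 3) true [Col.k, Col.e, Col.k, Col.e])))
(Tr.nd (nat_lit 146) (Tr.lf (Alt.word (nat_lit 37) (nat_lit 0) true [Col.f, Col.c, Col.f, Col.c]))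
(Tr.nd (nat_lit 147) (Tr.lf (Alt.word (nat_lit 20) (nat_lit 0) true [Col.b, Col.a, Col.b, Col.a, Col.b, Col.a]))
(Tr.lf (Alt.word (nat_lit 0) (nat_lit 0) true [Col.l, Col.l]))))))))))
noncomputable def mini0P : Tr ℕ := (Tr.nd (nat_lit 136) (Tr.nd (nat_lit 68) (Tr.nd (nat_lit 34) (Tr.nd (nat_lit 17) (Tr.nd (nat_lit 8) (Tr.nd (nat_lit 4) (Tr.nd (nat_lit 2) (Tr.nd (nat_lit 1) (Tr.lf (nat_lit 0))
(Tr.lf (nat_lit 0)))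
(Tr.nd (nat_lit 3) (Tr.lf (nat_lit 1))
(Tr.lf (nat_lit 2))))
(Tr.nd (nat_lit 6) (Tr.nd (nat_lit 5) (Tr.lf (nat_lit 3))
(Tr.lf (nat_lit 4)))
(Tr.nd (nat_lit 7) (Tr.lf (nat_lit 5))
(Tr.lf (nat_lit 6)))))
(Tr.nd (nat_lit 12) (Tr.nd (nat_lit 10) (Tr.nd (nat_lit 9) (Tr.lf (nat_lit 7))
(Tr.lf (nat_lit 8)))
(Tr.nd (nat_lit 11) (Tr.lf (nat_lit 9))
(Tr.lf (nat_lit 10))))
(Tr.nd (nat_lit 14) (Tr.nd (nat_lit 13) (Tr.lf (nat_lit 11))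
(Tr.lf (nat_lit 12)))
(Tr.nd (nat_lit 15) (Tr.lf (nat_lit 13))
(Tr.nd (nat_lit 16) (Tr.lf (nat_lit 14))
(Tr.lf (nat_lit 15)))))))
(Tr.nd (nat_lit 25) (Tr.nd (nat_lit 21) (Tr.nd (nat_lit 19) (Tr.nd (nat_lit 18) (Tr.lf (nat_lit 16))
(Tr.lf (nat_lit 17)))
(Tr.nd (nat_lit 20) (Tr.lf (nat_lit 18))
(Tr.lf (nat_lit 19))))
(Tr.nd (nat_lit 23) (Tr.nd (nat_lit 22) (Tr.lf (nat_lit 20))
(Tr.lf (nat_lit 21)))
(Tr.nd (nat_lit 24) (Tr.lf (nat_lit 22))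
(Tr.lf (nat_lit 23)))))
(Tr.nd (nat_lit 29) (Tr.nd (nat_lit 27) (Tr.nd (nat_lit 26) (Tr.lf (nat_lit 24))
(Tr.lf (nat_lit 25)))
(Tr.nd (nat_lit 28) (Tr.lf (nat_lit 26))
(Tr.lf (nat_lit 27))))
(Tr.nd (nat_lit 31) (Tr.nd (nat_lit 30) (Tr.lf (nat_lit 10))
(Tr.lf (nat_lit 14)))
(Tr.nd (nat_lit 32) (Tr.lf (nat_lit 7))
(Tr.nd (nat_lit 33) (Tr.lf (nat_lit 9))
(Tr.lf (nat_lit 10))))))))
(Tr.nd (nat_lit 51) (Tr.nd (nat_lit 42) (Tr.nd (nat_lit 38) (Tr.nd (nat_lit 36) (Tr.nd (nat_lit 35) (Tr.lf (nat_lit 29))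
(Tr.lf (nat_lit 34)))
(Tr.nd (nat_lit 37) (Tr.lf (nat_lit 33))
(Tr.lf (nat_lit 17))))
(Tr.nd (nat_lit 40) (Tr.nd (nat_lit 39) (Tr.lf (nat_lit 15))
(Tr.lf (nat_lit 32)))
(Tr.nd (nat_lit 41) (Tr.lf (nat_lit 32))
(Tr.lf (nat_lit 7)))))
(Tr.nd (nat_lit 46) (Tr.nd (nat_lit 44) (Tr.nd (nat_lit 43) (Tr.lf (nat_lit 18))
(Tr.lf (nat_lit 21)))
(Tr.nd (nat_lit 45) (Tr.lf (nat_lit 16))
(Tr.lf (nat_lit 19))))
(Tr.nd (nat_lit 48) (Tr.nd (nat_lit 47) (Tr.lf (nat_lit 45))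
(Tr.lf (nat_lit 38)))
(Tr.nd (nat_lit 49) (Tr.lf (nat_lit 46))
(Tr.nd (nat_lit 50) (Tr.lf (nat_lit 45))
(Tr.lf (nat_lit 11)))))))
(Tr.nd (nat_lit 59) (Tr.nd (nat_lit 55) (Tr.nd (nat_lit 53) (Tr.nd (nat_lit 52) (Tr.lf (nat_lit 15))
(Tr.lf (nat_lit 50)))
(Tr.nd (nat_lit 54) (Tr.lf (nat_lit 5))
(Tr.lf (nat_lit 43))))
(Tr.nd (nat_lit 57) (Tr.nd (nat_lit 56) (Tr.lf (nat_lit 41))
(Tr.lf (nat_lit 49)))
(Tr.nd (nat_lit 58) (Tr.lf (nat_lit 56))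
(Tr.lf (nat_lit 12)))))
(Tr.nd (nat_lit 63) (Tr.nd (nat_lit 61) (Tr.nd (nat_lit 60) (Tr.lf (nat_lit 15))
(Tr.lf (nat_lit 14)))
(Tr.nd (nat_lit 62) (Tr.lf (nat_lit 58))
(Tr.lf (nat_lit 31))))
(Tr.nd (nat_lit 65) (Tr.nd (nat_lit 64) (Tr.lf (nat_lit 52))
(Tr.lf (nat_lit 43)))
(Tr.nd (nat_lit 66) (Tr.lf (nat_lit 29))
(Tr.nd (nat_lit 67) (Tr.lf (nat_lit 22))
(Tr.lf (nat_lit 22)))))))))
(Tr.nd (nat_lit 102) (Tr.nd (nat_lit 85) (Tr.nd (nat_lit 76) (Tr.nd (nat_lit 72) (Tr.nd (nat_lit 70) (Tr.nd (nat_lit 69) (Tr.lf (nat_lit 60))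
(Tr.lf (nat_lit 35)))
(Tr.nd (nat_lit 71) (Tr.lf (nat_lit 62))
(Tr.lf (nat_lit 34))))
(Tr.nd (nat_lit 74) (Tr.nd (nat_lit 73) (Tr.lf (nat_lit 8))
(Tr.lf (nat_lit 40)))
(Tr.nd (nat_lit 75) (Tr.lf (nat_lit 72))
(Tr.lf (nat_lit 36)))))
(Tr.nd (nat_lit 80) (Tr.nd (nat_lit 78) (Tr.nd (nat_lit 77) (Tr.lf (nat_lit 64))
(Tr.lf (nat_lit 72)))
(Tr.nd (nat_lit 79) (Tr.lf (nat_lit 39))
(Tr.lf (nat_lit 37))))
(Tr.nd (nat_lit 82) (Tr.nd (nat_lit 81) (Tr.lf (nat_lit 7))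
(Tr.lf (nat_lit 10)))
(Tr.nd (nat_lit 83) (Tr.lf (nat_lit 41))
(Tr.nd (nat_lit 84) (Tr.lf (nat_lit 21))
(Tr.lf (nat_lit 8)))))))
(Tr.nd (nat_lit 93) (Tr.nd (nat_lit 89) (Tr.nd (nat_lit 87) (Tr.nd (nat_lit 86) (Tr.lf (nat_lit 51))
(Tr.lf (nat_lit 80)))
(Tr.nd (nat_lit 88) (Tr.lf (nat_lit 20))
(Tr.lf (nat_lit 53))))
(Tr.nd (nat_lit 91) (Tr.nd (nat_lit 90) (Tr.lf (nat_lit 84))
(Tr.lf (nat_lit 11)))
(Tr.nd (nat_lit 92) (Tr.lf (nat_lit 89))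
(Tr.lf (nat_lit 12)))))
(Tr.nd (nat_lit 97) (Tr.nd (nat_lit 95) (Tr.nd (nat_lit 94) (Tr.lf (nat_lit 13))
(Tr.lf (nat_lit 6)))
(Tr.nd (nat_lit 96) (Tr.lf (nat_lit 83))
(Tr.lf (nat_lit 33))))
(Tr.nd (nat_lit 99) (Tr.nd (nat_lit 98) (Tr.lf (nat_lit 65))
(Tr.lf (nat_lit 93)))
(Tr.nd (nat_lit 100) (Tr.lf (nat_lit 71))
(Tr.nd (nat_lit 101) (Tr.lf (nat_lit 98))
(Tr.lf (nat_lit 36))))))))
(Tr.nd (nat_lit 119) (Tr.nd (nat_lit 110) (Tr.nd (nat_lit 106) (Tr.nd (nat_lit 104) (Tr.nd (nat_lit 103) (Tr.lf (nat_lit 35))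
(Tr.lf (nat_lit 95)))
(Tr.nd (nat_lit 105) (Tr.lf (nat_lit 33))
(Tr.lf (nat_lit 42))))
(Tr.nd (nat_lit 108) (Tr.nd (nat_lit 107) (Tr.lf (nat_lit 96))
(Tr.lf (nat_lit 39)))
(Tr.nd (nat_lit 109) (Tr.lf (nat_lit 96))
(Tr.lf (nat_lit 98)))))
(Tr.nd (nat_lit 114) (Tr.nd (nat_lit 112) (Tr.nd (nat_lit 111) (Tr.lf (nat_lit 61))
(Tr.lf (nat_lit 48)))
(Tr.nd (nat_lit 113) (Tr.lf (nat_lit 92))
(Tr.lf (nat_lit 69))))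
(Tr.nd (nat_lit 116) (Tr.nd (nat_lit 115) (Tr.lf (nat_lit 18))
(Tr.lf (nat_lit 49)))
(Tr.nd (nat_lit 117) (Tr.lf (nat_lit 112))
(Tr.nd (nat_lit 118) (Tr.lf (nat_lit 77))
(Tr.lf (nat_lit 104)))))))
(Tr.nd (nat_lit 127) (Tr.nd (nat_lit 123) (Tr.nd (nat_lit 121) (Tr.nd (nat_lit 120) (Tr.lf (nat_lit 100))
(Tr.lf (nat_lit 102)))
(Tr.nd (nat_lit 122) (Tr.lf (nat_lit 69))
(Tr.lf (nat_lit 108))))
(Tr.nd (nat_lit 125) (Tr.nd (nat_lit 124) (Tr.lf (nat_lit 30))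
(Tr.lf (nat_lit 17)))
(Tr.nd (nat_lit 126) (Tr.lf (nat_lit 67))
(Tr.lf (nat_lit 123)))))
(Tr.nd (nat_lit 131) (Tr.nd (nat_lit 129) (Tr.nd (nat_lit 128) (Tr.lf (nat_lit 116))
(Tr.lf (nat_lit 126)))
(Tr.nd (nat_lit 130) (Tr.lf (nat_lit 105))
(Tr.lf (nat_lit 77))))
(Tr.nd (nat_lit 133) (Tr.nd (nat_lit 132) (Tr.lf (nat_lit 107))
(Tr.lf (nat_lit 126)))
(Tr.nd (nat_lit 134) (Tr.lf (nat_lit 45))
(Tr.nd (nat_lit 135) (Tr.lf (nat_lit 108))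
(Tr.lf (nat_lit 88))))))))))
(Tr.nd (nat_lit 204) (Tr.nd (nat_lit 170) (Tr.nd (nat_lit 153) (Tr.nd (nat_lit 144) (Tr.nd (nat_lit 140) (Tr.nd (nat_lit 138) (Tr.nd (nat_lit 137) (Tr.lf (nat_lit 129))
(Tr.lf (nat_lit 63)))
(Tr.nd (nat_lit 139) (Tr.lf (nat_lit 131))
(Tr.lf (nat_lit 97))))
(Tr.nd (nat_lit 142) (Tr.nd (nat_lit 141) (Tr.lf (nat_lit 100))
(Tr.lf (nat_lit 140)))
(Tr.nd (nat_lit 143) (Tr.lf (nat_lit 115))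
(Tr.lf (nat_lit 18)))))
(Tr.nd (nat_lit 148) (Tr.nd (nat_lit 146) (Tr.nd (nat_lit 145) (Tr.lf (nat_lit 128))
(Tr.lf (nat_lit 48)))
(Tr.nd (nat_lit 147) (Tr.lf (nat_lit 133))
(Tr.lf (nat_lit 144))))
(Tr.nd (nat_lit 150) (Tr.nd (nat_lit 149) (Tr.lf (nat_lit 146))
(Tr.lf (nat_lit 143)))
(Tr.nd (nat_lit 151) (Tr.lf (nat_lit 17))
(Tr.nd (nat_lit 152) (Tr.lf (nat_lit 142))
(Tr.lf (nat_lit 134)))))))
(Tr.nd (nat_lit 161) (Tr.nd (nat_lit 157) (Tr.nd (nat_lit 155) (Tr.nd (nat_lit 154) (Tr.lf (nat_lit 144))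
(Tr.lf (nat_lit 122)))
(Tr.nd (nat_lit 156) (Tr.lf (nat_lit 57))
(Tr.lf (nat_lit 98))))
(Tr.nd (nat_lit 159) (Tr.nd (nat_lit 158) (Tr.lf (nat_lit 93))
(Tr.lf (nat_lit 68)))
(Tr.nd (nat_lit 160) (Tr.lf (nat_lit 157))
(Tr.lf (nat_lit 148)))))
(Tr.nd (nat_lit 165) (Tr.nd (nat_lit 163) (Tr.nd (nat_lit 162) (Tr.lf (nat_lit 142))
(Tr.lf (nat_lit 141)))
(Tr.nd (nat_lit 164) (Tr.lf (nat_lit 16))
(Tr.lf (nat_lit 117))))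
(Tr.nd (nat_lit 167) (Tr.nd (nat_lit 166) (Tr.lf (nat_lit 158))
(Tr.lf (nat_lit 2)))
(Tr.nd (nat_lit 168) (Tr.lf (nat_lit 159))
(Tr.nd (nat_lit 169) (Tr.lf (nat_lit 156))
(Tr.lf (nat_lit 116))))))))
(Tr.nd (nat_lit 187) (Tr.nd (nat_lit 178) (Tr.nd (nat_lit 174) (Tr.nd (nat_lit 172) (Tr.nd (nat_lit 171) (Tr.lf (nat_lit 54))
(Tr.lf (nat_lit 113)))
(Tr.nd (nat_lit 173) (Tr.lf (nat_lit 160))
(Tr.lf (nat_lit 124))))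
(Tr.nd (nat_lit 176) (Tr.nd (nat_lit 175) (Tr.lf (nat_lit 142))
(Tr.lf (nat_lit 143)))
(Tr.nd (nat_lit 177) (Tr.lf (nat_lit 110))
(Tr.lf (nat_lit 136)))))
(Tr.nd (nat_lit 182) (Tr.nd (nat_lit 180) (Tr.nd (nat_lit 179) (Tr.lf (nat_lit 166))
(Tr.lf (nat_lit 169)))
(Tr.nd (nat_lit 181) (Tr.lf (nat_lit 165))
(Tr.lf (nat_lit 95))))
(Tr.nd (nat_lit 184) (Tr.nd (nat_lit 183) (Tr.lf (nat_lit 111))
(Tr.lf (nat_lit 103)))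
(Tr.nd (nat_lit 185) (Tr.lf (nat_lit 43))
(Tr.nd (nat_lit 186) (Tr.lf (nat_lit 69))
(Tr.lf (nat_lit 154)))))))
(Tr.nd (nat_lit 195) (Tr.nd (nat_lit 191) (Tr.nd (nat_lit 189) (Tr.nd (nat_lit 188) (Tr.lf (nat_lit 103))
(Tr.lf (nat_lit 113)))
(Tr.nd (nat_lit 190) (Tr.lf (nat_lit 119))
(Tr.lf (nat_lit 134))))
(Tr.nd (nat_lit 193) (Tr.nd (nat_lit 192) (Tr.lf (nat_lit 127))
(Tr.lf (nat_lit 129)))
(Tr.nd (nat_lit 194) (Tr.lf (nat_lit 189))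
(Tr.lf (nat_lit 132)))))
(Tr.nd (nat_lit 199) (Tr.nd (nat_lit 197) (Tr.nd (nat_lit 196) (Tr.lf (nat_lit 192))
(Tr.lf (nat_lit 177)))
(Tr.nd (nat_lit 198) (Tr.lf (nat_lit 175))
(Tr.lf (nat_lit 142))))
(Tr.nd (nat_lit 201) (Tr.nd (nat_lit 200) (Tr.lf (nat_lit 190))
(Tr.lf (nat_lit 199)))
(Tr.nd (nat_lit 202) (Tr.lf (nat_lit 181))
(Tr.nd (nat_lit 203) (Tr.lf (nat_lit 118))
(Tr.lf (nat_lit 199)))))))))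
(Tr.nd (nat_lit 238) (Tr.nd (nat_lit 221) (Tr.nd (nat_lit 212) (Tr.nd (nat_lit 208) (Tr.nd (nat_lit 206) (Tr.nd (nat_lit 205) (Tr.lf (nat_lit 163))
(Tr.lf (nat_lit 187)))
(Tr.nd (nat_lit 207) (Tr.lf (nat_lit 145))
(Tr.lf (nat_lit 191))))
(Tr.nd (nat_lit 210) (Tr.nd (nat_lit 209) (Tr.lf (nat_lit 149))
(Tr.lf (nat_lit 161)))
(Tr.nd (nat_lit 211) (Tr.lf (nat_lit 172))
(Tr.lf (nat_lit 197)))))
(Tr.nd (nat_lit 216) (Tr.nd (nat_lit 214) (Tr.nd (nat_lit 213) (Tr.lf (nat_lit 202))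
(Tr.lf (nat_lit 212)))
(Tr.nd (nat_lit 215) (Tr.lf (nat_lit 170))
(Tr.lf (nat_lit 184))))
(Tr.nd (nat_lit 218) (Tr.nd (nat_lit 217) (Tr.lf (nat_lit 174))
(Tr.lf (nat_lit 215)))
(Tr.nd (nat_lit 219) (Tr.lf (nat_lit 181))
(Tr.nd (nat_lit 220) (Tr.lf (nat_lit 217))
(Tr.lf (nat_lit 219)))))))
(Tr.nd (nat_lit 229) (Tr.nd (nat_lit 225) (Tr.nd (nat_lit 223) (Tr.nd (nat_lit 222) (Tr.lf (nat_lit 220))
(Tr.lf (nat_lit 182)))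
(Tr.nd (nat_lit 224) (Tr.lf (nat_lit 217))
(Tr.lf (nat_lit 223))))
(Tr.nd (nat_lit 227) (Tr.nd (nat_lit 226) (Tr.lf (nat_lit 218))
(Tr.lf (nat_lit 225)))
(Tr.nd (nat_lit 228) (Tr.lf (nat_lit 221))
(Tr.lf (nat_lit 224)))))
(Tr.nd (nat_lit 233) (Tr.nd (nat_lit 231) (Tr.nd (nat_lit 230) (Tr.lf (nat_lit 228))
(Tr.lf (nat_lit 226)))
(Tr.nd (nat_lit 232) (Tr.lf (nat_lit 196))
(Tr.lf (nat_lit 229))))
(Tr.nd (nat_lit 235) (Tr.nd (nat_lit 234) (Tr.lf (nat_lit 227))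
(Tr.lf (nat_lit 233)))
(Tr.nd (nat_lit 236) (Tr.lf (nat_lit 232))
(Tr.nd (nat_lit 237) (Tr.lf (nat_lit 228))
(Tr.lf (nat_lit 234))))))))
(Tr.nd (nat_lit 255) (Tr.nd (nat_lit 246) (Tr.nd (nat_lit 242) (Tr.nd (nat_lit 240) (Tr.nd (nat_lit 239) (Tr.lf (nat_lit 237))
(Tr.lf (nat_lit 221)))
(Tr.nd (nat_lit 241) (Tr.lf (nat_lit 238))
(Tr.lf (nat_lit 225))))
(Tr.nd (nat_lit 244) (Tr.nd (nat_lit 243) (Tr.lf (nat_lit 222))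
(Tr.lf (nat_lit 241)))
(Tr.nd (nat_lit 245) (Tr.lf (nat_lit 236))
(Tr.lf (nat_lit 235)))))
(Tr.nd (nat_lit 250) (Tr.nd (nat_lit 248) (Tr.nd (nat_lit 247) (Tr.lf (nat_lit 245))
(Tr.lf (nat_lit 239)))
(Tr.nd (nat_lit 249) (Tr.lf (nat_lit 244))
(Tr.lf (nat_lit 248))))
(Tr.nd (nat_lit 252) (Tr.nd (nat_lit 251) (Tr.lf (nat_lit 247))
(Tr.lf (nat_lit 240)))
(Tr.nd (nat_lit 253) (Tr.lf (nat_lit 250))
(Tr.nd (nat_lit 254) (Tr.lf (nat_lit 208))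
(Tr.lf (nat_lit 198)))))))
(Tr.nd (nat_lit 263) (Tr.nd (nat_lit 259) (Tr.nd (nat_lit 257) (Tr.nd (nat_lit 256) (Tr.lf (nat_lit 209))
(Tr.lf (nat_lit 214)))
(Tr.nd (nat_lit 258) (Tr.lf (nat_lit 255))
(Tr.lf (nat_lit 210))))
(Tr.nd (nat_lit 261) (Tr.nd (nat_lit 260) (Tr.lf (nat_lit 206))
(Tr.lf (nat_lit 257)))
(Tr.nd (nat_lit 262) (Tr.lf (nat_lit 260))
(Tr.lf (nat_lit 219)))))
(Tr.nd (nat_lit 267) (Tr.nd (nat_lit 265) (Tr.nd (nat_lit 264) (Tr.lf (nat_lit 262))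
(Tr.lf (nat_lit 258)))
(Tr.nd (nat_lit 266) (Tr.lf (nat_lit 256))
(Tr.lf (nat_lit 265))))
(Tr.nd (nat_lit 269) (Tr.nd (nat_lit 268) (Tr.lf (nat_lit 260))
(Tr.lf (nat_lit 265)))
(Tr.nd (nat_lit 270) (Tr.lf (nat_lit 221))
(Tr.nd (nat_lit 271) (Tr.lf (nat_lit 244))
(Tr.lf (nat_lit 242)))))))))))
noncomputable def mini0Q : Tr ℕ := (Tr.nd (nat_lit 136) (Tr.nd (nat_lit 68) (Tr.nd (nat_lit 34) (Tr.nd (nat_lit 17) (Tr.nd (nat_lit 8) (Tr.nd (nat_lit 4) (Tr.nd (nat_lit 2) (Tr.nd (nat_lit 1) (Tr.lf (nat_lit 0))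
(Tr.lf (nat_lit 1)))
(Tr.nd (nat_lit 3) (Tr.lf (nat_lit 2))
(Tr.lf (nat_lit 3))))
(Tr.nd (nat_lit 6) (Tr.nd (nat_lit 5) (Tr.lf (nat_lit 4))
(Tr.lf (nat_lit 5)))
(Tr.nd (nat_lit 7) (Tr.lf (nat_lit 6))
(Tr.lf (nat_lit 8)))))
(Tr.nd (nat_lit 12) (Tr.nd (nat_lit 10) (Tr.nd (nat_lit 9) (Tr.lf (nat_lit 5))
(Tr.lf (nat_lit 4)))
(Tr.nd (nat_lit 11) (Tr.lf (nat_lit 3))
(Tr.lf (nat_lit 2))))
(Tr.nd (nat_lit 14) (Tr.nd (nat_lit 13) (Tr.lf (nat_lit 9))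
(Tr.lf (nat_lit 8)))
(Tr.nd (nat_lit 15) (Tr.lf (nat_lit 5))
(Tr.nd (nat_lit 16) (Tr.lf (nat_lit 4))
(Tr.lf (nat_lit 6)))))))
(Tr.nd (nat_lit 25) (Tr.nd (nat_lit 21) (Tr.nd (nat_lit 19) (Tr.nd (nat_lit 18) (Tr.lf (nat_lit 5))
(Tr.lf (nat_lit 8)))
(Tr.nd (nat_lit 20) (Tr.lf (nat_lit 9))
(Tr.lf (nat_lit 3))))
(Tr.nd (nat_lit 23) (Tr.nd (nat_lit 22) (Tr.lf (nat_lit 4))
(Tr.lf (nat_lit 5)))
(Tr.nd (nat_lit 24) (Tr.lf (nat_lit 8))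
(Tr.lf (nat_lit 6)))))
(Tr.nd (nat_lit 29) (Tr.nd (nat_lit 27) (Tr.nd (nat_lit 26) (Tr.lf (nat_lit 5))
(Tr.lf (nat_lit 4)))
(Tr.nd (nat_lit 28) (Tr.lf (nat_lit 3))
(Tr.lf (nat_lit 2))))
(Tr.nd (nat_lit 31) (Tr.nd (nat_lit 30) (Tr.lf (nat_lit 9))
(Tr.lf (nat_lit 6)))
(Tr.nd (nat_lit 32) (Tr.lf (nat_lit 6))
(Tr.nd (nat_lit 33) (Tr.lf (nat_lit 9))
(Tr.lf (nat_lit 7))))))))
(Tr.nd (nat_lit 51) (Tr.nd (nat_lit 42) (Tr.nd (nat_lit 38) (Tr.nd (nat_lit 36) (Tr.nd (nat_lit 35) (Tr.lf (nat_lit 8))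
(Tr.lf (nat_lit 5)))
(Tr.nd (nat_lit 37) (Tr.lf (nat_lit 3))
(Tr.lf (nat_lit 3))))
(Tr.nd (nat_lit 40) (Tr.nd (nat_lit 39) (Tr.lf (nat_lit 7))
(Tr.lf (nat_lit 7)))
(Tr.nd (nat_lit 41) (Tr.lf (nat_lit 4))
(Tr.lf (nat_lit 9)))))
(Tr.nd (nat_lit 46) (Tr.nd (nat_lit 44) (Tr.nd (nat_lit 43) (Tr.lf (nat_lit 3))
(Tr.lf (nat_lit 9)))
(Tr.nd (nat_lit 45) (Tr.lf (nat_lit 3))
(Tr.lf (nat_lit 1))))
(Tr.nd (nat_lit 48) (Tr.nd (nat_lit 47) (Tr.lf (nat_lit 3))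
(Tr.lf (nat_lit 4)))
(Tr.nd (nat_lit 49) (Tr.lf (nat_lit 9))
(Tr.nd (nat_lit 50) (Tr.lf (nat_lit 9))
(Tr.lf (nat_lit 7)))))))
(Tr.nd (nat_lit 59) (Tr.nd (nat_lit 55) (Tr.nd (nat_lit 53) (Tr.nd (nat_lit 52) (Tr.lf (nat_lit 3))
(Tr.lf (nat_lit 1)))
(Tr.nd (nat_lit 54) (Tr.lf (nat_lit 0))
(Tr.lf (nat_lit 1))))
(Tr.nd (nat_lit 57) (Tr.nd (nat_lit 56) (Tr.lf (nat_lit 6))
(Tr.lf (nat_lit 8)))
(Tr.nd (nat_lit 58) (Tr.lf (nat_lit 5))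
(Tr.lf (nat_lit 7)))))
(Tr.nd (nat_lit 63) (Tr.nd (nat_lit 61) (Tr.nd (nat_lit 60) (Tr.lf (nat_lit 1))
(Tr.lf (nat_lit 1)))
(Tr.nd (nat_lit 62) (Tr.lf (nat_lit 8))
(Tr.lf (nat_lit 0))))
(Tr.nd (nat_lit 65) (Tr.nd (nat_lit 64) (Tr.lf (nat_lit 9))
(Tr.lf (nat_lit 5)))
(Tr.nd (nat_lit 66) (Tr.lf (nat_lit 7))
(Tr.nd (nat_lit 67) (Tr.lf (nat_lit 0))
(Tr.lf (nat_lit 6)))))))))
(Tr.nd (nat_lit 102) (Tr.nd (nat_lit 85) (Tr.nd (nat_lit 76) (Tr.nd (nat_lit 72) (Tr.nd (nat_lit 70) (Tr.nd (nat_lit 69) (Tr.lf (nat_lit 6))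
(Tr.lf (nat_lit 6)))
(Tr.nd (nat_lit 71) (Tr.lf (nat_lit 9))
(Tr.lf (nat_lit 3))))
(Tr.nd (nat_lit 74) (Tr.nd (nat_lit 73) (Tr.lf (nat_lit 7))
(Tr.lf (nat_lit 8)))
(Tr.nd (nat_lit 75) (Tr.lf (nat_lit 5))
(Tr.lf (nat_lit 6)))))
(Tr.nd (nat_lit 80) (Tr.nd (nat_lit 78) (Tr.nd (nat_lit 77) (Tr.lf (nat_lit 0))
(Tr.lf (nat_lit 9)))
(Tr.nd (nat_lit 79) (Tr.lf (nat_lit 6))
(Tr.lf (nat_lit 4))))
(Tr.nd (nat_lit 82) (Tr.nd (nat_lit 81) (Tr.lf (nat_lit 0))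
(Tr.lf (nat_lit 0)))
(Tr.nd (nat_lit 83) (Tr.lf (nat_lit 7))
(Tr.nd (nat_lit 84) (Tr.lf (nat_lit 0))
(Tr.lf (nat_lit 0)))))))
(Tr.nd (nat_lit 93) (Tr.nd (nat_lit 89) (Tr.nd (nat_lit 87) (Tr.nd (nat_lit 86) (Tr.lf (nat_lit 7))
(Tr.lf (nat_lit 9)))
(Tr.nd (nat_lit 88) (Tr.lf (nat_lit 0))
(Tr.lf (nat_lit 5))))
(Tr.nd (nat_lit 91) (Tr.nd (nat_lit 90) (Tr.lf (nat_lit 9))
(Tr.lf (nat_lit 0)))
(Tr.nd (nat_lit 92) (Tr.lf (nat_lit 8))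
(Tr.lf (nat_lit 0)))))
(Tr.nd (nat_lit 97) (Tr.nd (nat_lit 95) (Tr.nd (nat_lit 94) (Tr.lf (nat_lit 0))
(Tr.lf (nat_lit 7)))
(Tr.nd (nat_lit 96) (Tr.lf (nat_lit 9))
(Tr.lf (nat_lit 6))))
(Tr.nd (nat_lit 99) (Tr.nd (nat_lit 98) (Tr.lf (nat_lit 0))
(Tr.lf (nat_lit 5)))
(Tr.nd (nat_lit 100) (Tr.lf (nat_lit 0))
(Tr.nd (nat_lit 101) (Tr.lf (nat_lit 2))
(Tr.lf (nat_lit 0))))))))
(Tr.nd (nat_lit 119) (Tr.nd (nat_lit 110) (Tr.nd (nat_lit 106) (Tr.nd (nat_lit 104) (Tr.nd (nat_lit 103) (Tr.lf (nat_lit 3))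
(Tr.lf (nat_lit 8)))
(Tr.nd (nat_lit 105) (Tr.lf (nat_lit 0))
(Tr.lf (nat_lit 0))))
(Tr.nd (nat_lit 108) (Tr.nd (nat_lit 107) (Tr.lf (nat_lit 9))
(Tr.lf (nat_lit 0)))
(Tr.nd (nat_lit 109) (Tr.lf (nat_lit 2))
(Tr.lf (nat_lit 7)))))
(Tr.nd (nat_lit 114) (Tr.nd (nat_lit 112) (Tr.nd (nat_lit 111) (Tr.lf (nat_lit 0))
(Tr.lf (nat_lit 2)))
(Tr.nd (nat_lit 113) (Tr.lf (nat_lit 7))
(Tr.lf (nat_lit 3))))
(Tr.nd (nat_lit 116) (Tr.nd (nat_lit 115) (Tr.lf (nat_lit 0))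
(Tr.lf (nat_lit 7)))
(Tr.nd (nat_lit 117) (Tr.lf (nat_lit 9))
(Tr.nd (nat_lit 118) (Tr.lf (nat_lit 6))
(Tr.lf (nat_lit 6)))))))
(Tr.nd (nat_lit 127) (Tr.nd (nat_lit 123) (Tr.nd (nat_lit 121) (Tr.nd (nat_lit 120) (Tr.lf (nat_lit 6))
(Tr.lf (nat_lit 0)))
(Tr.nd (nat_lit 122) (Tr.lf (nat_lit 4))
(Tr.lf (nat_lit 1))))
(Tr.nd (nat_lit 125) (Tr.nd (nat_lit 124) (Tr.lf (nat_lit 0))
(Tr.lf (nat_lit 2)))
(Tr.nd (nat_lit 126) (Tr.lf (nat_lit 9))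
(Tr.lf (nat_lit 4)))))
(Tr.nd (nat_lit 131) (Tr.nd (nat_lit 129) (Tr.nd (nat_lit 128) (Tr.lf (nat_lit 6))
(Tr.lf (nat_lit 3)))
(Tr.nd (nat_lit 130) (Tr.lf (nat_lit 8))
(Tr.lf (nat_lit 0))))
(Tr.nd (nat_lit 133) (Tr.nd (nat_lit 132) (Tr.lf (nat_lit 6))
(Tr.lf (nat_lit 2)))
(Tr.nd (nat_lit 134) (Tr.lf (nat_lit 7))
(Tr.nd (nat_lit 135) (Tr.lf (nat_lit 9))
(Tr.lf (nat_lit 4))))))))))
(Tr.nd (nat_lit 204) (Tr.nd (nat_lit 170) (Tr.nd (nat_lit 153) (Tr.nd (nat_lit 144) (Tr.nd (nat_lit 140) (Tr.nd (nat_lit 138) (Tr.nd (nat_lit 137) (Tr.lf (nat_lit 3))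
(Tr.lf (nat_lit 6)))
(Tr.nd (nat_lit 139) (Tr.lf (nat_lit 9))
(Tr.lf (nat_lit 6))))
(Tr.nd (nat_lit 142) (Tr.nd (nat_lit 141) (Tr.lf (nat_lit 4))
(Tr.lf (nat_lit 2)))
(Tr.nd (nat_lit 143) (Tr.lf (nat_lit 1))
(Tr.lf (nat_lit 2)))))
(Tr.nd (nat_lit 148) (Tr.nd (nat_lit 146) (Tr.nd (nat_lit 145) (Tr.lf (nat_lit 6))
(Tr.lf (nat_lit 7)))
(Tr.nd (nat_lit 147) (Tr.lf (nat_lit 3))
(Tr.lf (nat_lit 7))))
(Tr.nd (nat_lit 150) (Tr.nd (nat_lit 149) (Tr.lf (nat_lit 1))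
(Tr.lf (nat_lit 7)))
(Tr.nd (nat_lit 151) (Tr.lf (nat_lit 7))
(Tr.nd (nat_lit 152) (Tr.lf (nat_lit 9))
(Tr.lf (nat_lit 0)))))))
(Tr.nd (nat_lit 161) (Tr.nd (nat_lit 157) (Tr.nd (nat_lit 155) (Tr.nd (nat_lit 154) (Tr.lf (nat_lit 1))
(Tr.lf (nat_lit 5)))
(Tr.nd (nat_lit 156) (Tr.lf (nat_lit 7))
(Tr.lf (nat_lit 1))))
(Tr.nd (nat_lit 159) (Tr.nd (nat_lit 158) (Tr.lf (nat_lit 1))
(Tr.lf (nat_lit 7)))
(Tr.nd (nat_lit 160) (Tr.lf (nat_lit 8))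
(Tr.lf (nat_lit 0)))))
(Tr.nd (nat_lit 165) (Tr.nd (nat_lit 163) (Tr.nd (nat_lit 162) (Tr.lf (nat_lit 3))
(Tr.lf (nat_lit 7)))
(Tr.nd (nat_lit 164) (Tr.lf (nat_lit 7))
(Tr.lf (nat_lit 0))))
(Tr.nd (nat_lit 167) (Tr.nd (nat_lit 166) (Tr.lf (nat_lit 1))
(Tr.lf (nat_lit 0)))
(Tr.nd (nat_lit 168) (Tr.lf (nat_lit 7))
(Tr.nd (nat_lit 169) (Tr.lf (nat_lit 4))
(Tr.lf (nat_lit 1))))))))
(Tr.nd (nat_lit 187) (Tr.nd (nat_lit 178) (Tr.nd (nat_lit 174) (Tr.nd (nat_lit 172) (Tr.nd (nat_lit 171) (Tr.lf (nat_lit 7))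
(Tr.lf (nat_lit 0)))
(Tr.nd (nat_lit 173) (Tr.lf (nat_lit 9))
(Tr.lf (nat_lit 7))))
(Tr.nd (nat_lit 176) (Tr.nd (nat_lit 175) (Tr.lf (nat_lit 0))
(Tr.lf (nat_lit 0)))
(Tr.nd (nat_lit 177) (Tr.lf (nat_lit 6))
(Tr.lf (nat_lit 2)))))
(Tr.nd (nat_lit 182) (Tr.nd (nat_lit 180) (Tr.nd (nat_lit 179) (Tr.lf (nat_lit 2))
(Tr.lf (nat_lit 7)))
(Tr.nd (nat_lit 181) (Tr.lf (nat_lit 0))
(Tr.lf (nat_lit 7))))
(Tr.nd (nat_lit 184) (Tr.nd (nat_lit 183) (Tr.lf (nat_lit 7))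
(Tr.lf (nat_lit 1)))
(Tr.nd (nat_lit 185) (Tr.lf (nat_lit 7))
(Tr.nd (nat_lit 186) (Tr.lf (nat_lit 7))
(Tr.lf (nat_lit 9)))))))
(Tr.nd (nat_lit 195) (Tr.nd (nat_lit 191) (Tr.nd (nat_lit 189) (Tr.nd (nat_lit 188) (Tr.lf (nat_lit 7))
(Tr.lf (nat_lit 7)))
(Tr.nd (nat_lit 190) (Tr.lf (nat_lit 7))
(Tr.lf (nat_lit 5))))
(Tr.nd (nat_lit 193) (Tr.nd (nat_lit 192) (Tr.lf (nat_lit 1))
(Tr.lf (nat_lit 1)))
(Tr.nd (nat_lit 194) (Tr.lf (nat_lit 3))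
(Tr.lf (nat_lit 7)))))
(Tr.nd (nat_lit 199) (Tr.nd (nat_lit 197) (Tr.nd (nat_lit 196) (Tr.lf (nat_lit 5))
(Tr.lf (nat_lit 7)))
(Tr.nd (nat_lit 198) (Tr.lf (nat_lit 7))
(Tr.lf (nat_lit 6))))
(Tr.nd (nat_lit 201) (Tr.nd (nat_lit 200) (Tr.lf (nat_lit 9))
(Tr.lf (nat_lit 2)))
(Tr.nd (nat_lit 202) (Tr.lf (nat_lit 1))
(Tr.nd (nat_lit 203) (Tr.lf (nat_lit 5))
(Tr.lf (nat_lit 0)))))))))
(Tr.nd (nat_lit 238) (Tr.nd (nat_lit 221) (Tr.nd (nat_lit 212) (Tr.nd (nat_lit 208) (Tr.nd (nat_lit 206) (Tr.nd (nat_lit 205) (Tr.lf (nat_lit 2))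
(Tr.lf (nat_lit 1)))
(Tr.nd (nat_lit 207) (Tr.lf (nat_lit 6))
(Tr.lf (nat_lit 5))))
(Tr.nd (nat_lit 210) (Tr.nd (nat_lit 209) (Tr.lf (nat_lit 6))
(Tr.lf (nat_lit 6)))
(Tr.nd (nat_lit 211) (Tr.lf (nat_lit 6))
(Tr.lf (nat_lit 6)))))
(Tr.nd (nat_lit 216) (Tr.nd (nat_lit 214) (Tr.nd (nat_lit 213) (Tr.lf (nat_lit 8))
(Tr.lf (nat_lit 2)))
(Tr.nd (nat_lit 215) (Tr.lf (nat_lit 6))
(Tr.lf (nat_lit 6))))
(Tr.nd (nat_lit 218) (Tr.nd (nat_lit 217) (Tr.lf (nat_lit 6))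
(Tr.lf (nat_lit 5)))
(Tr.nd (nat_lit 219) (Tr.lf (nat_lit 6))
(Tr.nd (nat_lit 220) (Tr.lf (nat_lit 4))
(Tr.lf (nat_lit 3)))))))
(Tr.nd (nat_lit 229) (Tr.nd (nat_lit 225) (Tr.nd (nat_lit 223) (Tr.nd (nat_lit 222) (Tr.lf (nat_lit 2))
(Tr.lf (nat_lit 6)))
(Tr.nd (nat_lit 224) (Tr.lf (nat_lit 6))
(Tr.lf (nat_lit 7))))
(Tr.nd (nat_lit 227) (Tr.nd (nat_lit 226) (Tr.lf (nat_lit 5))
(Tr.lf (nat_lit 4)))
(Tr.nd (nat_lit 228) (Tr.lf (nat_lit 0))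
(Tr.lf (nat_lit 8)))))
(Tr.nd (nat_lit 233) (Tr.nd (nat_lit 231) (Tr.nd (nat_lit 230) (Tr.lf (nat_lit 4))
(Tr.lf (nat_lit 3)))
(Tr.nd (nat_lit 232) (Tr.lf (nat_lit 6))
(Tr.lf (nat_lit 5))))
(Tr.nd (nat_lit 235) (Tr.nd (nat_lit 234) (Tr.lf (nat_lit 8))
(Tr.lf (nat_lit 6)))
(Tr.nd (nat_lit 236) (Tr.lf (nat_lit 6))
(Tr.nd (nat_lit 237) (Tr.lf (nat_lit 0))
(Tr.lf (nat_lit 5))))))))
(Tr.nd (nat_lit 255) (Tr.nd (nat_lit 246) (Tr.nd (nat_lit 242) (Tr.nd (nat_lit 240) (Tr.nd (nat_lit 239) (Tr.lf (nat_lit 4))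
(Tr.lf (nat_lit 8)))
(Tr.nd (nat_lit 241) (Tr.lf (nat_lit 3))
(Tr.lf (nat_lit 6))))
(Tr.nd (nat_lit 244) (Tr.nd (nat_lit 243) (Tr.lf (nat_lit 5))
(Tr.lf (nat_lit 7)))
(Tr.nd (nat_lit 245) (Tr.lf (nat_lit 4))
(Tr.lf (nat_lit 7)))))
(Tr.nd (nat_lit 250) (Tr.nd (nat_lit 248) (Tr.nd (nat_lit 247) (Tr.lf (nat_lit 8))
(Tr.lf (nat_lit 6)))
(Tr.nd (nat_lit 249) (Tr.lf (nat_lit 5))
(Tr.lf (nat_lit 6))))
(Tr.nd (nat_lit 252) (Tr.nd (nat_lit 251) (Tr.lf (nat_lit 5))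
(Tr.lf (nat_lit 0)))
(Tr.nd (nat_lit 253) (Tr.lf (nat_lit 4))
(Tr.nd (nat_lit 254) (Tr.lf (nat_lit 5))
(Tr.lf (nat_lit 5)))))))
(Tr.nd (nat_lit 263) (Tr.nd (nat_lit 259) (Tr.nd (nat_lit 257) (Tr.nd (nat_lit 256) (Tr.lf (nat_lit 5))
(Tr.lf (nat_lit 5)))
(Tr.nd (nat_lit 258) (Tr.lf (nat_lit 4))
(Tr.lf (nat_lit 5))))
(Tr.nd (nat_lit 261) (Tr.nd (nat_lit 260) (Tr.lf (nat_lit 5))
(Tr.lf (nat_lit 3)))
(Tr.nd (nat_lit 262) (Tr.lf (nat_lit 2))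
(Tr.lf (nat_lit 6)))))
(Tr.nd (nat_lit 267) (Tr.nd (nat_lit 265) (Tr.nd (nat_lit 264) (Tr.lf (nat_lit 0))
(Tr.lf (nat_lit 4)))
(Tr.nd (nat_lit 266) (Tr.lf (nat_lit 4))
(Tr.lf (nat_lit 3))))
(Tr.nd (nat_lit 269) (Tr.nd (nat_lit 268) (Tr.lf (nat_lit 1))
(Tr.lf (nat_lit 5)))
(Tr.nd (nat_lit 270) (Tr.lf (nat_lit 6))
(Tr.nd (nat_lit 271) (Tr.lf (nat_lit 8))
(Tr.lf (nat_lit 4)))))))))))
theorem mini0_alt : Tr.all (altChk idx inv RW (SW0)) mini0A = true := by decide +kernel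
theorem mini0_chk : Tr.all (chkFc idx inv mini0S mini0A (fun b => Tr.find b mini0P) (fun b => Tr.find b mini0Q)) mini0S = true := by decide +kernel
theorem mini0_run : runM idx inv mini0S 846 0 [Mv.f (nat_lit 8), Mv.f (nat_lit 16), Mv.f (nat_lit 24), Mv.f (nat_lit 32), Mv.f (nat_lit 40), Mv.f (nat_lit 47), Mv.f (nat_lit 54), Mv.f (nat_lit 59), Mv.f (nat_lit 64), Mv.f (nat_lit 69), Mv.f (nat_lit 74), Mv.f (nat_lit 79), Mv.f (nat_lit 83), Mv.f (nat_lit 86), Mv.f (nat_lit 89), Mv.f (nat_lit 91), Mv.f (nat_lit 92), Mv.f (nat_lit 94), Mv.f (nat_lit 96), Mv.f (nat_lit 98), Mv.f (nat_lit 100), Mv.f (nat_lit 102), Mv.f (nat_lit 103), Mv.f (nat_lit 104), Mv.f (nat_lit 105), Mv.f (nat_lit 106), Mv.f (nat_lit 107), Mv.f (nat_lit 108), Mv.f (nat_lit 845), Mv.b (nat_lit 8)] [Col.k, Col.a, Col.b, Col.c, Col.d,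 Col.e, Col.h, Col.d, Col.c, Col.b, Col.a, Col.i, Col.h, Col.d, Col.c, Col.e, Col.d, Col.h, Col.i, Col.b, Col.c, Col.d, Col.h, Col.e, Col.d, Col.c, Col.b, Col.a, Col.l, Col.k] 0 = true := by decide +kernel
theorem mini0_fix {G X : Type*} [Group G] [MulAction G X] (g : Col → G) (x0 : X) (hinv : ∀ c, g (inv c) = (g c)⁻¹)
    (hRW : ∀ w ∈ RW, gw g w = 1) (hSW : ∀ w ∈ SW0, gw g w • x0 = x0) : gw g [Col.k, Col.a, Col.b, Col.c, Col.d, Col.e, Col.h, Col.d, Col.c, Col.b, Col.a, Col.i, Col.h, Col.d, Col.c, Col.e, Col.d, Col.h, Col.i, Col.b, Col.c, Col.d, Col.h, Col.e, Col.d, Col.c, Col.b, Col.a, Col.l, Col.k] • x0 = x0 :=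
  mini_sound g x0 dec hdec hinv
    (fun a ha => altChk_sound g x0 dec hdec hinv hRW hSW ((Tr.all_iff _ _).1 mini0_alt a ha)) mini0_chk mini0_run
end CfsgLib.TCFi24Y
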