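import Cfsg.Agent.EqBase
import Cfsg.Agent.LibTCFi24YbW
set_option autoImplicit false
set_option linter.all false
set_option maxRecDepth 1000000
set_option maxHeartbeats 0
namespace CfsgLib.TCFi24Yb
open CfsgLib.TC Cfsg.Spor CfsgLib.TCG_Fi24Y
noncomputable def mini0S : Tr (Fc Col) := (Tr.nd (nat_lit 324) (Tr.nd (nat_lit 162) (Tr.nd (nat_lit 81) (Tr.nd (nat_lit 40) (Tr.nd (nat_lit 20) (Tr.nd (nat_lit 10) (Tr.nd (nat_lit 5) (Tr.nd (nat_lit 2) (Tr.nd (nat_lit 1) (Tr.lf (Fc.ed (nat_lit 0) (nat_lit 0) Col.l (nat_lit 0) (Dv.sb (nat_lit 0) [] [])))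
(Tr.lf (Fc.ed (nat_lit 1) (nat_lit 0) Col.k (nat_lit 0) (Dv.sb (nat_lit 1) [] []))))
(Tr.nd (nat_lit 3) (Tr.lf (Fc.ed (nat_lit 2) (nat_lit 0) Col.a (nat_lit 0) (Dv.sb (nat_lit 2) [] [])))
(Tr.nd (nat_lit 4) (Tr.lf (Fc.ed (nat_lit 3) (nat_lit 0) Col.b (nat_lit 0) (Dv.sb (nat_lit 3) [] [])))
(Tr.lf (Fc.ed (nat_lit 4) (nat_lit 0) Col.c (nat_lit 0) (Dv.sb (nat_lit 4) [] []))))))
(Tr.nd (nat_lit 7) (Tr.nd (nat_lit 6) (Tr.lf (Fc.ed (nat_lit 5) (nat_lit 0) Col.d (nat_lit 0) (Dv.sb (nat_lit 5) [] [])))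
(Tr.lf (Fc.ed (nat_lit 6) (nat_lit 0) Col.e (nat_lit 0) (Dv.sb (nat_lit 6) [] []))))
(Tr.nd (nat_lit 8) (Tr.lf (Fc.ed (nat_lit 7) (nat_lit 0) Col.f (nat_lit 0) (Dv.sb (nat_lit 7) [] [])))
(Tr.nd (nat_lit 9) (Tr.lf (Fc.ed (nat_lit 8) (nat_lit 0) Col.i (nat_lit 1) Dv.df))
(Tr.lf (Fc.ed (nat_lit 9) (nat_lit 1) Col.l (nat_lit 1) (Dv.wd (nat_lit 8) [Mv.b (nat_lit 8), Mv.f (nat_lit 0), Mv.f (nat_lit 8)])))))))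
(Tr.nd (nat_lit 15) (Tr.nd (nat_lit 12) (Tr.nd (nat_lit 11) (Tr.lf (Fc.ed (nat_lit 10) (nat_lit 1) Col.k (nat_lit 1) (Dv.wd (nat_lit 9) [Mv.b (nat_lit 8), Mv.f (nat_lit 1), Mv.f (nat_lit 8)])))
(Tr.lf (Fc.ed (nat_lit 11) (nat_lit 1) Col.a (nat_lit 1) (Dv.wd (nat_lit 10) [Mv.b (nat_lit 8), Mv.f (nat_lit 2), Mv.f (nat_lit 8)]))))
(Tr.nd (nat_lit 13) (Tr.lf (Fc.ed (nat_lit 12) (nat_lit 1) Col.b (nat_lit 1) (Dv.wd (nat_lit 11) [Mv.b (nat_lit 8), Mv.f (nat_lit 3), Mv.f (nat_lit 8)])))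
(Tr.nd (nat_lit 14) (Tr.lf (Fc.ed (nat_lit 13) (nat_lit 1) Col.c (nat_lit 1) (Dv.wd (nat_lit 12) [Mv.b (nat_lit 8), Mv.f (nat_lit 4), Mv.f (nat_lit 8)])))
(Tr.lf (Fc.ed (nat_lit 14) (nat_lit 1) Col.d (nat_lit 1) (Dv.wd (nat_lit 13) [Mv.b (nat_lit 8), Mv.f (nat_lit 5), Mv.f (nat_lit 8)]))))))
(Tr.nd (nat_lit 17) (Tr.nd (nat_lit 16) (Tr.lf (Fc.ed (nat_lit 15) (nat_lit 1) Col.e (nat_lit 1) (Dv.wd (nat_lit 14) [Mv.b (nat_lit 8), Mv.f (nat_lit 6), Mv.f (nat_lit 8)])))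
(Tr.lf (Fc.ed (nat_lit 16) (nat_lit 1) Col.f (nat_lit 1) (Dv.wd (nat_lit 15) [Mv.b (nat_lit 8), Mv.f (nat_lit 7), Mv.f (nat_lit 8)]))))
(Tr.nd (nat_lit 18) (Tr.lf (Fc.ed (nat_lit 17) (nat_lit 1) Col.h (nat_lit 2) Dv.df))
(Tr.nd (nat_lit 19) (Tr.lf (Fc.ed (nat_lit 18) (nat_lit 2) Col.l (nat_lit 2) (Dv.wd (nat_lit 16) [Mv.b (nat_lit 17), Mv.f (nat_lit 9), Mv.f (nat_lit 17)])))
(Tr.lf (Fc.ed (nat_lit 19) (nat_lit 2) Col.k (nat_lit 2) (Dv.wd (nat_lit 17) [Mv.b (nat_lit 17), Mv.f (nat_lit 10), Mv.f (nat_lit 17)]))))))))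
(Tr.nd (nat_lit 30) (Tr.nd (nat_lit 25) (Tr.nd (nat_lit 22) (Tr.nd (nat_lit 21) (Tr.lf (Fc.ed (nat_lit 20) (nat_lit 2) Col.a (nat_lit 2) (Dv.wd (nat_lit 18) [Mv.b (nat_lit 17), Mv.f (nat_lit 11), Mv.f (nat_lit 17)])))
(Tr.lf (Fc.ed (nat_lit 21) (nat_lit 2) Col.b (nat_lit 2) (Dv.wd (nat_lit 19) [Mv.b (nat_lit 17), Mv.f (nat_lit 12), Mv.f (nat_lit 17)]))))
(Tr.nd (nat_lit 23) (Tr.lf (Fc.ed (nat_lit 22) (nat_lit 2) Col.c (nat_lit 2) (Dv.wd (nat_lit 20) [Mv.b (nat_lit 17), Mv.f (nat_lit 13), Mv.f (nat_lit 17)])))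
(Tr.nd (nat_lit 24) (Tr.lf (Fc.ed (nat_lit 23) (nat_lit 2) Col.e (nat_lit 2) (Dv.wd (nat_lit 21) [Mv.b (nat_lit 17), Mv.f (nat_lit 15), Mv.f (nat_lit 17)])))
(Tr.lf (Fc.ed (nat_lit 24) (nat_lit 2) Col.f (nat_lit 2) (Dv.wd (nat_lit 22) [Mv.b (nat_lit 17), Mv.f (nat_lit 16), Mv.f (nat_lit 17)]))))))
(Tr.nd (nat_lit 27) (Tr.nd (nat_lit 26) (Tr.lf (Fc.ed (nat_lit 25) (nat_lit 2) Col.d (nat_lit 3) Dv.df))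
(Tr.lf (Fc.ed (nat_lit 26) (nat_lit 3) Col.l (nat_lit 3) (Dv.wd (nat_lit 23) [Mv.b (nat_lit 25), Mv.f (nat_lit 18), Mv.f (nat_lit 25)]))))
(Tr.nd (nat_lit 28) (Tr.lf (Fc.ed (nat_lit 27) (nat_lit 3) Col.k (nat_lit 3) (Dv.wd (nat_lit 24) [Mv.b (nat_lit 25), Mv.f (nat_lit 19), Mv.f (nat_lit 25)])))
(Tr.nd (nat_lit 29) (Tr.lf (Fc.ed (nat_lit 28) (nat_lit 3) Col.a (nat_lit 3) (Dv.wd (nat_lit 25) [Mv.b (nat_lit 25), Mv.f (nat_lit 20), Mv.f (nat_lit 25)])))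
(Tr.lf (Fc.ed (nat_lit 29) (nat_lit 3) Col.b (nat_lit 3) (Dv.wd (nat_lit 26) [Mv.b (nat_lit 25), Mv.f (nat_lit 21), Mv.f (nat_lit 25)])))))))
(Tr.nd (nat_lit 35) (Tr.nd (nat_lit 32) (Tr.nd (nat_lit 31) (Tr.lf (Fc.ed (nat_lit 30) (nat_lit 3) Col.f (nat_lit 3) (Dv.wd (nat_lit 27) [Mv.b (nat_lit 25), Mv.f (nat_lit 24), Mv.f (nat_lit 25)])))
(Tr.lf (Fc.ed (nat_lit 31) (nat_lit 3) Col.h (nat_lit 3) (Dv.wd (nat_lit 28) [Mv.b (nat_lit 25), Mv.b (nat_lit 17), Mv.f (nat_lit 14), Mv.f (nat_lit 17), Mv.f (nat_lit 25)]))))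
(Tr.nd (nat_lit 33) (Tr.lf (Fc.ed (nat_lit 32) (nat_lit 3) Col.c (nat_lit 4) Dv.df))
(Tr.nd (nat_lit 34) (Tr.lf (Fc.ed (nat_lit 33) (nat_lit 4) Col.l (nat_lit 4) (Dv.wd (nat_lit 29) [Mv.b (nat_lit 32), Mv.f (nat_lit 26), Mv.f (nat_lit 32)])))
(Tr.lf (Fc.ed (nat_lit 34) (nat_lit 4) Col.k (nat_lit 4) (Dv.wd (nat_lit 30) [Mv.b (nat_lit 32), Mv.f (nat_lit 27), Mv.f (nat_lit 32)]))))))
(Tr.nd (nat_lit 37) (Tr.nd (nat_lit 36) (Tr.lf (Fc.ed (nat_lit 35) (nat_lit 4) Col.a (nat_lit 4) (Dv.wd (nat_lit 31) [Mv.b (nat_lit 32), Mv.f (nat_lit 28), Mv.f (nat_lit 32)])))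
(Tr.lf (Fc.ed (nat_lit 36) (nat_lit 4) Col.f (nat_lit 4) (Dv.wd (nat_lit 32) [Mv.b (nat_lit 32), Mv.f (nat_lit 30), Mv.f (nat_lit 32)]))))
(Tr.nd (nat_lit 38) (Tr.lf (Fc.ed (nat_lit 37) (nat_lit 4) Col.h (nat_lit 4) (Dv.wd (nat_lit 33) [Mv.b (nat_lit 32), Mv.f (nat_lit 31), Mv.f (nat_lit 32)])))
(Tr.nd (nat_lit 39) (Tr.lf (Fc.ed (nat_lit 38) (nat_lit 4) Col.d (nat_lit 4) (Dv.wd (nat_lit 34) [Mv.b (nat_lit 32), Mv.b (nat_lit 25), Mv.f (nat_lit 22), Mv.f (nat_lit 25), Mv.f (nat_lit 32)])))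
(Tr.lf (Fc.ed (nat_lit 39) (nat_lit 4) Col.b (nat_lit 5) Dv.df))))))))
(Tr.nd (nat_lit 60) (Tr.nd (nat_lit 50) (Tr.nd (nat_lit 45) (Tr.nd (nat_lit 42) (Tr.nd (nat_lit 41) (Tr.lf (Fc.ed (nat_lit 40) (nat_lit 5) Col.l (nat_lit 5) (Dv.wd (nat_lit 35) [Mv.b (nat_lit 39), Mv.f (nat_lit 33), Mv.f (nat_lit 39)])))
(Tr.lf (Fc.ed (nat_lit 41) (nat_lit 5) Col.k (nat_lit 5) (Dv.wd (nat_lit 36) [Mv.b (nat_lit 39), Mv.f (nat_lit 34), Mv.f (nat_lit 39)]))))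
(Tr.nd (nat_lit 43) (Tr.lf (Fc.ed (nat_lit 42) (nat_lit 5) Col.d (nat_lit 5) (Dv.wd (nat_lit 37) [Mv.b (nat_lit 39), Mv.f (nat_lit 38), Mv.f (nat_lit 39)])))
(Tr.nd (nat_lit 44) (Tr.lf (Fc.ed (nat_lit 43) (nat_lit 5) Col.f (nat_lit 5) (Dv.wd (nat_lit 38) [Mv.b (nat_lit 39), Mv.f (nat_lit 36), Mv.f (nat_lit 39)])))
(Tr.lf (Fc.ed (nat_lit 44) (nat_lit 5) Col.h (nat_lit 5) (Dv.wd (nat_lit 39) [Mv.b (nat_lit 39), Mv.f (nat_lit 37), Mv.f (nat_lit 39)]))))))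
(Tr.nd (nat_lit 47) (Tr.nd (nat_lit 46) (Tr.lf (Fc.ed (nat_lit 45) (nat_lit 5) Col.c (nat_lit 5) (Dv.wd (nat_lit 40) [Mv.b (nat_lit 39), Mv.b (nat_lit 32), Mv.f (nat_lit 29), Mv.f (nat_lit 32), Mv.f (nat_lit 39)])))
(Tr.lf (Fc.ed (nat_lit 46) (nat_lit 5) Col.a (nat_lit 6) Dv.df)))
(Tr.nd (nat_lit 48) (Tr.lf (Fc.ed (nat_lit 47) (nat_lit 6) Col.l (nat_lit 6) (Dv.wd (nat_lit 41) [Mv.b (nat_lit 46), Mv.f (nat_lit 40), Mv.f (nat_lit 46)])))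
(Tr.nd (nat_lit 49) (Tr.lf (Fc.ed (nat_lit 48) (nat_lit 6) Col.c (nat_lit 6) (Dv.wd (nat_lit 42) [Mv.b (nat_lit 46), Mv.f (nat_lit 45), Mv.f (nat_lit 46)])))
(Tr.lf (Fc.ed (nat_lit 49) (nat_lit 6) Col.d (nat_lit 6) (Dv.wd (nat_lit 43) [Mv.b (nat_lit 46), Mv.f (nat_lit 42), Mv.f (nat_lit 46)])))))))
(Tr.nd (nat_lit 55) (Tr.nd (nat_lit 52) (Tr.nd (nat_lit 51) (Tr.lf (Fc.ed (nat_lit 50) (nat_lit 6) Col.f (nat_lit 6) (Dv.wd (nat_lit 44) [Mv.b (nat_lit 46), Mv.f (nat_lit 43), Mv.f (nat_lit 46)])))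
(Tr.lf (Fc.ed (nat_lit 51) (nat_lit 6) Col.h (nat_lit 6) (Dv.wd (nat_lit 45) [Mv.b (nat_lit 46), Mv.f (nat_lit 44), Mv.f (nat_lit 46)]))))
(Tr.nd (nat_lit 53) (Tr.lf (Fc.ed (nat_lit 52) (nat_lit 6) Col.b (nat_lit 6) (Dv.wd (nat_lit 46) [Mv.b (nat_lit 46), Mv.b (nat_lit 39), Mv.f (nat_lit 35), Mv.f (nat_lit 39), Mv.f (nat_lit 46)])))
(Tr.nd (nat_lit 54) (Tr.lf (Fc.ed (nat_lit 53) (nat_lit 6) Col.k (nat_lit 7) Dv.df))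
(Tr.lf (Fc.ed (nat_lit 54) (nat_lit 7) Col.b (nat_lit 7) (Dv.wd (nat_lit 47) [Mv.b (nat_lit 53), Mv.f (nat_lit 52), Mv.f (nat_lit 53)]))))))
(Tr.nd (nat_lit 57) (Tr.nd (nat_lit 56) (Tr.lf (Fc.ed (nat_lit 55) (nat_lit 7) Col.c (nat_lit 7) (Dv.wd (nat_lit 48) [Mv.b (nat_lit 53), Mv.f (nat_lit 48), Mv.f (nat_lit 53)])))
(Tr.lf (Fc.ed (nat_lit 56) (nat_lit 7) Col.d (nat_lit 7) (Dv.wd (nat_lit 49) [Mv.b (nat_lit 53), Mv.f (nat_lit 49), Mv.f (nat_lit 53)]))))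
(Tr.nd (nat_lit 58) (Tr.lf (Fc.ed (nat_lit 57) (nat_lit 7) Col.f (nat_lit 7) (Dv.wd (nat_lit 50) [Mv.b (nat_lit 53), Mv.f (nat_lit 50), Mv.f (nat_lit 53)])))
(Tr.nd (nat_lit 59) (Tr.lf (Fc.ed (nat_lit 58) (nat_lit 7) Col.h (nat_lit 7) (Dv.wd (nat_lit 51) [Mv.b (nat_lit 53), Mv.f (nat_lit 51), Mv.f (nat_lit 53)])))
(Tr.lf (Fc.ed (nat_lit 59) (nat_lit 7) Col.a (nat_lit 7) (Dv.wd (nat_lit 52) [Mv.b (nat_lit 53), Mv.b (nat_lit 46), Mv.f (nat_lit 41), Mv.f (nat_lit 46), Mv.f (nat_lit 53)]))))))))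
(Tr.nd (nat_lit 70) (Tr.nd (nat_lit 65) (Tr.nd (nat_lit 62) (Tr.nd (nat_lit 61) (Tr.lf (Fc.ed (nat_lit 60) (nat_lit 7) Col.e (nat_lit 8) Dv.df))
(Tr.lf (Fc.ed (nat_lit 61) (nat_lit 8) Col.a (nat_lit 8) (Dv.wd (nat_lit 53) [Mv.b (nat_lit 60), Mv.f (nat_lit 59), Mv.f (nat_lit 60)]))))
(Tr.nd (nat_lit 63) (Tr.lf (Fc.ed (nat_lit 62) (nat_lit 8) Col.b (nat_lit 8) (Dv.wd (nat_lit 54) [Mv.b (nat_lit 60), Mv.f (nat_lit 54), Mv.f (nat_lit 60)])))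
(Tr.nd (nat_lit 64) (Tr.lf (Fc.ed (nat_lit 63) (nat_lit 8) Col.c (nat_lit 8) (Dv.wd (nat_lit 55) [Mv.b (nat_lit 60), Mv.f (nat_lit 55), Mv.f (nat_lit 60)])))
(Tr.lf (Fc.ed (nat_lit 64) (nat_lit 8) Col.h (nat_lit 8) (Dv.wd (nat_lit 56) [Mv.b (nat_lit 60), Mv.f (nat_lit 58), Mv.f (nat_lit 60)]))))))
(Tr.nd (nat_lit 67) (Tr.nd (nat_lit 66) (Tr.lf (Fc.ed (nat_lit 65) (nat_lit 8) Col.d (nat_lit 9) Dv.df))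
(Tr.lf (Fc.ed (nat_lit 66) (nat_lit 9) Col.a (nat_lit 9) (Dv.wd (nat_lit 25) [Mv.b (nat_lit 65), Mv.f (nat_lit 61), Mv.f (nat_lit 65)]))))
(Tr.nd (nat_lit 68) (Tr.lf (Fc.ed (nat_lit 67) (nat_lit 9) Col.b (nat_lit 9) (Dv.wd (nat_lit 26) [Mv.b (nat_lit 65), Mv.f (nat_lit 62), Mv.f (nat_lit 65)])))
(Tr.nd (nat_lit 69) (Tr.lf (Fc.ed (nat_lit 68) (nat_lit 9) Col.e (nat_lit 9) (Dv.wd (nat_lit 57) [Mv.b (nat_lit 65), Mv.b (nat_lit 60), Mv.f (nat_lit 56), Mv.f (nat_lit 60), Mv.f (nat_lit 65)])))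
(Tr.lf (Fc.ed (nat_lit 69) (nat_lit 9) Col.c (nat_lit 10) Dv.df))))))
(Tr.nd (nat_lit 75) (Tr.nd (nat_lit 72) (Tr.nd (nat_lit 71) (Tr.lf (Fc.ed (nat_lit 70) (nat_lit 10) Col.a (nat_lit 10) (Dv.wd (nat_lit 31) [Mv.b (nat_lit 69), Mv.f (nat_lit 66), Mv.f (nat_lit 69)])))
(Tr.lf (Fc.ed (nat_lit 71) (nat_lit 10) Col.e (nat_lit 10) (Dv.wd (nat_lit 58) [Mv.b (nat_lit 69), Mv.f (nat_lit 68), Mv.f (nat_lit 69)]))))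
(Tr.nd (nat_lit 73) (Tr.lf (Fc.ed (nat_lit 72) (nat_lit 10) Col.d (nat_lit 10) (Dv.wd (nat_lit 34) [Mv.b (nat_lit 69), Mv.b (nat_lit 65), Mv.f (nat_lit 63), Mv.f (nat_lit 65), Mv.f (nat_lit 69)])))
(Tr.nd (nat_lit 74) (Tr.lf (Fc.ed (nat_lit 73) (nat_lit 10) Col.b (nat_lit 11) Dv.df))
(Tr.lf (Fc.ed (nat_lit 74) (nat_lit 11) Col.d (nat_lit 11) (Dv.wd (nat_lit 37) [Mv.b (nat_lit 73), Mv.f (nat_lit 72), Mv.f (nat_lit 73)]))))))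
(Tr.nd (nat_lit 78) (Tr.nd (nat_lit 76) (Tr.lf (Fc.ed (nat_lit 75) (nat_lit 11) Col.e (nat_lit 11) (Dv.wd (nat_lit 59) [Mv.b (nat_lit 73), Mv.f (nat_lit 71), Mv.f (nat_lit 73)])))
(Tr.nd (nat_lit 77) (Tr.lf (Fc.ed (nat_lit 76) (nat_lit 11) Col.c (nat_lit 11) (Dv.wd (nat_lit 40) [Mv.b (nat_lit 73), Mv.b (nat_lit 69), Mv.f (nat_lit 67), Mv.f (nat_lit 69), Mv.f (nat_lit 73)])))
(Tr.lf (Fc.ed (nat_lit 77) (nat_lit 11) Col.a (nat_lit 12) Dv.df))))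
(Tr.nd (nat_lit 79) (Tr.lf (Fc.ed (nat_lit 78) (nat_lit 12) Col.c (nat_lit 12) (Dv.wd (nat_lit 42) [Mv.b (nat_lit 77), Mv.f (nat_lit 76), Mv.f (nat_lit 77)])))
(Tr.nd (nat_lit 80) (Tr.lf (Fc.ed (nat_lit 79) (nat_lit 12) Col.d (nat_lit 12) (Dv.wd (nat_lit 43) [Mv.b (nat_lit 77), Mv.f (nat_lit 74), Mv.f (nat_lit 77)])))
(Tr.lf (Fc.ed (nat_lit 80) (nat_lit 12) Col.e (nat_lit 12) (Dv.wd (nat_lit 60) [Mv.b (nat_lit 77), Mv.f (nat_lit 75), Mv.f (nat_lit 77)]))))))))))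
(Tr.nd (nat_lit 121) (Tr.nd (nat_lit 101) (Tr.nd (nat_lit 91) (Tr.nd (nat_lit 86) (Tr.nd (nat_lit 83) (Tr.nd (nat_lit 82) (Tr.lf (Fc.ed (nat_lit 81) (nat_lit 12) Col.b (nat_lit 12) (Dv.wd (nat_lit 46) [Mv.b (nat_lit 77), Mv.b (nat_lit 73), Mv.f (nat_lit 70), Mv.f (nat_lit 73), Mv.f (nat_lit 77)])))
(Tr.lf (Fc.ed (nat_lit 82) (nat_lit 12) Col.h (nat_lit 13) Dv.df)))
(Tr.nd (nat_lit 84) (Tr.lf (Fc.ed (nat_lit 83) (nat_lit 13) Col.b (nat_lit 13) (Dv.wd (nat_lit 19) [Mv.b (nat_lit 82), Mv.f (nat_lit 81), Mv.f (nat_lit 82)])))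
(Tr.nd (nat_lit 85) (Tr.lf (Fc.ed (nat_lit 84) (nat_lit 13) Col.c (nat_lit 13) (Dv.wd (nat_lit 20) [Mv.b (nat_lit 82), Mv.f (nat_lit 78), Mv.f (nat_lit 82)])))
(Tr.lf (Fc.ed (nat_lit 85) (nat_lit 13) Col.e (nat_lit 13) (Dv.wd (nat_lit 21) [Mv.b (nat_lit 82), Mv.f (nat_lit 80), Mv.f (nat_lit 82)]))))))
(Tr.nd (nat_lit 88) (Tr.nd (nat_lit 87) (Tr.lf (Fc.ed (nat_lit 86) (nat_lit 13) Col.d (nat_lit 14) Dv.df))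
(Tr.lf (Fc.ed (nat_lit 87) (nat_lit 14) Col.b (nat_lit 14) (Dv.wd (nat_lit 26) [Mv.b (nat_lit 86), Mv.f (nat_lit 83), Mv.f (nat_lit 86)]))))
(Tr.nd (nat_lit 89) (Tr.lf (Fc.ed (nat_lit 88) (nat_lit 14) Col.h (nat_lit 14) (Dv.wd (nat_lit 28) [Mv.b (nat_lit 86), Mv.b (nat_lit 82), Mv.f (nat_lit 79), Mv.f (nat_lit 82), Mv.f (nat_lit 86)])))
(Tr.nd (nat_lit 90) (Tr.lf (Fc.ed (nat_lit 89) (nat_lit 14) Col.c (nat_lit 15) Dv.df))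
(Tr.lf (Fc.ed (nat_lit 90) (nat_lit 15) Col.h (nat_lit 15) (Dv.wd (nat_lit 33) [Mv.b (nat_lit 89), Mv.f (nat_lit 88), Mv.f (nat_lit 89)])))))))
(Tr.nd (nat_lit 96) (Tr.nd (nat_lit 93) (Tr.nd (nat_lit 92) (Tr.lf (Fc.ed (nat_lit 91) (nat_lit 15) Col.d (nat_lit 15) (Dv.wd (nat_lit 34) [Mv.b (nat_lit 89), Mv.b (nat_lit 86), Mv.f (nat_lit 84), Mv.f (nat_lit 86), Mv.f (nat_lit 89)])))
(Tr.lf (Fc.ed (nat_lit 92) (nat_lit 15) Col.e (nat_lit 16) Dv.df)))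
(Tr.nd (nat_lit 94) (Tr.lf (Fc.ed (nat_lit 93) (nat_lit 16) Col.h (nat_lit 16) (Dv.wd (nat_lit 56) [Mv.b (nat_lit 92), Mv.f (nat_lit 90), Mv.f (nat_lit 92)])))
(Tr.nd (nat_lit 95) (Tr.lf (Fc.ed (nat_lit 94) (nat_lit 16) Col.d (nat_lit 17) Dv.df))
(Tr.lf (Fc.ed (nat_lit 95) (nat_lit 17) Col.e (nat_lit 17) (Dv.wd (nat_lit 57) [Mv.b (nat_lit 94), Mv.b (nat_lit 92), Mv.f (nat_lit 91), Mv.f (nat_lit 92), Mv.f (nat_lit 94)]))))))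
(Tr.nd (nat_lit 98) (Tr.nd (nat_lit 97) (Tr.lf (Fc.ed (nat_lit 96) (nat_lit 17) Col.h (nat_lit 18) Dv.df))
(Tr.lf (Fc.ed (nat_lit 97) (nat_lit 18) Col.e (nat_lit 18) (Dv.wd (nat_lit 21) [Mv.b (nat_lit 96), Mv.f (nat_lit 95), Mv.f (nat_lit 96)]))))
(Tr.nd (nat_lit 99) (Tr.lf (Fc.ed (nat_lit 98) (nat_lit 18) Col.b (nat_lit 19) Dv.df))
(Tr.nd (nat_lit 100) (Tr.lf (Fc.ed (nat_lit 99) (nat_lit 19) Col.e (nat_lit 19) (Dv.wd (nat_lit 59) [Mv.b (nat_lit 98), Mv.f (nat_lit 97), Mv.f (nat_lit 98)])))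
(Tr.lf (Fc.ed (nat_lit 100) (nat_lit 19) Col.c (nat_lit 20) Dv.df)))))))
(Tr.nd (nat_lit 111) (Tr.nd (nat_lit 106) (Tr.nd (nat_lit 103) (Tr.nd (nat_lit 102) (Tr.lf (Fc.ed (nat_lit 101) (nat_lit 20) Col.d (nat_lit 21) Dv.df))
(Tr.lf (Fc.ed (nat_lit 102) (nat_lit 21) Col.e (nat_lit 22) Dv.df)))
(Tr.nd (nat_lit 104) (Tr.lf (Fc.ed (nat_lit 103) (nat_lit 22) Col.l (nat_lit 23) Dv.df))
(Tr.nd (nat_lit 105) (Tr.lf (Fc.ed (nat_lit 104) (nat_lit 23) Col.k (nat_lit 24) Dv.df))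
(Tr.lf (Fc.ed (nat_lit 105) (nat_lit 24) Col.a (nat_lit 25) Dv.df)))))
(Tr.nd (nat_lit 108) (Tr.nd (nat_lit 107) (Tr.lf (Fc.ed (nat_lit 106) (nat_lit 25) Col.b (nat_lit 26) Dv.df))
(Tr.lf (Fc.ed (nat_lit 107) (nat_lit 8) Col.k (nat_lit 27) Dv.df)))
(Tr.nd (nat_lit 109) (Tr.lf (Fc.ed (nat_lit 108) (nat_lit 27) Col.e (nat_lit 6) (Dv.wd (nat_lit 61) [Mv.f (nat_lit 53), Mv.f (nat_lit 60), Mv.f (nat_lit 107)])))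
(Tr.nd (nat_lit 110) (Tr.lf (Fc.ed (nat_lit 109) (nat_lit 27) Col.l (nat_lit 27) (Dv.wd (nat_lit 62) [Mv.f (nat_lit 108), Mv.f (nat_lit 47), Mv.b (nat_lit 108)])))
(Tr.lf (Fc.ed (nat_lit 110) (nat_lit 5) Col.e (nat_lit 28) Dv.df))))))
(Tr.nd (nat_lit 116) (Tr.nd (nat_lit 113) (Tr.nd (nat_lit 112) (Tr.lf (Fc.ed (nat_lit 111) (nat_lit 28) Col.a (nat_lit 27) (Dv.wd (nat_lit 53) [Mv.f (nat_lit 108), Mv.b (nat_lit 46), Mv.f (nat_lit 110)])))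
(Tr.lf (Fc.ed (nat_lit 112) (nat_lit 14) Col.l (nat_lit 29) Dv.df)))
(Tr.nd (nat_lit 114) (Tr.lf (Fc.ed (nat_lit 113) (nat_lit 16) Col.c (nat_lit 30) Dv.df))
(Tr.nd (nat_lit 115) (Tr.lf (Fc.ed (nat_lit 114) (nat_lit 30) Col.e (nat_lit 14) (Dv.wd (nat_lit 58) [Mv.f (nat_lit 89), Mv.f (nat_lit 92), Mv.f (nat_lit 113)])))
(Tr.lf (Fc.ed (nat_lit 115) (nat_lit 30) Col.h (nat_lit 30) (Dv.wd (nat_lit 33) [Mv.b (nat_lit 113), Mv.f (nat_lit 93), Mv.f (nat_lit 113)]))))))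
(Tr.nd (nat_lit 118) (Tr.nd (nat_lit 117) (Tr.lf (Fc.ed (nat_lit 116) (nat_lit 30) Col.b (nat_lit 30) (Dv.wd (nat_lit 63) [Mv.f (nat_lit 114), Mv.f (nat_lit 87), Mv.b (nat_lit 114)])))
(Tr.lf (Fc.ed (nat_lit 117) (nat_lit 30) Col.d (nat_lit 30) (Dv.wd (nat_lit 64) [Mv.f (nat_lit 114), Mv.b (nat_lit 86), Mv.f (nat_lit 85), Mv.f (nat_lit 86), Mv.b (nat_lit 114)]))))
(Tr.nd (nat_lit 119) (Tr.lf (Fc.ed (nat_lit 118) (nat_lit 17) Col.c (nat_lit 17) (Dv.wd (nat_lit 65) [Mv.b (nat_lit 94), Mv.f (nat_lit 113), Mv.f (nat_lit 117), Mv.b (nat_lit 113), Mv.f (nat_lit 94)])))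
(Tr.nd (nat_lit 120) (Tr.lf (Fc.ed (nat_lit 119) (nat_lit 18) Col.c (nat_lit 18) (Dv.wd (nat_lit 66) [Mv.b (nat_lit 96), Mv.f (nat_lit 118), Mv.f (nat_lit 96)])))
(Tr.lf (Fc.ed (nat_lit 120) (nat_lit 20) Col.b (nat_lit 20) (Dv.wd (nat_lit 67) [Mv.b (nat_lit 100), Mv.b (nat_lit 98), Mv.f (nat_lit 119), Mv.f (nat_lit 98), Mv.f (nat_lit 100)])))))))))
(Tr.nd (nat_lit 141) (Tr.nd (nat_lit 131) (Tr.nd (nat_lit 126) (Tr.nd (nat_lit 123) (Tr.nd (nat_lit 122) (Tr.lf (Fc.ed (nat_lit 121) (nat_lit 4) Col.e (nat_lit 31) Dv.df))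
(Tr.lf (Fc.ed (nat_lit 122) (nat_lit 31) Col.b (nat_lit 28) (Dv.wd (nat_lit 54) [Mv.b (nat_lit 110), Mv.b (nat_lit 39), Mv.f (nat_lit 121)]))))
(Tr.nd (nat_lit 124) (Tr.lf (Fc.ed (nat_lit 123) (nat_lit 3) Col.e (nat_lit 32) Dv.df))
(Tr.nd (nat_lit 125) (Tr.lf (Fc.ed (nat_lit 124) (nat_lit 32) Col.c (nat_lit 31) (Dv.wd (nat_lit 55) [Mv.b (nat_lit 121), Mv.b (nat_lit 32), Mv.f (nat_lit 123)])))
(Tr.lf (Fc.ed (nat_lit 125) (nat_lit 32) Col.d (nat_lit 32) (Dv.wd (nat_lit 68) [Mv.b (nat_lit 123), Mv.b (nat_lit 25), Mv.f (nat_lit 23), Mv.f (nat_lit 25), Mv.f (nat_lit 123)]))))))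
(Tr.nd (nat_lit 128) (Tr.nd (nat_lit 127) (Tr.lf (Fc.ed (nat_lit 126) (nat_lit 29) Col.e (nat_lit 33) Dv.df))
(Tr.lf (Fc.ed (nat_lit 127) (nat_lit 33) Col.l (nat_lit 30) (Dv.wd (nat_lit 69) [Mv.f (nat_lit 114), Mv.f (nat_lit 112), Mv.f (nat_lit 126)]))))
(Tr.nd (nat_lit 129) (Tr.lf (Fc.ed (nat_lit 128) (nat_lit 29) Col.c (nat_lit 34) Dv.df))
(Tr.nd (nat_lit 130) (Tr.lf (Fc.ed (nat_lit 129) (nat_lit 34) Col.l (nat_lit 15) (Dv.wd (nat_lit 29) [Mv.b (nat_lit 89), Mv.f (nat_lit 112), Mv.f (nat_lit 128)])))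
(Tr.lf (Fc.ed (nat_lit 130) (nat_lit 9) Col.k (nat_lit 35) Dv.df))))))
(Tr.nd (nat_lit 136) (Tr.nd (nat_lit 133) (Tr.nd (nat_lit 132) (Tr.lf (Fc.ed (nat_lit 131) (nat_lit 35) Col.d (nat_lit 27) (Dv.wd (nat_lit 49) [Mv.b (nat_lit 107), Mv.f (nat_lit 65), Mv.f (nat_lit 130)])))
(Tr.lf (Fc.ed (nat_lit 132) (nat_lit 35) Col.l (nat_lit 35) (Dv.wd (nat_lit 70) [Mv.f (nat_lit 131), Mv.f (nat_lit 109), Mv.b (nat_lit 131)]))))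
(Tr.nd (nat_lit 134) (Tr.lf (Fc.ed (nat_lit 133) (nat_lit 29) Col.d (nat_lit 36) Dv.df))
(Tr.nd (nat_lit 135) (Tr.lf (Fc.ed (nat_lit 134) (nat_lit 36) Col.l (nat_lit 13) (Dv.wd (nat_lit 23) [Mv.f (nat_lit 86), Mv.f (nat_lit 112), Mv.f (nat_lit 133)])))
(Tr.lf (Fc.ed (nat_lit 135) (nat_lit 12) Col.l (nat_lit 37) Dv.df)))))
(Tr.nd (nat_lit 138) (Tr.nd (nat_lit 137) (Tr.lf (Fc.ed (nat_lit 136) (nat_lit 21) Col.l (nat_lit 38) Dv.df))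
(Tr.lf (Fc.ed (nat_lit 137) (nat_lit 38) Col.e (nat_lit 23) (Dv.wd (nat_lit 71) [Mv.b (nat_lit 103), Mv.b (nat_lit 102), Mv.f (nat_lit 136)]))))
(Tr.nd (nat_lit 139) (Tr.lf (Fc.ed (nat_lit 138) (nat_lit 37) Col.a (nat_lit 39) Dv.df))
(Tr.nd (nat_lit 140) (Tr.lf (Fc.ed (nat_lit 139) (nat_lit 39) Col.l (nat_lit 11) (Dv.wd (nat_lit 41) [Mv.f (nat_lit 77), Mv.f (nat_lit 135), Mv.f (nat_lit 138)])))
(Tr.lf (Fc.ed (nat_lit 140) (nat_lit 24) Col.e (nat_lit 40) Dv.df)))))))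
(Tr.nd (nat_lit 151) (Tr.nd (nat_lit 146) (Tr.nd (nat_lit 143) (Tr.nd (nat_lit 142) (Tr.lf (Fc.ed (nat_lit 141) (nat_lit 40) Col.k (nat_lit 38) (Dv.wd (nat_lit 72) [Mv.f (nat_lit 137), Mv.f (nat_lit 104), Mv.f (nat_lit 140)])))
(Tr.lf (Fc.ed (nat_lit 142) (nat_lit 11) Col.h (nat_lit 41) Dv.df)))
(Tr.nd (nat_lit 144) (Tr.lf (Fc.ed (nat_lit 143) (nat_lit 41) Col.a (nat_lit 13) (Dv.wd (nat_lit 18) [Mv.b (nat_lit 82), Mv.b (nat_lit 77), Mv.f (nat_lit 142)])))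
(Tr.nd (nat_lit 145) (Tr.lf (Fc.ed (nat_lit 144) (nat_lit 16) Col.f (nat_lit 42) Dv.df))
(Tr.lf (Fc.ed (nat_lit 145) (nat_lit 38) Col.d (nat_lit 43) Dv.df)))))
(Tr.nd (nat_lit 148) (Tr.nd (nat_lit 147) (Tr.lf (Fc.ed (nat_lit 146) (nat_lit 43) Col.l (nat_lit 20) (Dv.wd (nat_lit 23) [Mv.f (nat_lit 101), Mv.f (nat_lit 136), Mv.f (nat_lit 145)])))
(Tr.lf (Fc.ed (nat_lit 147) (nat_lit 35) Col.c (nat_lit 44) Dv.df)))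
(Tr.nd (nat_lit 149) (Tr.lf (Fc.ed (nat_lit 148) (nat_lit 44) Col.l (nat_lit 44) (Dv.wd (nat_lit 29) [Mv.b (nat_lit 147), Mv.f (nat_lit 132), Mv.f (nat_lit 147)])))
(Tr.nd (nat_lit 150) (Tr.lf (Fc.ed (nat_lit 149) (nat_lit 44) Col.k (nat_lit 10) (Dv.wd (nat_lit 30) [Mv.b (nat_lit 69), Mv.f (nat_lit 130), Mv.f (nat_lit 147)])))
(Tr.lf (Fc.ed (nat_lit 150) (nat_lit 41) Col.l (nat_lit 45) Dv.df))))))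
(Tr.nd (nat_lit 156) (Tr.nd (nat_lit 153) (Tr.nd (nat_lit 152) (Tr.lf (Fc.ed (nat_lit 151) (nat_lit 45) Col.a (nat_lit 36) (Dv.wd (nat_lit 73) [Mv.f (nat_lit 134), Mv.b (nat_lit 143), Mv.f (nat_lit 150)])))
(Tr.lf (Fc.ed (nat_lit 152) (nat_lit 45) Col.h (nat_lit 39) (Dv.wd (nat_lit 74) [Mv.f (nat_lit 139), Mv.f (nat_lit 142), Mv.f (nat_lit 150)]))))
(Tr.nd (nat_lit 154) (Tr.lf (Fc.ed (nat_lit 153) (nat_lit 17) Col.b (nat_lit 46) Dv.df))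
(Tr.nd (nat_lit 155) (Tr.lf (Fc.ed (nat_lit 154) (nat_lit 46) Col.h (nat_lit 19) (Dv.wd (nat_lit 39) [Mv.b (nat_lit 98), Mv.b (nat_lit 96), Mv.f (nat_lit 153)])))
(Tr.lf (Fc.ed (nat_lit 155) (nat_lit 20) Col.h (nat_lit 47) Dv.df)))))
(Tr.nd (nat_lit 159) (Tr.nd (nat_lit 157) (Tr.lf (Fc.ed (nat_lit 156) (nat_lit 47) Col.b (nat_lit 47) (Dv.wd (nat_lit 19) [Mv.b (nat_lit 155), Mv.f (nat_lit 120), Mv.f (nat_lit 155)])))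
(Tr.nd (nat_lit 158) (Tr.lf (Fc.ed (nat_lit 157) (nat_lit 47) Col.c (nat_lit 46) (Dv.wd (nat_lit 20) [Mv.f (nat_lit 154), Mv.f (nat_lit 100), Mv.f (nat_lit 155)])))
(Tr.lf (Fc.ed (nat_lit 158) (nat_lit 40) Col.a (nat_lit 48) Dv.df))))
(Tr.nd (nat_lit 160) (Tr.lf (Fc.ed (nat_lit 159) (nat_lit 48) Col.e (nat_lit 25) (Dv.wd (nat_lit 60) [Mv.b (nat_lit 105), Mv.f (nat_lit 140), Mv.f (nat_lit 158)])))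
(Tr.nd (nat_lit 161) (Tr.lf (Fc.ed (nat_lit 160) (nat_lit 44) Col.b (nat_lit 49) Dv.df))
(Tr.lf (Fc.ed (nat_lit 161) (nat_lit 49) Col.l (nat_lit 49) (Dv.wd (nat_lit 35) [Mv.b (nat_lit 160), Mv.f (nat_lit 148), Mv.f (nat_lit 160)])))))))))))
(Tr.nd (nat_lit 243) (Tr.nd (nat_lit 202) (Tr.nd (nat_lit 182) (Tr.nd (nat_lit 172) (Tr.nd (nat_lit 167) (Tr.nd (nat_lit 164) (Tr.nd (nat_lit 163) (Tr.lf (Fc.ed (nat_lit 162) (nat_lit 49) Col.k (nat_lit 11) (Dv.wd (nat_lit 36) [Mv.b (nat_lit 73), Mv.b (nat_lit 149), Mv.f (nat_lit 160)])))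
(Tr.lf (Fc.ed (nat_lit 163) (nat_lit 39) Col.k (nat_lit 39) (Dv.wd (nat_lit 75) [Mv.f (nat_lit 139), Mv.b (nat_lit 162), Mv.f (nat_lit 161), Mv.f (nat_lit 162), Mv.b (nat_lit 139)]))))
(Tr.nd (nat_lit 165) (Tr.lf (Fc.ed (nat_lit 164) (nat_lit 45) Col.k (nat_lit 45) (Dv.wd (nat_lit 76) [Mv.f (nat_lit 152), Mv.f (nat_lit 163), Mv.b (nat_lit 152)])))
(Tr.nd (nat_lit 166) (Tr.lf (Fc.ed (nat_lit 165) (nat_lit 14) Col.a (nat_lit 50) Dv.df))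
(Tr.lf (Fc.ed (nat_lit 166) (nat_lit 50) Col.d (nat_lit 41) (Dv.wd (nat_lit 43) [Mv.f (nat_lit 143), Mv.f (nat_lit 86), Mv.f (nat_lit 165)]))))))
(Tr.nd (nat_lit 169) (Tr.nd (nat_lit 168) (Tr.lf (Fc.ed (nat_lit 167) (nat_lit 43) Col.h (nat_lit 51) Dv.df))
(Tr.lf (Fc.ed (nat_lit 168) (nat_lit 51) Col.l (nat_lit 47) (Dv.wd (nat_lit 16) [Mv.b (nat_lit 155), Mv.b (nat_lit 146), Mv.f (nat_lit 167)]))))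
(Tr.nd (nat_lit 170) (Tr.lf (Fc.ed (nat_lit 169) (nat_lit 46) Col.d (nat_lit 52) Dv.df))
(Tr.nd (nat_lit 171) (Tr.lf (Fc.ed (nat_lit 170) (nat_lit 52) Col.b (nat_lit 16) (Dv.wd (nat_lit 26) [Mv.f (nat_lit 94), Mv.f (nat_lit 153), Mv.f (nat_lit 169)])))
(Tr.lf (Fc.ed (nat_lit 171) (nat_lit 29) Col.a (nat_lit 53) Dv.df))))))
(Tr.nd (nat_lit 177) (Tr.nd (nat_lit 174) (Tr.nd (nat_lit 173) (Tr.lf (Fc.ed (nat_lit 172) (nat_lit 53) Col.l (nat_lit 50) (Dv.wd (nat_lit 41) [Mv.b (nat_lit 165), Mv.f (nat_lit 112), Mv.f (nat_lit 171)])))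
(Tr.lf (Fc.ed (nat_lit 173) (nat_lit 53) Col.d (nat_lit 45) (Dv.wd (nat_lit 43) [Mv.f (nat_lit 151), Mv.b (nat_lit 133), Mv.f (nat_lit 171)]))))
(Tr.nd (nat_lit 175) (Tr.lf (Fc.ed (nat_lit 174) (nat_lit 53) Col.k (nat_lit 53) (Dv.wd (nat_lit 77) [Mv.f (nat_lit 173), Mv.f (nat_lit 164), Mv.b (nat_lit 173)])))
(Tr.nd (nat_lit 176) (Tr.lf (Fc.ed (nat_lit 175) (nat_lit 18) Col.f (nat_lit 54) Dv.df))
(Tr.lf (Fc.ed (nat_lit 176) (nat_lit 35) Col.a (nat_lit 55) Dv.df)))))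
(Tr.nd (nat_lit 179) (Tr.nd (nat_lit 178) (Tr.lf (Fc.ed (nat_lit 177) (nat_lit 55) Col.d (nat_lit 28) (Dv.wd (nat_lit 43) [Mv.f (nat_lit 111), Mv.b (nat_lit 131), Mv.f (nat_lit 176)])))
(Tr.lf (Fc.ed (nat_lit 178) (nat_lit 53) Col.c (nat_lit 56) Dv.df)))
(Tr.nd (nat_lit 180) (Tr.lf (Fc.ed (nat_lit 179) (nat_lit 56) Col.k (nat_lit 56) (Dv.wd (nat_lit 30) [Mv.b (nat_lit 178), Mv.f (nat_lit 174), Mv.f (nat_lit 178)])))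
(Tr.nd (nat_lit 181) (Tr.lf (Fc.ed (nat_lit 180) (nat_lit 56) Col.a (nat_lit 34) (Dv.wd (nat_lit 31) [Mv.b (nat_lit 128), Mv.f (nat_lit 171), Mv.f (nat_lit 178)])))
(Tr.lf (Fc.ed (nat_lit 181) (nat_lit 16) Col.k (nat_lit 57) Dv.df)))))))
(Tr.nd (nat_lit 192) (Tr.nd (nat_lit 187) (Tr.nd (nat_lit 184) (Tr.nd (nat_lit 183) (Tr.lf (Fc.ed (nat_lit 182) (nat_lit 56) Col.l (nat_lit 58) Dv.df))
(Tr.lf (Fc.ed (nat_lit 183) (nat_lit 58) Col.a (nat_lit 15) (Dv.wd (nat_lit 73) [Mv.b (nat_lit 129), Mv.b (nat_lit 180), Mv.f (nat_lit 182)]))))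
(Tr.nd (nat_lit 185) (Tr.lf (Fc.ed (nat_lit 184) (nat_lit 58) Col.c (nat_lit 50) (Dv.wd (nat_lit 78) [Mv.b (nat_lit 172), Mv.f (nat_lit 178), Mv.f (nat_lit 182)])))
(Tr.nd (nat_lit 186) (Tr.lf (Fc.ed (nat_lit 185) (nat_lit 16) Col.l (nat_lit 59) Dv.df))
(Tr.lf (Fc.ed (nat_lit 186) (nat_lit 59) Col.c (nat_lit 33) (Dv.wd (nat_lit 78) [Mv.f (nat_lit 127), Mv.b (nat_lit 113), Mv.f (nat_lit 185)]))))))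
(Tr.nd (nat_lit 189) (Tr.nd (nat_lit 188) (Tr.lf (Fc.ed (nat_lit 187) (nat_lit 59) Col.e (nat_lit 34) (Dv.wd (nat_lit 71) [Mv.f (nat_lit 129), Mv.f (nat_lit 92), Mv.f (nat_lit 185)])))
(Tr.lf (Fc.ed (nat_lit 188) (nat_lit 41) Col.b (nat_lit 60) Dv.df)))
(Tr.nd (nat_lit 190) (Tr.lf (Fc.ed (nat_lit 189) (nat_lit 60) Col.h (nat_lit 10) (Dv.wd (nat_lit 39) [Mv.f (nat_lit 73), Mv.f (nat_lit 142), Mv.f (nat_lit 188)])))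
(Tr.nd (nat_lit 191) (Tr.lf (Fc.ed (nat_lit 190) (nat_lit 17) Col.f (nat_lit 61) Dv.df))
(Tr.lf (Fc.ed (nat_lit 191) (nat_lit 61) Col.h (nat_lit 54) (Dv.wd (nat_lit 79) [Mv.b (nat_lit 175), Mv.b (nat_lit 96), Mv.f (nat_lit 190)])))))))
(Tr.nd (nat_lit 197) (Tr.nd (nat_lit 194) (Tr.nd (nat_lit 193) (Tr.lf (Fc.ed (nat_lit 192) (nat_lit 19) Col.k (nat_lit 62) Dv.df))
(Tr.lf (Fc.ed (nat_lit 193) (nat_lit 62) Col.h (nat_lit 63) Dv.df)))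
(Tr.nd (nat_lit 195) (Tr.lf (Fc.ed (nat_lit 194) (nat_lit 63) Col.k (nat_lit 46) (Dv.wd (nat_lit 17) [Mv.f (nat_lit 154), Mv.f (nat_lit 192), Mv.f (nat_lit 193)])))
(Tr.nd (nat_lit 196) (Tr.lf (Fc.ed (nat_lit 195) (nat_lit 52) Col.l (nat_lit 64) Dv.df))
(Tr.lf (Fc.ed (nat_lit 196) (nat_lit 15) Col.b (nat_lit 65) Dv.df)))))
(Tr.nd (nat_lit 199) (Tr.nd (nat_lit 198) (Tr.lf (Fc.ed (nat_lit 197) (nat_lit 65) Col.e (nat_lit 52) (Dv.wd (nat_lit 59) [Mv.f (nat_lit 170), Mv.b (nat_lit 92), Mv.f (nat_lit 196)])))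
(Tr.lf (Fc.ed (nat_lit 198) (nat_lit 65) Col.h (nat_lit 65) (Dv.wd (nat_lit 39) [Mv.b (nat_lit 196), Mv.f (nat_lit 90), Mv.f (nat_lit 196)]))))
(Tr.nd (nat_lit 200) (Tr.lf (Fc.ed (nat_lit 199) (nat_lit 14) Col.k (nat_lit 66) Dv.df))
(Tr.nd (nat_lit 201) (Tr.lf (Fc.ed (nat_lit 200) (nat_lit 17) Col.k (nat_lit 67) Dv.df))
(Tr.lf (Fc.ed (nat_lit 201) (nat_lit 67) Col.b (nat_lit 63) (Dv.wd (nat_lit 47) [Mv.f (nat_lit 194), Mv.b (nat_lit 153), Mv.f (nat_lit 200)])))))))))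
(Tr.nd (nat_lit 222) (Tr.nd (nat_lit 212) (Tr.nd (nat_lit 207) (Tr.nd (nat_lit 204) (Tr.nd (nat_lit 203) (Tr.lf (Fc.ed (nat_lit 202) (nat_lit 67) Col.d (nat_lit 57) (Dv.wd (nat_lit 49) [Mv.b (nat_lit 181), Mv.f (nat_lit 94), Mv.f (nat_lit 200)])))
(Tr.lf (Fc.ed (nat_lit 203) (nat_lit 15) Col.k (nat_lit 68) Dv.df)))
(Tr.nd (nat_lit 205) (Tr.lf (Fc.ed (nat_lit 204) (nat_lit 68) Col.c (nat_lit 66) (Dv.wd (nat_lit 48) [Mv.b (nat_lit 199), Mv.f (nat_lit 89), Mv.f (nat_lit 203)])))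
(Tr.nd (nat_lit 206) (Tr.lf (Fc.ed (nat_lit 205) (nat_lit 68) Col.e (nat_lit 57) (Dv.wd (nat_lit 61) [Mv.b (nat_lit 181), Mv.b (nat_lit 92), Mv.f (nat_lit 203)])))
(Tr.lf (Fc.ed (nat_lit 206) (nat_lit 57) Col.b (nat_lit 69) Dv.df)))))
(Tr.nd (nat_lit 209) (Tr.nd (nat_lit 208) (Tr.lf (Fc.ed (nat_lit 207) (nat_lit 69) Col.d (nat_lit 63) (Dv.wd (nat_lit 37) [Mv.b (nat_lit 201), Mv.f (nat_lit 202), Mv.f (nat_lit 206)])))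
(Tr.lf (Fc.ed (nat_lit 208) (nat_lit 52) Col.f (nat_lit 70) Dv.df)))
(Tr.nd (nat_lit 210) (Tr.lf (Fc.ed (nat_lit 209) (nat_lit 70) Col.b (nat_lit 42) (Dv.wd (nat_lit 80) [Mv.b (nat_lit 144), Mv.b (nat_lit 170), Mv.f (nat_lit 208)])))
(Tr.nd (nat_lit 211) (Tr.lf (Fc.ed (nat_lit 210) (nat_lit 30) Col.a (nat_lit 71) Dv.df))
(Tr.lf (Fc.ed (nat_lit 211) (nat_lit 71) Col.e (nat_lit 50) (Dv.wd (nat_lit 60) [Mv.b (nat_lit 165), Mv.b (nat_lit 114), Mv.f (nat_lit 210)])))))))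
(Tr.nd (nat_lit 217) (Tr.nd (nat_lit 214) (Tr.nd (nat_lit 213) (Tr.lf (Fc.ed (nat_lit 212) (nat_lit 43) Col.c (nat_lit 72) Dv.df))
(Tr.lf (Fc.ed (nat_lit 213) (nat_lit 72) Col.l (nat_lit 19) (Dv.wd (nat_lit 29) [Mv.f (nat_lit 100), Mv.b (nat_lit 146), Mv.f (nat_lit 212)]))))
(Tr.nd (nat_lit 215) (Tr.lf (Fc.ed (nat_lit 214) (nat_lit 68) Col.b (nat_lit 73) Dv.df))
(Tr.nd (nat_lit 216) (Tr.lf (Fc.ed (nat_lit 215) (nat_lit 73) Col.e (nat_lit 69) (Dv.wd (nat_lit 59) [Mv.b (nat_lit 206), Mv.b (nat_lit 205), Mv.f (nat_lit 214)])))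
(Tr.lf (Fc.ed (nat_lit 216) (nat_lit 71) Col.l (nat_lit 74) Dv.df)))))
(Tr.nd (nat_lit 219) (Tr.nd (nat_lit 218) (Tr.lf (Fc.ed (nat_lit 217) (nat_lit 30) Col.f (nat_lit 75) Dv.df))
(Tr.lf (Fc.ed (nat_lit 218) (nat_lit 75) Col.b (nat_lit 75) (Dv.wd (nat_lit 80) [Mv.b (nat_lit 217), Mv.f (nat_lit 116), Mv.f (nat_lit 217)]))))
(Tr.nd (nat_lit 220) (Tr.lf (Fc.ed (nat_lit 219) (nat_lit 75) Col.c (nat_lit 42) (Dv.wd (nat_lit 81) [Mv.b (nat_lit 144), Mv.f (nat_lit 113), Mv.f (nat_lit 217)])))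
(Tr.nd (nat_lit 221) (Tr.lf (Fc.ed (nat_lit 220) (nat_lit 75) Col.h (nat_lit 75) (Dv.wd (nat_lit 79) [Mv.b (nat_lit 217), Mv.f (nat_lit 115), Mv.f (nat_lit 217)])))
(Tr.lf (Fc.ed (nat_lit 221) (nat_lit 40) Col.d (nat_lit 76) Dv.df)))))))
(Tr.nd (nat_lit 232) (Tr.nd (nat_lit 227) (Tr.nd (nat_lit 224) (Tr.nd (nat_lit 223) (Tr.lf (Fc.ed (nat_lit 222) (nat_lit 76) Col.k (nat_lit 43) (Dv.wd (nat_lit 24) [Mv.b (nat_lit 145), Mv.b (nat_lit 141), Mv.f (nat_lit 221)])))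
(Tr.lf (Fc.ed (nat_lit 223) (nat_lit 75) Col.a (nat_lit 77) Dv.df)))
(Tr.nd (nat_lit 225) (Tr.lf (Fc.ed (nat_lit 224) (nat_lit 77) Col.f (nat_lit 71) (Dv.wd (nat_lit 44) [Mv.b (nat_lit 210), Mv.f (nat_lit 217), Mv.f (nat_lit 223)])))
(Tr.nd (nat_lit 226) (Tr.lf (Fc.ed (nat_lit 225) (nat_lit 77) Col.h (nat_lit 77) (Dv.wd (nat_lit 45) [Mv.b (nat_lit 223), Mv.f (nat_lit 220), Mv.f (nat_lit 223)])))
(Tr.lf (Fc.ed (nat_lit 226) (nat_lit 33) Col.f (nat_lit 78) Dv.df)))))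
(Tr.nd (nat_lit 229) (Tr.nd (nat_lit 228) (Tr.lf (Fc.ed (nat_lit 227) (nat_lit 78) Col.l (nat_lit 75) (Dv.wd (nat_lit 82) [Mv.b (nat_lit 217), Mv.b (nat_lit 127), Mv.f (nat_lit 226)])))
(Tr.lf (Fc.ed (nat_lit 228) (nat_lit 26) Col.e (nat_lit 79) Dv.df)))
(Tr.nd (nat_lit 230) (Tr.lf (Fc.ed (nat_lit 229) (nat_lit 79) Col.b (nat_lit 48) (Dv.wd (nat_lit 54) [Mv.f (nat_lit 159), Mv.f (nat_lit 106), Mv.f (nat_lit 228)])))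
(Tr.nd (nat_lit 231) (Tr.lf (Fc.ed (nat_lit 230) (nat_lit 19) Col.f (nat_lit 80) Dv.df))
(Tr.lf (Fc.ed (nat_lit 231) (nat_lit 80) Col.b (nat_lit 54) (Dv.wd (nat_lit 80) [Mv.b (nat_lit 175), Mv.f (nat_lit 98), Mv.f (nat_lit 230)])))))))
(Tr.nd (nat_lit 237) (Tr.nd (nat_lit 234) (Tr.nd (nat_lit 233) (Tr.lf (Fc.ed (nat_lit 232) (nat_lit 9) Col.h (nat_lit 81) Dv.df))
(Tr.lf (Fc.ed (nat_lit 233) (nat_lit 81) Col.a (nat_lit 81) (Dv.wd (nat_lit 18) [Mv.b (nat_lit 232), Mv.f (nat_lit 66), Mv.f (nat_lit 232)]))))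
(Tr.nd (nat_lit 235) (Tr.lf (Fc.ed (nat_lit 234) (nat_lit 81) Col.b (nat_lit 81) (Dv.wd (nat_lit 19) [Mv.b (nat_lit 232), Mv.f (nat_lit 67), Mv.f (nat_lit 232)])))
(Tr.nd (nat_lit 236) (Tr.lf (Fc.ed (nat_lit 235) (nat_lit 81) Col.c (nat_lit 60) (Dv.wd (nat_lit 20) [Mv.f (nat_lit 189), Mv.b (nat_lit 69), Mv.f (nat_lit 232)])))
(Tr.lf (Fc.ed (nat_lit 236) (nat_lit 81) Col.d (nat_lit 81) (Dv.wd (nat_lit 83) [Mv.b (nat_lit 232), Mv.b (nat_lit 65), Mv.f (nat_lit 64), Mv.f (nat_lit 65), Mv.f (nat_lit 232)]))))))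
(Tr.nd (nat_lit 240) (Tr.nd (nat_lit 238) (Tr.lf (Fc.ed (nat_lit 237) (nat_lit 64) Col.e (nat_lit 82) Dv.df))
(Tr.nd (nat_lit 239) (Tr.lf (Fc.ed (nat_lit 238) (nat_lit 82) Col.l (nat_lit 65) (Dv.wd (nat_lit 69) [Mv.f (nat_lit 197), Mv.f (nat_lit 195), Mv.f (nat_lit 237)])))
(Tr.lf (Fc.ed (nat_lit 239) (nat_lit 10) Col.l (nat_lit 83) Dv.df))))
(Tr.nd (nat_lit 241) (Tr.lf (Fc.ed (nat_lit 240) (nat_lit 83) Col.b (nat_lit 39) (Dv.wd (nat_lit 84) [Mv.f (nat_lit 139), Mv.b (nat_lit 73), Mv.f (nat_lit 239)])))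
(Tr.nd (nat_lit 242) (Tr.lf (Fc.ed (nat_lit 241) (nat_lit 13) Col.k (nat_lit 84) Dv.df))
(Tr.lf (Fc.ed (nat_lit 242) (nat_lit 84) Col.d (nat_lit 66) (Dv.wd (nat_lit 49) [Mv.b (nat_lit 199), Mv.b (nat_lit 86), Mv.f (nat_lit 241)]))))))))))
(Tr.nd (nat_lit 283) (Tr.nd (nat_lit 263) (Tr.nd (nat_lit 253) (Tr.nd (nat_lit 248) (Tr.nd (nat_lit 245) (Tr.nd (nat_lit 244) (Tr.lf (Fc.ed (nat_lit 243) (nat_lit 71) Col.c (nat_lit 85) Dv.df))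
(Tr.lf (Fc.ed (nat_lit 244) (nat_lit 85) Col.a (nat_lit 16) (Dv.wd (nat_lit 31) [Mv.f (nat_lit 113), Mv.f (nat_lit 210), Mv.f (nat_lit 243)]))))
(Tr.nd (nat_lit 246) (Tr.lf (Fc.ed (nat_lit 245) (nat_lit 59) Col.a (nat_lit 86) Dv.df))
(Tr.nd (nat_lit 247) (Tr.lf (Fc.ed (nat_lit 246) (nat_lit 86) Col.e (nat_lit 56) (Dv.wd (nat_lit 60) [Mv.f (nat_lit 180), Mv.b (nat_lit 187), Mv.f (nat_lit 245)])))
(Tr.lf (Fc.ed (nat_lit 247) (nat_lit 86) Col.k (nat_lit 86) (Dv.wd (nat_lit 85) [Mv.f (nat_lit 246), Mv.f (nat_lit 179), Mv.b (nat_lit 246)]))))))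
(Tr.nd (nat_lit 250) (Tr.nd (nat_lit 249) (Tr.lf (Fc.ed (nat_lit 248) (nat_lit 42) Col.a (nat_lit 87) Dv.df))
(Tr.lf (Fc.ed (nat_lit 249) (nat_lit 87) Col.c (nat_lit 77) (Dv.wd (nat_lit 42) [Mv.b (nat_lit 223), Mv.f (nat_lit 219), Mv.f (nat_lit 248)]))))
(Tr.nd (nat_lit 251) (Tr.lf (Fc.ed (nat_lit 250) (nat_lit 87) Col.f (nat_lit 85) (Dv.wd (nat_lit 44) [Mv.f (nat_lit 244), Mv.f (nat_lit 144), Mv.f (nat_lit 248)])))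
(Tr.nd (nat_lit 252) (Tr.lf (Fc.ed (nat_lit 251) (nat_lit 59) Col.f (nat_lit 88) Dv.df))
(Tr.lf (Fc.ed (nat_lit 252) (nat_lit 88) Col.l (nat_lit 42) (Dv.wd (nat_lit 82) [Mv.b (nat_lit 144), Mv.f (nat_lit 185), Mv.f (nat_lit 251)])))))))
(Tr.nd (nat_lit 258) (Tr.nd (nat_lit 255) (Tr.nd (nat_lit 254) (Tr.lf (Fc.ed (nat_lit 253) (nat_lit 88) Col.c (nat_lit 78) (Dv.wd (nat_lit 81) [Mv.b (nat_lit 226), Mv.b (nat_lit 186), Mv.f (nat_lit 251)])))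
(Tr.lf (Fc.ed (nat_lit 254) (nat_lit 17) Col.a (nat_lit 89) Dv.df)))
(Tr.nd (nat_lit 256) (Tr.lf (Fc.ed (nat_lit 255) (nat_lit 89) Col.c (nat_lit 89) (Dv.wd (nat_lit 42) [Mv.b (nat_lit 254), Mv.f (nat_lit 118), Mv.f (nat_lit 254)])))
(Tr.nd (nat_lit 257) (Tr.lf (Fc.ed (nat_lit 256) (nat_lit 89) Col.d (nat_lit 85) (Dv.wd (nat_lit 43) [Mv.f (nat_lit 244), Mv.f (nat_lit 94), Mv.f (nat_lit 254)])))
(Tr.lf (Fc.ed (nat_lit 257) (nat_lit 89) Col.e (nat_lit 89) (Dv.wd (nat_lit 60) [Mv.b (nat_lit 254), Mv.f (nat_lit 95), Mv.f (nat_lit 254)]))))))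
(Tr.nd (nat_lit 260) (Tr.nd (nat_lit 259) (Tr.lf (Fc.ed (nat_lit 258) (nat_lit 51) Col.c (nat_lit 90) Dv.df))
(Tr.lf (Fc.ed (nat_lit 259) (nat_lit 90) Col.l (nat_lit 46) (Dv.wd (nat_lit 29) [Mv.b (nat_lit 157), Mv.b (nat_lit 168), Mv.f (nat_lit 258)]))))
(Tr.nd (nat_lit 261) (Tr.lf (Fc.ed (nat_lit 260) (nat_lit 90) Col.h (nat_lit 72) (Dv.wd (nat_lit 33) [Mv.b (nat_lit 212), Mv.f (nat_lit 167), Mv.f (nat_lit 258)])))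
(Tr.nd (nat_lit 262) (Tr.lf (Fc.ed (nat_lit 261) (nat_lit 64) Col.d (nat_lit 90) (Dv.wd (nat_lit 86) [Mv.f (nat_lit 259), Mv.f (nat_lit 169), Mv.f (nat_lit 195)])))
(Tr.lf (Fc.ed (nat_lit 262) (nat_lit 89) Col.f (nat_lit 91) Dv.df)))))))
(Tr.nd (nat_lit 273) (Tr.nd (nat_lit 268) (Tr.nd (nat_lit 265) (Tr.nd (nat_lit 264) (Tr.lf (Fc.ed (nat_lit 263) (nat_lit 91) Col.a (nat_lit 61) (Dv.wd (nat_lit 87) [Mv.b (nat_lit 190), Mv.f (nat_lit 254), Mv.f (nat_lit 262)])))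
(Tr.lf (Fc.ed (nat_lit 264) (nat_lit 91) Col.c (nat_lit 91) (Dv.wd (nat_lit 81) [Mv.b (nat_lit 262), Mv.f (nat_lit 255), Mv.f (nat_lit 262)]))))
(Tr.nd (nat_lit 266) (Tr.lf (Fc.ed (nat_lit 265) (nat_lit 91) Col.d (nat_lit 87) (Dv.wd (nat_lit 88) [Mv.f (nat_lit 250), Mv.b (nat_lit 256), Mv.f (nat_lit 262)])))
(Tr.nd (nat_lit 267) (Tr.lf (Fc.ed (nat_lit 266) (nat_lit 18) Col.a (nat_lit 92) Dv.df))
(Tr.lf (Fc.ed (nat_lit 267) (nat_lit 92) Col.h (nat_lit 89) (Dv.wd (nat_lit 45) [Mv.b (nat_lit 254), Mv.f (nat_lit 96), Mv.f (nat_lit 266)]))))))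
(Tr.nd (nat_lit 270) (Tr.nd (nat_lit 269) (Tr.lf (Fc.ed (nat_lit 268) (nat_lit 83) Col.c (nat_lit 93) Dv.df))
(Tr.lf (Fc.ed (nat_lit 269) (nat_lit 93) Col.l (nat_lit 9) (Dv.wd (nat_lit 29) [Mv.f (nat_lit 69), Mv.f (nat_lit 239), Mv.f (nat_lit 268)]))))
(Tr.nd (nat_lit 271) (Tr.lf (Fc.ed (nat_lit 270) (nat_lit 60) Col.d (nat_lit 94) Dv.df))
(Tr.nd (nat_lit 272) (Tr.lf (Fc.ed (nat_lit 271) (nat_lit 94) Col.b (nat_lit 50) (Dv.wd (nat_lit 26) [Mv.f (nat_lit 166), Mv.f (nat_lit 188), Mv.f (nat_lit 270)])))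
(Tr.lf (Fc.ed (nat_lit 272) (nat_lit 94) Col.c (nat_lit 94) (Dv.wd (nat_lit 89) [Mv.b (nat_lit 270), Mv.b (nat_lit 235), Mv.f (nat_lit 236), Mv.f (nat_lit 235), Mv.f (nat_lit 270)])))))))
(Tr.nd (nat_lit 278) (Tr.nd (nat_lit 275) (Tr.nd (nat_lit 274) (Tr.lf (Fc.ed (nat_lit 273) (nat_lit 58) Col.b (nat_lit 58) (Dv.wd (nat_lit 67) [Mv.f (nat_lit 184), Mv.b (nat_lit 271), Mv.f (nat_lit 272), Mv.f (nat_lit 271), Mv.b (nat_lit 184)])))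
(Tr.lf (Fc.ed (nat_lit 274) (nat_lit 65) Col.a (nat_lit 65) (Dv.wd (nat_lit 90) [Mv.b (nat_lit 196), Mv.b (nat_lit 183), Mv.f (nat_lit 273), Mv.f (nat_lit 183), Mv.f (nat_lit 196)]))))
(Tr.nd (nat_lit 276) (Tr.lf (Fc.ed (nat_lit 275) (nat_lit 52) Col.a (nat_lit 52) (Dv.wd (nat_lit 91) [Mv.b (nat_lit 197), Mv.f (nat_lit 274), Mv.f (nat_lit 197)])))
(Tr.nd (nat_lit 277) (Tr.lf (Fc.ed (nat_lit 276) (nat_lit 70) Col.a (nat_lit 70) (Dv.wd (nat_lit 92) [Mv.b (nat_lit 208), Mv.f (nat_lit 275), Mv.f (nat_lit 208)])))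
(Tr.lf (Fc.ed (nat_lit 277) (nat_lit 87) Col.b (nat_lit 87) (Dv.wd (nat_lit 93) [Mv.b (nat_lit 248), Mv.b (nat_lit 209), Mv.f (nat_lit 276), Mv.f (nat_lit 209), Mv.f (nat_lit 248)]))))))
(Tr.nd (nat_lit 280) (Tr.nd (nat_lit 279) (Tr.lf (Fc.ed (nat_lit 278) (nat_lit 91) Col.b (nat_lit 91) (Dv.wd (nat_lit 94) [Mv.f (nat_lit 265), Mv.f (nat_lit 277), Mv.b (nat_lit 265)])))
(Tr.lf (Fc.ed (nat_lit 279) (nat_lit 89) Col.b (nat_lit 89) (Dv.wd (nat_lit 95) [Mv.f (nat_lit 262), Mv.f (nat_lit 278), Mv.b (nat_lit 262)]))))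
(Tr.nd (nat_lit 281) (Tr.lf (Fc.ed (nat_lit 280) (nat_lit 92) Col.b (nat_lit 92) (Dv.wd (nat_lit 96) [Mv.f (nat_lit 267), Mv.f (nat_lit 279), Mv.b (nat_lit 267)])))
(Tr.nd (nat_lit 282) (Tr.lf (Fc.ed (nat_lit 281) (nat_lit 19) Col.a (nat_lit 19) (Dv.wd (nat_lit 90) [Mv.b (nat_lit 98), Mv.f (nat_lit 266), Mv.f (nat_lit 280), Mv.b (nat_lit 266), Mv.f (nat_lit 98)])))
(Tr.lf (Fc.ed (nat_lit 282) (nat_lit 20) Col.a (nat_lit 20) (Dv.wd (nat_lit 97) [Mv.b (nat_lit 100), Mv.f (nat_lit 281), Mv.f (nat_lit 100)])))))))))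
(Tr.nd (nat_lit 303) (Tr.nd (nat_lit 293) (Tr.nd (nat_lit 288) (Tr.nd (nat_lit 285) (Tr.nd (nat_lit 284) (Tr.lf (Fc.ed (nat_lit 283) (nat_lit 80) Col.a (nat_lit 80) (Dv.wd (nat_lit 92) [Mv.b (nat_lit 230), Mv.f (nat_lit 281), Mv.f (nat_lit 230)])))
(Tr.lf (Fc.ed (nat_lit 284) (nat_lit 47) Col.a (nat_lit 47) (Dv.wd (nat_lit 98) [Mv.b (nat_lit 155), Mv.f (nat_lit 282), Mv.f (nat_lit 155)]))))
(Tr.nd (nat_lit 286) (Tr.lf (Fc.ed (nat_lit 285) (nat_lit 48) Col.d (nat_lit 95) Dv.df))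
(Tr.nd (nat_lit 287) (Tr.lf (Fc.ed (nat_lit 286) (nat_lit 95) Col.a (nat_lit 76) (Dv.wd (nat_lit 25) [Mv.b (nat_lit 221), Mv.f (nat_lit 158), Mv.f (nat_lit 285)])))
(Tr.lf (Fc.ed (nat_lit 287) (nat_lit 61) Col.b (nat_lit 96) Dv.df)))))
(Tr.nd (nat_lit 290) (Tr.nd (nat_lit 289) (Tr.lf (Fc.ed (nat_lit 288) (nat_lit 96) Col.f (nat_lit 46) (Dv.wd (nat_lit 38) [Mv.b (nat_lit 153), Mv.f (nat_lit 190), Mv.f (nat_lit 287)])))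
(Tr.lf (Fc.ed (nat_lit 289) (nat_lit 96) Col.h (nat_lit 80) (Dv.wd (nat_lit 39) [Mv.f (nat_lit 231), Mv.b (nat_lit 191), Mv.f (nat_lit 287)]))))
(Tr.nd (nat_lit 291) (Tr.lf (Fc.ed (nat_lit 290) (nat_lit 84) Col.h (nat_lit 97) Dv.df))
(Tr.nd (nat_lit 292) (Tr.lf (Fc.ed (nat_lit 291) (nat_lit 97) Col.k (nat_lit 12) (Dv.wd (nat_lit 17) [Mv.f (nat_lit 82), Mv.f (nat_lit 241), Mv.f (nat_lit 290)])))
(Tr.lf (Fc.ed (nat_lit 292) (nat_lit 80) Col.k (nat_lit 98) Dv.df))))))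
(Tr.nd (nat_lit 298) (Tr.nd (nat_lit 295) (Tr.nd (nat_lit 294) (Tr.lf (Fc.ed (nat_lit 293) (nat_lit 55) Col.c (nat_lit 99) Dv.df))
(Tr.lf (Fc.ed (nat_lit 294) (nat_lit 99) Col.a (nat_lit 44) (Dv.wd (nat_lit 31) [Mv.b (nat_lit 147), Mv.f (nat_lit 176), Mv.f (nat_lit 293)]))))
(Tr.nd (nat_lit 296) (Tr.lf (Fc.ed (nat_lit 295) (nat_lit 96) Col.k (nat_lit 100) Dv.df))
(Tr.nd (nat_lit 297) (Tr.lf (Fc.ed (nat_lit 296) (nat_lit 100) Col.f (nat_lit 63) (Dv.wd (nat_lit 50) [Mv.f (nat_lit 194), Mv.b (nat_lit 288), Mv.f (nat_lit 295)])))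
(Tr.lf (Fc.ed (nat_lit 297) (nat_lit 100) Col.h (nat_lit 98) (Dv.wd (nat_lit 51) [Mv.b (nat_lit 292), Mv.b (nat_lit 289), Mv.f (nat_lit 295)]))))))
(Tr.nd (nat_lit 300) (Tr.nd (nat_lit 299) (Tr.lf (Fc.ed (nat_lit 298) (nat_lit 17) Col.l (nat_lit 101) Dv.df))
(Tr.lf (Fc.ed (nat_lit 299) (nat_lit 101) Col.b (nat_lit 90) (Dv.wd (nat_lit 84) [Mv.f (nat_lit 259), Mv.b (nat_lit 153), Mv.f (nat_lit 298)]))))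
(Tr.nd (nat_lit 301) (Tr.lf (Fc.ed (nat_lit 300) (nat_lit 101) Col.d (nat_lit 59) (Dv.wd (nat_lit 99) [Mv.b (nat_lit 185), Mv.f (nat_lit 94), Mv.f (nat_lit 298)])))
(Tr.nd (nat_lit 302) (Tr.lf (Fc.ed (nat_lit 301) (nat_lit 36) Col.f (nat_lit 102) Dv.df))
(Tr.lf (Fc.ed (nat_lit 302) (nat_lit 77) Col.l (nat_lit 103) Dv.df)))))))
(Tr.nd (nat_lit 313) (Tr.nd (nat_lit 308) (Tr.nd (nat_lit 305) (Tr.nd (nat_lit 304) (Tr.lf (Fc.ed (nat_lit 303) (nat_lit 103) Col.a (nat_lit 78) (Dv.wd (nat_lit 73) [Mv.f (nat_lit 227), Mv.f (nat_lit 223), Mv.f (nat_lit 302)])))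
(Tr.lf (Fc.ed (nat_lit 304) (nat_lit 103) Col.f (nat_lit 74) (Dv.wd (nat_lit 100) [Mv.b (nat_lit 216), Mv.b (nat_lit 224), Mv.f (nat_lit 302)]))))
(Tr.nd (nat_lit 306) (Tr.lf (Fc.ed (nat_lit 305) (nat_lit 31) Col.d (nat_lit 104) Dv.df))
(Tr.nd (nat_lit 307) (Tr.lf (Fc.ed (nat_lit 306) (nat_lit 104) Col.b (nat_lit 55) (Dv.wd (nat_lit 26) [Mv.f (nat_lit 177), Mv.b (nat_lit 122), Mv.f (nat_lit 305)])))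
(Tr.lf (Fc.ed (nat_lit 307) (nat_lit 104) Col.c (nat_lit 104) (Dv.wd (nat_lit 89) [Mv.b (nat_lit 305), Mv.b (nat_lit 124), Mv.f (nat_lit 125), Mv.f (nat_lit 124), Mv.f (nat_lit 305)]))))))
(Tr.nd (nat_lit 310) (Tr.nd (nat_lit 309) (Tr.lf (Fc.ed (nat_lit 308) (nat_lit 99) Col.b (nat_lit 99) (Dv.wd (nat_lit 67) [Mv.b (nat_lit 293), Mv.b (nat_lit 306), Mv.f (nat_lit 307), Mv.f (nat_lit 306), Mv.f (nat_lit 293)])))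
(Tr.lf (Fc.ed (nat_lit 309) (nat_lit 49) Col.a (nat_lit 49) (Dv.wd (nat_lit 90) [Mv.b (nat_lit 160), Mv.b (nat_lit 294), Mv.f (nat_lit 308), Mv.f (nat_lit 294), Mv.f (nat_lit 160)]))))
(Tr.nd (nat_lit 311) (Tr.lf (Fc.al (nat_lit 310) (nat_lit 97) (nat_lit 12) (Dv.wd (nat_lit 101) [Mv.b (nat_lit 77), Mv.b (nat_lit 162), Mv.f (nat_lit 309), Mv.f (nat_lit 162), Mv.f (nat_lit 77), Mv.b (nat_lit 291)])))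
(Tr.nd (nat_lit 312) (Tr.lf (Fc.al (nat_lit 311) (nat_lit 13) (nat_lit 84) (Dv.wd (nat_lit 102) [Mv.f (nat_lit 290), Mv.f (nat_lit 310), Mv.f (nat_lit 82)])))
(Tr.lf (Fc.al (nat_lit 312) (nat_lit 14) (nat_lit 66) (Dv.wd (nat_lit 103) [Mv.b (nat_lit 242), Mv.b (nat_lit 311), Mv.f (nat_lit 86)])))))))
(Tr.nd (nat_lit 318) (Tr.nd (nat_lit 315) (Tr.nd (nat_lit 314) (Tr.lf (Fc.al (nat_lit 313) (nat_lit 15) (nat_lit 68) (Dv.wd (nat_lit 104) [Mv.f (nat_lit 204), Mv.b (nat_lit 312), Mv.f (nat_lit 89)])))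
(Tr.lf (Fc.al (nat_lit 314) (nat_lit 65) (nat_lit 73) (Dv.wd (nat_lit 105) [Mv.b (nat_lit 214), Mv.b (nat_lit 313), Mv.f (nat_lit 196)]))))
(Tr.nd (nat_lit 316) (Tr.lf (Fc.al (nat_lit 315) (nat_lit 52) (nat_lit 69) (Dv.wd (nat_lit 106) [Mv.b (nat_lit 215), Mv.b (nat_lit 314), Mv.f (nat_lit 197)])))
(Tr.nd (nat_lit 317) (Tr.lf (Fc.al (nat_lit 316) (nat_lit 46) (nat_lit 63) (Dv.wd (nat_lit 103) [Mv.b (nat_lit 207), Mv.b (nat_lit 315), Mv.b (nat_lit 169)])))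
(Tr.lf (Fc.al (nat_lit 317) (nat_lit 96) (nat_lit 100) (Dv.wd (nat_lit 107) [Mv.f (nat_lit 296), Mv.b (nat_lit 316), Mv.b (nat_lit 288)]))))))
(Tr.nd (nat_lit 321) (Tr.nd (nat_lit 319) (Tr.lf (Fc.al (nat_lit 318) (nat_lit 80) (nat_lit 98) (Dv.wd (nat_lit 102) [Mv.b (nat_lit 297), Mv.b (nat_lit 317), Mv.f (nat_lit 289)])))
(Tr.nd (nat_lit 320) (Tr.lf (Fc.ed (nat_lit 319) (nat_lit 80) Col.k (nat_lit 80) (Dv.wd (nat_lit 108) [Mv.f (nat_lit 292), Mv.b (nat_lit 318)])))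
(Tr.lf (Fc.ed (nat_lit 320) (nat_lit 71) Col.b (nat_lit 105) Dv.df))))
(Tr.nd (nat_lit 322) (Tr.lf (Fc.ed (nat_lit 321) (nat_lit 105) Col.e (nat_lit 94) (Dv.wd (nat_lit 59) [Mv.f (nat_lit 271), Mv.b (nat_lit 211), Mv.f (nat_lit 320)])))
(Tr.nd (nat_lit 323) (Tr.lf (Fc.ed (nat_lit 322) (nat_lit 101) Col.a (nat_lit 106) Dv.df))
(Tr.lf (Fc.ed (nat_lit 323) (nat_lit 106) Col.d (nat_lit 86) (Dv.wd (nat_lit 43) [Mv.b (nat_lit 245), Mv.b (nat_lit 300), Mv.f (nat_lit 322)]))))))))))))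
(Tr.nd (nat_lit 486) (Tr.nd (nat_lit 405) (Tr.nd (nat_lit 364) (Tr.nd (nat_lit 344) (Tr.nd (nat_lit 334) (Tr.nd (nat_lit 329) (Tr.nd (nat_lit 326) (Tr.nd (nat_lit 325) (Tr.lf (Fc.ed (nat_lit 324) (nat_lit 106) Col.k (nat_lit 106) (Dv.wd (nat_lit 77) [Mv.f (nat_lit 323), Mv.f (nat_lit 247), Mv.b (nat_lit 323)])))
(Tr.lf (Fc.ed (nat_lit 325) (nat_lit 72) Col.k (nat_lit 107) Dv.df)))
(Tr.nd (nat_lit 327) (Tr.lf (Fc.ed (nat_lit 326) (nat_lit 107) Col.c (nat_lit 76) (Dv.wd (nat_lit 48) [Mv.f (nat_lit 222), Mv.f (nat_lit 212), Mv.f (nat_lit 325)])))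
(Tr.nd (nat_lit 328) (Tr.lf (Fc.ed (nat_lit 327) (nat_lit 20) Col.f (nat_lit 108) Dv.df))
(Tr.lf (Fc.ed (nat_lit 328) (nat_lit 108) Col.c (nat_lit 80) (Dv.wd (nat_lit 81) [Mv.b (nat_lit 230), Mv.f (nat_lit 100), Mv.f (nat_lit 327)]))))))
(Tr.nd (nat_lit 331) (Tr.nd (nat_lit 330) (Tr.lf (Fc.ed (nat_lit 329) (nat_lit 74) Col.b (nat_lit 109) Dv.df))
(Tr.lf (Fc.ed (nat_lit 330) (nat_lit 72) Col.f (nat_lit 110) Dv.df)))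
(Tr.nd (nat_lit 332) (Tr.lf (Fc.ed (nat_lit 331) (nat_lit 110) Col.l (nat_lit 80) (Dv.wd (nat_lit 82) [Mv.b (nat_lit 230), Mv.b (nat_lit 213), Mv.f (nat_lit 330)])))
(Tr.nd (nat_lit 333) (Tr.lf (Fc.ed (nat_lit 332) (nat_lit 109) Col.f (nat_lit 111) Dv.df))
(Tr.lf (Fc.ed (nat_lit 333) (nat_lit 111) Col.b (nat_lit 103) (Dv.wd (nat_lit 80) [Mv.f (nat_lit 304), Mv.f (nat_lit 329), Mv.f (nat_lit 332)])))))))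
(Tr.nd (nat_lit 339) (Tr.nd (nat_lit 336) (Tr.nd (nat_lit 335) (Tr.lf (Fc.ed (nat_lit 334) (nat_lit 8) Col.f (nat_lit 112) Dv.df))
(Tr.lf (Fc.ed (nat_lit 335) (nat_lit 112) Col.e (nat_lit 112) (Dv.wd (nat_lit 109) [Mv.b (nat_lit 334), Mv.b (nat_lit 60), Mv.f (nat_lit 57), Mv.f (nat_lit 60), Mv.f (nat_lit 334)]))))
(Tr.nd (nat_lit 337) (Tr.lf (Fc.ed (nat_lit 336) (nat_lit 81) Col.l (nat_lit 113) Dv.df))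
(Tr.nd (nat_lit 338) (Tr.lf (Fc.ed (nat_lit 337) (nat_lit 113) Col.h (nat_lit 93) (Dv.wd (nat_lit 74) [Mv.f (nat_lit 269), Mv.f (nat_lit 232), Mv.f (nat_lit 336)])))
(Tr.lf (Fc.ed (nat_lit 338) (nat_lit 76) Col.i (nat_lit 114) Dv.df)))))
(Tr.nd (nat_lit 341) (Tr.nd (nat_lit 340) (Tr.lf (Fc.ed (nat_lit 339) (nat_lit 107) Col.i (nat_lit 115) Dv.df))
(Tr.lf (Fc.ed (nat_lit 340) (nat_lit 115) Col.c (nat_lit 114) (Dv.wd (nat_lit 12) [Mv.b (nat_lit 338), Mv.b (nat_lit 326), Mv.f (nat_lit 339)]))))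
(Tr.nd (nat_lit 342) (Tr.lf (Fc.ed (nat_lit 341) (nat_lit 112) Col.d (nat_lit 116) Dv.df))
(Tr.nd (nat_lit 343) (Tr.lf (Fc.ed (nat_lit 342) (nat_lit 116) Col.f (nat_lit 9) (Dv.wd (nat_lit 27) [Mv.b (nat_lit 65), Mv.f (nat_lit 334), Mv.f (nat_lit 341)])))
(Tr.lf (Fc.ed (nat_lit 343) (nat_lit 88) Col.a (nat_lit 117) Dv.df)))))))
(Tr.nd (nat_lit 354) (Tr.nd (nat_lit 349) (Tr.nd (nat_lit 346) (Tr.nd (nat_lit 345) (Tr.lf (Fc.ed (nat_lit 344) (nat_lit 117) Col.l (nat_lit 87) (Dv.wd (nat_lit 41) [Mv.b (nat_lit 248), Mv.b (nat_lit 252), Mv.f (nat_lit 343)])))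
(Tr.lf (Fc.ed (nat_lit 345) (nat_lit 117) Col.c (nat_lit 103) (Dv.wd (nat_lit 42) [Mv.f (nat_lit 303), Mv.b (nat_lit 253), Mv.f (nat_lit 343)]))))
(Tr.nd (nat_lit 347) (Tr.lf (Fc.ed (nat_lit 346) (nat_lit 91) Col.l (nat_lit 118) Dv.df))
(Tr.nd (nat_lit 348) (Tr.lf (Fc.ed (nat_lit 347) (nat_lit 118) Col.d (nat_lit 117) (Dv.wd (nat_lit 99) [Mv.f (nat_lit 344), Mv.b (nat_lit 265), Mv.f (nat_lit 346)])))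
(Tr.lf (Fc.ed (nat_lit 348) (nat_lit 108) Col.l (nat_lit 119) Dv.df)))))
(Tr.nd (nat_lit 351) (Tr.nd (nat_lit 350) (Tr.lf (Fc.ed (nat_lit 349) (nat_lit 119) Col.f (nat_lit 43) (Dv.wd (nat_lit 100) [Mv.f (nat_lit 146), Mv.f (nat_lit 327), Mv.f (nat_lit 348)])))
(Tr.lf (Fc.ed (nat_lit 350) (nat_lit 119) Col.k (nat_lit 120) Dv.df)))
(Tr.nd (nat_lit 352) (Tr.lf (Fc.ed (nat_lit 351) (nat_lit 120) Col.f (nat_lit 76) (Dv.wd (nat_lit 50) [Mv.f (nat_lit 222), Mv.b (nat_lit 349), Mv.f (nat_lit 350)])))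
(Tr.nd (nat_lit 353) (Tr.lf (Fc.ed (nat_lit 352) (nat_lit 45) Col.b (nat_lit 121) Dv.df))
(Tr.lf (Fc.ed (nat_lit 353) (nat_lit 121) Col.h (nat_lit 83) (Dv.wd (nat_lit 39) [Mv.f (nat_lit 240), Mv.b (nat_lit 152), Mv.f (nat_lit 352)])))))))
(Tr.nd (nat_lit 359) (Tr.nd (nat_lit 356) (Tr.nd (nat_lit 355) (Tr.lf (Fc.ed (nat_lit 354) (nat_lit 113) Col.c (nat_lit 121) (Dv.wd (nat_lit 66) [Mv.f (nat_lit 353), Mv.f (nat_lit 268), Mv.b (nat_lit 337)])))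
(Tr.lf (Fc.ed (nat_lit 355) (nat_lit 13) Col.f (nat_lit 122) Dv.df)))
(Tr.nd (nat_lit 357) (Tr.lf (Fc.ed (nat_lit 356) (nat_lit 90) Col.f (nat_lit 123) Dv.df))
(Tr.nd (nat_lit 358) (Tr.lf (Fc.ed (nat_lit 357) (nat_lit 123) Col.l (nat_lit 96) (Dv.wd (nat_lit 82) [Mv.f (nat_lit 288), Mv.b (nat_lit 259), Mv.f (nat_lit 356)])))
(Tr.lf (Fc.ed (nat_lit 358) (nat_lit 123) Col.h (nat_lit 110) (Dv.wd (nat_lit 79) [Mv.b (nat_lit 330), Mv.b (nat_lit 260), Mv.f (nat_lit 356)]))))))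
(Tr.nd (nat_lit 361) (Tr.nd (nat_lit 360) (Tr.lf (Fc.ed (nat_lit 359) (nat_lit 116) Col.h (nat_lit 124) Dv.df))
(Tr.lf (Fc.ed (nat_lit 360) (nat_lit 124) Col.f (nat_lit 81) (Dv.wd (nat_lit 22) [Mv.b (nat_lit 232), Mv.b (nat_lit 342), Mv.f (nat_lit 359)]))))
(Tr.nd (nat_lit 362) (Tr.lf (Fc.ed (nat_lit 361) (nat_lit 101) Col.h (nat_lit 125) Dv.df))
(Tr.nd (nat_lit 363) (Tr.lf (Fc.ed (nat_lit 362) (nat_lit 125) Col.b (nat_lit 72) (Dv.wd (nat_lit 19) [Mv.b (nat_lit 260), Mv.b (nat_lit 299), Mv.f (nat_lit 361)])))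
(Tr.lf (Fc.ed (nat_lit 363) (nat_lit 106) Col.h (nat_lit 126) Dv.df))))))))
(Tr.nd (nat_lit 384) (Tr.nd (nat_lit 374) (Tr.nd (nat_lit 369) (Tr.nd (nat_lit 366) (Tr.nd (nat_lit 365) (Tr.lf (Fc.ed (nat_lit 364) (nat_lit 126) Col.k (nat_lit 126) (Dv.wd (nat_lit 17) [Mv.b (nat_lit 363), Mv.f (nat_lit 324), Mv.f (nat_lit 363)])))
(Tr.lf (Fc.ed (nat_lit 365) (nat_lit 126) Col.a (nat_lit 125) (Dv.wd (nat_lit 18) [Mv.b (nat_lit 361), Mv.f (nat_lit 322), Mv.f (nat_lit 363)]))))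
(Tr.nd (nat_lit 367) (Tr.lf (Fc.ed (nat_lit 366) (nat_lit 122) Col.a (nat_lit 127) Dv.df))
(Tr.nd (nat_lit 368) (Tr.lf (Fc.ed (nat_lit 367) (nat_lit 127) Col.f (nat_lit 41) (Dv.wd (nat_lit 44) [Mv.f (nat_lit 143), Mv.f (nat_lit 355), Mv.f (nat_lit 366)])))
(Tr.lf (Fc.ed (nat_lit 368) (nat_lit 102) Col.d (nat_lit 128) Dv.df)))))
(Tr.nd (nat_lit 371) (Tr.nd (nat_lit 370) (Tr.lf (Fc.ed (nat_lit 369) (nat_lit 128) Col.f (nat_lit 29) (Dv.wd (nat_lit 27) [Mv.f (nat_lit 133), Mv.f (nat_lit 301), Mv.f (nat_lit 368)])))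
(Tr.lf (Fc.ed (nat_lit 370) (nat_lit 95) Col.i (nat_lit 129) Dv.df)))
(Tr.nd (nat_lit 372) (Tr.lf (Fc.ed (nat_lit 371) (nat_lit 129) Col.a (nat_lit 114) (Dv.wd (nat_lit 10) [Mv.b (nat_lit 338), Mv.b (nat_lit 286), Mv.f (nat_lit 370)])))
(Tr.nd (nat_lit 373) (Tr.lf (Fc.ed (nat_lit 372) (nat_lit 125) Col.k (nat_lit 130) Dv.df))
(Tr.lf (Fc.ed (nat_lit 373) (nat_lit 130) Col.b (nat_lit 107) (Dv.wd (nat_lit 47) [Mv.b (nat_lit 325), Mv.b (nat_lit 362), Mv.f (nat_lit 372)])))))))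
(Tr.nd (nat_lit 379) (Tr.nd (nat_lit 376) (Tr.nd (nat_lit 375) (Tr.lf (Fc.ed (nat_lit 374) (nat_lit 130) Col.a (nat_lit 130) (Dv.wd (nat_lit 52) [Mv.b (nat_lit 372), Mv.b (nat_lit 365), Mv.f (nat_lit 364), Mv.f (nat_lit 365), Mv.f (nat_lit 372)])))
(Tr.lf (Fc.ed (nat_lit 375) (nat_lit 14) Col.f (nat_lit 131) Dv.df)))
(Tr.nd (nat_lit 377) (Tr.lf (Fc.ed (nat_lit 376) (nat_lit 131) Col.d (nat_lit 122) (Dv.wd (nat_lit 88) [Mv.b (nat_lit 355), Mv.f (nat_lit 86), Mv.f (nat_lit 375)])))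
(Tr.nd (nat_lit 378) (Tr.lf (Fc.ed (nat_lit 377) (nat_lit 118) Col.h (nat_lit 132) Dv.df))
(Tr.lf (Fc.ed (nat_lit 378) (nat_lit 120) Col.a (nat_lit 133) Dv.df)))))
(Tr.nd (nat_lit 381) (Tr.nd (nat_lit 380) (Tr.lf (Fc.ed (nat_lit 379) (nat_lit 133) Col.f (nat_lit 95) (Dv.wd (nat_lit 44) [Mv.f (nat_lit 286), Mv.b (nat_lit 351), Mv.f (nat_lit 378)])))
(Tr.lf (Fc.ed (nat_lit 380) (nat_lit 11) Col.f (nat_lit 134) Dv.df)))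
(Tr.nd (nat_lit 382) (Tr.lf (Fc.ed (nat_lit 381) (nat_lit 134) Col.h (nat_lit 127) (Dv.wd (nat_lit 79) [Mv.f (nat_lit 367), Mv.b (nat_lit 142), Mv.f (nat_lit 380)])))
(Tr.nd (nat_lit 383) (Tr.lf (Fc.ed (nat_lit 382) (nat_lit 12) Col.f (nat_lit 135) Dv.df))
(Tr.lf (Fc.ed (nat_lit 383) (nat_lit 135) Col.a (nat_lit 134) (Dv.wd (nat_lit 87) [Mv.b (nat_lit 380), Mv.f (nat_lit 77), Mv.f (nat_lit 382)]))))))))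
(Tr.nd (nat_lit 394) (Tr.nd (nat_lit 389) (Tr.nd (nat_lit 386) (Tr.nd (nat_lit 385) (Tr.lf (Fc.ed (nat_lit 384) (nat_lit 135) Col.h (nat_lit 122) (Dv.wd (nat_lit 79) [Mv.b (nat_lit 355), Mv.b (nat_lit 82), Mv.f (nat_lit 382)])))
(Tr.lf (Fc.ed (nat_lit 385) (nat_lit 128) Col.a (nat_lit 136) Dv.df)))
(Tr.nd (nat_lit 387) (Tr.lf (Fc.ed (nat_lit 386) (nat_lit 136) Col.f (nat_lit 53) (Dv.wd (nat_lit 44) [Mv.b (nat_lit 171), Mv.b (nat_lit 369), Mv.f (nat_lit 385)])))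
(Tr.nd (nat_lit 388) (Tr.lf (Fc.ed (nat_lit 387) (nat_lit 15) Col.f (nat_lit 137) Dv.df))
(Tr.lf (Fc.ed (nat_lit 388) (nat_lit 137) Col.c (nat_lit 131) (Dv.wd (nat_lit 81) [Mv.b (nat_lit 375), Mv.f (nat_lit 89), Mv.f (nat_lit 387)]))))))
(Tr.nd (nat_lit 391) (Tr.nd (nat_lit 390) (Tr.lf (Fc.ed (nat_lit 389) (nat_lit 136) Col.l (nat_lit 138) Dv.df))
(Tr.lf (Fc.ed (nat_lit 390) (nat_lit 138) Col.f (nat_lit 50) (Dv.wd (nat_lit 100) [Mv.b (nat_lit 172), Mv.b (nat_lit 386), Mv.f (nat_lit 389)]))))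
(Tr.nd (nat_lit 392) (Tr.lf (Fc.ed (nat_lit 391) (nat_lit 127) Col.d (nat_lit 138) (Dv.wd (nat_lit 110) [Mv.f (nat_lit 390), Mv.f (nat_lit 166), Mv.b (nat_lit 367)])))
(Tr.nd (nat_lit 393) (Tr.lf (Fc.ed (nat_lit 392) (nat_lit 113) Col.f (nat_lit 139) Dv.df))
(Tr.lf (Fc.ed (nat_lit 393) (nat_lit 139) Col.l (nat_lit 124) (Dv.wd (nat_lit 82) [Mv.f (nat_lit 360), Mv.f (nat_lit 336), Mv.f (nat_lit 392)])))))))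
(Tr.nd (nat_lit 399) (Tr.nd (nat_lit 396) (Tr.nd (nat_lit 395) (Tr.lf (Fc.ed (nat_lit 394) (nat_lit 38) Col.f (nat_lit 140) Dv.df))
(Tr.lf (Fc.ed (nat_lit 395) (nat_lit 140) Col.d (nat_lit 119) (Dv.wd (nat_lit 88) [Mv.f (nat_lit 349), Mv.b (nat_lit 145), Mv.f (nat_lit 394)]))))
(Tr.nd (nat_lit 397) (Tr.lf (Fc.ed (nat_lit 396) (nat_lit 140) Col.k (nat_lit 141) Dv.df))
(Tr.nd (nat_lit 398) (Tr.lf (Fc.ed (nat_lit 397) (nat_lit 141) Col.d (nat_lit 120) (Dv.wd (nat_lit 49) [Mv.b (nat_lit 350), Mv.b (nat_lit 395), Mv.f (nat_lit 396)])))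
(Tr.lf (Fc.ed (nat_lit 398) (nat_lit 141) Col.f (nat_lit 40) (Dv.wd (nat_lit 50) [Mv.f (nat_lit 141), Mv.f (nat_lit 394), Mv.f (nat_lit 396)]))))))
(Tr.nd (nat_lit 402) (Tr.nd (nat_lit 400) (Tr.lf (Fc.ed (nat_lit 399) (nat_lit 136) Col.d (nat_lit 142) Dv.df))
(Tr.nd (nat_lit 401) (Tr.lf (Fc.ed (nat_lit 400) (nat_lit 142) Col.l (nat_lit 127) (Dv.wd (nat_lit 23) [Mv.f (nat_lit 391), Mv.b (nat_lit 389), Mv.f (nat_lit 399)])))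
(Tr.lf (Fc.ed (nat_lit 401) (nat_lit 142) Col.f (nat_lit 45) (Dv.wd (nat_lit 27) [Mv.b (nat_lit 173), Mv.b (nat_lit 386), Mv.f (nat_lit 399)])))))
(Tr.nd (nat_lit 403) (Tr.lf (Fc.ed (nat_lit 402) (nat_lit 83) Col.f (nat_lit 143) Dv.df))
(Tr.nd (nat_lit 404) (Tr.lf (Fc.ed (nat_lit 403) (nat_lit 65) Col.f (nat_lit 144) Dv.df))
(Tr.lf (Fc.ed (nat_lit 404) (nat_lit 144) Col.a (nat_lit 144) (Dv.wd (nat_lit 87) [Mv.b (nat_lit 403), Mv.f (nat_lit 274), Mv.f (nat_lit 403)]))))))))))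
(Tr.nd (nat_lit 445) (Tr.nd (nat_lit 425) (Tr.nd (nat_lit 415) (Tr.nd (nat_lit 410) (Tr.nd (nat_lit 407) (Tr.nd (nat_lit 406) (Tr.lf (Fc.ed (nat_lit 405) (nat_lit 144) Col.b (nat_lit 137) (Dv.wd (nat_lit 80) [Mv.b (nat_lit 387), Mv.f (nat_lit 196), Mv.f (nat_lit 403)])))
(Tr.lf (Fc.ed (nat_lit 406) (nat_lit 144) Col.h (nat_lit 144) (Dv.wd (nat_lit 79) [Mv.b (nat_lit 403), Mv.f (nat_lit 198), Mv.f (nat_lit 403)]))))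
(Tr.nd (nat_lit 408) (Tr.lf (Fc.ed (nat_lit 407) (nat_lit 121) Col.f (nat_lit 145) Dv.df))
(Tr.nd (nat_lit 409) (Tr.lf (Fc.ed (nat_lit 408) (nat_lit 145) Col.c (nat_lit 139) (Dv.wd (nat_lit 81) [Mv.b (nat_lit 392), Mv.f (nat_lit 354), Mv.f (nat_lit 407)])))
(Tr.lf (Fc.ed (nat_lit 409) (nat_lit 145) Col.h (nat_lit 143) (Dv.wd (nat_lit 79) [Mv.b (nat_lit 402), Mv.b (nat_lit 353), Mv.f (nat_lit 407)]))))))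
(Tr.nd (nat_lit 412) (Tr.nd (nat_lit 411) (Tr.lf (Fc.ed (nat_lit 410) (nat_lit 48) Col.f (nat_lit 146) Dv.df))
(Tr.lf (Fc.ed (nat_lit 411) (nat_lit 146) Col.a (nat_lit 141) (Dv.wd (nat_lit 87) [Mv.f (nat_lit 398), Mv.f (nat_lit 158), Mv.f (nat_lit 410)]))))
(Tr.nd (nat_lit 413) (Tr.lf (Fc.ed (nat_lit 412) (nat_lit 146) Col.d (nat_lit 133) (Dv.wd (nat_lit 88) [Mv.f (nat_lit 379), Mv.b (nat_lit 285), Mv.f (nat_lit 410)])))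
(Tr.nd (nat_lit 414) (Tr.lf (Fc.ed (nat_lit 413) (nat_lit 39) Col.f (nat_lit 147) Dv.df))
(Tr.lf (Fc.ed (nat_lit 414) (nat_lit 147) Col.b (nat_lit 143) (Dv.wd (nat_lit 80) [Mv.b (nat_lit 402), Mv.f (nat_lit 240), Mv.f (nat_lit 413)])))))))
(Tr.nd (nat_lit 420) (Tr.nd (nat_lit 417) (Tr.nd (nat_lit 416) (Tr.lf (Fc.ed (nat_lit 415) (nat_lit 147) Col.h (nat_lit 142) (Dv.wd (nat_lit 79) [Mv.f (nat_lit 401), Mv.f (nat_lit 152), Mv.f (nat_lit 413)])))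
(Tr.lf (Fc.ed (nat_lit 416) (nat_lit 79) Col.f (nat_lit 148) Dv.df)))
(Tr.nd (nat_lit 418) (Tr.lf (Fc.ed (nat_lit 417) (nat_lit 148) Col.b (nat_lit 146) (Dv.wd (nat_lit 80) [Mv.b (nat_lit 410), Mv.b (nat_lit 229), Mv.f (nat_lit 416)])))
(Tr.nd (nat_lit 419) (Tr.lf (Fc.ed (nat_lit 418) (nat_lit 77) Col.b (nat_lit 149) Dv.df))
(Tr.lf (Fc.ed (nat_lit 419) (nat_lit 149) Col.l (nat_lit 111) (Dv.wd (nat_lit 35) [Mv.f (nat_lit 333), Mv.b (nat_lit 302), Mv.f (nat_lit 418)]))))))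
(Tr.nd (nat_lit 422) (Tr.nd (nat_lit 421) (Tr.lf (Fc.ed (nat_lit 420) (nat_lit 149) Col.f (nat_lit 105) (Dv.wd (nat_lit 38) [Mv.b (nat_lit 320), Mv.b (nat_lit 224), Mv.f (nat_lit 418)])))
(Tr.lf (Fc.ed (nat_lit 421) (nat_lit 149) Col.h (nat_lit 149) (Dv.wd (nat_lit 39) [Mv.b (nat_lit 418), Mv.f (nat_lit 225), Mv.f (nat_lit 418)]))))
(Tr.nd (nat_lit 423) (Tr.lf (Fc.ed (nat_lit 422) (nat_lit 149) Col.a (nat_lit 149) (Dv.wd (nat_lit 111) [Mv.b (nat_lit 418), Mv.b (nat_lit 223), Mv.f (nat_lit 218), Mv.f (nat_lit 223), Mv.f (nat_lit 418)])))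
(Tr.nd (nat_lit 424) (Tr.lf (Fc.ed (nat_lit 423) (nat_lit 129) Col.f (nat_lit 150) Dv.df))
(Tr.lf (Fc.ed (nat_lit 424) (nat_lit 150) Col.i (nat_lit 133) (Dv.wd (nat_lit 112) [Mv.f (nat_lit 379), Mv.f (nat_lit 370), Mv.f (nat_lit 423)]))))))))
(Tr.nd (nat_lit 435) (Tr.nd (nat_lit 430) (Tr.nd (nat_lit 427) (Tr.nd (nat_lit 426) (Tr.lf (Fc.ed (nat_lit 425) (nat_lit 82) Col.f (nat_lit 151) Dv.df))
(Tr.lf (Fc.ed (nat_lit 426) (nat_lit 151) Col.l (nat_lit 144) (Dv.wd (nat_lit 82) [Mv.b (nat_lit 403), Mv.b (nat_lit 238), Mv.f (nat_lit 425)]))))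
(Tr.nd (nat_lit 428) (Tr.lf (Fc.ed (nat_lit 427) (nat_lit 107) Col.a (nat_lit 152) Dv.df))
(Tr.nd (nat_lit 429) (Tr.lf (Fc.ed (nat_lit 428) (nat_lit 152) Col.b (nat_lit 152) (Dv.wd (nat_lit 46) [Mv.b (nat_lit 427), Mv.b (nat_lit 373), Mv.f (nat_lit 374), Mv.f (nat_lit 373), Mv.f (nat_lit 427)])))
(Tr.lf (Fc.ed (nat_lit 429) (nat_lit 115) Col.a (nat_lit 153) Dv.df)))))
(Tr.nd (nat_lit 432) (Tr.nd (nat_lit 431) (Tr.lf (Fc.ed (nat_lit 430) (nat_lit 153) Col.c (nat_lit 129) (Dv.wd (nat_lit 42) [Mv.f (nat_lit 371), Mv.b (nat_lit 340), Mv.f (nat_lit 429)])))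
(Tr.lf (Fc.ed (nat_lit 431) (nat_lit 153) Col.i (nat_lit 152) (Dv.wd (nat_lit 113) [Mv.b (nat_lit 427), Mv.f (nat_lit 339), Mv.f (nat_lit 429)]))))
(Tr.nd (nat_lit 433) (Tr.lf (Fc.ed (nat_lit 432) (nat_lit 153) Col.b (nat_lit 153) (Dv.wd (nat_lit 114) [Mv.f (nat_lit 431), Mv.f (nat_lit 428), Mv.b (nat_lit 431)])))
(Tr.nd (nat_lit 434) (Tr.lf (Fc.ed (nat_lit 433) (nat_lit 110) Col.e (nat_lit 154) Dv.df))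
(Tr.lf (Fc.ed (nat_lit 434) (nat_lit 91) Col.e (nat_lit 155) Dv.df))))))
(Tr.nd (nat_lit 440) (Tr.nd (nat_lit 437) (Tr.nd (nat_lit 436) (Tr.lf (Fc.ed (nat_lit 435) (nat_lit 155) Col.c (nat_lit 155) (Dv.wd (nat_lit 55) [Mv.b (nat_lit 434), Mv.f (nat_lit 264), Mv.f (nat_lit 434)])))
(Tr.lf (Fc.ed (nat_lit 436) (nat_lit 155) Col.f (nat_lit 155) (Dv.wd (nat_lit 115) [Mv.b (nat_lit 434), Mv.b (nat_lit 262), Mv.f (nat_lit 257), Mv.f (nat_lit 262), Mv.f (nat_lit 434)]))))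
(Tr.nd (nat_lit 438) (Tr.lf (Fc.ed (nat_lit 437) (nat_lit 122) Col.e (nat_lit 156) Dv.df))
(Tr.nd (nat_lit 439) (Tr.lf (Fc.ed (nat_lit 438) (nat_lit 156) Col.f (nat_lit 156) (Dv.wd (nat_lit 115) [Mv.b (nat_lit 437), Mv.b (nat_lit 355), Mv.f (nat_lit 85), Mv.f (nat_lit 355), Mv.f (nat_lit 437)])))
(Tr.lf (Fc.ed (nat_lit 439) (nat_lit 80) Col.e (nat_lit 157) Dv.df)))))
(Tr.nd (nat_lit 442) (Tr.nd (nat_lit 441) (Tr.lf (Fc.ed (nat_lit 440) (nat_lit 157) Col.l (nat_lit 154) (Dv.wd (nat_lit 69) [Mv.b (nat_lit 433), Mv.f (nat_lit 331), Mv.f (nat_lit 439)])))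
(Tr.lf (Fc.ed (nat_lit 441) (nat_lit 157) Col.k (nat_lit 157) (Dv.wd (nat_lit 72) [Mv.b (nat_lit 439), Mv.f (nat_lit 319), Mv.f (nat_lit 439)]))))
(Tr.nd (nat_lit 443) (Tr.lf (Fc.ed (nat_lit 442) (nat_lit 157) Col.a (nat_lit 157) (Dv.wd (nat_lit 53) [Mv.b (nat_lit 439), Mv.f (nat_lit 283), Mv.f (nat_lit 439)])))
(Tr.nd (nat_lit 444) (Tr.lf (Fc.ed (nat_lit 443) (nat_lit 157) Col.f (nat_lit 157) (Dv.wd (nat_lit 115) [Mv.b (nat_lit 439), Mv.b (nat_lit 230), Mv.f (nat_lit 99), Mv.f (nat_lit 230), Mv.f (nat_lit 439)])))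
(Tr.lf (Fc.ed (nat_lit 444) (nat_lit 153) Col.f (nat_lit 158) Dv.df))))))))
(Tr.nd (nat_lit 465) (Tr.nd (nat_lit 455) (Tr.nd (nat_lit 450) (Tr.nd (nat_lit 447) (Tr.nd (nat_lit 446) (Tr.lf (Fc.ed (nat_lit 445) (nat_lit 158) Col.b (nat_lit 158) (Dv.wd (nat_lit 80) [Mv.b (nat_lit 444), Mv.f (nat_lit 432), Mv.f (nat_lit 444)])))
(Tr.lf (Fc.ed (nat_lit 446) (nat_lit 158) Col.c (nat_lit 150) (Dv.wd (nat_lit 81) [Mv.b (nat_lit 423), Mv.b (nat_lit 430), Mv.f (nat_lit 444)]))))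
(Tr.nd (nat_lit 448) (Tr.lf (Fc.ed (nat_lit 447) (nat_lit 158) Col.i (nat_lit 159) Dv.df))
(Tr.nd (nat_lit 449) (Tr.lf (Fc.ed (nat_lit 448) (nat_lit 159) Col.b (nat_lit 159) (Dv.wd (nat_lit 11) [Mv.b (nat_lit 447), Mv.f (nat_lit 445), Mv.f (nat_lit 447)])))
(Tr.lf (Fc.ed (nat_lit 449) (nat_lit 159) Col.c (nat_lit 133) (Dv.wd (nat_lit 12) [Mv.b (nat_lit 424), Mv.b (nat_lit 446), Mv.f (nat_lit 447)]))))))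
(Tr.nd (nat_lit 452) (Tr.nd (nat_lit 451) (Tr.lf (Fc.ed (nat_lit 450) (nat_lit 155) Col.a (nat_lit 160) Dv.df))
(Tr.lf (Fc.ed (nat_lit 451) (nat_lit 160) Col.c (nat_lit 160) (Dv.wd (nat_lit 42) [Mv.b (nat_lit 450), Mv.f (nat_lit 435), Mv.f (nat_lit 450)]))))
(Tr.nd (nat_lit 453) (Tr.lf (Fc.ed (nat_lit 452) (nat_lit 160) Col.e (nat_lit 61) (Dv.wd (nat_lit 60) [Mv.b (nat_lit 263), Mv.f (nat_lit 434), Mv.f (nat_lit 450)])))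
(Tr.nd (nat_lit 454) (Tr.lf (Fc.ed (nat_lit 453) (nat_lit 155) Col.l (nat_lit 161) Dv.df))
(Tr.lf (Fc.ed (nat_lit 454) (nat_lit 161) Col.e (nat_lit 118) (Dv.wd (nat_lit 71) [Mv.b (nat_lit 346), Mv.f (nat_lit 434), Mv.f (nat_lit 453)])))))))
(Tr.nd (nat_lit 460) (Tr.nd (nat_lit 457) (Tr.nd (nat_lit 456) (Tr.lf (Fc.ed (nat_lit 455) (nat_lit 96) Col.e (nat_lit 162) Dv.df))
(Tr.lf (Fc.ed (nat_lit 456) (nat_lit 162) Col.b (nat_lit 160) (Dv.wd (nat_lit 54) [Mv.f (nat_lit 452), Mv.f (nat_lit 287), Mv.f (nat_lit 455)]))))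
(Tr.nd (nat_lit 458) (Tr.lf (Fc.ed (nat_lit 457) (nat_lit 162) Col.h (nat_lit 157) (Dv.wd (nat_lit 56) [Mv.b (nat_lit 439), Mv.b (nat_lit 289), Mv.f (nat_lit 455)])))
(Tr.nd (nat_lit 459) (Tr.lf (Fc.ed (nat_lit 458) (nat_lit 123) Col.e (nat_lit 163) Dv.df))
(Tr.lf (Fc.ed (nat_lit 459) (nat_lit 163) Col.l (nat_lit 162) (Dv.wd (nat_lit 69) [Mv.b (nat_lit 455), Mv.b (nat_lit 357), Mv.f (nat_lit 458)]))))))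
(Tr.nd (nat_lit 462) (Tr.nd (nat_lit 461) (Tr.lf (Fc.ed (nat_lit 460) (nat_lit 163) Col.h (nat_lit 154) (Dv.wd (nat_lit 56) [Mv.b (nat_lit 433), Mv.b (nat_lit 358), Mv.f (nat_lit 458)])))
(Tr.lf (Fc.ed (nat_lit 461) (nat_lit 160) Col.l (nat_lit 164) Dv.df)))
(Tr.nd (nat_lit 463) (Tr.lf (Fc.ed (nat_lit 462) (nat_lit 164) Col.a (nat_lit 161) (Dv.wd (nat_lit 73) [Mv.b (nat_lit 453), Mv.f (nat_lit 450), Mv.f (nat_lit 461)])))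
(Tr.nd (nat_lit 464) (Tr.lf (Fc.ed (nat_lit 463) (nat_lit 164) Col.b (nat_lit 163) (Dv.wd (nat_lit 84) [Mv.f (nat_lit 459), Mv.f (nat_lit 456), Mv.f (nat_lit 461)])))
(Tr.lf (Fc.ed (nat_lit 464) (nat_lit 156) Col.a (nat_lit 165) Dv.df)))))))
(Tr.nd (nat_lit 475) (Tr.nd (nat_lit 470) (Tr.nd (nat_lit 467) (Tr.nd (nat_lit 466) (Tr.lf (Fc.ed (nat_lit 465) (nat_lit 165) Col.e (nat_lit 127) (Dv.wd (nat_lit 60) [Mv.b (nat_lit 366), Mv.f (nat_lit 437), Mv.f (nat_lit 464)])))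
(Tr.lf (Fc.ed (nat_lit 466) (nat_lit 142) Col.e (nat_lit 166) Dv.df)))
(Tr.nd (nat_lit 468) (Tr.lf (Fc.ed (nat_lit 467) (nat_lit 166) Col.l (nat_lit 165) (Dv.wd (nat_lit 69) [Mv.f (nat_lit 465), Mv.b (nat_lit 400), Mv.f (nat_lit 466)])))
(Tr.nd (nat_lit 469) (Tr.lf (Fc.ed (nat_lit 468) (nat_lit 160) Col.h (nat_lit 167) Dv.df))
(Tr.lf (Fc.ed (nat_lit 469) (nat_lit 167) Col.b (nat_lit 157) (Dv.wd (nat_lit 19) [Mv.b (nat_lit 457), Mv.f (nat_lit 456), Mv.f (nat_lit 468)]))))))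
(Tr.nd (nat_lit 472) (Tr.nd (nat_lit 471) (Tr.lf (Fc.ed (nat_lit 470) (nat_lit 167) Col.c (nat_lit 167) (Dv.wd (nat_lit 20) [Mv.b (nat_lit 468), Mv.f (nat_lit 451), Mv.f (nat_lit 468)])))
(Tr.lf (Fc.ed (nat_lit 471) (nat_lit 157) Col.c (nat_lit 168) Dv.df)))
(Tr.nd (nat_lit 473) (Tr.lf (Fc.ed (nat_lit 472) (nat_lit 168) Col.k (nat_lit 168) (Dv.wd (nat_lit 30) [Mv.b (nat_lit 471), Mv.f (nat_lit 441), Mv.f (nat_lit 471)])))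
(Tr.nd (nat_lit 474) (Tr.lf (Fc.ed (nat_lit 473) (nat_lit 168) Col.a (nat_lit 168) (Dv.wd (nat_lit 31) [Mv.b (nat_lit 471), Mv.f (nat_lit 442), Mv.f (nat_lit 471)])))
(Tr.lf (Fc.ed (nat_lit 474) (nat_lit 168) Col.e (nat_lit 108) (Dv.wd (nat_lit 58) [Mv.f (nat_lit 328), Mv.f (nat_lit 439), Mv.f (nat_lit 471)])))))))
(Tr.nd (nat_lit 480) (Tr.nd (nat_lit 477) (Tr.nd (nat_lit 476) (Tr.lf (Fc.ed (nat_lit 475) (nat_lit 168) Col.f (nat_lit 168) (Dv.wd (nat_lit 32) [Mv.b (nat_lit 471), Mv.f (nat_lit 443), Mv.f (nat_lit 471)])))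
(Tr.lf (Fc.ed (nat_lit 476) (nat_lit 168) Col.b (nat_lit 168) (Dv.wd (nat_lit 116) [Mv.b (nat_lit 471), Mv.b (nat_lit 469), Mv.f (nat_lit 470), Mv.f (nat_lit 469), Mv.f (nat_lit 471)]))))
(Tr.nd (nat_lit 478) (Tr.lf (Fc.ed (nat_lit 477) (nat_lit 168) Col.l (nat_lit 169) Dv.df))
(Tr.nd (nat_lit 479) (Tr.lf (Fc.ed (nat_lit 478) (nat_lit 169) Col.b (nat_lit 169) (Dv.wd (nat_lit 84) [Mv.b (nat_lit 477), Mv.f (nat_lit 476), Mv.f (nat_lit 477)])))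
(Tr.lf (Fc.ed (nat_lit 479) (nat_lit 169) Col.c (nat_lit 154) (Dv.wd (nat_lit 78) [Mv.b (nat_lit 440), Mv.f (nat_lit 471), Mv.f (nat_lit 477)]))))))
(Tr.nd (nat_lit 483) (Tr.nd (nat_lit 481) (Tr.lf (Fc.ed (nat_lit 480) (nat_lit 169) Col.e (nat_lit 119) (Dv.wd (nat_lit 71) [Mv.b (nat_lit 348), Mv.b (nat_lit 474), Mv.f (nat_lit 477)])))
(Tr.nd (nat_lit 482) (Tr.lf (Fc.ed (nat_lit 481) (nat_lit 169) Col.f (nat_lit 169) (Dv.wd (nat_lit 100) [Mv.b (nat_lit 477), Mv.f (nat_lit 475), Mv.f (nat_lit 477)])))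
(Tr.lf (Fc.ed (nat_lit 482) (nat_lit 133) Col.b (nat_lit 170) Dv.df))))
(Tr.nd (nat_lit 484) (Tr.lf (Fc.ed (nat_lit 483) (nat_lit 170) Col.d (nat_lit 148) (Dv.wd (nat_lit 37) [Mv.f (nat_lit 417), Mv.f (nat_lit 412), Mv.f (nat_lit 482)])))
(Tr.nd (nat_lit 485) (Tr.lf (Fc.ed (nat_lit 484) (nat_lit 170) Col.c (nat_lit 170) (Dv.wd (nat_lit 40) [Mv.b (nat_lit 482), Mv.b (nat_lit 449), Mv.f (nat_lit 448), Mv.f (nat_lit 449), Mv.f (nat_lit 482)])))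
(Tr.lf (Fc.ed (nat_lit 485) (nat_lit 164) Col.h (nat_lit 171) Dv.df))))))))))
(Tr.nd (nat_lit 567) (Tr.nd (nat_lit 526) (Tr.nd (nat_lit 506) (Tr.nd (nat_lit 496) (Tr.nd (nat_lit 491) (Tr.nd (nat_lit 488) (Tr.nd (nat_lit 487) (Tr.lf (Fc.ed (nat_lit 486) (nat_lit 171) Col.b (nat_lit 154) (Dv.wd (nat_lit 19) [Mv.b (nat_lit 460), Mv.b (nat_lit 463), Mv.f (nat_lit 485)])))
(Tr.lf (Fc.ed (nat_lit 487) (nat_lit 120) Col.e (nat_lit 172) Dv.df)))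
(Tr.nd (nat_lit 489) (Tr.lf (Fc.ed (nat_lit 488) (nat_lit 172) Col.k (nat_lit 169) (Dv.wd (nat_lit 72) [Mv.f (nat_lit 480), Mv.f (nat_lit 350), Mv.f (nat_lit 487)])))
(Tr.nd (nat_lit 490) (Tr.lf (Fc.ed (nat_lit 489) (nat_lit 167) Col.a (nat_lit 173) Dv.df))
(Tr.lf (Fc.ed (nat_lit 490) (nat_lit 173) Col.h (nat_lit 155) (Dv.wd (nat_lit 45) [Mv.f (nat_lit 450), Mv.f (nat_lit 468), Mv.f (nat_lit 489)]))))))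
(Tr.nd (nat_lit 493) (Tr.nd (nat_lit 492) (Tr.lf (Fc.ed (nat_lit 491) (nat_lit 165) Col.h (nat_lit 174) Dv.df))
(Tr.lf (Fc.ed (nat_lit 492) (nat_lit 174) Col.e (nat_lit 134) (Dv.wd (nat_lit 21) [Mv.f (nat_lit 381), Mv.b (nat_lit 465), Mv.f (nat_lit 491)]))))
(Tr.nd (nat_lit 494) (Tr.lf (Fc.ed (nat_lit 493) (nat_lit 135) Col.e (nat_lit 175) Dv.df))
(Tr.nd (nat_lit 495) (Tr.lf (Fc.ed (nat_lit 494) (nat_lit 175) Col.a (nat_lit 174) (Dv.wd (nat_lit 53) [Mv.f (nat_lit 492), Mv.b (nat_lit 383), Mv.f (nat_lit 493)])))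
(Tr.lf (Fc.ed (nat_lit 495) (nat_lit 175) Col.h (nat_lit 156) (Dv.wd (nat_lit 56) [Mv.b (nat_lit 437), Mv.b (nat_lit 384), Mv.f (nat_lit 493)])))))))
(Tr.nd (nat_lit 501) (Tr.nd (nat_lit 498) (Tr.nd (nat_lit 497) (Tr.lf (Fc.ed (nat_lit 496) (nat_lit 146) Col.e (nat_lit 176) Dv.df))
(Tr.lf (Fc.ed (nat_lit 497) (nat_lit 172) Col.a (nat_lit 177) Dv.df)))
(Tr.nd (nat_lit 499) (Tr.lf (Fc.ed (nat_lit 498) (nat_lit 177) Col.e (nat_lit 133) (Dv.wd (nat_lit 60) [Mv.b (nat_lit 378), Mv.f (nat_lit 487), Mv.f (nat_lit 497)])))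
(Tr.nd (nat_lit 500) (Tr.lf (Fc.ed (nat_lit 499) (nat_lit 166) Col.h (nat_lit 178) Dv.df))
(Tr.lf (Fc.ed (nat_lit 500) (nat_lit 178) Col.l (nat_lit 174) (Dv.wd (nat_lit 16) [Mv.b (nat_lit 491), Mv.b (nat_lit 467), Mv.f (nat_lit 499)]))))))
(Tr.nd (nat_lit 503) (Tr.nd (nat_lit 502) (Tr.lf (Fc.ed (nat_lit 501) (nat_lit 178) Col.e (nat_lit 147) (Dv.wd (nat_lit 21) [Mv.f (nat_lit 415), Mv.f (nat_lit 466), Mv.f (nat_lit 499)])))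
(Tr.lf (Fc.ed (nat_lit 502) (nat_lit 124) Col.e (nat_lit 179) Dv.df)))
(Tr.nd (nat_lit 504) (Tr.lf (Fc.ed (nat_lit 503) (nat_lit 148) Col.e (nat_lit 180) Dv.df))
(Tr.nd (nat_lit 505) (Tr.lf (Fc.ed (nat_lit 504) (nat_lit 180) Col.b (nat_lit 176) (Dv.wd (nat_lit 54) [Mv.b (nat_lit 496), Mv.b (nat_lit 417), Mv.f (nat_lit 503)])))
(Tr.lf (Fc.ed (nat_lit 505) (nat_lit 161) Col.h (nat_lit 181) Dv.df)))))))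
(Tr.nd (nat_lit 516) (Tr.nd (nat_lit 511) (Tr.nd (nat_lit 508) (Tr.nd (nat_lit 507) (Tr.lf (Fc.ed (nat_lit 506) (nat_lit 181) Col.a (nat_lit 171) (Dv.wd (nat_lit 18) [Mv.b (nat_lit 485), Mv.f (nat_lit 462), Mv.f (nat_lit 505)])))
(Tr.lf (Fc.ed (nat_lit 507) (nat_lit 181) Col.e (nat_lit 132) (Dv.wd (nat_lit 21) [Mv.b (nat_lit 377), Mv.b (nat_lit 454), Mv.f (nat_lit 505)]))))
(Tr.nd (nat_lit 509) (Tr.lf (Fc.ed (nat_lit 508) (nat_lit 170) Col.e (nat_lit 182) Dv.df))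
(Tr.nd (nat_lit 510) (Tr.lf (Fc.ed (nat_lit 509) (nat_lit 182) Col.b (nat_lit 177) (Dv.wd (nat_lit 54) [Mv.f (nat_lit 498), Mv.f (nat_lit 482), Mv.f (nat_lit 508)])))
(Tr.lf (Fc.ed (nat_lit 510) (nat_lit 182) Col.c (nat_lit 182) (Dv.wd (nat_lit 55) [Mv.b (nat_lit 508), Mv.f (nat_lit 484), Mv.f (nat_lit 508)]))))))
(Tr.nd (nat_lit 513) (Tr.nd (nat_lit 512) (Tr.lf (Fc.ed (nat_lit 511) (nat_lit 145) Col.e (nat_lit 183) Dv.df))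
(Tr.lf (Fc.ed (nat_lit 512) (nat_lit 116) Col.e (nat_lit 184) Dv.df)))
(Tr.nd (nat_lit 514) (Tr.lf (Fc.ed (nat_lit 513) (nat_lit 184) Col.h (nat_lit 179) (Dv.wd (nat_lit 56) [Mv.b (nat_lit 502), Mv.b (nat_lit 359), Mv.f (nat_lit 512)])))
(Tr.nd (nat_lit 515) (Tr.lf (Fc.ed (nat_lit 514) (nat_lit 184) Col.d (nat_lit 184) (Dv.wd (nat_lit 68) [Mv.b (nat_lit 512), Mv.b (nat_lit 341), Mv.f (nat_lit 335), Mv.f (nat_lit 341), Mv.f (nat_lit 512)])))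
(Tr.lf (Fc.ed (nat_lit 515) (nat_lit 143) Col.e (nat_lit 185) Dv.df))))))
(Tr.nd (nat_lit 521) (Tr.nd (nat_lit 518) (Tr.nd (nat_lit 517) (Tr.lf (Fc.ed (nat_lit 516) (nat_lit 185) Col.b (nat_lit 178) (Dv.wd (nat_lit 54) [Mv.f (nat_lit 501), Mv.f (nat_lit 414), Mv.f (nat_lit 515)])))
(Tr.lf (Fc.ed (nat_lit 517) (nat_lit 185) Col.h (nat_lit 183) (Dv.wd (nat_lit 56) [Mv.b (nat_lit 511), Mv.f (nat_lit 409), Mv.f (nat_lit 515)]))))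
(Tr.nd (nat_lit 519) (Tr.lf (Fc.ed (nat_lit 518) (nat_lit 141) Col.e (nat_lit 186) Dv.df))
(Tr.nd (nat_lit 520) (Tr.lf (Fc.ed (nat_lit 519) (nat_lit 186) Col.a (nat_lit 176) (Dv.wd (nat_lit 53) [Mv.b (nat_lit 496), Mv.f (nat_lit 411), Mv.f (nat_lit 518)])))
(Tr.lf (Fc.ed (nat_lit 520) (nat_lit 139) Col.e (nat_lit 187) Dv.df)))))
(Tr.nd (nat_lit 523) (Tr.nd (nat_lit 522) (Tr.lf (Fc.ed (nat_lit 521) (nat_lit 187) Col.l (nat_lit 179) (Dv.wd (nat_lit 69) [Mv.b (nat_lit 502), Mv.b (nat_lit 393), Mv.f (nat_lit 520)])))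
(Tr.lf (Fc.ed (nat_lit 522) (nat_lit 187) Col.c (nat_lit 183) (Dv.wd (nat_lit 55) [Mv.b (nat_lit 511), Mv.f (nat_lit 408), Mv.f (nat_lit 520)]))))
(Tr.nd (nat_lit 524) (Tr.lf (Fc.ed (nat_lit 523) (nat_lit 184) Col.l (nat_lit 188) Dv.df))
(Tr.nd (nat_lit 525) (Tr.lf (Fc.ed (nat_lit 524) (nat_lit 188) Col.h (nat_lit 187) (Dv.wd (nat_lit 74) [Mv.f (nat_lit 521), Mv.b (nat_lit 513), Mv.f (nat_lit 523)])))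
(Tr.lf (Fc.ed (nat_lit 525) (nat_lit 185) Col.c (nat_lit 188) (Dv.wd (nat_lit 66) [Mv.f (nat_lit 524), Mv.f (nat_lit 522), Mv.b (nat_lit 517)])))))))))
(Tr.nd (nat_lit 546) (Tr.nd (nat_lit 536) (Tr.nd (nat_lit 531) (Tr.nd (nat_lit 528) (Tr.nd (nat_lit 527) (Tr.lf (Fc.ed (nat_lit 526) (nat_lit 169) Col.d (nat_lit 189) Dv.df))
(Tr.lf (Fc.ed (nat_lit 527) (nat_lit 189) Col.b (nat_lit 189) (Dv.wd (nat_lit 26) [Mv.b (nat_lit 526), Mv.f (nat_lit 478), Mv.f (nat_lit 526)]))))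
(Tr.nd (nat_lit 529) (Tr.lf (Fc.ed (nat_lit 528) (nat_lit 189) Col.f (nat_lit 189) (Dv.wd (nat_lit 27) [Mv.b (nat_lit 526), Mv.f (nat_lit 481), Mv.f (nat_lit 526)])))
(Tr.nd (nat_lit 530) (Tr.lf (Fc.ed (nat_lit 529) (nat_lit 185) Col.l (nat_lit 190) Dv.df))
(Tr.lf (Fc.ed (nat_lit 530) (nat_lit 190) Col.b (nat_lit 174) (Dv.wd (nat_lit 84) [Mv.b (nat_lit 500), Mv.b (nat_lit 516), Mv.f (nat_lit 529)]))))))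
(Tr.nd (nat_lit 533) (Tr.nd (nat_lit 532) (Tr.lf (Fc.ed (nat_lit 531) (nat_lit 190) Col.c (nat_lit 184) (Dv.wd (nat_lit 78) [Mv.f (nat_lit 523), Mv.b (nat_lit 525), Mv.f (nat_lit 529)])))
(Tr.lf (Fc.ed (nat_lit 532) (nat_lit 186) Col.d (nat_lit 191) Dv.df)))
(Tr.nd (nat_lit 534) (Tr.lf (Fc.ed (nat_lit 533) (nat_lit 189) Col.c (nat_lit 192) Dv.df))
(Tr.nd (nat_lit 535) (Tr.lf (Fc.ed (nat_lit 534) (nat_lit 192) Col.f (nat_lit 192) (Dv.wd (nat_lit 32) [Mv.b (nat_lit 533), Mv.f (nat_lit 528), Mv.f (nat_lit 533)])))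
(Tr.lf (Fc.ed (nat_lit 535) (nat_lit 192) Col.b (nat_lit 193) Dv.df))))))
(Tr.nd (nat_lit 541) (Tr.nd (nat_lit 538) (Tr.nd (nat_lit 537) (Tr.lf (Fc.ed (nat_lit 536) (nat_lit 193) Col.f (nat_lit 193) (Dv.wd (nat_lit 38) [Mv.b (nat_lit 535), Mv.f (nat_lit 534), Mv.f (nat_lit 535)])))
(Tr.lf (Fc.ed (nat_lit 537) (nat_lit 193) Col.c (nat_lit 193) (Dv.wd (nat_lit 40) [Mv.b (nat_lit 535), Mv.b (nat_lit 533), Mv.f (nat_lit 527), Mv.f (nat_lit 533), Mv.f (nat_lit 535)]))))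
(Tr.nd (nat_lit 539) (Tr.lf (Fc.ed (nat_lit 538) (nat_lit 193) Col.a (nat_lit 194) Dv.df))
(Tr.nd (nat_lit 540) (Tr.lf (Fc.ed (nat_lit 539) (nat_lit 194) Col.c (nat_lit 194) (Dv.wd (nat_lit 42) [Mv.b (nat_lit 538), Mv.f (nat_lit 537), Mv.f (nat_lit 538)])))
(Tr.lf (Fc.ed (nat_lit 540) (nat_lit 194) Col.f (nat_lit 194) (Dv.wd (nat_lit 44) [Mv.b (nat_lit 538), Mv.f (nat_lit 536), Mv.f (nat_lit 538)]))))))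
(Tr.nd (nat_lit 543) (Tr.nd (nat_lit 542) (Tr.lf (Fc.ed (nat_lit 541) (nat_lit 194) Col.h (nat_lit 195) Dv.df))
(Tr.lf (Fc.ed (nat_lit 542) (nat_lit 195) Col.c (nat_lit 195) (Dv.wd (nat_lit 20) [Mv.b (nat_lit 541), Mv.f (nat_lit 539), Mv.f (nat_lit 541)]))))
(Tr.nd (nat_lit 544) (Tr.lf (Fc.ed (nat_lit 543) (nat_lit 195) Col.f (nat_lit 195) (Dv.wd (nat_lit 22) [Mv.b (nat_lit 541), Mv.f (nat_lit 540), Mv.f (nat_lit 541)])))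
(Tr.nd (nat_lit 545) (Tr.lf (Fc.ed (nat_lit 544) (nat_lit 172) Col.d (nat_lit 196) Dv.df))
(Tr.lf (Fc.ed (nat_lit 545) (nat_lit 196) Col.k (nat_lit 189) (Dv.wd (nat_lit 24) [Mv.b (nat_lit 526), Mv.b (nat_lit 488), Mv.f (nat_lit 544)]))))))))
(Tr.nd (nat_lit 556) (Tr.nd (nat_lit 551) (Tr.nd (nat_lit 548) (Tr.nd (nat_lit 547) (Tr.lf (Fc.ed (nat_lit 546) (nat_lit 196) Col.e (nat_lit 191) (Dv.wd (nat_lit 57) [Mv.b (nat_lit 532), Mv.b (nat_lit 518), Mv.f (nat_lit 397), Mv.f (nat_lit 487), Mv.f (nat_lit 544)])))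
(Tr.lf (Fc.ed (nat_lit 547) (nat_lit 180) Col.d (nat_lit 197) Dv.df)))
(Tr.nd (nat_lit 549) (Tr.lf (Fc.ed (nat_lit 548) (nat_lit 195) Col.e (nat_lit 198) Dv.df))
(Tr.nd (nat_lit 550) (Tr.lf (Fc.ed (nat_lit 549) (nat_lit 198) Col.c (nat_lit 198) (Dv.wd (nat_lit 55) [Mv.b (nat_lit 548), Mv.f (nat_lit 542), Mv.f (nat_lit 548)])))
(Tr.lf (Fc.ed (nat_lit 550) (nat_lit 198) Col.d (nat_lit 199) Dv.df)))))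
(Tr.nd (nat_lit 553) (Tr.nd (nat_lit 552) (Tr.lf (Fc.ed (nat_lit 551) (nat_lit 168) Col.d (nat_lit 200) Dv.df))
(Tr.lf (Fc.ed (nat_lit 552) (nat_lit 200) Col.l (nat_lit 189) (Dv.wd (nat_lit 23) [Mv.b (nat_lit 526), Mv.b (nat_lit 477), Mv.f (nat_lit 551)]))))
(Tr.nd (nat_lit 554) (Tr.lf (Fc.ed (nat_lit 553) (nat_lit 200) Col.k (nat_lit 200) (Dv.wd (nat_lit 24) [Mv.b (nat_lit 551), Mv.f (nat_lit 472), Mv.f (nat_lit 551)])))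
(Tr.nd (nat_lit 555) (Tr.lf (Fc.ed (nat_lit 554) (nat_lit 200) Col.a (nat_lit 200) (Dv.wd (nat_lit 25) [Mv.b (nat_lit 551), Mv.f (nat_lit 473), Mv.f (nat_lit 551)])))
(Tr.lf (Fc.ed (nat_lit 555) (nat_lit 200) Col.b (nat_lit 200) (Dv.wd (nat_lit 26) [Mv.b (nat_lit 551), Mv.f (nat_lit 476), Mv.f (nat_lit 551)])))))))
(Tr.nd (nat_lit 561) (Tr.nd (nat_lit 558) (Tr.nd (nat_lit 557) (Tr.lf (Fc.ed (nat_lit 556) (nat_lit 200) Col.f (nat_lit 200) (Dv.wd (nat_lit 27) [Mv.b (nat_lit 551), Mv.f (nat_lit 475), Mv.f (nat_lit 551)])))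
(Tr.lf (Fc.ed (nat_lit 557) (nat_lit 200) Col.e (nat_lit 201) Dv.df)))
(Tr.nd (nat_lit 559) (Tr.lf (Fc.ed (nat_lit 558) (nat_lit 201) Col.k (nat_lit 201) (Dv.wd (nat_lit 72) [Mv.b (nat_lit 557), Mv.f (nat_lit 553), Mv.f (nat_lit 557)])))
(Tr.nd (nat_lit 560) (Tr.lf (Fc.ed (nat_lit 559) (nat_lit 201) Col.a (nat_lit 201) (Dv.wd (nat_lit 53) [Mv.b (nat_lit 557), Mv.f (nat_lit 554), Mv.f (nat_lit 557)])))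
(Tr.lf (Fc.ed (nat_lit 560) (nat_lit 201) Col.b (nat_lit 201) (Dv.wd (nat_lit 54) [Mv.b (nat_lit 557), Mv.f (nat_lit 555), Mv.f (nat_lit 557)]))))))
(Tr.nd (nat_lit 564) (Tr.nd (nat_lit 562) (Tr.lf (Fc.ed (nat_lit 561) (nat_lit 199) Col.c (nat_lit 202) Dv.df))
(Tr.nd (nat_lit 563) (Tr.lf (Fc.ed (nat_lit 562) (nat_lit 202) Col.d (nat_lit 202) (Dv.wd (nat_lit 34) [Mv.b (nat_lit 561), Mv.b (nat_lit 550), Mv.f (nat_lit 549), Mv.f (nat_lit 550), Mv.f (nat_lit 561)])))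
(Tr.lf (Fc.ed (nat_lit 563) (nat_lit 202) Col.b (nat_lit 203) Dv.df))))
(Tr.nd (nat_lit 565) (Tr.lf (Fc.ed (nat_lit 564) (nat_lit 203) Col.d (nat_lit 203) (Dv.wd (nat_lit 37) [Mv.b (nat_lit 563), Mv.f (nat_lit 562), Mv.f (nat_lit 563)])))
(Tr.nd (nat_lit 566) (Tr.lf (Fc.ed (nat_lit 565) (nat_lit 203) Col.a (nat_lit 204) Dv.df))
(Tr.lf (Fc.ed (nat_lit 566) (nat_lit 204) Col.d (nat_lit 204) (Dv.wd (nat_lit 43) [Mv.b (nat_lit 565), Mv.f (nat_lit 564), Mv.f (nat_lit 565)]))))))))))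
(Tr.nd (nat_lit 608) (Tr.nd (nat_lit 587) (Tr.nd (nat_lit 577) (Tr.nd (nat_lit 572) (Tr.nd (nat_lit 569) (Tr.nd (nat_lit 568) (Tr.lf (Fc.ed (nat_lit 567) (nat_lit 201) Col.f (nat_lit 205) Dv.df))
(Tr.lf (Fc.ed (nat_lit 568) (nat_lit 205) Col.k (nat_lit 205) (Dv.wd (nat_lit 117) [Mv.b (nat_lit 567), Mv.f (nat_lit 558), Mv.f (nat_lit 567)]))))
(Tr.nd (nat_lit 570) (Tr.lf (Fc.ed (nat_lit 569) (nat_lit 205) Col.a (nat_lit 205) (Dv.wd (nat_lit 87) [Mv.b (nat_lit 567), Mv.f (nat_lit 559), Mv.f (nat_lit 567)])))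
(Tr.nd (nat_lit 571) (Tr.lf (Fc.ed (nat_lit 570) (nat_lit 205) Col.b (nat_lit 205) (Dv.wd (nat_lit 80) [Mv.b (nat_lit 567), Mv.f (nat_lit 560), Mv.f (nat_lit 567)])))
(Tr.lf (Fc.ed (nat_lit 571) (nat_lit 205) Col.e (nat_lit 205) (Dv.wd (nat_lit 109) [Mv.b (nat_lit 567), Mv.b (nat_lit 557), Mv.f (nat_lit 556), Mv.f (nat_lit 557), Mv.f (nat_lit 567)]))))))
(Tr.nd (nat_lit 574) (Tr.nd (nat_lit 573) (Tr.lf (Fc.ed (nat_lit 572) (nat_lit 204) Col.h (nat_lit 206) Dv.df))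
(Tr.lf (Fc.ed (nat_lit 573) (nat_lit 206) Col.f (nat_lit 207) Dv.df)))
(Tr.nd (nat_lit 575) (Tr.lf (Fc.ed (nat_lit 574) (nat_lit 205) Col.h (nat_lit 208) Dv.df))
(Tr.nd (nat_lit 576) (Tr.lf (Fc.ed (nat_lit 575) (nat_lit 208) Col.k (nat_lit 208) (Dv.wd (nat_lit 17) [Mv.b (nat_lit 574), Mv.f (nat_lit 568), Mv.f (nat_lit 574)])))
(Tr.lf (Fc.ed (nat_lit 576) (nat_lit 208) Col.a (nat_lit 208) (Dv.wd (nat_lit 18) [Mv.b (nat_lit 574), Mv.f (nat_lit 569), Mv.f (nat_lit 574)])))))))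
(Tr.nd (nat_lit 582) (Tr.nd (nat_lit 579) (Tr.nd (nat_lit 578) (Tr.lf (Fc.ed (nat_lit 577) (nat_lit 208) Col.b (nat_lit 208) (Dv.wd (nat_lit 19) [Mv.b (nat_lit 574), Mv.f (nat_lit 570), Mv.f (nat_lit 574)])))
(Tr.lf (Fc.ed (nat_lit 578) (nat_lit 208) Col.e (nat_lit 208) (Dv.wd (nat_lit 21) [Mv.b (nat_lit 574), Mv.f (nat_lit 571), Mv.f (nat_lit 574)]))))
(Tr.nd (nat_lit 580) (Tr.lf (Fc.ed (nat_lit 579) (nat_lit 207) Col.e (nat_lit 209) Dv.df))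
(Tr.nd (nat_lit 581) (Tr.lf (Fc.ed (nat_lit 580) (nat_lit 209) Col.d (nat_lit 210) Dv.df))
(Tr.lf (Fc.ed (nat_lit 581) (nat_lit 210) Col.c (nat_lit 208) (Dv.wd (nat_lit 118) [Mv.f (nat_lit 577), Mv.f (nat_lit 576), Mv.b (nat_lit 574), Mv.b (nat_lit 567), Mv.b (nat_lit 557), Mv.b (nat_lit 551), Mv.b (nat_lit 471), Mv.b (nat_lit 469), Mv.f (nat_lit 489), Mv.f (nat_lit 490), Mv.f (nat_lit 436), Mv.b (nat_lit 434), Mv.f (nat_lit 265), Mv.f (nat_lit 249), Mv.f (nat_lit 418), Mv.f (nat_lit 422), Mv.f (nat_lit 421), Mv.f (nat_lit 420), Mv.f (nat_lit 321), Mv.b (nat_lit 270), Mv.b (nat_lit 235), Mv.f (nat_lit 234), Mv.f (nat_lit 233), Mv.b (nat_lit 232), Mv.b (nat_lit 342), Mv.f (nat_lit 512), Mv.f (nat_lit 514), Mv.b (nat_lit 531), Mv.f (nat_lit 530), Mv.b (nat_lit 494), Mv.f (nat_lit 495), Mv.f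 (nat_lit 438), Mv.b (nat_lit 437), Mv.b (nat_lit 376), Mv.b (nat_lit 388), Mv.b (nat_lit 405), Mv.f (nat_lit 404), Mv.f (nat_lit 406), Mv.b (nat_lit 403), Mv.f (nat_lit 197), Mv.b (nat_lit 169), Mv.b (nat_lit 157), Mv.f (nat_lit 156), Mv.f (nat_lit 284), Mv.b (nat_lit 168), Mv.b (nat_lit 167), Mv.b (nat_lit 349), Mv.b (nat_lit 480), Mv.f (nat_lit 526), Mv.f (nat_lit 533), Mv.f (nat_lit 535), Mv.f (nat_lit 538), Mv.f (nat_lit 541), Mv.f (nat_lit 543), Mv.f (nat_lit 548), Mv.f (nat_lit 550), Mv.f (nat_lit 561), Mv.f (nat_lit 563), Mv.f (nat_lit 565), Mv.f (nat_lit 572), Mv.f (nat_lit 573), Mv.f (nat_lit 579), Mv.f (nat_lit 580)]))))))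
(Tr.nd (nat_lit 584) (Tr.nd (nat_lit 583) (Tr.lf (Fc.ed (nat_lit 582) (nat_lit 210) Col.k (nat_lit 210) (Dv.wd (nat_lit 119) [Mv.f (nat_lit 581), Mv.f (nat_lit 575), Mv.b (nat_lit 581)])))
(Tr.lf (Fc.ed (nat_lit 583) (nat_lit 210) Col.a (nat_lit 210) (Dv.wd (nat_lit 97) [Mv.f (nat_lit 581), Mv.f (nat_lit 576), Mv.b (nat_lit 581)]))))
(Tr.nd (nat_lit 585) (Tr.lf (Fc.ed (nat_lit 584) (nat_lit 210) Col.e (nat_lit 210) (Dv.wd (nat_lit 120) [Mv.f (nat_lit 581), Mv.f (nat_lit 578), Mv.b (nat_lit 581)])))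
(Tr.nd (nat_lit 586) (Tr.lf (Fc.ed (nat_lit 585) (nat_lit 207) Col.d (nat_lit 207) (Dv.wd (nat_lit 121) [Mv.f (nat_lit 579), Mv.f (nat_lit 580), Mv.f (nat_lit 584), Mv.b (nat_lit 580), Mv.b (nat_lit 579)])))
(Tr.lf (Fc.ed (nat_lit 586) (nat_lit 206) Col.d (nat_lit 206) (Dv.wd (nat_lit 110) [Mv.f (nat_lit 573), Mv.f (nat_lit 585), Mv.b (nat_lit 573)]))))))))
(Tr.nd (nat_lit 597) (Tr.nd (nat_lit 592) (Tr.nd (nat_lit 589) (Tr.nd (nat_lit 588) (Tr.lf (Fc.al (nat_lit 587) (nat_lit 204) (nat_lit 206) (Dv.wd (nat_lit 83) [Mv.f (nat_lit 586), Mv.b (nat_lit 572), Mv.f (nat_lit 566), Mv.f (nat_lit 572), Mv.f (nat_lit 586), Mv.b (nat_lit 572)])))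
(Tr.lf (Fc.ed (nat_lit 588) (nat_lit 204) Col.f (nat_lit 207) (Dv.wd (nat_lit 107) [Mv.b (nat_lit 573), Mv.b (nat_lit 587)]))))
(Tr.nd (nat_lit 590) (Tr.lf (Fc.ed (nat_lit 589) (nat_lit 209) Col.a (nat_lit 209) (Dv.wd (nat_lit 122) [Mv.f (nat_lit 580), Mv.f (nat_lit 583), Mv.b (nat_lit 580)])))
(Tr.nd (nat_lit 591) (Tr.lf (Fc.ed (nat_lit 590) (nat_lit 207) Col.a (nat_lit 207) (Dv.wd (nat_lit 91) [Mv.f (nat_lit 579), Mv.f (nat_lit 589), Mv.b (nat_lit 579)])))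
(Tr.lf (Fc.al (nat_lit 591) (nat_lit 203) (nat_lit 204) (Dv.wd (nat_lit 123) [Mv.f (nat_lit 588), Mv.f (nat_lit 590), Mv.b (nat_lit 588), Mv.b (nat_lit 565)]))))))
(Tr.nd (nat_lit 594) (Tr.nd (nat_lit 593) (Tr.lf (Fc.ed (nat_lit 592) (nat_lit 203) Col.f (nat_lit 207) (Dv.wd (nat_lit 107) [Mv.b (nat_lit 588), Mv.b (nat_lit 591)])))
(Tr.lf (Fc.ed (nat_lit 593) (nat_lit 209) Col.k (nat_lit 209) (Dv.wd (nat_lit 77) [Mv.f (nat_lit 580), Mv.f (nat_lit 582), Mv.b (nat_lit 580)]))))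
(Tr.nd (nat_lit 595) (Tr.lf (Fc.ed (nat_lit 594) (nat_lit 207) Col.k (nat_lit 207) (Dv.wd (nat_lit 85) [Mv.f (nat_lit 579), Mv.f (nat_lit 593), Mv.b (nat_lit 579)])))
(Tr.nd (nat_lit 596) (Tr.lf (Fc.ed (nat_lit 595) (nat_lit 203) Col.k (nat_lit 203) (Dv.wd (nat_lit 124) [Mv.f (nat_lit 592), Mv.f (nat_lit 594), Mv.b (nat_lit 592)])))
(Tr.lf (Fc.ed (nat_lit 596) (nat_lit 202) Col.k (nat_lit 202) (Dv.wd (nat_lit 125) [Mv.f (nat_lit 563), Mv.f (nat_lit 595), Mv.b (nat_lit 563)])))))))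
(Tr.nd (nat_lit 602) (Tr.nd (nat_lit 599) (Tr.nd (nat_lit 598) (Tr.lf (Fc.ed (nat_lit 597) (nat_lit 199) Col.k (nat_lit 199) (Dv.wd (nat_lit 119) [Mv.f (nat_lit 561), Mv.f (nat_lit 596), Mv.b (nat_lit 561)])))
(Tr.lf (Fc.ed (nat_lit 598) (nat_lit 198) Col.k (nat_lit 198) (Dv.wd (nat_lit 77) [Mv.f (nat_lit 550), Mv.f (nat_lit 597), Mv.b (nat_lit 550)]))))
(Tr.nd (nat_lit 600) (Tr.lf (Fc.ed (nat_lit 599) (nat_lit 195) Col.k (nat_lit 195) (Dv.wd (nat_lit 85) [Mv.f (nat_lit 548), Mv.f (nat_lit 598), Mv.b (nat_lit 548)])))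
(Tr.nd (nat_lit 601) (Tr.lf (Fc.ed (nat_lit 600) (nat_lit 194) Col.k (nat_lit 194) (Dv.wd (nat_lit 76) [Mv.f (nat_lit 541), Mv.f (nat_lit 599), Mv.b (nat_lit 541)])))
(Tr.lf (Fc.ed (nat_lit 601) (nat_lit 182) Col.d (nat_lit 211) Dv.df)))))
(Tr.nd (nat_lit 605) (Tr.nd (nat_lit 603) (Tr.lf (Fc.ed (nat_lit 602) (nat_lit 211) Col.e (nat_lit 197) (Dv.wd (nat_lit 57) [Mv.b (nat_lit 547), Mv.b (nat_lit 503), Mv.b (nat_lit 483), Mv.f (nat_lit 508), Mv.f (nat_lit 601)])))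
(Tr.nd (nat_lit 604) (Tr.lf (Fc.ed (nat_lit 603) (nat_lit 176) Col.d (nat_lit 212) Dv.df))
(Tr.lf (Fc.ed (nat_lit 604) (nat_lit 212) Col.a (nat_lit 191) (Dv.wd (nat_lit 25) [Mv.b (nat_lit 532), Mv.f (nat_lit 519), Mv.f (nat_lit 603)])))))
(Tr.nd (nat_lit 606) (Tr.lf (Fc.ed (nat_lit 605) (nat_lit 212) Col.b (nat_lit 197) (Dv.wd (nat_lit 26) [Mv.b (nat_lit 547), Mv.f (nat_lit 504), Mv.f (nat_lit 603)])))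
(Tr.nd (nat_lit 607) (Tr.lf (Fc.ed (nat_lit 606) (nat_lit 212) Col.e (nat_lit 213) Dv.df))
(Tr.lf (Fc.ed (nat_lit 607) (nat_lit 213) Col.a (nat_lit 196) (Dv.wd (nat_lit 53) [Mv.f (nat_lit 546), Mv.b (nat_lit 604), Mv.f (nat_lit 606)])))))))))
(Tr.nd (nat_lit 628) (Tr.nd (nat_lit 618) (Tr.nd (nat_lit 613) (Tr.nd (nat_lit 610) (Tr.nd (nat_lit 609) (Tr.lf (Fc.ed (nat_lit 608) (nat_lit 213) Col.b (nat_lit 211) (Dv.wd (nat_lit 54) [Mv.f (nat_lit 602), Mv.b (nat_lit 605), Mv.f (nat_lit 606)])))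
(Tr.lf (Fc.ed (nat_lit 609) (nat_lit 196) Col.c (nat_lit 214) Dv.df)))
(Tr.nd (nat_lit 611) (Tr.lf (Fc.ed (nat_lit 610) (nat_lit 214) Col.k (nat_lit 192) (Dv.wd (nat_lit 30) [Mv.b (nat_lit 533), Mv.b (nat_lit 545), Mv.f (nat_lit 609)])))
(Tr.nd (nat_lit 612) (Tr.lf (Fc.ed (nat_lit 611) (nat_lit 193) Col.k (nat_lit 215) Dv.df))
(Tr.lf (Fc.ed (nat_lit 612) (nat_lit 215) Col.b (nat_lit 214) (Dv.wd (nat_lit 47) [Mv.f (nat_lit 610), Mv.f (nat_lit 535), Mv.f (nat_lit 611)]))))))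
(Tr.nd (nat_lit 615) (Tr.nd (nat_lit 614) (Tr.lf (Fc.ed (nat_lit 613) (nat_lit 215) Col.a (nat_lit 215) (Dv.wd (nat_lit 52) [Mv.b (nat_lit 611), Mv.f (nat_lit 538), Mv.f (nat_lit 600), Mv.b (nat_lit 538), Mv.f (nat_lit 611)])))
(Tr.lf (Fc.ed (nat_lit 614) (nat_lit 194) Col.e (nat_lit 216) Dv.df)))
(Tr.nd (nat_lit 616) (Tr.lf (Fc.ed (nat_lit 615) (nat_lit 216) Col.h (nat_lit 198) (Dv.wd (nat_lit 56) [Mv.b (nat_lit 548), Mv.b (nat_lit 541), Mv.f (nat_lit 614)])))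
(Tr.nd (nat_lit 617) (Tr.lf (Fc.ed (nat_lit 616) (nat_lit 213) Col.c (nat_lit 217) Dv.df))
(Tr.lf (Fc.ed (nat_lit 617) (nat_lit 217) Col.a (nat_lit 214) (Dv.wd (nat_lit 31) [Mv.b (nat_lit 609), Mv.b (nat_lit 607), Mv.f (nat_lit 616)])))))))
(Tr.nd (nat_lit 623) (Tr.nd (nat_lit 620) (Tr.nd (nat_lit 619) (Tr.lf (Fc.ed (nat_lit 618) (nat_lit 217) Col.b (nat_lit 217) (Dv.wd (nat_lit 126) [Mv.f (nat_lit 617), Mv.b (nat_lit 612), Mv.f (nat_lit 613), Mv.f (nat_lit 612), Mv.b (nat_lit 617)])))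
(Tr.lf (Fc.ed (nat_lit 619) (nat_lit 211) Col.c (nat_lit 211) (Dv.wd (nat_lit 127) [Mv.b (nat_lit 608), Mv.f (nat_lit 616), Mv.f (nat_lit 618), Mv.b (nat_lit 616), Mv.f (nat_lit 608)]))))
(Tr.nd (nat_lit 621) (Tr.lf (Fc.al (nat_lit 620) (nat_lit 182) (nat_lit 211) (Dv.wd (nat_lit 89) [Mv.f (nat_lit 619), Mv.b (nat_lit 601), Mv.f (nat_lit 510), Mv.f (nat_lit 601), Mv.f (nat_lit 619), Mv.b (nat_lit 601)])))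
(Tr.nd (nat_lit 622) (Tr.lf (Fc.al (nat_lit 621) (nat_lit 177) (nat_lit 213) (Dv.wd (nat_lit 105) [Mv.f (nat_lit 608), Mv.b (nat_lit 620), Mv.f (nat_lit 509)])))
(Tr.lf (Fc.al (nat_lit 622) (nat_lit 172) (nat_lit 196) (Dv.wd (nat_lit 128) [Mv.b (nat_lit 607), Mv.b (nat_lit 621), Mv.b (nat_lit 497)]))))))
(Tr.nd (nat_lit 625) (Tr.nd (nat_lit 624) (Tr.lf (Fc.al (nat_lit 623) (nat_lit 169) (nat_lit 189) (Dv.wd (nat_lit 108) [Mv.b (nat_lit 545), Mv.b (nat_lit 622), Mv.f (nat_lit 488)])))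
(Tr.lf (Fc.al (nat_lit 624) (nat_lit 168) (nat_lit 200) (Dv.wd (nat_lit 129) [Mv.f (nat_lit 552), Mv.b (nat_lit 623), Mv.b (nat_lit 477)]))))
(Tr.nd (nat_lit 626) (Tr.lf (Fc.al (nat_lit 625) (nat_lit 154) (nat_lit 192) (Dv.wd (nat_lit 104) [Mv.b (nat_lit 533), Mv.b (nat_lit 623), Mv.f (nat_lit 479)])))
(Tr.nd (nat_lit 627) (Tr.lf (Fc.al (nat_lit 626) (nat_lit 108) (nat_lit 201) (Dv.wd (nat_lit 106) [Mv.b (nat_lit 557), Mv.b (nat_lit 624), Mv.f (nat_lit 474)])))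
(Tr.lf (Fc.al (nat_lit 627) (nat_lit 171) (nat_lit 193) (Dv.wd (nat_lit 105) [Mv.b (nat_lit 535), Mv.b (nat_lit 625), Mv.b (nat_lit 486)]))))))))
(Tr.nd (nat_lit 638) (Tr.nd (nat_lit 633) (Tr.nd (nat_lit 630) (Tr.nd (nat_lit 629) (Tr.lf (Fc.al (nat_lit 628) (nat_lit 20) (nat_lit 205) (Dv.wd (nat_lit 107) [Mv.b (nat_lit 567), Mv.b (nat_lit 626), Mv.b (nat_lit 327)])))
(Tr.lf (Fc.al (nat_lit 629) (nat_lit 181) (nat_lit 194) (Dv.wd (nat_lit 128) [Mv.b (nat_lit 538), Mv.b (nat_lit 627), Mv.b (nat_lit 506)]))))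
(Tr.nd (nat_lit 631) (Tr.lf (Fc.al (nat_lit 630) (nat_lit 47) (nat_lit 208) (Dv.wd (nat_lit 102) [Mv.b (nat_lit 574), Mv.b (nat_lit 628), Mv.f (nat_lit 155)])))
(Tr.nd (nat_lit 632) (Tr.lf (Fc.al (nat_lit 631) (nat_lit 132) (nat_lit 216) (Dv.wd (nat_lit 106) [Mv.b (nat_lit 614), Mv.b (nat_lit 629), Mv.f (nat_lit 507)])))
(Tr.lf (Fc.al (nat_lit 632) (nat_lit 46) (nat_lit 210) (Dv.wd (nat_lit 104) [Mv.f (nat_lit 581), Mv.b (nat_lit 630), Mv.f (nat_lit 157)]))))))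
(Tr.nd (nat_lit 635) (Tr.nd (nat_lit 634) (Tr.lf (Fc.al (nat_lit 633) (nat_lit 118) (nat_lit 198) (Dv.wd (nat_lit 102) [Mv.b (nat_lit 615), Mv.b (nat_lit 631), Mv.b (nat_lit 377)])))
(Tr.lf (Fc.al (nat_lit 634) (nat_lit 52) (nat_lit 209) (Dv.wd (nat_lit 103) [Mv.f (nat_lit 580), Mv.b (nat_lit 632), Mv.f (nat_lit 169)]))))
(Tr.nd (nat_lit 636) (Tr.lf (Fc.al (nat_lit 635) (nat_lit 117) (nat_lit 199) (Dv.wd (nat_lit 103) [Mv.b (nat_lit 550), Mv.b (nat_lit 633), Mv.f (nat_lit 347)])))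
(Tr.nd (nat_lit 637) (Tr.lf (Fc.al (nat_lit 636) (nat_lit 65) (nat_lit 207) (Dv.wd (nat_lit 106) [Mv.f (nat_lit 579), Mv.b (nat_lit 634), Mv.b (nat_lit 197)])))
(Tr.lf (Fc.al (nat_lit 637) (nat_lit 103) (nat_lit 202) (Dv.wd (nat_lit 104) [Mv.b (nat_lit 561), Mv.b (nat_lit 635), Mv.f (nat_lit 345)])))))))
(Tr.nd (nat_lit 643) (Tr.nd (nat_lit 640) (Tr.nd (nat_lit 639) (Tr.lf (Fc.al (nat_lit 638) (nat_lit 144) (nat_lit 203) (Dv.wd (nat_lit 107) [Mv.f (nat_lit 592), Mv.b (nat_lit 636), Mv.f (nat_lit 403)])))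
(Tr.lf (Fc.al (nat_lit 639) (nat_lit 111) (nat_lit 144) (Dv.wd (nat_lit 105) [Mv.f (nat_lit 638), Mv.b (nat_lit 563), Mv.b (nat_lit 637), Mv.b (nat_lit 333)]))))
(Tr.nd (nat_lit 641) (Tr.lf (Fc.al (nat_lit 640) (nat_lit 149) (nat_lit 151) (Dv.wd (nat_lit 129) [Mv.f (nat_lit 426), Mv.b (nat_lit 639), Mv.b (nat_lit 419)])))
(Tr.nd (nat_lit 642) (Tr.lf (Fc.al (nat_lit 641) (nat_lit 105) (nat_lit 82) (Dv.wd (nat_lit 107) [Mv.f (nat_lit 425), Mv.b (nat_lit 640), Mv.f (nat_lit 420)])))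
(Tr.lf (Fc.al (nat_lit 642) (nat_lit 64) (nat_lit 94) (Dv.wd (nat_lit 106) [Mv.b (nat_lit 321), Mv.f (nat_lit 641), Mv.b (nat_lit 237)]))))))
(Tr.nd (nat_lit 646) (Tr.nd (nat_lit 644) (Tr.lf (Fc.al (nat_lit 643) (nat_lit 90) (nat_lit 60) (Dv.wd (nat_lit 103) [Mv.f (nat_lit 270), Mv.b (nat_lit 642), Mv.f (nat_lit 261)])))
(Tr.nd (nat_lit 645) (Tr.lf (Fc.al (nat_lit 644) (nat_lit 81) (nat_lit 51) (Dv.wd (nat_lit 104) [Mv.f (nat_lit 258), Mv.f (nat_lit 643), Mv.b (nat_lit 235)])))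
(Tr.lf (Fc.al (nat_lit 645) (nat_lit 43) (nat_lit 9) (Dv.wd (nat_lit 102) [Mv.f (nat_lit 232), Mv.f (nat_lit 644), Mv.b (nat_lit 167)])))))
(Tr.nd (nat_lit 647) (Tr.lf (Fc.al (nat_lit 646) (nat_lit 8) (nat_lit 38) (Dv.wd (nat_lit 103) [Mv.f (nat_lit 145), Mv.f (nat_lit 645), Mv.b (nat_lit 65)])))
(Tr.nd (nat_lit 648) (Tr.lf (Fc.al (nat_lit 647) (nat_lit 7) (nat_lit 23) (Dv.wd (nat_lit 106) [Mv.b (nat_lit 137), Mv.b (nat_lit 646), Mv.b (nat_lit 60)])))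
(Tr.lf (Fc.ed (nat_lit 648) (nat_lit 7) Col.l (nat_lit 22) (Dv.wd (nat_lit 129) [Mv.f (nat_lit 103), Mv.b (nat_lit 647)])))))))))))))
noncomputable def mini0A : Tr (Alt Col) := (Tr.nd (nat_lit 65) (Tr.nd (nat_lit 32) (Tr.nd (nat_lit 16) (Tr.nd (nat_lit 8) (Tr.nd (nat_lit 4) (Tr.nd (nat_lit 2) (Tr.nd (nat_lit 1) (Tr.lf (Alt.base (nat_lit 0) [] [Col.l]))
(Tr.lf (Alt.base (nat_lit 1) [] [Col.k])))
(Tr.nd (nat_lit 3) (Tr.lf (Alt.base (nat_lit 2) [] [Col.a]))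
(Tr.lf (Alt.base (nat_lit 3) [] [Col.b]))))
(Tr.nd (nat_lit 6) (Tr.nd (nat_lit 5) (Tr.lf (Alt.base (nat_lit 4) [] [Col.c]))
(Tr.lf (Alt.base (nat_lit 5) [] [Col.d])))
(Tr.nd (nat_lit 7) (Tr.lf (Alt.base (nat_lit 6) [] [Col.e]))
(Tr.lf (Alt.base (nat_lit 7) [] [Col.f])))))
(Tr.nd (nat_lit 12) (Tr.nd (nat_lit 10) (Tr.nd (nat_lit 9) (Tr.lf (Alt.word (nat_lit 9) (nat_lit 1) true [Col.l, Col.i, Col.l, Col.i]))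
(Tr.lf (Alt.word (nat_lit 18) (nat_lit 1) true [Col.k, Col.i, Col.k, Col.i])))
(Tr.nd (nat_lit 11) (Tr.lf (Alt.word (nat_lit 26) (nat_lit 1) true [Col.a, Col.i, Col.a, Col.i]))
(Tr.lf (Alt.word (nat_lit 33) (nat_lit 1) true [Col.b, Col.i, Col.b, Col.i]))))
(Tr.nd (nat_lit 14) (Tr.nd (nat_lit 13) (Tr.lf (Alt.word (nat_lit 39) (nat_lit 1) true [Col.c, Col.i, Col.c, Col.i]))
(Tr.lf (Alt.word (nat_lit 44) (nat_lit 1) true [Col.d, Col.i, Col.d, Col.i])))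
(Tr.nd (nat_lit 15) (Tr.lf (Alt.word (nat_lit 48) (nat_lit 1) true [Col.e, Col.i, Col.e, Col.i]))
(Tr.lf (Alt.word (nat_lit 51) (nat_lit 1) true [Col.f, Col.i, Col.f, Col.i]))))))
(Tr.nd (nat_lit 24) (Tr.nd (nat_lit 20) (Tr.nd (nat_lit 18) (Tr.nd (nat_lit 17) (Tr.lf (Alt.word (nat_lit 8) (nat_lit 1) true [Col.l, Col.h, Col.l, Col.h]))
(Tr.lf (Alt.word (nat_lit 17) (nat_lit 1) true [Col.k, Col.h, Col.k, Col.h])))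
(Tr.nd (nat_lit 19) (Tr.lf (Alt.word (nat_lit 25) (nat_lit 1) true [Col.a, Col.h, Col.a, Col.h]))
(Tr.lf (Alt.word (nat_lit 32) (nat_lit 1) true [Col.b, Col.h, Col.b, Col.h]))))
(Tr.nd (nat_lit 22) (Tr.nd (nat_lit 21) (Tr.lf (Alt.word (nat_lit 38) (nat_lit 1) true [Col.c, Col.h, Col.c, Col.h]))
(Tr.lf (Alt.word (nat_lit 47) (nat_lit 1) true [Col.e, Col.h, Col.e, Col.h])))
(Tr.nd (nat_lit 23) (Tr.lf (Alt.word (nat_lit 50) (nat_lit 1) true [Col.f, Col.h, Col.f, Col.h]))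
(Tr.lf (Alt.word (nat_lit 5) (nat_lit 1) true [Col.l, Col.d, Col.l, Col.d])))))
(Tr.nd (nat_lit 28) (Tr.nd (nat_lit 26) (Tr.nd (nat_lit 25) (Tr.lf (Alt.word (nat_lit 14) (nat_lit 1) true [Col.k, Col.d, Col.k, Col.d]))
(Tr.lf (Alt.word (nat_lit 22) (nat_lit 1) true [Col.a, Col.d, Col.a, Col.d])))
(Tr.nd (nat_lit 27) (Tr.lf (Alt.word (nat_lit 29) (nat_lit 1) true [Col.b, Col.d, Col.b, Col.d]))
(Tr.lf (Alt.word (nat_lit 42) (nat_lit 2) true [Col.f, Col.d, Col.f, Col.d]))))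
(Tr.nd (nat_lit 30) (Tr.nd (nat_lit 29) (Tr.lf (Alt.word (nat_lit 43) (nat_lit 2) true [Col.h, Col.d, Col.h, Col.d, Col.h, Col.d]))
(Tr.lf (Alt.word (nat_lit 4) (nat_lit 1) true [Col.l, Col.c, Col.l, Col.c])))
(Tr.nd (nat_lit 31) (Tr.lf (Alt.word (nat_lit 13) (nat_lit 1) true [Col.k, Col.c, Col.k, Col.c]))
(Tr.lf (Alt.word (nat_lit 21) (nat_lit 1) true [Col.a, Col.c, Col.a, Col.c])))))))
(Tr.nd (nat_lit 48) (Tr.nd (nat_lit 40) (Tr.nd (nat_lit 36) (Tr.nd (nat_lit 34) (Tr.nd (nat_lit 33) (Tr.lf (Alt.word (nat_lit 37) (nat_lit 2) true [Col.f, Col.c, Col.f, Col.c]))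
(Tr.lf (Alt.word (nat_lit 38) (nat_lit 2) true [Col.h, Col.c, Col.h, Col.c])))
(Tr.nd (nat_lit 35) (Tr.lf (Alt.word (nat_lit 35) (nat_lit 2) true [Col.d, Col.c, Col.d, Col.c, Col.d, Col.c]))
(Tr.lf (Alt.word (nat_lit 3) (nat_lit 1) true [Col.l, Col.b, Col.l, Col.b]))))
(Tr.nd (nat_lit 38) (Tr.nd (nat_lit 37) (Tr.lf (Alt.word (nat_lit 12) (nat_lit 1) true [Col.k, Col.b, Col.k, Col.b]))
(Tr.lf (Alt.word (nat_lit 29) (nat_lit 2) true [Col.d, Col.b, Col.d, Col.b])))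
(Tr.nd (nat_lit 39) (Tr.lf (Alt.word (nat_lit 31) (nat_lit 2) true [Col.f, Col.b, Col.f, Col.b]))
(Tr.lf (Alt.word (nat_lit 32) (nat_lit 2) true [Col.h, Col.b, Col.h, Col.b])))))
(Tr.nd (nat_lit 44) (Tr.nd (nat_lit 42) (Tr.nd (nat_lit 41) (Tr.lf (Alt.word (nat_lit 28) (nat_lit 2) true [Col.c, Col.b, Col.c, Col.b, Col.c, Col.b]))
(Tr.lf (Alt.word (nat_lit 2) (nat_lit 1) true [Col.l, Col.a, Col.l, Col.a])))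
(Tr.nd (nat_lit 43) (Tr.lf (Alt.word (nat_lit 21) (nat_lit 2) true [Col.c, Col.a, Col.c, Col.a]))
(Tr.lf (Alt.word (nat_lit 22) (nat_lit 2) true [Col.d, Col.a, Col.d, Col.a]))))
(Tr.nd (nat_lit 46) (Tr.nd (nat_lit 45) (Tr.lf (Alt.word (nat_lit 24) (nat_lit 2) true [Col.f, Col.a, Col.f, Col.a]))
(Tr.lf (Alt.word (nat_lit 25) (nat_lit 2) true [Col.h, Col.a, Col.h, Col.a])))
(Tr.nd (nat_lit 47) (Tr.lf (Alt.word (nat_lit 20) (nat_lit 2) true [Col.b, Col.a, Col.b, Col.a, Col.b, Col.a]))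
(Tr.lf (Alt.word (nat_lit 12) (nat_lit 2) true [Col.b, Col.k, Col.b, Col.k]))))))
(Tr.nd (nat_lit 56) (Tr.nd (nat_lit 52) (Tr.nd (nat_lit 50) (Tr.nd (nat_lit 49) (Tr.lf (Alt.word (nat_lit 13) (nat_lit 2) true [Col.c, Col.k, Col.c, Col.k]))
(Tr.lf (Alt.word (nat_lit 14) (nat_lit 2) true [Col.d, Col.k, Col.d, Col.k])))
(Tr.nd (nat_lit 51) (Tr.lf (Alt.word (nat_lit 16) (nat_lit 2) true [Col.f, Col.k, Col.f, Col.k]))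
(Tr.lf (Alt.word (nat_lit 17) (nat_lit 2) true [Col.h, Col.k, Col.h, Col.k]))))
(Tr.nd (nat_lit 54) (Tr.nd (nat_lit 53) (Tr.lf (Alt.word (nat_lit 11) (nat_lit 2) true [Col.a, Col.k, Col.a, Col.k, Col.a, Col.k]))
(Tr.lf (Alt.word (nat_lit 23) (nat_lit 1) true [Col.a, Col.e, Col.a, Col.e])))
(Tr.nd (nat_lit 55) (Tr.lf (Alt.word (nat_lit 30) (nat_lit 1) true [Col.b, Col.e, Col.b, Col.e]))
(Tr.lf (Alt.word (nat_lit 36) (nat_lit 1) true [Col.c, Col.e, Col.c, Col.e])))))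
(Tr.nd (nat_lit 60) (Tr.nd (nat_lit 58) (Tr.nd (nat_lit 57) (Tr.lf (Alt.word (nat_lit 47) (nat_lit 2) true [Col.h, Col.e, Col.h, Col.e]))
(Tr.lf (Alt.word (nat_lit 41) (nat_lit 2) true [Col.e, Col.d, Col.e, Col.d, Col.e, Col.d])))
(Tr.nd (nat_lit 59) (Tr.lf (Alt.word (nat_lit 36) (nat_lit 2) true [Col.e, Col.c, Col.e, Col.c]))
(Tr.lf (Alt.word (nat_lit 30) (nat_lit 2) true [Col.e, Col.b, Col.e, Col.b]))))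
(Tr.nd (nat_lit 62) (Tr.nd (nat_lit 61) (Tr.lf (Alt.word (nat_lit 23) (nat_lit 2) true [Col.e, Col.a, Col.e, Col.a]))
(Tr.lf (Alt.word (nat_lit 15) (nat_lit 2) true [Col.e, Col.k, Col.e, Col.k])))
(Tr.nd (nat_lit 63) (Tr.lf (Alt.word (nat_lit 6) (nat_lit 3) true [Col.l, Col.e, Col.l, Col.e]))
(Tr.nd (nat_lit 64) (Tr.lf (Alt.word (nat_lit 30) (nat_lit 3) true [Col.b, Col.e, Col.b, Col.e]))
(Tr.lf (Alt.word (nat_lit 41) (nat_lit 5) true [Col.d, Col.e, Col.d, Col.e, Col.d, Col.e])))))))))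
(Tr.nd (nat_lit 97) (Tr.nd (nat_lit 81) (Tr.nd (nat_lit 73) (Tr.nd (nat_lit 69) (Tr.nd (nat_lit 67) (Tr.nd (nat_lit 66) (Tr.lf (Alt.word (nat_lit 35) (nat_lit 3) true [Col.c, Col.d, Col.c, Col.d, Col.c, Col.d]))
(Tr.lf (Alt.word (nat_lit 38) (nat_lit 3) true [Col.c, Col.h, Col.c, Col.h])))
(Tr.nd (nat_lit 68) (Tr.lf (Alt.word (nat_lit 28) (nat_lit 3) true [Col.b, Col.c, Col.b, Col.c, Col.b, Col.c]))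
(Tr.lf (Alt.word (nat_lit 41) (nat_lit 1) true [Col.d, Col.e, Col.d, Col.e, Col.d, Col.e]))))
(Tr.nd (nat_lit 71) (Tr.nd (nat_lit 70) (Tr.lf (Alt.word (nat_lit 6) (nat_lit 1) true [Col.l, Col.e, Col.l, Col.e]))
(Tr.lf (Alt.word (nat_lit 5) (nat_lit 3) true [Col.l, Col.d, Col.l, Col.d])))
(Tr.nd (nat_lit 72) (Tr.lf (Alt.word (nat_lit 6) (nat_lit 2) true [Col.e, Col.l, Col.e, Col.l]))
(Tr.lf (Alt.word (nat_lit 15) (nat_lit 1) true [Col.k, Col.e, Col.k, Col.e])))))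
(Tr.nd (nat_lit 77) (Tr.nd (nat_lit 75) (Tr.nd (nat_lit 74) (Tr.lf (Alt.word (nat_lit 2) (nat_lit 2) true [Col.a, Col.l, Col.a, Col.l]))
(Tr.lf (Alt.word (nat_lit 8) (nat_lit 2) true [Col.h, Col.l, Col.h, Col.l])))
(Tr.nd (nat_lit 76) (Tr.lf (Alt.word (nat_lit 1) (nat_lit 2) true [Col.k, Col.l, Col.k, Col.l, Col.k, Col.l]))
(Tr.lf (Alt.word (nat_lit 17) (nat_lit 3) true [Col.k, Col.h, Col.k, Col.h]))))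
(Tr.nd (nat_lit 79) (Tr.nd (nat_lit 78) (Tr.lf (Alt.word (nat_lit 14) (nat_lit 3) true [Col.k, Col.d, Col.k, Col.d]))
(Tr.lf (Alt.word (nat_lit 4) (nat_lit 2) true [Col.c, Col.l, Col.c, Col.l])))
(Tr.nd (nat_lit 80) (Tr.lf (Alt.word (nat_lit 50) (nat_lit 2) true [Col.h, Col.f, Col.h, Col.f]))
(Tr.lf (Alt.word (nat_lit 31) (nat_lit 1) true [Col.b, Col.f, Col.b, Col.f]))))))
(Tr.nd (nat_lit 89) (Tr.nd (nat_lit 85) (Tr.nd (nat_lit 83) (Tr.nd (nat_lit 82) (Tr.lf (Alt.word (nat_lit 37) (nat_lit 1) true [Col.c, Col.f, Col.c, Col.f]))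
(Tr.lf (Alt.word (nat_lit 7) (nat_lit 1) true [Col.l, Col.f, Col.l, Col.f])))
(Tr.nd (nat_lit 84) (Tr.lf (Alt.word (nat_lit 43) (nat_lit 1) true [Col.d, Col.h, Col.d, Col.h, Col.d, Col.h]))
(Tr.lf (Alt.word (nat_lit 3) (nat_lit 2) true [Col.b, Col.l, Col.b, Col.l]))))
(Tr.nd (nat_lit 87) (Tr.nd (nat_lit 86) (Tr.lf (Alt.word (nat_lit 15) (nat_lit 3) true [Col.k, Col.e, Col.k, Col.e]))
(Tr.lf (Alt.word (nat_lit 5) (nat_lit 0) true [Col.d, Col.l, Col.d, Col.l])))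
(Tr.nd (nat_lit 88) (Tr.lf (Alt.word (nat_lit 24) (nat_lit 1) true [Col.a, Col.f, Col.a, Col.f]))
(Tr.lf (Alt.word (nat_lit 42) (nat_lit 1) true [Col.d, Col.f, Col.d, Col.f])))))
(Tr.nd (nat_lit 93) (Tr.nd (nat_lit 91) (Tr.nd (nat_lit 90) (Tr.lf (Alt.word (nat_lit 35) (nat_lit 1) true [Col.c, Col.d, Col.c, Col.d, Col.c, Col.d]))
(Tr.lf (Alt.word (nat_lit 20) (nat_lit 3) true [Col.a, Col.b, Col.a, Col.b, Col.a, Col.b])))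
(Tr.nd (nat_lit 92) (Tr.lf (Alt.word (nat_lit 23) (nat_lit 3) true [Col.a, Col.e, Col.a, Col.e]))
(Tr.lf (Alt.word (nat_lit 24) (nat_lit 3) true [Col.a, Col.f, Col.a, Col.f]))))
(Tr.nd (nat_lit 95) (Tr.nd (nat_lit 94) (Tr.lf (Alt.word (nat_lit 20) (nat_lit 4) true [Col.b, Col.a, Col.b, Col.a, Col.b, Col.a]))
(Tr.lf (Alt.word (nat_lit 29) (nat_lit 3) true [Col.b, Col.d, Col.b, Col.d])))
(Tr.nd (nat_lit 96) (Tr.lf (Alt.word (nat_lit 31) (nat_lit 3) true [Col.b, Col.f, Col.b, Col.f]))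
(Tr.lf (Alt.word (nat_lit 32) (nat_lit 3) true [Col.b, Col.h, Col.b, Col.h])))))))
(Tr.nd (nat_lit 113) (Tr.nd (nat_lit 105) (Tr.nd (nat_lit 101) (Tr.nd (nat_lit 99) (Tr.nd (nat_lit 98) (Tr.lf (Alt.word (nat_lit 21) (nat_lit 3) true [Col.a, Col.c, Col.a, Col.c]))
(Tr.lf (Alt.word (nat_lit 25) (nat_lit 3) true [Col.a, Col.h, Col.a, Col.h])))
(Tr.nd (nat_lit 100) (Tr.lf (Alt.word (nat_lit 5) (nat_lit 2) true [Col.d, Col.l, Col.d, Col.l]))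
(Tr.lf (Alt.word (nat_lit 7) (nat_lit 2) true [Col.f, Col.l, Col.f, Col.l]))))
(Tr.nd (nat_lit 103) (Tr.nd (nat_lit 102) (Tr.lf (Alt.word (nat_lit 11) (nat_lit 4) true [Col.a, Col.k, Col.a, Col.k, Col.a, Col.k]))
(Tr.lf (Alt.word (nat_lit 52) (nat_lit 0) true [Col.h, Col.h])))
(Tr.nd (nat_lit 104) (Tr.lf (Alt.word (nat_lit 40) (nat_lit 0) true [Col.d, Col.d]))
(Tr.lf (Alt.word (nat_lit 34) (nat_lit 0) true [Col.c, Col.c])))))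
(Tr.nd (nat_lit 109) (Tr.nd (nat_lit 107) (Tr.nd (nat_lit 106) (Tr.lf (Alt.word (nat_lit 27) (nat_lit 0) true [Col.b, Col.b]))
(Tr.lf (Alt.word (nat_lit 45) (nat_lit 0) true [Col.e, Col.e])))
(Tr.nd (nat_lit 108) (Tr.lf (Alt.word (nat_lit 49) (nat_lit 0) true [Col.f, Col.f]))
(Tr.lf (Alt.word (nat_lit 10) (nat_lit 0) true [Col.k, Col.k]))))
(Tr.nd (nat_lit 111) (Tr.nd (nat_lit 110) (Tr.lf (Alt.word (nat_lit 46) (nat_lit 1) true [Col.e, Col.f, Col.e, Col.f, Col.e, Col.f]))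
(Tr.lf (Alt.word (nat_lit 42) (nat_lit 3) true [Col.d, Col.f, Col.d, Col.f])))
(Tr.nd (nat_lit 112) (Tr.lf (Alt.word (nat_lit 20) (nat_lit 1) true [Col.a, Col.b, Col.a, Col.b, Col.a, Col.b]))
(Tr.lf (Alt.word (nat_lit 51) (nat_lit 2) true [Col.i, Col.f, Col.i, Col.f]))))))
(Tr.nd (nat_lit 121) (Tr.nd (nat_lit 117) (Tr.nd (nat_lit 115) (Tr.nd (nat_lit 114) (Tr.lf (Alt.word (nat_lit 26) (nat_lit 2) true [Col.i, Col.a, Col.i, Col.a]))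
(Tr.lf (Alt.word (nat_lit 33) (nat_lit 3) true [Col.b, Col.i, Col.b, Col.i])))
(Tr.nd (nat_lit 116) (Tr.lf (Alt.word (nat_lit 46) (nat_lit 2) true [Col.f, Col.e, Col.f, Col.e, Col.f, Col.e]))
(Tr.lf (Alt.word (nat_lit 28) (nat_lit 1) true [Col.b, Col.c, Col.b, Col.c, Col.b, Col.c]))))
(Tr.nd (nat_lit 119) (Tr.nd (nat_lit 118) (Tr.lf (Alt.word (nat_lit 16) (nat_lit 1) true [Col.k, Col.f, Col.k, Col.f]))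
(Tr.lf (Alt.word (nat_lit 55) (nat_lit 19) false [Col.c, Col.b, Col.a, Col.h, Col.f, Col.e, Col.d, Col.c, Col.b, Col.a, Col.h, Col.f, Col.e, Col.d, Col.c, Col.b, Col.a, Col.h, Col.f, Col.e, Col.d, Col.c, Col.b, Col.a, Col.h, Col.f, Col.e, Col.d, Col.c, Col.b, Col.a, Col.h, Col.f, Col.e, Col.d, Col.c, Col.b, Col.a, Col.h, Col.f, Col.e, Col.d, Col.c, Col.b, Col.a, Col.l, Col.h, Col.f, Col.e, Col.d, Col.c, Col.b, Col.a, Col.h, Col.f, Col.e, Col.d, Col.c, Col.b, Col.a, Col.h, Col.f, Col.e, Col.d])))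
(Tr.nd (nat_lit 120) (Tr.lf (Alt.word (nat_lit 13) (nat_lit 3) true [Col.k, Col.c, Col.k, Col.c]))
(Tr.lf (Alt.word (nat_lit 36) (nat_lit 0) true [Col.e, Col.c, Col.e, Col.c])))))
(Tr.nd (nat_lit 125) (Tr.nd (nat_lit 123) (Tr.nd (nat_lit 122) (Tr.lf (Alt.word (nat_lit 41) (nat_lit 3) true [Col.d, Col.e, Col.d, Col.e, Col.d, Col.e]))
(Tr.lf (Alt.word (nat_lit 22) (nat_lit 3) true [Col.a, Col.d, Col.a, Col.d])))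
(Tr.nd (nat_lit 124) (Tr.lf (Alt.word (nat_lit 24) (nat_lit 0) true [Col.f, Col.a, Col.f, Col.a]))
(Tr.lf (Alt.word (nat_lit 16) (nat_lit 3) true [Col.k, Col.f, Col.k, Col.f]))))
(Tr.nd (nat_lit 127) (Tr.nd (nat_lit 126) (Tr.lf (Alt.word (nat_lit 12) (nat_lit 3) true [Col.k, Col.b, Col.k, Col.b]))
(Tr.lf (Alt.word (nat_lit 20) (nat_lit 0) true [Col.b, Col.a, Col.b, Col.a, Col.b, Col.a])))
(Tr.nd (nat_lit 128) (Tr.lf (Alt.word (nat_lit 28) (nat_lit 4) true [Col.c, Col.b, Col.c, Col.b, Col.c, Col.b]))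
(Tr.nd (nat_lit 129) (Tr.lf (Alt.word (nat_lit 19) (nat_lit 0) true [Col.a, Col.a]))
(Tr.lf (Alt.word (nat_lit 0) (nat_lit 0) true [Col.l, Col.l]))))))))))
noncomputable def mini0P : Tr ℕ := (Tr.nd (nat_lit 109) (Tr.nd (nat_lit 54) (Tr.nd (nat_lit 27) (Tr.nd (nat_lit 13) (Tr.nd (nat_lit 6) (Tr.nd (nat_lit 3) (Tr.nd (nat_lit 1) (Tr.lf (nat_lit 0))
(Tr.nd (nat_lit 2) (Tr.lf (nat_lit 0))
(Tr.lf (nat_lit 1))))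
(Tr.nd (nat_lit 4) (Tr.lf (nat_lit 2))
(Tr.nd (nat_lit 5) (Tr.lf (nat_lit 3))
(Tr.lf (nat_lit 4)))))
(Tr.nd (nat_lit 9) (Tr.nd (nat_lit 7) (Tr.lf (nat_lit 5))
(Tr.nd (nat_lit 8) (Tr.lf (nat_lit 6))
(Tr.lf (nat_lit 7))))
(Tr.nd (nat_lit 11) (Tr.nd (nat_lit 10) (Tr.lf (nat_lit 8))
(Tr.lf (nat_lit 9)))
(Tr.nd (nat_lit 12) (Tr.lf (nat_lit 10))
(Tr.lf (nat_lit 11))))))
(Tr.nd (nat_lit 20) (Tr.nd (nat_lit 16) (Tr.nd (nat_lit 14) (Tr.lf (nat_lit 12))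
(Tr.nd (nat_lit 15) (Tr.lf (nat_lit 13))
(Tr.lf (nat_lit 14))))
(Tr.nd (nat_lit 18) (Tr.nd (nat_lit 17) (Tr.lf (nat_lit 15))
(Tr.lf (nat_lit 16)))
(Tr.nd (nat_lit 19) (Tr.lf (nat_lit 17))
(Tr.lf (nat_lit 18)))))
(Tr.nd (nat_lit 23) (Tr.nd (nat_lit 21) (Tr.lf (nat_lit 19))
(Tr.nd (nat_lit 22) (Tr.lf (nat_lit 20))
(Tr.lf (nat_lit 21))))
(Tr.nd (nat_lit 25) (Tr.nd (nat_lit 24) (Tr.lf (nat_lit 22))
(Tr.lf (nat_lit 23)))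
(Tr.nd (nat_lit 26) (Tr.lf (nat_lit 24))
(Tr.lf (nat_lit 25)))))))
(Tr.nd (nat_lit 40) (Tr.nd (nat_lit 33) (Tr.nd (nat_lit 30) (Tr.nd (nat_lit 28) (Tr.lf (nat_lit 8))
(Tr.nd (nat_lit 29) (Tr.lf (nat_lit 5))
(Tr.lf (nat_lit 14))))
(Tr.nd (nat_lit 31) (Tr.lf (nat_lit 16))
(Tr.nd (nat_lit 32) (Tr.lf (nat_lit 4))
(Tr.lf (nat_lit 3)))))
(Tr.nd (nat_lit 36) (Tr.nd (nat_lit 34) (Tr.lf (nat_lit 29))
(Tr.nd (nat_lit 35) (Tr.lf (nat_lit 29))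
(Tr.lf (nat_lit 9))))
(Tr.nd (nat_lit 38) (Tr.nd (nat_lit 37) (Tr.lf (nat_lit 29))
(Tr.lf (nat_lit 12)))
(Tr.nd (nat_lit 39) (Tr.lf (nat_lit 21))
(Tr.lf (nat_lit 37))))))
(Tr.nd (nat_lit 47) (Tr.nd (nat_lit 43) (Tr.nd (nat_lit 41) (Tr.lf (nat_lit 24))
(Tr.nd (nat_lit 42) (Tr.lf (nat_lit 11))
(Tr.lf (nat_lit 16))))
(Tr.nd (nat_lit 45) (Tr.nd (nat_lit 44) (Tr.lf (nat_lit 38))
(Tr.lf (nat_lit 35)))
(Tr.nd (nat_lit 46) (Tr.lf (nat_lit 41))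
(Tr.lf (nat_lit 17)))))
(Tr.nd (nat_lit 50) (Tr.nd (nat_lit 48) (Tr.lf (nat_lit 20))
(Tr.nd (nat_lit 49) (Tr.lf (nat_lit 40))
(Tr.lf (nat_lit 44))))
(Tr.nd (nat_lit 52) (Tr.nd (nat_lit 51) (Tr.lf (nat_lit 14))
(Tr.lf (nat_lit 43)))
(Tr.nd (nat_lit 53) (Tr.lf (nat_lit 46))
(Tr.lf (nat_lit 29))))))))
(Tr.nd (nat_lit 81) (Tr.nd (nat_lit 67) (Tr.nd (nat_lit 60) (Tr.nd (nat_lit 57) (Tr.nd (nat_lit 55) (Tr.lf (nat_lit 18))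
(Tr.nd (nat_lit 56) (Tr.lf (nat_lit 35))
(Tr.lf (nat_lit 53))))
(Tr.nd (nat_lit 58) (Tr.lf (nat_lit 16))
(Tr.nd (nat_lit 59) (Tr.lf (nat_lit 56))
(Tr.lf (nat_lit 16)))))
(Tr.nd (nat_lit 63) (Tr.nd (nat_lit 61) (Tr.lf (nat_lit 41))
(Tr.nd (nat_lit 62) (Tr.lf (nat_lit 17))
(Tr.lf (nat_lit 19))))
(Tr.nd (nat_lit 65) (Tr.nd (nat_lit 64) (Tr.lf (nat_lit 62))
(Tr.lf (nat_lit 52)))
(Tr.nd (nat_lit 66) (Tr.lf (nat_lit 15))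
(Tr.lf (nat_lit 14))))))
(Tr.nd (nat_lit 74) (Tr.nd (nat_lit 70) (Tr.nd (nat_lit 68) (Tr.lf (nat_lit 17))
(Tr.nd (nat_lit 69) (Tr.lf (nat_lit 15))
(Tr.lf (nat_lit 57))))
(Tr.nd (nat_lit 72) (Tr.nd (nat_lit 71) (Tr.lf (nat_lit 52))
(Tr.lf (nat_lit 30)))
(Tr.nd (nat_lit 73) (Tr.lf (nat_lit 43))
(Tr.lf (nat_lit 68)))))
(Tr.nd (nat_lit 77) (Tr.nd (nat_lit 75) (Tr.lf (nat_lit 71))
(Tr.nd (nat_lit 76) (Tr.lf (nat_lit 30))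
(Tr.lf (nat_lit 40))))
(Tr.nd (nat_lit 79) (Tr.nd (nat_lit 78) (Tr.lf (nat_lit 75))
(Tr.lf (nat_lit 33)))
(Tr.nd (nat_lit 80) (Tr.lf (nat_lit 26))
(Tr.lf (nat_lit 19)))))))
(Tr.nd (nat_lit 95) (Tr.nd (nat_lit 88) (Tr.nd (nat_lit 84) (Tr.nd (nat_lit 82) (Tr.lf (nat_lit 9))
(Tr.nd (nat_lit 83) (Tr.lf (nat_lit 64))
(Tr.lf (nat_lit 10))))
(Tr.nd (nat_lit 86) (Tr.nd (nat_lit 85) (Tr.lf (nat_lit 13))
(Tr.lf (nat_lit 71)))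
(Tr.nd (nat_lit 87) (Tr.lf (nat_lit 59))
(Tr.lf (nat_lit 42)))))
(Tr.nd (nat_lit 91) (Tr.nd (nat_lit 89) (Tr.lf (nat_lit 59))
(Tr.nd (nat_lit 90) (Tr.lf (nat_lit 17))
(Tr.lf (nat_lit 51))))
(Tr.nd (nat_lit 93) (Tr.nd (nat_lit 92) (Tr.lf (nat_lit 89))
(Tr.lf (nat_lit 18)))
(Tr.nd (nat_lit 94) (Tr.lf (nat_lit 83))
(Tr.lf (nat_lit 60))))))
(Tr.nd (nat_lit 102) (Tr.nd (nat_lit 98) (Tr.nd (nat_lit 96) (Tr.lf (nat_lit 48))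
(Tr.nd (nat_lit 97) (Tr.lf (nat_lit 61))
(Tr.lf (nat_lit 84))))
(Tr.nd (nat_lit 100) (Tr.nd (nat_lit 99) (Tr.lf (nat_lit 80))
(Tr.lf (nat_lit 55)))
(Tr.nd (nat_lit 101) (Tr.lf (nat_lit 96))
(Tr.lf (nat_lit 17)))))
(Tr.nd (nat_lit 105) (Tr.nd (nat_lit 103) (Tr.lf (nat_lit 36))
(Tr.nd (nat_lit 104) (Tr.lf (nat_lit 77))
(Tr.lf (nat_lit 31))))
(Tr.nd (nat_lit 107) (Tr.nd (nat_lit 106) (Tr.lf (nat_lit 71))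
(Tr.lf (nat_lit 101)))
(Tr.nd (nat_lit 108) (Tr.lf (nat_lit 72))
(Tr.lf (nat_lit 20)))))))))
(Tr.nd (nat_lit 163) (Tr.nd (nat_lit 136) (Tr.nd (nat_lit 122) (Tr.nd (nat_lit 115) (Tr.nd (nat_lit 112) (Tr.nd (nat_lit 110) (Tr.lf (nat_lit 74))
(Tr.nd (nat_lit 111) (Tr.lf (nat_lit 72))
(Tr.lf (nat_lit 109))))
(Tr.nd (nat_lit 113) (Tr.lf (nat_lit 8))
(Tr.nd (nat_lit 114) (Tr.lf (nat_lit 81))
(Tr.lf (nat_lit 76)))))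
(Tr.nd (nat_lit 118) (Tr.nd (nat_lit 116) (Tr.lf (nat_lit 107))
(Tr.nd (nat_lit 117) (Tr.lf (nat_lit 112))
(Tr.lf (nat_lit 88))))
(Tr.nd (nat_lit 120) (Tr.nd (nat_lit 119) (Tr.lf (nat_lit 91))
(Tr.lf (nat_lit 108)))
(Tr.nd (nat_lit 121) (Tr.lf (nat_lit 119))
(Tr.lf (nat_lit 45))))))
(Tr.nd (nat_lit 129) (Tr.nd (nat_lit 125) (Tr.nd (nat_lit 123) (Tr.lf (nat_lit 13))
(Tr.nd (nat_lit 124) (Tr.lf (nat_lit 90))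
(Tr.lf (nat_lit 116))))
(Tr.nd (nat_lit 127) (Tr.nd (nat_lit 126) (Tr.lf (nat_lit 101))
(Tr.lf (nat_lit 106)))
(Tr.nd (nat_lit 128) (Tr.lf (nat_lit 122))
(Tr.lf (nat_lit 102)))))
(Tr.nd (nat_lit 132) (Tr.nd (nat_lit 130) (Tr.lf (nat_lit 95))
(Tr.nd (nat_lit 131) (Tr.lf (nat_lit 125))
(Tr.lf (nat_lit 14))))
(Tr.nd (nat_lit 134) (Tr.nd (nat_lit 133) (Tr.lf (nat_lit 118))
(Tr.lf (nat_lit 120)))
(Tr.nd (nat_lit 135) (Tr.lf (nat_lit 11))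
(Tr.lf (nat_lit 12)))))))
(Tr.nd (nat_lit 149) (Tr.nd (nat_lit 142) (Tr.nd (nat_lit 139) (Tr.nd (nat_lit 137) (Tr.lf (nat_lit 128))
(Tr.nd (nat_lit 138) (Tr.lf (nat_lit 15))
(Tr.lf (nat_lit 136))))
(Tr.nd (nat_lit 140) (Tr.lf (nat_lit 113))
(Tr.nd (nat_lit 141) (Tr.lf (nat_lit 38))
(Tr.lf (nat_lit 140)))))
(Tr.nd (nat_lit 145) (Tr.nd (nat_lit 143) (Tr.lf (nat_lit 136))
(Tr.nd (nat_lit 144) (Tr.lf (nat_lit 83))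
(Tr.lf (nat_lit 65))))
(Tr.nd (nat_lit 147) (Tr.nd (nat_lit 146) (Tr.lf (nat_lit 121))
(Tr.lf (nat_lit 48)))
(Tr.nd (nat_lit 148) (Tr.lf (nat_lit 39))
(Tr.lf (nat_lit 79))))))
(Tr.nd (nat_lit 156) (Tr.nd (nat_lit 152) (Tr.nd (nat_lit 150) (Tr.lf (nat_lit 77))
(Tr.nd (nat_lit 151) (Tr.lf (nat_lit 129))
(Tr.lf (nat_lit 82))))
(Tr.nd (nat_lit 154) (Tr.nd (nat_lit 153) (Tr.lf (nat_lit 107))
(Tr.lf (nat_lit 115)))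
(Tr.nd (nat_lit 155) (Tr.lf (nat_lit 110))
(Tr.lf (nat_lit 91)))))
(Tr.nd (nat_lit 159) (Tr.nd (nat_lit 157) (Tr.lf (nat_lit 122))
(Tr.nd (nat_lit 158) (Tr.lf (nat_lit 80))
(Tr.lf (nat_lit 153))))
(Tr.nd (nat_lit 161) (Tr.nd (nat_lit 160) (Tr.lf (nat_lit 158))
(Tr.lf (nat_lit 155)))
(Tr.nd (nat_lit 162) (Tr.lf (nat_lit 155))
(Tr.lf (nat_lit 96))))))))
(Tr.nd (nat_lit 190) (Tr.nd (nat_lit 176) (Tr.nd (nat_lit 169) (Tr.nd (nat_lit 166) (Tr.nd (nat_lit 164) (Tr.lf (nat_lit 123))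
(Tr.nd (nat_lit 165) (Tr.lf (nat_lit 160))
(Tr.lf (nat_lit 156))))
(Tr.nd (nat_lit 167) (Tr.lf (nat_lit 142))
(Tr.nd (nat_lit 168) (Tr.lf (nat_lit 160))
(Tr.lf (nat_lit 157)))))
(Tr.nd (nat_lit 172) (Tr.nd (nat_lit 170) (Tr.lf (nat_lit 168))
(Tr.nd (nat_lit 171) (Tr.lf (nat_lit 133))
(Tr.lf (nat_lit 164))))
(Tr.nd (nat_lit 174) (Tr.nd (nat_lit 173) (Tr.lf (nat_lit 120))
(Tr.lf (nat_lit 167)))
(Tr.nd (nat_lit 175) (Tr.lf (nat_lit 165))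
(Tr.lf (nat_lit 135))))))
(Tr.nd (nat_lit 183) (Tr.nd (nat_lit 179) (Tr.nd (nat_lit 177) (Tr.lf (nat_lit 146))
(Tr.nd (nat_lit 178) (Tr.lf (nat_lit 172))
(Tr.lf (nat_lit 166))))
(Tr.nd (nat_lit 181) (Tr.nd (nat_lit 180) (Tr.lf (nat_lit 124))
(Tr.lf (nat_lit 148)))
(Tr.nd (nat_lit 182) (Tr.lf (nat_lit 161))
(Tr.lf (nat_lit 170)))))
(Tr.nd (nat_lit 186) (Tr.nd (nat_lit 184) (Tr.lf (nat_lit 145))
(Tr.nd (nat_lit 185) (Tr.lf (nat_lit 116))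
(Tr.lf (nat_lit 143))))
(Tr.nd (nat_lit 188) (Tr.nd (nat_lit 187) (Tr.lf (nat_lit 141))
(Tr.lf (nat_lit 139)))
(Tr.nd (nat_lit 189) (Tr.lf (nat_lit 184))
(Tr.lf (nat_lit 169)))))))
(Tr.nd (nat_lit 204) (Tr.nd (nat_lit 197) (Tr.nd (nat_lit 193) (Tr.nd (nat_lit 191) (Tr.lf (nat_lit 185))
(Tr.nd (nat_lit 192) (Tr.lf (nat_lit 186))
(Tr.lf (nat_lit 189))))
(Tr.nd (nat_lit 195) (Tr.nd (nat_lit 194) (Tr.lf (nat_lit 192))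
(Tr.lf (nat_lit 193)))
(Tr.nd (nat_lit 196) (Tr.lf (nat_lit 194))
(Tr.lf (nat_lit 172)))))
(Tr.nd (nat_lit 200) (Tr.nd (nat_lit 198) (Tr.lf (nat_lit 180))
(Tr.nd (nat_lit 199) (Tr.lf (nat_lit 195))
(Tr.lf (nat_lit 198))))
(Tr.nd (nat_lit 202) (Tr.nd (nat_lit 201) (Tr.lf (nat_lit 168))
(Tr.lf (nat_lit 200)))
(Tr.nd (nat_lit 203) (Tr.lf (nat_lit 199))
(Tr.lf (nat_lit 202))))))
(Tr.nd (nat_lit 211) (Tr.nd (nat_lit 207) (Tr.nd (nat_lit 205) (Tr.lf (nat_lit 203))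
(Tr.nd (nat_lit 206) (Tr.lf (nat_lit 201))
(Tr.lf (nat_lit 204))))
(Tr.nd (nat_lit 209) (Tr.nd (nat_lit 208) (Tr.lf (nat_lit 206))
(Tr.lf (nat_lit 205)))
(Tr.nd (nat_lit 210) (Tr.lf (nat_lit 207))
(Tr.lf (nat_lit 209)))))
(Tr.nd (nat_lit 214) (Tr.nd (nat_lit 212) (Tr.lf (nat_lit 182))
(Tr.nd (nat_lit 213) (Tr.lf (nat_lit 176))
(Tr.lf (nat_lit 212))))
(Tr.nd (nat_lit 216) (Tr.nd (nat_lit 215) (Tr.lf (nat_lit 196))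
(Tr.lf (nat_lit 193)))
(Tr.nd (nat_lit 217) (Tr.lf (nat_lit 194))
(Tr.lf (nat_lit 213))))))))))
noncomputable def mini0Q : Tr ℕ := (Tr.nd (nat_lit 109) (Tr.nd (nat_lit 54) (Tr.nd (nat_lit 27) (Tr.nd (nat_lit 13) (Tr.nd (nat_lit 6) (Tr.nd (nat_lit 3) (Tr.nd (nat_lit 1) (Tr.lf (nat_lit 0))
(Tr.nd (nat_lit 2) (Tr.lf (nat_lit 9))
(Tr.lf (nat_lit 8))))
(Tr.nd (nat_lit 4) (Tr.lf (nat_lit 5))
(Tr.nd (nat_lit 5) (Tr.lf (nat_lit 4))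
(Tr.lf (nat_lit 3)))))
(Tr.nd (nat_lit 9) (Tr.nd (nat_lit 7) (Tr.lf (nat_lit 2))
(Tr.nd (nat_lit 8) (Tr.lf (nat_lit 1))
(Tr.lf (nat_lit 6))))
(Tr.nd (nat_lit 11) (Tr.nd (nat_lit 10) (Tr.lf (nat_lit 5))
(Tr.lf (nat_lit 4)))
(Tr.nd (nat_lit 12) (Tr.lf (nat_lit 3))
(Tr.lf (nat_lit 2))))))
(Tr.nd (nat_lit 20) (Tr.nd (nat_lit 16) (Tr.nd (nat_lit 14) (Tr.lf (nat_lit 8))
(Tr.nd (nat_lit 15) (Tr.lf (nat_lit 5))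
(Tr.lf (nat_lit 4))))
(Tr.nd (nat_lit 18) (Tr.nd (nat_lit 17) (Tr.lf (nat_lit 6))
(Tr.lf (nat_lit 5)))
(Tr.nd (nat_lit 19) (Tr.lf (nat_lit 8))
(Tr.lf (nat_lit 3)))))
(Tr.nd (nat_lit 23) (Tr.nd (nat_lit 21) (Tr.lf (nat_lit 4))
(Tr.nd (nat_lit 22) (Tr.lf (nat_lit 5))
(Tr.lf (nat_lit 6))))
(Tr.nd (nat_lit 25) (Tr.nd (nat_lit 24) (Tr.lf (nat_lit 0))
(Tr.lf (nat_lit 1)))
(Tr.nd (nat_lit 26) (Tr.lf (nat_lit 2))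
(Tr.lf (nat_lit 3)))))))
(Tr.nd (nat_lit 40) (Tr.nd (nat_lit 33) (Tr.nd (nat_lit 30) (Tr.nd (nat_lit 28) (Tr.lf (nat_lit 1))
(Tr.nd (nat_lit 29) (Tr.lf (nat_lit 6))
(Tr.lf (nat_lit 0))))
(Tr.nd (nat_lit 31) (Tr.lf (nat_lit 4))
(Tr.nd (nat_lit 32) (Tr.lf (nat_lit 6))
(Tr.lf (nat_lit 6)))))
(Tr.nd (nat_lit 36) (Tr.nd (nat_lit 34) (Tr.lf (nat_lit 6))
(Tr.nd (nat_lit 35) (Tr.lf (nat_lit 4))
(Tr.lf (nat_lit 1))))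
(Tr.nd (nat_lit 38) (Tr.nd (nat_lit 37) (Tr.lf (nat_lit 5))
(Tr.lf (nat_lit 0)))
(Tr.nd (nat_lit 39) (Tr.lf (nat_lit 0))
(Tr.lf (nat_lit 2))))))
(Tr.nd (nat_lit 47) (Tr.nd (nat_lit 43) (Tr.nd (nat_lit 41) (Tr.lf (nat_lit 6))
(Tr.nd (nat_lit 42) (Tr.lf (nat_lit 8))
(Tr.lf (nat_lit 7))))
(Tr.nd (nat_lit 45) (Tr.nd (nat_lit 44) (Tr.lf (nat_lit 5))
(Tr.lf (nat_lit 4)))
(Tr.nd (nat_lit 46) (Tr.lf (nat_lit 0))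
(Tr.lf (nat_lit 3)))))
(Tr.nd (nat_lit 50) (Tr.nd (nat_lit 48) (Tr.lf (nat_lit 8))
(Tr.nd (nat_lit 49) (Tr.lf (nat_lit 2))
(Tr.lf (nat_lit 3))))
(Tr.nd (nat_lit 52) (Tr.nd (nat_lit 51) (Tr.lf (nat_lit 2))
(Tr.lf (nat_lit 8)))
(Tr.nd (nat_lit 53) (Tr.lf (nat_lit 5))
(Tr.lf (nat_lit 2))))))))
(Tr.nd (nat_lit 81) (Tr.nd (nat_lit 67) (Tr.nd (nat_lit 60) (Tr.nd (nat_lit 57) (Tr.nd (nat_lit 55) (Tr.lf (nat_lit 7))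
(Tr.nd (nat_lit 56) (Tr.lf (nat_lit 2))
(Tr.lf (nat_lit 4))))
(Tr.nd (nat_lit 58) (Tr.lf (nat_lit 1))
(Tr.nd (nat_lit 59) (Tr.lf (nat_lit 0))
(Tr.lf (nat_lit 0)))))
(Tr.nd (nat_lit 63) (Tr.nd (nat_lit 61) (Tr.lf (nat_lit 3))
(Tr.nd (nat_lit 62) (Tr.lf (nat_lit 7))
(Tr.lf (nat_lit 1))))
(Tr.nd (nat_lit 65) (Tr.nd (nat_lit 64) (Tr.lf (nat_lit 8))
(Tr.lf (nat_lit 0)))
(Tr.nd (nat_lit 66) (Tr.lf (nat_lit 3))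
(Tr.lf (nat_lit 1))))))
(Tr.nd (nat_lit 74) (Tr.nd (nat_lit 70) (Tr.nd (nat_lit 68) (Tr.lf (nat_lit 1))
(Tr.nd (nat_lit 69) (Tr.lf (nat_lit 1))
(Tr.lf (nat_lit 3))))
(Tr.nd (nat_lit 72) (Tr.nd (nat_lit 71) (Tr.lf (nat_lit 7))
(Tr.lf (nat_lit 2)))
(Tr.nd (nat_lit 73) (Tr.lf (nat_lit 4))
(Tr.lf (nat_lit 3)))))
(Tr.nd (nat_lit 77) (Tr.nd (nat_lit 75) (Tr.lf (nat_lit 0))
(Tr.nd (nat_lit 76) (Tr.lf (nat_lit 7))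
(Tr.lf (nat_lit 5))))
(Tr.nd (nat_lit 79) (Tr.nd (nat_lit 78) (Tr.lf (nat_lit 2))
(Tr.lf (nat_lit 7)))
(Tr.nd (nat_lit 80) (Tr.lf (nat_lit 6))
(Tr.lf (nat_lit 7)))))))
(Tr.nd (nat_lit 95) (Tr.nd (nat_lit 88) (Tr.nd (nat_lit 84) (Tr.nd (nat_lit 82) (Tr.lf (nat_lit 8))
(Tr.nd (nat_lit 83) (Tr.lf (nat_lit 6))
(Tr.lf (nat_lit 0))))
(Tr.nd (nat_lit 86) (Tr.nd (nat_lit 85) (Tr.lf (nat_lit 1))
(Tr.lf (nat_lit 4)))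
(Tr.nd (nat_lit 87) (Tr.lf (nat_lit 2))
(Tr.lf (nat_lit 2)))))
(Tr.nd (nat_lit 91) (Tr.nd (nat_lit 89) (Tr.lf (nat_lit 7))
(Tr.nd (nat_lit 90) (Tr.lf (nat_lit 2))
(Tr.lf (nat_lit 4))))
(Tr.nd (nat_lit 93) (Tr.nd (nat_lit 92) (Tr.lf (nat_lit 7))
(Tr.lf (nat_lit 2)))
(Tr.nd (nat_lit 94) (Tr.lf (nat_lit 4))
(Tr.lf (nat_lit 5))))))
(Tr.nd (nat_lit 102) (Tr.nd (nat_lit 98) (Tr.nd (nat_lit 96) (Tr.lf (nat_lit 5))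
(Tr.nd (nat_lit 97) (Tr.lf (nat_lit 3))
(Tr.lf (nat_lit 8))))
(Tr.nd (nat_lit 100) (Tr.nd (nat_lit 99) (Tr.lf (nat_lit 1))
(Tr.lf (nat_lit 4)))
(Tr.nd (nat_lit 101) (Tr.lf (nat_lit 1))
(Tr.lf (nat_lit 0)))))
(Tr.nd (nat_lit 105) (Tr.nd (nat_lit 103) (Tr.lf (nat_lit 7))
(Tr.nd (nat_lit 104) (Tr.lf (nat_lit 0))
(Tr.lf (nat_lit 5))))
(Tr.nd (nat_lit 107) (Tr.nd (nat_lit 106) (Tr.lf (nat_lit 3))
(Tr.lf (nat_lit 2)))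
(Tr.nd (nat_lit 108) (Tr.lf (nat_lit 1))
(Tr.lf (nat_lit 7)))))))))
(Tr.nd (nat_lit 163) (Tr.nd (nat_lit 136) (Tr.nd (nat_lit 122) (Tr.nd (nat_lit 115) (Tr.nd (nat_lit 112) (Tr.nd (nat_lit 110) (Tr.lf (nat_lit 3))
(Tr.nd (nat_lit 111) (Tr.lf (nat_lit 7))
(Tr.lf (nat_lit 7))))
(Tr.nd (nat_lit 113) (Tr.lf (nat_lit 7))
(Tr.nd (nat_lit 114) (Tr.lf (nat_lit 0))
(Tr.lf (nat_lit 9)))))
(Tr.nd (nat_lit 118) (Tr.nd (nat_lit 116) (Tr.lf (nat_lit 9))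
(Tr.nd (nat_lit 117) (Tr.lf (nat_lit 5))
(Tr.lf (nat_lit 2))))
(Tr.nd (nat_lit 120) (Tr.nd (nat_lit 119) (Tr.lf (nat_lit 0))
(Tr.lf (nat_lit 0)))
(Tr.nd (nat_lit 121) (Tr.lf (nat_lit 1))
(Tr.lf (nat_lit 3))))))
(Tr.nd (nat_lit 129) (Tr.nd (nat_lit 125) (Tr.nd (nat_lit 123) (Tr.lf (nat_lit 7))
(Tr.nd (nat_lit 124) (Tr.lf (nat_lit 7))
(Tr.lf (nat_lit 8))))
(Tr.nd (nat_lit 127) (Tr.nd (nat_lit 126) (Tr.lf (nat_lit 8))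
(Tr.lf (nat_lit 8)))
(Tr.nd (nat_lit 128) (Tr.lf (nat_lit 2))
(Tr.lf (nat_lit 5)))))
(Tr.nd (nat_lit 132) (Tr.nd (nat_lit 130) (Tr.lf (nat_lit 9))
(Tr.nd (nat_lit 131) (Tr.lf (nat_lit 1))
(Tr.lf (nat_lit 7))))
(Tr.nd (nat_lit 134) (Tr.nd (nat_lit 133) (Tr.lf (nat_lit 8))
(Tr.lf (nat_lit 2)))
(Tr.nd (nat_lit 135) (Tr.lf (nat_lit 7))
(Tr.lf (nat_lit 7)))))))
(Tr.nd (nat_lit 149) (Tr.nd (nat_lit 142) (Tr.nd (nat_lit 139) (Tr.nd (nat_lit 137) (Tr.lf (nat_lit 2))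
(Tr.nd (nat_lit 138) (Tr.lf (nat_lit 7))
(Tr.lf (nat_lit 0))))
(Tr.nd (nat_lit 140) (Tr.lf (nat_lit 7))
(Tr.nd (nat_lit 141) (Tr.lf (nat_lit 7))
(Tr.lf (nat_lit 1)))))
(Tr.nd (nat_lit 145) (Tr.nd (nat_lit 143) (Tr.lf (nat_lit 5))
(Tr.nd (nat_lit 144) (Tr.lf (nat_lit 7))
(Tr.lf (nat_lit 7))))
(Tr.nd (nat_lit 147) (Tr.nd (nat_lit 146) (Tr.lf (nat_lit 7))
(Tr.lf (nat_lit 7)))
(Tr.nd (nat_lit 148) (Tr.lf (nat_lit 7))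
(Tr.lf (nat_lit 7))))))
(Tr.nd (nat_lit 156) (Tr.nd (nat_lit 152) (Tr.nd (nat_lit 150) (Tr.lf (nat_lit 3))
(Tr.nd (nat_lit 151) (Tr.lf (nat_lit 7))
(Tr.lf (nat_lit 7))))
(Tr.nd (nat_lit 154) (Tr.nd (nat_lit 153) (Tr.lf (nat_lit 2))
(Tr.lf (nat_lit 2)))
(Tr.nd (nat_lit 155) (Tr.lf (nat_lit 6))
(Tr.lf (nat_lit 6)))))
(Tr.nd (nat_lit 159) (Tr.nd (nat_lit 157) (Tr.lf (nat_lit 6))
(Tr.nd (nat_lit 158) (Tr.lf (nat_lit 6))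
(Tr.lf (nat_lit 7))))
(Tr.nd (nat_lit 161) (Tr.nd (nat_lit 160) (Tr.lf (nat_lit 9))
(Tr.lf (nat_lit 2)))
(Tr.nd (nat_lit 162) (Tr.lf (nat_lit 0))
(Tr.lf (nat_lit 6))))))))
(Tr.nd (nat_lit 190) (Tr.nd (nat_lit 176) (Tr.nd (nat_lit 169) (Tr.nd (nat_lit 166) (Tr.nd (nat_lit 164) (Tr.lf (nat_lit 6))
(Tr.nd (nat_lit 165) (Tr.lf (nat_lit 0))
(Tr.lf (nat_lit 2))))
(Tr.nd (nat_lit 167) (Tr.lf (nat_lit 6))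
(Tr.nd (nat_lit 168) (Tr.lf (nat_lit 8))
(Tr.lf (nat_lit 4)))))
(Tr.nd (nat_lit 172) (Tr.nd (nat_lit 170) (Tr.lf (nat_lit 0))
(Tr.nd (nat_lit 171) (Tr.lf (nat_lit 3))
(Tr.lf (nat_lit 8))))
(Tr.nd (nat_lit 174) (Tr.nd (nat_lit 173) (Tr.lf (nat_lit 6))
(Tr.lf (nat_lit 2)))
(Tr.nd (nat_lit 175) (Tr.lf (nat_lit 8))
(Tr.lf (nat_lit 6))))))
(Tr.nd (nat_lit 183) (Tr.nd (nat_lit 179) (Tr.nd (nat_lit 177) (Tr.lf (nat_lit 6))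
(Tr.nd (nat_lit 178) (Tr.lf (nat_lit 2))
(Tr.lf (nat_lit 8))))
(Tr.nd (nat_lit 181) (Tr.nd (nat_lit 180) (Tr.lf (nat_lit 6))
(Tr.lf (nat_lit 6)))
(Tr.nd (nat_lit 182) (Tr.lf (nat_lit 8))
(Tr.lf (nat_lit 6)))))
(Tr.nd (nat_lit 186) (Tr.nd (nat_lit 184) (Tr.lf (nat_lit 6))
(Tr.nd (nat_lit 185) (Tr.lf (nat_lit 6))
(Tr.lf (nat_lit 6))))
(Tr.nd (nat_lit 188) (Tr.nd (nat_lit 187) (Tr.lf (nat_lit 6))
(Tr.lf (nat_lit 6)))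
(Tr.nd (nat_lit 189) (Tr.lf (nat_lit 0))
(Tr.lf (nat_lit 5)))))))
(Tr.nd (nat_lit 204) (Tr.nd (nat_lit 197) (Tr.nd (nat_lit 193) (Tr.nd (nat_lit 191) (Tr.lf (nat_lit 0))
(Tr.nd (nat_lit 192) (Tr.lf (nat_lit 5))
(Tr.lf (nat_lit 4))))
(Tr.nd (nat_lit 195) (Tr.nd (nat_lit 194) (Tr.lf (nat_lit 3))
(Tr.lf (nat_lit 2)))
(Tr.nd (nat_lit 196) (Tr.lf (nat_lit 8))
(Tr.lf (nat_lit 5)))))
(Tr.nd (nat_lit 200) (Tr.nd (nat_lit 198) (Tr.lf (nat_lit 5))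
(Tr.nd (nat_lit 199) (Tr.lf (nat_lit 6))
(Tr.lf (nat_lit 5))))
(Tr.nd (nat_lit 202) (Tr.nd (nat_lit 201) (Tr.lf (nat_lit 5))
(Tr.lf (nat_lit 6)))
(Tr.nd (nat_lit 203) (Tr.lf (nat_lit 4))
(Tr.lf (nat_lit 3))))))
(Tr.nd (nat_lit 211) (Tr.nd (nat_lit 207) (Tr.nd (nat_lit 205) (Tr.lf (nat_lit 2))
(Tr.nd (nat_lit 206) (Tr.lf (nat_lit 7))
(Tr.lf (nat_lit 8))))
(Tr.nd (nat_lit 209) (Tr.nd (nat_lit 208) (Tr.lf (nat_lit 7))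
(Tr.lf (nat_lit 8)))
(Tr.nd (nat_lit 210) (Tr.lf (nat_lit 6))
(Tr.lf (nat_lit 5)))))
(Tr.nd (nat_lit 214) (Tr.nd (nat_lit 212) (Tr.lf (nat_lit 5))
(Tr.nd (nat_lit 213) (Tr.lf (nat_lit 5))
(Tr.lf (nat_lit 6))))
(Tr.nd (nat_lit 216) (Tr.nd (nat_lit 215) (Tr.lf (nat_lit 4))
(Tr.lf (nat_lit 1)))
(Tr.nd (nat_lit 217) (Tr.lf (nat_lit 6))
(Tr.lf (nat_lit 4))))))))))
theorem mini0_alt : Tr.all (altChk idx inv RW (SW0)) mini0A = true := by decide +kernel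
theorem mini0_chk : Tr.all (chkFc idx inv mini0S mini0A (fun b => Tr.find b mini0P) (fun b => Tr.find b mini0Q)) mini0S = true := by decide +kernel
theorem mini0_run : runM idx inv mini0S 649 0 [Mv.f (nat_lit 8), Mv.f (nat_lit 17), Mv.f (nat_lit 25), Mv.f (nat_lit 32), Mv.f (nat_lit 39), Mv.f (nat_lit 46), Mv.f (nat_lit 53), Mv.f (nat_lit 60), Mv.f (nat_lit 65), Mv.f (nat_lit 69), Mv.f (nat_lit 73), Mv.f (nat_lit 77), Mv.f (nat_lit 82), Mv.f (nat_lit 86), Mv.f (nat_lit 89), Mv.f (nat_lit 92), Mv.f (nat_lit 94), Mv.f (nat_lit 96), Mv.f (nat_lit 98), Mv.f (nat_lit 100), Mv.f (nat_lit 101), Mv.f (nat_lit 102), Mv.b (nat_lit 648), Mv.b (nat_lit 53), Mv.b (nat_lit 46), Mv.b (nat_lit 39), Mv.b (nat_lit 32), Mv.b (nat_lit 25), Mv.b (nat_lit 17), Mv.b (nat_lit 8)] [Col.i, Col.h, Col.d, Col.c, Col.b,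 Col.a, Col.k, Col.e, Col.d, Col.c, Col.b, Col.a, Col.h, Col.d, Col.c, Col.e, Col.d, Col.h, Col.b, Col.c, Col.d, Col.e, Col.l, Col.k, Col.a, Col.b, Col.c, Col.d, Col.h, Col.i] 0 = true := by decide +kernel
theorem mini0_fix {G X : Type*} [Group G] [MulAction G X] (g : Col → G) (x0 : X) (hinv : ∀ c, g (inv c) = (g c)⁻¹)
    (hRW : ∀ w ∈ RW, gw g w = 1) (hSW : ∀ w ∈ SW0, gw g w • x0 = x0) : gw g [Col.i, Col.h, Col.d, Col.c, Col.b, Col.a, Col.k, Col.e, Col.d, Col.c, Col.b, Col.a, Col.h, Col.d, Col.c, Col.e, Col.d, Col.h, Col.b, Col.c, Col.d, Col.e, Col.l, Col.k, Col.a, Col.b, Col.c, Col.d, Col.h, Col.i] • x0 = x0 :=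
  mini_sound g x0 dec hdec hinv
    (fun a ha => altChk_sound g x0 dec hdec hinv hRW hSW ((Tr.all_iff _ _).1 mini0_alt a ha)) mini0_chk mini0_run
noncomputable def mini1S : Tr (Fc Col) := (Tr.nd (nat_lit 1309) (Tr.nd (nat_lit 654) (Tr.nd (nat_lit 327) (Tr.nd (nat_lit 163) (Tr.nd (nat_lit 81) (Tr.nd (nat_lit 40) (Tr.nd (nat_lit 20) (Tr.nd (nat_lit 10) (Tr.nd (nat_lit 5) (Tr.nd (nat_lit 2) (Tr.nd (nat_lit 1) (Tr.lf (Fc.ed (nat_lit 0) (nat_lit 0) Col.l (nat_lit 0) (Dv.sb (nat_lit 0) [] [])))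
(Tr.lf (Fc.ed (nat_lit 1) (nat_lit 0) Col.k (nat_lit 0) (Dv.sb (nat_lit 1) [] []))))
(Tr.nd (nat_lit 3) (Tr.lf (Fc.ed (nat_lit 2) (nat_lit 0) Col.b (nat_lit 0) (Dv.sb (nat_lit 2) [] [])))
(Tr.nd (nat_lit 4) (Tr.lf (Fc.ed (nat_lit 3) (nat_lit 0) Col.c (nat_lit 0) (Dv.sb (nat_lit 3) [] [])))
(Tr.lf (Fc.ed (nat_lit 4) (nat_lit 0) Col.d (nat_lit 0) (Dv.sb (nat_lit 4) [] []))))))
(Tr.nd (nat_lit 7) (Tr.nd (nat_lit 6) (Tr.lf (Fc.ed (nat_lit 5) (nat_lit 0) Col.e (nat_lit 0) (Dv.sb (nat_lit 5) [] [])))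
(Tr.lf (Fc.ed (nat_lit 6) (nat_lit 0) Col.f (nat_lit 0) (Dv.sb (nat_lit 6) [] []))))
(Tr.nd (nat_lit 8) (Tr.lf (Fc.ed (nat_lit 7) (nat_lit 0) Col.h (nat_lit 0) (Dv.sb (nat_lit 7) [] [])))
(Tr.nd (nat_lit 9) (Tr.lf (Fc.ed (nat_lit 8) (nat_lit 0) Col.i (nat_lit 1) Dv.df))
(Tr.lf (Fc.ed (nat_lit 9) (nat_lit 1) Col.h (nat_lit 2) Dv.df))))))
(Tr.nd (nat_lit 15) (Tr.nd (nat_lit 12) (Tr.nd (nat_lit 11) (Tr.lf (Fc.ed (nat_lit 10) (nat_lit 2) Col.d (nat_lit 3) Dv.df))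
(Tr.lf (Fc.ed (nat_lit 11) (nat_lit 3) Col.c (nat_lit 4) Dv.df)))
(Tr.nd (nat_lit 13) (Tr.lf (Fc.ed (nat_lit 12) (nat_lit 4) Col.b (nat_lit 5) Dv.df))
(Tr.nd (nat_lit 14) (Tr.lf (Fc.ed (nat_lit 13) (nat_lit 5) Col.a (nat_lit 6) Dv.df))
(Tr.lf (Fc.ed (nat_lit 14) (nat_lit 6) Col.k (nat_lit 7) Dv.df)))))
(Tr.nd (nat_lit 17) (Tr.nd (nat_lit 16) (Tr.lf (Fc.ed (nat_lit 15) (nat_lit 7) Col.e (nat_lit 8) Dv.df))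
(Tr.lf (Fc.ed (nat_lit 16) (nat_lit 8) Col.d (nat_lit 9) Dv.df)))
(Tr.nd (nat_lit 18) (Tr.lf (Fc.ed (nat_lit 17) (nat_lit 9) Col.c (nat_lit 10) Dv.df))
(Tr.nd (nat_lit 19) (Tr.lf (Fc.ed (nat_lit 18) (nat_lit 10) Col.b (nat_lit 11) Dv.df))
(Tr.lf (Fc.ed (nat_lit 19) (nat_lit 11) Col.a (nat_lit 12) Dv.df)))))))
(Tr.nd (nat_lit 30) (Tr.nd (nat_lit 25) (Tr.nd (nat_lit 22) (Tr.nd (nat_lit 21) (Tr.lf (Fc.ed (nat_lit 20) (nat_lit 12) Col.h (nat_lit 13) Dv.df))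
(Tr.lf (Fc.ed (nat_lit 21) (nat_lit 13) Col.d (nat_lit 14) Dv.df)))
(Tr.nd (nat_lit 23) (Tr.lf (Fc.ed (nat_lit 22) (nat_lit 14) Col.c (nat_lit 15) Dv.df))
(Tr.nd (nat_lit 24) (Tr.lf (Fc.ed (nat_lit 23) (nat_lit 15) Col.e (nat_lit 16) Dv.df))
(Tr.lf (Fc.ed (nat_lit 24) (nat_lit 16) Col.d (nat_lit 17) Dv.df)))))
(Tr.nd (nat_lit 27) (Tr.nd (nat_lit 26) (Tr.lf (Fc.ed (nat_lit 25) (nat_lit 17) Col.h (nat_lit 18) Dv.df))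
(Tr.lf (Fc.ed (nat_lit 26) (nat_lit 18) Col.b (nat_lit 19) Dv.df)))
(Tr.nd (nat_lit 28) (Tr.lf (Fc.ed (nat_lit 27) (nat_lit 19) Col.c (nat_lit 20) Dv.df))
(Tr.nd (nat_lit 29) (Tr.lf (Fc.ed (nat_lit 28) (nat_lit 20) Col.d (nat_lit 21) Dv.df))
(Tr.lf (Fc.ed (nat_lit 29) (nat_lit 21) Col.e (nat_lit 22) Dv.df))))))
(Tr.nd (nat_lit 35) (Tr.nd (nat_lit 32) (Tr.nd (nat_lit 31) (Tr.lf (Fc.ed (nat_lit 30) (nat_lit 22) Col.l (nat_lit 7) (Dv.sb (nat_lit 8) [Mv.f (nat_lit 8), Mv.f (nat_lit 9), Mv.f (nat_lit 10), Mv.f (nat_lit 11), Mv.f (nat_lit 12), Mv.f (nat_lit 13), Mv.f (nat_lit 14), Mv.f (nat_lit 15), Mv.f (nat_lit 16), Mv.f (nat_lit 17), Mv.f (nat_lit 18), Mv.f (nat_lit 19), Mv.f (nat_lit 20), Mv.f (nat_lit 21), Mv.f (nat_lit 22), Mv.f (nat_lit 23), Mv.f (nat_lit 24), Mv.f (nat_lit 25), Mv.f (nat_lit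 26), Mv.f (nat_lit 27), Mv.f (nat_lit 28), Mv.f (nat_lit 29)] [Mv.b (nat_lit 14), Mv.b (nat_lit 13), Mv.b (nat_lit 12), Mv.b (nat_lit 11), Mv.b (nat_lit 10), Mv.b (nat_lit 9), Mv.b (nat_lit 8)])))
(Tr.lf (Fc.ed (nat_lit 31) (nat_lit 8) Col.l (nat_lit 21) (Dv.wd (nat_lit 9) [Mv.f (nat_lit 29), Mv.f (nat_lit 30), Mv.f (nat_lit 15)]))))
(Tr.nd (nat_lit 33) (Tr.lf (Fc.ed (nat_lit 32) (nat_lit 20) Col.l (nat_lit 9) (Dv.wd (nat_lit 10) [Mv.b (nat_lit 16), Mv.f (nat_lit 31), Mv.b (nat_lit 28)])))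
(Tr.nd (nat_lit 34) (Tr.lf (Fc.ed (nat_lit 33) (nat_lit 10) Col.l (nat_lit 19) (Dv.wd (nat_lit 11) [Mv.f (nat_lit 27), Mv.f (nat_lit 32), Mv.f (nat_lit 17)])))
(Tr.lf (Fc.ed (nat_lit 34) (nat_lit 18) Col.l (nat_lit 11) (Dv.wd (nat_lit 12) [Mv.b (nat_lit 18), Mv.f (nat_lit 33), Mv.b (nat_lit 26)]))))))
(Tr.nd (nat_lit 37) (Tr.nd (nat_lit 36) (Tr.lf (Fc.ed (nat_lit 35) (nat_lit 2) Col.i (nat_lit 2) (Dv.wd (nat_lit 13) [Mv.b (nat_lit 9), Mv.b (nat_lit 8), Mv.f (nat_lit 7), Mv.f (nat_lit 8), Mv.f (nat_lit 9)])))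
(Tr.lf (Fc.ed (nat_lit 36) (nat_lit 3) Col.i (nat_lit 3) (Dv.wd (nat_lit 14) [Mv.b (nat_lit 10), Mv.f (nat_lit 35), Mv.f (nat_lit 10)]))))
(Tr.nd (nat_lit 38) (Tr.lf (Fc.ed (nat_lit 37) (nat_lit 4) Col.i (nat_lit 4) (Dv.wd (nat_lit 15) [Mv.b (nat_lit 11), Mv.f (nat_lit 36), Mv.f (nat_lit 11)])))
(Tr.nd (nat_lit 39) (Tr.lf (Fc.ed (nat_lit 38) (nat_lit 5) Col.i (nat_lit 5) (Dv.wd (nat_lit 16) [Mv.b (nat_lit 12), Mv.f (nat_lit 37), Mv.f (nat_lit 12)])))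
(Tr.lf (Fc.ed (nat_lit 39) (nat_lit 6) Col.i (nat_lit 6) (Dv.wd (nat_lit 17) [Mv.b (nat_lit 13), Mv.f (nat_lit 38), Mv.f (nat_lit 13)])))))))))
(Tr.nd (nat_lit 60) (Tr.nd (nat_lit 50) (Tr.nd (nat_lit 45) (Tr.nd (nat_lit 42) (Tr.nd (nat_lit 41) (Tr.lf (Fc.ed (nat_lit 40) (nat_lit 7) Col.i (nat_lit 7) (Dv.wd (nat_lit 18) [Mv.b (nat_lit 14), Mv.f (nat_lit 39), Mv.f (nat_lit 14)])))
(Tr.lf (Fc.ed (nat_lit 41) (nat_lit 8) Col.i (nat_lit 8) (Dv.wd (nat_lit 19) [Mv.b (nat_lit 15), Mv.f (nat_lit 40), Mv.f (nat_lit 15)]))))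
(Tr.nd (nat_lit 43) (Tr.lf (Fc.ed (nat_lit 42) (nat_lit 9) Col.i (nat_lit 9) (Dv.wd (nat_lit 14) [Mv.b (nat_lit 16), Mv.f (nat_lit 41), Mv.f (nat_lit 16)])))
(Tr.nd (nat_lit 44) (Tr.lf (Fc.ed (nat_lit 43) (nat_lit 10) Col.i (nat_lit 10) (Dv.wd (nat_lit 15) [Mv.b (nat_lit 17), Mv.f (nat_lit 42), Mv.f (nat_lit 17)])))
(Tr.lf (Fc.ed (nat_lit 44) (nat_lit 11) Col.i (nat_lit 11) (Dv.wd (nat_lit 16) [Mv.b (nat_lit 18), Mv.f (nat_lit 43), Mv.f (nat_lit 18)]))))))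
(Tr.nd (nat_lit 47) (Tr.nd (nat_lit 46) (Tr.lf (Fc.ed (nat_lit 45) (nat_lit 12) Col.i (nat_lit 12) (Dv.wd (nat_lit 17) [Mv.b (nat_lit 19), Mv.f (nat_lit 44), Mv.f (nat_lit 19)])))
(Tr.lf (Fc.ed (nat_lit 46) (nat_lit 1) Col.l (nat_lit 1) (Dv.wd (nat_lit 20) [Mv.b (nat_lit 8), Mv.f (nat_lit 0), Mv.f (nat_lit 8)]))))
(Tr.nd (nat_lit 48) (Tr.lf (Fc.ed (nat_lit 47) (nat_lit 1) Col.k (nat_lit 1) (Dv.wd (nat_lit 21) [Mv.b (nat_lit 8), Mv.f (nat_lit 1), Mv.f (nat_lit 8)])))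
(Tr.nd (nat_lit 49) (Tr.lf (Fc.ed (nat_lit 48) (nat_lit 1) Col.b (nat_lit 1) (Dv.wd (nat_lit 22) [Mv.b (nat_lit 8), Mv.f (nat_lit 2), Mv.f (nat_lit 8)])))
(Tr.lf (Fc.ed (nat_lit 49) (nat_lit 1) Col.c (nat_lit 1) (Dv.wd (nat_lit 23) [Mv.b (nat_lit 8), Mv.f (nat_lit 3), Mv.f (nat_lit 8)])))))))
(Tr.nd (nat_lit 55) (Tr.nd (nat_lit 52) (Tr.nd (nat_lit 51) (Tr.lf (Fc.ed (nat_lit 50) (nat_lit 1) Col.d (nat_lit 1) (Dv.wd (nat_lit 24) [Mv.b (nat_lit 8), Mv.f (nat_lit 4), Mv.f (nat_lit 8)])))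
(Tr.lf (Fc.ed (nat_lit 51) (nat_lit 1) Col.e (nat_lit 1) (Dv.wd (nat_lit 25) [Mv.b (nat_lit 8), Mv.f (nat_lit 5), Mv.f (nat_lit 8)]))))
(Tr.nd (nat_lit 53) (Tr.lf (Fc.ed (nat_lit 52) (nat_lit 1) Col.f (nat_lit 1) (Dv.wd (nat_lit 26) [Mv.b (nat_lit 8), Mv.f (nat_lit 6), Mv.f (nat_lit 8)])))
(Tr.nd (nat_lit 54) (Tr.lf (Fc.ed (nat_lit 53) (nat_lit 2) Col.f (nat_lit 2) (Dv.wd (nat_lit 27) [Mv.b (nat_lit 9), Mv.f (nat_lit 52), Mv.f (nat_lit 9)])))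
(Tr.lf (Fc.ed (nat_lit 54) (nat_lit 3) Col.f (nat_lit 3) (Dv.wd (nat_lit 28) [Mv.b (nat_lit 10), Mv.f (nat_lit 53), Mv.f (nat_lit 10)]))))))
(Tr.nd (nat_lit 57) (Tr.nd (nat_lit 56) (Tr.lf (Fc.ed (nat_lit 55) (nat_lit 4) Col.f (nat_lit 4) (Dv.wd (nat_lit 29) [Mv.b (nat_lit 11), Mv.f (nat_lit 54), Mv.f (nat_lit 11)])))
(Tr.lf (Fc.ed (nat_lit 56) (nat_lit 2) Col.e (nat_lit 2) (Dv.wd (nat_lit 30) [Mv.b (nat_lit 9), Mv.f (nat_lit 51), Mv.f (nat_lit 9)]))))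
(Tr.nd (nat_lit 58) (Tr.lf (Fc.ed (nat_lit 57) (nat_lit 3) Col.h (nat_lit 3) (Dv.wd (nat_lit 31) [Mv.b (nat_lit 10), Mv.b (nat_lit 9), Mv.f (nat_lit 50), Mv.f (nat_lit 9), Mv.f (nat_lit 10)])))
(Tr.nd (nat_lit 59) (Tr.lf (Fc.ed (nat_lit 58) (nat_lit 4) Col.h (nat_lit 4) (Dv.wd (nat_lit 32) [Mv.b (nat_lit 11), Mv.f (nat_lit 57), Mv.f (nat_lit 11)])))
(Tr.lf (Fc.ed (nat_lit 59) (nat_lit 2) Col.c (nat_lit 2) (Dv.wd (nat_lit 33) [Mv.b (nat_lit 9), Mv.f (nat_lit 49), Mv.f (nat_lit 9)]))))))))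
(Tr.nd (nat_lit 70) (Tr.nd (nat_lit 65) (Tr.nd (nat_lit 62) (Tr.nd (nat_lit 61) (Tr.lf (Fc.ed (nat_lit 60) (nat_lit 4) Col.d (nat_lit 4) (Dv.wd (nat_lit 34) [Mv.b (nat_lit 11), Mv.b (nat_lit 10), Mv.f (nat_lit 59), Mv.f (nat_lit 10), Mv.f (nat_lit 11)])))
(Tr.lf (Fc.ed (nat_lit 61) (nat_lit 5) Col.d (nat_lit 5) (Dv.wd (nat_lit 35) [Mv.b (nat_lit 12), Mv.f (nat_lit 60), Mv.f (nat_lit 12)]))))
(Tr.nd (nat_lit 63) (Tr.lf (Fc.ed (nat_lit 62) (nat_lit 6) Col.d (nat_lit 6) (Dv.wd (nat_lit 36) [Mv.b (nat_lit 13), Mv.f (nat_lit 61), Mv.f (nat_lit 13)])))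
(Tr.nd (nat_lit 64) (Tr.lf (Fc.ed (nat_lit 63) (nat_lit 7) Col.d (nat_lit 7) (Dv.wd (nat_lit 37) [Mv.b (nat_lit 14), Mv.f (nat_lit 62), Mv.f (nat_lit 14)])))
(Tr.lf (Fc.ed (nat_lit 64) (nat_lit 9) Col.e (nat_lit 9) (Dv.wd (nat_lit 38) [Mv.b (nat_lit 16), Mv.b (nat_lit 15), Mv.f (nat_lit 63), Mv.f (nat_lit 15), Mv.f (nat_lit 16)]))))))
(Tr.nd (nat_lit 67) (Tr.nd (nat_lit 66) (Tr.lf (Fc.ed (nat_lit 65) (nat_lit 10) Col.e (nat_lit 10) (Dv.wd (nat_lit 39) [Mv.b (nat_lit 17), Mv.f (nat_lit 64), Mv.f (nat_lit 17)])))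
(Tr.lf (Fc.ed (nat_lit 66) (nat_lit 11) Col.e (nat_lit 11) (Dv.wd (nat_lit 40) [Mv.b (nat_lit 18), Mv.f (nat_lit 65), Mv.f (nat_lit 18)]))))
(Tr.nd (nat_lit 68) (Tr.lf (Fc.ed (nat_lit 67) (nat_lit 18) Col.e (nat_lit 18) (Dv.wd (nat_lit 41) [Mv.f (nat_lit 34), Mv.f (nat_lit 66), Mv.b (nat_lit 34)])))
(Tr.nd (nat_lit 69) (Tr.lf (Fc.ed (nat_lit 68) (nat_lit 12) Col.e (nat_lit 12) (Dv.wd (nat_lit 42) [Mv.b (nat_lit 19), Mv.f (nat_lit 66), Mv.f (nat_lit 19)])))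
(Tr.lf (Fc.ed (nat_lit 69) (nat_lit 13) Col.e (nat_lit 13) (Dv.wd (nat_lit 30) [Mv.b (nat_lit 20), Mv.f (nat_lit 68), Mv.f (nat_lit 20)])))))))
(Tr.nd (nat_lit 75) (Tr.nd (nat_lit 72) (Tr.nd (nat_lit 71) (Tr.lf (Fc.ed (nat_lit 70) (nat_lit 17) Col.e (nat_lit 17) (Dv.wd (nat_lit 30) [Mv.f (nat_lit 25), Mv.f (nat_lit 67), Mv.b (nat_lit 25)])))
(Tr.lf (Fc.ed (nat_lit 71) (nat_lit 15) Col.d (nat_lit 15) (Dv.wd (nat_lit 43) [Mv.f (nat_lit 23), Mv.f (nat_lit 24), Mv.f (nat_lit 70), Mv.b (nat_lit 24), Mv.b (nat_lit 23)]))))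
(Tr.nd (nat_lit 73) (Tr.lf (Fc.ed (nat_lit 72) (nat_lit 13) Col.c (nat_lit 13) (Dv.wd (nat_lit 44) [Mv.f (nat_lit 21), Mv.f (nat_lit 22), Mv.f (nat_lit 71), Mv.b (nat_lit 22), Mv.b (nat_lit 21)])))
(Tr.nd (nat_lit 74) (Tr.lf (Fc.ed (nat_lit 73) (nat_lit 12) Col.c (nat_lit 12) (Dv.wd (nat_lit 33) [Mv.f (nat_lit 20), Mv.f (nat_lit 72), Mv.b (nat_lit 20)])))
(Tr.lf (Fc.ed (nat_lit 74) (nat_lit 11) Col.c (nat_lit 11) (Dv.wd (nat_lit 45) [Mv.f (nat_lit 19), Mv.f (nat_lit 73), Mv.b (nat_lit 19)]))))))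
(Tr.nd (nat_lit 78) (Tr.nd (nat_lit 76) (Tr.lf (Fc.ed (nat_lit 75) (nat_lit 9) Col.b (nat_lit 9) (Dv.wd (nat_lit 46) [Mv.f (nat_lit 17), Mv.f (nat_lit 18), Mv.f (nat_lit 74), Mv.b (nat_lit 18), Mv.b (nat_lit 17)])))
(Tr.nd (nat_lit 77) (Tr.lf (Fc.ed (nat_lit 76) (nat_lit 8) Col.b (nat_lit 8) (Dv.wd (nat_lit 47) [Mv.f (nat_lit 16), Mv.f (nat_lit 75), Mv.b (nat_lit 16)])))
(Tr.lf (Fc.ed (nat_lit 77) (nat_lit 7) Col.b (nat_lit 7) (Dv.wd (nat_lit 48) [Mv.f (nat_lit 15), Mv.f (nat_lit 76), Mv.b (nat_lit 15)])))))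
(Tr.nd (nat_lit 79) (Tr.lf (Fc.ed (nat_lit 78) (nat_lit 6) Col.b (nat_lit 6) (Dv.wd (nat_lit 49) [Mv.f (nat_lit 14), Mv.f (nat_lit 77), Mv.b (nat_lit 14)])))
(Tr.nd (nat_lit 80) (Tr.lf (Fc.ed (nat_lit 79) (nat_lit 4) Col.a (nat_lit 4) (Dv.wd (nat_lit 50) [Mv.f (nat_lit 12), Mv.f (nat_lit 13), Mv.f (nat_lit 78), Mv.b (nat_lit 13), Mv.b (nat_lit 12)])))
(Tr.lf (Fc.ed (nat_lit 80) (nat_lit 2) Col.b (nat_lit 2) (Dv.wd (nat_lit 51) [Mv.b (nat_lit 9), Mv.f (nat_lit 48), Mv.f (nat_lit 9)]))))))))))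
(Tr.nd (nat_lit 122) (Tr.nd (nat_lit 101) (Tr.nd (nat_lit 91) (Tr.nd (nat_lit 86) (Tr.nd (nat_lit 83) (Tr.nd (nat_lit 82) (Tr.lf (Fc.ed (nat_lit 81) (nat_lit 3) Col.b (nat_lit 3) (Dv.wd (nat_lit 47) [Mv.b (nat_lit 10), Mv.f (nat_lit 80), Mv.f (nat_lit 10)])))
(Tr.lf (Fc.ed (nat_lit 82) (nat_lit 5) Col.c (nat_lit 5) (Dv.wd (nat_lit 52) [Mv.b (nat_lit 12), Mv.b (nat_lit 11), Mv.f (nat_lit 81), Mv.f (nat_lit 11), Mv.f (nat_lit 12)]))))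
(Tr.nd (nat_lit 84) (Tr.lf (Fc.ed (nat_lit 83) (nat_lit 6) Col.c (nat_lit 6) (Dv.wd (nat_lit 45) [Mv.b (nat_lit 13), Mv.f (nat_lit 82), Mv.f (nat_lit 13)])))
(Tr.nd (nat_lit 85) (Tr.lf (Fc.ed (nat_lit 84) (nat_lit 7) Col.c (nat_lit 7) (Dv.wd (nat_lit 53) [Mv.b (nat_lit 14), Mv.f (nat_lit 83), Mv.f (nat_lit 14)])))
(Tr.lf (Fc.ed (nat_lit 85) (nat_lit 8) Col.c (nat_lit 8) (Dv.wd (nat_lit 54) [Mv.b (nat_lit 15), Mv.f (nat_lit 84), Mv.f (nat_lit 15)]))))))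
(Tr.nd (nat_lit 88) (Tr.nd (nat_lit 87) (Tr.lf (Fc.ed (nat_lit 86) (nat_lit 10) Col.d (nat_lit 10) (Dv.wd (nat_lit 34) [Mv.b (nat_lit 17), Mv.b (nat_lit 16), Mv.f (nat_lit 85), Mv.f (nat_lit 16), Mv.f (nat_lit 17)])))
(Tr.lf (Fc.ed (nat_lit 87) (nat_lit 11) Col.d (nat_lit 11) (Dv.wd (nat_lit 35) [Mv.b (nat_lit 18), Mv.f (nat_lit 86), Mv.f (nat_lit 18)]))))
(Tr.nd (nat_lit 89) (Tr.lf (Fc.ed (nat_lit 88) (nat_lit 12) Col.d (nat_lit 12) (Dv.wd (nat_lit 36) [Mv.b (nat_lit 19), Mv.f (nat_lit 87), Mv.f (nat_lit 19)])))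
(Tr.nd (nat_lit 90) (Tr.lf (Fc.ed (nat_lit 89) (nat_lit 14) Col.h (nat_lit 14) (Dv.wd (nat_lit 31) [Mv.b (nat_lit 21), Mv.b (nat_lit 20), Mv.f (nat_lit 88), Mv.f (nat_lit 20), Mv.f (nat_lit 21)])))
(Tr.lf (Fc.ed (nat_lit 90) (nat_lit 15) Col.h (nat_lit 15) (Dv.wd (nat_lit 32) [Mv.b (nat_lit 22), Mv.f (nat_lit 89), Mv.f (nat_lit 22)])))))))
(Tr.nd (nat_lit 96) (Tr.nd (nat_lit 93) (Tr.nd (nat_lit 92) (Tr.lf (Fc.ed (nat_lit 91) (nat_lit 2) Col.k (nat_lit 2) (Dv.wd (nat_lit 55) [Mv.b (nat_lit 9), Mv.f (nat_lit 47), Mv.f (nat_lit 9)])))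
(Tr.lf (Fc.ed (nat_lit 92) (nat_lit 3) Col.k (nat_lit 3) (Dv.wd (nat_lit 56) [Mv.b (nat_lit 10), Mv.f (nat_lit 91), Mv.f (nat_lit 10)]))))
(Tr.nd (nat_lit 94) (Tr.lf (Fc.ed (nat_lit 93) (nat_lit 4) Col.k (nat_lit 4) (Dv.wd (nat_lit 57) [Mv.b (nat_lit 11), Mv.f (nat_lit 92), Mv.f (nat_lit 11)])))
(Tr.nd (nat_lit 95) (Tr.lf (Fc.ed (nat_lit 94) (nat_lit 5) Col.k (nat_lit 5) (Dv.wd (nat_lit 58) [Mv.b (nat_lit 12), Mv.f (nat_lit 93), Mv.f (nat_lit 12)])))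
(Tr.lf (Fc.ed (nat_lit 95) (nat_lit 7) Col.a (nat_lit 7) (Dv.wd (nat_lit 59) [Mv.b (nat_lit 14), Mv.b (nat_lit 13), Mv.f (nat_lit 94), Mv.f (nat_lit 13), Mv.f (nat_lit 14)]))))))
(Tr.nd (nat_lit 98) (Tr.nd (nat_lit 97) (Tr.lf (Fc.ed (nat_lit 96) (nat_lit 8) Col.a (nat_lit 8) (Dv.wd (nat_lit 60) [Mv.b (nat_lit 15), Mv.f (nat_lit 95), Mv.f (nat_lit 15)])))
(Tr.lf (Fc.ed (nat_lit 97) (nat_lit 9) Col.a (nat_lit 9) (Dv.wd (nat_lit 61) [Mv.b (nat_lit 16), Mv.f (nat_lit 96), Mv.f (nat_lit 16)]))))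
(Tr.nd (nat_lit 99) (Tr.lf (Fc.ed (nat_lit 98) (nat_lit 10) Col.a (nat_lit 10) (Dv.wd (nat_lit 62) [Mv.b (nat_lit 17), Mv.f (nat_lit 97), Mv.f (nat_lit 17)])))
(Tr.nd (nat_lit 100) (Tr.lf (Fc.ed (nat_lit 99) (nat_lit 12) Col.b (nat_lit 12) (Dv.wd (nat_lit 63) [Mv.b (nat_lit 19), Mv.b (nat_lit 18), Mv.f (nat_lit 98), Mv.f (nat_lit 18), Mv.f (nat_lit 19)])))
(Tr.lf (Fc.ed (nat_lit 100) (nat_lit 13) Col.b (nat_lit 13) (Dv.wd (nat_lit 51) [Mv.b (nat_lit 20), Mv.f (nat_lit 99), Mv.f (nat_lit 20)]))))))))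
(Tr.nd (nat_lit 111) (Tr.nd (nat_lit 106) (Tr.nd (nat_lit 103) (Tr.nd (nat_lit 102) (Tr.lf (Fc.ed (nat_lit 101) (nat_lit 14) Col.b (nat_lit 14) (Dv.wd (nat_lit 47) [Mv.b (nat_lit 21), Mv.f (nat_lit 100), Mv.f (nat_lit 21)])))
(Tr.lf (Fc.ed (nat_lit 102) (nat_lit 2) Col.l (nat_lit 2) (Dv.wd (nat_lit 64) [Mv.b (nat_lit 9), Mv.f (nat_lit 46), Mv.f (nat_lit 9)]))))
(Tr.nd (nat_lit 104) (Tr.lf (Fc.ed (nat_lit 103) (nat_lit 3) Col.l (nat_lit 3) (Dv.wd (nat_lit 10) [Mv.b (nat_lit 10), Mv.f (nat_lit 102), Mv.f (nat_lit 10)])))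
(Tr.nd (nat_lit 105) (Tr.lf (Fc.ed (nat_lit 104) (nat_lit 4) Col.l (nat_lit 4) (Dv.wd (nat_lit 11) [Mv.b (nat_lit 11), Mv.f (nat_lit 103), Mv.f (nat_lit 11)])))
(Tr.lf (Fc.ed (nat_lit 105) (nat_lit 5) Col.l (nat_lit 5) (Dv.wd (nat_lit 12) [Mv.b (nat_lit 12), Mv.f (nat_lit 104), Mv.f (nat_lit 12)]))))))
(Tr.nd (nat_lit 108) (Tr.nd (nat_lit 107) (Tr.lf (Fc.ed (nat_lit 106) (nat_lit 6) Col.l (nat_lit 6) (Dv.wd (nat_lit 65) [Mv.b (nat_lit 13), Mv.f (nat_lit 105), Mv.f (nat_lit 13)])))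
(Tr.lf (Fc.ed (nat_lit 107) (nat_lit 22) Col.k (nat_lit 22) (Dv.wd (nat_lit 66) [Mv.f (nat_lit 30), Mv.b (nat_lit 14), Mv.f (nat_lit 106), Mv.f (nat_lit 14), Mv.b (nat_lit 30)]))))
(Tr.nd (nat_lit 109) (Tr.lf (Fc.ed (nat_lit 108) (nat_lit 21) Col.k (nat_lit 21) (Dv.wd (nat_lit 67) [Mv.f (nat_lit 29), Mv.f (nat_lit 107), Mv.b (nat_lit 29)])))
(Tr.nd (nat_lit 110) (Tr.lf (Fc.ed (nat_lit 109) (nat_lit 20) Col.k (nat_lit 20) (Dv.wd (nat_lit 56) [Mv.f (nat_lit 28), Mv.f (nat_lit 108), Mv.b (nat_lit 28)])))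
(Tr.lf (Fc.ed (nat_lit 110) (nat_lit 19) Col.k (nat_lit 19) (Dv.wd (nat_lit 57) [Mv.f (nat_lit 27), Mv.f (nat_lit 109), Mv.b (nat_lit 27)])))))))
(Tr.nd (nat_lit 116) (Tr.nd (nat_lit 113) (Tr.nd (nat_lit 112) (Tr.lf (Fc.ed (nat_lit 111) (nat_lit 18) Col.k (nat_lit 18) (Dv.wd (nat_lit 58) [Mv.f (nat_lit 26), Mv.f (nat_lit 110), Mv.b (nat_lit 26)])))
(Tr.lf (Fc.ed (nat_lit 112) (nat_lit 17) Col.k (nat_lit 17) (Dv.wd (nat_lit 55) [Mv.f (nat_lit 25), Mv.f (nat_lit 111), Mv.b (nat_lit 25)]))))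
(Tr.nd (nat_lit 114) (Tr.lf (Fc.ed (nat_lit 113) (nat_lit 16) Col.k (nat_lit 16) (Dv.wd (nat_lit 56) [Mv.f (nat_lit 24), Mv.f (nat_lit 112), Mv.b (nat_lit 24)])))
(Tr.nd (nat_lit 115) (Tr.lf (Fc.ed (nat_lit 114) (nat_lit 15) Col.k (nat_lit 15) (Dv.wd (nat_lit 67) [Mv.f (nat_lit 23), Mv.f (nat_lit 113), Mv.b (nat_lit 23)])))
(Tr.lf (Fc.ed (nat_lit 115) (nat_lit 14) Col.k (nat_lit 14) (Dv.wd (nat_lit 57) [Mv.f (nat_lit 22), Mv.f (nat_lit 114), Mv.b (nat_lit 22)]))))))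
(Tr.nd (nat_lit 119) (Tr.nd (nat_lit 117) (Tr.lf (Fc.ed (nat_lit 116) (nat_lit 13) Col.k (nat_lit 13) (Dv.wd (nat_lit 56) [Mv.f (nat_lit 21), Mv.f (nat_lit 115), Mv.b (nat_lit 21)])))
(Tr.nd (nat_lit 118) (Tr.lf (Fc.ed (nat_lit 117) (nat_lit 12) Col.k (nat_lit 12) (Dv.wd (nat_lit 55) [Mv.f (nat_lit 20), Mv.f (nat_lit 116), Mv.b (nat_lit 20)])))
(Tr.lf (Fc.ed (nat_lit 118) (nat_lit 4) Col.e (nat_lit 23) Dv.df))))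
(Tr.nd (nat_lit 120) (Tr.lf (Fc.ed (nat_lit 119) (nat_lit 23) Col.l (nat_lit 23) (Dv.wd (nat_lit 68) [Mv.b (nat_lit 118), Mv.f (nat_lit 104), Mv.f (nat_lit 118)])))
(Tr.nd (nat_lit 121) (Tr.lf (Fc.ed (nat_lit 120) (nat_lit 23) Col.k (nat_lit 23) (Dv.wd (nat_lit 69) [Mv.b (nat_lit 118), Mv.f (nat_lit 93), Mv.f (nat_lit 118)])))
(Tr.lf (Fc.ed (nat_lit 121) (nat_lit 23) Col.a (nat_lit 23) (Dv.wd (nat_lit 70) [Mv.b (nat_lit 118), Mv.f (nat_lit 79), Mv.f (nat_lit 118)])))))))))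
(Tr.nd (nat_lit 142) (Tr.nd (nat_lit 132) (Tr.nd (nat_lit 127) (Tr.nd (nat_lit 124) (Tr.nd (nat_lit 123) (Tr.lf (Fc.ed (nat_lit 122) (nat_lit 23) Col.h (nat_lit 23) (Dv.wd (nat_lit 71) [Mv.b (nat_lit 118), Mv.f (nat_lit 58), Mv.f (nat_lit 118)])))
(Tr.lf (Fc.ed (nat_lit 123) (nat_lit 23) Col.i (nat_lit 23) (Dv.wd (nat_lit 19) [Mv.b (nat_lit 118), Mv.f (nat_lit 37), Mv.f (nat_lit 118)]))))
(Tr.nd (nat_lit 125) (Tr.lf (Fc.ed (nat_lit 124) (nat_lit 23) Col.d (nat_lit 24) Dv.df))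
(Tr.nd (nat_lit 126) (Tr.lf (Fc.ed (nat_lit 125) (nat_lit 24) Col.l (nat_lit 24) (Dv.wd (nat_lit 72) [Mv.b (nat_lit 124), Mv.f (nat_lit 119), Mv.f (nat_lit 124)])))
(Tr.lf (Fc.ed (nat_lit 126) (nat_lit 24) Col.k (nat_lit 24) (Dv.wd (nat_lit 73) [Mv.b (nat_lit 124), Mv.f (nat_lit 120), Mv.f (nat_lit 124)]))))))
(Tr.nd (nat_lit 129) (Tr.nd (nat_lit 128) (Tr.lf (Fc.ed (nat_lit 127) (nat_lit 24) Col.a (nat_lit 24) (Dv.wd (nat_lit 74) [Mv.b (nat_lit 124), Mv.f (nat_lit 121), Mv.f (nat_lit 124)])))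
(Tr.lf (Fc.ed (nat_lit 128) (nat_lit 24) Col.i (nat_lit 24) (Dv.wd (nat_lit 14) [Mv.b (nat_lit 124), Mv.f (nat_lit 123), Mv.f (nat_lit 124)]))))
(Tr.nd (nat_lit 130) (Tr.lf (Fc.ed (nat_lit 129) (nat_lit 24) Col.e (nat_lit 24) (Dv.wd (nat_lit 75) [Mv.b (nat_lit 124), Mv.b (nat_lit 118), Mv.f (nat_lit 60), Mv.f (nat_lit 118), Mv.f (nat_lit 124)])))
(Tr.nd (nat_lit 131) (Tr.lf (Fc.ed (nat_lit 130) (nat_lit 24) Col.f (nat_lit 25) Dv.df))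
(Tr.lf (Fc.ed (nat_lit 131) (nat_lit 25) Col.l (nat_lit 25) (Dv.wd (nat_lit 76) [Mv.b (nat_lit 130), Mv.f (nat_lit 125), Mv.f (nat_lit 130)])))))))
(Tr.nd (nat_lit 137) (Tr.nd (nat_lit 134) (Tr.nd (nat_lit 133) (Tr.lf (Fc.ed (nat_lit 132) (nat_lit 25) Col.k (nat_lit 25) (Dv.wd (nat_lit 77) [Mv.b (nat_lit 130), Mv.f (nat_lit 126), Mv.f (nat_lit 130)])))
(Tr.lf (Fc.ed (nat_lit 133) (nat_lit 25) Col.a (nat_lit 25) (Dv.wd (nat_lit 78) [Mv.b (nat_lit 130), Mv.f (nat_lit 127), Mv.f (nat_lit 130)]))))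
(Tr.nd (nat_lit 135) (Tr.lf (Fc.ed (nat_lit 134) (nat_lit 25) Col.i (nat_lit 25) (Dv.wd (nat_lit 79) [Mv.b (nat_lit 130), Mv.f (nat_lit 128), Mv.f (nat_lit 130)])))
(Tr.nd (nat_lit 136) (Tr.lf (Fc.ed (nat_lit 135) (nat_lit 25) Col.e (nat_lit 26) Dv.df))
(Tr.lf (Fc.ed (nat_lit 136) (nat_lit 26) Col.l (nat_lit 26) (Dv.wd (nat_lit 68) [Mv.b (nat_lit 135), Mv.f (nat_lit 131), Mv.f (nat_lit 135)]))))))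
(Tr.nd (nat_lit 139) (Tr.nd (nat_lit 138) (Tr.lf (Fc.ed (nat_lit 137) (nat_lit 26) Col.k (nat_lit 26) (Dv.wd (nat_lit 69) [Mv.b (nat_lit 135), Mv.f (nat_lit 132), Mv.f (nat_lit 135)])))
(Tr.lf (Fc.ed (nat_lit 138) (nat_lit 26) Col.a (nat_lit 26) (Dv.wd (nat_lit 70) [Mv.b (nat_lit 135), Mv.f (nat_lit 133), Mv.f (nat_lit 135)]))))
(Tr.nd (nat_lit 140) (Tr.lf (Fc.ed (nat_lit 139) (nat_lit 26) Col.i (nat_lit 26) (Dv.wd (nat_lit 19) [Mv.b (nat_lit 135), Mv.f (nat_lit 134), Mv.f (nat_lit 135)])))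
(Tr.nd (nat_lit 141) (Tr.lf (Fc.ed (nat_lit 140) (nat_lit 26) Col.f (nat_lit 26) (Dv.wd (nat_lit 80) [Mv.b (nat_lit 135), Mv.b (nat_lit 130), Mv.f (nat_lit 129), Mv.f (nat_lit 130), Mv.f (nat_lit 135)])))
(Tr.lf (Fc.ed (nat_lit 141) (nat_lit 26) Col.h (nat_lit 27) Dv.df)))))))
(Tr.nd (nat_lit 152) (Tr.nd (nat_lit 147) (Tr.nd (nat_lit 144) (Tr.nd (nat_lit 143) (Tr.lf (Fc.ed (nat_lit 142) (nat_lit 27) Col.l (nat_lit 27) (Dv.wd (nat_lit 81) [Mv.b (nat_lit 141), Mv.f (nat_lit 136), Mv.f (nat_lit 141)])))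
(Tr.lf (Fc.ed (nat_lit 143) (nat_lit 27) Col.k (nat_lit 27) (Dv.wd (nat_lit 82) [Mv.b (nat_lit 141), Mv.f (nat_lit 137), Mv.f (nat_lit 141)]))))
(Tr.nd (nat_lit 145) (Tr.lf (Fc.ed (nat_lit 144) (nat_lit 27) Col.a (nat_lit 27) (Dv.wd (nat_lit 83) [Mv.b (nat_lit 141), Mv.f (nat_lit 138), Mv.f (nat_lit 141)])))
(Tr.nd (nat_lit 146) (Tr.lf (Fc.ed (nat_lit 145) (nat_lit 27) Col.f (nat_lit 27) (Dv.wd (nat_lit 84) [Mv.b (nat_lit 141), Mv.f (nat_lit 140), Mv.f (nat_lit 141)])))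
(Tr.lf (Fc.ed (nat_lit 146) (nat_lit 27) Col.d (nat_lit 28) Dv.df)))))
(Tr.nd (nat_lit 149) (Tr.nd (nat_lit 148) (Tr.lf (Fc.ed (nat_lit 147) (nat_lit 28) Col.l (nat_lit 28) (Dv.wd (nat_lit 72) [Mv.b (nat_lit 146), Mv.f (nat_lit 142), Mv.f (nat_lit 146)])))
(Tr.lf (Fc.ed (nat_lit 148) (nat_lit 28) Col.k (nat_lit 28) (Dv.wd (nat_lit 73) [Mv.b (nat_lit 146), Mv.f (nat_lit 143), Mv.f (nat_lit 146)]))))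
(Tr.nd (nat_lit 150) (Tr.lf (Fc.ed (nat_lit 149) (nat_lit 28) Col.a (nat_lit 28) (Dv.wd (nat_lit 74) [Mv.b (nat_lit 146), Mv.f (nat_lit 144), Mv.f (nat_lit 146)])))
(Tr.nd (nat_lit 151) (Tr.lf (Fc.ed (nat_lit 150) (nat_lit 28) Col.f (nat_lit 28) (Dv.wd (nat_lit 28) [Mv.b (nat_lit 146), Mv.f (nat_lit 145), Mv.f (nat_lit 146)])))
(Tr.lf (Fc.ed (nat_lit 151) (nat_lit 28) Col.c (nat_lit 29) Dv.df))))))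
(Tr.nd (nat_lit 157) (Tr.nd (nat_lit 154) (Tr.nd (nat_lit 153) (Tr.lf (Fc.ed (nat_lit 152) (nat_lit 29) Col.l (nat_lit 29) (Dv.wd (nat_lit 85) [Mv.b (nat_lit 151), Mv.f (nat_lit 147), Mv.f (nat_lit 151)])))
(Tr.lf (Fc.ed (nat_lit 153) (nat_lit 29) Col.k (nat_lit 29) (Dv.wd (nat_lit 86) [Mv.b (nat_lit 151), Mv.f (nat_lit 148), Mv.f (nat_lit 151)]))))
(Tr.nd (nat_lit 155) (Tr.lf (Fc.ed (nat_lit 154) (nat_lit 29) Col.a (nat_lit 29) (Dv.wd (nat_lit 87) [Mv.b (nat_lit 151), Mv.f (nat_lit 149), Mv.f (nat_lit 151)])))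
(Tr.nd (nat_lit 156) (Tr.lf (Fc.ed (nat_lit 155) (nat_lit 29) Col.f (nat_lit 29) (Dv.wd (nat_lit 29) [Mv.b (nat_lit 151), Mv.f (nat_lit 150), Mv.f (nat_lit 151)])))
(Tr.lf (Fc.ed (nat_lit 156) (nat_lit 29) Col.b (nat_lit 30) Dv.df)))))
(Tr.nd (nat_lit 160) (Tr.nd (nat_lit 158) (Tr.lf (Fc.ed (nat_lit 157) (nat_lit 30) Col.l (nat_lit 30) (Dv.wd (nat_lit 88) [Mv.b (nat_lit 156), Mv.f (nat_lit 152), Mv.f (nat_lit 156)])))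
(Tr.nd (nat_lit 159) (Tr.lf (Fc.ed (nat_lit 158) (nat_lit 30) Col.k (nat_lit 30) (Dv.wd (nat_lit 89) [Mv.b (nat_lit 156), Mv.f (nat_lit 153), Mv.f (nat_lit 156)])))
(Tr.lf (Fc.ed (nat_lit 159) (nat_lit 30) Col.f (nat_lit 30) (Dv.wd (nat_lit 90) [Mv.b (nat_lit 156), Mv.f (nat_lit 155), Mv.f (nat_lit 156)])))))
(Tr.nd (nat_lit 161) (Tr.lf (Fc.ed (nat_lit 160) (nat_lit 30) Col.i (nat_lit 31) Dv.df))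
(Tr.nd (nat_lit 162) (Tr.lf (Fc.ed (nat_lit 161) (nat_lit 31) Col.l (nat_lit 31) (Dv.wd (nat_lit 20) [Mv.b (nat_lit 160), Mv.f (nat_lit 157), Mv.f (nat_lit 160)])))
(Tr.lf (Fc.ed (nat_lit 162) (nat_lit 31) Col.k (nat_lit 31) (Dv.wd (nat_lit 21) [Mv.b (nat_lit 160), Mv.f (nat_lit 158), Mv.f (nat_lit 160)])))))))))))
(Tr.nd (nat_lit 245) (Tr.nd (nat_lit 204) (Tr.nd (nat_lit 183) (Tr.nd (nat_lit 173) (Tr.nd (nat_lit 168) (Tr.nd (nat_lit 165) (Tr.nd (nat_lit 164) (Tr.lf (Fc.ed (nat_lit 163) (nat_lit 31) Col.f (nat_lit 31) (Dv.wd (nat_lit 26) [Mv.b (nat_lit 160), Mv.f (nat_lit 159), Mv.f (nat_lit 160)])))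
(Tr.lf (Fc.ed (nat_lit 164) (nat_lit 31) Col.h (nat_lit 32) Dv.df)))
(Tr.nd (nat_lit 166) (Tr.lf (Fc.ed (nat_lit 165) (nat_lit 32) Col.l (nat_lit 32) (Dv.wd (nat_lit 81) [Mv.b (nat_lit 164), Mv.f (nat_lit 161), Mv.f (nat_lit 164)])))
(Tr.nd (nat_lit 167) (Tr.lf (Fc.ed (nat_lit 166) (nat_lit 32) Col.k (nat_lit 32) (Dv.wd (nat_lit 82) [Mv.b (nat_lit 164), Mv.f (nat_lit 162), Mv.f (nat_lit 164)])))
(Tr.lf (Fc.ed (nat_lit 167) (nat_lit 32) Col.f (nat_lit 32) (Dv.wd (nat_lit 84) [Mv.b (nat_lit 164), Mv.f (nat_lit 163), Mv.f (nat_lit 164)]))))))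
(Tr.nd (nat_lit 170) (Tr.nd (nat_lit 169) (Tr.lf (Fc.ed (nat_lit 168) (nat_lit 32) Col.d (nat_lit 33) Dv.df))
(Tr.lf (Fc.ed (nat_lit 169) (nat_lit 33) Col.l (nat_lit 33) (Dv.wd (nat_lit 72) [Mv.b (nat_lit 168), Mv.f (nat_lit 165), Mv.f (nat_lit 168)]))))
(Tr.nd (nat_lit 171) (Tr.lf (Fc.ed (nat_lit 170) (nat_lit 33) Col.k (nat_lit 33) (Dv.wd (nat_lit 73) [Mv.b (nat_lit 168), Mv.f (nat_lit 166), Mv.f (nat_lit 168)])))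
(Tr.nd (nat_lit 172) (Tr.lf (Fc.ed (nat_lit 171) (nat_lit 33) Col.f (nat_lit 33) (Dv.wd (nat_lit 28) [Mv.b (nat_lit 168), Mv.f (nat_lit 167), Mv.f (nat_lit 168)])))
(Tr.lf (Fc.ed (nat_lit 172) (nat_lit 33) Col.c (nat_lit 34) Dv.df))))))
(Tr.nd (nat_lit 178) (Tr.nd (nat_lit 175) (Tr.nd (nat_lit 174) (Tr.lf (Fc.ed (nat_lit 173) (nat_lit 34) Col.l (nat_lit 34) (Dv.wd (nat_lit 85) [Mv.b (nat_lit 172), Mv.f (nat_lit 169), Mv.f (nat_lit 172)])))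
(Tr.lf (Fc.ed (nat_lit 174) (nat_lit 34) Col.k (nat_lit 34) (Dv.wd (nat_lit 86) [Mv.b (nat_lit 172), Mv.f (nat_lit 170), Mv.f (nat_lit 172)]))))
(Tr.nd (nat_lit 176) (Tr.lf (Fc.ed (nat_lit 175) (nat_lit 34) Col.f (nat_lit 34) (Dv.wd (nat_lit 29) [Mv.b (nat_lit 172), Mv.f (nat_lit 171), Mv.f (nat_lit 172)])))
(Tr.nd (nat_lit 177) (Tr.lf (Fc.ed (nat_lit 176) (nat_lit 34) Col.e (nat_lit 35) Dv.df))
(Tr.lf (Fc.ed (nat_lit 177) (nat_lit 35) Col.l (nat_lit 35) (Dv.wd (nat_lit 68) [Mv.b (nat_lit 176), Mv.f (nat_lit 173), Mv.f (nat_lit 176)]))))))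
(Tr.nd (nat_lit 180) (Tr.nd (nat_lit 179) (Tr.lf (Fc.ed (nat_lit 178) (nat_lit 35) Col.k (nat_lit 35) (Dv.wd (nat_lit 69) [Mv.b (nat_lit 176), Mv.f (nat_lit 174), Mv.f (nat_lit 176)])))
(Tr.lf (Fc.ed (nat_lit 179) (nat_lit 35) Col.d (nat_lit 36) Dv.df)))
(Tr.nd (nat_lit 181) (Tr.lf (Fc.ed (nat_lit 180) (nat_lit 36) Col.l (nat_lit 36) (Dv.wd (nat_lit 72) [Mv.b (nat_lit 179), Mv.f (nat_lit 177), Mv.f (nat_lit 179)])))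
(Tr.nd (nat_lit 182) (Tr.lf (Fc.ed (nat_lit 181) (nat_lit 36) Col.k (nat_lit 36) (Dv.wd (nat_lit 73) [Mv.b (nat_lit 179), Mv.f (nat_lit 178), Mv.f (nat_lit 179)])))
(Tr.lf (Fc.ed (nat_lit 182) (nat_lit 36) Col.h (nat_lit 37) Dv.df)))))))
(Tr.nd (nat_lit 193) (Tr.nd (nat_lit 188) (Tr.nd (nat_lit 185) (Tr.nd (nat_lit 184) (Tr.lf (Fc.ed (nat_lit 183) (nat_lit 37) Col.l (nat_lit 37) (Dv.wd (nat_lit 81) [Mv.b (nat_lit 182), Mv.f (nat_lit 180), Mv.f (nat_lit 182)])))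
(Tr.lf (Fc.ed (nat_lit 184) (nat_lit 37) Col.k (nat_lit 37) (Dv.wd (nat_lit 82) [Mv.b (nat_lit 182), Mv.f (nat_lit 181), Mv.f (nat_lit 182)]))))
(Tr.nd (nat_lit 186) (Tr.lf (Fc.ed (nat_lit 185) (nat_lit 37) Col.i (nat_lit 38) Dv.df))
(Tr.nd (nat_lit 187) (Tr.lf (Fc.ed (nat_lit 186) (nat_lit 38) Col.l (nat_lit 38) (Dv.wd (nat_lit 20) [Mv.b (nat_lit 185), Mv.f (nat_lit 183), Mv.f (nat_lit 185)])))
(Tr.lf (Fc.ed (nat_lit 187) (nat_lit 38) Col.k (nat_lit 38) (Dv.wd (nat_lit 21) [Mv.b (nat_lit 185), Mv.f (nat_lit 184), Mv.f (nat_lit 185)]))))))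
(Tr.nd (nat_lit 190) (Tr.nd (nat_lit 189) (Tr.lf (Fc.ed (nat_lit 188) (nat_lit 38) Col.f (nat_lit 39) Dv.df))
(Tr.lf (Fc.ed (nat_lit 189) (nat_lit 39) Col.k (nat_lit 39) (Dv.wd (nat_lit 77) [Mv.b (nat_lit 188), Mv.f (nat_lit 187), Mv.f (nat_lit 188)]))))
(Tr.nd (nat_lit 191) (Tr.lf (Fc.ed (nat_lit 190) (nat_lit 39) Col.e (nat_lit 40) Dv.df))
(Tr.nd (nat_lit 192) (Tr.lf (Fc.ed (nat_lit 191) (nat_lit 40) Col.k (nat_lit 40) (Dv.wd (nat_lit 69) [Mv.b (nat_lit 190), Mv.f (nat_lit 189), Mv.f (nat_lit 190)])))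
(Tr.lf (Fc.ed (nat_lit 192) (nat_lit 40) Col.d (nat_lit 41) Dv.df))))))
(Tr.nd (nat_lit 198) (Tr.nd (nat_lit 195) (Tr.nd (nat_lit 194) (Tr.lf (Fc.ed (nat_lit 193) (nat_lit 41) Col.k (nat_lit 41) (Dv.wd (nat_lit 73) [Mv.b (nat_lit 192), Mv.f (nat_lit 191), Mv.f (nat_lit 192)])))
(Tr.lf (Fc.ed (nat_lit 194) (nat_lit 41) Col.h (nat_lit 42) Dv.df)))
(Tr.nd (nat_lit 196) (Tr.lf (Fc.ed (nat_lit 195) (nat_lit 42) Col.c (nat_lit 43) Dv.df))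
(Tr.nd (nat_lit 197) (Tr.lf (Fc.ed (nat_lit 196) (nat_lit 43) Col.d (nat_lit 44) Dv.df))
(Tr.lf (Fc.ed (nat_lit 197) (nat_lit 44) Col.e (nat_lit 45) Dv.df)))))
(Tr.nd (nat_lit 201) (Tr.nd (nat_lit 199) (Tr.lf (Fc.ed (nat_lit 198) (nat_lit 3) Col.e (nat_lit 46) Dv.df))
(Tr.nd (nat_lit 200) (Tr.lf (Fc.ed (nat_lit 199) (nat_lit 46) Col.c (nat_lit 23) (Dv.wd (nat_lit 91) [Mv.b (nat_lit 118), Mv.b (nat_lit 11), Mv.f (nat_lit 198)])))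
(Tr.lf (Fc.ed (nat_lit 200) (nat_lit 46) Col.d (nat_lit 46) (Dv.wd (nat_lit 92) [Mv.b (nat_lit 198), Mv.b (nat_lit 10), Mv.f (nat_lit 56), Mv.f (nat_lit 10), Mv.f (nat_lit 198)])))))
(Tr.nd (nat_lit 202) (Tr.lf (Fc.ed (nat_lit 201) (nat_lit 24) Col.c (nat_lit 24) (Dv.wd (nat_lit 44) [Mv.b (nat_lit 124), Mv.b (nat_lit 199), Mv.f (nat_lit 200), Mv.f (nat_lit 199), Mv.f (nat_lit 124)])))
(Tr.nd (nat_lit 203) (Tr.lf (Fc.ed (nat_lit 202) (nat_lit 25) Col.c (nat_lit 25) (Dv.wd (nat_lit 93) [Mv.b (nat_lit 130), Mv.f (nat_lit 201), Mv.f (nat_lit 130)])))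
(Tr.lf (Fc.ed (nat_lit 203) (nat_lit 26) Col.c (nat_lit 26) (Dv.wd (nat_lit 54) [Mv.b (nat_lit 135), Mv.f (nat_lit 202), Mv.f (nat_lit 135)])))))))))
(Tr.nd (nat_lit 224) (Tr.nd (nat_lit 214) (Tr.nd (nat_lit 209) (Tr.nd (nat_lit 206) (Tr.nd (nat_lit 205) (Tr.lf (Fc.ed (nat_lit 204) (nat_lit 27) Col.c (nat_lit 27) (Dv.wd (nat_lit 33) [Mv.b (nat_lit 141), Mv.f (nat_lit 203), Mv.f (nat_lit 141)])))
(Tr.lf (Fc.ed (nat_lit 205) (nat_lit 29) Col.d (nat_lit 29) (Dv.wd (nat_lit 34) [Mv.b (nat_lit 151), Mv.b (nat_lit 146), Mv.f (nat_lit 204), Mv.f (nat_lit 146), Mv.f (nat_lit 151)]))))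
(Tr.nd (nat_lit 207) (Tr.lf (Fc.ed (nat_lit 206) (nat_lit 30) Col.d (nat_lit 30) (Dv.wd (nat_lit 35) [Mv.b (nat_lit 156), Mv.f (nat_lit 205), Mv.f (nat_lit 156)])))
(Tr.nd (nat_lit 208) (Tr.lf (Fc.ed (nat_lit 207) (nat_lit 31) Col.d (nat_lit 31) (Dv.wd (nat_lit 94) [Mv.b (nat_lit 160), Mv.f (nat_lit 206), Mv.f (nat_lit 160)])))
(Tr.lf (Fc.ed (nat_lit 208) (nat_lit 33) Col.h (nat_lit 33) (Dv.wd (nat_lit 31) [Mv.b (nat_lit 168), Mv.b (nat_lit 164), Mv.f (nat_lit 207), Mv.f (nat_lit 164), Mv.f (nat_lit 168)]))))))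
(Tr.nd (nat_lit 211) (Tr.nd (nat_lit 210) (Tr.lf (Fc.ed (nat_lit 209) (nat_lit 34) Col.h (nat_lit 34) (Dv.wd (nat_lit 32) [Mv.b (nat_lit 172), Mv.f (nat_lit 208), Mv.f (nat_lit 172)])))
(Tr.lf (Fc.ed (nat_lit 210) (nat_lit 35) Col.h (nat_lit 35) (Dv.wd (nat_lit 71) [Mv.b (nat_lit 176), Mv.f (nat_lit 209), Mv.f (nat_lit 176)]))))
(Tr.nd (nat_lit 212) (Tr.lf (Fc.ed (nat_lit 211) (nat_lit 37) Col.d (nat_lit 37) (Dv.wd (nat_lit 95) [Mv.b (nat_lit 182), Mv.b (nat_lit 179), Mv.f (nat_lit 210), Mv.f (nat_lit 179), Mv.f (nat_lit 182)])))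
(Tr.nd (nat_lit 213) (Tr.lf (Fc.ed (nat_lit 212) (nat_lit 38) Col.d (nat_lit 38) (Dv.wd (nat_lit 94) [Mv.b (nat_lit 185), Mv.f (nat_lit 211), Mv.f (nat_lit 185)])))
(Tr.lf (Fc.ed (nat_lit 213) (nat_lit 39) Col.d (nat_lit 39) (Dv.wd (nat_lit 96) [Mv.b (nat_lit 188), Mv.f (nat_lit 212), Mv.f (nat_lit 188)])))))))
(Tr.nd (nat_lit 219) (Tr.nd (nat_lit 216) (Tr.nd (nat_lit 215) (Tr.lf (Fc.ed (nat_lit 214) (nat_lit 41) Col.e (nat_lit 41) (Dv.wd (nat_lit 38) [Mv.b (nat_lit 192), Mv.b (nat_lit 190), Mv.f (nat_lit 213), Mv.f (nat_lit 190), Mv.f (nat_lit 192)])))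
(Tr.lf (Fc.ed (nat_lit 215) (nat_lit 42) Col.e (nat_lit 42) (Dv.wd (nat_lit 30) [Mv.b (nat_lit 194), Mv.f (nat_lit 214), Mv.f (nat_lit 194)]))))
(Tr.nd (nat_lit 217) (Tr.lf (Fc.ed (nat_lit 216) (nat_lit 5) Col.e (nat_lit 47) Dv.df))
(Tr.nd (nat_lit 218) (Tr.lf (Fc.ed (nat_lit 217) (nat_lit 47) Col.b (nat_lit 23) (Dv.wd (nat_lit 97) [Mv.b (nat_lit 118), Mv.f (nat_lit 12), Mv.f (nat_lit 216)])))
(Tr.lf (Fc.ed (nat_lit 218) (nat_lit 47) Col.c (nat_lit 47) (Dv.wd (nat_lit 91) [Mv.b (nat_lit 216), Mv.f (nat_lit 82), Mv.f (nat_lit 216)]))))))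
(Tr.nd (nat_lit 221) (Tr.nd (nat_lit 220) (Tr.lf (Fc.ed (nat_lit 219) (nat_lit 6) Col.e (nat_lit 48) Dv.df))
(Tr.lf (Fc.ed (nat_lit 220) (nat_lit 48) Col.k (nat_lit 8) (Dv.wd (nat_lit 69) [Mv.b (nat_lit 15), Mv.b (nat_lit 14), Mv.f (nat_lit 219)]))))
(Tr.nd (nat_lit 222) (Tr.lf (Fc.ed (nat_lit 221) (nat_lit 48) Col.a (nat_lit 47) (Dv.wd (nat_lit 70) [Mv.b (nat_lit 216), Mv.f (nat_lit 13), Mv.f (nat_lit 219)])))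
(Tr.nd (nat_lit 223) (Tr.lf (Fc.ed (nat_lit 222) (nat_lit 9) Col.k (nat_lit 49) Dv.df))
(Tr.lf (Fc.ed (nat_lit 223) (nat_lit 49) Col.d (nat_lit 48) (Dv.wd (nat_lit 37) [Mv.f (nat_lit 220), Mv.f (nat_lit 16), Mv.f (nat_lit 222)]))))))))
(Tr.nd (nat_lit 234) (Tr.nd (nat_lit 229) (Tr.nd (nat_lit 226) (Tr.nd (nat_lit 225) (Tr.lf (Fc.ed (nat_lit 224) (nat_lit 9) Col.f (nat_lit 50) Dv.df))
(Tr.lf (Fc.ed (nat_lit 225) (nat_lit 50) Col.i (nat_lit 50) (Dv.wd (nat_lit 79) [Mv.b (nat_lit 224), Mv.f (nat_lit 42), Mv.f (nat_lit 224)]))))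
(Tr.nd (nat_lit 227) (Tr.lf (Fc.ed (nat_lit 226) (nat_lit 10) Col.k (nat_lit 51) Dv.df))
(Tr.nd (nat_lit 228) (Tr.lf (Fc.ed (nat_lit 227) (nat_lit 51) Col.c (nat_lit 49) (Dv.wd (nat_lit 53) [Mv.b (nat_lit 222), Mv.f (nat_lit 17), Mv.f (nat_lit 226)])))
(Tr.lf (Fc.ed (nat_lit 228) (nat_lit 10) Col.f (nat_lit 52) Dv.df)))))
(Tr.nd (nat_lit 231) (Tr.nd (nat_lit 230) (Tr.lf (Fc.ed (nat_lit 229) (nat_lit 52) Col.c (nat_lit 50) (Dv.wd (nat_lit 98) [Mv.b (nat_lit 224), Mv.f (nat_lit 17), Mv.f (nat_lit 228)])))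
(Tr.lf (Fc.ed (nat_lit 230) (nat_lit 10) Col.h (nat_lit 53) Dv.df)))
(Tr.nd (nat_lit 232) (Tr.lf (Fc.ed (nat_lit 231) (nat_lit 11) Col.k (nat_lit 54) Dv.df))
(Tr.nd (nat_lit 233) (Tr.lf (Fc.ed (nat_lit 232) (nat_lit 54) Col.b (nat_lit 51) (Dv.wd (nat_lit 49) [Mv.b (nat_lit 226), Mv.f (nat_lit 18), Mv.f (nat_lit 231)])))
(Tr.lf (Fc.ed (nat_lit 233) (nat_lit 54) Col.e (nat_lit 54) (Dv.wd (nat_lit 99) [Mv.b (nat_lit 231), Mv.f (nat_lit 66), Mv.f (nat_lit 231)])))))))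
(Tr.nd (nat_lit 239) (Tr.nd (nat_lit 236) (Tr.nd (nat_lit 235) (Tr.lf (Fc.ed (nat_lit 234) (nat_lit 54) Col.i (nat_lit 54) (Dv.wd (nat_lit 18) [Mv.b (nat_lit 231), Mv.f (nat_lit 44), Mv.f (nat_lit 231)])))
(Tr.lf (Fc.ed (nat_lit 235) (nat_lit 54) Col.a (nat_lit 54) (Dv.wd (nat_lit 100) [Mv.b (nat_lit 231), Mv.f (nat_lit 19), Mv.f (nat_lit 117), Mv.b (nat_lit 19), Mv.f (nat_lit 231)]))))
(Tr.nd (nat_lit 237) (Tr.lf (Fc.ed (nat_lit 236) (nat_lit 11) Col.h (nat_lit 55) Dv.df))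
(Tr.nd (nat_lit 238) (Tr.lf (Fc.ed (nat_lit 237) (nat_lit 55) Col.l (nat_lit 17) (Dv.wd (nat_lit 81) [Mv.f (nat_lit 25), Mv.f (nat_lit 34), Mv.f (nat_lit 236)])))
(Tr.lf (Fc.ed (nat_lit 238) (nat_lit 55) Col.a (nat_lit 13) (Dv.wd (nat_lit 83) [Mv.b (nat_lit 20), Mv.b (nat_lit 19), Mv.f (nat_lit 236)]))))))
(Tr.nd (nat_lit 242) (Tr.nd (nat_lit 240) (Tr.lf (Fc.ed (nat_lit 239) (nat_lit 55) Col.b (nat_lit 53) (Dv.wd (nat_lit 101) [Mv.b (nat_lit 230), Mv.f (nat_lit 18), Mv.f (nat_lit 236)])))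
(Tr.nd (nat_lit 241) (Tr.lf (Fc.ed (nat_lit 240) (nat_lit 12) Col.l (nat_lit 56) Dv.df))
(Tr.lf (Fc.ed (nat_lit 241) (nat_lit 56) Col.i (nat_lit 56) (Dv.wd (nat_lit 102) [Mv.b (nat_lit 240), Mv.f (nat_lit 45), Mv.f (nat_lit 240)])))))
(Tr.nd (nat_lit 243) (Tr.lf (Fc.ed (nat_lit 242) (nat_lit 12) Col.f (nat_lit 57) Dv.df))
(Tr.nd (nat_lit 244) (Tr.lf (Fc.ed (nat_lit 243) (nat_lit 57) Col.i (nat_lit 57) (Dv.wd (nat_lit 79) [Mv.b (nat_lit 242), Mv.f (nat_lit 45), Mv.f (nat_lit 242)])))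
(Tr.lf (Fc.ed (nat_lit 244) (nat_lit 13) Col.l (nat_lit 58) Dv.df)))))))))
(Tr.nd (nat_lit 286) (Tr.nd (nat_lit 265) (Tr.nd (nat_lit 255) (Tr.nd (nat_lit 250) (Tr.nd (nat_lit 247) (Tr.nd (nat_lit 246) (Tr.lf (Fc.ed (nat_lit 245) (nat_lit 58) Col.a (nat_lit 17) (Dv.wd (nat_lit 103) [Mv.b (nat_lit 237), Mv.f (nat_lit 238), Mv.f (nat_lit 244)])))
(Tr.lf (Fc.ed (nat_lit 246) (nat_lit 58) Col.e (nat_lit 58) (Dv.wd (nat_lit 41) [Mv.b (nat_lit 244), Mv.f (nat_lit 69), Mv.f (nat_lit 244)]))))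
(Tr.nd (nat_lit 248) (Tr.lf (Fc.ed (nat_lit 247) (nat_lit 58) Col.h (nat_lit 56) (Dv.wd (nat_lit 104) [Mv.b (nat_lit 240), Mv.f (nat_lit 20), Mv.f (nat_lit 244)])))
(Tr.nd (nat_lit 249) (Tr.lf (Fc.ed (nat_lit 248) (nat_lit 13) Col.f (nat_lit 59) Dv.df))
(Tr.lf (Fc.ed (nat_lit 249) (nat_lit 59) Col.h (nat_lit 57) (Dv.wd (nat_lit 105) [Mv.b (nat_lit 242), Mv.f (nat_lit 20), Mv.f (nat_lit 248)]))))))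
(Tr.nd (nat_lit 252) (Tr.nd (nat_lit 251) (Tr.lf (Fc.ed (nat_lit 250) (nat_lit 14) Col.l (nat_lit 60) Dv.df))
(Tr.lf (Fc.ed (nat_lit 251) (nat_lit 60) Col.b (nat_lit 60) (Dv.wd (nat_lit 106) [Mv.b (nat_lit 250), Mv.f (nat_lit 101), Mv.f (nat_lit 250)]))))
(Tr.nd (nat_lit 253) (Tr.lf (Fc.ed (nat_lit 252) (nat_lit 60) Col.d (nat_lit 58) (Dv.wd (nat_lit 107) [Mv.b (nat_lit 244), Mv.f (nat_lit 21), Mv.f (nat_lit 250)])))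
(Tr.nd (nat_lit 254) (Tr.lf (Fc.ed (nat_lit 253) (nat_lit 60) Col.h (nat_lit 60) (Dv.wd (nat_lit 104) [Mv.b (nat_lit 250), Mv.f (nat_lit 89), Mv.f (nat_lit 250)])))
(Tr.lf (Fc.ed (nat_lit 254) (nat_lit 16) Col.a (nat_lit 60) (Dv.wd (nat_lit 61) [Mv.f (nat_lit 252), Mv.f (nat_lit 245), Mv.b (nat_lit 24)])))))))
(Tr.nd (nat_lit 260) (Tr.nd (nat_lit 257) (Tr.nd (nat_lit 256) (Tr.lf (Fc.ed (nat_lit 255) (nat_lit 14) Col.a (nat_lit 61) Dv.df))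
(Tr.lf (Fc.ed (nat_lit 256) (nat_lit 61) Col.l (nat_lit 16) (Dv.wd (nat_lit 108) [Mv.f (nat_lit 254), Mv.b (nat_lit 250), Mv.f (nat_lit 255)]))))
(Tr.nd (nat_lit 258) (Tr.lf (Fc.ed (nat_lit 257) (nat_lit 61) Col.d (nat_lit 55) (Dv.wd (nat_lit 36) [Mv.f (nat_lit 238), Mv.f (nat_lit 21), Mv.f (nat_lit 255)])))
(Tr.nd (nat_lit 259) (Tr.lf (Fc.ed (nat_lit 258) (nat_lit 14) Col.e (nat_lit 62) Dv.df))
(Tr.lf (Fc.ed (nat_lit 259) (nat_lit 62) Col.k (nat_lit 62) (Dv.wd (nat_lit 69) [Mv.b (nat_lit 258), Mv.f (nat_lit 115), Mv.f (nat_lit 258)]))))))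
(Tr.nd (nat_lit 262) (Tr.nd (nat_lit 261) (Tr.lf (Fc.ed (nat_lit 260) (nat_lit 62) Col.b (nat_lit 62) (Dv.wd (nat_lit 97) [Mv.b (nat_lit 258), Mv.f (nat_lit 101), Mv.f (nat_lit 258)])))
(Tr.lf (Fc.ed (nat_lit 261) (nat_lit 62) Col.c (nat_lit 16) (Dv.wd (nat_lit 91) [Mv.b (nat_lit 23), Mv.b (nat_lit 22), Mv.f (nat_lit 258)]))))
(Tr.nd (nat_lit 263) (Tr.lf (Fc.ed (nat_lit 262) (nat_lit 14) Col.f (nat_lit 63) Dv.df))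
(Tr.nd (nat_lit 264) (Tr.lf (Fc.ed (nat_lit 263) (nat_lit 63) Col.d (nat_lit 59) (Dv.wd (nat_lit 109) [Mv.b (nat_lit 248), Mv.f (nat_lit 21), Mv.f (nat_lit 262)])))
(Tr.lf (Fc.ed (nat_lit 264) (nat_lit 15) Col.l (nat_lit 64) Dv.df)))))))
(Tr.nd (nat_lit 275) (Tr.nd (nat_lit 270) (Tr.nd (nat_lit 267) (Tr.nd (nat_lit 266) (Tr.lf (Fc.ed (nat_lit 265) (nat_lit 64) Col.c (nat_lit 60) (Dv.wd (nat_lit 110) [Mv.b (nat_lit 250), Mv.f (nat_lit 22), Mv.f (nat_lit 264)])))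
(Tr.lf (Fc.ed (nat_lit 266) (nat_lit 64) Col.d (nat_lit 64) (Dv.wd (nat_lit 107) [Mv.b (nat_lit 264), Mv.f (nat_lit 71), Mv.f (nat_lit 264)]))))
(Tr.nd (nat_lit 268) (Tr.lf (Fc.ed (nat_lit 267) (nat_lit 64) Col.e (nat_lit 61) (Dv.wd (nat_lit 41) [Mv.f (nat_lit 256), Mv.b (nat_lit 23), Mv.f (nat_lit 264)])))
(Tr.nd (nat_lit 269) (Tr.lf (Fc.ed (nat_lit 268) (nat_lit 64) Col.h (nat_lit 64) (Dv.wd (nat_lit 104) [Mv.b (nat_lit 264), Mv.f (nat_lit 90), Mv.f (nat_lit 264)])))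
(Tr.lf (Fc.ed (nat_lit 269) (nat_lit 62) Col.a (nat_lit 64) (Dv.wd (nat_lit 60) [Mv.f (nat_lit 267), Mv.b (nat_lit 255), Mv.f (nat_lit 258)]))))))
(Tr.nd (nat_lit 272) (Tr.nd (nat_lit 271) (Tr.lf (Fc.ed (nat_lit 270) (nat_lit 15) Col.a (nat_lit 65) Dv.df))
(Tr.lf (Fc.ed (nat_lit 271) (nat_lit 65) Col.c (nat_lit 61) (Dv.wd (nat_lit 45) [Mv.b (nat_lit 255), Mv.f (nat_lit 22), Mv.f (nat_lit 270)]))))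
(Tr.nd (nat_lit 273) (Tr.lf (Fc.ed (nat_lit 272) (nat_lit 65) Col.d (nat_lit 65) (Dv.wd (nat_lit 36) [Mv.b (nat_lit 270), Mv.f (nat_lit 71), Mv.f (nat_lit 270)])))
(Tr.nd (nat_lit 274) (Tr.lf (Fc.ed (nat_lit 273) (nat_lit 65) Col.e (nat_lit 60) (Dv.wd (nat_lit 42) [Mv.b (nat_lit 254), Mv.b (nat_lit 23), Mv.f (nat_lit 270)])))
(Tr.lf (Fc.ed (nat_lit 274) (nat_lit 65) Col.b (nat_lit 65) (Dv.wd (nat_lit 48) [Mv.f (nat_lit 273), Mv.f (nat_lit 251), Mv.b (nat_lit 273)])))))))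
(Tr.nd (nat_lit 280) (Tr.nd (nat_lit 277) (Tr.nd (nat_lit 276) (Tr.lf (Fc.ed (nat_lit 275) (nat_lit 15) Col.b (nat_lit 66) Dv.df))
(Tr.lf (Fc.ed (nat_lit 276) (nat_lit 66) Col.d (nat_lit 66) (Dv.wd (nat_lit 35) [Mv.b (nat_lit 275), Mv.f (nat_lit 71), Mv.f (nat_lit 275)]))))
(Tr.nd (nat_lit 278) (Tr.lf (Fc.ed (nat_lit 277) (nat_lit 66) Col.c (nat_lit 66) (Dv.wd (nat_lit 111) [Mv.b (nat_lit 275), Mv.b (nat_lit 22), Mv.f (nat_lit 101), Mv.f (nat_lit 22), Mv.f (nat_lit 275)])))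
(Tr.nd (nat_lit 279) (Tr.lf (Fc.ed (nat_lit 278) (nat_lit 15) Col.f (nat_lit 67) Dv.df))
(Tr.lf (Fc.ed (nat_lit 279) (nat_lit 16) Col.b (nat_lit 68) Dv.df)))))
(Tr.nd (nat_lit 283) (Tr.nd (nat_lit 281) (Tr.lf (Fc.ed (nat_lit 280) (nat_lit 68) Col.e (nat_lit 66) (Dv.wd (nat_lit 40) [Mv.b (nat_lit 275), Mv.f (nat_lit 23), Mv.f (nat_lit 279)])))
(Tr.nd (nat_lit 282) (Tr.lf (Fc.ed (nat_lit 281) (nat_lit 68) Col.a (nat_lit 68) (Dv.wd (nat_lit 112) [Mv.b (nat_lit 279), Mv.f (nat_lit 254), Mv.f (nat_lit 251), Mv.b (nat_lit 254), Mv.f (nat_lit 279)])))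
(Tr.lf (Fc.ed (nat_lit 282) (nat_lit 16) Col.f (nat_lit 69) Dv.df))))
(Tr.nd (nat_lit 284) (Tr.lf (Fc.ed (nat_lit 283) (nat_lit 17) Col.b (nat_lit 70) Dv.df))
(Tr.nd (nat_lit 285) (Tr.lf (Fc.ed (nat_lit 284) (nat_lit 70) Col.h (nat_lit 19) (Dv.wd (nat_lit 113) [Mv.b (nat_lit 26), Mv.b (nat_lit 25), Mv.f (nat_lit 283)])))
(Tr.lf (Fc.ed (nat_lit 285) (nat_lit 17) Col.f (nat_lit 71) Dv.df))))))))
(Tr.nd (nat_lit 306) (Tr.nd (nat_lit 296) (Tr.nd (nat_lit 291) (Tr.nd (nat_lit 288) (Tr.nd (nat_lit 287) (Tr.lf (Fc.ed (nat_lit 286) (nat_lit 19) Col.f (nat_lit 72) Dv.df))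
(Tr.lf (Fc.ed (nat_lit 287) (nat_lit 20) Col.f (nat_lit 73) Dv.df)))
(Tr.nd (nat_lit 289) (Tr.lf (Fc.ed (nat_lit 288) (nat_lit 73) Col.l (nat_lit 50) (Dv.wd (nat_lit 76) [Mv.b (nat_lit 224), Mv.b (nat_lit 32), Mv.f (nat_lit 287)])))
(Tr.nd (nat_lit 290) (Tr.lf (Fc.ed (nat_lit 289) (nat_lit 73) Col.c (nat_lit 72) (Dv.wd (nat_lit 98) [Mv.b (nat_lit 286), Mv.f (nat_lit 27), Mv.f (nat_lit 287)])))
(Tr.lf (Fc.ed (nat_lit 290) (nat_lit 23) Col.f (nat_lit 74) Dv.df)))))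
(Tr.nd (nat_lit 293) (Tr.nd (nat_lit 292) (Tr.lf (Fc.ed (nat_lit 291) (nat_lit 74) Col.d (nat_lit 25) (Dv.wd (nat_lit 109) [Mv.b (nat_lit 130), Mv.b (nat_lit 124), Mv.f (nat_lit 290)])))
(Tr.lf (Fc.ed (nat_lit 292) (nat_lit 74) Col.h (nat_lit 74) (Dv.wd (nat_lit 105) [Mv.b (nat_lit 290), Mv.f (nat_lit 122), Mv.f (nat_lit 290)]))))
(Tr.nd (nat_lit 294) (Tr.lf (Fc.ed (nat_lit 293) (nat_lit 74) Col.e (nat_lit 74) (Dv.wd (nat_lit 114) [Mv.b (nat_lit 290), Mv.b (nat_lit 118), Mv.f (nat_lit 55), Mv.f (nat_lit 118), Mv.f (nat_lit 290)])))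
(Tr.nd (nat_lit 295) (Tr.lf (Fc.ed (nat_lit 294) (nat_lit 26) Col.d (nat_lit 26) (Dv.wd (nat_lit 43) [Mv.b (nat_lit 135), Mv.b (nat_lit 291), Mv.f (nat_lit 293), Mv.f (nat_lit 291), Mv.f (nat_lit 135)])))
(Tr.lf (Fc.ed (nat_lit 295) (nat_lit 28) Col.h (nat_lit 28) (Dv.wd (nat_lit 31) [Mv.b (nat_lit 146), Mv.b (nat_lit 141), Mv.f (nat_lit 294), Mv.f (nat_lit 141), Mv.f (nat_lit 146)])))))))
(Tr.nd (nat_lit 301) (Tr.nd (nat_lit 298) (Tr.nd (nat_lit 297) (Tr.lf (Fc.ed (nat_lit 296) (nat_lit 29) Col.h (nat_lit 29) (Dv.wd (nat_lit 32) [Mv.b (nat_lit 151), Mv.f (nat_lit 295), Mv.f (nat_lit 151)])))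
(Tr.lf (Fc.ed (nat_lit 297) (nat_lit 30) Col.h (nat_lit 30) (Dv.wd (nat_lit 113) [Mv.b (nat_lit 156), Mv.f (nat_lit 296), Mv.f (nat_lit 156)]))))
(Tr.nd (nat_lit 299) (Tr.lf (Fc.ed (nat_lit 298) (nat_lit 32) Col.i (nat_lit 32) (Dv.wd (nat_lit 115) [Mv.b (nat_lit 164), Mv.b (nat_lit 160), Mv.f (nat_lit 297), Mv.f (nat_lit 160), Mv.f (nat_lit 164)])))
(Tr.nd (nat_lit 300) (Tr.lf (Fc.ed (nat_lit 299) (nat_lit 33) Col.i (nat_lit 33) (Dv.wd (nat_lit 14) [Mv.b (nat_lit 168), Mv.f (nat_lit 298), Mv.f (nat_lit 168)])))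
(Tr.lf (Fc.ed (nat_lit 300) (nat_lit 34) Col.i (nat_lit 34) (Dv.wd (nat_lit 15) [Mv.b (nat_lit 172), Mv.f (nat_lit 299), Mv.f (nat_lit 172)]))))))
(Tr.nd (nat_lit 303) (Tr.nd (nat_lit 302) (Tr.lf (Fc.ed (nat_lit 301) (nat_lit 35) Col.i (nat_lit 35) (Dv.wd (nat_lit 19) [Mv.b (nat_lit 176), Mv.f (nat_lit 300), Mv.f (nat_lit 176)])))
(Tr.lf (Fc.ed (nat_lit 302) (nat_lit 36) Col.i (nat_lit 36) (Dv.wd (nat_lit 14) [Mv.b (nat_lit 179), Mv.f (nat_lit 301), Mv.f (nat_lit 179)]))))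
(Tr.nd (nat_lit 304) (Tr.lf (Fc.ed (nat_lit 303) (nat_lit 38) Col.h (nat_lit 38) (Dv.wd (nat_lit 116) [Mv.b (nat_lit 185), Mv.b (nat_lit 182), Mv.f (nat_lit 302), Mv.f (nat_lit 182), Mv.f (nat_lit 185)])))
(Tr.nd (nat_lit 305) (Tr.lf (Fc.ed (nat_lit 304) (nat_lit 39) Col.h (nat_lit 39) (Dv.wd (nat_lit 105) [Mv.b (nat_lit 188), Mv.f (nat_lit 303), Mv.f (nat_lit 188)])))
(Tr.lf (Fc.ed (nat_lit 305) (nat_lit 40) Col.h (nat_lit 40) (Dv.wd (nat_lit 71) [Mv.b (nat_lit 190), Mv.f (nat_lit 304), Mv.f (nat_lit 190)]))))))))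
(Tr.nd (nat_lit 316) (Tr.nd (nat_lit 311) (Tr.nd (nat_lit 308) (Tr.nd (nat_lit 307) (Tr.lf (Fc.ed (nat_lit 306) (nat_lit 42) Col.d (nat_lit 42) (Dv.wd (nat_lit 95) [Mv.b (nat_lit 194), Mv.b (nat_lit 192), Mv.f (nat_lit 305), Mv.f (nat_lit 192), Mv.f (nat_lit 194)])))
(Tr.lf (Fc.ed (nat_lit 307) (nat_lit 24) Col.b (nat_lit 75) Dv.df)))
(Tr.nd (nat_lit 309) (Tr.lf (Fc.ed (nat_lit 308) (nat_lit 75) Col.d (nat_lit 47) (Dv.wd (nat_lit 35) [Mv.f (nat_lit 217), Mv.f (nat_lit 124), Mv.f (nat_lit 307)])))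
(Tr.nd (nat_lit 310) (Tr.lf (Fc.ed (nat_lit 309) (nat_lit 49) Col.a (nat_lit 75) (Dv.wd (nat_lit 61) [Mv.f (nat_lit 308), Mv.b (nat_lit 221), Mv.b (nat_lit 223)])))
(Tr.lf (Fc.ed (nat_lit 310) (nat_lit 25) Col.b (nat_lit 76) Dv.df)))))
(Tr.nd (nat_lit 313) (Tr.nd (nat_lit 312) (Tr.lf (Fc.ed (nat_lit 311) (nat_lit 76) Col.f (nat_lit 75) (Dv.wd (nat_lit 90) [Mv.b (nat_lit 307), Mv.f (nat_lit 130), Mv.f (nat_lit 310)])))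
(Tr.lf (Fc.ed (nat_lit 312) (nat_lit 25) Col.h (nat_lit 77) Dv.df)))
(Tr.nd (nat_lit 314) (Tr.lf (Fc.ed (nat_lit 313) (nat_lit 77) Col.e (nat_lit 27) (Dv.wd (nat_lit 117) [Mv.b (nat_lit 141), Mv.b (nat_lit 135), Mv.f (nat_lit 312)])))
(Tr.nd (nat_lit 315) (Tr.lf (Fc.ed (nat_lit 314) (nat_lit 77) Col.d (nat_lit 77) (Dv.wd (nat_lit 118) [Mv.b (nat_lit 312), Mv.b (nat_lit 291), Mv.f (nat_lit 292), Mv.f (nat_lit 291), Mv.f (nat_lit 312)])))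
(Tr.lf (Fc.ed (nat_lit 315) (nat_lit 28) Col.e (nat_lit 28) (Dv.wd (nat_lit 38) [Mv.b (nat_lit 146), Mv.b (nat_lit 313), Mv.f (nat_lit 314), Mv.f (nat_lit 313), Mv.f (nat_lit 146)])))))))
(Tr.nd (nat_lit 321) (Tr.nd (nat_lit 318) (Tr.nd (nat_lit 317) (Tr.lf (Fc.ed (nat_lit 316) (nat_lit 29) Col.e (nat_lit 29) (Dv.wd (nat_lit 39) [Mv.b (nat_lit 151), Mv.f (nat_lit 315), Mv.f (nat_lit 151)])))
(Tr.lf (Fc.ed (nat_lit 317) (nat_lit 30) Col.e (nat_lit 30) (Dv.wd (nat_lit 40) [Mv.b (nat_lit 156), Mv.f (nat_lit 316), Mv.f (nat_lit 156)]))))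
(Tr.nd (nat_lit 319) (Tr.lf (Fc.ed (nat_lit 318) (nat_lit 31) Col.e (nat_lit 31) (Dv.wd (nat_lit 119) [Mv.b (nat_lit 160), Mv.f (nat_lit 317), Mv.f (nat_lit 160)])))
(Tr.nd (nat_lit 320) (Tr.lf (Fc.ed (nat_lit 319) (nat_lit 32) Col.e (nat_lit 32) (Dv.wd (nat_lit 30) [Mv.b (nat_lit 164), Mv.f (nat_lit 318), Mv.f (nat_lit 164)])))
(Tr.lf (Fc.ed (nat_lit 320) (nat_lit 26) Col.b (nat_lit 78) Dv.df)))))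
(Tr.nd (nat_lit 324) (Tr.nd (nat_lit 322) (Tr.lf (Fc.ed (nat_lit 321) (nat_lit 78) Col.e (nat_lit 76) (Dv.wd (nat_lit 40) [Mv.b (nat_lit 310), Mv.f (nat_lit 135), Mv.f (nat_lit 320)])))
(Tr.nd (nat_lit 323) (Tr.lf (Fc.ed (nat_lit 322) (nat_lit 27) Col.b (nat_lit 79) Dv.df))
(Tr.lf (Fc.ed (nat_lit 323) (nat_lit 79) Col.h (nat_lit 78) (Dv.wd (nat_lit 113) [Mv.b (nat_lit 320), Mv.f (nat_lit 141), Mv.f (nat_lit 322)])))))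
(Tr.nd (nat_lit 325) (Tr.lf (Fc.ed (nat_lit 324) (nat_lit 27) Col.i (nat_lit 80) Dv.df))
(Tr.nd (nat_lit 326) (Tr.lf (Fc.ed (nat_lit 325) (nat_lit 80) Col.h (nat_lit 80) (Dv.wd (nat_lit 120) [Mv.b (nat_lit 324), Mv.b (nat_lit 141), Mv.f (nat_lit 139), Mv.f (nat_lit 141), Mv.f (nat_lit 324)])))
(Tr.lf (Fc.ed (nat_lit 326) (nat_lit 28) Col.b (nat_lit 81) Dv.df)))))))))))
(Tr.nd (nat_lit 490) (Tr.nd (nat_lit 408) (Tr.nd (nat_lit 367) (Tr.nd (nat_lit 347) (Tr.nd (nat_lit 337) (Tr.nd (nat_lit 332) (Tr.nd (nat_lit 329) (Tr.nd (nat_lit 328) (Tr.lf (Fc.ed (nat_lit 327) (nat_lit 81) Col.d (nat_lit 79) (Dv.wd (nat_lit 35) [Mv.b (nat_lit 322), Mv.f (nat_lit 146), Mv.f (nat_lit 326)])))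
(Tr.lf (Fc.ed (nat_lit 328) (nat_lit 81) Col.e (nat_lit 81) (Dv.wd (nat_lit 40) [Mv.b (nat_lit 326), Mv.f (nat_lit 315), Mv.f (nat_lit 326)]))))
(Tr.nd (nat_lit 330) (Tr.lf (Fc.ed (nat_lit 329) (nat_lit 81) Col.f (nat_lit 81) (Dv.wd (nat_lit 90) [Mv.b (nat_lit 326), Mv.f (nat_lit 150), Mv.f (nat_lit 326)])))
(Tr.nd (nat_lit 331) (Tr.lf (Fc.ed (nat_lit 330) (nat_lit 81) Col.h (nat_lit 81) (Dv.wd (nat_lit 113) [Mv.b (nat_lit 326), Mv.f (nat_lit 295), Mv.f (nat_lit 326)])))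
(Tr.lf (Fc.ed (nat_lit 331) (nat_lit 28) Col.i (nat_lit 82) Dv.df)))))
(Tr.nd (nat_lit 334) (Tr.nd (nat_lit 333) (Tr.lf (Fc.ed (nat_lit 332) (nat_lit 82) Col.d (nat_lit 80) (Dv.wd (nat_lit 24) [Mv.b (nat_lit 324), Mv.f (nat_lit 146), Mv.f (nat_lit 331)])))
(Tr.lf (Fc.ed (nat_lit 333) (nat_lit 29) Col.i (nat_lit 83) Dv.df)))
(Tr.nd (nat_lit 335) (Tr.lf (Fc.ed (nat_lit 334) (nat_lit 83) Col.a (nat_lit 83) (Dv.wd (nat_lit 121) [Mv.b (nat_lit 333), Mv.f (nat_lit 154), Mv.f (nat_lit 333)])))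
(Tr.nd (nat_lit 336) (Tr.lf (Fc.ed (nat_lit 335) (nat_lit 83) Col.b (nat_lit 31) (Dv.wd (nat_lit 22) [Mv.b (nat_lit 160), Mv.b (nat_lit 156), Mv.f (nat_lit 333)])))
(Tr.lf (Fc.ed (nat_lit 336) (nat_lit 83) Col.c (nat_lit 82) (Dv.wd (nat_lit 23) [Mv.b (nat_lit 331), Mv.f (nat_lit 151), Mv.f (nat_lit 333)])))))))
(Tr.nd (nat_lit 342) (Tr.nd (nat_lit 339) (Tr.nd (nat_lit 338) (Tr.lf (Fc.ed (nat_lit 337) (nat_lit 30) Col.a (nat_lit 84) Dv.df))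
(Tr.lf (Fc.ed (nat_lit 338) (nat_lit 84) Col.d (nat_lit 84) (Dv.wd (nat_lit 36) [Mv.b (nat_lit 337), Mv.f (nat_lit 206), Mv.f (nat_lit 337)]))))
(Tr.nd (nat_lit 340) (Tr.lf (Fc.ed (nat_lit 339) (nat_lit 84) Col.h (nat_lit 84) (Dv.wd (nat_lit 122) [Mv.b (nat_lit 337), Mv.f (nat_lit 297), Mv.f (nat_lit 337)])))
(Tr.nd (nat_lit 341) (Tr.lf (Fc.ed (nat_lit 340) (nat_lit 30) Col.c (nat_lit 85) Dv.df))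
(Tr.lf (Fc.ed (nat_lit 341) (nat_lit 85) Col.l (nat_lit 85) (Dv.wd (nat_lit 85) [Mv.b (nat_lit 340), Mv.f (nat_lit 157), Mv.f (nat_lit 340)]))))))
(Tr.nd (nat_lit 344) (Tr.nd (nat_lit 343) (Tr.lf (Fc.ed (nat_lit 342) (nat_lit 85) Col.e (nat_lit 85) (Dv.wd (nat_lit 39) [Mv.b (nat_lit 340), Mv.f (nat_lit 317), Mv.f (nat_lit 340)])))
(Tr.lf (Fc.ed (nat_lit 343) (nat_lit 85) Col.h (nat_lit 85) (Dv.wd (nat_lit 32) [Mv.b (nat_lit 340), Mv.f (nat_lit 297), Mv.f (nat_lit 340)]))))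
(Tr.nd (nat_lit 345) (Tr.lf (Fc.ed (nat_lit 344) (nat_lit 31) Col.a (nat_lit 86) Dv.df))
(Tr.nd (nat_lit 346) (Tr.lf (Fc.ed (nat_lit 345) (nat_lit 86) Col.l (nat_lit 86) (Dv.wd (nat_lit 108) [Mv.b (nat_lit 344), Mv.f (nat_lit 161), Mv.f (nat_lit 344)])))
(Tr.lf (Fc.ed (nat_lit 346) (nat_lit 86) Col.i (nat_lit 84) (Dv.wd (nat_lit 17) [Mv.b (nat_lit 337), Mv.f (nat_lit 160), Mv.f (nat_lit 344)]))))))))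
(Tr.nd (nat_lit 357) (Tr.nd (nat_lit 352) (Tr.nd (nat_lit 349) (Tr.nd (nat_lit 348) (Tr.lf (Fc.ed (nat_lit 347) (nat_lit 86) Col.b (nat_lit 86) (Dv.wd (nat_lit 123) [Mv.b (nat_lit 344), Mv.b (nat_lit 335), Mv.f (nat_lit 334), Mv.f (nat_lit 335), Mv.f (nat_lit 344)])))
(Tr.lf (Fc.ed (nat_lit 348) (nat_lit 31) Col.c (nat_lit 87) Dv.df)))
(Tr.nd (nat_lit 350) (Tr.lf (Fc.ed (nat_lit 349) (nat_lit 87) Col.i (nat_lit 85) (Dv.wd (nat_lit 15) [Mv.b (nat_lit 340), Mv.f (nat_lit 160), Mv.f (nat_lit 348)])))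
(Tr.nd (nat_lit 351) (Tr.lf (Fc.ed (nat_lit 350) (nat_lit 32) Col.a (nat_lit 88) Dv.df))
(Tr.lf (Fc.ed (nat_lit 351) (nat_lit 88) Col.l (nat_lit 88) (Dv.wd (nat_lit 108) [Mv.b (nat_lit 350), Mv.f (nat_lit 165), Mv.f (nat_lit 350)]))))))
(Tr.nd (nat_lit 354) (Tr.nd (nat_lit 353) (Tr.lf (Fc.ed (nat_lit 352) (nat_lit 88) Col.f (nat_lit 88) (Dv.wd (nat_lit 124) [Mv.b (nat_lit 350), Mv.f (nat_lit 167), Mv.f (nat_lit 350)])))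
(Tr.lf (Fc.ed (nat_lit 353) (nat_lit 88) Col.h (nat_lit 86) (Dv.wd (nat_lit 122) [Mv.b (nat_lit 344), Mv.f (nat_lit 164), Mv.f (nat_lit 350)]))))
(Tr.nd (nat_lit 355) (Tr.lf (Fc.ed (nat_lit 354) (nat_lit 88) Col.b (nat_lit 88) (Dv.wd (nat_lit 51) [Mv.f (nat_lit 353), Mv.f (nat_lit 347), Mv.b (nat_lit 353)])))
(Tr.nd (nat_lit 356) (Tr.lf (Fc.ed (nat_lit 355) (nat_lit 32) Col.b (nat_lit 89) Dv.df))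
(Tr.lf (Fc.ed (nat_lit 356) (nat_lit 89) Col.h (nat_lit 83) (Dv.wd (nat_lit 113) [Mv.f (nat_lit 335), Mv.f (nat_lit 164), Mv.f (nat_lit 355)])))))))
(Tr.nd (nat_lit 362) (Tr.nd (nat_lit 359) (Tr.nd (nat_lit 358) (Tr.lf (Fc.ed (nat_lit 357) (nat_lit 32) Col.c (nat_lit 90) Dv.df))
(Tr.lf (Fc.ed (nat_lit 358) (nat_lit 90) Col.h (nat_lit 87) (Dv.wd (nat_lit 32) [Mv.b (nat_lit 348), Mv.f (nat_lit 164), Mv.f (nat_lit 357)]))))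
(Tr.nd (nat_lit 360) (Tr.lf (Fc.ed (nat_lit 359) (nat_lit 33) Col.a (nat_lit 91) Dv.df))
(Tr.nd (nat_lit 361) (Tr.lf (Fc.ed (nat_lit 360) (nat_lit 91) Col.d (nat_lit 88) (Dv.wd (nat_lit 36) [Mv.b (nat_lit 350), Mv.f (nat_lit 168), Mv.f (nat_lit 359)])))
(Tr.lf (Fc.ed (nat_lit 361) (nat_lit 91) Col.b (nat_lit 91) (Dv.wd (nat_lit 47) [Mv.f (nat_lit 360), Mv.f (nat_lit 354), Mv.b (nat_lit 360)]))))))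
(Tr.nd (nat_lit 364) (Tr.nd (nat_lit 363) (Tr.lf (Fc.ed (nat_lit 362) (nat_lit 33) Col.b (nat_lit 92) Dv.df))
(Tr.lf (Fc.ed (nat_lit 363) (nat_lit 92) Col.d (nat_lit 89) (Dv.wd (nat_lit 35) [Mv.b (nat_lit 355), Mv.f (nat_lit 168), Mv.f (nat_lit 362)]))))
(Tr.nd (nat_lit 365) (Tr.lf (Fc.ed (nat_lit 364) (nat_lit 92) Col.h (nat_lit 92) (Dv.wd (nat_lit 113) [Mv.b (nat_lit 362), Mv.f (nat_lit 208), Mv.f (nat_lit 362)])))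
(Tr.nd (nat_lit 366) (Tr.lf (Fc.ed (nat_lit 365) (nat_lit 92) Col.a (nat_lit 92) (Dv.wd (nat_lit 112) [Mv.b (nat_lit 362), Mv.f (nat_lit 359), Mv.f (nat_lit 361), Mv.b (nat_lit 359), Mv.f (nat_lit 362)])))
(Tr.lf (Fc.ed (nat_lit 366) (nat_lit 33) Col.e (nat_lit 93) Dv.df))))))))
(Tr.nd (nat_lit 387) (Tr.nd (nat_lit 377) (Tr.nd (nat_lit 372) (Tr.nd (nat_lit 369) (Tr.nd (nat_lit 368) (Tr.lf (Fc.ed (nat_lit 367) (nat_lit 93) Col.c (nat_lit 35) (Dv.wd (nat_lit 91) [Mv.b (nat_lit 176), Mv.b (nat_lit 172), Mv.f (nat_lit 366)])))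
(Tr.lf (Fc.ed (nat_lit 368) (nat_lit 93) Col.d (nat_lit 93) (Dv.wd (nat_lit 92) [Mv.b (nat_lit 366), Mv.b (nat_lit 168), Mv.f (nat_lit 319), Mv.f (nat_lit 168), Mv.f (nat_lit 366)]))))
(Tr.nd (nat_lit 370) (Tr.lf (Fc.ed (nat_lit 369) (nat_lit 36) Col.c (nat_lit 36) (Dv.wd (nat_lit 44) [Mv.b (nat_lit 179), Mv.b (nat_lit 367), Mv.f (nat_lit 368), Mv.f (nat_lit 367), Mv.f (nat_lit 179)])))
(Tr.nd (nat_lit 371) (Tr.lf (Fc.ed (nat_lit 370) (nat_lit 37) Col.c (nat_lit 37) (Dv.wd (nat_lit 33) [Mv.b (nat_lit 182), Mv.f (nat_lit 369), Mv.f (nat_lit 182)])))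
(Tr.lf (Fc.ed (nat_lit 371) (nat_lit 38) Col.c (nat_lit 38) (Dv.wd (nat_lit 125) [Mv.b (nat_lit 185), Mv.f (nat_lit 370), Mv.f (nat_lit 185)]))))))
(Tr.nd (nat_lit 374) (Tr.nd (nat_lit 373) (Tr.lf (Fc.ed (nat_lit 372) (nat_lit 39) Col.c (nat_lit 39) (Dv.wd (nat_lit 93) [Mv.b (nat_lit 188), Mv.f (nat_lit 371), Mv.f (nat_lit 188)])))
(Tr.lf (Fc.ed (nat_lit 373) (nat_lit 40) Col.c (nat_lit 40) (Dv.wd (nat_lit 54) [Mv.b (nat_lit 190), Mv.f (nat_lit 372), Mv.f (nat_lit 190)]))))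
(Tr.nd (nat_lit 375) (Tr.lf (Fc.ed (nat_lit 374) (nat_lit 34) Col.a (nat_lit 94) Dv.df))
(Tr.nd (nat_lit 376) (Tr.lf (Fc.ed (nat_lit 375) (nat_lit 94) Col.c (nat_lit 91) (Dv.wd (nat_lit 45) [Mv.b (nat_lit 359), Mv.f (nat_lit 172), Mv.f (nat_lit 374)])))
(Tr.lf (Fc.ed (nat_lit 376) (nat_lit 94) Col.f (nat_lit 94) (Dv.wd (nat_lit 124) [Mv.b (nat_lit 374), Mv.f (nat_lit 175), Mv.f (nat_lit 374)])))))))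
(Tr.nd (nat_lit 382) (Tr.nd (nat_lit 379) (Tr.nd (nat_lit 378) (Tr.lf (Fc.ed (nat_lit 377) (nat_lit 34) Col.b (nat_lit 95) Dv.df))
(Tr.lf (Fc.ed (nat_lit 378) (nat_lit 34) Col.d (nat_lit 96) Dv.df)))
(Tr.nd (nat_lit 380) (Tr.lf (Fc.ed (nat_lit 379) (nat_lit 35) Col.a (nat_lit 97) Dv.df))
(Tr.nd (nat_lit 381) (Tr.lf (Fc.ed (nat_lit 380) (nat_lit 97) Col.e (nat_lit 94) (Dv.wd (nat_lit 42) [Mv.b (nat_lit 374), Mv.f (nat_lit 176), Mv.f (nat_lit 379)])))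
(Tr.lf (Fc.ed (nat_lit 381) (nat_lit 35) Col.b (nat_lit 98) Dv.df)))))
(Tr.nd (nat_lit 384) (Tr.nd (nat_lit 383) (Tr.lf (Fc.ed (nat_lit 382) (nat_lit 98) Col.e (nat_lit 95) (Dv.wd (nat_lit 40) [Mv.b (nat_lit 377), Mv.f (nat_lit 176), Mv.f (nat_lit 381)])))
(Tr.lf (Fc.ed (nat_lit 383) (nat_lit 35) Col.f (nat_lit 99) Dv.df)))
(Tr.nd (nat_lit 385) (Tr.lf (Fc.ed (nat_lit 384) (nat_lit 36) Col.a (nat_lit 100) Dv.df))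
(Tr.nd (nat_lit 386) (Tr.lf (Fc.ed (nat_lit 385) (nat_lit 100) Col.c (nat_lit 100) (Dv.wd (nat_lit 45) [Mv.b (nat_lit 384), Mv.f (nat_lit 369), Mv.f (nat_lit 384)])))
(Tr.lf (Fc.ed (nat_lit 386) (nat_lit 100) Col.d (nat_lit 97) (Dv.wd (nat_lit 36) [Mv.b (nat_lit 379), Mv.f (nat_lit 179), Mv.f (nat_lit 384)]))))))))
(Tr.nd (nat_lit 397) (Tr.nd (nat_lit 392) (Tr.nd (nat_lit 389) (Tr.nd (nat_lit 388) (Tr.lf (Fc.ed (nat_lit 387) (nat_lit 36) Col.b (nat_lit 101) Dv.df))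
(Tr.lf (Fc.ed (nat_lit 388) (nat_lit 101) Col.d (nat_lit 98) (Dv.wd (nat_lit 35) [Mv.b (nat_lit 381), Mv.f (nat_lit 179), Mv.f (nat_lit 387)]))))
(Tr.nd (nat_lit 390) (Tr.lf (Fc.ed (nat_lit 389) (nat_lit 36) Col.e (nat_lit 102) Dv.df))
(Tr.nd (nat_lit 391) (Tr.lf (Fc.ed (nat_lit 390) (nat_lit 36) Col.f (nat_lit 103) Dv.df))
(Tr.lf (Fc.ed (nat_lit 391) (nat_lit 103) Col.d (nat_lit 99) (Dv.wd (nat_lit 109) [Mv.b (nat_lit 383), Mv.f (nat_lit 179), Mv.f (nat_lit 390)]))))))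
(Tr.nd (nat_lit 394) (Tr.nd (nat_lit 393) (Tr.lf (Fc.ed (nat_lit 392) (nat_lit 37) Col.a (nat_lit 104) Dv.df))
(Tr.lf (Fc.ed (nat_lit 393) (nat_lit 104) Col.h (nat_lit 100) (Dv.wd (nat_lit 122) [Mv.b (nat_lit 384), Mv.f (nat_lit 182), Mv.f (nat_lit 392)]))))
(Tr.nd (nat_lit 395) (Tr.lf (Fc.ed (nat_lit 394) (nat_lit 37) Col.b (nat_lit 105) Dv.df))
(Tr.nd (nat_lit 396) (Tr.lf (Fc.ed (nat_lit 395) (nat_lit 105) Col.h (nat_lit 101) (Dv.wd (nat_lit 113) [Mv.b (nat_lit 387), Mv.f (nat_lit 182), Mv.f (nat_lit 394)])))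
(Tr.lf (Fc.ed (nat_lit 396) (nat_lit 37) Col.e (nat_lit 106) Dv.df))))))
(Tr.nd (nat_lit 402) (Tr.nd (nat_lit 399) (Tr.nd (nat_lit 398) (Tr.lf (Fc.ed (nat_lit 397) (nat_lit 106) Col.h (nat_lit 102) (Dv.wd (nat_lit 71) [Mv.b (nat_lit 389), Mv.f (nat_lit 182), Mv.f (nat_lit 396)])))
(Tr.lf (Fc.ed (nat_lit 398) (nat_lit 38) Col.a (nat_lit 107) Dv.df)))
(Tr.nd (nat_lit 400) (Tr.lf (Fc.ed (nat_lit 399) (nat_lit 107) Col.l (nat_lit 107) (Dv.wd (nat_lit 108) [Mv.b (nat_lit 398), Mv.f (nat_lit 186), Mv.f (nat_lit 398)])))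
(Tr.nd (nat_lit 401) (Tr.lf (Fc.ed (nat_lit 400) (nat_lit 107) Col.c (nat_lit 107) (Dv.wd (nat_lit 45) [Mv.b (nat_lit 398), Mv.f (nat_lit 371), Mv.f (nat_lit 398)])))
(Tr.lf (Fc.ed (nat_lit 401) (nat_lit 107) Col.h (nat_lit 107) (Dv.wd (nat_lit 122) [Mv.b (nat_lit 398), Mv.f (nat_lit 303), Mv.f (nat_lit 398)]))))))
(Tr.nd (nat_lit 405) (Tr.nd (nat_lit 403) (Tr.lf (Fc.ed (nat_lit 402) (nat_lit 107) Col.i (nat_lit 104) (Dv.wd (nat_lit 17) [Mv.b (nat_lit 392), Mv.f (nat_lit 185), Mv.f (nat_lit 398)])))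
(Tr.nd (nat_lit 404) (Tr.lf (Fc.ed (nat_lit 403) (nat_lit 38) Col.b (nat_lit 108) Dv.df))
(Tr.lf (Fc.ed (nat_lit 404) (nat_lit 108) Col.i (nat_lit 105) (Dv.wd (nat_lit 16) [Mv.b (nat_lit 394), Mv.f (nat_lit 185), Mv.f (nat_lit 403)])))))
(Tr.nd (nat_lit 406) (Tr.lf (Fc.ed (nat_lit 405) (nat_lit 38) Col.e (nat_lit 109) Dv.df))
(Tr.nd (nat_lit 407) (Tr.lf (Fc.ed (nat_lit 406) (nat_lit 109) Col.k (nat_lit 109) (Dv.wd (nat_lit 69) [Mv.b (nat_lit 405), Mv.f (nat_lit 187), Mv.f (nat_lit 405)])))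
(Tr.lf (Fc.ed (nat_lit 407) (nat_lit 109) Col.c (nat_lit 109) (Dv.wd (nat_lit 91) [Mv.b (nat_lit 405), Mv.f (nat_lit 371), Mv.f (nat_lit 405)]))))))))))
(Tr.nd (nat_lit 449) (Tr.nd (nat_lit 428) (Tr.nd (nat_lit 418) (Tr.nd (nat_lit 413) (Tr.nd (nat_lit 410) (Tr.nd (nat_lit 409) (Tr.lf (Fc.ed (nat_lit 408) (nat_lit 109) Col.i (nat_lit 106) (Dv.wd (nat_lit 19) [Mv.b (nat_lit 396), Mv.f (nat_lit 185), Mv.f (nat_lit 405)])))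
(Tr.lf (Fc.ed (nat_lit 409) (nat_lit 39) Col.a (nat_lit 110) Dv.df)))
(Tr.nd (nat_lit 411) (Tr.lf (Fc.ed (nat_lit 410) (nat_lit 110) Col.c (nat_lit 110) (Dv.wd (nat_lit 45) [Mv.b (nat_lit 409), Mv.f (nat_lit 372), Mv.f (nat_lit 409)])))
(Tr.nd (nat_lit 412) (Tr.lf (Fc.ed (nat_lit 411) (nat_lit 110) Col.d (nat_lit 110) (Dv.wd (nat_lit 36) [Mv.b (nat_lit 409), Mv.f (nat_lit 213), Mv.f (nat_lit 409)])))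
(Tr.lf (Fc.ed (nat_lit 412) (nat_lit 110) Col.f (nat_lit 107) (Dv.wd (nat_lit 124) [Mv.b (nat_lit 398), Mv.f (nat_lit 188), Mv.f (nat_lit 409)]))))))
(Tr.nd (nat_lit 415) (Tr.nd (nat_lit 414) (Tr.lf (Fc.ed (nat_lit 413) (nat_lit 39) Col.b (nat_lit 111) Dv.df))
(Tr.lf (Fc.ed (nat_lit 414) (nat_lit 111) Col.f (nat_lit 108) (Dv.wd (nat_lit 90) [Mv.b (nat_lit 403), Mv.f (nat_lit 188), Mv.f (nat_lit 413)]))))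
(Tr.nd (nat_lit 416) (Tr.lf (Fc.ed (nat_lit 415) (nat_lit 40) Col.a (nat_lit 112) Dv.df))
(Tr.nd (nat_lit 417) (Tr.lf (Fc.ed (nat_lit 416) (nat_lit 112) Col.c (nat_lit 112) (Dv.wd (nat_lit 45) [Mv.b (nat_lit 415), Mv.f (nat_lit 373), Mv.f (nat_lit 415)])))
(Tr.lf (Fc.ed (nat_lit 417) (nat_lit 112) Col.e (nat_lit 110) (Dv.wd (nat_lit 42) [Mv.b (nat_lit 409), Mv.f (nat_lit 190), Mv.f (nat_lit 415)])))))))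
(Tr.nd (nat_lit 423) (Tr.nd (nat_lit 420) (Tr.nd (nat_lit 419) (Tr.lf (Fc.ed (nat_lit 418) (nat_lit 112) Col.h (nat_lit 112) (Dv.wd (nat_lit 122) [Mv.b (nat_lit 415), Mv.f (nat_lit 305), Mv.f (nat_lit 415)])))
(Tr.lf (Fc.ed (nat_lit 419) (nat_lit 40) Col.b (nat_lit 113) Dv.df)))
(Tr.nd (nat_lit 421) (Tr.lf (Fc.ed (nat_lit 420) (nat_lit 113) Col.e (nat_lit 111) (Dv.wd (nat_lit 40) [Mv.b (nat_lit 413), Mv.f (nat_lit 190), Mv.f (nat_lit 419)])))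
(Tr.nd (nat_lit 422) (Tr.lf (Fc.ed (nat_lit 421) (nat_lit 40) Col.f (nat_lit 114) Dv.df))
(Tr.lf (Fc.ed (nat_lit 422) (nat_lit 41) Col.a (nat_lit 115) Dv.df)))))
(Tr.nd (nat_lit 425) (Tr.nd (nat_lit 424) (Tr.lf (Fc.ed (nat_lit 423) (nat_lit 115) Col.d (nat_lit 112) (Dv.wd (nat_lit 36) [Mv.b (nat_lit 415), Mv.f (nat_lit 192), Mv.f (nat_lit 422)])))
(Tr.lf (Fc.ed (nat_lit 424) (nat_lit 115) Col.e (nat_lit 115) (Dv.wd (nat_lit 42) [Mv.b (nat_lit 422), Mv.f (nat_lit 214), Mv.f (nat_lit 422)]))))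
(Tr.nd (nat_lit 426) (Tr.lf (Fc.ed (nat_lit 425) (nat_lit 41) Col.b (nat_lit 116) Dv.df))
(Tr.nd (nat_lit 427) (Tr.lf (Fc.ed (nat_lit 426) (nat_lit 116) Col.d (nat_lit 113) (Dv.wd (nat_lit 35) [Mv.b (nat_lit 419), Mv.f (nat_lit 192), Mv.f (nat_lit 425)])))
(Tr.lf (Fc.ed (nat_lit 427) (nat_lit 41) Col.c (nat_lit 117) Dv.df)))))))
(Tr.nd (nat_lit 438) (Tr.nd (nat_lit 433) (Tr.nd (nat_lit 430) (Tr.nd (nat_lit 429) (Tr.lf (Fc.ed (nat_lit 428) (nat_lit 117) Col.e (nat_lit 117) (Dv.wd (nat_lit 39) [Mv.b (nat_lit 427), Mv.f (nat_lit 214), Mv.f (nat_lit 427)])))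
(Tr.lf (Fc.ed (nat_lit 429) (nat_lit 117) Col.h (nat_lit 43) (Dv.wd (nat_lit 32) [Mv.b (nat_lit 195), Mv.b (nat_lit 194), Mv.f (nat_lit 427)]))))
(Tr.nd (nat_lit 431) (Tr.lf (Fc.ed (nat_lit 430) (nat_lit 117) Col.d (nat_lit 117) (Dv.wd (nat_lit 126) [Mv.b (nat_lit 427), Mv.b (nat_lit 192), Mv.f (nat_lit 373), Mv.f (nat_lit 192), Mv.f (nat_lit 427)])))
(Tr.nd (nat_lit 432) (Tr.lf (Fc.ed (nat_lit 431) (nat_lit 41) Col.f (nat_lit 118) Dv.df))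
(Tr.lf (Fc.ed (nat_lit 432) (nat_lit 118) Col.d (nat_lit 114) (Dv.wd (nat_lit 109) [Mv.b (nat_lit 421), Mv.f (nat_lit 192), Mv.f (nat_lit 431)]))))))
(Tr.nd (nat_lit 435) (Tr.nd (nat_lit 434) (Tr.lf (Fc.ed (nat_lit 433) (nat_lit 42) Col.a (nat_lit 119) Dv.df))
(Tr.lf (Fc.ed (nat_lit 434) (nat_lit 119) Col.d (nat_lit 119) (Dv.wd (nat_lit 36) [Mv.b (nat_lit 433), Mv.f (nat_lit 306), Mv.f (nat_lit 433)]))))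
(Tr.nd (nat_lit 436) (Tr.lf (Fc.ed (nat_lit 435) (nat_lit 119) Col.e (nat_lit 119) (Dv.wd (nat_lit 42) [Mv.b (nat_lit 433), Mv.f (nat_lit 215), Mv.f (nat_lit 433)])))
(Tr.nd (nat_lit 437) (Tr.lf (Fc.ed (nat_lit 436) (nat_lit 119) Col.h (nat_lit 115) (Dv.wd (nat_lit 122) [Mv.b (nat_lit 422), Mv.f (nat_lit 194), Mv.f (nat_lit 433)])))
(Tr.lf (Fc.ed (nat_lit 437) (nat_lit 42) Col.b (nat_lit 120) Dv.df))))))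
(Tr.nd (nat_lit 443) (Tr.nd (nat_lit 440) (Tr.nd (nat_lit 439) (Tr.lf (Fc.ed (nat_lit 438) (nat_lit 120) Col.h (nat_lit 116) (Dv.wd (nat_lit 113) [Mv.b (nat_lit 425), Mv.f (nat_lit 194), Mv.f (nat_lit 437)])))
(Tr.lf (Fc.ed (nat_lit 439) (nat_lit 42) Col.f (nat_lit 121) Dv.df)))
(Tr.nd (nat_lit 441) (Tr.lf (Fc.ed (nat_lit 440) (nat_lit 121) Col.h (nat_lit 118) (Dv.wd (nat_lit 105) [Mv.b (nat_lit 431), Mv.f (nat_lit 194), Mv.f (nat_lit 439)])))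
(Tr.nd (nat_lit 442) (Tr.lf (Fc.ed (nat_lit 441) (nat_lit 43) Col.a (nat_lit 122) Dv.df))
(Tr.lf (Fc.ed (nat_lit 442) (nat_lit 122) Col.c (nat_lit 119) (Dv.wd (nat_lit 45) [Mv.b (nat_lit 433), Mv.f (nat_lit 195), Mv.f (nat_lit 441)]))))))
(Tr.nd (nat_lit 446) (Tr.nd (nat_lit 444) (Tr.lf (Fc.ed (nat_lit 443) (nat_lit 43) Col.f (nat_lit 123) Dv.df))
(Tr.nd (nat_lit 445) (Tr.lf (Fc.ed (nat_lit 444) (nat_lit 47) Col.f (nat_lit 124) Dv.df))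
(Tr.lf (Fc.ed (nat_lit 445) (nat_lit 124) Col.c (nat_lit 124) (Dv.wd (nat_lit 98) [Mv.b (nat_lit 444), Mv.f (nat_lit 218), Mv.f (nat_lit 444)])))))
(Tr.nd (nat_lit 447) (Tr.lf (Fc.ed (nat_lit 446) (nat_lit 124) Col.d (nat_lit 76) (Dv.wd (nat_lit 109) [Mv.f (nat_lit 311), Mv.f (nat_lit 308), Mv.f (nat_lit 444)])))
(Tr.nd (nat_lit 448) (Tr.lf (Fc.ed (nat_lit 447) (nat_lit 49) Col.f (nat_lit 125) Dv.df))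
(Tr.lf (Fc.ed (nat_lit 448) (nat_lit 125) Col.k (nat_lit 50) (Dv.wd (nat_lit 77) [Mv.b (nat_lit 224), Mv.f (nat_lit 222), Mv.f (nat_lit 447)])))))))))
(Tr.nd (nat_lit 469) (Tr.nd (nat_lit 459) (Tr.nd (nat_lit 454) (Tr.nd (nat_lit 451) (Tr.nd (nat_lit 450) (Tr.lf (Fc.ed (nat_lit 449) (nat_lit 125) Col.a (nat_lit 76) (Dv.wd (nat_lit 78) [Mv.f (nat_lit 311), Mv.b (nat_lit 309), Mv.f (nat_lit 447)])))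
(Tr.lf (Fc.ed (nat_lit 450) (nat_lit 50) Col.e (nat_lit 126) Dv.df)))
(Tr.nd (nat_lit 452) (Tr.lf (Fc.ed (nat_lit 451) (nat_lit 126) Col.i (nat_lit 126) (Dv.wd (nat_lit 19) [Mv.b (nat_lit 450), Mv.f (nat_lit 225), Mv.f (nat_lit 450)])))
(Tr.nd (nat_lit 453) (Tr.lf (Fc.ed (nat_lit 452) (nat_lit 51) Col.a (nat_lit 127) Dv.df))
(Tr.lf (Fc.ed (nat_lit 453) (nat_lit 127) Col.c (nat_lit 75) (Dv.wd (nat_lit 45) [Mv.b (nat_lit 309), Mv.b (nat_lit 227), Mv.f (nat_lit 452)]))))))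
(Tr.nd (nat_lit 456) (Tr.nd (nat_lit 455) (Tr.lf (Fc.ed (nat_lit 454) (nat_lit 51) Col.f (nat_lit 128) Dv.df))
(Tr.lf (Fc.ed (nat_lit 455) (nat_lit 128) Col.c (nat_lit 125) (Dv.wd (nat_lit 98) [Mv.b (nat_lit 447), Mv.b (nat_lit 227), Mv.f (nat_lit 454)]))))
(Tr.nd (nat_lit 457) (Tr.lf (Fc.ed (nat_lit 456) (nat_lit 51) Col.h (nat_lit 129) Dv.df))
(Tr.nd (nat_lit 458) (Tr.lf (Fc.ed (nat_lit 457) (nat_lit 52) Col.e (nat_lit 130) Dv.df))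
(Tr.lf (Fc.ed (nat_lit 458) (nat_lit 130) Col.c (nat_lit 126) (Dv.wd (nat_lit 91) [Mv.b (nat_lit 450), Mv.b (nat_lit 229), Mv.f (nat_lit 457)])))))))
(Tr.nd (nat_lit 464) (Tr.nd (nat_lit 461) (Tr.nd (nat_lit 460) (Tr.lf (Fc.ed (nat_lit 459) (nat_lit 52) Col.h (nat_lit 131) Dv.df))
(Tr.lf (Fc.ed (nat_lit 460) (nat_lit 131) Col.f (nat_lit 53) (Dv.wd (nat_lit 84) [Mv.b (nat_lit 230), Mv.f (nat_lit 228), Mv.f (nat_lit 459)]))))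
(Tr.nd (nat_lit 462) (Tr.lf (Fc.ed (nat_lit 461) (nat_lit 53) Col.d (nat_lit 132) Dv.df))
(Tr.nd (nat_lit 463) (Tr.lf (Fc.ed (nat_lit 462) (nat_lit 132) Col.b (nat_lit 61) (Dv.wd (nat_lit 127) [Mv.f (nat_lit 257), Mv.f (nat_lit 239), Mv.f (nat_lit 461)])))
(Tr.lf (Fc.ed (nat_lit 463) (nat_lit 54) Col.f (nat_lit 133) Dv.df)))))
(Tr.nd (nat_lit 466) (Tr.nd (nat_lit 465) (Tr.lf (Fc.ed (nat_lit 464) (nat_lit 133) Col.a (nat_lit 133) (Dv.wd (nat_lit 78) [Mv.b (nat_lit 463), Mv.f (nat_lit 235), Mv.f (nat_lit 463)])))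
(Tr.lf (Fc.ed (nat_lit 465) (nat_lit 133) Col.b (nat_lit 128) (Dv.wd (nat_lit 128) [Mv.b (nat_lit 454), Mv.b (nat_lit 232), Mv.f (nat_lit 463)]))))
(Tr.nd (nat_lit 467) (Tr.lf (Fc.ed (nat_lit 466) (nat_lit 133) Col.i (nat_lit 133) (Dv.wd (nat_lit 79) [Mv.b (nat_lit 463), Mv.f (nat_lit 234), Mv.f (nat_lit 463)])))
(Tr.nd (nat_lit 468) (Tr.lf (Fc.ed (nat_lit 467) (nat_lit 54) Col.h (nat_lit 134) Dv.df))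
(Tr.lf (Fc.ed (nat_lit 468) (nat_lit 134) Col.k (nat_lit 55) (Dv.wd (nat_lit 82) [Mv.b (nat_lit 236), Mv.f (nat_lit 231), Mv.f (nat_lit 467)]))))))))
(Tr.nd (nat_lit 479) (Tr.nd (nat_lit 474) (Tr.nd (nat_lit 471) (Tr.nd (nat_lit 470) (Tr.lf (Fc.ed (nat_lit 469) (nat_lit 134) Col.b (nat_lit 129) (Dv.wd (nat_lit 101) [Mv.b (nat_lit 456), Mv.b (nat_lit 232), Mv.f (nat_lit 467)])))
(Tr.lf (Fc.ed (nat_lit 470) (nat_lit 56) Col.k (nat_lit 135) Dv.df)))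
(Tr.nd (nat_lit 472) (Tr.lf (Fc.ed (nat_lit 471) (nat_lit 135) Col.i (nat_lit 135) (Dv.wd (nat_lit 18) [Mv.b (nat_lit 470), Mv.f (nat_lit 241), Mv.f (nat_lit 470)])))
(Tr.nd (nat_lit 473) (Tr.lf (Fc.ed (nat_lit 472) (nat_lit 58) Col.k (nat_lit 136) Dv.df))
(Tr.lf (Fc.ed (nat_lit 473) (nat_lit 136) Col.e (nat_lit 136) (Dv.wd (nat_lit 99) [Mv.b (nat_lit 472), Mv.f (nat_lit 246), Mv.f (nat_lit 472)]))))))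
(Tr.nd (nat_lit 476) (Tr.nd (nat_lit 475) (Tr.lf (Fc.ed (nat_lit 474) (nat_lit 136) Col.h (nat_lit 135) (Dv.wd (nat_lit 129) [Mv.b (nat_lit 470), Mv.b (nat_lit 247), Mv.f (nat_lit 472)])))
(Tr.lf (Fc.ed (nat_lit 475) (nat_lit 58) Col.f (nat_lit 137) Dv.df)))
(Tr.nd (nat_lit 477) (Tr.lf (Fc.ed (nat_lit 476) (nat_lit 137) Col.a (nat_lit 71) (Dv.wd (nat_lit 78) [Mv.b (nat_lit 285), Mv.b (nat_lit 245), Mv.f (nat_lit 475)])))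
(Tr.nd (nat_lit 478) (Tr.lf (Fc.ed (nat_lit 477) (nat_lit 58) Col.i (nat_lit 138) Dv.df))
(Tr.lf (Fc.ed (nat_lit 478) (nat_lit 138) Col.h (nat_lit 138) (Dv.wd (nat_lit 120) [Mv.b (nat_lit 477), Mv.f (nat_lit 247), Mv.f (nat_lit 241), Mv.b (nat_lit 247), Mv.f (nat_lit 477)])))))))
(Tr.nd (nat_lit 484) (Tr.nd (nat_lit 481) (Tr.nd (nat_lit 480) (Tr.lf (Fc.ed (nat_lit 479) (nat_lit 59) Col.i (nat_lit 139) Dv.df))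
(Tr.lf (Fc.ed (nat_lit 480) (nat_lit 139) Col.h (nat_lit 139) (Dv.wd (nat_lit 120) [Mv.b (nat_lit 479), Mv.f (nat_lit 249), Mv.f (nat_lit 243), Mv.b (nat_lit 249), Mv.f (nat_lit 479)]))))
(Tr.nd (nat_lit 482) (Tr.lf (Fc.ed (nat_lit 481) (nat_lit 60) Col.k (nat_lit 140) Dv.df))
(Tr.nd (nat_lit 483) (Tr.lf (Fc.ed (nat_lit 482) (nat_lit 140) Col.b (nat_lit 140) (Dv.wd (nat_lit 49) [Mv.b (nat_lit 481), Mv.f (nat_lit 251), Mv.f (nat_lit 481)])))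
(Tr.lf (Fc.ed (nat_lit 483) (nat_lit 140) Col.d (nat_lit 136) (Dv.wd (nat_lit 37) [Mv.b (nat_lit 472), Mv.b (nat_lit 252), Mv.f (nat_lit 481)]))))))
(Tr.nd (nat_lit 487) (Tr.nd (nat_lit 485) (Tr.lf (Fc.ed (nat_lit 484) (nat_lit 140) Col.h (nat_lit 140) (Dv.wd (nat_lit 129) [Mv.b (nat_lit 481), Mv.f (nat_lit 253), Mv.f (nat_lit 481)])))
(Tr.nd (nat_lit 486) (Tr.lf (Fc.ed (nat_lit 485) (nat_lit 140) Col.a (nat_lit 140) (Dv.wd (nat_lit 100) [Mv.b (nat_lit 481), Mv.b (nat_lit 254), Mv.f (nat_lit 113), Mv.f (nat_lit 254), Mv.f (nat_lit 481)])))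
(Tr.lf (Fc.ed (nat_lit 486) (nat_lit 60) Col.i (nat_lit 141) Dv.df))))
(Tr.nd (nat_lit 488) (Tr.lf (Fc.ed (nat_lit 487) (nat_lit 141) Col.d (nat_lit 138) (Dv.wd (nat_lit 24) [Mv.b (nat_lit 477), Mv.b (nat_lit 252), Mv.f (nat_lit 486)])))
(Tr.nd (nat_lit 489) (Tr.lf (Fc.ed (nat_lit 488) (nat_lit 61) Col.k (nat_lit 142) Dv.df))
(Tr.lf (Fc.ed (nat_lit 489) (nat_lit 142) Col.d (nat_lit 134) (Dv.wd (nat_lit 37) [Mv.f (nat_lit 468), Mv.b (nat_lit 257), Mv.f (nat_lit 488)])))))))))))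
(Tr.nd (nat_lit 572) (Tr.nd (nat_lit 531) (Tr.nd (nat_lit 510) (Tr.nd (nat_lit 500) (Tr.nd (nat_lit 495) (Tr.nd (nat_lit 492) (Tr.nd (nat_lit 491) (Tr.lf (Fc.ed (nat_lit 490) (nat_lit 142) Col.a (nat_lit 142) (Dv.wd (nat_lit 100) [Mv.b (nat_lit 488), Mv.b (nat_lit 255), Mv.f (nat_lit 115), Mv.f (nat_lit 255), Mv.f (nat_lit 488)])))
(Tr.lf (Fc.ed (nat_lit 491) (nat_lit 62) Col.f (nat_lit 143) Dv.df)))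
(Tr.nd (nat_lit 493) (Tr.lf (Fc.ed (nat_lit 492) (nat_lit 143) Col.c (nat_lit 69) (Dv.wd (nat_lit 98) [Mv.b (nat_lit 282), Mv.b (nat_lit 261), Mv.f (nat_lit 491)])))
(Tr.nd (nat_lit 494) (Tr.lf (Fc.ed (nat_lit 493) (nat_lit 63) Col.e (nat_lit 144) Dv.df))
(Tr.lf (Fc.ed (nat_lit 494) (nat_lit 63) Col.i (nat_lit 145) Dv.df)))))
(Tr.nd (nat_lit 497) (Tr.nd (nat_lit 496) (Tr.lf (Fc.ed (nat_lit 495) (nat_lit 145) Col.d (nat_lit 139) (Dv.wd (nat_lit 24) [Mv.b (nat_lit 479), Mv.b (nat_lit 263), Mv.f (nat_lit 494)])))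
(Tr.lf (Fc.ed (nat_lit 496) (nat_lit 64) Col.k (nat_lit 146) Dv.df)))
(Tr.nd (nat_lit 498) (Tr.lf (Fc.ed (nat_lit 497) (nat_lit 146) Col.c (nat_lit 140) (Dv.wd (nat_lit 53) [Mv.b (nat_lit 481), Mv.b (nat_lit 265), Mv.f (nat_lit 496)])))
(Tr.nd (nat_lit 499) (Tr.lf (Fc.ed (nat_lit 498) (nat_lit 146) Col.d (nat_lit 146) (Dv.wd (nat_lit 37) [Mv.b (nat_lit 496), Mv.f (nat_lit 266), Mv.f (nat_lit 496)])))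
(Tr.lf (Fc.ed (nat_lit 499) (nat_lit 146) Col.e (nat_lit 142) (Dv.wd (nat_lit 99) [Mv.b (nat_lit 488), Mv.b (nat_lit 267), Mv.f (nat_lit 496)])))))))
(Tr.nd (nat_lit 505) (Tr.nd (nat_lit 502) (Tr.nd (nat_lit 501) (Tr.lf (Fc.ed (nat_lit 500) (nat_lit 146) Col.h (nat_lit 146) (Dv.wd (nat_lit 129) [Mv.b (nat_lit 496), Mv.f (nat_lit 268), Mv.f (nat_lit 496)])))
(Tr.lf (Fc.ed (nat_lit 501) (nat_lit 146) Col.a (nat_lit 146) (Dv.wd (nat_lit 100) [Mv.b (nat_lit 496), Mv.b (nat_lit 269), Mv.f (nat_lit 259), Mv.f (nat_lit 269), Mv.f (nat_lit 496)]))))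
(Tr.nd (nat_lit 503) (Tr.lf (Fc.ed (nat_lit 502) (nat_lit 64) Col.b (nat_lit 147) Dv.df))
(Tr.nd (nat_lit 504) (Tr.lf (Fc.ed (nat_lit 503) (nat_lit 147) Col.e (nat_lit 132) (Dv.wd (nat_lit 40) [Mv.f (nat_lit 462), Mv.b (nat_lit 267), Mv.f (nat_lit 502)])))
(Tr.lf (Fc.ed (nat_lit 504) (nat_lit 147) Col.a (nat_lit 147) (Dv.wd (nat_lit 112) [Mv.b (nat_lit 502), Mv.b (nat_lit 269), Mv.f (nat_lit 260), Mv.f (nat_lit 269), Mv.f (nat_lit 502)]))))))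
(Tr.nd (nat_lit 507) (Tr.nd (nat_lit 506) (Tr.lf (Fc.ed (nat_lit 505) (nat_lit 64) Col.f (nat_lit 148) Dv.df))
(Tr.lf (Fc.ed (nat_lit 506) (nat_lit 148) Col.a (nat_lit 143) (Dv.wd (nat_lit 78) [Mv.b (nat_lit 491), Mv.f (nat_lit 269), Mv.f (nat_lit 505)]))))
(Tr.nd (nat_lit 508) (Tr.lf (Fc.ed (nat_lit 507) (nat_lit 64) Col.i (nat_lit 149) Dv.df))
(Tr.nd (nat_lit 509) (Tr.lf (Fc.ed (nat_lit 508) (nat_lit 149) Col.c (nat_lit 141) (Dv.wd (nat_lit 23) [Mv.b (nat_lit 486), Mv.b (nat_lit 265), Mv.f (nat_lit 507)])))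
(Tr.lf (Fc.ed (nat_lit 509) (nat_lit 65) Col.k (nat_lit 150) Dv.df)))))))
(Tr.nd (nat_lit 520) (Tr.nd (nat_lit 515) (Tr.nd (nat_lit 512) (Tr.nd (nat_lit 511) (Tr.lf (Fc.ed (nat_lit 510) (nat_lit 150) Col.b (nat_lit 150) (Dv.wd (nat_lit 49) [Mv.b (nat_lit 509), Mv.f (nat_lit 274), Mv.f (nat_lit 509)])))
(Tr.lf (Fc.ed (nat_lit 511) (nat_lit 150) Col.c (nat_lit 142) (Dv.wd (nat_lit 53) [Mv.b (nat_lit 488), Mv.b (nat_lit 271), Mv.f (nat_lit 509)]))))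
(Tr.nd (nat_lit 513) (Tr.lf (Fc.ed (nat_lit 512) (nat_lit 150) Col.d (nat_lit 150) (Dv.wd (nat_lit 37) [Mv.b (nat_lit 509), Mv.f (nat_lit 272), Mv.f (nat_lit 509)])))
(Tr.nd (nat_lit 514) (Tr.lf (Fc.ed (nat_lit 513) (nat_lit 150) Col.e (nat_lit 140) (Dv.wd (nat_lit 99) [Mv.b (nat_lit 481), Mv.b (nat_lit 273), Mv.f (nat_lit 509)])))
(Tr.lf (Fc.ed (nat_lit 514) (nat_lit 150) Col.a (nat_lit 150) (Dv.wd (nat_lit 100) [Mv.b (nat_lit 509), Mv.b (nat_lit 270), Mv.f (nat_lit 114), Mv.f (nat_lit 270), Mv.f (nat_lit 509)]))))))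
(Tr.nd (nat_lit 517) (Tr.nd (nat_lit 516) (Tr.lf (Fc.ed (nat_lit 515) (nat_lit 65) Col.f (nat_lit 151) Dv.df))
(Tr.lf (Fc.ed (nat_lit 516) (nat_lit 151) Col.a (nat_lit 67) (Dv.wd (nat_lit 78) [Mv.b (nat_lit 278), Mv.f (nat_lit 270), Mv.f (nat_lit 515)]))))
(Tr.nd (nat_lit 518) (Tr.lf (Fc.ed (nat_lit 517) (nat_lit 65) Col.i (nat_lit 152) Dv.df))
(Tr.nd (nat_lit 519) (Tr.lf (Fc.ed (nat_lit 518) (nat_lit 152) Col.e (nat_lit 141) (Dv.wd (nat_lit 25) [Mv.b (nat_lit 486), Mv.b (nat_lit 273), Mv.f (nat_lit 517)])))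
(Tr.lf (Fc.ed (nat_lit 519) (nat_lit 66) Col.f (nat_lit 153) Dv.df))))))
(Tr.nd (nat_lit 525) (Tr.nd (nat_lit 522) (Tr.nd (nat_lit 521) (Tr.lf (Fc.ed (nat_lit 520) (nat_lit 153) Col.b (nat_lit 67) (Dv.wd (nat_lit 128) [Mv.b (nat_lit 278), Mv.f (nat_lit 275), Mv.f (nat_lit 519)])))
(Tr.lf (Fc.ed (nat_lit 521) (nat_lit 153) Col.c (nat_lit 153) (Dv.wd (nat_lit 98) [Mv.b (nat_lit 519), Mv.f (nat_lit 277), Mv.f (nat_lit 519)]))))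
(Tr.nd (nat_lit 523) (Tr.lf (Fc.ed (nat_lit 522) (nat_lit 153) Col.d (nat_lit 153) (Dv.wd (nat_lit 109) [Mv.b (nat_lit 519), Mv.f (nat_lit 276), Mv.f (nat_lit 519)])))
(Tr.nd (nat_lit 524) (Tr.lf (Fc.ed (nat_lit 523) (nat_lit 67) Col.i (nat_lit 154) Dv.df))
(Tr.lf (Fc.ed (nat_lit 524) (nat_lit 68) Col.f (nat_lit 155) Dv.df)))))
(Tr.nd (nat_lit 528) (Tr.nd (nat_lit 526) (Tr.lf (Fc.ed (nat_lit 525) (nat_lit 155) Col.a (nat_lit 155) (Dv.wd (nat_lit 78) [Mv.b (nat_lit 524), Mv.f (nat_lit 281), Mv.f (nat_lit 524)])))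
(Tr.nd (nat_lit 527) (Tr.lf (Fc.ed (nat_lit 526) (nat_lit 155) Col.b (nat_lit 69) (Dv.wd (nat_lit 128) [Mv.b (nat_lit 282), Mv.f (nat_lit 279), Mv.f (nat_lit 524)])))
(Tr.lf (Fc.ed (nat_lit 527) (nat_lit 69) Col.e (nat_lit 156) Dv.df))))
(Tr.nd (nat_lit 529) (Tr.lf (Fc.ed (nat_lit 528) (nat_lit 70) Col.f (nat_lit 157) Dv.df))
(Tr.nd (nat_lit 530) (Tr.lf (Fc.ed (nat_lit 529) (nat_lit 157) Col.b (nat_lit 71) (Dv.wd (nat_lit 128) [Mv.b (nat_lit 285), Mv.f (nat_lit 283), Mv.f (nat_lit 528)])))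
(Tr.lf (Fc.ed (nat_lit 530) (nat_lit 157) Col.h (nat_lit 72) (Dv.wd (nat_lit 105) [Mv.b (nat_lit 286), Mv.b (nat_lit 284), Mv.f (nat_lit 528)])))))))))
(Tr.nd (nat_lit 551) (Tr.nd (nat_lit 541) (Tr.nd (nat_lit 536) (Tr.nd (nat_lit 533) (Tr.nd (nat_lit 532) (Tr.lf (Fc.ed (nat_lit 531) (nat_lit 71) Col.e (nat_lit 158) Dv.df))
(Tr.lf (Fc.ed (nat_lit 532) (nat_lit 72) Col.e (nat_lit 159) Dv.df)))
(Tr.nd (nat_lit 534) (Tr.lf (Fc.ed (nat_lit 533) (nat_lit 73) Col.e (nat_lit 160) Dv.df))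
(Tr.nd (nat_lit 535) (Tr.lf (Fc.ed (nat_lit 534) (nat_lit 160) Col.l (nat_lit 126) (Dv.wd (nat_lit 68) [Mv.b (nat_lit 450), Mv.b (nat_lit 288), Mv.f (nat_lit 533)])))
(Tr.lf (Fc.ed (nat_lit 535) (nat_lit 160) Col.c (nat_lit 159) (Dv.wd (nat_lit 91) [Mv.b (nat_lit 532), Mv.b (nat_lit 289), Mv.f (nat_lit 533)]))))))
(Tr.nd (nat_lit 538) (Tr.nd (nat_lit 537) (Tr.lf (Fc.ed (nat_lit 536) (nat_lit 75) Col.h (nat_lit 161) Dv.df))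
(Tr.lf (Fc.ed (nat_lit 537) (nat_lit 76) Col.c (nat_lit 162) Dv.df)))
(Tr.nd (nat_lit 539) (Tr.lf (Fc.ed (nat_lit 538) (nat_lit 162) Col.a (nat_lit 128) (Dv.wd (nat_lit 87) [Mv.f (nat_lit 455), Mv.f (nat_lit 449), Mv.f (nat_lit 537)])))
(Tr.nd (nat_lit 540) (Tr.lf (Fc.ed (nat_lit 539) (nat_lit 162) Col.f (nat_lit 127) (Dv.wd (nat_lit 29) [Mv.f (nat_lit 453), Mv.b (nat_lit 311), Mv.f (nat_lit 537)])))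
(Tr.lf (Fc.ed (nat_lit 540) (nat_lit 162) Col.d (nat_lit 162) (Dv.wd (nat_lit 126) [Mv.b (nat_lit 537), Mv.b (nat_lit 446), Mv.f (nat_lit 445), Mv.f (nat_lit 446), Mv.f (nat_lit 537)])))))))
(Tr.nd (nat_lit 546) (Tr.nd (nat_lit 543) (Tr.nd (nat_lit 542) (Tr.lf (Fc.ed (nat_lit 541) (nat_lit 76) Col.h (nat_lit 163) Dv.df))
(Tr.lf (Fc.ed (nat_lit 542) (nat_lit 163) Col.e (nat_lit 79) (Dv.wd (nat_lit 117) [Mv.f (nat_lit 323), Mv.f (nat_lit 321), Mv.f (nat_lit 541)]))))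
(Tr.nd (nat_lit 544) (Tr.lf (Fc.ed (nat_lit 543) (nat_lit 163) Col.f (nat_lit 161) (Dv.wd (nat_lit 84) [Mv.b (nat_lit 536), Mv.b (nat_lit 311), Mv.f (nat_lit 541)])))
(Tr.nd (nat_lit 545) (Tr.lf (Fc.ed (nat_lit 544) (nat_lit 78) Col.a (nat_lit 164) Dv.df))
(Tr.lf (Fc.ed (nat_lit 545) (nat_lit 164) Col.e (nat_lit 125) (Dv.wd (nat_lit 42) [Mv.f (nat_lit 449), Mv.b (nat_lit 321), Mv.f (nat_lit 544)]))))))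
(Tr.nd (nat_lit 548) (Tr.nd (nat_lit 547) (Tr.lf (Fc.ed (nat_lit 546) (nat_lit 126) Col.k (nat_lit 164) (Dv.wd (nat_lit 67) [Mv.f (nat_lit 545), Mv.f (nat_lit 448), Mv.f (nat_lit 450)])))
(Tr.lf (Fc.ed (nat_lit 547) (nat_lit 78) Col.c (nat_lit 165) Dv.df)))
(Tr.nd (nat_lit 549) (Tr.lf (Fc.ed (nat_lit 548) (nat_lit 165) Col.e (nat_lit 162) (Dv.wd (nat_lit 39) [Mv.b (nat_lit 537), Mv.b (nat_lit 321), Mv.f (nat_lit 547)])))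
(Tr.nd (nat_lit 550) (Tr.lf (Fc.ed (nat_lit 549) (nat_lit 79) Col.a (nat_lit 166) Dv.df))
(Tr.lf (Fc.ed (nat_lit 550) (nat_lit 166) Col.h (nat_lit 164) (Dv.wd (nat_lit 122) [Mv.b (nat_lit 544), Mv.b (nat_lit 323), Mv.f (nat_lit 549)]))))))))
(Tr.nd (nat_lit 561) (Tr.nd (nat_lit 556) (Tr.nd (nat_lit 553) (Tr.nd (nat_lit 552) (Tr.lf (Fc.ed (nat_lit 551) (nat_lit 79) Col.c (nat_lit 167) Dv.df))
(Tr.lf (Fc.ed (nat_lit 552) (nat_lit 167) Col.h (nat_lit 165) (Dv.wd (nat_lit 32) [Mv.b (nat_lit 547), Mv.b (nat_lit 323), Mv.f (nat_lit 551)]))))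
(Tr.nd (nat_lit 554) (Tr.lf (Fc.ed (nat_lit 553) (nat_lit 79) Col.i (nat_lit 168) Dv.df))
(Tr.nd (nat_lit 555) (Tr.lf (Fc.ed (nat_lit 554) (nat_lit 81) Col.a (nat_lit 169) Dv.df))
(Tr.lf (Fc.ed (nat_lit 555) (nat_lit 169) Col.d (nat_lit 166) (Dv.wd (nat_lit 36) [Mv.b (nat_lit 549), Mv.b (nat_lit 327), Mv.f (nat_lit 554)]))))))
(Tr.nd (nat_lit 558) (Tr.nd (nat_lit 557) (Tr.lf (Fc.ed (nat_lit 556) (nat_lit 169) Col.e (nat_lit 169) (Dv.wd (nat_lit 42) [Mv.b (nat_lit 554), Mv.f (nat_lit 328), Mv.f (nat_lit 554)])))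
(Tr.lf (Fc.ed (nat_lit 557) (nat_lit 169) Col.f (nat_lit 169) (Dv.wd (nat_lit 124) [Mv.b (nat_lit 554), Mv.f (nat_lit 329), Mv.f (nat_lit 554)]))))
(Tr.nd (nat_lit 559) (Tr.lf (Fc.ed (nat_lit 558) (nat_lit 169) Col.h (nat_lit 169) (Dv.wd (nat_lit 122) [Mv.b (nat_lit 554), Mv.f (nat_lit 330), Mv.f (nat_lit 554)])))
(Tr.nd (nat_lit 560) (Tr.lf (Fc.ed (nat_lit 559) (nat_lit 81) Col.c (nat_lit 170) Dv.df))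
(Tr.lf (Fc.ed (nat_lit 560) (nat_lit 170) Col.b (nat_lit 85) (Dv.wd (nat_lit 130) [Mv.b (nat_lit 340), Mv.b (nat_lit 156), Mv.b (nat_lit 151), Mv.f (nat_lit 326), Mv.f (nat_lit 559)])))))))
(Tr.nd (nat_lit 566) (Tr.nd (nat_lit 563) (Tr.nd (nat_lit 562) (Tr.lf (Fc.ed (nat_lit 561) (nat_lit 81) Col.i (nat_lit 171) Dv.df))
(Tr.lf (Fc.ed (nat_lit 562) (nat_lit 171) Col.b (nat_lit 82) (Dv.wd (nat_lit 22) [Mv.b (nat_lit 331), Mv.f (nat_lit 326), Mv.f (nat_lit 561)]))))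
(Tr.nd (nat_lit 564) (Tr.lf (Fc.ed (nat_lit 563) (nat_lit 82) Col.h (nat_lit 172) Dv.df))
(Tr.nd (nat_lit 565) (Tr.lf (Fc.ed (nat_lit 564) (nat_lit 172) Col.c (nat_lit 89) (Dv.wd (nat_lit 131) [Mv.f (nat_lit 356), Mv.f (nat_lit 336), Mv.f (nat_lit 563)])))
(Tr.lf (Fc.ed (nat_lit 565) (nat_lit 172) Col.d (nat_lit 172) (Dv.wd (nat_lit 118) [Mv.b (nat_lit 563), Mv.f (nat_lit 332), Mv.f (nat_lit 325), Mv.b (nat_lit 332), Mv.f (nat_lit 563)]))))))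
(Tr.nd (nat_lit 569) (Tr.nd (nat_lit 567) (Tr.lf (Fc.ed (nat_lit 566) (nat_lit 92) Col.c (nat_lit 92) (Dv.wd (nat_lit 44) [Mv.f (nat_lit 363), Mv.b (nat_lit 564), Mv.f (nat_lit 565), Mv.f (nat_lit 564), Mv.b (nat_lit 363)])))
(Tr.nd (nat_lit 568) (Tr.lf (Fc.al (nat_lit 567) (nat_lit 95) (nat_lit 34) (Dv.wd (nat_lit 52) [Mv.b (nat_lit 172), Mv.f (nat_lit 362), Mv.f (nat_lit 566), Mv.b (nat_lit 362), Mv.f (nat_lit 172), Mv.f (nat_lit 377)])))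
(Tr.lf (Fc.ed (nat_lit 568) (nat_lit 34) Col.b (nat_lit 34) (Dv.wd (nat_lit 132) [Mv.f (nat_lit 377), Mv.f (nat_lit 567)])))))
(Tr.nd (nat_lit 570) (Tr.lf (Fc.al (nat_lit 569) (nat_lit 35) (nat_lit 98) (Dv.wd (nat_lit 133) [Mv.f (nat_lit 382), Mv.f (nat_lit 567), Mv.f (nat_lit 176)])))
(Tr.nd (nat_lit 571) (Tr.lf (Fc.al (nat_lit 570) (nat_lit 36) (nat_lit 101) (Dv.wd (nat_lit 134) [Mv.f (nat_lit 388), Mv.b (nat_lit 569), Mv.f (nat_lit 179)])))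
(Tr.lf (Fc.ed (nat_lit 571) (nat_lit 36) Col.b (nat_lit 36) (Dv.wd (nat_lit 132) [Mv.f (nat_lit 387), Mv.b (nat_lit 570)]))))))))))
(Tr.nd (nat_lit 613) (Tr.nd (nat_lit 592) (Tr.nd (nat_lit 582) (Tr.nd (nat_lit 577) (Tr.nd (nat_lit 574) (Tr.nd (nat_lit 573) (Tr.lf (Fc.al (nat_lit 572) (nat_lit 37) (nat_lit 105) (Dv.wd (nat_lit 135) [Mv.f (nat_lit 395), Mv.b (nat_lit 570), Mv.f (nat_lit 182)])))
(Tr.lf (Fc.al (nat_lit 573) (nat_lit 38) (nat_lit 108) (Dv.wd (nat_lit 136) [Mv.f (nat_lit 404), Mv.b (nat_lit 572), Mv.f (nat_lit 185)]))))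
(Tr.nd (nat_lit 575) (Tr.lf (Fc.ed (nat_lit 574) (nat_lit 38) Col.b (nat_lit 38) (Dv.wd (nat_lit 132) [Mv.f (nat_lit 403), Mv.b (nat_lit 573)])))
(Tr.nd (nat_lit 576) (Tr.lf (Fc.al (nat_lit 575) (nat_lit 39) (nat_lit 111) (Dv.wd (nat_lit 137) [Mv.f (nat_lit 414), Mv.b (nat_lit 573), Mv.f (nat_lit 188)])))
(Tr.lf (Fc.al (nat_lit 576) (nat_lit 40) (nat_lit 113) (Dv.wd (nat_lit 133) [Mv.f (nat_lit 420), Mv.b (nat_lit 575), Mv.f (nat_lit 190)]))))))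
(Tr.nd (nat_lit 579) (Tr.nd (nat_lit 578) (Tr.lf (Fc.al (nat_lit 577) (nat_lit 41) (nat_lit 116) (Dv.wd (nat_lit 134) [Mv.f (nat_lit 426), Mv.b (nat_lit 576), Mv.f (nat_lit 192)])))
(Tr.lf (Fc.ed (nat_lit 578) (nat_lit 41) Col.b (nat_lit 41) (Dv.wd (nat_lit 132) [Mv.f (nat_lit 425), Mv.b (nat_lit 577)]))))
(Tr.nd (nat_lit 580) (Tr.lf (Fc.al (nat_lit 579) (nat_lit 42) (nat_lit 120) (Dv.wd (nat_lit 135) [Mv.f (nat_lit 438), Mv.b (nat_lit 577), Mv.f (nat_lit 194)])))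
(Tr.nd (nat_lit 581) (Tr.lf (Fc.ed (nat_lit 580) (nat_lit 42) Col.b (nat_lit 42) (Dv.wd (nat_lit 132) [Mv.f (nat_lit 437), Mv.b (nat_lit 579)])))
(Tr.lf (Fc.ed (nat_lit 581) (nat_lit 121) Col.b (nat_lit 121) (Dv.wd (nat_lit 138) [Mv.b (nat_lit 439), Mv.f (nat_lit 580), Mv.f (nat_lit 439)])))))))
(Tr.nd (nat_lit 587) (Tr.nd (nat_lit 584) (Tr.nd (nat_lit 583) (Tr.lf (Fc.ed (nat_lit 582) (nat_lit 118) Col.b (nat_lit 118) (Dv.wd (nat_lit 51) [Mv.b (nat_lit 440), Mv.f (nat_lit 581), Mv.f (nat_lit 440)])))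
(Tr.lf (Fc.ed (nat_lit 583) (nat_lit 109) Col.b (nat_lit 109) (Dv.wd (nat_lit 48) [Mv.b (nat_lit 405), Mv.f (nat_lit 574), Mv.f (nat_lit 405)]))))
(Tr.nd (nat_lit 585) (Tr.lf (Fc.ed (nat_lit 584) (nat_lit 84) Col.k (nat_lit 173) Dv.df))
(Tr.nd (nat_lit 586) (Tr.lf (Fc.ed (nat_lit 585) (nat_lit 84) Col.c (nat_lit 174) Dv.df))
(Tr.lf (Fc.ed (nat_lit 586) (nat_lit 174) Col.a (nat_lit 85) (Dv.wd (nat_lit 87) [Mv.b (nat_lit 340), Mv.f (nat_lit 337), Mv.f (nat_lit 585)]))))))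
(Tr.nd (nat_lit 589) (Tr.nd (nat_lit 588) (Tr.lf (Fc.ed (nat_lit 587) (nat_lit 174) Col.h (nat_lit 174) (Dv.wd (nat_lit 32) [Mv.b (nat_lit 585), Mv.f (nat_lit 339), Mv.f (nat_lit 585)])))
(Tr.lf (Fc.ed (nat_lit 588) (nat_lit 85) Col.d (nat_lit 175) Dv.df)))
(Tr.nd (nat_lit 590) (Tr.lf (Fc.ed (nat_lit 589) (nat_lit 175) Col.l (nat_lit 175) (Dv.wd (nat_lit 72) [Mv.b (nat_lit 588), Mv.f (nat_lit 341), Mv.f (nat_lit 588)])))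
(Tr.nd (nat_lit 591) (Tr.lf (Fc.ed (nat_lit 590) (nat_lit 175) Col.c (nat_lit 175) (Dv.wd (nat_lit 139) [Mv.b (nat_lit 588), Mv.b (nat_lit 340), Mv.f (nat_lit 206), Mv.f (nat_lit 340), Mv.f (nat_lit 588)])))
(Tr.lf (Fc.ed (nat_lit 591) (nat_lit 86) Col.k (nat_lit 176) Dv.df)))))))
(Tr.nd (nat_lit 602) (Tr.nd (nat_lit 597) (Tr.nd (nat_lit 594) (Tr.nd (nat_lit 593) (Tr.lf (Fc.ed (nat_lit 592) (nat_lit 176) Col.i (nat_lit 173) (Dv.wd (nat_lit 18) [Mv.b (nat_lit 584), Mv.b (nat_lit 346), Mv.f (nat_lit 591)])))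
(Tr.lf (Fc.ed (nat_lit 593) (nat_lit 176) Col.a (nat_lit 176) (Dv.wd (nat_lit 100) [Mv.b (nat_lit 591), Mv.b (nat_lit 344), Mv.f (nat_lit 162), Mv.f (nat_lit 344), Mv.f (nat_lit 591)]))))
(Tr.nd (nat_lit 595) (Tr.lf (Fc.ed (nat_lit 594) (nat_lit 86) Col.c (nat_lit 177) Dv.df))
(Tr.nd (nat_lit 596) (Tr.lf (Fc.ed (nat_lit 595) (nat_lit 177) Col.l (nat_lit 177) (Dv.wd (nat_lit 85) [Mv.b (nat_lit 594), Mv.f (nat_lit 345), Mv.f (nat_lit 594)])))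
(Tr.lf (Fc.ed (nat_lit 596) (nat_lit 177) Col.a (nat_lit 87) (Dv.wd (nat_lit 87) [Mv.b (nat_lit 348), Mv.f (nat_lit 344), Mv.f (nat_lit 594)]))))))
(Tr.nd (nat_lit 599) (Tr.nd (nat_lit 598) (Tr.lf (Fc.ed (nat_lit 597) (nat_lit 87) Col.b (nat_lit 178) Dv.df))
(Tr.lf (Fc.ed (nat_lit 598) (nat_lit 178) Col.i (nat_lit 170) (Dv.wd (nat_lit 16) [Mv.f (nat_lit 560), Mv.b (nat_lit 349), Mv.f (nat_lit 597)]))))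
(Tr.nd (nat_lit 600) (Tr.lf (Fc.ed (nat_lit 599) (nat_lit 178) Col.c (nat_lit 171) (Dv.wd (nat_lit 111) [Mv.f (nat_lit 562), Mv.b (nat_lit 336), Mv.f (nat_lit 335), Mv.f (nat_lit 348), Mv.f (nat_lit 597)])))
(Tr.nd (nat_lit 601) (Tr.lf (Fc.ed (nat_lit 600) (nat_lit 87) Col.d (nat_lit 179) Dv.df))
(Tr.lf (Fc.ed (nat_lit 601) (nat_lit 179) Col.i (nat_lit 175) (Dv.wd (nat_lit 14) [Mv.b (nat_lit 588), Mv.b (nat_lit 349), Mv.f (nat_lit 600)])))))))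
(Tr.nd (nat_lit 607) (Tr.nd (nat_lit 604) (Tr.nd (nat_lit 603) (Tr.lf (Fc.ed (nat_lit 602) (nat_lit 88) Col.k (nat_lit 180) Dv.df))
(Tr.lf (Fc.ed (nat_lit 603) (nat_lit 180) Col.f (nat_lit 180) (Dv.wd (nat_lit 140) [Mv.b (nat_lit 602), Mv.f (nat_lit 352), Mv.f (nat_lit 602)]))))
(Tr.nd (nat_lit 605) (Tr.lf (Fc.ed (nat_lit 604) (nat_lit 180) Col.h (nat_lit 176) (Dv.wd (nat_lit 129) [Mv.b (nat_lit 591), Mv.b (nat_lit 353), Mv.f (nat_lit 602)])))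
(Tr.nd (nat_lit 606) (Tr.lf (Fc.ed (nat_lit 605) (nat_lit 180) Col.a (nat_lit 180) (Dv.wd (nat_lit 100) [Mv.b (nat_lit 602), Mv.b (nat_lit 350), Mv.f (nat_lit 166), Mv.f (nat_lit 350), Mv.f (nat_lit 602)])))
(Tr.lf (Fc.ed (nat_lit 606) (nat_lit 88) Col.c (nat_lit 181) Dv.df)))))
(Tr.nd (nat_lit 610) (Tr.nd (nat_lit 608) (Tr.lf (Fc.ed (nat_lit 607) (nat_lit 181) Col.a (nat_lit 90) (Dv.wd (nat_lit 87) [Mv.b (nat_lit 357), Mv.f (nat_lit 350), Mv.f (nat_lit 606)])))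
(Tr.nd (nat_lit 609) (Tr.lf (Fc.ed (nat_lit 608) (nat_lit 181) Col.h (nat_lit 177) (Dv.wd (nat_lit 32) [Mv.b (nat_lit 594), Mv.b (nat_lit 353), Mv.f (nat_lit 606)])))
(Tr.lf (Fc.ed (nat_lit 609) (nat_lit 90) Col.b (nat_lit 182) Dv.df))))
(Tr.nd (nat_lit 611) (Tr.lf (Fc.ed (nat_lit 610) (nat_lit 182) Col.h (nat_lit 178) (Dv.wd (nat_lit 113) [Mv.b (nat_lit 597), Mv.b (nat_lit 358), Mv.f (nat_lit 609)])))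
(Tr.nd (nat_lit 612) (Tr.lf (Fc.ed (nat_lit 611) (nat_lit 90) Col.d (nat_lit 183) Dv.df))
(Tr.lf (Fc.ed (nat_lit 612) (nat_lit 183) Col.c (nat_lit 96) (Dv.wd (nat_lit 139) [Mv.b (nat_lit 378), Mv.b (nat_lit 172), Mv.b (nat_lit 168), Mv.f (nat_lit 357), Mv.f (nat_lit 611)])))))))))
(Tr.nd (nat_lit 633) (Tr.nd (nat_lit 623) (Tr.nd (nat_lit 618) (Tr.nd (nat_lit 615) (Tr.nd (nat_lit 614) (Tr.lf (Fc.ed (nat_lit 613) (nat_lit 91) Col.k (nat_lit 184) Dv.df))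
(Tr.lf (Fc.ed (nat_lit 614) (nat_lit 184) Col.d (nat_lit 180) (Dv.wd (nat_lit 37) [Mv.b (nat_lit 602), Mv.b (nat_lit 360), Mv.f (nat_lit 613)]))))
(Tr.nd (nat_lit 616) (Tr.lf (Fc.ed (nat_lit 615) (nat_lit 92) Col.e (nat_lit 185) Dv.df))
(Tr.nd (nat_lit 617) (Tr.lf (Fc.ed (nat_lit 616) (nat_lit 185) Col.a (nat_lit 185) (Dv.wd (nat_lit 70) [Mv.b (nat_lit 615), Mv.f (nat_lit 365), Mv.f (nat_lit 615)])))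
(Tr.lf (Fc.ed (nat_lit 617) (nat_lit 185) Col.b (nat_lit 93) (Dv.wd (nat_lit 97) [Mv.b (nat_lit 366), Mv.f (nat_lit 362), Mv.f (nat_lit 615)]))))))
(Tr.nd (nat_lit 620) (Tr.nd (nat_lit 619) (Tr.lf (Fc.ed (nat_lit 618) (nat_lit 185) Col.h (nat_lit 185) (Dv.wd (nat_lit 71) [Mv.b (nat_lit 615), Mv.f (nat_lit 364), Mv.f (nat_lit 615)])))
(Tr.lf (Fc.ed (nat_lit 619) (nat_lit 93) Col.f (nat_lit 186) Dv.df)))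
(Tr.nd (nat_lit 621) (Tr.lf (Fc.ed (nat_lit 620) (nat_lit 186) Col.c (nat_lit 99) (Dv.wd (nat_lit 98) [Mv.b (nat_lit 383), Mv.b (nat_lit 367), Mv.f (nat_lit 619)])))
(Tr.nd (nat_lit 622) (Tr.lf (Fc.ed (nat_lit 621) (nat_lit 94) Col.k (nat_lit 187) Dv.df))
(Tr.lf (Fc.ed (nat_lit 622) (nat_lit 187) Col.c (nat_lit 184) (Dv.wd (nat_lit 53) [Mv.b (nat_lit 613), Mv.b (nat_lit 375), Mv.f (nat_lit 621)])))))))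
(Tr.nd (nat_lit 628) (Tr.nd (nat_lit 625) (Tr.nd (nat_lit 624) (Tr.lf (Fc.ed (nat_lit 623) (nat_lit 94) Col.b (nat_lit 188) Dv.df))
(Tr.lf (Fc.ed (nat_lit 624) (nat_lit 188) Col.f (nat_lit 188) (Dv.wd (nat_lit 90) [Mv.b (nat_lit 623), Mv.f (nat_lit 376), Mv.f (nat_lit 623)]))))
(Tr.nd (nat_lit 626) (Tr.lf (Fc.ed (nat_lit 625) (nat_lit 188) Col.a (nat_lit 188) (Dv.wd (nat_lit 112) [Mv.b (nat_lit 623), Mv.b (nat_lit 374), Mv.f (nat_lit 568), Mv.f (nat_lit 374), Mv.f (nat_lit 623)])))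
(Tr.nd (nat_lit 627) (Tr.lf (Fc.ed (nat_lit 626) (nat_lit 94) Col.d (nat_lit 189) Dv.df))
(Tr.lf (Fc.ed (nat_lit 627) (nat_lit 96) Col.e (nat_lit 190) Dv.df)))))
(Tr.nd (nat_lit 630) (Tr.nd (nat_lit 629) (Tr.lf (Fc.ed (nat_lit 628) (nat_lit 190) Col.d (nat_lit 102) (Dv.wd (nat_lit 92) [Mv.b (nat_lit 389), Mv.b (nat_lit 179), Mv.b (nat_lit 176), Mv.f (nat_lit 378), Mv.f (nat_lit 627)])))
(Tr.lf (Fc.ed (nat_lit 629) (nat_lit 96) Col.h (nat_lit 191) Dv.df)))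
(Tr.nd (nat_lit 631) (Tr.lf (Fc.ed (nat_lit 630) (nat_lit 97) Col.k (nat_lit 192) Dv.df))
(Tr.nd (nat_lit 632) (Tr.lf (Fc.ed (nat_lit 631) (nat_lit 192) Col.e (nat_lit 187) (Dv.wd (nat_lit 99) [Mv.b (nat_lit 621), Mv.b (nat_lit 380), Mv.f (nat_lit 630)])))
(Tr.lf (Fc.ed (nat_lit 632) (nat_lit 97) Col.b (nat_lit 193) Dv.df)))))))
(Tr.nd (nat_lit 643) (Tr.nd (nat_lit 638) (Tr.nd (nat_lit 635) (Tr.nd (nat_lit 634) (Tr.lf (Fc.ed (nat_lit 633) (nat_lit 193) Col.e (nat_lit 188) (Dv.wd (nat_lit 40) [Mv.b (nat_lit 623), Mv.b (nat_lit 380), Mv.f (nat_lit 632)])))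
(Tr.lf (Fc.ed (nat_lit 634) (nat_lit 100) Col.k (nat_lit 194) Dv.df)))
(Tr.nd (nat_lit 636) (Tr.lf (Fc.ed (nat_lit 635) (nat_lit 194) Col.d (nat_lit 192) (Dv.wd (nat_lit 37) [Mv.b (nat_lit 630), Mv.b (nat_lit 386), Mv.f (nat_lit 634)])))
(Tr.nd (nat_lit 637) (Tr.lf (Fc.ed (nat_lit 636) (nat_lit 100) Col.b (nat_lit 195) Dv.df))
(Tr.lf (Fc.ed (nat_lit 637) (nat_lit 195) Col.d (nat_lit 193) (Dv.wd (nat_lit 35) [Mv.b (nat_lit 632), Mv.b (nat_lit 386), Mv.f (nat_lit 636)]))))))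
(Tr.nd (nat_lit 640) (Tr.nd (nat_lit 639) (Tr.lf (Fc.ed (nat_lit 638) (nat_lit 195) Col.a (nat_lit 195) (Dv.wd (nat_lit 112) [Mv.b (nat_lit 636), Mv.b (nat_lit 384), Mv.f (nat_lit 571), Mv.f (nat_lit 384), Mv.f (nat_lit 636)])))
(Tr.lf (Fc.ed (nat_lit 639) (nat_lit 102) Col.f (nat_lit 196) Dv.df)))
(Tr.nd (nat_lit 641) (Tr.lf (Fc.ed (nat_lit 640) (nat_lit 103) Col.e (nat_lit 197) Dv.df))
(Tr.nd (nat_lit 642) (Tr.lf (Fc.ed (nat_lit 641) (nat_lit 104) Col.k (nat_lit 198) Dv.df))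
(Tr.lf (Fc.ed (nat_lit 642) (nat_lit 198) Col.h (nat_lit 194) (Dv.wd (nat_lit 129) [Mv.b (nat_lit 634), Mv.b (nat_lit 393), Mv.f (nat_lit 641)])))))))
(Tr.nd (nat_lit 648) (Tr.nd (nat_lit 645) (Tr.nd (nat_lit 644) (Tr.lf (Fc.ed (nat_lit 643) (nat_lit 104) Col.b (nat_lit 199) Dv.df))
(Tr.lf (Fc.ed (nat_lit 644) (nat_lit 199) Col.h (nat_lit 195) (Dv.wd (nat_lit 113) [Mv.b (nat_lit 636), Mv.b (nat_lit 393), Mv.f (nat_lit 643)]))))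
(Tr.nd (nat_lit 646) (Tr.lf (Fc.ed (nat_lit 645) (nat_lit 106) Col.d (nat_lit 200) Dv.df))
(Tr.nd (nat_lit 647) (Tr.lf (Fc.ed (nat_lit 646) (nat_lit 106) Col.f (nat_lit 201) Dv.df))
(Tr.lf (Fc.ed (nat_lit 647) (nat_lit 201) Col.h (nat_lit 196) (Dv.wd (nat_lit 105) [Mv.b (nat_lit 639), Mv.b (nat_lit 397), Mv.f (nat_lit 646)]))))))
(Tr.nd (nat_lit 651) (Tr.nd (nat_lit 649) (Tr.lf (Fc.ed (nat_lit 648) (nat_lit 107) Col.k (nat_lit 202) Dv.df))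
(Tr.nd (nat_lit 650) (Tr.lf (Fc.ed (nat_lit 649) (nat_lit 202) Col.h (nat_lit 202) (Dv.wd (nat_lit 129) [Mv.b (nat_lit 648), Mv.f (nat_lit 401), Mv.f (nat_lit 648)])))
(Tr.lf (Fc.ed (nat_lit 650) (nat_lit 202) Col.i (nat_lit 198) (Dv.wd (nat_lit 18) [Mv.b (nat_lit 641), Mv.b (nat_lit 402), Mv.f (nat_lit 648)])))))
(Tr.nd (nat_lit 652) (Tr.lf (Fc.ed (nat_lit 651) (nat_lit 202) Col.a (nat_lit 202) (Dv.wd (nat_lit 100) [Mv.b (nat_lit 648), Mv.b (nat_lit 398), Mv.f (nat_lit 187), Mv.f (nat_lit 398), Mv.f (nat_lit 648)])))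
(Tr.nd (nat_lit 653) (Tr.lf (Fc.ed (nat_lit 652) (nat_lit 107) Col.b (nat_lit 203) Dv.df))
(Tr.lf (Fc.ed (nat_lit 653) (nat_lit 203) Col.l (nat_lit 203) (Dv.wd (nat_lit 88) [Mv.b (nat_lit 652), Mv.f (nat_lit 399), Mv.f (nat_lit 652)])))))))))))))
(Tr.nd (nat_lit 981) (Tr.nd (nat_lit 817) (Tr.nd (nat_lit 735) (Tr.nd (nat_lit 694) (Tr.nd (nat_lit 674) (Tr.nd (nat_lit 664) (Tr.nd (nat_lit 659) (Tr.nd (nat_lit 656) (Tr.nd (nat_lit 655) (Tr.lf (Fc.ed (nat_lit 654) (nat_lit 203) Col.i (nat_lit 199) (Dv.wd (nat_lit 16) [Mv.b (nat_lit 643), Mv.b (nat_lit 402), Mv.f (nat_lit 652)])))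
(Tr.lf (Fc.ed (nat_lit 655) (nat_lit 203) Col.a (nat_lit 203) (Dv.wd (nat_lit 112) [Mv.b (nat_lit 652), Mv.b (nat_lit 398), Mv.f (nat_lit 574), Mv.f (nat_lit 398), Mv.f (nat_lit 652)]))))
(Tr.nd (nat_lit 657) (Tr.lf (Fc.ed (nat_lit 656) (nat_lit 107) Col.e (nat_lit 204) Dv.df))
(Tr.nd (nat_lit 658) (Tr.lf (Fc.ed (nat_lit 657) (nat_lit 204) Col.a (nat_lit 109) (Dv.wd (nat_lit 70) [Mv.b (nat_lit 405), Mv.f (nat_lit 398), Mv.f (nat_lit 656)])))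
(Tr.lf (Fc.ed (nat_lit 658) (nat_lit 109) Col.d (nat_lit 205) Dv.df)))))
(Tr.nd (nat_lit 661) (Tr.nd (nat_lit 660) (Tr.lf (Fc.ed (nat_lit 659) (nat_lit 205) Col.k (nat_lit 205) (Dv.wd (nat_lit 73) [Mv.b (nat_lit 658), Mv.f (nat_lit 406), Mv.f (nat_lit 658)])))
(Tr.lf (Fc.ed (nat_lit 660) (nat_lit 205) Col.b (nat_lit 205) (Dv.wd (nat_lit 127) [Mv.b (nat_lit 658), Mv.f (nat_lit 583), Mv.f (nat_lit 658)]))))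
(Tr.nd (nat_lit 662) (Tr.lf (Fc.ed (nat_lit 661) (nat_lit 205) Col.i (nat_lit 200) (Dv.wd (nat_lit 14) [Mv.b (nat_lit 645), Mv.b (nat_lit 408), Mv.f (nat_lit 658)])))
(Tr.nd (nat_lit 663) (Tr.lf (Fc.ed (nat_lit 662) (nat_lit 109) Col.f (nat_lit 206) Dv.df))
(Tr.lf (Fc.ed (nat_lit 663) (nat_lit 206) Col.i (nat_lit 201) (Dv.wd (nat_lit 79) [Mv.b (nat_lit 646), Mv.b (nat_lit 408), Mv.f (nat_lit 662)])))))))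
(Tr.nd (nat_lit 669) (Tr.nd (nat_lit 666) (Tr.nd (nat_lit 665) (Tr.lf (Fc.ed (nat_lit 664) (nat_lit 206) Col.e (nat_lit 114) (Dv.wd (nat_lit 114) [Mv.b (nat_lit 421), Mv.b (nat_lit 190), Mv.b (nat_lit 188), Mv.f (nat_lit 405), Mv.f (nat_lit 662)])))
(Tr.lf (Fc.ed (nat_lit 665) (nat_lit 110) Col.k (nat_lit 207) Dv.df)))
(Tr.nd (nat_lit 667) (Tr.lf (Fc.ed (nat_lit 666) (nat_lit 207) Col.c (nat_lit 207) (Dv.wd (nat_lit 53) [Mv.b (nat_lit 665), Mv.f (nat_lit 410), Mv.f (nat_lit 665)])))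
(Tr.nd (nat_lit 668) (Tr.lf (Fc.ed (nat_lit 667) (nat_lit 207) Col.d (nat_lit 207) (Dv.wd (nat_lit 37) [Mv.b (nat_lit 665), Mv.f (nat_lit 411), Mv.f (nat_lit 665)])))
(Tr.lf (Fc.ed (nat_lit 668) (nat_lit 207) Col.f (nat_lit 202) (Dv.wd (nat_lit 140) [Mv.b (nat_lit 648), Mv.b (nat_lit 412), Mv.f (nat_lit 665)]))))))
(Tr.nd (nat_lit 671) (Tr.nd (nat_lit 670) (Tr.lf (Fc.ed (nat_lit 669) (nat_lit 110) Col.b (nat_lit 208) Dv.df))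
(Tr.lf (Fc.ed (nat_lit 670) (nat_lit 208) Col.f (nat_lit 203) (Dv.wd (nat_lit 90) [Mv.b (nat_lit 652), Mv.b (nat_lit 412), Mv.f (nat_lit 669)]))))
(Tr.nd (nat_lit 672) (Tr.lf (Fc.ed (nat_lit 671) (nat_lit 112) Col.k (nat_lit 209) Dv.df))
(Tr.nd (nat_lit 673) (Tr.lf (Fc.ed (nat_lit 672) (nat_lit 209) Col.c (nat_lit 209) (Dv.wd (nat_lit 53) [Mv.b (nat_lit 671), Mv.f (nat_lit 416), Mv.f (nat_lit 671)])))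
(Tr.lf (Fc.ed (nat_lit 673) (nat_lit 209) Col.e (nat_lit 207) (Dv.wd (nat_lit 99) [Mv.b (nat_lit 665), Mv.b (nat_lit 417), Mv.f (nat_lit 671)]))))))))
(Tr.nd (nat_lit 684) (Tr.nd (nat_lit 679) (Tr.nd (nat_lit 676) (Tr.nd (nat_lit 675) (Tr.lf (Fc.ed (nat_lit 674) (nat_lit 209) Col.h (nat_lit 209) (Dv.wd (nat_lit 129) [Mv.b (nat_lit 671), Mv.f (nat_lit 418), Mv.f (nat_lit 671)])))
(Tr.lf (Fc.ed (nat_lit 675) (nat_lit 112) Col.b (nat_lit 210) Dv.df)))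
(Tr.nd (nat_lit 677) (Tr.lf (Fc.ed (nat_lit 676) (nat_lit 210) Col.e (nat_lit 208) (Dv.wd (nat_lit 40) [Mv.b (nat_lit 669), Mv.b (nat_lit 417), Mv.f (nat_lit 675)])))
(Tr.nd (nat_lit 678) (Tr.lf (Fc.ed (nat_lit 677) (nat_lit 112) Col.f (nat_lit 211) Dv.df))
(Tr.lf (Fc.ed (nat_lit 678) (nat_lit 211) Col.a (nat_lit 114) (Dv.wd (nat_lit 78) [Mv.b (nat_lit 421), Mv.f (nat_lit 415), Mv.f (nat_lit 677)]))))))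
(Tr.nd (nat_lit 681) (Tr.nd (nat_lit 680) (Tr.lf (Fc.ed (nat_lit 679) (nat_lit 114) Col.i (nat_lit 212) Dv.df))
(Tr.lf (Fc.ed (nat_lit 680) (nat_lit 212) Col.e (nat_lit 201) (Dv.wd (nat_lit 25) [Mv.b (nat_lit 663), Mv.f (nat_lit 664), Mv.f (nat_lit 679)]))))
(Tr.nd (nat_lit 682) (Tr.lf (Fc.ed (nat_lit 681) (nat_lit 115) Col.k (nat_lit 213) Dv.df))
(Tr.nd (nat_lit 683) (Tr.lf (Fc.ed (nat_lit 682) (nat_lit 213) Col.d (nat_lit 209) (Dv.wd (nat_lit 37) [Mv.b (nat_lit 671), Mv.b (nat_lit 423), Mv.f (nat_lit 681)])))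
(Tr.lf (Fc.ed (nat_lit 683) (nat_lit 213) Col.e (nat_lit 213) (Dv.wd (nat_lit 99) [Mv.b (nat_lit 681), Mv.f (nat_lit 424), Mv.f (nat_lit 681)])))))))
(Tr.nd (nat_lit 689) (Tr.nd (nat_lit 686) (Tr.nd (nat_lit 685) (Tr.lf (Fc.ed (nat_lit 684) (nat_lit 213) Col.a (nat_lit 213) (Dv.wd (nat_lit 100) [Mv.b (nat_lit 681), Mv.b (nat_lit 422), Mv.f (nat_lit 193), Mv.f (nat_lit 422), Mv.f (nat_lit 681)])))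
(Tr.lf (Fc.ed (nat_lit 685) (nat_lit 115) Col.b (nat_lit 214) Dv.df)))
(Tr.nd (nat_lit 687) (Tr.lf (Fc.ed (nat_lit 686) (nat_lit 214) Col.d (nat_lit 210) (Dv.wd (nat_lit 35) [Mv.b (nat_lit 675), Mv.b (nat_lit 423), Mv.f (nat_lit 685)])))
(Tr.nd (nat_lit 688) (Tr.lf (Fc.ed (nat_lit 687) (nat_lit 214) Col.e (nat_lit 214) (Dv.wd (nat_lit 40) [Mv.b (nat_lit 685), Mv.f (nat_lit 424), Mv.f (nat_lit 685)])))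
(Tr.lf (Fc.ed (nat_lit 688) (nat_lit 115) Col.c (nat_lit 215) Dv.df)))))
(Tr.nd (nat_lit 691) (Tr.nd (nat_lit 690) (Tr.lf (Fc.ed (nat_lit 689) (nat_lit 215) Col.a (nat_lit 117) (Dv.wd (nat_lit 87) [Mv.b (nat_lit 427), Mv.f (nat_lit 422), Mv.f (nat_lit 688)])))
(Tr.lf (Fc.ed (nat_lit 690) (nat_lit 215) Col.h (nat_lit 122) (Dv.wd (nat_lit 32) [Mv.f (nat_lit 442), Mv.f (nat_lit 436), Mv.f (nat_lit 688)]))))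
(Tr.nd (nat_lit 692) (Tr.lf (Fc.ed (nat_lit 691) (nat_lit 115) Col.f (nat_lit 216) Dv.df))
(Tr.nd (nat_lit 693) (Tr.lf (Fc.ed (nat_lit 692) (nat_lit 216) Col.a (nat_lit 118) (Dv.wd (nat_lit 78) [Mv.b (nat_lit 431), Mv.f (nat_lit 422), Mv.f (nat_lit 691)])))
(Tr.lf (Fc.ed (nat_lit 693) (nat_lit 216) Col.d (nat_lit 211) (Dv.wd (nat_lit 109) [Mv.b (nat_lit 677), Mv.b (nat_lit 423), Mv.f (nat_lit 691)])))))))))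
(Tr.nd (nat_lit 714) (Tr.nd (nat_lit 704) (Tr.nd (nat_lit 699) (Tr.nd (nat_lit 696) (Tr.nd (nat_lit 695) (Tr.lf (Fc.ed (nat_lit 694) (nat_lit 117) Col.f (nat_lit 217) Dv.df))
(Tr.lf (Fc.ed (nat_lit 695) (nat_lit 217) Col.c (nat_lit 118) (Dv.wd (nat_lit 98) [Mv.b (nat_lit 431), Mv.f (nat_lit 427), Mv.f (nat_lit 694)]))))
(Tr.nd (nat_lit 697) (Tr.lf (Fc.ed (nat_lit 696) (nat_lit 217) Col.d (nat_lit 217) (Dv.wd (nat_lit 109) [Mv.b (nat_lit 694), Mv.f (nat_lit 430), Mv.f (nat_lit 694)])))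
(Tr.nd (nat_lit 698) (Tr.lf (Fc.ed (nat_lit 697) (nat_lit 217) Col.h (nat_lit 123) (Dv.wd (nat_lit 105) [Mv.b (nat_lit 443), Mv.b (nat_lit 429), Mv.f (nat_lit 694)])))
(Tr.lf (Fc.ed (nat_lit 698) (nat_lit 117) Col.i (nat_lit 218) Dv.df)))))
(Tr.nd (nat_lit 701) (Tr.nd (nat_lit 700) (Tr.lf (Fc.ed (nat_lit 699) (nat_lit 118) Col.e (nat_lit 219) Dv.df))
(Tr.lf (Fc.ed (nat_lit 700) (nat_lit 219) Col.b (nat_lit 219) (Dv.wd (nat_lit 97) [Mv.b (nat_lit 699), Mv.f (nat_lit 582), Mv.f (nat_lit 699)]))))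
(Tr.nd (nat_lit 702) (Tr.lf (Fc.ed (nat_lit 701) (nat_lit 118) Col.i (nat_lit 220) Dv.df))
(Tr.nd (nat_lit 703) (Tr.lf (Fc.ed (nat_lit 702) (nat_lit 220) Col.d (nat_lit 212) (Dv.wd (nat_lit 24) [Mv.b (nat_lit 679), Mv.b (nat_lit 432), Mv.f (nat_lit 701)])))
(Tr.lf (Fc.ed (nat_lit 703) (nat_lit 119) Col.k (nat_lit 221) Dv.df))))))
(Tr.nd (nat_lit 709) (Tr.nd (nat_lit 706) (Tr.nd (nat_lit 705) (Tr.lf (Fc.ed (nat_lit 704) (nat_lit 221) Col.h (nat_lit 213) (Dv.wd (nat_lit 129) [Mv.b (nat_lit 681), Mv.b (nat_lit 436), Mv.f (nat_lit 703)])))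
(Tr.lf (Fc.ed (nat_lit 705) (nat_lit 119) Col.b (nat_lit 222) Dv.df)))
(Tr.nd (nat_lit 707) (Tr.lf (Fc.ed (nat_lit 706) (nat_lit 222) Col.d (nat_lit 222) (Dv.wd (nat_lit 35) [Mv.b (nat_lit 705), Mv.f (nat_lit 434), Mv.f (nat_lit 705)])))
(Tr.nd (nat_lit 708) (Tr.lf (Fc.ed (nat_lit 707) (nat_lit 222) Col.e (nat_lit 222) (Dv.wd (nat_lit 40) [Mv.b (nat_lit 705), Mv.f (nat_lit 435), Mv.f (nat_lit 705)])))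
(Tr.lf (Fc.ed (nat_lit 708) (nat_lit 222) Col.h (nat_lit 214) (Dv.wd (nat_lit 113) [Mv.b (nat_lit 685), Mv.b (nat_lit 436), Mv.f (nat_lit 705)]))))))
(Tr.nd (nat_lit 711) (Tr.nd (nat_lit 710) (Tr.lf (Fc.ed (nat_lit 709) (nat_lit 222) Col.a (nat_lit 222) (Dv.wd (nat_lit 112) [Mv.b (nat_lit 705), Mv.b (nat_lit 433), Mv.f (nat_lit 580), Mv.f (nat_lit 433), Mv.f (nat_lit 705)])))
(Tr.lf (Fc.ed (nat_lit 710) (nat_lit 119) Col.f (nat_lit 223) Dv.df)))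
(Tr.nd (nat_lit 712) (Tr.lf (Fc.ed (nat_lit 711) (nat_lit 223) Col.d (nat_lit 223) (Dv.wd (nat_lit 109) [Mv.b (nat_lit 710), Mv.f (nat_lit 434), Mv.f (nat_lit 710)])))
(Tr.nd (nat_lit 713) (Tr.lf (Fc.ed (nat_lit 712) (nat_lit 223) Col.h (nat_lit 216) (Dv.wd (nat_lit 105) [Mv.b (nat_lit 691), Mv.b (nat_lit 436), Mv.f (nat_lit 710)])))
(Tr.lf (Fc.ed (nat_lit 713) (nat_lit 122) Col.k (nat_lit 224) Dv.df)))))))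
(Tr.nd (nat_lit 724) (Tr.nd (nat_lit 719) (Tr.nd (nat_lit 716) (Tr.nd (nat_lit 715) (Tr.lf (Fc.ed (nat_lit 714) (nat_lit 224) Col.c (nat_lit 221) (Dv.wd (nat_lit 53) [Mv.b (nat_lit 703), Mv.b (nat_lit 442), Mv.f (nat_lit 713)])))
(Tr.lf (Fc.ed (nat_lit 715) (nat_lit 122) Col.b (nat_lit 225) Dv.df)))
(Tr.nd (nat_lit 717) (Tr.lf (Fc.ed (nat_lit 716) (nat_lit 122) Col.f (nat_lit 226) Dv.df))
(Tr.nd (nat_lit 718) (Tr.lf (Fc.ed (nat_lit 717) (nat_lit 226) Col.a (nat_lit 123) (Dv.wd (nat_lit 78) [Mv.b (nat_lit 443), Mv.f (nat_lit 441), Mv.f (nat_lit 716)])))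
(Tr.lf (Fc.ed (nat_lit 718) (nat_lit 226) Col.c (nat_lit 223) (Dv.wd (nat_lit 98) [Mv.b (nat_lit 710), Mv.b (nat_lit 442), Mv.f (nat_lit 716)]))))))
(Tr.nd (nat_lit 721) (Tr.nd (nat_lit 720) (Tr.lf (Fc.ed (nat_lit 719) (nat_lit 125) Col.h (nat_lit 227) Dv.df))
(Tr.lf (Fc.ed (nat_lit 720) (nat_lit 227) Col.e (nat_lit 166) (Dv.wd (nat_lit 117) [Mv.f (nat_lit 550), Mv.f (nat_lit 545), Mv.f (nat_lit 719)]))))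
(Tr.nd (nat_lit 722) (Tr.lf (Fc.ed (nat_lit 721) (nat_lit 126) Col.h (nat_lit 228) Dv.df))
(Tr.nd (nat_lit 723) (Tr.lf (Fc.ed (nat_lit 722) (nat_lit 228) Col.k (nat_lit 166) (Dv.wd (nat_lit 82) [Mv.f (nat_lit 550), Mv.b (nat_lit 546), Mv.f (nat_lit 721)])))
(Tr.lf (Fc.ed (nat_lit 723) (nat_lit 127) Col.h (nat_lit 229) Dv.df))))))
(Tr.nd (nat_lit 729) (Tr.nd (nat_lit 726) (Tr.nd (nat_lit 725) (Tr.lf (Fc.ed (nat_lit 724) (nat_lit 229) Col.a (nat_lit 129) (Dv.wd (nat_lit 83) [Mv.b (nat_lit 456), Mv.f (nat_lit 452), Mv.f (nat_lit 723)])))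
(Tr.lf (Fc.ed (nat_lit 725) (nat_lit 128) Col.e (nat_lit 230) Dv.df)))
(Tr.nd (nat_lit 727) (Tr.lf (Fc.ed (nat_lit 726) (nat_lit 230) Col.c (nat_lit 164) (Dv.wd (nat_lit 91) [Mv.f (nat_lit 545), Mv.b (nat_lit 455), Mv.f (nat_lit 725)])))
(Tr.nd (nat_lit 728) (Tr.lf (Fc.ed (nat_lit 727) (nat_lit 128) Col.h (nat_lit 231) Dv.df))
(Tr.lf (Fc.ed (nat_lit 728) (nat_lit 231) Col.c (nat_lit 227) (Dv.wd (nat_lit 131) [Mv.b (nat_lit 719), Mv.b (nat_lit 455), Mv.f (nat_lit 727)]))))))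
(Tr.nd (nat_lit 732) (Tr.nd (nat_lit 730) (Tr.lf (Fc.ed (nat_lit 729) (nat_lit 231) Col.f (nat_lit 129) (Dv.wd (nat_lit 84) [Mv.b (nat_lit 456), Mv.f (nat_lit 454), Mv.f (nat_lit 727)])))
(Tr.nd (nat_lit 731) (Tr.lf (Fc.ed (nat_lit 730) (nat_lit 129) Col.d (nat_lit 232) Dv.df))
(Tr.lf (Fc.ed (nat_lit 731) (nat_lit 232) Col.b (nat_lit 142) (Dv.wd (nat_lit 127) [Mv.f (nat_lit 489), Mv.f (nat_lit 469), Mv.f (nat_lit 730)])))))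
(Tr.nd (nat_lit 733) (Tr.lf (Fc.ed (nat_lit 732) (nat_lit 130) Col.h (nat_lit 233) Dv.df))
(Tr.nd (nat_lit 734) (Tr.lf (Fc.ed (nat_lit 733) (nat_lit 233) Col.c (nat_lit 228) (Dv.wd (nat_lit 131) [Mv.b (nat_lit 721), Mv.b (nat_lit 458), Mv.f (nat_lit 732)])))
(Tr.lf (Fc.ed (nat_lit 734) (nat_lit 233) Col.e (nat_lit 131) (Dv.wd (nat_lit 117) [Mv.b (nat_lit 459), Mv.f (nat_lit 457), Mv.f (nat_lit 732)]))))))))))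
(Tr.nd (nat_lit 776) (Tr.nd (nat_lit 755) (Tr.nd (nat_lit 745) (Tr.nd (nat_lit 740) (Tr.nd (nat_lit 737) (Tr.nd (nat_lit 736) (Tr.lf (Fc.ed (nat_lit 735) (nat_lit 131) Col.d (nat_lit 234) Dv.df))
(Tr.lf (Fc.ed (nat_lit 736) (nat_lit 234) Col.f (nat_lit 132) (Dv.wd (nat_lit 28) [Mv.b (nat_lit 461), Mv.b (nat_lit 460), Mv.f (nat_lit 735)]))))
(Tr.nd (nat_lit 738) (Tr.lf (Fc.ed (nat_lit 737) (nat_lit 133) Col.e (nat_lit 235) Dv.df))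
(Tr.nd (nat_lit 739) (Tr.lf (Fc.ed (nat_lit 738) (nat_lit 235) Col.a (nat_lit 235) (Dv.wd (nat_lit 70) [Mv.b (nat_lit 737), Mv.f (nat_lit 464), Mv.f (nat_lit 737)])))
(Tr.lf (Fc.ed (nat_lit 739) (nat_lit 235) Col.b (nat_lit 230) (Dv.wd (nat_lit 97) [Mv.b (nat_lit 725), Mv.b (nat_lit 465), Mv.f (nat_lit 737)]))))))
(Tr.nd (nat_lit 742) (Tr.nd (nat_lit 741) (Tr.lf (Fc.ed (nat_lit 740) (nat_lit 235) Col.i (nat_lit 235) (Dv.wd (nat_lit 19) [Mv.b (nat_lit 737), Mv.f (nat_lit 466), Mv.f (nat_lit 737)])))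
(Tr.lf (Fc.ed (nat_lit 741) (nat_lit 235) Col.f (nat_lit 235) (Dv.wd (nat_lit 80) [Mv.b (nat_lit 737), Mv.b (nat_lit 463), Mv.f (nat_lit 233), Mv.f (nat_lit 463), Mv.f (nat_lit 737)]))))
(Tr.nd (nat_lit 743) (Tr.lf (Fc.ed (nat_lit 742) (nat_lit 133) Col.h (nat_lit 236) Dv.df))
(Tr.nd (nat_lit 744) (Tr.lf (Fc.ed (nat_lit 743) (nat_lit 236) Col.b (nat_lit 231) (Dv.wd (nat_lit 101) [Mv.b (nat_lit 727), Mv.b (nat_lit 465), Mv.f (nat_lit 742)])))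
(Tr.lf (Fc.ed (nat_lit 744) (nat_lit 236) Col.f (nat_lit 134) (Dv.wd (nat_lit 84) [Mv.b (nat_lit 467), Mv.f (nat_lit 463), Mv.f (nat_lit 742)])))))))
(Tr.nd (nat_lit 750) (Tr.nd (nat_lit 747) (Tr.nd (nat_lit 746) (Tr.lf (Fc.ed (nat_lit 745) (nat_lit 135) Col.f (nat_lit 237) Dv.df))
(Tr.lf (Fc.ed (nat_lit 746) (nat_lit 237) Col.i (nat_lit 237) (Dv.wd (nat_lit 79) [Mv.b (nat_lit 745), Mv.f (nat_lit 471), Mv.f (nat_lit 745)]))))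
(Tr.nd (nat_lit 748) (Tr.lf (Fc.ed (nat_lit 747) (nat_lit 136) Col.f (nat_lit 238) Dv.df))
(Tr.nd (nat_lit 749) (Tr.lf (Fc.ed (nat_lit 748) (nat_lit 238) Col.k (nat_lit 137) (Dv.wd (nat_lit 77) [Mv.b (nat_lit 475), Mv.f (nat_lit 472), Mv.f (nat_lit 747)])))
(Tr.lf (Fc.ed (nat_lit 749) (nat_lit 238) Col.h (nat_lit 237) (Dv.wd (nat_lit 105) [Mv.b (nat_lit 745), Mv.b (nat_lit 474), Mv.f (nat_lit 747)]))))))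
(Tr.nd (nat_lit 752) (Tr.nd (nat_lit 751) (Tr.lf (Fc.ed (nat_lit 750) (nat_lit 136) Col.i (nat_lit 239) Dv.df))
(Tr.lf (Fc.ed (nat_lit 751) (nat_lit 239) Col.h (nat_lit 239) (Dv.wd (nat_lit 120) [Mv.b (nat_lit 750), Mv.f (nat_lit 474), Mv.f (nat_lit 471), Mv.b (nat_lit 474), Mv.f (nat_lit 750)]))))
(Tr.nd (nat_lit 753) (Tr.lf (Fc.ed (nat_lit 752) (nat_lit 137) Col.e (nat_lit 240) Dv.df))
(Tr.nd (nat_lit 754) (Tr.lf (Fc.ed (nat_lit 753) (nat_lit 240) Col.a (nat_lit 158) (Dv.wd (nat_lit 70) [Mv.b (nat_lit 531), Mv.b (nat_lit 476), Mv.f (nat_lit 752)])))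
(Tr.lf (Fc.ed (nat_lit 754) (nat_lit 140) Col.f (nat_lit 241) Dv.df)))))))
(Tr.nd (nat_lit 765) (Tr.nd (nat_lit 760) (Tr.nd (nat_lit 757) (Tr.nd (nat_lit 756) (Tr.lf (Fc.ed (nat_lit 755) (nat_lit 241) Col.a (nat_lit 241) (Dv.wd (nat_lit 78) [Mv.b (nat_lit 754), Mv.f (nat_lit 485), Mv.f (nat_lit 754)])))
(Tr.lf (Fc.ed (nat_lit 756) (nat_lit 241) Col.b (nat_lit 241) (Dv.wd (nat_lit 128) [Mv.b (nat_lit 754), Mv.f (nat_lit 482), Mv.f (nat_lit 754)]))))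
(Tr.nd (nat_lit 758) (Tr.lf (Fc.ed (nat_lit 757) (nat_lit 241) Col.d (nat_lit 238) (Dv.wd (nat_lit 109) [Mv.b (nat_lit 747), Mv.b (nat_lit 483), Mv.f (nat_lit 754)])))
(Tr.nd (nat_lit 759) (Tr.lf (Fc.ed (nat_lit 758) (nat_lit 241) Col.h (nat_lit 241) (Dv.wd (nat_lit 105) [Mv.b (nat_lit 754), Mv.f (nat_lit 484), Mv.f (nat_lit 754)])))
(Tr.lf (Fc.ed (nat_lit 759) (nat_lit 140) Col.i (nat_lit 242) Dv.df)))))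
(Tr.nd (nat_lit 762) (Tr.nd (nat_lit 761) (Tr.lf (Fc.ed (nat_lit 760) (nat_lit 242) Col.d (nat_lit 239) (Dv.wd (nat_lit 24) [Mv.b (nat_lit 750), Mv.b (nat_lit 483), Mv.f (nat_lit 759)])))
(Tr.lf (Fc.ed (nat_lit 761) (nat_lit 141) Col.h (nat_lit 243) Dv.df)))
(Tr.nd (nat_lit 763) (Tr.lf (Fc.ed (nat_lit 762) (nat_lit 243) Col.d (nat_lit 243) (Dv.wd (nat_lit 118) [Mv.b (nat_lit 761), Mv.f (nat_lit 487), Mv.f (nat_lit 478), Mv.b (nat_lit 487), Mv.f (nat_lit 761)])))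
(Tr.nd (nat_lit 764) (Tr.lf (Fc.ed (nat_lit 763) (nat_lit 142) Col.f (nat_lit 244) Dv.df))
(Tr.lf (Fc.ed (nat_lit 764) (nat_lit 244) Col.a (nat_lit 244) (Dv.wd (nat_lit 78) [Mv.b (nat_lit 763), Mv.f (nat_lit 490), Mv.f (nat_lit 763)])))))))
(Tr.nd (nat_lit 770) (Tr.nd (nat_lit 767) (Tr.nd (nat_lit 766) (Tr.lf (Fc.ed (nat_lit 765) (nat_lit 244) Col.d (nat_lit 236) (Dv.wd (nat_lit 109) [Mv.f (nat_lit 744), Mv.b (nat_lit 489), Mv.f (nat_lit 763)])))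
(Tr.lf (Fc.ed (nat_lit 766) (nat_lit 143) Col.e (nat_lit 245) Dv.df)))
(Tr.nd (nat_lit 768) (Tr.lf (Fc.ed (nat_lit 767) (nat_lit 245) Col.c (nat_lit 156) (Dv.wd (nat_lit 91) [Mv.b (nat_lit 527), Mv.b (nat_lit 492), Mv.f (nat_lit 766)])))
(Tr.nd (nat_lit 769) (Tr.lf (Fc.ed (nat_lit 768) (nat_lit 245) Col.f (nat_lit 144) (Dv.wd (nat_lit 80) [Mv.b (nat_lit 493), Mv.b (nat_lit 262), Mv.f (nat_lit 258), Mv.f (nat_lit 491), Mv.f (nat_lit 766)])))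
(Tr.lf (Fc.ed (nat_lit 769) (nat_lit 144) Col.i (nat_lit 246) Dv.df)))))
(Tr.nd (nat_lit 773) (Tr.nd (nat_lit 771) (Tr.lf (Fc.ed (nat_lit 770) (nat_lit 246) Col.e (nat_lit 145) (Dv.wd (nat_lit 25) [Mv.b (nat_lit 494), Mv.f (nat_lit 493), Mv.f (nat_lit 769)])))
(Tr.nd (nat_lit 772) (Tr.lf (Fc.ed (nat_lit 771) (nat_lit 145) Col.h (nat_lit 247) Dv.df))
(Tr.lf (Fc.ed (nat_lit 772) (nat_lit 247) Col.d (nat_lit 247) (Dv.wd (nat_lit 118) [Mv.b (nat_lit 771), Mv.f (nat_lit 495), Mv.f (nat_lit 480), Mv.b (nat_lit 495), Mv.f (nat_lit 771)])))))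
(Tr.nd (nat_lit 774) (Tr.lf (Fc.ed (nat_lit 773) (nat_lit 146) Col.b (nat_lit 248) Dv.df))
(Tr.nd (nat_lit 775) (Tr.lf (Fc.ed (nat_lit 774) (nat_lit 248) Col.k (nat_lit 147) (Dv.wd (nat_lit 89) [Mv.b (nat_lit 502), Mv.f (nat_lit 496), Mv.f (nat_lit 773)])))
(Tr.lf (Fc.ed (nat_lit 775) (nat_lit 248) Col.d (nat_lit 248) (Dv.wd (nat_lit 35) [Mv.b (nat_lit 773), Mv.f (nat_lit 498), Mv.f (nat_lit 773)])))))))))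
(Tr.nd (nat_lit 796) (Tr.nd (nat_lit 786) (Tr.nd (nat_lit 781) (Tr.nd (nat_lit 778) (Tr.nd (nat_lit 777) (Tr.lf (Fc.ed (nat_lit 776) (nat_lit 248) Col.e (nat_lit 232) (Dv.wd (nat_lit 40) [Mv.f (nat_lit 731), Mv.b (nat_lit 499), Mv.f (nat_lit 773)])))
(Tr.lf (Fc.ed (nat_lit 777) (nat_lit 248) Col.h (nat_lit 248) (Dv.wd (nat_lit 113) [Mv.b (nat_lit 773), Mv.f (nat_lit 500), Mv.f (nat_lit 773)]))))
(Tr.nd (nat_lit 779) (Tr.lf (Fc.ed (nat_lit 778) (nat_lit 248) Col.c (nat_lit 248) (Dv.wd (nat_lit 111) [Mv.b (nat_lit 773), Mv.f (nat_lit 497), Mv.f (nat_lit 482), Mv.b (nat_lit 497), Mv.f (nat_lit 773)])))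
(Tr.nd (nat_lit 780) (Tr.lf (Fc.ed (nat_lit 779) (nat_lit 146) Col.f (nat_lit 249) Dv.df))
(Tr.lf (Fc.ed (nat_lit 780) (nat_lit 249) Col.c (nat_lit 241) (Dv.wd (nat_lit 98) [Mv.b (nat_lit 754), Mv.b (nat_lit 497), Mv.f (nat_lit 779)]))))))
(Tr.nd (nat_lit 783) (Tr.nd (nat_lit 782) (Tr.lf (Fc.ed (nat_lit 781) (nat_lit 249) Col.d (nat_lit 249) (Dv.wd (nat_lit 109) [Mv.b (nat_lit 779), Mv.f (nat_lit 498), Mv.f (nat_lit 779)])))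
(Tr.lf (Fc.ed (nat_lit 782) (nat_lit 146) Col.i (nat_lit 250) Dv.df)))
(Tr.nd (nat_lit 784) (Tr.lf (Fc.ed (nat_lit 783) (nat_lit 250) Col.c (nat_lit 242) (Dv.wd (nat_lit 23) [Mv.b (nat_lit 759), Mv.b (nat_lit 497), Mv.f (nat_lit 782)])))
(Tr.nd (nat_lit 785) (Tr.lf (Fc.ed (nat_lit 784) (nat_lit 147) Col.f (nat_lit 251) Dv.df))
(Tr.lf (Fc.ed (nat_lit 785) (nat_lit 251) Col.b (nat_lit 148) (Dv.wd (nat_lit 128) [Mv.b (nat_lit 505), Mv.f (nat_lit 502), Mv.f (nat_lit 784)])))))))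
(Tr.nd (nat_lit 791) (Tr.nd (nat_lit 788) (Tr.nd (nat_lit 787) (Tr.lf (Fc.ed (nat_lit 786) (nat_lit 147) Col.i (nat_lit 252) Dv.df))
(Tr.lf (Fc.ed (nat_lit 787) (nat_lit 252) Col.a (nat_lit 252) (Dv.wd (nat_lit 121) [Mv.b (nat_lit 786), Mv.f (nat_lit 504), Mv.f (nat_lit 786)]))))
(Tr.nd (nat_lit 789) (Tr.lf (Fc.ed (nat_lit 788) (nat_lit 252) Col.b (nat_lit 149) (Dv.wd (nat_lit 22) [Mv.b (nat_lit 507), Mv.f (nat_lit 502), Mv.f (nat_lit 786)])))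
(Tr.nd (nat_lit 790) (Tr.lf (Fc.ed (nat_lit 789) (nat_lit 148) Col.e (nat_lit 253) Dv.df))
(Tr.lf (Fc.ed (nat_lit 790) (nat_lit 253) Col.a (nat_lit 245) (Dv.wd (nat_lit 70) [Mv.b (nat_lit 766), Mv.b (nat_lit 506), Mv.f (nat_lit 789)]))))))
(Tr.nd (nat_lit 793) (Tr.nd (nat_lit 792) (Tr.lf (Fc.ed (nat_lit 791) (nat_lit 149) Col.h (nat_lit 254) Dv.df))
(Tr.lf (Fc.ed (nat_lit 792) (nat_lit 254) Col.c (nat_lit 243) (Dv.wd (nat_lit 131) [Mv.b (nat_lit 761), Mv.b (nat_lit 508), Mv.f (nat_lit 791)]))))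
(Tr.nd (nat_lit 794) (Tr.lf (Fc.ed (nat_lit 793) (nat_lit 150) Col.f (nat_lit 255) Dv.df))
(Tr.nd (nat_lit 795) (Tr.lf (Fc.ed (nat_lit 794) (nat_lit 255) Col.a (nat_lit 255) (Dv.wd (nat_lit 78) [Mv.b (nat_lit 793), Mv.f (nat_lit 514), Mv.f (nat_lit 793)])))
(Tr.lf (Fc.ed (nat_lit 795) (nat_lit 255) Col.b (nat_lit 255) (Dv.wd (nat_lit 128) [Mv.b (nat_lit 793), Mv.f (nat_lit 510), Mv.f (nat_lit 793)]))))))))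
(Tr.nd (nat_lit 806) (Tr.nd (nat_lit 801) (Tr.nd (nat_lit 798) (Tr.nd (nat_lit 797) (Tr.lf (Fc.ed (nat_lit 796) (nat_lit 255) Col.c (nat_lit 244) (Dv.wd (nat_lit 98) [Mv.b (nat_lit 763), Mv.b (nat_lit 511), Mv.f (nat_lit 793)])))
(Tr.lf (Fc.ed (nat_lit 797) (nat_lit 255) Col.d (nat_lit 255) (Dv.wd (nat_lit 109) [Mv.b (nat_lit 793), Mv.f (nat_lit 512), Mv.f (nat_lit 793)]))))
(Tr.nd (nat_lit 799) (Tr.lf (Fc.ed (nat_lit 798) (nat_lit 150) Col.i (nat_lit 256) Dv.df))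
(Tr.nd (nat_lit 800) (Tr.lf (Fc.ed (nat_lit 799) (nat_lit 256) Col.e (nat_lit 242) (Dv.wd (nat_lit 25) [Mv.b (nat_lit 759), Mv.b (nat_lit 513), Mv.f (nat_lit 798)])))
(Tr.lf (Fc.ed (nat_lit 800) (nat_lit 151) Col.i (nat_lit 257) Dv.df)))))
(Tr.nd (nat_lit 803) (Tr.nd (nat_lit 802) (Tr.lf (Fc.ed (nat_lit 801) (nat_lit 257) Col.a (nat_lit 154) (Dv.wd (nat_lit 121) [Mv.b (nat_lit 523), Mv.b (nat_lit 516), Mv.f (nat_lit 800)])))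
(Tr.lf (Fc.ed (nat_lit 802) (nat_lit 257) Col.f (nat_lit 152) (Dv.wd (nat_lit 26) [Mv.b (nat_lit 517), Mv.f (nat_lit 515), Mv.f (nat_lit 800)]))))
(Tr.nd (nat_lit 804) (Tr.lf (Fc.ed (nat_lit 803) (nat_lit 152) Col.h (nat_lit 258) Dv.df))
(Tr.nd (nat_lit 805) (Tr.lf (Fc.ed (nat_lit 804) (nat_lit 258) Col.e (nat_lit 243) (Dv.wd (nat_lit 117) [Mv.b (nat_lit 761), Mv.b (nat_lit 518), Mv.f (nat_lit 803)])))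
(Tr.lf (Fc.ed (nat_lit 805) (nat_lit 153) Col.e (nat_lit 259) Dv.df))))))
(Tr.nd (nat_lit 811) (Tr.nd (nat_lit 808) (Tr.nd (nat_lit 807) (Tr.lf (Fc.ed (nat_lit 806) (nat_lit 153) Col.i (nat_lit 260) Dv.df))
(Tr.lf (Fc.ed (nat_lit 807) (nat_lit 260) Col.b (nat_lit 154) (Dv.wd (nat_lit 22) [Mv.b (nat_lit 523), Mv.b (nat_lit 520), Mv.f (nat_lit 806)]))))
(Tr.nd (nat_lit 809) (Tr.lf (Fc.ed (nat_lit 808) (nat_lit 260) Col.c (nat_lit 260) (Dv.wd (nat_lit 23) [Mv.b (nat_lit 806), Mv.f (nat_lit 521), Mv.f (nat_lit 806)])))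
(Tr.nd (nat_lit 810) (Tr.lf (Fc.ed (nat_lit 809) (nat_lit 260) Col.d (nat_lit 260) (Dv.wd (nat_lit 24) [Mv.b (nat_lit 806), Mv.f (nat_lit 522), Mv.f (nat_lit 806)])))
(Tr.lf (Fc.ed (nat_lit 810) (nat_lit 155) Col.e (nat_lit 261) Dv.df)))))
(Tr.nd (nat_lit 814) (Tr.nd (nat_lit 812) (Tr.lf (Fc.ed (nat_lit 811) (nat_lit 261) Col.a (nat_lit 261) (Dv.wd (nat_lit 70) [Mv.b (nat_lit 810), Mv.f (nat_lit 525), Mv.f (nat_lit 810)])))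
(Tr.nd (nat_lit 813) (Tr.lf (Fc.ed (nat_lit 812) (nat_lit 261) Col.b (nat_lit 156) (Dv.wd (nat_lit 97) [Mv.b (nat_lit 527), Mv.b (nat_lit 526), Mv.f (nat_lit 810)])))
(Tr.lf (Fc.ed (nat_lit 813) (nat_lit 261) Col.f (nat_lit 259) (Dv.wd (nat_lit 80) [Mv.b (nat_lit 805), Mv.b (nat_lit 519), Mv.b (nat_lit 280), Mv.f (nat_lit 524), Mv.f (nat_lit 810)])))))
(Tr.nd (nat_lit 815) (Tr.lf (Fc.ed (nat_lit 814) (nat_lit 156) Col.i (nat_lit 262) Dv.df))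
(Tr.nd (nat_lit 816) (Tr.lf (Fc.ed (nat_lit 815) (nat_lit 157) Col.e (nat_lit 263) Dv.df))
(Tr.lf (Fc.ed (nat_lit 816) (nat_lit 263) Col.b (nat_lit 158) (Dv.wd (nat_lit 97) [Mv.b (nat_lit 531), Mv.b (nat_lit 529), Mv.f (nat_lit 815)])))))))))))
(Tr.nd (nat_lit 899) (Tr.nd (nat_lit 858) (Tr.nd (nat_lit 837) (Tr.nd (nat_lit 827) (Tr.nd (nat_lit 822) (Tr.nd (nat_lit 819) (Tr.nd (nat_lit 818) (Tr.lf (Fc.ed (nat_lit 817) (nat_lit 263) Col.h (nat_lit 159) (Dv.wd (nat_lit 71) [Mv.b (nat_lit 532), Mv.b (nat_lit 530), Mv.f (nat_lit 815)])))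
(Tr.lf (Fc.ed (nat_lit 818) (nat_lit 158) Col.d (nat_lit 264) Dv.df)))
(Tr.nd (nat_lit 820) (Tr.lf (Fc.ed (nat_lit 819) (nat_lit 160) Col.h (nat_lit 265) Dv.df))
(Tr.nd (nat_lit 821) (Tr.lf (Fc.ed (nat_lit 820) (nat_lit 265) Col.l (nat_lit 228) (Dv.wd (nat_lit 81) [Mv.b (nat_lit 721), Mv.b (nat_lit 534), Mv.f (nat_lit 819)])))
(Tr.lf (Fc.ed (nat_lit 821) (nat_lit 265) Col.c (nat_lit 263) (Dv.wd (nat_lit 131) [Mv.f (nat_lit 817), Mv.b (nat_lit 535), Mv.f (nat_lit 819)]))))))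
(Tr.nd (nat_lit 824) (Tr.nd (nat_lit 823) (Tr.lf (Fc.ed (nat_lit 822) (nat_lit 161) Col.i (nat_lit 266) Dv.df))
(Tr.lf (Fc.ed (nat_lit 823) (nat_lit 162) Col.h (nat_lit 267) Dv.df)))
(Tr.nd (nat_lit 825) (Tr.lf (Fc.ed (nat_lit 824) (nat_lit 267) Col.a (nat_lit 231) (Dv.wd (nat_lit 83) [Mv.b (nat_lit 727), Mv.b (nat_lit 538), Mv.f (nat_lit 823)])))
(Tr.nd (nat_lit 826) (Tr.lf (Fc.ed (nat_lit 825) (nat_lit 267) Col.e (nat_lit 167) (Dv.wd (nat_lit 117) [Mv.f (nat_lit 552), Mv.f (nat_lit 548), Mv.f (nat_lit 823)])))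
(Tr.lf (Fc.ed (nat_lit 826) (nat_lit 267) Col.f (nat_lit 229) (Dv.wd (nat_lit 84) [Mv.b (nat_lit 723), Mv.b (nat_lit 539), Mv.f (nat_lit 823)])))))))
(Tr.nd (nat_lit 832) (Tr.nd (nat_lit 829) (Tr.nd (nat_lit 828) (Tr.lf (Fc.ed (nat_lit 827) (nat_lit 163) Col.i (nat_lit 268) Dv.df))
(Tr.lf (Fc.ed (nat_lit 828) (nat_lit 268) Col.e (nat_lit 168) (Dv.wd (nat_lit 25) [Mv.b (nat_lit 553), Mv.b (nat_lit 542), Mv.f (nat_lit 827)]))))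
(Tr.nd (nat_lit 830) (Tr.lf (Fc.ed (nat_lit 829) (nat_lit 268) Col.f (nat_lit 266) (Dv.wd (nat_lit 26) [Mv.b (nat_lit 822), Mv.b (nat_lit 543), Mv.f (nat_lit 827)])))
(Tr.nd (nat_lit 831) (Tr.lf (Fc.ed (nat_lit 830) (nat_lit 166) Col.c (nat_lit 269) Dv.df))
(Tr.lf (Fc.ed (nat_lit 831) (nat_lit 269) Col.e (nat_lit 231) (Dv.wd (nat_lit 39) [Mv.f (nat_lit 728), Mv.f (nat_lit 720), Mv.f (nat_lit 830)]))))))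
(Tr.nd (nat_lit 834) (Tr.nd (nat_lit 833) (Tr.lf (Fc.ed (nat_lit 832) (nat_lit 269) Col.h (nat_lit 230) (Dv.wd (nat_lit 32) [Mv.f (nat_lit 726), Mv.b (nat_lit 550), Mv.f (nat_lit 830)])))
(Tr.lf (Fc.ed (nat_lit 833) (nat_lit 166) Col.i (nat_lit 270) Dv.df)))
(Tr.nd (nat_lit 835) (Tr.lf (Fc.ed (nat_lit 834) (nat_lit 167) Col.d (nat_lit 271) Dv.df))
(Tr.nd (nat_lit 836) (Tr.lf (Fc.ed (nat_lit 835) (nat_lit 167) Col.i (nat_lit 272) Dv.df))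
(Tr.lf (Fc.ed (nat_lit 836) (nat_lit 272) Col.c (nat_lit 168) (Dv.wd (nat_lit 23) [Mv.b (nat_lit 553), Mv.f (nat_lit 551), Mv.f (nat_lit 835)]))))))))
(Tr.nd (nat_lit 847) (Tr.nd (nat_lit 842) (Tr.nd (nat_lit 839) (Tr.nd (nat_lit 838) (Tr.lf (Fc.ed (nat_lit 837) (nat_lit 169) Col.k (nat_lit 273) Dv.df))
(Tr.lf (Fc.ed (nat_lit 838) (nat_lit 273) Col.d (nat_lit 228) (Dv.wd (nat_lit 37) [Mv.f (nat_lit 722), Mv.b (nat_lit 555), Mv.f (nat_lit 837)]))))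
(Tr.nd (nat_lit 840) (Tr.lf (Fc.ed (nat_lit 839) (nat_lit 169) Col.c (nat_lit 274) Dv.df))
(Tr.nd (nat_lit 841) (Tr.lf (Fc.ed (nat_lit 840) (nat_lit 274) Col.a (nat_lit 170) (Dv.wd (nat_lit 87) [Mv.b (nat_lit 559), Mv.f (nat_lit 554), Mv.f (nat_lit 839)])))
(Tr.lf (Fc.ed (nat_lit 841) (nat_lit 274) Col.e (nat_lit 274) (Dv.wd (nat_lit 39) [Mv.b (nat_lit 839), Mv.f (nat_lit 556), Mv.f (nat_lit 839)]))))))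
(Tr.nd (nat_lit 844) (Tr.nd (nat_lit 843) (Tr.lf (Fc.ed (nat_lit 842) (nat_lit 274) Col.f (nat_lit 274) (Dv.wd (nat_lit 29) [Mv.b (nat_lit 839), Mv.f (nat_lit 557), Mv.f (nat_lit 839)])))
(Tr.lf (Fc.ed (nat_lit 843) (nat_lit 274) Col.h (nat_lit 274) (Dv.wd (nat_lit 32) [Mv.b (nat_lit 839), Mv.f (nat_lit 558), Mv.f (nat_lit 839)]))))
(Tr.nd (nat_lit 845) (Tr.lf (Fc.ed (nat_lit 844) (nat_lit 169) Col.i (nat_lit 275) Dv.df))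
(Tr.nd (nat_lit 846) (Tr.lf (Fc.ed (nat_lit 845) (nat_lit 275) Col.a (nat_lit 171) (Dv.wd (nat_lit 121) [Mv.b (nat_lit 561), Mv.f (nat_lit 554), Mv.f (nat_lit 844)])))
(Tr.lf (Fc.ed (nat_lit 846) (nat_lit 275) Col.d (nat_lit 270) (Dv.wd (nat_lit 24) [Mv.b (nat_lit 833), Mv.b (nat_lit 555), Mv.f (nat_lit 844)])))))))
(Tr.nd (nat_lit 852) (Tr.nd (nat_lit 849) (Tr.nd (nat_lit 848) (Tr.lf (Fc.ed (nat_lit 847) (nat_lit 275) Col.e (nat_lit 275) (Dv.wd (nat_lit 25) [Mv.b (nat_lit 844), Mv.f (nat_lit 556), Mv.f (nat_lit 844)])))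
(Tr.lf (Fc.ed (nat_lit 848) (nat_lit 275) Col.f (nat_lit 275) (Dv.wd (nat_lit 26) [Mv.b (nat_lit 844), Mv.f (nat_lit 557), Mv.f (nat_lit 844)]))))
(Tr.nd (nat_lit 850) (Tr.lf (Fc.ed (nat_lit 849) (nat_lit 170) Col.d (nat_lit 276) Dv.df))
(Tr.nd (nat_lit 851) (Tr.lf (Fc.ed (nat_lit 850) (nat_lit 276) Col.b (nat_lit 175) (Dv.wd (nat_lit 127) [Mv.b (nat_lit 588), Mv.b (nat_lit 560), Mv.f (nat_lit 849)])))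
(Tr.lf (Fc.ed (nat_lit 851) (nat_lit 276) Col.c (nat_lit 271) (Dv.wd (nat_lit 139) [Mv.b (nat_lit 834), Mv.b (nat_lit 551), Mv.b (nat_lit 327), Mv.f (nat_lit 559), Mv.f (nat_lit 849)]))))))
(Tr.nd (nat_lit 855) (Tr.nd (nat_lit 853) (Tr.lf (Fc.ed (nat_lit 852) (nat_lit 171) Col.h (nat_lit 277) Dv.df))
(Tr.nd (nat_lit 854) (Tr.lf (Fc.ed (nat_lit 853) (nat_lit 277) Col.b (nat_lit 172) (Dv.wd (nat_lit 101) [Mv.b (nat_lit 563), Mv.b (nat_lit 562), Mv.f (nat_lit 852)])))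
(Tr.lf (Fc.ed (nat_lit 854) (nat_lit 173) Col.l (nat_lit 278) Dv.df))))
(Tr.nd (nat_lit 856) (Tr.lf (Fc.ed (nat_lit 855) (nat_lit 173) Col.c (nat_lit 279) Dv.df))
(Tr.nd (nat_lit 857) (Tr.lf (Fc.ed (nat_lit 856) (nat_lit 279) Col.k (nat_lit 174) (Dv.wd (nat_lit 86) [Mv.b (nat_lit 585), Mv.f (nat_lit 584), Mv.f (nat_lit 855)])))
(Tr.lf (Fc.ed (nat_lit 857) (nat_lit 174) Col.b (nat_lit 280) Dv.df))))))))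
(Tr.nd (nat_lit 878) (Tr.nd (nat_lit 868) (Tr.nd (nat_lit 863) (Tr.nd (nat_lit 860) (Tr.nd (nat_lit 859) (Tr.lf (Fc.ed (nat_lit 858) (nat_lit 280) Col.h (nat_lit 280) (Dv.wd (nat_lit 113) [Mv.b (nat_lit 857), Mv.f (nat_lit 587), Mv.f (nat_lit 857)])))
(Tr.lf (Fc.ed (nat_lit 859) (nat_lit 174) Col.d (nat_lit 281) Dv.df)))
(Tr.nd (nat_lit 861) (Tr.lf (Fc.ed (nat_lit 860) (nat_lit 281) Col.c (nat_lit 281) (Dv.wd (nat_lit 139) [Mv.b (nat_lit 859), Mv.b (nat_lit 585), Mv.f (nat_lit 338), Mv.f (nat_lit 585), Mv.f (nat_lit 859)])))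
(Tr.nd (nat_lit 862) (Tr.lf (Fc.ed (nat_lit 861) (nat_lit 175) Col.e (nat_lit 282) Dv.df))
(Tr.lf (Fc.ed (nat_lit 862) (nat_lit 282) Col.l (nat_lit 282) (Dv.wd (nat_lit 68) [Mv.b (nat_lit 861), Mv.f (nat_lit 589), Mv.f (nat_lit 861)]))))))
(Tr.nd (nat_lit 865) (Tr.nd (nat_lit 864) (Tr.lf (Fc.ed (nat_lit 863) (nat_lit 282) Col.c (nat_lit 282) (Dv.wd (nat_lit 91) [Mv.b (nat_lit 861), Mv.f (nat_lit 590), Mv.f (nat_lit 861)])))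
(Tr.lf (Fc.ed (nat_lit 864) (nat_lit 282) Col.d (nat_lit 282) (Dv.wd (nat_lit 92) [Mv.b (nat_lit 861), Mv.b (nat_lit 588), Mv.f (nat_lit 342), Mv.f (nat_lit 588), Mv.f (nat_lit 861)]))))
(Tr.nd (nat_lit 866) (Tr.lf (Fc.ed (nat_lit 865) (nat_lit 175) Col.h (nat_lit 283) Dv.df))
(Tr.nd (nat_lit 867) (Tr.lf (Fc.ed (nat_lit 866) (nat_lit 283) Col.d (nat_lit 283) (Dv.wd (nat_lit 118) [Mv.b (nat_lit 865), Mv.b (nat_lit 588), Mv.f (nat_lit 343), Mv.f (nat_lit 588), Mv.f (nat_lit 865)])))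
(Tr.lf (Fc.ed (nat_lit 867) (nat_lit 176) Col.l (nat_lit 284) Dv.df))))))
(Tr.nd (nat_lit 873) (Tr.nd (nat_lit 870) (Tr.nd (nat_lit 869) (Tr.lf (Fc.ed (nat_lit 868) (nat_lit 284) Col.a (nat_lit 284) (Dv.wd (nat_lit 103) [Mv.b (nat_lit 867), Mv.f (nat_lit 593), Mv.f (nat_lit 867)])))
(Tr.lf (Fc.ed (nat_lit 869) (nat_lit 284) Col.i (nat_lit 278) (Dv.wd (nat_lit 102) [Mv.b (nat_lit 854), Mv.b (nat_lit 592), Mv.f (nat_lit 867)]))))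
(Tr.nd (nat_lit 871) (Tr.lf (Fc.ed (nat_lit 870) (nat_lit 176) Col.c (nat_lit 285) Dv.df))
(Tr.nd (nat_lit 872) (Tr.lf (Fc.ed (nat_lit 871) (nat_lit 285) Col.i (nat_lit 279) (Dv.wd (nat_lit 15) [Mv.b (nat_lit 855), Mv.b (nat_lit 592), Mv.f (nat_lit 870)])))
(Tr.lf (Fc.ed (nat_lit 872) (nat_lit 177) Col.d (nat_lit 286) Dv.df)))))
(Tr.nd (nat_lit 875) (Tr.nd (nat_lit 874) (Tr.lf (Fc.ed (nat_lit 873) (nat_lit 286) Col.l (nat_lit 286) (Dv.wd (nat_lit 72) [Mv.b (nat_lit 872), Mv.f (nat_lit 595), Mv.f (nat_lit 872)])))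
(Tr.lf (Fc.ed (nat_lit 874) (nat_lit 286) Col.a (nat_lit 179) (Dv.wd (nat_lit 74) [Mv.b (nat_lit 600), Mv.b (nat_lit 596), Mv.f (nat_lit 872)]))))
(Tr.nd (nat_lit 876) (Tr.lf (Fc.ed (nat_lit 875) (nat_lit 178) Col.a (nat_lit 287) Dv.df))
(Tr.nd (nat_lit 877) (Tr.lf (Fc.ed (nat_lit 876) (nat_lit 287) Col.c (nat_lit 275) (Dv.wd (nat_lit 45) [Mv.f (nat_lit 845), Mv.b (nat_lit 599), Mv.f (nat_lit 875)])))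
(Tr.lf (Fc.ed (nat_lit 877) (nat_lit 178) Col.d (nat_lit 288) Dv.df)))))))
(Tr.nd (nat_lit 888) (Tr.nd (nat_lit 883) (Tr.nd (nat_lit 880) (Tr.nd (nat_lit 879) (Tr.lf (Fc.ed (nat_lit 878) (nat_lit 288) Col.b (nat_lit 179) (Dv.wd (nat_lit 127) [Mv.b (nat_lit 600), Mv.f (nat_lit 597), Mv.f (nat_lit 877)])))
(Tr.lf (Fc.ed (nat_lit 879) (nat_lit 288) Col.i (nat_lit 276) (Dv.wd (nat_lit 14) [Mv.b (nat_lit 849), Mv.b (nat_lit 598), Mv.f (nat_lit 877)]))))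
(Tr.nd (nat_lit 881) (Tr.lf (Fc.ed (nat_lit 880) (nat_lit 179) Col.e (nat_lit 289) Dv.df))
(Tr.nd (nat_lit 882) (Tr.lf (Fc.ed (nat_lit 881) (nat_lit 289) Col.i (nat_lit 282) (Dv.wd (nat_lit 19) [Mv.b (nat_lit 861), Mv.b (nat_lit 601), Mv.f (nat_lit 880)])))
(Tr.lf (Fc.ed (nat_lit 882) (nat_lit 179) Col.h (nat_lit 290) Dv.df)))))
(Tr.nd (nat_lit 885) (Tr.nd (nat_lit 884) (Tr.lf (Fc.ed (nat_lit 883) (nat_lit 180) Col.l (nat_lit 291) Dv.df))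
(Tr.lf (Fc.ed (nat_lit 884) (nat_lit 291) Col.a (nat_lit 291) (Dv.wd (nat_lit 103) [Mv.b (nat_lit 883), Mv.f (nat_lit 605), Mv.f (nat_lit 883)]))))
(Tr.nd (nat_lit 886) (Tr.lf (Fc.ed (nat_lit 885) (nat_lit 291) Col.h (nat_lit 284) (Dv.wd (nat_lit 104) [Mv.b (nat_lit 867), Mv.b (nat_lit 604), Mv.f (nat_lit 883)])))
(Tr.nd (nat_lit 887) (Tr.lf (Fc.ed (nat_lit 886) (nat_lit 291) Col.k (nat_lit 291) (Dv.wd (nat_lit 141) [Mv.b (nat_lit 883), Mv.b (nat_lit 602), Mv.f (nat_lit 351), Mv.f (nat_lit 602), Mv.f (nat_lit 883)])))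
(Tr.lf (Fc.ed (nat_lit 887) (nat_lit 180) Col.c (nat_lit 292) Dv.df))))))
(Tr.nd (nat_lit 893) (Tr.nd (nat_lit 890) (Tr.nd (nat_lit 889) (Tr.lf (Fc.ed (nat_lit 888) (nat_lit 292) Col.k (nat_lit 181) (Dv.wd (nat_lit 86) [Mv.b (nat_lit 606), Mv.f (nat_lit 602), Mv.f (nat_lit 887)])))
(Tr.lf (Fc.ed (nat_lit 889) (nat_lit 292) Col.f (nat_lit 292) (Dv.wd (nat_lit 29) [Mv.b (nat_lit 887), Mv.f (nat_lit 603), Mv.f (nat_lit 887)]))))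
(Tr.nd (nat_lit 891) (Tr.lf (Fc.ed (nat_lit 890) (nat_lit 292) Col.h (nat_lit 285) (Dv.wd (nat_lit 32) [Mv.b (nat_lit 870), Mv.b (nat_lit 604), Mv.f (nat_lit 887)])))
(Tr.nd (nat_lit 892) (Tr.lf (Fc.ed (nat_lit 891) (nat_lit 181) Col.b (nat_lit 293) Dv.df))
(Tr.lf (Fc.ed (nat_lit 892) (nat_lit 181) Col.d (nat_lit 294) Dv.df)))))
(Tr.nd (nat_lit 896) (Tr.nd (nat_lit 894) (Tr.lf (Fc.ed (nat_lit 893) (nat_lit 294) Col.a (nat_lit 183) (Dv.wd (nat_lit 74) [Mv.b (nat_lit 611), Mv.b (nat_lit 607), Mv.f (nat_lit 892)])))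
(Tr.nd (nat_lit 895) (Tr.lf (Fc.ed (nat_lit 894) (nat_lit 294) Col.c (nat_lit 189) (Dv.wd (nat_lit 139) [Mv.b (nat_lit 626), Mv.f (nat_lit 375), Mv.f (nat_lit 360), Mv.f (nat_lit 606), Mv.f (nat_lit 892)])))
(Tr.lf (Fc.ed (nat_lit 895) (nat_lit 182) Col.a (nat_lit 295) Dv.df))))
(Tr.nd (nat_lit 897) (Tr.lf (Fc.ed (nat_lit 896) (nat_lit 295) Col.h (nat_lit 287) (Dv.wd (nat_lit 122) [Mv.b (nat_lit 875), Mv.b (nat_lit 610), Mv.f (nat_lit 895)])))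
(Tr.nd (nat_lit 898) (Tr.lf (Fc.ed (nat_lit 897) (nat_lit 183) Col.e (nat_lit 296) Dv.df))
(Tr.lf (Fc.ed (nat_lit 898) (nat_lit 296) Col.c (nat_lit 190) (Dv.wd (nat_lit 91) [Mv.b (nat_lit 627), Mv.b (nat_lit 612), Mv.f (nat_lit 897)]))))))))))
(Tr.nd (nat_lit 940) (Tr.nd (nat_lit 919) (Tr.nd (nat_lit 909) (Tr.nd (nat_lit 904) (Tr.nd (nat_lit 901) (Tr.nd (nat_lit 900) (Tr.lf (Fc.ed (nat_lit 899) (nat_lit 183) Col.h (nat_lit 297) Dv.df))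
(Tr.lf (Fc.ed (nat_lit 900) (nat_lit 297) Col.c (nat_lit 191) (Dv.wd (nat_lit 131) [Mv.b (nat_lit 629), Mv.b (nat_lit 612), Mv.f (nat_lit 899)]))))
(Tr.nd (nat_lit 902) (Tr.lf (Fc.ed (nat_lit 901) (nat_lit 297) Col.d (nat_lit 290) (Dv.wd (nat_lit 118) [Mv.b (nat_lit 882), Mv.b (nat_lit 600), Mv.b (nat_lit 358), Mv.f (nat_lit 611), Mv.f (nat_lit 899)])))
(Tr.nd (nat_lit 903) (Tr.lf (Fc.ed (nat_lit 902) (nat_lit 184) Col.l (nat_lit 298) Dv.df))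
(Tr.lf (Fc.ed (nat_lit 903) (nat_lit 298) Col.d (nat_lit 291) (Dv.wd (nat_lit 107) [Mv.b (nat_lit 883), Mv.b (nat_lit 614), Mv.f (nat_lit 902)]))))))
(Tr.nd (nat_lit 906) (Tr.nd (nat_lit 905) (Tr.lf (Fc.ed (nat_lit 904) (nat_lit 185) Col.f (nat_lit 299) Dv.df))
(Tr.lf (Fc.ed (nat_lit 905) (nat_lit 299) Col.a (nat_lit 299) (Dv.wd (nat_lit 78) [Mv.b (nat_lit 904), Mv.f (nat_lit 616), Mv.f (nat_lit 904)]))))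
(Tr.nd (nat_lit 907) (Tr.lf (Fc.ed (nat_lit 906) (nat_lit 299) Col.b (nat_lit 186) (Dv.wd (nat_lit 128) [Mv.b (nat_lit 619), Mv.b (nat_lit 617), Mv.f (nat_lit 904)])))
(Tr.nd (nat_lit 908) (Tr.lf (Fc.ed (nat_lit 907) (nat_lit 299) Col.h (nat_lit 299) (Dv.wd (nat_lit 105) [Mv.b (nat_lit 904), Mv.f (nat_lit 618), Mv.f (nat_lit 904)])))
(Tr.lf (Fc.ed (nat_lit 908) (nat_lit 187) Col.l (nat_lit 300) Dv.df))))))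
(Tr.nd (nat_lit 914) (Tr.nd (nat_lit 911) (Tr.nd (nat_lit 910) (Tr.lf (Fc.ed (nat_lit 909) (nat_lit 300) Col.c (nat_lit 298) (Dv.wd (nat_lit 110) [Mv.b (nat_lit 902), Mv.b (nat_lit 622), Mv.f (nat_lit 908)])))
(Tr.lf (Fc.ed (nat_lit 910) (nat_lit 188) Col.d (nat_lit 301) Dv.df)))
(Tr.nd (nat_lit 912) (Tr.lf (Fc.ed (nat_lit 911) (nat_lit 301) Col.a (nat_lit 301) (Dv.wd (nat_lit 74) [Mv.b (nat_lit 910), Mv.f (nat_lit 625), Mv.f (nat_lit 910)])))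
(Tr.nd (nat_lit 913) (Tr.lf (Fc.ed (nat_lit 912) (nat_lit 301) Col.b (nat_lit 189) (Dv.wd (nat_lit 127) [Mv.b (nat_lit 626), Mv.f (nat_lit 623), Mv.f (nat_lit 910)])))
(Tr.lf (Fc.ed (nat_lit 913) (nat_lit 301) Col.f (nat_lit 301) (Dv.wd (nat_lit 28) [Mv.b (nat_lit 910), Mv.f (nat_lit 624), Mv.f (nat_lit 910)]))))))
(Tr.nd (nat_lit 916) (Tr.nd (nat_lit 915) (Tr.lf (Fc.ed (nat_lit 914) (nat_lit 189) Col.h (nat_lit 302) Dv.df))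
(Tr.lf (Fc.ed (nat_lit 915) (nat_lit 190) Col.h (nat_lit 303) Dv.df)))
(Tr.nd (nat_lit 917) (Tr.lf (Fc.ed (nat_lit 916) (nat_lit 303) Col.e (nat_lit 191) (Dv.wd (nat_lit 117) [Mv.b (nat_lit 629), Mv.f (nat_lit 627), Mv.f (nat_lit 915)])))
(Tr.nd (nat_lit 918) (Tr.lf (Fc.ed (nat_lit 917) (nat_lit 192) Col.l (nat_lit 304) Dv.df))
(Tr.lf (Fc.ed (nat_lit 918) (nat_lit 304) Col.e (nat_lit 300) (Dv.wd (nat_lit 41) [Mv.b (nat_lit 908), Mv.b (nat_lit 631), Mv.f (nat_lit 917)]))))))))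
(Tr.nd (nat_lit 929) (Tr.nd (nat_lit 924) (Tr.nd (nat_lit 921) (Tr.nd (nat_lit 920) (Tr.lf (Fc.ed (nat_lit 919) (nat_lit 194) Col.l (nat_lit 305) Dv.df))
(Tr.lf (Fc.ed (nat_lit 920) (nat_lit 305) Col.d (nat_lit 304) (Dv.wd (nat_lit 107) [Mv.b (nat_lit 917), Mv.b (nat_lit 635), Mv.f (nat_lit 919)]))))
(Tr.nd (nat_lit 922) (Tr.lf (Fc.ed (nat_lit 921) (nat_lit 195) Col.c (nat_lit 306) Dv.df))
(Tr.nd (nat_lit 923) (Tr.lf (Fc.ed (nat_lit 922) (nat_lit 306) Col.a (nat_lit 306) (Dv.wd (nat_lit 87) [Mv.b (nat_lit 921), Mv.f (nat_lit 638), Mv.f (nat_lit 921)])))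
(Tr.lf (Fc.ed (nat_lit 923) (nat_lit 306) Col.b (nat_lit 306) (Dv.wd (nat_lit 130) [Mv.b (nat_lit 921), Mv.b (nat_lit 636), Mv.f (nat_lit 385), Mv.f (nat_lit 636), Mv.f (nat_lit 921)]))))))
(Tr.nd (nat_lit 926) (Tr.nd (nat_lit 925) (Tr.lf (Fc.ed (nat_lit 924) (nat_lit 195) Col.e (nat_lit 307) Dv.df))
(Tr.lf (Fc.ed (nat_lit 925) (nat_lit 196) Col.e (nat_lit 308) Dv.df)))
(Tr.nd (nat_lit 927) (Tr.lf (Fc.ed (nat_lit 926) (nat_lit 308) Col.h (nat_lit 212) (Dv.wd (nat_lit 71) [Mv.f (nat_lit 680), Mv.f (nat_lit 647), Mv.f (nat_lit 925)])))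
(Tr.nd (nat_lit 928) (Tr.lf (Fc.ed (nat_lit 927) (nat_lit 308) Col.f (nat_lit 197) (Dv.wd (nat_lit 80) [Mv.b (nat_lit 640), Mv.b (nat_lit 390), Mv.f (nat_lit 389), Mv.f (nat_lit 639), Mv.f (nat_lit 925)])))
(Tr.lf (Fc.ed (nat_lit 928) (nat_lit 198) Col.l (nat_lit 309) Dv.df))))))
(Tr.nd (nat_lit 934) (Tr.nd (nat_lit 931) (Tr.nd (nat_lit 930) (Tr.lf (Fc.ed (nat_lit 929) (nat_lit 309) Col.h (nat_lit 305) (Dv.wd (nat_lit 104) [Mv.b (nat_lit 919), Mv.b (nat_lit 642), Mv.f (nat_lit 928)])))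
(Tr.lf (Fc.ed (nat_lit 930) (nat_lit 198) Col.b (nat_lit 310) Dv.df)))
(Tr.nd (nat_lit 932) (Tr.lf (Fc.ed (nat_lit 931) (nat_lit 310) Col.k (nat_lit 199) (Dv.wd (nat_lit 89) [Mv.b (nat_lit 643), Mv.f (nat_lit 641), Mv.f (nat_lit 930)])))
(Tr.nd (nat_lit 933) (Tr.lf (Fc.ed (nat_lit 932) (nat_lit 199) Col.c (nat_lit 311) Dv.df))
(Tr.lf (Fc.ed (nat_lit 933) (nat_lit 311) Col.h (nat_lit 306) (Dv.wd (nat_lit 32) [Mv.b (nat_lit 921), Mv.b (nat_lit 644), Mv.f (nat_lit 932)]))))))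
(Tr.nd (nat_lit 937) (Tr.nd (nat_lit 935) (Tr.lf (Fc.ed (nat_lit 934) (nat_lit 200) Col.c (nat_lit 312) Dv.df))
(Tr.nd (nat_lit 936) (Tr.lf (Fc.ed (nat_lit 935) (nat_lit 200) Col.f (nat_lit 313) Dv.df))
(Tr.lf (Fc.ed (nat_lit 936) (nat_lit 313) Col.d (nat_lit 201) (Dv.wd (nat_lit 109) [Mv.b (nat_lit 646), Mv.f (nat_lit 645), Mv.f (nat_lit 935)])))))
(Tr.nd (nat_lit 938) (Tr.lf (Fc.ed (nat_lit 937) (nat_lit 200) Col.h (nat_lit 314) Dv.df))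
(Tr.nd (nat_lit 939) (Tr.lf (Fc.ed (nat_lit 938) (nat_lit 314) Col.d (nat_lit 303) (Dv.wd (nat_lit 118) [Mv.b (nat_lit 915), Mv.f (nat_lit 628), Mv.b (nat_lit 397), Mv.f (nat_lit 645), Mv.f (nat_lit 937)])))
(Tr.lf (Fc.ed (nat_lit 939) (nat_lit 202) Col.l (nat_lit 315) Dv.df))))))))
(Tr.nd (nat_lit 960) (Tr.nd (nat_lit 950) (Tr.nd (nat_lit 945) (Tr.nd (nat_lit 942) (Tr.nd (nat_lit 941) (Tr.lf (Fc.ed (nat_lit 940) (nat_lit 315) Col.i (nat_lit 309) (Dv.wd (nat_lit 102) [Mv.b (nat_lit 928), Mv.b (nat_lit 650), Mv.f (nat_lit 939)])))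
(Tr.lf (Fc.ed (nat_lit 941) (nat_lit 202) Col.b (nat_lit 316) Dv.df)))
(Tr.nd (nat_lit 943) (Tr.lf (Fc.ed (nat_lit 942) (nat_lit 316) Col.k (nat_lit 203) (Dv.wd (nat_lit 89) [Mv.b (nat_lit 652), Mv.f (nat_lit 648), Mv.f (nat_lit 941)])))
(Tr.nd (nat_lit 944) (Tr.lf (Fc.ed (nat_lit 943) (nat_lit 316) Col.i (nat_lit 310) (Dv.wd (nat_lit 16) [Mv.b (nat_lit 930), Mv.b (nat_lit 650), Mv.f (nat_lit 941)])))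
(Tr.lf (Fc.ed (nat_lit 944) (nat_lit 202) Col.e (nat_lit 317) Dv.df)))))
(Tr.nd (nat_lit 947) (Tr.nd (nat_lit 946) (Tr.lf (Fc.ed (nat_lit 945) (nat_lit 317) Col.k (nat_lit 204) (Dv.wd (nat_lit 69) [Mv.b (nat_lit 656), Mv.f (nat_lit 648), Mv.f (nat_lit 944)])))
(Tr.lf (Fc.ed (nat_lit 946) (nat_lit 203) Col.c (nat_lit 318) Dv.df)))
(Tr.nd (nat_lit 948) (Tr.lf (Fc.ed (nat_lit 947) (nat_lit 318) Col.l (nat_lit 318) (Dv.wd (nat_lit 85) [Mv.b (nat_lit 946), Mv.f (nat_lit 653), Mv.f (nat_lit 946)])))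
(Tr.nd (nat_lit 949) (Tr.lf (Fc.ed (nat_lit 948) (nat_lit 318) Col.a (nat_lit 318) (Dv.wd (nat_lit 87) [Mv.b (nat_lit 946), Mv.f (nat_lit 655), Mv.f (nat_lit 946)])))
(Tr.lf (Fc.ed (nat_lit 949) (nat_lit 318) Col.i (nat_lit 311) (Dv.wd (nat_lit 15) [Mv.b (nat_lit 932), Mv.b (nat_lit 654), Mv.f (nat_lit 946)])))))))
(Tr.nd (nat_lit 955) (Tr.nd (nat_lit 952) (Tr.nd (nat_lit 951) (Tr.lf (Fc.ed (nat_lit 950) (nat_lit 318) Col.b (nat_lit 318) (Dv.wd (nat_lit 130) [Mv.b (nat_lit 946), Mv.b (nat_lit 652), Mv.f (nat_lit 400), Mv.f (nat_lit 652), Mv.f (nat_lit 946)])))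
(Tr.lf (Fc.ed (nat_lit 951) (nat_lit 203) Col.e (nat_lit 319) Dv.df)))
(Tr.nd (nat_lit 953) (Tr.lf (Fc.ed (nat_lit 952) (nat_lit 204) Col.d (nat_lit 320) Dv.df))
(Tr.nd (nat_lit 954) (Tr.lf (Fc.ed (nat_lit 953) (nat_lit 320) Col.a (nat_lit 205) (Dv.wd (nat_lit 74) [Mv.b (nat_lit 658), Mv.b (nat_lit 657), Mv.f (nat_lit 952)])))
(Tr.lf (Fc.ed (nat_lit 954) (nat_lit 204) Col.f (nat_lit 321) Dv.df)))))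
(Tr.nd (nat_lit 957) (Tr.nd (nat_lit 956) (Tr.lf (Fc.ed (nat_lit 955) (nat_lit 321) Col.e (nat_lit 211) (Dv.wd (nat_lit 114) [Mv.b (nat_lit 677), Mv.f (nat_lit 417), Mv.f (nat_lit 412), Mv.f (nat_lit 656), Mv.f (nat_lit 954)])))
(Tr.lf (Fc.ed (nat_lit 956) (nat_lit 205) Col.c (nat_lit 322) Dv.df)))
(Tr.nd (nat_lit 958) (Tr.lf (Fc.ed (nat_lit 957) (nat_lit 322) Col.k (nat_lit 322) (Dv.wd (nat_lit 86) [Mv.b (nat_lit 956), Mv.f (nat_lit 659), Mv.f (nat_lit 956)])))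
(Tr.nd (nat_lit 959) (Tr.lf (Fc.ed (nat_lit 958) (nat_lit 322) Col.i (nat_lit 312) (Dv.wd (nat_lit 15) [Mv.b (nat_lit 934), Mv.b (nat_lit 661), Mv.f (nat_lit 956)])))
(Tr.lf (Fc.ed (nat_lit 959) (nat_lit 322) Col.d (nat_lit 322) (Dv.wd (nat_lit 126) [Mv.b (nat_lit 956), Mv.b (nat_lit 658), Mv.f (nat_lit 407), Mv.f (nat_lit 658), Mv.f (nat_lit 956)]))))))))
(Tr.nd (nat_lit 970) (Tr.nd (nat_lit 965) (Tr.nd (nat_lit 962) (Tr.nd (nat_lit 961) (Tr.lf (Fc.ed (nat_lit 960) (nat_lit 205) Col.f (nat_lit 323) Dv.df))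
(Tr.lf (Fc.ed (nat_lit 961) (nat_lit 323) Col.d (nat_lit 206) (Dv.wd (nat_lit 109) [Mv.b (nat_lit 662), Mv.f (nat_lit 658), Mv.f (nat_lit 960)]))))
(Tr.nd (nat_lit 963) (Tr.lf (Fc.ed (nat_lit 962) (nat_lit 207) Col.b (nat_lit 324) Dv.df))
(Tr.nd (nat_lit 964) (Tr.lf (Fc.ed (nat_lit 963) (nat_lit 324) Col.d (nat_lit 324) (Dv.wd (nat_lit 35) [Mv.b (nat_lit 962), Mv.f (nat_lit 667), Mv.f (nat_lit 962)])))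
(Tr.lf (Fc.ed (nat_lit 964) (nat_lit 324) Col.f (nat_lit 316) (Dv.wd (nat_lit 90) [Mv.b (nat_lit 941), Mv.b (nat_lit 668), Mv.f (nat_lit 962)]))))))
(Tr.nd (nat_lit 967) (Tr.nd (nat_lit 966) (Tr.lf (Fc.ed (nat_lit 965) (nat_lit 208) Col.c (nat_lit 325) Dv.df))
(Tr.lf (Fc.ed (nat_lit 966) (nat_lit 325) Col.f (nat_lit 318) (Dv.wd (nat_lit 29) [Mv.b (nat_lit 946), Mv.b (nat_lit 670), Mv.f (nat_lit 965)]))))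
(Tr.nd (nat_lit 968) (Tr.lf (Fc.ed (nat_lit 967) (nat_lit 209) Col.b (nat_lit 326) Dv.df))
(Tr.nd (nat_lit 969) (Tr.lf (Fc.ed (nat_lit 968) (nat_lit 326) Col.e (nat_lit 324) (Dv.wd (nat_lit 40) [Mv.b (nat_lit 962), Mv.b (nat_lit 673), Mv.f (nat_lit 967)])))
(Tr.lf (Fc.ed (nat_lit 969) (nat_lit 326) Col.h (nat_lit 326) (Dv.wd (nat_lit 113) [Mv.b (nat_lit 967), Mv.f (nat_lit 674), Mv.f (nat_lit 967)])))))))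
(Tr.nd (nat_lit 975) (Tr.nd (nat_lit 972) (Tr.nd (nat_lit 971) (Tr.lf (Fc.ed (nat_lit 970) (nat_lit 209) Col.f (nat_lit 327) Dv.df))
(Tr.lf (Fc.ed (nat_lit 971) (nat_lit 210) Col.c (nat_lit 328) Dv.df)))
(Tr.nd (nat_lit 973) (Tr.lf (Fc.ed (nat_lit 972) (nat_lit 328) Col.e (nat_lit 325) (Dv.wd (nat_lit 39) [Mv.b (nat_lit 965), Mv.b (nat_lit 676), Mv.f (nat_lit 971)])))
(Tr.nd (nat_lit 974) (Tr.lf (Fc.ed (nat_lit 973) (nat_lit 210) Col.f (nat_lit 329) Dv.df))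
(Tr.lf (Fc.ed (nat_lit 974) (nat_lit 329) Col.b (nat_lit 211) (Dv.wd (nat_lit 128) [Mv.b (nat_lit 677), Mv.f (nat_lit 675), Mv.f (nat_lit 973)]))))))
(Tr.nd (nat_lit 978) (Tr.nd (nat_lit 976) (Tr.lf (Fc.ed (nat_lit 975) (nat_lit 211) Col.i (nat_lit 330) Dv.df))
(Tr.nd (nat_lit 977) (Tr.lf (Fc.ed (nat_lit 976) (nat_lit 330) Col.a (nat_lit 212) (Dv.wd (nat_lit 121) [Mv.b (nat_lit 679), Mv.b (nat_lit 678), Mv.f (nat_lit 975)])))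
(Tr.lf (Fc.ed (nat_lit 977) (nat_lit 213) Col.b (nat_lit 331) Dv.df))))
(Tr.nd (nat_lit 979) (Tr.lf (Fc.ed (nat_lit 978) (nat_lit 331) Col.k (nat_lit 214) (Dv.wd (nat_lit 89) [Mv.b (nat_lit 685), Mv.f (nat_lit 681), Mv.f (nat_lit 977)])))
(Tr.nd (nat_lit 980) (Tr.lf (Fc.ed (nat_lit 979) (nat_lit 331) Col.d (nat_lit 326) (Dv.wd (nat_lit 35) [Mv.b (nat_lit 967), Mv.b (nat_lit 682), Mv.f (nat_lit 977)])))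
(Tr.lf (Fc.ed (nat_lit 980) (nat_lit 331) Col.e (nat_lit 331) (Dv.wd (nat_lit 40) [Mv.b (nat_lit 977), Mv.f (nat_lit 683), Mv.f (nat_lit 977)]))))))))))))
(Tr.nd (nat_lit 1145) (Tr.nd (nat_lit 1063) (Tr.nd (nat_lit 1022) (Tr.nd (nat_lit 1001) (Tr.nd (nat_lit 991) (Tr.nd (nat_lit 986) (Tr.nd (nat_lit 983) (Tr.nd (nat_lit 982) (Tr.lf (Fc.ed (nat_lit 981) (nat_lit 213) Col.c (nat_lit 332) Dv.df))
(Tr.lf (Fc.ed (nat_lit 982) (nat_lit 332) Col.a (nat_lit 332) (Dv.wd (nat_lit 87) [Mv.b (nat_lit 981), Mv.f (nat_lit 684), Mv.f (nat_lit 981)]))))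
(Tr.nd (nat_lit 984) (Tr.lf (Fc.ed (nat_lit 983) (nat_lit 332) Col.h (nat_lit 224) (Dv.wd (nat_lit 32) [Mv.f (nat_lit 714), Mv.f (nat_lit 704), Mv.f (nat_lit 981)])))
(Tr.nd (nat_lit 985) (Tr.lf (Fc.ed (nat_lit 984) (nat_lit 213) Col.f (nat_lit 333) Dv.df))
(Tr.lf (Fc.ed (nat_lit 985) (nat_lit 333) Col.d (nat_lit 327) (Dv.wd (nat_lit 109) [Mv.b (nat_lit 970), Mv.b (nat_lit 682), Mv.f (nat_lit 984)]))))))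
(Tr.nd (nat_lit 988) (Tr.nd (nat_lit 987) (Tr.lf (Fc.ed (nat_lit 986) (nat_lit 213) Col.i (nat_lit 334) Dv.df))
(Tr.lf (Fc.ed (nat_lit 987) (nat_lit 214) Col.c (nat_lit 335) Dv.df)))
(Tr.nd (nat_lit 989) (Tr.lf (Fc.ed (nat_lit 988) (nat_lit 214) Col.f (nat_lit 336) Dv.df))
(Tr.nd (nat_lit 990) (Tr.lf (Fc.ed (nat_lit 989) (nat_lit 336) Col.b (nat_lit 216) (Dv.wd (nat_lit 128) [Mv.b (nat_lit 691), Mv.f (nat_lit 685), Mv.f (nat_lit 988)])))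
(Tr.lf (Fc.ed (nat_lit 990) (nat_lit 336) Col.d (nat_lit 329) (Dv.wd (nat_lit 109) [Mv.b (nat_lit 973), Mv.b (nat_lit 686), Mv.f (nat_lit 988)])))))))
(Tr.nd (nat_lit 996) (Tr.nd (nat_lit 993) (Tr.nd (nat_lit 992) (Tr.lf (Fc.ed (nat_lit 991) (nat_lit 215) Col.b (nat_lit 337) Dv.df))
(Tr.lf (Fc.ed (nat_lit 992) (nat_lit 337) Col.h (nat_lit 225) (Dv.wd (nat_lit 113) [Mv.b (nat_lit 715), Mv.b (nat_lit 690), Mv.f (nat_lit 991)]))))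
(Tr.nd (nat_lit 994) (Tr.lf (Fc.ed (nat_lit 993) (nat_lit 215) Col.f (nat_lit 338) Dv.df))
(Tr.nd (nat_lit 995) (Tr.lf (Fc.ed (nat_lit 994) (nat_lit 338) Col.a (nat_lit 217) (Dv.wd (nat_lit 78) [Mv.b (nat_lit 694), Mv.b (nat_lit 689), Mv.f (nat_lit 993)])))
(Tr.lf (Fc.ed (nat_lit 995) (nat_lit 338) Col.c (nat_lit 216) (Dv.wd (nat_lit 98) [Mv.b (nat_lit 691), Mv.f (nat_lit 688), Mv.f (nat_lit 993)]))))))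
(Tr.nd (nat_lit 998) (Tr.nd (nat_lit 997) (Tr.lf (Fc.ed (nat_lit 996) (nat_lit 338) Col.h (nat_lit 226) (Dv.wd (nat_lit 105) [Mv.b (nat_lit 716), Mv.b (nat_lit 690), Mv.f (nat_lit 993)])))
(Tr.lf (Fc.ed (nat_lit 997) (nat_lit 216) Col.e (nat_lit 339) Dv.df)))
(Tr.nd (nat_lit 999) (Tr.lf (Fc.ed (nat_lit 998) (nat_lit 339) Col.a (nat_lit 219) (Dv.wd (nat_lit 70) [Mv.b (nat_lit 699), Mv.b (nat_lit 692), Mv.f (nat_lit 997)])))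
(Tr.nd (nat_lit 1000) (Tr.lf (Fc.ed (nat_lit 999) (nat_lit 216) Col.i (nat_lit 340) Dv.df))
(Tr.lf (Fc.ed (nat_lit 1000) (nat_lit 217) Col.e (nat_lit 341) Dv.df)))))))
(Tr.nd (nat_lit 1011) (Tr.nd (nat_lit 1006) (Tr.nd (nat_lit 1003) (Tr.nd (nat_lit 1002) (Tr.lf (Fc.ed (nat_lit 1001) (nat_lit 341) Col.c (nat_lit 219) (Dv.wd (nat_lit 91) [Mv.b (nat_lit 699), Mv.b (nat_lit 695), Mv.f (nat_lit 1000)])))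
(Tr.lf (Fc.ed (nat_lit 1002) (nat_lit 341) Col.f (nat_lit 341) (Dv.wd (nat_lit 80) [Mv.b (nat_lit 1000), Mv.b (nat_lit 694), Mv.f (nat_lit 428), Mv.f (nat_lit 694), Mv.f (nat_lit 1000)]))))
(Tr.nd (nat_lit 1004) (Tr.lf (Fc.ed (nat_lit 1003) (nat_lit 217) Col.i (nat_lit 342) Dv.df))
(Tr.nd (nat_lit 1005) (Tr.lf (Fc.ed (nat_lit 1004) (nat_lit 342) Col.f (nat_lit 218) (Dv.wd (nat_lit 26) [Mv.b (nat_lit 698), Mv.f (nat_lit 694), Mv.f (nat_lit 1003)])))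
(Tr.lf (Fc.ed (nat_lit 1005) (nat_lit 219) Col.d (nat_lit 343) Dv.df)))))
(Tr.nd (nat_lit 1008) (Tr.nd (nat_lit 1007) (Tr.lf (Fc.ed (nat_lit 1006) (nat_lit 343) Col.e (nat_lit 323) (Dv.wd (nat_lit 75) [Mv.f (nat_lit 961), Mv.f (nat_lit 664), Mv.b (nat_lit 432), Mv.f (nat_lit 699), Mv.f (nat_lit 1005)])))
(Tr.lf (Fc.ed (nat_lit 1007) (nat_lit 219) Col.i (nat_lit 344) Dv.df)))
(Tr.nd (nat_lit 1009) (Tr.lf (Fc.ed (nat_lit 1008) (nat_lit 344) Col.e (nat_lit 220) (Dv.wd (nat_lit 25) [Mv.b (nat_lit 701), Mv.f (nat_lit 699), Mv.f (nat_lit 1007)])))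
(Tr.nd (nat_lit 1010) (Tr.lf (Fc.ed (nat_lit 1009) (nat_lit 221) Col.l (nat_lit 345) Dv.df))
(Tr.lf (Fc.ed (nat_lit 1010) (nat_lit 221) Col.b (nat_lit 346) Dv.df))))))
(Tr.nd (nat_lit 1016) (Tr.nd (nat_lit 1013) (Tr.nd (nat_lit 1012) (Tr.lf (Fc.ed (nat_lit 1011) (nat_lit 346) Col.k (nat_lit 222) (Dv.wd (nat_lit 89) [Mv.b (nat_lit 705), Mv.f (nat_lit 703), Mv.f (nat_lit 1010)])))
(Tr.lf (Fc.ed (nat_lit 1012) (nat_lit 346) Col.h (nat_lit 331) (Dv.wd (nat_lit 113) [Mv.b (nat_lit 977), Mv.b (nat_lit 704), Mv.f (nat_lit 1010)]))))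
(Tr.nd (nat_lit 1014) (Tr.lf (Fc.ed (nat_lit 1013) (nat_lit 221) Col.f (nat_lit 347) Dv.df))
(Tr.nd (nat_lit 1015) (Tr.lf (Fc.ed (nat_lit 1014) (nat_lit 347) Col.k (nat_lit 223) (Dv.wd (nat_lit 77) [Mv.b (nat_lit 710), Mv.f (nat_lit 703), Mv.f (nat_lit 1013)])))
(Tr.lf (Fc.ed (nat_lit 1015) (nat_lit 347) Col.h (nat_lit 333) (Dv.wd (nat_lit 105) [Mv.b (nat_lit 984), Mv.b (nat_lit 704), Mv.f (nat_lit 1013)]))))))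
(Tr.nd (nat_lit 1019) (Tr.nd (nat_lit 1017) (Tr.lf (Fc.ed (nat_lit 1016) (nat_lit 222) Col.f (nat_lit 348) Dv.df))
(Tr.nd (nat_lit 1018) (Tr.lf (Fc.ed (nat_lit 1017) (nat_lit 348) Col.a (nat_lit 348) (Dv.wd (nat_lit 78) [Mv.b (nat_lit 1016), Mv.f (nat_lit 709), Mv.f (nat_lit 1016)])))
(Tr.lf (Fc.ed (nat_lit 1018) (nat_lit 348) Col.b (nat_lit 223) (Dv.wd (nat_lit 128) [Mv.b (nat_lit 710), Mv.f (nat_lit 705), Mv.f (nat_lit 1016)])))))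
(Tr.nd (nat_lit 1020) (Tr.lf (Fc.ed (nat_lit 1019) (nat_lit 348) Col.d (nat_lit 348) (Dv.wd (nat_lit 109) [Mv.b (nat_lit 1016), Mv.f (nat_lit 706), Mv.f (nat_lit 1016)])))
(Tr.nd (nat_lit 1021) (Tr.lf (Fc.ed (nat_lit 1020) (nat_lit 348) Col.h (nat_lit 336) (Dv.wd (nat_lit 105) [Mv.b (nat_lit 988), Mv.b (nat_lit 708), Mv.f (nat_lit 1016)])))
(Tr.lf (Fc.ed (nat_lit 1021) (nat_lit 223) Col.e (nat_lit 349) Dv.df))))))))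
(Tr.nd (nat_lit 1042) (Tr.nd (nat_lit 1032) (Tr.nd (nat_lit 1027) (Tr.nd (nat_lit 1024) (Tr.nd (nat_lit 1023) (Tr.lf (Fc.ed (nat_lit 1022) (nat_lit 349) Col.h (nat_lit 339) (Dv.wd (nat_lit 71) [Mv.b (nat_lit 997), Mv.b (nat_lit 712), Mv.f (nat_lit 1021)])))
(Tr.lf (Fc.ed (nat_lit 1023) (nat_lit 349) Col.f (nat_lit 349) (Dv.wd (nat_lit 80) [Mv.b (nat_lit 1021), Mv.b (nat_lit 710), Mv.f (nat_lit 435), Mv.f (nat_lit 710), Mv.f (nat_lit 1021)]))))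
(Tr.nd (nat_lit 1025) (Tr.lf (Fc.ed (nat_lit 1024) (nat_lit 224) Col.l (nat_lit 350) Dv.df))
(Tr.nd (nat_lit 1026) (Tr.lf (Fc.ed (nat_lit 1025) (nat_lit 350) Col.c (nat_lit 345) (Dv.wd (nat_lit 110) [Mv.b (nat_lit 1009), Mv.b (nat_lit 714), Mv.f (nat_lit 1024)])))
(Tr.lf (Fc.ed (nat_lit 1026) (nat_lit 224) Col.f (nat_lit 351) Dv.df)))))
(Tr.nd (nat_lit 1029) (Tr.nd (nat_lit 1028) (Tr.lf (Fc.ed (nat_lit 1027) (nat_lit 351) Col.c (nat_lit 347) (Dv.wd (nat_lit 98) [Mv.b (nat_lit 1013), Mv.b (nat_lit 714), Mv.f (nat_lit 1026)])))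
(Tr.lf (Fc.ed (nat_lit 1028) (nat_lit 225) Col.f (nat_lit 352) Dv.df)))
(Tr.nd (nat_lit 1030) (Tr.lf (Fc.ed (nat_lit 1029) (nat_lit 352) Col.b (nat_lit 226) (Dv.wd (nat_lit 128) [Mv.b (nat_lit 716), Mv.f (nat_lit 715), Mv.f (nat_lit 1028)])))
(Tr.nd (nat_lit 1031) (Tr.lf (Fc.ed (nat_lit 1030) (nat_lit 228) Col.i (nat_lit 353) Dv.df))
(Tr.lf (Fc.ed (nat_lit 1031) (nat_lit 353) Col.h (nat_lit 353) (Dv.wd (nat_lit 120) [Mv.b (nat_lit 1030), Mv.b (nat_lit 721), Mv.f (nat_lit 451), Mv.f (nat_lit 721), Mv.f (nat_lit 1030)])))))))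
(Tr.nd (nat_lit 1037) (Tr.nd (nat_lit 1034) (Tr.nd (nat_lit 1033) (Tr.lf (Fc.ed (nat_lit 1032) (nat_lit 229) Col.d (nat_lit 354) Dv.df))
(Tr.lf (Fc.ed (nat_lit 1033) (nat_lit 354) Col.a (nat_lit 232) (Dv.wd (nat_lit 74) [Mv.b (nat_lit 730), Mv.b (nat_lit 724), Mv.f (nat_lit 1032)]))))
(Tr.nd (nat_lit 1035) (Tr.lf (Fc.ed (nat_lit 1034) (nat_lit 231) Col.d (nat_lit 355) Dv.df))
(Tr.nd (nat_lit 1036) (Tr.lf (Fc.ed (nat_lit 1035) (nat_lit 355) Col.b (nat_lit 244) (Dv.wd (nat_lit 127) [Mv.f (nat_lit 765), Mv.f (nat_lit 743), Mv.f (nat_lit 1034)])))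
(Tr.lf (Fc.ed (nat_lit 1036) (nat_lit 355) Col.f (nat_lit 232) (Dv.wd (nat_lit 28) [Mv.b (nat_lit 730), Mv.b (nat_lit 729), Mv.f (nat_lit 1034)]))))))
(Tr.nd (nat_lit 1039) (Tr.nd (nat_lit 1038) (Tr.lf (Fc.ed (nat_lit 1037) (nat_lit 233) Col.d (nat_lit 356) Dv.df))
(Tr.lf (Fc.ed (nat_lit 1038) (nat_lit 234) Col.e (nat_lit 357) Dv.df)))
(Tr.nd (nat_lit 1040) (Tr.lf (Fc.ed (nat_lit 1039) (nat_lit 235) Col.h (nat_lit 358) Dv.df))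
(Tr.nd (nat_lit 1041) (Tr.lf (Fc.ed (nat_lit 1040) (nat_lit 358) Col.a (nat_lit 358) (Dv.wd (nat_lit 83) [Mv.b (nat_lit 1039), Mv.f (nat_lit 738), Mv.f (nat_lit 1039)])))
(Tr.lf (Fc.ed (nat_lit 1041) (nat_lit 358) Col.b (nat_lit 269) (Dv.wd (nat_lit 101) [Mv.f (nat_lit 832), Mv.b (nat_lit 739), Mv.f (nat_lit 1039)]))))))))
(Tr.nd (nat_lit 1052) (Tr.nd (nat_lit 1047) (Tr.nd (nat_lit 1044) (Tr.nd (nat_lit 1043) (Tr.lf (Fc.ed (nat_lit 1042) (nat_lit 358) Col.e (nat_lit 236) (Dv.wd (nat_lit 117) [Mv.b (nat_lit 742), Mv.f (nat_lit 737), Mv.f (nat_lit 1039)])))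
(Tr.lf (Fc.ed (nat_lit 1043) (nat_lit 358) Col.f (nat_lit 358) (Dv.wd (nat_lit 84) [Mv.b (nat_lit 1039), Mv.f (nat_lit 741), Mv.f (nat_lit 1039)]))))
(Tr.nd (nat_lit 1045) (Tr.lf (Fc.ed (nat_lit 1044) (nat_lit 236) Col.i (nat_lit 359) Dv.df))
(Tr.nd (nat_lit 1046) (Tr.lf (Fc.ed (nat_lit 1045) (nat_lit 237) Col.e (nat_lit 360) Dv.df))
(Tr.lf (Fc.ed (nat_lit 1046) (nat_lit 360) Col.i (nat_lit 360) (Dv.wd (nat_lit 19) [Mv.b (nat_lit 1045), Mv.f (nat_lit 746), Mv.f (nat_lit 1045)]))))))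
(Tr.nd (nat_lit 1049) (Tr.nd (nat_lit 1048) (Tr.lf (Fc.ed (nat_lit 1047) (nat_lit 238) Col.e (nat_lit 361) Dv.df))
(Tr.lf (Fc.ed (nat_lit 1048) (nat_lit 361) Col.k (nat_lit 240) (Dv.wd (nat_lit 69) [Mv.b (nat_lit 752), Mv.b (nat_lit 748), Mv.f (nat_lit 1047)]))))
(Tr.nd (nat_lit 1050) (Tr.lf (Fc.ed (nat_lit 1049) (nat_lit 361) Col.h (nat_lit 360) (Dv.wd (nat_lit 71) [Mv.b (nat_lit 1045), Mv.b (nat_lit 749), Mv.f (nat_lit 1047)])))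
(Tr.nd (nat_lit 1051) (Tr.lf (Fc.ed (nat_lit 1050) (nat_lit 361) Col.f (nat_lit 361) (Dv.wd (nat_lit 80) [Mv.b (nat_lit 1047), Mv.b (nat_lit 747), Mv.f (nat_lit 473), Mv.f (nat_lit 747), Mv.f (nat_lit 1047)])))
(Tr.lf (Fc.ed (nat_lit 1051) (nat_lit 240) Col.d (nat_lit 362) Dv.df))))))
(Tr.nd (nat_lit 1057) (Tr.nd (nat_lit 1054) (Tr.nd (nat_lit 1053) (Tr.lf (Fc.ed (nat_lit 1052) (nat_lit 362) Col.a (nat_lit 264) (Dv.wd (nat_lit 74) [Mv.b (nat_lit 818), Mv.b (nat_lit 753), Mv.f (nat_lit 1051)])))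
(Tr.lf (Fc.ed (nat_lit 1053) (nat_lit 241) Col.e (nat_lit 363) Dv.df)))
(Tr.nd (nat_lit 1055) (Tr.lf (Fc.ed (nat_lit 1054) (nat_lit 363) Col.a (nat_lit 363) (Dv.wd (nat_lit 70) [Mv.b (nat_lit 1053), Mv.f (nat_lit 755), Mv.f (nat_lit 1053)])))
(Tr.nd (nat_lit 1056) (Tr.lf (Fc.ed (nat_lit 1055) (nat_lit 363) Col.b (nat_lit 363) (Dv.wd (nat_lit 97) [Mv.b (nat_lit 1053), Mv.f (nat_lit 756), Mv.f (nat_lit 1053)])))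
(Tr.lf (Fc.ed (nat_lit 1056) (nat_lit 363) Col.h (nat_lit 363) (Dv.wd (nat_lit 71) [Mv.b (nat_lit 1053), Mv.f (nat_lit 758), Mv.f (nat_lit 1053)]))))))
(Tr.nd (nat_lit 1060) (Tr.nd (nat_lit 1058) (Tr.lf (Fc.ed (nat_lit 1057) (nat_lit 242) Col.h (nat_lit 364) Dv.df))
(Tr.nd (nat_lit 1059) (Tr.lf (Fc.ed (nat_lit 1058) (nat_lit 364) Col.d (nat_lit 364) (Dv.wd (nat_lit 118) [Mv.b (nat_lit 1057), Mv.f (nat_lit 760), Mv.f (nat_lit 751), Mv.b (nat_lit 760), Mv.f (nat_lit 1057)])))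
(Tr.lf (Fc.ed (nat_lit 1059) (nat_lit 244) Col.e (nat_lit 365) Dv.df))))
(Tr.nd (nat_lit 1061) (Tr.lf (Fc.ed (nat_lit 1060) (nat_lit 365) Col.a (nat_lit 365) (Dv.wd (nat_lit 70) [Mv.b (nat_lit 1059), Mv.f (nat_lit 764), Mv.f (nat_lit 1059)])))
(Tr.nd (nat_lit 1062) (Tr.lf (Fc.ed (nat_lit 1061) (nat_lit 244) Col.i (nat_lit 366) Dv.df))
(Tr.lf (Fc.ed (nat_lit 1062) (nat_lit 366) Col.d (nat_lit 359) (Dv.wd (nat_lit 24) [Mv.b (nat_lit 1044), Mv.b (nat_lit 765), Mv.f (nat_lit 1061)]))))))))))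
(Tr.nd (nat_lit 1104) (Tr.nd (nat_lit 1083) (Tr.nd (nat_lit 1073) (Tr.nd (nat_lit 1068) (Tr.nd (nat_lit 1065) (Tr.nd (nat_lit 1064) (Tr.lf (Fc.ed (nat_lit 1063) (nat_lit 245) Col.d (nat_lit 367) Dv.df))
(Tr.lf (Fc.ed (nat_lit 1064) (nat_lit 245) Col.i (nat_lit 368) Dv.df)))
(Tr.nd (nat_lit 1066) (Tr.lf (Fc.ed (nat_lit 1065) (nat_lit 368) Col.c (nat_lit 262) (Dv.wd (nat_lit 23) [Mv.b (nat_lit 814), Mv.b (nat_lit 767), Mv.f (nat_lit 1064)])))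
(Tr.nd (nat_lit 1067) (Tr.lf (Fc.ed (nat_lit 1066) (nat_lit 368) Col.f (nat_lit 246) (Dv.wd (nat_lit 26) [Mv.b (nat_lit 769), Mv.b (nat_lit 768), Mv.f (nat_lit 1064)])))
(Tr.lf (Fc.ed (nat_lit 1067) (nat_lit 246) Col.h (nat_lit 369) Dv.df)))))
(Tr.nd (nat_lit 1070) (Tr.nd (nat_lit 1069) (Tr.lf (Fc.ed (nat_lit 1068) (nat_lit 369) Col.e (nat_lit 247) (Dv.wd (nat_lit 117) [Mv.b (nat_lit 771), Mv.b (nat_lit 770), Mv.f (nat_lit 1067)])))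
(Tr.lf (Fc.ed (nat_lit 1069) (nat_lit 248) Col.a (nat_lit 370) Dv.df)))
(Tr.nd (nat_lit 1071) (Tr.lf (Fc.ed (nat_lit 1070) (nat_lit 370) Col.c (nat_lit 370) (Dv.wd (nat_lit 45) [Mv.b (nat_lit 1069), Mv.f (nat_lit 778), Mv.f (nat_lit 1069)])))
(Tr.nd (nat_lit 1072) (Tr.lf (Fc.ed (nat_lit 1071) (nat_lit 370) Col.d (nat_lit 370) (Dv.wd (nat_lit 36) [Mv.b (nat_lit 1069), Mv.f (nat_lit 775), Mv.f (nat_lit 1069)])))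
(Tr.lf (Fc.ed (nat_lit 1072) (nat_lit 370) Col.e (nat_lit 354) (Dv.wd (nat_lit 42) [Mv.f (nat_lit 1033), Mv.b (nat_lit 776), Mv.f (nat_lit 1069)])))))))
(Tr.nd (nat_lit 1078) (Tr.nd (nat_lit 1075) (Tr.nd (nat_lit 1074) (Tr.lf (Fc.ed (nat_lit 1073) (nat_lit 370) Col.b (nat_lit 370) (Dv.wd (nat_lit 123) [Mv.b (nat_lit 1069), Mv.b (nat_lit 773), Mv.f (nat_lit 501), Mv.f (nat_lit 773), Mv.f (nat_lit 1069)])))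
(Tr.lf (Fc.ed (nat_lit 1074) (nat_lit 248) Col.f (nat_lit 371) Dv.df)))
(Tr.nd (nat_lit 1076) (Tr.lf (Fc.ed (nat_lit 1075) (nat_lit 371) Col.k (nat_lit 251) (Dv.wd (nat_lit 77) [Mv.b (nat_lit 784), Mv.b (nat_lit 774), Mv.f (nat_lit 1074)])))
(Tr.nd (nat_lit 1077) (Tr.lf (Fc.ed (nat_lit 1076) (nat_lit 248) Col.i (nat_lit 372) Dv.df))
(Tr.lf (Fc.ed (nat_lit 1077) (nat_lit 372) Col.b (nat_lit 250) (Dv.wd (nat_lit 22) [Mv.b (nat_lit 782), Mv.f (nat_lit 773), Mv.f (nat_lit 1076)]))))))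
(Tr.nd (nat_lit 1080) (Tr.nd (nat_lit 1079) (Tr.lf (Fc.ed (nat_lit 1078) (nat_lit 249) Col.e (nat_lit 373) Dv.df))
(Tr.lf (Fc.ed (nat_lit 1079) (nat_lit 373) Col.c (nat_lit 363) (Dv.wd (nat_lit 91) [Mv.b (nat_lit 1053), Mv.b (nat_lit 780), Mv.f (nat_lit 1078)]))))
(Tr.nd (nat_lit 1081) (Tr.lf (Fc.ed (nat_lit 1080) (nat_lit 373) Col.f (nat_lit 365) (Dv.wd (nat_lit 80) [Mv.b (nat_lit 1059), Mv.b (nat_lit 763), Mv.b (nat_lit 499), Mv.f (nat_lit 779), Mv.f (nat_lit 1078)])))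
(Tr.nd (nat_lit 1082) (Tr.lf (Fc.ed (nat_lit 1081) (nat_lit 250) Col.h (nat_lit 374) Dv.df))
(Tr.lf (Fc.ed (nat_lit 1082) (nat_lit 374) Col.c (nat_lit 364) (Dv.wd (nat_lit 131) [Mv.b (nat_lit 1057), Mv.b (nat_lit 783), Mv.f (nat_lit 1081)]))))))))
(Tr.nd (nat_lit 1093) (Tr.nd (nat_lit 1088) (Tr.nd (nat_lit 1085) (Tr.nd (nat_lit 1084) (Tr.lf (Fc.ed (nat_lit 1083) (nat_lit 251) Col.e (nat_lit 375) Dv.df))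
(Tr.lf (Fc.ed (nat_lit 1084) (nat_lit 375) Col.b (nat_lit 253) (Dv.wd (nat_lit 97) [Mv.b (nat_lit 789), Mv.b (nat_lit 785), Mv.f (nat_lit 1083)]))))
(Tr.nd (nat_lit 1086) (Tr.lf (Fc.ed (nat_lit 1085) (nat_lit 375) Col.f (nat_lit 357) (Dv.wd (nat_lit 80) [Mv.b (nat_lit 1038), Mv.f (nat_lit 736), Mv.b (nat_lit 503), Mv.f (nat_lit 784), Mv.f (nat_lit 1083)])))
(Tr.nd (nat_lit 1087) (Tr.lf (Fc.ed (nat_lit 1086) (nat_lit 251) Col.i (nat_lit 376) Dv.df))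
(Tr.lf (Fc.ed (nat_lit 1087) (nat_lit 376) Col.f (nat_lit 252) (Dv.wd (nat_lit 26) [Mv.b (nat_lit 786), Mv.f (nat_lit 784), Mv.f (nat_lit 1086)]))))))
(Tr.nd (nat_lit 1090) (Tr.nd (nat_lit 1089) (Tr.lf (Fc.ed (nat_lit 1088) (nat_lit 252) Col.h (nat_lit 377) Dv.df))
(Tr.lf (Fc.ed (nat_lit 1089) (nat_lit 377) Col.a (nat_lit 377) (Dv.wd (nat_lit 83) [Mv.b (nat_lit 1088), Mv.f (nat_lit 787), Mv.f (nat_lit 1088)]))))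
(Tr.nd (nat_lit 1091) (Tr.lf (Fc.ed (nat_lit 1090) (nat_lit 377) Col.b (nat_lit 254) (Dv.wd (nat_lit 101) [Mv.b (nat_lit 791), Mv.b (nat_lit 788), Mv.f (nat_lit 1088)])))
(Tr.nd (nat_lit 1092) (Tr.lf (Fc.ed (nat_lit 1091) (nat_lit 253) Col.d (nat_lit 378) Dv.df))
(Tr.lf (Fc.ed (nat_lit 1092) (nat_lit 378) Col.a (nat_lit 367) (Dv.wd (nat_lit 74) [Mv.b (nat_lit 1063), Mv.b (nat_lit 790), Mv.f (nat_lit 1091)])))))))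
(Tr.nd (nat_lit 1098) (Tr.nd (nat_lit 1095) (Tr.nd (nat_lit 1094) (Tr.lf (Fc.ed (nat_lit 1093) (nat_lit 255) Col.e (nat_lit 379) Dv.df))
(Tr.lf (Fc.ed (nat_lit 1094) (nat_lit 379) Col.a (nat_lit 379) (Dv.wd (nat_lit 70) [Mv.b (nat_lit 1093), Mv.f (nat_lit 794), Mv.f (nat_lit 1093)]))))
(Tr.nd (nat_lit 1096) (Tr.lf (Fc.ed (nat_lit 1095) (nat_lit 379) Col.b (nat_lit 379) (Dv.wd (nat_lit 97) [Mv.b (nat_lit 1093), Mv.f (nat_lit 795), Mv.f (nat_lit 1093)])))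
(Tr.nd (nat_lit 1097) (Tr.lf (Fc.ed (nat_lit 1096) (nat_lit 379) Col.c (nat_lit 365) (Dv.wd (nat_lit 91) [Mv.b (nat_lit 1059), Mv.b (nat_lit 796), Mv.f (nat_lit 1093)])))
(Tr.lf (Fc.ed (nat_lit 1097) (nat_lit 379) Col.f (nat_lit 363) (Dv.wd (nat_lit 80) [Mv.b (nat_lit 1053), Mv.b (nat_lit 754), Mv.b (nat_lit 513), Mv.f (nat_lit 793), Mv.f (nat_lit 1093)]))))))
(Tr.nd (nat_lit 1101) (Tr.nd (nat_lit 1099) (Tr.lf (Fc.ed (nat_lit 1098) (nat_lit 255) Col.i (nat_lit 380) Dv.df))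
(Tr.nd (nat_lit 1100) (Tr.lf (Fc.ed (nat_lit 1099) (nat_lit 380) Col.a (nat_lit 380) (Dv.wd (nat_lit 121) [Mv.b (nat_lit 1098), Mv.f (nat_lit 794), Mv.f (nat_lit 1098)])))
(Tr.lf (Fc.ed (nat_lit 1100) (nat_lit 380) Col.b (nat_lit 380) (Dv.wd (nat_lit 22) [Mv.b (nat_lit 1098), Mv.f (nat_lit 795), Mv.f (nat_lit 1098)])))))
(Tr.nd (nat_lit 1102) (Tr.lf (Fc.ed (nat_lit 1101) (nat_lit 380) Col.c (nat_lit 366) (Dv.wd (nat_lit 23) [Mv.b (nat_lit 1061), Mv.b (nat_lit 796), Mv.f (nat_lit 1098)])))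
(Tr.nd (nat_lit 1103) (Tr.lf (Fc.ed (nat_lit 1102) (nat_lit 380) Col.f (nat_lit 256) (Dv.wd (nat_lit 26) [Mv.b (nat_lit 798), Mv.f (nat_lit 793), Mv.f (nat_lit 1098)])))
(Tr.lf (Fc.ed (nat_lit 1103) (nat_lit 256) Col.h (nat_lit 381) Dv.df))))))))
(Tr.nd (nat_lit 1124) (Tr.nd (nat_lit 1114) (Tr.nd (nat_lit 1109) (Tr.nd (nat_lit 1106) (Tr.nd (nat_lit 1105) (Tr.lf (Fc.ed (nat_lit 1104) (nat_lit 381) Col.e (nat_lit 364) (Dv.wd (nat_lit 117) [Mv.b (nat_lit 1057), Mv.b (nat_lit 799), Mv.f (nat_lit 1103)])))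
(Tr.lf (Fc.ed (nat_lit 1105) (nat_lit 257) Col.h (nat_lit 382) Dv.df)))
(Tr.nd (nat_lit 1107) (Tr.lf (Fc.ed (nat_lit 1106) (nat_lit 382) Col.f (nat_lit 258) (Dv.wd (nat_lit 84) [Mv.b (nat_lit 803), Mv.b (nat_lit 802), Mv.f (nat_lit 1105)])))
(Tr.nd (nat_lit 1108) (Tr.lf (Fc.ed (nat_lit 1107) (nat_lit 259) Col.i (nat_lit 383) Dv.df))
(Tr.lf (Fc.ed (nat_lit 1108) (nat_lit 383) Col.e (nat_lit 260) (Dv.wd (nat_lit 25) [Mv.b (nat_lit 806), Mv.f (nat_lit 805), Mv.f (nat_lit 1107)]))))))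
(Tr.nd (nat_lit 1111) (Tr.nd (nat_lit 1110) (Tr.lf (Fc.ed (nat_lit 1109) (nat_lit 261) Col.i (nat_lit 384) Dv.df))
(Tr.lf (Fc.ed (nat_lit 1110) (nat_lit 384) Col.a (nat_lit 384) (Dv.wd (nat_lit 121) [Mv.b (nat_lit 1109), Mv.f (nat_lit 811), Mv.f (nat_lit 1109)]))))
(Tr.nd (nat_lit 1112) (Tr.lf (Fc.ed (nat_lit 1111) (nat_lit 384) Col.b (nat_lit 262) (Dv.wd (nat_lit 22) [Mv.b (nat_lit 814), Mv.b (nat_lit 812), Mv.f (nat_lit 1109)])))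
(Tr.nd (nat_lit 1113) (Tr.lf (Fc.ed (nat_lit 1112) (nat_lit 384) Col.f (nat_lit 383) (Dv.wd (nat_lit 26) [Mv.b (nat_lit 1107), Mv.b (nat_lit 813), Mv.f (nat_lit 1109)])))
(Tr.lf (Fc.ed (nat_lit 1113) (nat_lit 262) Col.h (nat_lit 385) Dv.df))))))
(Tr.nd (nat_lit 1119) (Tr.nd (nat_lit 1116) (Tr.nd (nat_lit 1115) (Tr.lf (Fc.ed (nat_lit 1114) (nat_lit 263) Col.d (nat_lit 386) Dv.df))
(Tr.lf (Fc.ed (nat_lit 1115) (nat_lit 386) Col.b (nat_lit 264) (Dv.wd (nat_lit 127) [Mv.b (nat_lit 818), Mv.b (nat_lit 816), Mv.f (nat_lit 1114)]))))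
(Tr.nd (nat_lit 1117) (Tr.lf (Fc.ed (nat_lit 1116) (nat_lit 264) Col.c (nat_lit 387) Dv.df))
(Tr.nd (nat_lit 1118) (Tr.lf (Fc.ed (nat_lit 1117) (nat_lit 265) Col.d (nat_lit 388) Dv.df))
(Tr.lf (Fc.ed (nat_lit 1118) (nat_lit 388) Col.l (nat_lit 273) (Dv.wd (nat_lit 72) [Mv.f (nat_lit 838), Mv.b (nat_lit 820), Mv.f (nat_lit 1117)]))))))
(Tr.nd (nat_lit 1121) (Tr.nd (nat_lit 1120) (Tr.lf (Fc.ed (nat_lit 1119) (nat_lit 267) Col.d (nat_lit 389) Dv.df))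
(Tr.lf (Fc.ed (nat_lit 1120) (nat_lit 389) Col.a (nat_lit 355) (Dv.wd (nat_lit 74) [Mv.b (nat_lit 1034), Mv.b (nat_lit 824), Mv.f (nat_lit 1119)]))))
(Tr.nd (nat_lit 1122) (Tr.lf (Fc.ed (nat_lit 1121) (nat_lit 389) Col.f (nat_lit 354) (Dv.wd (nat_lit 28) [Mv.b (nat_lit 1032), Mv.b (nat_lit 826), Mv.f (nat_lit 1119)])))
(Tr.nd (nat_lit 1123) (Tr.lf (Fc.ed (nat_lit 1122) (nat_lit 389) Col.h (nat_lit 389) (Dv.wd (nat_lit 142) [Mv.b (nat_lit 1119), Mv.b (nat_lit 823), Mv.f (nat_lit 540), Mv.f (nat_lit 823), Mv.f (nat_lit 1119)])))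
(Tr.lf (Fc.ed (nat_lit 1123) (nat_lit 269) Col.d (nat_lit 390) Dv.df)))))))
(Tr.nd (nat_lit 1134) (Tr.nd (nat_lit 1129) (Tr.nd (nat_lit 1126) (Tr.nd (nat_lit 1125) (Tr.lf (Fc.ed (nat_lit 1124) (nat_lit 269) Col.i (nat_lit 391) Dv.df))
(Tr.lf (Fc.ed (nat_lit 1125) (nat_lit 391) Col.c (nat_lit 270) (Dv.wd (nat_lit 23) [Mv.b (nat_lit 833), Mv.f (nat_lit 830), Mv.f (nat_lit 1124)]))))
(Tr.nd (nat_lit 1127) (Tr.lf (Fc.ed (nat_lit 1126) (nat_lit 271) Col.e (nat_lit 392) Dv.df))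
(Tr.nd (nat_lit 1128) (Tr.lf (Fc.ed (nat_lit 1127) (nat_lit 271) Col.i (nat_lit 393) Dv.df))
(Tr.lf (Fc.ed (nat_lit 1128) (nat_lit 393) Col.d (nat_lit 272) (Dv.wd (nat_lit 24) [Mv.b (nat_lit 835), Mv.f (nat_lit 834), Mv.f (nat_lit 1127)]))))))
(Tr.nd (nat_lit 1131) (Tr.nd (nat_lit 1130) (Tr.lf (Fc.ed (nat_lit 1129) (nat_lit 273) Col.c (nat_lit 394) Dv.df))
(Tr.lf (Fc.ed (nat_lit 1130) (nat_lit 394) Col.k (nat_lit 274) (Dv.wd (nat_lit 86) [Mv.b (nat_lit 839), Mv.f (nat_lit 837), Mv.f (nat_lit 1129)]))))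
(Tr.nd (nat_lit 1132) (Tr.lf (Fc.ed (nat_lit 1131) (nat_lit 273) Col.i (nat_lit 395) Dv.df))
(Tr.nd (nat_lit 1133) (Tr.lf (Fc.ed (nat_lit 1132) (nat_lit 395) Col.k (nat_lit 275) (Dv.wd (nat_lit 21) [Mv.b (nat_lit 844), Mv.f (nat_lit 837), Mv.f (nat_lit 1131)])))
(Tr.lf (Fc.ed (nat_lit 1133) (nat_lit 395) Col.d (nat_lit 353) (Dv.wd (nat_lit 24) [Mv.b (nat_lit 1030), Mv.b (nat_lit 838), Mv.f (nat_lit 1131)])))))))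
(Tr.nd (nat_lit 1139) (Tr.nd (nat_lit 1136) (Tr.nd (nat_lit 1135) (Tr.lf (Fc.ed (nat_lit 1134) (nat_lit 274) Col.b (nat_lit 396) Dv.df))
(Tr.lf (Fc.ed (nat_lit 1135) (nat_lit 396) Col.f (nat_lit 396) (Dv.wd (nat_lit 90) [Mv.b (nat_lit 1134), Mv.f (nat_lit 842), Mv.f (nat_lit 1134)]))))
(Tr.nd (nat_lit 1137) (Tr.lf (Fc.ed (nat_lit 1136) (nat_lit 396) Col.a (nat_lit 280) (Dv.wd (nat_lit 112) [Mv.b (nat_lit 857), Mv.f (nat_lit 586), Mv.b (nat_lit 560), Mv.b (nat_lit 840), Mv.f (nat_lit 1134)])))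
(Tr.nd (nat_lit 1138) (Tr.lf (Fc.ed (nat_lit 1137) (nat_lit 274) Col.d (nat_lit 397) Dv.df))
(Tr.lf (Fc.ed (nat_lit 1138) (nat_lit 397) Col.a (nat_lit 276) (Dv.wd (nat_lit 74) [Mv.b (nat_lit 849), Mv.b (nat_lit 840), Mv.f (nat_lit 1137)]))))))
(Tr.nd (nat_lit 1142) (Tr.nd (nat_lit 1140) (Tr.lf (Fc.ed (nat_lit 1139) (nat_lit 397) Col.c (nat_lit 390) (Dv.wd (nat_lit 139) [Mv.b (nat_lit 1123), Mv.b (nat_lit 830), Mv.b (nat_lit 555), Mv.f (nat_lit 839), Mv.f (nat_lit 1137)])))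
(Tr.nd (nat_lit 1141) (Tr.lf (Fc.ed (nat_lit 1140) (nat_lit 275) Col.h (nat_lit 398) Dv.df))
(Tr.lf (Fc.ed (nat_lit 1141) (nat_lit 398) Col.a (nat_lit 277) (Dv.wd (nat_lit 83) [Mv.b (nat_lit 852), Mv.b (nat_lit 845), Mv.f (nat_lit 1140)])))))
(Tr.nd (nat_lit 1143) (Tr.lf (Fc.ed (nat_lit 1142) (nat_lit 276) Col.e (nat_lit 399) Dv.df))
(Tr.nd (nat_lit 1144) (Tr.lf (Fc.ed (nat_lit 1143) (nat_lit 399) Col.b (nat_lit 282) (Dv.wd (nat_lit 97) [Mv.b (nat_lit 861), Mv.b (nat_lit 850), Mv.f (nat_lit 1142)])))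
(Tr.lf (Fc.ed (nat_lit 1144) (nat_lit 399) Col.c (nat_lit 392) (Dv.wd (nat_lit 91) [Mv.b (nat_lit 1126), Mv.b (nat_lit 851), Mv.f (nat_lit 1142)])))))))))))
(Tr.nd (nat_lit 1227) (Tr.nd (nat_lit 1186) (Tr.nd (nat_lit 1165) (Tr.nd (nat_lit 1155) (Tr.nd (nat_lit 1150) (Tr.nd (nat_lit 1147) (Tr.nd (nat_lit 1146) (Tr.lf (Fc.ed (nat_lit 1145) (nat_lit 278) Col.c (nat_lit 400) Dv.df))
(Tr.lf (Fc.ed (nat_lit 1146) (nat_lit 400) Col.l (nat_lit 279) (Dv.wd (nat_lit 85) [Mv.b (nat_lit 855), Mv.f (nat_lit 854), Mv.f (nat_lit 1145)]))))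
(Tr.nd (nat_lit 1148) (Tr.lf (Fc.ed (nat_lit 1147) (nat_lit 279) Col.b (nat_lit 401) Dv.df))
(Tr.nd (nat_lit 1149) (Tr.lf (Fc.ed (nat_lit 1148) (nat_lit 401) Col.k (nat_lit 280) (Dv.wd (nat_lit 89) [Mv.b (nat_lit 857), Mv.b (nat_lit 856), Mv.f (nat_lit 1147)])))
(Tr.lf (Fc.ed (nat_lit 1149) (nat_lit 280) Col.d (nat_lit 402) Dv.df)))))
(Tr.nd (nat_lit 1152) (Tr.nd (nat_lit 1151) (Tr.lf (Fc.ed (nat_lit 1150) (nat_lit 402) Col.b (nat_lit 281) (Dv.wd (nat_lit 127) [Mv.b (nat_lit 859), Mv.f (nat_lit 857), Mv.f (nat_lit 1149)])))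
(Tr.lf (Fc.ed (nat_lit 1151) (nat_lit 282) Col.f (nat_lit 403) Dv.df)))
(Tr.nd (nat_lit 1153) (Tr.lf (Fc.ed (nat_lit 1152) (nat_lit 403) Col.l (nat_lit 403) (Dv.wd (nat_lit 76) [Mv.b (nat_lit 1151), Mv.f (nat_lit 862), Mv.f (nat_lit 1151)])))
(Tr.nd (nat_lit 1154) (Tr.lf (Fc.ed (nat_lit 1153) (nat_lit 403) Col.c (nat_lit 403) (Dv.wd (nat_lit 98) [Mv.b (nat_lit 1151), Mv.f (nat_lit 863), Mv.f (nat_lit 1151)])))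
(Tr.lf (Fc.ed (nat_lit 1154) (nat_lit 403) Col.d (nat_lit 403) (Dv.wd (nat_lit 109) [Mv.b (nat_lit 1151), Mv.f (nat_lit 864), Mv.f (nat_lit 1151)])))))))
(Tr.nd (nat_lit 1160) (Tr.nd (nat_lit 1157) (Tr.nd (nat_lit 1156) (Tr.lf (Fc.ed (nat_lit 1155) (nat_lit 282) Col.h (nat_lit 404) Dv.df))
(Tr.lf (Fc.ed (nat_lit 1156) (nat_lit 404) Col.e (nat_lit 283) (Dv.wd (nat_lit 117) [Mv.b (nat_lit 865), Mv.f (nat_lit 861), Mv.f (nat_lit 1155)]))))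
(Tr.nd (nat_lit 1158) (Tr.lf (Fc.ed (nat_lit 1157) (nat_lit 284) Col.c (nat_lit 405) Dv.df))
(Tr.nd (nat_lit 1159) (Tr.lf (Fc.ed (nat_lit 1158) (nat_lit 405) Col.l (nat_lit 285) (Dv.wd (nat_lit 85) [Mv.b (nat_lit 870), Mv.f (nat_lit 867), Mv.f (nat_lit 1157)])))
(Tr.lf (Fc.ed (nat_lit 1159) (nat_lit 405) Col.a (nat_lit 405) (Dv.wd (nat_lit 87) [Mv.b (nat_lit 1157), Mv.f (nat_lit 868), Mv.f (nat_lit 1157)]))))))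
(Tr.nd (nat_lit 1162) (Tr.nd (nat_lit 1161) (Tr.lf (Fc.ed (nat_lit 1160) (nat_lit 405) Col.i (nat_lit 400) (Dv.wd (nat_lit 15) [Mv.b (nat_lit 1145), Mv.b (nat_lit 869), Mv.f (nat_lit 1157)])))
(Tr.lf (Fc.ed (nat_lit 1161) (nat_lit 285) Col.b (nat_lit 406) Dv.df)))
(Tr.nd (nat_lit 1163) (Tr.lf (Fc.ed (nat_lit 1162) (nat_lit 406) Col.i (nat_lit 401) (Dv.wd (nat_lit 16) [Mv.b (nat_lit 1147), Mv.b (nat_lit 871), Mv.f (nat_lit 1161)])))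
(Tr.nd (nat_lit 1164) (Tr.lf (Fc.ed (nat_lit 1163) (nat_lit 285) Col.d (nat_lit 407) Dv.df))
(Tr.lf (Fc.ed (nat_lit 1164) (nat_lit 286) Col.e (nat_lit 408) Dv.df)))))))
(Tr.nd (nat_lit 1175) (Tr.nd (nat_lit 1170) (Tr.nd (nat_lit 1167) (Tr.nd (nat_lit 1166) (Tr.lf (Fc.ed (nat_lit 1165) (nat_lit 408) Col.l (nat_lit 408) (Dv.wd (nat_lit 68) [Mv.b (nat_lit 1164), Mv.f (nat_lit 873), Mv.f (nat_lit 1164)])))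
(Tr.lf (Fc.ed (nat_lit 1166) (nat_lit 408) Col.a (nat_lit 289) (Dv.wd (nat_lit 70) [Mv.b (nat_lit 880), Mv.b (nat_lit 874), Mv.f (nat_lit 1164)]))))
(Tr.nd (nat_lit 1168) (Tr.lf (Fc.ed (nat_lit 1167) (nat_lit 286) Col.h (nat_lit 409) Dv.df))
(Tr.nd (nat_lit 1169) (Tr.lf (Fc.ed (nat_lit 1168) (nat_lit 287) Col.k (nat_lit 410) Dv.df))
(Tr.lf (Fc.ed (nat_lit 1169) (nat_lit 410) Col.c (nat_lit 395) (Dv.wd (nat_lit 53) [Mv.f (nat_lit 1132), Mv.b (nat_lit 876), Mv.f (nat_lit 1168)]))))))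
(Tr.nd (nat_lit 1172) (Tr.nd (nat_lit 1171) (Tr.lf (Fc.ed (nat_lit 1170) (nat_lit 288) Col.e (nat_lit 411) Dv.df))
(Tr.lf (Fc.ed (nat_lit 1171) (nat_lit 411) Col.b (nat_lit 289) (Dv.wd (nat_lit 97) [Mv.b (nat_lit 880), Mv.b (nat_lit 878), Mv.f (nat_lit 1170)]))))
(Tr.nd (nat_lit 1173) (Tr.lf (Fc.ed (nat_lit 1172) (nat_lit 411) Col.i (nat_lit 399) (Dv.wd (nat_lit 19) [Mv.b (nat_lit 1142), Mv.b (nat_lit 879), Mv.f (nat_lit 1170)])))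
(Tr.nd (nat_lit 1174) (Tr.lf (Fc.ed (nat_lit 1173) (nat_lit 289) Col.f (nat_lit 412) Dv.df))
(Tr.lf (Fc.ed (nat_lit 1174) (nat_lit 289) Col.h (nat_lit 413) Dv.df))))))
(Tr.nd (nat_lit 1180) (Tr.nd (nat_lit 1177) (Tr.nd (nat_lit 1176) (Tr.lf (Fc.ed (nat_lit 1175) (nat_lit 413) Col.e (nat_lit 290) (Dv.wd (nat_lit 117) [Mv.b (nat_lit 882), Mv.f (nat_lit 880), Mv.f (nat_lit 1174)])))
(Tr.lf (Fc.ed (nat_lit 1176) (nat_lit 291) Col.c (nat_lit 414) Dv.df)))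
(Tr.nd (nat_lit 1178) (Tr.lf (Fc.ed (nat_lit 1177) (nat_lit 414) Col.k (nat_lit 414) (Dv.wd (nat_lit 86) [Mv.b (nat_lit 1176), Mv.f (nat_lit 886), Mv.f (nat_lit 1176)])))
(Tr.nd (nat_lit 1179) (Tr.lf (Fc.ed (nat_lit 1178) (nat_lit 414) Col.a (nat_lit 414) (Dv.wd (nat_lit 87) [Mv.b (nat_lit 1176), Mv.f (nat_lit 884), Mv.f (nat_lit 1176)])))
(Tr.lf (Fc.ed (nat_lit 1179) (nat_lit 414) Col.h (nat_lit 405) (Dv.wd (nat_lit 32) [Mv.b (nat_lit 1157), Mv.b (nat_lit 885), Mv.f (nat_lit 1176)]))))))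
(Tr.nd (nat_lit 1183) (Tr.nd (nat_lit 1181) (Tr.lf (Fc.ed (nat_lit 1180) (nat_lit 292) Col.b (nat_lit 415) Dv.df))
(Tr.nd (nat_lit 1182) (Tr.lf (Fc.ed (nat_lit 1181) (nat_lit 415) Col.k (nat_lit 293) (Dv.wd (nat_lit 89) [Mv.b (nat_lit 891), Mv.b (nat_lit 888), Mv.f (nat_lit 1180)])))
(Tr.lf (Fc.ed (nat_lit 1182) (nat_lit 415) Col.f (nat_lit 415) (Dv.wd (nat_lit 90) [Mv.b (nat_lit 1180), Mv.f (nat_lit 889), Mv.f (nat_lit 1180)])))))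
(Tr.nd (nat_lit 1184) (Tr.lf (Fc.ed (nat_lit 1183) (nat_lit 415) Col.h (nat_lit 406) (Dv.wd (nat_lit 113) [Mv.b (nat_lit 1161), Mv.b (nat_lit 890), Mv.f (nat_lit 1180)])))
(Tr.nd (nat_lit 1185) (Tr.lf (Fc.ed (nat_lit 1184) (nat_lit 292) Col.d (nat_lit 416) Dv.df))
(Tr.lf (Fc.ed (nat_lit 1185) (nat_lit 416) Col.k (nat_lit 294) (Dv.wd (nat_lit 73) [Mv.b (nat_lit 892), Mv.b (nat_lit 888), Mv.f (nat_lit 1184)])))))))))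
(Tr.nd (nat_lit 1206) (Tr.nd (nat_lit 1196) (Tr.nd (nat_lit 1191) (Tr.nd (nat_lit 1188) (Tr.nd (nat_lit 1187) (Tr.lf (Fc.ed (nat_lit 1186) (nat_lit 293) Col.a (nat_lit 417) Dv.df))
(Tr.lf (Fc.ed (nat_lit 1187) (nat_lit 417) Col.b (nat_lit 295) (Dv.wd (nat_lit 123) [Mv.b (nat_lit 895), Mv.b (nat_lit 609), Mv.b (nat_lit 607), Mv.f (nat_lit 891), Mv.f (nat_lit 1186)]))))
(Tr.nd (nat_lit 1189) (Tr.lf (Fc.ed (nat_lit 1188) (nat_lit 293) Col.d (nat_lit 418) Dv.df))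
(Tr.nd (nat_lit 1190) (Tr.lf (Fc.ed (nat_lit 1189) (nat_lit 418) Col.b (nat_lit 294) (Dv.wd (nat_lit 127) [Mv.b (nat_lit 892), Mv.f (nat_lit 891), Mv.f (nat_lit 1188)])))
(Tr.lf (Fc.ed (nat_lit 1190) (nat_lit 294) Col.h (nat_lit 419) Dv.df)))))
(Tr.nd (nat_lit 1193) (Tr.nd (nat_lit 1192) (Tr.lf (Fc.ed (nat_lit 1191) (nat_lit 419) Col.a (nat_lit 297) (Dv.wd (nat_lit 83) [Mv.b (nat_lit 899), Mv.b (nat_lit 893), Mv.f (nat_lit 1190)])))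
(Tr.lf (Fc.ed (nat_lit 1192) (nat_lit 419) Col.c (nat_lit 302) (Dv.wd (nat_lit 131) [Mv.b (nat_lit 914), Mv.b (nat_lit 894), Mv.f (nat_lit 1190)]))))
(Tr.nd (nat_lit 1194) (Tr.lf (Fc.ed (nat_lit 1193) (nat_lit 419) Col.d (nat_lit 409) (Dv.wd (nat_lit 118) [Mv.b (nat_lit 1167), Mv.b (nat_lit 872), Mv.b (nat_lit 608), Mv.f (nat_lit 892), Mv.f (nat_lit 1190)])))
(Tr.nd (nat_lit 1195) (Tr.lf (Fc.ed (nat_lit 1194) (nat_lit 295) Col.k (nat_lit 420) Dv.df))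
(Tr.lf (Fc.ed (nat_lit 1195) (nat_lit 420) Col.h (nat_lit 410) (Dv.wd (nat_lit 129) [Mv.b (nat_lit 1168), Mv.b (nat_lit 896), Mv.f (nat_lit 1194)])))))))
(Tr.nd (nat_lit 1201) (Tr.nd (nat_lit 1198) (Tr.nd (nat_lit 1197) (Tr.lf (Fc.ed (nat_lit 1196) (nat_lit 296) Col.h (nat_lit 421) Dv.df))
(Tr.lf (Fc.ed (nat_lit 1197) (nat_lit 421) Col.c (nat_lit 303) (Dv.wd (nat_lit 131) [Mv.b (nat_lit 915), Mv.b (nat_lit 898), Mv.f (nat_lit 1196)]))))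
(Tr.nd (nat_lit 1199) (Tr.lf (Fc.ed (nat_lit 1198) (nat_lit 421) Col.e (nat_lit 297) (Dv.wd (nat_lit 117) [Mv.b (nat_lit 899), Mv.f (nat_lit 897), Mv.f (nat_lit 1196)])))
(Tr.nd (nat_lit 1200) (Tr.lf (Fc.ed (nat_lit 1199) (nat_lit 300) Col.b (nat_lit 422) Dv.df))
(Tr.lf (Fc.ed (nat_lit 1200) (nat_lit 300) Col.d (nat_lit 423) Dv.df)))))
(Tr.nd (nat_lit 1203) (Tr.nd (nat_lit 1202) (Tr.lf (Fc.ed (nat_lit 1201) (nat_lit 301) Col.c (nat_lit 424) Dv.df))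
(Tr.lf (Fc.ed (nat_lit 1202) (nat_lit 301) Col.e (nat_lit 425) Dv.df)))
(Tr.nd (nat_lit 1204) (Tr.lf (Fc.ed (nat_lit 1203) (nat_lit 425) Col.d (nat_lit 307) (Dv.wd (nat_lit 92) [Mv.b (nat_lit 924), Mv.f (nat_lit 637), Mv.f (nat_lit 633), Mv.f (nat_lit 910), Mv.f (nat_lit 1202)])))
(Tr.nd (nat_lit 1205) (Tr.lf (Fc.ed (nat_lit 1204) (nat_lit 301) Col.h (nat_lit 426) Dv.df))
(Tr.lf (Fc.ed (nat_lit 1205) (nat_lit 426) Col.a (nat_lit 426) (Dv.wd (nat_lit 83) [Mv.b (nat_lit 1204), Mv.f (nat_lit 911), Mv.f (nat_lit 1204)]))))))))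
(Tr.nd (nat_lit 1216) (Tr.nd (nat_lit 1211) (Tr.nd (nat_lit 1208) (Tr.nd (nat_lit 1207) (Tr.lf (Fc.ed (nat_lit 1206) (nat_lit 426) Col.b (nat_lit 302) (Dv.wd (nat_lit 101) [Mv.b (nat_lit 914), Mv.b (nat_lit 912), Mv.f (nat_lit 1204)])))
(Tr.lf (Fc.ed (nat_lit 1207) (nat_lit 304) Col.b (nat_lit 427) Dv.df)))
(Tr.nd (nat_lit 1209) (Tr.lf (Fc.ed (nat_lit 1208) (nat_lit 427) Col.e (nat_lit 422) (Dv.wd (nat_lit 40) [Mv.b (nat_lit 1199), Mv.b (nat_lit 918), Mv.f (nat_lit 1207)])))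
(Tr.nd (nat_lit 1210) (Tr.lf (Fc.ed (nat_lit 1209) (nat_lit 305) Col.b (nat_lit 428) Dv.df))
(Tr.lf (Fc.ed (nat_lit 1210) (nat_lit 428) Col.d (nat_lit 427) (Dv.wd (nat_lit 35) [Mv.b (nat_lit 1207), Mv.b (nat_lit 920), Mv.f (nat_lit 1209)]))))))
(Tr.nd (nat_lit 1213) (Tr.nd (nat_lit 1212) (Tr.lf (Fc.ed (nat_lit 1211) (nat_lit 306) Col.e (nat_lit 429) Dv.df))
(Tr.lf (Fc.ed (nat_lit 1212) (nat_lit 429) Col.a (nat_lit 429) (Dv.wd (nat_lit 70) [Mv.b (nat_lit 1211), Mv.f (nat_lit 922), Mv.f (nat_lit 1211)]))))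
(Tr.nd (nat_lit 1214) (Tr.lf (Fc.ed (nat_lit 1213) (nat_lit 429) Col.b (nat_lit 429) (Dv.wd (nat_lit 97) [Mv.b (nat_lit 1211), Mv.f (nat_lit 923), Mv.f (nat_lit 1211)])))
(Tr.nd (nat_lit 1215) (Tr.lf (Fc.ed (nat_lit 1214) (nat_lit 429) Col.c (nat_lit 307) (Dv.wd (nat_lit 91) [Mv.b (nat_lit 924), Mv.f (nat_lit 921), Mv.f (nat_lit 1211)])))
(Tr.lf (Fc.ed (nat_lit 1215) (nat_lit 309) Col.b (nat_lit 430) Dv.df))))))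
(Tr.nd (nat_lit 1221) (Tr.nd (nat_lit 1218) (Tr.nd (nat_lit 1217) (Tr.lf (Fc.ed (nat_lit 1216) (nat_lit 430) Col.h (nat_lit 428) (Dv.wd (nat_lit 113) [Mv.b (nat_lit 1209), Mv.b (nat_lit 929), Mv.f (nat_lit 1215)])))
(Tr.lf (Fc.ed (nat_lit 1217) (nat_lit 310) Col.c (nat_lit 431) Dv.df)))
(Tr.nd (nat_lit 1219) (Tr.lf (Fc.ed (nat_lit 1218) (nat_lit 431) Col.k (nat_lit 311) (Dv.wd (nat_lit 86) [Mv.b (nat_lit 932), Mv.b (nat_lit 931), Mv.f (nat_lit 1217)])))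
(Tr.nd (nat_lit 1220) (Tr.lf (Fc.ed (nat_lit 1219) (nat_lit 311) Col.d (nat_lit 432) Dv.df))
(Tr.lf (Fc.ed (nat_lit 1220) (nat_lit 311) Col.e (nat_lit 433) Dv.df)))))
(Tr.nd (nat_lit 1224) (Tr.nd (nat_lit 1222) (Tr.lf (Fc.ed (nat_lit 1221) (nat_lit 433) Col.h (nat_lit 429) (Dv.wd (nat_lit 71) [Mv.b (nat_lit 1211), Mv.b (nat_lit 933), Mv.f (nat_lit 1220)])))
(Tr.nd (nat_lit 1223) (Tr.lf (Fc.ed (nat_lit 1222) (nat_lit 311) Col.f (nat_lit 434) Dv.df))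
(Tr.lf (Fc.ed (nat_lit 1223) (nat_lit 434) Col.i (nat_lit 325) (Dv.wd (nat_lit 79) [Mv.f (nat_lit 966), Mv.f (nat_lit 949), Mv.f (nat_lit 1222)])))))
(Tr.nd (nat_lit 1225) (Tr.lf (Fc.ed (nat_lit 1224) (nat_lit 312) Col.h (nat_lit 435) Dv.df))
(Tr.nd (nat_lit 1226) (Tr.lf (Fc.ed (nat_lit 1225) (nat_lit 435) Col.c (nat_lit 314) (Dv.wd (nat_lit 131) [Mv.b (nat_lit 937), Mv.f (nat_lit 934), Mv.f (nat_lit 1224)])))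
(Tr.lf (Fc.ed (nat_lit 1226) (nat_lit 313) Col.e (nat_lit 436) Dv.df)))))))))
(Tr.nd (nat_lit 1268) (Tr.nd (nat_lit 1247) (Tr.nd (nat_lit 1237) (Tr.nd (nat_lit 1232) (Tr.nd (nat_lit 1229) (Tr.nd (nat_lit 1228) (Tr.lf (Fc.ed (nat_lit 1227) (nat_lit 436) Col.d (nat_lit 344) (Dv.wd (nat_lit 92) [Mv.f (nat_lit 1008), Mv.f (nat_lit 702), Mv.f (nat_lit 680), Mv.b (nat_lit 936), Mv.f (nat_lit 1226)])))
(Tr.lf (Fc.ed (nat_lit 1228) (nat_lit 313) Col.h (nat_lit 437) Dv.df)))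
(Tr.nd (nat_lit 1230) (Tr.lf (Fc.ed (nat_lit 1229) (nat_lit 437) Col.f (nat_lit 314) (Dv.wd (nat_lit 84) [Mv.b (nat_lit 937), Mv.f (nat_lit 935), Mv.f (nat_lit 1228)])))
(Tr.nd (nat_lit 1231) (Tr.lf (Fc.ed (nat_lit 1230) (nat_lit 315) Col.b (nat_lit 438) Dv.df))
(Tr.lf (Fc.ed (nat_lit 1231) (nat_lit 438) Col.l (nat_lit 316) (Dv.wd (nat_lit 88) [Mv.b (nat_lit 941), Mv.f (nat_lit 939), Mv.f (nat_lit 1230)]))))))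
(Tr.nd (nat_lit 1234) (Tr.nd (nat_lit 1233) (Tr.lf (Fc.ed (nat_lit 1232) (nat_lit 438) Col.i (nat_lit 430) (Dv.wd (nat_lit 16) [Mv.b (nat_lit 1215), Mv.b (nat_lit 940), Mv.f (nat_lit 1230)])))
(Tr.lf (Fc.ed (nat_lit 1233) (nat_lit 316) Col.a (nat_lit 439) Dv.df)))
(Tr.nd (nat_lit 1235) (Tr.lf (Fc.ed (nat_lit 1234) (nat_lit 316) Col.c (nat_lit 440) Dv.df))
(Tr.nd (nat_lit 1236) (Tr.lf (Fc.ed (nat_lit 1235) (nat_lit 440) Col.k (nat_lit 318) (Dv.wd (nat_lit 86) [Mv.b (nat_lit 946), Mv.b (nat_lit 942), Mv.f (nat_lit 1234)])))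
(Tr.lf (Fc.ed (nat_lit 1236) (nat_lit 440) Col.i (nat_lit 431) (Dv.wd (nat_lit 15) [Mv.b (nat_lit 1217), Mv.b (nat_lit 943), Mv.f (nat_lit 1234)])))))))
(Tr.nd (nat_lit 1242) (Tr.nd (nat_lit 1239) (Tr.nd (nat_lit 1238) (Tr.lf (Fc.ed (nat_lit 1237) (nat_lit 317) Col.d (nat_lit 441) Dv.df))
(Tr.lf (Fc.ed (nat_lit 1238) (nat_lit 441) Col.k (nat_lit 320) (Dv.wd (nat_lit 73) [Mv.b (nat_lit 952), Mv.b (nat_lit 945), Mv.f (nat_lit 1237)]))))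
(Tr.nd (nat_lit 1240) (Tr.lf (Fc.ed (nat_lit 1239) (nat_lit 317) Col.f (nat_lit 442) Dv.df))
(Tr.nd (nat_lit 1241) (Tr.lf (Fc.ed (nat_lit 1240) (nat_lit 442) Col.e (nat_lit 327) (Dv.wd (nat_lit 114) [Mv.b (nat_lit 970), Mv.f (nat_lit 673), Mv.f (nat_lit 668), Mv.f (nat_lit 944), Mv.f (nat_lit 1239)])))
(Tr.lf (Fc.ed (nat_lit 1241) (nat_lit 318) Col.d (nat_lit 443) Dv.df)))))
(Tr.nd (nat_lit 1244) (Tr.nd (nat_lit 1243) (Tr.lf (Fc.ed (nat_lit 1242) (nat_lit 443) Col.i (nat_lit 432) (Dv.wd (nat_lit 14) [Mv.b (nat_lit 1219), Mv.b (nat_lit 949), Mv.f (nat_lit 1241)])))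
(Tr.lf (Fc.ed (nat_lit 1243) (nat_lit 318) Col.e (nat_lit 444) Dv.df)))
(Tr.nd (nat_lit 1245) (Tr.lf (Fc.ed (nat_lit 1244) (nat_lit 444) Col.l (nat_lit 444) (Dv.wd (nat_lit 68) [Mv.b (nat_lit 1243), Mv.f (nat_lit 947), Mv.f (nat_lit 1243)])))
(Tr.nd (nat_lit 1246) (Tr.lf (Fc.ed (nat_lit 1245) (nat_lit 444) Col.a (nat_lit 444) (Dv.wd (nat_lit 70) [Mv.b (nat_lit 1243), Mv.f (nat_lit 948), Mv.f (nat_lit 1243)])))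
(Tr.lf (Fc.ed (nat_lit 1246) (nat_lit 444) Col.b (nat_lit 444) (Dv.wd (nat_lit 97) [Mv.b (nat_lit 1243), Mv.f (nat_lit 950), Mv.f (nat_lit 1243)]))))))))
(Tr.nd (nat_lit 1257) (Tr.nd (nat_lit 1252) (Tr.nd (nat_lit 1249) (Tr.nd (nat_lit 1248) (Tr.lf (Fc.ed (nat_lit 1247) (nat_lit 444) Col.c (nat_lit 319) (Dv.wd (nat_lit 91) [Mv.b (nat_lit 951), Mv.f (nat_lit 946), Mv.f (nat_lit 1243)])))
(Tr.lf (Fc.ed (nat_lit 1248) (nat_lit 444) Col.i (nat_lit 433) (Dv.wd (nat_lit 19) [Mv.b (nat_lit 1220), Mv.b (nat_lit 949), Mv.f (nat_lit 1243)]))))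
(Tr.nd (nat_lit 1250) (Tr.lf (Fc.ed (nat_lit 1249) (nat_lit 319) Col.d (nat_lit 445) Dv.df))
(Tr.nd (nat_lit 1251) (Tr.lf (Fc.ed (nat_lit 1250) (nat_lit 319) Col.f (nat_lit 446) Dv.df))
(Tr.lf (Fc.ed (nat_lit 1251) (nat_lit 446) Col.e (nat_lit 329) (Dv.wd (nat_lit 114) [Mv.b (nat_lit 973), Mv.f (nat_lit 676), Mv.f (nat_lit 670), Mv.f (nat_lit 951), Mv.f (nat_lit 1250)]))))))
(Tr.nd (nat_lit 1254) (Tr.nd (nat_lit 1253) (Tr.lf (Fc.ed (nat_lit 1252) (nat_lit 320) Col.c (nat_lit 447) Dv.df))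
(Tr.lf (Fc.ed (nat_lit 1253) (nat_lit 447) Col.a (nat_lit 322) (Dv.wd (nat_lit 87) [Mv.b (nat_lit 956), Mv.b (nat_lit 953), Mv.f (nat_lit 1252)]))))
(Tr.nd (nat_lit 1255) (Tr.lf (Fc.ed (nat_lit 1254) (nat_lit 320) Col.f (nat_lit 448) Dv.df))
(Tr.nd (nat_lit 1256) (Tr.lf (Fc.ed (nat_lit 1255) (nat_lit 448) Col.d (nat_lit 321) (Dv.wd (nat_lit 109) [Mv.b (nat_lit 954), Mv.f (nat_lit 952), Mv.f (nat_lit 1254)])))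
(Tr.lf (Fc.ed (nat_lit 1256) (nat_lit 320) Col.h (nat_lit 449) Dv.df))))))
(Tr.nd (nat_lit 1262) (Tr.nd (nat_lit 1259) (Tr.nd (nat_lit 1258) (Tr.lf (Fc.ed (nat_lit 1257) (nat_lit 322) Col.b (nat_lit 450) Dv.df))
(Tr.lf (Fc.ed (nat_lit 1258) (nat_lit 450) Col.k (nat_lit 450) (Dv.wd (nat_lit 89) [Mv.b (nat_lit 1257), Mv.f (nat_lit 957), Mv.f (nat_lit 1257)]))))
(Tr.nd (nat_lit 1260) (Tr.lf (Fc.ed (nat_lit 1259) (nat_lit 450) Col.d (nat_lit 450) (Dv.wd (nat_lit 35) [Mv.b (nat_lit 1257), Mv.f (nat_lit 959), Mv.f (nat_lit 1257)])))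
(Tr.nd (nat_lit 1261) (Tr.lf (Fc.ed (nat_lit 1260) (nat_lit 450) Col.c (nat_lit 450) (Dv.wd (nat_lit 111) [Mv.b (nat_lit 1257), Mv.b (nat_lit 956), Mv.f (nat_lit 660), Mv.f (nat_lit 956), Mv.f (nat_lit 1257)])))
(Tr.lf (Fc.ed (nat_lit 1261) (nat_lit 322) Col.f (nat_lit 451) Dv.df)))))
(Tr.nd (nat_lit 1265) (Tr.nd (nat_lit 1263) (Tr.lf (Fc.ed (nat_lit 1262) (nat_lit 451) Col.c (nat_lit 323) (Dv.wd (nat_lit 98) [Mv.b (nat_lit 960), Mv.f (nat_lit 956), Mv.f (nat_lit 1261)])))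
(Tr.nd (nat_lit 1264) (Tr.lf (Fc.ed (nat_lit 1263) (nat_lit 322) Col.h (nat_lit 452) Dv.df))
(Tr.lf (Fc.ed (nat_lit 1264) (nat_lit 324) Col.a (nat_lit 453) Dv.df))))
(Tr.nd (nat_lit 1266) (Tr.lf (Fc.ed (nat_lit 1265) (nat_lit 453) Col.d (nat_lit 453) (Dv.wd (nat_lit 36) [Mv.b (nat_lit 1264), Mv.f (nat_lit 963), Mv.f (nat_lit 1264)])))
(Tr.nd (nat_lit 1267) (Tr.lf (Fc.ed (nat_lit 1266) (nat_lit 453) Col.f (nat_lit 439) (Dv.wd (nat_lit 124) [Mv.b (nat_lit 1233), Mv.b (nat_lit 964), Mv.f (nat_lit 1264)])))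
(Tr.lf (Fc.ed (nat_lit 1267) (nat_lit 324) Col.c (nat_lit 454) Dv.df))))))))
(Tr.nd (nat_lit 1288) (Tr.nd (nat_lit 1278) (Tr.nd (nat_lit 1273) (Tr.nd (nat_lit 1270) (Tr.nd (nat_lit 1269) (Tr.lf (Fc.ed (nat_lit 1268) (nat_lit 454) Col.b (nat_lit 454) (Dv.wd (nat_lit 130) [Mv.b (nat_lit 1267), Mv.b (nat_lit 962), Mv.f (nat_lit 666), Mv.f (nat_lit 962), Mv.f (nat_lit 1267)])))
(Tr.lf (Fc.ed (nat_lit 1269) (nat_lit 325) Col.d (nat_lit 455) Dv.df)))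
(Tr.nd (nat_lit 1271) (Tr.lf (Fc.ed (nat_lit 1270) (nat_lit 455) Col.f (nat_lit 443) (Dv.wd (nat_lit 28) [Mv.b (nat_lit 1241), Mv.b (nat_lit 966), Mv.f (nat_lit 1269)])))
(Tr.nd (nat_lit 1272) (Tr.lf (Fc.ed (nat_lit 1271) (nat_lit 326) Col.a (nat_lit 456) Dv.df))
(Tr.lf (Fc.ed (nat_lit 1272) (nat_lit 456) Col.e (nat_lit 453) (Dv.wd (nat_lit 42) [Mv.b (nat_lit 1264), Mv.b (nat_lit 968), Mv.f (nat_lit 1271)]))))))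
(Tr.nd (nat_lit 1275) (Tr.nd (nat_lit 1274) (Tr.lf (Fc.ed (nat_lit 1273) (nat_lit 456) Col.h (nat_lit 456) (Dv.wd (nat_lit 122) [Mv.b (nat_lit 1271), Mv.f (nat_lit 969), Mv.f (nat_lit 1271)])))
(Tr.lf (Fc.ed (nat_lit 1274) (nat_lit 326) Col.c (nat_lit 457) Dv.df)))
(Tr.nd (nat_lit 1276) (Tr.lf (Fc.ed (nat_lit 1275) (nat_lit 457) Col.b (nat_lit 457) (Dv.wd (nat_lit 130) [Mv.b (nat_lit 1274), Mv.b (nat_lit 967), Mv.f (nat_lit 672), Mv.f (nat_lit 967), Mv.f (nat_lit 1274)])))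
(Tr.nd (nat_lit 1277) (Tr.lf (Fc.ed (nat_lit 1276) (nat_lit 328) Col.d (nat_lit 458) Dv.df))
(Tr.lf (Fc.ed (nat_lit 1277) (nat_lit 328) Col.f (nat_lit 459) Dv.df))))))
(Tr.nd (nat_lit 1283) (Tr.nd (nat_lit 1280) (Tr.nd (nat_lit 1279) (Tr.lf (Fc.ed (nat_lit 1278) (nat_lit 459) Col.c (nat_lit 329) (Dv.wd (nat_lit 98) [Mv.b (nat_lit 973), Mv.f (nat_lit 971), Mv.f (nat_lit 1277)])))
(Tr.lf (Fc.ed (nat_lit 1279) (nat_lit 328) Col.i (nat_lit 460) Dv.df)))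
(Tr.nd (nat_lit 1281) (Tr.lf (Fc.ed (nat_lit 1280) (nat_lit 460) Col.e (nat_lit 434) (Dv.wd (nat_lit 25) [Mv.f (nat_lit 1223), Mv.b (nat_lit 972), Mv.f (nat_lit 1279)])))
(Tr.nd (nat_lit 1282) (Tr.lf (Fc.ed (nat_lit 1281) (nat_lit 329) Col.i (nat_lit 461) Dv.df))
(Tr.lf (Fc.ed (nat_lit 1282) (nat_lit 461) Col.b (nat_lit 330) (Dv.wd (nat_lit 22) [Mv.b (nat_lit 975), Mv.b (nat_lit 974), Mv.f (nat_lit 1281)]))))))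
(Tr.nd (nat_lit 1285) (Tr.nd (nat_lit 1284) (Tr.lf (Fc.ed (nat_lit 1283) (nat_lit 331) Col.a (nat_lit 462) Dv.df))
(Tr.lf (Fc.ed (nat_lit 1284) (nat_lit 462) Col.d (nat_lit 456) (Dv.wd (nat_lit 36) [Mv.b (nat_lit 1271), Mv.b (nat_lit 979), Mv.f (nat_lit 1283)]))))
(Tr.nd (nat_lit 1286) (Tr.lf (Fc.ed (nat_lit 1285) (nat_lit 462) Col.e (nat_lit 462) (Dv.wd (nat_lit 42) [Mv.b (nat_lit 1283), Mv.f (nat_lit 980), Mv.f (nat_lit 1283)])))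
(Tr.nd (nat_lit 1287) (Tr.lf (Fc.ed (nat_lit 1286) (nat_lit 331) Col.c (nat_lit 463) Dv.df))
(Tr.lf (Fc.ed (nat_lit 1287) (nat_lit 463) Col.k (nat_lit 335) (Dv.wd (nat_lit 86) [Mv.b (nat_lit 987), Mv.b (nat_lit 978), Mv.f (nat_lit 1286)]))))))))
(Tr.nd (nat_lit 1298) (Tr.nd (nat_lit 1293) (Tr.nd (nat_lit 1290) (Tr.nd (nat_lit 1289) (Tr.lf (Fc.ed (nat_lit 1288) (nat_lit 331) Col.f (nat_lit 464) Dv.df))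
(Tr.lf (Fc.ed (nat_lit 1289) (nat_lit 464) Col.k (nat_lit 336) (Dv.wd (nat_lit 77) [Mv.b (nat_lit 988), Mv.b (nat_lit 978), Mv.f (nat_lit 1288)]))))
(Tr.nd (nat_lit 1291) (Tr.lf (Fc.ed (nat_lit 1290) (nat_lit 331) Col.i (nat_lit 465) Dv.df))
(Tr.nd (nat_lit 1292) (Tr.lf (Fc.ed (nat_lit 1291) (nat_lit 465) Col.b (nat_lit 334) (Dv.wd (nat_lit 22) [Mv.b (nat_lit 986), Mv.f (nat_lit 977), Mv.f (nat_lit 1290)])))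
(Tr.lf (Fc.ed (nat_lit 1292) (nat_lit 332) Col.b (nat_lit 466) Dv.df)))))
(Tr.nd (nat_lit 1295) (Tr.nd (nat_lit 1294) (Tr.lf (Fc.ed (nat_lit 1293) (nat_lit 332) Col.i (nat_lit 467) Dv.df))
(Tr.lf (Fc.ed (nat_lit 1294) (nat_lit 467) Col.c (nat_lit 334) (Dv.wd (nat_lit 23) [Mv.b (nat_lit 986), Mv.f (nat_lit 981), Mv.f (nat_lit 1293)]))))
(Tr.nd (nat_lit 1296) (Tr.lf (Fc.ed (nat_lit 1295) (nat_lit 333) Col.e (nat_lit 468) Dv.df))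
(Tr.nd (nat_lit 1297) (Tr.lf (Fc.ed (nat_lit 1296) (nat_lit 335) Col.b (nat_lit 469) Dv.df))
(Tr.lf (Fc.ed (nat_lit 1297) (nat_lit 469) Col.c (nat_lit 337) (Dv.wd (nat_lit 111) [Mv.b (nat_lit 991), Mv.b (nat_lit 688), Mv.f (nat_lit 685), Mv.f (nat_lit 987), Mv.f (nat_lit 1296)])))))))
(Tr.nd (nat_lit 1303) (Tr.nd (nat_lit 1300) (Tr.nd (nat_lit 1299) (Tr.lf (Fc.ed (nat_lit 1298) (nat_lit 335) Col.d (nat_lit 470) Dv.df))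
(Tr.lf (Fc.ed (nat_lit 1299) (nat_lit 470) Col.c (nat_lit 458) (Dv.wd (nat_lit 139) [Mv.b (nat_lit 1276), Mv.b (nat_lit 971), Mv.b (nat_lit 686), Mv.f (nat_lit 987), Mv.f (nat_lit 1298)]))))
(Tr.nd (nat_lit 1301) (Tr.lf (Fc.ed (nat_lit 1300) (nat_lit 335) Col.f (nat_lit 471) Dv.df))
(Tr.nd (nat_lit 1302) (Tr.lf (Fc.ed (nat_lit 1301) (nat_lit 336) Col.e (nat_lit 472) Dv.df))
(Tr.lf (Fc.ed (nat_lit 1302) (nat_lit 472) Col.f (nat_lit 472) (Dv.wd (nat_lit 80) [Mv.b (nat_lit 1301), Mv.b (nat_lit 988), Mv.f (nat_lit 687), Mv.f (nat_lit 988), Mv.f (nat_lit 1301)]))))))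
(Tr.nd (nat_lit 1306) (Tr.nd (nat_lit 1304) (Tr.lf (Fc.ed (nat_lit 1303) (nat_lit 336) Col.i (nat_lit 473) Dv.df))
(Tr.nd (nat_lit 1305) (Tr.lf (Fc.ed (nat_lit 1304) (nat_lit 473) Col.b (nat_lit 340) (Dv.wd (nat_lit 22) [Mv.b (nat_lit 999), Mv.b (nat_lit 989), Mv.f (nat_lit 1303)])))
(Tr.lf (Fc.ed (nat_lit 1305) (nat_lit 473) Col.d (nat_lit 461) (Dv.wd (nat_lit 24) [Mv.b (nat_lit 1281), Mv.b (nat_lit 990), Mv.f (nat_lit 1303)])))))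
(Tr.nd (nat_lit 1307) (Tr.lf (Fc.ed (nat_lit 1306) (nat_lit 337) Col.f (nat_lit 474) Dv.df))
(Tr.nd (nat_lit 1308) (Tr.lf (Fc.ed (nat_lit 1307) (nat_lit 474) Col.b (nat_lit 338) (Dv.wd (nat_lit 128) [Mv.b (nat_lit 993), Mv.f (nat_lit 991), Mv.f (nat_lit 1306)])))
(Tr.lf (Fc.ed (nat_lit 1308) (nat_lit 474) Col.h (nat_lit 352) (Dv.wd (nat_lit 105) [Mv.b (nat_lit 1028), Mv.b (nat_lit 992), Mv.f (nat_lit 1306)]))))))))))))))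
(Tr.nd (nat_lit 1964) (Tr.nd (nat_lit 1636) (Tr.nd (nat_lit 1472) (Tr.nd (nat_lit 1390) (Tr.nd (nat_lit 1349) (Tr.nd (nat_lit 1329) (Tr.nd (nat_lit 1319) (Tr.nd (nat_lit 1314) (Tr.nd (nat_lit 1311) (Tr.nd (nat_lit 1310) (Tr.lf (Fc.ed (nat_lit 1309) (nat_lit 338) Col.e (nat_lit 475) Dv.df))
(Tr.lf (Fc.ed (nat_lit 1310) (nat_lit 475) Col.a (nat_lit 341) (Dv.wd (nat_lit 70) [Mv.b (nat_lit 1000), Mv.b (nat_lit 994), Mv.f (nat_lit 1309)]))))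
(Tr.nd (nat_lit 1312) (Tr.lf (Fc.ed (nat_lit 1311) (nat_lit 475) Col.c (nat_lit 339) (Dv.wd (nat_lit 91) [Mv.b (nat_lit 997), Mv.b (nat_lit 995), Mv.f (nat_lit 1309)])))
(Tr.nd (nat_lit 1313) (Tr.lf (Fc.ed (nat_lit 1312) (nat_lit 338) Col.i (nat_lit 476) Dv.df))
(Tr.lf (Fc.ed (nat_lit 1313) (nat_lit 476) Col.c (nat_lit 340) (Dv.wd (nat_lit 23) [Mv.b (nat_lit 999), Mv.b (nat_lit 995), Mv.f (nat_lit 1312)]))))))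
(Tr.nd (nat_lit 1316) (Tr.nd (nat_lit 1315) (Tr.lf (Fc.ed (nat_lit 1314) (nat_lit 339) Col.d (nat_lit 477) Dv.df))
(Tr.lf (Fc.ed (nat_lit 1315) (nat_lit 477) Col.e (nat_lit 448) (Dv.wd (nat_lit 75) [Mv.f (nat_lit 1255), Mv.f (nat_lit 955), Mv.b (nat_lit 693), Mv.f (nat_lit 997), Mv.f (nat_lit 1314)]))))
(Tr.nd (nat_lit 1317) (Tr.lf (Fc.ed (nat_lit 1316) (nat_lit 341) Col.d (nat_lit 478) Dv.df))
(Tr.nd (nat_lit 1318) (Tr.lf (Fc.ed (nat_lit 1317) (nat_lit 478) Col.f (nat_lit 478) (Dv.wd (nat_lit 28) [Mv.b (nat_lit 1316), Mv.f (nat_lit 1002), Mv.f (nat_lit 1316)])))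
(Tr.lf (Fc.ed (nat_lit 1318) (nat_lit 478) Col.e (nat_lit 478) (Dv.wd (nat_lit 75) [Mv.b (nat_lit 1316), Mv.b (nat_lit 1000), Mv.f (nat_lit 696), Mv.f (nat_lit 1000), Mv.f (nat_lit 1316)])))))))
(Tr.nd (nat_lit 1324) (Tr.nd (nat_lit 1321) (Tr.nd (nat_lit 1320) (Tr.lf (Fc.ed (nat_lit 1319) (nat_lit 341) Col.i (nat_lit 479) Dv.df))
(Tr.lf (Fc.ed (nat_lit 1320) (nat_lit 479) Col.c (nat_lit 344) (Dv.wd (nat_lit 23) [Mv.b (nat_lit 1007), Mv.b (nat_lit 1001), Mv.f (nat_lit 1319)]))))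
(Tr.nd (nat_lit 1322) (Tr.lf (Fc.ed (nat_lit 1321) (nat_lit 479) Col.e (nat_lit 342) (Dv.wd (nat_lit 25) [Mv.b (nat_lit 1003), Mv.f (nat_lit 1000), Mv.f (nat_lit 1319)])))
(Tr.nd (nat_lit 1323) (Tr.lf (Fc.ed (nat_lit 1322) (nat_lit 343) Col.c (nat_lit 480) Dv.df))
(Tr.lf (Fc.ed (nat_lit 1323) (nat_lit 480) Col.e (nat_lit 451) (Dv.wd (nat_lit 39) [Mv.f (nat_lit 1262), Mv.b (nat_lit 1006), Mv.f (nat_lit 1322)]))))))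
(Tr.nd (nat_lit 1326) (Tr.nd (nat_lit 1325) (Tr.lf (Fc.ed (nat_lit 1324) (nat_lit 345) Col.b (nat_lit 481) Dv.df))
(Tr.lf (Fc.ed (nat_lit 1325) (nat_lit 481) Col.l (nat_lit 346) (Dv.wd (nat_lit 88) [Mv.b (nat_lit 1010), Mv.f (nat_lit 1009), Mv.f (nat_lit 1324)]))))
(Tr.nd (nat_lit 1327) (Tr.lf (Fc.ed (nat_lit 1326) (nat_lit 345) Col.f (nat_lit 482) Dv.df))
(Tr.nd (nat_lit 1328) (Tr.lf (Fc.ed (nat_lit 1327) (nat_lit 482) Col.l (nat_lit 347) (Dv.wd (nat_lit 76) [Mv.b (nat_lit 1013), Mv.f (nat_lit 1009), Mv.f (nat_lit 1326)])))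
(Tr.lf (Fc.ed (nat_lit 1328) (nat_lit 346) Col.a (nat_lit 483) Dv.df)))))))
(Tr.nd (nat_lit 1339) (Tr.nd (nat_lit 1334) (Tr.nd (nat_lit 1331) (Tr.nd (nat_lit 1330) (Tr.lf (Fc.ed (nat_lit 1329) (nat_lit 483) Col.h (nat_lit 462) (Dv.wd (nat_lit 122) [Mv.b (nat_lit 1283), Mv.b (nat_lit 1012), Mv.f (nat_lit 1328)])))
(Tr.lf (Fc.ed (nat_lit 1330) (nat_lit 346) Col.f (nat_lit 484) Dv.df)))
(Tr.nd (nat_lit 1332) (Tr.lf (Fc.ed (nat_lit 1331) (nat_lit 484) Col.k (nat_lit 348) (Dv.wd (nat_lit 77) [Mv.b (nat_lit 1016), Mv.b (nat_lit 1011), Mv.f (nat_lit 1330)])))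
(Tr.nd (nat_lit 1333) (Tr.lf (Fc.ed (nat_lit 1332) (nat_lit 484) Col.b (nat_lit 347) (Dv.wd (nat_lit 128) [Mv.b (nat_lit 1013), Mv.f (nat_lit 1010), Mv.f (nat_lit 1330)])))
(Tr.lf (Fc.ed (nat_lit 1333) (nat_lit 347) Col.e (nat_lit 485) Dv.df)))))
(Tr.nd (nat_lit 1336) (Tr.nd (nat_lit 1335) (Tr.lf (Fc.ed (nat_lit 1334) (nat_lit 485) Col.k (nat_lit 349) (Dv.wd (nat_lit 69) [Mv.b (nat_lit 1021), Mv.b (nat_lit 1014), Mv.f (nat_lit 1333)])))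
(Tr.lf (Fc.ed (nat_lit 1335) (nat_lit 485) Col.h (nat_lit 468) (Dv.wd (nat_lit 71) [Mv.b (nat_lit 1295), Mv.b (nat_lit 1015), Mv.f (nat_lit 1333)]))))
(Tr.nd (nat_lit 1337) (Tr.lf (Fc.ed (nat_lit 1336) (nat_lit 348) Col.e (nat_lit 486) Dv.df))
(Tr.nd (nat_lit 1338) (Tr.lf (Fc.ed (nat_lit 1337) (nat_lit 486) Col.a (nat_lit 486) (Dv.wd (nat_lit 70) [Mv.b (nat_lit 1336), Mv.f (nat_lit 1017), Mv.f (nat_lit 1336)])))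
(Tr.lf (Fc.ed (nat_lit 1338) (nat_lit 486) Col.b (nat_lit 349) (Dv.wd (nat_lit 97) [Mv.b (nat_lit 1021), Mv.b (nat_lit 1018), Mv.f (nat_lit 1336)])))))))
(Tr.nd (nat_lit 1344) (Tr.nd (nat_lit 1341) (Tr.nd (nat_lit 1340) (Tr.lf (Fc.ed (nat_lit 1339) (nat_lit 486) Col.h (nat_lit 472) (Dv.wd (nat_lit 71) [Mv.b (nat_lit 1301), Mv.b (nat_lit 1020), Mv.f (nat_lit 1336)])))
(Tr.lf (Fc.ed (nat_lit 1340) (nat_lit 486) Col.f (nat_lit 486) (Dv.wd (nat_lit 80) [Mv.b (nat_lit 1336), Mv.b (nat_lit 1016), Mv.f (nat_lit 707), Mv.f (nat_lit 1016), Mv.f (nat_lit 1336)]))))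
(Tr.nd (nat_lit 1342) (Tr.lf (Fc.ed (nat_lit 1341) (nat_lit 349) Col.d (nat_lit 487) Dv.df))
(Tr.nd (nat_lit 1343) (Tr.lf (Fc.ed (nat_lit 1342) (nat_lit 350) Col.f (nat_lit 488) Dv.df))
(Tr.lf (Fc.ed (nat_lit 1343) (nat_lit 488) Col.c (nat_lit 482) (Dv.wd (nat_lit 98) [Mv.b (nat_lit 1326), Mv.b (nat_lit 1025), Mv.f (nat_lit 1342)]))))))
(Tr.nd (nat_lit 1346) (Tr.nd (nat_lit 1345) (Tr.lf (Fc.ed (nat_lit 1344) (nat_lit 351) Col.e (nat_lit 489) Dv.df))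
(Tr.lf (Fc.ed (nat_lit 1345) (nat_lit 489) Col.c (nat_lit 485) (Dv.wd (nat_lit 91) [Mv.b (nat_lit 1333), Mv.b (nat_lit 1027), Mv.f (nat_lit 1344)]))))
(Tr.nd (nat_lit 1347) (Tr.lf (Fc.ed (nat_lit 1346) (nat_lit 355) Col.e (nat_lit 490) Dv.df))
(Tr.nd (nat_lit 1348) (Tr.lf (Fc.ed (nat_lit 1347) (nat_lit 356) Col.c (nat_lit 491) Dv.df))
(Tr.lf (Fc.ed (nat_lit 1348) (nat_lit 491) Col.d (nat_lit 394) (Dv.wd (nat_lit 126) [Mv.b (nat_lit 1129), Mv.f (nat_lit 838), Mv.b (nat_lit 733), Mv.f (nat_lit 1037), Mv.f (nat_lit 1347)])))))))))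
(Tr.nd (nat_lit 1369) (Tr.nd (nat_lit 1359) (Tr.nd (nat_lit 1354) (Tr.nd (nat_lit 1351) (Tr.nd (nat_lit 1350) (Tr.lf (Fc.ed (nat_lit 1349) (nat_lit 356) Col.e (nat_lit 492) Dv.df))
(Tr.lf (Fc.ed (nat_lit 1350) (nat_lit 492) Col.d (nat_lit 357) (Dv.wd (nat_lit 92) [Mv.b (nat_lit 1038), Mv.b (nat_lit 735), Mv.b (nat_lit 734), Mv.f (nat_lit 1037), Mv.f (nat_lit 1349)]))))
(Tr.nd (nat_lit 1352) (Tr.lf (Fc.ed (nat_lit 1351) (nat_lit 358) Col.d (nat_lit 493) Dv.df))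
(Tr.nd (nat_lit 1353) (Tr.lf (Fc.ed (nat_lit 1352) (nat_lit 493) Col.b (nat_lit 390) (Dv.wd (nat_lit 127) [Mv.b (nat_lit 1123), Mv.b (nat_lit 1041), Mv.f (nat_lit 1351)])))
(Tr.lf (Fc.ed (nat_lit 1353) (nat_lit 358) Col.i (nat_lit 494) Dv.df)))))
(Tr.nd (nat_lit 1356) (Tr.nd (nat_lit 1355) (Tr.lf (Fc.ed (nat_lit 1354) (nat_lit 494) Col.a (nat_lit 494) (Dv.wd (nat_lit 121) [Mv.b (nat_lit 1353), Mv.f (nat_lit 1040), Mv.f (nat_lit 1353)])))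
(Tr.lf (Fc.ed (nat_lit 1355) (nat_lit 494) Col.b (nat_lit 391) (Dv.wd (nat_lit 22) [Mv.b (nat_lit 1124), Mv.b (nat_lit 1041), Mv.f (nat_lit 1353)]))))
(Tr.nd (nat_lit 1357) (Tr.lf (Fc.ed (nat_lit 1356) (nat_lit 494) Col.e (nat_lit 359) (Dv.wd (nat_lit 25) [Mv.b (nat_lit 1044), Mv.b (nat_lit 1042), Mv.f (nat_lit 1353)])))
(Tr.nd (nat_lit 1358) (Tr.lf (Fc.ed (nat_lit 1357) (nat_lit 494) Col.f (nat_lit 494) (Dv.wd (nat_lit 26) [Mv.b (nat_lit 1353), Mv.f (nat_lit 1043), Mv.f (nat_lit 1353)])))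
(Tr.lf (Fc.ed (nat_lit 1358) (nat_lit 494) Col.h (nat_lit 494) (Dv.wd (nat_lit 120) [Mv.b (nat_lit 1353), Mv.b (nat_lit 1039), Mv.f (nat_lit 740), Mv.f (nat_lit 1039), Mv.f (nat_lit 1353)])))))))
(Tr.nd (nat_lit 1364) (Tr.nd (nat_lit 1361) (Tr.nd (nat_lit 1360) (Tr.lf (Fc.ed (nat_lit 1359) (nat_lit 360) Col.d (nat_lit 495) Dv.df))
(Tr.lf (Fc.ed (nat_lit 1360) (nat_lit 495) Col.i (nat_lit 495) (Dv.wd (nat_lit 14) [Mv.b (nat_lit 1359), Mv.f (nat_lit 1046), Mv.f (nat_lit 1359)]))))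
(Tr.nd (nat_lit 1362) (Tr.lf (Fc.ed (nat_lit 1361) (nat_lit 361) Col.d (nat_lit 496) Dv.df))
(Tr.nd (nat_lit 1363) (Tr.lf (Fc.ed (nat_lit 1362) (nat_lit 496) Col.k (nat_lit 362) (Dv.wd (nat_lit 73) [Mv.b (nat_lit 1051), Mv.b (nat_lit 1048), Mv.f (nat_lit 1361)])))
(Tr.lf (Fc.ed (nat_lit 1363) (nat_lit 496) Col.f (nat_lit 496) (Dv.wd (nat_lit 28) [Mv.b (nat_lit 1361), Mv.f (nat_lit 1050), Mv.f (nat_lit 1361)]))))))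
(Tr.nd (nat_lit 1366) (Tr.nd (nat_lit 1365) (Tr.lf (Fc.ed (nat_lit 1364) (nat_lit 362) Col.c (nat_lit 497) Dv.df))
(Tr.lf (Fc.ed (nat_lit 1365) (nat_lit 497) Col.a (nat_lit 387) (Dv.wd (nat_lit 87) [Mv.b (nat_lit 1116), Mv.b (nat_lit 1052), Mv.f (nat_lit 1364)]))))
(Tr.nd (nat_lit 1367) (Tr.lf (Fc.ed (nat_lit 1366) (nat_lit 363) Col.d (nat_lit 498) Dv.df))
(Tr.nd (nat_lit 1368) (Tr.lf (Fc.ed (nat_lit 1367) (nat_lit 498) Col.e (nat_lit 496) (Dv.wd (nat_lit 75) [Mv.b (nat_lit 1361), Mv.b (nat_lit 1047), Mv.b (nat_lit 757), Mv.f (nat_lit 1053), Mv.f (nat_lit 1366)])))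
(Tr.lf (Fc.ed (nat_lit 1368) (nat_lit 365) Col.d (nat_lit 499) Dv.df)))))))
(Tr.nd (nat_lit 1379) (Tr.nd (nat_lit 1374) (Tr.nd (nat_lit 1371) (Tr.nd (nat_lit 1370) (Tr.lf (Fc.ed (nat_lit 1369) (nat_lit 499) Col.a (nat_lit 499) (Dv.wd (nat_lit 74) [Mv.b (nat_lit 1368), Mv.f (nat_lit 1060), Mv.f (nat_lit 1368)])))
(Tr.lf (Fc.ed (nat_lit 1370) (nat_lit 499) Col.e (nat_lit 493) (Dv.wd (nat_lit 75) [Mv.b (nat_lit 1351), Mv.f (nat_lit 1042), Mv.b (nat_lit 765), Mv.f (nat_lit 1059), Mv.f (nat_lit 1368)]))))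
(Tr.nd (nat_lit 1372) (Tr.lf (Fc.ed (nat_lit 1371) (nat_lit 367) Col.i (nat_lit 500) Dv.df))
(Tr.nd (nat_lit 1373) (Tr.lf (Fc.ed (nat_lit 1372) (nat_lit 500) Col.d (nat_lit 368) (Dv.wd (nat_lit 24) [Mv.b (nat_lit 1064), Mv.f (nat_lit 1063), Mv.f (nat_lit 1371)])))
(Tr.lf (Fc.ed (nat_lit 1373) (nat_lit 368) Col.h (nat_lit 501) Dv.df)))))
(Tr.nd (nat_lit 1376) (Tr.nd (nat_lit 1375) (Tr.lf (Fc.ed (nat_lit 1374) (nat_lit 501) Col.c (nat_lit 385) (Dv.wd (nat_lit 131) [Mv.b (nat_lit 1113), Mv.b (nat_lit 1065), Mv.f (nat_lit 1373)])))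
(Tr.lf (Fc.ed (nat_lit 1375) (nat_lit 501) Col.f (nat_lit 369) (Dv.wd (nat_lit 84) [Mv.b (nat_lit 1067), Mv.b (nat_lit 1066), Mv.f (nat_lit 1373)]))))
(Tr.nd (nat_lit 1377) (Tr.lf (Fc.ed (nat_lit 1376) (nat_lit 369) Col.d (nat_lit 502) Dv.df))
(Tr.nd (nat_lit 1378) (Tr.lf (Fc.ed (nat_lit 1377) (nat_lit 502) Col.e (nat_lit 502) (Dv.wd (nat_lit 75) [Mv.b (nat_lit 1376), Mv.f (nat_lit 1068), Mv.f (nat_lit 772), Mv.b (nat_lit 1068), Mv.f (nat_lit 1376)])))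
(Tr.lf (Fc.ed (nat_lit 1378) (nat_lit 370) Col.f (nat_lit 503) Dv.df))))))
(Tr.nd (nat_lit 1384) (Tr.nd (nat_lit 1381) (Tr.nd (nat_lit 1380) (Tr.lf (Fc.ed (nat_lit 1379) (nat_lit 503) Col.a (nat_lit 371) (Dv.wd (nat_lit 78) [Mv.b (nat_lit 1074), Mv.f (nat_lit 1069), Mv.f (nat_lit 1378)])))
(Tr.lf (Fc.ed (nat_lit 1380) (nat_lit 370) Col.i (nat_lit 504) Dv.df)))
(Tr.nd (nat_lit 1382) (Tr.lf (Fc.ed (nat_lit 1381) (nat_lit 504) Col.a (nat_lit 372) (Dv.wd (nat_lit 121) [Mv.b (nat_lit 1076), Mv.f (nat_lit 1069), Mv.f (nat_lit 1380)])))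
(Tr.nd (nat_lit 1383) (Tr.lf (Fc.ed (nat_lit 1382) (nat_lit 371) Col.e (nat_lit 505) Dv.df))
(Tr.lf (Fc.ed (nat_lit 1383) (nat_lit 505) Col.k (nat_lit 375) (Dv.wd (nat_lit 69) [Mv.b (nat_lit 1083), Mv.b (nat_lit 1075), Mv.f (nat_lit 1382)]))))))
(Tr.nd (nat_lit 1387) (Tr.nd (nat_lit 1385) (Tr.lf (Fc.ed (nat_lit 1384) (nat_lit 505) Col.f (nat_lit 490) (Dv.wd (nat_lit 80) [Mv.b (nat_lit 1346), Mv.f (nat_lit 1036), Mv.b (nat_lit 776), Mv.f (nat_lit 1074), Mv.f (nat_lit 1382)])))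
(Tr.nd (nat_lit 1386) (Tr.lf (Fc.ed (nat_lit 1385) (nat_lit 372) Col.h (nat_lit 506) Dv.df))
(Tr.lf (Fc.ed (nat_lit 1386) (nat_lit 506) Col.b (nat_lit 374) (Dv.wd (nat_lit 101) [Mv.b (nat_lit 1081), Mv.b (nat_lit 1077), Mv.f (nat_lit 1385)])))))
(Tr.nd (nat_lit 1388) (Tr.lf (Fc.ed (nat_lit 1387) (nat_lit 373) Col.d (nat_lit 507) Dv.df))
(Tr.nd (nat_lit 1389) (Tr.lf (Fc.ed (nat_lit 1388) (nat_lit 507) Col.f (nat_lit 499) (Dv.wd (nat_lit 28) [Mv.b (nat_lit 1368), Mv.b (nat_lit 1080), Mv.f (nat_lit 1387)])))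
(Tr.lf (Fc.ed (nat_lit 1389) (nat_lit 507) Col.e (nat_lit 507) (Dv.wd (nat_lit 75) [Mv.b (nat_lit 1387), Mv.b (nat_lit 1078), Mv.f (nat_lit 781), Mv.f (nat_lit 1078), Mv.f (nat_lit 1387)]))))))))))
(Tr.nd (nat_lit 1431) (Tr.nd (nat_lit 1410) (Tr.nd (nat_lit 1400) (Tr.nd (nat_lit 1395) (Tr.nd (nat_lit 1392) (Tr.nd (nat_lit 1391) (Tr.lf (Fc.ed (nat_lit 1390) (nat_lit 375) Col.d (nat_lit 508) Dv.df))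
(Tr.lf (Fc.ed (nat_lit 1391) (nat_lit 508) Col.b (nat_lit 378) (Dv.wd (nat_lit 127) [Mv.b (nat_lit 1091), Mv.b (nat_lit 1084), Mv.f (nat_lit 1390)]))))
(Tr.nd (nat_lit 1393) (Tr.lf (Fc.ed (nat_lit 1392) (nat_lit 508) Col.f (nat_lit 492) (Dv.wd (nat_lit 28) [Mv.f (nat_lit 1350), Mv.b (nat_lit 1085), Mv.f (nat_lit 1390)])))
(Tr.nd (nat_lit 1394) (Tr.lf (Fc.ed (nat_lit 1393) (nat_lit 375) Col.i (nat_lit 509) Dv.df))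
(Tr.lf (Fc.ed (nat_lit 1394) (nat_lit 509) Col.e (nat_lit 376) (Dv.wd (nat_lit 25) [Mv.b (nat_lit 1086), Mv.f (nat_lit 1083), Mv.f (nat_lit 1393)]))))))
(Tr.nd (nat_lit 1397) (Tr.nd (nat_lit 1396) (Tr.lf (Fc.ed (nat_lit 1395) (nat_lit 378) Col.i (nat_lit 510) Dv.df))
(Tr.lf (Fc.ed (nat_lit 1396) (nat_lit 510) Col.a (nat_lit 500) (Dv.wd (nat_lit 121) [Mv.b (nat_lit 1371), Mv.b (nat_lit 1092), Mv.f (nat_lit 1395)]))))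
(Tr.nd (nat_lit 1398) (Tr.lf (Fc.ed (nat_lit 1397) (nat_lit 379) Col.d (nat_lit 511) Dv.df))
(Tr.nd (nat_lit 1399) (Tr.lf (Fc.ed (nat_lit 1398) (nat_lit 511) Col.a (nat_lit 511) (Dv.wd (nat_lit 74) [Mv.b (nat_lit 1397), Mv.f (nat_lit 1094), Mv.f (nat_lit 1397)])))
(Tr.lf (Fc.ed (nat_lit 1399) (nat_lit 511) Col.b (nat_lit 511) (Dv.wd (nat_lit 127) [Mv.b (nat_lit 1397), Mv.f (nat_lit 1095), Mv.f (nat_lit 1397)])))))))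
(Tr.nd (nat_lit 1405) (Tr.nd (nat_lit 1402) (Tr.nd (nat_lit 1401) (Tr.lf (Fc.ed (nat_lit 1400) (nat_lit 511) Col.f (nat_lit 498) (Dv.wd (nat_lit 28) [Mv.b (nat_lit 1366), Mv.b (nat_lit 1097), Mv.f (nat_lit 1397)])))
(Tr.lf (Fc.ed (nat_lit 1401) (nat_lit 380) Col.h (nat_lit 512) Dv.df)))
(Tr.nd (nat_lit 1403) (Tr.lf (Fc.ed (nat_lit 1402) (nat_lit 512) Col.f (nat_lit 381) (Dv.wd (nat_lit 84) [Mv.b (nat_lit 1103), Mv.b (nat_lit 1102), Mv.f (nat_lit 1401)])))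
(Tr.nd (nat_lit 1404) (Tr.lf (Fc.ed (nat_lit 1403) (nat_lit 384) Col.h (nat_lit 513) Dv.df))
(Tr.lf (Fc.ed (nat_lit 1404) (nat_lit 513) Col.a (nat_lit 513) (Dv.wd (nat_lit 83) [Mv.b (nat_lit 1403), Mv.f (nat_lit 1110), Mv.f (nat_lit 1403)]))))))
(Tr.nd (nat_lit 1407) (Tr.nd (nat_lit 1406) (Tr.lf (Fc.ed (nat_lit 1405) (nat_lit 513) Col.b (nat_lit 385) (Dv.wd (nat_lit 101) [Mv.b (nat_lit 1113), Mv.b (nat_lit 1111), Mv.f (nat_lit 1403)])))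
(Tr.lf (Fc.ed (nat_lit 1406) (nat_lit 386) Col.c (nat_lit 514) Dv.df)))
(Tr.nd (nat_lit 1408) (Tr.lf (Fc.ed (nat_lit 1407) (nat_lit 387) Col.b (nat_lit 515) Dv.df))
(Tr.nd (nat_lit 1409) (Tr.lf (Fc.ed (nat_lit 1408) (nat_lit 388) Col.c (nat_lit 516) Dv.df))
(Tr.lf (Fc.ed (nat_lit 1409) (nat_lit 516) Col.l (nat_lit 394) (Dv.wd (nat_lit 85) [Mv.b (nat_lit 1129), Mv.b (nat_lit 1118), Mv.f (nat_lit 1408)]))))))))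
(Tr.nd (nat_lit 1420) (Tr.nd (nat_lit 1415) (Tr.nd (nat_lit 1412) (Tr.nd (nat_lit 1411) (Tr.lf (Fc.ed (nat_lit 1410) (nat_lit 516) Col.d (nat_lit 514) (Dv.wd (nat_lit 126) [Mv.b (nat_lit 1406), Mv.b (nat_lit 1114), Mv.b (nat_lit 821), Mv.f (nat_lit 1117), Mv.f (nat_lit 1408)])))
(Tr.lf (Fc.ed (nat_lit 1411) (nat_lit 389) Col.e (nat_lit 517) Dv.df)))
(Tr.nd (nat_lit 1413) (Tr.lf (Fc.ed (nat_lit 1412) (nat_lit 517) Col.d (nat_lit 392) (Dv.wd (nat_lit 92) [Mv.b (nat_lit 1126), Mv.b (nat_lit 834), Mv.b (nat_lit 825), Mv.f (nat_lit 1119), Mv.f (nat_lit 1411)])))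
(Tr.nd (nat_lit 1414) (Tr.lf (Fc.ed (nat_lit 1413) (nat_lit 390) Col.e (nat_lit 518) Dv.df))
(Tr.lf (Fc.ed (nat_lit 1414) (nat_lit 518) Col.b (nat_lit 499) (Dv.wd (nat_lit 97) [Mv.f (nat_lit 1370), Mv.f (nat_lit 1352), Mv.f (nat_lit 1413)]))))))
(Tr.nd (nat_lit 1417) (Tr.nd (nat_lit 1416) (Tr.lf (Fc.ed (nat_lit 1415) (nat_lit 518) Col.d (nat_lit 490) (Dv.wd (nat_lit 92) [Mv.b (nat_lit 1346), Mv.b (nat_lit 1034), Mv.b (nat_lit 831), Mv.f (nat_lit 1123), Mv.f (nat_lit 1413)])))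
(Tr.lf (Fc.ed (nat_lit 1416) (nat_lit 392) Col.f (nat_lit 519) Dv.df)))
(Tr.nd (nat_lit 1418) (Tr.lf (Fc.ed (nat_lit 1417) (nat_lit 392) Col.i (nat_lit 520) Dv.df))
(Tr.nd (nat_lit 1419) (Tr.lf (Fc.ed (nat_lit 1418) (nat_lit 520) Col.e (nat_lit 393) (Dv.wd (nat_lit 25) [Mv.b (nat_lit 1127), Mv.f (nat_lit 1126), Mv.f (nat_lit 1417)])))
(Tr.lf (Fc.ed (nat_lit 1419) (nat_lit 393) Col.h (nat_lit 521) Dv.df))))))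
(Tr.nd (nat_lit 1425) (Tr.nd (nat_lit 1422) (Tr.nd (nat_lit 1421) (Tr.lf (Fc.ed (nat_lit 1420) (nat_lit 394) Col.b (nat_lit 522) Dv.df))
(Tr.lf (Fc.ed (nat_lit 1421) (nat_lit 522) Col.k (nat_lit 396) (Dv.wd (nat_lit 89) [Mv.b (nat_lit 1134), Mv.b (nat_lit 1130), Mv.f (nat_lit 1420)]))))
(Tr.nd (nat_lit 1423) (Tr.lf (Fc.ed (nat_lit 1422) (nat_lit 395) Col.h (nat_lit 523) Dv.df))
(Tr.nd (nat_lit 1424) (Tr.lf (Fc.ed (nat_lit 1423) (nat_lit 523) Col.c (nat_lit 420) (Dv.wd (nat_lit 131) [Mv.f (nat_lit 1195), Mv.f (nat_lit 1169), Mv.f (nat_lit 1422)])))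
(Tr.lf (Fc.ed (nat_lit 1424) (nat_lit 523) Col.d (nat_lit 523) (Dv.wd (nat_lit 118) [Mv.b (nat_lit 1422), Mv.f (nat_lit 1133), Mv.f (nat_lit 1031), Mv.b (nat_lit 1133), Mv.f (nat_lit 1422)]))))))
(Tr.nd (nat_lit 1428) (Tr.nd (nat_lit 1426) (Tr.lf (Fc.ed (nat_lit 1425) (nat_lit 396) Col.d (nat_lit 524) Dv.df))
(Tr.nd (nat_lit 1427) (Tr.lf (Fc.ed (nat_lit 1426) (nat_lit 524) Col.a (nat_lit 402) (Dv.wd (nat_lit 74) [Mv.b (nat_lit 1149), Mv.b (nat_lit 1136), Mv.f (nat_lit 1425)])))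
(Tr.lf (Fc.ed (nat_lit 1427) (nat_lit 524) Col.b (nat_lit 397) (Dv.wd (nat_lit 127) [Mv.b (nat_lit 1137), Mv.f (nat_lit 1134), Mv.f (nat_lit 1425)])))))
(Tr.nd (nat_lit 1429) (Tr.lf (Fc.ed (nat_lit 1428) (nat_lit 524) Col.f (nat_lit 524) (Dv.wd (nat_lit 28) [Mv.b (nat_lit 1425), Mv.f (nat_lit 1135), Mv.f (nat_lit 1425)])))
(Tr.nd (nat_lit 1430) (Tr.lf (Fc.ed (nat_lit 1429) (nat_lit 397) Col.e (nat_lit 525) Dv.df))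
(Tr.lf (Fc.ed (nat_lit 1430) (nat_lit 525) Col.a (nat_lit 399) (Dv.wd (nat_lit 70) [Mv.b (nat_lit 1142), Mv.b (nat_lit 1138), Mv.f (nat_lit 1429)])))))))))
(Tr.nd (nat_lit 1451) (Tr.nd (nat_lit 1441) (Tr.nd (nat_lit 1436) (Tr.nd (nat_lit 1433) (Tr.nd (nat_lit 1432) (Tr.lf (Fc.ed (nat_lit 1431) (nat_lit 525) Col.c (nat_lit 518) (Dv.wd (nat_lit 91) [Mv.b (nat_lit 1413), Mv.b (nat_lit 1139), Mv.f (nat_lit 1429)])))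
(Tr.lf (Fc.ed (nat_lit 1432) (nat_lit 525) Col.d (nat_lit 525) (Dv.wd (nat_lit 92) [Mv.b (nat_lit 1429), Mv.b (nat_lit 1137), Mv.f (nat_lit 841), Mv.f (nat_lit 1137), Mv.f (nat_lit 1429)]))))
(Tr.nd (nat_lit 1434) (Tr.lf (Fc.ed (nat_lit 1433) (nat_lit 397) Col.h (nat_lit 526) Dv.df))
(Tr.nd (nat_lit 1435) (Tr.lf (Fc.ed (nat_lit 1434) (nat_lit 526) Col.d (nat_lit 526) (Dv.wd (nat_lit 118) [Mv.b (nat_lit 1433), Mv.b (nat_lit 1137), Mv.f (nat_lit 843), Mv.f (nat_lit 1137), Mv.f (nat_lit 1433)])))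
(Tr.lf (Fc.ed (nat_lit 1435) (nat_lit 399) Col.f (nat_lit 527) Dv.df)))))
(Tr.nd (nat_lit 1438) (Tr.nd (nat_lit 1437) (Tr.lf (Fc.ed (nat_lit 1436) (nat_lit 527) Col.b (nat_lit 403) (Dv.wd (nat_lit 128) [Mv.b (nat_lit 1151), Mv.b (nat_lit 1143), Mv.f (nat_lit 1435)])))
(Tr.lf (Fc.ed (nat_lit 1437) (nat_lit 527) Col.c (nat_lit 519) (Dv.wd (nat_lit 98) [Mv.b (nat_lit 1416), Mv.b (nat_lit 1144), Mv.f (nat_lit 1435)]))))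
(Tr.nd (nat_lit 1439) (Tr.lf (Fc.ed (nat_lit 1438) (nat_lit 400) Col.b (nat_lit 528) Dv.df))
(Tr.nd (nat_lit 1440) (Tr.lf (Fc.ed (nat_lit 1439) (nat_lit 528) Col.l (nat_lit 401) (Dv.wd (nat_lit 88) [Mv.b (nat_lit 1147), Mv.b (nat_lit 1146), Mv.f (nat_lit 1438)])))
(Tr.lf (Fc.ed (nat_lit 1440) (nat_lit 401) Col.a (nat_lit 529) Dv.df))))))
(Tr.nd (nat_lit 1446) (Tr.nd (nat_lit 1443) (Tr.nd (nat_lit 1442) (Tr.lf (Fc.ed (nat_lit 1441) (nat_lit 401) Col.d (nat_lit 530) Dv.df))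
(Tr.lf (Fc.ed (nat_lit 1442) (nat_lit 530) Col.k (nat_lit 402) (Dv.wd (nat_lit 73) [Mv.b (nat_lit 1149), Mv.b (nat_lit 1148), Mv.f (nat_lit 1441)]))))
(Tr.nd (nat_lit 1444) (Tr.lf (Fc.ed (nat_lit 1443) (nat_lit 402) Col.c (nat_lit 531) Dv.df))
(Tr.nd (nat_lit 1445) (Tr.lf (Fc.ed (nat_lit 1444) (nat_lit 531) Col.b (nat_lit 531) (Dv.wd (nat_lit 130) [Mv.b (nat_lit 1443), Mv.f (nat_lit 1150), Mv.f (nat_lit 860), Mv.b (nat_lit 1150), Mv.f (nat_lit 1443)])))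
(Tr.lf (Fc.ed (nat_lit 1445) (nat_lit 402) Col.e (nat_lit 532) Dv.df)))))
(Tr.nd (nat_lit 1448) (Tr.nd (nat_lit 1447) (Tr.lf (Fc.ed (nat_lit 1446) (nat_lit 402) Col.h (nat_lit 533) Dv.df))
(Tr.lf (Fc.ed (nat_lit 1447) (nat_lit 533) Col.d (nat_lit 533) (Dv.wd (nat_lit 118) [Mv.b (nat_lit 1446), Mv.b (nat_lit 1149), Mv.f (nat_lit 858), Mv.f (nat_lit 1149), Mv.f (nat_lit 1446)]))))
(Tr.nd (nat_lit 1449) (Tr.lf (Fc.ed (nat_lit 1448) (nat_lit 403) Col.h (nat_lit 534) Dv.df))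
(Tr.nd (nat_lit 1450) (Tr.lf (Fc.ed (nat_lit 1449) (nat_lit 534) Col.l (nat_lit 534) (Dv.wd (nat_lit 81) [Mv.b (nat_lit 1448), Mv.f (nat_lit 1152), Mv.f (nat_lit 1448)])))
(Tr.lf (Fc.ed (nat_lit 1450) (nat_lit 534) Col.c (nat_lit 534) (Dv.wd (nat_lit 131) [Mv.b (nat_lit 1448), Mv.f (nat_lit 1153), Mv.f (nat_lit 1448)]))))))))
(Tr.nd (nat_lit 1461) (Tr.nd (nat_lit 1456) (Tr.nd (nat_lit 1453) (Tr.nd (nat_lit 1452) (Tr.lf (Fc.ed (nat_lit 1451) (nat_lit 534) Col.f (nat_lit 404) (Dv.wd (nat_lit 84) [Mv.b (nat_lit 1155), Mv.f (nat_lit 1151), Mv.f (nat_lit 1448)])))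
(Tr.lf (Fc.ed (nat_lit 1452) (nat_lit 404) Col.d (nat_lit 535) Dv.df)))
(Tr.nd (nat_lit 1454) (Tr.lf (Fc.ed (nat_lit 1453) (nat_lit 535) Col.e (nat_lit 535) (Dv.wd (nat_lit 75) [Mv.b (nat_lit 1452), Mv.f (nat_lit 1156), Mv.f (nat_lit 866), Mv.b (nat_lit 1156), Mv.f (nat_lit 1452)])))
(Tr.nd (nat_lit 1455) (Tr.lf (Fc.ed (nat_lit 1454) (nat_lit 404) Col.i (nat_lit 536) Dv.df))
(Tr.lf (Fc.ed (nat_lit 1455) (nat_lit 405) Col.b (nat_lit 537) Dv.df)))))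
(Tr.nd (nat_lit 1458) (Tr.nd (nat_lit 1457) (Tr.lf (Fc.ed (nat_lit 1456) (nat_lit 537) Col.i (nat_lit 528) (Dv.wd (nat_lit 16) [Mv.b (nat_lit 1438), Mv.b (nat_lit 1160), Mv.f (nat_lit 1455)])))
(Tr.lf (Fc.ed (nat_lit 1457) (nat_lit 405) Col.d (nat_lit 538) Dv.df)))
(Tr.nd (nat_lit 1459) (Tr.lf (Fc.ed (nat_lit 1458) (nat_lit 538) Col.l (nat_lit 407) (Dv.wd (nat_lit 72) [Mv.b (nat_lit 1163), Mv.b (nat_lit 1158), Mv.f (nat_lit 1457)])))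
(Tr.nd (nat_lit 1460) (Tr.lf (Fc.ed (nat_lit 1459) (nat_lit 538) Col.a (nat_lit 538) (Dv.wd (nat_lit 74) [Mv.b (nat_lit 1457), Mv.f (nat_lit 1159), Mv.f (nat_lit 1457)])))
(Tr.lf (Fc.ed (nat_lit 1460) (nat_lit 406) Col.a (nat_lit 539) Dv.df))))))
(Tr.nd (nat_lit 1466) (Tr.nd (nat_lit 1463) (Tr.nd (nat_lit 1462) (Tr.lf (Fc.ed (nat_lit 1461) (nat_lit 539) Col.i (nat_lit 529) (Dv.wd (nat_lit 17) [Mv.b (nat_lit 1440), Mv.b (nat_lit 1162), Mv.f (nat_lit 1460)])))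
(Tr.lf (Fc.ed (nat_lit 1462) (nat_lit 407) Col.e (nat_lit 540) Dv.df)))
(Tr.nd (nat_lit 1464) (Tr.lf (Fc.ed (nat_lit 1463) (nat_lit 407) Col.h (nat_lit 541) Dv.df))
(Tr.nd (nat_lit 1465) (Tr.lf (Fc.ed (nat_lit 1464) (nat_lit 408) Col.f (nat_lit 542) Dv.df))
(Tr.lf (Fc.ed (nat_lit 1465) (nat_lit 542) Col.l (nat_lit 542) (Dv.wd (nat_lit 76) [Mv.b (nat_lit 1464), Mv.f (nat_lit 1165), Mv.f (nat_lit 1464)]))))))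
(Tr.nd (nat_lit 1469) (Tr.nd (nat_lit 1467) (Tr.lf (Fc.ed (nat_lit 1466) (nat_lit 542) Col.a (nat_lit 412) (Dv.wd (nat_lit 78) [Mv.b (nat_lit 1173), Mv.b (nat_lit 1166), Mv.f (nat_lit 1464)])))
(Tr.nd (nat_lit 1468) (Tr.lf (Fc.ed (nat_lit 1467) (nat_lit 408) Col.h (nat_lit 543) Dv.df))
(Tr.lf (Fc.ed (nat_lit 1468) (nat_lit 543) Col.e (nat_lit 409) (Dv.wd (nat_lit 117) [Mv.b (nat_lit 1167), Mv.f (nat_lit 1164), Mv.f (nat_lit 1467)])))))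
(Tr.nd (nat_lit 1470) (Tr.lf (Fc.ed (nat_lit 1469) (nat_lit 411) Col.f (nat_lit 544) Dv.df))
(Tr.nd (nat_lit 1471) (Tr.lf (Fc.ed (nat_lit 1470) (nat_lit 544) Col.b (nat_lit 412) (Dv.wd (nat_lit 128) [Mv.b (nat_lit 1173), Mv.b (nat_lit 1171), Mv.f (nat_lit 1469)])))
(Tr.lf (Fc.ed (nat_lit 1471) (nat_lit 544) Col.i (nat_lit 527) (Dv.wd (nat_lit 79) [Mv.b (nat_lit 1435), Mv.b (nat_lit 1172), Mv.f (nat_lit 1469)])))))))))))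
(Tr.nd (nat_lit 1554) (Tr.nd (nat_lit 1513) (Tr.nd (nat_lit 1492) (Tr.nd (nat_lit 1482) (Tr.nd (nat_lit 1477) (Tr.nd (nat_lit 1474) (Tr.nd (nat_lit 1473) (Tr.lf (Fc.ed (nat_lit 1472) (nat_lit 413) Col.d (nat_lit 545) Dv.df))
(Tr.lf (Fc.ed (nat_lit 1473) (nat_lit 413) Col.i (nat_lit 546) Dv.df)))
(Tr.nd (nat_lit 1475) (Tr.lf (Fc.ed (nat_lit 1474) (nat_lit 546) Col.h (nat_lit 536) (Dv.wd (nat_lit 120) [Mv.b (nat_lit 1454), Mv.b (nat_lit 1155), Mv.b (nat_lit 881), Mv.f (nat_lit 1174), Mv.f (nat_lit 1473)])))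
(Tr.nd (nat_lit 1476) (Tr.lf (Fc.ed (nat_lit 1475) (nat_lit 414) Col.b (nat_lit 547) Dv.df))
(Tr.lf (Fc.ed (nat_lit 1476) (nat_lit 547) Col.k (nat_lit 547) (Dv.wd (nat_lit 89) [Mv.b (nat_lit 1475), Mv.f (nat_lit 1177), Mv.f (nat_lit 1475)]))))))
(Tr.nd (nat_lit 1479) (Tr.nd (nat_lit 1478) (Tr.lf (Fc.ed (nat_lit 1477) (nat_lit 547) Col.h (nat_lit 537) (Dv.wd (nat_lit 113) [Mv.b (nat_lit 1455), Mv.b (nat_lit 1179), Mv.f (nat_lit 1475)])))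
(Tr.lf (Fc.ed (nat_lit 1478) (nat_lit 414) Col.d (nat_lit 548) Dv.df)))
(Tr.nd (nat_lit 1480) (Tr.lf (Fc.ed (nat_lit 1479) (nat_lit 548) Col.c (nat_lit 423) (Dv.wd (nat_lit 139) [Mv.b (nat_lit 1200), Mv.f (nat_lit 909), Mv.f (nat_lit 903), Mv.f (nat_lit 1176), Mv.f (nat_lit 1478)])))
(Tr.nd (nat_lit 1481) (Tr.lf (Fc.ed (nat_lit 1480) (nat_lit 415) Col.a (nat_lit 549) Dv.df))
(Tr.lf (Fc.ed (nat_lit 1481) (nat_lit 549) Col.f (nat_lit 549) (Dv.wd (nat_lit 124) [Mv.b (nat_lit 1480), Mv.f (nat_lit 1182), Mv.f (nat_lit 1480)])))))))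
(Tr.nd (nat_lit 1487) (Tr.nd (nat_lit 1484) (Tr.nd (nat_lit 1483) (Tr.lf (Fc.ed (nat_lit 1482) (nat_lit 549) Col.h (nat_lit 539) (Dv.wd (nat_lit 122) [Mv.b (nat_lit 1460), Mv.b (nat_lit 1183), Mv.f (nat_lit 1480)])))
(Tr.lf (Fc.ed (nat_lit 1483) (nat_lit 416) Col.h (nat_lit 550) Dv.df)))
(Tr.nd (nat_lit 1485) (Tr.lf (Fc.ed (nat_lit 1484) (nat_lit 550) Col.k (nat_lit 419) (Dv.wd (nat_lit 82) [Mv.b (nat_lit 1190), Mv.b (nat_lit 1185), Mv.f (nat_lit 1483)])))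
(Tr.nd (nat_lit 1486) (Tr.lf (Fc.ed (nat_lit 1485) (nat_lit 550) Col.d (nat_lit 541) (Dv.wd (nat_lit 118) [Mv.b (nat_lit 1463), Mv.b (nat_lit 1163), Mv.b (nat_lit 890), Mv.f (nat_lit 1184), Mv.f (nat_lit 1483)])))
(Tr.lf (Fc.ed (nat_lit 1486) (nat_lit 417) Col.k (nat_lit 551) Dv.df)))))
(Tr.nd (nat_lit 1489) (Tr.nd (nat_lit 1488) (Tr.lf (Fc.ed (nat_lit 1487) (nat_lit 551) Col.b (nat_lit 420) (Dv.wd (nat_lit 49) [Mv.b (nat_lit 1194), Mv.b (nat_lit 1187), Mv.f (nat_lit 1486)])))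
(Tr.lf (Fc.ed (nat_lit 1488) (nat_lit 417) Col.d (nat_lit 552) Dv.df)))
(Tr.nd (nat_lit 1490) (Tr.lf (Fc.ed (nat_lit 1489) (nat_lit 552) Col.a (nat_lit 418) (Dv.wd (nat_lit 74) [Mv.b (nat_lit 1188), Mv.f (nat_lit 1186), Mv.f (nat_lit 1488)])))
(Tr.nd (nat_lit 1491) (Tr.lf (Fc.ed (nat_lit 1490) (nat_lit 418) Col.c (nat_lit 553) Dv.df))
(Tr.lf (Fc.ed (nat_lit 1491) (nat_lit 553) Col.b (nat_lit 424) (Dv.wd (nat_lit 130) [Mv.b (nat_lit 1201), Mv.f (nat_lit 912), Mv.b (nat_lit 894), Mv.b (nat_lit 1189), Mv.f (nat_lit 1490)]))))))))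
(Tr.nd (nat_lit 1502) (Tr.nd (nat_lit 1497) (Tr.nd (nat_lit 1494) (Tr.nd (nat_lit 1493) (Tr.lf (Fc.ed (nat_lit 1492) (nat_lit 420) Col.d (nat_lit 554) Dv.df))
(Tr.lf (Fc.ed (nat_lit 1493) (nat_lit 554) Col.c (nat_lit 554) (Dv.wd (nat_lit 139) [Mv.b (nat_lit 1492), Mv.b (nat_lit 1423), Mv.f (nat_lit 1424), Mv.f (nat_lit 1423), Mv.f (nat_lit 1492)]))))
(Tr.nd (nat_lit 1495) (Tr.lf (Fc.ed (nat_lit 1494) (nat_lit 421) Col.d (nat_lit 555) Dv.df))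
(Tr.nd (nat_lit 1496) (Tr.lf (Fc.ed (nat_lit 1495) (nat_lit 555) Col.e (nat_lit 545) (Dv.wd (nat_lit 75) [Mv.b (nat_lit 1472), Mv.f (nat_lit 1175), Mv.b (nat_lit 901), Mv.b (nat_lit 1198), Mv.f (nat_lit 1494)])))
(Tr.lf (Fc.ed (nat_lit 1496) (nat_lit 422) Col.a (nat_lit 556) Dv.df)))))
(Tr.nd (nat_lit 1499) (Tr.nd (nat_lit 1498) (Tr.lf (Fc.ed (nat_lit 1497) (nat_lit 422) Col.d (nat_lit 557) Dv.df))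
(Tr.lf (Fc.ed (nat_lit 1498) (nat_lit 557) Col.b (nat_lit 423) (Dv.wd (nat_lit 127) [Mv.b (nat_lit 1200), Mv.f (nat_lit 1199), Mv.f (nat_lit 1497)]))))
(Tr.nd (nat_lit 1500) (Tr.lf (Fc.ed (nat_lit 1499) (nat_lit 424) Col.e (nat_lit 558) Dv.df))
(Tr.nd (nat_lit 1501) (Tr.lf (Fc.ed (nat_lit 1500) (nat_lit 558) Col.c (nat_lit 425) (Dv.wd (nat_lit 91) [Mv.b (nat_lit 1202), Mv.f (nat_lit 1201), Mv.f (nat_lit 1499)])))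
(Tr.lf (Fc.ed (nat_lit 1501) (nat_lit 427) Col.a (nat_lit 559) Dv.df))))))
(Tr.nd (nat_lit 1507) (Tr.nd (nat_lit 1504) (Tr.nd (nat_lit 1503) (Tr.lf (Fc.ed (nat_lit 1502) (nat_lit 559) Col.e (nat_lit 556) (Dv.wd (nat_lit 42) [Mv.b (nat_lit 1496), Mv.b (nat_lit 1208), Mv.f (nat_lit 1501)])))
(Tr.lf (Fc.ed (nat_lit 1503) (nat_lit 428) Col.a (nat_lit 560) Dv.df)))
(Tr.nd (nat_lit 1505) (Tr.lf (Fc.ed (nat_lit 1504) (nat_lit 560) Col.d (nat_lit 559) (Dv.wd (nat_lit 36) [Mv.b (nat_lit 1501), Mv.b (nat_lit 1210), Mv.f (nat_lit 1503)])))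
(Tr.nd (nat_lit 1506) (Tr.lf (Fc.ed (nat_lit 1505) (nat_lit 429) Col.d (nat_lit 561) Dv.df))
(Tr.lf (Fc.ed (nat_lit 1506) (nat_lit 429) Col.f (nat_lit 562) Dv.df)))))
(Tr.nd (nat_lit 1510) (Tr.nd (nat_lit 1508) (Tr.lf (Fc.ed (nat_lit 1507) (nat_lit 430) Col.a (nat_lit 563) Dv.df))
(Tr.nd (nat_lit 1509) (Tr.lf (Fc.ed (nat_lit 1508) (nat_lit 563) Col.h (nat_lit 560) (Dv.wd (nat_lit 122) [Mv.b (nat_lit 1503), Mv.b (nat_lit 1216), Mv.f (nat_lit 1507)])))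
(Tr.lf (Fc.ed (nat_lit 1509) (nat_lit 431) Col.d (nat_lit 564) Dv.df))))
(Tr.nd (nat_lit 1511) (Tr.lf (Fc.ed (nat_lit 1510) (nat_lit 564) Col.k (nat_lit 432) (Dv.wd (nat_lit 73) [Mv.b (nat_lit 1219), Mv.b (nat_lit 1218), Mv.f (nat_lit 1509)])))
(Tr.nd (nat_lit 1512) (Tr.lf (Fc.ed (nat_lit 1511) (nat_lit 432) Col.e (nat_lit 565) Dv.df))
(Tr.lf (Fc.ed (nat_lit 1512) (nat_lit 432) Col.f (nat_lit 566) Dv.df))))))))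
(Tr.nd (nat_lit 1533) (Tr.nd (nat_lit 1523) (Tr.nd (nat_lit 1518) (Tr.nd (nat_lit 1515) (Tr.nd (nat_lit 1514) (Tr.lf (Fc.ed (nat_lit 1513) (nat_lit 566) Col.d (nat_lit 434) (Dv.wd (nat_lit 109) [Mv.b (nat_lit 1222), Mv.f (nat_lit 1219), Mv.f (nat_lit 1512)])))
(Tr.lf (Fc.ed (nat_lit 1514) (nat_lit 566) Col.i (nat_lit 455) (Dv.wd (nat_lit 79) [Mv.f (nat_lit 1270), Mv.f (nat_lit 1242), Mv.f (nat_lit 1512)]))))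
(Tr.nd (nat_lit 1516) (Tr.lf (Fc.ed (nat_lit 1515) (nat_lit 433) Col.f (nat_lit 567) Dv.df))
(Tr.nd (nat_lit 1517) (Tr.lf (Fc.ed (nat_lit 1516) (nat_lit 567) Col.h (nat_lit 562) (Dv.wd (nat_lit 105) [Mv.b (nat_lit 1506), Mv.b (nat_lit 1221), Mv.f (nat_lit 1515)])))
(Tr.lf (Fc.ed (nat_lit 1517) (nat_lit 435) Col.d (nat_lit 568) Dv.df)))))
(Tr.nd (nat_lit 1520) (Tr.nd (nat_lit 1519) (Tr.lf (Fc.ed (nat_lit 1518) (nat_lit 568) Col.c (nat_lit 555) (Dv.wd (nat_lit 139) [Mv.b (nat_lit 1494), Mv.f (nat_lit 1197), Mv.b (nat_lit 938), Mv.b (nat_lit 1225), Mv.f (nat_lit 1517)])))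
(Tr.lf (Fc.ed (nat_lit 1519) (nat_lit 435) Col.i (nat_lit 569) Dv.df)))
(Tr.nd (nat_lit 1521) (Tr.lf (Fc.ed (nat_lit 1520) (nat_lit 436) Col.h (nat_lit 570) Dv.df))
(Tr.nd (nat_lit 1522) (Tr.lf (Fc.ed (nat_lit 1521) (nat_lit 570) Col.e (nat_lit 437) (Dv.wd (nat_lit 117) [Mv.b (nat_lit 1228), Mv.f (nat_lit 1226), Mv.f (nat_lit 1520)])))
(Tr.lf (Fc.ed (nat_lit 1522) (nat_lit 438) Col.a (nat_lit 571) Dv.df))))))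
(Tr.nd (nat_lit 1528) (Tr.nd (nat_lit 1525) (Tr.nd (nat_lit 1524) (Tr.lf (Fc.ed (nat_lit 1523) (nat_lit 571) Col.l (nat_lit 439) (Dv.wd (nat_lit 108) [Mv.b (nat_lit 1233), Mv.b (nat_lit 1231), Mv.f (nat_lit 1522)])))
(Tr.lf (Fc.ed (nat_lit 1524) (nat_lit 571) Col.i (nat_lit 563) (Dv.wd (nat_lit 17) [Mv.b (nat_lit 1507), Mv.b (nat_lit 1232), Mv.f (nat_lit 1522)]))))
(Tr.nd (nat_lit 1526) (Tr.lf (Fc.ed (nat_lit 1525) (nat_lit 439) Col.c (nat_lit 572) Dv.df))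
(Tr.nd (nat_lit 1527) (Tr.lf (Fc.ed (nat_lit 1526) (nat_lit 572) Col.a (nat_lit 440) (Dv.wd (nat_lit 87) [Mv.b (nat_lit 1234), Mv.f (nat_lit 1233), Mv.f (nat_lit 1525)])))
(Tr.lf (Fc.ed (nat_lit 1527) (nat_lit 440) Col.d (nat_lit 573) Dv.df)))))
(Tr.nd (nat_lit 1530) (Tr.nd (nat_lit 1529) (Tr.lf (Fc.ed (nat_lit 1528) (nat_lit 573) Col.k (nat_lit 443) (Dv.wd (nat_lit 73) [Mv.b (nat_lit 1241), Mv.b (nat_lit 1235), Mv.f (nat_lit 1527)])))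
(Tr.lf (Fc.ed (nat_lit 1529) (nat_lit 573) Col.i (nat_lit 564) (Dv.wd (nat_lit 14) [Mv.b (nat_lit 1509), Mv.b (nat_lit 1236), Mv.f (nat_lit 1527)]))))
(Tr.nd (nat_lit 1531) (Tr.lf (Fc.ed (nat_lit 1530) (nat_lit 441) Col.f (nat_lit 574) Dv.df))
(Tr.nd (nat_lit 1532) (Tr.lf (Fc.ed (nat_lit 1531) (nat_lit 574) Col.k (nat_lit 448) (Dv.wd (nat_lit 77) [Mv.b (nat_lit 1254), Mv.b (nat_lit 1238), Mv.f (nat_lit 1530)])))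
(Tr.lf (Fc.ed (nat_lit 1532) (nat_lit 574) Col.d (nat_lit 442) (Dv.wd (nat_lit 109) [Mv.b (nat_lit 1239), Mv.f (nat_lit 1237), Mv.f (nat_lit 1530)]))))))))
(Tr.nd (nat_lit 1543) (Tr.nd (nat_lit 1538) (Tr.nd (nat_lit 1535) (Tr.nd (nat_lit 1534) (Tr.lf (Fc.ed (nat_lit 1533) (nat_lit 443) Col.e (nat_lit 575) Dv.df))
(Tr.lf (Fc.ed (nat_lit 1534) (nat_lit 575) Col.i (nat_lit 565) (Dv.wd (nat_lit 19) [Mv.b (nat_lit 1511), Mv.b (nat_lit 1242), Mv.f (nat_lit 1533)]))))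
(Tr.nd (nat_lit 1536) (Tr.lf (Fc.ed (nat_lit 1535) (nat_lit 444) Col.d (nat_lit 576) Dv.df))
(Tr.nd (nat_lit 1537) (Tr.lf (Fc.ed (nat_lit 1536) (nat_lit 576) Col.l (nat_lit 576) (Dv.wd (nat_lit 72) [Mv.b (nat_lit 1535), Mv.f (nat_lit 1244), Mv.f (nat_lit 1535)])))
(Tr.lf (Fc.ed (nat_lit 1537) (nat_lit 576) Col.a (nat_lit 576) (Dv.wd (nat_lit 74) [Mv.b (nat_lit 1535), Mv.f (nat_lit 1245), Mv.f (nat_lit 1535)]))))))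
(Tr.nd (nat_lit 1540) (Tr.nd (nat_lit 1539) (Tr.lf (Fc.ed (nat_lit 1538) (nat_lit 576) Col.b (nat_lit 576) (Dv.wd (nat_lit 127) [Mv.b (nat_lit 1535), Mv.f (nat_lit 1246), Mv.f (nat_lit 1535)])))
(Tr.lf (Fc.ed (nat_lit 1539) (nat_lit 444) Col.f (nat_lit 577) Dv.df)))
(Tr.nd (nat_lit 1541) (Tr.lf (Fc.ed (nat_lit 1540) (nat_lit 577) Col.i (nat_lit 567) (Dv.wd (nat_lit 79) [Mv.b (nat_lit 1515), Mv.b (nat_lit 1248), Mv.f (nat_lit 1539)])))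
(Tr.nd (nat_lit 1542) (Tr.lf (Fc.ed (nat_lit 1541) (nat_lit 577) Col.e (nat_lit 459) (Dv.wd (nat_lit 114) [Mv.b (nat_lit 1277), Mv.f (nat_lit 972), Mv.f (nat_lit 966), Mv.f (nat_lit 1243), Mv.f (nat_lit 1539)])))
(Tr.lf (Fc.ed (nat_lit 1542) (nat_lit 445) Col.c (nat_lit 578) Dv.df))))))
(Tr.nd (nat_lit 1548) (Tr.nd (nat_lit 1545) (Tr.nd (nat_lit 1544) (Tr.lf (Fc.ed (nat_lit 1543) (nat_lit 445) Col.f (nat_lit 579) Dv.df))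
(Tr.lf (Fc.ed (nat_lit 1544) (nat_lit 579) Col.d (nat_lit 446) (Dv.wd (nat_lit 109) [Mv.b (nat_lit 1250), Mv.f (nat_lit 1249), Mv.f (nat_lit 1543)]))))
(Tr.nd (nat_lit 1546) (Tr.lf (Fc.ed (nat_lit 1545) (nat_lit 447) Col.b (nat_lit 580) Dv.df))
(Tr.nd (nat_lit 1547) (Tr.lf (Fc.ed (nat_lit 1546) (nat_lit 447) Col.f (nat_lit 581) Dv.df))
(Tr.lf (Fc.ed (nat_lit 1547) (nat_lit 581) Col.c (nat_lit 448) (Dv.wd (nat_lit 98) [Mv.b (nat_lit 1254), Mv.f (nat_lit 1252), Mv.f (nat_lit 1546)]))))))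
(Tr.nd (nat_lit 1551) (Tr.nd (nat_lit 1549) (Tr.lf (Fc.ed (nat_lit 1548) (nat_lit 447) Col.h (nat_lit 582) Dv.df))
(Tr.nd (nat_lit 1550) (Tr.lf (Fc.ed (nat_lit 1549) (nat_lit 582) Col.a (nat_lit 452) (Dv.wd (nat_lit 83) [Mv.b (nat_lit 1263), Mv.b (nat_lit 1253), Mv.f (nat_lit 1548)])))
(Tr.lf (Fc.ed (nat_lit 1550) (nat_lit 582) Col.c (nat_lit 449) (Dv.wd (nat_lit 131) [Mv.b (nat_lit 1256), Mv.f (nat_lit 1252), Mv.f (nat_lit 1548)])))))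
(Tr.nd (nat_lit 1552) (Tr.lf (Fc.ed (nat_lit 1551) (nat_lit 448) Col.h (nat_lit 583) Dv.df))
(Tr.nd (nat_lit 1553) (Tr.lf (Fc.ed (nat_lit 1552) (nat_lit 583) Col.f (nat_lit 449) (Dv.wd (nat_lit 84) [Mv.b (nat_lit 1256), Mv.f (nat_lit 1254), Mv.f (nat_lit 1551)])))
(Tr.lf (Fc.ed (nat_lit 1553) (nat_lit 450) Col.a (nat_lit 584) Dv.df)))))))))
(Tr.nd (nat_lit 1595) (Tr.nd (nat_lit 1574) (Tr.nd (nat_lit 1564) (Tr.nd (nat_lit 1559) (Tr.nd (nat_lit 1556) (Tr.nd (nat_lit 1555) (Tr.lf (Fc.ed (nat_lit 1554) (nat_lit 450) Col.h (nat_lit 585) Dv.df))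
(Tr.lf (Fc.ed (nat_lit 1555) (nat_lit 585) Col.k (nat_lit 585) (Dv.wd (nat_lit 82) [Mv.b (nat_lit 1554), Mv.f (nat_lit 1258), Mv.f (nat_lit 1554)]))))
(Tr.nd (nat_lit 1557) (Tr.lf (Fc.ed (nat_lit 1556) (nat_lit 585) Col.b (nat_lit 452) (Dv.wd (nat_lit 101) [Mv.b (nat_lit 1263), Mv.f (nat_lit 1257), Mv.f (nat_lit 1554)])))
(Tr.nd (nat_lit 1558) (Tr.lf (Fc.ed (nat_lit 1557) (nat_lit 585) Col.c (nat_lit 585) (Dv.wd (nat_lit 131) [Mv.b (nat_lit 1554), Mv.f (nat_lit 1260), Mv.f (nat_lit 1554)])))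
(Tr.lf (Fc.ed (nat_lit 1558) (nat_lit 451) Col.h (nat_lit 586) Dv.df)))))
(Tr.nd (nat_lit 1561) (Tr.nd (nat_lit 1560) (Tr.lf (Fc.ed (nat_lit 1559) (nat_lit 586) Col.f (nat_lit 452) (Dv.wd (nat_lit 84) [Mv.b (nat_lit 1263), Mv.f (nat_lit 1261), Mv.f (nat_lit 1558)])))
(Tr.lf (Fc.ed (nat_lit 1560) (nat_lit 452) Col.d (nat_lit 587) Dv.df)))
(Tr.nd (nat_lit 1562) (Tr.lf (Fc.ed (nat_lit 1561) (nat_lit 452) Col.i (nat_lit 588) Dv.df))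
(Tr.nd (nat_lit 1563) (Tr.lf (Fc.ed (nat_lit 1562) (nat_lit 588) Col.h (nat_lit 569) (Dv.wd (nat_lit 120) [Mv.b (nat_lit 1519), Mv.b (nat_lit 1224), Mv.b (nat_lit 958), Mv.f (nat_lit 1263), Mv.f (nat_lit 1561)])))
(Tr.lf (Fc.ed (nat_lit 1563) (nat_lit 453) Col.c (nat_lit 589) Dv.df))))))
(Tr.nd (nat_lit 1569) (Tr.nd (nat_lit 1566) (Tr.nd (nat_lit 1565) (Tr.lf (Fc.ed (nat_lit 1564) (nat_lit 589) Col.a (nat_lit 454) (Dv.wd (nat_lit 87) [Mv.b (nat_lit 1267), Mv.f (nat_lit 1264), Mv.f (nat_lit 1563)])))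
(Tr.lf (Fc.ed (nat_lit 1565) (nat_lit 589) Col.f (nat_lit 572) (Dv.wd (nat_lit 29) [Mv.b (nat_lit 1525), Mv.b (nat_lit 1266), Mv.f (nat_lit 1563)]))))
(Tr.nd (nat_lit 1567) (Tr.lf (Fc.ed (nat_lit 1566) (nat_lit 455) Col.e (nat_lit 590) Dv.df))
(Tr.nd (nat_lit 1568) (Tr.lf (Fc.ed (nat_lit 1567) (nat_lit 456) Col.c (nat_lit 591) Dv.df))
(Tr.lf (Fc.ed (nat_lit 1568) (nat_lit 591) Col.a (nat_lit 457) (Dv.wd (nat_lit 87) [Mv.b (nat_lit 1274), Mv.f (nat_lit 1271), Mv.f (nat_lit 1567)]))))))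
(Tr.nd (nat_lit 1571) (Tr.nd (nat_lit 1570) (Tr.lf (Fc.ed (nat_lit 1569) (nat_lit 591) Col.e (nat_lit 589) (Dv.wd (nat_lit 39) [Mv.b (nat_lit 1563), Mv.b (nat_lit 1272), Mv.f (nat_lit 1567)])))
(Tr.lf (Fc.ed (nat_lit 1570) (nat_lit 591) Col.h (nat_lit 591) (Dv.wd (nat_lit 32) [Mv.b (nat_lit 1567), Mv.f (nat_lit 1273), Mv.f (nat_lit 1567)]))))
(Tr.nd (nat_lit 1572) (Tr.lf (Fc.ed (nat_lit 1571) (nat_lit 456) Col.f (nat_lit 592) Dv.df))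
(Tr.nd (nat_lit 1573) (Tr.lf (Fc.ed (nat_lit 1572) (nat_lit 458) Col.e (nat_lit 593) Dv.df))
(Tr.lf (Fc.ed (nat_lit 1573) (nat_lit 593) Col.d (nat_lit 590) (Dv.wd (nat_lit 92) [Mv.b (nat_lit 1566), Mv.b (nat_lit 1269), Mv.b (nat_lit 972), Mv.f (nat_lit 1276), Mv.f (nat_lit 1572)]))))))))
(Tr.nd (nat_lit 1584) (Tr.nd (nat_lit 1579) (Tr.nd (nat_lit 1576) (Tr.nd (nat_lit 1575) (Tr.lf (Fc.ed (nat_lit 1574) (nat_lit 458) Col.f (nat_lit 594) Dv.df))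
(Tr.lf (Fc.ed (nat_lit 1575) (nat_lit 594) Col.d (nat_lit 459) (Dv.wd (nat_lit 109) [Mv.b (nat_lit 1277), Mv.f (nat_lit 1276), Mv.f (nat_lit 1574)]))))
(Tr.nd (nat_lit 1577) (Tr.lf (Fc.ed (nat_lit 1576) (nat_lit 458) Col.i (nat_lit 595) Dv.df))
(Tr.nd (nat_lit 1578) (Tr.lf (Fc.ed (nat_lit 1577) (nat_lit 459) Col.i (nat_lit 596) Dv.df))
(Tr.lf (Fc.ed (nat_lit 1578) (nat_lit 596) Col.c (nat_lit 461) (Dv.wd (nat_lit 23) [Mv.b (nat_lit 1281), Mv.b (nat_lit 1278), Mv.f (nat_lit 1577)]))))))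
(Tr.nd (nat_lit 1581) (Tr.nd (nat_lit 1580) (Tr.lf (Fc.ed (nat_lit 1579) (nat_lit 596) Col.e (nat_lit 567) (Dv.wd (nat_lit 25) [Mv.b (nat_lit 1540), Mv.f (nat_lit 1541), Mv.f (nat_lit 1577)])))
(Tr.lf (Fc.ed (nat_lit 1580) (nat_lit 596) Col.f (nat_lit 460) (Dv.wd (nat_lit 26) [Mv.b (nat_lit 1279), Mv.f (nat_lit 1277), Mv.f (nat_lit 1577)]))))
(Tr.nd (nat_lit 1582) (Tr.lf (Fc.ed (nat_lit 1581) (nat_lit 462) Col.f (nat_lit 597) Dv.df))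
(Tr.nd (nat_lit 1583) (Tr.lf (Fc.ed (nat_lit 1582) (nat_lit 597) Col.d (nat_lit 592) (Dv.wd (nat_lit 109) [Mv.b (nat_lit 1571), Mv.b (nat_lit 1284), Mv.f (nat_lit 1581)])))
(Tr.lf (Fc.ed (nat_lit 1583) (nat_lit 463) Col.b (nat_lit 598) Dv.df))))))
(Tr.nd (nat_lit 1589) (Tr.nd (nat_lit 1586) (Tr.nd (nat_lit 1585) (Tr.lf (Fc.ed (nat_lit 1584) (nat_lit 598) Col.c (nat_lit 466) (Dv.wd (nat_lit 111) [Mv.b (nat_lit 1292), Mv.b (nat_lit 981), Mv.f (nat_lit 977), Mv.f (nat_lit 1286), Mv.f (nat_lit 1583)])))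
(Tr.lf (Fc.ed (nat_lit 1585) (nat_lit 463) Col.f (nat_lit 599) Dv.df)))
(Tr.nd (nat_lit 1587) (Tr.lf (Fc.ed (nat_lit 1586) (nat_lit 599) Col.k (nat_lit 471) (Dv.wd (nat_lit 77) [Mv.b (nat_lit 1300), Mv.b (nat_lit 1287), Mv.f (nat_lit 1585)])))
(Tr.nd (nat_lit 1588) (Tr.lf (Fc.ed (nat_lit 1587) (nat_lit 463) Col.i (nat_lit 600) Dv.df))
(Tr.lf (Fc.ed (nat_lit 1588) (nat_lit 464) Col.i (nat_lit 601) Dv.df)))))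
(Tr.nd (nat_lit 1592) (Tr.nd (nat_lit 1590) (Tr.lf (Fc.ed (nat_lit 1589) (nat_lit 601) Col.k (nat_lit 473) (Dv.wd (nat_lit 21) [Mv.b (nat_lit 1303), Mv.b (nat_lit 1289), Mv.f (nat_lit 1588)])))
(Tr.nd (nat_lit 1591) (Tr.lf (Fc.ed (nat_lit 1590) (nat_lit 601) Col.f (nat_lit 465) (Dv.wd (nat_lit 26) [Mv.b (nat_lit 1290), Mv.f (nat_lit 1288), Mv.f (nat_lit 1588)])))
(Tr.lf (Fc.ed (nat_lit 1591) (nat_lit 466) Col.i (nat_lit 602) Dv.df))))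
(Tr.nd (nat_lit 1593) (Tr.lf (Fc.ed (nat_lit 1592) (nat_lit 468) Col.d (nat_lit 603) Dv.df))
(Tr.nd (nat_lit 1594) (Tr.lf (Fc.ed (nat_lit 1593) (nat_lit 603) Col.e (nat_lit 574) (Dv.wd (nat_lit 75) [Mv.f (nat_lit 1532), Mv.f (nat_lit 1240), Mv.b (nat_lit 985), Mv.f (nat_lit 1295), Mv.f (nat_lit 1592)])))
(Tr.lf (Fc.ed (nat_lit 1594) (nat_lit 469) Col.f (nat_lit 604) Dv.df))))))))
(Tr.nd (nat_lit 1615) (Tr.nd (nat_lit 1605) (Tr.nd (nat_lit 1600) (Tr.nd (nat_lit 1597) (Tr.nd (nat_lit 1596) (Tr.lf (Fc.ed (nat_lit 1595) (nat_lit 604) Col.b (nat_lit 471) (Dv.wd (nat_lit 128) [Mv.b (nat_lit 1300), Mv.f (nat_lit 1296), Mv.f (nat_lit 1594)])))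
(Tr.lf (Fc.ed (nat_lit 1596) (nat_lit 604) Col.c (nat_lit 474) (Dv.wd (nat_lit 98) [Mv.b (nat_lit 1306), Mv.b (nat_lit 1297), Mv.f (nat_lit 1594)]))))
(Tr.nd (nat_lit 1598) (Tr.lf (Fc.ed (nat_lit 1597) (nat_lit 470) Col.f (nat_lit 605) Dv.df))
(Tr.nd (nat_lit 1599) (Tr.lf (Fc.ed (nat_lit 1598) (nat_lit 605) Col.c (nat_lit 594) (Dv.wd (nat_lit 98) [Mv.b (nat_lit 1574), Mv.b (nat_lit 1299), Mv.f (nat_lit 1597)])))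
(Tr.lf (Fc.ed (nat_lit 1599) (nat_lit 605) Col.d (nat_lit 471) (Dv.wd (nat_lit 109) [Mv.b (nat_lit 1300), Mv.f (nat_lit 1298), Mv.f (nat_lit 1597)]))))))
(Tr.nd (nat_lit 1602) (Tr.nd (nat_lit 1601) (Tr.lf (Fc.ed (nat_lit 1600) (nat_lit 471) Col.i (nat_lit 606) Dv.df))
(Tr.lf (Fc.ed (nat_lit 1601) (nat_lit 472) Col.d (nat_lit 607) Dv.df)))
(Tr.nd (nat_lit 1603) (Tr.lf (Fc.ed (nat_lit 1602) (nat_lit 607) Col.f (nat_lit 607) (Dv.wd (nat_lit 28) [Mv.b (nat_lit 1601), Mv.f (nat_lit 1302), Mv.f (nat_lit 1601)])))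
(Tr.nd (nat_lit 1604) (Tr.lf (Fc.ed (nat_lit 1603) (nat_lit 607) Col.e (nat_lit 579) (Dv.wd (nat_lit 75) [Mv.f (nat_lit 1544), Mv.f (nat_lit 1251), Mv.b (nat_lit 990), Mv.f (nat_lit 1301), Mv.f (nat_lit 1601)])))
(Tr.lf (Fc.ed (nat_lit 1604) (nat_lit 474) Col.e (nat_lit 608) Dv.df))))))
(Tr.nd (nat_lit 1610) (Tr.nd (nat_lit 1607) (Tr.nd (nat_lit 1606) (Tr.lf (Fc.ed (nat_lit 1605) (nat_lit 608) Col.b (nat_lit 475) (Dv.wd (nat_lit 97) [Mv.b (nat_lit 1309), Mv.b (nat_lit 1307), Mv.f (nat_lit 1604)])))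
(Tr.lf (Fc.ed (nat_lit 1606) (nat_lit 474) Col.i (nat_lit 609) Dv.df)))
(Tr.nd (nat_lit 1608) (Tr.lf (Fc.ed (nat_lit 1607) (nat_lit 475) Col.d (nat_lit 610) Dv.df))
(Tr.nd (nat_lit 1609) (Tr.lf (Fc.ed (nat_lit 1608) (nat_lit 610) Col.a (nat_lit 478) (Dv.wd (nat_lit 74) [Mv.b (nat_lit 1316), Mv.b (nat_lit 1310), Mv.f (nat_lit 1607)])))
(Tr.lf (Fc.ed (nat_lit 1609) (nat_lit 475) Col.i (nat_lit 611) Dv.df)))))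
(Tr.nd (nat_lit 1612) (Tr.nd (nat_lit 1611) (Tr.lf (Fc.ed (nat_lit 1610) (nat_lit 611) Col.e (nat_lit 476) (Dv.wd (nat_lit 25) [Mv.b (nat_lit 1312), Mv.f (nat_lit 1309), Mv.f (nat_lit 1609)])))
(Tr.lf (Fc.ed (nat_lit 1611) (nat_lit 477) Col.c (nat_lit 612) Dv.df)))
(Tr.nd (nat_lit 1613) (Tr.lf (Fc.ed (nat_lit 1612) (nat_lit 612) Col.e (nat_lit 581) (Dv.wd (nat_lit 39) [Mv.f (nat_lit 1547), Mv.b (nat_lit 1315), Mv.f (nat_lit 1611)])))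
(Tr.nd (nat_lit 1614) (Tr.lf (Fc.ed (nat_lit 1613) (nat_lit 477) Col.h (nat_lit 613) Dv.df))
(Tr.lf (Fc.ed (nat_lit 1614) (nat_lit 613) Col.e (nat_lit 583) (Dv.wd (nat_lit 117) [Mv.b (nat_lit 1551), Mv.b (nat_lit 1315), Mv.f (nat_lit 1613)]))))))))
(Tr.nd (nat_lit 1625) (Tr.nd (nat_lit 1620) (Tr.nd (nat_lit 1617) (Tr.nd (nat_lit 1616) (Tr.lf (Fc.ed (nat_lit 1615) (nat_lit 478) Col.c (nat_lit 614) Dv.df))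
(Tr.lf (Fc.ed (nat_lit 1616) (nat_lit 614) Col.d (nat_lit 480) (Dv.wd (nat_lit 126) [Mv.b (nat_lit 1322), Mv.b (nat_lit 1005), Mv.b (nat_lit 1001), Mv.f (nat_lit 1316), Mv.f (nat_lit 1615)]))))
(Tr.nd (nat_lit 1618) (Tr.lf (Fc.ed (nat_lit 1617) (nat_lit 478) Col.h (nat_lit 615) Dv.df))
(Tr.nd (nat_lit 1619) (Tr.lf (Fc.ed (nat_lit 1618) (nat_lit 480) Col.h (nat_lit 616) Dv.df))
(Tr.lf (Fc.ed (nat_lit 1619) (nat_lit 616) Col.e (nat_lit 586) (Dv.wd (nat_lit 117) [Mv.b (nat_lit 1558), Mv.b (nat_lit 1323), Mv.f (nat_lit 1618)]))))))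
(Tr.nd (nat_lit 1622) (Tr.nd (nat_lit 1621) (Tr.lf (Fc.ed (nat_lit 1620) (nat_lit 481) Col.a (nat_lit 617) Dv.df))
(Tr.lf (Fc.ed (nat_lit 1621) (nat_lit 617) Col.l (nat_lit 483) (Dv.wd (nat_lit 108) [Mv.b (nat_lit 1328), Mv.b (nat_lit 1325), Mv.f (nat_lit 1620)]))))
(Tr.nd (nat_lit 1623) (Tr.lf (Fc.ed (nat_lit 1622) (nat_lit 481) Col.f (nat_lit 618) Dv.df))
(Tr.nd (nat_lit 1624) (Tr.lf (Fc.ed (nat_lit 1623) (nat_lit 618) Col.b (nat_lit 482) (Dv.wd (nat_lit 128) [Mv.b (nat_lit 1326), Mv.f (nat_lit 1324), Mv.f (nat_lit 1622)])))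
(Tr.lf (Fc.ed (nat_lit 1624) (nat_lit 482) Col.e (nat_lit 619) Dv.df))))))
(Tr.nd (nat_lit 1630) (Tr.nd (nat_lit 1627) (Tr.nd (nat_lit 1626) (Tr.lf (Fc.ed (nat_lit 1625) (nat_lit 619) Col.l (nat_lit 485) (Dv.wd (nat_lit 68) [Mv.b (nat_lit 1333), Mv.b (nat_lit 1327), Mv.f (nat_lit 1624)])))
(Tr.lf (Fc.ed (nat_lit 1626) (nat_lit 483) Col.f (nat_lit 620) Dv.df)))
(Tr.nd (nat_lit 1628) (Tr.lf (Fc.ed (nat_lit 1627) (nat_lit 620) Col.a (nat_lit 484) (Dv.wd (nat_lit 78) [Mv.b (nat_lit 1330), Mv.f (nat_lit 1328), Mv.f (nat_lit 1626)])))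
(Tr.nd (nat_lit 1629) (Tr.lf (Fc.ed (nat_lit 1628) (nat_lit 620) Col.h (nat_lit 597) (Dv.wd (nat_lit 105) [Mv.b (nat_lit 1581), Mv.b (nat_lit 1329), Mv.f (nat_lit 1626)])))
(Tr.lf (Fc.ed (nat_lit 1629) (nat_lit 484) Col.e (nat_lit 621) Dv.df)))))
(Tr.nd (nat_lit 1633) (Tr.nd (nat_lit 1631) (Tr.lf (Fc.ed (nat_lit 1630) (nat_lit 621) Col.k (nat_lit 486) (Dv.wd (nat_lit 69) [Mv.b (nat_lit 1336), Mv.b (nat_lit 1331), Mv.f (nat_lit 1629)])))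
(Tr.nd (nat_lit 1632) (Tr.lf (Fc.ed (nat_lit 1631) (nat_lit 621) Col.b (nat_lit 485) (Dv.wd (nat_lit 97) [Mv.b (nat_lit 1333), Mv.b (nat_lit 1332), Mv.f (nat_lit 1629)])))
(Tr.lf (Fc.ed (nat_lit 1632) (nat_lit 485) Col.d (nat_lit 622) Dv.df))))
(Tr.nd (nat_lit 1634) (Tr.lf (Fc.ed (nat_lit 1633) (nat_lit 622) Col.k (nat_lit 487) (Dv.wd (nat_lit 73) [Mv.b (nat_lit 1341), Mv.b (nat_lit 1334), Mv.f (nat_lit 1632)])))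
(Tr.nd (nat_lit 1635) (Tr.lf (Fc.ed (nat_lit 1634) (nat_lit 486) Col.d (nat_lit 623) Dv.df))
(Tr.lf (Fc.ed (nat_lit 1635) (nat_lit 623) Col.a (nat_lit 623) (Dv.wd (nat_lit 74) [Mv.b (nat_lit 1634), Mv.f (nat_lit 1337), Mv.f (nat_lit 1634)]))))))))))))
(Tr.nd (nat_lit 1800) (Tr.nd (nat_lit 1718) (Tr.nd (nat_lit 1677) (Tr.nd (nat_lit 1656) (Tr.nd (nat_lit 1646) (Tr.nd (nat_lit 1641) (Tr.nd (nat_lit 1638) (Tr.nd (nat_lit 1637) (Tr.lf (Fc.ed (nat_lit 1636) (nat_lit 623) Col.b (nat_lit 487) (Dv.wd (nat_lit 127) [Mv.b (nat_lit 1341), Mv.b (nat_lit 1338), Mv.f (nat_lit 1634)])))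
(Tr.lf (Fc.ed (nat_lit 1637) (nat_lit 623) Col.f (nat_lit 623) (Dv.wd (nat_lit 28) [Mv.b (nat_lit 1634), Mv.f (nat_lit 1340), Mv.f (nat_lit 1634)]))))
(Tr.nd (nat_lit 1639) (Tr.lf (Fc.ed (nat_lit 1638) (nat_lit 623) Col.e (nat_lit 623) (Dv.wd (nat_lit 75) [Mv.b (nat_lit 1634), Mv.b (nat_lit 1336), Mv.f (nat_lit 1019), Mv.f (nat_lit 1336), Mv.f (nat_lit 1634)])))
(Tr.nd (nat_lit 1640) (Tr.lf (Fc.ed (nat_lit 1639) (nat_lit 487) Col.c (nat_lit 624) Dv.df))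
(Tr.lf (Fc.ed (nat_lit 1640) (nat_lit 487) Col.h (nat_lit 625) Dv.df)))))
(Tr.nd (nat_lit 1643) (Tr.nd (nat_lit 1642) (Tr.lf (Fc.ed (nat_lit 1641) (nat_lit 625) Col.d (nat_lit 613) (Dv.wd (nat_lit 118) [Mv.b (nat_lit 1613), Mv.b (nat_lit 1314), Mv.b (nat_lit 1022), Mv.f (nat_lit 1341), Mv.f (nat_lit 1640)])))
(Tr.lf (Fc.ed (nat_lit 1642) (nat_lit 488) Col.e (nat_lit 626) Dv.df)))
(Tr.nd (nat_lit 1644) (Tr.lf (Fc.ed (nat_lit 1643) (nat_lit 626) Col.c (nat_lit 619) (Dv.wd (nat_lit 91) [Mv.b (nat_lit 1624), Mv.b (nat_lit 1343), Mv.f (nat_lit 1642)])))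
(Tr.nd (nat_lit 1645) (Tr.lf (Fc.ed (nat_lit 1644) (nat_lit 489) Col.d (nat_lit 627) Dv.df))
(Tr.lf (Fc.ed (nat_lit 1645) (nat_lit 491) Col.b (nat_lit 628) Dv.df))))))
(Tr.nd (nat_lit 1651) (Tr.nd (nat_lit 1648) (Tr.nd (nat_lit 1647) (Tr.lf (Fc.ed (nat_lit 1646) (nat_lit 628) Col.d (nat_lit 522) (Dv.wd (nat_lit 35) [Mv.b (nat_lit 1420), Mv.b (nat_lit 1348), Mv.f (nat_lit 1645)])))
(Tr.lf (Fc.ed (nat_lit 1647) (nat_lit 491) Col.e (nat_lit 629) Dv.df)))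
(Tr.nd (nat_lit 1649) (Tr.lf (Fc.ed (nat_lit 1648) (nat_lit 629) Col.c (nat_lit 492) (Dv.wd (nat_lit 91) [Mv.b (nat_lit 1349), Mv.f (nat_lit 1347), Mv.f (nat_lit 1647)])))
(Tr.nd (nat_lit 1650) (Tr.lf (Fc.ed (nat_lit 1649) (nat_lit 493) Col.c (nat_lit 630) Dv.df))
(Tr.lf (Fc.ed (nat_lit 1650) (nat_lit 495) Col.c (nat_lit 631) Dv.df)))))
(Tr.nd (nat_lit 1653) (Tr.nd (nat_lit 1652) (Tr.lf (Fc.ed (nat_lit 1651) (nat_lit 631) Col.i (nat_lit 631) (Dv.wd (nat_lit 15) [Mv.b (nat_lit 1650), Mv.f (nat_lit 1360), Mv.f (nat_lit 1650)])))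
(Tr.lf (Fc.ed (nat_lit 1652) (nat_lit 495) Col.h (nat_lit 632) Dv.df)))
(Tr.nd (nat_lit 1654) (Tr.lf (Fc.ed (nat_lit 1653) (nat_lit 496) Col.c (nat_lit 633) Dv.df))
(Tr.nd (nat_lit 1655) (Tr.lf (Fc.ed (nat_lit 1654) (nat_lit 633) Col.k (nat_lit 497) (Dv.wd (nat_lit 86) [Mv.b (nat_lit 1364), Mv.b (nat_lit 1362), Mv.f (nat_lit 1653)])))
(Tr.lf (Fc.ed (nat_lit 1655) (nat_lit 633) Col.f (nat_lit 633) (Dv.wd (nat_lit 29) [Mv.b (nat_lit 1653), Mv.f (nat_lit 1363), Mv.f (nat_lit 1653)]))))))))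
(Tr.nd (nat_lit 1666) (Tr.nd (nat_lit 1661) (Tr.nd (nat_lit 1658) (Tr.nd (nat_lit 1657) (Tr.lf (Fc.ed (nat_lit 1656) (nat_lit 496) Col.h (nat_lit 634) Dv.df))
(Tr.lf (Fc.ed (nat_lit 1657) (nat_lit 634) Col.d (nat_lit 632) (Dv.wd (nat_lit 118) [Mv.b (nat_lit 1652), Mv.b (nat_lit 1359), Mv.b (nat_lit 1049), Mv.f (nat_lit 1361), Mv.f (nat_lit 1656)]))))
(Tr.nd (nat_lit 1659) (Tr.lf (Fc.ed (nat_lit 1658) (nat_lit 497) Col.b (nat_lit 635) Dv.df))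
(Tr.nd (nat_lit 1660) (Tr.lf (Fc.ed (nat_lit 1659) (nat_lit 498) Col.c (nat_lit 636) Dv.df))
(Tr.lf (Fc.ed (nat_lit 1660) (nat_lit 636) Col.e (nat_lit 633) (Dv.wd (nat_lit 39) [Mv.b (nat_lit 1653), Mv.b (nat_lit 1367), Mv.f (nat_lit 1659)]))))))
(Tr.nd (nat_lit 1663) (Tr.nd (nat_lit 1662) (Tr.lf (Fc.ed (nat_lit 1661) (nat_lit 499) Col.c (nat_lit 637) Dv.df))
(Tr.lf (Fc.ed (nat_lit 1662) (nat_lit 637) Col.e (nat_lit 630) (Dv.wd (nat_lit 39) [Mv.b (nat_lit 1649), Mv.b (nat_lit 1370), Mv.f (nat_lit 1661)]))))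
(Tr.nd (nat_lit 1664) (Tr.lf (Fc.ed (nat_lit 1663) (nat_lit 499) Col.h (nat_lit 638) Dv.df))
(Tr.nd (nat_lit 1665) (Tr.lf (Fc.ed (nat_lit 1664) (nat_lit 638) Col.a (nat_lit 638) (Dv.wd (nat_lit 83) [Mv.b (nat_lit 1663), Mv.f (nat_lit 1369), Mv.f (nat_lit 1663)])))
(Tr.lf (Fc.ed (nat_lit 1665) (nat_lit 500) Col.h (nat_lit 639) Dv.df))))))
(Tr.nd (nat_lit 1671) (Tr.nd (nat_lit 1668) (Tr.nd (nat_lit 1667) (Tr.lf (Fc.ed (nat_lit 1666) (nat_lit 501) Col.d (nat_lit 640) Dv.df))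
(Tr.lf (Fc.ed (nat_lit 1667) (nat_lit 640) Col.f (nat_lit 502) (Dv.wd (nat_lit 28) [Mv.b (nat_lit 1376), Mv.b (nat_lit 1375), Mv.f (nat_lit 1666)]))))
(Tr.nd (nat_lit 1669) (Tr.lf (Fc.ed (nat_lit 1668) (nat_lit 503) Col.e (nat_lit 641) Dv.df))
(Tr.nd (nat_lit 1670) (Tr.lf (Fc.ed (nat_lit 1669) (nat_lit 641) Col.a (nat_lit 505) (Dv.wd (nat_lit 70) [Mv.b (nat_lit 1382), Mv.b (nat_lit 1379), Mv.f (nat_lit 1668)])))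
(Tr.lf (Fc.ed (nat_lit 1670) (nat_lit 641) Col.f (nat_lit 517) (Dv.wd (nat_lit 80) [Mv.b (nat_lit 1411), Mv.f (nat_lit 1121), Mv.b (nat_lit 1072), Mv.f (nat_lit 1378), Mv.f (nat_lit 1668)]))))))
(Tr.nd (nat_lit 1674) (Tr.nd (nat_lit 1672) (Tr.lf (Fc.ed (nat_lit 1671) (nat_lit 519) Col.d (nat_lit 641) (Dv.wd (nat_lit 96) [Mv.f (nat_lit 1670), Mv.f (nat_lit 1412), Mv.f (nat_lit 1416)])))
(Tr.nd (nat_lit 1673) (Tr.lf (Fc.ed (nat_lit 1672) (nat_lit 503) Col.i (nat_lit 642) Dv.df))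
(Tr.lf (Fc.ed (nat_lit 1673) (nat_lit 642) Col.f (nat_lit 504) (Dv.wd (nat_lit 26) [Mv.b (nat_lit 1380), Mv.f (nat_lit 1378), Mv.f (nat_lit 1672)])))))
(Tr.nd (nat_lit 1675) (Tr.lf (Fc.ed (nat_lit 1674) (nat_lit 504) Col.h (nat_lit 643) Dv.df))
(Tr.nd (nat_lit 1676) (Tr.lf (Fc.ed (nat_lit 1675) (nat_lit 643) Col.a (nat_lit 506) (Dv.wd (nat_lit 83) [Mv.b (nat_lit 1385), Mv.b (nat_lit 1381), Mv.f (nat_lit 1674)])))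
(Tr.lf (Fc.ed (nat_lit 1676) (nat_lit 505) Col.d (nat_lit 644) Dv.df))))))))
(Tr.nd (nat_lit 1697) (Tr.nd (nat_lit 1687) (Tr.nd (nat_lit 1682) (Tr.nd (nat_lit 1679) (Tr.nd (nat_lit 1678) (Tr.lf (Fc.ed (nat_lit 1677) (nat_lit 644) Col.k (nat_lit 508) (Dv.wd (nat_lit 73) [Mv.b (nat_lit 1390), Mv.b (nat_lit 1383), Mv.f (nat_lit 1676)])))
(Tr.lf (Fc.ed (nat_lit 1678) (nat_lit 644) Col.a (nat_lit 519) (Dv.wd (nat_lit 74) [Mv.f (nat_lit 1671), Mv.f (nat_lit 1669), Mv.f (nat_lit 1676)]))))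
(Tr.nd (nat_lit 1680) (Tr.lf (Fc.ed (nat_lit 1679) (nat_lit 644) Col.f (nat_lit 518) (Dv.wd (nat_lit 28) [Mv.f (nat_lit 1415), Mv.b (nat_lit 1384), Mv.f (nat_lit 1676)])))
(Tr.nd (nat_lit 1681) (Tr.lf (Fc.ed (nat_lit 1680) (nat_lit 508) Col.c (nat_lit 645) Dv.df))
(Tr.lf (Fc.ed (nat_lit 1681) (nat_lit 645) Col.f (nat_lit 629) (Dv.wd (nat_lit 29) [Mv.f (nat_lit 1648), Mv.b (nat_lit 1392), Mv.f (nat_lit 1680)]))))))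
(Tr.nd (nat_lit 1684) (Tr.nd (nat_lit 1683) (Tr.lf (Fc.ed (nat_lit 1682) (nat_lit 508) Col.i (nat_lit 646) Dv.df))
(Tr.lf (Fc.ed (nat_lit 1683) (nat_lit 646) Col.b (nat_lit 510) (Dv.wd (nat_lit 22) [Mv.b (nat_lit 1395), Mv.b (nat_lit 1391), Mv.f (nat_lit 1682)]))))
(Tr.nd (nat_lit 1685) (Tr.lf (Fc.ed (nat_lit 1684) (nat_lit 646) Col.d (nat_lit 509) (Dv.wd (nat_lit 24) [Mv.b (nat_lit 1393), Mv.f (nat_lit 1390), Mv.f (nat_lit 1682)])))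
(Tr.nd (nat_lit 1686) (Tr.lf (Fc.ed (nat_lit 1685) (nat_lit 510) Col.h (nat_lit 647) Dv.df))
(Tr.lf (Fc.ed (nat_lit 1686) (nat_lit 647) Col.a (nat_lit 639) (Dv.wd (nat_lit 83) [Mv.b (nat_lit 1665), Mv.b (nat_lit 1396), Mv.f (nat_lit 1685)])))))))
(Tr.nd (nat_lit 1692) (Tr.nd (nat_lit 1689) (Tr.nd (nat_lit 1688) (Tr.lf (Fc.ed (nat_lit 1687) (nat_lit 511) Col.c (nat_lit 648) Dv.df))
(Tr.lf (Fc.ed (nat_lit 1688) (nat_lit 648) Col.a (nat_lit 648) (Dv.wd (nat_lit 87) [Mv.b (nat_lit 1687), Mv.f (nat_lit 1398), Mv.f (nat_lit 1687)]))))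
(Tr.nd (nat_lit 1690) (Tr.lf (Fc.ed (nat_lit 1689) (nat_lit 648) Col.f (nat_lit 636) (Dv.wd (nat_lit 29) [Mv.b (nat_lit 1659), Mv.b (nat_lit 1400), Mv.f (nat_lit 1687)])))
(Tr.nd (nat_lit 1691) (Tr.lf (Fc.ed (nat_lit 1690) (nat_lit 648) Col.d (nat_lit 637) (Dv.wd (nat_lit 126) [Mv.b (nat_lit 1661), Mv.b (nat_lit 1368), Mv.b (nat_lit 1096), Mv.f (nat_lit 1397), Mv.f (nat_lit 1687)])))
(Tr.lf (Fc.ed (nat_lit 1691) (nat_lit 514) Col.b (nat_lit 649) Dv.df)))))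
(Tr.nd (nat_lit 1694) (Tr.nd (nat_lit 1693) (Tr.lf (Fc.ed (nat_lit 1692) (nat_lit 649) Col.c (nat_lit 515) (Dv.wd (nat_lit 111) [Mv.b (nat_lit 1407), Mv.b (nat_lit 1116), Mv.b (nat_lit 1115), Mv.f (nat_lit 1406), Mv.f (nat_lit 1691)])))
(Tr.lf (Fc.ed (nat_lit 1693) (nat_lit 515) Col.a (nat_lit 650) Dv.df)))
(Tr.nd (nat_lit 1695) (Tr.lf (Fc.ed (nat_lit 1694) (nat_lit 516) Col.b (nat_lit 651) Dv.df))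
(Tr.nd (nat_lit 1696) (Tr.lf (Fc.ed (nat_lit 1695) (nat_lit 651) Col.l (nat_lit 522) (Dv.wd (nat_lit 88) [Mv.b (nat_lit 1420), Mv.b (nat_lit 1409), Mv.f (nat_lit 1694)])))
(Tr.lf (Fc.ed (nat_lit 1696) (nat_lit 651) Col.d (nat_lit 649) (Dv.wd (nat_lit 35) [Mv.b (nat_lit 1691), Mv.b (nat_lit 1410), Mv.f (nat_lit 1694)]))))))))
(Tr.nd (nat_lit 1707) (Tr.nd (nat_lit 1702) (Tr.nd (nat_lit 1699) (Tr.nd (nat_lit 1698) (Tr.lf (Fc.ed (nat_lit 1697) (nat_lit 518) Col.h (nat_lit 652) Dv.df))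
(Tr.lf (Fc.ed (nat_lit 1698) (nat_lit 652) Col.b (nat_lit 638) (Dv.wd (nat_lit 101) [Mv.b (nat_lit 1663), Mv.b (nat_lit 1414), Mv.f (nat_lit 1697)]))))
(Tr.nd (nat_lit 1700) (Tr.lf (Fc.ed (nat_lit 1699) (nat_lit 519) Col.i (nat_lit 653) Dv.df))
(Tr.nd (nat_lit 1701) (Tr.lf (Fc.ed (nat_lit 1700) (nat_lit 653) Col.c (nat_lit 544) (Dv.wd (nat_lit 23) [Mv.f (nat_lit 1471), Mv.f (nat_lit 1437), Mv.f (nat_lit 1699)])))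
(Tr.lf (Fc.ed (nat_lit 1701) (nat_lit 653) Col.f (nat_lit 520) (Dv.wd (nat_lit 26) [Mv.b (nat_lit 1417), Mv.f (nat_lit 1416), Mv.f (nat_lit 1699)]))))))
(Tr.nd (nat_lit 1704) (Tr.nd (nat_lit 1703) (Tr.lf (Fc.ed (nat_lit 1702) (nat_lit 520) Col.h (nat_lit 654) Dv.df))
(Tr.lf (Fc.ed (nat_lit 1703) (nat_lit 654) Col.e (nat_lit 521) (Dv.wd (nat_lit 117) [Mv.b (nat_lit 1419), Mv.b (nat_lit 1418), Mv.f (nat_lit 1702)]))))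
(Tr.nd (nat_lit 1705) (Tr.lf (Fc.ed (nat_lit 1704) (nat_lit 522) Col.a (nat_lit 655) Dv.df))
(Tr.nd (nat_lit 1706) (Tr.lf (Fc.ed (nat_lit 1705) (nat_lit 655) Col.k (nat_lit 529) (Dv.wd (nat_lit 143) [Mv.b (nat_lit 1440), Mv.f (nat_lit 1148), Mv.b (nat_lit 1136), Mv.b (nat_lit 1421), Mv.f (nat_lit 1704)])))
(Tr.lf (Fc.ed (nat_lit 1706) (nat_lit 524) Col.c (nat_lit 656) Dv.df))))))
(Tr.nd (nat_lit 1712) (Tr.nd (nat_lit 1709) (Tr.nd (nat_lit 1708) (Tr.lf (Fc.ed (nat_lit 1707) (nat_lit 656) Col.a (nat_lit 531) (Dv.wd (nat_lit 87) [Mv.b (nat_lit 1443), Mv.b (nat_lit 1426), Mv.f (nat_lit 1706)])))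
(Tr.lf (Fc.ed (nat_lit 1708) (nat_lit 656) Col.f (nat_lit 656) (Dv.wd (nat_lit 29) [Mv.b (nat_lit 1706), Mv.f (nat_lit 1428), Mv.f (nat_lit 1706)]))))
(Tr.nd (nat_lit 1710) (Tr.lf (Fc.ed (nat_lit 1709) (nat_lit 656) Col.b (nat_lit 630) (Dv.wd (nat_lit 130) [Mv.b (nat_lit 1649), Mv.f (nat_lit 1352), Mv.b (nat_lit 1139), Mv.b (nat_lit 1427), Mv.f (nat_lit 1706)])))
(Tr.nd (nat_lit 1711) (Tr.lf (Fc.ed (nat_lit 1710) (nat_lit 524) Col.e (nat_lit 657) Dv.df))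
(Tr.lf (Fc.ed (nat_lit 1711) (nat_lit 657) Col.a (nat_lit 532) (Dv.wd (nat_lit 70) [Mv.b (nat_lit 1445), Mv.b (nat_lit 1426), Mv.f (nat_lit 1710)]))))))
(Tr.nd (nat_lit 1715) (Tr.nd (nat_lit 1713) (Tr.lf (Fc.ed (nat_lit 1712) (nat_lit 657) Col.b (nat_lit 525) (Dv.wd (nat_lit 97) [Mv.b (nat_lit 1429), Mv.b (nat_lit 1427), Mv.f (nat_lit 1710)])))
(Tr.nd (nat_lit 1714) (Tr.lf (Fc.ed (nat_lit 1713) (nat_lit 525) Col.f (nat_lit 658) Dv.df))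
(Tr.lf (Fc.ed (nat_lit 1714) (nat_lit 658) Col.a (nat_lit 527) (Dv.wd (nat_lit 78) [Mv.b (nat_lit 1435), Mv.b (nat_lit 1430), Mv.f (nat_lit 1713)])))))
(Tr.nd (nat_lit 1716) (Tr.lf (Fc.ed (nat_lit 1715) (nat_lit 658) Col.c (nat_lit 644) (Dv.wd (nat_lit 98) [Mv.f (nat_lit 1679), Mv.b (nat_lit 1431), Mv.f (nat_lit 1713)])))
(Tr.nd (nat_lit 1717) (Tr.lf (Fc.ed (nat_lit 1716) (nat_lit 658) Col.d (nat_lit 658) (Dv.wd (nat_lit 109) [Mv.b (nat_lit 1713), Mv.f (nat_lit 1432), Mv.f (nat_lit 1713)])))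
(Tr.lf (Fc.ed (nat_lit 1717) (nat_lit 525) Col.h (nat_lit 659) Dv.df)))))))))
(Tr.nd (nat_lit 1759) (Tr.nd (nat_lit 1738) (Tr.nd (nat_lit 1728) (Tr.nd (nat_lit 1723) (Tr.nd (nat_lit 1720) (Tr.nd (nat_lit 1719) (Tr.lf (Fc.ed (nat_lit 1718) (nat_lit 659) Col.c (nat_lit 652) (Dv.wd (nat_lit 131) [Mv.b (nat_lit 1697), Mv.b (nat_lit 1431), Mv.f (nat_lit 1717)])))
(Tr.lf (Fc.ed (nat_lit 1719) (nat_lit 659) Col.e (nat_lit 526) (Dv.wd (nat_lit 117) [Mv.b (nat_lit 1433), Mv.f (nat_lit 1429), Mv.f (nat_lit 1717)]))))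
(Tr.nd (nat_lit 1721) (Tr.lf (Fc.ed (nat_lit 1720) (nat_lit 527) Col.h (nat_lit 660) Dv.df))
(Tr.nd (nat_lit 1722) (Tr.lf (Fc.ed (nat_lit 1721) (nat_lit 660) Col.b (nat_lit 534) (Dv.wd (nat_lit 101) [Mv.b (nat_lit 1448), Mv.b (nat_lit 1436), Mv.f (nat_lit 1720)])))
(Tr.lf (Fc.ed (nat_lit 1722) (nat_lit 528) Col.a (nat_lit 661) Dv.df)))))
(Tr.nd (nat_lit 1725) (Tr.nd (nat_lit 1724) (Tr.lf (Fc.ed (nat_lit 1723) (nat_lit 661) Col.l (nat_lit 529) (Dv.wd (nat_lit 108) [Mv.b (nat_lit 1440), Mv.b (nat_lit 1439), Mv.f (nat_lit 1722)])))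
(Tr.lf (Fc.ed (nat_lit 1724) (nat_lit 528) Col.d (nat_lit 662) Dv.df)))
(Tr.nd (nat_lit 1726) (Tr.lf (Fc.ed (nat_lit 1725) (nat_lit 662) Col.l (nat_lit 530) (Dv.wd (nat_lit 72) [Mv.b (nat_lit 1441), Mv.b (nat_lit 1439), Mv.f (nat_lit 1724)])))
(Tr.nd (nat_lit 1727) (Tr.lf (Fc.ed (nat_lit 1726) (nat_lit 530) Col.c (nat_lit 663) Dv.df))
(Tr.lf (Fc.ed (nat_lit 1727) (nat_lit 663) Col.k (nat_lit 531) (Dv.wd (nat_lit 86) [Mv.b (nat_lit 1443), Mv.b (nat_lit 1442), Mv.f (nat_lit 1726)])))))))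
(Tr.nd (nat_lit 1733) (Tr.nd (nat_lit 1730) (Tr.nd (nat_lit 1729) (Tr.lf (Fc.ed (nat_lit 1728) (nat_lit 531) Col.e (nat_lit 664) Dv.df))
(Tr.lf (Fc.ed (nat_lit 1729) (nat_lit 664) Col.c (nat_lit 532) (Dv.wd (nat_lit 91) [Mv.b (nat_lit 1445), Mv.f (nat_lit 1443), Mv.f (nat_lit 1728)]))))
(Tr.nd (nat_lit 1731) (Tr.lf (Fc.ed (nat_lit 1730) (nat_lit 531) Col.h (nat_lit 665) Dv.df))
(Tr.nd (nat_lit 1732) (Tr.lf (Fc.ed (nat_lit 1731) (nat_lit 665) Col.b (nat_lit 665) (Dv.wd (nat_lit 101) [Mv.b (nat_lit 1730), Mv.f (nat_lit 1444), Mv.f (nat_lit 1730)])))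
(Tr.lf (Fc.ed (nat_lit 1732) (nat_lit 665) Col.c (nat_lit 533) (Dv.wd (nat_lit 131) [Mv.b (nat_lit 1446), Mv.f (nat_lit 1443), Mv.f (nat_lit 1730)]))))))
(Tr.nd (nat_lit 1735) (Tr.nd (nat_lit 1734) (Tr.lf (Fc.ed (nat_lit 1733) (nat_lit 532) Col.f (nat_lit 666) Dv.df))
(Tr.lf (Fc.ed (nat_lit 1734) (nat_lit 532) Col.h (nat_lit 667) Dv.df)))
(Tr.nd (nat_lit 1736) (Tr.lf (Fc.ed (nat_lit 1735) (nat_lit 667) Col.e (nat_lit 533) (Dv.wd (nat_lit 117) [Mv.b (nat_lit 1446), Mv.f (nat_lit 1445), Mv.f (nat_lit 1734)])))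
(Tr.nd (nat_lit 1737) (Tr.lf (Fc.ed (nat_lit 1736) (nat_lit 534) Col.d (nat_lit 668) Dv.df))
(Tr.lf (Fc.ed (nat_lit 1737) (nat_lit 668) Col.l (nat_lit 668) (Dv.wd (nat_lit 72) [Mv.b (nat_lit 1736), Mv.f (nat_lit 1449), Mv.f (nat_lit 1736)]))))))))
(Tr.nd (nat_lit 1748) (Tr.nd (nat_lit 1743) (Tr.nd (nat_lit 1740) (Tr.nd (nat_lit 1739) (Tr.lf (Fc.ed (nat_lit 1738) (nat_lit 668) Col.f (nat_lit 535) (Dv.wd (nat_lit 28) [Mv.b (nat_lit 1452), Mv.b (nat_lit 1451), Mv.f (nat_lit 1736)])))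
(Tr.lf (Fc.ed (nat_lit 1739) (nat_lit 668) Col.h (nat_lit 668) (Dv.wd (nat_lit 142) [Mv.b (nat_lit 1736), Mv.b (nat_lit 1448), Mv.f (nat_lit 1154), Mv.f (nat_lit 1448), Mv.f (nat_lit 1736)]))))
(Tr.nd (nat_lit 1741) (Tr.lf (Fc.ed (nat_lit 1740) (nat_lit 535) Col.c (nat_lit 669) Dv.df))
(Tr.nd (nat_lit 1742) (Tr.lf (Fc.ed (nat_lit 1741) (nat_lit 669) Col.e (nat_lit 669) (Dv.wd (nat_lit 39) [Mv.b (nat_lit 1740), Mv.f (nat_lit 1453), Mv.f (nat_lit 1740)])))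
(Tr.lf (Fc.ed (nat_lit 1742) (nat_lit 535) Col.i (nat_lit 670) Dv.df)))))
(Tr.nd (nat_lit 1745) (Tr.nd (nat_lit 1744) (Tr.lf (Fc.ed (nat_lit 1743) (nat_lit 670) Col.d (nat_lit 536) (Dv.wd (nat_lit 24) [Mv.b (nat_lit 1454), Mv.f (nat_lit 1452), Mv.f (nat_lit 1742)])))
(Tr.lf (Fc.ed (nat_lit 1744) (nat_lit 537) Col.a (nat_lit 671) Dv.df)))
(Tr.nd (nat_lit 1746) (Tr.lf (Fc.ed (nat_lit 1745) (nat_lit 671) Col.i (nat_lit 661) (Dv.wd (nat_lit 17) [Mv.b (nat_lit 1722), Mv.b (nat_lit 1456), Mv.f (nat_lit 1744)])))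
(Tr.nd (nat_lit 1747) (Tr.lf (Fc.ed (nat_lit 1746) (nat_lit 537) Col.d (nat_lit 672) Dv.df))
(Tr.lf (Fc.ed (nat_lit 1747) (nat_lit 672) Col.b (nat_lit 538) (Dv.wd (nat_lit 127) [Mv.b (nat_lit 1457), Mv.f (nat_lit 1455), Mv.f (nat_lit 1746)])))))))
(Tr.nd (nat_lit 1753) (Tr.nd (nat_lit 1750) (Tr.nd (nat_lit 1749) (Tr.lf (Fc.ed (nat_lit 1748) (nat_lit 672) Col.i (nat_lit 662) (Dv.wd (nat_lit 14) [Mv.b (nat_lit 1724), Mv.b (nat_lit 1456), Mv.f (nat_lit 1746)])))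
(Tr.lf (Fc.ed (nat_lit 1749) (nat_lit 538) Col.e (nat_lit 673) Dv.df)))
(Tr.nd (nat_lit 1751) (Tr.lf (Fc.ed (nat_lit 1750) (nat_lit 673) Col.l (nat_lit 540) (Dv.wd (nat_lit 68) [Mv.b (nat_lit 1462), Mv.b (nat_lit 1458), Mv.f (nat_lit 1749)])))
(Tr.nd (nat_lit 1752) (Tr.lf (Fc.ed (nat_lit 1751) (nat_lit 673) Col.a (nat_lit 673) (Dv.wd (nat_lit 70) [Mv.b (nat_lit 1749), Mv.f (nat_lit 1459), Mv.f (nat_lit 1749)])))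
(Tr.lf (Fc.ed (nat_lit 1752) (nat_lit 539) Col.k (nat_lit 674) Dv.df)))))
(Tr.nd (nat_lit 1756) (Tr.nd (nat_lit 1754) (Tr.lf (Fc.ed (nat_lit 1753) (nat_lit 674) Col.i (nat_lit 655) (Dv.wd (nat_lit 18) [Mv.f (nat_lit 1705), Mv.b (nat_lit 1461), Mv.f (nat_lit 1752)])))
(Tr.nd (nat_lit 1755) (Tr.lf (Fc.ed (nat_lit 1754) (nat_lit 540) Col.f (nat_lit 675) Dv.df))
(Tr.lf (Fc.ed (nat_lit 1755) (nat_lit 540) Col.h (nat_lit 676) Dv.df))))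
(Tr.nd (nat_lit 1757) (Tr.lf (Fc.ed (nat_lit 1756) (nat_lit 676) Col.e (nat_lit 541) (Dv.wd (nat_lit 117) [Mv.b (nat_lit 1463), Mv.f (nat_lit 1462), Mv.f (nat_lit 1755)])))
(Tr.nd (nat_lit 1758) (Tr.lf (Fc.ed (nat_lit 1757) (nat_lit 542) Col.h (nat_lit 677) Dv.df))
(Tr.lf (Fc.ed (nat_lit 1758) (nat_lit 677) Col.f (nat_lit 543) (Dv.wd (nat_lit 84) [Mv.b (nat_lit 1467), Mv.f (nat_lit 1464), Mv.f (nat_lit 1757)])))))))))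
(Tr.nd (nat_lit 1779) (Tr.nd (nat_lit 1769) (Tr.nd (nat_lit 1764) (Tr.nd (nat_lit 1761) (Tr.nd (nat_lit 1760) (Tr.lf (Fc.ed (nat_lit 1759) (nat_lit 545) Col.c (nat_lit 678) Dv.df))
(Tr.lf (Fc.ed (nat_lit 1760) (nat_lit 678) Col.e (nat_lit 568) (Dv.wd (nat_lit 39) [Mv.f (nat_lit 1518), Mv.f (nat_lit 1495), Mv.f (nat_lit 1759)]))))
(Tr.nd (nat_lit 1762) (Tr.lf (Fc.ed (nat_lit 1761) (nat_lit 545) Col.i (nat_lit 679) Dv.df))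
(Tr.nd (nat_lit 1763) (Tr.lf (Fc.ed (nat_lit 1762) (nat_lit 679) Col.d (nat_lit 546) (Dv.wd (nat_lit 24) [Mv.b (nat_lit 1473), Mv.f (nat_lit 1472), Mv.f (nat_lit 1761)])))
(Tr.lf (Fc.ed (nat_lit 1763) (nat_lit 547) Col.a (nat_lit 680) Dv.df)))))
(Tr.nd (nat_lit 1766) (Tr.nd (nat_lit 1765) (Tr.lf (Fc.ed (nat_lit 1764) (nat_lit 680) Col.h (nat_lit 671) (Dv.wd (nat_lit 122) [Mv.b (nat_lit 1744), Mv.b (nat_lit 1477), Mv.f (nat_lit 1763)])))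
(Tr.lf (Fc.ed (nat_lit 1765) (nat_lit 680) Col.b (nat_lit 680) (Dv.wd (nat_lit 123) [Mv.b (nat_lit 1763), Mv.b (nat_lit 1475), Mv.f (nat_lit 1178), Mv.f (nat_lit 1475), Mv.f (nat_lit 1763)]))))
(Tr.nd (nat_lit 1767) (Tr.lf (Fc.ed (nat_lit 1766) (nat_lit 547) Col.d (nat_lit 681) Dv.df))
(Tr.nd (nat_lit 1768) (Tr.lf (Fc.ed (nat_lit 1767) (nat_lit 681) Col.b (nat_lit 548) (Dv.wd (nat_lit 127) [Mv.b (nat_lit 1478), Mv.f (nat_lit 1475), Mv.f (nat_lit 1766)])))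
(Tr.lf (Fc.ed (nat_lit 1768) (nat_lit 549) Col.k (nat_lit 682) Dv.df))))))
(Tr.nd (nat_lit 1774) (Tr.nd (nat_lit 1771) (Tr.nd (nat_lit 1770) (Tr.lf (Fc.ed (nat_lit 1769) (nat_lit 682) Col.f (nat_lit 682) (Dv.wd (nat_lit 140) [Mv.b (nat_lit 1768), Mv.f (nat_lit 1481), Mv.f (nat_lit 1768)])))
(Tr.lf (Fc.ed (nat_lit 1770) (nat_lit 682) Col.h (nat_lit 674) (Dv.wd (nat_lit 129) [Mv.b (nat_lit 1752), Mv.b (nat_lit 1482), Mv.f (nat_lit 1768)]))))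
(Tr.nd (nat_lit 1772) (Tr.lf (Fc.ed (nat_lit 1771) (nat_lit 682) Col.a (nat_lit 551) (Dv.wd (nat_lit 100) [Mv.b (nat_lit 1486), Mv.b (nat_lit 1186), Mv.b (nat_lit 1181), Mv.f (nat_lit 1480), Mv.f (nat_lit 1768)])))
(Tr.nd (nat_lit 1773) (Tr.lf (Fc.ed (nat_lit 1772) (nat_lit 551) Col.d (nat_lit 683) Dv.df))
(Tr.lf (Fc.ed (nat_lit 1773) (nat_lit 683) Col.k (nat_lit 552) (Dv.wd (nat_lit 73) [Mv.b (nat_lit 1488), Mv.f (nat_lit 1486), Mv.f (nat_lit 1772)]))))))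
(Tr.nd (nat_lit 1776) (Tr.nd (nat_lit 1775) (Tr.lf (Fc.ed (nat_lit 1774) (nat_lit 683) Col.b (nat_lit 554) (Dv.wd (nat_lit 127) [Mv.b (nat_lit 1492), Mv.b (nat_lit 1487), Mv.f (nat_lit 1772)])))
(Tr.lf (Fc.ed (nat_lit 1775) (nat_lit 552) Col.c (nat_lit 684) Dv.df)))
(Tr.nd (nat_lit 1777) (Tr.lf (Fc.ed (nat_lit 1776) (nat_lit 684) Col.a (nat_lit 553) (Dv.wd (nat_lit 87) [Mv.b (nat_lit 1490), Mv.b (nat_lit 1489), Mv.f (nat_lit 1775)])))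
(Tr.nd (nat_lit 1778) (Tr.lf (Fc.ed (nat_lit 1777) (nat_lit 553) Col.e (nat_lit 685) Dv.df))
(Tr.lf (Fc.ed (nat_lit 1778) (nat_lit 685) Col.b (nat_lit 558) (Dv.wd (nat_lit 97) [Mv.b (nat_lit 1499), Mv.b (nat_lit 1491), Mv.f (nat_lit 1777)]))))))))
(Tr.nd (nat_lit 1789) (Tr.nd (nat_lit 1784) (Tr.nd (nat_lit 1781) (Tr.nd (nat_lit 1780) (Tr.lf (Fc.ed (nat_lit 1779) (nat_lit 556) Col.k (nat_lit 686) Dv.df))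
(Tr.lf (Fc.ed (nat_lit 1780) (nat_lit 556) Col.d (nat_lit 687) Dv.df)))
(Tr.nd (nat_lit 1782) (Tr.lf (Fc.ed (nat_lit 1781) (nat_lit 687) Col.a (nat_lit 557) (Dv.wd (nat_lit 74) [Mv.b (nat_lit 1497), Mv.f (nat_lit 1496), Mv.f (nat_lit 1780)])))
(Tr.nd (nat_lit 1783) (Tr.lf (Fc.ed (nat_lit 1782) (nat_lit 557) Col.c (nat_lit 688) Dv.df))
(Tr.lf (Fc.ed (nat_lit 1783) (nat_lit 558) Col.d (nat_lit 689) Dv.df)))))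
(Tr.nd (nat_lit 1786) (Tr.nd (nat_lit 1785) (Tr.lf (Fc.ed (nat_lit 1784) (nat_lit 689) Col.c (nat_lit 561) (Dv.wd (nat_lit 139) [Mv.b (nat_lit 1505), Mv.f (nat_lit 1214), Mv.b (nat_lit 1203), Mv.b (nat_lit 1500), Mv.f (nat_lit 1783)])))
(Tr.lf (Fc.ed (nat_lit 1785) (nat_lit 559) Col.k (nat_lit 690) Dv.df)))
(Tr.nd (nat_lit 1787) (Tr.lf (Fc.ed (nat_lit 1786) (nat_lit 690) Col.e (nat_lit 686) (Dv.wd (nat_lit 99) [Mv.b (nat_lit 1779), Mv.b (nat_lit 1502), Mv.f (nat_lit 1785)])))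
(Tr.nd (nat_lit 1788) (Tr.lf (Fc.ed (nat_lit 1787) (nat_lit 560) Col.k (nat_lit 691) Dv.df))
(Tr.lf (Fc.ed (nat_lit 1788) (nat_lit 691) Col.d (nat_lit 690) (Dv.wd (nat_lit 37) [Mv.b (nat_lit 1785), Mv.b (nat_lit 1504), Mv.f (nat_lit 1787)])))))))
(Tr.nd (nat_lit 1794) (Tr.nd (nat_lit 1791) (Tr.nd (nat_lit 1790) (Tr.lf (Fc.ed (nat_lit 1789) (nat_lit 561) Col.f (nat_lit 692) Dv.df))
(Tr.lf (Fc.ed (nat_lit 1790) (nat_lit 692) Col.d (nat_lit 562) (Dv.wd (nat_lit 109) [Mv.b (nat_lit 1506), Mv.f (nat_lit 1505), Mv.f (nat_lit 1789)]))))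
(Tr.nd (nat_lit 1792) (Tr.lf (Fc.ed (nat_lit 1791) (nat_lit 563) Col.k (nat_lit 693) Dv.df))
(Tr.nd (nat_lit 1793) (Tr.lf (Fc.ed (nat_lit 1792) (nat_lit 693) Col.h (nat_lit 691) (Dv.wd (nat_lit 129) [Mv.b (nat_lit 1787), Mv.b (nat_lit 1508), Mv.f (nat_lit 1791)])))
(Tr.lf (Fc.ed (nat_lit 1793) (nat_lit 564) Col.e (nat_lit 694) Dv.df)))))
(Tr.nd (nat_lit 1797) (Tr.nd (nat_lit 1795) (Tr.lf (Fc.ed (nat_lit 1794) (nat_lit 694) Col.k (nat_lit 565) (Dv.wd (nat_lit 69) [Mv.b (nat_lit 1511), Mv.b (nat_lit 1510), Mv.f (nat_lit 1793)])))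
(Tr.nd (nat_lit 1796) (Tr.lf (Fc.ed (nat_lit 1795) (nat_lit 565) Col.f (nat_lit 695) Dv.df))
(Tr.lf (Fc.ed (nat_lit 1796) (nat_lit 566) Col.e (nat_lit 696) Dv.df))))
(Tr.nd (nat_lit 1798) (Tr.lf (Fc.ed (nat_lit 1797) (nat_lit 696) Col.i (nat_lit 590) (Dv.wd (nat_lit 19) [Mv.b (nat_lit 1566), Mv.b (nat_lit 1514), Mv.f (nat_lit 1796)])))
(Tr.nd (nat_lit 1799) (Tr.lf (Fc.ed (nat_lit 1798) (nat_lit 568) Col.i (nat_lit 697) Dv.df))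
(Tr.lf (Fc.ed (nat_lit 1799) (nat_lit 697) Col.d (nat_lit 569) (Dv.wd (nat_lit 24) [Mv.b (nat_lit 1519), Mv.f (nat_lit 1517), Mv.f (nat_lit 1798)])))))))))))
(Tr.nd (nat_lit 1882) (Tr.nd (nat_lit 1841) (Tr.nd (nat_lit 1820) (Tr.nd (nat_lit 1810) (Tr.nd (nat_lit 1805) (Tr.nd (nat_lit 1802) (Tr.nd (nat_lit 1801) (Tr.lf (Fc.ed (nat_lit 1800) (nat_lit 571) Col.k (nat_lit 698) Dv.df))
(Tr.lf (Fc.ed (nat_lit 1801) (nat_lit 698) Col.i (nat_lit 693) (Dv.wd (nat_lit 18) [Mv.b (nat_lit 1791), Mv.b (nat_lit 1524), Mv.f (nat_lit 1800)]))))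
(Tr.nd (nat_lit 1803) (Tr.lf (Fc.ed (nat_lit 1802) (nat_lit 571) Col.c (nat_lit 699) Dv.df))
(Tr.nd (nat_lit 1804) (Tr.lf (Fc.ed (nat_lit 1803) (nat_lit 699) Col.l (nat_lit 572) (Dv.wd (nat_lit 85) [Mv.b (nat_lit 1525), Mv.b (nat_lit 1523), Mv.f (nat_lit 1802)])))
(Tr.lf (Fc.ed (nat_lit 1804) (nat_lit 572) Col.b (nat_lit 700) Dv.df)))))
(Tr.nd (nat_lit 1807) (Tr.nd (nat_lit 1806) (Tr.lf (Fc.ed (nat_lit 1805) (nat_lit 572) Col.d (nat_lit 701) Dv.df))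
(Tr.lf (Fc.ed (nat_lit 1806) (nat_lit 701) Col.a (nat_lit 573) (Dv.wd (nat_lit 74) [Mv.b (nat_lit 1527), Mv.b (nat_lit 1526), Mv.f (nat_lit 1805)]))))
(Tr.nd (nat_lit 1808) (Tr.lf (Fc.ed (nat_lit 1807) (nat_lit 573) Col.e (nat_lit 702) Dv.df))
(Tr.nd (nat_lit 1809) (Tr.lf (Fc.ed (nat_lit 1808) (nat_lit 702) Col.k (nat_lit 575) (Dv.wd (nat_lit 69) [Mv.b (nat_lit 1533), Mv.b (nat_lit 1528), Mv.f (nat_lit 1807)])))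
(Tr.lf (Fc.ed (nat_lit 1809) (nat_lit 702) Col.i (nat_lit 694) (Dv.wd (nat_lit 19) [Mv.b (nat_lit 1793), Mv.b (nat_lit 1529), Mv.f (nat_lit 1807)])))))))
(Tr.nd (nat_lit 1815) (Tr.nd (nat_lit 1812) (Tr.nd (nat_lit 1811) (Tr.lf (Fc.ed (nat_lit 1810) (nat_lit 574) Col.h (nat_lit 703) Dv.df))
(Tr.lf (Fc.ed (nat_lit 1811) (nat_lit 703) Col.k (nat_lit 583) (Dv.wd (nat_lit 82) [Mv.b (nat_lit 1551), Mv.b (nat_lit 1531), Mv.f (nat_lit 1810)]))))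
(Tr.nd (nat_lit 1813) (Tr.lf (Fc.ed (nat_lit 1812) (nat_lit 575) Col.d (nat_lit 704) Dv.df))
(Tr.nd (nat_lit 1814) (Tr.lf (Fc.ed (nat_lit 1813) (nat_lit 704) Col.e (nat_lit 576) (Dv.wd (nat_lit 75) [Mv.b (nat_lit 1535), Mv.b (nat_lit 1243), Mv.f (nat_lit 1241), Mv.f (nat_lit 1533), Mv.f (nat_lit 1812)])))
(Tr.lf (Fc.ed (nat_lit 1814) (nat_lit 575) Col.f (nat_lit 705) Dv.df)))))
(Tr.nd (nat_lit 1817) (Tr.nd (nat_lit 1816) (Tr.lf (Fc.ed (nat_lit 1815) (nat_lit 705) Col.i (nat_lit 695) (Dv.wd (nat_lit 79) [Mv.b (nat_lit 1795), Mv.b (nat_lit 1534), Mv.f (nat_lit 1814)])))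
(Tr.lf (Fc.ed (nat_lit 1816) (nat_lit 575) Col.h (nat_lit 706) Dv.df)))
(Tr.nd (nat_lit 1818) (Tr.lf (Fc.ed (nat_lit 1817) (nat_lit 576) Col.c (nat_lit 707) Dv.df))
(Tr.nd (nat_lit 1819) (Tr.lf (Fc.ed (nat_lit 1818) (nat_lit 707) Col.l (nat_lit 707) (Dv.wd (nat_lit 85) [Mv.b (nat_lit 1817), Mv.f (nat_lit 1536), Mv.f (nat_lit 1817)])))
(Tr.lf (Fc.ed (nat_lit 1819) (nat_lit 707) Col.a (nat_lit 707) (Dv.wd (nat_lit 87) [Mv.b (nat_lit 1817), Mv.f (nat_lit 1537), Mv.f (nat_lit 1817)]))))))))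
(Tr.nd (nat_lit 1830) (Tr.nd (nat_lit 1825) (Tr.nd (nat_lit 1822) (Tr.nd (nat_lit 1821) (Tr.lf (Fc.ed (nat_lit 1820) (nat_lit 707) Col.d (nat_lit 578) (Dv.wd (nat_lit 126) [Mv.b (nat_lit 1542), Mv.b (nat_lit 1249), Mv.b (nat_lit 1247), Mv.f (nat_lit 1535), Mv.f (nat_lit 1817)])))
(Tr.lf (Fc.ed (nat_lit 1821) (nat_lit 578) Col.b (nat_lit 708) Dv.df)))
(Tr.nd (nat_lit 1823) (Tr.lf (Fc.ed (nat_lit 1822) (nat_lit 578) Col.f (nat_lit 709) Dv.df))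
(Tr.nd (nat_lit 1824) (Tr.lf (Fc.ed (nat_lit 1823) (nat_lit 709) Col.c (nat_lit 579) (Dv.wd (nat_lit 98) [Mv.b (nat_lit 1543), Mv.f (nat_lit 1542), Mv.f (nat_lit 1822)])))
(Tr.lf (Fc.ed (nat_lit 1824) (nat_lit 580) Col.a (nat_lit 710) Dv.df)))))
(Tr.nd (nat_lit 1827) (Tr.nd (nat_lit 1826) (Tr.lf (Fc.ed (nat_lit 1825) (nat_lit 710) Col.b (nat_lit 584) (Dv.wd (nat_lit 123) [Mv.b (nat_lit 1553), Mv.b (nat_lit 1257), Mv.b (nat_lit 1253), Mv.f (nat_lit 1545), Mv.f (nat_lit 1824)])))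
(Tr.lf (Fc.ed (nat_lit 1826) (nat_lit 581) Col.h (nat_lit 711) Dv.df)))
(Tr.nd (nat_lit 1828) (Tr.lf (Fc.ed (nat_lit 1827) (nat_lit 711) Col.f (nat_lit 582) (Dv.wd (nat_lit 84) [Mv.b (nat_lit 1548), Mv.f (nat_lit 1546), Mv.f (nat_lit 1826)])))
(Tr.nd (nat_lit 1829) (Tr.lf (Fc.ed (nat_lit 1828) (nat_lit 582) Col.d (nat_lit 712) Dv.df))
(Tr.lf (Fc.ed (nat_lit 1829) (nat_lit 712) Col.a (nat_lit 587) (Dv.wd (nat_lit 74) [Mv.b (nat_lit 1560), Mv.b (nat_lit 1549), Mv.f (nat_lit 1828)])))))))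
(Tr.nd (nat_lit 1835) (Tr.nd (nat_lit 1832) (Tr.nd (nat_lit 1831) (Tr.lf (Fc.ed (nat_lit 1830) (nat_lit 584) Col.h (nat_lit 713) Dv.df))
(Tr.lf (Fc.ed (nat_lit 1831) (nat_lit 713) Col.a (nat_lit 585) (Dv.wd (nat_lit 83) [Mv.b (nat_lit 1554), Mv.f (nat_lit 1553), Mv.f (nat_lit 1830)]))))
(Tr.nd (nat_lit 1833) (Tr.lf (Fc.ed (nat_lit 1832) (nat_lit 585) Col.d (nat_lit 714) Dv.df))
(Tr.nd (nat_lit 1834) (Tr.lf (Fc.ed (nat_lit 1833) (nat_lit 714) Col.k (nat_lit 714) (Dv.wd (nat_lit 73) [Mv.b (nat_lit 1832), Mv.f (nat_lit 1555), Mv.f (nat_lit 1832)])))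
(Tr.lf (Fc.ed (nat_lit 1834) (nat_lit 714) Col.b (nat_lit 587) (Dv.wd (nat_lit 127) [Mv.b (nat_lit 1560), Mv.b (nat_lit 1556), Mv.f (nat_lit 1832)]))))))
(Tr.nd (nat_lit 1838) (Tr.nd (nat_lit 1836) (Tr.lf (Fc.ed (nat_lit 1835) (nat_lit 714) Col.h (nat_lit 714) (Dv.wd (nat_lit 142) [Mv.b (nat_lit 1832), Mv.b (nat_lit 1554), Mv.f (nat_lit 1259), Mv.f (nat_lit 1554), Mv.f (nat_lit 1832)])))
(Tr.nd (nat_lit 1837) (Tr.lf (Fc.ed (nat_lit 1836) (nat_lit 586) Col.d (nat_lit 715) Dv.df))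
(Tr.lf (Fc.ed (nat_lit 1837) (nat_lit 715) Col.f (nat_lit 587) (Dv.wd (nat_lit 28) [Mv.b (nat_lit 1560), Mv.b (nat_lit 1559), Mv.f (nat_lit 1836)])))))
(Tr.nd (nat_lit 1839) (Tr.lf (Fc.ed (nat_lit 1838) (nat_lit 586) Col.i (nat_lit 716) Dv.df))
(Tr.nd (nat_lit 1840) (Tr.lf (Fc.ed (nat_lit 1839) (nat_lit 716) Col.f (nat_lit 588) (Dv.wd (nat_lit 26) [Mv.b (nat_lit 1561), Mv.b (nat_lit 1559), Mv.f (nat_lit 1838)])))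
(Tr.lf (Fc.ed (nat_lit 1840) (nat_lit 587) Col.e (nat_lit 717) Dv.df))))))))
(Tr.nd (nat_lit 1861) (Tr.nd (nat_lit 1851) (Tr.nd (nat_lit 1846) (Tr.nd (nat_lit 1843) (Tr.nd (nat_lit 1842) (Tr.lf (Fc.ed (nat_lit 1841) (nat_lit 587) Col.i (nat_lit 718) Dv.df))
(Tr.lf (Fc.ed (nat_lit 1842) (nat_lit 718) Col.d (nat_lit 588) (Dv.wd (nat_lit 24) [Mv.b (nat_lit 1561), Mv.f (nat_lit 1560), Mv.f (nat_lit 1841)]))))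
(Tr.nd (nat_lit 1844) (Tr.lf (Fc.ed (nat_lit 1843) (nat_lit 589) Col.b (nat_lit 719) Dv.df))
(Tr.nd (nat_lit 1845) (Tr.lf (Fc.ed (nat_lit 1844) (nat_lit 719) Col.f (nat_lit 700) (Dv.wd (nat_lit 90) [Mv.b (nat_lit 1804), Mv.b (nat_lit 1565), Mv.f (nat_lit 1843)])))
(Tr.lf (Fc.ed (nat_lit 1845) (nat_lit 719) Col.a (nat_lit 719) (Dv.wd (nat_lit 112) [Mv.b (nat_lit 1843), Mv.f (nat_lit 1564), Mv.f (nat_lit 1268), Mv.b (nat_lit 1564), Mv.f (nat_lit 1843)]))))))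
(Tr.nd (nat_lit 1848) (Tr.nd (nat_lit 1847) (Tr.lf (Fc.ed (nat_lit 1846) (nat_lit 589) Col.d (nat_lit 720) Dv.df))
(Tr.lf (Fc.ed (nat_lit 1847) (nat_lit 720) Col.c (nat_lit 720) (Dv.wd (nat_lit 139) [Mv.b (nat_lit 1846), Mv.b (nat_lit 1563), Mv.f (nat_lit 1265), Mv.f (nat_lit 1563), Mv.f (nat_lit 1846)]))))
(Tr.nd (nat_lit 1849) (Tr.lf (Fc.ed (nat_lit 1848) (nat_lit 590) Col.f (nat_lit 721) Dv.df))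
(Tr.nd (nat_lit 1850) (Tr.lf (Fc.ed (nat_lit 1849) (nat_lit 721) Col.e (nat_lit 705) (Dv.wd (nat_lit 114) [Mv.b (nat_lit 1814), Mv.b (nat_lit 1533), Mv.b (nat_lit 1270), Mv.f (nat_lit 1566), Mv.f (nat_lit 1848)])))
(Tr.lf (Fc.ed (nat_lit 1850) (nat_lit 591) Col.b (nat_lit 722) Dv.df))))))
(Tr.nd (nat_lit 1856) (Tr.nd (nat_lit 1853) (Tr.nd (nat_lit 1852) (Tr.lf (Fc.ed (nat_lit 1851) (nat_lit 722) Col.e (nat_lit 719) (Dv.wd (nat_lit 40) [Mv.b (nat_lit 1843), Mv.b (nat_lit 1569), Mv.f (nat_lit 1850)])))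
(Tr.lf (Fc.ed (nat_lit 1852) (nat_lit 722) Col.h (nat_lit 722) (Dv.wd (nat_lit 113) [Mv.b (nat_lit 1850), Mv.f (nat_lit 1570), Mv.f (nat_lit 1850)]))))
(Tr.nd (nat_lit 1854) (Tr.lf (Fc.ed (nat_lit 1853) (nat_lit 722) Col.a (nat_lit 722) (Dv.wd (nat_lit 112) [Mv.b (nat_lit 1850), Mv.f (nat_lit 1568), Mv.f (nat_lit 1275), Mv.b (nat_lit 1568), Mv.f (nat_lit 1850)])))
(Tr.nd (nat_lit 1855) (Tr.lf (Fc.ed (nat_lit 1854) (nat_lit 591) Col.f (nat_lit 723) Dv.df))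
(Tr.lf (Fc.ed (nat_lit 1855) (nat_lit 723) Col.c (nat_lit 592) (Dv.wd (nat_lit 98) [Mv.b (nat_lit 1571), Mv.f (nat_lit 1567), Mv.f (nat_lit 1854)]))))))
(Tr.nd (nat_lit 1858) (Tr.nd (nat_lit 1857) (Tr.lf (Fc.ed (nat_lit 1856) (nat_lit 593) Col.i (nat_lit 724) Dv.df))
(Tr.lf (Fc.ed (nat_lit 1857) (nat_lit 724) Col.d (nat_lit 696) (Dv.wd (nat_lit 24) [Mv.f (nat_lit 1797), Mv.b (nat_lit 1573), Mv.f (nat_lit 1856)]))))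
(Tr.nd (nat_lit 1859) (Tr.lf (Fc.ed (nat_lit 1858) (nat_lit 724) Col.e (nat_lit 595) (Dv.wd (nat_lit 25) [Mv.b (nat_lit 1576), Mv.f (nat_lit 1572), Mv.f (nat_lit 1856)])))
(Tr.nd (nat_lit 1860) (Tr.lf (Fc.ed (nat_lit 1859) (nat_lit 594) Col.i (nat_lit 725) Dv.df))
(Tr.lf (Fc.ed (nat_lit 1860) (nat_lit 725) Col.d (nat_lit 596) (Dv.wd (nat_lit 24) [Mv.b (nat_lit 1577), Mv.b (nat_lit 1575), Mv.f (nat_lit 1859)]))))))))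
(Tr.nd (nat_lit 1871) (Tr.nd (nat_lit 1866) (Tr.nd (nat_lit 1863) (Tr.nd (nat_lit 1862) (Tr.lf (Fc.ed (nat_lit 1861) (nat_lit 725) Col.f (nat_lit 595) (Dv.wd (nat_lit 26) [Mv.b (nat_lit 1576), Mv.f (nat_lit 1574), Mv.f (nat_lit 1859)])))
(Tr.lf (Fc.ed (nat_lit 1862) (nat_lit 597) Col.e (nat_lit 726) Dv.df)))
(Tr.nd (nat_lit 1864) (Tr.lf (Fc.ed (nat_lit 1863) (nat_lit 726) Col.f (nat_lit 726) (Dv.wd (nat_lit 80) [Mv.b (nat_lit 1862), Mv.b (nat_lit 1581), Mv.f (nat_lit 1285), Mv.f (nat_lit 1581), Mv.f (nat_lit 1862)])))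
(Tr.nd (nat_lit 1865) (Tr.lf (Fc.ed (nat_lit 1864) (nat_lit 598) Col.i (nat_lit 727) Dv.df))
(Tr.lf (Fc.ed (nat_lit 1865) (nat_lit 727) Col.b (nat_lit 600) (Dv.wd (nat_lit 22) [Mv.b (nat_lit 1587), Mv.f (nat_lit 1583), Mv.f (nat_lit 1864)]))))))
(Tr.nd (nat_lit 1868) (Tr.nd (nat_lit 1867) (Tr.lf (Fc.ed (nat_lit 1866) (nat_lit 727) Col.c (nat_lit 602) (Dv.wd (nat_lit 23) [Mv.b (nat_lit 1591), Mv.b (nat_lit 1584), Mv.f (nat_lit 1864)])))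
(Tr.lf (Fc.ed (nat_lit 1867) (nat_lit 599) Col.i (nat_lit 728) Dv.df)))
(Tr.nd (nat_lit 1869) (Tr.lf (Fc.ed (nat_lit 1868) (nat_lit 728) Col.k (nat_lit 606) (Dv.wd (nat_lit 21) [Mv.b (nat_lit 1600), Mv.b (nat_lit 1586), Mv.f (nat_lit 1867)])))
(Tr.nd (nat_lit 1870) (Tr.lf (Fc.ed (nat_lit 1869) (nat_lit 728) Col.f (nat_lit 600) (Dv.wd (nat_lit 26) [Mv.b (nat_lit 1587), Mv.f (nat_lit 1585), Mv.f (nat_lit 1867)])))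
(Tr.lf (Fc.ed (nat_lit 1870) (nat_lit 603) Col.h (nat_lit 729) Dv.df))))))
(Tr.nd (nat_lit 1876) (Tr.nd (nat_lit 1873) (Tr.nd (nat_lit 1872) (Tr.lf (Fc.ed (nat_lit 1871) (nat_lit 729) Col.e (nat_lit 703) (Dv.wd (nat_lit 117) [Mv.b (nat_lit 1810), Mv.b (nat_lit 1593), Mv.f (nat_lit 1870)])))
(Tr.lf (Fc.ed (nat_lit 1872) (nat_lit 604) Col.i (nat_lit 730) Dv.df)))
(Tr.nd (nat_lit 1874) (Tr.lf (Fc.ed (nat_lit 1873) (nat_lit 730) Col.b (nat_lit 606) (Dv.wd (nat_lit 22) [Mv.b (nat_lit 1600), Mv.b (nat_lit 1595), Mv.f (nat_lit 1872)])))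
(Tr.nd (nat_lit 1875) (Tr.lf (Fc.ed (nat_lit 1874) (nat_lit 730) Col.c (nat_lit 609) (Dv.wd (nat_lit 23) [Mv.b (nat_lit 1606), Mv.b (nat_lit 1596), Mv.f (nat_lit 1872)])))
(Tr.lf (Fc.ed (nat_lit 1875) (nat_lit 605) Col.i (nat_lit 731) Dv.df)))))
(Tr.nd (nat_lit 1879) (Tr.nd (nat_lit 1877) (Tr.lf (Fc.ed (nat_lit 1876) (nat_lit 731) Col.c (nat_lit 725) (Dv.wd (nat_lit 23) [Mv.b (nat_lit 1859), Mv.b (nat_lit 1598), Mv.f (nat_lit 1875)])))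
(Tr.nd (nat_lit 1878) (Tr.lf (Fc.ed (nat_lit 1877) (nat_lit 731) Col.d (nat_lit 606) (Dv.wd (nat_lit 24) [Mv.b (nat_lit 1600), Mv.b (nat_lit 1599), Mv.f (nat_lit 1875)])))
(Tr.lf (Fc.ed (nat_lit 1878) (nat_lit 607) Col.c (nat_lit 732) Dv.df))))
(Tr.nd (nat_lit 1880) (Tr.lf (Fc.ed (nat_lit 1879) (nat_lit 732) Col.e (nat_lit 709) (Dv.wd (nat_lit 39) [Mv.f (nat_lit 1823), Mv.b (nat_lit 1603), Mv.f (nat_lit 1878)])))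
(Tr.nd (nat_lit 1881) (Tr.lf (Fc.ed (nat_lit 1880) (nat_lit 732) Col.f (nat_lit 732) (Dv.wd (nat_lit 29) [Mv.b (nat_lit 1878), Mv.f (nat_lit 1602), Mv.f (nat_lit 1878)])))
(Tr.lf (Fc.ed (nat_lit 1881) (nat_lit 607) Col.h (nat_lit 733) Dv.df)))))))))
(Tr.nd (nat_lit 1923) (Tr.nd (nat_lit 1902) (Tr.nd (nat_lit 1892) (Tr.nd (nat_lit 1887) (Tr.nd (nat_lit 1884) (Tr.nd (nat_lit 1883) (Tr.lf (Fc.ed (nat_lit 1882) (nat_lit 608) Col.d (nat_lit 734) Dv.df))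
(Tr.lf (Fc.ed (nat_lit 1883) (nat_lit 734) Col.b (nat_lit 610) (Dv.wd (nat_lit 127) [Mv.b (nat_lit 1607), Mv.b (nat_lit 1605), Mv.f (nat_lit 1882)]))))
(Tr.nd (nat_lit 1885) (Tr.lf (Fc.ed (nat_lit 1884) (nat_lit 608) Col.i (nat_lit 735) Dv.df))
(Tr.nd (nat_lit 1886) (Tr.lf (Fc.ed (nat_lit 1885) (nat_lit 735) Col.e (nat_lit 609) (Dv.wd (nat_lit 25) [Mv.b (nat_lit 1606), Mv.f (nat_lit 1604), Mv.f (nat_lit 1884)])))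
(Tr.lf (Fc.ed (nat_lit 1886) (nat_lit 610) Col.c (nat_lit 736) Dv.df)))))
(Tr.nd (nat_lit 1889) (Tr.nd (nat_lit 1888) (Tr.lf (Fc.ed (nat_lit 1887) (nat_lit 736) Col.d (nat_lit 612) (Dv.wd (nat_lit 126) [Mv.b (nat_lit 1611), Mv.b (nat_lit 1314), Mv.b (nat_lit 1311), Mv.f (nat_lit 1607), Mv.f (nat_lit 1886)])))
(Tr.lf (Fc.ed (nat_lit 1888) (nat_lit 612) Col.h (nat_lit 737) Dv.df)))
(Tr.nd (nat_lit 1890) (Tr.lf (Fc.ed (nat_lit 1889) (nat_lit 737) Col.c (nat_lit 613) (Dv.wd (nat_lit 131) [Mv.b (nat_lit 1613), Mv.f (nat_lit 1611), Mv.f (nat_lit 1888)])))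
(Tr.nd (nat_lit 1891) (Tr.lf (Fc.ed (nat_lit 1890) (nat_lit 737) Col.e (nat_lit 711) (Dv.wd (nat_lit 117) [Mv.b (nat_lit 1826), Mv.b (nat_lit 1612), Mv.f (nat_lit 1888)])))
(Tr.lf (Fc.ed (nat_lit 1891) (nat_lit 614) Col.h (nat_lit 738) Dv.df))))))
(Tr.nd (nat_lit 1897) (Tr.nd (nat_lit 1894) (Tr.nd (nat_lit 1893) (Tr.lf (Fc.ed (nat_lit 1892) (nat_lit 738) Col.c (nat_lit 615) (Dv.wd (nat_lit 131) [Mv.b (nat_lit 1617), Mv.f (nat_lit 1615), Mv.f (nat_lit 1891)])))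
(Tr.lf (Fc.ed (nat_lit 1893) (nat_lit 616) Col.d (nat_lit 739) Dv.df)))
(Tr.nd (nat_lit 1895) (Tr.lf (Fc.ed (nat_lit 1894) (nat_lit 616) Col.i (nat_lit 740) Dv.df))
(Tr.nd (nat_lit 1896) (Tr.lf (Fc.ed (nat_lit 1895) (nat_lit 740) Col.e (nat_lit 716) (Dv.wd (nat_lit 25) [Mv.b (nat_lit 1838), Mv.b (nat_lit 1619), Mv.f (nat_lit 1894)])))
(Tr.lf (Fc.ed (nat_lit 1896) (nat_lit 617) Col.f (nat_lit 741) Dv.df)))))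
(Tr.nd (nat_lit 1899) (Tr.nd (nat_lit 1898) (Tr.lf (Fc.ed (nat_lit 1897) (nat_lit 741) Col.l (nat_lit 620) (Dv.wd (nat_lit 76) [Mv.b (nat_lit 1626), Mv.b (nat_lit 1621), Mv.f (nat_lit 1896)])))
(Tr.lf (Fc.ed (nat_lit 1898) (nat_lit 741) Col.a (nat_lit 618) (Dv.wd (nat_lit 78) [Mv.b (nat_lit 1622), Mv.f (nat_lit 1620), Mv.f (nat_lit 1896)]))))
(Tr.nd (nat_lit 1900) (Tr.lf (Fc.ed (nat_lit 1899) (nat_lit 618) Col.e (nat_lit 742) Dv.df))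
(Tr.nd (nat_lit 1901) (Tr.lf (Fc.ed (nat_lit 1900) (nat_lit 742) Col.b (nat_lit 619) (Dv.wd (nat_lit 97) [Mv.b (nat_lit 1624), Mv.b (nat_lit 1623), Mv.f (nat_lit 1899)])))
(Tr.lf (Fc.ed (nat_lit 1901) (nat_lit 620) Col.e (nat_lit 743) Dv.df)))))))
(Tr.nd (nat_lit 1912) (Tr.nd (nat_lit 1907) (Tr.nd (nat_lit 1904) (Tr.nd (nat_lit 1903) (Tr.lf (Fc.ed (nat_lit 1902) (nat_lit 743) Col.a (nat_lit 621) (Dv.wd (nat_lit 70) [Mv.b (nat_lit 1629), Mv.b (nat_lit 1627), Mv.f (nat_lit 1901)])))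
(Tr.lf (Fc.ed (nat_lit 1903) (nat_lit 743) Col.h (nat_lit 726) (Dv.wd (nat_lit 71) [Mv.b (nat_lit 1862), Mv.b (nat_lit 1628), Mv.f (nat_lit 1901)]))))
(Tr.nd (nat_lit 1905) (Tr.lf (Fc.ed (nat_lit 1904) (nat_lit 622) Col.c (nat_lit 744) Dv.df))
(Tr.nd (nat_lit 1906) (Tr.lf (Fc.ed (nat_lit 1905) (nat_lit 744) Col.k (nat_lit 624) (Dv.wd (nat_lit 86) [Mv.b (nat_lit 1639), Mv.b (nat_lit 1633), Mv.f (nat_lit 1904)])))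
(Tr.lf (Fc.ed (nat_lit 1906) (nat_lit 622) Col.h (nat_lit 745) Dv.df)))))
(Tr.nd (nat_lit 1909) (Tr.nd (nat_lit 1908) (Tr.lf (Fc.ed (nat_lit 1907) (nat_lit 745) Col.d (nat_lit 729) (Dv.wd (nat_lit 118) [Mv.b (nat_lit 1870), Mv.b (nat_lit 1592), Mv.b (nat_lit 1335), Mv.f (nat_lit 1632), Mv.f (nat_lit 1906)])))
(Tr.lf (Fc.ed (nat_lit 1908) (nat_lit 623) Col.h (nat_lit 746) Dv.df)))
(Tr.nd (nat_lit 1910) (Tr.lf (Fc.ed (nat_lit 1909) (nat_lit 746) Col.e (nat_lit 746) (Dv.wd (nat_lit 117) [Mv.b (nat_lit 1908), Mv.f (nat_lit 1638), Mv.f (nat_lit 1908)])))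
(Tr.nd (nat_lit 1911) (Tr.lf (Fc.ed (nat_lit 1910) (nat_lit 746) Col.f (nat_lit 746) (Dv.wd (nat_lit 84) [Mv.b (nat_lit 1908), Mv.f (nat_lit 1637), Mv.f (nat_lit 1908)])))
(Tr.lf (Fc.ed (nat_lit 1911) (nat_lit 746) Col.d (nat_lit 733) (Dv.wd (nat_lit 118) [Mv.b (nat_lit 1881), Mv.b (nat_lit 1601), Mv.b (nat_lit 1339), Mv.f (nat_lit 1634), Mv.f (nat_lit 1908)])))))))
(Tr.nd (nat_lit 1917) (Tr.nd (nat_lit 1914) (Tr.nd (nat_lit 1913) (Tr.lf (Fc.ed (nat_lit 1912) (nat_lit 624) Col.h (nat_lit 747) Dv.df))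
(Tr.lf (Fc.ed (nat_lit 1913) (nat_lit 747) Col.c (nat_lit 625) (Dv.wd (nat_lit 131) [Mv.b (nat_lit 1640), Mv.f (nat_lit 1639), Mv.f (nat_lit 1912)]))))
(Tr.nd (nat_lit 1915) (Tr.lf (Fc.ed (nat_lit 1914) (nat_lit 627) Col.c (nat_lit 748) Dv.df))
(Tr.nd (nat_lit 1916) (Tr.lf (Fc.ed (nat_lit 1915) (nat_lit 748) Col.d (nat_lit 744) (Dv.wd (nat_lit 126) [Mv.b (nat_lit 1904), Mv.b (nat_lit 1632), Mv.b (nat_lit 1345), Mv.f (nat_lit 1644), Mv.f (nat_lit 1914)])))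
(Tr.lf (Fc.ed (nat_lit 1916) (nat_lit 628) Col.a (nat_lit 749) Dv.df)))))
(Tr.nd (nat_lit 1920) (Tr.nd (nat_lit 1918) (Tr.lf (Fc.ed (nat_lit 1917) (nat_lit 749) Col.d (nat_lit 655) (Dv.wd (nat_lit 36) [Mv.b (nat_lit 1704), Mv.b (nat_lit 1646), Mv.f (nat_lit 1916)])))
(Tr.nd (nat_lit 1919) (Tr.lf (Fc.ed (nat_lit 1918) (nat_lit 628) Col.e (nat_lit 750) Dv.df))
(Tr.lf (Fc.ed (nat_lit 1919) (nat_lit 750) Col.b (nat_lit 629) (Dv.wd (nat_lit 97) [Mv.b (nat_lit 1647), Mv.f (nat_lit 1645), Mv.f (nat_lit 1918)])))))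
(Tr.nd (nat_lit 1921) (Tr.lf (Fc.ed (nat_lit 1920) (nat_lit 631) Col.b (nat_lit 751) Dv.df))
(Tr.nd (nat_lit 1922) (Tr.lf (Fc.ed (nat_lit 1921) (nat_lit 751) Col.i (nat_lit 751) (Dv.wd (nat_lit 16) [Mv.b (nat_lit 1920), Mv.f (nat_lit 1651), Mv.f (nat_lit 1920)])))
(Tr.lf (Fc.ed (nat_lit 1922) (nat_lit 631) Col.h (nat_lit 752) Dv.df))))))))
(Tr.nd (nat_lit 1943) (Tr.nd (nat_lit 1933) (Tr.nd (nat_lit 1928) (Tr.nd (nat_lit 1925) (Tr.nd (nat_lit 1924) (Tr.lf (Fc.ed (nat_lit 1923) (nat_lit 752) Col.c (nat_lit 632) (Dv.wd (nat_lit 131) [Mv.b (nat_lit 1652), Mv.f (nat_lit 1650), Mv.f (nat_lit 1922)])))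
(Tr.lf (Fc.ed (nat_lit 1924) (nat_lit 633) Col.b (nat_lit 753) Dv.df)))
(Tr.nd (nat_lit 1926) (Tr.lf (Fc.ed (nat_lit 1925) (nat_lit 753) Col.k (nat_lit 635) (Dv.wd (nat_lit 89) [Mv.b (nat_lit 1658), Mv.b (nat_lit 1654), Mv.f (nat_lit 1924)])))
(Tr.nd (nat_lit 1927) (Tr.lf (Fc.ed (nat_lit 1926) (nat_lit 753) Col.f (nat_lit 753) (Dv.wd (nat_lit 90) [Mv.b (nat_lit 1924), Mv.f (nat_lit 1655), Mv.f (nat_lit 1924)])))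
(Tr.lf (Fc.ed (nat_lit 1927) (nat_lit 633) Col.h (nat_lit 754) Dv.df)))))
(Tr.nd (nat_lit 1930) (Tr.nd (nat_lit 1929) (Tr.lf (Fc.ed (nat_lit 1928) (nat_lit 754) Col.c (nat_lit 634) (Dv.wd (nat_lit 131) [Mv.b (nat_lit 1656), Mv.f (nat_lit 1653), Mv.f (nat_lit 1927)])))
(Tr.lf (Fc.ed (nat_lit 1929) (nat_lit 635) Col.a (nat_lit 755) Dv.df)))
(Tr.nd (nat_lit 1931) (Tr.lf (Fc.ed (nat_lit 1930) (nat_lit 755) Col.b (nat_lit 650) (Dv.wd (nat_lit 123) [Mv.b (nat_lit 1693), Mv.b (nat_lit 1407), Mv.b (nat_lit 1365), Mv.f (nat_lit 1658), Mv.f (nat_lit 1929)])))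
(Tr.nd (nat_lit 1932) (Tr.lf (Fc.ed (nat_lit 1931) (nat_lit 636) Col.b (nat_lit 756) Dv.df))
(Tr.lf (Fc.ed (nat_lit 1932) (nat_lit 756) Col.e (nat_lit 753) (Dv.wd (nat_lit 40) [Mv.b (nat_lit 1924), Mv.b (nat_lit 1660), Mv.f (nat_lit 1931)])))))))
(Tr.nd (nat_lit 1938) (Tr.nd (nat_lit 1935) (Tr.nd (nat_lit 1934) (Tr.lf (Fc.ed (nat_lit 1933) (nat_lit 636) Col.h (nat_lit 757) Dv.df))
(Tr.lf (Fc.ed (nat_lit 1934) (nat_lit 757) Col.e (nat_lit 754) (Dv.wd (nat_lit 117) [Mv.b (nat_lit 1927), Mv.b (nat_lit 1660), Mv.f (nat_lit 1933)]))))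
(Tr.nd (nat_lit 1936) (Tr.lf (Fc.ed (nat_lit 1935) (nat_lit 637) Col.b (nat_lit 758) Dv.df))
(Tr.nd (nat_lit 1937) (Tr.lf (Fc.ed (nat_lit 1936) (nat_lit 758) Col.e (nat_lit 656) (Dv.wd (nat_lit 40) [Mv.f (nat_lit 1709), Mv.b (nat_lit 1662), Mv.f (nat_lit 1935)])))
(Tr.lf (Fc.ed (nat_lit 1937) (nat_lit 758) Col.c (nat_lit 657) (Dv.wd (nat_lit 111) [Mv.f (nat_lit 1712), Mv.f (nat_lit 1431), Mv.f (nat_lit 1414), Mv.f (nat_lit 1661), Mv.f (nat_lit 1935)]))))))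
(Tr.nd (nat_lit 1940) (Tr.nd (nat_lit 1939) (Tr.lf (Fc.ed (nat_lit 1938) (nat_lit 664) Col.a (nat_lit 758) (Dv.wd (nat_lit 62) [Mv.f (nat_lit 1937), Mv.f (nat_lit 1711), Mv.b (nat_lit 1729)])))
(Tr.lf (Fc.ed (nat_lit 1939) (nat_lit 639) Col.d (nat_lit 759) Dv.df)))
(Tr.nd (nat_lit 1941) (Tr.lf (Fc.ed (nat_lit 1940) (nat_lit 759) Col.h (nat_lit 640) (Dv.wd (nat_lit 142) [Mv.b (nat_lit 1666), Mv.b (nat_lit 1373), Mv.b (nat_lit 1372), Mv.f (nat_lit 1665), Mv.f (nat_lit 1939)])))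
(Tr.nd (nat_lit 1942) (Tr.lf (Fc.ed (nat_lit 1941) (nat_lit 640) Col.e (nat_lit 760) Dv.df))
(Tr.lf (Fc.ed (nat_lit 1942) (nat_lit 760) Col.f (nat_lit 760) (Dv.wd (nat_lit 80) [Mv.b (nat_lit 1941), Mv.f (nat_lit 1667), Mv.f (nat_lit 1377), Mv.b (nat_lit 1667), Mv.f (nat_lit 1941)]))))))))
(Tr.nd (nat_lit 1953) (Tr.nd (nat_lit 1948) (Tr.nd (nat_lit 1945) (Tr.nd (nat_lit 1944) (Tr.lf (Fc.ed (nat_lit 1943) (nat_lit 641) Col.i (nat_lit 761) Dv.df))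
(Tr.lf (Fc.ed (nat_lit 1944) (nat_lit 761) Col.d (nat_lit 653) (Dv.wd (nat_lit 24) [Mv.b (nat_lit 1699), Mv.f (nat_lit 1671), Mv.f (nat_lit 1943)]))))
(Tr.nd (nat_lit 1946) (Tr.lf (Fc.ed (nat_lit 1945) (nat_lit 761) Col.e (nat_lit 642) (Dv.wd (nat_lit 25) [Mv.b (nat_lit 1672), Mv.f (nat_lit 1668), Mv.f (nat_lit 1943)])))
(Tr.nd (nat_lit 1947) (Tr.lf (Fc.al (nat_lit 1946) (nat_lit 725) (nat_lit 596) (Dv.wd (nat_lit 144) [Mv.f (nat_lit 1579), Mv.b (nat_lit 1515), Mv.f (nat_lit 1221), Mv.f (nat_lit 1212), Mv.f (nat_lit 1213), Mv.f (nat_lit 1214), Mv.b (nat_lit 1203), Mv.b (nat_lit 1202), Mv.f (nat_lit 913), Mv.f (nat_lit 1204), Mv.f (nat_lit 1205), Mv.f (nat_lit 1206), Mv.b (nat_lit 1192), Mv.f (nat_lit 1193), Mv.b (nat_lit 1468), Mv.b (nat_lit 1758), Mv.b (nat_lit 1757), Mv.f (nat_lit 1465),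 Mv.f (nat_lit 1466), Mv.b (nat_lit 1470), Mv.b (nat_lit 1700), Mv.b (nat_lit 1944), Mv.f (nat_lit 1945), Mv.f (nat_lit 1673), Mv.f (nat_lit 1674), Mv.f (nat_lit 1675), Mv.f (nat_lit 1386), Mv.f (nat_lit 1082), Mv.f (nat_lit 1058), Mv.b (nat_lit 1104), Mv.b (nat_lit 1402), Mv.b (nat_lit 1401), Mv.f (nat_lit 1099), Mv.f (nat_lit 1100), Mv.f (nat_lit 1101), Mv.f (nat_lit 1062), Mv.b (nat_lit 1356), Mv.f (nat_lit 1357), Mv.f (nat_lit 1358), Mv.f (nat_lit 1354), Mv.f (nat_lit 1355), Mv.f (nat_lit 1125), Mv.b (nat_lit 846), Mv.f (nat_lit 847), Mv.f (nat_lit 848), Mv.f (nat_lit 1140), Mv.f (nat_lit 1141), Mv.f (nat_lit 853), Mv.f (nat_lit 564), Mv.b (nat_lit 363), Mv.f (nat_lit 615), Mv.f (nat_lit 904), Mv.f (nat_lit 907), Mv.f (nat_lit 905), Mv.f (nat_lit 906), Mv.f (nat_lit 620), Mv.b (nat_lit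 391), Mv.f (nat_lit 640), Mv.b (nat_lit 927), Mv.f (nat_lit 926), Mv.b (nat_lit 976), Mv.b (nat_lit 1282), Mv.b (nat_lit 1578), Mv.b (nat_lit 1860)])))
(Tr.lf (Fc.al (nat_lit 1947) (nat_lit 461) (nat_lit 731) (Dv.wd (nat_lit 145) [Mv.f (nat_lit 1876), Mv.f (nat_lit 1946), Mv.f (nat_lit 1578)]))))))
(Tr.nd (nat_lit 1950) (Tr.nd (nat_lit 1949) (Tr.lf (Fc.al (nat_lit 1948) (nat_lit 460) (nat_lit 595) (Dv.wd (nat_lit 137) [Mv.b (nat_lit 1861), Mv.f (nat_lit 1946), Mv.f (nat_lit 1580)])))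
(Tr.lf (Fc.al (nat_lit 1949) (nat_lit 473) (nat_lit 606) (Dv.wd (nat_lit 134) [Mv.b (nat_lit 1877), Mv.b (nat_lit 1947), Mv.b (nat_lit 1305)]))))
(Tr.nd (nat_lit 1951) (Tr.lf (Fc.al (nat_lit 1950) (nat_lit 434) (nat_lit 724) (Dv.wd (nat_lit 133) [Mv.f (nat_lit 1858), Mv.b (nat_lit 1948), Mv.f (nat_lit 1280)])))
(Tr.nd (nat_lit 1952) (Tr.lf (Fc.al (nat_lit 1951) (nat_lit 601) (nat_lit 728) (Dv.wd (nat_lit 146) [Mv.f (nat_lit 1868), Mv.b (nat_lit 1949), Mv.b (nat_lit 1589)])))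
(Tr.lf (Fc.al (nat_lit 1952) (nat_lit 340) (nat_lit 730) (Dv.wd (nat_lit 132) [Mv.f (nat_lit 1873), Mv.b (nat_lit 1949), Mv.f (nat_lit 1304)])))))))
(Tr.nd (nat_lit 1958) (Tr.nd (nat_lit 1955) (Tr.nd (nat_lit 1954) (Tr.lf (Fc.al (nat_lit 1953) (nat_lit 566) (nat_lit 696) (Dv.wd (nat_lit 134) [Mv.b (nat_lit 1857), Mv.b (nat_lit 1950), Mv.b (nat_lit 1513)])))
(Tr.lf (Fc.al (nat_lit 1954) (nat_lit 465) (nat_lit 600) (Dv.wd (nat_lit 137) [Mv.b (nat_lit 1869), Mv.b (nat_lit 1951), Mv.f (nat_lit 1590)]))))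
(Tr.nd (nat_lit 1956) (Tr.lf (Fc.al (nat_lit 1955) (nat_lit 476) (nat_lit 609) (Dv.wd (nat_lit 145) [Mv.b (nat_lit 1874), Mv.b (nat_lit 1952), Mv.b (nat_lit 1313)])))
(Tr.nd (nat_lit 1957) (Tr.lf (Fc.al (nat_lit 1956) (nat_lit 455) (nat_lit 590) (Dv.wd (nat_lit 136) [Mv.b (nat_lit 1797), Mv.b (nat_lit 1953), Mv.f (nat_lit 1514)])))
(Tr.lf (Fc.al (nat_lit 1957) (nat_lit 334) (nat_lit 727) (Dv.wd (nat_lit 132) [Mv.f (nat_lit 1865), Mv.b (nat_lit 1954), Mv.f (nat_lit 1291)]))))))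
(Tr.nd (nat_lit 1961) (Tr.nd (nat_lit 1959) (Tr.lf (Fc.al (nat_lit 1958) (nat_lit 611) (nat_lit 735) (Dv.wd (nat_lit 133) [Mv.f (nat_lit 1885), Mv.b (nat_lit 1955), Mv.b (nat_lit 1610)])))
(Tr.nd (nat_lit 1960) (Tr.lf (Fc.al (nat_lit 1959) (nat_lit 338) (nat_lit 474) (Dv.wd (nat_lit 136) [Mv.f (nat_lit 1606), Mv.b (nat_lit 1955), Mv.b (nat_lit 1312)])))
(Tr.lf (Fc.al (nat_lit 1960) (nat_lit 443) (nat_lit 721) (Dv.wd (nat_lit 137) [Mv.b (nat_lit 1848), Mv.b (nat_lit 1956), Mv.f (nat_lit 1270)])))))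
(Tr.nd (nat_lit 1962) (Tr.lf (Fc.al (nat_lit 1961) (nat_lit 467) (nat_lit 602) (Dv.wd (nat_lit 145) [Mv.b (nat_lit 1866), Mv.b (nat_lit 1957), Mv.b (nat_lit 1294)])))
(Tr.nd (nat_lit 1963) (Tr.lf (Fc.al (nat_lit 1962) (nat_lit 475) (nat_lit 608) (Dv.wd (nat_lit 136) [Mv.f (nat_lit 1884), Mv.b (nat_lit 1958), Mv.b (nat_lit 1609)])))
(Tr.lf (Fc.al (nat_lit 1963) (nat_lit 226) (nat_lit 352) (Dv.wd (nat_lit 135) [Mv.b (nat_lit 1308), Mv.b (nat_lit 1959), Mv.f (nat_lit 996)])))))))))))))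
(Tr.nd (nat_lit 2291) (Tr.nd (nat_lit 2127) (Tr.nd (nat_lit 2045) (Tr.nd (nat_lit 2004) (Tr.nd (nat_lit 1984) (Tr.nd (nat_lit 1974) (Tr.nd (nat_lit 1969) (Tr.nd (nat_lit 1966) (Tr.nd (nat_lit 1965) (Tr.lf (Fc.al (nat_lit 1964) (nat_lit 575) (nat_lit 705) (Dv.wd (nat_lit 133) [Mv.b (nat_lit 1849), Mv.b (nat_lit 1960), Mv.f (nat_lit 1533)])))
(Tr.lf (Fc.al (nat_lit 1965) (nat_lit 332) (nat_lit 466) (Dv.wd (nat_lit 136) [Mv.f (nat_lit 1591), Mv.b (nat_lit 1961), Mv.b (nat_lit 1293)]))))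
(Tr.nd (nat_lit 1967) (Tr.lf (Fc.al (nat_lit 1966) (nat_lit 610) (nat_lit 734) (Dv.wd (nat_lit 134) [Mv.b (nat_lit 1882), Mv.b (nat_lit 1962), Mv.f (nat_lit 1607)])))
(Tr.nd (nat_lit 1968) (Tr.lf (Fc.ed (nat_lit 1967) (nat_lit 226) Col.b (nat_lit 226) (Dv.wd (nat_lit 132) [Mv.b (nat_lit 1029), Mv.b (nat_lit 1963)])))
(Tr.lf (Fc.al (nat_lit 1968) (nat_lit 565) (nat_lit 695) (Dv.wd (nat_lit 136) [Mv.b (nat_lit 1815), Mv.b (nat_lit 1964), Mv.f (nat_lit 1534)]))))))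
(Tr.nd (nat_lit 1971) (Tr.nd (nat_lit 1970) (Tr.lf (Fc.ed (nat_lit 1969) (nat_lit 332) Col.b (nat_lit 332) (Dv.wd (nat_lit 132) [Mv.f (nat_lit 1292), Mv.b (nat_lit 1965)])))
(Tr.lf (Fc.ed (nat_lit 1970) (nat_lit 610) Col.b (nat_lit 610) (Dv.wd (nat_lit 132) [Mv.b (nat_lit 1883), Mv.b (nat_lit 1966)]))))
(Tr.nd (nat_lit 1972) (Tr.lf (Fc.ed (nat_lit 1971) (nat_lit 565) Col.f (nat_lit 565) (Dv.wd (nat_lit 137) [Mv.f (nat_lit 1795), Mv.b (nat_lit 1968)])))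
(Tr.nd (nat_lit 1973) (Tr.lf (Fc.ed (nat_lit 1972) (nat_lit 694) Col.f (nat_lit 694) (Dv.wd (nat_lit 140) [Mv.f (nat_lit 1794), Mv.f (nat_lit 1971), Mv.b (nat_lit 1794)])))
(Tr.lf (Fc.ed (nat_lit 1973) (nat_lit 702) Col.f (nat_lit 702) (Dv.wd (nat_lit 147) [Mv.f (nat_lit 1809), Mv.f (nat_lit 1972), Mv.b (nat_lit 1809)])))))))
(Tr.nd (nat_lit 1979) (Tr.nd (nat_lit 1976) (Tr.nd (nat_lit 1975) (Tr.lf (Fc.ed (nat_lit 1974) (nat_lit 644) Col.i (nat_lit 762) Dv.df))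
(Tr.lf (Fc.ed (nat_lit 1975) (nat_lit 762) Col.k (nat_lit 646) (Dv.wd (nat_lit 21) [Mv.b (nat_lit 1682), Mv.b (nat_lit 1677), Mv.f (nat_lit 1974)]))))
(Tr.nd (nat_lit 1977) (Tr.lf (Fc.ed (nat_lit 1976) (nat_lit 762) Col.a (nat_lit 653) (Dv.wd (nat_lit 121) [Mv.b (nat_lit 1699), Mv.b (nat_lit 1678), Mv.f (nat_lit 1974)])))
(Tr.nd (nat_lit 1978) (Tr.lf (Fc.ed (nat_lit 1977) (nat_lit 645) Col.b (nat_lit 763) Dv.df))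
(Tr.lf (Fc.ed (nat_lit 1978) (nat_lit 763) Col.f (nat_lit 750) (Dv.wd (nat_lit 90) [Mv.f (nat_lit 1919), Mv.b (nat_lit 1681), Mv.f (nat_lit 1977)]))))))
(Tr.nd (nat_lit 1981) (Tr.nd (nat_lit 1980) (Tr.lf (Fc.ed (nat_lit 1979) (nat_lit 645) Col.i (nat_lit 764) Dv.df))
(Tr.lf (Fc.ed (nat_lit 1980) (nat_lit 764) Col.c (nat_lit 646) (Dv.wd (nat_lit 23) [Mv.b (nat_lit 1682), Mv.f (nat_lit 1680), Mv.f (nat_lit 1979)]))))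
(Tr.nd (nat_lit 1982) (Tr.lf (Fc.ed (nat_lit 1981) (nat_lit 646) Col.h (nat_lit 765) Dv.df))
(Tr.nd (nat_lit 1983) (Tr.lf (Fc.ed (nat_lit 1982) (nat_lit 765) Col.b (nat_lit 647) (Dv.wd (nat_lit 101) [Mv.b (nat_lit 1685), Mv.b (nat_lit 1683), Mv.f (nat_lit 1981)])))
(Tr.lf (Fc.ed (nat_lit 1983) (nat_lit 647) Col.d (nat_lit 766) Dv.df)))))))
(Tr.nd (nat_lit 1994) (Tr.nd (nat_lit 1989) (Tr.nd (nat_lit 1986) (Tr.nd (nat_lit 1985) (Tr.lf (Fc.ed (nat_lit 1984) (nat_lit 766) Col.a (nat_lit 759) (Dv.wd (nat_lit 74) [Mv.b (nat_lit 1939), Mv.b (nat_lit 1686), Mv.f (nat_lit 1983)])))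
(Tr.lf (Fc.ed (nat_lit 1985) (nat_lit 648) Col.b (nat_lit 767) Dv.df)))
(Tr.nd (nat_lit 1987) (Tr.lf (Fc.ed (nat_lit 1986) (nat_lit 767) Col.d (nat_lit 758) (Dv.wd (nat_lit 35) [Mv.b (nat_lit 1935), Mv.b (nat_lit 1690), Mv.f (nat_lit 1985)])))
(Tr.nd (nat_lit 1988) (Tr.lf (Fc.ed (nat_lit 1987) (nat_lit 767) Col.f (nat_lit 756) (Dv.wd (nat_lit 90) [Mv.b (nat_lit 1931), Mv.b (nat_lit 1689), Mv.f (nat_lit 1985)])))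
(Tr.lf (Fc.ed (nat_lit 1988) (nat_lit 767) Col.c (nat_lit 767) (Dv.wd (nat_lit 111) [Mv.b (nat_lit 1985), Mv.b (nat_lit 1687), Mv.f (nat_lit 1399), Mv.f (nat_lit 1687), Mv.f (nat_lit 1985)]))))))
(Tr.nd (nat_lit 1991) (Tr.nd (nat_lit 1990) (Tr.lf (Fc.ed (nat_lit 1989) (nat_lit 648) Col.h (nat_lit 768) Dv.df))
(Tr.lf (Fc.ed (nat_lit 1990) (nat_lit 768) Col.f (nat_lit 757) (Dv.wd (nat_lit 84) [Mv.b (nat_lit 1933), Mv.b (nat_lit 1689), Mv.f (nat_lit 1989)]))))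
(Tr.nd (nat_lit 1992) (Tr.lf (Fc.ed (nat_lit 1991) (nat_lit 649) Col.a (nat_lit 769) Dv.df))
(Tr.nd (nat_lit 1993) (Tr.lf (Fc.ed (nat_lit 1992) (nat_lit 769) Col.c (nat_lit 650) (Dv.wd (nat_lit 45) [Mv.b (nat_lit 1693), Mv.b (nat_lit 1692), Mv.f (nat_lit 1991)])))
(Tr.lf (Fc.ed (nat_lit 1993) (nat_lit 650) Col.k (nat_lit 770) Dv.df))))))
(Tr.nd (nat_lit 1999) (Tr.nd (nat_lit 1996) (Tr.nd (nat_lit 1995) (Tr.lf (Fc.ed (nat_lit 1994) (nat_lit 651) Col.a (nat_lit 771) Dv.df))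
(Tr.lf (Fc.ed (nat_lit 1995) (nat_lit 771) Col.l (nat_lit 655) (Dv.wd (nat_lit 108) [Mv.b (nat_lit 1704), Mv.b (nat_lit 1695), Mv.f (nat_lit 1994)]))))
(Tr.nd (nat_lit 1997) (Tr.lf (Fc.ed (nat_lit 1996) (nat_lit 771) Col.d (nat_lit 769) (Dv.wd (nat_lit 36) [Mv.b (nat_lit 1991), Mv.b (nat_lit 1696), Mv.f (nat_lit 1994)])))
(Tr.nd (nat_lit 1998) (Tr.lf (Fc.ed (nat_lit 1997) (nat_lit 653) Col.h (nat_lit 772) Dv.df))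
(Tr.lf (Fc.ed (nat_lit 1998) (nat_lit 772) Col.f (nat_lit 654) (Dv.wd (nat_lit 84) [Mv.b (nat_lit 1702), Mv.b (nat_lit 1701), Mv.f (nat_lit 1997)]))))))
(Tr.nd (nat_lit 2001) (Tr.nd (nat_lit 2000) (Tr.lf (Fc.ed (nat_lit 1999) (nat_lit 656) Col.h (nat_lit 773) Dv.df))
(Tr.lf (Fc.ed (nat_lit 2000) (nat_lit 773) Col.a (nat_lit 665) (Dv.wd (nat_lit 83) [Mv.b (nat_lit 1730), Mv.b (nat_lit 1707), Mv.f (nat_lit 1999)]))))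
(Tr.nd (nat_lit 2002) (Tr.lf (Fc.ed (nat_lit 2001) (nat_lit 657) Col.f (nat_lit 774) Dv.df))
(Tr.nd (nat_lit 2003) (Tr.lf (Fc.ed (nat_lit 2002) (nat_lit 774) Col.a (nat_lit 666) (Dv.wd (nat_lit 78) [Mv.b (nat_lit 1733), Mv.b (nat_lit 1711), Mv.f (nat_lit 2001)])))
(Tr.lf (Fc.ed (nat_lit 2003) (nat_lit 774) Col.b (nat_lit 658) (Dv.wd (nat_lit 128) [Mv.b (nat_lit 1713), Mv.b (nat_lit 1712), Mv.f (nat_lit 2001)])))))))))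
(Tr.nd (nat_lit 2024) (Tr.nd (nat_lit 2014) (Tr.nd (nat_lit 2009) (Tr.nd (nat_lit 2006) (Tr.nd (nat_lit 2005) (Tr.lf (Fc.ed (nat_lit 2004) (nat_lit 658) Col.h (nat_lit 775) Dv.df))
(Tr.lf (Fc.ed (nat_lit 2005) (nat_lit 775) Col.a (nat_lit 660) (Dv.wd (nat_lit 83) [Mv.b (nat_lit 1720), Mv.b (nat_lit 1714), Mv.f (nat_lit 2004)]))))
(Tr.nd (nat_lit 2007) (Tr.lf (Fc.ed (nat_lit 2006) (nat_lit 775) Col.f (nat_lit 659) (Dv.wd (nat_lit 84) [Mv.b (nat_lit 1717), Mv.f (nat_lit 1713), Mv.f (nat_lit 2004)])))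
(Tr.nd (nat_lit 2008) (Tr.lf (Fc.ed (nat_lit 2007) (nat_lit 659) Col.d (nat_lit 776) Dv.df))
(Tr.lf (Fc.ed (nat_lit 2008) (nat_lit 776) Col.e (nat_lit 776) (Dv.wd (nat_lit 75) [Mv.b (nat_lit 2007), Mv.f (nat_lit 1719), Mv.f (nat_lit 1434), Mv.b (nat_lit 1719), Mv.f (nat_lit 2007)]))))))
(Tr.nd (nat_lit 2011) (Tr.nd (nat_lit 2010) (Tr.lf (Fc.ed (nat_lit 2009) (nat_lit 660) Col.d (nat_lit 777) Dv.df))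
(Tr.lf (Fc.ed (nat_lit 2010) (nat_lit 777) Col.b (nat_lit 668) (Dv.wd (nat_lit 127) [Mv.b (nat_lit 1736), Mv.b (nat_lit 1721), Mv.f (nat_lit 2009)]))))
(Tr.nd (nat_lit 2012) (Tr.lf (Fc.ed (nat_lit 2011) (nat_lit 661) Col.k (nat_lit 778) Dv.df))
(Tr.nd (nat_lit 2013) (Tr.lf (Fc.ed (nat_lit 2012) (nat_lit 662) Col.c (nat_lit 779) Dv.df))
(Tr.lf (Fc.ed (nat_lit 2013) (nat_lit 779) Col.l (nat_lit 663) (Dv.wd (nat_lit 85) [Mv.b (nat_lit 1726), Mv.b (nat_lit 1725), Mv.f (nat_lit 2012)])))))))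
(Tr.nd (nat_lit 2019) (Tr.nd (nat_lit 2016) (Tr.nd (nat_lit 2015) (Tr.lf (Fc.ed (nat_lit 2014) (nat_lit 663) Col.e (nat_lit 780) Dv.df))
(Tr.lf (Fc.ed (nat_lit 2015) (nat_lit 780) Col.k (nat_lit 664) (Dv.wd (nat_lit 69) [Mv.b (nat_lit 1728), Mv.b (nat_lit 1727), Mv.f (nat_lit 2014)]))))
(Tr.nd (nat_lit 2017) (Tr.lf (Fc.ed (nat_lit 2016) (nat_lit 664) Col.d (nat_lit 781) Dv.df))
(Tr.nd (nat_lit 2018) (Tr.lf (Fc.ed (nat_lit 2017) (nat_lit 781) Col.a (nat_lit 767) (Dv.wd (nat_lit 74) [Mv.f (nat_lit 1986), Mv.b (nat_lit 1938), Mv.f (nat_lit 2016)])))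
(Tr.lf (Fc.ed (nat_lit 2018) (nat_lit 666) Col.h (nat_lit 782) Dv.df)))))
(Tr.nd (nat_lit 2021) (Tr.nd (nat_lit 2020) (Tr.lf (Fc.ed (nat_lit 2019) (nat_lit 782) Col.f (nat_lit 667) (Dv.wd (nat_lit 84) [Mv.b (nat_lit 1734), Mv.f (nat_lit 1733), Mv.f (nat_lit 2018)])))
(Tr.lf (Fc.ed (nat_lit 2020) (nat_lit 668) Col.c (nat_lit 783) Dv.df)))
(Tr.nd (nat_lit 2022) (Tr.lf (Fc.ed (nat_lit 2021) (nat_lit 783) Col.l (nat_lit 783) (Dv.wd (nat_lit 85) [Mv.b (nat_lit 2020), Mv.f (nat_lit 1737), Mv.f (nat_lit 2020)])))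
(Tr.nd (nat_lit 2023) (Tr.lf (Fc.ed (nat_lit 2022) (nat_lit 783) Col.f (nat_lit 669) (Dv.wd (nat_lit 29) [Mv.b (nat_lit 1740), Mv.b (nat_lit 1738), Mv.f (nat_lit 2020)])))
(Tr.lf (Fc.ed (nat_lit 2023) (nat_lit 783) Col.h (nat_lit 783) (Dv.wd (nat_lit 32) [Mv.b (nat_lit 2020), Mv.f (nat_lit 1739), Mv.f (nat_lit 2020)]))))))))
(Tr.nd (nat_lit 2034) (Tr.nd (nat_lit 2029) (Tr.nd (nat_lit 2026) (Tr.nd (nat_lit 2025) (Tr.lf (Fc.ed (nat_lit 2024) (nat_lit 783) Col.d (nat_lit 783) (Dv.wd (nat_lit 126) [Mv.b (nat_lit 2020), Mv.b (nat_lit 1736), Mv.f (nat_lit 1450), Mv.f (nat_lit 1736), Mv.f (nat_lit 2020)])))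
(Tr.lf (Fc.ed (nat_lit 2025) (nat_lit 669) Col.i (nat_lit 784) Dv.df)))
(Tr.nd (nat_lit 2027) (Tr.lf (Fc.ed (nat_lit 2026) (nat_lit 784) Col.c (nat_lit 670) (Dv.wd (nat_lit 23) [Mv.b (nat_lit 1742), Mv.f (nat_lit 1740), Mv.f (nat_lit 2025)])))
(Tr.nd (nat_lit 2028) (Tr.lf (Fc.ed (nat_lit 2027) (nat_lit 670) Col.h (nat_lit 785) Dv.df))
(Tr.lf (Fc.ed (nat_lit 2028) (nat_lit 671) Col.k (nat_lit 786) Dv.df)))))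
(Tr.nd (nat_lit 2031) (Tr.nd (nat_lit 2030) (Tr.lf (Fc.ed (nat_lit 2029) (nat_lit 786) Col.i (nat_lit 778) (Dv.wd (nat_lit 18) [Mv.b (nat_lit 2011), Mv.b (nat_lit 1745), Mv.f (nat_lit 2028)])))
(Tr.lf (Fc.ed (nat_lit 2030) (nat_lit 672) Col.c (nat_lit 787) Dv.df)))
(Tr.nd (nat_lit 2032) (Tr.lf (Fc.ed (nat_lit 2031) (nat_lit 787) Col.i (nat_lit 779) (Dv.wd (nat_lit 15) [Mv.b (nat_lit 2012), Mv.b (nat_lit 1748), Mv.f (nat_lit 2030)])))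
(Tr.nd (nat_lit 2033) (Tr.lf (Fc.ed (nat_lit 2032) (nat_lit 672) Col.e (nat_lit 788) Dv.df))
(Tr.lf (Fc.ed (nat_lit 2033) (nat_lit 788) Col.b (nat_lit 673) (Dv.wd (nat_lit 97) [Mv.b (nat_lit 1749), Mv.b (nat_lit 1747), Mv.f (nat_lit 2032)])))))))
(Tr.nd (nat_lit 2039) (Tr.nd (nat_lit 2036) (Tr.nd (nat_lit 2035) (Tr.lf (Fc.ed (nat_lit 2034) (nat_lit 673) Col.f (nat_lit 789) Dv.df))
(Tr.lf (Fc.ed (nat_lit 2035) (nat_lit 789) Col.l (nat_lit 675) (Dv.wd (nat_lit 76) [Mv.b (nat_lit 1754), Mv.b (nat_lit 1750), Mv.f (nat_lit 2034)]))))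
(Tr.nd (nat_lit 2037) (Tr.lf (Fc.ed (nat_lit 2036) (nat_lit 789) Col.a (nat_lit 789) (Dv.wd (nat_lit 78) [Mv.b (nat_lit 2034), Mv.f (nat_lit 1751), Mv.f (nat_lit 2034)])))
(Tr.nd (nat_lit 2038) (Tr.lf (Fc.ed (nat_lit 2037) (nat_lit 674) Col.d (nat_lit 790) Dv.df))
(Tr.lf (Fc.ed (nat_lit 2038) (nat_lit 790) Col.i (nat_lit 749) (Dv.wd (nat_lit 14) [Mv.f (nat_lit 1917), Mv.b (nat_lit 1753), Mv.f (nat_lit 2037)]))))))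
(Tr.nd (nat_lit 2042) (Tr.nd (nat_lit 2040) (Tr.lf (Fc.ed (nat_lit 2039) (nat_lit 675) Col.h (nat_lit 791) Dv.df))
(Tr.nd (nat_lit 2041) (Tr.lf (Fc.ed (nat_lit 2040) (nat_lit 791) Col.f (nat_lit 676) (Dv.wd (nat_lit 84) [Mv.b (nat_lit 1755), Mv.f (nat_lit 1754), Mv.f (nat_lit 2039)])))
(Tr.lf (Fc.ed (nat_lit 2041) (nat_lit 678) Col.i (nat_lit 792) Dv.df))))
(Tr.nd (nat_lit 2043) (Tr.lf (Fc.ed (nat_lit 2042) (nat_lit 792) Col.c (nat_lit 679) (Dv.wd (nat_lit 23) [Mv.b (nat_lit 1761), Mv.f (nat_lit 1759), Mv.f (nat_lit 2041)])))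
(Tr.nd (nat_lit 2044) (Tr.lf (Fc.ed (nat_lit 2043) (nat_lit 792) Col.e (nat_lit 697) (Dv.wd (nat_lit 25) [Mv.b (nat_lit 1798), Mv.b (nat_lit 1760), Mv.f (nat_lit 2041)])))
(Tr.lf (Fc.ed (nat_lit 2044) (nat_lit 679) Col.h (nat_lit 793) Dv.df)))))))))
(Tr.nd (nat_lit 2086) (Tr.nd (nat_lit 2065) (Tr.nd (nat_lit 2055) (Tr.nd (nat_lit 2050) (Tr.nd (nat_lit 2047) (Tr.nd (nat_lit 2046) (Tr.lf (Fc.ed (nat_lit 2045) (nat_lit 793) Col.d (nat_lit 785) (Dv.wd (nat_lit 118) [Mv.b (nat_lit 2027), Mv.f (nat_lit 1743), Mv.b (nat_lit 1474), Mv.b (nat_lit 1762), Mv.f (nat_lit 2044)])))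
(Tr.lf (Fc.ed (nat_lit 2046) (nat_lit 680) Col.k (nat_lit 794) Dv.df)))
(Tr.nd (nat_lit 2048) (Tr.lf (Fc.ed (nat_lit 2047) (nat_lit 794) Col.b (nat_lit 794) (Dv.wd (nat_lit 49) [Mv.b (nat_lit 2046), Mv.f (nat_lit 1765), Mv.f (nat_lit 2046)])))
(Tr.nd (nat_lit 2049) (Tr.lf (Fc.ed (nat_lit 2048) (nat_lit 794) Col.h (nat_lit 786) (Dv.wd (nat_lit 129) [Mv.b (nat_lit 2028), Mv.b (nat_lit 1764), Mv.f (nat_lit 2046)])))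
(Tr.lf (Fc.ed (nat_lit 2049) (nat_lit 794) Col.a (nat_lit 794) (Dv.wd (nat_lit 100) [Mv.b (nat_lit 2046), Mv.b (nat_lit 1763), Mv.f (nat_lit 1476), Mv.f (nat_lit 1763), Mv.f (nat_lit 2046)]))))))
(Tr.nd (nat_lit 2052) (Tr.nd (nat_lit 2051) (Tr.lf (Fc.ed (nat_lit 2050) (nat_lit 680) Col.d (nat_lit 795) Dv.df))
(Tr.lf (Fc.ed (nat_lit 2051) (nat_lit 795) Col.a (nat_lit 681) (Dv.wd (nat_lit 74) [Mv.b (nat_lit 1766), Mv.f (nat_lit 1763), Mv.f (nat_lit 2050)]))))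
(Tr.nd (nat_lit 2053) (Tr.lf (Fc.ed (nat_lit 2052) (nat_lit 681) Col.c (nat_lit 796) Dv.df))
(Tr.nd (nat_lit 2054) (Tr.lf (Fc.ed (nat_lit 2053) (nat_lit 796) Col.b (nat_lit 688) (Dv.wd (nat_lit 130) [Mv.b (nat_lit 1782), Mv.f (nat_lit 1498), Mv.b (nat_lit 1479), Mv.b (nat_lit 1767), Mv.f (nat_lit 2052)])))
(Tr.lf (Fc.ed (nat_lit 2054) (nat_lit 682) Col.d (nat_lit 797) Dv.df))))))
(Tr.nd (nat_lit 2060) (Tr.nd (nat_lit 2057) (Tr.nd (nat_lit 2056) (Tr.lf (Fc.ed (nat_lit 2055) (nat_lit 797) Col.a (nat_lit 683) (Dv.wd (nat_lit 74) [Mv.b (nat_lit 1772), Mv.b (nat_lit 1771), Mv.f (nat_lit 2054)])))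
(Tr.lf (Fc.ed (nat_lit 2056) (nat_lit 797) Col.f (nat_lit 797) (Dv.wd (nat_lit 28) [Mv.b (nat_lit 2054), Mv.f (nat_lit 1769), Mv.f (nat_lit 2054)]))))
(Tr.nd (nat_lit 2058) (Tr.lf (Fc.ed (nat_lit 2057) (nat_lit 683) Col.c (nat_lit 798) Dv.df))
(Tr.nd (nat_lit 2059) (Tr.lf (Fc.ed (nat_lit 2058) (nat_lit 798) Col.k (nat_lit 684) (Dv.wd (nat_lit 86) [Mv.b (nat_lit 1775), Mv.b (nat_lit 1773), Mv.f (nat_lit 2057)])))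
(Tr.lf (Fc.ed (nat_lit 2059) (nat_lit 798) Col.b (nat_lit 798) (Dv.wd (nat_lit 130) [Mv.b (nat_lit 2057), Mv.f (nat_lit 1774), Mv.f (nat_lit 1493), Mv.b (nat_lit 1774), Mv.f (nat_lit 2057)]))))))
(Tr.nd (nat_lit 2062) (Tr.nd (nat_lit 2061) (Tr.lf (Fc.ed (nat_lit 2060) (nat_lit 684) Col.e (nat_lit 799) Dv.df))
(Tr.lf (Fc.ed (nat_lit 2061) (nat_lit 799) Col.a (nat_lit 685) (Dv.wd (nat_lit 70) [Mv.b (nat_lit 1777), Mv.b (nat_lit 1776), Mv.f (nat_lit 2060)]))))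
(Tr.nd (nat_lit 2063) (Tr.lf (Fc.ed (nat_lit 2062) (nat_lit 685) Col.d (nat_lit 800) Dv.df))
(Tr.nd (nat_lit 2064) (Tr.lf (Fc.ed (nat_lit 2063) (nat_lit 800) Col.b (nat_lit 689) (Dv.wd (nat_lit 127) [Mv.b (nat_lit 1783), Mv.b (nat_lit 1778), Mv.f (nat_lit 2062)])))
(Tr.lf (Fc.ed (nat_lit 2064) (nat_lit 686) Col.d (nat_lit 801) Dv.df)))))))
(Tr.nd (nat_lit 2075) (Tr.nd (nat_lit 2070) (Tr.nd (nat_lit 2067) (Tr.nd (nat_lit 2066) (Tr.lf (Fc.ed (nat_lit 2065) (nat_lit 801) Col.k (nat_lit 687) (Dv.wd (nat_lit 73) [Mv.b (nat_lit 1780), Mv.f (nat_lit 1779), Mv.f (nat_lit 2064)])))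
(Tr.lf (Fc.ed (nat_lit 2066) (nat_lit 687) Col.c (nat_lit 802) Dv.df)))
(Tr.nd (nat_lit 2068) (Tr.lf (Fc.ed (nat_lit 2067) (nat_lit 802) Col.a (nat_lit 688) (Dv.wd (nat_lit 87) [Mv.b (nat_lit 1782), Mv.b (nat_lit 1781), Mv.f (nat_lit 2066)])))
(Tr.nd (nat_lit 2069) (Tr.lf (Fc.ed (nat_lit 2068) (nat_lit 689) Col.f (nat_lit 803) Dv.df))
(Tr.lf (Fc.ed (nat_lit 2069) (nat_lit 803) Col.c (nat_lit 692) (Dv.wd (nat_lit 98) [Mv.b (nat_lit 1789), Mv.b (nat_lit 1784), Mv.f (nat_lit 2068)]))))))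
(Tr.nd (nat_lit 2072) (Tr.nd (nat_lit 2071) (Tr.lf (Fc.ed (nat_lit 2070) (nat_lit 691) Col.e (nat_lit 804) Dv.df))
(Tr.lf (Fc.ed (nat_lit 2071) (nat_lit 693) Col.e (nat_lit 805) Dv.df)))
(Tr.nd (nat_lit 2073) (Tr.lf (Fc.ed (nat_lit 2072) (nat_lit 805) Col.h (nat_lit 804) (Dv.wd (nat_lit 71) [Mv.b (nat_lit 2070), Mv.b (nat_lit 1792), Mv.f (nat_lit 2071)])))
(Tr.nd (nat_lit 2074) (Tr.lf (Fc.ed (nat_lit 2073) (nat_lit 697) Col.h (nat_lit 806) Dv.df))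
(Tr.lf (Fc.ed (nat_lit 2074) (nat_lit 698) Col.c (nat_lit 807) Dv.df))))))
(Tr.nd (nat_lit 2080) (Tr.nd (nat_lit 2077) (Tr.nd (nat_lit 2076) (Tr.lf (Fc.ed (nat_lit 2075) (nat_lit 807) Col.k (nat_lit 699) (Dv.wd (nat_lit 86) [Mv.b (nat_lit 1802), Mv.f (nat_lit 1800), Mv.f (nat_lit 2074)])))
(Tr.lf (Fc.ed (nat_lit 2076) (nat_lit 698) Col.e (nat_lit 808) Dv.df)))
(Tr.nd (nat_lit 2078) (Tr.lf (Fc.ed (nat_lit 2077) (nat_lit 808) Col.i (nat_lit 805) (Dv.wd (nat_lit 19) [Mv.b (nat_lit 2071), Mv.b (nat_lit 1801), Mv.f (nat_lit 2076)])))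
(Tr.nd (nat_lit 2079) (Tr.lf (Fc.ed (nat_lit 2078) (nat_lit 699) Col.b (nat_lit 809) Dv.df))
(Tr.lf (Fc.ed (nat_lit 2079) (nat_lit 809) Col.l (nat_lit 700) (Dv.wd (nat_lit 88) [Mv.b (nat_lit 1804), Mv.b (nat_lit 1803), Mv.f (nat_lit 2078)]))))))
(Tr.nd (nat_lit 2083) (Tr.nd (nat_lit 2081) (Tr.lf (Fc.ed (nat_lit 2080) (nat_lit 699) Col.d (nat_lit 810) Dv.df))
(Tr.nd (nat_lit 2082) (Tr.lf (Fc.ed (nat_lit 2081) (nat_lit 700) Col.d (nat_lit 811) Dv.df))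
(Tr.lf (Fc.ed (nat_lit 2082) (nat_lit 811) Col.b (nat_lit 701) (Dv.wd (nat_lit 127) [Mv.b (nat_lit 1805), Mv.f (nat_lit 1804), Mv.f (nat_lit 2081)])))))
(Tr.nd (nat_lit 2084) (Tr.lf (Fc.ed (nat_lit 2083) (nat_lit 701) Col.e (nat_lit 812) Dv.df))
(Tr.nd (nat_lit 2085) (Tr.lf (Fc.ed (nat_lit 2084) (nat_lit 812) Col.a (nat_lit 702) (Dv.wd (nat_lit 70) [Mv.b (nat_lit 1807), Mv.b (nat_lit 1806), Mv.f (nat_lit 2083)])))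
(Tr.lf (Fc.ed (nat_lit 2085) (nat_lit 702) Col.h (nat_lit 813) Dv.df))))))))
(Tr.nd (nat_lit 2106) (Tr.nd (nat_lit 2096) (Tr.nd (nat_lit 2091) (Tr.nd (nat_lit 2088) (Tr.nd (nat_lit 2087) (Tr.lf (Fc.ed (nat_lit 2086) (nat_lit 813) Col.k (nat_lit 706) (Dv.wd (nat_lit 82) [Mv.b (nat_lit 1816), Mv.b (nat_lit 1808), Mv.f (nat_lit 2085)])))
(Tr.lf (Fc.ed (nat_lit 2087) (nat_lit 704) Col.c (nat_lit 814) Dv.df)))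
(Tr.nd (nat_lit 2089) (Tr.lf (Fc.ed (nat_lit 2088) (nat_lit 814) Col.e (nat_lit 707) (Dv.wd (nat_lit 39) [Mv.b (nat_lit 1817), Mv.b (nat_lit 1813), Mv.f (nat_lit 2087)])))
(Tr.nd (nat_lit 2090) (Tr.lf (Fc.ed (nat_lit 2089) (nat_lit 704) Col.h (nat_lit 815) Dv.df))
(Tr.lf (Fc.ed (nat_lit 2090) (nat_lit 706) Col.d (nat_lit 816) Dv.df)))))
(Tr.nd (nat_lit 2093) (Tr.nd (nat_lit 2092) (Tr.lf (Fc.ed (nat_lit 2091) (nat_lit 707) Col.b (nat_lit 817) Dv.df))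
(Tr.lf (Fc.ed (nat_lit 2092) (nat_lit 817) Col.l (nat_lit 817) (Dv.wd (nat_lit 88) [Mv.b (nat_lit 2091), Mv.f (nat_lit 1818), Mv.f (nat_lit 2091)]))))
(Tr.nd (nat_lit 2094) (Tr.lf (Fc.ed (nat_lit 2093) (nat_lit 817) Col.d (nat_lit 708) (Dv.wd (nat_lit 35) [Mv.b (nat_lit 1821), Mv.b (nat_lit 1820), Mv.f (nat_lit 2091)])))
(Tr.nd (nat_lit 2095) (Tr.lf (Fc.ed (nat_lit 2094) (nat_lit 817) Col.c (nat_lit 817) (Dv.wd (nat_lit 111) [Mv.b (nat_lit 2091), Mv.b (nat_lit 1817), Mv.f (nat_lit 1538), Mv.f (nat_lit 1817), Mv.f (nat_lit 2091)])))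
(Tr.lf (Fc.ed (nat_lit 2095) (nat_lit 708) Col.a (nat_lit 818) Dv.df))))))
(Tr.nd (nat_lit 2101) (Tr.nd (nat_lit 2098) (Tr.nd (nat_lit 2097) (Tr.lf (Fc.ed (nat_lit 2096) (nat_lit 708) Col.f (nat_lit 819) Dv.df))
(Tr.lf (Fc.ed (nat_lit 2097) (nat_lit 819) Col.b (nat_lit 709) (Dv.wd (nat_lit 128) [Mv.b (nat_lit 1822), Mv.f (nat_lit 1821), Mv.f (nat_lit 2096)]))))
(Tr.nd (nat_lit 2099) (Tr.lf (Fc.ed (nat_lit 2098) (nat_lit 710) Col.h (nat_lit 820) Dv.df))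
(Tr.nd (nat_lit 2100) (Tr.lf (Fc.ed (nat_lit 2099) (nat_lit 820) Col.b (nat_lit 713) (Dv.wd (nat_lit 101) [Mv.b (nat_lit 1830), Mv.b (nat_lit 1825), Mv.f (nat_lit 2098)])))
(Tr.lf (Fc.ed (nat_lit 2100) (nat_lit 711) Col.d (nat_lit 821) Dv.df)))))
(Tr.nd (nat_lit 2103) (Tr.nd (nat_lit 2102) (Tr.lf (Fc.ed (nat_lit 2101) (nat_lit 821) Col.f (nat_lit 712) (Dv.wd (nat_lit 28) [Mv.b (nat_lit 1828), Mv.b (nat_lit 1827), Mv.f (nat_lit 2100)])))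
(Tr.lf (Fc.ed (nat_lit 2102) (nat_lit 712) Col.e (nat_lit 822) Dv.df)))
(Tr.nd (nat_lit 2104) (Tr.lf (Fc.ed (nat_lit 2103) (nat_lit 822) Col.a (nat_lit 717) (Dv.wd (nat_lit 70) [Mv.b (nat_lit 1840), Mv.b (nat_lit 1829), Mv.f (nat_lit 2102)])))
(Tr.nd (nat_lit 2105) (Tr.lf (Fc.ed (nat_lit 2104) (nat_lit 713) Col.d (nat_lit 823) Dv.df))
(Tr.lf (Fc.ed (nat_lit 2105) (nat_lit 823) Col.a (nat_lit 714) (Dv.wd (nat_lit 74) [Mv.b (nat_lit 1832), Mv.b (nat_lit 1831), Mv.f (nat_lit 2104)]))))))))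
(Tr.nd (nat_lit 2116) (Tr.nd (nat_lit 2111) (Tr.nd (nat_lit 2108) (Tr.nd (nat_lit 2107) (Tr.lf (Fc.ed (nat_lit 2106) (nat_lit 714) Col.c (nat_lit 824) Dv.df))
(Tr.lf (Fc.ed (nat_lit 2107) (nat_lit 824) Col.k (nat_lit 824) (Dv.wd (nat_lit 86) [Mv.b (nat_lit 2106), Mv.f (nat_lit 1833), Mv.f (nat_lit 2106)]))))
(Tr.nd (nat_lit 2109) (Tr.lf (Fc.ed (nat_lit 2108) (nat_lit 714) Col.e (nat_lit 825) Dv.df))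
(Tr.nd (nat_lit 2110) (Tr.lf (Fc.ed (nat_lit 2109) (nat_lit 825) Col.b (nat_lit 717) (Dv.wd (nat_lit 97) [Mv.b (nat_lit 1840), Mv.b (nat_lit 1834), Mv.f (nat_lit 2108)])))
(Tr.lf (Fc.ed (nat_lit 2110) (nat_lit 825) Col.h (nat_lit 825) (Dv.wd (nat_lit 71) [Mv.b (nat_lit 2108), Mv.f (nat_lit 1835), Mv.f (nat_lit 2108)]))))))
(Tr.nd (nat_lit 2113) (Tr.nd (nat_lit 2112) (Tr.lf (Fc.ed (nat_lit 2111) (nat_lit 715) Col.e (nat_lit 826) Dv.df))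
(Tr.lf (Fc.ed (nat_lit 2112) (nat_lit 717) Col.f (nat_lit 827) Dv.df)))
(Tr.nd (nat_lit 2114) (Tr.lf (Fc.ed (nat_lit 2113) (nat_lit 717) Col.i (nat_lit 828) Dv.df))
(Tr.nd (nat_lit 2115) (Tr.lf (Fc.ed (nat_lit 2114) (nat_lit 828) Col.e (nat_lit 718) (Dv.wd (nat_lit 25) [Mv.b (nat_lit 1841), Mv.f (nat_lit 1840), Mv.f (nat_lit 2113)])))
(Tr.lf (Fc.ed (nat_lit 2115) (nat_lit 718) Col.h (nat_lit 829) Dv.df))))))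
(Tr.nd (nat_lit 2121) (Tr.nd (nat_lit 2118) (Tr.nd (nat_lit 2117) (Tr.lf (Fc.ed (nat_lit 2116) (nat_lit 829) Col.d (nat_lit 806) (Dv.wd (nat_lit 118) [Mv.b (nat_lit 2073), Mv.f (nat_lit 1799), Mv.b (nat_lit 1562), Mv.b (nat_lit 1842), Mv.f (nat_lit 2115)])))
(Tr.lf (Fc.ed (nat_lit 2117) (nat_lit 719) Col.d (nat_lit 830) Dv.df)))
(Tr.nd (nat_lit 2119) (Tr.lf (Fc.ed (nat_lit 2118) (nat_lit 830) Col.a (nat_lit 830) (Dv.wd (nat_lit 74) [Mv.b (nat_lit 2117), Mv.f (nat_lit 1845), Mv.f (nat_lit 2117)])))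
(Tr.nd (nat_lit 2120) (Tr.lf (Fc.ed (nat_lit 2119) (nat_lit 830) Col.b (nat_lit 720) (Dv.wd (nat_lit 127) [Mv.b (nat_lit 1846), Mv.f (nat_lit 1843), Mv.f (nat_lit 2117)])))
(Tr.lf (Fc.ed (nat_lit 2120) (nat_lit 830) Col.f (nat_lit 811) (Dv.wd (nat_lit 28) [Mv.b (nat_lit 2081), Mv.b (nat_lit 1844), Mv.f (nat_lit 2117)]))))))
(Tr.nd (nat_lit 2124) (Tr.nd (nat_lit 2122) (Tr.lf (Fc.ed (nat_lit 2121) (nat_lit 722) Col.f (nat_lit 831) Dv.df))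
(Tr.nd (nat_lit 2123) (Tr.lf (Fc.ed (nat_lit 2122) (nat_lit 831) Col.a (nat_lit 831) (Dv.wd (nat_lit 78) [Mv.b (nat_lit 2121), Mv.f (nat_lit 1853), Mv.f (nat_lit 2121)])))
(Tr.lf (Fc.ed (nat_lit 2123) (nat_lit 831) Col.b (nat_lit 723) (Dv.wd (nat_lit 128) [Mv.b (nat_lit 1854), Mv.f (nat_lit 1850), Mv.f (nat_lit 2121)])))))
(Tr.nd (nat_lit 2125) (Tr.lf (Fc.ed (nat_lit 2124) (nat_lit 831) Col.h (nat_lit 831) (Dv.wd (nat_lit 105) [Mv.b (nat_lit 2121), Mv.f (nat_lit 1852), Mv.f (nat_lit 2121)])))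
(Tr.nd (nat_lit 2126) (Tr.lf (Fc.ed (nat_lit 2125) (nat_lit 732) Col.b (nat_lit 832) Dv.df))
(Tr.lf (Fc.ed (nat_lit 2126) (nat_lit 832) Col.e (nat_lit 819) (Dv.wd (nat_lit 40) [Mv.f (nat_lit 2097), Mv.b (nat_lit 1879), Mv.f (nat_lit 2125)])))))))))))
(Tr.nd (nat_lit 2209) (Tr.nd (nat_lit 2168) (Tr.nd (nat_lit 2147) (Tr.nd (nat_lit 2137) (Tr.nd (nat_lit 2132) (Tr.nd (nat_lit 2129) (Tr.nd (nat_lit 2128) (Tr.lf (Fc.ed (nat_lit 2127) (nat_lit 832) Col.f (nat_lit 832) (Dv.wd (nat_lit 90) [Mv.b (nat_lit 2125), Mv.f (nat_lit 1880), Mv.f (nat_lit 2125)])))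
(Tr.lf (Fc.ed (nat_lit 2128) (nat_lit 732) Col.h (nat_lit 833) Dv.df)))
(Tr.nd (nat_lit 2130) (Tr.lf (Fc.ed (nat_lit 2129) (nat_lit 833) Col.c (nat_lit 733) (Dv.wd (nat_lit 131) [Mv.b (nat_lit 1881), Mv.f (nat_lit 1878), Mv.f (nat_lit 2128)])))
(Tr.nd (nat_lit 2131) (Tr.lf (Fc.ed (nat_lit 2130) (nat_lit 737) Col.d (nat_lit 834) Dv.df))
(Tr.lf (Fc.ed (nat_lit 2131) (nat_lit 738) Col.d (nat_lit 835) Dv.df)))))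
(Tr.nd (nat_lit 2134) (Tr.nd (nat_lit 2133) (Tr.lf (Fc.ed (nat_lit 2132) (nat_lit 835) Col.h (nat_lit 739) (Dv.wd (nat_lit 142) [Mv.b (nat_lit 1893), Mv.b (nat_lit 1618), Mv.b (nat_lit 1616), Mv.f (nat_lit 1891), Mv.f (nat_lit 2131)])))
(Tr.lf (Fc.ed (nat_lit 2133) (nat_lit 739) Col.e (nat_lit 836) Dv.df)))
(Tr.nd (nat_lit 2135) (Tr.lf (Fc.ed (nat_lit 2134) (nat_lit 836) Col.d (nat_lit 826) (Dv.wd (nat_lit 92) [Mv.b (nat_lit 2111), Mv.b (nat_lit 1836), Mv.b (nat_lit 1619), Mv.f (nat_lit 1893), Mv.f (nat_lit 2133)])))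
(Tr.nd (nat_lit 2136) (Tr.lf (Fc.ed (nat_lit 2135) (nat_lit 739) Col.i (nat_lit 837) Dv.df))
(Tr.lf (Fc.ed (nat_lit 2136) (nat_lit 741) Col.e (nat_lit 838) Dv.df))))))
(Tr.nd (nat_lit 2142) (Tr.nd (nat_lit 2139) (Tr.nd (nat_lit 2138) (Tr.lf (Fc.ed (nat_lit 2137) (nat_lit 838) Col.l (nat_lit 743) (Dv.wd (nat_lit 68) [Mv.b (nat_lit 1901), Mv.b (nat_lit 1897), Mv.f (nat_lit 2136)])))
(Tr.lf (Fc.ed (nat_lit 2138) (nat_lit 838) Col.a (nat_lit 742) (Dv.wd (nat_lit 70) [Mv.b (nat_lit 1899), Mv.b (nat_lit 1898), Mv.f (nat_lit 2136)]))))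
(Tr.nd (nat_lit 2140) (Tr.lf (Fc.ed (nat_lit 2139) (nat_lit 744) Col.h (nat_lit 839) Dv.df))
(Tr.nd (nat_lit 2141) (Tr.lf (Fc.ed (nat_lit 2140) (nat_lit 839) Col.k (nat_lit 747) (Dv.wd (nat_lit 82) [Mv.b (nat_lit 1912), Mv.b (nat_lit 1905), Mv.f (nat_lit 2139)])))
(Tr.lf (Fc.ed (nat_lit 2141) (nat_lit 747) Col.d (nat_lit 840) Dv.df)))))
(Tr.nd (nat_lit 2144) (Tr.nd (nat_lit 2143) (Tr.lf (Fc.ed (nat_lit 2142) (nat_lit 840) Col.c (nat_lit 834) (Dv.wd (nat_lit 139) [Mv.b (nat_lit 2130), Mv.f (nat_lit 1889), Mv.b (nat_lit 1641), Mv.b (nat_lit 1913), Mv.f (nat_lit 2141)])))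
(Tr.lf (Fc.ed (nat_lit 2143) (nat_lit 749) Col.e (nat_lit 841) Dv.df)))
(Tr.nd (nat_lit 2145) (Tr.lf (Fc.ed (nat_lit 2144) (nat_lit 841) Col.a (nat_lit 750) (Dv.wd (nat_lit 70) [Mv.b (nat_lit 1918), Mv.f (nat_lit 1916), Mv.f (nat_lit 2143)])))
(Tr.nd (nat_lit 2146) (Tr.lf (Fc.ed (nat_lit 2145) (nat_lit 751) Col.a (nat_lit 842) Dv.df))
(Tr.lf (Fc.ed (nat_lit 2146) (nat_lit 842) Col.i (nat_lit 842) (Dv.wd (nat_lit 17) [Mv.b (nat_lit 2145), Mv.f (nat_lit 1921), Mv.f (nat_lit 2145)]))))))))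
(Tr.nd (nat_lit 2157) (Tr.nd (nat_lit 2152) (Tr.nd (nat_lit 2149) (Tr.nd (nat_lit 2148) (Tr.lf (Fc.ed (nat_lit 2147) (nat_lit 751) Col.h (nat_lit 843) Dv.df))
(Tr.lf (Fc.ed (nat_lit 2148) (nat_lit 843) Col.b (nat_lit 752) (Dv.wd (nat_lit 101) [Mv.b (nat_lit 1922), Mv.f (nat_lit 1920), Mv.f (nat_lit 2147)]))))
(Tr.nd (nat_lit 2150) (Tr.lf (Fc.ed (nat_lit 2149) (nat_lit 752) Col.d (nat_lit 844) Dv.df))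
(Tr.nd (nat_lit 2151) (Tr.lf (Fc.ed (nat_lit 2150) (nat_lit 753) Col.a (nat_lit 845) Dv.df))
(Tr.lf (Fc.ed (nat_lit 2151) (nat_lit 845) Col.f (nat_lit 845) (Dv.wd (nat_lit 124) [Mv.b (nat_lit 2150), Mv.f (nat_lit 1926), Mv.f (nat_lit 2150)]))))))
(Tr.nd (nat_lit 2154) (Tr.nd (nat_lit 2153) (Tr.lf (Fc.ed (nat_lit 2152) (nat_lit 754) Col.d (nat_lit 846) Dv.df))
(Tr.lf (Fc.ed (nat_lit 2153) (nat_lit 846) Col.c (nat_lit 844) (Dv.wd (nat_lit 139) [Mv.b (nat_lit 2149), Mv.f (nat_lit 1923), Mv.b (nat_lit 1657), Mv.b (nat_lit 1928), Mv.f (nat_lit 2152)]))))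
(Tr.nd (nat_lit 2155) (Tr.lf (Fc.ed (nat_lit 2154) (nat_lit 755) Col.k (nat_lit 847) Dv.df))
(Tr.nd (nat_lit 2156) (Tr.lf (Fc.ed (nat_lit 2155) (nat_lit 847) Col.b (nat_lit 770) (Dv.wd (nat_lit 49) [Mv.b (nat_lit 1993), Mv.b (nat_lit 1930), Mv.f (nat_lit 2154)])))
(Tr.lf (Fc.ed (nat_lit 2156) (nat_lit 756) Col.a (nat_lit 848) Dv.df))))))
(Tr.nd (nat_lit 2162) (Tr.nd (nat_lit 2159) (Tr.nd (nat_lit 2158) (Tr.lf (Fc.ed (nat_lit 2157) (nat_lit 848) Col.e (nat_lit 845) (Dv.wd (nat_lit 42) [Mv.b (nat_lit 2150), Mv.b (nat_lit 1932), Mv.f (nat_lit 2156)])))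
(Tr.lf (Fc.ed (nat_lit 2158) (nat_lit 848) Col.f (nat_lit 781) (Dv.wd (nat_lit 124) [Mv.f (nat_lit 2017), Mv.f (nat_lit 1987), Mv.f (nat_lit 2156)]))))
(Tr.nd (nat_lit 2160) (Tr.lf (Fc.ed (nat_lit 2159) (nat_lit 759) Col.e (nat_lit 849) Dv.df))
(Tr.nd (nat_lit 2161) (Tr.lf (Fc.ed (nat_lit 2160) (nat_lit 849) Col.h (nat_lit 760) (Dv.wd (nat_lit 71) [Mv.b (nat_lit 1941), Mv.b (nat_lit 1940), Mv.f (nat_lit 2159)])))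
(Tr.lf (Fc.ed (nat_lit 2161) (nat_lit 762) Col.h (nat_lit 850) Dv.df)))))
(Tr.nd (nat_lit 2165) (Tr.nd (nat_lit 2163) (Tr.lf (Fc.ed (nat_lit 2162) (nat_lit 850) Col.k (nat_lit 765) (Dv.wd (nat_lit 82) [Mv.b (nat_lit 1981), Mv.b (nat_lit 1975), Mv.f (nat_lit 2161)])))
(Tr.nd (nat_lit 2164) (Tr.lf (Fc.ed (nat_lit 2163) (nat_lit 850) Col.a (nat_lit 772) (Dv.wd (nat_lit 83) [Mv.b (nat_lit 1997), Mv.b (nat_lit 1976), Mv.f (nat_lit 2161)])))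
(Tr.lf (Fc.ed (nat_lit 2164) (nat_lit 763) Col.a (nat_lit 851) Dv.df))))
(Tr.nd (nat_lit 2166) (Tr.lf (Fc.ed (nat_lit 2165) (nat_lit 851) Col.f (nat_lit 841) (Dv.wd (nat_lit 124) [Mv.f (nat_lit 2144), Mv.b (nat_lit 1978), Mv.f (nat_lit 2164)])))
(Tr.nd (nat_lit 2167) (Tr.lf (Fc.ed (nat_lit 2166) (nat_lit 763) Col.i (nat_lit 852) Dv.df))
(Tr.lf (Fc.ed (nat_lit 2167) (nat_lit 852) Col.b (nat_lit 764) (Dv.wd (nat_lit 22) [Mv.b (nat_lit 1979), Mv.f (nat_lit 1977), Mv.f (nat_lit 2166)])))))))))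
(Tr.nd (nat_lit 2188) (Tr.nd (nat_lit 2178) (Tr.nd (nat_lit 2173) (Tr.nd (nat_lit 2170) (Tr.nd (nat_lit 2169) (Tr.lf (Fc.ed (nat_lit 2168) (nat_lit 765) Col.d (nat_lit 853) Dv.df))
(Tr.lf (Fc.ed (nat_lit 2169) (nat_lit 853) Col.b (nat_lit 766) (Dv.wd (nat_lit 127) [Mv.b (nat_lit 1983), Mv.b (nat_lit 1982), Mv.f (nat_lit 2168)]))))
(Tr.nd (nat_lit 2171) (Tr.lf (Fc.ed (nat_lit 2170) (nat_lit 766) Col.e (nat_lit 854) Dv.df))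
(Tr.nd (nat_lit 2172) (Tr.lf (Fc.ed (nat_lit 2171) (nat_lit 854) Col.a (nat_lit 849) (Dv.wd (nat_lit 70) [Mv.b (nat_lit 2159), Mv.b (nat_lit 1984), Mv.f (nat_lit 2170)])))
(Tr.lf (Fc.ed (nat_lit 2172) (nat_lit 769) Col.k (nat_lit 855) Dv.df)))))
(Tr.nd (nat_lit 2175) (Tr.nd (nat_lit 2174) (Tr.lf (Fc.ed (nat_lit 2173) (nat_lit 855) Col.c (nat_lit 770) (Dv.wd (nat_lit 53) [Mv.b (nat_lit 1993), Mv.b (nat_lit 1992), Mv.f (nat_lit 2172)])))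
(Tr.lf (Fc.ed (nat_lit 2174) (nat_lit 770) Col.l (nat_lit 856) Dv.df)))
(Tr.nd (nat_lit 2176) (Tr.lf (Fc.ed (nat_lit 2175) (nat_lit 771) Col.k (nat_lit 857) Dv.df))
(Tr.nd (nat_lit 2177) (Tr.lf (Fc.ed (nat_lit 2176) (nat_lit 857) Col.d (nat_lit 855) (Dv.wd (nat_lit 37) [Mv.b (nat_lit 2172), Mv.b (nat_lit 1996), Mv.f (nat_lit 2175)])))
(Tr.lf (Fc.ed (nat_lit 2177) (nat_lit 857) Col.l (nat_lit 778) (Dv.wd (nat_lit 148) [Mv.b (nat_lit 2011), Mv.f (nat_lit 1723), Mv.b (nat_lit 1705), Mv.b (nat_lit 1995), Mv.f (nat_lit 2175)])))))))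
(Tr.nd (nat_lit 2183) (Tr.nd (nat_lit 2180) (Tr.nd (nat_lit 2179) (Tr.lf (Fc.ed (nat_lit 2178) (nat_lit 772) Col.d (nat_lit 858) Dv.df))
(Tr.lf (Fc.ed (nat_lit 2179) (nat_lit 775) Col.d (nat_lit 859) Dv.df)))
(Tr.nd (nat_lit 2181) (Tr.lf (Fc.ed (nat_lit 2180) (nat_lit 859) Col.a (nat_lit 777) (Dv.wd (nat_lit 74) [Mv.b (nat_lit 2009), Mv.b (nat_lit 2005), Mv.f (nat_lit 2179)])))
(Tr.nd (nat_lit 2182) (Tr.lf (Fc.ed (nat_lit 2181) (nat_lit 859) Col.f (nat_lit 776) (Dv.wd (nat_lit 28) [Mv.b (nat_lit 2007), Mv.b (nat_lit 2006), Mv.f (nat_lit 2179)])))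
(Tr.lf (Fc.ed (nat_lit 2182) (nat_lit 859) Col.h (nat_lit 859) (Dv.wd (nat_lit 142) [Mv.b (nat_lit 2179), Mv.b (nat_lit 2004), Mv.f (nat_lit 1716), Mv.f (nat_lit 2004), Mv.f (nat_lit 2179)]))))))
(Tr.nd (nat_lit 2185) (Tr.nd (nat_lit 2184) (Tr.lf (Fc.ed (nat_lit 2183) (nat_lit 778) Col.d (nat_lit 860) Dv.df))
(Tr.lf (Fc.ed (nat_lit 2184) (nat_lit 860) Col.l (nat_lit 855) (Dv.wd (nat_lit 72) [Mv.b (nat_lit 2176), Mv.f (nat_lit 2177), Mv.f (nat_lit 2183)]))))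
(Tr.nd (nat_lit 2186) (Tr.lf (Fc.ed (nat_lit 2185) (nat_lit 856) Col.c (nat_lit 860) (Dv.wd (nat_lit 149) [Mv.f (nat_lit 2184), Mv.f (nat_lit 2173), Mv.f (nat_lit 2174)])))
(Tr.nd (nat_lit 2187) (Tr.lf (Fc.ed (nat_lit 2186) (nat_lit 779) Col.e (nat_lit 861) Dv.df))
(Tr.lf (Fc.ed (nat_lit 2187) (nat_lit 861) Col.l (nat_lit 780) (Dv.wd (nat_lit 68) [Mv.b (nat_lit 2014), Mv.b (nat_lit 2013), Mv.f (nat_lit 2186)]))))))))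
(Tr.nd (nat_lit 2198) (Tr.nd (nat_lit 2193) (Tr.nd (nat_lit 2190) (Tr.nd (nat_lit 2189) (Tr.lf (Fc.ed (nat_lit 2188) (nat_lit 780) Col.d (nat_lit 862) Dv.df))
(Tr.lf (Fc.ed (nat_lit 2189) (nat_lit 862) Col.k (nat_lit 781) (Dv.wd (nat_lit 73) [Mv.b (nat_lit 2016), Mv.b (nat_lit 2015), Mv.f (nat_lit 2188)]))))
(Tr.nd (nat_lit 2191) (Tr.lf (Fc.ed (nat_lit 2190) (nat_lit 783) Col.e (nat_lit 863) Dv.df))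
(Tr.nd (nat_lit 2192) (Tr.lf (Fc.ed (nat_lit 2191) (nat_lit 863) Col.l (nat_lit 863) (Dv.wd (nat_lit 68) [Mv.b (nat_lit 2190), Mv.f (nat_lit 2021), Mv.f (nat_lit 2190)])))
(Tr.lf (Fc.ed (nat_lit 2192) (nat_lit 863) Col.h (nat_lit 863) (Dv.wd (nat_lit 71) [Mv.b (nat_lit 2190), Mv.f (nat_lit 2023), Mv.f (nat_lit 2190)]))))))
(Tr.nd (nat_lit 2195) (Tr.nd (nat_lit 2194) (Tr.lf (Fc.ed (nat_lit 2193) (nat_lit 863) Col.f (nat_lit 863) (Dv.wd (nat_lit 80) [Mv.b (nat_lit 2190), Mv.f (nat_lit 2022), Mv.f (nat_lit 1741), Mv.b (nat_lit 2022), Mv.f (nat_lit 2190)])))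
(Tr.lf (Fc.ed (nat_lit 2194) (nat_lit 783) Col.i (nat_lit 864) Dv.df)))
(Tr.nd (nat_lit 2196) (Tr.lf (Fc.ed (nat_lit 2195) (nat_lit 864) Col.f (nat_lit 784) (Dv.wd (nat_lit 26) [Mv.b (nat_lit 2025), Mv.b (nat_lit 2022), Mv.f (nat_lit 2194)])))
(Tr.nd (nat_lit 2197) (Tr.lf (Fc.ed (nat_lit 2196) (nat_lit 784) Col.h (nat_lit 865) Dv.df))
(Tr.lf (Fc.ed (nat_lit 2197) (nat_lit 865) Col.c (nat_lit 785) (Dv.wd (nat_lit 131) [Mv.b (nat_lit 2027), Mv.b (nat_lit 2026), Mv.f (nat_lit 2196)])))))))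
(Tr.nd (nat_lit 2203) (Tr.nd (nat_lit 2200) (Tr.nd (nat_lit 2199) (Tr.lf (Fc.ed (nat_lit 2198) (nat_lit 786) Col.d (nat_lit 866) Dv.df))
(Tr.lf (Fc.ed (nat_lit 2199) (nat_lit 866) Col.i (nat_lit 860) (Dv.wd (nat_lit 14) [Mv.b (nat_lit 2183), Mv.b (nat_lit 2029), Mv.f (nat_lit 2198)]))))
(Tr.nd (nat_lit 2201) (Tr.lf (Fc.ed (nat_lit 2200) (nat_lit 787) Col.e (nat_lit 867) Dv.df))
(Tr.nd (nat_lit 2202) (Tr.lf (Fc.ed (nat_lit 2201) (nat_lit 867) Col.c (nat_lit 788) (Dv.wd (nat_lit 91) [Mv.b (nat_lit 2032), Mv.f (nat_lit 2030), Mv.f (nat_lit 2200)])))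
(Tr.lf (Fc.ed (nat_lit 2202) (nat_lit 867) Col.i (nat_lit 861) (Dv.wd (nat_lit 19) [Mv.b (nat_lit 2186), Mv.b (nat_lit 2031), Mv.f (nat_lit 2200)]))))))
(Tr.nd (nat_lit 2206) (Tr.nd (nat_lit 2204) (Tr.lf (Fc.ed (nat_lit 2203) (nat_lit 788) Col.f (nat_lit 868) Dv.df))
(Tr.nd (nat_lit 2205) (Tr.lf (Fc.ed (nat_lit 2204) (nat_lit 868) Col.b (nat_lit 789) (Dv.wd (nat_lit 128) [Mv.b (nat_lit 2034), Mv.b (nat_lit 2033), Mv.f (nat_lit 2203)])))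
(Tr.lf (Fc.ed (nat_lit 2205) (nat_lit 790) Col.e (nat_lit 869) Dv.df))))
(Tr.nd (nat_lit 2207) (Tr.lf (Fc.ed (nat_lit 2206) (nat_lit 869) Col.i (nat_lit 841) (Dv.wd (nat_lit 19) [Mv.b (nat_lit 2143), Mv.b (nat_lit 2038), Mv.f (nat_lit 2205)])))
(Tr.nd (nat_lit 2208) (Tr.lf (Fc.ed (nat_lit 2207) (nat_lit 790) Col.h (nat_lit 870) Dv.df))
(Tr.lf (Fc.ed (nat_lit 2208) (nat_lit 792) Col.h (nat_lit 871) Dv.df)))))))))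
(Tr.nd (nat_lit 2250) (Tr.nd (nat_lit 2229) (Tr.nd (nat_lit 2219) (Tr.nd (nat_lit 2214) (Tr.nd (nat_lit 2211) (Tr.nd (nat_lit 2210) (Tr.lf (Fc.ed (nat_lit 2209) (nat_lit 871) Col.c (nat_lit 793) (Dv.wd (nat_lit 131) [Mv.b (nat_lit 2044), Mv.b (nat_lit 2042), Mv.f (nat_lit 2208)])))
(Tr.lf (Fc.ed (nat_lit 2210) (nat_lit 871) Col.e (nat_lit 806) (Dv.wd (nat_lit 117) [Mv.b (nat_lit 2073), Mv.b (nat_lit 2043), Mv.f (nat_lit 2208)]))))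
(Tr.nd (nat_lit 2212) (Tr.lf (Fc.ed (nat_lit 2211) (nat_lit 794) Col.d (nat_lit 872) Dv.df))
(Tr.nd (nat_lit 2213) (Tr.lf (Fc.ed (nat_lit 2212) (nat_lit 872) Col.k (nat_lit 795) (Dv.wd (nat_lit 73) [Mv.b (nat_lit 2050), Mv.f (nat_lit 2046), Mv.f (nat_lit 2211)])))
(Tr.lf (Fc.ed (nat_lit 2213) (nat_lit 872) Col.a (nat_lit 872) (Dv.wd (nat_lit 74) [Mv.b (nat_lit 2211), Mv.f (nat_lit 2049), Mv.f (nat_lit 2211)]))))))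
(Tr.nd (nat_lit 2216) (Tr.nd (nat_lit 2215) (Tr.lf (Fc.ed (nat_lit 2214) (nat_lit 872) Col.b (nat_lit 872) (Dv.wd (nat_lit 127) [Mv.b (nat_lit 2211), Mv.f (nat_lit 2047), Mv.f (nat_lit 2211)])))
(Tr.lf (Fc.ed (nat_lit 2215) (nat_lit 795) Col.c (nat_lit 873) Dv.df)))
(Tr.nd (nat_lit 2217) (Tr.lf (Fc.ed (nat_lit 2216) (nat_lit 873) Col.a (nat_lit 796) (Dv.wd (nat_lit 87) [Mv.b (nat_lit 2052), Mv.b (nat_lit 2051), Mv.f (nat_lit 2215)])))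
(Tr.nd (nat_lit 2218) (Tr.lf (Fc.ed (nat_lit 2217) (nat_lit 797) Col.c (nat_lit 874) Dv.df))
(Tr.lf (Fc.ed (nat_lit 2218) (nat_lit 874) Col.a (nat_lit 798) (Dv.wd (nat_lit 87) [Mv.b (nat_lit 2057), Mv.b (nat_lit 2055), Mv.f (nat_lit 2217)])))))))
(Tr.nd (nat_lit 2224) (Tr.nd (nat_lit 2221) (Tr.nd (nat_lit 2220) (Tr.lf (Fc.ed (nat_lit 2219) (nat_lit 874) Col.f (nat_lit 874) (Dv.wd (nat_lit 29) [Mv.b (nat_lit 2217), Mv.f (nat_lit 2056), Mv.f (nat_lit 2217)])))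
(Tr.lf (Fc.ed (nat_lit 2220) (nat_lit 797) Col.h (nat_lit 875) Dv.df)))
(Tr.nd (nat_lit 2222) (Tr.lf (Fc.ed (nat_lit 2221) (nat_lit 875) Col.d (nat_lit 870) (Dv.wd (nat_lit 118) [Mv.b (nat_lit 2207), Mv.b (nat_lit 2037), Mv.b (nat_lit 1770), Mv.f (nat_lit 2054), Mv.f (nat_lit 2220)])))
(Tr.nd (nat_lit 2223) (Tr.lf (Fc.ed (nat_lit 2222) (nat_lit 798) Col.e (nat_lit 876) Dv.df))
(Tr.lf (Fc.ed (nat_lit 2223) (nat_lit 876) Col.k (nat_lit 799) (Dv.wd (nat_lit 69) [Mv.b (nat_lit 2060), Mv.b (nat_lit 2058), Mv.f (nat_lit 2222)]))))))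
(Tr.nd (nat_lit 2226) (Tr.nd (nat_lit 2225) (Tr.lf (Fc.ed (nat_lit 2224) (nat_lit 799) Col.d (nat_lit 877) Dv.df))
(Tr.lf (Fc.ed (nat_lit 2225) (nat_lit 877) Col.a (nat_lit 800) (Dv.wd (nat_lit 74) [Mv.b (nat_lit 2062), Mv.b (nat_lit 2061), Mv.f (nat_lit 2224)]))))
(Tr.nd (nat_lit 2227) (Tr.lf (Fc.ed (nat_lit 2226) (nat_lit 800) Col.f (nat_lit 878) Dv.df))
(Tr.nd (nat_lit 2228) (Tr.lf (Fc.ed (nat_lit 2227) (nat_lit 878) Col.b (nat_lit 803) (Dv.wd (nat_lit 128) [Mv.b (nat_lit 2068), Mv.b (nat_lit 2063), Mv.f (nat_lit 2226)])))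
(Tr.lf (Fc.ed (nat_lit 2228) (nat_lit 801) Col.c (nat_lit 879) Dv.df)))))))
(Tr.nd (nat_lit 2239) (Tr.nd (nat_lit 2234) (Tr.nd (nat_lit 2231) (Tr.nd (nat_lit 2230) (Tr.lf (Fc.ed (nat_lit 2229) (nat_lit 879) Col.k (nat_lit 802) (Dv.wd (nat_lit 86) [Mv.b (nat_lit 2066), Mv.b (nat_lit 2065), Mv.f (nat_lit 2228)])))
(Tr.lf (Fc.ed (nat_lit 2230) (nat_lit 801) Col.e (nat_lit 880) Dv.df)))
(Tr.nd (nat_lit 2232) (Tr.lf (Fc.ed (nat_lit 2231) (nat_lit 880) Col.d (nat_lit 804) (Dv.wd (nat_lit 92) [Mv.b (nat_lit 2070), Mv.f (nat_lit 1788), Mv.f (nat_lit 1786), Mv.f (nat_lit 2064), Mv.f (nat_lit 2230)])))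
(Tr.nd (nat_lit 2233) (Tr.lf (Fc.ed (nat_lit 2232) (nat_lit 802) Col.b (nat_lit 881) Dv.df))
(Tr.lf (Fc.ed (nat_lit 2233) (nat_lit 807) Col.d (nat_lit 882) Dv.df)))))
(Tr.nd (nat_lit 2236) (Tr.nd (nat_lit 2235) (Tr.lf (Fc.ed (nat_lit 2234) (nat_lit 882) Col.k (nat_lit 810) (Dv.wd (nat_lit 73) [Mv.b (nat_lit 2080), Mv.b (nat_lit 2075), Mv.f (nat_lit 2233)])))
(Tr.lf (Fc.ed (nat_lit 2235) (nat_lit 809) Col.d (nat_lit 883) Dv.df)))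
(Tr.nd (nat_lit 2237) (Tr.lf (Fc.ed (nat_lit 2236) (nat_lit 883) Col.l (nat_lit 811) (Dv.wd (nat_lit 72) [Mv.b (nat_lit 2081), Mv.b (nat_lit 2079), Mv.f (nat_lit 2235)])))
(Tr.nd (nat_lit 2238) (Tr.lf (Fc.ed (nat_lit 2237) (nat_lit 883) Col.b (nat_lit 810) (Dv.wd (nat_lit 127) [Mv.b (nat_lit 2080), Mv.f (nat_lit 2078), Mv.f (nat_lit 2235)])))
(Tr.lf (Fc.ed (nat_lit 2238) (nat_lit 810) Col.e (nat_lit 884) Dv.df))))))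
(Tr.nd (nat_lit 2244) (Tr.nd (nat_lit 2241) (Tr.nd (nat_lit 2240) (Tr.lf (Fc.ed (nat_lit 2239) (nat_lit 811) Col.c (nat_lit 885) Dv.df))
(Tr.lf (Fc.ed (nat_lit 2240) (nat_lit 811) Col.e (nat_lit 886) Dv.df)))
(Tr.nd (nat_lit 2242) (Tr.lf (Fc.ed (nat_lit 2241) (nat_lit 886) Col.b (nat_lit 812) (Dv.wd (nat_lit 97) [Mv.b (nat_lit 2083), Mv.b (nat_lit 2082), Mv.f (nat_lit 2240)])))
(Tr.nd (nat_lit 2243) (Tr.lf (Fc.ed (nat_lit 2242) (nat_lit 812) Col.h (nat_lit 887) Dv.df))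
(Tr.lf (Fc.ed (nat_lit 2243) (nat_lit 887) Col.a (nat_lit 813) (Dv.wd (nat_lit 83) [Mv.b (nat_lit 2085), Mv.b (nat_lit 2084), Mv.f (nat_lit 2242)]))))))
(Tr.nd (nat_lit 2247) (Tr.nd (nat_lit 2245) (Tr.lf (Fc.ed (nat_lit 2244) (nat_lit 813) Col.d (nat_lit 888) Dv.df))
(Tr.nd (nat_lit 2246) (Tr.lf (Fc.ed (nat_lit 2245) (nat_lit 888) Col.k (nat_lit 816) (Dv.wd (nat_lit 73) [Mv.b (nat_lit 2090), Mv.b (nat_lit 2086), Mv.f (nat_lit 2244)])))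
(Tr.lf (Fc.ed (nat_lit 2246) (nat_lit 814) Col.b (nat_lit 889) Dv.df))))
(Tr.nd (nat_lit 2248) (Tr.lf (Fc.ed (nat_lit 2247) (nat_lit 889) Col.e (nat_lit 817) (Dv.wd (nat_lit 40) [Mv.b (nat_lit 2091), Mv.b (nat_lit 2088), Mv.f (nat_lit 2246)])))
(Tr.nd (nat_lit 2249) (Tr.lf (Fc.ed (nat_lit 2248) (nat_lit 814) Col.h (nat_lit 890) Dv.df))
(Tr.lf (Fc.ed (nat_lit 2249) (nat_lit 890) Col.c (nat_lit 815) (Dv.wd (nat_lit 131) [Mv.b (nat_lit 2089), Mv.f (nat_lit 2087), Mv.f (nat_lit 2248)])))))))))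
(Tr.nd (nat_lit 2270) (Tr.nd (nat_lit 2260) (Tr.nd (nat_lit 2255) (Tr.nd (nat_lit 2252) (Tr.nd (nat_lit 2251) (Tr.lf (Fc.ed (nat_lit 2250) (nat_lit 815) Col.d (nat_lit 891) Dv.df))
(Tr.lf (Fc.ed (nat_lit 2251) (nat_lit 891) Col.h (nat_lit 816) (Dv.wd (nat_lit 142) [Mv.b (nat_lit 2090), Mv.b (nat_lit 1816), Mv.f (nat_lit 1812), Mv.f (nat_lit 2089), Mv.f (nat_lit 2250)]))))
(Tr.nd (nat_lit 2253) (Tr.lf (Fc.ed (nat_lit 2252) (nat_lit 816) Col.c (nat_lit 892) Dv.df))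
(Tr.nd (nat_lit 2254) (Tr.lf (Fc.ed (nat_lit 2253) (nat_lit 817) Col.a (nat_lit 893) Dv.df))
(Tr.lf (Fc.ed (nat_lit 2254) (nat_lit 893) Col.c (nat_lit 893) (Dv.wd (nat_lit 45) [Mv.b (nat_lit 2253), Mv.f (nat_lit 2094), Mv.f (nat_lit 2253)]))))))
(Tr.nd (nat_lit 2257) (Tr.nd (nat_lit 2256) (Tr.lf (Fc.ed (nat_lit 2255) (nat_lit 893) Col.d (nat_lit 818) (Dv.wd (nat_lit 36) [Mv.b (nat_lit 2095), Mv.b (nat_lit 2093), Mv.f (nat_lit 2253)])))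
(Tr.lf (Fc.ed (nat_lit 2256) (nat_lit 893) Col.b (nat_lit 893) (Dv.wd (nat_lit 123) [Mv.b (nat_lit 2253), Mv.b (nat_lit 2091), Mv.f (nat_lit 1819), Mv.f (nat_lit 2091), Mv.f (nat_lit 2253)]))))
(Tr.nd (nat_lit 2258) (Tr.lf (Fc.ed (nat_lit 2257) (nat_lit 817) Col.f (nat_lit 894) Dv.df))
(Tr.nd (nat_lit 2259) (Tr.lf (Fc.ed (nat_lit 2258) (nat_lit 894) Col.l (nat_lit 894) (Dv.wd (nat_lit 76) [Mv.b (nat_lit 2257), Mv.f (nat_lit 2092), Mv.f (nat_lit 2257)])))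
(Tr.lf (Fc.ed (nat_lit 2259) (nat_lit 817) Col.h (nat_lit 895) Dv.df))))))
(Tr.nd (nat_lit 2265) (Tr.nd (nat_lit 2262) (Tr.nd (nat_lit 2261) (Tr.lf (Fc.ed (nat_lit 2260) (nat_lit 818) Col.f (nat_lit 896) Dv.df))
(Tr.lf (Fc.ed (nat_lit 2261) (nat_lit 896) Col.a (nat_lit 819) (Dv.wd (nat_lit 78) [Mv.b (nat_lit 2096), Mv.f (nat_lit 2095), Mv.f (nat_lit 2260)]))))
(Tr.nd (nat_lit 2263) (Tr.lf (Fc.ed (nat_lit 2262) (nat_lit 820) Col.d (nat_lit 897) Dv.df))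
(Tr.nd (nat_lit 2264) (Tr.lf (Fc.ed (nat_lit 2263) (nat_lit 897) Col.b (nat_lit 823) (Dv.wd (nat_lit 127) [Mv.b (nat_lit 2104), Mv.b (nat_lit 2099), Mv.f (nat_lit 2262)])))
(Tr.lf (Fc.ed (nat_lit 2264) (nat_lit 821) Col.e (nat_lit 898) Dv.df)))))
(Tr.nd (nat_lit 2267) (Tr.nd (nat_lit 2266) (Tr.lf (Fc.ed (nat_lit 2265) (nat_lit 822) Col.f (nat_lit 899) Dv.df))
(Tr.lf (Fc.ed (nat_lit 2266) (nat_lit 899) Col.a (nat_lit 827) (Dv.wd (nat_lit 78) [Mv.b (nat_lit 2112), Mv.b (nat_lit 2103), Mv.f (nat_lit 2265)]))))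
(Tr.nd (nat_lit 2268) (Tr.lf (Fc.ed (nat_lit 2267) (nat_lit 822) Col.i (nat_lit 900) Dv.df))
(Tr.nd (nat_lit 2269) (Tr.lf (Fc.ed (nat_lit 2268) (nat_lit 900) Col.a (nat_lit 828) (Dv.wd (nat_lit 121) [Mv.b (nat_lit 2113), Mv.b (nat_lit 2103), Mv.f (nat_lit 2267)])))
(Tr.lf (Fc.ed (nat_lit 2269) (nat_lit 823) Col.c (nat_lit 901) Dv.df)))))))
(Tr.nd (nat_lit 2280) (Tr.nd (nat_lit 2275) (Tr.nd (nat_lit 2272) (Tr.nd (nat_lit 2271) (Tr.lf (Fc.ed (nat_lit 2270) (nat_lit 901) Col.a (nat_lit 824) (Dv.wd (nat_lit 87) [Mv.b (nat_lit 2106), Mv.b (nat_lit 2105), Mv.f (nat_lit 2269)])))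
(Tr.lf (Fc.ed (nat_lit 2271) (nat_lit 823) Col.e (nat_lit 902) Dv.df)))
(Tr.nd (nat_lit 2273) (Tr.lf (Fc.ed (nat_lit 2272) (nat_lit 902) Col.a (nat_lit 825) (Dv.wd (nat_lit 70) [Mv.b (nat_lit 2108), Mv.b (nat_lit 2105), Mv.f (nat_lit 2271)])))
(Tr.nd (nat_lit 2274) (Tr.lf (Fc.ed (nat_lit 2273) (nat_lit 824) Col.e (nat_lit 903) Dv.df))
(Tr.lf (Fc.ed (nat_lit 2274) (nat_lit 903) Col.k (nat_lit 903) (Dv.wd (nat_lit 69) [Mv.b (nat_lit 2273), Mv.f (nat_lit 2107), Mv.f (nat_lit 2273)]))))))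
(Tr.nd (nat_lit 2277) (Tr.nd (nat_lit 2276) (Tr.lf (Fc.ed (nat_lit 2275) (nat_lit 825) Col.f (nat_lit 904) Dv.df))
(Tr.lf (Fc.ed (nat_lit 2276) (nat_lit 904) Col.b (nat_lit 827) (Dv.wd (nat_lit 128) [Mv.b (nat_lit 2112), Mv.b (nat_lit 2109), Mv.f (nat_lit 2275)]))))
(Tr.nd (nat_lit 2278) (Tr.lf (Fc.ed (nat_lit 2277) (nat_lit 825) Col.i (nat_lit 905) Dv.df))
(Tr.nd (nat_lit 2279) (Tr.lf (Fc.ed (nat_lit 2278) (nat_lit 905) Col.b (nat_lit 828) (Dv.wd (nat_lit 22) [Mv.b (nat_lit 2113), Mv.b (nat_lit 2109), Mv.f (nat_lit 2277)])))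
(Tr.lf (Fc.ed (nat_lit 2279) (nat_lit 826) Col.f (nat_lit 906) Dv.df))))))
(Tr.nd (nat_lit 2285) (Tr.nd (nat_lit 2282) (Tr.nd (nat_lit 2281) (Tr.lf (Fc.ed (nat_lit 2280) (nat_lit 906) Col.e (nat_lit 827) (Dv.wd (nat_lit 114) [Mv.b (nat_lit 2112), Mv.b (nat_lit 1840), Mv.b (nat_lit 1837), Mv.f (nat_lit 2111), Mv.f (nat_lit 2279)])))
(Tr.lf (Fc.ed (nat_lit 2281) (nat_lit 827) Col.i (nat_lit 907) Dv.df)))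
(Tr.nd (nat_lit 2283) (Tr.lf (Fc.ed (nat_lit 2282) (nat_lit 907) Col.f (nat_lit 828) (Dv.wd (nat_lit 26) [Mv.b (nat_lit 2113), Mv.f (nat_lit 2112), Mv.f (nat_lit 2281)])))
(Tr.nd (nat_lit 2284) (Tr.lf (Fc.ed (nat_lit 2283) (nat_lit 828) Col.h (nat_lit 908) Dv.df))
(Tr.lf (Fc.ed (nat_lit 2284) (nat_lit 908) Col.e (nat_lit 829) (Dv.wd (nat_lit 117) [Mv.b (nat_lit 2115), Mv.b (nat_lit 2114), Mv.f (nat_lit 2283)]))))))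
(Tr.nd (nat_lit 2288) (Tr.nd (nat_lit 2286) (Tr.lf (Fc.ed (nat_lit 2285) (nat_lit 830) Col.c (nat_lit 909) Dv.df))
(Tr.nd (nat_lit 2287) (Tr.lf (Fc.ed (nat_lit 2286) (nat_lit 909) Col.a (nat_lit 909) (Dv.wd (nat_lit 87) [Mv.b (nat_lit 2285), Mv.f (nat_lit 2118), Mv.f (nat_lit 2285)])))
(Tr.lf (Fc.ed (nat_lit 2287) (nat_lit 909) Col.f (nat_lit 885) (Dv.wd (nat_lit 29) [Mv.b (nat_lit 2239), Mv.b (nat_lit 2120), Mv.f (nat_lit 2285)])))))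
(Tr.nd (nat_lit 2289) (Tr.lf (Fc.ed (nat_lit 2288) (nat_lit 909) Col.b (nat_lit 909) (Dv.wd (nat_lit 130) [Mv.b (nat_lit 2285), Mv.f (nat_lit 2119), Mv.f (nat_lit 1847), Mv.b (nat_lit 2119), Mv.f (nat_lit 2285)])))
(Tr.nd (nat_lit 2290) (Tr.lf (Fc.ed (nat_lit 2289) (nat_lit 832) Col.a (nat_lit 910) Dv.df))
(Tr.lf (Fc.ed (nat_lit 2290) (nat_lit 910) Col.e (nat_lit 896) (Dv.wd (nat_lit 42) [Mv.f (nat_lit 2261), Mv.b (nat_lit 2126), Mv.f (nat_lit 2289)]))))))))))))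
(Tr.nd (nat_lit 2455) (Tr.nd (nat_lit 2373) (Tr.nd (nat_lit 2332) (Tr.nd (nat_lit 2311) (Tr.nd (nat_lit 2301) (Tr.nd (nat_lit 2296) (Tr.nd (nat_lit 2293) (Tr.nd (nat_lit 2292) (Tr.lf (Fc.ed (nat_lit 2291) (nat_lit 910) Col.f (nat_lit 910) (Dv.wd (nat_lit 124) [Mv.b (nat_lit 2289), Mv.f (nat_lit 2127), Mv.f (nat_lit 2289)])))
(Tr.lf (Fc.ed (nat_lit 2292) (nat_lit 832) Col.h (nat_lit 911) Dv.df)))
(Tr.nd (nat_lit 2294) (Tr.lf (Fc.ed (nat_lit 2293) (nat_lit 911) Col.b (nat_lit 833) (Dv.wd (nat_lit 101) [Mv.b (nat_lit 2128), Mv.f (nat_lit 2125), Mv.f (nat_lit 2292)])))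
(Tr.nd (nat_lit 2295) (Tr.lf (Fc.ed (nat_lit 2294) (nat_lit 834) Col.e (nat_lit 912) Dv.df))
(Tr.lf (Fc.ed (nat_lit 2295) (nat_lit 912) Col.d (nat_lit 898) (Dv.wd (nat_lit 92) [Mv.b (nat_lit 2264), Mv.b (nat_lit 2100), Mv.b (nat_lit 1890), Mv.f (nat_lit 2130), Mv.f (nat_lit 2294)]))))))
(Tr.nd (nat_lit 2298) (Tr.nd (nat_lit 2297) (Tr.lf (Fc.ed (nat_lit 2296) (nat_lit 836) Col.f (nat_lit 913) Dv.df))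
(Tr.lf (Fc.ed (nat_lit 2297) (nat_lit 913) Col.d (nat_lit 906) (Dv.wd (nat_lit 109) [Mv.b (nat_lit 2279), Mv.b (nat_lit 2134), Mv.f (nat_lit 2296)]))))
(Tr.nd (nat_lit 2299) (Tr.lf (Fc.ed (nat_lit 2298) (nat_lit 836) Col.i (nat_lit 914) Dv.df))
(Tr.nd (nat_lit 2300) (Tr.lf (Fc.ed (nat_lit 2299) (nat_lit 914) Col.e (nat_lit 837) (Dv.wd (nat_lit 25) [Mv.b (nat_lit 2135), Mv.f (nat_lit 2133), Mv.f (nat_lit 2298)])))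
(Tr.lf (Fc.ed (nat_lit 2300) (nat_lit 839) Col.d (nat_lit 915) Dv.df))))))
(Tr.nd (nat_lit 2306) (Tr.nd (nat_lit 2303) (Tr.nd (nat_lit 2302) (Tr.lf (Fc.ed (nat_lit 2301) (nat_lit 915) Col.k (nat_lit 840) (Dv.wd (nat_lit 73) [Mv.b (nat_lit 2141), Mv.b (nat_lit 2140), Mv.f (nat_lit 2300)])))
(Tr.lf (Fc.ed (nat_lit 2302) (nat_lit 840) Col.e (nat_lit 916) Dv.df)))
(Tr.nd (nat_lit 2304) (Tr.lf (Fc.ed (nat_lit 2303) (nat_lit 916) Col.c (nat_lit 912) (Dv.wd (nat_lit 91) [Mv.b (nat_lit 2294), Mv.b (nat_lit 2142), Mv.f (nat_lit 2302)])))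
(Tr.nd (nat_lit 2305) (Tr.lf (Fc.ed (nat_lit 2304) (nat_lit 842) Col.h (nat_lit 917) Dv.df))
(Tr.lf (Fc.ed (nat_lit 2305) (nat_lit 917) Col.a (nat_lit 843) (Dv.wd (nat_lit 83) [Mv.b (nat_lit 2147), Mv.f (nat_lit 2145), Mv.f (nat_lit 2304)]))))))
(Tr.nd (nat_lit 2308) (Tr.nd (nat_lit 2307) (Tr.lf (Fc.ed (nat_lit 2306) (nat_lit 843) Col.d (nat_lit 918) Dv.df))
(Tr.lf (Fc.ed (nat_lit 2307) (nat_lit 918) Col.b (nat_lit 844) (Dv.wd (nat_lit 127) [Mv.b (nat_lit 2149), Mv.b (nat_lit 2148), Mv.f (nat_lit 2306)]))))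
(Tr.nd (nat_lit 2309) (Tr.lf (Fc.ed (nat_lit 2308) (nat_lit 863) Col.a (nat_lit 918) (Dv.wd (nat_lit 150) [Mv.f (nat_lit 2307), Mv.b (nat_lit 2153), Mv.b (nat_lit 2152), Mv.b (nat_lit 1934), Mv.b (nat_lit 1990), Mv.b (nat_lit 1989), Mv.f (nat_lit 1688), Mv.f (nat_lit 1985), Mv.f (nat_lit 1988), Mv.f (nat_lit 1986), Mv.f (nat_lit 1936), Mv.f (nat_lit 1708), Mv.f (nat_lit 1999), Mv.f (nat_lit 2000), Mv.f (nat_lit 1731), Mv.f (nat_lit 1732), Mv.f (nat_lit 1447), Mv.b (nat_lit 1735), Mv.b (nat_lit 2019), Mv.b (nat_lit 2018), Mv.b (nat_lit 2002), Mv.f (nat_lit 2003), Mv.f (nat_lit 1715), Mv.b (nat_lit 1676), Mv.b (nat_lit 1382), Mv.b (nat_lit 1074), Mv.f (nat_lit 777), Mv.f (nat_lit 1069), Mv.f (nat_lit 1073), Mv.f (nat_lit 1070), Mv.f (nat_lit 1071), Mv.f (nat_lit 1072), Mv.b (nat_lit 1121), Mv.f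 (nat_lit 1122), Mv.f (nat_lit 1120), Mv.f (nat_lit 1035), Mv.b (nat_lit 796), Mv.f (nat_lit 797), Mv.f (nat_lit 1093), Mv.f (nat_lit 1097), Mv.f (nat_lit 1056), Mv.f (nat_lit 1054), Mv.f (nat_lit 1055), Mv.b (nat_lit 1079), Mv.f (nat_lit 1387), Mv.f (nat_lit 1389), Mv.f (nat_lit 1388), Mv.f (nat_lit 1663), Mv.f (nat_lit 1664), Mv.b (nat_lit 1698), Mv.b (nat_lit 1718), Mv.f (nat_lit 2007), Mv.f (nat_lit 2008), Mv.b (nat_lit 2181), Mv.f (nat_lit 2182), Mv.f (nat_lit 2180), Mv.f (nat_lit 2010), Mv.f (nat_lit 2020), Mv.f (nat_lit 2024), Mv.f (nat_lit 2190), Mv.f (nat_lit 2193), Mv.f (nat_lit 2192), Mv.f (nat_lit 2191)])))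
(Tr.nd (nat_lit 2310) (Tr.lf (Fc.ed (nat_lit 2309) (nat_lit 917) Col.d (nat_lit 863) (Dv.wd (nat_lit 151) [Mv.f (nat_lit 2308), Mv.b (nat_lit 2306), Mv.b (nat_lit 2305)])))
(Tr.lf (Fc.ed (nat_lit 2310) (nat_lit 845) Col.k (nat_lit 919) Dv.df)))))))
(Tr.nd (nat_lit 2321) (Tr.nd (nat_lit 2316) (Tr.nd (nat_lit 2313) (Tr.nd (nat_lit 2312) (Tr.lf (Fc.ed (nat_lit 2311) (nat_lit 919) Col.f (nat_lit 919) (Dv.wd (nat_lit 140) [Mv.b (nat_lit 2310), Mv.f (nat_lit 2151), Mv.f (nat_lit 2310)])))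
(Tr.lf (Fc.ed (nat_lit 2312) (nat_lit 919) Col.a (nat_lit 847) (Dv.wd (nat_lit 100) [Mv.b (nat_lit 2154), Mv.b (nat_lit 1929), Mv.b (nat_lit 1925), Mv.f (nat_lit 2150), Mv.f (nat_lit 2310)]))))
(Tr.nd (nat_lit 2314) (Tr.lf (Fc.ed (nat_lit 2313) (nat_lit 847) Col.l (nat_lit 920) Dv.df))
(Tr.nd (nat_lit 2315) (Tr.lf (Fc.ed (nat_lit 2314) (nat_lit 920) Col.b (nat_lit 856) (Dv.wd (nat_lit 106) [Mv.b (nat_lit 2174), Mv.b (nat_lit 2155), Mv.f (nat_lit 2313)])))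
(Tr.lf (Fc.ed (nat_lit 2315) (nat_lit 848) Col.k (nat_lit 921) Dv.df)))))
(Tr.nd (nat_lit 2318) (Tr.nd (nat_lit 2317) (Tr.lf (Fc.ed (nat_lit 2316) (nat_lit 921) Col.e (nat_lit 919) (Dv.wd (nat_lit 99) [Mv.b (nat_lit 2310), Mv.b (nat_lit 2157), Mv.f (nat_lit 2315)])))
(Tr.lf (Fc.ed (nat_lit 2317) (nat_lit 921) Col.f (nat_lit 862) (Dv.wd (nat_lit 140) [Mv.f (nat_lit 2189), Mv.b (nat_lit 2158), Mv.f (nat_lit 2315)]))))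
(Tr.nd (nat_lit 2319) (Tr.lf (Fc.ed (nat_lit 2318) (nat_lit 850) Col.d (nat_lit 922) Dv.df))
(Tr.nd (nat_lit 2320) (Tr.lf (Fc.ed (nat_lit 2319) (nat_lit 922) Col.k (nat_lit 853) (Dv.wd (nat_lit 73) [Mv.b (nat_lit 2168), Mv.b (nat_lit 2162), Mv.f (nat_lit 2318)])))
(Tr.lf (Fc.ed (nat_lit 2320) (nat_lit 922) Col.a (nat_lit 858) (Dv.wd (nat_lit 74) [Mv.b (nat_lit 2178), Mv.b (nat_lit 2163), Mv.f (nat_lit 2318)])))))))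
(Tr.nd (nat_lit 2326) (Tr.nd (nat_lit 2323) (Tr.nd (nat_lit 2322) (Tr.lf (Fc.ed (nat_lit 2321) (nat_lit 851) Col.i (nat_lit 923) Dv.df))
(Tr.lf (Fc.ed (nat_lit 2322) (nat_lit 923) Col.a (nat_lit 852) (Dv.wd (nat_lit 121) [Mv.b (nat_lit 2166), Mv.f (nat_lit 2164), Mv.f (nat_lit 2321)]))))
(Tr.nd (nat_lit 2324) (Tr.lf (Fc.ed (nat_lit 2323) (nat_lit 923) Col.f (nat_lit 869) (Dv.wd (nat_lit 26) [Mv.f (nat_lit 2206), Mv.b (nat_lit 2165), Mv.f (nat_lit 2321)])))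
(Tr.nd (nat_lit 2325) (Tr.lf (Fc.ed (nat_lit 2324) (nat_lit 853) Col.c (nat_lit 924) Dv.df))
(Tr.lf (Fc.ed (nat_lit 2325) (nat_lit 853) Col.e (nat_lit 925) Dv.df)))))
(Tr.nd (nat_lit 2329) (Tr.nd (nat_lit 2327) (Tr.lf (Fc.ed (nat_lit 2326) (nat_lit 925) Col.b (nat_lit 854) (Dv.wd (nat_lit 97) [Mv.b (nat_lit 2170), Mv.b (nat_lit 2169), Mv.f (nat_lit 2325)])))
(Tr.nd (nat_lit 2328) (Tr.lf (Fc.ed (nat_lit 2327) (nat_lit 856) Col.i (nat_lit 926) Dv.df))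
(Tr.lf (Fc.ed (nat_lit 2328) (nat_lit 926) Col.c (nat_lit 866) (Dv.wd (nat_lit 23) [Mv.f (nat_lit 2199), Mv.b (nat_lit 2185), Mv.f (nat_lit 2327)])))))
(Tr.nd (nat_lit 2330) (Tr.lf (Fc.ed (nat_lit 2329) (nat_lit 858) Col.c (nat_lit 927) Dv.df))
(Tr.nd (nat_lit 2331) (Tr.lf (Fc.ed (nat_lit 2330) (nat_lit 858) Col.e (nat_lit 928) Dv.df))
(Tr.lf (Fc.ed (nat_lit 2331) (nat_lit 861) Col.d (nat_lit 929) Dv.df))))))))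
(Tr.nd (nat_lit 2352) (Tr.nd (nat_lit 2342) (Tr.nd (nat_lit 2337) (Tr.nd (nat_lit 2334) (Tr.nd (nat_lit 2333) (Tr.lf (Fc.ed (nat_lit 2332) (nat_lit 929) Col.l (nat_lit 862) (Dv.wd (nat_lit 72) [Mv.b (nat_lit 2188), Mv.b (nat_lit 2187), Mv.f (nat_lit 2331)])))
(Tr.lf (Fc.ed (nat_lit 2333) (nat_lit 863) Col.i (nat_lit 930) Dv.df)))
(Tr.nd (nat_lit 2335) (Tr.lf (Fc.ed (nat_lit 2334) (nat_lit 930) Col.e (nat_lit 864) (Dv.wd (nat_lit 25) [Mv.b (nat_lit 2194), Mv.f (nat_lit 2190), Mv.f (nat_lit 2333)])))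
(Tr.nd (nat_lit 2336) (Tr.lf (Fc.ed (nat_lit 2335) (nat_lit 864) Col.h (nat_lit 931) Dv.df))
(Tr.lf (Fc.ed (nat_lit 2336) (nat_lit 931) Col.f (nat_lit 865) (Dv.wd (nat_lit 84) [Mv.b (nat_lit 2196), Mv.b (nat_lit 2195), Mv.f (nat_lit 2335)]))))))
(Tr.nd (nat_lit 2339) (Tr.nd (nat_lit 2338) (Tr.lf (Fc.ed (nat_lit 2337) (nat_lit 865) Col.d (nat_lit 932) Dv.df))
(Tr.lf (Fc.ed (nat_lit 2338) (nat_lit 866) Col.h (nat_lit 933) Dv.df)))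
(Tr.nd (nat_lit 2340) (Tr.lf (Fc.ed (nat_lit 2339) (nat_lit 867) Col.d (nat_lit 934) Dv.df))
(Tr.nd (nat_lit 2341) (Tr.lf (Fc.ed (nat_lit 2340) (nat_lit 934) Col.i (nat_lit 929) (Dv.wd (nat_lit 14) [Mv.b (nat_lit 2331), Mv.b (nat_lit 2202), Mv.f (nat_lit 2339)])))
(Tr.lf (Fc.ed (nat_lit 2341) (nat_lit 867) Col.f (nat_lit 935) Dv.df))))))
(Tr.nd (nat_lit 2347) (Tr.nd (nat_lit 2344) (Tr.nd (nat_lit 2343) (Tr.lf (Fc.ed (nat_lit 2342) (nat_lit 935) Col.c (nat_lit 868) (Dv.wd (nat_lit 98) [Mv.b (nat_lit 2203), Mv.b (nat_lit 2201), Mv.f (nat_lit 2341)])))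
(Tr.lf (Fc.ed (nat_lit 2343) (nat_lit 869) Col.h (nat_lit 936) Dv.df)))
(Tr.nd (nat_lit 2345) (Tr.lf (Fc.ed (nat_lit 2344) (nat_lit 936) Col.e (nat_lit 870) (Dv.wd (nat_lit 117) [Mv.b (nat_lit 2207), Mv.f (nat_lit 2205), Mv.f (nat_lit 2343)])))
(Tr.nd (nat_lit 2346) (Tr.lf (Fc.ed (nat_lit 2345) (nat_lit 871) Col.d (nat_lit 937) Dv.df))
(Tr.lf (Fc.ed (nat_lit 2346) (nat_lit 937) Col.c (nat_lit 932) (Dv.wd (nat_lit 139) [Mv.b (nat_lit 2337), Mv.f (nat_lit 2197), Mv.b (nat_lit 2045), Mv.b (nat_lit 2209), Mv.f (nat_lit 2345)]))))))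
(Tr.nd (nat_lit 2349) (Tr.nd (nat_lit 2348) (Tr.lf (Fc.ed (nat_lit 2347) (nat_lit 872) Col.c (nat_lit 938) Dv.df))
(Tr.lf (Fc.ed (nat_lit 2348) (nat_lit 938) Col.k (nat_lit 873) (Dv.wd (nat_lit 86) [Mv.b (nat_lit 2215), Mv.b (nat_lit 2212), Mv.f (nat_lit 2347)]))))
(Tr.nd (nat_lit 2350) (Tr.lf (Fc.ed (nat_lit 2349) (nat_lit 872) Col.e (nat_lit 939) Dv.df))
(Tr.nd (nat_lit 2351) (Tr.lf (Fc.ed (nat_lit 2350) (nat_lit 939) Col.a (nat_lit 939) (Dv.wd (nat_lit 70) [Mv.b (nat_lit 2349), Mv.f (nat_lit 2213), Mv.f (nat_lit 2349)])))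
(Tr.lf (Fc.ed (nat_lit 2351) (nat_lit 939) Col.b (nat_lit 939) (Dv.wd (nat_lit 97) [Mv.b (nat_lit 2349), Mv.f (nat_lit 2214), Mv.f (nat_lit 2349)]))))))))
(Tr.nd (nat_lit 2362) (Tr.nd (nat_lit 2357) (Tr.nd (nat_lit 2354) (Tr.nd (nat_lit 2353) (Tr.lf (Fc.ed (nat_lit 2352) (nat_lit 872) Col.h (nat_lit 940) Dv.df))
(Tr.lf (Fc.ed (nat_lit 2353) (nat_lit 940) Col.d (nat_lit 933) (Dv.wd (nat_lit 118) [Mv.b (nat_lit 2338), Mv.b (nat_lit 2198), Mv.b (nat_lit 2048), Mv.f (nat_lit 2211), Mv.f (nat_lit 2352)]))))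
(Tr.nd (nat_lit 2355) (Tr.lf (Fc.ed (nat_lit 2354) (nat_lit 873) Col.b (nat_lit 941) Dv.df))
(Tr.nd (nat_lit 2356) (Tr.lf (Fc.ed (nat_lit 2355) (nat_lit 941) Col.a (nat_lit 881) (Dv.wd (nat_lit 112) [Mv.b (nat_lit 2232), Mv.f (nat_lit 2067), Mv.b (nat_lit 2053), Mv.b (nat_lit 2216), Mv.f (nat_lit 2354)])))
(Tr.lf (Fc.ed (nat_lit 2356) (nat_lit 874) Col.b (nat_lit 942) Dv.df)))))
(Tr.nd (nat_lit 2359) (Tr.nd (nat_lit 2358) (Tr.lf (Fc.ed (nat_lit 2357) (nat_lit 942) Col.f (nat_lit 942) (Dv.wd (nat_lit 90) [Mv.b (nat_lit 2356), Mv.f (nat_lit 2219), Mv.f (nat_lit 2356)])))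
(Tr.lf (Fc.ed (nat_lit 2358) (nat_lit 942) Col.a (nat_lit 942) (Dv.wd (nat_lit 112) [Mv.b (nat_lit 2356), Mv.f (nat_lit 2218), Mv.f (nat_lit 2059), Mv.b (nat_lit 2218), Mv.f (nat_lit 2356)]))))
(Tr.nd (nat_lit 2360) (Tr.lf (Fc.ed (nat_lit 2359) (nat_lit 874) Col.e (nat_lit 943) Dv.df))
(Tr.nd (nat_lit 2361) (Tr.lf (Fc.ed (nat_lit 2360) (nat_lit 943) Col.a (nat_lit 876) (Dv.wd (nat_lit 70) [Mv.b (nat_lit 2222), Mv.b (nat_lit 2218), Mv.f (nat_lit 2359)])))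
(Tr.lf (Fc.ed (nat_lit 2361) (nat_lit 874) Col.h (nat_lit 944) Dv.df))))))
(Tr.nd (nat_lit 2367) (Tr.nd (nat_lit 2364) (Tr.nd (nat_lit 2363) (Tr.lf (Fc.ed (nat_lit 2362) (nat_lit 944) Col.c (nat_lit 875) (Dv.wd (nat_lit 131) [Mv.b (nat_lit 2220), Mv.f (nat_lit 2217), Mv.f (nat_lit 2361)])))
(Tr.lf (Fc.ed (nat_lit 2363) (nat_lit 876) Col.d (nat_lit 945) Dv.df)))
(Tr.nd (nat_lit 2365) (Tr.lf (Fc.ed (nat_lit 2364) (nat_lit 945) Col.k (nat_lit 877) (Dv.wd (nat_lit 73) [Mv.b (nat_lit 2224), Mv.b (nat_lit 2223), Mv.f (nat_lit 2363)])))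
(Tr.nd (nat_lit 2366) (Tr.lf (Fc.ed (nat_lit 2365) (nat_lit 876) Col.f (nat_lit 946) Dv.df))
(Tr.lf (Fc.ed (nat_lit 2366) (nat_lit 877) Col.f (nat_lit 947) Dv.df)))))
(Tr.nd (nat_lit 2370) (Tr.nd (nat_lit 2368) (Tr.lf (Fc.ed (nat_lit 2367) (nat_lit 947) Col.a (nat_lit 878) (Dv.wd (nat_lit 78) [Mv.b (nat_lit 2226), Mv.b (nat_lit 2225), Mv.f (nat_lit 2366)])))
(Tr.nd (nat_lit 2369) (Tr.lf (Fc.ed (nat_lit 2368) (nat_lit 878) Col.e (nat_lit 948) Dv.df))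
(Tr.lf (Fc.ed (nat_lit 2369) (nat_lit 879) Col.b (nat_lit 949) Dv.df))))
(Tr.nd (nat_lit 2371) (Tr.lf (Fc.ed (nat_lit 2370) (nat_lit 949) Col.k (nat_lit 881) (Dv.wd (nat_lit 89) [Mv.b (nat_lit 2232), Mv.b (nat_lit 2229), Mv.f (nat_lit 2369)])))
(Tr.nd (nat_lit 2372) (Tr.lf (Fc.ed (nat_lit 2371) (nat_lit 879) Col.e (nat_lit 950) Dv.df))
(Tr.lf (Fc.ed (nat_lit 2372) (nat_lit 950) Col.c (nat_lit 880) (Dv.wd (nat_lit 91) [Mv.b (nat_lit 2230), Mv.f (nat_lit 2228), Mv.f (nat_lit 2371)]))))))))))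
(Tr.nd (nat_lit 2414) (Tr.nd (nat_lit 2393) (Tr.nd (nat_lit 2383) (Tr.nd (nat_lit 2378) (Tr.nd (nat_lit 2375) (Tr.nd (nat_lit 2374) (Tr.lf (Fc.ed (nat_lit 2373) (nat_lit 882) Col.e (nat_lit 951) Dv.df))
(Tr.lf (Fc.ed (nat_lit 2374) (nat_lit 951) Col.k (nat_lit 884) (Dv.wd (nat_lit 69) [Mv.b (nat_lit 2238), Mv.b (nat_lit 2234), Mv.f (nat_lit 2373)]))))
(Tr.nd (nat_lit 2376) (Tr.lf (Fc.ed (nat_lit 2375) (nat_lit 882) Col.h (nat_lit 952) Dv.df))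
(Tr.nd (nat_lit 2377) (Tr.lf (Fc.ed (nat_lit 2376) (nat_lit 883) Col.e (nat_lit 953) Dv.df))
(Tr.lf (Fc.ed (nat_lit 2377) (nat_lit 953) Col.l (nat_lit 886) (Dv.wd (nat_lit 68) [Mv.b (nat_lit 2240), Mv.b (nat_lit 2236), Mv.f (nat_lit 2376)]))))))
(Tr.nd (nat_lit 2380) (Tr.nd (nat_lit 2379) (Tr.lf (Fc.ed (nat_lit 2378) (nat_lit 953) Col.b (nat_lit 884) (Dv.wd (nat_lit 97) [Mv.b (nat_lit 2238), Mv.b (nat_lit 2237), Mv.f (nat_lit 2376)])))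
(Tr.lf (Fc.ed (nat_lit 2379) (nat_lit 884) Col.h (nat_lit 954) Dv.df)))
(Tr.nd (nat_lit 2381) (Tr.lf (Fc.ed (nat_lit 2380) (nat_lit 885) Col.e (nat_lit 955) Dv.df))
(Tr.nd (nat_lit 2382) (Tr.lf (Fc.ed (nat_lit 2381) (nat_lit 955) Col.c (nat_lit 886) (Dv.wd (nat_lit 91) [Mv.b (nat_lit 2240), Mv.f (nat_lit 2239), Mv.f (nat_lit 2380)])))
(Tr.lf (Fc.ed (nat_lit 2382) (nat_lit 885) Col.h (nat_lit 956) Dv.df))))))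
(Tr.nd (nat_lit 2388) (Tr.nd (nat_lit 2385) (Tr.nd (nat_lit 2384) (Tr.lf (Fc.ed (nat_lit 2383) (nat_lit 886) Col.h (nat_lit 957) Dv.df))
(Tr.lf (Fc.ed (nat_lit 2384) (nat_lit 957) Col.b (nat_lit 887) (Dv.wd (nat_lit 101) [Mv.b (nat_lit 2242), Mv.b (nat_lit 2241), Mv.f (nat_lit 2383)]))))
(Tr.nd (nat_lit 2386) (Tr.lf (Fc.ed (nat_lit 2385) (nat_lit 887) Col.d (nat_lit 958) Dv.df))
(Tr.nd (nat_lit 2387) (Tr.lf (Fc.ed (nat_lit 2386) (nat_lit 958) Col.a (nat_lit 888) (Dv.wd (nat_lit 74) [Mv.b (nat_lit 2244), Mv.b (nat_lit 2243), Mv.f (nat_lit 2385)])))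
(Tr.lf (Fc.ed (nat_lit 2387) (nat_lit 888) Col.c (nat_lit 959) Dv.df)))))
(Tr.nd (nat_lit 2390) (Tr.nd (nat_lit 2389) (Tr.lf (Fc.ed (nat_lit 2388) (nat_lit 959) Col.k (nat_lit 892) (Dv.wd (nat_lit 86) [Mv.b (nat_lit 2252), Mv.b (nat_lit 2245), Mv.f (nat_lit 2387)])))
(Tr.lf (Fc.ed (nat_lit 2389) (nat_lit 889) Col.h (nat_lit 960) Dv.df)))
(Tr.nd (nat_lit 2391) (Tr.lf (Fc.ed (nat_lit 2390) (nat_lit 960) Col.b (nat_lit 890) (Dv.wd (nat_lit 101) [Mv.b (nat_lit 2248), Mv.f (nat_lit 2246), Mv.f (nat_lit 2389)])))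
(Tr.nd (nat_lit 2392) (Tr.lf (Fc.ed (nat_lit 2391) (nat_lit 960) Col.e (nat_lit 895) (Dv.wd (nat_lit 117) [Mv.b (nat_lit 2259), Mv.b (nat_lit 2247), Mv.f (nat_lit 2389)])))
(Tr.lf (Fc.ed (nat_lit 2392) (nat_lit 890) Col.d (nat_lit 961) Dv.df)))))))
(Tr.nd (nat_lit 2403) (Tr.nd (nat_lit 2398) (Tr.nd (nat_lit 2395) (Tr.nd (nat_lit 2394) (Tr.lf (Fc.ed (nat_lit 2393) (nat_lit 891) Col.c (nat_lit 962) Dv.df))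
(Tr.lf (Fc.ed (nat_lit 2394) (nat_lit 962) Col.h (nat_lit 892) (Dv.wd (nat_lit 32) [Mv.b (nat_lit 2252), Mv.b (nat_lit 2251), Mv.f (nat_lit 2393)]))))
(Tr.nd (nat_lit 2396) (Tr.lf (Fc.ed (nat_lit 2395) (nat_lit 892) Col.b (nat_lit 963) Dv.df))
(Tr.nd (nat_lit 2397) (Tr.lf (Fc.ed (nat_lit 2396) (nat_lit 893) Col.f (nat_lit 964) Dv.df))
(Tr.lf (Fc.ed (nat_lit 2397) (nat_lit 964) Col.a (nat_lit 894) (Dv.wd (nat_lit 78) [Mv.b (nat_lit 2257), Mv.f (nat_lit 2253), Mv.f (nat_lit 2396)]))))))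
(Tr.nd (nat_lit 2400) (Tr.nd (nat_lit 2399) (Tr.lf (Fc.ed (nat_lit 2398) (nat_lit 964) Col.b (nat_lit 964) (Dv.wd (nat_lit 128) [Mv.b (nat_lit 2396), Mv.f (nat_lit 2256), Mv.f (nat_lit 2396)])))
(Tr.lf (Fc.ed (nat_lit 2399) (nat_lit 964) Col.c (nat_lit 964) (Dv.wd (nat_lit 98) [Mv.b (nat_lit 2396), Mv.f (nat_lit 2254), Mv.f (nat_lit 2396)]))))
(Tr.nd (nat_lit 2401) (Tr.lf (Fc.ed (nat_lit 2400) (nat_lit 964) Col.d (nat_lit 896) (Dv.wd (nat_lit 109) [Mv.b (nat_lit 2260), Mv.b (nat_lit 2255), Mv.f (nat_lit 2396)])))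
(Tr.nd (nat_lit 2402) (Tr.lf (Fc.ed (nat_lit 2401) (nat_lit 894) Col.h (nat_lit 965) Dv.df))
(Tr.lf (Fc.ed (nat_lit 2402) (nat_lit 965) Col.f (nat_lit 895) (Dv.wd (nat_lit 84) [Mv.b (nat_lit 2259), Mv.f (nat_lit 2257), Mv.f (nat_lit 2401)])))))))
(Tr.nd (nat_lit 2408) (Tr.nd (nat_lit 2405) (Tr.nd (nat_lit 2404) (Tr.lf (Fc.ed (nat_lit 2403) (nat_lit 897) Col.e (nat_lit 966) Dv.df))
(Tr.lf (Fc.ed (nat_lit 2404) (nat_lit 966) Col.b (nat_lit 902) (Dv.wd (nat_lit 97) [Mv.b (nat_lit 2271), Mv.b (nat_lit 2263), Mv.f (nat_lit 2403)]))))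
(Tr.nd (nat_lit 2406) (Tr.lf (Fc.ed (nat_lit 2405) (nat_lit 898) Col.f (nat_lit 967) Dv.df))
(Tr.nd (nat_lit 2407) (Tr.lf (Fc.ed (nat_lit 2406) (nat_lit 967) Col.e (nat_lit 899) (Dv.wd (nat_lit 114) [Mv.b (nat_lit 2265), Mv.b (nat_lit 2102), Mv.b (nat_lit 2101), Mv.f (nat_lit 2264), Mv.f (nat_lit 2405)])))
(Tr.lf (Fc.ed (nat_lit 2407) (nat_lit 899) Col.i (nat_lit 968) Dv.df)))))
(Tr.nd (nat_lit 2411) (Tr.nd (nat_lit 2409) (Tr.lf (Fc.ed (nat_lit 2408) (nat_lit 968) Col.a (nat_lit 907) (Dv.wd (nat_lit 121) [Mv.b (nat_lit 2281), Mv.b (nat_lit 2266), Mv.f (nat_lit 2407)])))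
(Tr.nd (nat_lit 2410) (Tr.lf (Fc.ed (nat_lit 2409) (nat_lit 901) Col.e (nat_lit 969) Dv.df))
(Tr.lf (Fc.ed (nat_lit 2410) (nat_lit 969) Col.a (nat_lit 903) (Dv.wd (nat_lit 70) [Mv.b (nat_lit 2273), Mv.b (nat_lit 2270), Mv.f (nat_lit 2409)])))))
(Tr.nd (nat_lit 2412) (Tr.lf (Fc.ed (nat_lit 2411) (nat_lit 969) Col.c (nat_lit 902) (Dv.wd (nat_lit 91) [Mv.b (nat_lit 2271), Mv.f (nat_lit 2269), Mv.f (nat_lit 2409)])))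
(Tr.nd (nat_lit 2413) (Tr.lf (Fc.ed (nat_lit 2412) (nat_lit 903) Col.d (nat_lit 970) Dv.df))
(Tr.lf (Fc.ed (nat_lit 2413) (nat_lit 970) Col.k (nat_lit 970) (Dv.wd (nat_lit 73) [Mv.b (nat_lit 2412), Mv.f (nat_lit 2274), Mv.f (nat_lit 2412)])))))))))
(Tr.nd (nat_lit 2434) (Tr.nd (nat_lit 2424) (Tr.nd (nat_lit 2419) (Tr.nd (nat_lit 2416) (Tr.nd (nat_lit 2415) (Tr.lf (Fc.ed (nat_lit 2414) (nat_lit 904) Col.i (nat_lit 971) Dv.df))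
(Tr.lf (Fc.ed (nat_lit 2415) (nat_lit 971) Col.b (nat_lit 907) (Dv.wd (nat_lit 22) [Mv.b (nat_lit 2281), Mv.b (nat_lit 2276), Mv.f (nat_lit 2414)]))))
(Tr.nd (nat_lit 2417) (Tr.lf (Fc.ed (nat_lit 2416) (nat_lit 906) Col.i (nat_lit 972) Dv.df))
(Tr.nd (nat_lit 2418) (Tr.lf (Fc.ed (nat_lit 2417) (nat_lit 972) Col.e (nat_lit 907) (Dv.wd (nat_lit 25) [Mv.b (nat_lit 2281), Mv.b (nat_lit 2280), Mv.f (nat_lit 2416)])))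
(Tr.lf (Fc.ed (nat_lit 2418) (nat_lit 907) Col.h (nat_lit 973) Dv.df)))))
(Tr.nd (nat_lit 2421) (Tr.nd (nat_lit 2420) (Tr.lf (Fc.ed (nat_lit 2419) (nat_lit 973) Col.f (nat_lit 908) (Dv.wd (nat_lit 84) [Mv.b (nat_lit 2283), Mv.b (nat_lit 2282), Mv.f (nat_lit 2418)])))
(Tr.lf (Fc.ed (nat_lit 2420) (nat_lit 908) Col.d (nat_lit 974) Dv.df)))
(Tr.nd (nat_lit 2422) (Tr.lf (Fc.ed (nat_lit 2421) (nat_lit 974) Col.e (nat_lit 937) (Dv.wd (nat_lit 75) [Mv.b (nat_lit 2345), Mv.f (nat_lit 2210), Mv.b (nat_lit 2116), Mv.b (nat_lit 2284), Mv.f (nat_lit 2420)])))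
(Tr.nd (nat_lit 2423) (Tr.lf (Fc.ed (nat_lit 2422) (nat_lit 909) Col.h (nat_lit 975) Dv.df))
(Tr.lf (Fc.ed (nat_lit 2423) (nat_lit 975) Col.f (nat_lit 956) (Dv.wd (nat_lit 84) [Mv.b (nat_lit 2382), Mv.b (nat_lit 2287), Mv.f (nat_lit 2422)])))))))
(Tr.nd (nat_lit 2429) (Tr.nd (nat_lit 2426) (Tr.nd (nat_lit 2425) (Tr.lf (Fc.ed (nat_lit 2424) (nat_lit 910) Col.h (nat_lit 976) Dv.df))
(Tr.lf (Fc.ed (nat_lit 2425) (nat_lit 976) Col.a (nat_lit 911) (Dv.wd (nat_lit 83) [Mv.b (nat_lit 2292), Mv.f (nat_lit 2289), Mv.f (nat_lit 2424)]))))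
(Tr.nd (nat_lit 2427) (Tr.lf (Fc.ed (nat_lit 2426) (nat_lit 912) Col.f (nat_lit 977) Dv.df))
(Tr.nd (nat_lit 2428) (Tr.lf (Fc.ed (nat_lit 2427) (nat_lit 977) Col.d (nat_lit 967) (Dv.wd (nat_lit 109) [Mv.b (nat_lit 2405), Mv.b (nat_lit 2295), Mv.f (nat_lit 2426)])))
(Tr.lf (Fc.ed (nat_lit 2428) (nat_lit 913) Col.i (nat_lit 978) Dv.df)))))
(Tr.nd (nat_lit 2431) (Tr.nd (nat_lit 2430) (Tr.lf (Fc.ed (nat_lit 2429) (nat_lit 978) Col.d (nat_lit 972) (Dv.wd (nat_lit 24) [Mv.b (nat_lit 2416), Mv.b (nat_lit 2297), Mv.f (nat_lit 2428)])))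
(Tr.lf (Fc.ed (nat_lit 2430) (nat_lit 978) Col.f (nat_lit 914) (Dv.wd (nat_lit 26) [Mv.b (nat_lit 2298), Mv.f (nat_lit 2296), Mv.f (nat_lit 2428)]))))
(Tr.nd (nat_lit 2432) (Tr.lf (Fc.ed (nat_lit 2431) (nat_lit 915) Col.e (nat_lit 979) Dv.df))
(Tr.nd (nat_lit 2433) (Tr.lf (Fc.ed (nat_lit 2432) (nat_lit 979) Col.k (nat_lit 916) (Dv.wd (nat_lit 69) [Mv.b (nat_lit 2302), Mv.b (nat_lit 2301), Mv.f (nat_lit 2431)])))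
(Tr.lf (Fc.ed (nat_lit 2433) (nat_lit 916) Col.f (nat_lit 980) Dv.df)))))))
(Tr.nd (nat_lit 2444) (Tr.nd (nat_lit 2439) (Tr.nd (nat_lit 2436) (Tr.nd (nat_lit 2435) (Tr.lf (Fc.ed (nat_lit 2434) (nat_lit 980) Col.c (nat_lit 977) (Dv.wd (nat_lit 98) [Mv.b (nat_lit 2426), Mv.b (nat_lit 2303), Mv.f (nat_lit 2433)])))
(Tr.lf (Fc.ed (nat_lit 2435) (nat_lit 917) Col.i (nat_lit 981) Dv.df)))
(Tr.nd (nat_lit 2437) (Tr.lf (Fc.ed (nat_lit 2436) (nat_lit 981) Col.d (nat_lit 930) (Dv.wd (nat_lit 24) [Mv.b (nat_lit 2333), Mv.b (nat_lit 2309), Mv.f (nat_lit 2435)])))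
(Tr.nd (nat_lit 2438) (Tr.lf (Fc.ed (nat_lit 2437) (nat_lit 981) Col.h (nat_lit 981) (Dv.wd (nat_lit 120) [Mv.b (nat_lit 2435), Mv.b (nat_lit 2304), Mv.f (nat_lit 2146), Mv.f (nat_lit 2304), Mv.f (nat_lit 2435)])))
(Tr.lf (Fc.ed (nat_lit 2438) (nat_lit 919) Col.l (nat_lit 982) Dv.df)))))
(Tr.nd (nat_lit 2441) (Tr.nd (nat_lit 2440) (Tr.lf (Fc.ed (nat_lit 2439) (nat_lit 982) Col.a (nat_lit 920) (Dv.wd (nat_lit 103) [Mv.b (nat_lit 2313), Mv.b (nat_lit 2312), Mv.f (nat_lit 2438)])))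
(Tr.lf (Fc.ed (nat_lit 2440) (nat_lit 982) Col.f (nat_lit 982) (Dv.wd (nat_lit 152) [Mv.b (nat_lit 2438), Mv.f (nat_lit 2311), Mv.f (nat_lit 2438)]))))
(Tr.nd (nat_lit 2442) (Tr.lf (Fc.ed (nat_lit 2441) (nat_lit 920) Col.i (nat_lit 983) Dv.df))
(Tr.nd (nat_lit 2443) (Tr.lf (Fc.ed (nat_lit 2442) (nat_lit 983) Col.b (nat_lit 926) (Dv.wd (nat_lit 22) [Mv.b (nat_lit 2327), Mv.b (nat_lit 2314), Mv.f (nat_lit 2441)])))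
(Tr.lf (Fc.ed (nat_lit 2443) (nat_lit 921) Col.l (nat_lit 984) Dv.df))))))
(Tr.nd (nat_lit 2449) (Tr.nd (nat_lit 2446) (Tr.nd (nat_lit 2445) (Tr.lf (Fc.ed (nat_lit 2444) (nat_lit 984) Col.e (nat_lit 982) (Dv.wd (nat_lit 41) [Mv.b (nat_lit 2438), Mv.b (nat_lit 2316), Mv.f (nat_lit 2443)])))
(Tr.lf (Fc.ed (nat_lit 2445) (nat_lit 984) Col.f (nat_lit 929) (Dv.wd (nat_lit 152) [Mv.f (nat_lit 2332), Mv.b (nat_lit 2317), Mv.f (nat_lit 2443)]))))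
(Tr.nd (nat_lit 2447) (Tr.lf (Fc.ed (nat_lit 2446) (nat_lit 922) Col.c (nat_lit 985) Dv.df))
(Tr.nd (nat_lit 2448) (Tr.lf (Fc.ed (nat_lit 2447) (nat_lit 985) Col.k (nat_lit 924) (Dv.wd (nat_lit 86) [Mv.b (nat_lit 2324), Mv.b (nat_lit 2319), Mv.f (nat_lit 2446)])))
(Tr.lf (Fc.ed (nat_lit 2448) (nat_lit 985) Col.a (nat_lit 927) (Dv.wd (nat_lit 87) [Mv.b (nat_lit 2329), Mv.b (nat_lit 2320), Mv.f (nat_lit 2446)]))))))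
(Tr.nd (nat_lit 2452) (Tr.nd (nat_lit 2450) (Tr.lf (Fc.ed (nat_lit 2449) (nat_lit 923) Col.h (nat_lit 986) Dv.df))
(Tr.nd (nat_lit 2451) (Tr.lf (Fc.ed (nat_lit 2450) (nat_lit 986) Col.f (nat_lit 936) (Dv.wd (nat_lit 84) [Mv.b (nat_lit 2343), Mv.b (nat_lit 2323), Mv.f (nat_lit 2449)])))
(Tr.lf (Fc.ed (nat_lit 2451) (nat_lit 924) Col.e (nat_lit 987) Dv.df))))
(Tr.nd (nat_lit 2453) (Tr.lf (Fc.ed (nat_lit 2452) (nat_lit 987) Col.c (nat_lit 925) (Dv.wd (nat_lit 91) [Mv.b (nat_lit 2325), Mv.f (nat_lit 2324), Mv.f (nat_lit 2451)])))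
(Tr.nd (nat_lit 2454) (Tr.lf (Fc.ed (nat_lit 2453) (nat_lit 926) Col.h (nat_lit 988) Dv.df))
(Tr.lf (Fc.ed (nat_lit 2454) (nat_lit 988) Col.c (nat_lit 933) (Dv.wd (nat_lit 131) [Mv.b (nat_lit 2338), Mv.b (nat_lit 2328), Mv.f (nat_lit 2453)])))))))))))
(Tr.nd (nat_lit 2537) (Tr.nd (nat_lit 2496) (Tr.nd (nat_lit 2475) (Tr.nd (nat_lit 2465) (Tr.nd (nat_lit 2460) (Tr.nd (nat_lit 2457) (Tr.nd (nat_lit 2456) (Tr.lf (Fc.ed (nat_lit 2455) (nat_lit 927) Col.e (nat_lit 989) Dv.df))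
(Tr.lf (Fc.ed (nat_lit 2456) (nat_lit 989) Col.c (nat_lit 928) (Dv.wd (nat_lit 91) [Mv.b (nat_lit 2330), Mv.f (nat_lit 2329), Mv.f (nat_lit 2455)]))))
(Tr.nd (nat_lit 2458) (Tr.lf (Fc.ed (nat_lit 2457) (nat_lit 930) Col.h (nat_lit 990) Dv.df))
(Tr.nd (nat_lit 2459) (Tr.lf (Fc.ed (nat_lit 2458) (nat_lit 990) Col.e (nat_lit 931) (Dv.wd (nat_lit 117) [Mv.b (nat_lit 2335), Mv.b (nat_lit 2334), Mv.f (nat_lit 2457)])))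
(Tr.lf (Fc.ed (nat_lit 2459) (nat_lit 990) Col.d (nat_lit 990) (Dv.wd (nat_lit 118) [Mv.b (nat_lit 2457), Mv.b (nat_lit 2436), Mv.f (nat_lit 2437), Mv.f (nat_lit 2436), Mv.f (nat_lit 2457)]))))))
(Tr.nd (nat_lit 2462) (Tr.nd (nat_lit 2461) (Tr.lf (Fc.ed (nat_lit 2460) (nat_lit 931) Col.d (nat_lit 991) Dv.df))
(Tr.lf (Fc.ed (nat_lit 2461) (nat_lit 991) Col.f (nat_lit 932) (Dv.wd (nat_lit 28) [Mv.b (nat_lit 2337), Mv.b (nat_lit 2336), Mv.f (nat_lit 2460)]))))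
(Tr.nd (nat_lit 2463) (Tr.lf (Fc.ed (nat_lit 2462) (nat_lit 991) Col.e (nat_lit 991) (Dv.wd (nat_lit 75) [Mv.b (nat_lit 2460), Mv.b (nat_lit 2458), Mv.f (nat_lit 2459), Mv.f (nat_lit 2458), Mv.f (nat_lit 2460)])))
(Tr.nd (nat_lit 2464) (Tr.lf (Fc.ed (nat_lit 2463) (nat_lit 932) Col.e (nat_lit 992) Dv.df))
(Tr.lf (Fc.ed (nat_lit 2464) (nat_lit 992) Col.c (nat_lit 974) (Dv.wd (nat_lit 91) [Mv.f (nat_lit 2421), Mv.f (nat_lit 2346), Mv.f (nat_lit 2463)])))))))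
(Tr.nd (nat_lit 2470) (Tr.nd (nat_lit 2467) (Tr.nd (nat_lit 2466) (Tr.lf (Fc.ed (nat_lit 2465) (nat_lit 992) Col.f (nat_lit 992) (Dv.wd (nat_lit 80) [Mv.b (nat_lit 2463), Mv.b (nat_lit 2461), Mv.f (nat_lit 2462), Mv.f (nat_lit 2461), Mv.f (nat_lit 2463)])))
(Tr.lf (Fc.ed (nat_lit 2466) (nat_lit 974) Col.f (nat_lit 974) (Dv.wd (nat_lit 29) [Mv.b (nat_lit 2464), Mv.f (nat_lit 2465), Mv.f (nat_lit 2464)]))))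
(Tr.nd (nat_lit 2468) (Tr.lf (Fc.al (nat_lit 2467) (nat_lit 973) (nat_lit 908) (Dv.wd (nat_lit 96) [Mv.f (nat_lit 2420), Mv.f (nat_lit 2466), Mv.b (nat_lit 2420), Mv.b (nat_lit 2419)])))
(Tr.nd (nat_lit 2469) (Tr.lf (Fc.al (nat_lit 2468) (nat_lit 828) (nat_lit 907) (Dv.wd (nat_lit 135) [Mv.f (nat_lit 2418), Mv.f (nat_lit 2467), Mv.b (nat_lit 2283)])))
(Tr.lf (Fc.al (nat_lit 2469) (nat_lit 900) (nat_lit 968) (Dv.wd (nat_lit 153) [Mv.f (nat_lit 2408), Mv.b (nat_lit 2468), Mv.b (nat_lit 2268)]))))))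
(Tr.nd (nat_lit 2472) (Tr.nd (nat_lit 2471) (Tr.lf (Fc.al (nat_lit 2470) (nat_lit 905) (nat_lit 971) (Dv.wd (nat_lit 132) [Mv.f (nat_lit 2415), Mv.b (nat_lit 2468), Mv.b (nat_lit 2278)])))
(Tr.lf (Fc.al (nat_lit 2471) (nat_lit 718) (nat_lit 972) (Dv.wd (nat_lit 133) [Mv.f (nat_lit 2417), Mv.b (nat_lit 2468), Mv.f (nat_lit 2114)]))))
(Tr.nd (nat_lit 2473) (Tr.lf (Fc.al (nat_lit 2472) (nat_lit 822) (nat_lit 899) (Dv.wd (nat_lit 136) [Mv.f (nat_lit 2407), Mv.b (nat_lit 2469), Mv.b (nat_lit 2267)])))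
(Tr.nd (nat_lit 2474) (Tr.lf (Fc.al (nat_lit 2473) (nat_lit 825) (nat_lit 904) (Dv.wd (nat_lit 136) [Mv.f (nat_lit 2414), Mv.b (nat_lit 2470), Mv.b (nat_lit 2277)])))
(Tr.lf (Fc.al (nat_lit 2474) (nat_lit 588) (nat_lit 978) (Dv.wd (nat_lit 134) [Mv.f (nat_lit 2429), Mv.b (nat_lit 2471), Mv.f (nat_lit 1842)]))))))))
(Tr.nd (nat_lit 2485) (Tr.nd (nat_lit 2480) (Tr.nd (nat_lit 2477) (Tr.nd (nat_lit 2476) (Tr.lf (Fc.al (nat_lit 2475) (nat_lit 712) (nat_lit 967) (Dv.wd (nat_lit 133) [Mv.f (nat_lit 2406), Mv.b (nat_lit 2472), Mv.b (nat_lit 2102)])))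
(Tr.lf (Fc.ed (nat_lit 2476) (nat_lit 825) Col.f (nat_lit 825) (Dv.wd (nat_lit 137) [Mv.f (nat_lit 2275), Mv.b (nat_lit 2473)]))))
(Tr.nd (nat_lit 2478) (Tr.lf (Fc.al (nat_lit 2477) (nat_lit 716) (nat_lit 914) (Dv.wd (nat_lit 137) [Mv.b (nat_lit 2430), Mv.b (nat_lit 2474), Mv.b (nat_lit 1839)])))
(Tr.nd (nat_lit 2479) (Tr.lf (Fc.al (nat_lit 2478) (nat_lit 582) (nat_lit 977) (Dv.wd (nat_lit 134) [Mv.f (nat_lit 2427), Mv.b (nat_lit 2475), Mv.b (nat_lit 1828)])))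
(Tr.lf (Fc.al (nat_lit 2479) (nat_lit 740) (nat_lit 837) (Dv.wd (nat_lit 133) [Mv.b (nat_lit 2299), Mv.b (nat_lit 2477), Mv.b (nat_lit 1895)]))))))
(Tr.nd (nat_lit 2482) (Tr.nd (nat_lit 2481) (Tr.lf (Fc.al (nat_lit 2480) (nat_lit 449) (nat_lit 980) (Dv.wd (nat_lit 145) [Mv.f (nat_lit 2434), Mv.b (nat_lit 2478), Mv.f (nat_lit 1550)])))
(Tr.lf (Fc.al (nat_lit 2481) (nat_lit 616) (nat_lit 739) (Dv.wd (nat_lit 136) [Mv.f (nat_lit 2135), Mv.b (nat_lit 2479), Mv.b (nat_lit 1894)]))))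
(Tr.nd (nat_lit 2483) (Tr.lf (Fc.al (nat_lit 2482) (nat_lit 583) (nat_lit 916) (Dv.wd (nat_lit 137) [Mv.f (nat_lit 2433), Mv.b (nat_lit 2480), Mv.b (nat_lit 1552)])))
(Tr.nd (nat_lit 2484) (Tr.lf (Fc.al (nat_lit 2483) (nat_lit 480) (nat_lit 835) (Dv.wd (nat_lit 135) [Mv.f (nat_lit 2132), Mv.b (nat_lit 2481), Mv.b (nat_lit 1618)])))
(Tr.lf (Fc.al (nat_lit 2484) (nat_lit 703) (nat_lit 979) (Dv.wd (nat_lit 146) [Mv.f (nat_lit 2432), Mv.b (nat_lit 2482), Mv.b (nat_lit 1811)])))))))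
(Tr.nd (nat_lit 2490) (Tr.nd (nat_lit 2487) (Tr.nd (nat_lit 2486) (Tr.lf (Fc.al (nat_lit 2485) (nat_lit 613) (nat_lit 840) (Dv.wd (nat_lit 133) [Mv.f (nat_lit 2302), Mv.b (nat_lit 2482), Mv.b (nat_lit 1614)])))
(Tr.lf (Fc.al (nat_lit 2486) (nat_lit 614) (nat_lit 738) (Dv.wd (nat_lit 134) [Mv.f (nat_lit 2131), Mv.b (nat_lit 2483), Mv.b (nat_lit 1616)]))))
(Tr.nd (nat_lit 2488) (Tr.lf (Fc.al (nat_lit 2487) (nat_lit 729) (nat_lit 915) (Dv.wd (nat_lit 133) [Mv.f (nat_lit 2431), Mv.b (nat_lit 2484), Mv.b (nat_lit 1871)])))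
(Tr.nd (nat_lit 2489) (Tr.lf (Fc.al (nat_lit 2488) (nat_lit 625) (nat_lit 747) (Dv.wd (nat_lit 134) [Mv.f (nat_lit 2141), Mv.b (nat_lit 2485), Mv.b (nat_lit 1641)])))
(Tr.lf (Fc.al (nat_lit 2489) (nat_lit 478) (nat_lit 615) (Dv.wd (nat_lit 145) [Mv.b (nat_lit 1892), Mv.b (nat_lit 2486), Mv.b (nat_lit 1615)]))))))
(Tr.nd (nat_lit 2493) (Tr.nd (nat_lit 2491) (Tr.lf (Fc.al (nat_lit 2490) (nat_lit 745) (nat_lit 839) (Dv.wd (nat_lit 134) [Mv.f (nat_lit 2300), Mv.b (nat_lit 2487), Mv.b (nat_lit 1907)])))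
(Tr.nd (nat_lit 2492) (Tr.lf (Fc.al (nat_lit 2491) (nat_lit 487) (nat_lit 624) (Dv.wd (nat_lit 135) [Mv.f (nat_lit 1912), Mv.b (nat_lit 2488), Mv.b (nat_lit 1640)])))
(Tr.lf (Fc.ed (nat_lit 2492) (nat_lit 478) Col.h (nat_lit 478) (Dv.wd (nat_lit 135) [Mv.f (nat_lit 1617), Mv.b (nat_lit 2489)])))))
(Tr.nd (nat_lit 2494) (Tr.lf (Fc.al (nat_lit 2493) (nat_lit 622) (nat_lit 744) (Dv.wd (nat_lit 135) [Mv.f (nat_lit 2139), Mv.b (nat_lit 2490), Mv.b (nat_lit 1906)])))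
(Tr.nd (nat_lit 2495) (Tr.lf (Fc.ed (nat_lit 2494) (nat_lit 487) Col.c (nat_lit 487) (Dv.wd (nat_lit 145) [Mv.f (nat_lit 1639), Mv.b (nat_lit 2491)])))
(Tr.lf (Fc.al (nat_lit 2495) (nat_lit 485) (nat_lit 748) (Dv.wd (nat_lit 134) [Mv.f (nat_lit 1915), Mv.b (nat_lit 2493), Mv.b (nat_lit 1632)])))))))))
(Tr.nd (nat_lit 2516) (Tr.nd (nat_lit 2506) (Tr.nd (nat_lit 2501) (Tr.nd (nat_lit 2498) (Tr.nd (nat_lit 2497) (Tr.lf (Fc.al (nat_lit 2496) (nat_lit 489) (nat_lit 627) (Dv.wd (nat_lit 145) [Mv.f (nat_lit 1914), Mv.b (nat_lit 2495), Mv.b (nat_lit 1345)])))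
(Tr.lf (Fc.ed (nat_lit 2497) (nat_lit 489) Col.d (nat_lit 489) (Dv.wd (nat_lit 134) [Mv.f (nat_lit 1644), Mv.b (nat_lit 2496)]))))
(Tr.nd (nat_lit 2499) (Tr.lf (Fc.ed (nat_lit 2498) (nat_lit 934) Col.f (nat_lit 993) Dv.df))
(Tr.nd (nat_lit 2500) (Tr.lf (Fc.ed (nat_lit 2499) (nat_lit 993) Col.d (nat_lit 935) (Dv.wd (nat_lit 109) [Mv.b (nat_lit 2341), Mv.f (nat_lit 2339), Mv.f (nat_lit 2498)])))
(Tr.lf (Fc.ed (nat_lit 2500) (nat_lit 993) Col.i (nat_lit 984) (Dv.wd (nat_lit 79) [Mv.f (nat_lit 2445), Mv.b (nat_lit 2340), Mv.f (nat_lit 2498)]))))))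
(Tr.nd (nat_lit 2503) (Tr.nd (nat_lit 2502) (Tr.lf (Fc.ed (nat_lit 2501) (nat_lit 938) Col.b (nat_lit 994) Dv.df))
(Tr.lf (Fc.ed (nat_lit 2502) (nat_lit 994) Col.k (nat_lit 941) (Dv.wd (nat_lit 89) [Mv.b (nat_lit 2354), Mv.b (nat_lit 2348), Mv.f (nat_lit 2501)]))))
(Tr.nd (nat_lit 2504) (Tr.lf (Fc.ed (nat_lit 2503) (nat_lit 938) Col.e (nat_lit 995) Dv.df))
(Tr.nd (nat_lit 2505) (Tr.lf (Fc.ed (nat_lit 2504) (nat_lit 995) Col.c (nat_lit 939) (Dv.wd (nat_lit 91) [Mv.b (nat_lit 2349), Mv.f (nat_lit 2347), Mv.f (nat_lit 2503)])))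
(Tr.lf (Fc.ed (nat_lit 2505) (nat_lit 939) Col.f (nat_lit 996) Dv.df))))))
(Tr.nd (nat_lit 2511) (Tr.nd (nat_lit 2508) (Tr.nd (nat_lit 2507) (Tr.lf (Fc.ed (nat_lit 2506) (nat_lit 996) Col.a (nat_lit 996) (Dv.wd (nat_lit 78) [Mv.b (nat_lit 2505), Mv.f (nat_lit 2350), Mv.f (nat_lit 2505)])))
(Tr.lf (Fc.ed (nat_lit 2507) (nat_lit 996) Col.b (nat_lit 996) (Dv.wd (nat_lit 128) [Mv.b (nat_lit 2505), Mv.f (nat_lit 2351), Mv.f (nat_lit 2505)]))))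
(Tr.nd (nat_lit 2509) (Tr.lf (Fc.ed (nat_lit 2508) (nat_lit 939) Col.h (nat_lit 997) Dv.df))
(Tr.nd (nat_lit 2510) (Tr.lf (Fc.ed (nat_lit 2509) (nat_lit 997) Col.e (nat_lit 940) (Dv.wd (nat_lit 117) [Mv.b (nat_lit 2352), Mv.f (nat_lit 2349), Mv.f (nat_lit 2508)])))
(Tr.lf (Fc.ed (nat_lit 2510) (nat_lit 942) Col.e (nat_lit 998) Dv.df)))))
(Tr.nd (nat_lit 2513) (Tr.nd (nat_lit 2512) (Tr.lf (Fc.ed (nat_lit 2511) (nat_lit 998) Col.b (nat_lit 943) (Dv.wd (nat_lit 97) [Mv.b (nat_lit 2359), Mv.f (nat_lit 2356), Mv.f (nat_lit 2510)])))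
(Tr.lf (Fc.ed (nat_lit 2512) (nat_lit 942) Col.h (nat_lit 999) Dv.df)))
(Tr.nd (nat_lit 2514) (Tr.lf (Fc.ed (nat_lit 2513) (nat_lit 999) Col.a (nat_lit 999) (Dv.wd (nat_lit 83) [Mv.b (nat_lit 2512), Mv.f (nat_lit 2358), Mv.f (nat_lit 2512)])))
(Tr.nd (nat_lit 2515) (Tr.lf (Fc.ed (nat_lit 2514) (nat_lit 999) Col.b (nat_lit 944) (Dv.wd (nat_lit 101) [Mv.b (nat_lit 2361), Mv.f (nat_lit 2356), Mv.f (nat_lit 2512)])))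
(Tr.lf (Fc.ed (nat_lit 2515) (nat_lit 943) Col.f (nat_lit 1000) Dv.df)))))))
(Tr.nd (nat_lit 2526) (Tr.nd (nat_lit 2521) (Tr.nd (nat_lit 2518) (Tr.nd (nat_lit 2517) (Tr.lf (Fc.ed (nat_lit 2516) (nat_lit 1000) Col.a (nat_lit 946) (Dv.wd (nat_lit 78) [Mv.b (nat_lit 2365), Mv.b (nat_lit 2360), Mv.f (nat_lit 2515)])))
(Tr.lf (Fc.ed (nat_lit 2517) (nat_lit 945) Col.f (nat_lit 1001) Dv.df)))
(Tr.nd (nat_lit 2519) (Tr.lf (Fc.ed (nat_lit 2518) (nat_lit 1001) Col.k (nat_lit 947) (Dv.wd (nat_lit 77) [Mv.b (nat_lit 2366), Mv.b (nat_lit 2364), Mv.f (nat_lit 2517)])))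
(Tr.nd (nat_lit 2520) (Tr.lf (Fc.ed (nat_lit 2519) (nat_lit 1001) Col.d (nat_lit 946) (Dv.wd (nat_lit 109) [Mv.b (nat_lit 2365), Mv.f (nat_lit 2363), Mv.f (nat_lit 2517)])))
(Tr.lf (Fc.ed (nat_lit 2520) (nat_lit 947) Col.e (nat_lit 1002) Dv.df)))))
(Tr.nd (nat_lit 2523) (Tr.nd (nat_lit 2522) (Tr.lf (Fc.ed (nat_lit 2521) (nat_lit 1002) Col.a (nat_lit 948) (Dv.wd (nat_lit 70) [Mv.b (nat_lit 2368), Mv.b (nat_lit 2367), Mv.f (nat_lit 2520)])))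
(Tr.lf (Fc.ed (nat_lit 2522) (nat_lit 949) Col.e (nat_lit 1003) Dv.df)))
(Tr.nd (nat_lit 2524) (Tr.lf (Fc.ed (nat_lit 2523) (nat_lit 1003) Col.b (nat_lit 950) (Dv.wd (nat_lit 97) [Mv.b (nat_lit 2371), Mv.f (nat_lit 2369), Mv.f (nat_lit 2522)])))
(Tr.nd (nat_lit 2525) (Tr.lf (Fc.ed (nat_lit 2524) (nat_lit 951) Col.h (nat_lit 1004) Dv.df))
(Tr.lf (Fc.ed (nat_lit 2525) (nat_lit 1004) Col.k (nat_lit 954) (Dv.wd (nat_lit 82) [Mv.b (nat_lit 2379), Mv.b (nat_lit 2374), Mv.f (nat_lit 2524)])))))))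
(Tr.nd (nat_lit 2531) (Tr.nd (nat_lit 2528) (Tr.nd (nat_lit 2527) (Tr.lf (Fc.ed (nat_lit 2526) (nat_lit 1004) Col.e (nat_lit 952) (Dv.wd (nat_lit 117) [Mv.b (nat_lit 2375), Mv.f (nat_lit 2373), Mv.f (nat_lit 2524)])))
(Tr.lf (Fc.ed (nat_lit 2527) (nat_lit 953) Col.h (nat_lit 1005) Dv.df)))
(Tr.nd (nat_lit 2529) (Tr.lf (Fc.ed (nat_lit 2528) (nat_lit 1005) Col.l (nat_lit 957) (Dv.wd (nat_lit 81) [Mv.b (nat_lit 2383), Mv.b (nat_lit 2377), Mv.f (nat_lit 2527)])))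
(Tr.nd (nat_lit 2530) (Tr.lf (Fc.ed (nat_lit 2529) (nat_lit 1005) Col.b (nat_lit 954) (Dv.wd (nat_lit 101) [Mv.b (nat_lit 2379), Mv.b (nat_lit 2378), Mv.f (nat_lit 2527)])))
(Tr.lf (Fc.ed (nat_lit 2530) (nat_lit 955) Col.h (nat_lit 1006) Dv.df)))))
(Tr.nd (nat_lit 2534) (Tr.nd (nat_lit 2532) (Tr.lf (Fc.ed (nat_lit 2531) (nat_lit 1006) Col.c (nat_lit 957) (Dv.wd (nat_lit 131) [Mv.b (nat_lit 2383), Mv.b (nat_lit 2381), Mv.f (nat_lit 2530)])))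
(Tr.nd (nat_lit 2533) (Tr.lf (Fc.ed (nat_lit 2532) (nat_lit 1006) Col.e (nat_lit 956) (Dv.wd (nat_lit 117) [Mv.b (nat_lit 2382), Mv.f (nat_lit 2380), Mv.f (nat_lit 2530)])))
(Tr.lf (Fc.ed (nat_lit 2533) (nat_lit 957) Col.d (nat_lit 1007) Dv.df))))
(Tr.nd (nat_lit 2535) (Tr.lf (Fc.ed (nat_lit 2534) (nat_lit 1007) Col.b (nat_lit 958) (Dv.wd (nat_lit 127) [Mv.b (nat_lit 2385), Mv.b (nat_lit 2384), Mv.f (nat_lit 2533)])))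
(Tr.nd (nat_lit 2536) (Tr.lf (Fc.ed (nat_lit 2535) (nat_lit 958) Col.c (nat_lit 1008) Dv.df))
(Tr.lf (Fc.ed (nat_lit 2536) (nat_lit 1008) Col.a (nat_lit 959) (Dv.wd (nat_lit 87) [Mv.b (nat_lit 2387), Mv.b (nat_lit 2386), Mv.f (nat_lit 2535)]))))))))))
(Tr.nd (nat_lit 2578) (Tr.nd (nat_lit 2557) (Tr.nd (nat_lit 2547) (Tr.nd (nat_lit 2542) (Tr.nd (nat_lit 2539) (Tr.nd (nat_lit 2538) (Tr.lf (Fc.ed (nat_lit 2537) (nat_lit 959) Col.b (nat_lit 1009) Dv.df))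
(Tr.lf (Fc.ed (nat_lit 2538) (nat_lit 1009) Col.k (nat_lit 963) (Dv.wd (nat_lit 89) [Mv.b (nat_lit 2395), Mv.b (nat_lit 2388), Mv.f (nat_lit 2537)]))))
(Tr.nd (nat_lit 2540) (Tr.lf (Fc.ed (nat_lit 2539) (nat_lit 960) Col.d (nat_lit 1010) Dv.df))
(Tr.nd (nat_lit 2541) (Tr.lf (Fc.ed (nat_lit 2540) (nat_lit 1010) Col.b (nat_lit 961) (Dv.wd (nat_lit 127) [Mv.b (nat_lit 2392), Mv.b (nat_lit 2390), Mv.f (nat_lit 2539)])))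
(Tr.lf (Fc.ed (nat_lit 2541) (nat_lit 1010) Col.c (nat_lit 966) (Dv.wd (nat_lit 154) [Mv.f (nat_lit 2404), Mv.f (nat_lit 2272), Mv.f (nat_lit 2110), Mv.f (nat_lit 2476), Mv.b (nat_lit 2108), Mv.b (nat_lit 1832), Mv.f (nat_lit 1557), Mv.f (nat_lit 1556), Mv.b (nat_lit 1549), Mv.b (nat_lit 1548), Mv.f (nat_lit 1546), Mv.b (nat_lit 1612), Mv.b (nat_lit 1887), Mv.b (nat_lit 1886), Mv.f (nat_lit 1970), Mv.f (nat_lit 1608), Mv.f (nat_lit 2492), Mv.f (nat_lit 1317), Mv.f (nat_lit 1318), Mv.b (nat_lit 1316), Mv.f (nat_lit 1001), Mv.f (nat_lit 700), Mv.b (nat_lit 998), Mv.b (nat_lit 1022), Mv.f (nat_lit 1023), Mv.b (nat_lit 1021), Mv.f (nat_lit 711), Mv.b (nat_lit 718), Mv.f (nat_lit 1967), Mv.f (nat_lit 717), Mv.b (nat_lit 697), Mv.b (nat_lit 694), Mv.f (nat_lit 428), Mv.f (nat_lit 430), Mv.b (nat_lit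 427), Mv.f (nat_lit 578), Mv.f (nat_lit 422), Mv.b (nat_lit 436), Mv.f (nat_lit 710), Mv.f (nat_lit 1021), Mv.f (nat_lit 1341), Mv.f (nat_lit 2494), Mv.b (nat_lit 1636), Mv.f (nat_lit 1635), Mv.f (nat_lit 1908), Mv.f (nat_lit 1910), Mv.f (nat_lit 1909), Mv.f (nat_lit 1911), Mv.b (nat_lit 2129), Mv.b (nat_lit 2293), Mv.b (nat_lit 2425), Mv.b (nat_lit 2424), Mv.f (nat_lit 2291), Mv.f (nat_lit 2290), Mv.b (nat_lit 2400), Mv.f (nat_lit 2399), Mv.f (nat_lit 2398), Mv.f (nat_lit 2397), Mv.f (nat_lit 2258), Mv.f (nat_lit 2401), Mv.f (nat_lit 2402), Mv.b (nat_lit 2391), Mv.f (nat_lit 2539)]))))))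
(Tr.nd (nat_lit 2544) (Tr.nd (nat_lit 2543) (Tr.lf (Fc.ed (nat_lit 2542) (nat_lit 961) Col.c (nat_lit 1011) Dv.df))
(Tr.lf (Fc.ed (nat_lit 2543) (nat_lit 1011) Col.b (nat_lit 969) (Dv.wd (nat_lit 130) [Mv.f (nat_lit 2411), Mv.b (nat_lit 2404), Mv.b (nat_lit 2541), Mv.f (nat_lit 2540), Mv.f (nat_lit 2542)]))))
(Tr.nd (nat_lit 2545) (Tr.lf (Fc.ed (nat_lit 2544) (nat_lit 1011) Col.d (nat_lit 962) (Dv.wd (nat_lit 126) [Mv.b (nat_lit 2393), Mv.b (nat_lit 2250), Mv.b (nat_lit 2249), Mv.f (nat_lit 2392), Mv.f (nat_lit 2542)])))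
(Tr.nd (nat_lit 2546) (Tr.lf (Fc.ed (nat_lit 2545) (nat_lit 962) Col.b (nat_lit 1012) Dv.df))
(Tr.lf (Fc.ed (nat_lit 2546) (nat_lit 1012) Col.d (nat_lit 969) (Dv.wd (nat_lit 35) [Mv.b (nat_lit 2543), Mv.f (nat_lit 2544), Mv.f (nat_lit 2545)])))))))
(Tr.nd (nat_lit 2552) (Tr.nd (nat_lit 2549) (Tr.nd (nat_lit 2548) (Tr.lf (Fc.ed (nat_lit 2547) (nat_lit 1012) Col.h (nat_lit 963) (Dv.wd (nat_lit 113) [Mv.b (nat_lit 2395), Mv.b (nat_lit 2394), Mv.f (nat_lit 2545)])))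
(Tr.lf (Fc.ed (nat_lit 2548) (nat_lit 970) Col.a (nat_lit 1012) (Dv.wd (nat_lit 61) [Mv.f (nat_lit 2546), Mv.f (nat_lit 2410), Mv.f (nat_lit 2412)]))))
(Tr.nd (nat_lit 2550) (Tr.lf (Fc.ed (nat_lit 2549) (nat_lit 963) Col.a (nat_lit 1013) Dv.df))
(Tr.nd (nat_lit 2551) (Tr.lf (Fc.ed (nat_lit 2550) (nat_lit 1013) Col.h (nat_lit 970) (Dv.wd (nat_lit 122) [Mv.f (nat_lit 2548), Mv.f (nat_lit 2547), Mv.f (nat_lit 2549)])))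
(Tr.lf (Fc.ed (nat_lit 2551) (nat_lit 1013) Col.k (nat_lit 1013) (Dv.wd (nat_lit 55) [Mv.f (nat_lit 2550), Mv.f (nat_lit 2413), Mv.b (nat_lit 2550)]))))))
(Tr.nd (nat_lit 2554) (Tr.nd (nat_lit 2553) (Tr.lf (Fc.ed (nat_lit 2552) (nat_lit 1009) Col.a (nat_lit 1009) (Dv.wd (nat_lit 59) [Mv.f (nat_lit 2538), Mv.f (nat_lit 2549), Mv.f (nat_lit 2551), Mv.b (nat_lit 2549), Mv.b (nat_lit 2538)])))
(Tr.lf (Fc.ed (nat_lit 2553) (nat_lit 1008) Col.b (nat_lit 1008) (Dv.wd (nat_lit 63) [Mv.f (nat_lit 2536), Mv.f (nat_lit 2537), Mv.f (nat_lit 2552), Mv.b (nat_lit 2537), Mv.b (nat_lit 2536)]))))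
(Tr.nd (nat_lit 2555) (Tr.lf (Fc.ed (nat_lit 2554) (nat_lit 1007) Col.c (nat_lit 1007) (Dv.wd (nat_lit 52) [Mv.f (nat_lit 2534), Mv.f (nat_lit 2535), Mv.f (nat_lit 2553), Mv.b (nat_lit 2535), Mv.b (nat_lit 2534)])))
(Tr.nd (nat_lit 2556) (Tr.lf (Fc.ed (nat_lit 2555) (nat_lit 1006) Col.d (nat_lit 1006) (Dv.wd (nat_lit 34) [Mv.f (nat_lit 2531), Mv.f (nat_lit 2533), Mv.f (nat_lit 2554), Mv.b (nat_lit 2533), Mv.b (nat_lit 2531)])))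
(Tr.lf (Fc.al (nat_lit 2556) (nat_lit 626) (nat_lit 1006) (Dv.wd (nat_lit 155) [Mv.f (nat_lit 2555), Mv.f (nat_lit 2532), Mv.b (nat_lit 2423), Mv.b (nat_lit 2422), Mv.f (nat_lit 2286), Mv.f (nat_lit 2288), Mv.b (nat_lit 2285), Mv.b (nat_lit 2117), Mv.b (nat_lit 1851), Mv.f (nat_lit 2121), Mv.f (nat_lit 2124), Mv.f (nat_lit 2122), Mv.f (nat_lit 2123), Mv.f (nat_lit 1855), Mv.b (nat_lit 1582), Mv.f (nat_lit 1862), Mv.f (nat_lit 1863), Mv.b (nat_lit 1903), Mv.f (nat_lit 1902), Mv.f (nat_lit 1631), Mv.b (nat_lit 1345), Mv.f (nat_lit 2497), Mv.b (nat_lit 1344), Mv.b (nat_lit 1026), Mv.b (nat_lit 983), Mv.f (nat_lit 982), Mv.f (nat_lit 1969), Mv.b (nat_lit 981), Mv.f (nat_lit 682), Mv.f (nat_lit 673), Mv.f (nat_lit 668), Mv.f (nat_lit 649), Mv.f (nat_lit 651), Mv.f (nat_lit 941), Mv.f (nat_lit 1234),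 Mv.f (nat_lit 1527), Mv.f (nat_lit 1807), Mv.f (nat_lit 1973), Mv.f (nat_lit 2085), Mv.b (nat_lit 2243), Mv.b (nat_lit 2384), Mv.b (nat_lit 2531), Mv.f (nat_lit 2555), Mv.f (nat_lit 2532), Mv.b (nat_lit 2423), Mv.b (nat_lit 2422), Mv.f (nat_lit 2286), Mv.f (nat_lit 2288), Mv.b (nat_lit 2285), Mv.b (nat_lit 2117), Mv.b (nat_lit 1851), Mv.f (nat_lit 2121), Mv.f (nat_lit 2124), Mv.f (nat_lit 2122), Mv.f (nat_lit 2123), Mv.f (nat_lit 1855), Mv.b (nat_lit 1582), Mv.f (nat_lit 1862), Mv.f (nat_lit 1863), Mv.b (nat_lit 1903), Mv.b (nat_lit 2137), Mv.f (nat_lit 2138), Mv.f (nat_lit 1900), Mv.b (nat_lit 1643)]))))))))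
(Tr.nd (nat_lit 2567) (Tr.nd (nat_lit 2562) (Tr.nd (nat_lit 2559) (Tr.nd (nat_lit 2558) (Tr.lf (Fc.al (nat_lit 2557) (nat_lit 619) (nat_lit 957) (Dv.wd (nat_lit 145) [Mv.b (nat_lit 2531), Mv.b (nat_lit 2556), Mv.f (nat_lit 1643)])))
(Tr.lf (Fc.al (nat_lit 2558) (nat_lit 485) (nat_lit 1005) (Dv.wd (nat_lit 156) [Mv.f (nat_lit 2528), Mv.b (nat_lit 2557), Mv.f (nat_lit 1625)]))))
(Tr.nd (nat_lit 2560) (Tr.lf (Fc.al (nat_lit 2559) (nat_lit 621) (nat_lit 954) (Dv.wd (nat_lit 132) [Mv.b (nat_lit 2529), Mv.b (nat_lit 2558), Mv.b (nat_lit 1631)])))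
(Tr.nd (nat_lit 2561) (Tr.lf (Fc.al (nat_lit 2560) (nat_lit 486) (nat_lit 1004) (Dv.wd (nat_lit 146) [Mv.f (nat_lit 2525), Mv.b (nat_lit 2559), Mv.f (nat_lit 1630)])))
(Tr.lf (Fc.al (nat_lit 2561) (nat_lit 348) (nat_lit 952) (Dv.wd (nat_lit 133) [Mv.b (nat_lit 2526), Mv.b (nat_lit 2560), Mv.b (nat_lit 1336)]))))))
(Tr.nd (nat_lit 2564) (Tr.nd (nat_lit 2563) (Tr.lf (Fc.al (nat_lit 2562) (nat_lit 336) (nat_lit 882) (Dv.wd (nat_lit 135) [Mv.f (nat_lit 2375), Mv.b (nat_lit 2561), Mv.f (nat_lit 1020)])))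
(Tr.lf (Fc.al (nat_lit 2563) (nat_lit 329) (nat_lit 807) (Dv.wd (nat_lit 134) [Mv.f (nat_lit 2233), Mv.b (nat_lit 2562), Mv.f (nat_lit 990)]))))
(Tr.nd (nat_lit 2565) (Tr.lf (Fc.al (nat_lit 2564) (nat_lit 459) (nat_lit 698) (Dv.wd (nat_lit 145) [Mv.f (nat_lit 2074), Mv.b (nat_lit 2563), Mv.b (nat_lit 1278)])))
(Tr.nd (nat_lit 2566) (Tr.lf (Fc.al (nat_lit 2565) (nat_lit 577) (nat_lit 808) (Dv.wd (nat_lit 133) [Mv.b (nat_lit 2076), Mv.b (nat_lit 2564), Mv.b (nat_lit 1541)])))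
(Tr.lf (Fc.al (nat_lit 2566) (nat_lit 567) (nat_lit 805) (Dv.wd (nat_lit 136) [Mv.b (nat_lit 2077), Mv.b (nat_lit 2565), Mv.f (nat_lit 1540)])))))))
(Tr.nd (nat_lit 2572) (Tr.nd (nat_lit 2569) (Tr.nd (nat_lit 2568) (Tr.lf (Fc.al (nat_lit 2567) (nat_lit 562) (nat_lit 804) (Dv.wd (nat_lit 135) [Mv.b (nat_lit 2072), Mv.b (nat_lit 2566), Mv.f (nat_lit 1516)])))
(Tr.lf (Fc.al (nat_lit 2568) (nat_lit 692) (nat_lit 880) (Dv.wd (nat_lit 134) [Mv.f (nat_lit 2231), Mv.b (nat_lit 2567), Mv.b (nat_lit 1790)]))))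
(Tr.nd (nat_lit 2570) (Tr.lf (Fc.al (nat_lit 2569) (nat_lit 803) (nat_lit 950) (Dv.wd (nat_lit 145) [Mv.f (nat_lit 2372), Mv.b (nat_lit 2568), Mv.b (nat_lit 2069)])))
(Tr.nd (nat_lit 2571) (Tr.lf (Fc.al (nat_lit 2570) (nat_lit 878) (nat_lit 1003) (Dv.wd (nat_lit 132) [Mv.f (nat_lit 2523), Mv.b (nat_lit 2569), Mv.b (nat_lit 2227)])))
(Tr.lf (Fc.al (nat_lit 2571) (nat_lit 948) (nat_lit 949) (Dv.wd (nat_lit 133) [Mv.f (nat_lit 2522), Mv.b (nat_lit 2570), Mv.f (nat_lit 2368)]))))))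
(Tr.nd (nat_lit 2575) (Tr.nd (nat_lit 2573) (Tr.lf (Fc.ed (nat_lit 2572) (nat_lit 948) Col.k (nat_lit 881) (Dv.wd (nat_lit 146) [Mv.b (nat_lit 2370), Mv.b (nat_lit 2571)])))
(Tr.nd (nat_lit 2574) (Tr.lf (Fc.ed (nat_lit 2573) (nat_lit 982) Col.i (nat_lit 1014) Dv.df))
(Tr.lf (Fc.ed (nat_lit 2574) (nat_lit 1014) Col.a (nat_lit 983) (Dv.wd (nat_lit 121) [Mv.b (nat_lit 2441), Mv.b (nat_lit 2439), Mv.f (nat_lit 2573)])))))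
(Tr.nd (nat_lit 2576) (Tr.lf (Fc.ed (nat_lit 2575) (nat_lit 1014) Col.e (nat_lit 993) (Dv.wd (nat_lit 25) [Mv.f (nat_lit 2500), Mv.f (nat_lit 2444), Mv.f (nat_lit 2573)])))
(Tr.nd (nat_lit 2577) (Tr.lf (Fc.ed (nat_lit 2576) (nat_lit 1014) Col.f (nat_lit 1014) (Dv.wd (nat_lit 26) [Mv.b (nat_lit 2573), Mv.f (nat_lit 2440), Mv.f (nat_lit 2573)])))
(Tr.lf (Fc.ed (nat_lit 2577) (nat_lit 983) Col.h (nat_lit 1015) Dv.df))))))))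
(Tr.nd (nat_lit 2598) (Tr.nd (nat_lit 2588) (Tr.nd (nat_lit 2583) (Tr.nd (nat_lit 2580) (Tr.nd (nat_lit 2579) (Tr.lf (Fc.ed (nat_lit 2578) (nat_lit 1015) Col.b (nat_lit 988) (Dv.wd (nat_lit 101) [Mv.b (nat_lit 2453), Mv.b (nat_lit 2442), Mv.f (nat_lit 2577)])))
(Tr.lf (Fc.ed (nat_lit 2579) (nat_lit 985) Col.e (nat_lit 1016) Dv.df)))
(Tr.nd (nat_lit 2581) (Tr.lf (Fc.ed (nat_lit 2580) (nat_lit 1016) Col.k (nat_lit 987) (Dv.wd (nat_lit 69) [Mv.b (nat_lit 2451), Mv.b (nat_lit 2447), Mv.f (nat_lit 2579)])))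
(Tr.nd (nat_lit 2582) (Tr.lf (Fc.ed (nat_lit 2581) (nat_lit 1016) Col.a (nat_lit 989) (Dv.wd (nat_lit 70) [Mv.b (nat_lit 2455), Mv.b (nat_lit 2448), Mv.f (nat_lit 2579)])))
(Tr.lf (Fc.ed (nat_lit 2582) (nat_lit 987) Col.d (nat_lit 1017) Dv.df)))))
(Tr.nd (nat_lit 2585) (Tr.nd (nat_lit 2584) (Tr.lf (Fc.ed (nat_lit 2583) (nat_lit 994) Col.a (nat_lit 1018) Dv.df))
(Tr.lf (Fc.ed (nat_lit 2584) (nat_lit 1018) Col.k (nat_lit 1002) (Dv.wd (nat_lit 143) [Mv.f (nat_lit 2521), Mv.f (nat_lit 2572), Mv.b (nat_lit 2355), Mv.b (nat_lit 2502), Mv.f (nat_lit 2583)]))))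
(Tr.nd (nat_lit 2586) (Tr.lf (Fc.ed (nat_lit 2585) (nat_lit 1001) Col.e (nat_lit 1018) (Dv.wd (nat_lit 157) [Mv.f (nat_lit 2584), Mv.b (nat_lit 2520), Mv.b (nat_lit 2518)])))
(Tr.nd (nat_lit 2587) (Tr.lf (Fc.ed (nat_lit 2586) (nat_lit 994) Col.e (nat_lit 1019) Dv.df))
(Tr.lf (Fc.ed (nat_lit 2587) (nat_lit 1019) Col.a (nat_lit 1001) (Dv.wd (nat_lit 70) [Mv.f (nat_lit 2585), Mv.b (nat_lit 2583), Mv.f (nat_lit 2586)])))))))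
(Tr.nd (nat_lit 2593) (Tr.nd (nat_lit 2590) (Tr.nd (nat_lit 2589) (Tr.lf (Fc.ed (nat_lit 2588) (nat_lit 1019) Col.b (nat_lit 995) (Dv.wd (nat_lit 97) [Mv.b (nat_lit 2503), Mv.f (nat_lit 2501), Mv.f (nat_lit 2586)])))
(Tr.lf (Fc.ed (nat_lit 2589) (nat_lit 1000) Col.d (nat_lit 1019) (Dv.wd (nat_lit 151) [Mv.f (nat_lit 2587), Mv.f (nat_lit 2519), Mv.b (nat_lit 2516)]))))
(Tr.nd (nat_lit 2591) (Tr.lf (Fc.ed (nat_lit 2590) (nat_lit 995) Col.d (nat_lit 1020) Dv.df))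
(Tr.nd (nat_lit 2592) (Tr.lf (Fc.ed (nat_lit 2591) (nat_lit 1020) Col.b (nat_lit 1000) (Dv.wd (nat_lit 127) [Mv.f (nat_lit 2589), Mv.f (nat_lit 2588), Mv.f (nat_lit 2590)])))
(Tr.lf (Fc.ed (nat_lit 2592) (nat_lit 998) Col.f (nat_lit 1020) (Dv.wd (nat_lit 158) [Mv.f (nat_lit 2591), Mv.b (nat_lit 2515), Mv.b (nat_lit 2511)]))))))
(Tr.nd (nat_lit 2595) (Tr.nd (nat_lit 2594) (Tr.lf (Fc.ed (nat_lit 2593) (nat_lit 995) Col.f (nat_lit 1021) Dv.df))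
(Tr.lf (Fc.ed (nat_lit 2594) (nat_lit 1021) Col.c (nat_lit 996) (Dv.wd (nat_lit 98) [Mv.b (nat_lit 2505), Mv.b (nat_lit 2504), Mv.f (nat_lit 2593)]))))
(Tr.nd (nat_lit 2596) (Tr.lf (Fc.ed (nat_lit 2595) (nat_lit 1021) Col.d (nat_lit 998) (Dv.wd (nat_lit 109) [Mv.f (nat_lit 2592), Mv.b (nat_lit 2590), Mv.f (nat_lit 2593)])))
(Tr.nd (nat_lit 2597) (Tr.lf (Fc.ed (nat_lit 2596) (nat_lit 996) Col.h (nat_lit 1022) Dv.df))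
(Tr.lf (Fc.ed (nat_lit 2597) (nat_lit 1022) Col.f (nat_lit 997) (Dv.wd (nat_lit 84) [Mv.b (nat_lit 2508), Mv.f (nat_lit 2505), Mv.f (nat_lit 2596)]))))))))
(Tr.nd (nat_lit 2608) (Tr.nd (nat_lit 2603) (Tr.nd (nat_lit 2600) (Tr.nd (nat_lit 2599) (Tr.lf (Fc.ed (nat_lit 2598) (nat_lit 1014) Col.h (nat_lit 1023) Dv.df))
(Tr.lf (Fc.ed (nat_lit 2599) (nat_lit 1023) Col.a (nat_lit 1015) (Dv.wd (nat_lit 83) [Mv.b (nat_lit 2577), Mv.b (nat_lit 2574), Mv.f (nat_lit 2598)]))))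
(Tr.nd (nat_lit 2601) (Tr.lf (Fc.al (nat_lit 2600) (nat_lit 1017) (nat_lit 541) (Dv.wd (nat_lit 159) [Mv.b (nat_lit 1756), Mv.b (nat_lit 2040), Mv.b (nat_lit 2039), Mv.b (nat_lit 2035), Mv.f (nat_lit 2036), Mv.b (nat_lit 2204), Mv.b (nat_lit 2342), Mv.b (nat_lit 2499), Mv.b (nat_lit 2575), Mv.f (nat_lit 2576), Mv.f (nat_lit 2598), Mv.f (nat_lit 2599), Mv.f (nat_lit 2578), Mv.f (nat_lit 2454), Mv.b (nat_lit 2353), Mv.b (nat_lit 2509), Mv.b (nat_lit 2597), Mv.b (nat_lit 2596), Mv.f (nat_lit 2506), Mv.f (nat_lit 2507), Mv.b (nat_lit 2594), Mv.f (nat_lit 2595), Mv.b (nat_lit 2510), Mv.f (nat_lit 2357), Mv.f (nat_lit 2512), Mv.f (nat_lit 2513), Mv.f (nat_lit 2514), Mv.f (nat_lit 2362), Mv.f (nat_lit 2221), Mv.b (nat_lit 2344), Mv.b (nat_lit 2450), Mv.b (nat_lit 2449), Mv.f (nat_lit 2322), Mv.f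 (nat_lit 2167), Mv.f (nat_lit 1980), Mv.f (nat_lit 1684), Mv.f (nat_lit 1394), Mv.f (nat_lit 1087), Mv.f (nat_lit 1088), Mv.f (nat_lit 1089), Mv.f (nat_lit 1090), Mv.f (nat_lit 792), Mv.f (nat_lit 762), Mv.b (nat_lit 804), Mv.b (nat_lit 1106), Mv.b (nat_lit 1105), Mv.f (nat_lit 801), Mv.b (nat_lit 807), Mv.f (nat_lit 808), Mv.f (nat_lit 809), Mv.b (nat_lit 1108), Mv.b (nat_lit 1112), Mv.f (nat_lit 1403), Mv.f (nat_lit 1404), Mv.f (nat_lit 1405), Mv.b (nat_lit 1374), Mv.f (nat_lit 1666), Mv.f (nat_lit 1941), Mv.f (nat_lit 1942), Mv.b (nat_lit 2160), Mv.b (nat_lit 2171), Mv.b (nat_lit 2326), Mv.b (nat_lit 2452), Mv.f (nat_lit 2582)])))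
(Tr.nd (nat_lit 2602) (Tr.lf (Fc.al (nat_lit 2601) (nat_lit 550) (nat_lit 987) (Dv.wd (nat_lit 134) [Mv.f (nat_lit 2582), Mv.f (nat_lit 2600), Mv.b (nat_lit 1485)])))
(Tr.lf (Fc.al (nat_lit 2602) (nat_lit 419) (nat_lit 1016) (Dv.wd (nat_lit 146) [Mv.f (nat_lit 2580), Mv.b (nat_lit 2601), Mv.f (nat_lit 1484)]))))))
(Tr.nd (nat_lit 2605) (Tr.nd (nat_lit 2604) (Tr.lf (Fc.al (nat_lit 2603) (nat_lit 297) (nat_lit 989) (Dv.wd (nat_lit 153) [Mv.b (nat_lit 2581), Mv.b (nat_lit 2602), Mv.f (nat_lit 1191)])))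
(Tr.lf (Fc.al (nat_lit 2604) (nat_lit 191) (nat_lit 928) (Dv.wd (nat_lit 145) [Mv.b (nat_lit 2456), Mv.b (nat_lit 2603), Mv.f (nat_lit 900)]))))
(Tr.nd (nat_lit 2606) (Tr.lf (Fc.al (nat_lit 2605) (nat_lit 303) (nat_lit 858) (Dv.wd (nat_lit 133) [Mv.f (nat_lit 2330), Mv.b (nat_lit 2604), Mv.b (nat_lit 916)])))
(Tr.nd (nat_lit 2607) (Tr.lf (Fc.al (nat_lit 2606) (nat_lit 314) (nat_lit 772) (Dv.wd (nat_lit 134) [Mv.f (nat_lit 2178), Mv.b (nat_lit 2605), Mv.b (nat_lit 938)])))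
(Tr.lf (Fc.al (nat_lit 2607) (nat_lit 437) (nat_lit 654) (Dv.wd (nat_lit 137) [Mv.b (nat_lit 1998), Mv.b (nat_lit 2606), Mv.b (nat_lit 1229)])))))))
(Tr.nd (nat_lit 2613) (Tr.nd (nat_lit 2610) (Tr.nd (nat_lit 2609) (Tr.lf (Fc.al (nat_lit 2608) (nat_lit 570) (nat_lit 521) (Dv.wd (nat_lit 133) [Mv.b (nat_lit 1703), Mv.b (nat_lit 2607), Mv.b (nat_lit 1521)])))
(Tr.lf (Fc.al (nat_lit 2609) (nat_lit 393) (nat_lit 436) (Dv.wd (nat_lit 135) [Mv.f (nat_lit 1520), Mv.f (nat_lit 2608), Mv.b (nat_lit 1419)]))))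
(Tr.nd (nat_lit 2611) (Tr.lf (Fc.al (nat_lit 2610) (nat_lit 272) (nat_lit 344) (Dv.wd (nat_lit 134) [Mv.b (nat_lit 1227), Mv.b (nat_lit 2609), Mv.f (nat_lit 1128)])))
(Tr.nd (nat_lit 2612) (Tr.lf (Fc.al (nat_lit 2611) (nat_lit 168) (nat_lit 479) (Dv.wd (nat_lit 145) [Mv.f (nat_lit 1320), Mv.b (nat_lit 2610), Mv.f (nat_lit 836)])))
(Tr.lf (Fc.al (nat_lit 2612) (nat_lit 268) (nat_lit 342) (Dv.wd (nat_lit 133) [Mv.b (nat_lit 1321), Mv.b (nat_lit 2611), Mv.b (nat_lit 828)]))))))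
(Tr.nd (nat_lit 2616) (Tr.nd (nat_lit 2614) (Tr.lf (Fc.al (nat_lit 2613) (nat_lit 266) (nat_lit 218) (Dv.wd (nat_lit 137) [Mv.b (nat_lit 1004), Mv.b (nat_lit 2612), Mv.f (nat_lit 829)])))
(Tr.nd (nat_lit 2615) (Tr.lf (Fc.al (nat_lit 2614) (nat_lit 117) (nat_lit 161) (Dv.wd (nat_lit 136) [Mv.f (nat_lit 822), Mv.f (nat_lit 2613), Mv.b (nat_lit 698)])))
(Tr.lf (Fc.al (nat_lit 2615) (nat_lit 43) (nat_lit 75) (Dv.wd (nat_lit 135) [Mv.f (nat_lit 536), Mv.b (nat_lit 2614), Mv.f (nat_lit 429)])))))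
(Tr.nd (nat_lit 2617) (Tr.lf (Fc.al (nat_lit 2616) (nat_lit 44) (nat_lit 47) (Dv.wd (nat_lit 134) [Mv.b (nat_lit 308), Mv.b (nat_lit 2615), Mv.f (nat_lit 196)])))
(Tr.nd (nat_lit 2618) (Tr.lf (Fc.al (nat_lit 2617) (nat_lit 45) (nat_lit 5) (Dv.wd (nat_lit 133) [Mv.f (nat_lit 216), Mv.b (nat_lit 2616), Mv.f (nat_lit 197)])))
(Tr.lf (Fc.ed (nat_lit 2618) (nat_lit 5) Col.e (nat_lit 44) (Dv.wd (nat_lit 133) [Mv.f (nat_lit 197), Mv.f (nat_lit 2617)])))))))))))))))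
noncomputable def mini1A : Tr (Alt Col) := (Tr.nd (nat_lit 80) (Tr.nd (nat_lit 40) (Tr.nd (nat_lit 20) (Tr.nd (nat_lit 10) (Tr.nd (nat_lit 5) (Tr.nd (nat_lit 2) (Tr.nd (nat_lit 1) (Tr.lf (Alt.base (nat_lit 0) [] [Col.l]))
(Tr.lf (Alt.base (nat_lit 1) [] [Col.k])))
(Tr.nd (nat_lit 3) (Tr.lf (Alt.base (nat_lit 3) [] [Col.b]))
(Tr.nd (nat_lit 4) (Tr.lf (Alt.base (nat_lit 4) [] [Col.c]))
(Tr.lf (Alt.base (nat_lit 5) [] [Col.d])))))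
(Tr.nd (nat_lit 7) (Tr.nd (nat_lit 6) (Tr.lf (Alt.base (nat_lit 6) [] [Col.e]))
(Tr.lf (Alt.base (nat_lit 7) [] [Col.f])))
(Tr.nd (nat_lit 8) (Tr.lf (Alt.base (nat_lit 8) [] [Col.h]))
(Tr.nd (nat_lit 9) (Tr.lf (Alt.base (nat_lit 9) [Col.i, Col.h, Col.d, Col.c, Col.b, Col.a, Col.k, Col.e, Col.d, Col.c, Col.b, Col.a, Col.h, Col.d, Col.c, Col.e, Col.d, Col.h, Col.b, Col.c, Col.d, Col.e] [Col.l, Col.k, Col.a, Col.b, Col.c, Col.d, Col.h, Col.i]))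
(Tr.lf (Alt.word (nat_lit 6) (nat_lit 3) true [Col.l, Col.e, Col.l, Col.e]))))))
(Tr.nd (nat_lit 15) (Tr.nd (nat_lit 12) (Tr.nd (nat_lit 11) (Tr.lf (Alt.word (nat_lit 5) (nat_lit 3) true [Col.l, Col.d, Col.l, Col.d]))
(Tr.lf (Alt.word (nat_lit 4) (nat_lit 3) true [Col.l, Col.c, Col.l, Col.c])))
(Tr.nd (nat_lit 13) (Tr.lf (Alt.word (nat_lit 3) (nat_lit 3) true [Col.l, Col.b, Col.l, Col.b]))
(Tr.nd (nat_lit 14) (Tr.lf (Alt.word (nat_lit 53) (nat_lit 2) true [Col.i, Col.h, Col.i, Col.h, Col.i, Col.h]))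
(Tr.lf (Alt.word (nat_lit 44) (nat_lit 2) true [Col.i, Col.d, Col.i, Col.d])))))
(Tr.nd (nat_lit 17) (Tr.nd (nat_lit 16) (Tr.lf (Alt.word (nat_lit 39) (nat_lit 2) true [Col.i, Col.c, Col.i, Col.c]))
(Tr.lf (Alt.word (nat_lit 33) (nat_lit 2) true [Col.i, Col.b, Col.i, Col.b])))
(Tr.nd (nat_lit 18) (Tr.lf (Alt.word (nat_lit 26) (nat_lit 2) true [Col.i, Col.a, Col.i, Col.a]))
(Tr.nd (nat_lit 19) (Tr.lf (Alt.word (nat_lit 18) (nat_lit 2) true [Col.i, Col.k, Col.i, Col.k]))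
(Tr.lf (Alt.word (nat_lit 48) (nat_lit 2) true [Col.i, Col.e, Col.i, Col.e])))))))
(Tr.nd (nat_lit 30) (Tr.nd (nat_lit 25) (Tr.nd (nat_lit 22) (Tr.nd (nat_lit 21) (Tr.lf (Alt.word (nat_lit 9) (nat_lit 1) true [Col.l, Col.i, Col.l, Col.i]))
(Tr.lf (Alt.word (nat_lit 18) (nat_lit 1) true [Col.k, Col.i, Col.k, Col.i])))
(Tr.nd (nat_lit 23) (Tr.lf (Alt.word (nat_lit 33) (nat_lit 1) true [Col.b, Col.i, Col.b, Col.i]))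
(Tr.nd (nat_lit 24) (Tr.lf (Alt.word (nat_lit 39) (nat_lit 1) true [Col.c, Col.i, Col.c, Col.i]))
(Tr.lf (Alt.word (nat_lit 44) (nat_lit 1) true [Col.d, Col.i, Col.d, Col.i])))))
(Tr.nd (nat_lit 27) (Tr.nd (nat_lit 26) (Tr.lf (Alt.word (nat_lit 48) (nat_lit 1) true [Col.e, Col.i, Col.e, Col.i]))
(Tr.lf (Alt.word (nat_lit 51) (nat_lit 1) true [Col.f, Col.i, Col.f, Col.i])))
(Tr.nd (nat_lit 28) (Tr.lf (Alt.word (nat_lit 50) (nat_lit 3) true [Col.f, Col.h, Col.f, Col.h]))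
(Tr.nd (nat_lit 29) (Tr.lf (Alt.word (nat_lit 42) (nat_lit 2) true [Col.f, Col.d, Col.f, Col.d]))
(Tr.lf (Alt.word (nat_lit 37) (nat_lit 2) true [Col.f, Col.c, Col.f, Col.c]))))))
(Tr.nd (nat_lit 35) (Tr.nd (nat_lit 32) (Tr.nd (nat_lit 31) (Tr.lf (Alt.word (nat_lit 47) (nat_lit 3) true [Col.e, Col.h, Col.e, Col.h]))
(Tr.lf (Alt.word (nat_lit 43) (nat_lit 4) true [Col.h, Col.d, Col.h, Col.d, Col.h, Col.d])))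
(Tr.nd (nat_lit 33) (Tr.lf (Alt.word (nat_lit 38) (nat_lit 2) true [Col.h, Col.c, Col.h, Col.c]))
(Tr.nd (nat_lit 34) (Tr.lf (Alt.word (nat_lit 38) (nat_lit 3) true [Col.c, Col.h, Col.c, Col.h]))
(Tr.lf (Alt.word (nat_lit 35) (nat_lit 4) true [Col.d, Col.c, Col.d, Col.c, Col.d, Col.c])))))
(Tr.nd (nat_lit 37) (Tr.nd (nat_lit 36) (Tr.lf (Alt.word (nat_lit 29) (nat_lit 2) true [Col.d, Col.b, Col.d, Col.b]))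
(Tr.lf (Alt.word (nat_lit 22) (nat_lit 2) true [Col.d, Col.a, Col.d, Col.a])))
(Tr.nd (nat_lit 38) (Tr.lf (Alt.word (nat_lit 14) (nat_lit 2) true [Col.d, Col.k, Col.d, Col.k]))
(Tr.nd (nat_lit 39) (Tr.lf (Alt.word (nat_lit 41) (nat_lit 4) true [Col.e, Col.d, Col.e, Col.d, Col.e, Col.d]))
(Tr.lf (Alt.word (nat_lit 36) (nat_lit 2) true [Col.e, Col.c, Col.e, Col.c]))))))))
(Tr.nd (nat_lit 60) (Tr.nd (nat_lit 50) (Tr.nd (nat_lit 45) (Tr.nd (nat_lit 42) (Tr.nd (nat_lit 41) (Tr.lf (Alt.word (nat_lit 30) (nat_lit 2) true [Col.e, Col.b, Col.e, Col.b]))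
(Tr.lf (Alt.word (nat_lit 6) (nat_lit 2) true [Col.e, Col.l, Col.e, Col.l])))
(Tr.nd (nat_lit 43) (Tr.lf (Alt.word (nat_lit 23) (nat_lit 2) true [Col.e, Col.a, Col.e, Col.a]))
(Tr.nd (nat_lit 44) (Tr.lf (Alt.word (nat_lit 41) (nat_lit 3) true [Col.d, Col.e, Col.d, Col.e, Col.d, Col.e]))
(Tr.lf (Alt.word (nat_lit 35) (nat_lit 3) true [Col.c, Col.d, Col.c, Col.d, Col.c, Col.d])))))
(Tr.nd (nat_lit 47) (Tr.nd (nat_lit 46) (Tr.lf (Alt.word (nat_lit 21) (nat_lit 2) true [Col.c, Col.a, Col.c, Col.a]))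
(Tr.lf (Alt.word (nat_lit 28) (nat_lit 3) true [Col.b, Col.c, Col.b, Col.c, Col.b, Col.c])))
(Tr.nd (nat_lit 48) (Tr.lf (Alt.word (nat_lit 29) (nat_lit 3) true [Col.b, Col.d, Col.b, Col.d]))
(Tr.nd (nat_lit 49) (Tr.lf (Alt.word (nat_lit 30) (nat_lit 3) true [Col.b, Col.e, Col.b, Col.e]))
(Tr.lf (Alt.word (nat_lit 12) (nat_lit 2) true [Col.b, Col.k, Col.b, Col.k]))))))
(Tr.nd (nat_lit 55) (Tr.nd (nat_lit 52) (Tr.nd (nat_lit 51) (Tr.lf (Alt.word (nat_lit 20) (nat_lit 3) true [Col.a, Col.b, Col.a, Col.b, Col.a, Col.b]))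
(Tr.lf (Alt.word (nat_lit 32) (nat_lit 3) true [Col.b, Col.h, Col.b, Col.h])))
(Tr.nd (nat_lit 53) (Tr.lf (Alt.word (nat_lit 28) (nat_lit 4) true [Col.c, Col.b, Col.c, Col.b, Col.c, Col.b]))
(Tr.nd (nat_lit 54) (Tr.lf (Alt.word (nat_lit 13) (nat_lit 2) true [Col.c, Col.k, Col.c, Col.k]))
(Tr.lf (Alt.word (nat_lit 36) (nat_lit 3) true [Col.c, Col.e, Col.c, Col.e])))))
(Tr.nd (nat_lit 57) (Tr.nd (nat_lit 56) (Tr.lf (Alt.word (nat_lit 17) (nat_lit 3) true [Col.k, Col.h, Col.k, Col.h]))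
(Tr.lf (Alt.word (nat_lit 14) (nat_lit 3) true [Col.k, Col.d, Col.k, Col.d])))
(Tr.nd (nat_lit 58) (Tr.lf (Alt.word (nat_lit 13) (nat_lit 3) true [Col.k, Col.c, Col.k, Col.c]))
(Tr.nd (nat_lit 59) (Tr.lf (Alt.word (nat_lit 12) (nat_lit 3) true [Col.k, Col.b, Col.k, Col.b]))
(Tr.lf (Alt.word (nat_lit 11) (nat_lit 4) true [Col.a, Col.k, Col.a, Col.k, Col.a, Col.k])))))))
(Tr.nd (nat_lit 70) (Tr.nd (nat_lit 65) (Tr.nd (nat_lit 62) (Tr.nd (nat_lit 61) (Tr.lf (Alt.word (nat_lit 23) (nat_lit 3) true [Col.a, Col.e, Col.a, Col.e]))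
(Tr.lf (Alt.word (nat_lit 22) (nat_lit 3) true [Col.a, Col.d, Col.a, Col.d])))
(Tr.nd (nat_lit 63) (Tr.lf (Alt.word (nat_lit 21) (nat_lit 3) true [Col.a, Col.c, Col.a, Col.c]))
(Tr.nd (nat_lit 64) (Tr.lf (Alt.word (nat_lit 20) (nat_lit 4) true [Col.b, Col.a, Col.b, Col.a, Col.b, Col.a]))
(Tr.lf (Alt.word (nat_lit 8) (nat_lit 3) true [Col.l, Col.h, Col.l, Col.h])))))
(Tr.nd (nat_lit 67) (Tr.nd (nat_lit 66) (Tr.lf (Alt.word (nat_lit 2) (nat_lit 3) true [Col.l, Col.a, Col.l, Col.a]))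
(Tr.lf (Alt.word (nat_lit 1) (nat_lit 4) true [Col.k, Col.l, Col.k, Col.l, Col.k, Col.l])))
(Tr.nd (nat_lit 68) (Tr.lf (Alt.word (nat_lit 15) (nat_lit 3) true [Col.k, Col.e, Col.k, Col.e]))
(Tr.nd (nat_lit 69) (Tr.lf (Alt.word (nat_lit 6) (nat_lit 1) true [Col.l, Col.e, Col.l, Col.e]))
(Tr.lf (Alt.word (nat_lit 15) (nat_lit 1) true [Col.k, Col.e, Col.k, Col.e]))))))
(Tr.nd (nat_lit 75) (Tr.nd (nat_lit 72) (Tr.nd (nat_lit 71) (Tr.lf (Alt.word (nat_lit 23) (nat_lit 1) true [Col.a, Col.e, Col.a, Col.e]))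
(Tr.lf (Alt.word (nat_lit 47) (nat_lit 2) true [Col.h, Col.e, Col.h, Col.e])))
(Tr.nd (nat_lit 73) (Tr.lf (Alt.word (nat_lit 5) (nat_lit 1) true [Col.l, Col.d, Col.l, Col.d]))
(Tr.nd (nat_lit 74) (Tr.lf (Alt.word (nat_lit 14) (nat_lit 1) true [Col.k, Col.d, Col.k, Col.d]))
(Tr.lf (Alt.word (nat_lit 22) (nat_lit 1) true [Col.a, Col.d, Col.a, Col.d])))))
(Tr.nd (nat_lit 77) (Tr.nd (nat_lit 76) (Tr.lf (Alt.word (nat_lit 41) (nat_lit 2) true [Col.e, Col.d, Col.e, Col.d, Col.e, Col.d]))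
(Tr.lf (Alt.word (nat_lit 7) (nat_lit 1) true [Col.l, Col.f, Col.l, Col.f])))
(Tr.nd (nat_lit 78) (Tr.lf (Alt.word (nat_lit 16) (nat_lit 1) true [Col.k, Col.f, Col.k, Col.f]))
(Tr.nd (nat_lit 79) (Tr.lf (Alt.word (nat_lit 24) (nat_lit 1) true [Col.a, Col.f, Col.a, Col.f]))
(Tr.lf (Alt.word (nat_lit 51) (nat_lit 2) true [Col.i, Col.f, Col.i, Col.f])))))))))
(Tr.nd (nat_lit 120) (Tr.nd (nat_lit 100) (Tr.nd (nat_lit 90) (Tr.nd (nat_lit 85) (Tr.nd (nat_lit 82) (Tr.nd (nat_lit 81) (Tr.lf (Alt.word (nat_lit 46) (nat_lit 2) true [Col.f, Col.e, Col.f, Col.e, Col.f, Col.e]))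
(Tr.lf (Alt.word (nat_lit 8) (nat_lit 1) true [Col.l, Col.h, Col.l, Col.h])))
(Tr.nd (nat_lit 83) (Tr.lf (Alt.word (nat_lit 17) (nat_lit 1) true [Col.k, Col.h, Col.k, Col.h]))
(Tr.nd (nat_lit 84) (Tr.lf (Alt.word (nat_lit 25) (nat_lit 1) true [Col.a, Col.h, Col.a, Col.h]))
(Tr.lf (Alt.word (nat_lit 50) (nat_lit 1) true [Col.f, Col.h, Col.f, Col.h])))))
(Tr.nd (nat_lit 87) (Tr.nd (nat_lit 86) (Tr.lf (Alt.word (nat_lit 4) (nat_lit 1) true [Col.l, Col.c, Col.l, Col.c]))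
(Tr.lf (Alt.word (nat_lit 13) (nat_lit 1) true [Col.k, Col.c, Col.k, Col.c])))
(Tr.nd (nat_lit 88) (Tr.lf (Alt.word (nat_lit 21) (nat_lit 1) true [Col.a, Col.c, Col.a, Col.c]))
(Tr.nd (nat_lit 89) (Tr.lf (Alt.word (nat_lit 3) (nat_lit 1) true [Col.l, Col.b, Col.l, Col.b]))
(Tr.lf (Alt.word (nat_lit 12) (nat_lit 1) true [Col.k, Col.b, Col.k, Col.b]))))))
(Tr.nd (nat_lit 95) (Tr.nd (nat_lit 92) (Tr.nd (nat_lit 91) (Tr.lf (Alt.word (nat_lit 31) (nat_lit 2) true [Col.f, Col.b, Col.f, Col.b]))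
(Tr.lf (Alt.word (nat_lit 36) (nat_lit 1) true [Col.c, Col.e, Col.c, Col.e])))
(Tr.nd (nat_lit 93) (Tr.lf (Alt.word (nat_lit 41) (nat_lit 1) true [Col.d, Col.e, Col.d, Col.e, Col.d, Col.e]))
(Tr.nd (nat_lit 94) (Tr.lf (Alt.word (nat_lit 37) (nat_lit 3) true [Col.c, Col.f, Col.c, Col.f]))
(Tr.lf (Alt.word (nat_lit 44) (nat_lit 3) true [Col.d, Col.i, Col.d, Col.i])))))
(Tr.nd (nat_lit 97) (Tr.nd (nat_lit 96) (Tr.lf (Alt.word (nat_lit 43) (nat_lit 3) true [Col.d, Col.h, Col.d, Col.h, Col.d, Col.h]))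
(Tr.lf (Alt.word (nat_lit 42) (nat_lit 3) true [Col.d, Col.f, Col.d, Col.f])))
(Tr.nd (nat_lit 98) (Tr.lf (Alt.word (nat_lit 30) (nat_lit 1) true [Col.b, Col.e, Col.b, Col.e]))
(Tr.nd (nat_lit 99) (Tr.lf (Alt.word (nat_lit 37) (nat_lit 1) true [Col.c, Col.f, Col.c, Col.f]))
(Tr.lf (Alt.word (nat_lit 15) (nat_lit 2) true [Col.e, Col.k, Col.e, Col.k])))))))
(Tr.nd (nat_lit 110) (Tr.nd (nat_lit 105) (Tr.nd (nat_lit 102) (Tr.nd (nat_lit 101) (Tr.lf (Alt.word (nat_lit 11) (nat_lit 2) true [Col.a, Col.k, Col.a, Col.k, Col.a, Col.k]))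
(Tr.lf (Alt.word (nat_lit 32) (nat_lit 1) true [Col.b, Col.h, Col.b, Col.h])))
(Tr.nd (nat_lit 103) (Tr.lf (Alt.word (nat_lit 9) (nat_lit 2) true [Col.i, Col.l, Col.i, Col.l]))
(Tr.nd (nat_lit 104) (Tr.lf (Alt.word (nat_lit 2) (nat_lit 2) true [Col.a, Col.l, Col.a, Col.l]))
(Tr.lf (Alt.word (nat_lit 8) (nat_lit 2) true [Col.h, Col.l, Col.h, Col.l])))))
(Tr.nd (nat_lit 107) (Tr.nd (nat_lit 106) (Tr.lf (Alt.word (nat_lit 50) (nat_lit 2) true [Col.h, Col.f, Col.h, Col.f]))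
(Tr.lf (Alt.word (nat_lit 3) (nat_lit 2) true [Col.b, Col.l, Col.b, Col.l])))
(Tr.nd (nat_lit 108) (Tr.lf (Alt.word (nat_lit 5) (nat_lit 2) true [Col.d, Col.l, Col.d, Col.l]))
(Tr.nd (nat_lit 109) (Tr.lf (Alt.word (nat_lit 2) (nat_lit 1) true [Col.l, Col.a, Col.l, Col.a]))
(Tr.lf (Alt.word (nat_lit 42) (nat_lit 1) true [Col.d, Col.f, Col.d, Col.f]))))))
(Tr.nd (nat_lit 115) (Tr.nd (nat_lit 112) (Tr.nd (nat_lit 111) (Tr.lf (Alt.word (nat_lit 4) (nat_lit 2) true [Col.c, Col.l, Col.c, Col.l]))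
(Tr.lf (Alt.word (nat_lit 28) (nat_lit 2) true [Col.c, Col.b, Col.c, Col.b, Col.c, Col.b])))
(Tr.nd (nat_lit 113) (Tr.lf (Alt.word (nat_lit 20) (nat_lit 1) true [Col.a, Col.b, Col.a, Col.b, Col.a, Col.b]))
(Tr.nd (nat_lit 114) (Tr.lf (Alt.word (nat_lit 32) (nat_lit 2) true [Col.h, Col.b, Col.h, Col.b]))
(Tr.lf (Alt.word (nat_lit 46) (nat_lit 1) true [Col.e, Col.f, Col.e, Col.f, Col.e, Col.f])))))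
(Tr.nd (nat_lit 117) (Tr.nd (nat_lit 116) (Tr.lf (Alt.word (nat_lit 53) (nat_lit 4) true [Col.i, Col.h, Col.i, Col.h, Col.i, Col.h]))
(Tr.lf (Alt.word (nat_lit 53) (nat_lit 3) true [Col.h, Col.i, Col.h, Col.i, Col.h, Col.i])))
(Tr.nd (nat_lit 118) (Tr.lf (Alt.word (nat_lit 47) (nat_lit 1) true [Col.e, Col.h, Col.e, Col.h]))
(Tr.nd (nat_lit 119) (Tr.lf (Alt.word (nat_lit 43) (nat_lit 1) true [Col.d, Col.h, Col.d, Col.h, Col.d, Col.h]))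
(Tr.lf (Alt.word (nat_lit 48) (nat_lit 3) true [Col.e, Col.i, Col.e, Col.i]))))))))
(Tr.nd (nat_lit 140) (Tr.nd (nat_lit 130) (Tr.nd (nat_lit 125) (Tr.nd (nat_lit 122) (Tr.nd (nat_lit 121) (Tr.lf (Alt.word (nat_lit 53) (nat_lit 1) true [Col.h, Col.i, Col.h, Col.i, Col.h, Col.i]))
(Tr.lf (Alt.word (nat_lit 26) (nat_lit 1) true [Col.a, Col.i, Col.a, Col.i])))
(Tr.nd (nat_lit 123) (Tr.lf (Alt.word (nat_lit 25) (nat_lit 2) true [Col.h, Col.a, Col.h, Col.a]))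
(Tr.nd (nat_lit 124) (Tr.lf (Alt.word (nat_lit 20) (nat_lit 2) true [Col.b, Col.a, Col.b, Col.a, Col.b, Col.a]))
(Tr.lf (Alt.word (nat_lit 24) (nat_lit 2) true [Col.f, Col.a, Col.f, Col.a])))))
(Tr.nd (nat_lit 127) (Tr.nd (nat_lit 126) (Tr.lf (Alt.word (nat_lit 39) (nat_lit 3) true [Col.c, Col.i, Col.c, Col.i]))
(Tr.lf (Alt.word (nat_lit 35) (nat_lit 2) true [Col.d, Col.c, Col.d, Col.c, Col.d, Col.c])))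
(Tr.nd (nat_lit 128) (Tr.lf (Alt.word (nat_lit 29) (nat_lit 1) true [Col.b, Col.d, Col.b, Col.d]))
(Tr.nd (nat_lit 129) (Tr.lf (Alt.word (nat_lit 31) (nat_lit 1) true [Col.b, Col.f, Col.b, Col.f]))
(Tr.lf (Alt.word (nat_lit 17) (nat_lit 2) true [Col.h, Col.k, Col.h, Col.k]))))))
(Tr.nd (nat_lit 135) (Tr.nd (nat_lit 132) (Tr.nd (nat_lit 131) (Tr.lf (Alt.word (nat_lit 28) (nat_lit 1) true [Col.b, Col.c, Col.b, Col.c, Col.b, Col.c]))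
(Tr.lf (Alt.word (nat_lit 38) (nat_lit 1) true [Col.c, Col.h, Col.c, Col.h])))
(Tr.nd (nat_lit 133) (Tr.lf (Alt.word (nat_lit 27) (nat_lit 0) true [Col.b, Col.b]))
(Tr.nd (nat_lit 134) (Tr.lf (Alt.word (nat_lit 45) (nat_lit 0) true [Col.e, Col.e]))
(Tr.lf (Alt.word (nat_lit 40) (nat_lit 0) true [Col.d, Col.d])))))
(Tr.nd (nat_lit 137) (Tr.nd (nat_lit 136) (Tr.lf (Alt.word (nat_lit 52) (nat_lit 0) true [Col.h, Col.h]))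
(Tr.lf (Alt.word (nat_lit 54) (nat_lit 0) true [Col.i, Col.i])))
(Tr.nd (nat_lit 138) (Tr.lf (Alt.word (nat_lit 49) (nat_lit 0) true [Col.f, Col.f]))
(Tr.nd (nat_lit 139) (Tr.lf (Alt.word (nat_lit 31) (nat_lit 3) true [Col.b, Col.f, Col.b, Col.f]))
(Tr.lf (Alt.word (nat_lit 35) (nat_lit 1) true [Col.c, Col.d, Col.c, Col.d, Col.c, Col.d])))))))
(Tr.nd (nat_lit 150) (Tr.nd (nat_lit 145) (Tr.nd (nat_lit 142) (Tr.nd (nat_lit 141) (Tr.lf (Alt.word (nat_lit 16) (nat_lit 2) true [Col.f, Col.k, Col.f, Col.k]))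
(Tr.lf (Alt.word (nat_lit 1) (nat_lit 2) true [Col.k, Col.l, Col.k, Col.l, Col.k, Col.l])))
(Tr.nd (nat_lit 143) (Tr.lf (Alt.word (nat_lit 43) (nat_lit 2) true [Col.h, Col.d, Col.h, Col.d, Col.h, Col.d]))
(Tr.nd (nat_lit 144) (Tr.lf (Alt.word (nat_lit 11) (nat_lit 1) true [Col.k, Col.a, Col.k, Col.a, Col.k, Col.a]))
(Tr.lf (Alt.word (nat_lit 55) (nat_lit 46) true [Col.e, Col.f, Col.h, Col.a, Col.b, Col.c, Col.d, Col.e, Col.f, Col.h, Col.a, Col.b, Col.c, Col.d, Col.e, Col.f, Col.h, Col.l, Col.a, Col.b, Col.c, Col.d, Col.e, Col.f, Col.h, Col.a, Col.b, Col.c, Col.d, Col.e, Col.f, Col.h, Col.a, Col.b, Col.c, Col.d, Col.e, Col.f, Col.h, Col.a, Col.b, Col.c, Col.d, Col.e, Col.f, Col.h, Col.a, Col.b, Col.c, Col.d, Col.e, Col.f, Col.h, Col.a, Col.b, Col.c, Col.d, Col.e, Col.f, Col.h, Col.a, Col.b,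 Col.c, Col.d])))))
(Tr.nd (nat_lit 147) (Tr.nd (nat_lit 146) (Tr.lf (Alt.word (nat_lit 34) (nat_lit 0) true [Col.c, Col.c]))
(Tr.lf (Alt.word (nat_lit 10) (nat_lit 0) true [Col.k, Col.k])))
(Tr.nd (nat_lit 148) (Tr.lf (Alt.word (nat_lit 51) (nat_lit 3) true [Col.f, Col.i, Col.f, Col.i]))
(Tr.nd (nat_lit 149) (Tr.lf (Alt.word (nat_lit 1) (nat_lit 1) true [Col.l, Col.k, Col.l, Col.k, Col.l, Col.k]))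
(Tr.lf (Alt.word (nat_lit 4) (nat_lit 0) true [Col.c, Col.l, Col.c, Col.l]))))))
(Tr.nd (nat_lit 155) (Tr.nd (nat_lit 152) (Tr.nd (nat_lit 151) (Tr.lf (Alt.word (nat_lit 55) (nat_lit 0) true [Col.a, Col.b, Col.c, Col.d, Col.e, Col.f, Col.h, Col.a, Col.b, Col.c, Col.d, Col.e, Col.f, Col.h, Col.a, Col.b, Col.c, Col.d, Col.e, Col.f, Col.h, Col.a, Col.b, Col.c, Col.d, Col.e, Col.f, Col.h, Col.a, Col.b, Col.c, Col.d, Col.e, Col.f, Col.h, Col.a, Col.b, Col.c, Col.d, Col.e, Col.f, Col.h, Col.a, Col.b, Col.c, Col.d, Col.e, Col.f, Col.h, Col.a, Col.b, Col.c, Col.d, Col.e, Col.f, Col.h, Col.a, Col.b, Col.c, Col.d, Col.e, Col.f, Col.h, Col.l]))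
(Tr.lf (Alt.word (nat_lit 22) (nat_lit 0) true [Col.d, Col.a, Col.d, Col.a])))
(Tr.nd (nat_lit 153) (Tr.lf (Alt.word (nat_lit 7) (nat_lit 2) true [Col.f, Col.l, Col.f, Col.l]))
(Tr.nd (nat_lit 154) (Tr.lf (Alt.word (nat_lit 19) (nat_lit 0) true [Col.a, Col.a]))
(Tr.lf (Alt.word (nat_lit 55) (nat_lit 5) false [Col.c, Col.b, Col.a, Col.h, Col.f, Col.e, Col.d, Col.c, Col.b, Col.a, Col.h, Col.f, Col.e, Col.d, Col.c, Col.b, Col.a, Col.h, Col.f, Col.e, Col.d, Col.c, Col.b, Col.a, Col.h, Col.f, Col.e, Col.d, Col.c, Col.b, Col.a, Col.h, Col.f, Col.e, Col.d, Col.c, Col.b, Col.a, Col.h, Col.f, Col.e, Col.d, Col.c, Col.b, Col.a, Col.h, Col.f, Col.e, Col.d, Col.c, Col.b, Col.a, Col.h, Col.f, Col.e, Col.d, Col.c, Col.b, Col.a, Col.l, Col.h, Col.f, Col.e, Col.d])))))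
(Tr.nd (nat_lit 157) (Tr.nd (nat_lit 156) (Tr.lf (Alt.word (nat_lit 55) (nat_lit 3) true [Col.d, Col.e, Col.f, Col.h, Col.a, Col.b, Col.c, Col.d, Col.e, Col.f, Col.h, Col.a, Col.b, Col.c, Col.d, Col.e, Col.f, Col.h, Col.a, Col.b, Col.c, Col.d, Col.e, Col.f, Col.h, Col.a, Col.b, Col.c, Col.d, Col.e, Col.f, Col.h, Col.a, Col.b, Col.c, Col.d, Col.e, Col.f, Col.h, Col.a, Col.b, Col.c, Col.d, Col.e, Col.f, Col.h, Col.a, Col.b, Col.c, Col.d, Col.e, Col.f, Col.h, Col.a, Col.b, Col.c, Col.d, Col.e, Col.f, Col.h, Col.l, Col.a, Col.b, Col.c]))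
(Tr.lf (Alt.word (nat_lit 0) (nat_lit 0) true [Col.l, Col.l])))
(Tr.nd (nat_lit 158) (Tr.lf (Alt.word (nat_lit 15) (nat_lit 0) true [Col.e, Col.k, Col.e, Col.k]))
(Tr.nd (nat_lit 159) (Tr.lf (Alt.word (nat_lit 31) (nat_lit 0) true [Col.f, Col.b, Col.f, Col.b]))
(Tr.lf (Alt.word (nat_lit 55) (nat_lit 60) true [Col.e, Col.f, Col.h, Col.l, Col.a, Col.b, Col.c, Col.d, Col.e, Col.f, Col.h, Col.a, Col.b, Col.c, Col.d, Col.e, Col.f, Col.h, Col.a, Col.b, Col.c, Col.d, Col.e, Col.f, Col.h, Col.a, Col.b, Col.c, Col.d, Col.e, Col.f, Col.h, Col.a, Col.b, Col.c, Col.d, Col.e, Col.f, Col.h, Col.a, Col.b, Col.c, Col.d, Col.e, Col.f, Col.h, Col.a, Col.b, Col.c, Col.d, Col.e, Col.f, Col.h, Col.a, Col.b, Col.c, Col.d, Col.e, Col.f, Col.h, Col.a, Col.b, Col.c, Col.d]))))))))))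
noncomputable def mini1P : Tr ℕ := (Tr.nd (nat_lit 512) (Tr.nd (nat_lit 256) (Tr.nd (nat_lit 128) (Tr.nd (nat_lit 64) (Tr.nd (nat_lit 32) (Tr.nd (nat_lit 16) (Tr.nd (nat_lit 8) (Tr.nd (nat_lit 4) (Tr.nd (nat_lit 2) (Tr.nd (nat_lit 1) (Tr.lf (nat_lit 0))
(Tr.lf (nat_lit 0)))
(Tr.nd (nat_lit 3) (Tr.lf (nat_lit 1))
(Tr.lf (nat_lit 2))))
(Tr.nd (nat_lit 6) (Tr.nd (nat_lit 5) (Tr.lf (nat_lit 3))
(Tr.lf (nat_lit 4)))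
(Tr.nd (nat_lit 7) (Tr.lf (nat_lit 5))
(Tr.lf (nat_lit 6)))))
(Tr.nd (nat_lit 12) (Tr.nd (nat_lit 10) (Tr.nd (nat_lit 9) (Tr.lf (nat_lit 7))
(Tr.lf (nat_lit 8)))
(Tr.nd (nat_lit 11) (Tr.lf (nat_lit 9))
(Tr.lf (nat_lit 10))))
(Tr.nd (nat_lit 14) (Tr.nd (nat_lit 13) (Tr.lf (nat_lit 11))
(Tr.lf (nat_lit 12)))
(Tr.nd (nat_lit 15) (Tr.lf (nat_lit 13))
(Tr.lf (nat_lit 14))))))
(Tr.nd (nat_lit 24) (Tr.nd (nat_lit 20) (Tr.nd (nat_lit 18) (Tr.nd (nat_lit 17) (Tr.lf (nat_lit 15))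
(Tr.lf (nat_lit 16)))
(Tr.nd (nat_lit 19) (Tr.lf (nat_lit 17))
(Tr.lf (nat_lit 18))))
(Tr.nd (nat_lit 22) (Tr.nd (nat_lit 21) (Tr.lf (nat_lit 19))
(Tr.lf (nat_lit 20)))
(Tr.nd (nat_lit 23) (Tr.lf (nat_lit 21))
(Tr.lf (nat_lit 4)))))
(Tr.nd (nat_lit 28) (Tr.nd (nat_lit 26) (Tr.nd (nat_lit 25) (Tr.lf (nat_lit 23))
(Tr.lf (nat_lit 24)))
(Tr.nd (nat_lit 27) (Tr.lf (nat_lit 25))
(Tr.lf (nat_lit 26))))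
(Tr.nd (nat_lit 30) (Tr.nd (nat_lit 29) (Tr.lf (nat_lit 27))
(Tr.lf (nat_lit 28)))
(Tr.nd (nat_lit 31) (Tr.lf (nat_lit 29))
(Tr.lf (nat_lit 30)))))))
(Tr.nd (nat_lit 48) (Tr.nd (nat_lit 40) (Tr.nd (nat_lit 36) (Tr.nd (nat_lit 34) (Tr.nd (nat_lit 33) (Tr.lf (nat_lit 31))
(Tr.lf (nat_lit 32)))
(Tr.nd (nat_lit 35) (Tr.lf (nat_lit 33))
(Tr.lf (nat_lit 34))))
(Tr.nd (nat_lit 38) (Tr.nd (nat_lit 37) (Tr.lf (nat_lit 35))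
(Tr.lf (nat_lit 36)))
(Tr.nd (nat_lit 39) (Tr.lf (nat_lit 37))
(Tr.lf (nat_lit 38)))))
(Tr.nd (nat_lit 44) (Tr.nd (nat_lit 42) (Tr.nd (nat_lit 41) (Tr.lf (nat_lit 39))
(Tr.lf (nat_lit 40)))
(Tr.nd (nat_lit 43) (Tr.lf (nat_lit 41))
(Tr.lf (nat_lit 42))))
(Tr.nd (nat_lit 46) (Tr.nd (nat_lit 45) (Tr.lf (nat_lit 43))
(Tr.lf (nat_lit 44)))
(Tr.nd (nat_lit 47) (Tr.lf (nat_lit 3))
(Tr.lf (nat_lit 5))))))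
(Tr.nd (nat_lit 56) (Tr.nd (nat_lit 52) (Tr.nd (nat_lit 50) (Tr.nd (nat_lit 49) (Tr.lf (nat_lit 6))
(Tr.lf (nat_lit 9)))
(Tr.nd (nat_lit 51) (Tr.lf (nat_lit 9))
(Tr.lf (nat_lit 10))))
(Tr.nd (nat_lit 54) (Tr.nd (nat_lit 53) (Tr.lf (nat_lit 10))
(Tr.lf (nat_lit 10)))
(Tr.nd (nat_lit 55) (Tr.lf (nat_lit 11))
(Tr.lf (nat_lit 11)))))
(Tr.nd (nat_lit 60) (Tr.nd (nat_lit 58) (Tr.nd (nat_lit 57) (Tr.lf (nat_lit 12))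
(Tr.lf (nat_lit 12)))
(Tr.nd (nat_lit 59) (Tr.lf (nat_lit 13))
(Tr.lf (nat_lit 13))))
(Tr.nd (nat_lit 62) (Tr.nd (nat_lit 61) (Tr.lf (nat_lit 14))
(Tr.lf (nat_lit 14)))
(Tr.nd (nat_lit 63) (Tr.lf (nat_lit 14))
(Tr.lf (nat_lit 14))))))))
(Tr.nd (nat_lit 96) (Tr.nd (nat_lit 80) (Tr.nd (nat_lit 72) (Tr.nd (nat_lit 68) (Tr.nd (nat_lit 66) (Tr.nd (nat_lit 65) (Tr.lf (nat_lit 15))
(Tr.lf (nat_lit 15)))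
(Tr.nd (nat_lit 67) (Tr.lf (nat_lit 15))
(Tr.lf (nat_lit 15))))
(Tr.nd (nat_lit 70) (Tr.nd (nat_lit 69) (Tr.lf (nat_lit 16))
(Tr.lf (nat_lit 16)))
(Tr.nd (nat_lit 71) (Tr.lf (nat_lit 17))
(Tr.lf (nat_lit 17)))))
(Tr.nd (nat_lit 76) (Tr.nd (nat_lit 74) (Tr.nd (nat_lit 73) (Tr.lf (nat_lit 19))
(Tr.lf (nat_lit 20)))
(Tr.nd (nat_lit 75) (Tr.lf (nat_lit 23))
(Tr.lf (nat_lit 24))))
(Tr.nd (nat_lit 78) (Tr.nd (nat_lit 77) (Tr.lf (nat_lit 25))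
(Tr.lf (nat_lit 25)))
(Tr.nd (nat_lit 79) (Tr.lf (nat_lit 26))
(Tr.lf (nat_lit 27))))))
(Tr.nd (nat_lit 88) (Tr.nd (nat_lit 84) (Tr.nd (nat_lit 82) (Tr.nd (nat_lit 81) (Tr.lf (nat_lit 27))
(Tr.lf (nat_lit 28)))
(Tr.nd (nat_lit 83) (Tr.lf (nat_lit 28))
(Tr.lf (nat_lit 29))))
(Tr.nd (nat_lit 86) (Tr.nd (nat_lit 85) (Tr.lf (nat_lit 30))
(Tr.lf (nat_lit 30)))
(Tr.nd (nat_lit 87) (Tr.lf (nat_lit 31))
(Tr.lf (nat_lit 31)))))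
(Tr.nd (nat_lit 92) (Tr.nd (nat_lit 90) (Tr.nd (nat_lit 89) (Tr.lf (nat_lit 32))
(Tr.lf (nat_lit 32)))
(Tr.nd (nat_lit 91) (Tr.lf (nat_lit 32))
(Tr.lf (nat_lit 33))))
(Tr.nd (nat_lit 94) (Tr.nd (nat_lit 93) (Tr.lf (nat_lit 33))
(Tr.lf (nat_lit 33)))
(Tr.nd (nat_lit 95) (Tr.lf (nat_lit 34))
(Tr.lf (nat_lit 34)))))))
(Tr.nd (nat_lit 112) (Tr.nd (nat_lit 104) (Tr.nd (nat_lit 100) (Tr.nd (nat_lit 98) (Tr.nd (nat_lit 97) (Tr.lf (nat_lit 34))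
(Tr.lf (nat_lit 35)))
(Tr.nd (nat_lit 99) (Tr.lf (nat_lit 35))
(Tr.lf (nat_lit 35))))
(Tr.nd (nat_lit 102) (Tr.nd (nat_lit 101) (Tr.lf (nat_lit 36))
(Tr.lf (nat_lit 36)))
(Tr.nd (nat_lit 103) (Tr.lf (nat_lit 36))
(Tr.lf (nat_lit 36)))))
(Tr.nd (nat_lit 108) (Tr.nd (nat_lit 106) (Tr.nd (nat_lit 105) (Tr.lf (nat_lit 37))
(Tr.lf (nat_lit 37)))
(Tr.nd (nat_lit 107) (Tr.lf (nat_lit 37))
(Tr.lf (nat_lit 38))))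
(Tr.nd (nat_lit 110) (Tr.nd (nat_lit 109) (Tr.lf (nat_lit 38))
(Tr.lf (nat_lit 38)))
(Tr.nd (nat_lit 111) (Tr.lf (nat_lit 39))
(Tr.lf (nat_lit 39))))))
(Tr.nd (nat_lit 120) (Tr.nd (nat_lit 116) (Tr.nd (nat_lit 114) (Tr.nd (nat_lit 113) (Tr.lf (nat_lit 40))
(Tr.lf (nat_lit 40)))
(Tr.nd (nat_lit 115) (Tr.lf (nat_lit 40))
(Tr.lf (nat_lit 41))))
(Tr.nd (nat_lit 118) (Tr.nd (nat_lit 117) (Tr.lf (nat_lit 41))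
(Tr.lf (nat_lit 41)))
(Tr.nd (nat_lit 119) (Tr.lf (nat_lit 41))
(Tr.lf (nat_lit 42)))))
(Tr.nd (nat_lit 124) (Tr.nd (nat_lit 122) (Tr.nd (nat_lit 121) (Tr.lf (nat_lit 42))
(Tr.lf (nat_lit 42)))
(Tr.nd (nat_lit 123) (Tr.lf (nat_lit 43))
(Tr.lf (nat_lit 43))))
(Tr.nd (nat_lit 126) (Tr.nd (nat_lit 125) (Tr.lf (nat_lit 47))
(Tr.lf (nat_lit 49)))
(Tr.nd (nat_lit 127) (Tr.lf (nat_lit 50))
(Tr.lf (nat_lit 51)))))))))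
(Tr.nd (nat_lit 192) (Tr.nd (nat_lit 160) (Tr.nd (nat_lit 144) (Tr.nd (nat_lit 136) (Tr.nd (nat_lit 132) (Tr.nd (nat_lit 130) (Tr.nd (nat_lit 129) (Tr.lf (nat_lit 51))
(Tr.lf (nat_lit 51)))
(Tr.nd (nat_lit 131) (Tr.lf (nat_lit 52))
(Tr.lf (nat_lit 52))))
(Tr.nd (nat_lit 134) (Tr.nd (nat_lit 133) (Tr.lf (nat_lit 53))
(Tr.lf (nat_lit 54)))
(Tr.nd (nat_lit 135) (Tr.lf (nat_lit 54))
(Tr.lf (nat_lit 56)))))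
(Tr.nd (nat_lit 140) (Tr.nd (nat_lit 138) (Tr.nd (nat_lit 137) (Tr.lf (nat_lit 58))
(Tr.lf (nat_lit 58)))
(Tr.nd (nat_lit 139) (Tr.lf (nat_lit 58))
(Tr.lf (nat_lit 59))))
(Tr.nd (nat_lit 142) (Tr.nd (nat_lit 141) (Tr.lf (nat_lit 60))
(Tr.lf (nat_lit 60)))
(Tr.nd (nat_lit 143) (Tr.lf (nat_lit 61))
(Tr.lf (nat_lit 62))))))
(Tr.nd (nat_lit 152) (Tr.nd (nat_lit 148) (Tr.nd (nat_lit 146) (Tr.nd (nat_lit 145) (Tr.lf (nat_lit 63))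
(Tr.lf (nat_lit 63)))
(Tr.nd (nat_lit 147) (Tr.lf (nat_lit 64))
(Tr.lf (nat_lit 64))))
(Tr.nd (nat_lit 150) (Tr.nd (nat_lit 149) (Tr.lf (nat_lit 64))
(Tr.lf (nat_lit 64)))
(Tr.nd (nat_lit 151) (Tr.lf (nat_lit 65))
(Tr.lf (nat_lit 65)))))
(Tr.nd (nat_lit 156) (Tr.nd (nat_lit 154) (Tr.nd (nat_lit 153) (Tr.lf (nat_lit 65))
(Tr.lf (nat_lit 66)))
(Tr.nd (nat_lit 155) (Tr.lf (nat_lit 67))
(Tr.lf (nat_lit 68))))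
(Tr.nd (nat_lit 158) (Tr.nd (nat_lit 157) (Tr.lf (nat_lit 69))
(Tr.lf (nat_lit 70)))
(Tr.nd (nat_lit 159) (Tr.lf (nat_lit 71))
(Tr.lf (nat_lit 72)))))))
(Tr.nd (nat_lit 176) (Tr.nd (nat_lit 168) (Tr.nd (nat_lit 164) (Tr.nd (nat_lit 162) (Tr.nd (nat_lit 161) (Tr.lf (nat_lit 73))
(Tr.lf (nat_lit 75)))
(Tr.nd (nat_lit 163) (Tr.lf (nat_lit 76))
(Tr.lf (nat_lit 76))))
(Tr.nd (nat_lit 166) (Tr.nd (nat_lit 165) (Tr.lf (nat_lit 78))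
(Tr.lf (nat_lit 78)))
(Tr.nd (nat_lit 167) (Tr.lf (nat_lit 79))
(Tr.lf (nat_lit 79)))))
(Tr.nd (nat_lit 172) (Tr.nd (nat_lit 170) (Tr.nd (nat_lit 169) (Tr.lf (nat_lit 79))
(Tr.lf (nat_lit 81)))
(Tr.nd (nat_lit 171) (Tr.lf (nat_lit 81))
(Tr.lf (nat_lit 81))))
(Tr.nd (nat_lit 174) (Tr.nd (nat_lit 173) (Tr.lf (nat_lit 82))
(Tr.lf (nat_lit 84)))
(Tr.nd (nat_lit 175) (Tr.lf (nat_lit 84))
(Tr.lf (nat_lit 85))))))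
(Tr.nd (nat_lit 184) (Tr.nd (nat_lit 180) (Tr.nd (nat_lit 178) (Tr.nd (nat_lit 177) (Tr.lf (nat_lit 86))
(Tr.lf (nat_lit 86)))
(Tr.nd (nat_lit 179) (Tr.lf (nat_lit 87))
(Tr.lf (nat_lit 87))))
(Tr.nd (nat_lit 182) (Tr.nd (nat_lit 181) (Tr.lf (nat_lit 88))
(Tr.lf (nat_lit 88)))
(Tr.nd (nat_lit 183) (Tr.lf (nat_lit 90))
(Tr.lf (nat_lit 90)))))
(Tr.nd (nat_lit 188) (Tr.nd (nat_lit 186) (Tr.nd (nat_lit 185) (Tr.lf (nat_lit 91))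
(Tr.lf (nat_lit 92)))
(Tr.nd (nat_lit 187) (Tr.lf (nat_lit 93))
(Tr.lf (nat_lit 94))))
(Tr.nd (nat_lit 190) (Tr.nd (nat_lit 189) (Tr.lf (nat_lit 94))
(Tr.lf (nat_lit 94)))
(Tr.nd (nat_lit 191) (Tr.lf (nat_lit 96))
(Tr.lf (nat_lit 96))))))))
(Tr.nd (nat_lit 224) (Tr.nd (nat_lit 208) (Tr.nd (nat_lit 200) (Tr.nd (nat_lit 196) (Tr.nd (nat_lit 194) (Tr.nd (nat_lit 193) (Tr.lf (nat_lit 97))
(Tr.lf (nat_lit 97)))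
(Tr.nd (nat_lit 195) (Tr.lf (nat_lit 100))
(Tr.lf (nat_lit 100))))
(Tr.nd (nat_lit 198) (Tr.nd (nat_lit 197) (Tr.lf (nat_lit 102))
(Tr.lf (nat_lit 103)))
(Tr.nd (nat_lit 199) (Tr.lf (nat_lit 104))
(Tr.lf (nat_lit 104)))))
(Tr.nd (nat_lit 204) (Tr.nd (nat_lit 202) (Tr.nd (nat_lit 201) (Tr.lf (nat_lit 106))
(Tr.lf (nat_lit 106)))
(Tr.nd (nat_lit 203) (Tr.lf (nat_lit 107))
(Tr.lf (nat_lit 107))))
(Tr.nd (nat_lit 206) (Tr.nd (nat_lit 205) (Tr.lf (nat_lit 107))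
(Tr.lf (nat_lit 109)))
(Tr.nd (nat_lit 207) (Tr.lf (nat_lit 109))
(Tr.lf (nat_lit 110))))))
(Tr.nd (nat_lit 216) (Tr.nd (nat_lit 212) (Tr.nd (nat_lit 210) (Tr.nd (nat_lit 209) (Tr.lf (nat_lit 110))
(Tr.lf (nat_lit 112)))
(Tr.nd (nat_lit 211) (Tr.lf (nat_lit 112))
(Tr.lf (nat_lit 112))))
(Tr.nd (nat_lit 214) (Tr.nd (nat_lit 213) (Tr.lf (nat_lit 114))
(Tr.lf (nat_lit 115)))
(Tr.nd (nat_lit 215) (Tr.lf (nat_lit 115))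
(Tr.lf (nat_lit 115)))))
(Tr.nd (nat_lit 220) (Tr.nd (nat_lit 218) (Tr.nd (nat_lit 217) (Tr.lf (nat_lit 115))
(Tr.lf (nat_lit 117)))
(Tr.nd (nat_lit 219) (Tr.lf (nat_lit 117))
(Tr.lf (nat_lit 118))))
(Tr.nd (nat_lit 222) (Tr.nd (nat_lit 221) (Tr.lf (nat_lit 118))
(Tr.lf (nat_lit 119)))
(Tr.nd (nat_lit 223) (Tr.lf (nat_lit 119))
(Tr.lf (nat_lit 119)))))))
(Tr.nd (nat_lit 240) (Tr.nd (nat_lit 232) (Tr.nd (nat_lit 228) (Tr.nd (nat_lit 226) (Tr.nd (nat_lit 225) (Tr.lf (nat_lit 122))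
(Tr.lf (nat_lit 122)))
(Tr.nd (nat_lit 227) (Tr.lf (nat_lit 122))
(Tr.lf (nat_lit 125))))
(Tr.nd (nat_lit 230) (Tr.nd (nat_lit 229) (Tr.lf (nat_lit 126))
(Tr.lf (nat_lit 127)))
(Tr.nd (nat_lit 231) (Tr.lf (nat_lit 128))
(Tr.lf (nat_lit 128)))))
(Tr.nd (nat_lit 236) (Tr.nd (nat_lit 234) (Tr.nd (nat_lit 233) (Tr.lf (nat_lit 129))
(Tr.lf (nat_lit 130)))
(Tr.nd (nat_lit 235) (Tr.lf (nat_lit 131))
(Tr.lf (nat_lit 133))))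
(Tr.nd (nat_lit 238) (Tr.nd (nat_lit 237) (Tr.lf (nat_lit 133))
(Tr.lf (nat_lit 135)))
(Tr.nd (nat_lit 239) (Tr.lf (nat_lit 136))
(Tr.lf (nat_lit 136))))))
(Tr.nd (nat_lit 248) (Tr.nd (nat_lit 244) (Tr.nd (nat_lit 242) (Tr.nd (nat_lit 241) (Tr.lf (nat_lit 137))
(Tr.lf (nat_lit 140)))
(Tr.nd (nat_lit 243) (Tr.lf (nat_lit 140))
(Tr.lf (nat_lit 141))))
(Tr.nd (nat_lit 246) (Tr.nd (nat_lit 245) (Tr.lf (nat_lit 142))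
(Tr.lf (nat_lit 143)))
(Tr.nd (nat_lit 247) (Tr.lf (nat_lit 144))
(Tr.lf (nat_lit 145)))))
(Tr.nd (nat_lit 252) (Tr.nd (nat_lit 250) (Tr.nd (nat_lit 249) (Tr.lf (nat_lit 146))
(Tr.lf (nat_lit 146)))
(Tr.nd (nat_lit 251) (Tr.lf (nat_lit 146))
(Tr.lf (nat_lit 147))))
(Tr.nd (nat_lit 254) (Tr.nd (nat_lit 253) (Tr.lf (nat_lit 147))
(Tr.lf (nat_lit 148)))
(Tr.nd (nat_lit 255) (Tr.lf (nat_lit 149))
(Tr.lf (nat_lit 150))))))))))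
(Tr.nd (nat_lit 384) (Tr.nd (nat_lit 320) (Tr.nd (nat_lit 288) (Tr.nd (nat_lit 272) (Tr.nd (nat_lit 264) (Tr.nd (nat_lit 260) (Tr.nd (nat_lit 258) (Tr.nd (nat_lit 257) (Tr.lf (nat_lit 150))
(Tr.lf (nat_lit 151)))
(Tr.nd (nat_lit 259) (Tr.lf (nat_lit 152))
(Tr.lf (nat_lit 153))))
(Tr.nd (nat_lit 262) (Tr.nd (nat_lit 261) (Tr.lf (nat_lit 153))
(Tr.lf (nat_lit 155)))
(Tr.nd (nat_lit 263) (Tr.lf (nat_lit 156))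
(Tr.lf (nat_lit 157)))))
(Tr.nd (nat_lit 268) (Tr.nd (nat_lit 266) (Tr.nd (nat_lit 265) (Tr.lf (nat_lit 158))
(Tr.lf (nat_lit 160)))
(Tr.nd (nat_lit 267) (Tr.lf (nat_lit 161))
(Tr.lf (nat_lit 162))))
(Tr.nd (nat_lit 270) (Tr.nd (nat_lit 269) (Tr.lf (nat_lit 163))
(Tr.lf (nat_lit 166)))
(Tr.nd (nat_lit 271) (Tr.lf (nat_lit 166))
(Tr.lf (nat_lit 167))))))
(Tr.nd (nat_lit 280) (Tr.nd (nat_lit 276) (Tr.nd (nat_lit 274) (Tr.nd (nat_lit 273) (Tr.lf (nat_lit 167))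
(Tr.lf (nat_lit 169)))
(Tr.nd (nat_lit 275) (Tr.lf (nat_lit 169))
(Tr.lf (nat_lit 169))))
(Tr.nd (nat_lit 278) (Tr.nd (nat_lit 277) (Tr.lf (nat_lit 170))
(Tr.lf (nat_lit 171)))
(Tr.nd (nat_lit 279) (Tr.lf (nat_lit 173))
(Tr.lf (nat_lit 173)))))
(Tr.nd (nat_lit 284) (Tr.nd (nat_lit 282) (Tr.nd (nat_lit 281) (Tr.lf (nat_lit 174))
(Tr.lf (nat_lit 174)))
(Tr.nd (nat_lit 283) (Tr.lf (nat_lit 175))
(Tr.lf (nat_lit 175))))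
(Tr.nd (nat_lit 286) (Tr.nd (nat_lit 285) (Tr.lf (nat_lit 176))
(Tr.lf (nat_lit 176)))
(Tr.nd (nat_lit 287) (Tr.lf (nat_lit 177))
(Tr.lf (nat_lit 178)))))))
(Tr.nd (nat_lit 304) (Tr.nd (nat_lit 296) (Tr.nd (nat_lit 292) (Tr.nd (nat_lit 290) (Tr.nd (nat_lit 289) (Tr.lf (nat_lit 178))
(Tr.lf (nat_lit 179)))
(Tr.nd (nat_lit 291) (Tr.lf (nat_lit 179))
(Tr.lf (nat_lit 180))))
(Tr.nd (nat_lit 294) (Tr.nd (nat_lit 293) (Tr.lf (nat_lit 180))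
(Tr.lf (nat_lit 181)))
(Tr.nd (nat_lit 295) (Tr.lf (nat_lit 181))
(Tr.lf (nat_lit 182)))))
(Tr.nd (nat_lit 300) (Tr.nd (nat_lit 298) (Tr.nd (nat_lit 297) (Tr.lf (nat_lit 183))
(Tr.lf (nat_lit 183)))
(Tr.nd (nat_lit 299) (Tr.lf (nat_lit 184))
(Tr.lf (nat_lit 185))))
(Tr.nd (nat_lit 302) (Tr.nd (nat_lit 301) (Tr.lf (nat_lit 187))
(Tr.lf (nat_lit 188)))
(Tr.nd (nat_lit 303) (Tr.lf (nat_lit 189))
(Tr.lf (nat_lit 190))))))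
(Tr.nd (nat_lit 312) (Tr.nd (nat_lit 308) (Tr.nd (nat_lit 306) (Tr.nd (nat_lit 305) (Tr.lf (nat_lit 192))
(Tr.lf (nat_lit 194)))
(Tr.nd (nat_lit 307) (Tr.lf (nat_lit 195))
(Tr.lf (nat_lit 195))))
(Tr.nd (nat_lit 310) (Tr.nd (nat_lit 309) (Tr.lf (nat_lit 196))
(Tr.lf (nat_lit 198)))
(Tr.nd (nat_lit 311) (Tr.lf (nat_lit 198))
(Tr.lf (nat_lit 199)))))
(Tr.nd (nat_lit 316) (Tr.nd (nat_lit 314) (Tr.nd (nat_lit 313) (Tr.lf (nat_lit 200))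
(Tr.lf (nat_lit 200)))
(Tr.nd (nat_lit 315) (Tr.lf (nat_lit 200))
(Tr.lf (nat_lit 202))))
(Tr.nd (nat_lit 318) (Tr.nd (nat_lit 317) (Tr.lf (nat_lit 202))
(Tr.lf (nat_lit 202)))
(Tr.nd (nat_lit 319) (Tr.lf (nat_lit 203))
(Tr.lf (nat_lit 203))))))))
(Tr.nd (nat_lit 352) (Tr.nd (nat_lit 336) (Tr.nd (nat_lit 328) (Tr.nd (nat_lit 324) (Tr.nd (nat_lit 322) (Tr.nd (nat_lit 321) (Tr.lf (nat_lit 204))
(Tr.lf (nat_lit 204)))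
(Tr.nd (nat_lit 323) (Tr.lf (nat_lit 205))
(Tr.lf (nat_lit 205))))
(Tr.nd (nat_lit 326) (Tr.nd (nat_lit 325) (Tr.lf (nat_lit 207))
(Tr.lf (nat_lit 208)))
(Tr.nd (nat_lit 327) (Tr.lf (nat_lit 209))
(Tr.lf (nat_lit 209)))))
(Tr.nd (nat_lit 332) (Tr.nd (nat_lit 330) (Tr.nd (nat_lit 329) (Tr.lf (nat_lit 210))
(Tr.lf (nat_lit 210)))
(Tr.nd (nat_lit 331) (Tr.lf (nat_lit 211))
(Tr.lf (nat_lit 213))))
(Tr.nd (nat_lit 334) (Tr.nd (nat_lit 333) (Tr.lf (nat_lit 213))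
(Tr.lf (nat_lit 213)))
(Tr.nd (nat_lit 335) (Tr.lf (nat_lit 213))
(Tr.lf (nat_lit 214))))))
(Tr.nd (nat_lit 344) (Tr.nd (nat_lit 340) (Tr.nd (nat_lit 338) (Tr.nd (nat_lit 337) (Tr.lf (nat_lit 214))
(Tr.lf (nat_lit 215)))
(Tr.nd (nat_lit 339) (Tr.lf (nat_lit 215))
(Tr.lf (nat_lit 216))))
(Tr.nd (nat_lit 342) (Tr.nd (nat_lit 341) (Tr.lf (nat_lit 216))
(Tr.lf (nat_lit 217)))
(Tr.nd (nat_lit 343) (Tr.lf (nat_lit 217))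
(Tr.lf (nat_lit 219)))))
(Tr.nd (nat_lit 348) (Tr.nd (nat_lit 346) (Tr.nd (nat_lit 345) (Tr.lf (nat_lit 219))
(Tr.lf (nat_lit 221)))
(Tr.nd (nat_lit 347) (Tr.lf (nat_lit 221))
(Tr.lf (nat_lit 221))))
(Tr.nd (nat_lit 350) (Tr.nd (nat_lit 349) (Tr.lf (nat_lit 222))
(Tr.lf (nat_lit 223)))
(Tr.nd (nat_lit 351) (Tr.lf (nat_lit 224))
(Tr.lf (nat_lit 224)))))))
(Tr.nd (nat_lit 368) (Tr.nd (nat_lit 360) (Tr.nd (nat_lit 356) (Tr.nd (nat_lit 354) (Tr.nd (nat_lit 353) (Tr.lf (nat_lit 225))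
(Tr.lf (nat_lit 228)))
(Tr.nd (nat_lit 355) (Tr.lf (nat_lit 229))
(Tr.lf (nat_lit 231))))
(Tr.nd (nat_lit 358) (Tr.nd (nat_lit 357) (Tr.lf (nat_lit 233))
(Tr.lf (nat_lit 234)))
(Tr.nd (nat_lit 359) (Tr.lf (nat_lit 235))
(Tr.lf (nat_lit 236)))))
(Tr.nd (nat_lit 364) (Tr.nd (nat_lit 362) (Tr.nd (nat_lit 361) (Tr.lf (nat_lit 237))
(Tr.lf (nat_lit 238)))
(Tr.nd (nat_lit 363) (Tr.lf (nat_lit 240))
(Tr.lf (nat_lit 241))))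
(Tr.nd (nat_lit 366) (Tr.nd (nat_lit 365) (Tr.lf (nat_lit 242))
(Tr.lf (nat_lit 244)))
(Tr.nd (nat_lit 367) (Tr.lf (nat_lit 244))
(Tr.lf (nat_lit 245))))))
(Tr.nd (nat_lit 376) (Tr.nd (nat_lit 372) (Tr.nd (nat_lit 370) (Tr.nd (nat_lit 369) (Tr.lf (nat_lit 245))
(Tr.lf (nat_lit 246)))
(Tr.nd (nat_lit 371) (Tr.lf (nat_lit 248))
(Tr.lf (nat_lit 248))))
(Tr.nd (nat_lit 374) (Tr.nd (nat_lit 373) (Tr.lf (nat_lit 248))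
(Tr.lf (nat_lit 249)))
(Tr.nd (nat_lit 375) (Tr.lf (nat_lit 250))
(Tr.lf (nat_lit 251)))))
(Tr.nd (nat_lit 380) (Tr.nd (nat_lit 378) (Tr.nd (nat_lit 377) (Tr.lf (nat_lit 251))
(Tr.lf (nat_lit 252)))
(Tr.nd (nat_lit 379) (Tr.lf (nat_lit 253))
(Tr.lf (nat_lit 255))))
(Tr.nd (nat_lit 382) (Tr.nd (nat_lit 381) (Tr.lf (nat_lit 255))
(Tr.lf (nat_lit 256)))
(Tr.nd (nat_lit 383) (Tr.lf (nat_lit 257))
(Tr.lf (nat_lit 259)))))))))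
(Tr.nd (nat_lit 448) (Tr.nd (nat_lit 416) (Tr.nd (nat_lit 400) (Tr.nd (nat_lit 392) (Tr.nd (nat_lit 388) (Tr.nd (nat_lit 386) (Tr.nd (nat_lit 385) (Tr.lf (nat_lit 261))
(Tr.lf (nat_lit 262)))
(Tr.nd (nat_lit 387) (Tr.lf (nat_lit 263))
(Tr.lf (nat_lit 264))))
(Tr.nd (nat_lit 390) (Tr.nd (nat_lit 389) (Tr.lf (nat_lit 265))
(Tr.lf (nat_lit 267)))
(Tr.nd (nat_lit 391) (Tr.lf (nat_lit 269))
(Tr.lf (nat_lit 269)))))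
(Tr.nd (nat_lit 396) (Tr.nd (nat_lit 394) (Tr.nd (nat_lit 393) (Tr.lf (nat_lit 271))
(Tr.lf (nat_lit 271)))
(Tr.nd (nat_lit 395) (Tr.lf (nat_lit 273))
(Tr.lf (nat_lit 273))))
(Tr.nd (nat_lit 398) (Tr.nd (nat_lit 397) (Tr.lf (nat_lit 274))
(Tr.lf (nat_lit 274)))
(Tr.nd (nat_lit 399) (Tr.lf (nat_lit 275))
(Tr.lf (nat_lit 276))))))
(Tr.nd (nat_lit 408) (Tr.nd (nat_lit 404) (Tr.nd (nat_lit 402) (Tr.nd (nat_lit 401) (Tr.lf (nat_lit 278))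
(Tr.lf (nat_lit 279)))
(Tr.nd (nat_lit 403) (Tr.lf (nat_lit 280))
(Tr.lf (nat_lit 282))))
(Tr.nd (nat_lit 406) (Tr.nd (nat_lit 405) (Tr.lf (nat_lit 282))
(Tr.lf (nat_lit 284)))
(Tr.nd (nat_lit 407) (Tr.lf (nat_lit 285))
(Tr.lf (nat_lit 285)))))
(Tr.nd (nat_lit 412) (Tr.nd (nat_lit 410) (Tr.nd (nat_lit 409) (Tr.lf (nat_lit 286))
(Tr.lf (nat_lit 286)))
(Tr.nd (nat_lit 411) (Tr.lf (nat_lit 287))
(Tr.lf (nat_lit 288))))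
(Tr.nd (nat_lit 414) (Tr.nd (nat_lit 413) (Tr.lf (nat_lit 289))
(Tr.lf (nat_lit 289)))
(Tr.nd (nat_lit 415) (Tr.lf (nat_lit 291))
(Tr.lf (nat_lit 292)))))))
(Tr.nd (nat_lit 432) (Tr.nd (nat_lit 424) (Tr.nd (nat_lit 420) (Tr.nd (nat_lit 418) (Tr.nd (nat_lit 417) (Tr.lf (nat_lit 292))
(Tr.lf (nat_lit 293)))
(Tr.nd (nat_lit 419) (Tr.lf (nat_lit 293))
(Tr.lf (nat_lit 294))))
(Tr.nd (nat_lit 422) (Tr.nd (nat_lit 421) (Tr.lf (nat_lit 295))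
(Tr.lf (nat_lit 296)))
(Tr.nd (nat_lit 423) (Tr.lf (nat_lit 300))
(Tr.lf (nat_lit 300)))))
(Tr.nd (nat_lit 428) (Tr.nd (nat_lit 426) (Tr.nd (nat_lit 425) (Tr.lf (nat_lit 301))
(Tr.lf (nat_lit 301)))
(Tr.nd (nat_lit 427) (Tr.lf (nat_lit 301))
(Tr.lf (nat_lit 304))))
(Tr.nd (nat_lit 430) (Tr.nd (nat_lit 429) (Tr.lf (nat_lit 305))
(Tr.lf (nat_lit 306)))
(Tr.nd (nat_lit 431) (Tr.lf (nat_lit 309))
(Tr.lf (nat_lit 310))))))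
(Tr.nd (nat_lit 440) (Tr.nd (nat_lit 436) (Tr.nd (nat_lit 434) (Tr.nd (nat_lit 433) (Tr.lf (nat_lit 311))
(Tr.lf (nat_lit 311)))
(Tr.nd (nat_lit 435) (Tr.lf (nat_lit 311))
(Tr.lf (nat_lit 312))))
(Tr.nd (nat_lit 438) (Tr.nd (nat_lit 437) (Tr.lf (nat_lit 313))
(Tr.lf (nat_lit 313)))
(Tr.nd (nat_lit 439) (Tr.lf (nat_lit 315))
(Tr.lf (nat_lit 316)))))
(Tr.nd (nat_lit 444) (Tr.nd (nat_lit 442) (Tr.nd (nat_lit 441) (Tr.lf (nat_lit 316))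
(Tr.lf (nat_lit 317)))
(Tr.nd (nat_lit 443) (Tr.lf (nat_lit 317))
(Tr.lf (nat_lit 318))))
(Tr.nd (nat_lit 446) (Tr.nd (nat_lit 445) (Tr.lf (nat_lit 318))
(Tr.lf (nat_lit 319)))
(Tr.nd (nat_lit 447) (Tr.lf (nat_lit 319))
(Tr.lf (nat_lit 320))))))))
(Tr.nd (nat_lit 480) (Tr.nd (nat_lit 464) (Tr.nd (nat_lit 456) (Tr.nd (nat_lit 452) (Tr.nd (nat_lit 450) (Tr.nd (nat_lit 449) (Tr.lf (nat_lit 320))
(Tr.lf (nat_lit 320)))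
(Tr.nd (nat_lit 451) (Tr.lf (nat_lit 322))
(Tr.lf (nat_lit 322))))
(Tr.nd (nat_lit 454) (Tr.nd (nat_lit 453) (Tr.lf (nat_lit 322))
(Tr.lf (nat_lit 324)))
(Tr.nd (nat_lit 455) (Tr.lf (nat_lit 324))
(Tr.lf (nat_lit 325)))))
(Tr.nd (nat_lit 460) (Tr.nd (nat_lit 458) (Tr.nd (nat_lit 457) (Tr.lf (nat_lit 326))
(Tr.lf (nat_lit 326)))
(Tr.nd (nat_lit 459) (Tr.lf (nat_lit 328))
(Tr.lf (nat_lit 328))))
(Tr.nd (nat_lit 462) (Tr.nd (nat_lit 461) (Tr.lf (nat_lit 328))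
(Tr.lf (nat_lit 329)))
(Tr.nd (nat_lit 463) (Tr.lf (nat_lit 331))
(Tr.lf (nat_lit 331))))))
(Tr.nd (nat_lit 472) (Tr.nd (nat_lit 468) (Tr.nd (nat_lit 466) (Tr.nd (nat_lit 465) (Tr.lf (nat_lit 331))
(Tr.lf (nat_lit 331)))
(Tr.nd (nat_lit 467) (Tr.lf (nat_lit 332))
(Tr.lf (nat_lit 332))))
(Tr.nd (nat_lit 470) (Tr.nd (nat_lit 469) (Tr.lf (nat_lit 333))
(Tr.lf (nat_lit 335)))
(Tr.nd (nat_lit 471) (Tr.lf (nat_lit 335))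
(Tr.lf (nat_lit 335)))))
(Tr.nd (nat_lit 476) (Tr.nd (nat_lit 474) (Tr.nd (nat_lit 473) (Tr.lf (nat_lit 336))
(Tr.lf (nat_lit 336)))
(Tr.nd (nat_lit 475) (Tr.lf (nat_lit 337))
(Tr.lf (nat_lit 338))))
(Tr.nd (nat_lit 478) (Tr.nd (nat_lit 477) (Tr.lf (nat_lit 338))
(Tr.lf (nat_lit 339)))
(Tr.nd (nat_lit 479) (Tr.lf (nat_lit 341))
(Tr.lf (nat_lit 341)))))))
(Tr.nd (nat_lit 496) (Tr.nd (nat_lit 488) (Tr.nd (nat_lit 484) (Tr.nd (nat_lit 482) (Tr.nd (nat_lit 481) (Tr.lf (nat_lit 343))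
(Tr.lf (nat_lit 345)))
(Tr.nd (nat_lit 483) (Tr.lf (nat_lit 345))
(Tr.lf (nat_lit 346))))
(Tr.nd (nat_lit 486) (Tr.nd (nat_lit 485) (Tr.lf (nat_lit 346))
(Tr.lf (nat_lit 347)))
(Tr.nd (nat_lit 487) (Tr.lf (nat_lit 348))
(Tr.lf (nat_lit 349)))))
(Tr.nd (nat_lit 492) (Tr.nd (nat_lit 490) (Tr.nd (nat_lit 489) (Tr.lf (nat_lit 350))
(Tr.lf (nat_lit 351)))
(Tr.nd (nat_lit 491) (Tr.lf (nat_lit 355))
(Tr.lf (nat_lit 356))))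
(Tr.nd (nat_lit 494) (Tr.nd (nat_lit 493) (Tr.lf (nat_lit 356))
(Tr.lf (nat_lit 358)))
(Tr.nd (nat_lit 495) (Tr.lf (nat_lit 358))
(Tr.lf (nat_lit 360))))))
(Tr.nd (nat_lit 504) (Tr.nd (nat_lit 500) (Tr.nd (nat_lit 498) (Tr.nd (nat_lit 497) (Tr.lf (nat_lit 361))
(Tr.lf (nat_lit 362)))
(Tr.nd (nat_lit 499) (Tr.lf (nat_lit 363))
(Tr.lf (nat_lit 365))))
(Tr.nd (nat_lit 502) (Tr.nd (nat_lit 501) (Tr.lf (nat_lit 367))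
(Tr.lf (nat_lit 368)))
(Tr.nd (nat_lit 503) (Tr.lf (nat_lit 369))
(Tr.lf (nat_lit 370)))))
(Tr.nd (nat_lit 508) (Tr.nd (nat_lit 506) (Tr.nd (nat_lit 505) (Tr.lf (nat_lit 370))
(Tr.lf (nat_lit 371)))
(Tr.nd (nat_lit 507) (Tr.lf (nat_lit 372))
(Tr.lf (nat_lit 373))))
(Tr.nd (nat_lit 510) (Tr.nd (nat_lit 509) (Tr.lf (nat_lit 375))
(Tr.lf (nat_lit 375)))
(Tr.nd (nat_lit 511) (Tr.lf (nat_lit 378))
(Tr.lf (nat_lit 379)))))))))))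
(Tr.nd (nat_lit 768) (Tr.nd (nat_lit 640) (Tr.nd (nat_lit 576) (Tr.nd (nat_lit 544) (Tr.nd (nat_lit 528) (Tr.nd (nat_lit 520) (Tr.nd (nat_lit 516) (Tr.nd (nat_lit 514) (Tr.nd (nat_lit 513) (Tr.lf (nat_lit 380))
(Tr.lf (nat_lit 384)))
(Tr.nd (nat_lit 515) (Tr.lf (nat_lit 386))
(Tr.lf (nat_lit 387))))
(Tr.nd (nat_lit 518) (Tr.nd (nat_lit 517) (Tr.lf (nat_lit 388))
(Tr.lf (nat_lit 389)))
(Tr.nd (nat_lit 519) (Tr.lf (nat_lit 390))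
(Tr.lf (nat_lit 392)))))
(Tr.nd (nat_lit 524) (Tr.nd (nat_lit 522) (Tr.nd (nat_lit 521) (Tr.lf (nat_lit 392))
(Tr.lf (nat_lit 393)))
(Tr.nd (nat_lit 523) (Tr.lf (nat_lit 394))
(Tr.lf (nat_lit 395))))
(Tr.nd (nat_lit 526) (Tr.nd (nat_lit 525) (Tr.lf (nat_lit 396))
(Tr.lf (nat_lit 397)))
(Tr.nd (nat_lit 527) (Tr.lf (nat_lit 397))
(Tr.lf (nat_lit 399))))))
(Tr.nd (nat_lit 536) (Tr.nd (nat_lit 532) (Tr.nd (nat_lit 530) (Tr.nd (nat_lit 529) (Tr.lf (nat_lit 400))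
(Tr.lf (nat_lit 401)))
(Tr.nd (nat_lit 531) (Tr.lf (nat_lit 401))
(Tr.lf (nat_lit 402))))
(Tr.nd (nat_lit 534) (Tr.nd (nat_lit 533) (Tr.lf (nat_lit 402))
(Tr.lf (nat_lit 402)))
(Tr.nd (nat_lit 535) (Tr.lf (nat_lit 403))
(Tr.lf (nat_lit 404)))))
(Tr.nd (nat_lit 540) (Tr.nd (nat_lit 538) (Tr.nd (nat_lit 537) (Tr.lf (nat_lit 404))
(Tr.lf (nat_lit 405)))
(Tr.nd (nat_lit 539) (Tr.lf (nat_lit 405))
(Tr.lf (nat_lit 406))))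
(Tr.nd (nat_lit 542) (Tr.nd (nat_lit 541) (Tr.lf (nat_lit 407))
(Tr.lf (nat_lit 407)))
(Tr.nd (nat_lit 543) (Tr.lf (nat_lit 408))
(Tr.lf (nat_lit 408)))))))
(Tr.nd (nat_lit 560) (Tr.nd (nat_lit 552) (Tr.nd (nat_lit 548) (Tr.nd (nat_lit 546) (Tr.nd (nat_lit 545) (Tr.lf (nat_lit 411))
(Tr.lf (nat_lit 413)))
(Tr.nd (nat_lit 547) (Tr.lf (nat_lit 413))
(Tr.lf (nat_lit 414))))
(Tr.nd (nat_lit 550) (Tr.nd (nat_lit 549) (Tr.lf (nat_lit 414))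
(Tr.lf (nat_lit 415)))
(Tr.nd (nat_lit 551) (Tr.lf (nat_lit 416))
(Tr.lf (nat_lit 417)))))
(Tr.nd (nat_lit 556) (Tr.nd (nat_lit 554) (Tr.nd (nat_lit 553) (Tr.lf (nat_lit 417))
(Tr.lf (nat_lit 418)))
(Tr.nd (nat_lit 555) (Tr.lf (nat_lit 420))
(Tr.lf (nat_lit 421))))
(Tr.nd (nat_lit 558) (Tr.nd (nat_lit 557) (Tr.lf (nat_lit 422))
(Tr.lf (nat_lit 422)))
(Tr.nd (nat_lit 559) (Tr.lf (nat_lit 424))
(Tr.lf (nat_lit 427))))))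
(Tr.nd (nat_lit 568) (Tr.nd (nat_lit 564) (Tr.nd (nat_lit 562) (Tr.nd (nat_lit 561) (Tr.lf (nat_lit 428))
(Tr.lf (nat_lit 429)))
(Tr.nd (nat_lit 563) (Tr.lf (nat_lit 429))
(Tr.lf (nat_lit 430))))
(Tr.nd (nat_lit 566) (Tr.nd (nat_lit 565) (Tr.lf (nat_lit 431))
(Tr.lf (nat_lit 432)))
(Tr.nd (nat_lit 567) (Tr.lf (nat_lit 432))
(Tr.lf (nat_lit 433)))))
(Tr.nd (nat_lit 572) (Tr.nd (nat_lit 570) (Tr.nd (nat_lit 569) (Tr.lf (nat_lit 435))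
(Tr.lf (nat_lit 435)))
(Tr.nd (nat_lit 571) (Tr.lf (nat_lit 436))
(Tr.lf (nat_lit 438))))
(Tr.nd (nat_lit 574) (Tr.nd (nat_lit 573) (Tr.lf (nat_lit 439))
(Tr.lf (nat_lit 440)))
(Tr.nd (nat_lit 575) (Tr.lf (nat_lit 441))
(Tr.lf (nat_lit 443))))))))
(Tr.nd (nat_lit 608) (Tr.nd (nat_lit 592) (Tr.nd (nat_lit 584) (Tr.nd (nat_lit 580) (Tr.nd (nat_lit 578) (Tr.nd (nat_lit 577) (Tr.lf (nat_lit 444))
(Tr.lf (nat_lit 444)))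
(Tr.nd (nat_lit 579) (Tr.lf (nat_lit 445))
(Tr.lf (nat_lit 445))))
(Tr.nd (nat_lit 582) (Tr.nd (nat_lit 581) (Tr.lf (nat_lit 447))
(Tr.lf (nat_lit 447)))
(Tr.nd (nat_lit 583) (Tr.lf (nat_lit 447))
(Tr.lf (nat_lit 448)))))
(Tr.nd (nat_lit 588) (Tr.nd (nat_lit 586) (Tr.nd (nat_lit 585) (Tr.lf (nat_lit 450))
(Tr.lf (nat_lit 450)))
(Tr.nd (nat_lit 587) (Tr.lf (nat_lit 451))
(Tr.lf (nat_lit 452))))
(Tr.nd (nat_lit 590) (Tr.nd (nat_lit 589) (Tr.lf (nat_lit 452))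
(Tr.lf (nat_lit 453)))
(Tr.nd (nat_lit 591) (Tr.lf (nat_lit 455))
(Tr.lf (nat_lit 456))))))
(Tr.nd (nat_lit 600) (Tr.nd (nat_lit 596) (Tr.nd (nat_lit 594) (Tr.nd (nat_lit 593) (Tr.lf (nat_lit 456))
(Tr.lf (nat_lit 458)))
(Tr.nd (nat_lit 595) (Tr.lf (nat_lit 458))
(Tr.lf (nat_lit 458))))
(Tr.nd (nat_lit 598) (Tr.nd (nat_lit 597) (Tr.lf (nat_lit 459))
(Tr.lf (nat_lit 462)))
(Tr.nd (nat_lit 599) (Tr.lf (nat_lit 463))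
(Tr.lf (nat_lit 463)))))
(Tr.nd (nat_lit 604) (Tr.nd (nat_lit 602) (Tr.nd (nat_lit 601) (Tr.lf (nat_lit 463))
(Tr.lf (nat_lit 464)))
(Tr.nd (nat_lit 603) (Tr.lf (nat_lit 466))
(Tr.lf (nat_lit 468))))
(Tr.nd (nat_lit 606) (Tr.nd (nat_lit 605) (Tr.lf (nat_lit 469))
(Tr.lf (nat_lit 470)))
(Tr.nd (nat_lit 607) (Tr.lf (nat_lit 471))
(Tr.lf (nat_lit 472)))))))
(Tr.nd (nat_lit 624) (Tr.nd (nat_lit 616) (Tr.nd (nat_lit 612) (Tr.nd (nat_lit 610) (Tr.nd (nat_lit 609) (Tr.lf (nat_lit 474))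
(Tr.lf (nat_lit 474)))
(Tr.nd (nat_lit 611) (Tr.lf (nat_lit 475))
(Tr.lf (nat_lit 475))))
(Tr.nd (nat_lit 614) (Tr.nd (nat_lit 613) (Tr.lf (nat_lit 477))
(Tr.lf (nat_lit 477)))
(Tr.nd (nat_lit 615) (Tr.lf (nat_lit 478))
(Tr.lf (nat_lit 478)))))
(Tr.nd (nat_lit 620) (Tr.nd (nat_lit 618) (Tr.nd (nat_lit 617) (Tr.lf (nat_lit 480))
(Tr.lf (nat_lit 481)))
(Tr.nd (nat_lit 619) (Tr.lf (nat_lit 481))
(Tr.lf (nat_lit 482))))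
(Tr.nd (nat_lit 622) (Tr.nd (nat_lit 621) (Tr.lf (nat_lit 483))
(Tr.lf (nat_lit 484)))
(Tr.nd (nat_lit 623) (Tr.lf (nat_lit 485))
(Tr.lf (nat_lit 486))))))
(Tr.nd (nat_lit 632) (Tr.nd (nat_lit 628) (Tr.nd (nat_lit 626) (Tr.nd (nat_lit 625) (Tr.lf (nat_lit 487))
(Tr.lf (nat_lit 487)))
(Tr.nd (nat_lit 627) (Tr.lf (nat_lit 488))
(Tr.lf (nat_lit 489))))
(Tr.nd (nat_lit 630) (Tr.nd (nat_lit 629) (Tr.lf (nat_lit 491))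
(Tr.lf (nat_lit 491)))
(Tr.nd (nat_lit 631) (Tr.lf (nat_lit 493))
(Tr.lf (nat_lit 495)))))
(Tr.nd (nat_lit 636) (Tr.nd (nat_lit 634) (Tr.nd (nat_lit 633) (Tr.lf (nat_lit 495))
(Tr.lf (nat_lit 496)))
(Tr.nd (nat_lit 635) (Tr.lf (nat_lit 496))
(Tr.lf (nat_lit 497))))
(Tr.nd (nat_lit 638) (Tr.nd (nat_lit 637) (Tr.lf (nat_lit 498))
(Tr.lf (nat_lit 499)))
(Tr.nd (nat_lit 639) (Tr.lf (nat_lit 499))
(Tr.lf (nat_lit 500)))))))))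
(Tr.nd (nat_lit 704) (Tr.nd (nat_lit 672) (Tr.nd (nat_lit 656) (Tr.nd (nat_lit 648) (Tr.nd (nat_lit 644) (Tr.nd (nat_lit 642) (Tr.nd (nat_lit 641) (Tr.lf (nat_lit 501))
(Tr.lf (nat_lit 503)))
(Tr.nd (nat_lit 643) (Tr.lf (nat_lit 503))
(Tr.lf (nat_lit 504))))
(Tr.nd (nat_lit 646) (Tr.nd (nat_lit 645) (Tr.lf (nat_lit 505))
(Tr.lf (nat_lit 508)))
(Tr.nd (nat_lit 647) (Tr.lf (nat_lit 508))
(Tr.lf (nat_lit 510)))))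
(Tr.nd (nat_lit 652) (Tr.nd (nat_lit 650) (Tr.nd (nat_lit 649) (Tr.lf (nat_lit 511))
(Tr.lf (nat_lit 514)))
(Tr.nd (nat_lit 651) (Tr.lf (nat_lit 515))
(Tr.lf (nat_lit 516))))
(Tr.nd (nat_lit 654) (Tr.nd (nat_lit 653) (Tr.lf (nat_lit 518))
(Tr.lf (nat_lit 519)))
(Tr.nd (nat_lit 655) (Tr.lf (nat_lit 520))
(Tr.lf (nat_lit 522))))))
(Tr.nd (nat_lit 664) (Tr.nd (nat_lit 660) (Tr.nd (nat_lit 658) (Tr.nd (nat_lit 657) (Tr.lf (nat_lit 524))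
(Tr.lf (nat_lit 524)))
(Tr.nd (nat_lit 659) (Tr.lf (nat_lit 525))
(Tr.lf (nat_lit 525))))
(Tr.nd (nat_lit 662) (Tr.nd (nat_lit 661) (Tr.lf (nat_lit 527))
(Tr.lf (nat_lit 528)))
(Tr.nd (nat_lit 663) (Tr.lf (nat_lit 528))
(Tr.lf (nat_lit 530)))))
(Tr.nd (nat_lit 668) (Tr.nd (nat_lit 666) (Tr.nd (nat_lit 665) (Tr.lf (nat_lit 531))
(Tr.lf (nat_lit 531)))
(Tr.nd (nat_lit 667) (Tr.lf (nat_lit 532))
(Tr.lf (nat_lit 532))))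
(Tr.nd (nat_lit 670) (Tr.nd (nat_lit 669) (Tr.lf (nat_lit 534))
(Tr.lf (nat_lit 535)))
(Tr.nd (nat_lit 671) (Tr.lf (nat_lit 535))
(Tr.lf (nat_lit 537)))))))
(Tr.nd (nat_lit 688) (Tr.nd (nat_lit 680) (Tr.nd (nat_lit 676) (Tr.nd (nat_lit 674) (Tr.nd (nat_lit 673) (Tr.lf (nat_lit 537))
(Tr.lf (nat_lit 538)))
(Tr.nd (nat_lit 675) (Tr.lf (nat_lit 539))
(Tr.lf (nat_lit 540))))
(Tr.nd (nat_lit 678) (Tr.nd (nat_lit 677) (Tr.lf (nat_lit 540))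
(Tr.lf (nat_lit 542)))
(Tr.nd (nat_lit 679) (Tr.lf (nat_lit 545))
(Tr.lf (nat_lit 545)))))
(Tr.nd (nat_lit 684) (Tr.nd (nat_lit 682) (Tr.nd (nat_lit 681) (Tr.lf (nat_lit 547))
(Tr.lf (nat_lit 547)))
(Tr.nd (nat_lit 683) (Tr.lf (nat_lit 549))
(Tr.lf (nat_lit 551))))
(Tr.nd (nat_lit 686) (Tr.nd (nat_lit 685) (Tr.lf (nat_lit 552))
(Tr.lf (nat_lit 553)))
(Tr.nd (nat_lit 687) (Tr.lf (nat_lit 556))
(Tr.lf (nat_lit 556))))))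
(Tr.nd (nat_lit 696) (Tr.nd (nat_lit 692) (Tr.nd (nat_lit 690) (Tr.nd (nat_lit 689) (Tr.lf (nat_lit 557))
(Tr.lf (nat_lit 558)))
(Tr.nd (nat_lit 691) (Tr.lf (nat_lit 559))
(Tr.lf (nat_lit 560))))
(Tr.nd (nat_lit 694) (Tr.nd (nat_lit 693) (Tr.lf (nat_lit 561))
(Tr.lf (nat_lit 563)))
(Tr.nd (nat_lit 695) (Tr.lf (nat_lit 564))
(Tr.lf (nat_lit 565)))))
(Tr.nd (nat_lit 700) (Tr.nd (nat_lit 698) (Tr.nd (nat_lit 697) (Tr.lf (nat_lit 566))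
(Tr.lf (nat_lit 568)))
(Tr.nd (nat_lit 699) (Tr.lf (nat_lit 571))
(Tr.lf (nat_lit 571))))
(Tr.nd (nat_lit 702) (Tr.nd (nat_lit 701) (Tr.lf (nat_lit 572))
(Tr.lf (nat_lit 572)))
(Tr.nd (nat_lit 703) (Tr.lf (nat_lit 573))
(Tr.lf (nat_lit 574))))))))
(Tr.nd (nat_lit 736) (Tr.nd (nat_lit 720) (Tr.nd (nat_lit 712) (Tr.nd (nat_lit 708) (Tr.nd (nat_lit 706) (Tr.nd (nat_lit 705) (Tr.lf (nat_lit 575))
(Tr.lf (nat_lit 575)))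
(Tr.nd (nat_lit 707) (Tr.lf (nat_lit 575))
(Tr.lf (nat_lit 576))))
(Tr.nd (nat_lit 710) (Tr.nd (nat_lit 709) (Tr.lf (nat_lit 578))
(Tr.lf (nat_lit 578)))
(Tr.nd (nat_lit 711) (Tr.lf (nat_lit 580))
(Tr.lf (nat_lit 581)))))
(Tr.nd (nat_lit 716) (Tr.nd (nat_lit 714) (Tr.nd (nat_lit 713) (Tr.lf (nat_lit 582))
(Tr.lf (nat_lit 584)))
(Tr.nd (nat_lit 715) (Tr.lf (nat_lit 585))
(Tr.lf (nat_lit 586))))
(Tr.nd (nat_lit 718) (Tr.nd (nat_lit 717) (Tr.lf (nat_lit 586))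
(Tr.lf (nat_lit 587)))
(Tr.nd (nat_lit 719) (Tr.lf (nat_lit 587))
(Tr.lf (nat_lit 589))))))
(Tr.nd (nat_lit 728) (Tr.nd (nat_lit 724) (Tr.nd (nat_lit 722) (Tr.nd (nat_lit 721) (Tr.lf (nat_lit 589))
(Tr.lf (nat_lit 590)))
(Tr.nd (nat_lit 723) (Tr.lf (nat_lit 591))
(Tr.lf (nat_lit 591))))
(Tr.nd (nat_lit 726) (Tr.nd (nat_lit 725) (Tr.lf (nat_lit 593))
(Tr.lf (nat_lit 594)))
(Tr.nd (nat_lit 727) (Tr.lf (nat_lit 597))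
(Tr.lf (nat_lit 598)))))
(Tr.nd (nat_lit 732) (Tr.nd (nat_lit 730) (Tr.nd (nat_lit 729) (Tr.lf (nat_lit 599))
(Tr.lf (nat_lit 603)))
(Tr.nd (nat_lit 731) (Tr.lf (nat_lit 604))
(Tr.lf (nat_lit 605))))
(Tr.nd (nat_lit 734) (Tr.nd (nat_lit 733) (Tr.lf (nat_lit 607))
(Tr.lf (nat_lit 607)))
(Tr.nd (nat_lit 735) (Tr.lf (nat_lit 608))
(Tr.lf (nat_lit 608)))))))
(Tr.nd (nat_lit 752) (Tr.nd (nat_lit 744) (Tr.nd (nat_lit 740) (Tr.nd (nat_lit 738) (Tr.nd (nat_lit 737) (Tr.lf (nat_lit 610))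
(Tr.lf (nat_lit 612)))
(Tr.nd (nat_lit 739) (Tr.lf (nat_lit 614))
(Tr.lf (nat_lit 616))))
(Tr.nd (nat_lit 742) (Tr.nd (nat_lit 741) (Tr.lf (nat_lit 616))
(Tr.lf (nat_lit 617)))
(Tr.nd (nat_lit 743) (Tr.lf (nat_lit 618))
(Tr.lf (nat_lit 620)))))
(Tr.nd (nat_lit 748) (Tr.nd (nat_lit 746) (Tr.nd (nat_lit 745) (Tr.lf (nat_lit 622))
(Tr.lf (nat_lit 622)))
(Tr.nd (nat_lit 747) (Tr.lf (nat_lit 623))
(Tr.lf (nat_lit 624))))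
(Tr.nd (nat_lit 750) (Tr.nd (nat_lit 749) (Tr.lf (nat_lit 627))
(Tr.lf (nat_lit 628)))
(Tr.nd (nat_lit 751) (Tr.lf (nat_lit 628))
(Tr.lf (nat_lit 631))))))
(Tr.nd (nat_lit 760) (Tr.nd (nat_lit 756) (Tr.nd (nat_lit 754) (Tr.nd (nat_lit 753) (Tr.lf (nat_lit 631))
(Tr.lf (nat_lit 633)))
(Tr.nd (nat_lit 755) (Tr.lf (nat_lit 633))
(Tr.lf (nat_lit 635))))
(Tr.nd (nat_lit 758) (Tr.nd (nat_lit 757) (Tr.lf (nat_lit 636))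
(Tr.lf (nat_lit 636)))
(Tr.nd (nat_lit 759) (Tr.lf (nat_lit 637))
(Tr.lf (nat_lit 639)))))
(Tr.nd (nat_lit 764) (Tr.nd (nat_lit 762) (Tr.nd (nat_lit 761) (Tr.lf (nat_lit 640))
(Tr.lf (nat_lit 641)))
(Tr.nd (nat_lit 763) (Tr.lf (nat_lit 644))
(Tr.lf (nat_lit 645))))
(Tr.nd (nat_lit 766) (Tr.nd (nat_lit 765) (Tr.lf (nat_lit 645))
(Tr.lf (nat_lit 646)))
(Tr.nd (nat_lit 767) (Tr.lf (nat_lit 647))
(Tr.lf (nat_lit 648))))))))))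
(Tr.nd (nat_lit 896) (Tr.nd (nat_lit 832) (Tr.nd (nat_lit 800) (Tr.nd (nat_lit 784) (Tr.nd (nat_lit 776) (Tr.nd (nat_lit 772) (Tr.nd (nat_lit 770) (Tr.nd (nat_lit 769) (Tr.lf (nat_lit 648))
(Tr.lf (nat_lit 649)))
(Tr.nd (nat_lit 771) (Tr.lf (nat_lit 650))
(Tr.lf (nat_lit 651))))
(Tr.nd (nat_lit 774) (Tr.nd (nat_lit 773) (Tr.lf (nat_lit 653))
(Tr.lf (nat_lit 656)))
(Tr.nd (nat_lit 775) (Tr.lf (nat_lit 657))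
(Tr.lf (nat_lit 658)))))
(Tr.nd (nat_lit 780) (Tr.nd (nat_lit 778) (Tr.nd (nat_lit 777) (Tr.lf (nat_lit 659))
(Tr.lf (nat_lit 660)))
(Tr.nd (nat_lit 779) (Tr.lf (nat_lit 661))
(Tr.lf (nat_lit 662))))
(Tr.nd (nat_lit 782) (Tr.nd (nat_lit 781) (Tr.lf (nat_lit 663))
(Tr.lf (nat_lit 664)))
(Tr.nd (nat_lit 783) (Tr.lf (nat_lit 666))
(Tr.lf (nat_lit 668))))))
(Tr.nd (nat_lit 792) (Tr.nd (nat_lit 788) (Tr.nd (nat_lit 786) (Tr.nd (nat_lit 785) (Tr.lf (nat_lit 669))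
(Tr.lf (nat_lit 670)))
(Tr.nd (nat_lit 787) (Tr.lf (nat_lit 671))
(Tr.lf (nat_lit 672))))
(Tr.nd (nat_lit 790) (Tr.nd (nat_lit 789) (Tr.lf (nat_lit 672))
(Tr.lf (nat_lit 673)))
(Tr.nd (nat_lit 791) (Tr.lf (nat_lit 674))
(Tr.lf (nat_lit 675)))))
(Tr.nd (nat_lit 796) (Tr.nd (nat_lit 794) (Tr.nd (nat_lit 793) (Tr.lf (nat_lit 678))
(Tr.lf (nat_lit 679)))
(Tr.nd (nat_lit 795) (Tr.lf (nat_lit 680))
(Tr.lf (nat_lit 680))))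
(Tr.nd (nat_lit 798) (Tr.nd (nat_lit 797) (Tr.lf (nat_lit 681))
(Tr.lf (nat_lit 682)))
(Tr.nd (nat_lit 799) (Tr.lf (nat_lit 683))
(Tr.lf (nat_lit 684)))))))
(Tr.nd (nat_lit 816) (Tr.nd (nat_lit 808) (Tr.nd (nat_lit 804) (Tr.nd (nat_lit 802) (Tr.nd (nat_lit 801) (Tr.lf (nat_lit 685))
(Tr.lf (nat_lit 686)))
(Tr.nd (nat_lit 803) (Tr.lf (nat_lit 687))
(Tr.lf (nat_lit 689))))
(Tr.nd (nat_lit 806) (Tr.nd (nat_lit 805) (Tr.lf (nat_lit 691))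
(Tr.lf (nat_lit 693)))
(Tr.nd (nat_lit 807) (Tr.lf (nat_lit 697))
(Tr.lf (nat_lit 698)))))
(Tr.nd (nat_lit 812) (Tr.nd (nat_lit 810) (Tr.nd (nat_lit 809) (Tr.lf (nat_lit 698))
(Tr.lf (nat_lit 699)))
(Tr.nd (nat_lit 811) (Tr.lf (nat_lit 699))
(Tr.lf (nat_lit 700))))
(Tr.nd (nat_lit 814) (Tr.nd (nat_lit 813) (Tr.lf (nat_lit 701))
(Tr.lf (nat_lit 702)))
(Tr.nd (nat_lit 815) (Tr.lf (nat_lit 704))
(Tr.lf (nat_lit 704))))))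
(Tr.nd (nat_lit 824) (Tr.nd (nat_lit 820) (Tr.nd (nat_lit 818) (Tr.nd (nat_lit 817) (Tr.lf (nat_lit 706))
(Tr.lf (nat_lit 707)))
(Tr.nd (nat_lit 819) (Tr.lf (nat_lit 708))
(Tr.lf (nat_lit 708))))
(Tr.nd (nat_lit 822) (Tr.nd (nat_lit 821) (Tr.lf (nat_lit 710))
(Tr.lf (nat_lit 711)))
(Tr.nd (nat_lit 823) (Tr.lf (nat_lit 712))
(Tr.lf (nat_lit 713)))))
(Tr.nd (nat_lit 828) (Tr.nd (nat_lit 826) (Tr.nd (nat_lit 825) (Tr.lf (nat_lit 714))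
(Tr.lf (nat_lit 714)))
(Tr.nd (nat_lit 827) (Tr.lf (nat_lit 715))
(Tr.lf (nat_lit 717))))
(Tr.nd (nat_lit 830) (Tr.nd (nat_lit 829) (Tr.lf (nat_lit 717))
(Tr.lf (nat_lit 718)))
(Tr.nd (nat_lit 831) (Tr.lf (nat_lit 719))
(Tr.lf (nat_lit 722))))))))
(Tr.nd (nat_lit 864) (Tr.nd (nat_lit 848) (Tr.nd (nat_lit 840) (Tr.nd (nat_lit 836) (Tr.nd (nat_lit 834) (Tr.nd (nat_lit 833) (Tr.lf (nat_lit 732))
(Tr.lf (nat_lit 732)))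
(Tr.nd (nat_lit 835) (Tr.lf (nat_lit 737))
(Tr.lf (nat_lit 738))))
(Tr.nd (nat_lit 838) (Tr.nd (nat_lit 837) (Tr.lf (nat_lit 739))
(Tr.lf (nat_lit 739)))
(Tr.nd (nat_lit 839) (Tr.lf (nat_lit 741))
(Tr.lf (nat_lit 744)))))
(Tr.nd (nat_lit 844) (Tr.nd (nat_lit 842) (Tr.nd (nat_lit 841) (Tr.lf (nat_lit 747))
(Tr.lf (nat_lit 749)))
(Tr.nd (nat_lit 843) (Tr.lf (nat_lit 751))
(Tr.lf (nat_lit 751))))
(Tr.nd (nat_lit 846) (Tr.nd (nat_lit 845) (Tr.lf (nat_lit 752))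
(Tr.lf (nat_lit 753)))
(Tr.nd (nat_lit 847) (Tr.lf (nat_lit 754))
(Tr.lf (nat_lit 755))))))
(Tr.nd (nat_lit 856) (Tr.nd (nat_lit 852) (Tr.nd (nat_lit 850) (Tr.nd (nat_lit 849) (Tr.lf (nat_lit 756))
(Tr.lf (nat_lit 759)))
(Tr.nd (nat_lit 851) (Tr.lf (nat_lit 762))
(Tr.lf (nat_lit 763))))
(Tr.nd (nat_lit 854) (Tr.nd (nat_lit 853) (Tr.lf (nat_lit 763))
(Tr.lf (nat_lit 765)))
(Tr.nd (nat_lit 855) (Tr.lf (nat_lit 766))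
(Tr.lf (nat_lit 769)))))
(Tr.nd (nat_lit 860) (Tr.nd (nat_lit 858) (Tr.nd (nat_lit 857) (Tr.lf (nat_lit 770))
(Tr.lf (nat_lit 771)))
(Tr.nd (nat_lit 859) (Tr.lf (nat_lit 772))
(Tr.lf (nat_lit 775))))
(Tr.nd (nat_lit 862) (Tr.nd (nat_lit 861) (Tr.lf (nat_lit 778))
(Tr.lf (nat_lit 779)))
(Tr.nd (nat_lit 863) (Tr.lf (nat_lit 780))
(Tr.lf (nat_lit 783)))))))
(Tr.nd (nat_lit 880) (Tr.nd (nat_lit 872) (Tr.nd (nat_lit 868) (Tr.nd (nat_lit 866) (Tr.nd (nat_lit 865) (Tr.lf (nat_lit 783))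
(Tr.lf (nat_lit 784)))
(Tr.nd (nat_lit 867) (Tr.lf (nat_lit 786))
(Tr.lf (nat_lit 787))))
(Tr.nd (nat_lit 870) (Tr.nd (nat_lit 869) (Tr.lf (nat_lit 788))
(Tr.lf (nat_lit 790)))
(Tr.nd (nat_lit 871) (Tr.lf (nat_lit 790))
(Tr.lf (nat_lit 792)))))
(Tr.nd (nat_lit 876) (Tr.nd (nat_lit 874) (Tr.nd (nat_lit 873) (Tr.lf (nat_lit 794))
(Tr.lf (nat_lit 795)))
(Tr.nd (nat_lit 875) (Tr.lf (nat_lit 797))
(Tr.lf (nat_lit 797))))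
(Tr.nd (nat_lit 878) (Tr.nd (nat_lit 877) (Tr.lf (nat_lit 798))
(Tr.lf (nat_lit 799)))
(Tr.nd (nat_lit 879) (Tr.lf (nat_lit 800))
(Tr.lf (nat_lit 801))))))
(Tr.nd (nat_lit 888) (Tr.nd (nat_lit 884) (Tr.nd (nat_lit 882) (Tr.nd (nat_lit 881) (Tr.lf (nat_lit 801))
(Tr.lf (nat_lit 802)))
(Tr.nd (nat_lit 883) (Tr.lf (nat_lit 807))
(Tr.lf (nat_lit 809))))
(Tr.nd (nat_lit 886) (Tr.nd (nat_lit 885) (Tr.lf (nat_lit 810))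
(Tr.lf (nat_lit 811)))
(Tr.nd (nat_lit 887) (Tr.lf (nat_lit 811))
(Tr.lf (nat_lit 812)))))
(Tr.nd (nat_lit 892) (Tr.nd (nat_lit 890) (Tr.nd (nat_lit 889) (Tr.lf (nat_lit 813))
(Tr.lf (nat_lit 814)))
(Tr.nd (nat_lit 891) (Tr.lf (nat_lit 814))
(Tr.lf (nat_lit 815))))
(Tr.nd (nat_lit 894) (Tr.nd (nat_lit 893) (Tr.lf (nat_lit 816))
(Tr.lf (nat_lit 817)))
(Tr.nd (nat_lit 895) (Tr.lf (nat_lit 817))
(Tr.lf (nat_lit 817)))))))))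
(Tr.nd (nat_lit 960) (Tr.nd (nat_lit 928) (Tr.nd (nat_lit 912) (Tr.nd (nat_lit 904) (Tr.nd (nat_lit 900) (Tr.nd (nat_lit 898) (Tr.nd (nat_lit 897) (Tr.lf (nat_lit 818))
(Tr.lf (nat_lit 820)))
(Tr.nd (nat_lit 899) (Tr.lf (nat_lit 821))
(Tr.lf (nat_lit 822))))
(Tr.nd (nat_lit 902) (Tr.nd (nat_lit 901) (Tr.lf (nat_lit 822))
(Tr.lf (nat_lit 823)))
(Tr.nd (nat_lit 903) (Tr.lf (nat_lit 823))
(Tr.lf (nat_lit 824)))))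
(Tr.nd (nat_lit 908) (Tr.nd (nat_lit 906) (Tr.nd (nat_lit 905) (Tr.lf (nat_lit 825))
(Tr.lf (nat_lit 825)))
(Tr.nd (nat_lit 907) (Tr.lf (nat_lit 826))
(Tr.lf (nat_lit 827))))
(Tr.nd (nat_lit 910) (Tr.nd (nat_lit 909) (Tr.lf (nat_lit 828))
(Tr.lf (nat_lit 830)))
(Tr.nd (nat_lit 911) (Tr.lf (nat_lit 832))
(Tr.lf (nat_lit 832))))))
(Tr.nd (nat_lit 920) (Tr.nd (nat_lit 916) (Tr.nd (nat_lit 914) (Tr.nd (nat_lit 913) (Tr.lf (nat_lit 834))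
(Tr.lf (nat_lit 836)))
(Tr.nd (nat_lit 915) (Tr.lf (nat_lit 836))
(Tr.lf (nat_lit 839))))
(Tr.nd (nat_lit 918) (Tr.nd (nat_lit 917) (Tr.lf (nat_lit 840))
(Tr.lf (nat_lit 842)))
(Tr.nd (nat_lit 919) (Tr.lf (nat_lit 843))
(Tr.lf (nat_lit 845)))))
(Tr.nd (nat_lit 924) (Tr.nd (nat_lit 922) (Tr.nd (nat_lit 921) (Tr.lf (nat_lit 847))
(Tr.lf (nat_lit 848)))
(Tr.nd (nat_lit 923) (Tr.lf (nat_lit 850))
(Tr.lf (nat_lit 851))))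
(Tr.nd (nat_lit 926) (Tr.nd (nat_lit 925) (Tr.lf (nat_lit 853))
(Tr.lf (nat_lit 853)))
(Tr.nd (nat_lit 927) (Tr.lf (nat_lit 856))
(Tr.lf (nat_lit 858)))))))
(Tr.nd (nat_lit 944) (Tr.nd (nat_lit 936) (Tr.nd (nat_lit 932) (Tr.nd (nat_lit 930) (Tr.nd (nat_lit 929) (Tr.lf (nat_lit 858))
(Tr.lf (nat_lit 861)))
(Tr.nd (nat_lit 931) (Tr.lf (nat_lit 863))
(Tr.lf (nat_lit 864))))
(Tr.nd (nat_lit 934) (Tr.nd (nat_lit 933) (Tr.lf (nat_lit 865))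
(Tr.lf (nat_lit 866)))
(Tr.nd (nat_lit 935) (Tr.lf (nat_lit 867))
(Tr.lf (nat_lit 867)))))
(Tr.nd (nat_lit 940) (Tr.nd (nat_lit 938) (Tr.nd (nat_lit 937) (Tr.lf (nat_lit 869))
(Tr.lf (nat_lit 871)))
(Tr.nd (nat_lit 939) (Tr.lf (nat_lit 872))
(Tr.lf (nat_lit 872))))
(Tr.nd (nat_lit 942) (Tr.nd (nat_lit 941) (Tr.lf (nat_lit 872))
(Tr.lf (nat_lit 873)))
(Tr.nd (nat_lit 943) (Tr.lf (nat_lit 874))
(Tr.lf (nat_lit 874))))))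
(Tr.nd (nat_lit 952) (Tr.nd (nat_lit 948) (Tr.nd (nat_lit 946) (Tr.nd (nat_lit 945) (Tr.lf (nat_lit 874))
(Tr.lf (nat_lit 876)))
(Tr.nd (nat_lit 947) (Tr.lf (nat_lit 876))
(Tr.lf (nat_lit 877))))
(Tr.nd (nat_lit 950) (Tr.nd (nat_lit 949) (Tr.lf (nat_lit 878))
(Tr.lf (nat_lit 879)))
(Tr.nd (nat_lit 951) (Tr.lf (nat_lit 879))
(Tr.lf (nat_lit 882)))))
(Tr.nd (nat_lit 956) (Tr.nd (nat_lit 954) (Tr.nd (nat_lit 953) (Tr.lf (nat_lit 882))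
(Tr.lf (nat_lit 883)))
(Tr.nd (nat_lit 955) (Tr.lf (nat_lit 884))
(Tr.lf (nat_lit 885))))
(Tr.nd (nat_lit 958) (Tr.nd (nat_lit 957) (Tr.lf (nat_lit 885))
(Tr.lf (nat_lit 886)))
(Tr.nd (nat_lit 959) (Tr.lf (nat_lit 887))
(Tr.lf (nat_lit 888))))))))
(Tr.nd (nat_lit 992) (Tr.nd (nat_lit 976) (Tr.nd (nat_lit 968) (Tr.nd (nat_lit 964) (Tr.nd (nat_lit 962) (Tr.nd (nat_lit 961) (Tr.lf (nat_lit 889))
(Tr.lf (nat_lit 890)))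
(Tr.nd (nat_lit 963) (Tr.lf (nat_lit 891))
(Tr.lf (nat_lit 892))))
(Tr.nd (nat_lit 966) (Tr.nd (nat_lit 965) (Tr.lf (nat_lit 893))
(Tr.lf (nat_lit 894)))
(Tr.nd (nat_lit 967) (Tr.lf (nat_lit 897))
(Tr.lf (nat_lit 898)))))
(Tr.nd (nat_lit 972) (Tr.nd (nat_lit 970) (Tr.nd (nat_lit 969) (Tr.lf (nat_lit 899))
(Tr.lf (nat_lit 901)))
(Tr.nd (nat_lit 971) (Tr.lf (nat_lit 903))
(Tr.lf (nat_lit 904))))
(Tr.nd (nat_lit 974) (Tr.nd (nat_lit 973) (Tr.lf (nat_lit 906))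
(Tr.lf (nat_lit 907)))
(Tr.nd (nat_lit 975) (Tr.lf (nat_lit 908))
(Tr.lf (nat_lit 909))))))
(Tr.nd (nat_lit 984) (Tr.nd (nat_lit 980) (Tr.nd (nat_lit 978) (Tr.nd (nat_lit 977) (Tr.lf (nat_lit 910))
(Tr.lf (nat_lit 912)))
(Tr.nd (nat_lit 979) (Tr.lf (nat_lit 913))
(Tr.lf (nat_lit 915))))
(Tr.nd (nat_lit 982) (Tr.nd (nat_lit 981) (Tr.lf (nat_lit 916))
(Tr.lf (nat_lit 917)))
(Tr.nd (nat_lit 983) (Tr.lf (nat_lit 919))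
(Tr.lf (nat_lit 920)))))
(Tr.nd (nat_lit 988) (Tr.nd (nat_lit 986) (Tr.nd (nat_lit 985) (Tr.lf (nat_lit 921))
(Tr.lf (nat_lit 922)))
(Tr.nd (nat_lit 987) (Tr.lf (nat_lit 923))
(Tr.lf (nat_lit 924))))
(Tr.nd (nat_lit 990) (Tr.nd (nat_lit 989) (Tr.lf (nat_lit 926))
(Tr.lf (nat_lit 927)))
(Tr.nd (nat_lit 991) (Tr.lf (nat_lit 930))
(Tr.lf (nat_lit 931)))))))
(Tr.nd (nat_lit 1008) (Tr.nd (nat_lit 1000) (Tr.nd (nat_lit 996) (Tr.nd (nat_lit 994) (Tr.nd (nat_lit 993) (Tr.lf (nat_lit 932))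
(Tr.lf (nat_lit 934)))
(Tr.nd (nat_lit 995) (Tr.lf (nat_lit 938))
(Tr.lf (nat_lit 938))))
(Tr.nd (nat_lit 998) (Tr.nd (nat_lit 997) (Tr.lf (nat_lit 939))
(Tr.lf (nat_lit 939)))
(Tr.nd (nat_lit 999) (Tr.lf (nat_lit 942))
(Tr.lf (nat_lit 942)))))
(Tr.nd (nat_lit 1004) (Tr.nd (nat_lit 1002) (Tr.nd (nat_lit 1001) (Tr.lf (nat_lit 943))
(Tr.lf (nat_lit 945)))
(Tr.nd (nat_lit 1003) (Tr.lf (nat_lit 947))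
(Tr.lf (nat_lit 949))))
(Tr.nd (nat_lit 1006) (Tr.nd (nat_lit 1005) (Tr.lf (nat_lit 951))
(Tr.lf (nat_lit 953)))
(Tr.nd (nat_lit 1007) (Tr.lf (nat_lit 955))
(Tr.lf (nat_lit 957))))))
(Tr.nd (nat_lit 1016) (Tr.nd (nat_lit 1012) (Tr.nd (nat_lit 1010) (Tr.nd (nat_lit 1009) (Tr.lf (nat_lit 958))
(Tr.lf (nat_lit 959)))
(Tr.nd (nat_lit 1011) (Tr.lf (nat_lit 960))
(Tr.lf (nat_lit 961))))
(Tr.nd (nat_lit 1014) (Tr.nd (nat_lit 1013) (Tr.lf (nat_lit 962))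
(Tr.lf (nat_lit 963)))
(Tr.nd (nat_lit 1015) (Tr.lf (nat_lit 982))
(Tr.lf (nat_lit 983)))))
(Tr.nd (nat_lit 1020) (Tr.nd (nat_lit 1018) (Tr.nd (nat_lit 1017) (Tr.lf (nat_lit 985))
(Tr.lf (nat_lit 987)))
(Tr.nd (nat_lit 1019) (Tr.lf (nat_lit 994))
(Tr.lf (nat_lit 994))))
(Tr.nd (nat_lit 1022) (Tr.nd (nat_lit 1021) (Tr.lf (nat_lit 995))
(Tr.lf (nat_lit 995)))
(Tr.nd (nat_lit 1023) (Tr.lf (nat_lit 996))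
(Tr.lf (nat_lit 1014))))))))))))
noncomputable def mini1Q : Tr ℕ := (Tr.nd (nat_lit 512) (Tr.nd (nat_lit 256) (Tr.nd (nat_lit 128) (Tr.nd (nat_lit 64) (Tr.nd (nat_lit 32) (Tr.nd (nat_lit 16) (Tr.nd (nat_lit 8) (Tr.nd (nat_lit 4) (Tr.nd (nat_lit 2) (Tr.nd (nat_lit 1) (Tr.lf (nat_lit 0))
(Tr.lf (nat_lit 9)))
(Tr.nd (nat_lit 3) (Tr.lf (nat_lit 8))
(Tr.lf (nat_lit 5))))
(Tr.nd (nat_lit 6) (Tr.nd (nat_lit 5) (Tr.lf (nat_lit 4))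
(Tr.lf (nat_lit 3)))
(Tr.nd (nat_lit 7) (Tr.lf (nat_lit 2))
(Tr.lf (nat_lit 1)))))
(Tr.nd (nat_lit 12) (Tr.nd (nat_lit 10) (Tr.nd (nat_lit 9) (Tr.lf (nat_lit 6))
(Tr.lf (nat_lit 5)))
(Tr.nd (nat_lit 11) (Tr.lf (nat_lit 4))
(Tr.lf (nat_lit 3))))
(Tr.nd (nat_lit 14) (Tr.nd (nat_lit 13) (Tr.lf (nat_lit 2))
(Tr.lf (nat_lit 8)))
(Tr.nd (nat_lit 15) (Tr.lf (nat_lit 5))
(Tr.lf (nat_lit 4))))))
(Tr.nd (nat_lit 24) (Tr.nd (nat_lit 20) (Tr.nd (nat_lit 18) (Tr.nd (nat_lit 17) (Tr.lf (nat_lit 6))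
(Tr.lf (nat_lit 5)))
(Tr.nd (nat_lit 19) (Tr.lf (nat_lit 8))
(Tr.lf (nat_lit 3))))
(Tr.nd (nat_lit 22) (Tr.nd (nat_lit 21) (Tr.lf (nat_lit 4))
(Tr.lf (nat_lit 5)))
(Tr.nd (nat_lit 23) (Tr.lf (nat_lit 6))
(Tr.lf (nat_lit 6)))))
(Tr.nd (nat_lit 28) (Tr.nd (nat_lit 26) (Tr.nd (nat_lit 25) (Tr.lf (nat_lit 5))
(Tr.lf (nat_lit 7)))
(Tr.nd (nat_lit 27) (Tr.lf (nat_lit 6))
(Tr.lf (nat_lit 8))))
(Tr.nd (nat_lit 30) (Tr.nd (nat_lit 29) (Tr.lf (nat_lit 5))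
(Tr.lf (nat_lit 4)))
(Tr.nd (nat_lit 31) (Tr.lf (nat_lit 3))
(Tr.lf (nat_lit 9)))))))
(Tr.nd (nat_lit 48) (Tr.nd (nat_lit 40) (Tr.nd (nat_lit 36) (Tr.nd (nat_lit 34) (Tr.nd (nat_lit 33) (Tr.lf (nat_lit 8))
(Tr.lf (nat_lit 5)))
(Tr.nd (nat_lit 35) (Tr.lf (nat_lit 4))
(Tr.lf (nat_lit 6))))
(Tr.nd (nat_lit 38) (Tr.nd (nat_lit 37) (Tr.lf (nat_lit 5))
(Tr.lf (nat_lit 8)))
(Tr.nd (nat_lit 39) (Tr.lf (nat_lit 9))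
(Tr.lf (nat_lit 7)))))
(Tr.nd (nat_lit 44) (Tr.nd (nat_lit 42) (Tr.nd (nat_lit 41) (Tr.lf (nat_lit 6))
(Tr.lf (nat_lit 5)))
(Tr.nd (nat_lit 43) (Tr.lf (nat_lit 8))
(Tr.lf (nat_lit 4))))
(Tr.nd (nat_lit 46) (Tr.nd (nat_lit 45) (Tr.lf (nat_lit 5))
(Tr.lf (nat_lit 6)))
(Tr.nd (nat_lit 47) (Tr.lf (nat_lit 6))
(Tr.lf (nat_lit 6))))))
(Tr.nd (nat_lit 56) (Tr.nd (nat_lit 52) (Tr.nd (nat_lit 50) (Tr.nd (nat_lit 49) (Tr.lf (nat_lit 6))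
(Tr.lf (nat_lit 1)))
(Tr.nd (nat_lit 51) (Tr.lf (nat_lit 7))
(Tr.lf (nat_lit 1))))
(Tr.nd (nat_lit 54) (Tr.nd (nat_lit 53) (Tr.lf (nat_lit 7))
(Tr.lf (nat_lit 8)))
(Tr.nd (nat_lit 55) (Tr.lf (nat_lit 1))
(Tr.lf (nat_lit 8)))))
(Tr.nd (nat_lit 60) (Tr.nd (nat_lit 58) (Tr.nd (nat_lit 57) (Tr.lf (nat_lit 0))
(Tr.lf (nat_lit 7)))
(Tr.nd (nat_lit 59) (Tr.lf (nat_lit 0))
(Tr.lf (nat_lit 7))))
(Tr.nd (nat_lit 62) (Tr.nd (nat_lit 61) (Tr.lf (nat_lit 0))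
(Tr.lf (nat_lit 2)))
(Tr.nd (nat_lit 63) (Tr.lf (nat_lit 6))
(Tr.lf (nat_lit 7))))))))
(Tr.nd (nat_lit 96) (Tr.nd (nat_lit 80) (Tr.nd (nat_lit 72) (Tr.nd (nat_lit 68) (Tr.nd (nat_lit 66) (Tr.nd (nat_lit 65) (Tr.lf (nat_lit 0))
(Tr.lf (nat_lit 2)))
(Tr.nd (nat_lit 67) (Tr.lf (nat_lit 3))
(Tr.lf (nat_lit 7))))
(Tr.nd (nat_lit 70) (Tr.nd (nat_lit 69) (Tr.lf (nat_lit 3))
(Tr.lf (nat_lit 7)))
(Tr.nd (nat_lit 71) (Tr.lf (nat_lit 3))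
(Tr.lf (nat_lit 7)))))
(Tr.nd (nat_lit 76) (Tr.nd (nat_lit 74) (Tr.nd (nat_lit 73) (Tr.lf (nat_lit 7))
(Tr.lf (nat_lit 7)))
(Tr.nd (nat_lit 75) (Tr.lf (nat_lit 7))
(Tr.lf (nat_lit 3))))
(Tr.nd (nat_lit 78) (Tr.nd (nat_lit 77) (Tr.lf (nat_lit 3))
(Tr.lf (nat_lit 8)))
(Tr.nd (nat_lit 79) (Tr.lf (nat_lit 3))
(Tr.lf (nat_lit 3))))))
(Tr.nd (nat_lit 88) (Tr.nd (nat_lit 84) (Tr.nd (nat_lit 82) (Tr.nd (nat_lit 81) (Tr.lf (nat_lit 9))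
(Tr.lf (nat_lit 3)))
(Tr.nd (nat_lit 83) (Tr.lf (nat_lit 9))
(Tr.lf (nat_lit 9))))
(Tr.nd (nat_lit 86) (Tr.nd (nat_lit 85) (Tr.lf (nat_lit 2))
(Tr.lf (nat_lit 4)))
(Tr.nd (nat_lit 87) (Tr.lf (nat_lit 2))
(Tr.lf (nat_lit 4)))))
(Tr.nd (nat_lit 92) (Tr.nd (nat_lit 90) (Tr.nd (nat_lit 89) (Tr.lf (nat_lit 2))
(Tr.lf (nat_lit 3)))
(Tr.nd (nat_lit 91) (Tr.lf (nat_lit 4))
(Tr.lf (nat_lit 2))))
(Tr.nd (nat_lit 94) (Tr.nd (nat_lit 93) (Tr.lf (nat_lit 3))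
(Tr.lf (nat_lit 6)))
(Tr.nd (nat_lit 95) (Tr.lf (nat_lit 2))
(Tr.lf (nat_lit 3)))))))
(Tr.nd (nat_lit 112) (Tr.nd (nat_lit 104) (Tr.nd (nat_lit 100) (Tr.nd (nat_lit 98) (Tr.nd (nat_lit 97) (Tr.lf (nat_lit 5))
(Tr.lf (nat_lit 2)))
(Tr.nd (nat_lit 99) (Tr.lf (nat_lit 3))
(Tr.lf (nat_lit 7))))
(Tr.nd (nat_lit 102) (Tr.nd (nat_lit 101) (Tr.lf (nat_lit 2))
(Tr.lf (nat_lit 3)))
(Tr.nd (nat_lit 103) (Tr.lf (nat_lit 6))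
(Tr.lf (nat_lit 7)))))
(Tr.nd (nat_lit 108) (Tr.nd (nat_lit 106) (Tr.nd (nat_lit 105) (Tr.lf (nat_lit 2))
(Tr.lf (nat_lit 3)))
(Tr.nd (nat_lit 107) (Tr.lf (nat_lit 6))
(Tr.lf (nat_lit 2))))
(Tr.nd (nat_lit 110) (Tr.nd (nat_lit 109) (Tr.lf (nat_lit 3))
(Tr.lf (nat_lit 6)))
(Tr.nd (nat_lit 111) (Tr.lf (nat_lit 2))
(Tr.lf (nat_lit 3))))))
(Tr.nd (nat_lit 120) (Tr.nd (nat_lit 116) (Tr.nd (nat_lit 114) (Tr.nd (nat_lit 113) (Tr.lf (nat_lit 2))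
(Tr.lf (nat_lit 3)))
(Tr.nd (nat_lit 115) (Tr.lf (nat_lit 7))
(Tr.lf (nat_lit 2))))
(Tr.nd (nat_lit 118) (Tr.nd (nat_lit 117) (Tr.lf (nat_lit 3))
(Tr.lf (nat_lit 4)))
(Tr.nd (nat_lit 119) (Tr.lf (nat_lit 7))
(Tr.lf (nat_lit 2)))))
(Tr.nd (nat_lit 124) (Tr.nd (nat_lit 122) (Tr.nd (nat_lit 121) (Tr.lf (nat_lit 3))
(Tr.lf (nat_lit 7)))
(Tr.nd (nat_lit 123) (Tr.lf (nat_lit 2))
(Tr.lf (nat_lit 7))))
(Tr.nd (nat_lit 126) (Tr.nd (nat_lit 125) (Tr.lf (nat_lit 7))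
(Tr.lf (nat_lit 7)))
(Tr.nd (nat_lit 127) (Tr.lf (nat_lit 6))
(Tr.lf (nat_lit 2)))))))))
(Tr.nd (nat_lit 192) (Tr.nd (nat_lit 160) (Tr.nd (nat_lit 144) (Tr.nd (nat_lit 136) (Tr.nd (nat_lit 132) (Tr.nd (nat_lit 130) (Tr.nd (nat_lit 129) (Tr.lf (nat_lit 7))
(Tr.lf (nat_lit 8)))
(Tr.nd (nat_lit 131) (Tr.lf (nat_lit 6))
(Tr.lf (nat_lit 8))))
(Tr.nd (nat_lit 134) (Tr.nd (nat_lit 133) (Tr.lf (nat_lit 5))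
(Tr.lf (nat_lit 7)))
(Tr.nd (nat_lit 135) (Tr.lf (nat_lit 8))
(Tr.lf (nat_lit 1)))))
(Tr.nd (nat_lit 140) (Tr.nd (nat_lit 138) (Tr.nd (nat_lit 137) (Tr.lf (nat_lit 1))
(Tr.lf (nat_lit 7)))
(Tr.nd (nat_lit 139) (Tr.lf (nat_lit 9))
(Tr.lf (nat_lit 9))))
(Tr.nd (nat_lit 142) (Tr.nd (nat_lit 141) (Tr.lf (nat_lit 1))
(Tr.lf (nat_lit 9)))
(Tr.nd (nat_lit 143) (Tr.lf (nat_lit 1))
(Tr.lf (nat_lit 7))))))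
(Tr.nd (nat_lit 152) (Tr.nd (nat_lit 148) (Tr.nd (nat_lit 146) (Tr.nd (nat_lit 145) (Tr.lf (nat_lit 6))
(Tr.lf (nat_lit 9)))
(Tr.nd (nat_lit 147) (Tr.lf (nat_lit 1))
(Tr.lf (nat_lit 3))))
(Tr.nd (nat_lit 150) (Tr.nd (nat_lit 149) (Tr.lf (nat_lit 7))
(Tr.lf (nat_lit 9)))
(Tr.nd (nat_lit 151) (Tr.lf (nat_lit 1))
(Tr.lf (nat_lit 7)))))
(Tr.nd (nat_lit 156) (Tr.nd (nat_lit 154) (Tr.nd (nat_lit 153) (Tr.lf (nat_lit 9))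
(Tr.lf (nat_lit 7)))
(Tr.nd (nat_lit 155) (Tr.lf (nat_lit 9))
(Tr.lf (nat_lit 7))))
(Tr.nd (nat_lit 158) (Tr.nd (nat_lit 157) (Tr.lf (nat_lit 6))
(Tr.lf (nat_lit 7)))
(Tr.nd (nat_lit 159) (Tr.lf (nat_lit 6))
(Tr.lf (nat_lit 6)))))))
(Tr.nd (nat_lit 176) (Tr.nd (nat_lit 168) (Tr.nd (nat_lit 164) (Tr.nd (nat_lit 162) (Tr.nd (nat_lit 161) (Tr.lf (nat_lit 6))
(Tr.lf (nat_lit 8)))
(Tr.nd (nat_lit 163) (Tr.lf (nat_lit 4))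
(Tr.lf (nat_lit 8))))
(Tr.nd (nat_lit 166) (Tr.nd (nat_lit 165) (Tr.lf (nat_lit 2))
(Tr.lf (nat_lit 4)))
(Tr.nd (nat_lit 167) (Tr.lf (nat_lit 2))
(Tr.lf (nat_lit 4)))))
(Tr.nd (nat_lit 172) (Tr.nd (nat_lit 170) (Tr.nd (nat_lit 169) (Tr.lf (nat_lit 9))
(Tr.lf (nat_lit 2)))
(Tr.nd (nat_lit 171) (Tr.lf (nat_lit 4))
(Tr.lf (nat_lit 9))))
(Tr.nd (nat_lit 174) (Tr.nd (nat_lit 173) (Tr.lf (nat_lit 8))
(Tr.lf (nat_lit 1)))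
(Tr.nd (nat_lit 175) (Tr.lf (nat_lit 4))
(Tr.lf (nat_lit 5))))))
(Tr.nd (nat_lit 184) (Tr.nd (nat_lit 180) (Tr.nd (nat_lit 178) (Tr.nd (nat_lit 177) (Tr.lf (nat_lit 1))
(Tr.lf (nat_lit 4)))
(Tr.nd (nat_lit 179) (Tr.lf (nat_lit 3))
(Tr.lf (nat_lit 5))))
(Tr.nd (nat_lit 182) (Tr.nd (nat_lit 181) (Tr.lf (nat_lit 1))
(Tr.lf (nat_lit 4)))
(Tr.nd (nat_lit 183) (Tr.lf (nat_lit 3))
(Tr.lf (nat_lit 5)))))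
(Tr.nd (nat_lit 188) (Tr.nd (nat_lit 186) (Tr.nd (nat_lit 185) (Tr.lf (nat_lit 1))
(Tr.lf (nat_lit 6)))
(Tr.nd (nat_lit 187) (Tr.lf (nat_lit 7))
(Tr.lf (nat_lit 1))))
(Tr.nd (nat_lit 190) (Tr.nd (nat_lit 189) (Tr.lf (nat_lit 3))
(Tr.lf (nat_lit 5)))
(Tr.nd (nat_lit 191) (Tr.lf (nat_lit 6))
(Tr.lf (nat_lit 8))))))))
(Tr.nd (nat_lit 224) (Tr.nd (nat_lit 208) (Tr.nd (nat_lit 200) (Tr.nd (nat_lit 196) (Tr.nd (nat_lit 194) (Tr.nd (nat_lit 193) (Tr.lf (nat_lit 1))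
(Tr.lf (nat_lit 3)))
(Tr.nd (nat_lit 195) (Tr.lf (nat_lit 1))
(Tr.lf (nat_lit 3))))
(Tr.nd (nat_lit 198) (Tr.nd (nat_lit 197) (Tr.lf (nat_lit 7))
(Tr.lf (nat_lit 6)))
(Tr.nd (nat_lit 199) (Tr.lf (nat_lit 1))
(Tr.lf (nat_lit 3)))))
(Tr.nd (nat_lit 204) (Tr.nd (nat_lit 202) (Tr.nd (nat_lit 201) (Tr.lf (nat_lit 5))
(Tr.lf (nat_lit 7)))
(Tr.nd (nat_lit 203) (Tr.lf (nat_lit 1))
(Tr.lf (nat_lit 3))))
(Tr.nd (nat_lit 206) (Tr.nd (nat_lit 205) (Tr.lf (nat_lit 6))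
(Tr.lf (nat_lit 5)))
(Tr.nd (nat_lit 207) (Tr.lf (nat_lit 7))
(Tr.lf (nat_lit 1))))))
(Tr.nd (nat_lit 216) (Tr.nd (nat_lit 212) (Tr.nd (nat_lit 210) (Tr.nd (nat_lit 209) (Tr.lf (nat_lit 3))
(Tr.lf (nat_lit 1)))
(Tr.nd (nat_lit 211) (Tr.lf (nat_lit 3))
(Tr.lf (nat_lit 7))))
(Tr.nd (nat_lit 214) (Tr.nd (nat_lit 213) (Tr.lf (nat_lit 9))
(Tr.lf (nat_lit 1)))
(Tr.nd (nat_lit 215) (Tr.lf (nat_lit 3))
(Tr.lf (nat_lit 4)))))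
(Tr.nd (nat_lit 220) (Tr.nd (nat_lit 218) (Tr.nd (nat_lit 217) (Tr.lf (nat_lit 7))
(Tr.lf (nat_lit 7)))
(Tr.nd (nat_lit 219) (Tr.lf (nat_lit 9))
(Tr.lf (nat_lit 6))))
(Tr.nd (nat_lit 222) (Tr.nd (nat_lit 221) (Tr.lf (nat_lit 9))
(Tr.lf (nat_lit 1)))
(Tr.nd (nat_lit 223) (Tr.lf (nat_lit 3))
(Tr.lf (nat_lit 7)))))))
(Tr.nd (nat_lit 240) (Tr.nd (nat_lit 232) (Tr.nd (nat_lit 228) (Tr.nd (nat_lit 226) (Tr.nd (nat_lit 225) (Tr.lf (nat_lit 1))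
(Tr.lf (nat_lit 3)))
(Tr.nd (nat_lit 227) (Tr.lf (nat_lit 7))
(Tr.lf (nat_lit 8))))
(Tr.nd (nat_lit 230) (Tr.nd (nat_lit 229) (Tr.lf (nat_lit 8))
(Tr.lf (nat_lit 8)))
(Tr.nd (nat_lit 231) (Tr.lf (nat_lit 6))
(Tr.lf (nat_lit 8)))))
(Tr.nd (nat_lit 236) (Tr.nd (nat_lit 234) (Tr.nd (nat_lit 233) (Tr.lf (nat_lit 5))
(Tr.lf (nat_lit 8)))
(Tr.nd (nat_lit 235) (Tr.lf (nat_lit 5))
(Tr.lf (nat_lit 6))))
(Tr.nd (nat_lit 238) (Tr.nd (nat_lit 237) (Tr.lf (nat_lit 8))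
(Tr.lf (nat_lit 7)))
(Tr.nd (nat_lit 239) (Tr.lf (nat_lit 7))
(Tr.lf (nat_lit 9))))))
(Tr.nd (nat_lit 248) (Tr.nd (nat_lit 244) (Tr.nd (nat_lit 242) (Tr.nd (nat_lit 241) (Tr.lf (nat_lit 6))
(Tr.lf (nat_lit 7)))
(Tr.nd (nat_lit 243) (Tr.lf (nat_lit 9))
(Tr.lf (nat_lit 8))))
(Tr.nd (nat_lit 246) (Tr.nd (nat_lit 245) (Tr.lf (nat_lit 7))
(Tr.lf (nat_lit 6)))
(Tr.nd (nat_lit 247) (Tr.lf (nat_lit 9))
(Tr.lf (nat_lit 8)))))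
(Tr.nd (nat_lit 252) (Tr.nd (nat_lit 250) (Tr.nd (nat_lit 249) (Tr.lf (nat_lit 3))
(Tr.lf (nat_lit 7)))
(Tr.nd (nat_lit 251) (Tr.lf (nat_lit 9))
(Tr.lf (nat_lit 7))))
(Tr.nd (nat_lit 254) (Tr.nd (nat_lit 253) (Tr.lf (nat_lit 9))
(Tr.lf (nat_lit 6)))
(Tr.nd (nat_lit 255) (Tr.lf (nat_lit 8))
(Tr.lf (nat_lit 7))))))))))
(Tr.nd (nat_lit 384) (Tr.nd (nat_lit 320) (Tr.nd (nat_lit 288) (Tr.nd (nat_lit 272) (Tr.nd (nat_lit 264) (Tr.nd (nat_lit 260) (Tr.nd (nat_lit 258) (Tr.nd (nat_lit 257) (Tr.lf (nat_lit 9))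
(Tr.lf (nat_lit 9)))
(Tr.nd (nat_lit 259) (Tr.lf (nat_lit 8))
(Tr.lf (nat_lit 6))))
(Tr.nd (nat_lit 262) (Tr.nd (nat_lit 261) (Tr.lf (nat_lit 9))
(Tr.lf (nat_lit 6)))
(Tr.nd (nat_lit 263) (Tr.lf (nat_lit 9))
(Tr.lf (nat_lit 6)))))
(Tr.nd (nat_lit 268) (Tr.nd (nat_lit 266) (Tr.nd (nat_lit 265) (Tr.lf (nat_lit 5))
(Tr.lf (nat_lit 8)))
(Tr.nd (nat_lit 267) (Tr.lf (nat_lit 9))
(Tr.lf (nat_lit 8))))
(Tr.nd (nat_lit 270) (Tr.nd (nat_lit 269) (Tr.lf (nat_lit 9))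
(Tr.lf (nat_lit 4)))
(Tr.nd (nat_lit 271) (Tr.lf (nat_lit 9))
(Tr.lf (nat_lit 5))))))
(Tr.nd (nat_lit 280) (Tr.nd (nat_lit 276) (Tr.nd (nat_lit 274) (Tr.nd (nat_lit 273) (Tr.lf (nat_lit 9))
(Tr.lf (nat_lit 1)))
(Tr.nd (nat_lit 275) (Tr.lf (nat_lit 4))
(Tr.lf (nat_lit 9))))
(Tr.nd (nat_lit 278) (Tr.nd (nat_lit 277) (Tr.lf (nat_lit 5))
(Tr.lf (nat_lit 8)))
(Tr.nd (nat_lit 279) (Tr.lf (nat_lit 0))
(Tr.lf (nat_lit 4)))))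
(Tr.nd (nat_lit 284) (Tr.nd (nat_lit 282) (Tr.nd (nat_lit 281) (Tr.lf (nat_lit 3))
(Tr.lf (nat_lit 5)))
(Tr.nd (nat_lit 283) (Tr.lf (nat_lit 6))
(Tr.lf (nat_lit 8))))
(Tr.nd (nat_lit 286) (Tr.nd (nat_lit 285) (Tr.lf (nat_lit 0))
(Tr.lf (nat_lit 4)))
(Tr.nd (nat_lit 287) (Tr.lf (nat_lit 5))
(Tr.lf (nat_lit 2)))))))
(Tr.nd (nat_lit 304) (Tr.nd (nat_lit 296) (Tr.nd (nat_lit 292) (Tr.nd (nat_lit 290) (Tr.nd (nat_lit 289) (Tr.lf (nat_lit 5))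
(Tr.lf (nat_lit 6)))
(Tr.nd (nat_lit 291) (Tr.lf (nat_lit 8))
(Tr.lf (nat_lit 0))))
(Tr.nd (nat_lit 294) (Tr.nd (nat_lit 293) (Tr.lf (nat_lit 4))
(Tr.lf (nat_lit 3)))
(Tr.nd (nat_lit 295) (Tr.lf (nat_lit 5))
(Tr.lf (nat_lit 2)))))
(Tr.nd (nat_lit 300) (Tr.nd (nat_lit 298) (Tr.nd (nat_lit 297) (Tr.lf (nat_lit 6))
(Tr.lf (nat_lit 8)))
(Tr.nd (nat_lit 299) (Tr.lf (nat_lit 0))
(Tr.lf (nat_lit 7))))
(Tr.nd (nat_lit 302) (Tr.nd (nat_lit 301) (Tr.lf (nat_lit 0))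
(Tr.lf (nat_lit 5)))
(Tr.nd (nat_lit 303) (Tr.lf (nat_lit 8))
(Tr.lf (nat_lit 8))))))
(Tr.nd (nat_lit 312) (Tr.nd (nat_lit 308) (Tr.nd (nat_lit 306) (Tr.nd (nat_lit 305) (Tr.lf (nat_lit 0))
(Tr.lf (nat_lit 0)))
(Tr.nd (nat_lit 307) (Tr.lf (nat_lit 4))
(Tr.lf (nat_lit 6))))
(Tr.nd (nat_lit 310) (Tr.nd (nat_lit 309) (Tr.lf (nat_lit 6))
(Tr.lf (nat_lit 0)))
(Tr.nd (nat_lit 311) (Tr.lf (nat_lit 3))
(Tr.lf (nat_lit 4)))))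
(Tr.nd (nat_lit 316) (Tr.nd (nat_lit 314) (Tr.nd (nat_lit 313) (Tr.lf (nat_lit 4))
(Tr.lf (nat_lit 7)))
(Tr.nd (nat_lit 315) (Tr.lf (nat_lit 8))
(Tr.lf (nat_lit 0))))
(Tr.nd (nat_lit 318) (Tr.nd (nat_lit 317) (Tr.lf (nat_lit 3))
(Tr.lf (nat_lit 6)))
(Tr.nd (nat_lit 319) (Tr.lf (nat_lit 4))
(Tr.lf (nat_lit 6))))))))
(Tr.nd (nat_lit 352) (Tr.nd (nat_lit 336) (Tr.nd (nat_lit 328) (Tr.nd (nat_lit 324) (Tr.nd (nat_lit 322) (Tr.nd (nat_lit 321) (Tr.lf (nat_lit 5))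
(Tr.lf (nat_lit 7)))
(Tr.nd (nat_lit 323) (Tr.lf (nat_lit 4))
(Tr.lf (nat_lit 7))))
(Tr.nd (nat_lit 326) (Tr.nd (nat_lit 325) (Tr.lf (nat_lit 3))
(Tr.lf (nat_lit 4)))
(Tr.nd (nat_lit 327) (Tr.lf (nat_lit 3))
(Tr.lf (nat_lit 7)))))
(Tr.nd (nat_lit 332) (Tr.nd (nat_lit 330) (Tr.nd (nat_lit 329) (Tr.lf (nat_lit 4))
(Tr.lf (nat_lit 7)))
(Tr.nd (nat_lit 331) (Tr.lf (nat_lit 9))
(Tr.lf (nat_lit 3))))
(Tr.nd (nat_lit 334) (Tr.nd (nat_lit 333) (Tr.lf (nat_lit 4))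
(Tr.lf (nat_lit 7)))
(Tr.nd (nat_lit 335) (Tr.lf (nat_lit 9))
(Tr.lf (nat_lit 4))))))
(Tr.nd (nat_lit 344) (Tr.nd (nat_lit 340) (Tr.nd (nat_lit 338) (Tr.nd (nat_lit 337) (Tr.lf (nat_lit 7))
(Tr.lf (nat_lit 3)))
(Tr.nd (nat_lit 339) (Tr.lf (nat_lit 7))
(Tr.lf (nat_lit 6))))
(Tr.nd (nat_lit 342) (Tr.nd (nat_lit 341) (Tr.lf (nat_lit 9))
(Tr.lf (nat_lit 6)))
(Tr.nd (nat_lit 343) (Tr.lf (nat_lit 9))
(Tr.lf (nat_lit 5)))))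
(Tr.nd (nat_lit 348) (Tr.nd (nat_lit 346) (Tr.nd (nat_lit 345) (Tr.lf (nat_lit 9))
(Tr.lf (nat_lit 0)))
(Tr.nd (nat_lit 347) (Tr.lf (nat_lit 3))
(Tr.lf (nat_lit 7))))
(Tr.nd (nat_lit 350) (Tr.nd (nat_lit 349) (Tr.lf (nat_lit 7))
(Tr.lf (nat_lit 6)))
(Tr.nd (nat_lit 351) (Tr.lf (nat_lit 0))
(Tr.lf (nat_lit 7)))))))
(Tr.nd (nat_lit 368) (Tr.nd (nat_lit 360) (Tr.nd (nat_lit 356) (Tr.nd (nat_lit 354) (Tr.nd (nat_lit 353) (Tr.lf (nat_lit 7))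
(Tr.lf (nat_lit 9)))
(Tr.nd (nat_lit 355) (Tr.lf (nat_lit 5))
(Tr.lf (nat_lit 5))))
(Tr.nd (nat_lit 358) (Tr.nd (nat_lit 357) (Tr.lf (nat_lit 5))
(Tr.lf (nat_lit 6)))
(Tr.nd (nat_lit 359) (Tr.lf (nat_lit 8))
(Tr.lf (nat_lit 9)))))
(Tr.nd (nat_lit 364) (Tr.nd (nat_lit 362) (Tr.nd (nat_lit 361) (Tr.lf (nat_lit 6))
(Tr.lf (nat_lit 6)))
(Tr.nd (nat_lit 363) (Tr.lf (nat_lit 5))
(Tr.lf (nat_lit 6))))
(Tr.nd (nat_lit 366) (Tr.nd (nat_lit 365) (Tr.lf (nat_lit 8))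
(Tr.lf (nat_lit 6)))
(Tr.nd (nat_lit 367) (Tr.lf (nat_lit 9))
(Tr.lf (nat_lit 5))))))
(Tr.nd (nat_lit 376) (Tr.nd (nat_lit 372) (Tr.nd (nat_lit 370) (Tr.nd (nat_lit 369) (Tr.lf (nat_lit 9))
(Tr.lf (nat_lit 8)))
(Tr.nd (nat_lit 371) (Tr.lf (nat_lit 2))
(Tr.lf (nat_lit 7))))
(Tr.nd (nat_lit 374) (Tr.nd (nat_lit 373) (Tr.lf (nat_lit 9))
(Tr.lf (nat_lit 6)))
(Tr.nd (nat_lit 375) (Tr.lf (nat_lit 8))
(Tr.lf (nat_lit 6)))))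
(Tr.nd (nat_lit 380) (Tr.nd (nat_lit 378) (Tr.nd (nat_lit 377) (Tr.lf (nat_lit 9))
(Tr.lf (nat_lit 8)))
(Tr.nd (nat_lit 379) (Tr.lf (nat_lit 5))
(Tr.lf (nat_lit 6))))
(Tr.nd (nat_lit 382) (Tr.nd (nat_lit 381) (Tr.lf (nat_lit 9))
(Tr.lf (nat_lit 8)))
(Tr.nd (nat_lit 383) (Tr.lf (nat_lit 8))
(Tr.lf (nat_lit 9)))))))))
(Tr.nd (nat_lit 448) (Tr.nd (nat_lit 416) (Tr.nd (nat_lit 400) (Tr.nd (nat_lit 392) (Tr.nd (nat_lit 388) (Tr.nd (nat_lit 386) (Tr.nd (nat_lit 385) (Tr.lf (nat_lit 9))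
(Tr.lf (nat_lit 8)))
(Tr.nd (nat_lit 387) (Tr.lf (nat_lit 5))
(Tr.lf (nat_lit 4))))
(Tr.nd (nat_lit 390) (Tr.nd (nat_lit 389) (Tr.lf (nat_lit 5))
(Tr.lf (nat_lit 5)))
(Tr.nd (nat_lit 391) (Tr.lf (nat_lit 5))
(Tr.lf (nat_lit 9)))))
(Tr.nd (nat_lit 396) (Tr.nd (nat_lit 394) (Tr.nd (nat_lit 393) (Tr.lf (nat_lit 6))
(Tr.lf (nat_lit 9)))
(Tr.nd (nat_lit 395) (Tr.lf (nat_lit 4))
(Tr.lf (nat_lit 9))))
(Tr.nd (nat_lit 398) (Tr.nd (nat_lit 397) (Tr.lf (nat_lit 3))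
(Tr.lf (nat_lit 5)))
(Tr.nd (nat_lit 399) (Tr.lf (nat_lit 8))
(Tr.lf (nat_lit 6))))))
(Tr.nd (nat_lit 408) (Tr.nd (nat_lit 404) (Tr.nd (nat_lit 402) (Tr.nd (nat_lit 401) (Tr.lf (nat_lit 4))
(Tr.lf (nat_lit 3)))
(Tr.nd (nat_lit 403) (Tr.lf (nat_lit 5))
(Tr.lf (nat_lit 7))))
(Tr.nd (nat_lit 406) (Tr.nd (nat_lit 405) (Tr.lf (nat_lit 8))
(Tr.lf (nat_lit 4)))
(Tr.nd (nat_lit 407) (Tr.lf (nat_lit 3))
(Tr.lf (nat_lit 5)))))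
(Tr.nd (nat_lit 412) (Tr.nd (nat_lit 410) (Tr.nd (nat_lit 409) (Tr.lf (nat_lit 6))
(Tr.lf (nat_lit 8)))
(Tr.nd (nat_lit 411) (Tr.lf (nat_lit 1))
(Tr.lf (nat_lit 6))))
(Tr.nd (nat_lit 414) (Tr.nd (nat_lit 413) (Tr.lf (nat_lit 7))
(Tr.lf (nat_lit 8)))
(Tr.nd (nat_lit 415) (Tr.lf (nat_lit 4))
(Tr.lf (nat_lit 3)))))))
(Tr.nd (nat_lit 432) (Tr.nd (nat_lit 424) (Tr.nd (nat_lit 420) (Tr.nd (nat_lit 418) (Tr.nd (nat_lit 417) (Tr.lf (nat_lit 5))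
(Tr.lf (nat_lit 2)))
(Tr.nd (nat_lit 419) (Tr.lf (nat_lit 5))
(Tr.lf (nat_lit 8))))
(Tr.nd (nat_lit 422) (Tr.nd (nat_lit 421) (Tr.lf (nat_lit 1))
(Tr.lf (nat_lit 8)))
(Tr.nd (nat_lit 423) (Tr.lf (nat_lit 3))
(Tr.lf (nat_lit 5)))))
(Tr.nd (nat_lit 428) (Tr.nd (nat_lit 426) (Tr.nd (nat_lit 425) (Tr.lf (nat_lit 4))
(Tr.lf (nat_lit 6)))
(Tr.nd (nat_lit 427) (Tr.lf (nat_lit 8))
(Tr.lf (nat_lit 3))))
(Tr.nd (nat_lit 430) (Tr.nd (nat_lit 429) (Tr.lf (nat_lit 3))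
(Tr.lf (nat_lit 6)))
(Tr.nd (nat_lit 431) (Tr.lf (nat_lit 3))
(Tr.lf (nat_lit 4))))))
(Tr.nd (nat_lit 440) (Tr.nd (nat_lit 436) (Tr.nd (nat_lit 434) (Tr.nd (nat_lit 433) (Tr.lf (nat_lit 5))
(Tr.lf (nat_lit 6)))
(Tr.nd (nat_lit 435) (Tr.lf (nat_lit 7))
(Tr.lf (nat_lit 8))))
(Tr.nd (nat_lit 438) (Tr.nd (nat_lit 437) (Tr.lf (nat_lit 6))
(Tr.lf (nat_lit 8)))
(Tr.nd (nat_lit 439) (Tr.lf (nat_lit 3))
(Tr.lf (nat_lit 2)))))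
(Tr.nd (nat_lit 444) (Tr.nd (nat_lit 442) (Tr.nd (nat_lit 441) (Tr.lf (nat_lit 4))
(Tr.lf (nat_lit 5)))
(Tr.nd (nat_lit 443) (Tr.lf (nat_lit 7))
(Tr.lf (nat_lit 5))))
(Tr.nd (nat_lit 446) (Tr.nd (nat_lit 445) (Tr.lf (nat_lit 6))
(Tr.lf (nat_lit 5)))
(Tr.nd (nat_lit 447) (Tr.lf (nat_lit 7))
(Tr.lf (nat_lit 4))))))))
(Tr.nd (nat_lit 480) (Tr.nd (nat_lit 464) (Tr.nd (nat_lit 456) (Tr.nd (nat_lit 452) (Tr.nd (nat_lit 450) (Tr.nd (nat_lit 449) (Tr.lf (nat_lit 7))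
(Tr.lf (nat_lit 8)))
(Tr.nd (nat_lit 451) (Tr.lf (nat_lit 3))
(Tr.lf (nat_lit 7))))
(Tr.nd (nat_lit 454) (Tr.nd (nat_lit 453) (Tr.lf (nat_lit 8))
(Tr.lf (nat_lit 2)))
(Tr.nd (nat_lit 455) (Tr.lf (nat_lit 4))
(Tr.lf (nat_lit 5)))))
(Tr.nd (nat_lit 460) (Tr.nd (nat_lit 458) (Tr.nd (nat_lit 457) (Tr.lf (nat_lit 2))
(Tr.lf (nat_lit 4)))
(Tr.nd (nat_lit 459) (Tr.lf (nat_lit 5))
(Tr.lf (nat_lit 7))))
(Tr.nd (nat_lit 462) (Tr.nd (nat_lit 461) (Tr.lf (nat_lit 9))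
(Tr.lf (nat_lit 9)))
(Tr.nd (nat_lit 463) (Tr.lf (nat_lit 2))
(Tr.lf (nat_lit 4))))))
(Tr.nd (nat_lit 472) (Tr.nd (nat_lit 468) (Tr.nd (nat_lit 466) (Tr.nd (nat_lit 465) (Tr.lf (nat_lit 7))
(Tr.lf (nat_lit 9)))
(Tr.nd (nat_lit 467) (Tr.lf (nat_lit 3))
(Tr.lf (nat_lit 9))))
(Tr.nd (nat_lit 470) (Tr.nd (nat_lit 469) (Tr.lf (nat_lit 6))
(Tr.lf (nat_lit 3)))
(Tr.nd (nat_lit 471) (Tr.lf (nat_lit 5))
(Tr.lf (nat_lit 7)))))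
(Tr.nd (nat_lit 476) (Tr.nd (nat_lit 474) (Tr.nd (nat_lit 473) (Tr.lf (nat_lit 6))
(Tr.lf (nat_lit 9)))
(Tr.nd (nat_lit 475) (Tr.lf (nat_lit 7))
(Tr.lf (nat_lit 6))))
(Tr.nd (nat_lit 478) (Tr.nd (nat_lit 477) (Tr.lf (nat_lit 9))
(Tr.lf (nat_lit 5)))
(Tr.nd (nat_lit 479) (Tr.lf (nat_lit 5))
(Tr.lf (nat_lit 9)))))))
(Tr.nd (nat_lit 496) (Tr.nd (nat_lit 488) (Tr.nd (nat_lit 484) (Tr.nd (nat_lit 482) (Tr.nd (nat_lit 481) (Tr.lf (nat_lit 4))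
(Tr.lf (nat_lit 3)))
(Tr.nd (nat_lit 483) (Tr.lf (nat_lit 7))
(Tr.lf (nat_lit 2))))
(Tr.nd (nat_lit 486) (Tr.nd (nat_lit 485) (Tr.lf (nat_lit 7))
(Tr.lf (nat_lit 6)))
(Tr.nd (nat_lit 487) (Tr.lf (nat_lit 6))
(Tr.lf (nat_lit 5)))))
(Tr.nd (nat_lit 492) (Tr.nd (nat_lit 490) (Tr.nd (nat_lit 489) (Tr.lf (nat_lit 7))
(Tr.lf (nat_lit 6)))
(Tr.nd (nat_lit 491) (Tr.lf (nat_lit 6))
(Tr.lf (nat_lit 4))))
(Tr.nd (nat_lit 494) (Tr.nd (nat_lit 493) (Tr.lf (nat_lit 6))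
(Tr.lf (nat_lit 5)))
(Tr.nd (nat_lit 495) (Tr.lf (nat_lit 9))
(Tr.lf (nat_lit 5))))))
(Tr.nd (nat_lit 504) (Tr.nd (nat_lit 500) (Tr.nd (nat_lit 498) (Tr.nd (nat_lit 497) (Tr.lf (nat_lit 5))
(Tr.lf (nat_lit 4)))
(Tr.nd (nat_lit 499) (Tr.lf (nat_lit 5))
(Tr.lf (nat_lit 5))))
(Tr.nd (nat_lit 502) (Tr.nd (nat_lit 501) (Tr.lf (nat_lit 9))
(Tr.lf (nat_lit 8)))
(Tr.nd (nat_lit 503) (Tr.lf (nat_lit 5))
(Tr.lf (nat_lit 7)))))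
(Tr.nd (nat_lit 508) (Tr.nd (nat_lit 506) (Tr.nd (nat_lit 505) (Tr.lf (nat_lit 9))
(Tr.lf (nat_lit 6)))
(Tr.nd (nat_lit 507) (Tr.lf (nat_lit 8))
(Tr.lf (nat_lit 5))))
(Tr.nd (nat_lit 510) (Tr.nd (nat_lit 509) (Tr.lf (nat_lit 5))
(Tr.lf (nat_lit 9)))
(Tr.nd (nat_lit 511) (Tr.lf (nat_lit 9))
(Tr.lf (nat_lit 5)))))))))))
(Tr.nd (nat_lit 768) (Tr.nd (nat_lit 640) (Tr.nd (nat_lit 576) (Tr.nd (nat_lit 544) (Tr.nd (nat_lit 528) (Tr.nd (nat_lit 520) (Tr.nd (nat_lit 516) (Tr.nd (nat_lit 514) (Tr.nd (nat_lit 513) (Tr.lf (nat_lit 8))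
(Tr.lf (nat_lit 8)))
(Tr.nd (nat_lit 515) (Tr.lf (nat_lit 4))
(Tr.lf (nat_lit 3))))
(Tr.nd (nat_lit 518) (Tr.nd (nat_lit 517) (Tr.lf (nat_lit 4))
(Tr.lf (nat_lit 6)))
(Tr.nd (nat_lit 519) (Tr.lf (nat_lit 6))
(Tr.lf (nat_lit 7)))))
(Tr.nd (nat_lit 524) (Tr.nd (nat_lit 522) (Tr.nd (nat_lit 521) (Tr.lf (nat_lit 9))
(Tr.lf (nat_lit 8)))
(Tr.nd (nat_lit 523) (Tr.lf (nat_lit 3))
(Tr.lf (nat_lit 8))))
(Tr.nd (nat_lit 526) (Tr.nd (nat_lit 525) (Tr.lf (nat_lit 5))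
(Tr.lf (nat_lit 6)))
(Tr.nd (nat_lit 527) (Tr.lf (nat_lit 8))
(Tr.lf (nat_lit 7))))))
(Tr.nd (nat_lit 536) (Tr.nd (nat_lit 532) (Tr.nd (nat_lit 530) (Tr.nd (nat_lit 529) (Tr.lf (nat_lit 3))
(Tr.lf (nat_lit 2)))
(Tr.nd (nat_lit 531) (Tr.lf (nat_lit 5))
(Tr.lf (nat_lit 4))))
(Tr.nd (nat_lit 534) (Tr.nd (nat_lit 533) (Tr.lf (nat_lit 6))
(Tr.lf (nat_lit 8)))
(Tr.nd (nat_lit 535) (Tr.lf (nat_lit 8))
(Tr.lf (nat_lit 5)))))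
(Tr.nd (nat_lit 540) (Tr.nd (nat_lit 538) (Tr.nd (nat_lit 537) (Tr.lf (nat_lit 9))
(Tr.lf (nat_lit 3)))
(Tr.nd (nat_lit 539) (Tr.lf (nat_lit 5))
(Tr.lf (nat_lit 2))))
(Tr.nd (nat_lit 542) (Tr.nd (nat_lit 541) (Tr.lf (nat_lit 6))
(Tr.lf (nat_lit 8)))
(Tr.nd (nat_lit 543) (Tr.lf (nat_lit 7))
(Tr.lf (nat_lit 8)))))))
(Tr.nd (nat_lit 560) (Tr.nd (nat_lit 552) (Tr.nd (nat_lit 548) (Tr.nd (nat_lit 546) (Tr.nd (nat_lit 545) (Tr.lf (nat_lit 7))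
(Tr.lf (nat_lit 5)))
(Tr.nd (nat_lit 547) (Tr.lf (nat_lit 9))
(Tr.lf (nat_lit 3))))
(Tr.nd (nat_lit 550) (Tr.nd (nat_lit 549) (Tr.lf (nat_lit 5))
(Tr.lf (nat_lit 2)))
(Tr.nd (nat_lit 551) (Tr.lf (nat_lit 8))
(Tr.lf (nat_lit 1)))))
(Tr.nd (nat_lit 556) (Tr.nd (nat_lit 554) (Tr.nd (nat_lit 553) (Tr.lf (nat_lit 5))
(Tr.lf (nat_lit 4)))
(Tr.nd (nat_lit 555) (Tr.lf (nat_lit 5))
(Tr.lf (nat_lit 5))))
(Tr.nd (nat_lit 558) (Tr.nd (nat_lit 557) (Tr.lf (nat_lit 2))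
(Tr.lf (nat_lit 5)))
(Tr.nd (nat_lit 559) (Tr.lf (nat_lit 6))
(Tr.lf (nat_lit 2))))))
(Tr.nd (nat_lit 568) (Tr.nd (nat_lit 564) (Tr.nd (nat_lit 562) (Tr.nd (nat_lit 561) (Tr.lf (nat_lit 2))
(Tr.lf (nat_lit 5)))
(Tr.nd (nat_lit 563) (Tr.lf (nat_lit 7))
(Tr.lf (nat_lit 2))))
(Tr.nd (nat_lit 566) (Tr.nd (nat_lit 565) (Tr.lf (nat_lit 5))
(Tr.lf (nat_lit 6)))
(Tr.nd (nat_lit 567) (Tr.lf (nat_lit 7))
(Tr.lf (nat_lit 7)))))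
(Tr.nd (nat_lit 572) (Tr.nd (nat_lit 570) (Tr.nd (nat_lit 569) (Tr.lf (nat_lit 5))
(Tr.lf (nat_lit 9)))
(Tr.nd (nat_lit 571) (Tr.lf (nat_lit 8))
(Tr.lf (nat_lit 2))))
(Tr.nd (nat_lit 574) (Tr.nd (nat_lit 573) (Tr.lf (nat_lit 4))
(Tr.lf (nat_lit 5)))
(Tr.nd (nat_lit 575) (Tr.lf (nat_lit 7))
(Tr.lf (nat_lit 6))))))))
(Tr.nd (nat_lit 608) (Tr.nd (nat_lit 592) (Tr.nd (nat_lit 584) (Tr.nd (nat_lit 580) (Tr.nd (nat_lit 578) (Tr.nd (nat_lit 577) (Tr.lf (nat_lit 5))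
(Tr.lf (nat_lit 7)))
(Tr.nd (nat_lit 579) (Tr.lf (nat_lit 4))
(Tr.lf (nat_lit 7))))
(Tr.nd (nat_lit 582) (Tr.nd (nat_lit 581) (Tr.lf (nat_lit 3))
(Tr.lf (nat_lit 7)))
(Tr.nd (nat_lit 583) (Tr.lf (nat_lit 8))
(Tr.lf (nat_lit 8)))))
(Tr.nd (nat_lit 588) (Tr.nd (nat_lit 586) (Tr.nd (nat_lit 585) (Tr.lf (nat_lit 2))
(Tr.lf (nat_lit 8)))
(Tr.nd (nat_lit 587) (Tr.lf (nat_lit 8))
(Tr.lf (nat_lit 5))))
(Tr.nd (nat_lit 590) (Tr.nd (nat_lit 589) (Tr.lf (nat_lit 9))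
(Tr.lf (nat_lit 4)))
(Tr.nd (nat_lit 591) (Tr.lf (nat_lit 6))
(Tr.lf (nat_lit 4))))))
(Tr.nd (nat_lit 600) (Tr.nd (nat_lit 596) (Tr.nd (nat_lit 594) (Tr.nd (nat_lit 593) (Tr.lf (nat_lit 7))
(Tr.lf (nat_lit 6)))
(Tr.nd (nat_lit 595) (Tr.lf (nat_lit 7))
(Tr.lf (nat_lit 9))))
(Tr.nd (nat_lit 598) (Tr.nd (nat_lit 597) (Tr.lf (nat_lit 9))
(Tr.lf (nat_lit 7)))
(Tr.nd (nat_lit 599) (Tr.lf (nat_lit 3))
(Tr.lf (nat_lit 7)))))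
(Tr.nd (nat_lit 604) (Tr.nd (nat_lit 602) (Tr.nd (nat_lit 601) (Tr.lf (nat_lit 9))
(Tr.lf (nat_lit 9)))
(Tr.nd (nat_lit 603) (Tr.lf (nat_lit 9))
(Tr.lf (nat_lit 5))))
(Tr.nd (nat_lit 606) (Tr.nd (nat_lit 605) (Tr.lf (nat_lit 7))
(Tr.lf (nat_lit 7)))
(Tr.nd (nat_lit 607) (Tr.lf (nat_lit 9))
(Tr.lf (nat_lit 5)))))))
(Tr.nd (nat_lit 624) (Tr.nd (nat_lit 616) (Tr.nd (nat_lit 612) (Tr.nd (nat_lit 610) (Tr.nd (nat_lit 609) (Tr.lf (nat_lit 6))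
(Tr.lf (nat_lit 9)))
(Tr.nd (nat_lit 611) (Tr.lf (nat_lit 5))
(Tr.lf (nat_lit 9))))
(Tr.nd (nat_lit 614) (Tr.nd (nat_lit 613) (Tr.lf (nat_lit 4))
(Tr.lf (nat_lit 8)))
(Tr.nd (nat_lit 615) (Tr.lf (nat_lit 4))
(Tr.lf (nat_lit 8)))))
(Tr.nd (nat_lit 620) (Tr.nd (nat_lit 618) (Tr.nd (nat_lit 617) (Tr.lf (nat_lit 8))
(Tr.lf (nat_lit 2)))
(Tr.nd (nat_lit 619) (Tr.lf (nat_lit 7))
(Tr.lf (nat_lit 6))))
(Tr.nd (nat_lit 622) (Tr.nd (nat_lit 621) (Tr.lf (nat_lit 7))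
(Tr.lf (nat_lit 6)))
(Tr.nd (nat_lit 623) (Tr.lf (nat_lit 5))
(Tr.lf (nat_lit 5))))))
(Tr.nd (nat_lit 632) (Tr.nd (nat_lit 628) (Tr.nd (nat_lit 626) (Tr.nd (nat_lit 625) (Tr.lf (nat_lit 4))
(Tr.lf (nat_lit 8)))
(Tr.nd (nat_lit 627) (Tr.lf (nat_lit 6))
(Tr.lf (nat_lit 5))))
(Tr.nd (nat_lit 630) (Tr.nd (nat_lit 629) (Tr.lf (nat_lit 3))
(Tr.lf (nat_lit 6)))
(Tr.nd (nat_lit 631) (Tr.lf (nat_lit 4))
(Tr.lf (nat_lit 4)))))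
(Tr.nd (nat_lit 636) (Tr.nd (nat_lit 634) (Tr.nd (nat_lit 633) (Tr.lf (nat_lit 8))
(Tr.lf (nat_lit 4)))
(Tr.nd (nat_lit 635) (Tr.lf (nat_lit 8))
(Tr.lf (nat_lit 3))))
(Tr.nd (nat_lit 638) (Tr.nd (nat_lit 637) (Tr.lf (nat_lit 4))
(Tr.lf (nat_lit 4)))
(Tr.nd (nat_lit 639) (Tr.lf (nat_lit 8))
(Tr.lf (nat_lit 8)))))))))
(Tr.nd (nat_lit 704) (Tr.nd (nat_lit 672) (Tr.nd (nat_lit 656) (Tr.nd (nat_lit 648) (Tr.nd (nat_lit 644) (Tr.nd (nat_lit 642) (Tr.nd (nat_lit 641) (Tr.lf (nat_lit 5))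
(Tr.lf (nat_lit 6)))
(Tr.nd (nat_lit 643) (Tr.lf (nat_lit 9))
(Tr.lf (nat_lit 8))))
(Tr.nd (nat_lit 646) (Tr.nd (nat_lit 645) (Tr.lf (nat_lit 5))
(Tr.lf (nat_lit 4)))
(Tr.nd (nat_lit 647) (Tr.lf (nat_lit 9))
(Tr.lf (nat_lit 8)))))
(Tr.nd (nat_lit 652) (Tr.nd (nat_lit 650) (Tr.nd (nat_lit 649) (Tr.lf (nat_lit 4))
(Tr.lf (nat_lit 3)))
(Tr.nd (nat_lit 651) (Tr.lf (nat_lit 2))
(Tr.lf (nat_lit 3))))
(Tr.nd (nat_lit 654) (Tr.nd (nat_lit 653) (Tr.lf (nat_lit 8))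
(Tr.lf (nat_lit 9)))
(Tr.nd (nat_lit 655) (Tr.lf (nat_lit 8))
(Tr.lf (nat_lit 2))))))
(Tr.nd (nat_lit 664) (Tr.nd (nat_lit 660) (Tr.nd (nat_lit 658) (Tr.nd (nat_lit 657) (Tr.lf (nat_lit 4))
(Tr.lf (nat_lit 6)))
(Tr.nd (nat_lit 659) (Tr.lf (nat_lit 7))
(Tr.lf (nat_lit 8))))
(Tr.nd (nat_lit 662) (Tr.nd (nat_lit 661) (Tr.lf (nat_lit 8))
(Tr.lf (nat_lit 2)))
(Tr.nd (nat_lit 663) (Tr.lf (nat_lit 5))
(Tr.lf (nat_lit 4)))))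
(Tr.nd (nat_lit 668) (Tr.nd (nat_lit 666) (Tr.nd (nat_lit 665) (Tr.lf (nat_lit 6))
(Tr.lf (nat_lit 8)))
(Tr.nd (nat_lit 667) (Tr.lf (nat_lit 7))
(Tr.lf (nat_lit 8))))
(Tr.nd (nat_lit 670) (Tr.nd (nat_lit 669) (Tr.lf (nat_lit 5))
(Tr.lf (nat_lit 4)))
(Tr.nd (nat_lit 671) (Tr.lf (nat_lit 9))
(Tr.lf (nat_lit 2)))))))
(Tr.nd (nat_lit 688) (Tr.nd (nat_lit 680) (Tr.nd (nat_lit 676) (Tr.nd (nat_lit 674) (Tr.nd (nat_lit 673) (Tr.lf (nat_lit 5))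
(Tr.lf (nat_lit 6)))
(Tr.nd (nat_lit 675) (Tr.lf (nat_lit 1))
(Tr.lf (nat_lit 7))))
(Tr.nd (nat_lit 678) (Tr.nd (nat_lit 677) (Tr.lf (nat_lit 8))
(Tr.lf (nat_lit 8)))
(Tr.nd (nat_lit 679) (Tr.lf (nat_lit 4))
(Tr.lf (nat_lit 9)))))
(Tr.nd (nat_lit 684) (Tr.nd (nat_lit 682) (Tr.nd (nat_lit 681) (Tr.lf (nat_lit 2))
(Tr.lf (nat_lit 5)))
(Tr.nd (nat_lit 683) (Tr.lf (nat_lit 1))
(Tr.lf (nat_lit 5))))
(Tr.nd (nat_lit 686) (Tr.nd (nat_lit 685) (Tr.lf (nat_lit 4))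
(Tr.lf (nat_lit 6)))
(Tr.nd (nat_lit 687) (Tr.lf (nat_lit 1))
(Tr.lf (nat_lit 5))))))
(Tr.nd (nat_lit 696) (Tr.nd (nat_lit 692) (Tr.nd (nat_lit 690) (Tr.nd (nat_lit 689) (Tr.lf (nat_lit 4))
(Tr.lf (nat_lit 5)))
(Tr.nd (nat_lit 691) (Tr.lf (nat_lit 1))
(Tr.lf (nat_lit 1))))
(Tr.nd (nat_lit 694) (Tr.nd (nat_lit 693) (Tr.lf (nat_lit 7))
(Tr.lf (nat_lit 1)))
(Tr.nd (nat_lit 695) (Tr.lf (nat_lit 6))
(Tr.lf (nat_lit 7)))))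
(Tr.nd (nat_lit 700) (Tr.nd (nat_lit 698) (Tr.nd (nat_lit 697) (Tr.lf (nat_lit 6))
(Tr.lf (nat_lit 9)))
(Tr.nd (nat_lit 699) (Tr.lf (nat_lit 1))
(Tr.lf (nat_lit 4))))
(Tr.nd (nat_lit 702) (Tr.nd (nat_lit 701) (Tr.lf (nat_lit 3))
(Tr.lf (nat_lit 5)))
(Tr.nd (nat_lit 703) (Tr.lf (nat_lit 6))
(Tr.lf (nat_lit 8))))))))
(Tr.nd (nat_lit 736) (Tr.nd (nat_lit 720) (Tr.nd (nat_lit 712) (Tr.nd (nat_lit 708) (Tr.nd (nat_lit 706) (Tr.nd (nat_lit 705) (Tr.lf (nat_lit 5))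
(Tr.lf (nat_lit 7)))
(Tr.nd (nat_lit 707) (Tr.lf (nat_lit 8))
(Tr.lf (nat_lit 4))))
(Tr.nd (nat_lit 710) (Tr.nd (nat_lit 709) (Tr.lf (nat_lit 3))
(Tr.lf (nat_lit 7)))
(Tr.nd (nat_lit 711) (Tr.lf (nat_lit 2))
(Tr.lf (nat_lit 8)))))
(Tr.nd (nat_lit 716) (Tr.nd (nat_lit 714) (Tr.nd (nat_lit 713) (Tr.lf (nat_lit 5))
(Tr.lf (nat_lit 8)))
(Tr.nd (nat_lit 715) (Tr.lf (nat_lit 5))
(Tr.lf (nat_lit 5))))
(Tr.nd (nat_lit 718) (Tr.nd (nat_lit 717) (Tr.lf (nat_lit 9))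
(Tr.lf (nat_lit 6)))
(Tr.nd (nat_lit 719) (Tr.lf (nat_lit 9))
(Tr.lf (nat_lit 3))))))
(Tr.nd (nat_lit 728) (Tr.nd (nat_lit 724) (Tr.nd (nat_lit 722) (Tr.nd (nat_lit 721) (Tr.lf (nat_lit 5))
(Tr.lf (nat_lit 7)))
(Tr.nd (nat_lit 723) (Tr.lf (nat_lit 3))
(Tr.lf (nat_lit 7))))
(Tr.nd (nat_lit 726) (Tr.nd (nat_lit 725) (Tr.lf (nat_lit 9))
(Tr.lf (nat_lit 9)))
(Tr.nd (nat_lit 727) (Tr.lf (nat_lit 6))
(Tr.lf (nat_lit 9)))))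
(Tr.nd (nat_lit 732) (Tr.nd (nat_lit 730) (Tr.nd (nat_lit 729) (Tr.lf (nat_lit 9))
(Tr.lf (nat_lit 8)))
(Tr.nd (nat_lit 731) (Tr.lf (nat_lit 9))
(Tr.lf (nat_lit 9))))
(Tr.nd (nat_lit 734) (Tr.nd (nat_lit 733) (Tr.lf (nat_lit 4))
(Tr.lf (nat_lit 8)))
(Tr.nd (nat_lit 735) (Tr.lf (nat_lit 5))
(Tr.lf (nat_lit 9)))))))
(Tr.nd (nat_lit 752) (Tr.nd (nat_lit 744) (Tr.nd (nat_lit 740) (Tr.nd (nat_lit 738) (Tr.nd (nat_lit 737) (Tr.lf (nat_lit 4))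
(Tr.lf (nat_lit 8)))
(Tr.nd (nat_lit 739) (Tr.lf (nat_lit 8))
(Tr.lf (nat_lit 5))))
(Tr.nd (nat_lit 742) (Tr.nd (nat_lit 741) (Tr.lf (nat_lit 9))
(Tr.lf (nat_lit 7)))
(Tr.nd (nat_lit 743) (Tr.lf (nat_lit 6))
(Tr.lf (nat_lit 6)))))
(Tr.nd (nat_lit 748) (Tr.nd (nat_lit 746) (Tr.nd (nat_lit 745) (Tr.lf (nat_lit 4))
(Tr.lf (nat_lit 8)))
(Tr.nd (nat_lit 747) (Tr.lf (nat_lit 8))
(Tr.lf (nat_lit 8))))
(Tr.nd (nat_lit 750) (Tr.nd (nat_lit 749) (Tr.lf (nat_lit 4))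
(Tr.lf (nat_lit 2)))
(Tr.nd (nat_lit 751) (Tr.lf (nat_lit 6))
(Tr.lf (nat_lit 3))))))
(Tr.nd (nat_lit 760) (Tr.nd (nat_lit 756) (Tr.nd (nat_lit 754) (Tr.nd (nat_lit 753) (Tr.lf (nat_lit 8))
(Tr.lf (nat_lit 3)))
(Tr.nd (nat_lit 755) (Tr.lf (nat_lit 8))
(Tr.lf (nat_lit 2))))
(Tr.nd (nat_lit 758) (Tr.nd (nat_lit 757) (Tr.lf (nat_lit 3))
(Tr.lf (nat_lit 8)))
(Tr.nd (nat_lit 759) (Tr.lf (nat_lit 3))
(Tr.lf (nat_lit 5)))))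
(Tr.nd (nat_lit 764) (Tr.nd (nat_lit 762) (Tr.nd (nat_lit 761) (Tr.lf (nat_lit 6))
(Tr.lf (nat_lit 9)))
(Tr.nd (nat_lit 763) (Tr.lf (nat_lit 9))
(Tr.lf (nat_lit 3))))
(Tr.nd (nat_lit 766) (Tr.nd (nat_lit 765) (Tr.lf (nat_lit 9))
(Tr.lf (nat_lit 8)))
(Tr.nd (nat_lit 767) (Tr.lf (nat_lit 5))
(Tr.lf (nat_lit 3))))))))))
(Tr.nd (nat_lit 896) (Tr.nd (nat_lit 832) (Tr.nd (nat_lit 800) (Tr.nd (nat_lit 784) (Tr.nd (nat_lit 776) (Tr.nd (nat_lit 772) (Tr.nd (nat_lit 770) (Tr.nd (nat_lit 769) (Tr.lf (nat_lit 8))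
(Tr.lf (nat_lit 2)))
(Tr.nd (nat_lit 771) (Tr.lf (nat_lit 1))
(Tr.lf (nat_lit 2))))
(Tr.nd (nat_lit 774) (Tr.nd (nat_lit 773) (Tr.lf (nat_lit 8))
(Tr.lf (nat_lit 8)))
(Tr.nd (nat_lit 775) (Tr.lf (nat_lit 7))
(Tr.lf (nat_lit 8)))))
(Tr.nd (nat_lit 780) (Tr.nd (nat_lit 778) (Tr.nd (nat_lit 777) (Tr.lf (nat_lit 5))
(Tr.lf (nat_lit 5)))
(Tr.nd (nat_lit 779) (Tr.lf (nat_lit 1))
(Tr.lf (nat_lit 4))))
(Tr.nd (nat_lit 782) (Tr.nd (nat_lit 781) (Tr.lf (nat_lit 6))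
(Tr.lf (nat_lit 5)))
(Tr.nd (nat_lit 783) (Tr.lf (nat_lit 8))
(Tr.lf (nat_lit 4))))))
(Tr.nd (nat_lit 792) (Tr.nd (nat_lit 788) (Tr.nd (nat_lit 786) (Tr.nd (nat_lit 785) (Tr.lf (nat_lit 9))
(Tr.lf (nat_lit 8)))
(Tr.nd (nat_lit 787) (Tr.lf (nat_lit 1))
(Tr.lf (nat_lit 4))))
(Tr.nd (nat_lit 790) (Tr.nd (nat_lit 789) (Tr.lf (nat_lit 6))
(Tr.lf (nat_lit 7)))
(Tr.nd (nat_lit 791) (Tr.lf (nat_lit 5))
(Tr.lf (nat_lit 8)))))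
(Tr.nd (nat_lit 796) (Tr.nd (nat_lit 794) (Tr.nd (nat_lit 793) (Tr.lf (nat_lit 9))
(Tr.lf (nat_lit 8)))
(Tr.nd (nat_lit 795) (Tr.lf (nat_lit 1))
(Tr.lf (nat_lit 5))))
(Tr.nd (nat_lit 798) (Tr.nd (nat_lit 797) (Tr.lf (nat_lit 4))
(Tr.lf (nat_lit 5)))
(Tr.nd (nat_lit 799) (Tr.lf (nat_lit 4))
(Tr.lf (nat_lit 6)))))))
(Tr.nd (nat_lit 816) (Tr.nd (nat_lit 808) (Tr.nd (nat_lit 804) (Tr.nd (nat_lit 802) (Tr.nd (nat_lit 801) (Tr.lf (nat_lit 5))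
(Tr.lf (nat_lit 5)))
(Tr.nd (nat_lit 803) (Tr.lf (nat_lit 4))
(Tr.lf (nat_lit 7))))
(Tr.nd (nat_lit 806) (Tr.nd (nat_lit 805) (Tr.lf (nat_lit 6))
(Tr.lf (nat_lit 6)))
(Tr.nd (nat_lit 807) (Tr.lf (nat_lit 8))
(Tr.lf (nat_lit 4)))))
(Tr.nd (nat_lit 812) (Tr.nd (nat_lit 810) (Tr.nd (nat_lit 809) (Tr.lf (nat_lit 6))
(Tr.lf (nat_lit 3)))
(Tr.nd (nat_lit 811) (Tr.lf (nat_lit 5))
(Tr.lf (nat_lit 5))))
(Tr.nd (nat_lit 814) (Tr.nd (nat_lit 813) (Tr.lf (nat_lit 6))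
(Tr.lf (nat_lit 8)))
(Tr.nd (nat_lit 815) (Tr.lf (nat_lit 4))
(Tr.lf (nat_lit 8))))))
(Tr.nd (nat_lit 824) (Tr.nd (nat_lit 820) (Tr.nd (nat_lit 818) (Tr.nd (nat_lit 817) (Tr.lf (nat_lit 5))
(Tr.lf (nat_lit 3)))
(Tr.nd (nat_lit 819) (Tr.lf (nat_lit 2))
(Tr.lf (nat_lit 7))))
(Tr.nd (nat_lit 822) (Tr.nd (nat_lit 821) (Tr.lf (nat_lit 8))
(Tr.lf (nat_lit 5)))
(Tr.nd (nat_lit 823) (Tr.lf (nat_lit 6))
(Tr.lf (nat_lit 5)))))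
(Tr.nd (nat_lit 828) (Tr.nd (nat_lit 826) (Tr.nd (nat_lit 825) (Tr.lf (nat_lit 4))
(Tr.lf (nat_lit 6)))
(Tr.nd (nat_lit 827) (Tr.lf (nat_lit 6))
(Tr.lf (nat_lit 7))))
(Tr.nd (nat_lit 830) (Tr.nd (nat_lit 829) (Tr.lf (nat_lit 9))
(Tr.lf (nat_lit 8)))
(Tr.nd (nat_lit 831) (Tr.lf (nat_lit 5))
(Tr.lf (nat_lit 7))))))))
(Tr.nd (nat_lit 864) (Tr.nd (nat_lit 848) (Tr.nd (nat_lit 840) (Tr.nd (nat_lit 836) (Tr.nd (nat_lit 834) (Tr.nd (nat_lit 833) (Tr.lf (nat_lit 3))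
(Tr.lf (nat_lit 8)))
(Tr.nd (nat_lit 835) (Tr.lf (nat_lit 5))
(Tr.lf (nat_lit 5))))
(Tr.nd (nat_lit 838) (Tr.nd (nat_lit 837) (Tr.lf (nat_lit 6))
(Tr.lf (nat_lit 9)))
(Tr.nd (nat_lit 839) (Tr.lf (nat_lit 6))
(Tr.lf (nat_lit 8)))))
(Tr.nd (nat_lit 844) (Tr.nd (nat_lit 842) (Tr.nd (nat_lit 841) (Tr.lf (nat_lit 5))
(Tr.lf (nat_lit 6)))
(Tr.nd (nat_lit 843) (Tr.lf (nat_lit 2))
(Tr.lf (nat_lit 8))))
(Tr.nd (nat_lit 846) (Tr.nd (nat_lit 845) (Tr.lf (nat_lit 5))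
(Tr.lf (nat_lit 2)))
(Tr.nd (nat_lit 847) (Tr.lf (nat_lit 5))
(Tr.lf (nat_lit 1))))))
(Tr.nd (nat_lit 856) (Tr.nd (nat_lit 852) (Tr.nd (nat_lit 850) (Tr.nd (nat_lit 849) (Tr.lf (nat_lit 2))
(Tr.lf (nat_lit 6)))
(Tr.nd (nat_lit 851) (Tr.lf (nat_lit 8))
(Tr.lf (nat_lit 2))))
(Tr.nd (nat_lit 854) (Tr.nd (nat_lit 853) (Tr.lf (nat_lit 9))
(Tr.lf (nat_lit 5)))
(Tr.nd (nat_lit 855) (Tr.lf (nat_lit 6))
(Tr.lf (nat_lit 1)))))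
(Tr.nd (nat_lit 860) (Tr.nd (nat_lit 858) (Tr.nd (nat_lit 857) (Tr.lf (nat_lit 0))
(Tr.lf (nat_lit 1)))
(Tr.nd (nat_lit 859) (Tr.lf (nat_lit 5))
(Tr.lf (nat_lit 5))))
(Tr.nd (nat_lit 862) (Tr.nd (nat_lit 861) (Tr.lf (nat_lit 5))
(Tr.lf (nat_lit 6)))
(Tr.nd (nat_lit 863) (Tr.lf (nat_lit 5))
(Tr.lf (nat_lit 6)))))))
(Tr.nd (nat_lit 880) (Tr.nd (nat_lit 872) (Tr.nd (nat_lit 868) (Tr.nd (nat_lit 866) (Tr.nd (nat_lit 865) (Tr.lf (nat_lit 9))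
(Tr.lf (nat_lit 8)))
(Tr.nd (nat_lit 867) (Tr.lf (nat_lit 5))
(Tr.lf (nat_lit 6))))
(Tr.nd (nat_lit 870) (Tr.nd (nat_lit 869) (Tr.lf (nat_lit 7))
(Tr.lf (nat_lit 6)))
(Tr.nd (nat_lit 871) (Tr.lf (nat_lit 8))
(Tr.lf (nat_lit 8)))))
(Tr.nd (nat_lit 876) (Tr.nd (nat_lit 874) (Tr.nd (nat_lit 873) (Tr.lf (nat_lit 5))
(Tr.lf (nat_lit 4)))
(Tr.nd (nat_lit 875) (Tr.lf (nat_lit 4))
(Tr.lf (nat_lit 8))))
(Tr.nd (nat_lit 878) (Tr.nd (nat_lit 877) (Tr.lf (nat_lit 6))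
(Tr.lf (nat_lit 5)))
(Tr.nd (nat_lit 879) (Tr.lf (nat_lit 7))
(Tr.lf (nat_lit 4))))))
(Tr.nd (nat_lit 888) (Tr.nd (nat_lit 884) (Tr.nd (nat_lit 882) (Tr.nd (nat_lit 881) (Tr.lf (nat_lit 6))
(Tr.lf (nat_lit 3)))
(Tr.nd (nat_lit 883) (Tr.lf (nat_lit 5))
(Tr.lf (nat_lit 5))))
(Tr.nd (nat_lit 886) (Tr.nd (nat_lit 885) (Tr.lf (nat_lit 6))
(Tr.lf (nat_lit 4)))
(Tr.nd (nat_lit 887) (Tr.lf (nat_lit 6))
(Tr.lf (nat_lit 8)))))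
(Tr.nd (nat_lit 892) (Tr.nd (nat_lit 890) (Tr.nd (nat_lit 889) (Tr.lf (nat_lit 5))
(Tr.lf (nat_lit 3)))
(Tr.nd (nat_lit 891) (Tr.lf (nat_lit 8))
(Tr.lf (nat_lit 5))))
(Tr.nd (nat_lit 894) (Tr.nd (nat_lit 893) (Tr.lf (nat_lit 4))
(Tr.lf (nat_lit 2)))
(Tr.nd (nat_lit 895) (Tr.lf (nat_lit 7))
(Tr.lf (nat_lit 8)))))))))
(Tr.nd (nat_lit 960) (Tr.nd (nat_lit 928) (Tr.nd (nat_lit 912) (Tr.nd (nat_lit 904) (Tr.nd (nat_lit 900) (Tr.nd (nat_lit 898) (Tr.nd (nat_lit 897) (Tr.lf (nat_lit 7))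
(Tr.lf (nat_lit 5)))
(Tr.nd (nat_lit 899) (Tr.lf (nat_lit 6))
(Tr.lf (nat_lit 7))))
(Tr.nd (nat_lit 902) (Tr.nd (nat_lit 901) (Tr.lf (nat_lit 9))
(Tr.lf (nat_lit 4)))
(Tr.nd (nat_lit 903) (Tr.lf (nat_lit 6))
(Tr.lf (nat_lit 6)))))
(Tr.nd (nat_lit 908) (Tr.nd (nat_lit 906) (Tr.nd (nat_lit 905) (Tr.lf (nat_lit 7))
(Tr.lf (nat_lit 9)))
(Tr.nd (nat_lit 907) (Tr.lf (nat_lit 7))
(Tr.lf (nat_lit 9))))
(Tr.nd (nat_lit 910) (Tr.nd (nat_lit 909) (Tr.lf (nat_lit 8))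
(Tr.lf (nat_lit 4)))
(Tr.nd (nat_lit 911) (Tr.lf (nat_lit 2))
(Tr.lf (nat_lit 8))))))
(Tr.nd (nat_lit 920) (Tr.nd (nat_lit 916) (Tr.nd (nat_lit 914) (Tr.nd (nat_lit 913) (Tr.lf (nat_lit 6))
(Tr.lf (nat_lit 7)))
(Tr.nd (nat_lit 915) (Tr.lf (nat_lit 9))
(Tr.lf (nat_lit 5))))
(Tr.nd (nat_lit 918) (Tr.nd (nat_lit 917) (Tr.lf (nat_lit 6))
(Tr.lf (nat_lit 8)))
(Tr.nd (nat_lit 919) (Tr.lf (nat_lit 5))
(Tr.lf (nat_lit 1)))))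
(Tr.nd (nat_lit 924) (Tr.nd (nat_lit 922) (Tr.nd (nat_lit 921) (Tr.lf (nat_lit 0))
(Tr.lf (nat_lit 1)))
(Tr.nd (nat_lit 923) (Tr.lf (nat_lit 5))
(Tr.lf (nat_lit 9))))
(Tr.nd (nat_lit 926) (Tr.nd (nat_lit 925) (Tr.lf (nat_lit 4))
(Tr.lf (nat_lit 6)))
(Tr.nd (nat_lit 927) (Tr.lf (nat_lit 9))
(Tr.lf (nat_lit 4)))))))
(Tr.nd (nat_lit 944) (Tr.nd (nat_lit 936) (Tr.nd (nat_lit 932) (Tr.nd (nat_lit 930) (Tr.nd (nat_lit 929) (Tr.lf (nat_lit 6))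
(Tr.lf (nat_lit 5)))
(Tr.nd (nat_lit 931) (Tr.lf (nat_lit 9))
(Tr.lf (nat_lit 8))))
(Tr.nd (nat_lit 934) (Tr.nd (nat_lit 933) (Tr.lf (nat_lit 5))
(Tr.lf (nat_lit 8)))
(Tr.nd (nat_lit 935) (Tr.lf (nat_lit 5))
(Tr.lf (nat_lit 7)))))
(Tr.nd (nat_lit 940) (Tr.nd (nat_lit 938) (Tr.nd (nat_lit 937) (Tr.lf (nat_lit 8))
(Tr.lf (nat_lit 5)))
(Tr.nd (nat_lit 939) (Tr.lf (nat_lit 4))
(Tr.lf (nat_lit 6))))
(Tr.nd (nat_lit 942) (Tr.nd (nat_lit 941) (Tr.lf (nat_lit 8))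
(Tr.lf (nat_lit 3)))
(Tr.nd (nat_lit 943) (Tr.lf (nat_lit 3))
(Tr.lf (nat_lit 6))))))
(Tr.nd (nat_lit 952) (Tr.nd (nat_lit 948) (Tr.nd (nat_lit 946) (Tr.nd (nat_lit 945) (Tr.lf (nat_lit 8))
(Tr.lf (nat_lit 5)))
(Tr.nd (nat_lit 947) (Tr.lf (nat_lit 7))
(Tr.lf (nat_lit 7))))
(Tr.nd (nat_lit 950) (Tr.nd (nat_lit 949) (Tr.lf (nat_lit 6))
(Tr.lf (nat_lit 3)))
(Tr.nd (nat_lit 951) (Tr.lf (nat_lit 6))
(Tr.lf (nat_lit 6)))))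
(Tr.nd (nat_lit 956) (Tr.nd (nat_lit 954) (Tr.nd (nat_lit 953) (Tr.lf (nat_lit 8))
(Tr.lf (nat_lit 6)))
(Tr.nd (nat_lit 955) (Tr.lf (nat_lit 8))
(Tr.lf (nat_lit 6))))
(Tr.nd (nat_lit 958) (Tr.nd (nat_lit 957) (Tr.lf (nat_lit 8))
(Tr.lf (nat_lit 8)))
(Tr.nd (nat_lit 959) (Tr.lf (nat_lit 5))
(Tr.lf (nat_lit 4))))))))
(Tr.nd (nat_lit 992) (Tr.nd (nat_lit 976) (Tr.nd (nat_lit 968) (Tr.nd (nat_lit 964) (Tr.nd (nat_lit 962) (Tr.nd (nat_lit 961) (Tr.lf (nat_lit 8))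
(Tr.lf (nat_lit 5)))
(Tr.nd (nat_lit 963) (Tr.lf (nat_lit 4))
(Tr.lf (nat_lit 3))))
(Tr.nd (nat_lit 966) (Tr.nd (nat_lit 965) (Tr.lf (nat_lit 7))
(Tr.lf (nat_lit 8)))
(Tr.nd (nat_lit 967) (Tr.lf (nat_lit 6))
(Tr.lf (nat_lit 7)))))
(Tr.nd (nat_lit 972) (Tr.nd (nat_lit 970) (Tr.nd (nat_lit 969) (Tr.lf (nat_lit 9))
(Tr.lf (nat_lit 6)))
(Tr.nd (nat_lit 971) (Tr.lf (nat_lit 5))
(Tr.lf (nat_lit 9))))
(Tr.nd (nat_lit 974) (Tr.nd (nat_lit 973) (Tr.lf (nat_lit 9))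
(Tr.lf (nat_lit 8)))
(Tr.nd (nat_lit 975) (Tr.lf (nat_lit 5))
(Tr.lf (nat_lit 8))))))
(Tr.nd (nat_lit 984) (Tr.nd (nat_lit 980) (Tr.nd (nat_lit 978) (Tr.nd (nat_lit 977) (Tr.lf (nat_lit 8))
(Tr.lf (nat_lit 7)))
(Tr.nd (nat_lit 979) (Tr.lf (nat_lit 9))
(Tr.lf (nat_lit 6))))
(Tr.nd (nat_lit 982) (Tr.nd (nat_lit 981) (Tr.lf (nat_lit 7))
(Tr.lf (nat_lit 9)))
(Tr.nd (nat_lit 983) (Tr.lf (nat_lit 0))
(Tr.lf (nat_lit 9)))))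
(Tr.nd (nat_lit 988) (Tr.nd (nat_lit 986) (Tr.nd (nat_lit 985) (Tr.lf (nat_lit 0))
(Tr.lf (nat_lit 4)))
(Tr.nd (nat_lit 987) (Tr.lf (nat_lit 8))
(Tr.lf (nat_lit 6))))
(Tr.nd (nat_lit 990) (Tr.nd (nat_lit 989) (Tr.lf (nat_lit 8))
(Tr.lf (nat_lit 6)))
(Tr.nd (nat_lit 991) (Tr.lf (nat_lit 8))
(Tr.lf (nat_lit 5)))))))
(Tr.nd (nat_lit 1008) (Tr.nd (nat_lit 1000) (Tr.nd (nat_lit 996) (Tr.nd (nat_lit 994) (Tr.nd (nat_lit 993) (Tr.lf (nat_lit 6))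
(Tr.lf (nat_lit 7)))
(Tr.nd (nat_lit 995) (Tr.lf (nat_lit 3))
(Tr.lf (nat_lit 6))))
(Tr.nd (nat_lit 998) (Tr.nd (nat_lit 997) (Tr.lf (nat_lit 7))
(Tr.lf (nat_lit 8)))
(Tr.nd (nat_lit 999) (Tr.lf (nat_lit 6))
(Tr.lf (nat_lit 8)))))
(Tr.nd (nat_lit 1004) (Tr.nd (nat_lit 1002) (Tr.nd (nat_lit 1001) (Tr.lf (nat_lit 7))
(Tr.lf (nat_lit 7)))
(Tr.nd (nat_lit 1003) (Tr.lf (nat_lit 6))
(Tr.lf (nat_lit 6))))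
(Tr.nd (nat_lit 1006) (Tr.nd (nat_lit 1005) (Tr.lf (nat_lit 8))
(Tr.lf (nat_lit 8)))
(Tr.nd (nat_lit 1007) (Tr.lf (nat_lit 8))
(Tr.lf (nat_lit 5))))))
(Tr.nd (nat_lit 1016) (Tr.nd (nat_lit 1012) (Tr.nd (nat_lit 1010) (Tr.nd (nat_lit 1009) (Tr.lf (nat_lit 4))
(Tr.lf (nat_lit 3)))
(Tr.nd (nat_lit 1011) (Tr.lf (nat_lit 5))
(Tr.lf (nat_lit 4))))
(Tr.nd (nat_lit 1014) (Tr.nd (nat_lit 1013) (Tr.lf (nat_lit 3))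
(Tr.lf (nat_lit 2)))
(Tr.nd (nat_lit 1015) (Tr.lf (nat_lit 9))
(Tr.lf (nat_lit 8)))))
(Tr.nd (nat_lit 1020) (Tr.nd (nat_lit 1018) (Tr.nd (nat_lit 1017) (Tr.lf (nat_lit 6))
(Tr.lf (nat_lit 5)))
(Tr.nd (nat_lit 1019) (Tr.lf (nat_lit 2))
(Tr.lf (nat_lit 6))))
(Tr.nd (nat_lit 1022) (Tr.nd (nat_lit 1021) (Tr.lf (nat_lit 5))
(Tr.lf (nat_lit 7)))
(Tr.nd (nat_lit 1023) (Tr.lf (nat_lit 8))
(Tr.lf (nat_lit 8))))))))))))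
theorem mini1_alt : Tr.all (altChk idx inv RW (SW1)) mini1A = true := by decide +kernel
theorem mini1_chk : Tr.all (chkFc idx inv mini1S mini1A (fun b => Tr.find b mini1P) (fun b => Tr.find b mini1Q)) mini1S = true := by decide +kernel
theorem mini1_run : runM idx inv mini1S 2619 0 [Mv.f (nat_lit 8), Mv.f (nat_lit 9), Mv.f (nat_lit 10), Mv.f (nat_lit 11), Mv.f (nat_lit 118), Mv.f (nat_lit 124), Mv.f (nat_lit 130), Mv.f (nat_lit 135), Mv.f (nat_lit 141), Mv.f (nat_lit 146), Mv.f (nat_lit 151), Mv.f (nat_lit 156), Mv.f (nat_lit 160), Mv.f (nat_lit 164), Mv.f (nat_lit 168), Mv.f (nat_lit 172), Mv.f (nat_lit 176), Mv.f (nat_lit 179), Mv.f (nat_lit 182), Mv.f (nat_lit 185), Mv.f (nat_lit 188), Mv.f (nat_lit 190), Mv.f (nat_lit 192), Mv.f (nat_lit 194), Mv.f (nat_lit 195), Mv.f (nat_lit 196), Mv.b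 (nat_lit 2618), Mv.b (nat_lit 12), Mv.b (nat_lit 11), Mv.b (nat_lit 10), Mv.b (nat_lit 9), Mv.b (nat_lit 8)] [Col.i, Col.h, Col.d, Col.c, Col.e, Col.d, Col.f, Col.e, Col.h, Col.d, Col.c, Col.b, Col.i, Col.h, Col.d, Col.c, Col.e, Col.d, Col.h, Col.i, Col.f, Col.e, Col.d, Col.h, Col.c, Col.d, Col.e, Col.b, Col.c, Col.d, Col.h, Col.i] 0 = true := by decide +kernel
theorem mini1_fix {G X : Type*} [Group G] [MulAction G X] (g : Col → G) (x0 : X) (hinv : ∀ c, g (inv c) = (g c)⁻¹)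
    (hRW : ∀ w ∈ RW, gw g w = 1) (hSW : ∀ w ∈ SW1, gw g w • x0 = x0) : gw g [Col.i, Col.h, Col.d, Col.c, Col.e, Col.d, Col.f, Col.e, Col.h, Col.d, Col.c, Col.b, Col.i, Col.h, Col.d, Col.c, Col.e, Col.d, Col.h, Col.i, Col.f, Col.e, Col.d, Col.h, Col.c, Col.d, Col.e, Col.b, Col.c, Col.d, Col.h, Col.i] • x0 = x0 :=
  mini_sound g x0 dec hdec hinv
    (fun a ha => altChk_sound g x0 dec hdec hinv hRW hSW ((Tr.all_iff _ _).1 mini1_alt a ha)) mini1_chk mini1_run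
end CfsgLib.TCFi24Yb
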