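import Cfsg.Agent.EqBase
import Cfsg.Agent.LibTCFi24YbD
set_option autoImplicit false
set_option linter.all false
set_option maxRecDepth 1000000
set_option maxHeartbeats 0
namespace CfsgLib.TCFi24Yb
open CfsgLib.TC Cfsg.Spor CfsgLib.TCG_Fi24Y
theorem ce_0_0 : Tr.all CE_0 L_0 = true := by decide +kernel
theorem ce_0_2 : Tr.all CE_0 L_2 = true := by decide +kernel
theorem ce_0_4 : Tr.all CE_0 L_4 = true := by decide +kernel
theorem ce_0_6 : Tr.all CE_0 L_6 = true := by decide +kernel
theorem ce_1_2 : Tr.all CE_1 L_2 = true := by decide +kernel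
theorem ce_1_4 : Tr.all CE_1 L_4 = true := by decide +kernel
theorem ce_1_6 : Tr.all CE_1 L_6 = true := by decide +kernel
theorem bs_0 : bst L_0 524288 (2 * 524288) = true := by decide +kernel
theorem bs_2 : bst L_2 524288 (2 * 524288) = true := by decide +kernel
theorem bs_4 : bst L_4 524288 (2 * 524288) = true := by decide +kernel
theorem bs_6 : bst L_6 524288 (2 * 524288) = true := by decide +kernel
theorem sz_0 : size L_0 = 4096 := by decide +kernel
theorem sz_1 : size L_1 = 4096 := by decide +kernel
theorem sz_2 : size L_2 = 4096 := by decide +kernel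
theorem sz_3 : size L_3 = 4096 := by decide +kernel
theorem sz_4 : size L_4 = 4096 := by decide +kernel
theorem sz_5 : size L_5 = 4096 := by decide +kernel
theorem sz_6 : size L_6 = 3855 := by decide +kernel
end CfsgLib.TCFi24Yb
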