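import Cfsg.Agent.EqBase
import Cfsg.Agent.LibTCFi24YcW
import Cfsg.Agent.LibTCFi24YcN0
set_option autoImplicit false
set_option linter.all false
set_option maxRecDepth 1000000
set_option maxHeartbeats 0
namespace CfsgLib.TCFi24Yc
open CfsgLib.TC Cfsg.Spor
noncomputable def ms0 : List ℕ := []
noncomputable def ms1 : List ℕ := (nat_lit 0x1000000) :: ms0
noncomputable def ms2 : List ℕ := (nat_lit 0x1000000000000) :: ms1
noncomputable def ms3 : List ℕ := (nat_lit 0x1000000000000000000000000) :: ms2
noncomputable def ms4 : List ℕ := (nat_lit 0x1000000000000000000000000000000000000000000000000) :: ms3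
noncomputable def ms5 : List ℕ := (nat_lit 0x1000000000000000000000000000000000000000000000000000000000000000000000000000000000000000000000000) :: ms4
noncomputable def ms6 : List ℕ := (nat_lit 0x1000000000000000000000000000000000000000000000000000000000000000000000000000000000000000000000000000000000000000000000000000000000000000000000000000000000000000000000000000000000000000000000000) :: ms5
noncomputable def ms7 : List ℕ := (nat_lit 0x1000000000000000000000000000000000000000000000000000000000000000000000000000000000000000000000000000000000000000000000000000000000000000000000000000000000000000000000000000000000000000000000000000000000000000000000000000000000000000000000000000000000000000000000000000000000000000000000000000000000000000000000000000000000000000000000000000000000000000000000000000000000000000000000000) :: ms6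
noncomputable def ms8 : List ℕ := (nat_lit 0x1000000000000000000000000000000000000000000000000000000000000000000000000000000000000000000000000000000000000000000000000000000000000000000000000000000000000000000000000000000000000000000000000000000000000000000000000000000000000000000000000000000000000000000000000000000000000000000000000000000000000000000000000000000000000000000000000000000000000000000000000000000000000000000000000000000000000000000000000000000000000000000000000000000000000000000000000000000000000000000000000000000000000000000000000000000000000000000000000000000000000000000000000000000000000000000000000000000000000000000000000000000000000000000000000000000000000000000000000000000000000000000000000000000000000000000000000000000000000000000000000000000000000000000000000000000000000000000000000) :: ms7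
noncomputable def ms9 : List ℕ := (nat_lit 0x1000000000000000000000000000000000000000000000000000000000000000000000000000000000000000000000000000000000000000000000000000000000000000000000000000000000000000000000000000000000000000000000000000000000000000000000000000000000000000000000000000000000000000000000000000000000000000000000000000000000000000000000000000000000000000000000000000000000000000000000000000000000000000000000000000000000000000000000000000000000000000000000000000000000000000000000000000000000000000000000000000000000000000000000000000000000000000000000000000000000000000000000000000000000000000000000000000000000000000000000000000000000000000000000000000000000000000000000000000000000000000000000000000000000000000000000000000000000000000000000000000000000000000000000000000000000000000000000000000000000000000000000000000000000000000000000000000000000000000000000000000000000000000000000000000000000000000000000000000000000000000000000000000000000000000000000000000000000000000000000000000000000000000000000000000000000000000000000000000000000000000000000000000000000000000000000000000000000000000000000000000000000000000000000000000000000000000000000000000000000000000000000000000000000000000000000000000000000000000000000000000000000000000000000000000000000000000000000000000000000000000000000000000000000000000000000000000000000000000000000000000000000000000000000000000000000000000000000000000000000000000000000000000000000000000000000000000000000000000000000000000000000000000000000000000000000000000000000000000000000000000000000000000000000000000000000000)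 :: ms8
noncomputable def ms10 : List ℕ := (nat_lit 0x100000000000000000000000000000000000000000000000000000000000000000000000000000000000000000000000000000000000000000000000000000000000000000000000000000000000000000000000000000000000000000000000000000000000000000000000000000000000000000000000000000000000000000000000000000000000000000000000000000000000000000000000000000000000000000000000000000000000000000000000000000000000000000000000000000000000000000000000000000000000000000000000000000000000000000000000000000000000000000000000000000000000000000000000000000000000000000000000000000000000000000000000000000000000000000000000000000000000000000000000000000000000000000000000000000000000000000000000000000000000000000000000000000000000000000000000000000000000000000000000000000000000000000000000000000000000000000000000000000000000000000000000000000000000000000000000000000000000000000000000000000000000000000000000000000000000000000000000000000000000000000000000000000000000000000000000000000000000000000000000000000000000000000000000000000000000000000000000000000000000000000000000000000000000000000000000000000000000000000000000000000000000000000000000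000000000000000000000000000000000000000000000000000000000000000000000000000000000000000000000000000000000000000000000000000000000000000000000000000000000000000000000000000000000000000000000000000000000000000000000000000000000000000000000000000000000000000000000000000000000000000000000000000000000000000000000000000000000000000000000000000000000000000000000000000000000000000000000000000000000000000000000000000000000000000000000000000000000000000000000000000000000000000000000000000000000000000000000000000000000000000000000000000000000000000000000000000000000000000000000000000000000000000000000000000000000000000000000000000000000000000000000000000000000000000000000000000000000000000000000000000000000000000000000000000000000000000000000000000000000000000000000000000000000000000000000000000000000000000000000000000000000000000000000000000000000000000000000000000000000000000000000000000000000000000000000000000000000000000000000000000000000000000000000000000000000000000000000000000000000000000000000000000000000000000000000000000000000000000000000000000000000000000000000000000000000000000000000000000000000000000000000000000000000000000000000000000000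0000000000000000000000000000000000000000000000000000000000000000000000000000000000000000000000000000000000000000000000000000000000000000000000000000000000000000000000000000000000000000000000000000000000000000000000000000000000000000000000000000000000000000000000000000000000000000000000000000000000000000000000000000000000000000000000000000000000000000000000000000000000000000000000000000000000000000000000000000000000000000000000000000000000000000000000000000000000000000000000000000000000000000000000000000000000000000000000000000000000000000000000000000000000000000000000000000000000000000000000000000000000000000000000000000000000000000000000000000000000000000000000000000000000000000000000000000000000000000000000000000000000000000000000000000000000000000000000000000000000000000000000000000000000000000000) :: ms9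
noncomputable def ms11 : List ℕ := (nat_lit 0x1000000000000000000000000000000000000000000000000000000000000000000000000000000000000000000000000000000000000000000000000000000000000000000000000000000000000000000000000000000000000000000000000000000000000000000000000000000000000000000000000000000000000000000000000000000000000000000000000000000000000000000000000000000000000000000000000000000000000000000000000000000000000000000000000000000000000000000000000000000000000000000000000000000000000000000000000000000000000000000000000000000000000000000000000000000000000000000000000000000000000000000000000000000000000000000000000000000000000000000000000000000000000000000000000000000000000000000000000000000000000000000000000000000000000000000000000000000000000000000000000000000000000000000000000000000000000000000000000000000000000000000000000000000000000000000000000000000000000000000000000000000000000000000000000000000000000000000000000000000000000000000000000000000000000000000000000000000000000000000000000000000000000000000000000000000000000000000000000000000000000000000000000000000000000000000000000000000000000000000000000000000000000000000000000000000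000000000000000000000000000000000000000000000000000000000000000000000000000000000000000000000000000000000000000000000000000000000000000000000000000000000000000000000000000000000000000000000000000000000000000000000000000000000000000000000000000000000000000000000000000000000000000000000000000000000000000000000000000000000000000000000000000000000000000000000000000000000000000000000000000000000000000000000000000000000000000000000000000000000000000000000000000000000000000000000000000000000000000000000000000000000000000000000000000000000000000000000000000000000000000000000000000000000000000000000000000000000000000000000000000000000000000000000000000000000000000000000000000000000000000000000000000000000000000000000000000000000000000000000000000000000000000000000000000000000000000000000000000000000000000000000000000000000000000000000000000000000000000000000000000000000000000000000000000000000000000000000000000000000000000000000000000000000000000000000000000000000000000000000000000000000000000000000000000000000000000000000000000000000000000000000000000000000000000000000000000000000000000000000000000000000000000000000000000000000000000000000000000000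000000000000000000000000000000000000000000000000000000000000000000000000000000000000000000000000000000000000000000000000000000000000000000000000000000000000000000000000000000000000000000000000000000000000000000000000000000000000000000000000000000000000000000000000000000000000000000000000000000000000000000000000000000000000000000000000000000000000000000000000000000000000000000000000000000000000000000000000000000000000000000000000000000000000000000000000000000000000000000000000000000000000000000000000000000000000000000000000000000000000000000000000000000000000000000000000000000000000000000000000000000000000000000000000000000000000000000000000000000000000000000000000000000000000000000000000000000000000000000000000000000000000000000000000000000000000000000000000000000000000000000000000000000000000000000000000000000000000000000000000000000000000000000000000000000000000000000000000000000000000000000000000000000000000000000000000000000000000000000000000000000000000000000000000000000000000000000000000000000000000000000000000000000000000000000000000000000000000000000000000000000000000000000000000000000000000000000000000000000000000000000000000000000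000000000000000000000000000000000000000000000000000000000000000000000000000000000000000000000000000000000000000000000000000000000000000000000000000000000000000000000000000000000000000000000000000000000000000000000000000000000000000000000000000000000000000000000000000000000000000000000000000000000000000000000000000000000000000000000000000000000000000000000000000000000000000000000000000000000000000000000000000000000000000000000000000000000000000000000000000000000000000000000000000000000000000000000000000000000000000000000000000000000000000000000000000000000000000000000000000000000000000000000000000000000000000000000000000000000000000000000000000000000000000000000000000000000000000000000000000000000000000000000000000000000000000000000000000000000000000000000000000000000000000000000000000000000000000000000000000000000000000000000000000000000000000000000000000000000000000000000000000000000000000000000000000000000000000000000000000000000000000000000000000000000000000000000000000000000000000000000000000000000000000000000000000000000000000000000000000000000000000000000000000000000000000000000000000000000000000000000000000000000000000000000000000000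000000000000000000000000000000000000000000000000000000000000000000000000000000000000000000000000000000000000000000000000000000000000000000000000000000000000000000000000000000000000000000000000000000000000000000000000000000000000000000000000000000000000000000000000000000000000000000000000000000000000000000000000000000000000000000000000000000000000000000000000000000000000000000000000000000000000000000000000000000000000000000000000000000000000000000000000000000000000000000000000000000000000000000000000000000000000000000000000000000000000000000000000000000000000000000000000000000000000000000000000000000000000000000000000000000000000000000000000000000000000000000000000000000000000000000000000000000000000000000000000000000000000000000000000000000000000000000000000000000000000000000000000000000000000000000000000000000000000000000000000000000000000000000000000000000000000000000000000000000000000000000000000000000000000000000000000000000000000000000000000000000000000000000000000000000000000000000000000000000000000000000000000000000000000000000000000000000000000000000000000000000000000000000000000000000000000000000000000000000000000000000000000000000000000000000000000000000000000000000000000000000000000000000000000000000000000000000000000000000000000000000000000000000000000000000000000000000000000000000000000000000000000000000000000000000000000000000000000000000000000000000000000000000000000000000000000000000000000000000000000000000000000000000000000000000000000000000000000000000000000000000000000000000000000000000000000000000000000000000000000)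 :: ms10
noncomputable def ms12 : List ℕ := (nat_lit 0x10000000000000000000000000000000000000000000000000000000000000000000000000000000000000000000000000000000000000000000000000000000000000000000000000000000000000000000000000000000000000000000000000000000000000000000000000000000000000000000000000000000000000000000000000000000000000000000000000000000000000000000000000000000000000000000000000000000000000000000000000000000000000000000000000000000000000000000000000000000000000000000000000000000000000000000000000000000000000000000000000000000000000000000000000000000000000000000000000000000000000000000000000000000000000000000000000000000000000000000000000000000000000000000000000000000000000000000000000000000000000000000000000000000000000000000000000000000000000000000000000000000000000000000000000000000000000000000000000000000000000000000000000000000000000000000000000000000000000000000000000000000000000000000000000000000000000000000000000000000000000000000000000000000000000000000000000000000000000000000000000000000000000000000000000000000000000000000000000000000000000000000000000000000000000000000000000000000000000000000000000000000000000000000000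000000000000000000000000000000000000000000000000000000000000000000000000000000000000000000000000000000000000000000000000000000000000000000000000000000000000000000000000000000000000000000000000000000000000000000000000000000000000000000000000000000000000000000000000000000000000000000000000000000000000000000000000000000000000000000000000000000000000000000000000000000000000000000000000000000000000000000000000000000000000000000000000000000000000000000000000000000000000000000000000000000000000000000000000000000000000000000000000000000000000000000000000000000000000000000000000000000000000000000000000000000000000000000000000000000000000000000000000000000000000000000000000000000000000000000000000000000000000000000000000000000000000000000000000000000000000000000000000000000000000000000000000000000000000000000000000000000000000000000000000000000000000000000000000000000000000000000000000000000000000000000000000000000000000000000000000000000000000000000000000000000000000000000000000000000000000000000000000000000000000000000000000000000000000000000000000000000000000000000000000000000000000000000000000000000000000000000000000000000000000000000000000000000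000000000000000000000000000000000000000000000000000000000000000000000000000000000000000000000000000000000000000000000000000000000000000000000000000000000000000000000000000000000000000000000000000000000000000000000000000000000000000000000000000000000000000000000000000000000000000000000000000000000000000000000000000000000000000000000000000000000000000000000000000000000000000000000000000000000000000000000000000000000000000000000000000000000000000000000000000000000000000000000000000000000000000000000000000000000000000000000000000000000000000000000000000000000000000000000000000000000000000000000000000000000000000000000000000000000000000000000000000000000000000000000000000000000000000000000000000000000000000000000000000000000000000000000000000000000000000000000000000000000000000000000000000000000000000000000000000000000000000000000000000000000000000000000000000000000000000000000000000000000000000000000000000000000000000000000000000000000000000000000000000000000000000000000000000000000000000000000000000000000000000000000000000000000000000000000000000000000000000000000000000000000000000000000000000000000000000000000000000000000000000000000000000000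000000000000000000000000000000000000000000000000000000000000000000000000000000000000000000000000000000000000000000000000000000000000000000000000000000000000000000000000000000000000000000000000000000000000000000000000000000000000000000000000000000000000000000000000000000000000000000000000000000000000000000000000000000000000000000000000000000000000000000000000000000000000000000000000000000000000000000000000000000000000000000000000000000000000000000000000000000000000000000000000000000000000000000000000000000000000000000000000000000000000000000000000000000000000000000000000000000000000000000000000000000000000000000000000000000000000000000000000000000000000000000000000000000000000000000000000000000000000000000000000000000000000000000000000000000000000000000000000000000000000000000000000000000000000000000000000000000000000000000000000000000000000000000000000000000000000000000000000000000000000000000000000000000000000000000000000000000000000000000000000000000000000000000000000000000000000000000000000000000000000000000000000000000000000000000000000000000000000000000000000000000000000000000000000000000000000000000000000000000000000000000000000000000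000000000000000000000000000000000000000000000000000000000000000000000000000000000000000000000000000000000000000000000000000000000000000000000000000000000000000000000000000000000000000000000000000000000000000000000000000000000000000000000000000000000000000000000000000000000000000000000000000000000000000000000000000000000000000000000000000000000000000000000000000000000000000000000000000000000000000000000000000000000000000000000000000000000000000000000000000000000000000000000000000000000000000000000000000000000000000000000000000000000000000000000000000000000000000000000000000000000000000000000000000000000000000000000000000000000000000000000000000000000000000000000000000000000000000000000000000000000000000000000000000000000000000000000000000000000000000000000000000000000000000000000000000000000000000000000000000000000000000000000000000000000000000000000000000000000000000000000000000000000000000000000000000000000000000000000000000000000000000000000000000000000000000000000000000000000000000000000000000000000000000000000000000000000000000000000000000000000000000000000000000000000000000000000000000000000000000000000000000000000000000000000000000000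000000000000000000000000000000000000000000000000000000000000000000000000000000000000000000000000000000000000000000000000000000000000000000000000000000000000000000000000000000000000000000000000000000000000000000000000000000000000000000000000000000000000000000000000000000000000000000000000000000000000000000000000000000000000000000000000000000000000000000000000000000000000000000000000000000000000000000000000000000000000000000000000000000000000000000000000000000000000000000000000000000000000000000000000000000000000000000000000000000000000000000000000000000000000000000000000000000000000000000000000000000000000000000000000000000000000000000000000000000000000000000000000000000000000000000000000000000000000000000000000000000000000000000000000000000000000000000000000000000000000000000000000000000000000000000000000000000000000000000000000000000000000000000000000000000000000000000000000000000000000000000000000000000000000000000000000000000000000000000000000000000000000000000000000000000000000000000000000000000000000000000000000000000000000000000000000000000000000000000000000000000000000000000000000000000000000000000000000000000000000000000000000000000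000000000000000000000000000000000000000000000000000000000000000000000000000000000000000000000000000000000000000000000000000000000000000000000000000000000000000000000000000000000000000000000000000000000000000000000000000000000000000000000000000000000000000000000000000000000000000000000000000000000000000000000000000000000000000000000000000000000000000000000000000000000000000000000000000000000000000000000000000000000000000000000000000000000000000000000000000000000000000000000000000000000000000000000000000000000000000000000000000000000000000000000000000000000000000000000000000000000000000000000000000000000000000000000000000000000000000000000000000000000000000000000000000000000000000000000000000000000000000000000000000000000000000000000000000000000000000000000000000000000000000000000000000000000000000000000000000000000000000000000000000000000000000000000000000000000000000000000000000000000000000000000000000000000000000000000000000000000000000000000000000000000000000000000000000000000000000000000000000000000000000000000000000000000000000000000000000000000000000000000000000000000000000000000000000000000000000000000000000000000000000000000000000000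000000000000000000000000000000000000000000000000000000000000000000000000000000000000000000000000000000000000000000000000000000000000000000000000000000000000000000000000000000000000000000000000000000000000000000000000000000000000000000000000000000000000000000000000000000000000000000000000000000000000000000000000000000000000000000000000000000000000000000000000000000000000000000000000000000000000000000000000000000000000000000000000000000000000000000000000000000000000000000000000000000000000000000000000000000000000000000000000000000000000000000000000000000000000000000000000000000000000000000000000000000000000000000000000000000000000000000000000000000000000000000000000000000000000000000000000000000000000000000000000000000000000000000000000000000000000000000000000000000000000000000000000000000000000000000000000000000000000000000000000000000000000000000000000000000000000000000000000000000000000000000000000000000000000000000000000000000000000000000000000000000000000000000000000000000000000000000000000000000000000000000000000000000000000000000000000000000000000000000000000000000000000000000000000000000000000000000000000000000000000000000000000000000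000000000000000000000000000000000000000000000000000000000000000000000000000000000000000000000000000000000000000000000000000000000000000000000000000000000000000000000000000000000000000000000000000000000000000000000000000000000000000000000000000000000000000000000000000000000000000000000000000000000000000000000000000000000000000000000000000000000000000000000000000000000000000000000000000000000000000000000000000000000000000000000000000000000000000000000000000000000000000000000000000000000000000000000000000000000000000000000000000000000000000000000000000000000000000000000000000000000000000000000000000000000000000000000000000000000000000000000000000000000000000000000000000000000000000000000000000000000000000000000000000000000000000000000000000000000000000000000000000000000000000000000000000000000000000000000000000000000000000000000000000000000000000000000000000000000000000000000000000000000000000000000000000000000000000000000000000000000000000000000000000000000000000000000000000000000000000000000000000000000000000000000000000000000000000000000000000000000000000000000000000000000000000000000000000000000000000000000000000000000000000000000000000000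000000000000000000000000000000000000000000000000000000000000000000000000000000000000000000000000000000000000000000000000000000000000000000000000000000000000000000000000000000000000000000000000000000000000000000000000000000000000000000000000000000000000000000000000000000000000000000000000000000000000000000000000000000000000000000000000000000000000000000000000000000000000000000000000000000000000000000000000000000000000000000000000000000000000000000000000000000000000000000000000000000000000000000000000000000000000000000000000000000000000000000000000000000000000000000000000000000000000000000000000000000000000000000000000000000000000000000000000000000000000000000000000000000000000000000000000000000000000000000000000000000000000000000000000000000000000000000000000000000000000000000000000000000000000000000000000000000000000000000000000000000000000000000000000000000000000000000000000000000000000000000000000000000000000000000000000000000000000000000000000000000000000000000000000000000000000000000000000000000000000000000000000000000000000000000000000000000000000000000000000000000000000000000000000000000000000000000000000000000000000000000000000000000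00000000000000000000000000000000000000000000000000000000000000000000000000000000000000000000000000000000000000000000000000000000000000000000000000000000000000000000000000000000000000000000000000000000000000000000000000000000000000000000000000000000000000000000000000000000000000000000000000000000000000000000000000000000000000000000000000000000000000000000000000000000000000000000000000000000000000000000000000000000000000000000000000000000000000000000000000000000000000000000000000000000000000000000000000000000000000000000000000000000000000000000000000000000000000000000000000000000000000000000000000000000000000000000000000000000000000000000000000000000000000000000000000000000000000000000000000000000000000000000000000000000000000000000000000000000000000000000) :: ms11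
noncomputable def L : Tr ℕ := (Tr.nd (nat_lit 2791) (Tr.nd (nat_lit 2551) (decT (nat_lit 16777216) (ms6) LN0_b6) (decT (nat_lit 16777216) (ms5) LN0_b5)) (Tr.nd (nat_lit 2917) (decT (nat_lit 16777216) (ms4) LN0_b4) (decT (nat_lit 16777216) (ms3) LN0_b3)))
abbrev q0 : ℕ := nat_lit 2053
noncomputable def F_l (q : ℕ) : ℕ := Nat.add (nat_lit 2048) (Nat.mod T_l q)
noncomputable def UU_l (q : ℕ) : ℕ := (Nat.mod U_l q)
noncomputable def VV_l (q : ℕ) : ℕ := (Nat.mod V_l q)
noncomputable def G_l (t q : ℕ) : ℕ := Bool.rec (motive := fun _ => ℕ) (nat_lit 0) (F_l q) (Nat.ble (Nat.succ (UU_l q)) t)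
noncomputable def F_k (q : ℕ) : ℕ := Nat.add (nat_lit 2048) (Nat.mod T_k q)
noncomputable def UU_k (q : ℕ) : ℕ := (Nat.mod U_k q)
noncomputable def VV_k (q : ℕ) : ℕ := (Nat.mod V_k q)
noncomputable def G_k (t q : ℕ) : ℕ := Bool.rec (motive := fun _ => ℕ) (nat_lit 0) (F_k q) (Nat.ble (Nat.succ (UU_k q)) t)
noncomputable def F_a (q : ℕ) : ℕ := Nat.add (nat_lit 2048) (Nat.mod T_a q)
noncomputable def UU_a (q : ℕ) : ℕ := (Nat.mod U_a q)
noncomputable def VV_a (q : ℕ) : ℕ := (Nat.mod V_a q)
noncomputable def G_a (t q : ℕ) : ℕ := Bool.rec (motive := fun _ => ℕ) (nat_lit 0) (F_a q) (Nat.ble (Nat.succ (UU_a q)) t)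
noncomputable def F_b (q : ℕ) : ℕ := Nat.add (nat_lit 2048) (Nat.mod T_b q)
noncomputable def UU_b (q : ℕ) : ℕ := (Nat.mod U_b q)
noncomputable def VV_b (q : ℕ) : ℕ := (Nat.mod V_b q)
noncomputable def G_b (t q : ℕ) : ℕ := Bool.rec (motive := fun _ => ℕ) (nat_lit 0) (F_b q) (Nat.ble (Nat.succ (UU_b q)) t)
noncomputable def F_c (q : ℕ) : ℕ := Nat.add (nat_lit 2048) (Nat.mod T_c q)
noncomputable def UU_c (q : ℕ) : ℕ := (Nat.mod U_c q)
noncomputable def VV_c (q : ℕ) : ℕ := (Nat.mod V_c q)
noncomputable def G_c (t q : ℕ) : ℕ := Bool.rec (motive := fun _ => ℕ) (nat_lit 0) (F_c q) (Nat.ble (Nat.succ (UU_c q)) t)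
noncomputable def F_d (q : ℕ) : ℕ := Nat.add (nat_lit 2048) (Nat.mod T_d q)
noncomputable def UU_d (q : ℕ) : ℕ := (Nat.mod U_d q)
noncomputable def VV_d (q : ℕ) : ℕ := (Nat.mod V_d q)
noncomputable def G_d (t q : ℕ) : ℕ := Bool.rec (motive := fun _ => ℕ) (nat_lit 0) (F_d q) (Nat.ble (Nat.succ (UU_d q)) t)
noncomputable def F_e (q : ℕ) : ℕ := Nat.add (nat_lit 2048) (Nat.mod T_e q)
noncomputable def UU_e (q : ℕ) : ℕ := (Nat.mod U_e q)
noncomputable def VV_e (q : ℕ) : ℕ := (Nat.mod V_e q)
noncomputable def G_e (t q : ℕ) : ℕ := Bool.rec (motive := fun _ => ℕ) (nat_lit 0) (F_e q) (Nat.ble (Nat.succ (UU_e q)) t)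
noncomputable def F_f (q : ℕ) : ℕ := Nat.add (nat_lit 2048) (Nat.mod T_f q)
noncomputable def UU_f (q : ℕ) : ℕ := (Nat.mod U_f q)
noncomputable def VV_f (q : ℕ) : ℕ := (Nat.mod V_f q)
noncomputable def G_f (t q : ℕ) : ℕ := Bool.rec (motive := fun _ => ℕ) (nat_lit 0) (F_f q) (Nat.ble (Nat.succ (UU_f q)) t)
noncomputable def F_h (q : ℕ) : ℕ := Nat.add (nat_lit 2048) (Nat.mod T_h q)
noncomputable def UU_h (q : ℕ) : ℕ := (Nat.mod U_h q)
noncomputable def VV_h (q : ℕ) : ℕ := (Nat.mod V_h q)
noncomputable def G_h (t q : ℕ) : ℕ := Bool.rec (motive := fun _ => ℕ) (nat_lit 0) (F_h q) (Nat.ble (Nat.succ (UU_h q)) t)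
theorem Fge_l (q : ℕ) : 2048 ≤ F_l q := Nat.le_add_right _ _
theorem Fge_k (q : ℕ) : 2048 ≤ F_k q := Nat.le_add_right _ _
theorem Fge_a (q : ℕ) : 2048 ≤ F_a q := Nat.le_add_right _ _
theorem Fge_b (q : ℕ) : 2048 ≤ F_b q := Nat.le_add_right _ _
theorem Fge_c (q : ℕ) : 2048 ≤ F_c q := Nat.le_add_right _ _
theorem Fge_d (q : ℕ) : 2048 ≤ F_d q := Nat.le_add_right _ _
theorem Fge_e (q : ℕ) : 2048 ≤ F_e q := Nat.le_add_right _ _
theorem Fge_f (q : ℕ) : 2048 ≤ F_f q := Nat.le_add_right _ _
theorem Fge_h (q : ℕ) : 2048 ≤ F_h q := Nat.le_add_right _ _
attribute [irreducible] F_l F_k F_a F_b F_c F_d F_e F_f F_h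
noncomputable def stp : Col → ℕ → ℕ := fun c => Col.rec (motive := fun _ => ℕ → ℕ) F_l F_k F_a F_b F_c F_d F_e F_f F_h c
noncomputable def tau : Col → ℕ → ℕ := fun c => Col.rec (motive := fun _ => ℕ → ℕ) UU_l UU_k UU_a UU_b UU_c UU_d UU_e UU_f UU_h c
noncomputable def PT (q : ℕ) : ℕ := Nat.add (nat_lit 2048) (Nat.mod PP q)
noncomputable def DT (q : ℕ) : ℕ := (Nat.mod DD q)
noncomputable def MB (q : ℕ) : ℕ := MM
noncomputable def mt (q : ℕ) : Bool := memt MB (nat_lit 2048) (nat_lit 4096) q
noncomputable def sd (d q : ℕ) : ℕ := (Bool.rec (motive := fun _ => ℕ) (Bool.rec (motive := fun _ => ℕ) (Bool.rec (motive := fun _ => ℕ) (F_l q) (F_k q) (Nat.ble (nat_lit 1) d)) (Bool.rec (motive := fun _ => ℕ) (F_a q) (F_b q) (Nat.ble (nat_lit 3) d)) (Nat.ble (nat_lit 2) d)) (Bool.rec (motive := fun _ => ℕ) (Bool.rec (motive := fun _ => ℕ) (F_c q) (F_d q) (Nat.ble (nat_lit 5) d)) (Bool.rec (motive := fun _ => ℕ) (F_e q) (Bool.rec (motive := fun _ => ℕ) (F_f q) (F_h q) (Nat.ble (nat_lit 8) d)) (Nat.ble (nat_lit 7) d)) (Nat.ble (nat_lit 6) d)) (Nat.ble (nat_lit 4) d))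
noncomputable def E_0 (t q : ℕ) : Bool := Nat.beq (G_l t (F_l q)) q
noncomputable def a_0 : CfsgLib.TC.AG Col := .word .l 0 0 true [Col.l]
noncomputable def E_1 (t q : ℕ) : Bool := Nat.beq (G_d t (G_l t (G_d t (F_l q)))) q
noncomputable def a_1 : CfsgLib.TC.AG Col := .word .l 5 1 true [Col.d, Col.l, Col.d]
noncomputable def E_2 (t q : ℕ) : Bool := Nat.beq (G_h t (G_l t (G_h t (F_l q)))) q
noncomputable def a_2 : CfsgLib.TC.AG Col := .word .l 8 1 true [Col.h, Col.l, Col.h]
noncomputable def E_3 (t q : ℕ) : Bool := Nat.beq (G_e t (G_l t (G_e t (F_l q)))) q
noncomputable def a_3 : CfsgLib.TC.AG Col := .word .l 6 1 true [Col.e, Col.l, Col.e]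
noncomputable def E_4 (t q : ℕ) : Bool := Nat.beq (G_c t (G_l t (G_c t (F_l q)))) q
noncomputable def a_4 : CfsgLib.TC.AG Col := .word .l 4 1 true [Col.c, Col.l, Col.c]
noncomputable def E_5 (t q : ℕ) : Bool := Nat.beq (G_b t (G_l t (G_b t (F_l q)))) q
noncomputable def a_5 : CfsgLib.TC.AG Col := .word .l 3 1 true [Col.b, Col.l, Col.b]
noncomputable def E_6 (t q : ℕ) : Bool := Nat.beq (G_f t (G_l t (G_f t (F_l q)))) q
noncomputable def a_6 : CfsgLib.TC.AG Col := .word .l 7 1 true [Col.f, Col.l, Col.f]
noncomputable def E_7 (t q : ℕ) : Bool := Nat.beq (G_a t (G_l t (G_a t (F_l q)))) q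
noncomputable def a_7 : CfsgLib.TC.AG Col := .word .l 2 1 true [Col.a, Col.l, Col.a]
noncomputable def E_8 (t q : ℕ) : Bool := Nat.beq (G_k t (G_l t (G_k t (G_l t (G_k t (F_l q)))))) q
noncomputable def a_8 : CfsgLib.TC.AG Col := .word .l 1 1 true [Col.k, Col.l, Col.k, Col.l, Col.k]
noncomputable def E_9 (t q : ℕ) : Bool := band (Nat.beq q0 q) (Nat.beq (F_l q) q0)
noncomputable def a_9 : CfsgLib.TC.AG Col := .base .l 0 [] []
noncomputable def E_10 (t q : ℕ) : Bool := band (Nat.beq (PT (F_l q)) q) (band (Nat.beq (DT (F_l q)) 0) (band (Nat.ble (Nat.succ q) (F_l q)) (Nat.ble (Nat.succ q0) (F_l q))))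
noncomputable def a_10 : CfsgLib.TC.AG Col := .tree .l
noncomputable def D_l (q : ℕ) : Bool := (Bool.rec (motive := fun _ => Bool) (Bool.rec (motive := fun _ => Bool) (E_0 (UU_l q) q) (E_1 (UU_l q) q) (Nat.ble (nat_lit 1) (VV_l q))) (Bool.rec (motive := fun _ => Bool) (Bool.rec (motive := fun _ => Bool) (Bool.rec (motive := fun _ => Bool) (E_2 (UU_l q) q) (E_3 (UU_l q) q) (Nat.ble (nat_lit 3) (VV_l q))) (Bool.rec (motive := fun _ => Bool) (E_4 (UU_l q) q) (E_5 (UU_l q) q) (Nat.ble (nat_lit 5) (VV_l q))) (Nat.ble (nat_lit 4) (VV_l q))) (Bool.rec (motive := fun _ => Bool) (Bool.rec (motive := fun _ => Bool) (E_6 (UU_l q) q) (E_7 (UU_l q) q) (Nat.ble (nat_lit 7) (VV_l q))) (Bool.rec (motive := fun _ => Bool) (E_8 (UU_l q) q) (Bool.rec (motive := fun _ => Bool) (E_9 (UU_l q) q) (E_10 (UU_l q) q) (Nat.ble (nat_lit 10) (VV_l q))) (Nat.ble (nat_lit 9) (VV_l q))) (Nat.ble (nat_lit 8) (VV_l q))) (Nat.ble (nat_lit 6) (VV_l q))) (Nat.ble (nat_lit 2) (VV_l q)))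
noncomputable def E_11 (t q : ℕ) : Bool := Nat.beq (G_k t (F_k q)) q
noncomputable def a_11 : CfsgLib.TC.AG Col := .word .k 9 0 true [Col.k]
noncomputable def E_12 (t q : ℕ) : Bool := Nat.beq (G_d t (G_k t (G_d t (F_k q)))) q
noncomputable def a_12 : CfsgLib.TC.AG Col := .word .k 13 1 true [Col.d, Col.k, Col.d]
noncomputable def E_13 (t q : ℕ) : Bool := Nat.beq (G_h t (G_k t (G_h t (F_k q)))) q
noncomputable def a_13 : CfsgLib.TC.AG Col := .word .k 16 1 true [Col.h, Col.k, Col.h]
noncomputable def E_14 (t q : ℕ) : Bool := Nat.beq (G_e t (G_k t (G_e t (F_k q)))) q
noncomputable def a_14 : CfsgLib.TC.AG Col := .word .k 14 1 true [Col.e, Col.k, Col.e]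
noncomputable def E_15 (t q : ℕ) : Bool := Nat.beq (G_c t (G_k t (G_c t (F_k q)))) q
noncomputable def a_15 : CfsgLib.TC.AG Col := .word .k 12 1 true [Col.c, Col.k, Col.c]
noncomputable def E_16 (t q : ℕ) : Bool := Nat.beq (G_b t (G_k t (G_b t (F_k q)))) q
noncomputable def a_16 : CfsgLib.TC.AG Col := .word .k 11 1 true [Col.b, Col.k, Col.b]
noncomputable def E_17 (t q : ℕ) : Bool := Nat.beq (G_f t (G_k t (G_f t (F_k q)))) q
noncomputable def a_17 : CfsgLib.TC.AG Col := .word .k 15 1 true [Col.f, Col.k, Col.f]
noncomputable def E_18 (t q : ℕ) : Bool := band (Nat.beq (PT (F_k q)) q) (band (Nat.beq (DT (F_k q)) 1) (band (Nat.ble (Nat.succ q) (F_k q)) (Nat.ble (Nat.succ q0) (F_k q))))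
noncomputable def a_18 : CfsgLib.TC.AG Col := .tree .k
noncomputable def E_19 (t q : ℕ) : Bool := Nat.beq (G_a t (G_k t (G_a t (G_k t (G_a t (F_k q)))))) q
noncomputable def a_19 : CfsgLib.TC.AG Col := .word .k 10 1 true [Col.a, Col.k, Col.a, Col.k, Col.a]
noncomputable def E_20 (t q : ℕ) : Bool := Nat.beq (G_l t (G_k t (G_l t (G_k t (G_l t (F_k q)))))) q
noncomputable def a_20 : CfsgLib.TC.AG Col := .word .k 1 0 true [Col.l, Col.k, Col.l, Col.k, Col.l]
noncomputable def D_k (q : ℕ) : Bool := (Bool.rec (motive := fun _ => Bool) (Bool.rec (motive := fun _ => Bool) (E_11 (UU_k q) q) (E_12 (UU_k q) q) (Nat.ble (nat_lit 1) (VV_k q))) (Bool.rec (motive := fun _ => Bool) (Bool.rec (motive := fun _ => Bool) (Bool.rec (motive := fun _ => Bool) (E_13 (UU_k q) q) (E_14 (UU_k q) q) (Nat.ble (nat_lit 3) (VV_k q))) (Bool.rec (motive := fun _ => Bool) (E_15 (UU_k q) q) (E_16 (UU_k q) q) (Nat.ble (nat_lit 5) (VV_k q))) (Nat.ble (nat_lit 4) (VV_k q))) (Bool.rec (motive := fun _ => Bool) (Bool.rec (motive := fun _ => Bool) (E_17 (UU_k q) q) (E_18 (UU_k q) q) (Nat.ble (nat_lit 7) (VV_k q))) (Bool.rec (motive := fun _ => Bool) (E_19 (UU_k q) q) (E_20 (UU_k q)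 q) (Nat.ble (nat_lit 9) (VV_k q))) (Nat.ble (nat_lit 8) (VV_k q))) (Nat.ble (nat_lit 6) (VV_k q))) (Nat.ble (nat_lit 2) (VV_k q)))
noncomputable def E_21 (t q : ℕ) : Bool := Nat.beq (G_a t (F_a q)) q
noncomputable def a_21 : CfsgLib.TC.AG Col := .word .a 17 0 true [Col.a]
noncomputable def E_22 (t q : ℕ) : Bool := Nat.beq (G_l t (G_a t (G_l t (F_a q)))) q
noncomputable def a_22 : CfsgLib.TC.AG Col := .word .a 2 0 true [Col.l, Col.a, Col.l]
noncomputable def E_23 (t q : ℕ) : Bool := Nat.beq (G_d t (G_a t (G_d t (F_a q)))) q
noncomputable def a_23 : CfsgLib.TC.AG Col := .word .a 20 1 true [Col.d, Col.a, Col.d]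
noncomputable def E_24 (t q : ℕ) : Bool := Nat.beq (G_h t (G_a t (G_h t (F_a q)))) q
noncomputable def a_24 : CfsgLib.TC.AG Col := .word .a 23 1 true [Col.h, Col.a, Col.h]
noncomputable def E_25 (t q : ℕ) : Bool := Nat.beq (G_e t (G_a t (G_e t (F_a q)))) q
noncomputable def a_25 : CfsgLib.TC.AG Col := .word .a 21 1 true [Col.e, Col.a, Col.e]
noncomputable def E_26 (t q : ℕ) : Bool := Nat.beq (G_c t (G_a t (G_c t (F_a q)))) q
noncomputable def a_26 : CfsgLib.TC.AG Col := .word .a 19 1 true [Col.c, Col.a, Col.c]
noncomputable def E_27 (t q : ℕ) : Bool := band (Nat.beq (PT (F_a q)) q) (band (Nat.beq (DT (F_a q)) 2) (band (Nat.ble (Nat.succ q) (F_a q)) (Nat.ble (Nat.succ q0) (F_a q))))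
noncomputable def a_27 : CfsgLib.TC.AG Col := .tree .a
noncomputable def E_28 (t q : ℕ) : Bool := Nat.beq (G_f t (G_a t (G_f t (F_a q)))) q
noncomputable def a_28 : CfsgLib.TC.AG Col := .word .a 22 1 true [Col.f, Col.a, Col.f]
noncomputable def E_29 (t q : ℕ) : Bool := Nat.beq (G_b t (G_a t (G_b t (G_a t (G_b t (F_a q)))))) q
noncomputable def a_29 : CfsgLib.TC.AG Col := .word .a 18 1 true [Col.b, Col.a, Col.b, Col.a, Col.b]
noncomputable def E_30 (t q : ℕ) : Bool := Nat.beq (G_k t (G_a t (G_k t (G_a t (G_k t (F_a q)))))) q
noncomputable def a_30 : CfsgLib.TC.AG Col := .word .a 10 0 true [Col.k, Col.a, Col.k, Col.a, Col.k]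
noncomputable def E_31 (t q : ℕ) : Bool := band (Nat.beq q0 q) (Nat.beq (F_a q) q0)
noncomputable def a_31 : CfsgLib.TC.AG Col := .base .a 1 [] []
noncomputable def D_a (q : ℕ) : Bool := (Bool.rec (motive := fun _ => Bool) (Bool.rec (motive := fun _ => Bool) (E_21 (UU_a q) q) (E_22 (UU_a q) q) (Nat.ble (nat_lit 1) (VV_a q))) (Bool.rec (motive := fun _ => Bool) (Bool.rec (motive := fun _ => Bool) (Bool.rec (motive := fun _ => Bool) (E_23 (UU_a q) q) (E_24 (UU_a q) q) (Nat.ble (nat_lit 3) (VV_a q))) (Bool.rec (motive := fun _ => Bool) (E_25 (UU_a q) q) (E_26 (UU_a q) q) (Nat.ble (nat_lit 5) (VV_a q))) (Nat.ble (nat_lit 4) (VV_a q))) (Bool.rec (motive := fun _ => Bool) (Bool.rec (motive := fun _ => Bool) (E_27 (UU_a q) q) (E_28 (UU_a q) q) (Nat.ble (nat_lit 7) (VV_a q))) (Bool.rec (motive := fun _ => Bool) (E_29 (UU_a q) q) (Bool.rec (motive := fun _ => Bool) (E_30 (UU_a q) q) (E_31 (UU_a q) q) (Nat.ble (nat_lit 10) (VV_a q))) (Nat.ble (nat_lit 9) (VV_a q))) (Nat.ble (nat_lit 8) (VV_a q))) (Nat.ble (nat_lit 6) (VV_a q))) (Nat.ble (nat_lit 2) (VV_a q)))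
noncomputable def E_32 (t q : ℕ) : Bool := Nat.beq (G_b t (F_b q)) q
noncomputable def a_32 : CfsgLib.TC.AG Col := .word .b 24 0 true [Col.b]
noncomputable def E_33 (t q : ℕ) : Bool := Nat.beq (G_k t (G_b t (G_k t (F_b q)))) q
noncomputable def a_33 : CfsgLib.TC.AG Col := .word .b 11 0 true [Col.k, Col.b, Col.k]
noncomputable def E_34 (t q : ℕ) : Bool := Nat.beq (G_l t (G_b t (G_l t (F_b q)))) q
noncomputable def a_34 : CfsgLib.TC.AG Col := .word .b 3 0 true [Col.l, Col.b, Col.l]
noncomputable def E_35 (t q : ℕ) : Bool := Nat.beq (G_d t (G_b t (G_d t (F_b q)))) q
noncomputable def a_35 : CfsgLib.TC.AG Col := .word .b 26 1 true [Col.d, Col.b, Col.d]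
noncomputable def E_36 (t q : ℕ) : Bool := Nat.beq (G_h t (G_b t (G_h t (F_b q)))) q
noncomputable def a_36 : CfsgLib.TC.AG Col := .word .b 29 1 true [Col.h, Col.b, Col.h]
noncomputable def E_37 (t q : ℕ) : Bool := band (Nat.beq (PT (F_b q)) q) (band (Nat.beq (DT (F_b q)) 3) (band (Nat.ble (Nat.succ q) (F_b q)) (Nat.ble (Nat.succ q0) (F_b q))))
noncomputable def a_37 : CfsgLib.TC.AG Col := .tree .b
noncomputable def E_38 (t q : ℕ) : Bool := Nat.beq (G_e t (G_b t (G_e t (F_b q)))) q
noncomputable def a_38 : CfsgLib.TC.AG Col := .word .b 27 1 true [Col.e, Col.b, Col.e]
noncomputable def E_39 (t q : ℕ) : Bool := Nat.beq (G_f t (G_b t (G_f t (F_b q)))) q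
noncomputable def a_39 : CfsgLib.TC.AG Col := .word .b 28 1 true [Col.f, Col.b, Col.f]
noncomputable def E_40 (t q : ℕ) : Bool := Nat.beq (G_c t (G_b t (G_c t (G_b t (G_c t (F_b q)))))) q
noncomputable def a_40 : CfsgLib.TC.AG Col := .word .b 25 1 true [Col.c, Col.b, Col.c, Col.b, Col.c]
noncomputable def E_41 (t q : ℕ) : Bool := Nat.beq (G_a t (G_b t (G_a t (G_b t (G_a t (F_b q)))))) q
noncomputable def a_41 : CfsgLib.TC.AG Col := .word .b 18 0 true [Col.a, Col.b, Col.a, Col.b, Col.a]
noncomputable def E_42 (t q : ℕ) : Bool := band (Nat.beq q0 q) (Nat.beq (F_b q) q0)
noncomputable def a_42 : CfsgLib.TC.AG Col := .base .b 2 [] []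
noncomputable def D_b (q : ℕ) : Bool := (Bool.rec (motive := fun _ => Bool) (Bool.rec (motive := fun _ => Bool) (E_32 (UU_b q) q) (E_33 (UU_b q) q) (Nat.ble (nat_lit 1) (VV_b q))) (Bool.rec (motive := fun _ => Bool) (Bool.rec (motive := fun _ => Bool) (Bool.rec (motive := fun _ => Bool) (E_34 (UU_b q) q) (E_35 (UU_b q) q) (Nat.ble (nat_lit 3) (VV_b q))) (Bool.rec (motive := fun _ => Bool) (E_36 (UU_b q) q) (E_37 (UU_b q) q) (Nat.ble (nat_lit 5) (VV_b q))) (Nat.ble (nat_lit 4) (VV_b q))) (Bool.rec (motive := fun _ => Bool) (Bool.rec (motive := fun _ => Bool) (E_38 (UU_b q) q) (E_39 (UU_b q) q) (Nat.ble (nat_lit 7) (VV_b q))) (Bool.rec (motive := fun _ => Bool) (E_40 (UU_b q) q) (Bool.rec (motive := fun _ => Bool) (E_41 (UU_b q) q) (E_42 (UU_b q) q) (Nat.ble (nat_lit 10) (VV_b q))) (Nat.ble (nat_lit 9) (VV_b q))) (Nat.ble (nat_lit 8) (VV_b q))) (Nat.ble (nat_lit 6) (VV_b q))) (Nat.ble (nat_lit 2) (VV_b q)))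
noncomputable def E_43 (t q : ℕ) : Bool := Nat.beq (G_c t (F_c q)) q
noncomputable def a_43 : CfsgLib.TC.AG Col := .word .c 30 0 true [Col.c]
noncomputable def E_44 (t q : ℕ) : Bool := Nat.beq (G_k t (G_c t (G_k t (F_c q)))) q
noncomputable def a_44 : CfsgLib.TC.AG Col := .word .c 12 0 true [Col.k, Col.c, Col.k]
noncomputable def E_45 (t q : ℕ) : Bool := Nat.beq (G_l t (G_c t (G_l t (F_c q)))) q
noncomputable def a_45 : CfsgLib.TC.AG Col := .word .c 4 0 true [Col.l, Col.c, Col.l]
noncomputable def E_46 (t q : ℕ) : Bool := band (Nat.beq (PT (F_c q)) q) (band (Nat.beq (DT (F_c q)) 4) (band (Nat.ble (Nat.succ q) (F_c q)) (Nat.ble (Nat.succ q0) (F_c q))))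
noncomputable def a_46 : CfsgLib.TC.AG Col := .tree .c
noncomputable def E_47 (t q : ℕ) : Bool := Nat.beq (G_a t (G_c t (G_a t (F_c q)))) q
noncomputable def a_47 : CfsgLib.TC.AG Col := .word .c 19 0 true [Col.a, Col.c, Col.a]
noncomputable def E_48 (t q : ℕ) : Bool := Nat.beq (G_h t (G_c t (G_h t (F_c q)))) q
noncomputable def a_48 : CfsgLib.TC.AG Col := .word .c 34 1 true [Col.h, Col.c, Col.h]
noncomputable def E_49 (t q : ℕ) : Bool := Nat.beq (G_e t (G_c t (G_e t (F_c q)))) q
noncomputable def a_49 : CfsgLib.TC.AG Col := .word .c 32 1 true [Col.e, Col.c, Col.e]
noncomputable def E_50 (t q : ℕ) : Bool := Nat.beq (G_d t (G_c t (G_d t (G_c t (G_d t (F_c q)))))) q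
noncomputable def a_50 : CfsgLib.TC.AG Col := .word .c 31 1 true [Col.d, Col.c, Col.d, Col.c, Col.d]
noncomputable def E_51 (t q : ℕ) : Bool := Nat.beq (G_f t (G_c t (G_f t (F_c q)))) q
noncomputable def a_51 : CfsgLib.TC.AG Col := .word .c 33 1 true [Col.f, Col.c, Col.f]
noncomputable def E_52 (t q : ℕ) : Bool := Nat.beq (G_b t (G_c t (G_b t (G_c t (G_b t (F_c q)))))) q
noncomputable def a_52 : CfsgLib.TC.AG Col := .word .c 25 0 true [Col.b, Col.c, Col.b, Col.c, Col.b]
noncomputable def E_53 (t q : ℕ) : Bool := band (Nat.beq q0 q) (Nat.beq (F_c q) q0)
noncomputable def a_53 : CfsgLib.TC.AG Col := .base .c 3 [] []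
noncomputable def E_54 (t q : ℕ) : Bool := Nat.beq (G_d t (G_e t (G_f t (G_h t (G_l t (G_a t (G_b t (G_c t (G_d t (G_e t (G_f t (G_h t (G_a t (G_b t (G_c t (G_d t (G_e t (G_f t (G_h t (G_a t (G_b t (G_c t (G_d t (G_e t (G_f t (G_h t (G_a t (G_b t (G_c t (G_d t (G_e t (G_f t (G_h t (G_a t (G_b t (G_c t (G_d t (G_e t (G_f t (G_h t (G_a t (G_b t (G_c t (G_d t (G_e t (G_f t (G_h t (G_a t (G_b t (G_c t (G_d t (G_e t (G_f t (G_h t (G_a t (G_b t (G_c t (G_d t (G_e t (G_f t (G_h t (G_a t (G_b t (F_c q)))))))))))))))))))))))))))))))))))))))))))))))))))))))))))))))) q
noncomputable def a_54 : CfsgLib.TC.AG Col := .word .c 45 5 false [Col.b, Col.a, Col.h, Col.f, Col.e, Col.d, Col.c, Col.b, Col.a, Col.h, Col.f, Col.e, Col.d, Col.c, Col.b, Col.a, Col.h, Col.f, Col.e, Col.d, Col.c, Col.b, Col.a, Col.h, Col.f, Col.e, Col.d, Col.c, Col.b, Col.a, Col.h, Col.f, Col.e, Col.d, Col.c, Col.b, Col.a, Col.h, Col.f, Col.e, Col.d, Col.c, Col.b, Col.a, Col.h, Col.f, Col.e, Col.d, Col.c, Col.b, Col.a, Col.h, Col.f, Col.e, Col.d, Col.c, Col.b, Col.a, Col.l, Col.h, Col.f, Col.e, Col.d]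
noncomputable def D_c (q : ℕ) : Bool := (Bool.rec (motive := fun _ => Bool) (Bool.rec (motive := fun _ => Bool) (E_43 (UU_c q) q) (E_44 (UU_c q) q) (Nat.ble (nat_lit 1) (VV_c q))) (Bool.rec (motive := fun _ => Bool) (Bool.rec (motive := fun _ => Bool) (Bool.rec (motive := fun _ => Bool) (E_45 (UU_c q) q) (E_46 (UU_c q) q) (Nat.ble (nat_lit 3) (VV_c q))) (Bool.rec (motive := fun _ => Bool) (E_47 (UU_c q) q) (Bool.rec (motive := fun _ => Bool) (E_48 (UU_c q) q) (E_49 (UU_c q) q) (Nat.ble (nat_lit 6) (VV_c q))) (Nat.ble (nat_lit 5) (VV_c q))) (Nat.ble (nat_lit 4) (VV_c q))) (Bool.rec (motive := fun _ => Bool) (Bool.rec (motive := fun _ => Bool) (E_50 (UU_c q) q) (E_51 (UU_c q) q) (Nat.ble (nat_lit 8) (VV_c q))) (Bool.rec (motive := fun _ => Bool) (E_52 (UU_c q) q) (Bool.rec (motive := fun _ => Bool) (E_53 (UU_c q) q) (E_54 (UU_c q) q) (Nat.ble (nat_lit 11) (VV_c q))) (Nat.ble (nat_lit 10) (VV_c q))) (Nat.ble (nat_lit 9) (VV_c q))) (Nat.ble (nat_lit 7) (VV_c q))) (Nat.ble (nat_lit 2) (VV_c q)))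
noncomputable def E_55 (t q : ℕ) : Bool := Nat.beq (G_d t (F_d q)) q
noncomputable def a_55 : CfsgLib.TC.AG Col := .word .d 35 0 true [Col.d]
noncomputable def E_56 (t q : ℕ) : Bool := band (Nat.beq (PT (F_d q)) q) (band (Nat.beq (DT (F_d q)) 5) (band (Nat.ble (Nat.succ q) (F_d q)) (Nat.ble (Nat.succ q0) (F_d q))))
noncomputable def a_56 : CfsgLib.TC.AG Col := .tree .d
noncomputable def E_57 (t q : ℕ) : Bool := Nat.beq (G_k t (G_d t (G_k t (F_d q)))) q
noncomputable def a_57 : CfsgLib.TC.AG Col := .word .d 13 0 true [Col.k, Col.d, Col.k]
noncomputable def E_58 (t q : ℕ) : Bool := Nat.beq (G_l t (G_d t (G_l t (F_d q)))) q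
noncomputable def a_58 : CfsgLib.TC.AG Col := .word .d 5 0 true [Col.l, Col.d, Col.l]
noncomputable def E_59 (t q : ℕ) : Bool := Nat.beq (G_a t (G_d t (G_a t (F_d q)))) q
noncomputable def a_59 : CfsgLib.TC.AG Col := .word .d 20 0 true [Col.a, Col.d, Col.a]
noncomputable def E_60 (t q : ℕ) : Bool := Nat.beq (G_b t (G_d t (G_b t (F_d q)))) q
noncomputable def a_60 : CfsgLib.TC.AG Col := .word .d 26 0 true [Col.b, Col.d, Col.b]
noncomputable def E_61 (t q : ℕ) : Bool := Nat.beq (G_e t (G_d t (G_e t (G_d t (G_e t (F_d q)))))) q
noncomputable def a_61 : CfsgLib.TC.AG Col := .word .d 36 1 true [Col.e, Col.d, Col.e, Col.d, Col.e]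
noncomputable def E_62 (t q : ℕ) : Bool := Nat.beq (G_f t (G_d t (G_f t (F_d q)))) q
noncomputable def a_62 : CfsgLib.TC.AG Col := .word .d 37 1 true [Col.f, Col.d, Col.f]
noncomputable def E_63 (t q : ℕ) : Bool := Nat.beq (G_c t (G_d t (G_c t (G_d t (G_c t (F_d q)))))) q
noncomputable def a_63 : CfsgLib.TC.AG Col := .word .d 31 0 true [Col.c, Col.d, Col.c, Col.d, Col.c]
noncomputable def E_64 (t q : ℕ) : Bool := Nat.beq (G_h t (G_d t (G_h t (G_d t (G_h t (F_d q)))))) q
noncomputable def a_64 : CfsgLib.TC.AG Col := .word .d 38 1 true [Col.h, Col.d, Col.h, Col.d, Col.h]
noncomputable def E_65 (t q : ℕ) : Bool := band (Nat.beq q0 q) (Nat.beq (F_d q) q0)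
noncomputable def a_65 : CfsgLib.TC.AG Col := .base .d 4 [] []
noncomputable def D_d (q : ℕ) : Bool := (Bool.rec (motive := fun _ => Bool) (Bool.rec (motive := fun _ => Bool) (E_55 (UU_d q) q) (E_56 (UU_d q) q) (Nat.ble (nat_lit 1) (VV_d q))) (Bool.rec (motive := fun _ => Bool) (Bool.rec (motive := fun _ => Bool) (Bool.rec (motive := fun _ => Bool) (E_57 (UU_d q) q) (E_58 (UU_d q) q) (Nat.ble (nat_lit 3) (VV_d q))) (Bool.rec (motive := fun _ => Bool) (E_59 (UU_d q) q) (E_60 (UU_d q) q) (Nat.ble (nat_lit 5) (VV_d q))) (Nat.ble (nat_lit 4) (VV_d q))) (Bool.rec (motive := fun _ => Bool) (Bool.rec (motive := fun _ => Bool) (E_61 (UU_d q) q) (E_62 (UU_d q) q) (Nat.ble (nat_lit 7) (VV_d q))) (Bool.rec (motive := fun _ => Bool) (E_63 (UU_d q) q) (Bool.rec (motive := fun _ => Bool) (E_64 (UU_d q) q) (E_65 (UU_d q) q) (Nat.ble (nat_lit 10) (VV_d q))) (Nat.ble (nat_lit 9) (VV_d q))) (Nat.ble (nat_lit 8) (VV_d q))) (Nat.ble (nat_lit 6) (VV_d q))) (Nat.ble (nat_lit 2) (VV_d q)))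
noncomputable def E_66 (t q : ℕ) : Bool := Nat.beq (G_e t (F_e q)) q
noncomputable def a_66 : CfsgLib.TC.AG Col := .word .e 39 0 true [Col.e]
noncomputable def E_67 (t q : ℕ) : Bool := band (Nat.beq (PT (F_e q)) q) (band (Nat.beq (DT (F_e q)) 6) (band (Nat.ble (Nat.succ q) (F_e q)) (Nat.ble (Nat.succ q0) (F_e q))))
noncomputable def a_67 : CfsgLib.TC.AG Col := .tree .e
noncomputable def E_68 (t q : ℕ) : Bool := Nat.beq (G_k t (G_e t (G_k t (F_e q)))) q
noncomputable def a_68 : CfsgLib.TC.AG Col := .word .e 14 0 true [Col.k, Col.e, Col.k]
noncomputable def E_69 (t q : ℕ) : Bool := Nat.beq (G_l t (G_e t (G_l t (F_e q)))) q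
noncomputable def a_69 : CfsgLib.TC.AG Col := .word .e 6 0 true [Col.l, Col.e, Col.l]
noncomputable def E_70 (t q : ℕ) : Bool := Nat.beq (G_a t (G_e t (G_a t (F_e q)))) q
noncomputable def a_70 : CfsgLib.TC.AG Col := .word .e 21 0 true [Col.a, Col.e, Col.a]
noncomputable def E_71 (t q : ℕ) : Bool := Nat.beq (G_b t (G_e t (G_b t (F_e q)))) q
noncomputable def a_71 : CfsgLib.TC.AG Col := .word .e 27 0 true [Col.b, Col.e, Col.b]
noncomputable def E_72 (t q : ℕ) : Bool := Nat.beq (G_c t (G_e t (G_c t (F_e q)))) q
noncomputable def a_72 : CfsgLib.TC.AG Col := .word .e 32 0 true [Col.c, Col.e, Col.c]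
noncomputable def E_73 (t q : ℕ) : Bool := Nat.beq (G_h t (G_e t (G_h t (F_e q)))) q
noncomputable def a_73 : CfsgLib.TC.AG Col := .word .e 41 1 true [Col.h, Col.e, Col.h]
noncomputable def E_74 (t q : ℕ) : Bool := Nat.beq (G_d t (G_e t (G_d t (G_e t (G_d t (F_e q)))))) q
noncomputable def a_74 : CfsgLib.TC.AG Col := .word .e 36 0 true [Col.d, Col.e, Col.d, Col.e, Col.d]
noncomputable def E_75 (t q : ℕ) : Bool := band (Nat.beq q0 q) (Nat.beq (F_e q) q0)
noncomputable def a_75 : CfsgLib.TC.AG Col := .base .e 5 [] []
noncomputable def E_76 (t q : ℕ) : Bool := Nat.beq (G_f t (G_e t (G_f t (G_e t (G_f t (F_e q)))))) q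
noncomputable def a_76 : CfsgLib.TC.AG Col := .word .e 40 1 true [Col.f, Col.e, Col.f, Col.e, Col.f]
noncomputable def E_77 (t q : ℕ) : Bool := Nat.beq (G_d t (G_c t (G_b t (G_a t (G_l t (G_h t (G_f t (G_e t (G_d t (G_c t (G_b t (G_a t (G_h t (G_f t (G_e t (G_d t (G_c t (G_b t (G_a t (G_h t (G_f t (G_e t (G_d t (G_c t (G_b t (G_a t (G_h t (G_f t (G_e t (G_d t (G_c t (G_b t (G_a t (G_h t (G_f t (G_e t (G_d t (G_c t (G_b t (G_a t (G_h t (G_f t (G_e t (G_d t (G_c t (G_b t (G_a t (G_h t (G_f t (G_e t (G_d t (G_c t (G_b t (G_a t (G_h t (G_f t (G_e t (G_d t (G_c t (G_b t (G_a t (G_h t (G_f t (F_e q)))))))))))))))))))))))))))))))))))))))))))))))))))))))))))))))) q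
noncomputable def a_77 : CfsgLib.TC.AG Col := .word .e 45 4 true [Col.f, Col.h, Col.a, Col.b, Col.c, Col.d, Col.e, Col.f, Col.h, Col.a, Col.b, Col.c, Col.d, Col.e, Col.f, Col.h, Col.a, Col.b, Col.c, Col.d, Col.e, Col.f, Col.h, Col.a, Col.b, Col.c, Col.d, Col.e, Col.f, Col.h, Col.a, Col.b, Col.c, Col.d, Col.e, Col.f, Col.h, Col.a, Col.b, Col.c, Col.d, Col.e, Col.f, Col.h, Col.a, Col.b, Col.c, Col.d, Col.e, Col.f, Col.h, Col.a, Col.b, Col.c, Col.d, Col.e, Col.f, Col.h, Col.l, Col.a, Col.b, Col.c, Col.d]
noncomputable def D_e (q : ℕ) : Bool := (Bool.rec (motive := fun _ => Bool) (Bool.rec (motive := fun _ => Bool) (E_66 (UU_e q) q) (E_67 (UU_e q) q) (Nat.ble (nat_lit 1) (VV_e q))) (Bool.rec (motive := fun _ => Bool) (Bool.rec (motive := fun _ => Bool) (Bool.rec (motive := fun _ => Bool) (E_68 (UU_e q) q) (E_69 (UU_e q) q) (Nat.ble (nat_lit 3) (VV_e q))) (Bool.rec (motive := fun _ => Bool) (E_70 (UU_e q) q) (Bool.rec (motive := fun _ => Bool) (E_71 (UU_e q) q) (E_72 (UU_e q) q) (Nat.ble (nat_lit 6) (VV_e q))) (Nat.ble (nat_lit 5) (VV_e q))) (Nat.ble (nat_lit 4) (VV_e q))) (Bool.rec (motive := fun _ => Bool) (Bool.rec (motive := fun _ => Bool) (E_73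 (UU_e q) q) (E_74 (UU_e q) q) (Nat.ble (nat_lit 8) (VV_e q))) (Bool.rec (motive := fun _ => Bool) (E_75 (UU_e q) q) (Bool.rec (motive := fun _ => Bool) (E_76 (UU_e q) q) (E_77 (UU_e q) q) (Nat.ble (nat_lit 11) (VV_e q))) (Nat.ble (nat_lit 10) (VV_e q))) (Nat.ble (nat_lit 9) (VV_e q))) (Nat.ble (nat_lit 7) (VV_e q))) (Nat.ble (nat_lit 2) (VV_e q)))
noncomputable def E_78 (t q : ℕ) : Bool := Nat.beq (G_f t (F_f q)) q
noncomputable def a_78 : CfsgLib.TC.AG Col := .word .f 42 0 true [Col.f]
noncomputable def E_79 (t q : ℕ) : Bool := Nat.beq (G_k t (G_f t (G_k t (F_f q)))) q
noncomputable def a_79 : CfsgLib.TC.AG Col := .word .f 15 0 true [Col.k, Col.f, Col.k]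
noncomputable def E_80 (t q : ℕ) : Bool := Nat.beq (G_l t (G_f t (G_l t (F_f q)))) q
noncomputable def a_80 : CfsgLib.TC.AG Col := .word .f 7 0 true [Col.l, Col.f, Col.l]
noncomputable def E_81 (t q : ℕ) : Bool := Nat.beq (G_a t (G_f t (G_a t (F_f q)))) q
noncomputable def a_81 : CfsgLib.TC.AG Col := .word .f 22 0 true [Col.a, Col.f, Col.a]
noncomputable def E_82 (t q : ℕ) : Bool := Nat.beq (G_b t (G_f t (G_b t (F_f q)))) q
noncomputable def a_82 : CfsgLib.TC.AG Col := .word .f 28 0 true [Col.b, Col.f, Col.b]
noncomputable def E_83 (t q : ℕ) : Bool := Nat.beq (G_c t (G_f t (G_c t (F_f q)))) q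
noncomputable def a_83 : CfsgLib.TC.AG Col := .word .f 33 0 true [Col.c, Col.f, Col.c]
noncomputable def E_84 (t q : ℕ) : Bool := band (Nat.beq (PT (F_f q)) q) (band (Nat.beq (DT (F_f q)) 7) (band (Nat.ble (Nat.succ q) (F_f q)) (Nat.ble (Nat.succ q0) (F_f q))))
noncomputable def a_84 : CfsgLib.TC.AG Col := .tree .f
noncomputable def E_85 (t q : ℕ) : Bool := Nat.beq (G_d t (G_f t (G_d t (F_f q)))) q
noncomputable def a_85 : CfsgLib.TC.AG Col := .word .f 37 0 true [Col.d, Col.f, Col.d]
noncomputable def E_86 (t q : ℕ) : Bool := Nat.beq (G_h t (G_f t (G_h t (F_f q)))) q
noncomputable def a_86 : CfsgLib.TC.AG Col := .word .f 43 1 true [Col.h, Col.f, Col.h]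
noncomputable def E_87 (t q : ℕ) : Bool := Nat.beq (G_e t (G_f t (G_e t (G_f t (G_e t (F_f q)))))) q
noncomputable def a_87 : CfsgLib.TC.AG Col := .word .f 40 0 true [Col.e, Col.f, Col.e, Col.f, Col.e]
noncomputable def E_88 (t q : ℕ) : Bool := band (Nat.beq q0 q) (Nat.beq (F_f q) q0)
noncomputable def a_88 : CfsgLib.TC.AG Col := .base .f 6 [] []
noncomputable def D_f (q : ℕ) : Bool := (Bool.rec (motive := fun _ => Bool) (Bool.rec (motive := fun _ => Bool) (E_78 (UU_f q) q) (E_79 (UU_f q) q) (Nat.ble (nat_lit 1) (VV_f q))) (Bool.rec (motive := fun _ => Bool) (Bool.rec (motive := fun _ => Bool) (Bool.rec (motive := fun _ => Bool) (E_80 (UU_f q) q) (E_81 (UU_f q) q) (Nat.ble (nat_lit 3) (VV_f q))) (Bool.rec (motive := fun _ => Bool) (E_82 (UU_f q) q) (E_83 (UU_f q) q) (Nat.ble (nat_lit 5) (VV_f q))) (Nat.ble (nat_lit 4) (VV_f q))) (Bool.rec (motive := fun _ => Bool) (Bool.rec (motive := fun _ => Bool) (E_84 (UU_f q) q) (E_85 (UU_f q) q) (Nat.ble (nat_lit 7) (VV_f q))) (Bool.rec (motive := fun _ => Bool) (E_86 (UU_f q) q) (Bool.rec (motive := fun _ => Bool) (E_87 (UU_f q) q) (E_88 (UU_f q) q) (Nat.ble (nat_lit 10) (VV_f q))) (Nat.ble (nat_lit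 9) (VV_f q))) (Nat.ble (nat_lit 8) (VV_f q))) (Nat.ble (nat_lit 6) (VV_f q))) (Nat.ble (nat_lit 2) (VV_f q)))
noncomputable def E_89 (t q : ℕ) : Bool := Nat.beq (G_h t (F_h q)) q
noncomputable def a_89 : CfsgLib.TC.AG Col := .word .h 44 0 true [Col.h]
noncomputable def E_90 (t q : ℕ) : Bool := band (Nat.beq (PT (F_h q)) q) (band (Nat.beq (DT (F_h q)) 8) (band (Nat.ble (Nat.succ q) (F_h q)) (Nat.ble (Nat.succ q0) (F_h q))))
noncomputable def a_90 : CfsgLib.TC.AG Col := .tree .h
noncomputable def E_91 (t q : ℕ) : Bool := Nat.beq (G_k t (G_h t (G_k t (F_h q)))) q
noncomputable def a_91 : CfsgLib.TC.AG Col := .word .h 16 0 true [Col.k, Col.h, Col.k]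
noncomputable def E_92 (t q : ℕ) : Bool := Nat.beq (G_l t (G_h t (G_l t (F_h q)))) q
noncomputable def a_92 : CfsgLib.TC.AG Col := .word .h 8 0 true [Col.l, Col.h, Col.l]
noncomputable def E_93 (t q : ℕ) : Bool := Nat.beq (G_a t (G_h t (G_a t (F_h q)))) q
noncomputable def a_93 : CfsgLib.TC.AG Col := .word .h 23 0 true [Col.a, Col.h, Col.a]
noncomputable def E_94 (t q : ℕ) : Bool := Nat.beq (G_b t (G_h t (G_b t (F_h q)))) q
noncomputable def a_94 : CfsgLib.TC.AG Col := .word .h 29 0 true [Col.b, Col.h, Col.b]
noncomputable def E_95 (t q : ℕ) : Bool := Nat.beq (G_c t (G_h t (G_c t (F_h q)))) q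
noncomputable def a_95 : CfsgLib.TC.AG Col := .word .h 34 0 true [Col.c, Col.h, Col.c]
noncomputable def E_96 (t q : ℕ) : Bool := Nat.beq (G_d t (G_h t (G_d t (G_h t (G_d t (F_h q)))))) q
noncomputable def a_96 : CfsgLib.TC.AG Col := .word .h 38 0 true [Col.d, Col.h, Col.d, Col.h, Col.d]
noncomputable def E_97 (t q : ℕ) : Bool := Nat.beq (G_f t (G_h t (G_f t (F_h q)))) q
noncomputable def a_97 : CfsgLib.TC.AG Col := .word .h 43 0 true [Col.f, Col.h, Col.f]
noncomputable def E_98 (t q : ℕ) : Bool := Nat.beq (G_e t (G_h t (G_e t (F_h q)))) q
noncomputable def a_98 : CfsgLib.TC.AG Col := .word .h 41 0 true [Col.e, Col.h, Col.e]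
noncomputable def E_99 (t q : ℕ) : Bool := band (Nat.beq q0 q) (Nat.beq (F_h q) q0)
noncomputable def a_99 : CfsgLib.TC.AG Col := .base .h 7 [] []
noncomputable def D_h (q : ℕ) : Bool := (Bool.rec (motive := fun _ => Bool) (Bool.rec (motive := fun _ => Bool) (E_89 (UU_h q) q) (E_90 (UU_h q) q) (Nat.ble (nat_lit 1) (VV_h q))) (Bool.rec (motive := fun _ => Bool) (Bool.rec (motive := fun _ => Bool) (Bool.rec (motive := fun _ => Bool) (E_91 (UU_h q) q) (E_92 (UU_h q) q) (Nat.ble (nat_lit 3) (VV_h q))) (Bool.rec (motive := fun _ => Bool) (E_93 (UU_h q) q) (E_94 (UU_h q) q) (Nat.ble (nat_lit 5) (VV_h q))) (Nat.ble (nat_lit 4) (VV_h q))) (Bool.rec (motive := fun _ => Bool) (Bool.rec (motive := fun _ => Bool) (E_95 (UU_h q) q) (E_96 (UU_h q) q) (Nat.ble (nat_lit 7) (VV_h q))) (Bool.rec (motive := fun _ => Bool) (E_97 (UU_h q) q) (Bool.rec (motive := fun _ => Bool) (E_98 (UU_h q) q) (E_99 (UU_h q) q) (Nat.ble (nat_lit 10) (VV_h q))) (Nat.ble (nat_lit 9) (VV_h q))) (Nat.ble (nat_lit 8) (VV_h q))) (Nat.ble (nat_lit 6) (VV_h q))) (Nat.ble (nat_lit 2) (VV_h q)))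
noncomputable def CD_l (q : ℕ) : Bool := band (clQ mt F_l F_l q) (D_l q)
noncomputable def CD_k (q : ℕ) : Bool := band (clQ mt F_k F_k q) (D_k q)
noncomputable def CD_a (q : ℕ) : Bool := band (clQ mt F_a F_a q) (D_a q)
noncomputable def CD_b (q : ℕ) : Bool := band (clQ mt F_b F_b q) (D_b q)
noncomputable def CD_c (q : ℕ) : Bool := band (clQ mt F_c F_c q) (D_c q)
noncomputable def CD_d (q : ℕ) : Bool := band (clQ mt F_d F_d q) (D_d q)
noncomputable def CD_e (q : ℕ) : Bool := band (clQ mt F_e F_e q) (D_e q)
noncomputable def CD_f (q : ℕ) : Bool := band (clQ mt F_f F_f q) (D_f q)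
noncomputable def CD_h (q : ℕ) : Bool := band (clQ mt F_h F_h q) (D_h q)
noncomputable def CE_0 (q : ℕ) : Bool := (Bool.rec (motive := fun _ => Bool) false (Bool.rec (motive := fun _ => Bool) false (Bool.rec (motive := fun _ => Bool) false (Bool.rec (motive := fun _ => Bool) false (Bool.rec (motive := fun _ => Bool) false (Bool.rec (motive := fun _ => Bool) false (Bool.rec (motive := fun _ => Bool) false (Bool.rec (motive := fun _ => Bool) false (Bool.rec (motive := fun _ => Bool) false true (CD_h q)) (CD_f q)) (CD_e q)) (CD_d q)) (CD_c q)) (CD_b q)) (CD_a q)) (CD_k q)) (CD_l q))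
end CfsgLib.TCFi24Yc
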