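import Cfsg.Agent.EqBase
import Cfsg.Agent.LibTC2
import Cfsg.Agent.LibTCGHe
set_option autoImplicit false
set_option linter.all false
set_option maxRecDepth 1000000
set_option maxHeartbeats 0
namespace CfsgLib.TCHe
open CfsgLib.TC Cfsg.Spor
open CfsgLib.TCG_He
noncomputable def SW0 : List (List Col) := [[Col.a], [Col.c], [Col.d], [Col.e], [Col.f], [Col.b, Col.a, Col.b, Col.a], [Col.e, Col.d, Col.c, Col.b, Col.e, Col.d, Col.c, Col.b, Col.e, Col.d, Col.c, Col.b, Col.e, Col.d, Col.c, Col.b, Col.e, Col.d, Col.c, Col.b, Col.e, Col.d, Col.c, Col.b, Col.e, Col.d, Col.c, Col.b]]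
def HX : List (Ex He.Gen) := [(.v .a), (.v .c), (.v .d), (.v .e), (.v .f), (.p (.m (.v .a) (.v .b)) 2), (.p (.m (.m (.m (.v .b) (.v .c)) (.v .d)) (.v .e)) 7)]
theorem sw_eq : HX.map (fun e => e.word col inv) = SW0 := lleq_sound dec hdec _ _ (by decide +kernel)
noncomputable def SW1 : List (List Col) := SW0 ++ [[Col.b, Col.c, Col.d, Col.g, Col.d, Col.c, Col.b]]
noncomputable def T_a : ℕ := (nat_lit 0x31ec87052b004121da6089413d273e64dab638830255231a4d1c841d39bc1571d814adeca21525ec80e72f2233ca3d9e9c7cbcb8930a2dc692902bfad4b56187bcf53fb227a09c38635d298984e767dcc364ed2f8a582f15ed7d739f47f3357c1a8d7efca16ca95e5d08bb4d377dbd7535e1f190dbe1359ad097fa81c07145b02473cafb9d12dd9be4f97501b6f7fc525f83546377457b475ab117dd5bf88435fec79508dc2d41b7fe6b8cc168ba8e574e5ee1fb4abbf0524136a3d6e7d5f732c963e2fa31c83a1ccd70e0edcc135da208c553d445e865f5930c7e47cceecdac1b3b9c1ef297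61f16a6d3aa5d1831157d9661ed528dcd2aa79ccb01b48be9bc72e4d9e19dadc53e7888d67314fb88c7a8f6fbd4ed956ccfd012dfca9e120696e226d80fc776d55f8f9b734df04ea41476bfe8e224eec157e9554027364ea59d60bc45caecb8b6da210fc7aeb71398955b6f4433b0437e90e9d367f710d686b7d7f4bf0c345a5e128e90de95fa790072e81bfa841b9e9a274e2774cb3f5517b2decb7b816f5b4d739305bdbac02dcad3e4d459e7d8eb2f17d426c7baa16a8f72fbd931d7270950f83a58c9df2959bfa8f82b2aeebf31eadae138f0e4b6d9b61bd89a593b5c7abfa9b460b6a11b628a35e2793b193054b554c3c8ea4847037c721286450b2249804d87362e1a7f27b93fe82d896d31f2c319fa42b409613425a98ebccdf968edb702a7e04dada61c9ef5ee89231d302694545aadb81167911e381fc8538016b0ffde66a09760f1859e293695551a1f5b771b24ca727e3ed9d6c56adeb24910b9c661c31dbbfde452419ec07e6f65ed2f9169686ebe48f617372871bc366a5f1d0777bd7fbb90922642f547e1558af3034048c53e0cb42a29df18b87169d83794f36906244c13b6de1eedfd108009b5e16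db9e0ddb085148a5f2d0c0db336442e15d0239a7e7132a31ac64b82e68f3a6e2edf3a663e0d11e46d9560914d8635af5a868b02b44487ecbca3d31d85dfe52a687d215af2ccf6e8dc2be976dfc9c6dcdbf96dcf35270ed9b952e18e087ecfb4fb9ab08e18497fd328ab57d7c64b73fce02a28c219848f3ac05feaf141617997926d3a1b6385c8c72f98f3270a64519437b9e13d89bc84ee7ecccbeb1a41446d8f97431c0c8b082d3447e830bb82ac334f91f2ca1f496a0dc979a3fea584d936ddd2f1d64bdd6035abb6a66645c799c8cb8f35ab0e51a7f44fe183b7fc2fe0021b5ead7e2b5dc4d88fd8adfb96843240fc0efb11621810ea703dba9d723abb8a2f9730f41cf2f9c19632a7a0aa5a025bc0087f7ab6eae67507c17bcd637aff50654778173c634c2b8daf88606cc1dc07d34b81a37d26598351f30be07829f7ba1a36fb5f8c03679091c4e6678bc99a5315700079cf1138717b2e1247dadec96f6a72bd9228d94222926c09e834502eb99530151f5dda4438b46cdeb836932b4816d3b3712bfdf714adef47de1b8dcd4ee726499fdb1912ccf4566e0d970d1eecef7302ee2d40e410d0036f8f979ce042c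798859be5d838f2ccba57069879ddee0142ba4537f06381494789f0a3dfcbe358a616cc7a9ebb2b62548a1db8e788a438b2d7b250686e28623ae2ad1dc3c20cd1200321c5a56b451b8c4857b3b129be8c6a265f1f1eab8b6384488dc604a9381e26eb191fc4a5d9d329ee499c4495c5dd328fcc9b810bb142622b3cbeedd37bfa91de9f5e12c3b56de84b4f22164d7a79cc54158b81795cabf53d2634d37dcdf6e751f644235973b29d4a069f67b0ae607318796add3b6e4fcc38c02efe3e42ce489d5c9a3a560236da20bffba2816721d587f3c3ea27a7d76faa80025a62d893eb9b42af08d60cf42a18fe2d4dfd7cddd97e11df7d90ab6949af45154c950cf62cfd3b7800f1cf22baa7d0c631c6075ee738d71570cc05e7b1ccd1bed29e8533b71d95a181bfd17463019a99537bddff4830c80e98978a4014c7c707faea9c27bf00f8f22177c6adeee7b202aea5f3f93929d5c895a7c0d1ce67024f31dfb982b370403e08e7616ef6ea43f181150f11b89bf56b91124fe98d7f5c13bbaf20fca2e50c2147d00806c931ebbb9750e5f81b40c930e0caf368117542f5400e852baa2e26acfff7e28b667a87b6a913043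36b37cdc3d835817eef1d15f657ea8023f314737ab957562b23ba15893760a7dd488062d401eb21de095589a9960151838d7d439d7c55304d08ed05d794075e02c508f41b0f604ec8d78327df4ab61de47a19360d866311b60958f66f03e85e3176cc04d8e081bd5e718c4860ab1df37f9555be2169e20661f4ffd6182e976f84bc9b49661c450db24ace6c0c6a636a35f8b5495c178bdf5aa05ded093e604cef2982867140fbd00ed4777c213982d9087b8b01155821e7ba712da16d0bbe22723b6be47db7a50249b8875c191c6c58fec874648bf04bbed1670f9689fb6baf8fcbbdc104403f2f448ee2446473234b5f20981b70e4bf31b6322cf17f7c298be46ba15cc6d276cbc69a9ef273f1acb8441a807186ccd439545f96287769b6d718144c657e41ed9a69af7b9e9a1def8cf5ca694ff97b2b2b1eafec216bd20d0478fd734e2353625396a907f7092b838b8ea579daedc8c2d3a683f92ae2c95b59e37c1ce1a23a140687255a9520c72a5a89152c5c165a01ea293e99df9e1e17d7cdda06ee076b78293a817bdc570b3c56c24a33b9379ed09513030e8538c71e2af8054cb130cee3982e6a753146b4396d3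c06487e5172ae558d05ce836bf88bfae0e24cbdb5ce777fce8eb08e0bd4187515016e7b81e4a72cc9ae4b1a8e41d9725519411b59ab74111bcc427c8baf3883b11add69b0f2b7f8b77fd55c4956f6d9ef6791b7be23bf467d5f337037b053bb4d91c74a4982aaf497f0f72aa9529de91485d492378ca4b2652ab2a5a66368884de59ee52314564e78e83096aeaf4ee109541116b75c76d8c6f171c8ffeddff0df8aee794aed3336cbab61a78d84cbfeb5c68bc6e21884dd538b12e7915cd4bc13f4b51797e9a70f6b5eafffeb0d046dff6e2dd1af3faea7fefa339f801b1d63ae9d2d4057e66a1cfac9a8f3b534d1291afa03b80ac6d0d3833cc100d2005fd080a5cf5e6b4cd49913d58b73e08fdad0f32470ea4f3a182af5b6d70ca8c55cac2b06d0a3771abad2c3228032b3d98f645785ef084a2e26d8144a86d5993a490556575af30dba5b9a77f7dd79f9222ee9d968a76a3b6a101f9bb5210e20cb3cdf7937b18cbd0425c40eaa6b43edf8e35d69af5d53e3cdf170a60c4add5209700f6da5122d83285f76c67012cb210c8172716a9ab66b255f659269b4a6714f575c210c9b633c5c6856ee63641eccb66e735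edc45b6f5607c1c2594ed28b05aeebf06c08ecbd1a8c76ce74c566765c8eeb1cd087246cf25ba8d03dac4d0a1f2cd5948cdd5b75a54709d427b4087a9dee9bd3426df63f00712a9fc5b40a746c9284133b516754ecc0f44f1664cb2da50c94e5ec2544e7f7fb2b9b8bdf84d57f03842f209752fc072386bd424621b4422496d6fe845df23d27bd711d0584e3532724050d10621d972fc49c6a3d12fb6a1035b29f7e9f04bc6edf928ab8fc1c6a67123b9149609cd0ebd428c62872993b5e6b071eec3afaf310fb2f316c9a39bcd2f799f02004078e0c22c586e5b609a4b7ef996c074fc62d7995c108fa2a18aa7d1e4238e5a0b556daaab13ad1f410ac75d0445d9fc1a428407e172ed6421fe6e6c459a0ad455937d371984a2d914cb803e3b93bcb62d18437482aca153629f3bbf0a36d181146e6ceb774c6c4b3481f99462a0911d0fb494ccc3f5ce6c55925e5e67f044c982c089cc9225c565a0b997b6e791bba688eda3c6dcec9f009d5b03d5c4f67b01c6149405e301c992f867fe7c27dd938a12206516719ce4aa41d03964922b48e1616c43d922113041abce8d14f9541e67f52b6bbadf4d543d0273ff054f4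d88c68466453c18c6eb310d6312cefcaf845cb2a79e8d7f9336135b5505305f36459c48b5770a7e33da7a6ab1270a3fad23a6227fade448069b5caa2cbb9b4f61df3b8ad2f4336c3eb7a651c655e3e0cc4fc0f1016bb690d7264974b49fa08b8b0e0c111448ad60de1de7f1a148caf704fa7b35a490e34b3dd2029e2c3d9264357a48cb6b282dd644d093899ea9eb2eb54a95981757820234e9ab55b191b41d70d9c56932f32117bbd16f7338b54f0de86638f04742e1f512b12f39891bf80a187d1e3b2479d0af8d10cfa2b4d5fdd34c7599ba76f1336fe597b947e6c6cfa1777fce3b3af2b66e105199e644be3c8f7a56279b29c6b70b372353728589d837b1f80b921064619303a13421badaf8abc5a7b9f93229e57e26ac6131de77ad8d3626361b2406a9f83292d58eb116710c9f6198f5bbc8c1134746d230ef54c11c4ad8c30895432664086bca23e3fc18031ee8db7f624979640c80d206ef1ed7317993d6a186e77f0b072451c245be9c9acc19efb9c96f4c21f79700321e3f4d43ca248f3f3af04a6cbc698d9de2848ca8543de4206abe5e46ce1bea98f3cb431fffb2cc6979153df2f17e86f8c10b47da5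8e753ce7a6f98c5be6e3792c977711f44e0a797843f28521caab28f2f289801dac5cdc4d2d24787065d530b243217222fd0268e19b5a6c0363ab084b5a1556d9694ae19bffc7099b02fd4a26c900157ab1090dc597302f4a8556cf855af29bf9d2069a0f8a5d4bda7deb1b8813dbf349b9495d9155cab6f4e642959bd666465f0aec75b47f9d66ce6d3bfd4b87e91ec17c0542e4ab6b8d176243021e7cae698194b721398e97275e85a1d38d8e0ac4511fe0b5f537e9e6ba17a423d7bd141badfe37671dc53f72f86fc9e82b7dd6f0422a5bb943573cc1c9aab5645fad51e6ef98c1927117f17c3c4f2fd67e15ee5283510b4574c0c6ee89aece0c8548aa71fc934687b81de178cd13712a0c62459817f9419c822eb4185337096cd2825c459db49b392cfcf62ef240cc117bcbc8a7b5e99c837536d294c265422931ba7ff25003861716b287e93732e05d50919df29a45f4450ebb6e880631e6eaa917ad0dd83f654119022a3cd0f1120d4c3ab50ed5c84992f60fe3bfaa3a5d7da76b46b577f54582e500c01bf04f83d843cbdaf79f5b3754b27211eb033b3c17dfe39918725332f7dbd8b335252432d4144efa379e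024e76100343f7c50a79b6c18be7ccc9cbfa5dbb9fce9b618d1549472eed3e30f2280b6bf417b00a802428f1a60a5c5747e1e78a3802257fd3d86a896e340308793d71608fe5ede13fcb76628bf054fc22c5a6bfdccdd1b8064c3da78f55f63a5ec3d06679a9a7d3a35aa7876fa031e8aa628e4cb2ffc10225b7f8ffce441c3bfe30e19b8f80f6b9c8e624a308ce7f42d2de1335ed6a2a88b5792eb5619cc02d0bbd88a33950c212cee017d694d8091740b6491e22e4408161dd7379c685d93c57d7276ed6257a75d5f0b13424cf23f3e13379c412f9b43a90aa1b85a527dc5ca681847db75d4e143a8052f1cb1ffabec840f10ae83c72edacd5ad657b9baf5a50ea0e208682b3b57310c92ef249d4b349e1435)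
noncomputable def T_b : ℕ := (nat_lit 0x3235f87252a1e1923dbd1c82803ef171aecad85d464ca20378106c613e1fb815247b1964ed66ff6f6e34ce070c64a591e1bdef462a37ade490cbfc6ea0dec03c0c4b3625193709d88551f8b22b0f84c613572f67d0a5a200ccb3923cf8f31fff36b7fa1d502e572258582a7a8ded4716ca0f5d2752af667d8c1c9cfe96abb8d6866ac2197c11272f3e4821e8e8bdb673c623118bd60617622ceb0ad88122f9a12b8660c4ec4de4163141f48e3828adee2e8c6b48ebda83fda754467752aa216e78e761967e3f7c472843899afab1e4690cae9b64fadd3d92f7dba3cb552a91176a9b08258c90b08f79832c24418a0ab5ef968d94b9810b47a13d3fd0bc86a0cc2caab0fee05ee61d050b4cb2ef347eed0d0de6eceeba22595df5914cf27fd668af9a9c17cc718541476c750f41484cbe2300882912efe97370cfaa40d5053c843e122a8fb566b0cd683733a348716607821e5d3689c6abd0215564c925610b152ea086746dd487353c14b26d105be1ac23b76db28da332f671d3eec57b66378468322d408aad53574d590f76b0ce9a38572f95aedd0d63bf89e3c9b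1aaf23fd44797ae10e2827969628cc01ff554c9296b7f1b4786d8d0eccbdfffb22092b3cf0cae593dc7e8641e947481b3fd313b2e94af395be69668ce70fa8f1489b668eaf1f035d45f85f53a9c1d3e77c5d86b0f4f4840fd54eacba9b581ef2f7f12405b19900b4e06d5afe1e24ecc7ce950434957d310141107f651927a0eafb634fade94af4ef2982c5da977b20825508c2a3e9f114448be4b14a8726de4a6fe3b16f948431db89ec39362f4eaa804c93633588376adbad89d582abb9041a12d3486d83fcf319d95826c283d9f5d6a3c4371a68935cedbc6d7ce646401df3b996677b8196ac90b1b76342dd550106035ba9fbfc810309c7a6c70c9a3d3f9f9a5ede61473a0fd4f766dc540cd11dd80603116532af07f8c2311bc034eb89babc7493a09811dc831acc788f41918b779349d21d803bd127d394d329076f630cc48af8d7b64fe79798cc77d837a9b0fec494acfd85766991e97eb63a9cce6334839d0819b25080571b7563b3ba6329b896ec1af2d7f16d1bef86fb6b0575751b623972eff833f7bf1053248c237833a59639494f10b4144435dc27b742d3bd9227c4e0afb85d1101424b223c6ad1a3c0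d3e05ce504f06789ee23ab3c4c7332abeb145ba2a0240ae5b8693c652df2141fd6aaf96975e0694fb40166facd26f4842bb78c87e58473e2b0661147512d5a742b765001f96600cc99f3bb71ce4dc69ad92c1c4cb0ab1e04828e526354e3e040159f268071dc104df1ef512a3d6c8ab0bd30797fedf4938363a20926ac9b9e9f28655bf5990b769c986b9d5bf4e4775852f8a33972b197f0522384a66c2e342ec4d8362007d27b8986033ccf389dc0f425ddb1e37d188c9e18a8376d89e921f36ab91f75ded8480ca7c7c95bdebb26dda87ce0e26420ec9f234015c9027a0aee4d5bc05fe1ffb82eba042400f10cc1cf94b5c6ab3bdc62bacd6f2302d3a767590ffae2e5cd87607d54adc0f00ba0fbca6341e7a7e6a7631707bfd9184c576ae23fedce71353487f54088ef625181a9235e92e4b6409364fce6207c987bfda4c1581f725d2fffb907688b2caecf7706910ed9d1632b52d541fa44fa283cf8adc272be39258843000bc3647973cc14242801d8df2e35c688ef90f594d13f43fb1d3b45669af97c23eb300cd9d4a3a8dc4a01d9ed472cac902c045809cd7327494be639283196d593f352b0ff6cb6f12193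aa38a16db89eeed612fec12d4cde04599703f1c6867fa565b533b9546194ca875f3489fc085a58c35b060caa1829cc09f4ce07e1d5a1a8ac09ad94679c7da4a5631c8ac24d78e5274d20b45ce6d7b785c22681d5d22749475ee7337cfeaccd5e3f786eff4b82bdbf8de3c1a444b1f73ae5a54cd707f0fb5573fc5a1217acedf841aab6c6b9b3b783d8ac550622b469d70d79933d802cd5158232033a166a10279da184091d6e837140cb2de37c443d0c4e56071557bdd6303905bc8d5c488964da8d8502bf1b44ced184076e7ee6929a3cbf278ba0a547158bd8bb6dfbaadd37879e647e70a1559fd4d123411a2289ce60f87080d45682e490a8df1f76fd1accbfbc6cab1d92910da8c07c76a94ab644cffc2dae45b4b1f8ea8ac1d310a7e2ae3e28578884d97d593813be650e8733efcc54df896bbc335deadf01ea91f57ac54da8b7644d4cd4b296d71df9b6e11cb5fdd12ef76d1df9a58fcaaf6138fba65c51212744069cebc32f55d77a45d9c717899dc7ba0adddf2d3e3477d9cd0c2fdb2184968930494431e4898f7d0d696a06be80091297beabdf356f1a481a7bace59bf64530b3bbf8ab54a3292d06bd1f8c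1ff890fc4b50460b967f0a509444132ddf94d2acc563d48c6e935679b4c5846262dfe2589680dd4c601f701df58fb74e88951028815ac90b8378b61099817c4d609d3e460bf1737e62d007ba4d2ec28a61b1244cd463ca61214004f3a1e67242e9ebe8847a7a035275e03e1a6a3086b6b7bde9e8e882940ddbcef47ff79d8e7140c53e8a5e3b6ef6efb5d15adc48b9ff30ea0bb341171d40f7503a8254d046e1373484ec684ebc9ecc9c9a5a59364766cfd1ff2adad75499656946a9ea47fe2e22991092995a0c631c8fc6d309bb33da83c73620a0f4dfc484fbcf970182e65b573bbaef059ea2c129e4632e1dd98b1bcce04a88725a639c8e6a3f9785951c8ade9df66409494f16c1dc73b6559de509fbcdf01105161df3b00c12ee53af576a729602bcc285877957e0a4d0a90cf69c2fb1052f696dfa79bfdb0050a88f638b303ff518ec4d0531be1b0216e88d64b885f6ebb535b335e71f095ebe46837da200417092d5bd27f2a5430cbb741b931a4431e0a6c1314c41db1ef6bfc8d6f23b13ee0fdff1a1b1ccd8a7ae9e803fbfbb86b8e94150b5efb681fd36919c7e02e0302c57a963ef40724639dbf76596ae86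5091a667688dd2d63c99d24f279ee73f44ba76effc7596b77e5f0ed49fb1958afaaa658307e4fa119d8c4dbc7adf1fee5480c4428bed51b01733e519d9de7802fb5c6d75ccba59cc145fe0e2e66d01fa58d310c73520619add2782e9e8ec02d2b51ce6707fb07a6c9f155817ae5e8382ace265063fb2477f13a93ffb5fe9dbc782549cf7e79fcf9054fcb714dab6fe5d97d58e6c42678bf787233e9001b25df1248acc677ad410fe8b399c724edc06a99e37c11ba16cdb1d7b777da9dbbd803823d1f92f6001aebeeed7988eda63c9dcf7677a8ae6816d1999880e334003d058abdb674b3ea5296932396b841822bc632e6dae7deb5b228cb01c82bbaf3ccc5bcddec85a53dc8f09f5f5de05d47aa003ccf31ef5b97fe7653418f67d969b5c3348901bb65419aa10aecc6e1103df97265c9d4e8d857ecac06f54bc4de28ff1f811c9212df6a05bcc8b876ec408b1ce23fb226db0d871b0a2a9e3606b8cdd411b3a151c35b32fe11813e75cc90f8a00534f6e0bfe8dd4d5c6c6b8f4411d381e26bffbe532b98b5d777e3aeb4f7d769639f21ae34a76ef049290ce166bbd6051ad396f16033d737a75e65c2eed6127cf69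9cc3c3d62de5d8e4b3257177994cdb1582e5d36bd6fa78fa33082053ffb5c326c1b67826e5da9024fbd7018776136c32672787a342644e282cd7626a8ef38e912d71546ca21c49283713351c9d076a0a5dfe04e94a4b0428b65c36f872bd51a18b2d9b70a5698a9ed7b0e89e7db50b3fb09c54117b338db7e0a5a4e112d8f11c4922c9d40e501a2c15c86b230eebeefd7fc3e01a974e01b35b4fc7d7ea521a5327adb5fca3438d5ff86714f73ad76e735394f59b1263355d4feb9a2e15474dcf78c56624ad04f46e4a54e588842d85b41f1770f8003b7b70950261d3187f3b7b3fd6d4c45965ac234692e8b30bee6e3dd420029c06e385527f0cf608adb99ac24f6b85bbf18c27aa8c4c28651106b60dae5315be63f5852a1bbdb7bd235f8b4a8305570c61e2f5ed59cf80dc8821c7bb07fcbd1d7f20a288e7807db4fe870b64a1587ff43dcaba8cbd62a8ded13b32e497c1db2853457d302bfb3e3d2564169c7a4156f8bedb51c277dfe2131df70e1fa3888a773bf085abc92f6f49cc75d219304b7a26813ef2103c4052f5cd130ffb500649bdc593ddbdeb0d4650848e80c7c3b136a516cfecd1f8d1241f4e08c5f0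fd5d1c49e6aeacfb76e2b0cca4610634d4481cffa6e9849502b841a01a8be01c2841c39881ef75141bd188d1dcfca1de67cfedc0b683f5483baa38abd13d1bb828e89d6b9914055e61f33d789696d965b69b16f7bee734b96a522bce9486b2e35a298644e420b64c1fd77847f9c7a1c678d6cdcef915683e6effbf791ad475d6de369df43c45d2db39d73e231b4b9a98a6c31c44be5cd609452d38703d4d60f3cafb2056c2d4b52875020ea714cd69dadabeb08ebd7fbec8cae37655f91a95d7fa4dfd4d708b06f4333eae5f733ba208f9d754af2996ac5a52ec29819c7d819df848026c24d38db30de549a76cc3d4f6595ce4a48581fc87c6d20e80c37cd60c1cc9e1a3106c1d8bb0f5e23bf2152a6ea957b879f89194ef6372873a4501963216390da69365e5a342a74d503f1b0d6314568f3269aac3e97fab977911c96dc4fb25eba1c054c9060f341226629919e642a243489d585ea0762bec48e2d7c6091f4584794e90517883111034ace4e830648f95e0d4d8f05507e76f42925a2f0579274cbefbb8a90a23df56bbd1f14819ea3624794137facbd04b3080f2342a3cc4536cde11c9b8d16c4a02201a6f4e45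10affda525ea3b6c153294750618ad27bb2bec8e1e470686c82acaf6eeff44f225cd037cfecd1f709483dd1e6c94f35a8326cf85ec0cbc633fb4a6d0ca26ad1806e5df7c017d8fdac91a3b25207a718ab6d7614a27a7298afbbe0e73ee7eafe94fe797b06be1ccfc059526de276540d18cfcfd2afeba1057cfbc76276bccec7e559a892105c62f803d8389a5f00407e4fedeb446c6a2ae2ffb835185ff6a0a7eea3104e2260d0ac7618ce1cf6af411f6245ecea5eeb090889b54b43c392e19ea42ff9d2d5a34111c8aeb88173214b318825077ff9f4737aac8a56c74bf29d33485f43c726bd8f02d154c027acf2c46b62b1a011592116f64d0c0ae983404114a28e7103922634acace5e99474c5d3bcb759bb65085ba1ce048ce0a3b3354fd11f8a7779548608f6670afe8e6a108439c5bfb6f0fc9c29df67154eeb09bc9e3df6f49350383e53dd82e18281dc72be3a2d8b05d148ee0542a47a6385dfbaff5215abdf184ead2539305da4d54a04095aa01fb907622e0a6d2f25b4067a6aaccef20cabcdaa8a22a4e01f819323a3ded4cf76e81ac1cfb5fba5956d2e7f6b4a338e56b4446c27fbb02cfe95105f2540c2324f42c8b498c8018f4c714de586ac46809598dcc66549b596dd6152880f16816cf92a36061d959d60e93bbbaa6384504b24ad4a74235b08c1459ca06d74d470ba8c466f4010a02a787444793cf5e7ee253adb0e9eca909c90779d8b7058b)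
noncomputable def T_c : ℕ := (nat_lit 0x2f5e6a763c96f2087e73b1804fccea6445dc4be6d59d92139cba1c2e562daedf463e151597026bb23d2f6939af0225bbc6f1bf1c9b10fead5a18a6b970404b0cc53e2930405cd2d949dfcf4be0d6e5b0dd3f0e47e61ed4dc2219ab46302f8b860ce00447f5df81ed2a081bdd976595f99bd36ea78936f9a0a345e3196680fc2cabd620593f8de18837fc56388f914407198d91555473764964e96f2a4f04a9e778cbbcdad507df073c2839126f39554dcfa181dfdad4d8d4e5d77e4bd2d18d5d25748036d97e24d545875ae9e3650dc902de681117d00269084c03746e48a4c3c24b29794536c7e5bfce6747845b696e2807682d45532286c3b4d1fe4a8ac9359236f63f689e4e757bae9096f5c516dca716943662edd5cb6916c8686caa681947b6149bd058047072447e8904b3cc172a46872d7b301f76a4d09b89a5f434a3906bb0bff384199ac2ad42c38f4810be966e905b3f1f2afd227afe4e79ca05675da30ba34cb26f16d48de6acbd940059d80c4c482482096b6bbb20acdf05c7f85562baa97a52f20297c2f90aad93ac986d9dd00e6308c6449f56d8b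ad39cbd86a2c984cfd3b3ed623d98032c77bad94a0dad79ac0c851053f68867ef9c67442f1ec73fbc6cf937e0da05d25af9e12fc97d85a8649091f249d5d0b3b92c27ac099eabff081a8a74caefae08de31766f5ddf88f80bf7f134c81979c19a79a4a095f53506262ece582443150efed493fd2d8cebe9217bbf4615fe06126fe19a0bdbfb76fa8130e6e900486f516ba003cc382c2a5e377d4e870de1e03b201800962ea8a5ccd248b45833428b53bcf4470ff0f8cf528c730b8c84fdaf35caf5e89c2d4d20ccf152e91df642e759c96b6ca266924431da662acc8846699815e142ac5b16a07795d308886ffdf63564aa07f07ea1fb4cdb19c4ddb4415ad92332442c652b739bd006a6b3cdb98c21c2a5971c8268bd60dd17a6b60d035964521b384471ede7fb94f57506ca1a6d54aae27afff31346f13839c72e3b0e8a535d307ea9b3b92c71233f58f7e16538384cda37adc278a86c135651eaeaa5d2fbe70d9eb51d5b4a57378fc8620dfe359678c5be73bdb826d3eb8e1f4510f276b9c662d3921f56aae53c192ad3e4d2bb06085fd0b4f3e1da2e735b77e9c9adc83429ee44fcc6ae0353064ebe912433f755a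9c0ea328ade7f36f7798ac2b34873ff687506b2902f274a2ac4a945056943a664a46c973a54b5a1ef281fe6c0ee509e55b601db0cd954b764af04635958a404239a8ee3b22453ff2bfd464b6070676a69ea032ecdd3759cb972880b5cb7c180140ef5bc916bae3021519f14a0645138555b457d6e9f47b5ae5cf7f2e75fe44aedbe885939b584274299d0e9b3d63ceb7efcaf823c4e85980f1eac48ee5939c02d79e8663903c60a800663c1f75dcc2eec4777cbc0f55805ef015ec356d5054c4011a28f9e10f84ab3c7f671d83c399af9af2f44cdeeca74d81b6b42df4f9feb8db9a4ec80a5443a703bf02e57e9f1df7d1b78048199359a5b425248ab12878a7fa18c28efdaf64c766f6117aba9f0bfb2f58ae889511968a9f695b2a1a7b429688955cd23fca59c246530922e66ad8ebe058f287f8b06597083d58e36fd05cfbd7695ab376f67d8457fc7e12491301326c671c10841d1e66aa6b31b01d9b9180333c35298abe1bb81ff79e8591d85297abf9cfb578bb7f4a810111f238b8bc024480c09ad06f5d3fcec0147ffca65f9fe8d86ddf3e109163dd457d6e31670d104993c33158831aa43423a0ad5a3c433c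65c6e189f68af37dc648ba30964a3ebaa1890dff934b0dc79db599b1fda299c4933480cb32effd1211a420961ecd35dc4dfbf142cbad5ddd689cf4a3bf853abbc86d3d9af1505e71049d60b028f6eb9772c94b0b58f46490d4676964f99db332c43b76be1507c174464cc9439c9dfbc39da07622eff09f6c017187232ce9f170dac3c96e31c4a24c891cbf13c160e29affde9ce5220c2808607f7c1abeebaec606cae761b5799fa020da48e504519a7fa2f4f040589a64a2bd3b87a3b10d337016ec040847609eddedf2178cdbe926ad277680af2335e1d1d9279e43c6997344329f1426f74994319ab7d43c1868c667568189d8578a306ea52cffa974d56ce6d46d9cae75964f88e70a091ab636298591bac5f6fc647e45ad7c6ba50f17a2a87ad6610fa80e6b836bed64352ca6924b5f66a557aba0befb835e2203bb90368fdd3412df39fb4485d9d0bf4830993a9dd64993f775b357662c94d9c4bdac51fb88963e0be9d9b6e4b024cf9f7f87f1951301b1dd29503a8fc1e503a4bd8652752f3a101262c2cdaeac79a82ff3f7098f817f3a07c8759255bace5ff4e02c208675611fbd019cf6e5ed3c4fe9463cc16e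e9712c36f0e68896c9160bde853c71aa463484967a9768ce2b601978ad81e2ee4974df84b1f8b5e7c1ffb968a3cfa99ba7f5d9a8093b79370f00e33a29bd1893157c9cd6308d9e590a4f67e4e9dc07d7312488bfe852cfa65563cb26edce4ef8a08aa91451f7484905e5cb03f60e1a9523f12d532d43b34ccbb78dc7c5f7d5816d8177db7a6a54a86698b0fbe43e015a3ac10684008c3adbd7dc5fa8e200c036ece6c15af9e6adbf2dd5c415b0a19ed82d349ee30d11da05b966195ebcda2bdcb2c3b301216720cddea1c86b752c39d07792decd96678c889cd5fbeda7ae99908f39417cc345369c40db10bad4005f21f7cd5fc7e3f32a45105e005a46d6090b9ca0f87dfdb048d0ad3e58f372dd974edfc24b440eb5c4c3beec77031457bc92d7c5617a9092fc176ad5bb2fca9118b4b17baf42c7b15ad6dcd84084a7aa91cc07fe34e00ce0bbd8eff522c2bb45d05f995479cc83cdaac3b9d2d3f0b93d90a6aac9fd67be8876957ebb9e3869f01673ac38d0c9599d279e252e4f3447b670f40da138a38fff605006efb13b1fbd2034bfabb92d453dc7d297e276e2adddb162ab1d33b270fd1c1d29eb72c586f5da14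d74ba4a03b644b7855a1228749f056451e64e6fd6522ef2b74721fa04b8031e0baa3c2ce511afb28acdf923c1e31d0213751ab87cdade25fb83561b44d2071bf69453a829c90000e203f6a6e4ebb28b6e0de871869fc19181f5d5274bd3a8eea7bcd8d49059ea799e15553be9dbd085816688a7ec6948a1a91fbfd091a820b4e452fc4a67262afe72f8618b741ab531ff2b207608283e29cb75406ead65fb72ce68a0308a469e40f41bde5dc947e8f12b133b54cc051ad91d95aee97ea733382ca86cb3168cd151b241dd7864c396b8cdf2e6cad5f2e4a7eb78f9fbf465dce8bb446c683d018e161beeb3cc24635ee01ff29859e6f8f537fe39929cf950c31284f3d8186fadff2c7bd54f15051fe5ddb09b8356211025f4d4cf8b836a2cf0066be4465d5250d4248d66181351a19287a08c5b6a7022fdc66e82c97e8a8258e4e6bf0b05ee4151093e1657c3b4dd7a009c0f9cab9b24151372f99e388c0075622da9ff8276737f156bad16fee68c54e5798dbc5570988f44de530935cfbccad2e087dd2e2e477e624d6a47a3790d4c053557fcc59cc3f489caf128b7e973e1b60013fee42fe06c37f827429bbbfdc653d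895bf384a3dc6bfdf830d0f8cd5e04fb321ad89e45c92cae116a077cce14e432ab720cd93e5637ac84b753b61daa9e15f47cc1465c3c811376e7ba4a46d440064608c75926e0346443db373b65a5750f320fc9f6207b67a9b0e64112d4be070c6e673915545bd986499b3c5a3a83c41a7212f490fb50d07f415e219fdac56bd31763eb344e458945f017ae4201eab47c082264f12ee8ec6eef47b5c337073f61fddd2af6efb23f526d9c69ede142f9d899c211c01b1e5afbe39cda9fb6508b48ce9246adb63b93bf32a486b42a826a67110847f54dfd06567a696fd3bfc5bbdf5fbcb9ef54b971ce0536319d98a86e9ec9634ca91119365c0468005f38371ffedc29965ce992eac30885ce95219482586c91c3e329d47c6cf1ab5e3c477a7890efa172b417da9a2ebb5eb24fc195eff7f8c5a09e6294bdf80b0accb14db371411df3e17e9754941200e79c8ec0c299f00d0710813cb76ff334b0355bf649fd3bd4efae24a313f4d20c2e740eef73db3a95d9974f4ca0c2791883ff12d65fa31fefd11f6c996ab713a5359f8ff08e351e75215ff167c3b73de5aad4469cdc1598a72c15d557011395456bce8f7b746636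0da188e4a26af5f66ec9581b7b72aca2ac2e91e84c3e4e937cd6ebeeabe3cb4743b5e4474d9c742f5a9f86380388639cc2ada6e2466fea2cd58e06cb9fd90bac596a7e277205ab834aa20f9e8ffa42cc68bac38432289ec6a2b0347ed1a93473dbe72925b737d3726641f95de847123ec67accc59ed7249e23980e045b83873d2bda9b86fb28fc40c3a89234bee1c017eb861e5d13ee03cf00d2e30d5a0187a35a98398748d716c7b5172fd2a55e272d05770d33a47d0c42b71c1a68f973920c844a2497b55096cafef0a85271653dece5a25b992ffd89e4cd645d914b85dc090130298909fa3503c5dbac50453ed806bf7e3bc7f2ecbd904dfa90fdefd73e3c878277c3850da8ceaed7997484fcc540e088a7dd2e90cfe264ebae4b9420d161f889a2906444c7abd6d964c881d7e83587159b9d0e2343cf0f4d8cdfdd591b503b8b8e4053da399d7e3bbdf75f1f6ea87aa06fdf60611db74d2b9049ff1046c06da2d03ac7b05e65261041f7d26a56ffa16bfe80e27ec66122d20475286c62d7508cfa56e6fecac342f3315dc3d84672f512a3a8ed80f595bcdb32fe5382a74ab391c8afe823f523e9b34738b31272cd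fd2bf48aac07a7c16f55d6cdd83373ace6e2573b7d995b3f96cbad02c206d4935d4596212e06db34a0e44ff7b4023a949b87ff9a0bf01731fc05545119cd8cf5aabf9699c1736df69fadde13498074cf251724eed67a83a37978963aa91cd5d12c9f195b3f59c4940bc33b4bfaed3773fc038cfc788dd69650e4ca7e9255ba6212850a4ec12b9c583cf0af3aa4b636c70edd0bf0308141969c0b18a1a924cbadd4a828dc1ae4491fc8c49726e42b6139d3e1cc2b161f31edd5eccb8bc99b8b99377db53647e00787829c67ac60ce19c03df97d40fedd66b4ec94949a6c1c2640c416cc18fe128e4aa11a4ef7623bcbf5e218f7b061d413df076251fd949cf1d1e2158cebeee78695bf4d64c0b422d0b36154b04d96243e3027d9273f092554b8d7ada454afda5f18a2aeb48a351ad527b1fc3779c666481f2fe15b10e06889e2be96d94e08580da614bc2ac9e91aa54439e34fe6f17468a68bd889fecaaddd81fc71f9df5fb7cee811a213cd94e42c6e7f5133e040e9b860e710b8f856e90ab3fee99915b00a3e6a0b4de220413e26443d87ba4d156bde1815b9c4c978eb2f581ae1032e6b4b8edf5028d798ed8052dc0407df6a762a7ba954bafee90d7d6d874135ca5ee0971cbb050e14853b4b4c8b876f989c0e9e1d3eb4ab77bcfd5d99fe4315ffc8bc32009765258cd783d7ce00e59c83c9bf51c5ae4284c60e4757162d3e5f7b217a9349e184e582f5a795)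
noncomputable def T_d : ℕ := (nat_lit 0x289c182f6ad55b73e5d50a40bafa7da78dacccf7bc374a919229f603167dc8cea0f57251583035fe1e84f44130aeec7390b83d2d22eb18dd865253b0e97da1825c6c557a05039c843ae45d1062baacd5146d1e4a13f6970032900908f41f907819ed68c5ece7da1d1d603f9ede3d566b52e9e0c16e2332955b726b169ccd72b100dbbd9f836acd727519139503c16521d0803bb31c1ce4f22d400a7997c0b4e2e510d71d6ac9be67c40f9dbfc20141b0f02e2e9240d54cfb836819f03ff136c66048f4b0b483d2db8d6a21698cb1f6573089683b64c7e96c70c963ea801365b4386289c8517cd9b856f991594ff6260a36f887dd9a1262afc59b82932857a07b3bfb3a1388a585ea04e0a330dba03015b27a6d4878118bbeb6e31a2464add4afef8ef8a2464d82de163befbd7097b4ed1423105091fc67b3804eda0cb3d6c7a22b28236fd4791c4ab74c134e9dae861fa796c2a1c766993c384ff36bafe64e784ac67841f30227a7341e9094b6bf0cb5da58eb728f416c34aaf0a809494c15a52d96d52604f789143b93c067afab0a3e50f4fc687e91b5ae1b9e30a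33ff1c8234a9b4203b18a480e4a015fe2824f998dfe4f7c092cc2d79817b3d302069a129f1fe152dcf8f6f0eb3e68a8cb7d5eb43bf5fccfb41d2b65531c51be20628a3320a1146d8e224e1ea92124314cdd912f34dd205ae672c83002678c07934021eb36100924ab3dfd3e0cf34d3b1909a52324a91290dd97af933d7818f0e9db6588b05075f9b76bb6accc259c2c61a39214bb40d5a45320f20764dcfa3a719f8f391a9331e6427b6b04a2b05575e1fb3757c79fc6851491ef0b318637ea34c29ee63cd361cbe2ce32935cf42df9997d4f0e53a0a474bee9895a2eb2418a894ef5cab8c138310757d547133a8523ef411e679e7b31d3775351e8ba6f12c0e7e7617e695c35e17d4bdfc3ca7765b4a2b5669a141a39ac1bee0baa47b07610f9eb24b3992ab9433516af520fff7d0a89bcbc908618f3840c844b8ba2c05fa1ff2a325d6a4e944ec0cfd4970e8934a4030b4c66117a3cdeb1ab82fd4dd8b72340d99d01066c629b51a7c8fc22af21843d9ecd644a24d3827779966d66861062dcef9c86611ff50597acde0aa91c7cf4649909006baad71ccd9c0460b536a0d78ae896c12e43791429d9c320c5df07620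a1586c651124ae8d28b5062903c1f2b9fe67794458ddeea4fc8b531532f4ff992605071c74a817a26cda45c363617d8d15f81f8ede771eb7f414f13b8948074a8e9f3d81ac32d0c3608b6c39448127565e16c2350be8b572e8282445b73c35d6f8983958f96d2638cff0d8ca174df6ff0de54bdf60785cf8e7c019fb0d23b6110f04d837e4f8cf53cef17824c6f57538468cb567c2c2174d6b3e30b056c317b9064a54782c86fd5056f6ba6900f93a1de58a33d9845ae64f89c059d2273de9bf84701e8abf897a394a35c5c9a968739318ee23bc10f842e436f65a7613e75be3393a65992a33ed965e1aa51119bb25edfe8325488021b5cc12226368d1ac763279f07b0d8cb0f5581dbd544339ce3077a6879a0ec44b9526a72a7854d69b225563fc6265a0505e43cc101ecfea902f1be070ab8c10007b490b00cbc46ee154a39796cb4ad9358cdca8066caabf4c7aaa33ef338d1eb119c8c6677a9392310c4591d45a8192c2c42ceccaa1029d4298c695b7d200421ba7bf9a5396c89d064aef516af510654006cd962d0ac231dbb166c0ebd49b4ba6e1b1c9347ec90aad70b89be223db7b656c4c503cf250e61a1b2d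ea2965847f867b3e891f3385de744a495b1906d957096d9268f6c4b9b6943bdba5407d710a59b7a10e1d7a3e4acba1379760d592df330abf19ba14d0f61c1cf987757243f3d2108b94bf89449bdc425091478a42fe7798819f411188aa67f615f81c0b3b28339a86049bd2b605a40c423220bb579fc6df2d5fa9ca53294ad829ecf63b3c6772047bd529192685c3651e48f7ad2ec991ba025e1a149521f012ae58c74cd12e07743b98865a5a90690aadf6617e0250f94216d2e86bc3f4889f65e3fd49cd3718d0f1808d40df376fc78e6e3ffe6b9845baf9959fac60fdd73c160f6df5d3fc5a2888e4de3c20943225913b57f550520f8f37869989ebd1bc6fad7e3af5e830826e6805f90ece39c82c92a57bc7acf5985341cc5567999735a6ec82f02e0996b1185e207ce8f33a213c7c52d48c3775a342ef792d8eecebabe02784fd3203444caae3ec4126de95559a3788853e46f3446232b81c8ffdfbeb0f6edc5d6df690e5c23383029b9a07ae58518b07e250438eb50ab2b0568e56c8e3039958bce1ed8efa436ce36ddb47bf02d5714e34772849a7adb59cfe5f96dfdeadac9428e38cae4401ffe5f140018e7dda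06120df4c778956b721effd334ce8db35780f986acaae6ac388ead494359675752ac2ce581390686788e0d6816c34849b03a17a3412ffbbb68bf1f105aa360fb27c4aa3a3e464649a05621aa50c5158ee27f02b41b695fd7d5377769ea0b1cc766b6e5655a0468d77688e1e49a26f6f350ce282169ea8cee04380fcf6b4d48fbc189dcebd5c8124f58e1afdaadd1bb5d12bdeae022537c9f21111bc646393361d3c3f48570cfaa5d20bce0516ce96e8f2862cdd18b20f12c7dba6862a44aa05b302902c27ccc09ed3874887d1b5ef404813bd37e68f4865b76cda8d424620f635fbecda6f7e31c3d1e63da40728f3eb8ab45896c99ea2b4ffb669fd247f596ecf826751407321d15244ddf18a38794d8b1580076d3314cd0740caeb78e90e9da9b9a7f93b75956fa8a1fbc3f9495cfacecfd049fa9e42011a31c8a94b59ab3f0f212557d4e764ee0eefc856080cfad9999c4a481366fd7061ee649035d3a6565479c703684997b6e3ecd7d7eaca2e5afb28e6323197e1d9238c2d75ab8789def0574301e8e190bfce39c7e6fe1e9e87086bc789b817ae1e0983efc7a1312d98b72aa1b2c2152654de92ede0680a69c5f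28d3da16ea6601c8ad95c52265d76b451c78d885604330d224961617a93391de3fd76a6611adcc5685aa47a520f409c8c38729df0351c244d20039d1a08f0c6ff0972c7d9f1426e04a6c52276f45d31e21097fc003e409f3008757733f12b3264f46ffa5dea50d8d7cdc818440fc37eb96db557fd4654333e20f45c758ba2923fe3c5b1f98730008c1505cfadeffdaa8233348386d6aca9a589edffc37ecaf3a850190f49a16022ca09acbea567d2f6ebd2b4ee3ab7e96cc0d168413c45d92629caaf32f10d92aaa75eaac88a4a7fa083c28c2861bbb2c7e463468756a93bc3effce7edf6ac66ed6a57cb0ae47508959f95d73b34bc59879f2a1e10096ab698884519ba8b515b157c1f35874a2c4305ef0011a24ea26607957c7f979126d20116f4c794e15d315939f46ec4fd42d9f45de151ba30c9359c8fc5cd0ca1c11e8b5e6f3d9fa258aaaad2fb5124cf28495885fa45964a6358672af55766bc8e49c084f3aec0584052a1a39113209db99fb640df8245422952ee43cac0966412c0ec92344cf2c8791696c5ac28e524322af69bd6e2b49279266a4462485d8266a19f1e3b5c44d21efcb0b303ba97ecdf65513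293c0f2b2a02cede97fb0f175fcf98aaca38c9f29f874dd8c88b423a5ea72aa3e8f0505282d3e10f30307bde51a74f5cc441c8b9f95518d908eaa59588fb79fa4d08764dd0629bd76843c96dd746b53a21077e00f459578f46dbb24d313a456b6bde535481f99795f436ea45469ec9f1a2d735e36f184899dc1dcead67ccc9a74dbf09acb9b8eabc40029ca77791437da0f407658165b5649f1630bfd15d3418f29b64051ae5da5ff5963bae601f92f99342ae510add2aa3d4cfbb7c6bf8246b8ed3d88d7ac6afb7ae30e96e3b57e1122f43c0e985ff15819beda23906fed96d29ae09740ff788768f7defc1267acba1119dc380fab77dbb0eecf6e6a31670e0e305d1f735120d6aa4f5e0237ddc7277bee273571aa3cf97dad08685cdae5f109f4f9015777a6c8ab076a17e33206fdea0be080d4979333c78d04f6e040ea4c65d65641b4b7a55c17d4b043107133722bc33839aa88bdbee1aba65fb264a1b027809830ba0eeea80eeae6f3e2b23301cdf18a996552d86f1182a6f33a9e8246c4a15313944fbaee963bc33f1fe70d115411f142f83c46a375f72c9e855b4704413edb78e55ea83d5c86d3fdd199bee3b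35e7b84cc0f72d5e80122674a86112b9c3e91e837f945ee9dbce55fbe848c73769e4a922d646061d1f9a0f296e33368169850844ee9109edadee76a656556c554b9d59e3a4872a0dc9c074789320bfb96dc4ee9cb9ab861ee9f1c1270e26ae0de7b9b385a169e890d5a1ee862507f031e0eff62607dfbe3b02fab03252b6046aba4c4f71543285e87a6666b7805f9c767f1e8eb50e3534d217c83f2dbb1c71fd4a54721477c915755ce7c12a12880d157a6780086858a05a19ee70f7427ef56ae8ec12a3b1f1ee69624efa44f222bc15eb76c568163f7a64eea79237be6cbb7a8539bd85bcb00edef971adf42753ac1de03db18aa6ecfcce8982521a3e41855078e370bab63789ab370f808157620f7a1d967e772e7732f0cf58bc9685dacaa9597290e677035155e872b9375b2d368c2447b5ee36bade6faaa29cce9137496395d2d0f48febb9af81c9e74ad42ff40927ec06f9c25e88193ba23d31bdc3928a6a076b493ec882c98bed5721bcaa4cb3b2e7a0b9f3349a9023831ebb4a829e83ff48be98d621b93cc933c61bf570008befd08ee9125386af87a6cead6bd181bd7c8496f873b7eb4d55bada1531214779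d06305f9126ce21fa80a5551911bfd65abd98efc6cefe55a7827f2ad8351810b3d0a642c69d581e7b840e49ad96a4fa36cc6d09858d9450ce6f3bf280f7cbd26cd49e763a29eb1cb86c167fcba71a5beda251579d36081569cf5093e7afff877c4b6cd79619e6963b5678ba58101c69c9a7421432f9c211e0a3f5d862dd319783950e86cab1293f91bc30a864572660068f4a52b94759442bfce735d7ee77f5f0c5f05714f4784e516b9a4f7e78f30cfa5058b9c788098ca3ea710aaaef452a47b1cf161a3981668aaf61b532834a319a8b93e6c93fafccfa285a1ccad29de457d5a20bd6f13d24ba51e8e5d05f707cf55dba230165de1776f23c3c2b1cb1a9c218d89cf870452e97ac0ce139669d3fb93ab708cf63e381a330c915226ec61a5410261d8c0ebda021e42ec3403c689760efc6b628d2c683acbbcd229199e50922468ff6ff8434222b251de4a4e86c172d1606f295af835ebacc75149dd0dd32719a85c0047329e4c01586620317c8c9b52593764db5f62de783d6c527508df1e70e2d3482edbf857c1c8b51bb5b653079316e76c6ff929a3ce20fdcb6faefe4de718b176f9243c2c179790ff65089a47ac1c5679c56574845be2cf0d08565477bc5136b62e0332649ace0f3c4bd476341a09f6ae78f2fc3e442141a598c30aa7ae060722b8d0c73c87364bc6cd0d7b79ff97d3aa991bed800b828c44891971f4c172be29910d8c2b4f763d5f1a39)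
noncomputable def T_e : ℕ := (nat_lit 0x2ead34abf7caa151e810cbb53aa1bd774cbea617622f2c982cc8a18dd0195622f5e8ae55fa86346cea392d4d0ddba3324af611211554d10efa77e5fbdd8881394c9f35573400044309cfa8ef38c9ca9475e7cde4d02f2e10b1ece93f0064fd140c1a10e9a7663add7edcba1df14c6538b07724022b0bac3a828d0ebf8165e68708823783a5b5200873c45d58cc98f5179784faf9b3c7e57be0f5ac5cfb72b7efd4cb8d011a5664f2cd6963cb49969649acc35b319d57d9d428ebf912e39db4dfb7aed3d22d7a5694091d44ba1d658aebc0134745318f4790e22391587f4d440ce7e4c55a6e1a2f343be7e9869731c2882dd7591db5508855bdcd96ad166e6fec9ab124c5df2fb393c882147e7c3785acf755cdfc98105229e89c9463cc869b94997de6124096890ad23b696b7d3fbcfe5293d651ef6d3994d85d43115b4568d45a01898189daefac1fee980010adaa5adb949302358a6de7e24923ba8b6a4575054b42f59089841fa27db288e4d821408432321dcc64a7a926a9e9b50b76d92c6a4cfd8ef72240a61e06cfda7c6e3d4becf102a1602afe25b7abb4a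03e7758144466fb422075041507434933fe6f2c1eb5dc460f9840a107b2fa9843fa7d1c2fefd800080cd3d94f39ff66d1bf7db194d894a0df14715eca943996316c252fbed0de48e466c1014c1e77f1a848b3c8facd15349fafed1f0cd3b449f461da27a4840ee031071c42fd0432223fa0f239e3c762b1fe324c85f0eec6ee6dc5d0b54abf7bee5c86f88ef899472633748e483126cdbc3c896242bc49838c6935e479b4e2661d7cb1222c95ebf6c03ec702515c60490db997920c8fcb767001d30a8712ec1d028b7c545942deea05eb6ac5483ccae1389f6ed255c1757b059c7c74ff8e9b5329139b21bd6466eebec5831b7a8efc070a5f3362d850866b443a8556daf4887b1803be36de8cfbdde242a7049b7084d1582fe0b7270fd54727ed1180969baf3797dcbb98935c209764a40c430b107088fa97155c03ba714087afed750ff41a31528396323e2a7c79a87f26b38dd64ef61fd37ee26bcc56cac14771ace818069d3741b9466c3510c6afa2b82470f202ca007f6daabb29f78519e1e1e5deaffbc660a7a2b01e6132e54b1aa6c4d43c68cece5b4481461b68fe2e39691b8a84bf99aa6cb419f3a57775556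eca02656a4aef284dc2d5b6b797c652a2758d6b3cf4de4b4800e7035e18d023f7dc473e15ca0e3aaff2889c239b7544b4ec530cf7a7301cdac21d58ab450bcf0555a7421fcd000473c320b3ccd4cdf179acf608c67c5ff2bc8d2e8ec9357e73fef86f4cf5f62ba0432d76cf61cd3fd4b91a282bede0fb985736b95ebcde94f04c4ece7ccae6db64b4ff0cb8e1c2c80ca08348a585040424940a3e319ddab1f5afb2effba965fc415ff2999df970a3ffa1e82a49fc419828de781d77ca6c460afde69bddb65b6e75db3668d7d26a9f0c72e2cdb963190d8076740b39e3803af1620bcf7d85b492d04a223b0092b11657760c38d78416d67de9d8ae9bfd754ecd1134b94f4d053b61de6862e7c91a28d9c7cda27ae7d1907120a173db2a10e34534aa005f93c1e26615b75da27f14020c2ba7566d57979e009b5a926387957292ad2f51393fbb249274cff7665e27309d19c7228c4ea0ba3b43d1d912a29f4952a5f29917f06e02eb69ed3b64f87d700600abe95641a1626f20868c9cc5bd9263933ca56539c56528a21151a50ce4598894d85e81fff44c9c5fc30904013aeb2051740a314768c720e7777b08b3155f604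c97ff281ee9f4465cf6015125a35c0541025995466d4f5c48a40cf411ac024a465e82d50a1647f30d68f0c872899aa1867a0a08ef721793d79a2a10d6a40c05a16984ee6deadbe72021a1815d0bb52570146e372fc39978caf5677e6ad3d68aaa7f9392b99ac683f38a5a1c1a2763f5b306982d754529eeed0cfdd0111bee5846ca6a5df1e1bb1bca85cfaa7d3808abc8348765f602d907986e6c55b8d6472e66b6a7f4ab63b8ac6a3daaf2ccc10fc1bee1eb36cde2df3a4d821a55c9b43ef5c8b7097ed93aae6f57cd2272bdbbad4d98fcf6f0a827bfcbf1c6521f40061ff9e60224db9d7bc5a91102fdb6571c3691b9c32016450b42a177aef20cd123add6f09dfd23af35e1d799538e9eb931f532481ee2f4c4f45da28fea2d84ef0bac5b96294d0c5227d32dbb00681a3fa2ec46db2f78d649306cf79d193f2fb0a64e601261719af736746c64304ab7dd3aa157955e8d810395a65752dcf87bd0f8f7d67e6d3be5e85b576b12197af610a3e6d1a25edf4eefb05e25c4116eeb470a88ac83a4e974caf19dbe674ea026a3b423efa93b27cb2e746f961021750208be0b36046263487e71b3138d18388e93ac68143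71fc26c85ee68b40eb9ca7a33ca63a0dd844bb367e37221a04d2c1fb3137e85ae5f51328d2668b5241f9dc159e3c525b01d2a49be6ff4a25a449fb9870d886f20fd54367ab9d06ee0954feb4857c3559daf456e76c41540cda9556eab7d7fb53d9459c1e8839c8c7e4312394a3a78daf73e25af6304a4532b3d63857e96db9ae1637f3b2c4d273a06feef19c59716b2777dfbc02bf6182061ad7f9bcb131b562101fefadf11bffa7f697d88158585ee671fa3841345409816c47afa1d4b57112de03b6dd6848b12a03a8d6dac5dcb4cb5a65e44ed83c1c6f5405a6181097ed55afdf4a8dfa0f5f983525c68b6be04a993ca63a74bf6c785d21d7739cf7db3073ee69676add43903fff7bd2d3f025edbd82422fec41ef102511297354348cc7bc4d3f02a515d84f90ee57043e9663f8267060af720dc5bf703150173777ee4136b47f0dc7046397e2645a4ab52092974c95ddd2ba9efca16df409d9eda1d8b4ba5d035a9ffc0a8eb86206b9cd7c8af42c51db0126bc3433fcdb0424b56e7942acb44e7799657d54003c5f03661157101338243a7875524f6ffcae68d1b26bc948a6e79e38d6f935b212774ea3284d0fbc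2f345ea8965af15c2a018099b6aed167ee9c7e8c51bd9655d3a260345ef4bf60f602b0a03849761070d4e7b59c4679822e14dbbae4c219a407f9fd0529ca7b80ddd20a17ab7c5d3994314d483242f05edbeba9f9ab14c93afa4e3dd9fe378f41d8b737546e9f3befa42854233a6c8000f5762976da0278521ca819078c9a4d86d74d168349a8f69572351882e43a2585d1c01181e0c2e90c6db6ed32b1ebc5ceba3ebbb27ed0de9255c018096ee55ec4ac54fd9bc38a7a12689356482a1003d929eb47337c6c8e997a48945d489d17a359902b13e8dac3ba0f41ffc4741ebde2056afd57b24f87f37253beb9eaaadf557a448746a4b6ec3f929bfcff088849e6cdc3c1540f097bd78aebc03e3022ba6346eb71855746d8eb393b5f51d80c16083bb5c26d2f606dd41be54633e38d46c009359f53ad5122163337177f10b05273e143bfef949b5ff416865f1dd61103b2c59c7259d6599e89148c8bf8c00523fe10c53efbe9cad85324af6aa20a902f03bd27a439bcdc5577b4079f6df4ea9480f81221bddf043d80532fd3794fc117dc1ab506ba1bea2f70b2dca5f40026fd9a5d3acc4618375258c1588da137766f3b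e29228623f69353d61ac3ccf3b6ac0baeee82b597957e558d4edfd92acb03d850e8d1278d186136a22d73d68fb7f7686059ae5c9274ecaf6a07bc843dd73809e3795e4d2a17c5c81b0600d70a39d6ee5b44a02947b4bbd5c226de9258a6c411fb63e77a2de3991447ed74c472639e08bb870a650d036b1ad393a0b31e52e676a5c3e182561e846f4bc2dd863b47a2bf18af22cec8425ce68fbc638a905ab2ea34acb11c1ba337355d160e54b8ea0fc74814ea2a5095678c754b077362fadc9d237e82001b70464ea2e544b81185fc7954be9ba5a5c9fc994bda2f0eb778bfd6b2880823bd442c60c8de042eaf64faf3b3fc08f5ae6c9ff582c3d8735e248caf9c44f21ec702df8f046a83aadbd85c1f9fb03e392c31676b8bf2da3d7d43ef5ad23e4b3fe2e790bb7354fc4ca95051a3d72127d13f166962de0c72c1416cdff75fa14942c4d69f5f405b4b4889170206d57ab18d1e91a9e22956c7ea39c59581a57b1040faaba508d8a3cbf4ff09c24b88893d4ed32eceffe3a2c16f24efc25f586ec31718f78bedd58ac891059a1647f4c433eb657bf175eeff7707db56469957825771b3a86ca31493163ea6affd6b6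a851d7eb7e71b27e7ded90d9f7f5afaa96e7bee96a190dbfdddc525842b491f0345db889dca78b8cf3e9c1778fc2e5f2ee4acf06e7d6a262cd2f819721390e2aa5198e260b6041a874c87f03a902a2d8c5ef2a22c695ecf7df61004df48ed5a08b4dc2abffa2839322bbf15619b0a8b1ee3e6f12a7cd038afc97b0a69f6889ed5eb70aee3652ad56618b6fffb2c380a8af2a778285ea56818468938f5558796b84519ad80b13ed6a1b88589108e31b8dbfb720fc343ebf2507e1cde162c78d190c40a22079ab6e2ca7870b3b1cf10bec97993a2f51a8690d2207107d53f98ce650154ce0b5e5d35758c11f2224b744f42f5a6597ade2e50a3b1d9ac9dabb3b7eee660c944d798c394cc3d9e25413dc6fd6928ddf0b56ea4cd6b8f14e412087946ab6ad7161a84403125633a4258ff6d2a76f7ff358e9906cc5b94849c2cfa2e127da3c75d4435611f0daab029d482ea393bcb29bdb55db41410a6a305a8493e9e36b024b176b2a8dbfa4988c732c06c8f27659c62a636498f6b0607f0c712d50f83e886c921495f822ad99ffaf55d0387afd392707c65755b16b24557dfb1f01d92741aad2ce5d793c1f8530d30208b5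2055a97f4823c8705795eaa0f0ad975544d79656f6b320feab68d8df63013a944727622d9090e47ffe41fb77369edcf562b5a298caf14e21cb65fce8b24906cd4a6add43d811c4757c65081e9c2b9e79cda5c6bf6311c73232f05e9b1d83a5cdb01b265450ab2b52d684864709f086cd33d2573f9db374a0d4061d39c7ed228fada5ed31fa68ace82f3b74d54c4fe502047191fbe081d3a81a7fa85370953baadeeec10a2057b68e80f0fc67f7a9d6ce87d44580ee0ee3a2ddf3c63f0c1e5a4b31f4d3d63b5a608c8e46bd2497cdf778f167be16538614b9eb5281f6e13dbbba66bd5ef604e7ae3f290dc9d41328d69d4f8606ebd5eab73b8ba9f0a058185ff337eb9b13df9eddaf26f13f584e7db2941d7fdcd2de15f85336d1c88818961dd4ec512a02cc64a42b6b633f20eebba788b0af63486f936a9a08a759caa9ee49f923c3af5ce95fd27448ba6c706f98c1eca7039779e430cfd6ab353e8fde3b157609088ce54163eaec8657ecfd577b774c2dd8e82ade7f842462925572b83829e684058ff59224af4e23437ac309e5890f1101fec864a0f487db8b354b8b95a23186f2dd2396b9cbc85f04537884315429b0de12a368c8b8a6f405f3afd9d044108a78ff0e72477ef50a210bb7fc0f3764fb3d72340dda6c36d685e6e9f1864e7cd2868f0db08f10ed46d7ab3398423287b3e3ac347716b9ed093f68790d91ad5a9c46511922d7a648a81d0ec00826)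
noncomputable def T_f : ℕ := (nat_lit 0xdd8f1964350ec900728fe924a5771e1be360102e818775cbf8ff2990a153e13a97e8d545a119bdd4bbd2eeefc5ca89165950e965e4e75c7f03dd4b0b13dbd21f5422c73786a9391ce5c33ecc20b15af2e082e57962549e597eb3b5d3a7426e7631f07dda89124e3985b5de361f90c1cbac1cd30874b744eec6bff2b7ac670bd074bd26e0aad1622674f9328807b2d49a2f7a9ac6e6d39b9040ad266a43768ca8742ab8f3e4697eead2933c5c5e080b5762bc4fa784d7d393dd1c7b05a5418c2e0262ce413414773dbc66944d9846e7c2c660fc2a7f77e90cb943782f69ff0e2f2feae94308493ddfcf10eb48e8bd756499b86fcc4501b289d59ed50bbcc1b331e0f0257d7d084e4d25dd9e125ccd6e2b1a5bb7c8f62ad25420dd9023a7a92b46b7872e56d7acc267bd984c29d10b08219d5250a9d1f66be44564259d1e11463ea782b3c605cde43fbfdabc8f77db6978fc875a83039227228979dd612915d0cc80b0548d4850158bc6c32705b6bc4f97d9a22974907c164bfd54e4ecdcff95e1371e72dc5b8fe29950c5a824342684da25627b590b3bf7836ec8c9d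40206b549696fdd2e505bd2fd2771b3413419e55e8d1a581a0de88aa4ec39e1e0ba8d5f2b403f4bbdbdfb75bad9a462e01031e9fa9b35e39a00a64a8cae98c1e7a4faf3140a7adc8f515566b59b79f70fb50a900b57a0ab4e3cd4747202318cacaea6f01dc2a7e8d31650a5f9e63d4e5f975a6222844e9d1b9c39e79d88c85bb7d489d787c3509496c7524e8922050a173a575480b2523b47a57f4e63efebd1166d13f42433300df68fcff9b92f38ae0dfbd71b8ff29826d9e0583909cd37df68090309ed16c9d98246c52c442b3022597bc5d2491ad1ab5783b01d8a4008f81612adbd1bcd588e9737d876e26b9a0d9d73ec3d3852ff90f617af0c518121c723d936f0d9d335329e610c1a68cb45e70d04f12824de3edef2fac1d0ef1cdb4e0e3431bd7fdbba8ee128e2a201982204975157d340a48c5e9dfc890eeb4bbffee4e9b60dff1a25a16feca79a57aed92a36f9f7f1cb6a68f92c5ee6b7e7d5952302f280ddab0fc41f64235c47fbe82fa689333649dec871d2146742860277312fae15666b95f11b559279c1ca94ed9565d240cb9aae6913a103b6a607b06c35dd9052a60c06858bf3d24a3f34de852fb67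25ce4fa9f158a2fc4073a9aa142ef93c166be683a65e744d83498b0545e292a76d659da46ea20b2f5ecc441a174ce81cc70e2a5854eaf10d9b2aa5d3284c00c16e5af1f07f1c325ab787a563ca68be9c14a98278c2b3a976721550ed639623b818a196cbc04b1dc85403436e64f516de65a7752f3abb672466d313c41392193f1e7b6b88c0fc1e9fd19129500b6e537eb5463fd3082c64c180489832f5a8bc0b176cf90c60675eaa1c39aa454217dcd5c1bce1da8f66a2d32e18bb763eab5df092c4dcb766ba0096d40afa661e3a79d2b2134b6b80617d9b2604a3f801fce27ba889c3472fe56f5524b43d398f9e8c1e94f48bf5f68efae6102b7d9e5a16f1d1c359295bb63b9fca7e7f8f8fdfd59b66217bf18e14dca8d42a25486b97decfbcbd385042cf344d382adf84bf653ad02a10177bf811e271997c315fac98b742ebafe3f1b45abe36c11485c14b455badb997ca38150d8b1944726a8d8dd6e08609f82706e7f826bb368cccb5db1990cb1986fcf9b9185497b873cf66613d4111be9ba6720f36a3ac88b389d24a4e9ea8a2992a9c51335823c38ee712c5c77911d58892bc6d1ed7f7d1270270df9826338b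4d53084884d67e80d0d1a3c15de2451cf612234655585772600a0a1c048847d377472d4c7e6ac7f6bf98c2f73b213c807fa3b59a851279b0dce41d6ba9de60b629eb1e094a7008f7efcb7c90a4aac692ce81929c73902ec2db3caec460ede2a78e7726d167f8e8a086979a4b39d9102e45383ec0577e72e792b8792e2168597d80a407df545d79fd32048d6d521174962cc0cf6e8d5eaf929e5abc0dd00a478621265fccd406ec22b384fde6f2c68876f965111eed26f0f4ffbe8addfa4c169d80a17452c38338fc3b5e86879d87ea9e5e71e73c1a939beff59f86fbd61ae2e0101221a3cadccd17366e5b1b4c6f0877a7a298991ed91b8d59cb5c2853c07ea7484f2aad760a8497e6340db651e3580092f0ede815c5ea6be7dd1550de929a04a791a9a518d08382c04c6d2e2193195c5466f3ffdc81cbde3e26057583e7b16bc8783538296eef6441541fa7aa3537ef3e61dd078881050f529064f7540bd6e323bedb9117498e98894ccca86b7183936d7a2621f2d8e81ee3a0d6b9536b006f6d842525c4d021a5749b81e8ef85d2bf114095645a385abc0c55b56aa7192017b8e7e0ebba37724bec804b540dffce6a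47a0c22ba5acfff484a27f668bb8b0cacc20ee037d9de69104a6214ae2a3a40530ab68d67b4e70b1185fa1e088a04c9086665d023aea0995814d4fabfa41727da210f7a6cc6d27d541aed441e94252f9d2d12d8df82f630a1daf2f0e3d940e1d9003ea3e0ccbee3972a6c6a5be565d6014c4ad0791ffc40331538c8e3732998617bf59fd66430d72b890c014966d6e5c94cacabfb27f1944a5765a51b229f951d7a1241fede53e66281ec7b30a7802286e70c2fbcd6708b3d8feba452fa1112dc74ac809e8cdf5fa48dd327db3cff60680b38d643dfaec1c67e8f7b251ff572427474f8f52c09e9cb02457dc98d940accda2a513d468174f37407632c26ea36ad4d90442f2430586547aff8c2f653f17719714c733f078a1426057236d2e08079c530b70af0701513becef68e2c5f43a1fc0a8f68e46ad0972bd7c71156398682fcd1600707bf7d44fcf263d9e403921cec6a3f9190b7bae55c68ef89c1e106675b3ec58105b4f253e4ee956193df429249f30f3a845c6f9411f7af65e0e77315e27bb42406d26176a3d55f4661adf33381d1a53511e74ab55613ce5e3cbd6037a09469e8aa86b074883b386fda7ccf2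e4fcfb8db209ede7ab915580c0bd3ee672240c11591d991d597975353b6a6e1a0b3f4ebed0d2d821931fe2675270b50039341364dc9b614a7525f2eee591e768593cd37b6b7335358771c824aecfb04fc0e36607f8d07d9c8b259d90abd1911b5bb1f8f9e10a285d7bb8eef63e25b83d31c7ccdb16718ae936ac3a3d68e37b537a1df9a999e3ea908be56f17648cf89243c6bb0127ad468b829535834b39a80cb04e19f967743da011c58854573345de038dec5524db36baf7ae3dc1803e79e32e12dc41f6081ff3841167bb0342547e35269d0b85a4ac28d380e6533884540b0b75ab88ceb64a613c724aaa72129cffc4fa4524b11b26a2cb1d0f422f55fe177cb1fa07469e33cfb110e0a3812f909743e076082aeed296e7930c9e848148126b146136e491fa6d7bea8040126c132060aa1239999ec4d62867bc102112406414557e0b97f6963fbb5f36ce594ed252550cb48def6576b5aa8d33915a708966e96d619b529637b9fcc1169e81982bd063a2d8bf619430ef9867e8177d96f6e84f8754fc1f6f9fc14ba44a876b84479ec92d42e331cb7c1afaa2bdf985c1f3547a596f81a28cd92eae1dfddae1014ce2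169074d7c4ec95df33861a3caf388bbcca35d215557b327cc22c6015d69e479181132def0d6507d93c15041bba5e72a8619542581f230b5aa388313247514929f032b5768b94b3036246b28a5430bc3012551dbf0caddb1ea29b1e1481a4eb243934d79968727f461aa1ae4d915690849e0e8ef9e20636514bf21ec06f1556885e8bd88b59a1c6825cb837d9cc90d07116c43a2f4f668d734480a1cf880f65a206d83cbb070a7c4756aa3a743029cfd762b7fd9351002b4b1066b5ae6728a9213fcf2a2a0ffaf1127069688c699fb093a2439d34a5d3d08bbecad73e367ad6d9228fdae9e96f98ae8a191d6b7357e9e3237c063cff0e9d191b26a921aec7f1d52bdd38097aea85c608ebaca6ca156ebabaccd053ab289aa9bc478c1eed7dbfbd99ee0b4cf02ff91efb704aceabee19b1298b13998e426379e47bd791bc5c6cda507b0bf667d826c092a750217294841ef1ce5a06e6d49c659f419da5bd5dc24e1196b589548a8f9d6a0adc5b08d91db5cdc6b419562b83350fd5bf3e66acbe4cc01a8463e2a890f62e670fa3d40c3417ca3e838aab5715c824b6250d5c47fe94d878b24ea8aa159a09f156fd4252ae2f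bb8096adfb59707b55fa69b4a472805682462c0889e5a7fcc529ca58d7125a8141970ba3aa9e531883389492aed1851b884e56c7e21fb540de14422671b935d99cdbed50b4f6ae0d8350f3322f0f42d6f1ea07ee4fba98bdfc24fa2dd7763ed57cfb57e703bba54cbb1bee4f8530f0909fe5acee21ad04d6b99f9d35a9938f16253fee877a40c9ec938b44a1d75af184b6729b828f86c0a2fd64edd2b8959f3bcaec486d72d6e2736672247b654cb3067d8d20530ff47e2dc6d10d605b9d49008c3e1a1afd8c081c7b997071fca2413f2a7630dd9b42cb7f991900d8ae178b475e1ce551c388100655a855d8ed0d065a1902dd55b8f96972d56ce88d83893afd3e5a26bbf97761f597cae174e0bc48d9a5c7ab45d606fd7343ad63814931bc6f0c12b2807c3450908bb523ba16404487dba843d78cd2d7ae6bdcb0b3a08ce7e43426ebf1367752bd638bd2478e1ffe52802e578048798bc6ba46fe2baa573048a5c41454b975fad10f18bdf582888e8e1eb89e6a1fc1cc5efeebdac472f600c6407785d3314c7bf93e60f9545269d2ff5d61ea3b43005cfdab853bb8d76c43b8b97e1de4f78010fb4e333c43006ca5f6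faddcc978df8b5015df2564e749b5c5af508c58847a8519521eae7d1c2b9a1022fea55cd4ecfb5fcb148cea757b8874d1615de65e0ee3a40574f3d6b2bccefd62de264b71f9a2cd3c23920491b952de54c7e8b490f561a72a0c5d21112795758ebf293490f0e930542074bbb90230847febce4ab29331c591c720031c1f4dc0bd971a090461ad7b0aee87fd072a9b51dd6d723efcb8b4cc0ea9d5a79846242f1929ecb045761f4b91f5b7af4f8a016e74d0591f27a409dde9a4d8f5f9fe36a4ca387be7d83bf163a3cd17145ed7ebdfc6c130f39f75e1c339573ef47726d6629bf4e824a71dc928a7a4ab31b1765ce5629d0bfe40fd3fd0e09c0eca4cd223792ac0a46206e549b7cee7ecc030cc19b20f2b16406b0827caddc7f70a31bbe9f8d2769e06807dbed785618e22272696931bb2da311de5d8b8c8cbc0f2d9a12576ca56eb4f34461fd7dddbe9d91e407d1442cfc19f0a20fe8e85a815df1f0c8d4a0834aa6f403268d078bee67ed8128abb2ca255e46b682d68db3440b485bddb8bf51682751fc13a409ffe9e9946588f90b3fdd5a671e1678cc5c2d93b439c86933656992ce5b8dc55b0facd6025a0acbc87974a80085f8c347134edf90a6e8efdc9d5c2b640334c10d2ff30e693991dfde05a456828b160bc6ce4c8d55d87631a8358c60699c7d0b87a5a438d1595cf803db54e7b9621ef3f5a6a51e658e2ba0d14f16765b878a3cc011759d03cc5)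
noncomputable def T_g : ℕ := (nat_lit 0x2adf2056fd74e952ab47ae64345c75ed8d6508bd5e6837944057cafb5431e18ad404abe5d792452b5dbda6690d580bd561062652993928c27f8f8c84515fa6a7e2b616ac1d3a8c519655fc59820a5c37c60c15fbf21488bb2fbd2d7839fa50eaca320557757fbb1c28ce2e55830763962364bd264fcf0db54311624efaa69b4114320a130bc7d7480aa9ed86f3081b3a6b476603f51bf1f567b47393eb78578694291e64432b95569a978880d281621348fa9cc9d66dcdf460e5996f6f99a07f3d43d4827e4ba4429c2bf535a1f73acd3c909283d3363a72e58cd8c3e8e52a1de7cd844c987a755cdfe30c736ba34aa0950f4ec3878a4b5ee29e2522b1c6691191839720fcf73348fbb1d47d8bf7451c1c18d1b657a7bbb212187f5f73848acc32fc23528f46a8a974f14f1168ae4c7fee2d65309092cf3eadf8f79da84cab5981e1bb7903c4559b5de854e0d37ef1b2eb610b5936e4ba87de24571ff81b598e8f7228734c058b35efbbbd2cb49f5d2adf7ce5488e6d7f00b14cd01abd00ec2d6df8b3349de62e94bb933960c8125aa43a022f938d3223794833921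0ef8edfa6c21635e12c4bfee41f378a8c5c082058f2eb25ecd362fc0f34414f890b7564d7c702c3b345e99cc2a16a393d2efebea4ed7247fb42b7d6161550354793279685d146a70ec5d3ff0e15071a1c14f12a94152d8c70e3d6d8a6c60841798866d466f94f833f7bac0d5f17619edda436c558862d53f2c749c83ecfb8e040dfc2bd6008af7a5e641362e4c1fa761f8655192b3b9616c0dca7c11711706d20302fb5ca52f0950fb55785b30ca54946dcabf81cc11065cfbf00c5508fa9ff85eb7fda96705d60ea96d2f336c5b9ce1edfd1624eb3453c3b2b79cb98e0491f7a287b2e84d95b2b231a33ce651a5f8c462da883c6b2d563bdcca01c176ca0f80a709f05c766cf3cfb25eccd78ed550ac5a3a6e9fcf38114c9b065b039a0f07eb081b84e68929c7b9100946b115e712a18ee8e708c2f5bdbb3c1e5500531f1c8af4dda452d30997e21883087e28bd2489ab6ad9723abe5c6101bd96ed266521ab6795f0d08942f98ee56a78864c8af6f6850bd704d98c3bb602df2f0fb4e080747228bfbb3d3ab99c2d67172e5b2aacc05101d91340291117fcc64b398f59a3520e59182fdc8b809e87db76809a4946b6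9fa5c11578812706504ebd30eec4bb6776af2bdf9bafe1a40c22db9c5ffa4813d30b2a333e64c7e13664bd6780fcc9951729d51f362b4d77db13a38f51f29b30dcc10d3e7181ab3b31a86cfc306f329d55a66e6cda258e7326155402a75330fcb961f5a52abd3ec552358f607c4eb237008d5e18e0aece9ac72e66041345e4fbe2024a07c2f0888a4435eef94c17f9958c92ee8ab57b2a6ad1024328bdd96713d647e8f2fc442c6402bca6d1f3e220753a8e37bac3c757ad7ebdf8213e6f01baf8d34d787633323f572ab0bca1bcfffa78d33a019c4c8e4f0fe6b8122ffc7ce564e6c6347e108ada514a63c32af4f0f8e0fd5e89c2110d4d11c093433640a3998012376818f992bff551329f6e30d65462cb38e1a383ef8280d8a3b4289ea1a15a23e63e7c2e8463091896189985faa5ba4fcfb77eca2e0d6d227f5f6ad1f22223722b12a1afdc36cf733331bc374bf1dd9483632afcd974be6cb96d9ee139c7e783842d1529b24d3097a71a5728b61dc85de6d812875ce0691423c665d0789fbbcccf48b3974230fb796951abd25c40bb8fc413346d4c2a4c36a7a213af5f4a4147f2b0e832a6f96bef23cdec0b05f0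c675ebcc53d5985af1f1941dd37998ba860aad85e9439dd40476b4522a1376853daac85f60cf3bfc8d742aa001b38e8dd7334d4a92228448dabf74abe7021177dd80807875573a48ad796692332d127cbcacf78faccc125748c373a124d0e613bff98dd9ff93ebdeecd8870e50f10ad4195e05785add39704e9e3b478d382c6e6eeae6660f14fd2ac76fd56324cfb1ae357c1fc671b50acea42a300628e1e9df4ae921de3b7efec9991845376f93122a3589aaa4ab878950a4dd02e497cff0f80c8e15295491238acc062962c00dd2d4f224d40969ef06f8e41dc8fb8bd14594fce1d5e77ad242e16224a798f3175c13ebfc01390263ca0bb17acebcb5ae8acd66d9621ed52732a456d7a9a5aea0d38f4fe92a0f6f9cb2a1e70de941b85c5670772856fe72647cc3f299931945ac5d483519b42e776dc01d950fc34d34982bf48bce3406d2c0b9972fb47d37216fd64bd495a9ccd11f8f43242b9979b51b0a43e543f1ebb69e3b99791fae77eab1f5c2a22ef247542fd3286ef809a24bbb234f0d40d3d50bbf0bddb2fad3d2ee84d26259c6e32aa8e9c84a8b49d35b882b0e74d01ffdf6be394e244362b092cebcc3b2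5ab8104296bbab67e1bb720f5f880b9bc00733e215f8dc190a2d410feffb7ae07ad019b2138d1d4498bb6dfd2476e071b9351eea42673f6564461ce351c84a9ca3f5e707fb40f47aad4c793d90f64ad181a7842c26208e802ad2b89be67c9626ebe8f841142e3fa86e3d91f180474a248a384d49b35b7e3527bc2a177d98056fe1a15bf6656dab33df9c38af0646d9e09329c86cd8e896ff07e2c635f88d24303cbeee6f4e6343755cf896fa5bdd222f6cc0b4b9447284b9ede968ac26e9b6783607839f8c960676a60b381089483be470f77dc93fac4871f6313700504726cf194cda15723b189417a0b157c6930ed3674e761e7ef8431599ce2c1b597bbe054a10b555e64c5cefbe10a16ef2763f021eac7bd6a9d46ab55d34e5abfeaed4f679c040da94789860d51c64db85a7c706ca6098a8e47bde5dce47e50493d3415260cad5a7e19bdbcb62d12749ff7ec02c70be02c81722a7f5c79835a430a97674306d0ab1816942d557fadb9e93573e75fb65e799a61a58627483a8544bda54cc63210f9d3ab7b2150dd8fc36164fcee4c2cd25d1d22da8b162981dd562b1e5727ec0e1332326c2f1c67d1d79f4cb1eaf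2af3ce0d5a349eb8aceb22c78f2f57b29882e8614ad8c03434991adf4b01951065af7f5a9409961bfeec0b27e78e76404c1b46fb911b3b8f8b3d74d4ecd868cb2b9c1c0788ef4e070ea24e791c2a7a259243f34bab311262a8ec65cadacc7a098fa8123c0772b766693f26a8138f2f9ed29f605f00c6a55af09bdb9cb834dc672ac218bb9262c3fa1beddf627ae3548da6d9d7918ffc1aa2235976224236d1188a667d3a41d0159dd8b201a2a159443c7565a0235ed3fbb72ade88f20ba98965675b886ddb5c8ee7190eb3262e6d218009e7320cd3c6dfd47a6716c2c052a520666fb6290f88d342041b7ebbf3437d9e2abd41f239d9745ebaa3b2efd00695ee8ba5c4005f50ab9de15c56449be5bb0f62b5c5ec949f06b245204cbe525de56de08c83383acc539cdd95b0f56c530ac1e369f0d835afe5defe2ac99b7069cddca5951ce6cc54772e27084d440a48efbb07be1b5cdac04597ebe8d86069fa258756067f86bef904520b0c11257da189c0f50c77d4178401400879d7e4497b205863f5e59c894f423390837d726841d50e9a947e5ebf0afba891dffc1beae7f12b23ca44786ab33dbe966dd8ab4b7fdaee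c6af990f63ffbbae20fb4327e5121b349688753145a5aef38bd79945ee37806949a93e9ead133e944915425c9de5edb50e6b05fbbb38e7e05c8f57ed7f3e97cfec3efcf8dd75c92321367ff8dbc69e98518001332722856a72724dc46bcc8200e835dd6c2ff8b803e90d029198b040f2f0e46fa0fcf2bb308f29fae7826398a5d3a94fdda31de87c4a89749eda3ab14ac945726ad56932c027d5eae6849daca9b17ed1bc2acedcfed02e74568b395bedd980faa26aef61b170b8d920624d3bbb55ca1270c886b1e35fbd6db9aa8e2fb0733818cbdda541dbd6bc038e49d1bec3e749c6ebe69dc3a34112e21a80a7c535772993b9cedc0aca42cac148c16c2d44f0de721d4d9d3d67fd0b75a8482635d2f73e390ea902b61aabfb8a227e54e067ba9cc4db34abe96be7b401bdd1005e721a514bd56f5bb58d38d96aa70b9d8d05d4b778e19f64ebf78dc1a5842bc51197d7c71878081dbdb4033e0e2493793cba77c91fefbac0f8264f4db74d2c88d39882eaf0f0dba88e648e776ae5022838b9daf2fe945112981b7ae5592a7cc35e089b496439aca03b175020e18c4f6c2ace460cd3c5fda201692fddc8ebc2e19942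c441a71fb2437c8e53f7c5c7db17e80a07be66e3f437782ae1bfa6a62d88eecbd281ea04c0478b067e0a23bf33984b8d6d09a397847185eccc75ebd46ab6dc141f0296a270b3ea743841d1a7ba9bc9dbcaf856ce8d2e6f8a80434b6e70f920a5fe912bfa205c22fa0e181f78898e73a718b4412ead14ef8a5a94ba29fb7946f565ac0c5fb91bba5542a2defe3abcac03b337495ff09d736d1bee3d30b730ed635e0922b19ee9dbd88466b3a19f16c13323de2317cd8a40af77448f0f7ee355edfb545dabdcbd44832d7c5b38dccb5637248ab159cce1a48089991180cfd4b2dbf566849b4298af5be1af47802bb23f2a840ef69c7b8928a752d71c2376260b5dd381fb33129e0963e66ebfbc4ec973fd9008eeebd078337cf54339aca8e3d99c54597166dff0cd6cd72dc45f2e1b7f327f6e7a312a305ef719ed6f2994a600c24b0fdef7adc00825bc101d48cef534c9ed72d9f21dc7d391b75cddb42b467a1a09040e8326b5875fa2e9a268642b9c25f9df77aa9eea6feba81a38b139caf1eb53585a591e286d961022be3818d41e2812806f4eefebe506b44831493892d23770d11749041edaa1a50094b045a1b840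c223c06f42418a67c0044f5a0f836855f508fe713d8509a5c464b4839d5462150446f8b41f5a6ee305f4d16746a4c225c3386b3fbd728e4c905ecc3b981f46b1774998556cc91d81f08fd49c37cbc96389d76aafbc979f6d340762da2633ddc8bdaf3c72865656ac1c7383a6ef01dbbdb06066401d3bc22990702fa775bc07555998eac840cf0cd9396da009b6bd78ae1c12c423616b5dc743084c488b74d54ef4ad07c4db90ef1d930dbb35e2169515e8295b3776a34abe271e39ce1c5b799f8fee908f1718701a048e891d448ff56400603074a39739c16f4781f71f6bca24c2ab0fd967cbdab3708336623dc252db07cd5e271e65fc84bc3d89240a4ac46b22e161fbe7420627ecca7a9078c041e7451e475b859cc393d62b7bf956c3223479a7d5e10aadc25b8ea36672bcbaf0b12e2f5e3f60f7f5b833574ff2bbadcc799fb35d5b3ea4fdc2eb05b043c071f141ca309f0e4c98e5fabab9c2f4103cdc45d61cb5101488deeedb707f56bd86df1d52ab44670abad1e0a87a8df0d829d86404022be17351117541c917de6c631c3177854e02838bcdcbd0b4a0918a0e2409c24f2b029244b12ccd3a31c355ef5502daa3869def0f1531f7972c386ec824af5005f0b9ea2ada2a54713f70831c598b82e9a31785ccea619a5d23f57d6e73aa506d09a383ba7ebdc9220ee9794e7b1aacec5a2cbaf541333f27599997ae149e44227fd7744cf4acd2496e90975f)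
noncomputable def U_a : ℕ := (nat_lit 0x13e533c38722ec20275608983b9aaa3cf4d3dc2e0cfc9a195ecffdbccf0296d1c4c579ac53712ccbce40be16944c744316d163d4041cdca6dcd1a6b2f62e63d22f372ee97bd0f75ccc8130774b14a50c477c2b9cd9f20eb8b9863e41ced22e51d9a909fe2f5d8b9659496ae4cd27ecba1102faa8d3e59a3d551b4510bd5f4624516b8e49cf18a9b87971a24a843b7c04febca4efaba1ee3f47afa2434cd8154943186b0bddf13a662165af1c39bb388ee845a9195323d6eab5124160ada3b1d84bcc22a010d3bdf6c8cfa7356c8a392f78c020fee360fc1bf0bb0948973fe88d83c940eea0dfd2cd63d4a306f1beec9f1de1a26bd3e60efaf33554e7102272be0dda9d69a3186af5106d79f42700f9ed16cf4985cd0c8ba4f32cd26969d744b5c5ede739c57d77084a06dc6c752d62dcf6b37504f9787f6ac782c7b0332e8a794eb72042105319c821cf472817481ba06d161e423022144736b4266df7c8cc6ae2242561f1d3550e1a7ef62639a26cbee2c0ba86b0d7651a8c193e8bfb5b0d472e7a4d44803405e530c3e853a36048b8c81366018cb8275a828e27e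585aa22a5a7e5d4e825b81b4f281fd46365f6755370f26eeb491a7e846f141b28b3d8d23dc083ea944c517832a78760b79fe03e4226356ccee120423af4125465b0b842c20eac271d0f39a1c3eaf7358c2dcefa9642b8350366d8a47b9ed966044f9281f595b65cd3ac8e56a39b65e384df1d0436f675165e6ee0888dc0b3a2bfbd8f47e3bf31e35aba1bf9fcfa74ce211698ad5cf4b7034cbcd18c0a3e8dc376de0b503d98e7c2e45c9363eacf2fba933bca4167eb03a5ab981f3bb6088cef4cc85b3eada5f5464d0cfeb33198d6f5378cbef8b161d89ba8eea6e6a94a87da1b409f167595616111d3a015e8e576b27815281cc9c91113718a7074188f2215568758631e0378fc2900687e3cb890fe070f60dee1a42eb9b831f3e836c8c2210923d53dcd5d64398de50f3581b92faa2bdb842dcfbc4571860050fd76c5fb415fa385763b18d35c19f3696e12c3ed906f52eec2db2221f07ecb3d8a258b1267aa10769ff2a6b0a3e7024e9aef69b928debc940b8ab6ee778e978d1a048405d16557d5bcf85df5d80826fa8ca378946852eefd1e7aad3b004b3ecf3fa7453b209ecf6435e523a957a81579009435530f6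854b35d0632a55f40b2ad5fa990d5fdf223b2de4e1cb49dc073fc8880792adaa8fbe925bc9695217c87c864464db25165a68215e0f5af8326b077dae9d8c4833e37543bf68f232c3ce13d602dc6e6f1b9e648289d5efbaacce7128f2b2cbad6bab67220c4cf1ba339d9bc0418d89a044c914baebf7c8e2f3ec236435ea8af2fa150ad883b51baac619f78e3498f65b2560ffe5762a6ab6d4eeaef6a24e03b32cf74101bd3de5670c505a0981ea5397aa30a11616d3b4fc50aa80995da209707577ca0a5d419f6e90f29c96dd65bfc34f1e76c79866e3131c7482deb8675beb48fec9e11abdd353c8946e4e2d83f274a71b54f3ee6eb6d8d5bd0da9b193edc1966081760b6d9542677c496278e6ecd24e2cddaaa54e985a83ebe4d6d6a6e8b47262b839a2413fab207509ad4558c00e763faa47908fae180bb49eefe32eda8759e29180fcc2d6fa6deab393309d6d4cca249d6c738f18acbaa9dbdd6d44fd4d9e4ad58c9ed460bae988564c4670dbda0d0e73c26092316047f91a9f4fc2c10822db25ea8d3aab81e281fbd003f75d4273af5934eaa08f993eaf45726aa9d5029b545b2386f10ccbefc80b4aba19391882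c026abcac12230d95f8fe4a577995aa7a989b6e0824f55b9b07937a9fa78deb8aa7d206c894502f808fabf49d0f0a3efc90583dab7d9df992c6e9df5a49ec0f572ae0d48179a6d86beb79386f13fbd72d7c7c2cfb983848c3fb2efa0a503c07257f90c5aac1c5a3233e30b702478dbfa82b74a3be173d1d1b549dea05e5855828077cc5254efdb57caa8eac1ea1275f61ab7abfd3cf02a891c2a77ef060b6d28b801fa8b5989d756a6f8308f7caf992c74516d331c8f00fd5b2df41e92c7d413ed42d6d89a36dbc118721e63edede7c1cbb053ddd923f28b263998d85621fbb90b86ed44507bc2c93cc039d3ae7b42f9e7c6bebf97e76ba95a61fa9345cc0e60190ff04836461db69551a22cbc68811d8c3b11a15318819d6516128b7d758796593cf340108cac71c8f2e11c4c34f46957ca62b9944ce2c2775b60a9bb28d9948fad217fc714ee3b5790c947cc9bf819cc2285848db1f4139931b25e73a0d53cab02bc844bac3dcd149ff187a7f0cf421cd5a51b89634a31cf3663cbb72091b0db1bbc944da900a8a3552ca19fecc0f7a560b2d2d88eef7594fef4c15f6378ddf461b711ca4395048ee6f46bb89642b7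a86e0bed61f9a59bffe1c053dc8e75804fb3bce0b6f574d929cefed7f56a34c6a38180c5b5f438e4a0d02c84e2ee7f477ef61ce2e0cff3db2905ca88cf06c0d2e6bef8190131858294948e123da96035c5fdc56027ea13cf05b1835cb56c60321aed9645c14a18f3af790b1c7d2971986b52ebceb7f4a8974beaefb51de97903e5c7c5f9df54dc3e44317f24a61310ce9c750ae23ab9f2f72147f4a2cc92ded585613e9803d5e9608338ddc00ada42ad8152076fdd716783dce4c01348b9d9fbfb4e42e43cf543124b602e8f6a98bf62db23c2c42cfda95c27fe24c5823cacdb12d212de5e83fc7dcd3592ddbd45b0c86fa91d6ac14b577cbf6e10e896bb9d494d16b31a45828e0fe2fb1069810d92e5742bec09a679aabe8ed0df0a43537f442df23616d79c898893bce45f5a6c0c6fd86db4bfeae13ec55f0474096f537ac355256512a7e8a59e70c9a4aabdaee1b7cdd93a965420d396274c065895e8f6b778edec9b7e685ff188e475622a843060fe05484d4e2270d893ac1832351da94cb9085088147356183fd8ac30ef1e29a629f62fa34e88c0022cf7d04235c51f2dd0be4190b61c07862880096133a21811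82564620ae12c2ace207383c4a26aa0d068c7f7c6351d060e9f409b8e95bfda9c887dd3f69ed0917e7dbe80f9ad9c4b7c50410d83541d70808c68184aa39f5b82e5c3be07a4c74b224b1a466b658f58bfe2b1d7ef88a113dae595b0a60e96743b79ed80020fa42fbe8b4d716a173a83ddc650e13bbc5b182747768849b8db980dc5d69e1cfffa2cdc940c858842eb50b0f62ac211b6db5b257dd1c9f7b4e3e0accca655a4dec8e43e21603ae87b775a30f68221c49b40095b21cb13650f8bdba2ba42cec9ffca466a7bc13fce9b37e177585f80671d04d4a8cd41b1aa443af37c6e62ae14c668618484c41e98cd20e465ee1d0d092f2b7ee5a12b8a2620500c674ca475c83418e6cfbf371b63e2eb778ca7a2e3af6e49acecf474bfffa58922a91936df74330d64151dc45e3362f0d167eed762140ef0ae07318866b7095fe1499624af75c40a410e32a558b1eb04918d8ac5a3c97a811653e0a841b80fcaefac328d3fa5b1538bda36064eee2431961f6912b0952708ebf17e77c04f3c8ca12e84acb20ca1d6a22e639fd3ef8aef381337d67edb5096214e681e1800fc8869f4a8299a7424f48b8fbf8419409e72548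bf810c47f9aa3c9b536648c11a3ed4af835ff0e871a389bb346cd3a4c1d10283b709c6086c53c88d3cacb973231522668001e0d15eb6e382b372ec984ea0d0a55de33333e57e5355fbc148074d5eaff0c638a919c1aa8451fedf8c2282a39b6cb1561cf1f1478256544cf13f3d63191e9f0fb2deb4553d63168cd77cbea0c74da146bac6583a87ce87142da12647e453202d6284d39b2fc0b76bb8559b6cc4c279e6ac21a6cbfb0f652c613a71be85804dd928d6e637135c4136cf62cdfce9719b90223702df92bb8356461ffd02005b6c827217565d576ecb6e99f6172b4cec9058176b3c776bf8f85308733b369c09d2c84ec070135b1fddea666dee28f6ba0646d7ea23d58e4225adbcecd34b7a3b487aef2739b9249e7abe29a4aa58cd3a59425fbdff58533cbe462d6ceab60b9cdf07b13ddeeac54baec64a1074dd4b1a695b9ebaad2328c81be019f5620f4c5b0953e6ecf8d4e2948937f9d6014e39a054136d4a9c0c3f1750500e4bdbb9f16dd5d77062dac9dc24c8cc06dd37b27a015944782bcf80ab070df49d7e42797a94c04cf80c69505e038a49a0474e24a192a62bc7826dc9c60f08a55f1e0514aa8c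168cd581e5c95407fa28c2173a687e5b7b26943210fd514dbe5d23d8c88c75f5933741bf667dc74e7fe4322d996cb9492cb04cd9f1d748e845de457762f909b0ec08a3d71a66d7df61b4ae82a3c6bd88fa6d18968dd443bb01ae66eac6e6e09a174de79ebdb15c1ff30da96355171f9bf0604b4782458175630b8460b9767a909b04b65945fed0cf5cfc944c4470e6235dbdd323c3bf7b091c86b185692f170f1f705b0aea0ab0b5f165f36d94b5e6dae824c12404b8be92dd6bf9edaaa830c529cb7af62c7cbe570557638943446585c2549b2807a7b81e6623385fb5d600886807d1a69ad27f642be1924d4a57ba7ce4185af7cfbf977aa33a5561d4d25e065924a0f56fcc64d3282bfc8069f90d9298335334eed60711730fedd9268fbd89574b780dae42660d422d47d8579b6c7d7490f6ebb9a70c3d250a673257121fd05a8e8753f5884939ed6ca7d69eaba11d75e14ecd6863cddeaa4fbe10190931dc870b1be573cb658e67efc10debca87cea264041400d65f727201bc18755cc4cadbfdadc9a80d08cc047b2c11758058db4de7ac614fcbbcceafa0707e0947db1521534bd300bf0f3cae49a22c5cf963bf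423a2d2e3df88eb18e699e9bdf6bbf20733992d3ed5ec9f9163443c5d5ed345cdf9b91fed48f62489eb616dabc66ac2a33068eb18b7fe3285432afebac60b90ca282f4f270783105d98e519b00ecbf5850bf822b71595d2e2e1801a3ad046ce37ec8540a77187638e1a842565a09a4457f940a57b21345133f7a7a16fe41e8eca5b91db29167648f757f1799d177456cef0df528cb9f802fa440f8f9a6cf39b1b2e7b4c9b658ef82cfe0367882fbacc9fb55c3efc320640c2bc7d78407a795838673fef0eb6cafe1eaec9db304d1d30aa9c103958753a8d7a3636388366c0d3a9664b5a0598413ac7bd32517cec649240a9d3687bbda54d0aa3b7b8e9d7194eff60e865bf0c980f3f5a67122b2185b0c88887418ec4fc7bcebe3e80471b758be87e676a6d9218cbd47de42dcaae1285164e6287bad1d653c3834020a2a47cc16fc6f67cac297172465b68544e4988c2a8afa120007cab6f761871a58b7df8ea96c16c2757b74aa47a69050949aa0c8fa7def4ac41276226ab55f71961d2e8040667f65f90b968cdf4b9546ee8414aed2e54c606a274b2fb27a17babf555fe45ea3e9857487ad0d99a0897d413e45952eb370d15bb7f34469d53fbe84a67cd70ae9404414735a58646cbe1874c815a74fc62626734e8ab033e1403db4aa119d5c71e9d1929e6a1cc10f0fe075fdbc7b90f2a43d57204384aa21a66115971d21022064cfc792882b1e3b689ec4ce7d)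
noncomputable def U_b : ℕ := (nat_lit 0x15393ca48d398a10e6b3a0ccb3f31672bc1d5deafeb3e58c6425d053cffd79c8e9116529af6df40b1882b97add4d664196177d666357cc4e605a58b4da5b74803f887218900370c4e072f9db662dbcdaf2107969151e1295da8d275467cca13872e9b9fafb6b79ec11a11d619e55eb3494f493612bdccd3fcaca6ee788c9842e9f1e0e3f27c742a9c1f5aa5f22eab1956d73cc8297a7aac58b05f0da0ce7100815351d6c251dc698d0f15f316e4e4c2f5d82d392b2362935d06571c5535fa4072f0e9973941ad23b666d81d6c65899234416a11f4b11e650eff505a38c0a677fae173cdc3e976c07f24b6ebe34af0ecf1407edc16347883b245bd788212ae8d2418e74d50439086c7ece54581529d777ecd6e1fd2bf1948be4fc5dd1c5e1db8270e4aeb0e3d26c93938db8f8a23fc2860de513eab88978c8d5a4eea64a8a5670a2cb4dc1d03bc0570bbcf0195e9be46e79549ef4d92abaf764cab46894621c95d8e918e0e7de9e995f744039e14744c46cbb30e0ac001b839d75763035796b7e76ef628e843b1459e9226d5472b5d68e081d186670bd9713827c161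662dd1b1d89b74bd28562a484ee3384db7fe47830e57fb4dc58f7d8f9e50ed1a158eb8b924e5369a5aece72442d313ccaacb7e388b57cf6ccf30a61a27861100b350fb364c64f8ef764932346a33e7ad291416156f1bf93e065a4dd5a43d85339eba4883d2006b37a2574f007e80d167acbc7ed58009c14831b640834aebe551a2c848071d5db518d830fce900ba48789ecaf80ac537a837c5314891da31082dde5dc96b5c2b138a9103ed8af250b1b074ea67a0fbbd26d4dfbf173b3611c931f8941f1df0d904eb278dcdc98f0efbc0a266dc745b1d9521154ebf933ca6e4825ff29d63c61c7894c8be71a50d497ebe7d53b16f940ac6d5e1d35c26ed62d8416b5f6022699ed5d52876132ac22d71cb6e6f6139410dd44dddac759d1bb442d2cf71c72ffa65a18faadf125703f9c1242fbfc644411d6b818067936afe12addc8a43cf1ee5db858bf89b29fc5597f71f2d67248f2d48e19900f7af972cad68493a8b13692951d1e1348bdd75a6f1bc91ea3dbfc74ce596441bd7bf4ae6f2f301eb9b4971834535a8a0f92731e4d161234d188c689d1524df12531671da4a86da9a786ba77bdc0840424ccfc8a79f0ef3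2b4087b09175699b8941af7d68c56d44223499f83f3550cc7b51a5e917deec279e12d00ef87283201bc06e10ebe3f9733006047db6aaa3f3f6e865e3d3d88e9809ec876630b8ab932079b6568bca9a8553b12ae4444b3c3c1e10b2f4da5469cae664fbdfbad85dd4f64c9ce714ec2180e9069e003e477ef301c91c00df2ce7e7bb65f8b9a6ea5d7d7cc88c31d5fa9665f36b4e7352844513fc90cb2e3eb909ff65be5a78dc9eddd4c15a08b4ecb0c33e4fbc6dce79ad3edd2fcf92d982543b013976b3ef016d32ed2488c82a013a6a3f7e96cd7989084189121fa95c5dd6e5c39f805cf838fb2aead2dc0f33b510668b2c3bdc905a07f0e87cc32021849dd734c447a5dae21273d6edce690ff0719c0c035d407d8ae7a65b8b00f4c6da5c64d47ff8223639038efe4e475d5cfba3b515190c3a0c6e2ff78c3f788b1f82d833fd760b9fe62eebe74d1cf251be6d598dbb9974797ae9995df8513aaba538b26e1ac5e86c52d2d24c83b87b90cf7d95385058e959694f2003a45ec2c638584c9f77fef9e2d34d8614f68242685224a942fe6586630499e32d86e2f0571d42e5b8811d97e3d4d0f110f1794c40a4211b1724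30f00b42bd614f5ee9aeca6f0d495a3a6c5dae4cdb25b44719db602588896c38b495c42ce94642a4d90aaf99b28a2d2692417c2db1d62f11242d7443afd0942edd4ac1b7eae9ae557e90dfa8295cde6548c81c43d68a70ab3fd8fddde61c45e3e66b40dc5e65d39fd2b6bc70204fc4ead870b816f33eb31c11f9800e9b29b195abc824c569dfa3c77a14826b4e311f0bd128263a706fc83d8cdb02b43132f4bc76313af08de4a2c85e5906da73f690b9fb6eaa7f74b26057532b7c2fff8406512aeb8fc9f2b80353441f6c0bac5334ddf2a9fe7a8f026b291fc8f4d20afbc878201e759f24408e381c06e8dcc60aa0f6d2d9d4b247f6ecec30b3c9e92c10795b37ff29926bf5f021781f148a2cf2035cb445ddce0deef66df50da33644a7037a7419837177ac541bb30e3d97357cd32c6ca2fadfeb70448d44747d65595b9f372f8e047488493a02c6d8bad076d4c60ca27e0c33f43dbec50b4db4380d4e0dcf1669f8a49abf6fdf804260f6f4e871193a872e75ac6c2fa18c219a1d9f4cbdfde643a4f5c5473af2fd42aad4e06af49058f47eafeaccb076c7413fb0d820b80273e736f87bbc7e070e94d2269fe5b98f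df81abecb501e82c466fa102c9b4bd5a991095967d9676cfbbab2290df7c67e29f53d82020f87790cdb75f078462687cfa62e93a6a26355da1e8f5f45524c8f9dd338553792f9b15d173227723b6283295d13da395ff6ff924917dfca82b2b89fb56e547e5c2e26d1d6cbbbdd4d973ac1ec084f47cd61b6dae180ec4a2ce15bac7c9982da40169d4339d230285f41986830a70ec8db791313a0198be76f7273b6f2cbcb9e08ff479627bc22fbb351434a746e0e51bfe385be79d8b60f38bb683ee1baddca31c76a295c5135931bc275211b385e2c7bd88860eb7e4a9627720073acfbc85368689191ade476cf870d1a189984f05874ad24078b76b5104c49de2c387a535f468dff2124bf39f2335f9450d18959495110f1f47df0c65914f96b36d0b490682fe4b157350326a2da4a96fcf5fa13fd703530e50091a571c303eba09ee9b50c419540d9bb9159ba8f2655db8cf1a90a1678a659a3d1216395ea1d3da372d080ff8051021a001549f316e9a624121978c6f90a29f25810918ff1608006552ebddcf17be4b0264d5a1a61b891d254e47113681f2ddb9faf544e463010985107c01525b4013ab2be2f605269b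1e11bd10bc44e29e081cc2bb7d279f4f94c58e3c28f265df77217bd0b1a04902e3c3c6e41a39acd696d560fc9f9b62d6a3d23f617dca873b36d2eabf3f6b1cd9acbaf09218ddd54dae6a4cb7fb832a737271622e88f3caf4ef63dd49ae65a87532ee7fd146f5ca25e869d01f67019d4d6bc78010b2d2525b4d7cd67891f13b40d7ed9ae40c4545795fec0a4a6cd5b27c34b62e1f42a30ad0fcd5af289fd8f650d3b6919d3d88262d7ee90f8980d46f33e24cfa56856f716b7064be6a7ac8f37e826692d47457ce8aeeb757d61017d0c2c0ef919867dc7b6845bd7bcce474be5917f386ff43b945155f645f0ab649a1c262a8458ee4a12106e7d31735b1797fa8128187ac444eff5b1b195730c2a178c4851ed411508958f550cffc5021b845f79bbdadb443def537fd5172fa494ccc301c3d64e372950e31d26f5e81f54b0b6a0d9ea4d2c80d6c4a019dacf131900c6b2e9acaed19d72815c5cbd25fe15207cef32eb92d1247103742ac27415788daf2dfb6688a87f87c188bc6c52868e4aca2aee956d6a34490e9d7fa0ddcd7621046596b3650cbeff66f7ad323e0b681d3301f54a19a231c83fe02675bf73ac09538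118cb007a8d63a02321c3ba4b1eb8f609f29b5cb34399a829abdf5aa98742ef338eade4f993ee870abeebc836e0db4d9a479df8df961c9e59ed9ba488db2465d385530cbb0dd87e765b109ca35589c4cbb8181f9f564c5181d76c34b182780fb14c6315b93d8095ae64145ea9a306f96d19e2ea9adceee5ba7598bce0fe8fe0924bdf07f7f79ce49977d8c66b64d0b594b071e62280bc805af33bc8d81a97ad8efbd470808038f5d74c25f68f08b08454676d79d47be42cbe4f80b0f46d75276388467ff8386f6647dd61ca46ae2e1a577cfec31cf0fac12b407c8efb771791e6e10d4e402728ab2fafefe1d4f788c629f6bec112134b634d3447330bf3b88cdde1b718d01996b91b9c646aa67ea54794453d8b99ba51b948878116c3006db4a68b4e1936b8496446eaaed2901971100841e35f6e86f0d2a29d762a5fc02e38b63d1d53ed433be9c6d752cf50d6f4a0487f6aef696b9b49170ff2b07a4bb71ecf2d479b00cba6da7067f7059bbd0045ec894b0739cac3154edf01630d68feb614a2453c26edf25251b31aca4ba42ff30992cf96afda6707da018e3b8cec91bb51620050e3b90f6b2a674d8ee02f04c9b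1163ed4a18a4f08f03d302e0f477d596120a28648e4ad7f412fe7533e4d7c376d4eeaff880ac443f4233226388918ddd78bd8654e6301e53d1b6fde8548e263ef61305998c8bbb4474e336c5d21c43cb1f730562152ec80e32022cc49f73834f3dd2167da5450a41e4fb349630c8260bec10a204de38175b0627daba6f330ac26aa61b7c1bbbcf6b03ec25518dbbb4fcc9e1ccecd53b5973bc8ff56e798ebed245c01be82db73a4ac930a7679629f339a476528ad925ec19c5ea52e8218bd30be86754ab5488566c89f1bd0ee30fe688ac78eff77c89b5df0736497f0261c6ce7c354266ecfaf0ae64df4c3911d01a3ba24660f7461632af4c76add1e78b56f16b41827a5bf75db595e3f4401b74dfe327586c9a6cb9cbf8c533695b05b9aa5a67465862b03023dd4c504a4c9142b3757e0b8144f5cc337482d7319e653f7a081f676f63e78f2b66cfe9032930a484869e4feea98a79d517aadc928de7549611ee1f6eefb6e657929db829c84b08d50d7f0cfc99a1599b5d795be94f132d2b9f2bf5699f43cfcd64eb2d8ebdc830578fe24bdf7682268768e45dbf6d52cdd70e3af8d07eec45664cee3b1805d3a3d744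a06ab232776bb801560586dabc9f4e969b2f83a9fd0682a69d3fe9cd08f0bfeb8d55e34572ec8d152e92f297811fefdbc48c4abceae4fb19976f0219fb8209a20a0cfc454d1d958b853e477e32c81d5712cef297b05a323dad9c25f7a1fe993ce219d44fbad9e110660d533fc65c493ec2bacbbdf7d03bcb9f9d7c256c562efb4aafda3dd36728c5ac4e4528bf663391139fb588325cbcf3b8ddaf9c6e047b68a50cc4cbd1fb43881b04d01f08db6c1f7076be7d9a687130dba63e4705cab4ed8a93ec56182f252b969977209e0bd50372c9548841fb8a8ca418da19834c9b06aa17d925ff46f2d4415d59c84970f20a3782a20ec9dd8df60ced0fb4db185452cab7c2318566e469f0935bbebcb9c423793cecf2abf9b7cc940967baf7ac220ea95867e505b453b340af6d0fe1eafdc9ec8058d95cc07481742444826f35d1e29c58b980ecee35fd01ae7d5a93888b5e1e67d63ef8d1c10e2303d3c9fb271a7bed324d722e6987dea004b9ce66c9d329b403b1063f4cc34a343ba3f50fd43a9202df029d04c0b142d2fd7dac49a8b595a8e63f0973a1261b1d26409c7586bf36e556ea5183671bcc3b5f919164465d05e0a3a6c5128b5875a14cfd49648e7136f30ed1a1bff8b5e0591737dd4bdfa4e6f0bce8c83bccd25dceb20b934664f39c0bb8ac2c08b0eb95fecb688907d59d7f5b51ea5c150aa4d503cefd22197b8f6ebc73ad598c22c41c3f76d7299e7b)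
noncomputable def U_c : ℕ := (nat_lit 0xdca3e7474a6cb8aa2450a9da7dced3df12f13ff3f74b803312d6b403b0d0d112b8eb47447cf63ff9505b97b3c51f807558a862c6b2f912bc2911d13fc55f3ee31bf1e8c6904517ef4d3676903fe4284ec41046015c42d95b96dd2d448b8c4d120363fbcde35c06a889b5aa6d2256a81b564f8c8fc1ff496ed767687a6d222c9c8554a5f82cbd01383ea8e3841cdb0fd5ceee6f52b3fc4a69cc3629bbbd614573b541139c7f1e5ad072fbe3b9a3bb5a61dbd684dcbe328867e079e49b440f5ac42768d7b0c7efe0ebeb7fc889f31b2b8834239d560da247b27323ef13f437dc18a0d6bca4cc5ce70361fff970a5c39ceeae829e527024184088edba52dd4485c5ce1cf34b704c369fd3e0f7b0ecd31d64929af0609e8f674904f20deac39ca2984e0987689abc4e45784360f5e9ec231175c21eaa45451b00b149134bff319a1508bed16edbcb584d62068e6c6c23d82b59c9e4d566eed727feea776f8b72c3738d8fc76658de449bc967393bce79e12eca03d86bf22700997be80da347c0004ce3599d5b4224de785105c5a89f8e263b3d65eca7c6e428076e82da4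65defbeb245232ec35c9bc03a50cd1ccaa26472fdb7cf22c67687c2110788be05b5c59ea5f38b088df2614e0f8f809621c4f1c07180e1c23424df2db6e5751cc3990b884fd03a56e929644e0baf36c7a56cf81b3d02b29af477a71cb64cf08740ca5ff4647e2dbdf0bf00561ddef7c76e6b41297acc1813e547f0066cf16dffe552d50a0f5f9be87ffcaf2b2d1168bd5d375f4a277fc92261e1130f2640b265ac547d4082ecb150f09e9b1fcb2fb071a72518ebf302e1832c1ecaf38b9224dd2d9a9393c5bbe440c997e419d2378be31191f1784e67910828c72b49e9bdf32d380d210d93593db34e43298713233980ce60ef5e41157ca8d95f8604f4d9204e100840b58b77272b4f9ac40e5007f27de1bb35597ac11166ade9a694f716ea45fa841e0dac8c0a3ad1764e4c42ba4c9bf905c9be21eff422e220fb355305fe669f756da6d56ff160cecfa936eced462b505129ba4ed24229ffc999adfb0e7809bc1cd717ab1e9af50f23ad45bf5dfc54bf4f3d994c213c8b1c9c170e220b8d20cdda7ca31249c42b24672e9ed33f3be4324f1939f0ab70080e4435f8339615917223da4cf8960778d890e214fe6b2d25c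2d1419bbfa11aea18a7a127eb332e3287df7b09df2ec205a100f6e6b604b5a934c61ad4d627528c4ec441baf70ce4b5133547658c2259bb285d18f1df13c60c8b65135b6ee32986bffd3b867de953e06c516c2ac6c6fee46da0308d8cae07dc5a3ce2c6113c5a53db54d23c7e91029d0be8701294e386d5cf637f24e3bca882f4fdc433325088c0ceded86eab1478b01a6ad93fe86eeb96f5a0f2032576c78480556bc6f072e801d1d0aa5a75d6c19e4bd9f0044ecc7025fb5dc843e925d2dd8ffbac5a6ed2eb633cca2d1274739ebd008da030a1e85cb1d09c73afbaaddc21612eb696d1475b8e5d9d962d56449417227e83ba4e1b8c31bd7ddee9c58f5a42322c867512cc85dc723357d88baeaf797de816929ebf82432d4ae66c3f1888c71409d0cb515f4f9a6683c4d058ea47d26449fd5080f9c1de5dce6ae1f2214bcfadaeb621c9d0afa00ead5233af7654f2b41493119a29e11e18cf76382b0de1f6c973008c8e2b6d1d595d2d265f1aaeb6df020c5f00f194fc39bfff7336ccebeafd850a80f5f095c91d251002c5e18391047f2dc8adb98309c67c9b5e2ec6f6a0d2b23d04335a8148b7fccd19601138513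5caf6b6ed867c7cda7d9954593172ec9b143b0adc2ac0bb36c12f8297d98628c4f27094590ab773f50c2650a587c8fa631ea62a53a02345a72842aef554bc27324d70c36446ed510d5d1d937b7dac334520700c86681bf7fda1f8b5f9c977a9e672455860e7f1f4ce319a634b0c1eca3a1a0c72611fae442dd033f0313b4f334d0562443260b5c58fd5980be69f500d9532c7656354d828cfc538f8626693bf5b3f02823343011ca5444e9146db706e8d74addc4599c9c22624255a6bbc875d9adcbc46a7a07b9fce0a36b1d80aaea7bf39e505f29c24dcbd955d6d7f615d9643c416504520deb14b80336c47145f374fcaf8da30d0b76a3d6145cd3934f4e6f528cd235361487e77ad546bdd1b4e1863c1319b5a927143ef0396bdd15debe24d1e36d318fdaa37f0ceeff9ae0265b92bb1ce63b746208e8b721ab9cc16fcc3aa79ae6b7f01f1abf4d0eb3983033dad8d5b1572959ce4a8e426524335870c4e195045af7e14e69f3e41dd5bb90d6d11182958ff97b5d0fe76777367c3ad653c2617b434548572e35ae92af3c6fe2466a384f036fbbf1d319b24978881c09919fefb133b1912395308082d5c203281a1f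ce7e55f155b2b32f0350cc1fe42611d18a26c0cf2f162f60ee277edf3e500bd551c9ff4cf41e17807b3d32e62c05a3c4794a2d13e9aad8b46ce23a58f3e371a82a059f177e4495317c5cc82e1c9ada671d666643e6f04f33b1bd2499f5fb5f4e7acd5419423c7db1756188c26a3260d62754bc1adabb41745ce303ca8c4a7866e2c47e663a6695c432279b85f4536007cab5c0495e47dd5273efff19d1127307772c79a51d691ca6032a8712891b9e7b8e7dbddc0bd43d0186e6f4ec85e83b7f22bf95ffb5f6b0b07068a7229c1606a5a88970ab6257ad44616c56b624faecedd8027abfd322e9e2082775dc76c85fc1c5556d3cf5dd406cbfd210ab18db039335e59f53ffccbc437df21560e7b5ae72813d77b9d94deb351832518e96587d54fa6af032511df6ed919dcc1d342e282536f99369d4c7d0e490b42b7f1d7f301cdce84836496ac8ab8f392a3c557470ce3e5f91d43b15bd9d7225091233c42aed317d3372febc2292b91543187979d24d996618c2c58cc07b1595c00221709879b08097cde3bc0cf4937185e64364255ca52f3be96d80762a216716b5ab5d3d7d1dbd29fa0caf8946c21dc388b4cf8c57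46e1be0ad92f3041bf1898bb33e9d69b55d8aef871690e24168bdcb29bd40af3ffaf526525e5085ba7b502f8f5a08ccf5a57d18fb4168b62742289aa274bb3ffbc28158b2d018c67a4862f7fc5319c1c5fefcb6649412a63730907b36b1c194bf2265f455f1932f7d8406994e66ebf10904d5d6e62daa4fc2148163f127e46368c743f629770cef2e09397351bc09b3d61dcdb330e7c02cd300967c869f0ad4ca3013bc84b890473d60e80e91632fdacdfb9a0575c2cc8c2ed295e43c132482cfed7fae92502949e5eb3b604681acc4eccec25b94827f55538e188b649159912399300b405b04e656563633b1c5cdec98310a470bcfe7ac74ce7b6fd9279e2122a003fcd78e31a140b361bb295fd1ef27da4e35dbb73a0abe33bfda6a0350f8e524575d670fe912829b86ddff3259a9a85498dcdef8731e69b84a9b89320c771b519b07e08d8651e19a32d2c1dd7b5030f4f74da124740231e812af8bef76f98fddeacfc7889ead5351047ea57f3ba5f72a40721508c1fe940e5acad3cedc3c45b5097f5c4ac0f2c825592944271b5a554a245a3626f40c4a9ac69193a9fd0a4f6e36fe021e1b70a0dce51738e2a79f8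56ac3d0d02454f44afb33590a774035b4eae3685f45d52900374874c0e1b90c0a0f6e2d47a275d2e2f69e849aee76314432f7442fe3f84f03c51e68daf6ed76ab02330d947f94cfa425c0bf756ea7e6587c4f7a501e9341286d62f4d03e12bd6b511d82519cdbfd600b807a4b2d042a34f76a0217f441a7a296b3b2e5082305789ac7586f466b4ce4b0f4cc92a49821739d3bbb7794dd12d38096ce71686db64c02c8a594e5f7bbc8c507fbda78c4a0bc5eaf281577ecd315a3b44d5874f7d8489aa9ddf37ae8ae4ac0283ee52e1292abbf01d43aa7b4125212bceaf14c479a27775695748d0129c2d96519ecb0043f88561f745c81b0596860dcc9f6aea6ceaefc26ef6a8243c5cb908e5438b29f0f2b53f7d22bdda341d22e87e81fbd15131633f2edd9419c17beb957afe714aa992e7c8a0d9d23264c5e1caa41d7700f1caa6f682a6504048de41774a2bcf55548ddae42fb69ff731e82792289a89d372ed051403f733ebe6f1b536e814fecfabbcc81da284ae238f8fcf8b36e5ceb431d46e053ad34d7656c7a4fd0f88d4bd55cdbd8804cbabe5d9e6f6d96134bca5791ae9cc81d0eea075ddfa1b60bdca2429f8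43bb18899ffc8d456e08fffc2da76de9227eb0e59bbb6b10a7eda58beb019665d19cb3fc3ff0b33a2c846b3c5cf696f58aa56ab2bc6f3d22ecb2c948d3d33072c8e7c3319153d6e1f7cdeee6df0864a39a9069ffdc9282bfc4044c03c47c41ab496ad2b7bdb10060d36862f9f17e5339270fe6105dae4e78fb47ae36bd5bc4e7c0620ee3640cf3a04d1777cd7fbc465c8bc00ba5d963527c52fad54d5630145d676b30e7144c7f5dc1b0474658a1930225e108598af23fecbfbc8b0f8c9bb07b7b2db1ee9861ec7fe84fd19b4080947b4c6f864d6c3e53b5dbcf6bae964ba27fa4c7af9f3207c7e194856d2f102844dee0fb0ddd0355809e52baf1e4a1305209543344b8cf27051b75ed9f58f15e6d3205a4cad68210e8bc08f6dd36445cd08a955661ee3d43f81226b8d0cd24cdcfec3da97dcfbb7984b32f3b24cca1b95696d9ff6d511a41fe237044b29376eb178c61c4311defbb8a3243240c5a167d4276b6efa75f38425d173d3e13f27d5a3d16b29b4c00c93f4cba44d3e353241c58c61a8e411e5c38c954b553e561d538377b8a735201445dbe20068da7a2d25fb38ebb495c2a7c8af5006c784a1b4d0b5d45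351c3ee0d402a8978a2d458dcc795dd2068e4845700db24d2aafd47d27fd050558cdb90094bfe18ef59b8e80b4609f1fd5ceb6650186c5829e2821ca3aa3a5ce0c3127de985a9c92a4ed9144c877b765bdc2fe5e5e9c83b30be8c2a1dd02a3f587fbbc4b3976a071a6d4adff1bd88485a5054427528032a1810f9d3aac927617748e6ddf3553d9a37071534b533ee2657a656ddc1432497047407dbfdb12e777c0399efb7bb07e32a7e4db0a5d76ec04bb7bfeb73b7bfc2773271005b385ea9eb928c1947b7c344a0fda8e1c239004beb2baa3cefe3c6c0cc49f6cb306d54cbd6fb0b22572c9741cd590484550bbb06e85e49c4c98e4aad2f4d2720a7f0e9254342eae97c6120be845a4d5cc3ad44b87dc427c206147987c259c70918c28da7246d99faa3f605d452418845c68c917a4724cf2a4460351abe088b9182123ec3e264c0d4c7bdadd3bbcfbaeda753dd6160560247b52ef420744d1972d34077853c952199cb1c9b5720d744051e1d8abde04fe93290d3a70fd7f65d808b06219843c2abd2d6315a9ac6c701d9ddcf95c93c3a858a975e71d08955005eb6724333f34cb5a0f643ffba777a352cc85449ee01e07810880f044db2f1ef42fcc3d8e54991d8dd2059ef252f468a9cbdc555be816e1a9531ac75bbf34eaf37d76b70950b729ad75c3d89d168c69a68d5b969a40eee2b4ed0a7870b3e3b4e07e7f55508ad4c1ad9078500de3bb3ad8c57a)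
noncomputable def U_d : ℕ := (nat_lit 0x31bed129b4beca61777a6cd43f400427b25fed731087d7f77fce4ec80cc6e2eba59bc10354d9322db68e57a6416b82e24b930cadd122355c3dffb923bec2e260caa7d0710d2f13454364dc71974e5d09b32e523b4d6ed482131b0c96200ae4c8efce300d780f6d57621afc4907706aef1d506f726fd91e2df1f6673aab2910d8879fe9cf03c698b741b275da6598692a91ed72adaa748d783ec53917e94461c62964d0a441711ea718e97bdf2c57d7cd7e3b7bd761286c737d652d628661b93eeff4e86a1ef705e125e5e3f71e4cb0d5d1d672f24948fdaff268edcf1e9fd6981929167f5e2ad51f014b38da3cde8b4230766b503bbeacc454d4a20b032cfedcf710dad4ad363309e41a85898756eaf8c0bc8e340618c17663a37478598da82bf69e49c4efe2dbfed52e985afe668f735da17bdab63a5a25572efe909332a0a47be2106c1c6014f3b83867647e80fdb9dcdc5cf26cd4e4f7765754e4a12707d2dac2b655e0301a7eefcba9affca04cf5130959eb61012d07b42e1a82917a2706a430c748983df74fd872f4d2456ece49e84fe4d3ece7065b655a4db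fb95e8bbb0c45cd6bbfc4ba95407f7fe578b02720d1785b19dce7af8e37bfdb7fc1431945d240b4fc26bb75ce483e051edf8bdbb1f69a93b9df041e7a7f99024a71607a727ea4c23fdb076f65cdd1319d3543febc8bdc1fd237e72c911c4111bc8c6b8d40b8cef49a7e5ff8af247adbfe59d19ac08dfbf507d92b04a75065cc8689ab0758fbacafee4fb1fb0b99a275b3a1103bcc868be313fe3bf8e5ba5d2888afb02b6152d6cdb65dbcc98c31b68a353af7d7befc37e6a380c182732fb3e74fef4de1a583ca2802cad371da92e0afe49721da999e681ea05fa9d030e181faf8a4afdf9ec43fe37d1d2d3e8fe0fb09092b6c54f2ff39fe09b4625421c865f7d6650c0cbcacbb1c8d2f440ddeb3905d3e4c2d8e0ac9b6d88b4d6b8599c7ed2739c72fa86a0bcbfd41afb77fdcec17dbe627032d9f1a9aed0411408ef19b56179a5b11724d6db047da376a405128eb950d35f79536d9719f404ecd9bb14961726c21f8c29260ae1a0be754135c1edb27da7f8263ff7f0aa33863d2716914c82fef5732abc4087ef15b6b753c386e4a946f110186e5559a5049f24ecd8b2618797688b7ebfe566a491dd1e19db9c707703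a75327b2fc5a37731d34e083c03f847581975c22ffc76f72c87267aaf9482fa0a6ad18452ce4dc4426d5a1d07128827672f0169bceaa9ba4f722d99d218f1d6f56e0ac5a2ed98875ade605b320714ae9a6d0676f5837030530894aa5b6ef3cc45e6e88fc740566f24d8752bf61685fdf528dc80492b5bfb1bb55cc1eef157b719886adc253e5ff0f87d0751595ca89a6c3c5ad0991602c037172b0f9ae12acdb252702636f8ffda4b4137bc33844b3944296ed5faba2950ab928e3127788cba3460908681ef8ee88ac4d3286b258e8db90aaa7be5426134cccd68224c545d724ab3753a7011b26e9b284998a78c5e3d3eae04ceddb1bb0d5abf428c93e339e714db8d0aa4ee5840636be662b680a642047ae225f9979f679c9e53742874150056da4e3d90dc85b009636bcdfd7bda673d016c3abb1ad0be409dab268549268b5b3596f74073d4e432eb0c8a13fff242ab906f68bafe60e3bea291a8c337cd6b9e9437ddc924a61498f49f41e35dd51e95c065a904cdf26cf78bcef4f6f9370ecebd0a4c3f2d83567363bae1bb9892a27150e00dfe0243af8196a61012a1321caa62b54ac8d906b244349e7ed10d58463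136926e3aacf4744d9b0941105b70bc90d70cb93d8b925a3e077ce1284eb4777ad2584b70be6c7a1d745f3d7997fdefcb8575e44c3e8b3c12d43d090735542632953b73e852b4f1f4c01ad53f85f9bdd372c01d52313656f0d7658ba8c19d37e1f4e25021891646cae05105afeaf2258f111987e9a5cee0d0c6425d3c41a1bff631f92416304df5bcd17aecbfa2b54f69796a5445d15cf036f377ad2f0612f005d0cba44a654588d02fdbdb3ed23040f6eb73ce2865028a32db7b5c3aea85dffeaba8074ad6684f9193ee8edbed030c9522de9999eb1ea534b8b9d09eab0bf3b25ae59a6f312ad75c87684bd6c794d67ba61354bb2d896fb6b12143d1cfc57d9b64d1f3994041a59df13b1aa194a73bacee3d35768282ee107c6deab2d54b1825879a2d6d5aecfac0f984d72382bec9abd8a90dc7dc13b3f54fbd2d147cfe264829eb330adbe226b2499a77b67e802ffe5cd75a88bdf4ba515d0f3d8ca4cf2b154fcffea2192487d8774cc9688826840f979a0a2264cf97e2fa02a94854e53f6a8f1f5bbe4e14995816f271f5f5d88f096ccc798866333257ac4ecbf32de42307047aec6ecbdfb9684993eba369a3e8c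6209e4b753c68855ea63ceef8cf0347188c95e4ffd3a4af90154984efe6f50caca7ff6e47c693f817c3b59d1630d4ee8300be4988054399dbdc85837e6763cdde58c822d75e19804ab8bb2bc70d5d88b32514f607fb75f3a6c5920ee0ff3f6f3336ea3a2307333ecdf9f1748c754fba55fb91971962a67bd8f9fee993ff82fc32cfb98088c750cbfd483ecd6e1bf7c2071411f0af37d258215b5a51d74dbb3a60d36c4b9a79a72c51cd60ef80ffd6b4f2ddc36563f08115bc4ea5f2d99906e9e6b294385db49495199b5c23a4ae3f6e8c1234fc6161bf25a46c62f6d8f84231d33c54ff08dca1c98efba2ff19682a33f8262953378fc145eb580c65248714836f79271557897e163121a3579c82b665f5fab245d57265dca519503eb47bc50629729a798fed59f01773d1b4dfa8b2b37203e857087e48cc6f74032ed3042af3db6cda0adc55d6efa1b60001064ce00f3a3029595ba99a54b1007e9c63afe025a36af69a49cb5425a51a947141d463a14bf8c80d3cd512a658e70970f5f5319180f0f5d4b610f862bb0c69a6c983d769c3c40be2986418d4c8e677ce75f47682e6edd0c0bad0b2cf6d7aa527672ac2123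040df48247ab1d05ad98ce4d5e5fb4b25dfa5495528dace24b7d7ca37efc1026bbfe8cf71911a51a473390687e2b3f003b046b9f93d54bbf58d4cf2ad1c2911b21d09ef5772e9ad07ead77a6aa546606a3812d27f4611351d6ae82c31dbf0206340cfa6b60de91e5dc52639de5ef2e5c77d1afe84226fa2a2b0d0bdc9a4f836d9c3a036453951f7a3d0fd477075f51dec3297a322f6e495944ebda422f6c69ae6e4c402782d45e641c43f77a2aaf30807f6b59479d84a1540219f74ff8a310267f33756efe4872700f3a7291c84bf469cf4c3506f660effb538ec95cfdca9515b74495427130d8320145f0349a7a235bf48e06b17c881b20c3d7fe0269179de8aadcd0d68849a39d73456838ef3ad873b7c00701d876993dd3aa6958efc3ec64d817c68e3a98c4ae1d8d7eb0bc428d27019db6a8809205de0661247550dd11e5ada71a35f6bf86d76c85868cf4da9de0a71e7ea227151988f56800ecd85a9ccc9947ce3180a9c53e193b39b429177825e0a43148e7d516becd61ffc815e246c9e6bd984659c531eaf1c31cf83b4a55fd1609a2f771348cdcd72fc82b79c24c758a6ee5b83da8350070095d19ef1ffed6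cf944f9d194c6458cf31d69e87f76cd1ecb90f1fe9dcf3bb02ee37382d7496c960abd5c18a5a3c0f939ea578f7bf2ccfeec92b3127a0805da6f41e5c2a27c1dca67d21088056fbed81a87e5d6da90402d967d8efd18a020592c29f64a1ba04a3de05e50d90795b86348f0ddcbe78631c8b0003682045daeaec991bec5ae3e0893edf1fb2f45e9baafae4ccc203f0593553d83637bec4d69af062f496ace77968d81d48caa0d0e1124540fc3e732f9d6eefb33e56c71aca9aaa5a14f50c58a4ff1b0c797905e86d36f50d0822ee218d16d2d1e1c409bd7f94d975548eeb0f8eb0a4bb084b5e2f2b8a977b2bc675a1b2d3268253c70ad9753462f6fb5841bff4235ff5b73c2193f460a02f7fc5daaf0c423cb6f312bc080432fdebb5d990e3e85a50dd25e06686db9881d1610753deb1f16839b3259e087514577767fa455cb3751a1d4de609ae637fdc5f4405ba0d4d83e96cfbdf02ec955aa5e64003469b89440243e27d80f8e2b0a3c23f87088e48f51807624a5adbad9a8a49f4897928880a0a62f891f00eb74d68165bdfe7832980304322204b854752d8bbfffc1bb0a9ca5f381d866ebf7beb01caf66480a2ed89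3a72d00d1a6c3545c8af7b14113208de1da8be6c42bfa1ad1356fcb26d3449ffa9c11f72eec9a7f6ee3ed34fd2bf641bc381199cb1acc2a3f9de949b5a584b12bd81fd16f4752dbc4f15de7f31acfce20d985e193c66a78be75af58c6e090b207ed290713dd843dbb11ca34f73867610aa0aaa2e3903990950f09224a6484fa79c6d676da51c9078252d374d90542473cf8ddb2b608add1ea88346f5a31b1d0d17e49897b3846f85041ed514674e72617929f9701ec8409576a8eec286c5a7751e6cd65a0770192776288bd9b8ffb994ba6704c78d06a244b24eb5b7acf0d0cab70ab501312b5734edb889d3edcebfa32dfaf9c7c11b2821185fa13a76ec78944ff6c6f97463cf6c2552a2a29576a20d398224cdc73808d6930356a78184174e2da33e918116f978520883a9e696b39a9640b4be21ac961219bd2079a199354a90714933591349031bb2a7e043ccadc9742511b275cf83e4c38a7d1473518ec9d78743130de0f36536555df57d9d05f2764b6ae842094eaaf005d21ab787228fcf51adf7f3ef5fa3190a13811ddc8f941a56b35714fe3e6d78a9a19a21408f929d87381379edb808ab9c1df9ff87adb5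626f263c358a658f8232c79aaf7a5680465e92e1a5b10d69d87700c260e89bb8b97f1af82e18bac774c55e910ddc40d067380534097fc35b3a03a9683b320a3655f025670e67fbe28ea391ee176c169b4ceec45485f096235937a031040fcee492afae22ef83b9ed4ede4d46d4370e22d481d109d39f627cee5333567ef70029e724adb46ecd9254e2b14b255f224834811e2c38782e07bbf9097a007a3fdb261c70d5e1c30dec3140e0dfdf99dd6b6d12542443e21f65c4ce8a58d2ac077b32219be3784168579218c9b09f1525ac3c894e90a2a1f6244fdd4bf6fb3af5e9bf221dc4e21d0ffadc012986b0d179e6da6c4d6692c1671ad2f3549b0e5f9b326ff6eb0b230f037b6bf2736f397783109e806fddc841bb22a7916b8ab35078585038bdbcd4f57ecb312c2792a33ceb1f512d888cfdf77a6d836917a739641af217f512543879ef2bbd6ff6a385ee9f7d42ecc14a2f80f145845072240eab33192d7de72e1410e1d88c7f783e149379773a188a39b2b01795828d8cb1667a6ba441a1454cf5de8b61440dbfc6fa08ab71687524f6d17a98dfa88fd077158be5f199e74d8addbc96296a0930b40e2d30db75e6e67ce70ea89da606f03497cd878378dcc2abc8d541dd891182679bdf34057e7eaad6ed4e5146e7216790ed8aacbf2296ea5b736ebfa9a5523a8cae8cbb92cf3a808a5249885150c1ec623abdb311e07e15e90f5137d979ca3c3132a792)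
noncomputable def U_e : ℕ := (nat_lit 0xebc318e2be30e8742eb7ab93c174a9b0487b0813fc42afd747dbccfa67a9a89fde87a829ab071856ed56a7dce40e70e1c0572e2ad71efa42d2fd6a7e8858735267ae10d539e1dc0c0d3052b1dbf6fb773443f34b9358652ddd546a95eff2b4a58891e99e211eb0f61fcacde04ca220c29389af7376e331ccedc90b01e91fb3947fbaa173f3ff5870ed9dfc5e75a31d74e5dfdbcd456c9854860fce879cd040830fa4d4d8fc02a26b165c2a70c1b89d63d9b163e827655fadd09b6d62371649a2f727aadfa6f045da5b5e05744eb63e7546cc781ffd94762d505a70641a3370fdb6c8d139f43c0988937e78e5f7a423a6e5eb6bc373c90ba1e71e17638af1452b106d92f063cd28c3b5eeab79709166023de38aac8450861d919b932b33a3a11c7e4642002dfeb6c4b8667bed2267130729c7a42520104a5250c703ba0d85490e7c8c959dc7278d51854d029f108e38b9844fbb58c1acc096363154fb389fafa5148f9acd3ba5bb16669a00405cc202a0f30e7f6f1c84c113641545bb6e177f568caca5503f773c73d0f5c970f8ef88dd16ecd8bd3f497e498070b30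107ce2520808242ba4c7bc8b72933da9c8a61c2c4ca45d0375536c3be3659f7996d2e3eb3c550f94e671550bac0f61e8db7d5844d4d2e5de8b2d6b0414f1c070dfcb6066b3e3d7ba551ead2df8636b26ea9a12d9e3bd7aeee996114a743ea9bc8fddada1a353956839689611d559415ddeaae88368a56dc0c6a5da7b0e10a4b53b8a8c1095b863ecef37345c0030203115307fb5b8a434a7c1d9f09e5fac4ebf0645d7d30e3acdcca147d83cb3c09755c2d5952c52e93597bf032c993d9bd3778286f550074c752ed1ac3f288528d1ecd6d2a7b0458b48d446b075885a0c59055341eb4f31159b6d8f24081503a2466828c75eafad01e6b79ec49ab260b5a6320edd16b6c3267c19b28c14809d2a1cf1fd720d4f5efae5672830f0b4556e2d11b4b077caaaf91d15e62487d2d926a76558cd2af6f5193f62209a84ebfed46e6b7b091a5ee05bfee42cc7fe31060adf12f3de4cec7e4ace72f6474cdef799f5fdf12800397b6ad9a096e618fd0e399453ff2cabd6477391b5024eeafd21400b07b2fd00995d1205a807bd22098d8a6ca3afdbc83f343b3591687aa3061a2a05d0e7b090e018d174a782d66723df06b6ed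b97de15616e2f74a131f7641c5c16474f2abc9cd67816c462b699c83137c13c1fa8b629abe81f9707aca65be1a4fdf52043041a7508839607d68b53c8c2e0ff93d45aa80f87bb46c45ed27e6f931aa7b3f902d91b28cd52c479722eb1900d9138d13e9d64e59c580afd80d359222fdacfea8d1799a07705fe2f4685616d31e6d575bb6daf805cc86369afa130c8dc33571878bd0676b9983901d853b6741ddc42f0914fd4c94d0cd1ea4b1574e8c91684f3c191275de740c7325889503a979f69d0e7ffcdf86b571d49e03fa0f17fb0110032da21016edd8c65dd240d1fb98c3bc22b86e615fac8c3ae29824d116b5ceaa0555ae5dd629d94aa98158298705fa4974c7ba2e7ce38a8aff3c7fe09f30dd55894ee31b01e4134560c6741c3593937e07a22c40cca7c1459605a73df6a261b44da98dcf42c849853fdbb19c75d222a97ce472d5c12ba20bfb321f96705e4b63182b7f969f86d35434e7f888ec925b2a450af60c6b9a1f64311d9bf2928f8e608189cc83b28eac064ef898f021ef4503fcffcb906bbd8cf9559d87d04098cee52a628bfaf5cf781cf1fda40338fda0e4774e7dd9e1ee3f5614b3e0bf383392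0d97839f36153e3bbf0166ec98fe77d7ac491ff11f9528ae4139463d6edbf9679b8cde022be129226d12338a25923f3496a4b9d94f1cd370d007251a2f7996048ad655d6476e3a027a4086e32bf0c4d6e209bf2e611b194014efc209d4058b971b6e1f5430631c9bbe534238aedbcbcfaf2fb9415c762ad17e719181172568dbc915c0b05cd2c20365efe562b0cdf88fb4d36a3142e7f922418b86d1e1985507a7551a6c2d76c204e1a7db1dc7e94b61793e9c64dbbc95ae32bdcb07847efe8e69f86adfdf190e5c34f42350b04ce7e433a6fbbb2d0154a31fe9f8f947fe3073114f29dc003b2d3a80c9bb87e29fe6308e9b23bc7aecea2609489fe4f00500da9a01ccd45634445e4c359303d67f64a8d95dc1043a123267de840965aead6329291c13f1109508f5f6e260f0bdcdf007713790a335ac6ec1586ada610e4818dcfe07c171d4f805ec58d1475b828d219f99cce8060bd09cb8d55379807ae20bac53be313207f0e007888ecbee6465e4c43d402b54951a6ee9a26a37e6f20deb07424731d1b798a09cae4d12d18cc42d9e03a94ae596eadb682c3780fd599158f76201f3e89d97402cf703f8e1282ce22c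2442fcd0e5864b4dd9a96fcd75718cf0c882fdc1a3a635be0bad63939897376d0529f033ed2db36a6dd897d91405f792606ce20dd60b69d26d04d324877021a0d2e7b190d0a406a9d79dcfcca96842f418f16964c4bf93437aa88aa3af107a500f882d83f76e52d092d3929581d45f3a7db78999509cfc232ca8f52b5f7b2e17590374c66201cd5035ef60761bcde72fb4fd9bff0eebcd2860f92408856d440f483ae486c71a01d60c4e175379c545d5d2cb85a1b51c17c574399b1d08ac9409f507d42af899b472929e347815d71d24761bdecd22430140780d6e998358c334ffe17b19c270a8b319b55d638e250032e1ff7d3beb029d6dcdc2a6904405a7c64516471516e87334e6b15fc16e53117ecfb61abcb1702197c563457ec59950b4cfc3695ccf1ca7c99eddd5357a8d77adc64f44a197deb5c1d694fc5dd7a050dad8b1f4c3578c317da9f34f1e96aa1af31b529ed0bac3fa69d6e50e6e213ad1458cd359c4c880a525d6ec02fad46af13059a9fdca390501e62105dc433cf5f92a1e136c7a2d89bf1f62a563a26c42e001a9a61617403e30a5c27bb17c26c6eb8bf5c8acf14df366ec690d1a67a1bb5832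18dd269fe0687d78860841ca5c66ebf459c4ee9596234b85b018144f857ca9f3ac500b7343a2fdce5809afb11bcb6aca07a8713821ba27bf00e9ab8761eb04f5a863125f3c18404213de7f4981db1cd310bb213fd6f8a4179b5b6916e145066b167f369ecb80d51f4d15bd3f9ffcc9fb02745d78c553f78f6704e74ae6eb251f613367185eb83b4530d0c9bb6b02c14b8109b292085bcef3d63d1096cbc95b313a883e88bea4e6e2ad9fd87126901a4f71972731559c72e1ec78d129c0b698ab06b6455e7a729db0f81647e01b16be0bbf1803a64e63660e9032b8f2d6586a10df274e708c28878f48c0709f70c7d53b8ed990c7eba9eff5ad5fa1a3f5b1c5d1108b74d8a2c3230199fe51018938b5fbab48ec8f198c0e4bbc0f9947c9457548c88e967b86f78f46d4bf9085203b75dea4442609e51fc345be9fc3390056ec1498b672d600418cf8d8de3d4ebddd5b369ec29e527448e09d06e0e4a458695762da21ff08825e4ccee90303fa91baada944c174a7e2549ec42f46993264cefd711d688e737800f30e01eb1645a6599c4ff4b12d49ded808c93d8a00a7aa401e5f5d9c511ec4700e3aaf6316853241241e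fe9f199815c426ce401ae6ffd9fe33bb89e82a86710f7a21351b7dcc588593c0e757da95d9fb3d7873a5f99280e1945edffa16d1791228d7d052af4f1dabbaaf7897afbabc775c56b27d86d76dfad4813fd43935db07ae1f5eb6eb35c9c8b5ae79e9bd7eff3972b7937c031a4f08bce048a07e7cfb4033fffece32a28899d6d72f04c427e6b8c197844ef07fdfc920db2992b5eb93d8db2fd0afa69d0847b8ec4696d97a4fb49b8cd2c063170f6a9ab522c1deb6ad437c3a774d8ef70606d7eb8be65a3256846bb9055a2653fe99d0d48fea4e236a0211f737ee0a188c26c404eeaab583169f1f819bd3f0c5a46577b9433626bfab510ead266dce3d2679ec875b67bf2033c7df08369f5f2e507e659e19daf546cccab60ee0cfb941c97905faffc53d4e78d16996d8f9ad7ae96a850d19851b64d43697b17defd6f7a72920cd9255291fbeb78b425c01d951a849c948021db0b0e454d595b61d96c1689896832391b518f638cce4074a2222b60a7924ba7aa31c2cc4585773f2233cf557fcaafda6d0cd217dae6d7ef6de5edc323370d6f25af5a707cdc26763815eb2d5685cccde3d98070da3e347f4b9428faac53d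d1c720cc5cab7d081cc2bd69c161e54d7682f434cde1b8345818d1298c45324ffbd34f9adacea998887e90ba377e3c77a13434cfba0eb064eeed2a4e5793b4ee54d82377d1ae44402cc6d9e6d4c4208c7b2906d638bddae63d7cde06780caacc7bf9d63cc9fee9d9f6b19ec2a0fc0d5f026e5ff5592f4f8f8e56d727f40a42e3237ee864092c6c22150766f9c57240f7fb1a177049c5f5a0c52f923e5efe33fbac5cc07db1c940d90e6649dc71efe64b2e9700b6e216c7e458a9ccc2fe2cffca38ef2b742c72b8c5cc0297fbe90e3082691e106f3affec88a79d49983117ae54af73a8b6092aacdacb1a09cb7936add30ecfa3e2a8ff2b9b9614da57b3bd801f6b6a7e7c3668d639e67afc932295b33922bfaaa890a9367426bb30dde56229e5c6761e7bbf17f733e154dc596834f955d9e20d22bd2a2c32f54c9a6aea30ba82822482c57e8c86171a61eb36093e11db83630b4e68a6f76266f2ff86976172aa4b543fde6cca1070779ef2cdafb9dc2d437e4e48d5b15e99ae911bf7060f583bee60f58ad4313934c3e0a4aa7235484ce61203f8cc2b96d40c7731a57983bb4eaab100e73da8fc6e9db4c374e4e78456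65e74a3e2c77b6d41302e5f7e9753515b7394700bc18d5d2384237501d324be2f66eb55abffd555f9e2277d2db6bb49e11a4540cc9d86319f290a72efe72d151b85094e1176a404c0c24c03506a561ddee6f91f9cccf969ac8b499374c9eddfebc01365d4b7cfa97226c520e07042642728b9c19222117e490d0c8a9f70c1bc3aa776d1eb7e670955af5381e71cf0098be9a2aff10da4aec8f16f4eaffebc62c584654da39458a82816613cde2833692f06a196c50f4a2b8425ce57fc148d1097843aa81c11699b3e6aac7cdfa5bf369acfe4b4a5a718afc5fcbd7444dab15b74248ede079275e9163867c21ee56e86f2fcb5271585e71c5e9c61d14f7617fc88dec01573abada6d352d14328fafc0a6ab4221603b50cd567d5d99e345017891fb79394eeb663c1bb70a4119befc6acf76b433812d14c1f5b72e186556bb3a52165911356f0f5aea5ba651251ab1bc4568f9105247ba899b561b690209eb4fbd42a19e4722fad0b916d9af64a336908255dfe5faab69ddd902867d32011e1d8ddcfd8b85501bf0d7ebb1cec4f50105849634734c49dcc14e62dda6de02fc6dcc5e47bfba64531cbd8631d3519a09af38fa02756d31b3bf31441da40b59e42018503bc91d61fa23a1a3ef5f8c7d46038aa9427b16df9c1a91f3fd9a8e6f11535c4d6c7677698852addc3c20d81bba710952e12853595f2509cb14165cfcc168a665de79a8363cadbbcfb23c2c178)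
noncomputable def U_f : ℕ := (nat_lit 0x1b18dd538d7a1d77f5a1c2e02f00057d3ce999031fd6bb09e3e8da8b7eee598f7a99b498b4b2478f43c57249681aae7e09031658c347a48d44f8efbcf5969be5e64d4aab0d90c73bb096a188f63c7d6409274f2a81651b7d6ceac1996b6c6af603fcd8889690cb27954265f79d1cfdee50e5e6656f3429315cce32fbb09b29cd015ef09f3e99ca81472138ee9d8ecd9b3322bdae69eae3699dd87f24b2f32f1713d29a8a58d9b6dc1d1fc7130cc460a1d03d77b9679f3a75af23a1d28061e969b2c679119666a2cfa86d49be82e064bf325f7911120b5f5174237c515729db97a3b54bd654625f13d57ca08b8283f9c0f5fde9900e1b129fcfcbd7e19336fac94e3c74c09e3d1907a5905af5ab1f5c4c72691542ec878d8d28c00daa6f44e688a63da8bcb7b701dae8909bb9135fff91aa35b2833bd13518c754af2888770b9bedc04fa25d447a486d91587e3fb077e00512c9d2d015f069892db1e91a3c41e84946733467512b9adc7b9476961e856e89ff4f633f38218c8c56661f5dcce3d0fedccf3dbd9813bd7226deacc2161289537d3b77980c02ab09e61a7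492e4f00417d7b147c374107b01f18834fad552d5da6aab38d777484696911e8eae877b633dc99633c7d383a921be5af4f3b19ee3363abebede1f873ba782610f4a4eff0dbd01d4570f9fbc814e018c880ca97b3443c3b64ce4ff029c2d441bcfb2202e829bc984f1c50b073919020af8182ab573ef5c1a6272c49b2e12b28f8e4681fc08602448d838b3715b8a6ed70344bc58caad204e5e4c06c8807d849c35ca16f48c1a481aeccee3bfa94d004a541d87038e33195ddc8aff6afb06aa8686896a80b3cced9c55d1c347679490db22c68d2fdedf011d96f8627decd7b5050ff42f5cdaefda79ad70e02510aa3535e9bb93285a5c7b825115e1be34efb65299a19444eb97fc0a5ad34dcbf10c4d449b999b6f21c4ef53f3454e5c10eeb08fab4b020b16d23e5a4b57c8581ab2ddf7492519eebffa1d5ee54f74ef2f0eb8c6673fbcbd4b0a81b847c4cfab685bfc2468cd87e67a8115963b24016ab1eeef1bfb71cc6415cc028726799877e81c74ce13c385a661c5bd0fd5821a333c4e8914aa153f4f6a6f179af4a7f1a573f73e359197e605afecf2060ce1baaef96db7a5a1e9e83f562cf29b0525b067a5f2e0d31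2e7f58d6c37c5d5f8cb721e46530da313a69564680e7b4123b9724bf68af666355235c8284424f36fa13c5e39daf4fd2b5f7b268884d1c3c1af21dc8b7085849c1746f1afd4cf8f76857fdd21ced45e94fb32d8c2b1a43f0e3f2639f489f94ccd53308e17d994d1b2d5368c0842db2fd19f43397765e870d1ffed0adbfa7ba9b73782e11685b4b6ba8a79d32a46b89e822863921b17257dd06c557d0f53f7eef17e48ccb87347d283fe5f256fdb72f568c6141b55cfe9c50ae7408267ce755bbc0d3c0c714025abdc6ece3d65f683a0079aa87cb030a26ce967b96092e8a174f54a3a8ed3c3da9d428f41c9286859c3365f98a2e15aa99ca96495d88f454d38e63bc8897be06709ba9ecb30962152d23233b64cbef9be3c0e9465bba00b0e0b98603732d562d1068030fb9383dd66a39f7c80f5d7001e5749c03c244b16ee7afca17104957537fb26878f6d129af0322675bbc8b0a67e7b1f348d9c48d91168cf24ebf8b94693008b2030212158938852f58948c740fc6614877fc2824c86606be206825dfcb0a65dd3f9dd315624c29c010a915e799ab95d94bd00fb189f5ad2ba5e71af0df34f8b29e18f7822a804c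64698cd97946abee61e06c16411e0d67d5b231da46cbf56ebed5971dd3909785844a8adf1f722753549b2acfd8523fe733d045d8a905f5fa170ff1fe3e96fef3fb5630ad124b569139f97d42400ce06a26abedcfcdce382d7385da9539423f5add71924d2d157044a4a6a76e209c4d86e7b44dff70b5cd643bbe5a25872571df1b0b6439f24d627f52ccad6e9d4ca878bd3ea8cafe3b6bf0706aea98393335a5495884b0e4631412c86781de42c9f1c7e838ac6c01f86cec90e9c6d3a34c3de3424859e22fb9c747043f1beb0b2bfe0cd52854ae03bca6bd1994412ee866f5a773d6f58851efca33b324ec6abfc09df1d6150a458747e660eefaa62696aba1a19cb53f1f4d2b97087632a1e39fc9b9c588f5d6f8f78d1def1794c68e5b1d0940c744c7af266feaad8d168ed395773ace9234a1e40d49454171ebdd0f053b3ace0d20ef222cfe5ad6caf60d584c4d1b97e08fbb6f849b7f7edcf0a3ca5dd22cbd18c3bded68fd4d8e2c907e1ae76dcc23abbdff24c735e007a84a41521fe03e70ae56fd6a6819d28984a9fcb90a5ad07e4f2e46a2e988d057587de6ff2e43bb3372fbc551f987585d2294855fc1a1c9e0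48c99b5a309121cddb9fb4b98602b0c28437479cf5965d5bd8101f0c6c53128c115b35ec5e59bb05566f1a55c2d0c5d8960a30aa9ae6a767bb3572251826d437c6d7e25ab918477490e0f1c593fbf468fe86544e8bcca99e17e32edb03281bf8df22a6cc97911dc4ae46c62e9bf00ee7fae9a22f1cac6417dfe63f950716bed557e2932f88c511506ccdb91bc28d224d02766c8496ad682900f6af37f24e4a6d7d11ae0b996d41fc60f52582bbbdc17bfc1538e39d02bdda5dfc0c65098dc142f6e7c1e7e649277380c05cd1a817a74cf092ba25b00282f254fb7391614c7d6ba59d0af99e90f1e721b4c16daeb4fea28e47aa2dc20ae7a1bb855d27dfbc783c7324947181c65f0a0428ffb3153ca718e715f6e70b271c3d69dc2bc3169d36d264d3aabf115c79b6b231106bb5cc7f76ac7791657d50d2ce656c8c3669a29735fe05a632e93b03628d5539824f109c8fe43667e286e6c4e01de50feb74915bee0db00c78b8479e33068ccd301e09ff9ffb741653715e332427820c3da72bd355de789b5197e67fb1a62fe8c347b21bde3b217048226d3f86a550d4a5e0dbd45c718135d6b7489d73c5a06ed19c5a34ac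5ba21030d75de1267f77b146d49c815fba1af6a5e7d83be14a4b017db37eebd11eb392148df55fb1278737a319bb7db7756b2d863d580a6524131e95a514230ce114062c848de8695f6f37fd3edff18667ea2664c5c192249b6adb9729f10568ca05f4a1b3b04cf09122ef3b810382d79781cff4c54b35666887695fe0d4a87fd40481ae06ec3247ed780d494656842eb0ce98acfe64331d9b25e4c81afc82bc2904e74a441f52cdee6169d223159e142e93e7d1e6bae8a3c9a11a202f7dd518d29ffe0741703e77ce5232f7e08dfbbf77c7b55da93826042cdf5f96abca3230e7cb86e3f2113e52db8d88ce94d970459d3be1f442105ac85498c0ead2fe5b88b207f8953f7147fa2a741a12fccaa3825aa21787b2886df30a386d28c35db5561d403dead4b36b73295525c7f0edfa4ea391a6c46fa2e9ca6c075ea8c5d8667f1ef4491e973bd3a7a17d2f43f6825b814aeabd1eb8904d58bd1e88c8b41a908b535a4e9d31ec6df4bb6029e0494867f45be930e2a76cbeaed7eb291b21edcf73909f7672a028b82de4dfa874dd1652fee43c959988695772d68ac35a04ca9ec31450ad07e986a3967fa9089a51f081d5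2c26cf68fe507e022904121709a4219680d3aa3bddb3de9f0a1be8663a9f39339a1a99479972d8a0913fb6d31f76cdc0fd9dd0e6561f7eefe4e936b75dfcb0d37650eca9a11a4902ccc9af1fa8f14bdf394b020b7b47fc3cab1a0838efcebd1d985c33462b8d415177421df711db3a800a11cc14b36aaf15a7249070ebe7d0fd9d94c277728cff8a2c340766a7fc640ac84eaa057b47ac241cde0c110134ebd1ecfc69e8845e99c310764f2de666734aea53e05efab3990ce7a5c1f6f16da2941039d147c39117ad3be47937d39bbd2edce5e9b8d6f6991ab667f47d4e47858494aa6506835171ee124cbc484375eea8d52c2c24fdc8b95071582bdcba5f837be62d70f4e1d807a85eeda985f2302bd4a0eff1d38dc9aafaff0f7ec8281d84cc55915234a85507d35b048f44c6948b8fa0b68f74254ab386ba515d9090c44e11ca6e471a8239a902acf69462ba2b1cb972add78fe72ee5f707e354e13a9fb9c7e36037d85aaf7d94c346d628a951d7dbcc97dfea1fb1146291f2eee5af15d7291346472f415ec12686bcd252fa629342b89aa030f9aa346268776b997db4a49f55daf679535b932a76f701d2c1bbab1e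5826bb9a5a8de26551d936ce6e573f2da293c32d84d42c5a1eb6b2df0275085f7929fb83a71a668869fd033352bda887d3b337b078394b6f925d96fbc99229644a33895836e8bfcfcf0b5f0167f741873c361dfcc1b6aab88cb749825625e7112b5e0f2798e17674c072b00c97659ca1b197eb41e113c43685c63782df26052a2bf7c3dbd2feb84d89a67cd9e82d20d8f07bc368ecd2ea2b455f8e96b2f7ecb88f3216c30eeb8aca0841246463efff07ccb28e063d8377eb12b364b3d7a946c398e21f48fa3c28e79effa707ccefaffddfb54f13f676623adba6fd287adf8be72a38e461da29ca735c67a00e7cb3776e45e0dd448eee41594186efd449dadebae41fba72b4b2df77bc2a905c67299941ec10aee87d56f4cbe1b5bacabbac49b0303c9a2ff4c2e94731de65afb1e983e55ee5684787a75a8d74998e54b5e04d030e72a2930d640ca4ad4c062f799ffda83fe1e1d5e1bf16b1d1554c3eb7e8e28e660bd5dec43dc5cc027fd4f3e432d176793d100d6967faa530b72e31b6718b6129a0d73d462adf9da7037cc5c2e85d35d7d3aaa61ea4193482a55073d22919572998da6f953d8495e64509cd716df0c5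082705c2a90b218ac7fc4585bd40dedb212b11481daa134fe3e6018fc693bf20978792e3f77a260303ddb76a315c53af4cb3ece2724c73021447806a145b7c62b160d2d9486b9ea4cf5c8b966f1d1f1a2c43e51dd030b9e057434ef1e33155ed6bcffef8640a8a17c0b0d3e93cbc785a2c8e8269604a1728cbc0b68aec2d6c1770679820cd968d1cbb0c206e05005a3abeca73877c121e4669a68706a2110c969fd00efec6727d9ff19ad0c25711e312ff38183a7be878cf7858ff56801f5900352f67d4cc784f2706e8bad983a29646aa1ded19435322575f8a6d7f5219d2ab65b3eab9c0ef7fcf5c3b0c579e1929498a8a90945ab42fc8d0df5a88d423d3c2581f67d4d90eddfd15d85647175142c206f4dacea959884effcdbc554590f7e2d41ecfd19e242b73fd974b5cf055c28f4538dffbc42c7c95897f051c306eb0cffe1f9f2879779e2d3d4c1a45ddc30b5bbfa8eb204ac652707b888319862b2ded1d01ca0cd31c65bec8aad91904edbd2d55211893516ca6fdf7c2a0a63a9aab26ca12373a01a30007d481ac9f7c4aadfbf15ccbf28a048b4fa9f75fbf3cdd9d6db3a2da2750884f401348a2e6bb656d03cdfa4e306e95a9aec1d4037a8eaeb74e03a70b02f64f4ed3f1508c38a41e900d3ac42fcd60cbb453e7964b06eec6da9b4ae20a4f6a0383a9ea223187e347930c8164b10c66c6eb64c37b7c03d2e74497a3576228463a48d4d936ca7ce87b)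
noncomputable def U_g : ℕ := (nat_lit 0x16d3d2c71ba8964048e5347b954285f29b140b23af776f2bcceb30f6c3d1c664a9f45d8c616ae42558fe2750a41b67b2c319622c8d56cccc10bc8899dab661f3adccfad0846aa5f96481be035be36e2d49dcf9202a78007d5444b3139e7cb6ffa740eab74e67354e0d829393cc98e76c3b68cc7b374c72316a7f4d6eae2bd30e45c179004226f9cb0cdd4578fa1b1bfd47cb27358f9556a469030211597a8eb678302d403c566ba77ca66985a5ec4d29a5bf43dfccee1eb378192ff8d14dc568b7689ccc72b552459f30f783f25caf594a09e4c5f52cbbf29ed08476befd2422ca027ef9dbfa57f03dc4f91ffbc364bc801138fcf5b56d36f5738e2adfe4808061555a11be2e1a46be021d44f081a7e04e28353faf7f1579583079faffd9bcbc8c36734dbc9ff9c9c7112678cc045f7fb2a42a9a668e457aa8e41b51c4aa16c8e9750083cdef72673fcc1cc04efbd4236c38a7b6f201570efd7d7189e990ff0f513d3642a42d213876e967b2397efe98282e93f7e00c499416a91203615d341777088ed28ba1d858a7f7e0292125c23fd96c5797b1b68ba71640ff6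c9e13873afb495c52163a1c5c66c06333e380367c13f859e394427a0182f53431a4eb19252e1a5c29a144dd27dc7c3e489e1700d5e92174133bd9e253907e61a6e368784643a952172bd0d621d1094c94f796ba2cb90deaab2fd779ed572eb1110074cb7231b85b4a21ac4f252adc835326780d80928002d17e36ef0d6d6f46c579690313ac26c7cf8d455145f8068a2e1d6333059fe54597fd8682f38af6a811d98d4140c5e4a447ad6499da46972d8ff7ebba377e9ae094ecb458d9419fca9c939380e14d8bb6ecb41f329c4ebcd25d8a6bc2abf0f2f9ea1b49d8209a58be08dd701a77751f9ae4d0d6317ed5bb5a2437a072edac016bff54fdf600f9eb3635adfce9c961d7c740ad694a3e61dad1699e06912233b60010d38f0cfc19b0376a45eb3a8e6870beb6f4390d72b9d734eb27722a21451dd0b8096436923a65c441438a15100442ef03e4d3a47c1ea1107c73bc2bcadaa44280d446415e3fab5156dc23f9952f9349889c0eb93b062f9bec1e0a34dbe9be04fdc0fdff4747acab8adae28d8a07e5b6b6dc5fe42cfe8e84ad0c49643d7312faf55118b38ea0edbee270314a6f49ad44ad427fe3954317643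85718a682f937e4a1642555453dc3ce5b1f9c8654c8724ac7e0f7f844e5c4d35487c82744a4c778d7a9b965f0f4faeca3daac3ff36f94619a5d4fd1a0458c6da39eeb269a799f4c80f67bc078776636bd3e223a1ec6b9a2d72fb5172f3985d928479839b91b6a071a2adcb7b241d6b10434c7e93c4c8a82e17129d7a870f90f3ab7878d53d4815201f7785da15ca82da0440ece55a0627545f60245130ed726adcab2104df7a2fda54f4df27c9b1eb60c5881a2439b77e6f2d20044d7a4dfb726e80dae3a8e7d13db8858201a5a857693f2da55a28805c8f688a4f352f4454a4afc6f9d14b6250cfd52f3453f9a29e09ddc27e72d4d92425966d5bc84adc0b86f74253b7df07b342b36ba53f01afd2fed46f349090233da8537d3341b9561413f77da192371f67faee4ca33b42b53529b396426d97ce3af1d8efbd3a4315d75d6ccc5fbf7b970959639813d24c4e76189751c9346eb3fae8d067391a6a19d2db65dca680e060a4a5e625cc3dbe510692d670d34c5f414dc9db4f9dc7e6f13d65e4c93b281930f36bd7b4789b35cfa1ab1740f9d810e269ea0c98d01ed3aac1f4e3e2c2f962cc956215dc208b878fe431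4b47b292f78317fef3fa7650a14518138b441effa8e3d894c9618a952e1056048ba14ca52cddec0b44535005a2b0e797b75f02b44910b1e2d420f5491243a58e32b4b5e88fe272cd9422a28b7257a3ebba66c8691a45dd240cbcca6abfd69179fdf1dab906e597fbdac7318734b79b9bbf68927d3e64c0a3354920f3c8f2df9caaabec7d43aae270b6ec89a5b91494849ce6487aab45b50e5ccaa92deea2cc748689aeba8000078ddc8927639831beffa64735603193db5126b04e37d7f1d1d3a17fd55ba6a513ed55d8ebd0929692bfc42c65ac41fe238da5642a4c0bca588b5be6199fa0471105e841af4a9388f8710a946ca562ac604e499d341d61c08070d522ad684b14bccb36c97aa0f6fcb0e13544f52182c6ff5d754d4998f5818a11e9c55cedd828ad46b44a83f5475411258ab3f03ef0a54ac2ffb7d873ab39b1a9f53231cedb2d2314be535139d6a2bd53c5a75448ab77bc328e6e9c28b14b7351a55399b2d0a2a531fdec5eb8d72ea2de0019f355916b297a46bef5fdddd102d043772b8704d753d7a683c7504057da09774ddd6f3c919e927e003b7a2a66388e768e689fc7f36755bd10004c80f1af43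b910c20eb070d85de9b5af5e382b636c30cce2a33428750143a03e5441e723022052ed26bfa03b6b2172fd9c07d47ab7f33afbc22e72efe67485c63486c8bda7cedbc2c29f65a78002c048510bb674cccd42d6b4f85f84a4cd02af2b62fe478262e329cd86e324ab112be3f9a8ddfa317697c125f6e19dff777b2815e09b87e1a35726da6896785e763abca7b358864668051ad9e066af3c5db15cf0bb250481be9bbb41f442d8dbe39952aafb4e69ac3f2c9976f47896210bacd317b998505f9f5dae9a3d5027c6b3fed7adb780e5c677d117d2c7a4648dbc1e555316b2aa48fcce3c0ed92a7f045c20ec933226517183d526e390b0580c3bcf0890b404899507206b0df8063ad96e3ccf0eea3e3b6b57e5a8ecdf297f53154959ac31b68e83eefd1ade4f5007e50659ee850dc82ab9b3b05d78bab9b3453b2c6d6a36e9beddbc7dc47463fe54a7b723529de2aa005c279a7a03a922c04d81ddcc66b5cc5abe3f948f1ff3bb2cded8ba185e4678fd54be660c7fa928772881129f21f71164e114b10ccb56d9258ba5ffa4f637c47d45bc34844eef867759578d13d3ae8c2564a13dae4e70ccecfa208ce10de8b4ccd7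701ddff7a0d41cbb613adda80a4c174d5b9bf58aaae0497e04ee88fb9978c5d54f880024708a3a2abce8678511d4bbed4f8ce0c7591ff8fd4a06b12dbc23a3639e3047cd41415f41f7a24bb4fdee4b3a43b0125eb69684ce9727835b2435fa60a68497d01673d6dbdbf526f8016be3700b063d0ea674bac4d03cf064b3b5e432e1964a525a90260d827580a5b48eac684d087b849c9d2b46b49e7fc8da39287b605e7b0ea6817b7ee09a554b0eb8f6dc07062c8da844d183d68880125a6784672a6925c79609b5d94ca6b23138cb6aa5b3022729cc93ab9f8a6ba24a031a88a4ef0f9b799e93105286a74be085e5b4214a496cf7f6884afcf9d48cae5855620ae4d37ce10e40b4b0e0910a757b46a83919791bfa7d30986b55c732af47955dc636fc16edf776c057d2443a608aaea3cc2b82f74b20e3d6c315195bcc57e801b02ab33cde847df3c2a552ccb4553ad6ab054d1e7caeafb226ac8868e3f18fbe257fb8b7f59a0fa6a8b76422614299167bccaf1b8e59021094df165958933ed4420fa44bb0fcfc3631027ce0b92da6cd5877c854f0599ee9e9ef320748a311ae5435c160e87c58b8a98ed5f740feb03fee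98a976e1a27b72cfe5c36056ba0dd29e25a7f67dddd869a6799d774cad6c63670c6fc6d87286ea75e761ca401837f23e24a80142d96fdb5096ead19fdd40947e0348130450a29815bb9c7cb578afbfc390be1873f1e29e7b2327f9320dd0be658f8a8733e4aa41a9f2346912c852d537567d89f85c2962413c0dee7bb6e801079278c22222acc88d9c955d9660998fc0f5660a12cde5f4c54baf5c281f83f180ed5fb2a1351098b3e7e5c6e8bb50f820d56b1655cad163091d31b80703f2c4c3c77482131333434ee3c2a5002e57df18afe06444aca0793ac41449d1103f5b75e2165805322c0e0a0788fc4eefa2f24d2bebf0a3802f4e0e2498eadbcb315601554339f11f9d1f5d7e9cae87199c344affa527621766e53ad7a29a54d6efa057da4a15a24b62e22e7496a00840f1b9ad1fc49aeb60fa1af0e3be820eca633e67b6a65dbcf0b14e3f906f9357b265b0202b1bfa1cd3fc4b352334f2b6befc45d4002fdceb383cf65beccf942666a5781ac972ecb06a863d5bd3c5b968f6f75caa978223960cdbb38f69ea16c11e85431e26621a520ec412e16b88f072a26a8322d7d41c879d73f2b57ca2f3de720bac81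f968881faf655784bc53af8ccd3712f85edf842bc2b1ee2afa174e76c5933c349ffe97163a5320114d37e27f64581ede0531b0861079300878b6b92381dc756753a24acb65f59ddb8c3f29c1a2d7113c646487e7c1cabcc22e0f63f6f33807a8dd893d6338cd3f3243cef8cae1e623aa787a84b35879f5951a00d3e17a23af1b07aac343264e2f29de228087dc690fdc6a9ac80f8450415047bb0ec3255fcc2b95c14954a0b5cc1ac9468ee286233eb6cfa0e227f8249a4825ef97145db8ec07246b8b87db1cfdb37f5053bcf4df62feda6b5b3853e60e80b32f100e730d2a60596f5731c62f2a4e22dcf458f88ae24c16fadc80fcbc742eced3cfc9073b51430b4ed7d265b69df9973238e0dbe6371dd1dae76417b99723b2d32e2cac87e520de05f000a53b037cfe6b6d16bd922bfcdd6dae8da5dc80993dc9d6c58689eef09677d73f00698d9d9bd8de90d39b5f4b7b23dc14ceb9526a43bef3ab96c007ea4dd0cbf9c02886fcd5605481075801a5550b71f385e244620470db1753ccce6cb602d2c6193f20001d7b29b9471f5630af2c6ee29c1db14ed6c7ee99bfc604d0cca975a7ccd5c337e7bdc99696a38ee9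f24ba68ac74271dccd58f9fce8ace6a9c52609cbf4116d0b17888c243bc024e2a1fc52ff2c58c1d8ff4c3b9d969c799c7962c601d970c51c63b186908fcd9affbc367cb2c414a4fb636b9da1eebc871bd689ad690f66749898678ab1cfed89681547f813807ba603fb233e24ed4e2505de2c24d90b7cff73ac8778a4a4ee62d61ee41881f807f71d2e6082acae69a151c1eb18d8c0800dc93cf1f72d21f4c673d896d1136fdc01fe495255a1115eada052ce6be95e26f3d3ff070a9f1c55b20ed269e4951bbfb7a27f3e946ad8753dd7022cf1e63a5014d19057a532b6ec4b6ca7c076ab8aacea4d3ea14740661bfd79a662fd0b479902e655fcb432868f57aa1c6afb5917c949879cd3cc60d547cab094670b6f7f83c61fe5a750b978189aecb821480b587c8588807f7c623fbaeb2e994ada14ba46e676dd4a873b03875d6f76f757e8e3b55f1bf8501bf6de6c2da31124d34bfeb8db3b34ab133b9aa4e9b006dd534bb25e2ad1b1cef1221aa6c8530a3849cf7ae45c5d7c2b0ff6e13b62831a056662f9601eb190337fc3eb72260eef611f516743eabd3cefbc300cdbad311ec031f2038315f0c8ffed247e1c2775354bf70e80876ddae6bde7856683423ead0bd027339eb517005a4018a11fbd91469bcc349d3584582161ae9ec4fd4a27735d8ba39da2e6cdb319ead525b5069d2a2b1033f0a1466f5e334ebba371ee339d3f37f8d69e349b2f38bf021ec9)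
noncomputable def V_a : ℕ := (nat_lit 0x12b18919c08c46fca6550b401287b7308d19d7f7e1a593e67d271c6f16b8cc6af071fdb4b77317c95be6c54b85e52ea3b5fef5e1deac45899556e99534c24d1cf5fe26ccb5ba8e0a74cd9144eeaab72d7b10e6099db31ed02eba04d49a898992d9bacaf2fd468c09e278b1a2de062599673a979b04e5424ac79f6d26d26065119719ec34d89d81946c8c4d5b863bb49e61ed708e77e8924a891a182f84d6fda29c6a7d5be77d5a76dd754904d7cb9f15420894923b4a644b343274c900fbbc19f47789803f058905a6514c243ca7165e7fcd6b466a713b938ce517987952efe605f3bcb46f44bde9c95e88a0016869263439d707cdf52fcdb7e5c6d6b8ff050bcc4f8c63fa6bac0a9e54422bb0efd5059dcfc664b9d6ee1a8e14a80fbc6b71b7c937bfa0c4aff1a19a51d0504bdc9cc4429c67a882042c19b625432eb521e61787007dceb7e70bfca529cd8c8f1353d1baac2bbbb37878266b11bfc5a2167aaae48e8f3d1c567118339d7e9bbed1756235b2966c6cde9da173ca2f3c627e62f41503feca0319e68e42c584b4c636ddd18be0a72be4f9ac21c0a791c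5ca63b3917c28d877a2ca048951add816dfea48c775e21bd8677f21e7f33efe8c0938f2888559c8e973d14c11feca4e16d1b9167d2f7578dfa01bfe5c9877e6ee73f4e813989c78bae194da5b6fd0c8e17adc8619b60bdabdde5ba2b7a61591cd827adba419d86e4d117fcaf7b443f2961c9840efd6d62133738690c704d7e4dc956689c4fb89ee87a836b86c8c5945de737afc831732c7a1bf68fba79a48a8e7fb4ecc5d2670523a62af33da1a729728739f76502e327f0eca495a6aefb428a2c3fafcd620b89c5d3db03c7c834b371a9b68b7029b90e706f2174578d40693e70041ac496f31a648bf0d2eee39321012ab95a43180f5529dcf36f2da066502f989617513cb4935b53e6229005e7fecb3a81c88052667cc776de437dd9d80660b96319f269b58f7b1dc5dd8396363e7e9d4833a37091fc63d7bf207ba997e632b9fc75a45068688fd60f82c9cb56d4c5cf5ce55b3022a9b175dd4188e10139677debc424bfbcd7b3026c123c4f8ddb73eae81d3f750e8212df85b990821ea664277e8b07a528185a5f3438f787fb8ae096628daa217e171f4bfbb96f773de6153acf6cc635bcd0c9af7e1d9c9d697c65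2ceba33220e65bf54eabcc8f873948a7f59dba35f50a253b659b2409ee01fa565aa3375f72b708be4634c6dcb76e636802f74f2e52f76736657bbee17a1e7fee3fe1954077d1dbb250809d5f9098dd0717b68a14665a3830688d586b81d0f23f1f5cc535b24217e86898d81393225bd68717fcf976834f5d460297be01dc56d5d80ccb1368bcd715891d0cfcfe504db20bbff9d57b8b8aba0bfdfb20ed8306e6d91b24323ae4e6ed7f41fc5055018abd37344352c3d3485c8a486cccf622cafe97c164d0a4f508fd4f7ede9e1af1901027e0b2a6da2d8cf9237ddf58fc9e3cdebcd56af57b0c7338df6a1378cc909845bb4736f5f750bf44bc067871e6d7aabeaebebf02aceb422d32f4e2d754eedcfd3bf24fa2bd77c84da3149a3049451df695916c7e92b75fe7c197cb7f7bf0972f10c210daeb465ccfdec40746ad02afa632ed2444497a8bfb9fe532f4a890619c4acfe7236b20754595c6ec7daed92925e9166d79d8f337465558ec6f4fb777df755737088311804e37b69a30070f348eca43b3b349c93c11919ce5805e1104947de8e8eff2246de9d17fd0c8cdf4195aea2ea265443e723c9f909731ee2e8252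1907e61a7b1402a530f577f523b67efd0a8132d79ec8b7591afb415fe5ebbb1e8fbde724c63b0a8deb23d9982292df13c6ade6d265aca219e20ce761052a4ba7c824193392a2a2106a0d928d2377953b8646dffbbcfcac228c8df8e495820ba2ce202d9ffa76ed8d3b744a5f91417f3258c430b13ecea5cf457647646b63d11aca7e86d8ebcc72a19d6ea7afb740ee5a3d3fe9396d9d7ed707ae8c886e1ceeb707fb9229cf347417571fc02c7ba9652e5cd98b654ae213af53b49995b14a038e9bce727f78ccea6790e3abf0db5683d52a8ba9c3503b9ecc5f77403b6bd067970affc1e29be0aae7646cc0e60f714545de6f69b93906579ed66d86755370ec1b6a1c20693fe8fdcee5525206561a07ab970bd15dd421d3efbf7cc6266d8920882d2030c6dbc413c3cbffdf7db1f2b32e5e2ec9928e5e87c52dc9c129e25093e4483045823b740824a72ddf4551b0d7ceb8d069230b851d395f0ff04de9ddd0b6be03e6812560323162b67443d31bef49380717fb290c91ce6966c478a9bcebabb6768dde308044a3a97b4d1d49da49a15b0b97d4ceda9a8286cc4cc735e34b777bbbcf6b0a38929d81ca0173cd2f3bf8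70ece1c3978607625b20b939afd1bf8d89134d140500dec4d80d3f79c724a098efa23566a008164eeaafc8e2366df81cfba34d5b43331b239f7f77fd2abda90537101c24bd4874267dbab5e7daf4b75afcf20919f7472ff7428c8af69ec117599c3e494eb1a2e94443985d6c4c8560f5d4fc093fd7ffd01938c4a20dc86da90756f0dd7bf079541144e9e067edf6ebee537c9d4da16a6325ce0cddeeac186789c5c0561668373516a580e94cc6e3bc215f640a94a5cd4206f825d5bc3d9037f9fce88bf5f950a5aa413f4c356762ce373a6b72578f52b4aaff1213f1b39cc98d77a767269867d8315a61a8585ba76e3c141968364278474f03706373648ef123dad9668929d1fdc736d5ae2d75061c6f297fc112b4478944d53de76f1485794f957cd0f4cce2ed84cea8796a7f242c470a344e32754da3a50b4d756a340e3030d663218c8e2a5908a7d9dba41953d737d29ffd404f408a606f793558e1851680b8c505b9f1d2f3ddf45ce2f9980227a616120518c9640cf4d7f758af497751414af23efa5b0a9740f99f7ad58f99f1b1b26849e8339c541ef7a2c839fa9578a508aa1dd82aa765dd7cd0b213be81c87c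0160222bf9853f393a487ca4bf703108ccdd9eaed983909a1746a07a89fcd7123b55420b7fe8ac9124ccbd6ffab81e1ff8735d8b3155e92d927e4560b8b76adcfb2caf7e27454582ce925166f632cfbebf2a389e3ccefd1fc256123ae709a8b6c741a4c725e0e3c52f74bfca158802782af48d0631e8b2326f28bb1d094b6a2b391ef09dba5ba9e173303df2cc0e7339739810b2e3fe10daeeac8638be9cadbbea2443f73fbe2f2372b25a0877e420ec48163e8532d565b9129a1f59ec9f151caf1a77e4d9907a0f5d1d9fefaa529bc5763ad95320aa5af690daee21ce35dc4559fb68c08443e6164026e92e6e95e4bf358b254e4a291562236e62a0ba2a8562f2aa89b8abc5f667b1ab47c24c8fe9035c0285a6097e85ae012af600971c79155ec5a80e7fc0eeb7b9057695a82b85e6c4b8608b6a686141914a4c39c9818791de99ee902475091cc42e1fe484218b0b1e5371a096b0abfd86196eab36390b203500589ce20a8ed9d2a80825b8c1cf40b6549953712a322739bb6e10fb0bd5e1918a5e9e692a558ef87838436180342f17d20736e4c14e88885983eb0ed1e0e7b7bf2bfdf98ddc4fd4159ef770d36c2f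f9380d575e6d36b5d816f02f689ff978fb5b5db27315c8985f610e2e6766160782c93bda2635b22ecabe1de7f5c1356d90d04af87ea5659a5c8bb0a96e5c4c3a4e3add8ba668ff628f3000453f4d9aad12ceaa159de1b2ca7e166b9655731b6e208360c199a1a30c35853dcd5ccf79e2983ed2ff22a10b309dc1c4f2e16fff96f5c9b4099e562b836e278327b658c6e71332df4585373b2b36f4514f98fa9812451cab5d716c6aa800e2e14a2b1b5bfc4c19063a17cdca88e5e815a8b74ca005ebeca8f61caa524ffdcf20645cbfc45a79ca7c19dbc559b403c9688a5eba271a1b6c77d3a52e0c467deea687ce59e71d288f66ea6407eb91dc0a8c6e654a9657ab961dad59c83b95892747aa78990a2c22293b138f527b6bf39bed2316000a34289dfba3cb6eb138a7d89d0ce23c74f4ac3ce53ac3afa1142d4055d1be522aaab24f7ff7dd2a2764732ce3da7cc29ed933d09ad2b1787e02d2fb7c80dbb763c6b471c714a4a5a46f9601314c687b488c65e9d67399a579cfe308609538ece0fa39b57d57f5b3a52a96caac43c271d5193ce05aa1a265d3c0952437365638906f78640237d4ee05e92ea6e8c19f03b6fe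14769de2ebafbfbea2f9d8ae00888bed27c5341455278cd6318f732fc5d45af75bcfac796f46a52aa1bba5b86fe5d21461da82f74b713f870a3dd218abd571d3dfb553731b90ff60cd6dd94ba8ae2170cb867f830a98591bca1e7f50133f7ae15929aa0ef80aac6802ab062917b8ca18bcd8c96aff125b75bbd9eefb9ebf31692ea31539ecc3d28f239b23d2179a6303865b4171fd2e6e435880d1f7e37ad187487b00e75277faaa90f08435134045cddb1ae1ef5797fbbe11ba1a9d6b25b1bd90faa099e28404ca6883ce1573955d5d6f2af3ac0d00d882829d8407a487ce1ca2b3bb4d13ccb41ffb1eb5aa35efccc5782db96dca8446ed259be347b877f83fc8268673c4d08454fd433ea14f9101d01f65979f2022887308ea7643e45678ea53107be908ddd53c171615deddc1624fa7e0673b5065c655920912428cb048c8894b84d00b73b41208ed859f0fe5a2cb223268a8692a93a5adfeedba5ee971651843518ebdf3f5360179575bc6774574d6139773c6c2a79f09ecc658d462334535e4aa25b46a6aa842b6106294732cc034adbccc33959eed46b1ffedae29a754f1ef94a6d95253f2cd303f0279abe803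fca53fa1f804b8ad74a340b165cf0002bec799c1811e2facc173155b705b1257cb55339efb17e1eea9d80f00ca713bd1da9fca134d744e53e3dcb79273230c22850df8c41685318ad0aa53aab84431418b929635cca9acf11714479b49c53a10744004291c2f6a867e0159fe1698bd0bc65b5581aff813725b237a72d42c6323acfc016e6ade8f30da867fb4bcefe5e414347956e82959d5f9f45145e5e55a167e7ee503e088dab325ade97383db80f8cb1c06755052db555f0587497fbce236c89b93a2631d61edab834c16500a4c411d00d2ef0ba2eab619343a0078bffccce70e76b325cb23c5d0a9c14c649cb4b1180eeb04a868bb0e725fb191c8a762afd41680fbe56154b527277d1caffdf6e6b0e81feb118d49de4cb46082862978ddd8f4769de3579a7dc976783ba2091b5011d298f239dfa662b458761e27e72b8aa122df4e0068f674086653863309a8742b53ef92711194747514d028f331a46f4824aa07801e55ccb293eb3d1509848e50aea0c3e654f8489916aae33fb13f6e9ffb04da5b8e8f9a7e5fd8e8eb2864b18623131e0d20fe7841224d2e94c42d2aca3e07ea179776a86054e802575897d251db25389a827f5394b81cf082a606e9fec89fe7baa5030e989b7eb5d791aa27012a507e853240e243fcfae96da90a25527db4802fb5255a859983c22b414526040218c095e1e34480851993b43af4048b6947c59607e4d52804365c0cdc)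
noncomputable def V_b : ℕ := (nat_lit 0xf1852522c3b14d6bced518660010331787113428c4e47cfb44975ecd487424823c24ba7348185a34d094048ca8df95c7015fb84bff4f9dabc828014ea6705ef590d255b2889592f8b48f6c2d90da4f10551ea38964431ff3b74f704c0a4e4b058eaaee0a385184a9fa5493194c6474e424ae8c8b3c3c7d98597c91340e116b6e8763ead9bd1f3c42f238cf03239426a77961907bea8b081f3943ddec472c2b37b70e7a1e16dcff6dc31329d7ccad979a6fb168e0b88c14e6e78b57c65c5390bec191ca9ded87da073692c6a9501fa7ff20bed6bde4e976405137523282f691c6032d9057c0466caee8d6a267f13ece6cb33a260449f0dd171f2de0453f72026f4a3cdde371268b18269bf61e3b4ff3a084a2bda2028d7e8953aa4b09ea697946fc4b16c041e3c6b3c7fb8f595d6bec5aff6a27e5eea5d8488d5d52f80432f29ab8fb5ce2a1048ae38368656d4431d8a4d6f7c5cacda45366cef8bd25e711aa121680ced2a631f76f431b48f29d5a729d181d5664c04e5c71d3d7334e964b34a5b4b05271e097cb11bac06ad61672d2bdd20db08333cb30bc4464459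00ddba09dd37e0b41e782e91eb4ab672a9f1d0eeb166b474f1222c581321c0ce045452fd0fdadd38b2cd361d5ef3a7e738d3acc3c6687c1a31fdc72f4aa3ad08b77610e1f5346b97efaa045116fef4d3d9f7b055f96e4f2ece6ec3330a912dfbedaca465efa4b08f69b530f8b6721cdd04fa2bc57aa427412870c8d5b5f767bd579a1713f6fbaf34e0ba83582eb2c96e99f125037d8bfad8a0b2891415a90a20425e2151aefbfeaa100758399573136bd64f02f3e53d2b502a4c2a550f91df646713d56ba409cc5f38c4c618e6d8a39c995999f7bbbe84fdab714615fac459c5be699627539726c4c96dc9d225245bb70cf6d99d2aa2a846e46643b8480d3765d8f528ce27c6bca139ce4009cfb9e89c958182234ca1101c7d01f5562a26afac5ebf68b3e6a8032ecb3d97b13b1122f4f59c97547af122dd2889a40a48ef9c95f7f3b54a8eb00f2a49f5b795bc84f8bbaa1a7b5d8224a27ccd893ad78cd98a0bcea58a7673674526fcdeb0d85d4415d766c8f7423c68a5768b88c5e5540822ef23620f6716499b112619b76224e3a5081d1b664b62cbb9e2aa223ffa36bf25ae6db11f91e1c4b0c736cf817f2e4c2328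a57ca61b552a6a81ee1b7cfbb64a12d34fdba5f056b88cc19e2a2b6f45bacee8e28f449c492596e65aa871519319b6e9261481a1d714aaef7c9befe757e8ffda9ddef538687dadbce024752f0bee552ba92c277fce85c8a823d5851b8f08e6cfa4c4925e31f5bf094c1168a27ed26819678d174ba9ec9543a92fabbc86f6110ddc5a442c5c5e9559f50d9552469117f6fbb906187d9e0f6f7341aa7d05f755c1f53e44e019d1ac5c17cbf2f090653a15aa1ff8454773984155915b4eb2abae3be7c1fbc3a2131d589877126f2c8149c4033beaff9ff7585fc7de0eee42a84b716a2e8c9ec6853465cfb532dad4d858344456ffa7f2586dc393b9a6ecf02f32b8de00d1b3bc93e6d1ff2f7a7cfebf8f15546bc457f535878fe000686e385a124105d7226b9adeefd9d914989b79d9a019d4bd24d03c747e9378b018c2c4cd4f6cb3163ee351334517ecfa553db148fe10f80a552c07115c3ef8a0a18182f563272977bf87ab43cf971416933ddef615c914e36862fa46ce3f200b5206e75992a644bae8e5bc3037527da76006cfc7f87fdf4d5b76b5daba5d931f3b09825bcfb3e08ad2bfb15e9fba018213b0ea15e710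5ac9fc5ae934db134b6e2699527c02cf1bf8917c4aa3adab53b47eb4b22e7178639b7aa4a9c2a5426815510128de4916c448139a00129341acfb78f643578e36922dadb0d50b8d9f80dc3a414633c0b7cc5cccc238492f662b10c607a4d3d90bd009d5f6341bd091c25ca8c1e9f025f1abc870539813fb5519b6cb0ef67079dfdc2cf95b3287b7b23820188d12523e4dfa9804483d61fb23ec2ddee924cc1c7d49223d50da0c162db5fc81678374336bc5f971ee4d3e02aa68ac6414b8a53ce7a5fc135fa201c5babcdf1d8c0cfaf3db1687a0fa35f9d3d5f18574e8fc480233a60512c1e494361ce8d3f17386416c2dab64eace9d51280ec95839fbcc084c35cc04da9d6736921ffb032674e6997950e2d69e04eab241afadb3bc36d93e0049dd82ece01ea3c064612f7c70da52a030271f427aac6f7578266d6d62709710bd36ee526b7cb364fed3ff99e7928ff83195f71dc223cf53160cd7b752de726f00ca317999e61090de7b86fdd7cbbc0f611097cde09a01dc47295e934da0c1e0bb06500852cc765c893979aa600513561e6b1e56af52bc3222cda1395f4de3b455dd0ad35cd71010307e1e0086a83f692e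9f7656bf4b7ad25b98706712764413d482253c07ebf24f908ae4b7f4f3690910c6ad0a9b217113ce2e1b08ac7a3538727318842dbaa8ea3f10f96af8a263b549dbd2207ef5c2a95512b3e5bf1d6119ed2364301bab09ee63be20e817804fb517b52e58e3d03fa64b9c0dc4d5dfce6ee5ebfe4d6ef17f6762240009c9fe14efff24e57cba43e8d71969293baa44ff04ddc25bc16634516554d6c2dc10409359af7bc48bc343e16a6b0e44f184d750ce6e949bf2360506c8f3a82acc9fd1c4fc8aa26ccce2704ef3e9a21bb258d44a01b8ba7779f8152ec6f4ee6492742154a63f53237c7b9d3e5a3d744b0381354d51a4fc2c852d515fed51b7530fb448471ff6ca8fb63cf68c98410436ebc996d85691d450c157636bd1d41b93e7b4eaee7699efa4b10f968901d57f948fed1c4a3b0dae40a9ee4bee773e46bb5052dfc27f2c3aa728f57667ccd1ad156f257c303def85c524d196e05ffce00f8a6f8c2a3992992e996e835fb4ace4e5ec68b12ca2f7f835d0e97a1a86143fdefc1109478efc4118635e47e2acc2cfdbe06b9033c8514b9a0c32ea338271d39d1e73c077d1f8dba7590648a60acd0018a36de959d926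0952d2b62c761d54f5b9e84370fda8d42cf055e527dd71c0b2ea4b25b9b2f7202d3853fdd390a6dc8dbca8396fefea92797cd29f2015fe095287b2a14aa6b97761e94c77566c794ef437c0f90a77caeadf4fd002b9e401e40591c6a0765206f4b7bba1619108cfa8c67c7da85a98e8ac9d73d3fdd62f805e85b107cebdb1702b3e6c620c3d8f7feb254184912dddca6e342d8dccc96df955e167ce8655cbf98e0afa4342a63fe4a32674492063c4573be80b79f7d571028c10778a632723f5b5548541680c5e20b059a41cd1c1572dfe6b70f5c7c354d3fd898d963227ba907e6f320c6cb17bd2c67bf9b02cc289f526be065a6e62899088dc1ff3ea9c387f2b42086719c44f2e246db6cefe80a33241b83ee13a765552c3e82249f67b03316e823e2ec420fb5b6c2e47694ff088efcfc434c441d57bf123a2ac3b06885cc11ccbdba6c50c73875daab270f3395ad6c8322cc2e4edb2ba361eedd14ff207ac587037e210e2e5c802b9414578cbcf1d0fca8b4ed240a01254ca6df6562ff48108a11117294e2f2d116a010374fbe3a404f7fc19b56583a95bd2e82f47a3ec961abd11525288762078fcb4aefa5c31acac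ad4a696fdc7cd70a54d3be84150d389c0d44a467b04d2bce064451be19ea41b1f873795601da75d4be27ea66630985314e2228dfc64ad885112d0e3b21ba5d64c3e8eb66fb54dc5380773abbc494028db9d4af66a175b968d7593f027d9cb6e4112b7105622f879d979e2f5d1a3db97f7e0af401dfaa51e6d4631e0982bec92c24a0e3cde87556e05a547f07f22078ef5ebc8a5c4c87b9fcd7f69703a85d4db8dae18bd9d864ebc7469a4a3920f34333447106071c47747973b1668a054781499d9f9ae51aa4b98e8dda817d1e8a8ce0ef5a49567697ef31f3ba0e62c935e7936e711e46760164e9fb47ca850fbaf643e53f35782af1c30c1f5c7dd8879743a694ce6e5a28d6a253ea4bfd43f4894499405e519864aec7afca2a11ebcbcce8e727cf5f46e8e102e00b628c74a0eeb37726f95955bf9f58007c83b7939014e34de829dc2c121c0d4cbf0eef40d8274610d39300559c418e08b7cc8d881c982fcb7f545eeec4c28aa1036d413b13bb7bd3feb74778ee3e30894af2729ae702ad4f63c246433520886412d761574e51fa5712b19c9d4c05b2a26d65ef20067e2ad57780af568bd130d4eb33335baabbef3c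9b85b9a24dfba574ab012c2da237bcfe5ec55bc6254b5ffa8fdc9a3c4e8b3bd7ffbb32c4c902529702fe9c36b89339395d735c169c2101db75573deb7e5fde7429cf1b9fdf5fc1b27bb144083ffd717047f172021c862d7800317bd0edab3b747febbea6d1896553f8bc2434c884bab8b4bb454376ce5e2a3e92c56f90957a0e1562ffb75773d88bf42ef263abde0f2cb013ee6a394d14771deb2849a57750416cddafe92e15c13a7504b611bf2dd91a2315875e272fde8dd92e4115b77fb5e181fbcd5febe6366ba4b2491cb4a3a8e7e6a727dea6e695edeed113e6e1abb3848903d277b3eafdbb801a7312a87c9d453113170aaed1fea48453c989c2540a7cc29ca2a18749a5da32af038707e6a3b3d79c59a1cb5454826900547b6e23d043e52cca6a3aa42c56b6e02602e8ecadbe7458ee6aad77cd11c2696fa7b9c6e8ff1242a479e04e4b1bd970ea268172321a8715df0dd255448b41426656f07fa705a7b58581cad62e9539e4cbe6a2b09896be1da482d8543a3e6459775a684b6cfda9ef14024fc8ae13f0cbe171b5d3742374e6a63bb23e4df1cdae36907b20d9633564cb44101872116268255bd9315fb5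1d8b6b9636d39384b66c64806fb8998bce6ea9d3c8ff2028cd204d99172782e15e498ce79b2663cea5c7c4b5e4ea979ba2250a3ef3058c59376260ee2350f04ac0830c2762071786ca97d7595bf5a991eba21e6563275776c454c07629be0065bd891cbc4911d8e8c62a610e158e356ad6ed095696561918cdcb64e32202ddfb12afc693d266a4e73bbcd73257c6e16cd5a2e5a12da83021cb3538f54d348f05b5f0108ec62d0cb3b65d776f5eff11f1d7a2e1528413c8b65cda49e85d9119705630f8360511bf49cd9a06aff6b7147d9aadd32a8a0f88c5843fe605e7342ad189d49c9972d17c2788234264ddcc43e196efeb591bed8487186c38cd92e03de35d0e4f1ccd604411e68d24b7f9cffe7c2f552358ac5452c670cbf907517135bd07d982abf01303086f02fba870514c3d978304b5570095f973c6c7f3e83fbd97a89d1afd982fb1aec6bb6a71908c8f4ef4d82d9e2b23d395a993fb40623725746943a53b51caca076b4bd32b817ea176fd69e44c0b01eba44a4f9a3c0ee479f5a4de43405a93395c0270c6b721f358036550102775463d24572ec9a03d774df4731d2d29e8f770920902b6c56ede626632ef859946888dc6773ea67f1779e9c02dbe92e8c67ac05eb439c0eb2884ee4a8313ec891d7a50b1688c25f0ebf9c40e2a725839567598f67fffba2fc2dd2bf4f03963be7139fa1f397c0cc08e5351107ce97a62be67013a1bfaea94418)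
noncomputable def V_c : ℕ := (nat_lit 0x2c5d3c749e5567b450610e6b94860ddf0dd1021d8327e6e899226d7baea7e047658dc30a5f7ea3967fcd5eb6102c950e2c6a95959393b97973bb896e80662f13645309cef20c46c1c56540961f26e6d4cc3e778acb2d35365cb3208c0503bf2bb8c5b2f93c9a18dc65fd2ba314663a6c764beae43e5a234cd51e80dfb3728042ac984570f6117bd510ae2f1290175de06093893f95a235507f78850995e4513e9a3203e7998dfa9a160555afdfdcf1a222e2962402159b63612e32679a3abc40e6b23a27d0f2b91ceb32b8f6846c84d95af2c1f251ccfee01e3ed4206ff44005a3ab6637aae1d6ea3f30e97bd8389c9d81b6d6b9d54aba4e059d211d65c58eb7b40fcbeb5fde124663749dca8b3a6eeeb3798bfe01dd73348bcae8c26539432d6742821687704a41ff0dfd932062e0c1c6b98184ee7a65af98582e96400a712f3dfd04a1dee593f42525e66b6b0eb38c993037308b973f9290a87f1fe45eca8bbd69a3f0913471dac3974498084c2f236afe7db1f43485bd3116d8be28b4ed53666046d291b02b073008f1af22812ff621dee7b5d438e4a7cccf625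5f0fefd5291cf0e43e8bf83f2c6e70f12e95401d6445e363294174f2a197dd6520a4a364d527d129ab2fb9c1923eddc07aab6d80bed38b806548268d77298c46c23a9470b7ba5d99ef83283321ca8493152437007d4ced37d2a59987af3090c52abaeb37fcf83594c136fc4408442cf0478b23dfe8a6d84bd6a9f61dfd11e966f3b6604d28fa5bdb5e9b8a4841dea43242634698f2c4318b17e79e303f62cde29eb06a49c26e105eebe95aefe344460a20c9eba9b798afe922c7a448c2b21362f9fc9fe1c320fa8efe4ba2fa0ec329c4b0e9ddcece8b8a1c8198bc92b403222eb5e7c99a5973f2af1e0eb9de3a09519e2e88e3699b49c36b7193910003674a0842b3cb477e85f302767c938e447b5dae23eb30d9604fe4c1690ef49d2ab981317159d2f3d56fc5c60e26d2b5ebaf8c3df96d8c88edad06e3c3c77f0b7519dad261546e7ac53eac5fdbf407bcc5101520ade2d35d8f39f53bb5632090c80ff1163e28e7de6ee59ea554d5b0a192a3ce88d2d49a979e382a94fdf344a56f6c90f5a86a053e3917a000f9826a8af2e07d8ea54b797791641def227219fb023fc7f8201802b9f38c5e7553216bb21c2f075b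01c7c840eee64c0797092727efbe0de46a2603482ad76314df10b3e0ff7aacd890d5b1ad93f2c33ce82dccb233fb34ae5a25c0cfb83ae729f682468fbdc212af0099eb3566b6ec4291587b67e91129627f82394a8ef7518e8b80a099162eabbc4f26be98f76d17900df4258ae33a0c38be1991578bf61a48e673f0233babfa7112e9f2db0bc303e5d5602cd767873901eaf8ed801f1b224503f9baa8e3c905f093ea57eda4c0e0f2e56c5e55fdf61b59c111be86b4b92ff4458c32f238692b944071edfdcb912734316187dcdeb6df47b19bae4b2595fed58fec744fb442b20c2eb8c9177a3c26463829ba6672e3384d75a53ba316d0a2720c5b6f62891624ac5984f8e836e180e6ed4f3334ae7e046b9f36eecb8d848bf82c15c0d9c607eb4734c061476c7700d9450abc507827a1369f3026ffe3f831e5e46d4f6a33c9181d36b01bd93ecf0e61767eab1d6c0ed1b66cda968589c424a9dcf9987958acd3a077cf7a56e198dc68c51c7a99693a943cee3551512f7a00679ce532cc6ba5ca8ca596553efe42b73276bc44ed2f0dd1c530fed621b2df1f38a9392d690161727903112cfc693e8ba80d3c944d461dc02e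c88be28455a3e1fcda4ed23047e1825b66b79b9058d11df90f3ae205459227b38f0746eced0022997ea19754d3c551405315320535ca31fab5afb067aec99b04c3a32d6289c943cf28f01d1e1f84e251ecfd6da47e83c258e90787b9007dc2c0e316f1258dba45195cbe60ae1d408bfc79d20657b1112234dd446c659623e4c0321c98f67711b8fbc8380e2d8f6d1cc1fa63a785ca142c35b0243bcf6ead49388367978fa10dea7a3aff9965f4988b1e08f292666b17231c1378efe79bdba4fd2d83e0b41677bbd1a33d88bb528b1b554523a541003584e384d3c925deb01bc14be568c94aa930ea2036d292ac5524348d121c26e72b01cfde803845d7b76a04d26bbda84860f0249788d35822ce21bcd4f7f52cc2fd807e773a692f749c05aa1691f2430eba7fa3f69ecd2d88ae73bfb89a2f3a6fb5c872fdfd311f084fd7200406bf058940d22e60f9c384f64756539dc816e11632698c181dc7a9a2f31c848f078603d39181a10301bb18444bc8022549e963a2772e929a82ec9b51862b76a01bd26d7c1f07051c7965a498a369a5be15e43fcd6be6c34036b117c2acdc6ef99b07b2c2b1b4d3c302cbd172c1b9d5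33ca8c74e6698016ab7d52e5bff0dc1a0cea1084b11a5b45df0db54881e613846d857b68ca82d78da2538c3532f41ae6bac0f520c61c6c39839dbc0815b91bd4d61676467e41c616560540aaff80067d532a4d292b84818a7d563047543b2fb66ef2944c09165c2cecaeb1fa0601eb123197253cfe7bd15ae638a21d0a76524a6f3dfc912176337d3c4f9b09f57e2c795cb88a82b1d206c98731d0336ee6e6384cc541a903a2a0343dcf5d768e67398876756f38b0700dacc3e0bd0023002d62b3f06c931debd1b250c9784aa5fc66b791f1d0a0e39ecbc4a821654185c7a055de029d4774dc5d79c5c6e16bd388f105fea654b350fffed963b145fc9c327651c496faf6a376ada7c69cbb659f030f12cbae595d635269388d43fd024beaf570e5d8e392a92bd7057d2aa49d67897057a36260a9c48e58ffc01aa894ea2db3aca158bdba608dd927aaac57e381e9d81c2355749b59603e66489db32c3a88f71ff88a80d23d53002d89d76e90207fc3e97586ed6f85b46dcf1ea89b0207a2b84009b1ad970e0941f9b0ea971eebfb32c38c692cb43153eddf1a85f85216859d71d52f2820af026547789dcf86a68bbf83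3d9f03d5118293e5b3b3bf61fba6dd5ea06ec7b3fac5d5b5dad117fdaf0f4958cb17db525156a3755a8978a5d5a7d3932b9f3de1f332374f0034966d12fd539e116abfc78c5ccfa43b3ba75985a3e1c8b3ee770ed2fef8988ff502d62ae2b12e5f31fcb01c01eda7e0a6d01eff0e97b8fdf656df639a5fa88097235de78782efe9e650aea5c1c6fcf636956e5a9103e21166d3c35479fcdbee23df73128e128dd215331c21a6700895c2a47926b19943682cd93e4fca172bf609296a6f05fee8eac3982ccb68d39e7e395b78816ce2ed9d027a522701cbd8919af99c053fabc9dd4699d9a919d2a75a649664f479f0915696407f3157fbd892464fd4145dc1f162877cd430671a9f3ad2a828e1a27b3ce328fb6a42d21f8dbc7dc84be02ba31c5017d25fcf0a3d40461c1bae1b43b6d233def2bdb8062bf4d0bf3605db486aad2ee4338d4982e7f31b55c5c28b39c8f62f33790674c2fdf34f88ca5dbe8f2bf1e1a5573665789fb5ebb1ceb1f79a5c0e5f00219f84022bda31703a99c39428e4077f54752b89207816f7080f727c824a925849ff4cafe723991772bd71a508c82e1a0cf686a26b9513fcf1c25cb3aa98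161793101e66c0b98cb44f82314f1f378b25a3cd20effae87e9e0dbb92e52212fa7dc14b2c26d1ba04c33652a407ed9d9da44ac26724c9b8ab083c33ca3c3489ed4ac09848367829d2d81acd7314bad631c8e828c44bb0ab6ac8388150f20bb2789810903d67a5b1f1bcc6fec504d18b1e3aec7fa6ef532c069d1c93130a49e0a38983af00aad7938e989cb40b4724784246edfca1e12fef668adde3a1ee547bb4d63b6aaacbdd69d0ffadeb6ccf11c50106805e72c372b2ac882ca89f0fa307965b7694f2ec6e779028c90ef58c1f93f075e13761063feed8ba15a724400df743ba9a82b6ed64beb0e856360632ded1fc98f36d9b86aff84f23879a274c182fe98458c9026ecbb03c739f8c279260897a9a8e79b14032b1116142d0d6159b52c0ef42b52a37839f195a9a01f1ee95a0f67f4ef7aa58ee9ac7c135df06ed6b31f3ba04bae06846c43b74cf597f9414d2922f45b6c9010f2fca57f41d7691a80364e77b3d851e37fc49f21b55f159dc97d96e1b7e334e2f0e5ecaaac949ba723f5cf48f042c5fcaec145f5858c5d1adb2fa71dd2a97de9515208073fd5f8bb0335bd187073d7f679418735795f0370988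99b24b3961b8d24f5cfa5534437b86ccc153366900529eced6e9aedc2b63422fc8a757d28dab99378d3e7b75d07a1f00c16b2ea1584a8e3a427e6a9aa3eb55d6248fd2e570147a94c51434076c3340cea278c4ff33351bb1dff2b20c8cb7fd1a23471f9a5bc1f79a738c3808593f6e7257831225adacb127b827d5d78006a6545082981ffc7484ae2059d4d712add554e3c27e6fc381455bea3a1c7cf539cdd94e82d334db27153bc73607fea2570052e0304824874bc9784f1ec95cd5cc80598bf303046c2ae6e0badedca35e5cb8bbc650f5117cc07ef9ac72167c3a0002dcd472a3ce022e246c29b4984feaecea6eea2779a5124008a8e45e7c232f1cc897c9c799f8a3623df134a5117c96881753d560b3cdac4617d62b8559e502c7a18851dc7e331f9547ea088fa01a4352b7ce08d7ad94f2c713df001c4b8f0d86f2ac871ef7fa507b3155c300f0f33ddf679d6ffad416ba77636801f4218eff50a886a360c46503c14a99b633618b4846524cb3f95c8e352091038f8984adc0c81fd230a202d933c60a246ff6ca2db0617312870cbd31e8f1af7487eaa64e7b836827beb468030c1c6fc2469cc0f7df0e04e9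392ea49f5d313aebe1cfb84490cd8a99123b7f3f0881acb9137a088dcf9a3b50dcbe49f9f098f6940ba26bb21f47082983af82cd2be433b28e3e37292648439b0c5764e2a0b86db3e44b4baca26b5b33420811230aa5130f659d971f3da2ca4e738f5e4f62bfc40b29dc2b21096c62c5ab3629d45ef0d847d996a62171176829002c5514c2a75993e67c2617f3937fb0d70e0e2f42fd2d89cca3f79b6922cd297958738584fd451dc6dca1568c9ca33d4c6187658c2207001d91178bff11ed8cb8576ce8dc69988b8870303742dc44e7bbf3b8a0114aae70fc8f26ecbc47e625a268c2c17ad723d393d7a4ed452dc232cae7620b0c02d582e7a2c437d6e45c6fc6cfe38a56a542f10afa5a6bbb17e7c16eed4179c2f2271e83daf69087a6d10cd6ccf50e4493e678ca154c2130c5361a9172f200988772130a97b296d0ec1aae22def8ff1887ca791a543aab16948d269ff644ed5e7b324390fbaf59b704c1dcd7502994a1405429fae3e907ef8e1993937865fa7f91f6156134b8c856c1ed557270228bae3923cf05cd169364c26e797cd59c4ac81cf62e71a3454de8df686dd41b1cd5068ffefffc51db0cd4b0336df36e7093f9f7ce7cee06b8606333b67be9f7ed14986e0528d92e2b8a9567fe7cfd9ffe13aa7d3bf08c123f2f2d11c3bf4717e2daa1b8aefdb5e8a2f185d412adec1453f092d2d3ecd8952b71b1d542f32798ad2e34968b4628e08e891b9e)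
noncomputable def V_d : ℕ := (nat_lit 0x1248f2454ad90c45e22c603a7c82e794f1304fbce758b9f7560e1faf161ff26071a400d9c8d5a8963ad4c9fccae9487ac0cfbfcc30f4008d465baa430d66840dfef9ab333ee7b73fe9483b2aa50d33e0d3c635874878ed6db67f2834f3d98ef2097e6e4d28b683103ea999c2fa536e75f797898cccb9bfcdb40b7ef8cce40056703f3ca7ef1a572cfa47278bd15ccf930bae7eb831127ec2820789cbdd99155665898699389428bc5a2887e5aeeca8508d250d6345ef849e2bf3b0f550fbfb14f717ca7b43af3696c033693f26f1540185667e59de909b0ec897eeb4675d50809dbf2e9dfb225790a0c1842ed6d53ebc4fae84dbc9066521c36a3dc3a2e2e057b0625ca2648add806030f76200e7184783dd008c820b86a87e24e5466a37dfa802079b1d3776bc9b299cac7f5ba0eef422ea225fc5827d7573f9bd0fc33dcc825c5817e6a208e856d062fe90444ed6bca5048b8318f8a4f46d7142bceedb2534eb4628387484c0c1993ca46ec5f895e5453cf34aad8c7852547580f9c39eb4084151a17d117538796737e3d74fd147edca33d38ab495f160e5efd18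6615bf56aaec678e8c9f90972149caa4b566fdd536e92767372b94b92c9c6869c949626dad7bade6094e5f2b56dd67d1cda07a385c0a052842f71c9a80cb44980b0004c9236666145a5489153b848224a5c34307ac44400eeb97e2d1100a855a715d477d3d79eb6f4aa2c6d428ae6f65c106466444ef025a0b100d9f78830dfbf308ed97888cb7df5b679f47cdc5aa5bc9a0e11cf34279f19e0d528e1c0deeca4781dc2719d49b0a88122677362de89dfd0665fecf2b807ee9d7109a71e9692960f53a8b14f9c644f8b97b21e93e3f0971553b3724f49fc2b65b21ac8bf115c46fa3ff987caf5334255d0bd5738c2fce11c869defbaa88bb549f61c1e5f4078719ee8edcc6ea574c2237c261749625e1ba3a6c5dc7d81e49dc4e942bc08fd1eb56a7c8a6f604cae0c96afe04004dc017e15a8281d923a0cd779a851314f5e7d83ce04c18bf07259e0c32f390d780619ef952d3fe66dc3785f80fbdbca245bab64a5bd30b8fb4184aec31e6ee03115e68c87ab164ec5a5d0ce6c594de1ddf3a04065d09d6548d682375494310227134a670ae2cd5e9d09c39ea20c9e88d5710bfdb0622a15dbecae68fff88c3fdea938f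45a49fe835817b5346f31be778d4d496b941ecc6ee70391bcf05cccb64b90e3f419e72e5f744b79c14c41e70bb2c15ccb4a4a7ab30a683d905322fb5d9d04f6d7b25f9b5e0d4a1b22b351a6ebd6a6420989834cd876b7a44c48f995acc763ddfbb2550531477cf18d306a49714adc60fafb5579577a06b29f10edfceef48568168bdb80b13e77299eae994bfcfc383a007e25bc9518d732d08ed249cc70b919a76da4053d88d19e3c4238f78f3461b0e939b2af8e2946b6d8608d8ede2982d7d8a29ed062d74fafa2d5ff1720f5862dfd0ca1684041537e84081853003d4d5a0199854c796b85f8237fda4e882e336d23ab3b7c13794c918e6682a2cb05611a975cbaaf31ddc471f13e8ef5811b9692e313b7ff495b51f61adc14455c0a7084215cfec23e5e4f2b97ec79b373c78fff3c0121c744959675a174f00cacd4f4813b3969d2bfe600558c5768e95e2e66826c9ee8de2812222aa846f3bb35404a6f809ea8395801e119940328c75efe70e1a1ff2ced0a8eaebc201fdf3276794e4b2c65fd22cb5faee1770361fcedf268b676eae024e3dab86b71bf4f0bc495e4535827f899ea6c7ff58fbb85d0b44962e7a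f333fdea612029fc345abb4e3f024593b86336845ebe0d38c2d91630ce352a3c50cd11f1ebafb61e30f9ac0f990ce68d980c5808b6cd91142e4a79e576306b3d8f54f82bad4e93fdcc5ab0309688666e26d2efce345d774eb5af160c69def55da717e4b9a5787c2706956ee1d9427d5a27a74eaa2e45182b3d47e20c9bd318214ebade52195142590aee8a03b3151ef5adcda6e6f599094d7c7b22838fd3ffe8bf15dba759f03c90ce1ca9f77b45283700f40c6221587c6bb22338fbf60001e668f100354ac50e60b99755ba97a7d191ef621e15cd4f37cb98f89fceef6cb8e210b0b7aa31d16d899be3d51b757b27d76086aa0a4cb295495a83ab9b49d5ca929c953b1858ec16e115d6a6739afc80bf273a8d68aba54ece1fb6e207c06898f057c3f528af607fcc1628d5d99243044bc377ef9780776805888bbe0c450a9066be6ac3ae705aa610582358626411572e655f7d15e64aef9c7b3d702a310556a6de1be8b86fa7b43fbc0fc0e4b9cf1a2cdc740dc1dc44a26616e681906424ff8d37281687eebcf95b511fb7799eba338e4850b35718c58087ef3acf62f28f352ae6cc1db30b2485316d1f6bec090fc3d6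da9e4861a9c4d7145b6350109f8989cdc162ffbed57082f8aa1eba8e7a8cebd63a6401a2cbda7a97f59e4bfc5e316d780f64fb6c0db50777f137627a614b70b9b848eb08b6c62cd615533df35d3378aca36bfb7f9ab4267cc11de761ff127872a8e70a821b121576f2b3039e60956f059fd049f185490b80f42f294d474e39c2e89252009b8c4042b97f01ff75d3b4575852c4cf704d8b66655d0d056f8b36924c36698f1f795921aba39d10d8b6df7d85e6affdc4f832695997530cd66c3a1ae361f3e433310df013755c1464f626b34b8559aebba251180bd1ff4d0d7faed3a605ce1671b2bb474257d3831031eaaa8c831c912f2e4ed25f9a513fa48df371a823d19d12ab44e456b26f4914d2d51a4d355c6f53e679073b3c20f8c2a5e3ad7e1147e0fe61072cd6ace745355d9d0b4c05decf4a7c085623e6b362a62a658afe685fa355feb222ade94b8a9ffda5c687fe901ef2c5b26615b7a0796992ca761cd01ffcbd5ee03fa029dcce03d354ce3aab01bb8c6c11f75ecdac529ff71f5349d9b3cf253c50a7043e28dad0cfb57b0d95cc51297ebf969b7d855cedf1a49cd9e162c3e937cd85e91b90e1f7398c35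bb744dfb24d92b12b729ace7a2274a290724615c68a7fb98b0f382f9be31ff5c4329718bd9be7fc06f52743d4f58f4771adb2068c013695194b1e2f8b270793a60fdd0192262e7ff6e6a0a692982473fa885a8ed662edb42e3e59140ce4a0d3562f63ebc7dea4bdae2054a51441e9be9ba04d1356054db25da14188618827caf41791c36be558660ab687b998e8db1ae8375d2854b89dc328c5003707110ba19a05062dd216f7b51872bc15b7dd3941ef660e6b48eff158d73f9a3d1b3f1e49d2d5b9d989c2e438b9e8fc8a76efe2d54657e54f28cf013cb93a7934b486e93dc4beae8521b9c0984c681d708a08e51cd65e82a752858e801060407699290ae08cc2455799b00a0f344a41d36cf530b6cfac2f3bbf72347a771ef22c71030344c3a01adc18d2b85c26b01c305435bd0bfc6e38d7b5ebd07a0906bcc737201fe60a283afaf3fdb4adbab9546214f4bf0113cadddc6c7fdc43a83bad0e37a137276a2bb3cf90430d1ed87526399d7cb74159ece7f5cdca662a47ab3c02db6a9a5fcb9ce00da31cc1aa5a6b9a46ac42a77b35e23f6f2b7f3bc390ba7567813e8c28e7f91c30d913f5a63f2c6b2258beb3621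fdb94853d35db693156c0572e66abf4047aec919ea392d5138d22ea557e12cd34057670d623e60f9865dd18a497a4aa9ace512c010d3d924cd454853e0ef509be2c05948ab5b4cf49c18ee577117626fdfc6940b5a2a51ad4d17f3c386de2fee3f98fb6a43526328ec5c0ce794f2d2e8c2f6e06b6666f664b8bc62f6a92bb9048c227bcda0f1a489fb0067e9c171bdf857d1d6b7f6467388b3db8db810d720955c39de2b8906240667b368d79d742fc0ccdfa65e635a5e1e17b61d5c7ba8764e1a0b763f5918b852249bf381f5da3856a127878f26e38ca64b8b5146246eab13f26277b5a9e14c55366260d565bb741f152e974318af7947e188a444f7c153611d8d7602375e768e2e0df2d858443cab6fbc456733281b3ecd7981154f48eca1d0867f1afee4a0fe85549d856cc3f23ad7780d40de31f0775f72a1bbb5a378befd4bfc4f7632c0c4d416291f550220ef363219c1a350dde28a7683f6f20f7e85a69c78c01fa5ffd6796c44992b5c01e8e0056f7072d777baddc4b449d72676e57c00134624b18a896880539995f1944ed172bba78929a178c035d82d224c4b4e98d4e210b897cb593e8b770f609e9ede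ad1ab0be527bf3a05612ac31a35618f7191e31e593c878bfc6d946efbf4d95a640cb2d8866322c1841b428225cd229d69de89bf8fa375ffccb42c3083ae392ee057a653a49b4f835cbf46cb5510e2474b5c6250d6feb63bada1c0741c4b55564267eb3c9322d0d0ac928d161fea939b1cf513a805f51991af28cf2dd528213f6d1b81108e6d5473b7867d6292887424e9215743c6222f5a2bfe7461f85887f26a09a2bde8a0b7c1b15905d2eab6966d5f9a38039c2e1c6e5c4cd698b216dfae94580c8ff64f7e4a6a44340d336a450814013f756e220e043f32269ec593ae6981e78afe180ead7f5b3a82e385adc7260fa4b6c73c0794e136816886812ad5dd72abeb378d3e306b4cc696c4e22f8858a5a5e5cb941fe1186ede15b90d78ae0b5b6c9bbe6ea486b5a8a260d1bb863c62559eee2c39eebae76d3c8b9b01a304170d703b1a0dcfca4b115f09c77da860735530ae4e6da840831ca35f1a7a2d3e41cc690c876b0b0948f4c09f3cdc6af47bdc9774992a00376d3953a8432fdc903dcd0317392b594978d6259266fdb1aa894c51ddecc9a7e0253d69f3712559c7d648de9fd6fea0db7e3d6c5e4d06c98e985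b18b7e049cf3dc2f7044f9f81f3b1e8dcca9622e13b1ba904f475c809a7f6565d7a698c31d03f292d6cb382f5764c2be1aa3addab535bf0802d4174a8cf22a5cffa3b07553c9b5bf6a8c88aaa475b2da7be016bd38d59ce667305503ae6058045260b5bcb09695a27002631dba188a760ce68bb6db259ac4d7c066748f19f13feba20e3da3153046e81ff16f19fe77d0ffda9282708c15c3eb4ad4b2352ecaa5a4f3272160064141166f5ce2db2e09e3b8b2b83f573b1b1549e538f5c24e285b0287ee3881b43361c85e92dee44fabeb42098f9bafae4a494f9823d8eb349bd123e730a1b53fb2bda8eb479e9e41cd996119290b79aa2caaeca451fbe7d8039b2377339a1ff3ab6a2cc872104aeeb4bea637bce34cdac6131af0f83055c5b341b63d280df0966ac4cd1af80c32c30b250b69db8c66596504b90bcac98d65a6f1d354b66346d89a7f74e10ccb36a7d38c9e91f29552758ead4edd67d3494482fb28f8ea9489200483153722e0f3e95983dc348aa42658356cbf18d784284047fdab1627b282ca56fed14e9c08b4c4adceb1a3e2aab520a356d8125928dbb63cf53e917112218b98ccd5c256bb02b0b876b837f799def438951488c96a56975f3ce606257d1d209e01908b005c6a015283a01d188a3201d9d5960766121a835be19511464ed54aae25eea54a93dcb8a6b3a04aa10756e54a38102d1a45c05d4b07846eb1c03a2c29004fe7f7a7426)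
noncomputable def V_e : ℕ := (nat_lit 0x69aadb4254df8ea1bd26d5fb645ba9a4f4258642346ec31837dd99e58f74fa1426c1447a8d8b46ef229d93e5ebf55f61a53e468c6627e0fef022d4f254cb0f86bdaf1fce2957c8688ce799f85653021ce73ce828880e698c71f279b9c18f31167589e3e2e95cf38461d924cb3d1112e63fcac2c6d90a7549f4905c4eb01748b4fb3e89c05158cb2386e6fbb7ee70dfe683621ec0304ba360b8f2cc74d12f7a7c861aa56af0b65dda06e608b704d1c484644c52cf3284266094f3c8a816d9bfc4d4308b091d48cffb8fb033f670d31174a9c59aa7980f107cbfc335f2730a2078ad801c255d4254464a2a0a4436ab7b5e8b7cd34b5ace29566ec33eacd62ee8136cb9f66180121134f50e2b55bbda61dc934e9bf2a0e60020f12a1b5039b898ff5833da774a8ab53fcc06e5f3e6c27a8e3fd8f456dbbf3d8dae3720c08d3fdcde17c0d5e7ebcdc9ec3f7ba4edc529f6a0e693a7679db1c86002ac95868d5dd689d749ea1d06aa01bf560948065d9ebae999108bc420378b84c9ef79a345832fbe19cb026efe48a307380eef159e342d241e411162f3440ca5534bc9e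89c7ada9dbf71566a342c9f2bcf076da9c7c11dd327d7287b6a08b8a5c6eb2b3ffff420c90f2f7f3c320daf972499f1da61a800e431c66ddc13b23261bc53bd48e15e20736fe7efabef3b20291db598268ca56cc74153ab0a5f59319ceee84cb6ea9a1f8439348ca3f74c5da2045f698959c35297c3568681d5b91499496544db549cb11666059fa2edec862c4bee13a5a05e3f1532310e98515ecf261d50b227249c1deecbd5f1dff66eea6d5528a4694fe1295e0b6d515eb04101f913a6812f861f02ed6fef68b9e616320ecd8804eeacad1760de13d39b5537184bfa6e1ae2d0f4c3df2d6aaa95d79be1937131c3b90bd75034d890f6288f078df1831be3b9f059a8a0827280ce260a4c961b2d4ef73c3a8aeeb7053b8aeafd0bd45b7b0ba7d95dc23fe985b8ca2d575415fa45f2ccf8f19a06326ef2a2038c4d1d099cce7e25e31aac025962136db46d2d88b6beb7083cac685376fbf4074492754ae40ff79620a85108da5f1f43856edd996941637b60d167d7e78c6da3d608bff19b433ab5be340860ca649924c61fe04dcfbfca6f589ec88bca3f51df4f3e8c6a56865cdf87751c148c2ff48acb85627322abe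8563feea2515b5555b008ea4e660fe58933653e599d9b66a8455f446626807532962fb31d04f36e2deb38a376242b538f918db6f9df192d8c4fa49a02c16923c6e814aa4ac18f0ed47b742e82f3779195c7f2184accc1a9da54ef32afb5e0e7139ea3ac0fcdba707b922cb7f7e5d31c07cf568859c7096ca5a756f882bd2d37c90510016ec244864cda810b167d10ff9f1b167da2f286f38dab330f4c331be3415c441db9692818a6527d3a7e690bf79054e871dd4959aeca84c28283394b7f1cf872c67ab01f1fb970908242a2c01980b269de5fd5b31cd3a48fbfd1f4eee811ac583a527e531ced287e0d07dfdd24d6489f23f72730ad1c88718e6785978ad00e3c471be876f6574d4cf5bd575e03d1a6b88d71a46dab1e289aa7f993a7b5f8723b6049d70b318bd6256b35afea7720dcfd96ac6c4d2cfcec98a92ddbc17234b518dab931b10f0b640b4248f36f8fd096508bda46bd71128cbe806b14ad45826d0945ff0ab9b6bb98574622ab781afb5ede9d37267b430d75902d7be456ead321f6acb8923a4297f7a794bd2f20d84d3ecd2f5cb959ee17b3aa163aad4bef26bd6ad844a444e9a0b6d4f34ffb0e98c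ea3e181fcd70786e3414b40c40d084e656ff271ed1d0741b0e7a8ab2721ae3c0b986838b849ad1b30f1cfbb7cafa43e84e1ca7fb9405578defabc02a5a20f729c97d0d6657e73b83e4b27f8e590c9500a93a0503bd45b8567ba037b26023f3828dea49a9fd2c619f1765683e5d65e7c524f3e688915274f8d181708f86a8e4e0e1391f4c071ba8de4ce04cd58108c1f0de4a483d7ec3610c4f6bd3e34e4f2ba9c6a3788a71ac64f48534df2ecce7d3175083eb9e4335154cba16b6f6e2903094b179365aeab6b41df5bef0a800ad88d0df18ea5ea95b3feafc3e4eb77e02b1925d724d9b5bea5de878ef7edc0016744e628529afd8fc226ef279b2a9cb0eed6bd8b9143a4e800894fe737b472a8b40b992f41811a4a338e683295d1cbb4e08a1df2b4e9b61e4d4005f0465b391b14a02b12d72b69a0d154ba1814faa3534e943f272ac642e0127ac231caa2e0671e86a80de69028686a27a7faf3a766d4de0a71274589373d4329d4c3427b9c23c4f946a92971cb391eb79c82cd41dd88df631474d5193229d1cffb4f8e5aa8d097b3ad20afbdaeed491f45f52cc2edf37409cbfb6b37b9cc2d85244fc195da6be5b1d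d06c87f0ddd8afec9fe31db4b4ea83306b48406aa01420904881c001e6170d0aacc30852c75f7d9b23a337742a74b071f74e32dd6669c8f4f7db02f86d6ce1c6eb8173b1e10eaa206d38a1c4f4d9f890a034fca6a7dcf40b1e3ad4987832a95bf0bb3b126028f30c1cc5e423b6cc6c8c81c7aa96f87fc16253ef2ed1a5692fb2d0da5b81ea0e6f53b2baaa46d6841d6b963b6afad668bb9f65d80fa933e22f91addb36fb0208bab4d6e0e4922916a6142569f8ffa462a0509460e4aa60f340277394a2ab97bc81d274a243b63b579baf62779108933ca487d67a66c820e092053bd56ed6026fde352648c349d29d7e904d236c37589c0e6fe8817884702981ba2d75ab3282fe97e01e410be48908a37a195dca7c3ab88f9f526a5d10bd6dc72009a69449611806aa781350367e1b60f55aa9b752826124de4f5e1cffc0e2dbc385ea3bf374a1934a1111a4970fec8e18f97f38b17c92e478312092d144e105d38d6745c8c29e0d28107a5ef90614ba4bd81d158fd12999ac65a97d674581540605f2a5bc325170baaf837e40fec5b8ab97c98c0d1a45e6eec486cad4453d8ffe148fe7155165b91874e1409ca4181db3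32c1d227a6aaafef1a1e116fb907d6087befc15b483beb464483a3def5fb6390cf4fbe12ad56ce1a666e0e8797c19dbb2040f9ee819500ad93af72f5777808ee4ca075aa937fd927e430eaa3f31d638b510ad4a2e91ec700ae64ac78e6d30fc6c8ed2de4fc39bd8486b2d6959222e5be3f6cb61b01256aa05be82b22c4aa612d7ffbc473b7e02214434d4b9ae32bb06a6884929b3014a198a0317c84c8d0b7a4bf6a98bd3b92cad66bfd827a2c4ab9a9eca90651d983fae5583eb9cb578d724ccec5b30b81ddea0deb9f8787cd31566466fc2667dded938e640ec4824baa0a6287d303d49c4b1ea2874ba0fc4c3b7cb6f09cccee63ead34dd42eb7b44eecfbeff5d7a74b87014fcf018783e887c10b6a51193b64a6329f64d42f7559e2872566846458acb0ee6a2f587c694228cf198bc2dd1fd602db029380234e2270407aa962d2e1b547bfd3ac598da9dd8e99c0d118bc51f60705f3391ee8e2806b0823a9138712d616d75c518ea9ead96a553a66bfdaa69af7ca3b76facb7f93f1825a669209e6672661a1f9c2d5fcda283f02ad3692f1ddb54e3a43e3fa423975c90e5a01451fe211d044c6047b21a0f9297fea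232fcdb239112aeb57a51e93b97c8664f807efdda4f8050e8696f9fca4efe2a58991acc47624c006e3abe6e3922b9238ea7ff99ae0dd47cc27361b82b46ac707674a87e5d99ead27e99154b3d579d8959b4d39e40ee1e65597f416751be597ba0a384affbb44e880c2c23100ba5a0f32d711e19b0b2a142045a2968b7e02ebd303bf51308fc4db5a590d0afa68c29cd4da80847a43b637fd859a982bce7cbdc788b8d1f0c0e56c840a9b140358575aff2bb7e01f2163601e8602c50976208f1409dd7c3b3146d263df91b91570f85032e50a31967e8327a245b756b4eb2c6dffee63a4d06bf0a036160c7337837e69e38518b852326a0238fd39098fd172da27cb21792db64b54e49424a757f023d81fc192c592f09c55411600d10275d3475598ded590494ca35e9c34dd56b872a911269b1af857837271fd1a7c06888e8d558e10400df4b9647ca68401015be7618054a08c03d4a9991c00cdf14b8e2440c58066b76859c663c0ab7249fab897e841ac6fc3a83025d9ef5d290ab467d3afcfcd33b15a6ea8e0776fa58e6b985d38e74fcdbead88de4010b2b7a6f0f10a519ae45d65eb1b8da47b9cebf3b6a1cb4178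4ca052c970a750ae5f9cc67b7d08f6e544cf92579f2c35ab8aafe242bfc6d10aea1300412ea65c87760149b3e100883f13914c6976c117b72c5f012aba578be4eaded6ed6280fcd84327dcf379da9a6fba45dd5b3db52fffbc4bcfbcd45e01b14f48acca8e95636a3febc45a60d5487e78fc6ede5dccfb015131ea668c9142667433eac15ebf7010ced0f4689fdb998012312159034e32081a66f61964f2bcbe4b82d20f10280cea195df69fae41daa89a87772f2cf42f165270896c7e00e21c471397d394eca08666f6b318a63e3fcbf84fd64294bbb43f53419ca80bc54a4a01fa563511c7ee75d4860ea012633ee3b3310d9f4cbd0333f31ee6023ef87c477dda389f13a0e66a7805e69646709584ecc47a2eeac091fdc7d39caf20c6d1653a67912329af74669b06dc7aa8f9f3017ffd154d32def190352c85fa2265536677f960392ab5fd85e1f12ec851c67b630c014d4f7ca84837f1a97607eb7efd5702e3407d8f3ed6de5298a5c735f8184697f97dba4e8adadd2d2136de0083f6cfaa24188aef53996e67548ff442b1cbf6dda9f7b909cd3b8678e0404734b9d4bed68f540cd47731003b993010a3ed27e7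d71f0a5bf090be2a883bd7a824cd227fdd6b31b865f204b82da2329e22d66aa1cdc5650da169f7bf485068d978d7e79bdfeaa245464bd1ca2e12936ce47be5315735b8b3e3f2f77fe5d4521ff15470a3e307717e08fdf5b0f1d6a26d51836ae4c7b2b7dd7684dbcea7fc645168f59ab6c0eedb71e58cfd9ff365be1f054d83ed2901ba59c40888c68862c4a6421db02ecccf185dad06469216c3f461176cef8ef004a2f1d83817e23eef9a36ad1c5ca5c8e66c7e3dd34de25f6a21add34c4deb685a9ebffe0b740e13145f12f6cefd5aac8b52450aa8623507c26143da16e75d12d3151b2238695077eb220fdabe067a4c6897a15177a8d4b0390d9e5ca6985fe46a998283a495a07577d3d8b61219f570973e58883e9d3509058096411a4028017f05ee5c3e5dd261275c4eaf9a183a9f9c183b7ec63724d26b418954c6052480e2770e9d315048d930f71cf293681fcad2530cea5f79ac27b81b1e0e23c13c6e11b9fddd9fd441dc6f06d7103d2c31b5feff728843d58d96ca35576ecc38a765e618c78362933658cb8f68bfa56397e32a0cd2d8fd9f9336b5d62076bfafaa2c2e44545021152f47269dab506a4e848d6844f9b7845e10fa58ca075b92630f73ac06c6c060cf882c21b02c844b981026b50c7802d6d72e2941e3040113d830c2071b9b37163fd700948e83f956477c2a57f5d41a01df4e38db61163dd100289c846de58628d984ed474e17e77)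
noncomputable def V_f : ℕ := (nat_lit 0x1e9cd695a5b9a68eab44de9e9a16513e53e3d3858a5c782d86cb66d363f6dc734de54f63c2062a59e7d838ecf3d09b626a2b119bb465b9e8281979deeb185f4c6f10a43f0f8ecd17aba17581fff55d0131910939d913eb824faf3859080f4d987711f88ea395148ceed7633c0d7811ac5b7b8de789fc69277b75b0e93b7d60add3086731d0f5309e44c9a1f9b5c2d0279391f3bf3f0d5e84288664feb9de75eddfd47ccb8dba36c8310b011849ed011bc8431e19fedbb65207aeea15a44bb0262e82fdcaff1838b5c7e5f3e34578f25fd5452ac8423bda65242b3091e5294ccbdf065fa316fac53710608d20746fd2e0b6ad8631aa6a3f22712933de6091e0aaa18df8b52b28cd0d032e7b11f5ad182ca5d98aad18f5c0d1437e3eff682716677efbbf03d34c0c8e9312169e8ac585af03d8ee4c61e3e15ac581a97aeacfce078b0ef30a8456405f4b08d3c6b1e9b3935043e366f5fea7c0e2da76e7f33768c8497ab15b8299018e3172732e4639700fa764d5dc0337a427c9aaa01f991367649e94860b0c37b4bd9d6ad71e9ced5ac40bfec7bd4c1589736d2be95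a861b9f4ca5e2a502b8487e6336ec26da9425f02dc3d304b680ea803939e0a9153a9d4132fa82ec137f7769e4ae919435fcb72b7a786a0ce8a82b3a4319dfff8f6a7166df5a06d0a902423cc55bb98abb3682303234aa165436d7f104af7d9fa7f825ce2e429b701755c07f1121ead8d0d506221d9b7c46639066972794b4134e3eff1cbf2d2fe0bcd4bb9d1d6bcab224ea445c1ee4fa9d5e5bed298ccdaa377f9a9ad6f8dc9e027864bb2e02e11b4dce7e0ad4270557d8d88b71360f76f542b7167546f15b565253e88c55b5178eb5cb0bd9a1e57d8ae6a9b5f453640147c178fa447ea9f1d1c6e05495d7f0ddde82aedf198602304574d11d5857212f7c379c4337a0a0d7f2f04309845a2fdee99890f51b04d0ace63a72c1534dc80e4ab020d5410b20b67d13ef3a5cc201a798b8f4a18508dc5b9ae8fa83302adfeddd6d0ccc3d4c52fa8e4d633639935f329d2aa8a3c8501098c0a2bea4f03042ab5a30f2cd1ae024d6a668c09655fe93fb49f56f63d4def70b50fbc7468c32d50c526b90d80845e3284a2a20da49d9aa5b2d389e6aa5fd6caae61972f0dcf14682264f98c278a3b3fc75fc969f9ab4f79321698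004205ac2f05cd1928d9428c4f3538409ef9fba76f62e17d867ae8efc5b03cd24d03c0860c8f9146a220fa7af7f884b38d3f5f4237025775397fa0f0f2db9361babe853cec547f8a18d02f47ac8ba62ebe0a84bd322f6946583ba0b95965be944bf908f65153a1fe94da4d59e6b0d00032dac499c4f804c0b1cfdfb510c6926b527a9ff1a1a572c5539fad341eaa4dde7ad0367bea969bad0cb67e216e68782ae2b5c2327e3fa70ac4ff4967617307b2e1dd5bfa6999851244dc7375ad9a7bf162f613803dc5783f4cdd3ec9401adc2ecc5d81d140c2313c6a0c763b9d1b6b462f0420df72b53aa6cfa620c1696cef0fdaa17e7375beefcc95c51073553f9e233442b89e1eeabae36a75074d4cc4eeb53c17c5659b72f03dbd67b7af25e6553589bc08cce3a616c640163fe1b839ab3ddee640dffd70b387201ac8af4ceb99bc7b89e4174c1834be3ccef4a129756a303d531f156d943cf7d1de1106b7e9fe74c7d94472d6efcd9fcdfa7729f62d863568239390744e202b83f90e40b91e1ea9aaa6779da010f74d4de5eda1fac116b074468d89247c61a47821f36e05b3994459653088bcc5e23557ce4494d5e281b2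111ed54c8362c8be5322c9ff535b690a3da0fa281853cb30cf1982acb01486bfb646ddf19aa054d4f6e06c4b66ada94139ad19199c9f3b0e3865a79b231eda8efa8b02a37be1717436f9d44108dd35a87aafb1bc92e3426a6a5655b074924b00984af904732a5051fdea737ae74f724109a8594eaee40ea97871d605cf00c9987524f6f41ba1e2237d13d559940d0cb80cf5254cd3e7c092ae0e01f396ed2d231f1a5a5d65986e04603c00f701ed8b64436e3838223e1faa418e61bfa116fc0b52f02456c10861cd0c8fab19fdf3961089beeb109b5519f0826ebec4a4132a817cd91f36280bcb1096ae68914c92deeb6531a7f5c141bc3ffe0d7b3a548b888a1ab94fedd1b51c517428493ef617a280f26cb9c1b813127a51757b14d9304c3e7b28c592a2d489023ab2e35479ef2418bcf04908e1bd0131894eedd4da32a381b0c91ddf76c2e84aaadfc85901c0006424e5b035803f0f6d2bffde2607235d897216b72ccd70308a966f5a44bfc989d65530fa7e83f8be426cdb523d84df3991e2ddf411528c2cfe3ac865b3dfd3a59892d49af796f016e992eef24a36e387d05abec2a35517b3d15c1103abb429b657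98cf59e06af18fce4a12eabfca0ecd9ad3ba9f032e364e8c13aea44b3ca11f0407affbe0be53e194d563fd66ced931cea9ac741cb27521fd14f6f67a0171d52fdc49957b885dfc7b295ede1db4e770087488e1824fd3416bdf65a324e6826790928fb8d0f7bd19a70d5622af9138a60d6270b5388dc76f4043dbbc2d340f9243fb0c245df2fce5f58d93a96cac5fe2af8d4828af03fae383c0fb3a0e31d5ad5c761550fe55235eb3d7bb3f93b756e052f2741bdba4371d4bb39566ddc84fbd0731803da10943789b3047b8d78944a9579fea1864ae20e337f22a4e195b2b10eaa187f9f7e1eb538a42cf3d28b10013e38780d01d40fd2a3467cc593b53f4287d4b08f91e4d3be6347100726691525daa05aa120ac1c6feebcd389e36d51256c5f46083e88faa6db445a15b70d1374b906c555711a71c10981035ee716bd5cbfb1907578d1ae16e83a9c1e90b989d849fa52b06373fe53cefc65d7572833b141c272d132bade2095b1f7071302276e0a21233996658b576afab3fba765ecdd4a28111997afc8e12c768dc1e949ba449f4f762e5f0fe0da32987cf80cf0a157d8e92390bd5eee1f7dfc149f5c44a355b7e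bd7a7ee43f71ff4433b323c50a326b009107aeda66e461d8b723f0f332bd03face3ad3c26e8df08e6cafdfbfd911abf5f8acc70c0ca8f64322ce57e4055ab95203bffe028abd6b6957d923cdf361b1ab5e969a69368aa210da25617a5909e1e59a1913aab78423e1bb4f52eb460f751ceaf8b8c136dfaacbda8d182efe94af2b301e8f65c9aab4ecd3b374d30cc56397dc373d3ef4accae78dd44ea12a01c64749ddd30c9842d69052f97bf400d6b2a373b18387cb2bb75f4b5c759f46cca80363cd6ceaa2fc97d7e163a847110f7ae5d728460eb4d43c0798aa9a1f94a7a8e3994fb98be11029899cf3bc6160a91866adaf09a8e7bd41cc78697b8b1870badebd1248ea0ab7eb5fedee853205b2880a68bd87f60da78060567d6b9e47d04517358b06e4bc6ea33588b64703da9ee3ba15bbef77118eb3922188407678a909d6090f9b691e320cecce0fd8b52a24757aecf21f942463bdbb9d160c0f38a4890b5939279db010b33f8a645f1007805824ca9910b2359f19c55f66286980f6e6b2010c1afc61f91e3bb00ec29e56810d6dba8095247872d0f76c9cd89d1c7aa733ab6fa52bad71d68cfbac129dcda112de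1aaac3fd4095054b35d86004f8f24c6f0876a5b9ed2e41653311dd17d28d90379f093cd4237d335c72f8b18f872074f85ba6972b3943ebba08b16b197625f5d2cc0f6e81604cb373a35a2acafcfe7e941f03400f6e877e0a6af7032a574b4b1d7ae04c2b5e054c4daac8d54701e9a86c7189995352e5e872bb63baaa3604090d3b0e9fcc60ffc26c58682162c494c9484046e6bb6695a008855b99e3cfc77d4264bbcb3082229b28f1c283e9bf5fc019974defc9861101184144f432c2a716fca27789e020fab67277d6d645af09be64a03c1d0e6f90d4773e00013344c5be6b2c98f5bf141dbe82ea22069e2a078c14ac8cc9b7148eec4ce6f9ee6e6336d8ef954eb1edcd0e686dd7f4c0176fb02ce94b696083664a17b624519ba8ed808d959f99e276710555b3654cdc307105ba947cdcae863c5bafa97c82d002c828a4d6401bb8d231f29c53f835089d67c7d920d238c41a203aaf85f1dc984272a556d80c4de3397534dc97b389d9430df89f687d8cdeec877676556b78d14f31821cca9914b6385517f873730267d0360ca80febbc4be17c1495a80eaeeaff7b808b86c2a948d29f7a44d2a698da9212cdeeea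83681812699ca3685a2854c7900416e44da0ec4fa3c581e1d60703a80f6b5acc0aaa75badb88bbe74c049e4ccf50c205684eea39a6ab1076fa1de3b0100b585984daa5c249574aae1c60055017895cbdd06d8d950c36cc562540dba84191ca2166b40682bf5e2a12f30e202d723af903cd8bcc930928c783b40d3fa4d89931395658c01bcf993e85e1ba65247cf70cdbdd4df6d610747f341e55b70e81f2d128c962c737d0f06d55a8e460d06a024739ebf00bd5269f9d59e98c515c3e46e4814f8ef18d880ff4f271446f2b30e7b9d0ae672fdf7ae53e1962ab3faa6f27e98454099d000af9f6e5b2d1669d3107f28401c50a223523ac6ae2fb4f0a9dd95b7eab6260a24ac3823d0269bbf33628fa6c22fd18ea65a3312b35bc6710ef728011ef0489a8714753ba195c557d1302eee64f44ddaba8ac03e29f55160b0cf1a40ee1d7ac3a34b272a778a6d0a0e7a835a40d691dd3b819a35455096a50f71e2348644243cb89277e2c7094082cbb1ca59e4cf23fea2a62ee5271cb7c54d816c1ed0c511d4d28886c2e902a14fa709edb416545086e0484d4a429b0177865a9ed1f59ca1d34bcb5fd051efd072d6e11763d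acfd53e94feb23b2dadd1d7d71f760537f7e18443b9d57da42d6fd4f283d92d2379bd61f555f59a7ff57e87667b2bca0ace1f27bc1954ca916953de781d3f5b713263e0aa3c30252ed21ab0fe1531742d07c70c0564c676a0eeefb43a07c3a93af98ef090edde0261edf193f27b891bca7f3eb8627e1ff81ab720a58119829e1b97e44b8480e9a878a2dec212ca05123fadb32568b7a3ff5afc17c558b1b8774570334756230400e976a0c532b8cd98f19f8f63314e5a57288e012343b879b44d4b8d95e79ec7ba4506eda106eb6964bb2deab44aaa3d97a097c107c00c7e24b9eb5dedf02e64fa5aeb1dcf5a6a1597471f541bc14ae5c93622735b63bb67162d1ea2db176718508f0c76b4cacc27d07a96ca54e672415b0c16e81581bc60d8a744d54581937cce77aa2c18f34810caa8970f25daa1d40386fc39485e3e111857db983ac4d9a26fbfd605225f216630180d0b38598204b4f0d638639041beb1b484abd7de5c5caa016104d89210affa770643dd0bd6f8fee580deceacc70d55c9dc53cc0c50cedd277a96112318651952ea1bc536d2f8cda91c715b00ffcdcf79ed9008a43131c267d4b0d6547f028d85af2efa365fdf1e685a53318cb9773b9cf5aa90b8904a6f7faa6c59792d242f78ebd7691ec01adfcea06633129b664202003cd959ad711fb926f3b9b93bc02da37412f4c69d8d04bd1cabe9ff182dda35993f088d7878331efb9a8270374)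
noncomputable def V_g : ℕ := (nat_lit 0x3315ae8303dd8a075b15bb6f507d22555bee9a652028241964c3577ce4404175988ebda534319c510a8b62f6b5d9e8cdbf7e4300ac0bfe160e761caaa95f7d78fd99908783bee05c39beaca992e13fe007182cc36a072e1bed6cf687d96532ebea608f6c9b36e7edf728cea25f4ab8c4d22c1e4c090e9d83798e320fcab3539ac4fed617c1eba419cebbd18112e1297b7dc4548eb4299fd8ca18c9aefac28d6cf4e0c9c0b39090386754e6496b7022762e56174fc5943e5964dc321df9479e0e905ea44078234a3c6e997bcae74d859bec0fc1a80bf947d1c8983606c01eed0393a3d87facf9e9dfa9e276e95af373cd22a58cffe73f2da998df713f86d1bdd964b6e884a9f039ee56cb8ec123f3cf3a3516c71ab62178b03de4d467a7839fcadff42cb755fdb1cf5cbb795e7f94fee84c6903ee0029b916fde45ec29e565ed5e974a9888b3de9f3e0512f2987a59bdc7fd78d1b4d9732504e4f0d67db414e46e31cfbaaefc989c7f291c603c820b722ef4ac5207632d5ca6d0ab10aea1fc89d52679d6908a7f2691128fe664fc27b08b8333b9e207957b37de77e5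910679766e81c38695ad1aee9e49e4bb3c691b8b525290fc4c1a3a1d28c6b7af275e6c97e9d2f0de4c00816602670040b4f32ddcefc80b09d8de66833a3f431858da081feff7a0951ca01da57eb881dac456b501e5ef5c8953b3d72e93835a3aa27b182cd6f248a6b80d7e4ba1cc2e25d59e6f0644f79fdf098d9576bc323b114a2e1ad1293fda8d771c679987126bb165483d6f6ab9af937ad988295833761493f8996e5102ca2585af14c82107c27bdcd814e7430b93e4b45d1b191fa954615479a3b2278a1eb5ed18c4342f0550e9b3e390ac35426399e8cb9a2061fe8442ee69edf14516d5a5b3905ef325c1644890521709c206df3e420ce930fdbf2d3fe74299f47727f704d0be18b00e8adab87f4eb5f806efdce0c48a5b0f32470807b34886149e62b6d03d4e956ecd09bedadeabbecae1205df25f7d36b7e7c03c963e2dbaa8ddc853256eb7021840bc7a035b422402be3006e46cddcc72810e272238db6aa5cd6b2b30a680f7e04100b7e383282dfa720c1f58ead38259f2d3f69d5fff9a4ce9a2e9e9e2eaa1fbcb6d4bcea7253b63ca9c5faf094c05435d37c8318159f2316cb83731eba7f1a16d5ee16f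909902bee3242327dd45fdda28597a36aded0e2daf6d0695b90e636d678bd6a7a2b94009aaf2c8e1d038ddb1830ec92a79d655a0989179653648a411fc5dfe5db966cf3c09388e9bdc561d753e2e5cb74c97dbc59c4d7d58f04981ae51a073200fdbaf124820d42313e4d23c126037f0c0e001df723dc0f43348cdd5b5aeb2b6bd8655547a1c2d2f45bcdd8dfb5b336a13470940836d6f3ce7a716f86960cc7f97c30e074de9c5fb415a8020aba5800871dc54813ad1099c816ee9ef814ed895bba7f14023e0dccf1edeb18aec4591d3d5f460e3183f1a5577af4e51ac03a1c22dd64d6072252bbf3c6081f6b5fbf6124f578c6d52061f60403ddc1fba308ddb1efde94b5b641b71b7f79074a2ec496d93a80f137d8455307fc480c0a8eba1a56dad38c4996eef70637d0367882325d594fb218cab2bc011dfd0e3d97a12bcd9816e8157c95ff83cf4d21512455b5caadceec43c2de886457cc800c762cdacfad2712c717bc72f381e8e0b217e36bc8cdc4d842ceb8ac1e93f648f7ee6a59d6874767012be4d7cfe94dcd9806e0a13a69b7933dc95c2fd1fbaf1720327c0bb08472d48169a3a488f6a22b919ab95f234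014cb8b0c57720bc453ce958cad8569b54ba116416c3a528c6c52e8c4037f04eb9b597d72e05e1aa38648e811c493dd0a92472a540baf457b0767f8c5f4a5ed323baa4df3924cee65e4b416c3fac6c15e4ab31fcdbd6c2b22171658655497e329acae55e7e7f8b2185ef91f385942c19b5decca3e5725034dae9d8bf4daf4dd6a5889fed332626f1c1fad0f71ebac382ef48d87b874ba3f73738a6b1a93d2f6512303de29ceb259ebef5d22651f42c1cde03c022234cf7e2e9aa276bb8981ae68e80a0db9de151c6f72b4b436a6962f14cd507a9fa335bae0c23388812dfb7fe38a3094826ee96f68310de5e0111a3cb195b59c7569aefdd311bd4ef80b2acdf7eb83457f140eb1927c471fc5ffa569f1c5a5ed2941e4ca7151ae1b56c7abbe2fccc8ac3a5844f4f18d82a63e21d199de8fa3f245886d95eaf58648294e7f2aa07a0d980c33a6db3cc7260c2d6d2680c8aff19a21b683963a7b24f5eb8e6bae05fd55a9c2409ff3de960aa7ae6b5282ca45b09c13412572fa043767c7e8429974cf83d72e888be2a0bcaace9b6b230f6f804d544d6c552d3a7818f57e56e36b978e569e7d289465db317041cf7b99687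493aa2958f85089acf536f4e3ca2f3e1e247ffd79dde13f13e6465cd18eaa01e13983c42c35b6958c2edfcaa06866655a8cebe5c443af3b0436fc8afb2ef6253f3e4831003f43a178080313645e64ce6ac485a696b2ed617d481fc4bacf01cdd889cfa52f30204cf935e297e98668e390bf5e3f5d5ebd84a49f3ed5c3eec4d01c00b6d3407b7468b7e1912f89696e2cdb077d10049ee7a18fb2b18882d41d11c95c05c58ee873a5d354947e03b61827238dc0378a66fc7aee233642b37bddbe9a46b8bd678dc1196bb4612b9749237d9d5ea74f3593125dab6b5ab7bf9fe0324165725aaab293e5015f6b80fbf8d55551ae9e7e31f718214acb041c26f8a11e07ed966585ad40d61680dc747aeee299ce8cb6851ecd4e8326f6bc65a3c9238e761aee10f4f55cc8ed695b19aa18f419c9972e58b6ae270a71445d806ce4fc08f00402529b72c347a040173c720e88c738ee62a3f4f610d182d40946351a5279060d0d877a5ac2097907beac6a757cfb348af4505c0242cd32efb12d8008b9c05a2abb487b5cdf39898c4026c25dac5083f44e92ecdd66ad1dbc07d546b5324210df4d16c51917eb28bf252d8b49c7bc2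2f3678e47127e4aefe9bd990095cffde82ea3ffbd9cb7e0608f636278a7bdd6ce75b5baa0b3690d3ad5c1b52cceda618bcb00b6a47f967a7bbf54f8cbb8ee103b32764d2a46b412aa55e078f8590b0fd31737bcad81a40f0c5f6e0be0c0f96e2faf821a528a0be83b0760cde0d19989d1c6ea0bd4aa163e24aff0eab6feecdfe8f8386f1332587cec64ccf062f9eaa6a63a78e73fd81dd8e3d5560add859ea150460a245591f1544e58d90b6166e4c165f562bdcb909d2c29ef7599d8629ff3d0670022d948ca06de1fd91561761d507469451d1c1a6bb3e85ec7359e488a9b739499bd0d46206d3aad896f41e8837fdb8562da18ff72e7abdac4f7d5707cc1d2a63413844df41fe406216bc9163cdf12201aa71803bf000a29346e79c168b48c5db0290d86b9e841c6fb9453b2549a4f6c216a7df22bbb6be7d76204504ea3fe9ce346060d814848b840342b3d856515c3efecda47fa180171fabd5a8362534891218ba1fd1d644453c0972a8adfae9ad6a98f3db8540e7ad82357aedbfa96ca49a8f444be0bf0e4ad092cc05efb1fd72e166eddf85ac8f927cd3c5c44cb6bc0cfc18c7e93760843f61248c344e91df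fbfae8aaa63b140883316f76c2fdc86aac87bba98a89535171939ff6ef7e1842ad016139adf9621ba5586ec75c33c1937a5ee560873c5e2b4e19cee673f902ee2e310b1ae71a9a7f70d1f0cd06d849ebdb9ae7d2a84ee356cb61e5152daf793cfc18d12a01f624fd4709817bbaa315affea7b1a4ab63f4df9d6ded65a7309126fdd7ace5f460ed99358119c1cde04090b5cb17488970cbc7ef43f47320405bc157532cf57354ab8f8838701e6844c3483d09f43ba460168af6322673059bc13917b56103337e7b2f321a9b4a55cd737beea74d908c50a28706de44a64f8dc0b670038445feceacb6cab66d4b51e1da3c3d9a2fe13196cd0ba108a09f43a6fb26992591ba83f4167e73a4b2ce4e7c113087f4c865eb4ce4cd16197281aea2ac41bafb636ba0d3138d2066c63ab30afbc3c3ddd071e29a7607b08b85addacad2caa391f7179debabbf67cee3b2f276f50b3af2ad14546e0e143a1623c0568b87fcd694c35444fbbe1de97163462fcc0912283363ed6bc356cb59b3ea9605bc761abe93b512329cf2cc2096bdc02010f6249a7d21d44c56311cec40de55cdc30d23347fedd140a31e04cf9b13ee918aead6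ec9c2d9b2ede0497dc4c1766e00b509d81cbbdc612721d93a7656910ef0dfe3b61d53721010b2709c6fb9d8c604660af6a644662cca6a6e3a1fcc2d9cf1b939deb44609480cde15c2cc70acb101ca6da23bb59384ffb79f2ee50770eb7b8d2849d04a7a07d3e518985f6180ba4fcb252ac1ce05c129724f512029d16407a26ebaa2db7bcf6e795d1c59c19a76a80bf3d4de78bf4ff077da75a5e1637bc2db2a31a058aa779d7efcf95eeb5814ddf1cf6f9846be236172b11fec97d2f1f1635a9ed96432ba5c0a20bf49d2a6b76658460b3826c3108d64ef4be479c1eb365bf2fb1b1e07c159f1ae23c4f05219e644dd4a7f9d10e21ba39473d375e4f149ed249730f41160ebb21e27cb77fecfa358d55a34bbcd7dde5d1f24d4e11333267ed5ff7c4af59d373ee27f770eb1cd329300e6f2319c46f69b9c87c518864beb6a7200e26a876ab5d24dee5b0107a1d7813c92b337e3df84d9f0a2071b57e51145fd032e273f0c4cf02cf8f7a5b58ebc3f722f72570969bc0d67e9ef5a55220c1bc2eefbf9039e82e114333ac99fb628f3a890717ffd0bfe06c55875947cbab41e4408f63c2fe4b456f2aa83a6428860ab74f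1678041be830ee34bdd5ecaa8700fc5b4e6442fc252f2b3365ed25c51286606273981cc7b47fb2208cc6865c32a4b0c16c680acb911db65f638f419939158219e4c9da663db010f5b4f3e798e6e86c99124f8ba17fbbb2075b4d7f04c052c6a322cab09ebd3fd7c5266e74992c6f3e607aa093b1377edbd6627f08927edb5f975d835979e2a600e6f810fae9e77aa9c6f691f4a95ef3b8dcf775a543b0eeb082876a8433db2e35c449ee9c41bbb610b36d5472a0d5150b8f758383bef34220ba4e777f9d6c237a95a3713e438213ba160b4de14d915d14c3effe846e626a605d622ed32086ec7d2c5791b5bb08182f092897b444603c6d4ac17b0edb7ed237462e2ab0d5a8b6822c532d6108ef4f69876695eb6aa186a28af3f00e4aaa426095529caffdcf1e2973e79781f80622c297723a5cf34b255f5226c5e1bd6c8743741fcfc1172600389a1f335a1a1086f08fd813cc63b51242e03c1d33205b983e519cdb708194e3328e012e482038c60513b11d80564de0345f70ed918e10614e6f72e19919d0017a39a9075d4b4756812c9448f65ea997748c1ffc668255d3eaa3179e7fd49e68ed15ece950a106056dc1d05ad4ed4d9c83454b6b0182ad9676d5f9d344d7c840ba8387defe99f169773f7cd62ac13dfab688d8808c0080840bfc5959a5bfb710d7823266de9f619d175a1f755f650aa9a8a681de3a7f26fc91a98504e39e8e4e20f20a22ac7af654)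
noncomputable def PP : ℕ := (nat_lit 0x2131c294d6492b5c13f46200114b8d070ca1eed9cb3c305d859dc2b70698973568258f83510acdacb8f2856baec50bbd6d9e96a58126dd1094013d500fc184158eaccb25c3bde37599978e3303896470a461ee66ca98b9dcad9809c1c0c8cf56e84dc11b0e138f5b99c1c8acf58bf02022dadb964fb4aa0f41a94911b1228e4867c79c1937de1dd4a8eba8909895561ed6f828cfd3aa3969b75e0d8f2e283067f6ba7927f650e49ab8b0d088637714d1698820cf7bd20b25a9b5423d13d0349cd6a4864a4a079f7d50d760f58bf884a01cb51c13e29429538ae4b37651960cdbb48e3c6aeb4ac679ebd16061bfa90cea46dca566adaf8a4bad775c507caaacf0bcde4e5c44e0c4f8a7aebf8b415ffb1d5562ffa60dd417e59603f3b76485e632b6f8d7d189140497a2034ffe1654ffde4ed0281dec2c9aba4ebe8841a8661d830a2fef1b99e4709696293e4d5d0a3a80e62848fc34b442d79637fd06030f7421ba9b7c870e96b45cd80ecd8eca306fec8e2fabad7a3fca40f65d4cfe77d7df843f6477826ba2fa105d0443ca1bfc9ecfbab66179cbbb17e3a4e54a30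64aa0076ee4306f908dea12e44c6babc41c8a1c660d78f0d9797e60965a991b37770c5c21ef108acf7285b42cfebe20ee531aa097e3aaeaed0b60c9a13724f7b1df2ac88ac0c126255846f0cfec74876bb7a382a72d6371a815b3d658d31188621fe123c0452b163fd428165b11aee30c0ba638ac5a96ae8fb5e1fe7e3f1daf7f9ab3d75b67ce903baa258cd3b448bb9b2705e8c6ea40d84ec787039b8ee820506689c4d3c03fa134ea685841be775b8bd4c752e0475236cf31296e8ab95be618ccc4008e18a0930e9e98a0226e92ca4e6457f5d803bf70dc6137e6853e4898498e43be333d734fb42278904283de6ff7f2f0ddb35d033d461c6e32ed2965a5f99c02cc3884ed442ede50867257621960efdf7abaa7bb1e1ed3ca98b15a781e78057d2aac0366aee3980ad7a8309dc5a3d29087b103cd375cc27003a729573a5d9c4bac91cc11554818ba68daa11b7765279c1640daa095a3954e4a697b27989076294632d529badcc244b66d5710488b5c2412ab1530eaee0e2269d94d30ffb451a03295f059b14ebf343e8e36aa79f30f7c3e58af0597fbd7431b56e35f1a4744cd1c5f88111a59587dce5f1dec326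9a2aaab40280fc442595cdade047209fc654750ab5f74e9d9f5d2ba845ca760996760385b8dc626953ca0a38a048d1211acd5159835d4b5c8d4547abccbad827bc691f55bb9290151397a04293dc5f9722c58b3ef22f629f255ab44b634833af4eec46df8f7c9c17e087b8e9f39dee4a5865a526569af98c18debc37491b1b2fb454294f54586d37ab160f6456f0696e99a5ccd6b2cbd1f1fa597db3afc20e5b3c10bc927f2ad9f76aad6175647d24d9ece438521d2cdff5892efb8d07830716d341d634c8f11f03afadd3055e1633b4394a4c4ad97388de12b46a25bcb6ec5dc89a6a8b4f0c3e52678eb840e7689fdbaf0ca5654d14637b419c11bffa35aa91a408aec8e5963a6d797c27bf398138cf5d136300d36482bb65fbfaa5ee0c3a6e96b0923cc6216f774c53d2a40bc9945b575ac74311941969cd2c29922d2fe52666b170944cba78079623b3f1557256d7e2aeb99e101f80ea4e439ad74e07dfc4035d3a3f8920982799eebef3804d6d8b9cd4070bbbf999a73941f97d97e64d9ba06f2d633559a8e5b8688af81257c71ddf574897224af9c597e2578632b05b0911fdb82be702e742d6ae0c761a92a0d7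5f1860ed476a8b7fd6a22b6c79f47d4fc21f857bba2c9de99ae9164ffeffc559b0e95b4b3769a240dc8fb405b45755c3cecc69181e80013133731a9762d60c550914908f4fad598ca71cae4628e148a5c51c43d167f4eb3d760ee96caa9ca0d6463d69f5cdfd9237eed27f9a210493c7e35e4cf6926dca0d3981bfec5e63a6858b1c53416f204c3f565b924c2edd6c6cac366281950b7a13cbfd552e2bdf0e64ef5a99709eceadbbc7982a4e582c784a78d3f1c9951a3b7711cead34b4a69f28d66fbfb1677335f6e4a381a8105fcd3c36d02657f5ebb5f0682719e04d6ad17c9293703bd2068428eb8da6df5c96c275dfd117da6ad3ed333ac38959eca8bb7919e9e2a63adba361bc230539ff2b666a389446df553724c3ddf39c7d9baa767841865439d49302932cf8223c63795c0e1c664eb692be33f62cb65b2eafaf2935f1af31d3d1ff454c7d5d69f2be20a8dd032f0f1e7f0a82633df42a3a11f5f8f662da847384bf31db3ced9856a6958a8cae46248d58187114e38dcf4e16cadcd9dce5da4356eb778b8c18f29e687362cdf8d027c613fd476a22058e1518f4198af9f69eec968e13b8bebe22c942f7c415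3d5f141efa81bdc0874059f22248d8a785c325d55342a27944ec3d6d236cfdbb0e170bba9b9d2b270f02aa2fe4d28e0c84eb2beec623d7a96850597af00d954382397ab3cf359e5d011be88ad1d7704a9bdd1914b1fa4bb527f5a90a96fcdbccaee4776b6f54103516f5e2c7050ecbeba428fd64507b8c81baa28331921fdeca78cfd2c303f58666ccc40f329c3063b8d41ee615794154dfed8805f85c1fff7c8b4c9f88959a239505fcdf0a216882faca420ee4c3448e70488b308745b7f4c000939774b762b5cef9a279e5d79833fa2dea493e58bd374302f074f8e789b4d5283da5f173ddf34a51a9d06eb8eeb05f685d0f239abc8867b502226de20beb3c34285d43977bb65d3627b969e4f14bde3da621e62d28469ec6169555fdfe0fcae62e7a4239a452959e6dd6c56f3a91eecf126ed9692800f0322b645503e5e1f666a14d8ce6a67e10519ede8727bbe5a842543029c06d2b950de05c5381f21355f1bf2145c72a4490f7dbe010858e3736e571259883d95b2eb479a0130f0bfd428b529fb26b0b717f8455314fb964fec365af3614419b4cffd635d65f7dc488136083296ee2fa00876206e58992076152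b2b1fadb112cb907a59e8b28740580f9e601f7289164ef6ec89b2f87e1fbd8e896e6bb9abe65581b6838842dacf3a4e8347157be6ef9a6912884252f2292d31717533ff4dd75c0b66bd4e5d58de7dbeab24dcba04a683cb388c3c9c2715fc1445dd0f0d04d5a4154338bd79d8a20df7d7ff39c209770e8ca792ff5a9d34a75a8a5b5cf7609608fac195cf464a92908833ebda71413bbb7d60783a807e214313f24d4993d2c9b38276c831cdf162454ac8636cc391a6c875b861562e08dc8ea59829f9aff6415c47c3f93638eb9d6565d5efed9548ce3a50c33a1ab0880b4dc4a18ae333fda57dfffb8adcf990232d2eeec3f557102beb4b08d90f03b6b6e775773afb07ab0f9e4a69126b61fccd402e0deaff4af0c4917284282f902ebac7bc5ee8e8d876cdefdff582ec6993d2ce03c07e87a3d2b54044271e0e43a1f2fe427b942e1e772ef05928c86a51fd515e9027d15cce2594586fdd1b990a04968891d0a8fdb4d27c9c978c8e2564fb7c94ae3c76bd78586b14cb46db2b5b2977f6b4ad871cee6f00a1e3e75b9977468151be8dd001c58c0693b439fdb1d9ef08978dc941a6482757ea05e65f37cd90c05d06d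2749c5f11b3f95be8b1ab2e5981bf3d70971f047c2d4bbab55f75110f73733e1a18d4a1318c1983e0ebe15af183e924e6829eed449b6852592ff380cae204acfb8814686b0dfeffb1c437f25fd7a246e46e82dfc5c2ca12f2be306b88f606a7f2bb2548c5b77b62202c17cb99a3caa87ec9d09047f1f550d4f43e3277e51bdfb64f6ffad52f41a196c68d31fa1fa2bf5542ba68a905517e342215c7f4dc604b80c9b2bed85b996008fbbbab461b9de6f725e029da40e152c2430ca3e4238da26e2e94c545101e0f04d55c23c2eb7e4f5b8195e3d6202b79b8e59954da1940eef381713a9b8723e1a4755893f8d7d4be2cbd4fdc038750f324d79978b3ba6b0821079f9f383b23ec92493ee0acfa2b1bef8a3d48f2db70785a84c27fa5eea79abae31a853727e3a6a923642972b7f4734399e737c1f16cd4257b18c268a0c8b92cea93b99f515adc280b6e3dfcd0c7c6cf2d6a9b1aa456bda0452fb2033a8cfc95a383d4a41d79ac4b9af3200f672cf7969b5cc1ade2b7f5003b119ebf0ec90836d5675ae94df2d35e6a2b41a3180f7b3e8d1a6b1ab3a8bcbf1b6c0897e393f1be50cde25515377a149630cc50007e1c5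85fa8a6816f63fa07c95f805a3ce107519a19c33e2bd67341f36070de69fd10122e315ef3ecdfc337538d9e1f6035507e0342db40105a0a097eacacabe815939789faf9fee95e81655532942e06558d8ecfe0d5dddfeea275ca51acf7ef80f15bbd229a4202e19b702bcba4ed6252ce9b777770056bd3201c5096bbdca92216db5cbd85cf08a018788ec9889fb7e63339b61eea64fc4b9744c577119efa81d64a92adc3c15fba3e7e990cd418f34e77123d23de46fefb6383fd70f8d94e3f2de5f71e50d56ee0684286fb50c8bfc23f199149b6b8117f9faefe7c24cce7f4d22921bb341b24bd14045601cef9c2cdf0cc58e03f72512227f97e240b72a1353c70d0891a9c079ef296717e5eaeac7eba839d6c76448bfed83f2711f38353ac05500fbcfac9f7f893a693de356e8e42e76b69baad8b9a6c4da28859e402ccf6253585a4929ffdae2bde2c4c8c006f3a32a792b93756d34453421f1875aa93822095132ab227d45a445ef5950d2030de3dfc8d9b2b57abe8f1adf36b96da9a236f226d281de6e180135cc414da8fa4e9b9cb4e2551a572b2eafc459ef7d95103af6f465e6f5164d0c8a3b21831feb696e85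01ee0cdcbc738140540f8edf537c91dbc5ffd764a0832801f87276c1346e786b4c7fd4d752ee4e5f2851d7fca06ebc5700a3b53a88e0987811af66cbac44335d8db070937b7b4b66f6d1de41f450ef2ac01812ffaf02d15b697689e53fe2b7d31db15af0149e2875237a23d05bdf54cc9eee1913b12eb9c63b7c4da13c928e0bc3d45b8ffb98763f6d3f62196e1b444d0807cb27bbcaed9cb14c4a29d64d421447ec0eec481bfec4c029fc3b5ded01333dbab9441d4e5f1f4ce4dc71b2e6be0c8866fd860b95f5b16368c42ac5e81d149b99f9ba8382088c9851ed2ea3ecfb330a1a507a84e92d2732ff2868f565b381f16d90ee9ffd5f07370ccfa8a41dfa5f2f467772e881acb6181687adc9be65dcc443ce55d96602631e40ddc086d3f1498c90a3035a60297968df8172c97b7a6b137365e4bf0bc9fcccff004fa48e8cb321a8eb3129ad7bceba265ef228f1c5d493af52aabfba6c3d72a02ac70f4aab424fb51d9dd42e71e1dfd4731289294696b843cccdbec548acc51d8553440edb5d81f5a0ee30511e7fa4f758419db055b9bf2010977e7670c2481fc02eb9421ff2d49d843c411ce39471dcb0748cfe68439b92fc4ee112111baaa0d233db114e8a38dee65bfa7c5f6aea7ad2b6486b7e0cea4f6dd6f3467b344aec78c62a8f5df5bf33e120d36f85545b1581fefe8f2be4cccf52102227a0ac4fbd52aefa7944152efb13f0b023aa2e054b201b923)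
noncomputable def DD : ℕ := (nat_lit 0x2f9929d2099f829ce1379e4fd3bdb811f21c0e3242f3a8f8c71362fabe42fc17be4a0ee52f9458cd325f6b5d12be09336d9fb24bdbbbb26b20af5ab3d417052e037e21f5f21e8f775c2a0dc2eec22268b076ce80b0ccf5a666a362674df6b0fa85089ce05325383f9753bd8c94df57a85b0f32e96c368707c00cf1b1eb64c465e2c423234cf4d995f267929b1150e2b9a33e5f842c49060a7e28aa729993a930b3ad71413a8a73e0dffe1a11499afbf15bd9238ae12f33b5ebc37a356c5fef476ad07bbbb7425bb449b94bc1020bdc011adeb76effe1bffa9ac0aa78fa4b83490a97d19ba47b612c33349c10b1e31efe50d89504001b3860f114031c4182ee45750013bf816bae2bdcc05f2d6e665cd7b88886d3235a39bde0f6ed6c8a783aa9112ae0d867b10631108916c17335e6e616ba89a5aed55c83f9892dac34d23d484f60b67a7e74df0fc5665b9417480304990acb38f293fce625d28f03fdd7ebdc0339426bd782b4f3ce2b3ded259afa5d4f76eccf3b4e21e09d8f22daaff34d871a3ab75997d06e2236275c86085a0bb84a6c1fc2d20069a4487a4c1e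cdc8f6b2422ceec0c8e0bd703592369e8a3b9ffeec03c425868e8e0a9734d2fbe53a506b23c2b43070256e0db5deca25775e636426e05697fd7bb2e1cc6afe09c7bba0a18e2d93bb7d9e78a4add1fec4c586c6906d29db6c2939ebfae74e3a6fe46e24aae80e52a3215c40d38c5374b3ac00e39f0c802dfa1d038aa9555f6512c4d9e42ba817d0fe9e2db513e932d052908c7ff57cf62d21d24c72ea8746201a5ec351a819a6f5b02ffe6a84e9c74abe9db4f08cd807d853f2aa01b2a0eae2a4629fbedca173cbd74f5b4e296e2e5ca3f3d7b9262b953c42c8337240ff2d63ddae8265286f5393810a614acc23f608b08611ca15458ef419f1f527405ac687061a546303c68b460ad183108f22822af8053e263b0e9b8e0d30f2a693d1fb3635b4c302b3a8fb8aa18deb1c103625699c4bf59bc14b8060b5fa76807c404075da722be36d3c86a0534be6dd826a4a1449aee09932e2b2596508077aab9a35c9606885e319a4142673122f618b7aa378954315988749c05357504f3b6b08d3122ed499d7cbc1bf2c0153d59c52b4dbd87053014f84c253de54c31edc71706b391dd16cb1b400300f98361cf19e0e713af5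7d0b76c88d1c0cebd862bf86f5cf77ad60fb171c21c1cff5280f11bbb3e1bd1a4a490baf1600635ddb780fa454dd7abe7f2626a511d58d2a3f88e50e53c7b42ac0e5fcea78a934ab546f8dbe5bd16cf1b16b7c8d8ff960119d9a5d0e81b50ef5cf8aba077847d3375fc94df266ce70c031600032c309b6dcabe406b58c00dd45c32bb8c3afbfff3100ad34fa5c114b38d860326c1d443a45e272638197e114b7d81734c30549eac78d953435b224c34515a8b9adfefb7d84b44b965e1bf9166672ccbfbb9f6d23bbc9895cda9a126d3c9afe5f3a1a15ef94ef8fe4100783b64ce92b4aff734e17facf480fede74fd2219209ff04acb46bc8c1d7e50a21a7104ef9904de7c676c30f7fd8231e5308199f21fefdde1355d7a4d9d3c0cdf7499e0cd15ef786174c356a9fa507a11aa68749168755081b854ec63cb425a73a663937da0dc1ff8a2c0c80d9b246ab6dc184d79e80fbe8fdf6af2ab510072b207926e59e8efe182f08aca453f0d0148df76a7ca9d05c9e4ab4195e5f6c8d4a38576dec613bb531e3e109f4b9a73f806b8a4b2a0019a38083dc2537b36623398dc57f254a964d0fe82449d3f92abacf6415e8c7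da6360a2077571a39841b582863d537038e318ae605580e1f0da918111c9e0530e06c57a886bcd2b0ed3e586abbf6e6200562ced3232c89b0aa1f10ba3c0aa68d7f760be24dcf3998c523de34ccb1b71f84ca00cbec9b79879f5f350b2cf3e0aa66651c6b0fa6381af38bc64e79ce7df396e8ba8ffea2b20e0882ea9210bb86d746766995bb2f68843a133908efd7229832b2e62deb0bd0276257b701d4f0bb95f4433afef9823a3c753e768d40bf0eb295ea0fe6f34ac6e45bb3f6b6cde12a3a5ba803bf034e83111b0a91de35a5f9635c1a8b3b718af98174556a0ee196c0b6dc38ca8e3bc3522edc6e1bf89f91f3706f114530ec6deb7c867a81d89c0dd825c6cdac31560ff571b569fbd8c32acb5b1c91f80d55e5bc0fbef3c87a9a7b4dcc6a0ae203b12a210d1d4e3e4928335061632652c67701252dd33a1712a2b3a528c43d7cfa1e801632807055d67042cfa36ba45f209092e75edbe5abe01b8a3bbd6b0325e0d8572b3758c5e43b19c813b818b4af11e312f14ce0bda441e332bbe3e94743da88048af44618e6a5bee3cad58531ae81b2ebbc1a82dac7680b4bbe7de5a10f136e975478683d482436e4511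96e008a9ebf7c34a4c914acbebfe9dd4273006705f3dde81d5e9722e2714f5d39c44ea0e1f4afbbe0cd65c3e7f716f925cbff1e0011b4c2a53b9cde9a954a0aefafb6fba39b5fb2497ab40425c338356bd83669d092cd7a45e2f83b872a3c23c9423c9d3c855bf61cce3342fd6c5720e01da623de184f70df983912a78c853bb9f22ee5ace515d819f02f32f027685499e304b8694ecde6fdfe421c6205eac9ca2c29dd50c0db295ea2e51fbb9fece4257c2f03633adb425840f08586b6f18b8f2e978aa3211cc7d96d2d46ef25585c415c899a51f576c45d9794bc01d3142d40a972697496eeb79eeedc6bb794bd370ee290c0a2afd54a0baf22901941fd41653f247df6227fb41018cdb091293870274efaa43926fd13a1709d5915ee3009dec0440fc6ee7cdf233bd70ada5b34399a5c586e239e92172a0e42219c9d5ecc8be73d0a50412a22db0ff09e2cb28513b94babae3d8c47488943a757932878b437cf7913a947c53212e29476e5d9e602e0b91002b68da87bf9f77f649a9bcde95108180a0ce545922ffe44447eeab80742ebf07b3c5ebecfe19fead26ddabbd52245203f7ca590e07e76dab2696b3aaa2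2dd7a56ad95c8217c8c25b37bb5ebb73c5f699e9f60e9968f2471e50829a266fc7fddd402fc74ead5baf0aef094ddc1bbcdde509a4f5265f98c87d499e9a328638dd77087e72d0a52a5150bed41d2c37d682e07502555845e227e6f4e9f75fdacc27560836970867ecb48fb612266cddbb566964c5de7d15080256c38bc8f6b5cccd1458a3d37fb7c95b2b546ffa4298006d495f73a90cd13976f582b7b924e383e90471efd891576a53392db2bbc1c3b7d71cd05f7d12095eafa2f4cfe3516fc62b2e176553a25c1cc4ab8de4f39d4e9daa989c88f6dc613e87cb86d16fa1e031c6385c0e5d70f3ae324c12b60f0bb3b9379d89eeb91f68d1e7723a5a27be0cb6a04255ff0e20cde30c14f442fc5bc4c7b4ba46aaa0ead19aa2dc7fef6b56e0a051fa38bc433ccf41b348d52c6603315ef86b8275abc5be2674eb5e0fd13f45aa98d70a454eeb349de256c991d1d14eec595c428eb503516e47e5e37859dbb49c7dc9d608ee44e2835c939cae71a066686f6e9a0fd5e88d877877e4820352b51142c4e0d9f5853f5446e0d8905496ffa2a29c560cafd5f9373feb64cd1869cbfafce3f3b77d696060884547aed7b5e9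3b693240fbe34af410c923832fd56e7a4bb1cbb15f4b4b68904f03447f015b75bc6162f76eccfa030bbc8d9a3d57a7b187e362b184f2dde4334967c02c7ce83a0278c32c4e80d485f60eb8868d4216ae0f7f4311a2b642804583215ce400343634a90df20540adbc6734091b819537953f97977cd0b3c213f0c462d048f07bf4d5b210be2c7a69be9df1a33ad06f210ad4450e03f19411ac0d52440657225434b0ee6ab0f153d9b229cd09d5abb77b17b252300e9ae359e458fdc0b3dcfb452e6cc0bd649b3bc4433676809d1f5732373c83d00044c54ed12cc1d3a0d34e1244d0c3e9e9de73f195d961b07b7461b1b3f8dc15fde56b60d4b66d538d965a816094b863a59e1a88ef1fdd3899c620aaeeb7241d9e8eb32fcd20f86b21722c10facbfd43b221e65983dbdda875268d7a128241b22c4802fb5018709160a319c75abe354587ba5303e4ef2d514e5d9deeaec487404e433be20c7079176191d76a896c1eacba7cab8d21f9c5684b4458854b8b82ba2efcbbf7bad964d5447b78d8e0df7f7168145c485d33bd3676ddb19423ea4a3e02776ebd70d754b06496e7e4fe03d0c375abf1651b71e38987142ee781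3099278fe98986b5f9a06aa76e96c0c6dcbeefc4189859695ce51fec75163850e840bf300e29769348ec7a0465d912195195c38e0bff8d2f979f61415472271b6e43be64a631107b37f7c7d587499c0aa145b82548b02523de392af86aec180ad52f36ac81c95861a576025f73a3cdcc9259fe92f59f09d69f2a1d9807870beeb428e35142e169ee0adb7fbb5680fcce8ae75527e01f0c30682fa6a58cca0f20fb31934ad96c0ede62af2a232f2758b5564602afaf687d2afd285c4948b2c695dff8a9771aeb5f20c583244f12aa97d4216c38e329b3bde7d61f601f85be8a3178e6260bb1486a9249caffdc9df64e7f633166bf4f47f49d7f222589f26ce23fc73a06d1111054b49c6302fe182013464ad3b06f8e1558ac16d4be83cb807eee5851b25c97f15c3ddbe0486b39f7f166c47d9f2f7184c4d24aeaf9f42328df44130e7a9e456b3b2e27f52c746075cb5e24b776bc4391ebfba25034c450c5274fe849c6da7b54b9ec2297e75d2b91db6f96180e8d1d2411bedddd016c1d6c371b582f1272ad4e0006eea615d3304c2e904f6b0b29c0f81c3a2724cf47aff254da0c7ceaf493a76e0fe3f06938ae301017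bf0fc3d555807e60c08a82efdff211a1c62c1edff514a27daa98fdc15337ecf44d0a498f04281b21a7feb07e9d9fef589985e75bae6a9bf5de2aa2eb7f04084b51905f513feea4657d9c1a47829aab8997fd48827dd4672f4f9ed99a43161a37dfe264205e408bd64f9e94427ad631b5128ce1533ef6378200e6012019f511aeaf451d48cbcf194f182b463cd48778c258e2a5fec6be07340b16485e64267625cb689dc7d0c15dfd2f4385b020000a0fc8bf671a63e0efc97641b060d393deec2d5c4d11db0e8368423eaa5fe0dc96703deacbb41f3aabcc8567321c85831ec19e0cd5c61feecdf753887dc2a65ba0a02f86d932a8690be34079bbfd74394fc4f8ab8114a2ec521bcc17192605bf617f77b73645b13f71b1765ce0b83335293d432506951d501c68576d6f85aed9785ffc04c0928d04df9cf27ed4411b4ce3b34d6ac9a18cd9d4e5e57480252656200cf780a8de625730b2a458f0bf9c2a143ad8e10654571f7e1c4a1a0e0715ef1a59c2afb21ca6805816a4658387d1724e1b597b5e4e58b7ccf721612c5084bb9af4714e36d273b891ac944fbb1f5013ce7f7e46454f6df16c1c31b78da51ac6bb45edf61578419a5c876931611c5614fa12d8cf3d4a0f5c275da6f5e0d6a1c4414df27385132ebf7728818e61e409cf8f092fb7dda78dd05a5d29619b343e1efe26635a956188d3d835edf53a73abbf0c79c41f5cf79a1da785298ca5add58)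
noncomputable def MM : ℕ := (nat_lit 0x35d860981ca568380598b64a2aa4dbb039d14ecb592a33779c37c181d3807e74a420394444e9d404bdcab35c3bee6f2029272512997e6dcbac4c2c5393b8ed0be772607cdf1ba687fe78c1a2df4e645fc95fc6f6738d6e37f3db71ff24ac444220eb4095efbd7f0a945dc86db7b0a5dc1984fbb44460446ab9d6657d3236ec4a60091074a4c1efaf36c127103fd89cc3674bbd165543d82d452eee935c700aa5bd90ac3a7aca780a5d95a4e90493d281eab9751464c397a7b234a5fe891fba300c76a8823db9c423d57ead4fa53df408df17f6e9ec001cf72f58fc3121b1e06172fb7cf655423ce129b30f88a3b9c3ef3551f46d14e15fe78f1673f8f95b3f60886d56a69bab94ff33fff8119fc4aeb8df4ba24f5168fd37076ea0508a6794ac8458d68b5844bd7d77846906b7123091f68a1243e960c3553d815997cedc31bc4704c8623a95f386d3e3b4f262f9982a66b8eb15bd922af31b2465cd50423b7a0af3ff8c4d4c410a717e9770dc44afe2a28d30a38e7a4c31a4ec6fb0d0bd2f687f3083a45a634b201e51e433dc135248bb06a250dfa5d9c4d69b9351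b2ebf62a48117f63e48cface271c6de8379a49d8491133696070c79c96918f1b85a9bd053450b1cc457a46bbb08f7dda50611c64ef3205d1d98995d8e530c540c2e694ce77cbf3d0bb809e9eda72a7b9db66a1b3a4ab54c62380c39e79435a2f6a54de5f6548fa054e7fee136de9b40d265ad719e6755d1eb9e7907b9be4b8ba3baddf3173615d4baf7bf7da31c33d2b983985d855d6e9ed8baebef84e84c78f702eb3d596ee301bbbd2bd0cf951d707e22848fba0a8554d74370083d595e1ed3972a358a08ca88f41213edad1431d0b6271cd971ebd847759884ea93c41db400972fe71f6e42a5ee75ec70bcfd490863cc8f0dc51e33d6b28757381d808c62263fb04abedf4b2a5ba04fbd0dcb1bf38ee343698161b15c7fb7f780ada80a1b3ec81f108cf6841a62a99deec06a6ac2bc41ece22e2a5823a48ee50873cb3e4181787e33114a90e71365e3919f817c8ecb89e9f539e75323cf1c0bd87bc27bab9ea6fe3c897c7b320f342875a7f8d4a7e8350759ddfa2afd7f1b5a8c29c08fe4ec2539351cd59792f95987d455d25907c240090560e774bf5a22ef9ec6297347f46ad70ea423fae0916e7ccc85f5624c7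5d011c0c70b3ff57d03e3d3ecbd65c6d61d685726b65648a446e0392b3ce3ee8dff4917b4e5e35b84221e4ed80ebd489d591da26fcd117d65277c34ccac51bb0f52803dcc80ce335c873468b25033de91d555cba1c035f814a32e75289ff12341dba64d68d9913f87115a3da3a4478c6de363724577aba51a252c57405477a989ecff1792ef7a968642d435a212b1ff0fa882adae9c98e2e736b138d9b1b3a66444fb826afd37ffcf01d6742ac2863cf826bdff829955c39bf77a5eb3d310587e634476489a19a5cafdfde29469704284bf26a51cd1ac983ad3172015a1ff1b2a0d585afdf67e0a9007c8e91693451c1a927d7f1b328d43586f79d9738a1dfea6a7d4f04028ab425e19943ae567ee86d20d3a1a464314475c6f15b9b3aad4941bb56855a85127af13715b7fa29e91765875c65f7af1ebded26c2cc74fc5d01ad2cc5580801776121d6f370dc77ad5803ecda292f1a0151b53d19ee05d2ea4b1abdd68feba1b0b647bb7780868c344257f34ab75d1bf012669507b8c5447fc0c3e68e553f356cec545065671599ce075d55c94934ecc754f95b3a62bfdbff4b70ab05d1a794ec039d0ad0f13de02754fe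2319765cc38e8a30ccbdaa6dff3ab9e2f3ada4d138224a8cbde23260205354d23873bc93f6c780b8d8bd0f07bb0a54e07244513096bd3fd9b6061f8565fdfa0cc1fccb30151fb8d28c1b8420e8133aa6014e20926216f54c33abbaf611be3935d95e5d637599e483ce3b5b4148b11263ca8f47fdb3a2ca8b65e3944b453fca6a81ed4af9404ea4b27700cc3dd820ed3ad4aaece831d4d3516724af336282c3602bf246621e13e5b45fb4988bb32140c3220d76cf14b0a9a672858df9484ad7102cde14de39ab10f9d441b62807a4343a9d783ba1b7de21869c7d5ec95e2c82c9fa72f6acb0312830b5b383fb767a1c8a02eb8b0ddf153c77a9bfd5d3e89fabaafff2cea3359673aa333d296497e4acbdc85b0c9fe0906cac7977958e6dd61bde263169202d1919adfac13b2460464420804b12fa9053bbdae422b1e90db61edb09ecdb3d1da8a0fb7a54a076986fce84600f46ea406d24d8ec0dfef771242fcd239d7fa3135b82a501de2752bc6b05363b4243c403ed402304afcb16cba8d1a7c94045c9368bae685cecd5d8437558bc424bfc2d60311e0d1946056ed81efa1fa6f081409e160e0365be2d6ab577f96f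f565ce6dafa7bbe62ea95274f529d578416bf22e8e11ca850746886c7a46cca6ae02a0eefcf8ca99f7096856c316cdfb40383218716daaf1d754abe2395f6f530418fec326368eca02fedba3ce7e405d8390c4547df18c6cdc019fdba1cdef83187b9d3152226c7e5c120886197a6bc6c1a65c45c72bb52ecf13ff3afe89f80bac9aa3bcecbe645e74769046b98b80df717a24348e42505a91f9baf12020492b8571d4b13303e5b60184421f2e390bd0f4b21ec5070c62d9a4134a95fe084a086f2df8ab38fba6b55301f42ab151f5dd8fe9707c0838000cdf8ce7c6899063ed6053cbde4e6c8c79a190f0b33771cdd9ad6d6616c09a0999a6ed63c4f7c6ce89782ecdcfd86946bf7460e360787cd22d42a96c9a9391f47e447b9f57757057173720ea3f0f598d64e9c6a1b22b42c1b3b982c2ae45ee259e2b9e8b904b52a8860a836b92f031625900c3315a78217948312f4a95a3fafdc768e0eceda170c0274ff5b5379d31a19780a9c64dc8c68cccb2c4c0e3405909428332df62b3d0ab9a84ef39b45bae4e305ab1bf076fe8296e9ee3b0a93fac3322ab705a5088f10fed5be6ff060369ca064f34da0fa9a16113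f62f866ac05dc0d8de1f1868f9fc685ee4e7387aacbee4143e554e238f8c8c0b8f8109dc179536546240523bd8dea5d65f7f989cf835c599d1ddd8ed9c9612f70ac676d687b4f868bbc622eebfe26597f324409a89485b7dcf426d87b35567cb76741f49111a5e56f366d11801b010d895e01a3ac5f1dc6589cf1ff2714e43c362a8b86dbf24d3f174555051d0bee7f0b0e68289103820b395809fe44832eaf708885715b2000ceaeed2c4b12bd598b48f4573242d288e3937eb7482b39ad6e3bbcb3e54cb362ae393a29fda82655590e9620cd686afc04b7ea470b66b76d064ff4935d4d5622b7822f318d4bd3a8154b5e498b114377fb48beb093d2e44c3394a78d385900664cd96c80f9a182544a82801c9bd103fbc05f71cadee513862ddb605b2578cffe5cdf6ffab88abd404166ecec2678b92fb5f941eca0e06bf3f6b2e219518bad970c40650bc39e8f88f460c877b8f7b7d1c25c072408e4b4b77b93de6878fda7415f3dba968b28d4596e15667ad1e39dc3d71ae9911c1c26560c530e5782fdae29eda962eba0f22af428cf385f0853a971480b21dee86570ab19c70fc1ccbd8621692938760469620c7af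a3dec1236fb94c027acdff8f1e4050919c95f778f34e5d5134c804d7a3e707463626b52352158d484a43a66cd5474a69f251d9421c0c652476717c636504477081e34c81830de1d358b87ec598129b4b5fda3f2326eca7e0378d26724de952f06d7806b250b913637eafed46405f27bffa2ae42a6b001e80afb8eb99ebeff0831fe13cb2f3448349891d35d9bb91e9485e27de837d179522e4f7546f6ebeeb984ea53c52fee341a08dda0e745c7a8197bf424147200e7e835fe70b74e6b5ecaf0626643889ba00654cd227f10d94a369a5ea0d4c43b12c65fe8a0e355e337eba7ed4c33dc2d623d6e6434bd011294a18b0b8bbf178b665aafb42c7dfb72ec9d799f8c81144546b64318ebf1b5aadcd3d0b084d7b39add960db6b8c1a04eb64ecbd1c8c7b4b0490b8fce441f0888790fb7cb9a1f56afe462f233eaf6ffb513d2446095c3c10b501f7b879917dc97607dc9a046f0ae4f236133437096d063c1389311d5c6e606b0abc693f195b43a6ad48da91d83d9abd05d37f056c79f40806e62321d30f4b57e929e0edabb5569f4da33c0b82dae190dec8dbdc40d6b8f90708ca6f21c73fb81d43d9466b8041e2670e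340e5c5364c7c8eb7a6bf552e4b96594047287aa4baf6da870ab7f04393c083dc1695739ea7c0028a36188d0375e1a5c3080baa8bcab8de36cf0d20e17178b640bd8d91a0f529b30a8f9dac8af888dfb851e059bc0db999e13fc80003da56970f4428067497158f12a4c96bcfb05d7238fac96d987ede2c43d6786405cc994931d99ce03938521eda78cfebefcf1039673f918d91fb0d12e190ab5926df1e73355e3616a95e1d61f3a6dae963fc09218f530984c3a3781485c565fe900649596a5667ab11604a0d416ec408fc0833280fb63d3fb3a259eab8d702195a29e92ed093c8c6aa4a780f9540efd5eb1013ef71f217b5e99536bca4d536a2951906b9f15a7056ff9bc63f1065bd1e9b69efe7ed66c0d169e89208106ebde6c3ed521be678f031ce7fa1463c2a99a603813fe9ba2c35cfd61fb09a32df6924d77b24e754dafa220ca13716bf333ee7ce1d4b3713ae41a6725ddcbfa9d60814ce3e5e4ae4799328cb6e23287a5e479eb8d4a5fdaf54e13d2bb30aea0a079fb4758c1a8085861557a1cabb13279aaa1bda1e241e90c33022399c8c359157b558cca8a2181b3af472164330743c89c3caa1898cefc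33b2a8a955400eec98ccffb49901ef7ed43a7d09d216116794b929faf1b75462ee772d4e281fd12c648095a298829cc955cddb7555b29fb039651d4005ab059bdfd663f257d12fc25edcf7b8da696221d90380dd60e1f7cfc1f7b1183fd623a83f2d43cc5c9c2298a5224dff410b71bd5e40a91f9adabeace9e4e4038f3cdfc3611c42df0e31d6ff37a7396a8d8056ec0a609fb154539bf7ce1e41f83036cfbf38ed71a148001f1ad79c6307258a93a1b6745e13276760a7c94352c7543256d758047001ed9a42272cfdd1956ebe3b4c4c45945c5111939505e49c25523a39b745a2de80681bc28b3b6e9d78905bfb0f71a224e2ab63a774767c5cd5d92f33d538cf80a74c0f1bf6313b3ec7f7801906f29ac6e7d2dfccb0b6530b3ff5663e7ea3c071e0b7b7a6129bad65dd23b76bd6d05f521e3b0328b596aba1bb8db48dee5126d65c378bfc52057884940b5d22a7fa7015083189158af0299f453cfaf09632c18f4c5129305332ab6bd66c057e9fe98959b6541b4417bf2224b828735c16aec7b62d621c10847bd71db72fdb960ae1d5a6c883af53660bd76f029d008338a39637a63e799d848414b74630481832206a85d40b7dbf9258d0b0940dee8d5a3c464d1e11d4d1f74eb43e555402d17bb70e02ce04171bd12e2cfbe9ee52d93cd05ddff5f7d57d690c8a755dd3d54540be0bb9d03d6a15b2e030bf4d216b1f038d8a45db1a6c12b6cf754a7b95b)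
noncomputable def F_a (q : ℕ) : ℕ := Nat.add (nat_lit 32768) (Nat.mod T_a q)
noncomputable def G_a (t q : ℕ) : ℕ := Bool.rec (motive := fun _ => ℕ) (nat_lit 0) (F_a q) (Nat.ble (Nat.succ (Nat.mod U_a q)) t)
noncomputable def F_b (q : ℕ) : ℕ := Nat.add (nat_lit 32768) (Nat.mod T_b q)
noncomputable def G_b (t q : ℕ) : ℕ := Bool.rec (motive := fun _ => ℕ) (nat_lit 0) (F_b q) (Nat.ble (Nat.succ (Nat.mod U_b q)) t)
noncomputable def F_c (q : ℕ) : ℕ := Nat.add (nat_lit 32768) (Nat.mod T_c q)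
noncomputable def G_c (t q : ℕ) : ℕ := Bool.rec (motive := fun _ => ℕ) (nat_lit 0) (F_c q) (Nat.ble (Nat.succ (Nat.mod U_c q)) t)
noncomputable def F_d (q : ℕ) : ℕ := Nat.add (nat_lit 32768) (Nat.mod T_d q)
noncomputable def G_d (t q : ℕ) : ℕ := Bool.rec (motive := fun _ => ℕ) (nat_lit 0) (F_d q) (Nat.ble (Nat.succ (Nat.mod U_d q)) t)
noncomputable def F_e (q : ℕ) : ℕ := Nat.add (nat_lit 32768) (Nat.mod T_e q)
noncomputable def G_e (t q : ℕ) : ℕ := Bool.rec (motive := fun _ => ℕ) (nat_lit 0) (F_e q) (Nat.ble (Nat.succ (Nat.mod U_e q)) t)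
noncomputable def F_f (q : ℕ) : ℕ := Nat.add (nat_lit 32768) (Nat.mod T_f q)
noncomputable def G_f (t q : ℕ) : ℕ := Bool.rec (motive := fun _ => ℕ) (nat_lit 0) (F_f q) (Nat.ble (Nat.succ (Nat.mod U_f q)) t)
noncomputable def F_g (q : ℕ) : ℕ := Nat.add (nat_lit 32768) (Nat.mod T_g q)
noncomputable def G_g (t q : ℕ) : ℕ := Bool.rec (motive := fun _ => ℕ) (nat_lit 0) (F_g q) (Nat.ble (Nat.succ (Nat.mod U_g q)) t)
theorem Fge_a (q : ℕ) : 32768 ≤ F_a q := Nat.le_add_right _ _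
theorem Fge_b (q : ℕ) : 32768 ≤ F_b q := Nat.le_add_right _ _
theorem Fge_c (q : ℕ) : 32768 ≤ F_c q := Nat.le_add_right _ _
theorem Fge_d (q : ℕ) : 32768 ≤ F_d q := Nat.le_add_right _ _
theorem Fge_e (q : ℕ) : 32768 ≤ F_e q := Nat.le_add_right _ _
theorem Fge_f (q : ℕ) : 32768 ≤ F_f q := Nat.le_add_right _ _
theorem Fge_g (q : ℕ) : 32768 ≤ F_g q := Nat.le_add_right _ _
attribute [irreducible] F_a F_b F_c F_d F_e F_f F_g
noncomputable def stp : Col → ℕ → ℕ := fun c => Col.rec (motive := fun _ => ℕ → ℕ) F_a F_b F_c F_d F_e F_f F_g c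
noncomputable def tau : Col → ℕ → ℕ := fun c => Col.rec (motive := fun _ => ℕ → ℕ) (fun q => (Nat.mod U_a q)) (fun q => (Nat.mod U_b q)) (fun q => (Nat.mod U_c q)) (fun q => (Nat.mod U_d q)) (fun q => (Nat.mod U_e q)) (fun q => (Nat.mod U_f q)) (fun q => (Nat.mod U_g q)) c
noncomputable def PT (q : ℕ) : ℕ := Nat.add (nat_lit 32768) (Nat.mod PP q)
noncomputable def DT (q : ℕ) : ℕ := (Nat.mod DD q)
noncomputable def MB (q : ℕ) : ℕ := MM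
noncomputable def L : Tr ℕ := (Tr.nd (nat_lit 43597) (Tr.nd (nat_lit 38153) (Tr.nd (nat_lit 35401) (Tr.nd (nat_lit 34033) (Tr.nd (nat_lit 33403) (Tr.nd (nat_lit 33071) (Tr.nd (nat_lit 32933) (Tr.nd (nat_lit 32833) (Tr.nd (nat_lit 32797) (Tr.nd (nat_lit 32783) (Tr.nd (nat_lit 32779) (Tr.lf (nat_lit 32771)) (Tr.lf (nat_lit 32779))) (Tr.nd (nat_lit 32789) (Tr.lf (nat_lit 32783)) (Tr.lf (nat_lit 32789)))) (Tr.nd (nat_lit 32803) (Tr.nd (nat_lit 32801) (Tr.lf (nat_lit 32797)) (Tr.lf (nat_lit 32801))) (Tr.nd (nat_lit 32831) (Tr.lf (nat_lit 32803)) (Tr.lf (nat_lit 32831))))) (Tr.nd (nat_lit 32887) (Tr.nd (nat_lit 32843) (Tr.nd (nat_lit 32839) (Tr.lf (nat_lit 32833)) (Tr.lf (nat_lit 32839))) (Tr.nd (nat_lit 32869) (Tr.lf (nat_lit 32843)) (Tr.lf (nat_lit 32869)))) (Tr.nd (nat_lit 32911) (Tr.nd (nat_lit 32909) (Tr.lf (nat_lit 32887)) (Tr.lf (nat_lit 32909))) (Tr.nd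 (nat_lit 32917) (Tr.lf (nat_lit 32911)) (Tr.lf (nat_lit 32917)))))) (Tr.nd (nat_lit 32993) (Tr.nd (nat_lit 32969) (Tr.nd (nat_lit 32941) (Tr.nd (nat_lit 32939) (Tr.lf (nat_lit 32933)) (Tr.lf (nat_lit 32939))) (Tr.nd (nat_lit 32957) (Tr.lf (nat_lit 32941)) (Tr.lf (nat_lit 32957)))) (Tr.nd (nat_lit 32983) (Tr.nd (nat_lit 32971) (Tr.lf (nat_lit 32969)) (Tr.lf (nat_lit 32971))) (Tr.nd (nat_lit 32987) (Tr.lf (nat_lit 32983)) (Tr.lf (nat_lit 32987))))) (Tr.nd (nat_lit 33029) (Tr.nd (nat_lit 33013) (Tr.nd (nat_lit 32999) (Tr.lf (nat_lit 32993)) (Tr.lf (nat_lit 32999))) (Tr.nd (nat_lit 33023) (Tr.lf (nat_lit 33013)) (Tr.lf (nat_lit 33023)))) (Tr.nd (nat_lit 33049) (Tr.nd (nat_lit 33037) (Tr.lf (nat_lit 33029)) (Tr.lf (nat_lit 33037))) (Tr.nd (nat_lit 33053) (Tr.lf (nat_lit 33049)) (Tr.lf (nat_lit 33053))))))) (Tr.nd (nat_lit 33223) (Tr.nd (nat_lit 33151) (Tr.nd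 (nat_lit 33107) (Tr.nd (nat_lit 33083) (Tr.nd (nat_lit 33073) (Tr.lf (nat_lit 33071)) (Tr.lf (nat_lit 33073))) (Tr.nd (nat_lit 33091) (Tr.lf (nat_lit 33083)) (Tr.lf (nat_lit 33091)))) (Tr.nd (nat_lit 33119) (Tr.nd (nat_lit 33113) (Tr.lf (nat_lit 33107)) (Tr.lf (nat_lit 33113))) (Tr.nd (nat_lit 33149) (Tr.lf (nat_lit 33119)) (Tr.lf (nat_lit 33149))))) (Tr.nd (nat_lit 33191) (Tr.nd (nat_lit 33179) (Tr.nd (nat_lit 33161) (Tr.lf (nat_lit 33151)) (Tr.lf (nat_lit 33161))) (Tr.nd (nat_lit 33181) (Tr.lf (nat_lit 33179)) (Tr.lf (nat_lit 33181)))) (Tr.nd (nat_lit 33203) (Tr.nd (nat_lit 33199) (Tr.lf (nat_lit 33191)) (Tr.lf (nat_lit 33199))) (Tr.nd (nat_lit 33211) (Tr.lf (nat_lit 33203)) (Tr.lf (nat_lit 33211)))))) (Tr.nd (nat_lit 33331) (Tr.nd (nat_lit 33301) (Tr.nd (nat_lit 33287) (Tr.nd (nat_lit 33247) (Tr.lf (nat_lit 33223)) (Tr.lf (nat_lit 33247))) (Tr.nd (nat_lit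 33289) (Tr.lf (nat_lit 33287)) (Tr.lf (nat_lit 33289)))) (Tr.nd (nat_lit 33317) (Tr.nd (nat_lit 33311) (Tr.lf (nat_lit 33301)) (Tr.lf (nat_lit 33311))) (Tr.nd (nat_lit 33329) (Tr.lf (nat_lit 33317)) (Tr.lf (nat_lit 33329))))) (Tr.nd (nat_lit 33353) (Tr.nd (nat_lit 33347) (Tr.nd (nat_lit 33343) (Tr.lf (nat_lit 33331)) (Tr.lf (nat_lit 33343))) (Tr.nd (nat_lit 33349) (Tr.lf (nat_lit 33347)) (Tr.lf (nat_lit 33349)))) (Tr.nd (nat_lit 33377) (Tr.nd (nat_lit 33359) (Tr.lf (nat_lit 33353)) (Tr.lf (nat_lit 33359))) (Tr.nd (nat_lit 33391) (Tr.lf (nat_lit 33377)) (Tr.lf (nat_lit 33391)))))))) (Tr.nd (nat_lit 33703) (Tr.nd (nat_lit 33569) (Tr.nd (nat_lit 33487) (Tr.nd (nat_lit 33457) (Tr.nd (nat_lit 33413) (Tr.nd (nat_lit 33409) (Tr.lf (nat_lit 33403)) (Tr.lf (nat_lit 33409))) (Tr.nd (nat_lit 33427) (Tr.lf (nat_lit 33413)) (Tr.lf (nat_lit 33427)))) (Tr.nd (nat_lit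 33469) (Tr.nd (nat_lit 33461) (Tr.lf (nat_lit 33457)) (Tr.lf (nat_lit 33461))) (Tr.nd (nat_lit 33479) (Tr.lf (nat_lit 33469)) (Tr.lf (nat_lit 33479))))) (Tr.nd (nat_lit 33529) (Tr.nd (nat_lit 33503) (Tr.nd (nat_lit 33493) (Tr.lf (nat_lit 33487)) (Tr.lf (nat_lit 33493))) (Tr.nd (nat_lit 33521) (Tr.lf (nat_lit 33503)) (Tr.lf (nat_lit 33521)))) (Tr.nd (nat_lit 33547) (Tr.nd (nat_lit 33533) (Tr.lf (nat_lit 33529)) (Tr.lf (nat_lit 33533))) (Tr.nd (nat_lit 33563) (Tr.lf (nat_lit 33547)) (Tr.lf (nat_lit 33563)))))) (Tr.nd (nat_lit 33617) (Tr.nd (nat_lit 33589) (Tr.nd (nat_lit 33581) (Tr.nd (nat_lit 33577) (Tr.lf (nat_lit 33569)) (Tr.lf (nat_lit 33577))) (Tr.nd (nat_lit 33587) (Tr.lf (nat_lit 33581)) (Tr.lf (nat_lit 33587)))) (Tr.nd (nat_lit 33601) (Tr.nd (nat_lit 33599) (Tr.lf (nat_lit 33589)) (Tr.lf (nat_lit 33599))) (Tr.nd (nat_lit 33613) (Tr.lf (nat_lit 33601))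 (Tr.lf (nat_lit 33613))))) (Tr.nd (nat_lit 33637) (Tr.nd (nat_lit 33623) (Tr.nd (nat_lit 33619) (Tr.lf (nat_lit 33617)) (Tr.lf (nat_lit 33619))) (Tr.nd (nat_lit 33629) (Tr.lf (nat_lit 33623)) (Tr.lf (nat_lit 33629)))) (Tr.nd (nat_lit 33647) (Tr.nd (nat_lit 33641) (Tr.lf (nat_lit 33637)) (Tr.lf (nat_lit 33641))) (Tr.nd (nat_lit 33679) (Tr.lf (nat_lit 33647)) (Tr.lf (nat_lit 33679))))))) (Tr.nd (nat_lit 33851) (Tr.nd (nat_lit 33769) (Tr.nd (nat_lit 33749) (Tr.nd (nat_lit 33721) (Tr.nd (nat_lit 33713) (Tr.lf (nat_lit 33703)) (Tr.lf (nat_lit 33713))) (Tr.nd (nat_lit 33739) (Tr.lf (nat_lit 33721)) (Tr.lf (nat_lit 33739)))) (Tr.nd (nat_lit 33757) (Tr.nd (nat_lit 33751) (Tr.lf (nat_lit 33749)) (Tr.lf (nat_lit 33751))) (Tr.nd (nat_lit 33767) (Tr.lf (nat_lit 33757)) (Tr.lf (nat_lit 33767))))) (Tr.nd (nat_lit 33809) (Tr.nd (nat_lit 33791) (Tr.nd (nat_lit 33773)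 (Tr.lf (nat_lit 33769)) (Tr.lf (nat_lit 33773))) (Tr.nd (nat_lit 33797) (Tr.lf (nat_lit 33791)) (Tr.lf (nat_lit 33797)))) (Tr.nd (nat_lit 33827) (Tr.nd (nat_lit 33811) (Tr.lf (nat_lit 33809)) (Tr.lf (nat_lit 33811))) (Tr.nd (nat_lit 33829) (Tr.lf (nat_lit 33827)) (Tr.lf (nat_lit 33829)))))) (Tr.nd (nat_lit 33931) (Tr.nd (nat_lit 33889) (Tr.nd (nat_lit 33863) (Tr.nd (nat_lit 33857) (Tr.lf (nat_lit 33851)) (Tr.lf (nat_lit 33857))) (Tr.nd (nat_lit 33871) (Tr.lf (nat_lit 33863)) (Tr.lf (nat_lit 33871)))) (Tr.nd (nat_lit 33911) (Tr.nd (nat_lit 33893) (Tr.lf (nat_lit 33889)) (Tr.lf (nat_lit 33893))) (Tr.nd (nat_lit 33923) (Tr.lf (nat_lit 33911)) (Tr.lf (nat_lit 33923))))) (Tr.nd (nat_lit 33967) (Tr.nd (nat_lit 33941) (Tr.nd (nat_lit 33937) (Tr.lf (nat_lit 33931)) (Tr.lf (nat_lit 33937))) (Tr.nd (nat_lit 33961) (Tr.lf (nat_lit 33941)) (Tr.lf (nat_lit 33961))))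 (Tr.nd (nat_lit 34019) (Tr.nd (nat_lit 33997) (Tr.lf (nat_lit 33967)) (Tr.lf (nat_lit 33997))) (Tr.nd (nat_lit 34031) (Tr.lf (nat_lit 34019)) (Tr.lf (nat_lit 34031))))))))) (Tr.nd (nat_lit 34687) (Tr.nd (nat_lit 34367) (Tr.nd (nat_lit 34231) (Tr.nd (nat_lit 34147) (Tr.nd (nat_lit 34123) (Tr.nd (nat_lit 34057) (Tr.nd (nat_lit 34039) (Tr.lf (nat_lit 34033)) (Tr.lf (nat_lit 34039))) (Tr.nd (nat_lit 34061) (Tr.lf (nat_lit 34057)) (Tr.lf (nat_lit 34061)))) (Tr.nd (nat_lit 34129) (Tr.nd (nat_lit 34127) (Tr.lf (nat_lit 34123)) (Tr.lf (nat_lit 34127))) (Tr.nd (nat_lit 34141) (Tr.lf (nat_lit 34129)) (Tr.lf (nat_lit 34141))))) (Tr.nd (nat_lit 34183) (Tr.nd (nat_lit 34159) (Tr.nd (nat_lit 34157) (Tr.lf (nat_lit 34147)) (Tr.lf (nat_lit 34157))) (Tr.nd (nat_lit 34171) (Tr.lf (nat_lit 34159)) (Tr.lf (nat_lit 34171)))) (Tr.nd (nat_lit 34213) (Tr.nd (nat_lit 34211) (Tr.lf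 (nat_lit 34183)) (Tr.lf (nat_lit 34211))) (Tr.nd (nat_lit 34217) (Tr.lf (nat_lit 34213)) (Tr.lf (nat_lit 34217)))))) (Tr.nd (nat_lit 34301) (Tr.nd (nat_lit 34267) (Tr.nd (nat_lit 34259) (Tr.nd (nat_lit 34253) (Tr.lf (nat_lit 34231)) (Tr.lf (nat_lit 34253))) (Tr.nd (nat_lit 34261) (Tr.lf (nat_lit 34259)) (Tr.lf (nat_lit 34261)))) (Tr.nd (nat_lit 34283) (Tr.nd (nat_lit 34273) (Tr.lf (nat_lit 34267)) (Tr.lf (nat_lit 34273))) (Tr.nd (nat_lit 34297) (Tr.lf (nat_lit 34283)) (Tr.lf (nat_lit 34297))))) (Tr.nd (nat_lit 34327) (Tr.nd (nat_lit 34313) (Tr.nd (nat_lit 34303) (Tr.lf (nat_lit 34301)) (Tr.lf (nat_lit 34303))) (Tr.nd (nat_lit 34319) (Tr.lf (nat_lit 34313)) (Tr.lf (nat_lit 34319)))) (Tr.nd (nat_lit 34351) (Tr.nd (nat_lit 34337) (Tr.lf (nat_lit 34327)) (Tr.lf (nat_lit 34337))) (Tr.nd (nat_lit 34361) (Tr.lf (nat_lit 34351)) (Tr.lf (nat_lit 34361))))))) (Tr.nd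 (nat_lit 34519) (Tr.nd (nat_lit 34469) (Tr.nd (nat_lit 34421) (Tr.nd (nat_lit 34381) (Tr.nd (nat_lit 34369) (Tr.lf (nat_lit 34367)) (Tr.lf (nat_lit 34369))) (Tr.nd (nat_lit 34403) (Tr.lf (nat_lit 34381)) (Tr.lf (nat_lit 34403)))) (Tr.nd (nat_lit 34439) (Tr.nd (nat_lit 34429) (Tr.lf (nat_lit 34421)) (Tr.lf (nat_lit 34429))) (Tr.nd (nat_lit 34457) (Tr.lf (nat_lit 34439)) (Tr.lf (nat_lit 34457))))) (Tr.nd (nat_lit 34499) (Tr.nd (nat_lit 34483) (Tr.nd (nat_lit 34471) (Tr.lf (nat_lit 34469)) (Tr.lf (nat_lit 34471))) (Tr.nd (nat_lit 34487) (Tr.lf (nat_lit 34483)) (Tr.lf (nat_lit 34487)))) (Tr.nd (nat_lit 34511) (Tr.nd (nat_lit 34501) (Tr.lf (nat_lit 34499)) (Tr.lf (nat_lit 34501))) (Tr.nd (nat_lit 34513) (Tr.lf (nat_lit 34511)) (Tr.lf (nat_lit 34513)))))) (Tr.nd (nat_lit 34607) (Tr.nd (nat_lit 34583) (Tr.nd (nat_lit 34543) (Tr.nd (nat_lit 34537) (Tr.lf (nat_lit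 34519)) (Tr.lf (nat_lit 34537))) (Tr.nd (nat_lit 34549) (Tr.lf (nat_lit 34543)) (Tr.lf (nat_lit 34549)))) (Tr.nd (nat_lit 34591) (Tr.nd (nat_lit 34589) (Tr.lf (nat_lit 34583)) (Tr.lf (nat_lit 34589))) (Tr.nd (nat_lit 34603) (Tr.lf (nat_lit 34591)) (Tr.lf (nat_lit 34603))))) (Tr.nd (nat_lit 34651) (Tr.nd (nat_lit 34631) (Tr.nd (nat_lit 34613) (Tr.lf (nat_lit 34607)) (Tr.lf (nat_lit 34613))) (Tr.nd (nat_lit 34649) (Tr.lf (nat_lit 34631)) (Tr.lf (nat_lit 34649)))) (Tr.nd (nat_lit 34673) (Tr.nd (nat_lit 34667) (Tr.lf (nat_lit 34651)) (Tr.lf (nat_lit 34667))) (Tr.nd (nat_lit 34679) (Tr.lf (nat_lit 34673)) (Tr.lf (nat_lit 34679)))))))) (Tr.nd (nat_lit 35059) (Tr.nd (nat_lit 34849) (Tr.nd (nat_lit 34759) (Tr.nd (nat_lit 34729) (Tr.nd (nat_lit 34703) (Tr.nd (nat_lit 34693) (Tr.lf (nat_lit 34687)) (Tr.lf (nat_lit 34693))) (Tr.nd (nat_lit 34721) (Tr.lf (nat_lit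 34703)) (Tr.lf (nat_lit 34721)))) (Tr.nd (nat_lit 34747) (Tr.nd (nat_lit 34739) (Tr.lf (nat_lit 34729)) (Tr.lf (nat_lit 34739))) (Tr.nd (nat_lit 34757) (Tr.lf (nat_lit 34747)) (Tr.lf (nat_lit 34757))))) (Tr.nd (nat_lit 34819) (Tr.nd (nat_lit 34781) (Tr.nd (nat_lit 34763) (Tr.lf (nat_lit 34759)) (Tr.lf (nat_lit 34763))) (Tr.nd (nat_lit 34807) (Tr.lf (nat_lit 34781)) (Tr.lf (nat_lit 34807)))) (Tr.nd (nat_lit 34843) (Tr.nd (nat_lit 34841) (Tr.lf (nat_lit 34819)) (Tr.lf (nat_lit 34841))) (Tr.nd (nat_lit 34847) (Tr.lf (nat_lit 34843)) (Tr.lf (nat_lit 34847)))))) (Tr.nd (nat_lit 34949) (Tr.nd (nat_lit 34897) (Tr.nd (nat_lit 34877) (Tr.nd (nat_lit 34871) (Tr.lf (nat_lit 34849)) (Tr.lf (nat_lit 34871))) (Tr.nd (nat_lit 34883) (Tr.lf (nat_lit 34877)) (Tr.lf (nat_lit 34883)))) (Tr.nd (nat_lit 34919) (Tr.nd (nat_lit 34913) (Tr.lf (nat_lit 34897)) (Tr.lf (nat_lit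 34913))) (Tr.nd (nat_lit 34939) (Tr.lf (nat_lit 34919)) (Tr.lf (nat_lit 34939))))) (Tr.nd (nat_lit 35023) (Tr.nd (nat_lit 34963) (Tr.nd (nat_lit 34961) (Tr.lf (nat_lit 34949)) (Tr.lf (nat_lit 34961))) (Tr.nd (nat_lit 34981) (Tr.lf (nat_lit 34963)) (Tr.lf (nat_lit 34981)))) (Tr.nd (nat_lit 35051) (Tr.nd (nat_lit 35027) (Tr.lf (nat_lit 35023)) (Tr.lf (nat_lit 35027))) (Tr.nd (nat_lit 35053) (Tr.lf (nat_lit 35051)) (Tr.lf (nat_lit 35053))))))) (Tr.nd (nat_lit 35221) (Tr.nd (nat_lit 35117) (Tr.nd (nat_lit 35089) (Tr.nd (nat_lit 35081) (Tr.nd (nat_lit 35069) (Tr.lf (nat_lit 35059)) (Tr.lf (nat_lit 35069))) (Tr.nd (nat_lit 35083) (Tr.lf (nat_lit 35081)) (Tr.lf (nat_lit 35083)))) (Tr.nd (nat_lit 35107) (Tr.nd (nat_lit 35099) (Tr.lf (nat_lit 35089)) (Tr.lf (nat_lit 35099))) (Tr.nd (nat_lit 35111) (Tr.lf (nat_lit 35107)) (Tr.lf (nat_lit 35111))))) (Tr.nd (nat_lit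 35153) (Tr.nd (nat_lit 35141) (Tr.nd (nat_lit 35129) (Tr.lf (nat_lit 35117)) (Tr.lf (nat_lit 35129))) (Tr.nd (nat_lit 35149) (Tr.lf (nat_lit 35141)) (Tr.lf (nat_lit 35149)))) (Tr.nd (nat_lit 35171) (Tr.nd (nat_lit 35159) (Tr.lf (nat_lit 35153)) (Tr.lf (nat_lit 35159))) (Tr.nd (nat_lit 35201) (Tr.lf (nat_lit 35171)) (Tr.lf (nat_lit 35201)))))) (Tr.nd (nat_lit 35311) (Tr.nd (nat_lit 35267) (Tr.nd (nat_lit 35251) (Tr.nd (nat_lit 35227) (Tr.lf (nat_lit 35221)) (Tr.lf (nat_lit 35227))) (Tr.nd (nat_lit 35257) (Tr.lf (nat_lit 35251)) (Tr.lf (nat_lit 35257)))) (Tr.nd (nat_lit 35281) (Tr.nd (nat_lit 35279) (Tr.lf (nat_lit 35267)) (Tr.lf (nat_lit 35279))) (Tr.nd (nat_lit 35291) (Tr.lf (nat_lit 35281)) (Tr.lf (nat_lit 35291))))) (Tr.nd (nat_lit 35339) (Tr.nd (nat_lit 35323) (Tr.nd (nat_lit 35317) (Tr.lf (nat_lit 35311)) (Tr.lf (nat_lit 35317))) (Tr.nd (nat_lit 35327)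 (Tr.lf (nat_lit 35323)) (Tr.lf (nat_lit 35327)))) (Tr.nd (nat_lit 35363) (Tr.nd (nat_lit 35353) (Tr.lf (nat_lit 35339)) (Tr.lf (nat_lit 35353))) (Tr.nd (nat_lit 35381) (Tr.lf (nat_lit 35363)) (Tr.nd (nat_lit 35393) (Tr.lf (nat_lit 35381)) (Tr.lf (nat_lit 35393))))))))))) (Tr.nd (nat_lit 36767) (Tr.nd (nat_lit 36097) (Tr.nd (nat_lit 35797) (Tr.nd (nat_lit 35543) (Tr.nd (nat_lit 35491) (Tr.nd (nat_lit 35437) (Tr.nd (nat_lit 35419) (Tr.nd (nat_lit 35407) (Tr.lf (nat_lit 35401)) (Tr.lf (nat_lit 35407))) (Tr.nd (nat_lit 35423) (Tr.lf (nat_lit 35419)) (Tr.lf (nat_lit 35423)))) (Tr.nd (nat_lit 35449) (Tr.nd (nat_lit 35447) (Tr.lf (nat_lit 35437)) (Tr.lf (nat_lit 35447))) (Tr.nd (nat_lit 35461) (Tr.lf (nat_lit 35449)) (Tr.lf (nat_lit 35461))))) (Tr.nd (nat_lit 35527) (Tr.nd (nat_lit 35509) (Tr.nd (nat_lit 35507) (Tr.lf (nat_lit 35491)) (Tr.lf (nat_lit 35507)))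 (Tr.nd (nat_lit 35521) (Tr.lf (nat_lit 35509)) (Tr.lf (nat_lit 35521)))) (Tr.nd (nat_lit 35533) (Tr.nd (nat_lit 35531) (Tr.lf (nat_lit 35527)) (Tr.lf (nat_lit 35531))) (Tr.nd (nat_lit 35537) (Tr.lf (nat_lit 35533)) (Tr.lf (nat_lit 35537)))))) (Tr.nd (nat_lit 35671) (Tr.nd (nat_lit 35593) (Tr.nd (nat_lit 35573) (Tr.nd (nat_lit 35569) (Tr.lf (nat_lit 35543)) (Tr.lf (nat_lit 35569))) (Tr.nd (nat_lit 35591) (Tr.lf (nat_lit 35573)) (Tr.lf (nat_lit 35591)))) (Tr.nd (nat_lit 35603) (Tr.nd (nat_lit 35597) (Tr.lf (nat_lit 35593)) (Tr.lf (nat_lit 35597))) (Tr.nd (nat_lit 35617) (Tr.lf (nat_lit 35603)) (Tr.lf (nat_lit 35617))))) (Tr.nd (nat_lit 35747) (Tr.nd (nat_lit 35729) (Tr.nd (nat_lit 35677) (Tr.lf (nat_lit 35671)) (Tr.lf (nat_lit 35677))) (Tr.nd (nat_lit 35731) (Tr.lf (nat_lit 35729)) (Tr.lf (nat_lit 35731)))) (Tr.nd (nat_lit 35759) (Tr.nd (nat_lit 35753) (Tr.lf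 (nat_lit 35747)) (Tr.lf (nat_lit 35753))) (Tr.nd (nat_lit 35771) (Tr.lf (nat_lit 35759)) (Tr.lf (nat_lit 35771))))))) (Tr.nd (nat_lit 35951) (Tr.nd (nat_lit 35863) (Tr.nd (nat_lit 35831) (Tr.nd (nat_lit 35803) (Tr.nd (nat_lit 35801) (Tr.lf (nat_lit 35797)) (Tr.lf (nat_lit 35801))) (Tr.nd (nat_lit 35809) (Tr.lf (nat_lit 35803)) (Tr.lf (nat_lit 35809)))) (Tr.nd (nat_lit 35839) (Tr.nd (nat_lit 35837) (Tr.lf (nat_lit 35831)) (Tr.lf (nat_lit 35837))) (Tr.nd (nat_lit 35851) (Tr.lf (nat_lit 35839)) (Tr.lf (nat_lit 35851))))) (Tr.nd (nat_lit 35899) (Tr.nd (nat_lit 35879) (Tr.nd (nat_lit 35869) (Tr.lf (nat_lit 35863)) (Tr.lf (nat_lit 35869))) (Tr.nd (nat_lit 35897) (Tr.lf (nat_lit 35879)) (Tr.lf (nat_lit 35897)))) (Tr.nd (nat_lit 35923) (Tr.nd (nat_lit 35911) (Tr.lf (nat_lit 35899)) (Tr.lf (nat_lit 35911))) (Tr.nd (nat_lit 35933) (Tr.lf (nat_lit 35923)) (Tr.lf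 (nat_lit 35933)))))) (Tr.nd (nat_lit 36011) (Tr.nd (nat_lit 35983) (Tr.nd (nat_lit 35969) (Tr.nd (nat_lit 35963) (Tr.lf (nat_lit 35951)) (Tr.lf (nat_lit 35963))) (Tr.nd (nat_lit 35977) (Tr.lf (nat_lit 35969)) (Tr.lf (nat_lit 35977)))) (Tr.nd (nat_lit 35999) (Tr.nd (nat_lit 35993) (Tr.lf (nat_lit 35983)) (Tr.lf (nat_lit 35993))) (Tr.nd (nat_lit 36007) (Tr.lf (nat_lit 35999)) (Tr.lf (nat_lit 36007))))) (Tr.nd (nat_lit 36061) (Tr.nd (nat_lit 36017) (Tr.nd (nat_lit 36013) (Tr.lf (nat_lit 36011)) (Tr.lf (nat_lit 36013))) (Tr.nd (nat_lit 36037) (Tr.lf (nat_lit 36017)) (Tr.lf (nat_lit 36037)))) (Tr.nd (nat_lit 36073) (Tr.nd (nat_lit 36067) (Tr.lf (nat_lit 36061)) (Tr.lf (nat_lit 36067))) (Tr.nd (nat_lit 36083) (Tr.lf (nat_lit 36073)) (Tr.lf (nat_lit 36083)))))))) (Tr.nd (nat_lit 36469) (Tr.nd (nat_lit 36277) (Tr.nd (nat_lit 36191) (Tr.nd (nat_lit 36137) (Tr.nd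 (nat_lit 36109) (Tr.nd (nat_lit 36107) (Tr.lf (nat_lit 36097)) (Tr.lf (nat_lit 36107))) (Tr.nd (nat_lit 36131) (Tr.lf (nat_lit 36109)) (Tr.lf (nat_lit 36131)))) (Tr.nd (nat_lit 36161) (Tr.nd (nat_lit 36151) (Tr.lf (nat_lit 36137)) (Tr.lf (nat_lit 36151))) (Tr.nd (nat_lit 36187) (Tr.lf (nat_lit 36161)) (Tr.lf (nat_lit 36187))))) (Tr.nd (nat_lit 36241) (Tr.nd (nat_lit 36217) (Tr.nd (nat_lit 36209) (Tr.lf (nat_lit 36191)) (Tr.lf (nat_lit 36209))) (Tr.nd (nat_lit 36229) (Tr.lf (nat_lit 36217)) (Tr.lf (nat_lit 36229)))) (Tr.nd (nat_lit 36263) (Tr.nd (nat_lit 36251) (Tr.lf (nat_lit 36241)) (Tr.lf (nat_lit 36251))) (Tr.nd (nat_lit 36269) (Tr.lf (nat_lit 36263)) (Tr.lf (nat_lit 36269)))))) (Tr.nd (nat_lit 36353) (Tr.nd (nat_lit 36313) (Tr.nd (nat_lit 36299) (Tr.nd (nat_lit 36293) (Tr.lf (nat_lit 36277)) (Tr.lf (nat_lit 36293))) (Tr.nd (nat_lit 36307) (Tr.lf (nat_lit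 36299)) (Tr.lf (nat_lit 36307)))) (Tr.nd (nat_lit 36341) (Tr.nd (nat_lit 36319) (Tr.lf (nat_lit 36313)) (Tr.lf (nat_lit 36319))) (Tr.nd (nat_lit 36343) (Tr.lf (nat_lit 36341)) (Tr.lf (nat_lit 36343))))) (Tr.nd (nat_lit 36433) (Tr.nd (nat_lit 36383) (Tr.nd (nat_lit 36373) (Tr.lf (nat_lit 36353)) (Tr.lf (nat_lit 36373))) (Tr.nd (nat_lit 36389) (Tr.lf (nat_lit 36383)) (Tr.lf (nat_lit 36389)))) (Tr.nd (nat_lit 36457) (Tr.nd (nat_lit 36451) (Tr.lf (nat_lit 36433)) (Tr.lf (nat_lit 36451))) (Tr.nd (nat_lit 36467) (Tr.lf (nat_lit 36457)) (Tr.lf (nat_lit 36467))))))) (Tr.nd (nat_lit 36607) (Tr.nd (nat_lit 36541) (Tr.nd (nat_lit 36497) (Tr.nd (nat_lit 36479) (Tr.nd (nat_lit 36473) (Tr.lf (nat_lit 36469)) (Tr.lf (nat_lit 36473))) (Tr.nd (nat_lit 36493) (Tr.lf (nat_lit 36479)) (Tr.lf (nat_lit 36493)))) (Tr.nd (nat_lit 36527) (Tr.nd (nat_lit 36523) (Tr.lf (nat_lit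 36497)) (Tr.lf (nat_lit 36523))) (Tr.nd (nat_lit 36529) (Tr.lf (nat_lit 36527)) (Tr.lf (nat_lit 36529))))) (Tr.nd (nat_lit 36571) (Tr.nd (nat_lit 36559) (Tr.nd (nat_lit 36551) (Tr.lf (nat_lit 36541)) (Tr.lf (nat_lit 36551))) (Tr.nd (nat_lit 36563) (Tr.lf (nat_lit 36559)) (Tr.lf (nat_lit 36563)))) (Tr.nd (nat_lit 36587) (Tr.nd (nat_lit 36583) (Tr.lf (nat_lit 36571)) (Tr.lf (nat_lit 36583))) (Tr.nd (nat_lit 36599) (Tr.lf (nat_lit 36587)) (Tr.lf (nat_lit 36599)))))) (Tr.nd (nat_lit 36691) (Tr.nd (nat_lit 36653) (Tr.nd (nat_lit 36637) (Tr.nd (nat_lit 36629) (Tr.lf (nat_lit 36607)) (Tr.lf (nat_lit 36629))) (Tr.nd (nat_lit 36643) (Tr.lf (nat_lit 36637)) (Tr.lf (nat_lit 36643)))) (Tr.nd (nat_lit 36677) (Tr.nd (nat_lit 36671) (Tr.lf (nat_lit 36653)) (Tr.lf (nat_lit 36671))) (Tr.nd (nat_lit 36683) (Tr.lf (nat_lit 36677)) (Tr.lf (nat_lit 36683))))) (Tr.nd (nat_lit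 36721) (Tr.nd (nat_lit 36709) (Tr.nd (nat_lit 36697) (Tr.lf (nat_lit 36691)) (Tr.lf (nat_lit 36697))) (Tr.nd (nat_lit 36713) (Tr.lf (nat_lit 36709)) (Tr.lf (nat_lit 36713)))) (Tr.nd (nat_lit 36749) (Tr.nd (nat_lit 36739) (Tr.lf (nat_lit 36721)) (Tr.lf (nat_lit 36739))) (Tr.nd (nat_lit 36761) (Tr.lf (nat_lit 36749)) (Tr.lf (nat_lit 36761))))))))) (Tr.nd (nat_lit 37423) (Tr.nd (nat_lit 37057) (Tr.nd (nat_lit 36913) (Tr.nd (nat_lit 36833) (Tr.nd (nat_lit 36791) (Tr.nd (nat_lit 36781) (Tr.nd (nat_lit 36779) (Tr.lf (nat_lit 36767)) (Tr.lf (nat_lit 36779))) (Tr.nd (nat_lit 36787) (Tr.lf (nat_lit 36781)) (Tr.lf (nat_lit 36787)))) (Tr.nd (nat_lit 36809) (Tr.nd (nat_lit 36793) (Tr.lf (nat_lit 36791)) (Tr.lf (nat_lit 36793))) (Tr.nd (nat_lit 36821) (Tr.lf (nat_lit 36809)) (Tr.lf (nat_lit 36821))))) (Tr.nd (nat_lit 36877) (Tr.nd (nat_lit 36857) (Tr.nd (nat_lit 36847)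 (Tr.lf (nat_lit 36833)) (Tr.lf (nat_lit 36847))) (Tr.nd (nat_lit 36871) (Tr.lf (nat_lit 36857)) (Tr.lf (nat_lit 36871)))) (Tr.nd (nat_lit 36899) (Tr.nd (nat_lit 36887) (Tr.lf (nat_lit 36877)) (Tr.lf (nat_lit 36887))) (Tr.nd (nat_lit 36901) (Tr.lf (nat_lit 36899)) (Tr.lf (nat_lit 36901)))))) (Tr.nd (nat_lit 36979) (Tr.nd (nat_lit 36931) (Tr.nd (nat_lit 36923) (Tr.nd (nat_lit 36919) (Tr.lf (nat_lit 36913)) (Tr.lf (nat_lit 36919))) (Tr.nd (nat_lit 36929) (Tr.lf (nat_lit 36923)) (Tr.lf (nat_lit 36929)))) (Tr.nd (nat_lit 36947) (Tr.nd (nat_lit 36943) (Tr.lf (nat_lit 36931)) (Tr.lf (nat_lit 36943))) (Tr.nd (nat_lit 36973) (Tr.lf (nat_lit 36947)) (Tr.lf (nat_lit 36973))))) (Tr.nd (nat_lit 37019) (Tr.nd (nat_lit 37003) (Tr.nd (nat_lit 36997) (Tr.lf (nat_lit 36979)) (Tr.lf (nat_lit 36997))) (Tr.nd (nat_lit 37013) (Tr.lf (nat_lit 37003)) (Tr.lf (nat_lit 37013))))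 (Tr.nd (nat_lit 37039) (Tr.nd (nat_lit 37021) (Tr.lf (nat_lit 37019)) (Tr.lf (nat_lit 37021))) (Tr.nd (nat_lit 37049) (Tr.lf (nat_lit 37039)) (Tr.lf (nat_lit 37049))))))) (Tr.nd (nat_lit 37253) (Tr.nd (nat_lit 37171) (Tr.nd (nat_lit 37117) (Tr.nd (nat_lit 37087) (Tr.nd (nat_lit 37061) (Tr.lf (nat_lit 37057)) (Tr.lf (nat_lit 37061))) (Tr.nd (nat_lit 37097) (Tr.lf (nat_lit 37087)) (Tr.lf (nat_lit 37097)))) (Tr.nd (nat_lit 37139) (Tr.nd (nat_lit 37123) (Tr.lf (nat_lit 37117)) (Tr.lf (nat_lit 37123))) (Tr.nd (nat_lit 37159) (Tr.lf (nat_lit 37139)) (Tr.lf (nat_lit 37159))))) (Tr.nd (nat_lit 37201) (Tr.nd (nat_lit 37189) (Tr.nd (nat_lit 37181) (Tr.lf (nat_lit 37171)) (Tr.lf (nat_lit 37181))) (Tr.nd (nat_lit 37199) (Tr.lf (nat_lit 37189)) (Tr.lf (nat_lit 37199)))) (Tr.nd (nat_lit 37223) (Tr.nd (nat_lit 37217) (Tr.lf (nat_lit 37201)) (Tr.lf (nat_lit 37217))) (Tr.nd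 (nat_lit 37243) (Tr.lf (nat_lit 37223)) (Tr.lf (nat_lit 37243)))))) (Tr.nd (nat_lit 37339) (Tr.nd (nat_lit 37309) (Tr.nd (nat_lit 37277) (Tr.nd (nat_lit 37273) (Tr.lf (nat_lit 37253)) (Tr.lf (nat_lit 37273))) (Tr.nd (nat_lit 37307) (Tr.lf (nat_lit 37277)) (Tr.lf (nat_lit 37307)))) (Tr.nd (nat_lit 37321) (Tr.nd (nat_lit 37313) (Tr.lf (nat_lit 37309)) (Tr.lf (nat_lit 37313))) (Tr.nd (nat_lit 37337) (Tr.lf (nat_lit 37321)) (Tr.lf (nat_lit 37337))))) (Tr.nd (nat_lit 37369) (Tr.nd (nat_lit 37361) (Tr.nd (nat_lit 37357) (Tr.lf (nat_lit 37339)) (Tr.lf (nat_lit 37357))) (Tr.nd (nat_lit 37363) (Tr.lf (nat_lit 37361)) (Tr.lf (nat_lit 37363)))) (Tr.nd (nat_lit 37397) (Tr.nd (nat_lit 37379) (Tr.lf (nat_lit 37369)) (Tr.lf (nat_lit 37379))) (Tr.nd (nat_lit 37409) (Tr.lf (nat_lit 37397)) (Tr.lf (nat_lit 37409)))))))) (Tr.nd (nat_lit 37717) (Tr.nd (nat_lit 37567) (Tr.nd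 (nat_lit 37507) (Tr.nd (nat_lit 37483) (Tr.nd (nat_lit 37447) (Tr.nd (nat_lit 37441) (Tr.lf (nat_lit 37423)) (Tr.lf (nat_lit 37441))) (Tr.nd (nat_lit 37463) (Tr.lf (nat_lit 37447)) (Tr.lf (nat_lit 37463)))) (Tr.nd (nat_lit 37493) (Tr.nd (nat_lit 37489) (Tr.lf (nat_lit 37483)) (Tr.lf (nat_lit 37489))) (Tr.nd (nat_lit 37501) (Tr.lf (nat_lit 37493)) (Tr.lf (nat_lit 37501))))) (Tr.nd (nat_lit 37537) (Tr.nd (nat_lit 37517) (Tr.nd (nat_lit 37511) (Tr.lf (nat_lit 37507)) (Tr.lf (nat_lit 37511))) (Tr.nd (nat_lit 37529) (Tr.lf (nat_lit 37517)) (Tr.lf (nat_lit 37529)))) (Tr.nd (nat_lit 37549) (Tr.nd (nat_lit 37547) (Tr.lf (nat_lit 37537)) (Tr.lf (nat_lit 37547))) (Tr.nd (nat_lit 37561) (Tr.lf (nat_lit 37549)) (Tr.lf (nat_lit 37561)))))) (Tr.nd (nat_lit 37633) (Tr.nd (nat_lit 37589) (Tr.nd (nat_lit 37573) (Tr.nd (nat_lit 37571) (Tr.lf (nat_lit 37567)) (Tr.lf (nat_lit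 37571))) (Tr.nd (nat_lit 37579) (Tr.lf (nat_lit 37573)) (Tr.lf (nat_lit 37579)))) (Tr.nd (nat_lit 37607) (Tr.nd (nat_lit 37591) (Tr.lf (nat_lit 37589)) (Tr.lf (nat_lit 37591))) (Tr.nd (nat_lit 37619) (Tr.lf (nat_lit 37607)) (Tr.lf (nat_lit 37619))))) (Tr.nd (nat_lit 37663) (Tr.nd (nat_lit 37649) (Tr.nd (nat_lit 37643) (Tr.lf (nat_lit 37633)) (Tr.lf (nat_lit 37643))) (Tr.nd (nat_lit 37657) (Tr.lf (nat_lit 37649)) (Tr.lf (nat_lit 37657)))) (Tr.nd (nat_lit 37693) (Tr.nd (nat_lit 37691) (Tr.lf (nat_lit 37663)) (Tr.lf (nat_lit 37691))) (Tr.nd (nat_lit 37699) (Tr.lf (nat_lit 37693)) (Tr.lf (nat_lit 37699))))))) (Tr.nd (nat_lit 37951) (Tr.nd (nat_lit 37847) (Tr.nd (nat_lit 37799) (Tr.nd (nat_lit 37781) (Tr.nd (nat_lit 37747) (Tr.lf (nat_lit 37717)) (Tr.lf (nat_lit 37747))) (Tr.nd (nat_lit 37783) (Tr.lf (nat_lit 37781)) (Tr.lf (nat_lit 37783)))) (Tr.nd (nat_lit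 37813) (Tr.nd (nat_lit 37811) (Tr.lf (nat_lit 37799)) (Tr.lf (nat_lit 37811))) (Tr.nd (nat_lit 37831) (Tr.lf (nat_lit 37813)) (Tr.lf (nat_lit 37831))))) (Tr.nd (nat_lit 37879) (Tr.nd (nat_lit 37861) (Tr.nd (nat_lit 37853) (Tr.lf (nat_lit 37847)) (Tr.lf (nat_lit 37853))) (Tr.nd (nat_lit 37871) (Tr.lf (nat_lit 37861)) (Tr.lf (nat_lit 37871)))) (Tr.nd (nat_lit 37897) (Tr.nd (nat_lit 37889) (Tr.lf (nat_lit 37879)) (Tr.lf (nat_lit 37889))) (Tr.nd (nat_lit 37907) (Tr.lf (nat_lit 37897)) (Tr.lf (nat_lit 37907)))))) (Tr.nd (nat_lit 38011) (Tr.nd (nat_lit 37987) (Tr.nd (nat_lit 37963) (Tr.nd (nat_lit 37957) (Tr.lf (nat_lit 37951)) (Tr.lf (nat_lit 37957))) (Tr.nd (nat_lit 37967) (Tr.lf (nat_lit 37963)) (Tr.lf (nat_lit 37967)))) (Tr.nd (nat_lit 37993) (Tr.nd (nat_lit 37991) (Tr.lf (nat_lit 37987)) (Tr.lf (nat_lit 37991))) (Tr.nd (nat_lit 37997) (Tr.lf (nat_lit 37993))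 (Tr.lf (nat_lit 37997))))) (Tr.nd (nat_lit 38069) (Tr.nd (nat_lit 38047) (Tr.nd (nat_lit 38039) (Tr.lf (nat_lit 38011)) (Tr.lf (nat_lit 38039))) (Tr.nd (nat_lit 38053) (Tr.lf (nat_lit 38047)) (Tr.lf (nat_lit 38053)))) (Tr.nd (nat_lit 38113) (Tr.nd (nat_lit 38083) (Tr.lf (nat_lit 38069)) (Tr.lf (nat_lit 38083))) (Tr.nd (nat_lit 38119) (Tr.lf (nat_lit 38113)) (Tr.nd (nat_lit 38149) (Tr.lf (nat_lit 38119)) (Tr.lf (nat_lit 38149)))))))))))) (Tr.nd (nat_lit 40903) (Tr.nd (nat_lit 39499) (Tr.nd (nat_lit 38833) (Tr.nd (nat_lit 38501) (Tr.nd (nat_lit 38303) (Tr.nd (nat_lit 38231) (Tr.nd (nat_lit 38189) (Tr.nd (nat_lit 38177) (Tr.nd (nat_lit 38167) (Tr.lf (nat_lit 38153)) (Tr.lf (nat_lit 38167))) (Tr.nd (nat_lit 38183) (Tr.lf (nat_lit 38177)) (Tr.lf (nat_lit 38183)))) (Tr.nd (nat_lit 38201) (Tr.nd (nat_lit 38197) (Tr.lf (nat_lit 38189)) (Tr.lf (nat_lit 38197)))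 (Tr.nd (nat_lit 38219) (Tr.lf (nat_lit 38201)) (Tr.lf (nat_lit 38219))))) (Tr.nd (nat_lit 38273) (Tr.nd (nat_lit 38239) (Tr.nd (nat_lit 38237) (Tr.lf (nat_lit 38231)) (Tr.lf (nat_lit 38237))) (Tr.nd (nat_lit 38261) (Tr.lf (nat_lit 38239)) (Tr.lf (nat_lit 38261)))) (Tr.nd (nat_lit 38287) (Tr.nd (nat_lit 38281) (Tr.lf (nat_lit 38273)) (Tr.lf (nat_lit 38281))) (Tr.nd (nat_lit 38299) (Tr.lf (nat_lit 38287)) (Tr.lf (nat_lit 38299)))))) (Tr.nd (nat_lit 38377) (Tr.nd (nat_lit 38329) (Tr.nd (nat_lit 38321) (Tr.nd (nat_lit 38317) (Tr.lf (nat_lit 38303)) (Tr.lf (nat_lit 38317))) (Tr.nd (nat_lit 38327) (Tr.lf (nat_lit 38321)) (Tr.lf (nat_lit 38327)))) (Tr.nd (nat_lit 38351) (Tr.nd (nat_lit 38333) (Tr.lf (nat_lit 38329)) (Tr.lf (nat_lit 38333))) (Tr.nd (nat_lit 38371) (Tr.lf (nat_lit 38351)) (Tr.lf (nat_lit 38371))))) (Tr.nd (nat_lit 38449) (Tr.nd (nat_lit 38431)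 (Tr.nd (nat_lit 38393) (Tr.lf (nat_lit 38377)) (Tr.lf (nat_lit 38393))) (Tr.nd (nat_lit 38447) (Tr.lf (nat_lit 38431)) (Tr.lf (nat_lit 38447)))) (Tr.nd (nat_lit 38459) (Tr.nd (nat_lit 38453) (Tr.lf (nat_lit 38449)) (Tr.lf (nat_lit 38453))) (Tr.nd (nat_lit 38461) (Tr.lf (nat_lit 38459)) (Tr.lf (nat_lit 38461))))))) (Tr.nd (nat_lit 38677) (Tr.nd (nat_lit 38609) (Tr.nd (nat_lit 38567) (Tr.nd (nat_lit 38557) (Tr.nd (nat_lit 38543) (Tr.lf (nat_lit 38501)) (Tr.lf (nat_lit 38543))) (Tr.nd (nat_lit 38561) (Tr.lf (nat_lit 38557)) (Tr.lf (nat_lit 38561)))) (Tr.nd (nat_lit 38593) (Tr.nd (nat_lit 38569) (Tr.lf (nat_lit 38567)) (Tr.lf (nat_lit 38569))) (Tr.nd (nat_lit 38603) (Tr.lf (nat_lit 38593)) (Tr.lf (nat_lit 38603))))) (Tr.nd (nat_lit 38651) (Tr.nd (nat_lit 38629) (Tr.nd (nat_lit 38611) (Tr.lf (nat_lit 38609)) (Tr.lf (nat_lit 38611))) (Tr.nd (nat_lit 38639) (Tr.lf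 (nat_lit 38629)) (Tr.lf (nat_lit 38639)))) (Tr.nd (nat_lit 38669) (Tr.nd (nat_lit 38653) (Tr.lf (nat_lit 38651)) (Tr.lf (nat_lit 38653))) (Tr.nd (nat_lit 38671) (Tr.lf (nat_lit 38669)) (Tr.lf (nat_lit 38671)))))) (Tr.nd (nat_lit 38737) (Tr.nd (nat_lit 38711) (Tr.nd (nat_lit 38699) (Tr.nd (nat_lit 38693) (Tr.lf (nat_lit 38677)) (Tr.lf (nat_lit 38693))) (Tr.nd (nat_lit 38707) (Tr.lf (nat_lit 38699)) (Tr.lf (nat_lit 38707)))) (Tr.nd (nat_lit 38723) (Tr.nd (nat_lit 38713) (Tr.lf (nat_lit 38711)) (Tr.lf (nat_lit 38713))) (Tr.nd (nat_lit 38729) (Tr.lf (nat_lit 38723)) (Tr.lf (nat_lit 38729))))) (Tr.nd (nat_lit 38783) (Tr.nd (nat_lit 38749) (Tr.nd (nat_lit 38747) (Tr.lf (nat_lit 38737)) (Tr.lf (nat_lit 38747))) (Tr.nd (nat_lit 38767) (Tr.lf (nat_lit 38749)) (Tr.lf (nat_lit 38767)))) (Tr.nd (nat_lit 38803) (Tr.nd (nat_lit 38791) (Tr.lf (nat_lit 38783)) (Tr.lf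 (nat_lit 38791))) (Tr.nd (nat_lit 38821) (Tr.lf (nat_lit 38803)) (Tr.lf (nat_lit 38821)))))))) (Tr.nd (nat_lit 39161) (Tr.nd (nat_lit 38993) (Tr.nd (nat_lit 38917) (Tr.nd (nat_lit 38867) (Tr.nd (nat_lit 38851) (Tr.nd (nat_lit 38839) (Tr.lf (nat_lit 38833)) (Tr.lf (nat_lit 38839))) (Tr.nd (nat_lit 38861) (Tr.lf (nat_lit 38851)) (Tr.lf (nat_lit 38861)))) (Tr.nd (nat_lit 38891) (Tr.nd (nat_lit 38873) (Tr.lf (nat_lit 38867)) (Tr.lf (nat_lit 38873))) (Tr.nd (nat_lit 38903) (Tr.lf (nat_lit 38891)) (Tr.lf (nat_lit 38903))))) (Tr.nd (nat_lit 38953) (Tr.nd (nat_lit 38923) (Tr.nd (nat_lit 38921) (Tr.lf (nat_lit 38917)) (Tr.lf (nat_lit 38921))) (Tr.nd (nat_lit 38933) (Tr.lf (nat_lit 38923)) (Tr.lf (nat_lit 38933)))) (Tr.nd (nat_lit 38971) (Tr.nd (nat_lit 38959) (Tr.lf (nat_lit 38953)) (Tr.lf (nat_lit 38959))) (Tr.nd (nat_lit 38977) (Tr.lf (nat_lit 38971)) (Tr.lf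 (nat_lit 38977)))))) (Tr.nd (nat_lit 39097) (Tr.nd (nat_lit 39043) (Tr.nd (nat_lit 39023) (Tr.nd (nat_lit 39019) (Tr.lf (nat_lit 38993)) (Tr.lf (nat_lit 39019))) (Tr.nd (nat_lit 39041) (Tr.lf (nat_lit 39023)) (Tr.lf (nat_lit 39041)))) (Tr.nd (nat_lit 39079) (Tr.nd (nat_lit 39047) (Tr.lf (nat_lit 39043)) (Tr.lf (nat_lit 39047))) (Tr.nd (nat_lit 39089) (Tr.lf (nat_lit 39079)) (Tr.lf (nat_lit 39089))))) (Tr.nd (nat_lit 39119) (Tr.nd (nat_lit 39107) (Tr.nd (nat_lit 39103) (Tr.lf (nat_lit 39097)) (Tr.lf (nat_lit 39103))) (Tr.nd (nat_lit 39113) (Tr.lf (nat_lit 39107)) (Tr.lf (nat_lit 39113)))) (Tr.nd (nat_lit 39139) (Tr.nd (nat_lit 39133) (Tr.lf (nat_lit 39119)) (Tr.lf (nat_lit 39133))) (Tr.nd (nat_lit 39157) (Tr.lf (nat_lit 39139)) (Tr.lf (nat_lit 39157))))))) (Tr.nd (nat_lit 39317) (Tr.nd (nat_lit 39229) (Tr.nd (nat_lit 39199) (Tr.nd (nat_lit 39181) (Tr.nd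 (nat_lit 39163) (Tr.lf (nat_lit 39161)) (Tr.lf (nat_lit 39163))) (Tr.nd (nat_lit 39191) (Tr.lf (nat_lit 39181)) (Tr.lf (nat_lit 39191)))) (Tr.nd (nat_lit 39217) (Tr.nd (nat_lit 39209) (Tr.lf (nat_lit 39199)) (Tr.lf (nat_lit 39209))) (Tr.nd (nat_lit 39227) (Tr.lf (nat_lit 39217)) (Tr.lf (nat_lit 39227))))) (Tr.nd (nat_lit 39251) (Tr.nd (nat_lit 39239) (Tr.nd (nat_lit 39233) (Tr.lf (nat_lit 39229)) (Tr.lf (nat_lit 39233))) (Tr.nd (nat_lit 39241) (Tr.lf (nat_lit 39239)) (Tr.lf (nat_lit 39241)))) (Tr.nd (nat_lit 39301) (Tr.nd (nat_lit 39293) (Tr.lf (nat_lit 39251)) (Tr.lf (nat_lit 39293))) (Tr.nd (nat_lit 39313) (Tr.lf (nat_lit 39301)) (Tr.lf (nat_lit 39313)))))) (Tr.nd (nat_lit 39383) (Tr.nd (nat_lit 39359) (Tr.nd (nat_lit 39341) (Tr.nd (nat_lit 39323) (Tr.lf (nat_lit 39317)) (Tr.lf (nat_lit 39323))) (Tr.nd (nat_lit 39343) (Tr.lf (nat_lit 39341)) (Tr.lf (nat_lit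 39343)))) (Tr.nd (nat_lit 39371) (Tr.nd (nat_lit 39367) (Tr.lf (nat_lit 39359)) (Tr.lf (nat_lit 39367))) (Tr.nd (nat_lit 39373) (Tr.lf (nat_lit 39371)) (Tr.lf (nat_lit 39373))))) (Tr.nd (nat_lit 39439) (Tr.nd (nat_lit 39409) (Tr.nd (nat_lit 39397) (Tr.lf (nat_lit 39383)) (Tr.lf (nat_lit 39397))) (Tr.nd (nat_lit 39419) (Tr.lf (nat_lit 39409)) (Tr.lf (nat_lit 39419)))) (Tr.nd (nat_lit 39451) (Tr.nd (nat_lit 39443) (Tr.lf (nat_lit 39439)) (Tr.lf (nat_lit 39443))) (Tr.nd (nat_lit 39461) (Tr.lf (nat_lit 39451)) (Tr.lf (nat_lit 39461))))))))) (Tr.nd (nat_lit 40163) (Tr.nd (nat_lit 39839) (Tr.nd (nat_lit 39671) (Tr.nd (nat_lit 39569) (Tr.nd (nat_lit 39521) (Tr.nd (nat_lit 39509) (Tr.nd (nat_lit 39503) (Tr.lf (nat_lit 39499)) (Tr.lf (nat_lit 39503))) (Tr.nd (nat_lit 39511) (Tr.lf (nat_lit 39509)) (Tr.lf (nat_lit 39511)))) (Tr.nd (nat_lit 39551) (Tr.nd (nat_lit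 39541) (Tr.lf (nat_lit 39521)) (Tr.lf (nat_lit 39541))) (Tr.nd (nat_lit 39563) (Tr.lf (nat_lit 39551)) (Tr.lf (nat_lit 39563))))) (Tr.nd (nat_lit 39623) (Tr.nd (nat_lit 39607) (Tr.nd (nat_lit 39581) (Tr.lf (nat_lit 39569)) (Tr.lf (nat_lit 39581))) (Tr.nd (nat_lit 39619) (Tr.lf (nat_lit 39607)) (Tr.lf (nat_lit 39619)))) (Tr.nd (nat_lit 39659) (Tr.nd (nat_lit 39631) (Tr.lf (nat_lit 39623)) (Tr.lf (nat_lit 39631))) (Tr.nd (nat_lit 39667) (Tr.lf (nat_lit 39659)) (Tr.lf (nat_lit 39667)))))) (Tr.nd (nat_lit 39761) (Tr.nd (nat_lit 39719) (Tr.nd (nat_lit 39703) (Tr.nd (nat_lit 39679) (Tr.lf (nat_lit 39671)) (Tr.lf (nat_lit 39679))) (Tr.nd (nat_lit 39709) (Tr.lf (nat_lit 39703)) (Tr.lf (nat_lit 39709)))) (Tr.nd (nat_lit 39733) (Tr.nd (nat_lit 39727) (Tr.lf (nat_lit 39719)) (Tr.lf (nat_lit 39727))) (Tr.nd (nat_lit 39749) (Tr.lf (nat_lit 39733)) (Tr.lf (nat_lit 39749)))))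 (Tr.nd (nat_lit 39799) (Tr.nd (nat_lit 39779) (Tr.nd (nat_lit 39769) (Tr.lf (nat_lit 39761)) (Tr.lf (nat_lit 39769))) (Tr.nd (nat_lit 39791) (Tr.lf (nat_lit 39779)) (Tr.lf (nat_lit 39791)))) (Tr.nd (nat_lit 39827) (Tr.nd (nat_lit 39821) (Tr.lf (nat_lit 39799)) (Tr.lf (nat_lit 39821))) (Tr.nd (nat_lit 39829) (Tr.lf (nat_lit 39827)) (Tr.lf (nat_lit 39829))))))) (Tr.nd (nat_lit 39989) (Tr.nd (nat_lit 39887) (Tr.nd (nat_lit 39863) (Tr.nd (nat_lit 39847) (Tr.nd (nat_lit 39841) (Tr.lf (nat_lit 39839)) (Tr.lf (nat_lit 39841))) (Tr.nd (nat_lit 39857) (Tr.lf (nat_lit 39847)) (Tr.lf (nat_lit 39857)))) (Tr.nd (nat_lit 39877) (Tr.nd (nat_lit 39869) (Tr.lf (nat_lit 39863)) (Tr.lf (nat_lit 39869))) (Tr.nd (nat_lit 39883) (Tr.lf (nat_lit 39877)) (Tr.lf (nat_lit 39883))))) (Tr.nd (nat_lit 39953) (Tr.nd (nat_lit 39929) (Tr.nd (nat_lit 39901) (Tr.lf (nat_lit 39887)) (Tr.lf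 (nat_lit 39901))) (Tr.nd (nat_lit 39937) (Tr.lf (nat_lit 39929)) (Tr.lf (nat_lit 39937)))) (Tr.nd (nat_lit 39979) (Tr.nd (nat_lit 39971) (Tr.lf (nat_lit 39953)) (Tr.lf (nat_lit 39971))) (Tr.nd (nat_lit 39983) (Tr.lf (nat_lit 39979)) (Tr.lf (nat_lit 39983)))))) (Tr.nd (nat_lit 40093) (Tr.nd (nat_lit 40037) (Tr.nd (nat_lit 40013) (Tr.nd (nat_lit 40009) (Tr.lf (nat_lit 39989)) (Tr.lf (nat_lit 40009))) (Tr.nd (nat_lit 40031) (Tr.lf (nat_lit 40013)) (Tr.lf (nat_lit 40031)))) (Tr.nd (nat_lit 40063) (Tr.nd (nat_lit 40039) (Tr.lf (nat_lit 40037)) (Tr.lf (nat_lit 40039))) (Tr.nd (nat_lit 40087) (Tr.lf (nat_lit 40063)) (Tr.lf (nat_lit 40087))))) (Tr.nd (nat_lit 40127) (Tr.nd (nat_lit 40111) (Tr.nd (nat_lit 40099) (Tr.lf (nat_lit 40093)) (Tr.lf (nat_lit 40099))) (Tr.nd (nat_lit 40123) (Tr.lf (nat_lit 40111)) (Tr.lf (nat_lit 40123)))) (Tr.nd (nat_lit 40151) (Tr.nd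 (nat_lit 40129) (Tr.lf (nat_lit 40127)) (Tr.lf (nat_lit 40129))) (Tr.nd (nat_lit 40153) (Tr.lf (nat_lit 40151)) (Tr.lf (nat_lit 40153)))))))) (Tr.nd (nat_lit 40543) (Tr.nd (nat_lit 40361) (Tr.nd (nat_lit 40241) (Tr.nd (nat_lit 40193) (Tr.nd (nat_lit 40177) (Tr.nd (nat_lit 40169) (Tr.lf (nat_lit 40163)) (Tr.lf (nat_lit 40169))) (Tr.nd (nat_lit 40189) (Tr.lf (nat_lit 40177)) (Tr.lf (nat_lit 40189)))) (Tr.nd (nat_lit 40231) (Tr.nd (nat_lit 40213) (Tr.lf (nat_lit 40193)) (Tr.lf (nat_lit 40213))) (Tr.nd (nat_lit 40237) (Tr.lf (nat_lit 40231)) (Tr.lf (nat_lit 40237))))) (Tr.nd (nat_lit 40289) (Tr.nd (nat_lit 40277) (Tr.nd (nat_lit 40253) (Tr.lf (nat_lit 40241)) (Tr.lf (nat_lit 40253))) (Tr.nd (nat_lit 40283) (Tr.lf (nat_lit 40277)) (Tr.lf (nat_lit 40283)))) (Tr.nd (nat_lit 40351) (Tr.nd (nat_lit 40343) (Tr.lf (nat_lit 40289)) (Tr.lf (nat_lit 40343))) (Tr.nd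 (nat_lit 40357) (Tr.lf (nat_lit 40351)) (Tr.lf (nat_lit 40357)))))) (Tr.nd (nat_lit 40483) (Tr.nd (nat_lit 40429) (Tr.nd (nat_lit 40423) (Tr.nd (nat_lit 40387) (Tr.lf (nat_lit 40361)) (Tr.lf (nat_lit 40387))) (Tr.nd (nat_lit 40427) (Tr.lf (nat_lit 40423)) (Tr.lf (nat_lit 40427)))) (Tr.nd (nat_lit 40459) (Tr.nd (nat_lit 40433) (Tr.lf (nat_lit 40429)) (Tr.lf (nat_lit 40433))) (Tr.nd (nat_lit 40471) (Tr.lf (nat_lit 40459)) (Tr.lf (nat_lit 40471))))) (Tr.nd (nat_lit 40507) (Tr.nd (nat_lit 40493) (Tr.nd (nat_lit 40487) (Tr.lf (nat_lit 40483)) (Tr.lf (nat_lit 40487))) (Tr.nd (nat_lit 40499) (Tr.lf (nat_lit 40493)) (Tr.lf (nat_lit 40499)))) (Tr.nd (nat_lit 40529) (Tr.nd (nat_lit 40519) (Tr.lf (nat_lit 40507)) (Tr.lf (nat_lit 40519))) (Tr.nd (nat_lit 40531) (Tr.lf (nat_lit 40529)) (Tr.lf (nat_lit 40531))))))) (Tr.nd (nat_lit 40759) (Tr.nd (nat_lit 40637) (Tr.nd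 (nat_lit 40591) (Tr.nd (nat_lit 40577) (Tr.nd (nat_lit 40559) (Tr.lf (nat_lit 40543)) (Tr.lf (nat_lit 40559))) (Tr.nd (nat_lit 40583) (Tr.lf (nat_lit 40577)) (Tr.lf (nat_lit 40583)))) (Tr.nd (nat_lit 40609) (Tr.nd (nat_lit 40597) (Tr.lf (nat_lit 40591)) (Tr.lf (nat_lit 40597))) (Tr.nd (nat_lit 40627) (Tr.lf (nat_lit 40609)) (Tr.lf (nat_lit 40627))))) (Tr.nd (nat_lit 40699) (Tr.nd (nat_lit 40693) (Tr.nd (nat_lit 40639) (Tr.lf (nat_lit 40637)) (Tr.lf (nat_lit 40639))) (Tr.nd (nat_lit 40697) (Tr.lf (nat_lit 40693)) (Tr.lf (nat_lit 40697)))) (Tr.nd (nat_lit 40739) (Tr.nd (nat_lit 40709) (Tr.lf (nat_lit 40699)) (Tr.lf (nat_lit 40709))) (Tr.nd (nat_lit 40751) (Tr.lf (nat_lit 40739)) (Tr.lf (nat_lit 40751)))))) (Tr.nd (nat_lit 40829) (Tr.nd (nat_lit 40801) (Tr.nd (nat_lit 40771) (Tr.nd (nat_lit 40763) (Tr.lf (nat_lit 40759)) (Tr.lf (nat_lit 40763))) (Tr.nd (nat_lit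 40787) (Tr.lf (nat_lit 40771)) (Tr.lf (nat_lit 40787)))) (Tr.nd (nat_lit 40819) (Tr.nd (nat_lit 40813) (Tr.lf (nat_lit 40801)) (Tr.lf (nat_lit 40813))) (Tr.nd (nat_lit 40823) (Tr.lf (nat_lit 40819)) (Tr.lf (nat_lit 40823))))) (Tr.nd (nat_lit 40853) (Tr.nd (nat_lit 40847) (Tr.nd (nat_lit 40841) (Tr.lf (nat_lit 40829)) (Tr.lf (nat_lit 40841))) (Tr.nd (nat_lit 40849) (Tr.lf (nat_lit 40847)) (Tr.lf (nat_lit 40849)))) (Tr.nd (nat_lit 40879) (Tr.nd (nat_lit 40867) (Tr.lf (nat_lit 40853)) (Tr.lf (nat_lit 40867))) (Tr.nd (nat_lit 40883) (Tr.lf (nat_lit 40879)) (Tr.nd (nat_lit 40897) (Tr.lf (nat_lit 40883)) (Tr.lf (nat_lit 40897))))))))))) (Tr.nd (nat_lit 42209) (Tr.nd (nat_lit 41593) (Tr.nd (nat_lit 41227) (Tr.nd (nat_lit 41081) (Tr.nd (nat_lit 41011) (Tr.nd (nat_lit 40949) (Tr.nd (nat_lit 40933) (Tr.nd (nat_lit 40927) (Tr.lf (nat_lit 40903)) (Tr.lf (nat_lit 40927)))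 (Tr.nd (nat_lit 40939) (Tr.lf (nat_lit 40933)) (Tr.lf (nat_lit 40939)))) (Tr.nd (nat_lit 40973) (Tr.nd (nat_lit 40961) (Tr.lf (nat_lit 40949)) (Tr.lf (nat_lit 40961))) (Tr.nd (nat_lit 40993) (Tr.lf (nat_lit 40973)) (Tr.lf (nat_lit 40993))))) (Tr.nd (nat_lit 41047) (Tr.nd (nat_lit 41023) (Tr.nd (nat_lit 41017) (Tr.lf (nat_lit 41011)) (Tr.lf (nat_lit 41017))) (Tr.nd (nat_lit 41039) (Tr.lf (nat_lit 41023)) (Tr.lf (nat_lit 41039)))) (Tr.nd (nat_lit 41057) (Tr.nd (nat_lit 41051) (Tr.lf (nat_lit 41047)) (Tr.lf (nat_lit 41051))) (Tr.nd (nat_lit 41077) (Tr.lf (nat_lit 41057)) (Tr.lf (nat_lit 41077)))))) (Tr.nd (nat_lit 41177) (Tr.nd (nat_lit 41141) (Tr.nd (nat_lit 41117) (Tr.nd (nat_lit 41113) (Tr.lf (nat_lit 41081)) (Tr.lf (nat_lit 41113))) (Tr.nd (nat_lit 41131) (Tr.lf (nat_lit 41117)) (Tr.lf (nat_lit 41131)))) (Tr.nd (nat_lit 41149) (Tr.nd (nat_lit 41143) (Tr.lf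 (nat_lit 41141)) (Tr.lf (nat_lit 41143))) (Tr.nd (nat_lit 41161) (Tr.lf (nat_lit 41149)) (Tr.lf (nat_lit 41161))))) (Tr.nd (nat_lit 41201) (Tr.nd (nat_lit 41183) (Tr.nd (nat_lit 41179) (Tr.lf (nat_lit 41177)) (Tr.lf (nat_lit 41179))) (Tr.nd (nat_lit 41189) (Tr.lf (nat_lit 41183)) (Tr.lf (nat_lit 41189)))) (Tr.nd (nat_lit 41213) (Tr.nd (nat_lit 41203) (Tr.lf (nat_lit 41201)) (Tr.lf (nat_lit 41203))) (Tr.nd (nat_lit 41221) (Tr.lf (nat_lit 41213)) (Tr.lf (nat_lit 41221))))))) (Tr.nd (nat_lit 41399) (Tr.nd (nat_lit 41299) (Tr.nd (nat_lit 41257) (Tr.nd (nat_lit 41233) (Tr.nd (nat_lit 41231) (Tr.lf (nat_lit 41227)) (Tr.lf (nat_lit 41231))) (Tr.nd (nat_lit 41243) (Tr.lf (nat_lit 41233)) (Tr.lf (nat_lit 41243)))) (Tr.nd (nat_lit 41269) (Tr.nd (nat_lit 41263) (Tr.lf (nat_lit 41257)) (Tr.lf (nat_lit 41263))) (Tr.nd (nat_lit 41281) (Tr.lf (nat_lit 41269)) (Tr.lf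 (nat_lit 41281))))) (Tr.nd (nat_lit 41357) (Tr.nd (nat_lit 41341) (Tr.nd (nat_lit 41333) (Tr.lf (nat_lit 41299)) (Tr.lf (nat_lit 41333))) (Tr.nd (nat_lit 41351) (Tr.lf (nat_lit 41341)) (Tr.lf (nat_lit 41351)))) (Tr.nd (nat_lit 41387) (Tr.nd (nat_lit 41381) (Tr.lf (nat_lit 41357)) (Tr.lf (nat_lit 41381))) (Tr.nd (nat_lit 41389) (Tr.lf (nat_lit 41387)) (Tr.lf (nat_lit 41389)))))) (Tr.nd (nat_lit 41507) (Tr.nd (nat_lit 41453) (Tr.nd (nat_lit 41413) (Tr.nd (nat_lit 41411) (Tr.lf (nat_lit 41399)) (Tr.lf (nat_lit 41411))) (Tr.nd (nat_lit 41443) (Tr.lf (nat_lit 41413)) (Tr.lf (nat_lit 41443)))) (Tr.nd (nat_lit 41479) (Tr.nd (nat_lit 41467) (Tr.lf (nat_lit 41453)) (Tr.lf (nat_lit 41467))) (Tr.nd (nat_lit 41491) (Tr.lf (nat_lit 41479)) (Tr.lf (nat_lit 41491))))) (Tr.nd (nat_lit 41539) (Tr.nd (nat_lit 41519) (Tr.nd (nat_lit 41513) (Tr.lf (nat_lit 41507)) (Tr.lf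 (nat_lit 41513))) (Tr.nd (nat_lit 41521) (Tr.lf (nat_lit 41519)) (Tr.lf (nat_lit 41521)))) (Tr.nd (nat_lit 41549) (Tr.nd (nat_lit 41543) (Tr.lf (nat_lit 41539)) (Tr.lf (nat_lit 41543))) (Tr.nd (nat_lit 41579) (Tr.lf (nat_lit 41549)) (Tr.lf (nat_lit 41579)))))))) (Tr.nd (nat_lit 41897) (Tr.nd (nat_lit 41729) (Tr.nd (nat_lit 41641) (Tr.nd (nat_lit 41611) (Tr.nd (nat_lit 41603) (Tr.nd (nat_lit 41597) (Tr.lf (nat_lit 41593)) (Tr.lf (nat_lit 41597))) (Tr.nd (nat_lit 41609) (Tr.lf (nat_lit 41603)) (Tr.lf (nat_lit 41609)))) (Tr.nd (nat_lit 41621) (Tr.nd (nat_lit 41617) (Tr.lf (nat_lit 41611)) (Tr.lf (nat_lit 41617))) (Tr.nd (nat_lit 41627) (Tr.lf (nat_lit 41621)) (Tr.lf (nat_lit 41627))))) (Tr.nd (nat_lit 41669) (Tr.nd (nat_lit 41651) (Tr.nd (nat_lit 41647) (Tr.lf (nat_lit 41641)) (Tr.lf (nat_lit 41647))) (Tr.nd (nat_lit 41659) (Tr.lf (nat_lit 41651)) (Tr.lf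 (nat_lit 41659)))) (Tr.nd (nat_lit 41687) (Tr.nd (nat_lit 41681) (Tr.lf (nat_lit 41669)) (Tr.lf (nat_lit 41681))) (Tr.nd (nat_lit 41719) (Tr.lf (nat_lit 41687)) (Tr.lf (nat_lit 41719)))))) (Tr.nd (nat_lit 41813) (Tr.nd (nat_lit 41771) (Tr.nd (nat_lit 41759) (Tr.nd (nat_lit 41737) (Tr.lf (nat_lit 41729)) (Tr.lf (nat_lit 41737))) (Tr.nd (nat_lit 41761) (Tr.lf (nat_lit 41759)) (Tr.lf (nat_lit 41761)))) (Tr.nd (nat_lit 41801) (Tr.nd (nat_lit 41777) (Tr.lf (nat_lit 41771)) (Tr.lf (nat_lit 41777))) (Tr.nd (nat_lit 41809) (Tr.lf (nat_lit 41801)) (Tr.lf (nat_lit 41809))))) (Tr.nd (nat_lit 41863) (Tr.nd (nat_lit 41849) (Tr.nd (nat_lit 41843) (Tr.lf (nat_lit 41813)) (Tr.lf (nat_lit 41843))) (Tr.nd (nat_lit 41851) (Tr.lf (nat_lit 41849)) (Tr.lf (nat_lit 41851)))) (Tr.nd (nat_lit 41887) (Tr.nd (nat_lit 41879) (Tr.lf (nat_lit 41863)) (Tr.lf (nat_lit 41879))) (Tr.nd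 (nat_lit 41893) (Tr.lf (nat_lit 41887)) (Tr.lf (nat_lit 41893))))))) (Tr.nd (nat_lit 42023) (Tr.nd (nat_lit 41959) (Tr.nd (nat_lit 41941) (Tr.nd (nat_lit 41911) (Tr.nd (nat_lit 41903) (Tr.lf (nat_lit 41897)) (Tr.lf (nat_lit 41903))) (Tr.nd (nat_lit 41927) (Tr.lf (nat_lit 41911)) (Tr.lf (nat_lit 41927)))) (Tr.nd (nat_lit 41953) (Tr.nd (nat_lit 41947) (Tr.lf (nat_lit 41941)) (Tr.lf (nat_lit 41947))) (Tr.nd (nat_lit 41957) (Tr.lf (nat_lit 41953)) (Tr.lf (nat_lit 41957))))) (Tr.nd (nat_lit 41999) (Tr.nd (nat_lit 41981) (Tr.nd (nat_lit 41969) (Tr.lf (nat_lit 41959)) (Tr.lf (nat_lit 41969))) (Tr.nd (nat_lit 41983) (Tr.lf (nat_lit 41981)) (Tr.lf (nat_lit 41983)))) (Tr.nd (nat_lit 42017) (Tr.nd (nat_lit 42013) (Tr.lf (nat_lit 41999)) (Tr.lf (nat_lit 42013))) (Tr.nd (nat_lit 42019) (Tr.lf (nat_lit 42017)) (Tr.lf (nat_lit 42019)))))) (Tr.nd (nat_lit 42131) (Tr.nd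 (nat_lit 42073) (Tr.nd (nat_lit 42061) (Tr.nd (nat_lit 42043) (Tr.lf (nat_lit 42023)) (Tr.lf (nat_lit 42043))) (Tr.nd (nat_lit 42071) (Tr.lf (nat_lit 42061)) (Tr.lf (nat_lit 42071)))) (Tr.nd (nat_lit 42089) (Tr.nd (nat_lit 42083) (Tr.lf (nat_lit 42073)) (Tr.lf (nat_lit 42083))) (Tr.nd (nat_lit 42101) (Tr.lf (nat_lit 42089)) (Tr.lf (nat_lit 42101))))) (Tr.nd (nat_lit 42179) (Tr.nd (nat_lit 42157) (Tr.nd (nat_lit 42139) (Tr.lf (nat_lit 42131)) (Tr.lf (nat_lit 42139))) (Tr.nd (nat_lit 42169) (Tr.lf (nat_lit 42157)) (Tr.lf (nat_lit 42169)))) (Tr.nd (nat_lit 42187) (Tr.nd (nat_lit 42181) (Tr.lf (nat_lit 42179)) (Tr.lf (nat_lit 42181))) (Tr.nd (nat_lit 42193) (Tr.lf (nat_lit 42187)) (Tr.nd (nat_lit 42197) (Tr.lf (nat_lit 42193)) (Tr.lf (nat_lit 42197)))))))))) (Tr.nd (nat_lit 42821) (Tr.nd (nat_lit 42487) (Tr.nd (nat_lit 42373) (Tr.nd (nat_lit 42293) (Tr.nd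 (nat_lit 42239) (Tr.nd (nat_lit 42223) (Tr.nd (nat_lit 42221) (Tr.lf (nat_lit 42209)) (Tr.lf (nat_lit 42221))) (Tr.nd (nat_lit 42227) (Tr.lf (nat_lit 42223)) (Tr.lf (nat_lit 42227)))) (Tr.nd (nat_lit 42281) (Tr.nd (nat_lit 42257) (Tr.lf (nat_lit 42239)) (Tr.lf (nat_lit 42257))) (Tr.nd (nat_lit 42283) (Tr.lf (nat_lit 42281)) (Tr.lf (nat_lit 42283))))) (Tr.nd (nat_lit 42331) (Tr.nd (nat_lit 42307) (Tr.nd (nat_lit 42299) (Tr.lf (nat_lit 42293)) (Tr.lf (nat_lit 42299))) (Tr.nd (nat_lit 42323) (Tr.lf (nat_lit 42307)) (Tr.lf (nat_lit 42323)))) (Tr.nd (nat_lit 42349) (Tr.nd (nat_lit 42337) (Tr.lf (nat_lit 42331)) (Tr.lf (nat_lit 42337))) (Tr.nd (nat_lit 42359) (Tr.lf (nat_lit 42349)) (Tr.lf (nat_lit 42359)))))) (Tr.nd (nat_lit 42437) (Tr.nd (nat_lit 42403) (Tr.nd (nat_lit 42391) (Tr.nd (nat_lit 42379) (Tr.lf (nat_lit 42373)) (Tr.lf (nat_lit 42379))) (Tr.nd (nat_lit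 42397) (Tr.lf (nat_lit 42391)) (Tr.lf (nat_lit 42397)))) (Tr.nd (nat_lit 42409) (Tr.nd (nat_lit 42407) (Tr.lf (nat_lit 42403)) (Tr.lf (nat_lit 42407))) (Tr.nd (nat_lit 42433) (Tr.lf (nat_lit 42409)) (Tr.lf (nat_lit 42433))))) (Tr.nd (nat_lit 42461) (Tr.nd (nat_lit 42451) (Tr.nd (nat_lit 42443) (Tr.lf (nat_lit 42437)) (Tr.lf (nat_lit 42443))) (Tr.nd (nat_lit 42457) (Tr.lf (nat_lit 42451)) (Tr.lf (nat_lit 42457)))) (Tr.nd (nat_lit 42467) (Tr.nd (nat_lit 42463) (Tr.lf (nat_lit 42461)) (Tr.lf (nat_lit 42463))) (Tr.nd (nat_lit 42473) (Tr.lf (nat_lit 42467)) (Tr.lf (nat_lit 42473))))))) (Tr.nd (nat_lit 42683) (Tr.nd (nat_lit 42577) (Tr.nd (nat_lit 42533) (Tr.nd (nat_lit 42499) (Tr.nd (nat_lit 42491) (Tr.lf (nat_lit 42487)) (Tr.lf (nat_lit 42491))) (Tr.nd (nat_lit 42509) (Tr.lf (nat_lit 42499)) (Tr.lf (nat_lit 42509)))) (Tr.nd (nat_lit 42569) (Tr.nd (nat_lit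 42557) (Tr.lf (nat_lit 42533)) (Tr.lf (nat_lit 42557))) (Tr.nd (nat_lit 42571) (Tr.lf (nat_lit 42569)) (Tr.lf (nat_lit 42571))))) (Tr.nd (nat_lit 42643) (Tr.nd (nat_lit 42611) (Tr.nd (nat_lit 42589) (Tr.lf (nat_lit 42577)) (Tr.lf (nat_lit 42589))) (Tr.nd (nat_lit 42641) (Tr.lf (nat_lit 42611)) (Tr.lf (nat_lit 42641)))) (Tr.nd (nat_lit 42667) (Tr.nd (nat_lit 42649) (Tr.lf (nat_lit 42643)) (Tr.lf (nat_lit 42649))) (Tr.nd (nat_lit 42677) (Tr.lf (nat_lit 42667)) (Tr.lf (nat_lit 42677)))))) (Tr.nd (nat_lit 42737) (Tr.nd (nat_lit 42703) (Tr.nd (nat_lit 42697) (Tr.nd (nat_lit 42689) (Tr.lf (nat_lit 42683)) (Tr.lf (nat_lit 42689))) (Tr.nd (nat_lit 42701) (Tr.lf (nat_lit 42697)) (Tr.lf (nat_lit 42701)))) (Tr.nd (nat_lit 42719) (Tr.nd (nat_lit 42709) (Tr.lf (nat_lit 42703)) (Tr.lf (nat_lit 42709))) (Tr.nd (nat_lit 42727) (Tr.lf (nat_lit 42719)) (Tr.lf (nat_lit 42727)))))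 (Tr.nd (nat_lit 42773) (Tr.nd (nat_lit 42751) (Tr.nd (nat_lit 42743) (Tr.lf (nat_lit 42737)) (Tr.lf (nat_lit 42743))) (Tr.nd (nat_lit 42767) (Tr.lf (nat_lit 42751)) (Tr.lf (nat_lit 42767)))) (Tr.nd (nat_lit 42793) (Tr.nd (nat_lit 42787) (Tr.lf (nat_lit 42773)) (Tr.lf (nat_lit 42787))) (Tr.nd (nat_lit 42797) (Tr.lf (nat_lit 42793)) (Tr.lf (nat_lit 42797)))))))) (Tr.nd (nat_lit 43177) (Tr.nd (nat_lit 42979) (Tr.nd (nat_lit 42901) (Tr.nd (nat_lit 42853) (Tr.nd (nat_lit 42839) (Tr.nd (nat_lit 42829) (Tr.lf (nat_lit 42821)) (Tr.lf (nat_lit 42829))) (Tr.nd (nat_lit 42841) (Tr.lf (nat_lit 42839)) (Tr.lf (nat_lit 42841)))) (Tr.nd (nat_lit 42863) (Tr.nd (nat_lit 42859) (Tr.lf (nat_lit 42853)) (Tr.lf (nat_lit 42859))) (Tr.nd (nat_lit 42899) (Tr.lf (nat_lit 42863)) (Tr.lf (nat_lit 42899))))) (Tr.nd (nat_lit 42943) (Tr.nd (nat_lit 42929) (Tr.nd (nat_lit 42923) (Tr.lf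 (nat_lit 42901)) (Tr.lf (nat_lit 42923))) (Tr.nd (nat_lit 42937) (Tr.lf (nat_lit 42929)) (Tr.lf (nat_lit 42937)))) (Tr.nd (nat_lit 42961) (Tr.nd (nat_lit 42953) (Tr.lf (nat_lit 42943)) (Tr.lf (nat_lit 42953))) (Tr.nd (nat_lit 42967) (Tr.lf (nat_lit 42961)) (Tr.lf (nat_lit 42967)))))) (Tr.nd (nat_lit 43063) (Tr.nd (nat_lit 43019) (Tr.nd (nat_lit 43003) (Tr.nd (nat_lit 42989) (Tr.lf (nat_lit 42979)) (Tr.lf (nat_lit 42989))) (Tr.nd (nat_lit 43013) (Tr.lf (nat_lit 43003)) (Tr.lf (nat_lit 43013)))) (Tr.nd (nat_lit 43049) (Tr.nd (nat_lit 43037) (Tr.lf (nat_lit 43019)) (Tr.lf (nat_lit 43037))) (Tr.nd (nat_lit 43051) (Tr.lf (nat_lit 43049)) (Tr.lf (nat_lit 43051))))) (Tr.nd (nat_lit 43117) (Tr.nd (nat_lit 43093) (Tr.nd (nat_lit 43067) (Tr.lf (nat_lit 43063)) (Tr.lf (nat_lit 43067))) (Tr.nd (nat_lit 43103) (Tr.lf (nat_lit 43093)) (Tr.lf (nat_lit 43103)))) (Tr.nd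 (nat_lit 43151) (Tr.nd (nat_lit 43133) (Tr.lf (nat_lit 43117)) (Tr.lf (nat_lit 43133))) (Tr.nd (nat_lit 43159) (Tr.lf (nat_lit 43151)) (Tr.lf (nat_lit 43159))))))) (Tr.nd (nat_lit 43399) (Tr.nd (nat_lit 43283) (Tr.nd (nat_lit 43223) (Tr.nd (nat_lit 43201) (Tr.nd (nat_lit 43189) (Tr.lf (nat_lit 43177)) (Tr.lf (nat_lit 43189))) (Tr.nd (nat_lit 43207) (Tr.lf (nat_lit 43201)) (Tr.lf (nat_lit 43207)))) (Tr.nd (nat_lit 43261) (Tr.nd (nat_lit 43237) (Tr.lf (nat_lit 43223)) (Tr.lf (nat_lit 43237))) (Tr.nd (nat_lit 43271) (Tr.lf (nat_lit 43261)) (Tr.lf (nat_lit 43271))))) (Tr.nd (nat_lit 43321) (Tr.nd (nat_lit 43313) (Tr.nd (nat_lit 43291) (Tr.lf (nat_lit 43283)) (Tr.lf (nat_lit 43291))) (Tr.nd (nat_lit 43319) (Tr.lf (nat_lit 43313)) (Tr.lf (nat_lit 43319)))) (Tr.nd (nat_lit 43391) (Tr.nd (nat_lit 43331) (Tr.lf (nat_lit 43321)) (Tr.lf (nat_lit 43331))) (Tr.nd (nat_lit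 43397) (Tr.lf (nat_lit 43391)) (Tr.lf (nat_lit 43397)))))) (Tr.nd (nat_lit 43487) (Tr.nd (nat_lit 43441) (Tr.nd (nat_lit 43411) (Tr.nd (nat_lit 43403) (Tr.lf (nat_lit 43399)) (Tr.lf (nat_lit 43403))) (Tr.nd (nat_lit 43427) (Tr.lf (nat_lit 43411)) (Tr.lf (nat_lit 43427)))) (Tr.nd (nat_lit 43457) (Tr.nd (nat_lit 43451) (Tr.lf (nat_lit 43441)) (Tr.lf (nat_lit 43451))) (Tr.nd (nat_lit 43481) (Tr.lf (nat_lit 43457)) (Tr.lf (nat_lit 43481))))) (Tr.nd (nat_lit 43543) (Tr.nd (nat_lit 43517) (Tr.nd (nat_lit 43499) (Tr.lf (nat_lit 43487)) (Tr.lf (nat_lit 43499))) (Tr.nd (nat_lit 43541) (Tr.lf (nat_lit 43517)) (Tr.lf (nat_lit 43541)))) (Tr.nd (nat_lit 43577) (Tr.nd (nat_lit 43573) (Tr.lf (nat_lit 43543)) (Tr.lf (nat_lit 43573))) (Tr.nd (nat_lit 43579) (Tr.lf (nat_lit 43577)) (Tr.nd (nat_lit 43591) (Tr.lf (nat_lit 43579)) (Tr.lf (nat_lit 43591))))))))))))) (Tr.nd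 (nat_lit 49193) (Tr.nd (nat_lit 46441) (Tr.nd (nat_lit 44953) (Tr.nd (nat_lit 44263) (Tr.nd (nat_lit 43963) (Tr.nd (nat_lit 43777) (Tr.nd (nat_lit 43661) (Tr.nd (nat_lit 43627) (Tr.nd (nat_lit 43609) (Tr.nd (nat_lit 43607) (Tr.lf (nat_lit 43597)) (Tr.lf (nat_lit 43607))) (Tr.nd (nat_lit 43613) (Tr.lf (nat_lit 43609)) (Tr.lf (nat_lit 43613)))) (Tr.nd (nat_lit 43649) (Tr.nd (nat_lit 43633) (Tr.lf (nat_lit 43627)) (Tr.lf (nat_lit 43633))) (Tr.nd (nat_lit 43651) (Tr.lf (nat_lit 43649)) (Tr.lf (nat_lit 43651))))) (Tr.nd (nat_lit 43717) (Tr.nd (nat_lit 43691) (Tr.nd (nat_lit 43669) (Tr.lf (nat_lit 43661)) (Tr.lf (nat_lit 43669))) (Tr.nd (nat_lit 43711) (Tr.lf (nat_lit 43691)) (Tr.lf (nat_lit 43711)))) (Tr.nd (nat_lit 43753) (Tr.nd (nat_lit 43721) (Tr.lf (nat_lit 43717)) (Tr.lf (nat_lit 43721))) (Tr.nd (nat_lit 43759) (Tr.lf (nat_lit 43753)) (Tr.lf (nat_lit 43759))))))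 (Tr.nd (nat_lit 43867) (Tr.nd (nat_lit 43789) (Tr.nd (nat_lit 43783) (Tr.nd (nat_lit 43781) (Tr.lf (nat_lit 43777)) (Tr.lf (nat_lit 43781))) (Tr.nd (nat_lit 43787) (Tr.lf (nat_lit 43783)) (Tr.lf (nat_lit 43787)))) (Tr.nd (nat_lit 43801) (Tr.nd (nat_lit 43793) (Tr.lf (nat_lit 43789)) (Tr.lf (nat_lit 43793))) (Tr.nd (nat_lit 43853) (Tr.lf (nat_lit 43801)) (Tr.lf (nat_lit 43853))))) (Tr.nd (nat_lit 43933) (Tr.nd (nat_lit 43891) (Tr.nd (nat_lit 43889) (Tr.lf (nat_lit 43867)) (Tr.lf (nat_lit 43889))) (Tr.nd (nat_lit 43913) (Tr.lf (nat_lit 43891)) (Tr.lf (nat_lit 43913)))) (Tr.nd (nat_lit 43951) (Tr.nd (nat_lit 43943) (Tr.lf (nat_lit 43933)) (Tr.lf (nat_lit 43943))) (Tr.nd (nat_lit 43961) (Tr.lf (nat_lit 43951)) (Tr.lf (nat_lit 43961))))))) (Tr.nd (nat_lit 44101) (Tr.nd (nat_lit 44027) (Tr.nd (nat_lit 43991) (Tr.nd (nat_lit 43973) (Tr.nd (nat_lit 43969) (Tr.lf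 (nat_lit 43963)) (Tr.lf (nat_lit 43969))) (Tr.nd (nat_lit 43987) (Tr.lf (nat_lit 43973)) (Tr.lf (nat_lit 43987)))) (Tr.nd (nat_lit 44017) (Tr.nd (nat_lit 43997) (Tr.lf (nat_lit 43991)) (Tr.lf (nat_lit 43997))) (Tr.nd (nat_lit 44021) (Tr.lf (nat_lit 44017)) (Tr.lf (nat_lit 44021))))) (Tr.nd (nat_lit 44059) (Tr.nd (nat_lit 44041) (Tr.nd (nat_lit 44029) (Tr.lf (nat_lit 44027)) (Tr.lf (nat_lit 44029))) (Tr.nd (nat_lit 44053) (Tr.lf (nat_lit 44041)) (Tr.lf (nat_lit 44053)))) (Tr.nd (nat_lit 44087) (Tr.nd (nat_lit 44071) (Tr.lf (nat_lit 44059)) (Tr.lf (nat_lit 44071))) (Tr.nd (nat_lit 44089) (Tr.lf (nat_lit 44087)) (Tr.lf (nat_lit 44089)))))) (Tr.nd (nat_lit 44179) (Tr.nd (nat_lit 44129) (Tr.nd (nat_lit 44119) (Tr.nd (nat_lit 44111) (Tr.lf (nat_lit 44101)) (Tr.lf (nat_lit 44111))) (Tr.nd (nat_lit 44123) (Tr.lf (nat_lit 44119)) (Tr.lf (nat_lit 44123)))) (Tr.nd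 (nat_lit 44159) (Tr.nd (nat_lit 44131) (Tr.lf (nat_lit 44129)) (Tr.lf (nat_lit 44131))) (Tr.nd (nat_lit 44171) (Tr.lf (nat_lit 44159)) (Tr.lf (nat_lit 44171))))) (Tr.nd (nat_lit 44207) (Tr.nd (nat_lit 44201) (Tr.nd (nat_lit 44189) (Tr.lf (nat_lit 44179)) (Tr.lf (nat_lit 44189))) (Tr.nd (nat_lit 44203) (Tr.lf (nat_lit 44201)) (Tr.lf (nat_lit 44203)))) (Tr.nd (nat_lit 44249) (Tr.nd (nat_lit 44221) (Tr.lf (nat_lit 44207)) (Tr.lf (nat_lit 44221))) (Tr.nd (nat_lit 44257) (Tr.lf (nat_lit 44249)) (Tr.lf (nat_lit 44257)))))))) (Tr.nd (nat_lit 44623) (Tr.nd (nat_lit 44483) (Tr.nd (nat_lit 44357) (Tr.nd (nat_lit 44279) (Tr.nd (nat_lit 44269) (Tr.nd (nat_lit 44267) (Tr.lf (nat_lit 44263)) (Tr.lf (nat_lit 44267))) (Tr.nd (nat_lit 44273) (Tr.lf (nat_lit 44269)) (Tr.lf (nat_lit 44273)))) (Tr.nd (nat_lit 44293) (Tr.nd (nat_lit 44281) (Tr.lf (nat_lit 44279)) (Tr.lf (nat_lit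 44281))) (Tr.nd (nat_lit 44351) (Tr.lf (nat_lit 44293)) (Tr.lf (nat_lit 44351))))) (Tr.nd (nat_lit 44389) (Tr.nd (nat_lit 44381) (Tr.nd (nat_lit 44371) (Tr.lf (nat_lit 44357)) (Tr.lf (nat_lit 44371))) (Tr.nd (nat_lit 44383) (Tr.lf (nat_lit 44381)) (Tr.lf (nat_lit 44383)))) (Tr.nd (nat_lit 44449) (Tr.nd (nat_lit 44417) (Tr.lf (nat_lit 44389)) (Tr.lf (nat_lit 44417))) (Tr.nd (nat_lit 44453) (Tr.lf (nat_lit 44449)) (Tr.lf (nat_lit 44453)))))) (Tr.nd (nat_lit 44537) (Tr.nd (nat_lit 44507) (Tr.nd (nat_lit 44497) (Tr.nd (nat_lit 44491) (Tr.lf (nat_lit 44483)) (Tr.lf (nat_lit 44491))) (Tr.nd (nat_lit 44501) (Tr.lf (nat_lit 44497)) (Tr.lf (nat_lit 44501)))) (Tr.nd (nat_lit 44531) (Tr.nd (nat_lit 44519) (Tr.lf (nat_lit 44507)) (Tr.lf (nat_lit 44519))) (Tr.nd (nat_lit 44533) (Tr.lf (nat_lit 44531)) (Tr.lf (nat_lit 44533))))) (Tr.nd (nat_lit 44579) (Tr.nd (nat_lit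 44549) (Tr.nd (nat_lit 44543) (Tr.lf (nat_lit 44537)) (Tr.lf (nat_lit 44543))) (Tr.nd (nat_lit 44563) (Tr.lf (nat_lit 44549)) (Tr.lf (nat_lit 44563)))) (Tr.nd (nat_lit 44617) (Tr.nd (nat_lit 44587) (Tr.lf (nat_lit 44579)) (Tr.lf (nat_lit 44587))) (Tr.nd (nat_lit 44621) (Tr.lf (nat_lit 44617)) (Tr.lf (nat_lit 44621))))))) (Tr.nd (nat_lit 44777) (Tr.nd (nat_lit 44699) (Tr.nd (nat_lit 44651) (Tr.nd (nat_lit 44641) (Tr.nd (nat_lit 44633) (Tr.lf (nat_lit 44623)) (Tr.lf (nat_lit 44633))) (Tr.nd (nat_lit 44647) (Tr.lf (nat_lit 44641)) (Tr.lf (nat_lit 44647)))) (Tr.nd (nat_lit 44683) (Tr.nd (nat_lit 44657) (Tr.lf (nat_lit 44651)) (Tr.lf (nat_lit 44657))) (Tr.nd (nat_lit 44687) (Tr.lf (nat_lit 44683)) (Tr.lf (nat_lit 44687))))) (Tr.nd (nat_lit 44741) (Tr.nd (nat_lit 44711) (Tr.nd (nat_lit 44701) (Tr.lf (nat_lit 44699)) (Tr.lf (nat_lit 44701))) (Tr.nd (nat_lit 44729)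 (Tr.lf (nat_lit 44711)) (Tr.lf (nat_lit 44729)))) (Tr.nd (nat_lit 44771) (Tr.nd (nat_lit 44753) (Tr.lf (nat_lit 44741)) (Tr.lf (nat_lit 44753))) (Tr.nd (nat_lit 44773) (Tr.lf (nat_lit 44771)) (Tr.lf (nat_lit 44773)))))) (Tr.nd (nat_lit 44867) (Tr.nd (nat_lit 44819) (Tr.nd (nat_lit 44797) (Tr.nd (nat_lit 44789) (Tr.lf (nat_lit 44777)) (Tr.lf (nat_lit 44789))) (Tr.nd (nat_lit 44809) (Tr.lf (nat_lit 44797)) (Tr.lf (nat_lit 44809)))) (Tr.nd (nat_lit 44843) (Tr.nd (nat_lit 44839) (Tr.lf (nat_lit 44819)) (Tr.lf (nat_lit 44839))) (Tr.nd (nat_lit 44851) (Tr.lf (nat_lit 44843)) (Tr.lf (nat_lit 44851))))) (Tr.nd (nat_lit 44909) (Tr.nd (nat_lit 44887) (Tr.nd (nat_lit 44879) (Tr.lf (nat_lit 44867)) (Tr.lf (nat_lit 44879))) (Tr.nd (nat_lit 44893) (Tr.lf (nat_lit 44887)) (Tr.lf (nat_lit 44893)))) (Tr.nd (nat_lit 44927) (Tr.nd (nat_lit 44917) (Tr.lf (nat_lit 44909))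 (Tr.lf (nat_lit 44917))) (Tr.nd (nat_lit 44939) (Tr.lf (nat_lit 44927)) (Tr.lf (nat_lit 44939))))))))) (Tr.nd (nat_lit 45677) (Tr.nd (nat_lit 45319) (Tr.nd (nat_lit 45137) (Tr.nd (nat_lit 45053) (Tr.nd (nat_lit 44983) (Tr.nd (nat_lit 44963) (Tr.nd (nat_lit 44959) (Tr.lf (nat_lit 44953)) (Tr.lf (nat_lit 44959))) (Tr.nd (nat_lit 44971) (Tr.lf (nat_lit 44963)) (Tr.lf (nat_lit 44971)))) (Tr.nd (nat_lit 45007) (Tr.nd (nat_lit 44987) (Tr.lf (nat_lit 44983)) (Tr.lf (nat_lit 44987))) (Tr.nd (nat_lit 45013) (Tr.lf (nat_lit 45007)) (Tr.lf (nat_lit 45013))))) (Tr.nd (nat_lit 45119) (Tr.nd (nat_lit 45077) (Tr.nd (nat_lit 45061) (Tr.lf (nat_lit 45053)) (Tr.lf (nat_lit 45061))) (Tr.nd (nat_lit 45083) (Tr.lf (nat_lit 45077)) (Tr.lf (nat_lit 45083)))) (Tr.nd (nat_lit 45127) (Tr.nd (nat_lit 45121) (Tr.lf (nat_lit 45119)) (Tr.lf (nat_lit 45121))) (Tr.nd (nat_lit 45131)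 (Tr.lf (nat_lit 45127)) (Tr.lf (nat_lit 45131)))))) (Tr.nd (nat_lit 45247) (Tr.nd (nat_lit 45181) (Tr.nd (nat_lit 45161) (Tr.nd (nat_lit 45139) (Tr.lf (nat_lit 45137)) (Tr.lf (nat_lit 45139))) (Tr.nd (nat_lit 45179) (Tr.lf (nat_lit 45161)) (Tr.lf (nat_lit 45179)))) (Tr.nd (nat_lit 45197) (Tr.nd (nat_lit 45191) (Tr.lf (nat_lit 45181)) (Tr.lf (nat_lit 45191))) (Tr.nd (nat_lit 45233) (Tr.lf (nat_lit 45197)) (Tr.lf (nat_lit 45233))))) (Tr.nd (nat_lit 45289) (Tr.nd (nat_lit 45263) (Tr.nd (nat_lit 45259) (Tr.lf (nat_lit 45247)) (Tr.lf (nat_lit 45259))) (Tr.nd (nat_lit 45281) (Tr.lf (nat_lit 45263)) (Tr.lf (nat_lit 45281)))) (Tr.nd (nat_lit 45307) (Tr.nd (nat_lit 45293) (Tr.lf (nat_lit 45289)) (Tr.lf (nat_lit 45293))) (Tr.nd (nat_lit 45317) (Tr.lf (nat_lit 45307)) (Tr.lf (nat_lit 45317))))))) (Tr.nd (nat_lit 45503) (Tr.nd (nat_lit 45403) (Tr.nd (nat_lit 45343)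 (Tr.nd (nat_lit 45337) (Tr.nd (nat_lit 45329) (Tr.lf (nat_lit 45319)) (Tr.lf (nat_lit 45329))) (Tr.nd (nat_lit 45341) (Tr.lf (nat_lit 45337)) (Tr.lf (nat_lit 45341)))) (Tr.nd (nat_lit 45377) (Tr.nd (nat_lit 45361) (Tr.lf (nat_lit 45343)) (Tr.lf (nat_lit 45361))) (Tr.nd (nat_lit 45389) (Tr.lf (nat_lit 45377)) (Tr.lf (nat_lit 45389))))) (Tr.nd (nat_lit 45439) (Tr.nd (nat_lit 45427) (Tr.nd (nat_lit 45413) (Tr.lf (nat_lit 45403)) (Tr.lf (nat_lit 45413))) (Tr.nd (nat_lit 45433) (Tr.lf (nat_lit 45427)) (Tr.lf (nat_lit 45433)))) (Tr.nd (nat_lit 45491) (Tr.nd (nat_lit 45481) (Tr.lf (nat_lit 45439)) (Tr.lf (nat_lit 45481))) (Tr.nd (nat_lit 45497) (Tr.lf (nat_lit 45491)) (Tr.lf (nat_lit 45497)))))) (Tr.nd (nat_lit 45589) (Tr.nd (nat_lit 45553) (Tr.nd (nat_lit 45533) (Tr.nd (nat_lit 45523) (Tr.lf (nat_lit 45503)) (Tr.lf (nat_lit 45523))) (Tr.nd (nat_lit 45541) (Tr.lf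 (nat_lit 45533)) (Tr.lf (nat_lit 45541)))) (Tr.nd (nat_lit 45569) (Tr.nd (nat_lit 45557) (Tr.lf (nat_lit 45553)) (Tr.lf (nat_lit 45557))) (Tr.nd (nat_lit 45587) (Tr.lf (nat_lit 45569)) (Tr.lf (nat_lit 45587))))) (Tr.nd (nat_lit 45641) (Tr.nd (nat_lit 45613) (Tr.nd (nat_lit 45599) (Tr.lf (nat_lit 45589)) (Tr.lf (nat_lit 45599))) (Tr.nd (nat_lit 45631) (Tr.lf (nat_lit 45613)) (Tr.lf (nat_lit 45631)))) (Tr.nd (nat_lit 45667) (Tr.nd (nat_lit 45659) (Tr.lf (nat_lit 45641)) (Tr.lf (nat_lit 45659))) (Tr.nd (nat_lit 45673) (Tr.lf (nat_lit 45667)) (Tr.lf (nat_lit 45673)))))))) (Tr.nd (nat_lit 46061) (Tr.nd (nat_lit 45853) (Tr.nd (nat_lit 45767) (Tr.nd (nat_lit 45737) (Tr.nd (nat_lit 45697) (Tr.nd (nat_lit 45691) (Tr.lf (nat_lit 45677)) (Tr.lf (nat_lit 45691))) (Tr.nd (nat_lit 45707) (Tr.lf (nat_lit 45697)) (Tr.lf (nat_lit 45707)))) (Tr.nd (nat_lit 45757) (Tr.nd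 (nat_lit 45751) (Tr.lf (nat_lit 45737)) (Tr.lf (nat_lit 45751))) (Tr.nd (nat_lit 45763) (Tr.lf (nat_lit 45757)) (Tr.lf (nat_lit 45763))))) (Tr.nd (nat_lit 45823) (Tr.nd (nat_lit 45817) (Tr.nd (nat_lit 45779) (Tr.lf (nat_lit 45767)) (Tr.lf (nat_lit 45779))) (Tr.nd (nat_lit 45821) (Tr.lf (nat_lit 45817)) (Tr.lf (nat_lit 45821)))) (Tr.nd (nat_lit 45833) (Tr.nd (nat_lit 45827) (Tr.lf (nat_lit 45823)) (Tr.lf (nat_lit 45827))) (Tr.nd (nat_lit 45841) (Tr.lf (nat_lit 45833)) (Tr.lf (nat_lit 45841)))))) (Tr.nd (nat_lit 45959) (Tr.nd (nat_lit 45893) (Tr.nd (nat_lit 45869) (Tr.nd (nat_lit 45863) (Tr.lf (nat_lit 45853)) (Tr.lf (nat_lit 45863))) (Tr.nd (nat_lit 45887) (Tr.lf (nat_lit 45869)) (Tr.lf (nat_lit 45887)))) (Tr.nd (nat_lit 45949) (Tr.nd (nat_lit 45943) (Tr.lf (nat_lit 45893)) (Tr.lf (nat_lit 45943))) (Tr.nd (nat_lit 45953) (Tr.lf (nat_lit 45949)) (Tr.lf (nat_lit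 45953))))) (Tr.nd (nat_lit 46021) (Tr.nd (nat_lit 45979) (Tr.nd (nat_lit 45971) (Tr.lf (nat_lit 45959)) (Tr.lf (nat_lit 45971))) (Tr.nd (nat_lit 45989) (Tr.lf (nat_lit 45979)) (Tr.lf (nat_lit 45989)))) (Tr.nd (nat_lit 46049) (Tr.nd (nat_lit 46027) (Tr.lf (nat_lit 46021)) (Tr.lf (nat_lit 46027))) (Tr.nd (nat_lit 46051) (Tr.lf (nat_lit 46049)) (Tr.lf (nat_lit 46051))))))) (Tr.nd (nat_lit 46229) (Tr.nd (nat_lit 46147) (Tr.nd (nat_lit 46099) (Tr.nd (nat_lit 46091) (Tr.nd (nat_lit 46073) (Tr.lf (nat_lit 46061)) (Tr.lf (nat_lit 46073))) (Tr.nd (nat_lit 46093) (Tr.lf (nat_lit 46091)) (Tr.lf (nat_lit 46093)))) (Tr.nd (nat_lit 46133) (Tr.nd (nat_lit 46103) (Tr.lf (nat_lit 46099)) (Tr.lf (nat_lit 46103))) (Tr.nd (nat_lit 46141) (Tr.lf (nat_lit 46133)) (Tr.lf (nat_lit 46141))))) (Tr.nd (nat_lit 46183) (Tr.nd (nat_lit 46171) (Tr.nd (nat_lit 46153) (Tr.lf (nat_lit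 46147)) (Tr.lf (nat_lit 46153))) (Tr.nd (nat_lit 46181) (Tr.lf (nat_lit 46171)) (Tr.lf (nat_lit 46181)))) (Tr.nd (nat_lit 46199) (Tr.nd (nat_lit 46187) (Tr.lf (nat_lit 46183)) (Tr.lf (nat_lit 46187))) (Tr.nd (nat_lit 46219) (Tr.lf (nat_lit 46199)) (Tr.lf (nat_lit 46219)))))) (Tr.nd (nat_lit 46309) (Tr.nd (nat_lit 46273) (Tr.nd (nat_lit 46261) (Tr.nd (nat_lit 46237) (Tr.lf (nat_lit 46229)) (Tr.lf (nat_lit 46237))) (Tr.nd (nat_lit 46271) (Tr.lf (nat_lit 46261)) (Tr.lf (nat_lit 46271)))) (Tr.nd (nat_lit 46301) (Tr.nd (nat_lit 46279) (Tr.lf (nat_lit 46273)) (Tr.lf (nat_lit 46279))) (Tr.nd (nat_lit 46307) (Tr.lf (nat_lit 46301)) (Tr.lf (nat_lit 46307))))) (Tr.nd (nat_lit 46351) (Tr.nd (nat_lit 46337) (Tr.nd (nat_lit 46327) (Tr.lf (nat_lit 46309)) (Tr.lf (nat_lit 46327))) (Tr.nd (nat_lit 46349) (Tr.lf (nat_lit 46337)) (Tr.lf (nat_lit 46349)))) (Tr.nd (nat_lit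 46399) (Tr.nd (nat_lit 46381) (Tr.lf (nat_lit 46351)) (Tr.lf (nat_lit 46381))) (Tr.nd (nat_lit 46411) (Tr.lf (nat_lit 46399)) (Tr.nd (nat_lit 46439) (Tr.lf (nat_lit 46411)) (Tr.lf (nat_lit 46439))))))))))) (Tr.nd (nat_lit 47797) (Tr.nd (nat_lit 47137) (Tr.nd (nat_lit 46751) (Tr.nd (nat_lit 46591) (Tr.nd (nat_lit 46507) (Tr.nd (nat_lit 46471) (Tr.nd (nat_lit 46451) (Tr.nd (nat_lit 46447) (Tr.lf (nat_lit 46441)) (Tr.lf (nat_lit 46447))) (Tr.nd (nat_lit 46457) (Tr.lf (nat_lit 46451)) (Tr.lf (nat_lit 46457)))) (Tr.nd (nat_lit 46489) (Tr.nd (nat_lit 46477) (Tr.lf (nat_lit 46471)) (Tr.lf (nat_lit 46477))) (Tr.nd (nat_lit 46499) (Tr.lf (nat_lit 46489)) (Tr.lf (nat_lit 46499))))) (Tr.nd (nat_lit 46559) (Tr.nd (nat_lit 46523) (Tr.nd (nat_lit 46511) (Tr.lf (nat_lit 46507)) (Tr.lf (nat_lit 46511))) (Tr.nd (nat_lit 46549) (Tr.lf (nat_lit 46523)) (Tr.lf (nat_lit 46549))))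 (Tr.nd (nat_lit 46573) (Tr.nd (nat_lit 46567) (Tr.lf (nat_lit 46559)) (Tr.lf (nat_lit 46567))) (Tr.nd (nat_lit 46589) (Tr.lf (nat_lit 46573)) (Tr.lf (nat_lit 46589)))))) (Tr.nd (nat_lit 46679) (Tr.nd (nat_lit 46639) (Tr.nd (nat_lit 46619) (Tr.nd (nat_lit 46601) (Tr.lf (nat_lit 46591)) (Tr.lf (nat_lit 46601))) (Tr.nd (nat_lit 46633) (Tr.lf (nat_lit 46619)) (Tr.lf (nat_lit 46633)))) (Tr.nd (nat_lit 46649) (Tr.nd (nat_lit 46643) (Tr.lf (nat_lit 46639)) (Tr.lf (nat_lit 46643))) (Tr.nd (nat_lit 46663) (Tr.lf (nat_lit 46649)) (Tr.lf (nat_lit 46663))))) (Tr.nd (nat_lit 46703) (Tr.nd (nat_lit 46687) (Tr.nd (nat_lit 46681) (Tr.lf (nat_lit 46679)) (Tr.lf (nat_lit 46681))) (Tr.nd (nat_lit 46691) (Tr.lf (nat_lit 46687)) (Tr.lf (nat_lit 46691)))) (Tr.nd (nat_lit 46727) (Tr.nd (nat_lit 46723) (Tr.lf (nat_lit 46703)) (Tr.lf (nat_lit 46723))) (Tr.nd (nat_lit 46747) (Tr.lf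 (nat_lit 46727)) (Tr.lf (nat_lit 46747))))))) (Tr.nd (nat_lit 46919) (Tr.nd (nat_lit 46829) (Tr.nd (nat_lit 46807) (Tr.nd (nat_lit 46769) (Tr.nd (nat_lit 46757) (Tr.lf (nat_lit 46751)) (Tr.lf (nat_lit 46757))) (Tr.nd (nat_lit 46771) (Tr.lf (nat_lit 46769)) (Tr.lf (nat_lit 46771)))) (Tr.nd (nat_lit 46817) (Tr.nd (nat_lit 46811) (Tr.lf (nat_lit 46807)) (Tr.lf (nat_lit 46811))) (Tr.nd (nat_lit 46819) (Tr.lf (nat_lit 46817)) (Tr.lf (nat_lit 46819))))) (Tr.nd (nat_lit 46867) (Tr.nd (nat_lit 46853) (Tr.nd (nat_lit 46831) (Tr.lf (nat_lit 46829)) (Tr.lf (nat_lit 46831))) (Tr.nd (nat_lit 46861) (Tr.lf (nat_lit 46853)) (Tr.lf (nat_lit 46861)))) (Tr.nd (nat_lit 46889) (Tr.nd (nat_lit 46877) (Tr.lf (nat_lit 46867)) (Tr.lf (nat_lit 46877))) (Tr.nd (nat_lit 46901) (Tr.lf (nat_lit 46889)) (Tr.lf (nat_lit 46901)))))) (Tr.nd (nat_lit 47057) (Tr.nd (nat_lit 46997) (Tr.nd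 (nat_lit 46957) (Tr.nd (nat_lit 46933) (Tr.lf (nat_lit 46919)) (Tr.lf (nat_lit 46933))) (Tr.nd (nat_lit 46993) (Tr.lf (nat_lit 46957)) (Tr.lf (nat_lit 46993)))) (Tr.nd (nat_lit 47041) (Tr.nd (nat_lit 47017) (Tr.lf (nat_lit 46997)) (Tr.lf (nat_lit 47017))) (Tr.nd (nat_lit 47051) (Tr.lf (nat_lit 47041)) (Tr.lf (nat_lit 47051))))) (Tr.nd (nat_lit 47111) (Tr.nd (nat_lit 47087) (Tr.nd (nat_lit 47059) (Tr.lf (nat_lit 47057)) (Tr.lf (nat_lit 47059))) (Tr.nd (nat_lit 47093) (Tr.lf (nat_lit 47087)) (Tr.lf (nat_lit 47093)))) (Tr.nd (nat_lit 47123) (Tr.nd (nat_lit 47119) (Tr.lf (nat_lit 47111)) (Tr.lf (nat_lit 47119))) (Tr.nd (nat_lit 47129) (Tr.lf (nat_lit 47123)) (Tr.lf (nat_lit 47129)))))))) (Tr.nd (nat_lit 47497) (Tr.nd (nat_lit 47309) (Tr.nd (nat_lit 47237) (Tr.nd (nat_lit 47161) (Tr.nd (nat_lit 47147) (Tr.nd (nat_lit 47143) (Tr.lf (nat_lit 47137)) (Tr.lf (nat_lit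 47143))) (Tr.nd (nat_lit 47149) (Tr.lf (nat_lit 47147)) (Tr.lf (nat_lit 47149)))) (Tr.nd (nat_lit 47207) (Tr.nd (nat_lit 47189) (Tr.lf (nat_lit 47161)) (Tr.lf (nat_lit 47189))) (Tr.nd (nat_lit 47221) (Tr.lf (nat_lit 47207)) (Tr.lf (nat_lit 47221))))) (Tr.nd (nat_lit 47287) (Tr.nd (nat_lit 47269) (Tr.nd (nat_lit 47251) (Tr.lf (nat_lit 47237)) (Tr.lf (nat_lit 47251))) (Tr.nd (nat_lit 47279) (Tr.lf (nat_lit 47269)) (Tr.lf (nat_lit 47279)))) (Tr.nd (nat_lit 47297) (Tr.nd (nat_lit 47293) (Tr.lf (nat_lit 47287)) (Tr.lf (nat_lit 47293))) (Tr.nd (nat_lit 47303) (Tr.lf (nat_lit 47297)) (Tr.lf (nat_lit 47303)))))) (Tr.nd (nat_lit 47389) (Tr.nd (nat_lit 47353) (Tr.nd (nat_lit 47339) (Tr.nd (nat_lit 47317) (Tr.lf (nat_lit 47309)) (Tr.lf (nat_lit 47317))) (Tr.nd (nat_lit 47351) (Tr.lf (nat_lit 47339)) (Tr.lf (nat_lit 47351)))) (Tr.nd (nat_lit 47381) (Tr.nd (nat_lit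 47363) (Tr.lf (nat_lit 47353)) (Tr.lf (nat_lit 47363))) (Tr.nd (nat_lit 47387) (Tr.lf (nat_lit 47381)) (Tr.lf (nat_lit 47387))))) (Tr.nd (nat_lit 47431) (Tr.nd (nat_lit 47417) (Tr.nd (nat_lit 47407) (Tr.lf (nat_lit 47389)) (Tr.lf (nat_lit 47407))) (Tr.nd (nat_lit 47419) (Tr.lf (nat_lit 47417)) (Tr.lf (nat_lit 47419)))) (Tr.nd (nat_lit 47459) (Tr.nd (nat_lit 47441) (Tr.lf (nat_lit 47431)) (Tr.lf (nat_lit 47441))) (Tr.nd (nat_lit 47491) (Tr.lf (nat_lit 47459)) (Tr.lf (nat_lit 47491))))))) (Tr.nd (nat_lit 47639) (Tr.nd (nat_lit 47563) (Tr.nd (nat_lit 47521) (Tr.nd (nat_lit 47507) (Tr.nd (nat_lit 47501) (Tr.lf (nat_lit 47497)) (Tr.lf (nat_lit 47501))) (Tr.nd (nat_lit 47513) (Tr.lf (nat_lit 47507)) (Tr.lf (nat_lit 47513)))) (Tr.nd (nat_lit 47533) (Tr.nd (nat_lit 47527) (Tr.lf (nat_lit 47521)) (Tr.lf (nat_lit 47527))) (Tr.nd (nat_lit 47543) (Tr.lf (nat_lit 47533))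 (Tr.lf (nat_lit 47543))))) (Tr.nd (nat_lit 47599) (Tr.nd (nat_lit 47581) (Tr.nd (nat_lit 47569) (Tr.lf (nat_lit 47563)) (Tr.lf (nat_lit 47569))) (Tr.nd (nat_lit 47591) (Tr.lf (nat_lit 47581)) (Tr.lf (nat_lit 47591)))) (Tr.nd (nat_lit 47623) (Tr.nd (nat_lit 47609) (Tr.lf (nat_lit 47599)) (Tr.lf (nat_lit 47609))) (Tr.nd (nat_lit 47629) (Tr.lf (nat_lit 47623)) (Tr.lf (nat_lit 47629)))))) (Tr.nd (nat_lit 47713) (Tr.nd (nat_lit 47681) (Tr.nd (nat_lit 47657) (Tr.nd (nat_lit 47653) (Tr.lf (nat_lit 47639)) (Tr.lf (nat_lit 47653))) (Tr.nd (nat_lit 47659) (Tr.lf (nat_lit 47657)) (Tr.lf (nat_lit 47659)))) (Tr.nd (nat_lit 47701) (Tr.nd (nat_lit 47699) (Tr.lf (nat_lit 47681)) (Tr.lf (nat_lit 47699))) (Tr.nd (nat_lit 47711) (Tr.lf (nat_lit 47701)) (Tr.lf (nat_lit 47711))))) (Tr.nd (nat_lit 47743) (Tr.nd (nat_lit 47737) (Tr.nd (nat_lit 47717) (Tr.lf (nat_lit 47713))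 (Tr.lf (nat_lit 47717))) (Tr.nd (nat_lit 47741) (Tr.lf (nat_lit 47737)) (Tr.lf (nat_lit 47741)))) (Tr.nd (nat_lit 47779) (Tr.nd (nat_lit 47777) (Tr.lf (nat_lit 47743)) (Tr.lf (nat_lit 47777))) (Tr.nd (nat_lit 47791) (Tr.lf (nat_lit 47779)) (Tr.lf (nat_lit 47791))))))))) (Tr.nd (nat_lit 48523) (Tr.nd (nat_lit 48163) (Tr.nd (nat_lit 47963) (Tr.nd (nat_lit 47881) (Tr.nd (nat_lit 47837) (Tr.nd (nat_lit 47809) (Tr.nd (nat_lit 47807) (Tr.lf (nat_lit 47797)) (Tr.lf (nat_lit 47807))) (Tr.nd (nat_lit 47819) (Tr.lf (nat_lit 47809)) (Tr.lf (nat_lit 47819)))) (Tr.nd (nat_lit 47857) (Tr.nd (nat_lit 47843) (Tr.lf (nat_lit 47837)) (Tr.lf (nat_lit 47843))) (Tr.nd (nat_lit 47869) (Tr.lf (nat_lit 47857)) (Tr.lf (nat_lit 47869))))) (Tr.nd (nat_lit 47933) (Tr.nd (nat_lit 47911) (Tr.nd (nat_lit 47903) (Tr.lf (nat_lit 47881)) (Tr.lf (nat_lit 47903))) (Tr.nd (nat_lit 47917)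 (Tr.lf (nat_lit 47911)) (Tr.lf (nat_lit 47917)))) (Tr.nd (nat_lit 47947) (Tr.nd (nat_lit 47939) (Tr.lf (nat_lit 47933)) (Tr.lf (nat_lit 47939))) (Tr.nd (nat_lit 47951) (Tr.lf (nat_lit 47947)) (Tr.lf (nat_lit 47951)))))) (Tr.nd (nat_lit 48073) (Tr.nd (nat_lit 48017) (Tr.nd (nat_lit 47977) (Tr.nd (nat_lit 47969) (Tr.lf (nat_lit 47963)) (Tr.lf (nat_lit 47969))) (Tr.nd (nat_lit 47981) (Tr.lf (nat_lit 47977)) (Tr.lf (nat_lit 47981)))) (Tr.nd (nat_lit 48029) (Tr.nd (nat_lit 48023) (Tr.lf (nat_lit 48017)) (Tr.lf (nat_lit 48023))) (Tr.nd (nat_lit 48049) (Tr.lf (nat_lit 48029)) (Tr.lf (nat_lit 48049))))) (Tr.nd (nat_lit 48119) (Tr.nd (nat_lit 48091) (Tr.nd (nat_lit 48079) (Tr.lf (nat_lit 48073)) (Tr.lf (nat_lit 48079))) (Tr.nd (nat_lit 48109) (Tr.lf (nat_lit 48091)) (Tr.lf (nat_lit 48109)))) (Tr.nd (nat_lit 48131) (Tr.nd (nat_lit 48121) (Tr.lf (nat_lit 48119))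 (Tr.lf (nat_lit 48121))) (Tr.nd (nat_lit 48157) (Tr.lf (nat_lit 48131)) (Tr.lf (nat_lit 48157))))))) (Tr.nd (nat_lit 48353) (Tr.nd (nat_lit 48259) (Tr.nd (nat_lit 48197) (Tr.nd (nat_lit 48187) (Tr.nd (nat_lit 48179) (Tr.lf (nat_lit 48163)) (Tr.lf (nat_lit 48179))) (Tr.nd (nat_lit 48193) (Tr.lf (nat_lit 48187)) (Tr.lf (nat_lit 48193)))) (Tr.nd (nat_lit 48239) (Tr.nd (nat_lit 48221) (Tr.lf (nat_lit 48197)) (Tr.lf (nat_lit 48221))) (Tr.nd (nat_lit 48247) (Tr.lf (nat_lit 48239)) (Tr.lf (nat_lit 48247))))) (Tr.nd (nat_lit 48311) (Tr.nd (nat_lit 48281) (Tr.nd (nat_lit 48271) (Tr.lf (nat_lit 48259)) (Tr.lf (nat_lit 48271))) (Tr.nd (nat_lit 48299) (Tr.lf (nat_lit 48281)) (Tr.lf (nat_lit 48299)))) (Tr.nd (nat_lit 48337) (Tr.nd (nat_lit 48313) (Tr.lf (nat_lit 48311)) (Tr.lf (nat_lit 48313))) (Tr.nd (nat_lit 48341) (Tr.lf (nat_lit 48337)) (Tr.lf (nat_lit 48341))))))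 (Tr.nd (nat_lit 48449) (Tr.nd (nat_lit 48407) (Tr.nd (nat_lit 48383) (Tr.nd (nat_lit 48371) (Tr.lf (nat_lit 48353)) (Tr.lf (nat_lit 48371))) (Tr.nd (nat_lit 48397) (Tr.lf (nat_lit 48383)) (Tr.lf (nat_lit 48397)))) (Tr.nd (nat_lit 48413) (Tr.nd (nat_lit 48409) (Tr.lf (nat_lit 48407)) (Tr.lf (nat_lit 48409))) (Tr.nd (nat_lit 48437) (Tr.lf (nat_lit 48413)) (Tr.lf (nat_lit 48437))))) (Tr.nd (nat_lit 48481) (Tr.nd (nat_lit 48473) (Tr.nd (nat_lit 48463) (Tr.lf (nat_lit 48449)) (Tr.lf (nat_lit 48463))) (Tr.nd (nat_lit 48479) (Tr.lf (nat_lit 48473)) (Tr.lf (nat_lit 48479)))) (Tr.nd (nat_lit 48491) (Tr.nd (nat_lit 48487) (Tr.lf (nat_lit 48481)) (Tr.lf (nat_lit 48487))) (Tr.nd (nat_lit 48497) (Tr.lf (nat_lit 48491)) (Tr.lf (nat_lit 48497)))))))) (Tr.nd (nat_lit 48847) (Tr.nd (nat_lit 48677) (Tr.nd (nat_lit 48593) (Tr.nd (nat_lit 48541) (Tr.nd (nat_lit 48533) (Tr.nd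 (nat_lit 48527) (Tr.lf (nat_lit 48523)) (Tr.lf (nat_lit 48527))) (Tr.nd (nat_lit 48539) (Tr.lf (nat_lit 48533)) (Tr.lf (nat_lit 48539)))) (Tr.nd (nat_lit 48571) (Tr.nd (nat_lit 48563) (Tr.lf (nat_lit 48541)) (Tr.lf (nat_lit 48563))) (Tr.nd (nat_lit 48589) (Tr.lf (nat_lit 48571)) (Tr.lf (nat_lit 48589))))) (Tr.nd (nat_lit 48647) (Tr.nd (nat_lit 48619) (Tr.nd (nat_lit 48611) (Tr.lf (nat_lit 48593)) (Tr.lf (nat_lit 48611))) (Tr.nd (nat_lit 48623) (Tr.lf (nat_lit 48619)) (Tr.lf (nat_lit 48623)))) (Tr.nd (nat_lit 48661) (Tr.nd (nat_lit 48649) (Tr.lf (nat_lit 48647)) (Tr.lf (nat_lit 48649))) (Tr.nd (nat_lit 48673) (Tr.lf (nat_lit 48661)) (Tr.lf (nat_lit 48673)))))) (Tr.nd (nat_lit 48779) (Tr.nd (nat_lit 48751) (Tr.nd (nat_lit 48731) (Tr.nd (nat_lit 48679) (Tr.lf (nat_lit 48677)) (Tr.lf (nat_lit 48679))) (Tr.nd (nat_lit 48733) (Tr.lf (nat_lit 48731)) (Tr.lf (nat_lit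 48733)))) (Tr.nd (nat_lit 48761) (Tr.nd (nat_lit 48757) (Tr.lf (nat_lit 48751)) (Tr.lf (nat_lit 48757))) (Tr.nd (nat_lit 48767) (Tr.lf (nat_lit 48761)) (Tr.lf (nat_lit 48767))))) (Tr.nd (nat_lit 48809) (Tr.nd (nat_lit 48787) (Tr.nd (nat_lit 48781) (Tr.lf (nat_lit 48779)) (Tr.lf (nat_lit 48781))) (Tr.nd (nat_lit 48799) (Tr.lf (nat_lit 48787)) (Tr.lf (nat_lit 48799)))) (Tr.nd (nat_lit 48821) (Tr.nd (nat_lit 48817) (Tr.lf (nat_lit 48809)) (Tr.lf (nat_lit 48817))) (Tr.nd (nat_lit 48823) (Tr.lf (nat_lit 48821)) (Tr.lf (nat_lit 48823))))))) (Tr.nd (nat_lit 49031) (Tr.nd (nat_lit 48947) (Tr.nd (nat_lit 48871) (Tr.nd (nat_lit 48859) (Tr.nd (nat_lit 48857) (Tr.lf (nat_lit 48847)) (Tr.lf (nat_lit 48857))) (Tr.nd (nat_lit 48869) (Tr.lf (nat_lit 48859)) (Tr.lf (nat_lit 48869)))) (Tr.nd (nat_lit 48889) (Tr.nd (nat_lit 48883) (Tr.lf (nat_lit 48871)) (Tr.lf (nat_lit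 48883))) (Tr.nd (nat_lit 48907) (Tr.lf (nat_lit 48889)) (Tr.lf (nat_lit 48907))))) (Tr.nd (nat_lit 48991) (Tr.nd (nat_lit 48973) (Tr.nd (nat_lit 48953) (Tr.lf (nat_lit 48947)) (Tr.lf (nat_lit 48953))) (Tr.nd (nat_lit 48989) (Tr.lf (nat_lit 48973)) (Tr.lf (nat_lit 48989)))) (Tr.nd (nat_lit 49009) (Tr.nd (nat_lit 49003) (Tr.lf (nat_lit 48991)) (Tr.lf (nat_lit 49003))) (Tr.nd (nat_lit 49019) (Tr.lf (nat_lit 49009)) (Tr.lf (nat_lit 49019)))))) (Tr.nd (nat_lit 49109) (Tr.nd (nat_lit 49057) (Tr.nd (nat_lit 49037) (Tr.nd (nat_lit 49033) (Tr.lf (nat_lit 49031)) (Tr.lf (nat_lit 49033))) (Tr.nd (nat_lit 49043) (Tr.lf (nat_lit 49037)) (Tr.lf (nat_lit 49043)))) (Tr.nd (nat_lit 49081) (Tr.nd (nat_lit 49069) (Tr.lf (nat_lit 49057)) (Tr.lf (nat_lit 49069))) (Tr.nd (nat_lit 49103) (Tr.lf (nat_lit 49081)) (Tr.lf (nat_lit 49103))))) (Tr.nd (nat_lit 49139) (Tr.nd (nat_lit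 49121) (Tr.nd (nat_lit 49117) (Tr.lf (nat_lit 49109)) (Tr.lf (nat_lit 49117))) (Tr.nd (nat_lit 49123) (Tr.lf (nat_lit 49121)) (Tr.lf (nat_lit 49123)))) (Tr.nd (nat_lit 49169) (Tr.nd (nat_lit 49157) (Tr.lf (nat_lit 49139)) (Tr.lf (nat_lit 49157))) (Tr.nd (nat_lit 49171) (Tr.lf (nat_lit 49169)) (Tr.nd (nat_lit 49177) (Tr.lf (nat_lit 49171)) (Tr.lf (nat_lit 49177)))))))))))) (Tr.nd (nat_lit 51929) (Tr.nd (nat_lit 50543) (Tr.nd (nat_lit 49853) (Tr.nd (nat_lit 49529) (Tr.nd (nat_lit 49367) (Tr.nd (nat_lit 49277) (Tr.nd (nat_lit 49211) (Tr.nd (nat_lit 49201) (Tr.nd (nat_lit 49199) (Tr.lf (nat_lit 49193)) (Tr.lf (nat_lit 49199))) (Tr.nd (nat_lit 49207) (Tr.lf (nat_lit 49201)) (Tr.lf (nat_lit 49207)))) (Tr.nd (nat_lit 49253) (Tr.nd (nat_lit 49223) (Tr.lf (nat_lit 49211)) (Tr.lf (nat_lit 49223))) (Tr.nd (nat_lit 49261) (Tr.lf (nat_lit 49253)) (Tr.lf (nat_lit 49261)))))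 (Tr.nd (nat_lit 49331) (Tr.nd (nat_lit 49297) (Tr.nd (nat_lit 49279) (Tr.lf (nat_lit 49277)) (Tr.lf (nat_lit 49279))) (Tr.nd (nat_lit 49307) (Tr.lf (nat_lit 49297)) (Tr.lf (nat_lit 49307)))) (Tr.nd (nat_lit 49339) (Tr.nd (nat_lit 49333) (Tr.lf (nat_lit 49331)) (Tr.lf (nat_lit 49333))) (Tr.nd (nat_lit 49363) (Tr.lf (nat_lit 49339)) (Tr.lf (nat_lit 49363)))))) (Tr.nd (nat_lit 49433) (Tr.nd (nat_lit 49409) (Tr.nd (nat_lit 49391) (Tr.nd (nat_lit 49369) (Tr.lf (nat_lit 49367)) (Tr.lf (nat_lit 49369))) (Tr.nd (nat_lit 49393) (Tr.lf (nat_lit 49391)) (Tr.lf (nat_lit 49393)))) (Tr.nd (nat_lit 49417) (Tr.nd (nat_lit 49411) (Tr.lf (nat_lit 49409)) (Tr.lf (nat_lit 49411))) (Tr.nd (nat_lit 49429) (Tr.lf (nat_lit 49417)) (Tr.lf (nat_lit 49429))))) (Tr.nd (nat_lit 49477) (Tr.nd (nat_lit 49459) (Tr.nd (nat_lit 49451) (Tr.lf (nat_lit 49433)) (Tr.lf (nat_lit 49451))) (Tr.nd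 (nat_lit 49463) (Tr.lf (nat_lit 49459)) (Tr.lf (nat_lit 49463)))) (Tr.nd (nat_lit 49499) (Tr.nd (nat_lit 49481) (Tr.lf (nat_lit 49477)) (Tr.lf (nat_lit 49481))) (Tr.nd (nat_lit 49523) (Tr.lf (nat_lit 49499)) (Tr.lf (nat_lit 49523))))))) (Tr.nd (nat_lit 49697) (Tr.nd (nat_lit 49613) (Tr.nd (nat_lit 49549) (Tr.nd (nat_lit 49537) (Tr.nd (nat_lit 49531) (Tr.lf (nat_lit 49529)) (Tr.lf (nat_lit 49531))) (Tr.nd (nat_lit 49547) (Tr.lf (nat_lit 49537)) (Tr.lf (nat_lit 49547)))) (Tr.nd (nat_lit 49597) (Tr.nd (nat_lit 49559) (Tr.lf (nat_lit 49549)) (Tr.lf (nat_lit 49559))) (Tr.nd (nat_lit 49603) (Tr.lf (nat_lit 49597)) (Tr.lf (nat_lit 49603))))) (Tr.nd (nat_lit 49663) (Tr.nd (nat_lit 49633) (Tr.nd (nat_lit 49627) (Tr.lf (nat_lit 49613)) (Tr.lf (nat_lit 49627))) (Tr.nd (nat_lit 49639) (Tr.lf (nat_lit 49633)) (Tr.lf (nat_lit 49639)))) (Tr.nd (nat_lit 49669) (Tr.nd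 (nat_lit 49667) (Tr.lf (nat_lit 49663)) (Tr.lf (nat_lit 49667))) (Tr.nd (nat_lit 49681) (Tr.lf (nat_lit 49669)) (Tr.lf (nat_lit 49681)))))) (Tr.nd (nat_lit 49787) (Tr.nd (nat_lit 49741) (Tr.nd (nat_lit 49727) (Tr.nd (nat_lit 49711) (Tr.lf (nat_lit 49697)) (Tr.lf (nat_lit 49711))) (Tr.nd (nat_lit 49739) (Tr.lf (nat_lit 49727)) (Tr.lf (nat_lit 49739)))) (Tr.nd (nat_lit 49757) (Tr.nd (nat_lit 49747) (Tr.lf (nat_lit 49741)) (Tr.lf (nat_lit 49747))) (Tr.nd (nat_lit 49783) (Tr.lf (nat_lit 49757)) (Tr.lf (nat_lit 49783))))) (Tr.nd (nat_lit 49811) (Tr.nd (nat_lit 49801) (Tr.nd (nat_lit 49789) (Tr.lf (nat_lit 49787)) (Tr.lf (nat_lit 49789))) (Tr.nd (nat_lit 49807) (Tr.lf (nat_lit 49801)) (Tr.lf (nat_lit 49807)))) (Tr.nd (nat_lit 49831) (Tr.nd (nat_lit 49823) (Tr.lf (nat_lit 49811)) (Tr.lf (nat_lit 49823))) (Tr.nd (nat_lit 49843) (Tr.lf (nat_lit 49831)) (Tr.lf (nat_lit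 49843)))))))) (Tr.nd (nat_lit 50159) (Tr.nd (nat_lit 50033) (Tr.nd (nat_lit 49939) (Tr.nd (nat_lit 49919) (Tr.nd (nat_lit 49877) (Tr.nd (nat_lit 49871) (Tr.lf (nat_lit 49853)) (Tr.lf (nat_lit 49871))) (Tr.nd (nat_lit 49891) (Tr.lf (nat_lit 49877)) (Tr.lf (nat_lit 49891)))) (Tr.nd (nat_lit 49927) (Tr.nd (nat_lit 49921) (Tr.lf (nat_lit 49919)) (Tr.lf (nat_lit 49921))) (Tr.nd (nat_lit 49937) (Tr.lf (nat_lit 49927)) (Tr.lf (nat_lit 49937))))) (Tr.nd (nat_lit 49993) (Tr.nd (nat_lit 49957) (Tr.nd (nat_lit 49943) (Tr.lf (nat_lit 49939)) (Tr.lf (nat_lit 49943))) (Tr.nd (nat_lit 49991) (Tr.lf (nat_lit 49957)) (Tr.lf (nat_lit 49991)))) (Tr.nd (nat_lit 50021) (Tr.nd (nat_lit 49999) (Tr.lf (nat_lit 49993)) (Tr.lf (nat_lit 49999))) (Tr.nd (nat_lit 50023) (Tr.lf (nat_lit 50021)) (Tr.lf (nat_lit 50023)))))) (Tr.nd (nat_lit 50101) (Tr.nd (nat_lit 50069) (Tr.nd (nat_lit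 50051) (Tr.nd (nat_lit 50047) (Tr.lf (nat_lit 50033)) (Tr.lf (nat_lit 50047))) (Tr.nd (nat_lit 50053) (Tr.lf (nat_lit 50051)) (Tr.lf (nat_lit 50053)))) (Tr.nd (nat_lit 50087) (Tr.nd (nat_lit 50077) (Tr.lf (nat_lit 50069)) (Tr.lf (nat_lit 50077))) (Tr.nd (nat_lit 50093) (Tr.lf (nat_lit 50087)) (Tr.lf (nat_lit 50093))))) (Tr.nd (nat_lit 50129) (Tr.nd (nat_lit 50119) (Tr.nd (nat_lit 50111) (Tr.lf (nat_lit 50101)) (Tr.lf (nat_lit 50111))) (Tr.nd (nat_lit 50123) (Tr.lf (nat_lit 50119)) (Tr.lf (nat_lit 50123)))) (Tr.nd (nat_lit 50147) (Tr.nd (nat_lit 50131) (Tr.lf (nat_lit 50129)) (Tr.lf (nat_lit 50131))) (Tr.nd (nat_lit 50153) (Tr.lf (nat_lit 50147)) (Tr.lf (nat_lit 50153))))))) (Tr.nd (nat_lit 50359) (Tr.nd (nat_lit 50273) (Tr.nd (nat_lit 50227) (Tr.nd (nat_lit 50207) (Tr.nd (nat_lit 50177) (Tr.lf (nat_lit 50159)) (Tr.lf (nat_lit 50177))) (Tr.nd (nat_lit 50221)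 (Tr.lf (nat_lit 50207)) (Tr.lf (nat_lit 50221)))) (Tr.nd (nat_lit 50261) (Tr.nd (nat_lit 50231) (Tr.lf (nat_lit 50227)) (Tr.lf (nat_lit 50231))) (Tr.nd (nat_lit 50263) (Tr.lf (nat_lit 50261)) (Tr.lf (nat_lit 50263))))) (Tr.nd (nat_lit 50321) (Tr.nd (nat_lit 50291) (Tr.nd (nat_lit 50287) (Tr.lf (nat_lit 50273)) (Tr.lf (nat_lit 50287))) (Tr.nd (nat_lit 50311) (Tr.lf (nat_lit 50291)) (Tr.lf (nat_lit 50311)))) (Tr.nd (nat_lit 50333) (Tr.nd (nat_lit 50329) (Tr.lf (nat_lit 50321)) (Tr.lf (nat_lit 50329))) (Tr.nd (nat_lit 50341) (Tr.lf (nat_lit 50333)) (Tr.lf (nat_lit 50341)))))) (Tr.nd (nat_lit 50441) (Tr.nd (nat_lit 50387) (Tr.nd (nat_lit 50377) (Tr.nd (nat_lit 50363) (Tr.lf (nat_lit 50359)) (Tr.lf (nat_lit 50363))) (Tr.nd (nat_lit 50383) (Tr.lf (nat_lit 50377)) (Tr.lf (nat_lit 50383)))) (Tr.nd (nat_lit 50417) (Tr.nd (nat_lit 50411) (Tr.lf (nat_lit 50387))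 (Tr.lf (nat_lit 50411))) (Tr.nd (nat_lit 50423) (Tr.lf (nat_lit 50417)) (Tr.lf (nat_lit 50423))))) (Tr.nd (nat_lit 50503) (Tr.nd (nat_lit 50461) (Tr.nd (nat_lit 50459) (Tr.lf (nat_lit 50441)) (Tr.lf (nat_lit 50459))) (Tr.nd (nat_lit 50497) (Tr.lf (nat_lit 50461)) (Tr.lf (nat_lit 50497)))) (Tr.nd (nat_lit 50527) (Tr.nd (nat_lit 50513) (Tr.lf (nat_lit 50503)) (Tr.lf (nat_lit 50513))) (Tr.nd (nat_lit 50539) (Tr.lf (nat_lit 50527)) (Tr.lf (nat_lit 50539))))))))) (Tr.nd (nat_lit 51287) (Tr.nd (nat_lit 50929) (Tr.nd (nat_lit 50753) (Tr.nd (nat_lit 50627) (Tr.nd (nat_lit 50587) (Tr.nd (nat_lit 50551) (Tr.nd (nat_lit 50549) (Tr.lf (nat_lit 50543)) (Tr.lf (nat_lit 50549))) (Tr.nd (nat_lit 50581) (Tr.lf (nat_lit 50551)) (Tr.lf (nat_lit 50581)))) (Tr.nd (nat_lit 50593) (Tr.nd (nat_lit 50591) (Tr.lf (nat_lit 50587)) (Tr.lf (nat_lit 50591))) (Tr.nd (nat_lit 50599)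 (Tr.lf (nat_lit 50593)) (Tr.lf (nat_lit 50599))))) (Tr.nd (nat_lit 50683) (Tr.nd (nat_lit 50651) (Tr.nd (nat_lit 50647) (Tr.lf (nat_lit 50627)) (Tr.lf (nat_lit 50647))) (Tr.nd (nat_lit 50671) (Tr.lf (nat_lit 50651)) (Tr.lf (nat_lit 50671)))) (Tr.nd (nat_lit 50723) (Tr.nd (nat_lit 50707) (Tr.lf (nat_lit 50683)) (Tr.lf (nat_lit 50707))) (Tr.nd (nat_lit 50741) (Tr.lf (nat_lit 50723)) (Tr.lf (nat_lit 50741)))))) (Tr.nd (nat_lit 50849) (Tr.nd (nat_lit 50789) (Tr.nd (nat_lit 50773) (Tr.nd (nat_lit 50767) (Tr.lf (nat_lit 50753)) (Tr.lf (nat_lit 50767))) (Tr.nd (nat_lit 50777) (Tr.lf (nat_lit 50773)) (Tr.lf (nat_lit 50777)))) (Tr.nd (nat_lit 50833) (Tr.nd (nat_lit 50821) (Tr.lf (nat_lit 50789)) (Tr.lf (nat_lit 50821))) (Tr.nd (nat_lit 50839) (Tr.lf (nat_lit 50833)) (Tr.lf (nat_lit 50839))))) (Tr.nd (nat_lit 50891) (Tr.nd (nat_lit 50867) (Tr.nd (nat_lit 50857)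 (Tr.lf (nat_lit 50849)) (Tr.lf (nat_lit 50857))) (Tr.nd (nat_lit 50873) (Tr.lf (nat_lit 50867)) (Tr.lf (nat_lit 50873)))) (Tr.nd (nat_lit 50909) (Tr.nd (nat_lit 50893) (Tr.lf (nat_lit 50891)) (Tr.lf (nat_lit 50893))) (Tr.nd (nat_lit 50923) (Tr.lf (nat_lit 50909)) (Tr.lf (nat_lit 50923))))))) (Tr.nd (nat_lit 51133) (Tr.nd (nat_lit 51031) (Tr.nd (nat_lit 50971) (Tr.nd (nat_lit 50957) (Tr.nd (nat_lit 50951) (Tr.lf (nat_lit 50929)) (Tr.lf (nat_lit 50951))) (Tr.nd (nat_lit 50969) (Tr.lf (nat_lit 50957)) (Tr.lf (nat_lit 50969)))) (Tr.nd (nat_lit 50993) (Tr.nd (nat_lit 50989) (Tr.lf (nat_lit 50971)) (Tr.lf (nat_lit 50989))) (Tr.nd (nat_lit 51001) (Tr.lf (nat_lit 50993)) (Tr.lf (nat_lit 51001))))) (Tr.nd (nat_lit 51061) (Tr.nd (nat_lit 51047) (Tr.nd (nat_lit 51043) (Tr.lf (nat_lit 51031)) (Tr.lf (nat_lit 51043))) (Tr.nd (nat_lit 51059) (Tr.lf (nat_lit 51047))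 (Tr.lf (nat_lit 51059)))) (Tr.nd (nat_lit 51109) (Tr.nd (nat_lit 51071) (Tr.lf (nat_lit 51061)) (Tr.lf (nat_lit 51071))) (Tr.nd (nat_lit 51131) (Tr.lf (nat_lit 51109)) (Tr.lf (nat_lit 51131)))))) (Tr.nd (nat_lit 51203) (Tr.nd (nat_lit 51169) (Tr.nd (nat_lit 51151) (Tr.nd (nat_lit 51137) (Tr.lf (nat_lit 51133)) (Tr.lf (nat_lit 51137))) (Tr.nd (nat_lit 51157) (Tr.lf (nat_lit 51151)) (Tr.lf (nat_lit 51157)))) (Tr.nd (nat_lit 51197) (Tr.nd (nat_lit 51193) (Tr.lf (nat_lit 51169)) (Tr.lf (nat_lit 51193))) (Tr.nd (nat_lit 51199) (Tr.lf (nat_lit 51197)) (Tr.lf (nat_lit 51199))))) (Tr.nd (nat_lit 51241) (Tr.nd (nat_lit 51229) (Tr.nd (nat_lit 51217) (Tr.lf (nat_lit 51203)) (Tr.lf (nat_lit 51217))) (Tr.nd (nat_lit 51239) (Tr.lf (nat_lit 51229)) (Tr.lf (nat_lit 51239)))) (Tr.nd (nat_lit 51263) (Tr.nd (nat_lit 51257) (Tr.lf (nat_lit 51241)) (Tr.lf (nat_lit 51257)))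 (Tr.nd (nat_lit 51283) (Tr.lf (nat_lit 51263)) (Tr.lf (nat_lit 51283)))))))) (Tr.nd (nat_lit 51593) (Tr.nd (nat_lit 51439) (Tr.nd (nat_lit 51383) (Tr.nd (nat_lit 51343) (Tr.nd (nat_lit 51329) (Tr.nd (nat_lit 51307) (Tr.lf (nat_lit 51287)) (Tr.lf (nat_lit 51307))) (Tr.nd (nat_lit 51341) (Tr.lf (nat_lit 51329)) (Tr.lf (nat_lit 51341)))) (Tr.nd (nat_lit 51349) (Tr.nd (nat_lit 51347) (Tr.lf (nat_lit 51343)) (Tr.lf (nat_lit 51347))) (Tr.nd (nat_lit 51361) (Tr.lf (nat_lit 51349)) (Tr.lf (nat_lit 51361))))) (Tr.nd (nat_lit 51421) (Tr.nd (nat_lit 51413) (Tr.nd (nat_lit 51407) (Tr.lf (nat_lit 51383)) (Tr.lf (nat_lit 51407))) (Tr.nd (nat_lit 51419) (Tr.lf (nat_lit 51413)) (Tr.lf (nat_lit 51419)))) (Tr.nd (nat_lit 51431) (Tr.nd (nat_lit 51427) (Tr.lf (nat_lit 51421)) (Tr.lf (nat_lit 51427))) (Tr.nd (nat_lit 51437) (Tr.lf (nat_lit 51431)) (Tr.lf (nat_lit 51437))))))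 (Tr.nd (nat_lit 51511) (Tr.nd (nat_lit 51479) (Tr.nd (nat_lit 51461) (Tr.nd (nat_lit 51449) (Tr.lf (nat_lit 51439)) (Tr.lf (nat_lit 51449))) (Tr.nd (nat_lit 51473) (Tr.lf (nat_lit 51461)) (Tr.lf (nat_lit 51473)))) (Tr.nd (nat_lit 51487) (Tr.nd (nat_lit 51481) (Tr.lf (nat_lit 51479)) (Tr.lf (nat_lit 51481))) (Tr.nd (nat_lit 51503) (Tr.lf (nat_lit 51487)) (Tr.lf (nat_lit 51503))))) (Tr.nd (nat_lit 51551) (Tr.nd (nat_lit 51521) (Tr.nd (nat_lit 51517) (Tr.lf (nat_lit 51511)) (Tr.lf (nat_lit 51517))) (Tr.nd (nat_lit 51539) (Tr.lf (nat_lit 51521)) (Tr.lf (nat_lit 51539)))) (Tr.nd (nat_lit 51577) (Tr.nd (nat_lit 51563) (Tr.lf (nat_lit 51551)) (Tr.lf (nat_lit 51563))) (Tr.nd (nat_lit 51581) (Tr.lf (nat_lit 51577)) (Tr.lf (nat_lit 51581))))))) (Tr.nd (nat_lit 51767) (Tr.nd (nat_lit 51673) (Tr.nd (nat_lit 51631) (Tr.nd (nat_lit 51607) (Tr.nd (nat_lit 51599) (Tr.lf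 (nat_lit 51593)) (Tr.lf (nat_lit 51599))) (Tr.nd (nat_lit 51613) (Tr.lf (nat_lit 51607)) (Tr.lf (nat_lit 51613)))) (Tr.nd (nat_lit 51647) (Tr.nd (nat_lit 51637) (Tr.lf (nat_lit 51631)) (Tr.lf (nat_lit 51637))) (Tr.nd (nat_lit 51659) (Tr.lf (nat_lit 51647)) (Tr.lf (nat_lit 51659))))) (Tr.nd (nat_lit 51713) (Tr.nd (nat_lit 51683) (Tr.nd (nat_lit 51679) (Tr.lf (nat_lit 51673)) (Tr.lf (nat_lit 51679))) (Tr.nd (nat_lit 51691) (Tr.lf (nat_lit 51683)) (Tr.lf (nat_lit 51691)))) (Tr.nd (nat_lit 51721) (Tr.nd (nat_lit 51719) (Tr.lf (nat_lit 51713)) (Tr.lf (nat_lit 51719))) (Tr.nd (nat_lit 51749) (Tr.lf (nat_lit 51721)) (Tr.lf (nat_lit 51749)))))) (Tr.nd (nat_lit 51839) (Tr.nd (nat_lit 51803) (Tr.nd (nat_lit 51787) (Tr.nd (nat_lit 51769) (Tr.lf (nat_lit 51767)) (Tr.lf (nat_lit 51769))) (Tr.nd (nat_lit 51797) (Tr.lf (nat_lit 51787)) (Tr.lf (nat_lit 51797)))) (Tr.nd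 (nat_lit 51827) (Tr.nd (nat_lit 51817) (Tr.lf (nat_lit 51803)) (Tr.lf (nat_lit 51817))) (Tr.nd (nat_lit 51829) (Tr.lf (nat_lit 51827)) (Tr.lf (nat_lit 51829))))) (Tr.nd (nat_lit 51871) (Tr.nd (nat_lit 51859) (Tr.nd (nat_lit 51853) (Tr.lf (nat_lit 51839)) (Tr.lf (nat_lit 51853))) (Tr.nd (nat_lit 51869) (Tr.lf (nat_lit 51859)) (Tr.lf (nat_lit 51869)))) (Tr.nd (nat_lit 51899) (Tr.nd (nat_lit 51893) (Tr.lf (nat_lit 51871)) (Tr.lf (nat_lit 51893))) (Tr.nd (nat_lit 51907) (Tr.lf (nat_lit 51899)) (Tr.nd (nat_lit 51913) (Tr.lf (nat_lit 51907)) (Tr.lf (nat_lit 51913))))))))))) (Tr.nd (nat_lit 53359) (Tr.nd (nat_lit 52673) (Tr.nd (nat_lit 52289) (Tr.nd (nat_lit 52121) (Tr.nd (nat_lit 52021) (Tr.nd (nat_lit 51973) (Tr.nd (nat_lit 51949) (Tr.nd (nat_lit 51941) (Tr.lf (nat_lit 51929)) (Tr.lf (nat_lit 51941))) (Tr.nd (nat_lit 51971) (Tr.lf (nat_lit 51949)) (Tr.lf (nat_lit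 51971)))) (Tr.nd (nat_lit 51991) (Tr.nd (nat_lit 51977) (Tr.lf (nat_lit 51973)) (Tr.lf (nat_lit 51977))) (Tr.nd (nat_lit 52009) (Tr.lf (nat_lit 51991)) (Tr.lf (nat_lit 52009))))) (Tr.nd (nat_lit 52067) (Tr.nd (nat_lit 52051) (Tr.nd (nat_lit 52027) (Tr.lf (nat_lit 52021)) (Tr.lf (nat_lit 52027))) (Tr.nd (nat_lit 52057) (Tr.lf (nat_lit 52051)) (Tr.lf (nat_lit 52057)))) (Tr.nd (nat_lit 52081) (Tr.nd (nat_lit 52069) (Tr.lf (nat_lit 52067)) (Tr.lf (nat_lit 52069))) (Tr.nd (nat_lit 52103) (Tr.lf (nat_lit 52081)) (Tr.lf (nat_lit 52103)))))) (Tr.nd (nat_lit 52189) (Tr.nd (nat_lit 52163) (Tr.nd (nat_lit 52147) (Tr.nd (nat_lit 52127) (Tr.lf (nat_lit 52121)) (Tr.lf (nat_lit 52127))) (Tr.nd (nat_lit 52153) (Tr.lf (nat_lit 52147)) (Tr.lf (nat_lit 52153)))) (Tr.nd (nat_lit 52181) (Tr.nd (nat_lit 52177) (Tr.lf (nat_lit 52163)) (Tr.lf (nat_lit 52177))) (Tr.nd (nat_lit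 52183) (Tr.lf (nat_lit 52181)) (Tr.lf (nat_lit 52183))))) (Tr.nd (nat_lit 52249) (Tr.nd (nat_lit 52223) (Tr.nd (nat_lit 52201) (Tr.lf (nat_lit 52189)) (Tr.lf (nat_lit 52201))) (Tr.nd (nat_lit 52237) (Tr.lf (nat_lit 52223)) (Tr.lf (nat_lit 52237)))) (Tr.nd (nat_lit 52259) (Tr.nd (nat_lit 52253) (Tr.lf (nat_lit 52249)) (Tr.lf (nat_lit 52253))) (Tr.nd (nat_lit 52267) (Tr.lf (nat_lit 52259)) (Tr.lf (nat_lit 52267))))))) (Tr.nd (nat_lit 52511) (Tr.nd (nat_lit 52379) (Tr.nd (nat_lit 52321) (Tr.nd (nat_lit 52301) (Tr.nd (nat_lit 52291) (Tr.lf (nat_lit 52289)) (Tr.lf (nat_lit 52291))) (Tr.nd (nat_lit 52313) (Tr.lf (nat_lit 52301)) (Tr.lf (nat_lit 52313)))) (Tr.nd (nat_lit 52363) (Tr.nd (nat_lit 52361) (Tr.lf (nat_lit 52321)) (Tr.lf (nat_lit 52361))) (Tr.nd (nat_lit 52369) (Tr.lf (nat_lit 52363)) (Tr.lf (nat_lit 52369))))) (Tr.nd (nat_lit 52453) (Tr.nd (nat_lit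 52391) (Tr.nd (nat_lit 52387) (Tr.lf (nat_lit 52379)) (Tr.lf (nat_lit 52387))) (Tr.nd (nat_lit 52433) (Tr.lf (nat_lit 52391)) (Tr.lf (nat_lit 52433)))) (Tr.nd (nat_lit 52489) (Tr.nd (nat_lit 52457) (Tr.lf (nat_lit 52453)) (Tr.lf (nat_lit 52457))) (Tr.nd (nat_lit 52501) (Tr.lf (nat_lit 52489)) (Tr.lf (nat_lit 52501)))))) (Tr.nd (nat_lit 52571) (Tr.nd (nat_lit 52543) (Tr.nd (nat_lit 52529) (Tr.nd (nat_lit 52517) (Tr.lf (nat_lit 52511)) (Tr.lf (nat_lit 52517))) (Tr.nd (nat_lit 52541) (Tr.lf (nat_lit 52529)) (Tr.lf (nat_lit 52541)))) (Tr.nd (nat_lit 52561) (Tr.nd (nat_lit 52553) (Tr.lf (nat_lit 52543)) (Tr.lf (nat_lit 52553))) (Tr.nd (nat_lit 52567) (Tr.lf (nat_lit 52561)) (Tr.lf (nat_lit 52567))))) (Tr.nd (nat_lit 52627) (Tr.nd (nat_lit 52583) (Tr.nd (nat_lit 52579) (Tr.lf (nat_lit 52571)) (Tr.lf (nat_lit 52579))) (Tr.nd (nat_lit 52609) (Tr.lf (nat_lit 52583))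 (Tr.lf (nat_lit 52609)))) (Tr.nd (nat_lit 52639) (Tr.nd (nat_lit 52631) (Tr.lf (nat_lit 52627)) (Tr.lf (nat_lit 52631))) (Tr.nd (nat_lit 52667) (Tr.lf (nat_lit 52639)) (Tr.lf (nat_lit 52667)))))))) (Tr.nd (nat_lit 53003) (Tr.nd (nat_lit 52859) (Tr.nd (nat_lit 52747) (Tr.nd (nat_lit 52711) (Tr.nd (nat_lit 52697) (Tr.nd (nat_lit 52691) (Tr.lf (nat_lit 52673)) (Tr.lf (nat_lit 52691))) (Tr.nd (nat_lit 52709) (Tr.lf (nat_lit 52697)) (Tr.lf (nat_lit 52709)))) (Tr.nd (nat_lit 52727) (Tr.nd (nat_lit 52721) (Tr.lf (nat_lit 52711)) (Tr.lf (nat_lit 52721))) (Tr.nd (nat_lit 52733) (Tr.lf (nat_lit 52727)) (Tr.lf (nat_lit 52733))))) (Tr.nd (nat_lit 52807) (Tr.nd (nat_lit 52769) (Tr.nd (nat_lit 52757) (Tr.lf (nat_lit 52747)) (Tr.lf (nat_lit 52757))) (Tr.nd (nat_lit 52783) (Tr.lf (nat_lit 52769)) (Tr.lf (nat_lit 52783)))) (Tr.nd (nat_lit 52817) (Tr.nd (nat_lit 52813)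 (Tr.lf (nat_lit 52807)) (Tr.lf (nat_lit 52813))) (Tr.nd (nat_lit 52837) (Tr.lf (nat_lit 52817)) (Tr.lf (nat_lit 52837)))))) (Tr.nd (nat_lit 52937) (Tr.nd (nat_lit 52889) (Tr.nd (nat_lit 52879) (Tr.nd (nat_lit 52861) (Tr.lf (nat_lit 52859)) (Tr.lf (nat_lit 52861))) (Tr.nd (nat_lit 52883) (Tr.lf (nat_lit 52879)) (Tr.lf (nat_lit 52883)))) (Tr.nd (nat_lit 52903) (Tr.nd (nat_lit 52901) (Tr.lf (nat_lit 52889)) (Tr.lf (nat_lit 52901))) (Tr.nd (nat_lit 52919) (Tr.lf (nat_lit 52903)) (Tr.lf (nat_lit 52919))))) (Tr.nd (nat_lit 52967) (Tr.nd (nat_lit 52957) (Tr.nd (nat_lit 52951) (Tr.lf (nat_lit 52937)) (Tr.lf (nat_lit 52951))) (Tr.nd (nat_lit 52963) (Tr.lf (nat_lit 52957)) (Tr.lf (nat_lit 52963)))) (Tr.nd (nat_lit 52981) (Tr.nd (nat_lit 52973) (Tr.lf (nat_lit 52967)) (Tr.lf (nat_lit 52973))) (Tr.nd (nat_lit 52999) (Tr.lf (nat_lit 52981)) (Tr.lf (nat_lit 52999)))))))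 (Tr.nd (nat_lit 53171) (Tr.nd (nat_lit 53093) (Tr.nd (nat_lit 53069) (Tr.nd (nat_lit 53047) (Tr.nd (nat_lit 53017) (Tr.lf (nat_lit 53003)) (Tr.lf (nat_lit 53017))) (Tr.nd (nat_lit 53051) (Tr.lf (nat_lit 53047)) (Tr.lf (nat_lit 53051)))) (Tr.nd (nat_lit 53087) (Tr.nd (nat_lit 53077) (Tr.lf (nat_lit 53069)) (Tr.lf (nat_lit 53077))) (Tr.nd (nat_lit 53089) (Tr.lf (nat_lit 53087)) (Tr.lf (nat_lit 53089))))) (Tr.nd (nat_lit 53129) (Tr.nd (nat_lit 53113) (Tr.nd (nat_lit 53101) (Tr.lf (nat_lit 53093)) (Tr.lf (nat_lit 53101))) (Tr.nd (nat_lit 53117) (Tr.lf (nat_lit 53113)) (Tr.lf (nat_lit 53117)))) (Tr.nd (nat_lit 53149) (Tr.nd (nat_lit 53147) (Tr.lf (nat_lit 53129)) (Tr.lf (nat_lit 53147))) (Tr.nd (nat_lit 53161) (Tr.lf (nat_lit 53149)) (Tr.lf (nat_lit 53161)))))) (Tr.nd (nat_lit 53267) (Tr.nd (nat_lit 53201) (Tr.nd (nat_lit 53189) (Tr.nd (nat_lit 53173) (Tr.lf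 (nat_lit 53171)) (Tr.lf (nat_lit 53173))) (Tr.nd (nat_lit 53197) (Tr.lf (nat_lit 53189)) (Tr.lf (nat_lit 53197)))) (Tr.nd (nat_lit 53233) (Tr.nd (nat_lit 53231) (Tr.lf (nat_lit 53201)) (Tr.lf (nat_lit 53231))) (Tr.nd (nat_lit 53239) (Tr.lf (nat_lit 53233)) (Tr.lf (nat_lit 53239))))) (Tr.nd (nat_lit 53299) (Tr.nd (nat_lit 53279) (Tr.nd (nat_lit 53269) (Tr.lf (nat_lit 53267)) (Tr.lf (nat_lit 53269))) (Tr.nd (nat_lit 53281) (Tr.lf (nat_lit 53279)) (Tr.lf (nat_lit 53281)))) (Tr.nd (nat_lit 53323) (Tr.nd (nat_lit 53309) (Tr.lf (nat_lit 53299)) (Tr.lf (nat_lit 53309))) (Tr.nd (nat_lit 53327) (Tr.lf (nat_lit 53323)) (Tr.nd (nat_lit 53353) (Tr.lf (nat_lit 53327)) (Tr.lf (nat_lit 53353)))))))))) (Tr.nd (nat_lit 54059) (Tr.nd (nat_lit 53717) (Tr.nd (nat_lit 53569) (Tr.nd (nat_lit 53441) (Tr.nd (nat_lit 53407) (Tr.nd (nat_lit 53381) (Tr.nd (nat_lit 53377) (Tr.lf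 (nat_lit 53359)) (Tr.lf (nat_lit 53377))) (Tr.nd (nat_lit 53401) (Tr.lf (nat_lit 53381)) (Tr.lf (nat_lit 53401)))) (Tr.nd (nat_lit 53419) (Tr.nd (nat_lit 53411) (Tr.lf (nat_lit 53407)) (Tr.lf (nat_lit 53411))) (Tr.nd (nat_lit 53437) (Tr.lf (nat_lit 53419)) (Tr.lf (nat_lit 53437))))) (Tr.nd (nat_lit 53507) (Tr.nd (nat_lit 53479) (Tr.nd (nat_lit 53453) (Tr.lf (nat_lit 53441)) (Tr.lf (nat_lit 53453))) (Tr.nd (nat_lit 53503) (Tr.lf (nat_lit 53479)) (Tr.lf (nat_lit 53503)))) (Tr.nd (nat_lit 53549) (Tr.nd (nat_lit 53527) (Tr.lf (nat_lit 53507)) (Tr.lf (nat_lit 53527))) (Tr.nd (nat_lit 53551) (Tr.lf (nat_lit 53549)) (Tr.lf (nat_lit 53551)))))) (Tr.nd (nat_lit 53629) (Tr.nd (nat_lit 53609) (Tr.nd (nat_lit 53593) (Tr.nd (nat_lit 53591) (Tr.lf (nat_lit 53569)) (Tr.lf (nat_lit 53591))) (Tr.nd (nat_lit 53597) (Tr.lf (nat_lit 53593)) (Tr.lf (nat_lit 53597)))) (Tr.nd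 (nat_lit 53617) (Tr.nd (nat_lit 53611) (Tr.lf (nat_lit 53609)) (Tr.lf (nat_lit 53611))) (Tr.nd (nat_lit 53623) (Tr.lf (nat_lit 53617)) (Tr.lf (nat_lit 53623))))) (Tr.nd (nat_lit 53657) (Tr.nd (nat_lit 53639) (Tr.nd (nat_lit 53633) (Tr.lf (nat_lit 53629)) (Tr.lf (nat_lit 53633))) (Tr.nd (nat_lit 53653) (Tr.lf (nat_lit 53639)) (Tr.lf (nat_lit 53653)))) (Tr.nd (nat_lit 53693) (Tr.nd (nat_lit 53681) (Tr.lf (nat_lit 53657)) (Tr.lf (nat_lit 53681))) (Tr.nd (nat_lit 53699) (Tr.lf (nat_lit 53693)) (Tr.lf (nat_lit 53699))))))) (Tr.nd (nat_lit 53891) (Tr.nd (nat_lit 53813) (Tr.nd (nat_lit 53773) (Tr.nd (nat_lit 53731) (Tr.nd (nat_lit 53719) (Tr.lf (nat_lit 53717)) (Tr.lf (nat_lit 53719))) (Tr.nd (nat_lit 53759) (Tr.lf (nat_lit 53731)) (Tr.lf (nat_lit 53759)))) (Tr.nd (nat_lit 53783) (Tr.nd (nat_lit 53777) (Tr.lf (nat_lit 53773)) (Tr.lf (nat_lit 53777))) (Tr.nd (nat_lit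 53791) (Tr.lf (nat_lit 53783)) (Tr.lf (nat_lit 53791))))) (Tr.nd (nat_lit 53857) (Tr.nd (nat_lit 53831) (Tr.nd (nat_lit 53819) (Tr.lf (nat_lit 53813)) (Tr.lf (nat_lit 53819))) (Tr.nd (nat_lit 53849) (Tr.lf (nat_lit 53831)) (Tr.lf (nat_lit 53849)))) (Tr.nd (nat_lit 53881) (Tr.nd (nat_lit 53861) (Tr.lf (nat_lit 53857)) (Tr.lf (nat_lit 53861))) (Tr.nd (nat_lit 53887) (Tr.lf (nat_lit 53881)) (Tr.lf (nat_lit 53887)))))) (Tr.nd (nat_lit 53959) (Tr.nd (nat_lit 53923) (Tr.nd (nat_lit 53899) (Tr.nd (nat_lit 53897) (Tr.lf (nat_lit 53891)) (Tr.lf (nat_lit 53897))) (Tr.nd (nat_lit 53917) (Tr.lf (nat_lit 53899)) (Tr.lf (nat_lit 53917)))) (Tr.nd (nat_lit 53939) (Tr.nd (nat_lit 53927) (Tr.lf (nat_lit 53923)) (Tr.lf (nat_lit 53927))) (Tr.nd (nat_lit 53951) (Tr.lf (nat_lit 53939)) (Tr.lf (nat_lit 53951))))) (Tr.nd (nat_lit 54011) (Tr.nd (nat_lit 53993) (Tr.nd (nat_lit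 53987) (Tr.lf (nat_lit 53959)) (Tr.lf (nat_lit 53987))) (Tr.nd (nat_lit 54001) (Tr.lf (nat_lit 53993)) (Tr.lf (nat_lit 54001)))) (Tr.nd (nat_lit 54037) (Tr.nd (nat_lit 54013) (Tr.lf (nat_lit 54011)) (Tr.lf (nat_lit 54013))) (Tr.nd (nat_lit 54049) (Tr.lf (nat_lit 54037)) (Tr.lf (nat_lit 54049)))))))) (Tr.nd (nat_lit 54421) (Tr.nd (nat_lit 54287) (Tr.nd (nat_lit 54163) (Tr.nd (nat_lit 54121) (Tr.nd (nat_lit 54091) (Tr.nd (nat_lit 54083) (Tr.lf (nat_lit 54059)) (Tr.lf (nat_lit 54083))) (Tr.nd (nat_lit 54101) (Tr.lf (nat_lit 54091)) (Tr.lf (nat_lit 54101)))) (Tr.nd (nat_lit 54139) (Tr.nd (nat_lit 54133) (Tr.lf (nat_lit 54121)) (Tr.lf (nat_lit 54133))) (Tr.nd (nat_lit 54151) (Tr.lf (nat_lit 54139)) (Tr.lf (nat_lit 54151))))) (Tr.nd (nat_lit 54217) (Tr.nd (nat_lit 54181) (Tr.nd (nat_lit 54167) (Tr.lf (nat_lit 54163)) (Tr.lf (nat_lit 54167))) (Tr.nd (nat_lit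 54193) (Tr.lf (nat_lit 54181)) (Tr.lf (nat_lit 54193)))) (Tr.nd (nat_lit 54269) (Tr.nd (nat_lit 54251) (Tr.lf (nat_lit 54217)) (Tr.lf (nat_lit 54251))) (Tr.nd (nat_lit 54277) (Tr.lf (nat_lit 54269)) (Tr.lf (nat_lit 54277)))))) (Tr.nd (nat_lit 54367) (Tr.nd (nat_lit 54323) (Tr.nd (nat_lit 54311) (Tr.nd (nat_lit 54293) (Tr.lf (nat_lit 54287)) (Tr.lf (nat_lit 54293))) (Tr.nd (nat_lit 54319) (Tr.lf (nat_lit 54311)) (Tr.lf (nat_lit 54319)))) (Tr.nd (nat_lit 54347) (Tr.nd (nat_lit 54331) (Tr.lf (nat_lit 54323)) (Tr.lf (nat_lit 54331))) (Tr.nd (nat_lit 54361) (Tr.lf (nat_lit 54347)) (Tr.lf (nat_lit 54361))))) (Tr.nd (nat_lit 54403) (Tr.nd (nat_lit 54377) (Tr.nd (nat_lit 54371) (Tr.lf (nat_lit 54367)) (Tr.lf (nat_lit 54371))) (Tr.nd (nat_lit 54401) (Tr.lf (nat_lit 54377)) (Tr.lf (nat_lit 54401)))) (Tr.nd (nat_lit 54413) (Tr.nd (nat_lit 54409) (Tr.lf (nat_lit 54403))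 (Tr.lf (nat_lit 54409))) (Tr.nd (nat_lit 54419) (Tr.lf (nat_lit 54413)) (Tr.lf (nat_lit 54419))))))) (Tr.nd (nat_lit 54577) (Tr.nd (nat_lit 54503) (Tr.nd (nat_lit 54469) (Tr.nd (nat_lit 54443) (Tr.nd (nat_lit 54437) (Tr.lf (nat_lit 54421)) (Tr.lf (nat_lit 54437))) (Tr.nd (nat_lit 54449) (Tr.lf (nat_lit 54443)) (Tr.lf (nat_lit 54449)))) (Tr.nd (nat_lit 54497) (Tr.nd (nat_lit 54493) (Tr.lf (nat_lit 54469)) (Tr.lf (nat_lit 54493))) (Tr.nd (nat_lit 54499) (Tr.lf (nat_lit 54497)) (Tr.lf (nat_lit 54499))))) (Tr.nd (nat_lit 54541) (Tr.nd (nat_lit 54521) (Tr.nd (nat_lit 54517) (Tr.lf (nat_lit 54503)) (Tr.lf (nat_lit 54517))) (Tr.nd (nat_lit 54539) (Tr.lf (nat_lit 54521)) (Tr.lf (nat_lit 54539)))) (Tr.nd (nat_lit 54559) (Tr.nd (nat_lit 54547) (Tr.lf (nat_lit 54541)) (Tr.lf (nat_lit 54547))) (Tr.nd (nat_lit 54563) (Tr.lf (nat_lit 54559)) (Tr.lf (nat_lit 54563))))))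 (Tr.nd (nat_lit 54647) (Tr.nd (nat_lit 54617) (Tr.nd (nat_lit 54583) (Tr.nd (nat_lit 54581) (Tr.lf (nat_lit 54577)) (Tr.lf (nat_lit 54581))) (Tr.nd (nat_lit 54601) (Tr.lf (nat_lit 54583)) (Tr.lf (nat_lit 54601)))) (Tr.nd (nat_lit 54629) (Tr.nd (nat_lit 54623) (Tr.lf (nat_lit 54617)) (Tr.lf (nat_lit 54623))) (Tr.nd (nat_lit 54631) (Tr.lf (nat_lit 54629)) (Tr.lf (nat_lit 54631))))) (Tr.nd (nat_lit 54709) (Tr.nd (nat_lit 54673) (Tr.nd (nat_lit 54667) (Tr.lf (nat_lit 54647)) (Tr.lf (nat_lit 54667))) (Tr.nd (nat_lit 54679) (Tr.lf (nat_lit 54673)) (Tr.lf (nat_lit 54679)))) (Tr.nd (nat_lit 54721) (Tr.nd (nat_lit 54713) (Tr.lf (nat_lit 54709)) (Tr.lf (nat_lit 54713))) (Tr.nd (nat_lit 54727) (Tr.lf (nat_lit 54721)) (Tr.nd (nat_lit 54751) (Tr.lf (nat_lit 54727)) (Tr.lf (nat_lit 54751))))))))))))))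
abbrev q0 : ℕ := nat_lit 32771
noncomputable def E_0 (t q : ℕ) : Bool := Nat.beq (G_a t (F_a q)) q
noncomputable def a_0 : CfsgLib.TC.AG Col := .word .a 0 0 true [Col.a]
noncomputable def E_1 (t q : ℕ) : Bool := Nat.beq (G_d t (G_a t (G_d t (F_a q)))) q
noncomputable def a_1 : CfsgLib.TC.AG Col := .word .a 3 1 true [Col.d, Col.a, Col.d]
noncomputable def E_2 (t q : ℕ) : Bool := Nat.beq (G_f t (G_a t (G_f t (F_a q)))) q
noncomputable def a_2 : CfsgLib.TC.AG Col := .word .a 5 1 true [Col.f, Col.a, Col.f]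
noncomputable def E_3 (t q : ℕ) : Bool := Nat.beq (G_g t (G_a t (G_g t (F_a q)))) q
noncomputable def a_3 : CfsgLib.TC.AG Col := .word .a 6 1 true [Col.g, Col.a, Col.g]
noncomputable def E_4 (t q : ℕ) : Bool := Nat.beq (G_e t (G_a t (G_e t (F_a q)))) q
noncomputable def a_4 : CfsgLib.TC.AG Col := .word .a 4 1 true [Col.e, Col.a, Col.e]
noncomputable def E_5 (t q : ℕ) : Bool := Nat.beq (G_c t (G_a t (G_c t (F_a q)))) q
noncomputable def a_5 : CfsgLib.TC.AG Col := .word .a 2 1 true [Col.c, Col.a, Col.c]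
noncomputable def E_6 (t q : ℕ) : Bool := band (Nat.beq (PT (F_a q)) q) (band (Nat.beq (DT (F_a q)) 0) (band (Nat.ble (Nat.succ q) (F_a q)) (Nat.ble (Nat.succ q0) (F_a q))))
noncomputable def a_6 : CfsgLib.TC.AG Col := .tree .a
noncomputable def E_7 (t q : ℕ) : Bool := band (Nat.beq q0 q) (Nat.beq (F_a q) q0)
noncomputable def a_7 : CfsgLib.TC.AG Col := .base .a 0 [] []
noncomputable def E_8 (t q : ℕ) : Bool := band (Nat.beq (G_b t q0) q) (Nat.beq (G_a t (G_b t (F_a q))) q0)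
noncomputable def a_8 : CfsgLib.TC.AG Col := .base .a 5 [Col.b] [Col.b, Col.a]
noncomputable def E_9 (t q : ℕ) : Bool := Nat.beq (G_e t (G_c t (G_b t (G_a t (G_c t (G_b t (G_a t (G_c t (G_b t (F_a q)))))))))) q
noncomputable def a_9 : CfsgLib.TC.AG Col := .word .a 29 0 true [Col.b, Col.c, Col.a, Col.b, Col.c, Col.a, Col.b, Col.c, Col.e]
noncomputable def E_10 (t q : ℕ) : Bool := Nat.beq (G_b t (G_c t (G_a t (G_b t (G_c t (G_a t (G_b t (G_c t (G_e t (F_a q)))))))))) q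
noncomputable def a_10 : CfsgLib.TC.AG Col := .word .a 29 9 false [Col.e, Col.c, Col.b, Col.a, Col.c, Col.b, Col.a, Col.c, Col.b]
noncomputable def E_11 (t q : ℕ) : Bool := Nat.beq (G_c t (G_b t (G_a t (G_e t (G_c t (G_b t (G_a t (G_c t (G_b t (F_a q)))))))))) q
noncomputable def a_11 : CfsgLib.TC.AG Col := .word .a 29 3 true [Col.b, Col.c, Col.a, Col.b, Col.c, Col.e, Col.a, Col.b, Col.c]
noncomputable def D_a (q : ℕ) : Bool := (Bool.rec (motive := fun _ => Bool) (Bool.rec (motive := fun _ => Bool) (E_0 (Nat.mod U_a q) q) (E_1 (Nat.mod U_a q) q) (Nat.ble (nat_lit 1) (Nat.mod V_a q))) (Bool.rec (motive := fun _ => Bool) (Bool.rec (motive := fun _ => Bool) (Bool.rec (motive := fun _ => Bool) (E_2 (Nat.mod U_a q) q) (E_3 (Nat.mod U_a q) q) (Nat.ble (nat_lit 3) (Nat.mod V_a q))) (Bool.rec (motive := fun _ => Bool) (E_4 (Nat.mod U_a q) q) (Bool.rec (motive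 := fun _ => Bool) (E_5 (Nat.mod U_a q) q) (E_6 (Nat.mod U_a q) q) (Nat.ble (nat_lit 6) (Nat.mod V_a q))) (Nat.ble (nat_lit 5) (Nat.mod V_a q))) (Nat.ble (nat_lit 4) (Nat.mod V_a q))) (Bool.rec (motive := fun _ => Bool) (Bool.rec (motive := fun _ => Bool) (E_7 (Nat.mod U_a q) q) (E_8 (Nat.mod U_a q) q) (Nat.ble (nat_lit 8) (Nat.mod V_a q))) (Bool.rec (motive := fun _ => Bool) (E_9 (Nat.mod U_a q) q) (Bool.rec (motive := fun _ => Bool) (E_10 (Nat.mod U_a q) q) (E_11 (Nat.mod U_a q) q) (Nat.ble (nat_lit 11) (Nat.mod V_a q))) (Nat.ble (nat_lit 10) (Nat.mod V_a q))) (Nat.ble (nat_lit 9) (Nat.mod V_a q))) (Nat.ble (nat_lit 7) (Nat.mod V_a q))) (Nat.ble (nat_lit 2) (Nat.mod V_a q)))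
noncomputable def E_12 (t q : ℕ) : Bool := Nat.beq (G_b t (F_b q)) q
noncomputable def a_12 : CfsgLib.TC.AG Col := .word .b 7 0 true [Col.b]
noncomputable def E_13 (t q : ℕ) : Bool := Nat.beq (G_d t (G_b t (G_d t (F_b q)))) q
noncomputable def a_13 : CfsgLib.TC.AG Col := .word .b 9 1 true [Col.d, Col.b, Col.d]
noncomputable def E_14 (t q : ℕ) : Bool := Nat.beq (G_f t (G_b t (G_f t (F_b q)))) q
noncomputable def a_14 : CfsgLib.TC.AG Col := .word .b 11 1 true [Col.f, Col.b, Col.f]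
noncomputable def E_15 (t q : ℕ) : Bool := Nat.beq (G_g t (G_b t (G_g t (F_b q)))) q
noncomputable def a_15 : CfsgLib.TC.AG Col := .word .b 12 1 true [Col.g, Col.b, Col.g]
noncomputable def E_16 (t q : ℕ) : Bool := Nat.beq (G_e t (G_b t (G_e t (F_b q)))) q
noncomputable def a_16 : CfsgLib.TC.AG Col := .word .b 10 1 true [Col.e, Col.b, Col.e]
noncomputable def E_17 (t q : ℕ) : Bool := band (Nat.beq (PT (F_b q)) q) (band (Nat.beq (DT (F_b q)) 1) (band (Nat.ble (Nat.succ q) (F_b q)) (Nat.ble (Nat.succ q0) (F_b q))))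
noncomputable def a_17 : CfsgLib.TC.AG Col := .tree .b
noncomputable def E_18 (t q : ℕ) : Bool := Nat.beq (G_c t (G_b t (G_c t (G_b t (G_c t (F_b q)))))) q
noncomputable def a_18 : CfsgLib.TC.AG Col := .word .b 8 1 true [Col.c, Col.b, Col.c, Col.b, Col.c]
noncomputable def E_19 (t q : ℕ) : Bool := Nat.beq (G_a t (G_c t (G_b t (G_a t (G_e t (G_c t (G_b t (G_a t (G_c t (F_b q)))))))))) q
noncomputable def a_19 : CfsgLib.TC.AG Col := .word .b 29 4 true [Col.c, Col.a, Col.b, Col.c, Col.e, Col.a, Col.b, Col.c, Col.a]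
noncomputable def E_20 (t q : ℕ) : Bool := Nat.beq (G_a t (G_b t (G_a t (G_b t (G_a t (G_b t (G_a t (F_b q)))))))) q
noncomputable def a_20 : CfsgLib.TC.AG Col := .word .b 1 0 true [Col.a, Col.b, Col.a, Col.b, Col.a, Col.b, Col.a]
noncomputable def E_21 (t q : ℕ) : Bool := Nat.beq (G_c t (G_e t (G_a t (G_b t (G_c t (G_a t (G_b t (G_c t (G_a t (F_b q)))))))))) q
noncomputable def a_21 : CfsgLib.TC.AG Col := .word .b 29 2 false [Col.a, Col.c, Col.b, Col.a, Col.c, Col.b, Col.a, Col.e, Col.c]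
noncomputable def D_b (q : ℕ) : Bool := (Bool.rec (motive := fun _ => Bool) (Bool.rec (motive := fun _ => Bool) (E_12 (Nat.mod U_b q) q) (E_13 (Nat.mod U_b q) q) (Nat.ble (nat_lit 1) (Nat.mod V_b q))) (Bool.rec (motive := fun _ => Bool) (Bool.rec (motive := fun _ => Bool) (Bool.rec (motive := fun _ => Bool) (E_14 (Nat.mod U_b q) q) (E_15 (Nat.mod U_b q) q) (Nat.ble (nat_lit 3) (Nat.mod V_b q))) (Bool.rec (motive := fun _ => Bool) (E_16 (Nat.mod U_b q) q) (E_17 (Nat.mod U_b q) q) (Nat.ble (nat_lit 5) (Nat.mod V_b q))) (Nat.ble (nat_lit 4) (Nat.mod V_b q))) (Bool.rec (motive := fun _ => Bool) (Bool.rec (motive := fun _ => Bool) (E_18 (Nat.mod U_b q) q) (E_19 (Nat.mod U_b q) q) (Nat.ble (nat_lit 7) (Nat.mod V_b q))) (Bool.rec (motive := fun _ => Bool) (E_20 (Nat.mod U_b q) q) (E_21 (Nat.mod U_b q) q) (Nat.ble (nat_lit 9) (Nat.mod V_b q))) (Nat.ble (nat_lit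 8) (Nat.mod V_b q))) (Nat.ble (nat_lit 6) (Nat.mod V_b q))) (Nat.ble (nat_lit 2) (Nat.mod V_b q)))
noncomputable def E_22 (t q : ℕ) : Bool := Nat.beq (G_c t (F_c q)) q
noncomputable def a_22 : CfsgLib.TC.AG Col := .word .c 13 0 true [Col.c]
noncomputable def E_23 (t q : ℕ) : Bool := Nat.beq (G_a t (G_c t (G_a t (F_c q)))) q
noncomputable def a_23 : CfsgLib.TC.AG Col := .word .c 2 0 true [Col.a, Col.c, Col.a]
noncomputable def E_24 (t q : ℕ) : Bool := band (Nat.beq (PT (F_c q)) q) (band (Nat.beq (DT (F_c q)) 2) (band (Nat.ble (Nat.succ q) (F_c q)) (Nat.ble (Nat.succ q0) (F_c q))))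
noncomputable def a_24 : CfsgLib.TC.AG Col := .tree .c
noncomputable def E_25 (t q : ℕ) : Bool := Nat.beq (G_f t (G_c t (G_f t (F_c q)))) q
noncomputable def a_25 : CfsgLib.TC.AG Col := .word .c 16 1 true [Col.f, Col.c, Col.f]
noncomputable def E_26 (t q : ℕ) : Bool := Nat.beq (G_g t (G_c t (G_g t (F_c q)))) q
noncomputable def a_26 : CfsgLib.TC.AG Col := .word .c 17 1 true [Col.g, Col.c, Col.g]
noncomputable def E_27 (t q : ℕ) : Bool := Nat.beq (G_e t (G_c t (G_e t (F_c q)))) q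
noncomputable def a_27 : CfsgLib.TC.AG Col := .word .c 15 1 true [Col.e, Col.c, Col.e]
noncomputable def E_28 (t q : ℕ) : Bool := Nat.beq (G_b t (G_c t (G_b t (G_c t (G_b t (F_c q)))))) q
noncomputable def a_28 : CfsgLib.TC.AG Col := .word .c 8 0 true [Col.b, Col.c, Col.b, Col.c, Col.b]
noncomputable def E_29 (t q : ℕ) : Bool := Nat.beq (G_d t (G_c t (G_a t (G_d t (G_c t (G_d t (G_c t (G_d t (G_c t (G_d t (F_c q))))))))))) q
noncomputable def a_29 : CfsgLib.TC.AG Col := .word .c 30 2 true [Col.d, Col.c, Col.d, Col.c, Col.d, Col.c, Col.d, Col.a, Col.c, Col.d]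
noncomputable def E_30 (t q : ℕ) : Bool := Nat.beq (G_a t (G_d t (G_c t (G_d t (G_c t (G_d t (G_c t (G_d t (G_c t (G_d t (F_c q))))))))))) q
noncomputable def a_30 : CfsgLib.TC.AG Col := .word .c 30 0 true [Col.d, Col.c, Col.d, Col.c, Col.d, Col.c, Col.d, Col.c, Col.d, Col.a]
noncomputable def E_31 (t q : ℕ) : Bool := Nat.beq (G_g t (G_f t (G_d t (G_c t (G_g t (G_f t (G_d t (G_c t (G_g t (G_f t (G_d t (G_c t (G_g t (G_f t (G_d t (F_c q)))))))))))))))) q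
noncomputable def a_31 : CfsgLib.TC.AG Col := .word .c 31 0 false [Col.d, Col.f, Col.g, Col.c, Col.d, Col.f, Col.g, Col.c, Col.d, Col.f, Col.g, Col.c, Col.d, Col.f, Col.g]
noncomputable def E_32 (t q : ℕ) : Bool := Nat.beq (G_d t (G_c t (G_d t (G_c t (G_a t (G_d t (G_c t (G_d t (G_c t (G_d t (F_c q))))))))))) q
noncomputable def a_32 : CfsgLib.TC.AG Col := .word .c 30 4 true [Col.d, Col.c, Col.d, Col.c, Col.d, Col.a, Col.c, Col.d, Col.c, Col.d]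
noncomputable def E_33 (t q : ℕ) : Bool := Nat.beq (G_b t (G_a t (G_c t (G_b t (G_a t (G_c t (G_b t (G_a t (G_e t (F_c q)))))))))) q
noncomputable def a_33 : CfsgLib.TC.AG Col := .word .c 29 8 true [Col.e, Col.a, Col.b, Col.c, Col.a, Col.b, Col.c, Col.a, Col.b]
noncomputable def E_34 (t q : ℕ) : Bool := Nat.beq (G_d t (G_f t (G_g t (G_c t (G_d t (G_f t (G_g t (G_c t (G_d t (G_f t (G_g t (G_c t (G_d t (G_f t (G_g t (F_c q)))))))))))))))) q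
noncomputable def a_34 : CfsgLib.TC.AG Col := .word .c 31 3 true [Col.g, Col.f, Col.d, Col.c, Col.g, Col.f, Col.d, Col.c, Col.g, Col.f, Col.d, Col.c, Col.g, Col.f, Col.d]
noncomputable def E_35 (t q : ℕ) : Bool := band (Nat.beq q0 q) (Nat.beq (F_c q) q0)
noncomputable def a_35 : CfsgLib.TC.AG Col := .base .c 1 [] []
noncomputable def E_36 (t q : ℕ) : Bool := Nat.beq (G_e t (G_a t (G_b t (G_c t (G_a t (G_b t (G_c t (G_a t (G_b t (F_c q)))))))))) q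
noncomputable def a_36 : CfsgLib.TC.AG Col := .word .c 29 1 false [Col.b, Col.a, Col.c, Col.b, Col.a, Col.c, Col.b, Col.a, Col.e]
noncomputable def E_37 (t q : ℕ) : Bool := Nat.beq (G_d t (G_c t (G_d t (G_c t (G_d t (G_c t (G_d t (G_c t (G_a t (G_d t (F_c q))))))))))) q
noncomputable def a_37 : CfsgLib.TC.AG Col := .word .c 30 8 true [Col.d, Col.a, Col.c, Col.d, Col.c, Col.d, Col.c, Col.d, Col.c, Col.d]
noncomputable def E_38 (t q : ℕ) : Bool := Nat.beq (G_b t (G_a t (G_c t (G_b t (G_a t (G_e t (G_c t (G_b t (G_a t (F_c q)))))))))) q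
noncomputable def a_38 : CfsgLib.TC.AG Col := .word .c 29 5 true [Col.a, Col.b, Col.c, Col.e, Col.a, Col.b, Col.c, Col.a, Col.b]
noncomputable def D_c (q : ℕ) : Bool := (Bool.rec (motive := fun _ => Bool) (Bool.rec (motive := fun _ => Bool) (E_22 (Nat.mod U_c q) q) (E_23 (Nat.mod U_c q) q) (Nat.ble (nat_lit 1) (Nat.mod V_c q))) (Bool.rec (motive := fun _ => Bool) (Bool.rec (motive := fun _ => Bool) (Bool.rec (motive := fun _ => Bool) (E_24 (Nat.mod U_c q) q) (Bool.rec (motive := fun _ => Bool) (E_25 (Nat.mod U_c q) q) (E_26 (Nat.mod U_c q) q) (Nat.ble (nat_lit 4) (Nat.mod V_c q))) (Nat.ble (nat_lit 3) (Nat.mod V_c q))) (Bool.rec (motive := fun _ => Bool) (Bool.rec (motive := fun _ => Bool) (E_27 (Nat.mod U_c q) q) (E_28 (Nat.mod U_c q) q) (Nat.ble (nat_lit 6) (Nat.mod V_c q))) (Bool.rec (motive := fun _ => Bool) (E_29 (Nat.mod U_c q) q) (E_30 (Nat.mod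 U_c q) q) (Nat.ble (nat_lit 8) (Nat.mod V_c q))) (Nat.ble (nat_lit 7) (Nat.mod V_c q))) (Nat.ble (nat_lit 5) (Nat.mod V_c q))) (Bool.rec (motive := fun _ => Bool) (Bool.rec (motive := fun _ => Bool) (Bool.rec (motive := fun _ => Bool) (E_31 (Nat.mod U_c q) q) (E_32 (Nat.mod U_c q) q) (Nat.ble (nat_lit 10) (Nat.mod V_c q))) (Bool.rec (motive := fun _ => Bool) (E_33 (Nat.mod U_c q) q) (E_34 (Nat.mod U_c q) q) (Nat.ble (nat_lit 12) (Nat.mod V_c q))) (Nat.ble (nat_lit 11) (Nat.mod V_c q))) (Bool.rec (motive := fun _ => Bool) (Bool.rec (motive := fun _ => Bool) (E_35 (Nat.mod U_c q) q) (E_36 (Nat.mod U_c q) q) (Nat.ble (nat_lit 14) (Nat.mod V_c q))) (Bool.rec (motive := fun _ => Bool) (E_37 (Nat.mod U_c q) q) (E_38 (Nat.mod U_c q) q) (Nat.ble (nat_lit 16) (Nat.mod V_c q))) (Nat.ble (nat_lit 15) (Nat.mod V_c q))) (Nat.ble (nat_lit 13) (Nat.mod V_c q))) (Nat.ble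 (nat_lit 9) (Nat.mod V_c q))) (Nat.ble (nat_lit 2) (Nat.mod V_c q)))
noncomputable def E_39 (t q : ℕ) : Bool := Nat.beq (G_d t (F_d q)) q
noncomputable def a_39 : CfsgLib.TC.AG Col := .word .d 18 0 true [Col.d]
noncomputable def E_40 (t q : ℕ) : Bool := band (Nat.beq (PT (F_d q)) q) (band (Nat.beq (DT (F_d q)) 3) (band (Nat.ble (Nat.succ q) (F_d q)) (Nat.ble (Nat.succ q0) (F_d q))))
noncomputable def a_40 : CfsgLib.TC.AG Col := .tree .d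
noncomputable def E_41 (t q : ℕ) : Bool := Nat.beq (G_a t (G_d t (G_a t (F_d q)))) q
noncomputable def a_41 : CfsgLib.TC.AG Col := .word .d 3 0 true [Col.a, Col.d, Col.a]
noncomputable def E_42 (t q : ℕ) : Bool := Nat.beq (G_b t (G_d t (G_b t (F_d q)))) q
noncomputable def a_42 : CfsgLib.TC.AG Col := .word .d 9 0 true [Col.b, Col.d, Col.b]
noncomputable def E_43 (t q : ℕ) : Bool := Nat.beq (G_e t (G_d t (G_e t (G_d t (G_e t (F_d q)))))) q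
noncomputable def a_43 : CfsgLib.TC.AG Col := .word .d 19 1 true [Col.e, Col.d, Col.e, Col.d, Col.e]
noncomputable def E_44 (t q : ℕ) : Bool := Nat.beq (G_f t (G_d t (G_f t (G_d t (G_f t (F_d q)))))) q
noncomputable def a_44 : CfsgLib.TC.AG Col := .word .d 20 1 true [Col.f, Col.d, Col.f, Col.d, Col.f]
noncomputable def E_45 (t q : ℕ) : Bool := Nat.beq (G_g t (G_d t (G_g t (G_d t (G_g t (F_d q)))))) q
noncomputable def a_45 : CfsgLib.TC.AG Col := .word .d 21 1 true [Col.g, Col.d, Col.g, Col.d, Col.g]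
noncomputable def E_46 (t q : ℕ) : Bool := Nat.beq (G_c t (G_a t (G_d t (G_c t (G_d t (G_c t (G_d t (G_c t (G_d t (G_c t (F_d q))))))))))) q
noncomputable def a_46 : CfsgLib.TC.AG Col := .word .d 30 1 true [Col.c, Col.d, Col.c, Col.d, Col.c, Col.d, Col.c, Col.d, Col.a, Col.c]
noncomputable def E_47 (t q : ℕ) : Bool := Nat.beq (G_c t (G_g t (G_f t (G_d t (G_c t (G_g t (G_f t (G_d t (G_c t (G_g t (G_f t (G_d t (G_c t (G_g t (G_f t (F_d q)))))))))))))))) q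
noncomputable def a_47 : CfsgLib.TC.AG Col := .word .d 31 1 false [Col.f, Col.g, Col.c, Col.d, Col.f, Col.g, Col.c, Col.d, Col.f, Col.g, Col.c, Col.d, Col.f, Col.g, Col.c]
noncomputable def E_48 (t q : ℕ) : Bool := Nat.beq (G_f t (G_g t (G_c t (G_d t (G_f t (G_g t (G_c t (G_d t (G_f t (G_g t (G_c t (G_d t (G_f t (G_g t (G_c t (F_d q)))))))))))))))) q
noncomputable def a_48 : CfsgLib.TC.AG Col := .word .d 31 2 true [Col.c, Col.g, Col.f, Col.d, Col.c, Col.g, Col.f, Col.d, Col.c, Col.g, Col.f, Col.d, Col.c, Col.g, Col.f]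
noncomputable def E_49 (t q : ℕ) : Bool := band (Nat.beq q0 q) (Nat.beq (F_d q) q0)
noncomputable def a_49 : CfsgLib.TC.AG Col := .base .d 2 [] []
noncomputable def E_50 (t q : ℕ) : Bool := band (Nat.beq (G_e t (G_b t (G_c t (G_d t (G_e t (G_b t (G_c t (G_d t (G_e t (G_b t (G_c t (G_d t (G_e t (G_b t (G_c t (G_d t (G_e t q0))))))))))))))))) q) (Nat.beq (G_b t (G_c t (G_d t (G_e t (G_b t (G_c t (G_d t (G_e t (G_b t (G_c t (F_d q))))))))))) q0)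
noncomputable def a_50 : CfsgLib.TC.AG Col := .base .d 6 [Col.e, Col.d, Col.c, Col.b, Col.e, Col.d, Col.c, Col.b, Col.e, Col.d, Col.c, Col.b, Col.e, Col.d, Col.c, Col.b, Col.e] [Col.c, Col.b, Col.e, Col.d, Col.c, Col.b, Col.e, Col.d, Col.c, Col.b]
noncomputable def E_51 (t q : ℕ) : Bool := Nat.beq (G_c t (G_d t (G_c t (G_d t (G_c t (G_d t (G_c t (G_a t (G_d t (G_c t (F_d q))))))))))) q
noncomputable def a_51 : CfsgLib.TC.AG Col := .word .d 30 7 true [Col.c, Col.d, Col.a, Col.c, Col.d, Col.c, Col.d, Col.c, Col.d, Col.c]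
noncomputable def D_d (q : ℕ) : Bool := (Bool.rec (motive := fun _ => Bool) (Bool.rec (motive := fun _ => Bool) (E_39 (Nat.mod U_d q) q) (E_40 (Nat.mod U_d q) q) (Nat.ble (nat_lit 1) (Nat.mod V_d q))) (Bool.rec (motive := fun _ => Bool) (Bool.rec (motive := fun _ => Bool) (Bool.rec (motive := fun _ => Bool) (E_41 (Nat.mod U_d q) q) (E_42 (Nat.mod U_d q) q) (Nat.ble (nat_lit 3) (Nat.mod V_d q))) (Bool.rec (motive := fun _ => Bool) (E_43 (Nat.mod U_d q) q) (Bool.rec (motive := fun _ => Bool) (E_44 (Nat.mod U_d q) q) (E_45 (Nat.mod U_d q) q) (Nat.ble (nat_lit 6) (Nat.mod V_d q))) (Nat.ble (nat_lit 5) (Nat.mod V_d q))) (Nat.ble (nat_lit 4) (Nat.mod V_d q))) (Bool.rec (motive := fun _ => Bool) (Bool.rec (motive := fun _ => Bool) (E_46 (Nat.mod U_d q) q) (Bool.rec (motive := fun _ => Bool) (E_47 (Nat.mod U_d q) q) (E_48 (Nat.mod U_d q) q) (Nat.ble (nat_lit 9)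 (Nat.mod V_d q))) (Nat.ble (nat_lit 8) (Nat.mod V_d q))) (Bool.rec (motive := fun _ => Bool) (E_49 (Nat.mod U_d q) q) (Bool.rec (motive := fun _ => Bool) (E_50 (Nat.mod U_d q) q) (E_51 (Nat.mod U_d q) q) (Nat.ble (nat_lit 12) (Nat.mod V_d q))) (Nat.ble (nat_lit 11) (Nat.mod V_d q))) (Nat.ble (nat_lit 10) (Nat.mod V_d q))) (Nat.ble (nat_lit 7) (Nat.mod V_d q))) (Nat.ble (nat_lit 2) (Nat.mod V_d q)))
noncomputable def E_52 (t q : ℕ) : Bool := Nat.beq (G_e t (F_e q)) q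
noncomputable def a_52 : CfsgLib.TC.AG Col := .word .e 22 0 true [Col.e]
noncomputable def E_53 (t q : ℕ) : Bool := band (Nat.beq (PT (F_e q)) q) (band (Nat.beq (DT (F_e q)) 4) (band (Nat.ble (Nat.succ q) (F_e q)) (Nat.ble (Nat.succ q0) (F_e q))))
noncomputable def a_53 : CfsgLib.TC.AG Col := .tree .e
noncomputable def E_54 (t q : ℕ) : Bool := Nat.beq (G_a t (G_e t (G_a t (F_e q)))) q
noncomputable def a_54 : CfsgLib.TC.AG Col := .word .e 4 0 true [Col.a, Col.e, Col.a]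
noncomputable def E_55 (t q : ℕ) : Bool := Nat.beq (G_b t (G_e t (G_b t (F_e q)))) q
noncomputable def a_55 : CfsgLib.TC.AG Col := .word .e 10 0 true [Col.b, Col.e, Col.b]
noncomputable def E_56 (t q : ℕ) : Bool := Nat.beq (G_c t (G_e t (G_c t (F_e q)))) q
noncomputable def a_56 : CfsgLib.TC.AG Col := .word .e 15 0 true [Col.c, Col.e, Col.c]
noncomputable def E_57 (t q : ℕ) : Bool := Nat.beq (G_d t (G_e t (G_d t (G_e t (G_d t (F_e q)))))) q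
noncomputable def a_57 : CfsgLib.TC.AG Col := .word .e 19 0 true [Col.d, Col.e, Col.d, Col.e, Col.d]
noncomputable def E_58 (t q : ℕ) : Bool := Nat.beq (G_f t (G_e t (G_f t (F_e q)))) q
noncomputable def a_58 : CfsgLib.TC.AG Col := .word .e 23 1 true [Col.f, Col.e, Col.f]
noncomputable def E_59 (t q : ℕ) : Bool := Nat.beq (G_g t (G_e t (G_g t (F_e q)))) q
noncomputable def a_59 : CfsgLib.TC.AG Col := .word .e 24 1 true [Col.g, Col.e, Col.g]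
noncomputable def E_60 (t q : ℕ) : Bool := Nat.beq (G_g t (G_f t (G_g t (G_f t (F_e q))))) q
noncomputable def a_60 : CfsgLib.TC.AG Col := .word .e 28 4 true [Col.f, Col.g, Col.f, Col.g]
noncomputable def E_61 (t q : ℕ) : Bool := Nat.beq (G_c t (G_b t (G_a t (G_c t (G_b t (G_a t (G_c t (G_b t (G_a t (F_e q)))))))))) q
noncomputable def a_61 : CfsgLib.TC.AG Col := .word .e 29 9 true [Col.a, Col.b, Col.c, Col.a, Col.b, Col.c, Col.a, Col.b, Col.c]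
noncomputable def E_62 (t q : ℕ) : Bool := band (Nat.beq q0 q) (Nat.beq (F_e q) q0)
noncomputable def a_62 : CfsgLib.TC.AG Col := .base .e 3 [] []
noncomputable def D_e (q : ℕ) : Bool := (Bool.rec (motive := fun _ => Bool) (Bool.rec (motive := fun _ => Bool) (E_52 (Nat.mod U_e q) q) (E_53 (Nat.mod U_e q) q) (Nat.ble (nat_lit 1) (Nat.mod V_e q))) (Bool.rec (motive := fun _ => Bool) (Bool.rec (motive := fun _ => Bool) (Bool.rec (motive := fun _ => Bool) (E_54 (Nat.mod U_e q) q) (E_55 (Nat.mod U_e q) q) (Nat.ble (nat_lit 3) (Nat.mod V_e q))) (Bool.rec (motive := fun _ => Bool) (E_56 (Nat.mod U_e q) q) (E_57 (Nat.mod U_e q) q) (Nat.ble (nat_lit 5) (Nat.mod V_e q))) (Nat.ble (nat_lit 4) (Nat.mod V_e q))) (Bool.rec (motive := fun _ => Bool) (Bool.rec (motive := fun _ => Bool) (E_58 (Nat.mod U_e q) q) (E_59 (Nat.mod U_e q) q) (Nat.ble (nat_lit 7) (Nat.mod V_e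 q))) (Bool.rec (motive := fun _ => Bool) (E_60 (Nat.mod U_e q) q) (Bool.rec (motive := fun _ => Bool) (E_61 (Nat.mod U_e q) q) (E_62 (Nat.mod U_e q) q) (Nat.ble (nat_lit 10) (Nat.mod V_e q))) (Nat.ble (nat_lit 9) (Nat.mod V_e q))) (Nat.ble (nat_lit 8) (Nat.mod V_e q))) (Nat.ble (nat_lit 6) (Nat.mod V_e q))) (Nat.ble (nat_lit 2) (Nat.mod V_e q)))
noncomputable def E_63 (t q : ℕ) : Bool := Nat.beq (G_f t (F_f q)) q
noncomputable def a_63 : CfsgLib.TC.AG Col := .word .f 25 0 true [Col.f]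
noncomputable def E_64 (t q : ℕ) : Bool := band (Nat.beq (PT (F_f q)) q) (band (Nat.beq (DT (F_f q)) 5) (band (Nat.ble (Nat.succ q) (F_f q)) (Nat.ble (Nat.succ q0) (F_f q))))
noncomputable def a_64 : CfsgLib.TC.AG Col := .tree .f
noncomputable def E_65 (t q : ℕ) : Bool := Nat.beq (G_a t (G_f t (G_a t (F_f q)))) q
noncomputable def a_65 : CfsgLib.TC.AG Col := .word .f 5 0 true [Col.a, Col.f, Col.a]
noncomputable def E_66 (t q : ℕ) : Bool := Nat.beq (G_b t (G_f t (G_b t (F_f q)))) q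
noncomputable def a_66 : CfsgLib.TC.AG Col := .word .f 11 0 true [Col.b, Col.f, Col.b]
noncomputable def E_67 (t q : ℕ) : Bool := Nat.beq (G_c t (G_f t (G_c t (F_f q)))) q
noncomputable def a_67 : CfsgLib.TC.AG Col := .word .f 16 0 true [Col.c, Col.f, Col.c]
noncomputable def E_68 (t q : ℕ) : Bool := Nat.beq (G_d t (G_f t (G_d t (G_f t (G_d t (F_f q)))))) q
noncomputable def a_68 : CfsgLib.TC.AG Col := .word .f 20 0 true [Col.d, Col.f, Col.d, Col.f, Col.d]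
noncomputable def E_69 (t q : ℕ) : Bool := Nat.beq (G_e t (G_f t (G_e t (F_f q)))) q
noncomputable def a_69 : CfsgLib.TC.AG Col := .word .f 23 0 true [Col.e, Col.f, Col.e]
noncomputable def E_70 (t q : ℕ) : Bool := Nat.beq (G_g t (G_f t (G_e t (G_g t (F_f q))))) q
noncomputable def a_70 : CfsgLib.TC.AG Col := .word .f 28 2 true [Col.g, Col.e, Col.f, Col.g]
noncomputable def E_71 (t q : ℕ) : Bool := Nat.beq (G_e t (G_g t (G_f t (G_g t (F_f q))))) q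
noncomputable def a_71 : CfsgLib.TC.AG Col := .word .f 28 0 true [Col.g, Col.f, Col.g, Col.e]
noncomputable def E_72 (t q : ℕ) : Bool := Nat.beq (G_g t (G_c t (G_d t (G_f t (G_g t (G_c t (G_d t (G_f t (G_g t (G_c t (G_d t (G_f t (G_g t (G_c t (G_d t (F_f q)))))))))))))))) q
noncomputable def a_72 : CfsgLib.TC.AG Col := .word .f 31 1 true [Col.d, Col.c, Col.g, Col.f, Col.d, Col.c, Col.g, Col.f, Col.d, Col.c, Col.g, Col.f, Col.d, Col.c, Col.g]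
noncomputable def E_73 (t q : ℕ) : Bool := Nat.beq (G_d t (G_c t (G_g t (G_f t (G_d t (G_c t (G_g t (G_f t (G_d t (G_c t (G_g t (G_f t (G_d t (G_c t (G_g t (F_f q)))))))))))))))) q
noncomputable def a_73 : CfsgLib.TC.AG Col := .word .f 31 2 false [Col.g, Col.c, Col.d, Col.f, Col.g, Col.c, Col.d, Col.f, Col.g, Col.c, Col.d, Col.f, Col.g, Col.c, Col.d]
noncomputable def E_74 (t q : ℕ) : Bool := band (Nat.beq q0 q) (Nat.beq (F_f q) q0)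
noncomputable def a_74 : CfsgLib.TC.AG Col := .base .f 4 [] []
noncomputable def D_f (q : ℕ) : Bool := (Bool.rec (motive := fun _ => Bool) (Bool.rec (motive := fun _ => Bool) (E_63 (Nat.mod U_f q) q) (E_64 (Nat.mod U_f q) q) (Nat.ble (nat_lit 1) (Nat.mod V_f q))) (Bool.rec (motive := fun _ => Bool) (Bool.rec (motive := fun _ => Bool) (Bool.rec (motive := fun _ => Bool) (E_65 (Nat.mod U_f q) q) (E_66 (Nat.mod U_f q) q) (Nat.ble (nat_lit 3) (Nat.mod V_f q))) (Bool.rec (motive := fun _ => Bool) (E_67 (Nat.mod U_f q) q) (Bool.rec (motive := fun _ => Bool) (E_68 (Nat.mod U_f q) q) (E_69 (Nat.mod U_f q) q) (Nat.ble (nat_lit 6) (Nat.mod V_f q))) (Nat.ble (nat_lit 5) (Nat.mod V_f q))) (Nat.ble (nat_lit 4) (Nat.mod V_f q))) (Bool.rec (motive := fun _ => Bool) (Bool.rec (motive := fun _ => Bool) (E_70 (Nat.mod U_f q) q) (E_71 (Nat.mod U_f q) q) (Nat.ble (nat_lit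 8) (Nat.mod V_f q))) (Bool.rec (motive := fun _ => Bool) (E_72 (Nat.mod U_f q) q) (Bool.rec (motive := fun _ => Bool) (E_73 (Nat.mod U_f q) q) (E_74 (Nat.mod U_f q) q) (Nat.ble (nat_lit 11) (Nat.mod V_f q))) (Nat.ble (nat_lit 10) (Nat.mod V_f q))) (Nat.ble (nat_lit 9) (Nat.mod V_f q))) (Nat.ble (nat_lit 7) (Nat.mod V_f q))) (Nat.ble (nat_lit 2) (Nat.mod V_f q)))
noncomputable def E_75 (t q : ℕ) : Bool := Nat.beq (G_g t (F_g q)) q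
noncomputable def a_75 : CfsgLib.TC.AG Col := .word .g 27 0 true [Col.g]
noncomputable def E_76 (t q : ℕ) : Bool := band (Nat.beq (PT (F_g q)) q) (band (Nat.beq (DT (F_g q)) 6) (band (Nat.ble (Nat.succ q) (F_g q)) (Nat.ble (Nat.succ q0) (F_g q))))
noncomputable def a_76 : CfsgLib.TC.AG Col := .tree .g
noncomputable def E_77 (t q : ℕ) : Bool := Nat.beq (G_a t (G_g t (G_a t (F_g q)))) q
noncomputable def a_77 : CfsgLib.TC.AG Col := .word .g 6 0 true [Col.a, Col.g, Col.a]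
noncomputable def E_78 (t q : ℕ) : Bool := Nat.beq (G_b t (G_g t (G_b t (F_g q)))) q
noncomputable def a_78 : CfsgLib.TC.AG Col := .word .g 12 0 true [Col.b, Col.g, Col.b]
noncomputable def E_79 (t q : ℕ) : Bool := Nat.beq (G_c t (G_g t (G_c t (F_g q)))) q
noncomputable def a_79 : CfsgLib.TC.AG Col := .word .g 17 0 true [Col.c, Col.g, Col.c]
noncomputable def E_80 (t q : ℕ) : Bool := Nat.beq (G_d t (G_g t (G_d t (G_g t (G_d t (F_g q)))))) q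
noncomputable def a_80 : CfsgLib.TC.AG Col := .word .g 21 0 true [Col.d, Col.g, Col.d, Col.g, Col.d]
noncomputable def E_81 (t q : ℕ) : Bool := Nat.beq (G_e t (G_g t (G_e t (F_g q)))) q
noncomputable def a_81 : CfsgLib.TC.AG Col := .word .g 24 0 true [Col.e, Col.g, Col.e]
noncomputable def E_82 (t q : ℕ) : Bool := Nat.beq (G_f t (G_e t (G_g t (G_f t (F_g q))))) q
noncomputable def a_82 : CfsgLib.TC.AG Col := .word .g 28 1 true [Col.f, Col.g, Col.e, Col.f]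
noncomputable def E_83 (t q : ℕ) : Bool := Nat.beq (G_c t (G_d t (G_f t (G_g t (G_c t (G_d t (G_f t (G_g t (G_c t (G_d t (G_f t (G_g t (G_c t (G_d t (G_f t (F_g q)))))))))))))))) q
noncomputable def a_83 : CfsgLib.TC.AG Col := .word .g 31 0 true [Col.f, Col.d, Col.c, Col.g, Col.f, Col.d, Col.c, Col.g, Col.f, Col.d, Col.c, Col.g, Col.f, Col.d, Col.c]
noncomputable def E_84 (t q : ℕ) : Bool := Nat.beq (G_f t (G_d t (G_c t (G_g t (G_f t (G_d t (G_c t (G_g t (G_f t (G_d t (G_c t (G_g t (G_f t (G_d t (G_c t (F_g q)))))))))))))))) q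
noncomputable def a_84 : CfsgLib.TC.AG Col := .word .g 31 3 false [Col.c, Col.d, Col.f, Col.g, Col.c, Col.d, Col.f, Col.g, Col.c, Col.d, Col.f, Col.g, Col.c, Col.d, Col.f]
noncomputable def E_85 (t q : ℕ) : Bool := Nat.beq (G_e t (G_f t (G_g t (G_f t (F_g q))))) q
noncomputable def a_85 : CfsgLib.TC.AG Col := .word .g 28 1 false [Col.f, Col.g, Col.f, Col.e]
noncomputable def E_86 (t q : ℕ) : Bool := Nat.beq (G_f t (G_g t (G_f t (G_e t (F_g q))))) q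
noncomputable def a_86 : CfsgLib.TC.AG Col := .word .g 28 3 true [Col.e, Col.f, Col.g, Col.f]
noncomputable def E_87 (t q : ℕ) : Bool := band (Nat.beq (G_d t (G_c t (G_b t q0))) q) (Nat.beq (G_b t (G_c t (G_d t (F_g q)))) q0)
noncomputable def a_87 : CfsgLib.TC.AG Col := .base .g 7 [Col.b, Col.c, Col.d] [Col.d, Col.c, Col.b]
noncomputable def D_g (q : ℕ) : Bool := (Bool.rec (motive := fun _ => Bool) (Bool.rec (motive := fun _ => Bool) (E_75 (Nat.mod U_g q) q) (E_76 (Nat.mod U_g q) q) (Nat.ble (nat_lit 1) (Nat.mod V_g q))) (Bool.rec (motive := fun _ => Bool) (Bool.rec (motive := fun _ => Bool) (Bool.rec (motive := fun _ => Bool) (E_77 (Nat.mod U_g q) q) (E_78 (Nat.mod U_g q) q) (Nat.ble (nat_lit 3) (Nat.mod V_g q))) (Bool.rec (motive := fun _ => Bool) (E_79 (Nat.mod U_g q) q) (Bool.rec (motive := fun _ => Bool) (E_80 (Nat.mod U_g q) q) (E_81 (Nat.mod U_g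 q) q) (Nat.ble (nat_lit 6) (Nat.mod V_g q))) (Nat.ble (nat_lit 5) (Nat.mod V_g q))) (Nat.ble (nat_lit 4) (Nat.mod V_g q))) (Bool.rec (motive := fun _ => Bool) (Bool.rec (motive := fun _ => Bool) (E_82 (Nat.mod U_g q) q) (Bool.rec (motive := fun _ => Bool) (E_83 (Nat.mod U_g q) q) (E_84 (Nat.mod U_g q) q) (Nat.ble (nat_lit 9) (Nat.mod V_g q))) (Nat.ble (nat_lit 8) (Nat.mod V_g q))) (Bool.rec (motive := fun _ => Bool) (E_85 (Nat.mod U_g q) q) (Bool.rec (motive := fun _ => Bool) (E_86 (Nat.mod U_g q) q) (E_87 (Nat.mod U_g q) q) (Nat.ble (nat_lit 12) (Nat.mod V_g q))) (Nat.ble (nat_lit 11) (Nat.mod V_g q))) (Nat.ble (nat_lit 10) (Nat.mod V_g q))) (Nat.ble (nat_lit 7) (Nat.mod V_g q))) (Nat.ble (nat_lit 2) (Nat.mod V_g q)))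
noncomputable def CK (q : ℕ) : Bool := (Bool.rec (motive := fun _ => Bool) false (Bool.rec (motive := fun _ => Bool) false (Bool.rec (motive := fun _ => Bool) false (Bool.rec (motive := fun _ => Bool) false (Bool.rec (motive := fun _ => Bool) false (Bool.rec (motive := fun _ => Bool) false (Bool.rec (motive := fun _ => Bool) false true (band (Nat.beq (Nat.mod (MB (F_g q)) (F_g q)) (nat_lit 0)) (band (Nat.ble (Nat.succ (F_g q)) (nat_lit 65536)) (Nat.beq (F_g (F_g q)) q)))) (band (Nat.beq (Nat.mod (MB (F_f q)) (F_f q)) (nat_lit 0)) (band (Nat.ble (Nat.succ (F_f q)) (nat_lit 65536)) (Nat.beq (F_f (F_f q)) q)))) (band (Nat.beq (Nat.mod (MB (F_e q)) (F_e q)) (nat_lit 0)) (band (Nat.ble (Nat.succ (F_e q)) (nat_lit 65536)) (Nat.beq (F_e (F_e q)) q)))) (band (Nat.beq (Nat.mod (MB (F_d q)) (F_d q)) (nat_lit 0)) (band (Nat.ble (Nat.succ (F_d q)) (nat_lit 65536))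 (Nat.beq (F_d (F_d q)) q)))) (band (Nat.beq (Nat.mod (MB (F_c q)) (F_c q)) (nat_lit 0)) (band (Nat.ble (Nat.succ (F_c q)) (nat_lit 65536)) (Nat.beq (F_c (F_c q)) q)))) (band (Nat.beq (Nat.mod (MB (F_b q)) (F_b q)) (nat_lit 0)) (band (Nat.ble (Nat.succ (F_b q)) (nat_lit 65536)) (Nat.beq (F_b (F_b q)) q)))) (band (Nat.beq (Nat.mod (MB (F_a q)) (F_a q)) (nat_lit 0)) (band (Nat.ble (Nat.succ (F_a q)) (nat_lit 65536)) (Nat.beq (F_a (F_a q)) q))))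
noncomputable def RG_0 : List (List Col) := [[Col.a, Col.a], [Col.b, Col.a, Col.b, Col.a, Col.b, Col.a, Col.b, Col.a], [Col.c, Col.a, Col.c, Col.a], [Col.d, Col.a, Col.d, Col.a], [Col.e, Col.a, Col.e, Col.a], [Col.f, Col.a, Col.f, Col.a], [Col.g, Col.a, Col.g, Col.a], [Col.b, Col.b], [Col.c, Col.b, Col.c, Col.b, Col.c, Col.b], [Col.d, Col.b, Col.d, Col.b], [Col.e, Col.b, Col.e, Col.b], [Col.f, Col.b, Col.f, Col.b], [Col.g, Col.b, Col.g, Col.b], [Col.c, Col.c], [Col.d, Col.c, Col.d, Col.c, Col.d, Col.c, Col.d, Col.c, Col.d, Col.c, Col.d, Col.c, Col.d, Col.c, Col.d, Col.c, Col.d, Col.c, Col.d, Col.c], [Col.e, Col.c, Col.e, Col.c], [Col.f, Col.c, Col.f, Col.c], [Col.g, Col.c, Col.g, Col.c], [Col.d, Col.d], [Col.e, Col.d, Col.e, Col.d, Col.e, Col.d], [Col.f, Col.d, Col.f, Col.d, Col.f, Col.d], [Col.g, Col.d, Col.g, Col.d, Col.g, Col.d], [Col.e, Col.e], [Col.f,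 Col.e, Col.f, Col.e], [Col.g, Col.e, Col.g, Col.e], [Col.f, Col.f], [Col.g, Col.f, Col.g, Col.f, Col.g, Col.f, Col.g, Col.f], [Col.g, Col.g], [Col.f, Col.g, Col.f, Col.g, Col.e], [Col.a, Col.b, Col.c, Col.a, Col.b, Col.c, Col.a, Col.b, Col.c, Col.e], [Col.c, Col.d, Col.c, Col.d, Col.c, Col.d, Col.c, Col.d, Col.c, Col.d, Col.a], [Col.g, Col.f, Col.d, Col.c, Col.g, Col.f, Col.d, Col.c, Col.g, Col.f, Col.d, Col.c, Col.g, Col.f, Col.d, Col.c]]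
noncomputable def Rf_0 (q : ℕ) : Bool := (Bool.rec (motive := fun _ => Bool) false (Bool.rec (motive := fun _ => Bool) false (Bool.rec (motive := fun _ => Bool) false (Bool.rec (motive := fun _ => Bool) false (Bool.rec (motive := fun _ => Bool) false (Bool.rec (motive := fun _ => Bool) false (Bool.rec (motive := fun _ => Bool) false (Bool.rec (motive := fun _ => Bool) false (Bool.rec (motive := fun _ => Bool) false (Bool.rec (motive := fun _ => Bool) false (Bool.rec (motive := fun _ => Bool) false (Bool.rec (motive := fun _ => Bool) false (Bool.rec (motive := fun _ => Bool) false (Bool.rec (motive := fun _ => Bool) false (Bool.rec (motive := fun _ => Bool) false (Bool.rec (motive := fun _ => Bool) false (Bool.rec (motive := fun _ => Bool) false (Bool.rec (motive := fun _ => Bool) false (Bool.rec (motive := fun _ => Bool) false (Bool.rec (motive := fun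 _ => Bool) false (Bool.rec (motive := fun _ => Bool) false (Bool.rec (motive := fun _ => Bool) false (Bool.rec (motive := fun _ => Bool) false (Bool.rec (motive := fun _ => Bool) false (Bool.rec (motive := fun _ => Bool) false (Bool.rec (motive := fun _ => Bool) false (Bool.rec (motive := fun _ => Bool) false (Bool.rec (motive := fun _ => Bool) false (Bool.rec (motive := fun _ => Bool) false (Bool.rec (motive := fun _ => Bool) false (Bool.rec (motive := fun _ => Bool) false (Bool.rec (motive := fun _ => Bool) false true (Nat.beq (F_c (F_d (F_f (F_g (F_c (F_d (F_f (F_g (F_c (F_d (F_f (F_g (F_c (F_d (F_f (F_g q)))))))))))))))) q)) (Nat.beq (F_a (F_d (F_c (F_d (F_c (F_d (F_c (F_d (F_c (F_d (F_c q))))))))))) q)) (Nat.beq (F_e (F_c (F_b (F_a (F_c (F_b (F_a (F_c (F_b (F_a q)))))))))) q)) (Nat.beq (F_e (F_g (F_f (F_g (F_f q))))) q)) (Nat.beq (F_g (F_g q)) q))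 (Nat.beq (F_f (F_g (F_f (F_g (F_f (F_g (F_f (F_g q)))))))) q)) (Nat.beq (F_f (F_f q)) q)) (Nat.beq (F_e (F_g (F_e (F_g q)))) q)) (Nat.beq (F_e (F_f (F_e (F_f q)))) q)) (Nat.beq (F_e (F_e q)) q)) (Nat.beq (F_d (F_g (F_d (F_g (F_d (F_g q)))))) q)) (Nat.beq (F_d (F_f (F_d (F_f (F_d (F_f q)))))) q)) (Nat.beq (F_d (F_e (F_d (F_e (F_d (F_e q)))))) q)) (Nat.beq (F_d (F_d q)) q)) (Nat.beq (F_c (F_g (F_c (F_g q)))) q)) (Nat.beq (F_c (F_f (F_c (F_f q)))) q)) (Nat.beq (F_c (F_e (F_c (F_e q)))) q)) (Nat.beq (F_c (F_d (F_c (F_d (F_c (F_d (F_c (F_d (F_c (F_d (F_c (F_d (F_c (F_d (F_c (F_d (F_c (F_d (F_c (F_d q)))))))))))))))))))) q)) (Nat.beq (F_c (F_c q)) q)) (Nat.beq (F_b (F_g (F_b (F_g q)))) q)) (Nat.beq (F_b (F_f (F_b (F_f q)))) q)) (Nat.beq (F_b (F_e (F_b (F_e q)))) q)) (Nat.beq (F_b (F_d (F_b (F_d q)))) q)) (Nat.beq (F_b (F_c (F_b (F_c (F_b (F_c q)))))) q)) (Nat.beq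 (F_b (F_b q)) q)) (Nat.beq (F_a (F_g (F_a (F_g q)))) q)) (Nat.beq (F_a (F_f (F_a (F_f q)))) q)) (Nat.beq (F_a (F_e (F_a (F_e q)))) q)) (Nat.beq (F_a (F_d (F_a (F_d q)))) q)) (Nat.beq (F_a (F_c (F_a (F_c q)))) q)) (Nat.beq (F_a (F_b (F_a (F_b (F_a (F_b (F_a (F_b q)))))))) q)) (Nat.beq (F_a (F_a q)) q))
noncomputable def mini0S : Tr (Fc Col) := (Tr.nd (nat_lit 383) (Tr.nd (nat_lit 191) (Tr.nd (nat_lit 95) (Tr.nd (nat_lit 47) (Tr.nd (nat_lit 23) (Tr.nd (nat_lit 11) (Tr.nd (nat_lit 5) (Tr.nd (nat_lit 2) (Tr.nd (nat_lit 1) (Tr.lf (Fc.ed (nat_lit 0) (nat_lit 0) Col.a (nat_lit 0) (Dv.sb (nat_lit 0) [] []))) (Tr.lf (Fc.ed (nat_lit 1) (nat_lit 0) Col.c (nat_lit 0) (Dv.sb (nat_lit 1) [] [])))) (Tr.nd (nat_lit 3) (Tr.lf (Fc.ed (nat_lit 2) (nat_lit 0) Col.d (nat_lit 0) (Dv.sb (nat_lit 2) [] []))) (Tr.nd (nat_lit 4) (Tr.lf (Fc.ed (nat_lit 3) (nat_lit 0) Col.e (nat_lit 0) (Dv.sb (nat_lit 3) [] []))) (Tr.lf (Fc.ed (nat_lit 4) (nat_lit 0) Col.f (nat_lit 0) (Dv.sb (nat_lit 4) [] [])))))) (Tr.nd (nat_lit 8) (Tr.nd (nat_lit 6) (Tr.lf (Fc.ed (nat_lit 5) (nat_lit 0) Col.b (nat_lit 1) Dv.df)) (Tr.nd (nat_lit 7) (Tr.lf (Fc.ed (nat_lit 6) (nat_lit 1) Col.a (nat_lit 1) (Dv.sb (nat_lit 5) [Mv.f (nat_lit 5)] [Mv.b (nat_lit 5), Mv.f (nat_lit 0)]))) (Tr.lf (Fc.ed (nat_lit 7) (nat_lit 1) Col.e (nat_lit 2) Dv.df)))) (Tr.nd (nat_lit 9) (Tr.lf (Fc.ed (nat_lit 8) (nat_lit 2) Col.d (nat_lit 3) Dv.df)) (Tr.nd (nat_lit 10) (Tr.lf (Fc.ed (nat_lit 9) (nat_lit 3) Col.c (nat_lit 4) Dv.df)) (Tr.lf (Fc.ed (nat_lit 10) (nat_lit 4) Col.b (nat_lit 5) Dv.df)))))) (Tr.nd (nat_lit 17) (Tr.nd (nat_lit 14) (Tr.nd (nat_lit 12) (Tr.lf (Fc.ed (nat_lit 11) (nat_lit 5) Col.e (nat_lit 6) Dv.df)) (Tr.nd (nat_lit 13) (Tr.lf (Fc.ed (nat_lit 12) (nat_lit 6) Col.d (nat_lit 7) Dv.df)) (Tr.lf (Fc.ed (nat_lit 13) (nat_lit 7) Col.c (nat_lit 8) Dv.df)))) (Tr.nd (nat_lit 15) (Tr.lf (Fc.ed (nat_lit 14) (nat_lit 8) Col.b (nat_lit 9) Dv.df)) (Tr.nd (nat_lit 16) (Tr.lf (Fc.ed (nat_lit 15) (nat_lit 9) Col.e (nat_lit 10) Dv.df)) (Tr.lf (Fc.ed (nat_lit 16) (nat_lit 10) Col.d (nat_lit 11) Dv.df))))) (Tr.nd (nat_lit 20) (Tr.nd (nat_lit 18) (Tr.lf (Fc.ed (nat_lit 17) (nat_lit 11) Col.c (nat_lit 12) Dv.df)) (Tr.nd (nat_lit 19) (Tr.lf (Fc.ed (nat_lit 18) (nat_lit 12) Col.b (nat_lit 13) Dv.df)) (Tr.lf (Fc.ed (nat_lit 19) (nat_lit 13) Col.e (nat_lit 14) Dv.df)))) (Tr.nd (nat_lit 21) (Tr.lf (Fc.ed (nat_lit 20) (nat_lit 14) Col.d (nat_lit 15) Dv.df)) (Tr.nd (nat_lit 22) (Tr.lf (Fc.ed (nat_lit 21) (nat_lit 15) Col.c (nat_lit 16) Dv.df)) (Tr.lf (Fc.ed (nat_lit 22) (nat_lit 16) Col.b (nat_lit 17) Dv.df))))))) (Tr.nd (nat_lit 35) (Tr.nd (nat_lit 29) (Tr.nd (nat_lit 26) (Tr.nd (nat_lit 24) (Tr.lf (Fc.ed (nat_lit 23) (nat_lit 17) Col.e (nat_lit 18) Dv.df)) (Tr.nd (nat_lit 25) (Tr.lf (Fc.ed (nat_lit 24) (nat_lit 18) Col.d (nat_lit 19) Dv.df)) (Tr.lf (Fc.ed (nat_lit 25) (nat_lit 19) Col.c (nat_lit 20) Dv.df)))) (Tr.nd (nat_lit 27) (Tr.lf (Fc.ed (nat_lit 26) (nat_lit 20) Col.b (nat_lit 21) Dv.df)) (Tr.nd (nat_lit 28) (Tr.lf (Fc.ed (nat_lit 27) (nat_lit 21) Col.e (nat_lit 22) Dv.df)) (Tr.lf (Fc.ed (nat_lit 28) (nat_lit 22) Col.d (nat_lit 23) Dv.df))))) (Tr.nd (nat_lit 32) (Tr.nd (nat_lit 30) (Tr.lf (Fc.ed (nat_lit 29) (nat_lit 23) Col.c (nat_lit 1) (Dv.sb (nat_lit 6) [Mv.f (nat_lit 3), Mv.f (nat_lit 2), Mv.f (nat_lit 1), Mv.f (nat_lit 5), Mv.f (nat_lit 7), Mv.f (nat_lit 8), Mv.f (nat_lit 9), Mv.f (nat_lit 10), Mv.f (nat_lit 11), Mv.f (nat_lit 12), Mv.f (nat_lit 13), Mv.f (nat_lit 14), Mv.f (nat_lit 15), Mv.f (nat_lit 16), Mv.f (nat_lit 17), Mv.f (nat_lit 18), Mv.f (nat_lit 19), Mv.f (nat_lit 20), Mv.f (nat_lit 21), Mv.f (nat_lit 22), Mv.f (nat_lit 23), Mv.f (nat_lit 24), Mv.f (nat_lit 25), Mv.f (nat_lit 26), Mv.f (nat_lit 27), Mv.f (nat_lit 28)] [Mv.b (nat_lit 5)]))) (Tr.nd (nat_lit 31) (Tr.lf (Fc.ed (nat_lit 30) (nat_lit 23) Col.a (nat_lit 23) (Dv.wd (nat_lit 7) [Mv.f (nat_lit 29), Mv.f (nat_lit 6), Mv.b (nat_lit 29)]))) (Tr.lf (Fc.ed (nat_lit 31) (nat_lit 23) Col.b (nat_lit 23) (Dv.wd (nat_lit 8) [Mv.f (nat_lit 29), Mv.b (nat_lit 5), Mv.f (nat_lit 1), Mv.f (nat_lit 5), Mv.b (nat_lit 29)]))))) (Tr.nd (nat_lit 33) (Tr.lf (Fc.ed (nat_lit 32) (nat_lit 23) Col.e (nat_lit 23) (Dv.wd (nat_lit 9) [Mv.f (nat_lit 30), Mv.f (nat_lit 31), Mv.f (nat_lit 29), Mv.f (nat_lit 6), Mv.b (nat_lit 5), Mv.f (nat_lit 1), Mv.f (nat_lit 0), Mv.f (nat_lit 5), Mv.b (nat_lit 29)]))) (Tr.nd (nat_lit 34) (Tr.lf (Fc.al (nat_lit 33) (nat_lit 2) (nat_lit 1) (Dv.wd (nat_lit 10) [Mv.f (nat_lit 6), Mv.b (nat_lit 5), Mv.f (nat_lit 1), Mv.f (nat_lit 0), Mv.f (nat_lit 5), Mv.b (nat_lit 29), Mv.f (nat_lit 30), Mv.f (nat_lit 31), Mv.f (nat_lit 29), Mv.f (nat_lit 7)]))) (Tr.lf (Fc.ed (nat_lit 34) (nat_lit 1) Col.d (nat_lit 3) (Dv.wd (nat_lit 11) [Mv.b (nat_lit 8), Mv.f (nat_lit 33)]))))))) (Tr.nd (nat_lit 41) (Tr.nd (nat_lit 38) (Tr.nd (nat_lit 36) (Tr.lf (Fc.ed (nat_lit 35) (nat_lit 1) Col.e (nat_lit 1) (Dv.wd (nat_lit 12) [Mv.f (nat_lit 7), Mv.f (nat_lit 33)]))) (Tr.nd (nat_lit 37) (Tr.lf (Fc.al (nat_lit 36) (nat_lit 3) (nat_lit 1) (Dv.wd (nat_lit 13) [Mv.b (nat_lit 5), Mv.f (nat_lit 2), Mv.f (nat_lit 5), Mv.f (nat_lit 34)]))) (Tr.lf (Fc.al (nat_lit 37) (nat_lit 23) (nat_lit 4) (Dv.wd (nat_lit 14) [Mv.b (nat_lit 9), Mv.f (nat_lit 36), Mv.b (nat_lit 29)]))))) (Tr.nd (nat_lit 39) (Tr.lf (Fc.ed (nat_lit 38) (nat_lit 1) Col.d (nat_lit 1) (Dv.wd (nat_lit 11) [Mv.f (nat_lit 34), Mv.f (nat_lit 36)]))) (Tr.nd (nat_lit 40) (Tr.lf (Fc.ed (nat_lit 39) (nat_lit 4) Col.a (nat_lit 4) (Dv.wd (nat_lit 15) [Mv.b (nat_lit 37), Mv.f (nat_lit 30), Mv.f (nat_lit 37)]))) (Tr.lf (Fc.al (nat_lit 40) (nat_lit 5) (nat_lit 4) (Dv.wd (nat_lit 16) [Mv.b (nat_lit 37), Mv.f (nat_lit 31), Mv.f (nat_lit 37), Mv.f (nat_lit 10)])))))) (Tr.nd (nat_lit 44) (Tr.nd (nat_lit 42) (Tr.lf (Fc.ed (nat_lit 41) (nat_lit 4) Col.c (nat_lit 1) (Dv.wd (nat_lit 14) [Mv.b (nat_lit 29), Mv.f (nat_lit 37)]))) (Tr.nd (nat_lit 43) (Tr.lf (Fc.ed (nat_lit 42) (nat_lit 4) Col.d (nat_lit 22) (Dv.wd (nat_lit 11) [Mv.f (nat_lit 28), Mv.f (nat_lit 37)]))) (Tr.lf (Fc.ed (nat_lit 43) (nat_lit 4) Col.e (nat_lit 4) (Dv.wd (nat_lit 12) [Mv.b (nat_lit 37), Mv.f (nat_lit 32), Mv.f (nat_lit 37)]))))) (Tr.nd (nat_lit 45) (Tr.lf (Fc.ed (nat_lit 44) (nat_lit 4) Col.b (nat_lit 4) (Dv.wd (nat_lit 16) [Mv.f (nat_lit 10), Mv.f (nat_lit 40)]))) (Tr.nd (nat_lit 46) (Tr.lf (Fc.al (nat_lit 45) (nat_lit 4) (nat_lit 6) (Dv.wd (nat_lit 12) [Mv.b (nat_lit 11), Mv.f (nat_lit 40), Mv.f (nat_lit 43)]))) (Tr.lf (Fc.al (nat_lit 46) (nat_lit 22) (nat_lit 7) (Dv.wd (nat_lit 11) [Mv.b (nat_lit 12), Mv.b (nat_lit 45), Mv.f (nat_lit 42)]))))))))) (Tr.nd (nat_lit 71) (Tr.nd (nat_lit 59) (Tr.nd (nat_lit 53) (Tr.nd (nat_lit 50) (Tr.nd (nat_lit 48) (Tr.lf (Fc.ed (nat_lit 47) (nat_lit 7) Col.d (nat_lit 4) (Dv.wd (nat_lit 11) [Mv.f (nat_lit 42), Mv.f (nat_lit 46)]))) (Tr.nd (nat_lit 49) (Tr.lf (Fc.ed (nat_lit 48) (nat_lit 7) Col.e (nat_lit 21) (Dv.wd (nat_lit 12) [Mv.f (nat_lit 27), Mv.f (nat_lit 46)]))) (Tr.lf (Fc.ed (nat_lit 49) (nat_lit 21) Col.d (nat_lit 21) (Dv.wd (nat_lit 17) [Mv.b (nat_lit 48), Mv.f (nat_lit 47), Mv.f (nat_lit 43), Mv.b (nat_lit 47), Mv.f (nat_lit 48)]))))) (Tr.nd (nat_lit 51) (Tr.lf (Fc.ed (nat_lit 50) (nat_lit 20) Col.d (nat_lit 20) (Dv.wd (nat_lit 18) [Mv.f (nat_lit 26), Mv.f (nat_lit 49), Mv.b (nat_lit 26)]))) (Tr.nd (nat_lit 52) (Tr.lf (Fc.ed (nat_lit 51) (nat_lit 7) Col.a (nat_lit 7) (Dv.wd (nat_lit 19) [Mv.f (nat_lit 47), Mv.f (nat_lit 39), Mv.b (nat_lit 47)]))) (Tr.lf (Fc.ed (nat_lit 52) (nat_lit 7) Col.b (nat_lit 7) (Dv.wd (nat_lit 20) [Mv.f (nat_lit 47), Mv.f (nat_lit 44), Mv.b (nat_lit 47)])))))) (Tr.nd (nat_lit 56) (Tr.nd (nat_lit 54) (Tr.lf (Fc.al (nat_lit 53) (nat_lit 20) (nat_lit 21) (Dv.wd (nat_lit 21) [Mv.b (nat_lit 48), Mv.f (nat_lit 52), Mv.f (nat_lit 48), Mv.b (nat_lit 26)]))) (Tr.nd (nat_lit 55) (Tr.lf (Fc.ed (nat_lit 54) (nat_lit 20) Col.b (nat_lit 20) (Dv.wd (nat_lit 16) [Mv.f (nat_lit 26), Mv.b (nat_lit 53)]))) (Tr.lf (Fc.ed (nat_lit 55) (nat_lit 20) Col.e (nat_lit 7) (Dv.wd (nat_lit 12) [Mv.f (nat_lit 48), Mv.b (nat_lit 53)]))))) (Tr.nd (nat_lit 57) (Tr.lf (Fc.ed (nat_lit 56) (nat_lit 9) Col.c (nat_lit 9) (Dv.wd (nat_lit 22) [Mv.b (nat_lit 14), Mv.b (nat_lit 13), Mv.f (nat_lit 52), Mv.f (nat_lit 13), Mv.f (nat_lit 14)]))) (Tr.nd (nat_lit 58) (Tr.lf (Fc.ed (nat_lit 57) (nat_lit 10) Col.c (nat_lit 10) (Dv.wd (nat_lit 23) [Mv.b (nat_lit 15), Mv.f (nat_lit 56), Mv.f (nat_lit 15)]))) (Tr.lf (Fc.ed (nat_lit 58) (nat_lit 20) Col.a (nat_lit 20) (Dv.wd (nat_lit 24) [Mv.f (nat_lit 55), Mv.f (nat_lit 51), Mv.b (nat_lit 55)]))))))) (Tr.nd (nat_lit 65) (Tr.nd (nat_lit 62) (Tr.nd (nat_lit 60) (Tr.lf (Fc.ed (nat_lit 59) (nat_lit 8) Col.e (nat_lit 19) (Dv.wd (nat_lit 25) [Mv.f (nat_lit 25), Mv.f (nat_lit 55), Mv.f (nat_lit 13)]))) (Tr.nd (nat_lit 61) (Tr.lf (Fc.ed (nat_lit 60) (nat_lit 19) Col.b (nat_lit 10) (Dv.wd (nat_lit 26) [Mv.b (nat_lit 15), Mv.b (nat_lit 14), Mv.f (nat_lit 59)]))) (Tr.lf (Fc.ed (nat_lit 61) (nat_lit 11) Col.b (nat_lit 18) (Dv.wd (nat_lit 20) [Mv.f (nat_lit 24), Mv.f (nat_lit 60), Mv.f (nat_lit 16)]))))) (Tr.nd (nat_lit 63) (Tr.lf (Fc.ed (nat_lit 62) (nat_lit 16) Col.e (nat_lit 11) (Dv.wd (nat_lit 21) [Mv.f (nat_lit 61), Mv.b (nat_lit 23), Mv.b (nat_lit 22)]))) (Tr.nd (nat_lit 64) (Tr.lf (Fc.ed (nat_lit 63) (nat_lit 12) Col.e (nat_lit 15) (Dv.wd (nat_lit 25) [Mv.f (nat_lit 21), Mv.f (nat_lit 62), Mv.f (nat_lit 17)]))) (Tr.lf (Fc.ed (nat_lit 64) (nat_lit 15) Col.b (nat_lit 14) (Dv.wd (nat_lit 26) [Mv.b (nat_lit 19), Mv.b (nat_lit 18), Mv.f (nat_lit 63)])))))) (Tr.nd (nat_lit 68) (Tr.nd (nat_lit 66) (Tr.lf (Fc.ed (nat_lit 65) (nat_lit 19) Col.a (nat_lit 19) (Dv.wd (nat_lit 7) [Mv.f (nat_lit 25), Mv.f (nat_lit 58), Mv.b (nat_lit 25)]))) (Tr.nd (nat_lit 67) (Tr.lf (Fc.ed (nat_lit 66) (nat_lit 10) Col.a (nat_lit 9) (Dv.wd (nat_lit 27) [Mv.b (nat_lit 14), Mv.b (nat_lit 13), Mv.b (nat_lit 55), Mv.f (nat_lit 58), Mv.f (nat_lit 54), Mv.b (nat_lit 25), Mv.f (nat_lit 65), Mv.f (nat_lit 60), Mv.f (nat_lit 57)]))) (Tr.lf (Fc.ed (nat_lit 67) (nat_lit 8) Col.a (nat_lit 8) (Dv.wd (nat_lit 10) [Mv.f (nat_lit 14), Mv.f (nat_lit 56), Mv.b (nat_lit 66), Mv.b (nat_lit 60), Mv.f (nat_lit 25), Mv.f (nat_lit 58), Mv.f (nat_lit 54), Mv.b (nat_lit 25), Mv.b (nat_lit 59)]))))) (Tr.nd (nat_lit 69) (Tr.lf (Fc.ed (nat_lit 68) (nat_lit 1) Col.f (nat_lit 1) (Dv.wd (nat_lit 28) [Mv.b (nat_lit 5), Mv.f (nat_lit 4), Mv.f (nat_lit 5)]))) (Tr.nd (nat_lit 70) (Tr.lf (Fc.ed (nat_lit 69) (nat_lit 4) Col.f (nat_lit 4) (Dv.wd (nat_lit 29) [Mv.f (nat_lit 41), Mv.f (nat_lit 68), Mv.b (nat_lit 41)]))) (Tr.lf (Fc.ed (nat_lit 70) (nat_lit 7) Col.g (nat_lit 24) Dv.df))))))) (Tr.nd (nat_lit 83) (Tr.nd (nat_lit 77) (Tr.nd (nat_lit 74) (Tr.nd (nat_lit 72) (Tr.lf (Fc.ed (nat_lit 71) (nat_lit 24) Col.a (nat_lit 24) (Dv.wd (nat_lit 30) [Mv.b (nat_lit 70), Mv.f (nat_lit 51), Mv.f (nat_lit 70)]))) (Tr.nd (nat_lit 73) (Tr.lf (Fc.ed (nat_lit 72) (nat_lit 24) Col.b (nat_lit 24) (Dv.wd (nat_lit 31) [Mv.b (nat_lit 70), Mv.f (nat_lit 52), Mv.f (nat_lit 70)]))) (Tr.lf (Fc.ed (nat_lit 73) (nat_lit 24) Col.d (nat_lit 25) Dv.df)))) (Tr.nd (nat_lit 75) (Tr.lf (Fc.ed (nat_lit 74) (nat_lit 25) Col.a (nat_lit 25) (Dv.wd (nat_lit 32) [Mv.b (nat_lit 73), Mv.f (nat_lit 71), Mv.f (nat_lit 73)]))) (Tr.nd (nat_lit 76) (Tr.lf (Fc.ed (nat_lit 75) (nat_lit 25) Col.b (nat_lit 25) (Dv.wd (nat_lit 13) [Mv.b (nat_lit 73), Mv.f (nat_lit 72), Mv.f (nat_lit 73)]))) (Tr.lf (Fc.ed (nat_lit 76) (nat_lit 25) Col.c (nat_lit 26) Dv.df))))) (Tr.nd (nat_lit 80) (Tr.nd (nat_lit 78) (Tr.lf (Fc.ed (nat_lit 77) (nat_lit 26) Col.a (nat_lit 26) (Dv.wd (nat_lit 33) [Mv.b (nat_lit 76), Mv.f (nat_lit 74), Mv.f (nat_lit 76)]))) (Tr.nd (nat_lit 79) (Tr.lf (Fc.ed (nat_lit 78) (nat_lit 26) Col.b (nat_lit 27) Dv.df)) (Tr.lf (Fc.ed (nat_lit 79) (nat_lit 27) Col.c (nat_lit 27) (Dv.wd (nat_lit 34) [Mv.b (nat_lit 78), Mv.b (nat_lit 76), Mv.f (nat_lit 75), Mv.f (nat_lit 76), Mv.f (nat_lit 78)]))))) (Tr.nd (nat_lit 81) (Tr.lf (Fc.ed (nat_lit 80) (nat_lit 1) Col.g (nat_lit 28) Dv.df)) (Tr.nd (nat_lit 82) (Tr.lf (Fc.ed (nat_lit 81) (nat_lit 28) Col.a (nat_lit 28) (Dv.wd (nat_lit 30) [Mv.b (nat_lit 80), Mv.f (nat_lit 6), Mv.f (nat_lit 80)]))) (Tr.lf (Fc.ed (nat_lit 82) (nat_lit 28) Col.f (nat_lit 28) (Dv.wd (nat_lit 35) [Mv.b (nat_lit 80), Mv.f (nat_lit 35), Mv.f (nat_lit 68), Mv.f (nat_lit 80)]))))))) (Tr.nd (nat_lit 89) (Tr.nd (nat_lit 86) (Tr.nd (nat_lit 84) (Tr.lf (Fc.ed (nat_lit 83) (nat_lit 4) Col.g (nat_lit 29) Dv.df)) (Tr.nd (nat_lit 85) (Tr.lf (Fc.ed (nat_lit 84) (nat_lit 29) Col.c (nat_lit 28) (Dv.wd (nat_lit 36) [Mv.b (nat_lit 80), Mv.b (nat_lit 41), Mv.f (nat_lit 83)]))) (Tr.lf (Fc.ed (nat_lit 85) (nat_lit 29) Col.e (nat_lit 29) (Dv.wd (nat_lit 37) [Mv.b (nat_lit 83), Mv.f (nat_lit 43), Mv.f (nat_lit 83)]))))) (Tr.nd (nat_lit 87) (Tr.lf (Fc.ed (nat_lit 86) (nat_lit 29) Col.f (nat_lit 29) (Dv.wd (nat_lit 35) [Mv.b (nat_lit 83), Mv.f (nat_lit 43), Mv.f (nat_lit 69), Mv.f (nat_lit 83)]))) (Tr.nd (nat_lit 88) (Tr.lf (Fc.ed (nat_lit 87) (nat_lit 7) Col.f (nat_lit 30) Dv.df)) (Tr.lf (Fc.ed (nat_lit 88) (nat_lit 8) Col.g (nat_lit 31) Dv.df))))) (Tr.nd (nat_lit 92) (Tr.nd (nat_lit 90) (Tr.lf (Fc.ed (nat_lit 89) (nat_lit 31) Col.a (nat_lit 31) (Dv.wd (nat_lit 30) [Mv.b (nat_lit 88), Mv.f (nat_lit 67), Mv.f (nat_lit 88)]))) (Tr.nd (nat_lit 91) (Tr.lf (Fc.ed (nat_lit 90) (nat_lit 31) Col.c (nat_lit 24) (Dv.wd (nat_lit 36) [Mv.b (nat_lit 70), Mv.f (nat_lit 13), Mv.f (nat_lit 88)]))) (Tr.lf (Fc.ed (nat_lit 91) (nat_lit 8) Col.d (nat_lit 32) Dv.df)))) (Tr.nd (nat_lit 93) (Tr.lf (Fc.ed (nat_lit 92) (nat_lit 32) Col.a (nat_lit 32) (Dv.wd (nat_lit 32) [Mv.b (nat_lit 91), Mv.f (nat_lit 67), Mv.f (nat_lit 91)]))) (Tr.nd (nat_lit 94) (Tr.lf (Fc.ed (nat_lit 93) (nat_lit 32) Col.c (nat_lit 32) (Dv.wd (nat_lit 38) [Mv.b (nat_lit 91), Mv.b (nat_lit 13), Mv.f (nat_lit 47), Mv.f (nat_lit 41), Mv.f (nat_lit 38), Mv.b (nat_lit 41), Mv.b (nat_lit 47), Mv.f (nat_lit 51), Mv.f (nat_lit 13), Mv.f (nat_lit 91)]))) (Tr.lf (Fc.ed (nat_lit 94) (nat_lit 8) Col.f (nat_lit 33) Dv.df))))))))) (Tr.nd (nat_lit 143) (Tr.nd (nat_lit 119) (Tr.nd (nat_lit 107) (Tr.nd (nat_lit 101) (Tr.nd (nat_lit 98) (Tr.nd (nat_lit 96) (Tr.lf (Fc.ed (nat_lit 95) (nat_lit 33) Col.c (nat_lit 30) (Dv.wd (nat_lit 39) [Mv.b (nat_lit 87), Mv.f (nat_lit 13), Mv.f (nat_lit 94)]))) (Tr.nd (nat_lit 97) (Tr.lf (Fc.ed (nat_lit 96) (nat_lit 9) Col.g (nat_lit 34) Dv.df)) (Tr.lf (Fc.ed (nat_lit 97) (nat_lit 34) Col.b (nat_lit 31) (Dv.wd (nat_lit 31) [Mv.b (nat_lit 88), Mv.f (nat_lit 14), Mv.f (nat_lit 96)]))))) (Tr.nd (nat_lit 99) (Tr.lf (Fc.ed (nat_lit 98) (nat_lit 34) Col.c (nat_lit 34) (Dv.wd (nat_lit 36) [Mv.b (nat_lit 96), Mv.f (nat_lit 56), Mv.f (nat_lit 96)]))) (Tr.nd (nat_lit 100) (Tr.lf (Fc.ed (nat_lit 99) (nat_lit 9) Col.d (nat_lit 35) Dv.df)) (Tr.lf (Fc.ed (nat_lit 100) (nat_lit 35) Col.a (nat_lit 11) (Dv.wd (nat_lit 32) [Mv.b (nat_lit 16), Mv.f (nat_lit 66), Mv.f (nat_lit 99)])))))) (Tr.nd (nat_lit 104) (Tr.nd (nat_lit 102) (Tr.lf (Fc.ed (nat_lit 101) (nat_lit 35) Col.b (nat_lit 32) (Dv.wd (nat_lit 13) [Mv.b (nat_lit 91), Mv.f (nat_lit 14), Mv.f (nat_lit 99)]))) (Tr.nd (nat_lit 103) (Tr.lf (Fc.ed (nat_lit 102) (nat_lit 10) Col.g (nat_lit 36) Dv.df)) (Tr.lf (Fc.ed (nat_lit 103) (nat_lit 36) Col.a (nat_lit 34) (Dv.wd (nat_lit 30) [Mv.b (nat_lit 96), Mv.b (nat_lit 66), Mv.f (nat_lit 102)]))))) (Tr.nd (nat_lit 105) (Tr.lf (Fc.ed (nat_lit 104) (nat_lit 36) Col.e (nat_lit 34) (Dv.wd (nat_lit 37) [Mv.b (nat_lit 96), Mv.f (nat_lit 15), Mv.f (nat_lit 102)]))) (Tr.nd (nat_lit 106) (Tr.lf (Fc.ed (nat_lit 105) (nat_lit 11) Col.f (nat_lit 37) Dv.df)) (Tr.lf (Fc.ed (nat_lit 106) (nat_lit 11) Col.g (nat_lit 38) Dv.df)))))) (Tr.nd (nat_lit 113) (Tr.nd (nat_lit 110) (Tr.nd (nat_lit 108) (Tr.lf (Fc.ed (nat_lit 107) (nat_lit 12) Col.a (nat_lit 39) Dv.df)) (Tr.nd (nat_lit 109) (Tr.lf (Fc.ed (nat_lit 108) (nat_lit 39) Col.c (nat_lit 35) (Dv.wd (nat_lit 40) [Mv.f (nat_lit 100), Mv.f (nat_lit 17), Mv.f (nat_lit 107)]))) (Tr.lf (Fc.al (nat_lit 109) (nat_lit 14) (nat_lit 12) (Dv.wd (nat_lit 41) [Mv.f (nat_lit 107), Mv.f (nat_lit 108), Mv.f (nat_lit 101), Mv.f (nat_lit 92), Mv.f (nat_lit 93), Mv.b (nat_lit 101), Mv.f (nat_lit 100), Mv.b (nat_lit 62), Mv.b (nat_lit 21), Mv.f (nat_lit 64)]))))) (Tr.nd (nat_lit 111) (Tr.lf (Fc.al (nat_lit 110) (nat_lit 13) (nat_lit 15) (Dv.wd (nat_lit 16) [Mv.f (nat_lit 64), Mv.f (nat_lit 109), Mv.f (nat_lit 18)]))) (Tr.nd (nat_lit 112) (Tr.lf (Fc.ed (nat_lit 111) (nat_lit 12) Col.d (nat_lit 13) (Dv.wd (nat_lit 11) [Mv.f (nat_lit 110), Mv.b (nat_lit 20), Mv.f (nat_lit 109)]))) (Tr.lf (Fc.ed (nat_lit 112) (nat_lit 13) Col.c (nat_lit 16) (Dv.wd (nat_lit 14) [Mv.b (nat_lit 21), Mv.b (nat_lit 110)])))))) (Tr.nd (nat_lit 116) (Tr.nd (nat_lit 114) (Tr.lf (Fc.ed (nat_lit 113) (nat_lit 12) Col.f (nat_lit 40) Dv.df)) (Tr.nd (nat_lit 115) (Tr.lf (Fc.ed (nat_lit 114) (nat_lit 40) Col.c (nat_lit 37) (Dv.wd (nat_lit 39) [Mv.b (nat_lit 105), Mv.f (nat_lit 17), Mv.f (nat_lit 113)]))) (Tr.lf (Fc.ed (nat_lit 115) (nat_lit 16) Col.g (nat_lit 41) Dv.df)))) (Tr.nd (nat_lit 117) (Tr.lf (Fc.ed (nat_lit 116) (nat_lit 17) Col.d (nat_lit 42) Dv.df)) (Tr.nd (nat_lit 118) (Tr.lf (Fc.ed (nat_lit 117) (nat_lit 42) Col.e (nat_lit 32) (Dv.wd (nat_lit 42) [Mv.b (nat_lit 91), Mv.f (nat_lit 59), Mv.b (nat_lit 24), Mv.b (nat_lit 23), Mv.f (nat_lit 116)]))) (Tr.lf (Fc.ed (nat_lit 118) (nat_lit 17) Col.g (nat_lit 43) Dv.df))))))) (Tr.nd (nat_lit 131) (Tr.nd (nat_lit 125) (Tr.nd (nat_lit 122) (Tr.nd (nat_lit 120) (Tr.lf (Fc.ed (nat_lit 119) (nat_lit 43) Col.b (nat_lit 41) (Dv.wd (nat_lit 31) [Mv.b (nat_lit 115), Mv.f (nat_lit 22), Mv.f (nat_lit 118)]))) (Tr.nd (nat_lit 121) (Tr.lf (Fc.ed (nat_lit 120) (nat_lit 18) Col.g (nat_lit 44) Dv.df)) (Tr.lf (Fc.ed (nat_lit 121) (nat_lit 44) Col.b (nat_lit 38) (Dv.wd (nat_lit 31) [Mv.b (nat_lit 106), Mv.f (nat_lit 61), Mv.f (nat_lit 120)]))))) (Tr.nd (nat_lit 123) (Tr.lf (Fc.ed (nat_lit 122) (nat_lit 19) Col.g (nat_lit 45) Dv.df)) (Tr.nd (nat_lit 124) (Tr.lf (Fc.ed (nat_lit 123) (nat_lit 45) Col.a (nat_lit 45) (Dv.wd (nat_lit 30) [Mv.b (nat_lit 122), Mv.f (nat_lit 65), Mv.f (nat_lit 122)]))) (Tr.lf (Fc.ed (nat_lit 124) (nat_lit 45) Col.b (nat_lit 36) (Dv.wd (nat_lit 31) [Mv.b (nat_lit 102), Mv.b (nat_lit 60), Mv.f (nat_lit 122)])))))) (Tr.nd (nat_lit 128) (Tr.nd (nat_lit 126) (Tr.lf (Fc.ed (nat_lit 125) (nat_lit 20) Col.g (nat_lit 46) Dv.df)) (Tr.nd (nat_lit 127) (Tr.lf (Fc.ed (nat_lit 126) (nat_lit 46) Col.e (nat_lit 24) (Dv.wd (nat_lit 37) [Mv.b (nat_lit 70), Mv.b (nat_lit 55), Mv.f (nat_lit 125)]))) (Tr.lf (Fc.ed (nat_lit 127) (nat_lit 25) Col.f (nat_lit 47) Dv.df)))) (Tr.nd (nat_lit 129) (Tr.lf (Fc.ed (nat_lit 128) (nat_lit 25) Col.g (nat_lit 48) Dv.df)) (Tr.nd (nat_lit 130) (Tr.lf (Fc.ed (nat_lit 129) (nat_lit 48) Col.d (nat_lit 29) (Dv.wd (nat_lit 43) [Mv.b (nat_lit 83), Mv.b (nat_lit 47), Mv.f (nat_lit 70), Mv.f (nat_lit 73), Mv.f (nat_lit 128)]))) (Tr.lf (Fc.ed (nat_lit 130) (nat_lit 25) Col.e (nat_lit 49) Dv.df)))))) (Tr.nd (nat_lit 137) (Tr.nd (nat_lit 134) (Tr.nd (nat_lit 132) (Tr.lf (Fc.ed (nat_lit 131) (nat_lit 49) Col.a (nat_lit 49) (Dv.wd (nat_lit 44) [Mv.b (nat_lit 130), Mv.f (nat_lit 74), Mv.f (nat_lit 130)]))) (Tr.nd (nat_lit 133) (Tr.lf (Fc.ed (nat_lit 132) (nat_lit 49) Col.b (nat_lit 49) (Dv.wd (nat_lit 26) [Mv.b (nat_lit 130), Mv.f (nat_lit 75), Mv.f (nat_lit 130)]))) (Tr.lf (Fc.ed (nat_lit 133) (nat_lit 26) Col.d (nat_lit 50) Dv.df)))) (Tr.nd (nat_lit 135) (Tr.lf (Fc.ed (nat_lit 134) (nat_lit 50) Col.a (nat_lit 50) (Dv.wd (nat_lit 32) [Mv.b (nat_lit 133), Mv.f (nat_lit 77), Mv.f (nat_lit 133)]))) (Tr.nd (nat_lit 136) (Tr.lf (Fc.ed (nat_lit 135) (nat_lit 26) Col.f (nat_lit 51) Dv.df)) (Tr.lf (Fc.ed (nat_lit 136) (nat_lit 51) Col.c (nat_lit 47) (Dv.wd (nat_lit 39) [Mv.b (nat_lit 127), Mv.f (nat_lit 76), Mv.f (nat_lit 135)])))))) (Tr.nd (nat_lit 140) (Tr.nd (nat_lit 138) (Tr.lf (Fc.ed (nat_lit 137) (nat_lit 26) Col.g (nat_lit 52) Dv.df)) (Tr.nd (nat_lit 139) (Tr.lf (Fc.ed (nat_lit 138) (nat_lit 52) Col.c (nat_lit 48) (Dv.wd (nat_lit 36) [Mv.b (nat_lit 128), Mv.f (nat_lit 76), Mv.f (nat_lit 137)]))) (Tr.lf (Fc.ed (nat_lit 139) (nat_lit 26) Col.e (nat_lit 53) Dv.df)))) (Tr.nd (nat_lit 141) (Tr.lf (Fc.ed (nat_lit 140) (nat_lit 53) Col.c (nat_lit 49) (Dv.wd (nat_lit 45) [Mv.b (nat_lit 130), Mv.f (nat_lit 76), Mv.f (nat_lit 139)]))) (Tr.nd (nat_lit 142) (Tr.lf (Fc.ed (nat_lit 141) (nat_lit 27) Col.a (nat_lit 54) Dv.df)) (Tr.lf (Fc.ed (nat_lit 142) (nat_lit 54) Col.b (nat_lit 53) (Dv.wd (nat_lit 46) [Mv.f (nat_lit 140), Mv.f (nat_lit 131), Mv.f (nat_lit 132), Mv.b (nat_lit 140), Mv.b (nat_lit 139), Mv.f (nat_lit 77), Mv.f (nat_lit 78), Mv.f (nat_lit 79), Mv.f (nat_lit 141)]))))))))) (Tr.nd (nat_lit 167) (Tr.nd (nat_lit 155) (Tr.nd (nat_lit 149) (Tr.nd (nat_lit 146) (Tr.nd (nat_lit 144) (Tr.lf (Fc.ed (nat_lit 143) (nat_lit 27) Col.d (nat_lit 55) Dv.df)) (Tr.nd (nat_lit 145) (Tr.lf (Fc.ed (nat_lit 144) (nat_lit 55) Col.b (nat_lit 50) (Dv.wd (nat_lit 13) [Mv.b (nat_lit 133), Mv.f (nat_lit 78), Mv.f (nat_lit 143)]))) (Tr.lf (Fc.ed (nat_lit 145) (nat_lit 28) Col.d (nat_lit 56) Dv.df)))) (Tr.nd (nat_lit 147) (Tr.lf (Fc.ed (nat_lit 146) (nat_lit 56) Col.a (nat_lit 56) (Dv.wd (nat_lit 32) [Mv.b (nat_lit 145), Mv.f (nat_lit 81), Mv.f (nat_lit 145)]))) (Tr.nd (nat_lit 148) (Tr.lf (Fc.ed (nat_lit 147) (nat_lit 56) Col.g (nat_lit 56) (Dv.wd (nat_lit 47) [Mv.b (nat_lit 145), Mv.b (nat_lit 80), Mv.f (nat_lit 38), Mv.f (nat_lit 80), Mv.f (nat_lit 145)]))) (Tr.lf (Fc.ed (nat_lit 148) (nat_lit 30) Col.g (nat_lit 57) Dv.df))))) (Tr.nd (nat_lit 152) (Tr.nd (nat_lit 150) (Tr.lf (Fc.ed (nat_lit 149) (nat_lit 31) Col.d (nat_lit 58) Dv.df)) (Tr.nd (nat_lit 151) (Tr.lf (Fc.ed (nat_lit 150) (nat_lit 58) Col.a (nat_lit 58) (Dv.wd (nat_lit 32) [Mv.b (nat_lit 149), Mv.f (nat_lit 89), Mv.f (nat_lit 149)]))) (Tr.lf (Fc.ed (nat_lit 151) (nat_lit 32) Col.g (nat_lit 59) Dv.df)))) (Tr.nd (nat_lit 153) (Tr.lf (Fc.ed (nat_lit 152) (nat_lit 33) Col.g (nat_lit 60) Dv.df)) (Tr.nd (nat_lit 154) (Tr.lf (Fc.ed (nat_lit 153) (nat_lit 60) Col.c (nat_lit 57) (Dv.wd (nat_lit 36) [Mv.b (nat_lit 148), Mv.b (nat_lit 95), Mv.f (nat_lit 152)]))) (Tr.lf (Fc.ed (nat_lit 154) (nat_lit 60) Col.f (nat_lit 45) (Dv.wd (nat_lit 35) [Mv.b (nat_lit 122), Mv.b (nat_lit 59), Mv.f (nat_lit 94), Mv.f (nat_lit 152)]))))))) (Tr.nd (nat_lit 161) (Tr.nd (nat_lit 158) (Tr.nd (nat_lit 156) (Tr.lf (Fc.ed (nat_lit 155) (nat_lit 34) Col.d (nat_lit 61) Dv.df)) (Tr.nd (nat_lit 157) (Tr.lf (Fc.ed (nat_lit 156) (nat_lit 61) Col.b (nat_lit 58) (Dv.wd (nat_lit 13) [Mv.b (nat_lit 149), Mv.b (nat_lit 97), Mv.f (nat_lit 155)]))) (Tr.lf (Fc.ed (nat_lit 157) (nat_lit 36) Col.d (nat_lit 62) Dv.df)))) (Tr.nd (nat_lit 159) (Tr.lf (Fc.ed (nat_lit 158) (nat_lit 62) Col.a (nat_lit 61) (Dv.wd (nat_lit 32) [Mv.b (nat_lit 155), Mv.b (nat_lit 103), Mv.f (nat_lit 157)]))) (Tr.nd (nat_lit 160) (Tr.lf (Fc.ed (nat_lit 159) (nat_lit 37) Col.g (nat_lit 63) Dv.df)) (Tr.lf (Fc.ed (nat_lit 160) (nat_lit 63) Col.f (nat_lit 41) (Dv.wd (nat_lit 35) [Mv.b (nat_lit 115), Mv.f (nat_lit 62), Mv.f (nat_lit 105), Mv.f (nat_lit 159)])))))) (Tr.nd (nat_lit 164) (Tr.nd (nat_lit 162) (Tr.lf (Fc.ed (nat_lit 161) (nat_lit 38) Col.d (nat_lit 64) Dv.df)) (Tr.nd (nat_lit 163) (Tr.lf (Fc.ed (nat_lit 162) (nat_lit 64) Col.g (nat_lit 62) (Dv.wd (nat_lit 47) [Mv.b (nat_lit 157), Mv.b (nat_lit 102), Mv.f (nat_lit 16), Mv.f (nat_lit 106), Mv.f (nat_lit 161)]))) (Tr.lf (Fc.ed (nat_lit 163) (nat_lit 40) Col.g (nat_lit 65) Dv.df)))) (Tr.nd (nat_lit 165) (Tr.lf (Fc.ed (nat_lit 164) (nat_lit 65) Col.c (nat_lit 63) (Dv.wd (nat_lit 36) [Mv.b (nat_lit 159), Mv.b (nat_lit 114), Mv.f (nat_lit 163)]))) (Tr.nd (nat_lit 166) (Tr.lf (Fc.ed (nat_lit 165) (nat_lit 42) Col.g (nat_lit 66) Dv.df)) (Tr.lf (Fc.ed (nat_lit 166) (nat_lit 66) Col.e (nat_lit 59) (Dv.wd (nat_lit 37) [Mv.b (nat_lit 151), Mv.b (nat_lit 117), Mv.f (nat_lit 165)])))))))) (Tr.nd (nat_lit 179) (Tr.nd (nat_lit 173) (Tr.nd (nat_lit 170) (Tr.nd (nat_lit 168) (Tr.lf (Fc.ed (nat_lit 167) (nat_lit 43) Col.f (nat_lit 67) Dv.df)) (Tr.nd (nat_lit 169) (Tr.lf (Fc.ed (nat_lit 168) (nat_lit 67) Col.b (nat_lit 63) (Dv.wd (nat_lit 48) [Mv.f (nat_lit 160), Mv.b (nat_lit 119), Mv.f (nat_lit 167)]))) (Tr.lf (Fc.ed (nat_lit 169) (nat_lit 43) Col.d (nat_lit 68) Dv.df)))) (Tr.nd (nat_lit 171) (Tr.lf (Fc.ed (nat_lit 170) (nat_lit 44) Col.d (nat_lit 69) Dv.df)) (Tr.nd (nat_lit 172) (Tr.lf (Fc.ed (nat_lit 171) (nat_lit 69) Col.b (nat_lit 64) (Dv.wd (nat_lit 13) [Mv.b (nat_lit 161), Mv.b (nat_lit 121), Mv.f (nat_lit 170)]))) (Tr.lf (Fc.ed (nat_lit 172) (nat_lit 45) Col.d (nat_lit 70) Dv.df))))) (Tr.nd (nat_lit 176) (Tr.nd (nat_lit 174) (Tr.lf (Fc.ed (nat_lit 173) (nat_lit 70) Col.a (nat_lit 70) (Dv.wd (nat_lit 32) [Mv.b (nat_lit 172), Mv.f (nat_lit 123), Mv.f (nat_lit 172)]))) (Tr.nd (nat_lit 175) (Tr.lf (Fc.ed (nat_lit 174) (nat_lit 70) Col.b (nat_lit 62) (Dv.wd (nat_lit 13) [Mv.b (nat_lit 157), Mv.b (nat_lit 124), Mv.f (nat_lit 172)]))) (Tr.lf (Fc.ed (nat_lit 175) (nat_lit 70) Col.g (nat_lit 69) (Dv.wd (nat_lit 47) [Mv.b (nat_lit 170), Mv.b (nat_lit 120), Mv.f (nat_lit 24), Mv.f (nat_lit 122), Mv.f (nat_lit 172)]))))) (Tr.nd (nat_lit 177) (Tr.lf (Fc.ed (nat_lit 176) (nat_lit 46) Col.d (nat_lit 71) Dv.df)) (Tr.nd (nat_lit 178) (Tr.lf (Fc.ed (nat_lit 177) (nat_lit 71) Col.g (nat_lit 71) (Dv.wd (nat_lit 47) [Mv.b (nat_lit 176), Mv.b (nat_lit 125), Mv.f (nat_lit 50), Mv.f (nat_lit 125), Mv.f (nat_lit 176)]))) (Tr.lf (Fc.ed (nat_lit 178) (nat_lit 47) Col.e (nat_lit 72) Dv.df)))))) (Tr.nd (nat_lit 185) (Tr.nd (nat_lit 182) (Tr.nd (nat_lit 180) (Tr.lf (Fc.ed (nat_lit 179) (nat_lit 72) Col.f (nat_lit 49) (Dv.wd (nat_lit 49) [Mv.b (nat_lit 130), Mv.f (nat_lit 127), Mv.f (nat_lit 178)]))) (Tr.nd (nat_lit 181) (Tr.lf (Fc.ed (nat_lit 180) (nat_lit 48) Col.e (nat_lit 73) Dv.df)) (Tr.lf (Fc.ed (nat_lit 181) (nat_lit 73) Col.g (nat_lit 49) (Dv.wd (nat_lit 50) [Mv.b (nat_lit 130), Mv.f (nat_lit 128), Mv.f (nat_lit 180)]))))) (Tr.nd (nat_lit 183) (Tr.lf (Fc.ed (nat_lit 182) (nat_lit 73) Col.d (nat_lit 73) (Dv.wd (nat_lit 17) [Mv.b (nat_lit 180), Mv.f (nat_lit 129), Mv.f (nat_lit 85), Mv.b (nat_lit 129), Mv.f (nat_lit 180)]))) (Tr.nd (nat_lit 184) (Tr.lf (Fc.ed (nat_lit 183) (nat_lit 48) Col.f (nat_lit 74) Dv.df)) (Tr.lf (Fc.ed (nat_lit 184) (nat_lit 74) Col.g (nat_lit 72) (Dv.wd (nat_lit 51) [Mv.f (nat_lit 179), Mv.b (nat_lit 181), Mv.b (nat_lit 180), Mv.f (nat_lit 183)])))))) (Tr.nd (nat_lit 188) (Tr.nd (nat_lit 186) (Tr.lf (Fc.ed (nat_lit 185) (nat_lit 74) Col.d (nat_lit 74) (Dv.wd (nat_lit 52) [Mv.b (nat_lit 183), Mv.f (nat_lit 129), Mv.f (nat_lit 86), Mv.b (nat_lit 129), Mv.f (nat_lit 183)]))) (Tr.nd (nat_lit 187) (Tr.lf (Fc.ed (nat_lit 186) (nat_lit 49) Col.d (nat_lit 75) Dv.df)) (Tr.lf (Fc.ed (nat_lit 187) (nat_lit 75) Col.a (nat_lit 75) (Dv.wd (nat_lit 32) [Mv.b (nat_lit 186), Mv.f (nat_lit 131), Mv.f (nat_lit 186)]))))) (Tr.nd (nat_lit 189) (Tr.lf (Fc.ed (nat_lit 188) (nat_lit 75) Col.e (nat_lit 71) (Dv.wd (nat_lit 42) [Mv.b (nat_lit 176), Mv.f (nat_lit 126), Mv.f (nat_lit 73), Mv.f (nat_lit 130), Mv.f (nat_lit 186)]))) (Tr.nd (nat_lit 190) (Tr.lf (Fc.ed (nat_lit 189) (nat_lit 75) Col.g (nat_lit 75) (Dv.wd (nat_lit 47) [Mv.b (nat_lit 186), Mv.b (nat_lit 181), Mv.f (nat_lit 182), Mv.f (nat_lit 181), Mv.f (nat_lit 186)]))) (Tr.lf (Fc.ed (nat_lit 190) (nat_lit 50) Col.e (nat_lit 76) Dv.df)))))))))) (Tr.nd (nat_lit 287) (Tr.nd (nat_lit 239) (Tr.nd (nat_lit 215) (Tr.nd (nat_lit 203) (Tr.nd (nat_lit 197) (Tr.nd (nat_lit 194) (Tr.nd (nat_lit 192) (Tr.lf (Fc.ed (nat_lit 191) (nat_lit 76) Col.a (nat_lit 76) (Dv.wd (nat_lit 44) [Mv.b (nat_lit 190), Mv.f (nat_lit 134), Mv.f (nat_lit 190)]))) (Tr.nd (nat_lit 193) (Tr.lf (Fc.ed (nat_lit 192) (nat_lit 50) Col.c (nat_lit 77) Dv.df)) (Tr.lf (Fc.ed (nat_lit 193) (nat_lit 77) Col.a (nat_lit 77) (Dv.wd (nat_lit 33) [Mv.b (nat_lit 192), Mv.f (nat_lit 134), Mv.f (nat_lit 192)]))))) (Tr.nd (nat_lit 195) (Tr.lf (Fc.ed (nat_lit 194) (nat_lit 50) Col.f (nat_lit 78) Dv.df)) (Tr.nd (nat_lit 196) (Tr.lf (Fc.ed (nat_lit 195) (nat_lit 78) Col.a (nat_lit 78) (Dv.wd (nat_lit 53) [Mv.b (nat_lit 194), Mv.f (nat_lit 134), Mv.f (nat_lit 194)]))) (Tr.lf (Fc.ed (nat_lit 196) (nat_lit 51) Col.d (nat_lit 79) Dv.df))))) (Tr.nd (nat_lit 200) (Tr.nd (nat_lit 198) (Tr.lf (Fc.ed (nat_lit 197) (nat_lit 79) Col.c (nat_lit 72) (Dv.wd (nat_lit 54) [Mv.b (nat_lit 184), Mv.b (nat_lit 183), Mv.f (nat_lit 129), Mv.f (nat_lit 84), Mv.b (nat_lit 80), Mv.f (nat_lit 68), Mv.f (nat_lit 38), Mv.b (nat_lit 41), Mv.f (nat_lit 83), Mv.f (nat_lit 86), Mv.b (nat_lit 129), Mv.b (nat_lit 138), Mv.b (nat_lit 137), Mv.f (nat_lit 135), Mv.f (nat_lit 196)]))) (Tr.nd (nat_lit 199) (Tr.lf (Fc.ed (nat_lit 198) (nat_lit 51) Col.e (nat_lit 79) (Dv.wd (nat_lit 55) [Mv.f (nat_lit 197), Mv.b (nat_lit 178), Mv.b (nat_lit 136)]))) (Tr.lf (Fc.ed (nat_lit 199) (nat_lit 53) Col.f (nat_lit 79) (Dv.wd (nat_lit 56) [Mv.f (nat_lit 197), Mv.f (nat_lit 179), Mv.b (nat_lit 140)]))))) (Tr.nd (nat_lit 201) (Tr.lf (Fc.ed (nat_lit 200) (nat_lit 78) Col.d (nat_lit 53) (Dv.wd (nat_lit 57) [Mv.f (nat_lit 199), Mv.b (nat_lit 196), Mv.b (nat_lit 135), Mv.f (nat_lit 133), Mv.f (nat_lit 194)]))) (Tr.nd (nat_lit 202) (Tr.lf (Fc.ed (nat_lit 201) (nat_lit 52) Col.f (nat_lit 80) Dv.df)) (Tr.lf (Fc.ed (nat_lit 202) (nat_lit 80) Col.c (nat_lit 74) (Dv.wd (nat_lit 39) [Mv.b (nat_lit 183), Mv.b (nat_lit 138), Mv.f (nat_lit 201)]))))))) (Tr.nd (nat_lit 209) (Tr.nd (nat_lit 206) (Tr.nd (nat_lit 204) (Tr.lf (Fc.ed (nat_lit 203) (nat_lit 80) Col.g (nat_lit 79) (Dv.wd (nat_lit 58) [Mv.b (nat_lit 198), Mv.b (nat_lit 135), Mv.f (nat_lit 137), Mv.f (nat_lit 201)]))) (Tr.nd (nat_lit 205) (Tr.lf (Fc.ed (nat_lit 204) (nat_lit 54) Col.d (nat_lit 81) Dv.df)) (Tr.lf (Fc.ed (nat_lit 205) (nat_lit 81) Col.a (nat_lit 55) (Dv.wd (nat_lit 32) [Mv.b (nat_lit 143), Mv.f (nat_lit 141), Mv.f (nat_lit 204)]))))) (Tr.nd (nat_lit 207) (Tr.lf (Fc.ed (nat_lit 206) (nat_lit 81) Col.b (nat_lit 78) (Dv.wd (nat_lit 13) [Mv.f (nat_lit 200), Mv.b (nat_lit 142), Mv.f (nat_lit 204)]))) (Tr.nd (nat_lit 208) (Tr.lf (Fc.ed (nat_lit 207) (nat_lit 55) Col.c (nat_lit 82) Dv.df)) (Tr.lf (Fc.ed (nat_lit 208) (nat_lit 56) Col.c (nat_lit 83) Dv.df))))) (Tr.nd (nat_lit 212) (Tr.nd (nat_lit 210) (Tr.lf (Fc.ed (nat_lit 209) (nat_lit 83) Col.a (nat_lit 83) (Dv.wd (nat_lit 33) [Mv.b (nat_lit 208), Mv.f (nat_lit 146), Mv.f (nat_lit 208)]))) (Tr.nd (nat_lit 211) (Tr.lf (Fc.ed (nat_lit 210) (nat_lit 83) Col.g (nat_lit 83) (Dv.wd (nat_lit 59) [Mv.b (nat_lit 208), Mv.f (nat_lit 147), Mv.f (nat_lit 208)]))) (Tr.lf (Fc.ed (nat_lit 211) (nat_lit 56) Col.f (nat_lit 84) Dv.df)))) (Tr.nd (nat_lit 213) (Tr.lf (Fc.ed (nat_lit 212) (nat_lit 84) Col.d (nat_lit 84) (Dv.wd (nat_lit 52) [Mv.b (nat_lit 211), Mv.b (nat_lit 145), Mv.f (nat_lit 82), Mv.f (nat_lit 145), Mv.f (nat_lit 211)]))) (Tr.nd (nat_lit 214) (Tr.lf (Fc.ed (nat_lit 213) (nat_lit 58) Col.g (nat_lit 85) Dv.df)) (Tr.lf (Fc.ed (nat_lit 214) (nat_lit 85) Col.d (nat_lit 59) (Dv.wd (nat_lit 43) [Mv.b (nat_lit 151), Mv.b (nat_lit 91), Mv.f (nat_lit 88), Mv.f (nat_lit 149), Mv.f (nat_lit 213)])))))))) (Tr.nd (nat_lit 227) (Tr.nd (nat_lit 221) (Tr.nd (nat_lit 218) (Tr.nd (nat_lit 216) (Tr.lf (Fc.ed (nat_lit 215) (nat_lit 58) Col.c (nat_lit 86) Dv.df)) (Tr.nd (nat_lit 217) (Tr.lf (Fc.ed (nat_lit 216) (nat_lit 86) Col.a (nat_lit 86) (Dv.wd (nat_lit 33) [Mv.b (nat_lit 215), Mv.f (nat_lit 150), Mv.f (nat_lit 215)]))) (Tr.lf (Fc.ed (nat_lit 217) (nat_lit 58) Col.e (nat_lit 87) Dv.df)))) (Tr.nd (nat_lit 219) (Tr.lf (Fc.ed (nat_lit 218) (nat_lit 58) Col.f (nat_lit 88) Dv.df)) (Tr.nd (nat_lit 220) (Tr.lf (Fc.ed (nat_lit 219) (nat_lit 88) Col.a (nat_lit 88) (Dv.wd (nat_lit 53) [Mv.b (nat_lit 218), Mv.f (nat_lit 150), Mv.f (nat_lit 218)]))) (Tr.lf (Fc.ed (nat_lit 220) (nat_lit 60) Col.d (nat_lit 89) Dv.df))))) (Tr.nd (nat_lit 224) (Tr.nd (nat_lit 222) (Tr.lf (Fc.ed (nat_lit 221) (nat_lit 61) Col.e (nat_lit 90) Dv.df)) (Tr.nd (nat_lit 223) (Tr.lf (Fc.ed (nat_lit 222) (nat_lit 61) Col.c (nat_lit 91) Dv.df)) (Tr.lf (Fc.ed (nat_lit 223) (nat_lit 61) Col.f (nat_lit 92) Dv.df)))) (Tr.nd (nat_lit 225) (Tr.lf (Fc.ed (nat_lit 224) (nat_lit 92) Col.b (nat_lit 88) (Dv.wd (nat_lit 48) [Mv.b (nat_lit 218), Mv.b (nat_lit 156), Mv.f (nat_lit 223)]))) (Tr.nd (nat_lit 226) (Tr.lf (Fc.ed (nat_lit 225) (nat_lit 62) Col.c (nat_lit 93) Dv.df)) (Tr.lf (Fc.ed (nat_lit 226) (nat_lit 93) Col.a (nat_lit 91) (Dv.wd (nat_lit 33) [Mv.b (nat_lit 222), Mv.b (nat_lit 158), Mv.f (nat_lit 225)]))))))) (Tr.nd (nat_lit 233) (Tr.nd (nat_lit 230) (Tr.nd (nat_lit 228) (Tr.lf (Fc.ed (nat_lit 227) (nat_lit 62) Col.e (nat_lit 94) Dv.df)) (Tr.nd (nat_lit 229) (Tr.lf (Fc.ed (nat_lit 228) (nat_lit 94) Col.d (nat_lit 90) (Dv.wd (nat_lit 17) [Mv.b (nat_lit 221), Mv.b (nat_lit 155), Mv.b (nat_lit 104), Mv.f (nat_lit 157), Mv.f (nat_lit 227)]))) (Tr.lf (Fc.ed (nat_lit 229) (nat_lit 62) Col.f (nat_lit 95) Dv.df)))) (Tr.nd (nat_lit 231) (Tr.lf (Fc.ed (nat_lit 230) (nat_lit 95) Col.a (nat_lit 92) (Dv.wd (nat_lit 53) [Mv.b (nat_lit 223), Mv.b (nat_lit 158), Mv.f (nat_lit 229)]))) (Tr.nd (nat_lit 232) (Tr.lf (Fc.ed (nat_lit 231) (nat_lit 63) Col.d (nat_lit 96) Dv.df)) (Tr.lf (Fc.ed (nat_lit 232) (nat_lit 64) Col.e (nat_lit 97) Dv.df))))) (Tr.nd (nat_lit 236) (Tr.nd (nat_lit 234) (Tr.lf (Fc.ed (nat_lit 233) (nat_lit 97) Col.g (nat_lit 94) (Dv.wd (nat_lit 50) [Mv.b (nat_lit 227), Mv.b (nat_lit 162), Mv.f (nat_lit 232)]))) (Tr.nd (nat_lit 235) (Tr.lf (Fc.ed (nat_lit 234) (nat_lit 66) Col.d (nat_lit 98) Dv.df)) (Tr.lf (Fc.ed (nat_lit 235) (nat_lit 98) Col.g (nat_lit 68) (Dv.wd (nat_lit 47) [Mv.b (nat_lit 169), Mv.b (nat_lit 118), Mv.f (nat_lit 116), Mv.f (nat_lit 165), Mv.f (nat_lit 234)]))))) (Tr.nd (nat_lit 237) (Tr.lf (Fc.ed (nat_lit 236) (nat_lit 67) Col.d (nat_lit 99) Dv.df)) (Tr.nd (nat_lit 238) (Tr.lf (Fc.ed (nat_lit 237) (nat_lit 99) Col.b (nat_lit 96) (Dv.wd (nat_lit 13) [Mv.b (nat_lit 231), Mv.b (nat_lit 168), Mv.f (nat_lit 236)]))) (Tr.lf (Fc.ed (nat_lit 238) (nat_lit 68) Col.e (nat_lit 100) Dv.df)))))))) (Tr.nd (nat_lit 263) (Tr.nd (nat_lit 251) (Tr.nd (nat_lit 245) (Tr.nd (nat_lit 242) (Tr.nd (nat_lit 240) (Tr.lf (Fc.ed (nat_lit 239) (nat_lit 68) Col.f (nat_lit 101) Dv.df)) (Tr.nd (nat_lit 241) (Tr.lf (Fc.ed (nat_lit 240) (nat_lit 69) Col.e (nat_lit 102) Dv.df)) (Tr.lf (Fc.ed (nat_lit 241) (nat_lit 102) Col.b (nat_lit 97) (Dv.wd (nat_lit 26) [Mv.b (nat_lit 232), Mv.b (nat_lit 171), Mv.f (nat_lit 240)]))))) (Tr.nd (nat_lit 243) (Tr.lf (Fc.ed (nat_lit 242) (nat_lit 70) Col.f (nat_lit 103) Dv.df)) (Tr.nd (nat_lit 244) (Tr.lf (Fc.ed (nat_lit 243) (nat_lit 70) Col.c (nat_lit 104) Dv.df)) (Tr.lf (Fc.ed (nat_lit 244) (nat_lit 104) Col.a (nat_lit 104) (Dv.wd (nat_lit 33) [Mv.b (nat_lit 243), Mv.f (nat_lit 173), Mv.f (nat_lit 243)])))))) (Tr.nd (nat_lit 248) (Tr.nd (nat_lit 246) (Tr.lf (Fc.ed (nat_lit 245) (nat_lit 70) Col.e (nat_lit 105) Dv.df)) (Tr.nd (nat_lit 247) (Tr.lf (Fc.ed (nat_lit 246) (nat_lit 105) Col.a (nat_lit 105) (Dv.wd (nat_lit 44) [Mv.b (nat_lit 245), Mv.f (nat_lit 173), Mv.f (nat_lit 245)]))) (Tr.lf (Fc.ed (nat_lit 247) (nat_lit 105) Col.b (nat_lit 94) (Dv.wd (nat_lit 26) [Mv.b (nat_lit 227), Mv.b (nat_lit 174), Mv.f (nat_lit 245)]))))) (Tr.nd (nat_lit 249) (Tr.lf (Fc.ed (nat_lit 248) (nat_lit 75) Col.c (nat_lit 106) Dv.df)) (Tr.nd (nat_lit 250) (Tr.lf (Fc.ed (nat_lit 249) (nat_lit 106) Col.a (nat_lit 106) (Dv.wd (nat_lit 33) [Mv.b (nat_lit 248), Mv.f (nat_lit 187), Mv.f (nat_lit 248)]))) (Tr.lf (Fc.ed (nat_lit 250) (nat_lit 76) Col.f (nat_lit 107) Dv.df)))))) (Tr.nd (nat_lit 257) (Tr.nd (nat_lit 254) (Tr.nd (nat_lit 252) (Tr.lf (Fc.ed (nat_lit 251) (nat_lit 107) Col.a (nat_lit 107) (Dv.wd (nat_lit 53) [Mv.b (nat_lit 250), Mv.f (nat_lit 191), Mv.f (nat_lit 250)]))) (Tr.nd (nat_lit 253) (Tr.lf (Fc.ed (nat_lit 252) (nat_lit 107) Col.e (nat_lit 78) (Dv.wd (nat_lit 60) [Mv.b (nat_lit 194), Mv.f (nat_lit 190), Mv.f (nat_lit 250)]))) (Tr.lf (Fc.ed (nat_lit 253) (nat_lit 76) Col.g (nat_lit 108) Dv.df)))) (Tr.nd (nat_lit 255) (Tr.lf (Fc.ed (nat_lit 254) (nat_lit 76) Col.c (nat_lit 109) Dv.df)) (Tr.nd (nat_lit 256) (Tr.lf (Fc.ed (nat_lit 255) (nat_lit 109) Col.e (nat_lit 77) (Dv.wd (nat_lit 25) [Mv.b (nat_lit 192), Mv.f (nat_lit 190), Mv.f (nat_lit 254)]))) (Tr.lf (Fc.ed (nat_lit 256) (nat_lit 77) Col.f (nat_lit 110) Dv.df))))) (Tr.nd (nat_lit 260) (Tr.nd (nat_lit 258) (Tr.lf (Fc.ed (nat_lit 257) (nat_lit 110) Col.a (nat_lit 110) (Dv.wd (nat_lit 53) [Mv.b (nat_lit 256), Mv.f (nat_lit 193), Mv.f (nat_lit 256)]))) (Tr.nd (nat_lit 259) (Tr.lf (Fc.ed (nat_lit 258) (nat_lit 110) Col.c (nat_lit 78) (Dv.wd (nat_lit 39) [Mv.b (nat_lit 194), Mv.f (nat_lit 192), Mv.f (nat_lit 256)]))) (Tr.lf (Fc.ed (nat_lit 259) (nat_lit 77) Col.d (nat_lit 111) Dv.df)))) (Tr.nd (nat_lit 261) (Tr.lf (Fc.ed (nat_lit 260) (nat_lit 111) Col.a (nat_lit 111) (Dv.wd (nat_lit 32) [Mv.b (nat_lit 259), Mv.f (nat_lit 193), Mv.f (nat_lit 259)]))) (Tr.nd (nat_lit 262) (Tr.lf (Fc.ed (nat_lit 261) (nat_lit 77) Col.b (nat_lit 112) Dv.df)) (Tr.lf (Fc.ed (nat_lit 262) (nat_lit 78) Col.g (nat_lit 113) Dv.df))))))) (Tr.nd (nat_lit 275) (Tr.nd (nat_lit 269) (Tr.nd (nat_lit 266) (Tr.nd (nat_lit 264) (Tr.lf (Fc.ed (nat_lit 263) (nat_lit 81) Col.c (nat_lit 114) Dv.df)) (Tr.nd (nat_lit 265) (Tr.lf (Fc.ed (nat_lit 264) (nat_lit 114) Col.a (nat_lit 82) (Dv.wd (nat_lit 33) [Mv.b (nat_lit 207), Mv.b (nat_lit 205), Mv.f (nat_lit 263)]))) (Tr.lf (Fc.ed (nat_lit 265) (nat_lit 82) Col.b (nat_lit 115) Dv.df)))) (Tr.nd (nat_lit 267) (Tr.lf (Fc.ed (nat_lit 266) (nat_lit 115) Col.c (nat_lit 112) (Dv.wd (nat_lit 34) [Mv.b (nat_lit 261), Mv.b (nat_lit 192), Mv.b (nat_lit 144), Mv.f (nat_lit 207), Mv.f (nat_lit 265)]))) (Tr.nd (nat_lit 268) (Tr.lf (Fc.ed (nat_lit 267) (nat_lit 83) Col.f (nat_lit 116) Dv.df)) (Tr.lf (Fc.ed (nat_lit 268) (nat_lit 116) Col.a (nat_lit 116) (Dv.wd (nat_lit 53) [Mv.b (nat_lit 267), Mv.f (nat_lit 209), Mv.f (nat_lit 267)])))))) (Tr.nd (nat_lit 272) (Tr.nd (nat_lit 270) (Tr.lf (Fc.ed (nat_lit 269) (nat_lit 116) Col.c (nat_lit 84) (Dv.wd (nat_lit 39) [Mv.b (nat_lit 211), Mv.f (nat_lit 208), Mv.f (nat_lit 267)]))) (Tr.nd (nat_lit 271) (Tr.lf (Fc.ed (nat_lit 270) (nat_lit 85) Col.e (nat_lit 117) Dv.df)) (Tr.lf (Fc.ed (nat_lit 271) (nat_lit 117) Col.g (nat_lit 87) (Dv.wd (nat_lit 50) [Mv.b (nat_lit 217), Mv.f (nat_lit 213), Mv.f (nat_lit 270)]))))) (Tr.nd (nat_lit 273) (Tr.lf (Fc.ed (nat_lit 272) (nat_lit 86) Col.d (nat_lit 118) Dv.df)) (Tr.nd (nat_lit 274) (Tr.lf (Fc.ed (nat_lit 273) (nat_lit 118) Col.c (nat_lit 111) (Dv.wd (nat_lit 38) [Mv.b (nat_lit 259), Mv.b (nat_lit 192), Mv.b (nat_lit 133), Mv.b (nat_lit 76), Mv.b (nat_lit 73), Mv.b (nat_lit 90), Mv.f (nat_lit 149), Mv.f (nat_lit 150), Mv.f (nat_lit 215), Mv.f (nat_lit 272)]))) (Tr.lf (Fc.ed (nat_lit 274) (nat_lit 86) Col.e (nat_lit 119) Dv.df)))))) (Tr.nd (nat_lit 281) (Tr.nd (nat_lit 278) (Tr.nd (nat_lit 276) (Tr.lf (Fc.ed (nat_lit 275) (nat_lit 119) Col.a (nat_lit 119) (Dv.wd (nat_lit 44) [Mv.b (nat_lit 274), Mv.f (nat_lit 216), Mv.f (nat_lit 274)]))) (Tr.nd (nat_lit 277) (Tr.lf (Fc.ed (nat_lit 276) (nat_lit 119) Col.c (nat_lit 87) (Dv.wd (nat_lit 45) [Mv.b (nat_lit 217), Mv.f (nat_lit 215), Mv.f (nat_lit 274)]))) (Tr.lf (Fc.ed (nat_lit 277) (nat_lit 86) Col.b (nat_lit 120) Dv.df)))) (Tr.nd (nat_lit 279) (Tr.lf (Fc.ed (nat_lit 278) (nat_lit 88) Col.d (nat_lit 121) Dv.df)) (Tr.nd (nat_lit 280) (Tr.lf (Fc.ed (nat_lit 279) (nat_lit 88) Col.g (nat_lit 122) Dv.df)) (Tr.lf (Fc.ed (nat_lit 280) (nat_lit 122) Col.a (nat_lit 122) (Dv.wd (nat_lit 30) [Mv.b (nat_lit 279), Mv.f (nat_lit 219), Mv.f (nat_lit 279)])))))) (Tr.nd (nat_lit 284) (Tr.nd (nat_lit 282) (Tr.lf (Fc.ed (nat_lit 281) (nat_lit 122) Col.f (nat_lit 117) (Dv.wd (nat_lit 35) [Mv.f (nat_lit 271), Mv.b (nat_lit 217), Mv.f (nat_lit 218), Mv.f (nat_lit 279)]))) (Tr.nd (nat_lit 283) (Tr.lf (Fc.ed (nat_lit 282) (nat_lit 89) Col.f (nat_lit 123) Dv.df)) (Tr.lf (Fc.ed (nat_lit 283) (nat_lit 123) Col.d (nat_lit 103) (Dv.wd (nat_lit 52) [Mv.b (nat_lit 242), Mv.b (nat_lit 172), Mv.b (nat_lit 154), Mv.f (nat_lit 220), Mv.f (nat_lit 282)]))))) (Tr.nd (nat_lit 285) (Tr.lf (Fc.ed (nat_lit 284) (nat_lit 90) Col.c (nat_lit 124) Dv.df)) (Tr.nd (nat_lit 286) (Tr.lf (Fc.ed (nat_lit 285) (nat_lit 124) Col.e (nat_lit 91) (Dv.wd (nat_lit 25) [Mv.b (nat_lit 222), Mv.f (nat_lit 221), Mv.f (nat_lit 284)]))) (Tr.lf (Fc.ed (nat_lit 286) (nat_lit 91) Col.d (nat_lit 125) Dv.df))))))))) (Tr.nd (nat_lit 335) (Tr.nd (nat_lit 311) (Tr.nd (nat_lit 299) (Tr.nd (nat_lit 293) (Tr.nd (nat_lit 290) (Tr.nd (nat_lit 288) (Tr.lf (Fc.ed (nat_lit 287) (nat_lit 91) Col.b (nat_lit 126) Dv.df)) (Tr.nd (nat_lit 289) (Tr.lf (Fc.ed (nat_lit 288) (nat_lit 126) Col.c (nat_lit 120) (Dv.wd (nat_lit 34) [Mv.b (nat_lit 277), Mv.b (nat_lit 215), Mv.b (nat_lit 156), Mv.f (nat_lit 222), Mv.f (nat_lit 287)]))) (Tr.lf (Fc.ed (nat_lit 289) (nat_lit 92) Col.g (nat_lit 127) Dv.df)))) (Tr.nd (nat_lit 291) (Tr.lf (Fc.ed (nat_lit 290) (nat_lit 127) Col.b (nat_lit 122) (Dv.wd (nat_lit 31) [Mv.b (nat_lit 279), Mv.b (nat_lit 224), Mv.f (nat_lit 289)]))) (Tr.nd (nat_lit 292) (Tr.lf (Fc.ed (nat_lit 291) (nat_lit 93) Col.b (nat_lit 128) Dv.df)) (Tr.lf (Fc.ed (nat_lit 292) (nat_lit 93) Col.e (nat_lit 129) Dv.df))))) (Tr.nd (nat_lit 296) (Tr.nd (nat_lit 294) (Tr.lf (Fc.ed (nat_lit 293) (nat_lit 129) Col.a (nat_lit 124) (Dv.wd (nat_lit 44) [Mv.f (nat_lit 285), Mv.b (nat_lit 226), Mv.f (nat_lit 292)]))) (Tr.nd (nat_lit 295) (Tr.lf (Fc.ed (nat_lit 294) (nat_lit 129) Col.c (nat_lit 94) (Dv.wd (nat_lit 45) [Mv.b (nat_lit 227), Mv.f (nat_lit 225), Mv.f (nat_lit 292)]))) (Tr.lf (Fc.ed (nat_lit 295) (nat_lit 93) Col.d (nat_lit 130) Dv.df)))) (Tr.nd (nat_lit 297) (Tr.lf (Fc.ed (nat_lit 296) (nat_lit 130) Col.a (nat_lit 125) (Dv.wd (nat_lit 32) [Mv.b (nat_lit 286), Mv.b (nat_lit 226), Mv.f (nat_lit 295)]))) (Tr.nd (nat_lit 298) (Tr.lf (Fc.ed (nat_lit 297) (nat_lit 95) Col.g (nat_lit 131) Dv.df)) (Tr.lf (Fc.ed (nat_lit 298) (nat_lit 131) Col.a (nat_lit 127) (Dv.wd (nat_lit 30) [Mv.b (nat_lit 289), Mv.b (nat_lit 230), Mv.f (nat_lit 297)]))))))) (Tr.nd (nat_lit 305) (Tr.nd (nat_lit 302) (Tr.nd (nat_lit 300) (Tr.lf (Fc.ed (nat_lit 299) (nat_lit 131) Col.f (nat_lit 97) (Dv.wd (nat_lit 35) [Mv.f (nat_lit 233), Mv.b (nat_lit 227), Mv.f (nat_lit 229), Mv.f (nat_lit 297)]))) (Tr.nd (nat_lit 301) (Tr.lf (Fc.ed (nat_lit 300) (nat_lit 96) Col.f (nat_lit 132) Dv.df)) (Tr.lf (Fc.ed (nat_lit 301) (nat_lit 96) Col.g (nat_lit 133) Dv.df)))) (Tr.nd (nat_lit 303) (Tr.lf (Fc.ed (nat_lit 302) (nat_lit 96) Col.c (nat_lit 134) Dv.df)) (Tr.nd (nat_lit 304) (Tr.lf (Fc.ed (nat_lit 303) (nat_lit 98) Col.e (nat_lit 135) Dv.df)) (Tr.lf (Fc.ed (nat_lit 304) (nat_lit 135) Col.g (nat_lit 100) (Dv.wd (nat_lit 50) [Mv.b (nat_lit 238), Mv.b (nat_lit 235), Mv.f (nat_lit 303)])))))) (Tr.nd (nat_lit 308) (Tr.nd (nat_lit 306) (Tr.lf (Fc.ed (nat_lit 305) (nat_lit 135) Col.d (nat_lit 117) (Dv.wd (nat_lit 17) [Mv.b (nat_lit 270), Mv.f (nat_lit 214), Mv.b (nat_lit 166), Mv.f (nat_lit 234), Mv.f (nat_lit 303)]))) (Tr.nd (nat_lit 307) (Tr.lf (Fc.ed (nat_lit 306) (nat_lit 99) Col.f (nat_lit 136) Dv.df)) (Tr.lf (Fc.ed (nat_lit 307) (nat_lit 136) Col.b (nat_lit 132) (Dv.wd (nat_lit 48) [Mv.b (nat_lit 300), Mv.b (nat_lit 237), Mv.f (nat_lit 306)]))))) (Tr.nd (nat_lit 309) (Tr.lf (Fc.ed (nat_lit 308) (nat_lit 136) Col.d (nat_lit 101) (Dv.wd (nat_lit 52) [Mv.b (nat_lit 239), Mv.b (nat_lit 169), Mv.f (nat_lit 167), Mv.f (nat_lit 236), Mv.f (nat_lit 306)]))) (Tr.nd (nat_lit 310) (Tr.lf (Fc.ed (nat_lit 309) (nat_lit 99) Col.c (nat_lit 137) Dv.df)) (Tr.lf (Fc.ed (nat_lit 310) (nat_lit 101) Col.g (nat_lit 138) Dv.df))))))) (Tr.nd (nat_lit 323) (Tr.nd (nat_lit 317) (Tr.nd (nat_lit 314) (Tr.nd (nat_lit 312) (Tr.lf (Fc.ed (nat_lit 311) (nat_lit 138) Col.f (nat_lit 135) (Dv.wd (nat_lit 35) [Mv.f (nat_lit 304), Mv.b (nat_lit 238), Mv.f (nat_lit 239), Mv.f (nat_lit 310)]))) (Tr.nd (nat_lit 313) (Tr.lf (Fc.ed (nat_lit 312) (nat_lit 102) Col.f (nat_lit 139) Dv.df)) (Tr.lf (Fc.ed (nat_lit 313) (nat_lit 139) Col.b (nat_lit 131) (Dv.wd (nat_lit 48) [Mv.f (nat_lit 299), Mv.b (nat_lit 241), Mv.f (nat_lit 312)]))))) (Tr.nd (nat_lit 315) (Tr.lf (Fc.ed (nat_lit 314) (nat_lit 139) Col.g (nat_lit 103) (Dv.wd (nat_lit 51) [Mv.b (nat_lit 242), Mv.f (nat_lit 175), Mv.f (nat_lit 240), Mv.f (nat_lit 312)]))) (Tr.nd (nat_lit 316) (Tr.lf (Fc.ed (nat_lit 315) (nat_lit 104) Col.d (nat_lit 140) Dv.df)) (Tr.lf (Fc.ed (nat_lit 316) (nat_lit 140) Col.a (nat_lit 140) (Dv.wd (nat_lit 32) [Mv.b (nat_lit 315), Mv.f (nat_lit 244), Mv.f (nat_lit 315)])))))) (Tr.nd (nat_lit 320) (Tr.nd (nat_lit 318) (Tr.lf (Fc.ed (nat_lit 317) (nat_lit 104) Col.b (nat_lit 141) Dv.df)) (Tr.nd (nat_lit 319) (Tr.lf (Fc.ed (nat_lit 318) (nat_lit 141) Col.c (nat_lit 128) (Dv.wd (nat_lit 34) [Mv.b (nat_lit 291), Mv.b (nat_lit 225), Mv.b (nat_lit 174), Mv.f (nat_lit 243), Mv.f (nat_lit 317)]))) (Tr.lf (Fc.ed (nat_lit 319) (nat_lit 104) Col.e (nat_lit 142) Dv.df)))) (Tr.nd (nat_lit 321) (Tr.lf (Fc.ed (nat_lit 320) (nat_lit 142) Col.c (nat_lit 105) (Dv.wd (nat_lit 45) [Mv.b (nat_lit 245), Mv.f (nat_lit 243), Mv.f (nat_lit 319)]))) (Tr.nd (nat_lit 322) (Tr.lf (Fc.ed (nat_lit 321) (nat_lit 106) Col.d (nat_lit 143) Dv.df)) (Tr.lf (Fc.ed (nat_lit 322) (nat_lit 143) Col.a (nat_lit 143) (Dv.wd (nat_lit 32) [Mv.b (nat_lit 321), Mv.f (nat_lit 249), Mv.f (nat_lit 321)]))))))) (Tr.nd (nat_lit 329) (Tr.nd (nat_lit 326) (Tr.nd (nat_lit 324) (Tr.lf (Fc.ed (nat_lit 323) (nat_lit 107) Col.c (nat_lit 144) Dv.df)) (Tr.nd (nat_lit 325) (Tr.lf (Fc.ed (nat_lit 324) (nat_lit 144) Col.a (nat_lit 144) (Dv.wd (nat_lit 33) [Mv.b (nat_lit 323), Mv.f (nat_lit 251), Mv.f (nat_lit 323)]))) (Tr.lf (Fc.ed (nat_lit 325) (nat_lit 108) Col.c (nat_lit 145) Dv.df)))) (Tr.nd (nat_lit 327) (Tr.lf (Fc.ed (nat_lit 326) (nat_lit 145) Col.g (nat_lit 109) (Dv.wd (nat_lit 59) [Mv.b (nat_lit 254), Mv.f (nat_lit 253), Mv.f (nat_lit 325)]))) (Tr.nd (nat_lit 328) (Tr.lf (Fc.ed (nat_lit 327) (nat_lit 109) Col.d (nat_lit 146) Dv.df)) (Tr.lf (Fc.ed (nat_lit 328) (nat_lit 109) Col.b (nat_lit 147) Dv.df))))) (Tr.nd (nat_lit 332) (Tr.nd (nat_lit 330) (Tr.lf (Fc.ed (nat_lit 329) (nat_lit 147) Col.e (nat_lit 112) (Dv.wd (nat_lit 61) [Mv.b (nat_lit 261), Mv.b (nat_lit 255), Mv.f (nat_lit 328)]))) (Tr.nd (nat_lit 331) (Tr.lf (Fc.ed (nat_lit 330) (nat_lit 110) Col.d (nat_lit 148) Dv.df)) (Tr.lf (Fc.ed (nat_lit 331) (nat_lit 148) Col.a (nat_lit 148) (Dv.wd (nat_lit 32) [Mv.b (nat_lit 330), Mv.f (nat_lit 257), Mv.f (nat_lit 330)]))))) (Tr.nd (nat_lit 333) (Tr.lf (Fc.ed (nat_lit 332) (nat_lit 110) Col.b (nat_lit 149) Dv.df)) (Tr.nd (nat_lit 334) (Tr.lf (Fc.ed (nat_lit 333) (nat_lit 149) Col.a (nat_lit 147) (Dv.wd (nat_lit 62) [Mv.f (nat_lit 329), Mv.b (nat_lit 266), Mv.b (nat_lit 265), Mv.b (nat_lit 264), Mv.b (nat_lit 263), Mv.f (nat_lit 206), Mv.f (nat_lit 195), Mv.b (nat_lit 258), Mv.f (nat_lit 332)]))) (Tr.lf (Fc.ed (nat_lit 334) (nat_lit 110) Col.g (nat_lit 150) Dv.df)))))))) (Tr.nd (nat_lit 359) (Tr.nd (nat_lit 347) (Tr.nd (nat_lit 341) (Tr.nd (nat_lit 338) (Tr.nd (nat_lit 336) (Tr.lf (Fc.ed (nat_lit 335) (nat_lit 150) Col.c (nat_lit 113) (Dv.wd (nat_lit 36) [Mv.b (nat_lit 262), Mv.b (nat_lit 258), Mv.f (nat_lit 334)]))) (Tr.nd (nat_lit 337) (Tr.lf (Fc.ed (nat_lit 336) (nat_lit 150) Col.f (nat_lit 145) (Dv.wd (nat_lit 35) [Mv.f (nat_lit 326), Mv.f (nat_lit 255), Mv.f (nat_lit 256), Mv.f (nat_lit 334)]))) (Tr.lf (Fc.ed (nat_lit 337) (nat_lit 145) Col.d (nat_lit 150) (Dv.wd (nat_lit 63) [Mv.f (nat_lit 335), Mv.b (nat_lit 262), Mv.b (nat_lit 194), Mv.b (nat_lit 133), Mv.b (nat_lit 76), Mv.f (nat_lit 128), Mv.f (nat_lit 183), Mv.f (nat_lit 185), Mv.b (nat_lit 202), Mv.f (nat_lit 203), Mv.b (nat_lit 199), Mv.b (nat_lit 200), Mv.b (nat_lit 258), Mv.f (nat_lit 334), Mv.f (nat_lit 336)]))))) (Tr.nd (nat_lit 339) (Tr.lf (Fc.ed (nat_lit 338) (nat_lit 148) Col.g (nat_lit 146) (Dv.wd (nat_lit 47) [Mv.b (nat_lit 327), Mv.b (nat_lit 326), Mv.f (nat_lit 337), Mv.b (nat_lit 334), Mv.f (nat_lit 330)]))) (Tr.nd (nat_lit 340) (Tr.lf (Fc.ed (nat_lit 339) (nat_lit 111) Col.g (nat_lit 151) Dv.df)) (Tr.lf (Fc.ed (nat_lit 340) (nat_lit 151) Col.a (nat_lit 151) (Dv.wd (nat_lit 30) [Mv.b (nat_lit 339), Mv.f (nat_lit 260), Mv.f (nat_lit 339)])))))) (Tr.nd (nat_lit 344) (Tr.nd (nat_lit 342) (Tr.lf (Fc.ed (nat_lit 341) (nat_lit 111) Col.e (nat_lit 152) Dv.df)) (Tr.nd (nat_lit 343) (Tr.lf (Fc.ed (nat_lit 342) (nat_lit 111) Col.b (nat_lit 153) Dv.df)) (Tr.lf (Fc.ed (nat_lit 343) (nat_lit 153) Col.d (nat_lit 112) (Dv.wd (nat_lit 18) [Mv.b (nat_lit 261), Mv.f (nat_lit 259), Mv.f (nat_lit 342)]))))) (Tr.nd (nat_lit 345) (Tr.lf (Fc.ed (nat_lit 344) (nat_lit 112) Col.a (nat_lit 154) Dv.df)) (Tr.nd (nat_lit 346) (Tr.lf (Fc.ed (nat_lit 345) (nat_lit 154) Col.e (nat_lit 149) (Dv.wd (nat_lit 64) [Mv.f (nat_lit 333), Mv.f (nat_lit 329), Mv.f (nat_lit 344)]))) (Tr.lf (Fc.ed (nat_lit 346) (nat_lit 154) Col.b (nat_lit 144) (Dv.wd (nat_lit 65) [Mv.b (nat_lit 323), Mv.f (nat_lit 252), Mv.f (nat_lit 195), Mv.b (nat_lit 206), Mv.f (nat_lit 263), Mv.f (nat_lit 264), Mv.f (nat_lit 265), Mv.f (nat_lit 266), Mv.f (nat_lit 344)]))))))) (Tr.nd (nat_lit 353) (Tr.nd (nat_lit 350) (Tr.nd (nat_lit 348) (Tr.lf (Fc.ed (nat_lit 347) (nat_lit 116) Col.d (nat_lit 155) Dv.df)) (Tr.nd (nat_lit 349) (Tr.lf (Fc.ed (nat_lit 348) (nat_lit 155) Col.a (nat_lit 155) (Dv.wd (nat_lit 32) [Mv.b (nat_lit 347), Mv.f (nat_lit 268), Mv.f (nat_lit 347)]))) (Tr.lf (Fc.ed (nat_lit 349) (nat_lit 118) Col.b (nat_lit 156) Dv.df)))) (Tr.nd (nat_lit 351) (Tr.lf (Fc.ed (nat_lit 350) (nat_lit 156) Col.d (nat_lit 120) (Dv.wd (nat_lit 18) [Mv.b (nat_lit 277), Mv.f (nat_lit 272), Mv.f (nat_lit 349)]))) (Tr.nd (nat_lit 352) (Tr.lf (Fc.ed (nat_lit 351) (nat_lit 118) Col.e (nat_lit 157) Dv.df)) (Tr.lf (Fc.ed (nat_lit 352) (nat_lit 119) Col.d (nat_lit 158) Dv.df))))) (Tr.nd (nat_lit 356) (Tr.nd (nat_lit 354) (Tr.lf (Fc.ed (nat_lit 353) (nat_lit 158) Col.a (nat_lit 158) (Dv.wd (nat_lit 32) [Mv.b (nat_lit 352), Mv.f (nat_lit 275), Mv.f (nat_lit 352)]))) (Tr.nd (nat_lit 355) (Tr.lf (Fc.ed (nat_lit 354) (nat_lit 119) Col.b (nat_lit 159) Dv.df)) (Tr.lf (Fc.ed (nat_lit 355) (nat_lit 159) Col.e (nat_lit 120) (Dv.wd (nat_lit 61) [Mv.b (nat_lit 277), Mv.f (nat_lit 274), Mv.f (nat_lit 354)]))))) (Tr.nd (nat_lit 357) (Tr.lf (Fc.ed (nat_lit 356) (nat_lit 159) Col.a (nat_lit 141) (Dv.wd (nat_lit 41) [Mv.f (nat_lit 318), Mv.b (nat_lit 291), Mv.f (nat_lit 226), Mv.b (nat_lit 222), Mv.f (nat_lit 156), Mv.f (nat_lit 150), Mv.f (nat_lit 217), Mv.b (nat_lit 276), Mv.f (nat_lit 354)]))) (Tr.nd (nat_lit 358) (Tr.lf (Fc.ed (nat_lit 357) (nat_lit 120) Col.a (nat_lit 160) Dv.df)) (Tr.lf (Fc.ed (nat_lit 358) (nat_lit 160) Col.e (nat_lit 141) (Dv.wd (nat_lit 64) [Mv.b (nat_lit 356), Mv.f (nat_lit 355), Mv.f (nat_lit 357)])))))))) (Tr.nd (nat_lit 371) (Tr.nd (nat_lit 365) (Tr.nd (nat_lit 362) (Tr.nd (nat_lit 360) (Tr.lf (Fc.ed (nat_lit 359) (nat_lit 160) Col.b (nat_lit 142) (Dv.wd (nat_lit 46) [Mv.f (nat_lit 320), Mv.f (nat_lit 246), Mv.f (nat_lit 247), Mv.b (nat_lit 294), Mv.b (nat_lit 292), Mv.f (nat_lit 226), Mv.f (nat_lit 287), Mv.f (nat_lit 288), Mv.f (nat_lit 357)]))) (Tr.nd (nat_lit 361) (Tr.lf (Fc.ed (nat_lit 360) (nat_lit 121) Col.g (nat_lit 161) Dv.df)) (Tr.lf (Fc.ed (nat_lit 361) (nat_lit 122) Col.d (nat_lit 162) Dv.df)))) (Tr.nd (nat_lit 363) (Tr.lf (Fc.ed (nat_lit 362) (nat_lit 162) Col.a (nat_lit 162) (Dv.wd (nat_lit 32) [Mv.b (nat_lit 361), Mv.f (nat_lit 280), Mv.f (nat_lit 361)]))) (Tr.nd (nat_lit 364) (Tr.lf (Fc.ed (nat_lit 363) (nat_lit 123) Col.g (nat_lit 163) Dv.df)) (Tr.lf (Fc.ed (nat_lit 364) (nat_lit 163) Col.c (nat_lit 155) (Dv.wd (nat_lit 66) [Mv.b (nat_lit 347), Mv.b (nat_lit 267), Mv.f (nat_lit 210), Mv.b (nat_lit 208), Mv.b (nat_lit 145), Mv.f (nat_lit 82), Mv.b (nat_lit 80), Mv.b (nat_lit 41), Mv.b (nat_lit 47), Mv.f (nat_lit 87), Mv.f (nat_lit 148), Mv.b (nat_lit 153), Mv.f (nat_lit 220), Mv.f (nat_lit 282), Mv.f (nat_lit 363)])))))) (Tr.nd (nat_lit 368) (Tr.nd (nat_lit 366) (Tr.lf (Fc.ed (nat_lit 365) (nat_lit 124) Col.b (nat_lit 164) Dv.df)) (Tr.nd (nat_lit 367) (Tr.lf (Fc.ed (nat_lit 366) (nat_lit 164) Col.a (nat_lit 128) (Dv.wd (nat_lit 41) [Mv.b (nat_lit 318), Mv.b (nat_lit 317), Mv.f (nat_lit 244), Mv.b (nat_lit 243), Mv.f (nat_lit 174), Mv.f (nat_lit 158), Mv.f (nat_lit 221), Mv.f (nat_lit 284), Mv.f (nat_lit 365)]))) (Tr.lf (Fc.ed (nat_lit 367) (nat_lit 124) Col.d (nat_lit 165) Dv.df)))) (Tr.nd (nat_lit 369) (Tr.lf (Fc.ed (nat_lit 368) (nat_lit 125) Col.e (nat_lit 166) Dv.df)) (Tr.nd (nat_lit 370) (Tr.lf (Fc.ed (nat_lit 369) (nat_lit 125) Col.c (nat_lit 167) Dv.df)) (Tr.lf (Fc.ed (nat_lit 370) (nat_lit 125) Col.b (nat_lit 168) Dv.df)))))) (Tr.nd (nat_lit 377) (Tr.nd (nat_lit 374) (Tr.nd (nat_lit 372) (Tr.lf (Fc.ed (nat_lit 371) (nat_lit 127) Col.d (nat_lit 169) Dv.df)) (Tr.nd (nat_lit 373) (Tr.lf (Fc.ed (nat_lit 372) (nat_lit 169) Col.b (nat_lit 162) (Dv.wd (nat_lit 13) [Mv.b (nat_lit 361), Mv.b (nat_lit 290), Mv.f (nat_lit 371)]))) (Tr.lf (Fc.ed (nat_lit 373) (nat_lit 128) Col.d (nat_lit 170) Dv.df)))) (Tr.nd (nat_lit 375) (Tr.lf (Fc.ed (nat_lit 374) (nat_lit 170) Col.b (nat_lit 130) (Dv.wd (nat_lit 13) [Mv.b (nat_lit 295), Mv.f (nat_lit 291), Mv.f (nat_lit 373)]))) (Tr.nd (nat_lit 376) (Tr.lf (Fc.ed (nat_lit 375) (nat_lit 129) Col.d (nat_lit 171) Dv.df)) (Tr.lf (Fc.ed (nat_lit 376) (nat_lit 171) Col.a (nat_lit 165) (Dv.wd (nat_lit 32) [Mv.b (nat_lit 367), Mv.b (nat_lit 293), Mv.f (nat_lit 375)])))))) (Tr.nd (nat_lit 380) (Tr.nd (nat_lit 378) (Tr.lf (Fc.ed (nat_lit 377) (nat_lit 130) Col.c (nat_lit 172) Dv.df)) (Tr.nd (nat_lit 379) (Tr.lf (Fc.ed (nat_lit 378) (nat_lit 172) Col.a (nat_lit 167) (Dv.wd (nat_lit 33) [Mv.b (nat_lit 369), Mv.b (nat_lit 296), Mv.f (nat_lit 377)]))) (Tr.lf (Fc.ed (nat_lit 379) (nat_lit 172) Col.d (nat_lit 167) (Dv.wd (nat_lit 67) [Mv.b (nat_lit 369), Mv.b (nat_lit 286), Mv.b (nat_lit 222), Mv.b (nat_lit 155), Mv.f (nat_lit 98), Mv.f (nat_lit 155), Mv.f (nat_lit 222), Mv.f (nat_lit 286), Mv.b (nat_lit 296), Mv.f (nat_lit 377)]))))) (Tr.nd (nat_lit 381) (Tr.lf (Fc.ed (nat_lit 380) (nat_lit 130) Col.e (nat_lit 173) Dv.df)) (Tr.nd (nat_lit 382) (Tr.lf (Fc.ed (nat_lit 381) (nat_lit 131) Col.d (nat_lit 174) Dv.df)) (Tr.lf (Fc.ed (nat_lit 382) (nat_lit 174) Col.a (nat_lit 169) (Dv.wd (nat_lit 32) [Mv.b (nat_lit 371), Mv.b (nat_lit 298), Mv.f (nat_lit 381)])))))))))))) (Tr.nd (nat_lit 574) (Tr.nd (nat_lit 478) (Tr.nd (nat_lit 430) (Tr.nd (nat_lit 406) (Tr.nd (nat_lit 394) (Tr.nd (nat_lit 388) (Tr.nd (nat_lit 385) (Tr.nd (nat_lit 384) (Tr.lf (Fc.ed (nat_lit 383) (nat_lit 132) Col.g (nat_lit 175) Dv.df)) (Tr.lf (Fc.ed (nat_lit 384) (nat_lit 133) Col.f (nat_lit 176) Dv.df))) (Tr.nd (nat_lit 386) (Tr.lf (Fc.ed (nat_lit 385) (nat_lit 133) Col.c (nat_lit 177) Dv.df)) (Tr.nd (nat_lit 387) (Tr.lf (Fc.ed (nat_lit 386) (nat_lit 177) Col.g (nat_lit 134) (Dv.wd (nat_lit 59) [Mv.b (nat_lit 302), Mv.f (nat_lit 301), Mv.f (nat_lit 385)]))) (Tr.lf (Fc.ed (nat_lit 387) (nat_lit 134) Col.b (nat_lit 178) Dv.df))))) (Tr.nd (nat_lit 391) (Tr.nd (nat_lit 389) (Tr.lf (Fc.ed (nat_lit 388) (nat_lit 136) Col.g (nat_lit 179) Dv.df)) (Tr.nd (nat_lit 390) (Tr.lf (Fc.ed (nat_lit 389) (nat_lit 179) Col.b (nat_lit 175) (Dv.wd (nat_lit 31) [Mv.b (nat_lit 383), Mv.b (nat_lit 307), Mv.f (nat_lit 388)]))) (Tr.lf (Fc.ed (nat_lit 390) (nat_lit 136) Col.c (nat_lit 180) Dv.df)))) (Tr.nd (nat_lit 392) (Tr.lf (Fc.ed (nat_lit 391) (nat_lit 180) Col.f (nat_lit 137) (Dv.wd (nat_lit 29) [Mv.b (nat_lit 309), Mv.f (nat_lit 306), Mv.f (nat_lit 390)]))) (Tr.nd (nat_lit 393) (Tr.lf (Fc.ed (nat_lit 392) (nat_lit 137) Col.d (nat_lit 181) Dv.df)) (Tr.lf (Fc.ed (nat_lit 393) (nat_lit 137) Col.b (nat_lit 182) Dv.df)))))) (Tr.nd (nat_lit 400) (Tr.nd (nat_lit 397) (Tr.nd (nat_lit 395) (Tr.lf (Fc.ed (nat_lit 394) (nat_lit 182) Col.c (nat_lit 178) (Dv.wd (nat_lit 34) [Mv.b (nat_lit 387), Mv.b (nat_lit 302), Mv.b (nat_lit 237), Mv.f (nat_lit 309), Mv.f (nat_lit 393)]))) (Tr.nd (nat_lit 396) (Tr.lf (Fc.ed (nat_lit 395) (nat_lit 138) Col.d (nat_lit 183) Dv.df)) (Tr.lf (Fc.ed (nat_lit 396) (nat_lit 183) Col.f (nat_lit 162) (Dv.wd (nat_lit 68) [Mv.b (nat_lit 361), Mv.f (nat_lit 281), Mv.b (nat_lit 305), Mv.b (nat_lit 311), Mv.f (nat_lit 395)]))))) (Tr.nd (nat_lit 398) (Tr.lf (Fc.ed (nat_lit 397) (nat_lit 139) Col.d (nat_lit 184) Dv.df)) (Tr.nd (nat_lit 399) (Tr.lf (Fc.ed (nat_lit 398) (nat_lit 184) Col.b (nat_lit 174) (Dv.wd (nat_lit 13) [Mv.b (nat_lit 381), Mv.b (nat_lit 313), Mv.f (nat_lit 397)]))) (Tr.lf (Fc.ed (nat_lit 399) (nat_lit 140) Col.b (nat_lit 185) Dv.df))))) (Tr.nd (nat_lit 403) (Tr.nd (nat_lit 401) (Tr.lf (Fc.ed (nat_lit 400) (nat_lit 185) Col.d (nat_lit 141) (Dv.wd (nat_lit 18) [Mv.b (nat_lit 317), Mv.f (nat_lit 315), Mv.f (nat_lit 399)]))) (Tr.nd (nat_lit 402) (Tr.lf (Fc.ed (nat_lit 401) (nat_lit 140) Col.c (nat_lit 186) Dv.df)) (Tr.lf (Fc.ed (nat_lit 402) (nat_lit 186) Col.a (nat_lit 186) (Dv.wd (nat_lit 33) [Mv.b (nat_lit 401), Mv.f (nat_lit 316), Mv.f (nat_lit 401)]))))) (Tr.nd (nat_lit 404) (Tr.lf (Fc.ed (nat_lit 403) (nat_lit 140) Col.e (nat_lit 187) Dv.df)) (Tr.nd (nat_lit 405) (Tr.lf (Fc.ed (nat_lit 404) (nat_lit 142) Col.d (nat_lit 188) Dv.df)) (Tr.lf (Fc.ed (nat_lit 405) (nat_lit 143) Col.c (nat_lit 189) Dv.df))))))) (Tr.nd (nat_lit 418) (Tr.nd (nat_lit 412) (Tr.nd (nat_lit 409) (Tr.nd (nat_lit 407) (Tr.lf (Fc.ed (nat_lit 406) (nat_lit 189) Col.a (nat_lit 189) (Dv.wd (nat_lit 33) [Mv.b (nat_lit 405), Mv.f (nat_lit 322), Mv.f (nat_lit 405)]))) (Tr.nd (nat_lit 408) (Tr.lf (Fc.ed (nat_lit 407) (nat_lit 144) Col.d (nat_lit 190) Dv.df)) (Tr.lf (Fc.ed (nat_lit 408) (nat_lit 190) Col.a (nat_lit 190) (Dv.wd (nat_lit 32) [Mv.b (nat_lit 407), Mv.f (nat_lit 324), Mv.f (nat_lit 407)]))))) (Tr.nd (nat_lit 410) (Tr.lf (Fc.ed (nat_lit 409) (nat_lit 146) Col.e (nat_lit 191) Dv.df)) (Tr.nd (nat_lit 411) (Tr.lf (Fc.ed (nat_lit 410) (nat_lit 191) Col.d (nat_lit 152) (Dv.wd (nat_lit 17) [Mv.b (nat_lit 341), Mv.b (nat_lit 259), Mv.b (nat_lit 255), Mv.f (nat_lit 327), Mv.f (nat_lit 409)]))) (Tr.lf (Fc.ed (nat_lit 411) (nat_lit 146) Col.b (nat_lit 192) Dv.df))))) (Tr.nd (nat_lit 415) (Tr.nd (nat_lit 413) (Tr.lf (Fc.ed (nat_lit 412) (nat_lit 192) Col.d (nat_lit 147) (Dv.wd (nat_lit 18) [Mv.b (nat_lit 328), Mv.f (nat_lit 327), Mv.f (nat_lit 411)]))) (Tr.nd (nat_lit 414) (Tr.lf (Fc.ed (nat_lit 413) (nat_lit 146) Col.c (nat_lit 193) Dv.df)) (Tr.lf (Fc.ed (nat_lit 414) (nat_lit 148) Col.e (nat_lit 194) Dv.df)))) (Tr.nd (nat_lit 416) (Tr.lf (Fc.ed (nat_lit 415) (nat_lit 194) Col.g (nat_lit 191) (Dv.wd (nat_lit 50) [Mv.b (nat_lit 409), Mv.b (nat_lit 338), Mv.f (nat_lit 414)]))) (Tr.nd (nat_lit 417) (Tr.lf (Fc.ed (nat_lit 416) (nat_lit 148) Col.b (nat_lit 195) Dv.df)) (Tr.lf (Fc.ed (nat_lit 417) (nat_lit 195) Col.d (nat_lit 149) (Dv.wd (nat_lit 18) [Mv.b (nat_lit 332), Mv.f (nat_lit 330), Mv.f (nat_lit 416)]))))))) (Tr.nd (nat_lit 424) (Tr.nd (nat_lit 421) (Tr.nd (nat_lit 419) (Tr.lf (Fc.ed (nat_lit 418) (nat_lit 195) Col.g (nat_lit 192) (Dv.wd (nat_lit 69) [Mv.b (nat_lit 411), Mv.b (nat_lit 338), Mv.f (nat_lit 416)]))) (Tr.nd (nat_lit 420) (Tr.lf (Fc.ed (nat_lit 419) (nat_lit 192) Col.a (nat_lit 195) (Dv.wd (nat_lit 19) [Mv.f (nat_lit 417), Mv.f (nat_lit 333), Mv.b (nat_lit 412)]))) (Tr.lf (Fc.ed (nat_lit 420) (nat_lit 148) Col.c (nat_lit 196) Dv.df)))) (Tr.nd (nat_lit 422) (Tr.lf (Fc.ed (nat_lit 421) (nat_lit 196) Col.a (nat_lit 196) (Dv.wd (nat_lit 33) [Mv.b (nat_lit 420), Mv.f (nat_lit 331), Mv.f (nat_lit 420)]))) (Tr.nd (nat_lit 423) (Tr.lf (Fc.ed (nat_lit 422) (nat_lit 196) Col.g (nat_lit 193) (Dv.wd (nat_lit 59) [Mv.b (nat_lit 413), Mv.b (nat_lit 338), Mv.f (nat_lit 420)]))) (Tr.lf (Fc.ed (nat_lit 423) (nat_lit 196) Col.d (nat_lit 189) (Dv.wd (nat_lit 67) [Mv.b (nat_lit 405), Mv.b (nat_lit 321), Mv.b (nat_lit 248), Mv.b (nat_lit 186), Mv.b (nat_lit 140), Mv.b (nat_lit 200), Mv.b (nat_lit 258), Mv.f (nat_lit 330), Mv.f (nat_lit 331), Mv.f (nat_lit 420)])))))) (Tr.nd (nat_lit 427) (Tr.nd (nat_lit 425) (Tr.lf (Fc.ed (nat_lit 424) (nat_lit 151) Col.e (nat_lit 197) Dv.df)) (Tr.nd (nat_lit 426) (Tr.lf (Fc.ed (nat_lit 425) (nat_lit 197) Col.a (nat_lit 197) (Dv.wd (nat_lit 44) [Mv.b (nat_lit 424), Mv.f (nat_lit 340), Mv.f (nat_lit 424)]))) (Tr.lf (Fc.ed (nat_lit 426) (nat_lit 197) Col.g (nat_lit 152) (Dv.wd (nat_lit 50) [Mv.b (nat_lit 341), Mv.f (nat_lit 339), Mv.f (nat_lit 424)]))))) (Tr.nd (nat_lit 428) (Tr.lf (Fc.ed (nat_lit 427) (nat_lit 151) Col.b (nat_lit 198) Dv.df)) (Tr.nd (nat_lit 429) (Tr.lf (Fc.ed (nat_lit 428) (nat_lit 198) Col.g (nat_lit 153) (Dv.wd (nat_lit 69) [Mv.b (nat_lit 342), Mv.f (nat_lit 339), Mv.f (nat_lit 427)]))) (Tr.lf (Fc.ed (nat_lit 429) (nat_lit 152) Col.b (nat_lit 199) Dv.df)))))))) (Tr.nd (nat_lit 454) (Tr.nd (nat_lit 442) (Tr.nd (nat_lit 436) (Tr.nd (nat_lit 433) (Tr.nd (nat_lit 431) (Tr.lf (Fc.ed (nat_lit 430) (nat_lit 199) Col.e (nat_lit 153) (Dv.wd (nat_lit 61) [Mv.b (nat_lit 342), Mv.f (nat_lit 341), Mv.f (nat_lit 429)]))) (Tr.nd (nat_lit 432) (Tr.lf (Fc.ed (nat_lit 431) (nat_lit 153) Col.a (nat_lit 200) Dv.df)) (Tr.lf (Fc.ed (nat_lit 432) (nat_lit 200) Col.d (nat_lit 154) (Dv.wd (nat_lit 70) [Mv.b (nat_lit 344), Mv.b (nat_lit 343), Mv.f (nat_lit 431)]))))) (Tr.nd (nat_lit 434) (Tr.lf (Fc.ed (nat_lit 433) (nat_lit 190) Col.b (nat_lit 200) (Dv.wd (nat_lit 20) [Mv.f (nat_lit 432), Mv.f (nat_lit 346), Mv.f (nat_lit 407)]))) (Tr.nd (nat_lit 435) (Tr.lf (Fc.ed (nat_lit 434) (nat_lit 153) Col.c (nat_lit 201) Dv.df)) (Tr.lf (Fc.ed (nat_lit 435) (nat_lit 156) Col.a (nat_lit 202) Dv.df))))) (Tr.nd (nat_lit 439) (Tr.nd (nat_lit 437) (Tr.lf (Fc.ed (nat_lit 436) (nat_lit 202) Col.d (nat_lit 160) (Dv.wd (nat_lit 70) [Mv.b (nat_lit 357), Mv.b (nat_lit 350), Mv.f (nat_lit 435)]))) (Tr.nd (nat_lit 438) (Tr.lf (Fc.ed (nat_lit 437) (nat_lit 188) Col.b (nat_lit 202) (Dv.wd (nat_lit 20) [Mv.f (nat_lit 436), Mv.f (nat_lit 359), Mv.f (nat_lit 404)]))) (Tr.lf (Fc.ed (nat_lit 438) (nat_lit 156) Col.c (nat_lit 203) Dv.df)))) (Tr.nd (nat_lit 440) (Tr.lf (Fc.ed (nat_lit 439) (nat_lit 203) Col.b (nat_lit 201) (Dv.wd (nat_lit 71) [Mv.b (nat_lit 434), Mv.b (nat_lit 342), Mv.b (nat_lit 273), Mv.f (nat_lit 349), Mv.f (nat_lit 438)]))) (Tr.nd (nat_lit 441) (Tr.lf (Fc.ed (nat_lit 440) (nat_lit 156) Col.e (nat_lit 204) Dv.df)) (Tr.lf (Fc.ed (nat_lit 441) (nat_lit 157) Col.d (nat_lit 205) Dv.df)))))) (Tr.nd (nat_lit 448) (Tr.nd (nat_lit 445) (Tr.nd (nat_lit 443) (Tr.lf (Fc.ed (nat_lit 442) (nat_lit 205) Col.e (nat_lit 158) (Dv.wd (nat_lit 42) [Mv.b (nat_lit 352), Mv.b (nat_lit 274), Mv.f (nat_lit 272), Mv.f (nat_lit 351), Mv.f (nat_lit 441)]))) (Tr.nd (nat_lit 444) (Tr.lf (Fc.ed (nat_lit 443) (nat_lit 158) Col.b (nat_lit 206) Dv.df)) (Tr.lf (Fc.ed (nat_lit 444) (nat_lit 206) Col.d (nat_lit 159) (Dv.wd (nat_lit 18) [Mv.b (nat_lit 354), Mv.f (nat_lit 352), Mv.f (nat_lit 443)]))))) (Tr.nd (nat_lit 446) (Tr.lf (Fc.ed (nat_lit 445) (nat_lit 185) Col.a (nat_lit 206) (Dv.wd (nat_lit 19) [Mv.f (nat_lit 444), Mv.f (nat_lit 356), Mv.b (nat_lit 400)]))) (Tr.nd (nat_lit 447) (Tr.lf (Fc.ed (nat_lit 446) (nat_lit 158) Col.f (nat_lit 207) Dv.df)) (Tr.lf (Fc.ed (nat_lit 447) (nat_lit 158) Col.c (nat_lit 208) Dv.df))))) (Tr.nd (nat_lit 451) (Tr.nd (nat_lit 449) (Tr.lf (Fc.ed (nat_lit 448) (nat_lit 161) Col.d (nat_lit 209) Dv.df)) (Tr.nd (nat_lit 450) (Tr.lf (Fc.ed (nat_lit 449) (nat_lit 209) Col.g (nat_lit 162) (Dv.wd (nat_lit 47) [Mv.b (nat_lit 361), Mv.b (nat_lit 279), Mv.f (nat_lit 278), Mv.f (nat_lit 360), Mv.f (nat_lit 448)]))) (Tr.lf (Fc.ed (nat_lit 450) (nat_lit 162) Col.c (nat_lit 210) Dv.df)))) (Tr.nd (nat_lit 452) (Tr.lf (Fc.ed (nat_lit 451) (nat_lit 162) Col.e (nat_lit 211) Dv.df)) (Tr.nd (nat_lit 453) (Tr.lf (Fc.ed (nat_lit 452) (nat_lit 163) Col.d (nat_lit 212) Dv.df)) (Tr.lf (Fc.ed (nat_lit 453) (nat_lit 212) Col.g (nat_lit 184) (Dv.wd (nat_lit 47) [Mv.b (nat_lit 397), Mv.f (nat_lit 314), Mv.b (nat_lit 283), Mv.f (nat_lit 363), Mv.f (nat_lit 452)])))))))) (Tr.nd (nat_lit 466) (Tr.nd (nat_lit 460) (Tr.nd (nat_lit 457) (Tr.nd (nat_lit 455) (Tr.lf (Fc.ed (nat_lit 454) (nat_lit 212) Col.c (nat_lit 212) (Dv.wd (nat_lit 38) [Mv.b (nat_lit 452), Mv.f (nat_lit 364), Mv.b (nat_lit 347), Mv.f (nat_lit 269), Mv.f (nat_lit 212), Mv.b (nat_lit 269), Mv.f (nat_lit 347), Mv.f (nat_lit 348), Mv.b (nat_lit 364), Mv.f (nat_lit 452)]))) (Tr.nd (nat_lit 456) (Tr.lf (Fc.ed (nat_lit 455) (nat_lit 184) Col.c (nat_lit 184) (Dv.wd (nat_lit 72) [Mv.b (nat_lit 453), Mv.f (nat_lit 454), Mv.f (nat_lit 453)]))) (Tr.lf (Fc.ed (nat_lit 456) (nat_lit 164) Col.d (nat_lit 213) Dv.df)))) (Tr.nd (nat_lit 458) (Tr.lf (Fc.ed (nat_lit 457) (nat_lit 213) Col.a (nat_lit 170) (Dv.wd (nat_lit 32) [Mv.b (nat_lit 373), Mv.b (nat_lit 366), Mv.f (nat_lit 456)]))) (Tr.nd (nat_lit 459) (Tr.lf (Fc.ed (nat_lit 458) (nat_lit 213) Col.b (nat_lit 165) (Dv.wd (nat_lit 13) [Mv.b (nat_lit 367), Mv.f (nat_lit 365), Mv.f (nat_lit 456)]))) (Tr.lf (Fc.ed (nat_lit 459) (nat_lit 165) Col.e (nat_lit 214) Dv.df))))) (Tr.nd (nat_lit 463) (Tr.nd (nat_lit 461) (Tr.lf (Fc.ed (nat_lit 460) (nat_lit 165) Col.c (nat_lit 215) Dv.df)) (Tr.nd (nat_lit 462) (Tr.lf (Fc.ed (nat_lit 461) (nat_lit 166) Col.b (nat_lit 216) Dv.df)) (Tr.lf (Fc.ed (nat_lit 462) (nat_lit 216) Col.e (nat_lit 168) (Dv.wd (nat_lit 61) [Mv.b (nat_lit 370), Mv.f (nat_lit 368), Mv.f (nat_lit 461)]))))) (Tr.nd (nat_lit 464) (Tr.lf (Fc.ed (nat_lit 463) (nat_lit 166) Col.c (nat_lit 217) Dv.df)) (Tr.nd (nat_lit 465) (Tr.lf (Fc.ed (nat_lit 464) (nat_lit 217) Col.e (nat_lit 167) (Dv.wd (nat_lit 25) [Mv.b (nat_lit 369), Mv.f (nat_lit 368), Mv.f (nat_lit 463)]))) (Tr.lf (Fc.ed (nat_lit 465) (nat_lit 167) Col.b (nat_lit 218) Dv.df)))))) (Tr.nd (nat_lit 472) (Tr.nd (nat_lit 469) (Tr.nd (nat_lit 467) (Tr.lf (Fc.ed (nat_lit 466) (nat_lit 168) Col.c (nat_lit 219) Dv.df)) (Tr.nd (nat_lit 468) (Tr.lf (Fc.ed (nat_lit 467) (nat_lit 168) Col.a (nat_lit 220) Dv.df)) (Tr.lf (Fc.ed (nat_lit 468) (nat_lit 220) Col.b (nat_lit 171) (Dv.wd (nat_lit 73) [Mv.f (nat_lit 376), Mv.b (nat_lit 458), Mv.f (nat_lit 457), Mv.f (nat_lit 374), Mv.f (nat_lit 296), Mv.f (nat_lit 370), Mv.f (nat_lit 467)]))))) (Tr.nd (nat_lit 470) (Tr.lf (Fc.ed (nat_lit 469) (nat_lit 169) Col.c (nat_lit 221) Dv.df)) (Tr.nd (nat_lit 471) (Tr.lf (Fc.ed (nat_lit 470) (nat_lit 170) Col.c (nat_lit 222) Dv.df)) (Tr.lf (Fc.ed (nat_lit 471) (nat_lit 170) Col.e (nat_lit 223) Dv.df))))) (Tr.nd (nat_lit 475) (Tr.nd (nat_lit 473) (Tr.lf (Fc.ed (nat_lit 472) (nat_lit 223) Col.b (nat_lit 173) (Dv.wd (nat_lit 26) [Mv.b (nat_lit 380), Mv.b (nat_lit 374), Mv.f (nat_lit 471)]))) (Tr.nd (nat_lit 474) (Tr.lf (Fc.ed (nat_lit 473) (nat_lit 171) Col.c (nat_lit 224) Dv.df)) (Tr.lf (Fc.ed (nat_lit 474) (nat_lit 224) Col.a (nat_lit 215) (Dv.wd (nat_lit 33) [Mv.b (nat_lit 460), Mv.b (nat_lit 376), Mv.f (nat_lit 473)]))))) (Tr.nd (nat_lit 476) (Tr.lf (Fc.ed (nat_lit 475) (nat_lit 172) Col.e (nat_lit 225) Dv.df)) (Tr.nd (nat_lit 477) (Tr.lf (Fc.ed (nat_lit 476) (nat_lit 225) Col.a (nat_lit 217) (Dv.wd (nat_lit 44) [Mv.f (nat_lit 464), Mv.b (nat_lit 378), Mv.f (nat_lit 475)]))) (Tr.lf (Fc.ed (nat_lit 477) (nat_lit 225) Col.c (nat_lit 173) (Dv.wd (nat_lit 45) [Mv.b (nat_lit 380), Mv.f (nat_lit 377), Mv.f (nat_lit 475)])))))))))) (Tr.nd (nat_lit 526) (Tr.nd (nat_lit 502) (Tr.nd (nat_lit 490) (Tr.nd (nat_lit 484) (Tr.nd (nat_lit 481) (Tr.nd (nat_lit 479) (Tr.lf (Fc.ed (nat_lit 478) (nat_lit 172) Col.b (nat_lit 226) Dv.df)) (Tr.nd (nat_lit 480) (Tr.lf (Fc.ed (nat_lit 479) (nat_lit 226) Col.d (nat_lit 218) (Dv.wd (nat_lit 18) [Mv.b (nat_lit 465), Mv.b (nat_lit 379), Mv.f (nat_lit 478)]))) (Tr.lf (Fc.ed (nat_lit 480) (nat_lit 174) Col.c (nat_lit 227) Dv.df)))) (Tr.nd (nat_lit 482) (Tr.lf (Fc.ed (nat_lit 481) (nat_lit 227) Col.a (nat_lit 221) (Dv.wd (nat_lit 33) [Mv.b (nat_lit 469), Mv.b (nat_lit 382), Mv.f (nat_lit 480)]))) (Tr.nd (nat_lit 483) (Tr.lf (Fc.ed (nat_lit 482) (nat_lit 227) Col.b (nat_lit 227) (Dv.wd (nat_lit 71) [Mv.b (nat_lit 480), Mv.b (nat_lit 398), Mv.f (nat_lit 455), Mv.f (nat_lit 398), Mv.f (nat_lit 480)]))) (Tr.lf (Fc.al (nat_lit 483) (nat_lit 211) (nat_lit 210) (Dv.wd (nat_lit 74) [Mv.b (nat_lit 450), Mv.b (nat_lit 372), Mv.b (nat_lit 382), Mv.f (nat_lit 480), Mv.f (nat_lit 482), Mv.f (nat_lit 481), Mv.b (nat_lit 469), Mv.f (nat_lit 372), Mv.f (nat_lit 362), Mv.f (nat_lit 451)])))))) (Tr.nd (nat_lit 487) (Tr.nd (nat_lit 485) (Tr.lf (Fc.ed (nat_lit 484) (nat_lit 210) Col.e (nat_lit 162) (Dv.wd (nat_lit 12) [Mv.f (nat_lit 451), Mv.f (nat_lit 483)]))) (Tr.nd (nat_lit 486) (Tr.lf (Fc.ed (nat_lit 485) (nat_lit 175) Col.c (nat_lit 228) Dv.df)) (Tr.lf (Fc.ed (nat_lit 486) (nat_lit 176) Col.c (nat_lit 229) Dv.df)))) (Tr.nd (nat_lit 488) (Tr.lf (Fc.ed (nat_lit 487) (nat_lit 229) Col.f (nat_lit 177) (Dv.wd (nat_lit 29) [Mv.b (nat_lit 385), Mv.f (nat_lit 384), Mv.f (nat_lit 486)]))) (Tr.nd (nat_lit 489) (Tr.lf (Fc.ed (nat_lit 488) (nat_lit 228) Col.d (nat_lit 229) (Dv.wd (nat_lit 75) [Mv.f (nat_lit 487), Mv.f (nat_lit 386), Mv.b (nat_lit 302), Mv.b (nat_lit 231), Mv.f (nat_lit 160), Mv.b (nat_lit 115), Mv.b (nat_lit 112), Mv.b (nat_lit 111), Mv.f (nat_lit 113), Mv.f (nat_lit 163), Mv.f (nat_lit 164), Mv.f (nat_lit 231), Mv.f (nat_lit 300), Mv.f (nat_lit 383), Mv.f (nat_lit 485)]))) (Tr.lf (Fc.ed (nat_lit 489) (nat_lit 177) Col.b (nat_lit 230) Dv.df)))))) (Tr.nd (nat_lit 496) (Tr.nd (nat_lit 493) (Tr.nd (nat_lit 491) (Tr.lf (Fc.ed (nat_lit 490) (nat_lit 230) Col.g (nat_lit 178) (Dv.wd (nat_lit 69) [Mv.b (nat_lit 387), Mv.b (nat_lit 386), Mv.f (nat_lit 489)]))) (Tr.nd (nat_lit 492) (Tr.lf (Fc.ed (nat_lit 491) (nat_lit 179) Col.c (nat_lit 231) Dv.df)) (Tr.lf (Fc.ed (nat_lit 492) (nat_lit 231) Col.g (nat_lit 180) (Dv.wd (nat_lit 59) [Mv.b (nat_lit 390), Mv.f (nat_lit 388), Mv.f (nat_lit 491)]))))) (Tr.nd (nat_lit 494) (Tr.lf (Fc.ed (nat_lit 493) (nat_lit 179) Col.d (nat_lit 232) Dv.df)) (Tr.nd (nat_lit 495) (Tr.lf (Fc.ed (nat_lit 494) (nat_lit 232) Col.g (nat_lit 183) (Dv.wd (nat_lit 47) [Mv.b (nat_lit 395), Mv.b (nat_lit 310), Mv.b (nat_lit 308), Mv.f (nat_lit 388), Mv.f (nat_lit 493)]))) (Tr.lf (Fc.ed (nat_lit 495) (nat_lit 180) Col.b (nat_lit 233) Dv.df))))) (Tr.nd (nat_lit 499) (Tr.nd (nat_lit 497) (Tr.lf (Fc.ed (nat_lit 496) (nat_lit 233) Col.f (nat_lit 182) (Dv.wd (nat_lit 28) [Mv.b (nat_lit 393), Mv.b (nat_lit 391), Mv.f (nat_lit 495)]))) (Tr.nd (nat_lit 498) (Tr.lf (Fc.ed (nat_lit 497) (nat_lit 181) Col.b (nat_lit 234) Dv.df)) (Tr.lf (Fc.ed (nat_lit 498) (nat_lit 234) Col.d (nat_lit 182) (Dv.wd (nat_lit 18) [Mv.b (nat_lit 393), Mv.f (nat_lit 392), Mv.f (nat_lit 497)]))))) (Tr.nd (nat_lit 500) (Tr.lf (Fc.ed (nat_lit 499) (nat_lit 181) Col.f (nat_lit 235) Dv.df)) (Tr.nd (nat_lit 501) (Tr.lf (Fc.ed (nat_lit 500) (nat_lit 181) Col.c (nat_lit 236) Dv.df)) (Tr.lf (Fc.ed (nat_lit 501) (nat_lit 181) Col.g (nat_lit 237) Dv.df))))))) (Tr.nd (nat_lit 514) (Tr.nd (nat_lit 508) (Tr.nd (nat_lit 505) (Tr.nd (nat_lit 503) (Tr.lf (Fc.ed (nat_lit 502) (nat_lit 185) Col.c (nat_lit 238) Dv.df)) (Tr.nd (nat_lit 504) (Tr.lf (Fc.ed (nat_lit 503) (nat_lit 185) Col.e (nat_lit 239) Dv.df)) (Tr.lf (Fc.ed (nat_lit 504) (nat_lit 239) Col.b (nat_lit 187) (Dv.wd (nat_lit 26) [Mv.b (nat_lit 403), Mv.f (nat_lit 399), Mv.f (nat_lit 503)]))))) (Tr.nd (nat_lit 506) (Tr.lf (Fc.ed (nat_lit 505) (nat_lit 186) Col.e (nat_lit 240) Dv.df)) (Tr.nd (nat_lit 507) (Tr.lf (Fc.ed (nat_lit 506) (nat_lit 240) Col.c (nat_lit 187) (Dv.wd (nat_lit 45) [Mv.b (nat_lit 403), Mv.f (nat_lit 401), Mv.f (nat_lit 505)]))) (Tr.lf (Fc.ed (nat_lit 507) (nat_lit 186) Col.b (nat_lit 241) Dv.df))))) (Tr.nd (nat_lit 511) (Tr.nd (nat_lit 509) (Tr.lf (Fc.ed (nat_lit 508) (nat_lit 188) Col.c (nat_lit 242) Dv.df)) (Tr.nd (nat_lit 510) (Tr.lf (Fc.ed (nat_lit 509) (nat_lit 190) Col.e (nat_lit 243) Dv.df)) (Tr.lf (Fc.ed (nat_lit 510) (nat_lit 191) Col.b (nat_lit 244) Dv.df)))) (Tr.nd (nat_lit 512) (Tr.lf (Fc.ed (nat_lit 511) (nat_lit 244) Col.d (nat_lit 199) (Dv.wd (nat_lit 18) [Mv.b (nat_lit 429), Mv.b (nat_lit 410), Mv.f (nat_lit 510)]))) (Tr.nd (nat_lit 513) (Tr.lf (Fc.ed (nat_lit 512) (nat_lit 244) Col.e (nat_lit 192) (Dv.wd (nat_lit 61) [Mv.b (nat_lit 411), Mv.f (nat_lit 409), Mv.f (nat_lit 510)]))) (Tr.lf (Fc.ed (nat_lit 513) (nat_lit 191) Col.c (nat_lit 245) Dv.df)))))) (Tr.nd (nat_lit 520) (Tr.nd (nat_lit 517) (Tr.nd (nat_lit 515) (Tr.lf (Fc.ed (nat_lit 514) (nat_lit 245) Col.e (nat_lit 193) (Dv.wd (nat_lit 25) [Mv.b (nat_lit 413), Mv.f (nat_lit 409), Mv.f (nat_lit 513)]))) (Tr.nd (nat_lit 516) (Tr.lf (Fc.ed (nat_lit 515) (nat_lit 192) Col.c (nat_lit 246) Dv.df)) (Tr.lf (Fc.ed (nat_lit 516) (nat_lit 193) Col.b (nat_lit 247) Dv.df)))) (Tr.nd (nat_lit 518) (Tr.lf (Fc.ed (nat_lit 517) (nat_lit 194) Col.b (nat_lit 248) Dv.df)) (Tr.nd (nat_lit 519) (Tr.lf (Fc.ed (nat_lit 518) (nat_lit 248) Col.e (nat_lit 195) (Dv.wd (nat_lit 61) [Mv.b (nat_lit 416), Mv.f (nat_lit 414), Mv.f (nat_lit 517)]))) (Tr.lf (Fc.ed (nat_lit 519) (nat_lit 248) Col.g (nat_lit 244) (Dv.wd (nat_lit 69) [Mv.b (nat_lit 510), Mv.b (nat_lit 415), Mv.f (nat_lit 517)])))))) (Tr.nd (nat_lit 523) (Tr.nd (nat_lit 521) (Tr.lf (Fc.ed (nat_lit 520) (nat_lit 244) Col.a (nat_lit 248) (Dv.wd (nat_lit 24) [Mv.f (nat_lit 518), Mv.b (nat_lit 419), Mv.b (nat_lit 512)]))) (Tr.nd (nat_lit 522) (Tr.lf (Fc.ed (nat_lit 521) (nat_lit 194) Col.c (nat_lit 249) Dv.df)) (Tr.lf (Fc.ed (nat_lit 522) (nat_lit 195) Col.c (nat_lit 250) Dv.df)))) (Tr.nd (nat_lit 524) (Tr.lf (Fc.ed (nat_lit 523) (nat_lit 250) Col.a (nat_lit 246) (Dv.wd (nat_lit 33) [Mv.b (nat_lit 515), Mv.f (nat_lit 419), Mv.f (nat_lit 522)]))) (Tr.nd (nat_lit 525) (Tr.lf (Fc.ed (nat_lit 524) (nat_lit 250) Col.g (nat_lit 246) (Dv.wd (nat_lit 59) [Mv.b (nat_lit 515), Mv.b (nat_lit 418), Mv.f (nat_lit 522)]))) (Tr.lf (Fc.ed (nat_lit 525) (nat_lit 196) Col.b (nat_lit 251) Dv.df)))))))) (Tr.nd (nat_lit 550) (Tr.nd (nat_lit 538) (Tr.nd (nat_lit 532) (Tr.nd (nat_lit 529) (Tr.nd (nat_lit 527) (Tr.lf (Fc.ed (nat_lit 526) (nat_lit 251) Col.g (nat_lit 247) (Dv.wd (nat_lit 69) [Mv.b (nat_lit 516), Mv.b (nat_lit 422), Mv.f (nat_lit 525)]))) (Tr.nd (nat_lit 528) (Tr.lf (Fc.ed (nat_lit 527) (nat_lit 197) Col.b (nat_lit 252) Dv.df)) (Tr.lf (Fc.ed (nat_lit 528) (nat_lit 252) Col.e (nat_lit 198) (Dv.wd (nat_lit 61) [Mv.b (nat_lit 427), Mv.f (nat_lit 424), Mv.f (nat_lit 527)]))))) (Tr.nd (nat_lit 530) (Tr.lf (Fc.ed (nat_lit 529) (nat_lit 252) Col.g (nat_lit 199) (Dv.wd (nat_lit 69) [Mv.b (nat_lit 429), Mv.b (nat_lit 426), Mv.f (nat_lit 527)]))) (Tr.nd (nat_lit 531) (Tr.lf (Fc.ed (nat_lit 530) (nat_lit 198) Col.a (nat_lit 253) Dv.df)) (Tr.lf (Fc.ed (nat_lit 531) (nat_lit 253) Col.g (nat_lit 200) (Dv.wd (nat_lit 76) [Mv.b (nat_lit 431), Mv.b (nat_lit 428), Mv.f (nat_lit 530)])))))) (Tr.nd (nat_lit 535) (Tr.nd (nat_lit 533) (Tr.lf (Fc.ed (nat_lit 532) (nat_lit 199) Col.a (nat_lit 254) Dv.df)) (Tr.nd (nat_lit 534) (Tr.lf (Fc.ed (nat_lit 533) (nat_lit 254) Col.d (nat_lit 248) (Dv.wd (nat_lit 70) [Mv.b (nat_lit 520), Mv.f (nat_lit 511), Mv.f (nat_lit 532)]))) (Tr.lf (Fc.ed (nat_lit 534) (nat_lit 254) Col.e (nat_lit 200) (Dv.wd (nat_lit 64) [Mv.b (nat_lit 431), Mv.b (nat_lit 430), Mv.f (nat_lit 532)]))))) (Tr.nd (nat_lit 536) (Tr.lf (Fc.ed (nat_lit 535) (nat_lit 243) Col.b (nat_lit 254) (Dv.wd (nat_lit 77) [Mv.f (nat_lit 534), Mv.b (nat_lit 433), Mv.f (nat_lit 509)]))) (Tr.nd (nat_lit 537) (Tr.lf (Fc.ed (nat_lit 536) (nat_lit 199) Col.c (nat_lit 255) Dv.df)) (Tr.lf (Fc.ed (nat_lit 537) (nat_lit 255) Col.e (nat_lit 201) (Dv.wd (nat_lit 25) [Mv.b (nat_lit 434), Mv.b (nat_lit 430), Mv.f (nat_lit 536)]))))))) (Tr.nd (nat_lit 544) (Tr.nd (nat_lit 541) (Tr.nd (nat_lit 539) (Tr.lf (Fc.ed (nat_lit 538) (nat_lit 200) Col.c (nat_lit 256) Dv.df)) (Tr.nd (nat_lit 540) (Tr.lf (Fc.ed (nat_lit 539) (nat_lit 256) Col.a (nat_lit 201) (Dv.wd (nat_lit 33) [Mv.b (nat_lit 434), Mv.f (nat_lit 431), Mv.f (nat_lit 538)]))) (Tr.lf (Fc.al (nat_lit 540) (nat_lit 242) (nat_lit 243) (Dv.wd (nat_lit 9) [Mv.b (nat_lit 509), Mv.f (nat_lit 408), Mv.f (nat_lit 433), Mv.f (nat_lit 538), Mv.f (nat_lit 539), Mv.b (nat_lit 439), Mv.b (nat_lit 438), Mv.f (nat_lit 435), Mv.b (nat_lit 437), Mv.f (nat_lit 508)]))))) (Tr.nd (nat_lit 542) (Tr.lf (Fc.ed (nat_lit 541) (nat_lit 242) Col.b (nat_lit 254) (Dv.wd (nat_lit 16) [Mv.b (nat_lit 535), Mv.b (nat_lit 540)]))) (Tr.nd (nat_lit 543) (Tr.lf (Fc.ed (nat_lit 542) (nat_lit 201) Col.d (nat_lit 257) Dv.df)) (Tr.lf (Fc.ed (nat_lit 543) (nat_lit 202) Col.e (nat_lit 258) Dv.df))))) (Tr.nd (nat_lit 547) (Tr.nd (nat_lit 545) (Tr.lf (Fc.ed (nat_lit 544) (nat_lit 258) Col.a (nat_lit 204) (Dv.wd (nat_lit 44) [Mv.b (nat_lit 440), Mv.f (nat_lit 435), Mv.f (nat_lit 543)]))) (Tr.nd (nat_lit 546) (Tr.lf (Fc.ed (nat_lit 545) (nat_lit 258) Col.d (nat_lit 239) (Dv.wd (nat_lit 17) [Mv.b (nat_lit 503), Mv.f (nat_lit 400), Mv.b (nat_lit 358), Mv.b (nat_lit 436), Mv.f (nat_lit 543)]))) (Tr.lf (Fc.ed (nat_lit 546) (nat_lit 202) Col.c (nat_lit 259) Dv.df)))) (Tr.nd (nat_lit 548) (Tr.lf (Fc.ed (nat_lit 547) (nat_lit 259) Col.a (nat_lit 203) (Dv.wd (nat_lit 33) [Mv.b (nat_lit 438), Mv.f (nat_lit 435), Mv.f (nat_lit 546)]))) (Tr.nd (nat_lit 549) (Tr.lf (Fc.ed (nat_lit 548) (nat_lit 203) Col.e (nat_lit 260) Dv.df)) (Tr.lf (Fc.ed (nat_lit 549) (nat_lit 260) Col.b (nat_lit 255) (Dv.wd (nat_lit 26) [Mv.f (nat_lit 537), Mv.b (nat_lit 439), Mv.f (nat_lit 548)])))))))) (Tr.nd (nat_lit 562) (Tr.nd (nat_lit 556) (Tr.nd (nat_lit 553) (Tr.nd (nat_lit 551) (Tr.lf (Fc.ed (nat_lit 550) (nat_lit 260) Col.c (nat_lit 204) (Dv.wd (nat_lit 45) [Mv.b (nat_lit 440), Mv.f (nat_lit 438), Mv.f (nat_lit 548)]))) (Tr.nd (nat_lit 552) (Tr.lf (Fc.ed (nat_lit 551) (nat_lit 203) Col.d (nat_lit 261) Dv.df)) (Tr.lf (Fc.ed (nat_lit 552) (nat_lit 261) Col.b (nat_lit 257) (Dv.wd (nat_lit 13) [Mv.b (nat_lit 542), Mv.b (nat_lit 439), Mv.f (nat_lit 551)]))))) (Tr.nd (nat_lit 554) (Tr.lf (Fc.ed (nat_lit 553) (nat_lit 204) Col.d (nat_lit 262) Dv.df)) (Tr.nd (nat_lit 555) (Tr.lf (Fc.ed (nat_lit 554) (nat_lit 262) Col.a (nat_lit 239) (Dv.wd (nat_lit 32) [Mv.b (nat_lit 545), Mv.f (nat_lit 544), Mv.f (nat_lit 553)]))) (Tr.lf (Fc.ed (nat_lit 555) (nat_lit 205) Col.c (nat_lit 263) Dv.df))))) (Tr.nd (nat_lit 559) (Tr.nd (nat_lit 557) (Tr.lf (Fc.ed (nat_lit 556) (nat_lit 263) Col.e (nat_lit 208) (Dv.wd (nat_lit 25) [Mv.b (nat_lit 447), Mv.b (nat_lit 442), Mv.f (nat_lit 555)]))) (Tr.nd (nat_lit 558) (Tr.lf (Fc.ed (nat_lit 557) (nat_lit 206) Col.c (nat_lit 264) Dv.df)) (Tr.lf (Fc.ed (nat_lit 558) (nat_lit 264) Col.a (nat_lit 238) (Dv.wd (nat_lit 33) [Mv.b (nat_lit 502), Mv.f (nat_lit 445), Mv.f (nat_lit 557)]))))) (Tr.nd (nat_lit 560) (Tr.lf (Fc.ed (nat_lit 559) (nat_lit 207) Col.c (nat_lit 265) Dv.df)) (Tr.nd (nat_lit 561) (Tr.lf (Fc.ed (nat_lit 560) (nat_lit 265) Col.f (nat_lit 208) (Dv.wd (nat_lit 29) [Mv.b (nat_lit 447), Mv.f (nat_lit 446), Mv.f (nat_lit 559)]))) (Tr.lf (Fc.ed (nat_lit 561) (nat_lit 207) Col.g (nat_lit 266) Dv.df)))))) (Tr.nd (nat_lit 568) (Tr.nd (nat_lit 565) (Tr.nd (nat_lit 563) (Tr.lf (Fc.ed (nat_lit 562) (nat_lit 208) Col.b (nat_lit 267) Dv.df)) (Tr.nd (nat_lit 564) (Tr.lf (Fc.ed (nat_lit 563) (nat_lit 209) Col.c (nat_lit 268) Dv.df)) (Tr.lf (Fc.ed (nat_lit 564) (nat_lit 268) Col.g (nat_lit 210) (Dv.wd (nat_lit 59) [Mv.b (nat_lit 450), Mv.b (nat_lit 449), Mv.f (nat_lit 563)]))))) (Tr.nd (nat_lit 566) (Tr.lf (Fc.ed (nat_lit 565) (nat_lit 232) Col.f (nat_lit 268) (Dv.wd (nat_lit 35) [Mv.f (nat_lit 564), Mv.f (nat_lit 484), Mv.b (nat_lit 396), Mv.b (nat_lit 494)]))) (Tr.nd (nat_lit 567) (Tr.lf (Fc.al (nat_lit 566) (nat_lit 266) (nat_lit 236) (Dv.wd (nat_lit 78) [Mv.b (nat_lit 500), Mv.b (nat_lit 392), Mv.b (nat_lit 391), Mv.b (nat_lit 492), Mv.b (nat_lit 491), Mv.f (nat_lit 493), Mv.f (nat_lit 565), Mv.f (nat_lit 564), Mv.b (nat_lit 450), Mv.b (nat_lit 361), Mv.f (nat_lit 281), Mv.f (nat_lit 271), Mv.b (nat_lit 276), Mv.f (nat_lit 352), Mv.f (nat_lit 446), Mv.f (nat_lit 561)]))) (Tr.lf (Fc.ed (nat_lit 567) (nat_lit 236) Col.g (nat_lit 207) (Dv.wd (nat_lit 79) [Mv.f (nat_lit 561), Mv.f (nat_lit 566)])))))) (Tr.nd (nat_lit 571) (Tr.nd (nat_lit 569) (Tr.lf (Fc.al (nat_lit 568) (nat_lit 265) (nat_lit 237) (Dv.wd (nat_lit 59) [Mv.b (nat_lit 501), Mv.f (nat_lit 500), Mv.f (nat_lit 567), Mv.f (nat_lit 559)]))) (Tr.nd (nat_lit 570) (Tr.lf (Fc.ed (nat_lit 569) (nat_lit 237) Col.f (nat_lit 208) (Dv.wd (nat_lit 80) [Mv.b (nat_lit 560), Mv.f (nat_lit 568)]))) (Tr.lf (Fc.ed (nat_lit 570) (nat_lit 263) Col.g (nat_lit 235) (Dv.wd (nat_lit 81) [Mv.b (nat_lit 499), Mv.f (nat_lit 501), Mv.f (nat_lit 569), Mv.b (nat_lit 556)]))))) (Tr.nd (nat_lit 572) (Tr.lf (Fc.ed (nat_lit 571) (nat_lit 213) Col.e (nat_lit 269) Dv.df)) (Tr.nd (nat_lit 573) (Tr.lf (Fc.ed (nat_lit 572) (nat_lit 269) Col.a (nat_lit 223) (Dv.wd (nat_lit 44) [Mv.b (nat_lit 471), Mv.b (nat_lit 457), Mv.f (nat_lit 571)]))) (Tr.lf (Fc.ed (nat_lit 573) (nat_lit 213) Col.c (nat_lit 270) Dv.df)))))))))) (Tr.nd (nat_lit 670) (Tr.nd (nat_lit 622) (Tr.nd (nat_lit 598) (Tr.nd (nat_lit 586) (Tr.nd (nat_lit 580) (Tr.nd (nat_lit 577) (Tr.nd (nat_lit 575) (Tr.lf (Fc.ed (nat_lit 574) (nat_lit 270) Col.a (nat_lit 222) (Dv.wd (nat_lit 33) [Mv.b (nat_lit 470), Mv.b (nat_lit 457), Mv.f (nat_lit 573)]))) (Tr.nd (nat_lit 576) (Tr.lf (Fc.ed (nat_lit 575) (nat_lit 214) Col.c (nat_lit 271) Dv.df)) (Tr.lf (Fc.ed (nat_lit 576) (nat_lit 271) Col.e (nat_lit 215) (Dv.wd (nat_lit 25) [Mv.b (nat_lit 460), Mv.f (nat_lit 459), Mv.f (nat_lit 575)]))))) (Tr.nd (nat_lit 578) (Tr.lf (Fc.ed (nat_lit 577) (nat_lit 215) Col.b (nat_lit 272) Dv.df)) (Tr.nd (nat_lit 579) (Tr.lf (Fc.ed (nat_lit 578) (nat_lit 215) Col.d (nat_lit 273) Dv.df)) (Tr.lf (Fc.ed (nat_lit 579) (nat_lit 273) Col.c (nat_lit 273) (Dv.wd (nat_lit 38) [Mv.b (nat_lit 578), Mv.b (nat_lit 460), Mv.b (nat_lit 367), Mv.b (nat_lit 284), Mv.b (nat_lit 228), Mv.b (nat_lit 294), Mv.f (nat_lit 375), Mv.f (nat_lit 376), Mv.f (nat_lit 460), Mv.f (nat_lit 578)])))))) (Tr.nd (nat_lit 583) (Tr.nd (nat_lit 581) (Tr.lf (Fc.ed (nat_lit 580) (nat_lit 216) Col.a (nat_lit 274) Dv.df)) (Tr.nd (nat_lit 582) (Tr.lf (Fc.ed (nat_lit 581) (nat_lit 216) Col.c (nat_lit 275) Dv.df)) (Tr.lf (Fc.ed (nat_lit 582) (nat_lit 275) Col.e (nat_lit 219) (Dv.wd (nat_lit 25) [Mv.b (nat_lit 466), Mv.b (nat_lit 462), Mv.f (nat_lit 581)]))))) (Tr.nd (nat_lit 584) (Tr.lf (Fc.ed (nat_lit 583) (nat_lit 217) Col.d (nat_lit 276) Dv.df)) (Tr.nd (nat_lit 585) (Tr.lf (Fc.ed (nat_lit 584) (nat_lit 217) Col.b (nat_lit 277) Dv.df)) (Tr.lf (Fc.ed (nat_lit 585) (nat_lit 277) Col.e (nat_lit 218) (Dv.wd (nat_lit 61) [Mv.b (nat_lit 465), Mv.b (nat_lit 464), Mv.f (nat_lit 584)]))))))) (Tr.nd (nat_lit 592) (Tr.nd (nat_lit 589) (Tr.nd (nat_lit 587) (Tr.lf (Fc.ed (nat_lit 586) (nat_lit 218) Col.c (nat_lit 278) Dv.df)) (Tr.nd (nat_lit 588) (Tr.lf (Fc.ed (nat_lit 587) (nat_lit 278) Col.b (nat_lit 219) (Dv.wd (nat_lit 71) [Mv.b (nat_lit 466), Mv.b (nat_lit 370), Mv.f (nat_lit 369), Mv.f (nat_lit 465), Mv.f (nat_lit 586)]))) (Tr.lf (Fc.ed (nat_lit 588) (nat_lit 218) Col.a (nat_lit 279) Dv.df)))) (Tr.nd (nat_lit 590) (Tr.lf (Fc.ed (nat_lit 589) (nat_lit 219) Col.a (nat_lit 280) Dv.df)) (Tr.nd (nat_lit 591) (Tr.lf (Fc.ed (nat_lit 590) (nat_lit 280) Col.c (nat_lit 220) (Dv.wd (nat_lit 40) [Mv.b (nat_lit 467), Mv.f (nat_lit 466), Mv.f (nat_lit 589)]))) (Tr.lf (Fc.ed (nat_lit 591) (nat_lit 272) Col.a (nat_lit 277) (Dv.wd (nat_lit 62) [Mv.f (nat_lit 585), Mv.f (nat_lit 586), Mv.f (nat_lit 587), Mv.f (nat_lit 589), Mv.f (nat_lit 590), Mv.f (nat_lit 468), Mv.f (nat_lit 376), Mv.f (nat_lit 460), Mv.f (nat_lit 577)])))))) (Tr.nd (nat_lit 595) (Tr.nd (nat_lit 593) (Tr.lf (Fc.ed (nat_lit 592) (nat_lit 271) Col.b (nat_lit 279) (Dv.wd (nat_lit 82) [Mv.b (nat_lit 588), Mv.f (nat_lit 586), Mv.f (nat_lit 587), Mv.f (nat_lit 589), Mv.f (nat_lit 590), Mv.f (nat_lit 468), Mv.f (nat_lit 376), Mv.f (nat_lit 459), Mv.f (nat_lit 575)]))) (Tr.nd (nat_lit 594) (Tr.lf (Fc.ed (nat_lit 593) (nat_lit 279) Col.e (nat_lit 272) (Dv.wd (nat_lit 61) [Mv.b (nat_lit 577), Mv.b (nat_lit 576), Mv.f (nat_lit 592)]))) (Tr.lf (Fc.ed (nat_lit 594) (nat_lit 222) Col.d (nat_lit 281) Dv.df)))) (Tr.nd (nat_lit 596) (Tr.lf (Fc.ed (nat_lit 595) (nat_lit 222) Col.e (nat_lit 282) Dv.df)) (Tr.nd (nat_lit 597) (Tr.lf (Fc.ed (nat_lit 596) (nat_lit 282) Col.c (nat_lit 223) (Dv.wd (nat_lit 45) [Mv.b (nat_lit 471), Mv.f (nat_lit 470), Mv.f (nat_lit 595)]))) (Tr.lf (Fc.ed (nat_lit 597) (nat_lit 222) Col.b (nat_lit 283) Dv.df))))))) (Tr.nd (nat_lit 610) (Tr.nd (nat_lit 604) (Tr.nd (nat_lit 601) (Tr.nd (nat_lit 599) (Tr.lf (Fc.ed (nat_lit 598) (nat_lit 283) Col.c (nat_lit 226) (Dv.wd (nat_lit 34) [Mv.b (nat_lit 478), Mv.b (nat_lit 377), Mv.b (nat_lit 374), Mv.f (nat_lit 470), Mv.f (nat_lit 597)]))) (Tr.nd (nat_lit 600) (Tr.lf (Fc.ed (nat_lit 599) (nat_lit 224) Col.b (nat_lit 284) Dv.df)) (Tr.lf (Fc.ed (nat_lit 600) (nat_lit 224) Col.d (nat_lit 285) Dv.df)))) (Tr.nd (nat_lit 602) (Tr.lf (Fc.ed (nat_lit 601) (nat_lit 285) Col.a (nat_lit 273) (Dv.wd (nat_lit 32) [Mv.b (nat_lit 578), Mv.b (nat_lit 474), Mv.f (nat_lit 600)]))) (Tr.nd (nat_lit 603) (Tr.lf (Fc.ed (nat_lit 602) (nat_lit 225) Col.b (nat_lit 286) Dv.df)) (Tr.lf (Fc.ed (nat_lit 603) (nat_lit 286) Col.e (nat_lit 226) (Dv.wd (nat_lit 61) [Mv.b (nat_lit 478), Mv.f (nat_lit 475), Mv.f (nat_lit 602)])))))) (Tr.nd (nat_lit 607) (Tr.nd (nat_lit 605) (Tr.lf (Fc.ed (nat_lit 604) (nat_lit 286) Col.a (nat_lit 284) (Dv.wd (nat_lit 83) [Mv.b (nat_lit 599), Mv.f (nat_lit 474), Mv.f (nat_lit 577), Mv.f (nat_lit 591), Mv.b (nat_lit 584), Mv.b (nat_lit 476), Mv.f (nat_lit 602)]))) (Tr.nd (nat_lit 606) (Tr.lf (Fc.ed (nat_lit 605) (nat_lit 226) Col.a (nat_lit 287) Dv.df)) (Tr.lf (Fc.ed (nat_lit 606) (nat_lit 287) Col.d (nat_lit 279) (Dv.wd (nat_lit 70) [Mv.b (nat_lit 588), Mv.b (nat_lit 479), Mv.f (nat_lit 605)]))))) (Tr.nd (nat_lit 608) (Tr.lf (Fc.ed (nat_lit 607) (nat_lit 287) Col.e (nat_lit 284) (Dv.wd (nat_lit 64) [Mv.b (nat_lit 604), Mv.f (nat_lit 603), Mv.f (nat_lit 605)]))) (Tr.nd (nat_lit 609) (Tr.lf (Fc.ed (nat_lit 608) (nat_lit 228) Col.b (nat_lit 288) Dv.df)) (Tr.lf (Fc.ed (nat_lit 609) (nat_lit 229) Col.b (nat_lit 289) Dv.df)))))) (Tr.nd (nat_lit 616) (Tr.nd (nat_lit 613) (Tr.nd (nat_lit 611) (Tr.lf (Fc.ed (nat_lit 610) (nat_lit 289) Col.d (nat_lit 288) (Dv.wd (nat_lit 18) [Mv.b (nat_lit 608), Mv.f (nat_lit 488), Mv.f (nat_lit 609)]))) (Tr.nd (nat_lit 612) (Tr.lf (Fc.ed (nat_lit 611) (nat_lit 289) Col.f (nat_lit 230) (Dv.wd (nat_lit 28) [Mv.b (nat_lit 489), Mv.b (nat_lit 487), Mv.f (nat_lit 609)]))) (Tr.lf (Fc.ed (nat_lit 612) (nat_lit 231) Col.b (nat_lit 290) Dv.df)))) (Tr.nd (nat_lit 614) (Tr.lf (Fc.ed (nat_lit 613) (nat_lit 290) Col.g (nat_lit 233) (Dv.wd (nat_lit 69) [Mv.b (nat_lit 495), Mv.b (nat_lit 492), Mv.f (nat_lit 612)]))) (Tr.nd (nat_lit 615) (Tr.lf (Fc.ed (nat_lit 614) (nat_lit 290) Col.c (nat_lit 288) (Dv.wd (nat_lit 34) [Mv.b (nat_lit 608), Mv.b (nat_lit 485), Mv.b (nat_lit 389), Mv.f (nat_lit 491), Mv.f (nat_lit 612)]))) (Tr.lf (Fc.ed (nat_lit 615) (nat_lit 234) Col.c (nat_lit 291) Dv.df))))) (Tr.nd (nat_lit 619) (Tr.nd (nat_lit 617) (Tr.lf (Fc.ed (nat_lit 616) (nat_lit 234) Col.f (nat_lit 292) Dv.df)) (Tr.nd (nat_lit 618) (Tr.lf (Fc.ed (nat_lit 617) (nat_lit 292) Col.b (nat_lit 235) (Dv.wd (nat_lit 48) [Mv.b (nat_lit 499), Mv.f (nat_lit 497), Mv.f (nat_lit 616)]))) (Tr.lf (Fc.ed (nat_lit 618) (nat_lit 234) Col.g (nat_lit 293) Dv.df)))) (Tr.nd (nat_lit 620) (Tr.lf (Fc.ed (nat_lit 619) (nat_lit 293) Col.b (nat_lit 237) (Dv.wd (nat_lit 31) [Mv.b (nat_lit 501), Mv.f (nat_lit 497), Mv.f (nat_lit 618)]))) (Tr.nd (nat_lit 621) (Tr.lf (Fc.ed (nat_lit 620) (nat_lit 267) Col.f (nat_lit 293) (Dv.wd (nat_lit 84) [Mv.f (nat_lit 619), Mv.f (nat_lit 569), Mv.f (nat_lit 562)]))) (Tr.lf (Fc.ed (nat_lit 621) (nat_lit 238) Col.b (nat_lit 294) Dv.df)))))))) (Tr.nd (nat_lit 646) (Tr.nd (nat_lit 634) (Tr.nd (nat_lit 628) (Tr.nd (nat_lit 625) (Tr.nd (nat_lit 623) (Tr.lf (Fc.ed (nat_lit 622) (nat_lit 294) Col.c (nat_lit 241) (Dv.wd (nat_lit 34) [Mv.b (nat_lit 507), Mv.b (nat_lit 401), Mv.f (nat_lit 399), Mv.f (nat_lit 502), Mv.f (nat_lit 621)]))) (Tr.nd (nat_lit 624) (Tr.lf (Fc.ed (nat_lit 623) (nat_lit 238) Col.e (nat_lit 295) Dv.df)) (Tr.lf (Fc.ed (nat_lit 624) (nat_lit 295) Col.c (nat_lit 239) (Dv.wd (nat_lit 45) [Mv.b (nat_lit 503), Mv.f (nat_lit 502), Mv.f (nat_lit 623)]))))) (Tr.nd (nat_lit 626) (Tr.lf (Fc.ed (nat_lit 625) (nat_lit 238) Col.d (nat_lit 296) Dv.df)) (Tr.nd (nat_lit 627) (Tr.lf (Fc.ed (nat_lit 626) (nat_lit 241) Col.a (nat_lit 297) Dv.df)) (Tr.lf (Fc.ed (nat_lit 627) (nat_lit 297) Col.b (nat_lit 263) (Dv.wd (nat_lit 65) [Mv.b (nat_lit 555), Mv.f (nat_lit 442), Mv.f (nat_lit 353), Mv.f (nat_lit 443), Mv.f (nat_lit 557), Mv.f (nat_lit 558), Mv.f (nat_lit 621), Mv.f (nat_lit 622), Mv.f (nat_lit 626)])))))) (Tr.nd (nat_lit 631) (Tr.nd (nat_lit 629) (Tr.lf (Fc.ed (nat_lit 628) (nat_lit 292) Col.g (nat_lit 297) (Dv.wd (nat_lit 85) [Mv.f (nat_lit 627), Mv.f (nat_lit 570), Mv.b (nat_lit 617)]))) (Tr.nd (nat_lit 630) (Tr.lf (Fc.ed (nat_lit 629) (nat_lit 244) Col.c (nat_lit 298) Dv.df)) (Tr.lf (Fc.ed (nat_lit 630) (nat_lit 298) Col.e (nat_lit 246) (Dv.wd (nat_lit 25) [Mv.b (nat_lit 515), Mv.b (nat_lit 512), Mv.f (nat_lit 629)]))))) (Tr.nd (nat_lit 632) (Tr.lf (Fc.ed (nat_lit 631) (nat_lit 246) Col.b (nat_lit 299) Dv.df)) (Tr.nd (nat_lit 633) (Tr.lf (Fc.ed (nat_lit 632) (nat_lit 299) Col.c (nat_lit 247) (Dv.wd (nat_lit 34) [Mv.b (nat_lit 516), Mv.b (nat_lit 413), Mv.f (nat_lit 411), Mv.f (nat_lit 515), Mv.f (nat_lit 631)]))) (Tr.lf (Fc.ed (nat_lit 633) (nat_lit 247) Col.a (nat_lit 300) Dv.df)))))) (Tr.nd (nat_lit 640) (Tr.nd (nat_lit 637) (Tr.nd (nat_lit 635) (Tr.lf (Fc.ed (nat_lit 634) (nat_lit 300) Col.b (nat_lit 249) (Dv.wd (nat_lit 65) [Mv.b (nat_lit 521), Mv.b (nat_lit 414), Mv.f (nat_lit 331), Mv.f (nat_lit 416), Mv.f (nat_lit 522), Mv.f (nat_lit 523), Mv.f (nat_lit 631), Mv.f (nat_lit 632), Mv.f (nat_lit 633)]))) (Tr.nd (nat_lit 636) (Tr.lf (Fc.ed (nat_lit 635) (nat_lit 248) Col.c (nat_lit 301) Dv.df)) (Tr.lf (Fc.ed (nat_lit 636) (nat_lit 301) Col.a (nat_lit 298) (Dv.wd (nat_lit 33) [Mv.b (nat_lit 629), Mv.f (nat_lit 520), Mv.f (nat_lit 635)]))))) (Tr.nd (nat_lit 638) (Tr.lf (Fc.ed (nat_lit 637) (nat_lit 301) Col.e (nat_lit 250) (Dv.wd (nat_lit 25) [Mv.b (nat_lit 522), Mv.b (nat_lit 518), Mv.f (nat_lit 635)]))) (Tr.nd (nat_lit 639) (Tr.lf (Fc.ed (nat_lit 638) (nat_lit 250) Col.d (nat_lit 302) Dv.df)) (Tr.lf (Fc.ed (nat_lit 639) (nat_lit 250) Col.b (nat_lit 303) Dv.df))))) (Tr.nd (nat_lit 643) (Tr.nd (nat_lit 641) (Tr.lf (Fc.ed (nat_lit 640) (nat_lit 303) Col.g (nat_lit 299) (Dv.wd (nat_lit 69) [Mv.b (nat_lit 631), Mv.b (nat_lit 524), Mv.f (nat_lit 639)]))) (Tr.nd (nat_lit 642) (Tr.lf (Fc.ed (nat_lit 641) (nat_lit 252) Col.a (nat_lit 304) Dv.df)) (Tr.lf (Fc.ed (nat_lit 642) (nat_lit 304) Col.e (nat_lit 253) (Dv.wd (nat_lit 64) [Mv.b (nat_lit 530), Mv.b (nat_lit 528), Mv.f (nat_lit 641)]))))) (Tr.nd (nat_lit 644) (Tr.lf (Fc.ed (nat_lit 643) (nat_lit 304) Col.g (nat_lit 254) (Dv.wd (nat_lit 76) [Mv.b (nat_lit 532), Mv.b (nat_lit 529), Mv.f (nat_lit 641)]))) (Tr.nd (nat_lit 645) (Tr.lf (Fc.ed (nat_lit 644) (nat_lit 252) Col.d (nat_lit 304) (Dv.wd (nat_lit 86) [Mv.f (nat_lit 643), Mv.f (nat_lit 533), Mv.f (nat_lit 519), Mv.f (nat_lit 511), Mv.b (nat_lit 529)]))) (Tr.lf (Fc.ed (nat_lit 645) (nat_lit 254) Col.c (nat_lit 305) Dv.df))))))) (Tr.nd (nat_lit 658) (Tr.nd (nat_lit 652) (Tr.nd (nat_lit 649) (Tr.nd (nat_lit 647) (Tr.lf (Fc.ed (nat_lit 646) (nat_lit 305) Col.a (nat_lit 255) (Dv.wd (nat_lit 33) [Mv.b (nat_lit 536), Mv.f (nat_lit 532), Mv.f (nat_lit 645)]))) (Tr.nd (nat_lit 648) (Tr.lf (Fc.ed (nat_lit 647) (nat_lit 305) Col.e (nat_lit 256) (Dv.wd (nat_lit 25) [Mv.b (nat_lit 538), Mv.b (nat_lit 534), Mv.f (nat_lit 645)]))) (Tr.lf (Fc.ed (nat_lit 648) (nat_lit 305) Col.b (nat_lit 259) (Dv.wd (nat_lit 71) [Mv.b (nat_lit 546), Mv.b (nat_lit 437), Mv.f (nat_lit 508), Mv.f (nat_lit 541), Mv.f (nat_lit 645)]))))) (Tr.nd (nat_lit 650) (Tr.lf (Fc.ed (nat_lit 649) (nat_lit 255) Col.d (nat_lit 306) Dv.df)) (Tr.nd (nat_lit 651) (Tr.lf (Fc.ed (nat_lit 650) (nat_lit 256) Col.d (nat_lit 307) Dv.df)) (Tr.lf (Fc.ed (nat_lit 651) (nat_lit 307) Col.a (nat_lit 257) (Dv.wd (nat_lit 32) [Mv.b (nat_lit 542), Mv.b (nat_lit 539), Mv.f (nat_lit 650)])))))) (Tr.nd (nat_lit 655) (Tr.nd (nat_lit 653) (Tr.lf (Fc.ed (nat_lit 652) (nat_lit 257) Col.c (nat_lit 308) Dv.df)) (Tr.nd (nat_lit 654) (Tr.lf (Fc.ed (nat_lit 653) (nat_lit 259) Col.d (nat_lit 309) Dv.df)) (Tr.lf (Fc.ed (nat_lit 654) (nat_lit 309) Col.a (nat_lit 261) (Dv.wd (nat_lit 32) [Mv.b (nat_lit 551), Mv.b (nat_lit 547), Mv.f (nat_lit 653)]))))) (Tr.nd (nat_lit 656) (Tr.lf (Fc.ed (nat_lit 655) (nat_lit 262) Col.c (nat_lit 310) Dv.df)) (Tr.nd (nat_lit 657) (Tr.lf (Fc.ed (nat_lit 656) (nat_lit 310) Col.a (nat_lit 295) (Dv.wd (nat_lit 33) [Mv.f (nat_lit 624), Mv.b (nat_lit 554), Mv.f (nat_lit 655)]))) (Tr.lf (Fc.ed (nat_lit 657) (nat_lit 264) Col.d (nat_lit 311) Dv.df)))))) (Tr.nd (nat_lit 664) (Tr.nd (nat_lit 661) (Tr.nd (nat_lit 659) (Tr.lf (Fc.ed (nat_lit 658) (nat_lit 311) Col.a (nat_lit 296) (Dv.wd (nat_lit 32) [Mv.b (nat_lit 625), Mv.b (nat_lit 558), Mv.f (nat_lit 657)]))) (Tr.nd (nat_lit 660) (Tr.lf (Fc.ed (nat_lit 659) (nat_lit 264) Col.b (nat_lit 312) Dv.df)) (Tr.lf (Fc.ed (nat_lit 660) (nat_lit 312) Col.c (nat_lit 267) (Dv.wd (nat_lit 34) [Mv.b (nat_lit 562), Mv.b (nat_lit 447), Mv.f (nat_lit 443), Mv.f (nat_lit 557), Mv.f (nat_lit 659)]))))) (Tr.nd (nat_lit 662) (Tr.lf (Fc.ed (nat_lit 661) (nat_lit 269) Col.c (nat_lit 313) Dv.df)) (Tr.nd (nat_lit 663) (Tr.lf (Fc.ed (nat_lit 662) (nat_lit 313) Col.a (nat_lit 282) (Dv.wd (nat_lit 33) [Mv.f (nat_lit 596), Mv.b (nat_lit 572), Mv.f (nat_lit 661)]))) (Tr.lf (Fc.ed (nat_lit 663) (nat_lit 270) Col.b (nat_lit 314) Dv.df))))) (Tr.nd (nat_lit 667) (Tr.nd (nat_lit 665) (Tr.lf (Fc.ed (nat_lit 664) (nat_lit 314) Col.c (nat_lit 272) (Dv.wd (nat_lit 34) [Mv.b (nat_lit 577), Mv.b (nat_lit 460), Mv.b (nat_lit 458), Mv.f (nat_lit 573), Mv.f (nat_lit 663)]))) (Tr.nd (nat_lit 666) (Tr.lf (Fc.ed (nat_lit 665) (nat_lit 272) Col.d (nat_lit 315) Dv.df)) (Tr.lf (Fc.ed (nat_lit 666) (nat_lit 315) Col.b (nat_lit 273) (Dv.wd (nat_lit 13) [Mv.b (nat_lit 578), Mv.f (nat_lit 577), Mv.f (nat_lit 665)]))))) (Tr.nd (nat_lit 668) (Tr.lf (Fc.ed (nat_lit 667) (nat_lit 274) Col.c (nat_lit 316) Dv.df)) (Tr.nd (nat_lit 669) (Tr.lf (Fc.ed (nat_lit 668) (nat_lit 316) Col.a (nat_lit 275) (Dv.wd (nat_lit 33) [Mv.b (nat_lit 581), Mv.f (nat_lit 580), Mv.f (nat_lit 667)]))) (Tr.lf (Fc.ed (nat_lit 669) (nat_lit 275) Col.b (nat_lit 317) Dv.df))))))))) (Tr.nd (nat_lit 718) (Tr.nd (nat_lit 694) (Tr.nd (nat_lit 682) (Tr.nd (nat_lit 676) (Tr.nd (nat_lit 673) (Tr.nd (nat_lit 671) (Tr.lf (Fc.ed (nat_lit 670) (nat_lit 317) Col.e (nat_lit 278) (Dv.wd (nat_lit 61) [Mv.f (nat_lit 587), Mv.b (nat_lit 582), Mv.f (nat_lit 669)]))) (Tr.nd (nat_lit 672) (Tr.lf (Fc.ed (nat_lit 671) (nat_lit 317) Col.c (nat_lit 277) (Dv.wd (nat_lit 34) [Mv.b (nat_lit 584), Mv.b (nat_lit 463), Mv.f (nat_lit 461), Mv.f (nat_lit 581), Mv.f (nat_lit 669)]))) (Tr.lf (Fc.ed (nat_lit 672) (nat_lit 317) Col.a (nat_lit 314) (Dv.wd (nat_lit 41) [Mv.f (nat_lit 664), Mv.b (nat_lit 577), Mv.b (nat_lit 474), Mv.b (nat_lit 473), Mv.b (nat_lit 468), Mv.b (nat_lit 467), Mv.b (nat_lit 462), Mv.f (nat_lit 581), Mv.f (nat_lit 669)]))))) (Tr.nd (nat_lit 674) (Tr.lf (Fc.ed (nat_lit 673) (nat_lit 276) Col.b (nat_lit 318) Dv.df)) (Tr.nd (nat_lit 675) (Tr.lf (Fc.ed (nat_lit 674) (nat_lit 318) Col.d (nat_lit 277) (Dv.wd (nat_lit 18) [Mv.b (nat_lit 584), Mv.f (nat_lit 583), Mv.f (nat_lit 673)]))) (Tr.lf (Fc.ed (nat_lit 675) (nat_lit 278) Col.a (nat_lit 319) Dv.df))))) (Tr.nd (nat_lit 679) (Tr.nd (nat_lit 677) (Tr.lf (Fc.ed (nat_lit 676) (nat_lit 319) Col.c (nat_lit 279) (Dv.wd (nat_lit 40) [Mv.b (nat_lit 588), Mv.f (nat_lit 586), Mv.f (nat_lit 675)]))) (Tr.nd (nat_lit 678) (Tr.lf (Fc.ed (nat_lit 677) (nat_lit 319) Col.e (nat_lit 314) (Dv.wd (nat_lit 64) [Mv.b (nat_lit 672), Mv.f (nat_lit 670), Mv.f (nat_lit 675)]))) (Tr.lf (Fc.ed (nat_lit 678) (nat_lit 319) Col.b (nat_lit 313) (Dv.wd (nat_lit 87) [Mv.b (nat_lit 661), Mv.f (nat_lit 572), Mv.f (nat_lit 472), Mv.b (nat_lit 477), Mv.f (nat_lit 476), Mv.f (nat_lit 584), Mv.b (nat_lit 671), Mv.f (nat_lit 670), Mv.f (nat_lit 675)]))))) (Tr.nd (nat_lit 680) (Tr.lf (Fc.ed (nat_lit 679) (nat_lit 280) Col.b (nat_lit 320) Dv.df)) (Tr.nd (nat_lit 681) (Tr.lf (Fc.ed (nat_lit 680) (nat_lit 320) Col.c (nat_lit 284) (Dv.wd (nat_lit 34) [Mv.b (nat_lit 599), Mv.b (nat_lit 473), Mv.b (nat_lit 468), Mv.b (nat_lit 590), Mv.f (nat_lit 679)]))) (Tr.lf (Fc.ed (nat_lit 681) (nat_lit 281) Col.b (nat_lit 321) Dv.df)))))) (Tr.nd (nat_lit 688) (Tr.nd (nat_lit 685) (Tr.nd (nat_lit 683) (Tr.lf (Fc.ed (nat_lit 682) (nat_lit 321) Col.d (nat_lit 283) (Dv.wd (nat_lit 18) [Mv.b (nat_lit 597), Mv.f (nat_lit 594), Mv.f (nat_lit 681)]))) (Tr.nd (nat_lit 684) (Tr.lf (Fc.ed (nat_lit 683) (nat_lit 281) Col.c (nat_lit 322) Dv.df)) (Tr.lf (Fc.ed (nat_lit 684) (nat_lit 282) Col.b (nat_lit 323) Dv.df)))) (Tr.nd (nat_lit 686) (Tr.lf (Fc.ed (nat_lit 685) (nat_lit 323) Col.e (nat_lit 283) (Dv.wd (nat_lit 61) [Mv.b (nat_lit 597), Mv.f (nat_lit 595), Mv.f (nat_lit 684)]))) (Tr.nd (nat_lit 687) (Tr.lf (Fc.ed (nat_lit 686) (nat_lit 323) Col.a (nat_lit 320) (Dv.wd (nat_lit 83) [Mv.b (nat_lit 679), Mv.b (nat_lit 589), Mv.b (nat_lit 587), Mv.f (nat_lit 675), Mv.f (nat_lit 678), Mv.f (nat_lit 662), Mv.f (nat_lit 684)]))) (Tr.lf (Fc.ed (nat_lit 687) (nat_lit 283) Col.a (nat_lit 324) Dv.df))))) (Tr.nd (nat_lit 691) (Tr.nd (nat_lit 689) (Tr.lf (Fc.ed (nat_lit 688) (nat_lit 324) Col.c (nat_lit 287) (Dv.wd (nat_lit 40) [Mv.b (nat_lit 605), Mv.b (nat_lit 598), Mv.f (nat_lit 687)]))) (Tr.nd (nat_lit 690) (Tr.lf (Fc.ed (nat_lit 689) (nat_lit 324) Col.e (nat_lit 320) (Dv.wd (nat_lit 64) [Mv.b (nat_lit 686), Mv.f (nat_lit 685), Mv.f (nat_lit 687)]))) (Tr.lf (Fc.ed (nat_lit 690) (nat_lit 324) Col.b (nat_lit 316) (Dv.wd (nat_lit 73) [Mv.f (nat_lit 668), Mv.f (nat_lit 669), Mv.f (nat_lit 672), Mv.b (nat_lit 663), Mv.f (nat_lit 574), Mv.f (nat_lit 597), Mv.f (nat_lit 687)]))))) (Tr.nd (nat_lit 692) (Tr.lf (Fc.ed (nat_lit 691) (nat_lit 284) Col.d (nat_lit 325) Dv.df)) (Tr.nd (nat_lit 693) (Tr.lf (Fc.ed (nat_lit 692) (nat_lit 325) Col.b (nat_lit 285) (Dv.wd (nat_lit 13) [Mv.b (nat_lit 600), Mv.f (nat_lit 599), Mv.f (nat_lit 691)]))) (Tr.lf (Fc.ed (nat_lit 693) (nat_lit 325) Col.e (nat_lit 315) (Dv.wd (nat_lit 42) [Mv.b (nat_lit 665), Mv.b (nat_lit 593), Mv.b (nat_lit 606), Mv.f (nat_lit 607), Mv.f (nat_lit 691)])))))))) (Tr.nd (nat_lit 706) (Tr.nd (nat_lit 700) (Tr.nd (nat_lit 697) (Tr.nd (nat_lit 695) (Tr.lf (Fc.ed (nat_lit 694) (nat_lit 286) Col.d (nat_lit 326) Dv.df)) (Tr.nd (nat_lit 696) (Tr.lf (Fc.ed (nat_lit 695) (nat_lit 326) Col.a (nat_lit 325) (Dv.wd (nat_lit 32) [Mv.b (nat_lit 691), Mv.b (nat_lit 604), Mv.f (nat_lit 694)]))) (Tr.lf (Fc.ed (nat_lit 696) (nat_lit 326) Col.e (nat_lit 318) (Dv.wd (nat_lit 42) [Mv.f (nat_lit 674), Mv.f (nat_lit 585), Mv.b (nat_lit 479), Mv.b (nat_lit 603), Mv.f (nat_lit 694)]))))) (Tr.nd (nat_lit 698) (Tr.lf (Fc.ed (nat_lit 697) (nat_lit 291) Col.g (nat_lit 327) Dv.df)) (Tr.nd (nat_lit 699) (Tr.lf (Fc.ed (nat_lit 698) (nat_lit 327) Col.c (nat_lit 293) (Dv.wd (nat_lit 36) [Mv.b (nat_lit 618), Mv.f (nat_lit 615), Mv.f (nat_lit 697)]))) (Tr.lf (Fc.ed (nat_lit 699) (nat_lit 312) Col.f (nat_lit 327) (Dv.wd (nat_lit 56) [Mv.f (nat_lit 698), Mv.b (nat_lit 620), Mv.b (nat_lit 660)])))))) (Tr.nd (nat_lit 703) (Tr.nd (nat_lit 701) (Tr.lf (Fc.ed (nat_lit 700) (nat_lit 294) Col.a (nat_lit 328) Dv.df)) (Tr.nd (nat_lit 702) (Tr.lf (Fc.ed (nat_lit 701) (nat_lit 328) Col.c (nat_lit 297) (Dv.wd (nat_lit 40) [Mv.b (nat_lit 626), Mv.b (nat_lit 622), Mv.f (nat_lit 700)]))) (Tr.lf (Fc.ed (nat_lit 702) (nat_lit 328) Col.b (nat_lit 310) (Dv.wd (nat_lit 46) [Mv.b (nat_lit 655), Mv.f (nat_lit 554), Mv.f (nat_lit 504), Mv.b (nat_lit 506), Mv.b (nat_lit 505), Mv.f (nat_lit 402), Mv.f (nat_lit 507), Mv.b (nat_lit 622), Mv.f (nat_lit 700)]))))) (Tr.nd (nat_lit 704) (Tr.lf (Fc.ed (nat_lit 703) (nat_lit 312) Col.d (nat_lit 328) (Dv.wd (nat_lit 63) [Mv.f (nat_lit 701), Mv.b (nat_lit 628), Mv.b (nat_lit 616), Mv.f (nat_lit 498), Mv.f (nat_lit 394), Mv.b (nat_lit 490), Mv.b (nat_lit 611), Mv.f (nat_lit 610), Mv.b (nat_lit 614), Mv.f (nat_lit 613), Mv.f (nat_lit 496), Mv.b (nat_lit 498), Mv.f (nat_lit 615), Mv.f (nat_lit 697), Mv.b (nat_lit 699)]))) (Tr.nd (nat_lit 705) (Tr.lf (Fc.al (nat_lit 704) (nat_lit 310) (nat_lit 311) (Dv.wd (nat_lit 18) [Mv.b (nat_lit 657), Mv.f (nat_lit 659), Mv.f (nat_lit 703), Mv.f (nat_lit 702)]))) (Tr.lf (Fc.al (nat_lit 705) (nat_lit 295) (nat_lit 296) (Dv.wd (nat_lit 15) [Mv.b (nat_lit 658), Mv.b (nat_lit 704), Mv.f (nat_lit 656)]))))))) (Tr.nd (nat_lit 712) (Tr.nd (nat_lit 709) (Tr.nd (nat_lit 707) (Tr.lf (Fc.ed (nat_lit 706) (nat_lit 295) Col.d (nat_lit 238) (Dv.wd (nat_lit 11) [Mv.f (nat_lit 625), Mv.b (nat_lit 705)]))) (Tr.nd (nat_lit 708) (Tr.lf (Fc.al (nat_lit 707) (nat_lit 322) (nat_lit 204) (Dv.wd (nat_lit 88) [Mv.f (nat_lit 553), Mv.f (nat_lit 554), Mv.b (nat_lit 624), Mv.f (nat_lit 706), Mv.b (nat_lit 502), Mv.f (nat_lit 400), Mv.f (nat_lit 318), Mv.f (nat_lit 373), Mv.f (nat_lit 470), Mv.f (nat_lit 594), Mv.f (nat_lit 683)]))) (Tr.lf (Fc.al (nat_lit 708) (nat_lit 260) (nat_lit 281) (Dv.wd (nat_lit 14) [Mv.f (nat_lit 683), Mv.f (nat_lit 707), Mv.b (nat_lit 550)]))))) (Tr.nd (nat_lit 710) (Tr.lf (Fc.al (nat_lit 709) (nat_lit 255) (nat_lit 321) (Dv.wd (nat_lit 16) [Mv.b (nat_lit 681), Mv.b (nat_lit 708), Mv.f (nat_lit 549)]))) (Tr.nd (nat_lit 711) (Tr.lf (Fc.al (nat_lit 710) (nat_lit 306) (nat_lit 283) (Dv.wd (nat_lit 11) [Mv.b (nat_lit 682), Mv.b (nat_lit 709), Mv.f (nat_lit 649)]))) (Tr.lf (Fc.ed (nat_lit 711) (nat_lit 283) Col.d (nat_lit 255) (Dv.wd (nat_lit 11) [Mv.f (nat_lit 649), Mv.f (nat_lit 710)])))))) (Tr.nd (nat_lit 715) (Tr.nd (nat_lit 713) (Tr.lf (Fc.ed (nat_lit 712) (nat_lit 305) Col.d (nat_lit 324) (Dv.wd (nat_lit 70) [Mv.b (nat_lit 687), Mv.f (nat_lit 711), Mv.b (nat_lit 646)]))) (Tr.nd (nat_lit 714) (Tr.lf (Fc.al (nat_lit 713) (nat_lit 316) (nat_lit 309) (Dv.wd (nat_lit 18) [Mv.b (nat_lit 653), Mv.b (nat_lit 648), Mv.f (nat_lit 712), Mv.f (nat_lit 690)]))) (Tr.lf (Fc.al (nat_lit 714) (nat_lit 261) (nat_lit 275) (Dv.wd (nat_lit 15) [Mv.b (nat_lit 668), Mv.f (nat_lit 713), Mv.f (nat_lit 654)]))))) (Tr.nd (nat_lit 716) (Tr.lf (Fc.al (nat_lit 715) (nat_lit 257) (nat_lit 317) (Dv.wd (nat_lit 16) [Mv.b (nat_lit 669), Mv.b (nat_lit 714), Mv.f (nat_lit 552)]))) (Tr.nd (nat_lit 717) (Tr.lf (Fc.al (nat_lit 716) (nat_lit 307) (nat_lit 314) (Dv.wd (nat_lit 15) [Mv.b (nat_lit 672), Mv.b (nat_lit 715), Mv.b (nat_lit 651)]))) (Tr.lf (Fc.al (nat_lit 717) (nat_lit 308) (nat_lit 277) (Dv.wd (nat_lit 14) [Mv.b (nat_lit 671), Mv.b (nat_lit 715), Mv.f (nat_lit 652)]))))))))) (Tr.nd (nat_lit 742) (Tr.nd (nat_lit 730) (Tr.nd (nat_lit 724) (Tr.nd (nat_lit 721) (Tr.nd (nat_lit 719) (Tr.lf (Fc.ed (nat_lit 718) (nat_lit 307) Col.c (nat_lit 272) (Dv.wd (nat_lit 14) [Mv.b (nat_lit 664), Mv.b (nat_lit 716)]))) (Tr.nd (nat_lit 720) (Tr.lf (Fc.ed (nat_lit 719) (nat_lit 307) Col.e (nat_lit 319) (Dv.wd (nat_lit 12) [Mv.f (nat_lit 677), Mv.b (nat_lit 716)]))) (Tr.lf (Fc.ed (nat_lit 720) (nat_lit 277) Col.c (nat_lit 257) (Dv.wd (nat_lit 14) [Mv.f (nat_lit 652), Mv.f (nat_lit 717)]))))) (Tr.nd (nat_lit 722) (Tr.lf (Fc.ed (nat_lit 721) (nat_lit 320) Col.d (nat_lit 319) (Dv.wd (nat_lit 89) [Mv.b (nat_lit 719), Mv.b (nat_lit 650), Mv.b (nat_lit 647), Mv.f (nat_lit 712), Mv.f (nat_lit 689)]))) (Tr.nd (nat_lit 723) (Tr.lf (Fc.al (nat_lit 722) (nat_lit 325) (nat_lit 298) (Dv.wd (nat_lit 90) [Mv.b (nat_lit 629), Mv.f (nat_lit 511), Mv.f (nat_lit 532), Mv.f (nat_lit 645), Mv.f (nat_lit 712), Mv.f (nat_lit 688), Mv.f (nat_lit 606), Mv.b (nat_lit 676), Mv.b (nat_lit 721), Mv.f (nat_lit 680), Mv.f (nat_lit 691)]))) (Tr.lf (Fc.al (nat_lit 723) (nat_lit 301) (nat_lit 326) (Dv.wd (nat_lit 15) [Mv.f (nat_lit 695), Mv.f (nat_lit 722), Mv.b (nat_lit 636)])))))) (Tr.nd (nat_lit 727) (Tr.nd (nat_lit 725) (Tr.lf (Fc.ed (nat_lit 724) (nat_lit 298) Col.b (nat_lit 285) (Dv.wd (nat_lit 16) [Mv.b (nat_lit 692), Mv.f (nat_lit 722)]))) (Tr.nd (nat_lit 726) (Tr.lf (Fc.al (nat_lit 725) (nat_lit 246) (nat_lit 315) (Dv.wd (nat_lit 12) [Mv.b (nat_lit 693), Mv.f (nat_lit 722), Mv.f (nat_lit 630)]))) (Tr.lf (Fc.al (nat_lit 726) (nat_lit 250) (nat_lit 318) (Dv.wd (nat_lit 12) [Mv.b (nat_lit 696), Mv.b (nat_lit 723), Mv.f (nat_lit 637)]))))) (Tr.nd (nat_lit 728) (Tr.lf (Fc.al (nat_lit 727) (nat_lit 299) (nat_lit 273) (Dv.wd (nat_lit 16) [Mv.b (nat_lit 666), Mv.b (nat_lit 725), Mv.f (nat_lit 631)]))) (Tr.nd (nat_lit 729) (Tr.lf (Fc.al (nat_lit 728) (nat_lit 303) (nat_lit 276) (Dv.wd (nat_lit 16) [Mv.f (nat_lit 673), Mv.b (nat_lit 726), Mv.f (nat_lit 639)]))) (Tr.lf (Fc.al (nat_lit 729) (nat_lit 302) (nat_lit 277) (Dv.wd (nat_lit 11) [Mv.b (nat_lit 674), Mv.b (nat_lit 726), Mv.f (nat_lit 638)]))))))) (Tr.nd (nat_lit 736) (Tr.nd (nat_lit 733) (Tr.nd (nat_lit 731) (Tr.lf (Fc.ed (nat_lit 730) (nat_lit 273) Col.b (nat_lit 246) (Dv.wd (nat_lit 16) [Mv.f (nat_lit 631), Mv.f (nat_lit 727)]))) (Tr.nd (nat_lit 732) (Tr.lf (Fc.al (nat_lit 731) (nat_lit 273) (nat_lit 247) (Dv.wd (nat_lit 14) [Mv.b (nat_lit 632), Mv.f (nat_lit 727), Mv.f (nat_lit 579)]))) (Tr.lf (Fc.al (nat_lit 732) (nat_lit 251) (nat_lit 276) (Dv.wd (nat_lit 79) [Mv.b (nat_lit 728), Mv.f (nat_lit 640), Mv.f (nat_lit 727), Mv.f (nat_lit 731), Mv.b (nat_lit 526)]))))) (Tr.nd (nat_lit 734) (Tr.lf (Fc.al (nat_lit 733) (nat_lit 196) (nat_lit 250) (Dv.wd (nat_lit 16) [Mv.f (nat_lit 639), Mv.f (nat_lit 728), Mv.b (nat_lit 732), Mv.b (nat_lit 525)]))) (Tr.nd (nat_lit 735) (Tr.lf (Fc.al (nat_lit 734) (nat_lit 189) (nat_lit 277) (Dv.wd (nat_lit 11) [Mv.b (nat_lit 729), Mv.b (nat_lit 638), Mv.b (nat_lit 733), Mv.f (nat_lit 423)]))) (Tr.lf (Fc.al (nat_lit 735) (nat_lit 300) (nat_lit 285) (Dv.wd (nat_lit 15) [Mv.f (nat_lit 601), Mv.f (nat_lit 731), Mv.f (nat_lit 633)])))))) (Tr.nd (nat_lit 739) (Tr.nd (nat_lit 737) (Tr.lf (Fc.al (nat_lit 736) (nat_lit 193) (nat_lit 246) (Dv.wd (nat_lit 16) [Mv.b (nat_lit 730), Mv.f (nat_lit 731), Mv.b (nat_lit 516)]))) (Tr.nd (nat_lit 738) (Tr.lf (Fc.al (nat_lit 737) (nat_lit 196) (nat_lit 193) (Dv.wd (nat_lit 15) [Mv.f (nat_lit 736), Mv.b (nat_lit 523), Mv.b (nat_lit 733), Mv.f (nat_lit 421)]))) (Tr.lf (Fc.al (nat_lit 738) (nat_lit 146) (nat_lit 195) (Dv.wd (nat_lit 14) [Mv.f (nat_lit 522), Mv.b (nat_lit 733), Mv.f (nat_lit 737), Mv.b (nat_lit 413)]))))) (Tr.nd (nat_lit 740) (Tr.lf (Fc.al (nat_lit 739) (nat_lit 189) (nat_lit 272) (Dv.wd (nat_lit 15) [Mv.f (nat_lit 591), Mv.b (nat_lit 734), Mv.f (nat_lit 406)]))) (Tr.nd (nat_lit 741) (Tr.lf (Fc.al (nat_lit 740) (nat_lit 143) (nat_lit 257) (Dv.wd (nat_lit 14) [Mv.b (nat_lit 720), Mv.b (nat_lit 734), Mv.b (nat_lit 405)]))) (Tr.lf (Fc.al (nat_lit 741) (nat_lit 298) (nat_lit 249) (Dv.wd (nat_lit 16) [Mv.b (nat_lit 634), Mv.f (nat_lit 735), Mv.b (nat_lit 724)])))))))) (Tr.nd (nat_lit 754) (Tr.nd (nat_lit 748) (Tr.nd (nat_lit 745) (Tr.nd (nat_lit 743) (Tr.lf (Fc.al (nat_lit 742) (nat_lit 245) (nat_lit 249) (Dv.wd (nat_lit 12) [Mv.b (nat_lit 741), Mv.f (nat_lit 630), Mv.b (nat_lit 736), Mv.b (nat_lit 514)]))) (Tr.nd (nat_lit 744) (Tr.lf (Fc.al (nat_lit 743) (nat_lit 109) (nat_lit 149) (Dv.wd (nat_lit 11) [Mv.b (nat_lit 417), Mv.b (nat_lit 738), Mv.b (nat_lit 327)]))) (Tr.lf (Fc.al (nat_lit 744) (nat_lit 191) (nat_lit 248) (Dv.wd (nat_lit 12) [Mv.f (nat_lit 518), Mv.b (nat_lit 738), Mv.f (nat_lit 409)]))))) (Tr.nd (nat_lit 746) (Tr.lf (Fc.al (nat_lit 745) (nat_lit 143) (nat_lit 307) (Dv.wd (nat_lit 14) [Mv.f (nat_lit 718), Mv.b (nat_lit 739), Mv.b (nat_lit 405)]))) (Tr.nd (nat_lit 747) (Tr.lf (Fc.al (nat_lit 746) (nat_lit 106) (nat_lit 201) (Dv.wd (nat_lit 11) [Mv.f (nat_lit 542), Mv.b (nat_lit 740), Mv.b (nat_lit 321)]))) (Tr.lf (Fc.al (nat_lit 747) (nat_lit 191) (nat_lit 244) (Dv.wd (nat_lit 14) [Mv.f (nat_lit 629), Mv.f (nat_lit 741), Mv.b (nat_lit 742), Mv.b (nat_lit 513)])))))) (Tr.nd (nat_lit 751) (Tr.nd (nat_lit 749) (Tr.lf (Fc.al (nat_lit 748) (nat_lit 77) (nat_lit 154) (Dv.wd (nat_lit 12) [Mv.f (nat_lit 345), Mv.b (nat_lit 743), Mv.f (nat_lit 255)]))) (Tr.nd (nat_lit 750) (Tr.lf (Fc.al (nat_lit 749) (nat_lit 152) (nat_lit 254) (Dv.wd (nat_lit 11) [Mv.f (nat_lit 533), Mv.b (nat_lit 744), Mv.f (nat_lit 410)]))) (Tr.lf (Fc.al (nat_lit 750) (nat_lit 106) (nat_lit 256) (Dv.wd (nat_lit 11) [Mv.f (nat_lit 650), Mv.b (nat_lit 745), Mv.b (nat_lit 321)]))))) (Tr.nd (nat_lit 752) (Tr.lf (Fc.al (nat_lit 751) (nat_lit 75) (nat_lit 153) (Dv.wd (nat_lit 14) [Mv.f (nat_lit 434), Mv.b (nat_lit 746), Mv.b (nat_lit 248)]))) (Tr.nd (nat_lit 753) (Tr.lf (Fc.al (nat_lit 752) (nat_lit 152) (nat_lit 199) (Dv.wd (nat_lit 11) [Mv.b (nat_lit 511), Mv.b (nat_lit 747), Mv.f (nat_lit 410)]))) (Tr.lf (Fc.al (nat_lit 753) (nat_lit 111) (nat_lit 200) (Dv.wd (nat_lit 11) [Mv.f (nat_lit 432), Mv.b (nat_lit 748), Mv.f (nat_lit 259)]))))))) (Tr.nd (nat_lit 760) (Tr.nd (nat_lit 757) (Tr.nd (nat_lit 755) (Tr.lf (Fc.al (nat_lit 754) (nat_lit 197) (nat_lit 304) (Dv.wd (nat_lit 79) [Mv.f (nat_lit 643), Mv.b (nat_lit 749), Mv.b (nat_lit 426)]))) (Tr.nd (nat_lit 756) (Tr.lf (Fc.al (nat_lit 755) (nat_lit 75) (nat_lit 111) (Dv.wd (nat_lit 14) [Mv.f (nat_lit 753), Mv.f (nat_lit 538), Mv.b (nat_lit 750), Mv.b (nat_lit 248)]))) (Tr.lf (Fc.al (nat_lit 756) (nat_lit 71) (nat_lit 152) (Dv.wd (nat_lit 12) [Mv.f (nat_lit 752), Mv.f (nat_lit 430), Mv.b (nat_lit 751), Mv.f (nat_lit 188)]))))) (Tr.nd (nat_lit 758) (Tr.lf (Fc.al (nat_lit 757) (nat_lit 75) (nat_lit 198) (Dv.wd (nat_lit 79) [Mv.f (nat_lit 428), Mv.b (nat_lit 751), Mv.f (nat_lit 189)]))) (Tr.nd (nat_lit 759) (Tr.lf (Fc.al (nat_lit 758) (nat_lit 71) (nat_lit 252) (Dv.wd (nat_lit 79) [Mv.f (nat_lit 529), Mv.b (nat_lit 752), Mv.b (nat_lit 756), Mv.f (nat_lit 177)]))) (Tr.lf (Fc.al (nat_lit 759) (nat_lit 75) (nat_lit 253) (Dv.wd (nat_lit 79) [Mv.f (nat_lit 531), Mv.b (nat_lit 753), Mv.b (nat_lit 755), Mv.f (nat_lit 189)])))))) (Tr.nd (nat_lit 763) (Tr.nd (nat_lit 761) (Tr.lf (Fc.al (nat_lit 760) (nat_lit 197) (nat_lit 71) (Dv.wd (nat_lit 15) [Mv.f (nat_lit 758), Mv.f (nat_lit 641), Mv.b (nat_lit 754), Mv.f (nat_lit 425)]))) (Tr.nd (nat_lit 762) (Tr.lf (Fc.al (nat_lit 761) (nat_lit 46) (nat_lit 71) (Dv.wd (nat_lit 11) [Mv.f (nat_lit 758), Mv.f (nat_lit 644), Mv.b (nat_lit 754), Mv.f (nat_lit 760), Mv.b (nat_lit 176)]))) (Tr.lf (Fc.al (nat_lit 762) (nat_lit 24) (nat_lit 75) (Dv.wd (nat_lit 12) [Mv.f (nat_lit 759), Mv.b (nat_lit 642), Mv.b (nat_lit 754), Mv.f (nat_lit 760), Mv.b (nat_lit 761), Mv.f (nat_lit 126)]))))) (Tr.nd (nat_lit 764) (Tr.lf (Fc.al (nat_lit 763) (nat_lit 7) (nat_lit 151) (Dv.wd (nat_lit 79) [Mv.b (nat_lit 339), Mv.b (nat_lit 755), Mv.b (nat_lit 762), Mv.b (nat_lit 70)]))) (Tr.nd (nat_lit 765) (Tr.lf (Fc.al (nat_lit 764) (nat_lit 24) (nat_lit 7) (Dv.wd (nat_lit 16) [Mv.f (nat_lit 763), Mv.f (nat_lit 427), Mv.b (nat_lit 757), Mv.b (nat_lit 762), Mv.f (nat_lit 72)]))) (Tr.lf (Fc.ed (nat_lit 765) (nat_lit 7) Col.g (nat_lit 7) (Dv.wd (nat_lit 79) [Mv.f (nat_lit 70), Mv.f (nat_lit 764)])))))))))))))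
noncomputable def mini0A : Tr (Alt Col) := (Tr.nd (nat_lit 45) (Tr.nd (nat_lit 22) (Tr.nd (nat_lit 11) (Tr.nd (nat_lit 5) (Tr.nd (nat_lit 2) (Tr.nd (nat_lit 1) (Tr.lf (Alt.base (nat_lit 0) [] [Col.a])) (Tr.lf (Alt.base (nat_lit 1) [] [Col.c]))) (Tr.nd (nat_lit 3) (Tr.lf (Alt.base (nat_lit 2) [] [Col.d])) (Tr.nd (nat_lit 4) (Tr.lf (Alt.base (nat_lit 3) [] [Col.e])) (Tr.lf (Alt.base (nat_lit 4) [] [Col.f]))))) (Tr.nd (nat_lit 8) (Tr.nd (nat_lit 6) (Tr.lf (Alt.base (nat_lit 5) [Col.b] [Col.a, Col.b, Col.a])) (Tr.nd (nat_lit 7) (Tr.lf (Alt.base (nat_lit 6) [Col.e, Col.d, Col.c, Col.b, Col.e, Col.d, Col.c, Col.b, Col.e, Col.d, Col.c, Col.b, Col.e, Col.d, Col.c, Col.b, Col.e, Col.d, Col.c, Col.b, Col.e, Col.d, Col.c, Col.b, Col.e, Col.d] [Col.c, Col.b])) (Tr.lf (Alt.word (nat_lit 2) (nat_lit 3) true [Col.a, Col.c, Col.a, Col.c])))) (Tr.nd (nat_lit 9) (Tr.lf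 (Alt.word (nat_lit 8) (nat_lit 5) true [Col.b, Col.c, Col.b, Col.c, Col.b, Col.c])) (Tr.nd (nat_lit 10) (Tr.lf (Alt.word (nat_lit 29) (nat_lit 9) true [Col.e, Col.a, Col.b, Col.c, Col.a, Col.b, Col.c, Col.a, Col.b, Col.c])) (Tr.lf (Alt.word (nat_lit 29) (nat_lit 0) true [Col.a, Col.b, Col.c, Col.a, Col.b, Col.c, Col.a, Col.b, Col.c, Col.e])))))) (Tr.nd (nat_lit 16) (Tr.nd (nat_lit 13) (Tr.nd (nat_lit 12) (Tr.lf (Alt.word (nat_lit 18) (nat_lit 0) true [Col.d, Col.d])) (Tr.lf (Alt.word (nat_lit 22) (nat_lit 0) true [Col.e, Col.e]))) (Tr.nd (nat_lit 14) (Tr.lf (Alt.word (nat_lit 9) (nat_lit 1) true [Col.b, Col.d, Col.b, Col.d])) (Tr.nd (nat_lit 15) (Tr.lf (Alt.word (nat_lit 13) (nat_lit 0) true [Col.c, Col.c])) (Tr.lf (Alt.word (nat_lit 0) (nat_lit 0) true [Col.a, Col.a]))))) (Tr.nd (nat_lit 19) (Tr.nd (nat_lit 17) (Tr.lf (Alt.word (nat_lit 7) (nat_lit 0)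 true [Col.b, Col.b])) (Tr.nd (nat_lit 18) (Tr.lf (Alt.word (nat_lit 19) (nat_lit 1) true [Col.d, Col.e, Col.d, Col.e, Col.d, Col.e])) (Tr.lf (Alt.word (nat_lit 9) (nat_lit 2) true [Col.d, Col.b, Col.d, Col.b])))) (Tr.nd (nat_lit 20) (Tr.lf (Alt.word (nat_lit 3) (nat_lit 3) true [Col.a, Col.d, Col.a, Col.d])) (Tr.nd (nat_lit 21) (Tr.lf (Alt.word (nat_lit 9) (nat_lit 3) true [Col.b, Col.d, Col.b, Col.d])) (Tr.lf (Alt.word (nat_lit 10) (nat_lit 0) true [Col.e, Col.b, Col.e, Col.b]))))))) (Tr.nd (nat_lit 33) (Tr.nd (nat_lit 27) (Tr.nd (nat_lit 24) (Tr.nd (nat_lit 23) (Tr.lf (Alt.word (nat_lit 8) (nat_lit 4) true [Col.c, Col.b, Col.c, Col.b, Col.c, Col.b])) (Tr.lf (Alt.word (nat_lit 15) (nat_lit 3) true [Col.c, Col.e, Col.c, Col.e]))) (Tr.nd (nat_lit 25) (Tr.lf (Alt.word (nat_lit 4) (nat_lit 3) true [Col.a, Col.e, Col.a, Col.e])) (Tr.nd (nat_lit 26) (Tr.lf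 (Alt.word (nat_lit 15) (nat_lit 2) true [Col.e, Col.c, Col.e, Col.c])) (Tr.lf (Alt.word (nat_lit 10) (nat_lit 1) true [Col.b, Col.e, Col.b, Col.e]))))) (Tr.nd (nat_lit 30) (Tr.nd (nat_lit 28) (Tr.lf (Alt.word (nat_lit 29) (nat_lit 6) true [Col.a, Col.b, Col.c, Col.e, Col.a, Col.b, Col.c, Col.a, Col.b, Col.c])) (Tr.nd (nat_lit 29) (Tr.lf (Alt.word (nat_lit 11) (nat_lit 2) true [Col.f, Col.b, Col.f, Col.b])) (Tr.lf (Alt.word (nat_lit 16) (nat_lit 2) true [Col.f, Col.c, Col.f, Col.c])))) (Tr.nd (nat_lit 31) (Tr.lf (Alt.word (nat_lit 6) (nat_lit 1) true [Col.a, Col.g, Col.a, Col.g])) (Tr.nd (nat_lit 32) (Tr.lf (Alt.word (nat_lit 12) (nat_lit 1) true [Col.b, Col.g, Col.b, Col.g])) (Tr.lf (Alt.word (nat_lit 3) (nat_lit 1) true [Col.a, Col.d, Col.a, Col.d])))))) (Tr.nd (nat_lit 39) (Tr.nd (nat_lit 36) (Tr.nd (nat_lit 34) (Tr.lf (Alt.word (nat_lit 2) (nat_lit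 1) true [Col.a, Col.c, Col.a, Col.c])) (Tr.nd (nat_lit 35) (Tr.lf (Alt.word (nat_lit 8) (nat_lit 2) true [Col.c, Col.b, Col.c, Col.b, Col.c, Col.b])) (Tr.lf (Alt.word (nat_lit 28) (nat_lit 2) true [Col.f, Col.g, Col.e, Col.f, Col.g])))) (Tr.nd (nat_lit 37) (Tr.lf (Alt.word (nat_lit 17) (nat_lit 1) true [Col.c, Col.g, Col.c, Col.g])) (Tr.nd (nat_lit 38) (Tr.lf (Alt.word (nat_lit 24) (nat_lit 1) true [Col.e, Col.g, Col.e, Col.g])) (Tr.lf (Alt.word (nat_lit 30) (nat_lit 2) true [Col.c, Col.d, Col.c, Col.d, Col.c, Col.d, Col.c, Col.d, Col.a, Col.c, Col.d]))))) (Tr.nd (nat_lit 42) (Tr.nd (nat_lit 40) (Tr.lf (Alt.word (nat_lit 16) (nat_lit 1) true [Col.c, Col.f, Col.c, Col.f])) (Tr.nd (nat_lit 41) (Tr.lf (Alt.word (nat_lit 2) (nat_lit 2) true [Col.c, Col.a, Col.c, Col.a])) (Tr.lf (Alt.word (nat_lit 29) (nat_lit 3) false [Col.a, Col.c, Col.b, Col.a, Col.c, Col.b,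 Col.a, Col.e, Col.c, Col.b])))) (Tr.nd (nat_lit 43) (Tr.lf (Alt.word (nat_lit 19) (nat_lit 2) true [Col.e, Col.d, Col.e, Col.d, Col.e, Col.d])) (Tr.nd (nat_lit 44) (Tr.lf (Alt.word (nat_lit 21) (nat_lit 1) true [Col.d, Col.g, Col.d, Col.g, Col.d, Col.g])) (Tr.lf (Alt.word (nat_lit 4) (nat_lit 1) true [Col.a, Col.e, Col.a, Col.e])))))))) (Tr.nd (nat_lit 68) (Tr.nd (nat_lit 56) (Tr.nd (nat_lit 50) (Tr.nd (nat_lit 47) (Tr.nd (nat_lit 46) (Tr.lf (Alt.word (nat_lit 15) (nat_lit 1) true [Col.c, Col.e, Col.c, Col.e])) (Tr.lf (Alt.word (nat_lit 29) (nat_lit 4) true [Col.b, Col.c, Col.a, Col.b, Col.c, Col.e, Col.a, Col.b, Col.c, Col.a]))) (Tr.nd (nat_lit 48) (Tr.lf (Alt.word (nat_lit 21) (nat_lit 2) true [Col.g, Col.d, Col.g, Col.d, Col.g, Col.d])) (Tr.nd (nat_lit 49) (Tr.lf (Alt.word (nat_lit 11) (nat_lit 1) true [Col.b, Col.f, Col.b, Col.f])) (Tr.lf (Alt.word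 (nat_lit 23) (nat_lit 2) true [Col.f, Col.e, Col.f, Col.e]))))) (Tr.nd (nat_lit 53) (Tr.nd (nat_lit 51) (Tr.lf (Alt.word (nat_lit 24) (nat_lit 2) true [Col.g, Col.e, Col.g, Col.e])) (Tr.nd (nat_lit 52) (Tr.lf (Alt.word (nat_lit 28) (nat_lit 1) true [Col.g, Col.f, Col.g, Col.e, Col.f])) (Tr.lf (Alt.word (nat_lit 20) (nat_lit 1) true [Col.d, Col.f, Col.d, Col.f, Col.d, Col.f])))) (Tr.nd (nat_lit 54) (Tr.lf (Alt.word (nat_lit 5) (nat_lit 1) true [Col.a, Col.f, Col.a, Col.f])) (Tr.nd (nat_lit 55) (Tr.lf (Alt.word (nat_lit 31) (nat_lit 3) true [Col.c, Col.g, Col.f, Col.d, Col.c, Col.g, Col.f, Col.d, Col.c, Col.g, Col.f, Col.d, Col.c, Col.g, Col.f, Col.d])) (Tr.lf (Alt.word (nat_lit 15) (nat_lit 0) true [Col.e, Col.c, Col.e, Col.c])))))) (Tr.nd (nat_lit 62) (Tr.nd (nat_lit 59) (Tr.nd (nat_lit 57) (Tr.lf (Alt.word (nat_lit 16) (nat_lit 0) true [Col.f, Col.c,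 Col.f, Col.c])) (Tr.nd (nat_lit 58) (Tr.lf (Alt.word (nat_lit 20) (nat_lit 5) true [Col.d, Col.f, Col.d, Col.f, Col.d, Col.f])) (Tr.lf (Alt.word (nat_lit 28) (nat_lit 3) true [Col.g, Col.e, Col.f, Col.g, Col.f])))) (Tr.nd (nat_lit 60) (Tr.lf (Alt.word (nat_lit 17) (nat_lit 2) true [Col.g, Col.c, Col.g, Col.c])) (Tr.nd (nat_lit 61) (Tr.lf (Alt.word (nat_lit 23) (nat_lit 1) true [Col.e, Col.f, Col.e, Col.f])) (Tr.lf (Alt.word (nat_lit 10) (nat_lit 2) true [Col.e, Col.b, Col.e, Col.b]))))) (Tr.nd (nat_lit 65) (Tr.nd (nat_lit 63) (Tr.lf (Alt.word (nat_lit 29) (nat_lit 9) false [Col.a, Col.e, Col.c, Col.b, Col.a, Col.c, Col.b, Col.a, Col.c, Col.b])) (Tr.nd (nat_lit 64) (Tr.lf (Alt.word (nat_lit 31) (nat_lit 2) true [Col.d, Col.c, Col.g, Col.f, Col.d, Col.c, Col.g, Col.f, Col.d, Col.c, Col.g, Col.f, Col.d, Col.c, Col.g, Col.f])) (Tr.lf (Alt.word (nat_lit 4)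 (nat_lit 2) true [Col.e, Col.a, Col.e, Col.a])))) (Tr.nd (nat_lit 66) (Tr.lf (Alt.word (nat_lit 29) (nat_lit 7) true [Col.b, Col.c, Col.e, Col.a, Col.b, Col.c, Col.a, Col.b, Col.c, Col.a])) (Tr.nd (nat_lit 67) (Tr.lf (Alt.word (nat_lit 31) (nat_lit 4) false [Col.c, Col.d, Col.f, Col.g, Col.c, Col.d, Col.f, Col.g, Col.c, Col.d, Col.f, Col.g, Col.c, Col.d, Col.f, Col.g])) (Tr.lf (Alt.word (nat_lit 30) (nat_lit 1) true [Col.d, Col.c, Col.d, Col.c, Col.d, Col.c, Col.d, Col.c, Col.d, Col.a, Col.c]))))))) (Tr.nd (nat_lit 79) (Tr.nd (nat_lit 73) (Tr.nd (nat_lit 70) (Tr.nd (nat_lit 69) (Tr.lf (Alt.word (nat_lit 20) (nat_lit 2) true [Col.f, Col.d, Col.f, Col.d, Col.f, Col.d])) (Tr.lf (Alt.word (nat_lit 12) (nat_lit 2) true [Col.g, Col.b, Col.g, Col.b]))) (Tr.nd (nat_lit 71) (Tr.lf (Alt.word (nat_lit 3) (nat_lit 2) true [Col.d, Col.a, Col.d, Col.a])) (Tr.nd (nat_lit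 72) (Tr.lf (Alt.word (nat_lit 8) (nat_lit 1) true [Col.b, Col.c, Col.b, Col.c, Col.b, Col.c])) (Tr.lf (Alt.word (nat_lit 17) (nat_lit 3) true [Col.c, Col.g, Col.c, Col.g]))))) (Tr.nd (nat_lit 76) (Tr.nd (nat_lit 74) (Tr.lf (Alt.word (nat_lit 1) (nat_lit 2) true [Col.b, Col.a, Col.b, Col.a, Col.b, Col.a, Col.b, Col.a])) (Tr.nd (nat_lit 75) (Tr.lf (Alt.word (nat_lit 29) (nat_lit 1) false [Col.c, Col.b, Col.a, Col.c, Col.b, Col.a, Col.c, Col.b, Col.a, Col.e])) (Tr.lf (Alt.word (nat_lit 31) (nat_lit 1) false [Col.d, Col.f, Col.g, Col.c, Col.d, Col.f, Col.g, Col.c, Col.d, Col.f, Col.g, Col.c, Col.d, Col.f, Col.g, Col.c])))) (Tr.nd (nat_lit 77) (Tr.lf (Alt.word (nat_lit 6) (nat_lit 2) true [Col.g, Col.a, Col.g, Col.a])) (Tr.nd (nat_lit 78) (Tr.lf (Alt.word (nat_lit 10) (nat_lit 3) true [Col.b, Col.e, Col.b, Col.e])) (Tr.lf (Alt.word (nat_lit 31) (nat_lit 12)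 false [Col.c, Col.d, Col.f, Col.g, Col.c, Col.d, Col.f, Col.g, Col.c, Col.d, Col.f, Col.g, Col.c, Col.d, Col.f, Col.g])))))) (Tr.nd (nat_lit 85) (Tr.nd (nat_lit 82) (Tr.nd (nat_lit 80) (Tr.lf (Alt.word (nat_lit 27) (nat_lit 0) true [Col.g, Col.g])) (Tr.nd (nat_lit 81) (Tr.lf (Alt.word (nat_lit 25) (nat_lit 0) true [Col.f, Col.f])) (Tr.lf (Alt.word (nat_lit 28) (nat_lit 1) false [Col.g, Col.f, Col.g, Col.f, Col.e])))) (Tr.nd (nat_lit 83) (Tr.lf (Alt.word (nat_lit 29) (nat_lit 2) false [Col.b, Col.a, Col.c, Col.b, Col.a, Col.c, Col.b, Col.a, Col.e, Col.c])) (Tr.nd (nat_lit 84) (Tr.lf (Alt.word (nat_lit 1) (nat_lit 1) true [Col.a, Col.b, Col.a, Col.b, Col.a, Col.b, Col.a, Col.b])) (Tr.lf (Alt.word (nat_lit 11) (nat_lit 0) true [Col.f, Col.b, Col.f, Col.b]))))) (Tr.nd (nat_lit 88) (Tr.nd (nat_lit 86) (Tr.lf (Alt.word (nat_lit 12) (nat_lit 0) true [Col.g, Col.b,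 Col.g, Col.b])) (Tr.nd (nat_lit 87) (Tr.lf (Alt.word (nat_lit 21) (nat_lit 5) true [Col.d, Col.g, Col.d, Col.g, Col.d, Col.g])) (Tr.lf (Alt.word (nat_lit 29) (nat_lit 1) true [Col.b, Col.c, Col.a, Col.b, Col.c, Col.a, Col.b, Col.c, Col.e, Col.a])))) (Tr.nd (nat_lit 89) (Tr.lf (Alt.word (nat_lit 30) (nat_lit 9) true [Col.d, Col.a, Col.c, Col.d, Col.c, Col.d, Col.c, Col.d, Col.c, Col.d, Col.c])) (Tr.nd (nat_lit 90) (Tr.lf (Alt.word (nat_lit 19) (nat_lit 3) true [Col.d, Col.e, Col.d, Col.e, Col.d, Col.e])) (Tr.lf (Alt.word (nat_lit 30) (nat_lit 8) true [Col.c, Col.d, Col.a, Col.c, Col.d, Col.c, Col.d, Col.c, Col.d, Col.c, Col.d])))))))))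
noncomputable def mini0P : Tr ℕ := (Tr.nd (nat_lit 164) (Tr.nd (nat_lit 82) (Tr.nd (nat_lit 41) (Tr.nd (nat_lit 20) (Tr.nd (nat_lit 10) (Tr.nd (nat_lit 5) (Tr.nd (nat_lit 2) (Tr.nd (nat_lit 1) (Tr.lf (nat_lit 0)) (Tr.lf (nat_lit 0))) (Tr.nd (nat_lit 3) (Tr.lf (nat_lit 1)) (Tr.nd (nat_lit 4) (Tr.lf (nat_lit 2)) (Tr.lf (nat_lit 3))))) (Tr.nd (nat_lit 7) (Tr.nd (nat_lit 6) (Tr.lf (nat_lit 4)) (Tr.lf (nat_lit 5))) (Tr.nd (nat_lit 8) (Tr.lf (nat_lit 6)) (Tr.nd (nat_lit 9) (Tr.lf (nat_lit 7)) (Tr.lf (nat_lit 8)))))) (Tr.nd (nat_lit 15) (Tr.nd (nat_lit 12) (Tr.nd (nat_lit 11) (Tr.lf (nat_lit 9)) (Tr.lf (nat_lit 10))) (Tr.nd (nat_lit 13) (Tr.lf (nat_lit 11)) (Tr.nd (nat_lit 14) (Tr.lf (nat_lit 12)) (Tr.lf (nat_lit 13))))) (Tr.nd (nat_lit 17) (Tr.nd (nat_lit 16) (Tr.lf (nat_lit 14)) (Tr.lf (nat_lit 15))) (Tr.nd (nat_lit 18) (Tr.lf (nat_lit 16)) (Tr.nd (nat_lit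 19) (Tr.lf (nat_lit 17)) (Tr.lf (nat_lit 18))))))) (Tr.nd (nat_lit 30) (Tr.nd (nat_lit 25) (Tr.nd (nat_lit 22) (Tr.nd (nat_lit 21) (Tr.lf (nat_lit 19)) (Tr.lf (nat_lit 20))) (Tr.nd (nat_lit 23) (Tr.lf (nat_lit 21)) (Tr.nd (nat_lit 24) (Tr.lf (nat_lit 22)) (Tr.lf (nat_lit 7))))) (Tr.nd (nat_lit 27) (Tr.nd (nat_lit 26) (Tr.lf (nat_lit 24)) (Tr.lf (nat_lit 25))) (Tr.nd (nat_lit 28) (Tr.lf (nat_lit 26)) (Tr.nd (nat_lit 29) (Tr.lf (nat_lit 1)) (Tr.lf (nat_lit 4)))))) (Tr.nd (nat_lit 35) (Tr.nd (nat_lit 32) (Tr.nd (nat_lit 31) (Tr.lf (nat_lit 7)) (Tr.lf (nat_lit 8))) (Tr.nd (nat_lit 33) (Tr.lf (nat_lit 8)) (Tr.nd (nat_lit 34) (Tr.lf (nat_lit 8)) (Tr.lf (nat_lit 9))))) (Tr.nd (nat_lit 38) (Tr.nd (nat_lit 36) (Tr.lf (nat_lit 9)) (Tr.nd (nat_lit 37) (Tr.lf (nat_lit 10)) (Tr.lf (nat_lit 11)))) (Tr.nd (nat_lit 39) (Tr.lf (nat_lit 11)) (Tr.nd (nat_lit 40) (Tr.lf (nat_lit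 12)) (Tr.lf (nat_lit 12)))))))) (Tr.nd (nat_lit 61) (Tr.nd (nat_lit 51) (Tr.nd (nat_lit 46) (Tr.nd (nat_lit 43) (Tr.nd (nat_lit 42) (Tr.lf (nat_lit 16)) (Tr.lf (nat_lit 17))) (Tr.nd (nat_lit 44) (Tr.lf (nat_lit 17)) (Tr.nd (nat_lit 45) (Tr.lf (nat_lit 18)) (Tr.lf (nat_lit 19))))) (Tr.nd (nat_lit 48) (Tr.nd (nat_lit 47) (Tr.lf (nat_lit 20)) (Tr.lf (nat_lit 25))) (Tr.nd (nat_lit 49) (Tr.lf (nat_lit 25)) (Tr.nd (nat_lit 50) (Tr.lf (nat_lit 25)) (Tr.lf (nat_lit 26)))))) (Tr.nd (nat_lit 56) (Tr.nd (nat_lit 53) (Tr.nd (nat_lit 52) (Tr.lf (nat_lit 26)) (Tr.lf (nat_lit 26))) (Tr.nd (nat_lit 54) (Tr.lf (nat_lit 26)) (Tr.nd (nat_lit 55) (Tr.lf (nat_lit 27)) (Tr.lf (nat_lit 27))))) (Tr.nd (nat_lit 58) (Tr.nd (nat_lit 57) (Tr.lf (nat_lit 28)) (Tr.lf (nat_lit 30))) (Tr.nd (nat_lit 59) (Tr.lf (nat_lit 31)) (Tr.nd (nat_lit 60) (Tr.lf (nat_lit 32)) (Tr.lf (nat_lit 33)))))))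 (Tr.nd (nat_lit 71) (Tr.nd (nat_lit 66) (Tr.nd (nat_lit 63) (Tr.nd (nat_lit 62) (Tr.lf (nat_lit 34)) (Tr.lf (nat_lit 36))) (Tr.nd (nat_lit 64) (Tr.lf (nat_lit 37)) (Tr.nd (nat_lit 65) (Tr.lf (nat_lit 38)) (Tr.lf (nat_lit 40))))) (Tr.nd (nat_lit 68) (Tr.nd (nat_lit 67) (Tr.lf (nat_lit 42)) (Tr.lf (nat_lit 43))) (Tr.nd (nat_lit 69) (Tr.lf (nat_lit 43)) (Tr.nd (nat_lit 70) (Tr.lf (nat_lit 44)) (Tr.lf (nat_lit 45)))))) (Tr.nd (nat_lit 76) (Tr.nd (nat_lit 73) (Tr.nd (nat_lit 72) (Tr.lf (nat_lit 46)) (Tr.lf (nat_lit 47))) (Tr.nd (nat_lit 74) (Tr.lf (nat_lit 48)) (Tr.nd (nat_lit 75) (Tr.lf (nat_lit 48)) (Tr.lf (nat_lit 49))))) (Tr.nd (nat_lit 79) (Tr.nd (nat_lit 77) (Tr.lf (nat_lit 50)) (Tr.nd (nat_lit 78) (Tr.lf (nat_lit 50)) (Tr.lf (nat_lit 50)))) (Tr.nd (nat_lit 80) (Tr.lf (nat_lit 51)) (Tr.nd (nat_lit 81) (Tr.lf (nat_lit 52)) (Tr.lf (nat_lit 54))))))))) (Tr.nd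 (nat_lit 123) (Tr.nd (nat_lit 102) (Tr.nd (nat_lit 92) (Tr.nd (nat_lit 87) (Tr.nd (nat_lit 84) (Tr.nd (nat_lit 83) (Tr.lf (nat_lit 55)) (Tr.lf (nat_lit 56))) (Tr.nd (nat_lit 85) (Tr.lf (nat_lit 56)) (Tr.nd (nat_lit 86) (Tr.lf (nat_lit 58)) (Tr.lf (nat_lit 58))))) (Tr.nd (nat_lit 89) (Tr.nd (nat_lit 88) (Tr.lf (nat_lit 58)) (Tr.lf (nat_lit 58))) (Tr.nd (nat_lit 90) (Tr.lf (nat_lit 60)) (Tr.nd (nat_lit 91) (Tr.lf (nat_lit 61)) (Tr.lf (nat_lit 61)))))) (Tr.nd (nat_lit 97) (Tr.nd (nat_lit 94) (Tr.nd (nat_lit 93) (Tr.lf (nat_lit 61)) (Tr.lf (nat_lit 62))) (Tr.nd (nat_lit 95) (Tr.lf (nat_lit 62)) (Tr.nd (nat_lit 96) (Tr.lf (nat_lit 62)) (Tr.lf (nat_lit 63))))) (Tr.nd (nat_lit 99) (Tr.nd (nat_lit 98) (Tr.lf (nat_lit 64)) (Tr.lf (nat_lit 66))) (Tr.nd (nat_lit 100) (Tr.lf (nat_lit 67)) (Tr.nd (nat_lit 101) (Tr.lf (nat_lit 68)) (Tr.lf (nat_lit 68))))))) (Tr.nd (nat_lit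 112) (Tr.nd (nat_lit 107) (Tr.nd (nat_lit 104) (Tr.nd (nat_lit 103) (Tr.lf (nat_lit 69)) (Tr.lf (nat_lit 70))) (Tr.nd (nat_lit 105) (Tr.lf (nat_lit 70)) (Tr.nd (nat_lit 106) (Tr.lf (nat_lit 70)) (Tr.lf (nat_lit 75))))) (Tr.nd (nat_lit 109) (Tr.nd (nat_lit 108) (Tr.lf (nat_lit 76)) (Tr.lf (nat_lit 76))) (Tr.nd (nat_lit 110) (Tr.lf (nat_lit 76)) (Tr.nd (nat_lit 111) (Tr.lf (nat_lit 77)) (Tr.lf (nat_lit 77)))))) (Tr.nd (nat_lit 117) (Tr.nd (nat_lit 114) (Tr.nd (nat_lit 113) (Tr.lf (nat_lit 77)) (Tr.lf (nat_lit 78))) (Tr.nd (nat_lit 115) (Tr.lf (nat_lit 81)) (Tr.nd (nat_lit 116) (Tr.lf (nat_lit 82)) (Tr.lf (nat_lit 83))))) (Tr.nd (nat_lit 120) (Tr.nd (nat_lit 118) (Tr.lf (nat_lit 85)) (Tr.nd (nat_lit 119) (Tr.lf (nat_lit 86)) (Tr.lf (nat_lit 86)))) (Tr.nd (nat_lit 121) (Tr.lf (nat_lit 86)) (Tr.nd (nat_lit 122) (Tr.lf (nat_lit 88)) (Tr.lf (nat_lit 88))))))))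 (Tr.nd (nat_lit 143) (Tr.nd (nat_lit 133) (Tr.nd (nat_lit 128) (Tr.nd (nat_lit 125) (Tr.nd (nat_lit 124) (Tr.lf (nat_lit 89)) (Tr.lf (nat_lit 90))) (Tr.nd (nat_lit 126) (Tr.lf (nat_lit 91)) (Tr.nd (nat_lit 127) (Tr.lf (nat_lit 91)) (Tr.lf (nat_lit 92))))) (Tr.nd (nat_lit 130) (Tr.nd (nat_lit 129) (Tr.lf (nat_lit 93)) (Tr.lf (nat_lit 93))) (Tr.nd (nat_lit 131) (Tr.lf (nat_lit 93)) (Tr.nd (nat_lit 132) (Tr.lf (nat_lit 95)) (Tr.lf (nat_lit 96)))))) (Tr.nd (nat_lit 138) (Tr.nd (nat_lit 135) (Tr.nd (nat_lit 134) (Tr.lf (nat_lit 96)) (Tr.lf (nat_lit 96))) (Tr.nd (nat_lit 136) (Tr.lf (nat_lit 98)) (Tr.nd (nat_lit 137) (Tr.lf (nat_lit 99)) (Tr.lf (nat_lit 99))))) (Tr.nd (nat_lit 140) (Tr.nd (nat_lit 139) (Tr.lf (nat_lit 101)) (Tr.lf (nat_lit 102))) (Tr.nd (nat_lit 141) (Tr.lf (nat_lit 104)) (Tr.nd (nat_lit 142) (Tr.lf (nat_lit 104)) (Tr.lf (nat_lit 104)))))))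 (Tr.nd (nat_lit 153) (Tr.nd (nat_lit 148) (Tr.nd (nat_lit 145) (Tr.nd (nat_lit 144) (Tr.lf (nat_lit 106)) (Tr.lf (nat_lit 107))) (Tr.nd (nat_lit 146) (Tr.lf (nat_lit 108)) (Tr.nd (nat_lit 147) (Tr.lf (nat_lit 109)) (Tr.lf (nat_lit 109))))) (Tr.nd (nat_lit 150) (Tr.nd (nat_lit 149) (Tr.lf (nat_lit 110)) (Tr.lf (nat_lit 110))) (Tr.nd (nat_lit 151) (Tr.lf (nat_lit 110)) (Tr.nd (nat_lit 152) (Tr.lf (nat_lit 111)) (Tr.lf (nat_lit 111)))))) (Tr.nd (nat_lit 158) (Tr.nd (nat_lit 155) (Tr.nd (nat_lit 154) (Tr.lf (nat_lit 111)) (Tr.lf (nat_lit 112))) (Tr.nd (nat_lit 156) (Tr.lf (nat_lit 116)) (Tr.nd (nat_lit 157) (Tr.lf (nat_lit 118)) (Tr.lf (nat_lit 118))))) (Tr.nd (nat_lit 161) (Tr.nd (nat_lit 159) (Tr.lf (nat_lit 119)) (Tr.nd (nat_lit 160) (Tr.lf (nat_lit 119)) (Tr.lf (nat_lit 120)))) (Tr.nd (nat_lit 162) (Tr.lf (nat_lit 121)) (Tr.nd (nat_lit 163) (Tr.lf (nat_lit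 122)) (Tr.lf (nat_lit 123)))))))))) (Tr.nd (nat_lit 246) (Tr.nd (nat_lit 205) (Tr.nd (nat_lit 184) (Tr.nd (nat_lit 174) (Tr.nd (nat_lit 169) (Tr.nd (nat_lit 166) (Tr.nd (nat_lit 165) (Tr.lf (nat_lit 124)) (Tr.lf (nat_lit 124))) (Tr.nd (nat_lit 167) (Tr.lf (nat_lit 125)) (Tr.nd (nat_lit 168) (Tr.lf (nat_lit 125)) (Tr.lf (nat_lit 125))))) (Tr.nd (nat_lit 171) (Tr.nd (nat_lit 170) (Tr.lf (nat_lit 127)) (Tr.lf (nat_lit 128))) (Tr.nd (nat_lit 172) (Tr.lf (nat_lit 129)) (Tr.nd (nat_lit 173) (Tr.lf (nat_lit 130)) (Tr.lf (nat_lit 130)))))) (Tr.nd (nat_lit 179) (Tr.nd (nat_lit 176) (Tr.nd (nat_lit 175) (Tr.lf (nat_lit 131)) (Tr.lf (nat_lit 132))) (Tr.nd (nat_lit 177) (Tr.lf (nat_lit 133)) (Tr.nd (nat_lit 178) (Tr.lf (nat_lit 133)) (Tr.lf (nat_lit 134))))) (Tr.nd (nat_lit 181) (Tr.nd (nat_lit 180) (Tr.lf (nat_lit 136)) (Tr.lf (nat_lit 136))) (Tr.nd (nat_lit 182)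 (Tr.lf (nat_lit 137)) (Tr.nd (nat_lit 183) (Tr.lf (nat_lit 137)) (Tr.lf (nat_lit 138))))))) (Tr.nd (nat_lit 194) (Tr.nd (nat_lit 189) (Tr.nd (nat_lit 186) (Tr.nd (nat_lit 185) (Tr.lf (nat_lit 139)) (Tr.lf (nat_lit 140))) (Tr.nd (nat_lit 187) (Tr.lf (nat_lit 140)) (Tr.nd (nat_lit 188) (Tr.lf (nat_lit 140)) (Tr.lf (nat_lit 142))))) (Tr.nd (nat_lit 191) (Tr.nd (nat_lit 190) (Tr.lf (nat_lit 143)) (Tr.lf (nat_lit 144))) (Tr.nd (nat_lit 192) (Tr.lf (nat_lit 146)) (Tr.nd (nat_lit 193) (Tr.lf (nat_lit 146)) (Tr.lf (nat_lit 146)))))) (Tr.nd (nat_lit 199) (Tr.nd (nat_lit 196) (Tr.nd (nat_lit 195) (Tr.lf (nat_lit 148)) (Tr.lf (nat_lit 148))) (Tr.nd (nat_lit 197) (Tr.lf (nat_lit 148)) (Tr.nd (nat_lit 198) (Tr.lf (nat_lit 151)) (Tr.lf (nat_lit 151))))) (Tr.nd (nat_lit 202) (Tr.nd (nat_lit 200) (Tr.lf (nat_lit 152)) (Tr.nd (nat_lit 201) (Tr.lf (nat_lit 153)) (Tr.lf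 (nat_lit 153)))) (Tr.nd (nat_lit 203) (Tr.lf (nat_lit 156)) (Tr.nd (nat_lit 204) (Tr.lf (nat_lit 156)) (Tr.lf (nat_lit 156)))))))) (Tr.nd (nat_lit 225) (Tr.nd (nat_lit 215) (Tr.nd (nat_lit 210) (Tr.nd (nat_lit 207) (Tr.nd (nat_lit 206) (Tr.lf (nat_lit 157)) (Tr.lf (nat_lit 158))) (Tr.nd (nat_lit 208) (Tr.lf (nat_lit 158)) (Tr.nd (nat_lit 209) (Tr.lf (nat_lit 158)) (Tr.lf (nat_lit 161))))) (Tr.nd (nat_lit 212) (Tr.nd (nat_lit 211) (Tr.lf (nat_lit 162)) (Tr.lf (nat_lit 162))) (Tr.nd (nat_lit 213) (Tr.lf (nat_lit 163)) (Tr.nd (nat_lit 214) (Tr.lf (nat_lit 164)) (Tr.lf (nat_lit 165)))))) (Tr.nd (nat_lit 220) (Tr.nd (nat_lit 217) (Tr.nd (nat_lit 216) (Tr.lf (nat_lit 165)) (Tr.lf (nat_lit 166))) (Tr.nd (nat_lit 218) (Tr.lf (nat_lit 166)) (Tr.nd (nat_lit 219) (Tr.lf (nat_lit 167)) (Tr.lf (nat_lit 168))))) (Tr.nd (nat_lit 222) (Tr.nd (nat_lit 221) (Tr.lf (nat_lit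 168)) (Tr.lf (nat_lit 169))) (Tr.nd (nat_lit 223) (Tr.lf (nat_lit 170)) (Tr.nd (nat_lit 224) (Tr.lf (nat_lit 170)) (Tr.lf (nat_lit 171))))))) (Tr.nd (nat_lit 235) (Tr.nd (nat_lit 230) (Tr.nd (nat_lit 227) (Tr.nd (nat_lit 226) (Tr.lf (nat_lit 172)) (Tr.lf (nat_lit 172))) (Tr.nd (nat_lit 228) (Tr.lf (nat_lit 174)) (Tr.nd (nat_lit 229) (Tr.lf (nat_lit 175)) (Tr.lf (nat_lit 176))))) (Tr.nd (nat_lit 232) (Tr.nd (nat_lit 231) (Tr.lf (nat_lit 177)) (Tr.lf (nat_lit 179))) (Tr.nd (nat_lit 233) (Tr.lf (nat_lit 179)) (Tr.nd (nat_lit 234) (Tr.lf (nat_lit 180)) (Tr.lf (nat_lit 181)))))) (Tr.nd (nat_lit 240) (Tr.nd (nat_lit 237) (Tr.nd (nat_lit 236) (Tr.lf (nat_lit 181)) (Tr.lf (nat_lit 181))) (Tr.nd (nat_lit 238) (Tr.lf (nat_lit 181)) (Tr.nd (nat_lit 239) (Tr.lf (nat_lit 185)) (Tr.lf (nat_lit 185))))) (Tr.nd (nat_lit 243) (Tr.nd (nat_lit 241) (Tr.lf (nat_lit 186))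 (Tr.nd (nat_lit 242) (Tr.lf (nat_lit 186)) (Tr.lf (nat_lit 188)))) (Tr.nd (nat_lit 244) (Tr.lf (nat_lit 190)) (Tr.nd (nat_lit 245) (Tr.lf (nat_lit 191)) (Tr.lf (nat_lit 191))))))))) (Tr.nd (nat_lit 287) (Tr.nd (nat_lit 266) (Tr.nd (nat_lit 256) (Tr.nd (nat_lit 251) (Tr.nd (nat_lit 248) (Tr.nd (nat_lit 247) (Tr.lf (nat_lit 192)) (Tr.lf (nat_lit 193))) (Tr.nd (nat_lit 249) (Tr.lf (nat_lit 194)) (Tr.nd (nat_lit 250) (Tr.lf (nat_lit 194)) (Tr.lf (nat_lit 195))))) (Tr.nd (nat_lit 253) (Tr.nd (nat_lit 252) (Tr.lf (nat_lit 196)) (Tr.lf (nat_lit 197))) (Tr.nd (nat_lit 254) (Tr.lf (nat_lit 198)) (Tr.nd (nat_lit 255) (Tr.lf (nat_lit 199)) (Tr.lf (nat_lit 199)))))) (Tr.nd (nat_lit 261) (Tr.nd (nat_lit 258) (Tr.nd (nat_lit 257) (Tr.lf (nat_lit 200)) (Tr.lf (nat_lit 201))) (Tr.nd (nat_lit 259) (Tr.lf (nat_lit 202)) (Tr.nd (nat_lit 260) (Tr.lf (nat_lit 202)) (Tr.lf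 (nat_lit 203))))) (Tr.nd (nat_lit 263) (Tr.nd (nat_lit 262) (Tr.lf (nat_lit 203)) (Tr.lf (nat_lit 204))) (Tr.nd (nat_lit 264) (Tr.lf (nat_lit 205)) (Tr.nd (nat_lit 265) (Tr.lf (nat_lit 206)) (Tr.lf (nat_lit 207))))))) (Tr.nd (nat_lit 276) (Tr.nd (nat_lit 271) (Tr.nd (nat_lit 268) (Tr.nd (nat_lit 267) (Tr.lf (nat_lit 207)) (Tr.lf (nat_lit 208))) (Tr.nd (nat_lit 269) (Tr.lf (nat_lit 209)) (Tr.nd (nat_lit 270) (Tr.lf (nat_lit 213)) (Tr.lf (nat_lit 213))))) (Tr.nd (nat_lit 273) (Tr.nd (nat_lit 272) (Tr.lf (nat_lit 214)) (Tr.lf (nat_lit 215))) (Tr.nd (nat_lit 274) (Tr.lf (nat_lit 215)) (Tr.nd (nat_lit 275) (Tr.lf (nat_lit 216)) (Tr.lf (nat_lit 216)))))) (Tr.nd (nat_lit 281) (Tr.nd (nat_lit 278) (Tr.nd (nat_lit 277) (Tr.lf (nat_lit 217)) (Tr.lf (nat_lit 217))) (Tr.nd (nat_lit 279) (Tr.lf (nat_lit 218)) (Tr.nd (nat_lit 280) (Tr.lf (nat_lit 218)) (Tr.lf (nat_lit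 219))))) (Tr.nd (nat_lit 284) (Tr.nd (nat_lit 282) (Tr.lf (nat_lit 222)) (Tr.nd (nat_lit 283) (Tr.lf (nat_lit 222)) (Tr.lf (nat_lit 222)))) (Tr.nd (nat_lit 285) (Tr.lf (nat_lit 224)) (Tr.nd (nat_lit 286) (Tr.lf (nat_lit 224)) (Tr.lf (nat_lit 225)))))))) (Tr.nd (nat_lit 308) (Tr.nd (nat_lit 297) (Tr.nd (nat_lit 292) (Tr.nd (nat_lit 289) (Tr.nd (nat_lit 288) (Tr.lf (nat_lit 226)) (Tr.lf (nat_lit 228))) (Tr.nd (nat_lit 290) (Tr.lf (nat_lit 229)) (Tr.nd (nat_lit 291) (Tr.lf (nat_lit 231)) (Tr.lf (nat_lit 234))))) (Tr.nd (nat_lit 294) (Tr.nd (nat_lit 293) (Tr.lf (nat_lit 234)) (Tr.lf (nat_lit 234))) (Tr.nd (nat_lit 295) (Tr.lf (nat_lit 238)) (Tr.nd (nat_lit 296) (Tr.lf (nat_lit 238)) (Tr.lf (nat_lit 238)))))) (Tr.nd (nat_lit 302) (Tr.nd (nat_lit 299) (Tr.nd (nat_lit 298) (Tr.lf (nat_lit 241)) (Tr.lf (nat_lit 244))) (Tr.nd (nat_lit 300) (Tr.lf (nat_lit 246))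 (Tr.nd (nat_lit 301) (Tr.lf (nat_lit 247)) (Tr.lf (nat_lit 248))))) (Tr.nd (nat_lit 305) (Tr.nd (nat_lit 303) (Tr.lf (nat_lit 250)) (Tr.nd (nat_lit 304) (Tr.lf (nat_lit 250)) (Tr.lf (nat_lit 252)))) (Tr.nd (nat_lit 306) (Tr.lf (nat_lit 254)) (Tr.nd (nat_lit 307) (Tr.lf (nat_lit 255)) (Tr.lf (nat_lit 256))))))) (Tr.nd (nat_lit 318) (Tr.nd (nat_lit 313) (Tr.nd (nat_lit 310) (Tr.nd (nat_lit 309) (Tr.lf (nat_lit 257)) (Tr.lf (nat_lit 259))) (Tr.nd (nat_lit 311) (Tr.lf (nat_lit 262)) (Tr.nd (nat_lit 312) (Tr.lf (nat_lit 264)) (Tr.lf (nat_lit 264))))) (Tr.nd (nat_lit 315) (Tr.nd (nat_lit 314) (Tr.lf (nat_lit 269)) (Tr.lf (nat_lit 270))) (Tr.nd (nat_lit 316) (Tr.lf (nat_lit 272)) (Tr.nd (nat_lit 317) (Tr.lf (nat_lit 274)) (Tr.lf (nat_lit 275)))))) (Tr.nd (nat_lit 323) (Tr.nd (nat_lit 320) (Tr.nd (nat_lit 319) (Tr.lf (nat_lit 276)) (Tr.lf (nat_lit 278))) (Tr.nd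 (nat_lit 321) (Tr.lf (nat_lit 280)) (Tr.nd (nat_lit 322) (Tr.lf (nat_lit 281)) (Tr.lf (nat_lit 281))))) (Tr.nd (nat_lit 326) (Tr.nd (nat_lit 324) (Tr.lf (nat_lit 282)) (Tr.nd (nat_lit 325) (Tr.lf (nat_lit 283)) (Tr.lf (nat_lit 284)))) (Tr.nd (nat_lit 327) (Tr.lf (nat_lit 286)) (Tr.nd (nat_lit 328) (Tr.lf (nat_lit 291)) (Tr.lf (nat_lit 294)))))))))))
noncomputable def mini0Q : Tr ℕ := (Tr.nd (nat_lit 164) (Tr.nd (nat_lit 82) (Tr.nd (nat_lit 41) (Tr.nd (nat_lit 20) (Tr.nd (nat_lit 10) (Tr.nd (nat_lit 5) (Tr.nd (nat_lit 2) (Tr.nd (nat_lit 1) (Tr.lf (nat_lit 0)) (Tr.lf (nat_lit 1))) (Tr.nd (nat_lit 3) (Tr.lf (nat_lit 4)) (Tr.nd (nat_lit 4) (Tr.lf (nat_lit 3)) (Tr.lf (nat_lit 2))))) (Tr.nd (nat_lit 7) (Tr.nd (nat_lit 6) (Tr.lf (nat_lit 1)) (Tr.lf (nat_lit 4))) (Tr.nd (nat_lit 8) (Tr.lf (nat_lit 3)) (Tr.nd (nat_lit 9) (Tr.lf (nat_lit 2)) (Tr.lf (nat_lit 1))))))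 (Tr.nd (nat_lit 15) (Tr.nd (nat_lit 12) (Tr.nd (nat_lit 11) (Tr.lf (nat_lit 4)) (Tr.lf (nat_lit 3))) (Tr.nd (nat_lit 13) (Tr.lf (nat_lit 2)) (Tr.nd (nat_lit 14) (Tr.lf (nat_lit 1)) (Tr.lf (nat_lit 4))))) (Tr.nd (nat_lit 17) (Tr.nd (nat_lit 16) (Tr.lf (nat_lit 3)) (Tr.lf (nat_lit 2))) (Tr.nd (nat_lit 18) (Tr.lf (nat_lit 1)) (Tr.nd (nat_lit 19) (Tr.lf (nat_lit 4)) (Tr.lf (nat_lit 3))))))) (Tr.nd (nat_lit 30) (Tr.nd (nat_lit 25) (Tr.nd (nat_lit 22) (Tr.nd (nat_lit 21) (Tr.lf (nat_lit 2)) (Tr.lf (nat_lit 1))) (Tr.nd (nat_lit 23) (Tr.lf (nat_lit 4)) (Tr.nd (nat_lit 24) (Tr.lf (nat_lit 3)) (Tr.lf (nat_lit 6))))) (Tr.nd (nat_lit 27) (Tr.nd (nat_lit 26) (Tr.lf (nat_lit 3)) (Tr.lf (nat_lit 2))) (Tr.nd (nat_lit 28) (Tr.lf (nat_lit 1)) (Tr.nd (nat_lit 29) (Tr.lf (nat_lit 6)) (Tr.lf (nat_lit 6)))))) (Tr.nd (nat_lit 35) (Tr.nd (nat_lit 32) (Tr.nd (nat_lit 31) (Tr.lf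 (nat_lit 5)) (Tr.lf (nat_lit 6))) (Tr.nd (nat_lit 33) (Tr.lf (nat_lit 3)) (Tr.nd (nat_lit 34) (Tr.lf (nat_lit 5)) (Tr.lf (nat_lit 6))))) (Tr.nd (nat_lit 38) (Tr.nd (nat_lit 36) (Tr.lf (nat_lit 3)) (Tr.nd (nat_lit 37) (Tr.lf (nat_lit 6)) (Tr.lf (nat_lit 5)))) (Tr.nd (nat_lit 39) (Tr.lf (nat_lit 6)) (Tr.nd (nat_lit 40) (Tr.lf (nat_lit 0)) (Tr.lf (nat_lit 5)))))))) (Tr.nd (nat_lit 61) (Tr.nd (nat_lit 51) (Tr.nd (nat_lit 46) (Tr.nd (nat_lit 43) (Tr.nd (nat_lit 42) (Tr.lf (nat_lit 6)) (Tr.lf (nat_lit 3))) (Tr.nd (nat_lit 44) (Tr.lf (nat_lit 6)) (Tr.nd (nat_lit 45) (Tr.lf (nat_lit 6)) (Tr.lf (nat_lit 6))))) (Tr.nd (nat_lit 48) (Tr.nd (nat_lit 47) (Tr.lf (nat_lit 6)) (Tr.lf (nat_lit 5))) (Tr.nd (nat_lit 49) (Tr.lf (nat_lit 6)) (Tr.nd (nat_lit 50) (Tr.lf (nat_lit 4)) (Tr.lf (nat_lit 3)))))) (Tr.nd (nat_lit 56) (Tr.nd (nat_lit 53) (Tr.nd (nat_lit 52) (Tr.lf (nat_lit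 5)) (Tr.lf (nat_lit 6))) (Tr.nd (nat_lit 54) (Tr.lf (nat_lit 4)) (Tr.nd (nat_lit 55) (Tr.lf (nat_lit 0)) (Tr.lf (nat_lit 3))))) (Tr.nd (nat_lit 58) (Tr.nd (nat_lit 57) (Tr.lf (nat_lit 3)) (Tr.lf (nat_lit 6))) (Tr.nd (nat_lit 59) (Tr.lf (nat_lit 3)) (Tr.nd (nat_lit 60) (Tr.lf (nat_lit 6)) (Tr.lf (nat_lit 6))))))) (Tr.nd (nat_lit 71) (Tr.nd (nat_lit 66) (Tr.nd (nat_lit 63) (Tr.nd (nat_lit 62) (Tr.lf (nat_lit 3)) (Tr.lf (nat_lit 3))) (Tr.nd (nat_lit 64) (Tr.lf (nat_lit 6)) (Tr.nd (nat_lit 65) (Tr.lf (nat_lit 3)) (Tr.lf (nat_lit 6))))) (Tr.nd (nat_lit 68) (Tr.nd (nat_lit 67) (Tr.lf (nat_lit 6)) (Tr.lf (nat_lit 5))) (Tr.nd (nat_lit 69) (Tr.lf (nat_lit 3)) (Tr.nd (nat_lit 70) (Tr.lf (nat_lit 3)) (Tr.lf (nat_lit 3)))))) (Tr.nd (nat_lit 76) (Tr.nd (nat_lit 73) (Tr.nd (nat_lit 72) (Tr.lf (nat_lit 3)) (Tr.lf (nat_lit 4))) (Tr.nd (nat_lit 74) (Tr.lf (nat_lit 4))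 (Tr.nd (nat_lit 75) (Tr.lf (nat_lit 5)) (Tr.lf (nat_lit 3))))) (Tr.nd (nat_lit 79) (Tr.nd (nat_lit 77) (Tr.lf (nat_lit 4)) (Tr.nd (nat_lit 78) (Tr.lf (nat_lit 2)) (Tr.lf (nat_lit 5)))) (Tr.nd (nat_lit 80) (Tr.lf (nat_lit 3)) (Tr.nd (nat_lit 81) (Tr.lf (nat_lit 5)) (Tr.lf (nat_lit 3))))))))) (Tr.nd (nat_lit 123) (Tr.nd (nat_lit 102) (Tr.nd (nat_lit 92) (Tr.nd (nat_lit 87) (Tr.nd (nat_lit 84) (Tr.nd (nat_lit 83) (Tr.lf (nat_lit 2)) (Tr.lf (nat_lit 2))) (Tr.nd (nat_lit 85) (Tr.lf (nat_lit 5)) (Tr.nd (nat_lit 86) (Tr.lf (nat_lit 6)) (Tr.lf (nat_lit 2))))) (Tr.nd (nat_lit 89) (Tr.nd (nat_lit 88) (Tr.lf (nat_lit 4)) (Tr.lf (nat_lit 5))) (Tr.nd (nat_lit 90) (Tr.lf (nat_lit 3)) (Tr.nd (nat_lit 91) (Tr.lf (nat_lit 4)) (Tr.lf (nat_lit 2)))))) (Tr.nd (nat_lit 97) (Tr.nd (nat_lit 94) (Tr.nd (nat_lit 93) (Tr.lf (nat_lit 5)) (Tr.lf (nat_lit 2))) (Tr.nd (nat_lit 95)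 (Tr.lf (nat_lit 4)) (Tr.nd (nat_lit 96) (Tr.lf (nat_lit 5)) (Tr.lf (nat_lit 3))))) (Tr.nd (nat_lit 99) (Tr.nd (nat_lit 98) (Tr.lf (nat_lit 4)) (Tr.lf (nat_lit 3))) (Tr.nd (nat_lit 100) (Tr.lf (nat_lit 3)) (Tr.nd (nat_lit 101) (Tr.lf (nat_lit 4)) (Tr.lf (nat_lit 5))))))) (Tr.nd (nat_lit 112) (Tr.nd (nat_lit 107) (Tr.nd (nat_lit 104) (Tr.nd (nat_lit 103) (Tr.lf (nat_lit 4)) (Tr.lf (nat_lit 5))) (Tr.nd (nat_lit 105) (Tr.lf (nat_lit 2)) (Tr.nd (nat_lit 106) (Tr.lf (nat_lit 4)) (Tr.lf (nat_lit 2))))) (Tr.nd (nat_lit 109) (Tr.nd (nat_lit 108) (Tr.lf (nat_lit 5)) (Tr.lf (nat_lit 6))) (Tr.nd (nat_lit 110) (Tr.lf (nat_lit 2)) (Tr.nd (nat_lit 111) (Tr.lf (nat_lit 5)) (Tr.lf (nat_lit 3)))))) (Tr.nd (nat_lit 117) (Tr.nd (nat_lit 114) (Tr.nd (nat_lit 113) (Tr.lf (nat_lit 1)) (Tr.lf (nat_lit 6))) (Tr.nd (nat_lit 115) (Tr.lf (nat_lit 2)) (Tr.nd (nat_lit 116) (Tr.lf (nat_lit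 1)) (Tr.lf (nat_lit 5))))) (Tr.nd (nat_lit 120) (Tr.nd (nat_lit 118) (Tr.lf (nat_lit 4)) (Tr.nd (nat_lit 119) (Tr.lf (nat_lit 3)) (Tr.lf (nat_lit 4)))) (Tr.nd (nat_lit 121) (Tr.lf (nat_lit 1)) (Tr.nd (nat_lit 122) (Tr.lf (nat_lit 3)) (Tr.lf (nat_lit 6)))))))) (Tr.nd (nat_lit 143) (Tr.nd (nat_lit 133) (Tr.nd (nat_lit 128) (Tr.nd (nat_lit 125) (Tr.nd (nat_lit 124) (Tr.lf (nat_lit 5)) (Tr.lf (nat_lit 2))) (Tr.nd (nat_lit 126) (Tr.lf (nat_lit 3)) (Tr.nd (nat_lit 127) (Tr.lf (nat_lit 1)) (Tr.lf (nat_lit 6))))) (Tr.nd (nat_lit 130) (Tr.nd (nat_lit 129) (Tr.lf (nat_lit 1)) (Tr.lf (nat_lit 4))) (Tr.nd (nat_lit 131) (Tr.lf (nat_lit 3)) (Tr.nd (nat_lit 132) (Tr.lf (nat_lit 6)) (Tr.lf (nat_lit 5)))))) (Tr.nd (nat_lit 138) (Tr.nd (nat_lit 135) (Tr.nd (nat_lit 134) (Tr.lf (nat_lit 6)) (Tr.lf (nat_lit 2))) (Tr.nd (nat_lit 136) (Tr.lf (nat_lit 4)) (Tr.nd (nat_lit 137)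 (Tr.lf (nat_lit 5)) (Tr.lf (nat_lit 2))))) (Tr.nd (nat_lit 140) (Tr.nd (nat_lit 139) (Tr.lf (nat_lit 6)) (Tr.lf (nat_lit 5))) (Tr.nd (nat_lit 141) (Tr.lf (nat_lit 3)) (Tr.nd (nat_lit 142) (Tr.lf (nat_lit 1)) (Tr.lf (nat_lit 4))))))) (Tr.nd (nat_lit 153) (Tr.nd (nat_lit 148) (Tr.nd (nat_lit 145) (Tr.nd (nat_lit 144) (Tr.lf (nat_lit 3)) (Tr.lf (nat_lit 2))) (Tr.nd (nat_lit 146) (Tr.lf (nat_lit 2)) (Tr.nd (nat_lit 147) (Tr.lf (nat_lit 3)) (Tr.lf (nat_lit 1))))) (Tr.nd (nat_lit 150) (Tr.nd (nat_lit 149) (Tr.lf (nat_lit 3)) (Tr.lf (nat_lit 1))) (Tr.nd (nat_lit 151) (Tr.lf (nat_lit 6)) (Tr.nd (nat_lit 152) (Tr.lf (nat_lit 6)) (Tr.lf (nat_lit 4)))))) (Tr.nd (nat_lit 158) (Tr.nd (nat_lit 155) (Tr.nd (nat_lit 154) (Tr.lf (nat_lit 1)) (Tr.lf (nat_lit 0))) (Tr.nd (nat_lit 156) (Tr.lf (nat_lit 3)) (Tr.nd (nat_lit 157) (Tr.lf (nat_lit 1)) (Tr.lf (nat_lit 4))))) (Tr.nd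 (nat_lit 161) (Tr.nd (nat_lit 159) (Tr.lf (nat_lit 3)) (Tr.nd (nat_lit 160) (Tr.lf (nat_lit 1)) (Tr.lf (nat_lit 0)))) (Tr.nd (nat_lit 162) (Tr.lf (nat_lit 6)) (Tr.nd (nat_lit 163) (Tr.lf (nat_lit 3)) (Tr.lf (nat_lit 6)))))))))) (Tr.nd (nat_lit 246) (Tr.nd (nat_lit 205) (Tr.nd (nat_lit 184) (Tr.nd (nat_lit 174) (Tr.nd (nat_lit 169) (Tr.nd (nat_lit 166) (Tr.nd (nat_lit 165) (Tr.lf (nat_lit 1)) (Tr.lf (nat_lit 3))) (Tr.nd (nat_lit 167) (Tr.lf (nat_lit 4)) (Tr.nd (nat_lit 168) (Tr.lf (nat_lit 2)) (Tr.lf (nat_lit 1))))) (Tr.nd (nat_lit 171) (Tr.nd (nat_lit 170) (Tr.lf (nat_lit 3)) (Tr.lf (nat_lit 3))) (Tr.nd (nat_lit 172) (Tr.lf (nat_lit 3)) (Tr.nd (nat_lit 173) (Tr.lf (nat_lit 2)) (Tr.lf (nat_lit 4)))))) (Tr.nd (nat_lit 179) (Tr.nd (nat_lit 176) (Tr.nd (nat_lit 175) (Tr.lf (nat_lit 3)) (Tr.lf (nat_lit 6))) (Tr.nd (nat_lit 177) (Tr.lf (nat_lit 5)) (Tr.nd (nat_lit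 178) (Tr.lf (nat_lit 2)) (Tr.lf (nat_lit 1))))) (Tr.nd (nat_lit 181) (Tr.nd (nat_lit 180) (Tr.lf (nat_lit 6)) (Tr.lf (nat_lit 2))) (Tr.nd (nat_lit 182) (Tr.lf (nat_lit 3)) (Tr.nd (nat_lit 183) (Tr.lf (nat_lit 1)) (Tr.lf (nat_lit 3))))))) (Tr.nd (nat_lit 194) (Tr.nd (nat_lit 189) (Tr.nd (nat_lit 186) (Tr.nd (nat_lit 185) (Tr.lf (nat_lit 3)) (Tr.lf (nat_lit 1))) (Tr.nd (nat_lit 187) (Tr.lf (nat_lit 2)) (Tr.nd (nat_lit 188) (Tr.lf (nat_lit 4)) (Tr.lf (nat_lit 3))))) (Tr.nd (nat_lit 191) (Tr.nd (nat_lit 190) (Tr.lf (nat_lit 2)) (Tr.lf (nat_lit 3))) (Tr.nd (nat_lit 192) (Tr.lf (nat_lit 4)) (Tr.nd (nat_lit 193) (Tr.lf (nat_lit 1)) (Tr.lf (nat_lit 2)))))) (Tr.nd (nat_lit 199) (Tr.nd (nat_lit 196) (Tr.nd (nat_lit 195) (Tr.lf (nat_lit 4)) (Tr.lf (nat_lit 1))) (Tr.nd (nat_lit 197) (Tr.lf (nat_lit 2)) (Tr.nd (nat_lit 198) (Tr.lf (nat_lit 4)) (Tr.lf (nat_lit 1)))))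 (Tr.nd (nat_lit 202) (Tr.nd (nat_lit 200) (Tr.lf (nat_lit 1)) (Tr.nd (nat_lit 201) (Tr.lf (nat_lit 0)) (Tr.lf (nat_lit 2)))) (Tr.nd (nat_lit 203) (Tr.lf (nat_lit 0)) (Tr.nd (nat_lit 204) (Tr.lf (nat_lit 2)) (Tr.lf (nat_lit 4)))))))) (Tr.nd (nat_lit 225) (Tr.nd (nat_lit 215) (Tr.nd (nat_lit 210) (Tr.nd (nat_lit 207) (Tr.nd (nat_lit 206) (Tr.lf (nat_lit 3)) (Tr.lf (nat_lit 1))) (Tr.nd (nat_lit 208) (Tr.lf (nat_lit 5)) (Tr.nd (nat_lit 209) (Tr.lf (nat_lit 2)) (Tr.lf (nat_lit 3))))) (Tr.nd (nat_lit 212) (Tr.nd (nat_lit 211) (Tr.lf (nat_lit 2)) (Tr.lf (nat_lit 4))) (Tr.nd (nat_lit 213) (Tr.lf (nat_lit 3)) (Tr.nd (nat_lit 214) (Tr.lf (nat_lit 3)) (Tr.lf (nat_lit 4)))))) (Tr.nd (nat_lit 220) (Tr.nd (nat_lit 217) (Tr.nd (nat_lit 216) (Tr.lf (nat_lit 2)) (Tr.lf (nat_lit 1))) (Tr.nd (nat_lit 218) (Tr.lf (nat_lit 2)) (Tr.nd (nat_lit 219) (Tr.lf (nat_lit 1)) (Tr.lf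 (nat_lit 2))))) (Tr.nd (nat_lit 222) (Tr.nd (nat_lit 221) (Tr.lf (nat_lit 0)) (Tr.lf (nat_lit 2))) (Tr.nd (nat_lit 223) (Tr.lf (nat_lit 2)) (Tr.nd (nat_lit 224) (Tr.lf (nat_lit 4)) (Tr.lf (nat_lit 2))))))) (Tr.nd (nat_lit 235) (Tr.nd (nat_lit 230) (Tr.nd (nat_lit 227) (Tr.nd (nat_lit 226) (Tr.lf (nat_lit 4)) (Tr.lf (nat_lit 1))) (Tr.nd (nat_lit 228) (Tr.lf (nat_lit 2)) (Tr.nd (nat_lit 229) (Tr.lf (nat_lit 2)) (Tr.lf (nat_lit 2))))) (Tr.nd (nat_lit 232) (Tr.nd (nat_lit 231) (Tr.lf (nat_lit 1)) (Tr.lf (nat_lit 2))) (Tr.nd (nat_lit 233) (Tr.lf (nat_lit 3)) (Tr.nd (nat_lit 234) (Tr.lf (nat_lit 1)) (Tr.lf (nat_lit 1)))))) (Tr.nd (nat_lit 240) (Tr.nd (nat_lit 237) (Tr.nd (nat_lit 236) (Tr.lf (nat_lit 5)) (Tr.lf (nat_lit 2))) (Tr.nd (nat_lit 238) (Tr.lf (nat_lit 6)) (Tr.nd (nat_lit 239) (Tr.lf (nat_lit 2)) (Tr.lf (nat_lit 4))))) (Tr.nd (nat_lit 243) (Tr.nd (nat_lit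 241) (Tr.lf (nat_lit 4)) (Tr.nd (nat_lit 242) (Tr.lf (nat_lit 1)) (Tr.lf (nat_lit 2)))) (Tr.nd (nat_lit 244) (Tr.lf (nat_lit 4)) (Tr.nd (nat_lit 245) (Tr.lf (nat_lit 1)) (Tr.lf (nat_lit 2))))))))) (Tr.nd (nat_lit 287) (Tr.nd (nat_lit 266) (Tr.nd (nat_lit 256) (Tr.nd (nat_lit 251) (Tr.nd (nat_lit 248) (Tr.nd (nat_lit 247) (Tr.lf (nat_lit 2)) (Tr.lf (nat_lit 1))) (Tr.nd (nat_lit 249) (Tr.lf (nat_lit 1)) (Tr.nd (nat_lit 250) (Tr.lf (nat_lit 2)) (Tr.lf (nat_lit 2))))) (Tr.nd (nat_lit 253) (Tr.nd (nat_lit 252) (Tr.lf (nat_lit 1)) (Tr.lf (nat_lit 1))) (Tr.nd (nat_lit 254) (Tr.lf (nat_lit 0)) (Tr.nd (nat_lit 255) (Tr.lf (nat_lit 0)) (Tr.lf (nat_lit 2)))))) (Tr.nd (nat_lit 261) (Tr.nd (nat_lit 258) (Tr.nd (nat_lit 257) (Tr.lf (nat_lit 2)) (Tr.lf (nat_lit 3))) (Tr.nd (nat_lit 259) (Tr.lf (nat_lit 4)) (Tr.nd (nat_lit 260) (Tr.lf (nat_lit 2)) (Tr.lf (nat_lit 4)))))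 (Tr.nd (nat_lit 263) (Tr.nd (nat_lit 262) (Tr.lf (nat_lit 3)) (Tr.lf (nat_lit 3))) (Tr.nd (nat_lit 264) (Tr.lf (nat_lit 2)) (Tr.nd (nat_lit 265) (Tr.lf (nat_lit 2)) (Tr.lf (nat_lit 2))))))) (Tr.nd (nat_lit 276) (Tr.nd (nat_lit 271) (Tr.nd (nat_lit 268) (Tr.nd (nat_lit 267) (Tr.lf (nat_lit 6)) (Tr.lf (nat_lit 1))) (Tr.nd (nat_lit 269) (Tr.lf (nat_lit 2)) (Tr.nd (nat_lit 270) (Tr.lf (nat_lit 4)) (Tr.lf (nat_lit 2))))) (Tr.nd (nat_lit 273) (Tr.nd (nat_lit 272) (Tr.lf (nat_lit 2)) (Tr.lf (nat_lit 1))) (Tr.nd (nat_lit 274) (Tr.lf (nat_lit 3)) (Tr.nd (nat_lit 275) (Tr.lf (nat_lit 0)) (Tr.lf (nat_lit 2)))))) (Tr.nd (nat_lit 281) (Tr.nd (nat_lit 278) (Tr.nd (nat_lit 277) (Tr.lf (nat_lit 3)) (Tr.lf (nat_lit 1))) (Tr.nd (nat_lit 279) (Tr.lf (nat_lit 2)) (Tr.nd (nat_lit 280) (Tr.lf (nat_lit 0)) (Tr.lf (nat_lit 0))))) (Tr.nd (nat_lit 284) (Tr.nd (nat_lit 282) (Tr.lf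 (nat_lit 3)) (Tr.nd (nat_lit 283) (Tr.lf (nat_lit 4)) (Tr.lf (nat_lit 1)))) (Tr.nd (nat_lit 285) (Tr.lf (nat_lit 1)) (Tr.nd (nat_lit 286) (Tr.lf (nat_lit 3)) (Tr.lf (nat_lit 1)))))))) (Tr.nd (nat_lit 308) (Tr.nd (nat_lit 297) (Tr.nd (nat_lit 292) (Tr.nd (nat_lit 289) (Tr.nd (nat_lit 288) (Tr.lf (nat_lit 0)) (Tr.lf (nat_lit 1))) (Tr.nd (nat_lit 290) (Tr.lf (nat_lit 1)) (Tr.nd (nat_lit 291) (Tr.lf (nat_lit 1)) (Tr.lf (nat_lit 2))))) (Tr.nd (nat_lit 294) (Tr.nd (nat_lit 293) (Tr.lf (nat_lit 5)) (Tr.lf (nat_lit 6))) (Tr.nd (nat_lit 295) (Tr.lf (nat_lit 1)) (Tr.nd (nat_lit 296) (Tr.lf (nat_lit 4)) (Tr.lf (nat_lit 3)))))) (Tr.nd (nat_lit 302) (Tr.nd (nat_lit 299) (Tr.nd (nat_lit 298) (Tr.lf (nat_lit 0)) (Tr.lf (nat_lit 2))) (Tr.nd (nat_lit 300) (Tr.lf (nat_lit 1)) (Tr.nd (nat_lit 301) (Tr.lf (nat_lit 0)) (Tr.lf (nat_lit 2))))) (Tr.nd (nat_lit 305) (Tr.nd (nat_lit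 303) (Tr.lf (nat_lit 3)) (Tr.nd (nat_lit 304) (Tr.lf (nat_lit 1)) (Tr.lf (nat_lit 0)))) (Tr.nd (nat_lit 306) (Tr.lf (nat_lit 2)) (Tr.nd (nat_lit 307) (Tr.lf (nat_lit 3)) (Tr.lf (nat_lit 3))))))) (Tr.nd (nat_lit 318) (Tr.nd (nat_lit 313) (Tr.nd (nat_lit 310) (Tr.nd (nat_lit 309) (Tr.lf (nat_lit 2)) (Tr.lf (nat_lit 3))) (Tr.nd (nat_lit 311) (Tr.lf (nat_lit 2)) (Tr.nd (nat_lit 312) (Tr.lf (nat_lit 3)) (Tr.lf (nat_lit 1))))) (Tr.nd (nat_lit 315) (Tr.nd (nat_lit 314) (Tr.lf (nat_lit 2)) (Tr.lf (nat_lit 1))) (Tr.nd (nat_lit 316) (Tr.lf (nat_lit 3)) (Tr.nd (nat_lit 317) (Tr.lf (nat_lit 2)) (Tr.lf (nat_lit 1)))))) (Tr.nd (nat_lit 323) (Tr.nd (nat_lit 320) (Tr.nd (nat_lit 319) (Tr.lf (nat_lit 1)) (Tr.lf (nat_lit 0))) (Tr.nd (nat_lit 321) (Tr.lf (nat_lit 1)) (Tr.nd (nat_lit 322) (Tr.lf (nat_lit 1)) (Tr.lf (nat_lit 2))))) (Tr.nd (nat_lit 326) (Tr.nd (nat_lit 324)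 (Tr.lf (nat_lit 1)) (Tr.nd (nat_lit 325) (Tr.lf (nat_lit 0)) (Tr.lf (nat_lit 3)))) (Tr.nd (nat_lit 327) (Tr.lf (nat_lit 3)) (Tr.nd (nat_lit 328) (Tr.lf (nat_lit 6)) (Tr.lf (nat_lit 0)))))))))))
theorem mini0_alt : Tr.all (altChk idx inv RW (SW0)) mini0A = true := by decide +kernel
theorem mini0_chk : Tr.all (chkFc idx inv mini0S mini0A (fun b => Tr.find b mini0P) (fun b => Tr.find b mini0Q)) mini0S = true := by decide +kernel
theorem mini0_run : runM idx inv mini0S 766 0 [Mv.f (nat_lit 5), Mv.b (nat_lit 41), Mv.b (nat_lit 47), Mv.f (nat_lit 765), Mv.f (nat_lit 47), Mv.f (nat_lit 41), Mv.b (nat_lit 5)] [Col.b, Col.c, Col.d, Col.g, Col.d, Col.c, Col.b] 0 = true := by decide +kernel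
theorem mini0_fix {G X : Type*} [Group G] [MulAction G X] (g : Col → G) (x0 : X) (hinv : ∀ c, g (inv c) = (g c)⁻¹)
    (hRW : ∀ w ∈ RW, gw g w = 1) (hSW : ∀ w ∈ SW0, gw g w • x0 = x0) : gw g [Col.b, Col.c, Col.d, Col.g, Col.d, Col.c, Col.b] • x0 = x0 :=
  mini_sound g x0 dec hdec hinv
    (fun a ha => altChk_sound g x0 dec hdec hinv hRW hSW ((Tr.all_iff _ _).1 mini0_alt a ha)) mini0_chk mini0_run
theorem ck_0 : Tr.all CK L = true := by decide +kernel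
theorem ed_a_0 : Tr.all D_a L = true := by decide +kernel
theorem ed_b_0 : Tr.all D_b L = true := by decide +kernel
theorem ed_c_0 : Tr.all D_c L = true := by decide +kernel
theorem ed_d_0 : Tr.all D_d L = true := by decide +kernel
theorem ed_e_0 : Tr.all D_e L = true := by decide +kernel
theorem ed_f_0 : Tr.all D_f L = true := by decide +kernel
theorem ed_g_0 : Tr.all D_g L = true := by decide +kernel
theorem re_0_0 : Tr.all Rf_0 L = true := by decide +kernel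
theorem bs_0 : bst L 32768 (2 * 32768) = true := by decide +kernel
theorem pr_0 : prodT L = MM := by decide +kernel
theorem gc_0 : Nat.gcd MM (prodTo 257) = 1 := by decide +kernel
theorem tr_0 : Tr.all (transP L stp PT q0 cols) L = true := by decide +kernel
theorem bst_chk : bst L 32768 (2 * 32768) = true := by decide +kernel
theorem size_L : size L = 2058 := by decide +kernel
theorem q0_mem : q0 ∈ L.toList := mem_sound (by decide +kernel)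
theorem ck : Tr.all CK L = true := ck_0
theorem ed_a : Tr.all D_a L = true := ed_a_0
theorem ed_b : Tr.all D_b L = true := ed_b_0
theorem ed_c : Tr.all D_c L = true := ed_c_0
theorem ed_d : Tr.all D_d L = true := ed_d_0
theorem ed_e : Tr.all D_e L = true := ed_e_0
theorem ed_f : Tr.all D_f L = true := ed_f_0
theorem ed_g : Tr.all D_g L = true := ed_g_0
theorem tr : Tr.all (transP L stp PT q0 cols) L = true := tr_0
theorem re_0 : Tr.all Rf_0 L = true := re_0_0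
theorem pl_0 : ∀ q ∈ L.toList, q.Prime := prime_labels bs_0 pr_0 gc_0 (by norm_num) (by norm_num)
theorem brecP {α : Type} {P : α → Prop} {x y : α} {b : Bool} (hx : P x) (hy : P y) : P (Bool.rec (motive := fun _ => α) x y b) := by
  cases b
  · exact hx
  · exact hy
theorem memM (x : ℕ) (h1 : 32768 ≤ x) (h2 : x < 2 * 32768) (h3 : MB x % x = 0) : x ∈ L.toList :=
  ((fun h => (mem_of_mod bs_0 pr_0 pl_0 h1 h2 (by norm_num) h)) : (fun M => M % x = 0 → x ∈ L.toList) (MB x)) h3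
theorem pos : ∀ q ∈ L.toList, q ≠ 0 := fun q hq h => by
  have := ((bst_sound L _ _ bst_chk).1 q hq).1
  omega
theorem stp_ge (c : Col) (q : ℕ) : 32768 ≤ stp c q := by
  cases c
  · exact Fge_a q
  · exact Fge_b q
  · exact Fge_c q
  · exact Fge_d q
  · exact Fge_e q
  · exact Fge_f q
  · exact Fge_g q
theorem closed : Closed L stp inv := by
  have key : ∀ q ∈ L.toList, ∀ c, band (Nat.beq (Nat.mod (MB (stp c q)) (stp c q)) 0) (band (Nat.ble (Nat.succ (stp c q)) 65536) (Nat.beq (stp (inv c) (stp c q)) q)) = true := by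
    intro q hq c
    exact (lall_iff (fun c => band (Nat.beq (Nat.mod (MB (stp c q)) (stp c q)) 0) (band (Nat.ble (Nat.succ (stp c q)) 65536) (Nat.beq (stp (inv c) (stp c q)) q))) cols).1 ((Tr.all_iff _ _).1 ck q hq) c (hcols c)
  refine ⟨fun q hq c => ?_, fun q hq c => ?_, inv_inv⟩
  · have h := key q hq c
    rw [band_iff, band_iff] at h
    exact memM _ (stp_ge c q) (by have := Nat.le_of_ble_eq_true h.2.1; omega) (Nat.eq_of_beq_eq_true h.1)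
  · have h := key q hq c
    rw [band_iff, band_iff] at h
    exact Nat.eq_of_beq_eq_true h.2.2
theorem nodup : L.toList.Nodup := ((bst_sound L _ _ bst_chk).2.imp (fun h => Nat.ne_of_lt h))
theorem card_L : Nat.card (Om L) = 2058 := by rw [card_Om L nodup, ← size_eq, size_L]
theorem trans : ∀ q ∈ L.toList, ∃ w : List Col, walk stp w q0 = q := trans_sound tr
theorem tau_lt (c : Col) {q : ℕ} (hq : 0 < q) : tau c q < q := by cases c <;> exact Nat.mod_lt _ hq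
theorem tau_z : lall (fun c => Nat.ble 65536 (tau c 0)) cols = true := by decide +kernel
theorem hz : ∀ q ∈ L.toList, ∀ c c', tau c q ≤ tau c' 0 := by
  intro q hq c c'
  have h1 := (bst_sound L _ _ bst_chk).1 q hq
  have h2 := tau_lt c (q := q) (by omega)
  have h3 := Nat.le_of_ble_eq_true ((lall_iff _ _).1 tau_z c' (hcols c'))
  omega
theorem ac_0 : agChk idx inv RW SW1 a_0 = true := by decide +kernel
theorem ac_1 : agChk idx inv RW SW1 a_1 = true := by decide +kernel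
theorem ac_2 : agChk idx inv RW SW1 a_2 = true := by decide +kernel
theorem ac_3 : agChk idx inv RW SW1 a_3 = true := by decide +kernel
theorem ac_4 : agChk idx inv RW SW1 a_4 = true := by decide +kernel
theorem ac_5 : agChk idx inv RW SW1 a_5 = true := by decide +kernel
theorem ac_6 : agChk idx inv RW SW1 a_6 = true := by decide +kernel
theorem ac_7 : agChk idx inv RW SW1 a_7 = true := by decide +kernel
theorem ac_8 : agChk idx inv RW SW1 a_8 = true := by decide +kernel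
theorem ac_9 : agChk idx inv RW SW1 a_9 = true := by decide +kernel
theorem ac_10 : agChk idx inv RW SW1 a_10 = true := by decide +kernel
theorem ac_11 : agChk idx inv RW SW1 a_11 = true := by decide +kernel
theorem ac_12 : agChk idx inv RW SW1 a_12 = true := by decide +kernel
theorem ac_13 : agChk idx inv RW SW1 a_13 = true := by decide +kernel
theorem ac_14 : agChk idx inv RW SW1 a_14 = true := by decide +kernel
theorem ac_15 : agChk idx inv RW SW1 a_15 = true := by decide +kernel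
theorem ac_16 : agChk idx inv RW SW1 a_16 = true := by decide +kernel
theorem ac_17 : agChk idx inv RW SW1 a_17 = true := by decide +kernel
theorem ac_18 : agChk idx inv RW SW1 a_18 = true := by decide +kernel
theorem ac_19 : agChk idx inv RW SW1 a_19 = true := by decide +kernel
theorem ac_20 : agChk idx inv RW SW1 a_20 = true := by decide +kernel
theorem ac_21 : agChk idx inv RW SW1 a_21 = true := by decide +kernel
theorem ac_22 : agChk idx inv RW SW1 a_22 = true := by decide +kernel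
theorem ac_23 : agChk idx inv RW SW1 a_23 = true := by decide +kernel
theorem ac_24 : agChk idx inv RW SW1 a_24 = true := by decide +kernel
theorem ac_25 : agChk idx inv RW SW1 a_25 = true := by decide +kernel
theorem ac_26 : agChk idx inv RW SW1 a_26 = true := by decide +kernel
theorem ac_27 : agChk idx inv RW SW1 a_27 = true := by decide +kernel
theorem ac_28 : agChk idx inv RW SW1 a_28 = true := by decide +kernel
theorem ac_29 : agChk idx inv RW SW1 a_29 = true := by decide +kernel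
theorem ac_30 : agChk idx inv RW SW1 a_30 = true := by decide +kernel
theorem ac_31 : agChk idx inv RW SW1 a_31 = true := by decide +kernel
theorem ac_32 : agChk idx inv RW SW1 a_32 = true := by decide +kernel
theorem ac_33 : agChk idx inv RW SW1 a_33 = true := by decide +kernel
theorem ac_34 : agChk idx inv RW SW1 a_34 = true := by decide +kernel
theorem ac_35 : agChk idx inv RW SW1 a_35 = true := by decide +kernel
theorem ac_36 : agChk idx inv RW SW1 a_36 = true := by decide +kernel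
theorem ac_37 : agChk idx inv RW SW1 a_37 = true := by decide +kernel
theorem ac_38 : agChk idx inv RW SW1 a_38 = true := by decide +kernel
theorem ac_39 : agChk idx inv RW SW1 a_39 = true := by decide +kernel
theorem ac_40 : agChk idx inv RW SW1 a_40 = true := by decide +kernel
theorem ac_41 : agChk idx inv RW SW1 a_41 = true := by decide +kernel
theorem ac_42 : agChk idx inv RW SW1 a_42 = true := by decide +kernel
theorem ac_43 : agChk idx inv RW SW1 a_43 = true := by decide +kernel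
theorem ac_44 : agChk idx inv RW SW1 a_44 = true := by decide +kernel
theorem ac_45 : agChk idx inv RW SW1 a_45 = true := by decide +kernel
theorem ac_46 : agChk idx inv RW SW1 a_46 = true := by decide +kernel
theorem ac_47 : agChk idx inv RW SW1 a_47 = true := by decide +kernel
theorem ac_48 : agChk idx inv RW SW1 a_48 = true := by decide +kernel
theorem ac_49 : agChk idx inv RW SW1 a_49 = true := by decide +kernel
theorem ac_50 : agChk idx inv RW SW1 a_50 = true := by decide +kernel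
theorem ac_51 : agChk idx inv RW SW1 a_51 = true := by decide +kernel
theorem ac_52 : agChk idx inv RW SW1 a_52 = true := by decide +kernel
theorem ac_53 : agChk idx inv RW SW1 a_53 = true := by decide +kernel
theorem ac_54 : agChk idx inv RW SW1 a_54 = true := by decide +kernel
theorem ac_55 : agChk idx inv RW SW1 a_55 = true := by decide +kernel
theorem ac_56 : agChk idx inv RW SW1 a_56 = true := by decide +kernel
theorem ac_57 : agChk idx inv RW SW1 a_57 = true := by decide +kernel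
theorem ac_58 : agChk idx inv RW SW1 a_58 = true := by decide +kernel
theorem ac_59 : agChk idx inv RW SW1 a_59 = true := by decide +kernel
theorem ac_60 : agChk idx inv RW SW1 a_60 = true := by decide +kernel
theorem ac_61 : agChk idx inv RW SW1 a_61 = true := by decide +kernel
theorem ac_62 : agChk idx inv RW SW1 a_62 = true := by decide +kernel
theorem ac_63 : agChk idx inv RW SW1 a_63 = true := by decide +kernel
theorem ac_64 : agChk idx inv RW SW1 a_64 = true := by decide +kernel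
theorem ac_65 : agChk idx inv RW SW1 a_65 = true := by decide +kernel
theorem ac_66 : agChk idx inv RW SW1 a_66 = true := by decide +kernel
theorem ac_67 : agChk idx inv RW SW1 a_67 = true := by decide +kernel
theorem ac_68 : agChk idx inv RW SW1 a_68 = true := by decide +kernel
theorem ac_69 : agChk idx inv RW SW1 a_69 = true := by decide +kernel
theorem ac_70 : agChk idx inv RW SW1 a_70 = true := by decide +kernel
theorem ac_71 : agChk idx inv RW SW1 a_71 = true := by decide +kernel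
theorem ac_72 : agChk idx inv RW SW1 a_72 = true := by decide +kernel
theorem ac_73 : agChk idx inv RW SW1 a_73 = true := by decide +kernel
theorem ac_74 : agChk idx inv RW SW1 a_74 = true := by decide +kernel
theorem ac_75 : agChk idx inv RW SW1 a_75 = true := by decide +kernel
theorem ac_76 : agChk idx inv RW SW1 a_76 = true := by decide +kernel
theorem ac_77 : agChk idx inv RW SW1 a_77 = true := by decide +kernel
theorem ac_78 : agChk idx inv RW SW1 a_78 = true := by decide +kernel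
theorem ac_79 : agChk idx inv RW SW1 a_79 = true := by decide +kernel
theorem ac_80 : agChk idx inv RW SW1 a_80 = true := by decide +kernel
theorem ac_81 : agChk idx inv RW SW1 a_81 = true := by decide +kernel
theorem ac_82 : agChk idx inv RW SW1 a_82 = true := by decide +kernel
theorem ac_83 : agChk idx inv RW SW1 a_83 = true := by decide +kernel
theorem ac_84 : agChk idx inv RW SW1 a_84 = true := by decide +kernel
theorem ac_85 : agChk idx inv RW SW1 a_85 = true := by decide +kernel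
theorem ac_86 : agChk idx inv RW SW1 a_86 = true := by decide +kernel
theorem ac_87 : agChk idx inv RW SW1 a_87 = true := by decide +kernel
theorem j_0 (q : ℕ) (h : E_0 (Nat.mod U_a q) q = true) : Just stp tau idx inv RW SW1 PT DT q0 .a q := ⟨a_0, ac_0, rfl, h⟩
theorem j_1 (q : ℕ) (h : E_1 (Nat.mod U_a q) q = true) : Just stp tau idx inv RW SW1 PT DT q0 .a q := ⟨a_1, ac_1, rfl, h⟩
theorem j_2 (q : ℕ) (h : E_2 (Nat.mod U_a q) q = true) : Just stp tau idx inv RW SW1 PT DT q0 .a q := ⟨a_2, ac_2, rfl, h⟩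
theorem j_3 (q : ℕ) (h : E_3 (Nat.mod U_a q) q = true) : Just stp tau idx inv RW SW1 PT DT q0 .a q := ⟨a_3, ac_3, rfl, h⟩
theorem j_4 (q : ℕ) (h : E_4 (Nat.mod U_a q) q = true) : Just stp tau idx inv RW SW1 PT DT q0 .a q := ⟨a_4, ac_4, rfl, h⟩
theorem j_5 (q : ℕ) (h : E_5 (Nat.mod U_a q) q = true) : Just stp tau idx inv RW SW1 PT DT q0 .a q := ⟨a_5, ac_5, rfl, h⟩
theorem j_6 (q : ℕ) (h : E_6 (Nat.mod U_a q) q = true) : Just stp tau idx inv RW SW1 PT DT q0 .a q := ⟨a_6, ac_6, rfl, h⟩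
theorem j_7 (q : ℕ) (h : E_7 (Nat.mod U_a q) q = true) : Just stp tau idx inv RW SW1 PT DT q0 .a q := ⟨a_7, ac_7, rfl, h⟩
theorem j_8 (q : ℕ) (h : E_8 (Nat.mod U_a q) q = true) : Just stp tau idx inv RW SW1 PT DT q0 .a q := ⟨a_8, ac_8, rfl, h⟩
theorem j_9 (q : ℕ) (h : E_9 (Nat.mod U_a q) q = true) : Just stp tau idx inv RW SW1 PT DT q0 .a q := ⟨a_9, ac_9, rfl, h⟩
theorem j_10 (q : ℕ) (h : E_10 (Nat.mod U_a q) q = true) : Just stp tau idx inv RW SW1 PT DT q0 .a q := ⟨a_10, ac_10, rfl, h⟩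
theorem j_11 (q : ℕ) (h : E_11 (Nat.mod U_a q) q = true) : Just stp tau idx inv RW SW1 PT DT q0 .a q := ⟨a_11, ac_11, rfl, h⟩
theorem j_12 (q : ℕ) (h : E_12 (Nat.mod U_b q) q = true) : Just stp tau idx inv RW SW1 PT DT q0 .b q := ⟨a_12, ac_12, rfl, h⟩
theorem j_13 (q : ℕ) (h : E_13 (Nat.mod U_b q) q = true) : Just stp tau idx inv RW SW1 PT DT q0 .b q := ⟨a_13, ac_13, rfl, h⟩
theorem j_14 (q : ℕ) (h : E_14 (Nat.mod U_b q) q = true) : Just stp tau idx inv RW SW1 PT DT q0 .b q := ⟨a_14, ac_14, rfl, h⟩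
theorem j_15 (q : ℕ) (h : E_15 (Nat.mod U_b q) q = true) : Just stp tau idx inv RW SW1 PT DT q0 .b q := ⟨a_15, ac_15, rfl, h⟩
theorem j_16 (q : ℕ) (h : E_16 (Nat.mod U_b q) q = true) : Just stp tau idx inv RW SW1 PT DT q0 .b q := ⟨a_16, ac_16, rfl, h⟩
theorem j_17 (q : ℕ) (h : E_17 (Nat.mod U_b q) q = true) : Just stp tau idx inv RW SW1 PT DT q0 .b q := ⟨a_17, ac_17, rfl, h⟩
theorem j_18 (q : ℕ) (h : E_18 (Nat.mod U_b q) q = true) : Just stp tau idx inv RW SW1 PT DT q0 .b q := ⟨a_18, ac_18, rfl, h⟩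
theorem j_19 (q : ℕ) (h : E_19 (Nat.mod U_b q) q = true) : Just stp tau idx inv RW SW1 PT DT q0 .b q := ⟨a_19, ac_19, rfl, h⟩
theorem j_20 (q : ℕ) (h : E_20 (Nat.mod U_b q) q = true) : Just stp tau idx inv RW SW1 PT DT q0 .b q := ⟨a_20, ac_20, rfl, h⟩
theorem j_21 (q : ℕ) (h : E_21 (Nat.mod U_b q) q = true) : Just stp tau idx inv RW SW1 PT DT q0 .b q := ⟨a_21, ac_21, rfl, h⟩
theorem j_22 (q : ℕ) (h : E_22 (Nat.mod U_c q) q = true) : Just stp tau idx inv RW SW1 PT DT q0 .c q := ⟨a_22, ac_22, rfl, h⟩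
theorem j_23 (q : ℕ) (h : E_23 (Nat.mod U_c q) q = true) : Just stp tau idx inv RW SW1 PT DT q0 .c q := ⟨a_23, ac_23, rfl, h⟩
theorem j_24 (q : ℕ) (h : E_24 (Nat.mod U_c q) q = true) : Just stp tau idx inv RW SW1 PT DT q0 .c q := ⟨a_24, ac_24, rfl, h⟩
theorem j_25 (q : ℕ) (h : E_25 (Nat.mod U_c q) q = true) : Just stp tau idx inv RW SW1 PT DT q0 .c q := ⟨a_25, ac_25, rfl, h⟩
theorem j_26 (q : ℕ) (h : E_26 (Nat.mod U_c q) q = true) : Just stp tau idx inv RW SW1 PT DT q0 .c q := ⟨a_26, ac_26, rfl, h⟩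
theorem j_27 (q : ℕ) (h : E_27 (Nat.mod U_c q) q = true) : Just stp tau idx inv RW SW1 PT DT q0 .c q := ⟨a_27, ac_27, rfl, h⟩
theorem j_28 (q : ℕ) (h : E_28 (Nat.mod U_c q) q = true) : Just stp tau idx inv RW SW1 PT DT q0 .c q := ⟨a_28, ac_28, rfl, h⟩
theorem j_29 (q : ℕ) (h : E_29 (Nat.mod U_c q) q = true) : Just stp tau idx inv RW SW1 PT DT q0 .c q := ⟨a_29, ac_29, rfl, h⟩
theorem j_30 (q : ℕ) (h : E_30 (Nat.mod U_c q) q = true) : Just stp tau idx inv RW SW1 PT DT q0 .c q := ⟨a_30, ac_30, rfl, h⟩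
theorem j_31 (q : ℕ) (h : E_31 (Nat.mod U_c q) q = true) : Just stp tau idx inv RW SW1 PT DT q0 .c q := ⟨a_31, ac_31, rfl, h⟩
theorem j_32 (q : ℕ) (h : E_32 (Nat.mod U_c q) q = true) : Just stp tau idx inv RW SW1 PT DT q0 .c q := ⟨a_32, ac_32, rfl, h⟩
theorem j_33 (q : ℕ) (h : E_33 (Nat.mod U_c q) q = true) : Just stp tau idx inv RW SW1 PT DT q0 .c q := ⟨a_33, ac_33, rfl, h⟩
theorem j_34 (q : ℕ) (h : E_34 (Nat.mod U_c q) q = true) : Just stp tau idx inv RW SW1 PT DT q0 .c q := ⟨a_34, ac_34, rfl, h⟩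
theorem j_35 (q : ℕ) (h : E_35 (Nat.mod U_c q) q = true) : Just stp tau idx inv RW SW1 PT DT q0 .c q := ⟨a_35, ac_35, rfl, h⟩
theorem j_36 (q : ℕ) (h : E_36 (Nat.mod U_c q) q = true) : Just stp tau idx inv RW SW1 PT DT q0 .c q := ⟨a_36, ac_36, rfl, h⟩
theorem j_37 (q : ℕ) (h : E_37 (Nat.mod U_c q) q = true) : Just stp tau idx inv RW SW1 PT DT q0 .c q := ⟨a_37, ac_37, rfl, h⟩
theorem j_38 (q : ℕ) (h : E_38 (Nat.mod U_c q) q = true) : Just stp tau idx inv RW SW1 PT DT q0 .c q := ⟨a_38, ac_38, rfl, h⟩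
theorem j_39 (q : ℕ) (h : E_39 (Nat.mod U_d q) q = true) : Just stp tau idx inv RW SW1 PT DT q0 .d q := ⟨a_39, ac_39, rfl, h⟩
theorem j_40 (q : ℕ) (h : E_40 (Nat.mod U_d q) q = true) : Just stp tau idx inv RW SW1 PT DT q0 .d q := ⟨a_40, ac_40, rfl, h⟩
theorem j_41 (q : ℕ) (h : E_41 (Nat.mod U_d q) q = true) : Just stp tau idx inv RW SW1 PT DT q0 .d q := ⟨a_41, ac_41, rfl, h⟩
theorem j_42 (q : ℕ) (h : E_42 (Nat.mod U_d q) q = true) : Just stp tau idx inv RW SW1 PT DT q0 .d q := ⟨a_42, ac_42, rfl, h⟩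
theorem j_43 (q : ℕ) (h : E_43 (Nat.mod U_d q) q = true) : Just stp tau idx inv RW SW1 PT DT q0 .d q := ⟨a_43, ac_43, rfl, h⟩
theorem j_44 (q : ℕ) (h : E_44 (Nat.mod U_d q) q = true) : Just stp tau idx inv RW SW1 PT DT q0 .d q := ⟨a_44, ac_44, rfl, h⟩
theorem j_45 (q : ℕ) (h : E_45 (Nat.mod U_d q) q = true) : Just stp tau idx inv RW SW1 PT DT q0 .d q := ⟨a_45, ac_45, rfl, h⟩
theorem j_46 (q : ℕ) (h : E_46 (Nat.mod U_d q) q = true) : Just stp tau idx inv RW SW1 PT DT q0 .d q := ⟨a_46, ac_46, rfl, h⟩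
theorem j_47 (q : ℕ) (h : E_47 (Nat.mod U_d q) q = true) : Just stp tau idx inv RW SW1 PT DT q0 .d q := ⟨a_47, ac_47, rfl, h⟩
theorem j_48 (q : ℕ) (h : E_48 (Nat.mod U_d q) q = true) : Just stp tau idx inv RW SW1 PT DT q0 .d q := ⟨a_48, ac_48, rfl, h⟩
theorem j_49 (q : ℕ) (h : E_49 (Nat.mod U_d q) q = true) : Just stp tau idx inv RW SW1 PT DT q0 .d q := ⟨a_49, ac_49, rfl, h⟩
theorem j_50 (q : ℕ) (h : E_50 (Nat.mod U_d q) q = true) : Just stp tau idx inv RW SW1 PT DT q0 .d q := ⟨a_50, ac_50, rfl, h⟩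
theorem j_51 (q : ℕ) (h : E_51 (Nat.mod U_d q) q = true) : Just stp tau idx inv RW SW1 PT DT q0 .d q := ⟨a_51, ac_51, rfl, h⟩
theorem j_52 (q : ℕ) (h : E_52 (Nat.mod U_e q) q = true) : Just stp tau idx inv RW SW1 PT DT q0 .e q := ⟨a_52, ac_52, rfl, h⟩
theorem j_53 (q : ℕ) (h : E_53 (Nat.mod U_e q) q = true) : Just stp tau idx inv RW SW1 PT DT q0 .e q := ⟨a_53, ac_53, rfl, h⟩
theorem j_54 (q : ℕ) (h : E_54 (Nat.mod U_e q) q = true) : Just stp tau idx inv RW SW1 PT DT q0 .e q := ⟨a_54, ac_54, rfl, h⟩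
theorem j_55 (q : ℕ) (h : E_55 (Nat.mod U_e q) q = true) : Just stp tau idx inv RW SW1 PT DT q0 .e q := ⟨a_55, ac_55, rfl, h⟩
theorem j_56 (q : ℕ) (h : E_56 (Nat.mod U_e q) q = true) : Just stp tau idx inv RW SW1 PT DT q0 .e q := ⟨a_56, ac_56, rfl, h⟩
theorem j_57 (q : ℕ) (h : E_57 (Nat.mod U_e q) q = true) : Just stp tau idx inv RW SW1 PT DT q0 .e q := ⟨a_57, ac_57, rfl, h⟩
theorem j_58 (q : ℕ) (h : E_58 (Nat.mod U_e q) q = true) : Just stp tau idx inv RW SW1 PT DT q0 .e q := ⟨a_58, ac_58, rfl, h⟩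
theorem j_59 (q : ℕ) (h : E_59 (Nat.mod U_e q) q = true) : Just stp tau idx inv RW SW1 PT DT q0 .e q := ⟨a_59, ac_59, rfl, h⟩
theorem j_60 (q : ℕ) (h : E_60 (Nat.mod U_e q) q = true) : Just stp tau idx inv RW SW1 PT DT q0 .e q := ⟨a_60, ac_60, rfl, h⟩
theorem j_61 (q : ℕ) (h : E_61 (Nat.mod U_e q) q = true) : Just stp tau idx inv RW SW1 PT DT q0 .e q := ⟨a_61, ac_61, rfl, h⟩
theorem j_62 (q : ℕ) (h : E_62 (Nat.mod U_e q) q = true) : Just stp tau idx inv RW SW1 PT DT q0 .e q := ⟨a_62, ac_62, rfl, h⟩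
theorem j_63 (q : ℕ) (h : E_63 (Nat.mod U_f q) q = true) : Just stp tau idx inv RW SW1 PT DT q0 .f q := ⟨a_63, ac_63, rfl, h⟩
theorem j_64 (q : ℕ) (h : E_64 (Nat.mod U_f q) q = true) : Just stp tau idx inv RW SW1 PT DT q0 .f q := ⟨a_64, ac_64, rfl, h⟩
theorem j_65 (q : ℕ) (h : E_65 (Nat.mod U_f q) q = true) : Just stp tau idx inv RW SW1 PT DT q0 .f q := ⟨a_65, ac_65, rfl, h⟩
theorem j_66 (q : ℕ) (h : E_66 (Nat.mod U_f q) q = true) : Just stp tau idx inv RW SW1 PT DT q0 .f q := ⟨a_66, ac_66, rfl, h⟩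
theorem j_67 (q : ℕ) (h : E_67 (Nat.mod U_f q) q = true) : Just stp tau idx inv RW SW1 PT DT q0 .f q := ⟨a_67, ac_67, rfl, h⟩
theorem j_68 (q : ℕ) (h : E_68 (Nat.mod U_f q) q = true) : Just stp tau idx inv RW SW1 PT DT q0 .f q := ⟨a_68, ac_68, rfl, h⟩
theorem j_69 (q : ℕ) (h : E_69 (Nat.mod U_f q) q = true) : Just stp tau idx inv RW SW1 PT DT q0 .f q := ⟨a_69, ac_69, rfl, h⟩
theorem j_70 (q : ℕ) (h : E_70 (Nat.mod U_f q) q = true) : Just stp tau idx inv RW SW1 PT DT q0 .f q := ⟨a_70, ac_70, rfl, h⟩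
theorem j_71 (q : ℕ) (h : E_71 (Nat.mod U_f q) q = true) : Just stp tau idx inv RW SW1 PT DT q0 .f q := ⟨a_71, ac_71, rfl, h⟩
theorem j_72 (q : ℕ) (h : E_72 (Nat.mod U_f q) q = true) : Just stp tau idx inv RW SW1 PT DT q0 .f q := ⟨a_72, ac_72, rfl, h⟩
theorem j_73 (q : ℕ) (h : E_73 (Nat.mod U_f q) q = true) : Just stp tau idx inv RW SW1 PT DT q0 .f q := ⟨a_73, ac_73, rfl, h⟩
theorem j_74 (q : ℕ) (h : E_74 (Nat.mod U_f q) q = true) : Just stp tau idx inv RW SW1 PT DT q0 .f q := ⟨a_74, ac_74, rfl, h⟩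
theorem j_75 (q : ℕ) (h : E_75 (Nat.mod U_g q) q = true) : Just stp tau idx inv RW SW1 PT DT q0 .g q := ⟨a_75, ac_75, rfl, h⟩
theorem j_76 (q : ℕ) (h : E_76 (Nat.mod U_g q) q = true) : Just stp tau idx inv RW SW1 PT DT q0 .g q := ⟨a_76, ac_76, rfl, h⟩
theorem j_77 (q : ℕ) (h : E_77 (Nat.mod U_g q) q = true) : Just stp tau idx inv RW SW1 PT DT q0 .g q := ⟨a_77, ac_77, rfl, h⟩
theorem j_78 (q : ℕ) (h : E_78 (Nat.mod U_g q) q = true) : Just stp tau idx inv RW SW1 PT DT q0 .g q := ⟨a_78, ac_78, rfl, h⟩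
theorem j_79 (q : ℕ) (h : E_79 (Nat.mod U_g q) q = true) : Just stp tau idx inv RW SW1 PT DT q0 .g q := ⟨a_79, ac_79, rfl, h⟩
theorem j_80 (q : ℕ) (h : E_80 (Nat.mod U_g q) q = true) : Just stp tau idx inv RW SW1 PT DT q0 .g q := ⟨a_80, ac_80, rfl, h⟩
theorem j_81 (q : ℕ) (h : E_81 (Nat.mod U_g q) q = true) : Just stp tau idx inv RW SW1 PT DT q0 .g q := ⟨a_81, ac_81, rfl, h⟩
theorem j_82 (q : ℕ) (h : E_82 (Nat.mod U_g q) q = true) : Just stp tau idx inv RW SW1 PT DT q0 .g q := ⟨a_82, ac_82, rfl, h⟩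
theorem j_83 (q : ℕ) (h : E_83 (Nat.mod U_g q) q = true) : Just stp tau idx inv RW SW1 PT DT q0 .g q := ⟨a_83, ac_83, rfl, h⟩
theorem j_84 (q : ℕ) (h : E_84 (Nat.mod U_g q) q = true) : Just stp tau idx inv RW SW1 PT DT q0 .g q := ⟨a_84, ac_84, rfl, h⟩
theorem j_85 (q : ℕ) (h : E_85 (Nat.mod U_g q) q = true) : Just stp tau idx inv RW SW1 PT DT q0 .g q := ⟨a_85, ac_85, rfl, h⟩
theorem j_86 (q : ℕ) (h : E_86 (Nat.mod U_g q) q = true) : Just stp tau idx inv RW SW1 PT DT q0 .g q := ⟨a_86, ac_86, rfl, h⟩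
theorem j_87 (q : ℕ) (h : E_87 (Nat.mod U_g q) q = true) : Just stp tau idx inv RW SW1 PT DT q0 .g q := ⟨a_87, ac_87, rfl, h⟩
theorem jc_a (q : ℕ) (h : D_a q = true) : Just stp tau idx inv RW SW1 PT DT q0 .a q := (brec (brec (j_0 q) (j_1 q)) (brec (brec (brec (j_2 q) (j_3 q)) (brec (j_4 q) (brec (j_5 q) (j_6 q)))) (brec (brec (j_7 q) (j_8 q)) (brec (j_9 q) (brec (j_10 q) (j_11 q)))))) h
theorem jc_b (q : ℕ) (h : D_b q = true) : Just stp tau idx inv RW SW1 PT DT q0 .b q := (brec (brec (j_12 q) (j_13 q)) (brec (brec (brec (j_14 q) (j_15 q)) (brec (j_16 q) (j_17 q))) (brec (brec (j_18 q) (j_19 q)) (brec (j_20 q) (j_21 q))))) h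
theorem jc_c (q : ℕ) (h : D_c q = true) : Just stp tau idx inv RW SW1 PT DT q0 .c q := (brec (brec (j_22 q) (j_23 q)) (brec (brec (brec (j_24 q) (brec (j_25 q) (j_26 q))) (brec (brec (j_27 q) (j_28 q)) (brec (j_29 q) (j_30 q)))) (brec (brec (brec (j_31 q) (j_32 q)) (brec (j_33 q) (j_34 q))) (brec (brec (j_35 q) (j_36 q)) (brec (j_37 q) (j_38 q)))))) h
theorem jc_d (q : ℕ) (h : D_d q = true) : Just stp tau idx inv RW SW1 PT DT q0 .d q := (brec (brec (j_39 q) (j_40 q)) (brec (brec (brec (j_41 q) (j_42 q)) (brec (j_43 q) (brec (j_44 q) (j_45 q)))) (brec (brec (j_46 q) (brec (j_47 q) (j_48 q))) (brec (j_49 q) (brec (j_50 q) (j_51 q)))))) h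
theorem jc_e (q : ℕ) (h : D_e q = true) : Just stp tau idx inv RW SW1 PT DT q0 .e q := (brec (brec (j_52 q) (j_53 q)) (brec (brec (brec (j_54 q) (j_55 q)) (brec (j_56 q) (j_57 q))) (brec (brec (j_58 q) (j_59 q)) (brec (j_60 q) (brec (j_61 q) (j_62 q)))))) h
theorem jc_f (q : ℕ) (h : D_f q = true) : Just stp tau idx inv RW SW1 PT DT q0 .f q := (brec (brec (j_63 q) (j_64 q)) (brec (brec (brec (j_65 q) (j_66 q)) (brec (j_67 q) (brec (j_68 q) (j_69 q)))) (brec (brec (j_70 q) (j_71 q)) (brec (j_72 q) (brec (j_73 q) (j_74 q)))))) h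
theorem jc_g (q : ℕ) (h : D_g q = true) : Just stp tau idx inv RW SW1 PT DT q0 .g q := (brec (brec (j_75 q) (j_76 q)) (brec (brec (brec (j_77 q) (j_78 q)) (brec (j_79 q) (brec (j_80 q) (j_81 q)))) (brec (brec (j_82 q) (brec (j_83 q) (j_84 q))) (brec (j_85 q) (brec (j_86 q) (j_87 q)))))) h
theorem hE : ∀ q ∈ L.toList, ∀ c, Just stp tau idx inv RW SW1 PT DT q0 c q := by
  intro q hq c
  cases c
  · exact jc_a q ((Tr.all_iff _ _).1 ed_a q hq)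
  · exact jc_b q ((Tr.all_iff _ _).1 ed_b q hq)
  · exact jc_c q ((Tr.all_iff _ _).1 ed_c q hq)
  · exact jc_d q ((Tr.all_iff _ _).1 ed_d q hq)
  · exact jc_e q ((Tr.all_iff _ _).1 ed_e q hq)
  · exact jc_f q ((Tr.all_iff _ _).1 ed_f q hq)
  · exact jc_g q ((Tr.all_iff _ _).1 ed_g q hq)
theorem stp_a (q : ℕ) : stp Col.a q = F_a q := rfl
theorem stp_b (q : ℕ) : stp Col.b q = F_b q := rfl
theorem stp_c (q : ℕ) : stp Col.c q = F_c q := rfl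
theorem stp_d (q : ℕ) : stp Col.d q = F_d q := rfl
theorem stp_e (q : ℕ) : stp Col.e q = F_e q := rfl
theorem stp_f (q : ℕ) : stp Col.f q = F_f q := rfl
theorem stp_g (q : ℕ) : stp Col.g q = F_g q := rfl
theorem ru_0 (q : ℕ) : Rf_0 q = true ↔ Nat.beq ((F_a (F_a q))) q = true ∧ Nat.beq ((F_a (F_b (F_a (F_b (F_a (F_b (F_a (F_b q))))))))) q = true ∧ Nat.beq ((F_a (F_c (F_a (F_c q))))) q = true ∧ Nat.beq ((F_a (F_d (F_a (F_d q))))) q = true ∧ Nat.beq ((F_a (F_e (F_a (F_e q))))) q = true ∧ Nat.beq ((F_a (F_f (F_a (F_f q))))) q = true ∧ Nat.beq ((F_a (F_g (F_a (F_g q))))) q = true ∧ Nat.beq ((F_b (F_b q))) q = true ∧ Nat.beq ((F_b (F_c (F_b (F_c (F_b (F_c q))))))) q = true ∧ Nat.beq ((F_b (F_d (F_b (F_d q))))) q = true ∧ Nat.beq ((F_b (F_e (F_b (F_e q))))) q = true ∧ Nat.beq ((F_b (F_f (F_b (F_f q))))) q = true ∧ Nat.beq ((F_b (F_g (F_b (F_g q))))) q = true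 ∧ Nat.beq ((F_c (F_c q))) q = true ∧ Nat.beq ((F_c (F_d (F_c (F_d (F_c (F_d (F_c (F_d (F_c (F_d (F_c (F_d (F_c (F_d (F_c (F_d (F_c (F_d (F_c (F_d q))))))))))))))))))))) q = true ∧ Nat.beq ((F_c (F_e (F_c (F_e q))))) q = true ∧ Nat.beq ((F_c (F_f (F_c (F_f q))))) q = true ∧ Nat.beq ((F_c (F_g (F_c (F_g q))))) q = true ∧ Nat.beq ((F_d (F_d q))) q = true ∧ Nat.beq ((F_d (F_e (F_d (F_e (F_d (F_e q))))))) q = true ∧ Nat.beq ((F_d (F_f (F_d (F_f (F_d (F_f q))))))) q = true ∧ Nat.beq ((F_d (F_g (F_d (F_g (F_d (F_g q))))))) q = true ∧ Nat.beq ((F_e (F_e q))) q = true ∧ Nat.beq ((F_e (F_f (F_e (F_f q))))) q = true ∧ Nat.beq ((F_e (F_g (F_e (F_g q))))) q = true ∧ Nat.beq ((F_f (F_f q))) q = true ∧ Nat.beq ((F_f (F_g (F_f (F_g (F_f (F_g (F_f (F_g q))))))))) q = true ∧ Nat.beq ((F_g (F_g q))) q = true ∧ Nat.beq ((F_e (F_g (F_f (F_g (F_f q)))))) q = true ∧ Nat.beq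 ((F_e (F_c (F_b (F_a (F_c (F_b (F_a (F_c (F_b (F_a q))))))))))) q = true ∧ Nat.beq ((F_a (F_d (F_c (F_d (F_c (F_d (F_c (F_d (F_c (F_d (F_c q)))))))))))) q = true ∧ Nat.beq ((F_c (F_d (F_f (F_g (F_c (F_d (F_f (F_g (F_c (F_d (F_f (F_g (F_c (F_d (F_f (F_g q))))))))))))))))) q = true := by
  unfold Rf_0
  simp only [bfalse_iff, and_true]
theorem rel_0 : relChk L stp [Col.a, Col.a] = true := by
  rw [relChk, Tr.all_iff]
  intro q hq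
  have h := ((ru_0 q).1 ((Tr.all_iff _ _).1 re_0 q hq)).1
  simp only [walk_cons, walk_nil, stp_a, stp_b, stp_c, stp_d, stp_e, stp_f, stp_g]
  exact h
theorem rel_1 : relChk L stp [Col.b, Col.a, Col.b, Col.a, Col.b, Col.a, Col.b, Col.a] = true := by
  rw [relChk, Tr.all_iff]
  intro q hq
  have h := ((ru_0 q).1 ((Tr.all_iff _ _).1 re_0 q hq)).2.1
  simp only [walk_cons, walk_nil, stp_a, stp_b, stp_c, stp_d, stp_e, stp_f, stp_g]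
  exact h
theorem rel_2 : relChk L stp [Col.c, Col.a, Col.c, Col.a] = true := by
  rw [relChk, Tr.all_iff]
  intro q hq
  have h := ((ru_0 q).1 ((Tr.all_iff _ _).1 re_0 q hq)).2.2.1
  simp only [walk_cons, walk_nil, stp_a, stp_b, stp_c, stp_d, stp_e, stp_f, stp_g]
  exact h
theorem rel_3 : relChk L stp [Col.d, Col.a, Col.d, Col.a] = true := by
  rw [relChk, Tr.all_iff]
  intro q hq
  have h := ((ru_0 q).1 ((Tr.all_iff _ _).1 re_0 q hq)).2.2.2.1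
  simp only [walk_cons, walk_nil, stp_a, stp_b, stp_c, stp_d, stp_e, stp_f, stp_g]
  exact h
theorem rel_4 : relChk L stp [Col.e, Col.a, Col.e, Col.a] = true := by
  rw [relChk, Tr.all_iff]
  intro q hq
  have h := ((ru_0 q).1 ((Tr.all_iff _ _).1 re_0 q hq)).2.2.2.2.1
  simp only [walk_cons, walk_nil, stp_a, stp_b, stp_c, stp_d, stp_e, stp_f, stp_g]
  exact h
theorem rel_5 : relChk L stp [Col.f, Col.a, Col.f, Col.a] = true := by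
  rw [relChk, Tr.all_iff]
  intro q hq
  have h := ((ru_0 q).1 ((Tr.all_iff _ _).1 re_0 q hq)).2.2.2.2.2.1
  simp only [walk_cons, walk_nil, stp_a, stp_b, stp_c, stp_d, stp_e, stp_f, stp_g]
  exact h
theorem rel_6 : relChk L stp [Col.g, Col.a, Col.g, Col.a] = true := by
  rw [relChk, Tr.all_iff]
  intro q hq
  have h := ((ru_0 q).1 ((Tr.all_iff _ _).1 re_0 q hq)).2.2.2.2.2.2.1
  simp only [walk_cons, walk_nil, stp_a, stp_b, stp_c, stp_d, stp_e, stp_f, stp_g]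
  exact h
theorem rel_7 : relChk L stp [Col.b, Col.b] = true := by
  rw [relChk, Tr.all_iff]
  intro q hq
  have h := ((ru_0 q).1 ((Tr.all_iff _ _).1 re_0 q hq)).2.2.2.2.2.2.2.1
  simp only [walk_cons, walk_nil, stp_a, stp_b, stp_c, stp_d, stp_e, stp_f, stp_g]
  exact h
theorem rel_8 : relChk L stp [Col.c, Col.b, Col.c, Col.b, Col.c, Col.b] = true := by
  rw [relChk, Tr.all_iff]
  intro q hq
  have h := ((ru_0 q).1 ((Tr.all_iff _ _).1 re_0 q hq)).2.2.2.2.2.2.2.2.1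
  simp only [walk_cons, walk_nil, stp_a, stp_b, stp_c, stp_d, stp_e, stp_f, stp_g]
  exact h
theorem rel_9 : relChk L stp [Col.d, Col.b, Col.d, Col.b] = true := by
  rw [relChk, Tr.all_iff]
  intro q hq
  have h := ((ru_0 q).1 ((Tr.all_iff _ _).1 re_0 q hq)).2.2.2.2.2.2.2.2.2.1
  simp only [walk_cons, walk_nil, stp_a, stp_b, stp_c, stp_d, stp_e, stp_f, stp_g]
  exact h
theorem rel_10 : relChk L stp [Col.e, Col.b, Col.e, Col.b] = true := by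
  rw [relChk, Tr.all_iff]
  intro q hq
  have h := ((ru_0 q).1 ((Tr.all_iff _ _).1 re_0 q hq)).2.2.2.2.2.2.2.2.2.2.1
  simp only [walk_cons, walk_nil, stp_a, stp_b, stp_c, stp_d, stp_e, stp_f, stp_g]
  exact h
theorem rel_11 : relChk L stp [Col.f, Col.b, Col.f, Col.b] = true := by
  rw [relChk, Tr.all_iff]
  intro q hq
  have h := ((ru_0 q).1 ((Tr.all_iff _ _).1 re_0 q hq)).2.2.2.2.2.2.2.2.2.2.2.1
  simp only [walk_cons, walk_nil, stp_a, stp_b, stp_c, stp_d, stp_e, stp_f, stp_g]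
  exact h
theorem rel_12 : relChk L stp [Col.g, Col.b, Col.g, Col.b] = true := by
  rw [relChk, Tr.all_iff]
  intro q hq
  have h := ((ru_0 q).1 ((Tr.all_iff _ _).1 re_0 q hq)).2.2.2.2.2.2.2.2.2.2.2.2.1
  simp only [walk_cons, walk_nil, stp_a, stp_b, stp_c, stp_d, stp_e, stp_f, stp_g]
  exact h
theorem rel_13 : relChk L stp [Col.c, Col.c] = true := by
  rw [relChk, Tr.all_iff]
  intro q hq
  have h := ((ru_0 q).1 ((Tr.all_iff _ _).1 re_0 q hq)).2.2.2.2.2.2.2.2.2.2.2.2.2.1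
  simp only [walk_cons, walk_nil, stp_a, stp_b, stp_c, stp_d, stp_e, stp_f, stp_g]
  exact h
theorem rel_14 : relChk L stp [Col.d, Col.c, Col.d, Col.c, Col.d, Col.c, Col.d, Col.c, Col.d, Col.c, Col.d, Col.c, Col.d, Col.c, Col.d, Col.c, Col.d, Col.c, Col.d, Col.c] = true := by
  rw [relChk, Tr.all_iff]
  intro q hq
  have h := ((ru_0 q).1 ((Tr.all_iff _ _).1 re_0 q hq)).2.2.2.2.2.2.2.2.2.2.2.2.2.2.1
  simp only [walk_cons, walk_nil, stp_a, stp_b, stp_c, stp_d, stp_e, stp_f, stp_g]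
  exact h
theorem rel_15 : relChk L stp [Col.e, Col.c, Col.e, Col.c] = true := by
  rw [relChk, Tr.all_iff]
  intro q hq
  have h := ((ru_0 q).1 ((Tr.all_iff _ _).1 re_0 q hq)).2.2.2.2.2.2.2.2.2.2.2.2.2.2.2.1
  simp only [walk_cons, walk_nil, stp_a, stp_b, stp_c, stp_d, stp_e, stp_f, stp_g]
  exact h
theorem rel_16 : relChk L stp [Col.f, Col.c, Col.f, Col.c] = true := by
  rw [relChk, Tr.all_iff]
  intro q hq
  have h := ((ru_0 q).1 ((Tr.all_iff _ _).1 re_0 q hq)).2.2.2.2.2.2.2.2.2.2.2.2.2.2.2.2.1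
  simp only [walk_cons, walk_nil, stp_a, stp_b, stp_c, stp_d, stp_e, stp_f, stp_g]
  exact h
theorem rel_17 : relChk L stp [Col.g, Col.c, Col.g, Col.c] = true := by
  rw [relChk, Tr.all_iff]
  intro q hq
  have h := ((ru_0 q).1 ((Tr.all_iff _ _).1 re_0 q hq)).2.2.2.2.2.2.2.2.2.2.2.2.2.2.2.2.2.1
  simp only [walk_cons, walk_nil, stp_a, stp_b, stp_c, stp_d, stp_e, stp_f, stp_g]
  exact h
theorem rel_18 : relChk L stp [Col.d, Col.d] = true := by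
  rw [relChk, Tr.all_iff]
  intro q hq
  have h := ((ru_0 q).1 ((Tr.all_iff _ _).1 re_0 q hq)).2.2.2.2.2.2.2.2.2.2.2.2.2.2.2.2.2.2.1
  simp only [walk_cons, walk_nil, stp_a, stp_b, stp_c, stp_d, stp_e, stp_f, stp_g]
  exact h
theorem rel_19 : relChk L stp [Col.e, Col.d, Col.e, Col.d, Col.e, Col.d] = true := by
  rw [relChk, Tr.all_iff]
  intro q hq
  have h := ((ru_0 q).1 ((Tr.all_iff _ _).1 re_0 q hq)).2.2.2.2.2.2.2.2.2.2.2.2.2.2.2.2.2.2.2.1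
  simp only [walk_cons, walk_nil, stp_a, stp_b, stp_c, stp_d, stp_e, stp_f, stp_g]
  exact h
theorem rel_20 : relChk L stp [Col.f, Col.d, Col.f, Col.d, Col.f, Col.d] = true := by
  rw [relChk, Tr.all_iff]
  intro q hq
  have h := ((ru_0 q).1 ((Tr.all_iff _ _).1 re_0 q hq)).2.2.2.2.2.2.2.2.2.2.2.2.2.2.2.2.2.2.2.2.1
  simp only [walk_cons, walk_nil, stp_a, stp_b, stp_c, stp_d, stp_e, stp_f, stp_g]
  exact h
theorem rel_21 : relChk L stp [Col.g, Col.d, Col.g, Col.d, Col.g, Col.d] = true := by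
  rw [relChk, Tr.all_iff]
  intro q hq
  have h := ((ru_0 q).1 ((Tr.all_iff _ _).1 re_0 q hq)).2.2.2.2.2.2.2.2.2.2.2.2.2.2.2.2.2.2.2.2.2.1
  simp only [walk_cons, walk_nil, stp_a, stp_b, stp_c, stp_d, stp_e, stp_f, stp_g]
  exact h
theorem rel_22 : relChk L stp [Col.e, Col.e] = true := by
  rw [relChk, Tr.all_iff]
  intro q hq
  have h := ((ru_0 q).1 ((Tr.all_iff _ _).1 re_0 q hq)).2.2.2.2.2.2.2.2.2.2.2.2.2.2.2.2.2.2.2.2.2.2.1
  simp only [walk_cons, walk_nil, stp_a, stp_b, stp_c, stp_d, stp_e, stp_f, stp_g]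
  exact h
theorem rel_23 : relChk L stp [Col.f, Col.e, Col.f, Col.e] = true := by
  rw [relChk, Tr.all_iff]
  intro q hq
  have h := ((ru_0 q).1 ((Tr.all_iff _ _).1 re_0 q hq)).2.2.2.2.2.2.2.2.2.2.2.2.2.2.2.2.2.2.2.2.2.2.2.1
  simp only [walk_cons, walk_nil, stp_a, stp_b, stp_c, stp_d, stp_e, stp_f, stp_g]
  exact h
theorem rel_24 : relChk L stp [Col.g, Col.e, Col.g, Col.e] = true := by
  rw [relChk, Tr.all_iff]
  intro q hq
  have h := ((ru_0 q).1 ((Tr.all_iff _ _).1 re_0 q hq)).2.2.2.2.2.2.2.2.2.2.2.2.2.2.2.2.2.2.2.2.2.2.2.2.1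
  simp only [walk_cons, walk_nil, stp_a, stp_b, stp_c, stp_d, stp_e, stp_f, stp_g]
  exact h
theorem rel_25 : relChk L stp [Col.f, Col.f] = true := by
  rw [relChk, Tr.all_iff]
  intro q hq
  have h := ((ru_0 q).1 ((Tr.all_iff _ _).1 re_0 q hq)).2.2.2.2.2.2.2.2.2.2.2.2.2.2.2.2.2.2.2.2.2.2.2.2.2.1
  simp only [walk_cons, walk_nil, stp_a, stp_b, stp_c, stp_d, stp_e, stp_f, stp_g]
  exact h
theorem rel_26 : relChk L stp [Col.g, Col.f, Col.g, Col.f, Col.g, Col.f, Col.g, Col.f] = true := by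
  rw [relChk, Tr.all_iff]
  intro q hq
  have h := ((ru_0 q).1 ((Tr.all_iff _ _).1 re_0 q hq)).2.2.2.2.2.2.2.2.2.2.2.2.2.2.2.2.2.2.2.2.2.2.2.2.2.2.1
  simp only [walk_cons, walk_nil, stp_a, stp_b, stp_c, stp_d, stp_e, stp_f, stp_g]
  exact h
theorem rel_27 : relChk L stp [Col.g, Col.g] = true := by
  rw [relChk, Tr.all_iff]
  intro q hq
  have h := ((ru_0 q).1 ((Tr.all_iff _ _).1 re_0 q hq)).2.2.2.2.2.2.2.2.2.2.2.2.2.2.2.2.2.2.2.2.2.2.2.2.2.2.2.1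
  simp only [walk_cons, walk_nil, stp_a, stp_b, stp_c, stp_d, stp_e, stp_f, stp_g]
  exact h
theorem rel_28 : relChk L stp [Col.f, Col.g, Col.f, Col.g, Col.e] = true := by
  rw [relChk, Tr.all_iff]
  intro q hq
  have h := ((ru_0 q).1 ((Tr.all_iff _ _).1 re_0 q hq)).2.2.2.2.2.2.2.2.2.2.2.2.2.2.2.2.2.2.2.2.2.2.2.2.2.2.2.2.1
  simp only [walk_cons, walk_nil, stp_a, stp_b, stp_c, stp_d, stp_e, stp_f, stp_g]
  exact h
theorem rel_29 : relChk L stp [Col.a, Col.b, Col.c, Col.a, Col.b, Col.c, Col.a, Col.b, Col.c, Col.e] = true := by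
  rw [relChk, Tr.all_iff]
  intro q hq
  have h := ((ru_0 q).1 ((Tr.all_iff _ _).1 re_0 q hq)).2.2.2.2.2.2.2.2.2.2.2.2.2.2.2.2.2.2.2.2.2.2.2.2.2.2.2.2.2.1
  simp only [walk_cons, walk_nil, stp_a, stp_b, stp_c, stp_d, stp_e, stp_f, stp_g]
  exact h
theorem rel_30 : relChk L stp [Col.c, Col.d, Col.c, Col.d, Col.c, Col.d, Col.c, Col.d, Col.c, Col.d, Col.a] = true := by
  rw [relChk, Tr.all_iff]
  intro q hq
  have h := ((ru_0 q).1 ((Tr.all_iff _ _).1 re_0 q hq)).2.2.2.2.2.2.2.2.2.2.2.2.2.2.2.2.2.2.2.2.2.2.2.2.2.2.2.2.2.2.1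
  simp only [walk_cons, walk_nil, stp_a, stp_b, stp_c, stp_d, stp_e, stp_f, stp_g]
  exact h
theorem rel_31 : relChk L stp [Col.g, Col.f, Col.d, Col.c, Col.g, Col.f, Col.d, Col.c, Col.g, Col.f, Col.d, Col.c, Col.g, Col.f, Col.d, Col.c] = true := by
  rw [relChk, Tr.all_iff]
  intro q hq
  have h := ((ru_0 q).1 ((Tr.all_iff _ _).1 re_0 q hq)).2.2.2.2.2.2.2.2.2.2.2.2.2.2.2.2.2.2.2.2.2.2.2.2.2.2.2.2.2.2.2
  simp only [walk_cons, walk_nil, stp_a, stp_b, stp_c, stp_d, stp_e, stp_f, stp_g]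
  exact h
attribute [local irreducible] L stp tau PT DT
theorem closure_thm {G X : Type*} [Group G] [MulAction G X] (g : Col → G) (x0 : X) (hinv : ∀ c, g (inv c) = (g c)⁻¹)
    (hRW : ∀ w ∈ RW, gw g w = 1) (hSW : ∀ w ∈ SW0, gw g w • x0 = x0) :
    ∃ f : ℕ → X, f q0 = x0 ∧ ∀ q ∈ L.toList, ∀ c, g c • f q = f (stp c q) := by
  have hSW1 : ∀ w ∈ SW1, gw g w • x0 = x0 := by
    have h := mini0_fix g x0 hinv hRW hSW
    intro w hw; unfold SW1 at hw; rw [List.mem_append, List.mem_singleton] at hw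
    rcases hw with hw | rfl
    · exact hSW w hw
    · exact h
  exact closure_sound2 g x0 dec hdec hinv hRW hSW1 closed.mem pos q0_mem hz hE
theorem perm_RW : ∀ w ∈ RW, gw closed.perm w = 1 := by
  intro w hw
  simp only [RW, List.mem_cons, List.not_mem_nil, or_false] at hw
  rcases hw with rfl | rfl | rfl | rfl | rfl | rfl | rfl | rfl | rfl | rfl | rfl | rfl | rfl | rfl | rfl | rfl | rfl | rfl | rfl | rfl | rfl | rfl | rfl | rfl | rfl | rfl | rfl | rfl | rfl | rfl | rfl | rfl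
  · exact closed.gw_eq_one rel_0
  · exact closed.gw_eq_one rel_1
  · exact closed.gw_eq_one rel_2
  · exact closed.gw_eq_one rel_3
  · exact closed.gw_eq_one rel_4
  · exact closed.gw_eq_one rel_5
  · exact closed.gw_eq_one rel_6
  · exact closed.gw_eq_one rel_7
  · exact closed.gw_eq_one rel_8
  · exact closed.gw_eq_one rel_9
  · exact closed.gw_eq_one rel_10
  · exact closed.gw_eq_one rel_11
  · exact closed.gw_eq_one rel_12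
  · exact closed.gw_eq_one rel_13
  · exact closed.gw_eq_one rel_14
  · exact closed.gw_eq_one rel_15
  · exact closed.gw_eq_one rel_16
  · exact closed.gw_eq_one rel_17
  · exact closed.gw_eq_one rel_18
  · exact closed.gw_eq_one rel_19
  · exact closed.gw_eq_one rel_20
  · exact closed.gw_eq_one rel_21
  · exact closed.gw_eq_one rel_22
  · exact closed.gw_eq_one rel_23
  · exact closed.gw_eq_one rel_24
  · exact closed.gw_eq_one rel_25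
  · exact closed.gw_eq_one rel_26
  · exact closed.gw_eq_one rel_27
  · exact closed.gw_eq_one rel_28
  · exact closed.gw_eq_one rel_29
  · exact closed.gw_eq_one rel_30
  · exact closed.gw_eq_one rel_31
universe u
/-- upper bound for a relative index -/
theorem rel_upper {G : Type u} [Group G] (g : Col → G) (hinv : ∀ c, g (inv c) = (g c)⁻¹)
    (hRW : ∀ w ∈ RW, gw g w = 1) (H : Subgroup G) (hSW : ∀ w ∈ SW0, gw g w ∈ H) :
    H.relIndex (genBy g) ≠ 0 ∧ H.relIndex (genBy g) ≤ 2058 := by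
  rw [← size_L]
  exact relIndex_of_closure closed.mem q0_mem g hinv hRW H hSW (fun X _ x0 h1 h2 h3 => closure_thm (liftGen g) x0 h1 h2 h3)
/-- the permutation representation -/
noncomputable def φ : He →* Equiv.Perm (Om L) :=
  homOf (sat_of_rwx (col := col) (inv := inv) h2 h3 closed.perm closed.perm_inv TV (by rw [rw_eq]; exact perm_RW))
theorem φ_P : ∀ c, φ (P c) = closed.perm c := by
  have h : ∀ x : He.Gen, φ (PresentedGroup.of x) = closed.perm (col x) := fun x => homOf_of _ x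
  intro c
  cases c
  · exact h .a
  · exact h .b
  · exact h .c
  · exact h .d
  · exact h .e
  · exact h .f
  · exact h .g
/-- the subgroup -/
abbrev H : Subgroup He := presSub He.edges He.extra HX
theorem H_eq : H = Subgroup.closure {x | ∃ w ∈ SW0, gw P w = x} := presSub_eq HX P P_inv P_col sw_eq
theorem H_SW : ∀ w ∈ SW0, gw P w ∈ H := fun w hw => by rw [H_eq]; exact Subgroup.subset_closure ⟨w, hw, rfl⟩
theorem main : H.index = 2058 ∧ (∀ x, φ x ⟨q0, q0_mem⟩ = ⟨q0, q0_mem⟩ ↔ x ∈ H) ∧ (∀ q : Om L, ∃ x, φ x ⟨q0, q0_mem⟩ = q) := by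
  rw [← size_L]
  exact index_main closed nodup q0_mem trans P P_top φ φ_P H (le_of_eq H_eq) H_SW
    (fun w hw => Nat.eq_of_beq_eq_true ((lall_iff (fun w => Nat.beq (walk stp w q0) q0) SW0).1 (by decide +kernel) w hw))
    (fun h => closure_thm P _ P_inv P_RW h)
end CfsgLib.TCHe
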