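import Cfsg.Agent.EqBase
import Cfsg.Agent.LibTCONW
set_option autoImplicit false
set_option linter.all false
set_option maxRecDepth 1000000
set_option maxHeartbeats 0
namespace CfsgLib.TCON
open CfsgLib.TC Cfsg.Spor CfsgLib.TCG_ON
noncomputable def mini2S_1 : Tr (Fc Col) := (Tr.nd (nat_lit 3942) (Tr.nd (nat_lit 3285) (Tr.nd (nat_lit 2956) (Tr.nd (nat_lit 2792) (Tr.nd (nat_lit 2710) (Tr.nd (nat_lit 2669) (Tr.nd (nat_lit 2648) (Tr.nd (nat_lit 2638) (Tr.nd (nat_lit 2633) (Tr.nd (nat_lit 2630) (Tr.nd (nat_lit 2629) (Tr.lf (Fc.al (nat_lit 2628) (nat_lit 77) (nat_lit 86) (Dv.wd (nat_lit 29) [Mv.f (nat_lit 226), Mv.f (nat_lit 2594), Mv.f (nat_lit 204)])))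
(Tr.lf (Fc.ed (nat_lit 2629) (nat_lit 38) Col.b (nat_lit 529) (Dv.wd (nat_lit 119) [Mv.f (nat_lit 1264), Mv.f (nat_lit 2594)]))))
(Tr.nd (nat_lit 2631) (Tr.lf (Fc.al (nat_lit 2630) (nat_lit 221) (nat_lit 341) (Dv.wd (nat_lit 103) [Mv.b (nat_lit 813), Mv.f (nat_lit 2594), Mv.b (nat_lit 545)])))
(Tr.nd (nat_lit 2632) (Tr.lf (Fc.ed (nat_lit 2631) (nat_lit 38) Col.d (nat_lit 395) (Dv.wd (nat_lit 120) [Mv.b (nat_lit 929), Mv.f (nat_lit 2594)])))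
(Tr.lf (Fc.al (nat_lit 2632) (nat_lit 74) (nat_lit 106) (Dv.wd (nat_lit 30) [Mv.f (nat_lit 273), Mv.f (nat_lit 2594), Mv.f (nat_lit 198)]))))))
(Tr.nd (nat_lit 2635) (Tr.nd (nat_lit 2634) (Tr.lf (Fc.ed (nat_lit 2633) (nat_lit 67) Col.g (nat_lit 36) (Dv.wd (nat_lit 129) [Mv.b (nat_lit 203), Mv.f (nat_lit 2595)])))
(Tr.lf (Fc.ed (nat_lit 2634) (nat_lit 67) Col.d (nat_lit 582) (Dv.wd (nat_lit 120) [Mv.f (nat_lit 1433), Mv.f (nat_lit 2595)]))))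
(Tr.nd (nat_lit 2636) (Tr.lf (Fc.al (nat_lit 2635) (nat_lit 268) (nat_lit 265) (Dv.wd (nat_lit 128) [Mv.b (nat_lit 648), Mv.f (nat_lit 2596), Mv.f (nat_lit 655)])))
(Tr.nd (nat_lit 2637) (Tr.lf (Fc.al (nat_lit 2636) (nat_lit 380) (nat_lit 325) (Dv.wd (nat_lit 129) [Mv.b (nat_lit 779), Mv.f (nat_lit 2596), Mv.f (nat_lit 903)])))
(Tr.lf (Fc.ed (nat_lit 2637) (nat_lit 166) Col.c (nat_lit 36) (Dv.wd (nat_lit 103) [Mv.f (nat_lit 436), Mv.f (nat_lit 2596)])))))))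
(Tr.nd (nat_lit 2643) (Tr.nd (nat_lit 2640) (Tr.nd (nat_lit 2639) (Tr.lf (Fc.ed (nat_lit 2638) (nat_lit 14) Col.g (nat_lit 67) (Dv.wd (nat_lit 129) [Mv.f (nat_lit 180), Mv.f (nat_lit 2597)])))
(Tr.lf (Fc.ed (nat_lit 2639) (nat_lit 14) Col.gi (nat_lit 38) (Dv.wd (nat_lit 128) [Mv.b (nat_lit 93), Mv.f (nat_lit 2597)]))))
(Tr.nd (nat_lit 2641) (Tr.lf (Fc.al (nat_lit 2640) (nat_lit 15) (nat_lit 29) (Dv.wd (nat_lit 117) [Mv.b (nat_lit 68), Mv.f (nat_lit 2597), Mv.f (nat_lit 31)])))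
(Tr.nd (nat_lit 2642) (Tr.lf (Fc.al (nat_lit 2641) (nat_lit 219) (nat_lit 357) (Dv.wd (nat_lit 128) [Mv.f (nat_lit 1852), Mv.b (nat_lit 2599), Mv.f (nat_lit 542)])))
(Tr.lf (Fc.al (nat_lit 2642) (nat_lit 506) (nat_lit 220) (Dv.wd (nat_lit 129) [Mv.b (nat_lit 543), Mv.b (nat_lit 2599), Mv.b (nat_lit 2500)]))))))
(Tr.nd (nat_lit 2645) (Tr.nd (nat_lit 2644) (Tr.lf (Fc.al (nat_lit 2643) (nat_lit 113) (nat_lit 185) (Dv.wd (nat_lit 120) [Mv.f (nat_lit 483), Mv.b (nat_lit 2599), Mv.f (nat_lit 285)])))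
(Tr.lf (Fc.al (nat_lit 2644) (nat_lit 440) (nat_lit 454) (Dv.wd (nat_lit 120) [Mv.f (nat_lit 1035), Mv.b (nat_lit 2600), Mv.b (nat_lit 1009)]))))
(Tr.nd (nat_lit 2646) (Tr.lf (Fc.al (nat_lit 2645) (nat_lit 437) (nat_lit 448) (Dv.wd (nat_lit 117) [Mv.b (nat_lit 1025), Mv.b (nat_lit 2600), Mv.f (nat_lit 1004)])))
(Tr.nd (nat_lit 2647) (Tr.lf (Fc.ed (nat_lit 2646) (nat_lit 563) Col.a (nat_lit 407) (Dv.wd (nat_lit 29) [Mv.f (nat_lit 1936), Mv.f (nat_lit 2602)])))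
(Tr.lf (Fc.ed (nat_lit 2647) (nat_lit 563) Col.f (nat_lit 414) (Dv.wd (nat_lit 30) [Mv.b (nat_lit 1937), Mv.f (nat_lit 2602)]))))))))
(Tr.nd (nat_lit 2658) (Tr.nd (nat_lit 2653) (Tr.nd (nat_lit 2650) (Tr.nd (nat_lit 2649) (Tr.lf (Fc.ed (nat_lit 2648) (nat_lit 512) Col.c (nat_lit 193) (Dv.wd (nat_lit 103) [Mv.b (nat_lit 1927), Mv.b (nat_lit 2604)])))
(Tr.lf (Fc.al (nat_lit 2649) (nat_lit 569) (nat_lit 803) (Dv.wd (nat_lit 117) [Mv.f (nat_lit 2301), Mv.b (nat_lit 2604), Mv.f (nat_lit 1364)]))))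
(Tr.nd (nat_lit 2651) (Tr.lf (Fc.al (nat_lit 2650) (nat_lit 181) (nat_lit 184) (Dv.wd (nat_lit 117) [Mv.b (nat_lit 2546), Mv.b (nat_lit 2609), Mv.b (nat_lit 489)])))
(Tr.nd (nat_lit 2652) (Tr.lf (Fc.ed (nat_lit 2651) (nat_lit 435) Col.g (nat_lit 193) (Dv.wd (nat_lit 129) [Mv.f (nat_lit 1187), Mv.f (nat_lit 2610)])))
(Tr.lf (Fc.al (nat_lit 2652) (nat_lit 573) (nat_lit 694) (Dv.wd (nat_lit 29) [Mv.f (nat_lit 2175), Mv.f (nat_lit 2610), Mv.f (nat_lit 1373)]))))))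
(Tr.nd (nat_lit 2655) (Tr.nd (nat_lit 2654) (Tr.lf (Fc.ed (nat_lit 2653) (nat_lit 435) Col.f (nat_lit 751) (Dv.wd (nat_lit 30) [Mv.f (nat_lit 2174), Mv.f (nat_lit 2610)])))
(Tr.lf (Fc.al (nat_lit 2654) (nat_lit 650) (nat_lit 649) (Dv.wd (nat_lit 129) [Mv.f (nat_lit 1917), Mv.b (nat_lit 2611), Mv.b (nat_lit 1919)]))))
(Tr.nd (nat_lit 2656) (Tr.lf (Fc.al (nat_lit 2655) (nat_lit 262) (nat_lit 309) (Dv.wd (nat_lit 120) [Mv.b (nat_lit 746), Mv.b (nat_lit 2611), Mv.b (nat_lit 640)])))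
(Tr.nd (nat_lit 2657) (Tr.lf (Fc.ed (nat_lit 2656) (nat_lit 703) Col.d (nat_lit 615) (Dv.wd (nat_lit 120) [Mv.f (nat_lit 2418), Mv.f (nat_lit 2612)])))
(Tr.lf (Fc.ed (nat_lit 2657) (nat_lit 776) Col.g (nat_lit 772) (Dv.wd (nat_lit 129) [Mv.b (nat_lit 2359), Mv.f (nat_lit 2614)])))))))
(Tr.nd (nat_lit 2663) (Tr.nd (nat_lit 2660) (Tr.nd (nat_lit 2659) (Tr.lf (Fc.ed (nat_lit 2658) (nat_lit 776) Col.gi (nat_lit 696) (Dv.wd (nat_lit 128) [Mv.f (nat_lit 2361), Mv.f (nat_lit 2614)])))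
(Tr.lf (Fc.ed (nat_lit 2659) (nat_lit 776) Col.d (nat_lit 607) (Dv.wd (nat_lit 120) [Mv.f (nat_lit 2358), Mv.f (nat_lit 2614)]))))
(Tr.nd (nat_lit 2661) (Tr.lf (Fc.ed (nat_lit 2660) (nat_lit 593) Col.a (nat_lit 593) (Dv.wd (nat_lit 29) [Mv.b (nat_lit 1598), Mv.f (nat_lit 2617)])))
(Tr.nd (nat_lit 2662) (Tr.lf (Fc.ed (nat_lit 2661) (nat_lit 593) Col.d (nat_lit 311) (Dv.wd (nat_lit 120) [Mv.f (nat_lit 1597), Mv.f (nat_lit 2617)])))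
(Tr.lf (Fc.ed (nat_lit 2662) (nat_lit 593) Col.f (nat_lit 632) (Dv.wd (nat_lit 30) [Mv.f (nat_lit 1743), Mv.f (nat_lit 2617)]))))))
(Tr.nd (nat_lit 2666) (Tr.nd (nat_lit 2664) (Tr.lf (Fc.al (nat_lit 2663) (nat_lit 826) (nat_lit 567) (Dv.wd (nat_lit 128) [Mv.b (nat_lit 1360), Mv.b (nat_lit 2620), Mv.b (nat_lit 2363)])))
(Tr.nd (nat_lit 2665) (Tr.lf (Fc.al (nat_lit 2664) (nat_lit 478) (nat_lit 730) (Dv.wd (nat_lit 129) [Mv.b (nat_lit 2126), Mv.b (nat_lit 2620), Mv.b (nat_lit 1116)])))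
(Tr.lf (Fc.al (nat_lit 2665) (nat_lit 772) (nat_lit 771) (Dv.wd (nat_lit 120) [Mv.b (nat_lit 2220), Mv.b (nat_lit 2620), Mv.b (nat_lit 2223)])))))
(Tr.nd (nat_lit 2667) (Tr.lf (Fc.al (nat_lit 2666) (nat_lit 392) (nat_lit 444) (Dv.wd (nat_lit 30) [Mv.f (nat_lit 1016), Mv.b (nat_lit 2620), Mv.f (nat_lit 924)])))
(Tr.nd (nat_lit 2668) (Tr.lf (Fc.ed (nat_lit 2667) (nat_lit 278) Col.g (nat_lit 813) (Dv.wd (nat_lit 129) [Mv.f (nat_lit 2327), Mv.b (nat_lit 2623)])))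
(Tr.lf (Fc.ed (nat_lit 2668) (nat_lit 278) Col.b (nat_lit 110) (Dv.wd (nat_lit 119) [Mv.f (nat_lit 789), Mv.b (nat_lit 2623)])))))))))
(Tr.nd (nat_lit 2689) (Tr.nd (nat_lit 2679) (Tr.nd (nat_lit 2674) (Tr.nd (nat_lit 2671) (Tr.nd (nat_lit 2670) (Tr.lf (Fc.al (nat_lit 2669) (nat_lit 451) (nat_lit 340) (Dv.wd (nat_lit 117) [Mv.b (nat_lit 811), Mv.b (nat_lit 2623), Mv.f (nat_lit 1030)])))
(Tr.lf (Fc.al (nat_lit 2670) (nat_lit 363) (nat_lit 294) (Dv.wd (nat_lit 30) [Mv.b (nat_lit 1830), Mv.b (nat_lit 2623), Mv.b (nat_lit 867)]))))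
(Tr.nd (nat_lit 2672) (Tr.lf (Fc.ed (nat_lit 2671) (nat_lit 243) Col.g (nat_lit 762) (Dv.wd (nat_lit 129) [Mv.b (nat_lit 2198), Mv.b (nat_lit 2624)])))
(Tr.nd (nat_lit 2673) (Tr.lf (Fc.ed (nat_lit 2672) (nat_lit 243) Col.a (nat_lit 829) (Dv.wd (nat_lit 29) [Mv.f (nat_lit 2370), Mv.b (nat_lit 2624)])))
(Tr.lf (Fc.ed (nat_lit 2673) (nat_lit 243) Col.b (nat_lit 12) (Dv.wd (nat_lit 119) [Mv.f (nat_lit 656), Mv.b (nat_lit 2624)]))))))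
(Tr.nd (nat_lit 2676) (Tr.nd (nat_lit 2675) (Tr.lf (Fc.ed (nat_lit 2674) (nat_lit 243) Col.c (nat_lit 625) (Dv.wd (nat_lit 103) [Mv.f (nat_lit 1726), Mv.b (nat_lit 2624)])))
(Tr.lf (Fc.al (nat_lit 2675) (nat_lit 600) (nat_lit 376) (Dv.wd (nat_lit 117) [Mv.f (nat_lit 897), Mv.b (nat_lit 2624), Mv.f (nat_lit 1567)]))))
(Tr.nd (nat_lit 2677) (Tr.lf (Fc.ed (nat_lit 2676) (nat_lit 77) Col.d (nat_lit 220) (Dv.wd (nat_lit 120) [Mv.b (nat_lit 2642), Mv.f (nat_lit 1180), Mv.b (nat_lit 2628)])))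
(Tr.nd (nat_lit 2678) (Tr.lf (Fc.al (nat_lit 2677) (nat_lit 446) (nat_lit 565) (Dv.wd (nat_lit 128) [Mv.f (nat_lit 1357), Mv.b (nat_lit 2630), Mv.f (nat_lit 1022)])))
(Tr.lf (Fc.ed (nat_lit 2678) (nat_lit 74) Col.b (nat_lit 480) (Dv.wd (nat_lit 119) [Mv.b (nat_lit 1118), Mv.b (nat_lit 2632)])))))))
(Tr.nd (nat_lit 2684) (Tr.nd (nat_lit 2681) (Tr.nd (nat_lit 2680) (Tr.lf (Fc.ed (nat_lit 2679) (nat_lit 74) Col.d (nat_lit 219) (Dv.wd (nat_lit 120) [Mv.f (nat_lit 2504), Mv.b (nat_lit 2632)])))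
(Tr.lf (Fc.ed (nat_lit 2680) (nat_lit 265) Col.gi (nat_lit 166) (Dv.wd (nat_lit 128) [Mv.f (nat_lit 655), Mv.f (nat_lit 2635)]))))
(Tr.nd (nat_lit 2682) (Tr.lf (Fc.ed (nat_lit 2681) (nat_lit 325) Col.g (nat_lit 166) (Dv.wd (nat_lit 129) [Mv.f (nat_lit 903), Mv.f (nat_lit 2636)])))
(Tr.nd (nat_lit 2683) (Tr.lf (Fc.al (nat_lit 2682) (nat_lit 138) (nat_lit 131) (Dv.wd (nat_lit 103) [Mv.b (nat_lit 339), Mv.b (nat_lit 2640), Mv.f (nat_lit 354)])))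
(Tr.lf (Fc.al (nat_lit 2683) (nat_lit 125) (nat_lit 136) (Dv.wd (nat_lit 120) [Mv.b (nat_lit 2531), Mv.b (nat_lit 2640), Mv.f (nat_lit 317)]))))))
(Tr.nd (nat_lit 2686) (Tr.nd (nat_lit 2685) (Tr.lf (Fc.ed (nat_lit 2684) (nat_lit 219) Col.g (nat_lit 207) (Dv.wd (nat_lit 129) [Mv.f (nat_lit 851), Mv.b (nat_lit 2641)])))
(Tr.lf (Fc.al (nat_lit 2685) (nat_lit 582) (nat_lit 401) (Dv.wd (nat_lit 29) [Mv.f (nat_lit 1851), Mv.b (nat_lit 2641), Mv.f (nat_lit 2502)]))))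
(Tr.nd (nat_lit 2687) (Tr.lf (Fc.al (nat_lit 2686) (nat_lit 395) (nat_lit 453) (Dv.wd (nat_lit 30) [Mv.b (nat_lit 1033), Mv.b (nat_lit 2641), Mv.b (nat_lit 2510)])))
(Tr.nd (nat_lit 2688) (Tr.lf (Fc.ed (nat_lit 2687) (nat_lit 220) Col.g (nat_lit 103) (Dv.wd (nat_lit 129) [Mv.b (nat_lit 2500), Mv.f (nat_lit 2642)])))
(Tr.lf (Fc.ed (nat_lit 2688) (nat_lit 220) Col.e (nat_lit 756) (Dv.wd (nat_lit 117) [Mv.f (nat_lit 2186), Mv.f (nat_lit 2642)]))))))))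
(Tr.nd (nat_lit 2699) (Tr.nd (nat_lit 2694) (Tr.nd (nat_lit 2691) (Tr.nd (nat_lit 2690) (Tr.lf (Fc.al (nat_lit 2689) (nat_lit 464) (nat_lit 317) (Dv.wd (nat_lit 103) [Mv.b (nat_lit 761), Mv.b (nat_lit 2643), Mv.f (nat_lit 1050)])))
(Tr.lf (Fc.al (nat_lit 2690) (nat_lit 194) (nat_lit 177) (Dv.wd (nat_lit 30) [Mv.f (nat_lit 1839), Mv.b (nat_lit 2643), Mv.f (nat_lit 1838)]))))
(Tr.nd (nat_lit 2692) (Tr.lf (Fc.ed (nat_lit 2691) (nat_lit 440) Col.gi (nat_lit 476) (Dv.wd (nat_lit 128) [Mv.b (nat_lit 1112), Mv.b (nat_lit 2644)])))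
(Tr.nd (nat_lit 2693) (Tr.lf (Fc.ed (nat_lit 2692) (nat_lit 440) Col.a (nat_lit 189) (Dv.wd (nat_lit 29) [Mv.f (nat_lit 1034), Mv.b (nat_lit 2644)])))
(Tr.lf (Fc.ed (nat_lit 2693) (nat_lit 440) Col.b (nat_lit 440) (Dv.wd (nat_lit 119) [Mv.b (nat_lit 1037), Mv.b (nat_lit 2644)]))))))
(Tr.nd (nat_lit 2696) (Tr.nd (nat_lit 2695) (Tr.lf (Fc.al (nat_lit 2694) (nat_lit 439) (nat_lit 438) (Dv.wd (nat_lit 117) [Mv.b (nat_lit 1036), Mv.b (nat_lit 2644), Mv.f (nat_lit 1010)])))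
(Tr.lf (Fc.al (nat_lit 2695) (nat_lit 539) (nat_lit 551) (Dv.wd (nat_lit 128) [Mv.b (nat_lit 1328), Mv.b (nat_lit 2645), Mv.f (nat_lit 1296)]))))
(Tr.nd (nat_lit 2697) (Tr.lf (Fc.al (nat_lit 2696) (nat_lit 546) (nat_lit 495) (Dv.wd (nat_lit 120) [Mv.f (nat_lit 1156), Mv.b (nat_lit 2645), Mv.f (nat_lit 1314)])))
(Tr.nd (nat_lit 2698) (Tr.lf (Fc.al (nat_lit 2697) (nat_lit 503) (nat_lit 469) (Dv.wd (nat_lit 30) [Mv.b (nat_lit 1063), Mv.b (nat_lit 2645), Mv.b (nat_lit 1174)])))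
(Tr.lf (Fc.ed (nat_lit 2698) (nat_lit 569) Col.c (nat_lit 198) (Dv.wd (nat_lit 103) [Mv.f (nat_lit 2300), Mv.b (nat_lit 2649)])))))))
(Tr.nd (nat_lit 2704) (Tr.nd (nat_lit 2701) (Tr.nd (nat_lit 2700) (Tr.lf (Fc.al (nat_lit 2699) (nat_lit 602) (nat_lit 828) (Dv.wd (nat_lit 30) [Mv.b (nat_lit 2367), Mv.b (nat_lit 2649), Mv.f (nat_lit 1570)])))
(Tr.lf (Fc.al (nat_lit 2700) (nat_lit 250) (nat_lit 237) (Dv.wd (nat_lit 120) [Mv.b (nat_lit 578), Mv.b (nat_lit 2650), Mv.b (nat_lit 611)]))))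
(Tr.nd (nat_lit 2702) (Tr.lf (Fc.ed (nat_lit 2701) (nat_lit 573) Col.f (nat_lit 372) (Dv.wd (nat_lit 30) [Mv.f (nat_lit 2036), Mv.b (nat_lit 2652)])))
(Tr.nd (nat_lit 2703) (Tr.lf (Fc.ed (nat_lit 2702) (nat_lit 649) Col.g (nat_lit 198) (Dv.wd (nat_lit 129) [Mv.b (nat_lit 1919), Mv.f (nat_lit 2654)])))
(Tr.lf (Fc.ed (nat_lit 2703) (nat_lit 262) Col.c (nat_lit 741) (Dv.wd (nat_lit 103) [Mv.f (nat_lit 2152), Mv.b (nat_lit 2655)]))))))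
(Tr.nd (nat_lit 2707) (Tr.nd (nat_lit 2705) (Tr.lf (Fc.al (nat_lit 2704) (nat_lit 271) (nat_lit 397) (Dv.wd (nat_lit 30) [Mv.b (nat_lit 1858), Mv.b (nat_lit 2655), Mv.f (nat_lit 660)])))
(Tr.nd (nat_lit 2706) (Tr.lf (Fc.ed (nat_lit 2705) (nat_lit 567) Col.gi (nat_lit 249) (Dv.wd (nat_lit 128) [Mv.b (nat_lit 2363), Mv.f (nat_lit 2663)])))
(Tr.lf (Fc.ed (nat_lit 2706) (nat_lit 478) Col.a (nat_lit 844) (Dv.wd (nat_lit 29) [Mv.b (nat_lit 2412), Mv.b (nat_lit 2664)])))))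
(Tr.nd (nat_lit 2708) (Tr.lf (Fc.ed (nat_lit 2707) (nat_lit 771) Col.gi (nat_lit 776) (Dv.wd (nat_lit 128) [Mv.f (nat_lit 2657), Mv.f (nat_lit 2665)])))
(Tr.nd (nat_lit 2709) (Tr.lf (Fc.ed (nat_lit 2708) (nat_lit 771) Col.d (nat_lit 249) (Dv.wd (nat_lit 120) [Mv.b (nat_lit 2223), Mv.f (nat_lit 2665)])))
(Tr.lf (Fc.al (nat_lit 2709) (nat_lit 696) (nat_lit 824) (Dv.wd (nat_lit 30) [Mv.f (nat_lit 2357), Mv.f (nat_lit 2665), Mv.f (nat_lit 2221)]))))))))))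
(Tr.nd (nat_lit 2751) (Tr.nd (nat_lit 2730) (Tr.nd (nat_lit 2720) (Tr.nd (nat_lit 2715) (Tr.nd (nat_lit 2712) (Tr.nd (nat_lit 2711) (Tr.lf (Fc.ed (nat_lit 2710) (nat_lit 392) Col.g (nat_lit 478) (Dv.wd (nat_lit 129) [Mv.b (nat_lit 1115), Mv.b (nat_lit 2666)])))
(Tr.lf (Fc.ed (nat_lit 2711) (nat_lit 392) Col.a (nat_lit 392) (Dv.wd (nat_lit 29) [Mv.f (nat_lit 1015), Mv.b (nat_lit 2666)]))))
(Tr.nd (nat_lit 2713) (Tr.lf (Fc.ed (nat_lit 2712) (nat_lit 340) Col.e (nat_lit 278) (Dv.wd (nat_lit 117) [Mv.f (nat_lit 1030), Mv.f (nat_lit 2669)])))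
(Tr.nd (nat_lit 2714) (Tr.lf (Fc.ed (nat_lit 2713) (nat_lit 294) Col.d (nat_lit 243) (Dv.wd (nat_lit 120) [Mv.b (nat_lit 866), Mv.f (nat_lit 2670)])))
(Tr.lf (Fc.ed (nat_lit 2714) (nat_lit 294) Col.f (nat_lit 278) (Dv.wd (nat_lit 30) [Mv.b (nat_lit 867), Mv.f (nat_lit 2670)]))))))
(Tr.nd (nat_lit 2717) (Tr.nd (nat_lit 2716) (Tr.lf (Fc.ed (nat_lit 2715) (nat_lit 376) Col.e (nat_lit 243) (Dv.wd (nat_lit 117) [Mv.f (nat_lit 1567), Mv.f (nat_lit 2675)])))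
(Tr.lf (Fc.ed (nat_lit 2716) (nat_lit 446) Col.c (nat_lit 805) (Dv.wd (nat_lit 103) [Mv.b (nat_lit 2306), Mv.b (nat_lit 2677)]))))
(Tr.nd (nat_lit 2718) (Tr.lf (Fc.al (nat_lit 2717) (nat_lit 320) (nat_lit 260) (Dv.wd (nat_lit 128) [Mv.f (nat_lit 2540), Mv.f (nat_lit 2682), Mv.f (nat_lit 768)])))
(Tr.nd (nat_lit 2719) (Tr.lf (Fc.ed (nat_lit 2718) (nat_lit 131) Col.a (nat_lit 131) (Dv.wd (nat_lit 29) [Mv.b (nat_lit 355), Mv.f (nat_lit 2682)])))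
(Tr.lf (Fc.ed (nat_lit 2719) (nat_lit 131) Col.c (nat_lit 15) (Dv.wd (nat_lit 103) [Mv.f (nat_lit 354), Mv.f (nat_lit 2682)])))))))
(Tr.nd (nat_lit 2725) (Tr.nd (nat_lit 2722) (Tr.nd (nat_lit 2721) (Tr.lf (Fc.ed (nat_lit 2720) (nat_lit 131) Col.e (nat_lit 157) (Dv.wd (nat_lit 117) [Mv.f (nat_lit 411), Mv.f (nat_lit 2682)])))
(Tr.lf (Fc.ed (nat_lit 2721) (nat_lit 131) Col.f (nat_lit 131) (Dv.wd (nat_lit 30) [Mv.f (nat_lit 2539), Mv.f (nat_lit 2682)]))))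
(Tr.nd (nat_lit 2723) (Tr.lf (Fc.al (nat_lit 2722) (nat_lit 248) (nat_lit 240) (Dv.wd (nat_lit 128) [Mv.f (nat_lit 586), Mv.b (nat_lit 2683), Mv.f (nat_lit 2517)])))
(Tr.nd (nat_lit 2724) (Tr.lf (Fc.al (nat_lit 2723) (nat_lit 461) (nat_lit 347) (Dv.wd (nat_lit 103) [Mv.f (nat_lit 2528), Mv.b (nat_lit 2683), Mv.f (nat_lit 1045)])))
(Tr.lf (Fc.ed (nat_lit 2724) (nat_lit 401) Col.a (nat_lit 219) (Dv.wd (nat_lit 29) [Mv.f (nat_lit 2502), Mv.f (nat_lit 2685)]))))))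
(Tr.nd (nat_lit 2727) (Tr.nd (nat_lit 2726) (Tr.lf (Fc.ed (nat_lit 2725) (nat_lit 401) Col.d (nat_lit 67) (Dv.wd (nat_lit 120) [Mv.f (nat_lit 2634), Mv.f (nat_lit 2685)])))
(Tr.lf (Fc.ed (nat_lit 2726) (nat_lit 401) Col.e (nat_lit 585) (Dv.wd (nat_lit 117) [Mv.f (nat_lit 1528), Mv.f (nat_lit 2685)]))))
(Tr.nd (nat_lit 2728) (Tr.lf (Fc.ed (nat_lit 2727) (nat_lit 395) Col.a (nat_lit 220) (Dv.wd (nat_lit 29) [Mv.b (nat_lit 1850), Mv.b (nat_lit 2686)])))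
(Tr.nd (nat_lit 2729) (Tr.lf (Fc.ed (nat_lit 2728) (nat_lit 395) Col.c (nat_lit 868) (Dv.wd (nat_lit 103) [Mv.b (nat_lit 2457), Mv.b (nat_lit 2686)])))
(Tr.lf (Fc.ed (nat_lit 2729) (nat_lit 317) Col.c (nat_lit 113) (Dv.wd (nat_lit 103) [Mv.f (nat_lit 1050), Mv.f (nat_lit 2689)]))))))))
(Tr.nd (nat_lit 2740) (Tr.nd (nat_lit 2735) (Tr.nd (nat_lit 2732) (Tr.nd (nat_lit 2731) (Tr.lf (Fc.al (nat_lit 2730) (nat_lit 408) (nat_lit 483) (Dv.wd (nat_lit 30) [Mv.b (nat_lit 1125), Mv.f (nat_lit 2689), Mv.b (nat_lit 1857)])))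
(Tr.lf (Fc.ed (nat_lit 2731) (nat_lit 177) Col.d (nat_lit 207) (Dv.wd (nat_lit 120) [Mv.b (nat_lit 520), Mv.f (nat_lit 2690)]))))
(Tr.nd (nat_lit 2733) (Tr.lf (Fc.ed (nat_lit 2732) (nat_lit 438) Col.g (nat_lit 514) (Dv.wd (nat_lit 129) [Mv.b (nat_lit 2543), Mv.f (nat_lit 2694)])))
(Tr.nd (nat_lit 2734) (Tr.lf (Fc.ed (nat_lit 2733) (nat_lit 438) Col.c (nat_lit 673) (Dv.wd (nat_lit 103) [Mv.f (nat_lit 1974), Mv.f (nat_lit 2694)])))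
(Tr.lf (Fc.al (nat_lit 2734) (nat_lit 492) (nat_lit 481) (Dv.wd (nat_lit 120) [Mv.b (nat_lit 2544), Mv.f (nat_lit 2694), Mv.f (nat_lit 1147)]))))))
(Tr.nd (nat_lit 2737) (Tr.nd (nat_lit 2736) (Tr.lf (Fc.ed (nat_lit 2735) (nat_lit 438) Col.e (nat_lit 440) (Dv.wd (nat_lit 117) [Mv.f (nat_lit 1010), Mv.f (nat_lit 2694)])))
(Tr.lf (Fc.ed (nat_lit 2736) (nat_lit 438) Col.f (nat_lit 438) (Dv.wd (nat_lit 30) [Mv.b (nat_lit 2545), Mv.f (nat_lit 2694)]))))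
(Tr.nd (nat_lit 2738) (Tr.lf (Fc.ed (nat_lit 2737) (nat_lit 539) Col.g (nat_lit 225) (Dv.wd (nat_lit 129) [Mv.b (nat_lit 1855), Mv.b (nat_lit 2695)])))
(Tr.nd (nat_lit 2739) (Tr.lf (Fc.ed (nat_lit 2738) (nat_lit 495) Col.c (nat_lit 725) (Dv.wd (nat_lit 103) [Mv.b (nat_lit 2113), Mv.f (nat_lit 2696)])))
(Tr.lf (Fc.ed (nat_lit 2739) (nat_lit 495) Col.d (nat_lit 437) (Dv.wd (nat_lit 120) [Mv.f (nat_lit 1314), Mv.f (nat_lit 2696)])))))))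
(Tr.nd (nat_lit 2745) (Tr.nd (nat_lit 2742) (Tr.nd (nat_lit 2741) (Tr.lf (Fc.ed (nat_lit 2740) (nat_lit 469) Col.g (nat_lit 649) (Dv.wd (nat_lit 129) [Mv.b (nat_lit 1916), Mv.f (nat_lit 2697)])))
(Tr.lf (Fc.ed (nat_lit 2741) (nat_lit 602) Col.c (nat_lit 225) (Dv.wd (nat_lit 103) [Mv.b (nat_lit 2368), Mv.b (nat_lit 2699)]))))
(Tr.nd (nat_lit 2743) (Tr.lf (Fc.al (nat_lit 2742) (nat_lit 517) (nat_lit 498) (Dv.wd (nat_lit 128) [Mv.b (nat_lit 1163), Mv.f (nat_lit 2700), Mv.b (nat_lit 1199)])))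
(Tr.nd (nat_lit 2744) (Tr.lf (Fc.ed (nat_lit 2743) (nat_lit 237) Col.d (nat_lit 181) (Dv.wd (nat_lit 120) [Mv.b (nat_lit 611), Mv.f (nat_lit 2700)])))
(Tr.lf (Fc.ed (nat_lit 2744) (nat_lit 237) Col.e (nat_lit 262) (Dv.wd (nat_lit 117) [Mv.b (nat_lit 639), Mv.f (nat_lit 2700)]))))))
(Tr.nd (nat_lit 2748) (Tr.nd (nat_lit 2746) (Tr.lf (Fc.ed (nat_lit 2745) (nat_lit 271) Col.b (nat_lit 177) (Dv.wd (nat_lit 119) [Mv.f (nat_lit 932), Mv.b (nat_lit 2704)])))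
(Tr.nd (nat_lit 2747) (Tr.lf (Fc.ed (nat_lit 2746) (nat_lit 271) Col.c (nat_lit 831) (Dv.wd (nat_lit 103) [Mv.b (nat_lit 2376), Mv.b (nat_lit 2704)])))
(Tr.lf (Fc.ed (nat_lit 2747) (nat_lit 696) Col.a (nat_lit 696) (Dv.wd (nat_lit 29) [Mv.f (nat_lit 2355), Mv.b (nat_lit 2709)])))))
(Tr.nd (nat_lit 2749) (Tr.lf (Fc.ed (nat_lit 2748) (nat_lit 696) Col.d (nat_lit 392) (Dv.wd (nat_lit 120) [Mv.b (nat_lit 2356), Mv.b (nat_lit 2709)])))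
(Tr.nd (nat_lit 2750) (Tr.lf (Fc.ed (nat_lit 2749) (nat_lit 260) Col.g (nat_lit 131) (Dv.wd (nat_lit 129) [Mv.f (nat_lit 2538), Mv.f (nat_lit 2717)])))
(Tr.lf (Fc.ed (nat_lit 2750) (nat_lit 260) Col.gi (nat_lit 131) (Dv.wd (nat_lit 128) [Mv.f (nat_lit 768), Mv.f (nat_lit 2717)])))))))))
(Tr.nd (nat_lit 2771) (Tr.nd (nat_lit 2761) (Tr.nd (nat_lit 2756) (Tr.nd (nat_lit 2753) (Tr.nd (nat_lit 2752) (Tr.lf (Fc.al (nat_lit 2751) (nat_lit 364) (nat_lit 343) (Dv.wd (nat_lit 30) [Mv.b (nat_lit 817), Mv.f (nat_lit 2717), Mv.b (nat_lit 2548)])))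
(Tr.lf (Fc.ed (nat_lit 2752) (nat_lit 240) Col.g (nat_lit 125) (Dv.wd (nat_lit 129) [Mv.b (nat_lit 2513), Mv.f (nat_lit 2722)]))))
(Tr.nd (nat_lit 2754) (Tr.lf (Fc.ed (nat_lit 2753) (nat_lit 240) Col.gi (nat_lit 125) (Dv.wd (nat_lit 128) [Mv.f (nat_lit 2517), Mv.f (nat_lit 2722)])))
(Tr.nd (nat_lit 2755) (Tr.lf (Fc.ed (nat_lit 2754) (nat_lit 240) Col.d (nat_lit 240) (Dv.wd (nat_lit 120) [Mv.b (nat_lit 2722), Mv.f (nat_lit 1835), Mv.f (nat_lit 2722)])))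
(Tr.lf (Fc.ed (nat_lit 2755) (nat_lit 347) Col.a (nat_lit 347) (Dv.wd (nat_lit 29) [Mv.b (nat_lit 1046), Mv.f (nat_lit 2723)]))))))
(Tr.nd (nat_lit 2758) (Tr.nd (nat_lit 2757) (Tr.lf (Fc.ed (nat_lit 2756) (nat_lit 347) Col.c (nat_lit 125) (Dv.wd (nat_lit 103) [Mv.f (nat_lit 1045), Mv.f (nat_lit 2723)])))
(Tr.lf (Fc.ed (nat_lit 2757) (nat_lit 347) Col.f (nat_lit 347) (Dv.wd (nat_lit 30) [Mv.f (nat_lit 2529), Mv.f (nat_lit 2723)]))))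
(Tr.nd (nat_lit 2759) (Tr.lf (Fc.ed (nat_lit 2758) (nat_lit 408) Col.g (nat_lit 571) (Dv.wd (nat_lit 129) [Mv.b (nat_lit 1369), Mv.b (nat_lit 2730)])))
(Tr.nd (nat_lit 2760) (Tr.lf (Fc.ed (nat_lit 2759) (nat_lit 408) Col.gi (nat_lit 637) (Dv.wd (nat_lit 128) [Mv.b (nat_lit 1878), Mv.b (nat_lit 2730)])))
(Tr.lf (Fc.ed (nat_lit 2760) (nat_lit 481) Col.d (nat_lit 438) (Dv.wd (nat_lit 120) [Mv.f (nat_lit 1147), Mv.f (nat_lit 2734)])))))))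
(Tr.nd (nat_lit 2766) (Tr.nd (nat_lit 2763) (Tr.nd (nat_lit 2762) (Tr.lf (Fc.ed (nat_lit 2761) (nat_lit 481) Col.e (nat_lit 495) (Dv.wd (nat_lit 117) [Mv.b (nat_lit 1154), Mv.f (nat_lit 2734)])))
(Tr.lf (Fc.ed (nat_lit 2762) (nat_lit 481) Col.f (nat_lit 481) (Dv.wd (nat_lit 30) [Mv.b (nat_lit 1149), Mv.f (nat_lit 2734)]))))
(Tr.nd (nat_lit 2764) (Tr.lf (Fc.ed (nat_lit 2763) (nat_lit 498) Col.gi (nat_lit 237) (Dv.wd (nat_lit 128) [Mv.b (nat_lit 1199), Mv.f (nat_lit 2742)])))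
(Tr.nd (nat_lit 2765) (Tr.lf (Fc.ed (nat_lit 2764) (nat_lit 343) Col.a (nat_lit 260) (Dv.wd (nat_lit 29) [Mv.f (nat_lit 868), Mv.f (nat_lit 2751)])))
(Tr.lf (Fc.ed (nat_lit 2765) (nat_lit 343) Col.c (nat_lit 720) (Dv.wd (nat_lit 103) [Mv.f (nat_lit 2552), Mv.f (nat_lit 2751)]))))))
(Tr.nd (nat_lit 2768) (Tr.nd (nat_lit 2767) (Tr.lf (Fc.ed (nat_lit 2766) (nat_lit 343) Col.f (nat_lit 260) (Dv.wd (nat_lit 30) [Mv.b (nat_lit 2548), Mv.f (nat_lit 2751)])))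
(Tr.lf (Fc.ed (nat_lit 2767) (nat_lit 875) Col.f (nat_lit 875) (Dv.wd (nat_lit 26) [Mv.b (nat_lit 2535), Mv.f (nat_lit 2762), Mv.f (nat_lit 2535)]))))
(Tr.nd (nat_lit 2769) (Tr.lf (Fc.ed (nat_lit 2768) (nat_lit 477) Col.e (nat_lit 477) (Dv.wd (nat_lit 140) [Mv.f (nat_lit 1157), Mv.b (nat_lit 2761), Mv.f (nat_lit 2762), Mv.f (nat_lit 2761), Mv.b (nat_lit 1157)])))
(Tr.nd (nat_lit 2770) (Tr.lf (Fc.ed (nat_lit 2769) (nat_lit 271) Col.e (nat_lit 271) (Dv.wd (nat_lit 56) [Mv.f (nat_lit 1158), Mv.f (nat_lit 2768), Mv.b (nat_lit 1158)])))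
(Tr.lf (Fc.ed (nat_lit 2770) (nat_lit 831) Col.e (nat_lit 831) (Dv.wd (nat_lit 25) [Mv.b (nat_lit 2746), Mv.f (nat_lit 2769), Mv.f (nat_lit 2746)]))))))))
(Tr.nd (nat_lit 2781) (Tr.nd (nat_lit 2776) (Tr.nd (nat_lit 2773) (Tr.nd (nat_lit 2772) (Tr.lf (Fc.ed (nat_lit 2771) (nat_lit 511) Col.d (nat_lit 511) (Dv.wd (nat_lit 36) [Mv.b (nat_lit 1188), Mv.f (nat_lit 1854), Mv.f (nat_lit 2769), Mv.b (nat_lit 1854), Mv.f (nat_lit 1188)])))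
(Tr.lf (Fc.ed (nat_lit 2772) (nat_lit 426) Col.d (nat_lit 426) (Dv.wd (nat_lit 58) [Mv.b (nat_lit 1189), Mv.f (nat_lit 2771), Mv.f (nat_lit 1189)]))))
(Tr.nd (nat_lit 2774) (Tr.lf (Fc.ed (nat_lit 2773) (nat_lit 756) Col.g (nat_lit 426) (Dv.wd (nat_lit 55) [Mv.f (nat_lit 2772), Mv.b (nat_lit 987), Mv.b (nat_lit 1844), Mv.f (nat_lit 2688), Mv.b (nat_lit 2493), Mv.b (nat_lit 1527), Mv.f (nat_lit 2490), Mv.f (nat_lit 2489), Mv.b (nat_lit 2485), Mv.f (nat_lit 2493)])))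
(Tr.nd (nat_lit 2775) (Tr.lf (Fc.al (nat_lit 2774) (nat_lit 409) (nat_lit 756) (Dv.wd (nat_lit 38) [Mv.f (nat_lit 2773), Mv.b (nat_lit 987), Mv.b (nat_lit 2731), Mv.b (nat_lit 464), Mv.f (nat_lit 2626), Mv.f (nat_lit 2593), Mv.f (nat_lit 2589), Mv.f (nat_lit 89), Mv.b (nat_lit 2627), Mv.f (nat_lit 2631), Mv.f (nat_lit 953)])))
(Tr.lf (Fc.ed (nat_lit 2775) (nat_lit 409) Col.g (nat_lit 426) (Dv.wd (nat_lit 129) [Mv.b (nat_lit 2773), Mv.b (nat_lit 2774)]))))))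
(Tr.nd (nat_lit 2778) (Tr.nd (nat_lit 2777) (Tr.lf (Fc.ed (nat_lit 2776) (nat_lit 409) Col.gi (nat_lit 430) (Dv.wd (nat_lit 128) [Mv.f (nat_lit 2565), Mv.b (nat_lit 2774)])))
(Tr.lf (Fc.al (nat_lit 2777) (nat_lit 523) (nat_lit 585) (Dv.wd (nat_lit 120) [Mv.f (nat_lit 2493), Mv.b (nat_lit 2774), Mv.b (nat_lit 2508)]))))
(Tr.nd (nat_lit 2779) (Tr.lf (Fc.al (nat_lit 2778) (nat_lit 395) (nat_lit 220) (Dv.wd (nat_lit 117) [Mv.f (nat_lit 2688), Mv.b (nat_lit 2774), Mv.b (nat_lit 953)])))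
(Tr.nd (nat_lit 2780) (Tr.lf (Fc.al (nat_lit 2779) (nat_lit 851) (nat_lit 467) (Dv.wd (nat_lit 128) [Mv.f (nat_lit 1527), Mv.b (nat_lit 2777), Mv.f (nat_lit 2427)])))
(Tr.lf (Fc.ed (nat_lit 2780) (nat_lit 523) Col.gi (nat_lit 880) (Dv.wd (nat_lit 128) [Mv.b (nat_lit 2485), Mv.b (nat_lit 2777)])))))))
(Tr.nd (nat_lit 2786) (Tr.nd (nat_lit 2783) (Tr.nd (nat_lit 2782) (Tr.lf (Fc.ed (nat_lit 2781) (nat_lit 523) Col.a (nat_lit 523) (Dv.wd (nat_lit 29) [Mv.f (nat_lit 2507), Mv.b (nat_lit 2777)])))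
(Tr.lf (Fc.al (nat_lit 2782) (nat_lit 219) (nat_lit 401) (Dv.wd (nat_lit 117) [Mv.f (nat_lit 2726), Mv.b (nat_lit 2777), Mv.b (nat_lit 1212)]))))
(Tr.nd (nat_lit 2784) (Tr.lf (Fc.al (nat_lit 2783) (nat_lit 782) (nat_lit 836) (Dv.wd (nat_lit 30) [Mv.b (nat_lit 2388), Mv.b (nat_lit 2777), Mv.f (nat_lit 2509)])))
(Tr.nd (nat_lit 2785) (Tr.lf (Fc.ed (nat_lit 2784) (nat_lit 220) Col.a (nat_lit 220) (Dv.wd (nat_lit 29) [Mv.b (nat_lit 2727), Mv.f (nat_lit 2778)])))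
(Tr.lf (Fc.ed (nat_lit 2785) (nat_lit 220) Col.c (nat_lit 868) (Dv.wd (nat_lit 103) [Mv.b (nat_lit 2728), Mv.f (nat_lit 2778)]))))))
(Tr.nd (nat_lit 2789) (Tr.nd (nat_lit 2787) (Tr.lf (Fc.al (nat_lit 2786) (nat_lit 77) (nat_lit 38) (Dv.wd (nat_lit 120) [Mv.f (nat_lit 2631), Mv.f (nat_lit 2778), Mv.b (nat_lit 2676)])))
(Tr.nd (nat_lit 2788) (Tr.lf (Fc.ed (nat_lit 2787) (nat_lit 220) Col.e (nat_lit 409) (Dv.wd (nat_lit 117) [Mv.b (nat_lit 953), Mv.f (nat_lit 2778)])))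
(Tr.lf (Fc.ed (nat_lit 2788) (nat_lit 467) Col.gi (nat_lit 523) (Dv.wd (nat_lit 128) [Mv.f (nat_lit 2427), Mv.f (nat_lit 2779)])))))
(Tr.nd (nat_lit 2790) (Tr.lf (Fc.ed (nat_lit 2789) (nat_lit 219) Col.a (nat_lit 219) (Dv.wd (nat_lit 29) [Mv.b (nat_lit 2724), Mv.b (nat_lit 2782)])))
(Tr.nd (nat_lit 2791) (Tr.lf (Fc.al (nat_lit 2790) (nat_lit 74) (nat_lit 67) (Dv.wd (nat_lit 120) [Mv.b (nat_lit 2725), Mv.b (nat_lit 2782), Mv.b (nat_lit 2679)])))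
(Tr.lf (Fc.ed (nat_lit 2791) (nat_lit 219) Col.f (nat_lit 220) (Dv.wd (nat_lit 30) [Mv.f (nat_lit 938), Mv.b (nat_lit 2782)])))))))))))
(Tr.nd (nat_lit 2874) (Tr.nd (nat_lit 2833) (Tr.nd (nat_lit 2812) (Tr.nd (nat_lit 2802) (Tr.nd (nat_lit 2797) (Tr.nd (nat_lit 2794) (Tr.nd (nat_lit 2793) (Tr.lf (Fc.ed (nat_lit 2792) (nat_lit 782) Col.a (nat_lit 782) (Dv.wd (nat_lit 29) [Mv.b (nat_lit 2389), Mv.b (nat_lit 2783)])))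
(Tr.lf (Fc.al (nat_lit 2793) (nat_lit 221) (nat_lit 215) (Dv.wd (nat_lit 103) [Mv.b (nat_lit 536), Mv.f (nat_lit 2786), Mv.b (nat_lit 545)]))))
(Tr.nd (nat_lit 2795) (Tr.lf (Fc.ed (nat_lit 2794) (nat_lit 38) Col.d (nat_lit 220) (Dv.wd (nat_lit 120) [Mv.b (nat_lit 2676), Mv.f (nat_lit 2786)])))
(Tr.nd (nat_lit 2796) (Tr.lf (Fc.ed (nat_lit 2795) (nat_lit 67) Col.b (nat_lit 480) (Dv.wd (nat_lit 119) [Mv.b (nat_lit 2678), Mv.f (nat_lit 2790)])))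
(Tr.lf (Fc.ed (nat_lit 2796) (nat_lit 67) Col.d (nat_lit 219) (Dv.wd (nat_lit 120) [Mv.b (nat_lit 2679), Mv.f (nat_lit 2790)]))))))
(Tr.nd (nat_lit 2799) (Tr.nd (nat_lit 2798) (Tr.lf (Fc.al (nat_lit 2797) (nat_lit 418) (nat_lit 446) (Dv.wd (nat_lit 128) [Mv.b (nat_lit 1022), Mv.f (nat_lit 2793), Mv.b (nat_lit 970)])))
(Tr.lf (Fc.ed (nat_lit 2798) (nat_lit 215) Col.gi (nat_lit 394) (Dv.wd (nat_lit 128) [Mv.f (nat_lit 928), Mv.f (nat_lit 2793)]))))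
(Tr.nd (nat_lit 2800) (Tr.lf (Fc.ed (nat_lit 2799) (nat_lit 215) Col.c (nat_lit 38) (Dv.wd (nat_lit 103) [Mv.b (nat_lit 545), Mv.f (nat_lit 2793)])))
(Tr.nd (nat_lit 2801) (Tr.lf (Fc.ed (nat_lit 2800) (nat_lit 418) Col.c (nat_lit 805) (Dv.wd (nat_lit 103) [Mv.b (nat_lit 2716), Mv.b (nat_lit 2797)])))
(Tr.lf (Fc.al (nat_lit 2801) (nat_lit 531) (nat_lit 460) (Dv.wd (nat_lit 30) [Mv.f (nat_lit 1044), Mv.b (nat_lit 2797), Mv.f (nat_lit 1269)])))))))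
(Tr.nd (nat_lit 2807) (Tr.nd (nat_lit 2804) (Tr.nd (nat_lit 2803) (Tr.lf (Fc.ed (nat_lit 2802) (nat_lit 460) Col.f (nat_lit 418) (Dv.wd (nat_lit 30) [Mv.f (nat_lit 1269), Mv.f (nat_lit 2801)])))
(Tr.lf (Fc.al (nat_lit 2803) (nat_lit 775) (nat_lit 849) (Dv.wd (nat_lit 69) [Mv.b (nat_lit 2421), Mv.b (nat_lit 1742), Mv.f (nat_lit 2586), Mv.f (nat_lit 89), Mv.b (nat_lit 2633), Mv.f (nat_lit 2796), Mv.b (nat_lit 542), Mv.f (nat_lit 609), Mv.b (nat_lit 2705), Mv.f (nat_lit 2228)]))))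
(Tr.nd (nat_lit 2805) (Tr.lf (Fc.ed (nat_lit 2804) (nat_lit 775) Col.g (nat_lit 632) (Dv.wd (nat_lit 129) [Mv.f (nat_lit 2421), Mv.b (nat_lit 2803)])))
(Tr.nd (nat_lit 2806) (Tr.lf (Fc.ed (nat_lit 2805) (nat_lit 775) Col.gi (nat_lit 593) (Dv.wd (nat_lit 128) [Mv.b (nat_lit 2422), Mv.b (nat_lit 2803)])))
(Tr.lf (Fc.ed (nat_lit 2806) (nat_lit 504) Col.g (nat_lit 593) (Dv.wd (nat_lit 69) [Mv.f (nat_lit 2661), Mv.f (nat_lit 751), Mv.f (nat_lit 30), Mv.f (nat_lit 2639), Mv.f (nat_lit 2794), Mv.f (nat_lit 1844), Mv.b (nat_lit 1843), Mv.f (nat_lit 2710), Mv.f (nat_lit 1175)]))))))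
(Tr.nd (nat_lit 2809) (Tr.nd (nat_lit 2808) (Tr.lf (Fc.ed (nat_lit 2807) (nat_lit 426) Col.g (nat_lit 728) (Dv.wd (nat_lit 55) [Mv.f (nat_lit 2561), Mv.b (nat_lit 2562), Mv.b (nat_lit 2123), Mv.b (nat_lit 2576), Mv.f (nat_lit 89), Mv.b (nat_lit 2627), Mv.f (nat_lit 2794), Mv.f (nat_lit 2787), Mv.f (nat_lit 2775), Mv.f (nat_lit 2772)])))
(Tr.lf (Fc.ed (nat_lit 2808) (nat_lit 632) Col.g (nat_lit 504) (Dv.wd (nat_lit 17) [Mv.f (nat_lit 2806), Mv.f (nat_lit 2660), Mv.f (nat_lit 2662)]))))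
(Tr.nd (nat_lit 2810) (Tr.lf (Fc.ed (nat_lit 2809) (nat_lit 857) Col.e (nat_lit 478) (Dv.wd (nat_lit 47) [Mv.f (nat_lit 1175), Mv.f (nat_lit 2806), Mv.f (nat_lit 2661), Mv.b (nat_lit 750), Mv.b (nat_lit 2705), Mv.f (nat_lit 2228), Mv.f (nat_lit 2804), Mv.b (nat_lit 1742), Mv.f (nat_lit 1847), Mv.f (nat_lit 2436)])))
(Tr.nd (nat_lit 2811) (Tr.lf (Fc.ed (nat_lit 2810) (nat_lit 459) Col.gi (nat_lit 857) (Dv.wd (nat_lit 132) [Mv.f (nat_lit 2809), Mv.f (nat_lit 1175), Mv.b (nat_lit 2808), Mv.b (nat_lit 1742), Mv.b (nat_lit 2613), Mv.f (nat_lit 2360), Mv.b (nat_lit 2659), Mv.f (nat_lit 2658), Mv.f (nat_lit 2748), Mv.b (nat_lit 1849)])))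
(Tr.lf (Fc.ed (nat_lit 2811) (nat_lit 459) Col.a (nat_lit 459) (Dv.wd (nat_lit 23) [Mv.f (nat_lit 2810), Mv.b (nat_lit 2436), Mv.b (nat_lit 1049)]))))))))
(Tr.nd (nat_lit 2822) (Tr.nd (nat_lit 2817) (Tr.nd (nat_lit 2814) (Tr.nd (nat_lit 2813) (Tr.lf (Fc.ed (nat_lit 2812) (nat_lit 868) Col.a (nat_lit 868) (Dv.wd (nat_lit 19) [Mv.b (nat_lit 2785), Mv.f (nat_lit 2784), Mv.f (nat_lit 2785)])))
(Tr.lf (Fc.ed (nat_lit 2813) (nat_lit 868) Col.g (nat_lit 854) (Dv.wd (nat_lit 145) [Mv.f (nat_lit 2431), Mv.b (nat_lit 2190), Mv.f (nat_lit 1894), Mv.f (nat_lit 28), Mv.f (nat_lit 281), Mv.b (nat_lit 286), Mv.b (nat_lit 285), Mv.b (nat_lit 2687), Mv.f (nat_lit 2785)]))))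
(Tr.nd (nat_lit 2815) (Tr.lf (Fc.ed (nat_lit 2814) (nat_lit 871) Col.f (nat_lit 871) (Dv.wd (nat_lit 41) [Mv.f (nat_lit 2464), Mv.b (nat_lit 2377), Mv.f (nat_lit 2770), Mv.f (nat_lit 2377), Mv.b (nat_lit 2464)])))
(Tr.nd (nat_lit 2816) (Tr.lf (Fc.al (nat_lit 2815) (nat_lit 878) (nat_lit 852) (Dv.wd (nat_lit 111) [Mv.b (nat_lit 2428), Mv.b (nat_lit 2224), Mv.b (nat_lit 2527), Mv.f (nat_lit 2756), Mv.b (nat_lit 2753), Mv.f (nat_lit 2754), Mv.f (nat_lit 2752), Mv.b (nat_lit 317), Mv.b (nat_lit 2719), Mv.f (nat_lit 2482)])))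
(Tr.lf (Fc.ed (nat_lit 2816) (nat_lit 852) Col.d (nat_lit 131) (Dv.wd (nat_lit 120) [Mv.f (nat_lit 2482), Mv.f (nat_lit 2815)]))))))
(Tr.nd (nat_lit 2819) (Tr.nd (nat_lit 2818) (Tr.lf (Fc.ed (nat_lit 2817) (nat_lit 852) Col.a (nat_lit 852) (Dv.wd (nat_lit 54) [Mv.f (nat_lit 2816), Mv.f (nat_lit 2718), Mv.b (nat_lit 2816)])))
(Tr.lf (Fc.ed (nat_lit 2818) (nat_lit 852) Col.f (nat_lit 852) (Dv.wd (nat_lit 86) [Mv.f (nat_lit 2816), Mv.f (nat_lit 2721), Mv.b (nat_lit 2816)]))))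
(Tr.nd (nat_lit 2820) (Tr.lf (Fc.ed (nat_lit 2819) (nat_lit 773) Col.gi (nat_lit 852) (Dv.wd (nat_lit 24) [Mv.f (nat_lit 2818), Mv.f (nat_lit 2817), Mv.b (nat_lit 2428)])))
(Tr.nd (nat_lit 2821) (Tr.lf (Fc.ed (nat_lit 2820) (nat_lit 703) Col.g (nat_lit 696) (Dv.wd (nat_lit 69) [Mv.f (nat_lit 2748), Mv.f (nat_lit 1843), Mv.b (nat_lit 2731), Mv.f (nat_lit 1837), Mv.b (nat_lit 281), Mv.f (nat_lit 46), Mv.b (nat_lit 2586), Mv.b (nat_lit 1612), Mv.b (nat_lit 2656)])))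
(Tr.lf (Fc.ed (nat_lit 2821) (nat_lit 771) Col.g (nat_lit 703) (Dv.wd (nat_lit 17) [Mv.f (nat_lit 2820), Mv.f (nat_lit 2747), Mv.b (nat_lit 2221)])))))))
(Tr.nd (nat_lit 2827) (Tr.nd (nat_lit 2824) (Tr.nd (nat_lit 2823) (Tr.lf (Fc.ed (nat_lit 2822) (nat_lit 511) Col.c (nat_lit 793) (Dv.wd (nat_lit 109) [Mv.f (nat_lit 2272), Mv.f (nat_lit 2741), Mv.f (nat_lit 1188)])))
(Tr.lf (Fc.ed (nat_lit 2823) (nat_lit 673) Col.f (nat_lit 673) (Dv.wd (nat_lit 26) [Mv.b (nat_lit 2733), Mv.f (nat_lit 2736), Mv.f (nat_lit 2733)]))))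
(Tr.nd (nat_lit 2825) (Tr.lf (Fc.ed (nat_lit 2824) (nat_lit 417) Col.e (nat_lit 417) (Dv.wd (nat_lit 140) [Mv.b (nat_lit 1011), Mv.b (nat_lit 2735), Mv.f (nat_lit 2736), Mv.f (nat_lit 2735), Mv.f (nat_lit 1011)])))
(Tr.nd (nat_lit 2826) (Tr.lf (Fc.ed (nat_lit 2825) (nat_lit 711) Col.e (nat_lit 711) (Dv.wd (nat_lit 25) [Mv.b (nat_lit 2085), Mv.f (nat_lit 2824), Mv.f (nat_lit 2085)])))
(Tr.lf (Fc.ed (nat_lit 2826) (nat_lit 737) Col.e (nat_lit 737) (Dv.wd (nat_lit 56) [Mv.f (nat_lit 2142), Mv.f (nat_lit 2825), Mv.b (nat_lit 2142)]))))))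
(Tr.nd (nat_lit 2830) (Tr.nd (nat_lit 2828) (Tr.lf (Fc.ed (nat_lit 2827) (nat_lit 372) Col.g (nat_lit 303) (Dv.wd (nat_lit 17) [Mv.f (nat_lit 1000), Mv.f (nat_lit 1373), Mv.f (nat_lit 2701)])))
(Tr.nd (nat_lit 2829) (Tr.lf (Fc.ed (nat_lit 2828) (nat_lit 417) Col.b (nat_lit 417) (Dv.wd (nat_lit 107) [Mv.b (nat_lit 1011), Mv.f (nat_lit 2693), Mv.f (nat_lit 1011)])))
(Tr.lf (Fc.ed (nat_lit 2829) (nat_lit 303) Col.b (nat_lit 303) (Dv.wd (nat_lit 126) [Mv.b (nat_lit 968), Mv.f (nat_lit 2828), Mv.f (nat_lit 968)])))))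
(Tr.nd (nat_lit 2831) (Tr.lf (Fc.ed (nat_lit 2830) (nat_lit 455) Col.gi (nat_lit 417) (Dv.wd (nat_lit 24) [Mv.b (nat_lit 1011), Mv.f (nat_lit 2692), Mv.f (nat_lit 1038)])))
(Tr.nd (nat_lit 2832) (Tr.lf (Fc.ed (nat_lit 2831) (nat_lit 440) Col.g (nat_lit 456) (Dv.wd (nat_lit 17) [Mv.b (nat_lit 1039), Mv.f (nat_lit 2605), Mv.b (nat_lit 1011)])))
(Tr.lf (Fc.ed (nat_lit 2832) (nat_lit 431) Col.g (nat_lit 881) Dv.df))))))))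
(Tr.nd (nat_lit 2853) (Tr.nd (nat_lit 2843) (Tr.nd (nat_lit 2838) (Tr.nd (nat_lit 2835) (Tr.nd (nat_lit 2834) (Tr.lf (Fc.ed (nat_lit 2833) (nat_lit 805) Col.f (nat_lit 882) Dv.df))
(Tr.lf (Fc.ed (nat_lit 2834) (nat_lit 882) Col.c (nat_lit 460) (Dv.wd (nat_lit 34) [Mv.f (nat_lit 2802), Mv.f (nat_lit 2800), Mv.f (nat_lit 2833)]))))
(Tr.nd (nat_lit 2836) (Tr.lf (Fc.ed (nat_lit 2835) (nat_lit 750) Col.gi (nat_lit 883) Dv.df))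
(Tr.nd (nat_lit 2837) (Tr.lf (Fc.ed (nat_lit 2836) (nat_lit 883) Col.f (nat_lit 698) (Dv.wd (nat_lit 13) [Mv.b (nat_lit 2046), Mv.b (nat_lit 2172), Mv.f (nat_lit 2835)])))
(Tr.lf (Fc.ed (nat_lit 2837) (nat_lit 883) Col.e (nat_lit 674) (Dv.wd (nat_lit 146) [Mv.b (nat_lit 1975), Mv.f (nat_lit 1300), Mv.b (nat_lit 1257), Mv.b (nat_lit 1719), Mv.b (nat_lit 1540), Mv.f (nat_lit 2081), Mv.f (nat_lit 2322), Mv.b (nat_lit 2320), Mv.f (nat_lit 2317), Mv.f (nat_lit 2835)]))))))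
(Tr.nd (nat_lit 2840) (Tr.nd (nat_lit 2839) (Tr.lf (Fc.ed (nat_lit 2838) (nat_lit 584) Col.a (nat_lit 883) (Dv.wd (nat_lit 31) [Mv.f (nat_lit 2837), Mv.f (nat_lit 1976), Mv.f (nat_lit 1523)])))
(Tr.lf (Fc.ed (nat_lit 2839) (nat_lit 883) Col.b (nat_lit 883) (Dv.wd (nat_lit 127) [Mv.f (nat_lit 2837), Mv.f (nat_lit 1977), Mv.b (nat_lit 2837)]))))
(Tr.nd (nat_lit 2841) (Tr.lf (Fc.ed (nat_lit 2840) (nat_lit 171) Col.b (nat_lit 884) Dv.df))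
(Tr.nd (nat_lit 2842) (Tr.lf (Fc.ed (nat_lit 2841) (nat_lit 884) Col.f (nat_lit 884) (Dv.wd (nat_lit 20) [Mv.b (nat_lit 2840), Mv.f (nat_lit 1794), Mv.f (nat_lit 2840)])))
(Tr.lf (Fc.ed (nat_lit 2842) (nat_lit 811) Col.c (nat_lit 885) Dv.df))))))
(Tr.nd (nat_lit 2848) (Tr.nd (nat_lit 2845) (Tr.nd (nat_lit 2844) (Tr.lf (Fc.ed (nat_lit 2843) (nat_lit 860) Col.d (nat_lit 886) Dv.df))
(Tr.lf (Fc.ed (nat_lit 2844) (nat_lit 886) Col.c (nat_lit 699) (Dv.wd (nat_lit 80) [Mv.b (nat_lit 2047), Mv.b (nat_lit 1059), Mv.f (nat_lit 705), Mv.b (nat_lit 765), Mv.b (nat_lit 1662), Mv.f (nat_lit 1663), Mv.b (nat_lit 1934), Mv.f (nat_lit 2441), Mv.f (nat_lit 2843)]))))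
(Tr.nd (nat_lit 2846) (Tr.lf (Fc.ed (nat_lit 2845) (nat_lit 101) Col.c (nat_lit 887) Dv.df))
(Tr.nd (nat_lit 2847) (Tr.lf (Fc.ed (nat_lit 2846) (nat_lit 887) Col.f (nat_lit 820) (Dv.wd (nat_lit 26) [Mv.b (nat_lit 2343), Mv.f (nat_lit 485), Mv.f (nat_lit 2845)])))
(Tr.lf (Fc.ed (nat_lit 2847) (nat_lit 623) Col.c (nat_lit 888) Dv.df)))))
(Tr.nd (nat_lit 2850) (Tr.nd (nat_lit 2849) (Tr.lf (Fc.ed (nat_lit 2848) (nat_lit 265) Col.d (nat_lit 889) Dv.df))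
(Tr.lf (Fc.ed (nat_lit 2849) (nat_lit 736) Col.b (nat_lit 890) Dv.df)))
(Tr.nd (nat_lit 2851) (Tr.lf (Fc.ed (nat_lit 2850) (nat_lit 890) Col.c (nat_lit 840) (Dv.wd (nat_lit 93) [Mv.b (nat_lit 2402), Mv.b (nat_lit 879), Mv.f (nat_lit 1729), Mv.f (nat_lit 2140), Mv.f (nat_lit 2849)])))
(Tr.nd (nat_lit 2852) (Tr.lf (Fc.ed (nat_lit 2851) (nat_lit 887) Col.d (nat_lit 891) Dv.df))
(Tr.lf (Fc.ed (nat_lit 2852) (nat_lit 891) Col.c (nat_lit 394) (Dv.wd (nat_lit 32) [Mv.b (nat_lit 927), Mv.b (nat_lit 572), Mv.b (nat_lit 2638), Mv.b (nat_lit 30), Mv.f (nat_lit 2598), Mv.b (nat_lit 2625), Mv.f (nat_lit 1786), Mv.f (nat_lit 2845), Mv.f (nat_lit 2851)]))))))))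
(Tr.nd (nat_lit 2863) (Tr.nd (nat_lit 2858) (Tr.nd (nat_lit 2855) (Tr.nd (nat_lit 2854) (Tr.lf (Fc.ed (nat_lit 2853) (nat_lit 882) Col.a (nat_lit 891) (Dv.wd (nat_lit 76) [Mv.f (nat_lit 2852), Mv.f (nat_lit 1043), Mv.b (nat_lit 2834)])))
(Tr.lf (Fc.ed (nat_lit 2854) (nat_lit 755) Col.d (nat_lit 892) Dv.df)))
(Tr.nd (nat_lit 2856) (Tr.lf (Fc.ed (nat_lit 2855) (nat_lit 892) Col.b (nat_lit 316) (Dv.wd (nat_lit 37) [Mv.b (nat_lit 758), Mv.b (nat_lit 2184), Mv.f (nat_lit 2854)])))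
(Tr.nd (nat_lit 2857) (Tr.lf (Fc.ed (nat_lit 2856) (nat_lit 892) Col.f (nat_lit 832) (Dv.wd (nat_lit 11) [Mv.b (nat_lit 2378), Mv.f (nat_lit 2183), Mv.f (nat_lit 2854)])))
(Tr.lf (Fc.ed (nat_lit 2857) (nat_lit 812) Col.c (nat_lit 893) Dv.df)))))
(Tr.nd (nat_lit 2860) (Tr.nd (nat_lit 2859) (Tr.lf (Fc.ed (nat_lit 2858) (nat_lit 893) Col.e (nat_lit 846) (Dv.wd (nat_lit 25) [Mv.b (nat_lit 2415), Mv.b (nat_lit 2325), Mv.f (nat_lit 2857)])))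
(Tr.lf (Fc.ed (nat_lit 2859) (nat_lit 893) Col.b (nat_lit 617) (Dv.wd (nat_lit 87) [Mv.b (nat_lit 1874), Mv.f (nat_lit 1524), Mv.f (nat_lit 943), Mv.f (nat_lit 2324), Mv.f (nat_lit 2857)]))))
(Tr.nd (nat_lit 2861) (Tr.lf (Fc.ed (nat_lit 2860) (nat_lit 840) Col.f (nat_lit 894) Dv.df))
(Tr.nd (nat_lit 2862) (Tr.lf (Fc.ed (nat_lit 2861) (nat_lit 735) Col.c (nat_lit 895) Dv.df))
(Tr.lf (Fc.ed (nat_lit 2862) (nat_lit 895) Col.a (nat_lit 895) (Dv.wd (nat_lit 19) [Mv.b (nat_lit 2861), Mv.f (nat_lit 2139), Mv.f (nat_lit 2861)])))))))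
(Tr.nd (nat_lit 2868) (Tr.nd (nat_lit 2865) (Tr.nd (nat_lit 2864) (Tr.lf (Fc.ed (nat_lit 2863) (nat_lit 456) Col.a (nat_lit 896) Dv.df))
(Tr.lf (Fc.ed (nat_lit 2864) (nat_lit 396) Col.a (nat_lit 897) Dv.df)))
(Tr.nd (nat_lit 2866) (Tr.lf (Fc.ed (nat_lit 2865) (nat_lit 897) Col.d (nat_lit 804) (Dv.wd (nat_lit 28) [Mv.b (nat_lit 2302), Mv.f (nat_lit 2010), Mv.f (nat_lit 2864)])))
(Tr.nd (nat_lit 2867) (Tr.lf (Fc.ed (nat_lit 2866) (nat_lit 897) Col.b (nat_lit 897) (Dv.wd (nat_lit 65) [Mv.b (nat_lit 2864), Mv.b (nat_lit 930), Mv.f (nat_lit 476), Mv.f (nat_lit 930), Mv.f (nat_lit 2864)])))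
(Tr.lf (Fc.ed (nat_lit 2867) (nat_lit 536) Col.a (nat_lit 898) Dv.df)))))
(Tr.nd (nat_lit 2871) (Tr.nd (nat_lit 2869) (Tr.lf (Fc.ed (nat_lit 2868) (nat_lit 898) Col.c (nat_lit 572) (Dv.wd (nat_lit 33) [Mv.f (nat_lit 1372), Mv.f (nat_lit 1285), Mv.f (nat_lit 2867)])))
(Tr.nd (nat_lit 2870) (Tr.lf (Fc.ed (nat_lit 2869) (nat_lit 898) Col.f (nat_lit 509) (Dv.wd (nat_lit 35) [Mv.f (nat_lit 1186), Mv.b (nat_lit 1286), Mv.f (nat_lit 2867)])))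
(Tr.lf (Fc.ed (nat_lit 2870) (nat_lit 491) Col.d (nat_lit 899) Dv.df))))
(Tr.nd (nat_lit 2872) (Tr.lf (Fc.ed (nat_lit 2871) (nat_lit 819) Col.gi (nat_lit 900) Dv.df))
(Tr.nd (nat_lit 2873) (Tr.lf (Fc.ed (nat_lit 2872) (nat_lit 900) Col.d (nat_lit 554) (Dv.wd (nat_lit 48) [Mv.f (nat_lit 1901), Mv.f (nat_lit 1904), Mv.f (nat_lit 1670), Mv.f (nat_lit 1748), Mv.f (nat_lit 1750), Mv.f (nat_lit 742), Mv.b (nat_lit 806), Mv.b (nat_lit 2342), Mv.f (nat_lit 2871)])))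
(Tr.lf (Fc.ed (nat_lit 2873) (nat_lit 859) Col.g (nat_lit 900) (Dv.wd (nat_lit 69) [Mv.f (nat_lit 2872), Mv.b (nat_lit 1498), Mv.f (nat_lit 1499), Mv.b (nat_lit 1493), Mv.b (nat_lit 415), Mv.f (nat_lit 491), Mv.b (nat_lit 1428), Mv.f (nat_lit 1429), Mv.f (nat_lit 2439)]))))))))))
(Tr.nd (nat_lit 2915) (Tr.nd (nat_lit 2894) (Tr.nd (nat_lit 2884) (Tr.nd (nat_lit 2879) (Tr.nd (nat_lit 2876) (Tr.nd (nat_lit 2875) (Tr.lf (Fc.ed (nat_lit 2874) (nat_lit 563) Col.d (nat_lit 901) Dv.df))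
(Tr.lf (Fc.ed (nat_lit 2875) (nat_lit 706) Col.a (nat_lit 902) Dv.df)))
(Tr.nd (nat_lit 2877) (Tr.lf (Fc.ed (nat_lit 2876) (nat_lit 902) Col.f (nat_lit 706) (Dv.wd (nat_lit 10) [Mv.f (nat_lit 2074), Mv.f (nat_lit 2527), Mv.f (nat_lit 2875)])))
(Tr.nd (nat_lit 2878) (Tr.lf (Fc.ed (nat_lit 2877) (nat_lit 886) Col.gi (nat_lit 903) Dv.df))
(Tr.lf (Fc.ed (nat_lit 2878) (nat_lit 903) Col.c (nat_lit 701) (Dv.wd (nat_lit 81) [Mv.f (nat_lit 2055), Mv.b (nat_lit 1883), Mv.b (nat_lit 1308), Mv.b (nat_lit 1303), Mv.f (nat_lit 1226), Mv.f (nat_lit 1059), Mv.f (nat_lit 2047), Mv.b (nat_lit 2844), Mv.f (nat_lit 2877)]))))))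
(Tr.nd (nat_lit 2881) (Tr.nd (nat_lit 2880) (Tr.lf (Fc.ed (nat_lit 2879) (nat_lit 243) Col.gi (nat_lit 904) Dv.df))
(Tr.lf (Fc.ed (nat_lit 2880) (nat_lit 311) Col.b (nat_lit 905) Dv.df)))
(Tr.nd (nat_lit 2882) (Tr.lf (Fc.ed (nat_lit 2881) (nat_lit 452) Col.b (nat_lit 906) Dv.df))
(Tr.nd (nat_lit 2883) (Tr.lf (Fc.ed (nat_lit 2882) (nat_lit 567) Col.a (nat_lit 907) Dv.df))
(Tr.lf (Fc.ed (nat_lit 2883) (nat_lit 907) Col.f (nat_lit 478) (Dv.wd (nat_lit 35) [Mv.f (nat_lit 2706), Mv.f (nat_lit 2413), Mv.f (nat_lit 2882)])))))))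
(Tr.nd (nat_lit 2889) (Tr.nd (nat_lit 2886) (Tr.nd (nat_lit 2885) (Tr.lf (Fc.ed (nat_lit 2884) (nat_lit 679) Col.c (nat_lit 908) Dv.df))
(Tr.lf (Fc.ed (nat_lit 2885) (nat_lit 908) Col.d (nat_lit 903) (Dv.wd (nat_lit 147) [Mv.f (nat_lit 2878), Mv.f (nat_lit 2056), Mv.b (nat_lit 685), Mv.f (nat_lit 623), Mv.f (nat_lit 685), Mv.b (nat_lit 2056), Mv.f (nat_lit 2059), Mv.b (nat_lit 2057), Mv.f (nat_lit 2884)]))))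
(Tr.nd (nat_lit 2887) (Tr.lf (Fc.ed (nat_lit 2886) (nat_lit 886) Col.g (nat_lit 908) (Dv.wd (nat_lit 145) [Mv.f (nat_lit 2885), Mv.b (nat_lit 2877), Mv.b (nat_lit 2843), Mv.b (nat_lit 2441), Mv.b (nat_lit 1933), Mv.b (nat_lit 1132), Mv.b (nat_lit 2087), Mv.b (nat_lit 2086), Mv.b (nat_lit 2844)])))
(Tr.nd (nat_lit 2888) (Tr.lf (Fc.ed (nat_lit 2887) (nat_lit 804) Col.f (nat_lit 909) Dv.df))
(Tr.lf (Fc.ed (nat_lit 2888) (nat_lit 909) Col.a (nat_lit 424) (Dv.wd (nat_lit 16) [Mv.b (nat_lit 2012), Mv.f (nat_lit 2302), Mv.f (nat_lit 2887)]))))))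
(Tr.nd (nat_lit 2891) (Tr.nd (nat_lit 2890) (Tr.lf (Fc.ed (nat_lit 2889) (nat_lit 909) Col.b (nat_lit 909) (Dv.wd (nat_lit 66) [Mv.b (nat_lit 2887), Mv.f (nat_lit 2305), Mv.f (nat_lit 2887)])))
(Tr.lf (Fc.ed (nat_lit 2890) (nat_lit 909) Col.c (nat_lit 909) (Dv.wd (nat_lit 34) [Mv.b (nat_lit 2887), Mv.f (nat_lit 2303), Mv.f (nat_lit 2887)]))))
(Tr.nd (nat_lit 2892) (Tr.lf (Fc.ed (nat_lit 2891) (nat_lit 894) Col.d (nat_lit 910) Dv.df))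
(Tr.nd (nat_lit 2893) (Tr.lf (Fc.ed (nat_lit 2892) (nat_lit 906) Col.f (nat_lit 911) Dv.df))
(Tr.lf (Fc.ed (nat_lit 2893) (nat_lit 911) Col.b (nat_lit 449) (Dv.wd (nat_lit 66) [Mv.b (nat_lit 1032), Mv.f (nat_lit 2881), Mv.f (nat_lit 2892)]))))))))
(Tr.nd (nat_lit 2904) (Tr.nd (nat_lit 2899) (Tr.nd (nat_lit 2896) (Tr.nd (nat_lit 2895) (Tr.lf (Fc.ed (nat_lit 2894) (nat_lit 798) Col.f (nat_lit 912) Dv.df))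
(Tr.lf (Fc.ed (nat_lit 2895) (nat_lit 912) Col.d (nat_lit 882) (Dv.wd (nat_lit 21) [Mv.b (nat_lit 2833), Mv.f (nat_lit 2307), Mv.f (nat_lit 2894)]))))
(Tr.nd (nat_lit 2897) (Tr.lf (Fc.ed (nat_lit 2896) (nat_lit 563) Col.c (nat_lit 913) Dv.df))
(Tr.nd (nat_lit 2898) (Tr.lf (Fc.ed (nat_lit 2897) (nat_lit 93) Col.c (nat_lit 914) Dv.df))
(Tr.lf (Fc.ed (nat_lit 2898) (nat_lit 860) Col.g (nat_lit 915) Dv.df)))))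
(Tr.nd (nat_lit 2901) (Tr.nd (nat_lit 2900) (Tr.lf (Fc.ed (nat_lit 2899) (nat_lit 915) Col.c (nat_lit 671) (Dv.wd (nat_lit 138) [Mv.b (nat_lit 1986), Mv.f (nat_lit 2130), Mv.f (nat_lit 2162), Mv.f (nat_lit 2163), Mv.f (nat_lit 1992), Mv.f (nat_lit 2884), Mv.b (nat_lit 2886), Mv.b (nat_lit 2843), Mv.f (nat_lit 2898)])))
(Tr.lf (Fc.ed (nat_lit 2900) (nat_lit 891) Col.f (nat_lit 916) Dv.df)))
(Tr.nd (nat_lit 2902) (Tr.lf (Fc.ed (nat_lit 2901) (nat_lit 916) Col.a (nat_lit 805) (Dv.wd (nat_lit 16) [Mv.f (nat_lit 2833), Mv.f (nat_lit 2853), Mv.f (nat_lit 2900)])))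
(Tr.nd (nat_lit 2903) (Tr.lf (Fc.ed (nat_lit 2902) (nat_lit 916) Col.d (nat_lit 820) (Dv.wd (nat_lit 21) [Mv.b (nat_lit 2846), Mv.f (nat_lit 2851), Mv.f (nat_lit 2900)])))
(Tr.lf (Fc.ed (nat_lit 2903) (nat_lit 914) Col.g (nat_lit 917) Dv.df))))))
(Tr.nd (nat_lit 2909) (Tr.nd (nat_lit 2906) (Tr.nd (nat_lit 2905) (Tr.lf (Fc.ed (nat_lit 2904) (nat_lit 917) Col.c (nat_lit 581) (Dv.wd (nat_lit 124) [Mv.b (nat_lit 1431), Mv.b (nat_lit 963), Mv.f (nat_lit 943), Mv.b (nat_lit 1649), Mv.b (nat_lit 1641), Mv.f (nat_lit 1659), Mv.b (nat_lit 432), Mv.b (nat_lit 245), Mv.f (nat_lit 2897), Mv.f (nat_lit 2903)])))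
(Tr.lf (Fc.ed (nat_lit 2905) (nat_lit 463) Col.gi (nat_lit 918) Dv.df)))
(Tr.nd (nat_lit 2907) (Tr.lf (Fc.ed (nat_lit 2906) (nat_lit 918) Col.gi (nat_lit 459) (Dv.wd (nat_lit 24) [Mv.f (nat_lit 1049), Mv.f (nat_lit 2572), Mv.f (nat_lit 2905)])))
(Tr.nd (nat_lit 2908) (Tr.lf (Fc.ed (nat_lit 2907) (nat_lit 883) Col.c (nat_lit 919) Dv.df))
(Tr.lf (Fc.ed (nat_lit 2908) (nat_lit 919) Col.a (nat_lit 617) (Dv.wd (nat_lit 19) [Mv.b (nat_lit 1874), Mv.f (nat_lit 2838), Mv.f (nat_lit 2907)]))))))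
(Tr.nd (nat_lit 2912) (Tr.nd (nat_lit 2910) (Tr.lf (Fc.ed (nat_lit 2909) (nat_lit 919) Col.f (nat_lit 710) (Dv.wd (nat_lit 26) [Mv.b (nat_lit 2083), Mv.b (nat_lit 2836), Mv.f (nat_lit 2907)])))
(Tr.nd (nat_lit 2911) (Tr.lf (Fc.ed (nat_lit 2910) (nat_lit 919) Col.gi (nat_lit 670) (Dv.wd (nat_lit 102) [Mv.f (nat_lit 1965), Mv.f (nat_lit 1513), Mv.f (nat_lit 245), Mv.b (nat_lit 886), Mv.f (nat_lit 1202), Mv.b (nat_lit 1200), Mv.f (nat_lit 2171), Mv.f (nat_lit 2835), Mv.f (nat_lit 2839), Mv.f (nat_lit 2907)])))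
(Tr.lf (Fc.ed (nat_lit 2911) (nat_lit 665) Col.f (nat_lit 617) (Dv.wd (nat_lit 13) [Mv.b (nat_lit 2908), Mv.f (nat_lit 2910), Mv.f (nat_lit 1967)])))))
(Tr.nd (nat_lit 2913) (Tr.lf (Fc.ed (nat_lit 2912) (nat_lit 630) Col.gi (nat_lit 919) (Dv.wd (nat_lit 12) [Mv.f (nat_lit 2910), Mv.f (nat_lit 1966), Mv.f (nat_lit 1932)])))
(Tr.nd (nat_lit 2914) (Tr.lf (Fc.ed (nat_lit 2913) (nat_lit 710) Col.a (nat_lit 665) (Dv.wd (nat_lit 23) [Mv.b (nat_lit 1954), Mv.f (nat_lit 2912), Mv.f (nat_lit 2909)])))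
(Tr.lf (Fc.ed (nat_lit 2914) (nat_lit 665) Col.c (nat_lit 473) (Dv.wd (nat_lit 33) [Mv.f (nat_lit 2046), Mv.f (nat_lit 2083), Mv.f (nat_lit 2913)])))))))))
(Tr.nd (nat_lit 2935) (Tr.nd (nat_lit 2925) (Tr.nd (nat_lit 2920) (Tr.nd (nat_lit 2917) (Tr.nd (nat_lit 2916) (Tr.lf (Fc.ed (nat_lit 2915) (nat_lit 665) Col.e (nat_lit 590) (Dv.wd (nat_lit 56) [Mv.b (nat_lit 1909), Mv.b (nat_lit 2084), Mv.f (nat_lit 2913)])))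
(Tr.lf (Fc.ed (nat_lit 2916) (nat_lit 885) Col.g (nat_lit 705) (Dv.wd (nat_lit 77) [Mv.b (nat_lit 2071), Mv.f (nat_lit 1531), Mv.b (nat_lit 1965), Mv.f (nat_lit 1967), Mv.f (nat_lit 2914), Mv.b (nat_lit 2172), Mv.b (nat_lit 2317), Mv.f (nat_lit 2320), Mv.f (nat_lit 2842)]))))
(Tr.nd (nat_lit 2918) (Tr.lf (Fc.ed (nat_lit 2917) (nat_lit 685) Col.g (nat_lit 885) (Dv.wd (nat_lit 17) [Mv.f (nat_lit 2916), Mv.f (nat_lit 2072), Mv.b (nat_lit 2015)])))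
(Tr.nd (nat_lit 2919) (Tr.lf (Fc.ed (nat_lit 2918) (nat_lit 589) Col.g (nat_lit 282) (Dv.wd (nat_lit 122) [Mv.b (nat_lit 680), Mv.b (nat_lit 248), Mv.f (nat_lit 882), Mv.f (nat_lit 1184), Mv.f (nat_lit 2316), Mv.f (nat_lit 2320), Mv.f (nat_lit 2842), Mv.f (nat_lit 2916), Mv.b (nat_lit 2071), Mv.b (nat_lit 1536)])))
(Tr.lf (Fc.ed (nat_lit 2919) (nat_lit 592) Col.g (nat_lit 589) (Dv.wd (nat_lit 17) [Mv.f (nat_lit 2918), Mv.b (nat_lit 1886), Mv.b (nat_lit 1885)]))))))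
(Tr.nd (nat_lit 2922) (Tr.nd (nat_lit 2921) (Tr.lf (Fc.al (nat_lit 2920) (nat_lit 719) (nat_lit 587) (Dv.wd (nat_lit 47) [Mv.b (nat_lit 1530), Mv.b (nat_lit 1479), Mv.b (nat_lit 294), Mv.f (nat_lit 302), Mv.f (nat_lit 320), Mv.f (nat_lit 584), Mv.b (nat_lit 1537), Mv.f (nat_lit 2918), Mv.f (nat_lit 681), Mv.f (nat_lit 634), Mv.b (nat_lit 2102)])))
(Tr.lf (Fc.al (nat_lit 2921) (nat_lit 589) (nat_lit 814) (Dv.wd (nat_lit 29) [Mv.b (nat_lit 2328), Mv.f (nat_lit 2920), Mv.b (nat_lit 1535)]))))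
(Tr.nd (nat_lit 2923) (Tr.lf (Fc.ed (nat_lit 2922) (nat_lit 589) Col.f (nat_lit 744) (Dv.wd (nat_lit 30) [Mv.b (nat_lit 2329), Mv.b (nat_lit 2921)])))
(Tr.nd (nat_lit 2924) (Tr.lf (Fc.ed (nat_lit 2923) (nat_lit 744) Col.c (nat_lit 685) (Dv.wd (nat_lit 34) [Mv.f (nat_lit 2015), Mv.f (nat_lit 1877), Mv.f (nat_lit 2922)])))
(Tr.lf (Fc.ed (nat_lit 2924) (nat_lit 376) Col.a (nat_lit 920) Dv.df))))))
(Tr.nd (nat_lit 2930) (Tr.nd (nat_lit 2927) (Tr.nd (nat_lit 2926) (Tr.lf (Fc.ed (nat_lit 2925) (nat_lit 920) Col.d (nat_lit 920) (Dv.wd (nat_lit 28) [Mv.b (nat_lit 2924), Mv.f (nat_lit 896), Mv.f (nat_lit 2924)])))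
(Tr.lf (Fc.ed (nat_lit 2926) (nat_lit 920) Col.e (nat_lit 829) (Dv.wd (nat_lit 56) [Mv.b (nat_lit 2672), Mv.b (nat_lit 2715), Mv.f (nat_lit 2924)]))))
(Tr.nd (nat_lit 2928) (Tr.lf (Fc.ed (nat_lit 2927) (nat_lit 920) Col.f (nat_lit 920) (Dv.wd (nat_lit 35) [Mv.b (nat_lit 2924), Mv.f (nat_lit 1823), Mv.f (nat_lit 2924)])))
(Tr.nd (nat_lit 2929) (Tr.lf (Fc.ed (nat_lit 2928) (nat_lit 859) Col.a (nat_lit 921) Dv.df))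
(Tr.lf (Fc.ed (nat_lit 2929) (nat_lit 921) Col.d (nat_lit 344) (Dv.wd (nat_lit 28) [Mv.b (nat_lit 1383), Mv.f (nat_lit 2439), Mv.f (nat_lit 2928)]))))))
(Tr.nd (nat_lit 2932) (Tr.nd (nat_lit 2931) (Tr.lf (Fc.ed (nat_lit 2930) (nat_lit 921) Col.f (nat_lit 819) (Dv.wd (nat_lit 10) [Mv.b (nat_lit 2351), Mv.b (nat_lit 2440), Mv.f (nat_lit 2928)])))
(Tr.lf (Fc.ed (nat_lit 2931) (nat_lit 830) Col.b (nat_lit 921) (Dv.wd (nat_lit 107) [Mv.f (nat_lit 2930), Mv.b (nat_lit 2341), Mv.b (nat_lit 2373)]))))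
(Tr.nd (nat_lit 2933) (Tr.lf (Fc.ed (nat_lit 2932) (nat_lit 921) Col.g (nat_lit 922) Dv.df))
(Tr.nd (nat_lit 2934) (Tr.lf (Fc.ed (nat_lit 2933) (nat_lit 922) Col.d (nat_lit 543) (Dv.wd (nat_lit 85) [Mv.b (nat_lit 1504), Mv.f (nat_lit 1473), Mv.b (nat_lit 467), Mv.f (nat_lit 239), Mv.f (nat_lit 1404), Mv.f (nat_lit 1401), Mv.f (nat_lit 1388), Mv.b (nat_lit 2929), Mv.f (nat_lit 2932)])))
(Tr.lf (Fc.ed (nat_lit 2934) (nat_lit 900) Col.a (nat_lit 922) (Dv.wd (nat_lit 54) [Mv.f (nat_lit 2933), Mv.f (nat_lit 1514), Mv.b (nat_lit 2872)]))))))))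
(Tr.nd (nat_lit 2945) (Tr.nd (nat_lit 2940) (Tr.nd (nat_lit 2937) (Tr.nd (nat_lit 2936) (Tr.lf (Fc.ed (nat_lit 2935) (nat_lit 822) Col.f (nat_lit 922) (Dv.wd (nat_lit 86) [Mv.f (nat_lit 2933), Mv.b (nat_lit 1580), Mv.f (nat_lit 2350)])))
(Tr.lf (Fc.ed (nat_lit 2936) (nat_lit 899) Col.a (nat_lit 923) Dv.df)))
(Tr.nd (nat_lit 2938) (Tr.lf (Fc.ed (nat_lit 2937) (nat_lit 923) Col.d (nat_lit 452) (Dv.wd (nat_lit 28) [Mv.b (nat_lit 1145), Mv.f (nat_lit 2870), Mv.f (nat_lit 2936)])))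
(Tr.nd (nat_lit 2939) (Tr.lf (Fc.ed (nat_lit 2938) (nat_lit 839) Col.b (nat_lit 924) Dv.df))
(Tr.lf (Fc.ed (nat_lit 2939) (nat_lit 924) Col.d (nat_lit 624) (Dv.wd (nat_lit 58) [Mv.b (nat_lit 1721), Mv.f (nat_lit 2398), Mv.f (nat_lit 2938)]))))))
(Tr.nd (nat_lit 2942) (Tr.nd (nat_lit 2941) (Tr.lf (Fc.ed (nat_lit 2940) (nat_lit 867) Col.d (nat_lit 925) Dv.df))
(Tr.lf (Fc.ed (nat_lit 2941) (nat_lit 925) Col.c (nat_lit 923) (Dv.wd (nat_lit 80) [Mv.f (nat_lit 2937), Mv.b (nat_lit 1031), Mv.b (nat_lit 1440), Mv.b (nat_lit 1346), Mv.b (nat_lit 2089), Mv.b (nat_lit 2425), Mv.f (nat_lit 2424), Mv.f (nat_lit 2456), Mv.f (nat_lit 2940)]))))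
(Tr.nd (nat_lit 2943) (Tr.lf (Fc.ed (nat_lit 2942) (nat_lit 895) Col.d (nat_lit 926) Dv.df))
(Tr.nd (nat_lit 2944) (Tr.lf (Fc.ed (nat_lit 2943) (nat_lit 926) Col.a (nat_lit 926) (Dv.wd (nat_lit 8) [Mv.b (nat_lit 2942), Mv.f (nat_lit 2862), Mv.f (nat_lit 2942)])))
(Tr.lf (Fc.ed (nat_lit 2944) (nat_lit 386) Col.g (nat_lit 927) Dv.df))))))
(Tr.nd (nat_lit 2950) (Tr.nd (nat_lit 2947) (Tr.nd (nat_lit 2946) (Tr.lf (Fc.ed (nat_lit 2945) (nat_lit 927) Col.g (nat_lit 897) (Dv.wd (nat_lit 9) [Mv.b (nat_lit 2864), Mv.f (nat_lit 931), Mv.f (nat_lit 2944)])))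
(Tr.lf (Fc.ed (nat_lit 2946) (nat_lit 778) Col.f (nat_lit 928) Dv.df)))
(Tr.nd (nat_lit 2948) (Tr.lf (Fc.ed (nat_lit 2947) (nat_lit 928) Col.b (nat_lit 304) (Dv.wd (nat_lit 66) [Mv.b (nat_lit 1654), Mv.b (nat_lit 2233), Mv.f (nat_lit 2946)])))
(Tr.nd (nat_lit 2949) (Tr.lf (Fc.ed (nat_lit 2948) (nat_lit 928) Col.d (nat_lit 689) (Dv.wd (nat_lit 21) [Mv.b (nat_lit 2039), Mv.f (nat_lit 2232), Mv.f (nat_lit 2946)])))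
(Tr.lf (Fc.ed (nat_lit 2949) (nat_lit 760) Col.d (nat_lit 929) Dv.df)))))
(Tr.nd (nat_lit 2953) (Tr.nd (nat_lit 2951) (Tr.lf (Fc.ed (nat_lit 2950) (nat_lit 929) Col.b (nat_lit 238) (Dv.wd (nat_lit 37) [Mv.b (nat_lit 580), Mv.b (nat_lit 2194), Mv.f (nat_lit 2949)])))
(Tr.nd (nat_lit 2952) (Tr.lf (Fc.ed (nat_lit 2951) (nat_lit 929) Col.f (nat_lit 796) (Dv.wd (nat_lit 11) [Mv.b (nat_lit 2280), Mv.f (nat_lit 2193), Mv.f (nat_lit 2949)])))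
(Tr.lf (Fc.ed (nat_lit 2952) (nat_lit 569) Col.b (nat_lit 930) Dv.df))))
(Tr.nd (nat_lit 2954) (Tr.lf (Fc.ed (nat_lit 2953) (nat_lit 441) Col.gi (nat_lit 931) Dv.df))
(Tr.nd (nat_lit 2955) (Tr.lf (Fc.ed (nat_lit 2954) (nat_lit 931) Col.gi (nat_lit 323) (Dv.wd (nat_lit 24) [Mv.b (nat_lit 775), Mv.f (nat_lit 1012), Mv.f (nat_lit 2953)])))
(Tr.lf (Fc.ed (nat_lit 2955) (nat_lit 529) Col.d (nat_lit 932) Dv.df)))))))))))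
(Tr.nd (nat_lit 3120) (Tr.nd (nat_lit 3038) (Tr.nd (nat_lit 2997) (Tr.nd (nat_lit 2976) (Tr.nd (nat_lit 2966) (Tr.nd (nat_lit 2961) (Tr.nd (nat_lit 2958) (Tr.nd (nat_lit 2957) (Tr.lf (Fc.ed (nat_lit 2956) (nat_lit 932) Col.b (nat_lit 220) (Dv.wd (nat_lit 37) [Mv.b (nat_lit 2794), Mv.f (nat_lit 2629), Mv.f (nat_lit 2955)])))
(Tr.lf (Fc.ed (nat_lit 2957) (nat_lit 932) Col.f (nat_lit 808) (Dv.wd (nat_lit 11) [Mv.b (nat_lit 2314), Mv.f (nat_lit 1263), Mv.f (nat_lit 2955)]))))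
(Tr.nd (nat_lit 2959) (Tr.lf (Fc.ed (nat_lit 2958) (nat_lit 412) Col.b (nat_lit 933) Dv.df))
(Tr.nd (nat_lit 2960) (Tr.lf (Fc.ed (nat_lit 2959) (nat_lit 933) Col.c (nat_lit 933) (Dv.wd (nat_lit 93) [Mv.b (nat_lit 2958), Mv.b (nat_lit 1914), Mv.f (nat_lit 1915), Mv.f (nat_lit 1914), Mv.f (nat_lit 2958)])))
(Tr.lf (Fc.ed (nat_lit 2960) (nat_lit 386) Col.a (nat_lit 934) Dv.df)))))
(Tr.nd (nat_lit 2963) (Tr.nd (nat_lit 2962) (Tr.lf (Fc.ed (nat_lit 2961) (nat_lit 934) Col.d (nat_lit 909) (Dv.wd (nat_lit 28) [Mv.f (nat_lit 2888), Mv.b (nat_lit 983), Mv.f (nat_lit 2960)])))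
(Tr.lf (Fc.ed (nat_lit 2962) (nat_lit 934) Col.f (nat_lit 897) (Dv.wd (nat_lit 35) [Mv.b (nat_lit 2864), Mv.f (nat_lit 931), Mv.f (nat_lit 2960)]))))
(Tr.nd (nat_lit 2964) (Tr.lf (Fc.ed (nat_lit 2963) (nat_lit 889) Col.f (nat_lit 935) Dv.df))
(Tr.nd (nat_lit 2965) (Tr.lf (Fc.ed (nat_lit 2964) (nat_lit 935) Col.d (nat_lit 399) (Dv.wd (nat_lit 21) [Mv.f (nat_lit 935), Mv.f (nat_lit 2848), Mv.f (nat_lit 2963)])))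
(Tr.lf (Fc.ed (nat_lit 2965) (nat_lit 768) Col.d (nat_lit 936) Dv.df))))))
(Tr.nd (nat_lit 2971) (Tr.nd (nat_lit 2968) (Tr.nd (nat_lit 2967) (Tr.lf (Fc.ed (nat_lit 2966) (nat_lit 491) Col.b (nat_lit 937) Dv.df))
(Tr.lf (Fc.ed (nat_lit 2967) (nat_lit 937) Col.c (nat_lit 906) (Dv.wd (nat_lit 93) [Mv.b (nat_lit 2881), Mv.b (nat_lit 1031), Mv.f (nat_lit 1422), Mv.f (nat_lit 1417), Mv.f (nat_lit 2966)]))))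
(Tr.nd (nat_lit 2969) (Tr.lf (Fc.ed (nat_lit 2968) (nat_lit 370) Col.b (nat_lit 938) Dv.df))
(Tr.nd (nat_lit 2970) (Tr.lf (Fc.ed (nat_lit 2969) (nat_lit 938) Col.d (nat_lit 840) (Dv.wd (nat_lit 58) [Mv.b (nat_lit 2402), Mv.f (nat_lit 1106), Mv.f (nat_lit 2968)])))
(Tr.lf (Fc.ed (nat_lit 2970) (nat_lit 910) Col.f (nat_lit 938) (Dv.wd (nat_lit 86) [Mv.f (nat_lit 2969), Mv.f (nat_lit 2860), Mv.f (nat_lit 2891)]))))))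
(Tr.nd (nat_lit 2973) (Tr.nd (nat_lit 2972) (Tr.lf (Fc.ed (nat_lit 2971) (nat_lit 889) Col.g (nat_lit 939) Dv.df))
(Tr.lf (Fc.ed (nat_lit 2972) (nat_lit 939) Col.d (nat_lit 317) (Dv.wd (nat_lit 85) [Mv.f (nat_lit 2729), Mv.b (nat_lit 285), Mv.b (nat_lit 2687), Mv.b (nat_lit 2794), Mv.f (nat_lit 2627), Mv.b (nat_lit 2637), Mv.b (nat_lit 2680), Mv.f (nat_lit 2848), Mv.f (nat_lit 2971)]))))
(Tr.nd (nat_lit 2974) (Tr.lf (Fc.ed (nat_lit 2973) (nat_lit 325) Col.e (nat_lit 265) (Dv.wd (nat_lit 47) [Mv.f (nat_lit 2848), Mv.f (nat_lit 2971), Mv.f (nat_lit 2972), Mv.f (nat_lit 827), Mv.f (nat_lit 2527), Mv.f (nat_lit 2224), Mv.f (nat_lit 2428), Mv.f (nat_lit 2816), Mv.f (nat_lit 2720), Mv.b (nat_lit 780)])))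
(Tr.nd (nat_lit 2975) (Tr.lf (Fc.ed (nat_lit 2974) (nat_lit 381) Col.e (nat_lit 399) (Dv.wd (nat_lit 56) [Mv.b (nat_lit 934), Mv.f (nat_lit 2973), Mv.f (nat_lit 904)])))
(Tr.lf (Fc.al (nat_lit 2975) (nat_lit 399) (nat_lit 325) (Dv.wd (nat_lit 22) [Mv.f (nat_lit 2973), Mv.b (nat_lit 935), Mv.b (nat_lit 2974), Mv.f (nat_lit 905), Mv.f (nat_lit 2973), Mv.b (nat_lit 935)]))))))))
(Tr.nd (nat_lit 2986) (Tr.nd (nat_lit 2981) (Tr.nd (nat_lit 2978) (Tr.nd (nat_lit 2977) (Tr.lf (Fc.ed (nat_lit 2976) (nat_lit 325) Col.d (nat_lit 935) (Dv.wd (nat_lit 120) [Mv.f (nat_lit 2964), Mv.f (nat_lit 2975)])))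
(Tr.lf (Fc.al (nat_lit 2977) (nat_lit 265) (nat_lit 381) (Dv.wd (nat_lit 117) [Mv.f (nat_lit 2974), Mv.f (nat_lit 2975), Mv.f (nat_lit 2973)]))))
(Tr.nd (nat_lit 2979) (Tr.lf (Fc.ed (nat_lit 2978) (nat_lit 265) Col.a (nat_lit 265) (Dv.wd (nat_lit 29) [Mv.f (nat_lit 904), Mv.b (nat_lit 2977)])))
(Tr.nd (nat_lit 2980) (Tr.lf (Fc.ed (nat_lit 2979) (nat_lit 265) Col.f (nat_lit 325) (Dv.wd (nat_lit 30) [Mv.b (nat_lit 905), Mv.b (nat_lit 2977)])))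
(Tr.lf (Fc.ed (nat_lit 2980) (nat_lit 889) Col.a (nat_lit 889) (Dv.wd (nat_lit 54) [Mv.b (nat_lit 2848), Mv.f (nat_lit 2978), Mv.f (nat_lit 2848)]))))))
(Tr.nd (nat_lit 2983) (Tr.nd (nat_lit 2982) (Tr.lf (Fc.ed (nat_lit 2981) (nat_lit 935) Col.a (nat_lit 935) (Dv.wd (nat_lit 79) [Mv.b (nat_lit 2963), Mv.f (nat_lit 2980), Mv.f (nat_lit 2963)])))
(Tr.lf (Fc.ed (nat_lit 2982) (nat_lit 935) Col.gi (nat_lit 939) (Dv.wd (nat_lit 12) [Mv.b (nat_lit 2971), Mv.f (nat_lit 2963), Mv.f (nat_lit 2981)]))))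
(Tr.nd (nat_lit 2984) (Tr.lf (Fc.ed (nat_lit 2983) (nat_lit 571) Col.e (nat_lit 706) (Dv.wd (nat_lit 146) [Mv.f (nat_lit 2224), Mv.f (nat_lit 2819), Mv.f (nat_lit 2816), Mv.f (nat_lit 2720), Mv.b (nat_lit 936), Mv.b (nat_lit 2973), Mv.f (nat_lit 2976), Mv.f (nat_lit 2982), Mv.f (nat_lit 2972), Mv.b (nat_lit 1370)])))
(Tr.nd (nat_lit 2985) (Tr.lf (Fc.ed (nat_lit 2984) (nat_lit 794) Col.d (nat_lit 940) Dv.df))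
(Tr.lf (Fc.ed (nat_lit 2985) (nat_lit 940) Col.gi (nat_lit 936) (Dv.wd (nat_lit 111) [Mv.b (nat_lit 2965), Mv.f (nat_lit 2215), Mv.b (nat_lit 2204), Mv.b (nat_lit 558), Mv.b (nat_lit 1509), Mv.f (nat_lit 1506), Mv.f (nat_lit 181), Mv.b (nat_lit 2274), Mv.f (nat_lit 2984)])))))))
(Tr.nd (nat_lit 2991) (Tr.nd (nat_lit 2988) (Tr.nd (nat_lit 2987) (Tr.lf (Fc.ed (nat_lit 2986) (nat_lit 808) Col.a (nat_lit 941) Dv.df))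
(Tr.lf (Fc.ed (nat_lit 2987) (nat_lit 759) Col.d (nat_lit 942) Dv.df)))
(Tr.nd (nat_lit 2989) (Tr.lf (Fc.ed (nat_lit 2988) (nat_lit 920) Col.c (nat_lit 943) Dv.df))
(Tr.nd (nat_lit 2990) (Tr.lf (Fc.ed (nat_lit 2989) (nat_lit 943) Col.a (nat_lit 651) (Dv.wd (nat_lit 19) [Mv.f (nat_lit 1923), Mv.f (nat_lit 2924), Mv.f (nat_lit 2988)])))
(Tr.lf (Fc.ed (nat_lit 2990) (nat_lit 943) Col.e (nat_lit 842) (Dv.wd (nat_lit 25) [Mv.b (nat_lit 2408), Mv.b (nat_lit 2926), Mv.f (nat_lit 2988)]))))))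
(Tr.nd (nat_lit 2994) (Tr.nd (nat_lit 2992) (Tr.lf (Fc.ed (nat_lit 2991) (nat_lit 923) Col.gi (nat_lit 944) Dv.df))
(Tr.nd (nat_lit 2993) (Tr.lf (Fc.ed (nat_lit 2992) (nat_lit 944) Col.d (nat_lit 576) (Dv.wd (nat_lit 48) [Mv.b (nat_lit 1515), Mv.b (nat_lit 1502), Mv.b (nat_lit 557), Mv.f (nat_lit 239), Mv.f (nat_lit 393), Mv.f (nat_lit 1440), Mv.f (nat_lit 1031), Mv.b (nat_lit 2937), Mv.f (nat_lit 2991)])))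
(Tr.lf (Fc.ed (nat_lit 2993) (nat_lit 832) Col.e (nat_lit 945) Dv.df))))
(Tr.nd (nat_lit 2995) (Tr.lf (Fc.ed (nat_lit 2994) (nat_lit 408) Col.d (nat_lit 946) Dv.df))
(Tr.nd (nat_lit 2996) (Tr.lf (Fc.ed (nat_lit 2995) (nat_lit 946) Col.gi (nat_lit 935) (Dv.wd (nat_lit 111) [Mv.b (nat_lit 2976), Mv.f (nat_lit 780), Mv.b (nat_lit 410), Mv.f (nat_lit 2638), Mv.f (nat_lit 2796), Mv.f (nat_lit 2684), Mv.b (nat_lit 2731), Mv.f (nat_lit 952), Mv.f (nat_lit 2994)])))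
(Tr.lf (Fc.ed (nat_lit 2996) (nat_lit 889) Col.gi (nat_lit 946) (Dv.wd (nat_lit 12) [Mv.f (nat_lit 2995), Mv.b (nat_lit 2963), Mv.f (nat_lit 2980)])))))))))
(Tr.nd (nat_lit 3017) (Tr.nd (nat_lit 3007) (Tr.nd (nat_lit 3002) (Tr.nd (nat_lit 2999) (Tr.nd (nat_lit 2998) (Tr.lf (Fc.ed (nat_lit 2997) (nat_lit 856) Col.e (nat_lit 947) Dv.df))
(Tr.lf (Fc.ed (nat_lit 2998) (nat_lit 636) Col.g (nat_lit 948) Dv.df)))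
(Tr.nd (nat_lit 3000) (Tr.lf (Fc.ed (nat_lit 2999) (nat_lit 948) Col.c (nat_lit 709) (Dv.wd (nat_lit 83) [Mv.f (nat_lit 2322), Mv.f (nat_lit 2842), Mv.b (nat_lit 2917), Mv.b (nat_lit 2923), Mv.b (nat_lit 2158), Mv.b (nat_lit 1887), Mv.f (nat_lit 2919), Mv.b (nat_lit 1877), Mv.f (nat_lit 2998)])))
(Tr.nd (nat_lit 3001) (Tr.lf (Fc.ed (nat_lit 3000) (nat_lit 885) Col.f (nat_lit 948) (Dv.wd (nat_lit 64) [Mv.f (nat_lit 2999), Mv.f (nat_lit 2323), Mv.f (nat_lit 2842)])))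
(Tr.lf (Fc.ed (nat_lit 3001) (nat_lit 841) Col.gi (nat_lit 949) Dv.df)))))
(Tr.nd (nat_lit 3004) (Tr.nd (nat_lit 3003) (Tr.lf (Fc.ed (nat_lit 3002) (nat_lit 949) Col.gi (nat_lit 496) (Dv.wd (nat_lit 24) [Mv.f (nat_lit 1160), Mv.b (nat_lit 2404), Mv.f (nat_lit 3001)])))
(Tr.lf (Fc.ed (nat_lit 3003) (nat_lit 844) Col.e (nat_lit 950) Dv.df)))
(Tr.nd (nat_lit 3005) (Tr.lf (Fc.ed (nat_lit 3004) (nat_lit 950) Col.a (nat_lit 857) (Dv.wd (nat_lit 15) [Mv.f (nat_lit 2809), Mv.f (nat_lit 2706), Mv.f (nat_lit 3003)])))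
(Tr.nd (nat_lit 3006) (Tr.lf (Fc.ed (nat_lit 3005) (nat_lit 918) Col.f (nat_lit 950) (Dv.wd (nat_lit 13) [Mv.f (nat_lit 3004), Mv.b (nat_lit 2436), Mv.f (nat_lit 2905)])))
(Tr.lf (Fc.ed (nat_lit 3006) (nat_lit 830) Col.e (nat_lit 951) Dv.df))))))
(Tr.nd (nat_lit 3012) (Tr.nd (nat_lit 3009) (Tr.nd (nat_lit 3008) (Tr.lf (Fc.ed (nat_lit 3007) (nat_lit 951) Col.d (nat_lit 951) (Dv.wd (nat_lit 59) [Mv.b (nat_lit 3006), Mv.b (nat_lit 2374), Mv.f (nat_lit 753), Mv.f (nat_lit 2374), Mv.f (nat_lit 3006)])))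
(Tr.lf (Fc.ed (nat_lit 3008) (nat_lit 899) Col.g (nat_lit 952) Dv.df)))
(Tr.nd (nat_lit 3010) (Tr.lf (Fc.ed (nat_lit 3009) (nat_lit 952) Col.d (nat_lit 553) (Dv.wd (nat_lit 85) [Mv.b (nat_lit 1330), Mv.f (nat_lit 742), Mv.b (nat_lit 1240), Mv.f (nat_lit 568), Mv.f (nat_lit 1562), Mv.f (nat_lit 1602), Mv.f (nat_lit 1600), Mv.f (nat_lit 2870), Mv.f (nat_lit 3008)])))
(Tr.nd (nat_lit 3011) (Tr.lf (Fc.ed (nat_lit 3010) (nat_lit 944) Col.f (nat_lit 952) (Dv.wd (nat_lit 86) [Mv.f (nat_lit 3009), Mv.f (nat_lit 1379), Mv.b (nat_lit 2992)])))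
(Tr.lf (Fc.ed (nat_lit 3011) (nat_lit 265) Col.c (nat_lit 953) Dv.df)))))
(Tr.nd (nat_lit 3014) (Tr.nd (nat_lit 3013) (Tr.lf (Fc.ed (nat_lit 3012) (nat_lit 953) Col.a (nat_lit 953) (Dv.wd (nat_lit 19) [Mv.b (nat_lit 3011), Mv.f (nat_lit 2978), Mv.f (nat_lit 3011)])))
(Tr.lf (Fc.ed (nat_lit 3013) (nat_lit 894) Col.c (nat_lit 954) Dv.df)))
(Tr.nd (nat_lit 3015) (Tr.lf (Fc.ed (nat_lit 3014) (nat_lit 954) Col.f (nat_lit 890) (Dv.wd (nat_lit 26) [Mv.f (nat_lit 2850), Mv.f (nat_lit 2860), Mv.f (nat_lit 3013)])))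
(Tr.nd (nat_lit 3016) (Tr.lf (Fc.ed (nat_lit 3015) (nat_lit 841) Col.g (nat_lit 955) Dv.df))
(Tr.lf (Fc.ed (nat_lit 3016) (nat_lit 955) Col.g (nat_lit 496) (Dv.wd (nat_lit 9) [Mv.b (nat_lit 2404), Mv.f (nat_lit 2406), Mv.f (nat_lit 3015)]))))))))
(Tr.nd (nat_lit 3027) (Tr.nd (nat_lit 3022) (Tr.nd (nat_lit 3019) (Tr.nd (nat_lit 3018) (Tr.lf (Fc.ed (nat_lit 3017) (nat_lit 949) Col.c (nat_lit 955) (Dv.wd (nat_lit 130) [Mv.f (nat_lit 3016), Mv.f (nat_lit 1161), Mv.b (nat_lit 994), Mv.b (nat_lit 790), Mv.b (nat_lit 762), Mv.b (nat_lit 599), Mv.f (nat_lit 653), Mv.f (nat_lit 829), Mv.f (nat_lit 1159), Mv.b (nat_lit 3002)])))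
(Tr.lf (Fc.ed (nat_lit 3018) (nat_lit 955) Col.b (nat_lit 955) (Dv.wd (nat_lit 106) [Mv.f (nat_lit 3016), Mv.b (nat_lit 1159), Mv.b (nat_lit 829), Mv.f (nat_lit 654), Mv.f (nat_lit 641), Mv.f (nat_lit 1080), Mv.b (nat_lit 1041), Mv.b (nat_lit 1161), Mv.b (nat_lit 3002), Mv.f (nat_lit 3017)]))))
(Tr.nd (nat_lit 3020) (Tr.lf (Fc.ed (nat_lit 3019) (nat_lit 727) Col.d (nat_lit 956) Dv.df))
(Tr.nd (nat_lit 3021) (Tr.lf (Fc.ed (nat_lit 3020) (nat_lit 956) Col.g (nat_lit 899) (Dv.wd (nat_lit 69) [Mv.b (nat_lit 2870), Mv.b (nat_lit 1417), Mv.b (nat_lit 1443), Mv.f (nat_lit 502), Mv.f (nat_lit 415), Mv.f (nat_lit 430), Mv.b (nat_lit 1325), Mv.b (nat_lit 2122), Mv.f (nat_lit 3019)])))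
(Tr.lf (Fc.ed (nat_lit 3021) (nat_lit 823) Col.c (nat_lit 957) Dv.df)))))
(Tr.nd (nat_lit 3024) (Tr.nd (nat_lit 3023) (Tr.lf (Fc.ed (nat_lit 3022) (nat_lit 865) Col.c (nat_lit 958) Dv.df))
(Tr.lf (Fc.ed (nat_lit 3023) (nat_lit 958) Col.a (nat_lit 958) (Dv.wd (nat_lit 19) [Mv.b (nat_lit 3022), Mv.f (nat_lit 2451), Mv.f (nat_lit 3022)]))))
(Tr.nd (nat_lit 3025) (Tr.lf (Fc.ed (nat_lit 3024) (nat_lit 753) Col.c (nat_lit 959) Dv.df))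
(Tr.nd (nat_lit 3026) (Tr.lf (Fc.ed (nat_lit 3025) (nat_lit 921) Col.gi (nat_lit 960) Dv.df))
(Tr.lf (Fc.ed (nat_lit 3026) (nat_lit 960) Col.f (nat_lit 900) (Dv.wd (nat_lit 13) [Mv.f (nat_lit 2934), Mv.b (nat_lit 2932), Mv.f (nat_lit 3025)])))))))
(Tr.nd (nat_lit 3032) (Tr.nd (nat_lit 3029) (Tr.nd (nat_lit 3028) (Tr.lf (Fc.ed (nat_lit 3027) (nat_lit 960) Col.d (nat_lit 614) (Dv.wd (nat_lit 48) [Mv.f (nat_lit 1735), Mv.b (nat_lit 1731), Mv.f (nat_lit 1660), Mv.b (nat_lit 1728), Mv.b (nat_lit 1727), Mv.b (nat_lit 1203), Mv.b (nat_lit 821), Mv.b (nat_lit 2929), Mv.f (nat_lit 3025)])))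
(Tr.lf (Fc.ed (nat_lit 3028) (nat_lit 822) Col.a (nat_lit 960) (Dv.wd (nat_lit 54) [Mv.f (nat_lit 3027), Mv.f (nat_lit 1605), Mv.f (nat_lit 2350)]))))
(Tr.nd (nat_lit 3030) (Tr.lf (Fc.ed (nat_lit 3029) (nat_lit 960) Col.gi (nat_lit 961) Dv.df))
(Tr.nd (nat_lit 3031) (Tr.lf (Fc.ed (nat_lit 3030) (nat_lit 961) Col.gi (nat_lit 922) (Dv.wd (nat_lit 24) [Mv.b (nat_lit 2935), Mv.f (nat_lit 3028), Mv.f (nat_lit 3029)])))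
(Tr.lf (Fc.ed (nat_lit 3031) (nat_lit 961) Col.f (nat_lit 859) (Dv.wd (nat_lit 13) [Mv.f (nat_lit 2928), Mv.f (nat_lit 3025), Mv.f (nat_lit 3029)]))))))
(Tr.nd (nat_lit 3035) (Tr.nd (nat_lit 3033) (Tr.lf (Fc.ed (nat_lit 3032) (nat_lit 961) Col.d (nat_lit 570) (Dv.wd (nat_lit 48) [Mv.b (nat_lit 1366), Mv.f (nat_lit 1346), Mv.f (nat_lit 394), Mv.b (nat_lit 382), Mv.b (nat_lit 558), Mv.b (nat_lit 1509), Mv.f (nat_lit 1604), Mv.b (nat_lit 3027), Mv.f (nat_lit 3029)])))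
(Tr.nd (nat_lit 3034) (Tr.lf (Fc.ed (nat_lit 3033) (nat_lit 819) Col.a (nat_lit 961) (Dv.wd (nat_lit 54) [Mv.f (nat_lit 3032), Mv.f (nat_lit 1367), Mv.b (nat_lit 2342)])))
(Tr.lf (Fc.ed (nat_lit 3034) (nat_lit 940) Col.c (nat_lit 962) Dv.df))))
(Tr.nd (nat_lit 3036) (Tr.lf (Fc.ed (nat_lit 3035) (nat_lit 962) Col.d (nat_lit 959) (Dv.wd (nat_lit 44) [Mv.b (nat_lit 3024), Mv.b (nat_lit 2179), Mv.b (nat_lit 488), Mv.f (nat_lit 332), Mv.f (nat_lit 335), Mv.f (nat_lit 303), Mv.b (nat_lit 2274), Mv.f (nat_lit 2984), Mv.f (nat_lit 3034)])))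
(Tr.nd (nat_lit 3037) (Tr.lf (Fc.ed (nat_lit 3036) (nat_lit 810) Col.c (nat_lit 963) Dv.df))
(Tr.lf (Fc.ed (nat_lit 3037) (nat_lit 942) Col.g (nat_lit 964) Dv.df)))))))))
(Tr.nd (nat_lit 3079) (Tr.nd (nat_lit 3058) (Tr.nd (nat_lit 3048) (Tr.nd (nat_lit 3043) (Tr.nd (nat_lit 3040) (Tr.nd (nat_lit 3039) (Tr.lf (Fc.ed (nat_lit 3038) (nat_lit 964) Col.d (nat_lit 783) (Dv.wd (nat_lit 85) [Mv.f (nat_lit 2245), Mv.b (nat_lit 206), Mv.b (nat_lit 331), Mv.f (nat_lit 1499), Mv.b (nat_lit 1493), Mv.b (nat_lit 2161), Mv.f (nat_lit 2191), Mv.f (nat_lit 2987), Mv.f (nat_lit 3037)])))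
(Tr.lf (Fc.ed (nat_lit 3039) (nat_lit 940) Col.f (nat_lit 964) (Dv.wd (nat_lit 86) [Mv.f (nat_lit 3038), Mv.f (nat_lit 2276), Mv.f (nat_lit 2984)]))))
(Tr.nd (nat_lit 3041) (Tr.lf (Fc.ed (nat_lit 3040) (nat_lit 449) Col.d (nat_lit 965) Dv.df))
(Tr.nd (nat_lit 3042) (Tr.lf (Fc.ed (nat_lit 3041) (nat_lit 965) Col.f (nat_lit 923) (Dv.wd (nat_lit 11) [Mv.f (nat_lit 2937), Mv.f (nat_lit 1032), Mv.f (nat_lit 3040)])))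
(Tr.lf (Fc.ed (nat_lit 3042) (nat_lit 965) Col.g (nat_lit 956) (Dv.wd (nat_lit 69) [Mv.b (nat_lit 3019), Mv.b (nat_lit 2118), Mv.b (nat_lit 1975), Mv.f (nat_lit 1300), Mv.b (nat_lit 1257), Mv.f (nat_lit 1564), Mv.b (nat_lit 1565), Mv.f (nat_lit 1539), Mv.f (nat_lit 3040)]))))))
(Tr.nd (nat_lit 3045) (Tr.nd (nat_lit 3044) (Tr.lf (Fc.ed (nat_lit 3043) (nat_lit 965) Col.gi (nat_lit 952) (Dv.wd (nat_lit 111) [Mv.f (nat_lit 3009), Mv.f (nat_lit 1349), Mv.b (nat_lit 1488), Mv.b (nat_lit 1492), Mv.f (nat_lit 230), Mv.b (nat_lit 492), Mv.f (nat_lit 1444), Mv.f (nat_lit 1413), Mv.f (nat_lit 3040)])))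
(Tr.lf (Fc.ed (nat_lit 3044) (nat_lit 490) Col.c (nat_lit 966) Dv.df)))
(Tr.nd (nat_lit 3046) (Tr.lf (Fc.ed (nat_lit 3045) (nat_lit 471) Col.b (nat_lit 967) Dv.df))
(Tr.nd (nat_lit 3047) (Tr.lf (Fc.ed (nat_lit 3046) (nat_lit 967) Col.e (nat_lit 967) (Dv.wd (nat_lit 52) [Mv.b (nat_lit 3045), Mv.f (nat_lit 1070), Mv.f (nat_lit 3045)])))
(Tr.lf (Fc.ed (nat_lit 3047) (nat_lit 967) Col.c (nat_lit 967) (Dv.wd (nat_lit 93) [Mv.b (nat_lit 3045), Mv.f (nat_lit 1069), Mv.f (nat_lit 1021), Mv.b (nat_lit 1069), Mv.f (nat_lit 3045)])))))))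
(Tr.nd (nat_lit 3053) (Tr.nd (nat_lit 3050) (Tr.nd (nat_lit 3049) (Tr.lf (Fc.ed (nat_lit 3048) (nat_lit 458) Col.d (nat_lit 968) Dv.df))
(Tr.lf (Fc.ed (nat_lit 3049) (nat_lit 968) Col.b (nat_lit 676) (Dv.wd (nat_lit 37) [Mv.f (nat_lit 1984), Mv.f (nat_lit 1080), Mv.f (nat_lit 3048)]))))
(Tr.nd (nat_lit 3051) (Tr.lf (Fc.ed (nat_lit 3050) (nat_lit 968) Col.f (nat_lit 968) (Dv.wd (nat_lit 11) [Mv.b (nat_lit 3048), Mv.f (nat_lit 1081), Mv.f (nat_lit 3048)])))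
(Tr.nd (nat_lit 3052) (Tr.lf (Fc.ed (nat_lit 3051) (nat_lit 572) Col.d (nat_lit 969) Dv.df))
(Tr.lf (Fc.ed (nat_lit 3052) (nat_lit 969) Col.a (nat_lit 738) (Dv.wd (nat_lit 8) [Mv.b (nat_lit 2144), Mv.b (nat_lit 1372), Mv.f (nat_lit 3051)]))))))
(Tr.nd (nat_lit 3055) (Tr.nd (nat_lit 3054) (Tr.lf (Fc.ed (nat_lit 3053) (nat_lit 969) Col.b (nat_lit 969) (Dv.wd (nat_lit 37) [Mv.b (nat_lit 3051), Mv.f (nat_lit 1824), Mv.f (nat_lit 3051)])))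
(Tr.lf (Fc.ed (nat_lit 3054) (nat_lit 969) Col.f (nat_lit 677) (Dv.wd (nat_lit 11) [Mv.b (nat_lit 1988), Mv.f (nat_lit 1371), Mv.f (nat_lit 3051)]))))
(Tr.nd (nat_lit 3056) (Tr.lf (Fc.ed (nat_lit 3055) (nat_lit 294) Col.c (nat_lit 970) Dv.df))
(Tr.nd (nat_lit 3057) (Tr.lf (Fc.ed (nat_lit 3056) (nat_lit 680) Col.c (nat_lit 971) Dv.df))
(Tr.lf (Fc.ed (nat_lit 3057) (nat_lit 971) Col.f (nat_lit 959) (Dv.wd (nat_lit 26) [Mv.b (nat_lit 3024), Mv.f (nat_lit 2180), Mv.f (nat_lit 3056)]))))))))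
(Tr.nd (nat_lit 3068) (Tr.nd (nat_lit 3063) (Tr.nd (nat_lit 3060) (Tr.nd (nat_lit 3059) (Tr.lf (Fc.ed (nat_lit 3058) (nat_lit 971) Col.g (nat_lit 867) (Dv.wd (nat_lit 77) [Mv.b (nat_lit 2456), Mv.f (nat_lit 2212), Mv.b (nat_lit 1401), Mv.b (nat_lit 1403), Mv.f (nat_lit 876), Mv.b (nat_lit 1247), Mv.b (nat_lit 2107), Mv.b (nat_lit 2106), Mv.f (nat_lit 3056)])))
(Tr.lf (Fc.ed (nat_lit 3059) (nat_lit 371) Col.b (nat_lit 972) Dv.df)))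
(Tr.nd (nat_lit 3061) (Tr.lf (Fc.ed (nat_lit 3060) (nat_lit 639) Col.f (nat_lit 973) Dv.df))
(Tr.nd (nat_lit 3062) (Tr.lf (Fc.ed (nat_lit 3061) (nat_lit 973) Col.a (nat_lit 731) (Dv.wd (nat_lit 23) [Mv.b (nat_lit 2128), Mv.f (nat_lit 1881), Mv.f (nat_lit 3060)])))
(Tr.lf (Fc.ed (nat_lit 3062) (nat_lit 462) Col.d (nat_lit 974) Dv.df)))))
(Tr.nd (nat_lit 3065) (Tr.nd (nat_lit 3064) (Tr.lf (Fc.ed (nat_lit 3063) (nat_lit 450) Col.e (nat_lit 975) Dv.df))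
(Tr.lf (Fc.ed (nat_lit 3064) (nat_lit 937) Col.a (nat_lit 976) Dv.df)))
(Tr.nd (nat_lit 3066) (Tr.lf (Fc.ed (nat_lit 3065) (nat_lit 725) Col.f (nat_lit 977) Dv.df))
(Tr.nd (nat_lit 3067) (Tr.lf (Fc.ed (nat_lit 3066) (nat_lit 977) Col.a (nat_lit 831) (Dv.wd (nat_lit 16) [Mv.f (nat_lit 2377), Mv.b (nat_lit 2151), Mv.f (nat_lit 3065)])))
(Tr.lf (Fc.ed (nat_lit 3067) (nat_lit 977) Col.c (nat_lit 477) (Dv.wd (nat_lit 34) [Mv.f (nat_lit 1157), Mv.f (nat_lit 2738), Mv.f (nat_lit 3065)])))))))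
(Tr.nd (nat_lit 3073) (Tr.nd (nat_lit 3070) (Tr.nd (nat_lit 3069) (Tr.lf (Fc.ed (nat_lit 3068) (nat_lit 977) Col.e (nat_lit 977) (Dv.wd (nat_lit 22) [Mv.b (nat_lit 3065), Mv.b (nat_lit 2477), Mv.f (nat_lit 2767), Mv.f (nat_lit 2477), Mv.f (nat_lit 3065)])))
(Tr.lf (Fc.ed (nat_lit 3069) (nat_lit 812) Col.d (nat_lit 978) Dv.df)))
(Tr.nd (nat_lit 3071) (Tr.lf (Fc.ed (nat_lit 3070) (nat_lit 978) Col.b (nat_lit 876) (Dv.wd (nat_lit 37) [Mv.f (nat_lit 2480), Mv.f (nat_lit 2324), Mv.f (nat_lit 3069)])))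
(Tr.nd (nat_lit 3072) (Tr.lf (Fc.ed (nat_lit 3071) (nat_lit 403) Col.b (nat_lit 979) Dv.df))
(Tr.lf (Fc.ed (nat_lit 3072) (nat_lit 860) Col.gi (nat_lit 980) Dv.df)))))
(Tr.nd (nat_lit 3076) (Tr.nd (nat_lit 3074) (Tr.lf (Fc.ed (nat_lit 3073) (nat_lit 980) Col.c (nat_lit 611) (Dv.wd (nat_lit 14) [Mv.b (nat_lit 1594), Mv.b (nat_lit 1586), Mv.b (nat_lit 688), Mv.b (nat_lit 2056), Mv.b (nat_lit 2878), Mv.b (nat_lit 2885), Mv.b (nat_lit 2886), Mv.b (nat_lit 2843), Mv.f (nat_lit 3072)])))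
(Tr.nd (nat_lit 3075) (Tr.lf (Fc.ed (nat_lit 3074) (nat_lit 980) Col.f (nat_lit 980) (Dv.wd (nat_lit 64) [Mv.f (nat_lit 3073), Mv.f (nat_lit 1596), Mv.b (nat_lit 3073)])))
(Tr.lf (Fc.ed (nat_lit 3075) (nat_lit 971) Col.d (nat_lit 981) Dv.df))))
(Tr.nd (nat_lit 3077) (Tr.lf (Fc.ed (nat_lit 3076) (nat_lit 981) Col.c (nat_lit 964) (Dv.wd (nat_lit 80) [Mv.f (nat_lit 3038), Mv.f (nat_lit 2245), Mv.b (nat_lit 206), Mv.f (nat_lit 550), Mv.b (nat_lit 2247), Mv.b (nat_lit 2285), Mv.f (nat_lit 2283), Mv.f (nat_lit 3056), Mv.f (nat_lit 3075)])))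
(Tr.nd (nat_lit 3078) (Tr.lf (Fc.ed (nat_lit 3077) (nat_lit 942) Col.gi (nat_lit 982) Dv.df))
(Tr.lf (Fc.ed (nat_lit 3078) (nat_lit 982) Col.d (nat_lit 787) (Dv.wd (nat_lit 48) [Mv.f (nat_lit 2257), Mv.b (nat_lit 2230), Mv.b (nat_lit 1563), Mv.f (nat_lit 798), Mv.f (nat_lit 1912), Mv.f (nat_lit 1942), Mv.b (nat_lit 2192), Mv.f (nat_lit 2987), Mv.f (nat_lit 3077)])))))))))
(Tr.nd (nat_lit 3099) (Tr.nd (nat_lit 3089) (Tr.nd (nat_lit 3084) (Tr.nd (nat_lit 3081) (Tr.nd (nat_lit 3080) (Tr.lf (Fc.ed (nat_lit 3079) (nat_lit 940) Col.a (nat_lit 982) (Dv.wd (nat_lit 54) [Mv.f (nat_lit 3078), Mv.f (nat_lit 2275), Mv.f (nat_lit 2984)])))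
(Tr.lf (Fc.ed (nat_lit 3080) (nat_lit 982) Col.f (nat_lit 983) Dv.df)))
(Tr.nd (nat_lit 3082) (Tr.lf (Fc.ed (nat_lit 3081) (nat_lit 983) Col.a (nat_lit 964) (Dv.wd (nat_lit 16) [Mv.b (nat_lit 3039), Mv.f (nat_lit 3079), Mv.f (nat_lit 3080)])))
(Tr.nd (nat_lit 3083) (Tr.lf (Fc.ed (nat_lit 3082) (nat_lit 983) Col.d (nat_lit 799) (Dv.wd (nat_lit 21) [Mv.f (nat_lit 2289), Mv.b (nat_lit 3078), Mv.f (nat_lit 3080)])))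
(Tr.lf (Fc.ed (nat_lit 3083) (nat_lit 983) Col.g (nat_lit 936) (Dv.wd (nat_lit 17) [Mv.b (nat_lit 2985), Mv.f (nat_lit 3079), Mv.f (nat_lit 3080)]))))))
(Tr.nd (nat_lit 3086) (Tr.nd (nat_lit 3085) (Tr.lf (Fc.ed (nat_lit 3084) (nat_lit 351) Col.b (nat_lit 984) Dv.df))
(Tr.lf (Fc.ed (nat_lit 3085) (nat_lit 984) Col.e (nat_lit 755) (Dv.wd (nat_lit 52) [Mv.f (nat_lit 2184), Mv.f (nat_lit 837), Mv.f (nat_lit 3084)]))))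
(Tr.nd (nat_lit 3087) (Tr.lf (Fc.ed (nat_lit 3086) (nat_lit 984) Col.f (nat_lit 812) (Dv.wd (nat_lit 20) [Mv.b (nat_lit 2324), Mv.b (nat_lit 839), Mv.f (nat_lit 3084)])))
(Tr.nd (nat_lit 3088) (Tr.lf (Fc.ed (nat_lit 3087) (nat_lit 775) Col.f (nat_lit 985) Dv.df))
(Tr.lf (Fc.ed (nat_lit 3088) (nat_lit 985) Col.d (nat_lit 844) (Dv.wd (nat_lit 21) [Mv.f (nat_lit 2413), Mv.f (nat_lit 2228), Mv.f (nat_lit 3087)])))))))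
(Tr.nd (nat_lit 3094) (Tr.nd (nat_lit 3091) (Tr.nd (nat_lit 3090) (Tr.lf (Fc.ed (nat_lit 3089) (nat_lit 953) Col.f (nat_lit 986) Dv.df))
(Tr.lf (Fc.ed (nat_lit 3090) (nat_lit 986) Col.a (nat_lit 986) (Dv.wd (nat_lit 16) [Mv.b (nat_lit 3089), Mv.f (nat_lit 3012), Mv.f (nat_lit 3089)]))))
(Tr.nd (nat_lit 3092) (Tr.lf (Fc.ed (nat_lit 3091) (nat_lit 986) Col.c (nat_lit 325) (Dv.wd (nat_lit 34) [Mv.b (nat_lit 2979), Mv.f (nat_lit 3011), Mv.f (nat_lit 3089)])))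
(Tr.nd (nat_lit 3093) (Tr.lf (Fc.ed (nat_lit 3092) (nat_lit 953) Col.e (nat_lit 986) (Dv.wd (nat_lit 84) [Mv.f (nat_lit 3091), Mv.f (nat_lit 2973), Mv.f (nat_lit 3011)])))
(Tr.lf (Fc.ed (nat_lit 3093) (nat_lit 465) Col.b (nat_lit 987) Dv.df)))))
(Tr.nd (nat_lit 3096) (Tr.nd (nat_lit 3095) (Tr.lf (Fc.ed (nat_lit 3094) (nat_lit 987) Col.f (nat_lit 937) (Dv.wd (nat_lit 20) [Mv.b (nat_lit 2966), Mv.f (nat_lit 1146), Mv.f (nat_lit 3093)])))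
(Tr.lf (Fc.ed (nat_lit 3095) (nat_lit 987) Col.c (nat_lit 911) (Dv.wd (nat_lit 93) [Mv.f (nat_lit 2893), Mv.b (nat_lit 1413), Mv.b (nat_lit 1423), Mv.b (nat_lit 1053), Mv.f (nat_lit 3093)]))))
(Tr.nd (nat_lit 3097) (Tr.lf (Fc.ed (nat_lit 3096) (nat_lit 897) Col.e (nat_lit 988) Dv.df))
(Tr.nd (nat_lit 3098) (Tr.lf (Fc.ed (nat_lit 3097) (nat_lit 988) Col.a (nat_lit 490) (Dv.wd (nat_lit 15) [Mv.b (nat_lit 1141), Mv.f (nat_lit 2864), Mv.f (nat_lit 3096)])))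
(Tr.lf (Fc.ed (nat_lit 3098) (nat_lit 988) Col.d (nat_lit 988) (Dv.wd (nat_lit 59) [Mv.b (nat_lit 3096), Mv.f (nat_lit 2865), Mv.f (nat_lit 2304), Mv.b (nat_lit 2865), Mv.f (nat_lit 3096)]))))))))
(Tr.nd (nat_lit 3109) (Tr.nd (nat_lit 3104) (Tr.nd (nat_lit 3101) (Tr.nd (nat_lit 3100) (Tr.lf (Fc.ed (nat_lit 3099) (nat_lit 534) Col.a (nat_lit 989) Dv.df))
(Tr.lf (Fc.ed (nat_lit 3100) (nat_lit 989) Col.c (nat_lit 989) (Dv.wd (nat_lit 33) [Mv.b (nat_lit 3099), Mv.f (nat_lit 1281), Mv.f (nat_lit 3099)]))))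
(Tr.nd (nat_lit 3102) (Tr.lf (Fc.ed (nat_lit 3101) (nat_lit 989) Col.e (nat_lit 909) (Dv.wd (nat_lit 56) [Mv.f (nat_lit 2888), Mv.f (nat_lit 1279), Mv.f (nat_lit 3099)])))
(Tr.nd (nat_lit 3103) (Tr.lf (Fc.ed (nat_lit 3102) (nat_lit 989) Col.f (nat_lit 989) (Dv.wd (nat_lit 35) [Mv.b (nat_lit 3099), Mv.f (nat_lit 1282), Mv.f (nat_lit 3099)])))
(Tr.lf (Fc.ed (nat_lit 3103) (nat_lit 989) Col.b (nat_lit 989) (Dv.wd (nat_lit 65) [Mv.b (nat_lit 3099), Mv.f (nat_lit 1280), Mv.f (nat_lit 306), Mv.b (nat_lit 1280), Mv.f (nat_lit 3099)]))))))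
(Tr.nd (nat_lit 3106) (Tr.nd (nat_lit 3105) (Tr.lf (Fc.ed (nat_lit 3104) (nat_lit 564) Col.d (nat_lit 990) Dv.df))
(Tr.lf (Fc.ed (nat_lit 3105) (nat_lit 986) Col.d (nat_lit 991) Dv.df)))
(Tr.nd (nat_lit 3107) (Tr.lf (Fc.ed (nat_lit 3106) (nat_lit 991) Col.a (nat_lit 991) (Dv.wd (nat_lit 8) [Mv.b (nat_lit 3105), Mv.f (nat_lit 3090), Mv.f (nat_lit 3105)])))
(Tr.nd (nat_lit 3108) (Tr.lf (Fc.ed (nat_lit 3107) (nat_lit 991) Col.c (nat_lit 567) (Dv.wd (nat_lit 32) [Mv.f (nat_lit 2705), Mv.b (nat_lit 609), Mv.b (nat_lit 2687), Mv.b (nat_lit 2794), Mv.b (nat_lit 2639), Mv.f (nat_lit 410), Mv.b (nat_lit 780), Mv.b (nat_lit 3091), Mv.f (nat_lit 3105)])))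
(Tr.lf (Fc.al (nat_lit 3108) (nat_lit 907) (nat_lit 567) (Dv.wd (nat_lit 33) [Mv.b (nat_lit 3107), Mv.f (nat_lit 3106), Mv.f (nat_lit 3107), Mv.f (nat_lit 2882)])))))))
(Tr.nd (nat_lit 3114) (Tr.nd (nat_lit 3111) (Tr.nd (nat_lit 3110) (Tr.lf (Fc.ed (nat_lit 3109) (nat_lit 567) Col.a (nat_lit 567) (Dv.wd (nat_lit 29) [Mv.f (nat_lit 2882), Mv.f (nat_lit 3108)])))
(Tr.lf (Fc.al (nat_lit 3110) (nat_lit 844) (nat_lit 478) (Dv.wd (nat_lit 30) [Mv.b (nat_lit 2883), Mv.f (nat_lit 3108), Mv.b (nat_lit 2413)]))))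
(Tr.nd (nat_lit 3112) (Tr.lf (Fc.al (nat_lit 3111) (nat_lit 504) (nat_lit 985) (Dv.wd (nat_lit 120) [Mv.f (nat_lit 3088), Mv.f (nat_lit 3110), Mv.f (nat_lit 1175)])))
(Tr.nd (nat_lit 3113) (Tr.lf (Fc.al (nat_lit 3112) (nat_lit 857) (nat_lit 950) (Dv.wd (nat_lit 117) [Mv.b (nat_lit 3003), Mv.f (nat_lit 3110), Mv.b (nat_lit 2809)])))
(Tr.lf (Fc.ed (nat_lit 3113) (nat_lit 478) Col.f (nat_lit 567) (Dv.wd (nat_lit 30) [Mv.b (nat_lit 2413), Mv.f (nat_lit 3110)]))))))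
(Tr.nd (nat_lit 3117) (Tr.nd (nat_lit 3115) (Tr.lf (Fc.ed (nat_lit 3114) (nat_lit 504) Col.f (nat_lit 775) (Dv.wd (nat_lit 30) [Mv.f (nat_lit 3087), Mv.b (nat_lit 3111)])))
(Tr.nd (nat_lit 3116) (Tr.lf (Fc.ed (nat_lit 3115) (nat_lit 857) Col.a (nat_lit 857) (Dv.wd (nat_lit 29) [Mv.b (nat_lit 3004), Mv.b (nat_lit 3112)])))
(Tr.lf (Fc.ed (nat_lit 3116) (nat_lit 857) Col.f (nat_lit 918) (Dv.wd (nat_lit 30) [Mv.f (nat_lit 3005), Mv.b (nat_lit 3112)])))))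
(Tr.nd (nat_lit 3118) (Tr.lf (Fc.ed (nat_lit 3117) (nat_lit 918) Col.a (nat_lit 918) (Dv.wd (nat_lit 16) [Mv.b (nat_lit 3116), Mv.f (nat_lit 3115), Mv.f (nat_lit 3116)])))
(Tr.nd (nat_lit 3119) (Tr.lf (Fc.ed (nat_lit 3118) (nat_lit 972) Col.e (nat_lit 992) Dv.df))
(Tr.lf (Fc.ed (nat_lit 3119) (nat_lit 992) Col.b (nat_lit 518) (Dv.wd (nat_lit 49) [Mv.f (nat_lit 1681), Mv.f (nat_lit 3059), Mv.f (nat_lit 3118)])))))))))))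
(Tr.nd (nat_lit 3202) (Tr.nd (nat_lit 3161) (Tr.nd (nat_lit 3140) (Tr.nd (nat_lit 3130) (Tr.nd (nat_lit 3125) (Tr.nd (nat_lit 3122) (Tr.nd (nat_lit 3121) (Tr.lf (Fc.ed (nat_lit 3120) (nat_lit 356) Col.b (nat_lit 993) Dv.df))
(Tr.lf (Fc.ed (nat_lit 3121) (nat_lit 797) Col.c (nat_lit 994) Dv.df)))
(Tr.nd (nat_lit 3123) (Tr.lf (Fc.ed (nat_lit 3122) (nat_lit 994) Col.a (nat_lit 971) (Dv.wd (nat_lit 19) [Mv.b (nat_lit 3056), Mv.b (nat_lit 2283), Mv.f (nat_lit 3121)])))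
(Tr.nd (nat_lit 3124) (Tr.lf (Fc.ed (nat_lit 3123) (nat_lit 769) Col.c (nat_lit 995) Dv.df))
(Tr.lf (Fc.ed (nat_lit 3124) (nat_lit 995) Col.a (nat_lit 970) (Dv.wd (nat_lit 19) [Mv.b (nat_lit 3055), Mv.f (nat_lit 2217), Mv.f (nat_lit 3123)]))))))
(Tr.nd (nat_lit 3127) (Tr.nd (nat_lit 3126) (Tr.lf (Fc.ed (nat_lit 3125) (nat_lit 463) Col.b (nat_lit 996) Dv.df))
(Tr.lf (Fc.ed (nat_lit 3126) (nat_lit 996) Col.c (nat_lit 862) (Dv.wd (nat_lit 93) [Mv.b (nat_lit 2443), Mv.b (nat_lit 1940), Mv.f (nat_lit 2570), Mv.b (nat_lit 1846), Mv.f (nat_lit 3125)]))))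
(Tr.nd (nat_lit 3128) (Tr.lf (Fc.ed (nat_lit 3127) (nat_lit 278) Col.gi (nat_lit 997) Dv.df))
(Tr.nd (nat_lit 3129) (Tr.lf (Fc.ed (nat_lit 3128) (nat_lit 647) Col.d (nat_lit 998) Dv.df))
(Tr.lf (Fc.ed (nat_lit 3129) (nat_lit 998) Col.g (nat_lit 990) (Dv.wd (nat_lit 69) [Mv.b (nat_lit 3104), Mv.b (nat_lit 1488), Mv.b (nat_lit 1499), Mv.b (nat_lit 330), Mv.f (nat_lit 302), Mv.f (nat_lit 371), Mv.f (nat_lit 1031), Mv.f (nat_lit 1907), Mv.f (nat_lit 3128)])))))))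
(Tr.nd (nat_lit 3135) (Tr.nd (nat_lit 3132) (Tr.nd (nat_lit 3131) (Tr.lf (Fc.ed (nat_lit 3130) (nat_lit 431) Col.gi (nat_lit 999) Dv.df))
(Tr.lf (Fc.ed (nat_lit 3131) (nat_lit 959) Col.a (nat_lit 1000) Dv.df)))
(Tr.nd (nat_lit 3133) (Tr.lf (Fc.ed (nat_lit 3132) (nat_lit 1000) Col.c (nat_lit 784) (Dv.wd (nat_lit 33) [Mv.b (nat_lit 2248), Mv.f (nat_lit 3024), Mv.f (nat_lit 3131)])))
(Tr.nd (nat_lit 3134) (Tr.lf (Fc.ed (nat_lit 3133) (nat_lit 1000) Col.f (nat_lit 994) (Dv.wd (nat_lit 35) [Mv.f (nat_lit 3122), Mv.f (nat_lit 3057), Mv.f (nat_lit 3131)])))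
(Tr.lf (Fc.ed (nat_lit 3134) (nat_lit 1000) Col.gi (nat_lit 867) (Dv.wd (nat_lit 12) [Mv.b (nat_lit 3058), Mv.f (nat_lit 3057), Mv.f (nat_lit 3131)]))))))
(Tr.nd (nat_lit 3137) (Tr.nd (nat_lit 3136) (Tr.lf (Fc.ed (nat_lit 3135) (nat_lit 347) Col.d (nat_lit 1001) Dv.df))
(Tr.lf (Fc.ed (nat_lit 3136) (nat_lit 1001) Col.a (nat_lit 1001) (Dv.wd (nat_lit 8) [Mv.b (nat_lit 3135), Mv.f (nat_lit 2755), Mv.f (nat_lit 3135)]))))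
(Tr.nd (nat_lit 3138) (Tr.lf (Fc.ed (nat_lit 3137) (nat_lit 1001) Col.f (nat_lit 1001) (Dv.wd (nat_lit 11) [Mv.b (nat_lit 3135), Mv.f (nat_lit 2757), Mv.f (nat_lit 3135)])))
(Tr.nd (nat_lit 3139) (Tr.lf (Fc.ed (nat_lit 3138) (nat_lit 923) Col.g (nat_lit 1002) Dv.df))
(Tr.lf (Fc.ed (nat_lit 3139) (nat_lit 1002) Col.a (nat_lit 952) (Dv.wd (nat_lit 114) [Mv.b (nat_lit 3010), Mv.b (nat_lit 2991), Mv.f (nat_lit 3138)]))))))))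
(Tr.nd (nat_lit 3150) (Tr.nd (nat_lit 3145) (Tr.nd (nat_lit 3142) (Tr.nd (nat_lit 3141) (Tr.lf (Fc.ed (nat_lit 3140) (nat_lit 1002) Col.d (nat_lit 560) (Dv.wd (nat_lit 39) [Mv.f (nat_lit 1603), Mv.f (nat_lit 1600), Mv.f (nat_lit 1518), Mv.f (nat_lit 2870), Mv.f (nat_lit 3008), Mv.f (nat_lit 3009), Mv.b (nat_lit 1522), Mv.f (nat_lit 1435), Mv.b (nat_lit 2937), Mv.f (nat_lit 3138)])))
(Tr.lf (Fc.ed (nat_lit 3141) (nat_lit 956) Col.f (nat_lit 1002) (Dv.wd (nat_lit 86) [Mv.f (nat_lit 3140), Mv.b (nat_lit 2120), Mv.f (nat_lit 3019)]))))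
(Tr.nd (nat_lit 3143) (Tr.lf (Fc.ed (nat_lit 3142) (nat_lit 501) Col.a (nat_lit 1003) Dv.df))
(Tr.nd (nat_lit 3144) (Tr.lf (Fc.ed (nat_lit 3143) (nat_lit 1003) Col.f (nat_lit 562) (Dv.wd (nat_lit 10) [Mv.b (nat_lit 1347), Mv.b (nat_lit 1170), Mv.f (nat_lit 3142)])))
(Tr.lf (Fc.ed (nat_lit 3144) (nat_lit 1001) Col.gi (nat_lit 1004) Dv.df)))))
(Tr.nd (nat_lit 3147) (Tr.nd (nat_lit 3146) (Tr.lf (Fc.ed (nat_lit 3145) (nat_lit 1004) Col.gi (nat_lit 1001) (Dv.wd (nat_lit 24) [Mv.f (nat_lit 3137), Mv.f (nat_lit 3136), Mv.f (nat_lit 3144)])))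
(Tr.lf (Fc.ed (nat_lit 3146) (nat_lit 1004) Col.d (nat_lit 260) (Dv.wd (nat_lit 48) [Mv.f (nat_lit 2750), Mv.f (nat_lit 2719), Mv.b (nat_lit 2532), Mv.f (nat_lit 2533), Mv.b (nat_lit 32), Mv.f (nat_lit 317), Mv.b (nat_lit 2756), Mv.f (nat_lit 3135), Mv.f (nat_lit 3144)]))))
(Tr.nd (nat_lit 3148) (Tr.lf (Fc.ed (nat_lit 3147) (nat_lit 260) Col.e (nat_lit 260) (Dv.wd (nat_lit 131) [Mv.f (nat_lit 2749), Mv.b (nat_lit 2816), Mv.b (nat_lit 2819), Mv.b (nat_lit 2224), Mv.b (nat_lit 2983), Mv.f (nat_lit 1370), Mv.f (nat_lit 827), Mv.f (nat_lit 3135), Mv.b (nat_lit 3145), Mv.f (nat_lit 3146)])))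
(Tr.nd (nat_lit 3149) (Tr.lf (Fc.ed (nat_lit 3148) (nat_lit 343) Col.e (nat_lit 343) (Dv.wd (nat_lit 56) [Mv.f (nat_lit 2764), Mv.f (nat_lit 3147), Mv.b (nat_lit 2764)])))
(Tr.lf (Fc.ed (nat_lit 3149) (nat_lit 387) Col.e (nat_lit 387) (Dv.wd (nat_lit 25) [Mv.f (nat_lit 2550), Mv.f (nat_lit 3147), Mv.b (nat_lit 2550)])))))))
(Tr.nd (nat_lit 3155) (Tr.nd (nat_lit 3152) (Tr.nd (nat_lit 3151) (Tr.lf (Fc.al (nat_lit 3150) (nat_lit 343) (nat_lit 260) (Dv.wd (nat_lit 22) [Mv.f (nat_lit 3147), Mv.b (nat_lit 2766), Mv.f (nat_lit 3148), Mv.f (nat_lit 2766), Mv.f (nat_lit 3147), Mv.b (nat_lit 2766)])))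
(Tr.lf (Fc.al (nat_lit 3151) (nat_lit 387) (nat_lit 720) (Dv.wd (nat_lit 103) [Mv.b (nat_lit 2765), Mv.f (nat_lit 3150), Mv.b (nat_lit 2550)]))))
(Tr.nd (nat_lit 3153) (Tr.lf (Fc.al (nat_lit 3152) (nat_lit 807) (nat_lit 770) (Dv.wd (nat_lit 128) [Mv.b (nat_lit 2219), Mv.b (nat_lit 3151), Mv.f (nat_lit 2313)])))
(Tr.nd (nat_lit 3154) (Tr.lf (Fc.ed (nat_lit 3153) (nat_lit 770) Col.g (nat_lit 387) (Dv.wd (nat_lit 129) [Mv.b (nat_lit 2553), Mv.f (nat_lit 3152)])))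
(Tr.lf (Fc.ed (nat_lit 3154) (nat_lit 770) Col.gi (nat_lit 387) (Dv.wd (nat_lit 128) [Mv.f (nat_lit 2313), Mv.f (nat_lit 3152)]))))))
(Tr.nd (nat_lit 3158) (Tr.nd (nat_lit 3156) (Tr.lf (Fc.ed (nat_lit 3155) (nat_lit 550) Col.g (nat_lit 1005) Dv.df))
(Tr.nd (nat_lit 3157) (Tr.lf (Fc.ed (nat_lit 3156) (nat_lit 1005) Col.g (nat_lit 516) (Dv.wd (nat_lit 9) [Mv.b (nat_lit 1339), Mv.b (nat_lit 1338), Mv.f (nat_lit 3155)])))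
(Tr.lf (Fc.ed (nat_lit 3157) (nat_lit 598) Col.b (nat_lit 1006) Dv.df))))
(Tr.nd (nat_lit 3159) (Tr.lf (Fc.ed (nat_lit 3158) (nat_lit 505) Col.gi (nat_lit 1007) Dv.df))
(Tr.nd (nat_lit 3160) (Tr.lf (Fc.ed (nat_lit 3159) (nat_lit 1007) Col.gi (nat_lit 704) (Dv.wd (nat_lit 24) [Mv.f (nat_lit 2068), Mv.f (nat_lit 1898), Mv.f (nat_lit 3158)])))
(Tr.lf (Fc.ed (nat_lit 3160) (nat_lit 628) Col.a (nat_lit 1007) (Dv.wd (nat_lit 23) [Mv.f (nat_lit 3159), Mv.f (nat_lit 2069), Mv.b (nat_lit 1891)])))))))))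
(Tr.nd (nat_lit 3181) (Tr.nd (nat_lit 3171) (Tr.nd (nat_lit 3166) (Tr.nd (nat_lit 3163) (Tr.nd (nat_lit 3162) (Tr.lf (Fc.ed (nat_lit 3161) (nat_lit 959) Col.gi (nat_lit 1008) Dv.df))
(Tr.lf (Fc.ed (nat_lit 3162) (nat_lit 1008) Col.gi (nat_lit 994) (Dv.wd (nat_lit 24) [Mv.b (nat_lit 3133), Mv.b (nat_lit 3131), Mv.f (nat_lit 3161)]))))
(Tr.nd (nat_lit 3164) (Tr.lf (Fc.ed (nat_lit 3163) (nat_lit 1008) Col.c (nat_lit 850) (Dv.wd (nat_lit 81) [Mv.f (nat_lit 2426), Mv.f (nat_lit 2278), Mv.f (nat_lit 1609), Mv.b (nat_lit 1504), Mv.b (nat_lit 344), Mv.f (nat_lit 488), Mv.f (nat_lit 2179), Mv.f (nat_lit 3024), Mv.f (nat_lit 3161)])))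
(Tr.nd (nat_lit 3165) (Tr.lf (Fc.ed (nat_lit 3164) (nat_lit 867) Col.a (nat_lit 1008) (Dv.wd (nat_lit 76) [Mv.f (nat_lit 3163), Mv.f (nat_lit 2424), Mv.f (nat_lit 2456)])))
(Tr.lf (Fc.ed (nat_lit 3165) (nat_lit 957) Col.g (nat_lit 1009) Dv.df)))))
(Tr.nd (nat_lit 3168) (Tr.nd (nat_lit 3167) (Tr.lf (Fc.ed (nat_lit 3166) (nat_lit 1009) Col.c (nat_lit 819) (Dv.wd (nat_lit 83) [Mv.f (nat_lit 2342), Mv.f (nat_lit 806), Mv.b (nat_lit 1240), Mv.b (nat_lit 1248), Mv.b (nat_lit 1246), Mv.f (nat_lit 2374), Mv.b (nat_lit 2372), Mv.f (nat_lit 3021), Mv.f (nat_lit 3165)])))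
(Tr.lf (Fc.ed (nat_lit 3167) (nat_lit 736) Col.d (nat_lit 1010) Dv.df)))
(Tr.nd (nat_lit 3169) (Tr.lf (Fc.ed (nat_lit 3168) (nat_lit 1010) Col.g (nat_lit 982) (Dv.wd (nat_lit 69) [Mv.f (nat_lit 3078), Mv.b (nat_lit 2256), Mv.b (nat_lit 302), Mv.f (nat_lit 294), Mv.f (nat_lit 1479), Mv.f (nat_lit 431), Mv.b (nat_lit 2253), Mv.b (nat_lit 2255), Mv.f (nat_lit 3167)])))
(Tr.nd (nat_lit 3170) (Tr.lf (Fc.ed (nat_lit 3169) (nat_lit 1010) Col.gi (nat_lit 964) (Dv.wd (nat_lit 111) [Mv.f (nat_lit 3038), Mv.b (nat_lit 2262), Mv.b (nat_lit 2260), Mv.f (nat_lit 1561), Mv.f (nat_lit 1559), Mv.f (nat_lit 1660), Mv.b (nat_lit 1728), Mv.f (nat_lit 2140), Mv.f (nat_lit 3167)])))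
(Tr.lf (Fc.ed (nat_lit 3170) (nat_lit 370) Col.e (nat_lit 1011) Dv.df))))))
(Tr.nd (nat_lit 3176) (Tr.nd (nat_lit 3173) (Tr.nd (nat_lit 3172) (Tr.lf (Fc.ed (nat_lit 3171) (nat_lit 1000) Col.d (nat_lit 1012) Dv.df))
(Tr.lf (Fc.ed (nat_lit 3172) (nat_lit 1012) Col.a (nat_lit 962) (Dv.wd (nat_lit 8) [Mv.f (nat_lit 3035), Mv.f (nat_lit 3131), Mv.f (nat_lit 3171)]))))
(Tr.nd (nat_lit 3174) (Tr.lf (Fc.ed (nat_lit 3173) (nat_lit 1012) Col.c (nat_lit 982) (Dv.wd (nat_lit 80) [Mv.f (nat_lit 3078), Mv.b (nat_lit 2256), Mv.b (nat_lit 302), Mv.f (nat_lit 649), Mv.f (nat_lit 1995), Mv.b (nat_lit 2180), Mv.f (nat_lit 2248), Mv.b (nat_lit 3132), Mv.f (nat_lit 3171)])))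
(Tr.nd (nat_lit 3175) (Tr.lf (Fc.ed (nat_lit 3174) (nat_lit 934) Col.g (nat_lit 1013) Dv.df))
(Tr.lf (Fc.ed (nat_lit 3175) (nat_lit 1013) Col.g (nat_lit 396) (Dv.wd (nat_lit 9) [Mv.f (nat_lit 2864), Mv.b (nat_lit 2962), Mv.f (nat_lit 3174)]))))))
(Tr.nd (nat_lit 3178) (Tr.nd (nat_lit 3177) (Tr.lf (Fc.ed (nat_lit 3176) (nat_lit 682) Col.e (nat_lit 1014) Dv.df))
(Tr.lf (Fc.ed (nat_lit 3177) (nat_lit 1014) Col.d (nat_lit 1011) (Dv.wd (nat_lit 59) [Mv.b (nat_lit 3170), Mv.b (nat_lit 1106), Mv.b (nat_lit 1694), Mv.b (nat_lit 2002), Mv.f (nat_lit 3176)]))))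
(Tr.nd (nat_lit 3179) (Tr.lf (Fc.ed (nat_lit 3178) (nat_lit 777) Col.d (nat_lit 1015) Dv.df))
(Tr.nd (nat_lit 3180) (Tr.lf (Fc.ed (nat_lit 3179) (nat_lit 1008) Col.d (nat_lit 1016) Dv.df))
(Tr.lf (Fc.ed (nat_lit 3180) (nat_lit 1016) Col.a (nat_lit 925) (Dv.wd (nat_lit 8) [Mv.b (nat_lit 2940), Mv.f (nat_lit 3164), Mv.f (nat_lit 3179)]))))))))
(Tr.nd (nat_lit 3191) (Tr.nd (nat_lit 3186) (Tr.nd (nat_lit 3183) (Tr.nd (nat_lit 3182) (Tr.lf (Fc.ed (nat_lit 3181) (nat_lit 1016) Col.c (nat_lit 899) (Dv.wd (nat_lit 80) [Mv.b (nat_lit 2870), Mv.b (nat_lit 1417), Mv.b (nat_lit 1443), Mv.b (nat_lit 1344), Mv.b (nat_lit 2446), Mv.f (nat_lit 2445), Mv.b (nat_lit 2424), Mv.b (nat_lit 3163), Mv.f (nat_lit 3179)])))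
(Tr.lf (Fc.ed (nat_lit 3182) (nat_lit 350) Col.b (nat_lit 1017) Dv.df)))
(Tr.nd (nat_lit 3184) (Tr.lf (Fc.ed (nat_lit 3183) (nat_lit 1017) Col.f (nat_lit 993) (Dv.wd (nat_lit 20) [Mv.b (nat_lit 3120), Mv.f (nat_lit 850), Mv.f (nat_lit 3182)])))
(Tr.nd (nat_lit 3185) (Tr.lf (Fc.ed (nat_lit 3184) (nat_lit 299) Col.e (nat_lit 1018) Dv.df))
(Tr.lf (Fc.ed (nat_lit 3185) (nat_lit 1018) Col.a (nat_lit 1018) (Dv.wd (nat_lit 15) [Mv.b (nat_lit 3184), Mv.f (nat_lit 1653), Mv.f (nat_lit 3184)]))))))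
(Tr.nd (nat_lit 3188) (Tr.nd (nat_lit 3187) (Tr.lf (Fc.ed (nat_lit 3186) (nat_lit 992) Col.f (nat_lit 1019) Dv.df))
(Tr.lf (Fc.ed (nat_lit 3187) (nat_lit 841) Col.d (nat_lit 1020) Dv.df)))
(Tr.nd (nat_lit 3189) (Tr.lf (Fc.ed (nat_lit 3188) (nat_lit 1020) Col.a (nat_lit 740) (Dv.wd (nat_lit 8) [Mv.b (nat_lit 2148), Mv.b (nat_lit 2404), Mv.f (nat_lit 3187)])))
(Tr.nd (nat_lit 3190) (Tr.lf (Fc.ed (nat_lit 3189) (nat_lit 1020) Col.f (nat_lit 1020) (Dv.wd (nat_lit 11) [Mv.b (nat_lit 3187), Mv.f (nat_lit 2406), Mv.f (nat_lit 3187)])))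
(Tr.lf (Fc.ed (nat_lit 3190) (nat_lit 957) Col.d (nat_lit 1021) Dv.df))))))
(Tr.nd (nat_lit 3196) (Tr.nd (nat_lit 3193) (Tr.nd (nat_lit 3192) (Tr.lf (Fc.ed (nat_lit 3191) (nat_lit 679) Col.b (nat_lit 1022) Dv.df))
(Tr.lf (Fc.ed (nat_lit 3192) (nat_lit 1022) Col.d (nat_lit 967) (Dv.wd (nat_lit 58) [Mv.b (nat_lit 3045), Mv.b (nat_lit 1993), Mv.f (nat_lit 3191)]))))
(Tr.nd (nat_lit 3194) (Tr.lf (Fc.ed (nat_lit 3193) (nat_lit 1022) Col.f (nat_lit 1022) (Dv.wd (nat_lit 20) [Mv.b (nat_lit 3191), Mv.f (nat_lit 1994), Mv.f (nat_lit 3191)])))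
(Tr.nd (nat_lit 3195) (Tr.lf (Fc.ed (nat_lit 3194) (nat_lit 1022) Col.a (nat_lit 1022) (Dv.wd (nat_lit 98) [Mv.b (nat_lit 3191), Mv.f (nat_lit 2057), Mv.f (nat_lit 2058), Mv.b (nat_lit 2057), Mv.f (nat_lit 3191)])))
(Tr.lf (Fc.ed (nat_lit 3195) (nat_lit 706) Col.c (nat_lit 1023) Dv.df)))))
(Tr.nd (nat_lit 3199) (Tr.nd (nat_lit 3197) (Tr.lf (Fc.ed (nat_lit 3196) (nat_lit 1023) Col.d (nat_lit 1023) (Dv.wd (nat_lit 62) [Mv.b (nat_lit 3195), Mv.b (nat_lit 2527), Mv.f (nat_lit 2756), Mv.b (nat_lit 2752), Mv.f (nat_lit 2754), Mv.f (nat_lit 2752), Mv.b (nat_lit 2756), Mv.f (nat_lit 2527), Mv.f (nat_lit 3195)])))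
(Tr.nd (nat_lit 3198) (Tr.lf (Fc.ed (nat_lit 3197) (nat_lit 765) Col.d (nat_lit 1024) Dv.df))
(Tr.lf (Fc.ed (nat_lit 3198) (nat_lit 1024) Col.gi (nat_lit 1015) (Dv.wd (nat_lit 111) [Mv.b (nat_lit 3178), Mv.f (nat_lit 2244), Mv.f (nat_lit 2245), Mv.b (nat_lit 372), Mv.b (nat_lit 1440), Mv.f (nat_lit 394), Mv.b (nat_lit 382), Mv.f (nat_lit 2204), Mv.f (nat_lit 3197)])))))
(Tr.nd (nat_lit 3200) (Tr.lf (Fc.ed (nat_lit 3199) (nat_lit 359) Col.b (nat_lit 1025) Dv.df))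
(Tr.nd (nat_lit 3201) (Tr.lf (Fc.ed (nat_lit 3200) (nat_lit 1025) Col.d (nat_lit 993) (Dv.wd (nat_lit 58) [Mv.b (nat_lit 3120), Mv.f (nat_lit 854), Mv.f (nat_lit 3199)])))
(Tr.lf (Fc.ed (nat_lit 3201) (nat_lit 994) Col.d (nat_lit 1026) Dv.df)))))))))
(Tr.nd (nat_lit 3243) (Tr.nd (nat_lit 3222) (Tr.nd (nat_lit 3212) (Tr.nd (nat_lit 3207) (Tr.nd (nat_lit 3204) (Tr.nd (nat_lit 3203) (Tr.lf (Fc.ed (nat_lit 3202) (nat_lit 1026) Col.a (nat_lit 981) (Dv.wd (nat_lit 8) [Mv.b (nat_lit 3075), Mv.b (nat_lit 3122), Mv.f (nat_lit 3201)])))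
(Tr.lf (Fc.ed (nat_lit 3203) (nat_lit 1026) Col.f (nat_lit 1012) (Dv.wd (nat_lit 11) [Mv.b (nat_lit 3171), Mv.f (nat_lit 3133), Mv.f (nat_lit 3201)]))))
(Tr.nd (nat_lit 3205) (Tr.lf (Fc.ed (nat_lit 3204) (nat_lit 1026) Col.c (nat_lit 983) (Dv.wd (nat_lit 80) [Mv.f (nat_lit 3082), Mv.f (nat_lit 2290), Mv.b (nat_lit 332), Mv.f (nat_lit 488), Mv.f (nat_lit 2179), Mv.f (nat_lit 2180), Mv.b (nat_lit 2283), Mv.f (nat_lit 3121), Mv.f (nat_lit 3201)])))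
(Tr.nd (nat_lit 3206) (Tr.lf (Fc.ed (nat_lit 3205) (nat_lit 921) Col.c (nat_lit 1027) Dv.df))
(Tr.lf (Fc.ed (nat_lit 3206) (nat_lit 1027) Col.f (nat_lit 1009) (Dv.wd (nat_lit 26) [Mv.f (nat_lit 3166), Mv.b (nat_lit 2930), Mv.f (nat_lit 3205)]))))))
(Tr.nd (nat_lit 3209) (Tr.nd (nat_lit 3208) (Tr.lf (Fc.ed (nat_lit 3207) (nat_lit 603) Col.b (nat_lit 1028) Dv.df))
(Tr.lf (Fc.ed (nat_lit 3208) (nat_lit 1028) Col.d (nat_lit 687) (Dv.wd (nat_lit 58) [Mv.f (nat_lit 2019), Mv.f (nat_lit 1571), Mv.f (nat_lit 3207)]))))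
(Tr.nd (nat_lit 3210) (Tr.lf (Fc.ed (nat_lit 3209) (nat_lit 1028) Col.f (nat_lit 790) (Dv.wd (nat_lit 20) [Mv.f (nat_lit 2264), Mv.f (nat_lit 1672), Mv.f (nat_lit 3207)])))
(Tr.nd (nat_lit 3211) (Tr.lf (Fc.ed (nat_lit 3210) (nat_lit 1027) Col.d (nat_lit 1029) Dv.df))
(Tr.lf (Fc.ed (nat_lit 3211) (nat_lit 1029) Col.c (nat_lit 1002) (Dv.wd (nat_lit 148) [Mv.f (nat_lit 3140), Mv.b (nat_lit 2120), Mv.f (nat_lit 2119), Mv.f (nat_lit 1380), Mv.b (nat_lit 1203), Mv.b (nat_lit 821), Mv.b (nat_lit 2929), Mv.f (nat_lit 3205), Mv.f (nat_lit 3210)])))))))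
(Tr.nd (nat_lit 3217) (Tr.nd (nat_lit 3214) (Tr.nd (nat_lit 3213) (Tr.lf (Fc.ed (nat_lit 3212) (nat_lit 304) Col.e (nat_lit 1030) Dv.df))
(Tr.lf (Fc.ed (nat_lit 3213) (nat_lit 1030) Col.a (nat_lit 1030) (Dv.wd (nat_lit 15) [Mv.b (nat_lit 3212), Mv.f (nat_lit 1652), Mv.f (nat_lit 3212)]))))
(Tr.nd (nat_lit 3215) (Tr.lf (Fc.ed (nat_lit 3214) (nat_lit 1030) Col.c (nat_lit 1018) (Dv.wd (nat_lit 18) [Mv.b (nat_lit 3184), Mv.f (nat_lit 735), Mv.f (nat_lit 3212)])))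
(Tr.nd (nat_lit 3216) (Tr.lf (Fc.ed (nat_lit 3215) (nat_lit 813) Col.a (nat_lit 1031) Dv.df))
(Tr.lf (Fc.ed (nat_lit 3216) (nat_lit 1031) Col.f (nat_lit 997) (Dv.wd (nat_lit 10) [Mv.b (nat_lit 3127), Mv.f (nat_lit 2667), Mv.f (nat_lit 3215)]))))))
(Tr.nd (nat_lit 3219) (Tr.nd (nat_lit 3218) (Tr.lf (Fc.ed (nat_lit 3217) (nat_lit 713) Col.c (nat_lit 1032) Dv.df))
(Tr.lf (Fc.ed (nat_lit 3218) (nat_lit 1032) Col.f (nat_lit 1008) (Dv.wd (nat_lit 26) [Mv.f (nat_lit 3163), Mv.f (nat_lit 2425), Mv.f (nat_lit 3217)]))))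
(Tr.nd (nat_lit 3220) (Tr.lf (Fc.ed (nat_lit 3219) (nat_lit 1032) Col.g (nat_lit 971) (Dv.wd (nat_lit 77) [Mv.b (nat_lit 3056), Mv.b (nat_lit 1995), Mv.b (nat_lit 649), Mv.f (nat_lit 294), Mv.f (nat_lit 1578), Mv.b (nat_lit 1610), Mv.b (nat_lit 2170), Mv.b (nat_lit 2169), Mv.f (nat_lit 3217)])))
(Tr.nd (nat_lit 3221) (Tr.lf (Fc.ed (nat_lit 3220) (nat_lit 961) Col.c (nat_lit 1033) Dv.df))
(Tr.lf (Fc.ed (nat_lit 3221) (nat_lit 1033) Col.a (nat_lit 1009) (Dv.wd (nat_lit 19) [Mv.f (nat_lit 3166), Mv.f (nat_lit 3033), Mv.f (nat_lit 3220)]))))))))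
(Tr.nd (nat_lit 3232) (Tr.nd (nat_lit 3227) (Tr.nd (nat_lit 3224) (Tr.nd (nat_lit 3223) (Tr.lf (Fc.ed (nat_lit 3222) (nat_lit 484) Col.b (nat_lit 1034) Dv.df))
(Tr.lf (Fc.ed (nat_lit 3223) (nat_lit 1034) Col.d (nat_lit 1006) (Dv.wd (nat_lit 58) [Mv.b (nat_lit 3157), Mv.b (nat_lit 1555), Mv.f (nat_lit 3222)]))))
(Tr.nd (nat_lit 3225) (Tr.lf (Fc.ed (nat_lit 3224) (nat_lit 966) Col.b (nat_lit 1035) Dv.df))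
(Tr.nd (nat_lit 3226) (Tr.lf (Fc.ed (nat_lit 3225) (nat_lit 1035) Col.c (nat_lit 420) (Dv.wd (nat_lit 93) [Mv.b (nat_lit 975), Mv.f (nat_lit 971), Mv.b (nat_lit 1142), Mv.f (nat_lit 3044), Mv.f (nat_lit 3224)])))
(Tr.lf (Fc.ed (nat_lit 3226) (nat_lit 832) Col.a (nat_lit 1036) Dv.df)))))
(Tr.nd (nat_lit 3229) (Tr.nd (nat_lit 3228) (Tr.lf (Fc.ed (nat_lit 3227) (nat_lit 868) Col.e (nat_lit 1037) Dv.df))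
(Tr.lf (Fc.ed (nat_lit 3228) (nat_lit 1037) Col.a (nat_lit 1037) (Dv.wd (nat_lit 15) [Mv.b (nat_lit 3227), Mv.f (nat_lit 2812), Mv.f (nat_lit 3227)]))))
(Tr.nd (nat_lit 3230) (Tr.lf (Fc.ed (nat_lit 3229) (nat_lit 1037) Col.c (nat_lit 409) (Dv.wd (nat_lit 18) [Mv.b (nat_lit 2787), Mv.f (nat_lit 2785), Mv.f (nat_lit 3227)])))
(Tr.nd (nat_lit 3231) (Tr.lf (Fc.ed (nat_lit 3230) (nat_lit 1033) Col.d (nat_lit 1038) Dv.df))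
(Tr.lf (Fc.ed (nat_lit 3231) (nat_lit 1038) Col.c (nat_lit 944) (Dv.wd (nat_lit 80) [Mv.f (nat_lit 2992), Mv.f (nat_lit 1380), Mv.b (nat_lit 1203), Mv.b (nat_lit 821), Mv.b (nat_lit 2929), Mv.f (nat_lit 2930), Mv.f (nat_lit 3033), Mv.f (nat_lit 3220), Mv.f (nat_lit 3230)])))))))
(Tr.nd (nat_lit 3237) (Tr.nd (nat_lit 3234) (Tr.nd (nat_lit 3233) (Tr.lf (Fc.ed (nat_lit 3232) (nat_lit 770) Col.d (nat_lit 1039) Dv.df))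
(Tr.lf (Fc.ed (nat_lit 3233) (nat_lit 1039) Col.g (nat_lit 1023) (Dv.wd (nat_lit 69) [Mv.f (nat_lit 3196), Mv.b (nat_lit 3195), Mv.f (nat_lit 2224), Mv.f (nat_lit 2819), Mv.f (nat_lit 2816), Mv.b (nat_lit 2749), Mv.b (nat_lit 2550), Mv.b (nat_lit 3154), Mv.f (nat_lit 3232)]))))
(Tr.nd (nat_lit 3235) (Tr.lf (Fc.ed (nat_lit 3234) (nat_lit 1039) Col.gi (nat_lit 1023) (Dv.wd (nat_lit 50) [Mv.b (nat_lit 3195), Mv.f (nat_lit 2074), Mv.f (nat_lit 3135), Mv.b (nat_lit 3145), Mv.f (nat_lit 3146), Mv.b (nat_lit 2550), Mv.f (nat_lit 2551), Mv.b (nat_lit 3153), Mv.f (nat_lit 3232)])))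
(Tr.nd (nat_lit 3236) (Tr.lf (Fc.ed (nat_lit 3235) (nat_lit 800) Col.e (nat_lit 1040) Dv.df))
(Tr.lf (Fc.ed (nat_lit 3236) (nat_lit 1040) Col.d (nat_lit 947) (Dv.wd (nat_lit 59) [Mv.b (nat_lit 2997), Mv.f (nat_lit 2435), Mv.b (nat_lit 1947), Mv.f (nat_lit 2293), Mv.f (nat_lit 3235)]))))))
(Tr.nd (nat_lit 3240) (Tr.nd (nat_lit 3238) (Tr.lf (Fc.ed (nat_lit 3237) (nat_lit 990) Col.g (nat_lit 1041) Dv.df))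
(Tr.nd (nat_lit 3239) (Tr.lf (Fc.ed (nat_lit 3238) (nat_lit 1041) Col.d (nat_lit 583) (Dv.wd (nat_lit 85) [Mv.b (nat_lit 1436), Mv.b (nat_lit 792), Mv.b (nat_lit 1665), Mv.f (nat_lit 1748), Mv.b (nat_lit 1978), Mv.f (nat_lit 2118), Mv.f (nat_lit 2121), Mv.f (nat_lit 3104), Mv.f (nat_lit 3237)])))
(Tr.lf (Fc.ed (nat_lit 3239) (nat_lit 830) Col.c (nat_lit 1042) Dv.df))))
(Tr.nd (nat_lit 3241) (Tr.lf (Fc.ed (nat_lit 3240) (nat_lit 1039) Col.e (nat_lit 1043) Dv.df))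
(Tr.nd (nat_lit 3242) (Tr.lf (Fc.ed (nat_lit 3241) (nat_lit 249) Col.b (nat_lit 1044) Dv.df))
(Tr.lf (Fc.ed (nat_lit 3242) (nat_lit 1044) Col.e (nat_lit 905) (Dv.wd (nat_lit 52) [Mv.b (nat_lit 2880), Mv.b (nat_lit 750), Mv.f (nat_lit 3241)])))))))))
(Tr.nd (nat_lit 3264) (Tr.nd (nat_lit 3253) (Tr.nd (nat_lit 3248) (Tr.nd (nat_lit 3245) (Tr.nd (nat_lit 3244) (Tr.lf (Fc.ed (nat_lit 3243) (nat_lit 1044) Col.c (nat_lit 930) (Dv.wd (nat_lit 93) [Mv.b (nat_lit 2952), Mv.f (nat_lit 2698), Mv.b (nat_lit 505), Mv.f (nat_lit 609), Mv.f (nat_lit 3241)])))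
(Tr.lf (Fc.ed (nat_lit 3244) (nat_lit 944) Col.gi (nat_lit 1045) Dv.df)))
(Tr.nd (nat_lit 3246) (Tr.lf (Fc.ed (nat_lit 3245) (nat_lit 1045) Col.f (nat_lit 899) (Dv.wd (nat_lit 13) [Mv.f (nat_lit 2936), Mv.f (nat_lit 2991), Mv.f (nat_lit 3244)])))
(Tr.nd (nat_lit 3247) (Tr.lf (Fc.ed (nat_lit 3246) (nat_lit 1045) Col.d (nat_lit 465) (Dv.wd (nat_lit 48) [Mv.b (nat_lit 1908), Mv.f (nat_lit 1910), Mv.b (nat_lit 1550), Mv.b (nat_lit 561), Mv.f (nat_lit 1243), Mv.f (nat_lit 1203), Mv.b (nat_lit 1380), Mv.b (nat_lit 2992), Mv.f (nat_lit 3244)])))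
(Tr.lf (Fc.ed (nat_lit 3247) (nat_lit 965) Col.a (nat_lit 1045) (Dv.wd (nat_lit 54) [Mv.f (nat_lit 3246), Mv.b (nat_lit 1052), Mv.f (nat_lit 3040)]))))))
(Tr.nd (nat_lit 3250) (Tr.nd (nat_lit 3249) (Tr.lf (Fc.ed (nat_lit 3248) (nat_lit 1032) Col.d (nat_lit 1046) Dv.df))
(Tr.lf (Fc.ed (nat_lit 3249) (nat_lit 1046) Col.f (nat_lit 1016) (Dv.wd (nat_lit 11) [Mv.b (nat_lit 3179), Mv.b (nat_lit 3218), Mv.f (nat_lit 3248)]))))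
(Tr.nd (nat_lit 3251) (Tr.lf (Fc.ed (nat_lit 3250) (nat_lit 1046) Col.c (nat_lit 1045) (Dv.wd (nat_lit 80) [Mv.f (nat_lit 3246), Mv.f (nat_lit 1053), Mv.b (nat_lit 1445), Mv.f (nat_lit 1401), Mv.b (nat_lit 2212), Mv.b (nat_lit 2445), Mv.b (nat_lit 2447), Mv.f (nat_lit 3217), Mv.f (nat_lit 3248)])))
(Tr.nd (nat_lit 3252) (Tr.lf (Fc.ed (nat_lit 3251) (nat_lit 316) Col.e (nat_lit 1047) Dv.df))
(Tr.lf (Fc.ed (nat_lit 3252) (nat_lit 1047) Col.a (nat_lit 1047) (Dv.wd (nat_lit 15) [Mv.b (nat_lit 3251), Mv.f (nat_lit 759), Mv.f (nat_lit 3251)])))))))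
(Tr.nd (nat_lit 3258) (Tr.nd (nat_lit 3255) (Tr.nd (nat_lit 3254) (Tr.lf (Fc.ed (nat_lit 3253) (nat_lit 928) Col.a (nat_lit 1048) Dv.df))
(Tr.lf (Fc.ed (nat_lit 3254) (nat_lit 1024) Col.c (nat_lit 1049) Dv.df)))
(Tr.nd (nat_lit 3256) (Tr.lf (Fc.ed (nat_lit 3255) (nat_lit 1049) Col.d (nat_lit 1042) (Dv.wd (nat_lit 44) [Mv.b (nat_lit 3239), Mv.b (nat_lit 2374), Mv.b (nat_lit 752), Mv.b (nat_lit 239), Mv.f (nat_lit 240), Mv.b (nat_lit 374), Mv.f (nat_lit 2204), Mv.f (nat_lit 3197), Mv.f (nat_lit 3254)])))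
(Tr.nd (nat_lit 3257) (Tr.lf (Fc.ed (nat_lit 3256) (nat_lit 1049) Col.g (nat_lit 1046) (Dv.wd (nat_lit 77) [Mv.f (nat_lit 3250), Mv.f (nat_lit 3246), Mv.f (nat_lit 1053), Mv.b (nat_lit 424), Mv.f (nat_lit 2256), Mv.f (nat_lit 2257), Mv.f (nat_lit 3178), Mv.b (nat_lit 3198), Mv.f (nat_lit 3254)])))
(Tr.lf (Fc.ed (nat_lit 3257) (nat_lit 645) Col.g (nat_lit 1050) Dv.df)))))
(Tr.nd (nat_lit 3261) (Tr.nd (nat_lit 3259) (Tr.lf (Fc.ed (nat_lit 3258) (nat_lit 1050) Col.g (nat_lit 526) (Dv.wd (nat_lit 9) [Mv.f (nat_lit 2065), Mv.f (nat_lit 2068), Mv.f (nat_lit 3257)])))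
(Tr.nd (nat_lit 3260) (Tr.lf (Fc.ed (nat_lit 3259) (nat_lit 1050) Col.a (nat_lit 642) (Dv.wd (nat_lit 114) [Mv.b (nat_lit 1891), Mv.b (nat_lit 1900), Mv.f (nat_lit 3257)])))
(Tr.lf (Fc.ed (nat_lit 3260) (nat_lit 1007) Col.e (nat_lit 1050) (Dv.wd (nat_lit 72) [Mv.f (nat_lit 3259), Mv.b (nat_lit 1890), Mv.f (nat_lit 3160)])))))
(Tr.nd (nat_lit 3262) (Tr.lf (Fc.ed (nat_lit 3261) (nat_lit 1007) Col.f (nat_lit 1050) (Dv.wd (nat_lit 73) [Mv.f (nat_lit 3259), Mv.b (nat_lit 1891), Mv.f (nat_lit 3160)])))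
(Tr.nd (nat_lit 3263) (Tr.lf (Fc.ed (nat_lit 3262) (nat_lit 550) Col.gi (nat_lit 1051) Dv.df))
(Tr.lf (Fc.ed (nat_lit 3263) (nat_lit 1051) Col.gi (nat_lit 516) (Dv.wd (nat_lit 24) [Mv.b (nat_lit 1196), Mv.b (nat_lit 1327), Mv.f (nat_lit 3262)]))))))))
(Tr.nd (nat_lit 3274) (Tr.nd (nat_lit 3269) (Tr.nd (nat_lit 3266) (Tr.nd (nat_lit 3265) (Tr.lf (Fc.ed (nat_lit 3264) (nat_lit 500) Col.f (nat_lit 1052) Dv.df))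
(Tr.lf (Fc.ed (nat_lit 3265) (nat_lit 1052) Col.a (nat_lit 1052) (Dv.wd (nat_lit 16) [Mv.b (nat_lit 3264), Mv.f (nat_lit 1860), Mv.f (nat_lit 3264)]))))
(Tr.nd (nat_lit 3267) (Tr.lf (Fc.ed (nat_lit 3266) (nat_lit 1033) Col.gi (nat_lit 1053) Dv.df))
(Tr.nd (nat_lit 3268) (Tr.lf (Fc.ed (nat_lit 3267) (nat_lit 1053) Col.gi (nat_lit 1027) (Dv.wd (nat_lit 24) [Mv.f (nat_lit 3206), Mv.b (nat_lit 3221), Mv.f (nat_lit 3266)])))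
(Tr.lf (Fc.ed (nat_lit 3268) (nat_lit 856) Col.c (nat_lit 1053) (Dv.wd (nat_lit 32) [Mv.f (nat_lit 3267), Mv.b (nat_lit 3205), Mv.f (nat_lit 3025), Mv.f (nat_lit 3027), Mv.f (nat_lit 1608), Mv.f (nat_lit 890), Mv.f (nat_lit 1912), Mv.f (nat_lit 1914), Mv.b (nat_lit 2435)]))))))
(Tr.nd (nat_lit 3271) (Tr.nd (nat_lit 3270) (Tr.lf (Fc.ed (nat_lit 3269) (nat_lit 1017) Col.e (nat_lit 1054) Dv.df))
(Tr.lf (Fc.ed (nat_lit 3270) (nat_lit 598) Col.g (nat_lit 1055) Dv.df)))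
(Tr.nd (nat_lit 3272) (Tr.lf (Fc.ed (nat_lit 3271) (nat_lit 1055) Col.d (nat_lit 1037) (Dv.wd (nat_lit 60) [Mv.b (nat_lit 3227), Mv.f (nat_lit 2813), Mv.f (nat_lit 2431), Mv.b (nat_lit 2190), Mv.f (nat_lit 1894), Mv.b (nat_lit 27), Mv.b (nat_lit 1776), Mv.f (nat_lit 1126), Mv.f (nat_lit 1555), Mv.f (nat_lit 3270)])))
(Tr.nd (nat_lit 3273) (Tr.lf (Fc.ed (nat_lit 3272) (nat_lit 1055) Col.a (nat_lit 1055) (Dv.wd (nat_lit 54) [Mv.f (nat_lit 3271), Mv.f (nat_lit 3228), Mv.b (nat_lit 3271)])))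
(Tr.lf (Fc.ed (nat_lit 3273) (nat_lit 786) Col.b (nat_lit 1056) Dv.df))))))
(Tr.nd (nat_lit 3279) (Tr.nd (nat_lit 3276) (Tr.nd (nat_lit 3275) (Tr.lf (Fc.ed (nat_lit 3274) (nat_lit 1023) Col.e (nat_lit 1057) Dv.df))
(Tr.lf (Fc.ed (nat_lit 3275) (nat_lit 1057) Col.c (nat_lit 571) (Dv.wd (nat_lit 18) [Mv.f (nat_lit 2983), Mv.f (nat_lit 3195), Mv.f (nat_lit 3274)]))))
(Tr.nd (nat_lit 3277) (Tr.lf (Fc.ed (nat_lit 3276) (nat_lit 1057) Col.g (nat_lit 1043) (Dv.wd (nat_lit 38) [Mv.b (nat_lit 3240), Mv.b (nat_lit 3232), Mv.f (nat_lit 3153), Mv.f (nat_lit 2551), Mv.f (nat_lit 3149), Mv.b (nat_lit 3154), Mv.f (nat_lit 3232), Mv.f (nat_lit 3233), Mv.f (nat_lit 3196), Mv.f (nat_lit 3274)])))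
(Tr.nd (nat_lit 3278) (Tr.lf (Fc.ed (nat_lit 3277) (nat_lit 278) Col.c (nat_lit 1058) Dv.df))
(Tr.lf (Fc.ed (nat_lit 3278) (nat_lit 1058) Col.f (nat_lit 970) (Dv.wd (nat_lit 26) [Mv.b (nat_lit 3055), Mv.f (nat_lit 2714), Mv.f (nat_lit 3277)]))))))
(Tr.nd (nat_lit 3282) (Tr.nd (nat_lit 3280) (Tr.lf (Fc.ed (nat_lit 3279) (nat_lit 791) Col.g (nat_lit 1059) Dv.df))
(Tr.nd (nat_lit 3281) (Tr.lf (Fc.ed (nat_lit 3280) (nat_lit 704) Col.d (nat_lit 1060) Dv.df))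
(Tr.lf (Fc.ed (nat_lit 3281) (nat_lit 1060) Col.a (nat_lit 742) (Dv.wd (nat_lit 8) [Mv.b (nat_lit 2153), Mv.f (nat_lit 2065), Mv.f (nat_lit 3280)])))))
(Tr.nd (nat_lit 3283) (Tr.lf (Fc.ed (nat_lit 3282) (nat_lit 1060) Col.b (nat_lit 657) (Dv.wd (nat_lit 37) [Mv.b (nat_lit 1935), Mv.b (nat_lit 2070), Mv.f (nat_lit 3280)])))
(Tr.nd (nat_lit 3284) (Tr.lf (Fc.ed (nat_lit 3283) (nat_lit 684) Col.g (nat_lit 1061) Dv.df))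
(Tr.lf (Fc.ed (nat_lit 3284) (nat_lit 1061) Col.g (nat_lit 909) (Dv.wd (nat_lit 9) [Mv.f (nat_lit 2888), Mv.b (nat_lit 2012), Mv.f (nat_lit 3283)])))))))))))))
(Tr.nd (nat_lit 3613) (Tr.nd (nat_lit 3449) (Tr.nd (nat_lit 3367) (Tr.nd (nat_lit 3326) (Tr.nd (nat_lit 3305) (Tr.nd (nat_lit 3295) (Tr.nd (nat_lit 3290) (Tr.nd (nat_lit 3287) (Tr.nd (nat_lit 3286) (Tr.lf (Fc.ed (nat_lit 3285) (nat_lit 968) Col.a (nat_lit 1062) Dv.df))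
(Tr.lf (Fc.ed (nat_lit 3286) (nat_lit 1062) Col.d (nat_lit 488) (Dv.wd (nat_lit 28) [Mv.f (nat_lit 1137), Mv.f (nat_lit 3048), Mv.f (nat_lit 3285)]))))
(Tr.nd (nat_lit 3288) (Tr.lf (Fc.ed (nat_lit 3287) (nat_lit 1062) Col.f (nat_lit 1062) (Dv.wd (nat_lit 35) [Mv.b (nat_lit 3285), Mv.f (nat_lit 3050), Mv.f (nat_lit 3285)])))
(Tr.nd (nat_lit 3289) (Tr.lf (Fc.ed (nat_lit 3288) (nat_lit 1062) Col.b (nat_lit 656) (Dv.wd (nat_lit 65) [Mv.f (nat_lit 1934), Mv.b (nat_lit 1661), Mv.f (nat_lit 1983), Mv.b (nat_lit 3049), Mv.f (nat_lit 3285)])))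
(Tr.lf (Fc.ed (nat_lit 3289) (nat_lit 1029) Col.f (nat_lit 1063) Dv.df)))))
(Tr.nd (nat_lit 3292) (Tr.nd (nat_lit 3291) (Tr.lf (Fc.ed (nat_lit 3290) (nat_lit 1063) Col.c (nat_lit 956) (Dv.wd (nat_lit 34) [Mv.f (nat_lit 3141), Mv.b (nat_lit 3211), Mv.f (nat_lit 3289)])))
(Tr.lf (Fc.ed (nat_lit 3291) (nat_lit 1063) Col.d (nat_lit 1009) (Dv.wd (nat_lit 21) [Mv.b (nat_lit 3206), Mv.f (nat_lit 3210), Mv.f (nat_lit 3289)]))))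
(Tr.nd (nat_lit 3293) (Tr.lf (Fc.ed (nat_lit 3292) (nat_lit 934) Col.gi (nat_lit 1064) Dv.df))
(Tr.nd (nat_lit 3294) (Tr.lf (Fc.ed (nat_lit 3293) (nat_lit 1064) Col.gi (nat_lit 396) (Dv.wd (nat_lit 24) [Mv.f (nat_lit 931), Mv.f (nat_lit 2960), Mv.f (nat_lit 3292)])))
(Tr.lf (Fc.ed (nat_lit 3294) (nat_lit 949) Col.b (nat_lit 1065) Dv.df))))))
(Tr.nd (nat_lit 3300) (Tr.nd (nat_lit 3297) (Tr.nd (nat_lit 3296) (Tr.lf (Fc.ed (nat_lit 3295) (nat_lit 1065) Col.c (nat_lit 1065) (Dv.wd (nat_lit 93) [Mv.b (nat_lit 3294), Mv.f (nat_lit 3017), Mv.f (nat_lit 3018), Mv.b (nat_lit 3017), Mv.f (nat_lit 3294)])))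
(Tr.lf (Fc.ed (nat_lit 3296) (nat_lit 1065) Col.g (nat_lit 967) (Dv.wd (nat_lit 122) [Mv.b (nat_lit 3045), Mv.f (nat_lit 1069), Mv.b (nat_lit 1122), Mv.b (nat_lit 1135), Mv.f (nat_lit 1136), Mv.b (nat_lit 2396), Mv.f (nat_lit 2403), Mv.f (nat_lit 3015), Mv.b (nat_lit 3017), Mv.f (nat_lit 3294)]))))
(Tr.nd (nat_lit 3298) (Tr.lf (Fc.ed (nat_lit 3297) (nat_lit 967) Col.g (nat_lit 1065) (Dv.wd (nat_lit 105) [Mv.f (nat_lit 3295), Mv.b (nat_lit 3294), Mv.b (nat_lit 3001), Mv.f (nat_lit 2407), Mv.f (nat_lit 2403), Mv.f (nat_lit 3015), Mv.b (nat_lit 3017), Mv.f (nat_lit 3294), Mv.f (nat_lit 3296), Mv.f (nat_lit 3047)])))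
(Tr.nd (nat_lit 3299) (Tr.lf (Fc.ed (nat_lit 3298) (nat_lit 1022) Col.c (nat_lit 1066) Dv.df))
(Tr.lf (Fc.ed (nat_lit 3299) (nat_lit 1066) Col.f (nat_lit 1066) (Dv.wd (nat_lit 26) [Mv.b (nat_lit 3298), Mv.f (nat_lit 3193), Mv.f (nat_lit 3298)]))))))
(Tr.nd (nat_lit 3302) (Tr.nd (nat_lit 3301) (Tr.lf (Fc.ed (nat_lit 3300) (nat_lit 1066) Col.d (nat_lit 1065) (Dv.wd (nat_lit 149) [Mv.b (nat_lit 3297), Mv.b (nat_lit 3045), Mv.f (nat_lit 1069), Mv.f (nat_lit 1018), Mv.f (nat_lit 1072), Mv.b (nat_lit 683), Mv.b (nat_lit 55), Mv.f (nat_lit 8), Mv.f (nat_lit 15), Mv.f (nat_lit 1228), Mv.f (nat_lit 17), Mv.f (nat_lit 113), Mv.b (nat_lit 9), Mv.f (nat_lit 40), Mv.f (nat_lit 860), Mv.f (nat_lit 1883), Mv.f (nat_lit 1992), Mv.f (nat_lit 3191), Mv.f (nat_lit 3298)])))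
(Tr.lf (Fc.ed (nat_lit 3301) (nat_lit 1065) Col.f (nat_lit 1065) (Dv.wd (nat_lit 11) [Mv.b (nat_lit 3300), Mv.f (nat_lit 3299), Mv.f (nat_lit 3300)]))))
(Tr.nd (nat_lit 3303) (Tr.lf (Fc.ed (nat_lit 3302) (nat_lit 949) Col.f (nat_lit 949) (Dv.wd (nat_lit 20) [Mv.f (nat_lit 3294), Mv.f (nat_lit 3301), Mv.b (nat_lit 3294)])))
(Tr.nd (nat_lit 3304) (Tr.lf (Fc.ed (nat_lit 3303) (nat_lit 949) Col.a (nat_lit 955) (Dv.wd (nat_lit 23) [Mv.b (nat_lit 3015), Mv.f (nat_lit 3001), Mv.f (nat_lit 3302)])))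
(Tr.lf (Fc.ed (nat_lit 3304) (nat_lit 1053) Col.d (nat_lit 1067) Dv.df)))))))
(Tr.nd (nat_lit 3315) (Tr.nd (nat_lit 3310) (Tr.nd (nat_lit 3307) (Tr.nd (nat_lit 3306) (Tr.lf (Fc.ed (nat_lit 3305) (nat_lit 1050) Col.b (nat_lit 1068) Dv.df))
(Tr.lf (Fc.ed (nat_lit 3306) (nat_lit 1068) Col.a (nat_lit 726) (Dv.wd (nat_lit 98) [Mv.b (nat_lit 2114), Mv.b (nat_lit 1605), Mv.b (nat_lit 1889), Mv.b (nat_lit 3259), Mv.f (nat_lit 3305)]))))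
(Tr.nd (nat_lit 3308) (Tr.lf (Fc.ed (nat_lit 3307) (nat_lit 1068) Col.c (nat_lit 1050) (Dv.wd (nat_lit 135) [Mv.f (nat_lit 3258), Mv.f (nat_lit 1254), Mv.b (nat_lit 1251), Mv.b (nat_lit 957), Mv.b (nat_lit 1914), Mv.f (nat_lit 1913), Mv.f (nat_lit 1731), Mv.f (nat_lit 1896), Mv.f (nat_lit 3257), Mv.f (nat_lit 3305)])))
(Tr.nd (nat_lit 3309) (Tr.lf (Fc.ed (nat_lit 3308) (nat_lit 1017) Col.c (nat_lit 1069) Dv.df))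
(Tr.lf (Fc.ed (nat_lit 3309) (nat_lit 1069) Col.b (nat_lit 783) (Dv.wd (nat_lit 87) [Mv.f (nat_lit 2245), Mv.f (nat_lit 207), Mv.f (nat_lit 833), Mv.f (nat_lit 3182), Mv.f (nat_lit 3308)]))))))
(Tr.nd (nat_lit 3312) (Tr.nd (nat_lit 3311) (Tr.lf (Fc.ed (nat_lit 3310) (nat_lit 1056) Col.e (nat_lit 1069) (Dv.wd (nat_lit 82) [Mv.f (nat_lit 3309), Mv.f (nat_lit 2254), Mv.f (nat_lit 3273)])))
(Tr.lf (Fc.ed (nat_lit 3311) (nat_lit 1054) Col.c (nat_lit 1056) (Dv.wd (nat_lit 109) [Mv.f (nat_lit 3310), Mv.b (nat_lit 3308), Mv.f (nat_lit 3269)]))))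
(Tr.nd (nat_lit 3313) (Tr.lf (Fc.ed (nat_lit 3312) (nat_lit 484) Col.f (nat_lit 1070) Dv.df))
(Tr.nd (nat_lit 3314) (Tr.lf (Fc.ed (nat_lit 3313) (nat_lit 1070) Col.a (nat_lit 1070) (Dv.wd (nat_lit 16) [Mv.b (nat_lit 3312), Mv.f (nat_lit 1861), Mv.f (nat_lit 3312)])))
(Tr.lf (Fc.ed (nat_lit 3314) (nat_lit 1070) Col.c (nat_lit 1052) (Dv.wd (nat_lit 34) [Mv.b (nat_lit 3264), Mv.b (nat_lit 1167), Mv.f (nat_lit 3312)])))))))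
(Tr.nd (nat_lit 3320) (Tr.nd (nat_lit 3317) (Tr.nd (nat_lit 3316) (Tr.lf (Fc.ed (nat_lit 3315) (nat_lit 1070) Col.e (nat_lit 1070) (Dv.wd (nat_lit 22) [Mv.b (nat_lit 3312), Mv.b (nat_lit 1126), Mv.f (nat_lit 1784), Mv.f (nat_lit 1126), Mv.f (nat_lit 3312)])))
(Tr.lf (Fc.ed (nat_lit 3316) (nat_lit 904) Col.f (nat_lit 1071) Dv.df)))
(Tr.nd (nat_lit 3318) (Tr.lf (Fc.ed (nat_lit 3317) (nat_lit 1071) Col.a (nat_lit 762) (Dv.wd (nat_lit 23) [Mv.b (nat_lit 2671), Mv.f (nat_lit 2879), Mv.f (nat_lit 3316)])))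
(Tr.nd (nat_lit 3319) (Tr.lf (Fc.ed (nat_lit 3318) (nat_lit 786) Col.d (nat_lit 1072) Dv.df))
(Tr.lf (Fc.ed (nat_lit 3319) (nat_lit 1072) Col.a (nat_lit 1024) (Dv.wd (nat_lit 8) [Mv.b (nat_lit 3197), Mv.b (nat_lit 2252), Mv.f (nat_lit 3318)]))))))
(Tr.nd (nat_lit 3323) (Tr.nd (nat_lit 3321) (Tr.lf (Fc.ed (nat_lit 3320) (nat_lit 920) Col.g (nat_lit 1073) Dv.df))
(Tr.nd (nat_lit 3322) (Tr.lf (Fc.ed (nat_lit 3321) (nat_lit 1073) Col.g (nat_lit 376) (Dv.wd (nat_lit 9) [Mv.f (nat_lit 2924), Mv.f (nat_lit 2927), Mv.f (nat_lit 3320)])))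
(Tr.lf (Fc.ed (nat_lit 3322) (nat_lit 791) Col.d (nat_lit 1074) Dv.df))))
(Tr.nd (nat_lit 3324) (Tr.lf (Fc.ed (nat_lit 3323) (nat_lit 1074) Col.a (nat_lit 697) (Dv.wd (nat_lit 8) [Mv.f (nat_lit 2043), Mv.f (nat_lit 2265), Mv.f (nat_lit 3322)])))
(Tr.nd (nat_lit 3325) (Tr.lf (Fc.ed (nat_lit 3324) (nat_lit 1019) Col.d (nat_lit 1075) Dv.df))
(Tr.lf (Fc.ed (nat_lit 3325) (nat_lit 845) Col.f (nat_lit 1076) Dv.df))))))))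
(Tr.nd (nat_lit 3346) (Tr.nd (nat_lit 3336) (Tr.nd (nat_lit 3331) (Tr.nd (nat_lit 3328) (Tr.nd (nat_lit 3327) (Tr.lf (Fc.ed (nat_lit 3326) (nat_lit 1076) Col.d (nat_lit 435) (Dv.wd (nat_lit 21) [Mv.f (nat_lit 2653), Mv.f (nat_lit 2414), Mv.f (nat_lit 3325)])))
(Tr.lf (Fc.ed (nat_lit 3327) (nat_lit 965) Col.c (nat_lit 1077) Dv.df)))
(Tr.nd (nat_lit 3329) (Tr.lf (Fc.ed (nat_lit 3328) (nat_lit 1077) Col.a (nat_lit 1046) (Dv.wd (nat_lit 19) [Mv.f (nat_lit 3250), Mv.b (nat_lit 3247), Mv.f (nat_lit 3327)])))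
(Tr.nd (nat_lit 3330) (Tr.lf (Fc.ed (nat_lit 3329) (nat_lit 1077) Col.f (nat_lit 925) (Dv.wd (nat_lit 26) [Mv.f (nat_lit 2941), Mv.b (nat_lit 3041), Mv.f (nat_lit 3327)])))
(Tr.lf (Fc.ed (nat_lit 3330) (nat_lit 512) Col.b (nat_lit 1078) Dv.df)))))
(Tr.nd (nat_lit 3333) (Tr.nd (nat_lit 3332) (Tr.lf (Fc.ed (nat_lit 3331) (nat_lit 1078) Col.c (nat_lit 905) (Dv.wd (nat_lit 93) [Mv.b (nat_lit 2880), Mv.f (nat_lit 751), Mv.f (nat_lit 496), Mv.b (nat_lit 2648), Mv.f (nat_lit 3330)])))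
(Tr.lf (Fc.ed (nat_lit 3332) (nat_lit 880) Col.c (nat_lit 1079) Dv.df)))
(Tr.nd (nat_lit 3334) (Tr.lf (Fc.ed (nat_lit 3333) (nat_lit 1079) Col.a (nat_lit 1079) (Dv.wd (nat_lit 19) [Mv.b (nat_lit 3332), Mv.f (nat_lit 2488), Mv.f (nat_lit 3332)])))
(Tr.nd (nat_lit 3335) (Tr.lf (Fc.ed (nat_lit 3334) (nat_lit 1079) Col.e (nat_lit 1079) (Dv.wd (nat_lit 25) [Mv.b (nat_lit 3332), Mv.f (nat_lit 2489), Mv.f (nat_lit 3332)])))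
(Tr.lf (Fc.ed (nat_lit 3335) (nat_lit 1079) Col.f (nat_lit 384) (Dv.wd (nat_lit 26) [Mv.b (nat_lit 1058), Mv.b (nat_lit 2487), Mv.f (nat_lit 3332)])))))))
(Tr.nd (nat_lit 3341) (Tr.nd (nat_lit 3338) (Tr.nd (nat_lit 3337) (Tr.lf (Fc.ed (nat_lit 3336) (nat_lit 314) Col.b (nat_lit 1080) Dv.df))
(Tr.lf (Fc.ed (nat_lit 3337) (nat_lit 1080) Col.e (nat_lit 996) (Dv.wd (nat_lit 52) [Mv.b (nat_lit 3125), Mv.b (nat_lit 1847), Mv.f (nat_lit 3336)]))))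
(Tr.nd (nat_lit 3339) (Tr.lf (Fc.ed (nat_lit 3338) (nat_lit 1080) Col.f (nat_lit 905) (Dv.wd (nat_lit 20) [Mv.b (nat_lit 2880), Mv.b (nat_lit 756), Mv.f (nat_lit 3336)])))
(Tr.nd (nat_lit 3340) (Tr.lf (Fc.ed (nat_lit 3339) (nat_lit 490) Col.f (nat_lit 1081) Dv.df))
(Tr.lf (Fc.ed (nat_lit 3340) (nat_lit 1081) Col.d (nat_lit 1081) (Dv.wd (nat_lit 21) [Mv.b (nat_lit 3339), Mv.f (nat_lit 1143), Mv.f (nat_lit 3339)]))))))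
(Tr.nd (nat_lit 3343) (Tr.nd (nat_lit 3342) (Tr.lf (Fc.ed (nat_lit 3341) (nat_lit 839) Col.c (nat_lit 1082) Dv.df))
(Tr.lf (Fc.ed (nat_lit 3342) (nat_lit 1082) Col.a (nat_lit 1042) (Dv.wd (nat_lit 19) [Mv.b (nat_lit 3239), Mv.b (nat_lit 2399), Mv.f (nat_lit 3341)]))))
(Tr.nd (nat_lit 3344) (Tr.lf (Fc.ed (nat_lit 3343) (nat_lit 1082) Col.f (nat_lit 963) (Dv.wd (nat_lit 26) [Mv.b (nat_lit 3036), Mv.b (nat_lit 2400), Mv.f (nat_lit 3341)])))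
(Tr.nd (nat_lit 3345) (Tr.lf (Fc.ed (nat_lit 3344) (nat_lit 459) Col.b (nat_lit 1083) Dv.df))
(Tr.lf (Fc.ed (nat_lit 3345) (nat_lit 1083) Col.f (nat_lit 996) (Dv.wd (nat_lit 20) [Mv.b (nat_lit 3125), Mv.b (nat_lit 1049), Mv.f (nat_lit 3344)]))))))))
(Tr.nd (nat_lit 3356) (Tr.nd (nat_lit 3351) (Tr.nd (nat_lit 3348) (Tr.nd (nat_lit 3347) (Tr.lf (Fc.ed (nat_lit 3346) (nat_lit 1072) Col.c (nat_lit 1084) Dv.df))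
(Tr.lf (Fc.ed (nat_lit 3347) (nat_lit 1084) Col.a (nat_lit 1049) (Dv.wd (nat_lit 19) [Mv.b (nat_lit 3254), Mv.b (nat_lit 3319), Mv.f (nat_lit 3346)]))))
(Tr.nd (nat_lit 3349) (Tr.lf (Fc.ed (nat_lit 3348) (nat_lit 1084) Col.d (nat_lit 1082) (Dv.wd (nat_lit 44) [Mv.b (nat_lit 3341), Mv.b (nat_lit 2398), Mv.b (nat_lit 781), Mv.f (nat_lit 415), Mv.f (nat_lit 387), Mv.f (nat_lit 374), Mv.b (nat_lit 2253), Mv.f (nat_lit 3318), Mv.f (nat_lit 3346)])))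
(Tr.nd (nat_lit 3350) (Tr.lf (Fc.ed (nat_lit 3349) (nat_lit 1084) Col.gi (nat_lit 1016) (Dv.wd (nat_lit 78) [Mv.f (nat_lit 3181), Mv.b (nat_lit 3020), Mv.b (nat_lit 3019), Mv.f (nat_lit 2121), Mv.b (nat_lit 1488), Mv.b (nat_lit 1492), Mv.b (nat_lit 2253), Mv.f (nat_lit 3318), Mv.f (nat_lit 3346)])))
(Tr.lf (Fc.ed (nat_lit 3350) (nat_lit 1077) Col.gi (nat_lit 1084) (Dv.wd (nat_lit 12) [Mv.f (nat_lit 3349), Mv.b (nat_lit 3249), Mv.b (nat_lit 3328)]))))))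
(Tr.nd (nat_lit 3353) (Tr.nd (nat_lit 3352) (Tr.lf (Fc.ed (nat_lit 3351) (nat_lit 952) Col.c (nat_lit 1085) Dv.df))
(Tr.lf (Fc.ed (nat_lit 3352) (nat_lit 1085) Col.a (nat_lit 1029) (Dv.wd (nat_lit 19) [Mv.f (nat_lit 3211), Mv.f (nat_lit 3139), Mv.f (nat_lit 3351)]))))
(Tr.nd (nat_lit 3354) (Tr.lf (Fc.ed (nat_lit 3353) (nat_lit 1085) Col.f (nat_lit 1038) (Dv.wd (nat_lit 26) [Mv.f (nat_lit 3231), Mv.f (nat_lit 3010), Mv.f (nat_lit 3351)])))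
(Tr.nd (nat_lit 3355) (Tr.lf (Fc.ed (nat_lit 3354) (nat_lit 898) Col.gi (nat_lit 1086) Dv.df))
(Tr.lf (Fc.ed (nat_lit 3355) (nat_lit 1086) Col.gi (nat_lit 474) (Dv.wd (nat_lit 24) [Mv.b (nat_lit 1286), Mv.f (nat_lit 2867), Mv.f (nat_lit 3354)])))))))
(Tr.nd (nat_lit 3361) (Tr.nd (nat_lit 3358) (Tr.nd (nat_lit 3357) (Tr.lf (Fc.ed (nat_lit 3356) (nat_lit 523) Col.c (nat_lit 1087) Dv.df))
(Tr.lf (Fc.ed (nat_lit 3357) (nat_lit 1087) Col.a (nat_lit 1087) (Dv.wd (nat_lit 19) [Mv.b (nat_lit 3356), Mv.f (nat_lit 2781), Mv.f (nat_lit 3356)]))))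
(Tr.nd (nat_lit 3359) (Tr.lf (Fc.ed (nat_lit 3358) (nat_lit 1087) Col.g (nat_lit 484) (Dv.wd (nat_lit 145) [Mv.f (nat_lit 1555), Mv.f (nat_lit 3270), Mv.f (nat_lit 3271), Mv.f (nat_lit 3229), Mv.b (nat_lit 2508), Mv.f (nat_lit 2780), Mv.b (nat_lit 2490), Mv.f (nat_lit 2788), Mv.f (nat_lit 3356)])))
(Tr.nd (nat_lit 3360) (Tr.lf (Fc.ed (nat_lit 3359) (nat_lit 1070) Col.g (nat_lit 1087) (Dv.wd (nat_lit 17) [Mv.f (nat_lit 3358), Mv.f (nat_lit 1861), Mv.f (nat_lit 3312)])))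
(Tr.lf (Fc.ed (nat_lit 3360) (nat_lit 345) Col.b (nat_lit 1088) Dv.df)))))
(Tr.nd (nat_lit 3364) (Tr.nd (nat_lit 3362) (Tr.lf (Fc.ed (nat_lit 3361) (nat_lit 1088) Col.d (nat_lit 1017) (Dv.wd (nat_lit 58) [Mv.b (nat_lit 3182), Mv.f (nat_lit 835), Mv.f (nat_lit 3360)])))
(Tr.nd (nat_lit 3363) (Tr.lf (Fc.ed (nat_lit 3362) (nat_lit 1088) Col.f (nat_lit 1025) (Dv.wd (nat_lit 20) [Mv.b (nat_lit 3199), Mv.f (nat_lit 856), Mv.f (nat_lit 3360)])))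
(Tr.lf (Fc.ed (nat_lit 3363) (nat_lit 419) Col.f (nat_lit 1089) Dv.df))))
(Tr.nd (nat_lit 3365) (Tr.lf (Fc.ed (nat_lit 3364) (nat_lit 1089) Col.a (nat_lit 1089) (Dv.wd (nat_lit 16) [Mv.b (nat_lit 3363), Mv.f (nat_lit 972), Mv.f (nat_lit 3363)])))
(Tr.nd (nat_lit 3366) (Tr.lf (Fc.ed (nat_lit 3365) (nat_lit 1089) Col.b (nat_lit 1081) (Dv.wd (nat_lit 66) [Mv.b (nat_lit 3339), Mv.f (nat_lit 1142), Mv.f (nat_lit 3363)])))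
(Tr.lf (Fc.ed (nat_lit 3366) (nat_lit 1089) Col.d (nat_lit 1089) (Dv.wd (nat_lit 21) [Mv.b (nat_lit 3363), Mv.f (nat_lit 974), Mv.f (nat_lit 3363)]))))))))))
(Tr.nd (nat_lit 3408) (Tr.nd (nat_lit 3387) (Tr.nd (nat_lit 3377) (Tr.nd (nat_lit 3372) (Tr.nd (nat_lit 3369) (Tr.nd (nat_lit 3368) (Tr.lf (Fc.ed (nat_lit 3367) (nat_lit 953) Col.d (nat_lit 1090) Dv.df))
(Tr.lf (Fc.ed (nat_lit 3368) (nat_lit 1090) Col.f (nat_lit 991) (Dv.wd (nat_lit 11) [Mv.b (nat_lit 3105), Mv.b (nat_lit 3089), Mv.f (nat_lit 3367)]))))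
(Tr.nd (nat_lit 3370) (Tr.lf (Fc.ed (nat_lit 3369) (nat_lit 1090) Col.c (nat_lit 478) (Dv.wd (nat_lit 32) [Mv.b (nat_lit 2710), Mv.f (nat_lit 1843), Mv.b (nat_lit 2684), Mv.b (nat_lit 2796), Mv.f (nat_lit 2633), Mv.b (nat_lit 2637), Mv.b (nat_lit 2680), Mv.f (nat_lit 3011), Mv.f (nat_lit 3367)])))
(Tr.nd (nat_lit 3371) (Tr.lf (Fc.ed (nat_lit 3370) (nat_lit 1081) Col.g (nat_lit 1091) Dv.df))
(Tr.lf (Fc.ed (nat_lit 3371) (nat_lit 1091) Col.g (nat_lit 988) (Dv.wd (nat_lit 9) [Mv.f (nat_lit 3097), Mv.f (nat_lit 3339), Mv.f (nat_lit 3370)]))))))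
(Tr.nd (nat_lit 3374) (Tr.nd (nat_lit 3373) (Tr.lf (Fc.ed (nat_lit 3372) (nat_lit 1077) Col.d (nat_lit 1092) Dv.df))
(Tr.lf (Fc.ed (nat_lit 3373) (nat_lit 1092) Col.a (nat_lit 1032) (Dv.wd (nat_lit 8) [Mv.f (nat_lit 3248), Mv.b (nat_lit 3328), Mv.f (nat_lit 3372)]))))
(Tr.nd (nat_lit 3375) (Tr.lf (Fc.ed (nat_lit 3374) (nat_lit 1092) Col.f (nat_lit 867) (Dv.wd (nat_lit 11) [Mv.f (nat_lit 2940), Mv.b (nat_lit 3329), Mv.f (nat_lit 3372)])))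
(Tr.nd (nat_lit 3376) (Tr.lf (Fc.ed (nat_lit 3375) (nat_lit 1092) Col.c (nat_lit 863) (Dv.wd (nat_lit 80) [Mv.f (nat_lit 2446), Mv.f (nat_lit 1344), Mv.f (nat_lit 1443), Mv.f (nat_lit 1417), Mv.f (nat_lit 2870), Mv.b (nat_lit 3245), Mv.b (nat_lit 3247), Mv.f (nat_lit 3327), Mv.f (nat_lit 3372)])))
(Tr.lf (Fc.ed (nat_lit 3376) (nat_lit 959) Col.g (nat_lit 1092) (Dv.wd (nat_lit 77) [Mv.f (nat_lit 3375), Mv.f (nat_lit 2446), Mv.f (nat_lit 1344), Mv.f (nat_lit 502), Mv.f (nat_lit 781), Mv.b (nat_lit 1245), Mv.f (nat_lit 2234), Mv.f (nat_lit 2237), Mv.f (nat_lit 3024)])))))))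
(Tr.nd (nat_lit 3382) (Tr.nd (nat_lit 3379) (Tr.nd (nat_lit 3378) (Tr.lf (Fc.ed (nat_lit 3377) (nat_lit 994) Col.gi (nat_lit 1092) (Dv.wd (nat_lit 78) [Mv.f (nat_lit 3375), Mv.b (nat_lit 2471), Mv.b (nat_lit 2468), Mv.b (nat_lit 1735), Mv.b (nat_lit 1604), Mv.f (nat_lit 1506), Mv.b (nat_lit 618), Mv.f (nat_lit 2282), Mv.f (nat_lit 3121)])))
(Tr.lf (Fc.ed (nat_lit 3378) (nat_lit 384) Col.gi (nat_lit 1093) Dv.df)))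
(Tr.nd (nat_lit 3380) (Tr.lf (Fc.ed (nat_lit 3379) (nat_lit 1093) Col.gi (nat_lit 1079) (Dv.wd (nat_lit 24) [Mv.f (nat_lit 3335), Mv.f (nat_lit 913), Mv.f (nat_lit 3378)])))
(Tr.nd (nat_lit 3381) (Tr.lf (Fc.ed (nat_lit 3380) (nat_lit 1043) Col.d (nat_lit 1094) Dv.df))
(Tr.lf (Fc.ed (nat_lit 3381) (nat_lit 1094) Col.g (nat_lit 991) (Dv.wd (nat_lit 69) [Mv.b (nat_lit 3105), Mv.f (nat_lit 3091), Mv.f (nat_lit 2976), Mv.f (nat_lit 2982), Mv.f (nat_lit 2972), Mv.b (nat_lit 1370), Mv.b (nat_lit 3275), Mv.f (nat_lit 3276), Mv.f (nat_lit 3380)]))))))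
(Tr.nd (nat_lit 3384) (Tr.nd (nat_lit 3383) (Tr.lf (Fc.ed (nat_lit 3382) (nat_lit 1090) Col.g (nat_lit 1094) (Dv.wd (nat_lit 17) [Mv.f (nat_lit 3381), Mv.f (nat_lit 3106), Mv.b (nat_lit 3368)])))
(Tr.lf (Fc.ed (nat_lit 3383) (nat_lit 794) Col.b (nat_lit 1095) Dv.df)))
(Tr.nd (nat_lit 3385) (Tr.lf (Fc.ed (nat_lit 3384) (nat_lit 1095) Col.f (nat_lit 1069) (Dv.wd (nat_lit 20) [Mv.f (nat_lit 3309), Mv.f (nat_lit 2276), Mv.f (nat_lit 3383)])))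
(Tr.nd (nat_lit 3386) (Tr.lf (Fc.ed (nat_lit 3385) (nat_lit 1095) Col.c (nat_lit 993) (Dv.wd (nat_lit 93) [Mv.b (nat_lit 3120), Mv.b (nat_lit 848), Mv.b (nat_lit 182), Mv.b (nat_lit 2274), Mv.f (nat_lit 3383)])))
(Tr.lf (Fc.ed (nat_lit 3386) (nat_lit 406) Col.f (nat_lit 1096) Dv.df)))))))
(Tr.nd (nat_lit 3397) (Tr.nd (nat_lit 3392) (Tr.nd (nat_lit 3389) (Tr.nd (nat_lit 3388) (Tr.lf (Fc.ed (nat_lit 3387) (nat_lit 1096) Col.c (nat_lit 1089) (Dv.wd (nat_lit 34) [Mv.b (nat_lit 3363), Mv.b (nat_lit 971), Mv.f (nat_lit 3386)])))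
(Tr.lf (Fc.ed (nat_lit 3388) (nat_lit 1096) Col.d (nat_lit 1079) (Dv.wd (nat_lit 21) [Mv.f (nat_lit 3335), Mv.f (nat_lit 947), Mv.f (nat_lit 3386)]))))
(Tr.nd (nat_lit 3390) (Tr.lf (Fc.ed (nat_lit 3389) (nat_lit 1096) Col.e (nat_lit 1089) (Dv.wd (nat_lit 22) [Mv.b (nat_lit 3363), Mv.f (nat_lit 973), Mv.f (nat_lit 477), Mv.b (nat_lit 949), Mv.f (nat_lit 3386)])))
(Tr.nd (nat_lit 3391) (Tr.lf (Fc.ed (nat_lit 3390) (nat_lit 1012) Col.g (nat_lit 1097) Dv.df))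
(Tr.lf (Fc.ed (nat_lit 3391) (nat_lit 1097) Col.g (nat_lit 981) (Dv.wd (nat_lit 9) [Mv.b (nat_lit 3202), Mv.f (nat_lit 3203), Mv.f (nat_lit 3390)]))))))
(Tr.nd (nat_lit 3394) (Tr.nd (nat_lit 3393) (Tr.lf (Fc.ed (nat_lit 3392) (nat_lit 1097) Col.c (nat_lit 990) (Dv.wd (nat_lit 83) [Mv.b (nat_lit 3104), Mv.b (nat_lit 1488), Mv.b (nat_lit 1493), Mv.b (nat_lit 2161), Mv.b (nat_lit 2160), Mv.f (nat_lit 3167), Mv.f (nat_lit 3168), Mv.b (nat_lit 3173), Mv.f (nat_lit 3390)])))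
(Tr.lf (Fc.ed (nat_lit 3393) (nat_lit 868) Col.d (nat_lit 1098) Dv.df)))
(Tr.nd (nat_lit 3395) (Tr.lf (Fc.ed (nat_lit 3394) (nat_lit 1098) Col.a (nat_lit 1098) (Dv.wd (nat_lit 8) [Mv.b (nat_lit 3393), Mv.f (nat_lit 2812), Mv.f (nat_lit 3393)])))
(Tr.nd (nat_lit 3396) (Tr.lf (Fc.ed (nat_lit 3395) (nat_lit 789) Col.d (nat_lit 1099) Dv.df))
(Tr.lf (Fc.ed (nat_lit 3396) (nat_lit 963) Col.gi (nat_lit 1100) Dv.df))))))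
(Tr.nd (nat_lit 3402) (Tr.nd (nat_lit 3399) (Tr.nd (nat_lit 3398) (Tr.lf (Fc.ed (nat_lit 3397) (nat_lit 1100) Col.c (nat_lit 922) (Dv.wd (nat_lit 81) [Mv.b (nat_lit 2932), Mv.f (nat_lit 2929), Mv.f (nat_lit 1334), Mv.f (nat_lit 1346), Mv.f (nat_lit 394), Mv.f (nat_lit 876), Mv.f (nat_lit 2318), Mv.f (nat_lit 3036), Mv.f (nat_lit 3396)])))
(Tr.lf (Fc.ed (nat_lit 3398) (nat_lit 854) Col.a (nat_lit 1101) Dv.df)))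
(Tr.nd (nat_lit 3400) (Tr.lf (Fc.ed (nat_lit 3399) (nat_lit 1101) Col.e (nat_lit 186) (Dv.wd (nat_lit 56) [Mv.b (nat_lit 484), Mv.f (nat_lit 2430), Mv.f (nat_lit 3398)])))
(Tr.nd (nat_lit 3401) (Tr.lf (Fc.ed (nat_lit 3400) (nat_lit 792) Col.d (nat_lit 1102) Dv.df))
(Tr.lf (Fc.ed (nat_lit 3401) (nat_lit 1102) Col.b (nat_lit 690) (Dv.wd (nat_lit 37) [Mv.b (nat_lit 2027), Mv.b (nat_lit 2268), Mv.f (nat_lit 3400)]))))))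
(Tr.nd (nat_lit 3405) (Tr.nd (nat_lit 3403) (Tr.lf (Fc.ed (nat_lit 3402) (nat_lit 1102) Col.f (nat_lit 1102) (Dv.wd (nat_lit 11) [Mv.b (nat_lit 3400), Mv.f (nat_lit 2270), Mv.f (nat_lit 3400)])))
(Tr.nd (nat_lit 3404) (Tr.lf (Fc.ed (nat_lit 3403) (nat_lit 968) Col.g (nat_lit 1102) (Dv.wd (nat_lit 122) [Mv.f (nat_lit 3401), Mv.b (nat_lit 2125), Mv.b (nat_lit 2124), Mv.b (nat_lit 2091), Mv.f (nat_lit 1661), Mv.f (nat_lit 1957), Mv.f (nat_lit 2133), Mv.f (nat_lit 2135), Mv.b (nat_lit 2130), Mv.b (nat_lit 3049)])))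
(Tr.lf (Fc.ed (nat_lit 3404) (nat_lit 1062) Col.gi (nat_lit 1102) (Dv.wd (nat_lit 100) [Mv.f (nat_lit 3401), Mv.b (nat_lit 2125), Mv.b (nat_lit 2132), Mv.b (nat_lit 2130), Mv.f (nat_lit 1986), Mv.f (nat_lit 1970), Mv.b (nat_lit 2899), Mv.b (nat_lit 2898), Mv.b (nat_lit 2441), Mv.b (nat_lit 3288)])))))
(Tr.nd (nat_lit 3406) (Tr.lf (Fc.ed (nat_lit 3405) (nat_lit 761) Col.g (nat_lit 1103) Dv.df))
(Tr.nd (nat_lit 3407) (Tr.lf (Fc.ed (nat_lit 3406) (nat_lit 1103) Col.g (nat_lit 340) (Dv.wd (nat_lit 9) [Mv.f (nat_lit 2195), Mv.f (nat_lit 2197), Mv.f (nat_lit 3405)])))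
(Tr.lf (Fc.ed (nat_lit 3407) (nat_lit 822) Col.c (nat_lit 1104) Dv.df))))))))
(Tr.nd (nat_lit 3428) (Tr.nd (nat_lit 3418) (Tr.nd (nat_lit 3413) (Tr.nd (nat_lit 3410) (Tr.nd (nat_lit 3409) (Tr.lf (Fc.ed (nat_lit 3408) (nat_lit 1104) Col.f (nat_lit 1100) (Dv.wd (nat_lit 26) [Mv.f (nat_lit 3397), Mv.b (nat_lit 2935), Mv.f (nat_lit 3407)])))
(Tr.lf (Fc.ed (nat_lit 3409) (nat_lit 1104) Col.d (nat_lit 1097) (Dv.wd (nat_lit 147) [Mv.f (nat_lit 3392), Mv.b (nat_lit 3104), Mv.b (nat_lit 1488), Mv.b (nat_lit 1499), Mv.f (nat_lit 1498), Mv.b (nat_lit 2872), Mv.b (nat_lit 3026), Mv.b (nat_lit 3028), Mv.f (nat_lit 3407)]))))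
(Tr.nd (nat_lit 3411) (Tr.lf (Fc.ed (nat_lit 3410) (nat_lit 1104) Col.g (nat_lit 1082) (Dv.wd (nat_lit 145) [Mv.b (nat_lit 3348), Mv.b (nat_lit 3350), Mv.f (nat_lit 3372), Mv.f (nat_lit 3375), Mv.f (nat_lit 2446), Mv.b (nat_lit 1386), Mv.f (nat_lit 2439), Mv.f (nat_lit 2440), Mv.f (nat_lit 3407)])))
(Tr.nd (nat_lit 3412) (Tr.lf (Fc.ed (nat_lit 3411) (nat_lit 1067) Col.c (nat_lit 1010) (Dv.wd (nat_lit 32) [Mv.f (nat_lit 3169), Mv.b (nat_lit 3076), Mv.b (nat_lit 3391), Mv.b (nat_lit 3409), Mv.f (nat_lit 3410), Mv.b (nat_lit 3341), Mv.b (nat_lit 2434), Mv.f (nat_lit 3268), Mv.f (nat_lit 3304)])))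
(Tr.lf (Fc.ed (nat_lit 3412) (nat_lit 562) Col.a (nat_lit 1105) Dv.df)))))
(Tr.nd (nat_lit 3415) (Tr.nd (nat_lit 3414) (Tr.lf (Fc.ed (nat_lit 3413) (nat_lit 1105) Col.f (nat_lit 501) (Dv.wd (nat_lit 35) [Mv.f (nat_lit 3142), Mv.f (nat_lit 3143), Mv.f (nat_lit 3412)])))
(Tr.lf (Fc.ed (nat_lit 3414) (nat_lit 979) Col.f (nat_lit 1106) Dv.df)))
(Tr.nd (nat_lit 3416) (Tr.lf (Fc.ed (nat_lit 3415) (nat_lit 976) Col.b (nat_lit 1107) Dv.df))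
(Tr.nd (nat_lit 3417) (Tr.lf (Fc.ed (nat_lit 3416) (nat_lit 1107) Col.a (nat_lit 906) (Dv.wd (nat_lit 98) [Mv.b (nat_lit 2881), Mv.b (nat_lit 1145), Mv.f (nat_lit 2966), Mv.f (nat_lit 3064), Mv.f (nat_lit 3415)])))
(Tr.lf (Fc.ed (nat_lit 3417) (nat_lit 976) Col.c (nat_lit 1107) (Dv.wd (nat_lit 134) [Mv.f (nat_lit 3416), Mv.b (nat_lit 2967), Mv.f (nat_lit 3064)])))))))
(Tr.nd (nat_lit 3423) (Tr.nd (nat_lit 3420) (Tr.nd (nat_lit 3419) (Tr.lf (Fc.ed (nat_lit 3418) (nat_lit 1026) Col.g (nat_lit 1108) Dv.df))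
(Tr.lf (Fc.ed (nat_lit 3419) (nat_lit 1108) Col.g (nat_lit 962) (Dv.wd (nat_lit 9) [Mv.b (nat_lit 3172), Mv.b (nat_lit 3203), Mv.f (nat_lit 3418)]))))
(Tr.nd (nat_lit 3421) (Tr.lf (Fc.ed (nat_lit 3420) (nat_lit 1108) Col.d (nat_lit 1100) (Dv.wd (nat_lit 85) [Mv.f (nat_lit 3397), Mv.f (nat_lit 2933), Mv.b (nat_lit 1609), Mv.b (nat_lit 2278), Mv.f (nat_lit 2444), Mv.b (nat_lit 3375), Mv.b (nat_lit 3377), Mv.f (nat_lit 3201), Mv.f (nat_lit 3418)])))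
(Tr.nd (nat_lit 3422) (Tr.lf (Fc.ed (nat_lit 3421) (nat_lit 1097) Col.f (nat_lit 1108) (Dv.wd (nat_lit 86) [Mv.f (nat_lit 3420), Mv.b (nat_lit 3408), Mv.f (nat_lit 3409)])))
(Tr.lf (Fc.ed (nat_lit 3422) (nat_lit 1072) Col.gi (nat_lit 1109) Dv.df)))))
(Tr.nd (nat_lit 3425) (Tr.nd (nat_lit 3424) (Tr.lf (Fc.ed (nat_lit 3423) (nat_lit 1109) Col.d (nat_lit 788) (Dv.wd (nat_lit 48) [Mv.f (nat_lit 2288), Mv.f (nat_lit 2290), Mv.b (nat_lit 377), Mv.b (nat_lit 1443), Mv.b (nat_lit 501), Mv.b (nat_lit 230), Mv.b (nat_lit 2253), Mv.f (nat_lit 3318), Mv.f (nat_lit 3422)])))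
(Tr.lf (Fc.ed (nat_lit 3424) (nat_lit 1015) Col.a (nat_lit 1109) (Dv.wd (nat_lit 54) [Mv.f (nat_lit 3423), Mv.f (nat_lit 2259), Mv.f (nat_lit 3178)]))))
(Tr.nd (nat_lit 3426) (Tr.lf (Fc.ed (nat_lit 3425) (nat_lit 1099) Col.f (nat_lit 1109) (Dv.wd (nat_lit 86) [Mv.f (nat_lit 3423), Mv.b (nat_lit 2261), Mv.f (nat_lit 3395)])))
(Tr.nd (nat_lit 3427) (Tr.lf (Fc.ed (nat_lit 3426) (nat_lit 1038) Col.g (nat_lit 1110) Dv.df))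
(Tr.lf (Fc.ed (nat_lit 3427) (nat_lit 1110) Col.g (nat_lit 1029) (Dv.wd (nat_lit 9) [Mv.b (nat_lit 3352), Mv.f (nat_lit 3353), Mv.f (nat_lit 3426)]))))))))
(Tr.nd (nat_lit 3438) (Tr.nd (nat_lit 3433) (Tr.nd (nat_lit 3430) (Tr.nd (nat_lit 3429) (Tr.lf (Fc.ed (nat_lit 3428) (nat_lit 1110) Col.c (nat_lit 1109) (Dv.wd (nat_lit 83) [Mv.f (nat_lit 3423), Mv.b (nat_lit 2258), Mv.f (nat_lit 1323), Mv.f (nat_lit 1436), Mv.b (nat_lit 1434), Mv.b (nat_lit 3246), Mv.b (nat_lit 3244), Mv.b (nat_lit 3231), Mv.f (nat_lit 3426)])))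
(Tr.lf (Fc.ed (nat_lit 3429) (nat_lit 777) Col.b (nat_lit 1111) Dv.df)))
(Tr.nd (nat_lit 3431) (Tr.lf (Fc.ed (nat_lit 3430) (nat_lit 1111) Col.e (nat_lit 1111) (Dv.wd (nat_lit 52) [Mv.b (nat_lit 3429), Mv.f (nat_lit 2231), Mv.f (nat_lit 3429)])))
(Tr.nd (nat_lit 3432) (Tr.lf (Fc.ed (nat_lit 3431) (nat_lit 1108) Col.c (nat_lit 1112) Dv.df))
(Tr.lf (Fc.ed (nat_lit 3432) (nat_lit 1112) Col.f (nat_lit 990) (Dv.wd (nat_lit 26) [Mv.b (nat_lit 3392), Mv.f (nat_lit 3421), Mv.f (nat_lit 3431)]))))))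
(Tr.nd (nat_lit 3435) (Tr.nd (nat_lit 3434) (Tr.lf (Fc.ed (nat_lit 3433) (nat_lit 1112) Col.d (nat_lit 352) (Dv.wd (nat_lit 44) [Mv.b (nat_lit 1502), Mv.b (nat_lit 1509), Mv.f (nat_lit 1604), Mv.b (nat_lit 3027), Mv.f (nat_lit 3026), Mv.f (nat_lit 2934), Mv.b (nat_lit 3397), Mv.b (nat_lit 3420), Mv.f (nat_lit 3431)])))
(Tr.lf (Fc.ed (nat_lit 3434) (nat_lit 378) Col.e (nat_lit 1113) Dv.df)))
(Tr.nd (nat_lit 3436) (Tr.lf (Fc.ed (nat_lit 3435) (nat_lit 1113) Col.a (nat_lit 1113) (Dv.wd (nat_lit 15) [Mv.b (nat_lit 3434), Mv.f (nat_lit 900), Mv.f (nat_lit 3434)])))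
(Tr.nd (nat_lit 3437) (Tr.lf (Fc.ed (nat_lit 3436) (nat_lit 1113) Col.c (nat_lit 598) (Dv.wd (nat_lit 18) [Mv.b (nat_lit 1863), Mv.f (nat_lit 899), Mv.f (nat_lit 3434)])))
(Tr.lf (Fc.ed (nat_lit 3437) (nat_lit 779) Col.c (nat_lit 1114) Dv.df))))))
(Tr.nd (nat_lit 3443) (Tr.nd (nat_lit 3440) (Tr.nd (nat_lit 3439) (Tr.lf (Fc.ed (nat_lit 3438) (nat_lit 1114) Col.d (nat_lit 1110) (Dv.wd (nat_lit 147) [Mv.f (nat_lit 3428), Mv.f (nat_lit 3423), Mv.b (nat_lit 2258), Mv.b (nat_lit 1318), Mv.f (nat_lit 1287), Mv.b (nat_lit 2339), Mv.f (nat_lit 2338), Mv.b (nat_lit 2335), Mv.f (nat_lit 3437)])))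
(Tr.lf (Fc.ed (nat_lit 3439) (nat_lit 1030) Col.d (nat_lit 1115) Dv.df)))
(Tr.nd (nat_lit 3441) (Tr.lf (Fc.ed (nat_lit 3440) (nat_lit 1115) Col.e (nat_lit 603) (Dv.wd (nat_lit 42) [Mv.b (nat_lit 1571), Mv.f (nat_lit 713), Mv.b (nat_lit 736), Mv.f (nat_lit 3212), Mv.f (nat_lit 3439)])))
(Tr.nd (nat_lit 3442) (Tr.lf (Fc.ed (nat_lit 3441) (nat_lit 1047) Col.d (nat_lit 1116) Dv.df))
(Tr.lf (Fc.ed (nat_lit 3442) (nat_lit 1116) Col.a (nat_lit 1116) (Dv.wd (nat_lit 8) [Mv.b (nat_lit 3441), Mv.f (nat_lit 3252), Mv.f (nat_lit 3441)]))))))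
(Tr.nd (nat_lit 3446) (Tr.nd (nat_lit 3444) (Tr.lf (Fc.ed (nat_lit 3443) (nat_lit 1116) Col.e (nat_lit 865) (Dv.wd (nat_lit 42) [Mv.b (nat_lit 2450), Mv.b (nat_lit 837), Mv.f (nat_lit 758), Mv.f (nat_lit 3251), Mv.f (nat_lit 3441)])))
(Tr.nd (nat_lit 3445) (Tr.lf (Fc.ed (nat_lit 3444) (nat_lit 1054) Col.a (nat_lit 1117) Dv.df))
(Tr.lf (Fc.ed (nat_lit 3445) (nat_lit 859) Col.c (nat_lit 1118) Dv.df))))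
(Tr.nd (nat_lit 3447) (Tr.lf (Fc.ed (nat_lit 3446) (nat_lit 1118) Col.a (nat_lit 1027) (Dv.wd (nat_lit 19) [Mv.b (nat_lit 3205), Mv.b (nat_lit 2928), Mv.f (nat_lit 3445)])))
(Tr.nd (nat_lit 3448) (Tr.lf (Fc.ed (nat_lit 3447) (nat_lit 1118) Col.f (nat_lit 1033) (Dv.wd (nat_lit 26) [Mv.b (nat_lit 3220), Mv.f (nat_lit 3031), Mv.f (nat_lit 3445)])))
(Tr.lf (Fc.ed (nat_lit 3448) (nat_lit 1118) Col.d (nat_lit 1085) (Dv.wd (nat_lit 147) [Mv.b (nat_lit 3351), Mv.f (nat_lit 3009), Mv.b (nat_lit 1330), Mv.f (nat_lit 742), Mv.b (nat_lit 806), Mv.b (nat_lit 2342), Mv.b (nat_lit 2930), Mv.b (nat_lit 2928), Mv.f (nat_lit 3445)])))))))))))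
(Tr.nd (nat_lit 3531) (Tr.nd (nat_lit 3490) (Tr.nd (nat_lit 3469) (Tr.nd (nat_lit 3459) (Tr.nd (nat_lit 3454) (Tr.nd (nat_lit 3451) (Tr.nd (nat_lit 3450) (Tr.lf (Fc.ed (nat_lit 3449) (nat_lit 1118) Col.g (nat_lit 957) (Dv.wd (nat_lit 77) [Mv.b (nat_lit 3021), Mv.b (nat_lit 2352), Mv.f (nat_lit 1664), Mv.b (nat_lit 1670), Mv.b (nat_lit 1904), Mv.f (nat_lit 1902), Mv.f (nat_lit 2350), Mv.b (nat_lit 2440), Mv.f (nat_lit 3445)])))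
(Tr.lf (Fc.ed (nat_lit 3450) (nat_lit 816) Col.e (nat_lit 1119) Dv.df)))
(Tr.nd (nat_lit 3452) (Tr.lf (Fc.ed (nat_lit 3451) (nat_lit 1044) Col.f (nat_lit 1120) Dv.df))
(Tr.nd (nat_lit 3453) (Tr.lf (Fc.ed (nat_lit 3452) (nat_lit 1120) Col.b (nat_lit 392) (Dv.wd (nat_lit 66) [Mv.b (nat_lit 924), Mv.f (nat_lit 3241), Mv.f (nat_lit 3451)])))
(Tr.lf (Fc.ed (nat_lit 3453) (nat_lit 1120) Col.e (nat_lit 1083) (Dv.wd (nat_lit 22) [Mv.f (nat_lit 3345), Mv.b (nat_lit 3337), Mv.f (nat_lit 3338), Mv.b (nat_lit 3242), Mv.f (nat_lit 3451)]))))))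
(Tr.nd (nat_lit 3456) (Tr.nd (nat_lit 3455) (Tr.lf (Fc.ed (nat_lit 3454) (nat_lit 998) Col.c (nat_lit 1121) Dv.df))
(Tr.lf (Fc.ed (nat_lit 3455) (nat_lit 1121) Col.gi (nat_lit 1021) (Dv.wd (nat_lit 141) [Mv.b (nat_lit 3190), Mv.f (nat_lit 3165), Mv.f (nat_lit 3166), Mv.b (nat_lit 2351), Mv.f (nat_lit 3407), Mv.f (nat_lit 3409), Mv.f (nat_lit 3392), Mv.b (nat_lit 3129), Mv.f (nat_lit 3454)]))))
(Tr.nd (nat_lit 3457) (Tr.lf (Fc.ed (nat_lit 3456) (nat_lit 936) Col.c (nat_lit 1021) (Dv.wd (nat_lit 138) [Mv.b (nat_lit 3455), Mv.b (nat_lit 3454), Mv.b (nat_lit 3128), Mv.f (nat_lit 1910), Mv.f (nat_lit 1549), Mv.f (nat_lit 2258), Mv.f (nat_lit 2288), Mv.b (nat_lit 3082), Mv.f (nat_lit 3083)])))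
(Tr.nd (nat_lit 3458) (Tr.lf (Fc.ed (nat_lit 3457) (nat_lit 1070) Col.d (nat_lit 1122) Dv.df))
(Tr.lf (Fc.ed (nat_lit 3458) (nat_lit 1122) Col.a (nat_lit 1122) (Dv.wd (nat_lit 8) [Mv.b (nat_lit 3457), Mv.f (nat_lit 3313), Mv.f (nat_lit 3457)])))))))
(Tr.nd (nat_lit 3464) (Tr.nd (nat_lit 3461) (Tr.nd (nat_lit 3460) (Tr.lf (Fc.ed (nat_lit 3459) (nat_lit 1122) Col.f (nat_lit 598) (Dv.wd (nat_lit 11) [Mv.b (nat_lit 1555), Mv.f (nat_lit 3312), Mv.f (nat_lit 3457)])))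
(Tr.lf (Fc.ed (nat_lit 3460) (nat_lit 1055) Col.g (nat_lit 1122) (Dv.wd (nat_lit 9) [Mv.f (nat_lit 3458), Mv.f (nat_lit 3459), Mv.f (nat_lit 3270)]))))
(Tr.nd (nat_lit 3462) (Tr.lf (Fc.ed (nat_lit 3461) (nat_lit 1009) Col.g (nat_lit 1123) Dv.df))
(Tr.nd (nat_lit 3463) (Tr.lf (Fc.ed (nat_lit 3462) (nat_lit 1123) Col.g (nat_lit 1118) (Dv.wd (nat_lit 9) [Mv.f (nat_lit 3446), Mv.f (nat_lit 3206), Mv.f (nat_lit 3461)])))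
(Tr.lf (Fc.ed (nat_lit 3463) (nat_lit 1123) Col.c (nat_lit 800) (Dv.wd (nat_lit 83) [Mv.b (nat_lit 2293), Mv.b (nat_lit 1676), Mv.b (nat_lit 1674), Mv.f (nat_lit 732), Mv.b (nat_lit 1516), Mv.b (nat_lit 2872), Mv.b (nat_lit 2871), Mv.b (nat_lit 3166), Mv.f (nat_lit 3461)]))))))
(Tr.nd (nat_lit 3466) (Tr.nd (nat_lit 3465) (Tr.lf (Fc.ed (nat_lit 3464) (nat_lit 898) Col.g (nat_lit 1124) Dv.df))
(Tr.lf (Fc.ed (nat_lit 3465) (nat_lit 1124) Col.g (nat_lit 474) (Dv.wd (nat_lit 9) [Mv.b (nat_lit 1186), Mv.b (nat_lit 2869), Mv.f (nat_lit 3464)]))))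
(Tr.nd (nat_lit 3467) (Tr.lf (Fc.ed (nat_lit 3466) (nat_lit 432) Col.d (nat_lit 1125) Dv.df))
(Tr.nd (nat_lit 3468) (Tr.lf (Fc.ed (nat_lit 3467) (nat_lit 1125) Col.f (nat_lit 1125) (Dv.wd (nat_lit 11) [Mv.b (nat_lit 3466), Mv.f (nat_lit 1088), Mv.f (nat_lit 3466)])))
(Tr.lf (Fc.ed (nat_lit 3468) (nat_lit 1098) Col.gi (nat_lit 1126) Dv.df)))))))
(Tr.nd (nat_lit 3479) (Tr.nd (nat_lit 3474) (Tr.nd (nat_lit 3471) (Tr.nd (nat_lit 3470) (Tr.lf (Fc.ed (nat_lit 3469) (nat_lit 1126) Col.d (nat_lit 101) (Dv.wd (nat_lit 48) [Mv.b (nat_lit 1786), Mv.f (nat_lit 2625), Mv.f (nat_lit 2589), Mv.f (nat_lit 89), Mv.b (nat_lit 2627), Mv.f (nat_lit 2794), Mv.f (nat_lit 2785), Mv.f (nat_lit 3393), Mv.f (nat_lit 3468)])))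
(Tr.lf (Fc.ed (nat_lit 3470) (nat_lit 920) Col.gi (nat_lit 1127) Dv.df)))
(Tr.nd (nat_lit 3472) (Tr.lf (Fc.ed (nat_lit 3471) (nat_lit 1127) Col.gi (nat_lit 376) (Dv.wd (nat_lit 24) [Mv.f (nat_lit 1823), Mv.f (nat_lit 2924), Mv.f (nat_lit 3470)])))
(Tr.nd (nat_lit 3473) (Tr.lf (Fc.ed (nat_lit 3472) (nat_lit 1079) Col.gi (nat_lit 1128) Dv.df))
(Tr.lf (Fc.ed (nat_lit 3473) (nat_lit 1128) Col.gi (nat_lit 384) (Dv.wd (nat_lit 24) [Mv.b (nat_lit 3335), Mv.f (nat_lit 3333), Mv.f (nat_lit 3472)]))))))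
(Tr.nd (nat_lit 3476) (Tr.nd (nat_lit 3475) (Tr.lf (Fc.ed (nat_lit 3474) (nat_lit 559) Col.g (nat_lit 1129) Dv.df))
(Tr.lf (Fc.ed (nat_lit 3475) (nat_lit 1129) Col.g (nat_lit 512) (Dv.wd (nat_lit 9) [Mv.b (nat_lit 1327), Mv.f (nat_lit 1338), Mv.f (nat_lit 3474)]))))
(Tr.nd (nat_lit 3477) (Tr.lf (Fc.ed (nat_lit 3476) (nat_lit 1027) Col.gi (nat_lit 1130) Dv.df))
(Tr.nd (nat_lit 3478) (Tr.lf (Fc.ed (nat_lit 3477) (nat_lit 1130) Col.gi (nat_lit 1033) (Dv.wd (nat_lit 24) [Mv.b (nat_lit 3447), Mv.f (nat_lit 3446), Mv.f (nat_lit 3476)])))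
(Tr.lf (Fc.ed (nat_lit 3478) (nat_lit 1130) Col.c (nat_lit 833) (Dv.wd (nat_lit 81) [Mv.b (nat_lit 2379), Mv.f (nat_lit 2332), Mv.f (nat_lit 1242), Mv.b (nat_lit 1181), Mv.f (nat_lit 1243), Mv.b (nat_lit 821), Mv.b (nat_lit 2929), Mv.f (nat_lit 3205), Mv.f (nat_lit 3476)])))))))
(Tr.nd (nat_lit 3484) (Tr.nd (nat_lit 3481) (Tr.nd (nat_lit 3480) (Tr.lf (Fc.ed (nat_lit 3479) (nat_lit 795) Col.c (nat_lit 1131) Dv.df))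
(Tr.lf (Fc.ed (nat_lit 3480) (nat_lit 400) Col.c (nat_lit 1132) Dv.df)))
(Tr.nd (nat_lit 3482) (Tr.lf (Fc.ed (nat_lit 3481) (nat_lit 593) Col.c (nat_lit 1133) Dv.df))
(Tr.nd (nat_lit 3483) (Tr.lf (Fc.ed (nat_lit 3482) (nat_lit 373) Col.b (nat_lit 1134) Dv.df))
(Tr.lf (Fc.ed (nat_lit 3483) (nat_lit 1134) Col.e (nat_lit 993) (Dv.wd (nat_lit 52) [Mv.b (nat_lit 3120), Mv.f (nat_lit 884), Mv.f (nat_lit 3482)]))))))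
(Tr.nd (nat_lit 3487) (Tr.nd (nat_lit 3485) (Tr.lf (Fc.ed (nat_lit 3484) (nat_lit 529) Col.a (nat_lit 1135) Dv.df))
(Tr.nd (nat_lit 3486) (Tr.lf (Fc.ed (nat_lit 3485) (nat_lit 757) Col.g (nat_lit 1136) Dv.df))
(Tr.lf (Fc.ed (nat_lit 3486) (nat_lit 1136) Col.e (nat_lit 1126) (Dv.wd (nat_lit 47) [Mv.f (nat_lit 3469), Mv.f (nat_lit 262), Mv.b (nat_lit 1894), Mv.f (nat_lit 1955), Mv.f (nat_lit 1960), Mv.f (nat_lit 1961), Mv.b (nat_lit 1754), Mv.b (nat_lit 1998), Mv.f (nat_lit 2187), Mv.f (nat_lit 3485)])))))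
(Tr.nd (nat_lit 3488) (Tr.lf (Fc.ed (nat_lit 3487) (nat_lit 480) Col.a (nat_lit 1137) Dv.df))
(Tr.nd (nat_lit 3489) (Tr.lf (Fc.ed (nat_lit 3488) (nat_lit 1137) Col.d (nat_lit 941) (Dv.wd (nat_lit 28) [Mv.b (nat_lit 2986), Mv.b (nat_lit 2314), Mv.f (nat_lit 3487)])))
(Tr.lf (Fc.ed (nat_lit 3489) (nat_lit 1137) Col.e (nat_lit 1135) (Dv.wd (nat_lit 56) [Mv.b (nat_lit 3484), Mv.b (nat_lit 2499), Mv.f (nat_lit 3487)])))))))))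
(Tr.nd (nat_lit 3510) (Tr.nd (nat_lit 3500) (Tr.nd (nat_lit 3495) (Tr.nd (nat_lit 3492) (Tr.nd (nat_lit 3491) (Tr.lf (Fc.ed (nat_lit 3490) (nat_lit 1137) Col.f (nat_lit 1135) (Dv.wd (nat_lit 35) [Mv.b (nat_lit 3484), Mv.b (nat_lit 1263), Mv.f (nat_lit 3487)])))
(Tr.lf (Fc.ed (nat_lit 3491) (nat_lit 960) Col.c (nat_lit 1138) Dv.df)))
(Tr.nd (nat_lit 3493) (Tr.lf (Fc.ed (nat_lit 3492) (nat_lit 1138) Col.a (nat_lit 1104) (Dv.wd (nat_lit 19) [Mv.b (nat_lit 3407), Mv.f (nat_lit 3028), Mv.f (nat_lit 3491)])))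
(Tr.nd (nat_lit 3494) (Tr.lf (Fc.ed (nat_lit 3493) (nat_lit 1138) Col.g (nat_lit 1042) (Dv.wd (nat_lit 145) [Mv.b (nat_lit 3255), Mv.f (nat_lit 3256), Mv.b (nat_lit 3248), Mv.b (nat_lit 3217), Mv.f (nat_lit 2089), Mv.b (nat_lit 1334), Mv.b (nat_lit 2929), Mv.f (nat_lit 3025), Mv.f (nat_lit 3491)])))
(Tr.lf (Fc.ed (nat_lit 3494) (nat_lit 1138) Col.gi (nat_lit 963) (Dv.wd (nat_lit 78) [Mv.b (nat_lit 3036), Mv.b (nat_lit 2354), Mv.b (nat_lit 2352), Mv.b (nat_lit 1064), Mv.b (nat_lit 488), Mv.b (nat_lit 1507), Mv.f (nat_lit 1604), Mv.b (nat_lit 3027), Mv.f (nat_lit 3491)]))))))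
(Tr.nd (nat_lit 3497) (Tr.nd (nat_lit 3496) (Tr.lf (Fc.ed (nat_lit 3495) (nat_lit 1054) Col.f (nat_lit 1139) Dv.df))
(Tr.lf (Fc.ed (nat_lit 3496) (nat_lit 420) Col.f (nat_lit 1140) Dv.df)))
(Tr.nd (nat_lit 3498) (Tr.lf (Fc.ed (nat_lit 3497) (nat_lit 1140) Col.b (nat_lit 1096) (Dv.wd (nat_lit 66) [Mv.b (nat_lit 3386), Mv.f (nat_lit 975), Mv.f (nat_lit 3496)])))
(Tr.nd (nat_lit 3499) (Tr.lf (Fc.ed (nat_lit 3498) (nat_lit 1140) Col.e (nat_lit 1081) (Dv.wd (nat_lit 22) [Mv.b (nat_lit 3339), Mv.b (nat_lit 1141), Mv.f (nat_lit 931), Mv.b (nat_lit 976), Mv.f (nat_lit 3496)])))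
(Tr.lf (Fc.ed (nat_lit 3499) (nat_lit 1121) Col.d (nat_lit 1141) Dv.df))))))
(Tr.nd (nat_lit 3505) (Tr.nd (nat_lit 3502) (Tr.nd (nat_lit 3501) (Tr.lf (Fc.ed (nat_lit 3500) (nat_lit 1141) Col.c (nat_lit 749) (Dv.wd (nat_lit 150) [Mv.f (nat_lit 2170), Mv.b (nat_lit 732), Mv.f (nat_lit 792), Mv.f (nat_lit 797), Mv.f (nat_lit 1546), Mv.b (nat_lit 1910), Mv.f (nat_lit 3128), Mv.f (nat_lit 3454), Mv.f (nat_lit 3499)])))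
(Tr.lf (Fc.ed (nat_lit 3501) (nat_lit 1141) Col.gi (nat_lit 1114) (Dv.wd (nat_lit 111) [Mv.f (nat_lit 3438), Mv.b (nat_lit 3426), Mv.f (nat_lit 3231), Mv.b (nat_lit 2991), Mv.f (nat_lit 2937), Mv.f (nat_lit 1907), Mv.f (nat_lit 3128), Mv.f (nat_lit 3454), Mv.f (nat_lit 3499)]))))
(Tr.nd (nat_lit 3503) (Tr.lf (Fc.ed (nat_lit 3502) (nat_lit 1131) Col.f (nat_lit 1141) (Dv.wd (nat_lit 64) [Mv.f (nat_lit 3500), Mv.f (nat_lit 2277), Mv.f (nat_lit 3479)])))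
(Tr.nd (nat_lit 3504) (Tr.lf (Fc.ed (nat_lit 3503) (nat_lit 857) Col.d (nat_lit 1142) Dv.df))
(Tr.lf (Fc.ed (nat_lit 3504) (nat_lit 1142) Col.a (nat_lit 1142) (Dv.wd (nat_lit 8) [Mv.b (nat_lit 3503), Mv.f (nat_lit 3115), Mv.f (nat_lit 3503)]))))))
(Tr.nd (nat_lit 3507) (Tr.nd (nat_lit 3506) (Tr.lf (Fc.ed (nat_lit 3505) (nat_lit 1142) Col.g (nat_lit 1096) (Dv.wd (nat_lit 69) [Mv.f (nat_lit 3388), Mv.b (nat_lit 3332), Mv.b (nat_lit 2490), Mv.f (nat_lit 2788), Mv.f (nat_lit 2508), Mv.f (nat_lit 2776), Mv.b (nat_lit 1846), Mv.f (nat_lit 2436), Mv.f (nat_lit 3503)])))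
(Tr.lf (Fc.ed (nat_lit 3506) (nat_lit 1093) Col.e (nat_lit 567) (Dv.wd (nat_lit 47) [Mv.f (nat_lit 2228), Mv.f (nat_lit 2804), Mv.b (nat_lit 1742), Mv.f (nat_lit 1847), Mv.f (nat_lit 2436), Mv.f (nat_lit 3503), Mv.f (nat_lit 3505), Mv.f (nat_lit 3388), Mv.f (nat_lit 3334), Mv.b (nat_lit 3379)]))))
(Tr.nd (nat_lit 3508) (Tr.lf (Fc.ed (nat_lit 3507) (nat_lit 1142) Col.gi (nat_lit 406) (Dv.wd (nat_lit 151) [Mv.b (nat_lit 947), Mv.f (nat_lit 3378), Mv.f (nat_lit 3506), Mv.f (nat_lit 2228), Mv.f (nat_lit 2805), Mv.f (nat_lit 2661), Mv.b (nat_lit 750), Mv.b (nat_lit 1116), Mv.b (nat_lit 2809), Mv.f (nat_lit 3503)])))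
(Tr.nd (nat_lit 3509) (Tr.lf (Fc.ed (nat_lit 3508) (nat_lit 615) Col.e (nat_lit 139) (Dv.wd (nat_lit 70) [Mv.f (nat_lit 357), Mv.f (nat_lit 912), Mv.f (nat_lit 947), Mv.b (nat_lit 3507), Mv.b (nat_lit 3503), Mv.f (nat_lit 2809), Mv.f (nat_lit 1116), Mv.b (nat_lit 2708), Mv.f (nat_lit 2821), Mv.f (nat_lit 2656)])))
(Tr.lf (Fc.al (nat_lit 3509) (nat_lit 669) (nat_lit 615) (Dv.wd (nat_lit 72) [Mv.f (nat_lit 3508), Mv.f (nat_lit 1709), Mv.b (nat_lit 3508), Mv.f (nat_lit 1962)]))))))))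
(Tr.nd (nat_lit 3520) (Tr.nd (nat_lit 3515) (Tr.nd (nat_lit 3512) (Tr.nd (nat_lit 3511) (Tr.lf (Fc.ed (nat_lit 3510) (nat_lit 615) Col.a (nat_lit 615) (Dv.wd (nat_lit 29) [Mv.f (nat_lit 1962), Mv.f (nat_lit 3509)])))
(Tr.lf (Fc.ed (nat_lit 3511) (nat_lit 615) Col.f (nat_lit 607) (Dv.wd (nat_lit 30) [Mv.f (nat_lit 2615), Mv.f (nat_lit 3509)]))))
(Tr.nd (nat_lit 3513) (Tr.lf (Fc.ed (nat_lit 3512) (nat_lit 596) Col.e (nat_lit 703) (Dv.wd (nat_lit 40) [Mv.f (nat_lit 2656), Mv.f (nat_lit 3508), Mv.b (nat_lit 356), Mv.b (nat_lit 1573), Mv.f (nat_lit 1551)])))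
(Tr.nd (nat_lit 3514) (Tr.lf (Fc.ed (nat_lit 3513) (nat_lit 703) Col.a (nat_lit 703) (Dv.wd (nat_lit 15) [Mv.b (nat_lit 3512), Mv.f (nat_lit 1716), Mv.f (nat_lit 3512)])))
(Tr.lf (Fc.ed (nat_lit 3514) (nat_lit 776) Col.f (nat_lit 703) (Dv.wd (nat_lit 13) [Mv.f (nat_lit 3513), Mv.b (nat_lit 2821), Mv.f (nat_lit 2707)]))))))
(Tr.nd (nat_lit 3517) (Tr.nd (nat_lit 3516) (Tr.lf (Fc.ed (nat_lit 3515) (nat_lit 776) Col.a (nat_lit 776) (Dv.wd (nat_lit 79) [Mv.f (nat_lit 3514), Mv.f (nat_lit 3513), Mv.b (nat_lit 3514)])))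
(Tr.lf (Fc.ed (nat_lit 3516) (nat_lit 607) Col.a (nat_lit 607) (Dv.wd (nat_lit 54) [Mv.b (nat_lit 2659), Mv.f (nat_lit 3515), Mv.f (nat_lit 2659)]))))
(Tr.nd (nat_lit 3518) (Tr.lf (Fc.ed (nat_lit 3517) (nat_lit 1093) Col.a (nat_lit 1093) (Dv.wd (nat_lit 31) [Mv.f (nat_lit 3506), Mv.f (nat_lit 3109), Mv.b (nat_lit 3506)])))
(Tr.nd (nat_lit 3519) (Tr.lf (Fc.ed (nat_lit 3518) (nat_lit 1128) Col.f (nat_lit 1093) (Dv.wd (nat_lit 13) [Mv.f (nat_lit 3517), Mv.f (nat_lit 3379), Mv.f (nat_lit 3472)])))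
(Tr.lf (Fc.ed (nat_lit 3519) (nat_lit 1128) Col.a (nat_lit 1128) (Dv.wd (nat_lit 79) [Mv.f (nat_lit 3518), Mv.f (nat_lit 3517), Mv.b (nat_lit 3518)])))))))
(Tr.nd (nat_lit 3525) (Tr.nd (nat_lit 3522) (Tr.nd (nat_lit 3521) (Tr.lf (Fc.ed (nat_lit 3520) (nat_lit 918) Col.e (nat_lit 1128) (Dv.wd (nat_lit 57) [Mv.f (nat_lit 3518), Mv.f (nat_lit 3506), Mv.b (nat_lit 3113), Mv.b (nat_lit 2809), Mv.f (nat_lit 3116)])))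
(Tr.lf (Fc.ed (nat_lit 3521) (nat_lit 558) Col.a (nat_lit 1143) Dv.df)))
(Tr.nd (nat_lit 3523) (Tr.lf (Fc.ed (nat_lit 3522) (nat_lit 1143) Col.f (nat_lit 544) (Dv.wd (nat_lit 10) [Mv.f (nat_lit 1311), Mv.b (nat_lit 1337), Mv.f (nat_lit 3521)])))
(Tr.nd (nat_lit 3524) (Tr.lf (Fc.ed (nat_lit 3523) (nat_lit 983) Col.gi (nat_lit 1144) Dv.df))
(Tr.lf (Fc.ed (nat_lit 3524) (nat_lit 1144) Col.gi (nat_lit 940) (Dv.wd (nat_lit 24) [Mv.f (nat_lit 3039), Mv.b (nat_lit 3081), Mv.f (nat_lit 3523)]))))))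
(Tr.nd (nat_lit 3528) (Tr.nd (nat_lit 3526) (Tr.lf (Fc.ed (nat_lit 3525) (nat_lit 1144) Col.d (nat_lit 764) (Dv.wd (nat_lit 48) [Mv.f (nat_lit 2203), Mv.b (nat_lit 2200), Mv.f (nat_lit 467), Mv.b (nat_lit 1473), Mv.b (nat_lit 344), Mv.f (nat_lit 332), Mv.b (nat_lit 2290), Mv.b (nat_lit 3082), Mv.f (nat_lit 3523)])))
(Tr.nd (nat_lit 3527) (Tr.lf (Fc.ed (nat_lit 3526) (nat_lit 516) Col.b (nat_lit 1145) Dv.df))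
(Tr.lf (Fc.ed (nat_lit 3527) (nat_lit 1145) Col.f (nat_lit 1078) (Dv.wd (nat_lit 20) [Mv.b (nat_lit 3330), Mv.f (nat_lit 1196), Mv.f (nat_lit 3526)])))))
(Tr.nd (nat_lit 3529) (Tr.lf (Fc.ed (nat_lit 3528) (nat_lit 1145) Col.c (nat_lit 1080) (Dv.wd (nat_lit 93) [Mv.b (nat_lit 3336), Mv.f (nat_lit 2586), Mv.b (nat_lit 2580), Mv.b (nat_lit 2603), Mv.f (nat_lit 3526)])))
(Tr.nd (nat_lit 3530) (Tr.lf (Fc.ed (nat_lit 3529) (nat_lit 637) Col.c (nat_lit 1146) Dv.df))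
(Tr.lf (Fc.ed (nat_lit 3530) (nat_lit 1146) Col.gi (nat_lit 1043) (Dv.wd (nat_lit 141) [Mv.f (nat_lit 3380), Mv.f (nat_lit 3381), Mv.f (nat_lit 3107), Mv.f (nat_lit 1361), Mv.f (nat_lit 1843), Mv.b (nat_lit 2731), Mv.f (nat_lit 952), Mv.f (nat_lit 2759), Mv.f (nat_lit 3529)]))))))))))
(Tr.nd (nat_lit 3572) (Tr.nd (nat_lit 3551) (Tr.nd (nat_lit 3541) (Tr.nd (nat_lit 3536) (Tr.nd (nat_lit 3533) (Tr.nd (nat_lit 3532) (Tr.lf (Fc.ed (nat_lit 3531) (nat_lit 1112) Col.gi (nat_lit 1147) Dv.df))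
(Tr.lf (Fc.ed (nat_lit 3532) (nat_lit 1147) Col.d (nat_lit 613) (Dv.wd (nat_lit 48) [Mv.b (nat_lit 1599), Mv.b (nat_lit 1413), Mv.b (nat_lit 398), Mv.b (nat_lit 332), Mv.b (nat_lit 1507), Mv.f (nat_lit 1509), Mv.f (nat_lit 1502), Mv.b (nat_lit 3433), Mv.f (nat_lit 3531)]))))
(Tr.nd (nat_lit 3534) (Tr.lf (Fc.ed (nat_lit 3533) (nat_lit 1041) Col.a (nat_lit 1147) (Dv.wd (nat_lit 54) [Mv.f (nat_lit 3532), Mv.f (nat_lit 1601), Mv.b (nat_lit 3238)])))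
(Tr.nd (nat_lit 3535) (Tr.lf (Fc.ed (nat_lit 3534) (nat_lit 998) Col.f (nat_lit 1147) (Dv.wd (nat_lit 86) [Mv.f (nat_lit 3532), Mv.f (nat_lit 1911), Mv.f (nat_lit 3128)])))
(Tr.lf (Fc.ed (nat_lit 3535) (nat_lit 602) Col.b (nat_lit 1148) Dv.df)))))
(Tr.nd (nat_lit 3538) (Tr.nd (nat_lit 3537) (Tr.lf (Fc.ed (nat_lit 3536) (nat_lit 1148) Col.f (nat_lit 930) (Dv.wd (nat_lit 20) [Mv.b (nat_lit 2952), Mv.f (nat_lit 1570), Mv.f (nat_lit 3535)])))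
(Tr.lf (Fc.ed (nat_lit 3537) (nat_lit 1148) Col.c (nat_lit 1120) (Dv.wd (nat_lit 93) [Mv.f (nat_lit 3452), Mv.f (nat_lit 1843), Mv.f (nat_lit 552), Mv.b (nat_lit 2741), Mv.f (nat_lit 3535)]))))
(Tr.nd (nat_lit 3539) (Tr.lf (Fc.ed (nat_lit 3538) (nat_lit 1113) Col.f (nat_lit 1149) Dv.df))
(Tr.nd (nat_lit 3540) (Tr.lf (Fc.ed (nat_lit 3539) (nat_lit 1149) Col.a (nat_lit 1149) (Dv.wd (nat_lit 16) [Mv.b (nat_lit 3538), Mv.f (nat_lit 3435), Mv.f (nat_lit 3538)])))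
(Tr.lf (Fc.ed (nat_lit 3540) (nat_lit 1149) Col.c (nat_lit 1122) (Dv.wd (nat_lit 34) [Mv.f (nat_lit 3459), Mv.b (nat_lit 3436), Mv.f (nat_lit 3538)])))))))
(Tr.nd (nat_lit 3546) (Tr.nd (nat_lit 3543) (Tr.nd (nat_lit 3542) (Tr.lf (Fc.ed (nat_lit 3541) (nat_lit 1149) Col.e (nat_lit 1122) (Dv.wd (nat_lit 22) [Mv.f (nat_lit 3459), Mv.b (nat_lit 1863), Mv.f (nat_lit 1098), Mv.f (nat_lit 3434), Mv.f (nat_lit 3538)])))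
(Tr.lf (Fc.ed (nat_lit 3542) (nat_lit 1149) Col.d (nat_lit 1149) (Dv.wd (nat_lit 99) [Mv.f (nat_lit 3541), Mv.b (nat_lit 3457), Mv.f (nat_lit 3315), Mv.f (nat_lit 3457), Mv.b (nat_lit 3541)]))))
(Tr.nd (nat_lit 3544) (Tr.lf (Fc.ed (nat_lit 3543) (nat_lit 1113) Col.d (nat_lit 1113) (Dv.wd (nat_lit 90) [Mv.f (nat_lit 3538), Mv.f (nat_lit 3542), Mv.b (nat_lit 3538)])))
(Tr.nd (nat_lit 3545) (Tr.lf (Fc.ed (nat_lit 3544) (nat_lit 1052) Col.d (nat_lit 500) (Dv.wd (nat_lit 95) [Mv.b (nat_lit 1167), Mv.f (nat_lit 1555), Mv.b (nat_lit 3459), Mv.f (nat_lit 3458), Mv.b (nat_lit 3540), Mv.f (nat_lit 3542), Mv.f (nat_lit 3540), Mv.b (nat_lit 3457), Mv.f (nat_lit 3314)])))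
(Tr.lf (Fc.ed (nat_lit 3545) (nat_lit 1144) Col.c (nat_lit 1150) Dv.df)))))
(Tr.nd (nat_lit 3548) (Tr.nd (nat_lit 3547) (Tr.lf (Fc.ed (nat_lit 3546) (nat_lit 1150) Col.d (nat_lit 1123) (Dv.wd (nat_lit 95) [Mv.f (nat_lit 3463), Mv.b (nat_lit 2293), Mv.b (nat_lit 1207), Mv.b (nat_lit 1206), Mv.f (nat_lit 1664), Mv.f (nat_lit 1748), Mv.f (nat_lit 2202), Mv.b (nat_lit 3525), Mv.f (nat_lit 3545)])))
(Tr.lf (Fc.ed (nat_lit 3547) (nat_lit 1121) Col.g (nat_lit 1150) (Dv.wd (nat_lit 145) [Mv.f (nat_lit 3546), Mv.f (nat_lit 3462), Mv.f (nat_lit 3448), Mv.b (nat_lit 3351), Mv.f (nat_lit 3009), Mv.f (nat_lit 1349), Mv.f (nat_lit 3104), Mv.b (nat_lit 3129), Mv.f (nat_lit 3454)]))))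
(Tr.nd (nat_lit 3549) (Tr.lf (Fc.ed (nat_lit 3548) (nat_lit 1030) Col.g (nat_lit 1151) Dv.df))
(Tr.nd (nat_lit 3550) (Tr.lf (Fc.ed (nat_lit 3549) (nat_lit 913) Col.f (nat_lit 1152) Dv.df))
(Tr.lf (Fc.ed (nat_lit 3550) (nat_lit 1152) Col.c (nat_lit 414) (Dv.wd (nat_lit 34) [Mv.b (nat_lit 2647), Mv.f (nat_lit 2896), Mv.f (nat_lit 3549)]))))))))
(Tr.nd (nat_lit 3561) (Tr.nd (nat_lit 3556) (Tr.nd (nat_lit 3553) (Tr.nd (nat_lit 3552) (Tr.lf (Fc.ed (nat_lit 3551) (nat_lit 1007) Col.b (nat_lit 1153) Dv.df))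
(Tr.lf (Fc.ed (nat_lit 3552) (nat_lit 1153) Col.e (nat_lit 1068) (Dv.wd (nat_lit 52) [Mv.b (nat_lit 3305), Mv.b (nat_lit 3260), Mv.f (nat_lit 3551)]))))
(Tr.nd (nat_lit 3554) (Tr.lf (Fc.ed (nat_lit 3553) (nat_lit 1153) Col.f (nat_lit 1068) (Dv.wd (nat_lit 20) [Mv.b (nat_lit 3305), Mv.b (nat_lit 3261), Mv.f (nat_lit 3551)])))
(Tr.nd (nat_lit 3555) (Tr.lf (Fc.ed (nat_lit 3554) (nat_lit 1153) Col.a (nat_lit 633) (Dv.wd (nat_lit 98) [Mv.b (nat_lit 1744), Mv.f (nat_lit 1514), Mv.b (nat_lit 1737), Mv.f (nat_lit 3160), Mv.f (nat_lit 3551)])))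
(Tr.lf (Fc.ed (nat_lit 3555) (nat_lit 1153) Col.c (nat_lit 1007) (Dv.wd (nat_lit 135) [Mv.b (nat_lit 3158), Mv.f (nat_lit 1178), Mv.f (nat_lit 1177), Mv.b (nat_lit 1166), Mv.b (nat_lit 1676), Mv.f (nat_lit 1675), Mv.b (nat_lit 1904), Mv.b (nat_lit 2070), Mv.b (nat_lit 3159), Mv.f (nat_lit 3551)]))))))
(Tr.nd (nat_lit 3558) (Tr.nd (nat_lit 3557) (Tr.lf (Fc.ed (nat_lit 3556) (nat_lit 406) Col.gi (nat_lit 1154) Dv.df))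
(Tr.lf (Fc.ed (nat_lit 3557) (nat_lit 1154) Col.gi (nat_lit 1096) (Dv.wd (nat_lit 24) [Mv.b (nat_lit 3386), Mv.f (nat_lit 948), Mv.f (nat_lit 3556)]))))
(Tr.nd (nat_lit 3559) (Tr.lf (Fc.ed (nat_lit 3558) (nat_lit 1154) Col.f (nat_lit 1142) (Dv.wd (nat_lit 13) [Mv.f (nat_lit 3504), Mv.f (nat_lit 3507), Mv.f (nat_lit 3556)])))
(Tr.nd (nat_lit 3560) (Tr.lf (Fc.ed (nat_lit 3559) (nat_lit 1154) Col.d (nat_lit 918) (Dv.wd (nat_lit 48) [Mv.f (nat_lit 2906), Mv.b (nat_lit 1042), Mv.f (nat_lit 2807), Mv.f (nat_lit 2561), Mv.b (nat_lit 2486), Mv.b (nat_lit 2490), Mv.f (nat_lit 1058), Mv.f (nat_lit 947), Mv.f (nat_lit 3556)])))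
(Tr.lf (Fc.ed (nat_lit 3560) (nat_lit 1154) Col.a (nat_lit 1154) (Dv.wd (nat_lit 54) [Mv.f (nat_lit 3559), Mv.f (nat_lit 3117), Mv.b (nat_lit 3559)])))))))
(Tr.nd (nat_lit 3566) (Tr.nd (nat_lit 3563) (Tr.nd (nat_lit 3562) (Tr.lf (Fc.ed (nat_lit 3561) (nat_lit 1052) Col.gi (nat_lit 1155) Dv.df))
(Tr.lf (Fc.ed (nat_lit 3562) (nat_lit 1155) Col.gi (nat_lit 500) (Dv.wd (nat_lit 24) [Mv.f (nat_lit 3264), Mv.f (nat_lit 3265), Mv.f (nat_lit 3561)]))))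
(Tr.nd (nat_lit 3564) (Tr.lf (Fc.ed (nat_lit 3563) (nat_lit 908) Col.b (nat_lit 1156) Dv.df))
(Tr.nd (nat_lit 3565) (Tr.lf (Fc.ed (nat_lit 3564) (nat_lit 1100) Col.a (nat_lit 1157) Dv.df))
(Tr.lf (Fc.ed (nat_lit 3565) (nat_lit 1157) Col.c (nat_lit 900) (Dv.wd (nat_lit 33) [Mv.f (nat_lit 2934), Mv.b (nat_lit 3397), Mv.f (nat_lit 3564)]))))))
(Tr.nd (nat_lit 3569) (Tr.nd (nat_lit 3567) (Tr.lf (Fc.ed (nat_lit 3566) (nat_lit 1157) Col.f (nat_lit 1138) (Dv.wd (nat_lit 35) [Mv.f (nat_lit 3492), Mv.f (nat_lit 3408), Mv.f (nat_lit 3564)])))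
(Tr.nd (nat_lit 3568) (Tr.lf (Fc.ed (nat_lit 3567) (nat_lit 1157) Col.gi (nat_lit 1082) (Dv.wd (nat_lit 12) [Mv.b (nat_lit 3410), Mv.f (nat_lit 3408), Mv.f (nat_lit 3564)])))
(Tr.lf (Fc.ed (nat_lit 3568) (nat_lit 499) Col.b (nat_lit 1158) Dv.df))))
(Tr.nd (nat_lit 3570) (Tr.lf (Fc.ed (nat_lit 3569) (nat_lit 1158) Col.e (nat_lit 933) (Dv.wd (nat_lit 52) [Mv.b (nat_lit 2958), Mv.b (nat_lit 1947), Mv.f (nat_lit 3568)])))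
(Tr.nd (nat_lit 3571) (Tr.lf (Fc.ed (nat_lit 3570) (nat_lit 1158) Col.c (nat_lit 1158) (Dv.wd (nat_lit 93) [Mv.b (nat_lit 3568), Mv.b (nat_lit 1676), Mv.f (nat_lit 1677), Mv.f (nat_lit 1676), Mv.f (nat_lit 3568)])))
(Tr.lf (Fc.ed (nat_lit 3571) (nat_lit 796) Col.e (nat_lit 1159) Dv.df))))))))
(Tr.nd (nat_lit 3592) (Tr.nd (nat_lit 3582) (Tr.nd (nat_lit 3577) (Tr.nd (nat_lit 3574) (Tr.nd (nat_lit 3573) (Tr.lf (Fc.ed (nat_lit 3572) (nat_lit 1159) Col.b (nat_lit 686) (Dv.wd (nat_lit 49) [Mv.b (nat_lit 2016), Mv.b (nat_lit 2281), Mv.f (nat_lit 3571)])))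
(Tr.lf (Fc.ed (nat_lit 3573) (nat_lit 1159) Col.d (nat_lit 945) (Dv.wd (nat_lit 59) [Mv.b (nat_lit 2993), Mv.b (nat_lit 2378), Mv.b (nat_lit 2165), Mv.f (nat_lit 2280), Mv.f (nat_lit 3571)]))))
(Tr.nd (nat_lit 3575) (Tr.lf (Fc.ed (nat_lit 3574) (nat_lit 945) Col.b (nat_lit 735) (Dv.wd (nat_lit 37) [Mv.b (nat_lit 2138), Mv.b (nat_lit 3572), Mv.f (nat_lit 3573)])))
(Tr.nd (nat_lit 3576) (Tr.lf (Fc.ed (nat_lit 3575) (nat_lit 949) Col.d (nat_lit 1160) Dv.df))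
(Tr.lf (Fc.ed (nat_lit 3576) (nat_lit 1160) Col.b (nat_lit 1066) (Dv.wd (nat_lit 37) [Mv.f (nat_lit 3300), Mv.b (nat_lit 3294), Mv.f (nat_lit 3575)]))))))
(Tr.nd (nat_lit 3579) (Tr.nd (nat_lit 3578) (Tr.lf (Fc.ed (nat_lit 3577) (nat_lit 1156) Col.c (nat_lit 1160) (Dv.wd (nat_lit 152) [Mv.f (nat_lit 3576), Mv.b (nat_lit 3298), Mv.b (nat_lit 3191), Mv.f (nat_lit 2884), Mv.f (nat_lit 3563)])))
(Tr.lf (Fc.ed (nat_lit 3578) (nat_lit 1052) Col.g (nat_lit 1161) Dv.df)))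
(Tr.nd (nat_lit 3580) (Tr.lf (Fc.ed (nat_lit 3579) (nat_lit 1161) Col.g (nat_lit 500) (Dv.wd (nat_lit 9) [Mv.f (nat_lit 1860), Mv.f (nat_lit 3264), Mv.f (nat_lit 3578)])))
(Tr.nd (nat_lit 3581) (Tr.lf (Fc.ed (nat_lit 3580) (nat_lit 654) Col.d (nat_lit 1162) Dv.df))
(Tr.lf (Fc.ed (nat_lit 3581) (nat_lit 1162) Col.b (nat_lit 872) (Dv.wd (nat_lit 37) [Mv.f (nat_lit 2467), Mv.f (nat_lit 1928), Mv.f (nat_lit 3580)])))))))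
(Tr.nd (nat_lit 3587) (Tr.nd (nat_lit 3584) (Tr.nd (nat_lit 3583) (Tr.lf (Fc.ed (nat_lit 3582) (nat_lit 238) Col.e (nat_lit 1163) Dv.df))
(Tr.lf (Fc.ed (nat_lit 3583) (nat_lit 1163) Col.a (nat_lit 1163) (Dv.wd (nat_lit 15) [Mv.b (nat_lit 3582), Mv.f (nat_lit 581), Mv.f (nat_lit 3582)]))))
(Tr.nd (nat_lit 3585) (Tr.lf (Fc.ed (nat_lit 3584) (nat_lit 1011) Col.b (nat_lit 1164) Dv.df))
(Tr.nd (nat_lit 3586) (Tr.lf (Fc.ed (nat_lit 3585) (nat_lit 1164) Col.e (nat_lit 938) (Dv.wd (nat_lit 52) [Mv.b (nat_lit 2968), Mv.f (nat_lit 3170), Mv.f (nat_lit 3584)])))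
(Tr.lf (Fc.ed (nat_lit 3586) (nat_lit 544) Col.a (nat_lit 1165) Dv.df)))))
(Tr.nd (nat_lit 3589) (Tr.nd (nat_lit 3588) (Tr.lf (Fc.ed (nat_lit 3587) (nat_lit 1165) Col.f (nat_lit 558) (Dv.wd (nat_lit 35) [Mv.f (nat_lit 3521), Mv.f (nat_lit 3522), Mv.f (nat_lit 3586)])))
(Tr.lf (Fc.ed (nat_lit 3588) (nat_lit 1006) Col.e (nat_lit 1166) Dv.df)))
(Tr.nd (nat_lit 3590) (Tr.lf (Fc.ed (nat_lit 3589) (nat_lit 1166) Col.b (nat_lit 358) (Dv.wd (nat_lit 49) [Mv.f (nat_lit 1863), Mv.f (nat_lit 3157), Mv.f (nat_lit 3588)])))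
(Tr.nd (nat_lit 3591) (Tr.lf (Fc.ed (nat_lit 3590) (nat_lit 386) Col.c (nat_lit 1167) Dv.df))
(Tr.lf (Fc.ed (nat_lit 3591) (nat_lit 1167) Col.e (nat_lit 1035) (Dv.wd (nat_lit 25) [Mv.f (nat_lit 3225), Mv.f (nat_lit 976), Mv.f (nat_lit 3590)]))))))))
(Tr.nd (nat_lit 3602) (Tr.nd (nat_lit 3597) (Tr.nd (nat_lit 3594) (Tr.nd (nat_lit 3593) (Tr.lf (Fc.ed (nat_lit 3592) (nat_lit 782) Col.c (nat_lit 1168) Dv.df))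
(Tr.lf (Fc.ed (nat_lit 3593) (nat_lit 1168) Col.a (nat_lit 1168) (Dv.wd (nat_lit 19) [Mv.b (nat_lit 3592), Mv.f (nat_lit 2792), Mv.f (nat_lit 3592)]))))
(Tr.nd (nat_lit 3595) (Tr.lf (Fc.ed (nat_lit 3594) (nat_lit 1168) Col.f (nat_lit 1087) (Dv.wd (nat_lit 26) [Mv.b (nat_lit 3356), Mv.f (nat_lit 2509), Mv.f (nat_lit 3592)])))
(Tr.nd (nat_lit 3596) (Tr.lf (Fc.ed (nat_lit 3595) (nat_lit 1168) Col.g (nat_lit 1070) (Dv.wd (nat_lit 77) [Mv.f (nat_lit 3314), Mv.f (nat_lit 3544), Mv.b (nat_lit 1167), Mv.b (nat_lit 3358), Mv.b (nat_lit 3356), Mv.f (nat_lit 2780), Mv.b (nat_lit 2490), Mv.b (nat_lit 2390), Mv.f (nat_lit 3592)])))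
(Tr.lf (Fc.ed (nat_lit 3596) (nat_lit 484) Col.g (nat_lit 1168) (Dv.wd (nat_lit 17) [Mv.f (nat_lit 3595), Mv.f (nat_lit 3313), Mv.b (nat_lit 3312)]))))))
(Tr.nd (nat_lit 3599) (Tr.nd (nat_lit 3598) (Tr.lf (Fc.ed (nat_lit 3597) (nat_lit 328) Col.b (nat_lit 1169) Dv.df))
(Tr.lf (Fc.ed (nat_lit 3598) (nat_lit 718) Col.d (nat_lit 1170) Dv.df)))
(Tr.nd (nat_lit 3600) (Tr.lf (Fc.ed (nat_lit 3599) (nat_lit 1170) Col.b (nat_lit 850) (Dv.wd (nat_lit 37) [Mv.b (nat_lit 2423), Mv.f (nat_lit 2098), Mv.f (nat_lit 3598)])))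
(Tr.nd (nat_lit 3601) (Tr.lf (Fc.ed (nat_lit 3600) (nat_lit 615) Col.c (nat_lit 1171) Dv.df))
(Tr.lf (Fc.ed (nat_lit 3601) (nat_lit 1171) Col.a (nat_lit 1171) (Dv.wd (nat_lit 19) [Mv.b (nat_lit 3600), Mv.f (nat_lit 3510), Mv.f (nat_lit 3600)])))))))
(Tr.nd (nat_lit 3607) (Tr.nd (nat_lit 3604) (Tr.nd (nat_lit 3603) (Tr.lf (Fc.ed (nat_lit 3602) (nat_lit 1171) Col.e (nat_lit 306) (Dv.wd (nat_lit 25) [Mv.b (nat_lit 1828), Mv.b (nat_lit 3508), Mv.f (nat_lit 3600)])))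
(Tr.lf (Fc.ed (nat_lit 3603) (nat_lit 1171) Col.d (nat_lit 1146) (Dv.wd (nat_lit 113) [Mv.f (nat_lit 3530), Mv.f (nat_lit 3380), Mv.b (nat_lit 3382), Mv.f (nat_lit 3369), Mv.f (nat_lit 1116), Mv.b (nat_lit 2708), Mv.f (nat_lit 2821), Mv.f (nat_lit 2656), Mv.f (nat_lit 3600)]))))
(Tr.nd (nat_lit 3605) (Tr.lf (Fc.ed (nat_lit 3604) (nat_lit 1146) Col.e (nat_lit 1146) (Dv.wd (nat_lit 42) [Mv.b (nat_lit 3603), Mv.f (nat_lit 3602), Mv.f (nat_lit 1807), Mv.b (nat_lit 3602), Mv.f (nat_lit 3603)])))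
(Tr.nd (nat_lit 3606) (Tr.lf (Fc.ed (nat_lit 3605) (nat_lit 637) Col.e (nat_lit 637) (Dv.wd (nat_lit 25) [Mv.f (nat_lit 3529), Mv.f (nat_lit 3604), Mv.b (nat_lit 3529)])))
(Tr.lf (Fc.ed (nat_lit 3606) (nat_lit 754) Col.e (nat_lit 754) (Dv.wd (nat_lit 56) [Mv.f (nat_lit 2182), Mv.f (nat_lit 3605), Mv.b (nat_lit 2182)]))))))
(Tr.nd (nat_lit 3610) (Tr.nd (nat_lit 3608) (Tr.lf (Fc.al (nat_lit 3607) (nat_lit 902) (nat_lit 706) (Dv.wd (nat_lit 57) [Mv.b (nat_lit 2983), Mv.f (nat_lit 2181), Mv.f (nat_lit 3606), Mv.b (nat_lit 2181), Mv.f (nat_lit 2983), Mv.b (nat_lit 2876)])))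
(Tr.nd (nat_lit 3609) (Tr.lf (Fc.ed (nat_lit 3608) (nat_lit 706) Col.f (nat_lit 706) (Dv.wd (nat_lit 30) [Mv.b (nat_lit 2876), Mv.f (nat_lit 3607)])))
(Tr.lf (Fc.ed (nat_lit 3609) (nat_lit 1023) Col.f (nat_lit 1023) (Dv.wd (nat_lit 26) [Mv.b (nat_lit 3195), Mv.f (nat_lit 3608), Mv.f (nat_lit 3195)])))))
(Tr.nd (nat_lit 3611) (Tr.lf (Fc.ed (nat_lit 3610) (nat_lit 1023) Col.a (nat_lit 1023) (Dv.wd (nat_lit 23) [Mv.b (nat_lit 3233), Mv.f (nat_lit 3234), Mv.f (nat_lit 3609)])))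
(Tr.nd (nat_lit 3612) (Tr.lf (Fc.ed (nat_lit 3611) (nat_lit 1057) Col.a (nat_lit 1057) (Dv.wd (nat_lit 31) [Mv.b (nat_lit 3274), Mv.f (nat_lit 3610), Mv.f (nat_lit 3274)])))
(Tr.lf (Fc.ed (nat_lit 3612) (nat_lit 571) Col.a (nat_lit 571) (Dv.wd (nat_lit 76) [Mv.b (nat_lit 3275), Mv.f (nat_lit 3611), Mv.f (nat_lit 3275)]))))))))))))
(Tr.nd (nat_lit 3777) (Tr.nd (nat_lit 3695) (Tr.nd (nat_lit 3654) (Tr.nd (nat_lit 3633) (Tr.nd (nat_lit 3623) (Tr.nd (nat_lit 3618) (Tr.nd (nat_lit 3615) (Tr.nd (nat_lit 3614) (Tr.lf (Fc.al (nat_lit 3613) (nat_lit 637) (nat_lit 754) (Dv.wd (nat_lit 73) [Mv.b (nat_lit 2181), Mv.f (nat_lit 3612), Mv.f (nat_lit 2181), Mv.f (nat_lit 2182)])))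
(Tr.lf (Fc.ed (nat_lit 3614) (nat_lit 637) Col.f (nat_lit 571) (Dv.wd (nat_lit 30) [Mv.f (nat_lit 2181), Mv.b (nat_lit 3613)]))))
(Tr.nd (nat_lit 3616) (Tr.lf (Fc.ed (nat_lit 3615) (nat_lit 1057) Col.f (nat_lit 1146) (Dv.wd (nat_lit 26) [Mv.b (nat_lit 3529), Mv.f (nat_lit 3614), Mv.b (nat_lit 3275)])))
(Tr.nd (nat_lit 3617) (Tr.lf (Fc.ed (nat_lit 3616) (nat_lit 1157) Col.d (nat_lit 1172) Dv.df))
(Tr.lf (Fc.ed (nat_lit 3617) (nat_lit 1172) Col.g (nat_lit 1012) (Dv.wd (nat_lit 69) [Mv.b (nat_lit 3171), Mv.f (nat_lit 3132), Mv.f (nat_lit 2247), Mv.f (nat_lit 956), Mv.b (nat_lit 2435), Mv.f (nat_lit 2434), Mv.f (nat_lit 3341), Mv.b (nat_lit 3567), Mv.f (nat_lit 3616)]))))))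
(Tr.nd (nat_lit 3620) (Tr.nd (nat_lit 3619) (Tr.lf (Fc.ed (nat_lit 3618) (nat_lit 1172) Col.gi (nat_lit 981) (Dv.wd (nat_lit 111) [Mv.b (nat_lit 3075), Mv.b (nat_lit 3219), Mv.b (nat_lit 3217), Mv.b (nat_lit 2088), Mv.b (nat_lit 1935), Mv.b (nat_lit 1901), Mv.b (nat_lit 2872), Mv.b (nat_lit 3565), Mv.f (nat_lit 3616)])))
(Tr.lf (Fc.ed (nat_lit 3619) (nat_lit 549) Col.d (nat_lit 1173) Dv.df)))
(Tr.nd (nat_lit 3621) (Tr.lf (Fc.ed (nat_lit 3620) (nat_lit 1173) Col.a (nat_lit 1112) (Dv.wd (nat_lit 8) [Mv.f (nat_lit 3433), Mv.f (nat_lit 1324), Mv.f (nat_lit 3619)])))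
(Tr.nd (nat_lit 3622) (Tr.lf (Fc.ed (nat_lit 3621) (nat_lit 1173) Col.c (nat_lit 1172) (Dv.wd (nat_lit 80) [Mv.b (nat_lit 3616), Mv.f (nat_lit 3565), Mv.f (nat_lit 2872), Mv.b (nat_lit 1498), Mv.f (nat_lit 1499), Mv.b (nat_lit 574), Mv.f (nat_lit 1501), Mv.b (nat_lit 1325), Mv.f (nat_lit 3619)])))
(Tr.lf (Fc.ed (nat_lit 3622) (nat_lit 1173) Col.gi (nat_lit 1041) (Dv.wd (nat_lit 111) [Mv.f (nat_lit 3238), Mv.b (nat_lit 1434), Mv.f (nat_lit 1053), Mv.f (nat_lit 425), Mv.b (nat_lit 206), Mv.f (nat_lit 287), Mv.f (nat_lit 1479), Mv.b (nat_lit 1325), Mv.f (nat_lit 3619)])))))))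
(Tr.nd (nat_lit 3628) (Tr.nd (nat_lit 3625) (Tr.nd (nat_lit 3624) (Tr.lf (Fc.ed (nat_lit 3623) (nat_lit 1142) Col.e (nat_lit 1174) Dv.df))
(Tr.lf (Fc.ed (nat_lit 3624) (nat_lit 1174) Col.a (nat_lit 1174) (Dv.wd (nat_lit 15) [Mv.b (nat_lit 3623), Mv.f (nat_lit 3504), Mv.f (nat_lit 3623)]))))
(Tr.nd (nat_lit 3626) (Tr.lf (Fc.ed (nat_lit 3625) (nat_lit 989) Col.d (nat_lit 1175) Dv.df))
(Tr.nd (nat_lit 3627) (Tr.lf (Fc.ed (nat_lit 3626) (nat_lit 1175) Col.a (nat_lit 608) (Dv.wd (nat_lit 8) [Mv.f (nat_lit 1584), Mv.f (nat_lit 3099), Mv.f (nat_lit 3625)])))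
(Tr.lf (Fc.ed (nat_lit 3627) (nat_lit 1175) Col.b (nat_lit 1175) (Dv.wd (nat_lit 37) [Mv.b (nat_lit 3625), Mv.f (nat_lit 3103), Mv.f (nat_lit 3625)]))))))
(Tr.nd (nat_lit 3630) (Tr.nd (nat_lit 3629) (Tr.lf (Fc.ed (nat_lit 3628) (nat_lit 1175) Col.f (nat_lit 1175) (Dv.wd (nat_lit 11) [Mv.b (nat_lit 3625), Mv.f (nat_lit 3102), Mv.f (nat_lit 3625)])))
(Tr.lf (Fc.ed (nat_lit 3629) (nat_lit 766) Col.d (nat_lit 1176) Dv.df)))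
(Tr.nd (nat_lit 3631) (Tr.lf (Fc.ed (nat_lit 3630) (nat_lit 1176) Col.b (nat_lit 1041) (Dv.wd (nat_lit 37) [Mv.f (nat_lit 3238), Mv.b (nat_lit 2208), Mv.f (nat_lit 3629)])))
(Tr.nd (nat_lit 3632) (Tr.lf (Fc.ed (nat_lit 3631) (nat_lit 721) Col.c (nat_lit 1177) Dv.df))
(Tr.lf (Fc.ed (nat_lit 3632) (nat_lit 1177) Col.f (nat_lit 1114) (Dv.wd (nat_lit 26) [Mv.b (nat_lit 3437), Mv.f (nat_lit 2236), Mv.f (nat_lit 3631)]))))))))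
(Tr.nd (nat_lit 3643) (Tr.nd (nat_lit 3638) (Tr.nd (nat_lit 3635) (Tr.nd (nat_lit 3634) (Tr.lf (Fc.ed (nat_lit 3633) (nat_lit 1177) Col.g (nat_lit 1131) (Dv.wd (nat_lit 77) [Mv.b (nat_lit 3479), Mv.f (nat_lit 2278), Mv.f (nat_lit 890), Mv.b (nat_lit 1618), Mv.f (nat_lit 1617), Mv.b (nat_lit 989), Mv.b (nat_lit 2247), Mv.b (nat_lit 2246), Mv.f (nat_lit 3631)])))
(Tr.lf (Fc.ed (nat_lit 3634) (nat_lit 1177) Col.d (nat_lit 1178) Dv.df)))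
(Tr.nd (nat_lit 3636) (Tr.lf (Fc.ed (nat_lit 3635) (nat_lit 1178) Col.f (nat_lit 1110) (Dv.wd (nat_lit 11) [Mv.b (nat_lit 3438), Mv.b (nat_lit 3632), Mv.f (nat_lit 3634)])))
(Tr.nd (nat_lit 3637) (Tr.lf (Fc.ed (nat_lit 3636) (nat_lit 1178) Col.c (nat_lit 1099) (Dv.wd (nat_lit 150) [Mv.b (nat_lit 3395), Mv.b (nat_lit 2260), Mv.f (nat_lit 1257), Mv.b (nat_lit 1255), Mv.b (nat_lit 1208), Mv.b (nat_lit 1248), Mv.b (nat_lit 2107), Mv.f (nat_lit 3631), Mv.f (nat_lit 3634)])))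
(Tr.lf (Fc.ed (nat_lit 3637) (nat_lit 1178) Col.gi (nat_lit 1085) (Dv.wd (nat_lit 111) [Mv.b (nat_lit 3448), Mv.b (nat_lit 3462), Mv.f (nat_lit 3463), Mv.b (nat_lit 2375), Mv.b (nat_lit 2374), Mv.f (nat_lit 1246), Mv.b (nat_lit 2107), Mv.f (nat_lit 3631), Mv.f (nat_lit 3634)]))))))
(Tr.nd (nat_lit 3640) (Tr.nd (nat_lit 3639) (Tr.lf (Fc.ed (nat_lit 3638) (nat_lit 1178) Col.g (nat_lit 1063) (Dv.wd (nat_lit 139) [Mv.f (nat_lit 3290), Mv.f (nat_lit 3020), Mv.b (nat_lit 3181), Mv.b (nat_lit 3179), Mv.f (nat_lit 3163), Mv.f (nat_lit 2426), Mv.f (nat_lit 3479), Mv.b (nat_lit 3633), Mv.f (nat_lit 3634)])))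
(Tr.lf (Fc.ed (nat_lit 3639) (nat_lit 396) Col.c (nat_lit 1179) Dv.df)))
(Tr.nd (nat_lit 3641) (Tr.lf (Fc.ed (nat_lit 3640) (nat_lit 1179) Col.e (nat_lit 966) (Dv.wd (nat_lit 25) [Mv.b (nat_lit 3044), Mv.b (nat_lit 1141), Mv.f (nat_lit 3639)])))
(Tr.nd (nat_lit 3642) (Tr.lf (Fc.ed (nat_lit 3641) (nat_lit 1179) Col.f (nat_lit 1167) (Dv.wd (nat_lit 26) [Mv.b (nat_lit 3590), Mv.b (nat_lit 931), Mv.f (nat_lit 3639)])))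
(Tr.lf (Fc.ed (nat_lit 3642) (nat_lit 1179) Col.b (nat_lit 1167) (Dv.wd (nat_lit 87) [Mv.b (nat_lit 3590), Mv.b (nat_lit 915), Mv.b (nat_lit 478), Mv.f (nat_lit 930), Mv.f (nat_lit 3639)])))))))
(Tr.nd (nat_lit 3648) (Tr.nd (nat_lit 3645) (Tr.nd (nat_lit 3644) (Tr.lf (Fc.ed (nat_lit 3643) (nat_lit 1094) Col.e (nat_lit 1180) Dv.df))
(Tr.lf (Fc.ed (nat_lit 3644) (nat_lit 1180) Col.gi (nat_lit 1171) (Dv.wd (nat_lit 132) [Mv.f (nat_lit 3602), Mv.f (nat_lit 1807), Mv.f (nat_lit 1806), Mv.f (nat_lit 1827), Mv.b (nat_lit 1805), Mv.b (nat_lit 3602), Mv.f (nat_lit 3603), Mv.f (nat_lit 3530), Mv.f (nat_lit 3380), Mv.f (nat_lit 3643)]))))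
(Tr.nd (nat_lit 3646) (Tr.lf (Fc.ed (nat_lit 3645) (nat_lit 607) Col.c (nat_lit 1181) Dv.df))
(Tr.nd (nat_lit 3647) (Tr.lf (Fc.ed (nat_lit 3646) (nat_lit 1181) Col.a (nat_lit 1181) (Dv.wd (nat_lit 19) [Mv.b (nat_lit 3645), Mv.f (nat_lit 3516), Mv.f (nat_lit 3645)])))
(Tr.lf (Fc.ed (nat_lit 3647) (nat_lit 1181) Col.f (nat_lit 1171) (Dv.wd (nat_lit 26) [Mv.b (nat_lit 3600), Mv.f (nat_lit 3511), Mv.f (nat_lit 3645)]))))))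
(Tr.nd (nat_lit 3651) (Tr.nd (nat_lit 3649) (Tr.lf (Fc.ed (nat_lit 3648) (nat_lit 1181) Col.d (nat_lit 1057) (Dv.wd (nat_lit 62) [Mv.f (nat_lit 3275), Mv.b (nat_lit 2758), Mv.b (nat_lit 952), Mv.f (nat_lit 1837), Mv.b (nat_lit 281), Mv.f (nat_lit 29), Mv.b (nat_lit 751), Mv.f (nat_lit 1581), Mv.f (nat_lit 3645)])))
(Tr.nd (nat_lit 3650) (Tr.lf (Fc.ed (nat_lit 3649) (nat_lit 1180) Col.g (nat_lit 1181) (Dv.wd (nat_lit 9) [Mv.f (nat_lit 3646), Mv.f (nat_lit 3647), Mv.b (nat_lit 3644)])))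
(Tr.lf (Fc.ed (nat_lit 3650) (nat_lit 1128) Col.c (nat_lit 1182) Dv.df))))
(Tr.nd (nat_lit 3652) (Tr.lf (Fc.ed (nat_lit 3651) (nat_lit 898) Col.d (nat_lit 1183) Dv.df))
(Tr.nd (nat_lit 3653) (Tr.lf (Fc.ed (nat_lit 3652) (nat_lit 1089) Col.g (nat_lit 1184) Dv.df))
(Tr.lf (Fc.ed (nat_lit 3653) (nat_lit 1184) Col.g (nat_lit 419) (Dv.wd (nat_lit 9) [Mv.f (nat_lit 972), Mv.f (nat_lit 3363), Mv.f (nat_lit 3652)])))))))))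
(Tr.nd (nat_lit 3674) (Tr.nd (nat_lit 3664) (Tr.nd (nat_lit 3659) (Tr.nd (nat_lit 3656) (Tr.nd (nat_lit 3655) (Tr.lf (Fc.ed (nat_lit 3654) (nat_lit 1099) Col.a (nat_lit 1185) Dv.df))
(Tr.lf (Fc.ed (nat_lit 3655) (nat_lit 1185) Col.d (nat_lit 806) (Dv.wd (nat_lit 28) [Mv.b (nat_lit 2312), Mv.f (nat_lit 3395), Mv.f (nat_lit 3654)]))))
(Tr.nd (nat_lit 3657) (Tr.lf (Fc.ed (nat_lit 3656) (nat_lit 1185) Col.f (nat_lit 1015) (Dv.wd (nat_lit 35) [Mv.f (nat_lit 3424), Mv.b (nat_lit 3425), Mv.f (nat_lit 3654)])))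
(Tr.nd (nat_lit 3658) (Tr.lf (Fc.ed (nat_lit 3657) (nat_lit 1185) Col.gi (nat_lit 1072) (Dv.wd (nat_lit 12) [Mv.f (nat_lit 3422), Mv.b (nat_lit 3425), Mv.f (nat_lit 3654)])))
(Tr.lf (Fc.ed (nat_lit 3658) (nat_lit 1034) Col.c (nat_lit 1186) Dv.df)))))
(Tr.nd (nat_lit 3661) (Tr.nd (nat_lit 3660) (Tr.lf (Fc.ed (nat_lit 3659) (nat_lit 726) Col.gi (nat_lit 1187) Dv.df))
(Tr.lf (Fc.ed (nat_lit 3660) (nat_lit 1187) Col.gi (nat_lit 1153) (Dv.wd (nat_lit 24) [Mv.f (nat_lit 3553), Mv.f (nat_lit 3306), Mv.f (nat_lit 3659)]))))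
(Tr.nd (nat_lit 3662) (Tr.lf (Fc.ed (nat_lit 3661) (nat_lit 1013) Col.f (nat_lit 1188) Dv.df))
(Tr.nd (nat_lit 3663) (Tr.lf (Fc.ed (nat_lit 3662) (nat_lit 1188) Col.a (nat_lit 1064) (Dv.wd (nat_lit 23) [Mv.f (nat_lit 3293), Mv.b (nat_lit 3175), Mv.f (nat_lit 3661)])))
(Tr.lf (Fc.ed (nat_lit 3663) (nat_lit 1119) Col.d (nat_lit 1189) Dv.df))))))
(Tr.nd (nat_lit 3669) (Tr.nd (nat_lit 3666) (Tr.nd (nat_lit 3665) (Tr.lf (Fc.ed (nat_lit 3664) (nat_lit 1189) Col.e (nat_lit 640) (Dv.wd (nat_lit 42) [Mv.b (nat_lit 1883), Mv.f (nat_lit 861), Mv.b (nat_lit 2332), Mv.f (nat_lit 3450), Mv.f (nat_lit 3663)])))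
(Tr.lf (Fc.ed (nat_lit 3665) (nat_lit 953) Col.g (nat_lit 1190) Dv.df)))
(Tr.nd (nat_lit 3667) (Tr.lf (Fc.ed (nat_lit 3666) (nat_lit 1190) Col.g (nat_lit 986) (Dv.wd (nat_lit 9) [Mv.f (nat_lit 3090), Mv.b (nat_lit 3089), Mv.f (nat_lit 3665)])))
(Tr.nd (nat_lit 3668) (Tr.lf (Fc.ed (nat_lit 3667) (nat_lit 1190) Col.e (nat_lit 770) (Dv.wd (nat_lit 47) [Mv.f (nat_lit 3232), Mv.f (nat_lit 3233), Mv.f (nat_lit 3196), Mv.f (nat_lit 3274), Mv.f (nat_lit 3276), Mv.f (nat_lit 3380), Mv.f (nat_lit 3381), Mv.b (nat_lit 3105), Mv.b (nat_lit 3092), Mv.f (nat_lit 3665)])))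
(Tr.lf (Fc.ed (nat_lit 3668) (nat_lit 1190) Col.d (nat_lit 1180) (Dv.wd (nat_lit 68) [Mv.f (nat_lit 3649), Mv.f (nat_lit 3648), Mv.b (nat_lit 3274), Mv.b (nat_lit 3234), Mv.f (nat_lit 3240), Mv.f (nat_lit 3380), Mv.f (nat_lit 3381), Mv.b (nat_lit 3105), Mv.b (nat_lit 3092), Mv.f (nat_lit 3665)]))))))
(Tr.nd (nat_lit 3671) (Tr.nd (nat_lit 3670) (Tr.lf (Fc.ed (nat_lit 3669) (nat_lit 1161) Col.e (nat_lit 991) (Dv.wd (nat_lit 133) [Mv.b (nat_lit 3105), Mv.b (nat_lit 3666), Mv.f (nat_lit 3668), Mv.f (nat_lit 3644), Mv.f (nat_lit 3602), Mv.f (nat_lit 1807), Mv.f (nat_lit 1806), Mv.f (nat_lit 1827), Mv.b (nat_lit 1168), Mv.b (nat_lit 3579)])))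
(Tr.lf (Fc.ed (nat_lit 3670) (nat_lit 1093) Col.c (nat_lit 1161) (Dv.wd (nat_lit 109) [Mv.f (nat_lit 3669), Mv.f (nat_lit 3107), Mv.b (nat_lit 3506)]))))
(Tr.nd (nat_lit 3672) (Tr.lf (Fc.al (nat_lit 3671) (nat_lit 1155) (nat_lit 1182) (Dv.wd (nat_lit 138) [Mv.b (nat_lit 3650), Mv.b (nat_lit 3472), Mv.b (nat_lit 3332), Mv.b (nat_lit 2490), Mv.f (nat_lit 1058), Mv.f (nat_lit 3378), Mv.f (nat_lit 3670), Mv.b (nat_lit 3578), Mv.f (nat_lit 3544), Mv.b (nat_lit 3562)])))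
(Tr.nd (nat_lit 3673) (Tr.lf (Fc.ed (nat_lit 3672) (nat_lit 1155) Col.c (nat_lit 1128) (Dv.wd (nat_lit 103) [Mv.f (nat_lit 3650), Mv.b (nat_lit 3671)])))
(Tr.lf (Fc.ed (nat_lit 3673) (nat_lit 645) Col.d (nat_lit 1191) Dv.df)))))))
(Tr.nd (nat_lit 3684) (Tr.nd (nat_lit 3679) (Tr.nd (nat_lit 3676) (Tr.nd (nat_lit 3675) (Tr.lf (Fc.ed (nat_lit 3674) (nat_lit 1191) Col.a (nat_lit 827) (Dv.wd (nat_lit 8) [Mv.b (nat_lit 2364), Mv.b (nat_lit 1898), Mv.f (nat_lit 3673)])))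
(Tr.lf (Fc.ed (nat_lit 3675) (nat_lit 1191) Col.b (nat_lit 873) (Dv.wd (nat_lit 37) [Mv.b (nat_lit 2468), Mv.f (nat_lit 1896), Mv.f (nat_lit 3673)]))))
(Tr.nd (nat_lit 3677) (Tr.lf (Fc.ed (nat_lit 3676) (nat_lit 1191) Col.f (nat_lit 1060) (Dv.wd (nat_lit 11) [Mv.b (nat_lit 3280), Mv.f (nat_lit 2068), Mv.f (nat_lit 3673)])))
(Tr.nd (nat_lit 3678) (Tr.lf (Fc.ed (nat_lit 3677) (nat_lit 1155) Col.d (nat_lit 1192) Dv.df))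
(Tr.lf (Fc.ed (nat_lit 3678) (nat_lit 1192) Col.c (nat_lit 918) (Dv.wd (nat_lit 110) [Mv.b (nat_lit 3559), Mv.f (nat_lit 3557), Mv.f (nat_lit 3388), Mv.f (nat_lit 3472), Mv.b (nat_lit 3672), Mv.b (nat_lit 3561), Mv.f (nat_lit 3544), Mv.b (nat_lit 3562), Mv.f (nat_lit 3677)]))))))
(Tr.nd (nat_lit 3681) (Tr.nd (nat_lit 3680) (Tr.lf (Fc.ed (nat_lit 3679) (nat_lit 459) Col.d (nat_lit 1193) Dv.df))
(Tr.lf (Fc.ed (nat_lit 3680) (nat_lit 1193) Col.a (nat_lit 1193) (Dv.wd (nat_lit 8) [Mv.b (nat_lit 3679), Mv.f (nat_lit 2811), Mv.f (nat_lit 3679)]))))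
(Tr.nd (nat_lit 3682) (Tr.lf (Fc.ed (nat_lit 3681) (nat_lit 1193) Col.e (nat_lit 1194) Dv.df))
(Tr.nd (nat_lit 3683) (Tr.lf (Fc.ed (nat_lit 3682) (nat_lit 1194) Col.g (nat_lit 1047) (Dv.wd (nat_lit 38) [Mv.b (nat_lit 3251), Mv.b (nat_lit 758), Mv.b (nat_lit 445), Mv.f (nat_lit 469), Mv.b (nat_lit 949), Mv.b (nat_lit 3507), Mv.b (nat_lit 3503), Mv.b (nat_lit 2810), Mv.f (nat_lit 3679), Mv.f (nat_lit 3681)])))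
(Tr.lf (Fc.ed (nat_lit 3683) (nat_lit 345) Col.e (nat_lit 1195) Dv.df))))))
(Tr.nd (nat_lit 3689) (Tr.nd (nat_lit 3686) (Tr.nd (nat_lit 3685) (Tr.lf (Fc.ed (nat_lit 3684) (nat_lit 1195) Col.c (nat_lit 1047) (Dv.wd (nat_lit 18) [Mv.b (nat_lit 3251), Mv.f (nat_lit 822), Mv.f (nat_lit 3683)])))
(Tr.lf (Fc.ed (nat_lit 3685) (nat_lit 108) Col.d (nat_lit 1196) Dv.df)))
(Tr.nd (nat_lit 3687) (Tr.lf (Fc.ed (nat_lit 3686) (nat_lit 563) Col.b (nat_lit 1197) Dv.df))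
(Tr.nd (nat_lit 3688) (Tr.lf (Fc.ed (nat_lit 3687) (nat_lit 1041) Col.f (nat_lit 1198) Dv.df))
(Tr.lf (Fc.ed (nat_lit 3688) (nat_lit 1198) Col.d (nat_lit 590) (Dv.wd (nat_lit 21) [Mv.b (nat_lit 1566), Mv.b (nat_lit 3238), Mv.f (nat_lit 3687)]))))))
(Tr.nd (nat_lit 3692) (Tr.nd (nat_lit 3690) (Tr.lf (Fc.ed (nat_lit 3689) (nat_lit 1112) Col.g (nat_lit 1198) (Dv.wd (nat_lit 145) [Mv.f (nat_lit 3688), Mv.f (nat_lit 1539), Mv.f (nat_lit 3040), Mv.f (nat_lit 3327), Mv.f (nat_lit 3372), Mv.b (nat_lit 3376), Mv.b (nat_lit 3035), Mv.b (nat_lit 3419), Mv.f (nat_lit 3431)])))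
(Tr.nd (nat_lit 3691) (Tr.lf (Fc.ed (nat_lit 3690) (nat_lit 588) Col.a (nat_lit 1199) Dv.df))
(Tr.lf (Fc.ed (nat_lit 3691) (nat_lit 1199) Col.c (nat_lit 724) (Dv.wd (nat_lit 33) [Mv.b (nat_lit 2621), Mv.f (nat_lit 2622), Mv.f (nat_lit 3690)])))))
(Tr.nd (nat_lit 3693) (Tr.lf (Fc.ed (nat_lit 3692) (nat_lit 1199) Col.f (nat_lit 842) (Dv.wd (nat_lit 35) [Mv.f (nat_lit 2409), Mv.b (nat_lit 1724), Mv.f (nat_lit 3690)])))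
(Tr.nd (nat_lit 3694) (Tr.lf (Fc.ed (nat_lit 3693) (nat_lit 1093) Col.d (nat_lit 1200) Dv.df))
(Tr.lf (Fc.ed (nat_lit 3694) (nat_lit 1200) Col.a (nat_lit 1200) (Dv.wd (nat_lit 8) [Mv.b (nat_lit 3693), Mv.f (nat_lit 3517), Mv.f (nat_lit 3693)]))))))))))
(Tr.nd (nat_lit 3736) (Tr.nd (nat_lit 3715) (Tr.nd (nat_lit 3705) (Tr.nd (nat_lit 3700) (Tr.nd (nat_lit 3697) (Tr.nd (nat_lit 3696) (Tr.lf (Fc.ed (nat_lit 3695) (nat_lit 1200) Col.g (nat_lit 1193) (Dv.wd (nat_lit 69) [Mv.b (nat_lit 3679), Mv.b (nat_lit 1042), Mv.f (nat_lit 2772), Mv.b (nat_lit 2775), Mv.b (nat_lit 2508), Mv.f (nat_lit 2780), Mv.f (nat_lit 3332), Mv.b (nat_lit 3379), Mv.f (nat_lit 3693)])))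
(Tr.lf (Fc.ed (nat_lit 3696) (nat_lit 1200) Col.e (nat_lit 1151) (Dv.wd (nat_lit 74) [Mv.b (nat_lit 3548), Mv.b (nat_lit 3212), Mv.f (nat_lit 736), Mv.f (nat_lit 577), Mv.f (nat_lit 580), Mv.b (nat_lit 583), Mv.b (nat_lit 949), Mv.b (nat_lit 947), Mv.f (nat_lit 3378), Mv.f (nat_lit 3693)]))))
(Tr.nd (nat_lit 3698) (Tr.lf (Fc.ed (nat_lit 3697) (nat_lit 1151) Col.a (nat_lit 1151) (Dv.wd (nat_lit 15) [Mv.b (nat_lit 3696), Mv.f (nat_lit 3694), Mv.f (nat_lit 3696)])))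
(Tr.nd (nat_lit 3699) (Tr.lf (Fc.ed (nat_lit 3698) (nat_lit 1131) Col.g (nat_lit 1201) Dv.df))
(Tr.lf (Fc.ed (nat_lit 3699) (nat_lit 1201) Col.a (nat_lit 1114) (Dv.wd (nat_lit 114) [Mv.b (nat_lit 3632), Mv.f (nat_lit 3633), Mv.f (nat_lit 3698)]))))))
(Tr.nd (nat_lit 3702) (Tr.nd (nat_lit 3701) (Tr.lf (Fc.ed (nat_lit 3700) (nat_lit 817) Col.c (nat_lit 1201) (Dv.wd (nat_lit 134) [Mv.f (nat_lit 3699), Mv.b (nat_lit 3437), Mv.f (nat_lit 2335)])))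
(Tr.lf (Fc.ed (nat_lit 3701) (nat_lit 1163) Col.d (nat_lit 1202) Dv.df)))
(Tr.nd (nat_lit 3703) (Tr.lf (Fc.ed (nat_lit 3702) (nat_lit 1202) Col.a (nat_lit 1202) (Dv.wd (nat_lit 8) [Mv.b (nat_lit 3701), Mv.f (nat_lit 3583), Mv.f (nat_lit 3701)])))
(Tr.nd (nat_lit 3704) (Tr.lf (Fc.ed (nat_lit 3703) (nat_lit 1202) Col.e (nat_lit 876) (Dv.wd (nat_lit 42) [Mv.f (nat_lit 2480), Mv.f (nat_lit 831), Mv.f (nat_lit 580), Mv.f (nat_lit 3582), Mv.f (nat_lit 3701)])))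
(Tr.lf (Fc.ed (nat_lit 3704) (nat_lit 911) Col.d (nat_lit 1203) Dv.df))))))
(Tr.nd (nat_lit 3710) (Tr.nd (nat_lit 3707) (Tr.nd (nat_lit 3706) (Tr.lf (Fc.ed (nat_lit 3705) (nat_lit 1203) Col.b (nat_lit 965) (Dv.wd (nat_lit 37) [Mv.b (nat_lit 3040), Mv.b (nat_lit 2893), Mv.f (nat_lit 3704)])))
(Tr.lf (Fc.ed (nat_lit 3706) (nat_lit 942) Col.c (nat_lit 1204) Dv.df)))
(Tr.nd (nat_lit 3708) (Tr.lf (Fc.ed (nat_lit 3707) (nat_lit 1204) Col.d (nat_lit 1130) (Dv.wd (nat_lit 153) [Mv.f (nat_lit 3478), Mv.f (nat_lit 2380), Mv.b (nat_lit 1617), Mv.b (nat_lit 1728), Mv.f (nat_lit 2140), Mv.f (nat_lit 3167), Mv.b (nat_lit 3411), Mv.b (nat_lit 3304), Mv.b (nat_lit 3268), Mv.f (nat_lit 2435), Mv.b (nat_lit 1914), Mv.f (nat_lit 1942), Mv.b (nat_lit 2192), Mv.f (nat_lit 2987), Mv.f (nat_lit 3706)])))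
(Tr.nd (nat_lit 3709) (Tr.lf (Fc.ed (nat_lit 3708) (nat_lit 815) Col.e (nat_lit 1205) Dv.df))
(Tr.lf (Fc.ed (nat_lit 3709) (nat_lit 1205) Col.b (nat_lit 564) (Dv.wd (nat_lit 49) [Mv.f (nat_lit 1575), Mv.f (nat_lit 2330), Mv.f (nat_lit 3708)]))))))
(Tr.nd (nat_lit 3712) (Tr.nd (nat_lit 3711) (Tr.lf (Fc.ed (nat_lit 3710) (nat_lit 1201) Col.d (nat_lit 1206) Dv.df))
(Tr.lf (Fc.ed (nat_lit 3711) (nat_lit 1206) Col.c (nat_lit 1015) (Dv.wd (nat_lit 80) [Mv.b (nat_lit 3178), Mv.b (nat_lit 2230), Mv.b (nat_lit 568), Mv.b (nat_lit 1248), Mv.b (nat_lit 2107), Mv.b (nat_lit 2236), Mv.f (nat_lit 2335), Mv.f (nat_lit 3700), Mv.f (nat_lit 3710)]))))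
(Tr.nd (nat_lit 3713) (Tr.lf (Fc.ed (nat_lit 3712) (nat_lit 1206) Col.g (nat_lit 1085) (Dv.wd (nat_lit 69) [Mv.b (nat_lit 3448), Mv.b (nat_lit 3445), Mv.b (nat_lit 2439), Mv.b (nat_lit 1429), Mv.f (nat_lit 2423), Mv.f (nat_lit 2426), Mv.f (nat_lit 3479), Mv.f (nat_lit 3698), Mv.f (nat_lit 3710)])))
(Tr.nd (nat_lit 3714) (Tr.lf (Fc.ed (nat_lit 3713) (nat_lit 1063) Col.g (nat_lit 1206) (Dv.wd (nat_lit 17) [Mv.f (nat_lit 3712), Mv.f (nat_lit 3352), Mv.f (nat_lit 3289)])))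
(Tr.lf (Fc.ed (nat_lit 3714) (nat_lit 534) Col.g (nat_lit 1207) Dv.df)))))))
(Tr.nd (nat_lit 3725) (Tr.nd (nat_lit 3720) (Tr.nd (nat_lit 3717) (Tr.nd (nat_lit 3716) (Tr.lf (Fc.ed (nat_lit 3715) (nat_lit 1207) Col.g (nat_lit 989) (Dv.wd (nat_lit 9) [Mv.b (nat_lit 3099), Mv.f (nat_lit 1282), Mv.f (nat_lit 3714)])))
(Tr.lf (Fc.ed (nat_lit 3716) (nat_lit 419) Col.g (nat_lit 1208) Dv.df)))
(Tr.nd (nat_lit 3718) (Tr.lf (Fc.ed (nat_lit 3717) (nat_lit 1208) Col.g (nat_lit 1089) (Dv.wd (nat_lit 9) [Mv.f (nat_lit 3364), Mv.b (nat_lit 3363), Mv.f (nat_lit 3716)])))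
(Tr.nd (nat_lit 3719) (Tr.lf (Fc.ed (nat_lit 3718) (nat_lit 1208) Col.c (nat_lit 1055) (Dv.wd (nat_lit 83) [Mv.f (nat_lit 3271), Mv.f (nat_lit 3229), Mv.f (nat_lit 2776), Mv.b (nat_lit 1846), Mv.f (nat_lit 2905), Mv.b (nat_lit 3559), Mv.b (nat_lit 3556), Mv.f (nat_lit 971), Mv.f (nat_lit 3716)])))
(Tr.lf (Fc.ed (nat_lit 3719) (nat_lit 1208) Col.a (nat_lit 1208) (Dv.wd (nat_lit 76) [Mv.f (nat_lit 3718), Mv.f (nat_lit 3272), Mv.b (nat_lit 3718)]))))))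
(Tr.nd (nat_lit 3722) (Tr.nd (nat_lit 3721) (Tr.lf (Fc.ed (nat_lit 3720) (nat_lit 1184) Col.f (nat_lit 1208) (Dv.wd (nat_lit 13) [Mv.f (nat_lit 3719), Mv.b (nat_lit 3716), Mv.b (nat_lit 3653)])))
(Tr.lf (Fc.ed (nat_lit 3721) (nat_lit 1184) Col.a (nat_lit 1184) (Dv.wd (nat_lit 79) [Mv.f (nat_lit 3720), Mv.f (nat_lit 3719), Mv.b (nat_lit 3720)]))))
(Tr.nd (nat_lit 3723) (Tr.lf (Fc.ed (nat_lit 3722) (nat_lit 1141) Col.g (nat_lit 1209) Dv.df))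
(Tr.nd (nat_lit 3724) (Tr.lf (Fc.ed (nat_lit 3723) (nat_lit 1209) Col.a (nat_lit 1177) (Dv.wd (nat_lit 114) [Mv.f (nat_lit 3632), Mv.b (nat_lit 3501), Mv.f (nat_lit 3722)])))
(Tr.lf (Fc.ed (nat_lit 3724) (nat_lit 1209) Col.c (nat_lit 818) (Dv.wd (nat_lit 138) [Mv.b (nat_lit 2336), Mv.f (nat_lit 3121), Mv.f (nat_lit 3201), Mv.f (nat_lit 3204), Mv.f (nat_lit 3523), Mv.f (nat_lit 3545), Mv.b (nat_lit 3547), Mv.f (nat_lit 3499), Mv.f (nat_lit 3722)])))))))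
(Tr.nd (nat_lit 3730) (Tr.nd (nat_lit 3727) (Tr.nd (nat_lit 3726) (Tr.lf (Fc.ed (nat_lit 3725) (nat_lit 1201) Col.f (nat_lit 1209) (Dv.wd (nat_lit 64) [Mv.f (nat_lit 3724), Mv.f (nat_lit 2338), Mv.f (nat_lit 3700)])))
(Tr.lf (Fc.ed (nat_lit 3726) (nat_lit 1209) Col.d (nat_lit 1210) Dv.df)))
(Tr.nd (nat_lit 3728) (Tr.lf (Fc.ed (nat_lit 3727) (nat_lit 1210) Col.f (nat_lit 1206) (Dv.wd (nat_lit 11) [Mv.b (nat_lit 3710), Mv.f (nat_lit 3725), Mv.f (nat_lit 3726)])))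
(Tr.nd (nat_lit 3729) (Tr.lf (Fc.ed (nat_lit 3728) (nat_lit 1210) Col.c (nat_lit 1185) (Dv.wd (nat_lit 80) [Mv.f (nat_lit 3655), Mv.f (nat_lit 2311), Mv.b (nat_lit 561), Mv.f (nat_lit 1181), Mv.f (nat_lit 2234), Mv.f (nat_lit 2236), Mv.f (nat_lit 2340), Mv.b (nat_lit 3724), Mv.f (nat_lit 3726)])))
(Tr.lf (Fc.ed (nat_lit 3729) (nat_lit 1210) Col.g (nat_lit 1038) (Dv.wd (nat_lit 69) [Mv.b (nat_lit 3230), Mv.b (nat_lit 3220), Mv.f (nat_lit 3032), Mv.b (nat_lit 1366), Mv.b (nat_lit 2089), Mv.f (nat_lit 2169), Mv.b (nat_lit 3500), Mv.f (nat_lit 3722), Mv.f (nat_lit 3726)]))))))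
(Tr.nd (nat_lit 3733) (Tr.nd (nat_lit 3731) (Tr.lf (Fc.ed (nat_lit 3730) (nat_lit 1210) Col.gi (nat_lit 1029) (Dv.wd (nat_lit 111) [Mv.b (nat_lit 3210), Mv.f (nat_lit 3476), Mv.f (nat_lit 3478), Mv.b (nat_lit 2401), Mv.b (nat_lit 2398), Mv.f (nat_lit 1290), Mv.b (nat_lit 2339), Mv.b (nat_lit 3724), Mv.f (nat_lit 3726)])))
(Tr.nd (nat_lit 3732) (Tr.lf (Fc.ed (nat_lit 3731) (nat_lit 866) Col.gi (nat_lit 1211) Dv.df))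
(Tr.lf (Fc.ed (nat_lit 3732) (nat_lit 632) Col.e (nat_lit 1212) Dv.df))))
(Tr.nd (nat_lit 3734) (Tr.lf (Fc.ed (nat_lit 3733) (nat_lit 1212) Col.a (nat_lit 1212) (Dv.wd (nat_lit 15) [Mv.b (nat_lit 3732), Mv.f (nat_lit 2616), Mv.f (nat_lit 3732)])))
(Tr.nd (nat_lit 3735) (Tr.lf (Fc.ed (nat_lit 3734) (nat_lit 1212) Col.gi (nat_lit 1202) (Dv.wd (nat_lit 132) [Mv.f (nat_lit 3703), Mv.f (nat_lit 2480), Mv.b (nat_lit 830), Mv.f (nat_lit 1571), Mv.f (nat_lit 1572), Mv.f (nat_lit 3512), Mv.f (nat_lit 2656), Mv.f (nat_lit 1612), Mv.f (nat_lit 1742), Mv.f (nat_lit 3732)])))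
(Tr.lf (Fc.ed (nat_lit 3735) (nat_lit 1068) Col.gi (nat_lit 1213) Dv.df))))))))
(Tr.nd (nat_lit 3756) (Tr.nd (nat_lit 3746) (Tr.nd (nat_lit 3741) (Tr.nd (nat_lit 3738) (Tr.nd (nat_lit 3737) (Tr.lf (Fc.ed (nat_lit 3736) (nat_lit 1213) Col.gi (nat_lit 633) (Dv.wd (nat_lit 24) [Mv.b (nat_lit 2116), Mv.b (nat_lit 3306), Mv.f (nat_lit 3735)])))
(Tr.lf (Fc.ed (nat_lit 3737) (nat_lit 1187) Col.c (nat_lit 1213) (Dv.wd (nat_lit 94) [Mv.f (nat_lit 3736), Mv.b (nat_lit 1744), Mv.b (nat_lit 1504), Mv.f (nat_lit 345), Mv.b (nat_lit 618), Mv.f (nat_lit 887), Mv.b (nat_lit 1608), Mv.b (nat_lit 1889), Mv.b (nat_lit 2117), Mv.f (nat_lit 3659)]))))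
(Tr.nd (nat_lit 3739) (Tr.lf (Fc.ed (nat_lit 3738) (nat_lit 1187) Col.b (nat_lit 1187) (Dv.wd (nat_lit 154) [Mv.f (nat_lit 3737), Mv.f (nat_lit 3736), Mv.f (nat_lit 1745), Mv.f (nat_lit 1737), Mv.f (nat_lit 1901), Mv.b (nat_lit 2070), Mv.f (nat_lit 2066), Mv.f (nat_lit 2069), Mv.b (nat_lit 2117), Mv.f (nat_lit 3659)])))
(Tr.nd (nat_lit 3740) (Tr.lf (Fc.ed (nat_lit 3739) (nat_lit 1018) Col.f (nat_lit 1214) Dv.df))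
(Tr.lf (Fc.ed (nat_lit 3740) (nat_lit 1214) Col.a (nat_lit 1214) (Dv.wd (nat_lit 16) [Mv.b (nat_lit 3739), Mv.f (nat_lit 3185), Mv.f (nat_lit 3739)]))))))
(Tr.nd (nat_lit 3743) (Tr.nd (nat_lit 3742) (Tr.lf (Fc.ed (nat_lit 3741) (nat_lit 1147) Col.gi (nat_lit 1215) Dv.df))
(Tr.lf (Fc.ed (nat_lit 3742) (nat_lit 1215) Col.gi (nat_lit 1198) (Dv.wd (nat_lit 24) [Mv.b (nat_lit 3687), Mv.f (nat_lit 3533), Mv.f (nat_lit 3741)]))))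
(Tr.nd (nat_lit 3744) (Tr.lf (Fc.ed (nat_lit 3743) (nat_lit 1215) Col.d (nat_lit 610) (Dv.wd (nat_lit 48) [Mv.b (nat_lit 1591), Mv.f (nat_lit 1380), Mv.f (nat_lit 1945), Mv.b (nat_lit 1942), Mv.f (nat_lit 1913), Mv.b (nat_lit 1559), Mv.f (nat_lit 1602), Mv.b (nat_lit 3532), Mv.f (nat_lit 3741)])))
(Tr.nd (nat_lit 3745) (Tr.lf (Fc.ed (nat_lit 3744) (nat_lit 990) Col.a (nat_lit 1215) (Dv.wd (nat_lit 54) [Mv.f (nat_lit 3743), Mv.f (nat_lit 1589), Mv.f (nat_lit 3104)])))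
(Tr.lf (Fc.ed (nat_lit 3745) (nat_lit 678) Col.g (nat_lit 1216) Dv.df))))))
(Tr.nd (nat_lit 3751) (Tr.nd (nat_lit 3748) (Tr.nd (nat_lit 3747) (Tr.lf (Fc.ed (nat_lit 3746) (nat_lit 1216) Col.g (nat_lit 602) (Dv.wd (nat_lit 9) [Mv.b (nat_lit 2449), Mv.b (nat_lit 2448), Mv.f (nat_lit 3745)])))
(Tr.lf (Fc.ed (nat_lit 3747) (nat_lit 219) Col.c (nat_lit 1217) Dv.df)))
(Tr.nd (nat_lit 3749) (Tr.lf (Fc.ed (nat_lit 3748) (nat_lit 1217) Col.a (nat_lit 1217) (Dv.wd (nat_lit 19) [Mv.b (nat_lit 3747), Mv.f (nat_lit 2789), Mv.f (nat_lit 3747)])))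
(Tr.nd (nat_lit 3750) (Tr.lf (Fc.ed (nat_lit 3749) (nat_lit 1217) Col.e (nat_lit 1087) (Dv.wd (nat_lit 25) [Mv.b (nat_lit 3356), Mv.b (nat_lit 1212), Mv.f (nat_lit 3747)])))
(Tr.lf (Fc.ed (nat_lit 3750) (nat_lit 1217) Col.f (nat_lit 868) (Dv.wd (nat_lit 26) [Mv.b (nat_lit 2785), Mv.b (nat_lit 2791), Mv.f (nat_lit 3747)]))))))
(Tr.nd (nat_lit 3753) (Tr.nd (nat_lit 3752) (Tr.lf (Fc.ed (nat_lit 3751) (nat_lit 854) Col.g (nat_lit 1217) (Dv.wd (nat_lit 9) [Mv.f (nat_lit 3748), Mv.f (nat_lit 3750), Mv.f (nat_lit 2813)])))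
(Tr.lf (Fc.ed (nat_lit 3752) (nat_lit 1131) Col.d (nat_lit 1218) Dv.df)))
(Tr.nd (nat_lit 3754) (Tr.lf (Fc.ed (nat_lit 3753) (nat_lit 1218) Col.f (nat_lit 1121) (Dv.wd (nat_lit 11) [Mv.f (nat_lit 3499), Mv.b (nat_lit 3502), Mv.f (nat_lit 3752)])))
(Tr.nd (nat_lit 3755) (Tr.lf (Fc.ed (nat_lit 3754) (nat_lit 1218) Col.c (nat_lit 1147) (Dv.wd (nat_lit 80) [Mv.f (nat_lit 3532), Mv.b (nat_lit 1602), Mv.f (nat_lit 1559), Mv.f (nat_lit 1731), Mv.f (nat_lit 2468), Mv.f (nat_lit 2470), Mv.b (nat_lit 2279), Mv.f (nat_lit 3479), Mv.f (nat_lit 3752)])))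
(Tr.lf (Fc.ed (nat_lit 3755) (nat_lit 1218) Col.g (nat_lit 1067) (Dv.wd (nat_lit 69) [Mv.b (nat_lit 3304), Mv.b (nat_lit 3268), Mv.f (nat_lit 2435), Mv.f (nat_lit 957), Mv.f (nat_lit 1995), Mv.f (nat_lit 2106), Mv.f (nat_lit 3631), Mv.f (nat_lit 3633), Mv.f (nat_lit 3752)]))))))))
(Tr.nd (nat_lit 3766) (Tr.nd (nat_lit 3761) (Tr.nd (nat_lit 3758) (Tr.nd (nat_lit 3757) (Tr.lf (Fc.ed (nat_lit 3756) (nat_lit 1218) Col.gi (nat_lit 1204) (Dv.wd (nat_lit 111) [Mv.f (nat_lit 3707), Mv.f (nat_lit 3477), Mv.b (nat_lit 3220), Mv.b (nat_lit 3029), Mv.f (nat_lit 3027), Mv.f (nat_lit 1608), Mv.b (nat_lit 2278), Mv.f (nat_lit 3479), Mv.f (nat_lit 3752)])))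
(Tr.lf (Fc.ed (nat_lit 3757) (nat_lit 1217) Col.d (nat_lit 1219) Dv.df)))
(Tr.nd (nat_lit 3759) (Tr.lf (Fc.ed (nat_lit 3758) (nat_lit 1219) Col.a (nat_lit 1219) (Dv.wd (nat_lit 8) [Mv.b (nat_lit 3757), Mv.f (nat_lit 3748), Mv.f (nat_lit 3757)])))
(Tr.nd (nat_lit 3760) (Tr.lf (Fc.ed (nat_lit 3759) (nat_lit 1219) Col.f (nat_lit 1098) (Dv.wd (nat_lit 11) [Mv.b (nat_lit 3393), Mv.b (nat_lit 3750), Mv.f (nat_lit 3757)])))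
(Tr.lf (Fc.ed (nat_lit 3760) (nat_lit 1219) Col.gi (nat_lit 1196) (Dv.wd (nat_lit 111) [Mv.b (nat_lit 3685), Mv.f (nat_lit 277), Mv.f (nat_lit 28), Mv.f (nat_lit 29), Mv.f (nat_lit 30), Mv.f (nat_lit 2638), Mv.f (nat_lit 2796), Mv.f (nat_lit 3747), Mv.f (nat_lit 3757)]))))))
(Tr.nd (nat_lit 3763) (Tr.nd (nat_lit 3762) (Tr.lf (Fc.ed (nat_lit 3761) (nat_lit 1196) Col.gi (nat_lit 1098) (Dv.wd (nat_lit 24) [Mv.b (nat_lit 3759), Mv.f (nat_lit 3758), Mv.f (nat_lit 3760)])))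
(Tr.lf (Fc.ed (nat_lit 3762) (nat_lit 1126) Col.gi (nat_lit 1219) (Dv.wd (nat_lit 24) [Mv.f (nat_lit 3759), Mv.f (nat_lit 3394), Mv.f (nat_lit 3468)]))))
(Tr.nd (nat_lit 3764) (Tr.lf (Fc.ed (nat_lit 3763) (nat_lit 353) Col.b (nat_lit 1220) Dv.df))
(Tr.nd (nat_lit 3765) (Tr.lf (Fc.ed (nat_lit 3764) (nat_lit 1220) Col.f (nat_lit 1169) (Dv.wd (nat_lit 20) [Mv.b (nat_lit 3597), Mv.b (nat_lit 844), Mv.f (nat_lit 3763)])))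
(Tr.lf (Fc.ed (nat_lit 3765) (nat_lit 1021) Col.gi (nat_lit 1221) Dv.df))))))
(Tr.nd (nat_lit 3771) (Tr.nd (nat_lit 3768) (Tr.nd (nat_lit 3767) (Tr.lf (Fc.ed (nat_lit 3766) (nat_lit 1221) Col.c (nat_lit 1041) (Dv.wd (nat_lit 14) [Mv.b (nat_lit 3622), Mv.b (nat_lit 3619), Mv.b (nat_lit 2122), Mv.f (nat_lit 3019), Mv.b (nat_lit 3290), Mv.f (nat_lit 3291), Mv.b (nat_lit 3165), Mv.f (nat_lit 3190), Mv.f (nat_lit 3765)])))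
(Tr.lf (Fc.ed (nat_lit 3767) (nat_lit 1150) Col.g (nat_lit 1221) (Dv.wd (nat_lit 139) [Mv.f (nat_lit 3766), Mv.b (nat_lit 3622), Mv.f (nat_lit 3621), Mv.b (nat_lit 3616), Mv.f (nat_lit 3565), Mv.b (nat_lit 2873), Mv.f (nat_lit 3445), Mv.b (nat_lit 3462), Mv.b (nat_lit 3546)]))))
(Tr.nd (nat_lit 3769) (Tr.lf (Fc.ed (nat_lit 3768) (nat_lit 1215) Col.c (nat_lit 1222) Dv.df))
(Tr.nd (nat_lit 3770) (Tr.lf (Fc.ed (nat_lit 3769) (nat_lit 1222) Col.d (nat_lit 1138) (Dv.wd (nat_lit 147) [Mv.b (nat_lit 3491), Mv.f (nat_lit 3027), Mv.b (nat_lit 1604), Mv.f (nat_lit 1509), Mv.f (nat_lit 1502), Mv.b (nat_lit 3433), Mv.f (nat_lit 3432), Mv.f (nat_lit 3744), Mv.f (nat_lit 3768)])))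
(Tr.lf (Fc.ed (nat_lit 3770) (nat_lit 1222) Col.gi (nat_lit 962) (Dv.wd (nat_lit 78) [Mv.b (nat_lit 3034), Mv.f (nat_lit 2985), Mv.b (nat_lit 2965), Mv.b (nat_lit 2214), Mv.b (nat_lit 2200), Mv.f (nat_lit 467), Mv.f (nat_lit 1588), Mv.b (nat_lit 3743), Mv.f (nat_lit 3768)]))))))
(Tr.nd (nat_lit 3774) (Tr.nd (nat_lit 3772) (Tr.lf (Fc.ed (nat_lit 3771) (nat_lit 598) Col.gi (nat_lit 1223) Dv.df))
(Tr.nd (nat_lit 3773) (Tr.lf (Fc.ed (nat_lit 3772) (nat_lit 1223) Col.gi (nat_lit 1122) (Dv.wd (nat_lit 24) [Mv.f (nat_lit 3459), Mv.f (nat_lit 1862), Mv.f (nat_lit 3771)])))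
(Tr.lf (Fc.ed (nat_lit 3773) (nat_lit 1223) Col.f (nat_lit 1055) (Dv.wd (nat_lit 13) [Mv.f (nat_lit 3272), Mv.b (nat_lit 3270), Mv.f (nat_lit 3771)])))))
(Tr.nd (nat_lit 3775) (Tr.lf (Fc.ed (nat_lit 3774) (nat_lit 1223) Col.a (nat_lit 1223) (Dv.wd (nat_lit 79) [Mv.f (nat_lit 3773), Mv.f (nat_lit 3272), Mv.b (nat_lit 3773)])))
(Tr.nd (nat_lit 3776) (Tr.lf (Fc.ed (nat_lit 3775) (nat_lit 1184) Col.c (nat_lit 1223) (Dv.wd (nat_lit 67) [Mv.f (nat_lit 3773), Mv.b (nat_lit 3718), Mv.b (nat_lit 3720)])))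
(Tr.lf (Fc.ed (nat_lit 3776) (nat_lit 989) Col.g (nat_lit 1224) Dv.df))))))))))
(Tr.nd (nat_lit 3859) (Tr.nd (nat_lit 3818) (Tr.nd (nat_lit 3797) (Tr.nd (nat_lit 3787) (Tr.nd (nat_lit 3782) (Tr.nd (nat_lit 3779) (Tr.nd (nat_lit 3778) (Tr.lf (Fc.ed (nat_lit 3777) (nat_lit 1224) Col.g (nat_lit 534) (Dv.wd (nat_lit 9) [Mv.f (nat_lit 3099), Mv.f (nat_lit 3102), Mv.f (nat_lit 3776)])))
(Tr.lf (Fc.ed (nat_lit 3778) (nat_lit 537) Col.b (nat_lit 1225) Dv.df)))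
(Tr.nd (nat_lit 3780) (Tr.lf (Fc.ed (nat_lit 3779) (nat_lit 1030) Col.f (nat_lit 1226) Dv.df))
(Tr.nd (nat_lit 3781) (Tr.lf (Fc.ed (nat_lit 3780) (nat_lit 1226) Col.a (nat_lit 1226) (Dv.wd (nat_lit 16) [Mv.b (nat_lit 3779), Mv.f (nat_lit 3213), Mv.f (nat_lit 3779)])))
(Tr.lf (Fc.ed (nat_lit 3781) (nat_lit 1226) Col.c (nat_lit 1214) (Dv.wd (nat_lit 34) [Mv.b (nat_lit 3739), Mv.b (nat_lit 3214), Mv.f (nat_lit 3779)]))))))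
(Tr.nd (nat_lit 3784) (Tr.nd (nat_lit 3783) (Tr.lf (Fc.ed (nat_lit 3782) (nat_lit 1226) Col.gi (nat_lit 1151) (Dv.wd (nat_lit 12) [Mv.b (nat_lit 3548), Mv.f (nat_lit 3779), Mv.f (nat_lit 3780)])))
(Tr.lf (Fc.ed (nat_lit 3783) (nat_lit 1226) Col.e (nat_lit 1214) (Dv.wd (nat_lit 22) [Mv.b (nat_lit 3739), Mv.b (nat_lit 3184), Mv.f (nat_lit 1654), Mv.f (nat_lit 3212), Mv.f (nat_lit 3779)]))))
(Tr.nd (nat_lit 3785) (Tr.lf (Fc.ed (nat_lit 3784) (nat_lit 1161) Col.d (nat_lit 1227) Dv.df))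
(Tr.nd (nat_lit 3786) (Tr.lf (Fc.ed (nat_lit 3785) (nat_lit 1227) Col.c (nat_lit 857) (Dv.wd (nat_lit 110) [Mv.f (nat_lit 3503), Mv.f (nat_lit 3507), Mv.b (nat_lit 947), Mv.f (nat_lit 3378), Mv.f (nat_lit 3670), Mv.f (nat_lit 3579), Mv.b (nat_lit 3544), Mv.f (nat_lit 3578), Mv.f (nat_lit 3784)])))
(Tr.lf (Fc.ed (nat_lit 3786) (nat_lit 1114) Col.gi (nat_lit 1228) Dv.df))))))
(Tr.nd (nat_lit 3792) (Tr.nd (nat_lit 3789) (Tr.nd (nat_lit 3788) (Tr.lf (Fc.ed (nat_lit 3787) (nat_lit 1228) Col.gi (nat_lit 1209) (Dv.wd (nat_lit 24) [Mv.b (nat_lit 3725), Mv.f (nat_lit 3699), Mv.f (nat_lit 3786)])))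
(Tr.lf (Fc.ed (nat_lit 3788) (nat_lit 1228) Col.d (nat_lit 1221) (Dv.wd (nat_lit 48) [Mv.b (nat_lit 3767), Mv.b (nat_lit 3545), Mv.b (nat_lit 3523), Mv.f (nat_lit 3082), Mv.b (nat_lit 2288), Mv.b (nat_lit 3423), Mv.b (nat_lit 3428), Mv.b (nat_lit 3438), Mv.f (nat_lit 3786)]))))
(Tr.nd (nat_lit 3790) (Tr.lf (Fc.ed (nat_lit 3789) (nat_lit 1228) Col.c (nat_lit 657) (Dv.wd (nat_lit 14) [Mv.f (nat_lit 2213), Mv.f (nat_lit 2212), Mv.f (nat_lit 1388), Mv.b (nat_lit 2929), Mv.f (nat_lit 3205), Mv.f (nat_lit 3210), Mv.b (nat_lit 3427), Mv.b (nat_lit 3438), Mv.f (nat_lit 3786)])))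
(Tr.nd (nat_lit 3791) (Tr.lf (Fc.ed (nat_lit 3790) (nat_lit 1131) Col.a (nat_lit 1228) (Dv.wd (nat_lit 76) [Mv.f (nat_lit 3789), Mv.b (nat_lit 2279), Mv.f (nat_lit 3479)])))
(Tr.lf (Fc.ed (nat_lit 3791) (nat_lit 607) Col.b (nat_lit 1229) Dv.df)))))
(Tr.nd (nat_lit 3794) (Tr.nd (nat_lit 3793) (Tr.lf (Fc.ed (nat_lit 3792) (nat_lit 1229) Col.e (nat_lit 1229) (Dv.wd (nat_lit 52) [Mv.b (nat_lit 3791), Mv.f (nat_lit 2360), Mv.f (nat_lit 3791)])))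
(Tr.lf (Fc.ed (nat_lit 3793) (nat_lit 924) Col.gi (nat_lit 1230) Dv.df)))
(Tr.nd (nat_lit 3795) (Tr.lf (Fc.ed (nat_lit 3794) (nat_lit 1230) Col.d (nat_lit 1050) (Dv.wd (nat_lit 43) [Mv.b (nat_lit 3257), Mv.f (nat_lit 1897), Mv.b (nat_lit 3286), Mv.f (nat_lit 3404), Mv.b (nat_lit 3400), Mv.b (nat_lit 2269), Mv.b (nat_lit 1738), Mv.f (nat_lit 1722), Mv.b (nat_lit 2939), Mv.f (nat_lit 3793)])))
(Tr.nd (nat_lit 3796) (Tr.lf (Fc.ed (nat_lit 3795) (nat_lit 881) Col.a (nat_lit 1231) Dv.df))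
(Tr.lf (Fc.ed (nat_lit 3796) (nat_lit 1231) Col.f (nat_lit 999) (Dv.wd (nat_lit 10) [Mv.b (nat_lit 3130), Mv.f (nat_lit 2832), Mv.f (nat_lit 3795)]))))))))
(Tr.nd (nat_lit 3807) (Tr.nd (nat_lit 3802) (Tr.nd (nat_lit 3799) (Tr.nd (nat_lit 3798) (Tr.lf (Fc.ed (nat_lit 3797) (nat_lit 748) Col.c (nat_lit 1232) Dv.df))
(Tr.lf (Fc.ed (nat_lit 3798) (nat_lit 1232) Col.a (nat_lit 1152) (Dv.wd (nat_lit 19) [Mv.f (nat_lit 3550), Mv.b (nat_lit 2168), Mv.f (nat_lit 3797)]))))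
(Tr.nd (nat_lit 3800) (Tr.lf (Fc.ed (nat_lit 3799) (nat_lit 696) Col.e (nat_lit 1233) Dv.df))
(Tr.nd (nat_lit 3801) (Tr.lf (Fc.ed (nat_lit 3800) (nat_lit 1233) Col.d (nat_lit 1194) (Dv.wd (nat_lit 59) [Mv.b (nat_lit 3681), Mv.b (nat_lit 3679), Mv.f (nat_lit 1849), Mv.b (nat_lit 2748), Mv.f (nat_lit 3799)])))
(Tr.lf (Fc.ed (nat_lit 3801) (nat_lit 897) Col.c (nat_lit 1234) Dv.df)))))
(Tr.nd (nat_lit 3804) (Tr.nd (nat_lit 3803) (Tr.lf (Fc.ed (nat_lit 3802) (nat_lit 1234) Col.a (nat_lit 1179) (Dv.wd (nat_lit 19) [Mv.b (nat_lit 3639), Mv.f (nat_lit 2864), Mv.f (nat_lit 3801)])))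
(Tr.lf (Fc.ed (nat_lit 3803) (nat_lit 975) Col.c (nat_lit 1235) Dv.df)))
(Tr.nd (nat_lit 3805) (Tr.lf (Fc.ed (nat_lit 3804) (nat_lit 1057) Col.gi (nat_lit 1236) Dv.df))
(Tr.nd (nat_lit 3806) (Tr.lf (Fc.ed (nat_lit 3805) (nat_lit 1236) Col.gi (nat_lit 1146) (Dv.wd (nat_lit 24) [Mv.b (nat_lit 3615), Mv.f (nat_lit 3611), Mv.f (nat_lit 3804)])))
(Tr.lf (Fc.ed (nat_lit 3806) (nat_lit 1025) Col.e (nat_lit 1237) Dv.df))))))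
(Tr.nd (nat_lit 3812) (Tr.nd (nat_lit 3809) (Tr.nd (nat_lit 3808) (Tr.lf (Fc.ed (nat_lit 3807) (nat_lit 407) Col.c (nat_lit 1238) Dv.df))
(Tr.lf (Fc.ed (nat_lit 3808) (nat_lit 1238) Col.a (nat_lit 913) (Dv.wd (nat_lit 19) [Mv.b (nat_lit 2896), Mv.f (nat_lit 2646), Mv.f (nat_lit 3807)]))))
(Tr.nd (nat_lit 3810) (Tr.lf (Fc.ed (nat_lit 3809) (nat_lit 1238) Col.f (nat_lit 1232) (Dv.wd (nat_lit 26) [Mv.b (nat_lit 3797), Mv.b (nat_lit 2167), Mv.f (nat_lit 3807)])))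
(Tr.nd (nat_lit 3811) (Tr.lf (Fc.ed (nat_lit 3810) (nat_lit 863) Col.b (nat_lit 1239) Dv.df))
(Tr.lf (Fc.ed (nat_lit 3811) (nat_lit 1239) Col.d (nat_lit 629) (Dv.wd (nat_lit 58) [Mv.f (nat_lit 1739), Mv.b (nat_lit 2446), Mv.f (nat_lit 3810)]))))))
(Tr.nd (nat_lit 3815) (Tr.nd (nat_lit 3813) (Tr.lf (Fc.ed (nat_lit 3812) (nat_lit 1239) Col.g (nat_lit 1060) (Dv.wd (nat_lit 122) [Mv.f (nat_lit 3282), Mv.b (nat_lit 3789), Mv.b (nat_lit 3786), Mv.b (nat_lit 3437), Mv.f (nat_lit 2235), Mv.f (nat_lit 2237), Mv.f (nat_lit 3024), Mv.f (nat_lit 3376), Mv.f (nat_lit 3375), Mv.f (nat_lit 3810)])))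
(Tr.nd (nat_lit 3814) (Tr.lf (Fc.ed (nat_lit 3813) (nat_lit 1239) Col.gi (nat_lit 827) (Dv.wd (nat_lit 100) [Mv.f (nat_lit 2365), Mv.f (nat_lit 3024), Mv.f (nat_lit 3161), Mv.f (nat_lit 3163), Mv.f (nat_lit 2426), Mv.b (nat_lit 2284), Mv.f (nat_lit 3121), Mv.f (nat_lit 3377), Mv.f (nat_lit 3375), Mv.f (nat_lit 3810)])))
(Tr.lf (Fc.ed (nat_lit 3814) (nat_lit 921) Col.e (nat_lit 1240) Dv.df))))
(Tr.nd (nat_lit 3816) (Tr.lf (Fc.ed (nat_lit 3815) (nat_lit 1240) Col.b (nat_lit 951) (Dv.wd (nat_lit 49) [Mv.b (nat_lit 3006), Mv.f (nat_lit 2931), Mv.f (nat_lit 3814)])))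
(Tr.nd (nat_lit 3817) (Tr.lf (Fc.ed (nat_lit 3816) (nat_lit 1240) Col.d (nat_lit 1240) (Dv.wd (nat_lit 59) [Mv.b (nat_lit 3814), Mv.f (nat_lit 2929), Mv.f (nat_lit 819), Mv.b (nat_lit 2929), Mv.f (nat_lit 3814)])))
(Tr.lf (Fc.ed (nat_lit 3817) (nat_lit 1223) Col.d (nat_lit 1241) Dv.df))))))))
(Tr.nd (nat_lit 3838) (Tr.nd (nat_lit 3828) (Tr.nd (nat_lit 3823) (Tr.nd (nat_lit 3820) (Tr.nd (nat_lit 3819) (Tr.lf (Fc.ed (nat_lit 3818) (nat_lit 1241) Col.f (nat_lit 1037) (Dv.wd (nat_lit 11) [Mv.b (nat_lit 3271), Mv.b (nat_lit 3773), Mv.f (nat_lit 3817)])))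
(Tr.lf (Fc.ed (nat_lit 3819) (nat_lit 1241) Col.c (nat_lit 728) (Dv.wd (nat_lit 110) [Mv.f (nat_lit 2561), Mv.f (nat_lit 2390), Mv.f (nat_lit 2490), Mv.f (nat_lit 2486), Mv.f (nat_lit 3592), Mv.f (nat_lit 3595), Mv.f (nat_lit 3457), Mv.b (nat_lit 3772), Mv.f (nat_lit 3817)]))))
(Tr.nd (nat_lit 3821) (Tr.lf (Fc.ed (nat_lit 3820) (nat_lit 1241) Col.e (nat_lit 1168) (Dv.wd (nat_lit 74) [Mv.b (nat_lit 3596), Mv.b (nat_lit 1126), Mv.f (nat_lit 1778), Mv.f (nat_lit 1764), Mv.f (nat_lit 26), Mv.b (nat_lit 1775), Mv.f (nat_lit 1126), Mv.f (nat_lit 1555), Mv.f (nat_lit 3771), Mv.f (nat_lit 3817)])))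
(Tr.nd (nat_lit 3822) (Tr.lf (Fc.ed (nat_lit 3821) (nat_lit 1167) Col.a (nat_lit 1242) Dv.df))
(Tr.lf (Fc.ed (nat_lit 3822) (nat_lit 1242) Col.c (nat_lit 934) (Dv.wd (nat_lit 33) [Mv.b (nat_lit 2960), Mv.f (nat_lit 3590), Mv.f (nat_lit 3821)]))))))
(Tr.nd (nat_lit 3825) (Tr.nd (nat_lit 3824) (Tr.lf (Fc.ed (nat_lit 3823) (nat_lit 1242) Col.f (nat_lit 1234) (Dv.wd (nat_lit 35) [Mv.f (nat_lit 3802), Mv.f (nat_lit 3641), Mv.f (nat_lit 3821)])))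
(Tr.lf (Fc.ed (nat_lit 3824) (nat_lit 378) Col.b (nat_lit 1243) Dv.df)))
(Tr.nd (nat_lit 3826) (Tr.lf (Fc.ed (nat_lit 3825) (nat_lit 1243) Col.f (nat_lit 1166) (Dv.wd (nat_lit 20) [Mv.f (nat_lit 3589), Mv.f (nat_lit 1098), Mv.f (nat_lit 3824)])))
(Tr.nd (nat_lit 3827) (Tr.lf (Fc.ed (nat_lit 3826) (nat_lit 1200) Col.gi (nat_lit 1244) Dv.df))
(Tr.lf (Fc.ed (nat_lit 3827) (nat_lit 1244) Col.f (nat_lit 1193) (Dv.wd (nat_lit 13) [Mv.f (nat_lit 3680), Mv.b (nat_lit 3695), Mv.f (nat_lit 3826)])))))))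
(Tr.nd (nat_lit 3833) (Tr.nd (nat_lit 3830) (Tr.nd (nat_lit 3829) (Tr.lf (Fc.ed (nat_lit 3828) (nat_lit 1244) Col.d (nat_lit 463) (Dv.wd (nat_lit 53) [Mv.b (nat_lit 1847), Mv.b (nat_lit 2613), Mv.f (nat_lit 2360), Mv.b (nat_lit 2659), Mv.f (nat_lit 2658), Mv.f (nat_lit 2748), Mv.b (nat_lit 1361), Mv.b (nat_lit 3506), Mv.f (nat_lit 3693), Mv.f (nat_lit 3826)])))
(Tr.lf (Fc.ed (nat_lit 3829) (nat_lit 1244) Col.a (nat_lit 1244) (Dv.wd (nat_lit 54) [Mv.f (nat_lit 3828), Mv.f (nat_lit 2572), Mv.b (nat_lit 3828)]))))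
(Tr.nd (nat_lit 3831) (Tr.lf (Fc.ed (nat_lit 3830) (nat_lit 217) Col.g (nat_lit 1245) Dv.df))
(Tr.nd (nat_lit 3832) (Tr.lf (Fc.ed (nat_lit 3831) (nat_lit 1245) Col.g (nat_lit 829) (Dv.wd (nat_lit 9) [Mv.b (nat_lit 2672), Mv.b (nat_lit 595), Mv.f (nat_lit 3830)])))
(Tr.lf (Fc.ed (nat_lit 3832) (nat_lit 386) Col.gi (nat_lit 1246) Dv.df)))))
(Tr.nd (nat_lit 3835) (Tr.nd (nat_lit 3834) (Tr.lf (Fc.ed (nat_lit 3833) (nat_lit 1246) Col.gi (nat_lit 897) (Dv.wd (nat_lit 24) [Mv.b (nat_lit 2962), Mv.b (nat_lit 2960), Mv.f (nat_lit 3832)])))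
(Tr.lf (Fc.ed (nat_lit 3834) (nat_lit 952) Col.b (nat_lit 1247) Dv.df)))
(Tr.nd (nat_lit 3836) (Tr.lf (Fc.ed (nat_lit 3835) (nat_lit 1247) Col.d (nat_lit 672) (Dv.wd (nat_lit 58) [Mv.b (nat_lit 1972), Mv.b (nat_lit 3009), Mv.f (nat_lit 3834)])))
(Tr.nd (nat_lit 3837) (Tr.lf (Fc.ed (nat_lit 3836) (nat_lit 739) Col.c (nat_lit 1248) Dv.df))
(Tr.lf (Fc.ed (nat_lit 3837) (nat_lit 1248) Col.f (nat_lit 1132) (Dv.wd (nat_lit 26) [Mv.b (nat_lit 3480), Mv.b (nat_lit 2147), Mv.f (nat_lit 3836)]))))))))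
(Tr.nd (nat_lit 3848) (Tr.nd (nat_lit 3843) (Tr.nd (nat_lit 3840) (Tr.nd (nat_lit 3839) (Tr.lf (Fc.ed (nat_lit 3838) (nat_lit 1230) Col.gi (nat_lit 1249) Dv.df))
(Tr.lf (Fc.ed (nat_lit 3839) (nat_lit 1249) Col.d (nat_lit 662) (Dv.wd (nat_lit 53) [Mv.b (nat_lit 2346), Mv.f (nat_lit 2348), Mv.b (nat_lit 2269), Mv.b (nat_lit 3811), Mv.f (nat_lit 3813), Mv.b (nat_lit 2364), Mv.f (nat_lit 3158), Mv.f (nat_lit 3260), Mv.b (nat_lit 3794), Mv.f (nat_lit 3838)]))))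
(Tr.nd (nat_lit 3841) (Tr.lf (Fc.ed (nat_lit 3840) (nat_lit 961) Col.b (nat_lit 1249) (Dv.wd (nat_lit 126) [Mv.f (nat_lit 3839), Mv.f (nat_lit 2008), Mv.b (nat_lit 3032)])))
(Tr.nd (nat_lit 3842) (Tr.lf (Fc.ed (nat_lit 3841) (nat_lit 974) Col.f (nat_lit 1250) Dv.df))
(Tr.lf (Fc.ed (nat_lit 3842) (nat_lit 1250) Col.d (nat_lit 493) (Dv.wd (nat_lit 21) [Mv.b (nat_lit 1150), Mv.f (nat_lit 3062), Mv.f (nat_lit 3841)]))))))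
(Tr.nd (nat_lit 3845) (Tr.nd (nat_lit 3844) (Tr.lf (Fc.ed (nat_lit 3843) (nat_lit 817) Col.e (nat_lit 1251) Dv.df))
(Tr.lf (Fc.ed (nat_lit 3844) (nat_lit 1088) Col.a (nat_lit 1252) Dv.df)))
(Tr.nd (nat_lit 3846) (Tr.lf (Fc.ed (nat_lit 3845) (nat_lit 1252) Col.b (nat_lit 1252) (Dv.wd (nat_lit 65) [Mv.b (nat_lit 3844), Mv.b (nat_lit 3360), Mv.f (nat_lit 823), Mv.f (nat_lit 3360), Mv.f (nat_lit 3844)])))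
(Tr.nd (nat_lit 3847) (Tr.lf (Fc.ed (nat_lit 3846) (nat_lit 775) Col.e (nat_lit 1253) Dv.df))
(Tr.lf (Fc.ed (nat_lit 3847) (nat_lit 1253) Col.d (nat_lit 1151) (Dv.wd (nat_lit 59) [Mv.b (nat_lit 3696), Mv.b (nat_lit 3693), Mv.f (nat_lit 3506), Mv.f (nat_lit 2228), Mv.f (nat_lit 3846)])))))))
(Tr.nd (nat_lit 3853) (Tr.nd (nat_lit 3850) (Tr.nd (nat_lit 3849) (Tr.lf (Fc.ed (nat_lit 3848) (nat_lit 1128) Col.d (nat_lit 1254) Dv.df))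
(Tr.lf (Fc.ed (nat_lit 3849) (nat_lit 1254) Col.a (nat_lit 1254) (Dv.wd (nat_lit 8) [Mv.b (nat_lit 3848), Mv.f (nat_lit 3519), Mv.f (nat_lit 3848)]))))
(Tr.nd (nat_lit 3851) (Tr.lf (Fc.ed (nat_lit 3850) (nat_lit 1254) Col.f (nat_lit 1200) (Dv.wd (nat_lit 11) [Mv.b (nat_lit 3693), Mv.b (nat_lit 3518), Mv.f (nat_lit 3848)])))
(Tr.nd (nat_lit 3852) (Tr.lf (Fc.ed (nat_lit 3851) (nat_lit 1254) Col.g (nat_lit 1244) (Dv.wd (nat_lit 69) [Mv.f (nat_lit 3828), Mv.f (nat_lit 1846), Mv.f (nat_lit 2568), Mv.f (nat_lit 2123), Mv.f (nat_lit 2561), Mv.f (nat_lit 2390), Mv.f (nat_lit 1058), Mv.b (nat_lit 3473), Mv.f (nat_lit 3848)])))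
(Tr.lf (Fc.ed (nat_lit 3852) (nat_lit 818) Col.b (nat_lit 1255) Dv.df)))))
(Tr.nd (nat_lit 3856) (Tr.nd (nat_lit 3854) (Tr.lf (Fc.ed (nat_lit 3853) (nat_lit 1255) Col.d (nat_lit 1225) (Dv.wd (nat_lit 58) [Mv.b (nat_lit 3778), Mv.b (nat_lit 2339), Mv.f (nat_lit 3852)])))
(Tr.nd (nat_lit 3855) (Tr.lf (Fc.ed (nat_lit 3854) (nat_lit 1255) Col.a (nat_lit 1255) (Dv.wd (nat_lit 98) [Mv.b (nat_lit 3852), Mv.b (nat_lit 2340), Mv.f (nat_lit 2108), Mv.f (nat_lit 2340), Mv.f (nat_lit 3852)])))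
(Tr.lf (Fc.ed (nat_lit 3855) (nat_lit 621) Col.e (nat_lit 1256) Dv.df))))
(Tr.nd (nat_lit 3857) (Tr.lf (Fc.ed (nat_lit 3856) (nat_lit 1135) Col.c (nat_lit 1257) Dv.df))
(Tr.nd (nat_lit 3858) (Tr.lf (Fc.ed (nat_lit 3857) (nat_lit 961) Col.e (nat_lit 1258) Dv.df))
(Tr.lf (Fc.ed (nat_lit 3858) (nat_lit 509) Col.g (nat_lit 1259) Dv.df)))))))))
(Tr.nd (nat_lit 3900) (Tr.nd (nat_lit 3879) (Tr.nd (nat_lit 3869) (Tr.nd (nat_lit 3864) (Tr.nd (nat_lit 3861) (Tr.nd (nat_lit 3860) (Tr.lf (Fc.ed (nat_lit 3859) (nat_lit 1259) Col.g (nat_lit 536) (Dv.wd (nat_lit 9) [Mv.f (nat_lit 2867), Mv.f (nat_lit 2869), Mv.f (nat_lit 3858)])))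
(Tr.lf (Fc.ed (nat_lit 3860) (nat_lit 610) Col.b (nat_lit 1260) Dv.df)))
(Tr.nd (nat_lit 3862) (Tr.lf (Fc.ed (nat_lit 3861) (nat_lit 1260) Col.c (nat_lit 1205) (Dv.wd (nat_lit 93) [Mv.f (nat_lit 3709), Mv.b (nat_lit 1488), Mv.b (nat_lit 1494), Mv.f (nat_lit 1588), Mv.f (nat_lit 3860)])))
(Tr.nd (nat_lit 3863) (Tr.lf (Fc.ed (nat_lit 3862) (nat_lit 1122) Col.b (nat_lit 1261) Dv.df))
(Tr.lf (Fc.ed (nat_lit 3863) (nat_lit 1261) Col.f (nat_lit 1006) (Dv.wd (nat_lit 20) [Mv.b (nat_lit 3157), Mv.b (nat_lit 3459), Mv.f (nat_lit 3862)]))))))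
(Tr.nd (nat_lit 3866) (Tr.nd (nat_lit 3865) (Tr.lf (Fc.ed (nat_lit 3864) (nat_lit 1154) Col.c (nat_lit 1262) Dv.df))
(Tr.lf (Fc.ed (nat_lit 3865) (nat_lit 1262) Col.a (nat_lit 1262) (Dv.wd (nat_lit 19) [Mv.b (nat_lit 3864), Mv.f (nat_lit 3560), Mv.f (nat_lit 3864)]))))
(Tr.nd (nat_lit 3867) (Tr.lf (Fc.ed (nat_lit 3866) (nat_lit 1262) Col.g (nat_lit 1113) (Dv.wd (nat_lit 77) [Mv.f (nat_lit 3436), Mv.b (nat_lit 1555), Mv.f (nat_lit 1167), Mv.b (nat_lit 3579), Mv.b (nat_lit 3670), Mv.f (nat_lit 3379), Mv.b (nat_lit 3388), Mv.b (nat_lit 3557), Mv.f (nat_lit 3864)])))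
(Tr.nd (nat_lit 3868) (Tr.lf (Fc.ed (nat_lit 3867) (nat_lit 1149) Col.g (nat_lit 1262) (Dv.wd (nat_lit 17) [Mv.f (nat_lit 3866), Mv.f (nat_lit 3435), Mv.f (nat_lit 3538)])))
(Tr.lf (Fc.ed (nat_lit 3868) (nat_lit 933) Col.d (nat_lit 1263) Dv.df))))))
(Tr.nd (nat_lit 3874) (Tr.nd (nat_lit 3871) (Tr.nd (nat_lit 3870) (Tr.lf (Fc.ed (nat_lit 3869) (nat_lit 1263) Col.b (nat_lit 856) (Dv.wd (nat_lit 37) [Mv.f (nat_lit 2435), Mv.f (nat_lit 2958), Mv.f (nat_lit 3868)])))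
(Tr.lf (Fc.ed (nat_lit 3870) (nat_lit 1163) Col.c (nat_lit 1264) Dv.df)))
(Tr.nd (nat_lit 3872) (Tr.lf (Fc.ed (nat_lit 3871) (nat_lit 1264) Col.a (nat_lit 1264) (Dv.wd (nat_lit 19) [Mv.b (nat_lit 3870), Mv.f (nat_lit 3583), Mv.f (nat_lit 3870)])))
(Tr.nd (nat_lit 3873) (Tr.lf (Fc.ed (nat_lit 3872) (nat_lit 1264) Col.e (nat_lit 353) (Dv.wd (nat_lit 25) [Mv.b (nat_lit 842), Mv.f (nat_lit 3582), Mv.f (nat_lit 3870)])))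
(Tr.lf (Fc.ed (nat_lit 3873) (nat_lit 1179) Col.d (nat_lit 1265) Dv.df)))))
(Tr.nd (nat_lit 3876) (Tr.nd (nat_lit 3875) (Tr.lf (Fc.ed (nat_lit 3874) (nat_lit 996) Col.d (nat_lit 1266) Dv.df))
(Tr.lf (Fc.ed (nat_lit 3875) (nat_lit 1266) Col.b (nat_lit 1244) (Dv.wd (nat_lit 37) [Mv.f (nat_lit 3828), Mv.f (nat_lit 3125), Mv.f (nat_lit 3874)]))))
(Tr.nd (nat_lit 3877) (Tr.lf (Fc.ed (nat_lit 3876) (nat_lit 108) Col.b (nat_lit 1267) Dv.df))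
(Tr.nd (nat_lit 3878) (Tr.lf (Fc.ed (nat_lit 3877) (nat_lit 375) Col.b (nat_lit 1268) Dv.df))
(Tr.lf (Fc.ed (nat_lit 3878) (nat_lit 1268) Col.f (nat_lit 1134) (Dv.wd (nat_lit 20) [Mv.b (nat_lit 3482), Mv.f (nat_lit 894), Mv.f (nat_lit 3877)]))))))))
(Tr.nd (nat_lit 3889) (Tr.nd (nat_lit 3884) (Tr.nd (nat_lit 3881) (Tr.nd (nat_lit 3880) (Tr.lf (Fc.ed (nat_lit 3879) (nat_lit 1139) Col.e (nat_lit 1268) (Dv.wd (nat_lit 57) [Mv.f (nat_lit 3878), Mv.f (nat_lit 3483), Mv.b (nat_lit 3183), Mv.f (nat_lit 3269), Mv.f (nat_lit 3495)])))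
(Tr.lf (Fc.ed (nat_lit 3880) (nat_lit 327) Col.b (nat_lit 1139) (Dv.wd (nat_lit 127) [Mv.f (nat_lit 3879), Mv.b (nat_lit 3877), Mv.b (nat_lit 891)]))))
(Tr.nd (nat_lit 3882) (Tr.lf (Fc.ed (nat_lit 3881) (nat_lit 1139) Col.d (nat_lit 1169) (Dv.wd (nat_lit 58) [Mv.b (nat_lit 3597), Mv.b (nat_lit 786), Mv.f (nat_lit 3880)])))
(Tr.nd (nat_lit 3883) (Tr.lf (Fc.ed (nat_lit 3882) (nat_lit 1220) Col.d (nat_lit 1054) (Dv.wd (nat_lit 90) [Mv.f (nat_lit 3495), Mv.f (nat_lit 3881), Mv.b (nat_lit 3764)])))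
(Tr.lf (Fc.ed (nat_lit 3883) (nat_lit 1244) Col.e (nat_lit 1269) Dv.df)))))
(Tr.nd (nat_lit 3886) (Tr.nd (nat_lit 3885) (Tr.lf (Fc.ed (nat_lit 3884) (nat_lit 1269) Col.a (nat_lit 1269) (Dv.wd (nat_lit 15) [Mv.b (nat_lit 3883), Mv.f (nat_lit 3829), Mv.f (nat_lit 3883)])))
(Tr.lf (Fc.ed (nat_lit 3885) (nat_lit 1269) Col.d (nat_lit 1212) (Dv.wd (nat_lit 59) [Mv.b (nat_lit 3732), Mv.b (nat_lit 1742), Mv.f (nat_lit 1847), Mv.b (nat_lit 3828), Mv.f (nat_lit 3883)]))))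
(Tr.nd (nat_lit 3887) (Tr.lf (Fc.ed (nat_lit 3886) (nat_lit 842) Col.d (nat_lit 1270) Dv.df))
(Tr.nd (nat_lit 3888) (Tr.lf (Fc.ed (nat_lit 3887) (nat_lit 1220) Col.e (nat_lit 1271) Dv.df))
(Tr.lf (Fc.ed (nat_lit 3888) (nat_lit 1271) Col.b (nat_lit 1264) (Dv.wd (nat_lit 49) [Mv.f (nat_lit 3872), Mv.f (nat_lit 3763), Mv.f (nat_lit 3887)])))))))
(Tr.nd (nat_lit 3894) (Tr.nd (nat_lit 3891) (Tr.nd (nat_lit 3890) (Tr.lf (Fc.ed (nat_lit 3889) (nat_lit 1211) Col.gi (nat_lit 1272) Dv.df))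
(Tr.lf (Fc.ed (nat_lit 3890) (nat_lit 536) Col.d (nat_lit 1273) Dv.df)))
(Tr.nd (nat_lit 3892) (Tr.lf (Fc.ed (nat_lit 3891) (nat_lit 1273) Col.a (nat_lit 1183) (Dv.wd (nat_lit 8) [Mv.b (nat_lit 3651), Mv.b (nat_lit 2867), Mv.f (nat_lit 3890)])))
(Tr.nd (nat_lit 3893) (Tr.lf (Fc.ed (nat_lit 3892) (nat_lit 924) Col.e (nat_lit 1274) Dv.df))
(Tr.lf (Fc.ed (nat_lit 3893) (nat_lit 1274) Col.d (nat_lit 1274) (Dv.wd (nat_lit 59) [Mv.b (nat_lit 3892), Mv.f (nat_lit 2939), Mv.f (nat_lit 1722), Mv.b (nat_lit 2939), Mv.f (nat_lit 3892)]))))))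
(Tr.nd (nat_lit 3897) (Tr.nd (nat_lit 3895) (Tr.lf (Fc.ed (nat_lit 3894) (nat_lit 1070) Col.b (nat_lit 1275) Dv.df))
(Tr.nd (nat_lit 3896) (Tr.lf (Fc.ed (nat_lit 3895) (nat_lit 1275) Col.d (nat_lit 1261) (Dv.wd (nat_lit 58) [Mv.b (nat_lit 3862), Mv.b (nat_lit 3457), Mv.f (nat_lit 3894)])))
(Tr.lf (Fc.ed (nat_lit 3896) (nat_lit 1275) Col.e (nat_lit 1275) (Dv.wd (nat_lit 52) [Mv.b (nat_lit 3894), Mv.f (nat_lit 3315), Mv.f (nat_lit 3894)])))))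
(Tr.nd (nat_lit 3898) (Tr.lf (Fc.ed (nat_lit 3897) (nat_lit 1275) Col.f (nat_lit 1034) (Dv.wd (nat_lit 20) [Mv.b (nat_lit 3222), Mv.f (nat_lit 3312), Mv.f (nat_lit 3894)])))
(Tr.nd (nat_lit 3899) (Tr.lf (Fc.ed (nat_lit 3898) (nat_lit 793) Col.b (nat_lit 1276) Dv.df))
(Tr.lf (Fc.ed (nat_lit 3899) (nat_lit 1276) Col.f (nat_lit 862) (Dv.wd (nat_lit 20) [Mv.b (nat_lit 2443), Mv.f (nat_lit 2271), Mv.f (nat_lit 3898)])))))))))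
(Tr.nd (nat_lit 3921) (Tr.nd (nat_lit 3910) (Tr.nd (nat_lit 3905) (Tr.nd (nat_lit 3902) (Tr.nd (nat_lit 3901) (Tr.lf (Fc.ed (nat_lit 3900) (nat_lit 1276) Col.c (nat_lit 1083) (Dv.wd (nat_lit 93) [Mv.b (nat_lit 3344), Mv.b (nat_lit 1042), Mv.b (nat_lit 1189), Mv.f (nat_lit 2822), Mv.f (nat_lit 3898)])))
(Tr.lf (Fc.ed (nat_lit 3901) (nat_lit 1141) Col.a (nat_lit 1277) Dv.df)))
(Tr.nd (nat_lit 3903) (Tr.lf (Fc.ed (nat_lit 3902) (nat_lit 1277) Col.c (nat_lit 873) (Dv.wd (nat_lit 33) [Mv.f (nat_lit 2469), Mv.b (nat_lit 3500), Mv.f (nat_lit 3901)])))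
(Tr.nd (nat_lit 3904) (Tr.lf (Fc.ed (nat_lit 3903) (nat_lit 1277) Col.f (nat_lit 1228) (Dv.wd (nat_lit 35) [Mv.b (nat_lit 3790), Mv.f (nat_lit 3502), Mv.f (nat_lit 3901)])))
(Tr.lf (Fc.ed (nat_lit 3904) (nat_lit 1277) Col.gi (nat_lit 1201) (Dv.wd (nat_lit 12) [Mv.b (nat_lit 3698), Mv.f (nat_lit 3502), Mv.f (nat_lit 3901)]))))))
(Tr.nd (nat_lit 3907) (Tr.nd (nat_lit 3906) (Tr.lf (Fc.ed (nat_lit 3905) (nat_lit 1177) Col.gi (nat_lit 1277) (Dv.wd (nat_lit 12) [Mv.f (nat_lit 3904), Mv.f (nat_lit 3725), Mv.f (nat_lit 3723)])))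
(Tr.lf (Fc.ed (nat_lit 3906) (nat_lit 1175) Col.gi (nat_lit 1278) Dv.df)))
(Tr.nd (nat_lit 3908) (Tr.lf (Fc.ed (nat_lit 3907) (nat_lit 1278) Col.gi (nat_lit 608) (Dv.wd (nat_lit 24) [Mv.f (nat_lit 1585), Mv.b (nat_lit 3626), Mv.f (nat_lit 3906)])))
(Tr.nd (nat_lit 3909) (Tr.lf (Fc.ed (nat_lit 3908) (nat_lit 1268) Col.d (nat_lit 1279) Dv.df))
(Tr.lf (Fc.ed (nat_lit 3909) (nat_lit 1279) Col.b (nat_lit 681) (Dv.wd (nat_lit 37) [Mv.f (nat_lit 1998), Mv.f (nat_lit 3877), Mv.f (nat_lit 3908)])))))))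
(Tr.nd (nat_lit 3915) (Tr.nd (nat_lit 3912) (Tr.nd (nat_lit 3911) (Tr.lf (Fc.ed (nat_lit 3910) (nat_lit 1236) Col.d (nat_lit 1280) Dv.df))
(Tr.lf (Fc.ed (nat_lit 3911) (nat_lit 1280) Col.g (nat_lit 1090) (Dv.wd (nat_lit 69) [Mv.b (nat_lit 3367), Mv.b (nat_lit 3011), Mv.f (nat_lit 2848), Mv.f (nat_lit 2996), Mv.b (nat_lit 2994), Mv.f (nat_lit 2759), Mv.f (nat_lit 3529), Mv.b (nat_lit 3805), Mv.f (nat_lit 3910)]))))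
(Tr.nd (nat_lit 3913) (Tr.lf (Fc.ed (nat_lit 3912) (nat_lit 1280) Col.gi (nat_lit 991) (Dv.wd (nat_lit 50) [Mv.f (nat_lit 3107), Mv.f (nat_lit 1361), Mv.b (nat_lit 2748), Mv.b (nat_lit 2658), Mv.f (nat_lit 2659), Mv.f (nat_lit 3645), Mv.f (nat_lit 3648), Mv.f (nat_lit 3804), Mv.f (nat_lit 3910)])))
(Tr.nd (nat_lit 3914) (Tr.lf (Fc.ed (nat_lit 3913) (nat_lit 1236) Col.e (nat_lit 1236) (Dv.wd (nat_lit 133) [Mv.f (nat_lit 3910), Mv.f (nat_lit 3912), Mv.b (nat_lit 3105), Mv.b (nat_lit 3666), Mv.f (nat_lit 3667), Mv.f (nat_lit 3232), Mv.f (nat_lit 3234), Mv.f (nat_lit 3196), Mv.f (nat_lit 3274), Mv.f (nat_lit 3804)])))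
(Tr.lf (Fc.ed (nat_lit 3914) (nat_lit 633) Col.gi (nat_lit 1281) Dv.df)))))
(Tr.nd (nat_lit 3918) (Tr.nd (nat_lit 3916) (Tr.lf (Fc.ed (nat_lit 3915) (nat_lit 1281) Col.gi (nat_lit 1068) (Dv.wd (nat_lit 24) [Mv.b (nat_lit 3553), Mv.f (nat_lit 3554), Mv.f (nat_lit 3914)])))
(Tr.nd (nat_lit 3917) (Tr.lf (Fc.ed (nat_lit 3916) (nat_lit 738) Col.g (nat_lit 1282) Dv.df))
(Tr.lf (Fc.ed (nat_lit 3917) (nat_lit 1282) Col.g (nat_lit 677) (Dv.wd (nat_lit 9) [Mv.f (nat_lit 1989), Mv.b (nat_lit 2145), Mv.f (nat_lit 3916)])))))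
(Tr.nd (nat_lit 3919) (Tr.lf (Fc.ed (nat_lit 3918) (nat_lit 1204) Col.gi (nat_lit 1283) Dv.df))
(Tr.nd (nat_lit 3920) (Tr.lf (Fc.ed (nat_lit 3919) (nat_lit 1283) Col.d (nat_lit 1277) (Dv.wd (nat_lit 48) [Mv.f (nat_lit 3904), Mv.b (nat_lit 3700), Mv.b (nat_lit 2333), Mv.f (nat_lit 2247), Mv.f (nat_lit 989), Mv.b (nat_lit 2380), Mv.b (nat_lit 3478), Mv.b (nat_lit 3707), Mv.f (nat_lit 3918)])))
(Tr.lf (Fc.ed (nat_lit 3920) (nat_lit 1283) Col.c (nat_lit 1198) (Dv.wd (nat_lit 14) [Mv.b (nat_lit 3742), Mv.f (nat_lit 3743), Mv.f (nat_lit 1592), Mv.b (nat_lit 3140), Mv.b (nat_lit 3211), Mv.b (nat_lit 3210), Mv.f (nat_lit 3476), Mv.b (nat_lit 3707), Mv.f (nat_lit 3918)]))))))))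
(Tr.nd (nat_lit 3931) (Tr.nd (nat_lit 3926) (Tr.nd (nat_lit 3923) (Tr.nd (nat_lit 3922) (Tr.lf (Fc.ed (nat_lit 3921) (nat_lit 1067) Col.g (nat_lit 1283) (Dv.wd (nat_lit 139) [Mv.f (nat_lit 3920), Mv.b (nat_lit 3742), Mv.f (nat_lit 3768), Mv.f (nat_lit 3769), Mv.b (nat_lit 3491), Mv.f (nat_lit 3029), Mv.f (nat_lit 3220), Mv.f (nat_lit 3266), Mv.f (nat_lit 3304)])))
(Tr.lf (Fc.ed (nat_lit 3922) (nat_lit 665) Col.b (nat_lit 1284) Dv.df)))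
(Tr.nd (nat_lit 3924) (Tr.lf (Fc.ed (nat_lit 3923) (nat_lit 1284) Col.e (nat_lit 638) (Dv.wd (nat_lit 52) [Mv.b (nat_lit 1880), Mv.b (nat_lit 2915), Mv.f (nat_lit 3922)])))
(Tr.nd (nat_lit 3925) (Tr.lf (Fc.ed (nat_lit 3924) (nat_lit 1284) Col.f (nat_lit 893) (Dv.wd (nat_lit 20) [Mv.f (nat_lit 2859), Mv.b (nat_lit 2911), Mv.f (nat_lit 3922)])))
(Tr.lf (Fc.ed (nat_lit 3925) (nat_lit 1284) Col.c (nat_lit 984) (Dv.wd (nat_lit 93) [Mv.b (nat_lit 3084), Mv.b (nat_lit 996), Mv.b (nat_lit 1526), Mv.b (nat_lit 2914), Mv.f (nat_lit 3922)]))))))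
(Tr.nd (nat_lit 3928) (Tr.nd (nat_lit 3927) (Tr.lf (Fc.ed (nat_lit 3926) (nat_lit 1242) Col.d (nat_lit 1285) Dv.df))
(Tr.lf (Fc.ed (nat_lit 3927) (nat_lit 1285) Col.c (nat_lit 1265) (Dv.wd (nat_lit 80) [Mv.b (nat_lit 3873), Mv.b (nat_lit 3639), Mv.b (nat_lit 2010), Mv.f (nat_lit 2013), Mv.f (nat_lit 2010), Mv.f (nat_lit 931), Mv.f (nat_lit 2960), Mv.b (nat_lit 3822), Mv.f (nat_lit 3926)]))))
(Tr.nd (nat_lit 3929) (Tr.lf (Fc.ed (nat_lit 3928) (nat_lit 1103) Col.f (nat_lit 1286) Dv.df))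
(Tr.nd (nat_lit 3930) (Tr.lf (Fc.ed (nat_lit 3929) (nat_lit 1286) Col.a (nat_lit 802) (Dv.wd (nat_lit 23) [Mv.b (nat_lit 2298), Mv.b (nat_lit 3406), Mv.f (nat_lit 3928)])))
(Tr.lf (Fc.ed (nat_lit 3930) (nat_lit 1022) Col.g (nat_lit 1287) Dv.df))))))
(Tr.nd (nat_lit 3936) (Tr.nd (nat_lit 3933) (Tr.nd (nat_lit 3932) (Tr.lf (Fc.ed (nat_lit 3931) (nat_lit 1287) Col.g (nat_lit 1022) (Dv.wd (nat_lit 9) [Mv.f (nat_lit 3194), Mv.f (nat_lit 3193), Mv.f (nat_lit 3930)])))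
(Tr.lf (Fc.ed (nat_lit 3932) (nat_lit 722) Col.e (nat_lit 1288) Dv.df)))
(Tr.nd (nat_lit 3934) (Tr.lf (Fc.ed (nat_lit 3933) (nat_lit 1288) Col.d (nat_lit 1258) (Dv.wd (nat_lit 59) [Mv.b (nat_lit 3857), Mv.f (nat_lit 3032), Mv.b (nat_lit 1368), Mv.b (nat_lit 2110), Mv.f (nat_lit 3932)])))
(Tr.nd (nat_lit 3935) (Tr.lf (Fc.ed (nat_lit 3934) (nat_lit 806) Col.b (nat_lit 1289) Dv.df))
(Tr.lf (Fc.ed (nat_lit 3935) (nat_lit 1289) Col.f (nat_lit 1111) (Dv.wd (nat_lit 20) [Mv.b (nat_lit 3429), Mv.b (nat_lit 2310), Mv.f (nat_lit 3934)]))))))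
(Tr.nd (nat_lit 3939) (Tr.nd (nat_lit 3937) (Tr.lf (Fc.ed (nat_lit 3936) (nat_lit 1265) Col.f (nat_lit 1290) Dv.df))
(Tr.nd (nat_lit 3938) (Tr.lf (Fc.ed (nat_lit 3937) (nat_lit 1290) Col.d (nat_lit 1167) (Dv.wd (nat_lit 21) [Mv.b (nat_lit 3641), Mv.f (nat_lit 3873), Mv.f (nat_lit 3936)])))
(Tr.lf (Fc.ed (nat_lit 3938) (nat_lit 1290) Col.a (nat_lit 1285) (Dv.wd (nat_lit 46) [Mv.f (nat_lit 3927), Mv.b (nat_lit 3873), Mv.b (nat_lit 3639), Mv.b (nat_lit 2010), Mv.f (nat_lit 2013), Mv.f (nat_lit 2010), Mv.f (nat_lit 3639), Mv.f (nat_lit 3873), Mv.f (nat_lit 3936)])))))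
(Tr.nd (nat_lit 3940) (Tr.lf (Fc.ed (nat_lit 3939) (nat_lit 1265) Col.b (nat_lit 1290) (Dv.wd (nat_lit 126) [Mv.f (nat_lit 3937), Mv.b (nat_lit 3642), Mv.f (nat_lit 3873)])))
(Tr.nd (nat_lit 3941) (Tr.lf (Fc.ed (nat_lit 3940) (nat_lit 1025) Col.c (nat_lit 1291) Dv.df))
(Tr.lf (Fc.ed (nat_lit 3941) (nat_lit 1281) Col.c (nat_lit 1292) Dv.df)))))))))))))
(Tr.nd (nat_lit 4599) (Tr.nd (nat_lit 4270) (Tr.nd (nat_lit 4106) (Tr.nd (nat_lit 4024) (Tr.nd (nat_lit 3983) (Tr.nd (nat_lit 3962) (Tr.nd (nat_lit 3952) (Tr.nd (nat_lit 3947) (Tr.nd (nat_lit 3944) (Tr.nd (nat_lit 3943) (Tr.lf (Fc.ed (nat_lit 3942) (nat_lit 1292) Col.g (nat_lit 1153) (Dv.wd (nat_lit 105) [Mv.f (nat_lit 3555), Mv.f (nat_lit 3551), Mv.b (nat_lit 3660), Mv.f (nat_lit 3738), Mv.f (nat_lit 3737), Mv.b (nat_lit 3735), Mv.f (nat_lit 3307),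 Mv.f (nat_lit 3305), Mv.b (nat_lit 3915), Mv.f (nat_lit 3941)])))
(Tr.lf (Fc.ed (nat_lit 3943) (nat_lit 1281) Col.b (nat_lit 1281) (Dv.wd (nat_lit 104) [Mv.f (nat_lit 3941), Mv.f (nat_lit 3942), Mv.f (nat_lit 3555), Mv.f (nat_lit 3551), Mv.b (nat_lit 3660), Mv.f (nat_lit 3737), Mv.b (nat_lit 3735), Mv.f (nat_lit 3307), Mv.f (nat_lit 3305), Mv.b (nat_lit 3915)]))))
(Tr.nd (nat_lit 3945) (Tr.lf (Fc.ed (nat_lit 3944) (nat_lit 1292) Col.gi (nat_lit 726) (Dv.wd (nat_lit 88) [Mv.f (nat_lit 2117), Mv.f (nat_lit 1889), Mv.f (nat_lit 1735), Mv.f (nat_lit 1896), Mv.f (nat_lit 1899), Mv.f (nat_lit 1900), Mv.b (nat_lit 1745), Mv.f (nat_lit 3914), Mv.f (nat_lit 3943), Mv.f (nat_lit 3941)])))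
(Tr.nd (nat_lit 3946) (Tr.lf (Fc.ed (nat_lit 3945) (nat_lit 892) Col.e (nat_lit 1293) Dv.df))
(Tr.lf (Fc.ed (nat_lit 3946) (nat_lit 1293) Col.b (nat_lit 1047) (Dv.wd (nat_lit 49) [Mv.b (nat_lit 3251), Mv.b (nat_lit 2855), Mv.f (nat_lit 3945)]))))))
(Tr.nd (nat_lit 3949) (Tr.nd (nat_lit 3948) (Tr.lf (Fc.ed (nat_lit 3947) (nat_lit 608) Col.c (nat_lit 1294) Dv.df))
(Tr.lf (Fc.ed (nat_lit 3948) (nat_lit 1294) Col.f (nat_lit 1294) (Dv.wd (nat_lit 26) [Mv.b (nat_lit 3947), Mv.f (nat_lit 1585), Mv.f (nat_lit 3947)]))))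
(Tr.nd (nat_lit 3950) (Tr.lf (Fc.ed (nat_lit 3949) (nat_lit 1217) Col.g (nat_lit 1295) Dv.df))
(Tr.nd (nat_lit 3951) (Tr.lf (Fc.ed (nat_lit 3950) (nat_lit 1295) Col.g (nat_lit 868) (Dv.wd (nat_lit 9) [Mv.f (nat_lit 2812), Mv.b (nat_lit 3750), Mv.f (nat_lit 3949)])))
(Tr.lf (Fc.ed (nat_lit 3951) (nat_lit 1101) Col.f (nat_lit 1295) (Dv.wd (nat_lit 10) [Mv.f (nat_lit 3950), Mv.f (nat_lit 2813), Mv.f (nat_lit 3398)])))))))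
(Tr.nd (nat_lit 3957) (Tr.nd (nat_lit 3954) (Tr.nd (nat_lit 3953) (Tr.lf (Fc.ed (nat_lit 3952) (nat_lit 1115) Col.b (nat_lit 1296) Dv.df))
(Tr.lf (Fc.ed (nat_lit 3953) (nat_lit 1296) Col.e (nat_lit 1028) (Dv.wd (nat_lit 52) [Mv.b (nat_lit 3207), Mv.b (nat_lit 3440), Mv.f (nat_lit 3952)]))))
(Tr.nd (nat_lit 3955) (Tr.lf (Fc.ed (nat_lit 3954) (nat_lit 869) Col.b (nat_lit 1297) Dv.df))
(Tr.nd (nat_lit 3956) (Tr.lf (Fc.ed (nat_lit 3955) (nat_lit 1297) Col.d (nat_lit 664) (Dv.wd (nat_lit 58) [Mv.f (nat_lit 1953), Mv.f (nat_lit 2458), Mv.f (nat_lit 3954)])))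
(Tr.lf (Fc.ed (nat_lit 3956) (nat_lit 1297) Col.f (nat_lit 1162) (Dv.wd (nat_lit 20) [Mv.f (nat_lit 3581), Mv.f (nat_lit 2466), Mv.f (nat_lit 3954)]))))))
(Tr.nd (nat_lit 3959) (Tr.nd (nat_lit 3958) (Tr.lf (Fc.ed (nat_lit 3957) (nat_lit 632) Col.b (nat_lit 1298) Dv.df))
(Tr.lf (Fc.ed (nat_lit 3958) (nat_lit 1298) Col.d (nat_lit 1080) (Dv.wd (nat_lit 58) [Mv.b (nat_lit 3336), Mv.f (nat_lit 1742), Mv.f (nat_lit 3957)]))))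
(Tr.nd (nat_lit 3960) (Tr.lf (Fc.ed (nat_lit 3959) (nat_lit 1291) Col.b (nat_lit 1299) Dv.df))
(Tr.nd (nat_lit 3961) (Tr.lf (Fc.ed (nat_lit 3960) (nat_lit 726) Col.d (nat_lit 1300) Dv.df))
(Tr.lf (Fc.ed (nat_lit 3961) (nat_lit 1300) Col.b (nat_lit 822) (Dv.wd (nat_lit 37) [Mv.b (nat_lit 2350), Mv.f (nat_lit 2114), Mv.f (nat_lit 3960)]))))))))
(Tr.nd (nat_lit 3972) (Tr.nd (nat_lit 3967) (Tr.nd (nat_lit 3964) (Tr.nd (nat_lit 3963) (Tr.lf (Fc.ed (nat_lit 3962) (nat_lit 1083) Col.a (nat_lit 1301) Dv.df))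
(Tr.lf (Fc.ed (nat_lit 3963) (nat_lit 615) Col.b (nat_lit 1302) Dv.df)))
(Tr.nd (nat_lit 3965) (Tr.lf (Fc.ed (nat_lit 3964) (nat_lit 1302) Col.f (nat_lit 1229) (Dv.wd (nat_lit 20) [Mv.b (nat_lit 3791), Mv.b (nat_lit 3511), Mv.f (nat_lit 3963)])))
(Tr.nd (nat_lit 3966) (Tr.lf (Fc.ed (nat_lit 3965) (nat_lit 776) Col.c (nat_lit 1303) Dv.df))
(Tr.lf (Fc.ed (nat_lit 3966) (nat_lit 639) Col.a (nat_lit 1304) Dv.df)))))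
(Tr.nd (nat_lit 3969) (Tr.nd (nat_lit 3968) (Tr.lf (Fc.ed (nat_lit 3967) (nat_lit 1304) Col.f (nat_lit 731) (Dv.wd (nat_lit 35) [Mv.b (nat_lit 3061), Mv.b (nat_lit 3060), Mv.f (nat_lit 3966)])))
(Tr.lf (Fc.ed (nat_lit 3968) (nat_lit 1111) Col.c (nat_lit 1305) Dv.df)))
(Tr.nd (nat_lit 3970) (Tr.lf (Fc.ed (nat_lit 3969) (nat_lit 1305) Col.e (nat_lit 1305) (Dv.wd (nat_lit 25) [Mv.b (nat_lit 3968), Mv.f (nat_lit 3430), Mv.f (nat_lit 3968)])))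
(Tr.nd (nat_lit 3971) (Tr.lf (Fc.ed (nat_lit 3970) (nat_lit 933) Col.g (nat_lit 1306) Dv.df))
(Tr.lf (Fc.ed (nat_lit 3971) (nat_lit 1306) Col.b (nat_lit 1213) (Dv.wd (nat_lit 104) [Mv.b (nat_lit 3737), Mv.b (nat_lit 3659), Mv.f (nat_lit 2117), Mv.f (nat_lit 1889), Mv.f (nat_lit 1608), Mv.f (nat_lit 890), Mv.f (nat_lit 1912), Mv.f (nat_lit 1914), Mv.f (nat_lit 2958), Mv.f (nat_lit 3970)])))))))
(Tr.nd (nat_lit 3977) (Tr.nd (nat_lit 3974) (Tr.nd (nat_lit 3973) (Tr.lf (Fc.ed (nat_lit 3972) (nat_lit 1306) Col.c (nat_lit 1306) (Dv.wd (nat_lit 124) [Mv.f (nat_lit 3971), Mv.b (nat_lit 3735), Mv.f (nat_lit 3307), Mv.f (nat_lit 3258), Mv.f (nat_lit 1254), Mv.b (nat_lit 1251), Mv.b (nat_lit 957), Mv.f (nat_lit 2958), Mv.f (nat_lit 2959), Mv.f (nat_lit 3970)])))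
(Tr.lf (Fc.ed (nat_lit 3973) (nat_lit 1306) Col.g (nat_lit 1158) (Dv.wd (nat_lit 105) [Mv.f (nat_lit 3570), Mv.b (nat_lit 3568), Mv.b (nat_lit 1165), Mv.f (nat_lit 887), Mv.f (nat_lit 890), Mv.f (nat_lit 1912), Mv.f (nat_lit 1914), Mv.f (nat_lit 2958), Mv.f (nat_lit 3970), Mv.f (nat_lit 3972)]))))
(Tr.nd (nat_lit 3975) (Tr.lf (Fc.ed (nat_lit 3974) (nat_lit 1303) Col.gi (nat_lit 1307) Dv.df))
(Tr.nd (nat_lit 3976) (Tr.lf (Fc.ed (nat_lit 3975) (nat_lit 1212) Col.b (nat_lit 1308) Dv.df))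
(Tr.lf (Fc.ed (nat_lit 3976) (nat_lit 1308) Col.e (nat_lit 1298) (Dv.wd (nat_lit 52) [Mv.b (nat_lit 3957), Mv.f (nat_lit 3732), Mv.f (nat_lit 3975)]))))))
(Tr.nd (nat_lit 3980) (Tr.nd (nat_lit 3978) (Tr.lf (Fc.ed (nat_lit 3977) (nat_lit 929) Col.a (nat_lit 1309) Dv.df))
(Tr.nd (nat_lit 3979) (Tr.lf (Fc.ed (nat_lit 3978) (nat_lit 1309) Col.b (nat_lit 1309) (Dv.wd (nat_lit 65) [Mv.b (nat_lit 3977), Mv.f (nat_lit 2950), Mv.f (nat_lit 581), Mv.b (nat_lit 2950), Mv.f (nat_lit 3977)])))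
(Tr.lf (Fc.ed (nat_lit 3979) (nat_lit 501) Col.e (nat_lit 1310) Dv.df))))
(Tr.nd (nat_lit 3981) (Tr.lf (Fc.ed (nat_lit 3980) (nat_lit 1253) Col.f (nat_lit 1311) Dv.df))
(Tr.nd (nat_lit 3982) (Tr.lf (Fc.ed (nat_lit 3981) (nat_lit 480) Col.c (nat_lit 1312) Dv.df))
(Tr.lf (Fc.ed (nat_lit 3982) (nat_lit 1207) Col.a (nat_lit 1313) Dv.df))))))))
(Tr.nd (nat_lit 4003) (Tr.nd (nat_lit 3993) (Tr.nd (nat_lit 3988) (Tr.nd (nat_lit 3985) (Tr.nd (nat_lit 3984) (Tr.lf (Fc.ed (nat_lit 3983) (nat_lit 1313) Col.f (nat_lit 1224) (Dv.wd (nat_lit 10) [Mv.f (nat_lit 3777), Mv.f (nat_lit 3714), Mv.f (nat_lit 3982)])))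
(Tr.lf (Fc.ed (nat_lit 3984) (nat_lit 1115) Col.c (nat_lit 1314) Dv.df)))
(Tr.nd (nat_lit 3986) (Tr.lf (Fc.ed (nat_lit 3985) (nat_lit 906) Col.d (nat_lit 1315) Dv.df))
(Tr.nd (nat_lit 3987) (Tr.lf (Fc.ed (nat_lit 3986) (nat_lit 1315) Col.b (nat_lit 923) (Dv.wd (nat_lit 37) [Mv.f (nat_lit 2937), Mv.f (nat_lit 2881), Mv.f (nat_lit 3985)])))
(Tr.lf (Fc.ed (nat_lit 3987) (nat_lit 1315) Col.f (nat_lit 1203) (Dv.wd (nat_lit 11) [Mv.b (nat_lit 3704), Mv.b (nat_lit 2892), Mv.f (nat_lit 3985)]))))))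
(Tr.nd (nat_lit 3990) (Tr.nd (nat_lit 3989) (Tr.lf (Fc.ed (nat_lit 3988) (nat_lit 355) Col.b (nat_lit 1316) Dv.df))
(Tr.lf (Fc.ed (nat_lit 3989) (nat_lit 1316) Col.d (nat_lit 1166) (Dv.wd (nat_lit 58) [Mv.f (nat_lit 3589), Mv.b (nat_lit 852), Mv.f (nat_lit 3988)]))))
(Tr.nd (nat_lit 3991) (Tr.lf (Fc.ed (nat_lit 3990) (nat_lit 1316) Col.c (nat_lit 1289) (Dv.wd (nat_lit 93) [Mv.b (nat_lit 3934), Mv.f (nat_lit 2311), Mv.f (nat_lit 562), Mv.f (nat_lit 846), Mv.f (nat_lit 3988)])))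
(Tr.nd (nat_lit 3992) (Tr.lf (Fc.ed (nat_lit 3991) (nat_lit 1305) Col.f (nat_lit 1316) (Dv.wd (nat_lit 64) [Mv.f (nat_lit 3990), Mv.f (nat_lit 3935), Mv.f (nat_lit 3968)])))
(Tr.lf (Fc.ed (nat_lit 3992) (nat_lit 1243) Col.d (nat_lit 1305) (Dv.wd (nat_lit 90) [Mv.f (nat_lit 3991), Mv.f (nat_lit 3989), Mv.b (nat_lit 3825)])))))))
(Tr.nd (nat_lit 3998) (Tr.nd (nat_lit 3995) (Tr.nd (nat_lit 3994) (Tr.lf (Fc.ed (nat_lit 3993) (nat_lit 1163) Col.b (nat_lit 1317) Dv.df))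
(Tr.lf (Fc.ed (nat_lit 3994) (nat_lit 1317) Col.e (nat_lit 929) (Dv.wd (nat_lit 52) [Mv.f (nat_lit 2950), Mv.f (nat_lit 3582), Mv.f (nat_lit 3993)]))))
(Tr.nd (nat_lit 3996) (Tr.lf (Fc.ed (nat_lit 3995) (nat_lit 866) Col.a (nat_lit 1318) Dv.df))
(Tr.nd (nat_lit 3997) (Tr.lf (Fc.ed (nat_lit 3996) (nat_lit 1318) Col.f (nat_lit 1272) (Dv.wd (nat_lit 10) [Mv.b (nat_lit 3889), Mv.b (nat_lit 3731), Mv.f (nat_lit 3995)])))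
(Tr.lf (Fc.ed (nat_lit 3997) (nat_lit 718) Col.a (nat_lit 1272) (Dv.wd (nat_lit 79) [Mv.b (nat_lit 3996), Mv.b (nat_lit 3995), Mv.f (nat_lit 2454)]))))))
(Tr.nd (nat_lit 4000) (Tr.nd (nat_lit 3999) (Tr.lf (Fc.ed (nat_lit 3998) (nat_lit 1272) Col.e (nat_lit 1272) (Dv.wd (nat_lit 56) [Mv.b (nat_lit 3997), Mv.f (nat_lit 2099), Mv.f (nat_lit 3997)])))
(Tr.lf (Fc.ed (nat_lit 3999) (nat_lit 782) Col.b (nat_lit 1319) Dv.df)))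
(Tr.nd (nat_lit 4001) (Tr.lf (Fc.ed (nat_lit 4000) (nat_lit 1135) Col.gi (nat_lit 1320) Dv.df))
(Tr.nd (nat_lit 4002) (Tr.lf (Fc.ed (nat_lit 4001) (nat_lit 1320) Col.gi (nat_lit 480) (Dv.wd (nat_lit 24) [Mv.f (nat_lit 1263), Mv.f (nat_lit 3484), Mv.f (nat_lit 4000)])))
(Tr.lf (Fc.ed (nat_lit 4002) (nat_lit 917) Col.b (nat_lit 1321) Dv.df)))))))
(Tr.nd (nat_lit 4013) (Tr.nd (nat_lit 4008) (Tr.nd (nat_lit 4005) (Tr.nd (nat_lit 4004) (Tr.lf (Fc.ed (nat_lit 4003) (nat_lit 842) Col.gi (nat_lit 1322) Dv.df))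
(Tr.lf (Fc.ed (nat_lit 4004) (nat_lit 1322) Col.gi (nat_lit 588) (Dv.wd (nat_lit 24) [Mv.f (nat_lit 1724), Mv.b (nat_lit 2409), Mv.f (nat_lit 4003)]))))
(Tr.nd (nat_lit 4006) (Tr.lf (Fc.ed (nat_lit 4005) (nat_lit 1193) Col.c (nat_lit 1323) Dv.df))
(Tr.nd (nat_lit 4007) (Tr.lf (Fc.ed (nat_lit 4006) (nat_lit 1323) Col.a (nat_lit 1323) (Dv.wd (nat_lit 19) [Mv.b (nat_lit 4005), Mv.f (nat_lit 3680), Mv.f (nat_lit 4005)])))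
(Tr.lf (Fc.ed (nat_lit 4007) (nat_lit 984) Col.a (nat_lit 1324) Dv.df)))))
(Tr.nd (nat_lit 4010) (Tr.nd (nat_lit 4009) (Tr.lf (Fc.ed (nat_lit 4008) (nat_lit 1260) Col.f (nat_lit 1325) Dv.df))
(Tr.lf (Fc.ed (nat_lit 4009) (nat_lit 1325) Col.b (nat_lit 549) (Dv.wd (nat_lit 66) [Mv.b (nat_lit 1590), Mv.f (nat_lit 3860), Mv.f (nat_lit 4008)]))))
(Tr.nd (nat_lit 4011) (Tr.lf (Fc.ed (nat_lit 4010) (nat_lit 1256) Col.b (nat_lit 1326) Dv.df))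
(Tr.nd (nat_lit 4012) (Tr.lf (Fc.ed (nat_lit 4011) (nat_lit 1326) Col.e (nat_lit 790) (Dv.wd (nat_lit 52) [Mv.f (nat_lit 2264), Mv.f (nat_lit 3855), Mv.f (nat_lit 4010)])))
(Tr.lf (Fc.ed (nat_lit 4012) (nat_lit 608) Col.gi (nat_lit 1327) Dv.df))))))
(Tr.nd (nat_lit 4018) (Tr.nd (nat_lit 4015) (Tr.nd (nat_lit 4014) (Tr.lf (Fc.ed (nat_lit 4013) (nat_lit 1327) Col.gi (nat_lit 1175) (Dv.wd (nat_lit 24) [Mv.f (nat_lit 3628), Mv.f (nat_lit 3626), Mv.f (nat_lit 4012)])))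
(Tr.lf (Fc.ed (nat_lit 4014) (nat_lit 1062) Col.e (nat_lit 1328) Dv.df)))
(Tr.nd (nat_lit 4016) (Tr.lf (Fc.ed (nat_lit 4015) (nat_lit 1289) Col.gi (nat_lit 1329) Dv.df))
(Tr.nd (nat_lit 4017) (Tr.lf (Fc.ed (nat_lit 4016) (nat_lit 644) Col.g (nat_lit 1330) Dv.df))
(Tr.lf (Fc.ed (nat_lit 4017) (nat_lit 1330) Col.g (nat_lit 752) (Dv.wd (nat_lit 9) [Mv.f (nat_lit 2177), Mv.b (nat_lit 2176), Mv.f (nat_lit 4016)]))))))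
(Tr.nd (nat_lit 4021) (Tr.nd (nat_lit 4019) (Tr.lf (Fc.ed (nat_lit 4018) (nat_lit 1295) Col.d (nat_lit 1330) (Dv.wd (nat_lit 51) [Mv.f (nat_lit 4017), Mv.f (nat_lit 2178), Mv.f (nat_lit 2625), Mv.b (nat_lit 2626), Mv.f (nat_lit 464), Mv.f (nat_lit 2731), Mv.b (nat_lit 2684), Mv.f (nat_lit 3747), Mv.f (nat_lit 3949)])))
(Tr.nd (nat_lit 4020) (Tr.lf (Fc.ed (nat_lit 4019) (nat_lit 1087) Col.d (nat_lit 1331) Dv.df))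
(Tr.lf (Fc.ed (nat_lit 4020) (nat_lit 1331) Col.a (nat_lit 1331) (Dv.wd (nat_lit 8) [Mv.b (nat_lit 4019), Mv.f (nat_lit 3357), Mv.f (nat_lit 4019)])))))
(Tr.nd (nat_lit 4022) (Tr.lf (Fc.ed (nat_lit 4021) (nat_lit 1280) Col.e (nat_lit 1332) Dv.df))
(Tr.nd (nat_lit 4023) (Tr.lf (Fc.ed (nat_lit 4022) (nat_lit 1332) Col.d (nat_lit 1332) (Dv.wd (nat_lit 59) [Mv.b (nat_lit 4021), Mv.b (nat_lit 3910), Mv.f (nat_lit 3913), Mv.f (nat_lit 3910), Mv.f (nat_lit 4021)])))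
(Tr.lf (Fc.ed (nat_lit 4023) (nat_lit 1332) Col.g (nat_lit 1192) (Dv.wd (nat_lit 75) [Mv.b (nat_lit 3677), Mv.b (nat_lit 3561), Mv.f (nat_lit 3544), Mv.f (nat_lit 1168), Mv.b (nat_lit 1806), Mv.b (nat_lit 3602), Mv.f (nat_lit 3603), Mv.b (nat_lit 3805), Mv.f (nat_lit 3910), Mv.f (nat_lit 4021)]))))))))))
(Tr.nd (nat_lit 4065) (Tr.nd (nat_lit 4044) (Tr.nd (nat_lit 4034) (Tr.nd (nat_lit 4029) (Tr.nd (nat_lit 4026) (Tr.nd (nat_lit 4025) (Tr.lf (Fc.ed (nat_lit 4024) (nat_lit 1332) Col.gi (nat_lit 1227) (Dv.wd (nat_lit 71) [Mv.b (nat_lit 3784), Mv.f (nat_lit 3669), Mv.b (nat_lit 3381), Mv.f (nat_lit 3643), Mv.b (nat_lit 3668), Mv.b (nat_lit 3665), Mv.f (nat_lit 3367), Mv.b (nat_lit 3911), Mv.f (nat_lit 4021), Mv.f (nat_lit 4022)])))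
(Tr.lf (Fc.ed (nat_lit 4025) (nat_lit 1215) Col.b (nat_lit 1333) Dv.df)))
(Tr.nd (nat_lit 4027) (Tr.lf (Fc.ed (nat_lit 4026) (nat_lit 1333) Col.d (nat_lit 1260) (Dv.wd (nat_lit 58) [Mv.b (nat_lit 3860), Mv.b (nat_lit 3743), Mv.f (nat_lit 4025)])))
(Tr.nd (nat_lit 4028) (Tr.lf (Fc.ed (nat_lit 4027) (nat_lit 767) Col.b (nat_lit 1334) Dv.df))
(Tr.lf (Fc.ed (nat_lit 4028) (nat_lit 1334) Col.d (nat_lit 702) (Dv.wd (nat_lit 58) [Mv.b (nat_lit 2060), Mv.b (nat_lit 2212), Mv.f (nat_lit 4027)]))))))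
(Tr.nd (nat_lit 4031) (Tr.nd (nat_lit 4030) (Tr.lf (Fc.ed (nat_lit 4029) (nat_lit 1334) Col.f (nat_lit 1239) (Dv.wd (nat_lit 20) [Mv.b (nat_lit 3810), Mv.f (nat_lit 2445), Mv.f (nat_lit 4027)])))
(Tr.lf (Fc.ed (nat_lit 4030) (nat_lit 1334) Col.g (nat_lit 1191) (Dv.wd (nat_lit 122) [Mv.f (nat_lit 3675), Mv.b (nat_lit 3902), Mv.b (nat_lit 3905), Mv.b (nat_lit 3631), Mv.f (nat_lit 2108), Mv.b (nat_lit 2106), Mv.f (nat_lit 3056), Mv.f (nat_lit 3058), Mv.b (nat_lit 2456), Mv.f (nat_lit 4027)]))))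
(Tr.nd (nat_lit 4032) (Tr.lf (Fc.ed (nat_lit 4031) (nat_lit 1334) Col.gi (nat_lit 742) (Dv.wd (nat_lit 100) [Mv.f (nat_lit 2154), Mv.f (nat_lit 3056), Mv.b (nat_lit 3219), Mv.b (nat_lit 3217), Mv.f (nat_lit 2169), Mv.f (nat_lit 2249), Mv.b (nat_lit 3132), Mv.f (nat_lit 3134), Mv.b (nat_lit 2456), Mv.f (nat_lit 4027)])))
(Tr.nd (nat_lit 4033) (Tr.lf (Fc.ed (nat_lit 4032) (nat_lit 1244) Col.c (nat_lit 1335) Dv.df))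
(Tr.lf (Fc.ed (nat_lit 4033) (nat_lit 1335) Col.a (nat_lit 1335) (Dv.wd (nat_lit 19) [Mv.b (nat_lit 4032), Mv.f (nat_lit 3829), Mv.f (nat_lit 4032)])))))))
(Tr.nd (nat_lit 4039) (Tr.nd (nat_lit 4036) (Tr.nd (nat_lit 4035) (Tr.lf (Fc.ed (nat_lit 4034) (nat_lit 1335) Col.f (nat_lit 1323) (Dv.wd (nat_lit 26) [Mv.b (nat_lit 4005), Mv.b (nat_lit 3827), Mv.f (nat_lit 4032)])))
(Tr.lf (Fc.ed (nat_lit 4035) (nat_lit 1335) Col.d (nat_lit 1323) (Dv.wd (nat_lit 147) [Mv.b (nat_lit 4005), Mv.b (nat_lit 3679), Mv.b (nat_lit 1042), Mv.f (nat_lit 2772), Mv.f (nat_lit 1042), Mv.f (nat_lit 3679), Mv.b (nat_lit 3827), Mv.f (nat_lit 3829), Mv.f (nat_lit 4032)]))))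
(Tr.nd (nat_lit 4037) (Tr.lf (Fc.ed (nat_lit 4036) (nat_lit 1165) Col.d (nat_lit 1336) Dv.df))
(Tr.nd (nat_lit 4038) (Tr.lf (Fc.ed (nat_lit 4037) (nat_lit 984) Col.d (nat_lit 1337) Dv.df))
(Tr.lf (Fc.ed (nat_lit 4038) (nat_lit 1337) Col.b (nat_lit 865) (Dv.wd (nat_lit 37) [Mv.b (nat_lit 2450), Mv.f (nat_lit 3084), Mv.f (nat_lit 4037)]))))))
(Tr.nd (nat_lit 4041) (Tr.nd (nat_lit 4040) (Tr.lf (Fc.ed (nat_lit 4039) (nat_lit 1337) Col.f (nat_lit 978) (Dv.wd (nat_lit 11) [Mv.b (nat_lit 3069), Mv.b (nat_lit 3086), Mv.f (nat_lit 4037)])))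
(Tr.lf (Fc.ed (nat_lit 4040) (nat_lit 1267) Col.f (nat_lit 1338) Dv.df)))
(Tr.nd (nat_lit 4042) (Tr.lf (Fc.ed (nat_lit 4041) (nat_lit 1338) Col.b (nat_lit 148) (Dv.wd (nat_lit 66) [Mv.f (nat_lit 390), Mv.f (nat_lit 3876), Mv.f (nat_lit 4040)])))
(Tr.nd (nat_lit 4043) (Tr.lf (Fc.ed (nat_lit 4042) (nat_lit 1290) Col.c (nat_lit 1339) Dv.df))
(Tr.lf (Fc.ed (nat_lit 4043) (nat_lit 1339) Col.a (nat_lit 1265) (Dv.wd (nat_lit 19) [Mv.b (nat_lit 3927), Mv.b (nat_lit 3938), Mv.f (nat_lit 4042)]))))))))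
(Tr.nd (nat_lit 4054) (Tr.nd (nat_lit 4049) (Tr.nd (nat_lit 4046) (Tr.nd (nat_lit 4045) (Tr.lf (Fc.ed (nat_lit 4044) (nat_lit 1339) Col.f (nat_lit 1285) (Dv.wd (nat_lit 26) [Mv.f (nat_lit 3927), Mv.f (nat_lit 3936), Mv.f (nat_lit 4042)])))
(Tr.lf (Fc.ed (nat_lit 4045) (nat_lit 1339) Col.d (nat_lit 1234) (Dv.wd (nat_lit 44) [Mv.b (nat_lit 3801), Mv.f (nat_lit 2865), Mv.f (nat_lit 2303), Mv.b (nat_lit 2865), Mv.b (nat_lit 2962), Mv.b (nat_lit 2960), Mv.f (nat_lit 3590), Mv.b (nat_lit 3937), Mv.f (nat_lit 4042)]))))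
(Tr.nd (nat_lit 4047) (Tr.lf (Fc.ed (nat_lit 4046) (nat_lit 758) Col.e (nat_lit 1340) Dv.df))
(Tr.nd (nat_lit 4048) (Tr.lf (Fc.ed (nat_lit 4047) (nat_lit 1184) Col.d (nat_lit 1341) Dv.df))
(Tr.lf (Fc.ed (nat_lit 4048) (nat_lit 1341) Col.a (nat_lit 1341) (Dv.wd (nat_lit 8) [Mv.b (nat_lit 4047), Mv.f (nat_lit 3721), Mv.f (nat_lit 4047)]))))))
(Tr.nd (nat_lit 4051) (Tr.nd (nat_lit 4050) (Tr.lf (Fc.ed (nat_lit 4049) (nat_lit 1341) Col.c (nat_lit 1331) (Dv.wd (nat_lit 80) [Mv.b (nat_lit 4019), Mv.b (nat_lit 3356), Mv.f (nat_lit 2508), Mv.b (nat_lit 3229), Mv.b (nat_lit 3271), Mv.b (nat_lit 3773), Mv.f (nat_lit 3774), Mv.b (nat_lit 3775), Mv.f (nat_lit 4047)])))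
(Tr.lf (Fc.ed (nat_lit 4050) (nat_lit 1341) Col.g (nat_lit 1323) (Dv.wd (nat_lit 69) [Mv.b (nat_lit 4035), Mv.b (nat_lit 4032), Mv.f (nat_lit 3828), Mv.f (nat_lit 2905), Mv.b (nat_lit 3559), Mv.f (nat_lit 3557), Mv.f (nat_lit 3387), Mv.f (nat_lit 3652), Mv.f (nat_lit 4047)]))))
(Tr.nd (nat_lit 4052) (Tr.lf (Fc.ed (nat_lit 4051) (nat_lit 1341) Col.gi (nat_lit 1335) (Dv.wd (nat_lit 50) [Mv.b (nat_lit 4032), Mv.b (nat_lit 3826), Mv.b (nat_lit 3693), Mv.b (nat_lit 3378), Mv.f (nat_lit 947), Mv.f (nat_lit 971), Mv.f (nat_lit 974), Mv.b (nat_lit 3653), Mv.f (nat_lit 4047)])))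
(Tr.nd (nat_lit 4053) (Tr.lf (Fc.ed (nat_lit 4052) (nat_lit 1195) Col.g (nat_lit 1342) Dv.df))
(Tr.lf (Fc.ed (nat_lit 4053) (nat_lit 721) Col.e (nat_lit 1343) Dv.df))))))
(Tr.nd (nat_lit 4059) (Tr.nd (nat_lit 4056) (Tr.nd (nat_lit 4055) (Tr.lf (Fc.ed (nat_lit 4054) (nat_lit 1295) Col.e (nat_lit 1344) Dv.df))
(Tr.lf (Fc.ed (nat_lit 4055) (nat_lit 1344) Col.gi (nat_lit 1037) (Dv.wd (nat_lit 132) [Mv.b (nat_lit 3227), Mv.f (nat_lit 3393), Mv.f (nat_lit 3468), Mv.f (nat_lit 3469), Mv.b (nat_lit 1786), Mv.f (nat_lit 1789), Mv.b (nat_lit 2178), Mv.b (nat_lit 4017), Mv.b (nat_lit 4018), Mv.f (nat_lit 4054)]))))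
(Tr.nd (nat_lit 4057) (Tr.lf (Fc.ed (nat_lit 4056) (nat_lit 1332) Col.c (nat_lit 1344) (Dv.wd (nat_lit 81) [Mv.f (nat_lit 4055), Mv.b (nat_lit 3271), Mv.f (nat_lit 3460), Mv.b (nat_lit 3540), Mv.f (nat_lit 3867), Mv.b (nat_lit 3864), Mv.f (nat_lit 3559), Mv.b (nat_lit 3678), Mv.b (nat_lit 4023)])))
(Tr.nd (nat_lit 4058) (Tr.lf (Fc.ed (nat_lit 4057) (nat_lit 1295) Col.c (nat_lit 1280) (Dv.wd (nat_lit 109) [Mv.f (nat_lit 4021), Mv.f (nat_lit 4056), Mv.b (nat_lit 4054)])))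
(Tr.lf (Fc.ed (nat_lit 4058) (nat_lit 1171) Col.gi (nat_lit 887) (Dv.wd (nat_lit 50) [Mv.b (nat_lit 2845), Mv.f (nat_lit 262), Mv.b (nat_lit 1894), Mv.f (nat_lit 4016), Mv.b (nat_lit 4018), Mv.f (nat_lit 4057), Mv.b (nat_lit 3910), Mv.f (nat_lit 3805), Mv.b (nat_lit 3603)]))))))
(Tr.nd (nat_lit 4062) (Tr.nd (nat_lit 4060) (Tr.lf (Fc.al (nat_lit 4059) (nat_lit 1180) (nat_lit 798) (Dv.wd (nat_lit 110) [Mv.b (nat_lit 2287), Mv.f (nat_lit 3685), Mv.f (nat_lit 3761), Mv.b (nat_lit 3393), Mv.b (nat_lit 3950), Mv.f (nat_lit 4057), Mv.f (nat_lit 3911), Mv.b (nat_lit 3367), Mv.f (nat_lit 3665), Mv.f (nat_lit 3668)])))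
(Tr.nd (nat_lit 4061) (Tr.lf (Fc.ed (nat_lit 4060) (nat_lit 798) Col.g (nat_lit 1181) (Dv.wd (nat_lit 129) [Mv.b (nat_lit 3649), Mv.f (nat_lit 4059)])))
(Tr.lf (Fc.ed (nat_lit 4061) (nat_lit 798) Col.gi (nat_lit 1171) (Dv.wd (nat_lit 128) [Mv.b (nat_lit 3644), Mv.f (nat_lit 4059)])))))
(Tr.nd (nat_lit 4063) (Tr.lf (Fc.al (nat_lit 4062) (nat_lit 805) (nat_lit 1190) (Dv.wd (nat_lit 120) [Mv.f (nat_lit 3668), Mv.f (nat_lit 4059), Mv.b (nat_lit 2307)])))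
(Tr.nd (nat_lit 4064) (Tr.lf (Fc.al (nat_lit 4063) (nat_lit 870) (nat_lit 1094) (Dv.wd (nat_lit 117) [Mv.f (nat_lit 3643), Mv.f (nat_lit 4059), Mv.b (nat_lit 2462)])))
(Tr.lf (Fc.ed (nat_lit 4064) (nat_lit 805) Col.g (nat_lit 986) (Dv.wd (nat_lit 129) [Mv.b (nat_lit 3666), Mv.b (nat_lit 4062)])))))))))
(Tr.nd (nat_lit 4085) (Tr.nd (nat_lit 4075) (Tr.nd (nat_lit 4070) (Tr.nd (nat_lit 4067) (Tr.nd (nat_lit 4066) (Tr.lf (Fc.ed (nat_lit 4065) (nat_lit 805) Col.e (nat_lit 770) (Dv.wd (nat_lit 117) [Mv.b (nat_lit 3667), Mv.b (nat_lit 4062)])))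
(Tr.lf (Fc.ed (nat_lit 4066) (nat_lit 870) Col.gi (nat_lit 1090) (Dv.wd (nat_lit 128) [Mv.f (nat_lit 3382), Mv.b (nat_lit 4063)]))))
(Tr.nd (nat_lit 4068) (Tr.lf (Fc.ed (nat_lit 4067) (nat_lit 986) Col.g (nat_lit 891) (Dv.wd (nat_lit 139) [Mv.f (nat_lit 2852), Mv.b (nat_lit 2798), Mv.f (nat_lit 2799), Mv.f (nat_lit 2794), Mv.f (nat_lit 2785), Mv.b (nat_lit 3950), Mv.f (nat_lit 4057), Mv.f (nat_lit 3912), Mv.b (nat_lit 3105)])))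
(Tr.nd (nat_lit 4069) (Tr.lf (Fc.ed (nat_lit 4068) (nat_lit 891) Col.g (nat_lit 953) (Dv.wd (nat_lit 9) [Mv.f (nat_lit 3012), Mv.f (nat_lit 3089), Mv.f (nat_lit 4067)])))
(Tr.lf (Fc.ed (nat_lit 4069) (nat_lit 891) Col.e (nat_lit 891) (Dv.wd (nat_lit 47) [Mv.b (nat_lit 2851), Mv.b (nat_lit 4058), Mv.f (nat_lit 3603), Mv.f (nat_lit 3604), Mv.b (nat_lit 3805), Mv.f (nat_lit 3910), Mv.f (nat_lit 3911), Mv.b (nat_lit 3367), Mv.f (nat_lit 3092), Mv.f (nat_lit 4067)]))))))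
(Tr.nd (nat_lit 4072) (Tr.nd (nat_lit 4071) (Tr.lf (Fc.ed (nat_lit 4070) (nat_lit 882) Col.e (nat_lit 882) (Dv.wd (nat_lit 56) [Mv.f (nat_lit 2853), Mv.f (nat_lit 4069), Mv.b (nat_lit 2853)])))
(Tr.lf (Fc.ed (nat_lit 4071) (nat_lit 1181) Col.g (nat_lit 887) (Dv.wd (nat_lit 55) [Mv.f (nat_lit 2851), Mv.f (nat_lit 4069), Mv.f (nat_lit 4068), Mv.f (nat_lit 3092), Mv.f (nat_lit 3105), Mv.b (nat_lit 3912), Mv.b (nat_lit 3910), Mv.f (nat_lit 3913), Mv.b (nat_lit 3804), Mv.b (nat_lit 3648)]))))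
(Tr.nd (nat_lit 4073) (Tr.lf (Fc.ed (nat_lit 4072) (nat_lit 770) Col.f (nat_lit 770) (Dv.wd (nat_lit 41) [Mv.b (nat_lit 4065), Mv.f (nat_lit 2833), Mv.f (nat_lit 4070), Mv.b (nat_lit 2833), Mv.f (nat_lit 4065)])))
(Tr.nd (nat_lit 4074) (Tr.lf (Fc.ed (nat_lit 4073) (nat_lit 770) Col.a (nat_lit 770) (Dv.wd (nat_lit 23) [Mv.f (nat_lit 3154), Mv.b (nat_lit 3153), Mv.f (nat_lit 4072)])))
(Tr.lf (Fc.al (nat_lit 4074) (nat_lit 916) (nat_lit 805) (Dv.wd (nat_lit 72) [Mv.f (nat_lit 4065), Mv.f (nat_lit 4073), Mv.b (nat_lit 4065), Mv.b (nat_lit 2901)])))))))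
(Tr.nd (nat_lit 4080) (Tr.nd (nat_lit 4077) (Tr.nd (nat_lit 4076) (Tr.lf (Fc.al (nat_lit 4075) (nat_lit 798) (nat_lit 820) (Dv.wd (nat_lit 120) [Mv.b (nat_lit 2902), Mv.f (nat_lit 4074), Mv.f (nat_lit 2307)])))
(Tr.lf (Fc.al (nat_lit 4076) (nat_lit 882) (nat_lit 891) (Dv.wd (nat_lit 30) [Mv.f (nat_lit 2900), Mv.f (nat_lit 4074), Mv.f (nat_lit 2833)]))))
(Tr.nd (nat_lit 4078) (Tr.lf (Fc.ed (nat_lit 4077) (nat_lit 798) Col.a (nat_lit 798) (Dv.wd (nat_lit 29) [Mv.b (nat_lit 2344), Mv.b (nat_lit 4075)])))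
(Tr.nd (nat_lit 4079) (Tr.lf (Fc.al (nat_lit 4078) (nat_lit 108) (nat_lit 186) (Dv.wd (nat_lit 103) [Mv.f (nat_lit 2343), Mv.b (nat_lit 4075), Mv.b (nat_lit 2287)])))
(Tr.lf (Fc.al (nat_lit 4079) (nat_lit 912) (nat_lit 887) (Dv.wd (nat_lit 30) [Mv.f (nat_lit 2846), Mv.b (nat_lit 4075), Mv.f (nat_lit 2894)]))))))
(Tr.nd (nat_lit 4082) (Tr.nd (nat_lit 4081) (Tr.lf (Fc.ed (nat_lit 4080) (nat_lit 882) Col.g (nat_lit 953) (Dv.wd (nat_lit 129) [Mv.b (nat_lit 4068), Mv.b (nat_lit 4076)])))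
(Tr.lf (Fc.al (nat_lit 4081) (nat_lit 84) (nat_lit 187) (Dv.wd (nat_lit 128) [Mv.f (nat_lit 487), Mv.b (nat_lit 4078), Mv.b (nat_lit 1787)]))))
(Tr.nd (nat_lit 4083) (Tr.lf (Fc.al (nat_lit 4082) (nat_lit 854) (nat_lit 1101) (Dv.wd (nat_lit 117) [Mv.f (nat_lit 3399), Mv.b (nat_lit 4078), Mv.f (nat_lit 2430)])))
(Tr.nd (nat_lit 4084) (Tr.lf (Fc.al (nat_lit 4083) (nat_lit 148) (nat_lit 101) (Dv.wd (nat_lit 30) [Mv.b (nat_lit 485), Mv.b (nat_lit 4078), Mv.b (nat_lit 390)])))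
(Tr.lf (Fc.ed (nat_lit 4084) (nat_lit 887) Col.d (nat_lit 882) (Dv.wd (nat_lit 120) [Mv.b (nat_lit 2895), Mv.f (nat_lit 4079)]))))))))
(Tr.nd (nat_lit 4095) (Tr.nd (nat_lit 4090) (Tr.nd (nat_lit 4087) (Tr.nd (nat_lit 4086) (Tr.lf (Fc.ed (nat_lit 4085) (nat_lit 887) Col.f (nat_lit 798) (Dv.wd (nat_lit 30) [Mv.f (nat_lit 2894), Mv.f (nat_lit 4079)])))
(Tr.lf (Fc.al (nat_lit 4086) (nat_lit 84) (nat_lit 443) (Dv.wd (nat_lit 29) [Mv.b (nat_lit 1014), Mv.b (nat_lit 4081), Mv.f (nat_lit 1788)]))))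
(Tr.nd (nat_lit 4088) (Tr.lf (Fc.ed (nat_lit 4087) (nat_lit 854) Col.f (nat_lit 1295) (Dv.wd (nat_lit 30) [Mv.b (nat_lit 3951), Mv.b (nat_lit 4082)])))
(Tr.nd (nat_lit 4089) (Tr.lf (Fc.ed (nat_lit 4088) (nat_lit 101) Col.a (nat_lit 101) (Dv.wd (nat_lit 29) [Mv.f (nat_lit 389), Mv.f (nat_lit 4083)])))
(Tr.lf (Fc.ed (nat_lit 4089) (nat_lit 101) Col.b (nat_lit 1338) (Dv.wd (nat_lit 119) [Mv.f (nat_lit 4041), Mv.f (nat_lit 4083)]))))))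
(Tr.nd (nat_lit 4092) (Tr.nd (nat_lit 4091) (Tr.lf (Fc.ed (nat_lit 4090) (nat_lit 101) Col.f (nat_lit 108) (Dv.wd (nat_lit 30) [Mv.b (nat_lit 390), Mv.f (nat_lit 4083)])))
(Tr.lf (Fc.al (nat_lit 4091) (nat_lit 101) (nat_lit 450) (Dv.wd (nat_lit 128) [Mv.b (nat_lit 1029), Mv.b (nat_lit 4086), Mv.f (nat_lit 1786)]))))
(Tr.nd (nat_lit 4093) (Tr.lf (Fc.ed (nat_lit 4092) (nat_lit 101) Col.e (nat_lit 975) (Dv.wd (nat_lit 117) [Mv.b (nat_lit 3063), Mv.b (nat_lit 4091)])))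
(Tr.nd (nat_lit 4094) (Tr.lf (Fc.ed (nat_lit 4093) (nat_lit 975) Col.a (nat_lit 975) (Dv.wd (nat_lit 15) [Mv.b (nat_lit 4092), Mv.f (nat_lit 4088), Mv.f (nat_lit 4092)])))
(Tr.lf (Fc.ed (nat_lit 4094) (nat_lit 975) Col.f (nat_lit 1344) (Dv.wd (nat_lit 96) [Mv.b (nat_lit 4054), Mv.b (nat_lit 4087), Mv.b (nat_lit 2430), Mv.b (nat_lit 4090), Mv.f (nat_lit 4092)])))))))
(Tr.nd (nat_lit 4100) (Tr.nd (nat_lit 4097) (Tr.nd (nat_lit 4096) (Tr.lf (Fc.ed (nat_lit 4095) (nat_lit 975) Col.g (nat_lit 1037) (Dv.wd (nat_lit 38) [Mv.b (nat_lit 3227), Mv.f (nat_lit 3393), Mv.b (nat_lit 3761), Mv.b (nat_lit 3685), Mv.f (nat_lit 2430), Mv.f (nat_lit 3751), Mv.f (nat_lit 3757), Mv.b (nat_lit 3762), Mv.f (nat_lit 3469), Mv.f (nat_lit 4092)])))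
(Tr.lf (Fc.ed (nat_lit 4096) (nat_lit 1344) Col.a (nat_lit 1344) (Dv.wd (nat_lit 114) [Mv.b (nat_lit 4094), Mv.f (nat_lit 4095), Mv.b (nat_lit 4055)]))))
(Tr.nd (nat_lit 4098) (Tr.lf (Fc.ed (nat_lit 4097) (nat_lit 1241) Col.g (nat_lit 975) (Dv.wd (nat_lit 17) [Mv.f (nat_lit 4095), Mv.f (nat_lit 3228), Mv.b (nat_lit 3818)])))
(Tr.nd (nat_lit 4099) (Tr.lf (Fc.ed (nat_lit 4098) (nat_lit 1227) Col.gi (nat_lit 1235) (Dv.wd (nat_lit 50) [Mv.b (nat_lit 3803), Mv.f (nat_lit 4095), Mv.b (nat_lit 3271), Mv.f (nat_lit 3460), Mv.b (nat_lit 3457), Mv.f (nat_lit 3314), Mv.f (nat_lit 3544), Mv.b (nat_lit 3579), Mv.f (nat_lit 3784)])))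
(Tr.lf (Fc.ed (nat_lit 4099) (nat_lit 1192) Col.g (nat_lit 1235) (Dv.wd (nat_lit 139) [Mv.b (nat_lit 3803), Mv.f (nat_lit 4095), Mv.f (nat_lit 3229), Mv.b (nat_lit 2508), Mv.f (nat_lit 3356), Mv.b (nat_lit 3359), Mv.f (nat_lit 3314), Mv.f (nat_lit 3561), Mv.f (nat_lit 3677)]))))))
(Tr.nd (nat_lit 4103) (Tr.nd (nat_lit 4101) (Tr.lf (Fc.ed (nat_lit 4100) (nat_lit 1235) Col.d (nat_lit 1235) (Dv.wd (nat_lit 51) [Mv.b (nat_lit 4098), Mv.b (nat_lit 3784), Mv.b (nat_lit 3670), Mv.f (nat_lit 3693), Mv.f (nat_lit 3826), Mv.f (nat_lit 3828), Mv.f (nat_lit 2905), Mv.b (nat_lit 3678), Mv.f (nat_lit 4099)])))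
(Tr.nd (nat_lit 4102) (Tr.lf (Fc.ed (nat_lit 4101) (nat_lit 1295) Col.a (nat_lit 1295) (Dv.wd (nat_lit 31) [Mv.f (nat_lit 4054), Mv.f (nat_lit 4096), Mv.b (nat_lit 4054)])))
(Tr.lf (Fc.ed (nat_lit 4102) (nat_lit 1330) Col.a (nat_lit 1330) (Dv.wd (nat_lit 54) [Mv.b (nat_lit 4018), Mv.f (nat_lit 4101), Mv.f (nat_lit 4018)])))))
(Tr.nd (nat_lit 4104) (Tr.lf (Fc.ed (nat_lit 4103) (nat_lit 758) Col.f (nat_lit 1330) (Dv.wd (nat_lit 13) [Mv.f (nat_lit 4102), Mv.b (nat_lit 4016), Mv.f (nat_lit 2190)])))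
(Tr.nd (nat_lit 4105) (Tr.lf (Fc.ed (nat_lit 4104) (nat_lit 758) Col.a (nat_lit 758) (Dv.wd (nat_lit 79) [Mv.f (nat_lit 4103), Mv.f (nat_lit 4102), Mv.b (nat_lit 4103)])))
(Tr.lf (Fc.ed (nat_lit 4105) (nat_lit 1340) Col.a (nat_lit 1340) (Dv.wd (nat_lit 31) [Mv.b (nat_lit 4046), Mv.f (nat_lit 4104), Mv.f (nat_lit 4046)])))))))))))
(Tr.nd (nat_lit 4188) (Tr.nd (nat_lit 4147) (Tr.nd (nat_lit 4126) (Tr.nd (nat_lit 4116) (Tr.nd (nat_lit 4111) (Tr.nd (nat_lit 4108) (Tr.nd (nat_lit 4107) (Tr.lf (Fc.ed (nat_lit 4106) (nat_lit 1196) Col.f (nat_lit 1126) (Dv.wd (nat_lit 11) [Mv.f (nat_lit 3469), Mv.f (nat_lit 4090), Mv.f (nat_lit 3685)])))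
(Tr.lf (Fc.ed (nat_lit 4107) (nat_lit 1126) Col.a (nat_lit 1126) (Dv.wd (nat_lit 23) [Mv.f (nat_lit 3762), Mv.f (nat_lit 3760), Mv.f (nat_lit 4106)]))))
(Tr.nd (nat_lit 4109) (Tr.lf (Fc.ed (nat_lit 4108) (nat_lit 1136) Col.a (nat_lit 1136) (Dv.wd (nat_lit 31) [Mv.f (nat_lit 3486), Mv.f (nat_lit 4107), Mv.b (nat_lit 3486)])))
(Tr.nd (nat_lit 4110) (Tr.lf (Fc.ed (nat_lit 4109) (nat_lit 1307) Col.c (nat_lit 1330) (Dv.wd (nat_lit 81) [Mv.b (nat_lit 4016), Mv.f (nat_lit 1894), Mv.b (nat_lit 277), Mv.f (nat_lit 2287), Mv.f (nat_lit 4060), Mv.b (nat_lit 3645), Mv.b (nat_lit 2659), Mv.f (nat_lit 3965), Mv.f (nat_lit 3974)])))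
(Tr.lf (Fc.ed (nat_lit 4110) (nat_lit 846) Col.d (nat_lit 1345) Dv.df)))))
(Tr.nd (nat_lit 4113) (Tr.nd (nat_lit 4112) (Tr.lf (Fc.ed (nat_lit 4111) (nat_lit 1345) Col.b (nat_lit 944) (Dv.wd (nat_lit 37) [Mv.f (nat_lit 2992), Mv.b (nat_lit 2417), Mv.f (nat_lit 4110)])))
(Tr.lf (Fc.ed (nat_lit 4112) (nat_lit 1345) Col.f (nat_lit 1247) (Dv.wd (nat_lit 11) [Mv.f (nat_lit 3835), Mv.b (nat_lit 2416), Mv.f (nat_lit 4110)]))))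
(Tr.nd (nat_lit 4114) (Tr.lf (Fc.ed (nat_lit 4113) (nat_lit 700) Col.d (nat_lit 1346) Dv.df))
(Tr.nd (nat_lit 4115) (Tr.lf (Fc.ed (nat_lit 4114) (nat_lit 1346) Col.a (nat_lit 924) (Dv.wd (nat_lit 8) [Mv.f (nat_lit 2939), Mv.b (nat_lit 2052), Mv.f (nat_lit 4113)])))
(Tr.lf (Fc.ed (nat_lit 4115) (nat_lit 1346) Col.b (nat_lit 859) (Dv.wd (nat_lit 37) [Mv.b (nat_lit 2439), Mv.f (nat_lit 2049), Mv.f (nat_lit 4113)])))))))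
(Tr.nd (nat_lit 4121) (Tr.nd (nat_lit 4118) (Tr.nd (nat_lit 4117) (Tr.lf (Fc.ed (nat_lit 4116) (nat_lit 1346) Col.f (nat_lit 1249) (Dv.wd (nat_lit 11) [Mv.f (nat_lit 3839), Mv.b (nat_lit 2051), Mv.f (nat_lit 4113)])))
(Tr.lf (Fc.ed (nat_lit 4117) (nat_lit 1328) Col.d (nat_lit 1347) Dv.df)))
(Tr.nd (nat_lit 4119) (Tr.lf (Fc.ed (nat_lit 4118) (nat_lit 1347) Col.e (nat_lit 1191) (Dv.wd (nat_lit 42) [Mv.b (nat_lit 3673), Mv.f (nat_lit 1897), Mv.b (nat_lit 3286), Mv.f (nat_lit 4014), Mv.f (nat_lit 4117)])))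
(Tr.nd (nat_lit 4120) (Tr.lf (Fc.ed (nat_lit 4119) (nat_lit 529) Col.c (nat_lit 1348) Dv.df))
(Tr.lf (Fc.ed (nat_lit 4120) (nat_lit 1348) Col.a (nat_lit 1257) (Dv.wd (nat_lit 19) [Mv.b (nat_lit 3856), Mv.b (nat_lit 3484), Mv.f (nat_lit 4119)]))))))
(Tr.nd (nat_lit 4123) (Tr.nd (nat_lit 4122) (Tr.lf (Fc.ed (nat_lit 4121) (nat_lit 1348) Col.f (nat_lit 1312) (Dv.wd (nat_lit 26) [Mv.b (nat_lit 3981), Mv.f (nat_lit 1263), Mv.f (nat_lit 4119)])))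
(Tr.lf (Fc.ed (nat_lit 4122) (nat_lit 1331) Col.gi (nat_lit 1349) Dv.df)))
(Tr.nd (nat_lit 4124) (Tr.lf (Fc.ed (nat_lit 4123) (nat_lit 1349) Col.d (nat_lit 975) (Dv.wd (nat_lit 48) [Mv.b (nat_lit 4097), Mv.f (nat_lit 3819), Mv.b (nat_lit 2123), Mv.f (nat_lit 2568), Mv.b (nat_lit 2776), Mv.b (nat_lit 2508), Mv.f (nat_lit 3356), Mv.f (nat_lit 4019), Mv.f (nat_lit 4122)])))
(Tr.nd (nat_lit 4125) (Tr.lf (Fc.ed (nat_lit 4124) (nat_lit 1349) Col.a (nat_lit 1349) (Dv.wd (nat_lit 54) [Mv.f (nat_lit 4123), Mv.f (nat_lit 4093), Mv.b (nat_lit 4123)])))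
(Tr.lf (Fc.ed (nat_lit 4125) (nat_lit 1281) Col.d (nat_lit 1350) Dv.df)))))))
(Tr.nd (nat_lit 4136) (Tr.nd (nat_lit 4131) (Tr.nd (nat_lit 4128) (Tr.nd (nat_lit 4127) (Tr.lf (Fc.ed (nat_lit 4126) (nat_lit 1350) Col.g (nat_lit 1170) (Dv.wd (nat_lit 69) [Mv.b (nat_lit 3598), Mv.f (nat_lit 2100), Mv.b (nat_lit 4028), Mv.f (nat_lit 4031), Mv.b (nat_lit 2153), Mv.b (nat_lit 3258), Mv.b (nat_lit 3307), Mv.b (nat_lit 3915), Mv.f (nat_lit 4125)])))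
(Tr.lf (Fc.ed (nat_lit 4127) (nat_lit 1158) Col.d (nat_lit 1351) Dv.df)))
(Tr.nd (nat_lit 4129) (Tr.lf (Fc.ed (nat_lit 4128) (nat_lit 1351) Col.b (nat_lit 800) (Dv.wd (nat_lit 37) [Mv.b (nat_lit 2293), Mv.f (nat_lit 3568), Mv.f (nat_lit 4127)])))
(Tr.nd (nat_lit 4130) (Tr.lf (Fc.ed (nat_lit 4129) (nat_lit 651) Col.g (nat_lit 1352) Dv.df))
(Tr.lf (Fc.ed (nat_lit 4130) (nat_lit 980) Col.b (nat_lit 1353) Dv.df)))))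
(Tr.nd (nat_lit 4133) (Tr.nd (nat_lit 4132) (Tr.lf (Fc.ed (nat_lit 4131) (nat_lit 1353) Col.f (nat_lit 1353) (Dv.wd (nat_lit 20) [Mv.b (nat_lit 4130), Mv.f (nat_lit 3074), Mv.f (nat_lit 4130)])))
(Tr.lf (Fc.ed (nat_lit 4132) (nat_lit 1349) Col.gi (nat_lit 1354) Dv.df)))
(Tr.nd (nat_lit 4134) (Tr.lf (Fc.ed (nat_lit 4133) (nat_lit 1354) Col.f (nat_lit 1331) (Dv.wd (nat_lit 13) [Mv.f (nat_lit 4020), Mv.f (nat_lit 4122), Mv.f (nat_lit 4132)])))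
(Tr.nd (nat_lit 4135) (Tr.lf (Fc.ed (nat_lit 4134) (nat_lit 1354) Col.d (nat_lit 1168) (Dv.wd (nat_lit 48) [Mv.b (nat_lit 3596), Mv.f (nat_lit 1167), Mv.b (nat_lit 3562), Mv.f (nat_lit 3677), Mv.f (nat_lit 4099), Mv.f (nat_lit 4100), Mv.b (nat_lit 3803), Mv.b (nat_lit 4123), Mv.f (nat_lit 4132)])))
(Tr.lf (Fc.ed (nat_lit 4135) (nat_lit 1354) Col.a (nat_lit 1354) (Dv.wd (nat_lit 54) [Mv.f (nat_lit 4134), Mv.f (nat_lit 3593), Mv.b (nat_lit 4134)])))))))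
(Tr.nd (nat_lit 4141) (Tr.nd (nat_lit 4138) (Tr.nd (nat_lit 4137) (Tr.lf (Fc.ed (nat_lit 4136) (nat_lit 1075) Col.e (nat_lit 1355) Dv.df))
(Tr.lf (Fc.ed (nat_lit 4137) (nat_lit 474) Col.d (nat_lit 1356) Dv.df)))
(Tr.nd (nat_lit 4139) (Tr.lf (Fc.ed (nat_lit 4138) (nat_lit 1356) Col.f (nat_lit 1273) (Dv.wd (nat_lit 11) [Mv.b (nat_lit 3890), Mv.f (nat_lit 1286), Mv.f (nat_lit 4137)])))
(Tr.nd (nat_lit 4140) (Tr.lf (Fc.ed (nat_lit 4139) (nat_lit 676) Col.e (nat_lit 1357) Dv.df))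
(Tr.lf (Fc.ed (nat_lit 4140) (nat_lit 973) Col.d (nat_lit 1358) Dv.df)))))
(Tr.nd (nat_lit 4144) (Tr.nd (nat_lit 4142) (Tr.lf (Fc.ed (nat_lit 4141) (nat_lit 838) Col.d (nat_lit 1359) Dv.df))
(Tr.nd (nat_lit 4143) (Tr.lf (Fc.ed (nat_lit 4142) (nat_lit 1359) Col.a (nat_lit 1125) (Dv.wd (nat_lit 8) [Mv.b (nat_lit 3466), Mv.f (nat_lit 2393), Mv.f (nat_lit 4141)])))
(Tr.lf (Fc.ed (nat_lit 4143) (nat_lit 1359) Col.b (nat_lit 1020) (Dv.wd (nat_lit 37) [Mv.b (nat_lit 3187), Mv.f (nat_lit 2407), Mv.f (nat_lit 4141)])))))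
(Tr.nd (nat_lit 4145) (Tr.lf (Fc.ed (nat_lit 4144) (nat_lit 1359) Col.f (nat_lit 1359) (Dv.wd (nat_lit 11) [Mv.b (nat_lit 4141), Mv.f (nat_lit 2395), Mv.f (nat_lit 4141)])))
(Tr.nd (nat_lit 4146) (Tr.lf (Fc.ed (nat_lit 4145) (nat_lit 1359) Col.g (nat_lit 879) (Dv.wd (nat_lit 55) [Mv.b (nat_lit 2483), Mv.f (nat_lit 2226), Mv.b (nat_lit 2063), Mv.f (nat_lit 2061), Mv.b (nat_lit 4028), Mv.f (nat_lit 4030), Mv.b (nat_lit 3673), Mv.f (nat_lit 1897), Mv.b (nat_lit 2396), Mv.f (nat_lit 4141)])))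
(Tr.lf (Fc.ed (nat_lit 4146) (nat_lit 879) Col.g (nat_lit 1125) (Dv.wd (nat_lit 9) [Mv.b (nat_lit 4142), Mv.f (nat_lit 4144), Mv.f (nat_lit 4145)])))))))))
(Tr.nd (nat_lit 4167) (Tr.nd (nat_lit 4157) (Tr.nd (nat_lit 4152) (Tr.nd (nat_lit 4149) (Tr.nd (nat_lit 4148) (Tr.lf (Fc.ed (nat_lit 4147) (nat_lit 1287) Col.c (nat_lit 1360) Dv.df))
(Tr.lf (Fc.ed (nat_lit 4148) (nat_lit 1360) Col.g (nat_lit 1066) (Dv.wd (nat_lit 145) [Mv.f (nat_lit 3300), Mv.f (nat_lit 3296), Mv.b (nat_lit 3192), Mv.f (nat_lit 3298), Mv.f (nat_lit 3300), Mv.b (nat_lit 3297), Mv.b (nat_lit 3192), Mv.b (nat_lit 3931), Mv.f (nat_lit 4147)]))))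
(Tr.nd (nat_lit 4150) (Tr.lf (Fc.ed (nat_lit 4149) (nat_lit 1360) Col.gi (nat_lit 1066) (Dv.wd (nat_lit 141) [Mv.f (nat_lit 3300), Mv.f (nat_lit 3296), Mv.f (nat_lit 3047), Mv.f (nat_lit 3297), Mv.f (nat_lit 3295), Mv.b (nat_lit 3300), Mv.b (nat_lit 3298), Mv.b (nat_lit 3931), Mv.f (nat_lit 4147)])))
(Tr.nd (nat_lit 4151) (Tr.lf (Fc.ed (nat_lit 4150) (nat_lit 1336) Col.f (nat_lit 1361) Dv.df))
(Tr.lf (Fc.ed (nat_lit 4151) (nat_lit 1361) Col.d (nat_lit 558) (Dv.wd (nat_lit 21) [Mv.b (nat_lit 3587), Mv.f (nat_lit 4036), Mv.f (nat_lit 4150)]))))))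
(Tr.nd (nat_lit 4154) (Tr.nd (nat_lit 4153) (Tr.lf (Fc.ed (nat_lit 4152) (nat_lit 462) Col.c (nat_lit 1362) Dv.df))
(Tr.lf (Fc.ed (nat_lit 4153) (nat_lit 1362) Col.a (nat_lit 1248) (Dv.wd (nat_lit 19) [Mv.b (nat_lit 3836), Mv.b (nat_lit 2146), Mv.f (nat_lit 4152)]))))
(Tr.nd (nat_lit 4155) (Tr.lf (Fc.ed (nat_lit 4154) (nat_lit 1083) Col.d (nat_lit 1363) Dv.df))
(Tr.nd (nat_lit 4156) (Tr.lf (Fc.ed (nat_lit 4155) (nat_lit 1363) Col.b (nat_lit 1193) (Dv.wd (nat_lit 37) [Mv.b (nat_lit 3679), Mv.f (nat_lit 3344), Mv.f (nat_lit 4154)])))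
(Tr.lf (Fc.ed (nat_lit 4156) (nat_lit 1363) Col.f (nat_lit 1266) (Dv.wd (nat_lit 11) [Mv.b (nat_lit 3874), Mv.b (nat_lit 3345), Mv.f (nat_lit 4154)])))))))
(Tr.nd (nat_lit 4162) (Tr.nd (nat_lit 4159) (Tr.nd (nat_lit 4158) (Tr.lf (Fc.ed (nat_lit 4157) (nat_lit 379) Col.e (nat_lit 1364) Dv.df))
(Tr.lf (Fc.ed (nat_lit 4158) (nat_lit 1364) Col.c (nat_lit 1011) (Dv.wd (nat_lit 18) [Mv.b (nat_lit 3170), Mv.f (nat_lit 901), Mv.f (nat_lit 4157)]))))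
(Tr.nd (nat_lit 4160) (Tr.lf (Fc.ed (nat_lit 4159) (nat_lit 1335) Col.gi (nat_lit 1365) Dv.df))
(Tr.nd (nat_lit 4161) (Tr.lf (Fc.ed (nat_lit 4160) (nat_lit 1365) Col.gi (nat_lit 1323) (Dv.wd (nat_lit 24) [Mv.b (nat_lit 4034), Mv.f (nat_lit 4033), Mv.f (nat_lit 4159)])))
(Tr.lf (Fc.ed (nat_lit 4161) (nat_lit 1365) Col.f (nat_lit 1341) (Dv.wd (nat_lit 13) [Mv.f (nat_lit 4048), Mv.f (nat_lit 4051), Mv.f (nat_lit 4159)]))))))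
(Tr.nd (nat_lit 4164) (Tr.nd (nat_lit 4163) (Tr.lf (Fc.ed (nat_lit 4162) (nat_lit 1365) Col.d (nat_lit 1208) (Dv.wd (nat_lit 48) [Mv.b (nat_lit 3716), Mv.b (nat_lit 971), Mv.b (nat_lit 3507), Mv.b (nat_lit 3503), Mv.b (nat_lit 2810), Mv.f (nat_lit 3679), Mv.f (nat_lit 4005), Mv.b (nat_lit 4035), Mv.f (nat_lit 4159)])))
(Tr.lf (Fc.ed (nat_lit 4163) (nat_lit 1365) Col.c (nat_lit 1354) (Dv.wd (nat_lit 14) [Mv.b (nat_lit 4132), Mv.f (nat_lit 4123), Mv.f (nat_lit 4095), Mv.b (nat_lit 3271), Mv.b (nat_lit 3718), Mv.b (nat_lit 4162), Mv.f (nat_lit 4160), Mv.b (nat_lit 4035), Mv.f (nat_lit 4159)]))))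
(Tr.nd (nat_lit 4165) (Tr.lf (Fc.ed (nat_lit 4164) (nat_lit 1365) Col.a (nat_lit 1365) (Dv.wd (nat_lit 76) [Mv.f (nat_lit 4163), Mv.f (nat_lit 4135), Mv.b (nat_lit 4163)])))
(Tr.nd (nat_lit 4166) (Tr.lf (Fc.ed (nat_lit 4165) (nat_lit 476) Col.e (nat_lit 1366) Dv.df))
(Tr.lf (Fc.ed (nat_lit 4166) (nat_lit 664) Col.a (nat_lit 1367) Dv.df)))))))
(Tr.nd (nat_lit 4177) (Tr.nd (nat_lit 4172) (Tr.nd (nat_lit 4169) (Tr.nd (nat_lit 4168) (Tr.lf (Fc.ed (nat_lit 4167) (nat_lit 1357) Col.d (nat_lit 1368) Dv.df))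
(Tr.lf (Fc.ed (nat_lit 4168) (nat_lit 1368) Col.e (nat_lit 753) (Dv.wd (nat_lit 42) [Mv.b (nat_lit 2179), Mv.b (nat_lit 643), Mv.b (nat_lit 1984), Mv.f (nat_lit 4139), Mv.f (nat_lit 4167)]))))
(Tr.nd (nat_lit 4170) (Tr.lf (Fc.ed (nat_lit 4169) (nat_lit 969) Col.g (nat_lit 1369) Dv.df))
(Tr.nd (nat_lit 4171) (Tr.lf (Fc.ed (nat_lit 4170) (nat_lit 1369) Col.g (nat_lit 586) (Dv.wd (nat_lit 9) [Mv.b (nat_lit 1989), Mv.b (nat_lit 3054), Mv.f (nat_lit 4169)])))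
(Tr.lf (Fc.ed (nat_lit 4171) (nat_lit 352) Col.b (nat_lit 1370) Dv.df)))))
(Tr.nd (nat_lit 4174) (Tr.nd (nat_lit 4173) (Tr.lf (Fc.ed (nat_lit 4172) (nat_lit 1370) Col.f (nat_lit 1205) (Dv.wd (nat_lit 20) [Mv.f (nat_lit 3709), Mv.b (nat_lit 1354), Mv.f (nat_lit 4171)])))
(Tr.lf (Fc.ed (nat_lit 4173) (nat_lit 1370) Col.c (nat_lit 1325) (Dv.wd (nat_lit 93) [Mv.f (nat_lit 4009), Mv.f (nat_lit 1325), Mv.f (nat_lit 1480), Mv.f (nat_lit 1502), Mv.f (nat_lit 4171)]))))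
(Tr.nd (nat_lit 4175) (Tr.lf (Fc.ed (nat_lit 4174) (nat_lit 930) Col.d (nat_lit 1371) Dv.df))
(Tr.nd (nat_lit 4176) (Tr.lf (Fc.ed (nat_lit 4175) (nat_lit 1354) Col.gi (nat_lit 1372) Dv.df))
(Tr.lf (Fc.ed (nat_lit 4176) (nat_lit 1372) Col.f (nat_lit 1349) (Dv.wd (nat_lit 13) [Mv.f (nat_lit 4124), Mv.f (nat_lit 4132), Mv.f (nat_lit 4175)])))))))
(Tr.nd (nat_lit 4182) (Tr.nd (nat_lit 4179) (Tr.nd (nat_lit 4178) (Tr.lf (Fc.ed (nat_lit 4177) (nat_lit 1372) Col.d (nat_lit 1344) (Dv.wd (nat_lit 48) [Mv.f (nat_lit 4055), Mv.f (nat_lit 3229), Mv.f (nat_lit 2775), Mv.f (nat_lit 2772), Mv.f (nat_lit 2807), Mv.f (nat_lit 2561), Mv.f (nat_lit 3592), Mv.b (nat_lit 4134), Mv.f (nat_lit 4175)])))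
(Tr.lf (Fc.ed (nat_lit 4178) (nat_lit 1372) Col.a (nat_lit 1372) (Dv.wd (nat_lit 54) [Mv.f (nat_lit 4177), Mv.f (nat_lit 4096), Mv.b (nat_lit 4177)]))))
(Tr.nd (nat_lit 4180) (Tr.lf (Fc.ed (nat_lit 4179) (nat_lit 1370) Col.d (nat_lit 1373) Dv.df))
(Tr.nd (nat_lit 4181) (Tr.lf (Fc.ed (nat_lit 4180) (nat_lit 1373) Col.b (nat_lit 1112) (Dv.wd (nat_lit 37) [Mv.f (nat_lit 3433), Mv.f (nat_lit 4171), Mv.f (nat_lit 4179)])))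
(Tr.lf (Fc.ed (nat_lit 4181) (nat_lit 420) Col.a (nat_lit 1374) Dv.df)))))
(Tr.nd (nat_lit 4185) (Tr.nd (nat_lit 4183) (Tr.lf (Fc.ed (nat_lit 4182) (nat_lit 1374) Col.e (nat_lit 934) (Dv.wd (nat_lit 56) [Mv.b (nat_lit 2960), Mv.b (nat_lit 976), Mv.f (nat_lit 4181)])))
(Tr.nd (nat_lit 4184) (Tr.lf (Fc.ed (nat_lit 4183) (nat_lit 1374) Col.b (nat_lit 1374) (Dv.wd (nat_lit 65) [Mv.b (nat_lit 4181), Mv.b (nat_lit 975), Mv.f (nat_lit 948), Mv.f (nat_lit 975), Mv.f (nat_lit 4181)])))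
(Tr.lf (Fc.ed (nat_lit 4184) (nat_lit 538) Col.b (nat_lit 1375) Dv.df))))
(Tr.nd (nat_lit 4186) (Tr.lf (Fc.ed (nat_lit 4185) (nat_lit 1375) Col.e (nat_lit 1225) (Dv.wd (nat_lit 52) [Mv.b (nat_lit 3778), Mv.f (nat_lit 1294), Mv.f (nat_lit 4184)])))
(Tr.nd (nat_lit 4187) (Tr.lf (Fc.ed (nat_lit 4186) (nat_lit 1375) Col.f (nat_lit 1375) (Dv.wd (nat_lit 20) [Mv.b (nat_lit 4184), Mv.f (nat_lit 1295), Mv.f (nat_lit 4184)])))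
(Tr.lf (Fc.ed (nat_lit 4187) (nat_lit 1375) Col.a (nat_lit 1375) (Dv.wd (nat_lit 98) [Mv.b (nat_lit 4184), Mv.b (nat_lit 1304), Mv.f (nat_lit 1306), Mv.f (nat_lit 1304), Mv.f (nat_lit 4184)]))))))))))
(Tr.nd (nat_lit 4229) (Tr.nd (nat_lit 4208) (Tr.nd (nat_lit 4198) (Tr.nd (nat_lit 4193) (Tr.nd (nat_lit 4190) (Tr.nd (nat_lit 4189) (Tr.lf (Fc.ed (nat_lit 4188) (nat_lit 1375) Col.c (nat_lit 1375) (Dv.wd (nat_lit 93) [Mv.b (nat_lit 4184), Mv.f (nat_lit 1293), Mv.f (nat_lit 1276), Mv.b (nat_lit 1293), Mv.f (nat_lit 4184)])))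
(Tr.lf (Fc.ed (nat_lit 4189) (nat_lit 1366) Col.b (nat_lit 1376) Dv.df)))
(Tr.nd (nat_lit 4191) (Tr.lf (Fc.ed (nat_lit 4190) (nat_lit 559) Col.gi (nat_lit 1377) Dv.df))
(Tr.nd (nat_lit 4192) (Tr.lf (Fc.ed (nat_lit 4191) (nat_lit 1377) Col.gi (nat_lit 512) (Dv.wd (nat_lit 24) [Mv.f (nat_lit 1196), Mv.b (nat_lit 1339), Mv.f (nat_lit 4190)])))
(Tr.lf (Fc.ed (nat_lit 4192) (nat_lit 654) Col.a (nat_lit 1378) Dv.df)))))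
(Tr.nd (nat_lit 4195) (Tr.nd (nat_lit 4194) (Tr.lf (Fc.ed (nat_lit 4193) (nat_lit 1378) Col.f (nat_lit 1367) (Dv.wd (nat_lit 35) [Mv.b (nat_lit 4166), Mv.b (nat_lit 1952), Mv.f (nat_lit 4192)])))
(Tr.lf (Fc.ed (nat_lit 4194) (nat_lit 848) Col.g (nat_lit 1379) Dv.df)))
(Tr.nd (nat_lit 4196) (Tr.lf (Fc.ed (nat_lit 4195) (nat_lit 435) Col.b (nat_lit 1380) Dv.df))
(Tr.nd (nat_lit 4197) (Tr.lf (Fc.ed (nat_lit 4196) (nat_lit 1358) Col.f (nat_lit 1381) Dv.df))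
(Tr.lf (Fc.ed (nat_lit 4197) (nat_lit 1381) Col.d (nat_lit 639) (Dv.wd (nat_lit 21) [Mv.f (nat_lit 3060), Mv.f (nat_lit 4140), Mv.f (nat_lit 4196)])))))))
(Tr.nd (nat_lit 4203) (Tr.nd (nat_lit 4200) (Tr.nd (nat_lit 4199) (Tr.lf (Fc.ed (nat_lit 4198) (nat_lit 801) Col.g (nat_lit 1382) Dv.df))
(Tr.lf (Fc.ed (nat_lit 4199) (nat_lit 1382) Col.g (nat_lit 545) (Dv.wd (nat_lit 9) [Mv.b (nat_lit 2295), Mv.f (nat_lit 2297), Mv.f (nat_lit 4198)]))))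
(Tr.nd (nat_lit 4201) (Tr.lf (Fc.ed (nat_lit 4200) (nat_lit 1346) Col.g (nat_lit 1383) Dv.df))
(Tr.nd (nat_lit 4202) (Tr.lf (Fc.ed (nat_lit 4201) (nat_lit 1383) Col.d (nat_lit 1007) (Dv.wd (nat_lit 39) [Mv.f (nat_lit 3260), Mv.f (nat_lit 3258), Mv.f (nat_lit 1252), Mv.f (nat_lit 2153), Mv.b (nat_lit 4031), Mv.f (nat_lit 4028), Mv.f (nat_lit 2061), Mv.f (nat_lit 2062), Mv.f (nat_lit 4113), Mv.f (nat_lit 4200)])))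
(Tr.lf (Fc.ed (nat_lit 4202) (nat_lit 1230) Col.f (nat_lit 1383) (Dv.wd (nat_lit 86) [Mv.f (nat_lit 4201), Mv.f (nat_lit 3261), Mv.b (nat_lit 3794)]))))))
(Tr.nd (nat_lit 4205) (Tr.nd (nat_lit 4204) (Tr.lf (Fc.ed (nat_lit 4203) (nat_lit 1120) Col.d (nat_lit 1384) Dv.df))
(Tr.lf (Fc.ed (nat_lit 4204) (nat_lit 1384) Col.b (nat_lit 696) (Dv.wd (nat_lit 37) [Mv.f (nat_lit 2748), Mv.b (nat_lit 3452), Mv.f (nat_lit 4203)]))))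
(Tr.nd (nat_lit 4206) (Tr.lf (Fc.ed (nat_lit 4205) (nat_lit 480) Col.gi (nat_lit 1385) Dv.df))
(Tr.nd (nat_lit 4207) (Tr.lf (Fc.ed (nat_lit 4206) (nat_lit 1385) Col.gi (nat_lit 1135) (Dv.wd (nat_lit 24) [Mv.b (nat_lit 3490), Mv.b (nat_lit 3487), Mv.f (nat_lit 4205)])))
(Tr.lf (Fc.ed (nat_lit 4207) (nat_lit 749) Col.e (nat_lit 1386) Dv.df)))))))
(Tr.nd (nat_lit 4218) (Tr.nd (nat_lit 4213) (Tr.nd (nat_lit 4210) (Tr.nd (nat_lit 4209) (Tr.lf (Fc.ed (nat_lit 4208) (nat_lit 1030) Col.b (nat_lit 1387) Dv.df))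
(Tr.lf (Fc.ed (nat_lit 4209) (nat_lit 1387) Col.d (nat_lit 1296) (Dv.wd (nat_lit 58) [Mv.b (nat_lit 3952), Mv.b (nat_lit 3439), Mv.f (nat_lit 4208)]))))
(Tr.nd (nat_lit 4211) (Tr.lf (Fc.ed (nat_lit 4210) (nat_lit 1387) Col.e (nat_lit 928) (Dv.wd (nat_lit 52) [Mv.f (nat_lit 2947), Mv.f (nat_lit 3212), Mv.f (nat_lit 4208)])))
(Tr.nd (nat_lit 4212) (Tr.lf (Fc.ed (nat_lit 4211) (nat_lit 1292) Col.b (nat_lit 1388) Dv.df))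
(Tr.lf (Fc.ed (nat_lit 4212) (nat_lit 1388) Col.c (nat_lit 1388) (Dv.wd (nat_lit 93) [Mv.b (nat_lit 4211), Mv.b (nat_lit 3941), Mv.f (nat_lit 3943), Mv.f (nat_lit 3941), Mv.f (nat_lit 4211)]))))))
(Tr.nd (nat_lit 4215) (Tr.nd (nat_lit 4214) (Tr.lf (Fc.ed (nat_lit 4213) (nat_lit 1388) Col.g (nat_lit 933) (Dv.wd (nat_lit 122) [Mv.b (nat_lit 2958), Mv.b (nat_lit 1914), Mv.f (nat_lit 1913), Mv.f (nat_lit 1731), Mv.f (nat_lit 1896), Mv.f (nat_lit 3257), Mv.b (nat_lit 3307), Mv.b (nat_lit 3915), Mv.f (nat_lit 3941), Mv.f (nat_lit 4211)])))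
(Tr.lf (Fc.ed (nat_lit 4214) (nat_lit 1388) Col.gi (nat_lit 1158) (Dv.wd (nat_lit 88) [Mv.f (nat_lit 3570), Mv.b (nat_lit 3568), Mv.f (nat_lit 1166), Mv.b (nat_lit 1177), Mv.f (nat_lit 1178), Mv.f (nat_lit 3158), Mv.b (nat_lit 3555), Mv.b (nat_lit 3942), Mv.f (nat_lit 4211), Mv.f (nat_lit 4212)]))))
(Tr.nd (nat_lit 4216) (Tr.lf (Fc.ed (nat_lit 4215) (nat_lit 609) Col.e (nat_lit 1389) Dv.df))
(Tr.nd (nat_lit 4217) (Tr.lf (Fc.ed (nat_lit 4216) (nat_lit 1389) Col.a (nat_lit 1357) (Dv.wd (nat_lit 15) [Mv.b (nat_lit 4139), Mv.b (nat_lit 1983), Mv.f (nat_lit 4215)])))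
(Tr.lf (Fc.ed (nat_lit 4217) (nat_lit 848) Col.gi (nat_lit 1390) Dv.df))))))
(Tr.nd (nat_lit 4223) (Tr.nd (nat_lit 4220) (Tr.nd (nat_lit 4219) (Tr.lf (Fc.ed (nat_lit 4218) (nat_lit 1390) Col.c (nat_lit 1379) (Dv.wd (nat_lit 94) [Mv.b (nat_lit 4194), Mv.b (nat_lit 2419), Mv.b (nat_lit 1162), Mv.f (nat_lit 429), Mv.f (nat_lit 860), Mv.b (nat_lit 1062), Mv.b (nat_lit 1214), Mv.b (nat_lit 2268), Mv.b (nat_lit 2420), Mv.f (nat_lit 4217)])))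
(Tr.lf (Fc.ed (nat_lit 4219) (nat_lit 1303) Col.g (nat_lit 1391) Dv.df)))
(Tr.nd (nat_lit 4221) (Tr.lf (Fc.ed (nat_lit 4220) (nat_lit 1391) Col.c (nat_lit 758) (Dv.wd (nat_lit 83) [Mv.b (nat_lit 2431), Mv.f (nat_lit 2461), Mv.f (nat_lit 4066), Mv.f (nat_lit 3369), Mv.b (nat_lit 2710), Mv.b (nat_lit 2748), Mv.b (nat_lit 2658), Mv.f (nat_lit 3965), Mv.f (nat_lit 4219)])))
(Tr.nd (nat_lit 4222) (Tr.lf (Fc.ed (nat_lit 4221) (nat_lit 1175) Col.e (nat_lit 1392) Dv.df))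
(Tr.lf (Fc.ed (nat_lit 4222) (nat_lit 1392) Col.a (nat_lit 717) (Dv.wd (nat_lit 15) [Mv.f (nat_lit 2097), Mv.b (nat_lit 3626), Mv.f (nat_lit 4221)]))))))
(Tr.nd (nat_lit 4226) (Tr.nd (nat_lit 4224) (Tr.lf (Fc.ed (nat_lit 4223) (nat_lit 1392) Col.b (nat_lit 1392) (Dv.wd (nat_lit 49) [Mv.b (nat_lit 4221), Mv.f (nat_lit 3627), Mv.f (nat_lit 4221)])))
(Tr.nd (nat_lit 4225) (Tr.lf (Fc.ed (nat_lit 4224) (nat_lit 1392) Col.d (nat_lit 1374) (Dv.wd (nat_lit 59) [Mv.f (nat_lit 4182), Mv.f (nat_lit 2961), Mv.b (nat_lit 3101), Mv.f (nat_lit 3625), Mv.f (nat_lit 4221)])))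
(Tr.lf (Fc.ed (nat_lit 4225) (nat_lit 866) Col.d (nat_lit 1393) Dv.df))))
(Tr.nd (nat_lit 4227) (Tr.lf (Fc.ed (nat_lit 4226) (nat_lit 1393) Col.b (nat_lit 713) (Dv.wd (nat_lit 37) [Mv.f (nat_lit 2089), Mv.f (nat_lit 2452), Mv.f (nat_lit 4225)])))
(Tr.nd (nat_lit 4228) (Tr.lf (Fc.ed (nat_lit 4227) (nat_lit 1393) Col.f (nat_lit 1170) (Dv.wd (nat_lit 11) [Mv.b (nat_lit 3598), Mv.b (nat_lit 2454), Mv.f (nat_lit 4225)])))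
(Tr.lf (Fc.ed (nat_lit 4228) (nat_lit 695) Col.a (nat_lit 1394) Dv.df))))))))
(Tr.nd (nat_lit 4249) (Tr.nd (nat_lit 4239) (Tr.nd (nat_lit 4234) (Tr.nd (nat_lit 4231) (Tr.nd (nat_lit 4230) (Tr.lf (Fc.ed (nat_lit 4229) (nat_lit 1394) Col.c (nat_lit 1394) (Dv.wd (nat_lit 33) [Mv.b (nat_lit 4228), Mv.f (nat_lit 2040), Mv.f (nat_lit 4228)])))
(Tr.lf (Fc.ed (nat_lit 4230) (nat_lit 1394) Col.e (nat_lit 1367) (Dv.wd (nat_lit 56) [Mv.b (nat_lit 4166), Mv.b (nat_lit 2038), Mv.f (nat_lit 4228)]))))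
(Tr.nd (nat_lit 4232) (Tr.lf (Fc.ed (nat_lit 4231) (nat_lit 1394) Col.b (nat_lit 1394) (Dv.wd (nat_lit 65) [Mv.b (nat_lit 4228), Mv.b (nat_lit 2037), Mv.f (nat_lit 1633), Mv.f (nat_lit 2037), Mv.f (nat_lit 4228)])))
(Tr.nd (nat_lit 4233) (Tr.lf (Fc.ed (nat_lit 4232) (nat_lit 490) Col.gi (nat_lit 1395) Dv.df))
(Tr.lf (Fc.ed (nat_lit 4233) (nat_lit 712) Col.e (nat_lit 1396) Dv.df)))))
(Tr.nd (nat_lit 4236) (Tr.nd (nat_lit 4235) (Tr.lf (Fc.ed (nat_lit 4234) (nat_lit 1396) Col.d (nat_lit 1396) (Dv.wd (nat_lit 59) [Mv.b (nat_lit 4233), Mv.f (nat_lit 2087), Mv.f (nat_lit 1450), Mv.b (nat_lit 2087), Mv.f (nat_lit 4233)])))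
(Tr.lf (Fc.ed (nat_lit 4235) (nat_lit 689) Col.a (nat_lit 1397) Dv.df)))
(Tr.nd (nat_lit 4237) (Tr.lf (Fc.ed (nat_lit 4236) (nat_lit 1397) Col.c (nat_lit 1397) (Dv.wd (nat_lit 33) [Mv.b (nat_lit 4235), Mv.f (nat_lit 2026), Mv.f (nat_lit 4235)])))
(Tr.nd (nat_lit 4238) (Tr.lf (Fc.ed (nat_lit 4237) (nat_lit 1397) Col.d (nat_lit 1048) (Dv.wd (nat_lit 28) [Mv.b (nat_lit 3253), Mv.f (nat_lit 2948), Mv.f (nat_lit 4235)])))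
(Tr.lf (Fc.ed (nat_lit 4238) (nat_lit 1397) Col.f (nat_lit 1394) (Dv.wd (nat_lit 35) [Mv.b (nat_lit 4228), Mv.f (nat_lit 2039), Mv.f (nat_lit 4235)])))))))
(Tr.nd (nat_lit 4244) (Tr.nd (nat_lit 4241) (Tr.nd (nat_lit 4240) (Tr.lf (Fc.ed (nat_lit 4239) (nat_lit 1397) Col.b (nat_lit 1397) (Dv.wd (nat_lit 65) [Mv.b (nat_lit 4235), Mv.b (nat_lit 2024), Mv.f (nat_lit 1651), Mv.f (nat_lit 2024), Mv.f (nat_lit 4235)])))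
(Tr.lf (Fc.ed (nat_lit 4240) (nat_lit 619) Col.e (nat_lit 1398) Dv.df)))
(Tr.nd (nat_lit 4242) (Tr.lf (Fc.ed (nat_lit 4241) (nat_lit 1398) Col.b (nat_lit 1389) (Dv.wd (nat_lit 49) [Mv.b (nat_lit 4215), Mv.f (nat_lit 1661), Mv.f (nat_lit 4240)])))
(Tr.nd (nat_lit 4243) (Tr.lf (Fc.ed (nat_lit 4242) (nat_lit 1398) Col.d (nat_lit 1386) (Dv.wd (nat_lit 59) [Mv.b (nat_lit 4207), Mv.f (nat_lit 2170), Mv.b (nat_lit 763), Mv.b (nat_lit 1662), Mv.f (nat_lit 4240)])))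
(Tr.lf (Fc.ed (nat_lit 4243) (nat_lit 672) Col.a (nat_lit 1399) Dv.df)))))
(Tr.nd (nat_lit 4246) (Tr.nd (nat_lit 4245) (Tr.lf (Fc.ed (nat_lit 4244) (nat_lit 1374) Col.gi (nat_lit 1400) Dv.df))
(Tr.lf (Fc.ed (nat_lit 4245) (nat_lit 1400) Col.gi (nat_lit 1140) (Dv.wd (nat_lit 24) [Mv.b (nat_lit 3496), Mv.f (nat_lit 4181), Mv.f (nat_lit 4244)]))))
(Tr.nd (nat_lit 4247) (Tr.lf (Fc.ed (nat_lit 4246) (nat_lit 1134) Col.d (nat_lit 1401) Dv.df))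
(Tr.nd (nat_lit 4248) (Tr.lf (Fc.ed (nat_lit 4247) (nat_lit 1401) Col.f (nat_lit 1279) (Dv.wd (nat_lit 11) [Mv.b (nat_lit 3908), Mv.f (nat_lit 3878), Mv.f (nat_lit 4246)])))
(Tr.lf (Fc.ed (nat_lit 4248) (nat_lit 975) Col.b (nat_lit 1402) Dv.df)))))))
(Tr.nd (nat_lit 4259) (Tr.nd (nat_lit 4254) (Tr.nd (nat_lit 4251) (Tr.nd (nat_lit 4250) (Tr.lf (Fc.ed (nat_lit 4249) (nat_lit 1402) Col.e (nat_lit 1338) (Dv.wd (nat_lit 52) [Mv.b (nat_lit 4089), Mv.f (nat_lit 4092), Mv.f (nat_lit 4248)])))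
(Tr.lf (Fc.ed (nat_lit 4250) (nat_lit 821) Col.d (nat_lit 1403) Dv.df)))
(Tr.nd (nat_lit 4252) (Tr.lf (Fc.ed (nat_lit 4251) (nat_lit 1403) Col.b (nat_lit 722) (Dv.wd (nat_lit 37) [Mv.f (nat_lit 2110), Mv.b (nat_lit 2349), Mv.f (nat_lit 4250)])))
(Tr.nd (nat_lit 4253) (Tr.lf (Fc.ed (nat_lit 4252) (nat_lit 1403) Col.f (nat_lit 1403) (Dv.wd (nat_lit 11) [Mv.b (nat_lit 4250), Mv.f (nat_lit 2347), Mv.f (nat_lit 4250)])))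
(Tr.lf (Fc.ed (nat_lit 4253) (nat_lit 1403) Col.g (nat_lit 1359) (Dv.wd (nat_lit 55) [Mv.b (nat_lit 4141), Mv.f (nat_lit 2394), Mv.f (nat_lit 2397), Mv.f (nat_lit 1176), Mv.f (nat_lit 2364), Mv.b (nat_lit 3813), Mv.f (nat_lit 3811), Mv.f (nat_lit 2269), Mv.b (nat_lit 2348), Mv.f (nat_lit 4250)]))))))
(Tr.nd (nat_lit 4256) (Tr.nd (nat_lit 4255) (Tr.lf (Fc.ed (nat_lit 4254) (nat_lit 1125) Col.g (nat_lit 1403) (Dv.wd (nat_lit 17) [Mv.f (nat_lit 4253), Mv.f (nat_lit 4142), Mv.f (nat_lit 3467)])))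
(Tr.lf (Fc.ed (nat_lit 4255) (nat_lit 895) Col.gi (nat_lit 1404) Dv.df)))
(Tr.nd (nat_lit 4257) (Tr.lf (Fc.ed (nat_lit 4256) (nat_lit 1375) Col.gi (nat_lit 1405) Dv.df))
(Tr.nd (nat_lit 4258) (Tr.lf (Fc.ed (nat_lit 4257) (nat_lit 1405) Col.gi (nat_lit 1375) (Dv.wd (nat_lit 24) [Mv.f (nat_lit 4186), Mv.f (nat_lit 4187), Mv.f (nat_lit 4256)])))
(Tr.lf (Fc.ed (nat_lit 4258) (nat_lit 1405) Col.c (nat_lit 1405) (Dv.wd (nat_lit 94) [Mv.f (nat_lit 4257), Mv.b (nat_lit 4184), Mv.f (nat_lit 1293), Mv.f (nat_lit 1271), Mv.f (nat_lit 1059), Mv.f (nat_lit 1062), Mv.f (nat_lit 1291), Mv.f (nat_lit 4184), Mv.f (nat_lit 4188), Mv.f (nat_lit 4256)])))))))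
(Tr.nd (nat_lit 4264) (Tr.nd (nat_lit 4261) (Tr.nd (nat_lit 4260) (Tr.lf (Fc.ed (nat_lit 4259) (nat_lit 1379) Col.b (nat_lit 1405) (Dv.wd (nat_lit 104) [Mv.f (nat_lit 4258), Mv.b (nat_lit 4256), Mv.f (nat_lit 4188), Mv.b (nat_lit 4184), Mv.b (nat_lit 1291), Mv.b (nat_lit 860), Mv.b (nat_lit 429), Mv.f (nat_lit 1162), Mv.f (nat_lit 2419), Mv.f (nat_lit 4194)])))
(Tr.lf (Fc.ed (nat_lit 4260) (nat_lit 1364) Col.g (nat_lit 1406) Dv.df)))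
(Tr.nd (nat_lit 4262) (Tr.lf (Fc.ed (nat_lit 4261) (nat_lit 1406) Col.e (nat_lit 1331) (Dv.wd (nat_lit 47) [Mv.b (nat_lit 4019), Mv.f (nat_lit 3358), Mv.f (nat_lit 1555), Mv.b (nat_lit 1863), Mv.b (nat_lit 1102), Mv.b (nat_lit 786), Mv.b (nat_lit 1095), Mv.b (nat_lit 902), Mv.f (nat_lit 4157), Mv.f (nat_lit 4260)])))
(Tr.nd (nat_lit 4263) (Tr.lf (Fc.ed (nat_lit 4262) (nat_lit 139) Col.b (nat_lit 1407) Dv.df))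
(Tr.lf (Fc.ed (nat_lit 4263) (nat_lit 1407) Col.e (nat_lit 1302) (Dv.wd (nat_lit 52) [Mv.b (nat_lit 3963), Mv.f (nat_lit 3508), Mv.f (nat_lit 4262)]))))))
(Tr.nd (nat_lit 4267) (Tr.nd (nat_lit 4265) (Tr.lf (Fc.ed (nat_lit 4264) (nat_lit 1407) Col.f (nat_lit 1407) (Dv.wd (nat_lit 20) [Mv.b (nat_lit 4262), Mv.f (nat_lit 1710), Mv.f (nat_lit 4262)])))
(Tr.nd (nat_lit 4266) (Tr.lf (Fc.ed (nat_lit 4265) (nat_lit 960) Col.e (nat_lit 1408) Dv.df))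
(Tr.lf (Fc.ed (nat_lit 4266) (nat_lit 1264) Col.f (nat_lit 1409) Dv.df))))
(Tr.nd (nat_lit 4268) (Tr.lf (Fc.ed (nat_lit 4267) (nat_lit 1409) Col.a (nat_lit 1409) (Dv.wd (nat_lit 16) [Mv.b (nat_lit 4266), Mv.f (nat_lit 3871), Mv.f (nat_lit 4266)])))
(Tr.nd (nat_lit 4269) (Tr.lf (Fc.ed (nat_lit 4268) (nat_lit 48) Col.b (nat_lit 1410) Dv.df))
(Tr.lf (Fc.ed (nat_lit 4269) (nat_lit 1410) Col.e (nat_lit 1316) (Dv.wd (nat_lit 52) [Mv.b (nat_lit 3988), Mv.b (nat_lit 1768), Mv.f (nat_lit 4268)]))))))))))))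
(Tr.nd (nat_lit 4434) (Tr.nd (nat_lit 4352) (Tr.nd (nat_lit 4311) (Tr.nd (nat_lit 4290) (Tr.nd (nat_lit 4280) (Tr.nd (nat_lit 4275) (Tr.nd (nat_lit 4272) (Tr.nd (nat_lit 4271) (Tr.lf (Fc.ed (nat_lit 4270) (nat_lit 1410) Col.f (nat_lit 1410) (Dv.wd (nat_lit 20) [Mv.b (nat_lit 4268), Mv.f (nat_lit 1774), Mv.f (nat_lit 4268)])))
(Tr.lf (Fc.ed (nat_lit 4271) (nat_lit 757) Col.b (nat_lit 1411) Dv.df)))
(Tr.nd (nat_lit 4273) (Tr.lf (Fc.ed (nat_lit 4272) (nat_lit 1411) Col.e (nat_lit 1279) (Dv.wd (nat_lit 52) [Mv.f (nat_lit 3909), Mv.f (nat_lit 2187), Mv.f (nat_lit 4271)])))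
(Tr.nd (nat_lit 4274) (Tr.lf (Fc.ed (nat_lit 4273) (nat_lit 751) Col.b (nat_lit 1412) Dv.df))
(Tr.lf (Fc.ed (nat_lit 4274) (nat_lit 1412) Col.f (nat_lit 1380) (Dv.wd (nat_lit 20) [Mv.b (nat_lit 4195), Mv.f (nat_lit 2653), Mv.f (nat_lit 4273)]))))))
(Tr.nd (nat_lit 4277) (Tr.nd (nat_lit 4276) (Tr.lf (Fc.ed (nat_lit 4275) (nat_lit 1136) Col.d (nat_lit 1413) Dv.df))
(Tr.lf (Fc.ed (nat_lit 4276) (nat_lit 1413) Col.a (nat_lit 1413) (Dv.wd (nat_lit 8) [Mv.b (nat_lit 4275), Mv.f (nat_lit 4108), Mv.f (nat_lit 4275)]))))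
(Tr.nd (nat_lit 4278) (Tr.lf (Fc.ed (nat_lit 4277) (nat_lit 1413) Col.e (nat_lit 1349) (Dv.wd (nat_lit 42) [Mv.f (nat_lit 4123), Mv.b (nat_lit 4092), Mv.b (nat_lit 3469), Mv.b (nat_lit 3486), Mv.f (nat_lit 4275)])))
(Tr.nd (nat_lit 4279) (Tr.lf (Fc.ed (nat_lit 4278) (nat_lit 1189) Col.b (nat_lit 1414) Dv.df))
(Tr.lf (Fc.ed (nat_lit 4279) (nat_lit 1414) Col.e (nat_lit 699) (Dv.wd (nat_lit 52) [Mv.f (nat_lit 2048), Mv.b (nat_lit 3664), Mv.f (nat_lit 4278)])))))))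
(Tr.nd (nat_lit 4285) (Tr.nd (nat_lit 4282) (Tr.nd (nat_lit 4281) (Tr.lf (Fc.ed (nat_lit 4280) (nat_lit 1149) Col.gi (nat_lit 1415) Dv.df))
(Tr.lf (Fc.ed (nat_lit 4281) (nat_lit 1415) Col.gi (nat_lit 1113) (Dv.wd (nat_lit 24) [Mv.f (nat_lit 3538), Mv.f (nat_lit 3539), Mv.f (nat_lit 4280)]))))
(Tr.nd (nat_lit 4283) (Tr.lf (Fc.ed (nat_lit 4282) (nat_lit 1415) Col.f (nat_lit 1262) (Dv.wd (nat_lit 13) [Mv.f (nat_lit 3865), Mv.b (nat_lit 3867), Mv.f (nat_lit 4280)])))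
(Tr.nd (nat_lit 4284) (Tr.lf (Fc.ed (nat_lit 4283) (nat_lit 1415) Col.c (nat_lit 1142) (Dv.wd (nat_lit 81) [Mv.f (nat_lit 3507), Mv.b (nat_lit 947), Mv.b (nat_lit 3473), Mv.b (nat_lit 3672), Mv.b (nat_lit 3561), Mv.b (nat_lit 3314), Mv.f (nat_lit 3457), Mv.b (nat_lit 3540), Mv.f (nat_lit 4280)])))
(Tr.lf (Fc.ed (nat_lit 4284) (nat_lit 988) Col.f (nat_lit 1416) Dv.df)))))
(Tr.nd (nat_lit 4287) (Tr.nd (nat_lit 4286) (Tr.lf (Fc.ed (nat_lit 4285) (nat_lit 1416) Col.a (nat_lit 1081) (Dv.wd (nat_lit 16) [Mv.b (nat_lit 3339), Mv.b (nat_lit 3097), Mv.f (nat_lit 4284)])))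
(Tr.lf (Fc.ed (nat_lit 4286) (nat_lit 1416) Col.d (nat_lit 1416) (Dv.wd (nat_lit 21) [Mv.b (nat_lit 4284), Mv.f (nat_lit 3098), Mv.f (nat_lit 4284)]))))
(Tr.nd (nat_lit 4288) (Tr.lf (Fc.ed (nat_lit 4287) (nat_lit 1416) Col.g (nat_lit 1395) (Dv.wd (nat_lit 17) [Mv.b (nat_lit 4232), Mv.b (nat_lit 3097), Mv.f (nat_lit 4284)])))
(Tr.nd (nat_lit 4289) (Tr.lf (Fc.ed (nat_lit 4288) (nat_lit 703) Col.b (nat_lit 1417) Dv.df))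
(Tr.lf (Fc.ed (nat_lit 4289) (nat_lit 1417) Col.d (nat_lit 1302) (Dv.wd (nat_lit 58) [Mv.b (nat_lit 3963), Mv.b (nat_lit 2656), Mv.f (nat_lit 4288)]))))))))
(Tr.nd (nat_lit 4300) (Tr.nd (nat_lit 4295) (Tr.nd (nat_lit 4292) (Tr.nd (nat_lit 4291) (Tr.lf (Fc.ed (nat_lit 4290) (nat_lit 1357) Col.f (nat_lit 1418) Dv.df))
(Tr.lf (Fc.ed (nat_lit 4291) (nat_lit 1418) Col.e (nat_lit 1418) (Dv.wd (nat_lit 22) [Mv.b (nat_lit 4290), Mv.b (nat_lit 4139), Mv.f (nat_lit 1985), Mv.f (nat_lit 4139), Mv.f (nat_lit 4290)]))))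
(Tr.nd (nat_lit 4293) (Tr.lf (Fc.ed (nat_lit 4292) (nat_lit 861) Col.a (nat_lit 1419) Dv.df))
(Tr.nd (nat_lit 4294) (Tr.lf (Fc.ed (nat_lit 4293) (nat_lit 677) Col.g (nat_lit 1420) Dv.df))
(Tr.lf (Fc.ed (nat_lit 4294) (nat_lit 1420) Col.g (nat_lit 738) (Dv.wd (nat_lit 9) [Mv.b (nat_lit 3052), Mv.f (nat_lit 3054), Mv.f (nat_lit 4293)]))))))
(Tr.nd (nat_lit 4297) (Tr.nd (nat_lit 4296) (Tr.lf (Fc.ed (nat_lit 4295) (nat_lit 656) Col.e (nat_lit 1421) Dv.df))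
(Tr.lf (Fc.ed (nat_lit 4296) (nat_lit 1421) Col.a (nat_lit 1398) (Dv.wd (nat_lit 15) [Mv.b (nat_lit 4240), Mv.b (nat_lit 1934), Mv.f (nat_lit 4295)]))))
(Tr.nd (nat_lit 4298) (Tr.lf (Fc.ed (nat_lit 4297) (nat_lit 1421) Col.b (nat_lit 1328) (Dv.wd (nat_lit 49) [Mv.b (nat_lit 4014), Mv.f (nat_lit 3288), Mv.f (nat_lit 4295)])))
(Tr.nd (nat_lit 4299) (Tr.lf (Fc.ed (nat_lit 4298) (nat_lit 827) Col.gi (nat_lit 1422) Dv.df))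
(Tr.lf (Fc.ed (nat_lit 4299) (nat_lit 1422) Col.gi (nat_lit 1060) (Dv.wd (nat_lit 24) [Mv.b (nat_lit 3676), Mv.f (nat_lit 3674), Mv.f (nat_lit 4298)])))))))
(Tr.nd (nat_lit 4305) (Tr.nd (nat_lit 4302) (Tr.nd (nat_lit 4301) (Tr.lf (Fc.ed (nat_lit 4300) (nat_lit 1334) Col.a (nat_lit 1422) (Dv.wd (nat_lit 23) [Mv.f (nat_lit 4299), Mv.b (nat_lit 3812), Mv.b (nat_lit 4029)])))
(Tr.lf (Fc.ed (nat_lit 4301) (nat_lit 654) Col.g (nat_lit 1423) Dv.df)))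
(Tr.nd (nat_lit 4303) (Tr.lf (Fc.ed (nat_lit 4302) (nat_lit 1423) Col.g (nat_lit 1367) (Dv.wd (nat_lit 9) [Mv.b (nat_lit 4166), Mv.b (nat_lit 1952), Mv.f (nat_lit 4301)])))
(Tr.nd (nat_lit 4304) (Tr.lf (Fc.ed (nat_lit 4303) (nat_lit 683) Col.d (nat_lit 1424) Dv.df))
(Tr.lf (Fc.ed (nat_lit 4304) (nat_lit 1424) Col.a (nat_lit 1249) (Dv.wd (nat_lit 8) [Mv.f (nat_lit 3839), Mv.f (nat_lit 2003), Mv.f (nat_lit 4303)]))))))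
(Tr.nd (nat_lit 4308) (Tr.nd (nat_lit 4306) (Tr.lf (Fc.ed (nat_lit 4305) (nat_lit 1424) Col.b (nat_lit 810) (Dv.wd (nat_lit 37) [Mv.b (nat_lit 2318), Mv.f (nat_lit 2005), Mv.f (nat_lit 4303)])))
(Tr.nd (nat_lit 4307) (Tr.lf (Fc.ed (nat_lit 4306) (nat_lit 1424) Col.f (nat_lit 924) (Dv.wd (nat_lit 11) [Mv.f (nat_lit 2939), Mv.b (nat_lit 2004), Mv.f (nat_lit 4303)])))
(Tr.lf (Fc.ed (nat_lit 4307) (nat_lit 1424) Col.gi (nat_lit 1383) (Dv.wd (nat_lit 71) [Mv.f (nat_lit 4201), Mv.f (nat_lit 3260), Mv.b (nat_lit 3257), Mv.f (nat_lit 1897), Mv.b (nat_lit 3286), Mv.f (nat_lit 3404), Mv.b (nat_lit 3400), Mv.b (nat_lit 2267), Mv.f (nat_lit 2226), Mv.f (nat_lit 4303)])))))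
(Tr.nd (nat_lit 4309) (Tr.lf (Fc.ed (nat_lit 4308) (nat_lit 1321) Col.gi (nat_lit 1425) Dv.df))
(Tr.nd (nat_lit 4310) (Tr.lf (Fc.ed (nat_lit 4309) (nat_lit 529) Col.g (nat_lit 1426) Dv.df))
(Tr.lf (Fc.ed (nat_lit 4310) (nat_lit 1426) Col.g (nat_lit 1137) (Dv.wd (nat_lit 9) [Mv.b (nat_lit 3487), Mv.f (nat_lit 1263), Mv.f (nat_lit 4309)])))))))))
(Tr.nd (nat_lit 4331) (Tr.nd (nat_lit 4321) (Tr.nd (nat_lit 4316) (Tr.nd (nat_lit 4313) (Tr.nd (nat_lit 4312) (Tr.lf (Fc.ed (nat_lit 4311) (nat_lit 1018) Col.g (nat_lit 1427) Dv.df))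
(Tr.lf (Fc.ed (nat_lit 4312) (nat_lit 1427) Col.g (nat_lit 1214) (Dv.wd (nat_lit 9) [Mv.f (nat_lit 3740), Mv.b (nat_lit 3739), Mv.f (nat_lit 4311)]))))
(Tr.nd (nat_lit 4314) (Tr.lf (Fc.ed (nat_lit 4313) (nat_lit 1427) Col.e (nat_lit 1341) (Dv.wd (nat_lit 47) [Mv.b (nat_lit 4047), Mv.f (nat_lit 3653), Mv.f (nat_lit 974), Mv.f (nat_lit 973), Mv.f (nat_lit 626), Mv.f (nat_lit 628), Mv.b (nat_lit 592), Mv.f (nat_lit 726), Mv.f (nat_lit 3184), Mv.f (nat_lit 4311)])))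
(Tr.nd (nat_lit 4315) (Tr.lf (Fc.ed (nat_lit 4314) (nat_lit 1427) Col.a (nat_lit 1427) (Dv.wd (nat_lit 31) [Mv.f (nat_lit 4313), Mv.f (nat_lit 4048), Mv.b (nat_lit 4313)])))
(Tr.lf (Fc.ed (nat_lit 4315) (nat_lit 1406) Col.c (nat_lit 1427) (Dv.wd (nat_lit 109) [Mv.f (nat_lit 4313), Mv.f (nat_lit 4049), Mv.b (nat_lit 4261)]))))))
(Tr.nd (nat_lit 4318) (Tr.nd (nat_lit 4317) (Tr.lf (Fc.ed (nat_lit 4316) (nat_lit 1197) Col.f (nat_lit 1428) Dv.df))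
(Tr.lf (Fc.ed (nat_lit 4317) (nat_lit 1428) Col.b (nat_lit 414) (Dv.wd (nat_lit 66) [Mv.b (nat_lit 2647), Mv.f (nat_lit 3686), Mv.f (nat_lit 4316)]))))
(Tr.nd (nat_lit 4319) (Tr.lf (Fc.ed (nat_lit 4318) (nat_lit 1421) Col.c (nat_lit 1429) Dv.df))
(Tr.nd (nat_lit 4320) (Tr.lf (Fc.ed (nat_lit 4319) (nat_lit 642) Col.d (nat_lit 1430) Dv.df))
(Tr.lf (Fc.ed (nat_lit 4320) (nat_lit 1430) Col.a (nat_lit 1230) (Dv.wd (nat_lit 8) [Mv.f (nat_lit 3794), Mv.f (nat_lit 3259), Mv.f (nat_lit 4319)])))))))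
(Tr.nd (nat_lit 4326) (Tr.nd (nat_lit 4323) (Tr.nd (nat_lit 4322) (Tr.lf (Fc.ed (nat_lit 4321) (nat_lit 1430) Col.b (nat_lit 960) (Dv.wd (nat_lit 37) [Mv.f (nat_lit 3027), Mv.b (nat_lit 1889), Mv.f (nat_lit 4319)])))
(Tr.lf (Fc.ed (nat_lit 4322) (nat_lit 1424) Col.g (nat_lit 1430) (Dv.wd (nat_lit 122) [Mv.f (nat_lit 4321), Mv.f (nat_lit 3491), Mv.f (nat_lit 3493), Mv.b (nat_lit 3239), Mv.f (nat_lit 2931), Mv.f (nat_lit 2932), Mv.b (nat_lit 3397), Mv.b (nat_lit 3396), Mv.b (nat_lit 3036), Mv.b (nat_lit 4305)]))))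
(Tr.nd (nat_lit 4324) (Tr.lf (Fc.ed (nat_lit 4323) (nat_lit 1346) Col.gi (nat_lit 1430) (Dv.wd (nat_lit 100) [Mv.f (nat_lit 4321), Mv.f (nat_lit 3491), Mv.f (nat_lit 3494), Mv.b (nat_lit 3036), Mv.b (nat_lit 2354), Mv.f (nat_lit 2353), Mv.f (nat_lit 3021), Mv.b (nat_lit 3449), Mv.b (nat_lit 3445), Mv.b (nat_lit 4115)])))
(Tr.nd (nat_lit 4325) (Tr.lf (Fc.ed (nat_lit 4324) (nat_lit 693) Col.b (nat_lit 1431) Dv.df))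
(Tr.lf (Fc.ed (nat_lit 4325) (nat_lit 1431) Col.d (nat_lit 992) (Dv.wd (nat_lit 58) [Mv.f (nat_lit 3119), Mv.b (nat_lit 2035), Mv.f (nat_lit 4324)]))))))
(Tr.nd (nat_lit 4328) (Tr.nd (nat_lit 4327) (Tr.lf (Fc.ed (nat_lit 4326) (nat_lit 1311) Col.d (nat_lit 1432) Dv.df))
(Tr.lf (Fc.ed (nat_lit 4327) (nat_lit 1432) Col.f (nat_lit 1151) (Dv.wd (nat_lit 11) [Mv.b (nat_lit 3847), Mv.f (nat_lit 3980), Mv.f (nat_lit 4326)]))))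
(Tr.nd (nat_lit 4329) (Tr.lf (Fc.ed (nat_lit 4328) (nat_lit 1030) Col.gi (nat_lit 1432) (Dv.wd (nat_lit 24) [Mv.f (nat_lit 4327), Mv.f (nat_lit 3697), Mv.b (nat_lit 3548)])))
(Tr.nd (nat_lit 4330) (Tr.lf (Fc.ed (nat_lit 4329) (nat_lit 1284) Col.d (nat_lit 1433) Dv.df))
(Tr.lf (Fc.ed (nat_lit 4330) (nat_lit 784) Col.e (nat_lit 1434) Dv.df)))))))
(Tr.nd (nat_lit 4341) (Tr.nd (nat_lit 4336) (Tr.nd (nat_lit 4333) (Tr.nd (nat_lit 4332) (Tr.lf (Fc.ed (nat_lit 4331) (nat_lit 1434) Col.a (nat_lit 1368) (Dv.wd (nat_lit 15) [Mv.f (nat_lit 4168), Mv.f (nat_lit 2248), Mv.f (nat_lit 4330)])))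
(Tr.lf (Fc.ed (nat_lit 4332) (nat_lit 1434) Col.b (nat_lit 1386) (Dv.wd (nat_lit 49) [Mv.b (nat_lit 4207), Mv.f (nat_lit 2249), Mv.f (nat_lit 4330)]))))
(Tr.nd (nat_lit 4334) (Tr.lf (Fc.ed (nat_lit 4333) (nat_lit 1434) Col.d (nat_lit 1389) (Dv.wd (nat_lit 59) [Mv.b (nat_lit 4215), Mv.b (nat_lit 1586), Mv.f (nat_lit 600), Mv.b (nat_lit 2247), Mv.f (nat_lit 4330)])))
(Tr.nd (nat_lit 4335) (Tr.lf (Fc.ed (nat_lit 4334) (nat_lit 687) Col.a (nat_lit 1435) Dv.df))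
(Tr.lf (Fc.ed (nat_lit 4335) (nat_lit 1435) Col.e (nat_lit 1397) (Dv.wd (nat_lit 56) [Mv.b (nat_lit 4235), Mv.f (nat_lit 2025), Mv.f (nat_lit 4334)]))))))
(Tr.nd (nat_lit 4338) (Tr.nd (nat_lit 4337) (Tr.lf (Fc.ed (nat_lit 4336) (nat_lit 667) Col.b (nat_lit 1436) Dv.df))
(Tr.lf (Fc.ed (nat_lit 4337) (nat_lit 1436) Col.d (nat_lit 848) (Dv.wd (nat_lit 58) [Mv.b (nat_lit 2419), Mv.b (nat_lit 1958), Mv.f (nat_lit 4336)]))))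
(Tr.nd (nat_lit 4339) (Tr.lf (Fc.ed (nat_lit 4338) (nat_lit 1436) Col.f (nat_lit 1436) (Dv.wd (nat_lit 20) [Mv.b (nat_lit 4336), Mv.f (nat_lit 1959), Mv.f (nat_lit 4336)])))
(Tr.nd (nat_lit 4340) (Tr.lf (Fc.ed (nat_lit 4339) (nat_lit 1424) Col.c (nat_lit 1437) Dv.df))
(Tr.lf (Fc.ed (nat_lit 4340) (nat_lit 715) Col.e (nat_lit 1438) Dv.df))))))
(Tr.nd (nat_lit 4346) (Tr.nd (nat_lit 4343) (Tr.nd (nat_lit 4342) (Tr.lf (Fc.ed (nat_lit 4341) (nat_lit 1438) Col.c (nat_lit 1389) (Dv.wd (nat_lit 18) [Mv.b (nat_lit 4215), Mv.f (nat_lit 2091), Mv.f (nat_lit 4340)])))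
(Tr.lf (Fc.ed (nat_lit 4342) (nat_lit 1187) Col.d (nat_lit 1439) Dv.df)))
(Tr.nd (nat_lit 4344) (Tr.lf (Fc.ed (nat_lit 4343) (nat_lit 1439) Col.g (nat_lit 1393) (Dv.wd (nat_lit 69) [Mv.b (nat_lit 4225), Mv.f (nat_lit 2455), Mv.b (nat_lit 3811), Mv.f (nat_lit 3813), Mv.b (nat_lit 2364), Mv.f (nat_lit 3158), Mv.b (nat_lit 3555), Mv.b (nat_lit 3660), Mv.f (nat_lit 4342)])))
(Tr.nd (nat_lit 4345) (Tr.lf (Fc.ed (nat_lit 4344) (nat_lit 1403) Col.c (nat_lit 1440) Dv.df))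
(Tr.lf (Fc.ed (nat_lit 4345) (nat_lit 1440) Col.f (nat_lit 1440) (Dv.wd (nat_lit 26) [Mv.b (nat_lit 4344), Mv.f (nat_lit 4252), Mv.f (nat_lit 4344)]))))))
(Tr.nd (nat_lit 4349) (Tr.nd (nat_lit 4347) (Tr.lf (Fc.ed (nat_lit 4346) (nat_lit 1340) Col.d (nat_lit 1441) Dv.df))
(Tr.nd (nat_lit 4348) (Tr.lf (Fc.ed (nat_lit 4347) (nat_lit 1441) Col.e (nat_lit 1196) (Dv.wd (nat_lit 42) [Mv.b (nat_lit 3685), Mv.f (nat_lit 2430), Mv.f (nat_lit 2431), Mv.f (nat_lit 4046), Mv.f (nat_lit 4346)])))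
(Tr.lf (Fc.ed (nat_lit 4348) (nat_lit 1074) Col.g (nat_lit 1442) Dv.df))))
(Tr.nd (nat_lit 4350) (Tr.lf (Fc.ed (nat_lit 4349) (nat_lit 1129) Col.f (nat_lit 1443) Dv.df))
(Tr.nd (nat_lit 4351) (Tr.lf (Fc.ed (nat_lit 4350) (nat_lit 1443) Col.a (nat_lit 1377) (Dv.wd (nat_lit 23) [Mv.f (nat_lit 4191), Mv.b (nat_lit 3475), Mv.f (nat_lit 4349)])))
(Tr.lf (Fc.ed (nat_lit 4351) (nat_lit 1435) Col.gi (nat_lit 1444) Dv.df)))))))))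
(Tr.nd (nat_lit 4393) (Tr.nd (nat_lit 4372) (Tr.nd (nat_lit 4362) (Tr.nd (nat_lit 4357) (Tr.nd (nat_lit 4354) (Tr.nd (nat_lit 4353) (Tr.lf (Fc.ed (nat_lit 4352) (nat_lit 1444) Col.gi (nat_lit 652) (Dv.wd (nat_lit 24) [Mv.f (nat_lit 2018), Mv.f (nat_lit 4334), Mv.f (nat_lit 4351)])))
(Tr.lf (Fc.ed (nat_lit 4353) (nat_lit 1250) Col.b (nat_lit 1445) Dv.df)))
(Tr.nd (nat_lit 4355) (Tr.lf (Fc.ed (nat_lit 4354) (nat_lit 1353) Col.c (nat_lit 1446) Dv.df))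
(Tr.nd (nat_lit 4356) (Tr.lf (Fc.ed (nat_lit 4355) (nat_lit 1446) Col.f (nat_lit 1446) (Dv.wd (nat_lit 26) [Mv.b (nat_lit 4354), Mv.f (nat_lit 4131), Mv.f (nat_lit 4354)])))
(Tr.lf (Fc.ed (nat_lit 4356) (nat_lit 1446) Col.d (nat_lit 1379) (Dv.wd (nat_lit 149) [Mv.b (nat_lit 4194), Mv.b (nat_lit 2419), Mv.b (nat_lit 1162), Mv.f (nat_lit 701), Mv.f (nat_lit 429), Mv.b (nat_lit 40), Mv.b (nat_lit 75), Mv.b (nat_lit 72), Mv.f (nat_lit 146), Mv.f (nat_lit 622), Mv.f (nat_lit 685), Mv.b (nat_lit 2056), Mv.f (nat_lit 2055), Mv.b (nat_lit 2048), Mv.b (nat_lit 2844), Mv.b (nat_lit 2843), Mv.f (nat_lit 3072), Mv.f (nat_lit 4130), Mv.f (nat_lit 4354)]))))))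
(Tr.nd (nat_lit 4359) (Tr.nd (nat_lit 4358) (Tr.lf (Fc.ed (nat_lit 4357) (nat_lit 1379) Col.f (nat_lit 1379) (Dv.wd (nat_lit 11) [Mv.b (nat_lit 4356), Mv.f (nat_lit 4355), Mv.f (nat_lit 4356)])))
(Tr.lf (Fc.ed (nat_lit 4358) (nat_lit 1020) Col.gi (nat_lit 1446) (Dv.wd (nat_lit 111) [Mv.f (nat_lit 4356), Mv.b (nat_lit 4194), Mv.f (nat_lit 2420), Mv.b (nat_lit 2348), Mv.f (nat_lit 4250), Mv.f (nat_lit 4253), Mv.b (nat_lit 4141), Mv.f (nat_lit 2403), Mv.f (nat_lit 3187)]))))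
(Tr.nd (nat_lit 4360) (Tr.lf (Fc.ed (nat_lit 4359) (nat_lit 1187) Col.e (nat_lit 955) (Dv.wd (nat_lit 74) [Mv.b (nat_lit 3015), Mv.f (nat_lit 2405), Mv.f (nat_lit 3187), Mv.f (nat_lit 4358), Mv.f (nat_lit 4356), Mv.b (nat_lit 4194), Mv.b (nat_lit 2453), Mv.f (nat_lit 4225), Mv.b (nat_lit 4343), Mv.b (nat_lit 4342)])))
(Tr.nd (nat_lit 4361) (Tr.lf (Fc.ed (nat_lit 4360) (nat_lit 949) Col.e (nat_lit 1213) (Dv.wd (nat_lit 25) [Mv.b (nat_lit 3737), Mv.f (nat_lit 4359), Mv.b (nat_lit 3017)])))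
(Tr.lf (Fc.ed (nat_lit 4361) (nat_lit 1187) Col.a (nat_lit 1213) (Dv.wd (nat_lit 15) [Mv.b (nat_lit 4360), Mv.f (nat_lit 3303), Mv.b (nat_lit 4359)])))))))
(Tr.nd (nat_lit 4367) (Tr.nd (nat_lit 4364) (Tr.nd (nat_lit 4363) (Tr.lf (Fc.ed (nat_lit 4362) (nat_lit 1281) Col.f (nat_lit 1187) (Dv.wd (nat_lit 13) [Mv.f (nat_lit 4361), Mv.f (nat_lit 3736), Mv.f (nat_lit 3914)])))
(Tr.lf (Fc.ed (nat_lit 4363) (nat_lit 1213) Col.f (nat_lit 1292) (Dv.wd (nat_lit 10) [Mv.f (nat_lit 3942), Mv.b (nat_lit 3660), Mv.f (nat_lit 4361)]))))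
(Tr.nd (nat_lit 4365) (Tr.lf (Fc.ed (nat_lit 4364) (nat_lit 1306) Col.a (nat_lit 1306) (Dv.wd (nat_lit 155) [Mv.f (nat_lit 3971), Mv.b (nat_lit 4361), Mv.f (nat_lit 3738), Mv.f (nat_lit 4361), Mv.b (nat_lit 3971)])))
(Tr.nd (nat_lit 4366) (Tr.lf (Fc.ed (nat_lit 4365) (nat_lit 1281) Col.a (nat_lit 1292) (Dv.wd (nat_lit 79) [Mv.b (nat_lit 4363), Mv.b (nat_lit 4361), Mv.b (nat_lit 4362)])))
(Tr.lf (Fc.ed (nat_lit 4366) (nat_lit 1388) Col.a (nat_lit 1388) (Dv.wd (nat_lit 155) [Mv.b (nat_lit 4211), Mv.b (nat_lit 4365), Mv.f (nat_lit 3943), Mv.f (nat_lit 4365), Mv.f (nat_lit 4211)]))))))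
(Tr.nd (nat_lit 4369) (Tr.nd (nat_lit 4368) (Tr.lf (Fc.ed (nat_lit 4367) (nat_lit 1306) Col.f (nat_lit 1388) (Dv.wd (nat_lit 13) [Mv.f (nat_lit 4366), Mv.f (nat_lit 4214), Mv.b (nat_lit 3973)])))
(Tr.lf (Fc.ed (nat_lit 4368) (nat_lit 1292) Col.e (nat_lit 1292) (Dv.wd (nat_lit 22) [Mv.b (nat_lit 4363), Mv.b (nat_lit 4360), Mv.f (nat_lit 3302), Mv.f (nat_lit 4360), Mv.f (nat_lit 4363)]))))
(Tr.nd (nat_lit 4370) (Tr.lf (Fc.ed (nat_lit 4369) (nat_lit 1281) Col.e (nat_lit 1281) (Dv.wd (nat_lit 56) [Mv.f (nat_lit 4365), Mv.f (nat_lit 4368), Mv.b (nat_lit 4365)])))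
(Tr.nd (nat_lit 4371) (Tr.lf (Fc.ed (nat_lit 4370) (nat_lit 1388) Col.e (nat_lit 1388) (Dv.wd (nat_lit 52) [Mv.b (nat_lit 4211), Mv.f (nat_lit 4368), Mv.f (nat_lit 4211)])))
(Tr.lf (Fc.ed (nat_lit 4371) (nat_lit 1439) Col.f (nat_lit 1350) (Dv.wd (nat_lit 11) [Mv.b (nat_lit 4125), Mv.f (nat_lit 4362), Mv.f (nat_lit 4342)]))))))))
(Tr.nd (nat_lit 4382) (Tr.nd (nat_lit 4377) (Tr.nd (nat_lit 4374) (Tr.nd (nat_lit 4373) (Tr.lf (Fc.ed (nat_lit 4372) (nat_lit 1306) Col.e (nat_lit 1065) (Dv.wd (nat_lit 52) [Mv.b (nat_lit 3294), Mv.f (nat_lit 4360), Mv.b (nat_lit 3971)])))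
(Tr.lf (Fc.ed (nat_lit 4373) (nat_lit 1446) Col.gi (nat_lit 740) (Dv.wd (nat_lit 24) [Mv.f (nat_lit 2150), Mv.b (nat_lit 3188), Mv.f (nat_lit 4358)]))))
(Tr.nd (nat_lit 4375) (Tr.lf (Fc.ed (nat_lit 4374) (nat_lit 1287) Col.b (nat_lit 1446) (Dv.wd (nat_lit 101) [Mv.f (nat_lit 4373), Mv.f (nat_lit 2149), Mv.f (nat_lit 2240), Mv.f (nat_lit 2241), Mv.f (nat_lit 2163), Mv.f (nat_lit 1992), Mv.f (nat_lit 3191), Mv.f (nat_lit 3298), Mv.b (nat_lit 4148), Mv.b (nat_lit 4147)])))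
(Tr.nd (nat_lit 4376) (Tr.lf (Fc.ed (nat_lit 4375) (nat_lit 1405) Col.d (nat_lit 1287) (Dv.wd (nat_lit 116) [Mv.f (nat_lit 4374), Mv.f (nat_lit 4356), Mv.f (nat_lit 4259)])))
(Tr.lf (Fc.ed (nat_lit 4376) (nat_lit 611) Col.b (nat_lit 1360) (Dv.wd (nat_lit 136) [Mv.b (nat_lit 4147), Mv.f (nat_lit 4374), Mv.b (nat_lit 4354), Mv.b (nat_lit 4130), Mv.f (nat_lit 3073)]))))))
(Tr.nd (nat_lit 4379) (Tr.nd (nat_lit 4378) (Tr.lf (Fc.ed (nat_lit 4377) (nat_lit 1360) Col.d (nat_lit 1375) (Dv.wd (nat_lit 58) [Mv.b (nat_lit 4184), Mv.b (nat_lit 1595), Mv.f (nat_lit 4376)])))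
(Tr.lf (Fc.ed (nat_lit 4378) (nat_lit 1360) Col.f (nat_lit 1360) (Dv.wd (nat_lit 20) [Mv.b (nat_lit 4376), Mv.f (nat_lit 1596), Mv.f (nat_lit 4376)]))))
(Tr.nd (nat_lit 4380) (Tr.lf (Fc.ed (nat_lit 4379) (nat_lit 1360) Col.a (nat_lit 1360) (Dv.wd (nat_lit 98) [Mv.b (nat_lit 4376), Mv.b (nat_lit 1969), Mv.f (nat_lit 1970), Mv.f (nat_lit 1969), Mv.f (nat_lit 4376)])))
(Tr.nd (nat_lit 4381) (Tr.lf (Fc.ed (nat_lit 4380) (nat_lit 1160) Col.gi (nat_lit 1436) (Dv.wd (nat_lit 100) [Mv.b (nat_lit 4336), Mv.f (nat_lit 2133), Mv.f (nat_lit 2136), Mv.b (nat_lit 2091), Mv.f (nat_lit 1594), Mv.f (nat_lit 4376), Mv.b (nat_lit 4147), Mv.b (nat_lit 3930), Mv.f (nat_lit 3298), Mv.b (nat_lit 3576)])))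
(Tr.lf (Fc.ed (nat_lit 4381) (nat_lit 1287) Col.a (nat_lit 1287) (Dv.wd (nat_lit 76) [Mv.f (nat_lit 4147), Mv.f (nat_lit 4379), Mv.b (nat_lit 4147)])))))))
(Tr.nd (nat_lit 4387) (Tr.nd (nat_lit 4384) (Tr.nd (nat_lit 4383) (Tr.lf (Fc.ed (nat_lit 4382) (nat_lit 1405) Col.a (nat_lit 1405) (Dv.wd (nat_lit 54) [Mv.f (nat_lit 4375), Mv.f (nat_lit 4381), Mv.b (nat_lit 4375)])))
(Tr.lf (Fc.ed (nat_lit 4383) (nat_lit 1390) Col.f (nat_lit 1390) (Dv.wd (nat_lit 26) [Mv.f (nat_lit 4218), Mv.f (nat_lit 4357), Mv.b (nat_lit 4218)]))))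
(Tr.nd (nat_lit 4385) (Tr.lf (Fc.ed (nat_lit 4384) (nat_lit 1390) Col.a (nat_lit 1379) (Dv.wd (nat_lit 23) [Mv.b (nat_lit 4194), Mv.f (nat_lit 4217), Mv.f (nat_lit 4383)])))
(Tr.nd (nat_lit 4386) (Tr.lf (Fc.ed (nat_lit 4385) (nat_lit 727) Col.b (nat_lit 1447) Dv.df))
(Tr.lf (Fc.ed (nat_lit 4386) (nat_lit 1447) Col.c (nat_lit 1447) (Dv.wd (nat_lit 93) [Mv.b (nat_lit 4385), Mv.b (nat_lit 2118), Mv.f (nat_lit 1977), Mv.f (nat_lit 2118), Mv.f (nat_lit 4385)]))))))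
(Tr.nd (nat_lit 4390) (Tr.nd (nat_lit 4388) (Tr.lf (Fc.ed (nat_lit 4387) (nat_lit 1288) Col.b (nat_lit 1448) Dv.df))
(Tr.nd (nat_lit 4389) (Tr.lf (Fc.ed (nat_lit 4388) (nat_lit 1448) Col.e (nat_lit 1403) (Dv.wd (nat_lit 52) [Mv.f (nat_lit 4251), Mv.f (nat_lit 3932), Mv.f (nat_lit 4387)])))
(Tr.lf (Fc.ed (nat_lit 4389) (nat_lit 1153) Col.d (nat_lit 1449) Dv.df))))
(Tr.nd (nat_lit 4391) (Tr.lf (Fc.ed (nat_lit 4390) (nat_lit 1449) Col.b (nat_lit 1383) (Dv.wd (nat_lit 37) [Mv.f (nat_lit 4201), Mv.f (nat_lit 3551), Mv.f (nat_lit 4389)])))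
(Tr.nd (nat_lit 4392) (Tr.lf (Fc.ed (nat_lit 4391) (nat_lit 695) Col.g (nat_lit 1450) Dv.df))
(Tr.lf (Fc.ed (nat_lit 4392) (nat_lit 1450) Col.g (nat_lit 1397) (Dv.wd (nat_lit 9) [Mv.b (nat_lit 4235), Mv.b (nat_lit 2039), Mv.f (nat_lit 4391)])))))))))
(Tr.nd (nat_lit 4413) (Tr.nd (nat_lit 4403) (Tr.nd (nat_lit 4398) (Tr.nd (nat_lit 4395) (Tr.nd (nat_lit 4394) (Tr.lf (Fc.ed (nat_lit 4393) (nat_lit 968) Col.gi (nat_lit 1451) Dv.df))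
(Tr.lf (Fc.ed (nat_lit 4394) (nat_lit 1451) Col.gi (nat_lit 1062) (Dv.wd (nat_lit 24) [Mv.f (nat_lit 3287), Mv.b (nat_lit 3285), Mv.f (nat_lit 4393)]))))
(Tr.nd (nat_lit 4396) (Tr.lf (Fc.ed (nat_lit 4395) (nat_lit 1102) Col.a (nat_lit 1451) (Dv.wd (nat_lit 23) [Mv.f (nat_lit 4394), Mv.f (nat_lit 3404), Mv.f (nat_lit 3402)])))
(Tr.nd (nat_lit 4397) (Tr.lf (Fc.ed (nat_lit 4396) (nat_lit 1330) Col.e (nat_lit 1452) Dv.df))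
(Tr.lf (Fc.ed (nat_lit 4397) (nat_lit 1302) Col.g (nat_lit 1453) Dv.df)))))
(Tr.nd (nat_lit 4400) (Tr.nd (nat_lit 4399) (Tr.lf (Fc.ed (nat_lit 4398) (nat_lit 996) Col.a (nat_lit 1454) Dv.df))
(Tr.lf (Fc.ed (nat_lit 4399) (nat_lit 1454) Col.f (nat_lit 1301) (Dv.wd (nat_lit 35) [Mv.b (nat_lit 3962), Mv.f (nat_lit 3345), Mv.f (nat_lit 4398)]))))
(Tr.nd (nat_lit 4401) (Tr.lf (Fc.ed (nat_lit 4400) (nat_lit 593) Col.b (nat_lit 1455) Dv.df))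
(Tr.nd (nat_lit 4402) (Tr.lf (Fc.ed (nat_lit 4401) (nat_lit 1455) Col.d (nat_lit 905) (Dv.wd (nat_lit 58) [Mv.b (nat_lit 2880), Mv.b (nat_lit 2661), Mv.f (nat_lit 4400)])))
(Tr.lf (Fc.ed (nat_lit 4402) (nat_lit 697) Col.e (nat_lit 1456) Dv.df))))))
(Tr.nd (nat_lit 4408) (Tr.nd (nat_lit 4405) (Tr.nd (nat_lit 4404) (Tr.lf (Fc.ed (nat_lit 4403) (nat_lit 1456) Col.d (nat_lit 1456) (Dv.wd (nat_lit 59) [Mv.b (nat_lit 4402), Mv.f (nat_lit 2043), Mv.f (nat_lit 1826), Mv.b (nat_lit 2043), Mv.f (nat_lit 4402)])))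
(Tr.lf (Fc.ed (nat_lit 4404) (nat_lit 1294) Col.b (nat_lit 1457) Dv.df)))
(Tr.nd (nat_lit 4406) (Tr.lf (Fc.ed (nat_lit 4405) (nat_lit 1457) Col.c (nat_lit 436) (Dv.wd (nat_lit 93) [Mv.b (nat_lit 1002), Mv.f (nat_lit 296), Mv.f (nat_lit 1583), Mv.f (nat_lit 3947), Mv.f (nat_lit 4404)])))
(Tr.nd (nat_lit 4407) (Tr.lf (Fc.ed (nat_lit 4406) (nat_lit 1394) Col.d (nat_lit 1458) Dv.df))
(Tr.lf (Fc.ed (nat_lit 4407) (nat_lit 1458) Col.a (nat_lit 778) (Dv.wd (nat_lit 8) [Mv.b (nat_lit 2232), Mv.f (nat_lit 4228), Mv.f (nat_lit 4406)]))))))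
(Tr.nd (nat_lit 4410) (Tr.nd (nat_lit 4409) (Tr.lf (Fc.ed (nat_lit 4408) (nat_lit 1458) Col.f (nat_lit 1048) (Dv.wd (nat_lit 11) [Mv.b (nat_lit 4237), Mv.f (nat_lit 4238), Mv.f (nat_lit 4406)])))
(Tr.lf (Fc.ed (nat_lit 4409) (nat_lit 968) Col.c (nat_lit 1459) Dv.df)))
(Tr.nd (nat_lit 4411) (Tr.lf (Fc.ed (nat_lit 4410) (nat_lit 633) Col.d (nat_lit 1460) Dv.df))
(Tr.nd (nat_lit 4412) (Tr.lf (Fc.ed (nat_lit 4411) (nat_lit 1460) Col.a (nat_lit 1449) (Dv.wd (nat_lit 8) [Mv.b (nat_lit 4389), Mv.f (nat_lit 3554), Mv.f (nat_lit 4410)])))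
(Tr.lf (Fc.ed (nat_lit 4412) (nat_lit 1460) Col.b (nat_lit 922) (Dv.wd (nat_lit 37) [Mv.f (nat_lit 2933), Mv.f (nat_lit 1744), Mv.f (nat_lit 4410)]))))))))
(Tr.nd (nat_lit 4423) (Tr.nd (nat_lit 4418) (Tr.nd (nat_lit 4415) (Tr.nd (nat_lit 4414) (Tr.lf (Fc.ed (nat_lit 4413) (nat_lit 1460) Col.f (nat_lit 1300) (Dv.wd (nat_lit 11) [Mv.b (nat_lit 3960), Mv.f (nat_lit 2116), Mv.f (nat_lit 4410)])))
(Tr.lf (Fc.ed (nat_lit 4414) (nat_lit 1378) Col.d (nat_lit 1461) Dv.df)))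
(Tr.nd (nat_lit 4416) (Tr.lf (Fc.ed (nat_lit 4415) (nat_lit 1461) Col.a (nat_lit 1162) (Dv.wd (nat_lit 8) [Mv.b (nat_lit 3580), Mv.f (nat_lit 4192), Mv.f (nat_lit 4414)])))
(Tr.nd (nat_lit 4417) (Tr.lf (Fc.ed (nat_lit 4416) (nat_lit 1401) Col.a (nat_lit 1462) Dv.df))
(Tr.lf (Fc.ed (nat_lit 4417) (nat_lit 400) Col.b (nat_lit 1463) Dv.df)))))
(Tr.nd (nat_lit 4420) (Tr.nd (nat_lit 4419) (Tr.lf (Fc.ed (nat_lit 4418) (nat_lit 1463) Col.f (nat_lit 1464) Dv.df))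
(Tr.lf (Fc.ed (nat_lit 4419) (nat_lit 1464) Col.b (nat_lit 739) (Dv.wd (nat_lit 66) [Mv.f (nat_lit 2147), Mv.f (nat_lit 4417), Mv.f (nat_lit 4418)]))))
(Tr.nd (nat_lit 4421) (Tr.lf (Fc.ed (nat_lit 4420) (nat_lit 1425) Col.c (nat_lit 1465) Dv.df))
(Tr.nd (nat_lit 4422) (Tr.lf (Fc.ed (nat_lit 4421) (nat_lit 1323) Col.e (nat_lit 1466) Dv.df))
(Tr.lf (Fc.ed (nat_lit 4422) (nat_lit 1466) Col.a (nat_lit 1466) (Dv.wd (nat_lit 15) [Mv.b (nat_lit 4421), Mv.f (nat_lit 4006), Mv.f (nat_lit 4421)])))))))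
(Tr.nd (nat_lit 4428) (Tr.nd (nat_lit 4425) (Tr.nd (nat_lit 4424) (Tr.lf (Fc.ed (nat_lit 4423) (nat_lit 1466) Col.c (nat_lit 1194) (Dv.wd (nat_lit 18) [Mv.b (nat_lit 3681), Mv.f (nat_lit 4005), Mv.f (nat_lit 4421)])))
(Tr.lf (Fc.ed (nat_lit 4424) (nat_lit 652) Col.a (nat_lit 1467) Dv.df)))
(Tr.nd (nat_lit 4426) (Tr.lf (Fc.ed (nat_lit 4425) (nat_lit 1467) Col.c (nat_lit 1467) (Dv.wd (nat_lit 33) [Mv.b (nat_lit 4424), Mv.f (nat_lit 1925), Mv.f (nat_lit 4424)])))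
(Tr.nd (nat_lit 4427) (Tr.lf (Fc.ed (nat_lit 4426) (nat_lit 1467) Col.e (nat_lit 1378) (Dv.wd (nat_lit 56) [Mv.b (nat_lit 4192), Mv.f (nat_lit 1929), Mv.f (nat_lit 4424)])))
(Tr.lf (Fc.ed (nat_lit 4427) (nat_lit 1467) Col.f (nat_lit 1435) (Dv.wd (nat_lit 35) [Mv.b (nat_lit 4334), Mv.b (nat_lit 2018), Mv.f (nat_lit 4424)]))))))
(Tr.nd (nat_lit 4431) (Tr.nd (nat_lit 4429) (Tr.lf (Fc.ed (nat_lit 4428) (nat_lit 1467) Col.b (nat_lit 1467) (Dv.wd (nat_lit 65) [Mv.b (nat_lit 4424), Mv.b (nat_lit 1924), Mv.f (nat_lit 1642), Mv.f (nat_lit 1924), Mv.f (nat_lit 4424)])))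
(Tr.nd (nat_lit 4430) (Tr.lf (Fc.ed (nat_lit 4429) (nat_lit 1449) Col.gi (nat_lit 1468) Dv.df))
(Tr.lf (Fc.ed (nat_lit 4430) (nat_lit 1468) Col.gi (nat_lit 1300) (Dv.wd (nat_lit 24) [Mv.b (nat_lit 4413), Mv.f (nat_lit 4411), Mv.f (nat_lit 4429)])))))
(Tr.nd (nat_lit 4432) (Tr.lf (Fc.ed (nat_lit 4431) (nat_lit 684) Col.gi (nat_lit 1469) Dv.df))
(Tr.nd (nat_lit 4433) (Tr.lf (Fc.ed (nat_lit 4432) (nat_lit 1469) Col.gi (nat_lit 909) (Dv.wd (nat_lit 24) [Mv.b (nat_lit 2887), Mv.b (nat_lit 2302), Mv.f (nat_lit 4431)])))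
(Tr.lf (Fc.ed (nat_lit 4433) (nat_lit 1139) Col.c (nat_lit 1470) Dv.df))))))))))
(Tr.nd (nat_lit 4516) (Tr.nd (nat_lit 4475) (Tr.nd (nat_lit 4454) (Tr.nd (nat_lit 4444) (Tr.nd (nat_lit 4439) (Tr.nd (nat_lit 4436) (Tr.nd (nat_lit 4435) (Tr.lf (Fc.ed (nat_lit 4434) (nat_lit 1470) Col.f (nat_lit 1056) (Dv.wd (nat_lit 26) [Mv.b (nat_lit 3311), Mv.f (nat_lit 3495), Mv.f (nat_lit 4433)])))
(Tr.lf (Fc.ed (nat_lit 4435) (nat_lit 1470) Col.b (nat_lit 763) (Dv.wd (nat_lit 87) [Mv.b (nat_lit 2200), Mv.b (nat_lit 238), Mv.f (nat_lit 784), Mv.f (nat_lit 3880), Mv.f (nat_lit 4433)]))))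
(Tr.nd (nat_lit 4437) (Tr.lf (Fc.ed (nat_lit 4436) (nat_lit 1300) Col.c (nat_lit 1471) Dv.df))
(Tr.nd (nat_lit 4438) (Tr.lf (Fc.ed (nat_lit 4437) (nat_lit 1471) Col.gi (nat_lit 1437) (Dv.wd (nat_lit 78) [Mv.b (nat_lit 4339), Mv.f (nat_lit 4307), Mv.f (nat_lit 4201), Mv.b (nat_lit 3158), Mv.f (nat_lit 1178), Mv.f (nat_lit 1888), Mv.b (nat_lit 2117), Mv.f (nat_lit 3960), Mv.f (nat_lit 4436)])))
(Tr.lf (Fc.ed (nat_lit 4438) (nat_lit 560) Col.b (nat_lit 1472) Dv.df)))))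
(Tr.nd (nat_lit 4441) (Tr.nd (nat_lit 4440) (Tr.lf (Fc.ed (nat_lit 4439) (nat_lit 1472) Col.f (nat_lit 1447) (Dv.wd (nat_lit 20) [Mv.b (nat_lit 4385), Mv.f (nat_lit 2120), Mv.f (nat_lit 4438)])))
(Tr.lf (Fc.ed (nat_lit 4440) (nat_lit 1472) Col.c (nat_lit 1472) (Dv.wd (nat_lit 93) [Mv.b (nat_lit 4438), Mv.b (nat_lit 1341), Mv.f (nat_lit 1333), Mv.f (nat_lit 1341), Mv.f (nat_lit 4438)]))))
(Tr.nd (nat_lit 4442) (Tr.lf (Fc.ed (nat_lit 4441) (nat_lit 638) Col.a (nat_lit 1473) Dv.df))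
(Tr.nd (nat_lit 4443) (Tr.lf (Fc.ed (nat_lit 4442) (nat_lit 652) Col.gi (nat_lit 1474) Dv.df))
(Tr.lf (Fc.ed (nat_lit 4443) (nat_lit 1474) Col.gi (nat_lit 1435) (Dv.wd (nat_lit 24) [Mv.b (nat_lit 4427), Mv.b (nat_lit 4424), Mv.f (nat_lit 4442)])))))))
(Tr.nd (nat_lit 4449) (Tr.nd (nat_lit 4446) (Tr.nd (nat_lit 4445) (Tr.lf (Fc.ed (nat_lit 4444) (nat_lit 664) Col.g (nat_lit 1475) Dv.df))
(Tr.lf (Fc.ed (nat_lit 4445) (nat_lit 1475) Col.g (nat_lit 1378) (Dv.wd (nat_lit 9) [Mv.b (nat_lit 4192), Mv.f (nat_lit 1952), Mv.f (nat_lit 4444)]))))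
(Tr.nd (nat_lit 4447) (Tr.lf (Fc.ed (nat_lit 4446) (nat_lit 819) Col.e (nat_lit 1476) Dv.df))
(Tr.nd (nat_lit 4448) (Tr.lf (Fc.ed (nat_lit 4447) (nat_lit 1476) Col.a (nat_lit 1258) (Dv.wd (nat_lit 15) [Mv.b (nat_lit 3857), Mv.b (nat_lit 3033), Mv.f (nat_lit 4446)])))
(Tr.lf (Fc.ed (nat_lit 4448) (nat_lit 1476) Col.b (nat_lit 1119) (Dv.wd (nat_lit 49) [Mv.b (nat_lit 3450), Mv.f (nat_lit 2341), Mv.f (nat_lit 4446)]))))))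
(Tr.nd (nat_lit 4451) (Tr.nd (nat_lit 4450) (Tr.lf (Fc.ed (nat_lit 4449) (nat_lit 1476) Col.d (nat_lit 1414) (Dv.wd (nat_lit 59) [Mv.f (nat_lit 4279), Mv.b (nat_lit 2047), Mv.f (nat_lit 1060), Mv.b (nat_lit 2342), Mv.f (nat_lit 4446)])))
(Tr.lf (Fc.ed (nat_lit 4450) (nat_lit 732) Col.e (nat_lit 1477) Dv.df)))
(Tr.nd (nat_lit 4452) (Tr.lf (Fc.ed (nat_lit 4451) (nat_lit 1477) Col.a (nat_lit 1438) (Dv.wd (nat_lit 15) [Mv.b (nat_lit 4340), Mv.b (nat_lit 2131), Mv.f (nat_lit 4450)])))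
(Tr.nd (nat_lit 4453) (Tr.lf (Fc.ed (nat_lit 4452) (nat_lit 1477) Col.c (nat_lit 1357) (Dv.wd (nat_lit 18) [Mv.b (nat_lit 4139), Mv.f (nat_lit 2130), Mv.f (nat_lit 4450)])))
(Tr.lf (Fc.ed (nat_lit 4453) (nat_lit 671) Col.e (nat_lit 1478) Dv.df)))))))
(Tr.nd (nat_lit 4464) (Tr.nd (nat_lit 4459) (Tr.nd (nat_lit 4456) (Tr.nd (nat_lit 4455) (Tr.lf (Fc.ed (nat_lit 4454) (nat_lit 1478) Col.d (nat_lit 1343) (Dv.wd (nat_lit 59) [Mv.b (nat_lit 4053), Mv.f (nat_lit 2107), Mv.b (nat_lit 1305), Mv.f (nat_lit 1968), Mv.f (nat_lit 4453)])))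
(Tr.lf (Fc.ed (nat_lit 4455) (nat_lit 776) Col.b (nat_lit 1479) Dv.df)))
(Tr.nd (nat_lit 4457) (Tr.lf (Fc.ed (nat_lit 4456) (nat_lit 1479) Col.d (nat_lit 1229) (Dv.wd (nat_lit 58) [Mv.b (nat_lit 3791), Mv.b (nat_lit 2659), Mv.f (nat_lit 4455)])))
(Tr.nd (nat_lit 4458) (Tr.lf (Fc.ed (nat_lit 4457) (nat_lit 1479) Col.f (nat_lit 1417) (Dv.wd (nat_lit 20) [Mv.b (nat_lit 4288), Mv.b (nat_lit 3514), Mv.f (nat_lit 4455)])))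
(Tr.lf (Fc.ed (nat_lit 4458) (nat_lit 932) Col.a (nat_lit 1480) Dv.df)))))
(Tr.nd (nat_lit 4461) (Tr.nd (nat_lit 4460) (Tr.lf (Fc.ed (nat_lit 4459) (nat_lit 1480) Col.d (nat_lit 1135) (Dv.wd (nat_lit 28) [Mv.b (nat_lit 3484), Mv.f (nat_lit 2955), Mv.f (nat_lit 4458)])))
(Tr.lf (Fc.ed (nat_lit 4460) (nat_lit 1480) Col.f (nat_lit 941) (Dv.wd (nat_lit 35) [Mv.b (nat_lit 2986), Mv.b (nat_lit 2957), Mv.f (nat_lit 4458)]))))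
(Tr.nd (nat_lit 4462) (Tr.lf (Fc.ed (nat_lit 4461) (nat_lit 639) Col.e (nat_lit 1481) Dv.df))
(Tr.nd (nat_lit 4463) (Tr.lf (Fc.ed (nat_lit 4462) (nat_lit 873) Col.e (nat_lit 1482) Dv.df))
(Tr.lf (Fc.ed (nat_lit 4463) (nat_lit 1482) Col.a (nat_lit 1386) (Dv.wd (nat_lit 15) [Mv.b (nat_lit 4207), Mv.b (nat_lit 2469), Mv.f (nat_lit 4462)])))))))
(Tr.nd (nat_lit 4469) (Tr.nd (nat_lit 4466) (Tr.nd (nat_lit 4465) (Tr.lf (Fc.ed (nat_lit 4464) (nat_lit 1482) Col.b (nat_lit 1347) (Dv.wd (nat_lit 49) [Mv.f (nat_lit 4118), Mv.f (nat_lit 3675), Mv.f (nat_lit 4462)])))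
(Tr.lf (Fc.ed (nat_lit 4465) (nat_lit 1482) Col.d (nat_lit 1421) (Dv.wd (nat_lit 59) [Mv.b (nat_lit 4295), Mv.b (nat_lit 1933), Mv.b (nat_lit 1733), Mv.f (nat_lit 2468), Mv.f (nat_lit 4462)]))))
(Tr.nd (nat_lit 4467) (Tr.lf (Fc.ed (nat_lit 4466) (nat_lit 667) Col.e (nat_lit 1483) Dv.df))
(Tr.nd (nat_lit 4468) (Tr.lf (Fc.ed (nat_lit 4467) (nat_lit 831) Col.d (nat_lit 1484) Dv.df))
(Tr.lf (Fc.ed (nat_lit 4468) (nat_lit 673) Col.d (nat_lit 1485) Dv.df)))))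
(Tr.nd (nat_lit 4472) (Tr.nd (nat_lit 4470) (Tr.lf (Fc.ed (nat_lit 4469) (nat_lit 1485) Col.f (nat_lit 1485) (Dv.wd (nat_lit 11) [Mv.b (nat_lit 4468), Mv.f (nat_lit 2823), Mv.f (nat_lit 4468)])))
(Tr.nd (nat_lit 4471) (Tr.lf (Fc.ed (nat_lit 4470) (nat_lit 1381) Col.a (nat_lit 1486) Dv.df))
(Tr.lf (Fc.ed (nat_lit 4471) (nat_lit 1486) Col.d (nat_lit 1304) (Dv.wd (nat_lit 28) [Mv.b (nat_lit 3966), Mv.b (nat_lit 4197), Mv.f (nat_lit 4470)])))))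
(Tr.nd (nat_lit 4473) (Tr.lf (Fc.ed (nat_lit 4472) (nat_lit 1233) Col.c (nat_lit 1487) Dv.df))
(Tr.nd (nat_lit 4474) (Tr.lf (Fc.ed (nat_lit 4473) (nat_lit 1478) Col.a (nat_lit 1488) Dv.df))
(Tr.lf (Fc.ed (nat_lit 4474) (nat_lit 1488) Col.e (nat_lit 611) (Dv.wd (nat_lit 56) [Mv.b (nat_lit 1969), Mv.f (nat_lit 4453), Mv.f (nat_lit 4473)])))))))))
(Tr.nd (nat_lit 4495) (Tr.nd (nat_lit 4485) (Tr.nd (nat_lit 4480) (Tr.nd (nat_lit 4477) (Tr.nd (nat_lit 4476) (Tr.lf (Fc.ed (nat_lit 4475) (nat_lit 1420) Col.a (nat_lit 1489) Dv.df))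
(Tr.lf (Fc.ed (nat_lit 4476) (nat_lit 1489) Col.f (nat_lit 1282) (Dv.wd (nat_lit 10) [Mv.f (nat_lit 3917), Mv.f (nat_lit 4293), Mv.f (nat_lit 4475)]))))
(Tr.nd (nat_lit 4478) (Tr.lf (Fc.ed (nat_lit 4477) (nat_lit 708) Col.g (nat_lit 1490) Dv.df))
(Tr.nd (nat_lit 4479) (Tr.lf (Fc.ed (nat_lit 4478) (nat_lit 1490) Col.g (nat_lit 1074) (Dv.wd (nat_lit 9) [Mv.f (nat_lit 3323), Mv.b (nat_lit 2079), Mv.f (nat_lit 4477)])))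
(Tr.lf (Fc.ed (nat_lit 4479) (nat_lit 691) Col.g (nat_lit 1491) Dv.df)))))
(Tr.nd (nat_lit 4482) (Tr.nd (nat_lit 4481) (Tr.lf (Fc.ed (nat_lit 4480) (nat_lit 1170) Col.c (nat_lit 1492) Dv.df))
(Tr.lf (Fc.ed (nat_lit 4481) (nat_lit 716) Col.f (nat_lit 1493) Dv.df)))
(Tr.nd (nat_lit 4483) (Tr.lf (Fc.ed (nat_lit 4482) (nat_lit 1493) Col.a (nat_lit 1493) (Dv.wd (nat_lit 16) [Mv.b (nat_lit 4481), Mv.f (nat_lit 2093), Mv.f (nat_lit 4481)])))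
(Tr.nd (nat_lit 4484) (Tr.lf (Fc.ed (nat_lit 4483) (nat_lit 1493) Col.e (nat_lit 1409) (Dv.wd (nat_lit 22) [Mv.b (nat_lit 4266), Mv.f (nat_lit 3872), Mv.f (nat_lit 844), Mv.b (nat_lit 2094), Mv.f (nat_lit 4481)])))
(Tr.lf (Fc.ed (nat_lit 4484) (nat_lit 740) Col.gi (nat_lit 1494) Dv.df))))))
(Tr.nd (nat_lit 4490) (Tr.nd (nat_lit 4487) (Tr.nd (nat_lit 4486) (Tr.lf (Fc.ed (nat_lit 4485) (nat_lit 1494) Col.gi (nat_lit 1020) (Dv.wd (nat_lit 24) [Mv.f (nat_lit 3189), Mv.f (nat_lit 3188), Mv.f (nat_lit 4484)])))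
(Tr.lf (Fc.ed (nat_lit 4486) (nat_lit 1390) Col.d (nat_lit 1494) (Dv.wd (nat_lit 113) [Mv.f (nat_lit 4485), Mv.b (nat_lit 3187), Mv.f (nat_lit 3001), Mv.f (nat_lit 3017), Mv.f (nat_lit 3016), Mv.f (nat_lit 2148), Mv.b (nat_lit 4373), Mv.f (nat_lit 4356), Mv.b (nat_lit 4218)]))))
(Tr.nd (nat_lit 4488) (Tr.lf (Fc.ed (nat_lit 4487) (nat_lit 690) Col.e (nat_lit 1495) Dv.df))
(Tr.nd (nat_lit 4489) (Tr.lf (Fc.ed (nat_lit 4488) (nat_lit 1495) Col.a (nat_lit 1483) (Dv.wd (nat_lit 15) [Mv.b (nat_lit 4466), Mv.b (nat_lit 2028), Mv.f (nat_lit 4487)])))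
(Tr.lf (Fc.ed (nat_lit 4489) (nat_lit 938) Col.a (nat_lit 1496) Dv.df)))))
(Tr.nd (nat_lit 4492) (Tr.nd (nat_lit 4491) (Tr.lf (Fc.ed (nat_lit 4490) (nat_lit 1421) Col.f (nat_lit 1497) Dv.df))
(Tr.lf (Fc.ed (nat_lit 4491) (nat_lit 862) Col.a (nat_lit 1498) Dv.df)))
(Tr.nd (nat_lit 4493) (Tr.lf (Fc.ed (nat_lit 4492) (nat_lit 1498) Col.c (nat_lit 1454) (Dv.wd (nat_lit 33) [Mv.b (nat_lit 4398), Mv.f (nat_lit 3126), Mv.f (nat_lit 4491)])))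
(Tr.nd (nat_lit 4494) (Tr.lf (Fc.ed (nat_lit 4493) (nat_lit 628) Col.d (nat_lit 1499) Dv.df))
(Tr.lf (Fc.ed (nat_lit 4494) (nat_lit 1499) Col.a (nat_lit 1383) (Dv.wd (nat_lit 8) [Mv.f (nat_lit 4201), Mv.b (nat_lit 3160), Mv.f (nat_lit 4493)]))))))))
(Tr.nd (nat_lit 4505) (Tr.nd (nat_lit 4500) (Tr.nd (nat_lit 4497) (Tr.nd (nat_lit 4496) (Tr.lf (Fc.ed (nat_lit 4495) (nat_lit 1499) Col.b (nat_lit 900) (Dv.wd (nat_lit 37) [Mv.f (nat_lit 2872), Mv.b (nat_lit 1737), Mv.f (nat_lit 4493)])))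
(Tr.lf (Fc.ed (nat_lit 4496) (nat_lit 1499) Col.f (nat_lit 1430) (Dv.wd (nat_lit 11) [Mv.b (nat_lit 4319), Mv.b (nat_lit 1891), Mv.f (nat_lit 4493)]))))
(Tr.nd (nat_lit 4498) (Tr.lf (Fc.ed (nat_lit 4497) (nat_lit 1249) Col.gi (nat_lit 1499) (Dv.wd (nat_lit 24) [Mv.f (nat_lit 4496), Mv.f (nat_lit 4320), Mv.f (nat_lit 3838)])))
(Tr.nd (nat_lit 4499) (Tr.lf (Fc.ed (nat_lit 4498) (nat_lit 1499) Col.gi (nat_lit 924) (Dv.wd (nat_lit 24) [Mv.b (nat_lit 4306), Mv.f (nat_lit 4304), Mv.f (nat_lit 4497)])))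
(Tr.lf (Fc.ed (nat_lit 4499) (nat_lit 1133) Col.e (nat_lit 1500) Dv.df)))))
(Tr.nd (nat_lit 4502) (Tr.nd (nat_lit 4501) (Tr.lf (Fc.ed (nat_lit 4500) (nat_lit 1483) Col.b (nat_lit 1501) Dv.df))
(Tr.lf (Fc.ed (nat_lit 4501) (nat_lit 1501) Col.e (nat_lit 1436) (Dv.wd (nat_lit 52) [Mv.b (nat_lit 4336), Mv.f (nat_lit 4466), Mv.f (nat_lit 4500)]))))
(Tr.nd (nat_lit 4503) (Tr.lf (Fc.ed (nat_lit 4502) (nat_lit 625) Col.gi (nat_lit 1502) Dv.df))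
(Tr.nd (nat_lit 4504) (Tr.lf (Fc.ed (nat_lit 4503) (nat_lit 1502) Col.gi (nat_lit 1199) (Dv.wd (nat_lit 24) [Mv.f (nat_lit 3692), Mv.f (nat_lit 2409), Mv.f (nat_lit 4502)])))
(Tr.lf (Fc.ed (nat_lit 4504) (nat_lit 1014) Col.gi (nat_lit 1503) Dv.df))))))
(Tr.nd (nat_lit 4510) (Tr.nd (nat_lit 4507) (Tr.nd (nat_lit 4506) (Tr.lf (Fc.ed (nat_lit 4505) (nat_lit 1503) Col.e (nat_lit 1098) (Dv.wd (nat_lit 133) [Mv.b (nat_lit 3393), Mv.b (nat_lit 3950), Mv.f (nat_lit 4018), Mv.b (nat_lit 4016), Mv.f (nat_lit 1955), Mv.f (nat_lit 1956), Mv.f (nat_lit 517), Mv.b (nat_lit 2002), Mv.f (nat_lit 3176), Mv.f (nat_lit 4504)])))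
(Tr.lf (Fc.ed (nat_lit 4506) (nat_lit 1503) Col.a (nat_lit 1503) (Dv.wd (nat_lit 31) [Mv.f (nat_lit 4505), Mv.f (nat_lit 3394), Mv.b (nat_lit 4505)]))))
(Tr.nd (nat_lit 4508) (Tr.lf (Fc.ed (nat_lit 4507) (nat_lit 1401) Col.e (nat_lit 1504) Dv.df))
(Tr.nd (nat_lit 4509) (Tr.lf (Fc.ed (nat_lit 4508) (nat_lit 1504) Col.d (nat_lit 1237) (Dv.wd (nat_lit 59) [Mv.b (nat_lit 3806), Mv.f (nat_lit 3200), Mv.b (nat_lit 3483), Mv.f (nat_lit 4246), Mv.f (nat_lit 4507)])))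
(Tr.lf (Fc.ed (nat_lit 4509) (nat_lit 1408) Col.d (nat_lit 1505) Dv.df)))))
(Tr.nd (nat_lit 4513) (Tr.nd (nat_lit 4511) (Tr.lf (Fc.ed (nat_lit 4510) (nat_lit 1505) Col.e (nat_lit 900) (Dv.wd (nat_lit 42) [Mv.f (nat_lit 2872), Mv.b (nat_lit 1606), Mv.b (nat_lit 3027), Mv.f (nat_lit 4265), Mv.f (nat_lit 4509)])))
(Tr.nd (nat_lit 4512) (Tr.lf (Fc.ed (nat_lit 4511) (nat_lit 1385) Col.f (nat_lit 1506) Dv.df))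
(Tr.lf (Fc.ed (nat_lit 4512) (nat_lit 1506) Col.a (nat_lit 1320) (Dv.wd (nat_lit 23) [Mv.f (nat_lit 4001), Mv.f (nat_lit 4205), Mv.f (nat_lit 4511)])))))
(Tr.nd (nat_lit 4514) (Tr.lf (Fc.ed (nat_lit 4513) (nat_lit 1166) Col.g (nat_lit 1507) Dv.df))
(Tr.nd (nat_lit 4515) (Tr.lf (Fc.ed (nat_lit 4514) (nat_lit 737) Col.g (nat_lit 1508) Dv.df))
(Tr.lf (Fc.ed (nat_lit 4515) (nat_lit 1508) Col.g (nat_lit 835) (Dv.wd (nat_lit 9) [Mv.f (nat_lit 2385), Mv.b (nat_lit 2143), Mv.f (nat_lit 4514)]))))))))))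
(Tr.nd (nat_lit 4557) (Tr.nd (nat_lit 4536) (Tr.nd (nat_lit 4526) (Tr.nd (nat_lit 4521) (Tr.nd (nat_lit 4518) (Tr.nd (nat_lit 4517) (Tr.lf (Fc.ed (nat_lit 4516) (nat_lit 1495) Col.d (nat_lit 1509) Dv.df))
(Tr.lf (Fc.ed (nat_lit 4517) (nat_lit 1509) Col.e (nat_lit 863) (Dv.wd (nat_lit 42) [Mv.f (nat_lit 2446), Mv.f (nat_lit 1519), Mv.f (nat_lit 2027), Mv.f (nat_lit 4487), Mv.f (nat_lit 4516)]))))
(Tr.nd (nat_lit 4519) (Tr.lf (Fc.ed (nat_lit 4518) (nat_lit 755) Col.a (nat_lit 1510) Dv.df))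
(Tr.nd (nat_lit 4520) (Tr.lf (Fc.ed (nat_lit 4519) (nat_lit 1510) Col.c (nat_lit 1473) (Dv.wd (nat_lit 33) [Mv.b (nat_lit 4441), Mv.b (nat_lit 2210), Mv.f (nat_lit 4518)])))
(Tr.lf (Fc.ed (nat_lit 4520) (nat_lit 1510) Col.e (nat_lit 1324) (Dv.wd (nat_lit 56) [Mv.b (nat_lit 4007), Mv.f (nat_lit 3085), Mv.f (nat_lit 4518)]))))))
(Tr.nd (nat_lit 4523) (Tr.nd (nat_lit 4522) (Tr.lf (Fc.ed (nat_lit 4521) (nat_lit 1510) Col.b (nat_lit 1510) (Dv.wd (nat_lit 65) [Mv.b (nat_lit 4518), Mv.f (nat_lit 2184), Mv.f (nat_lit 463), Mv.b (nat_lit 2184), Mv.f (nat_lit 4518)])))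
(Tr.lf (Fc.ed (nat_lit 4522) (nat_lit 745) Col.b (nat_lit 1511) Dv.df)))
(Tr.nd (nat_lit 4524) (Tr.lf (Fc.ed (nat_lit 4523) (nat_lit 1511) Col.c (nat_lit 1511) (Dv.wd (nat_lit 93) [Mv.b (nat_lit 4522), Mv.f (nat_lit 2161), Mv.f (nat_lit 388), Mv.b (nat_lit 2161), Mv.f (nat_lit 4522)])))
(Tr.nd (nat_lit 4525) (Tr.lf (Fc.ed (nat_lit 4524) (nat_lit 762) Col.f (nat_lit 1512) Dv.df))
(Tr.lf (Fc.ed (nat_lit 4525) (nat_lit 1512) Col.a (nat_lit 904) (Dv.wd (nat_lit 16) [Mv.f (nat_lit 3316), Mv.f (nat_lit 3317), Mv.f (nat_lit 4524)])))))))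
(Tr.nd (nat_lit 4531) (Tr.nd (nat_lit 4528) (Tr.nd (nat_lit 4527) (Tr.lf (Fc.ed (nat_lit 4526) (nat_lit 888) Col.e (nat_lit 1513) Dv.df))
(Tr.lf (Fc.ed (nat_lit 4527) (nat_lit 1484) Col.f (nat_lit 1514) Dv.df)))
(Tr.nd (nat_lit 4529) (Tr.lf (Fc.ed (nat_lit 4528) (nat_lit 1514) Col.d (nat_lit 741) (Dv.wd (nat_lit 21) [Mv.b (nat_lit 2377), Mv.f (nat_lit 4467), Mv.f (nat_lit 4527)])))
(Tr.nd (nat_lit 4530) (Tr.lf (Fc.ed (nat_lit 4529) (nat_lit 625) Col.g (nat_lit 1515) Dv.df))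
(Tr.lf (Fc.ed (nat_lit 4530) (nat_lit 818) Col.e (nat_lit 1516) Dv.df)))))
(Tr.nd (nat_lit 4533) (Tr.nd (nat_lit 4532) (Tr.lf (Fc.ed (nat_lit 4531) (nat_lit 1516) Col.a (nat_lit 1343) (Dv.wd (nat_lit 15) [Mv.b (nat_lit 4053), Mv.f (nat_lit 2340), Mv.f (nat_lit 4530)])))
(Tr.lf (Fc.ed (nat_lit 4532) (nat_lit 1516) Col.d (nat_lit 1488) (Dv.wd (nat_lit 59) [Mv.f (nat_lit 4474), Mv.f (nat_lit 1595), Mv.b (nat_lit 1294), Mv.b (nat_lit 2339), Mv.f (nat_lit 4530)]))))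
(Tr.nd (nat_lit 4534) (Tr.lf (Fc.ed (nat_lit 4533) (nat_lit 741) Col.gi (nat_lit 1517) Dv.df))
(Tr.nd (nat_lit 4535) (Tr.lf (Fc.ed (nat_lit 4534) (nat_lit 1517) Col.gi (nat_lit 977) (Dv.wd (nat_lit 24) [Mv.b (nat_lit 3065), Mv.f (nat_lit 2151), Mv.f (nat_lit 4533)])))
(Tr.lf (Fc.ed (nat_lit 4535) (nat_lit 1485) Col.a (nat_lit 1518) Dv.df)))))))
(Tr.nd (nat_lit 4546) (Tr.nd (nat_lit 4541) (Tr.nd (nat_lit 4538) (Tr.nd (nat_lit 4537) (Tr.lf (Fc.ed (nat_lit 4536) (nat_lit 1518) Col.d (nat_lit 631) (Dv.wd (nat_lit 28) [Mv.f (nat_lit 1973), Mv.f (nat_lit 4468), Mv.f (nat_lit 4535)])))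
(Tr.lf (Fc.ed (nat_lit 4537) (nat_lit 1518) Col.f (nat_lit 1518) (Dv.wd (nat_lit 35) [Mv.b (nat_lit 4535), Mv.f (nat_lit 4469), Mv.f (nat_lit 4535)]))))
(Tr.nd (nat_lit 4539) (Tr.lf (Fc.ed (nat_lit 4538) (nat_lit 771) Col.b (nat_lit 1519) Dv.df))
(Tr.nd (nat_lit 4540) (Tr.lf (Fc.ed (nat_lit 4539) (nat_lit 1519) Col.d (nat_lit 1044) (Dv.wd (nat_lit 58) [Mv.b (nat_lit 3241), Mv.b (nat_lit 2708), Mv.f (nat_lit 4538)])))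
(Tr.lf (Fc.ed (nat_lit 4540) (nat_lit 1519) Col.f (nat_lit 1384) (Dv.wd (nat_lit 20) [Mv.f (nat_lit 4204), Mv.b (nat_lit 2221), Mv.f (nat_lit 4538)]))))))
(Tr.nd (nat_lit 4543) (Tr.nd (nat_lit 4542) (Tr.lf (Fc.ed (nat_lit 4541) (nat_lit 1156) Col.gi (nat_lit 1520) Dv.df))
(Tr.lf (Fc.ed (nat_lit 4542) (nat_lit 1520) Col.c (nat_lit 1451) (Dv.wd (nat_lit 81) [Mv.f (nat_lit 4394), Mv.f (nat_lit 3286), Mv.b (nat_lit 2396), Mv.f (nat_lit 2403), Mv.f (nat_lit 3015), Mv.b (nat_lit 3017), Mv.f (nat_lit 3575), Mv.b (nat_lit 3577), Mv.f (nat_lit 4541)]))))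
(Tr.nd (nat_lit 4544) (Tr.lf (Fc.ed (nat_lit 4543) (nat_lit 877) Col.f (nat_lit 1521) Dv.df))
(Tr.nd (nat_lit 4545) (Tr.lf (Fc.ed (nat_lit 4544) (nat_lit 1521) Col.a (nat_lit 1259) (Dv.wd (nat_lit 23) [Mv.b (nat_lit 3858), Mv.f (nat_lit 2481), Mv.f (nat_lit 4543)])))
(Tr.lf (Fc.ed (nat_lit 4545) (nat_lit 1079) Col.b (nat_lit 1522) Dv.df))))))
(Tr.nd (nat_lit 4551) (Tr.nd (nat_lit 4548) (Tr.nd (nat_lit 4547) (Tr.lf (Fc.ed (nat_lit 4546) (nat_lit 1522) Col.d (nat_lit 1140) (Dv.wd (nat_lit 58) [Mv.f (nat_lit 3497), Mv.f (nat_lit 3388), Mv.f (nat_lit 4545)])))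
(Tr.lf (Fc.ed (nat_lit 4547) (nat_lit 1522) Col.e (nat_lit 1522) (Dv.wd (nat_lit 52) [Mv.b (nat_lit 4545), Mv.f (nat_lit 3334), Mv.f (nat_lit 4545)]))))
(Tr.nd (nat_lit 4549) (Tr.lf (Fc.ed (nat_lit 4548) (nat_lit 1522) Col.f (nat_lit 717) (Dv.wd (nat_lit 20) [Mv.b (nat_lit 2095), Mv.b (nat_lit 3335), Mv.f (nat_lit 4545)])))
(Tr.nd (nat_lit 4550) (Tr.lf (Fc.ed (nat_lit 4549) (nat_lit 1492) Col.gi (nat_lit 1523) Dv.df))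
(Tr.lf (Fc.ed (nat_lit 4550) (nat_lit 1523) Col.c (nat_lit 742) (Dv.wd (nat_lit 143) [Mv.f (nat_lit 2154), Mv.f (nat_lit 2106), Mv.f (nat_lit 2108), Mv.f (nat_lit 3631), Mv.f (nat_lit 3905), Mv.f (nat_lit 3902), Mv.f (nat_lit 2472), Mv.b (nat_lit 3599), Mv.f (nat_lit 4480), Mv.f (nat_lit 4549)]))))))
(Tr.nd (nat_lit 4554) (Tr.nd (nat_lit 4552) (Tr.lf (Fc.ed (nat_lit 4551) (nat_lit 1224) Col.c (nat_lit 1524) Dv.df))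
(Tr.nd (nat_lit 4553) (Tr.lf (Fc.ed (nat_lit 4552) (nat_lit 1374) Col.c (nat_lit 1525) Dv.df))
(Tr.lf (Fc.ed (nat_lit 4553) (nat_lit 1525) Col.a (nat_lit 1035) (Dv.wd (nat_lit 19) [Mv.f (nat_lit 3225), Mv.f (nat_lit 4181), Mv.f (nat_lit 4552)])))))
(Tr.nd (nat_lit 4555) (Tr.lf (Fc.ed (nat_lit 4554) (nat_lit 1510) Col.gi (nat_lit 1526) Dv.df))
(Tr.nd (nat_lit 4556) (Tr.lf (Fc.ed (nat_lit 4555) (nat_lit 1526) Col.gi (nat_lit 714) (Dv.wd (nat_lit 24) [Mv.f (nat_lit 2183), Mv.f (nat_lit 4518), Mv.f (nat_lit 4554)])))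
(Tr.lf (Fc.ed (nat_lit 4556) (nat_lit 1145) Col.a (nat_lit 1527) Dv.df))))))))
(Tr.nd (nat_lit 4578) (Tr.nd (nat_lit 4567) (Tr.nd (nat_lit 4562) (Tr.nd (nat_lit 4559) (Tr.nd (nat_lit 4558) (Tr.lf (Fc.ed (nat_lit 4557) (nat_lit 1048) Col.g (nat_lit 1528) Dv.df))
(Tr.lf (Fc.ed (nat_lit 4558) (nat_lit 1528) Col.g (nat_lit 778) (Dv.wd (nat_lit 9) [Mv.b (nat_lit 4407), Mv.f (nat_lit 4408), Mv.f (nat_lit 4557)]))))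
(Tr.nd (nat_lit 4560) (Tr.lf (Fc.ed (nat_lit 4559) (nat_lit 1417) Col.a (nat_lit 1529) Dv.df))
(Tr.nd (nat_lit 4561) (Tr.lf (Fc.ed (nat_lit 4560) (nat_lit 765) Col.b (nat_lit 1530) Dv.df))
(Tr.lf (Fc.ed (nat_lit 4561) (nat_lit 1530) Col.f (nat_lit 1511) (Dv.wd (nat_lit 20) [Mv.b (nat_lit 4522), Mv.b (nat_lit 2205), Mv.f (nat_lit 4560)]))))))
(Tr.nd (nat_lit 4564) (Tr.nd (nat_lit 4563) (Tr.lf (Fc.ed (nat_lit 4562) (nat_lit 1530) Col.c (nat_lit 1530) (Dv.wd (nat_lit 93) [Mv.b (nat_lit 4560), Mv.b (nat_lit 2204), Mv.f (nat_lit 375), Mv.f (nat_lit 2204), Mv.f (nat_lit 4560)])))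
(Tr.lf (Fc.ed (nat_lit 4563) (nat_lit 915) Col.e (nat_lit 1531) Dv.df)))
(Tr.nd (nat_lit 4565) (Tr.lf (Fc.ed (nat_lit 4564) (nat_lit 1531) Col.c (nat_lit 1478) (Dv.wd (nat_lit 18) [Mv.b (nat_lit 4453), Mv.b (nat_lit 2899), Mv.f (nat_lit 4563)])))
(Tr.nd (nat_lit 4566) (Tr.lf (Fc.ed (nat_lit 4565) (nat_lit 757) Col.f (nat_lit 1532) Dv.df))
(Tr.lf (Fc.ed (nat_lit 4566) (nat_lit 1532) Col.a (nat_lit 1532) (Dv.wd (nat_lit 16) [Mv.b (nat_lit 4565), Mv.f (nat_lit 2188), Mv.f (nat_lit 4565)])))))))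
(Tr.nd (nat_lit 4572) (Tr.nd (nat_lit 4569) (Tr.nd (nat_lit 4568) (Tr.lf (Fc.ed (nat_lit 4567) (nat_lit 1532) Col.d (nat_lit 1493) (Dv.wd (nat_lit 21) [Mv.b (nat_lit 4481), Mv.b (nat_lit 2189), Mv.f (nat_lit 4565)])))
(Tr.lf (Fc.ed (nat_lit 4568) (nat_lit 1532) Col.gi (nat_lit 1136) (Dv.wd (nat_lit 12) [Mv.b (nat_lit 3485), Mv.f (nat_lit 4565), Mv.f (nat_lit 4566)]))))
(Tr.nd (nat_lit 4570) (Tr.lf (Fc.ed (nat_lit 4569) (nat_lit 795) Col.e (nat_lit 1533) Dv.df))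
(Tr.nd (nat_lit 4571) (Tr.lf (Fc.ed (nat_lit 4570) (nat_lit 1533) Col.d (nat_lit 1533) (Dv.wd (nat_lit 59) [Mv.b (nat_lit 4569), Mv.f (nat_lit 2278), Mv.f (nat_lit 888), Mv.b (nat_lit 2278), Mv.f (nat_lit 4569)])))
(Tr.lf (Fc.ed (nat_lit 4571) (nat_lit 657) Col.e (nat_lit 1534) Dv.df)))))
(Tr.nd (nat_lit 4575) (Tr.nd (nat_lit 4573) (Tr.lf (Fc.ed (nat_lit 4572) (nat_lit 1534) Col.a (nat_lit 1533) (Dv.wd (nat_lit 15) [Mv.b (nat_lit 4569), Mv.f (nat_lit 2279), Mv.f (nat_lit 4571)])))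
(Tr.nd (nat_lit 4574) (Tr.lf (Fc.ed (nat_lit 4573) (nat_lit 1534) Col.d (nat_lit 1534) (Dv.wd (nat_lit 59) [Mv.b (nat_lit 4571), Mv.b (nat_lit 1935), Mv.f (nat_lit 1906), Mv.f (nat_lit 1935), Mv.f (nat_lit 4571)])))
(Tr.lf (Fc.ed (nat_lit 4574) (nat_lit 1440) Col.g (nat_lit 1535) Dv.df))))
(Tr.nd (nat_lit 4576) (Tr.lf (Fc.ed (nat_lit 4575) (nat_lit 1535) Col.c (nat_lit 1020) (Dv.wd (nat_lit 83) [Mv.b (nat_lit 3187), Mv.b (nat_lit 2403), Mv.f (nat_lit 2396), Mv.f (nat_lit 1138), Mv.f (nat_lit 1139), Mv.f (nat_lit 3466), Mv.f (nat_lit 4254), Mv.f (nat_lit 4344), Mv.f (nat_lit 4574)])))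
(Tr.nd (nat_lit 4577) (Tr.lf (Fc.ed (nat_lit 4576) (nat_lit 1212) Col.c (nat_lit 1536) Dv.df))
(Tr.lf (Fc.ed (nat_lit 4577) (nat_lit 1267) Col.e (nat_lit 1537) Dv.df)))))))
(Tr.nd (nat_lit 4588) (Tr.nd (nat_lit 4583) (Tr.nd (nat_lit 4580) (Tr.nd (nat_lit 4579) (Tr.lf (Fc.ed (nat_lit 4578) (nat_lit 1537) Col.b (nat_lit 854) (Dv.wd (nat_lit 49) [Mv.b (nat_lit 2430), Mv.f (nat_lit 3876), Mv.f (nat_lit 4577)])))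
(Tr.lf (Fc.ed (nat_lit 4579) (nat_lit 1377) Col.f (nat_lit 1538) Dv.df)))
(Tr.nd (nat_lit 4581) (Tr.lf (Fc.ed (nat_lit 4580) (nat_lit 1538) Col.a (nat_lit 1129) (Dv.wd (nat_lit 16) [Mv.f (nat_lit 4349), Mv.f (nat_lit 4350), Mv.f (nat_lit 4579)])))
(Tr.nd (nat_lit 4582) (Tr.lf (Fc.ed (nat_lit 4581) (nat_lit 1512) Col.b (nat_lit 1539) Dv.df))
(Tr.lf (Fc.ed (nat_lit 4582) (nat_lit 1360) Col.e (nat_lit 1540) Dv.df)))))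
(Tr.nd (nat_lit 4585) (Tr.nd (nat_lit 4584) (Tr.lf (Fc.ed (nat_lit 4583) (nat_lit 1540) Col.a (nat_lit 1540) (Dv.wd (nat_lit 15) [Mv.b (nat_lit 4582), Mv.f (nat_lit 4379), Mv.f (nat_lit 4582)])))
(Tr.lf (Fc.ed (nat_lit 4584) (nat_lit 1540) Col.b (nat_lit 1488) (Dv.wd (nat_lit 49) [Mv.f (nat_lit 4474), Mv.f (nat_lit 4376), Mv.f (nat_lit 4582)]))))
(Tr.nd (nat_lit 4586) (Tr.lf (Fc.ed (nat_lit 4585) (nat_lit 767) Col.e (nat_lit 1541) Dv.df))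
(Tr.nd (nat_lit 4587) (Tr.lf (Fc.ed (nat_lit 4586) (nat_lit 1541) Col.d (nat_lit 1541) (Dv.wd (nat_lit 59) [Mv.b (nat_lit 4585), Mv.f (nat_lit 2212), Mv.f (nat_lit 1447), Mv.b (nat_lit 2212), Mv.f (nat_lit 4585)])))
(Tr.lf (Fc.ed (nat_lit 4587) (nat_lit 983) Col.e (nat_lit 1542) Dv.df))))))
(Tr.nd (nat_lit 4593) (Tr.nd (nat_lit 4590) (Tr.nd (nat_lit 4589) (Tr.lf (Fc.ed (nat_lit 4588) (nat_lit 896) Col.c (nat_lit 1543) Dv.df))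
(Tr.lf (Fc.ed (nat_lit 4589) (nat_lit 1191) Col.c (nat_lit 1544) Dv.df)))
(Tr.nd (nat_lit 4591) (Tr.lf (Fc.ed (nat_lit 4590) (nat_lit 1544) Col.gi (nat_lit 1492) (Dv.wd (nat_lit 78) [Mv.b (nat_lit 4480), Mv.b (nat_lit 4126), Mv.b (nat_lit 4125), Mv.b (nat_lit 3914), Mv.f (nat_lit 1745), Mv.b (nat_lit 1900), Mv.f (nat_lit 1899), Mv.f (nat_lit 3673), Mv.f (nat_lit 4589)])))
(Tr.nd (nat_lit 4592) (Tr.lf (Fc.ed (nat_lit 4591) (nat_lit 713) Col.e (nat_lit 1545) Dv.df))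
(Tr.lf (Fc.ed (nat_lit 4592) (nat_lit 1545) Col.a (nat_lit 1509) (Dv.wd (nat_lit 15) [Mv.f (nat_lit 4517), Mv.b (nat_lit 2447), Mv.f (nat_lit 4591)]))))))
(Tr.nd (nat_lit 4596) (Tr.nd (nat_lit 4594) (Tr.lf (Fc.ed (nat_lit 4593) (nat_lit 1545) Col.d (nat_lit 1483) (Dv.wd (nat_lit 59) [Mv.b (nat_lit 4466), Mv.f (nat_lit 1958), Mv.f (nat_lit 1454), Mv.b (nat_lit 2089), Mv.f (nat_lit 4591)])))
(Tr.nd (nat_lit 4595) (Tr.lf (Fc.ed (nat_lit 4594) (nat_lit 1488) Col.c (nat_lit 1546) Dv.df))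
(Tr.lf (Fc.ed (nat_lit 4595) (nat_lit 1546) Col.a (nat_lit 1531) (Dv.wd (nat_lit 19) [Mv.f (nat_lit 4564), Mv.f (nat_lit 4473), Mv.f (nat_lit 4594)])))))
(Tr.nd (nat_lit 4597) (Tr.lf (Fc.ed (nat_lit 4596) (nat_lit 651) Col.d (nat_lit 1547) Dv.df))
(Tr.nd (nat_lit 4598) (Tr.lf (Fc.ed (nat_lit 4597) (nat_lit 1547) Col.f (nat_lit 1547) (Dv.wd (nat_lit 11) [Mv.b (nat_lit 4596), Mv.f (nat_lit 1922), Mv.f (nat_lit 4596)])))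
(Tr.lf (Fc.ed (nat_lit 4598) (nat_lit 1132) Col.g (nat_lit 1548) Dv.df))))))))))))
(Tr.nd (nat_lit 4928) (Tr.nd (nat_lit 4763) (Tr.nd (nat_lit 4681) (Tr.nd (nat_lit 4640) (Tr.nd (nat_lit 4619) (Tr.nd (nat_lit 4609) (Tr.nd (nat_lit 4604) (Tr.nd (nat_lit 4601) (Tr.nd (nat_lit 4600) (Tr.lf (Fc.ed (nat_lit 4599) (nat_lit 1548) Col.g (nat_lit 1362) (Dv.wd (nat_lit 9) [Mv.f (nat_lit 4153), Mv.f (nat_lit 3837), Mv.f (nat_lit 4598)])))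
(Tr.lf (Fc.ed (nat_lit 4600) (nat_lit 1535) Col.g (nat_lit 1549) Dv.df)))
(Tr.nd (nat_lit 4602) (Tr.lf (Fc.ed (nat_lit 4601) (nat_lit 1549) Col.a (nat_lit 1440) (Dv.wd (nat_lit 114) [Mv.f (nat_lit 4345), Mv.f (nat_lit 4574), Mv.f (nat_lit 4600)])))
(Tr.nd (nat_lit 4603) (Tr.lf (Fc.ed (nat_lit 4602) (nat_lit 1549) Col.c (nat_lit 879) (Dv.wd (nat_lit 115) [Mv.f (nat_lit 2484), Mv.b (nat_lit 2021), Mv.f (nat_lit 3191), Mv.f (nat_lit 3298), Mv.b (nat_lit 4149), Mv.b (nat_lit 4147), Mv.f (nat_lit 4374), Mv.b (nat_lit 4358), Mv.b (nat_lit 4575), Mv.f (nat_lit 4600)])))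
(Tr.lf (Fc.ed (nat_lit 4603) (nat_lit 1254) Col.c (nat_lit 1550) Dv.df)))))
(Tr.nd (nat_lit 4606) (Tr.nd (nat_lit 4605) (Tr.lf (Fc.ed (nat_lit 4604) (nat_lit 1550) Col.a (nat_lit 1550) (Dv.wd (nat_lit 19) [Mv.b (nat_lit 4603), Mv.f (nat_lit 3849), Mv.f (nat_lit 4603)])))
(Tr.lf (Fc.ed (nat_lit 4605) (nat_lit 1550) Col.d (nat_lit 1415) (Dv.wd (nat_lit 147) [Mv.f (nat_lit 4283), Mv.b (nat_lit 3503), Mv.b (nat_lit 3785), Mv.b (nat_lit 3784), Mv.b (nat_lit 3670), Mv.f (nat_lit 3693), Mv.b (nat_lit 3850), Mv.f (nat_lit 3849), Mv.f (nat_lit 4603)]))))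
(Tr.nd (nat_lit 4607) (Tr.lf (Fc.ed (nat_lit 4606) (nat_lit 948) Col.b (nat_lit 1551) Dv.df))
(Tr.nd (nat_lit 4608) (Tr.lf (Fc.ed (nat_lit 4607) (nat_lit 968) Col.e (nat_lit 1552) Dv.df))
(Tr.lf (Fc.ed (nat_lit 4608) (nat_lit 1552) Col.a (nat_lit 1328) (Dv.wd (nat_lit 15) [Mv.b (nat_lit 4014), Mv.b (nat_lit 3285), Mv.f (nat_lit 4607)])))))))
(Tr.nd (nat_lit 4614) (Tr.nd (nat_lit 4611) (Tr.nd (nat_lit 4610) (Tr.lf (Fc.ed (nat_lit 4609) (nat_lit 1552) Col.b (nat_lit 1357) (Dv.wd (nat_lit 49) [Mv.b (nat_lit 4139), Mv.b (nat_lit 3049), Mv.f (nat_lit 4607)])))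
(Tr.lf (Fc.ed (nat_lit 4610) (nat_lit 1367) Col.g (nat_lit 1553) Dv.df)))
(Tr.nd (nat_lit 4612) (Tr.lf (Fc.ed (nat_lit 4611) (nat_lit 1553) Col.g (nat_lit 654) (Dv.wd (nat_lit 9) [Mv.f (nat_lit 4192), Mv.f (nat_lit 4193), Mv.f (nat_lit 4610)])))
(Tr.nd (nat_lit 4613) (Tr.lf (Fc.ed (nat_lit 4612) (nat_lit 1170) Col.a (nat_lit 1554) Dv.df))
(Tr.lf (Fc.ed (nat_lit 4613) (nat_lit 1554) Col.d (nat_lit 1272) (Dv.wd (nat_lit 28) [Mv.b (nat_lit 3997), Mv.f (nat_lit 3598), Mv.f (nat_lit 4612)]))))))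
(Tr.nd (nat_lit 4616) (Tr.nd (nat_lit 4615) (Tr.lf (Fc.ed (nat_lit 4614) (nat_lit 1554) Col.b (nat_lit 1422) (Dv.wd (nat_lit 65) [Mv.b (nat_lit 4300), Mv.b (nat_lit 4027), Mv.b (nat_lit 2424), Mv.b (nat_lit 3599), Mv.f (nat_lit 4612)])))
(Tr.lf (Fc.ed (nat_lit 4615) (nat_lit 1367) Col.d (nat_lit 1555) Dv.df)))
(Tr.nd (nat_lit 4617) (Tr.lf (Fc.ed (nat_lit 4616) (nat_lit 1555) Col.a (nat_lit 1297) (Dv.wd (nat_lit 8) [Mv.f (nat_lit 3955), Mv.f (nat_lit 4166), Mv.f (nat_lit 4615)])))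
(Tr.nd (nat_lit 4618) (Tr.lf (Fc.ed (nat_lit 4617) (nat_lit 1555) Col.f (nat_lit 1461) (Dv.wd (nat_lit 11) [Mv.b (nat_lit 4414), Mv.f (nat_lit 4193), Mv.f (nat_lit 4615)])))
(Tr.lf (Fc.ed (nat_lit 4618) (nat_lit 1059) Col.f (nat_lit 1556) Dv.df)))))))
(Tr.nd (nat_lit 4629) (Tr.nd (nat_lit 4624) (Tr.nd (nat_lit 4621) (Tr.nd (nat_lit 4620) (Tr.lf (Fc.ed (nat_lit 4619) (nat_lit 1458) Col.gi (nat_lit 1557) Dv.df))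
(Tr.lf (Fc.ed (nat_lit 4620) (nat_lit 1557) Col.gi (nat_lit 928) (Dv.wd (nat_lit 24) [Mv.b (nat_lit 2946), Mv.b (nat_lit 4407), Mv.f (nat_lit 4619)]))))
(Tr.nd (nat_lit 4622) (Tr.lf (Fc.ed (nat_lit 4621) (nat_lit 1435) Col.d (nat_lit 1558) Dv.df))
(Tr.nd (nat_lit 4623) (Tr.lf (Fc.ed (nat_lit 4622) (nat_lit 1558) Col.a (nat_lit 1028) (Dv.wd (nat_lit 8) [Mv.f (nat_lit 3208), Mv.f (nat_lit 4334), Mv.f (nat_lit 4621)])))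
(Tr.lf (Fc.ed (nat_lit 4623) (nat_lit 1486) Col.f (nat_lit 1559) Dv.df)))))
(Tr.nd (nat_lit 4626) (Tr.nd (nat_lit 4625) (Tr.lf (Fc.ed (nat_lit 4624) (nat_lit 1559) Col.a (nat_lit 1358) (Dv.wd (nat_lit 16) [Mv.f (nat_lit 4196), Mv.f (nat_lit 4470), Mv.f (nat_lit 4623)])))
(Tr.lf (Fc.ed (nat_lit 4625) (nat_lit 1559) Col.d (nat_lit 731) (Dv.wd (nat_lit 21) [Mv.b (nat_lit 3967), Mv.b (nat_lit 4471), Mv.f (nat_lit 4623)]))))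
(Tr.nd (nat_lit 4627) (Tr.lf (Fc.ed (nat_lit 4626) (nat_lit 905) Col.a (nat_lit 1560) Dv.df))
(Tr.nd (nat_lit 4628) (Tr.lf (Fc.ed (nat_lit 4627) (nat_lit 1560) Col.b (nat_lit 1560) (Dv.wd (nat_lit 65) [Mv.b (nat_lit 4626), Mv.b (nat_lit 2880), Mv.f (nat_lit 2619), Mv.f (nat_lit 2880), Mv.f (nat_lit 4626)])))
(Tr.lf (Fc.ed (nat_lit 4628) (nat_lit 1472) Col.a (nat_lit 1561) Dv.df))))))
(Tr.nd (nat_lit 4634) (Tr.nd (nat_lit 4631) (Tr.nd (nat_lit 4630) (Tr.lf (Fc.ed (nat_lit 4629) (nat_lit 1561) Col.c (nat_lit 1561) (Dv.wd (nat_lit 33) [Mv.b (nat_lit 4628), Mv.f (nat_lit 4440), Mv.f (nat_lit 4628)])))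
(Tr.lf (Fc.ed (nat_lit 4630) (nat_lit 1561) Col.b (nat_lit 1399) (Dv.wd (nat_lit 65) [Mv.b (nat_lit 4243), Mv.b (nat_lit 1972), Mv.b (nat_lit 1342), Mv.f (nat_lit 4438), Mv.f (nat_lit 4628)]))))
(Tr.nd (nat_lit 4632) (Tr.lf (Fc.ed (nat_lit 4631) (nat_lit 596) Col.b (nat_lit 1562) Dv.df))
(Tr.nd (nat_lit 4633) (Tr.lf (Fc.ed (nat_lit 4632) (nat_lit 1562) Col.e (nat_lit 1417) (Dv.wd (nat_lit 52) [Mv.b (nat_lit 4288), Mv.b (nat_lit 3512), Mv.f (nat_lit 4631)])))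
(Tr.lf (Fc.ed (nat_lit 4633) (nat_lit 1407) Col.d (nat_lit 1563) Dv.df)))))
(Tr.nd (nat_lit 4637) (Tr.nd (nat_lit 4635) (Tr.lf (Fc.ed (nat_lit 4634) (nat_lit 1563) Col.b (nat_lit 135) (Dv.wd (nat_lit 37) [Mv.f (nat_lit 356), Mv.f (nat_lit 4262), Mv.f (nat_lit 4633)])))
(Tr.nd (nat_lit 4636) (Tr.lf (Fc.ed (nat_lit 4635) (nat_lit 1563) Col.f (nat_lit 1563) (Dv.wd (nat_lit 11) [Mv.b (nat_lit 4633), Mv.f (nat_lit 4264), Mv.f (nat_lit 4633)])))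
(Tr.lf (Fc.ed (nat_lit 4636) (nat_lit 1318) Col.g (nat_lit 1564) Dv.df))))
(Tr.nd (nat_lit 4638) (Tr.lf (Fc.ed (nat_lit 4637) (nat_lit 1564) Col.g (nat_lit 718) (Dv.wd (nat_lit 9) [Mv.f (nat_lit 3997), Mv.b (nat_lit 3996), Mv.f (nat_lit 4636)])))
(Tr.nd (nat_lit 4639) (Tr.lf (Fc.ed (nat_lit 4638) (nat_lit 1493) Col.gi (nat_lit 1565) Dv.df))
(Tr.lf (Fc.ed (nat_lit 4639) (nat_lit 1565) Col.gi (nat_lit 716) (Dv.wd (nat_lit 24) [Mv.f (nat_lit 4481), Mv.f (nat_lit 4482), Mv.f (nat_lit 4638)])))))))))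
(Tr.nd (nat_lit 4660) (Tr.nd (nat_lit 4650) (Tr.nd (nat_lit 4645) (Tr.nd (nat_lit 4642) (Tr.nd (nat_lit 4641) (Tr.lf (Fc.ed (nat_lit 4640) (nat_lit 757) Col.gi (nat_lit 1566) Dv.df))
(Tr.lf (Fc.ed (nat_lit 4641) (nat_lit 1566) Col.gi (nat_lit 1532) (Dv.wd (nat_lit 24) [Mv.b (nat_lit 4565), Mv.f (nat_lit 2188), Mv.f (nat_lit 4640)]))))
(Tr.nd (nat_lit 4643) (Tr.lf (Fc.ed (nat_lit 4642) (nat_lit 1566) Col.f (nat_lit 1136) (Dv.wd (nat_lit 13) [Mv.f (nat_lit 4108), Mv.b (nat_lit 3485), Mv.f (nat_lit 4640)])))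
(Tr.nd (nat_lit 4644) (Tr.lf (Fc.ed (nat_lit 4643) (nat_lit 1566) Col.a (nat_lit 1566) (Dv.wd (nat_lit 79) [Mv.f (nat_lit 4642), Mv.f (nat_lit 4108), Mv.b (nat_lit 4642)])))
(Tr.lf (Fc.ed (nat_lit 4644) (nat_lit 1002) Col.b (nat_lit 1567) Dv.df)))))
(Tr.nd (nat_lit 4647) (Tr.nd (nat_lit 4646) (Tr.lf (Fc.ed (nat_lit 4645) (nat_lit 1533) Col.c (nat_lit 1568) Dv.df))
(Tr.lf (Fc.ed (nat_lit 4646) (nat_lit 1568) Col.e (nat_lit 1131) (Dv.wd (nat_lit 25) [Mv.b (nat_lit 3479), Mv.f (nat_lit 4569), Mv.f (nat_lit 4645)]))))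
(Tr.nd (nat_lit 4648) (Tr.lf (Fc.ed (nat_lit 4647) (nat_lit 725) Col.gi (nat_lit 1569) Dv.df))
(Tr.nd (nat_lit 4649) (Tr.lf (Fc.ed (nat_lit 4648) (nat_lit 1569) Col.gi (nat_lit 831) (Dv.wd (nat_lit 24) [Mv.f (nat_lit 2377), Mv.b (nat_lit 2151), Mv.f (nat_lit 4647)])))
(Tr.lf (Fc.ed (nat_lit 4649) (nat_lit 1551) Col.c (nat_lit 1570) Dv.df))))))
(Tr.nd (nat_lit 4655) (Tr.nd (nat_lit 4652) (Tr.nd (nat_lit 4651) (Tr.lf (Fc.ed (nat_lit 4650) (nat_lit 1570) Col.b (nat_lit 385) (Dv.wd (nat_lit 87) [Mv.b (nat_lit 1699), Mv.b (nat_lit 2082), Mv.b (nat_lit 2999), Mv.f (nat_lit 4606), Mv.f (nat_lit 4649)])))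
(Tr.lf (Fc.ed (nat_lit 4651) (nat_lit 1562) Col.d (nat_lit 1570) (Dv.wd (nat_lit 116) [Mv.f (nat_lit 4650), Mv.f (nat_lit 1551), Mv.f (nat_lit 4631)]))))
(Tr.nd (nat_lit 4653) (Tr.lf (Fc.ed (nat_lit 4652) (nat_lit 1563) Col.e (nat_lit 1570) (Dv.wd (nat_lit 82) [Mv.f (nat_lit 4650), Mv.f (nat_lit 1573), Mv.b (nat_lit 4634)])))
(Tr.nd (nat_lit 4654) (Tr.lf (Fc.ed (nat_lit 4653) (nat_lit 1510) Col.d (nat_lit 1571) Dv.df))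
(Tr.lf (Fc.ed (nat_lit 4654) (nat_lit 1571) Col.a (nat_lit 892) (Dv.wd (nat_lit 8) [Mv.b (nat_lit 2854), Mv.f (nat_lit 4518), Mv.f (nat_lit 4653)]))))))
(Tr.nd (nat_lit 4657) (Tr.nd (nat_lit 4656) (Tr.lf (Fc.ed (nat_lit 4655) (nat_lit 1571) Col.b (nat_lit 1571) (Dv.wd (nat_lit 37) [Mv.b (nat_lit 4653), Mv.f (nat_lit 4521), Mv.f (nat_lit 4653)])))
(Tr.lf (Fc.ed (nat_lit 4656) (nat_lit 1036) Col.f (nat_lit 1571) (Dv.wd (nat_lit 73) [Mv.f (nat_lit 4654), Mv.f (nat_lit 2856), Mv.f (nat_lit 3226)]))))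
(Tr.nd (nat_lit 4658) (Tr.lf (Fc.ed (nat_lit 4657) (nat_lit 1036) Col.b (nat_lit 1036) (Dv.wd (nat_lit 107) [Mv.f (nat_lit 4656), Mv.f (nat_lit 4655), Mv.b (nat_lit 4656)])))
(Tr.nd (nat_lit 4659) (Tr.lf (Fc.ed (nat_lit 4658) (nat_lit 778) Col.e (nat_lit 1572) Dv.df))
(Tr.lf (Fc.ed (nat_lit 4659) (nat_lit 1572) Col.b (nat_lit 1018) (Dv.wd (nat_lit 49) [Mv.b (nat_lit 3184), Mv.b (nat_lit 2233), Mv.f (nat_lit 4658)]))))))))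
(Tr.nd (nat_lit 4670) (Tr.nd (nat_lit 4665) (Tr.nd (nat_lit 4662) (Tr.nd (nat_lit 4661) (Tr.lf (Fc.ed (nat_lit 4660) (nat_lit 1175) Col.c (nat_lit 1573) Dv.df))
(Tr.lf (Fc.ed (nat_lit 4661) (nat_lit 1573) Col.a (nat_lit 1294) (Dv.wd (nat_lit 19) [Mv.b (nat_lit 3947), Mv.b (nat_lit 3626), Mv.f (nat_lit 4660)]))))
(Tr.nd (nat_lit 4663) (Tr.lf (Fc.ed (nat_lit 4662) (nat_lit 1573) Col.f (nat_lit 1573) (Dv.wd (nat_lit 26) [Mv.b (nat_lit 4660), Mv.f (nat_lit 3628), Mv.f (nat_lit 4660)])))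
(Tr.nd (nat_lit 4664) (Tr.lf (Fc.ed (nat_lit 4663) (nat_lit 778) Col.g (nat_lit 1574) Dv.df))
(Tr.lf (Fc.ed (nat_lit 4664) (nat_lit 1574) Col.g (nat_lit 1048) (Dv.wd (nat_lit 9) [Mv.b (nat_lit 3253), Mv.b (nat_lit 2946), Mv.f (nat_lit 4663)]))))))
(Tr.nd (nat_lit 4667) (Tr.nd (nat_lit 4666) (Tr.lf (Fc.ed (nat_lit 4665) (nat_lit 1563) Col.c (nat_lit 1575) Dv.df))
(Tr.lf (Fc.ed (nat_lit 4666) (nat_lit 1575) Col.e (nat_lit 1551) (Dv.wd (nat_lit 25) [Mv.f (nat_lit 4649), Mv.b (nat_lit 4652), Mv.f (nat_lit 4665)]))))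
(Tr.nd (nat_lit 4668) (Tr.lf (Fc.ed (nat_lit 4667) (nat_lit 1575) Col.f (nat_lit 1575) (Dv.wd (nat_lit 26) [Mv.b (nat_lit 4665), Mv.f (nat_lit 4635), Mv.f (nat_lit 4665)])))
(Tr.nd (nat_lit 4669) (Tr.lf (Fc.ed (nat_lit 4668) (nat_lit 978) Col.e (nat_lit 1576) Dv.df))
(Tr.lf (Fc.ed (nat_lit 4669) (nat_lit 1576) Col.b (nat_lit 1202) (Dv.wd (nat_lit 49) [Mv.f (nat_lit 3703), Mv.b (nat_lit 3070), Mv.f (nat_lit 4668)])))))))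
(Tr.nd (nat_lit 4675) (Tr.nd (nat_lit 4672) (Tr.nd (nat_lit 4671) (Tr.lf (Fc.ed (nat_lit 4670) (nat_lit 1576) Col.d (nat_lit 1317) (Dv.wd (nat_lit 59) [Mv.f (nat_lit 3994), Mv.b (nat_lit 2949), Mv.b (nat_lit 2325), Mv.f (nat_lit 3069), Mv.f (nat_lit 4668)])))
(Tr.lf (Fc.ed (nat_lit 4671) (nat_lit 1473) Col.d (nat_lit 1577) Dv.df)))
(Tr.nd (nat_lit 4673) (Tr.lf (Fc.ed (nat_lit 4672) (nat_lit 1140) Col.c (nat_lit 1578) Dv.df))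
(Tr.nd (nat_lit 4674) (Tr.lf (Fc.ed (nat_lit 4673) (nat_lit 1578) Col.f (nat_lit 1035) (Dv.wd (nat_lit 26) [Mv.f (nat_lit 3225), Mv.f (nat_lit 3496), Mv.f (nat_lit 4672)])))
(Tr.lf (Fc.ed (nat_lit 4674) (nat_lit 1289) Col.d (nat_lit 1579) Dv.df)))))
(Tr.nd (nat_lit 4678) (Tr.nd (nat_lit 4676) (Tr.lf (Fc.ed (nat_lit 4675) (nat_lit 1579) Col.b (nat_lit 1185) (Dv.wd (nat_lit 37) [Mv.f (nat_lit 3655), Mv.f (nat_lit 3934), Mv.f (nat_lit 4674)])))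
(Tr.nd (nat_lit 4677) (Tr.lf (Fc.ed (nat_lit 4676) (nat_lit 1017) Col.a (nat_lit 1580) Dv.df))
(Tr.lf (Fc.ed (nat_lit 4677) (nat_lit 1580) Col.d (nat_lit 1252) (Dv.wd (nat_lit 28) [Mv.b (nat_lit 3844), Mv.f (nat_lit 3361), Mv.f (nat_lit 4676)])))))
(Tr.nd (nat_lit 4679) (Tr.lf (Fc.ed (nat_lit 4678) (nat_lit 1580) Col.e (nat_lit 1117) (Dv.wd (nat_lit 56) [Mv.b (nat_lit 3444), Mv.b (nat_lit 3269), Mv.f (nat_lit 4676)])))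
(Tr.nd (nat_lit 4680) (Tr.lf (Fc.ed (nat_lit 4679) (nat_lit 1580) Col.b (nat_lit 1580) (Dv.wd (nat_lit 65) [Mv.b (nat_lit 4676), Mv.b (nat_lit 3182), Mv.f (nat_lit 834), Mv.f (nat_lit 3182), Mv.f (nat_lit 4676)])))
(Tr.lf (Fc.ed (nat_lit 4680) (nat_lit 1117) Col.b (nat_lit 1117) (Dv.wd (nat_lit 127) [Mv.b (nat_lit 4678), Mv.f (nat_lit 4679), Mv.f (nat_lit 4678)]))))))))))
(Tr.nd (nat_lit 4722) (Tr.nd (nat_lit 4701) (Tr.nd (nat_lit 4691) (Tr.nd (nat_lit 4686) (Tr.nd (nat_lit 4683) (Tr.nd (nat_lit 4682) (Tr.lf (Fc.ed (nat_lit 4681) (nat_lit 602) Col.g (nat_lit 1581) Dv.df))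
(Tr.lf (Fc.ed (nat_lit 4682) (nat_lit 1581) Col.g (nat_lit 678) (Dv.wd (nat_lit 9) [Mv.f (nat_lit 1991), Mv.f (nat_lit 1570), Mv.f (nat_lit 4681)]))))
(Tr.nd (nat_lit 4684) (Tr.lf (Fc.ed (nat_lit 4683) (nat_lit 737) Col.gi (nat_lit 1582) Dv.df))
(Tr.nd (nat_lit 4685) (Tr.lf (Fc.ed (nat_lit 4684) (nat_lit 1582) Col.gi (nat_lit 835) (Dv.wd (nat_lit 24) [Mv.b (nat_lit 2387), Mv.b (nat_lit 2142), Mv.f (nat_lit 4683)])))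
(Tr.lf (Fc.ed (nat_lit 4685) (nat_lit 1369) Col.f (nat_lit 1583) Dv.df)))))
(Tr.nd (nat_lit 4688) (Tr.nd (nat_lit 4687) (Tr.lf (Fc.ed (nat_lit 4686) (nat_lit 1460) Col.g (nat_lit 1584) Dv.df))
(Tr.lf (Fc.ed (nat_lit 4687) (nat_lit 823) Col.e (nat_lit 1585) Dv.df)))
(Tr.nd (nat_lit 4689) (Tr.lf (Fc.ed (nat_lit 4688) (nat_lit 1585) Col.b (nat_lit 1585) (Dv.wd (nat_lit 49) [Mv.b (nat_lit 4687), Mv.f (nat_lit 2353), Mv.f (nat_lit 4687)])))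
(Tr.nd (nat_lit 4690) (Tr.lf (Fc.ed (nat_lit 4689) (nat_lit 1330) Col.b (nat_lit 1586) Dv.df))
(Tr.lf (Fc.ed (nat_lit 4690) (nat_lit 478) Col.b (nat_lit 1587) Dv.df))))))
(Tr.nd (nat_lit 4696) (Tr.nd (nat_lit 4693) (Tr.nd (nat_lit 4692) (Tr.lf (Fc.ed (nat_lit 4691) (nat_lit 733) Col.e (nat_lit 1588) Dv.df))
(Tr.lf (Fc.ed (nat_lit 4692) (nat_lit 1588) Col.c (nat_lit 1483) (Dv.wd (nat_lit 18) [Mv.b (nat_lit 4466), Mv.f (nat_lit 2133), Mv.f (nat_lit 4691)]))))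
(Tr.nd (nat_lit 4694) (Tr.lf (Fc.ed (nat_lit 4693) (nat_lit 1431) Col.a (nat_lit 1589) Dv.df))
(Tr.nd (nat_lit 4695) (Tr.lf (Fc.ed (nat_lit 4694) (nat_lit 479) Col.b (nat_lit 1590) Dv.df))
(Tr.lf (Fc.ed (nat_lit 4695) (nat_lit 1590) Col.f (nat_lit 1570) (Dv.wd (nat_lit 20) [Mv.f (nat_lit 4650), Mv.f (nat_lit 1706), Mv.f (nat_lit 4694)]))))))
(Tr.nd (nat_lit 4698) (Tr.nd (nat_lit 4697) (Tr.lf (Fc.ed (nat_lit 4696) (nat_lit 1410) Col.g (nat_lit 1591) Dv.df))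
(Tr.lf (Fc.ed (nat_lit 4697) (nat_lit 1591) Col.b (nat_lit 1524) (Dv.wd (nat_lit 104) [Mv.b (nat_lit 4551), Mv.f (nat_lit 3777), Mv.f (nat_lit 1281), Mv.f (nat_lit 1280), Mv.b (nat_lit 347), Mv.f (nat_lit 1700), Mv.f (nat_lit 534), Mv.b (nat_lit 1766), Mv.f (nat_lit 4268), Mv.f (nat_lit 4696)]))))
(Tr.nd (nat_lit 4699) (Tr.lf (Fc.ed (nat_lit 4698) (nat_lit 625) Col.d (nat_lit 1592) Dv.df))
(Tr.nd (nat_lit 4700) (Tr.lf (Fc.ed (nat_lit 4699) (nat_lit 1592) Col.a (nat_lit 1270) (Dv.wd (nat_lit 8) [Mv.b (nat_lit 3886), Mv.f (nat_lit 2409), Mv.f (nat_lit 4698)])))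
(Tr.lf (Fc.ed (nat_lit 4700) (nat_lit 1119) Col.c (nat_lit 1593) Dv.df)))))))
(Tr.nd (nat_lit 4711) (Tr.nd (nat_lit 4706) (Tr.nd (nat_lit 4703) (Tr.nd (nat_lit 4702) (Tr.lf (Fc.ed (nat_lit 4701) (nat_lit 895) Col.g (nat_lit 1594) Dv.df))
(Tr.lf (Fc.ed (nat_lit 4702) (nat_lit 1594) Col.e (nat_lit 1595) Dv.df)))
(Tr.nd (nat_lit 4704) (Tr.lf (Fc.ed (nat_lit 4703) (nat_lit 881) Col.b (nat_lit 1596) Dv.df))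
(Tr.nd (nat_lit 4705) (Tr.lf (Fc.ed (nat_lit 4704) (nat_lit 649) Col.d (nat_lit 1597) Dv.df))
(Tr.lf (Fc.ed (nat_lit 4705) (nat_lit 831) Col.gi (nat_lit 1598) Dv.df)))))
(Tr.nd (nat_lit 4708) (Tr.nd (nat_lit 4707) (Tr.lf (Fc.ed (nat_lit 4706) (nat_lit 1598) Col.gi (nat_lit 725) (Dv.wd (nat_lit 24) [Mv.f (nat_lit 3065), Mv.f (nat_lit 3066), Mv.f (nat_lit 4705)])))
(Tr.lf (Fc.ed (nat_lit 4707) (nat_lit 1342) Col.e (nat_lit 1599) Dv.df)))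
(Tr.nd (nat_lit 4709) (Tr.lf (Fc.ed (nat_lit 4708) (nat_lit 1545) Col.c (nat_lit 1600) Dv.df))
(Tr.nd (nat_lit 4710) (Tr.lf (Fc.ed (nat_lit 4709) (nat_lit 1600) Col.e (nat_lit 1032) (Dv.wd (nat_lit 25) [Mv.b (nat_lit 3217), Mv.f (nat_lit 4591), Mv.f (nat_lit 4708)])))
(Tr.lf (Fc.ed (nat_lit 4710) (nat_lit 1251) Col.f (nat_lit 1601) Dv.df))))))
(Tr.nd (nat_lit 4716) (Tr.nd (nat_lit 4713) (Tr.nd (nat_lit 4712) (Tr.lf (Fc.ed (nat_lit 4711) (nat_lit 1601) Col.e (nat_lit 1602) Dv.df))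
(Tr.lf (Fc.ed (nat_lit 4712) (nat_lit 1602) Col.f (nat_lit 1516) (Dv.wd (nat_lit 96) [Mv.b (nat_lit 4530), Mv.f (nat_lit 2338), Mv.f (nat_lit 3843), Mv.f (nat_lit 4710), Mv.f (nat_lit 4711)]))))
(Tr.nd (nat_lit 4714) (Tr.lf (Fc.ed (nat_lit 4713) (nat_lit 799) Col.b (nat_lit 1603) Dv.df))
(Tr.nd (nat_lit 4715) (Tr.lf (Fc.ed (nat_lit 4714) (nat_lit 1603) Col.e (nat_lit 1530) (Dv.wd (nat_lit 52) [Mv.b (nat_lit 4560), Mv.f (nat_lit 2292), Mv.f (nat_lit 4713)])))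
(Tr.lf (Fc.ed (nat_lit 4715) (nat_lit 766) Col.a (nat_lit 1604) Dv.df)))))
(Tr.nd (nat_lit 4719) (Tr.nd (nat_lit 4717) (Tr.lf (Fc.ed (nat_lit 4716) (nat_lit 1604) Col.e (nat_lit 1399) (Dv.wd (nat_lit 56) [Mv.b (nat_lit 4243), Mv.b (nat_lit 2207), Mv.f (nat_lit 4715)])))
(Tr.nd (nat_lit 4718) (Tr.lf (Fc.ed (nat_lit 4717) (nat_lit 1604) Col.f (nat_lit 1473) (Dv.wd (nat_lit 35) [Mv.b (nat_lit 4441), Mv.f (nat_lit 2209), Mv.f (nat_lit 4715)])))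
(Tr.lf (Fc.ed (nat_lit 4718) (nat_lit 1088) Col.e (nat_lit 1605) Dv.df))))
(Tr.nd (nat_lit 4720) (Tr.lf (Fc.ed (nat_lit 4719) (nat_lit 1605) Col.b (nat_lit 1195) (Dv.wd (nat_lit 49) [Mv.b (nat_lit 3683), Mv.f (nat_lit 3360), Mv.f (nat_lit 4718)])))
(Tr.nd (nat_lit 4721) (Tr.lf (Fc.ed (nat_lit 4720) (nat_lit 1605) Col.d (nat_lit 1271) (Dv.wd (nat_lit 59) [Mv.b (nat_lit 3887), Mv.f (nat_lit 3882), Mv.b (nat_lit 3269), Mv.b (nat_lit 3361), Mv.f (nat_lit 4718)])))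
(Tr.lf (Fc.ed (nat_lit 4721) (nat_lit 1264) Col.d (nat_lit 1195) (Dv.wd (nat_lit 58) [Mv.b (nat_lit 4719), Mv.f (nat_lit 4720), Mv.f (nat_lit 3888)])))))))))
(Tr.nd (nat_lit 4742) (Tr.nd (nat_lit 4732) (Tr.nd (nat_lit 4727) (Tr.nd (nat_lit 4724) (Tr.nd (nat_lit 4723) (Tr.lf (Fc.ed (nat_lit 4722) (nat_lit 1537) Col.d (nat_lit 1606) Dv.df))
(Tr.lf (Fc.ed (nat_lit 4723) (nat_lit 1606) Col.b (nat_lit 758) (Dv.wd (nat_lit 37) [Mv.b (nat_lit 2431), Mv.b (nat_lit 4578), Mv.f (nat_lit 4722)]))))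
(Tr.nd (nat_lit 4725) (Tr.lf (Fc.ed (nat_lit 4724) (nat_lit 1586) Col.f (nat_lit 1606) (Dv.wd (nat_lit 125) [Mv.f (nat_lit 4723), Mv.f (nat_lit 4103), Mv.f (nat_lit 4689)])))
(Tr.nd (nat_lit 4726) (Tr.lf (Fc.ed (nat_lit 4725) (nat_lit 1349) Col.c (nat_lit 1607) Dv.df))
(Tr.lf (Fc.ed (nat_lit 4726) (nat_lit 1607) Col.a (nat_lit 1607) (Dv.wd (nat_lit 19) [Mv.b (nat_lit 4725), Mv.f (nat_lit 4124), Mv.f (nat_lit 4725)]))))))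
(Tr.nd (nat_lit 4729) (Tr.nd (nat_lit 4728) (Tr.lf (Fc.ed (nat_lit 4727) (nat_lit 1225) Col.g (nat_lit 1608) Dv.df))
(Tr.lf (Fc.ed (nat_lit 4728) (nat_lit 1608) Col.e (nat_lit 1405) (Dv.wd (nat_lit 47) [Mv.f (nat_lit 4375), Mv.f (nat_lit 3931), Mv.f (nat_lit 3192), Mv.f (nat_lit 3046), Mv.f (nat_lit 3297), Mv.b (nat_lit 3300), Mv.b (nat_lit 4149), Mv.f (nat_lit 4377), Mv.f (nat_lit 4185), Mv.f (nat_lit 4727)]))))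
(Tr.nd (nat_lit 4730) (Tr.lf (Fc.ed (nat_lit 4729) (nat_lit 1608) Col.a (nat_lit 1608) (Dv.wd (nat_lit 31) [Mv.f (nat_lit 4728), Mv.f (nat_lit 4382), Mv.b (nat_lit 4728)])))
(Tr.nd (nat_lit 4731) (Tr.lf (Fc.ed (nat_lit 4730) (nat_lit 1608) Col.c (nat_lit 1608) (Dv.wd (nat_lit 109) [Mv.f (nat_lit 4728), Mv.f (nat_lit 4258), Mv.b (nat_lit 4728)])))
(Tr.lf (Fc.ed (nat_lit 4731) (nat_lit 716) Col.b (nat_lit 1609) Dv.df))))))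
(Tr.nd (nat_lit 4737) (Tr.nd (nat_lit 4734) (Tr.nd (nat_lit 4733) (Tr.lf (Fc.ed (nat_lit 4732) (nat_lit 1609) Col.d (nat_lit 1411) (Dv.wd (nat_lit 58) [Mv.b (nat_lit 4271), Mv.f (nat_lit 2189), Mv.f (nat_lit 4731)])))
(Tr.lf (Fc.ed (nat_lit 4733) (nat_lit 1609) Col.e (nat_lit 1169) (Dv.wd (nat_lit 52) [Mv.b (nat_lit 3597), Mv.b (nat_lit 2094), Mv.f (nat_lit 4731)]))))
(Tr.nd (nat_lit 4735) (Tr.lf (Fc.ed (nat_lit 4734) (nat_lit 1442) Col.f (nat_lit 1610) Dv.df))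
(Tr.nd (nat_lit 4736) (Tr.lf (Fc.ed (nat_lit 4735) (nat_lit 714) Col.a (nat_lit 1611) Dv.df))
(Tr.lf (Fc.ed (nat_lit 4736) (nat_lit 1611) Col.c (nat_lit 1604) (Dv.wd (nat_lit 33) [Mv.b (nat_lit 4715), Mv.b (nat_lit 2206), Mv.f (nat_lit 4735)]))))))
(Tr.nd (nat_lit 4739) (Tr.nd (nat_lit 4738) (Tr.lf (Fc.ed (nat_lit 4737) (nat_lit 1611) Col.d (nat_lit 1036) (Dv.wd (nat_lit 28) [Mv.b (nat_lit 3226), Mv.b (nat_lit 2378), Mv.f (nat_lit 4735)])))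
(Tr.lf (Fc.ed (nat_lit 4738) (nat_lit 1611) Col.f (nat_lit 1510) (Dv.wd (nat_lit 35) [Mv.b (nat_lit 4518), Mv.b (nat_lit 2183), Mv.f (nat_lit 4735)]))))
(Tr.nd (nat_lit 4740) (Tr.lf (Fc.ed (nat_lit 4739) (nat_lit 1611) Col.b (nat_lit 1611) (Dv.wd (nat_lit 65) [Mv.b (nat_lit 4735), Mv.b (nat_lit 2090), Mv.f (nat_lit 459), Mv.f (nat_lit 2090), Mv.f (nat_lit 4735)])))
(Tr.nd (nat_lit 4741) (Tr.lf (Fc.ed (nat_lit 4740) (nat_lit 1246) Col.f (nat_lit 1612) Dv.df))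
(Tr.lf (Fc.ed (nat_lit 4741) (nat_lit 1612) Col.a (nat_lit 927) (Dv.wd (nat_lit 23) [Mv.b (nat_lit 2944), Mv.f (nat_lit 3832), Mv.f (nat_lit 4740)]))))))))
(Tr.nd (nat_lit 4752) (Tr.nd (nat_lit 4747) (Tr.nd (nat_lit 4744) (Tr.nd (nat_lit 4743) (Tr.lf (Fc.ed (nat_lit 4742) (nat_lit 1327) Col.b (nat_lit 1613) Dv.df))
(Tr.lf (Fc.ed (nat_lit 4743) (nat_lit 1613) Col.c (nat_lit 1548) (Dv.wd (nat_lit 156) [Mv.b (nat_lit 4598), Mv.b (nat_lit 3480), Mv.b (nat_lit 937), Mv.f (nat_lit 1801), Mv.b (nat_lit 37), Mv.f (nat_lit 168), Mv.f (nat_lit 296), Mv.f (nat_lit 1583), Mv.f (nat_lit 4012), Mv.f (nat_lit 4742)]))))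
(Tr.nd (nat_lit 4745) (Tr.lf (Fc.ed (nat_lit 4744) (nat_lit 1061) Col.b (nat_lit 1614) Dv.df))
(Tr.nd (nat_lit 4746) (Tr.lf (Fc.ed (nat_lit 4745) (nat_lit 1614) Col.c (nat_lit 1329) (Dv.wd (nat_lit 135) [Mv.b (nat_lit 4015), Mv.b (nat_lit 3990), Mv.b (nat_lit 3988), Mv.b (nat_lit 1101), Mv.b (nat_lit 833), Mv.b (nat_lit 52), Mv.f (nat_lit 451), Mv.f (nat_lit 2009), Mv.f (nat_lit 3283), Mv.f (nat_lit 4744)])))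
(Tr.lf (Fc.ed (nat_lit 4746) (nat_lit 822) Col.e (nat_lit 1615) Dv.df)))))
(Tr.nd (nat_lit 4749) (Tr.nd (nat_lit 4748) (Tr.lf (Fc.ed (nat_lit 4747) (nat_lit 1615) Col.a (nat_lit 1408) (Dv.wd (nat_lit 15) [Mv.b (nat_lit 4265), Mv.b (nat_lit 3028), Mv.f (nat_lit 4746)])))
(Tr.lf (Fc.ed (nat_lit 4748) (nat_lit 1473) Col.gi (nat_lit 1616) Dv.df)))
(Tr.nd (nat_lit 4750) (Tr.lf (Fc.ed (nat_lit 4749) (nat_lit 1616) Col.gi (nat_lit 766) (Dv.wd (nat_lit 24) [Mv.b (nat_lit 2209), Mv.f (nat_lit 4441), Mv.f (nat_lit 4748)])))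
(Tr.nd (nat_lit 4751) (Tr.lf (Fc.ed (nat_lit 4750) (nat_lit 573) Col.c (nat_lit 1617) Dv.df))
(Tr.lf (Fc.ed (nat_lit 4751) (nat_lit 1024) Col.b (nat_lit 1618) Dv.df))))))
(Tr.nd (nat_lit 4757) (Tr.nd (nat_lit 4754) (Tr.nd (nat_lit 4753) (Tr.lf (Fc.ed (nat_lit 4752) (nat_lit 1618) Col.d (nat_lit 1530) (Dv.wd (nat_lit 58) [Mv.b (nat_lit 4560), Mv.f (nat_lit 3197), Mv.f (nat_lit 4751)])))
(Tr.lf (Fc.ed (nat_lit 4753) (nat_lit 1176) Col.e (nat_lit 1619) Dv.df)))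
(Tr.nd (nat_lit 4755) (Tr.lf (Fc.ed (nat_lit 4754) (nat_lit 1604) Col.d (nat_lit 1620) Dv.df))
(Tr.nd (nat_lit 4756) (Tr.lf (Fc.ed (nat_lit 4755) (nat_lit 1620) Col.a (nat_lit 1176) (Dv.wd (nat_lit 8) [Mv.b (nat_lit 3629), Mv.f (nat_lit 4715), Mv.f (nat_lit 4754)])))
(Tr.lf (Fc.ed (nat_lit 4756) (nat_lit 1620) Col.f (nat_lit 1577) (Dv.wd (nat_lit 11) [Mv.b (nat_lit 4671), Mv.b (nat_lit 4717), Mv.f (nat_lit 4754)]))))))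
(Tr.nd (nat_lit 4760) (Tr.nd (nat_lit 4758) (Tr.lf (Fc.ed (nat_lit 4757) (nat_lit 1259) Col.c (nat_lit 1621) Dv.df))
(Tr.nd (nat_lit 4759) (Tr.lf (Fc.ed (nat_lit 4758) (nat_lit 1621) Col.b (nat_lit 1453) (Dv.wd (nat_lit 101) [Mv.b (nat_lit 4397), Mv.b (nat_lit 3963), Mv.f (nat_lit 3600), Mv.f (nat_lit 4058), Mv.b (nat_lit 2845), Mv.b (nat_lit 1786), Mv.b (nat_lit 776), Mv.f (nat_lit 1285), Mv.b (nat_lit 3859), Mv.f (nat_lit 4757)])))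
(Tr.lf (Fc.ed (nat_lit 4759) (nat_lit 1483) Col.f (nat_lit 1622) Dv.df))))
(Tr.nd (nat_lit 4761) (Tr.lf (Fc.ed (nat_lit 4760) (nat_lit 1622) Col.e (nat_lit 1622) (Dv.wd (nat_lit 22) [Mv.b (nat_lit 4759), Mv.b (nat_lit 4466), Mv.f (nat_lit 1959), Mv.f (nat_lit 4466), Mv.f (nat_lit 4759)])))
(Tr.nd (nat_lit 4762) (Tr.lf (Fc.ed (nat_lit 4761) (nat_lit 1372) Col.c (nat_lit 1623) Dv.df))
(Tr.lf (Fc.ed (nat_lit 4762) (nat_lit 1623) Col.d (nat_lit 1607) (Dv.wd (nat_lit 147) [Mv.b (nat_lit 4725), Mv.f (nat_lit 4123), Mv.f (nat_lit 3803), Mv.f (nat_lit 4100), Mv.b (nat_lit 3803), Mv.b (nat_lit 4123), Mv.b (nat_lit 4176), Mv.f (nat_lit 4178), Mv.f (nat_lit 4761)])))))))))))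
(Tr.nd (nat_lit 4845) (Tr.nd (nat_lit 4804) (Tr.nd (nat_lit 4783) (Tr.nd (nat_lit 4773) (Tr.nd (nat_lit 4768) (Tr.nd (nat_lit 4765) (Tr.nd (nat_lit 4764) (Tr.lf (Fc.ed (nat_lit 4763) (nat_lit 1564) Col.c (nat_lit 1624) Dv.df))
(Tr.lf (Fc.ed (nat_lit 4764) (nat_lit 1624) Col.b (nat_lit 1608) (Dv.wd (nat_lit 101) [Mv.b (nat_lit 4727), Mv.b (nat_lit 3778), Mv.b (nat_lit 1287), Mv.b (nat_lit 1244), Mv.b (nat_lit 821), Mv.b (nat_lit 1388), Mv.f (nat_lit 2060), Mv.b (nat_lit 2100), Mv.b (nat_lit 4637), Mv.f (nat_lit 4763)]))))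
(Tr.nd (nat_lit 4766) (Tr.lf (Fc.ed (nat_lit 4765) (nat_lit 1624) Col.gi (nat_lit 866) (Dv.wd (nat_lit 157) [Mv.b (nat_lit 2452), Mv.f (nat_lit 1346), Mv.b (nat_lit 393), Mv.f (nat_lit 752), Mv.f (nat_lit 818), Mv.b (nat_lit 1388), Mv.f (nat_lit 2060), Mv.b (nat_lit 2100), Mv.b (nat_lit 4637), Mv.f (nat_lit 4763)])))
(Tr.nd (nat_lit 4767) (Tr.lf (Fc.ed (nat_lit 4766) (nat_lit 1564) Col.b (nat_lit 1564) (Dv.wd (nat_lit 87) [Mv.f (nat_lit 4763), Mv.f (nat_lit 4764), Mv.f (nat_lit 4730), Mv.b (nat_lit 4764), Mv.b (nat_lit 4763)])))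
(Tr.lf (Fc.ed (nat_lit 4767) (nat_lit 1272) Col.gi (nat_lit 1624) (Dv.wd (nat_lit 12) [Mv.f (nat_lit 4765), Mv.f (nat_lit 2454), Mv.f (nat_lit 3997)]))))))
(Tr.nd (nat_lit 4770) (Tr.nd (nat_lit 4769) (Tr.lf (Fc.ed (nat_lit 4768) (nat_lit 1379) Col.e (nat_lit 1624) (Dv.wd (nat_lit 82) [Mv.f (nat_lit 4764), Mv.f (nat_lit 4728), Mv.b (nat_lit 4259)])))
(Tr.lf (Fc.ed (nat_lit 4769) (nat_lit 1564) Col.e (nat_lit 1390) (Dv.wd (nat_lit 25) [Mv.f (nat_lit 4218), Mv.f (nat_lit 4768), Mv.b (nat_lit 4763)]))))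
(Tr.nd (nat_lit 4771) (Tr.lf (Fc.ed (nat_lit 4770) (nat_lit 1554) Col.g (nat_lit 1439) (Dv.wd (nat_lit 63) [Mv.b (nat_lit 4342), Mv.f (nat_lit 4359), Mv.f (nat_lit 3016), Mv.f (nat_lit 2148), Mv.b (nat_lit 4373), Mv.f (nat_lit 4356), Mv.f (nat_lit 4768), Mv.b (nat_lit 4767), Mv.f (nat_lit 3998), Mv.b (nat_lit 4613)])))
(Tr.nd (nat_lit 4772) (Tr.lf (Fc.ed (nat_lit 4771) (nat_lit 1564) Col.a (nat_lit 1624) (Dv.wd (nat_lit 31) [Mv.b (nat_lit 4768), Mv.b (nat_lit 4384), Mv.b (nat_lit 4769)])))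
(Tr.lf (Fc.ed (nat_lit 4772) (nat_lit 1211) Col.f (nat_lit 1564) (Dv.wd (nat_lit 13) [Mv.f (nat_lit 4771), Mv.f (nat_lit 4765), Mv.f (nat_lit 3731)])))))))
(Tr.nd (nat_lit 4778) (Tr.nd (nat_lit 4775) (Tr.nd (nat_lit 4774) (Tr.lf (Fc.ed (nat_lit 4773) (nat_lit 1211) Col.b (nat_lit 1211) (Dv.wd (nat_lit 107) [Mv.f (nat_lit 4772), Mv.f (nat_lit 4766), Mv.b (nat_lit 4772)])))
(Tr.lf (Fc.ed (nat_lit 4774) (nat_lit 1211) Col.e (nat_lit 1211) (Dv.wd (nat_lit 57) [Mv.f (nat_lit 4772), Mv.f (nat_lit 4769), Mv.f (nat_lit 4383), Mv.b (nat_lit 4769), Mv.b (nat_lit 4772)]))))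
(Tr.nd (nat_lit 4776) (Tr.lf (Fc.ed (nat_lit 4775) (nat_lit 697) Col.g (nat_lit 1625) Dv.df))
(Tr.nd (nat_lit 4777) (Tr.lf (Fc.ed (nat_lit 4776) (nat_lit 456) Col.c (nat_lit 1626) Dv.df))
(Tr.lf (Fc.ed (nat_lit 4777) (nat_lit 1626) Col.a (nat_lit 1543) (Dv.wd (nat_lit 19) [Mv.b (nat_lit 4588), Mv.b (nat_lit 2863), Mv.f (nat_lit 4776)]))))))
(Tr.nd (nat_lit 4780) (Tr.nd (nat_lit 4779) (Tr.lf (Fc.ed (nat_lit 4778) (nat_lit 1481) Col.a (nat_lit 1627) Dv.df))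
(Tr.lf (Fc.ed (nat_lit 4779) (nat_lit 1627) Col.e (nat_lit 1304) (Dv.wd (nat_lit 56) [Mv.b (nat_lit 3966), Mv.f (nat_lit 4461), Mv.f (nat_lit 4778)]))))
(Tr.nd (nat_lit 4781) (Tr.lf (Fc.ed (nat_lit 4780) (nat_lit 1105) Col.d (nat_lit 1628) Dv.df))
(Tr.nd (nat_lit 4782) (Tr.lf (Fc.ed (nat_lit 4781) (nat_lit 1542) Col.d (nat_lit 1629) Dv.df))
(Tr.lf (Fc.ed (nat_lit 4782) (nat_lit 1629) Col.e (nat_lit 1024) (Dv.wd (nat_lit 42) [Mv.b (nat_lit 3197), Mv.f (nat_lit 2292), Mv.b (nat_lit 3082), Mv.f (nat_lit 4587), Mv.f (nat_lit 4781)]))))))))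
(Tr.nd (nat_lit 4793) (Tr.nd (nat_lit 4788) (Tr.nd (nat_lit 4785) (Tr.nd (nat_lit 4784) (Tr.lf (Fc.ed (nat_lit 4783) (nat_lit 1300) Col.e (nat_lit 1630) Dv.df))
(Tr.lf (Fc.ed (nat_lit 4784) (nat_lit 1630) Col.b (nat_lit 1615) (Dv.wd (nat_lit 49) [Mv.b (nat_lit 4746), Mv.b (nat_lit 3961), Mv.f (nat_lit 4783)]))))
(Tr.nd (nat_lit 4786) (Tr.lf (Fc.ed (nat_lit 4785) (nat_lit 1139) Col.a (nat_lit 1631) Dv.df))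
(Tr.nd (nat_lit 4787) (Tr.lf (Fc.ed (nat_lit 4786) (nat_lit 1631) Col.f (nat_lit 1117) (Dv.wd (nat_lit 35) [Mv.b (nat_lit 3444), Mv.f (nat_lit 3495), Mv.f (nat_lit 4785)])))
(Tr.lf (Fc.ed (nat_lit 4787) (nat_lit 1631) Col.b (nat_lit 1631) (Dv.wd (nat_lit 65) [Mv.b (nat_lit 4785), Mv.b (nat_lit 3880), Mv.f (nat_lit 785), Mv.f (nat_lit 3880), Mv.f (nat_lit 4785)]))))))
(Tr.nd (nat_lit 4790) (Tr.nd (nat_lit 4789) (Tr.lf (Fc.ed (nat_lit 4788) (nat_lit 1407) Col.c (nat_lit 1632) Dv.df))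
(Tr.lf (Fc.ed (nat_lit 4789) (nat_lit 1463) Col.c (nat_lit 1633) Dv.df)))
(Tr.nd (nat_lit 4791) (Tr.lf (Fc.ed (nat_lit 4790) (nat_lit 1633) Col.g (nat_lit 1632) (Dv.wd (nat_lit 123) [Mv.b (nat_lit 4788), Mv.b (nat_lit 4262), Mv.f (nat_lit 357), Mv.b (nat_lit 296), Mv.b (nat_lit 168), Mv.f (nat_lit 37), Mv.b (nat_lit 1801), Mv.f (nat_lit 937), Mv.f (nat_lit 4417), Mv.f (nat_lit 4789)])))
(Tr.nd (nat_lit 4792) (Tr.lf (Fc.ed (nat_lit 4791) (nat_lit 1126) Col.b (nat_lit 1634) Dv.df))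
(Tr.lf (Fc.ed (nat_lit 4792) (nat_lit 1634) Col.d (nat_lit 1338) (Dv.wd (nat_lit 58) [Mv.b (nat_lit 4089), Mv.b (nat_lit 3469), Mv.f (nat_lit 4791)])))))))
(Tr.nd (nat_lit 4798) (Tr.nd (nat_lit 4795) (Tr.nd (nat_lit 4794) (Tr.lf (Fc.ed (nat_lit 4793) (nat_lit 1551) Col.gi (nat_lit 1635) Dv.df))
(Tr.lf (Fc.ed (nat_lit 4794) (nat_lit 1635) Col.c (nat_lit 1596) (Dv.wd (nat_lit 143) [Mv.b (nat_lit 4703), Mv.b (nat_lit 2832), Mv.b (nat_lit 1875), Mv.b (nat_lit 509), Mv.f (nat_lit 438), Mv.f (nat_lit 631), Mv.b (nat_lit 1646), Mv.b (nat_lit 4650), Mv.b (nat_lit 4649), Mv.f (nat_lit 4793)]))))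
(Tr.nd (nat_lit 4796) (Tr.lf (Fc.ed (nat_lit 4795) (nat_lit 1159) Col.c (nat_lit 1636) Dv.df))
(Tr.nd (nat_lit 4797) (Tr.lf (Fc.ed (nat_lit 4796) (nat_lit 1615) Col.c (nat_lit 1637) Dv.df))
(Tr.lf (Fc.ed (nat_lit 4797) (nat_lit 1637) Col.e (nat_lit 1104) (Dv.wd (nat_lit 25) [Mv.b (nat_lit 3407), Mv.f (nat_lit 4746), Mv.f (nat_lit 4796)]))))))
(Tr.nd (nat_lit 4801) (Tr.nd (nat_lit 4799) (Tr.lf (Fc.ed (nat_lit 4798) (nat_lit 977) Col.gi (nat_lit 1638) Dv.df))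
(Tr.nd (nat_lit 4800) (Tr.lf (Fc.ed (nat_lit 4799) (nat_lit 1638) Col.gi (nat_lit 741) (Dv.wd (nat_lit 24) [Mv.b (nat_lit 2377), Mv.b (nat_lit 3066), Mv.f (nat_lit 4798)])))
(Tr.lf (Fc.ed (nat_lit 4800) (nat_lit 1611) Col.g (nat_lit 1639) Dv.df))))
(Tr.nd (nat_lit 4802) (Tr.lf (Fc.ed (nat_lit 4801) (nat_lit 1639) Col.g (nat_lit 755) (Dv.wd (nat_lit 9) [Mv.f (nat_lit 4518), Mv.b (nat_lit 4738), Mv.f (nat_lit 4800)])))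
(Tr.nd (nat_lit 4803) (Tr.lf (Fc.ed (nat_lit 4802) (nat_lit 1609) Col.c (nat_lit 1640) Dv.df))
(Tr.lf (Fc.ed (nat_lit 4803) (nat_lit 1640) Col.b (nat_lit 1636) (Dv.wd (nat_lit 87) [Mv.b (nat_lit 4795), Mv.f (nat_lit 3572), Mv.f (nat_lit 2092), Mv.f (nat_lit 4731), Mv.f (nat_lit 4802)])))))))))
(Tr.nd (nat_lit 4824) (Tr.nd (nat_lit 4814) (Tr.nd (nat_lit 4809) (Tr.nd (nat_lit 4806) (Tr.nd (nat_lit 4805) (Tr.lf (Fc.ed (nat_lit 4804) (nat_lit 1523) Col.f (nat_lit 1641) Dv.df))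
(Tr.lf (Fc.ed (nat_lit 4805) (nat_lit 1641) Col.c (nat_lit 827) (Dv.wd (nat_lit 34) [Mv.f (nat_lit 2366), Mv.b (nat_lit 4550), Mv.f (nat_lit 4804)]))))
(Tr.nd (nat_lit 4807) (Tr.lf (Fc.ed (nat_lit 4806) (nat_lit 1641) Col.a (nat_lit 1544) (Dv.wd (nat_lit 23) [Mv.f (nat_lit 4590), Mv.f (nat_lit 4549), Mv.f (nat_lit 4804)])))
(Tr.nd (nat_lit 4808) (Tr.lf (Fc.ed (nat_lit 4807) (nat_lit 1095) Col.gi (nat_lit 1642) Dv.df))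
(Tr.lf (Fc.ed (nat_lit 4808) (nat_lit 1424) Col.e (nat_lit 1643) Dv.df)))))
(Tr.nd (nat_lit 4811) (Tr.nd (nat_lit 4810) (Tr.lf (Fc.ed (nat_lit 4809) (nat_lit 1604) Col.g (nat_lit 1644) Dv.df))
(Tr.lf (Fc.ed (nat_lit 4810) (nat_lit 1644) Col.g (nat_lit 638) (Dv.wd (nat_lit 9) [Mv.f (nat_lit 4441), Mv.b (nat_lit 4717), Mv.f (nat_lit 4809)]))))
(Tr.nd (nat_lit 4812) (Tr.lf (Fc.ed (nat_lit 4811) (nat_lit 1467) Col.gi (nat_lit 1645) Dv.df))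
(Tr.nd (nat_lit 4813) (Tr.lf (Fc.ed (nat_lit 4812) (nat_lit 1645) Col.gi (nat_lit 687) (Dv.wd (nat_lit 24) [Mv.b (nat_lit 2018), Mv.f (nat_lit 4424), Mv.f (nat_lit 4811)])))
(Tr.lf (Fc.ed (nat_lit 4813) (nat_lit 1255) Col.f (nat_lit 1646) Dv.df))))))
(Tr.nd (nat_lit 4819) (Tr.nd (nat_lit 4816) (Tr.nd (nat_lit 4815) (Tr.lf (Fc.ed (nat_lit 4814) (nat_lit 1646) Col.a (nat_lit 1646) (Dv.wd (nat_lit 16) [Mv.b (nat_lit 4813), Mv.f (nat_lit 3854), Mv.f (nat_lit 4813)])))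
(Tr.lf (Fc.ed (nat_lit 4815) (nat_lit 1646) Col.b (nat_lit 817) (Dv.wd (nat_lit 66) [Mv.b (nat_lit 2338), Mv.f (nat_lit 3852), Mv.f (nat_lit 4813)]))))
(Tr.nd (nat_lit 4817) (Tr.lf (Fc.ed (nat_lit 4816) (nat_lit 1437) Col.gi (nat_lit 1647) Dv.df))
(Tr.nd (nat_lit 4818) (Tr.lf (Fc.ed (nat_lit 4817) (nat_lit 1647) Col.c (nat_lit 1449) (Dv.wd (nat_lit 143) [Mv.f (nat_lit 4390), Mv.b (nat_lit 4200), Mv.f (nat_lit 4115), Mv.f (nat_lit 3445), Mv.b (nat_lit 3462), Mv.f (nat_lit 3463), Mv.b (nat_lit 2319), Mv.b (nat_lit 4305), Mv.f (nat_lit 4339), Mv.f (nat_lit 4816)])))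
(Tr.lf (Fc.ed (nat_lit 4818) (nat_lit 1159) Col.a (nat_lit 1648) Dv.df)))))
(Tr.nd (nat_lit 4821) (Tr.nd (nat_lit 4820) (Tr.lf (Fc.ed (nat_lit 4819) (nat_lit 779) Col.e (nat_lit 1649) Dv.df))
(Tr.lf (Fc.ed (nat_lit 4820) (nat_lit 1649) Col.a (nat_lit 1251) (Dv.wd (nat_lit 15) [Mv.b (nat_lit 3843), Mv.b (nat_lit 2335), Mv.f (nat_lit 4819)]))))
(Tr.nd (nat_lit 4822) (Tr.lf (Fc.ed (nat_lit 4821) (nat_lit 1649) Col.b (nat_lit 1649) (Dv.wd (nat_lit 49) [Mv.b (nat_lit 4819), Mv.f (nat_lit 2235), Mv.f (nat_lit 4819)])))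
(Tr.nd (nat_lit 4823) (Tr.lf (Fc.ed (nat_lit 4822) (nat_lit 1649) Col.d (nat_lit 1649) (Dv.wd (nat_lit 59) [Mv.b (nat_lit 4819), Mv.b (nat_lit 2234), Mv.f (nat_lit 1182), Mv.f (nat_lit 2234), Mv.f (nat_lit 4819)])))
(Tr.lf (Fc.ed (nat_lit 4823) (nat_lit 1251) Col.d (nat_lit 1251) (Dv.wd (nat_lit 28) [Mv.b (nat_lit 4820), Mv.f (nat_lit 4822), Mv.f (nat_lit 4820)]))))))))
(Tr.nd (nat_lit 4834) (Tr.nd (nat_lit 4829) (Tr.nd (nat_lit 4826) (Tr.nd (nat_lit 4825) (Tr.lf (Fc.ed (nat_lit 4824) (nat_lit 1601) Col.d (nat_lit 1601) (Dv.wd (nat_lit 90) [Mv.b (nat_lit 4710), Mv.f (nat_lit 4823), Mv.f (nat_lit 4710)])))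
(Tr.lf (Fc.ed (nat_lit 4825) (nat_lit 1393) Col.c (nat_lit 1650) Dv.df)))
(Tr.nd (nat_lit 4827) (Tr.lf (Fc.ed (nat_lit 4826) (nat_lit 1650) Col.f (nat_lit 1492) (Dv.wd (nat_lit 26) [Mv.b (nat_lit 4480), Mv.b (nat_lit 4227), Mv.f (nat_lit 4825)])))
(Tr.nd (nat_lit 4828) (Tr.lf (Fc.ed (nat_lit 4827) (nat_lit 1650) Col.gi (nat_lit 1641) (Dv.wd (nat_lit 88) [Mv.f (nat_lit 4805), Mv.f (nat_lit 2365), Mv.b (nat_lit 2237), Mv.f (nat_lit 2235), Mv.f (nat_lit 3437), Mv.f (nat_lit 3786), Mv.f (nat_lit 3789), Mv.f (nat_lit 2088), Mv.b (nat_lit 4226), Mv.f (nat_lit 4825)])))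
(Tr.lf (Fc.ed (nat_lit 4828) (nat_lit 1137) Col.g (nat_lit 1651) Dv.df)))))
(Tr.nd (nat_lit 4831) (Tr.nd (nat_lit 4830) (Tr.lf (Fc.ed (nat_lit 4829) (nat_lit 931) Col.a (nat_lit 1652) Dv.df))
(Tr.lf (Fc.ed (nat_lit 4830) (nat_lit 1652) Col.f (nat_lit 853) (Dv.wd (nat_lit 10) [Mv.b (nat_lit 2429), Mv.b (nat_lit 2954), Mv.f (nat_lit 4829)]))))
(Tr.nd (nat_lit 4832) (Tr.lf (Fc.ed (nat_lit 4831) (nat_lit 760) Col.a (nat_lit 1653) Dv.df))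
(Tr.nd (nat_lit 4833) (Tr.lf (Fc.ed (nat_lit 4832) (nat_lit 1653) Col.d (nat_lit 1309) (Dv.wd (nat_lit 28) [Mv.b (nat_lit 3977), Mv.b (nat_lit 2949), Mv.f (nat_lit 4831)])))
(Tr.lf (Fc.ed (nat_lit 4833) (nat_lit 1653) Col.b (nat_lit 1653) (Dv.wd (nat_lit 65) [Mv.b (nat_lit 4831), Mv.f (nat_lit 2194), Mv.f (nat_lit 547), Mv.b (nat_lit 2194), Mv.f (nat_lit 4831)])))))))
(Tr.nd (nat_lit 4839) (Tr.nd (nat_lit 4836) (Tr.nd (nat_lit 4835) (Tr.lf (Fc.ed (nat_lit 4834) (nat_lit 790) Col.a (nat_lit 1654) Dv.df))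
(Tr.lf (Fc.ed (nat_lit 4835) (nat_lit 1654) Col.d (nat_lit 1467) (Dv.wd (nat_lit 28) [Mv.b (nat_lit 4424), Mv.f (nat_lit 2263), Mv.f (nat_lit 4834)]))))
(Tr.nd (nat_lit 4837) (Tr.lf (Fc.ed (nat_lit 4836) (nat_lit 1654) Col.f (nat_lit 1558) (Dv.wd (nat_lit 35) [Mv.f (nat_lit 4622), Mv.f (nat_lit 3209), Mv.f (nat_lit 4834)])))
(Tr.nd (nat_lit 4838) (Tr.lf (Fc.ed (nat_lit 4837) (nat_lit 1513) Col.d (nat_lit 1655) Dv.df))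
(Tr.lf (Fc.ed (nat_lit 4838) (nat_lit 1653) Col.f (nat_lit 1656) Dv.df)))))
(Tr.nd (nat_lit 4842) (Tr.nd (nat_lit 4840) (Tr.lf (Fc.ed (nat_lit 4839) (nat_lit 1656) Col.a (nat_lit 747) (Dv.wd (nat_lit 16) [Mv.f (nat_lit 2193), Mv.f (nat_lit 4831), Mv.f (nat_lit 4838)])))
(Tr.nd (nat_lit 4841) (Tr.lf (Fc.ed (nat_lit 4840) (nat_lit 1656) Col.b (nat_lit 1656) (Dv.wd (nat_lit 66) [Mv.b (nat_lit 4838), Mv.f (nat_lit 4833), Mv.f (nat_lit 4838)])))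
(Tr.lf (Fc.ed (nat_lit 4841) (nat_lit 1399) Col.c (nat_lit 1656) (Dv.wd (nat_lit 134) [Mv.f (nat_lit 4839), Mv.f (nat_lit 2166), Mv.f (nat_lit 4243)])))))
(Tr.nd (nat_lit 4843) (Tr.lf (Fc.ed (nat_lit 4842) (nat_lit 1611) Col.e (nat_lit 1656) (Dv.wd (nat_lit 72) [Mv.f (nat_lit 4839), Mv.f (nat_lit 2165), Mv.f (nat_lit 4735)])))
(Tr.nd (nat_lit 4844) (Tr.lf (Fc.ed (nat_lit 4843) (nat_lit 659) Col.c (nat_lit 1657) Dv.df))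
(Tr.lf (Fc.ed (nat_lit 4844) (nat_lit 1657) Col.f (nat_lit 1626) (Dv.wd (nat_lit 26) [Mv.b (nat_lit 4776), Mv.f (nat_lit 1938), Mv.f (nat_lit 4843)]))))))))))
(Tr.nd (nat_lit 4886) (Tr.nd (nat_lit 4865) (Tr.nd (nat_lit 4855) (Tr.nd (nat_lit 4850) (Tr.nd (nat_lit 4847) (Tr.nd (nat_lit 4846) (Tr.lf (Fc.ed (nat_lit 4845) (nat_lit 1299) Col.a (nat_lit 1658) Dv.df))
(Tr.lf (Fc.ed (nat_lit 4846) (nat_lit 1650) Col.g (nat_lit 1659) Dv.df)))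
(Tr.nd (nat_lit 4848) (Tr.lf (Fc.ed (nat_lit 4847) (nat_lit 1659) Col.c (nat_lit 1060) (Dv.wd (nat_lit 83) [Mv.b (nat_lit 3280), Mv.f (nat_lit 2066), Mv.f (nat_lit 2069), Mv.b (nat_lit 2117), Mv.f (nat_lit 3659), Mv.f (nat_lit 4342), Mv.f (nat_lit 4343), Mv.f (nat_lit 4825), Mv.f (nat_lit 4846)])))
(Tr.nd (nat_lit 4849) (Tr.lf (Fc.ed (nat_lit 4848) (nat_lit 1544) Col.f (nat_lit 1659) (Dv.wd (nat_lit 64) [Mv.f (nat_lit 4847), Mv.b (nat_lit 3676), Mv.f (nat_lit 4589)])))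
(Tr.lf (Fc.ed (nat_lit 4849) (nat_lit 759) Col.b (nat_lit 1660) Dv.df)))))
(Tr.nd (nat_lit 4852) (Tr.nd (nat_lit 4851) (Tr.lf (Fc.ed (nat_lit 4850) (nat_lit 1660) Col.c (nat_lit 1660) (Dv.wd (nat_lit 93) [Mv.b (nat_lit 4849), Mv.f (nat_lit 2192), Mv.f (nat_lit 1943), Mv.b (nat_lit 2192), Mv.f (nat_lit 4849)])))
(Tr.lf (Fc.ed (nat_lit 4851) (nat_lit 810) Col.e (nat_lit 1661) Dv.df)))
(Tr.nd (nat_lit 4853) (Tr.lf (Fc.ed (nat_lit 4852) (nat_lit 1661) Col.a (nat_lit 1119) (Dv.wd (nat_lit 15) [Mv.b (nat_lit 3450), Mv.b (nat_lit 2331), Mv.f (nat_lit 4851)])))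
(Tr.nd (nat_lit 4854) (Tr.lf (Fc.ed (nat_lit 4853) (nat_lit 1661) Col.b (nat_lit 1643) (Dv.wd (nat_lit 49) [Mv.b (nat_lit 4808), Mv.f (nat_lit 4305), Mv.f (nat_lit 4851)])))
(Tr.lf (Fc.ed (nat_lit 4854) (nat_lit 725) Col.d (nat_lit 1662) Dv.df))))))
(Tr.nd (nat_lit 4860) (Tr.nd (nat_lit 4857) (Tr.nd (nat_lit 4856) (Tr.lf (Fc.ed (nat_lit 4855) (nat_lit 1662) Col.a (nat_lit 1514) (Dv.wd (nat_lit 8) [Mv.f (nat_lit 4528), Mv.b (nat_lit 2151), Mv.f (nat_lit 4854)])))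
(Tr.lf (Fc.ed (nat_lit 4856) (nat_lit 1588) Col.f (nat_lit 1663) Dv.df)))
(Tr.nd (nat_lit 4858) (Tr.lf (Fc.ed (nat_lit 4857) (nat_lit 1663) Col.c (nat_lit 1622) (Dv.wd (nat_lit 34) [Mv.b (nat_lit 4759), Mv.b (nat_lit 4692), Mv.f (nat_lit 4856)])))
(Tr.nd (nat_lit 4859) (Tr.lf (Fc.ed (nat_lit 4858) (nat_lit 1636) Col.e (nat_lit 1664) Dv.df))
(Tr.lf (Fc.ed (nat_lit 4859) (nat_lit 1664) Col.c (nat_lit 796) (Dv.wd (nat_lit 18) [Mv.f (nat_lit 3571), Mv.f (nat_lit 4795), Mv.f (nat_lit 4858)]))))))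
(Tr.nd (nat_lit 4862) (Tr.nd (nat_lit 4861) (Tr.lf (Fc.ed (nat_lit 4860) (nat_lit 833) Col.e (nat_lit 1665) Dv.df))
(Tr.lf (Fc.ed (nat_lit 4861) (nat_lit 1665) Col.b (nat_lit 1665) (Dv.wd (nat_lit 49) [Mv.b (nat_lit 4860), Mv.f (nat_lit 2381), Mv.f (nat_lit 4860)]))))
(Tr.nd (nat_lit 4863) (Tr.lf (Fc.ed (nat_lit 4862) (nat_lit 1665) Col.d (nat_lit 1585) (Dv.wd (nat_lit 59) [Mv.b (nat_lit 4687), Mv.b (nat_lit 2352), Mv.f (nat_lit 1669), Mv.b (nat_lit 2380), Mv.f (nat_lit 4860)])))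
(Tr.nd (nat_lit 4864) (Tr.lf (Fc.ed (nat_lit 4863) (nat_lit 1647) Col.gi (nat_lit 1666) Dv.df))
(Tr.lf (Fc.ed (nat_lit 4864) (nat_lit 1666) Col.c (nat_lit 1346) (Dv.wd (nat_lit 81) [Mv.f (nat_lit 4323), Mv.b (nat_lit 4319), Mv.b (nat_lit 2069), Mv.f (nat_lit 2066), Mv.b (nat_lit 3159), Mv.b (nat_lit 3555), Mv.f (nat_lit 4389), Mv.b (nat_lit 4817), Mv.f (nat_lit 4863)]))))))))
(Tr.nd (nat_lit 4875) (Tr.nd (nat_lit 4870) (Tr.nd (nat_lit 4867) (Tr.nd (nat_lit 4866) (Tr.lf (Fc.ed (nat_lit 4865) (nat_lit 1251) Col.b (nat_lit 1667) Dv.df))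
(Tr.lf (Fc.ed (nat_lit 4866) (nat_lit 1667) Col.d (nat_lit 1667) (Dv.wd (nat_lit 58) [Mv.b (nat_lit 4865), Mv.f (nat_lit 4823), Mv.f (nat_lit 4865)]))))
(Tr.nd (nat_lit 4868) (Tr.lf (Fc.ed (nat_lit 4867) (nat_lit 1667) Col.e (nat_lit 1646) (Dv.wd (nat_lit 52) [Mv.f (nat_lit 4815), Mv.f (nat_lit 3843), Mv.f (nat_lit 4865)])))
(Tr.nd (nat_lit 4869) (Tr.lf (Fc.ed (nat_lit 4868) (nat_lit 1667) Col.a (nat_lit 1667) (Dv.wd (nat_lit 98) [Mv.b (nat_lit 4865), Mv.b (nat_lit 4820), Mv.f (nat_lit 4821), Mv.f (nat_lit 4820), Mv.f (nat_lit 4865)])))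
(Tr.lf (Fc.ed (nat_lit 4869) (nat_lit 839) Col.e (nat_lit 1668) Dv.df)))))
(Tr.nd (nat_lit 4872) (Tr.nd (nat_lit 4871) (Tr.lf (Fc.ed (nat_lit 4870) (nat_lit 1668) Col.a (nat_lit 951) (Dv.wd (nat_lit 15) [Mv.b (nat_lit 3006), Mv.b (nat_lit 2399), Mv.f (nat_lit 4869)])))
(Tr.lf (Fc.ed (nat_lit 4871) (nat_lit 1668) Col.b (nat_lit 1274) (Dv.wd (nat_lit 49) [Mv.b (nat_lit 3892), Mv.b (nat_lit 2938), Mv.f (nat_lit 4869)]))))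
(Tr.nd (nat_lit 4873) (Tr.lf (Fc.ed (nat_lit 4872) (nat_lit 1668) Col.d (nat_lit 1668) (Dv.wd (nat_lit 59) [Mv.b (nat_lit 4869), Mv.b (nat_lit 2398), Mv.f (nat_lit 783), Mv.f (nat_lit 2398), Mv.f (nat_lit 4869)])))
(Tr.nd (nat_lit 4874) (Tr.lf (Fc.ed (nat_lit 4873) (nat_lit 1533) Col.b (nat_lit 1669) Dv.df))
(Tr.lf (Fc.ed (nat_lit 4874) (nat_lit 1669) Col.d (nat_lit 1669) (Dv.wd (nat_lit 58) [Mv.b (nat_lit 4873), Mv.f (nat_lit 4570), Mv.f (nat_lit 4873)])))))))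
(Tr.nd (nat_lit 4880) (Tr.nd (nat_lit 4877) (Tr.nd (nat_lit 4876) (Tr.lf (Fc.ed (nat_lit 4875) (nat_lit 1669) Col.e (nat_lit 797) (Dv.wd (nat_lit 52) [Mv.f (nat_lit 2284), Mv.f (nat_lit 4569), Mv.f (nat_lit 4873)])))
(Tr.lf (Fc.ed (nat_lit 4876) (nat_lit 1387) Col.f (nat_lit 1670) Dv.df)))
(Tr.nd (nat_lit 4878) (Tr.lf (Fc.ed (nat_lit 4877) (nat_lit 1670) Col.b (nat_lit 1226) (Dv.wd (nat_lit 66) [Mv.b (nat_lit 3779), Mv.f (nat_lit 4208), Mv.f (nat_lit 4876)])))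
(Tr.nd (nat_lit 4879) (Tr.lf (Fc.ed (nat_lit 4878) (nat_lit 1327) Col.f (nat_lit 1671) Dv.df))
(Tr.lf (Fc.ed (nat_lit 4879) (nat_lit 1671) Col.a (nat_lit 1278) (Dv.wd (nat_lit 23) [Mv.f (nat_lit 3907), Mv.f (nat_lit 4012), Mv.f (nat_lit 4878)]))))))
(Tr.nd (nat_lit 4883) (Tr.nd (nat_lit 4881) (Tr.lf (Fc.ed (nat_lit 4880) (nat_lit 926) Col.f (nat_lit 1672) Dv.df))
(Tr.nd (nat_lit 4882) (Tr.lf (Fc.ed (nat_lit 4881) (nat_lit 1672) Col.a (nat_lit 1672) (Dv.wd (nat_lit 16) [Mv.b (nat_lit 4880), Mv.f (nat_lit 2943), Mv.f (nat_lit 4880)])))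
(Tr.lf (Fc.ed (nat_lit 4882) (nat_lit 827) Col.e (nat_lit 1673) Dv.df))))
(Tr.nd (nat_lit 4884) (Tr.lf (Fc.ed (nat_lit 4883) (nat_lit 1673) Col.a (nat_lit 1347) (Dv.wd (nat_lit 15) [Mv.f (nat_lit 4118), Mv.f (nat_lit 3674), Mv.f (nat_lit 4882)])))
(Tr.nd (nat_lit 4885) (Tr.lf (Fc.ed (nat_lit 4884) (nat_lit 1673) Col.b (nat_lit 1368) (Dv.wd (nat_lit 49) [Mv.f (nat_lit 4168), Mv.b (nat_lit 2365), Mv.f (nat_lit 4882)])))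
(Tr.lf (Fc.ed (nat_lit 4885) (nat_lit 1673) Col.d (nat_lit 1552) (Dv.wd (nat_lit 59) [Mv.b (nat_lit 4607), Mv.b (nat_lit 3048), Mv.f (nat_lit 1176), Mv.f (nat_lit 2364), Mv.f (nat_lit 4882)])))))))))
(Tr.nd (nat_lit 4907) (Tr.nd (nat_lit 4896) (Tr.nd (nat_lit 4891) (Tr.nd (nat_lit 4888) (Tr.nd (nat_lit 4887) (Tr.lf (Fc.ed (nat_lit 4886) (nat_lit 1293) Col.f (nat_lit 1674) Dv.df))
(Tr.lf (Fc.ed (nat_lit 4887) (nat_lit 1386) Col.gi (nat_lit 1675) Dv.df)))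
(Tr.nd (nat_lit 4889) (Tr.lf (Fc.ed (nat_lit 4888) (nat_lit 1491) Col.a (nat_lit 1676) Dv.df))
(Tr.nd (nat_lit 4890) (Tr.lf (Fc.ed (nat_lit 4889) (nat_lit 945) Col.a (nat_lit 1677) Dv.df))
(Tr.lf (Fc.ed (nat_lit 4890) (nat_lit 1677) Col.d (nat_lit 1648) (Dv.wd (nat_lit 28) [Mv.b (nat_lit 4818), Mv.f (nat_lit 3573), Mv.f (nat_lit 4889)]))))))
(Tr.nd (nat_lit 4893) (Tr.nd (nat_lit 4892) (Tr.lf (Fc.ed (nat_lit 4891) (nat_lit 1677) Col.e (nat_lit 1036) (Dv.wd (nat_lit 56) [Mv.b (nat_lit 3226), Mv.f (nat_lit 2993), Mv.f (nat_lit 4889)])))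
(Tr.lf (Fc.ed (nat_lit 4892) (nat_lit 1661) Col.c (nat_lit 1678) Dv.df)))
(Tr.nd (nat_lit 4894) (Tr.lf (Fc.ed (nat_lit 4893) (nat_lit 1678) Col.a (nat_lit 1593) (Dv.wd (nat_lit 19) [Mv.b (nat_lit 4700), Mv.b (nat_lit 4852), Mv.f (nat_lit 4892)])))
(Tr.nd (nat_lit 4895) (Tr.lf (Fc.ed (nat_lit 4894) (nat_lit 1678) Col.e (nat_lit 963) (Dv.wd (nat_lit 25) [Mv.b (nat_lit 3036), Mv.f (nat_lit 4851), Mv.f (nat_lit 4892)])))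
(Tr.lf (Fc.ed (nat_lit 4895) (nat_lit 1541) Col.a (nat_lit 1679) Dv.df))))))
(Tr.nd (nat_lit 4901) (Tr.nd (nat_lit 4898) (Tr.nd (nat_lit 4897) (Tr.lf (Fc.ed (nat_lit 4896) (nat_lit 1679) Col.d (nat_lit 1679) (Dv.wd (nat_lit 28) [Mv.b (nat_lit 4895), Mv.f (nat_lit 4586), Mv.f (nat_lit 4895)])))
(Tr.lf (Fc.ed (nat_lit 4897) (nat_lit 1679) Col.e (nat_lit 850) (Dv.wd (nat_lit 56) [Mv.f (nat_lit 2424), Mv.f (nat_lit 4585), Mv.f (nat_lit 4895)]))))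
(Tr.nd (nat_lit 4899) (Tr.lf (Fc.ed (nat_lit 4898) (nat_lit 1466) Col.gi (nat_lit 1680) Dv.df))
(Tr.nd (nat_lit 4900) (Tr.lf (Fc.ed (nat_lit 4899) (nat_lit 1680) Col.b (nat_lit 1681) Dv.df))
(Tr.lf (Fc.ed (nat_lit 4900) (nat_lit 217) Col.gi (nat_lit 1682) Dv.df)))))
(Tr.nd (nat_lit 4904) (Tr.nd (nat_lit 4902) (Tr.lf (Fc.ed (nat_lit 4901) (nat_lit 1682) Col.gi (nat_lit 829) (Dv.wd (nat_lit 24) [Mv.b (nat_lit 2369), Mv.b (nat_lit 2621), Mv.f (nat_lit 4900)])))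
(Tr.nd (nat_lit 4903) (Tr.lf (Fc.ed (nat_lit 4902) (nat_lit 1169) Col.c (nat_lit 1683) Dv.df))
(Tr.lf (Fc.ed (nat_lit 4903) (nat_lit 1683) Col.e (nat_lit 1640) (Dv.wd (nat_lit 25) [Mv.b (nat_lit 4802), Mv.f (nat_lit 4733), Mv.f (nat_lit 4902)])))))
(Tr.nd (nat_lit 4905) (Tr.lf (Fc.ed (nat_lit 4904) (nat_lit 1683) Col.b (nat_lit 1664) (Dv.wd (nat_lit 87) [Mv.f (nat_lit 4859), Mv.f (nat_lit 2281), Mv.b (nat_lit 788), Mv.f (nat_lit 3597), Mv.f (nat_lit 4902)])))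
(Tr.nd (nat_lit 4906) (Tr.lf (Fc.ed (nat_lit 4905) (nat_lit 1199) Col.d (nat_lit 1684) Dv.df))
(Tr.lf (Fc.ed (nat_lit 4906) (nat_lit 1684) Col.f (nat_lit 1270) (Dv.wd (nat_lit 11) [Mv.b (nat_lit 3886), Mv.b (nat_lit 3692), Mv.f (nat_lit 4905)]))))))))
(Tr.nd (nat_lit 4917) (Tr.nd (nat_lit 4912) (Tr.nd (nat_lit 4909) (Tr.nd (nat_lit 4908) (Tr.lf (Fc.ed (nat_lit 4907) (nat_lit 843) Col.a (nat_lit 1685) Dv.df))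
(Tr.lf (Fc.ed (nat_lit 4908) (nat_lit 1685) Col.d (nat_lit 1419) (Dv.wd (nat_lit 28) [Mv.b (nat_lit 4292), Mv.b (nat_lit 2442), Mv.f (nat_lit 4907)]))))
(Tr.nd (nat_lit 4910) (Tr.lf (Fc.ed (nat_lit 4909) (nat_lit 1669) Col.c (nat_lit 1686) Dv.df))
(Tr.nd (nat_lit 4911) (Tr.lf (Fc.ed (nat_lit 4910) (nat_lit 1686) Col.e (nat_lit 994) (Dv.wd (nat_lit 25) [Mv.b (nat_lit 3121), Mv.b (nat_lit 4875), Mv.f (nat_lit 4909)])))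
(Tr.lf (Fc.ed (nat_lit 4911) (nat_lit 1641) Col.b (nat_lit 1687) Dv.df)))))
(Tr.nd (nat_lit 4914) (Tr.nd (nat_lit 4913) (Tr.lf (Fc.ed (nat_lit 4912) (nat_lit 997) Col.a (nat_lit 1688) Dv.df))
(Tr.lf (Fc.ed (nat_lit 4913) (nat_lit 1688) Col.f (nat_lit 813) (Dv.wd (nat_lit 35) [Mv.f (nat_lit 3215), Mv.f (nat_lit 3216), Mv.f (nat_lit 4912)]))))
(Tr.nd (nat_lit 4915) (Tr.lf (Fc.ed (nat_lit 4914) (nat_lit 769) Col.g (nat_lit 997) (Dv.wd (nat_lit 9) [Mv.f (nat_lit 4912), Mv.f (nat_lit 4913), Mv.b (nat_lit 2326)])))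
(Tr.nd (nat_lit 4916) (Tr.lf (Fc.ed (nat_lit 4915) (nat_lit 1249) Col.e (nat_lit 1689) Dv.df))
(Tr.lf (Fc.ed (nat_lit 4916) (nat_lit 1689) Col.a (nat_lit 1643) (Dv.wd (nat_lit 15) [Mv.b (nat_lit 4808), Mv.f (nat_lit 4304), Mv.f (nat_lit 4915)])))))))
(Tr.nd (nat_lit 4922) (Tr.nd (nat_lit 4919) (Tr.nd (nat_lit 4918) (Tr.lf (Fc.ed (nat_lit 4917) (nat_lit 1689) Col.b (nat_lit 1258) (Dv.wd (nat_lit 49) [Mv.b (nat_lit 3857), Mv.f (nat_lit 3840), Mv.f (nat_lit 4915)])))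
(Tr.lf (Fc.ed (nat_lit 4918) (nat_lit 1689) Col.d (nat_lit 1448) (Dv.wd (nat_lit 59) [Mv.f (nat_lit 4388), Mv.b (nat_lit 4250), Mv.f (nat_lit 2346), Mv.b (nat_lit 3839), Mv.f (nat_lit 4915)]))))
(Tr.nd (nat_lit 4920) (Tr.lf (Fc.ed (nat_lit 4919) (nat_lit 1682) Col.a (nat_lit 1690) Dv.df))
(Tr.nd (nat_lit 4921) (Tr.lf (Fc.ed (nat_lit 4920) (nat_lit 1690) Col.f (nat_lit 1245) (Dv.wd (nat_lit 10) [Mv.f (nat_lit 3831), Mv.b (nat_lit 4901), Mv.f (nat_lit 4919)])))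
(Tr.lf (Fc.ed (nat_lit 4921) (nat_lit 1279) Col.a (nat_lit 1691) Dv.df)))))
(Tr.nd (nat_lit 4925) (Tr.nd (nat_lit 4923) (Tr.lf (Fc.ed (nat_lit 4922) (nat_lit 1691) Col.f (nat_lit 1462) (Dv.wd (nat_lit 35) [Mv.b (nat_lit 4416), Mv.f (nat_lit 4247), Mv.f (nat_lit 4921)])))
(Tr.nd (nat_lit 4924) (Tr.lf (Fc.ed (nat_lit 4923) (nat_lit 643) Col.b (nat_lit 1692) Dv.df))
(Tr.lf (Fc.ed (nat_lit 4924) (nat_lit 1692) Col.d (nat_lit 1590) (Dv.wd (nat_lit 58) [Mv.b (nat_lit 4694), Mv.f (nat_lit 1892), Mv.f (nat_lit 4923)])))))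
(Tr.nd (nat_lit 4926) (Tr.lf (Fc.ed (nat_lit 4925) (nat_lit 1670) Col.e (nat_lit 1693) Dv.df))
(Tr.nd (nat_lit 4927) (Tr.lf (Fc.ed (nat_lit 4926) (nat_lit 1693) Col.b (nat_lit 1214) (Dv.wd (nat_lit 49) [Mv.b (nat_lit 3783), Mv.b (nat_lit 4877), Mv.f (nat_lit 4925)])))
(Tr.lf (Fc.ed (nat_lit 4927) (nat_lit 1693) Col.f (nat_lit 1572) (Dv.wd (nat_lit 96) [Mv.b (nat_lit 4658), Mv.f (nat_lit 2946), Mv.b (nat_lit 4210), Mv.f (nat_lit 4876), Mv.f (nat_lit 4925)]))))))))))))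
(Tr.nd (nat_lit 5092) (Tr.nd (nat_lit 5010) (Tr.nd (nat_lit 4969) (Tr.nd (nat_lit 4948) (Tr.nd (nat_lit 4938) (Tr.nd (nat_lit 4933) (Tr.nd (nat_lit 4930) (Tr.nd (nat_lit 4929) (Tr.lf (Fc.ed (nat_lit 4928) (nat_lit 943) Col.d (nat_lit 1694) Dv.df))
(Tr.lf (Fc.ed (nat_lit 4929) (nat_lit 1694) Col.a (nat_lit 1547) (Dv.wd (nat_lit 8) [Mv.b (nat_lit 4596), Mv.b (nat_lit 2989), Mv.f (nat_lit 4928)]))))
(Tr.nd (nat_lit 4931) (Tr.lf (Fc.ed (nat_lit 4930) (nat_lit 504) Col.b (nat_lit 1695) Dv.df))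
(Tr.nd (nat_lit 4932) (Tr.lf (Fc.ed (nat_lit 4931) (nat_lit 1695) Col.d (nat_lit 1587) (Dv.wd (nat_lit 58) [Mv.b (nat_lit 4690), Mv.f (nat_lit 1175), Mv.f (nat_lit 4930)])))
(Tr.lf (Fc.ed (nat_lit 4932) (nat_lit 693) Col.e (nat_lit 1696) Dv.df)))))
(Tr.nd (nat_lit 4935) (Tr.nd (nat_lit 4934) (Tr.lf (Fc.ed (nat_lit 4933) (nat_lit 840) Col.a (nat_lit 1697) Dv.df))
(Tr.lf (Fc.ed (nat_lit 4934) (nat_lit 1697) Col.d (nat_lit 1496) (Dv.wd (nat_lit 28) [Mv.b (nat_lit 4489), Mv.f (nat_lit 2969), Mv.f (nat_lit 4933)]))))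
(Tr.nd (nat_lit 4936) (Tr.lf (Fc.ed (nat_lit 4935) (nat_lit 1697) Col.e (nat_lit 1685) (Dv.wd (nat_lit 56) [Mv.b (nat_lit 4907), Mv.b (nat_lit 2410), Mv.f (nat_lit 4933)])))
(Tr.nd (nat_lit 4937) (Tr.lf (Fc.ed (nat_lit 4936) (nat_lit 1595) Col.gi (nat_lit 1698) Dv.df))
(Tr.lf (Fc.ed (nat_lit 4937) (nat_lit 1239) Col.e (nat_lit 1699) Dv.df))))))
(Tr.nd (nat_lit 4943) (Tr.nd (nat_lit 4940) (Tr.nd (nat_lit 4939) (Tr.lf (Fc.ed (nat_lit 4938) (nat_lit 1699) Col.b (nat_lit 1509) (Dv.wd (nat_lit 49) [Mv.f (nat_lit 4517), Mv.f (nat_lit 3810), Mv.f (nat_lit 4937)])))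
(Tr.lf (Fc.ed (nat_lit 4939) (nat_lit 1376) Col.e (nat_lit 1700) Dv.df)))
(Tr.nd (nat_lit 4941) (Tr.lf (Fc.ed (nat_lit 4940) (nat_lit 1700) Col.b (nat_lit 476) (Dv.wd (nat_lit 49) [Mv.f (nat_lit 4165), Mv.f (nat_lit 4189), Mv.f (nat_lit 4939)])))
(Tr.nd (nat_lit 4942) (Tr.lf (Fc.ed (nat_lit 4941) (nat_lit 1577) Col.a (nat_lit 1701) Dv.df))
(Tr.lf (Fc.ed (nat_lit 4942) (nat_lit 1701) Col.d (nat_lit 638) (Dv.wd (nat_lit 28) [Mv.f (nat_lit 4441), Mv.f (nat_lit 4671), Mv.f (nat_lit 4941)]))))))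
(Tr.nd (nat_lit 4945) (Tr.nd (nat_lit 4944) (Tr.lf (Fc.ed (nat_lit 4943) (nat_lit 1701) Col.f (nat_lit 1176) (Dv.wd (nat_lit 35) [Mv.b (nat_lit 4755), Mv.f (nat_lit 4756), Mv.f (nat_lit 4941)])))
(Tr.lf (Fc.ed (nat_lit 4944) (nat_lit 1198) Col.b (nat_lit 1701) (Dv.wd (nat_lit 107) [Mv.f (nat_lit 4943), Mv.f (nat_lit 3630), Mv.f (nat_lit 3687)]))))
(Tr.nd (nat_lit 4946) (Tr.lf (Fc.ed (nat_lit 4945) (nat_lit 1040) Col.b (nat_lit 1702) Dv.df))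
(Tr.nd (nat_lit 4947) (Tr.lf (Fc.ed (nat_lit 4946) (nat_lit 1702) Col.e (nat_lit 1351) (Dv.wd (nat_lit 52) [Mv.f (nat_lit 4128), Mv.f (nat_lit 3235), Mv.f (nat_lit 4945)])))
(Tr.lf (Fc.ed (nat_lit 4947) (nat_lit 955) Col.d (nat_lit 1703) Dv.df)))))))
(Tr.nd (nat_lit 4958) (Tr.nd (nat_lit 4953) (Tr.nd (nat_lit 4950) (Tr.nd (nat_lit 4949) (Tr.lf (Fc.ed (nat_lit 4948) (nat_lit 1703) Col.a (nat_lit 1160) (Dv.wd (nat_lit 8) [Mv.b (nat_lit 3575), Mv.f (nat_lit 3303), Mv.f (nat_lit 4947)])))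
(Tr.lf (Fc.ed (nat_lit 4949) (nat_lit 871) Col.g (nat_lit 1704) Dv.df)))
(Tr.nd (nat_lit 4951) (Tr.lf (Fc.ed (nat_lit 4950) (nat_lit 1704) Col.g (nat_lit 875) (Dv.wd (nat_lit 9) [Mv.f (nat_lit 2476), Mv.f (nat_lit 2814), Mv.f (nat_lit 4949)])))
(Tr.nd (nat_lit 4952) (Tr.lf (Fc.ed (nat_lit 4951) (nat_lit 1564) Col.d (nat_lit 1705) Dv.df))
(Tr.lf (Fc.ed (nat_lit 4952) (nat_lit 1705) Col.b (nat_lit 1705) (Dv.wd (nat_lit 37) [Mv.b (nat_lit 4951), Mv.f (nat_lit 4766), Mv.f (nat_lit 4951)]))))))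
(Tr.nd (nat_lit 4955) (Tr.nd (nat_lit 4954) (Tr.lf (Fc.ed (nat_lit 4953) (nat_lit 1705) Col.gi (nat_lit 1449) (Dv.wd (nat_lit 71) [Mv.b (nat_lit 4389), Mv.f (nat_lit 3552), Mv.f (nat_lit 3735), Mv.b (nat_lit 4360), Mv.f (nat_lit 3575), Mv.f (nat_lit 4380), Mv.f (nat_lit 4337), Mv.f (nat_lit 4217), Mv.b (nat_lit 4769), Mv.f (nat_lit 4951)])))
(Tr.lf (Fc.ed (nat_lit 4954) (nat_lit 1624) Col.d (nat_lit 1584) (Dv.wd (nat_lit 113) [Mv.b (nat_lit 4686), Mv.b (nat_lit 4410), Mv.f (nat_lit 3914), Mv.f (nat_lit 3941), Mv.f (nat_lit 3942), Mv.f (nat_lit 4389), Mv.b (nat_lit 4953), Mv.b (nat_lit 4951), Mv.f (nat_lit 4763)]))))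
(Tr.nd (nat_lit 4956) (Tr.lf (Fc.ed (nat_lit 4955) (nat_lit 1584) Col.a (nat_lit 1705) (Dv.wd (nat_lit 8) [Mv.b (nat_lit 4951), Mv.f (nat_lit 4771), Mv.f (nat_lit 4954)])))
(Tr.nd (nat_lit 4957) (Tr.lf (Fc.ed (nat_lit 4956) (nat_lit 1468) Col.f (nat_lit 1584) (Dv.wd (nat_lit 13) [Mv.f (nat_lit 4955), Mv.f (nat_lit 4953), Mv.f (nat_lit 4429)])))
(Tr.lf (Fc.ed (nat_lit 4957) (nat_lit 1498) Col.d (nat_lit 1706) Dv.df))))))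
(Tr.nd (nat_lit 4963) (Tr.nd (nat_lit 4960) (Tr.nd (nat_lit 4959) (Tr.lf (Fc.ed (nat_lit 4958) (nat_lit 1102) Col.e (nat_lit 1707) Dv.df))
(Tr.lf (Fc.ed (nat_lit 4959) (nat_lit 1707) Col.b (nat_lit 1495) (Dv.wd (nat_lit 49) [Mv.b (nat_lit 4487), Mv.b (nat_lit 3401), Mv.f (nat_lit 4958)]))))
(Tr.nd (nat_lit 4961) (Tr.lf (Fc.ed (nat_lit 4960) (nat_lit 1707) Col.d (nat_lit 1699) (Dv.wd (nat_lit 59) [Mv.b (nat_lit 4937), Mv.f (nat_lit 3811), Mv.f (nat_lit 2269), Mv.f (nat_lit 3400), Mv.f (nat_lit 4958)])))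
(Tr.nd (nat_lit 4962) (Tr.lf (Fc.ed (nat_lit 4961) (nat_lit 1292) Col.d (nat_lit 1708) Dv.df))
(Tr.lf (Fc.ed (nat_lit 4962) (nat_lit 1708) Col.a (nat_lit 1350) (Dv.wd (nat_lit 8) [Mv.b (nat_lit 4125), Mv.f (nat_lit 4365), Mv.f (nat_lit 4961)]))))))
(Tr.nd (nat_lit 4966) (Tr.nd (nat_lit 4964) (Tr.lf (Fc.ed (nat_lit 4963) (nat_lit 1708) Col.gi (nat_lit 1393) (Dv.wd (nat_lit 71) [Mv.b (nat_lit 4225), Mv.f (nat_lit 2453), Mv.f (nat_lit 4217), Mv.b (nat_lit 4769), Mv.f (nat_lit 4951), Mv.f (nat_lit 4953), Mv.b (nat_lit 4389), Mv.b (nat_lit 3942), Mv.f (nat_lit 4368), Mv.f (nat_lit 4961)])))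
(Tr.nd (nat_lit 4965) (Tr.lf (Fc.ed (nat_lit 4964) (nat_lit 1554) Col.gi (nat_lit 1708) (Dv.wd (nat_lit 12) [Mv.f (nat_lit 4963), Mv.f (nat_lit 4227), Mv.f (nat_lit 4612)])))
(Tr.lf (Fc.ed (nat_lit 4965) (nat_lit 1659) Col.g (nat_lit 1709) Dv.df))))
(Tr.nd (nat_lit 4967) (Tr.lf (Fc.ed (nat_lit 4966) (nat_lit 1709) Col.g (nat_lit 1641) (Dv.wd (nat_lit 9) [Mv.f (nat_lit 4806), Mv.f (nat_lit 4848), Mv.f (nat_lit 4965)])))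
(Tr.nd (nat_lit 4968) (Tr.lf (Fc.ed (nat_lit 4967) (nat_lit 1709) Col.a (nat_lit 1492) (Dv.wd (nat_lit 114) [Mv.b (nat_lit 4826), Mv.f (nat_lit 4846), Mv.f (nat_lit 4965)])))
(Tr.lf (Fc.ed (nat_lit 4968) (nat_lit 1709) Col.c (nat_lit 1554) (Dv.wd (nat_lit 115) [Mv.f (nat_lit 4614), Mv.b (nat_lit 4298), Mv.f (nat_lit 2365), Mv.f (nat_lit 3024), Mv.f (nat_lit 3376), Mv.f (nat_lit 3375), Mv.f (nat_lit 3810), Mv.f (nat_lit 3812), Mv.b (nat_lit 4847), Mv.f (nat_lit 4965)])))))))))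
(Tr.nd (nat_lit 4989) (Tr.nd (nat_lit 4979) (Tr.nd (nat_lit 4974) (Tr.nd (nat_lit 4971) (Tr.nd (nat_lit 4970) (Tr.lf (Fc.ed (nat_lit 4969) (nat_lit 882) Col.b (nat_lit 1710) Dv.df))
(Tr.lf (Fc.ed (nat_lit 4970) (nat_lit 1166) Col.c (nat_lit 1711) Dv.df)))
(Tr.nd (nat_lit 4972) (Tr.lf (Fc.ed (nat_lit 4971) (nat_lit 1200) Col.c (nat_lit 1712) Dv.df))
(Tr.nd (nat_lit 4973) (Tr.lf (Fc.ed (nat_lit 4972) (nat_lit 1712) Col.a (nat_lit 1712) (Dv.wd (nat_lit 19) [Mv.b (nat_lit 4971), Mv.f (nat_lit 3694), Mv.f (nat_lit 4971)])))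
(Tr.lf (Fc.ed (nat_lit 4973) (nat_lit 1712) Col.f (nat_lit 1550) (Dv.wd (nat_lit 26) [Mv.b (nat_lit 4603), Mv.f (nat_lit 3850), Mv.f (nat_lit 4971)]))))))
(Tr.nd (nat_lit 4976) (Tr.nd (nat_lit 4975) (Tr.lf (Fc.ed (nat_lit 4974) (nat_lit 1712) Col.d (nat_lit 1262) (Dv.wd (nat_lit 147) [Mv.b (nat_lit 3864), Mv.f (nat_lit 3559), Mv.b (nat_lit 3678), Mv.b (nat_lit 3677), Mv.f (nat_lit 3672), Mv.f (nat_lit 3848), Mv.f (nat_lit 3850), Mv.f (nat_lit 3694), Mv.f (nat_lit 4971)])))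
(Tr.lf (Fc.ed (nat_lit 4975) (nat_lit 1712) Col.g (nat_lit 1623) (Dv.wd (nat_lit 77) [Mv.b (nat_lit 4761), Mv.f (nat_lit 4177), Mv.b (nat_lit 4056), Mv.f (nat_lit 4024), Mv.f (nat_lit 3785), Mv.b (nat_lit 2436), Mv.b (nat_lit 3828), Mv.b (nat_lit 3826), Mv.f (nat_lit 4971)]))))
(Tr.nd (nat_lit 4977) (Tr.lf (Fc.ed (nat_lit 4976) (nat_lit 1712) Col.gi (nat_lit 1607) (Dv.wd (nat_lit 78) [Mv.b (nat_lit 4725), Mv.f (nat_lit 4132), Mv.f (nat_lit 4134), Mv.f (nat_lit 3595), Mv.f (nat_lit 3314), Mv.f (nat_lit 3578), Mv.b (nat_lit 3670), Mv.f (nat_lit 3693), Mv.f (nat_lit 4971)])))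
(Tr.nd (nat_lit 4978) (Tr.lf (Fc.ed (nat_lit 4977) (nat_lit 1183) Col.f (nat_lit 1713) Dv.df))
(Tr.lf (Fc.ed (nat_lit 4978) (nat_lit 1713) Col.a (nat_lit 1356) (Dv.wd (nat_lit 16) [Mv.f (nat_lit 4138), Mv.f (nat_lit 3891), Mv.f (nat_lit 4977)])))))))
(Tr.nd (nat_lit 4984) (Tr.nd (nat_lit 4981) (Tr.nd (nat_lit 4980) (Tr.lf (Fc.ed (nat_lit 4979) (nat_lit 1713) Col.d (nat_lit 509) (Dv.wd (nat_lit 21) [Mv.b (nat_lit 2869), Mv.f (nat_lit 3651), Mv.f (nat_lit 4977)])))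
(Tr.lf (Fc.ed (nat_lit 4980) (nat_lit 1607) Col.e (nat_lit 1714) Dv.df)))
(Tr.nd (nat_lit 4982) (Tr.lf (Fc.ed (nat_lit 4981) (nat_lit 1714) Col.a (nat_lit 1714) (Dv.wd (nat_lit 15) [Mv.b (nat_lit 4980), Mv.f (nat_lit 4726), Mv.f (nat_lit 4980)])))
(Tr.nd (nat_lit 4983) (Tr.lf (Fc.ed (nat_lit 4982) (nat_lit 1714) Col.c (nat_lit 1413) (Dv.wd (nat_lit 18) [Mv.f (nat_lit 4277), Mv.f (nat_lit 4725), Mv.f (nat_lit 4980)])))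
(Tr.lf (Fc.ed (nat_lit 4983) (nat_lit 1714) Col.d (nat_lit 1342) (Dv.wd (nat_lit 27) [Mv.b (nat_lit 4052), Mv.b (nat_lit 4721), Mv.f (nat_lit 3872), Mv.f (nat_lit 1105), Mv.f (nat_lit 3434), Mv.f (nat_lit 3543), Mv.b (nat_lit 3866), Mv.b (nat_lit 4974), Mv.f (nat_lit 4976), Mv.f (nat_lit 4980)]))))))
(Tr.nd (nat_lit 4986) (Tr.nd (nat_lit 4985) (Tr.lf (Fc.ed (nat_lit 4984) (nat_lit 1342) Col.a (nat_lit 1342) (Dv.wd (nat_lit 8) [Mv.b (nat_lit 4983), Mv.f (nat_lit 4981), Mv.f (nat_lit 4983)])))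
(Tr.lf (Fc.ed (nat_lit 4985) (nat_lit 1599) Col.a (nat_lit 1599) (Dv.wd (nat_lit 31) [Mv.b (nat_lit 4707), Mv.f (nat_lit 4984), Mv.f (nat_lit 4707)]))))
(Tr.nd (nat_lit 4987) (Tr.lf (Fc.ed (nat_lit 4986) (nat_lit 971) Col.e (nat_lit 1715) Dv.df))
(Tr.nd (nat_lit 4988) (Tr.lf (Fc.ed (nat_lit 4987) (nat_lit 1715) Col.a (nat_lit 1686) (Dv.wd (nat_lit 15) [Mv.f (nat_lit 4910), Mv.f (nat_lit 3122), Mv.f (nat_lit 4986)])))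
(Tr.lf (Fc.ed (nat_lit 4988) (nat_lit 691) Col.gi (nat_lit 1716) Dv.df)))))))
(Tr.nd (nat_lit 4999) (Tr.nd (nat_lit 4994) (Tr.nd (nat_lit 4991) (Tr.nd (nat_lit 4990) (Tr.lf (Fc.ed (nat_lit 4989) (nat_lit 1716) Col.gi (nat_lit 711) (Dv.wd (nat_lit 24) [Mv.f (nat_lit 2387), Mv.f (nat_lit 2385), Mv.f (nat_lit 4988)])))
(Tr.lf (Fc.ed (nat_lit 4990) (nat_lit 1716) Col.f (nat_lit 1676) (Dv.wd (nat_lit 13) [Mv.b (nat_lit 4888), Mv.b (nat_lit 4479), Mv.f (nat_lit 4988)]))))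
(Tr.nd (nat_lit 4992) (Tr.lf (Fc.ed (nat_lit 4991) (nat_lit 877) Col.a (nat_lit 1717) Dv.df))
(Tr.nd (nat_lit 4993) (Tr.lf (Fc.ed (nat_lit 4992) (nat_lit 1717) Col.f (nat_lit 1259) (Dv.wd (nat_lit 35) [Mv.b (nat_lit 4544), Mv.b (nat_lit 4543), Mv.f (nat_lit 4991)])))
(Tr.lf (Fc.ed (nat_lit 4993) (nat_lit 294) Col.gi (nat_lit 1718) Dv.df)))))
(Tr.nd (nat_lit 4996) (Tr.nd (nat_lit 4995) (Tr.lf (Fc.ed (nat_lit 4994) (nat_lit 1710) Col.f (nat_lit 1719) Dv.df))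
(Tr.lf (Fc.ed (nat_lit 4995) (nat_lit 1719) Col.b (nat_lit 805) (Dv.wd (nat_lit 66) [Mv.f (nat_lit 2833), Mv.f (nat_lit 4969), Mv.f (nat_lit 4994)]))))
(Tr.nd (nat_lit 4997) (Tr.lf (Fc.ed (nat_lit 4996) (nat_lit 894) Col.g (nat_lit 1720) Dv.df))
(Tr.nd (nat_lit 4998) (Tr.lf (Fc.ed (nat_lit 4997) (nat_lit 1720) Col.g (nat_lit 1697) (Dv.wd (nat_lit 9) [Mv.b (nat_lit 4933), Mv.f (nat_lit 2860), Mv.f (nat_lit 4996)])))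
(Tr.lf (Fc.ed (nat_lit 4998) (nat_lit 1015) Col.b (nat_lit 1721) Dv.df))))))
(Tr.nd (nat_lit 5004) (Tr.nd (nat_lit 5001) (Tr.nd (nat_lit 5000) (Tr.lf (Fc.ed (nat_lit 4999) (nat_lit 1721) Col.d (nat_lit 1111) (Dv.wd (nat_lit 58) [Mv.b (nat_lit 3429), Mv.f (nat_lit 3178), Mv.f (nat_lit 4998)])))
(Tr.lf (Fc.ed (nat_lit 5000) (nat_lit 1721) Col.f (nat_lit 1579) (Dv.wd (nat_lit 20) [Mv.f (nat_lit 4675), Mv.f (nat_lit 3656), Mv.f (nat_lit 4998)]))))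
(Tr.nd (nat_lit 5002) (Tr.lf (Fc.ed (nat_lit 5001) (nat_lit 775) Col.b (nat_lit 1722) Dv.df))
(Tr.nd (nat_lit 5003) (Tr.lf (Fc.ed (nat_lit 5002) (nat_lit 1722) Col.f (nat_lit 1695) (Dv.wd (nat_lit 20) [Mv.b (nat_lit 4930), Mv.f (nat_lit 3114), Mv.f (nat_lit 5001)])))
(Tr.lf (Fc.ed (nat_lit 5003) (nat_lit 778) Col.c (nat_lit 1723) Dv.df)))))
(Tr.nd (nat_lit 5007) (Tr.nd (nat_lit 5005) (Tr.lf (Fc.ed (nat_lit 5004) (nat_lit 861) Col.e (nat_lit 1724) Dv.df))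
(Tr.nd (nat_lit 5006) (Tr.lf (Fc.ed (nat_lit 5005) (nat_lit 1724) Col.d (nat_lit 1164) (Dv.wd (nat_lit 59) [Mv.f (nat_lit 3585), Mv.f (nat_lit 2969), Mv.f (nat_lit 2410), Mv.f (nat_lit 2442), Mv.f (nat_lit 5004)])))
(Tr.lf (Fc.ed (nat_lit 5006) (nat_lit 846) Col.a (nat_lit 1725) Dv.df))))
(Tr.nd (nat_lit 5008) (Tr.lf (Fc.ed (nat_lit 5007) (nat_lit 1725) Col.c (nat_lit 1653) (Dv.wd (nat_lit 33) [Mv.b (nat_lit 4831), Mv.f (nat_lit 2415), Mv.f (nat_lit 5006)])))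
(Tr.nd (nat_lit 5009) (Tr.lf (Fc.ed (nat_lit 5008) (nat_lit 1725) Col.f (nat_lit 1399) (Dv.wd (nat_lit 35) [Mv.b (nat_lit 4243), Mv.b (nat_lit 2416), Mv.f (nat_lit 5006)])))
(Tr.lf (Fc.ed (nat_lit 5009) (nat_lit 879) Col.e (nat_lit 1726) Dv.df)))))))))
(Tr.nd (nat_lit 5051) (Tr.nd (nat_lit 5030) (Tr.nd (nat_lit 5020) (Tr.nd (nat_lit 5015) (Tr.nd (nat_lit 5012) (Tr.nd (nat_lit 5011) (Tr.lf (Fc.ed (nat_lit 5010) (nat_lit 1726) Col.d (nat_lit 1643) (Dv.wd (nat_lit 59) [Mv.b (nat_lit 4808), Mv.b (nat_lit 4303), Mv.b (nat_lit 2226), Mv.f (nat_lit 2483), Mv.f (nat_lit 5009)])))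
(Tr.lf (Fc.ed (nat_lit 5011) (nat_lit 1572) Col.d (nat_lit 1727) Dv.df)))
(Tr.nd (nat_lit 5013) (Tr.lf (Fc.ed (nat_lit 5012) (nat_lit 1727) Col.e (nat_lit 1297) (Dv.wd (nat_lit 42) [Mv.f (nat_lit 3955), Mv.b (nat_lit 2038), Mv.f (nat_lit 2232), Mv.f (nat_lit 4658), Mv.f (nat_lit 5011)])))
(Tr.nd (nat_lit 5014) (Tr.lf (Fc.ed (nat_lit 5013) (nat_lit 1680) Col.e (nat_lit 1728) Dv.df))
(Tr.lf (Fc.ed (nat_lit 5014) (nat_lit 493) Col.b (nat_lit 1729) Dv.df)))))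
(Tr.nd (nat_lit 5017) (Tr.nd (nat_lit 5016) (Tr.lf (Fc.ed (nat_lit 5015) (nat_lit 1729) Col.d (nat_lit 1445) (Dv.wd (nat_lit 58) [Mv.b (nat_lit 4353), Mv.f (nat_lit 3842), Mv.f (nat_lit 5014)])))
(Tr.lf (Fc.ed (nat_lit 5016) (nat_lit 1672) Col.d (nat_lit 1730) Dv.df)))
(Tr.nd (nat_lit 5018) (Tr.lf (Fc.ed (nat_lit 5017) (nat_lit 1730) Col.a (nat_lit 1730) (Dv.wd (nat_lit 8) [Mv.b (nat_lit 5016), Mv.f (nat_lit 4881), Mv.f (nat_lit 5016)])))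
(Tr.nd (nat_lit 5019) (Tr.lf (Fc.ed (nat_lit 5018) (nat_lit 1730) Col.f (nat_lit 895) (Dv.wd (nat_lit 11) [Mv.f (nat_lit 2942), Mv.f (nat_lit 4880), Mv.f (nat_lit 5016)])))
(Tr.lf (Fc.ed (nat_lit 5019) (nat_lit 1404) Col.gi (nat_lit 1730) (Dv.wd (nat_lit 24) [Mv.f (nat_lit 5018), Mv.f (nat_lit 2862), Mv.f (nat_lit 4255)])))))))
(Tr.nd (nat_lit 5025) (Tr.nd (nat_lit 5022) (Tr.nd (nat_lit 5021) (Tr.lf (Fc.ed (nat_lit 5020) (nat_lit 1594) Col.g (nat_lit 1730) (Dv.wd (nat_lit 9) [Mv.f (nat_lit 5017), Mv.f (nat_lit 5018), Mv.f (nat_lit 4701)])))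
(Tr.lf (Fc.ed (nat_lit 5021) (nat_lit 1284) Col.a (nat_lit 1731) Dv.df)))
(Tr.nd (nat_lit 5023) (Tr.lf (Fc.ed (nat_lit 5022) (nat_lit 1731) Col.e (nat_lit 1473) (Dv.wd (nat_lit 56) [Mv.b (nat_lit 4441), Mv.b (nat_lit 3923), Mv.f (nat_lit 5021)])))
(Tr.nd (nat_lit 5024) (Tr.lf (Fc.ed (nat_lit 5023) (nat_lit 1130) Col.e (nat_lit 1732) Dv.df))
(Tr.lf (Fc.ed (nat_lit 5024) (nat_lit 1732) Col.c (nat_lit 1665) (Dv.wd (nat_lit 18) [Mv.b (nat_lit 4860), Mv.b (nat_lit 3478), Mv.f (nat_lit 5023)]))))))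
(Tr.nd (nat_lit 5027) (Tr.nd (nat_lit 5026) (Tr.lf (Fc.ed (nat_lit 5025) (nat_lit 1582) Col.a (nat_lit 1733) Dv.df))
(Tr.lf (Fc.ed (nat_lit 5026) (nat_lit 1733) Col.f (nat_lit 1508) (Dv.wd (nat_lit 10) [Mv.f (nat_lit 4515), Mv.b (nat_lit 4684), Mv.f (nat_lit 5025)]))))
(Tr.nd (nat_lit 5028) (Tr.lf (Fc.ed (nat_lit 5027) (nat_lit 729) Col.e (nat_lit 1734) Dv.df))
(Tr.nd (nat_lit 5029) (Tr.lf (Fc.ed (nat_lit 5028) (nat_lit 1734) Col.a (nat_lit 1588) (Dv.wd (nat_lit 15) [Mv.b (nat_lit 4691), Mv.f (nat_lit 2134), Mv.f (nat_lit 5027)])))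
(Tr.lf (Fc.ed (nat_lit 5029) (nat_lit 1734) Col.c (nat_lit 1495) (Dv.wd (nat_lit 18) [Mv.b (nat_lit 4487), Mv.b (nat_lit 2125), Mv.f (nat_lit 5027)]))))))))
(Tr.nd (nat_lit 5040) (Tr.nd (nat_lit 5035) (Tr.nd (nat_lit 5032) (Tr.nd (nat_lit 5031) (Tr.lf (Fc.ed (nat_lit 5030) (nat_lit 1028) Col.g (nat_lit 1735) Dv.df))
(Tr.lf (Fc.ed (nat_lit 5031) (nat_lit 1735) Col.g (nat_lit 1654) (Dv.wd (nat_lit 9) [Mv.b (nat_lit 4834), Mv.b (nat_lit 3209), Mv.f (nat_lit 5030)]))))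
(Tr.nd (nat_lit 5033) (Tr.lf (Fc.ed (nat_lit 5032) (nat_lit 638) Col.g (nat_lit 1736) Dv.df))
(Tr.nd (nat_lit 5034) (Tr.lf (Fc.ed (nat_lit 5033) (nat_lit 1736) Col.g (nat_lit 1604) (Dv.wd (nat_lit 9) [Mv.b (nat_lit 4715), Mv.b (nat_lit 2209), Mv.f (nat_lit 5032)])))
(Tr.lf (Fc.ed (nat_lit 5034) (nat_lit 1325) Col.d (nat_lit 1737) Dv.df)))))
(Tr.nd (nat_lit 5037) (Tr.nd (nat_lit 5036) (Tr.lf (Fc.ed (nat_lit 5035) (nat_lit 1737) Col.b (nat_lit 1173) (Dv.wd (nat_lit 37) [Mv.b (nat_lit 3619), Mv.b (nat_lit 4009), Mv.f (nat_lit 5034)])))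
(Tr.lf (Fc.ed (nat_lit 5036) (nat_lit 1737) Col.f (nat_lit 1333) (Dv.wd (nat_lit 11) [Mv.f (nat_lit 4026), Mv.f (nat_lit 4008), Mv.f (nat_lit 5034)]))))
(Tr.nd (nat_lit 5038) (Tr.lf (Fc.ed (nat_lit 5037) (nat_lit 796) Col.a (nat_lit 1738) Dv.df))
(Tr.nd (nat_lit 5039) (Tr.lf (Fc.ed (nat_lit 5038) (nat_lit 1738) Col.d (nat_lit 1656) (Dv.wd (nat_lit 28) [Mv.f (nat_lit 4839), Mv.f (nat_lit 2280), Mv.f (nat_lit 5037)])))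
(Tr.lf (Fc.ed (nat_lit 5039) (nat_lit 1738) Col.e (nat_lit 1648) (Dv.wd (nat_lit 56) [Mv.b (nat_lit 4818), Mv.b (nat_lit 3571), Mv.f (nat_lit 5037)])))))))
(Tr.nd (nat_lit 5045) (Tr.nd (nat_lit 5042) (Tr.nd (nat_lit 5041) (Tr.lf (Fc.ed (nat_lit 5040) (nat_lit 1738) Col.f (nat_lit 1309) (Dv.wd (nat_lit 35) [Mv.b (nat_lit 3977), Mv.f (nat_lit 2951), Mv.f (nat_lit 5037)])))
(Tr.lf (Fc.ed (nat_lit 5041) (nat_lit 1650) Col.b (nat_lit 1739) Dv.df)))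
(Tr.nd (nat_lit 5043) (Tr.lf (Fc.ed (nat_lit 5042) (nat_lit 1598) Col.a (nat_lit 1740) Dv.df))
(Tr.nd (nat_lit 5044) (Tr.lf (Fc.ed (nat_lit 5043) (nat_lit 1740) Col.f (nat_lit 1569) (Dv.wd (nat_lit 10) [Mv.b (nat_lit 4647), Mv.b (nat_lit 4706), Mv.f (nat_lit 5042)])))
(Tr.lf (Fc.ed (nat_lit 5044) (nat_lit 1036) Col.gi (nat_lit 1741) Dv.df)))))
(Tr.nd (nat_lit 5048) (Tr.nd (nat_lit 5046) (Tr.lf (Fc.ed (nat_lit 5045) (nat_lit 1741) Col.gi (nat_lit 892) (Dv.wd (nat_lit 24) [Mv.f (nat_lit 2856), Mv.f (nat_lit 3226), Mv.f (nat_lit 5044)])))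
(Tr.nd (nat_lit 5047) (Tr.lf (Fc.ed (nat_lit 5046) (nat_lit 695) Col.gi (nat_lit 1742) Dv.df))
(Tr.lf (Fc.ed (nat_lit 5047) (nat_lit 1742) Col.gi (nat_lit 1397) (Dv.wd (nat_lit 24) [Mv.f (nat_lit 4238), Mv.b (nat_lit 4228), Mv.f (nat_lit 5046)])))))
(Tr.nd (nat_lit 5049) (Tr.lf (Fc.ed (nat_lit 5048) (nat_lit 1324) Col.f (nat_lit 1743) Dv.df))
(Tr.nd (nat_lit 5050) (Tr.lf (Fc.ed (nat_lit 5049) (nat_lit 1743) Col.a (nat_lit 812) (Dv.wd (nat_lit 16) [Mv.b (nat_lit 3086), Mv.f (nat_lit 4007), Mv.f (nat_lit 5048)])))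
(Tr.lf (Fc.ed (nat_lit 5050) (nat_lit 1743) Col.e (nat_lit 1653) (Dv.wd (nat_lit 22) [Mv.f (nat_lit 4838), Mv.b (nat_lit 4842), Mv.f (nat_lit 4738), Mv.f (nat_lit 4520), Mv.f (nat_lit 5048)])))))))))
(Tr.nd (nat_lit 5071) (Tr.nd (nat_lit 5061) (Tr.nd (nat_lit 5056) (Tr.nd (nat_lit 5053) (Tr.nd (nat_lit 5052) (Tr.lf (Fc.ed (nat_lit 5051) (nat_lit 1654) Col.e (nat_lit 1744) Dv.df))
(Tr.lf (Fc.ed (nat_lit 5052) (nat_lit 1744) Col.a (nat_lit 1326) (Dv.wd (nat_lit 15) [Mv.f (nat_lit 4011), Mv.f (nat_lit 4834), Mv.f (nat_lit 5051)]))))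
(Tr.nd (nat_lit 5054) (Tr.lf (Fc.ed (nat_lit 5053) (nat_lit 1263) Col.e (nat_lit 1745) Dv.df))
(Tr.nd (nat_lit 5055) (Tr.lf (Fc.ed (nat_lit 5054) (nat_lit 1745) Col.b (nat_lit 947) (Dv.wd (nat_lit 49) [Mv.b (nat_lit 2997), Mv.b (nat_lit 3869), Mv.f (nat_lit 5053)])))
(Tr.lf (Fc.ed (nat_lit 5055) (nat_lit 1745) Col.d (nat_lit 1702) (Dv.wd (nat_lit 59) [Mv.f (nat_lit 4946), Mv.b (nat_lit 4127), Mv.f (nat_lit 3569), Mv.f (nat_lit 3868), Mv.f (nat_lit 5053)]))))))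
(Tr.nd (nat_lit 5058) (Tr.nd (nat_lit 5057) (Tr.lf (Fc.ed (nat_lit 5056) (nat_lit 1729) Col.f (nat_lit 1746) Dv.df))
(Tr.lf (Fc.ed (nat_lit 5057) (nat_lit 1746) Col.b (nat_lit 462) (Dv.wd (nat_lit 66) [Mv.f (nat_lit 1150), Mv.f (nat_lit 5014), Mv.f (nat_lit 5056)]))))
(Tr.nd (nat_lit 5059) (Tr.lf (Fc.ed (nat_lit 5058) (nat_lit 1148) Col.d (nat_lit 1747) Dv.df))
(Tr.nd (nat_lit 5060) (Tr.lf (Fc.ed (nat_lit 5059) (nat_lit 1747) Col.f (nat_lit 1371) (Dv.wd (nat_lit 11) [Mv.b (nat_lit 4174), Mv.b (nat_lit 3536), Mv.f (nat_lit 5058)])))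
(Tr.lf (Fc.ed (nat_lit 5060) (nat_lit 1731) Col.f (nat_lit 1748) Dv.df))))))
(Tr.nd (nat_lit 5066) (Tr.nd (nat_lit 5063) (Tr.nd (nat_lit 5062) (Tr.lf (Fc.ed (nat_lit 5061) (nat_lit 1748) Col.a (nat_lit 893) (Dv.wd (nat_lit 16) [Mv.b (nat_lit 3924), Mv.f (nat_lit 5021), Mv.f (nat_lit 5060)])))
(Tr.lf (Fc.ed (nat_lit 5062) (nat_lit 1748) Col.e (nat_lit 1725) (Dv.wd (nat_lit 22) [Mv.f (nat_lit 5008), Mv.b (nat_lit 4716), Mv.f (nat_lit 4717), Mv.b (nat_lit 5022), Mv.f (nat_lit 5060)]))))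
(Tr.nd (nat_lit 5064) (Tr.lf (Fc.ed (nat_lit 5063) (nat_lit 966) Col.a (nat_lit 1749) Dv.df))
(Tr.nd (nat_lit 5065) (Tr.lf (Fc.ed (nat_lit 5064) (nat_lit 1749) Col.c (nat_lit 988) (Dv.wd (nat_lit 33) [Mv.f (nat_lit 3097), Mv.f (nat_lit 3044), Mv.f (nat_lit 5063)])))
(Tr.lf (Fc.ed (nat_lit 5065) (nat_lit 1749) Col.e (nat_lit 1234) (Dv.wd (nat_lit 56) [Mv.f (nat_lit 3802), Mv.f (nat_lit 3640), Mv.f (nat_lit 5063)]))))))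
(Tr.nd (nat_lit 5068) (Tr.nd (nat_lit 5067) (Tr.lf (Fc.ed (nat_lit 5066) (nat_lit 1396) Col.b (nat_lit 1750) Dv.df))
(Tr.lf (Fc.ed (nat_lit 5067) (nat_lit 1750) Col.d (nat_lit 1750) (Dv.wd (nat_lit 58) [Mv.b (nat_lit 5066), Mv.f (nat_lit 4234), Mv.f (nat_lit 5066)]))))
(Tr.nd (nat_lit 5069) (Tr.lf (Fc.ed (nat_lit 5068) (nat_lit 1750) Col.e (nat_lit 740) (Dv.wd (nat_lit 52) [Mv.f (nat_lit 2149), Mv.f (nat_lit 4233), Mv.f (nat_lit 5066)])))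
(Tr.nd (nat_lit 5070) (Tr.lf (Fc.ed (nat_lit 5069) (nat_lit 1722) Col.d (nat_lit 1751) Dv.df))
(Tr.lf (Fc.ed (nat_lit 5070) (nat_lit 1751) Col.b (nat_lit 567) (Dv.wd (nat_lit 37) [Mv.f (nat_lit 2228), Mv.f (nat_lit 5001), Mv.f (nat_lit 5069)]))))))))
(Tr.nd (nat_lit 5081) (Tr.nd (nat_lit 5076) (Tr.nd (nat_lit 5073) (Tr.nd (nat_lit 5072) (Tr.lf (Fc.ed (nat_lit 5071) (nat_lit 1751) Col.f (nat_lit 1587) (Dv.wd (nat_lit 11) [Mv.b (nat_lit 4931), Mv.b (nat_lit 5002), Mv.f (nat_lit 5069)])))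
(Tr.lf (Fc.ed (nat_lit 5072) (nat_lit 1565) Col.e (nat_lit 1752) Dv.df)))
(Tr.nd (nat_lit 5074) (Tr.lf (Fc.ed (nat_lit 5073) (nat_lit 1680) Col.d (nat_lit 1753) Dv.df))
(Tr.nd (nat_lit 5075) (Tr.lf (Fc.ed (nat_lit 5074) (nat_lit 974) Col.b (nat_lit 1754) Dv.df))
(Tr.lf (Fc.ed (nat_lit 5075) (nat_lit 1754) Col.d (nat_lit 1746) (Dv.wd (nat_lit 58) [Mv.f (nat_lit 5057), Mv.f (nat_lit 3062), Mv.f (nat_lit 5074)]))))))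
(Tr.nd (nat_lit 5078) (Tr.nd (nat_lit 5077) (Tr.lf (Fc.ed (nat_lit 5076) (nat_lit 1754) Col.f (nat_lit 1445) (Dv.wd (nat_lit 20) [Mv.b (nat_lit 4353), Mv.b (nat_lit 3841), Mv.f (nat_lit 5074)])))
(Tr.lf (Fc.ed (nat_lit 5077) (nat_lit 1558) Col.g (nat_lit 1755) Dv.df)))
(Tr.nd (nat_lit 5079) (Tr.lf (Fc.ed (nat_lit 5078) (nat_lit 1755) Col.g (nat_lit 790) (Dv.wd (nat_lit 9) [Mv.f (nat_lit 4834), Mv.f (nat_lit 4836), Mv.f (nat_lit 5077)])))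
(Tr.nd (nat_lit 5080) (Tr.lf (Fc.ed (nat_lit 5079) (nat_lit 1340) Col.b (nat_lit 1756) Dv.df))
(Tr.lf (Fc.ed (nat_lit 5080) (nat_lit 1756) Col.e (nat_lit 1606) (Dv.wd (nat_lit 52) [Mv.f (nat_lit 4723), Mv.f (nat_lit 4046), Mv.f (nat_lit 5079)])))))))
(Tr.nd (nat_lit 5086) (Tr.nd (nat_lit 5083) (Tr.nd (nat_lit 5082) (Tr.lf (Fc.ed (nat_lit 5081) (nat_lit 1748) Col.gi (nat_lit 1757) Dv.df))
(Tr.lf (Fc.ed (nat_lit 5082) (nat_lit 1757) Col.gi (nat_lit 1284) (Dv.wd (nat_lit 24) [Mv.f (nat_lit 3924), Mv.b (nat_lit 5061), Mv.f (nat_lit 5081)]))))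
(Tr.nd (nat_lit 5084) (Tr.lf (Fc.ed (nat_lit 5083) (nat_lit 1211) Col.d (nat_lit 1758) Dv.df))
(Tr.nd (nat_lit 5085) (Tr.lf (Fc.ed (nat_lit 5084) (nat_lit 1758) Col.b (nat_lit 1758) (Dv.wd (nat_lit 37) [Mv.b (nat_lit 5083), Mv.f (nat_lit 4773), Mv.f (nat_lit 5083)])))
(Tr.lf (Fc.ed (nat_lit 5085) (nat_lit 1758) Col.f (nat_lit 1705) (Dv.wd (nat_lit 11) [Mv.b (nat_lit 4951), Mv.b (nat_lit 4772), Mv.f (nat_lit 5083)]))))))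
(Tr.nd (nat_lit 5089) (Tr.nd (nat_lit 5087) (Tr.lf (Fc.ed (nat_lit 5086) (nat_lit 1758) Col.g (nat_lit 1460) (Dv.wd (nat_lit 55) [Mv.b (nat_lit 4410), Mv.b (nat_lit 2115), Mv.b (nat_lit 3944), Mv.f (nat_lit 4368), Mv.f (nat_lit 4961), Mv.b (nat_lit 4964), Mv.f (nat_lit 4613), Mv.f (nat_lit 3998), Mv.b (nat_lit 3889), Mv.f (nat_lit 5083)])))
(Tr.nd (nat_lit 5088) (Tr.lf (Fc.ed (nat_lit 5087) (nat_lit 1468) Col.a (nat_lit 1758) (Dv.wd (nat_lit 79) [Mv.f (nat_lit 5085), Mv.b (nat_lit 4955), Mv.b (nat_lit 4956)])))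
(Tr.lf (Fc.ed (nat_lit 5088) (nat_lit 1705) Col.g (nat_lit 1300) (Dv.wd (nat_lit 17) [Mv.b (nat_lit 4430), Mv.f (nat_lit 5087), Mv.f (nat_lit 5085)])))))
(Tr.nd (nat_lit 5090) (Tr.lf (Fc.ed (nat_lit 5089) (nat_lit 1642) Col.c (nat_lit 1759) Dv.df))
(Tr.nd (nat_lit 5091) (Tr.lf (Fc.ed (nat_lit 5090) (nat_lit 1759) Col.b (nat_lit 1526) (Dv.wd (nat_lit 101) [Mv.f (nat_lit 4555), Mv.b (nat_lit 2090), Mv.b (nat_lit 458), Mv.b (nat_lit 322), Mv.f (nat_lit 846), Mv.f (nat_lit 1100), Mv.f (nat_lit 3120), Mv.b (nat_lit 3385), Mv.f (nat_lit 4807), Mv.f (nat_lit 5089)])))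
(Tr.lf (Fc.ed (nat_lit 5091) (nat_lit 890) Col.a (nat_lit 1760) Dv.df))))))))))
(Tr.nd (nat_lit 5174) (Tr.nd (nat_lit 5133) (Tr.nd (nat_lit 5112) (Tr.nd (nat_lit 5102) (Tr.nd (nat_lit 5097) (Tr.nd (nat_lit 5094) (Tr.nd (nat_lit 5093) (Tr.lf (Fc.ed (nat_lit 5092) (nat_lit 1760) Col.c (nat_lit 1697) (Dv.wd (nat_lit 33) [Mv.b (nat_lit 4933), Mv.b (nat_lit 2850), Mv.f (nat_lit 5091)])))
(Tr.lf (Fc.ed (nat_lit 5093) (nat_lit 1068) Col.d (nat_lit 1761) Dv.df)))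
(Tr.nd (nat_lit 5095) (Tr.lf (Fc.ed (nat_lit 5094) (nat_lit 1761) Col.a (nat_lit 1300) (Dv.wd (nat_lit 8) [Mv.b (nat_lit 3960), Mv.b (nat_lit 3306), Mv.f (nat_lit 5093)])))
(Tr.nd (nat_lit 5096) (Tr.lf (Fc.ed (nat_lit 5095) (nat_lit 1761) Col.b (nat_lit 1230) (Dv.wd (nat_lit 37) [Mv.f (nat_lit 3794), Mv.f (nat_lit 3305), Mv.f (nat_lit 5093)])))
(Tr.lf (Fc.ed (nat_lit 5096) (nat_lit 1761) Col.f (nat_lit 1449) (Dv.wd (nat_lit 11) [Mv.b (nat_lit 4389), Mv.f (nat_lit 3553), Mv.f (nat_lit 5093)]))))))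
(Tr.nd (nat_lit 5099) (Tr.nd (nat_lit 5098) (Tr.lf (Fc.ed (nat_lit 5097) (nat_lit 1761) Col.gi (nat_lit 1584) (Dv.wd (nat_lit 111) [Mv.b (nat_lit 4954), Mv.f (nat_lit 4765), Mv.f (nat_lit 2455), Mv.f (nat_lit 1948), Mv.b (nat_lit 3839), Mv.b (nat_lit 3838), Mv.f (nat_lit 3794), Mv.b (nat_lit 3307), Mv.f (nat_lit 5093)])))
(Tr.lf (Fc.ed (nat_lit 5098) (nat_lit 1761) Col.g (nat_lit 1758) (Dv.wd (nat_lit 55) [Mv.b (nat_lit 5083), Mv.f (nat_lit 4774), Mv.b (nat_lit 3731), Mv.f (nat_lit 2453), Mv.b (nat_lit 4337), Mv.b (nat_lit 4380), Mv.b (nat_lit 3575), Mv.f (nat_lit 4360), Mv.b (nat_lit 3735), Mv.f (nat_lit 5093)]))))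
(Tr.nd (nat_lit 5100) (Tr.lf (Fc.ed (nat_lit 5099) (nat_lit 1609) Col.f (nat_lit 1762) Dv.df))
(Tr.nd (nat_lit 5101) (Tr.lf (Fc.ed (nat_lit 5100) (nat_lit 1762) Col.b (nat_lit 1493) (Dv.wd (nat_lit 66) [Mv.b (nat_lit 4481), Mv.f (nat_lit 4731), Mv.f (nat_lit 5099)])))
(Tr.lf (Fc.ed (nat_lit 5101) (nat_lit 1107) Col.gi (nat_lit 1763) Dv.df))))))
(Tr.nd (nat_lit 5107) (Tr.nd (nat_lit 5104) (Tr.nd (nat_lit 5103) (Tr.lf (Fc.ed (nat_lit 5102) (nat_lit 1763) Col.gi (nat_lit 911) (Dv.wd (nat_lit 24) [Mv.b (nat_lit 2892), Mv.b (nat_lit 3416), Mv.f (nat_lit 5101)])))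
(Tr.lf (Fc.ed (nat_lit 5103) (nat_lit 1019) Col.g (nat_lit 1764) Dv.df)))
(Tr.nd (nat_lit 5105) (Tr.lf (Fc.ed (nat_lit 5104) (nat_lit 910) Col.a (nat_lit 1765) Dv.df))
(Tr.nd (nat_lit 5106) (Tr.lf (Fc.ed (nat_lit 5105) (nat_lit 1765) Col.f (nat_lit 1496) (Dv.wd (nat_lit 35) [Mv.b (nat_lit 4489), Mv.b (nat_lit 2970), Mv.f (nat_lit 5104)])))
(Tr.lf (Fc.ed (nat_lit 5106) (nat_lit 1159) Col.f (nat_lit 1766) Dv.df)))))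
(Tr.nd (nat_lit 5109) (Tr.nd (nat_lit 5108) (Tr.lf (Fc.ed (nat_lit 5107) (nat_lit 1720) Col.b (nat_lit 1767) Dv.df))
(Tr.lf (Fc.ed (nat_lit 5108) (nat_lit 788) Col.b (nat_lit 1768) Dv.df)))
(Tr.nd (nat_lit 5110) (Tr.lf (Fc.ed (nat_lit 5109) (nat_lit 1768) Col.c (nat_lit 1768) (Dv.wd (nat_lit 93) [Mv.b (nat_lit 5108), Mv.b (nat_lit 2258), Mv.f (nat_lit 1320), Mv.f (nat_lit 2258), Mv.f (nat_lit 5108)])))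
(Tr.nd (nat_lit 5111) (Tr.lf (Fc.ed (nat_lit 5110) (nat_lit 1649) Col.f (nat_lit 1769) Dv.df))
(Tr.lf (Fc.ed (nat_lit 5111) (nat_lit 1769) Col.a (nat_lit 1601) (Dv.wd (nat_lit 16) [Mv.b (nat_lit 4710), Mv.b (nat_lit 4820), Mv.f (nat_lit 5110)]))))))))
(Tr.nd (nat_lit 5122) (Tr.nd (nat_lit 5117) (Tr.nd (nat_lit 5114) (Tr.nd (nat_lit 5113) (Tr.lf (Fc.ed (nat_lit 5112) (nat_lit 1769) Col.b (nat_lit 1769) (Dv.wd (nat_lit 66) [Mv.b (nat_lit 5110), Mv.f (nat_lit 4821), Mv.f (nat_lit 5110)])))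
(Tr.lf (Fc.ed (nat_lit 5113) (nat_lit 1769) Col.d (nat_lit 1769) (Dv.wd (nat_lit 21) [Mv.b (nat_lit 5110), Mv.f (nat_lit 4822), Mv.f (nat_lit 5110)]))))
(Tr.nd (nat_lit 5115) (Tr.lf (Fc.ed (nat_lit 5114) (nat_lit 1705) Col.c (nat_lit 1770) Dv.df))
(Tr.nd (nat_lit 5116) (Tr.lf (Fc.ed (nat_lit 5115) (nat_lit 808) Col.gi (nat_lit 1771) Dv.df))
(Tr.lf (Fc.ed (nat_lit 5116) (nat_lit 1771) Col.gi (nat_lit 1480) (Dv.wd (nat_lit 24) [Mv.f (nat_lit 4460), Mv.b (nat_lit 2986), Mv.f (nat_lit 5115)]))))))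
(Tr.nd (nat_lit 5119) (Tr.nd (nat_lit 5118) (Tr.lf (Fc.ed (nat_lit 5117) (nat_lit 1581) Col.f (nat_lit 1772) Dv.df))
(Tr.lf (Fc.ed (nat_lit 5118) (nat_lit 1772) Col.a (nat_lit 1216) (Dv.wd (nat_lit 23) [Mv.b (nat_lit 3745), Mv.b (nat_lit 4682), Mv.f (nat_lit 5117)]))))
(Tr.nd (nat_lit 5120) (Tr.lf (Fc.ed (nat_lit 5119) (nat_lit 1474) Col.c (nat_lit 1773) Dv.df))
(Tr.nd (nat_lit 5121) (Tr.lf (Fc.ed (nat_lit 5120) (nat_lit 1725) Col.b (nat_lit 1774) Dv.df))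
(Tr.lf (Fc.ed (nat_lit 5121) (nat_lit 1774) Col.f (nat_lit 1561) (Dv.wd (nat_lit 20) [Mv.f (nat_lit 4630), Mv.b (nat_lit 5008), Mv.f (nat_lit 5120)])))))))
(Tr.nd (nat_lit 5127) (Tr.nd (nat_lit 5124) (Tr.nd (nat_lit 5123) (Tr.lf (Fc.ed (nat_lit 5122) (nat_lit 1774) Col.a (nat_lit 1447) (Dv.wd (nat_lit 98) [Mv.b (nat_lit 4385), Mv.f (nat_lit 2119), Mv.b (nat_lit 2417), Mv.f (nat_lit 5006), Mv.f (nat_lit 5120)])))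
(Tr.lf (Fc.ed (nat_lit 5123) (nat_lit 1774) Col.c (nat_lit 1774) (Dv.wd (nat_lit 93) [Mv.b (nat_lit 5120), Mv.f (nat_lit 5007), Mv.f (nat_lit 4833), Mv.b (nat_lit 5007), Mv.f (nat_lit 5120)]))))
(Tr.nd (nat_lit 5125) (Tr.lf (Fc.ed (nat_lit 5124) (nat_lit 1760) Col.b (nat_lit 1775) Dv.df))
(Tr.nd (nat_lit 5126) (Tr.lf (Fc.ed (nat_lit 5125) (nat_lit 1466) Col.d (nat_lit 1776) Dv.df))
(Tr.lf (Fc.ed (nat_lit 5126) (nat_lit 1776) Col.a (nat_lit 1776) (Dv.wd (nat_lit 8) [Mv.b (nat_lit 5125), Mv.f (nat_lit 4422), Mv.f (nat_lit 5125)]))))))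
(Tr.nd (nat_lit 5130) (Tr.nd (nat_lit 5128) (Tr.lf (Fc.ed (nat_lit 5127) (nat_lit 1437) Col.d (nat_lit 1777) Dv.df))
(Tr.nd (nat_lit 5129) (Tr.lf (Fc.ed (nat_lit 5128) (nat_lit 837) Col.a (nat_lit 1778) Dv.df))
(Tr.lf (Fc.ed (nat_lit 5129) (nat_lit 1476) Col.c (nat_lit 1779) Dv.df))))
(Tr.nd (nat_lit 5131) (Tr.lf (Fc.ed (nat_lit 5130) (nat_lit 1779) Col.e (nat_lit 1009) (Dv.wd (nat_lit 25) [Mv.f (nat_lit 3166), Mv.f (nat_lit 4446), Mv.f (nat_lit 5129)])))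
(Tr.nd (nat_lit 5132) (Tr.lf (Fc.ed (nat_lit 5131) (nat_lit 1125) Col.e (nat_lit 1780) Dv.df))
(Tr.lf (Fc.ed (nat_lit 5132) (nat_lit 1780) Col.d (nat_lit 1780) (Dv.wd (nat_lit 59) [Mv.b (nat_lit 5131), Mv.b (nat_lit 3466), Mv.f (nat_lit 1521), Mv.f (nat_lit 3466), Mv.f (nat_lit 5131)])))))))))
(Tr.nd (nat_lit 5153) (Tr.nd (nat_lit 5143) (Tr.nd (nat_lit 5138) (Tr.nd (nat_lit 5135) (Tr.nd (nat_lit 5134) (Tr.lf (Fc.ed (nat_lit 5133) (nat_lit 1460) Col.e (nat_lit 1781) Dv.df))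
(Tr.lf (Fc.ed (nat_lit 5134) (nat_lit 1781) Col.d (nat_lit 1630) (Dv.wd (nat_lit 59) [Mv.b (nat_lit 4783), Mv.b (nat_lit 3960), Mv.f (nat_lit 2115), Mv.f (nat_lit 4410), Mv.f (nat_lit 5133)]))))
(Tr.nd (nat_lit 5136) (Tr.lf (Fc.ed (nat_lit 5135) (nat_lit 771) Col.e (nat_lit 1782) Dv.df))
(Tr.nd (nat_lit 5137) (Tr.lf (Fc.ed (nat_lit 5136) (nat_lit 1723) Col.b (nat_lit 1783) Dv.df))
(Tr.lf (Fc.ed (nat_lit 5137) (nat_lit 1783) Col.c (nat_lit 928) (Dv.wd (nat_lit 93) [Mv.f (nat_lit 2947), Mv.b (nat_lit 735), Mv.b (nat_lit 2233), Mv.f (nat_lit 5003), Mv.f (nat_lit 5136)]))))))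
(Tr.nd (nat_lit 5140) (Tr.nd (nat_lit 5139) (Tr.lf (Fc.ed (nat_lit 5138) (nat_lit 1723) Col.f (nat_lit 1783) (Dv.wd (nat_lit 64) [Mv.f (nat_lit 5137), Mv.b (nat_lit 2946), Mv.f (nat_lit 5003)])))
(Tr.lf (Fc.ed (nat_lit 5139) (nat_lit 372) Col.c (nat_lit 1784) Dv.df)))
(Tr.nd (nat_lit 5141) (Tr.lf (Fc.ed (nat_lit 5140) (nat_lit 1784) Col.f (nat_lit 1617) (Dv.wd (nat_lit 26) [Mv.b (nat_lit 4750), Mv.f (nat_lit 2701), Mv.f (nat_lit 5139)])))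
(Tr.nd (nat_lit 5142) (Tr.lf (Fc.ed (nat_lit 5141) (nat_lit 1777) Col.c (nat_lit 1785) Dv.df))
(Tr.lf (Fc.ed (nat_lit 5142) (nat_lit 1785) Col.d (nat_lit 1666) (Dv.wd (nat_lit 44) [Mv.f (nat_lit 4864), Mv.b (nat_lit 4113), Mv.f (nat_lit 2053), Mv.f (nat_lit 4113), Mv.f (nat_lit 4116), Mv.b (nat_lit 4304), Mv.f (nat_lit 4339), Mv.f (nat_lit 5127), Mv.f (nat_lit 5141)])))))))
(Tr.nd (nat_lit 5148) (Tr.nd (nat_lit 5145) (Tr.nd (nat_lit 5144) (Tr.lf (Fc.ed (nat_lit 5143) (nat_lit 1711) Col.b (nat_lit 1786) Dv.df))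
(Tr.lf (Fc.ed (nat_lit 5144) (nat_lit 1786) Col.c (nat_lit 1243) (Dv.wd (nat_lit 93) [Mv.b (nat_lit 3824), Mv.b (nat_lit 899), Mv.b (nat_lit 3589), Mv.f (nat_lit 4970), Mv.f (nat_lit 5143)]))))
(Tr.nd (nat_lit 5146) (Tr.lf (Fc.ed (nat_lit 5145) (nat_lit 1711) Col.f (nat_lit 1786) (Dv.wd (nat_lit 64) [Mv.f (nat_lit 5144), Mv.f (nat_lit 3825), Mv.f (nat_lit 4970)])))
(Tr.nd (nat_lit 5147) (Tr.lf (Fc.ed (nat_lit 5146) (nat_lit 1458) Col.c (nat_lit 1787) Dv.df))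
(Tr.lf (Fc.ed (nat_lit 5147) (nat_lit 1787) Col.a (nat_lit 1723) (Dv.wd (nat_lit 19) [Mv.b (nat_lit 5003), Mv.b (nat_lit 4407), Mv.f (nat_lit 5146)]))))))
(Tr.nd (nat_lit 5150) (Tr.nd (nat_lit 5149) (Tr.lf (Fc.ed (nat_lit 5148) (nat_lit 672) Col.g (nat_lit 1788) Dv.df))
(Tr.lf (Fc.ed (nat_lit 5149) (nat_lit 1788) Col.g (nat_lit 1725) (Dv.wd (nat_lit 9) [Mv.b (nat_lit 5006), Mv.f (nat_lit 2416), Mv.f (nat_lit 5148)]))))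
(Tr.nd (nat_lit 5151) (Tr.lf (Fc.ed (nat_lit 5150) (nat_lit 1781) Col.b (nat_lit 1789) Dv.df))
(Tr.nd (nat_lit 5152) (Tr.lf (Fc.ed (nat_lit 5151) (nat_lit 1789) Col.d (nat_lit 1615) (Dv.wd (nat_lit 58) [Mv.b (nat_lit 4784), Mv.b (nat_lit 5134), Mv.f (nat_lit 5150)])))
(Tr.lf (Fc.ed (nat_lit 5152) (nat_lit 1789) Col.e (nat_lit 922) (Dv.wd (nat_lit 52) [Mv.b (nat_lit 4412), Mv.f (nat_lit 5133), Mv.f (nat_lit 5150)]))))))))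
(Tr.nd (nat_lit 5163) (Tr.nd (nat_lit 5158) (Tr.nd (nat_lit 5155) (Tr.nd (nat_lit 5154) (Tr.lf (Fc.ed (nat_lit 5153) (nat_lit 1505) Col.a (nat_lit 1789) (Dv.wd (nat_lit 31) [Mv.f (nat_lit 5152), Mv.b (nat_lit 2934), Mv.b (nat_lit 4510)])))
(Tr.lf (Fc.ed (nat_lit 5154) (nat_lit 1010) Col.b (nat_lit 1790) Dv.df)))
(Tr.nd (nat_lit 5156) (Tr.lf (Fc.ed (nat_lit 5155) (nat_lit 1790) Col.d (nat_lit 890) (Dv.wd (nat_lit 58) [Mv.b (nat_lit 2849), Mv.f (nat_lit 3167), Mv.f (nat_lit 5154)])))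
(Tr.nd (nat_lit 5157) (Tr.lf (Fc.ed (nat_lit 5156) (nat_lit 1758) Col.c (nat_lit 1791) Dv.df))
(Tr.lf (Fc.ed (nat_lit 5157) (nat_lit 1499) Col.c (nat_lit 1792) Dv.df)))))
(Tr.nd (nat_lit 5160) (Tr.nd (nat_lit 5159) (Tr.lf (Fc.ed (nat_lit 5158) (nat_lit 1792) Col.g (nat_lit 1770) (Dv.wd (nat_lit 77) [Mv.b (nat_lit 5114), Mv.b (nat_lit 4951), Mv.f (nat_lit 4763), Mv.f (nat_lit 4765), Mv.f (nat_lit 2455), Mv.b (nat_lit 1738), Mv.b (nat_lit 2939), Mv.b (nat_lit 4498), Mv.f (nat_lit 5157)])))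
(Tr.lf (Fc.ed (nat_lit 5159) (nat_lit 686) Col.gi (nat_lit 1793) Dv.df)))
(Tr.nd (nat_lit 5161) (Tr.lf (Fc.ed (nat_lit 5160) (nat_lit 735) Col.g (nat_lit 1794) Dv.df))
(Tr.nd (nat_lit 5162) (Tr.lf (Fc.ed (nat_lit 5161) (nat_lit 1698) Col.c (nat_lit 1795) Dv.df))
(Tr.lf (Fc.ed (nat_lit 5162) (nat_lit 1399) Col.gi (nat_lit 1796) Dv.df))))))
(Tr.nd (nat_lit 5168) (Tr.nd (nat_lit 5165) (Tr.nd (nat_lit 5164) (Tr.lf (Fc.ed (nat_lit 5163) (nat_lit 1796) Col.gi (nat_lit 846) (Dv.wd (nat_lit 24) [Mv.f (nat_lit 2416), Mv.f (nat_lit 4243), Mv.f (nat_lit 5162)])))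
(Tr.lf (Fc.ed (nat_lit 5164) (nat_lit 1523) Col.d (nat_lit 1797) Dv.df)))
(Tr.nd (nat_lit 5166) (Tr.lf (Fc.ed (nat_lit 5165) (nat_lit 1528) Col.f (nat_lit 1798) Dv.df))
(Tr.nd (nat_lit 5167) (Tr.lf (Fc.ed (nat_lit 5166) (nat_lit 1798) Col.a (nat_lit 1574) (Dv.wd (nat_lit 23) [Mv.b (nat_lit 4663), Mv.b (nat_lit 4558), Mv.f (nat_lit 5165)])))
(Tr.lf (Fc.ed (nat_lit 5167) (nat_lit 1240) Col.a (nat_lit 1799) Dv.df)))))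
(Tr.nd (nat_lit 5171) (Tr.nd (nat_lit 5169) (Tr.lf (Fc.ed (nat_lit 5168) (nat_lit 1799) Col.d (nat_lit 1799) (Dv.wd (nat_lit 28) [Mv.b (nat_lit 5167), Mv.f (nat_lit 3816), Mv.f (nat_lit 5167)])))
(Tr.nd (nat_lit 5170) (Tr.lf (Fc.ed (nat_lit 5169) (nat_lit 1799) Col.e (nat_lit 859) (Dv.wd (nat_lit 56) [Mv.f (nat_lit 2928), Mv.f (nat_lit 3814), Mv.f (nat_lit 5167)])))
(Tr.lf (Fc.ed (nat_lit 5170) (nat_lit 1370) Col.a (nat_lit 1800) Dv.df))))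
(Tr.nd (nat_lit 5172) (Tr.lf (Fc.ed (nat_lit 5171) (nat_lit 941) Col.gi (nat_lit 1801) Dv.df))
(Tr.nd (nat_lit 5173) (Tr.lf (Fc.ed (nat_lit 5172) (nat_lit 1801) Col.gi (nat_lit 932) (Dv.wd (nat_lit 24) [Mv.f (nat_lit 2957), Mv.f (nat_lit 2986), Mv.f (nat_lit 5171)])))
(Tr.lf (Fc.ed (nat_lit 5173) (nat_lit 1419) Col.f (nat_lit 1802) Dv.df)))))))))
(Tr.nd (nat_lit 5215) (Tr.nd (nat_lit 5194) (Tr.nd (nat_lit 5184) (Tr.nd (nat_lit 5179) (Tr.nd (nat_lit 5176) (Tr.nd (nat_lit 5175) (Tr.lf (Fc.ed (nat_lit 5174) (nat_lit 455) Col.c (nat_lit 1803) Dv.df))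
(Tr.lf (Fc.ed (nat_lit 5175) (nat_lit 1560) Col.f (nat_lit 1804) Dv.df)))
(Tr.nd (nat_lit 5177) (Tr.lf (Fc.ed (nat_lit 5176) (nat_lit 1804) Col.a (nat_lit 1080) (Dv.wd (nat_lit 16) [Mv.f (nat_lit 3338), Mv.f (nat_lit 4626), Mv.f (nat_lit 5175)])))
(Tr.nd (nat_lit 5178) (Tr.lf (Fc.ed (nat_lit 5177) (nat_lit 1804) Col.b (nat_lit 1804) (Dv.wd (nat_lit 66) [Mv.b (nat_lit 5175), Mv.f (nat_lit 4627), Mv.f (nat_lit 5175)])))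
(Tr.lf (Fc.ed (nat_lit 5178) (nat_lit 1527) Col.c (nat_lit 1804) (Dv.wd (nat_lit 134) [Mv.f (nat_lit 5176), Mv.b (nat_lit 3528), Mv.f (nat_lit 4556)]))))))
(Tr.nd (nat_lit 5181) (Tr.nd (nat_lit 5180) (Tr.lf (Fc.ed (nat_lit 5179) (nat_lit 1454) Col.e (nat_lit 1804) (Dv.wd (nat_lit 72) [Mv.f (nat_lit 5176), Mv.f (nat_lit 3337), Mv.f (nat_lit 4398)])))
(Tr.lf (Fc.ed (nat_lit 5180) (nat_lit 1505) Col.c (nat_lit 1805) Dv.df)))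
(Tr.nd (nat_lit 5182) (Tr.lf (Fc.ed (nat_lit 5181) (nat_lit 1805) Col.e (nat_lit 1157) (Dv.wd (nat_lit 25) [Mv.f (nat_lit 3565), Mv.b (nat_lit 4510), Mv.f (nat_lit 5180)])))
(Tr.nd (nat_lit 5183) (Tr.lf (Fc.ed (nat_lit 5182) (nat_lit 1571) Col.gi (nat_lit 1806) Dv.df))
(Tr.lf (Fc.ed (nat_lit 5183) (nat_lit 1806) Col.gi (nat_lit 832) (Dv.wd (nat_lit 24) [Mv.b (nat_lit 2856), Mv.b (nat_lit 4654), Mv.f (nat_lit 5182)])))))))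
(Tr.nd (nat_lit 5189) (Tr.nd (nat_lit 5186) (Tr.nd (nat_lit 5185) (Tr.lf (Fc.ed (nat_lit 5184) (nat_lit 1364) Col.b (nat_lit 1807) Dv.df))
(Tr.lf (Fc.ed (nat_lit 5185) (nat_lit 1148) Col.a (nat_lit 1808) Dv.df)))
(Tr.nd (nat_lit 5187) (Tr.lf (Fc.ed (nat_lit 5186) (nat_lit 857) Col.b (nat_lit 1809) Dv.df))
(Tr.nd (nat_lit 5188) (Tr.lf (Fc.ed (nat_lit 5187) (nat_lit 1809) Col.e (nat_lit 1587) (Dv.wd (nat_lit 52) [Mv.b (nat_lit 4690), Mv.b (nat_lit 2809), Mv.f (nat_lit 5186)])))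
(Tr.lf (Fc.ed (nat_lit 5188) (nat_lit 462) Col.e (nat_lit 1810) Dv.df)))))
(Tr.nd (nat_lit 5191) (Tr.nd (nat_lit 5190) (Tr.lf (Fc.ed (nat_lit 5189) (nat_lit 885) Col.b (nat_lit 1811) Dv.df))
(Tr.lf (Fc.ed (nat_lit 5190) (nat_lit 1811) Col.f (nat_lit 1551) (Dv.wd (nat_lit 20) [Mv.b (nat_lit 4606), Mv.b (nat_lit 3000), Mv.f (nat_lit 5189)]))))
(Tr.nd (nat_lit 5192) (Tr.lf (Fc.ed (nat_lit 5191) (nat_lit 1811) Col.c (nat_lit 1590) (Dv.wd (nat_lit 93) [Mv.b (nat_lit 4694), Mv.f (nat_lit 1701), Mv.b (nat_lit 2321), Mv.f (nat_lit 2842), Mv.f (nat_lit 5189)])))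
(Tr.nd (nat_lit 5193) (Tr.lf (Fc.ed (nat_lit 5192) (nat_lit 1728) Col.d (nat_lit 1812) Dv.df))
(Tr.lf (Fc.ed (nat_lit 5193) (nat_lit 1539) Col.f (nat_lit 1813) Dv.df)))))))
(Tr.nd (nat_lit 5204) (Tr.nd (nat_lit 5199) (Tr.nd (nat_lit 5196) (Tr.nd (nat_lit 5195) (Tr.lf (Fc.ed (nat_lit 5194) (nat_lit 1813) Col.b (nat_lit 762) (Dv.wd (nat_lit 66) [Mv.f (nat_lit 4524), Mv.f (nat_lit 4581), Mv.f (nat_lit 5193)])))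
(Tr.lf (Fc.ed (nat_lit 5195) (nat_lit 586) Col.c (nat_lit 1814) Dv.df)))
(Tr.nd (nat_lit 5197) (Tr.lf (Fc.ed (nat_lit 5196) (nat_lit 940) Col.b (nat_lit 1815) Dv.df))
(Tr.nd (nat_lit 5198) (Tr.lf (Fc.ed (nat_lit 5197) (nat_lit 1815) Col.d (nat_lit 1095) (Dv.wd (nat_lit 58) [Mv.b (nat_lit 3383), Mv.f (nat_lit 2984), Mv.f (nat_lit 5196)])))
(Tr.lf (Fc.ed (nat_lit 5198) (nat_lit 1346) Col.e (nat_lit 1816) Dv.df)))))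
(Tr.nd (nat_lit 5201) (Tr.nd (nat_lit 5200) (Tr.lf (Fc.ed (nat_lit 5199) (nat_lit 1816) Col.a (nat_lit 1274) (Dv.wd (nat_lit 15) [Mv.b (nat_lit 3892), Mv.b (nat_lit 4114), Mv.f (nat_lit 5198)])))
(Tr.lf (Fc.ed (nat_lit 5200) (nat_lit 1816) Col.b (nat_lit 1799) (Dv.wd (nat_lit 49) [Mv.f (nat_lit 5169), Mv.b (nat_lit 4115), Mv.f (nat_lit 5198)]))))
(Tr.nd (nat_lit 5202) (Tr.lf (Fc.ed (nat_lit 5201) (nat_lit 1816) Col.d (nat_lit 1816) (Dv.wd (nat_lit 59) [Mv.b (nat_lit 5198), Mv.b (nat_lit 4113), Mv.f (nat_lit 2050), Mv.f (nat_lit 4113), Mv.f (nat_lit 5198)])))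
(Tr.nd (nat_lit 5203) (Tr.lf (Fc.ed (nat_lit 5202) (nat_lit 1076) Col.g (nat_lit 1817) Dv.df))
(Tr.lf (Fc.ed (nat_lit 5203) (nat_lit 1817) Col.g (nat_lit 874) (Dv.wd (nat_lit 9) [Mv.f (nat_lit 2474), Mv.f (nat_lit 3325), Mv.f (nat_lit 5202)])))))))
(Tr.nd (nat_lit 5209) (Tr.nd (nat_lit 5206) (Tr.nd (nat_lit 5205) (Tr.lf (Fc.ed (nat_lit 5204) (nat_lit 1810) Col.a (nat_lit 1818) Dv.df))
(Tr.lf (Fc.ed (nat_lit 5205) (nat_lit 1818) Col.e (nat_lit 739) (Dv.wd (nat_lit 56) [Mv.b (nat_lit 2146), Mv.f (nat_lit 5188), Mv.f (nat_lit 5204)]))))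
(Tr.nd (nat_lit 5207) (Tr.lf (Fc.ed (nat_lit 5206) (nat_lit 938) Col.gi (nat_lit 1819) Dv.df))
(Tr.nd (nat_lit 5208) (Tr.lf (Fc.ed (nat_lit 5207) (nat_lit 1819) Col.gi (nat_lit 1765) (Dv.wd (nat_lit 24) [Mv.f (nat_lit 5105), Mv.b (nat_lit 4489), Mv.f (nat_lit 5206)])))
(Tr.lf (Fc.ed (nat_lit 5208) (nat_lit 680) Col.e (nat_lit 1820) Dv.df)))))
(Tr.nd (nat_lit 5212) (Tr.nd (nat_lit 5210) (Tr.lf (Fc.ed (nat_lit 5209) (nat_lit 1820) Col.a (nat_lit 1669) (Dv.wd (nat_lit 15) [Mv.f (nat_lit 4875), Mv.f (nat_lit 2283), Mv.f (nat_lit 5208)])))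
(Tr.nd (nat_lit 5211) (Tr.lf (Fc.ed (nat_lit 5210) (nat_lit 1820) Col.c (nat_lit 1715) (Dv.wd (nat_lit 18) [Mv.b (nat_lit 4986), Mv.b (nat_lit 3056), Mv.f (nat_lit 5208)])))
(Tr.lf (Fc.ed (nat_lit 5211) (nat_lit 1820) Col.d (nat_lit 1820) (Dv.wd (nat_lit 59) [Mv.b (nat_lit 5208), Mv.b (nat_lit 1995), Mv.f (nat_lit 651), Mv.f (nat_lit 1995), Mv.f (nat_lit 5208)])))))
(Tr.nd (nat_lit 5213) (Tr.lf (Fc.ed (nat_lit 5212) (nat_lit 1309) Col.gi (nat_lit 1821) Dv.df))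
(Tr.nd (nat_lit 5214) (Tr.lf (Fc.ed (nat_lit 5213) (nat_lit 1821) Col.gi (nat_lit 796) (Dv.wd (nat_lit 24) [Mv.b (nat_lit 2951), Mv.f (nat_lit 3977), Mv.f (nat_lit 5212)])))
(Tr.lf (Fc.ed (nat_lit 5214) (nat_lit 1245) Col.a (nat_lit 1822) Dv.df))))))))
(Tr.nd (nat_lit 5236) (Tr.nd (nat_lit 5225) (Tr.nd (nat_lit 5220) (Tr.nd (nat_lit 5217) (Tr.nd (nat_lit 5216) (Tr.lf (Fc.ed (nat_lit 5215) (nat_lit 1822) Col.f (nat_lit 1682) (Dv.wd (nat_lit 35) [Mv.f (nat_lit 4919), Mv.f (nat_lit 4920), Mv.f (nat_lit 5214)])))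
(Tr.lf (Fc.ed (nat_lit 5216) (nat_lit 1677) Col.gi (nat_lit 1823) Dv.df)))
(Tr.nd (nat_lit 5218) (Tr.lf (Fc.ed (nat_lit 5217) (nat_lit 1746) Col.e (nat_lit 1824) Dv.df))
(Tr.nd (nat_lit 5219) (Tr.lf (Fc.ed (nat_lit 5218) (nat_lit 1824) Col.b (nat_lit 1810) (Dv.wd (nat_lit 49) [Mv.b (nat_lit 5188), Mv.b (nat_lit 5057), Mv.f (nat_lit 5217)])))
(Tr.lf (Fc.ed (nat_lit 5219) (nat_lit 751) Col.c (nat_lit 1825) Dv.df)))))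
(Tr.nd (nat_lit 5222) (Tr.nd (nat_lit 5221) (Tr.lf (Fc.ed (nat_lit 5220) (nat_lit 1825) Col.a (nat_lit 1784) (Dv.wd (nat_lit 19) [Mv.b (nat_lit 5139), Mv.f (nat_lit 2173), Mv.f (nat_lit 5219)])))
(Tr.lf (Fc.ed (nat_lit 5221) (nat_lit 1374) Col.f (nat_lit 1826) Dv.df)))
(Tr.nd (nat_lit 5223) (Tr.lf (Fc.ed (nat_lit 5222) (nat_lit 1826) Col.a (nat_lit 1140) (Dv.wd (nat_lit 16) [Mv.b (nat_lit 3496), Mv.f (nat_lit 4181), Mv.f (nat_lit 5221)])))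
(Tr.nd (nat_lit 5224) (Tr.lf (Fc.ed (nat_lit 5223) (nat_lit 1826) Col.b (nat_lit 1826) (Dv.wd (nat_lit 66) [Mv.b (nat_lit 5221), Mv.f (nat_lit 4183), Mv.f (nat_lit 5221)])))
(Tr.lf (Fc.ed (nat_lit 5224) (nat_lit 1826) Col.e (nat_lit 1416) (Dv.wd (nat_lit 22) [Mv.b (nat_lit 4284), Mv.b (nat_lit 3096), Mv.b (nat_lit 2962), Mv.b (nat_lit 4182), Mv.f (nat_lit 5221)])))))))
(Tr.nd (nat_lit 5230) (Tr.nd (nat_lit 5227) (Tr.nd (nat_lit 5226) (Tr.lf (Fc.ed (nat_lit 5225) (nat_lit 1171) Col.b (nat_lit 1827) Dv.df))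
(Tr.lf (Fc.ed (nat_lit 5226) (nat_lit 936) Col.b (nat_lit 1828) Dv.df)))
(Tr.nd (nat_lit 5228) (Tr.lf (Fc.ed (nat_lit 5227) (nat_lit 1237) Col.f (nat_lit 1829) Dv.df))
(Tr.nd (nat_lit 5229) (Tr.lf (Fc.ed (nat_lit 5228) (nat_lit 601) Col.c (nat_lit 1830) Dv.df))
(Tr.lf (Fc.ed (nat_lit 5229) (nat_lit 1830) Col.f (nat_lit 1803) (Dv.wd (nat_lit 26) [Mv.b (nat_lit 5174), Mv.b (nat_lit 1569), Mv.f (nat_lit 5228)]))))))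
(Tr.nd (nat_lit 5233) (Tr.nd (nat_lit 5231) (Tr.lf (Fc.ed (nat_lit 5230) (nat_lit 930) Col.g (nat_lit 1831) Dv.df))
(Tr.nd (nat_lit 5232) (Tr.lf (Fc.ed (nat_lit 5231) (nat_lit 1831) Col.g (nat_lit 1808) (Dv.wd (nat_lit 9) [Mv.b (nat_lit 5185), Mv.f (nat_lit 3536), Mv.f (nat_lit 5230)])))
(Tr.lf (Fc.ed (nat_lit 5232) (nat_lit 1544) Col.d (nat_lit 1832) Dv.df))))
(Tr.nd (nat_lit 5234) (Tr.lf (Fc.ed (nat_lit 5233) (nat_lit 1832) Col.c (nat_lit 1797) (Dv.wd (nat_lit 80) [Mv.b (nat_lit 5164), Mv.f (nat_lit 4550), Mv.b (nat_lit 2153), Mv.f (nat_lit 1254), Mv.f (nat_lit 2153), Mv.b (nat_lit 2366), Mv.b (nat_lit 3674), Mv.f (nat_lit 4589), Mv.f (nat_lit 5232)])))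
(Tr.nd (nat_lit 5235) (Tr.lf (Fc.ed (nat_lit 5234) (nat_lit 1569) Col.a (nat_lit 1833) Dv.df))
(Tr.lf (Fc.ed (nat_lit 5235) (nat_lit 1833) Col.f (nat_lit 1598) (Dv.wd (nat_lit 35) [Mv.f (nat_lit 5042), Mv.f (nat_lit 5043), Mv.f (nat_lit 5234)]))))))))
(Tr.nd (nat_lit 5246) (Tr.nd (nat_lit 5241) (Tr.nd (nat_lit 5238) (Tr.nd (nat_lit 5237) (Tr.lf (Fc.ed (nat_lit 5236) (nat_lit 1800) Col.b (nat_lit 1834) Dv.df))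
(Tr.lf (Fc.ed (nat_lit 5237) (nat_lit 1834) Col.a (nat_lit 1325) (Dv.wd (nat_lit 98) [Mv.f (nat_lit 4009), Mv.b (nat_lit 1324), Mv.f (nat_lit 4171), Mv.f (nat_lit 5170), Mv.f (nat_lit 5236)]))))
(Tr.nd (nat_lit 5239) (Tr.lf (Fc.ed (nat_lit 5238) (nat_lit 1800) Col.c (nat_lit 1834) (Dv.wd (nat_lit 134) [Mv.f (nat_lit 5237), Mv.b (nat_lit 4173), Mv.f (nat_lit 5170)])))
(Tr.nd (nat_lit 5240) (Tr.lf (Fc.ed (nat_lit 5239) (nat_lit 1541) Col.c (nat_lit 1835) Dv.df))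
(Tr.lf (Fc.ed (nat_lit 5240) (nat_lit 1835) Col.e (nat_lit 867) (Dv.wd (nat_lit 25) [Mv.b (nat_lit 2456), Mv.f (nat_lit 4585), Mv.f (nat_lit 5239)]))))))
(Tr.nd (nat_lit 5243) (Tr.nd (nat_lit 5242) (Tr.lf (Fc.ed (nat_lit 5241) (nat_lit 1832) Col.f (nat_lit 1836) Dv.df))
(Tr.lf (Fc.ed (nat_lit 5242) (nat_lit 1836) Col.d (nat_lit 1659) (Dv.wd (nat_lit 21) [Mv.b (nat_lit 4848), Mv.f (nat_lit 5232), Mv.f (nat_lit 5241)]))))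
(Tr.nd (nat_lit 5244) (Tr.lf (Fc.ed (nat_lit 5243) (nat_lit 1836) Col.a (nat_lit 1797) (Dv.wd (nat_lit 46) [Mv.b (nat_lit 5233), Mv.b (nat_lit 5232), Mv.b (nat_lit 4589), Mv.b (nat_lit 3673), Mv.f (nat_lit 1899), Mv.f (nat_lit 3673), Mv.f (nat_lit 4589), Mv.f (nat_lit 5232), Mv.f (nat_lit 5241)])))
(Tr.nd (nat_lit 5245) (Tr.lf (Fc.ed (nat_lit 5244) (nat_lit 1710) Col.c (nat_lit 1837) Dv.df))
(Tr.lf (Fc.ed (nat_lit 5245) (nat_lit 1499) Col.e (nat_lit 1838) Dv.df))))))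
(Tr.nd (nat_lit 5251) (Tr.nd (nat_lit 5248) (Tr.nd (nat_lit 5247) (Tr.lf (Fc.ed (nat_lit 5246) (nat_lit 1838) Col.b (nat_lit 1505) (Dv.wd (nat_lit 49) [Mv.f (nat_lit 4510), Mv.b (nat_lit 4495), Mv.f (nat_lit 5245)])))
(Tr.lf (Fc.ed (nat_lit 5247) (nat_lit 1364) Col.d (nat_lit 1839) Dv.df)))
(Tr.nd (nat_lit 5249) (Tr.lf (Fc.ed (nat_lit 5248) (nat_lit 1839) Col.e (nat_lit 668) (Dv.wd (nat_lit 42) [Mv.f (nat_lit 1961), Mv.f (nat_lit 982), Mv.b (nat_lit 902), Mv.f (nat_lit 4157), Mv.f (nat_lit 5247)])))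
(Tr.nd (nat_lit 5250) (Tr.lf (Fc.ed (nat_lit 5249) (nat_lit 1170) Col.g (nat_lit 1840) Dv.df))
(Tr.lf (Fc.ed (nat_lit 5250) (nat_lit 1840) Col.a (nat_lit 1439) (Dv.wd (nat_lit 114) [Mv.f (nat_lit 4371), Mv.f (nat_lit 4126), Mv.f (nat_lit 5249)]))))))
(Tr.nd (nat_lit 5254) (Tr.nd (nat_lit 5252) (Tr.lf (Fc.ed (nat_lit 5251) (nat_lit 1840) Col.d (nat_lit 1213) (Dv.wd (nat_lit 85) [Mv.b (nat_lit 3737), Mv.f (nat_lit 4342), Mv.b (nat_lit 4770), Mv.f (nat_lit 4613), Mv.f (nat_lit 4767), Mv.b (nat_lit 4763), Mv.f (nat_lit 4637), Mv.f (nat_lit 3598), Mv.f (nat_lit 5249)])))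
(Tr.nd (nat_lit 5253) (Tr.lf (Fc.ed (nat_lit 5252) (nat_lit 1708) Col.f (nat_lit 1840) (Dv.wd (nat_lit 86) [Mv.f (nat_lit 5251), Mv.f (nat_lit 4363), Mv.f (nat_lit 4961)])))
(Tr.lf (Fc.ed (nat_lit 5253) (nat_lit 1628) Col.f (nat_lit 1841) Dv.df))))
(Tr.nd (nat_lit 5255) (Tr.lf (Fc.ed (nat_lit 5254) (nat_lit 1841) Col.d (nat_lit 501) (Dv.wd (nat_lit 21) [Mv.b (nat_lit 3413), Mv.f (nat_lit 4780), Mv.f (nat_lit 5253)])))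
(Tr.nd (nat_lit 5256) (Tr.lf (Fc.ed (nat_lit 5255) (nat_lit 1830) Col.a (nat_lit 1842) Dv.df))
(Tr.lf (Fc.ed (nat_lit 5256) (nat_lit 1842) Col.c (nat_lit 403) (Dv.wd (nat_lit 33) [Mv.f (nat_lit 1568), Mv.f (nat_lit 5228), Mv.f (nat_lit 5255)])))))))))))))))
end CfsgLib.TCON
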