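import Cfsg.Agent.EqBase
import Cfsg.Agent.LibTCONW
set_option autoImplicit false
set_option linter.all false
set_option maxRecDepth 1000000
set_option maxHeartbeats 0
namespace CfsgLib.TCON
open CfsgLib.TC Cfsg.Spor CfsgLib.TCG_ON
noncomputable def mini2S_2 : Tr (Fc Col) := (Tr.nd (nat_lit 6571) (Tr.nd (nat_lit 5914) (Tr.nd (nat_lit 5585) (Tr.nd (nat_lit 5421) (Tr.nd (nat_lit 5339) (Tr.nd (nat_lit 5298) (Tr.nd (nat_lit 5277) (Tr.nd (nat_lit 5267) (Tr.nd (nat_lit 5262) (Tr.nd (nat_lit 5259) (Tr.nd (nat_lit 5258) (Tr.lf (Fc.ed (nat_lit 5257) (nat_lit 1107) Col.d (nat_lit 1843) Dv.df))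
(Tr.lf (Fc.ed (nat_lit 5258) (nat_lit 1843) Col.a (nat_lit 1315) (Dv.wd (nat_lit 8) [Mv.b (nat_lit 3985), Mv.b (nat_lit 3416), Mv.f (nat_lit 5257)]))))
(Tr.nd (nat_lit 5260) (Tr.lf (Fc.ed (nat_lit 5259) (nat_lit 947) Col.f (nat_lit 1844) Dv.df))
(Tr.nd (nat_lit 5261) (Tr.lf (Fc.ed (nat_lit 5260) (nat_lit 1069) Col.d (nat_lit 1845) Dv.df))
(Tr.lf (Fc.ed (nat_lit 5261) (nat_lit 1845) Col.f (nat_lit 1815) (Dv.wd (nat_lit 11) [Mv.f (nat_lit 5197), Mv.f (nat_lit 3384), Mv.f (nat_lit 5260)]))))))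
(Tr.nd (nat_lit 5264) (Tr.nd (nat_lit 5263) (Tr.lf (Fc.ed (nat_lit 5262) (nat_lit 1657) Col.a (nat_lit 1846) Dv.df))
(Tr.lf (Fc.ed (nat_lit 5263) (nat_lit 1846) Col.c (nat_lit 476) (Dv.wd (nat_lit 33) [Mv.b (nat_lit 1939), Mv.f (nat_lit 4843), Mv.f (nat_lit 5262)]))))
(Tr.nd (nat_lit 5265) (Tr.lf (Fc.ed (nat_lit 5264) (nat_lit 1846) Col.f (nat_lit 1543) (Dv.wd (nat_lit 35) [Mv.b (nat_lit 4777), Mv.b (nat_lit 4844), Mv.f (nat_lit 5262)])))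
(Tr.nd (nat_lit 5266) (Tr.lf (Fc.ed (nat_lit 5265) (nat_lit 1240) Col.c (nat_lit 1847) Dv.df))
(Tr.lf (Fc.ed (nat_lit 5266) (nat_lit 1847) Col.e (nat_lit 1027) (Dv.wd (nat_lit 25) [Mv.b (nat_lit 3205), Mv.f (nat_lit 3814), Mv.f (nat_lit 5265)])))))))
(Tr.nd (nat_lit 5272) (Tr.nd (nat_lit 5269) (Tr.nd (nat_lit 5268) (Tr.lf (Fc.ed (nat_lit 5267) (nat_lit 747) Col.g (nat_lit 1848) Dv.df))
(Tr.lf (Fc.ed (nat_lit 5268) (nat_lit 1848) Col.g (nat_lit 1653) (Dv.wd (nat_lit 9) [Mv.b (nat_lit 4831), Mv.b (nat_lit 2193), Mv.f (nat_lit 5267)]))))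
(Tr.nd (nat_lit 5270) (Tr.lf (Fc.ed (nat_lit 5269) (nat_lit 742) Col.e (nat_lit 1849) Dv.df))
(Tr.nd (nat_lit 5271) (Tr.lf (Fc.ed (nat_lit 5270) (nat_lit 1849) Col.b (nat_lit 1820) (Dv.wd (nat_lit 49) [Mv.b (nat_lit 5208), Mv.b (nat_lit 2154), Mv.f (nat_lit 5269)])))
(Tr.lf (Fc.ed (nat_lit 5271) (nat_lit 1849) Col.d (nat_lit 1849) (Dv.wd (nat_lit 59) [Mv.b (nat_lit 5269), Mv.b (nat_lit 2153), Mv.f (nat_lit 1252), Mv.f (nat_lit 2153), Mv.f (nat_lit 5269)]))))))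
(Tr.nd (nat_lit 5274) (Tr.nd (nat_lit 5273) (Tr.lf (Fc.ed (nat_lit 5272) (nat_lit 1335) Col.e (nat_lit 1850) Dv.df))
(Tr.lf (Fc.ed (nat_lit 5273) (nat_lit 1850) Col.c (nat_lit 1269) (Dv.wd (nat_lit 18) [Mv.b (nat_lit 3883), Mv.f (nat_lit 4032), Mv.f (nat_lit 5272)]))))
(Tr.nd (nat_lit 5275) (Tr.lf (Fc.ed (nat_lit 5274) (nat_lit 1850) Col.d (nat_lit 1794) (Dv.wd (nat_lit 27) [Mv.b (nat_lit 5160), Mv.b (nat_lit 2138), Mv.b (nat_lit 2016), Mv.b (nat_lit 626), Mv.b (nat_lit 973), Mv.f (nat_lit 974), Mv.b (nat_lit 3653), Mv.f (nat_lit 4047), Mv.f (nat_lit 4051), Mv.f (nat_lit 5272)])))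
(Tr.nd (nat_lit 5276) (Tr.lf (Fc.ed (nat_lit 5275) (nat_lit 1776) Col.e (nat_lit 1794) (Dv.wd (nat_lit 40) [Mv.b (nat_lit 5274), Mv.b (nat_lit 5272), Mv.f (nat_lit 4035), Mv.f (nat_lit 4421), Mv.f (nat_lit 5125)])))
(Tr.lf (Fc.ed (nat_lit 5276) (nat_lit 1794) Col.a (nat_lit 1794) (Dv.wd (nat_lit 15) [Mv.b (nat_lit 5275), Mv.f (nat_lit 5126), Mv.f (nat_lit 5275)]))))))))
(Tr.nd (nat_lit 5287) (Tr.nd (nat_lit 5282) (Tr.nd (nat_lit 5279) (Tr.nd (nat_lit 5278) (Tr.lf (Fc.ed (nat_lit 5277) (nat_lit 1434) Col.c (nat_lit 1851) Dv.df))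
(Tr.lf (Fc.ed (nat_lit 5278) (nat_lit 1851) Col.e (nat_lit 1000) (Dv.wd (nat_lit 25) [Mv.f (nat_lit 3132), Mv.f (nat_lit 4330), Mv.f (nat_lit 5277)]))))
(Tr.nd (nat_lit 5280) (Tr.lf (Fc.ed (nat_lit 5279) (nat_lit 1837) Col.gi (nat_lit 1852) Dv.df))
(Tr.nd (nat_lit 5281) (Tr.lf (Fc.ed (nat_lit 5280) (nat_lit 1852) Col.c (nat_lit 979) (Dv.wd (nat_lit 143) [Mv.b (nat_lit 3071), Mv.b (nat_lit 941), Mv.f (nat_lit 490), Mv.f (nat_lit 410), Mv.b (nat_lit 936), Mv.f (nat_lit 3011), Mv.b (nat_lit 4080), Mv.f (nat_lit 4969), Mv.f (nat_lit 5244), Mv.f (nat_lit 5279)])))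
(Tr.lf (Fc.ed (nat_lit 5281) (nat_lit 1836) Col.c (nat_lit 1853) Dv.df)))))
(Tr.nd (nat_lit 5284) (Tr.nd (nat_lit 5283) (Tr.lf (Fc.ed (nat_lit 5282) (nat_lit 1853) Col.a (nat_lit 1832) (Dv.wd (nat_lit 19) [Mv.f (nat_lit 5233), Mv.b (nat_lit 5243), Mv.f (nat_lit 5281)])))
(Tr.lf (Fc.ed (nat_lit 5283) (nat_lit 1853) Col.d (nat_lit 1641) (Dv.wd (nat_lit 44) [Mv.f (nat_lit 4805), Mv.b (nat_lit 2364), Mv.f (nat_lit 1178), Mv.f (nat_lit 2364), Mv.f (nat_lit 2366), Mv.b (nat_lit 3281), Mv.b (nat_lit 4847), Mv.b (nat_lit 5242), Mv.f (nat_lit 5281)]))))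
(Tr.nd (nat_lit 5285) (Tr.lf (Fc.ed (nat_lit 5284) (nat_lit 1395) Col.f (nat_lit 1854) Dv.df))
(Tr.nd (nat_lit 5286) (Tr.lf (Fc.ed (nat_lit 5285) (nat_lit 1553) Col.c (nat_lit 1855) Dv.df))
(Tr.lf (Fc.ed (nat_lit 5286) (nat_lit 1293) Col.a (nat_lit 1856) Dv.df))))))
(Tr.nd (nat_lit 5292) (Tr.nd (nat_lit 5289) (Tr.nd (nat_lit 5288) (Tr.lf (Fc.ed (nat_lit 5287) (nat_lit 1856) Col.e (nat_lit 1571) (Dv.wd (nat_lit 56) [Mv.f (nat_lit 4654), Mv.f (nat_lit 3945), Mv.f (nat_lit 5286)])))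
(Tr.lf (Fc.ed (nat_lit 5288) (nat_lit 1299) Col.e (nat_lit 1857) Dv.df)))
(Tr.nd (nat_lit 5290) (Tr.lf (Fc.ed (nat_lit 5289) (nat_lit 871) Col.gi (nat_lit 1858) Dv.df))
(Tr.nd (nat_lit 5291) (Tr.lf (Fc.ed (nat_lit 5290) (nat_lit 1858) Col.gi (nat_lit 875) (Dv.wd (nat_lit 24) [Mv.f (nat_lit 2767), Mv.f (nat_lit 2476), Mv.f (nat_lit 5289)])))
(Tr.lf (Fc.ed (nat_lit 5291) (nat_lit 1611) Col.gi (nat_lit 1859) Dv.df)))))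
(Tr.nd (nat_lit 5295) (Tr.nd (nat_lit 5293) (Tr.lf (Fc.ed (nat_lit 5292) (nat_lit 1859) Col.gi (nat_lit 755) (Dv.wd (nat_lit 24) [Mv.b (nat_lit 2183), Mv.f (nat_lit 4735), Mv.f (nat_lit 5291)])))
(Tr.nd (nat_lit 5294) (Tr.lf (Fc.ed (nat_lit 5293) (nat_lit 893) Col.d (nat_lit 1860) Dv.df))
(Tr.lf (Fc.ed (nat_lit 5294) (nat_lit 1860) Col.f (nat_lit 1433) (Dv.wd (nat_lit 11) [Mv.b (nat_lit 4329), Mv.f (nat_lit 3924), Mv.f (nat_lit 5293)])))))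
(Tr.nd (nat_lit 5296) (Tr.lf (Fc.ed (nat_lit 5295) (nat_lit 1703) Col.c (nat_lit 1861) Dv.df))
(Tr.nd (nat_lit 5297) (Tr.lf (Fc.ed (nat_lit 5296) (nat_lit 1861) Col.a (nat_lit 1156) (Dv.wd (nat_lit 19) [Mv.f (nat_lit 3577), Mv.b (nat_lit 4948), Mv.f (nat_lit 5295)])))
(Tr.lf (Fc.ed (nat_lit 5297) (nat_lit 976) Col.f (nat_lit 1862) Dv.df))))))))
(Tr.nd (nat_lit 5318) (Tr.nd (nat_lit 5308) (Tr.nd (nat_lit 5303) (Tr.nd (nat_lit 5300) (Tr.nd (nat_lit 5299) (Tr.lf (Fc.ed (nat_lit 5298) (nat_lit 1862) Col.a (nat_lit 987) (Dv.wd (nat_lit 16) [Mv.f (nat_lit 3094), Mv.f (nat_lit 3064), Mv.f (nat_lit 5297)])))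
(Tr.lf (Fc.ed (nat_lit 5299) (nat_lit 1025) Col.a (nat_lit 1863) Dv.df)))
(Tr.nd (nat_lit 5301) (Tr.lf (Fc.ed (nat_lit 5300) (nat_lit 1863) Col.f (nat_lit 1252) (Dv.wd (nat_lit 35) [Mv.b (nat_lit 3844), Mv.f (nat_lit 3362), Mv.f (nat_lit 5299)])))
(Tr.nd (nat_lit 5302) (Tr.lf (Fc.ed (nat_lit 5301) (nat_lit 1863) Col.b (nat_lit 1863) (Dv.wd (nat_lit 65) [Mv.b (nat_lit 5299), Mv.b (nat_lit 3199), Mv.f (nat_lit 855), Mv.f (nat_lit 3199), Mv.f (nat_lit 5299)])))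
(Tr.lf (Fc.ed (nat_lit 5302) (nat_lit 789) Col.b (nat_lit 1864) Dv.df)))))
(Tr.nd (nat_lit 5305) (Tr.nd (nat_lit 5304) (Tr.lf (Fc.ed (nat_lit 5303) (nat_lit 1864) Col.f (nat_lit 1768) (Dv.wd (nat_lit 20) [Mv.b (nat_lit 5108), Mv.b (nat_lit 2261), Mv.f (nat_lit 5302)])))
(Tr.lf (Fc.ed (nat_lit 5304) (nat_lit 1864) Col.c (nat_lit 1864) (Dv.wd (nat_lit 93) [Mv.b (nat_lit 5302), Mv.b (nat_lit 2260), Mv.f (nat_lit 1211), Mv.f (nat_lit 2260), Mv.f (nat_lit 5302)]))))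
(Tr.nd (nat_lit 5306) (Tr.lf (Fc.ed (nat_lit 5305) (nat_lit 1672) Col.gi (nat_lit 1865) Dv.df))
(Tr.nd (nat_lit 5307) (Tr.lf (Fc.ed (nat_lit 5306) (nat_lit 1865) Col.gi (nat_lit 926) (Dv.wd (nat_lit 24) [Mv.f (nat_lit 4880), Mv.f (nat_lit 4881), Mv.f (nat_lit 5305)])))
(Tr.lf (Fc.ed (nat_lit 5307) (nat_lit 1294) Col.e (nat_lit 1866) Dv.df))))))
(Tr.nd (nat_lit 5313) (Tr.nd (nat_lit 5310) (Tr.nd (nat_lit 5309) (Tr.lf (Fc.ed (nat_lit 5308) (nat_lit 1866) Col.c (nat_lit 717) (Dv.wd (nat_lit 18) [Mv.f (nat_lit 2097), Mv.f (nat_lit 3947), Mv.f (nat_lit 5307)])))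
(Tr.lf (Fc.ed (nat_lit 5309) (nat_lit 846) Col.gi (nat_lit 1867) Dv.df)))
(Tr.nd (nat_lit 5311) (Tr.lf (Fc.ed (nat_lit 5310) (nat_lit 1867) Col.gi (nat_lit 1399) (Dv.wd (nat_lit 24) [Mv.b (nat_lit 5008), Mv.b (nat_lit 5006), Mv.f (nat_lit 5309)])))
(Tr.nd (nat_lit 5312) (Tr.lf (Fc.ed (nat_lit 5311) (nat_lit 1056) Col.d (nat_lit 1868) Dv.df))
(Tr.lf (Fc.ed (nat_lit 5312) (nat_lit 1868) Col.b (nat_lit 1072) (Dv.wd (nat_lit 37) [Mv.b (nat_lit 3318), Mv.f (nat_lit 3273), Mv.f (nat_lit 5311)]))))))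
(Tr.nd (nat_lit 5315) (Tr.nd (nat_lit 5314) (Tr.lf (Fc.ed (nat_lit 5313) (nat_lit 796) Col.gi (nat_lit 1869) Dv.df))
(Tr.lf (Fc.ed (nat_lit 5314) (nat_lit 1869) Col.gi (nat_lit 1309) (Dv.wd (nat_lit 24) [Mv.b (nat_lit 5040), Mv.b (nat_lit 5037), Mv.f (nat_lit 5313)]))))
(Tr.nd (nat_lit 5316) (Tr.lf (Fc.ed (nat_lit 5315) (nat_lit 573) Col.b (nat_lit 1870) Dv.df))
(Tr.nd (nat_lit 5317) (Tr.lf (Fc.ed (nat_lit 5316) (nat_lit 853) Col.a (nat_lit 1871) Dv.df))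
(Tr.lf (Fc.ed (nat_lit 5317) (nat_lit 1238) Col.gi (nat_lit 1872) Dv.df)))))))
(Tr.nd (nat_lit 5328) (Tr.nd (nat_lit 5323) (Tr.nd (nat_lit 5320) (Tr.nd (nat_lit 5319) (Tr.lf (Fc.ed (nat_lit 5318) (nat_lit 1872) Col.gi (nat_lit 1152) (Dv.wd (nat_lit 24) [Mv.b (nat_lit 3549), Mv.b (nat_lit 3808), Mv.f (nat_lit 5317)])))
(Tr.lf (Fc.ed (nat_lit 5319) (nat_lit 1826) Col.g (nat_lit 1873) Dv.df)))
(Tr.nd (nat_lit 5321) (Tr.lf (Fc.ed (nat_lit 5320) (nat_lit 1873) Col.g (nat_lit 420) (Dv.wd (nat_lit 9) [Mv.f (nat_lit 4181), Mv.f (nat_lit 5221), Mv.f (nat_lit 5319)])))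
(Tr.nd (nat_lit 5322) (Tr.lf (Fc.ed (nat_lit 5321) (nat_lit 1013) Col.a (nat_lit 1874) Dv.df))
(Tr.lf (Fc.ed (nat_lit 5322) (nat_lit 1874) Col.f (nat_lit 1064) (Dv.wd (nat_lit 35) [Mv.b (nat_lit 3662), Mv.b (nat_lit 3661), Mv.f (nat_lit 5321)]))))))
(Tr.nd (nat_lit 5325) (Tr.nd (nat_lit 5324) (Tr.lf (Fc.ed (nat_lit 5323) (nat_lit 1500) Col.c (nat_lit 1875) Dv.df))
(Tr.lf (Fc.ed (nat_lit 5324) (nat_lit 1875) Col.e (nat_lit 593) (Dv.wd (nat_lit 25) [Mv.f (nat_lit 3481), Mv.f (nat_lit 4499), Mv.f (nat_lit 5323)]))))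
(Tr.nd (nat_lit 5326) (Tr.lf (Fc.ed (nat_lit 5325) (nat_lit 1782) Col.d (nat_lit 1875) (Dv.wd (nat_lit 99) [Mv.f (nat_lit 5324), Mv.f (nat_lit 2661), Mv.b (nat_lit 750), Mv.b (nat_lit 2708), Mv.f (nat_lit 5135)])))
(Tr.nd (nat_lit 5327) (Tr.lf (Fc.ed (nat_lit 5326) (nat_lit 884) Col.a (nat_lit 1876) Dv.df))
(Tr.lf (Fc.ed (nat_lit 5327) (nat_lit 918) Col.b (nat_lit 1877) Dv.df))))))
(Tr.nd (nat_lit 5333) (Tr.nd (nat_lit 5330) (Tr.nd (nat_lit 5329) (Tr.lf (Fc.ed (nat_lit 5328) (nat_lit 1877) Col.f (nat_lit 1809) (Dv.wd (nat_lit 20) [Mv.b (nat_lit 5186), Mv.f (nat_lit 3116), Mv.f (nat_lit 5327)])))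
(Tr.lf (Fc.ed (nat_lit 5329) (nat_lit 937) Col.g (nat_lit 1878) Dv.df)))
(Tr.nd (nat_lit 5331) (Tr.lf (Fc.ed (nat_lit 5330) (nat_lit 1878) Col.g (nat_lit 1862) (Dv.wd (nat_lit 9) [Mv.f (nat_lit 5298), Mv.f (nat_lit 3094), Mv.f (nat_lit 5329)])))
(Tr.nd (nat_lit 5332) (Tr.lf (Fc.ed (nat_lit 5331) (nat_lit 1351) Col.gi (nat_lit 1879) Dv.df))
(Tr.lf (Fc.ed (nat_lit 5332) (nat_lit 1879) Col.d (nat_lit 1608) (Dv.wd (nat_lit 43) [Mv.b (nat_lit 4727), Mv.b (nat_lit 4185), Mv.b (nat_lit 4377), Mv.f (nat_lit 4149), Mv.f (nat_lit 3300), Mv.b (nat_lit 4372), Mv.b (nat_lit 3970), Mv.b (nat_lit 3569), Mv.f (nat_lit 4127), Mv.f (nat_lit 5331)]))))))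
(Tr.nd (nat_lit 5336) (Tr.nd (nat_lit 5334) (Tr.lf (Fc.ed (nat_lit 5333) (nat_lit 1879) Col.a (nat_lit 1879) (Dv.wd (nat_lit 54) [Mv.f (nat_lit 5332), Mv.f (nat_lit 4729), Mv.b (nat_lit 5332)])))
(Tr.nd (nat_lit 5335) (Tr.lf (Fc.ed (nat_lit 5334) (nat_lit 1584) Col.b (nat_lit 1879) (Dv.wd (nat_lit 126) [Mv.f (nat_lit 5332), Mv.b (nat_lit 4764), Mv.f (nat_lit 4954)])))
(Tr.lf (Fc.ed (nat_lit 5335) (nat_lit 1263) Col.g (nat_lit 1879) (Dv.wd (nat_lit 63) [Mv.f (nat_lit 5332), Mv.f (nat_lit 4728), Mv.b (nat_lit 4256), Mv.b (nat_lit 4377), Mv.f (nat_lit 4148), Mv.f (nat_lit 3300), Mv.b (nat_lit 4372), Mv.f (nat_lit 3973), Mv.f (nat_lit 3569), Mv.f (nat_lit 3868)])))))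
(Tr.nd (nat_lit 5337) (Tr.lf (Fc.ed (nat_lit 5336) (nat_lit 924) Col.c (nat_lit 1880) Dv.df))
(Tr.nd (nat_lit 5338) (Tr.lf (Fc.ed (nat_lit 5337) (nat_lit 1880) Col.a (nat_lit 1666) (Dv.wd (nat_lit 19) [Mv.f (nat_lit 4864), Mv.f (nat_lit 4114), Mv.f (nat_lit 5336)])))
(Tr.lf (Fc.ed (nat_lit 5338) (nat_lit 1880) Col.f (nat_lit 1437) (Dv.wd (nat_lit 26) [Mv.b (nat_lit 4339), Mv.f (nat_lit 4306), Mv.f (nat_lit 5336)]))))))))))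
(Tr.nd (nat_lit 5380) (Tr.nd (nat_lit 5359) (Tr.nd (nat_lit 5349) (Tr.nd (nat_lit 5344) (Tr.nd (nat_lit 5341) (Tr.nd (nat_lit 5340) (Tr.lf (Fc.ed (nat_lit 5339) (nat_lit 1336) Col.a (nat_lit 1881) Dv.df))
(Tr.lf (Fc.ed (nat_lit 5340) (nat_lit 1881) Col.d (nat_lit 544) (Dv.wd (nat_lit 28) [Mv.f (nat_lit 3586), Mv.f (nat_lit 4036), Mv.f (nat_lit 5339)]))))
(Tr.nd (nat_lit 5342) (Tr.lf (Fc.ed (nat_lit 5341) (nat_lit 1738) Col.g (nat_lit 1882) Dv.df))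
(Tr.nd (nat_lit 5343) (Tr.lf (Fc.ed (nat_lit 5342) (nat_lit 1882) Col.g (nat_lit 929) (Dv.wd (nat_lit 9) [Mv.f (nat_lit 3977), Mv.b (nat_lit 5040), Mv.f (nat_lit 5341)])))
(Tr.lf (Fc.ed (nat_lit 5343) (nat_lit 1217) Col.b (nat_lit 1883) Dv.df)))))
(Tr.nd (nat_lit 5346) (Tr.nd (nat_lit 5345) (Tr.lf (Fc.ed (nat_lit 5344) (nat_lit 1812) Col.e (nat_lit 1884) Dv.df))
(Tr.lf (Fc.ed (nat_lit 5345) (nat_lit 1116) Col.b (nat_lit 1885) Dv.df)))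
(Tr.nd (nat_lit 5347) (Tr.lf (Fc.ed (nat_lit 5346) (nat_lit 1885) Col.d (nat_lit 1293) (Dv.wd (nat_lit 58) [Mv.f (nat_lit 3946), Mv.f (nat_lit 3441), Mv.f (nat_lit 5345)])))
(Tr.nd (nat_lit 5348) (Tr.lf (Fc.ed (nat_lit 5347) (nat_lit 1885) Col.e (nat_lit 1337) (Dv.wd (nat_lit 52) [Mv.f (nat_lit 4038), Mv.b (nat_lit 3443), Mv.f (nat_lit 5345)])))
(Tr.lf (Fc.ed (nat_lit 5348) (nat_lit 455) Col.d (nat_lit 1886) Dv.df))))))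
(Tr.nd (nat_lit 5354) (Tr.nd (nat_lit 5351) (Tr.nd (nat_lit 5350) (Tr.lf (Fc.ed (nat_lit 5349) (nat_lit 1458) Col.e (nat_lit 1887) Dv.df))
(Tr.lf (Fc.ed (nat_lit 5350) (nat_lit 1887) Col.a (nat_lit 1572) (Dv.wd (nat_lit 15) [Mv.b (nat_lit 4658), Mv.b (nat_lit 4407), Mv.f (nat_lit 5349)]))))
(Tr.nd (nat_lit 5352) (Tr.lf (Fc.ed (nat_lit 5351) (nat_lit 1455) Col.e (nat_lit 1888) Dv.df))
(Tr.nd (nat_lit 5353) (Tr.lf (Fc.ed (nat_lit 5352) (nat_lit 1888) Col.b (nat_lit 1875) (Dv.wd (nat_lit 49) [Mv.f (nat_lit 5324), Mv.f (nat_lit 4400), Mv.f (nat_lit 5351)])))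
(Tr.lf (Fc.ed (nat_lit 5353) (nat_lit 1860) Col.a (nat_lit 1889) Dv.df)))))
(Tr.nd (nat_lit 5356) (Tr.nd (nat_lit 5355) (Tr.lf (Fc.ed (nat_lit 5354) (nat_lit 1889) Col.d (nat_lit 1748) (Dv.wd (nat_lit 28) [Mv.f (nat_lit 5061), Mv.f (nat_lit 5293), Mv.f (nat_lit 5353)])))
(Tr.lf (Fc.ed (nat_lit 5355) (nat_lit 1760) Col.f (nat_lit 1890) Dv.df)))
(Tr.nd (nat_lit 5357) (Tr.lf (Fc.ed (nat_lit 5356) (nat_lit 1890) Col.a (nat_lit 954) (Dv.wd (nat_lit 16) [Mv.f (nat_lit 3014), Mv.f (nat_lit 5091), Mv.f (nat_lit 5355)])))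
(Tr.nd (nat_lit 5358) (Tr.lf (Fc.ed (nat_lit 5357) (nat_lit 1232) Col.gi (nat_lit 1891) Dv.df))
(Tr.lf (Fc.ed (nat_lit 5358) (nat_lit 1891) Col.gi (nat_lit 913) (Dv.wd (nat_lit 24) [Mv.f (nat_lit 3549), Mv.b (nat_lit 3798), Mv.f (nat_lit 5357)]))))))))
(Tr.nd (nat_lit 5369) (Tr.nd (nat_lit 5364) (Tr.nd (nat_lit 5361) (Tr.nd (nat_lit 5360) (Tr.lf (Fc.ed (nat_lit 5359) (nat_lit 913) Col.gi (nat_lit 1892) Dv.df))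
(Tr.lf (Fc.ed (nat_lit 5360) (nat_lit 1892) Col.gi (nat_lit 1232) (Dv.wd (nat_lit 24) [Mv.b (nat_lit 3809), Mv.f (nat_lit 3808), Mv.f (nat_lit 5359)]))))
(Tr.nd (nat_lit 5362) (Tr.lf (Fc.ed (nat_lit 5361) (nat_lit 1075) Col.a (nat_lit 1893) Dv.df))
(Tr.nd (nat_lit 5363) (Tr.lf (Fc.ed (nat_lit 5362) (nat_lit 1890) Col.b (nat_lit 1894) Dv.df))
(Tr.lf (Fc.ed (nat_lit 5363) (nat_lit 1894) Col.f (nat_lit 1775) (Dv.wd (nat_lit 20) [Mv.b (nat_lit 5124), Mv.f (nat_lit 5355), Mv.f (nat_lit 5362)]))))))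
(Tr.nd (nat_lit 5366) (Tr.nd (nat_lit 5365) (Tr.lf (Fc.ed (nat_lit 5364) (nat_lit 911) Col.a (nat_lit 1895) Dv.df))
(Tr.lf (Fc.ed (nat_lit 5365) (nat_lit 1895) Col.c (nat_lit 1862) (Dv.wd (nat_lit 33) [Mv.f (nat_lit 5298), Mv.f (nat_lit 3095), Mv.f (nat_lit 5364)]))))
(Tr.nd (nat_lit 5367) (Tr.lf (Fc.ed (nat_lit 5366) (nat_lit 1895) Col.f (nat_lit 1107) (Dv.wd (nat_lit 35) [Mv.f (nat_lit 3416), Mv.f (nat_lit 2892), Mv.f (nat_lit 5364)])))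
(Tr.nd (nat_lit 5368) (Tr.lf (Fc.ed (nat_lit 5367) (nat_lit 1895) Col.b (nat_lit 1862) (Dv.wd (nat_lit 65) [Mv.f (nat_lit 5298), Mv.b (nat_lit 3093), Mv.b (nat_lit 1052), Mv.b (nat_lit 2893), Mv.f (nat_lit 5364)])))
(Tr.lf (Fc.ed (nat_lit 5368) (nat_lit 1054) Col.g (nat_lit 1896) Dv.df))))))
(Tr.nd (nat_lit 5374) (Tr.nd (nat_lit 5371) (Tr.nd (nat_lit 5370) (Tr.lf (Fc.ed (nat_lit 5369) (nat_lit 1896) Col.g (nat_lit 1631) (Dv.wd (nat_lit 9) [Mv.b (nat_lit 4785), Mv.b (nat_lit 3495), Mv.f (nat_lit 5368)])))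
(Tr.lf (Fc.ed (nat_lit 5370) (nat_lit 1496) Col.e (nat_lit 1897) Dv.df)))
(Tr.nd (nat_lit 5372) (Tr.lf (Fc.ed (nat_lit 5371) (nat_lit 1897) Col.a (nat_lit 1164) (Dv.wd (nat_lit 15) [Mv.f (nat_lit 3585), Mv.f (nat_lit 4489), Mv.f (nat_lit 5370)])))
(Tr.nd (nat_lit 5373) (Tr.lf (Fc.ed (nat_lit 5372) (nat_lit 1402) Col.a (nat_lit 1898) Dv.df))
(Tr.lf (Fc.ed (nat_lit 5373) (nat_lit 1853) Col.gi (nat_lit 1899) Dv.df)))))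
(Tr.nd (nat_lit 5377) (Tr.nd (nat_lit 5375) (Tr.lf (Fc.ed (nat_lit 5374) (nat_lit 1899) Col.d (nat_lit 1647) (Dv.wd (nat_lit 48) [Mv.f (nat_lit 4863), Mv.f (nat_lit 4864), Mv.f (nat_lit 4200), Mv.f (nat_lit 4201), Mv.b (nat_lit 3158), Mv.f (nat_lit 2364), Mv.b (nat_lit 4805), Mv.b (nat_lit 5283), Mv.f (nat_lit 5373)])))
(Tr.nd (nat_lit 5376) (Tr.lf (Fc.ed (nat_lit 5375) (nat_lit 1704) Col.f (nat_lit 1900) Dv.df))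
(Tr.lf (Fc.ed (nat_lit 5376) (nat_lit 1900) Col.a (nat_lit 1858) (Dv.wd (nat_lit 23) [Mv.f (nat_lit 5290), Mv.b (nat_lit 4950), Mv.f (nat_lit 5375)])))))
(Tr.nd (nat_lit 5378) (Tr.lf (Fc.ed (nat_lit 5377) (nat_lit 1681) Col.a (nat_lit 1901) Dv.df))
(Tr.nd (nat_lit 5379) (Tr.lf (Fc.ed (nat_lit 5378) (nat_lit 1683) Col.gi (nat_lit 1902) Dv.df))
(Tr.lf (Fc.ed (nat_lit 5379) (nat_lit 1051) Col.f (nat_lit 1903) Dv.df))))))))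
(Tr.nd (nat_lit 5400) (Tr.nd (nat_lit 5390) (Tr.nd (nat_lit 5385) (Tr.nd (nat_lit 5382) (Tr.nd (nat_lit 5381) (Tr.lf (Fc.ed (nat_lit 5380) (nat_lit 1730) Col.e (nat_lit 1904) Dv.df))
(Tr.lf (Fc.ed (nat_lit 5381) (nat_lit 1904) Col.a (nat_lit 1904) (Dv.wd (nat_lit 15) [Mv.b (nat_lit 5380), Mv.f (nat_lit 5017), Mv.f (nat_lit 5380)]))))
(Tr.nd (nat_lit 5383) (Tr.lf (Fc.ed (nat_lit 5382) (nat_lit 372) Col.b (nat_lit 1905) Dv.df))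
(Tr.nd (nat_lit 5384) (Tr.lf (Fc.ed (nat_lit 5383) (nat_lit 1905) Col.f (nat_lit 1870) (Dv.wd (nat_lit 20) [Mv.b (nat_lit 5315), Mv.f (nat_lit 2701), Mv.f (nat_lit 5382)])))
(Tr.lf (Fc.ed (nat_lit 5384) (nat_lit 1768) Col.d (nat_lit 1906) Dv.df)))))
(Tr.nd (nat_lit 5387) (Tr.nd (nat_lit 5386) (Tr.lf (Fc.ed (nat_lit 5385) (nat_lit 1906) Col.b (nat_lit 1109) (Dv.wd (nat_lit 37) [Mv.f (nat_lit 3423), Mv.f (nat_lit 5108), Mv.f (nat_lit 5384)])))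
(Tr.lf (Fc.ed (nat_lit 5386) (nat_lit 1649) Col.c (nat_lit 1907) Dv.df)))
(Tr.nd (nat_lit 5388) (Tr.lf (Fc.ed (nat_lit 5387) (nat_lit 1907) Col.e (nat_lit 1114) (Dv.wd (nat_lit 25) [Mv.b (nat_lit 3437), Mv.f (nat_lit 4819), Mv.f (nat_lit 5386)])))
(Tr.nd (nat_lit 5389) (Tr.lf (Fc.ed (nat_lit 5388) (nat_lit 840) Col.gi (nat_lit 1908) Dv.df))
(Tr.lf (Fc.ed (nat_lit 5389) (nat_lit 1073) Col.a (nat_lit 1909) Dv.df))))))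
(Tr.nd (nat_lit 5395) (Tr.nd (nat_lit 5392) (Tr.nd (nat_lit 5391) (Tr.lf (Fc.ed (nat_lit 5390) (nat_lit 1909) Col.f (nat_lit 1127) (Dv.wd (nat_lit 10) [Mv.b (nat_lit 3470), Mv.f (nat_lit 3320), Mv.f (nat_lit 5389)])))
(Tr.lf (Fc.ed (nat_lit 5391) (nat_lit 1203) Col.a (nat_lit 1910) Dv.df)))
(Tr.nd (nat_lit 5393) (Tr.lf (Fc.ed (nat_lit 5392) (nat_lit 1910) Col.d (nat_lit 1895) (Dv.wd (nat_lit 28) [Mv.b (nat_lit 5364), Mv.f (nat_lit 3704), Mv.f (nat_lit 5391)])))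
(Tr.nd (nat_lit 5394) (Tr.lf (Fc.ed (nat_lit 5393) (nat_lit 1910) Col.f (nat_lit 1843) (Dv.wd (nat_lit 35) [Mv.f (nat_lit 5258), Mv.f (nat_lit 3987), Mv.f (nat_lit 5391)])))
(Tr.lf (Fc.ed (nat_lit 5394) (nat_lit 1901) Col.g (nat_lit 1911) Dv.df)))))
(Tr.nd (nat_lit 5397) (Tr.nd (nat_lit 5396) (Tr.lf (Fc.ed (nat_lit 5395) (nat_lit 1501) Col.d (nat_lit 1912) Dv.df))
(Tr.lf (Fc.ed (nat_lit 5396) (nat_lit 1912) Col.b (nat_lit 1545) (Dv.wd (nat_lit 37) [Mv.f (nat_lit 4593), Mv.f (nat_lit 4500), Mv.f (nat_lit 5395)]))))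
(Tr.nd (nat_lit 5398) (Tr.lf (Fc.ed (nat_lit 5397) (nat_lit 1912) Col.e (nat_lit 1393) (Dv.wd (nat_lit 42) [Mv.b (nat_lit 4225), Mv.f (nat_lit 2453), Mv.b (nat_lit 4337), Mv.b (nat_lit 4501), Mv.f (nat_lit 5395)])))
(Tr.nd (nat_lit 5399) (Tr.lf (Fc.ed (nat_lit 5398) (nat_lit 1787) Col.d (nat_lit 1913) Dv.df))
(Tr.lf (Fc.ed (nat_lit 5399) (nat_lit 1855) Col.b (nat_lit 1914) Dv.df)))))))
(Tr.nd (nat_lit 5410) (Tr.nd (nat_lit 5405) (Tr.nd (nat_lit 5402) (Tr.nd (nat_lit 5401) (Tr.lf (Fc.ed (nat_lit 5400) (nat_lit 1914) Col.gi (nat_lit 843) (Dv.wd (nat_lit 100) [Mv.f (nat_lit 2411), Mv.b (nat_lit 1695), Mv.f (nat_lit 1040), Mv.b (nat_lit 1701), Mv.b (nat_lit 1117), Mv.f (nat_lit 1928), Mv.f (nat_lit 1930), Mv.b (nat_lit 4611), Mv.f (nat_lit 5285), Mv.f (nat_lit 5399)])))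
(Tr.lf (Fc.ed (nat_lit 5401) (nat_lit 1437) Col.a (nat_lit 1915) Dv.df)))
(Tr.nd (nat_lit 5403) (Tr.lf (Fc.ed (nat_lit 5402) (nat_lit 1915) Col.c (nat_lit 1249) (Dv.wd (nat_lit 33) [Mv.b (nat_lit 4304), Mv.f (nat_lit 4339), Mv.f (nat_lit 5401)])))
(Tr.nd (nat_lit 5404) (Tr.lf (Fc.ed (nat_lit 5403) (nat_lit 927) Col.f (nat_lit 1916) Dv.df))
(Tr.lf (Fc.ed (nat_lit 5404) (nat_lit 1916) Col.a (nat_lit 1246) (Dv.wd (nat_lit 16) [Mv.f (nat_lit 4740), Mv.f (nat_lit 4741), Mv.f (nat_lit 5403)]))))))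
(Tr.nd (nat_lit 5407) (Tr.nd (nat_lit 5406) (Tr.lf (Fc.ed (nat_lit 5405) (nat_lit 1876) Col.gi (nat_lit 1917) Dv.df))
(Tr.lf (Fc.ed (nat_lit 5406) (nat_lit 1917) Col.gi (nat_lit 884) (Dv.wd (nat_lit 24) [Mv.f (nat_lit 2841), Mv.f (nat_lit 5326), Mv.f (nat_lit 5405)]))))
(Tr.nd (nat_lit 5408) (Tr.lf (Fc.ed (nat_lit 5407) (nat_lit 1862) Col.g (nat_lit 1918) Dv.df))
(Tr.nd (nat_lit 5409) (Tr.lf (Fc.ed (nat_lit 5408) (nat_lit 1918) Col.g (nat_lit 937) (Dv.wd (nat_lit 9) [Mv.f (nat_lit 3064), Mv.f (nat_lit 5297), Mv.f (nat_lit 5407)])))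
(Tr.lf (Fc.ed (nat_lit 5409) (nat_lit 1802) Col.g (nat_lit 1919) Dv.df))))))
(Tr.nd (nat_lit 5415) (Tr.nd (nat_lit 5412) (Tr.nd (nat_lit 5411) (Tr.lf (Fc.ed (nat_lit 5410) (nat_lit 1919) Col.g (nat_lit 861) (Dv.wd (nat_lit 9) [Mv.f (nat_lit 4292), Mv.f (nat_lit 5173), Mv.f (nat_lit 5409)])))
(Tr.lf (Fc.ed (nat_lit 5411) (nat_lit 1081) Col.c (nat_lit 1920) Dv.df)))
(Tr.nd (nat_lit 5413) (Tr.lf (Fc.ed (nat_lit 5412) (nat_lit 1920) Col.f (nat_lit 966) (Dv.wd (nat_lit 26) [Mv.b (nat_lit 3044), Mv.f (nat_lit 3339), Mv.f (nat_lit 5411)])))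
(Tr.nd (nat_lit 5414) (Tr.lf (Fc.ed (nat_lit 5413) (nat_lit 1639) Col.f (nat_lit 1921) Dv.df))
(Tr.lf (Fc.ed (nat_lit 5414) (nat_lit 1921) Col.a (nat_lit 1859) (Dv.wd (nat_lit 23) [Mv.f (nat_lit 5292), Mv.b (nat_lit 4801), Mv.f (nat_lit 5413)]))))))
(Tr.nd (nat_lit 5418) (Tr.nd (nat_lit 5416) (Tr.lf (Fc.ed (nat_lit 5415) (nat_lit 977) Col.d (nat_lit 1922) Dv.df))
(Tr.nd (nat_lit 5417) (Tr.lf (Fc.ed (nat_lit 5416) (nat_lit 1922) Col.a (nat_lit 1484) (Dv.wd (nat_lit 8) [Mv.b (nat_lit 4467), Mv.b (nat_lit 3066), Mv.f (nat_lit 5415)])))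
(Tr.lf (Fc.ed (nat_lit 5417) (nat_lit 1922) Col.f (nat_lit 1662) (Dv.wd (nat_lit 11) [Mv.b (nat_lit 4854), Mv.f (nat_lit 3065), Mv.f (nat_lit 5415)])))))
(Tr.nd (nat_lit 5419) (Tr.lf (Fc.ed (nat_lit 5418) (nat_lit 1750) Col.a (nat_lit 1923) Dv.df))
(Tr.nd (nat_lit 5420) (Tr.lf (Fc.ed (nat_lit 5419) (nat_lit 1923) Col.d (nat_lit 1923) (Dv.wd (nat_lit 28) [Mv.b (nat_lit 5418), Mv.f (nat_lit 5067), Mv.f (nat_lit 5418)])))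
(Tr.lf (Fc.ed (nat_lit 5420) (nat_lit 1923) Col.e (nat_lit 1020) (Dv.wd (nat_lit 56) [Mv.f (nat_lit 3188), Mv.b (nat_lit 5068), Mv.f (nat_lit 5418)])))))))))))
(Tr.nd (nat_lit 5503) (Tr.nd (nat_lit 5462) (Tr.nd (nat_lit 5441) (Tr.nd (nat_lit 5431) (Tr.nd (nat_lit 5426) (Tr.nd (nat_lit 5423) (Tr.nd (nat_lit 5422) (Tr.lf (Fc.ed (nat_lit 5421) (nat_lit 998) Col.b (nat_lit 1924) Dv.df))
(Tr.lf (Fc.ed (nat_lit 5422) (nat_lit 1580) Col.f (nat_lit 1925) Dv.df)))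
(Tr.nd (nat_lit 5424) (Tr.lf (Fc.ed (nat_lit 5423) (nat_lit 1925) Col.a (nat_lit 993) (Dv.wd (nat_lit 16) [Mv.b (nat_lit 3183), Mv.f (nat_lit 4676), Mv.f (nat_lit 5422)])))
(Tr.nd (nat_lit 5425) (Tr.lf (Fc.ed (nat_lit 5424) (nat_lit 1925) Col.d (nat_lit 1863) (Dv.wd (nat_lit 21) [Mv.f (nat_lit 5300), Mv.b (nat_lit 4677), Mv.f (nat_lit 5422)])))
(Tr.lf (Fc.ed (nat_lit 5425) (nat_lit 1877) Col.d (nat_lit 1926) Dv.df)))))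
(Tr.nd (nat_lit 5428) (Tr.nd (nat_lit 5427) (Tr.lf (Fc.ed (nat_lit 5426) (nat_lit 1926) Col.b (nat_lit 1154) (Dv.wd (nat_lit 37) [Mv.f (nat_lit 3559), Mv.f (nat_lit 5327), Mv.f (nat_lit 5425)])))
(Tr.lf (Fc.ed (nat_lit 5427) (nat_lit 1769) Col.e (nat_lit 1927) Dv.df)))
(Tr.nd (nat_lit 5429) (Tr.lf (Fc.ed (nat_lit 5428) (nat_lit 1927) Col.a (nat_lit 1602) (Dv.wd (nat_lit 15) [Mv.b (nat_lit 4711), Mv.b (nat_lit 5111), Mv.f (nat_lit 5427)])))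
(Tr.nd (nat_lit 5430) (Tr.lf (Fc.ed (nat_lit 5429) (nat_lit 1927) Col.b (nat_lit 1927) (Dv.wd (nat_lit 49) [Mv.b (nat_lit 5427), Mv.f (nat_lit 5112), Mv.f (nat_lit 5427)])))
(Tr.lf (Fc.ed (nat_lit 5430) (nat_lit 1927) Col.f (nat_lit 1343) (Dv.wd (nat_lit 96) [Mv.b (nat_lit 4053), Mv.b (nat_lit 2236), Mv.f (nat_lit 4819), Mv.f (nat_lit 5110), Mv.f (nat_lit 5427)])))))))
(Tr.nd (nat_lit 5436) (Tr.nd (nat_lit 5433) (Tr.nd (nat_lit 5432) (Tr.lf (Fc.ed (nat_lit 5431) (nat_lit 1317) Col.f (nat_lit 1928) Dv.df))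
(Tr.lf (Fc.ed (nat_lit 5432) (nat_lit 1928) Col.e (nat_lit 1766) (Dv.wd (nat_lit 22) [Mv.b (nat_lit 5106), Mv.b (nat_lit 3571), Mv.b (nat_lit 2951), Mv.b (nat_lit 3994), Mv.f (nat_lit 5431)]))))
(Tr.nd (nat_lit 5434) (Tr.lf (Fc.ed (nat_lit 5433) (nat_lit 1821) Col.b (nat_lit 1929) Dv.df))
(Tr.nd (nat_lit 5435) (Tr.lf (Fc.ed (nat_lit 5434) (nat_lit 1929) Col.c (nat_lit 1902) (Dv.wd (nat_lit 135) [Mv.b (nat_lit 5378), Mv.b (nat_lit 4902), Mv.b (nat_lit 3597), Mv.b (nat_lit 1104), Mv.b (nat_lit 899), Mv.b (nat_lit 1102), Mv.f (nat_lit 788), Mv.b (nat_lit 2281), Mv.b (nat_lit 5213), Mv.f (nat_lit 5433)])))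
(Tr.lf (Fc.ed (nat_lit 5435) (nat_lit 689) Col.gi (nat_lit 1930) Dv.df)))))
(Tr.nd (nat_lit 5438) (Tr.nd (nat_lit 5437) (Tr.lf (Fc.ed (nat_lit 5436) (nat_lit 1930) Col.gi (nat_lit 1394) (Dv.wd (nat_lit 24) [Mv.b (nat_lit 4238), Mv.b (nat_lit 4235), Mv.f (nat_lit 5435)])))
(Tr.lf (Fc.ed (nat_lit 5437) (nat_lit 1700) Col.f (nat_lit 1931) Dv.df)))
(Tr.nd (nat_lit 5439) (Tr.lf (Fc.ed (nat_lit 5438) (nat_lit 1406) Col.d (nat_lit 1932) Dv.df))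
(Tr.nd (nat_lit 5440) (Tr.lf (Fc.ed (nat_lit 5439) (nat_lit 1932) Col.e (nat_lit 1219) (Dv.wd (nat_lit 42) [Mv.b (nat_lit 3757), Mv.f (nat_lit 3749), Mv.f (nat_lit 4019), Mv.b (nat_lit 4261), Mv.f (nat_lit 5438)])))
(Tr.lf (Fc.ed (nat_lit 5440) (nat_lit 1785) Col.gi (nat_lit 1933) Dv.df)))))))
(Tr.nd (nat_lit 5451) (Tr.nd (nat_lit 5446) (Tr.nd (nat_lit 5443) (Tr.nd (nat_lit 5442) (Tr.lf (Fc.ed (nat_lit 5441) (nat_lit 1933) Col.d (nat_lit 1492) (Dv.wd (nat_lit 48) [Mv.f (nat_lit 4549), Mv.f (nat_lit 4550), Mv.b (nat_lit 4031), Mv.f (nat_lit 4028), Mv.f (nat_lit 2062), Mv.f (nat_lit 4113), Mv.b (nat_lit 4864), Mv.b (nat_lit 5142), Mv.f (nat_lit 5440)])))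
(Tr.lf (Fc.ed (nat_lit 5442) (nat_lit 1777) Col.g (nat_lit 1933) (Dv.wd (nat_lit 69) [Mv.f (nat_lit 5441), Mv.b (nat_lit 4480), Mv.b (nat_lit 3598), Mv.b (nat_lit 4637), Mv.f (nat_lit 4951), Mv.f (nat_lit 4953), Mv.b (nat_lit 4817), Mv.b (nat_lit 4816), Mv.f (nat_lit 5127)]))))
(Tr.nd (nat_lit 5444) (Tr.lf (Fc.ed (nat_lit 5443) (nat_lit 1402) Col.f (nat_lit 1934) Dv.df))
(Tr.nd (nat_lit 5445) (Tr.lf (Fc.ed (nat_lit 5444) (nat_lit 1934) Col.b (nat_lit 1344) (Dv.wd (nat_lit 66) [Mv.b (nat_lit 4094), Mv.f (nat_lit 4248), Mv.f (nat_lit 5443)])))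
(Tr.lf (Fc.ed (nat_lit 5445) (nat_lit 435) Col.c (nat_lit 1935) Dv.df)))))
(Tr.nd (nat_lit 5448) (Tr.nd (nat_lit 5447) (Tr.lf (Fc.ed (nat_lit 5446) (nat_lit 1935) Col.a (nat_lit 1617) (Dv.wd (nat_lit 19) [Mv.b (nat_lit 4750), Mv.b (nat_lit 1373), Mv.f (nat_lit 5445)])))
(Tr.lf (Fc.ed (nat_lit 5447) (nat_lit 1935) Col.f (nat_lit 1825) (Dv.wd (nat_lit 26) [Mv.b (nat_lit 5219), Mv.b (nat_lit 2653), Mv.f (nat_lit 5445)]))))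
(Tr.nd (nat_lit 5449) (Tr.lf (Fc.ed (nat_lit 5448) (nat_lit 1826) Col.gi (nat_lit 1936) Dv.df))
(Tr.nd (nat_lit 5450) (Tr.lf (Fc.ed (nat_lit 5449) (nat_lit 1936) Col.gi (nat_lit 420) (Dv.wd (nat_lit 24) [Mv.f (nat_lit 3496), Mv.b (nat_lit 5222), Mv.f (nat_lit 5448)])))
(Tr.lf (Fc.ed (nat_lit 5450) (nat_lit 1697) Col.g (nat_lit 1937) Dv.df))))))
(Tr.nd (nat_lit 5456) (Tr.nd (nat_lit 5453) (Tr.nd (nat_lit 5452) (Tr.lf (Fc.ed (nat_lit 5451) (nat_lit 1783) Col.d (nat_lit 1938) Dv.df))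
(Tr.lf (Fc.ed (nat_lit 5452) (nat_lit 1938) Col.c (nat_lit 1913) (Dv.wd (nat_lit 80) [Mv.b (nat_lit 5398), Mv.b (nat_lit 5146), Mv.b (nat_lit 4406), Mv.f (nat_lit 4229), Mv.f (nat_lit 4406), Mv.f (nat_lit 4408), Mv.b (nat_lit 3253), Mv.b (nat_lit 5137), Mv.f (nat_lit 5451)]))))
(Tr.nd (nat_lit 5454) (Tr.lf (Fc.ed (nat_lit 5453) (nat_lit 1544) Col.b (nat_lit 1939) Dv.df))
(Tr.nd (nat_lit 5455) (Tr.lf (Fc.ed (nat_lit 5454) (nat_lit 1115) Col.f (nat_lit 1940) Dv.df))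
(Tr.lf (Fc.ed (nat_lit 5455) (nat_lit 1940) Col.d (nat_lit 1226) (Dv.wd (nat_lit 21) [Mv.b (nat_lit 3779), Mv.f (nat_lit 3439), Mv.f (nat_lit 5454)]))))))
(Tr.nd (nat_lit 5459) (Tr.nd (nat_lit 5457) (Tr.lf (Fc.ed (nat_lit 5456) (nat_lit 1537) Col.f (nat_lit 1941) Dv.df))
(Tr.nd (nat_lit 5458) (Tr.lf (Fc.ed (nat_lit 5457) (nat_lit 1941) Col.b (nat_lit 1295) (Dv.wd (nat_lit 66) [Mv.b (nat_lit 4087), Mv.b (nat_lit 4578), Mv.f (nat_lit 5456)])))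
(Tr.lf (Fc.ed (nat_lit 5458) (nat_lit 1941) Col.d (nat_lit 1586) (Dv.wd (nat_lit 21) [Mv.f (nat_lit 4724), Mv.b (nat_lit 4722), Mv.f (nat_lit 5456)])))))
(Tr.nd (nat_lit 5460) (Tr.lf (Fc.ed (nat_lit 5459) (nat_lit 1941) Col.e (nat_lit 1934) (Dv.wd (nat_lit 22) [Mv.b (nat_lit 5443), Mv.f (nat_lit 4249), Mv.b (nat_lit 4040), Mv.f (nat_lit 4577), Mv.f (nat_lit 5456)])))
(Tr.nd (nat_lit 5461) (Tr.lf (Fc.ed (nat_lit 5460) (nat_lit 1896) Col.b (nat_lit 1942) Dv.df))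
(Tr.lf (Fc.ed (nat_lit 5461) (nat_lit 1890) Col.gi (nat_lit 1943) Dv.df))))))))
(Tr.nd (nat_lit 5482) (Tr.nd (nat_lit 5472) (Tr.nd (nat_lit 5467) (Tr.nd (nat_lit 5464) (Tr.nd (nat_lit 5463) (Tr.lf (Fc.ed (nat_lit 5462) (nat_lit 1943) Col.gi (nat_lit 890) (Dv.wd (nat_lit 24) [Mv.b (nat_lit 3014), Mv.b (nat_lit 5356), Mv.f (nat_lit 5461)])))
(Tr.lf (Fc.ed (nat_lit 5463) (nat_lit 1044) Col.a (nat_lit 1944) Dv.df)))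
(Tr.nd (nat_lit 5465) (Tr.lf (Fc.ed (nat_lit 5464) (nat_lit 1944) Col.e (nat_lit 1560) (Dv.wd (nat_lit 56) [Mv.b (nat_lit 4626), Mv.b (nat_lit 3242), Mv.f (nat_lit 5463)])))
(Tr.nd (nat_lit 5466) (Tr.lf (Fc.ed (nat_lit 5465) (nat_lit 1791) Col.gi (nat_lit 1945) Dv.df))
(Tr.lf (Fc.ed (nat_lit 5466) (nat_lit 1945) Col.c (nat_lit 1430) (Dv.wd (nat_lit 94) [Mv.b (nat_lit 4322), Mv.f (nat_lit 4305), Mv.f (nat_lit 3036), Mv.f (nat_lit 3396), Mv.f (nat_lit 3397), Mv.b (nat_lit 4412), Mv.b (nat_lit 5086), Mv.f (nat_lit 5084), Mv.f (nat_lit 5156), Mv.f (nat_lit 5465)]))))))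
(Tr.nd (nat_lit 5469) (Tr.nd (nat_lit 5468) (Tr.lf (Fc.ed (nat_lit 5467) (nat_lit 1804) Col.g (nat_lit 1946) Dv.df))
(Tr.lf (Fc.ed (nat_lit 5468) (nat_lit 1946) Col.g (nat_lit 905) (Dv.wd (nat_lit 9) [Mv.f (nat_lit 4626), Mv.f (nat_lit 5175), Mv.f (nat_lit 5467)]))))
(Tr.nd (nat_lit 5470) (Tr.lf (Fc.ed (nat_lit 5469) (nat_lit 1945) Col.gi (nat_lit 1947) Dv.df))
(Tr.nd (nat_lit 5471) (Tr.lf (Fc.ed (nat_lit 5470) (nat_lit 1947) Col.c (nat_lit 1584) (Dv.wd (nat_lit 81) [Mv.b (nat_lit 4686), Mv.b (nat_lit 4410), Mv.b (nat_lit 3736), Mv.b (nat_lit 3737), Mv.b (nat_lit 3659), Mv.f (nat_lit 2117), Mv.f (nat_lit 4319), Mv.b (nat_lit 5466), Mv.f (nat_lit 5469)])))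
(Tr.lf (Fc.ed (nat_lit 5471) (nat_lit 1844) Col.e (nat_lit 1948) Dv.df))))))
(Tr.nd (nat_lit 5477) (Tr.nd (nat_lit 5474) (Tr.nd (nat_lit 5473) (Tr.lf (Fc.ed (nat_lit 5472) (nat_lit 1354) Col.e (nat_lit 1949) Dv.df))
(Tr.lf (Fc.ed (nat_lit 5473) (nat_lit 1949) Col.gi (nat_lit 1714) (Dv.wd (nat_lit 132) [Mv.b (nat_lit 4980), Mv.b (nat_lit 4762), Mv.b (nat_lit 4975), Mv.f (nat_lit 4974), Mv.b (nat_lit 3867), Mv.f (nat_lit 3541), Mv.b (nat_lit 3457), Mv.b (nat_lit 3595), Mv.b (nat_lit 4134), Mv.f (nat_lit 5472)]))))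
(Tr.nd (nat_lit 5475) (Tr.lf (Fc.ed (nat_lit 5474) (nat_lit 1719) Col.d (nat_lit 1950) Dv.df))
(Tr.nd (nat_lit 5476) (Tr.lf (Fc.ed (nat_lit 5475) (nat_lit 1950) Col.b (nat_lit 798) (Dv.wd (nat_lit 37) [Mv.b (nat_lit 2307), Mv.b (nat_lit 4995), Mv.f (nat_lit 5474)])))
(Tr.lf (Fc.ed (nat_lit 5476) (nat_lit 1638) Col.a (nat_lit 1951) Dv.df)))))
(Tr.nd (nat_lit 5479) (Tr.nd (nat_lit 5478) (Tr.lf (Fc.ed (nat_lit 5477) (nat_lit 1951) Col.f (nat_lit 1517) (Dv.wd (nat_lit 10) [Mv.b (nat_lit 4533), Mv.b (nat_lit 4799), Mv.f (nat_lit 5476)])))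
(Tr.lf (Fc.ed (nat_lit 5478) (nat_lit 1753) Col.e (nat_lit 1952) Dv.df)))
(Tr.nd (nat_lit 5480) (Tr.lf (Fc.ed (nat_lit 5479) (nat_lit 1952) Col.d (nat_lit 1884) (Dv.wd (nat_lit 59) [Mv.b (nat_lit 5344), Mv.b (nat_lit 5192), Mv.b (nat_lit 5013), Mv.f (nat_lit 5073), Mv.f (nat_lit 5478)])))
(Tr.nd (nat_lit 5481) (Tr.lf (Fc.ed (nat_lit 5480) (nat_lit 1289) Col.a (nat_lit 1953) Dv.df))
(Tr.lf (Fc.ed (nat_lit 5481) (nat_lit 1945) Col.d (nat_lit 1954) Dv.df)))))))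
(Tr.nd (nat_lit 5492) (Tr.nd (nat_lit 5487) (Tr.nd (nat_lit 5484) (Tr.nd (nat_lit 5483) (Tr.lf (Fc.ed (nat_lit 5482) (nat_lit 1954) Col.c (nat_lit 1899) (Dv.wd (nat_lit 80) [Mv.f (nat_lit 5374), Mv.f (nat_lit 4817), Mv.b (nat_lit 4389), Mv.f (nat_lit 3555), Mv.b (nat_lit 4201), Mv.b (nat_lit 4202), Mv.b (nat_lit 4320), Mv.b (nat_lit 5466), Mv.f (nat_lit 5481)])))
(Tr.lf (Fc.ed (nat_lit 5483) (nat_lit 1616) Col.b (nat_lit 1955) Dv.df)))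
(Tr.nd (nat_lit 5485) (Tr.lf (Fc.ed (nat_lit 5484) (nat_lit 1938) Col.f (nat_lit 1956) Dv.df))
(Tr.nd (nat_lit 5486) (Tr.lf (Fc.ed (nat_lit 5485) (nat_lit 1956) Col.d (nat_lit 1723) (Dv.wd (nat_lit 21) [Mv.f (nat_lit 5138), Mv.f (nat_lit 5451), Mv.f (nat_lit 5484)])))
(Tr.lf (Fc.ed (nat_lit 5486) (nat_lit 1956) Col.a (nat_lit 1913) (Dv.wd (nat_lit 46) [Mv.b (nat_lit 5452), Mv.b (nat_lit 5451), Mv.f (nat_lit 5137), Mv.f (nat_lit 2948), Mv.f (nat_lit 2026), Mv.b (nat_lit 2948), Mv.b (nat_lit 5137), Mv.f (nat_lit 5451), Mv.f (nat_lit 5484)]))))))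
(Tr.nd (nat_lit 5489) (Tr.nd (nat_lit 5488) (Tr.lf (Fc.ed (nat_lit 5487) (nat_lit 1938) Col.b (nat_lit 1956) (Dv.wd (nat_lit 126) [Mv.f (nat_lit 5485), Mv.f (nat_lit 5136), Mv.f (nat_lit 5451)])))
(Tr.lf (Fc.ed (nat_lit 5488) (nat_lit 1647) Col.f (nat_lit 1957) Dv.df)))
(Tr.nd (nat_lit 5490) (Tr.lf (Fc.ed (nat_lit 5489) (nat_lit 1957) Col.c (nat_lit 1761) (Dv.wd (nat_lit 34) [Mv.f (nat_lit 5096), Mv.b (nat_lit 4817), Mv.f (nat_lit 5488)])))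
(Tr.nd (nat_lit 5491) (Tr.lf (Fc.ed (nat_lit 5490) (nat_lit 1957) Col.a (nat_lit 1471) (Dv.wd (nat_lit 23) [Mv.f (nat_lit 4437), Mv.f (nat_lit 4816), Mv.f (nat_lit 5488)])))
(Tr.lf (Fc.ed (nat_lit 5491) (nat_lit 1915) Col.g (nat_lit 1957) (Dv.wd (nat_lit 77) [Mv.f (nat_lit 5489), Mv.b (nat_lit 5093), Mv.f (nat_lit 3307), Mv.b (nat_lit 3257), Mv.f (nat_lit 1899), Mv.f (nat_lit 1900), Mv.f (nat_lit 4493), Mv.b (nat_lit 4497), Mv.b (nat_lit 5402)])))))))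
(Tr.nd (nat_lit 5497) (Tr.nd (nat_lit 5494) (Tr.nd (nat_lit 5493) (Tr.lf (Fc.ed (nat_lit 5492) (nat_lit 1454) Col.d (nat_lit 1958) Dv.df))
(Tr.lf (Fc.ed (nat_lit 5493) (nat_lit 1958) Col.a (nat_lit 1266) (Dv.wd (nat_lit 8) [Mv.b (nat_lit 3874), Mv.f (nat_lit 4398), Mv.f (nat_lit 5492)]))))
(Tr.nd (nat_lit 5495) (Tr.lf (Fc.ed (nat_lit 5494) (nat_lit 976) Col.g (nat_lit 1959) Dv.df))
(Tr.nd (nat_lit 5496) (Tr.lf (Fc.ed (nat_lit 5495) (nat_lit 1959) Col.g (nat_lit 987) (Dv.wd (nat_lit 9) [Mv.b (nat_lit 5298), Mv.b (nat_lit 5297), Mv.f (nat_lit 5494)])))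
(Tr.lf (Fc.ed (nat_lit 5496) (nat_lit 1672) Col.g (nat_lit 1960) Dv.df)))))
(Tr.nd (nat_lit 5500) (Tr.nd (nat_lit 5498) (Tr.lf (Fc.ed (nat_lit 5497) (nat_lit 1960) Col.g (nat_lit 926) (Dv.wd (nat_lit 9) [Mv.f (nat_lit 2943), Mv.f (nat_lit 4880), Mv.f (nat_lit 5496)])))
(Tr.nd (nat_lit 5499) (Tr.lf (Fc.ed (nat_lit 5498) (nat_lit 1955) Col.c (nat_lit 1961) Dv.df))
(Tr.lf (Fc.ed (nat_lit 5499) (nat_lit 1961) Col.g (nat_lit 993) (Dv.wd (nat_lit 123) [Mv.b (nat_lit 3385), Mv.b (nat_lit 3383), Mv.b (nat_lit 2309), Mv.f (nat_lit 2311), Mv.f (nat_lit 1241), Mv.f (nat_lit 1436), Mv.b (nat_lit 2208), Mv.b (nat_lit 4749), Mv.f (nat_lit 5483), Mv.f (nat_lit 5498)])))))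
(Tr.nd (nat_lit 5501) (Tr.lf (Fc.ed (nat_lit 5500) (nat_lit 1580) Col.g (nat_lit 1961) (Dv.wd (nat_lit 17) [Mv.f (nat_lit 5499), Mv.b (nat_lit 5423), Mv.b (nat_lit 5422)])))
(Tr.nd (nat_lit 5502) (Tr.lf (Fc.ed (nat_lit 5501) (nat_lit 731) Col.e (nat_lit 1962) Dv.df))
(Tr.lf (Fc.ed (nat_lit 5502) (nat_lit 995) Col.gi (nat_lit 1963) Dv.df)))))))))
(Tr.nd (nat_lit 5544) (Tr.nd (nat_lit 5523) (Tr.nd (nat_lit 5513) (Tr.nd (nat_lit 5508) (Tr.nd (nat_lit 5505) (Tr.nd (nat_lit 5504) (Tr.lf (Fc.ed (nat_lit 5503) (nat_lit 1963) Col.gi (nat_lit 1058) (Dv.wd (nat_lit 24) [Mv.f (nat_lit 3278), Mv.b (nat_lit 3124), Mv.f (nat_lit 5502)])))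
(Tr.lf (Fc.ed (nat_lit 5504) (nat_lit 1243) Col.e (nat_lit 1964) Dv.df)))
(Tr.nd (nat_lit 5506) (Tr.lf (Fc.ed (nat_lit 5505) (nat_lit 1964) Col.b (nat_lit 1113) (Dv.wd (nat_lit 49) [Mv.b (nat_lit 3434), Mv.f (nat_lit 3824), Mv.f (nat_lit 5504)])))
(Tr.nd (nat_lit 5507) (Tr.lf (Fc.ed (nat_lit 5506) (nat_lit 1964) Col.d (nat_lit 1964) (Dv.wd (nat_lit 59) [Mv.b (nat_lit 5504), Mv.f (nat_lit 3992), Mv.f (nat_lit 3969), Mv.b (nat_lit 3992), Mv.f (nat_lit 5504)])))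
(Tr.lf (Fc.ed (nat_lit 5507) (nat_lit 1264) Col.gi (nat_lit 1965) Dv.df)))))
(Tr.nd (nat_lit 5510) (Tr.nd (nat_lit 5509) (Tr.lf (Fc.ed (nat_lit 5508) (nat_lit 1965) Col.gi (nat_lit 1409) (Dv.wd (nat_lit 24) [Mv.b (nat_lit 4266), Mv.f (nat_lit 3871), Mv.f (nat_lit 5507)])))
(Tr.lf (Fc.ed (nat_lit 5509) (nat_lit 1965) Col.d (nat_lit 1752) (Dv.wd (nat_lit 53) [Mv.b (nat_lit 5072), Mv.f (nat_lit 4639), Mv.f (nat_lit 2094), Mv.b (nat_lit 786), Mv.f (nat_lit 1099), Mv.f (nat_lit 1106), Mv.f (nat_lit 881), Mv.f (nat_lit 3683), Mv.b (nat_lit 4721), Mv.f (nat_lit 5507)]))))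
(Tr.nd (nat_lit 5511) (Tr.lf (Fc.ed (nat_lit 5510) (nat_lit 498) Col.d (nat_lit 1966) Dv.df))
(Tr.nd (nat_lit 5512) (Tr.lf (Fc.ed (nat_lit 5511) (nat_lit 1383) Col.c (nat_lit 1967) Dv.df))
(Tr.lf (Fc.ed (nat_lit 5512) (nat_lit 1967) Col.a (nat_lit 1792) (Dv.wd (nat_lit 19) [Mv.b (nat_lit 5157), Mv.f (nat_lit 4494), Mv.f (nat_lit 5511)])))))))
(Tr.nd (nat_lit 5518) (Tr.nd (nat_lit 5515) (Tr.nd (nat_lit 5514) (Tr.lf (Fc.ed (nat_lit 5513) (nat_lit 1967) Col.gi (nat_lit 1791) (Dv.wd (nat_lit 78) [Mv.b (nat_lit 5156), Mv.b (nat_lit 5098), Mv.b (nat_lit 5093), Mv.b (nat_lit 3915), Mv.f (nat_lit 3941), Mv.f (nat_lit 3942), Mv.f (nat_lit 3555), Mv.b (nat_lit 4201), Mv.f (nat_lit 5511)])))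
(Tr.lf (Fc.ed (nat_lit 5514) (nat_lit 1967) Col.g (nat_lit 1947) (Dv.wd (nat_lit 105) [Mv.f (nat_lit 5470), Mv.f (nat_lit 5334), Mv.b (nat_lit 5331), Mv.f (nat_lit 4128), Mv.b (nat_lit 3463), Mv.f (nat_lit 3462), Mv.b (nat_lit 3445), Mv.b (nat_lit 4115), Mv.f (nat_lit 4200), Mv.f (nat_lit 5511)]))))
(Tr.nd (nat_lit 5516) (Tr.lf (Fc.ed (nat_lit 5515) (nat_lit 1008) Col.e (nat_lit 1968) Dv.df))
(Tr.nd (nat_lit 5517) (Tr.lf (Fc.ed (nat_lit 5516) (nat_lit 1968) Col.a (nat_lit 1835) (Dv.wd (nat_lit 15) [Mv.f (nat_lit 5240), Mv.f (nat_lit 3164), Mv.f (nat_lit 5515)])))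
(Tr.lf (Fc.ed (nat_lit 5517) (nat_lit 1968) Col.c (nat_lit 1679) (Dv.wd (nat_lit 18) [Mv.f (nat_lit 4897), Mv.b (nat_lit 3163), Mv.f (nat_lit 5515)]))))))
(Tr.nd (nat_lit 5520) (Tr.nd (nat_lit 5519) (Tr.lf (Fc.ed (nat_lit 5518) (nat_lit 1696) Col.b (nat_lit 1969) Dv.df))
(Tr.lf (Fc.ed (nat_lit 5519) (nat_lit 1969) Col.e (nat_lit 1431) (Dv.wd (nat_lit 52) [Mv.b (nat_lit 4324), Mv.f (nat_lit 4932), Mv.f (nat_lit 5518)]))))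
(Tr.nd (nat_lit 5521) (Tr.lf (Fc.ed (nat_lit 5520) (nat_lit 1000) Col.b (nat_lit 1970) Dv.df))
(Tr.nd (nat_lit 5522) (Tr.lf (Fc.ed (nat_lit 5521) (nat_lit 1334) Col.c (nat_lit 1971) Dv.df))
(Tr.lf (Fc.ed (nat_lit 5522) (nat_lit 941) Col.g (nat_lit 1972) Dv.df)))))))
(Tr.nd (nat_lit 5533) (Tr.nd (nat_lit 5528) (Tr.nd (nat_lit 5525) (Tr.nd (nat_lit 5524) (Tr.lf (Fc.ed (nat_lit 5523) (nat_lit 1972) Col.g (nat_lit 932) (Dv.wd (nat_lit 9) [Mv.f (nat_lit 4458), Mv.f (nat_lit 4460), Mv.f (nat_lit 5522)])))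
(Tr.lf (Fc.ed (nat_lit 5524) (nat_lit 1017) Col.g (nat_lit 1973) Dv.df)))
(Tr.nd (nat_lit 5526) (Tr.lf (Fc.ed (nat_lit 5525) (nat_lit 1973) Col.g (nat_lit 1925) (Dv.wd (nat_lit 9) [Mv.f (nat_lit 5423), Mv.b (nat_lit 3183), Mv.f (nat_lit 5524)])))
(Tr.nd (nat_lit 5527) (Tr.lf (Fc.ed (nat_lit 5526) (nat_lit 887) Col.b (nat_lit 1974) Dv.df))
(Tr.lf (Fc.ed (nat_lit 5527) (nat_lit 1974) Col.d (nat_lit 1710) (Dv.wd (nat_lit 58) [Mv.b (nat_lit 4969), Mv.b (nat_lit 4084), Mv.f (nat_lit 5526)]))))))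
(Tr.nd (nat_lit 5530) (Tr.nd (nat_lit 5529) (Tr.lf (Fc.ed (nat_lit 5528) (nat_lit 1974) Col.f (nat_lit 1950) (Dv.wd (nat_lit 20) [Mv.f (nat_lit 5475), Mv.b (nat_lit 4085), Mv.f (nat_lit 5526)])))
(Tr.lf (Fc.ed (nat_lit 5529) (nat_lit 1578) Col.a (nat_lit 1975) Dv.df)))
(Tr.nd (nat_lit 5531) (Tr.lf (Fc.ed (nat_lit 5530) (nat_lit 1975) Col.c (nat_lit 1826) (Dv.wd (nat_lit 33) [Mv.f (nat_lit 5222), Mv.f (nat_lit 4672), Mv.f (nat_lit 5529)])))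
(Tr.nd (nat_lit 5532) (Tr.lf (Fc.ed (nat_lit 5531) (nat_lit 1975) Col.f (nat_lit 1525) (Dv.wd (nat_lit 35) [Mv.f (nat_lit 4553), Mv.b (nat_lit 4673), Mv.f (nat_lit 5529)])))
(Tr.lf (Fc.ed (nat_lit 5532) (nat_lit 1609) Col.a (nat_lit 1976) Dv.df))))))
(Tr.nd (nat_lit 5538) (Tr.nd (nat_lit 5535) (Tr.nd (nat_lit 5534) (Tr.lf (Fc.ed (nat_lit 5533) (nat_lit 1976) Col.b (nat_lit 1976) (Dv.wd (nat_lit 65) [Mv.b (nat_lit 5532), Mv.b (nat_lit 4731), Mv.f (nat_lit 2093), Mv.f (nat_lit 4731), Mv.f (nat_lit 5532)])))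
(Tr.lf (Fc.ed (nat_lit 5534) (nat_lit 1078) Col.a (nat_lit 1977) Dv.df)))
(Tr.nd (nat_lit 5536) (Tr.lf (Fc.ed (nat_lit 5535) (nat_lit 1977) Col.c (nat_lit 1560) (Dv.wd (nat_lit 33) [Mv.b (nat_lit 4626), Mv.b (nat_lit 3331), Mv.f (nat_lit 5534)])))
(Tr.nd (nat_lit 5537) (Tr.lf (Fc.ed (nat_lit 5536) (nat_lit 1977) Col.f (nat_lit 1527) (Dv.wd (nat_lit 35) [Mv.b (nat_lit 4556), Mv.f (nat_lit 3527), Mv.f (nat_lit 5534)])))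
(Tr.lf (Fc.ed (nat_lit 5537) (nat_lit 992) Col.a (nat_lit 1978) Dv.df)))))
(Tr.nd (nat_lit 5541) (Tr.nd (nat_lit 5539) (Tr.lf (Fc.ed (nat_lit 5538) (nat_lit 1978) Col.d (nat_lit 1589) (Dv.wd (nat_lit 28) [Mv.b (nat_lit 4693), Mv.f (nat_lit 4325), Mv.f (nat_lit 5537)])))
(Tr.nd (nat_lit 5540) (Tr.lf (Fc.ed (nat_lit 5539) (nat_lit 1978) Col.gi (nat_lit 1764) (Dv.wd (nat_lit 12) [Mv.b (nat_lit 5103), Mv.b (nat_lit 3186), Mv.f (nat_lit 5537)])))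
(Tr.lf (Fc.ed (nat_lit 5540) (nat_lit 1978) Col.g (nat_lit 1979) Dv.df))))
(Tr.nd (nat_lit 5542) (Tr.lf (Fc.ed (nat_lit 5541) (nat_lit 1301) Col.g (nat_lit 1980) Dv.df))
(Tr.nd (nat_lit 5543) (Tr.lf (Fc.ed (nat_lit 5542) (nat_lit 1980) Col.g (nat_lit 996) (Dv.wd (nat_lit 9) [Mv.f (nat_lit 4398), Mv.f (nat_lit 4399), Mv.f (nat_lit 5541)])))
(Tr.lf (Fc.ed (nat_lit 5543) (nat_lit 1006) Col.a (nat_lit 1981) Dv.df))))))))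
(Tr.nd (nat_lit 5564) (Tr.nd (nat_lit 5554) (Tr.nd (nat_lit 5549) (Tr.nd (nat_lit 5546) (Tr.nd (nat_lit 5545) (Tr.lf (Fc.ed (nat_lit 5544) (nat_lit 1981) Col.b (nat_lit 1981) (Dv.wd (nat_lit 65) [Mv.b (nat_lit 5543), Mv.b (nat_lit 3157), Mv.f (nat_lit 1862), Mv.f (nat_lit 3157), Mv.f (nat_lit 5543)])))
(Tr.lf (Fc.ed (nat_lit 5545) (nat_lit 1658) Col.e (nat_lit 1982) Dv.df)))
(Tr.nd (nat_lit 5547) (Tr.lf (Fc.ed (nat_lit 5546) (nat_lit 1982) Col.a (nat_lit 1857) (Dv.wd (nat_lit 15) [Mv.b (nat_lit 5288), Mv.f (nat_lit 4845), Mv.f (nat_lit 5545)])))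
(Tr.nd (nat_lit 5548) (Tr.lf (Fc.ed (nat_lit 5547) (nat_lit 1864) Col.a (nat_lit 1983) Dv.df))
(Tr.lf (Fc.ed (nat_lit 5548) (nat_lit 1983) Col.c (nat_lit 1983) (Dv.wd (nat_lit 33) [Mv.b (nat_lit 5547), Mv.f (nat_lit 5304), Mv.f (nat_lit 5547)]))))))
(Tr.nd (nat_lit 5551) (Tr.nd (nat_lit 5550) (Tr.lf (Fc.ed (nat_lit 5549) (nat_lit 1983) Col.b (nat_lit 1953) (Dv.wd (nat_lit 65) [Mv.b (nat_lit 5480), Mv.b (nat_lit 3934), Mv.b (nat_lit 2312), Mv.f (nat_lit 5302), Mv.f (nat_lit 5547)])))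
(Tr.lf (Fc.ed (nat_lit 5550) (nat_lit 1760) Col.gi (nat_lit 1984) Dv.df)))
(Tr.nd (nat_lit 5552) (Tr.lf (Fc.ed (nat_lit 5551) (nat_lit 1984) Col.gi (nat_lit 954) (Dv.wd (nat_lit 24) [Mv.f (nat_lit 3014), Mv.f (nat_lit 5091), Mv.f (nat_lit 5550)])))
(Tr.nd (nat_lit 5553) (Tr.lf (Fc.ed (nat_lit 5552) (nat_lit 1324) Col.d (nat_lit 1985) Dv.df))
(Tr.lf (Fc.ed (nat_lit 5553) (nat_lit 1985) Col.a (nat_lit 1337) (Dv.wd (nat_lit 8) [Mv.b (nat_lit 4037), Mv.f (nat_lit 4007), Mv.f (nat_lit 5552)])))))))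
(Tr.nd (nat_lit 5559) (Tr.nd (nat_lit 5556) (Tr.nd (nat_lit 5555) (Tr.lf (Fc.ed (nat_lit 5554) (nat_lit 1031) Col.g (nat_lit 1986) Dv.df))
(Tr.lf (Fc.ed (nat_lit 5555) (nat_lit 1646) Col.g (nat_lit 1987) Dv.df)))
(Tr.nd (nat_lit 5557) (Tr.lf (Fc.ed (nat_lit 5556) (nat_lit 1987) Col.g (nat_lit 1255) (Dv.wd (nat_lit 9) [Mv.f (nat_lit 3854), Mv.f (nat_lit 4813), Mv.f (nat_lit 5555)])))
(Tr.nd (nat_lit 5558) (Tr.lf (Fc.ed (nat_lit 5557) (nat_lit 1306) Col.d (nat_lit 1987) (Dv.wd (nat_lit 68) [Mv.f (nat_lit 5556), Mv.f (nat_lit 3853), Mv.b (nat_lit 4185), Mv.b (nat_lit 4257), Mv.b (nat_lit 4728), Mv.b (nat_lit 5332), Mv.b (nat_lit 5331), Mv.b (nat_lit 4127), Mv.f (nat_lit 3569), Mv.f (nat_lit 3970)])))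
(Tr.lf (Fc.ed (nat_lit 5558) (nat_lit 1987) Col.a (nat_lit 1987) (Dv.wd (nat_lit 8) [Mv.b (nat_lit 5557), Mv.f (nat_lit 4364), Mv.f (nat_lit 5557)]))))))
(Tr.nd (nat_lit 5561) (Tr.nd (nat_lit 5560) (Tr.lf (Fc.ed (nat_lit 5559) (nat_lit 1580) Col.gi (nat_lit 1988) Dv.df))
(Tr.lf (Fc.ed (nat_lit 5560) (nat_lit 1988) Col.gi (nat_lit 993) (Dv.wd (nat_lit 24) [Mv.b (nat_lit 3183), Mv.f (nat_lit 4676), Mv.f (nat_lit 5559)]))))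
(Tr.nd (nat_lit 5562) (Tr.lf (Fc.ed (nat_lit 5561) (nat_lit 1877) Col.e (nat_lit 1989) Dv.df))
(Tr.nd (nat_lit 5563) (Tr.lf (Fc.ed (nat_lit 5562) (nat_lit 1989) Col.b (nat_lit 1128) (Dv.wd (nat_lit 49) [Mv.b (nat_lit 3520), Mv.f (nat_lit 5327), Mv.f (nat_lit 5561)])))
(Tr.lf (Fc.ed (nat_lit 5563) (nat_lit 928) Col.gi (nat_lit 1990) Dv.df)))))))
(Tr.nd (nat_lit 5574) (Tr.nd (nat_lit 5569) (Tr.nd (nat_lit 5566) (Tr.nd (nat_lit 5565) (Tr.lf (Fc.ed (nat_lit 5564) (nat_lit 1990) Col.gi (nat_lit 1458) (Dv.wd (nat_lit 24) [Mv.f (nat_lit 4408), Mv.b (nat_lit 3253), Mv.f (nat_lit 5563)])))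
(Tr.lf (Fc.ed (nat_lit 5565) (nat_lit 768) Col.b (nat_lit 1991) Dv.df)))
(Tr.nd (nat_lit 5567) (Tr.lf (Fc.ed (nat_lit 5566) (nat_lit 1991) Col.d (nat_lit 1828) (Dv.wd (nat_lit 58) [Mv.b (nat_lit 5226), Mv.b (nat_lit 2965), Mv.f (nat_lit 5565)])))
(Tr.nd (nat_lit 5568) (Tr.lf (Fc.ed (nat_lit 5567) (nat_lit 1991) Col.c (nat_lit 1991) (Dv.wd (nat_lit 93) [Mv.b (nat_lit 5565), Mv.f (nat_lit 2216), Mv.f (nat_lit 1951), Mv.b (nat_lit 2216), Mv.f (nat_lit 5565)])))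
(Tr.lf (Fc.ed (nat_lit 5568) (nat_lit 1765) Col.gi (nat_lit 1992) Dv.df)))))
(Tr.nd (nat_lit 5571) (Tr.nd (nat_lit 5570) (Tr.lf (Fc.ed (nat_lit 5569) (nat_lit 1992) Col.gi (nat_lit 938) (Dv.wd (nat_lit 24) [Mv.b (nat_lit 2970), Mv.f (nat_lit 5104), Mv.f (nat_lit 5568)])))
(Tr.lf (Fc.ed (nat_lit 5570) (nat_lit 1088) Col.c (nat_lit 1993) Dv.df)))
(Tr.nd (nat_lit 5572) (Tr.lf (Fc.ed (nat_lit 5571) (nat_lit 1993) Col.f (nat_lit 1291) (Dv.wd (nat_lit 26) [Mv.b (nat_lit 3940), Mv.b (nat_lit 3362), Mv.f (nat_lit 5570)])))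
(Tr.nd (nat_lit 5573) (Tr.lf (Fc.ed (nat_lit 5572) (nat_lit 1708) Col.c (nat_lit 1994) Dv.df))
(Tr.lf (Fc.ed (nat_lit 5573) (nat_lit 1994) Col.g (nat_lit 1971) (Dv.wd (nat_lit 77) [Mv.b (nat_lit 5521), Mv.f (nat_lit 4028), Mv.b (nat_lit 2100), Mv.b (nat_lit 4637), Mv.f (nat_lit 4763), Mv.f (nat_lit 4765), Mv.f (nat_lit 4225), Mv.b (nat_lit 4963), Mv.f (nat_lit 5572)])))))))
(Tr.nd (nat_lit 5579) (Tr.nd (nat_lit 5576) (Tr.nd (nat_lit 5575) (Tr.lf (Fc.ed (nat_lit 5574) (nat_lit 1814) Col.f (nat_lit 1995) Dv.df))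
(Tr.lf (Fc.ed (nat_lit 5575) (nat_lit 1995) Col.c (nat_lit 738) (Dv.wd (nat_lit 34) [Mv.f (nat_lit 2145), Mv.f (nat_lit 5195), Mv.f (nat_lit 5574)]))))
(Tr.nd (nat_lit 5577) (Tr.lf (Fc.ed (nat_lit 5576) (nat_lit 1749) Col.f (nat_lit 1996) Dv.df))
(Tr.nd (nat_lit 5578) (Tr.lf (Fc.ed (nat_lit 5577) (nat_lit 1996) Col.a (nat_lit 1920) (Dv.wd (nat_lit 16) [Mv.f (nat_lit 5412), Mv.f (nat_lit 5063), Mv.f (nat_lit 5576)])))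
(Tr.lf (Fc.ed (nat_lit 5578) (nat_lit 1996) Col.c (nat_lit 1416) (Dv.wd (nat_lit 34) [Mv.b (nat_lit 4284), Mv.b (nat_lit 5064), Mv.f (nat_lit 5576)]))))))
(Tr.nd (nat_lit 5582) (Tr.nd (nat_lit 5580) (Tr.lf (Fc.ed (nat_lit 5579) (nat_lit 1731) Col.g (nat_lit 1997) Dv.df))
(Tr.nd (nat_lit 5581) (Tr.lf (Fc.ed (nat_lit 5580) (nat_lit 1997) Col.g (nat_lit 893) (Dv.wd (nat_lit 9) [Mv.b (nat_lit 5061), Mv.b (nat_lit 5060), Mv.f (nat_lit 5579)])))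
(Tr.lf (Fc.ed (nat_lit 5581) (nat_lit 1212) Col.f (nat_lit 1998) Dv.df))))
(Tr.nd (nat_lit 5583) (Tr.lf (Fc.ed (nat_lit 5582) (nat_lit 1998) Col.a (nat_lit 1998) (Dv.wd (nat_lit 16) [Mv.b (nat_lit 5581), Mv.f (nat_lit 3733), Mv.f (nat_lit 5581)])))
(Tr.nd (nat_lit 5584) (Tr.lf (Fc.ed (nat_lit 5583) (nat_lit 1998) Col.g (nat_lit 1202) (Dv.wd (nat_lit 17) [Mv.b (nat_lit 3734), Mv.f (nat_lit 3733), Mv.f (nat_lit 5581)])))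
(Tr.lf (Fc.ed (nat_lit 5584) (nat_lit 1516) Col.c (nat_lit 1999) Dv.df)))))))))))
(Tr.nd (nat_lit 5749) (Tr.nd (nat_lit 5667) (Tr.nd (nat_lit 5626) (Tr.nd (nat_lit 5605) (Tr.nd (nat_lit 5595) (Tr.nd (nat_lit 5590) (Tr.nd (nat_lit 5587) (Tr.nd (nat_lit 5586) (Tr.lf (Fc.ed (nat_lit 5585) (nat_lit 1999) Col.e (nat_lit 1209) (Dv.wd (nat_lit 25) [Mv.f (nat_lit 3724), Mv.f (nat_lit 4530), Mv.f (nat_lit 5584)])))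
(Tr.lf (Fc.ed (nat_lit 5586) (nat_lit 1832) Col.gi (nat_lit 2000) Dv.df)))
(Tr.nd (nat_lit 5588) (Tr.lf (Fc.ed (nat_lit 5587) (nat_lit 1092) Col.e (nat_lit 2001) Dv.df))
(Tr.nd (nat_lit 5589) (Tr.lf (Fc.ed (nat_lit 5588) (nat_lit 2001) Col.a (nat_lit 1600) (Dv.wd (nat_lit 15) [Mv.f (nat_lit 4709), Mv.b (nat_lit 3373), Mv.f (nat_lit 5587)])))
(Tr.lf (Fc.ed (nat_lit 5589) (nat_lit 2001) Col.c (nat_lit 1509) (Dv.wd (nat_lit 18) [Mv.f (nat_lit 4517), Mv.b (nat_lit 3375), Mv.f (nat_lit 5587)]))))))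
(Tr.nd (nat_lit 5592) (Tr.nd (nat_lit 5591) (Tr.lf (Fc.ed (nat_lit 5590) (nat_lit 1943) Col.a (nat_lit 2002) Dv.df))
(Tr.lf (Fc.ed (nat_lit 5591) (nat_lit 1815) Col.a (nat_lit 2003) Dv.df)))
(Tr.nd (nat_lit 5593) (Tr.lf (Fc.ed (nat_lit 5592) (nat_lit 1047) Col.g (nat_lit 2004) Dv.df))
(Tr.nd (nat_lit 5594) (Tr.lf (Fc.ed (nat_lit 5593) (nat_lit 1795) Col.d (nat_lit 2005) Dv.df))
(Tr.lf (Fc.ed (nat_lit 5594) (nat_lit 1605) Col.f (nat_lit 2006) Dv.df))))))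
(Tr.nd (nat_lit 5600) (Tr.nd (nat_lit 5597) (Tr.nd (nat_lit 5596) (Tr.lf (Fc.ed (nat_lit 5595) (nat_lit 2006) Col.e (nat_lit 1829) (Dv.wd (nat_lit 22) [Mv.b (nat_lit 5227), Mv.b (nat_lit 3806), Mv.b (nat_lit 3362), Mv.f (nat_lit 4718), Mv.f (nat_lit 5594)])))
(Tr.lf (Fc.ed (nat_lit 5596) (nat_lit 992) Col.g (nat_lit 2007) Dv.df)))
(Tr.nd (nat_lit 5598) (Tr.lf (Fc.ed (nat_lit 5597) (nat_lit 1970) Col.d (nat_lit 2008) Dv.df))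
(Tr.nd (nat_lit 5599) (Tr.lf (Fc.ed (nat_lit 5598) (nat_lit 2008) Col.b (nat_lit 1012) (Dv.wd (nat_lit 37) [Mv.b (nat_lit 3171), Mv.f (nat_lit 5520), Mv.f (nat_lit 5597)])))
(Tr.lf (Fc.ed (nat_lit 5599) (nat_lit 1700) Col.a (nat_lit 2009) Dv.df)))))
(Tr.nd (nat_lit 5602) (Tr.nd (nat_lit 5601) (Tr.lf (Fc.ed (nat_lit 5600) (nat_lit 1742) Col.f (nat_lit 2010) Dv.df))
(Tr.lf (Fc.ed (nat_lit 5601) (nat_lit 2010) Col.a (nat_lit 1450) (Dv.wd (nat_lit 23) [Mv.b (nat_lit 4391), Mv.f (nat_lit 5046), Mv.f (nat_lit 5600)]))))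
(Tr.nd (nat_lit 5603) (Tr.lf (Fc.ed (nat_lit 5602) (nat_lit 1392) Col.gi (nat_lit 2011) Dv.df))
(Tr.nd (nat_lit 5604) (Tr.lf (Fc.ed (nat_lit 5603) (nat_lit 2011) Col.gi (nat_lit 1522) (Dv.wd (nat_lit 24) [Mv.f (nat_lit 4548), Mv.b (nat_lit 4222), Mv.f (nat_lit 5602)])))
(Tr.lf (Fc.ed (nat_lit 5604) (nat_lit 1510) Col.g (nat_lit 2012) Dv.df)))))))
(Tr.nd (nat_lit 5615) (Tr.nd (nat_lit 5610) (Tr.nd (nat_lit 5607) (Tr.nd (nat_lit 5606) (Tr.lf (Fc.ed (nat_lit 5605) (nat_lit 2012) Col.g (nat_lit 714) (Dv.wd (nat_lit 9) [Mv.f (nat_lit 4735), Mv.f (nat_lit 4738), Mv.f (nat_lit 5604)])))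
(Tr.lf (Fc.ed (nat_lit 5606) (nat_lit 929) Col.g (nat_lit 2013) Dv.df)))
(Tr.nd (nat_lit 5608) (Tr.lf (Fc.ed (nat_lit 5607) (nat_lit 2013) Col.g (nat_lit 1738) (Dv.wd (nat_lit 9) [Mv.b (nat_lit 5037), Mv.b (nat_lit 2951), Mv.f (nat_lit 5606)])))
(Tr.nd (nat_lit 5609) (Tr.lf (Fc.ed (nat_lit 5608) (nat_lit 1088) Col.g (nat_lit 2014) Dv.df))
(Tr.lf (Fc.ed (nat_lit 5609) (nat_lit 2014) Col.g (nat_lit 1863) (Dv.wd (nat_lit 9) [Mv.b (nat_lit 5299), Mv.b (nat_lit 3362), Mv.f (nat_lit 5608)]))))))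
(Tr.nd (nat_lit 5612) (Tr.nd (nat_lit 5611) (Tr.lf (Fc.ed (nat_lit 5610) (nat_lit 1644) Col.c (nat_lit 2015) Dv.df))
(Tr.lf (Fc.ed (nat_lit 5611) (nat_lit 2015) Col.b (nat_lit 1973) (Dv.wd (nat_lit 101) [Mv.b (nat_lit 5524), Mv.b (nat_lit 3182), Mv.b (nat_lit 833), Mv.f (nat_lit 22), Mv.b (nat_lit 444), Mv.f (nat_lit 445), Mv.b (nat_lit 2184), Mv.f (nat_lit 2210), Mv.b (nat_lit 4810), Mv.f (nat_lit 5610)]))))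
(Tr.nd (nat_lit 5613) (Tr.lf (Fc.ed (nat_lit 5612) (nat_lit 1572) Col.c (nat_lit 2016) Dv.df))
(Tr.nd (nat_lit 5614) (Tr.lf (Fc.ed (nat_lit 5613) (nat_lit 2016) Col.e (nat_lit 1723) (Dv.wd (nat_lit 25) [Mv.b (nat_lit 5003), Mv.f (nat_lit 4658), Mv.f (nat_lit 5612)])))
(Tr.lf (Fc.ed (nat_lit 5614) (nat_lit 1631) Col.g (nat_lit 2017) Dv.df))))))
(Tr.nd (nat_lit 5620) (Tr.nd (nat_lit 5617) (Tr.nd (nat_lit 5616) (Tr.lf (Fc.ed (nat_lit 5615) (nat_lit 2017) Col.g (nat_lit 1054) (Dv.wd (nat_lit 9) [Mv.f (nat_lit 3444), Mv.b (nat_lit 4786), Mv.f (nat_lit 5614)])))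
(Tr.lf (Fc.ed (nat_lit 5616) (nat_lit 1893) Col.e (nat_lit 2018) Dv.df)))
(Tr.nd (nat_lit 5618) (Tr.lf (Fc.ed (nat_lit 5617) (nat_lit 2018) Col.a (nat_lit 1355) (Dv.wd (nat_lit 15) [Mv.b (nat_lit 4136), Mv.f (nat_lit 5361), Mv.f (nat_lit 5616)])))
(Tr.nd (nat_lit 5619) (Tr.lf (Fc.ed (nat_lit 5618) (nat_lit 1011) Col.gi (nat_lit 2019) Dv.df))
(Tr.lf (Fc.ed (nat_lit 5619) (nat_lit 2016) Col.b (nat_lit 2020) Dv.df)))))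
(Tr.nd (nat_lit 5623) (Tr.nd (nat_lit 5621) (Tr.lf (Fc.ed (nat_lit 5620) (nat_lit 2020) Col.c (nat_lit 1387) (Dv.wd (nat_lit 93) [Mv.b (nat_lit 4208), Mv.f (nat_lit 3214), Mv.b (nat_lit 4659), Mv.f (nat_lit 5612), Mv.f (nat_lit 5619)])))
(Tr.nd (nat_lit 5622) (Tr.lf (Fc.ed (nat_lit 5621) (nat_lit 990) Col.b (nat_lit 2021) Dv.df))
(Tr.lf (Fc.ed (nat_lit 5622) (nat_lit 2021) Col.d (nat_lit 1205) (Dv.wd (nat_lit 58) [Mv.f (nat_lit 3709), Mv.f (nat_lit 3104), Mv.f (nat_lit 5621)])))))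
(Tr.nd (nat_lit 5624) (Tr.lf (Fc.ed (nat_lit 5623) (nat_lit 2021) Col.f (nat_lit 1373) (Dv.wd (nat_lit 20) [Mv.f (nat_lit 4180), Mv.f (nat_lit 3432), Mv.f (nat_lit 5621)])))
(Tr.nd (nat_lit 5625) (Tr.lf (Fc.ed (nat_lit 5624) (nat_lit 973) Col.e (nat_lit 2022) Dv.df))
(Tr.lf (Fc.ed (nat_lit 5625) (nat_lit 2022) Col.a (nat_lit 1962) (Dv.wd (nat_lit 15) [Mv.b (nat_lit 5501), Mv.b (nat_lit 3061), Mv.f (nat_lit 5624)])))))))))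
(Tr.nd (nat_lit 5646) (Tr.nd (nat_lit 5636) (Tr.nd (nat_lit 5631) (Tr.nd (nat_lit 5628) (Tr.nd (nat_lit 5627) (Tr.lf (Fc.ed (nat_lit 5626) (nat_lit 1975) Col.gi (nat_lit 2023) Dv.df))
(Tr.lf (Fc.ed (nat_lit 5627) (nat_lit 2023) Col.gi (nat_lit 1035) (Dv.wd (nat_lit 24) [Mv.b (nat_lit 4673), Mv.f (nat_lit 5529), Mv.f (nat_lit 5626)]))))
(Tr.nd (nat_lit 5629) (Tr.lf (Fc.ed (nat_lit 5628) (nat_lit 1965) Col.c (nat_lit 2024) Dv.df))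
(Tr.nd (nat_lit 5630) (Tr.lf (Fc.ed (nat_lit 5629) (nat_lit 2024) Col.g (nat_lit 716) (Dv.wd (nat_lit 145) [Mv.b (nat_lit 2189), Mv.f (nat_lit 3485), Mv.f (nat_lit 4275), Mv.b (nat_lit 4982), Mv.f (nat_lit 4983), Mv.b (nat_lit 4052), Mv.b (nat_lit 4721), Mv.f (nat_lit 5507), Mv.f (nat_lit 5628)])))
(Tr.lf (Fc.ed (nat_lit 5630) (nat_lit 1493) Col.g (nat_lit 2024) (Dv.wd (nat_lit 17) [Mv.f (nat_lit 5629), Mv.f (nat_lit 2093), Mv.f (nat_lit 4481)]))))))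
(Tr.nd (nat_lit 5633) (Tr.nd (nat_lit 5632) (Tr.lf (Fc.ed (nat_lit 5631) (nat_lit 929) Col.c (nat_lit 2025) Dv.df))
(Tr.lf (Fc.ed (nat_lit 5632) (nat_lit 2025) Col.f (nat_lit 1664) (Dv.wd (nat_lit 26) [Mv.f (nat_lit 4859), Mv.b (nat_lit 2951), Mv.f (nat_lit 5631)]))))
(Tr.nd (nat_lit 5634) (Tr.lf (Fc.ed (nat_lit 5633) (nat_lit 1049) Col.b (nat_lit 2026) Dv.df))
(Tr.nd (nat_lit 5635) (Tr.lf (Fc.ed (nat_lit 5634) (nat_lit 731) Col.c (nat_lit 2027) Dv.df))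
(Tr.lf (Fc.ed (nat_lit 5635) (nat_lit 1328) Col.f (nat_lit 2028) Dv.df))))))
(Tr.nd (nat_lit 5641) (Tr.nd (nat_lit 5638) (Tr.nd (nat_lit 5637) (Tr.lf (Fc.ed (nat_lit 5636) (nat_lit 2028) Col.b (nat_lit 1497) (Dv.wd (nat_lit 66) [Mv.b (nat_lit 4490), Mv.f (nat_lit 4297), Mv.f (nat_lit 5635)])))
(Tr.lf (Fc.ed (nat_lit 5637) (nat_lit 1606) Col.a (nat_lit 2029) Dv.df)))
(Tr.nd (nat_lit 5639) (Tr.lf (Fc.ed (nat_lit 5638) (nat_lit 1779) Col.a (nat_lit 2030) Dv.df))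
(Tr.nd (nat_lit 5640) (Tr.lf (Fc.ed (nat_lit 5639) (nat_lit 2030) Col.c (nat_lit 1258) (Dv.wd (nat_lit 33) [Mv.b (nat_lit 4447), Mv.f (nat_lit 5129), Mv.f (nat_lit 5638)])))
(Tr.lf (Fc.ed (nat_lit 5640) (nat_lit 2030) Col.e (nat_lit 1033) (Dv.wd (nat_lit 56) [Mv.f (nat_lit 3221), Mv.b (nat_lit 5130), Mv.f (nat_lit 5638)]))))))
(Tr.nd (nat_lit 5643) (Tr.nd (nat_lit 5642) (Tr.lf (Fc.ed (nat_lit 5641) (nat_lit 1844) Col.a (nat_lit 2031) Dv.df))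
(Tr.lf (Fc.ed (nat_lit 5642) (nat_lit 1078) Col.g (nat_lit 2032) Dv.df)))
(Tr.nd (nat_lit 5644) (Tr.lf (Fc.ed (nat_lit 5643) (nat_lit 2032) Col.g (nat_lit 1527) (Dv.wd (nat_lit 9) [Mv.b (nat_lit 4556), Mv.f (nat_lit 3527), Mv.f (nat_lit 5642)])))
(Tr.nd (nat_lit 5645) (Tr.lf (Fc.ed (nat_lit 5644) (nat_lit 1702) Col.f (nat_lit 2033) Dv.df))
(Tr.lf (Fc.ed (nat_lit 5645) (nat_lit 1531) Col.f (nat_lit 2034) Dv.df)))))))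
(Tr.nd (nat_lit 5656) (Tr.nd (nat_lit 5651) (Tr.nd (nat_lit 5648) (Tr.nd (nat_lit 5647) (Tr.lf (Fc.ed (nat_lit 5646) (nat_lit 978) Col.a (nat_lit 2035) Dv.df))
(Tr.lf (Fc.ed (nat_lit 5647) (nat_lit 2035) Col.d (nat_lit 1743) (Dv.wd (nat_lit 28) [Mv.f (nat_lit 5049), Mv.f (nat_lit 3069), Mv.f (nat_lit 5646)]))))
(Tr.nd (nat_lit 5649) (Tr.lf (Fc.ed (nat_lit 5648) (nat_lit 2035) Col.f (nat_lit 1985) (Dv.wd (nat_lit 35) [Mv.f (nat_lit 5553), Mv.f (nat_lit 4039), Mv.f (nat_lit 5646)])))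
(Tr.nd (nat_lit 5650) (Tr.lf (Fc.ed (nat_lit 5649) (nat_lit 1301) Col.d (nat_lit 2036) Dv.df))
(Tr.lf (Fc.ed (nat_lit 5650) (nat_lit 2036) Col.a (nat_lit 1363) (Dv.wd (nat_lit 8) [Mv.b (nat_lit 4154), Mv.f (nat_lit 3962), Mv.f (nat_lit 5649)]))))))
(Tr.nd (nat_lit 5653) (Tr.nd (nat_lit 5652) (Tr.lf (Fc.ed (nat_lit 5651) (nat_lit 2036) Col.f (nat_lit 1958) (Dv.wd (nat_lit 11) [Mv.b (nat_lit 5492), Mv.f (nat_lit 4399), Mv.f (nat_lit 5649)])))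
(Tr.lf (Fc.ed (nat_lit 5652) (nat_lit 1864) Col.d (nat_lit 2037) Dv.df)))
(Tr.nd (nat_lit 5654) (Tr.lf (Fc.ed (nat_lit 5653) (nat_lit 2037) Col.b (nat_lit 1099) (Dv.wd (nat_lit 37) [Mv.b (nat_lit 3395), Mv.f (nat_lit 5302), Mv.f (nat_lit 5652)])))
(Tr.nd (nat_lit 5655) (Tr.lf (Fc.ed (nat_lit 5654) (nat_lit 2037) Col.f (nat_lit 1906) (Dv.wd (nat_lit 11) [Mv.b (nat_lit 5384), Mv.b (nat_lit 5303), Mv.f (nat_lit 5652)])))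
(Tr.lf (Fc.ed (nat_lit 5655) (nat_lit 1120) Col.a (nat_lit 2038) Dv.df))))))
(Tr.nd (nat_lit 5661) (Tr.nd (nat_lit 5658) (Tr.nd (nat_lit 5657) (Tr.lf (Fc.ed (nat_lit 5656) (nat_lit 2038) Col.c (nat_lit 1808) (Dv.wd (nat_lit 33) [Mv.b (nat_lit 5185), Mv.f (nat_lit 3537), Mv.f (nat_lit 5655)])))
(Tr.lf (Fc.ed (nat_lit 5657) (nat_lit 2038) Col.e (nat_lit 1301) (Dv.wd (nat_lit 56) [Mv.b (nat_lit 3962), Mv.b (nat_lit 3453), Mv.f (nat_lit 5655)]))))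
(Tr.nd (nat_lit 5659) (Tr.lf (Fc.ed (nat_lit 5658) (nat_lit 2038) Col.f (nat_lit 1944) (Dv.wd (nat_lit 35) [Mv.b (nat_lit 5463), Mv.f (nat_lit 3451), Mv.f (nat_lit 5655)])))
(Tr.nd (nat_lit 5660) (Tr.lf (Fc.ed (nat_lit 5659) (nat_lit 2038) Col.b (nat_lit 2038) (Dv.wd (nat_lit 65) [Mv.b (nat_lit 5655), Mv.f (nat_lit 3452), Mv.f (nat_lit 2711), Mv.b (nat_lit 3452), Mv.f (nat_lit 5655)])))
(Tr.lf (Fc.ed (nat_lit 5660) (nat_lit 994) Col.b (nat_lit 2039) Dv.df)))))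
(Tr.nd (nat_lit 5664) (Tr.nd (nat_lit 5662) (Tr.lf (Fc.ed (nat_lit 5661) (nat_lit 2039) Col.f (nat_lit 1970) (Dv.wd (nat_lit 20) [Mv.b (nat_lit 5520), Mv.f (nat_lit 3133), Mv.f (nat_lit 5660)])))
(Tr.nd (nat_lit 5663) (Tr.lf (Fc.ed (nat_lit 5662) (nat_lit 1502) Col.f (nat_lit 2040) Dv.df))
(Tr.lf (Fc.ed (nat_lit 5663) (nat_lit 2040) Col.a (nat_lit 1515) (Dv.wd (nat_lit 23) [Mv.b (nat_lit 4529), Mv.f (nat_lit 4502), Mv.f (nat_lit 5662)])))))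
(Tr.nd (nat_lit 5665) (Tr.lf (Fc.ed (nat_lit 5664) (nat_lit 1083) Col.g (nat_lit 2041) Dv.df))
(Tr.nd (nat_lit 5666) (Tr.lf (Fc.ed (nat_lit 5665) (nat_lit 2041) Col.g (nat_lit 1454) (Dv.wd (nat_lit 9) [Mv.b (nat_lit 4398), Mv.b (nat_lit 3345), Mv.f (nat_lit 5664)])))
(Tr.lf (Fc.ed (nat_lit 5666) (nat_lit 1888) Col.d (nat_lit 2042) Dv.df)))))))))
(Tr.nd (nat_lit 5708) (Tr.nd (nat_lit 5687) (Tr.nd (nat_lit 5677) (Tr.nd (nat_lit 5672) (Tr.nd (nat_lit 5669) (Tr.nd (nat_lit 5668) (Tr.lf (Fc.ed (nat_lit 5667) (nat_lit 2042) Col.b (nat_lit 1782) (Dv.wd (nat_lit 37) [Mv.f (nat_lit 5325), Mv.b (nat_lit 5352), Mv.f (nat_lit 5666)])))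
(Tr.lf (Fc.ed (nat_lit 5668) (nat_lit 2042) Col.e (nat_lit 1519) (Dv.wd (nat_lit 42) [Mv.f (nat_lit 4539), Mv.f (nat_lit 3242), Mv.b (nat_lit 4401), Mv.f (nat_lit 5351), Mv.f (nat_lit 5666)]))))
(Tr.nd (nat_lit 5670) (Tr.lf (Fc.ed (nat_lit 5669) (nat_lit 1901) Col.gi (nat_lit 2043) Dv.df))
(Tr.nd (nat_lit 5671) (Tr.lf (Fc.ed (nat_lit 5670) (nat_lit 1060) Col.e (nat_lit 2044) Dv.df))
(Tr.lf (Fc.ed (nat_lit 5671) (nat_lit 2044) Col.a (nat_lit 1849) (Dv.wd (nat_lit 15) [Mv.b (nat_lit 5269), Mv.b (nat_lit 3281), Mv.f (nat_lit 5670)]))))))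
(Tr.nd (nat_lit 5674) (Tr.nd (nat_lit 5673) (Tr.lf (Fc.ed (nat_lit 5672) (nat_lit 2044) Col.b (nat_lit 1534) (Dv.wd (nat_lit 49) [Mv.b (nat_lit 4571), Mv.b (nat_lit 3282), Mv.f (nat_lit 5670)])))
(Tr.lf (Fc.ed (nat_lit 5673) (nat_lit 2044) Col.d (nat_lit 2044) (Dv.wd (nat_lit 59) [Mv.b (nat_lit 5670), Mv.b (nat_lit 3280), Mv.f (nat_lit 2067), Mv.f (nat_lit 3280), Mv.f (nat_lit 5670)]))))
(Tr.nd (nat_lit 5675) (Tr.lf (Fc.ed (nat_lit 5674) (nat_lit 1095) Col.a (nat_lit 2045) Dv.df))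
(Tr.nd (nat_lit 5676) (Tr.lf (Fc.ed (nat_lit 5675) (nat_lit 2045) Col.c (nat_lit 1925) (Dv.wd (nat_lit 33) [Mv.f (nat_lit 5423), Mv.b (nat_lit 3385), Mv.f (nat_lit 5674)])))
(Tr.lf (Fc.ed (nat_lit 5676) (nat_lit 2045) Col.d (nat_lit 2003) (Dv.wd (nat_lit 28) [Mv.b (nat_lit 5591), Mv.f (nat_lit 5197), Mv.f (nat_lit 5674)])))))))
(Tr.nd (nat_lit 5682) (Tr.nd (nat_lit 5679) (Tr.nd (nat_lit 5678) (Tr.lf (Fc.ed (nat_lit 5677) (nat_lit 1419) Col.e (nat_lit 2046) Dv.df))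
(Tr.lf (Fc.ed (nat_lit 5678) (nat_lit 2046) Col.d (nat_lit 1897) (Dv.wd (nat_lit 59) [Mv.b (nat_lit 5370), Mv.b (nat_lit 4934), Mv.f (nat_lit 4935), Mv.f (nat_lit 4908), Mv.f (nat_lit 5677)]))))
(Tr.nd (nat_lit 5680) (Tr.lf (Fc.ed (nat_lit 5679) (nat_lit 672) Col.gi (nat_lit 2047) Dv.df))
(Tr.nd (nat_lit 5681) (Tr.lf (Fc.ed (nat_lit 5680) (nat_lit 2047) Col.gi (nat_lit 1725) (Dv.wd (nat_lit 24) [Mv.f (nat_lit 5008), Mv.b (nat_lit 4243), Mv.f (nat_lit 5679)])))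
(Tr.lf (Fc.ed (nat_lit 5681) (nat_lit 1764) Col.a (nat_lit 2048) Dv.df)))))
(Tr.nd (nat_lit 5684) (Tr.nd (nat_lit 5683) (Tr.lf (Fc.ed (nat_lit 5682) (nat_lit 957) Col.b (nat_lit 2049) Dv.df))
(Tr.lf (Fc.ed (nat_lit 5683) (nat_lit 973) Col.c (nat_lit 2050) Dv.df)))
(Tr.nd (nat_lit 5685) (Tr.lf (Fc.ed (nat_lit 5684) (nat_lit 2050) Col.a (nat_lit 2027) (Dv.wd (nat_lit 19) [Mv.b (nat_lit 5634), Mv.b (nat_lit 3061), Mv.f (nat_lit 5683)])))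
(Tr.nd (nat_lit 5686) (Tr.lf (Fc.ed (nat_lit 5685) (nat_lit 1789) Col.c (nat_lit 2051) Dv.df))
(Tr.lf (Fc.ed (nat_lit 5686) (nat_lit 2051) Col.a (nat_lit 1805) (Dv.wd (nat_lit 19) [Mv.b (nat_lit 5180), Mv.f (nat_lit 5153), Mv.f (nat_lit 5685)]))))))))
(Tr.nd (nat_lit 5697) (Tr.nd (nat_lit 5692) (Tr.nd (nat_lit 5689) (Tr.nd (nat_lit 5688) (Tr.lf (Fc.ed (nat_lit 5687) (nat_lit 2051) Col.e (nat_lit 1100) (Dv.wd (nat_lit 25) [Mv.f (nat_lit 3397), Mv.b (nat_lit 5152), Mv.f (nat_lit 5685)])))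
(Tr.lf (Fc.ed (nat_lit 5688) (nat_lit 1851) Col.a (nat_lit 2052) Dv.df)))
(Tr.nd (nat_lit 5690) (Tr.lf (Fc.ed (nat_lit 5689) (nat_lit 2052) Col.c (nat_lit 1368) (Dv.wd (nat_lit 33) [Mv.b (nat_lit 4331), Mv.f (nat_lit 5277), Mv.f (nat_lit 5688)])))
(Tr.nd (nat_lit 5691) (Tr.lf (Fc.ed (nat_lit 5690) (nat_lit 2052) Col.e (nat_lit 959) (Dv.wd (nat_lit 56) [Mv.f (nat_lit 3131), Mv.b (nat_lit 5278), Mv.f (nat_lit 5688)])))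
(Tr.lf (Fc.ed (nat_lit 5691) (nat_lit 1865) Col.d (nat_lit 2053) Dv.df)))))
(Tr.nd (nat_lit 5694) (Tr.nd (nat_lit 5693) (Tr.lf (Fc.ed (nat_lit 5692) (nat_lit 1736) Col.b (nat_lit 2054) Dv.df))
(Tr.lf (Fc.ed (nat_lit 5693) (nat_lit 790) Col.g (nat_lit 2055) Dv.df)))
(Tr.nd (nat_lit 5695) (Tr.lf (Fc.ed (nat_lit 5694) (nat_lit 2055) Col.g (nat_lit 1558) (Dv.wd (nat_lit 9) [Mv.f (nat_lit 4622), Mv.f (nat_lit 3209), Mv.f (nat_lit 5693)])))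
(Tr.nd (nat_lit 5696) (Tr.lf (Fc.ed (nat_lit 5695) (nat_lit 2045) Col.gi (nat_lit 2056) Dv.df))
(Tr.lf (Fc.ed (nat_lit 5696) (nat_lit 2056) Col.gi (nat_lit 1069) (Dv.wd (nat_lit 24) [Mv.b (nat_lit 3384), Mv.f (nat_lit 5674), Mv.f (nat_lit 5695)])))))))
(Tr.nd (nat_lit 5702) (Tr.nd (nat_lit 5699) (Tr.nd (nat_lit 5698) (Tr.lf (Fc.ed (nat_lit 5697) (nat_lit 1757) Col.c (nat_lit 2057) Dv.df))
(Tr.lf (Fc.ed (nat_lit 5698) (nat_lit 1040) Col.c (nat_lit 2058) Dv.df)))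
(Tr.nd (nat_lit 5700) (Tr.lf (Fc.ed (nat_lit 5699) (nat_lit 2058) Col.e (nat_lit 1123) (Dv.wd (nat_lit 25) [Mv.f (nat_lit 3463), Mv.f (nat_lit 3235), Mv.f (nat_lit 5698)])))
(Tr.nd (nat_lit 5701) (Tr.lf (Fc.ed (nat_lit 5700) (nat_lit 1944) Col.gi (nat_lit 2059) Dv.df))
(Tr.lf (Fc.ed (nat_lit 5701) (nat_lit 2059) Col.gi (nat_lit 1120) (Dv.wd (nat_lit 24) [Mv.b (nat_lit 3451), Mv.f (nat_lit 5463), Mv.f (nat_lit 5700)]))))))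
(Tr.nd (nat_lit 5705) (Tr.nd (nat_lit 5703) (Tr.lf (Fc.ed (nat_lit 5702) (nat_lit 1533) Col.f (nat_lit 2060) Dv.df))
(Tr.nd (nat_lit 5704) (Tr.lf (Fc.ed (nat_lit 5703) (nat_lit 1541) Col.b (nat_lit 2061) Dv.df))
(Tr.lf (Fc.ed (nat_lit 5704) (nat_lit 2061) Col.e (nat_lit 1334) (Dv.wd (nat_lit 52) [Mv.b (nat_lit 4027), Mv.f (nat_lit 4585), Mv.f (nat_lit 5703)])))))
(Tr.nd (nat_lit 5706) (Tr.lf (Fc.ed (nat_lit 5705) (nat_lit 545) Col.d (nat_lit 2062) Dv.df))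
(Tr.nd (nat_lit 5707) (Tr.lf (Fc.ed (nat_lit 5706) (nat_lit 2062) Col.f (nat_lit 2062) (Dv.wd (nat_lit 11) [Mv.b (nat_lit 5705), Mv.f (nat_lit 1821), Mv.f (nat_lit 5705)])))
(Tr.lf (Fc.ed (nat_lit 5707) (nat_lit 1836) Col.gi (nat_lit 2063) Dv.df))))))))
(Tr.nd (nat_lit 5728) (Tr.nd (nat_lit 5718) (Tr.nd (nat_lit 5713) (Tr.nd (nat_lit 5710) (Tr.nd (nat_lit 5709) (Tr.lf (Fc.ed (nat_lit 5708) (nat_lit 2063) Col.d (nat_lit 1471) (Dv.wd (nat_lit 48) [Mv.f (nat_lit 4437), Mv.b (nat_lit 4339), Mv.f (nat_lit 4322), Mv.b (nat_lit 4319), Mv.b (nat_lit 2069), Mv.f (nat_lit 3280), Mv.b (nat_lit 4847), Mv.b (nat_lit 5242), Mv.f (nat_lit 5707)])))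
(Tr.lf (Fc.ed (nat_lit 5709) (nat_lit 842) Col.g (nat_lit 2064) Dv.df)))
(Tr.nd (nat_lit 5711) (Tr.lf (Fc.ed (nat_lit 5710) (nat_lit 2064) Col.g (nat_lit 588) (Dv.wd (nat_lit 9) [Mv.f (nat_lit 3690), Mv.f (nat_lit 3692), Mv.f (nat_lit 5709)])))
(Tr.nd (nat_lit 5712) (Tr.lf (Fc.ed (nat_lit 5711) (nat_lit 1378) Col.g (nat_lit 2065) Dv.df))
(Tr.lf (Fc.ed (nat_lit 5712) (nat_lit 2065) Col.g (nat_lit 664) (Dv.wd (nat_lit 9) [Mv.f (nat_lit 4166), Mv.b (nat_lit 4193), Mv.f (nat_lit 5711)]))))))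
(Tr.nd (nat_lit 5715) (Tr.nd (nat_lit 5714) (Tr.lf (Fc.ed (nat_lit 5713) (nat_lit 1940) Col.e (nat_lit 2066) Dv.df))
(Tr.lf (Fc.ed (nat_lit 5714) (nat_lit 1078) Col.gi (nat_lit 2067) Dv.df)))
(Tr.nd (nat_lit 5716) (Tr.lf (Fc.ed (nat_lit 5715) (nat_lit 2067) Col.gi (nat_lit 1527) (Dv.wd (nat_lit 24) [Mv.b (nat_lit 5536), Mv.b (nat_lit 5534), Mv.f (nat_lit 5714)])))
(Tr.nd (nat_lit 5717) (Tr.lf (Fc.ed (nat_lit 5716) (nat_lit 1838) Col.d (nat_lit 2068) Dv.df))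
(Tr.lf (Fc.ed (nat_lit 5717) (nat_lit 2068) Col.b (nat_lit 1408) (Dv.wd (nat_lit 37) [Mv.f (nat_lit 4509), Mv.b (nat_lit 5246), Mv.f (nat_lit 5716)])))))))
(Tr.nd (nat_lit 5723) (Tr.nd (nat_lit 5720) (Tr.nd (nat_lit 5719) (Tr.lf (Fc.ed (nat_lit 5718) (nat_lit 2068) Col.e (nat_lit 1430) (Dv.wd (nat_lit 42) [Mv.b (nat_lit 4319), Mv.b (nat_lit 1890), Mv.f (nat_lit 4493), Mv.f (nat_lit 5245), Mv.f (nat_lit 5716)])))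
(Tr.lf (Fc.ed (nat_lit 5719) (nat_lit 1036) Col.g (nat_lit 2069) Dv.df)))
(Tr.nd (nat_lit 5721) (Tr.lf (Fc.ed (nat_lit 5720) (nat_lit 2069) Col.g (nat_lit 892) (Dv.wd (nat_lit 9) [Mv.b (nat_lit 4654), Mv.b (nat_lit 4656), Mv.f (nat_lit 5719)])))
(Tr.nd (nat_lit 5722) (Tr.lf (Fc.ed (nat_lit 5721) (nat_lit 932) Col.c (nat_lit 2070) Dv.df))
(Tr.lf (Fc.ed (nat_lit 5722) (nat_lit 1628) Col.a (nat_lit 2071) Dv.df)))))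
(Tr.nd (nat_lit 5725) (Tr.nd (nat_lit 5724) (Tr.lf (Fc.ed (nat_lit 5723) (nat_lit 2071) Col.d (nat_lit 562) (Dv.wd (nat_lit 28) [Mv.f (nat_lit 3412), Mv.f (nat_lit 4780), Mv.f (nat_lit 5722)])))
(Tr.lf (Fc.ed (nat_lit 5724) (nat_lit 2019) Col.gi (nat_lit 2072) Dv.df)))
(Tr.nd (nat_lit 5726) (Tr.lf (Fc.ed (nat_lit 5725) (nat_lit 1069) Col.a (nat_lit 2073) Dv.df))
(Tr.nd (nat_lit 5727) (Tr.lf (Fc.ed (nat_lit 5726) (nat_lit 2073) Col.c (nat_lit 1580) (Dv.wd (nat_lit 33) [Mv.b (nat_lit 4676), Mv.f (nat_lit 3308), Mv.f (nat_lit 5725)])))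
(Tr.lf (Fc.ed (nat_lit 5727) (nat_lit 2073) Col.f (nat_lit 2045) (Dv.wd (nat_lit 35) [Mv.b (nat_lit 5674), Mv.f (nat_lit 3384), Mv.f (nat_lit 5725)]))))))))
(Tr.nd (nat_lit 5738) (Tr.nd (nat_lit 5733) (Tr.nd (nat_lit 5730) (Tr.nd (nat_lit 5729) (Tr.lf (Fc.ed (nat_lit 5728) (nat_lit 1642) Col.gi (nat_lit 2073) (Dv.wd (nat_lit 24) [Mv.f (nat_lit 5727), Mv.b (nat_lit 5674), Mv.f (nat_lit 4807)])))
(Tr.lf (Fc.ed (nat_lit 5729) (nat_lit 1051) Col.b (nat_lit 2074) Dv.df)))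
(Tr.nd (nat_lit 5731) (Tr.lf (Fc.ed (nat_lit 5730) (nat_lit 1857) Col.b (nat_lit 2075) Dv.df))
(Tr.nd (nat_lit 5732) (Tr.lf (Fc.ed (nat_lit 5731) (nat_lit 2075) Col.e (nat_lit 1291) (Dv.wd (nat_lit 52) [Mv.f (nat_lit 3959), Mv.f (nat_lit 5288), Mv.f (nat_lit 5730)])))
(Tr.lf (Fc.ed (nat_lit 5732) (nat_lit 1237) Col.c (nat_lit 2075) (Dv.wd (nat_lit 109) [Mv.f (nat_lit 5731), Mv.b (nat_lit 3940), Mv.f (nat_lit 3806)]))))))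
(Tr.nd (nat_lit 5735) (Tr.nd (nat_lit 5734) (Tr.lf (Fc.ed (nat_lit 5733) (nat_lit 1981) Col.d (nat_lit 2076) Dv.df))
(Tr.lf (Fc.ed (nat_lit 5734) (nat_lit 2076) Col.a (nat_lit 1034) (Dv.wd (nat_lit 8) [Mv.f (nat_lit 3223), Mv.f (nat_lit 5543), Mv.f (nat_lit 5733)]))))
(Tr.nd (nat_lit 5736) (Tr.lf (Fc.ed (nat_lit 5735) (nat_lit 1992) Col.b (nat_lit 2077) Dv.df))
(Tr.nd (nat_lit 5737) (Tr.lf (Fc.ed (nat_lit 5736) (nat_lit 1998) Col.d (nat_lit 2078) Dv.df))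
(Tr.lf (Fc.ed (nat_lit 5737) (nat_lit 2078) Col.a (nat_lit 2078) (Dv.wd (nat_lit 8) [Mv.b (nat_lit 5736), Mv.f (nat_lit 5582), Mv.f (nat_lit 5736)])))))))
(Tr.nd (nat_lit 5743) (Tr.nd (nat_lit 5740) (Tr.nd (nat_lit 5739) (Tr.lf (Fc.ed (nat_lit 5738) (nat_lit 2078) Col.f (nat_lit 1269) (Dv.wd (nat_lit 11) [Mv.f (nat_lit 3885), Mv.f (nat_lit 5581), Mv.f (nat_lit 5736)])))
(Tr.lf (Fc.ed (nat_lit 5739) (nat_lit 2078) Col.e (nat_lit 2004) (Dv.wd (nat_lit 74) [Mv.b (nat_lit 5592), Mv.b (nat_lit 3251), Mv.b (nat_lit 758), Mv.f (nat_lit 455), Mv.f (nat_lit 475), Mv.b (nat_lit 582), Mv.f (nat_lit 3582), Mv.f (nat_lit 3701), Mv.b (nat_lit 5583), Mv.f (nat_lit 5736)]))))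
(Tr.nd (nat_lit 5741) (Tr.lf (Fc.ed (nat_lit 5740) (nat_lit 2004) Col.a (nat_lit 2004) (Dv.wd (nat_lit 15) [Mv.b (nat_lit 5739), Mv.f (nat_lit 5737), Mv.f (nat_lit 5739)])))
(Tr.nd (nat_lit 5742) (Tr.lf (Fc.ed (nat_lit 5741) (nat_lit 2004) Col.f (nat_lit 1194) (Dv.wd (nat_lit 96) [Mv.b (nat_lit 3681), Mv.b (nat_lit 3827), Mv.f (nat_lit 3883), Mv.b (nat_lit 5738), Mv.f (nat_lit 5739)])))
(Tr.lf (Fc.ed (nat_lit 5742) (nat_lit 2073) Col.e (nat_lit 2079) Dv.df)))))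
(Tr.nd (nat_lit 5746) (Tr.nd (nat_lit 5744) (Tr.lf (Fc.ed (nat_lit 5743) (nat_lit 2079) Col.a (nat_lit 1056) (Dv.wd (nat_lit 15) [Mv.f (nat_lit 3310), Mv.f (nat_lit 5725), Mv.f (nat_lit 5742)])))
(Tr.nd (nat_lit 5745) (Tr.lf (Fc.ed (nat_lit 5744) (nat_lit 2079) Col.c (nat_lit 1117) (Dv.wd (nat_lit 18) [Mv.b (nat_lit 4678), Mv.b (nat_lit 5726), Mv.f (nat_lit 5742)])))
(Tr.lf (Fc.ed (nat_lit 5745) (nat_lit 1184) Col.e (nat_lit 2080) Dv.df))))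
(Tr.nd (nat_lit 5747) (Tr.lf (Fc.ed (nat_lit 5746) (nat_lit 2008) Col.f (nat_lit 2081) Dv.df))
(Tr.nd (nat_lit 5748) (Tr.lf (Fc.ed (nat_lit 5747) (nat_lit 2081) Col.b (nat_lit 1026) (Dv.wd (nat_lit 66) [Mv.f (nat_lit 3203), Mv.b (nat_lit 5598), Mv.f (nat_lit 5746)])))
(Tr.lf (Fc.ed (nat_lit 5748) (nat_lit 2081) Col.d (nat_lit 2039) (Dv.wd (nat_lit 21) [Mv.f (nat_lit 5661), Mv.f (nat_lit 5597), Mv.f (nat_lit 5746)])))))))))))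
(Tr.nd (nat_lit 5831) (Tr.nd (nat_lit 5790) (Tr.nd (nat_lit 5769) (Tr.nd (nat_lit 5759) (Tr.nd (nat_lit 5754) (Tr.nd (nat_lit 5751) (Tr.nd (nat_lit 5750) (Tr.lf (Fc.ed (nat_lit 5749) (nat_lit 1866) Col.a (nat_lit 2082) Dv.df))
(Tr.lf (Fc.ed (nat_lit 5750) (nat_lit 2082) Col.c (nat_lit 1392) (Dv.wd (nat_lit 33) [Mv.f (nat_lit 4222), Mv.b (nat_lit 5308), Mv.f (nat_lit 5749)]))))
(Tr.nd (nat_lit 5752) (Tr.lf (Fc.ed (nat_lit 5751) (nat_lit 1365) Col.e (nat_lit 2083) Dv.df))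
(Tr.nd (nat_lit 5753) (Tr.lf (Fc.ed (nat_lit 5752) (nat_lit 2083) Col.a (nat_lit 2083) (Dv.wd (nat_lit 15) [Mv.b (nat_lit 5751), Mv.f (nat_lit 4164), Mv.f (nat_lit 5751)])))
(Tr.lf (Fc.ed (nat_lit 5753) (nat_lit 2083) Col.c (nat_lit 1949) (Dv.wd (nat_lit 18) [Mv.b (nat_lit 5472), Mv.b (nat_lit 4163), Mv.f (nat_lit 5751)]))))))
(Tr.nd (nat_lit 5756) (Tr.nd (nat_lit 5755) (Tr.lf (Fc.ed (nat_lit 5754) (nat_lit 2083) Col.gi (nat_lit 1269) (Dv.wd (nat_lit 132) [Mv.b (nat_lit 3883), Mv.f (nat_lit 3828), Mv.f (nat_lit 2905), Mv.b (nat_lit 3559), Mv.f (nat_lit 3557), Mv.f (nat_lit 3389), Mv.f (nat_lit 3366), Mv.b (nat_lit 3717), Mv.b (nat_lit 4162), Mv.f (nat_lit 5751)])))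
(Tr.lf (Fc.ed (nat_lit 5755) (nat_lit 1188) Col.gi (nat_lit 2084) Dv.df)))
(Tr.nd (nat_lit 5757) (Tr.lf (Fc.ed (nat_lit 5756) (nat_lit 1018) Col.gi (nat_lit 2085) Dv.df))
(Tr.nd (nat_lit 5758) (Tr.lf (Fc.ed (nat_lit 5757) (nat_lit 2085) Col.f (nat_lit 1427) (Dv.wd (nat_lit 13) [Mv.f (nat_lit 4314), Mv.b (nat_lit 4311), Mv.f (nat_lit 5756)])))
(Tr.lf (Fc.ed (nat_lit 5758) (nat_lit 2085) Col.a (nat_lit 2085) (Dv.wd (nat_lit 79) [Mv.f (nat_lit 5757), Mv.f (nat_lit 4314), Mv.b (nat_lit 5757)])))))))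
(Tr.nd (nat_lit 5764) (Tr.nd (nat_lit 5761) (Tr.nd (nat_lit 5760) (Tr.lf (Fc.ed (nat_lit 5759) (nat_lit 1658) Col.f (nat_lit 2086) Dv.df))
(Tr.lf (Fc.ed (nat_lit 5760) (nat_lit 1960) Col.f (nat_lit 2087) Dv.df)))
(Tr.nd (nat_lit 5762) (Tr.lf (Fc.ed (nat_lit 5761) (nat_lit 2087) Col.a (nat_lit 1865) (Dv.wd (nat_lit 23) [Mv.f (nat_lit 5306), Mv.b (nat_lit 5497), Mv.f (nat_lit 5760)])))
(Tr.nd (nat_lit 5763) (Tr.lf (Fc.ed (nat_lit 5762) (nat_lit 1252) Col.e (nat_lit 2088) Dv.df))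
(Tr.lf (Fc.ed (nat_lit 5763) (nat_lit 2088) Col.a (nat_lit 1605) (Dv.wd (nat_lit 15) [Mv.b (nat_lit 4718), Mv.f (nat_lit 3844), Mv.f (nat_lit 5762)]))))))
(Tr.nd (nat_lit 5766) (Tr.nd (nat_lit 5765) (Tr.lf (Fc.ed (nat_lit 5764) (nat_lit 1995) Col.a (nat_lit 2089) Dv.df))
(Tr.lf (Fc.ed (nat_lit 5765) (nat_lit 2089) Col.c (nat_lit 969) (Dv.wd (nat_lit 33) [Mv.f (nat_lit 3052), Mv.b (nat_lit 5575), Mv.f (nat_lit 5764)]))))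
(Tr.nd (nat_lit 5767) (Tr.lf (Fc.ed (nat_lit 5766) (nat_lit 1029) Col.e (nat_lit 2090) Dv.df))
(Tr.nd (nat_lit 5768) (Tr.lf (Fc.ed (nat_lit 5767) (nat_lit 1406) Col.g (nat_lit 2091) Dv.df))
(Tr.lf (Fc.ed (nat_lit 5768) (nat_lit 1117) Col.gi (nat_lit 2092) Dv.df)))))))
(Tr.nd (nat_lit 5779) (Tr.nd (nat_lit 5774) (Tr.nd (nat_lit 5771) (Tr.nd (nat_lit 5770) (Tr.lf (Fc.ed (nat_lit 5769) (nat_lit 2092) Col.gi (nat_lit 1139) (Dv.wd (nat_lit 24) [Mv.b (nat_lit 3495), Mv.f (nat_lit 3444), Mv.f (nat_lit 5768)])))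
(Tr.lf (Fc.ed (nat_lit 5770) (nat_lit 1261) Col.g (nat_lit 2093) Dv.df)))
(Tr.nd (nat_lit 5772) (Tr.lf (Fc.ed (nat_lit 5771) (nat_lit 2093) Col.g (nat_lit 1981) (Dv.wd (nat_lit 9) [Mv.b (nat_lit 5543), Mv.b (nat_lit 3863), Mv.f (nat_lit 5770)])))
(Tr.nd (nat_lit 5773) (Tr.lf (Fc.ed (nat_lit 5772) (nat_lit 1470) Col.gi (nat_lit 2094) Dv.df))
(Tr.lf (Fc.ed (nat_lit 5773) (nat_lit 2073) Col.b (nat_lit 2095) Dv.df)))))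
(Tr.nd (nat_lit 5776) (Tr.nd (nat_lit 5775) (Tr.lf (Fc.ed (nat_lit 5774) (nat_lit 2095) Col.a (nat_lit 1603) (Dv.wd (nat_lit 98) [Mv.b (nat_lit 4713), Mv.b (nat_lit 2291), Mv.b (nat_lit 3309), Mv.f (nat_lit 5725), Mv.f (nat_lit 5773)])))
(Tr.lf (Fc.ed (nat_lit 5775) (nat_lit 1534) Col.c (nat_lit 2096) Dv.df)))
(Tr.nd (nat_lit 5777) (Tr.lf (Fc.ed (nat_lit 5776) (nat_lit 2096) Col.a (nat_lit 1568) (Dv.wd (nat_lit 19) [Mv.b (nat_lit 4645), Mv.b (nat_lit 4572), Mv.f (nat_lit 5775)])))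
(Tr.nd (nat_lit 5778) (Tr.lf (Fc.ed (nat_lit 5777) (nat_lit 1530) Col.a (nat_lit 2097) Dv.df))
(Tr.lf (Fc.ed (nat_lit 5778) (nat_lit 2097) Col.c (nat_lit 2097) (Dv.wd (nat_lit 33) [Mv.b (nat_lit 5777), Mv.f (nat_lit 4562), Mv.f (nat_lit 5777)])))))))
(Tr.nd (nat_lit 5784) (Tr.nd (nat_lit 5781) (Tr.nd (nat_lit 5780) (Tr.lf (Fc.ed (nat_lit 5779) (nat_lit 2097) Col.e (nat_lit 2095) (Dv.wd (nat_lit 56) [Mv.f (nat_lit 5774), Mv.f (nat_lit 4714), Mv.f (nat_lit 5777)])))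
(Tr.lf (Fc.ed (nat_lit 5780) (nat_lit 2097) Col.b (nat_lit 2079) (Dv.wd (nat_lit 65) [Mv.f (nat_lit 5743), Mv.b (nat_lit 3273), Mv.f (nat_lit 2252), Mv.f (nat_lit 4560), Mv.f (nat_lit 5777)]))))
(Tr.nd (nat_lit 5782) (Tr.lf (Fc.ed (nat_lit 5781) (nat_lit 1956) Col.c (nat_lit 2098) Dv.df))
(Tr.nd (nat_lit 5783) (Tr.lf (Fc.ed (nat_lit 5782) (nat_lit 2098) Col.a (nat_lit 1938) (Dv.wd (nat_lit 19) [Mv.f (nat_lit 5452), Mv.b (nat_lit 5486), Mv.f (nat_lit 5781)])))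
(Tr.lf (Fc.ed (nat_lit 5783) (nat_lit 2098) Col.f (nat_lit 1913) (Dv.wd (nat_lit 26) [Mv.b (nat_lit 5452), Mv.f (nat_lit 5484), Mv.f (nat_lit 5781)]))))))
(Tr.nd (nat_lit 5787) (Tr.nd (nat_lit 5785) (Tr.lf (Fc.ed (nat_lit 5784) (nat_lit 988) Col.g (nat_lit 2099) Dv.df))
(Tr.nd (nat_lit 5786) (Tr.lf (Fc.ed (nat_lit 5785) (nat_lit 2099) Col.g (nat_lit 1081) (Dv.wd (nat_lit 9) [Mv.b (nat_lit 4285), Mv.b (nat_lit 4284), Mv.f (nat_lit 5784)])))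
(Tr.lf (Fc.ed (nat_lit 5786) (nat_lit 1615) Col.f (nat_lit 2100) Dv.df))))
(Tr.nd (nat_lit 5788) (Tr.lf (Fc.ed (nat_lit 5787) (nat_lit 1571) Col.g (nat_lit 2101) Dv.df))
(Tr.nd (nat_lit 5789) (Tr.lf (Fc.ed (nat_lit 5788) (nat_lit 2101) Col.g (nat_lit 832) (Dv.wd (nat_lit 9) [Mv.f (nat_lit 3226), Mv.f (nat_lit 4656), Mv.f (nat_lit 5787)])))
(Tr.lf (Fc.ed (nat_lit 5789) (nat_lit 687) Col.gi (nat_lit 2102) Dv.df))))))))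
(Tr.nd (nat_lit 5810) (Tr.nd (nat_lit 5800) (Tr.nd (nat_lit 5795) (Tr.nd (nat_lit 5792) (Tr.nd (nat_lit 5791) (Tr.lf (Fc.ed (nat_lit 5790) (nat_lit 2102) Col.gi (nat_lit 1467) (Dv.wd (nat_lit 24) [Mv.f (nat_lit 4427), Mv.b (nat_lit 4334), Mv.f (nat_lit 5789)])))
(Tr.lf (Fc.ed (nat_lit 5791) (nat_lit 1712) Col.e (nat_lit 2103) Dv.df)))
(Tr.nd (nat_lit 5793) (Tr.lf (Fc.ed (nat_lit 5792) (nat_lit 2103) Col.a (nat_lit 2103) (Dv.wd (nat_lit 15) [Mv.b (nat_lit 5791), Mv.f (nat_lit 4972), Mv.f (nat_lit 5791)])))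
(Tr.nd (nat_lit 5794) (Tr.lf (Fc.ed (nat_lit 5793) (nat_lit 2103) Col.c (nat_lit 1151) (Dv.wd (nat_lit 18) [Mv.b (nat_lit 3696), Mv.f (nat_lit 4971), Mv.f (nat_lit 5791)])))
(Tr.lf (Fc.ed (nat_lit 5794) (nat_lit 1431) Col.g (nat_lit 2104) Dv.df)))))
(Tr.nd (nat_lit 5797) (Tr.nd (nat_lit 5796) (Tr.lf (Fc.ed (nat_lit 5795) (nat_lit 2102) Col.c (nat_lit 2105) Dv.df))
(Tr.lf (Fc.ed (nat_lit 5796) (nat_lit 2105) Col.b (nat_lit 2007) (Dv.wd (nat_lit 101) [Mv.b (nat_lit 5596), Mv.f (nat_lit 3119), Mv.b (nat_lit 1200), Mv.f (nat_lit 1872), Mv.f (nat_lit 943), Mv.b (nat_lit 830), Mv.b (nat_lit 2019), Mv.f (nat_lit 2020), Mv.f (nat_lit 5789), Mv.f (nat_lit 5795)]))))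
(Tr.nd (nat_lit 5798) (Tr.lf (Fc.ed (nat_lit 5797) (nat_lit 1309) Col.c (nat_lit 2106) Dv.df))
(Tr.nd (nat_lit 5799) (Tr.lf (Fc.ed (nat_lit 5798) (nat_lit 2106) Col.a (nat_lit 2025) (Dv.wd (nat_lit 19) [Mv.b (nat_lit 5631), Mv.f (nat_lit 3977), Mv.f (nat_lit 5797)])))
(Tr.lf (Fc.ed (nat_lit 5799) (nat_lit 1993) Col.e (nat_lit 2107) Dv.df))))))
(Tr.nd (nat_lit 5805) (Tr.nd (nat_lit 5802) (Tr.nd (nat_lit 5801) (Tr.lf (Fc.ed (nat_lit 5800) (nat_lit 2107) Col.c (nat_lit 1605) (Dv.wd (nat_lit 18) [Mv.b (nat_lit 4718), Mv.f (nat_lit 5570), Mv.f (nat_lit 5799)])))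
(Tr.lf (Fc.ed (nat_lit 5801) (nat_lit 2083) Col.d (nat_lit 2108) Dv.df)))
(Tr.nd (nat_lit 5803) (Tr.lf (Fc.ed (nat_lit 5802) (nat_lit 1044) Col.g (nat_lit 2109) Dv.df))
(Tr.nd (nat_lit 5804) (Tr.lf (Fc.ed (nat_lit 5803) (nat_lit 2109) Col.g (nat_lit 2038) (Dv.wd (nat_lit 9) [Mv.b (nat_lit 5655), Mv.b (nat_lit 3451), Mv.f (nat_lit 5802)])))
(Tr.lf (Fc.ed (nat_lit 5804) (nat_lit 1883) Col.f (nat_lit 2110) Dv.df)))))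
(Tr.nd (nat_lit 5807) (Tr.nd (nat_lit 5806) (Tr.lf (Fc.ed (nat_lit 5805) (nat_lit 2110) Col.b (nat_lit 868) (Dv.wd (nat_lit 66) [Mv.b (nat_lit 3750), Mv.f (nat_lit 5343), Mv.f (nat_lit 5804)])))
(Tr.lf (Fc.ed (nat_lit 5806) (nat_lit 892) Col.c (nat_lit 2111) Dv.df)))
(Tr.nd (nat_lit 5808) (Tr.lf (Fc.ed (nat_lit 5807) (nat_lit 2111) Col.b (nat_lit 1993) (Dv.wd (nat_lit 87) [Mv.b (nat_lit 5570), Mv.b (nat_lit 3360), Mv.b (nat_lit 822), Mv.b (nat_lit 2855), Mv.f (nat_lit 5806)])))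
(Tr.nd (nat_lit 5809) (Tr.lf (Fc.ed (nat_lit 5808) (nat_lit 1299) Col.f (nat_lit 2111) (Dv.wd (nat_lit 125) [Mv.f (nat_lit 5807), Mv.f (nat_lit 5571), Mv.f (nat_lit 3959)])))
(Tr.lf (Fc.ed (nat_lit 5809) (nat_lit 2111) Col.a (nat_lit 2086) (Dv.wd (nat_lit 16) [Mv.b (nat_lit 5759), Mv.b (nat_lit 4845), Mv.f (nat_lit 5808)]))))))))
(Tr.nd (nat_lit 5820) (Tr.nd (nat_lit 5815) (Tr.nd (nat_lit 5812) (Tr.nd (nat_lit 5811) (Tr.lf (Fc.ed (nat_lit 5810) (nat_lit 832) Col.c (nat_lit 1299) (Dv.wd (nat_lit 67) [Mv.f (nat_lit 5808), Mv.b (nat_lit 5806), Mv.f (nat_lit 2856)])))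
(Tr.lf (Fc.ed (nat_lit 5811) (nat_lit 1658) Col.c (nat_lit 1036) (Dv.wd (nat_lit 33) [Mv.b (nat_lit 3226), Mv.f (nat_lit 5810), Mv.f (nat_lit 4845)]))))
(Tr.nd (nat_lit 5813) (Tr.lf (Fc.ed (nat_lit 5812) (nat_lit 1857) Col.c (nat_lit 945) (Dv.wd (nat_lit 109) [Mv.b (nat_lit 2993), Mv.f (nat_lit 5810), Mv.f (nat_lit 5288)])))
(Tr.nd (nat_lit 5814) (Tr.lf (Fc.ed (nat_lit 5813) (nat_lit 1677) Col.c (nat_lit 1982) (Dv.wd (nat_lit 33) [Mv.f (nat_lit 5546), Mv.f (nat_lit 5812), Mv.f (nat_lit 4889)])))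
(Tr.lf (Fc.ed (nat_lit 5814) (nat_lit 895) Col.b (nat_lit 1237) (Dv.wd (nat_lit 158) [Mv.f (nat_lit 5732), Mv.b (nat_lit 5730), Mv.f (nat_lit 5812), Mv.f (nat_lit 3574), Mv.f (nat_lit 2861)]))))))
(Tr.nd (nat_lit 5817) (Tr.nd (nat_lit 5816) (Tr.lf (Fc.ed (nat_lit 5815) (nat_lit 1504) Col.b (nat_lit 926) (Dv.wd (nat_lit 126) [Mv.b (nat_lit 2942), Mv.f (nat_lit 5814), Mv.b (nat_lit 4508)])))
(Tr.lf (Fc.ed (nat_lit 5816) (nat_lit 359) Col.e (nat_lit 895) (Dv.wd (nat_lit 82) [Mv.f (nat_lit 5814), Mv.b (nat_lit 3806), Mv.b (nat_lit 3199)]))))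
(Tr.nd (nat_lit 5818) (Tr.lf (Fc.ed (nat_lit 5817) (nat_lit 1829) Col.b (nat_lit 1730) (Dv.wd (nat_lit 107) [Mv.f (nat_lit 5018), Mv.f (nat_lit 5814), Mv.f (nat_lit 5227)])))
(Tr.nd (nat_lit 5819) (Tr.lf (Fc.ed (nat_lit 5818) (nat_lit 1904) Col.b (nat_lit 2006) (Dv.wd (nat_lit 127) [Mv.f (nat_lit 5595), Mv.f (nat_lit 5817), Mv.f (nat_lit 5380)])))
(Tr.lf (Fc.ed (nat_lit 5819) (nat_lit 1195) Col.f (nat_lit 1904) (Dv.wd (nat_lit 125) [Mv.f (nat_lit 5818), Mv.b (nat_lit 5594), Mv.f (nat_lit 4719)])))))))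
(Tr.nd (nat_lit 5825) (Tr.nd (nat_lit 5822) (Tr.nd (nat_lit 5821) (Tr.lf (Fc.ed (nat_lit 5820) (nat_lit 1904) Col.d (nat_lit 1409) (Dv.wd (nat_lit 21) [Mv.b (nat_lit 4266), Mv.f (nat_lit 4721), Mv.f (nat_lit 5819)])))
(Tr.lf (Fc.ed (nat_lit 5821) (nat_lit 1904) Col.gi (nat_lit 1342) (Dv.wd (nat_lit 12) [Mv.b (nat_lit 4052), Mv.f (nat_lit 5819), Mv.f (nat_lit 5381)]))))
(Tr.nd (nat_lit 5823) (Tr.lf (Fc.ed (nat_lit 5822) (nat_lit 1566) Col.d (nat_lit 1595) (Dv.wd (nat_lit 39) [Mv.b (nat_lit 4702), Mv.f (nat_lit 5020), Mv.f (nat_lit 5380), Mv.f (nat_lit 5820), Mv.b (nat_lit 5508), Mv.f (nat_lit 5509), Mv.b (nat_lit 5072), Mv.b (nat_lit 4638), Mv.b (nat_lit 4567), Mv.b (nat_lit 4641)])))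
(Tr.nd (nat_lit 5824) (Tr.lf (Fc.ed (nat_lit 5823) (nat_lit 1595) Col.a (nat_lit 1595) (Dv.wd (nat_lit 8) [Mv.b (nat_lit 5822), Mv.f (nat_lit 4643), Mv.f (nat_lit 5822)])))
(Tr.lf (Fc.ed (nat_lit 5824) (nat_lit 1595) Col.f (nat_lit 1413) (Dv.wd (nat_lit 11) [Mv.b (nat_lit 4275), Mv.b (nat_lit 4642), Mv.f (nat_lit 5822)]))))))
(Tr.nd (nat_lit 5828) (Tr.nd (nat_lit 5826) (Tr.lf (Fc.ed (nat_lit 5825) (nat_lit 1698) Col.e (nat_lit 1550) (Dv.wd (nat_lit 146) [Mv.f (nat_lit 4605), Mv.f (nat_lit 4281), Mv.f (nat_lit 3543), Mv.b (nat_lit 3434), Mv.f (nat_lit 1104), Mv.b (nat_lit 2094), Mv.b (nat_lit 2189), Mv.f (nat_lit 4640), Mv.f (nat_lit 5822), Mv.f (nat_lit 4936)])))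
(Tr.nd (nat_lit 5827) (Tr.lf (Fc.ed (nat_lit 5826) (nat_lit 1698) Col.a (nat_lit 1698) (Dv.wd (nat_lit 31) [Mv.f (nat_lit 5825), Mv.f (nat_lit 4604), Mv.b (nat_lit 5825)])))
(Tr.lf (Fc.ed (nat_lit 5827) (nat_lit 1254) Col.e (nat_lit 1795) (Dv.wd (nat_lit 25) [Mv.b (nat_lit 5161), Mv.f (nat_lit 5825), Mv.b (nat_lit 4603)])))))
(Tr.nd (nat_lit 5829) (Tr.lf (Fc.ed (nat_lit 5828) (nat_lit 1413) Col.g (nat_lit 1698) (Dv.wd (nat_lit 38) [Mv.f (nat_lit 5825), Mv.f (nat_lit 4605), Mv.b (nat_lit 4280), Mv.f (nat_lit 3542), Mv.f (nat_lit 3541), Mv.b (nat_lit 3772), Mv.f (nat_lit 3817), Mv.f (nat_lit 4097), Mv.b (nat_lit 4123), Mv.b (nat_lit 4277)])))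
(Tr.nd (nat_lit 5830) (Tr.lf (Fc.ed (nat_lit 5829) (nat_lit 1795) Col.a (nat_lit 1795) (Dv.wd (nat_lit 15) [Mv.b (nat_lit 5827), Mv.f (nat_lit 3849), Mv.f (nat_lit 5827)])))
(Tr.lf (Fc.ed (nat_lit 5830) (nat_lit 2005) Col.e (nat_lit 1154) (Dv.wd (nat_lit 42) [Mv.f (nat_lit 3559), Mv.f (nat_lit 3520), Mv.f (nat_lit 3848), Mv.f (nat_lit 5827), Mv.f (nat_lit 5593)]))))))))))
(Tr.nd (nat_lit 5872) (Tr.nd (nat_lit 5851) (Tr.nd (nat_lit 5841) (Tr.nd (nat_lit 5836) (Tr.nd (nat_lit 5833) (Tr.nd (nat_lit 5832) (Tr.lf (Fc.ed (nat_lit 5831) (nat_lit 1795) Col.gi (nat_lit 1850) (Dv.wd (nat_lit 132) [Mv.b (nat_lit 5272), Mv.f (nat_lit 4035), Mv.b (nat_lit 4050), Mv.b (nat_lit 4047), Mv.b (nat_lit 3652), Mv.b (nat_lit 3389), Mv.f (nat_lit 3388), Mv.f (nat_lit 3472), Mv.f (nat_lit 3848), Mv.f (nat_lit 5827)])))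
(Tr.lf (Fc.ed (nat_lit 5832) (nat_lit 1776) Col.gi (nat_lit 1795) (Dv.wd (nat_lit 132) [Mv.b (nat_lit 5827), Mv.b (nat_lit 3848), Mv.f (nat_lit 3473), Mv.f (nat_lit 947), Mv.f (nat_lit 3556), Mv.b (nat_lit 5830), Mv.b (nat_lit 5593), Mv.f (nat_lit 5831), Mv.f (nat_lit 5274), Mv.b (nat_lit 5275)]))))
(Tr.nd (nat_lit 5834) (Tr.lf (Fc.ed (nat_lit 5833) (nat_lit 735) Col.gi (nat_lit 1466) (Dv.wd (nat_lit 111) [Mv.f (nat_lit 5125), Mv.f (nat_lit 5832), Mv.b (nat_lit 5161), Mv.b (nat_lit 4936), Mv.b (nat_lit 5822), Mv.b (nat_lit 4640), Mv.f (nat_lit 2189), Mv.b (nat_lit 2092), Mv.f (nat_lit 2138)])))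
(Tr.nd (nat_lit 5835) (Tr.lf (Fc.ed (nat_lit 5834) (nat_lit 1680) Col.f (nat_lit 735) (Dv.wd (nat_lit 13) [Mv.f (nat_lit 2139), Mv.f (nat_lit 5833), Mv.f (nat_lit 4898)])))
(Tr.lf (Fc.ed (nat_lit 5835) (nat_lit 1466) Col.f (nat_lit 1794) (Dv.wd (nat_lit 13) [Mv.f (nat_lit 5276), Mv.b (nat_lit 5160), Mv.f (nat_lit 5833)]))))))
(Tr.nd (nat_lit 5838) (Tr.nd (nat_lit 5837) (Tr.lf (Fc.ed (nat_lit 5836) (nat_lit 1794) Col.c (nat_lit 2004) (Dv.wd (nat_lit 34) [Mv.f (nat_lit 5741), Mv.b (nat_lit 4423), Mv.f (nat_lit 5835)])))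
(Tr.lf (Fc.ed (nat_lit 5837) (nat_lit 1794) Col.g (nat_lit 1680) (Dv.wd (nat_lit 17) [Mv.b (nat_lit 4898), Mv.f (nat_lit 4422), Mv.f (nat_lit 5835)]))))
(Tr.nd (nat_lit 5839) (Tr.lf (Fc.ed (nat_lit 5838) (nat_lit 1536) Col.d (nat_lit 1487) (Dv.wd (nat_lit 92) [Mv.b (nat_lit 4472), Mv.f (nat_lit 3800), Mv.b (nat_lit 4423), Mv.f (nat_lit 4422), Mv.f (nat_lit 5835), Mv.b (nat_lit 5274), Mv.f (nat_lit 5273), Mv.f (nat_lit 3885), Mv.f (nat_lit 4576)])))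
(Tr.nd (nat_lit 5840) (Tr.lf (Fc.ed (nat_lit 5839) (nat_lit 1776) Col.c (nat_lit 2078) (Dv.wd (nat_lit 148) [Mv.b (nat_lit 5736), Mv.b (nat_lit 5581), Mv.f (nat_lit 3733), Mv.f (nat_lit 4576), Mv.f (nat_lit 5838), Mv.b (nat_lit 4472), Mv.f (nat_lit 3800), Mv.b (nat_lit 4423), Mv.f (nat_lit 5125)])))
(Tr.lf (Fc.ed (nat_lit 5840) (nat_lit 1680) Col.a (nat_lit 1680) (Dv.wd (nat_lit 114) [Mv.f (nat_lit 5834), Mv.f (nat_lit 5160), Mv.f (nat_lit 5837)])))))))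
(Tr.nd (nat_lit 5846) (Tr.nd (nat_lit 5843) (Tr.nd (nat_lit 5842) (Tr.lf (Fc.ed (nat_lit 5841) (nat_lit 1753) Col.a (nat_lit 1753) (Dv.wd (nat_lit 54) [Mv.b (nat_lit 5073), Mv.f (nat_lit 5840), Mv.f (nat_lit 5073)])))
(Tr.lf (Fc.ed (nat_lit 5842) (nat_lit 1728) Col.a (nat_lit 1728) (Dv.wd (nat_lit 31) [Mv.b (nat_lit 5013), Mv.f (nat_lit 5840), Mv.f (nat_lit 5013)]))))
(Tr.nd (nat_lit 5844) (Tr.lf (Fc.ed (nat_lit 5843) (nat_lit 1901) Col.b (nat_lit 1901) (Dv.wd (nat_lit 159) [Mv.b (nat_lit 5377), Mv.b (nat_lit 4899), Mv.f (nat_lit 5840), Mv.f (nat_lit 4899), Mv.f (nat_lit 5377)])))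
(Tr.nd (nat_lit 5845) (Tr.lf (Fc.ed (nat_lit 5844) (nat_lit 1812) Col.a (nat_lit 1812) (Dv.wd (nat_lit 54) [Mv.b (nat_lit 5192), Mv.f (nat_lit 5842), Mv.f (nat_lit 5192)])))
(Tr.lf (Fc.ed (nat_lit 5845) (nat_lit 1884) Col.a (nat_lit 1884) (Dv.wd (nat_lit 31) [Mv.b (nat_lit 5344), Mv.f (nat_lit 5844), Mv.f (nat_lit 5344)]))))))
(Tr.nd (nat_lit 5848) (Tr.nd (nat_lit 5847) (Tr.lf (Fc.ed (nat_lit 5846) (nat_lit 1952) Col.a (nat_lit 1952) (Dv.wd (nat_lit 54) [Mv.f (nat_lit 5479), Mv.f (nat_lit 5845), Mv.b (nat_lit 5479)])))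
(Tr.lf (Fc.ed (nat_lit 5847) (nat_lit 945) Col.f (nat_lit 1681) (Dv.wd (nat_lit 20) [Mv.b (nat_lit 4899), Mv.f (nat_lit 5834), Mv.b (nat_lit 3574)]))))
(Tr.nd (nat_lit 5849) (Tr.lf (Fc.ed (nat_lit 5848) (nat_lit 1730) Col.c (nat_lit 1680) (Dv.wd (nat_lit 67) [Mv.f (nat_lit 5834), Mv.f (nat_lit 2861), Mv.b (nat_lit 5018)])))
(Tr.nd (nat_lit 5850) (Tr.lf (Fc.ed (nat_lit 5849) (nat_lit 686) Col.f (nat_lit 1753) (Dv.wd (nat_lit 11) [Mv.b (nat_lit 5073), Mv.f (nat_lit 5834), Mv.b (nat_lit 2138)])))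
(Tr.lf (Fc.ed (nat_lit 5850) (nat_lit 1753) Col.b (nat_lit 1766) (Dv.wd (nat_lit 66) [Mv.b (nat_lit 5106), Mv.f (nat_lit 3572), Mv.f (nat_lit 5849)]))))))))
(Tr.nd (nat_lit 5861) (Tr.nd (nat_lit 5856) (Tr.nd (nat_lit 5853) (Tr.nd (nat_lit 5852) (Tr.lf (Fc.ed (nat_lit 5851) (nat_lit 1753) Col.c (nat_lit 1493) (Dv.wd (nat_lit 34) [Mv.b (nat_lit 4481), Mv.b (nat_lit 2092), Mv.f (nat_lit 5849)])))
(Tr.lf (Fc.ed (nat_lit 5852) (nat_lit 1753) Col.g (nat_lit 1793) (Dv.wd (nat_lit 17) [Mv.b (nat_lit 5159), Mv.f (nat_lit 2017), Mv.f (nat_lit 5849)]))))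
(Tr.nd (nat_lit 5854) (Tr.lf (Fc.ed (nat_lit 5853) (nat_lit 1952) Col.f (nat_lit 1163) (Dv.wd (nat_lit 96) [Mv.b (nat_lit 3582), Mv.f (nat_lit 630), Mv.f (nat_lit 2016), Mv.f (nat_lit 5849), Mv.f (nat_lit 5478)])))
(Tr.nd (nat_lit 5855) (Tr.lf (Fc.ed (nat_lit 5854) (nat_lit 1928) Col.b (nat_lit 1952) (Dv.wd (nat_lit 107) [Mv.f (nat_lit 5853), Mv.f (nat_lit 3993), Mv.f (nat_lit 5431)])))
(Tr.lf (Fc.ed (nat_lit 5855) (nat_lit 1409) Col.c (nat_lit 1952) (Dv.wd (nat_lit 67) [Mv.f (nat_lit 5853), Mv.f (nat_lit 3870), Mv.f (nat_lit 4266)]))))))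
(Tr.nd (nat_lit 5858) (Tr.nd (nat_lit 5857) (Tr.lf (Fc.ed (nat_lit 5856) (nat_lit 1202) Col.f (nat_lit 1884) (Dv.wd (nat_lit 11) [Mv.b (nat_lit 5479), Mv.f (nat_lit 5853), Mv.f (nat_lit 3701)])))
(Tr.lf (Fc.ed (nat_lit 5857) (nat_lit 1884) Col.gi (nat_lit 1212) (Dv.wd (nat_lit 12) [Mv.f (nat_lit 3734), Mv.f (nat_lit 5856), Mv.f (nat_lit 5845)]))))
(Tr.nd (nat_lit 5859) (Tr.lf (Fc.ed (nat_lit 5858) (nat_lit 1884) Col.g (nat_lit 1998) (Dv.wd (nat_lit 17) [Mv.f (nat_lit 5583), Mv.f (nat_lit 3702), Mv.f (nat_lit 5856)])))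
(Tr.nd (nat_lit 5860) (Tr.lf (Fc.ed (nat_lit 5859) (nat_lit 1812) Col.f (nat_lit 1116) (Dv.wd (nat_lit 96) [Mv.f (nat_lit 3443), Mv.b (nat_lit 2479), Mv.b (nat_lit 3703), Mv.f (nat_lit 5856), Mv.b (nat_lit 5344)])))
(Tr.lf (Fc.ed (nat_lit 5860) (nat_lit 1047) Col.f (nat_lit 1728) (Dv.wd (nat_lit 11) [Mv.f (nat_lit 5192), Mv.f (nat_lit 5859), Mv.b (nat_lit 3441)])))))))
(Tr.nd (nat_lit 5866) (Tr.nd (nat_lit 5863) (Tr.nd (nat_lit 5862) (Tr.lf (Fc.ed (nat_lit 5861) (nat_lit 1728) Col.b (nat_lit 1674) (Dv.wd (nat_lit 66) [Mv.b (nat_lit 4886), Mv.f (nat_lit 3946), Mv.f (nat_lit 5860)])))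
(Tr.lf (Fc.ed (nat_lit 5862) (nat_lit 1728) Col.c (nat_lit 1904) (Dv.wd (nat_lit 34) [Mv.b (nat_lit 5819), Mv.f (nat_lit 3684), Mv.f (nat_lit 5860)]))))
(Tr.nd (nat_lit 5864) (Tr.lf (Fc.ed (nat_lit 5863) (nat_lit 1728) Col.gi (nat_lit 2004) (Dv.wd (nat_lit 12) [Mv.b (nat_lit 5592), Mv.f (nat_lit 5860), Mv.f (nat_lit 5842)])))
(Tr.nd (nat_lit 5865) (Tr.lf (Fc.ed (nat_lit 5864) (nat_lit 1728) Col.g (nat_lit 1194) (Dv.wd (nat_lit 17) [Mv.f (nat_lit 3682), Mv.f (nat_lit 3252), Mv.f (nat_lit 5860)])))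
(Tr.lf (Fc.ed (nat_lit 5865) (nat_lit 1674) Col.e (nat_lit 1681) (Dv.wd (nat_lit 52) [Mv.b (nat_lit 4899), Mv.f (nat_lit 5013), Mv.f (nat_lit 5861)]))))))
(Tr.nd (nat_lit 5869) (Tr.nd (nat_lit 5867) (Tr.lf (Fc.ed (nat_lit 5866) (nat_lit 1766) Col.d (nat_lit 1681) (Dv.wd (nat_lit 58) [Mv.b (nat_lit 4899), Mv.f (nat_lit 5073), Mv.f (nat_lit 5850)])))
(Tr.nd (nat_lit 5868) (Tr.lf (Fc.ed (nat_lit 5867) (nat_lit 1901) Col.f (nat_lit 1677) (Dv.wd (nat_lit 35) [Mv.b (nat_lit 4889), Mv.f (nat_lit 5847), Mv.f (nat_lit 5377)])))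
(Tr.lf (Fc.ed (nat_lit 5868) (nat_lit 2043) Col.gi (nat_lit 945) (Dv.wd (nat_lit 24) [Mv.f (nat_lit 5847), Mv.f (nat_lit 5377), Mv.f (nat_lit 5669)])))))
(Tr.nd (nat_lit 5870) (Tr.lf (Fc.ed (nat_lit 5869) (nat_lit 1681) Col.g (nat_lit 1823) (Dv.wd (nat_lit 17) [Mv.b (nat_lit 5216), Mv.b (nat_lit 4889), Mv.f (nat_lit 5847)])))
(Tr.nd (nat_lit 5871) (Tr.lf (Fc.ed (nat_lit 5870) (nat_lit 945) Col.gi (nat_lit 1911) (Dv.wd (nat_lit 12) [Mv.b (nat_lit 5394), Mv.f (nat_lit 5867), Mv.b (nat_lit 4889)])))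
(Tr.lf (Fc.ed (nat_lit 5871) (nat_lit 2005) Col.a (nat_lit 2005) (Dv.wd (nat_lit 31) [Mv.f (nat_lit 5830), Mv.f (nat_lit 3560), Mv.b (nat_lit 5830)])))))))))
(Tr.nd (nat_lit 5893) (Tr.nd (nat_lit 5882) (Tr.nd (nat_lit 5877) (Tr.nd (nat_lit 5874) (Tr.nd (nat_lit 5873) (Tr.lf (Fc.ed (nat_lit 5872) (nat_lit 1594) Col.a (nat_lit 1594) (Dv.wd (nat_lit 31) [Mv.f (nat_lit 4702), Mv.f (nat_lit 5823), Mv.b (nat_lit 4702)])))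
(Tr.lf (Fc.ed (nat_lit 5873) (nat_lit 1404) Col.f (nat_lit 1594) (Dv.wd (nat_lit 13) [Mv.f (nat_lit 5872), Mv.b (nat_lit 4701), Mv.f (nat_lit 4255)]))))
(Tr.nd (nat_lit 5875) (Tr.lf (Fc.ed (nat_lit 5874) (nat_lit 1372) Col.e (nat_lit 1404) (Dv.wd (nat_lit 57) [Mv.f (nat_lit 5873), Mv.f (nat_lit 4702), Mv.f (nat_lit 5824), Mv.f (nat_lit 4277), Mv.b (nat_lit 4176)])))
(Tr.nd (nat_lit 5876) (Tr.lf (Fc.ed (nat_lit 5875) (nat_lit 1404) Col.d (nat_lit 1452) (Dv.wd (nat_lit 59) [Mv.b (nat_lit 4396), Mv.b (nat_lit 4018), Mv.f (nat_lit 4054), Mv.b (nat_lit 4177), Mv.f (nat_lit 5874)])))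
(Tr.lf (Fc.ed (nat_lit 5876) (nat_lit 623) Col.e (nat_lit 926) (Dv.wd (nat_lit 146) [Mv.b (nat_lit 2942), Mv.f (nat_lit 4255), Mv.f (nat_lit 5875), Mv.b (nat_lit 4396), Mv.b (nat_lit 4016), Mv.f (nat_lit 1955), Mv.f (nat_lit 1956), Mv.f (nat_lit 517), Mv.b (nat_lit 2002), Mv.f (nat_lit 2001)]))))))
(Tr.nd (nat_lit 5879) (Tr.nd (nat_lit 5878) (Tr.lf (Fc.ed (nat_lit 5877) (nat_lit 926) Col.c (nat_lit 1513) (Dv.wd (nat_lit 18) [Mv.b (nat_lit 4526), Mv.b (nat_lit 2847), Mv.f (nat_lit 5876)])))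
(Tr.lf (Fc.ed (nat_lit 5878) (nat_lit 1655) Col.c (nat_lit 1532) (Dv.wd (nat_lit 80) [Mv.f (nat_lit 4567), Mv.b (nat_lit 5851), Mv.b (nat_lit 5073), Mv.b (nat_lit 5848), Mv.b (nat_lit 5016), Mv.b (nat_lit 4880), Mv.f (nat_lit 2943), Mv.f (nat_lit 5877), Mv.f (nat_lit 4837)]))))
(Tr.nd (nat_lit 5880) (Tr.lf (Fc.ed (nat_lit 5879) (nat_lit 1571) Col.c (nat_lit 2086) (Dv.wd (nat_lit 67) [Mv.b (nat_lit 5759), Mv.f (nat_lit 5811), Mv.f (nat_lit 4656)])))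
(Tr.nd (nat_lit 5881) (Tr.lf (Fc.ed (nat_lit 5880) (nat_lit 1863) Col.e (nat_lit 2112) Dv.df))
(Tr.lf (Fc.ed (nat_lit 5881) (nat_lit 2112) Col.a (nat_lit 1237) (Dv.wd (nat_lit 15) [Mv.b (nat_lit 3806), Mv.f (nat_lit 5299), Mv.f (nat_lit 5880)])))))))
(Tr.nd (nat_lit 5887) (Tr.nd (nat_lit 5884) (Tr.nd (nat_lit 5883) (Tr.lf (Fc.ed (nat_lit 5882) (nat_lit 1981) Col.f (nat_lit 2113) Dv.df))
(Tr.lf (Fc.ed (nat_lit 5883) (nat_lit 2113) Col.a (nat_lit 1261) (Dv.wd (nat_lit 16) [Mv.f (nat_lit 3863), Mv.f (nat_lit 5543), Mv.f (nat_lit 5882)]))))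
(Tr.nd (nat_lit 5885) (Tr.lf (Fc.ed (nat_lit 5884) (nat_lit 2113) Col.b (nat_lit 2113) (Dv.wd (nat_lit 66) [Mv.b (nat_lit 5882), Mv.f (nat_lit 5544), Mv.f (nat_lit 5882)])))
(Tr.nd (nat_lit 5886) (Tr.lf (Fc.ed (nat_lit 5885) (nat_lit 1457) Col.gi (nat_lit 2114) Dv.df))
(Tr.lf (Fc.ed (nat_lit 5886) (nat_lit 2039) Col.c (nat_lit 2115) Dv.df)))))
(Tr.nd (nat_lit 5890) (Tr.nd (nat_lit 5888) (Tr.lf (Fc.ed (nat_lit 5887) (nat_lit 2115) Col.b (nat_lit 1131) (Dv.wd (nat_lit 87) [Mv.b (nat_lit 3479), Mv.b (nat_lit 2284), Mv.f (nat_lit 3121), Mv.f (nat_lit 5660), Mv.f (nat_lit 5886)])))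
(Tr.nd (nat_lit 5889) (Tr.lf (Fc.ed (nat_lit 5888) (nat_lit 1948) Col.a (nat_lit 2116) Dv.df))
(Tr.lf (Fc.ed (nat_lit 5889) (nat_lit 2116) Col.e (nat_lit 2031) (Dv.wd (nat_lit 56) [Mv.b (nat_lit 5641), Mv.f (nat_lit 5471), Mv.f (nat_lit 5888)])))))
(Tr.nd (nat_lit 5891) (Tr.lf (Fc.ed (nat_lit 5890) (nat_lit 1006) Col.c (nat_lit 2117) Dv.df))
(Tr.nd (nat_lit 5892) (Tr.lf (Fc.ed (nat_lit 5891) (nat_lit 1967) Col.d (nat_lit 2118) Dv.df))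
(Tr.lf (Fc.ed (nat_lit 5892) (nat_lit 2118) Col.c (nat_lit 2063) (Dv.wd (nat_lit 80) [Mv.f (nat_lit 5708), Mv.b (nat_lit 4436), Mv.b (nat_lit 3960), Mv.f (nat_lit 2117), Mv.f (nat_lit 4319), Mv.b (nat_lit 4496), Mv.f (nat_lit 4494), Mv.f (nat_lit 5511), Mv.f (nat_lit 5891)]))))))))
(Tr.nd (nat_lit 5903) (Tr.nd (nat_lit 5898) (Tr.nd (nat_lit 5895) (Tr.nd (nat_lit 5894) (Tr.lf (Fc.ed (nat_lit 5893) (nat_lit 1526) Col.a (nat_lit 2119) Dv.df))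
(Tr.lf (Fc.ed (nat_lit 5894) (nat_lit 2119) Col.f (nat_lit 2012) (Dv.wd (nat_lit 10) [Mv.f (nat_lit 5605), Mv.b (nat_lit 4555), Mv.f (nat_lit 5893)]))))
(Tr.nd (nat_lit 5896) (Tr.lf (Fc.ed (nat_lit 5895) (nat_lit 1645) Col.a (nat_lit 2120) Dv.df))
(Tr.nd (nat_lit 5897) (Tr.lf (Fc.ed (nat_lit 5896) (nat_lit 2120) Col.f (nat_lit 2102) (Dv.wd (nat_lit 10) [Mv.b (nat_lit 5789), Mv.b (nat_lit 4812), Mv.f (nat_lit 5895)])))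
(Tr.lf (Fc.ed (nat_lit 5897) (nat_lit 1917) Col.b (nat_lit 2121) Dv.df)))))
(Tr.nd (nat_lit 5900) (Tr.nd (nat_lit 5899) (Tr.lf (Fc.ed (nat_lit 5898) (nat_lit 2121) Col.c (nat_lit 2114) (Dv.wd (nat_lit 135) [Mv.b (nat_lit 5885), Mv.f (nat_lit 4405), Mv.b (nat_lit 1002), Mv.b (nat_lit 168), Mv.f (nat_lit 37), Mv.b (nat_lit 1776), Mv.f (nat_lit 446), Mv.f (nat_lit 2840), Mv.b (nat_lit 5406), Mv.f (nat_lit 5897)])))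
(Tr.lf (Fc.ed (nat_lit 5899) (nat_lit 1634) Col.e (nat_lit 2122) Dv.df)))
(Tr.nd (nat_lit 5901) (Tr.lf (Fc.ed (nat_lit 5900) (nat_lit 2122) Col.b (nat_lit 1136) (Dv.wd (nat_lit 49) [Mv.f (nat_lit 3486), Mv.f (nat_lit 4791), Mv.f (nat_lit 5899)])))
(Tr.nd (nat_lit 5902) (Tr.lf (Fc.ed (nat_lit 5901) (nat_lit 1042) Col.e (nat_lit 2123) Dv.df))
(Tr.lf (Fc.ed (nat_lit 5902) (nat_lit 2123) Col.c (nat_lit 951) (Dv.wd (nat_lit 18) [Mv.b (nat_lit 3006), Mv.f (nat_lit 3239), Mv.f (nat_lit 5901)])))))))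
(Tr.nd (nat_lit 5908) (Tr.nd (nat_lit 5905) (Tr.nd (nat_lit 5904) (Tr.lf (Fc.ed (nat_lit 5903) (nat_lit 1040) Col.gi (nat_lit 2124) Dv.df))
(Tr.lf (Fc.ed (nat_lit 5904) (nat_lit 1491) Col.f (nat_lit 2125) Dv.df)))
(Tr.nd (nat_lit 5906) (Tr.lf (Fc.ed (nat_lit 5905) (nat_lit 2125) Col.a (nat_lit 1716) (Dv.wd (nat_lit 16) [Mv.f (nat_lit 4990), Mv.b (nat_lit 4888), Mv.f (nat_lit 5904)])))
(Tr.nd (nat_lit 5907) (Tr.lf (Fc.ed (nat_lit 5906) (nat_lit 890) Col.gi (nat_lit 2126) Dv.df))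
(Tr.lf (Fc.ed (nat_lit 5907) (nat_lit 2126) Col.f (nat_lit 2002) (Dv.wd (nat_lit 13) [Mv.b (nat_lit 5590), Mv.f (nat_lit 5462), Mv.f (nat_lit 5906)]))))))
(Tr.nd (nat_lit 5911) (Tr.nd (nat_lit 5909) (Tr.lf (Fc.ed (nat_lit 5908) (nat_lit 1790) Col.f (nat_lit 2127) Dv.df))
(Tr.nd (nat_lit 5910) (Tr.lf (Fc.ed (nat_lit 5909) (nat_lit 2127) Col.d (nat_lit 954) (Dv.wd (nat_lit 21) [Mv.f (nat_lit 3014), Mv.b (nat_lit 5155), Mv.f (nat_lit 5908)])))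
(Tr.lf (Fc.ed (nat_lit 5910) (nat_lit 639) Col.c (nat_lit 2128) Dv.df))))
(Tr.nd (nat_lit 5912) (Tr.lf (Fc.ed (nat_lit 5911) (nat_lit 2128) Col.f (nat_lit 2050) (Dv.wd (nat_lit 26) [Mv.b (nat_lit 5683), Mv.b (nat_lit 3060), Mv.f (nat_lit 5910)])))
(Tr.nd (nat_lit 5913) (Tr.lf (Fc.ed (nat_lit 5912) (nat_lit 958) Col.e (nat_lit 2129) Dv.df))
(Tr.lf (Fc.ed (nat_lit 5913) (nat_lit 2129) Col.a (nat_lit 2129) (Dv.wd (nat_lit 15) [Mv.b (nat_lit 5912), Mv.f (nat_lit 3023), Mv.f (nat_lit 5912)])))))))))))))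
(Tr.nd (nat_lit 6242) (Tr.nd (nat_lit 6078) (Tr.nd (nat_lit 5996) (Tr.nd (nat_lit 5955) (Tr.nd (nat_lit 5934) (Tr.nd (nat_lit 5924) (Tr.nd (nat_lit 5919) (Tr.nd (nat_lit 5916) (Tr.nd (nat_lit 5915) (Tr.lf (Fc.ed (nat_lit 5914) (nat_lit 2129) Col.c (nat_lit 1116) (Dv.wd (nat_lit 18) [Mv.f (nat_lit 3443), Mv.f (nat_lit 3022), Mv.f (nat_lit 5912)])))
(Tr.lf (Fc.ed (nat_lit 5915) (nat_lit 1949) Col.d (nat_lit 2130) Dv.df)))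
(Tr.nd (nat_lit 5917) (Tr.lf (Fc.ed (nat_lit 5916) (nat_lit 2130) Col.e (nat_lit 1223) (Dv.wd (nat_lit 42) [Mv.f (nat_lit 3817), Mv.f (nat_lit 3820), Mv.b (nat_lit 4134), Mv.f (nat_lit 5472), Mv.f (nat_lit 5915)])))
(Tr.nd (nat_lit 5918) (Tr.lf (Fc.ed (nat_lit 5917) (nat_lit 1949) Col.g (nat_lit 1599) (Dv.wd (nat_lit 38) [Mv.b (nat_lit 4707), Mv.b (nat_lit 4983), Mv.b (nat_lit 5473), Mv.f (nat_lit 5915), Mv.f (nat_lit 5916), Mv.b (nat_lit 3771), Mv.b (nat_lit 1555), Mv.f (nat_lit 3596), Mv.b (nat_lit 4134), Mv.f (nat_lit 5472)])))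
(Tr.lf (Fc.ed (nat_lit 5918) (nat_lit 1599) Col.f (nat_lit 1714) (Dv.wd (nat_lit 10) [Mv.b (nat_lit 5473), Mv.f (nat_lit 5917), Mv.f (nat_lit 4985)]))))))
(Tr.nd (nat_lit 5921) (Tr.nd (nat_lit 5920) (Tr.lf (Fc.ed (nat_lit 5919) (nat_lit 1595) Col.c (nat_lit 1599) (Dv.wd (nat_lit 67) [Mv.f (nat_lit 5918), Mv.f (nat_lit 4982), Mv.b (nat_lit 5824)])))
(Tr.lf (Fc.ed (nat_lit 5920) (nat_lit 1342) Col.c (nat_lit 1594) (Dv.wd (nat_lit 109) [Mv.f (nat_lit 4702), Mv.f (nat_lit 5919), Mv.b (nat_lit 4707)]))))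
(Tr.nd (nat_lit 5922) (Tr.lf (Fc.ed (nat_lit 5921) (nat_lit 2080) Col.c (nat_lit 2130) (Dv.wd (nat_lit 109) [Mv.f (nat_lit 5916), Mv.b (nat_lit 3775), Mv.f (nat_lit 5745)])))
(Tr.nd (nat_lit 5923) (Tr.lf (Fc.ed (nat_lit 5922) (nat_lit 1907) Col.a (nat_lit 2131) Dv.df))
(Tr.lf (Fc.ed (nat_lit 5923) (nat_lit 2131) Col.c (nat_lit 1251) (Dv.wd (nat_lit 33) [Mv.b (nat_lit 4820), Mv.f (nat_lit 5386), Mv.f (nat_lit 5922)])))))))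
(Tr.nd (nat_lit 5929) (Tr.nd (nat_lit 5926) (Tr.nd (nat_lit 5925) (Tr.lf (Fc.ed (nat_lit 5924) (nat_lit 2131) Col.e (nat_lit 1201) (Dv.wd (nat_lit 56) [Mv.f (nat_lit 3699), Mv.b (nat_lit 5387), Mv.f (nat_lit 5922)])))
(Tr.lf (Fc.ed (nat_lit 5925) (nat_lit 1034) Col.gi (nat_lit 2132) Dv.df)))
(Tr.nd (nat_lit 5927) (Tr.lf (Fc.ed (nat_lit 5926) (nat_lit 1884) Col.c (nat_lit 2133) Dv.df))
(Tr.nd (nat_lit 5928) (Tr.lf (Fc.ed (nat_lit 5927) (nat_lit 2133) Col.a (nat_lit 2133) (Dv.wd (nat_lit 19) [Mv.b (nat_lit 5926), Mv.f (nat_lit 5845), Mv.f (nat_lit 5926)])))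
(Tr.lf (Fc.ed (nat_lit 5928) (nat_lit 2133) Col.d (nat_lit 2129) (Dv.wd (nat_lit 147) [Mv.f (nat_lit 5914), Mv.b (nat_lit 3441), Mv.b (nat_lit 3684), Mv.b (nat_lit 4721), Mv.b (nat_lit 3870), Mv.f (nat_lit 3701), Mv.f (nat_lit 5856), Mv.f (nat_lit 5845), Mv.f (nat_lit 5926)]))))))
(Tr.nd (nat_lit 5931) (Tr.nd (nat_lit 5930) (Tr.lf (Fc.ed (nat_lit 5929) (nat_lit 1984) Col.b (nat_lit 2134) Dv.df))
(Tr.lf (Fc.ed (nat_lit 5930) (nat_lit 455) Col.e (nat_lit 2135) Dv.df)))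
(Tr.nd (nat_lit 5932) (Tr.lf (Fc.ed (nat_lit 5931) (nat_lit 1849) Col.f (nat_lit 2136) Dv.df))
(Tr.nd (nat_lit 5933) (Tr.lf (Fc.ed (nat_lit 5932) (nat_lit 2136) Col.d (nat_lit 2136) (Dv.wd (nat_lit 21) [Mv.b (nat_lit 5931), Mv.f (nat_lit 5271), Mv.f (nat_lit 5931)])))
(Tr.lf (Fc.ed (nat_lit 5933) (nat_lit 2089) Col.f (nat_lit 2137) Dv.df)))))))
(Tr.nd (nat_lit 5944) (Tr.nd (nat_lit 5939) (Tr.nd (nat_lit 5936) (Tr.nd (nat_lit 5935) (Tr.lf (Fc.ed (nat_lit 5934) (nat_lit 2137) Col.a (nat_lit 1814) (Dv.wd (nat_lit 16) [Mv.f (nat_lit 5574), Mv.f (nat_lit 5764), Mv.f (nat_lit 5933)])))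
(Tr.lf (Fc.ed (nat_lit 5935) (nat_lit 1107) Col.g (nat_lit 2138) Dv.df)))
(Tr.nd (nat_lit 5937) (Tr.lf (Fc.ed (nat_lit 5936) (nat_lit 2138) Col.g (nat_lit 911) (Dv.wd (nat_lit 9) [Mv.f (nat_lit 5364), Mv.f (nat_lit 5366), Mv.f (nat_lit 5935)])))
(Tr.nd (nat_lit 5938) (Tr.lf (Fc.ed (nat_lit 5937) (nat_lit 2126) Col.c (nat_lit 2139) Dv.df))
(Tr.lf (Fc.ed (nat_lit 5938) (nat_lit 1230) Col.c (nat_lit 2140) Dv.df)))))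
(Tr.nd (nat_lit 5941) (Tr.nd (nat_lit 5940) (Tr.lf (Fc.ed (nat_lit 5939) (nat_lit 2140) Col.a (nat_lit 1945) (Dv.wd (nat_lit 19) [Mv.f (nat_lit 5466), Mv.f (nat_lit 4320), Mv.f (nat_lit 5938)])))
(Tr.lf (Fc.ed (nat_lit 5940) (nat_lit 2140) Col.f (nat_lit 1967) (Dv.wd (nat_lit 26) [Mv.b (nat_lit 5511), Mv.b (nat_lit 4202), Mv.f (nat_lit 5938)]))))
(Tr.nd (nat_lit 5942) (Tr.lf (Fc.ed (nat_lit 5941) (nat_lit 2140) Col.gi (nat_lit 1770) (Dv.wd (nat_lit 78) [Mv.b (nat_lit 5114), Mv.f (nat_lit 4953), Mv.b (nat_lit 4389), Mv.b (nat_lit 3660), Mv.f (nat_lit 3737), Mv.b (nat_lit 3735), Mv.f (nat_lit 3307), Mv.b (nat_lit 3794), Mv.f (nat_lit 5938)])))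
(Tr.nd (nat_lit 5943) (Tr.lf (Fc.ed (nat_lit 5942) (nat_lit 1048) Col.c (nat_lit 2141) Dv.df))
(Tr.lf (Fc.ed (nat_lit 5943) (nat_lit 2141) Col.a (nat_lit 1783) (Dv.wd (nat_lit 19) [Mv.f (nat_lit 5137), Mv.f (nat_lit 3253), Mv.f (nat_lit 5942)])))))))
(Tr.nd (nat_lit 5949) (Tr.nd (nat_lit 5946) (Tr.nd (nat_lit 5945) (Tr.lf (Fc.ed (nat_lit 5944) (nat_lit 2141) Col.f (nat_lit 1787) (Dv.wd (nat_lit 26) [Mv.b (nat_lit 5146), Mv.f (nat_lit 4408), Mv.f (nat_lit 5942)])))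
(Tr.lf (Fc.ed (nat_lit 5945) (nat_lit 2141) Col.d (nat_lit 2098) (Dv.wd (nat_lit 147) [Mv.b (nat_lit 5781), Mv.f (nat_lit 5485), Mv.b (nat_lit 5003), Mv.b (nat_lit 2232), Mv.f (nat_lit 2040), Mv.f (nat_lit 2232), Mv.f (nat_lit 2946), Mv.f (nat_lit 3253), Mv.f (nat_lit 5942)]))))
(Tr.nd (nat_lit 5947) (Tr.lf (Fc.ed (nat_lit 5946) (nat_lit 910) Col.gi (nat_lit 2142) Dv.df))
(Tr.nd (nat_lit 5948) (Tr.lf (Fc.ed (nat_lit 5947) (nat_lit 2142) Col.gi (nat_lit 1496) (Dv.wd (nat_lit 24) [Mv.b (nat_lit 5105), Mv.b (nat_lit 5104), Mv.f (nat_lit 5946)])))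
(Tr.lf (Fc.ed (nat_lit 5948) (nat_lit 1141) Col.e (nat_lit 2143) Dv.df)))))
(Tr.nd (nat_lit 5952) (Tr.nd (nat_lit 5950) (Tr.lf (Fc.ed (nat_lit 5949) (nat_lit 2143) Col.c (nat_lit 1386) (Dv.wd (nat_lit 18) [Mv.b (nat_lit 4207), Mv.b (nat_lit 3500), Mv.f (nat_lit 5948)])))
(Tr.nd (nat_lit 5951) (Tr.lf (Fc.ed (nat_lit 5950) (nat_lit 1441) Col.f (nat_lit 2144) Dv.df))
(Tr.lf (Fc.ed (nat_lit 5951) (nat_lit 2144) Col.e (nat_lit 1566) (Dv.wd (nat_lit 22) [Mv.f (nat_lit 4642), Mv.f (nat_lit 3486), Mv.b (nat_lit 4106), Mv.b (nat_lit 4347), Mv.f (nat_lit 5950)])))))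
(Tr.nd (nat_lit 5953) (Tr.lf (Fc.ed (nat_lit 5952) (nat_lit 1695) Col.e (nat_lit 2145) Dv.df))
(Tr.nd (nat_lit 5954) (Tr.lf (Fc.ed (nat_lit 5953) (nat_lit 1164) Col.f (nat_lit 2146) Dv.df))
(Tr.lf (Fc.ed (nat_lit 5954) (nat_lit 1857) Col.f (nat_lit 2147) Dv.df))))))))
(Tr.nd (nat_lit 5975) (Tr.nd (nat_lit 5965) (Tr.nd (nat_lit 5960) (Tr.nd (nat_lit 5957) (Tr.nd (nat_lit 5956) (Tr.lf (Fc.ed (nat_lit 5955) (nat_lit 2147) Col.c (nat_lit 1681) (Dv.wd (nat_lit 34) [Mv.b (nat_lit 5847), Mv.b (nat_lit 5812), Mv.f (nat_lit 5954)])))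
(Tr.lf (Fc.ed (nat_lit 5956) (nat_lit 1880) Col.d (nat_lit 2148) Dv.df)))
(Tr.nd (nat_lit 5958) (Tr.lf (Fc.ed (nat_lit 5957) (nat_lit 2148) Col.a (nat_lit 1785) (Dv.wd (nat_lit 8) [Mv.f (nat_lit 5142), Mv.b (nat_lit 5337), Mv.f (nat_lit 5956)])))
(Tr.nd (nat_lit 5959) (Tr.lf (Fc.ed (nat_lit 5958) (nat_lit 2148) Col.f (nat_lit 1777) (Dv.wd (nat_lit 11) [Mv.b (nat_lit 5127), Mv.b (nat_lit 5338), Mv.f (nat_lit 5956)])))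
(Tr.lf (Fc.ed (nat_lit 5959) (nat_lit 1088) Col.gi (nat_lit 2149) Dv.df)))))
(Tr.nd (nat_lit 5962) (Tr.nd (nat_lit 5961) (Tr.lf (Fc.ed (nat_lit 5960) (nat_lit 2149) Col.gi (nat_lit 1863) (Dv.wd (nat_lit 24) [Mv.f (nat_lit 5300), Mv.b (nat_lit 3844), Mv.f (nat_lit 5959)])))
(Tr.lf (Fc.ed (nat_lit 5961) (nat_lit 679) Col.e (nat_lit 2150) Dv.df)))
(Tr.nd (nat_lit 5963) (Tr.lf (Fc.ed (nat_lit 5962) (nat_lit 2150) Col.d (nat_lit 2150) (Dv.wd (nat_lit 59) [Mv.b (nat_lit 5961), Mv.f (nat_lit 1993), Mv.f (nat_lit 1070), Mv.b (nat_lit 1993), Mv.f (nat_lit 5961)])))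
(Tr.nd (nat_lit 5964) (Tr.lf (Fc.ed (nat_lit 5963) (nat_lit 1741) Col.f (nat_lit 2151) Dv.df))
(Tr.lf (Fc.ed (nat_lit 5964) (nat_lit 2151) Col.a (nat_lit 2069) (Dv.wd (nat_lit 23) [Mv.b (nat_lit 5719), Mv.f (nat_lit 5044), Mv.f (nat_lit 5963)])))))))
(Tr.nd (nat_lit 5970) (Tr.nd (nat_lit 5967) (Tr.nd (nat_lit 5966) (Tr.lf (Fc.ed (nat_lit 5965) (nat_lit 1025) Col.gi (nat_lit 2152) Dv.df))
(Tr.lf (Fc.ed (nat_lit 5966) (nat_lit 2152) Col.gi (nat_lit 1252) (Dv.wd (nat_lit 24) [Mv.b (nat_lit 5300), Mv.b (nat_lit 5299), Mv.f (nat_lit 5965)]))))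
(Tr.nd (nat_lit 5968) (Tr.lf (Fc.ed (nat_lit 5967) (nat_lit 1760) Col.g (nat_lit 2153) Dv.df))
(Tr.nd (nat_lit 5969) (Tr.lf (Fc.ed (nat_lit 5968) (nat_lit 2153) Col.g (nat_lit 954) (Dv.wd (nat_lit 9) [Mv.b (nat_lit 5356), Mv.b (nat_lit 5355), Mv.f (nat_lit 5967)])))
(Tr.lf (Fc.ed (nat_lit 5969) (nat_lit 1328) Col.c (nat_lit 2154) Dv.df)))))
(Tr.nd (nat_lit 5972) (Tr.nd (nat_lit 5971) (Tr.lf (Fc.ed (nat_lit 5970) (nat_lit 1450) Col.b (nat_lit 2155) Dv.df))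
(Tr.lf (Fc.ed (nat_lit 5971) (nat_lit 701) Col.e (nat_lit 2156) Dv.df)))
(Tr.nd (nat_lit 5973) (Tr.lf (Fc.ed (nat_lit 5972) (nat_lit 2156) Col.a (nat_lit 2150) (Dv.wd (nat_lit 15) [Mv.b (nat_lit 5961), Mv.f (nat_lit 2057), Mv.f (nat_lit 5971)])))
(Tr.nd (nat_lit 5974) (Tr.lf (Fc.ed (nat_lit 5973) (nat_lit 2156) Col.b (nat_lit 2156) (Dv.wd (nat_lit 49) [Mv.b (nat_lit 5971), Mv.f (nat_lit 2058), Mv.f (nat_lit 5971)])))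
(Tr.lf (Fc.ed (nat_lit 5974) (nat_lit 2156) Col.d (nat_lit 2156) (Dv.wd (nat_lit 59) [Mv.b (nat_lit 5971), Mv.f (nat_lit 2056), Mv.f (nat_lit 686), Mv.b (nat_lit 2056), Mv.f (nat_lit 5971)]))))))))
(Tr.nd (nat_lit 5985) (Tr.nd (nat_lit 5980) (Tr.nd (nat_lit 5977) (Tr.nd (nat_lit 5976) (Tr.lf (Fc.ed (nat_lit 5975) (nat_lit 1242) Col.gi (nat_lit 2157) Dv.df))
(Tr.lf (Fc.ed (nat_lit 5976) (nat_lit 2157) Col.gi (nat_lit 1179) (Dv.wd (nat_lit 24) [Mv.f (nat_lit 3641), Mv.f (nat_lit 3821), Mv.f (nat_lit 5975)]))))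
(Tr.nd (nat_lit 5978) (Tr.lf (Fc.ed (nat_lit 5977) (nat_lit 2085) Col.c (nat_lit 2158) Dv.df))
(Tr.nd (nat_lit 5979) (Tr.lf (Fc.ed (nat_lit 5978) (nat_lit 2158) Col.a (nat_lit 2158) (Dv.wd (nat_lit 19) [Mv.b (nat_lit 5977), Mv.f (nat_lit 5758), Mv.f (nat_lit 5977)])))
(Tr.lf (Fc.ed (nat_lit 5979) (nat_lit 2158) Col.f (nat_lit 1406) (Dv.wd (nat_lit 26) [Mv.f (nat_lit 4315), Mv.b (nat_lit 5757), Mv.f (nat_lit 5977)]))))))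
(Tr.nd (nat_lit 5982) (Tr.nd (nat_lit 5981) (Tr.lf (Fc.ed (nat_lit 5980) (nat_lit 2091) Col.g (nat_lit 2158) (Dv.wd (nat_lit 9) [Mv.f (nat_lit 5978), Mv.f (nat_lit 5979), Mv.f (nat_lit 5767)])))
(Tr.lf (Fc.ed (nat_lit 5981) (nat_lit 1252) Col.gi (nat_lit 2159) Dv.df)))
(Tr.nd (nat_lit 5983) (Tr.lf (Fc.ed (nat_lit 5982) (nat_lit 2159) Col.gi (nat_lit 1025) (Dv.wd (nat_lit 24) [Mv.b (nat_lit 3362), Mv.f (nat_lit 3844), Mv.f (nat_lit 5981)])))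
(Tr.nd (nat_lit 5984) (Tr.lf (Fc.ed (nat_lit 5983) (nat_lit 1202) Col.c (nat_lit 2160) Dv.df))
(Tr.lf (Fc.ed (nat_lit 5984) (nat_lit 2160) Col.a (nat_lit 2160) (Dv.wd (nat_lit 19) [Mv.b (nat_lit 5983), Mv.f (nat_lit 3702), Mv.f (nat_lit 5983)])))))))
(Tr.nd (nat_lit 5990) (Tr.nd (nat_lit 5987) (Tr.nd (nat_lit 5986) (Tr.lf (Fc.ed (nat_lit 5985) (nat_lit 2160) Col.f (nat_lit 2133) (Dv.wd (nat_lit 26) [Mv.b (nat_lit 5926), Mv.b (nat_lit 5856), Mv.f (nat_lit 5983)])))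
(Tr.lf (Fc.ed (nat_lit 5986) (nat_lit 1668) Col.f (nat_lit 2161) Dv.df)))
(Tr.nd (nat_lit 5988) (Tr.lf (Fc.ed (nat_lit 5987) (nat_lit 2161) Col.d (nat_lit 2161) (Dv.wd (nat_lit 21) [Mv.b (nat_lit 5986), Mv.f (nat_lit 4872), Mv.f (nat_lit 5986)])))
(Tr.nd (nat_lit 5989) (Tr.lf (Fc.ed (nat_lit 5988) (nat_lit 2021) Col.a (nat_lit 2162) Dv.df))
(Tr.lf (Fc.ed (nat_lit 5989) (nat_lit 1851) Col.b (nat_lit 2163) Dv.df)))))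
(Tr.nd (nat_lit 5993) (Tr.nd (nat_lit 5991) (Tr.lf (Fc.ed (nat_lit 5990) (nat_lit 2163) Col.e (nat_lit 1970) (Dv.wd (nat_lit 52) [Mv.b (nat_lit 5520), Mv.b (nat_lit 5278), Mv.f (nat_lit 5989)])))
(Tr.nd (nat_lit 5992) (Tr.lf (Fc.ed (nat_lit 5991) (nat_lit 2160) Col.d (nat_lit 2164) Dv.df))
(Tr.lf (Fc.ed (nat_lit 5992) (nat_lit 2164) Col.a (nat_lit 2164) (Dv.wd (nat_lit 8) [Mv.b (nat_lit 5991), Mv.f (nat_lit 5984), Mv.f (nat_lit 5991)])))))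
(Tr.nd (nat_lit 5994) (Tr.lf (Fc.ed (nat_lit 5993) (nat_lit 2164) Col.f (nat_lit 2129) (Dv.wd (nat_lit 11) [Mv.b (nat_lit 5928), Mv.b (nat_lit 5985), Mv.f (nat_lit 5991)])))
(Tr.nd (nat_lit 5995) (Tr.lf (Fc.ed (nat_lit 5994) (nat_lit 2164) Col.c (nat_lit 1812) (Dv.wd (nat_lit 80) [Mv.b (nat_lit 5192), Mv.f (nat_lit 5862), Mv.f (nat_lit 5820), Mv.f (nat_lit 5855), Mv.f (nat_lit 5479), Mv.b (nat_lit 5856), Mv.f (nat_lit 3702), Mv.f (nat_lit 5983), Mv.f (nat_lit 5991)])))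
(Tr.lf (Fc.ed (nat_lit 5995) (nat_lit 1252) Col.c (nat_lit 2165) Dv.df)))))))))
(Tr.nd (nat_lit 6037) (Tr.nd (nat_lit 6016) (Tr.nd (nat_lit 6006) (Tr.nd (nat_lit 6001) (Tr.nd (nat_lit 5998) (Tr.nd (nat_lit 5997) (Tr.lf (Fc.ed (nat_lit 5996) (nat_lit 2165) Col.a (nat_lit 1993) (Dv.wd (nat_lit 19) [Mv.b (nat_lit 5570), Mv.f (nat_lit 3844), Mv.f (nat_lit 5995)])))
(Tr.lf (Fc.ed (nat_lit 5997) (nat_lit 1793) Col.c (nat_lit 2166) Dv.df)))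
(Tr.nd (nat_lit 5999) (Tr.lf (Fc.ed (nat_lit 5998) (nat_lit 2166) Col.g (nat_lit 1163) (Dv.wd (nat_lit 145) [Mv.f (nat_lit 3701), Mv.b (nat_lit 3734), Mv.b (nat_lit 3885), Mv.b (nat_lit 5273), Mv.f (nat_lit 5274), Mv.b (nat_lit 5160), Mv.b (nat_lit 2138), Mv.f (nat_lit 5159), Mv.f (nat_lit 5997)])))
(Tr.nd (nat_lit 6000) (Tr.lf (Fc.ed (nat_lit 5999) (nat_lit 1952) Col.g (nat_lit 2166) (Dv.wd (nat_lit 17) [Mv.f (nat_lit 5998), Mv.f (nat_lit 3583), Mv.b (nat_lit 5853)])))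
(Tr.lf (Fc.ed (nat_lit 6000) (nat_lit 2160) Col.g (nat_lit 2167) Dv.df)))))
(Tr.nd (nat_lit 6003) (Tr.nd (nat_lit 6002) (Tr.lf (Fc.ed (nat_lit 6001) (nat_lit 2167) Col.g (nat_lit 2133) (Dv.wd (nat_lit 9) [Mv.f (nat_lit 5927), Mv.b (nat_lit 5985), Mv.f (nat_lit 6000)])))
(Tr.lf (Fc.ed (nat_lit 6002) (nat_lit 1565) Col.c (nat_lit 2168) Dv.df)))
(Tr.nd (nat_lit 6004) (Tr.lf (Fc.ed (nat_lit 6003) (nat_lit 2168) Col.gi (nat_lit 1264) (Dv.wd (nat_lit 141) [Mv.f (nat_lit 4721), Mv.f (nat_lit 4052), Mv.f (nat_lit 5920), Mv.f (nat_lit 5020), Mv.f (nat_lit 5848), Mv.f (nat_lit 5073), Mv.f (nat_lit 5851), Mv.f (nat_lit 4638), Mv.f (nat_lit 6002)])))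
(Tr.nd (nat_lit 6005) (Tr.lf (Fc.ed (nat_lit 6004) (nat_lit 1409) Col.gi (nat_lit 2168) (Dv.wd (nat_lit 12) [Mv.f (nat_lit 6003), Mv.f (nat_lit 4266), Mv.f (nat_lit 4267)])))
(Tr.lf (Fc.ed (nat_lit 6005) (nat_lit 1136) Col.c (nat_lit 2167) (Dv.wd (nat_lit 138) [Mv.f (nat_lit 6001), Mv.b (nat_lit 5926), Mv.b (nat_lit 5479), Mv.b (nat_lit 5855), Mv.f (nat_lit 6004), Mv.b (nat_lit 6002), Mv.f (nat_lit 4639), Mv.b (nat_lit 2189), Mv.f (nat_lit 3485)])))))))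
(Tr.nd (nat_lit 6011) (Tr.nd (nat_lit 6008) (Tr.nd (nat_lit 6007) (Tr.lf (Fc.ed (nat_lit 6006) (nat_lit 2167) Col.a (nat_lit 2167) (Dv.wd (nat_lit 19) [Mv.b (nat_lit 6005), Mv.f (nat_lit 4108), Mv.f (nat_lit 6005)])))
(Tr.lf (Fc.ed (nat_lit 6007) (nat_lit 2156) Col.f (nat_lit 2169) Dv.df)))
(Tr.nd (nat_lit 6009) (Tr.lf (Fc.ed (nat_lit 6008) (nat_lit 2169) Col.d (nat_lit 2169) (Dv.wd (nat_lit 21) [Mv.b (nat_lit 6007), Mv.f (nat_lit 5974), Mv.f (nat_lit 6007)])))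
(Tr.nd (nat_lit 6010) (Tr.lf (Fc.ed (nat_lit 6009) (nat_lit 1939) Col.c (nat_lit 2170) Dv.df))
(Tr.lf (Fc.ed (nat_lit 6010) (nat_lit 2170) Col.b (nat_lit 1277) (Dv.wd (nat_lit 87) [Mv.f (nat_lit 3902), Mv.b (nat_lit 3675), Mv.f (nat_lit 4589), Mv.f (nat_lit 5453), Mv.f (nat_lit 6009)]))))))
(Tr.nd (nat_lit 6013) (Tr.nd (nat_lit 6012) (Tr.lf (Fc.ed (nat_lit 6011) (nat_lit 910) Col.g (nat_lit 2171) Dv.df))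
(Tr.lf (Fc.ed (nat_lit 6012) (nat_lit 2171) Col.g (nat_lit 1496) (Dv.wd (nat_lit 9) [Mv.b (nat_lit 4489), Mv.b (nat_lit 2970), Mv.f (nat_lit 6011)]))))
(Tr.nd (nat_lit 6014) (Tr.lf (Fc.ed (nat_lit 6013) (nat_lit 1980) Col.f (nat_lit 2172) Dv.df))
(Tr.nd (nat_lit 6015) (Tr.lf (Fc.ed (nat_lit 6014) (nat_lit 2031) Col.g (nat_lit 2173) Dv.df))
(Tr.lf (Fc.ed (nat_lit 6015) (nat_lit 1673) Col.c (nat_lit 2174) Dv.df)))))))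
(Tr.nd (nat_lit 6026) (Tr.nd (nat_lit 6021) (Tr.nd (nat_lit 6018) (Tr.nd (nat_lit 6017) (Tr.lf (Fc.ed (nat_lit 6016) (nat_lit 2174) Col.e (nat_lit 1641) (Dv.wd (nat_lit 25) [Mv.f (nat_lit 4805), Mv.f (nat_lit 4882), Mv.f (nat_lit 6015)])))
(Tr.lf (Fc.ed (nat_lit 6017) (nat_lit 1504) Col.f (nat_lit 2175) Dv.df)))
(Tr.nd (nat_lit 6019) (Tr.lf (Fc.ed (nat_lit 6018) (nat_lit 2175) Col.b (nat_lit 1672) (Dv.wd (nat_lit 66) [Mv.b (nat_lit 4880), Mv.b (nat_lit 5815), Mv.f (nat_lit 6017)])))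
(Tr.nd (nat_lit 6020) (Tr.lf (Fc.ed (nat_lit 6019) (nat_lit 2175) Col.d (nat_lit 1829) (Dv.wd (nat_lit 21) [Mv.b (nat_lit 5227), Mv.b (nat_lit 4508), Mv.f (nat_lit 6017)])))
(Tr.lf (Fc.ed (nat_lit 6020) (nat_lit 1801) Col.f (nat_lit 2176) Dv.df)))))
(Tr.nd (nat_lit 6023) (Tr.nd (nat_lit 6022) (Tr.lf (Fc.ed (nat_lit 6021) (nat_lit 2176) Col.a (nat_lit 1972) (Dv.wd (nat_lit 23) [Mv.b (nat_lit 5522), Mv.f (nat_lit 5171), Mv.f (nat_lit 6020)])))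
(Tr.lf (Fc.ed (nat_lit 6022) (nat_lit 1130) Col.b (nat_lit 2177) Dv.df)))
(Tr.nd (nat_lit 6024) (Tr.lf (Fc.ed (nat_lit 6023) (nat_lit 2177) Col.c (nat_lit 2177) (Dv.wd (nat_lit 93) [Mv.b (nat_lit 6022), Mv.f (nat_lit 3478), Mv.f (nat_lit 2381), Mv.b (nat_lit 3478), Mv.f (nat_lit 6022)])))
(Tr.nd (nat_lit 6025) (Tr.lf (Fc.ed (nat_lit 6024) (nat_lit 1996) Col.g (nat_lit 2178) Dv.df))
(Tr.lf (Fc.ed (nat_lit 6025) (nat_lit 2178) Col.g (nat_lit 966) (Dv.wd (nat_lit 9) [Mv.f (nat_lit 5063), Mv.f (nat_lit 5576), Mv.f (nat_lit 6024)])))))))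
(Tr.nd (nat_lit 6031) (Tr.nd (nat_lit 6028) (Tr.nd (nat_lit 6027) (Tr.lf (Fc.ed (nat_lit 6026) (nat_lit 1452) Col.c (nat_lit 2179) Dv.df))
(Tr.lf (Fc.ed (nat_lit 6027) (nat_lit 2179) Col.d (nat_lit 2167) (Dv.wd (nat_lit 160) [Mv.b (nat_lit 6005), Mv.f (nat_lit 4275), Mv.b (nat_lit 4982), Mv.f (nat_lit 4983), Mv.f (nat_lit 5920), Mv.f (nat_lit 5872), Mv.b (nat_lit 5873), Mv.f (nat_lit 5875), Mv.f (nat_lit 6026)]))))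
(Tr.nd (nat_lit 6029) (Tr.lf (Fc.ed (nat_lit 6028) (nat_lit 1261) Col.e (nat_lit 2180) Dv.df))
(Tr.nd (nat_lit 6030) (Tr.lf (Fc.ed (nat_lit 6029) (nat_lit 2180) Col.b (nat_lit 1149) (Dv.wd (nat_lit 49) [Mv.f (nat_lit 3541), Mv.f (nat_lit 3862), Mv.f (nat_lit 6028)])))
(Tr.lf (Fc.ed (nat_lit 6030) (nat_lit 2180) Col.d (nat_lit 2180) (Dv.wd (nat_lit 59) [Mv.b (nat_lit 6028), Mv.b (nat_lit 3895), Mv.f (nat_lit 3896), Mv.f (nat_lit 3895), Mv.f (nat_lit 6028)]))))))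
(Tr.nd (nat_lit 6034) (Tr.nd (nat_lit 6032) (Tr.lf (Fc.ed (nat_lit 6031) (nat_lit 2180) Col.f (nat_lit 1964) (Dv.wd (nat_lit 96) [Mv.b (nat_lit 5504), Mv.f (nat_lit 3825), Mv.b (nat_lit 3588), Mv.b (nat_lit 3863), Mv.f (nat_lit 6028)])))
(Tr.nd (nat_lit 6033) (Tr.lf (Fc.ed (nat_lit 6032) (nat_lit 1957) Col.d (nat_lit 2181) Dv.df))
(Tr.lf (Fc.ed (nat_lit 6033) (nat_lit 2181) Col.a (nat_lit 2063) (Dv.wd (nat_lit 8) [Mv.f (nat_lit 5708), Mv.b (nat_lit 5490), Mv.f (nat_lit 6032)])))))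
(Tr.nd (nat_lit 6035) (Tr.lf (Fc.ed (nat_lit 6034) (nat_lit 2181) Col.f (nat_lit 1899) (Dv.wd (nat_lit 11) [Mv.f (nat_lit 5374), Mv.f (nat_lit 5488), Mv.f (nat_lit 6032)])))
(Tr.nd (nat_lit 6036) (Tr.lf (Fc.ed (nat_lit 6035) (nat_lit 2181) Col.g (nat_lit 1797) (Dv.wd (nat_lit 69) [Mv.b (nat_lit 5164), Mv.f (nat_lit 4550), Mv.b (nat_lit 2153), Mv.b (nat_lit 3258), Mv.b (nat_lit 3794), Mv.f (nat_lit 3838), Mv.b (nat_lit 5402), Mv.f (nat_lit 5491), Mv.f (nat_lit 6032)])))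
(Tr.lf (Fc.ed (nat_lit 6036) (nat_lit 2181) Col.gi (nat_lit 1832) (Dv.wd (nat_lit 111) [Mv.b (nat_lit 5232), Mv.f (nat_lit 4590), Mv.b (nat_lit 4480), Mv.f (nat_lit 5249), Mv.f (nat_lit 5251), Mv.b (nat_lit 3735), Mv.f (nat_lit 5093), Mv.b (nat_lit 5489), Mv.f (nat_lit 6032)])))))))))
(Tr.nd (nat_lit 6057) (Tr.nd (nat_lit 6047) (Tr.nd (nat_lit 6042) (Tr.nd (nat_lit 6039) (Tr.nd (nat_lit 6038) (Tr.lf (Fc.ed (nat_lit 6037) (nat_lit 2000) Col.f (nat_lit 2063) (Dv.wd (nat_lit 13) [Mv.b (nat_lit 6033), Mv.f (nat_lit 6036), Mv.f (nat_lit 5586)])))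
(Tr.lf (Fc.ed (nat_lit 6038) (nat_lit 1899) Col.a (nat_lit 2000) (Dv.wd (nat_lit 79) [Mv.f (nat_lit 6037), Mv.b (nat_lit 6033), Mv.f (nat_lit 6034)]))))
(Tr.nd (nat_lit 6040) (Tr.lf (Fc.ed (nat_lit 6039) (nat_lit 1027) Col.b (nat_lit 2182) Dv.df))
(Tr.nd (nat_lit 6041) (Tr.lf (Fc.ed (nat_lit 6040) (nat_lit 1783) Col.gi (nat_lit 2183) Dv.df))
(Tr.lf (Fc.ed (nat_lit 6041) (nat_lit 2183) Col.gi (nat_lit 1787) (Dv.wd (nat_lit 24) [Mv.b (nat_lit 5944), Mv.f (nat_lit 5943), Mv.f (nat_lit 6040)]))))))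
(Tr.nd (nat_lit 6044) (Tr.nd (nat_lit 6043) (Tr.lf (Fc.ed (nat_lit 6042) (nat_lit 1507) Col.b (nat_lit 2184) Dv.df))
(Tr.lf (Fc.ed (nat_lit 6043) (nat_lit 2148) Col.c (nat_lit 2185) Dv.df)))
(Tr.nd (nat_lit 6045) (Tr.lf (Fc.ed (nat_lit 6044) (nat_lit 2185) Col.a (nat_lit 1777) (Dv.wd (nat_lit 19) [Mv.f (nat_lit 5141), Mv.b (nat_lit 5957), Mv.f (nat_lit 6043)])))
(Tr.nd (nat_lit 6046) (Tr.lf (Fc.ed (nat_lit 6045) (nat_lit 2185) Col.f (nat_lit 1785) (Dv.wd (nat_lit 26) [Mv.b (nat_lit 5141), Mv.b (nat_lit 5958), Mv.f (nat_lit 6043)])))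
(Tr.lf (Fc.ed (nat_lit 6046) (nat_lit 2185) Col.d (nat_lit 1915) (Dv.wd (nat_lit 44) [Mv.f (nat_lit 5402), Mv.f (nat_lit 3839), Mv.f (nat_lit 2007), Mv.b (nat_lit 3839), Mv.b (nat_lit 4116), Mv.f (nat_lit 4114), Mv.f (nat_lit 5336), Mv.f (nat_lit 5956), Mv.f (nat_lit 6043)])))))))
(Tr.nd (nat_lit 6052) (Tr.nd (nat_lit 6049) (Tr.nd (nat_lit 6048) (Tr.lf (Fc.ed (nat_lit 6047) (nat_lit 1029) Col.b (nat_lit 2186) Dv.df))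
(Tr.lf (Fc.ed (nat_lit 6048) (nat_lit 2186) Col.d (nat_lit 2182) (Dv.wd (nat_lit 58) [Mv.b (nat_lit 6039), Mv.f (nat_lit 3210), Mv.f (nat_lit 6047)]))))
(Tr.nd (nat_lit 6050) (Tr.lf (Fc.ed (nat_lit 6049) (nat_lit 2113) Col.g (nat_lit 2187) Dv.df))
(Tr.nd (nat_lit 6051) (Tr.lf (Fc.ed (nat_lit 6050) (nat_lit 2187) Col.g (nat_lit 1006) (Dv.wd (nat_lit 9) [Mv.f (nat_lit 5543), Mv.f (nat_lit 5882), Mv.f (nat_lit 6049)])))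
(Tr.lf (Fc.ed (nat_lit 6051) (nat_lit 1961) Col.f (nat_lit 2188) Dv.df)))))
(Tr.nd (nat_lit 6054) (Tr.nd (nat_lit 6053) (Tr.lf (Fc.ed (nat_lit 6052) (nat_lit 2188) Col.a (nat_lit 1988) (Dv.wd (nat_lit 23) [Mv.f (nat_lit 5560), Mv.b (nat_lit 5499), Mv.f (nat_lit 6051)])))
(Tr.lf (Fc.ed (nat_lit 6053) (nat_lit 1522) Col.a (nat_lit 2189) Dv.df)))
(Tr.nd (nat_lit 6055) (Tr.lf (Fc.ed (nat_lit 6054) (nat_lit 2189) Col.d (nat_lit 1826) (Dv.wd (nat_lit 28) [Mv.f (nat_lit 5222), Mv.b (nat_lit 4546), Mv.f (nat_lit 6053)])))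
(Tr.nd (nat_lit 6056) (Tr.lf (Fc.ed (nat_lit 6055) (nat_lit 2189) Col.e (nat_lit 2189) (Dv.wd (nat_lit 56) [Mv.b (nat_lit 6053), Mv.f (nat_lit 4547), Mv.f (nat_lit 6053)])))
(Tr.lf (Fc.ed (nat_lit 6056) (nat_lit 2189) Col.f (nat_lit 1392) (Dv.wd (nat_lit 35) [Mv.f (nat_lit 4222), Mv.b (nat_lit 4548), Mv.f (nat_lit 6053)]))))))))
(Tr.nd (nat_lit 6067) (Tr.nd (nat_lit 6062) (Tr.nd (nat_lit 6059) (Tr.nd (nat_lit 6058) (Tr.lf (Fc.ed (nat_lit 6057) (nat_lit 2189) Col.b (nat_lit 2189) (Dv.wd (nat_lit 65) [Mv.b (nat_lit 6053), Mv.b (nat_lit 4545), Mv.f (nat_lit 3333), Mv.f (nat_lit 4545), Mv.f (nat_lit 6053)])))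
(Tr.lf (Fc.ed (nat_lit 6058) (nat_lit 1563) Col.g (nat_lit 2190) Dv.df)))
(Tr.nd (nat_lit 6060) (Tr.lf (Fc.ed (nat_lit 6059) (nat_lit 1296) Col.f (nat_lit 2191) Dv.df))
(Tr.nd (nat_lit 6061) (Tr.lf (Fc.ed (nat_lit 6060) (nat_lit 2191) Col.b (nat_lit 1940) (Dv.wd (nat_lit 66) [Mv.b (nat_lit 5454), Mv.f (nat_lit 3952), Mv.f (nat_lit 6059)])))
(Tr.lf (Fc.ed (nat_lit 6061) (nat_lit 2191) Col.d (nat_lit 1670) (Dv.wd (nat_lit 21) [Mv.b (nat_lit 4876), Mv.f (nat_lit 4209), Mv.f (nat_lit 6059)]))))))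
(Tr.nd (nat_lit 6064) (Tr.nd (nat_lit 6063) (Tr.lf (Fc.ed (nat_lit 6062) (nat_lit 853) Col.b (nat_lit 2192) Dv.df))
(Tr.lf (Fc.ed (nat_lit 6063) (nat_lit 1498) Col.f (nat_lit 2193) Dv.df)))
(Tr.nd (nat_lit 6065) (Tr.lf (Fc.ed (nat_lit 6064) (nat_lit 2193) Col.a (nat_lit 1276) (Dv.wd (nat_lit 16) [Mv.f (nat_lit 3899), Mv.f (nat_lit 4491), Mv.f (nat_lit 6063)])))
(Tr.nd (nat_lit 6066) (Tr.lf (Fc.ed (nat_lit 6065) (nat_lit 2193) Col.c (nat_lit 1301) (Dv.wd (nat_lit 34) [Mv.b (nat_lit 4399), Mv.b (nat_lit 4492), Mv.f (nat_lit 6063)])))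
(Tr.lf (Fc.ed (nat_lit 6066) (nat_lit 1255) Col.e (nat_lit 2194) Dv.df))))))
(Tr.nd (nat_lit 6072) (Tr.nd (nat_lit 6069) (Tr.nd (nat_lit 6068) (Tr.lf (Fc.ed (nat_lit 6067) (nat_lit 2194) Col.a (nat_lit 2194) (Dv.wd (nat_lit 15) [Mv.b (nat_lit 6066), Mv.f (nat_lit 3854), Mv.f (nat_lit 6066)])))
(Tr.lf (Fc.ed (nat_lit 6068) (nat_lit 2194) Col.b (nat_lit 1516) (Dv.wd (nat_lit 49) [Mv.b (nat_lit 4530), Mv.f (nat_lit 3852), Mv.f (nat_lit 6066)]))))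
(Tr.nd (nat_lit 6070) (Tr.lf (Fc.ed (nat_lit 6069) (nat_lit 2194) Col.d (nat_lit 1540) (Dv.wd (nat_lit 59) [Mv.b (nat_lit 4582), Mv.f (nat_lit 4377), Mv.f (nat_lit 4185), Mv.b (nat_lit 3853), Mv.f (nat_lit 6066)])))
(Tr.nd (nat_lit 6071) (Tr.lf (Fc.ed (nat_lit 6070) (nat_lit 808) Col.c (nat_lit 2195) Dv.df))
(Tr.lf (Fc.ed (nat_lit 6071) (nat_lit 2195) Col.f (nat_lit 2070) (Dv.wd (nat_lit 26) [Mv.b (nat_lit 5721), Mv.f (nat_lit 2957), Mv.f (nat_lit 6070)]))))))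
(Tr.nd (nat_lit 6075) (Tr.nd (nat_lit 6073) (Tr.lf (Fc.ed (nat_lit 6072) (nat_lit 1968) Col.f (nat_lit 2196) Dv.df))
(Tr.nd (nat_lit 6074) (Tr.lf (Fc.ed (nat_lit 6073) (nat_lit 2004) Col.d (nat_lit 2197) Dv.df))
(Tr.lf (Fc.ed (nat_lit 6074) (nat_lit 2197) Col.a (nat_lit 2197) (Dv.wd (nat_lit 8) [Mv.b (nat_lit 6073), Mv.f (nat_lit 5740), Mv.f (nat_lit 6073)])))))
(Tr.nd (nat_lit 6076) (Tr.lf (Fc.ed (nat_lit 6075) (nat_lit 2197) Col.f (nat_lit 1233) (Dv.wd (nat_lit 11) [Mv.f (nat_lit 3800), Mv.b (nat_lit 5741), Mv.f (nat_lit 6073)])))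
(Tr.nd (nat_lit 6077) (Tr.lf (Fc.ed (nat_lit 6076) (nat_lit 1419) Col.g (nat_lit 2198) Dv.df))
(Tr.lf (Fc.ed (nat_lit 6077) (nat_lit 1275) Col.c (nat_lit 2199) Dv.df))))))))))
(Tr.nd (nat_lit 6160) (Tr.nd (nat_lit 6119) (Tr.nd (nat_lit 6098) (Tr.nd (nat_lit 6088) (Tr.nd (nat_lit 6083) (Tr.nd (nat_lit 6080) (Tr.nd (nat_lit 6079) (Tr.lf (Fc.ed (nat_lit 6078) (nat_lit 2199) Col.f (nat_lit 1186) (Dv.wd (nat_lit 26) [Mv.b (nat_lit 3658), Mv.b (nat_lit 3897), Mv.f (nat_lit 6077)])))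
(Tr.lf (Fc.ed (nat_lit 6079) (nat_lit 1142) Col.b (nat_lit 2200) Dv.df)))
(Tr.nd (nat_lit 6081) (Tr.lf (Fc.ed (nat_lit 6080) (nat_lit 2200) Col.d (nat_lit 1809) (Dv.wd (nat_lit 58) [Mv.b (nat_lit 5186), Mv.f (nat_lit 3503), Mv.f (nat_lit 6079)])))
(Tr.nd (nat_lit 6082) (Tr.lf (Fc.ed (nat_lit 6081) (nat_lit 2200) Col.f (nat_lit 1926) (Dv.wd (nat_lit 20) [Mv.f (nat_lit 5426), Mv.f (nat_lit 3558), Mv.f (nat_lit 6079)])))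
(Tr.lf (Fc.ed (nat_lit 6082) (nat_lit 1844) Col.c (nat_lit 2201) Dv.df)))))
(Tr.nd (nat_lit 6085) (Tr.nd (nat_lit 6084) (Tr.lf (Fc.ed (nat_lit 6083) (nat_lit 1629) Col.c (nat_lit 2202) Dv.df))
(Tr.lf (Fc.ed (nat_lit 6084) (nat_lit 2202) Col.e (nat_lit 1049) (Dv.wd (nat_lit 25) [Mv.b (nat_lit 3254), Mv.b (nat_lit 4782), Mv.f (nat_lit 6083)]))))
(Tr.nd (nat_lit 6086) (Tr.lf (Fc.ed (nat_lit 6085) (nat_lit 1006) Col.g (nat_lit 2203) Dv.df))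
(Tr.nd (nat_lit 6087) (Tr.lf (Fc.ed (nat_lit 6086) (nat_lit 2203) Col.g (nat_lit 2113) (Dv.wd (nat_lit 9) [Mv.f (nat_lit 5883), Mv.f (nat_lit 3863), Mv.f (nat_lit 6085)])))
(Tr.lf (Fc.ed (nat_lit 6087) (nat_lit 1835) Col.d (nat_lit 2204) Dv.df))))))
(Tr.nd (nat_lit 6093) (Tr.nd (nat_lit 6090) (Tr.nd (nat_lit 6089) (Tr.lf (Fc.ed (nat_lit 6088) (nat_lit 1852) Col.f (nat_lit 2205) Dv.df))
(Tr.lf (Fc.ed (nat_lit 6089) (nat_lit 2205) Col.c (nat_lit 1106) (Dv.wd (nat_lit 34) [Mv.b (nat_lit 3414), Mv.b (nat_lit 5280), Mv.f (nat_lit 6088)]))))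
(Tr.nd (nat_lit 6091) (Tr.lf (Fc.ed (nat_lit 6090) (nat_lit 1746) Col.g (nat_lit 2206) Dv.df))
(Tr.nd (nat_lit 6092) (Tr.lf (Fc.ed (nat_lit 6091) (nat_lit 1812) Col.g (nat_lit 2207) Dv.df))
(Tr.lf (Fc.ed (nat_lit 6092) (nat_lit 2207) Col.g (nat_lit 1116) (Dv.wd (nat_lit 9) [Mv.f (nat_lit 3442), Mv.b (nat_lit 5859), Mv.f (nat_lit 6091)]))))))
(Tr.nd (nat_lit 6095) (Tr.nd (nat_lit 6094) (Tr.lf (Fc.ed (nat_lit 6093) (nat_lit 1654) Col.g (nat_lit 2208) Dv.df))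
(Tr.lf (Fc.ed (nat_lit 6094) (nat_lit 2208) Col.g (nat_lit 1028) (Dv.wd (nat_lit 9) [Mv.b (nat_lit 4622), Mv.b (nat_lit 4836), Mv.f (nat_lit 6093)]))))
(Tr.nd (nat_lit 6096) (Tr.lf (Fc.ed (nat_lit 6095) (nat_lit 1426) Col.f (nat_lit 2209) Dv.df))
(Tr.nd (nat_lit 6097) (Tr.lf (Fc.ed (nat_lit 6096) (nat_lit 2209) Col.a (nat_lit 1651) (Dv.wd (nat_lit 23) [Mv.b (nat_lit 4828), Mv.b (nat_lit 4310), Mv.f (nat_lit 6095)])))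
(Tr.lf (Fc.ed (nat_lit 6097) (nat_lit 1038) Col.b (nat_lit 2210) Dv.df)))))))
(Tr.nd (nat_lit 6108) (Tr.nd (nat_lit 6103) (Tr.nd (nat_lit 6100) (Tr.nd (nat_lit 6099) (Tr.lf (Fc.ed (nat_lit 6098) (nat_lit 2182) Col.f (nat_lit 2211) Dv.df))
(Tr.lf (Fc.ed (nat_lit 6099) (nat_lit 2211) Col.b (nat_lit 1009) (Dv.wd (nat_lit 66) [Mv.b (nat_lit 3206), Mv.f (nat_lit 6039), Mv.f (nat_lit 6098)]))))
(Tr.nd (nat_lit 6101) (Tr.lf (Fc.ed (nat_lit 6100) (nat_lit 2191) Col.e (nat_lit 2212) Dv.df))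
(Tr.nd (nat_lit 6102) (Tr.lf (Fc.ed (nat_lit 6101) (nat_lit 2212) Col.f (nat_lit 1326) (Dv.wd (nat_lit 96) [Mv.f (nat_lit 4011), Mv.b (nat_lit 3209), Mv.b (nat_lit 3953), Mv.f (nat_lit 6059), Mv.f (nat_lit 6100)])))
(Tr.lf (Fc.ed (nat_lit 6102) (nat_lit 1890) Col.d (nat_lit 2213) Dv.df)))))
(Tr.nd (nat_lit 6105) (Tr.nd (nat_lit 6104) (Tr.lf (Fc.ed (nat_lit 6103) (nat_lit 2213) Col.a (nat_lit 2127) (Dv.wd (nat_lit 8) [Mv.f (nat_lit 5909), Mv.b (nat_lit 5356), Mv.f (nat_lit 6102)])))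
(Tr.lf (Fc.ed (nat_lit 6104) (nat_lit 1124) Col.f (nat_lit 2214) Dv.df)))
(Tr.nd (nat_lit 6106) (Tr.lf (Fc.ed (nat_lit 6105) (nat_lit 2214) Col.a (nat_lit 1086) (Dv.wd (nat_lit 23) [Mv.f (nat_lit 3355), Mv.b (nat_lit 3465), Mv.f (nat_lit 6104)])))
(Tr.nd (nat_lit 6107) (Tr.lf (Fc.ed (nat_lit 6106) (nat_lit 1652) Col.b (nat_lit 2215) Dv.df))
(Tr.lf (Fc.ed (nat_lit 6107) (nat_lit 2215) Col.f (nat_lit 2192) (Dv.wd (nat_lit 20) [Mv.b (nat_lit 6062), Mv.b (nat_lit 4830), Mv.f (nat_lit 6106)])))))))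
(Tr.nd (nat_lit 6113) (Tr.nd (nat_lit 6110) (Tr.nd (nat_lit 6109) (Tr.lf (Fc.ed (nat_lit 6108) (nat_lit 1167) Col.g (nat_lit 2216) Dv.df))
(Tr.lf (Fc.ed (nat_lit 6109) (nat_lit 2216) Col.g (nat_lit 1234) (Dv.wd (nat_lit 9) [Mv.f (nat_lit 3802), Mv.f (nat_lit 3641), Mv.f (nat_lit 6108)]))))
(Tr.nd (nat_lit 6111) (Tr.lf (Fc.ed (nat_lit 6110) (nat_lit 1181) Col.b (nat_lit 2217) Dv.df))
(Tr.nd (nat_lit 6112) (Tr.lf (Fc.ed (nat_lit 6111) (nat_lit 2217) Col.f (nat_lit 1827) (Dv.wd (nat_lit 20) [Mv.b (nat_lit 5225), Mv.b (nat_lit 3647), Mv.f (nat_lit 6110)])))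
(Tr.lf (Fc.ed (nat_lit 6112) (nat_lit 1134) Col.a (nat_lit 2218) Dv.df)))))
(Tr.nd (nat_lit 6116) (Tr.nd (nat_lit 6114) (Tr.lf (Fc.ed (nat_lit 6113) (nat_lit 2218) Col.d (nat_lit 1462) (Dv.wd (nat_lit 28) [Mv.b (nat_lit 4416), Mv.b (nat_lit 4246), Mv.f (nat_lit 6112)])))
(Tr.nd (nat_lit 6115) (Tr.lf (Fc.ed (nat_lit 6114) (nat_lit 2218) Col.e (nat_lit 1925) (Dv.wd (nat_lit 56) [Mv.f (nat_lit 5423), Mv.b (nat_lit 3483), Mv.f (nat_lit 6112)])))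
(Tr.lf (Fc.ed (nat_lit 6115) (nat_lit 1253) Col.b (nat_lit 2219) Dv.df))))
(Tr.nd (nat_lit 6117) (Tr.lf (Fc.ed (nat_lit 6116) (nat_lit 2219) Col.e (nat_lit 1722) (Dv.wd (nat_lit 52) [Mv.b (nat_lit 5001), Mv.f (nat_lit 3846), Mv.f (nat_lit 6115)])))
(Tr.nd (nat_lit 6118) (Tr.lf (Fc.ed (nat_lit 6117) (nat_lit 1593) Col.f (nat_lit 2220) Dv.df))
(Tr.lf (Fc.ed (nat_lit 6118) (nat_lit 1994) Col.gi (nat_lit 2221) Dv.df))))))))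
(Tr.nd (nat_lit 6139) (Tr.nd (nat_lit 6129) (Tr.nd (nat_lit 6124) (Tr.nd (nat_lit 6121) (Tr.nd (nat_lit 6120) (Tr.lf (Fc.ed (nat_lit 6119) (nat_lit 1948) Col.g (nat_lit 2222) Dv.df))
(Tr.lf (Fc.ed (nat_lit 6120) (nat_lit 1268) Col.g (nat_lit 2223) Dv.df)))
(Tr.nd (nat_lit 6122) (Tr.lf (Fc.ed (nat_lit 6121) (nat_lit 2223) Col.g (nat_lit 2218) (Dv.wd (nat_lit 9) [Mv.b (nat_lit 6112), Mv.b (nat_lit 3878), Mv.f (nat_lit 6120)])))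
(Tr.nd (nat_lit 6123) (Tr.lf (Fc.ed (nat_lit 6122) (nat_lit 2138) Col.a (nat_lit 2224) Dv.df))
(Tr.lf (Fc.ed (nat_lit 6123) (nat_lit 2224) Col.f (nat_lit 1763) (Dv.wd (nat_lit 10) [Mv.b (nat_lit 5101), Mv.f (nat_lit 5935), Mv.f (nat_lit 6122)]))))))
(Tr.nd (nat_lit 6126) (Tr.nd (nat_lit 6125) (Tr.lf (Fc.ed (nat_lit 6124) (nat_lit 1944) Col.d (nat_lit 2225) Dv.df))
(Tr.lf (Fc.ed (nat_lit 6125) (nat_lit 2225) Col.a (nat_lit 1519) (Dv.wd (nat_lit 8) [Mv.f (nat_lit 4539), Mv.f (nat_lit 5463), Mv.f (nat_lit 6124)]))))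
(Tr.nd (nat_lit 6127) (Tr.lf (Fc.ed (nat_lit 6126) (nat_lit 1568) Col.b (nat_lit 2226) Dv.df))
(Tr.nd (nat_lit 6128) (Tr.lf (Fc.ed (nat_lit 6127) (nat_lit 2226) Col.e (nat_lit 2115) (Dv.wd (nat_lit 52) [Mv.f (nat_lit 5887), Mv.b (nat_lit 4646), Mv.f (nat_lit 6126)])))
(Tr.lf (Fc.ed (nat_lit 6128) (nat_lit 1525) Col.gi (nat_lit 2227) Dv.df))))))
(Tr.nd (nat_lit 6134) (Tr.nd (nat_lit 6131) (Tr.nd (nat_lit 6130) (Tr.lf (Fc.ed (nat_lit 6129) (nat_lit 2181) Col.c (nat_lit 2228) Dv.df))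
(Tr.lf (Fc.ed (nat_lit 6130) (nat_lit 2228) Col.a (nat_lit 2118) (Dv.wd (nat_lit 19) [Mv.f (nat_lit 5892), Mv.b (nat_lit 6033), Mv.f (nat_lit 6129)]))))
(Tr.nd (nat_lit 6132) (Tr.lf (Fc.ed (nat_lit 6131) (nat_lit 2228) Col.f (nat_lit 1954) (Dv.wd (nat_lit 26) [Mv.f (nat_lit 5482), Mv.b (nat_lit 6034), Mv.f (nat_lit 6129)])))
(Tr.nd (nat_lit 6133) (Tr.lf (Fc.ed (nat_lit 6132) (nat_lit 2228) Col.d (nat_lit 1792) (Dv.wd (nat_lit 44) [Mv.b (nat_lit 5157), Mv.b (nat_lit 4493), Mv.b (nat_lit 1745), Mv.f (nat_lit 4410), Mv.f (nat_lit 4413), Mv.b (nat_lit 5094), Mv.b (nat_lit 5489), Mv.f (nat_lit 6032), Mv.f (nat_lit 6129)])))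
(Tr.lf (Fc.ed (nat_lit 6133) (nat_lit 2211) Col.c (nat_lit 2229) Dv.df)))))
(Tr.nd (nat_lit 6136) (Tr.nd (nat_lit 6135) (Tr.lf (Fc.ed (nat_lit 6134) (nat_lit 2079) Col.d (nat_lit 2230) Dv.df))
(Tr.lf (Fc.ed (nat_lit 6135) (nat_lit 2230) Col.a (nat_lit 1868) (Dv.wd (nat_lit 8) [Mv.b (nat_lit 5311), Mv.b (nat_lit 5743), Mv.f (nat_lit 6134)]))))
(Tr.nd (nat_lit 6137) (Tr.lf (Fc.ed (nat_lit 6136) (nat_lit 1944) Col.g (nat_lit 2231) Dv.df))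
(Tr.nd (nat_lit 6138) (Tr.lf (Fc.ed (nat_lit 6137) (nat_lit 2231) Col.g (nat_lit 1120) (Dv.wd (nat_lit 9) [Mv.f (nat_lit 5655), Mv.f (nat_lit 5658), Mv.f (nat_lit 6136)])))
(Tr.lf (Fc.ed (nat_lit 6138) (nat_lit 1726) Col.c (nat_lit 2232) Dv.df)))))))
(Tr.nd (nat_lit 6149) (Tr.nd (nat_lit 6144) (Tr.nd (nat_lit 6141) (Tr.nd (nat_lit 6140) (Tr.lf (Fc.ed (nat_lit 6139) (nat_lit 2232) Col.e (nat_lit 1549) (Dv.wd (nat_lit 25) [Mv.f (nat_lit 4602), Mv.f (nat_lit 5009), Mv.f (nat_lit 6138)])))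
(Tr.lf (Fc.ed (nat_lit 6140) (nat_lit 1124) Col.c (nat_lit 2233) Dv.df)))
(Tr.nd (nat_lit 6142) (Tr.lf (Fc.ed (nat_lit 6141) (nat_lit 1387) Col.a (nat_lit 2234) Dv.df))
(Tr.nd (nat_lit 6143) (Tr.lf (Fc.ed (nat_lit 6142) (nat_lit 2234) Col.e (nat_lit 1048) (Dv.wd (nat_lit 56) [Mv.b (nat_lit 3253), Mv.b (nat_lit 4210), Mv.f (nat_lit 6141)])))
(Tr.lf (Fc.ed (nat_lit 6143) (nat_lit 1930) Col.f (nat_lit 2235) Dv.df)))))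
(Tr.nd (nat_lit 6146) (Tr.nd (nat_lit 6145) (Tr.lf (Fc.ed (nat_lit 6144) (nat_lit 1119) Col.f (nat_lit 2236) Dv.df))
(Tr.lf (Fc.ed (nat_lit 6145) (nat_lit 2236) Col.c (nat_lit 2220) (Dv.wd (nat_lit 34) [Mv.b (nat_lit 6117), Mv.b (nat_lit 4700), Mv.f (nat_lit 6144)]))))
(Tr.nd (nat_lit 6147) (Tr.lf (Fc.ed (nat_lit 6146) (nat_lit 1811) Col.g (nat_lit 2237) Dv.df))
(Tr.nd (nat_lit 6148) (Tr.lf (Fc.ed (nat_lit 6147) (nat_lit 1639) Col.c (nat_lit 2238) Dv.df))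
(Tr.lf (Fc.ed (nat_lit 6148) (nat_lit 2184) Col.c (nat_lit 2239) Dv.df))))))
(Tr.nd (nat_lit 6154) (Tr.nd (nat_lit 6151) (Tr.nd (nat_lit 6150) (Tr.lf (Fc.ed (nat_lit 6149) (nat_lit 2239) Col.g (nat_lit 1179) (Dv.wd (nat_lit 123) [Mv.b (nat_lit 3639), Mv.b (nat_lit 930), Mv.f (nat_lit 626), Mv.b (nat_lit 788), Mv.b (nat_lit 1104), Mv.b (nat_lit 899), Mv.b (nat_lit 3589), Mv.f (nat_lit 4513), Mv.f (nat_lit 6042), Mv.f (nat_lit 6148)])))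
(Tr.lf (Fc.ed (nat_lit 6150) (nat_lit 1242) Col.g (nat_lit 2239) (Dv.wd (nat_lit 17) [Mv.f (nat_lit 6149), Mv.b (nat_lit 3802), Mv.b (nat_lit 3823)]))))
(Tr.nd (nat_lit 6152) (Tr.lf (Fc.ed (nat_lit 6151) (nat_lit 951) Col.gi (nat_lit 2240) Dv.df))
(Tr.nd (nat_lit 6153) (Tr.lf (Fc.ed (nat_lit 6152) (nat_lit 2240) Col.gi (nat_lit 2161) (Dv.wd (nat_lit 24) [Mv.b (nat_lit 5986), Mv.f (nat_lit 4870), Mv.f (nat_lit 6151)])))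
(Tr.lf (Fc.ed (nat_lit 6153) (nat_lit 2005) Col.b (nat_lit 2241) Dv.df)))))
(Tr.nd (nat_lit 6157) (Tr.nd (nat_lit 6155) (Tr.lf (Fc.ed (nat_lit 6154) (nat_lit 2241) Col.e (nat_lit 1926) (Dv.wd (nat_lit 52) [Mv.f (nat_lit 5426), Mv.b (nat_lit 5830), Mv.f (nat_lit 6153)])))
(Tr.nd (nat_lit 6156) (Tr.lf (Fc.ed (nat_lit 6155) (nat_lit 2074) Col.f (nat_lit 2242) Dv.df))
(Tr.lf (Fc.ed (nat_lit 6156) (nat_lit 2242) Col.b (nat_lit 1903) (Dv.wd (nat_lit 66) [Mv.b (nat_lit 5379), Mv.f (nat_lit 5729), Mv.f (nat_lit 6155)])))))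
(Tr.nd (nat_lit 6158) (Tr.lf (Fc.ed (nat_lit 6157) (nat_lit 1464) Col.e (nat_lit 2243) Dv.df))
(Tr.nd (nat_lit 6159) (Tr.lf (Fc.ed (nat_lit 6158) (nat_lit 2243) Col.b (nat_lit 1818) (Dv.wd (nat_lit 49) [Mv.f (nat_lit 5205), Mv.b (nat_lit 4419), Mv.f (nat_lit 6157)])))
(Tr.lf (Fc.ed (nat_lit 6159) (nat_lit 737) Col.d (nat_lit 2244) Dv.df)))))))))
(Tr.nd (nat_lit 6201) (Tr.nd (nat_lit 6180) (Tr.nd (nat_lit 6170) (Tr.nd (nat_lit 6165) (Tr.nd (nat_lit 6162) (Tr.nd (nat_lit 6161) (Tr.lf (Fc.ed (nat_lit 6160) (nat_lit 1386) Col.f (nat_lit 2245) Dv.df))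
(Tr.lf (Fc.ed (nat_lit 6161) (nat_lit 2245) Col.e (nat_lit 2060) (Dv.wd (nat_lit 22) [Mv.b (nat_lit 5702), Mv.b (nat_lit 4569), Mv.b (nat_lit 2277), Mv.f (nat_lit 4207), Mv.f (nat_lit 6160)]))))
(Tr.nd (nat_lit 6163) (Tr.lf (Fc.ed (nat_lit 6162) (nat_lit 2146) Col.g (nat_lit 2246) Dv.df))
(Tr.nd (nat_lit 6164) (Tr.lf (Fc.ed (nat_lit 6163) (nat_lit 2246) Col.g (nat_lit 1897) (Dv.wd (nat_lit 9) [Mv.f (nat_lit 5371), Mv.f (nat_lit 5953), Mv.f (nat_lit 6162)])))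
(Tr.lf (Fc.ed (nat_lit 6164) (nat_lit 1166) Col.a (nat_lit 2247) Dv.df)))))
(Tr.nd (nat_lit 6167) (Tr.nd (nat_lit 6166) (Tr.lf (Fc.ed (nat_lit 6165) (nat_lit 2247) Col.e (nat_lit 1981) (Dv.wd (nat_lit 56) [Mv.b (nat_lit 5543), Mv.f (nat_lit 3588), Mv.f (nat_lit 6164)])))
(Tr.lf (Fc.ed (nat_lit 6166) (nat_lit 2247) Col.b (nat_lit 2247) (Dv.wd (nat_lit 65) [Mv.b (nat_lit 6164), Mv.f (nat_lit 3589), Mv.f (nat_lit 853), Mv.b (nat_lit 3589), Mv.f (nat_lit 6164)]))))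
(Tr.nd (nat_lit 6168) (Tr.lf (Fc.ed (nat_lit 6167) (nat_lit 1145) Col.g (nat_lit 2248) Dv.df))
(Tr.nd (nat_lit 6169) (Tr.lf (Fc.ed (nat_lit 6168) (nat_lit 2248) Col.g (nat_lit 1977) (Dv.wd (nat_lit 9) [Mv.b (nat_lit 5534), Mv.b (nat_lit 3527), Mv.f (nat_lit 6167)])))
(Tr.lf (Fc.ed (nat_lit 6169) (nat_lit 1970) Col.c (nat_lit 2249) Dv.df))))))
(Tr.nd (nat_lit 6175) (Tr.nd (nat_lit 6172) (Tr.nd (nat_lit 6171) (Tr.lf (Fc.ed (nat_lit 6170) (nat_lit 2249) Col.f (nat_lit 2115) (Dv.wd (nat_lit 26) [Mv.b (nat_lit 5886), Mv.f (nat_lit 5661), Mv.f (nat_lit 6169)])))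
(Tr.lf (Fc.ed (nat_lit 6171) (nat_lit 2249) Col.b (nat_lit 1141) (Dv.wd (nat_lit 87) [Mv.f (nat_lit 3500), Mv.f (nat_lit 2249), Mv.b (nat_lit 3132), Mv.f (nat_lit 5520), Mv.f (nat_lit 6169)]))))
(Tr.nd (nat_lit 6173) (Tr.lf (Fc.ed (nat_lit 6172) (nat_lit 2221) Col.d (nat_lit 2250) Dv.df))
(Tr.nd (nat_lit 6174) (Tr.lf (Fc.ed (nat_lit 6173) (nat_lit 1577) Col.gi (nat_lit 2251) Dv.df))
(Tr.lf (Fc.ed (nat_lit 6174) (nat_lit 2251) Col.gi (nat_lit 1176) (Dv.wd (nat_lit 24) [Mv.b (nat_lit 4943), Mv.b (nat_lit 4941), Mv.f (nat_lit 6173)]))))))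
(Tr.nd (nat_lit 6177) (Tr.nd (nat_lit 6176) (Tr.lf (Fc.ed (nat_lit 6175) (nat_lit 1782) Col.f (nat_lit 2252) Dv.df))
(Tr.lf (Fc.ed (nat_lit 6176) (nat_lit 2252) Col.e (nat_lit 2197) (Dv.wd (nat_lit 22) [Mv.f (nat_lit 6075), Mv.b (nat_lit 3799), Mv.b (nat_lit 2221), Mv.f (nat_lit 5135), Mv.f (nat_lit 6175)]))))
(Tr.nd (nat_lit 6178) (Tr.lf (Fc.ed (nat_lit 6177) (nat_lit 1277) Col.e (nat_lit 2253) Dv.df))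
(Tr.nd (nat_lit 6179) (Tr.lf (Fc.ed (nat_lit 6178) (nat_lit 2253) Col.a (nat_lit 2143) (Dv.wd (nat_lit 15) [Mv.b (nat_lit 5948), Mv.f (nat_lit 3901), Mv.f (nat_lit 6177)])))
(Tr.lf (Fc.ed (nat_lit 6179) (nat_lit 2253) Col.c (nat_lit 1482) (Dv.wd (nat_lit 18) [Mv.b (nat_lit 4462), Mv.b (nat_lit 3902), Mv.f (nat_lit 6177)]))))))))
(Tr.nd (nat_lit 6190) (Tr.nd (nat_lit 6185) (Tr.nd (nat_lit 6182) (Tr.nd (nat_lit 6181) (Tr.lf (Fc.ed (nat_lit 6180) (nat_lit 1042) Col.b (nat_lit 2254) Dv.df))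
(Tr.lf (Fc.ed (nat_lit 6181) (nat_lit 2254) Col.d (nat_lit 2026) (Dv.wd (nat_lit 58) [Mv.b (nat_lit 5633), Mv.f (nat_lit 3255), Mv.f (nat_lit 6180)]))))
(Tr.nd (nat_lit 6183) (Tr.lf (Fc.ed (nat_lit 6182) (nat_lit 2254) Col.c (nat_lit 2182) (Dv.wd (nat_lit 93) [Mv.b (nat_lit 6039), Mv.b (nat_lit 3205), Mv.b (nat_lit 2931), Mv.f (nat_lit 3239), Mv.f (nat_lit 6180)])))
(Tr.nd (nat_lit 6184) (Tr.lf (Fc.ed (nat_lit 6183) (nat_lit 2229) Col.f (nat_lit 2254) (Dv.wd (nat_lit 64) [Mv.f (nat_lit 6182), Mv.f (nat_lit 6098), Mv.f (nat_lit 6133)])))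
(Tr.lf (Fc.ed (nat_lit 6184) (nat_lit 1345) Col.a (nat_lit 2255) Dv.df)))))
(Tr.nd (nat_lit 6187) (Tr.nd (nat_lit 6186) (Tr.lf (Fc.ed (nat_lit 6185) (nat_lit 2255) Col.d (nat_lit 1725) (Dv.wd (nat_lit 28) [Mv.b (nat_lit 5006), Mv.f (nat_lit 4110), Mv.f (nat_lit 6184)])))
(Tr.lf (Fc.ed (nat_lit 6186) (nat_lit 1163) Col.g (nat_lit 2256) Dv.df)))
(Tr.nd (nat_lit 6188) (Tr.lf (Fc.ed (nat_lit 6187) (nat_lit 2256) Col.g (nat_lit 1952) (Dv.wd (nat_lit 9) [Mv.f (nat_lit 5846), Mv.f (nat_lit 5853), Mv.f (nat_lit 6186)])))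
(Tr.nd (nat_lit 6189) (Tr.lf (Fc.ed (nat_lit 6188) (nat_lit 711) Col.d (nat_lit 2257) Dv.df))
(Tr.lf (Fc.ed (nat_lit 6189) (nat_lit 2257) Col.a (nat_lit 2244) (Dv.wd (nat_lit 8) [Mv.b (nat_lit 6159), Mv.f (nat_lit 2142), Mv.f (nat_lit 6188)])))))))
(Tr.nd (nat_lit 6195) (Tr.nd (nat_lit 6192) (Tr.nd (nat_lit 6191) (Tr.lf (Fc.ed (nat_lit 6190) (nat_lit 1388) Col.d (nat_lit 2258) Dv.df))
(Tr.lf (Fc.ed (nat_lit 6191) (nat_lit 2258) Col.a (nat_lit 2258) (Dv.wd (nat_lit 8) [Mv.b (nat_lit 6190), Mv.f (nat_lit 4366), Mv.f (nat_lit 6190)]))))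
(Tr.nd (nat_lit 6193) (Tr.lf (Fc.ed (nat_lit 6192) (nat_lit 2258) Col.b (nat_lit 1708) (Dv.wd (nat_lit 37) [Mv.b (nat_lit 4961), Mv.f (nat_lit 4211), Mv.f (nat_lit 6190)])))
(Tr.nd (nat_lit 6194) (Tr.lf (Fc.ed (nat_lit 6193) (nat_lit 2258) Col.f (nat_lit 1987) (Dv.wd (nat_lit 11) [Mv.b (nat_lit 5557), Mv.f (nat_lit 4367), Mv.f (nat_lit 6190)])))
(Tr.lf (Fc.ed (nat_lit 6194) (nat_lit 2258) Col.gi (nat_lit 1255) (Dv.wd (nat_lit 71) [Mv.f (nat_lit 3853), Mv.b (nat_lit 4185), Mv.f (nat_lit 4256), Mv.b (nat_lit 4728), Mv.b (nat_lit 5332), Mv.b (nat_lit 5335), Mv.b (nat_lit 3868), Mv.b (nat_lit 4213), Mv.f (nat_lit 4370), Mv.f (nat_lit 6190)]))))))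
(Tr.nd (nat_lit 6198) (Tr.nd (nat_lit 6196) (Tr.lf (Fc.ed (nat_lit 6195) (nat_lit 1646) Col.gi (nat_lit 2258) (Dv.wd (nat_lit 12) [Mv.f (nat_lit 6194), Mv.f (nat_lit 4813), Mv.f (nat_lit 4814)])))
(Tr.nd (nat_lit 6197) (Tr.lf (Fc.ed (nat_lit 6196) (nat_lit 2140) Col.d (nat_lit 2259) Dv.df))
(Tr.lf (Fc.ed (nat_lit 6197) (nat_lit 2259) Col.a (nat_lit 1954) (Dv.wd (nat_lit 8) [Mv.b (nat_lit 5481), Mv.b (nat_lit 5939), Mv.f (nat_lit 6196)])))))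
(Tr.nd (nat_lit 6199) (Tr.lf (Fc.ed (nat_lit 6198) (nat_lit 2259) Col.f (nat_lit 2118) (Dv.wd (nat_lit 11) [Mv.b (nat_lit 5891), Mv.b (nat_lit 5940), Mv.f (nat_lit 6196)])))
(Tr.nd (nat_lit 6200) (Tr.lf (Fc.ed (nat_lit 6199) (nat_lit 2259) Col.c (nat_lit 2000) (Dv.wd (nat_lit 161) [Mv.b (nat_lit 6038), Mv.b (nat_lit 6034), Mv.b (nat_lit 6032), Mv.f (nat_lit 5489), Mv.b (nat_lit 5093), Mv.f (nat_lit 3307), Mv.b (nat_lit 3794), Mv.f (nat_lit 5938), Mv.f (nat_lit 6196)])))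
(Tr.lf (Fc.ed (nat_lit 6200) (nat_lit 2240) Col.d (nat_lit 2260) Dv.df))))))))
(Tr.nd (nat_lit 6221) (Tr.nd (nat_lit 6211) (Tr.nd (nat_lit 6206) (Tr.nd (nat_lit 6203) (Tr.nd (nat_lit 6202) (Tr.lf (Fc.ed (nat_lit 6201) (nat_lit 2146) Col.a (nat_lit 2261) Dv.df))
(Tr.lf (Fc.ed (nat_lit 6202) (nat_lit 2261) Col.f (nat_lit 1897) (Dv.wd (nat_lit 35) [Mv.f (nat_lit 5371), Mv.f (nat_lit 5953), Mv.f (nat_lit 6201)]))))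
(Tr.nd (nat_lit 6204) (Tr.lf (Fc.ed (nat_lit 6203) (nat_lit 1084) Col.e (nat_lit 2262) Dv.df))
(Tr.nd (nat_lit 6205) (Tr.lf (Fc.ed (nat_lit 6204) (nat_lit 2262) Col.a (nat_lit 2202) (Dv.wd (nat_lit 15) [Mv.f (nat_lit 6084), Mv.b (nat_lit 3347), Mv.f (nat_lit 6203)])))
(Tr.lf (Fc.ed (nat_lit 6205) (nat_lit 1854) Col.a (nat_lit 2263) Dv.df)))))
(Tr.nd (nat_lit 6208) (Tr.nd (nat_lit 6207) (Tr.lf (Fc.ed (nat_lit 6206) (nat_lit 2263) Col.gi (nat_lit 490) (Dv.wd (nat_lit 12) [Mv.f (nat_lit 4232), Mv.f (nat_lit 5284), Mv.f (nat_lit 6205)])))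
(Tr.lf (Fc.ed (nat_lit 6207) (nat_lit 1416) Col.gi (nat_lit 2263) (Dv.wd (nat_lit 12) [Mv.f (nat_lit 6206), Mv.f (nat_lit 3339), Mv.b (nat_lit 4285)]))))
(Tr.nd (nat_lit 6209) (Tr.lf (Fc.ed (nat_lit 6208) (nat_lit 1896) Col.a (nat_lit 2264) Dv.df))
(Tr.nd (nat_lit 6210) (Tr.lf (Fc.ed (nat_lit 6209) (nat_lit 2264) Col.f (nat_lit 2017) (Dv.wd (nat_lit 10) [Mv.f (nat_lit 5615), Mv.f (nat_lit 5368), Mv.f (nat_lit 6208)])))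
(Tr.lf (Fc.ed (nat_lit 6210) (nat_lit 1753) Col.gi (nat_lit 2265) Dv.df))))))
(Tr.nd (nat_lit 6216) (Tr.nd (nat_lit 6213) (Tr.nd (nat_lit 6212) (Tr.lf (Fc.ed (nat_lit 6211) (nat_lit 2265) Col.gi (nat_lit 686) (Dv.wd (nat_lit 24) [Mv.f (nat_lit 5849), Mv.f (nat_lit 5841), Mv.f (nat_lit 6210)])))
(Tr.lf (Fc.ed (nat_lit 6212) (nat_lit 2265) Col.c (nat_lit 2256) (Dv.wd (nat_lit 14) [Mv.f (nat_lit 6187), Mv.f (nat_lit 5479), Mv.f (nat_lit 5858), Mv.f (nat_lit 5736), Mv.b (nat_lit 5839), Mv.b (nat_lit 5125), Mv.f (nat_lit 4898), Mv.f (nat_lit 5073), Mv.f (nat_lit 6210)]))))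
(Tr.nd (nat_lit 6214) (Tr.lf (Fc.ed (nat_lit 6213) (nat_lit 1536) Col.g (nat_lit 1655) (Dv.wd (nat_lit 77) [Mv.f (nat_lit 5878), Mv.f (nat_lit 4567), Mv.b (nat_lit 5851), Mv.f (nat_lit 6210), Mv.f (nat_lit 6212), Mv.b (nat_lit 6186), Mv.f (nat_lit 3701), Mv.b (nat_lit 3734), Mv.f (nat_lit 4576)])))
(Tr.nd (nat_lit 6215) (Tr.lf (Fc.ed (nat_lit 6214) (nat_lit 1442) Col.a (nat_lit 2266) Dv.df))
(Tr.lf (Fc.ed (nat_lit 6215) (nat_lit 2266) Col.f (nat_lit 1490) (Dv.wd (nat_lit 10) [Mv.f (nat_lit 4478), Mv.f (nat_lit 4348), Mv.f (nat_lit 6214)]))))))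
(Tr.nd (nat_lit 6218) (Tr.nd (nat_lit 6217) (Tr.lf (Fc.ed (nat_lit 6216) (nat_lit 1610) Col.a (nat_lit 1490) (Dv.wd (nat_lit 79) [Mv.b (nat_lit 6215), Mv.b (nat_lit 6214), Mv.f (nat_lit 4734)])))
(Tr.lf (Fc.ed (nat_lit 6217) (nat_lit 1320) Col.f (nat_lit 2267) Dv.df)))
(Tr.nd (nat_lit 6219) (Tr.lf (Fc.ed (nat_lit 6218) (nat_lit 2267) Col.a (nat_lit 1385) (Dv.wd (nat_lit 16) [Mv.f (nat_lit 4511), Mv.f (nat_lit 4512), Mv.f (nat_lit 6217)])))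
(Tr.nd (nat_lit 6220) (Tr.lf (Fc.ed (nat_lit 6219) (nat_lit 1709) Col.d (nat_lit 2268) Dv.df))
(Tr.lf (Fc.ed (nat_lit 6220) (nat_lit 2268) Col.a (nat_lit 1933) (Dv.wd (nat_lit 8) [Mv.f (nat_lit 5441), Mv.b (nat_lit 4967), Mv.f (nat_lit 6219)]))))))))
(Tr.nd (nat_lit 6231) (Tr.nd (nat_lit 6226) (Tr.nd (nat_lit 6223) (Tr.nd (nat_lit 6222) (Tr.lf (Fc.ed (nat_lit 6221) (nat_lit 2110) Col.d (nat_lit 2269) Dv.df))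
(Tr.lf (Fc.ed (nat_lit 6222) (nat_lit 2269) Col.b (nat_lit 1098) (Dv.wd (nat_lit 37) [Mv.b (nat_lit 3393), Mv.b (nat_lit 5805), Mv.f (nat_lit 6221)]))))
(Tr.nd (nat_lit 6224) (Tr.lf (Fc.ed (nat_lit 6223) (nat_lit 1843) Col.b (nat_lit 2270) Dv.df))
(Tr.nd (nat_lit 6225) (Tr.lf (Fc.ed (nat_lit 6224) (nat_lit 2270) Col.d (nat_lit 976) (Dv.wd (nat_lit 58) [Mv.f (nat_lit 3415), Mv.f (nat_lit 5257), Mv.f (nat_lit 6223)])))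
(Tr.lf (Fc.ed (nat_lit 6225) (nat_lit 2122) Col.d (nat_lit 2271) Dv.df)))))
(Tr.nd (nat_lit 6228) (Tr.nd (nat_lit 6227) (Tr.lf (Fc.ed (nat_lit 6226) (nat_lit 2271) Col.b (nat_lit 1413) (Dv.wd (nat_lit 37) [Mv.b (nat_lit 4275), Mv.b (nat_lit 5900), Mv.f (nat_lit 6225)])))
(Tr.lf (Fc.ed (nat_lit 6227) (nat_lit 2247) Col.f (nat_lit 2272) Dv.df)))
(Tr.nd (nat_lit 6229) (Tr.lf (Fc.ed (nat_lit 6228) (nat_lit 2272) Col.a (nat_lit 1243) (Dv.wd (nat_lit 16) [Mv.f (nat_lit 3825), Mv.f (nat_lit 6164), Mv.f (nat_lit 6227)])))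
(Tr.nd (nat_lit 6230) (Tr.lf (Fc.ed (nat_lit 6229) (nat_lit 2272) Col.b (nat_lit 2272) (Dv.wd (nat_lit 66) [Mv.b (nat_lit 6227), Mv.f (nat_lit 6166), Mv.f (nat_lit 6227)])))
(Tr.lf (Fc.ed (nat_lit 6230) (nat_lit 1507) Col.g (nat_lit 2272) (Dv.wd (nat_lit 9) [Mv.f (nat_lit 6228), Mv.f (nat_lit 3825), Mv.f (nat_lit 4513)])))))))
(Tr.nd (nat_lit 6236) (Tr.nd (nat_lit 6233) (Tr.nd (nat_lit 6232) (Tr.lf (Fc.ed (nat_lit 6231) (nat_lit 1937) Col.f (nat_lit 2273) Dv.df))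
(Tr.lf (Fc.ed (nat_lit 6232) (nat_lit 2014) Col.a (nat_lit 2274) Dv.df)))
(Tr.nd (nat_lit 6234) (Tr.lf (Fc.ed (nat_lit 6233) (nat_lit 2274) Col.f (nat_lit 2149) (Dv.wd (nat_lit 10) [Mv.b (nat_lit 5959), Mv.f (nat_lit 5608), Mv.f (nat_lit 6232)])))
(Tr.nd (nat_lit 6235) (Tr.lf (Fc.ed (nat_lit 6234) (nat_lit 1451) Col.e (nat_lit 2275) Dv.df))
(Tr.lf (Fc.ed (nat_lit 6235) (nat_lit 2275) Col.a (nat_lit 1707) (Dv.wd (nat_lit 15) [Mv.b (nat_lit 4958), Mv.f (nat_lit 4395), Mv.f (nat_lit 6234)]))))))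
(Tr.nd (nat_lit 6239) (Tr.nd (nat_lit 6237) (Tr.lf (Fc.ed (nat_lit 6236) (nat_lit 1274) Col.c (nat_lit 2276) Dv.df))
(Tr.nd (nat_lit 6238) (Tr.lf (Fc.ed (nat_lit 6237) (nat_lit 1205) Col.a (nat_lit 2277) Dv.df))
(Tr.lf (Fc.ed (nat_lit 6238) (nat_lit 2277) Col.d (nat_lit 2162) (Dv.wd (nat_lit 28) [Mv.b (nat_lit 5988), Mv.f (nat_lit 5622), Mv.f (nat_lit 6237)])))))
(Tr.nd (nat_lit 6240) (Tr.lf (Fc.ed (nat_lit 6239) (nat_lit 2277) Col.f (nat_lit 1800) (Dv.wd (nat_lit 35) [Mv.b (nat_lit 5170), Mv.f (nat_lit 4172), Mv.f (nat_lit 6237)])))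
(Tr.nd (nat_lit 6241) (Tr.lf (Fc.ed (nat_lit 6240) (nat_lit 1021) Col.b (nat_lit 2278) Dv.df))
(Tr.lf (Fc.ed (nat_lit 6241) (nat_lit 2278) Col.d (nat_lit 2049) (Dv.wd (nat_lit 58) [Mv.b (nat_lit 5682), Mv.f (nat_lit 3190), Mv.f (nat_lit 6240)]))))))))))))
(Tr.nd (nat_lit 6406) (Tr.nd (nat_lit 6324) (Tr.nd (nat_lit 6283) (Tr.nd (nat_lit 6262) (Tr.nd (nat_lit 6252) (Tr.nd (nat_lit 6247) (Tr.nd (nat_lit 6244) (Tr.nd (nat_lit 6243) (Tr.lf (Fc.ed (nat_lit 6242) (nat_lit 1829) Col.c (nat_lit 2279) Dv.df))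
(Tr.lf (Fc.ed (nat_lit 6243) (nat_lit 2279) Col.f (nat_lit 2075) (Dv.wd (nat_lit 26) [Mv.b (nat_lit 5732), Mv.f (nat_lit 5227), Mv.f (nat_lit 6242)]))))
(Tr.nd (nat_lit 6245) (Tr.lf (Fc.ed (nat_lit 6244) (nat_lit 1631) Col.e (nat_lit 2280) Dv.df))
(Tr.nd (nat_lit 6246) (Tr.lf (Fc.ed (nat_lit 6245) (nat_lit 2280) Col.a (nat_lit 1268) (Dv.wd (nat_lit 15) [Mv.b (nat_lit 3879), Mv.f (nat_lit 4785), Mv.f (nat_lit 6244)])))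
(Tr.lf (Fc.ed (nat_lit 6246) (nat_lit 2280) Col.f (nat_lit 2218) (Dv.wd (nat_lit 96) [Mv.f (nat_lit 6114), Mv.b (nat_lit 5422), Mv.f (nat_lit 4678), Mv.b (nat_lit 4786), Mv.f (nat_lit 6244)]))))))
(Tr.nd (nat_lit 6249) (Tr.nd (nat_lit 6248) (Tr.lf (Fc.ed (nat_lit 6247) (nat_lit 1691) Col.d (nat_lit 2280) (Dv.wd (nat_lit 90) [Mv.f (nat_lit 6246), Mv.f (nat_lit 6113), Mv.b (nat_lit 4922)])))
(Tr.lf (Fc.ed (nat_lit 6248) (nat_lit 2050) Col.e (nat_lit 2281) Dv.df)))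
(Tr.nd (nat_lit 6250) (Tr.lf (Fc.ed (nat_lit 6249) (nat_lit 2281) Col.c (nat_lit 2022) (Dv.wd (nat_lit 18) [Mv.b (nat_lit 5624), Mv.f (nat_lit 5683), Mv.f (nat_lit 6248)])))
(Tr.nd (nat_lit 6251) (Tr.lf (Fc.ed (nat_lit 6250) (nat_lit 2146) Col.e (nat_lit 2282) Dv.df))
(Tr.lf (Fc.ed (nat_lit 6251) (nat_lit 1595) Col.g (nat_lit 2283) Dv.df))))))
(Tr.nd (nat_lit 6257) (Tr.nd (nat_lit 6254) (Tr.nd (nat_lit 6253) (Tr.lf (Fc.ed (nat_lit 6252) (nat_lit 2283) Col.g (nat_lit 1413) (Dv.wd (nat_lit 9) [Mv.f (nat_lit 4276), Mv.b (nat_lit 5824), Mv.f (nat_lit 6251)])))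
(Tr.lf (Fc.ed (nat_lit 6253) (nat_lit 1698) Col.f (nat_lit 2283) (Dv.wd (nat_lit 10) [Mv.f (nat_lit 6252), Mv.f (nat_lit 5828), Mv.f (nat_lit 5826)]))))
(Tr.nd (nat_lit 6255) (Tr.lf (Fc.ed (nat_lit 6254) (nat_lit 2283) Col.a (nat_lit 2283) (Dv.wd (nat_lit 16) [Mv.b (nat_lit 6253), Mv.f (nat_lit 5826), Mv.f (nat_lit 6253)])))
(Tr.nd (nat_lit 6256) (Tr.lf (Fc.ed (nat_lit 6255) (nat_lit 2116) Col.gi (nat_lit 2284) Dv.df))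
(Tr.lf (Fc.ed (nat_lit 6256) (nat_lit 1479) Col.a (nat_lit 2285) Dv.df)))))
(Tr.nd (nat_lit 6259) (Tr.nd (nat_lit 6258) (Tr.lf (Fc.ed (nat_lit 6257) (nat_lit 2285) Col.f (nat_lit 1529) (Dv.wd (nat_lit 35) [Mv.b (nat_lit 4559), Mv.b (nat_lit 4457), Mv.f (nat_lit 6256)])))
(Tr.lf (Fc.ed (nat_lit 6258) (nat_lit 1673) Col.f (nat_lit 2286) Dv.df)))
(Tr.nd (nat_lit 6260) (Tr.lf (Fc.ed (nat_lit 6259) (nat_lit 2286) Col.e (nat_lit 2136) (Dv.wd (nat_lit 22) [Mv.b (nat_lit 5931), Mv.b (nat_lit 5269), Mv.b (nat_lit 2366), Mv.f (nat_lit 4882), Mv.f (nat_lit 6258)])))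
(Tr.nd (nat_lit 6261) (Tr.lf (Fc.ed (nat_lit 6260) (nat_lit 2123) Col.a (nat_lit 2287) Dv.df))
(Tr.lf (Fc.ed (nat_lit 6261) (nat_lit 2287) Col.c (nat_lit 1668) (Dv.wd (nat_lit 33) [Mv.f (nat_lit 4870), Mv.b (nat_lit 5902), Mv.f (nat_lit 6260)]))))))))
(Tr.nd (nat_lit 6272) (Tr.nd (nat_lit 6267) (Tr.nd (nat_lit 6264) (Tr.nd (nat_lit 6263) (Tr.lf (Fc.ed (nat_lit 6262) (nat_lit 2287) Col.e (nat_lit 1082) (Dv.wd (nat_lit 56) [Mv.f (nat_lit 3342), Mv.f (nat_lit 5901), Mv.f (nat_lit 6260)])))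
(Tr.lf (Fc.ed (nat_lit 6263) (nat_lit 2047) Col.c (nat_lit 2288) Dv.df)))
(Tr.nd (nat_lit 6265) (Tr.lf (Fc.ed (nat_lit 6264) (nat_lit 2288) Col.b (nat_lit 2092) (Dv.wd (nat_lit 101) [Mv.f (nat_lit 5769), Mv.b (nat_lit 3880), Mv.b (nat_lit 784), Mv.b (nat_lit 197), Mv.b (nat_lit 564), Mv.f (nat_lit 592), Mv.f (nat_lit 2164), Mv.f (nat_lit 2166), Mv.f (nat_lit 5679), Mv.f (nat_lit 6263)])))
(Tr.nd (nat_lit 6266) (Tr.lf (Fc.ed (nat_lit 6265) (nat_lit 2025) Col.b (nat_lit 2289) Dv.df))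
(Tr.lf (Fc.ed (nat_lit 6266) (nat_lit 2289) Col.f (nat_lit 1683) (Dv.wd (nat_lit 20) [Mv.f (nat_lit 4904), Mv.b (nat_lit 5632), Mv.f (nat_lit 6265)]))))))
(Tr.nd (nat_lit 6269) (Tr.nd (nat_lit 6268) (Tr.lf (Fc.ed (nat_lit 6267) (nat_lit 2289) Col.c (nat_lit 1220) (Dv.wd (nat_lit 93) [Mv.b (nat_lit 3763), Mv.b (nat_lit 842), Mv.b (nat_lit 2950), Mv.f (nat_lit 5631), Mv.f (nat_lit 6265)])))
(Tr.lf (Fc.ed (nat_lit 6268) (nat_lit 1863) Col.c (nat_lit 2290) Dv.df)))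
(Tr.nd (nat_lit 6270) (Tr.lf (Fc.ed (nat_lit 6269) (nat_lit 2290) Col.a (nat_lit 1291) (Dv.wd (nat_lit 19) [Mv.b (nat_lit 3940), Mv.f (nat_lit 5299), Mv.f (nat_lit 6268)])))
(Tr.nd (nat_lit 6271) (Tr.lf (Fc.ed (nat_lit 6270) (nat_lit 2290) Col.f (nat_lit 2165) (Dv.wd (nat_lit 26) [Mv.b (nat_lit 5995), Mv.b (nat_lit 5300), Mv.f (nat_lit 6268)])))
(Tr.lf (Fc.ed (nat_lit 6271) (nat_lit 1194) Col.b (nat_lit 2291) Dv.df))))))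
(Tr.nd (nat_lit 6277) (Tr.nd (nat_lit 6274) (Tr.nd (nat_lit 6273) (Tr.lf (Fc.ed (nat_lit 6272) (nat_lit 2291) Col.e (nat_lit 1363) (Dv.wd (nat_lit 52) [Mv.f (nat_lit 4155), Mv.f (nat_lit 3681), Mv.f (nat_lit 6271)])))
(Tr.lf (Fc.ed (nat_lit 6273) (nat_lit 2247) Col.gi (nat_lit 2292) Dv.df)))
(Tr.nd (nat_lit 6275) (Tr.lf (Fc.ed (nat_lit 6274) (nat_lit 2292) Col.gi (nat_lit 1243) (Dv.wd (nat_lit 24) [Mv.f (nat_lit 3825), Mv.f (nat_lit 6164), Mv.f (nat_lit 6273)])))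
(Tr.nd (nat_lit 6276) (Tr.lf (Fc.ed (nat_lit 6275) (nat_lit 2236) Col.e (nat_lit 2293) Dv.df))
(Tr.lf (Fc.ed (nat_lit 6276) (nat_lit 2293) Col.f (nat_lit 951) (Dv.wd (nat_lit 96) [Mv.b (nat_lit 3006), Mv.f (nat_lit 2373), Mv.f (nat_lit 3450), Mv.f (nat_lit 6144), Mv.f (nat_lit 6275)]))))))
(Tr.nd (nat_lit 6280) (Tr.nd (nat_lit 6278) (Tr.lf (Fc.ed (nat_lit 6277) (nat_lit 2161) Col.a (nat_lit 2293) (Dv.wd (nat_lit 79) [Mv.f (nat_lit 6276), Mv.b (nat_lit 4870), Mv.f (nat_lit 5986)])))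
(Tr.nd (nat_lit 6279) (Tr.lf (Fc.ed (nat_lit 6278) (nat_lit 2293) Col.d (nat_lit 2293) (Dv.wd (nat_lit 90) [Mv.f (nat_lit 6276), Mv.f (nat_lit 3007), Mv.b (nat_lit 6276)])))
(Tr.lf (Fc.ed (nat_lit 6279) (nat_lit 2261) Col.gi (nat_lit 2294) Dv.df))))
(Tr.nd (nat_lit 6281) (Tr.lf (Fc.ed (nat_lit 6280) (nat_lit 2294) Col.gi (nat_lit 1164) (Dv.wd (nat_lit 24) [Mv.f (nat_lit 5953), Mv.f (nat_lit 6201), Mv.f (nat_lit 6279)])))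
(Tr.nd (nat_lit 6282) (Tr.lf (Fc.ed (nat_lit 6281) (nat_lit 1085) Col.b (nat_lit 2295) Dv.df))
(Tr.lf (Fc.ed (nat_lit 6282) (nat_lit 2295) Col.f (nat_lit 2210) (Dv.wd (nat_lit 20) [Mv.b (nat_lit 6097), Mv.b (nat_lit 3353), Mv.f (nat_lit 6281)])))))))))
(Tr.nd (nat_lit 6303) (Tr.nd (nat_lit 6293) (Tr.nd (nat_lit 6288) (Tr.nd (nat_lit 6285) (Tr.nd (nat_lit 6284) (Tr.lf (Fc.ed (nat_lit 6283) (nat_lit 862) Col.gi (nat_lit 2296) Dv.df))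
(Tr.lf (Fc.ed (nat_lit 6284) (nat_lit 2170) Col.f (nat_lit 2297) Dv.df)))
(Tr.nd (nat_lit 6286) (Tr.lf (Fc.ed (nat_lit 6285) (nat_lit 2297) Col.b (nat_lit 1228) (Dv.wd (nat_lit 66) [Mv.b (nat_lit 3903), Mv.b (nat_lit 6010), Mv.f (nat_lit 6284)])))
(Tr.nd (nat_lit 6287) (Tr.lf (Fc.ed (nat_lit 6286) (nat_lit 899) Col.b (nat_lit 2298) Dv.df))
(Tr.lf (Fc.ed (nat_lit 6287) (nat_lit 2298) Col.d (nat_lit 937) (Dv.wd (nat_lit 58) [Mv.b (nat_lit 2966), Mv.f (nat_lit 2870), Mv.f (nat_lit 6286)]))))))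
(Tr.nd (nat_lit 6290) (Tr.nd (nat_lit 6289) (Tr.lf (Fc.ed (nat_lit 6288) (nat_lit 2298) Col.a (nat_lit 2270) (Dv.wd (nat_lit 98) [Mv.b (nat_lit 6223), Mv.f (nat_lit 5258), Mv.f (nat_lit 3986), Mv.b (nat_lit 2936), Mv.f (nat_lit 6286)])))
(Tr.lf (Fc.ed (nat_lit 6289) (nat_lit 1196) Col.b (nat_lit 2299) Dv.df)))
(Tr.nd (nat_lit 6291) (Tr.lf (Fc.ed (nat_lit 6290) (nat_lit 2299) Col.d (nat_lit 1267) (Dv.wd (nat_lit 58) [Mv.b (nat_lit 3876), Mv.f (nat_lit 3685), Mv.f (nat_lit 6289)])))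
(Tr.nd (nat_lit 6292) (Tr.lf (Fc.ed (nat_lit 6291) (nat_lit 2299) Col.f (nat_lit 1634) (Dv.wd (nat_lit 20) [Mv.b (nat_lit 4791), Mv.b (nat_lit 4106), Mv.f (nat_lit 6289)])))
(Tr.lf (Fc.ed (nat_lit 6292) (nat_lit 1207) Col.f (nat_lit 2300) Dv.df))))))
(Tr.nd (nat_lit 6298) (Tr.nd (nat_lit 6295) (Tr.nd (nat_lit 6294) (Tr.lf (Fc.ed (nat_lit 6293) (nat_lit 2300) Col.a (nat_lit 1224) (Dv.wd (nat_lit 16) [Mv.b (nat_lit 3983), Mv.b (nat_lit 3982), Mv.f (nat_lit 6292)])))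
(Tr.lf (Fc.ed (nat_lit 6294) (nat_lit 1668) Col.gi (nat_lit 2301) Dv.df)))
(Tr.nd (nat_lit 6296) (Tr.lf (Fc.ed (nat_lit 6295) (nat_lit 2301) Col.gi (nat_lit 2293) (Dv.wd (nat_lit 24) [Mv.f (nat_lit 6276), Mv.b (nat_lit 4870), Mv.f (nat_lit 6294)])))
(Tr.nd (nat_lit 6297) (Tr.lf (Fc.ed (nat_lit 6296) (nat_lit 2022) Col.f (nat_lit 2302) Dv.df))
(Tr.lf (Fc.ed (nat_lit 6297) (nat_lit 1093) Col.b (nat_lit 2303) Dv.df)))))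
(Tr.nd (nat_lit 6300) (Tr.nd (nat_lit 6299) (Tr.lf (Fc.ed (nat_lit 6298) (nat_lit 2303) Col.e (nat_lit 1751) (Dv.wd (nat_lit 52) [Mv.f (nat_lit 5070), Mv.b (nat_lit 3506), Mv.f (nat_lit 6297)])))
(Tr.lf (Fc.ed (nat_lit 6299) (nat_lit 2303) Col.f (nat_lit 1989) (Dv.wd (nat_lit 20) [Mv.f (nat_lit 5562), Mv.f (nat_lit 3518), Mv.f (nat_lit 6297)]))))
(Tr.nd (nat_lit 6301) (Tr.lf (Fc.ed (nat_lit 6300) (nat_lit 2113) Col.d (nat_lit 2304) Dv.df))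
(Tr.nd (nat_lit 6302) (Tr.lf (Fc.ed (nat_lit 6301) (nat_lit 2304) Col.a (nat_lit 1275) (Dv.wd (nat_lit 8) [Mv.f (nat_lit 3895), Mv.b (nat_lit 5883), Mv.f (nat_lit 6300)])))
(Tr.lf (Fc.ed (nat_lit 6302) (nat_lit 2304) Col.b (nat_lit 2304) (Dv.wd (nat_lit 37) [Mv.b (nat_lit 6300), Mv.f (nat_lit 5884), Mv.f (nat_lit 6300)]))))))))
(Tr.nd (nat_lit 6313) (Tr.nd (nat_lit 6308) (Tr.nd (nat_lit 6305) (Tr.nd (nat_lit 6304) (Tr.lf (Fc.ed (nat_lit 6303) (nat_lit 2304) Col.f (nat_lit 2076) (Dv.wd (nat_lit 11) [Mv.b (nat_lit 5733), Mv.f (nat_lit 5882), Mv.f (nat_lit 6300)])))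
(Tr.lf (Fc.ed (nat_lit 6304) (nat_lit 2132) Col.gi (nat_lit 2304) (Dv.wd (nat_lit 24) [Mv.f (nat_lit 6303), Mv.f (nat_lit 5734), Mv.f (nat_lit 5925)]))))
(Tr.nd (nat_lit 6306) (Tr.lf (Fc.ed (nat_lit 6305) (nat_lit 1260) Col.a (nat_lit 2305) Dv.df))
(Tr.nd (nat_lit 6307) (Tr.lf (Fc.ed (nat_lit 6306) (nat_lit 2305) Col.c (nat_lit 2277) (Dv.wd (nat_lit 33) [Mv.b (nat_lit 6237), Mv.b (nat_lit 3861), Mv.f (nat_lit 6305)])))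
(Tr.lf (Fc.ed (nat_lit 6307) (nat_lit 2305) Col.f (nat_lit 1834) (Dv.wd (nat_lit 35) [Mv.f (nat_lit 5237), Mv.b (nat_lit 4008), Mv.f (nat_lit 6305)]))))))
(Tr.nd (nat_lit 6310) (Tr.nd (nat_lit 6309) (Tr.lf (Fc.ed (nat_lit 6308) (nat_lit 2305) Col.b (nat_lit 2277) (Dv.wd (nat_lit 65) [Mv.b (nat_lit 6237), Mv.f (nat_lit 3709), Mv.b (nat_lit 1589), Mv.f (nat_lit 3860), Mv.f (nat_lit 6305)])))
(Tr.lf (Fc.ed (nat_lit 6309) (nat_lit 1420) Col.f (nat_lit 2306) Dv.df)))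
(Tr.nd (nat_lit 6311) (Tr.lf (Fc.ed (nat_lit 6310) (nat_lit 2306) Col.a (nat_lit 1282) (Dv.wd (nat_lit 16) [Mv.b (nat_lit 4476), Mv.b (nat_lit 4475), Mv.f (nat_lit 6309)])))
(Tr.nd (nat_lit 6312) (Tr.lf (Fc.ed (nat_lit 6311) (nat_lit 1255) Col.c (nat_lit 2307) Dv.df))
(Tr.lf (Fc.ed (nat_lit 6312) (nat_lit 2307) Col.a (nat_lit 2307) (Dv.wd (nat_lit 19) [Mv.b (nat_lit 6311), Mv.f (nat_lit 3854), Mv.f (nat_lit 6311)])))))))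
(Tr.nd (nat_lit 6318) (Tr.nd (nat_lit 6315) (Tr.nd (nat_lit 6314) (Tr.lf (Fc.ed (nat_lit 6313) (nat_lit 1994) Col.d (nat_lit 2308) Dv.df))
(Tr.lf (Fc.ed (nat_lit 6314) (nat_lit 2308) Col.g (nat_lit 2228) (Dv.wd (nat_lit 139) [Mv.b (nat_lit 6129), Mv.f (nat_lit 6035), Mv.b (nat_lit 5233), Mv.b (nat_lit 5232), Mv.b (nat_lit 4589), Mv.b (nat_lit 4030), Mv.f (nat_lit 5521), Mv.b (nat_lit 5573), Mv.f (nat_lit 6313)]))))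
(Tr.nd (nat_lit 6316) (Tr.lf (Fc.ed (nat_lit 6315) (nat_lit 2110) Col.e (nat_lit 2309) Dv.df))
(Tr.nd (nat_lit 6317) (Tr.lf (Fc.ed (nat_lit 6316) (nat_lit 2309) Col.b (nat_lit 1037) (Dv.wd (nat_lit 49) [Mv.b (nat_lit 3227), Mv.b (nat_lit 5805), Mv.f (nat_lit 6315)])))
(Tr.lf (Fc.ed (nat_lit 6317) (nat_lit 1045) Col.b (nat_lit 2310) Dv.df)))))
(Tr.nd (nat_lit 6321) (Tr.nd (nat_lit 6319) (Tr.lf (Fc.ed (nat_lit 6318) (nat_lit 2310) Col.d (nat_lit 987) (Dv.wd (nat_lit 58) [Mv.b (nat_lit 3093), Mv.b (nat_lit 3246), Mv.f (nat_lit 6317)])))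
(Tr.nd (nat_lit 6320) (Tr.lf (Fc.ed (nat_lit 6319) (nat_lit 2310) Col.f (nat_lit 2298) (Dv.wd (nat_lit 20) [Mv.b (nat_lit 6286), Mv.b (nat_lit 3245), Mv.f (nat_lit 6317)])))
(Tr.lf (Fc.ed (nat_lit 6320) (nat_lit 1220) Col.a (nat_lit 2311) Dv.df))))
(Tr.nd (nat_lit 6322) (Tr.lf (Fc.ed (nat_lit 6321) (nat_lit 2311) Col.d (nat_lit 1117) (Dv.wd (nat_lit 28) [Mv.b (nat_lit 3444), Mv.b (nat_lit 3882), Mv.f (nat_lit 6320)])))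
(Tr.nd (nat_lit 6323) (Tr.lf (Fc.ed (nat_lit 6322) (nat_lit 2311) Col.b (nat_lit 2311) (Dv.wd (nat_lit 65) [Mv.b (nat_lit 6320), Mv.b (nat_lit 3763), Mv.f (nat_lit 843), Mv.f (nat_lit 3763), Mv.f (nat_lit 6320)])))
(Tr.lf (Fc.ed (nat_lit 6323) (nat_lit 1177) Col.e (nat_lit 2312) Dv.df)))))))))
(Tr.nd (nat_lit 6365) (Tr.nd (nat_lit 6344) (Tr.nd (nat_lit 6334) (Tr.nd (nat_lit 6329) (Tr.nd (nat_lit 6326) (Tr.nd (nat_lit 6325) (Tr.lf (Fc.ed (nat_lit 6324) (nat_lit 2312) Col.a (nat_lit 1999) (Dv.wd (nat_lit 15) [Mv.f (nat_lit 5585), Mv.f (nat_lit 3723), Mv.f (nat_lit 6323)])))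
(Tr.lf (Fc.ed (nat_lit 6325) (nat_lit 1267) Col.a (nat_lit 2313) Dv.df)))
(Tr.nd (nat_lit 6327) (Tr.lf (Fc.ed (nat_lit 6326) (nat_lit 2233) Col.b (nat_lit 2314) Dv.df))
(Tr.nd (nat_lit 6328) (Tr.lf (Fc.ed (nat_lit 6327) (nat_lit 2314) Col.gi (nat_lit 1229) (Dv.wd (nat_lit 100) [Mv.b (nat_lit 3791), Mv.f (nat_lit 3645), Mv.b (nat_lit 4060), Mv.b (nat_lit 2287), Mv.f (nat_lit 277), Mv.f (nat_lit 693), Mv.f (nat_lit 1110), Mv.b (nat_lit 3465), Mv.f (nat_lit 6140), Mv.f (nat_lit 6326)])))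
(Tr.lf (Fc.ed (nat_lit 6328) (nat_lit 1802) Col.gi (nat_lit 2315) Dv.df)))))
(Tr.nd (nat_lit 6331) (Tr.nd (nat_lit 6330) (Tr.lf (Fc.ed (nat_lit 6329) (nat_lit 1883) Col.c (nat_lit 2316) Dv.df))
(Tr.lf (Fc.ed (nat_lit 6330) (nat_lit 1873) Col.f (nat_lit 2317) Dv.df)))
(Tr.nd (nat_lit 6332) (Tr.lf (Fc.ed (nat_lit 6331) (nat_lit 2317) Col.a (nat_lit 1936) (Dv.wd (nat_lit 23) [Mv.f (nat_lit 5449), Mv.b (nat_lit 5320), Mv.f (nat_lit 6330)])))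
(Tr.nd (nat_lit 6333) (Tr.lf (Fc.ed (nat_lit 6332) (nat_lit 1186) Col.a (nat_lit 2318) Dv.df))
(Tr.lf (Fc.ed (nat_lit 6333) (nat_lit 2318) Col.c (nat_lit 2076) (Dv.wd (nat_lit 33) [Mv.f (nat_lit 5734), Mv.f (nat_lit 3658), Mv.f (nat_lit 6332)])))))))
(Tr.nd (nat_lit 6339) (Tr.nd (nat_lit 6336) (Tr.nd (nat_lit 6335) (Tr.lf (Fc.ed (nat_lit 6334) (nat_lit 979) Col.a (nat_lit 2319) Dv.df))
(Tr.lf (Fc.ed (nat_lit 6335) (nat_lit 2313) Col.gi (nat_lit 2320) Dv.df)))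
(Tr.nd (nat_lit 6337) (Tr.lf (Fc.ed (nat_lit 6336) (nat_lit 2320) Col.gi (nat_lit 1338) (Dv.wd (nat_lit 24) [Mv.b (nat_lit 4040), Mv.f (nat_lit 6325), Mv.f (nat_lit 6335)])))
(Tr.nd (nat_lit 6338) (Tr.lf (Fc.ed (nat_lit 6337) (nat_lit 1118) Col.e (nat_lit 2321) Dv.df))
(Tr.lf (Fc.ed (nat_lit 6338) (nat_lit 2321) Col.a (nat_lit 1847) (Dv.wd (nat_lit 15) [Mv.f (nat_lit 5266), Mv.b (nat_lit 3446), Mv.f (nat_lit 6337)]))))))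
(Tr.nd (nat_lit 6341) (Tr.nd (nat_lit 6340) (Tr.lf (Fc.ed (nat_lit 6339) (nat_lit 2321) Col.c (nat_lit 1799) (Dv.wd (nat_lit 18) [Mv.f (nat_lit 5169), Mv.f (nat_lit 3445), Mv.f (nat_lit 6337)])))
(Tr.lf (Fc.ed (nat_lit 6340) (nat_lit 1453) Col.g (nat_lit 2322) Dv.df)))
(Tr.nd (nat_lit 6342) (Tr.lf (Fc.ed (nat_lit 6341) (nat_lit 2322) Col.a (nat_lit 1229) (Dv.wd (nat_lit 114) [Mv.b (nat_lit 3964), Mv.f (nat_lit 4397), Mv.f (nat_lit 6340)])))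
(Tr.nd (nat_lit 6343) (Tr.lf (Fc.ed (nat_lit 6342) (nat_lit 2285) Col.d (nat_lit 2322) (Dv.wd (nat_lit 97) [Mv.f (nat_lit 6341), Mv.b (nat_lit 4456), Mv.f (nat_lit 6256)])))
(Tr.lf (Fc.ed (nat_lit 6343) (nat_lit 2261) Col.g (nat_lit 2323) Dv.df)))))))
(Tr.nd (nat_lit 6354) (Tr.nd (nat_lit 6349) (Tr.nd (nat_lit 6346) (Tr.nd (nat_lit 6345) (Tr.lf (Fc.ed (nat_lit 6344) (nat_lit 2323) Col.g (nat_lit 1164) (Dv.wd (nat_lit 9) [Mv.b (nat_lit 5371), Mv.b (nat_lit 6202), Mv.f (nat_lit 6343)])))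
(Tr.lf (Fc.ed (nat_lit 6345) (nat_lit 2157) Col.a (nat_lit 2324) Dv.df)))
(Tr.nd (nat_lit 6347) (Tr.lf (Fc.ed (nat_lit 6346) (nat_lit 2324) Col.f (nat_lit 2239) (Dv.wd (nat_lit 10) [Mv.f (nat_lit 6149), Mv.b (nat_lit 5976), Mv.f (nat_lit 6345)])))
(Tr.nd (nat_lit 6348) (Tr.lf (Fc.ed (nat_lit 6347) (nat_lit 1793) Col.d (nat_lit 2325) Dv.df))
(Tr.lf (Fc.ed (nat_lit 6348) (nat_lit 2325) Col.g (nat_lit 2005) (Dv.wd (nat_lit 55) [Mv.b (nat_lit 5593), Mv.b (nat_lit 5827), Mv.f (nat_lit 3851), Mv.f (nat_lit 3883), Mv.f (nat_lit 3885), Mv.b (nat_lit 5857), Mv.b (nat_lit 5479), Mv.b (nat_lit 5478), Mv.f (nat_lit 5852), Mv.f (nat_lit 6347)]))))))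
(Tr.nd (nat_lit 6351) (Tr.nd (nat_lit 6350) (Tr.lf (Fc.ed (nat_lit 6349) (nat_lit 2325) Col.e (nat_lit 2256) (Dv.wd (nat_lit 70) [Mv.f (nat_lit 6187), Mv.b (nat_lit 5478), Mv.b (nat_lit 5073), Mv.b (nat_lit 4898), Mv.f (nat_lit 5125), Mv.f (nat_lit 5275), Mv.f (nat_lit 5837), Mv.f (nat_lit 5073), Mv.f (nat_lit 5852), Mv.f (nat_lit 6347)])))
(Tr.lf (Fc.ed (nat_lit 6350) (nat_lit 1167) Col.gi (nat_lit 2326) Dv.df)))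
(Tr.nd (nat_lit 6352) (Tr.lf (Fc.ed (nat_lit 6351) (nat_lit 2326) Col.gi (nat_lit 1234) (Dv.wd (nat_lit 24) [Mv.b (nat_lit 3823), Mv.b (nat_lit 3821), Mv.f (nat_lit 6350)])))
(Tr.nd (nat_lit 6353) (Tr.lf (Fc.ed (nat_lit 6352) (nat_lit 1804) Col.gi (nat_lit 2327) Dv.df))
(Tr.lf (Fc.ed (nat_lit 6353) (nat_lit 2327) Col.gi (nat_lit 905) (Dv.wd (nat_lit 24) [Mv.b (nat_lit 3338), Mv.b (nat_lit 5176), Mv.f (nat_lit 6352)])))))))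
(Tr.nd (nat_lit 6359) (Tr.nd (nat_lit 6356) (Tr.nd (nat_lit 6355) (Tr.lf (Fc.ed (nat_lit 6354) (nat_lit 2283) Col.d (nat_lit 2328) Dv.df))
(Tr.lf (Fc.ed (nat_lit 6355) (nat_lit 2328) Col.a (nat_lit 2328) (Dv.wd (nat_lit 8) [Mv.b (nat_lit 6354), Mv.f (nat_lit 6254), Mv.f (nat_lit 6354)]))))
(Tr.nd (nat_lit 6357) (Tr.lf (Fc.ed (nat_lit 6356) (nat_lit 1923) Col.b (nat_lit 2329) Dv.df))
(Tr.nd (nat_lit 6358) (Tr.lf (Fc.ed (nat_lit 6357) (nat_lit 2329) Col.d (nat_lit 2329) (Dv.wd (nat_lit 58) [Mv.b (nat_lit 6356), Mv.f (nat_lit 5419), Mv.f (nat_lit 6356)])))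
(Tr.lf (Fc.ed (nat_lit 6358) (nat_lit 2329) Col.e (nat_lit 1359) (Dv.wd (nat_lit 52) [Mv.f (nat_lit 4143), Mv.b (nat_lit 5420), Mv.f (nat_lit 6356)]))))))
(Tr.nd (nat_lit 6362) (Tr.nd (nat_lit 6360) (Tr.lf (Fc.ed (nat_lit 6359) (nat_lit 1780) Col.a (nat_lit 2329) (Dv.wd (nat_lit 31) [Mv.f (nat_lit 6358), Mv.f (nat_lit 4142), Mv.f (nat_lit 5131)])))
(Tr.nd (nat_lit 6361) (Tr.lf (Fc.ed (nat_lit 6360) (nat_lit 1169) Col.a (nat_lit 2330) Dv.df))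
(Tr.lf (Fc.ed (nat_lit 6361) (nat_lit 2330) Col.d (nat_lit 1631) (Dv.wd (nat_lit 28) [Mv.b (nat_lit 4785), Mv.f (nat_lit 3881), Mv.f (nat_lit 6360)])))))
(Tr.nd (nat_lit 6363) (Tr.lf (Fc.ed (nat_lit 6362) (nat_lit 2330) Col.e (nat_lit 1976) (Dv.wd (nat_lit 56) [Mv.b (nat_lit 5532), Mv.f (nat_lit 4733), Mv.f (nat_lit 6360)])))
(Tr.nd (nat_lit 6364) (Tr.lf (Fc.ed (nat_lit 6363) (nat_lit 2330) Col.f (nat_lit 2311) (Dv.wd (nat_lit 35) [Mv.b (nat_lit 6320), Mv.f (nat_lit 3764), Mv.f (nat_lit 6360)])))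
(Tr.lf (Fc.ed (nat_lit 6364) (nat_lit 2330) Col.b (nat_lit 2330) (Dv.wd (nat_lit 65) [Mv.b (nat_lit 6360), Mv.b (nat_lit 3597), Mv.f (nat_lit 787), Mv.f (nat_lit 3597), Mv.f (nat_lit 6360)])))))))))
(Tr.nd (nat_lit 6385) (Tr.nd (nat_lit 6375) (Tr.nd (nat_lit 6370) (Tr.nd (nat_lit 6367) (Tr.nd (nat_lit 6366) (Tr.lf (Fc.ed (nat_lit 6365) (nat_lit 1987) Col.c (nat_lit 2331) Dv.df))
(Tr.lf (Fc.ed (nat_lit 6366) (nat_lit 2331) Col.a (nat_lit 2331) (Dv.wd (nat_lit 19) [Mv.b (nat_lit 6365), Mv.f (nat_lit 5558), Mv.f (nat_lit 6365)]))))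
(Tr.nd (nat_lit 6368) (Tr.lf (Fc.ed (nat_lit 6367) (nat_lit 2331) Col.g (nat_lit 2307) (Dv.wd (nat_lit 105) [Mv.b (nat_lit 6311), Mv.b (nat_lit 3852), Mv.b (nat_lit 2336), Mv.f (nat_lit 2284), Mv.f (nat_lit 3479), Mv.f (nat_lit 3698), Mv.b (nat_lit 3700), Mv.b (nat_lit 4815), Mv.f (nat_lit 5555), Mv.f (nat_lit 6365)])))
(Tr.nd (nat_lit 6369) (Tr.lf (Fc.ed (nat_lit 6368) (nat_lit 2024) Col.e (nat_lit 2332) Dv.df))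
(Tr.lf (Fc.ed (nat_lit 6369) (nat_lit 2200) Col.e (nat_lit 2333) Dv.df)))))
(Tr.nd (nat_lit 6372) (Tr.nd (nat_lit 6371) (Tr.lf (Fc.ed (nat_lit 6370) (nat_lit 2333) Col.b (nat_lit 1174) (Dv.wd (nat_lit 49) [Mv.b (nat_lit 3623), Mv.f (nat_lit 6079), Mv.f (nat_lit 6369)])))
(Tr.lf (Fc.ed (nat_lit 6371) (nat_lit 2333) Col.d (nat_lit 2145) (Dv.wd (nat_lit 59) [Mv.b (nat_lit 5952), Mv.f (nat_lit 4931), Mv.b (nat_lit 5187), Mv.b (nat_lit 6080), Mv.f (nat_lit 6369)]))))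
(Tr.nd (nat_lit 6373) (Tr.lf (Fc.ed (nat_lit 6372) (nat_lit 2186) Col.f (nat_lit 2334) Dv.df))
(Tr.nd (nat_lit 6374) (Tr.lf (Fc.ed (nat_lit 6373) (nat_lit 2334) Col.b (nat_lit 1063) (Dv.wd (nat_lit 66) [Mv.b (nat_lit 3289), Mv.f (nat_lit 6047), Mv.f (nat_lit 6372)])))
(Tr.lf (Fc.ed (nat_lit 6374) (nat_lit 2334) Col.d (nat_lit 2211) (Dv.wd (nat_lit 21) [Mv.b (nat_lit 6098), Mv.b (nat_lit 6048), Mv.f (nat_lit 6372)])))))))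
(Tr.nd (nat_lit 6380) (Tr.nd (nat_lit 6377) (Tr.nd (nat_lit 6376) (Tr.lf (Fc.ed (nat_lit 6375) (nat_lit 2299) Col.e (nat_lit 2335) Dv.df))
(Tr.lf (Fc.ed (nat_lit 6376) (nat_lit 2335) Col.d (nat_lit 1756) (Dv.wd (nat_lit 59) [Mv.f (nat_lit 5080), Mv.b (nat_lit 4722), Mv.b (nat_lit 4577), Mv.b (nat_lit 6290), Mv.f (nat_lit 6375)]))))
(Tr.nd (nat_lit 6378) (Tr.lf (Fc.ed (nat_lit 6377) (nat_lit 2005) Col.c (nat_lit 2336) Dv.df))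
(Tr.nd (nat_lit 6379) (Tr.lf (Fc.ed (nat_lit 6378) (nat_lit 2336) Col.a (nat_lit 2336) (Dv.wd (nat_lit 19) [Mv.b (nat_lit 6377), Mv.f (nat_lit 5871), Mv.f (nat_lit 6377)])))
(Tr.lf (Fc.ed (nat_lit 6379) (nat_lit 2336) Col.e (nat_lit 1262) (Dv.wd (nat_lit 25) [Mv.b (nat_lit 3864), Mv.b (nat_lit 5830), Mv.f (nat_lit 6377)]))))))
(Tr.nd (nat_lit 6382) (Tr.nd (nat_lit 6381) (Tr.lf (Fc.ed (nat_lit 6380) (nat_lit 1965) Col.f (nat_lit 2337) Dv.df))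
(Tr.lf (Fc.ed (nat_lit 6381) (nat_lit 2337) Col.a (nat_lit 2168) (Dv.wd (nat_lit 23) [Mv.f (nat_lit 6003), Mv.f (nat_lit 5507), Mv.f (nat_lit 6380)]))))
(Tr.nd (nat_lit 6383) (Tr.lf (Fc.ed (nat_lit 6382) (nat_lit 1219) Col.b (nat_lit 2338) Dv.df))
(Tr.nd (nat_lit 6384) (Tr.lf (Fc.ed (nat_lit 6383) (nat_lit 2338) Col.d (nat_lit 1883) (Dv.wd (nat_lit 58) [Mv.b (nat_lit 5343), Mv.f (nat_lit 3757), Mv.f (nat_lit 6382)])))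
(Tr.lf (Fc.ed (nat_lit 6384) (nat_lit 2338) Col.f (nat_lit 2269) (Dv.wd (nat_lit 20) [Mv.f (nat_lit 6222), Mv.b (nat_lit 3759), Mv.f (nat_lit 6382)]))))))))
(Tr.nd (nat_lit 6395) (Tr.nd (nat_lit 6390) (Tr.nd (nat_lit 6387) (Tr.nd (nat_lit 6386) (Tr.lf (Fc.ed (nat_lit 6385) (nat_lit 1637) Col.a (nat_lit 2339) Dv.df))
(Tr.lf (Fc.ed (nat_lit 6386) (nat_lit 2339) Col.c (nat_lit 1408) (Dv.wd (nat_lit 33) [Mv.b (nat_lit 4747), Mv.f (nat_lit 4796), Mv.f (nat_lit 6385)]))))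
(Tr.nd (nat_lit 6388) (Tr.lf (Fc.ed (nat_lit 6387) (nat_lit 2339) Col.e (nat_lit 1138) (Dv.wd (nat_lit 56) [Mv.f (nat_lit 3492), Mv.b (nat_lit 4797), Mv.f (nat_lit 6385)])))
(Tr.nd (nat_lit 6389) (Tr.lf (Fc.ed (nat_lit 6388) (nat_lit 1166) Col.gi (nat_lit 2340) Dv.df))
(Tr.lf (Fc.ed (nat_lit 6389) (nat_lit 2340) Col.gi (nat_lit 2272) (Dv.wd (nat_lit 24) [Mv.b (nat_lit 6227), Mv.b (nat_lit 6164), Mv.f (nat_lit 6388)]))))))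
(Tr.nd (nat_lit 6392) (Tr.nd (nat_lit 6391) (Tr.lf (Fc.ed (nat_lit 6390) (nat_lit 1325) Col.g (nat_lit 2341) Dv.df))
(Tr.lf (Fc.ed (nat_lit 6391) (nat_lit 2341) Col.g (nat_lit 2305) (Dv.wd (nat_lit 9) [Mv.b (nat_lit 6305), Mv.f (nat_lit 4008), Mv.f (nat_lit 6390)]))))
(Tr.nd (nat_lit 6393) (Tr.lf (Fc.ed (nat_lit 6392) (nat_lit 1964) Col.a (nat_lit 2342) Dv.df))
(Tr.nd (nat_lit 6394) (Tr.lf (Fc.ed (nat_lit 6393) (nat_lit 2342) Col.d (nat_lit 2342) (Dv.wd (nat_lit 28) [Mv.b (nat_lit 6392), Mv.f (nat_lit 5506), Mv.f (nat_lit 6392)])))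
(Tr.lf (Fc.ed (nat_lit 6394) (nat_lit 2342) Col.e (nat_lit 2272) (Dv.wd (nat_lit 56) [Mv.f (nat_lit 6228), Mv.f (nat_lit 5504), Mv.f (nat_lit 6392)])))))))
(Tr.nd (nat_lit 6400) (Tr.nd (nat_lit 6397) (Tr.nd (nat_lit 6396) (Tr.lf (Fc.ed (nat_lit 6395) (nat_lit 1152) Col.gi (nat_lit 2343) Dv.df))
(Tr.lf (Fc.ed (nat_lit 6396) (nat_lit 2343) Col.gi (nat_lit 1238) (Dv.wd (nat_lit 24) [Mv.f (nat_lit 3809), Mv.f (nat_lit 3798), Mv.f (nat_lit 6395)]))))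
(Tr.nd (nat_lit 6398) (Tr.lf (Fc.ed (nat_lit 6397) (nat_lit 1463) Col.a (nat_lit 2344) Dv.df))
(Tr.nd (nat_lit 6399) (Tr.lf (Fc.ed (nat_lit 6398) (nat_lit 1795) Col.f (nat_lit 2345) Dv.df))
(Tr.lf (Fc.ed (nat_lit 6399) (nat_lit 2345) Col.a (nat_lit 2345) (Dv.wd (nat_lit 16) [Mv.b (nat_lit 6398), Mv.f (nat_lit 5829), Mv.f (nat_lit 6398)]))))))
(Tr.nd (nat_lit 6403) (Tr.nd (nat_lit 6401) (Tr.lf (Fc.ed (nat_lit 6400) (nat_lit 2345) Col.c (nat_lit 2283) (Dv.wd (nat_lit 34) [Mv.b (nat_lit 6253), Mv.f (nat_lit 5161), Mv.f (nat_lit 6398)])))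
(Tr.nd (nat_lit 6402) (Tr.lf (Fc.ed (nat_lit 6401) (nat_lit 2345) Col.gi (nat_lit 1776) (Dv.wd (nat_lit 12) [Mv.f (nat_lit 5832), Mv.f (nat_lit 6398), Mv.f (nat_lit 6399)])))
(Tr.lf (Fc.ed (nat_lit 6402) (nat_lit 2345) Col.g (nat_lit 1850) (Dv.wd (nat_lit 17) [Mv.b (nat_lit 5831), Mv.f (nat_lit 5829), Mv.f (nat_lit 6398)])))))
(Tr.nd (nat_lit 6404) (Tr.lf (Fc.ed (nat_lit 6403) (nat_lit 2345) Col.e (nat_lit 1432) (Dv.wd (nat_lit 22) [Mv.f (nat_lit 4327), Mv.b (nat_lit 3696), Mv.b (nat_lit 3850), Mv.f (nat_lit 5827), Mv.f (nat_lit 6398)])))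
(Tr.nd (nat_lit 6405) (Tr.lf (Fc.ed (nat_lit 6404) (nat_lit 1035) Col.gi (nat_lit 2346) Dv.df))
(Tr.lf (Fc.ed (nat_lit 6405) (nat_lit 2346) Col.gi (nat_lit 1975) (Dv.wd (nat_lit 24) [Mv.f (nat_lit 5531), Mv.f (nat_lit 4553), Mv.f (nat_lit 6404)])))))))))))
(Tr.nd (nat_lit 6488) (Tr.nd (nat_lit 6447) (Tr.nd (nat_lit 6426) (Tr.nd (nat_lit 6416) (Tr.nd (nat_lit 6411) (Tr.nd (nat_lit 6408) (Tr.nd (nat_lit 6407) (Tr.lf (Fc.ed (nat_lit 6406) (nat_lit 2108) Col.g (nat_lit 2347) Dv.df))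
(Tr.lf (Fc.ed (nat_lit 6407) (nat_lit 2347) Col.d (nat_lit 2256) (Dv.wd (nat_lit 39) [Mv.b (nat_lit 6349), Mv.f (nat_lit 6348), Mv.f (nat_lit 5830), Mv.f (nat_lit 3559), Mv.b (nat_lit 2905), Mv.b (nat_lit 3828), Mv.f (nat_lit 3883), Mv.b (nat_lit 5754), Mv.f (nat_lit 5801), Mv.f (nat_lit 6406)]))))
(Tr.nd (nat_lit 6409) (Tr.lf (Fc.ed (nat_lit 6408) (nat_lit 1993) Col.g (nat_lit 2348) Dv.df))
(Tr.nd (nat_lit 6410) (Tr.lf (Fc.ed (nat_lit 6409) (nat_lit 2348) Col.g (nat_lit 2290) (Dv.wd (nat_lit 9) [Mv.f (nat_lit 6269), Mv.b (nat_lit 5571), Mv.f (nat_lit 6408)])))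
(Tr.lf (Fc.ed (nat_lit 6410) (nat_lit 938) Col.c (nat_lit 2349) Dv.df)))))
(Tr.nd (nat_lit 6413) (Tr.nd (nat_lit 6412) (Tr.lf (Fc.ed (nat_lit 6411) (nat_lit 1308) Col.d (nat_lit 2350) Dv.df))
(Tr.lf (Fc.ed (nat_lit 6412) (nat_lit 2350) Col.b (nat_lit 1269) (Dv.wd (nat_lit 37) [Mv.f (nat_lit 3885), Mv.f (nat_lit 3975), Mv.f (nat_lit 6411)]))))
(Tr.nd (nat_lit 6414) (Tr.lf (Fc.ed (nat_lit 6413) (nat_lit 2350) Col.e (nat_lit 1266) (Dv.wd (nat_lit 42) [Mv.b (nat_lit 3874), Mv.b (nat_lit 3337), Mv.b (nat_lit 3958), Mv.b (nat_lit 3976), Mv.f (nat_lit 6411)])))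
(Tr.nd (nat_lit 6415) (Tr.lf (Fc.ed (nat_lit 6414) (nat_lit 2045) Col.b (nat_lit 2351) Dv.df))
(Tr.lf (Fc.ed (nat_lit 6415) (nat_lit 2351) Col.f (nat_lit 2095) (Dv.wd (nat_lit 20) [Mv.b (nat_lit 5773), Mv.f (nat_lit 5727), Mv.f (nat_lit 6414)])))))))
(Tr.nd (nat_lit 6421) (Tr.nd (nat_lit 6418) (Tr.nd (nat_lit 6417) (Tr.lf (Fc.ed (nat_lit 6416) (nat_lit 1312) Col.a (nat_lit 2352) Dv.df))
(Tr.lf (Fc.ed (nat_lit 6417) (nat_lit 2352) Col.f (nat_lit 1257) (Dv.wd (nat_lit 35) [Mv.b (nat_lit 4120), Mv.f (nat_lit 4121), Mv.f (nat_lit 6416)]))))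
(Tr.nd (nat_lit 6419) (Tr.lf (Fc.ed (nat_lit 6418) (nat_lit 2331) Col.gi (nat_lit 2353) Dv.df))
(Tr.nd (nat_lit 6420) (Tr.lf (Fc.ed (nat_lit 6419) (nat_lit 2353) Col.f (nat_lit 2307) (Dv.wd (nat_lit 13) [Mv.f (nat_lit 6312), Mv.b (nat_lit 6367), Mv.f (nat_lit 6418)])))
(Tr.lf (Fc.ed (nat_lit 6420) (nat_lit 2353) Col.c (nat_lit 1646) (Dv.wd (nat_lit 81) [Mv.f (nat_lit 6195), Mv.b (nat_lit 6190), Mv.f (nat_lit 4213), Mv.f (nat_lit 2959), Mv.f (nat_lit 3970), Mv.f (nat_lit 3972), Mv.f (nat_lit 5557), Mv.f (nat_lit 6365), Mv.f (nat_lit 6418)]))))))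
(Tr.nd (nat_lit 6423) (Tr.nd (nat_lit 6422) (Tr.lf (Fc.ed (nat_lit 6421) (nat_lit 2159) Col.a (nat_lit 2354) Dv.df))
(Tr.lf (Fc.ed (nat_lit 6422) (nat_lit 2354) Col.f (nat_lit 2152) (Dv.wd (nat_lit 10) [Mv.b (nat_lit 5965), Mv.b (nat_lit 5982), Mv.f (nat_lit 6421)]))))
(Tr.nd (nat_lit 6424) (Tr.lf (Fc.ed (nat_lit 6423) (nat_lit 2167) Col.f (nat_lit 2355) Dv.df))
(Tr.nd (nat_lit 6425) (Tr.lf (Fc.ed (nat_lit 6424) (nat_lit 2355) Col.c (nat_lit 1566) (Dv.wd (nat_lit 34) [Mv.f (nat_lit 4642), Mv.f (nat_lit 6005), Mv.f (nat_lit 6423)])))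
(Tr.lf (Fc.ed (nat_lit 6425) (nat_lit 2355) Col.g (nat_lit 2160) (Dv.wd (nat_lit 17) [Mv.f (nat_lit 6000), Mv.f (nat_lit 6006), Mv.f (nat_lit 6423)]))))))))
(Tr.nd (nat_lit 6436) (Tr.nd (nat_lit 6431) (Tr.nd (nat_lit 6428) (Tr.nd (nat_lit 6427) (Tr.lf (Fc.ed (nat_lit 6426) (nat_lit 2228) Col.g (nat_lit 2356) Dv.df))
(Tr.lf (Fc.ed (nat_lit 6427) (nat_lit 1319) Col.c (nat_lit 2357) Dv.df)))
(Tr.nd (nat_lit 6429) (Tr.lf (Fc.ed (nat_lit 6428) (nat_lit 1368) Col.g (nat_lit 2358) Dv.df))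
(Tr.nd (nat_lit 6430) (Tr.lf (Fc.ed (nat_lit 6429) (nat_lit 2358) Col.e (nat_lit 2260) (Dv.wd (nat_lit 47) [Mv.b (nat_lit 6200), Mv.b (nat_lit 6151), Mv.f (nat_lit 3007), Mv.b (nat_lit 3006), Mv.b (nat_lit 2372), Mv.b (nat_lit 2352), Mv.b (nat_lit 1064), Mv.f (nat_lit 2179), Mv.b (nat_lit 4168), Mv.f (nat_lit 6428)])))
(Tr.lf (Fc.ed (nat_lit 6430) (nat_lit 1349) Col.b (nat_lit 2359) Dv.df)))))
(Tr.nd (nat_lit 6433) (Tr.nd (nat_lit 6432) (Tr.lf (Fc.ed (nat_lit 6431) (nat_lit 2359) Col.d (nat_lit 1402) (Dv.wd (nat_lit 58) [Mv.b (nat_lit 4248), Mv.b (nat_lit 4123), Mv.f (nat_lit 6430)])))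
(Tr.lf (Fc.ed (nat_lit 6432) (nat_lit 2359) Col.e (nat_lit 2271) (Dv.wd (nat_lit 52) [Mv.f (nat_lit 6226), Mv.f (nat_lit 4277), Mv.f (nat_lit 6430)]))))
(Tr.nd (nat_lit 6434) (Tr.lf (Fc.ed (nat_lit 6433) (nat_lit 1216) Col.c (nat_lit 2360) Dv.df))
(Tr.nd (nat_lit 6435) (Tr.lf (Fc.ed (nat_lit 6434) (nat_lit 1511) Col.d (nat_lit 2361) Dv.df))
(Tr.lf (Fc.ed (nat_lit 6435) (nat_lit 2361) Col.f (nat_lit 1618) (Dv.wd (nat_lit 11) [Mv.f (nat_lit 4752), Mv.f (nat_lit 4561), Mv.f (nat_lit 6434)])))))))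
(Tr.nd (nat_lit 6441) (Tr.nd (nat_lit 6438) (Tr.nd (nat_lit 6437) (Tr.lf (Fc.ed (nat_lit 6436) (nat_lit 1766) Col.g (nat_lit 2362) Dv.df))
(Tr.lf (Fc.ed (nat_lit 6437) (nat_lit 2362) Col.g (nat_lit 1648) (Dv.wd (nat_lit 9) [Mv.b (nat_lit 4818), Mv.f (nat_lit 5106), Mv.f (nat_lit 6436)]))))
(Tr.nd (nat_lit 6439) (Tr.lf (Fc.ed (nat_lit 6438) (nat_lit 1087) Col.b (nat_lit 2363) Dv.df))
(Tr.nd (nat_lit 6440) (Tr.lf (Fc.ed (nat_lit 6439) (nat_lit 2363) Col.e (nat_lit 1883) (Dv.wd (nat_lit 52) [Mv.b (nat_lit 5343), Mv.f (nat_lit 3749), Mv.f (nat_lit 6438)])))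
(Tr.lf (Fc.ed (nat_lit 6440) (nat_lit 2005) Col.g (nat_lit 2364) Dv.df)))))
(Tr.nd (nat_lit 6444) (Tr.nd (nat_lit 6442) (Tr.lf (Fc.ed (nat_lit 6441) (nat_lit 2364) Col.d (nat_lit 2265) (Dv.wd (nat_lit 85) [Mv.f (nat_lit 6212), Mv.b (nat_lit 6407), Mv.b (nat_lit 6406), Mv.b (nat_lit 5801), Mv.f (nat_lit 5754), Mv.b (nat_lit 5273), Mv.b (nat_lit 5831), Mv.f (nat_lit 5593), Mv.f (nat_lit 6440)])))
(Tr.nd (nat_lit 6443) (Tr.lf (Fc.ed (nat_lit 6442) (nat_lit 2336) Col.g (nat_lit 2053) (Dv.wd (nat_lit 145) [Mv.b (nat_lit 5691), Mv.b (nat_lit 5305), Mv.f (nat_lit 5016), Mv.f (nat_lit 5848), Mv.f (nat_lit 5073), Mv.f (nat_lit 6210), Mv.b (nat_lit 6441), Mv.b (nat_lit 6440), Mv.f (nat_lit 6377)])))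
(Tr.lf (Fc.ed (nat_lit 6443) (nat_lit 2265) Col.e (nat_lit 2365) Dv.df))))
(Tr.nd (nat_lit 6445) (Tr.lf (Fc.ed (nat_lit 6444) (nat_lit 2365) Col.c (nat_lit 2325) (Dv.wd (nat_lit 18) [Mv.f (nat_lit 6349), Mv.b (nat_lit 6212), Mv.f (nat_lit 6443)])))
(Tr.nd (nat_lit 6446) (Tr.lf (Fc.ed (nat_lit 6445) (nat_lit 2365) Col.g (nat_lit 2080) (Dv.wd (nat_lit 38) [Mv.b (nat_lit 5745), Mv.f (nat_lit 4047), Mv.f (nat_lit 4050), Mv.b (nat_lit 4035), Mv.f (nat_lit 5272), Mv.b (nat_lit 5831), Mv.f (nat_lit 5593), Mv.f (nat_lit 6440), Mv.f (nat_lit 6441), Mv.f (nat_lit 6443)])))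
(Tr.lf (Fc.ed (nat_lit 6446) (nat_lit 2365) Col.d (nat_lit 2207) (Dv.wd (nat_lit 91) [Mv.f (nat_lit 6092), Mv.b (nat_lit 3441), Mv.b (nat_lit 3251), Mv.f (nat_lit 760), Mv.f (nat_lit 736), Mv.f (nat_lit 587), Mv.b (nat_lit 628), Mv.f (nat_lit 2016), Mv.b (nat_lit 6211), Mv.f (nat_lit 6443)])))))))))
(Tr.nd (nat_lit 6467) (Tr.nd (nat_lit 6457) (Tr.nd (nat_lit 6452) (Tr.nd (nat_lit 6449) (Tr.nd (nat_lit 6448) (Tr.lf (Fc.ed (nat_lit 6447) (nat_lit 2066) Col.g (nat_lit 2366) Dv.df))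
(Tr.lf (Fc.ed (nat_lit 6448) (nat_lit 959) Col.b (nat_lit 2367) Dv.df)))
(Tr.nd (nat_lit 6450) (Tr.lf (Fc.ed (nat_lit 6449) (nat_lit 2367) Col.c (nat_lit 1687) (Dv.wd (nat_lit 93) [Mv.b (nat_lit 4911), Mv.f (nat_lit 4805), Mv.f (nat_lit 2365), Mv.f (nat_lit 3024), Mv.f (nat_lit 6448)])))
(Tr.nd (nat_lit 6451) (Tr.lf (Fc.ed (nat_lit 6450) (nat_lit 1962) Col.c (nat_lit 2368) Dv.df))
(Tr.lf (Fc.ed (nat_lit 6451) (nat_lit 2368) Col.a (nat_lit 2281) (Dv.wd (nat_lit 19) [Mv.f (nat_lit 6249), Mv.f (nat_lit 5625), Mv.f (nat_lit 6450)]))))))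
(Tr.nd (nat_lit 6454) (Tr.nd (nat_lit 6453) (Tr.lf (Fc.ed (nat_lit 6452) (nat_lit 2368) Col.e (nat_lit 2027) (Dv.wd (nat_lit 25) [Mv.b (nat_lit 5634), Mv.f (nat_lit 5501), Mv.f (nat_lit 6450)])))
(Tr.lf (Fc.ed (nat_lit 6453) (nat_lit 2302) Col.e (nat_lit 2369) Dv.df)))
(Tr.nd (nat_lit 6455) (Tr.lf (Fc.ed (nat_lit 6454) (nat_lit 2369) Col.f (nat_lit 1481) (Dv.wd (nat_lit 96) [Mv.b (nat_lit 4461), Mv.f (nat_lit 3060), Mv.f (nat_lit 5624), Mv.f (nat_lit 6296), Mv.f (nat_lit 6453)])))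
(Tr.nd (nat_lit 6456) (Tr.lf (Fc.ed (nat_lit 6455) (nat_lit 2199) Col.g (nat_lit 2370) Dv.df))
(Tr.lf (Fc.ed (nat_lit 6456) (nat_lit 2370) Col.g (nat_lit 2318) (Dv.wd (nat_lit 9) [Mv.b (nat_lit 6332), Mv.b (nat_lit 6078), Mv.f (nat_lit 6455)])))))))
(Tr.nd (nat_lit 6462) (Tr.nd (nat_lit 6459) (Tr.nd (nat_lit 6458) (Tr.lf (Fc.ed (nat_lit 6457) (nat_lit 1593) Col.b (nat_lit 2371) Dv.df))
(Tr.lf (Fc.ed (nat_lit 6458) (nat_lit 1969) Col.f (nat_lit 2372) Dv.df)))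
(Tr.nd (nat_lit 6460) (Tr.lf (Fc.ed (nat_lit 6459) (nat_lit 901) Col.g (nat_lit 2373) Dv.df))
(Tr.nd (nat_lit 6461) (Tr.lf (Fc.ed (nat_lit 6460) (nat_lit 2367) Col.f (nat_lit 2374) Dv.df))
(Tr.lf (Fc.ed (nat_lit 6461) (nat_lit 2374) Col.b (nat_lit 971) (Dv.wd (nat_lit 66) [Mv.f (nat_lit 3057), Mv.f (nat_lit 6448), Mv.f (nat_lit 6460)]))))))
(Tr.nd (nat_lit 6464) (Tr.nd (nat_lit 6463) (Tr.lf (Fc.ed (nat_lit 6462) (nat_lit 1111) Col.g (nat_lit 2375) Dv.df))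
(Tr.lf (Fc.ed (nat_lit 6463) (nat_lit 2375) Col.g (nat_lit 1953) (Dv.wd (nat_lit 9) [Mv.b (nat_lit 5480), Mv.f (nat_lit 3935), Mv.f (nat_lit 6462)]))))
(Tr.nd (nat_lit 6465) (Tr.lf (Fc.ed (nat_lit 6464) (nat_lit 1988) Col.b (nat_lit 2376) Dv.df))
(Tr.nd (nat_lit 6466) (Tr.lf (Fc.ed (nat_lit 6465) (nat_lit 1576) Col.a (nat_lit 2377) Dv.df))
(Tr.lf (Fc.ed (nat_lit 6466) (nat_lit 2377) Col.e (nat_lit 2035) (Dv.wd (nat_lit 56) [Mv.b (nat_lit 5646), Mv.f (nat_lit 4668), Mv.f (nat_lit 6465)]))))))))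
(Tr.nd (nat_lit 6477) (Tr.nd (nat_lit 6472) (Tr.nd (nat_lit 6469) (Tr.nd (nat_lit 6468) (Tr.lf (Fc.ed (nat_lit 6467) (nat_lit 2377) Col.b (nat_lit 2377) (Dv.wd (nat_lit 65) [Mv.b (nat_lit 6465), Mv.f (nat_lit 4669), Mv.f (nat_lit 3702), Mv.b (nat_lit 4669), Mv.f (nat_lit 6465)])))
(Tr.lf (Fc.ed (nat_lit 6468) (nat_lit 1713) Col.gi (nat_lit 2378) Dv.df)))
(Tr.nd (nat_lit 6470) (Tr.lf (Fc.ed (nat_lit 6469) (nat_lit 2378) Col.gi (nat_lit 1273) (Dv.wd (nat_lit 24) [Mv.b (nat_lit 4138), Mv.b (nat_lit 4978), Mv.f (nat_lit 6468)])))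
(Tr.nd (nat_lit 6471) (Tr.lf (Fc.ed (nat_lit 6470) (nat_lit 2190) Col.b (nat_lit 2379) Dv.df))
(Tr.lf (Fc.ed (nat_lit 6471) (nat_lit 1345) Col.g (nat_lit 2380) Dv.df)))))
(Tr.nd (nat_lit 6474) (Tr.nd (nat_lit 6473) (Tr.lf (Fc.ed (nat_lit 6472) (nat_lit 1874) Col.d (nat_lit 2381) Dv.df))
(Tr.lf (Fc.ed (nat_lit 6473) (nat_lit 1827) Col.c (nat_lit 2382) Dv.df)))
(Tr.nd (nat_lit 6475) (Tr.lf (Fc.ed (nat_lit 6474) (nat_lit 2221) Col.a (nat_lit 2383) Dv.df))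
(Tr.nd (nat_lit 6476) (Tr.lf (Fc.ed (nat_lit 6475) (nat_lit 2383) Col.d (nat_lit 2384) Dv.df))
(Tr.lf (Fc.ed (nat_lit 6476) (nat_lit 2384) Col.a (nat_lit 2250) (Dv.wd (nat_lit 8) [Mv.b (nat_lit 6172), Mv.f (nat_lit 6474), Mv.f (nat_lit 6475)])))))))
(Tr.nd (nat_lit 6482) (Tr.nd (nat_lit 6479) (Tr.nd (nat_lit 6478) (Tr.lf (Fc.ed (nat_lit 6477) (nat_lit 2307) Col.b (nat_lit 2385) Dv.df))
(Tr.lf (Fc.ed (nat_lit 6478) (nat_lit 1309) Col.e (nat_lit 2386) Dv.df)))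
(Tr.nd (nat_lit 6480) (Tr.lf (Fc.ed (nat_lit 6479) (nat_lit 2386) Col.a (nat_lit 1317) (Dv.wd (nat_lit 15) [Mv.f (nat_lit 3994), Mv.f (nat_lit 3977), Mv.f (nat_lit 6478)])))
(Tr.nd (nat_lit 6481) (Tr.lf (Fc.ed (nat_lit 6480) (nat_lit 2386) Col.b (nat_lit 2386) (Dv.wd (nat_lit 49) [Mv.b (nat_lit 6478), Mv.f (nat_lit 3978), Mv.f (nat_lit 6478)])))
(Tr.lf (Fc.ed (nat_lit 6481) (nat_lit 2386) Col.d (nat_lit 2377) (Dv.wd (nat_lit 59) [Mv.f (nat_lit 6466), Mv.f (nat_lit 5647), Mv.f (nat_lit 5050), Mv.f (nat_lit 4832), Mv.f (nat_lit 6478)]))))))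
(Tr.nd (nat_lit 6485) (Tr.nd (nat_lit 6483) (Tr.lf (Fc.ed (nat_lit 6482) (nat_lit 1286) Col.d (nat_lit 2387) Dv.df))
(Tr.nd (nat_lit 6484) (Tr.lf (Fc.ed (nat_lit 6483) (nat_lit 1895) Col.gi (nat_lit 2388) Dv.df))
(Tr.lf (Fc.ed (nat_lit 6484) (nat_lit 2388) Col.gi (nat_lit 906) (Dv.wd (nat_lit 24) [Mv.f (nat_lit 2892), Mv.f (nat_lit 5364), Mv.f (nat_lit 6483)])))))
(Tr.nd (nat_lit 6486) (Tr.lf (Fc.ed (nat_lit 6485) (nat_lit 874) Col.e (nat_lit 2389) Dv.df))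
(Tr.nd (nat_lit 6487) (Tr.lf (Fc.ed (nat_lit 6486) (nat_lit 2328) Col.e (nat_lit 2390) Dv.df))
(Tr.lf (Fc.ed (nat_lit 6487) (nat_lit 2390) Col.a (nat_lit 2390) (Dv.wd (nat_lit 15) [Mv.b (nat_lit 6486), Mv.f (nat_lit 6355), Mv.f (nat_lit 6486)]))))))))))
(Tr.nd (nat_lit 6529) (Tr.nd (nat_lit 6508) (Tr.nd (nat_lit 6498) (Tr.nd (nat_lit 6493) (Tr.nd (nat_lit 6490) (Tr.nd (nat_lit 6489) (Tr.lf (Fc.ed (nat_lit 6488) (nat_lit 2390) Col.gi (nat_lit 1340) (Dv.wd (nat_lit 132) [Mv.b (nat_lit 4046), Mv.b (nat_lit 2431), Mv.b (nat_lit 2813), Mv.f (nat_lit 3393), Mv.f (nat_lit 3468), Mv.b (nat_lit 3486), Mv.f (nat_lit 4275), Mv.b (nat_lit 6252), Mv.f (nat_lit 6354), Mv.f (nat_lit 6486)])))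
(Tr.lf (Fc.ed (nat_lit 6489) (nat_lit 1308) Col.a (nat_lit 2391) Dv.df)))
(Tr.nd (nat_lit 6491) (Tr.lf (Fc.ed (nat_lit 6490) (nat_lit 2391) Col.b (nat_lit 2391) (Dv.wd (nat_lit 65) [Mv.b (nat_lit 6489), Mv.b (nat_lit 3975), Mv.f (nat_lit 3733), Mv.f (nat_lit 3975), Mv.f (nat_lit 6489)])))
(Tr.nd (nat_lit 6492) (Tr.lf (Fc.ed (nat_lit 6491) (nat_lit 1582) Col.c (nat_lit 2392) Dv.df))
(Tr.lf (Fc.ed (nat_lit 6492) (nat_lit 1174) Col.f (nat_lit 2393) Dv.df)))))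
(Tr.nd (nat_lit 6495) (Tr.nd (nat_lit 6494) (Tr.lf (Fc.ed (nat_lit 6493) (nat_lit 2393) Col.a (nat_lit 2393) (Dv.wd (nat_lit 16) [Mv.b (nat_lit 6492), Mv.f (nat_lit 3624), Mv.f (nat_lit 6492)])))
(Tr.lf (Fc.ed (nat_lit 6494) (nat_lit 1928) Col.a (nat_lit 2394) Dv.df)))
(Tr.nd (nat_lit 6496) (Tr.lf (Fc.ed (nat_lit 6495) (nat_lit 2394) Col.f (nat_lit 2386) (Dv.wd (nat_lit 35) [Mv.f (nat_lit 6479), Mv.f (nat_lit 5431), Mv.f (nat_lit 6494)])))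
(Tr.nd (nat_lit 6497) (Tr.lf (Fc.ed (nat_lit 6496) (nat_lit 2161) Col.e (nat_lit 2395) Dv.df))
(Tr.lf (Fc.ed (nat_lit 6497) (nat_lit 2395) Col.f (nat_lit 1661) (Dv.wd (nat_lit 96) [Mv.b (nat_lit 4851), Mv.b (nat_lit 2400), Mv.f (nat_lit 4869), Mv.f (nat_lit 5986), Mv.f (nat_lit 6496)])))))))
(Tr.nd (nat_lit 6503) (Tr.nd (nat_lit 6500) (Tr.nd (nat_lit 6499) (Tr.lf (Fc.ed (nat_lit 6498) (nat_lit 2187) Col.f (nat_lit 2396) Dv.df))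
(Tr.lf (Fc.ed (nat_lit 6499) (nat_lit 2396) Col.a (nat_lit 2203) (Dv.wd (nat_lit 23) [Mv.b (nat_lit 6085), Mv.b (nat_lit 6050), Mv.f (nat_lit 6498)]))))
(Tr.nd (nat_lit 6501) (Tr.lf (Fc.ed (nat_lit 6500) (nat_lit 731) Col.b (nat_lit 2397) Dv.df))
(Tr.nd (nat_lit 6502) (Tr.lf (Fc.ed (nat_lit 6501) (nat_lit 1651) Col.f (nat_lit 2398) Dv.df))
(Tr.lf (Fc.ed (nat_lit 6502) (nat_lit 2398) Col.a (nat_lit 1426) (Dv.wd (nat_lit 16) [Mv.f (nat_lit 6095), Mv.f (nat_lit 6096), Mv.f (nat_lit 6501)]))))))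
(Tr.nd (nat_lit 6505) (Tr.nd (nat_lit 6504) (Tr.lf (Fc.ed (nat_lit 6503) (nat_lit 1254) Col.b (nat_lit 2399) Dv.df))
(Tr.lf (Fc.ed (nat_lit 6504) (nat_lit 2399) Col.d (nat_lit 1989) (Dv.wd (nat_lit 58) [Mv.f (nat_lit 5562), Mv.f (nat_lit 3848), Mv.f (nat_lit 6503)]))))
(Tr.nd (nat_lit 6506) (Tr.lf (Fc.ed (nat_lit 6505) (nat_lit 930) Col.gi (nat_lit 2400) Dv.df))
(Tr.nd (nat_lit 6507) (Tr.lf (Fc.ed (nat_lit 6506) (nat_lit 2375) Col.b (nat_lit 2401) Dv.df))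
(Tr.lf (Fc.ed (nat_lit 6507) (nat_lit 2401) Col.c (nat_lit 1959) (Dv.wd (nat_lit 135) [Mv.f (nat_lit 5495), Mv.f (nat_lit 3095), Mv.f (nat_lit 2893), Mv.f (nat_lit 1599), Mv.b (nat_lit 1602), Mv.b (nat_lit 1562), Mv.f (nat_lit 2230), Mv.f (nat_lit 3429), Mv.f (nat_lit 6462), Mv.f (nat_lit 6506)]))))))))
(Tr.nd (nat_lit 6518) (Tr.nd (nat_lit 6513) (Tr.nd (nat_lit 6510) (Tr.nd (nat_lit 6509) (Tr.lf (Fc.ed (nat_lit 6508) (nat_lit 1799) Col.f (nat_lit 2402) Dv.df))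
(Tr.lf (Fc.ed (nat_lit 6509) (nat_lit 1885) Col.f (nat_lit 2403) Dv.df)))
(Tr.nd (nat_lit 6511) (Tr.lf (Fc.ed (nat_lit 6510) (nat_lit 2403) Col.b (nat_lit 1812) (Dv.wd (nat_lit 66) [Mv.f (nat_lit 5859), Mv.f (nat_lit 5345), Mv.f (nat_lit 6509)])))
(Tr.nd (nat_lit 6512) (Tr.lf (Fc.ed (nat_lit 6511) (nat_lit 2403) Col.d (nat_lit 1674) (Dv.wd (nat_lit 21) [Mv.b (nat_lit 4886), Mv.b (nat_lit 5346), Mv.f (nat_lit 6509)])))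
(Tr.lf (Fc.ed (nat_lit 6512) (nat_lit 2292) Col.b (nat_lit 2404) Dv.df)))))
(Tr.nd (nat_lit 6515) (Tr.nd (nat_lit 6514) (Tr.lf (Fc.ed (nat_lit 6513) (nat_lit 2404) Col.c (nat_lit 2326) (Dv.wd (nat_lit 135) [Mv.b (nat_lit 6350), Mv.b (nat_lit 3590), Mv.b (nat_lit 915), Mv.f (nat_lit 583), Mv.f (nat_lit 842), Mv.b (nat_lit 1103), Mv.f (nat_lit 899), Mv.f (nat_lit 3824), Mv.b (nat_lit 6274), Mv.f (nat_lit 6512)])))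
(Tr.lf (Fc.ed (nat_lit 6514) (nat_lit 1563) Col.a (nat_lit 2405) Dv.df)))
(Tr.nd (nat_lit 6516) (Tr.lf (Fc.ed (nat_lit 6515) (nat_lit 2405) Col.f (nat_lit 2405) (Dv.wd (nat_lit 35) [Mv.b (nat_lit 6514), Mv.f (nat_lit 4635), Mv.f (nat_lit 6514)])))
(Tr.nd (nat_lit 6517) (Tr.lf (Fc.ed (nat_lit 6516) (nat_lit 2405) Col.gi (nat_lit 2190) (Dv.wd (nat_lit 12) [Mv.b (nat_lit 6058), Mv.f (nat_lit 4635), Mv.f (nat_lit 6514)])))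
(Tr.lf (Fc.ed (nat_lit 6517) (nat_lit 1201) Col.b (nat_lit 2406) Dv.df))))))
(Tr.nd (nat_lit 6523) (Tr.nd (nat_lit 6520) (Tr.nd (nat_lit 6519) (Tr.lf (Fc.ed (nat_lit 6518) (nat_lit 1755) Col.f (nat_lit 2407) Dv.df))
(Tr.lf (Fc.ed (nat_lit 6519) (nat_lit 1271) Col.f (nat_lit 2408) Dv.df)))
(Tr.nd (nat_lit 6521) (Tr.lf (Fc.ed (nat_lit 6520) (nat_lit 2408) Col.b (nat_lit 1409) (Dv.wd (nat_lit 66) [Mv.b (nat_lit 4266), Mv.b (nat_lit 3888), Mv.f (nat_lit 6519)])))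
(Tr.nd (nat_lit 6522) (Tr.lf (Fc.ed (nat_lit 6521) (nat_lit 2408) Col.d (nat_lit 2006) (Dv.wd (nat_lit 21) [Mv.b (nat_lit 5594), Mv.f (nat_lit 4720), Mv.f (nat_lit 6519)])))
(Tr.lf (Fc.ed (nat_lit 6522) (nat_lit 2408) Col.e (nat_lit 1762) (Dv.wd (nat_lit 22) [Mv.b (nat_lit 5099), Mv.f (nat_lit 4733), Mv.b (nat_lit 3764), Mv.f (nat_lit 3887), Mv.f (nat_lit 6519)]))))))
(Tr.nd (nat_lit 6526) (Tr.nd (nat_lit 6524) (Tr.lf (Fc.ed (nat_lit 6523) (nat_lit 2112) Col.f (nat_lit 2409) Dv.df))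
(Tr.nd (nat_lit 6525) (Tr.lf (Fc.ed (nat_lit 6524) (nat_lit 2409) Col.a (nat_lit 1829) (Dv.wd (nat_lit 16) [Mv.b (nat_lit 5227), Mv.b (nat_lit 5881), Mv.f (nat_lit 6523)])))
(Tr.lf (Fc.ed (nat_lit 6525) (nat_lit 1502) Col.c (nat_lit 2410) Dv.df))))
(Tr.nd (nat_lit 6527) (Tr.lf (Fc.ed (nat_lit 6526) (nat_lit 1216) Col.f (nat_lit 2411) Dv.df))
(Tr.nd (nat_lit 6528) (Tr.lf (Fc.ed (nat_lit 6527) (nat_lit 2411) Col.a (nat_lit 1581) (Dv.wd (nat_lit 16) [Mv.f (nat_lit 5117), Mv.f (nat_lit 5118), Mv.f (nat_lit 6526)])))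
(Tr.lf (Fc.ed (nat_lit 6528) (nat_lit 1247) Col.gi (nat_lit 2412) Dv.df))))))))
(Tr.nd (nat_lit 6550) (Tr.nd (nat_lit 6539) (Tr.nd (nat_lit 6534) (Tr.nd (nat_lit 6531) (Tr.nd (nat_lit 6530) (Tr.lf (Fc.ed (nat_lit 6529) (nat_lit 2211) Col.e (nat_lit 2413) Dv.df))
(Tr.lf (Fc.ed (nat_lit 6530) (nat_lit 2413) Col.b (nat_lit 1779) (Dv.wd (nat_lit 49) [Mv.f (nat_lit 5130), Mv.b (nat_lit 6099), Mv.f (nat_lit 6529)]))))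
(Tr.nd (nat_lit 6532) (Tr.lf (Fc.ed (nat_lit 6531) (nat_lit 2371) Col.c (nat_lit 2413) (Dv.wd (nat_lit 152) [Mv.f (nat_lit 6530), Mv.b (nat_lit 5129), Mv.f (nat_lit 4448), Mv.f (nat_lit 4700), Mv.f (nat_lit 6457)])))
(Tr.nd (nat_lit 6533) (Tr.lf (Fc.ed (nat_lit 6532) (nat_lit 2189) Col.gi (nat_lit 2414) Dv.df))
(Tr.lf (Fc.ed (nat_lit 6533) (nat_lit 2414) Col.gi (nat_lit 717) (Dv.wd (nat_lit 24) [Mv.b (nat_lit 4548), Mv.f (nat_lit 6053), Mv.f (nat_lit 6532)]))))))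
(Tr.nd (nat_lit 6536) (Tr.nd (nat_lit 6535) (Tr.lf (Fc.ed (nat_lit 6534) (nat_lit 2258) Col.c (nat_lit 2415) Dv.df))
(Tr.lf (Fc.ed (nat_lit 6535) (nat_lit 2415) Col.a (nat_lit 2415) (Dv.wd (nat_lit 19) [Mv.b (nat_lit 6534), Mv.f (nat_lit 6191), Mv.f (nat_lit 6534)]))))
(Tr.nd (nat_lit 6537) (Tr.lf (Fc.ed (nat_lit 6536) (nat_lit 2415) Col.f (nat_lit 2331) (Dv.wd (nat_lit 26) [Mv.b (nat_lit 6365), Mv.b (nat_lit 6193), Mv.f (nat_lit 6534)])))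
(Tr.nd (nat_lit 6538) (Tr.lf (Fc.ed (nat_lit 6537) (nat_lit 2415) Col.gi (nat_lit 2307) (Dv.wd (nat_lit 78) [Mv.b (nat_lit 6311), Mv.b (nat_lit 5556), Mv.b (nat_lit 5557), Mv.f (nat_lit 3973), Mv.f (nat_lit 3570), Mv.b (nat_lit 4214), Mv.f (nat_lit 4212), Mv.f (nat_lit 6190), Mv.f (nat_lit 6534)])))
(Tr.lf (Fc.ed (nat_lit 6538) (nat_lit 2415) Col.g (nat_lit 2353) (Dv.wd (nat_lit 105) [Mv.f (nat_lit 6420), Mv.f (nat_lit 4815), Mv.b (nat_lit 2333), Mv.b (nat_lit 2249), Mv.b (nat_lit 3500), Mv.f (nat_lit 3722), Mv.f (nat_lit 3724), Mv.f (nat_lit 3852), Mv.b (nat_lit 6194), Mv.f (nat_lit 6534)])))))))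
(Tr.nd (nat_lit 6544) (Tr.nd (nat_lit 6541) (Tr.nd (nat_lit 6540) (Tr.lf (Fc.ed (nat_lit 6539) (nat_lit 1339) Col.gi (nat_lit 2416) Dv.df))
(Tr.lf (Fc.ed (nat_lit 6540) (nat_lit 2416) Col.gi (nat_lit 1290) (Dv.wd (nat_lit 24) [Mv.b (nat_lit 3936), Mv.b (nat_lit 4043), Mv.f (nat_lit 6539)]))))
(Tr.nd (nat_lit 6542) (Tr.lf (Fc.ed (nat_lit 6541) (nat_lit 1271) Col.c (nat_lit 2417) Dv.df))
(Tr.nd (nat_lit 6543) (Tr.lf (Fc.ed (nat_lit 6542) (nat_lit 2417) Col.e (nat_lit 2289) (Dv.wd (nat_lit 25) [Mv.f (nat_lit 6267), Mv.f (nat_lit 3887), Mv.f (nat_lit 6541)])))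
(Tr.lf (Fc.ed (nat_lit 6543) (nat_lit 2168) Col.e (nat_lit 2418) Dv.df)))))
(Tr.nd (nat_lit 6547) (Tr.nd (nat_lit 6545) (Tr.lf (Fc.ed (nat_lit 6544) (nat_lit 2418) Col.c (nat_lit 1752) (Dv.wd (nat_lit 18) [Mv.b (nat_lit 5072), Mv.f (nat_lit 6002), Mv.f (nat_lit 6543)])))
(Tr.nd (nat_lit 6546) (Tr.lf (Fc.ed (nat_lit 6545) (nat_lit 2418) Col.d (nat_lit 1960) (Dv.wd (nat_lit 162) [Mv.b (nat_lit 5496), Mv.f (nat_lit 5016), Mv.b (nat_lit 5020), Mv.f (nat_lit 4702), Mv.b (nat_lit 5822), Mv.f (nat_lit 4641), Mv.f (nat_lit 4567), Mv.f (nat_lit 4483), Mv.f (nat_lit 6004), Mv.f (nat_lit 6543)])))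
(Tr.lf (Fc.ed (nat_lit 6546) (nat_lit 2217) Col.c (nat_lit 2419) Dv.df))))
(Tr.nd (nat_lit 6548) (Tr.lf (Fc.ed (nat_lit 6547) (nat_lit 2419) Col.f (nat_lit 2382) (Dv.wd (nat_lit 26) [Mv.b (nat_lit 6473), Mv.b (nat_lit 6111), Mv.f (nat_lit 6546)])))
(Tr.nd (nat_lit 6549) (Tr.lf (Fc.ed (nat_lit 6548) (nat_lit 1674) Col.g (nat_lit 2420) Dv.df))
(Tr.lf (Fc.ed (nat_lit 6549) (nat_lit 2420) Col.g (nat_lit 1856) (Dv.wd (nat_lit 9) [Mv.b (nat_lit 5286), Mv.f (nat_lit 4886), Mv.f (nat_lit 6548)]))))))))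
(Tr.nd (nat_lit 6560) (Tr.nd (nat_lit 6555) (Tr.nd (nat_lit 6552) (Tr.nd (nat_lit 6551) (Tr.lf (Fc.ed (nat_lit 6550) (nat_lit 1117) Col.g (nat_lit 2421) Dv.df))
(Tr.lf (Fc.ed (nat_lit 6551) (nat_lit 2421) Col.g (nat_lit 1139) (Dv.wd (nat_lit 9) [Mv.f (nat_lit 4785), Mv.f (nat_lit 4786), Mv.f (nat_lit 6550)]))))
(Tr.nd (nat_lit 6553) (Tr.lf (Fc.ed (nat_lit 6552) (nat_lit 1793) Col.e (nat_lit 2422) Dv.df))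
(Tr.nd (nat_lit 6554) (Tr.lf (Fc.ed (nat_lit 6553) (nat_lit 2422) Col.gi (nat_lit 1174) (Dv.wd (nat_lit 132) [Mv.b (nat_lit 3623), Mv.b (nat_lit 3503), Mv.b (nat_lit 2436), Mv.b (nat_lit 3828), Mv.b (nat_lit 3851), Mv.f (nat_lit 5827), Mv.f (nat_lit 5593), Mv.b (nat_lit 6348), Mv.b (nat_lit 6347), Mv.f (nat_lit 6552)])))
(Tr.lf (Fc.ed (nat_lit 6554) (nat_lit 2393) Col.gi (nat_lit 2422) (Dv.wd (nat_lit 12) [Mv.f (nat_lit 6553), Mv.f (nat_lit 6492), Mv.f (nat_lit 6493)]))))))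
(Tr.nd (nat_lit 6557) (Tr.nd (nat_lit 6556) (Tr.lf (Fc.ed (nat_lit 6555) (nat_lit 1382) Col.c (nat_lit 2423) Dv.df))
(Tr.lf (Fc.ed (nat_lit 6556) (nat_lit 1523) Col.b (nat_lit 2424) Dv.df)))
(Tr.nd (nat_lit 6558) (Tr.lf (Fc.ed (nat_lit 6557) (nat_lit 2424) Col.f (nat_lit 1687) (Dv.wd (nat_lit 20) [Mv.b (nat_lit 4911), Mv.b (nat_lit 4804), Mv.f (nat_lit 6556)])))
(Tr.nd (nat_lit 6559) (Tr.lf (Fc.ed (nat_lit 6558) (nat_lit 2424) Col.c (nat_lit 2374) (Dv.wd (nat_lit 93) [Mv.f (nat_lit 6461), Mv.b (nat_lit 3056), Mv.b (nat_lit 2154), Mv.b (nat_lit 4550), Mv.f (nat_lit 6556)])))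
(Tr.lf (Fc.ed (nat_lit 6559) (nat_lit 1778) Col.e (nat_lit 2425) Dv.df))))))
(Tr.nd (nat_lit 6565) (Tr.nd (nat_lit 6562) (Tr.nd (nat_lit 6561) (Tr.lf (Fc.ed (nat_lit 6560) (nat_lit 2195) Col.a (nat_lit 2426) Dv.df))
(Tr.lf (Fc.ed (nat_lit 6561) (nat_lit 2426) Col.c (nat_lit 941) (Dv.wd (nat_lit 33) [Mv.b (nat_lit 2986), Mv.f (nat_lit 6070), Mv.f (nat_lit 6560)]))))
(Tr.nd (nat_lit 6563) (Tr.lf (Fc.ed (nat_lit 6562) (nat_lit 1763) Col.a (nat_lit 2427) Dv.df))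
(Tr.nd (nat_lit 6564) (Tr.lf (Fc.ed (nat_lit 6563) (nat_lit 2427) Col.f (nat_lit 2138) (Dv.wd (nat_lit 35) [Mv.f (nat_lit 6122), Mv.f (nat_lit 6123), Mv.f (nat_lit 6562)])))
(Tr.lf (Fc.ed (nat_lit 6564) (nat_lit 2421) Col.f (nat_lit 2428) Dv.df)))))
(Tr.nd (nat_lit 6568) (Tr.nd (nat_lit 6566) (Tr.lf (Fc.ed (nat_lit 6565) (nat_lit 2428) Col.a (nat_lit 2092) (Dv.wd (nat_lit 23) [Mv.f (nat_lit 5769), Mv.b (nat_lit 6551), Mv.f (nat_lit 6564)])))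
(Tr.nd (nat_lit 6567) (Tr.lf (Fc.ed (nat_lit 6566) (nat_lit 2311) Col.gi (nat_lit 2429) Dv.df))
(Tr.lf (Fc.ed (nat_lit 6567) (nat_lit 2429) Col.gi (nat_lit 1169) (Dv.wd (nat_lit 24) [Mv.b (nat_lit 3764), Mv.f (nat_lit 6320), Mv.f (nat_lit 6566)])))))
(Tr.nd (nat_lit 6569) (Tr.lf (Fc.ed (nat_lit 6568) (nat_lit 1998) Col.c (nat_lit 2430) Dv.df))
(Tr.nd (nat_lit 6570) (Tr.lf (Fc.ed (nat_lit 6569) (nat_lit 2430) Col.gi (nat_lit 1655) (Dv.wd (nat_lit 78) [Mv.f (nat_lit 5878), Mv.f (nat_lit 4568), Mv.f (nat_lit 4275), Mv.f (nat_lit 5828), Mv.f (nat_lit 5161), Mv.b (nat_lit 5832), Mv.f (nat_lit 5839), Mv.b (nat_lit 5736), Mv.f (nat_lit 6568)])))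
(Tr.lf (Fc.ed (nat_lit 6570) (nat_lit 835) Col.d (nat_lit 2431) Dv.df)))))))))))))
(Tr.nd (nat_lit 7228) (Tr.nd (nat_lit 6899) (Tr.nd (nat_lit 6735) (Tr.nd (nat_lit 6653) (Tr.nd (nat_lit 6612) (Tr.nd (nat_lit 6591) (Tr.nd (nat_lit 6581) (Tr.nd (nat_lit 6576) (Tr.nd (nat_lit 6573) (Tr.nd (nat_lit 6572) (Tr.lf (Fc.ed (nat_lit 6571) (nat_lit 2431) Col.f (nat_lit 2257) (Dv.wd (nat_lit 11) [Mv.b (nat_lit 6188), Mv.f (nat_lit 2387), Mv.f (nat_lit 6570)])))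
(Tr.lf (Fc.ed (nat_lit 6572) (nat_lit 2079) Col.f (nat_lit 2432) Dv.df)))
(Tr.nd (nat_lit 6574) (Tr.lf (Fc.ed (nat_lit 6573) (nat_lit 2432) Col.a (nat_lit 1470) (Dv.wd (nat_lit 16) [Mv.f (nat_lit 4434), Mv.b (nat_lit 5743), Mv.f (nat_lit 6572)])))
(Tr.nd (nat_lit 6575) (Tr.lf (Fc.ed (nat_lit 6574) (nat_lit 2432) Col.c (nat_lit 1631) (Dv.wd (nat_lit 34) [Mv.f (nat_lit 4786), Mv.b (nat_lit 5744), Mv.f (nat_lit 6572)])))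
(Tr.lf (Fc.ed (nat_lit 6575) (nat_lit 2094) Col.gi (nat_lit 2079) (Dv.wd (nat_lit 24) [Mv.f (nat_lit 6572), Mv.f (nat_lit 6573), Mv.f (nat_lit 5772)]))))))
(Tr.nd (nat_lit 6578) (Tr.nd (nat_lit 6577) (Tr.lf (Fc.ed (nat_lit 6576) (nat_lit 1856) Col.d (nat_lit 2433) Dv.df))
(Tr.lf (Fc.ed (nat_lit 6577) (nat_lit 2433) Col.a (nat_lit 1885) (Dv.wd (nat_lit 8) [Mv.f (nat_lit 5346), Mv.f (nat_lit 5286), Mv.f (nat_lit 6576)]))))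
(Tr.nd (nat_lit 6579) (Tr.lf (Fc.ed (nat_lit 6578) (nat_lit 2433) Col.e (nat_lit 1985) (Dv.wd (nat_lit 42) [Mv.b (nat_lit 5552), Mv.b (nat_lit 4520), Mv.f (nat_lit 4653), Mv.b (nat_lit 5287), Mv.f (nat_lit 6576)])))
(Tr.nd (nat_lit 6580) (Tr.lf (Fc.ed (nat_lit 6579) (nat_lit 1862) Col.d (nat_lit 2434) Dv.df))
(Tr.lf (Fc.ed (nat_lit 6580) (nat_lit 2434) Col.a (nat_lit 2310) (Dv.wd (nat_lit 8) [Mv.f (nat_lit 6318), Mv.b (nat_lit 5298), Mv.f (nat_lit 6579)])))))))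
(Tr.nd (nat_lit 6586) (Tr.nd (nat_lit 6583) (Tr.nd (nat_lit 6582) (Tr.lf (Fc.ed (nat_lit 6581) (nat_lit 2434) Col.f (nat_lit 2270) (Dv.wd (nat_lit 11) [Mv.f (nat_lit 6224), Mv.f (nat_lit 5297), Mv.f (nat_lit 6579)])))
(Tr.lf (Fc.ed (nat_lit 6582) (nat_lit 2145) Col.f (nat_lit 2435) Dv.df)))
(Tr.nd (nat_lit 6584) (Tr.lf (Fc.ed (nat_lit 6583) (nat_lit 2078) Col.g (nat_lit 2436) Dv.df))
(Tr.nd (nat_lit 6585) (Tr.lf (Fc.ed (nat_lit 6584) (nat_lit 2436) Col.g (nat_lit 1269) (Dv.wd (nat_lit 9) [Mv.f (nat_lit 3884), Mv.b (nat_lit 5738), Mv.f (nat_lit 6583)])))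
(Tr.lf (Fc.ed (nat_lit 6585) (nat_lit 2083) Col.f (nat_lit 2436) (Dv.wd (nat_lit 10) [Mv.f (nat_lit 6584), Mv.b (nat_lit 5754), Mv.f (nat_lit 5752)]))))))
(Tr.nd (nat_lit 6588) (Tr.nd (nat_lit 6587) (Tr.lf (Fc.ed (nat_lit 6586) (nat_lit 2436) Col.e (nat_lit 2085) (Dv.wd (nat_lit 22) [Mv.f (nat_lit 5757), Mv.f (nat_lit 4313), Mv.b (nat_lit 4161), Mv.f (nat_lit 5751), Mv.f (nat_lit 6585)])))
(Tr.lf (Fc.ed (nat_lit 6587) (nat_lit 1594) Col.d (nat_lit 2437) Dv.df)))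
(Tr.nd (nat_lit 6589) (Tr.lf (Fc.ed (nat_lit 6588) (nat_lit 2437) Col.f (nat_lit 1452) (Dv.wd (nat_lit 11) [Mv.b (nat_lit 5875), Mv.f (nat_lit 5873), Mv.f (nat_lit 6587)])))
(Tr.nd (nat_lit 6590) (Tr.lf (Fc.ed (nat_lit 6589) (nat_lit 1308) Col.f (nat_lit 2438) Dv.df))
(Tr.lf (Fc.ed (nat_lit 6590) (nat_lit 2438) Col.b (nat_lit 1998) (Dv.wd (nat_lit 66) [Mv.b (nat_lit 5581), Mv.f (nat_lit 3975), Mv.f (nat_lit 6589)]))))))))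
(Tr.nd (nat_lit 6601) (Tr.nd (nat_lit 6596) (Tr.nd (nat_lit 6593) (Tr.nd (nat_lit 6592) (Tr.lf (Fc.ed (nat_lit 6591) (nat_lit 1812) Col.gi (nat_lit 2439) Dv.df))
(Tr.lf (Fc.ed (nat_lit 6592) (nat_lit 2439) Col.gi (nat_lit 1116) (Dv.wd (nat_lit 24) [Mv.b (nat_lit 5859), Mv.f (nat_lit 5844), Mv.f (nat_lit 6591)]))))
(Tr.nd (nat_lit 6594) (Tr.lf (Fc.ed (nat_lit 6593) (nat_lit 2218) Col.g (nat_lit 2440) Dv.df))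
(Tr.nd (nat_lit 6595) (Tr.lf (Fc.ed (nat_lit 6594) (nat_lit 2440) Col.g (nat_lit 1268) (Dv.wd (nat_lit 9) [Mv.b (nat_lit 6245), Mv.f (nat_lit 6246), Mv.f (nat_lit 6593)])))
(Tr.lf (Fc.ed (nat_lit 6595) (nat_lit 2311) Col.c (nat_lit 2441) Dv.df)))))
(Tr.nd (nat_lit 6598) (Tr.nd (nat_lit 6597) (Tr.lf (Fc.ed (nat_lit 6596) (nat_lit 2441) Col.a (nat_lit 2289) (Dv.wd (nat_lit 19) [Mv.f (nat_lit 6267), Mv.f (nat_lit 6320), Mv.f (nat_lit 6595)])))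
(Tr.lf (Fc.ed (nat_lit 6597) (nat_lit 2076) Col.gi (nat_lit 2442) Dv.df)))
(Tr.nd (nat_lit 6599) (Tr.lf (Fc.ed (nat_lit 6598) (nat_lit 2442) Col.gi (nat_lit 1275) (Dv.wd (nat_lit 24) [Mv.f (nat_lit 3897), Mv.b (nat_lit 5734), Mv.f (nat_lit 6597)])))
(Tr.nd (nat_lit 6600) (Tr.lf (Fc.ed (nat_lit 6599) (nat_lit 2304) Col.gi (nat_lit 2443) Dv.df))
(Tr.lf (Fc.ed (nat_lit 6600) (nat_lit 2443) Col.gi (nat_lit 1034) (Dv.wd (nat_lit 24) [Mv.b (nat_lit 3897), Mv.b (nat_lit 6301), Mv.f (nat_lit 6599)])))))))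
(Tr.nd (nat_lit 6606) (Tr.nd (nat_lit 6603) (Tr.nd (nat_lit 6602) (Tr.lf (Fc.ed (nat_lit 6601) (nat_lit 1118) Col.b (nat_lit 2444) Dv.df))
(Tr.lf (Fc.ed (nat_lit 6602) (nat_lit 2444) Col.d (nat_lit 2295) (Dv.wd (nat_lit 58) [Mv.b (nat_lit 6281), Mv.b (nat_lit 3448), Mv.f (nat_lit 6601)]))))
(Tr.nd (nat_lit 6604) (Tr.lf (Fc.ed (nat_lit 6603) (nat_lit 1296) Col.a (nat_lit 2445) Dv.df))
(Tr.nd (nat_lit 6605) (Tr.lf (Fc.ed (nat_lit 6604) (nat_lit 2445) Col.d (nat_lit 2234) (Dv.wd (nat_lit 28) [Mv.b (nat_lit 6141), Mv.f (nat_lit 4209), Mv.f (nat_lit 6603)])))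
(Tr.lf (Fc.ed (nat_lit 6605) (nat_lit 2445) Col.e (nat_lit 1558) (Dv.wd (nat_lit 56) [Mv.f (nat_lit 4622), Mv.b (nat_lit 3953), Mv.f (nat_lit 6603)]))))))
(Tr.nd (nat_lit 6609) (Tr.nd (nat_lit 6607) (Tr.lf (Fc.ed (nat_lit 6606) (nat_lit 2067) Col.c (nat_lit 2446) Dv.df))
(Tr.nd (nat_lit 6608) (Tr.lf (Fc.ed (nat_lit 6607) (nat_lit 2446) Col.b (nat_lit 2320) (Dv.wd (nat_lit 101) [Mv.f (nat_lit 6336), Mv.b (nat_lit 4089), Mv.f (nat_lit 2845), Mv.b (nat_lit 4071), Mv.b (nat_lit 3645), Mv.b (nat_lit 1581), Mv.f (nat_lit 2880), Mv.b (nat_lit 3331), Mv.f (nat_lit 5714), Mv.f (nat_lit 6606)])))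
(Tr.lf (Fc.ed (nat_lit 6608) (nat_lit 1257) Col.g (nat_lit 2447) Dv.df))))
(Tr.nd (nat_lit 6610) (Tr.lf (Fc.ed (nat_lit 6609) (nat_lit 2447) Col.g (nat_lit 1312) (Dv.wd (nat_lit 9) [Mv.f (nat_lit 6416), Mv.f (nat_lit 6417), Mv.f (nat_lit 6608)])))
(Tr.nd (nat_lit 6611) (Tr.lf (Fc.ed (nat_lit 6610) (nat_lit 1294) Col.g (nat_lit 2448) Dv.df))
(Tr.lf (Fc.ed (nat_lit 6611) (nat_lit 2448) Col.g (nat_lit 1573) (Dv.wd (nat_lit 9) [Mv.f (nat_lit 4661), Mv.f (nat_lit 3948), Mv.f (nat_lit 6610)])))))))))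
(Tr.nd (nat_lit 6632) (Tr.nd (nat_lit 6622) (Tr.nd (nat_lit 6617) (Tr.nd (nat_lit 6614) (Tr.nd (nat_lit 6613) (Tr.lf (Fc.ed (nat_lit 6612) (nat_lit 2206) Col.c (nat_lit 2448) (Dv.wd (nat_lit 130) [Mv.f (nat_lit 6611), Mv.b (nat_lit 4660), Mv.f (nat_lit 3627), Mv.b (nat_lit 4013), Mv.f (nat_lit 4742), Mv.f (nat_lit 4743), Mv.f (nat_lit 4599), Mv.b (nat_lit 4152), Mv.b (nat_lit 5057), Mv.f (nat_lit 6090)])))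
(Tr.lf (Fc.ed (nat_lit 6613) (nat_lit 1262) Col.b (nat_lit 2449) Dv.df)))
(Tr.nd (nat_lit 6615) (Tr.lf (Fc.ed (nat_lit 6614) (nat_lit 1918) Col.f (nat_lit 2450) Dv.df))
(Tr.nd (nat_lit 6616) (Tr.lf (Fc.ed (nat_lit 6615) (nat_lit 2450) Col.a (nat_lit 1878) (Dv.wd (nat_lit 23) [Mv.b (nat_lit 5329), Mv.b (nat_lit 5408), Mv.f (nat_lit 6614)])))
(Tr.lf (Fc.ed (nat_lit 6616) (nat_lit 1660) Col.gi (nat_lit 2451) Dv.df)))))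
(Tr.nd (nat_lit 6619) (Tr.nd (nat_lit 6618) (Tr.lf (Fc.ed (nat_lit 6617) (nat_lit 1370) Col.gi (nat_lit 2452) Dv.df))
(Tr.lf (Fc.ed (nat_lit 6618) (nat_lit 2452) Col.gi (nat_lit 2277) (Dv.wd (nat_lit 24) [Mv.f (nat_lit 6239), Mv.b (nat_lit 5170), Mv.f (nat_lit 6617)]))))
(Tr.nd (nat_lit 6620) (Tr.lf (Fc.ed (nat_lit 6619) (nat_lit 2347) Col.g (nat_lit 2453) Dv.df))
(Tr.nd (nat_lit 6621) (Tr.lf (Fc.ed (nat_lit 6620) (nat_lit 2453) Col.d (nat_lit 2436) (Dv.wd (nat_lit 39) [Mv.f (nat_lit 6586), Mv.b (nat_lit 5756), Mv.b (nat_lit 3184), Mv.b (nat_lit 726), Mv.b (nat_lit 563), Mv.f (nat_lit 580), Mv.f (nat_lit 3582), Mv.f (nat_lit 6186), Mv.b (nat_lit 6407), Mv.f (nat_lit 6619)])))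
(Tr.lf (Fc.ed (nat_lit 6621) (nat_lit 2439) Col.d (nat_lit 2454) Dv.df))))))
(Tr.nd (nat_lit 6627) (Tr.nd (nat_lit 6624) (Tr.nd (nat_lit 6623) (Tr.lf (Fc.ed (nat_lit 6622) (nat_lit 2454) Col.c (nat_lit 2364) (Dv.wd (nat_lit 110) [Mv.f (nat_lit 6441), Mv.f (nat_lit 6211), Mv.f (nat_lit 2138), Mv.f (nat_lit 5833), Mv.f (nat_lit 4423), Mv.f (nat_lit 3682), Mv.f (nat_lit 3441), Mv.b (nat_lit 6592), Mv.f (nat_lit 6621)])))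
(Tr.lf (Fc.ed (nat_lit 6623) (nat_lit 2454) Col.gi (nat_lit 2080) (Dv.wd (nat_lit 163) [Mv.b (nat_lit 5745), Mv.f (nat_lit 4047), Mv.f (nat_lit 4051), Mv.f (nat_lit 4035), Mv.f (nat_lit 4421), Mv.f (nat_lit 4898), Mv.f (nat_lit 5013), Mv.f (nat_lit 5192), Mv.f (nat_lit 6591), Mv.f (nat_lit 6621)]))))
(Tr.nd (nat_lit 6625) (Tr.lf (Fc.ed (nat_lit 6624) (nat_lit 1147) Col.b (nat_lit 2455) Dv.df))
(Tr.nd (nat_lit 6626) (Tr.lf (Fc.ed (nat_lit 6625) (nat_lit 2455) Col.f (nat_lit 1924) (Dv.wd (nat_lit 20) [Mv.b (nat_lit 5421), Mv.f (nat_lit 3534), Mv.f (nat_lit 6624)])))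
(Tr.lf (Fc.ed (nat_lit 6626) (nat_lit 2436) Col.c (nat_lit 2456) Dv.df)))))
(Tr.nd (nat_lit 6629) (Tr.nd (nat_lit 6628) (Tr.lf (Fc.ed (nat_lit 6627) (nat_lit 2456) Col.e (nat_lit 2158) (Dv.wd (nat_lit 25) [Mv.b (nat_lit 5977), Mv.b (nat_lit 6586), Mv.f (nat_lit 6626)])))
(Tr.lf (Fc.ed (nat_lit 6628) (nat_lit 2456) Col.f (nat_lit 1949) (Dv.wd (nat_lit 26) [Mv.b (nat_lit 5753), Mv.f (nat_lit 6585), Mv.f (nat_lit 6626)]))))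
(Tr.nd (nat_lit 6630) (Tr.lf (Fc.ed (nat_lit 6629) (nat_lit 2456) Col.g (nat_lit 1714) (Dv.wd (nat_lit 145) [Mv.f (nat_lit 4983), Mv.b (nat_lit 5821), Mv.f (nat_lit 5820), Mv.f (nat_lit 5855), Mv.f (nat_lit 5479), Mv.f (nat_lit 5857), Mv.b (nat_lit 3885), Mv.b (nat_lit 6584), Mv.f (nat_lit 6626)])))
(Tr.nd (nat_lit 6631) (Tr.lf (Fc.ed (nat_lit 6630) (nat_lit 1782) Col.gi (nat_lit 2457) Dv.df))
(Tr.lf (Fc.ed (nat_lit 6631) (nat_lit 2457) Col.d (nat_lit 2366) (Dv.wd (nat_lit 43) [Mv.b (nat_lit 6447), Mv.b (nat_lit 5713), Mv.f (nat_lit 5455), Mv.f (nat_lit 3782), Mv.b (nat_lit 3847), Mv.b (nat_lit 3846), Mv.f (nat_lit 2805), Mv.b (nat_lit 5324), Mv.b (nat_lit 5325), Mv.f (nat_lit 6630)]))))))))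
(Tr.nd (nat_lit 6642) (Tr.nd (nat_lit 6637) (Tr.nd (nat_lit 6634) (Tr.nd (nat_lit 6633) (Tr.lf (Fc.ed (nat_lit 6632) (nat_lit 2381) Col.a (nat_lit 2458) Dv.df))
(Tr.lf (Fc.ed (nat_lit 6633) (nat_lit 2458) Col.d (nat_lit 1013) (Dv.wd (nat_lit 28) [Mv.f (nat_lit 5321), Mv.f (nat_lit 6472), Mv.f (nat_lit 6632)]))))
(Tr.nd (nat_lit 6635) (Tr.lf (Fc.ed (nat_lit 6634) (nat_lit 1960) Col.c (nat_lit 2459) Dv.df))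
(Tr.nd (nat_lit 6636) (Tr.lf (Fc.ed (nat_lit 6635) (nat_lit 2459) Col.gi (nat_lit 2164) (Dv.wd (nat_lit 141) [Mv.b (nat_lit 5991), Mv.f (nat_lit 6000), Mv.b (nat_lit 6005), Mv.b (nat_lit 4568), Mv.b (nat_lit 5878), Mv.b (nat_lit 4837), Mv.b (nat_lit 5877), Mv.b (nat_lit 5497), Mv.f (nat_lit 6634)])))
(Tr.lf (Fc.ed (nat_lit 6636) (nat_lit 2129) Col.gi (nat_lit 2459) (Dv.wd (nat_lit 12) [Mv.f (nat_lit 6635), Mv.f (nat_lit 5993), Mv.f (nat_lit 5913)]))))))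
(Tr.nd (nat_lit 6639) (Tr.nd (nat_lit 6638) (Tr.lf (Fc.ed (nat_lit 6637) (nat_lit 1291) Col.gi (nat_lit 2460) Dv.df))
(Tr.lf (Fc.ed (nat_lit 6638) (nat_lit 2460) Col.gi (nat_lit 2165) (Dv.wd (nat_lit 24) [Mv.b (nat_lit 6270), Mv.f (nat_lit 6269), Mv.f (nat_lit 6637)]))))
(Tr.nd (nat_lit 6640) (Tr.lf (Fc.ed (nat_lit 6639) (nat_lit 2374) Col.d (nat_lit 2461) Dv.df))
(Tr.nd (nat_lit 6641) (Tr.lf (Fc.ed (nat_lit 6640) (nat_lit 2461) Col.b (nat_lit 981) (Dv.wd (nat_lit 37) [Mv.b (nat_lit 3075), Mv.b (nat_lit 6461), Mv.f (nat_lit 6639)])))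
(Tr.lf (Fc.ed (nat_lit 6641) (nat_lit 2383) Col.g (nat_lit 2462) Dv.df))))))
(Tr.nd (nat_lit 6647) (Tr.nd (nat_lit 6644) (Tr.nd (nat_lit 6643) (Tr.lf (Fc.ed (nat_lit 6642) (nat_lit 2410) Col.b (nat_lit 2463) Dv.df))
(Tr.lf (Fc.ed (nat_lit 6643) (nat_lit 2463) Col.gi (nat_lit 2217) (Dv.wd (nat_lit 100) [Mv.b (nat_lit 6110), Mv.b (nat_lit 3645), Mv.b (nat_lit 1581), Mv.f (nat_lit 751), Mv.b (nat_lit 29), Mv.b (nat_lit 2673), Mv.f (nat_lit 2674), Mv.f (nat_lit 4502), Mv.f (nat_lit 6525), Mv.f (nat_lit 6642)]))))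
(Tr.nd (nat_lit 6645) (Tr.lf (Fc.ed (nat_lit 6644) (nat_lit 2168) Col.d (nat_lit 2464) Dv.df))
(Tr.nd (nat_lit 6646) (Tr.lf (Fc.ed (nat_lit 6645) (nat_lit 2464) Col.gi (nat_lit 2130) (Dv.wd (nat_lit 50) [Mv.b (nat_lit 5921), Mv.b (nat_lit 6623), Mv.b (nat_lit 6621), Mv.b (nat_lit 6591), Mv.b (nat_lit 5192), Mv.f (nat_lit 5862), Mv.f (nat_lit 5820), Mv.f (nat_lit 6004), Mv.f (nat_lit 6644)])))
(Tr.lf (Fc.ed (nat_lit 6646) (nat_lit 2464) Col.c (nat_lit 2053) (Dv.wd (nat_lit 32) [Mv.b (nat_lit 6442), Mv.b (nat_lit 6377), Mv.b (nat_lit 6348), Mv.b (nat_lit 6347), Mv.b (nat_lit 5159), Mv.f (nat_lit 2092), Mv.b (nat_lit 4639), Mv.f (nat_lit 6002), Mv.f (nat_lit 6644)]))))))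
(Tr.nd (nat_lit 6650) (Tr.nd (nat_lit 6648) (Tr.lf (Fc.ed (nat_lit 6647) (nat_lit 2336) Col.gi (nat_lit 2418) (Dv.wd (nat_lit 132) [Mv.b (nat_lit 6543), Mv.f (nat_lit 6644), Mv.f (nat_lit 6645), Mv.b (nat_lit 5915), Mv.f (nat_lit 5473), Mv.b (nat_lit 4980), Mv.b (nat_lit 4762), Mv.b (nat_lit 4975), Mv.f (nat_lit 4974), Mv.b (nat_lit 6379)])))
(Tr.nd (nat_lit 6649) (Tr.lf (Fc.ed (nat_lit 6648) (nat_lit 2272) Col.c (nat_lit 2465) Dv.df))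
(Tr.lf (Fc.ed (nat_lit 6649) (nat_lit 2465) Col.a (nat_lit 1786) (Dv.wd (nat_lit 19) [Mv.f (nat_lit 5144), Mv.b (nat_lit 6228), Mv.f (nat_lit 6648)])))))
(Tr.nd (nat_lit 6651) (Tr.lf (Fc.ed (nat_lit 6650) (nat_lit 1731) Col.d (nat_lit 2466) Dv.df))
(Tr.nd (nat_lit 6652) (Tr.lf (Fc.ed (nat_lit 6651) (nat_lit 2466) Col.a (nat_lit 1433) (Dv.wd (nat_lit 8) [Mv.b (nat_lit 4329), Mv.f (nat_lit 5021), Mv.f (nat_lit 6650)])))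
(Tr.lf (Fc.ed (nat_lit 6652) (nat_lit 2466) Col.f (nat_lit 1889) (Dv.wd (nat_lit 11) [Mv.f (nat_lit 5354), Mv.b (nat_lit 5060), Mv.f (nat_lit 6650)]))))))))))
(Tr.nd (nat_lit 6694) (Tr.nd (nat_lit 6673) (Tr.nd (nat_lit 6663) (Tr.nd (nat_lit 6658) (Tr.nd (nat_lit 6655) (Tr.nd (nat_lit 6654) (Tr.lf (Fc.ed (nat_lit 6653) (nat_lit 1821) Col.f (nat_lit 2467) Dv.df))
(Tr.lf (Fc.ed (nat_lit 6654) (nat_lit 2467) Col.a (nat_lit 1869) (Dv.wd (nat_lit 23) [Mv.f (nat_lit 5314), Mv.f (nat_lit 5212), Mv.f (nat_lit 6653)]))))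
(Tr.nd (nat_lit 6656) (Tr.lf (Fc.ed (nat_lit 6655) (nat_lit 1290) Col.gi (nat_lit 2468) Dv.df))
(Tr.nd (nat_lit 6657) (Tr.lf (Fc.ed (nat_lit 6656) (nat_lit 2468) Col.gi (nat_lit 1339) (Dv.wd (nat_lit 24) [Mv.f (nat_lit 4044), Mv.b (nat_lit 3938), Mv.f (nat_lit 6655)])))
(Tr.lf (Fc.ed (nat_lit 6657) (nat_lit 1892) Col.f (nat_lit 2469) Dv.df)))))
(Tr.nd (nat_lit 6660) (Tr.nd (nat_lit 6659) (Tr.lf (Fc.ed (nat_lit 6658) (nat_lit 2469) Col.a (nat_lit 1891) (Dv.wd (nat_lit 23) [Mv.f (nat_lit 5358), Mv.f (nat_lit 5359), Mv.f (nat_lit 6657)])))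
(Tr.lf (Fc.ed (nat_lit 6659) (nat_lit 1971) Col.d (nat_lit 2470) Dv.df)))
(Tr.nd (nat_lit 6661) (Tr.lf (Fc.ed (nat_lit 6660) (nat_lit 2464) Col.g (nat_lit 2471) Dv.df))
(Tr.nd (nat_lit 6662) (Tr.lf (Fc.ed (nat_lit 6661) (nat_lit 2471) Col.d (nat_lit 2456) (Dv.wd (nat_lit 85) [Mv.b (nat_lit 6626), Mv.b (nat_lit 6620), Mv.b (nat_lit 6619), Mv.f (nat_lit 6407), Mv.b (nat_lit 6186), Mv.f (nat_lit 3870), Mv.b (nat_lit 6003), Mv.f (nat_lit 6644), Mv.f (nat_lit 6660)])))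
(Tr.lf (Fc.ed (nat_lit 6662) (nat_lit 2130) Col.f (nat_lit 2471) (Dv.wd (nat_lit 86) [Mv.f (nat_lit 6661), Mv.f (nat_lit 6628), Mv.f (nat_lit 5915)])))))))
(Tr.nd (nat_lit 6668) (Tr.nd (nat_lit 6665) (Tr.nd (nat_lit 6664) (Tr.lf (Fc.ed (nat_lit 6663) (nat_lit 1752) Col.gi (nat_lit 2471) (Dv.wd (nat_lit 141) [Mv.f (nat_lit 6661), Mv.f (nat_lit 6629), Mv.f (nat_lit 4982), Mv.f (nat_lit 5828), Mv.f (nat_lit 5161), Mv.f (nat_lit 5593), Mv.f (nat_lit 6377), Mv.f (nat_lit 6647), Mv.f (nat_lit 6544)])))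
(Tr.lf (Fc.ed (nat_lit 6664) (nat_lit 2332) Col.d (nat_lit 2472) Dv.df)))
(Tr.nd (nat_lit 6666) (Tr.lf (Fc.ed (nat_lit 6665) (nat_lit 2472) Col.gi (nat_lit 1932) (Dv.wd (nat_lit 71) [Mv.b (nat_lit 5438), Mv.f (nat_lit 4261), Mv.f (nat_lit 4122), Mv.b (nat_lit 4277), Mv.b (nat_lit 4275), Mv.b (nat_lit 3485), Mv.f (nat_lit 2189), Mv.b (nat_lit 5629), Mv.f (nat_lit 6368), Mv.f (nat_lit 6664)])))
(Tr.nd (nat_lit 6667) (Tr.lf (Fc.ed (nat_lit 6666) (nat_lit 2364) Col.g (nat_lit 2473) Dv.df))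
(Tr.lf (Fc.ed (nat_lit 6667) (nat_lit 2473) Col.d (nat_lit 2345) (Dv.wd (nat_lit 39) [Mv.f (nat_lit 6403), Mv.b (nat_lit 4328), Mv.b (nat_lit 3212), Mv.f (nat_lit 736), Mv.f (nat_lit 587), Mv.b (nat_lit 628), Mv.f (nat_lit 2016), Mv.b (nat_lit 6211), Mv.b (nat_lit 6441), Mv.f (nat_lit 6666)]))))))
(Tr.nd (nat_lit 6670) (Tr.nd (nat_lit 6669) (Tr.lf (Fc.ed (nat_lit 6668) (nat_lit 2325) Col.gi (nat_lit 2473) (Dv.wd (nat_lit 141) [Mv.f (nat_lit 6667), Mv.f (nat_lit 6402), Mv.f (nat_lit 5273), Mv.b (nat_lit 5754), Mv.f (nat_lit 5753), Mv.f (nat_lit 5915), Mv.b (nat_lit 5921), Mv.b (nat_lit 6445), Mv.f (nat_lit 6444)])))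
(Tr.lf (Fc.ed (nat_lit 6669) (nat_lit 2393) Col.e (nat_lit 2473) (Dv.wd (nat_lit 47) [Mv.f (nat_lit 6667), Mv.f (nat_lit 6402), Mv.f (nat_lit 5274), Mv.b (nat_lit 5275), Mv.b (nat_lit 6401), Mv.b (nat_lit 6667), Mv.b (nat_lit 6668), Mv.b (nat_lit 6347), Mv.f (nat_lit 6552), Mv.b (nat_lit 6554)]))))
(Tr.nd (nat_lit 6671) (Tr.lf (Fc.ed (nat_lit 6670) (nat_lit 2044) Col.c (nat_lit 2474) Dv.df))
(Tr.nd (nat_lit 6672) (Tr.lf (Fc.ed (nat_lit 6671) (nat_lit 2474) Col.e (nat_lit 1659) (Dv.wd (nat_lit 25) [Mv.f (nat_lit 4847), Mv.f (nat_lit 5670), Mv.f (nat_lit 6670)])))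
(Tr.lf (Fc.ed (nat_lit 6672) (nat_lit 1996) Col.gi (nat_lit 2475) Dv.df)))))))
(Tr.nd (nat_lit 6683) (Tr.nd (nat_lit 6678) (Tr.nd (nat_lit 6675) (Tr.nd (nat_lit 6674) (Tr.lf (Fc.ed (nat_lit 6673) (nat_lit 2475) Col.gi (nat_lit 966) (Dv.wd (nat_lit 24) [Mv.b (nat_lit 5412), Mv.b (nat_lit 5577), Mv.f (nat_lit 6672)])))
(Tr.lf (Fc.ed (nat_lit 6674) (nat_lit 2314) Col.g (nat_lit 2476) Dv.df)))
(Tr.nd (nat_lit 6676) (Tr.lf (Fc.ed (nat_lit 6675) (nat_lit 2476) Col.a (nat_lit 1302) (Dv.wd (nat_lit 114) [Mv.f (nat_lit 3964), Mv.b (nat_lit 6327), Mv.f (nat_lit 6674)])))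
(Tr.nd (nat_lit 6677) (Tr.lf (Fc.ed (nat_lit 6676) (nat_lit 1529) Col.d (nat_lit 2476) (Dv.wd (nat_lit 97) [Mv.f (nat_lit 6675), Mv.b (nat_lit 4289), Mv.f (nat_lit 4559)])))
(Tr.lf (Fc.ed (nat_lit 6677) (nat_lit 2322) Col.f (nat_lit 2476) (Dv.wd (nat_lit 73) [Mv.f (nat_lit 6675), Mv.f (nat_lit 3964), Mv.b (nat_lit 6341)]))))))
(Tr.nd (nat_lit 6680) (Tr.nd (nat_lit 6679) (Tr.lf (Fc.ed (nat_lit 6678) (nat_lit 2383) Col.gi (nat_lit 2477) Dv.df))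
(Tr.lf (Fc.ed (nat_lit 6679) (nat_lit 2214) Col.c (nat_lit 2478) Dv.df)))
(Tr.nd (nat_lit 6681) (Tr.lf (Fc.ed (nat_lit 6680) (nat_lit 2478) Col.f (nat_lit 2233) (Dv.wd (nat_lit 26) [Mv.b (nat_lit 6140), Mv.f (nat_lit 6104), Mv.f (nat_lit 6679)])))
(Tr.nd (nat_lit 6682) (Tr.lf (Fc.ed (nat_lit 6681) (nat_lit 2478) Col.a (nat_lit 2479) Dv.df))
(Tr.lf (Fc.ed (nat_lit 6682) (nat_lit 2479) Col.c (nat_lit 1086) (Dv.wd (nat_lit 33) [Mv.b (nat_lit 6105), Mv.f (nat_lit 6679), Mv.f (nat_lit 6681)])))))))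
(Tr.nd (nat_lit 6688) (Tr.nd (nat_lit 6685) (Tr.nd (nat_lit 6684) (Tr.lf (Fc.ed (nat_lit 6683) (nat_lit 2419) Col.b (nat_lit 2480) Dv.df))
(Tr.lf (Fc.ed (nat_lit 6684) (nat_lit 2480) Col.c (nat_lit 1229) (Dv.wd (nat_lit 93) [Mv.b (nat_lit 3791), Mv.f (nat_lit 3645), Mv.f (nat_lit 6110), Mv.f (nat_lit 6546), Mv.f (nat_lit 6683)]))))
(Tr.nd (nat_lit 6686) (Tr.lf (Fc.ed (nat_lit 6685) (nat_lit 2470) Col.c (nat_lit 2481) Dv.df))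
(Tr.nd (nat_lit 6687) (Tr.lf (Fc.ed (nat_lit 6686) (nat_lit 1509) Col.f (nat_lit 2482) Dv.df))
(Tr.lf (Fc.ed (nat_lit 6687) (nat_lit 2210) Col.d (nat_lit 2483) Dv.df)))))
(Tr.nd (nat_lit 6691) (Tr.nd (nat_lit 6689) (Tr.lf (Fc.ed (nat_lit 6688) (nat_lit 2483) Col.b (nat_lit 1033) (Dv.wd (nat_lit 37) [Mv.f (nat_lit 3230), Mv.f (nat_lit 6097), Mv.f (nat_lit 6687)])))
(Tr.nd (nat_lit 6690) (Tr.lf (Fc.ed (nat_lit 6689) (nat_lit 2483) Col.f (nat_lit 2444) (Dv.wd (nat_lit 11) [Mv.f (nat_lit 6602), Mv.f (nat_lit 6282), Mv.f (nat_lit 6687)])))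
(Tr.lf (Fc.ed (nat_lit 6690) (nat_lit 1744) Col.f (nat_lit 2484) Dv.df))))
(Tr.nd (nat_lit 6692) (Tr.lf (Fc.ed (nat_lit 6691) (nat_lit 2484) Col.a (nat_lit 2212) (Dv.wd (nat_lit 16) [Mv.f (nat_lit 6101), Mv.b (nat_lit 5052), Mv.f (nat_lit 6690)])))
(Tr.nd (nat_lit 6693) (Tr.lf (Fc.ed (nat_lit 6692) (nat_lit 1285) Col.gi (nat_lit 2485) Dv.df))
(Tr.lf (Fc.ed (nat_lit 6693) (nat_lit 2485) Col.gi (nat_lit 1265) (Dv.wd (nat_lit 24) [Mv.f (nat_lit 3936), Mv.f (nat_lit 3938), Mv.f (nat_lit 6692)])))))))))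
(Tr.nd (nat_lit 6714) (Tr.nd (nat_lit 6704) (Tr.nd (nat_lit 6699) (Tr.nd (nat_lit 6696) (Tr.nd (nat_lit 6695) (Tr.lf (Fc.ed (nat_lit 6694) (nat_lit 2484) Col.g (nat_lit 2486) Dv.df))
(Tr.lf (Fc.ed (nat_lit 6695) (nat_lit 2486) Col.g (nat_lit 1326) (Dv.wd (nat_lit 9) [Mv.b (nat_lit 5052), Mv.f (nat_lit 6690), Mv.f (nat_lit 6694)]))))
(Tr.nd (nat_lit 6697) (Tr.lf (Fc.ed (nat_lit 6696) (nat_lit 1754) Col.g (nat_lit 2487) Dv.df))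
(Tr.nd (nat_lit 6698) (Tr.lf (Fc.ed (nat_lit 6697) (nat_lit 2487) Col.c (nat_lit 1207) (Dv.wd (nat_lit 138) [Mv.f (nat_lit 3715), Mv.f (nat_lit 3100), Mv.f (nat_lit 3625), Mv.f (nat_lit 4660), Mv.b (nat_lit 6611), Mv.b (nat_lit 6612), Mv.b (nat_lit 6090), Mv.b (nat_lit 5075), Mv.f (nat_lit 6696)])))
(Tr.lf (Fc.ed (nat_lit 6698) (nat_lit 1947) Col.d (nat_lit 2488) Dv.df)))))
(Tr.nd (nat_lit 6701) (Tr.nd (nat_lit 6700) (Tr.lf (Fc.ed (nat_lit 6699) (nat_lit 2488) Col.g (nat_lit 2470) (Dv.wd (nat_lit 69) [Mv.b (nat_lit 6659), Mv.b (nat_lit 5521), Mv.f (nat_lit 4028), Mv.f (nat_lit 2063), Mv.f (nat_lit 4303), Mv.f (nat_lit 4307), Mv.f (nat_lit 5511), Mv.f (nat_lit 5514), Mv.f (nat_lit 6698)])))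
(Tr.lf (Fc.ed (nat_lit 6700) (nat_lit 2481) Col.g (nat_lit 1777) (Dv.wd (nat_lit 77) [Mv.f (nat_lit 5141), Mv.f (nat_lit 5142), Mv.f (nat_lit 4864), Mv.f (nat_lit 4323), Mv.b (nat_lit 5466), Mv.f (nat_lit 5469), Mv.f (nat_lit 6698), Mv.f (nat_lit 6699), Mv.f (nat_lit 6685)]))))
(Tr.nd (nat_lit 6702) (Tr.lf (Fc.ed (nat_lit 6701) (nat_lit 2268) Col.f (nat_lit 2481) (Dv.wd (nat_lit 10) [Mv.f (nat_lit 6700), Mv.f (nat_lit 5442), Mv.b (nat_lit 6220)])))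
(Tr.nd (nat_lit 6703) (Tr.lf (Fc.ed (nat_lit 6702) (nat_lit 1785) Col.g (nat_lit 2481) (Dv.wd (nat_lit 17) [Mv.f (nat_lit 6700), Mv.b (nat_lit 6044), Mv.f (nat_lit 6045)])))
(Tr.lf (Fc.ed (nat_lit 6703) (nat_lit 2164) Col.gi (nat_lit 2489) Dv.df))))))
(Tr.nd (nat_lit 6709) (Tr.nd (nat_lit 6706) (Tr.nd (nat_lit 6705) (Tr.lf (Fc.ed (nat_lit 6704) (nat_lit 2489) Col.gi (nat_lit 2129) (Dv.wd (nat_lit 24) [Mv.b (nat_lit 5993), Mv.f (nat_lit 5992), Mv.f (nat_lit 6703)])))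
(Tr.lf (Fc.ed (nat_lit 6705) (nat_lit 2489) Col.c (nat_lit 1865) (Dv.wd (nat_lit 14) [Mv.b (nat_lit 5305), Mv.f (nat_lit 5016), Mv.b (nat_lit 5019), Mv.f (nat_lit 5875), Mv.f (nat_lit 6026), Mv.f (nat_lit 6027), Mv.b (nat_lit 6000), Mv.f (nat_lit 5991), Mv.f (nat_lit 6703)]))))
(Tr.nd (nat_lit 6707) (Tr.lf (Fc.ed (nat_lit 6706) (nat_lit 2477) Col.gi (nat_lit 2490) Dv.df))
(Tr.nd (nat_lit 6708) (Tr.lf (Fc.ed (nat_lit 6707) (nat_lit 2490) Col.f (nat_lit 2221) (Dv.wd (nat_lit 13) [Mv.f (nat_lit 6474), Mv.f (nat_lit 6678), Mv.f (nat_lit 6706)])))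
(Tr.lf (Fc.ed (nat_lit 6708) (nat_lit 1971) Col.a (nat_lit 2490) (Dv.wd (nat_lit 114) [Mv.f (nat_lit 6707), Mv.b (nat_lit 6118), Mv.f (nat_lit 5573)]))))))
(Tr.nd (nat_lit 6711) (Tr.nd (nat_lit 6710) (Tr.lf (Fc.ed (nat_lit 6709) (nat_lit 2250) Col.c (nat_lit 1933) (Dv.wd (nat_lit 164) [Mv.f (nat_lit 5441), Mv.b (nat_lit 4480), Mv.b (nat_lit 3598), Mv.f (nat_lit 2100), Mv.b (nat_lit 4028), Mv.f (nat_lit 5521), Mv.f (nat_lit 6708), Mv.f (nat_lit 6707), Mv.f (nat_lit 6172)])))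
(Tr.lf (Fc.ed (nat_lit 6710) (nat_lit 1971) Col.f (nat_lit 2383) (Dv.wd (nat_lit 35) [Mv.b (nat_lit 6474), Mv.b (nat_lit 6707), Mv.b (nat_lit 6708)]))))
(Tr.nd (nat_lit 6712) (Tr.lf (Fc.ed (nat_lit 6711) (nat_lit 2383) Col.c (nat_lit 1239) (Dv.wd (nat_lit 34) [Mv.b (nat_lit 4029), Mv.f (nat_lit 5521), Mv.f (nat_lit 6710)])))
(Tr.nd (nat_lit 6713) (Tr.lf (Fc.ed (nat_lit 6712) (nat_lit 2384) Col.f (nat_lit 2470) (Dv.wd (nat_lit 11) [Mv.b (nat_lit 6659), Mv.f (nat_lit 6710), Mv.f (nat_lit 6475)])))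
(Tr.lf (Fc.ed (nat_lit 6713) (nat_lit 2268) Col.c (nat_lit 2384) (Dv.wd (nat_lit 67) [Mv.f (nat_lit 6712), Mv.f (nat_lit 6685), Mv.b (nat_lit 6701)]))))))))
(Tr.nd (nat_lit 6724) (Tr.nd (nat_lit 6719) (Tr.nd (nat_lit 6716) (Tr.nd (nat_lit 6715) (Tr.lf (Fc.ed (nat_lit 6714) (nat_lit 1350) Col.c (nat_lit 2462) (Dv.wd (nat_lit 32) [Mv.b (nat_lit 6641), Mv.f (nat_lit 6711), Mv.f (nat_lit 3813), Mv.b (nat_lit 2364), Mv.f (nat_lit 1888), Mv.b (nat_lit 2117), Mv.b (nat_lit 3944), Mv.b (nat_lit 3941), Mv.f (nat_lit 4125)])))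
(Tr.lf (Fc.ed (nat_lit 6715) (nat_lit 1840) Col.c (nat_lit 2477) (Dv.wd (nat_lit 130) [Mv.b (nat_lit 6678), Mv.f (nat_lit 6711), Mv.b (nat_lit 3810), Mv.b (nat_lit 2444), Mv.b (nat_lit 2284), Mv.f (nat_lit 3121), Mv.b (nat_lit 3162), Mv.f (nat_lit 3163), Mv.b (nat_lit 3599), Mv.f (nat_lit 5249)]))))
(Tr.nd (nat_lit 6717) (Tr.lf (Fc.ed (nat_lit 6716) (nat_lit 2477) Col.f (nat_lit 1994) (Dv.wd (nat_lit 26) [Mv.b (nat_lit 5572), Mv.f (nat_lit 5252), Mv.f (nat_lit 6715)])))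
(Tr.nd (nat_lit 6718) (Tr.lf (Fc.ed (nat_lit 6717) (nat_lit 2490) Col.c (nat_lit 1422) (Dv.wd (nat_lit 81) [Mv.f (nat_lit 4299), Mv.b (nat_lit 3280), Mv.b (nat_lit 3159), Mv.b (nat_lit 3555), Mv.b (nat_lit 3660), Mv.f (nat_lit 3737), Mv.b (nat_lit 5251), Mv.f (nat_lit 6715), Mv.f (nat_lit 6706)])))
(Tr.lf (Fc.ed (nat_lit 6718) (nat_lit 2452) Col.f (nat_lit 2491) Dv.df)))))
(Tr.nd (nat_lit 6721) (Tr.nd (nat_lit 6720) (Tr.lf (Fc.ed (nat_lit 6719) (nat_lit 1237) Col.g (nat_lit 2492) Dv.df))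
(Tr.lf (Fc.ed (nat_lit 6720) (nat_lit 2492) Col.g (nat_lit 2409) (Dv.wd (nat_lit 9) [Mv.f (nat_lit 6524), Mv.b (nat_lit 5227), Mv.f (nat_lit 6719)]))))
(Tr.nd (nat_lit 6722) (Tr.lf (Fc.ed (nat_lit 6721) (nat_lit 2115) Col.d (nat_lit 2493) Dv.df))
(Tr.nd (nat_lit 6723) (Tr.lf (Fc.ed (nat_lit 6722) (nat_lit 2493) Col.b (nat_lit 1218) (Dv.wd (nat_lit 37) [Mv.b (nat_lit 3752), Mv.b (nat_lit 5887), Mv.f (nat_lit 6721)])))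
(Tr.lf (Fc.ed (nat_lit 6723) (nat_lit 2438) Col.a (nat_lit 2494) Dv.df))))))
(Tr.nd (nat_lit 6729) (Tr.nd (nat_lit 6726) (Tr.nd (nat_lit 6725) (Tr.lf (Fc.ed (nat_lit 6724) (nat_lit 2494) Col.f (nat_lit 2391) (Dv.wd (nat_lit 35) [Mv.b (nat_lit 6489), Mv.f (nat_lit 6589), Mv.f (nat_lit 6723)])))
(Tr.lf (Fc.ed (nat_lit 6725) (nat_lit 1315) Col.g (nat_lit 2495) Dv.df)))
(Tr.nd (nat_lit 6727) (Tr.lf (Fc.ed (nat_lit 6726) (nat_lit 2495) Col.g (nat_lit 1910) (Dv.wd (nat_lit 9) [Mv.b (nat_lit 5391), Mv.b (nat_lit 3987), Mv.f (nat_lit 6725)])))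
(Tr.nd (nat_lit 6728) (Tr.lf (Fc.ed (nat_lit 6727) (nat_lit 1415) Col.b (nat_lit 2496) Dv.df))
(Tr.lf (Fc.ed (nat_lit 6728) (nat_lit 2496) Col.f (nat_lit 2449) (Dv.wd (nat_lit 20) [Mv.b (nat_lit 6613), Mv.b (nat_lit 4282), Mv.f (nat_lit 6727)]))))))
(Tr.nd (nat_lit 6732) (Tr.nd (nat_lit 6730) (Tr.lf (Fc.ed (nat_lit 6729) (nat_lit 1278) Col.f (nat_lit 2497) Dv.df))
(Tr.nd (nat_lit 6731) (Tr.lf (Fc.ed (nat_lit 6730) (nat_lit 2497) Col.a (nat_lit 1327) (Dv.wd (nat_lit 16) [Mv.f (nat_lit 4878), Mv.f (nat_lit 4879), Mv.f (nat_lit 6729)])))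
(Tr.lf (Fc.ed (nat_lit 6731) (nat_lit 2275) Col.d (nat_lit 2498) Dv.df))))
(Tr.nd (nat_lit 6733) (Tr.lf (Fc.ed (nat_lit 6732) (nat_lit 2498) Col.a (nat_lit 1699) (Dv.wd (nat_lit 8) [Mv.b (nat_lit 4960), Mv.b (nat_lit 6235), Mv.f (nat_lit 6731)])))
(Tr.nd (nat_lit 6734) (Tr.lf (Fc.ed (nat_lit 6733) (nat_lit 1636) Col.a (nat_lit 2499) Dv.df))
(Tr.lf (Fc.ed (nat_lit 6734) (nat_lit 2499) Col.c (nat_lit 1648) (Dv.wd (nat_lit 33) [Mv.b (nat_lit 4818), Mv.f (nat_lit 4795), Mv.f (nat_lit 6733)])))))))))))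
(Tr.nd (nat_lit 6817) (Tr.nd (nat_lit 6776) (Tr.nd (nat_lit 6755) (Tr.nd (nat_lit 6745) (Tr.nd (nat_lit 6740) (Tr.nd (nat_lit 6737) (Tr.nd (nat_lit 6736) (Tr.lf (Fc.ed (nat_lit 6735) (nat_lit 2297) Col.c (nat_lit 2500) Dv.df))
(Tr.lf (Fc.ed (nat_lit 6736) (nat_lit 2500) Col.f (nat_lit 1939) (Dv.wd (nat_lit 26) [Mv.f (nat_lit 6009), Mv.f (nat_lit 6284), Mv.f (nat_lit 6735)]))))
(Tr.nd (nat_lit 6738) (Tr.lf (Fc.ed (nat_lit 6737) (nat_lit 2500) Col.b (nat_lit 1659) (Dv.wd (nat_lit 87) [Mv.f (nat_lit 4847), Mv.f (nat_lit 3282), Mv.b (nat_lit 3789), Mv.b (nat_lit 6285), Mv.f (nat_lit 6735)])))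
(Tr.nd (nat_lit 6739) (Tr.lf (Fc.ed (nat_lit 6738) (nat_lit 2338) Col.e (nat_lit 2501) Dv.df))
(Tr.lf (Fc.ed (nat_lit 6739) (nat_lit 2477) Col.d (nat_lit 2502) Dv.df)))))
(Tr.nd (nat_lit 6742) (Tr.nd (nat_lit 6741) (Tr.lf (Fc.ed (nat_lit 6740) (nat_lit 2502) Col.f (nat_lit 2308) (Dv.wd (nat_lit 11) [Mv.b (nat_lit 6313), Mv.b (nat_lit 6716), Mv.f (nat_lit 6739)])))
(Tr.lf (Fc.ed (nat_lit 6741) (nat_lit 2502) Col.c (nat_lit 2308) (Dv.wd (nat_lit 80) [Mv.b (nat_lit 6313), Mv.b (nat_lit 5572), Mv.b (nat_lit 4961), Mv.b (nat_lit 3941), Mv.f (nat_lit 4125), Mv.b (nat_lit 4371), Mv.b (nat_lit 5250), Mv.f (nat_lit 6715), Mv.f (nat_lit 6739)]))))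
(Tr.nd (nat_lit 6743) (Tr.lf (Fc.ed (nat_lit 6742) (nat_lit 2502) Col.gi (nat_lit 2118) (Dv.wd (nat_lit 111) [Mv.b (nat_lit 5891), Mv.f (nat_lit 5513), Mv.b (nat_lit 5156), Mv.f (nat_lit 5086), Mv.b (nat_lit 4410), Mv.b (nat_lit 3736), Mv.b (nat_lit 5251), Mv.f (nat_lit 6715), Mv.f (nat_lit 6739)])))
(Tr.nd (nat_lit 6744) (Tr.lf (Fc.ed (nat_lit 6743) (nat_lit 2356) Col.a (nat_lit 2502) (Dv.wd (nat_lit 114) [Mv.f (nat_lit 6740), Mv.f (nat_lit 6314), Mv.f (nat_lit 6426)])))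
(Tr.lf (Fc.ed (nat_lit 6744) (nat_lit 1241) Col.b (nat_lit 2503) Dv.df))))))
(Tr.nd (nat_lit 6750) (Tr.nd (nat_lit 6747) (Tr.nd (nat_lit 6746) (Tr.lf (Fc.ed (nat_lit 6745) (nat_lit 2503) Col.f (nat_lit 2309) (Dv.wd (nat_lit 20) [Mv.f (nat_lit 6316), Mv.b (nat_lit 3818), Mv.f (nat_lit 6744)])))
(Tr.lf (Fc.ed (nat_lit 6746) (nat_lit 2039) Col.e (nat_lit 2504) Dv.df)))
(Tr.nd (nat_lit 6748) (Tr.lf (Fc.ed (nat_lit 6747) (nat_lit 2504) Col.c (nat_lit 2226) (Dv.wd (nat_lit 18) [Mv.f (nat_lit 6127), Mv.b (nat_lit 5886), Mv.f (nat_lit 6746)])))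
(Tr.nd (nat_lit 6749) (Tr.lf (Fc.ed (nat_lit 6748) (nat_lit 1161) Col.b (nat_lit 2505) Dv.df))
(Tr.lf (Fc.ed (nat_lit 6749) (nat_lit 1204) Col.e (nat_lit 2506) Dv.df)))))
(Tr.nd (nat_lit 6752) (Tr.nd (nat_lit 6751) (Tr.lf (Fc.ed (nat_lit 6750) (nat_lit 1340) Col.f (nat_lit 2507) Dv.df))
(Tr.lf (Fc.ed (nat_lit 6751) (nat_lit 2507) Col.d (nat_lit 2144) (Dv.wd (nat_lit 21) [Mv.b (nat_lit 5950), Mv.b (nat_lit 4346), Mv.f (nat_lit 6750)]))))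
(Tr.nd (nat_lit 6753) (Tr.lf (Fc.ed (nat_lit 6752) (nat_lit 2507) Col.e (nat_lit 2437) (Dv.wd (nat_lit 22) [Mv.f (nat_lit 6588), Mv.b (nat_lit 4396), Mv.b (nat_lit 4103), Mv.f (nat_lit 4046), Mv.f (nat_lit 6750)])))
(Tr.nd (nat_lit 6754) (Tr.lf (Fc.ed (nat_lit 6753) (nat_lit 2356) Col.c (nat_lit 2508) Dv.df))
(Tr.lf (Fc.ed (nat_lit 6754) (nat_lit 2508) Col.d (nat_lit 2462) (Dv.wd (nat_lit 147) [Mv.b (nat_lit 6714), Mv.b (nat_lit 4125), Mv.f (nat_lit 3941), Mv.f (nat_lit 4961), Mv.f (nat_lit 5572), Mv.f (nat_lit 6313), Mv.b (nat_lit 6740), Mv.b (nat_lit 6743), Mv.f (nat_lit 6753)]))))))))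
(Tr.nd (nat_lit 6765) (Tr.nd (nat_lit 6760) (Tr.nd (nat_lit 6757) (Tr.nd (nat_lit 6756) (Tr.lf (Fc.ed (nat_lit 6755) (nat_lit 2508) Col.g (nat_lit 2118) (Dv.wd (nat_lit 77) [Mv.f (nat_lit 5892), Mv.f (nat_lit 5708), Mv.b (nat_lit 4436), Mv.b (nat_lit 5088), Mv.f (nat_lit 5114), Mv.b (nat_lit 5158), Mv.b (nat_lit 6132), Mv.f (nat_lit 6426), Mv.f (nat_lit 6753)])))
(Tr.lf (Fc.ed (nat_lit 6756) (nat_lit 1770) Col.d (nat_lit 2509) Dv.df)))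
(Tr.nd (nat_lit 6758) (Tr.lf (Fc.ed (nat_lit 6757) (nat_lit 1304) Col.c (nat_lit 2510) Dv.df))
(Tr.nd (nat_lit 6759) (Tr.lf (Fc.ed (nat_lit 6758) (nat_lit 2510) Col.a (nat_lit 2128) (Dv.wd (nat_lit 19) [Mv.b (nat_lit 5910), Mv.f (nat_lit 3966), Mv.f (nat_lit 6757)])))
(Tr.lf (Fc.ed (nat_lit 6759) (nat_lit 2510) Col.f (nat_lit 2027) (Dv.wd (nat_lit 26) [Mv.b (nat_lit 5634), Mv.b (nat_lit 3967), Mv.f (nat_lit 6757)]))))))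
(Tr.nd (nat_lit 6762) (Tr.nd (nat_lit 6761) (Tr.lf (Fc.ed (nat_lit 6760) (nat_lit 1469) Col.a (nat_lit 2511) Dv.df))
(Tr.lf (Fc.ed (nat_lit 6761) (nat_lit 2511) Col.f (nat_lit 1061) (Dv.wd (nat_lit 10) [Mv.f (nat_lit 3284), Mv.b (nat_lit 4432), Mv.f (nat_lit 6760)]))))
(Tr.nd (nat_lit 6763) (Tr.lf (Fc.ed (nat_lit 6762) (nat_lit 1407) Col.g (nat_lit 2512) Dv.df))
(Tr.nd (nat_lit 6764) (Tr.lf (Fc.ed (nat_lit 6763) (nat_lit 2512) Col.b (nat_lit 2423) (Dv.wd (nat_lit 104) [Mv.b (nat_lit 6555), Mv.f (nat_lit 4199), Mv.b (nat_lit 1802), Mv.f (nat_lit 1801), Mv.b (nat_lit 1776), Mv.f (nat_lit 446), Mv.b (nat_lit 1806), Mv.b (nat_lit 1828), Mv.f (nat_lit 4262), Mv.f (nat_lit 6762)])))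
(Tr.lf (Fc.ed (nat_lit 6764) (nat_lit 2078) Col.b (nat_lit 2513) Dv.df))))))
(Tr.nd (nat_lit 6770) (Tr.nd (nat_lit 6767) (Tr.nd (nat_lit 6766) (Tr.lf (Fc.ed (nat_lit 6765) (nat_lit 2513) Col.d (nat_lit 2438) (Dv.wd (nat_lit 58) [Mv.f (nat_lit 6590), Mv.f (nat_lit 5736), Mv.f (nat_lit 6764)])))
(Tr.lf (Fc.ed (nat_lit 6766) (nat_lit 2513) Col.f (nat_lit 2350) (Dv.wd (nat_lit 20) [Mv.f (nat_lit 6412), Mv.b (nat_lit 5738), Mv.f (nat_lit 6764)]))))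
(Tr.nd (nat_lit 6768) (Tr.lf (Fc.ed (nat_lit 6767) (nat_lit 2513) Col.e (nat_lit 2514) Dv.df))
(Tr.nd (nat_lit 6769) (Tr.lf (Fc.ed (nat_lit 6768) (nat_lit 2514) Col.b (nat_lit 2004) (Dv.wd (nat_lit 49) [Mv.b (nat_lit 5739), Mv.f (nat_lit 6764), Mv.f (nat_lit 6767)])))
(Tr.lf (Fc.ed (nat_lit 6769) (nat_lit 2514) Col.f (nat_lit 2291) (Dv.wd (nat_lit 96) [Mv.f (nat_lit 6272), Mv.f (nat_lit 4156), Mv.b (nat_lit 6413), Mv.b (nat_lit 6766), Mv.f (nat_lit 6767)]))))))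
(Tr.nd (nat_lit 6773) (Tr.nd (nat_lit 6771) (Tr.lf (Fc.ed (nat_lit 6770) (nat_lit 2509) Col.c (nat_lit 2515) Dv.df))
(Tr.nd (nat_lit 6772) (Tr.lf (Fc.ed (nat_lit 6771) (nat_lit 2515) Col.gi (nat_lit 2470) (Dv.wd (nat_lit 78) [Mv.f (nat_lit 6685), Mv.b (nat_lit 6702), Mv.f (nat_lit 5142), Mv.b (nat_lit 4863), Mv.f (nat_lit 4817), Mv.b (nat_lit 4953), Mv.f (nat_lit 5114), Mv.f (nat_lit 6756), Mv.f (nat_lit 6770)])))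
(Tr.lf (Fc.ed (nat_lit 6772) (nat_lit 2250) Col.gi (nat_lit 2515) (Dv.wd (nat_lit 12) [Mv.f (nat_lit 6771), Mv.b (nat_lit 6712), Mv.f (nat_lit 6476)])))))
(Tr.nd (nat_lit 6774) (Tr.lf (Fc.ed (nat_lit 6773) (nat_lit 2509) Col.gi (nat_lit 2384) (Dv.wd (nat_lit 141) [Mv.b (nat_lit 6475), Mv.f (nat_lit 6641), Mv.b (nat_lit 6714), Mv.f (nat_lit 4126), Mv.f (nat_lit 4480), Mv.b (nat_lit 5441), Mv.b (nat_lit 6709), Mv.f (nat_lit 6772), Mv.b (nat_lit 6770)])))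
(Tr.nd (nat_lit 6775) (Tr.lf (Fc.ed (nat_lit 6774) (nat_lit 2206) Col.b (nat_lit 2516) Dv.df))
(Tr.lf (Fc.ed (nat_lit 6775) (nat_lit 2516) Col.g (nat_lit 1463) (Dv.wd (nat_lit 122) [Mv.b (nat_lit 4417), Mv.f (nat_lit 3480), Mv.f (nat_lit 4598), Mv.b (nat_lit 4743), Mv.b (nat_lit 4742), Mv.b (nat_lit 4012), Mv.f (nat_lit 3947), Mv.f (nat_lit 6610), Mv.b (nat_lit 6612), Mv.f (nat_lit 6774)])))))))))
(Tr.nd (nat_lit 6796) (Tr.nd (nat_lit 6786) (Tr.nd (nat_lit 6781) (Tr.nd (nat_lit 6778) (Tr.nd (nat_lit 6777) (Tr.lf (Fc.ed (nat_lit 6776) (nat_lit 1121) Col.b (nat_lit 2517) Dv.df))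
(Tr.lf (Fc.ed (nat_lit 6777) (nat_lit 2517) Col.d (nat_lit 2249) (Dv.wd (nat_lit 58) [Mv.f (nat_lit 6171), Mv.b (nat_lit 3499), Mv.f (nat_lit 6776)]))))
(Tr.nd (nat_lit 6779) (Tr.lf (Fc.ed (nat_lit 6778) (nat_lit 2517) Col.f (nat_lit 2493) (Dv.wd (nat_lit 20) [Mv.f (nat_lit 6722), Mv.f (nat_lit 3753), Mv.f (nat_lit 6776)])))
(Tr.nd (nat_lit 6780) (Tr.lf (Fc.ed (nat_lit 6779) (nat_lit 2245) Col.c (nat_lit 2518) Dv.df))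
(Tr.lf (Fc.ed (nat_lit 6780) (nat_lit 2518) Col.f (nat_lit 2143) (Dv.wd (nat_lit 26) [Mv.f (nat_lit 5949), Mv.f (nat_lit 6160), Mv.f (nat_lit 6779)]))))))
(Tr.nd (nat_lit 6783) (Tr.nd (nat_lit 6782) (Tr.lf (Fc.ed (nat_lit 6781) (nat_lit 1316) Col.a (nat_lit 2519) Dv.df))
(Tr.lf (Fc.ed (nat_lit 6782) (nat_lit 2519) Col.c (nat_lit 1953) (Dv.wd (nat_lit 33) [Mv.b (nat_lit 5480), Mv.b (nat_lit 3990), Mv.f (nat_lit 6781)]))))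
(Tr.nd (nat_lit 6784) (Tr.lf (Fc.ed (nat_lit 6783) (nat_lit 2519) Col.d (nat_lit 2247) (Dv.wd (nat_lit 28) [Mv.b (nat_lit 6164), Mv.b (nat_lit 3989), Mv.f (nat_lit 6781)])))
(Tr.nd (nat_lit 6785) (Tr.lf (Fc.ed (nat_lit 6784) (nat_lit 2519) Col.b (nat_lit 2519) (Dv.wd (nat_lit 65) [Mv.b (nat_lit 6781), Mv.b (nat_lit 3988), Mv.f (nat_lit 847), Mv.f (nat_lit 3988), Mv.f (nat_lit 6781)])))
(Tr.lf (Fc.ed (nat_lit 6785) (nat_lit 1151) Col.b (nat_lit 2520) Dv.df))))))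
(Tr.nd (nat_lit 6791) (Tr.nd (nat_lit 6788) (Tr.nd (nat_lit 6787) (Tr.lf (Fc.ed (nat_lit 6786) (nat_lit 2520) Col.d (nat_lit 2219) (Dv.wd (nat_lit 58) [Mv.b (nat_lit 6115), Mv.f (nat_lit 3847), Mv.f (nat_lit 6785)])))
(Tr.lf (Fc.ed (nat_lit 6787) (nat_lit 1381) Col.gi (nat_lit 2521) Dv.df)))
(Tr.nd (nat_lit 6789) (Tr.lf (Fc.ed (nat_lit 6788) (nat_lit 2386) Col.c (nat_lit 2522) Dv.df))
(Tr.nd (nat_lit 6790) (Tr.lf (Fc.ed (nat_lit 6789) (nat_lit 2522) Col.e (nat_lit 2106) (Dv.wd (nat_lit 25) [Mv.b (nat_lit 5797), Mv.f (nat_lit 6478), Mv.f (nat_lit 6788)])))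
(Tr.lf (Fc.ed (nat_lit 6790) (nat_lit 2245) Col.a (nat_lit 2523) Dv.df)))))
(Tr.nd (nat_lit 6793) (Tr.nd (nat_lit 6792) (Tr.lf (Fc.ed (nat_lit 6791) (nat_lit 2523) Col.f (nat_lit 1482) (Dv.wd (nat_lit 35) [Mv.f (nat_lit 4463), Mv.f (nat_lit 6160), Mv.f (nat_lit 6790)])))
(Tr.lf (Fc.ed (nat_lit 6792) (nat_lit 1497) Col.d (nat_lit 2523) (Dv.wd (nat_lit 90) [Mv.f (nat_lit 6791), Mv.f (nat_lit 4465), Mv.f (nat_lit 4490)]))))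
(Tr.nd (nat_lit 6794) (Tr.lf (Fc.ed (nat_lit 6793) (nat_lit 1675) Col.gi (nat_lit 2523) (Dv.wd (nat_lit 24) [Mv.f (nat_lit 6791), Mv.f (nat_lit 4463), Mv.f (nat_lit 4887)])))
(Tr.nd (nat_lit 6795) (Tr.lf (Fc.ed (nat_lit 6794) (nat_lit 2484) Col.gi (nat_lit 2524) Dv.df))
(Tr.lf (Fc.ed (nat_lit 6795) (nat_lit 2524) Col.gi (nat_lit 1326) (Dv.wd (nat_lit 24) [Mv.b (nat_lit 6101), Mv.b (nat_lit 6691), Mv.f (nat_lit 6794)]))))))))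
(Tr.nd (nat_lit 6806) (Tr.nd (nat_lit 6801) (Tr.nd (nat_lit 6798) (Tr.nd (nat_lit 6797) (Tr.lf (Fc.ed (nat_lit 6796) (nat_lit 2123) Col.f (nat_lit 2525) Dv.df))
(Tr.lf (Fc.ed (nat_lit 6797) (nat_lit 2525) Col.c (nat_lit 2293) (Dv.wd (nat_lit 34) [Mv.f (nat_lit 6276), Mv.b (nat_lit 5902), Mv.f (nat_lit 6796)]))))
(Tr.nd (nat_lit 6799) (Tr.lf (Fc.ed (nat_lit 6798) (nat_lit 2220) Col.e (nat_lit 2525) (Dv.wd (nat_lit 84) [Mv.f (nat_lit 6797), Mv.b (nat_lit 6275), Mv.f (nat_lit 6145)])))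
(Tr.nd (nat_lit 6800) (Tr.lf (Fc.ed (nat_lit 6799) (nat_lit 2143) Col.b (nat_lit 2526) Dv.df))
(Tr.lf (Fc.ed (nat_lit 6800) (nat_lit 2526) Col.e (nat_lit 2249) (Dv.wd (nat_lit 52) [Mv.f (nat_lit 6171), Mv.f (nat_lit 5948), Mv.f (nat_lit 6799)]))))))
(Tr.nd (nat_lit 6803) (Tr.nd (nat_lit 6802) (Tr.lf (Fc.ed (nat_lit 6801) (nat_lit 2526) Col.c (nat_lit 2163) (Dv.wd (nat_lit 93) [Mv.b (nat_lit 5989), Mv.b (nat_lit 5277), Mv.f (nat_lit 4332), Mv.b (nat_lit 5949), Mv.f (nat_lit 6799)])))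
(Tr.lf (Fc.ed (nat_lit 6802) (nat_lit 1948) Col.c (nat_lit 2527) Dv.df)))
(Tr.nd (nat_lit 6804) (Tr.lf (Fc.ed (nat_lit 6803) (nat_lit 2527) Col.e (nat_lit 2201) (Dv.wd (nat_lit 25) [Mv.b (nat_lit 6082), Mv.f (nat_lit 5471), Mv.f (nat_lit 6802)])))
(Tr.nd (nat_lit 6805) (Tr.lf (Fc.ed (nat_lit 6804) (nat_lit 1260) Col.g (nat_lit 2528) Dv.df))
(Tr.lf (Fc.ed (nat_lit 6805) (nat_lit 2528) Col.g (nat_lit 1834) (Dv.wd (nat_lit 9) [Mv.f (nat_lit 5237), Mv.b (nat_lit 4008), Mv.f (nat_lit 6804)])))))))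
(Tr.nd (nat_lit 6811) (Tr.nd (nat_lit 6808) (Tr.nd (nat_lit 6807) (Tr.lf (Fc.ed (nat_lit 6806) (nat_lit 1534) Col.f (nat_lit 2529) Dv.df))
(Tr.lf (Fc.ed (nat_lit 6807) (nat_lit 2529) Col.a (nat_lit 2060) (Dv.wd (nat_lit 16) [Mv.b (nat_lit 5702), Mv.b (nat_lit 4572), Mv.f (nat_lit 6806)]))))
(Tr.nd (nat_lit 6809) (Tr.lf (Fc.ed (nat_lit 6808) (nat_lit 2529) Col.d (nat_lit 2529) (Dv.wd (nat_lit 21) [Mv.b (nat_lit 6806), Mv.f (nat_lit 4573), Mv.f (nat_lit 6806)])))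
(Tr.nd (nat_lit 6810) (Tr.lf (Fc.ed (nat_lit 6809) (nat_lit 2529) Col.e (nat_lit 2523) (Dv.wd (nat_lit 22) [Mv.f (nat_lit 6791), Mv.b (nat_lit 4462), Mv.f (nat_lit 2470), Mv.f (nat_lit 4571), Mv.f (nat_lit 6806)])))
(Tr.lf (Fc.ed (nat_lit 6810) (nat_lit 2506) Col.a (nat_lit 2530) Dv.df)))))
(Tr.nd (nat_lit 6814) (Tr.nd (nat_lit 6812) (Tr.lf (Fc.ed (nat_lit 6811) (nat_lit 1553) Col.a (nat_lit 2531) Dv.df))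
(Tr.nd (nat_lit 6813) (Tr.lf (Fc.ed (nat_lit 6812) (nat_lit 2531) Col.f (nat_lit 1423) (Dv.wd (nat_lit 10) [Mv.f (nat_lit 4302), Mv.f (nat_lit 4610), Mv.f (nat_lit 6811)])))
(Tr.lf (Fc.ed (nat_lit 6813) (nat_lit 2482) Col.e (nat_lit 2532) Dv.df))))
(Tr.nd (nat_lit 6815) (Tr.lf (Fc.ed (nat_lit 6814) (nat_lit 2532) Col.f (nat_lit 1541) (Dv.wd (nat_lit 96) [Mv.b (nat_lit 4585), Mv.b (nat_lit 2445), Mv.b (nat_lit 4517), Mv.f (nat_lit 6686), Mv.f (nat_lit 6813)])))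
(Tr.nd (nat_lit 6816) (Tr.lf (Fc.ed (nat_lit 6815) (nat_lit 2532) Col.d (nat_lit 2532) (Dv.wd (nat_lit 90) [Mv.f (nat_lit 6814), Mv.f (nat_lit 4586), Mv.b (nat_lit 6814)])))
(Tr.lf (Fc.ed (nat_lit 6816) (nat_lit 1329) Col.f (nat_lit 2533) Dv.df)))))))))
(Tr.nd (nat_lit 6858) (Tr.nd (nat_lit 6837) (Tr.nd (nat_lit 6827) (Tr.nd (nat_lit 6822) (Tr.nd (nat_lit 6819) (Tr.nd (nat_lit 6818) (Tr.lf (Fc.ed (nat_lit 6817) (nat_lit 1338) Col.a (nat_lit 2534) Dv.df))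
(Tr.lf (Fc.ed (nat_lit 6818) (nat_lit 2534) Col.e (nat_lit 1898) (Dv.wd (nat_lit 56) [Mv.b (nat_lit 5372), Mv.f (nat_lit 4249), Mv.f (nat_lit 6817)]))))
(Tr.nd (nat_lit 6820) (Tr.lf (Fc.ed (nat_lit 6819) (nat_lit 2534) Col.f (nat_lit 2313) (Dv.wd (nat_lit 35) [Mv.b (nat_lit 6325), Mv.f (nat_lit 4040), Mv.f (nat_lit 6817)])))
(Tr.nd (nat_lit 6821) (Tr.lf (Fc.ed (nat_lit 6820) (nat_lit 1304) Col.b (nat_lit 2535) Dv.df))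
(Tr.lf (Fc.ed (nat_lit 6821) (nat_lit 2535) Col.f (nat_lit 2397) (Dv.wd (nat_lit 20) [Mv.b (nat_lit 6500), Mv.b (nat_lit 3967), Mv.f (nat_lit 6820)]))))))
(Tr.nd (nat_lit 6824) (Tr.nd (nat_lit 6823) (Tr.lf (Fc.ed (nat_lit 6822) (nat_lit 1333) Col.a (nat_lit 2536) Dv.df))
(Tr.lf (Fc.ed (nat_lit 6823) (nat_lit 2536) Col.d (nat_lit 2305) (Dv.wd (nat_lit 28) [Mv.b (nat_lit 6305), Mv.b (nat_lit 4026), Mv.f (nat_lit 6822)]))))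
(Tr.nd (nat_lit 6825) (Tr.lf (Fc.ed (nat_lit 6824) (nat_lit 2536) Col.b (nat_lit 2162) (Dv.wd (nat_lit 65) [Mv.b (nat_lit 5988), Mv.b (nat_lit 5621), Mv.f (nat_lit 3744), Mv.f (nat_lit 4025), Mv.f (nat_lit 6822)])))
(Tr.nd (nat_lit 6826) (Tr.lf (Fc.ed (nat_lit 6825) (nat_lit 2483) Col.c (nat_lit 2537) Dv.df))
(Tr.lf (Fc.ed (nat_lit 6826) (nat_lit 2537) Col.b (nat_lit 1915) (Dv.wd (nat_lit 87) [Mv.f (nat_lit 5402), Mv.b (nat_lit 3840), Mv.f (nat_lit 3220), Mv.b (nat_lit 6688), Mv.f (nat_lit 6825)])))))))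
(Tr.nd (nat_lit 6832) (Tr.nd (nat_lit 6829) (Tr.nd (nat_lit 6828) (Tr.lf (Fc.ed (nat_lit 6827) (nat_lit 1552) Col.f (nat_lit 2538) Dv.df))
(Tr.lf (Fc.ed (nat_lit 6828) (nat_lit 2538) Col.a (nat_lit 2028) (Dv.wd (nat_lit 16) [Mv.b (nat_lit 5635), Mv.b (nat_lit 4608), Mv.f (nat_lit 6827)]))))
(Tr.nd (nat_lit 6830) (Tr.lf (Fc.ed (nat_lit 6829) (nat_lit 2538) Col.b (nat_lit 1418) (Dv.wd (nat_lit 66) [Mv.b (nat_lit 4290), Mv.b (nat_lit 4609), Mv.f (nat_lit 6827)])))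
(Tr.nd (nat_lit 6831) (Tr.lf (Fc.ed (nat_lit 6830) (nat_lit 2538) Col.d (nat_lit 2286) (Dv.wd (nat_lit 21) [Mv.b (nat_lit 6258), Mv.f (nat_lit 4885), Mv.f (nat_lit 6827)])))
(Tr.lf (Fc.ed (nat_lit 6831) (nat_lit 2538) Col.e (nat_lit 2538) (Dv.wd (nat_lit 22) [Mv.b (nat_lit 6827), Mv.b (nat_lit 4607), Mv.f (nat_lit 3050), Mv.f (nat_lit 4607), Mv.f (nat_lit 6827)]))))))
(Tr.nd (nat_lit 6834) (Tr.nd (nat_lit 6833) (Tr.lf (Fc.ed (nat_lit 6832) (nat_lit 2238) Col.b (nat_lit 2539) Dv.df))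
(Tr.lf (Fc.ed (nat_lit 6833) (nat_lit 2539) Col.gi (nat_lit 1603) (Dv.wd (nat_lit 100) [Mv.b (nat_lit 4713), Mv.f (nat_lit 2290), Mv.f (nat_lit 398), Mv.f (nat_lit 1413), Mv.b (nat_lit 1539), Mv.f (nat_lit 1880), Mv.b (nat_lit 2210), Mv.b (nat_lit 4801), Mv.f (nat_lit 6147), Mv.f (nat_lit 6832)]))))
(Tr.nd (nat_lit 6835) (Tr.lf (Fc.ed (nat_lit 6834) (nat_lit 2150) Col.b (nat_lit 2540) Dv.df))
(Tr.nd (nat_lit 6836) (Tr.lf (Fc.ed (nat_lit 6835) (nat_lit 2540) Col.d (nat_lit 2540) (Dv.wd (nat_lit 58) [Mv.b (nat_lit 6834), Mv.f (nat_lit 5962), Mv.f (nat_lit 6834)])))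
(Tr.lf (Fc.ed (nat_lit 6836) (nat_lit 2540) Col.e (nat_lit 1022) (Dv.wd (nat_lit 52) [Mv.b (nat_lit 3191), Mv.f (nat_lit 5961), Mv.f (nat_lit 6834)]))))))))
(Tr.nd (nat_lit 6847) (Tr.nd (nat_lit 6842) (Tr.nd (nat_lit 6839) (Tr.nd (nat_lit 6838) (Tr.lf (Fc.ed (nat_lit 6837) (nat_lit 2540) Col.a (nat_lit 2540) (Dv.wd (nat_lit 98) [Mv.b (nat_lit 6834), Mv.b (nat_lit 5972), Mv.f (nat_lit 5973), Mv.f (nat_lit 5972), Mv.f (nat_lit 6834)])))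
(Tr.lf (Fc.ed (nat_lit 6838) (nat_lit 2540) Col.c (nat_lit 2541) Dv.df)))
(Tr.nd (nat_lit 6840) (Tr.lf (Fc.ed (nat_lit 6839) (nat_lit 2541) Col.a (nat_lit 2541) (Dv.wd (nat_lit 19) [Mv.b (nat_lit 6838), Mv.f (nat_lit 6837), Mv.f (nat_lit 6838)])))
(Tr.nd (nat_lit 6841) (Tr.lf (Fc.ed (nat_lit 6840) (nat_lit 2541) Col.e (nat_lit 1066) (Dv.wd (nat_lit 25) [Mv.b (nat_lit 3298), Mv.b (nat_lit 6836), Mv.f (nat_lit 6838)])))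
(Tr.lf (Fc.ed (nat_lit 6841) (nat_lit 1934) Col.d (nat_lit 2542) Dv.df)))))
(Tr.nd (nat_lit 6844) (Tr.nd (nat_lit 6843) (Tr.lf (Fc.ed (nat_lit 6842) (nat_lit 2542) Col.b (nat_lit 1372) (Dv.wd (nat_lit 37) [Mv.f (nat_lit 4177), Mv.b (nat_lit 5444), Mv.f (nat_lit 6841)])))
(Tr.lf (Fc.ed (nat_lit 6843) (nat_lit 2542) Col.f (nat_lit 2359) (Dv.wd (nat_lit 11) [Mv.f (nat_lit 6431), Mv.f (nat_lit 5443), Mv.f (nat_lit 6841)]))))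
(Tr.nd (nat_lit 6845) (Tr.lf (Fc.ed (nat_lit 6844) (nat_lit 2480) Col.gi (nat_lit 2543) Dv.df))
(Tr.nd (nat_lit 6846) (Tr.lf (Fc.ed (nat_lit 6845) (nat_lit 2543) Col.c (nat_lit 2397) (Dv.wd (nat_lit 143) [Mv.b (nat_lit 6500), Mv.b (nat_lit 2128), Mv.b (nat_lit 693), Mv.f (nat_lit 28), Mv.f (nat_lit 46), Mv.b (nat_lit 2586), Mv.b (nat_lit 2613), Mv.f (nat_lit 3791), Mv.b (nat_lit 6684), Mv.f (nat_lit 6844)])))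
(Tr.lf (Fc.ed (nat_lit 6846) (nat_lit 1055) Col.b (nat_lit 2544) Dv.df))))))
(Tr.nd (nat_lit 6852) (Tr.nd (nat_lit 6849) (Tr.nd (nat_lit 6848) (Tr.lf (Fc.ed (nat_lit 6847) (nat_lit 2544) Col.d (nat_lit 2309) (Dv.wd (nat_lit 58) [Mv.f (nat_lit 6316), Mv.b (nat_lit 3271), Mv.f (nat_lit 6846)])))
(Tr.lf (Fc.ed (nat_lit 6848) (nat_lit 2505) Col.e (nat_lit 2545) Dv.df)))
(Tr.nd (nat_lit 6850) (Tr.lf (Fc.ed (nat_lit 6849) (nat_lit 2545) Col.b (nat_lit 991) (Dv.wd (nat_lit 49) [Mv.b (nat_lit 3669), Mv.f (nat_lit 6748), Mv.f (nat_lit 6848)])))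
(Tr.nd (nat_lit 6851) (Tr.lf (Fc.ed (nat_lit 6850) (nat_lit 2291) Col.d (nat_lit 2546) Dv.df))
(Tr.lf (Fc.ed (nat_lit 6851) (nat_lit 2546) Col.b (nat_lit 1233) (Dv.wd (nat_lit 37) [Mv.f (nat_lit 3800), Mv.f (nat_lit 6271), Mv.f (nat_lit 6850)]))))))
(Tr.nd (nat_lit 6855) (Tr.nd (nat_lit 6853) (Tr.lf (Fc.ed (nat_lit 6852) (nat_lit 2546) Col.e (nat_lit 1384) (Dv.wd (nat_lit 42) [Mv.b (nat_lit 4203), Mv.f (nat_lit 3453), Mv.f (nat_lit 4154), Mv.b (nat_lit 6272), Mv.f (nat_lit 6850)])))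
(Tr.nd (nat_lit 6854) (Tr.lf (Fc.ed (nat_lit 6853) (nat_lit 1488) Col.f (nat_lit 2547) Dv.df))
(Tr.lf (Fc.ed (nat_lit 6854) (nat_lit 2547) Col.d (nat_lit 1602) (Dv.wd (nat_lit 21) [Mv.f (nat_lit 4712), Mv.f (nat_lit 4532), Mv.f (nat_lit 6853)])))))
(Tr.nd (nat_lit 6856) (Tr.lf (Fc.ed (nat_lit 6855) (nat_lit 2015) Col.gi (nat_lit 2548) Dv.df))
(Tr.nd (nat_lit 6857) (Tr.lf (Fc.ed (nat_lit 6856) (nat_lit 1221) Col.b (nat_lit 2549) Dv.df))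
(Tr.lf (Fc.ed (nat_lit 6857) (nat_lit 2549) Col.d (nat_lit 2297) (Dv.wd (nat_lit 58) [Mv.f (nat_lit 6285), Mv.f (nat_lit 3788), Mv.f (nat_lit 6856)])))))))))
(Tr.nd (nat_lit 6878) (Tr.nd (nat_lit 6868) (Tr.nd (nat_lit 6863) (Tr.nd (nat_lit 6860) (Tr.nd (nat_lit 6859) (Tr.lf (Fc.ed (nat_lit 6858) (nat_lit 1357) Col.g (nat_lit 2550) Dv.df))
(Tr.lf (Fc.ed (nat_lit 6859) (nat_lit 1574) Col.f (nat_lit 2551) Dv.df)))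
(Tr.nd (nat_lit 6861) (Tr.lf (Fc.ed (nat_lit 6860) (nat_lit 2551) Col.a (nat_lit 1528) (Dv.wd (nat_lit 16) [Mv.f (nat_lit 5165), Mv.f (nat_lit 5166), Mv.f (nat_lit 6859)])))
(Tr.nd (nat_lit 6862) (Tr.lf (Fc.ed (nat_lit 6861) (nat_lit 2418) Col.gi (nat_lit 2552) Dv.df))
(Tr.lf (Fc.ed (nat_lit 6862) (nat_lit 2552) Col.f (nat_lit 2336) (Dv.wd (nat_lit 13) [Mv.f (nat_lit 6378), Mv.f (nat_lit 6647), Mv.f (nat_lit 6861)]))))))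
(Tr.nd (nat_lit 6865) (Tr.nd (nat_lit 6864) (Tr.lf (Fc.ed (nat_lit 6863) (nat_lit 2552) Col.c (nat_lit 2473) (Dv.wd (nat_lit 14) [Mv.b (nat_lit 6668), Mv.b (nat_lit 6347), Mv.b (nat_lit 5159), Mv.f (nat_lit 2138), Mv.f (nat_lit 2861), Mv.f (nat_lit 2942), Mv.b (nat_lit 5497), Mv.b (nat_lit 6545), Mv.f (nat_lit 6861)])))
(Tr.lf (Fc.ed (nat_lit 6864) (nat_lit 2053) Col.g (nat_lit 2552) (Dv.wd (nat_lit 77) [Mv.f (nat_lit 6863), Mv.f (nat_lit 6667), Mv.f (nat_lit 6400), Mv.b (nat_lit 6251), Mv.f (nat_lit 5919), Mv.b (nat_lit 5917), Mv.f (nat_lit 5915), Mv.b (nat_lit 6645), Mv.f (nat_lit 6646)]))))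
(Tr.nd (nat_lit 6866) (Tr.lf (Fc.ed (nat_lit 6865) (nat_lit 2100) Col.a (nat_lit 2553) Dv.df))
(Tr.nd (nat_lit 6867) (Tr.lf (Fc.ed (nat_lit 6866) (nat_lit 2553) Col.f (nat_lit 1408) (Dv.wd (nat_lit 35) [Mv.b (nat_lit 4747), Mv.f (nat_lit 5786), Mv.f (nat_lit 6865)])))
(Tr.lf (Fc.ed (nat_lit 6867) (nat_lit 1377) Col.c (nat_lit 2554) Dv.df))))))
(Tr.nd (nat_lit 6873) (Tr.nd (nat_lit 6870) (Tr.nd (nat_lit 6869) (Tr.lf (Fc.ed (nat_lit 6868) (nat_lit 1490) Col.e (nat_lit 2555) Dv.df))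
(Tr.lf (Fc.ed (nat_lit 6869) (nat_lit 1619) Col.c (nat_lit 2556) Dv.df)))
(Tr.nd (nat_lit 6871) (Tr.lf (Fc.ed (nat_lit 6870) (nat_lit 1425) Col.a (nat_lit 2557) Dv.df))
(Tr.nd (nat_lit 6872) (Tr.lf (Fc.ed (nat_lit 6871) (nat_lit 1562) Col.a (nat_lit 2558) Dv.df))
(Tr.lf (Fc.ed (nat_lit 6872) (nat_lit 2558) Col.e (nat_lit 1529) (Dv.wd (nat_lit 56) [Mv.b (nat_lit 4559), Mv.b (nat_lit 4632), Mv.f (nat_lit 6871)]))))))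
(Tr.nd (nat_lit 6875) (Tr.nd (nat_lit 6874) (Tr.lf (Fc.ed (nat_lit 6873) (nat_lit 1719) Col.c (nat_lit 2559) Dv.df))
(Tr.lf (Fc.ed (nat_lit 6874) (nat_lit 2559) Col.f (nat_lit 1837) (Dv.wd (nat_lit 26) [Mv.b (nat_lit 5244), Mv.f (nat_lit 4994), Mv.f (nat_lit 6873)]))))
(Tr.nd (nat_lit 6876) (Tr.lf (Fc.ed (nat_lit 6875) (nat_lit 1459) Col.e (nat_lit 2560) Dv.df))
(Tr.nd (nat_lit 6877) (Tr.lf (Fc.ed (nat_lit 6876) (nat_lit 2560) Col.c (nat_lit 1552) (Dv.wd (nat_lit 18) [Mv.b (nat_lit 4607), Mv.f (nat_lit 4409), Mv.f (nat_lit 6875)])))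
(Tr.lf (Fc.ed (nat_lit 6877) (nat_lit 2154) Col.a (nat_lit 2560) (Dv.wd (nat_lit 76) [Mv.f (nat_lit 6876), Mv.f (nat_lit 4608), Mv.f (nat_lit 5969)]))))))))
(Tr.nd (nat_lit 6888) (Tr.nd (nat_lit 6883) (Tr.nd (nat_lit 6880) (Tr.nd (nat_lit 6879) (Tr.lf (Fc.ed (nat_lit 6878) (nat_lit 1412) Col.g (nat_lit 2561) Dv.df))
(Tr.lf (Fc.ed (nat_lit 6879) (nat_lit 2336) Col.b (nat_lit 2562) Dv.df)))
(Tr.nd (nat_lit 6881) (Tr.lf (Fc.ed (nat_lit 6880) (nat_lit 2562) Col.e (nat_lit 2449) (Dv.wd (nat_lit 52) [Mv.b (nat_lit 6613), Mv.b (nat_lit 6379), Mv.f (nat_lit 6879)])))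
(Tr.nd (nat_lit 6882) (Tr.lf (Fc.ed (nat_lit 6881) (nat_lit 1912) Col.a (nat_lit 2563) Dv.df))
(Tr.lf (Fc.ed (nat_lit 6882) (nat_lit 2563) Col.b (nat_lit 2498) (Dv.wd (nat_lit 65) [Mv.f (nat_lit 6732), Mv.f (nat_lit 4938), Mv.b (nat_lit 4592), Mv.b (nat_lit 5396), Mv.f (nat_lit 6881)]))))))
(Tr.nd (nat_lit 6885) (Tr.nd (nat_lit 6884) (Tr.lf (Fc.ed (nat_lit 6883) (nat_lit 1464) Col.g (nat_lit 2564) Dv.df))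
(Tr.lf (Fc.ed (nat_lit 6884) (nat_lit 2564) Col.g (nat_lit 2344) (Dv.wd (nat_lit 9) [Mv.b (nat_lit 6397), Mv.f (nat_lit 4418), Mv.f (nat_lit 6883)]))))
(Tr.nd (nat_lit 6886) (Tr.lf (Fc.ed (nat_lit 6885) (nat_lit 2533) Col.a (nat_lit 2565) Dv.df))
(Tr.nd (nat_lit 6887) (Tr.lf (Fc.ed (nat_lit 6886) (nat_lit 2565) Col.gi (nat_lit 1289) (Dv.wd (nat_lit 12) [Mv.f (nat_lit 4015), Mv.f (nat_lit 6816), Mv.f (nat_lit 6885)])))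
(Tr.lf (Fc.ed (nat_lit 6887) (nat_lit 2346) Col.c (nat_lit 2566) Dv.df))))))
(Tr.nd (nat_lit 6893) (Tr.nd (nat_lit 6890) (Tr.nd (nat_lit 6889) (Tr.lf (Fc.ed (nat_lit 6888) (nat_lit 2566) Col.b (nat_lit 2093) (Dv.wd (nat_lit 101) [Mv.b (nat_lit 5770), Mv.b (nat_lit 3862), Mv.b (nat_lit 3540), Mv.f (nat_lit 4280), Mv.f (nat_lit 4283), Mv.f (nat_lit 3507), Mv.f (nat_lit 975), Mv.b (nat_lit 3225), Mv.f (nat_lit 6404), Mv.f (nat_lit 6887)])))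
(Tr.lf (Fc.ed (nat_lit 6889) (nat_lit 2233) Col.a (nat_lit 2567) Dv.df)))
(Tr.nd (nat_lit 6891) (Tr.lf (Fc.ed (nat_lit 6890) (nat_lit 2567) Col.f (nat_lit 2479) (Dv.wd (nat_lit 35) [Mv.b (nat_lit 6681), Mv.f (nat_lit 6680), Mv.f (nat_lit 6889)])))
(Tr.nd (nat_lit 6892) (Tr.lf (Fc.ed (nat_lit 6891) (nat_lit 1134) Col.g (nat_lit 2568) Dv.df))
(Tr.lf (Fc.ed (nat_lit 6892) (nat_lit 2568) Col.g (nat_lit 2280) (Dv.wd (nat_lit 9) [Mv.f (nat_lit 6245), Mv.f (nat_lit 3878), Mv.f (nat_lit 6891)]))))))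
(Tr.nd (nat_lit 6896) (Tr.nd (nat_lit 6894) (Tr.lf (Fc.ed (nat_lit 6893) (nat_lit 2026) Col.e (nat_lit 2569) Dv.df))
(Tr.nd (nat_lit 6895) (Tr.lf (Fc.ed (nat_lit 6894) (nat_lit 2541) Col.d (nat_lit 2570) Dv.df))
(Tr.lf (Fc.ed (nat_lit 6895) (nat_lit 2570) Col.a (nat_lit 2570) (Dv.wd (nat_lit 8) [Mv.b (nat_lit 6894), Mv.f (nat_lit 6839), Mv.f (nat_lit 6894)])))))
(Tr.nd (nat_lit 6897) (Tr.lf (Fc.ed (nat_lit 6896) (nat_lit 2570) Col.e (nat_lit 1987) (Dv.wd (nat_lit 42) [Mv.b (nat_lit 5557), Mv.f (nat_lit 4372), Mv.b (nat_lit 3300), Mv.b (nat_lit 6840), Mv.f (nat_lit 6894)])))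
(Tr.nd (nat_lit 6898) (Tr.lf (Fc.ed (nat_lit 6897) (nat_lit 1361) Col.g (nat_lit 2571) Dv.df))
(Tr.lf (Fc.ed (nat_lit 6898) (nat_lit 2571) Col.g (nat_lit 1881) (Dv.wd (nat_lit 9) [Mv.b (nat_lit 5339), Mv.f (nat_lit 4150), Mv.f (nat_lit 6897)]))))))))))))
(Tr.nd (nat_lit 7063) (Tr.nd (nat_lit 6981) (Tr.nd (nat_lit 6940) (Tr.nd (nat_lit 6919) (Tr.nd (nat_lit 6909) (Tr.nd (nat_lit 6904) (Tr.nd (nat_lit 6901) (Tr.nd (nat_lit 6900) (Tr.lf (Fc.ed (nat_lit 6899) (nat_lit 1719) Col.g (nat_lit 2572) Dv.df))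
(Tr.lf (Fc.ed (nat_lit 6900) (nat_lit 2572) Col.b (nat_lit 2392) (Dv.wd (nat_lit 104) [Mv.b (nat_lit 6491), Mv.b (nat_lit 4683), Mv.b (nat_lit 2607), Mv.f (nat_lit 2606), Mv.b (nat_lit 2627), Mv.b (nat_lit 2799), Mv.b (nat_lit 970), Mv.f (nat_lit 2800), Mv.b (nat_lit 4995), Mv.f (nat_lit 6899)]))))
(Tr.nd (nat_lit 6902) (Tr.lf (Fc.ed (nat_lit 6901) (nat_lit 1856) Col.f (nat_lit 2573) Dv.df))
(Tr.nd (nat_lit 6903) (Tr.lf (Fc.ed (nat_lit 6902) (nat_lit 2573) Col.a (nat_lit 1674) (Dv.wd (nat_lit 16) [Mv.b (nat_lit 4886), Mv.f (nat_lit 5286), Mv.f (nat_lit 6901)])))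
(Tr.lf (Fc.ed (nat_lit 6903) (nat_lit 2573) Col.e (nat_lit 1901) (Dv.wd (nat_lit 22) [Mv.f (nat_lit 5867), Mv.f (nat_lit 4891), Mv.f (nat_lit 4656), Mv.b (nat_lit 5287), Mv.f (nat_lit 6901)]))))))
(Tr.nd (nat_lit 6906) (Tr.nd (nat_lit 6905) (Tr.lf (Fc.ed (nat_lit 6904) (nat_lit 1700) Col.c (nat_lit 2574) Dv.df))
(Tr.lf (Fc.ed (nat_lit 6905) (nat_lit 2574) Col.g (nat_lit 2559) (Dv.wd (nat_lit 123) [Mv.b (nat_lit 6873), Mv.f (nat_lit 4995), Mv.f (nat_lit 4064), Mv.f (nat_lit 3091), Mv.f (nat_lit 2681), Mv.f (nat_lit 2637), Mv.b (nat_lit 2606), Mv.b (nat_lit 1113), Mv.b (nat_lit 4940), Mv.f (nat_lit 6904)]))))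
(Tr.nd (nat_lit 6907) (Tr.lf (Fc.ed (nat_lit 6906) (nat_lit 1565) Col.d (nat_lit 2575) Dv.df))
(Tr.nd (nat_lit 6908) (Tr.lf (Fc.ed (nat_lit 6907) (nat_lit 2575) Col.g (nat_lit 2328) (Dv.wd (nat_lit 69) [Mv.b (nat_lit 6354), Mv.b (nat_lit 6400), Mv.b (nat_lit 6667), Mv.b (nat_lit 6666), Mv.f (nat_lit 6441), Mv.f (nat_lit 6211), Mv.f (nat_lit 2092), Mv.b (nat_lit 4639), Mv.f (nat_lit 6906)])))
(Tr.lf (Fc.ed (nat_lit 6908) (nat_lit 2283) Col.e (nat_lit 2019) (Dv.wd (nat_lit 70) [Mv.b (nat_lit 5618), Mv.b (nat_lit 3170), Mv.b (nat_lit 1106), Mv.b (nat_lit 1099), Mv.f (nat_lit 786), Mv.b (nat_lit 2094), Mv.b (nat_lit 4639), Mv.f (nat_lit 6906), Mv.f (nat_lit 6907), Mv.b (nat_lit 6354)])))))))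
(Tr.nd (nat_lit 6914) (Tr.nd (nat_lit 6911) (Tr.nd (nat_lit 6910) (Tr.lf (Fc.ed (nat_lit 6909) (nat_lit 2019) Col.a (nat_lit 2019) (Dv.wd (nat_lit 15) [Mv.b (nat_lit 6908), Mv.f (nat_lit 6254), Mv.f (nat_lit 6908)])))
(Tr.lf (Fc.ed (nat_lit 6910) (nat_lit 2019) Col.c (nat_lit 1432) (Dv.wd (nat_lit 18) [Mv.b (nat_lit 6403), Mv.f (nat_lit 6400), Mv.f (nat_lit 6908)]))))
(Tr.nd (nat_lit 6912) (Tr.lf (Fc.ed (nat_lit 6911) (nat_lit 2019) Col.f (nat_lit 2103) (Dv.wd (nat_lit 96) [Mv.b (nat_lit 5791), Mv.f (nat_lit 4973), Mv.b (nat_lit 5825), Mv.f (nat_lit 6253), Mv.f (nat_lit 6908)])))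
(Tr.nd (nat_lit 6913) (Tr.lf (Fc.ed (nat_lit 6912) (nat_lit 2103) Col.gi (nat_lit 1011) (Dv.wd (nat_lit 12) [Mv.f (nat_lit 5618), Mv.f (nat_lit 6911), Mv.f (nat_lit 5792)])))
(Tr.lf (Fc.ed (nat_lit 6913) (nat_lit 2103) Col.g (nat_lit 2072) (Dv.wd (nat_lit 17) [Mv.b (nat_lit 5724), Mv.f (nat_lit 6909), Mv.f (nat_lit 6911)]))))))
(Tr.nd (nat_lit 6916) (Tr.nd (nat_lit 6915) (Tr.lf (Fc.ed (nat_lit 6914) (nat_lit 1411) Col.f (nat_lit 2576) Dv.df))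
(Tr.lf (Fc.ed (nat_lit 6915) (nat_lit 2576) Col.b (nat_lit 1532) (Dv.wd (nat_lit 66) [Mv.b (nat_lit 4565), Mv.f (nat_lit 4271), Mv.f (nat_lit 6914)]))))
(Tr.nd (nat_lit 6917) (Tr.lf (Fc.ed (nat_lit 6916) (nat_lit 2576) Col.d (nat_lit 1762) (Dv.wd (nat_lit 21) [Mv.b (nat_lit 5099), Mv.f (nat_lit 4732), Mv.f (nat_lit 6914)])))
(Tr.nd (nat_lit 6918) (Tr.lf (Fc.ed (nat_lit 6917) (nat_lit 2576) Col.e (nat_lit 2175) (Dv.wd (nat_lit 22) [Mv.b (nat_lit 6017), Mv.b (nat_lit 4507), Mv.f (nat_lit 4247), Mv.b (nat_lit 4272), Mv.f (nat_lit 6914)])))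
(Tr.lf (Fc.ed (nat_lit 6918) (nat_lit 2437) Col.c (nat_lit 2577) Dv.df)))))))
(Tr.nd (nat_lit 6929) (Tr.nd (nat_lit 6924) (Tr.nd (nat_lit 6921) (Tr.nd (nat_lit 6920) (Tr.lf (Fc.ed (nat_lit 6919) (nat_lit 2577) Col.d (nat_lit 2355) (Dv.wd (nat_lit 95) [Mv.f (nat_lit 6424), Mv.f (nat_lit 5822), Mv.f (nat_lit 5824), Mv.f (nat_lit 4276), Mv.b (nat_lit 4982), Mv.f (nat_lit 4983), Mv.f (nat_lit 5920), Mv.f (nat_lit 6587), Mv.f (nat_lit 6918)])))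
(Tr.lf (Fc.ed (nat_lit 6920) (nat_lit 1647) Col.b (nat_lit 2578) Dv.df)))
(Tr.nd (nat_lit 6922) (Tr.lf (Fc.ed (nat_lit 6921) (nat_lit 2366) Col.e (nat_lit 2579) Dv.df))
(Tr.nd (nat_lit 6923) (Tr.lf (Fc.ed (nat_lit 6922) (nat_lit 2579) Col.gi (nat_lit 1233) (Dv.wd (nat_lit 132) [Mv.b (nat_lit 3799), Mv.f (nat_lit 2748), Mv.b (nat_lit 1361), Mv.f (nat_lit 2228), Mv.f (nat_lit 2805), Mv.b (nat_lit 5324), Mv.b (nat_lit 5325), Mv.f (nat_lit 6630), Mv.f (nat_lit 6631), Mv.f (nat_lit 6921)])))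
(Tr.lf (Fc.ed (nat_lit 6923) (nat_lit 2197) Col.gi (nat_lit 2579) (Dv.wd (nat_lit 12) [Mv.f (nat_lit 6922), Mv.b (nat_lit 6075), Mv.f (nat_lit 6074)]))))))
(Tr.nd (nat_lit 6926) (Tr.nd (nat_lit 6925) (Tr.lf (Fc.ed (nat_lit 6924) (nat_lit 1384) Col.a (nat_lit 2580) Dv.df))
(Tr.lf (Fc.ed (nat_lit 6925) (nat_lit 2580) Col.d (nat_lit 2038) (Dv.wd (nat_lit 28) [Mv.b (nat_lit 5655), Mv.f (nat_lit 4203), Mv.f (nat_lit 6924)]))))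
(Tr.nd (nat_lit 6927) (Tr.lf (Fc.ed (nat_lit 6926) (nat_lit 2580) Col.f (nat_lit 2225) (Dv.wd (nat_lit 35) [Mv.f (nat_lit 6125), Mv.f (nat_lit 4540), Mv.f (nat_lit 6924)])))
(Tr.nd (nat_lit 6928) (Tr.lf (Fc.ed (nat_lit 6927) (nat_lit 2580) Col.b (nat_lit 2580) (Dv.wd (nat_lit 65) [Mv.b (nat_lit 6924), Mv.f (nat_lit 4204), Mv.f (nat_lit 2747), Mv.b (nat_lit 4204), Mv.f (nat_lit 6924)])))
(Tr.lf (Fc.ed (nat_lit 6928) (nat_lit 2360) Col.f (nat_lit 2581) Dv.df))))))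
(Tr.nd (nat_lit 6934) (Tr.nd (nat_lit 6931) (Tr.nd (nat_lit 6930) (Tr.lf (Fc.ed (nat_lit 6929) (nat_lit 2581) Col.c (nat_lit 2411) (Dv.wd (nat_lit 34) [Mv.b (nat_lit 6526), Mv.f (nat_lit 6433), Mv.f (nat_lit 6928)])))
(Tr.lf (Fc.ed (nat_lit 6930) (nat_lit 2421) Col.c (nat_lit 2582) Dv.df)))
(Tr.nd (nat_lit 6932) (Tr.lf (Fc.ed (nat_lit 6931) (nat_lit 2582) Col.b (nat_lit 1788) (Dv.wd (nat_lit 101) [Mv.b (nat_lit 5148), Mv.b (nat_lit 1972), Mv.b (nat_lit 1330), Mv.b (nat_lit 1750), Mv.f (nat_lit 2202), Mv.f (nat_lit 2203), Mv.b (nat_lit 4435), Mv.b (nat_lit 4433), Mv.b (nat_lit 6551), Mv.f (nat_lit 6930)])))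
(Tr.nd (nat_lit 6933) (Tr.lf (Fc.ed (nat_lit 6932) (nat_lit 942) Col.b (nat_lit 2583) Dv.df))
(Tr.lf (Fc.ed (nat_lit 6933) (nat_lit 2583) Col.d (nat_lit 1660) (Dv.wd (nat_lit 58) [Mv.b (nat_lit 4849), Mv.f (nat_lit 2987), Mv.f (nat_lit 6932)]))))))
(Tr.nd (nat_lit 6937) (Tr.nd (nat_lit 6935) (Tr.lf (Fc.ed (nat_lit 6934) (nat_lit 1140) Col.gi (nat_lit 2584) Dv.df))
(Tr.nd (nat_lit 6936) (Tr.lf (Fc.ed (nat_lit 6935) (nat_lit 2584) Col.gi (nat_lit 1374) (Dv.wd (nat_lit 24) [Mv.f (nat_lit 5221), Mv.f (nat_lit 5222), Mv.f (nat_lit 6934)])))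
(Tr.lf (Fc.ed (nat_lit 6936) (nat_lit 1821) Col.a (nat_lit 2585) Dv.df))))
(Tr.nd (nat_lit 6938) (Tr.lf (Fc.ed (nat_lit 6937) (nat_lit 2585) Col.f (nat_lit 1869) (Dv.wd (nat_lit 35) [Mv.b (nat_lit 6654), Mv.b (nat_lit 6653), Mv.f (nat_lit 6936)])))
(Tr.nd (nat_lit 6939) (Tr.lf (Fc.ed (nat_lit 6938) (nat_lit 2285) Col.g (nat_lit 2586) Dv.df))
(Tr.lf (Fc.ed (nat_lit 6939) (nat_lit 2586) Col.g (nat_lit 1417) (Dv.wd (nat_lit 9) [Mv.f (nat_lit 4559), Mv.b (nat_lit 6257), Mv.f (nat_lit 6938)])))))))))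
(Tr.nd (nat_lit 6960) (Tr.nd (nat_lit 6950) (Tr.nd (nat_lit 6945) (Tr.nd (nat_lit 6942) (Tr.nd (nat_lit 6941) (Tr.lf (Fc.ed (nat_lit 6940) (nat_lit 1347) Col.f (nat_lit 2587) Dv.df))
(Tr.lf (Fc.ed (nat_lit 6941) (nat_lit 2587) Col.a (nat_lit 2286) (Dv.wd (nat_lit 16) [Mv.b (nat_lit 6258), Mv.f (nat_lit 4883), Mv.f (nat_lit 6940)]))))
(Tr.nd (nat_lit 6943) (Tr.lf (Fc.ed (nat_lit 6942) (nat_lit 2587) Col.b (nat_lit 2523) (Dv.wd (nat_lit 66) [Mv.f (nat_lit 6791), Mv.f (nat_lit 4464), Mv.f (nat_lit 6940)])))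
(Tr.nd (nat_lit 6944) (Tr.lf (Fc.ed (nat_lit 6943) (nat_lit 2090) Col.d (nat_lit 2588) Dv.df))
(Tr.lf (Fc.ed (nat_lit 6944) (nat_lit 2363) Col.f (nat_lit 2589) Dv.df)))))
(Tr.nd (nat_lit 6947) (Tr.nd (nat_lit 6946) (Tr.lf (Fc.ed (nat_lit 6945) (nat_lit 2589) Col.b (nat_lit 1168) (Dv.wd (nat_lit 66) [Mv.f (nat_lit 3594), Mv.f (nat_lit 6438), Mv.f (nat_lit 6944)])))
(Tr.lf (Fc.ed (nat_lit 6946) (nat_lit 2589) Col.e (nat_lit 2503) (Dv.wd (nat_lit 22) [Mv.f (nat_lit 6745), Mv.b (nat_lit 6315), Mv.b (nat_lit 5804), Mv.b (nat_lit 6439), Mv.f (nat_lit 6944)]))))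
(Tr.nd (nat_lit 6948) (Tr.lf (Fc.ed (nat_lit 6947) (nat_lit 2367) Col.a (nat_lit 2590) Dv.df))
(Tr.nd (nat_lit 6949) (Tr.lf (Fc.ed (nat_lit 6948) (nat_lit 2323) Col.f (nat_lit 2591) Dv.df))
(Tr.lf (Fc.ed (nat_lit 6949) (nat_lit 2591) Col.a (nat_lit 2294) (Dv.wd (nat_lit 23) [Mv.f (nat_lit 6280), Mv.b (nat_lit 6344), Mv.f (nat_lit 6948)])))))))
(Tr.nd (nat_lit 6955) (Tr.nd (nat_lit 6952) (Tr.nd (nat_lit 6951) (Tr.lf (Fc.ed (nat_lit 6950) (nat_lit 1298) Col.g (nat_lit 2592) Dv.df))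
(Tr.lf (Fc.ed (nat_lit 6951) (nat_lit 1071) Col.d (nat_lit 2593) Dv.df)))
(Tr.nd (nat_lit 6953) (Tr.lf (Fc.ed (nat_lit 6952) (nat_lit 1329) Col.a (nat_lit 2594) Dv.df))
(Tr.nd (nat_lit 6954) (Tr.lf (Fc.ed (nat_lit 6953) (nat_lit 2594) Col.f (nat_lit 2565) (Dv.wd (nat_lit 35) [Mv.b (nat_lit 6885), Mv.b (nat_lit 6816), Mv.f (nat_lit 6952)])))
(Tr.lf (Fc.ed (nat_lit 6954) (nat_lit 2170) Col.e (nat_lit 2595) Dv.df)))))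
(Tr.nd (nat_lit 6957) (Tr.nd (nat_lit 6956) (Tr.lf (Fc.ed (nat_lit 6955) (nat_lit 2595) Col.b (nat_lit 2253) (Dv.wd (nat_lit 49) [Mv.b (nat_lit 6177), Mv.b (nat_lit 6010), Mv.f (nat_lit 6954)])))
(Tr.lf (Fc.ed (nat_lit 6956) (nat_lit 2162) Col.f (nat_lit 2596) Dv.df)))
(Tr.nd (nat_lit 6958) (Tr.lf (Fc.ed (nat_lit 6957) (nat_lit 2596) Col.a (nat_lit 1373) (Dv.wd (nat_lit 16) [Mv.b (nat_lit 5623), Mv.f (nat_lit 5988), Mv.f (nat_lit 6956)])))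
(Tr.nd (nat_lit 6959) (Tr.lf (Fc.ed (nat_lit 6958) (nat_lit 2596) Col.d (nat_lit 1800) (Dv.wd (nat_lit 21) [Mv.b (nat_lit 6239), Mv.f (nat_lit 6238), Mv.f (nat_lit 6956)])))
(Tr.lf (Fc.ed (nat_lit 6959) (nat_lit 717) Col.gi (nat_lit 2597) Dv.df)))))))
(Tr.nd (nat_lit 6970) (Tr.nd (nat_lit 6965) (Tr.nd (nat_lit 6962) (Tr.nd (nat_lit 6961) (Tr.lf (Fc.ed (nat_lit 6960) (nat_lit 2597) Col.gi (nat_lit 2189) (Dv.wd (nat_lit 24) [Mv.f (nat_lit 6056), Mv.f (nat_lit 4222), Mv.f (nat_lit 6959)])))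
(Tr.lf (Fc.ed (nat_lit 6961) (nat_lit 1418) Col.c (nat_lit 2598) Dv.df)))
(Tr.nd (nat_lit 6963) (Tr.lf (Fc.ed (nat_lit 6962) (nat_lit 2598) Col.f (nat_lit 1477) (Dv.wd (nat_lit 26) [Mv.f (nat_lit 4452), Mv.f (nat_lit 4290), Mv.f (nat_lit 6961)])))
(Tr.nd (nat_lit 6964) (Tr.lf (Fc.ed (nat_lit 6963) (nat_lit 2170) Col.d (nat_lit 2599) Dv.df))
(Tr.lf (Fc.ed (nat_lit 6964) (nat_lit 2599) Col.b (nat_lit 1283) (Dv.wd (nat_lit 37) [Mv.f (nat_lit 3919), Mv.b (nat_lit 6010), Mv.f (nat_lit 6963)]))))))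
(Tr.nd (nat_lit 6967) (Tr.nd (nat_lit 6966) (Tr.lf (Fc.ed (nat_lit 6965) (nat_lit 2599) Col.f (nat_lit 2549) (Dv.wd (nat_lit 11) [Mv.f (nat_lit 6857), Mv.b (nat_lit 6284), Mv.f (nat_lit 6963)])))
(Tr.lf (Fc.ed (nat_lit 6966) (nat_lit 1602) Col.gi (nat_lit 2600) Dv.df)))
(Tr.nd (nat_lit 6968) (Tr.lf (Fc.ed (nat_lit 6967) (nat_lit 2600) Col.gi (nat_lit 1343) (Dv.wd (nat_lit 24) [Mv.b (nat_lit 5430), Mv.f (nat_lit 5428), Mv.f (nat_lit 6966)])))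
(Tr.nd (nat_lit 6969) (Tr.lf (Fc.ed (nat_lit 6968) (nat_lit 1327) Col.d (nat_lit 2601) Dv.df))
(Tr.lf (Fc.ed (nat_lit 6969) (nat_lit 1739) Col.c (nat_lit 2602) Dv.df))))))
(Tr.nd (nat_lit 6975) (Tr.nd (nat_lit 6972) (Tr.nd (nat_lit 6971) (Tr.lf (Fc.ed (nat_lit 6970) (nat_lit 2602) Col.b (nat_lit 1032) (Dv.wd (nat_lit 87) [Mv.b (nat_lit 3217), Mv.b (nat_lit 4226), Mv.f (nat_lit 4825), Mv.f (nat_lit 5041), Mv.f (nat_lit 6969)])))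
(Tr.lf (Fc.ed (nat_lit 6971) (nat_lit 1524) Col.f (nat_lit 2603) Dv.df)))
(Tr.nd (nat_lit 6973) (Tr.lf (Fc.ed (nat_lit 6972) (nat_lit 2603) Col.c (nat_lit 1313) (Dv.wd (nat_lit 34) [Mv.f (nat_lit 3983), Mv.f (nat_lit 4551), Mv.f (nat_lit 6971)])))
(Tr.nd (nat_lit 6974) (Tr.lf (Fc.ed (nat_lit 6973) (nat_lit 2487) Col.a (nat_lit 2603) (Dv.wd (nat_lit 76) [Mv.f (nat_lit 6972), Mv.b (nat_lit 3982), Mv.b (nat_lit 6697)])))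
(Tr.lf (Fc.ed (nat_lit 6974) (nat_lit 1524) Col.g (nat_lit 1754) (Dv.wd (nat_lit 17) [Mv.f (nat_lit 6696), Mv.f (nat_lit 6973), Mv.b (nat_lit 6971)]))))))
(Tr.nd (nat_lit 6978) (Tr.nd (nat_lit 6976) (Tr.lf (Fc.ed (nat_lit 6975) (nat_lit 2593) Col.f (nat_lit 2604) Dv.df))
(Tr.nd (nat_lit 6977) (Tr.lf (Fc.ed (nat_lit 6976) (nat_lit 2604) Col.d (nat_lit 904) (Dv.wd (nat_lit 21) [Mv.f (nat_lit 3316), Mv.f (nat_lit 6951), Mv.f (nat_lit 6975)])))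
(Tr.lf (Fc.ed (nat_lit 6977) (nat_lit 2584) Col.f (nat_lit 2605) Dv.df))))
(Tr.nd (nat_lit 6979) (Tr.lf (Fc.ed (nat_lit 6978) (nat_lit 2605) Col.a (nat_lit 1400) (Dv.wd (nat_lit 23) [Mv.f (nat_lit 4245), Mv.f (nat_lit 6934), Mv.f (nat_lit 6977)])))
(Tr.nd (nat_lit 6980) (Tr.lf (Fc.ed (nat_lit 6979) (nat_lit 1418) Col.a (nat_lit 2606) Dv.df))
(Tr.lf (Fc.ed (nat_lit 6980) (nat_lit 2606) Col.e (nat_lit 2606) (Dv.wd (nat_lit 56) [Mv.b (nat_lit 6979), Mv.f (nat_lit 4291), Mv.f (nat_lit 6979)]))))))))))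
(Tr.nd (nat_lit 7022) (Tr.nd (nat_lit 7001) (Tr.nd (nat_lit 6991) (Tr.nd (nat_lit 6986) (Tr.nd (nat_lit 6983) (Tr.nd (nat_lit 6982) (Tr.lf (Fc.ed (nat_lit 6981) (nat_lit 2606) Col.f (nat_lit 1389) (Dv.wd (nat_lit 35) [Mv.f (nat_lit 4216), Mv.f (nat_lit 4290), Mv.f (nat_lit 6979)])))
(Tr.lf (Fc.ed (nat_lit 6982) (nat_lit 862) Col.g (nat_lit 2607) Dv.df)))
(Tr.nd (nat_lit 6984) (Tr.lf (Fc.ed (nat_lit 6983) (nat_lit 1898) Col.d (nat_lit 2608) Dv.df))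
(Tr.nd (nat_lit 6985) (Tr.lf (Fc.ed (nat_lit 6984) (nat_lit 2608) Col.a (nat_lit 2359) (Dv.wd (nat_lit 8) [Mv.f (nat_lit 6431), Mv.f (nat_lit 5372), Mv.f (nat_lit 6983)])))
(Tr.lf (Fc.ed (nat_lit 6985) (nat_lit 2606) Col.b (nat_lit 2609) Dv.df)))))
(Tr.nd (nat_lit 6988) (Tr.nd (nat_lit 6987) (Tr.lf (Fc.ed (nat_lit 6986) (nat_lit 2609) Col.f (nat_lit 1398) (Dv.wd (nat_lit 20) [Mv.f (nat_lit 4241), Mv.b (nat_lit 6981), Mv.f (nat_lit 6985)])))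
(Tr.lf (Fc.ed (nat_lit 6987) (nat_lit 2609) Col.a (nat_lit 1497) (Dv.wd (nat_lit 98) [Mv.b (nat_lit 5636), Mv.b (nat_lit 6828), Mv.f (nat_lit 6829), Mv.f (nat_lit 6979), Mv.f (nat_lit 6985)]))))
(Tr.nd (nat_lit 6989) (Tr.lf (Fc.ed (nat_lit 6988) (nat_lit 2245) Col.d (nat_lit 2609) (Dv.wd (nat_lit 97) [Mv.f (nat_lit 6987), Mv.f (nat_lit 6792), Mv.b (nat_lit 6790)])))
(Tr.nd (nat_lit 6990) (Tr.lf (Fc.ed (nat_lit 6989) (nat_lit 1247) Col.c (nat_lit 2610) Dv.df))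
(Tr.lf (Fc.ed (nat_lit 6990) (nat_lit 1197) Col.a (nat_lit 2611) Dv.df))))))
(Tr.nd (nat_lit 6996) (Tr.nd (nat_lit 6993) (Tr.nd (nat_lit 6992) (Tr.lf (Fc.ed (nat_lit 6991) (nat_lit 2286) Col.g (nat_lit 2612) Dv.df))
(Tr.lf (Fc.ed (nat_lit 6992) (nat_lit 2612) Col.g (nat_lit 1347) (Dv.wd (nat_lit 9) [Mv.b (nat_lit 4883), Mv.f (nat_lit 6258), Mv.f (nat_lit 6991)]))))
(Tr.nd (nat_lit 6994) (Tr.lf (Fc.ed (nat_lit 6993) (nat_lit 2544) Col.a (nat_lit 2613) Dv.df))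
(Tr.nd (nat_lit 6995) (Tr.lf (Fc.ed (nat_lit 6994) (nat_lit 2295) Col.c (nat_lit 2614) Dv.df))
(Tr.lf (Fc.ed (nat_lit 6995) (nat_lit 2614) Col.b (nat_lit 2610) (Dv.wd (nat_lit 87) [Mv.b (nat_lit 6989), Mv.b (nat_lit 3834), Mv.f (nat_lit 3351), Mv.f (nat_lit 6281), Mv.f (nat_lit 6994)]))))))
(Tr.nd (nat_lit 6998) (Tr.nd (nat_lit 6997) (Tr.lf (Fc.ed (nat_lit 6996) (nat_lit 2406) Col.d (nat_lit 2615) Dv.df))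
(Tr.lf (Fc.ed (nat_lit 6997) (nat_lit 2615) Col.b (nat_lit 1206) (Dv.wd (nat_lit 37) [Mv.b (nat_lit 3710), Mv.f (nat_lit 6517), Mv.f (nat_lit 6996)]))))
(Tr.nd (nat_lit 6999) (Tr.lf (Fc.ed (nat_lit 6998) (nat_lit 1288) Col.gi (nat_lit 2616) Dv.df))
(Tr.nd (nat_lit 7000) (Tr.lf (Fc.ed (nat_lit 6999) (nat_lit 2486) Col.f (nat_lit 2617) Dv.df))
(Tr.lf (Fc.ed (nat_lit 7000) (nat_lit 2617) Col.a (nat_lit 2524) (Dv.wd (nat_lit 23) [Mv.f (nat_lit 6795), Mv.b (nat_lit 6695), Mv.f (nat_lit 6999)]))))))))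
(Tr.nd (nat_lit 7011) (Tr.nd (nat_lit 7006) (Tr.nd (nat_lit 7003) (Tr.nd (nat_lit 7002) (Tr.lf (Fc.ed (nat_lit 7001) (nat_lit 1470) Col.g (nat_lit 2618) Dv.df))
(Tr.lf (Fc.ed (nat_lit 7002) (nat_lit 2618) Col.g (nat_lit 2079) (Dv.wd (nat_lit 9) [Mv.f (nat_lit 5743), Mv.b (nat_lit 4434), Mv.f (nat_lit 7001)]))))
(Tr.nd (nat_lit 7004) (Tr.lf (Fc.ed (nat_lit 7003) (nat_lit 2193) Col.d (nat_lit 2619) Dv.df))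
(Tr.nd (nat_lit 7005) (Tr.lf (Fc.ed (nat_lit 7004) (nat_lit 2619) Col.f (nat_lit 1706) (Dv.wd (nat_lit 11) [Mv.b (nat_lit 4957), Mv.f (nat_lit 6063), Mv.f (nat_lit 7003)])))
(Tr.lf (Fc.ed (nat_lit 7005) (nat_lit 2606) Col.c (nat_lit 2620) Dv.df)))))
(Tr.nd (nat_lit 7008) (Tr.nd (nat_lit 7007) (Tr.lf (Fc.ed (nat_lit 7006) (nat_lit 2620) Col.a (nat_lit 2598) (Dv.wd (nat_lit 19) [Mv.b (nat_lit 6961), Mv.f (nat_lit 6979), Mv.f (nat_lit 7005)])))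
(Tr.lf (Fc.ed (nat_lit 7007) (nat_lit 2620) Col.f (nat_lit 1438) (Dv.wd (nat_lit 26) [Mv.f (nat_lit 4341), Mv.b (nat_lit 6981), Mv.f (nat_lit 7005)]))))
(Tr.nd (nat_lit 7009) (Tr.lf (Fc.ed (nat_lit 7008) (nat_lit 2124) Col.f (nat_lit 2621) Dv.df))
(Tr.nd (nat_lit 7010) (Tr.lf (Fc.ed (nat_lit 7009) (nat_lit 1970) Col.a (nat_lit 2622) Dv.df))
(Tr.lf (Fc.ed (nat_lit 7010) (nat_lit 2622) Col.b (nat_lit 2590) (Dv.wd (nat_lit 65) [Mv.b (nat_lit 6947), Mv.b (nat_lit 6448), Mv.f (nat_lit 3131), Mv.f (nat_lit 5520), Mv.f (nat_lit 7009)])))))))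
(Tr.nd (nat_lit 7016) (Tr.nd (nat_lit 7013) (Tr.nd (nat_lit 7012) (Tr.lf (Fc.ed (nat_lit 7011) (nat_lit 906) Col.gi (nat_lit 2623) Dv.df))
(Tr.lf (Fc.ed (nat_lit 7012) (nat_lit 2623) Col.gi (nat_lit 1895) (Dv.wd (nat_lit 24) [Mv.f (nat_lit 5366), Mv.f (nat_lit 3416), Mv.f (nat_lit 7011)]))))
(Tr.nd (nat_lit 7014) (Tr.lf (Fc.ed (nat_lit 7013) (nat_lit 2123) Col.b (nat_lit 2624) Dv.df))
(Tr.nd (nat_lit 7015) (Tr.lf (Fc.ed (nat_lit 7014) (nat_lit 2624) Col.e (nat_lit 2254) (Dv.wd (nat_lit 52) [Mv.b (nat_lit 6180), Mv.f (nat_lit 5901), Mv.f (nat_lit 7013)])))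
(Tr.lf (Fc.ed (nat_lit 7015) (nat_lit 1267) Col.c (nat_lit 2625) Dv.df)))))
(Tr.nd (nat_lit 7019) (Tr.nd (nat_lit 7017) (Tr.lf (Fc.ed (nat_lit 7016) (nat_lit 1769) Col.g (nat_lit 2626) Dv.df))
(Tr.nd (nat_lit 7018) (Tr.lf (Fc.ed (nat_lit 7017) (nat_lit 2626) Col.g (nat_lit 1251) (Dv.wd (nat_lit 9) [Mv.b (nat_lit 4820), Mv.f (nat_lit 5110), Mv.f (nat_lit 7016)])))
(Tr.lf (Fc.ed (nat_lit 7018) (nat_lit 1486) Col.gi (nat_lit 2627) Dv.df))))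
(Tr.nd (nat_lit 7020) (Tr.lf (Fc.ed (nat_lit 7019) (nat_lit 2311) Col.e (nat_lit 2628) Dv.df))
(Tr.nd (nat_lit 7021) (Tr.lf (Fc.ed (nat_lit 7020) (nat_lit 2628) Col.a (nat_lit 1271) (Dv.wd (nat_lit 15) [Mv.b (nat_lit 3887), Mv.f (nat_lit 6320), Mv.f (nat_lit 7019)])))
(Tr.lf (Fc.ed (nat_lit 7021) (nat_lit 2628) Col.b (nat_lit 2628) (Dv.wd (nat_lit 49) [Mv.b (nat_lit 7019), Mv.f (nat_lit 6322), Mv.f (nat_lit 7019)])))))))))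
(Tr.nd (nat_lit 7042) (Tr.nd (nat_lit 7032) (Tr.nd (nat_lit 7027) (Tr.nd (nat_lit 7024) (Tr.nd (nat_lit 7023) (Tr.lf (Fc.ed (nat_lit 7022) (nat_lit 2628) Col.d (nat_lit 2088) (Dv.wd (nat_lit 59) [Mv.b (nat_lit 5762), Mv.b (nat_lit 4677), Mv.f (nat_lit 4678), Mv.b (nat_lit 6321), Mv.f (nat_lit 7019)])))
(Tr.lf (Fc.ed (nat_lit 7023) (nat_lit 908) Col.e (nat_lit 2629) Dv.df)))
(Tr.nd (nat_lit 7025) (Tr.lf (Fc.ed (nat_lit 7024) (nat_lit 2629) Col.c (nat_lit 2150) (Dv.wd (nat_lit 18) [Mv.b (nat_lit 5961), Mv.f (nat_lit 2884), Mv.f (nat_lit 7023)])))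
(Tr.nd (nat_lit 7026) (Tr.lf (Fc.ed (nat_lit 7025) (nat_lit 766) Col.gi (nat_lit 2630) Dv.df))
(Tr.lf (Fc.ed (nat_lit 7026) (nat_lit 2630) Col.gi (nat_lit 1473) (Dv.wd (nat_lit 24) [Mv.b (nat_lit 4717), Mv.b (nat_lit 4715), Mv.f (nat_lit 7025)]))))))
(Tr.nd (nat_lit 7029) (Tr.nd (nat_lit 7028) (Tr.lf (Fc.ed (nat_lit 7027) (nat_lit 2630) Col.c (nat_lit 2376) (Dv.wd (nat_lit 143) [Mv.b (nat_lit 6464), Mv.f (nat_lit 5560), Mv.b (nat_lit 3120), Mv.b (nat_lit 848), Mv.f (nat_lit 51), Mv.f (nat_lit 451), Mv.b (nat_lit 460), Mv.f (nat_lit 2090), Mv.f (nat_lit 2206), Mv.f (nat_lit 7025)])))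
(Tr.lf (Fc.ed (nat_lit 7028) (nat_lit 1411) Col.a (nat_lit 2631) Dv.df)))
(Tr.nd (nat_lit 7030) (Tr.lf (Fc.ed (nat_lit 7029) (nat_lit 2631) Col.d (nat_lit 1976) (Dv.wd (nat_lit 28) [Mv.b (nat_lit 5532), Mv.f (nat_lit 4732), Mv.f (nat_lit 7028)])))
(Tr.nd (nat_lit 7031) (Tr.lf (Fc.ed (nat_lit 7030) (nat_lit 2631) Col.e (nat_lit 1691) (Dv.wd (nat_lit 56) [Mv.b (nat_lit 4921), Mv.b (nat_lit 4272), Mv.f (nat_lit 7028)])))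
(Tr.lf (Fc.ed (nat_lit 7031) (nat_lit 2631) Col.b (nat_lit 2631) (Dv.wd (nat_lit 65) [Mv.b (nat_lit 7028), Mv.b (nat_lit 4271), Mv.f (nat_lit 2188), Mv.f (nat_lit 4271), Mv.f (nat_lit 7028)])))))))
(Tr.nd (nat_lit 7037) (Tr.nd (nat_lit 7034) (Tr.nd (nat_lit 7033) (Tr.lf (Fc.ed (nat_lit 7032) (nat_lit 1111) Col.a (nat_lit 2632) Dv.df))
(Tr.lf (Fc.ed (nat_lit 7033) (nat_lit 2632) Col.f (nat_lit 1953) (Dv.wd (nat_lit 35) [Mv.b (nat_lit 5480), Mv.f (nat_lit 3935), Mv.f (nat_lit 7032)]))))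
(Tr.nd (nat_lit 7035) (Tr.lf (Fc.ed (nat_lit 7034) (nat_lit 2632) Col.gi (nat_lit 2565) (Dv.wd (nat_lit 12) [Mv.f (nat_lit 6886), Mv.f (nat_lit 3935), Mv.f (nat_lit 7032)])))
(Tr.nd (nat_lit 7036) (Tr.lf (Fc.ed (nat_lit 7035) (nat_lit 1329) Col.gi (nat_lit 2632) (Dv.wd (nat_lit 12) [Mv.f (nat_lit 7034), Mv.b (nat_lit 6953), Mv.b (nat_lit 6952)])))
(Tr.lf (Fc.ed (nat_lit 7036) (nat_lit 1463) Col.d (nat_lit 2633) Dv.df)))))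
(Tr.nd (nat_lit 7039) (Tr.nd (nat_lit 7038) (Tr.lf (Fc.ed (nat_lit 7037) (nat_lit 1422) Col.e (nat_lit 2634) Dv.df))
(Tr.lf (Fc.ed (nat_lit 7038) (nat_lit 1315) Col.gi (nat_lit 2635) Dv.df)))
(Tr.nd (nat_lit 7040) (Tr.lf (Fc.ed (nat_lit 7039) (nat_lit 2635) Col.gi (nat_lit 1910) (Dv.wd (nat_lit 24) [Mv.f (nat_lit 5393), Mv.f (nat_lit 5258), Mv.f (nat_lit 7038)])))
(Tr.nd (nat_lit 7041) (Tr.lf (Fc.ed (nat_lit 7040) (nat_lit 2130) Col.b (nat_lit 2636) Dv.df))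
(Tr.lf (Fc.ed (nat_lit 7041) (nat_lit 2439) Col.c (nat_lit 2637) Dv.df)))))))
(Tr.nd (nat_lit 7052) (Tr.nd (nat_lit 7047) (Tr.nd (nat_lit 7044) (Tr.nd (nat_lit 7043) (Tr.lf (Fc.ed (nat_lit 7042) (nat_lit 2637) Col.gi (nat_lit 1513) (Dv.wd (nat_lit 78) [Mv.b (nat_lit 5877), Mv.b (nat_lit 5497), Mv.b (nat_lit 6545), Mv.b (nat_lit 6647), Mv.b (nat_lit 6377), Mv.f (nat_lit 6440), Mv.b (nat_lit 6622), Mv.b (nat_lit 6621), Mv.f (nat_lit 7041)])))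
(Tr.lf (Fc.ed (nat_lit 7043) (nat_lit 2587) Col.e (nat_lit 2638) Dv.df)))
(Tr.nd (nat_lit 7045) (Tr.lf (Fc.ed (nat_lit 7044) (nat_lit 2638) Col.a (nat_lit 2136) (Dv.wd (nat_lit 15) [Mv.b (nat_lit 6259), Mv.b (nat_lit 6941), Mv.f (nat_lit 7043)])))
(Tr.nd (nat_lit 7046) (Tr.lf (Fc.ed (nat_lit 7045) (nat_lit 2638) Col.b (nat_lit 2529) (Dv.wd (nat_lit 49) [Mv.f (nat_lit 6809), Mv.b (nat_lit 6942), Mv.f (nat_lit 7043)])))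
(Tr.lf (Fc.ed (nat_lit 7046) (nat_lit 2638) Col.f (nat_lit 2044) (Dv.wd (nat_lit 96) [Mv.b (nat_lit 5670), Mv.b (nat_lit 3676), Mv.b (nat_lit 4118), Mv.f (nat_lit 6940), Mv.f (nat_lit 7043)]))))))
(Tr.nd (nat_lit 7049) (Tr.nd (nat_lit 7048) (Tr.lf (Fc.ed (nat_lit 7047) (nat_lit 2346) Col.f (nat_lit 2639) Dv.df))
(Tr.lf (Fc.ed (nat_lit 7048) (nat_lit 2639) Col.a (nat_lit 2023) (Dv.wd (nat_lit 23) [Mv.f (nat_lit 5627), Mv.f (nat_lit 6404), Mv.f (nat_lit 7047)]))))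
(Tr.nd (nat_lit 7050) (Tr.lf (Fc.ed (nat_lit 7049) (nat_lit 2180) Col.a (nat_lit 2640) Dv.df))
(Tr.nd (nat_lit 7051) (Tr.lf (Fc.ed (nat_lit 7050) (nat_lit 2640) Col.d (nat_lit 2640) (Dv.wd (nat_lit 28) [Mv.b (nat_lit 7049), Mv.f (nat_lit 6030), Mv.f (nat_lit 7049)])))
(Tr.lf (Fc.ed (nat_lit 7051) (nat_lit 2640) Col.e (nat_lit 2113) (Dv.wd (nat_lit 56) [Mv.f (nat_lit 5883), Mv.f (nat_lit 6028), Mv.f (nat_lit 7049)])))))))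
(Tr.nd (nat_lit 7057) (Tr.nd (nat_lit 7054) (Tr.nd (nat_lit 7053) (Tr.lf (Fc.ed (nat_lit 7052) (nat_lit 2640) Col.f (nat_lit 2342) (Dv.wd (nat_lit 35) [Mv.b (nat_lit 6392), Mv.b (nat_lit 6031), Mv.f (nat_lit 7049)])))
(Tr.lf (Fc.ed (nat_lit 7053) (nat_lit 2157) Col.f (nat_lit 2641) Dv.df)))
(Tr.nd (nat_lit 7055) (Tr.lf (Fc.ed (nat_lit 7054) (nat_lit 2641) Col.a (nat_lit 2239) (Dv.wd (nat_lit 16) [Mv.b (nat_lit 6346), Mv.b (nat_lit 6345), Mv.f (nat_lit 7053)])))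
(Tr.nd (nat_lit 7056) (Tr.lf (Fc.ed (nat_lit 7055) (nat_lit 1727) Col.a (nat_lit 2642) Dv.df))
(Tr.lf (Fc.ed (nat_lit 7056) (nat_lit 2642) Col.d (nat_lit 1887) (Dv.wd (nat_lit 28) [Mv.f (nat_lit 5350), Mv.f (nat_lit 5011), Mv.f (nat_lit 7055)]))))))
(Tr.nd (nat_lit 7060) (Tr.nd (nat_lit 7058) (Tr.lf (Fc.ed (nat_lit 7057) (nat_lit 2642) Col.e (nat_lit 1555) (Dv.wd (nat_lit 56) [Mv.f (nat_lit 4616), Mv.b (nat_lit 5012), Mv.f (nat_lit 7055)])))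
(Tr.nd (nat_lit 7059) (Tr.lf (Fc.ed (nat_lit 7058) (nat_lit 2383) Col.e (nat_lit 2643) Dv.df))
(Tr.lf (Fc.ed (nat_lit 7059) (nat_lit 2643) Col.c (nat_lit 1699) (Dv.wd (nat_lit 18) [Mv.b (nat_lit 4937), Mv.b (nat_lit 6711), Mv.f (nat_lit 7058)])))))
(Tr.nd (nat_lit 7061) (Tr.lf (Fc.ed (nat_lit 7060) (nat_lit 2519) Col.f (nat_lit 2644) Dv.df))
(Tr.nd (nat_lit 7062) (Tr.lf (Fc.ed (nat_lit 7061) (nat_lit 2644) Col.a (nat_lit 1305) (Dv.wd (nat_lit 16) [Mv.f (nat_lit 3991), Mv.f (nat_lit 6781), Mv.f (nat_lit 7060)])))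
(Tr.lf (Fc.ed (nat_lit 7062) (nat_lit 2644) Col.b (nat_lit 2644) (Dv.wd (nat_lit 66) [Mv.b (nat_lit 7060), Mv.f (nat_lit 6784), Mv.f (nat_lit 7060)])))))))))))
(Tr.nd (nat_lit 7145) (Tr.nd (nat_lit 7104) (Tr.nd (nat_lit 7083) (Tr.nd (nat_lit 7073) (Tr.nd (nat_lit 7068) (Tr.nd (nat_lit 7065) (Tr.nd (nat_lit 7064) (Tr.lf (Fc.ed (nat_lit 7063) (nat_lit 2644) Col.c (nat_lit 2632) (Dv.wd (nat_lit 34) [Mv.f (nat_lit 7033), Mv.b (nat_lit 6782), Mv.f (nat_lit 7060)])))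
(Tr.lf (Fc.ed (nat_lit 7064) (nat_lit 2644) Col.d (nat_lit 2272) (Dv.wd (nat_lit 21) [Mv.b (nat_lit 6227), Mv.b (nat_lit 6783), Mv.f (nat_lit 7060)]))))
(Tr.nd (nat_lit 7066) (Tr.lf (Fc.ed (nat_lit 7065) (nat_lit 2644) Col.e (nat_lit 2644) (Dv.wd (nat_lit 137) [Mv.f (nat_lit 7064), Mv.b (nat_lit 6394), Mv.f (nat_lit 6393), Mv.f (nat_lit 6394), Mv.b (nat_lit 7064)])))
(Tr.nd (nat_lit 7067) (Tr.lf (Fc.ed (nat_lit 7066) (nat_lit 2155) Col.d (nat_lit 2645) Dv.df))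
(Tr.lf (Fc.ed (nat_lit 7067) (nat_lit 2632) Col.b (nat_lit 2646) Dv.df)))))
(Tr.nd (nat_lit 7070) (Tr.nd (nat_lit 7069) (Tr.lf (Fc.ed (nat_lit 7068) (nat_lit 2646) Col.f (nat_lit 1983) (Dv.wd (nat_lit 20) [Mv.f (nat_lit 5549), Mv.b (nat_lit 7033), Mv.f (nat_lit 7067)])))
(Tr.lf (Fc.ed (nat_lit 7069) (nat_lit 2646) Col.a (nat_lit 1768) (Dv.wd (nat_lit 98) [Mv.b (nat_lit 5108), Mv.f (nat_lit 2259), Mv.f (nat_lit 3429), Mv.f (nat_lit 7032), Mv.f (nat_lit 7067)]))))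
(Tr.nd (nat_lit 7071) (Tr.lf (Fc.ed (nat_lit 7070) (nat_lit 1013) Col.b (nat_lit 2647) Dv.df))
(Tr.nd (nat_lit 7072) (Tr.lf (Fc.ed (nat_lit 7071) (nat_lit 1480) Col.c (nat_lit 2648) Dv.df))
(Tr.lf (Fc.ed (nat_lit 7072) (nat_lit 2648) Col.f (nat_lit 2426) (Dv.wd (nat_lit 26) [Mv.f (nat_lit 6561), Mv.b (nat_lit 4460), Mv.f (nat_lit 7071)])))))))
(Tr.nd (nat_lit 7078) (Tr.nd (nat_lit 7075) (Tr.nd (nat_lit 7074) (Tr.lf (Fc.ed (nat_lit 7073) (nat_lit 1368) Col.f (nat_lit 2649) Dv.df))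
(Tr.lf (Fc.ed (nat_lit 7074) (nat_lit 2649) Col.b (nat_lit 2286) (Dv.wd (nat_lit 66) [Mv.b (nat_lit 6258), Mv.f (nat_lit 4884), Mv.f (nat_lit 7073)]))))
(Tr.nd (nat_lit 7076) (Tr.lf (Fc.ed (nat_lit 7075) (nat_lit 2649) Col.d (nat_lit 1418) (Dv.wd (nat_lit 21) [Mv.b (nat_lit 4290), Mv.f (nat_lit 4167), Mv.f (nat_lit 7073)])))
(Tr.nd (nat_lit 7077) (Tr.lf (Fc.ed (nat_lit 7076) (nat_lit 1544) Col.e (nat_lit 2650) Dv.df))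
(Tr.lf (Fc.ed (nat_lit 7077) (nat_lit 2650) Col.a (nat_lit 2174) (Dv.wd (nat_lit 15) [Mv.f (nat_lit 6016), Mv.f (nat_lit 4806), Mv.f (nat_lit 7076)]))))))
(Tr.nd (nat_lit 7080) (Tr.nd (nat_lit 7079) (Tr.lf (Fc.ed (nat_lit 7078) (nat_lit 2650) Col.c (nat_lit 1347) (Dv.wd (nat_lit 18) [Mv.f (nat_lit 4118), Mv.f (nat_lit 4589), Mv.f (nat_lit 7076)])))
(Tr.lf (Fc.ed (nat_lit 7079) (nat_lit 2200) Col.a (nat_lit 2651) Dv.df)))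
(Tr.nd (nat_lit 7081) (Tr.lf (Fc.ed (nat_lit 7080) (nat_lit 2651) Col.b (nat_lit 2651) (Dv.wd (nat_lit 65) [Mv.b (nat_lit 7079), Mv.b (nat_lit 6079), Mv.f (nat_lit 3504), Mv.f (nat_lit 6079), Mv.f (nat_lit 7079)])))
(Tr.nd (nat_lit 7082) (Tr.lf (Fc.ed (nat_lit 7081) (nat_lit 2332) Col.g (nat_lit 2652) Dv.df))
(Tr.lf (Fc.ed (nat_lit 7082) (nat_lit 1297) Col.g (nat_lit 2653) Dv.df)))))))
(Tr.nd (nat_lit 7093) (Tr.nd (nat_lit 7088) (Tr.nd (nat_lit 7085) (Tr.nd (nat_lit 7084) (Tr.lf (Fc.ed (nat_lit 7083) (nat_lit 2086) Col.g (nat_lit 2654) Dv.df))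
(Tr.lf (Fc.ed (nat_lit 7084) (nat_lit 2654) Col.g (nat_lit 1299) (Dv.wd (nat_lit 9) [Mv.f (nat_lit 4845), Mv.f (nat_lit 5759), Mv.f (nat_lit 7083)]))))
(Tr.nd (nat_lit 7086) (Tr.lf (Fc.ed (nat_lit 7085) (nat_lit 2341) Col.b (nat_lit 2655) Dv.df))
(Tr.nd (nat_lit 7087) (Tr.lf (Fc.ed (nat_lit 7086) (nat_lit 2655) Col.c (nat_lit 2451) (Dv.wd (nat_lit 135) [Mv.b (nat_lit 6616), Mv.f (nat_lit 4850), Mv.b (nat_lit 4849), Mv.f (nat_lit 2251), Mv.f (nat_lit 2253), Mv.b (nat_lit 431), Mv.b (nat_lit 1325), Mv.b (nat_lit 4009), Mv.f (nat_lit 6390), Mv.f (nat_lit 7085)])))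
(Tr.lf (Fc.ed (nat_lit 7087) (nat_lit 2470) Col.a (nat_lit 2656) Dv.df)))))
(Tr.nd (nat_lit 7090) (Tr.nd (nat_lit 7089) (Tr.lf (Fc.ed (nat_lit 7088) (nat_lit 2656) Col.f (nat_lit 2250) (Dv.wd (nat_lit 35) [Mv.b (nat_lit 6476), Mv.f (nat_lit 6712), Mv.f (nat_lit 7087)])))
(Tr.lf (Fc.ed (nat_lit 7089) (nat_lit 2656) Col.gi (nat_lit 2509) (Dv.wd (nat_lit 12) [Mv.f (nat_lit 6773), Mv.f (nat_lit 6712), Mv.f (nat_lit 7087)]))))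
(Tr.nd (nat_lit 7091) (Tr.lf (Fc.ed (nat_lit 7090) (nat_lit 1627) Col.gi (nat_lit 2657) Dv.df))
(Tr.nd (nat_lit 7092) (Tr.lf (Fc.ed (nat_lit 7091) (nat_lit 2657) Col.gi (nat_lit 2369) (Dv.wd (nat_lit 24) [Mv.f (nat_lit 6454), Mv.f (nat_lit 4778), Mv.f (nat_lit 7090)])))
(Tr.lf (Fc.ed (nat_lit 7092) (nat_lit 2652) Col.f (nat_lit 2658) Dv.df))))))
(Tr.nd (nat_lit 7098) (Tr.nd (nat_lit 7095) (Tr.nd (nat_lit 7094) (Tr.lf (Fc.ed (nat_lit 7093) (nat_lit 2057) Col.b (nat_lit 2659) Dv.df))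
(Tr.lf (Fc.ed (nat_lit 7094) (nat_lit 2659) Col.g (nat_lit 1773) (Dv.wd (nat_lit 118) [Mv.b (nat_lit 5119), Mv.b (nat_lit 4442), Mv.f (nat_lit 1925), Mv.b (nat_lit 1924), Mv.b (nat_lit 1650), Mv.f (nat_lit 3084), Mv.b (nat_lit 3925), Mv.b (nat_lit 5082), Mv.f (nat_lit 5697), Mv.f (nat_lit 7093)]))))
(Tr.nd (nat_lit 7096) (Tr.lf (Fc.ed (nat_lit 7095) (nat_lit 2656) Col.c (nat_lit 2660) Dv.df))
(Tr.nd (nat_lit 7097) (Tr.lf (Fc.ed (nat_lit 7096) (nat_lit 2660) Col.a (nat_lit 2481) (Dv.wd (nat_lit 19) [Mv.b (nat_lit 6685), Mv.f (nat_lit 7087), Mv.f (nat_lit 7095)])))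
(Tr.lf (Fc.ed (nat_lit 7097) (nat_lit 2660) Col.f (nat_lit 1933) (Dv.wd (nat_lit 26) [Mv.b (nat_lit 6709), Mv.b (nat_lit 7088), Mv.f (nat_lit 7095)]))))))
(Tr.nd (nat_lit 7101) (Tr.nd (nat_lit 7099) (Tr.lf (Fc.ed (nat_lit 7098) (nat_lit 2660) Col.d (nat_lit 1650) (Dv.wd (nat_lit 147) [Mv.b (nat_lit 4825), Mv.b (nat_lit 4225), Mv.f (nat_lit 2455), Mv.b (nat_lit 3811), Mv.b (nat_lit 6711), Mv.f (nat_lit 6475), Mv.f (nat_lit 6712), Mv.f (nat_lit 7087), Mv.f (nat_lit 7095)])))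
(Tr.nd (nat_lit 7100) (Tr.lf (Fc.ed (nat_lit 7099) (nat_lit 2660) Col.g (nat_lit 2185) (Dv.wd (nat_lit 77) [Mv.b (nat_lit 6043), Mv.b (nat_lit 5956), Mv.b (nat_lit 5336), Mv.f (nat_lit 3793), Mv.f (nat_lit 5938), Mv.f (nat_lit 5941), Mv.f (nat_lit 6756), Mv.b (nat_lit 7089), Mv.f (nat_lit 7095)])))
(Tr.lf (Fc.ed (nat_lit 7100) (nat_lit 2025) Col.e (nat_lit 2661) Dv.df))))
(Tr.nd (nat_lit 7102) (Tr.lf (Fc.ed (nat_lit 7101) (nat_lit 2661) Col.a (nat_lit 2522) (Dv.wd (nat_lit 15) [Mv.f (nat_lit 6789), Mv.f (nat_lit 5798), Mv.f (nat_lit 7100)])))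
(Tr.nd (nat_lit 7103) (Tr.lf (Fc.ed (nat_lit 7102) (nat_lit 2661) Col.b (nat_lit 2417) (Dv.wd (nat_lit 49) [Mv.f (nat_lit 6542), Mv.b (nat_lit 6265), Mv.f (nat_lit 7100)])))
(Tr.lf (Fc.ed (nat_lit 7103) (nat_lit 2661) Col.c (nat_lit 1317) (Dv.wd (nat_lit 18) [Mv.f (nat_lit 3994), Mv.f (nat_lit 5631), Mv.f (nat_lit 7100)])))))))))
(Tr.nd (nat_lit 7124) (Tr.nd (nat_lit 7114) (Tr.nd (nat_lit 7109) (Tr.nd (nat_lit 7106) (Tr.nd (nat_lit 7105) (Tr.lf (Fc.ed (nat_lit 7104) (nat_lit 2578) Col.c (nat_lit 2662) Dv.df))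
(Tr.lf (Fc.ed (nat_lit 7105) (nat_lit 2662) Col.b (nat_lit 1967) (Dv.wd (nat_lit 87) [Mv.b (nat_lit 5511), Mv.b (nat_lit 4390), Mv.b (nat_lit 4817), Mv.f (nat_lit 6920), Mv.f (nat_lit 7104)]))))
(Tr.nd (nat_lit 7107) (Tr.lf (Fc.ed (nat_lit 7106) (nat_lit 2587) Col.g (nat_lit 2663) Dv.df))
(Tr.nd (nat_lit 7108) (Tr.lf (Fc.ed (nat_lit 7107) (nat_lit 2663) Col.g (nat_lit 1673) (Dv.wd (nat_lit 9) [Mv.f (nat_lit 4883), Mv.f (nat_lit 6940), Mv.f (nat_lit 7106)])))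
(Tr.lf (Fc.ed (nat_lit 7108) (nat_lit 2530) Col.b (nat_lit 2664) Dv.df)))))
(Tr.nd (nat_lit 7111) (Tr.nd (nat_lit 7110) (Tr.lf (Fc.ed (nat_lit 7109) (nat_lit 2402) Col.e (nat_lit 2665) Dv.df))
(Tr.lf (Fc.ed (nat_lit 7110) (nat_lit 2665) Col.f (nat_lit 1258) (Dv.wd (nat_lit 96) [Mv.b (nat_lit 3857), Mv.f (nat_lit 3031), Mv.b (nat_lit 5169), Mv.f (nat_lit 6508), Mv.f (nat_lit 7109)]))))
(Tr.nd (nat_lit 7112) (Tr.lf (Fc.ed (nat_lit 7111) (nat_lit 1958) Col.g (nat_lit 2666) Dv.df))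
(Tr.nd (nat_lit 7113) (Tr.lf (Fc.ed (nat_lit 7112) (nat_lit 2666) Col.g (nat_lit 1363) (Dv.wd (nat_lit 9) [Mv.b (nat_lit 5650), Mv.f (nat_lit 5651), Mv.f (nat_lit 7111)])))
(Tr.lf (Fc.ed (nat_lit 7113) (nat_lit 1091) Col.f (nat_lit 2667) Dv.df))))))
(Tr.nd (nat_lit 7119) (Tr.nd (nat_lit 7116) (Tr.nd (nat_lit 7115) (Tr.lf (Fc.ed (nat_lit 7114) (nat_lit 2667) Col.a (nat_lit 2099) (Dv.wd (nat_lit 23) [Mv.b (nat_lit 5784), Mv.b (nat_lit 3371), Mv.f (nat_lit 7113)])))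
(Tr.lf (Fc.ed (nat_lit 7115) (nat_lit 1736) Col.a (nat_lit 2668) Dv.df)))
(Tr.nd (nat_lit 7117) (Tr.lf (Fc.ed (nat_lit 7116) (nat_lit 2668) Col.f (nat_lit 1644) (Dv.wd (nat_lit 10) [Mv.f (nat_lit 4810), Mv.f (nat_lit 5032), Mv.f (nat_lit 7115)])))
(Tr.nd (nat_lit 7118) (Tr.lf (Fc.ed (nat_lit 7117) (nat_lit 1839) Col.gi (nat_lit 2669) Dv.df))
(Tr.lf (Fc.ed (nat_lit 7118) (nat_lit 1407) Col.a (nat_lit 2670) Dv.df)))))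
(Tr.nd (nat_lit 7121) (Tr.nd (nat_lit 7120) (Tr.lf (Fc.ed (nat_lit 7119) (nat_lit 2670) Col.d (nat_lit 2405) (Dv.wd (nat_lit 28) [Mv.b (nat_lit 6514), Mv.b (nat_lit 4633), Mv.f (nat_lit 7118)])))
(Tr.lf (Fc.ed (nat_lit 7120) (nat_lit 2670) Col.e (nat_lit 2476) (Dv.wd (nat_lit 56) [Mv.f (nat_lit 6675), Mv.b (nat_lit 4263), Mv.f (nat_lit 7118)]))))
(Tr.nd (nat_lit 7122) (Tr.lf (Fc.ed (nat_lit 7121) (nat_lit 2670) Col.f (nat_lit 2670) (Dv.wd (nat_lit 35) [Mv.b (nat_lit 7118), Mv.f (nat_lit 4264), Mv.f (nat_lit 7118)])))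
(Tr.nd (nat_lit 7123) (Tr.lf (Fc.ed (nat_lit 7122) (nat_lit 2670) Col.gi (nat_lit 2512) (Dv.wd (nat_lit 12) [Mv.b (nat_lit 6762), Mv.f (nat_lit 4264), Mv.f (nat_lit 7118)])))
(Tr.lf (Fc.ed (nat_lit 7123) (nat_lit 1648) Col.f (nat_lit 2671) Dv.df)))))))
(Tr.nd (nat_lit 7134) (Tr.nd (nat_lit 7129) (Tr.nd (nat_lit 7126) (Tr.nd (nat_lit 7125) (Tr.lf (Fc.ed (nat_lit 7124) (nat_lit 2671) Col.a (nat_lit 1766) (Dv.wd (nat_lit 16) [Mv.b (nat_lit 5106), Mv.f (nat_lit 4818), Mv.f (nat_lit 7123)])))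
(Tr.lf (Fc.ed (nat_lit 7125) (nat_lit 2671) Col.d (nat_lit 1901) (Dv.wd (nat_lit 21) [Mv.f (nat_lit 5867), Mv.f (nat_lit 4890), Mv.f (nat_lit 7123)]))))
(Tr.nd (nat_lit 7127) (Tr.lf (Fc.ed (nat_lit 7126) (nat_lit 2671) Col.e (nat_lit 2394) (Dv.wd (nat_lit 22) [Mv.f (nat_lit 6495), Mv.b (nat_lit 6478), Mv.b (nat_lit 5040), Mv.f (nat_lit 5039), Mv.f (nat_lit 7123)])))
(Tr.nd (nat_lit 7128) (Tr.lf (Fc.ed (nat_lit 7127) (nat_lit 1934) Col.a (nat_lit 2672) Dv.df))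
(Tr.lf (Fc.ed (nat_lit 7128) (nat_lit 2672) Col.f (nat_lit 1898) (Dv.wd (nat_lit 35) [Mv.b (nat_lit 5372), Mv.f (nat_lit 5443), Mv.f (nat_lit 7127)]))))))
(Tr.nd (nat_lit 7131) (Tr.nd (nat_lit 7130) (Tr.lf (Fc.ed (nat_lit 7129) (nat_lit 2173) Col.d (nat_lit 2673) Dv.df))
(Tr.lf (Fc.ed (nat_lit 7130) (nat_lit 1156) Col.e (nat_lit 2674) Dv.df)))
(Tr.nd (nat_lit 7132) (Tr.lf (Fc.ed (nat_lit 7131) (nat_lit 2674) Col.b (nat_lit 2629) (Dv.wd (nat_lit 49) [Mv.b (nat_lit 7023), Mv.f (nat_lit 3563), Mv.f (nat_lit 7130)])))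
(Tr.nd (nat_lit 7133) (Tr.lf (Fc.ed (nat_lit 7132) (nat_lit 1692) Col.e (nat_lit 2675) Dv.df))
(Tr.lf (Fc.ed (nat_lit 7133) (nat_lit 2410) Col.gi (nat_lit 2676) Dv.df))))))
(Tr.nd (nat_lit 7139) (Tr.nd (nat_lit 7136) (Tr.nd (nat_lit 7135) (Tr.lf (Fc.ed (nat_lit 7134) (nat_lit 2676) Col.b (nat_lit 2554) (Dv.wd (nat_lit 154) [Mv.b (nat_lit 6867), Mv.f (nat_lit 4191), Mv.f (nat_lit 2648), Mv.b (nat_lit 496), Mv.b (nat_lit 29), Mv.b (nat_lit 2673), Mv.f (nat_lit 2674), Mv.f (nat_lit 4502), Mv.f (nat_lit 6525), Mv.f (nat_lit 7133)])))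
(Tr.lf (Fc.ed (nat_lit 7135) (nat_lit 2245) Col.b (nat_lit 2677) Dv.df)))
(Tr.nd (nat_lit 7137) (Tr.lf (Fc.ed (nat_lit 7136) (nat_lit 2677) Col.d (nat_lit 2606) (Dv.wd (nat_lit 58) [Mv.f (nat_lit 6985), Mv.b (nat_lit 6988), Mv.f (nat_lit 7135)])))
(Tr.nd (nat_lit 7138) (Tr.lf (Fc.ed (nat_lit 7137) (nat_lit 2677) Col.f (nat_lit 1434) (Dv.wd (nat_lit 20) [Mv.f (nat_lit 4332), Mv.f (nat_lit 6160), Mv.f (nat_lit 7135)])))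
(Tr.lf (Fc.ed (nat_lit 7138) (nat_lit 2677) Col.a (nat_lit 2649) (Dv.wd (nat_lit 98) [Mv.f (nat_lit 7074), Mv.b (nat_lit 6941), Mv.f (nat_lit 6942), Mv.b (nat_lit 6790), Mv.f (nat_lit 7135)]))))))
(Tr.nd (nat_lit 7142) (Tr.nd (nat_lit 7140) (Tr.lf (Fc.ed (nat_lit 7139) (nat_lit 2358) Col.g (nat_lit 2677) (Dv.wd (nat_lit 9) [Mv.f (nat_lit 7138), Mv.b (nat_lit 7073), Mv.f (nat_lit 6428)])))
(Tr.nd (nat_lit 7141) (Tr.lf (Fc.ed (nat_lit 7140) (nat_lit 1620) Col.e (nat_lit 2678) Dv.df))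
(Tr.lf (Fc.ed (nat_lit 7141) (nat_lit 2678) Col.a (nat_lit 1619) (Dv.wd (nat_lit 15) [Mv.b (nat_lit 4753), Mv.b (nat_lit 4755), Mv.f (nat_lit 7140)])))))
(Tr.nd (nat_lit 7143) (Tr.lf (Fc.ed (nat_lit 7142) (nat_lit 2330) Col.g (nat_lit 2679) Dv.df))
(Tr.nd (nat_lit 7144) (Tr.lf (Fc.ed (nat_lit 7143) (nat_lit 2679) Col.g (nat_lit 1220) (Dv.wd (nat_lit 9) [Mv.f (nat_lit 6320), Mv.b (nat_lit 6363), Mv.f (nat_lit 7142)])))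
(Tr.lf (Fc.ed (nat_lit 7144) (nat_lit 2519) Col.gi (nat_lit 2680) Dv.df)))))))))
(Tr.nd (nat_lit 7186) (Tr.nd (nat_lit 7165) (Tr.nd (nat_lit 7155) (Tr.nd (nat_lit 7150) (Tr.nd (nat_lit 7147) (Tr.nd (nat_lit 7146) (Tr.lf (Fc.ed (nat_lit 7145) (nat_lit 2680) Col.gi (nat_lit 1305) (Dv.wd (nat_lit 24) [Mv.f (nat_lit 3991), Mv.f (nat_lit 6781), Mv.f (nat_lit 7144)])))
(Tr.lf (Fc.ed (nat_lit 7146) (nat_lit 2073) Col.gi (nat_lit 2681) Dv.df)))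
(Tr.nd (nat_lit 7148) (Tr.lf (Fc.ed (nat_lit 7147) (nat_lit 2681) Col.gi (nat_lit 1095) (Dv.wd (nat_lit 24) [Mv.f (nat_lit 3384), Mv.f (nat_lit 5725), Mv.f (nat_lit 7146)])))
(Tr.nd (nat_lit 7149) (Tr.lf (Fc.ed (nat_lit 7148) (nat_lit 1090) Col.b (nat_lit 2682) Dv.df))
(Tr.lf (Fc.ed (nat_lit 7149) (nat_lit 2682) Col.f (nat_lit 2545) (Dv.wd (nat_lit 20) [Mv.f (nat_lit 6849), Mv.b (nat_lit 3368), Mv.f (nat_lit 7148)]))))))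
(Tr.nd (nat_lit 7152) (Tr.nd (nat_lit 7151) (Tr.lf (Fc.ed (nat_lit 7150) (nat_lit 1595) Col.b (nat_lit 2683) Dv.df))
(Tr.lf (Fc.ed (nat_lit 7151) (nat_lit 2683) Col.f (nat_lit 2271) (Dv.wd (nat_lit 20) [Mv.f (nat_lit 6226), Mv.b (nat_lit 5824), Mv.f (nat_lit 7150)]))))
(Tr.nd (nat_lit 7153) (Tr.lf (Fc.ed (nat_lit 7152) (nat_lit 1495) Col.gi (nat_lit 2684) Dv.df))
(Tr.nd (nat_lit 7154) (Tr.lf (Fc.ed (nat_lit 7153) (nat_lit 2596) Col.b (nat_lit 2685) Dv.df))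
(Tr.lf (Fc.ed (nat_lit 7154) (nat_lit 2685) Col.d (nat_lit 1834) (Dv.wd (nat_lit 58) [Mv.b (nat_lit 5236), Mv.b (nat_lit 6958), Mv.f (nat_lit 7153)])))))))
(Tr.nd (nat_lit 7160) (Tr.nd (nat_lit 7157) (Tr.nd (nat_lit 7156) (Tr.lf (Fc.ed (nat_lit 7155) (nat_lit 2685) Col.f (nat_lit 2536) (Dv.wd (nat_lit 20) [Mv.f (nat_lit 6824), Mv.f (nat_lit 6956), Mv.f (nat_lit 7153)])))
(Tr.lf (Fc.ed (nat_lit 7156) (nat_lit 2685) Col.a (nat_lit 1737) (Dv.wd (nat_lit 98) [Mv.f (nat_lit 5035), Mv.f (nat_lit 3620), Mv.b (nat_lit 4180), Mv.b (nat_lit 6957), Mv.f (nat_lit 7153)]))))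
(Tr.nd (nat_lit 7158) (Tr.lf (Fc.ed (nat_lit 7157) (nat_lit 2293) Col.b (nat_lit 2686) Dv.df))
(Tr.nd (nat_lit 7159) (Tr.lf (Fc.ed (nat_lit 7158) (nat_lit 2686) Col.d (nat_lit 2686) (Dv.wd (nat_lit 58) [Mv.b (nat_lit 7157), Mv.f (nat_lit 6278), Mv.f (nat_lit 7157)])))
(Tr.lf (Fc.ed (nat_lit 7159) (nat_lit 2686) Col.f (nat_lit 1240) (Dv.wd (nat_lit 20) [Mv.f (nat_lit 3815), Mv.b (nat_lit 6276), Mv.f (nat_lit 7157)]))))))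
(Tr.nd (nat_lit 7162) (Tr.nd (nat_lit 7161) (Tr.lf (Fc.ed (nat_lit 7160) (nat_lit 2402) Col.a (nat_lit 2686) (Dv.wd (nat_lit 79) [Mv.f (nat_lit 7159), Mv.f (nat_lit 5167), Mv.f (nat_lit 6508)])))
(Tr.lf (Fc.ed (nat_lit 7161) (nat_lit 2669) Col.gi (nat_lit 2687) Dv.df)))
(Tr.nd (nat_lit 7163) (Tr.lf (Fc.ed (nat_lit 7162) (nat_lit 2391) Col.d (nat_lit 2688) Dv.df))
(Tr.nd (nat_lit 7164) (Tr.lf (Fc.ed (nat_lit 7163) (nat_lit 2688) Col.a (nat_lit 2350) (Dv.wd (nat_lit 8) [Mv.b (nat_lit 6411), Mv.f (nat_lit 6489), Mv.f (nat_lit 7162)])))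
(Tr.lf (Fc.ed (nat_lit 7164) (nat_lit 2688) Col.b (nat_lit 2688) (Dv.wd (nat_lit 37) [Mv.b (nat_lit 7162), Mv.f (nat_lit 6490), Mv.f (nat_lit 7162)]))))))))
(Tr.nd (nat_lit 7175) (Tr.nd (nat_lit 7170) (Tr.nd (nat_lit 7167) (Tr.nd (nat_lit 7166) (Tr.lf (Fc.ed (nat_lit 7165) (nat_lit 1958) Col.e (nat_lit 2688) (Dv.wd (nat_lit 72) [Mv.f (nat_lit 7163), Mv.f (nat_lit 6413), Mv.b (nat_lit 5493)])))
(Tr.lf (Fc.ed (nat_lit 7166) (nat_lit 1446) Col.e (nat_lit 2689) Dv.df)))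
(Tr.nd (nat_lit 7168) (Tr.lf (Fc.ed (nat_lit 7167) (nat_lit 1645) Col.f (nat_lit 2690) Dv.df))
(Tr.nd (nat_lit 7169) (Tr.lf (Fc.ed (nat_lit 7168) (nat_lit 1518) Col.gi (nat_lit 2691) Dv.df))
(Tr.lf (Fc.ed (nat_lit 7169) (nat_lit 2416) Col.f (nat_lit 2692) Dv.df)))))
(Tr.nd (nat_lit 7172) (Tr.nd (nat_lit 7171) (Tr.lf (Fc.ed (nat_lit 7170) (nat_lit 2692) Col.a (nat_lit 2468) (Dv.wd (nat_lit 23) [Mv.f (nat_lit 6656), Mv.f (nat_lit 6539), Mv.f (nat_lit 7169)])))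
(Tr.lf (Fc.ed (nat_lit 7171) (nat_lit 2199) Col.a (nat_lit 2693) Dv.df)))
(Tr.nd (nat_lit 7173) (Tr.lf (Fc.ed (nat_lit 7172) (nat_lit 2693) Col.c (nat_lit 2304) (Dv.wd (nat_lit 33) [Mv.f (nat_lit 6301), Mv.f (nat_lit 6077), Mv.f (nat_lit 7171)])))
(Tr.nd (nat_lit 7174) (Tr.lf (Fc.ed (nat_lit 7173) (nat_lit 2693) Col.f (nat_lit 2318) (Dv.wd (nat_lit 35) [Mv.b (nat_lit 6332), Mv.b (nat_lit 6078), Mv.f (nat_lit 7171)])))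
(Tr.lf (Fc.ed (nat_lit 7174) (nat_lit 2106) Col.f (nat_lit 2694) Dv.df))))))
(Tr.nd (nat_lit 7180) (Tr.nd (nat_lit 7177) (Tr.nd (nat_lit 7176) (Tr.lf (Fc.ed (nat_lit 7175) (nat_lit 2694) Col.a (nat_lit 1664) (Dv.wd (nat_lit 16) [Mv.b (nat_lit 5632), Mv.b (nat_lit 5798), Mv.f (nat_lit 7174)])))
(Tr.lf (Fc.ed (nat_lit 7176) (nat_lit 2694) Col.c (nat_lit 1738) (Dv.wd (nat_lit 34) [Mv.f (nat_lit 5040), Mv.f (nat_lit 5797), Mv.f (nat_lit 7174)]))))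
(Tr.nd (nat_lit 7178) (Tr.lf (Fc.ed (nat_lit 7177) (nat_lit 1529) Col.gi (nat_lit 2695) Dv.df))
(Tr.nd (nat_lit 7179) (Tr.lf (Fc.ed (nat_lit 7178) (nat_lit 2695) Col.gi (nat_lit 1479) (Dv.wd (nat_lit 24) [Mv.f (nat_lit 4457), Mv.f (nat_lit 4559), Mv.f (nat_lit 7177)])))
(Tr.lf (Fc.ed (nat_lit 7179) (nat_lit 1616) Col.f (nat_lit 2696) Dv.df)))))
(Tr.nd (nat_lit 7183) (Tr.nd (nat_lit 7181) (Tr.lf (Fc.ed (nat_lit 7180) (nat_lit 2696) Col.a (nat_lit 2630) (Dv.wd (nat_lit 23) [Mv.f (nat_lit 7026), Mv.f (nat_lit 4748), Mv.f (nat_lit 7179)])))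
(Tr.nd (nat_lit 7182) (Tr.lf (Fc.ed (nat_lit 7181) (nat_lit 2686) Col.g (nat_lit 2697) Dv.df))
(Tr.lf (Fc.ed (nat_lit 7182) (nat_lit 2697) Col.g (nat_lit 1799) (Dv.wd (nat_lit 9) [Mv.b (nat_lit 5167), Mv.b (nat_lit 7159), Mv.f (nat_lit 7181)])))))
(Tr.nd (nat_lit 7184) (Tr.lf (Fc.ed (nat_lit 7183) (nat_lit 1502) Col.a (nat_lit 2698) Dv.df))
(Tr.nd (nat_lit 7185) (Tr.lf (Fc.ed (nat_lit 7184) (nat_lit 2698) Col.f (nat_lit 1515) (Dv.wd (nat_lit 35) [Mv.b (nat_lit 5663), Mv.b (nat_lit 5662), Mv.f (nat_lit 7183)])))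
(Tr.lf (Fc.ed (nat_lit 7185) (nat_lit 2611) Col.f (nat_lit 2699) Dv.df))))))))
(Tr.nd (nat_lit 7207) (Tr.nd (nat_lit 7196) (Tr.nd (nat_lit 7191) (Tr.nd (nat_lit 7188) (Tr.nd (nat_lit 7187) (Tr.lf (Fc.ed (nat_lit 7186) (nat_lit 2699) Col.a (nat_lit 1428) (Dv.wd (nat_lit 16) [Mv.b (nat_lit 4316), Mv.f (nat_lit 6990), Mv.f (nat_lit 7185)])))
(Tr.lf (Fc.ed (nat_lit 7187) (nat_lit 2024) Col.d (nat_lit 2700) Dv.df)))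
(Tr.nd (nat_lit 7189) (Tr.lf (Fc.ed (nat_lit 7188) (nat_lit 2568) Col.b (nat_lit 2701) Dv.df))
(Tr.nd (nat_lit 7190) (Tr.lf (Fc.ed (nat_lit 7189) (nat_lit 2701) Col.c (nat_lit 1997) (Dv.wd (nat_lit 135) [Mv.f (nat_lit 5580), Mv.b (nat_lit 2857), Mv.b (nat_lit 2324), Mv.b (nat_lit 1649), Mv.b (nat_lit 1641), Mv.b (nat_lit 432), Mv.b (nat_lit 886), Mv.f (nat_lit 3482), Mv.f (nat_lit 6891), Mv.f (nat_lit 7188)])))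
(Tr.lf (Fc.ed (nat_lit 7190) (nat_lit 2680) Col.b (nat_lit 2702) Dv.df)))))
(Tr.nd (nat_lit 7193) (Tr.nd (nat_lit 7192) (Tr.lf (Fc.ed (nat_lit 7191) (nat_lit 1395) Col.a (nat_lit 2703) Dv.df))
(Tr.lf (Fc.ed (nat_lit 7192) (nat_lit 2703) Col.f (nat_lit 2263) (Dv.wd (nat_lit 35) [Mv.b (nat_lit 6205), Mv.b (nat_lit 5284), Mv.f (nat_lit 7191)]))))
(Tr.nd (nat_lit 7194) (Tr.lf (Fc.ed (nat_lit 7193) (nat_lit 1204) Col.b (nat_lit 2704) Dv.df))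
(Tr.nd (nat_lit 7195) (Tr.lf (Fc.ed (nat_lit 7194) (nat_lit 2704) Col.d (nat_lit 2177) (Dv.wd (nat_lit 58) [Mv.b (nat_lit 6022), Mv.b (nat_lit 3707), Mv.f (nat_lit 7193)])))
(Tr.lf (Fc.ed (nat_lit 7195) (nat_lit 1972) Col.f (nat_lit 2705) Dv.df))))))
(Tr.nd (nat_lit 7201) (Tr.nd (nat_lit 7198) (Tr.nd (nat_lit 7197) (Tr.lf (Fc.ed (nat_lit 7196) (nat_lit 2705) Col.a (nat_lit 1801) (Dv.wd (nat_lit 16) [Mv.f (nat_lit 6020), Mv.f (nat_lit 6021), Mv.f (nat_lit 7195)])))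
(Tr.lf (Fc.ed (nat_lit 7197) (nat_lit 1795) Col.b (nat_lit 2706) Dv.df)))
(Tr.nd (nat_lit 7199) (Tr.lf (Fc.ed (nat_lit 7198) (nat_lit 2706) Col.d (nat_lit 2241) (Dv.wd (nat_lit 58) [Mv.b (nat_lit 6153), Mv.b (nat_lit 5593), Mv.f (nat_lit 7197)])))
(Tr.nd (nat_lit 7200) (Tr.lf (Fc.ed (nat_lit 7199) (nat_lit 2706) Col.e (nat_lit 2399) (Dv.wd (nat_lit 52) [Mv.b (nat_lit 6503), Mv.f (nat_lit 5827), Mv.f (nat_lit 7197)])))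
(Tr.lf (Fc.ed (nat_lit 7200) (nat_lit 2402) Col.gi (nat_lit 2707) Dv.df)))))
(Tr.nd (nat_lit 7204) (Tr.nd (nat_lit 7202) (Tr.lf (Fc.ed (nat_lit 7201) (nat_lit 2707) Col.gi (nat_lit 1240) (Dv.wd (nat_lit 24) [Mv.b (nat_lit 7159), Mv.b (nat_lit 7160), Mv.f (nat_lit 7200)])))
(Tr.nd (nat_lit 7203) (Tr.lf (Fc.ed (nat_lit 7202) (nat_lit 2458) Col.f (nat_lit 2708) Dv.df))
(Tr.lf (Fc.ed (nat_lit 7203) (nat_lit 2708) Col.d (nat_lit 1188) (Dv.wd (nat_lit 21) [Mv.b (nat_lit 3661), Mv.b (nat_lit 6633), Mv.f (nat_lit 7202)])))))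
(Tr.nd (nat_lit 7205) (Tr.lf (Fc.ed (nat_lit 7204) (nat_lit 1622) Col.a (nat_lit 2709) Dv.df))
(Tr.nd (nat_lit 7206) (Tr.lf (Fc.ed (nat_lit 7205) (nat_lit 2709) Col.e (nat_lit 2709) (Dv.wd (nat_lit 56) [Mv.b (nat_lit 7204), Mv.f (nat_lit 4760), Mv.f (nat_lit 7204)])))
(Tr.lf (Fc.ed (nat_lit 7206) (nat_lit 2709) Col.f (nat_lit 1495) (Dv.wd (nat_lit 35) [Mv.f (nat_lit 4488), Mv.f (nat_lit 4759), Mv.f (nat_lit 7204)]))))))))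
(Tr.nd (nat_lit 7217) (Tr.nd (nat_lit 7212) (Tr.nd (nat_lit 7209) (Tr.nd (nat_lit 7208) (Tr.lf (Fc.ed (nat_lit 7207) (nat_lit 2482) Col.d (nat_lit 2709) (Dv.wd (nat_lit 90) [Mv.f (nat_lit 7206), Mv.f (nat_lit 4516), Mv.f (nat_lit 6686)])))
(Tr.lf (Fc.ed (nat_lit 7208) (nat_lit 1461) Col.g (nat_lit 2710) Dv.df)))
(Tr.nd (nat_lit 7210) (Tr.lf (Fc.ed (nat_lit 7209) (nat_lit 2710) Col.g (nat_lit 1297) (Dv.wd (nat_lit 9) [Mv.b (nat_lit 4616), Mv.f (nat_lit 4617), Mv.f (nat_lit 7208)])))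
(Tr.nd (nat_lit 7211) (Tr.lf (Fc.ed (nat_lit 7210) (nat_lit 2618) Col.a (nat_lit 2711) Dv.df))
(Tr.lf (Fc.ed (nat_lit 7211) (nat_lit 2711) Col.f (nat_lit 2094) (Dv.wd (nat_lit 10) [Mv.b (nat_lit 5772), Mv.f (nat_lit 7001), Mv.f (nat_lit 7210)]))))))
(Tr.nd (nat_lit 7214) (Tr.nd (nat_lit 7213) (Tr.lf (Fc.ed (nat_lit 7212) (nat_lit 1561) Col.gi (nat_lit 2712) Dv.df))
(Tr.lf (Fc.ed (nat_lit 7213) (nat_lit 2712) Col.gi (nat_lit 1447) (Dv.wd (nat_lit 24) [Mv.b (nat_lit 4439), Mv.f (nat_lit 4628), Mv.f (nat_lit 7212)]))))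
(Tr.nd (nat_lit 7215) (Tr.lf (Fc.ed (nat_lit 7214) (nat_lit 2598) Col.g (nat_lit 2713) Dv.df))
(Tr.nd (nat_lit 7216) (Tr.lf (Fc.ed (nat_lit 7215) (nat_lit 2713) Col.g (nat_lit 1438) (Dv.wd (nat_lit 9) [Mv.b (nat_lit 4451), Mv.b (nat_lit 6962), Mv.f (nat_lit 7214)])))
(Tr.lf (Fc.ed (nat_lit 7216) (nat_lit 1437) Col.e (nat_lit 2714) Dv.df))))))
(Tr.nd (nat_lit 7222) (Tr.nd (nat_lit 7219) (Tr.nd (nat_lit 7218) (Tr.lf (Fc.ed (nat_lit 7217) (nat_lit 2714) Col.c (nat_lit 1643) (Dv.wd (nat_lit 18) [Mv.b (nat_lit 4808), Mv.f (nat_lit 4339), Mv.f (nat_lit 7216)])))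
(Tr.lf (Fc.ed (nat_lit 7218) (nat_lit 2709) Col.gi (nat_lit 2715) Dv.df)))
(Tr.nd (nat_lit 7220) (Tr.lf (Fc.ed (nat_lit 7219) (nat_lit 2715) Col.gi (nat_lit 1483) (Dv.wd (nat_lit 24) [Mv.f (nat_lit 4759), Mv.f (nat_lit 7204), Mv.f (nat_lit 7218)])))
(Tr.nd (nat_lit 7221) (Tr.lf (Fc.ed (nat_lit 7220) (nat_lit 1373) Col.g (nat_lit 2716) Dv.df))
(Tr.lf (Fc.ed (nat_lit 7221) (nat_lit 2716) Col.g (nat_lit 2162) (Dv.wd (nat_lit 9) [Mv.b (nat_lit 5988), Mv.f (nat_lit 5623), Mv.f (nat_lit 7220)]))))))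
(Tr.nd (nat_lit 7225) (Tr.nd (nat_lit 7223) (Tr.lf (Fc.ed (nat_lit 7222) (nat_lit 1981) Col.c (nat_lit 2717) Dv.df))
(Tr.nd (nat_lit 7224) (Tr.lf (Fc.ed (nat_lit 7223) (nat_lit 2717) Col.a (nat_lit 2117) (Dv.wd (nat_lit 19) [Mv.b (nat_lit 5890), Mv.f (nat_lit 5543), Mv.f (nat_lit 7222)])))
(Tr.lf (Fc.ed (nat_lit 7224) (nat_lit 931) Col.b (nat_lit 2718) Dv.df))))
(Tr.nd (nat_lit 7226) (Tr.lf (Fc.ed (nat_lit 7225) (nat_lit 1305) Col.gi (nat_lit 2719) Dv.df))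
(Tr.nd (nat_lit 7227) (Tr.lf (Fc.ed (nat_lit 7226) (nat_lit 2719) Col.gi (nat_lit 2519) (Dv.wd (nat_lit 24) [Mv.f (nat_lit 7060), Mv.f (nat_lit 7061), Mv.f (nat_lit 7225)])))
(Tr.lf (Fc.ed (nat_lit 7227) (nat_lit 1417) Col.g (nat_lit 2720) Dv.df))))))))))))
(Tr.nd (nat_lit 7556) (Tr.nd (nat_lit 7392) (Tr.nd (nat_lit 7310) (Tr.nd (nat_lit 7269) (Tr.nd (nat_lit 7248) (Tr.nd (nat_lit 7238) (Tr.nd (nat_lit 7233) (Tr.nd (nat_lit 7230) (Tr.nd (nat_lit 7229) (Tr.lf (Fc.ed (nat_lit 7228) (nat_lit 2720) Col.g (nat_lit 2285) (Dv.wd (nat_lit 9) [Mv.b (nat_lit 6256), Mv.f (nat_lit 4457), Mv.f (nat_lit 7227)])))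
(Tr.lf (Fc.ed (nat_lit 7229) (nat_lit 1927) Col.d (nat_lit 2721) Dv.df)))
(Tr.nd (nat_lit 7231) (Tr.lf (Fc.ed (nat_lit 7230) (nat_lit 2721) Col.a (nat_lit 2547) (Dv.wd (nat_lit 8) [Mv.f (nat_lit 6854), Mv.b (nat_lit 5428), Mv.f (nat_lit 7229)])))
(Tr.nd (nat_lit 7232) (Tr.lf (Fc.ed (nat_lit 7231) (nat_lit 2721) Col.f (nat_lit 1478) (Dv.wd (nat_lit 11) [Mv.f (nat_lit 4454), Mv.b (nat_lit 5430), Mv.f (nat_lit 7229)])))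
(Tr.lf (Fc.ed (nat_lit 7232) (nat_lit 2034) Col.c (nat_lit 2721) (Dv.wd (nat_lit 67) [Mv.f (nat_lit 7231), Mv.b (nat_lit 4564), Mv.f (nat_lit 5645)]))))))
(Tr.nd (nat_lit 7235) (Tr.nd (nat_lit 7234) (Tr.lf (Fc.ed (nat_lit 7233) (nat_lit 2269) Col.e (nat_lit 2722) Dv.df))
(Tr.lf (Fc.ed (nat_lit 7234) (nat_lit 2327) Col.a (nat_lit 2723) Dv.df)))
(Tr.nd (nat_lit 7236) (Tr.lf (Fc.ed (nat_lit 7235) (nat_lit 2723) Col.f (nat_lit 1946) (Dv.wd (nat_lit 10) [Mv.f (nat_lit 5468), Mv.b (nat_lit 6353), Mv.f (nat_lit 7234)])))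
(Tr.nd (nat_lit 7237) (Tr.lf (Fc.ed (nat_lit 7236) (nat_lit 1602) Col.c (nat_lit 2724) Dv.df))
(Tr.lf (Fc.ed (nat_lit 7237) (nat_lit 2724) Col.f (nat_lit 1999) (Dv.wd (nat_lit 26) [Mv.b (nat_lit 5584), Mv.b (nat_lit 4712), Mv.f (nat_lit 7236)])))))))
(Tr.nd (nat_lit 7243) (Tr.nd (nat_lit 7240) (Tr.nd (nat_lit 7239) (Tr.lf (Fc.ed (nat_lit 7238) (nat_lit 1508) Col.a (nat_lit 2725) Dv.df))
(Tr.lf (Fc.ed (nat_lit 7239) (nat_lit 2725) Col.f (nat_lit 1582) (Dv.wd (nat_lit 35) [Mv.f (nat_lit 5025), Mv.f (nat_lit 5026), Mv.f (nat_lit 7238)]))))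
(Tr.nd (nat_lit 7241) (Tr.lf (Fc.ed (nat_lit 7240) (nat_lit 1440) Col.e (nat_lit 2726) Dv.df))
(Tr.nd (nat_lit 7242) (Tr.lf (Fc.ed (nat_lit 7241) (nat_lit 2726) Col.a (nat_lit 2232) (Dv.wd (nat_lit 15) [Mv.f (nat_lit 6139), Mv.f (nat_lit 4601), Mv.f (nat_lit 7240)])))
(Tr.lf (Fc.ed (nat_lit 7242) (nat_lit 2726) Col.c (nat_lit 1448) (Dv.wd (nat_lit 18) [Mv.f (nat_lit 4388), Mv.f (nat_lit 4344), Mv.f (nat_lit 7240)]))))))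
(Tr.nd (nat_lit 7245) (Tr.nd (nat_lit 7244) (Tr.lf (Fc.ed (nat_lit 7243) (nat_lit 2609) Col.g (nat_lit 2727) Dv.df))
(Tr.lf (Fc.ed (nat_lit 7244) (nat_lit 2727) Col.g (nat_lit 1421) (Dv.wd (nat_lit 9) [Mv.f (nat_lit 4296), Mv.b (nat_lit 6986), Mv.f (nat_lit 7243)]))))
(Tr.nd (nat_lit 7246) (Tr.lf (Fc.ed (nat_lit 7245) (nat_lit 1889) Col.gi (nat_lit 2728) Dv.df))
(Tr.nd (nat_lit 7247) (Tr.lf (Fc.ed (nat_lit 7246) (nat_lit 2728) Col.gi (nat_lit 1433) (Dv.wd (nat_lit 24) [Mv.b (nat_lit 5294), Mv.f (nat_lit 5353), Mv.f (nat_lit 7245)])))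
(Tr.lf (Fc.ed (nat_lit 7247) (nat_lit 1501) Col.a (nat_lit 2729) Dv.df)))))))
(Tr.nd (nat_lit 7258) (Tr.nd (nat_lit 7253) (Tr.nd (nat_lit 7250) (Tr.nd (nat_lit 7249) (Tr.lf (Fc.ed (nat_lit 7248) (nat_lit 2729) Col.d (nat_lit 2563) (Dv.wd (nat_lit 28) [Mv.b (nat_lit 6881), Mv.b (nat_lit 5395), Mv.f (nat_lit 7247)])))
(Tr.lf (Fc.ed (nat_lit 7249) (nat_lit 2729) Col.b (nat_lit 2275) (Dv.wd (nat_lit 65) [Mv.f (nat_lit 6235), Mv.f (nat_lit 4959), Mv.f (nat_lit 4488), Mv.f (nat_lit 4500), Mv.f (nat_lit 7247)]))))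
(Tr.nd (nat_lit 7251) (Tr.lf (Fc.ed (nat_lit 7250) (nat_lit 2159) Col.b (nat_lit 2730) Dv.df))
(Tr.nd (nat_lit 7252) (Tr.lf (Fc.ed (nat_lit 7251) (nat_lit 1474) Col.f (nat_lit 2731) Dv.df))
(Tr.lf (Fc.ed (nat_lit 7252) (nat_lit 2731) Col.a (nat_lit 1444) (Dv.wd (nat_lit 23) [Mv.f (nat_lit 4352), Mv.f (nat_lit 4442), Mv.f (nat_lit 7251)]))))))
(Tr.nd (nat_lit 7255) (Tr.nd (nat_lit 7254) (Tr.lf (Fc.ed (nat_lit 7253) (nat_lit 1428) Col.g (nat_lit 2732) Dv.df))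
(Tr.lf (Fc.ed (nat_lit 7254) (nat_lit 2732) Col.g (nat_lit 2611) (Dv.wd (nat_lit 9) [Mv.b (nat_lit 6990), Mv.f (nat_lit 4316), Mv.f (nat_lit 7253)]))))
(Tr.nd (nat_lit 7256) (Tr.lf (Fc.ed (nat_lit 7255) (nat_lit 1432) Col.b (nat_lit 2733) Dv.df))
(Tr.nd (nat_lit 7257) (Tr.lf (Fc.ed (nat_lit 7256) (nat_lit 2733) Col.f (nat_lit 2520) (Dv.wd (nat_lit 20) [Mv.b (nat_lit 6785), Mv.b (nat_lit 4327), Mv.f (nat_lit 7255)])))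
(Tr.lf (Fc.ed (nat_lit 7257) (nat_lit 2719) Col.c (nat_lit 2734) Dv.df))))))
(Tr.nd (nat_lit 7263) (Tr.nd (nat_lit 7260) (Tr.nd (nat_lit 7259) (Tr.lf (Fc.ed (nat_lit 7258) (nat_lit 1503) Col.f (nat_lit 2735) Dv.df))
(Tr.lf (Fc.ed (nat_lit 7259) (nat_lit 2735) Col.a (nat_lit 2735) (Dv.wd (nat_lit 16) [Mv.b (nat_lit 7258), Mv.f (nat_lit 4506), Mv.f (nat_lit 7258)]))))
(Tr.nd (nat_lit 7261) (Tr.lf (Fc.ed (nat_lit 7260) (nat_lit 2735) Col.gi (nat_lit 1014) (Dv.wd (nat_lit 12) [Mv.f (nat_lit 4504), Mv.f (nat_lit 7258), Mv.f (nat_lit 7259)])))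
(Tr.nd (nat_lit 7262) (Tr.lf (Fc.ed (nat_lit 7261) (nat_lit 802) Col.d (nat_lit 2736) Dv.df))
(Tr.lf (Fc.ed (nat_lit 7262) (nat_lit 2736) Col.a (nat_lit 2387) (Dv.wd (nat_lit 8) [Mv.b (nat_lit 6482), Mv.f (nat_lit 3929), Mv.f (nat_lit 7261)]))))))
(Tr.nd (nat_lit 7266) (Tr.nd (nat_lit 7264) (Tr.lf (Fc.ed (nat_lit 7263) (nat_lit 1345) Col.c (nat_lit 2737) Dv.df))
(Tr.nd (nat_lit 7265) (Tr.lf (Fc.ed (nat_lit 7264) (nat_lit 2737) Col.f (nat_lit 2610) (Dv.wd (nat_lit 26) [Mv.b (nat_lit 6989), Mv.b (nat_lit 4112), Mv.f (nat_lit 7263)])))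
(Tr.lf (Fc.ed (nat_lit 7265) (nat_lit 2628) Col.f (nat_lit 2738) Dv.df))))
(Tr.nd (nat_lit 7267) (Tr.lf (Fc.ed (nat_lit 7266) (nat_lit 2738) Col.a (nat_lit 2408) (Dv.wd (nat_lit 16) [Mv.b (nat_lit 6519), Mv.b (nat_lit 7020), Mv.f (nat_lit 7265)])))
(Tr.nd (nat_lit 7268) (Tr.lf (Fc.ed (nat_lit 7267) (nat_lit 2738) Col.b (nat_lit 2738) (Dv.wd (nat_lit 66) [Mv.b (nat_lit 7265), Mv.f (nat_lit 7021), Mv.f (nat_lit 7265)])))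
(Tr.lf (Fc.ed (nat_lit 7268) (nat_lit 1919) Col.f (nat_lit 2739) Dv.df))))))))
(Tr.nd (nat_lit 7289) (Tr.nd (nat_lit 7279) (Tr.nd (nat_lit 7274) (Tr.nd (nat_lit 7271) (Tr.nd (nat_lit 7270) (Tr.lf (Fc.ed (nat_lit 7269) (nat_lit 1992) Col.a (nat_lit 2740) Dv.df))
(Tr.lf (Fc.ed (nat_lit 7270) (nat_lit 2740) Col.f (nat_lit 1819) (Dv.wd (nat_lit 10) [Mv.b (nat_lit 5206), Mv.b (nat_lit 5569), Mv.f (nat_lit 7269)]))))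
(Tr.nd (nat_lit 7272) (Tr.lf (Fc.ed (nat_lit 7271) (nat_lit 1311) Col.b (nat_lit 2741) Dv.df))
(Tr.nd (nat_lit 7273) (Tr.lf (Fc.ed (nat_lit 7272) (nat_lit 2741) Col.d (nat_lit 2733) (Dv.wd (nat_lit 58) [Mv.b (nat_lit 7255), Mv.b (nat_lit 4326), Mv.f (nat_lit 7271)])))
(Tr.lf (Fc.ed (nat_lit 7273) (nat_lit 2741) Col.f (nat_lit 2219) (Dv.wd (nat_lit 20) [Mv.b (nat_lit 6115), Mv.f (nat_lit 3980), Mv.f (nat_lit 7271)]))))))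
(Tr.nd (nat_lit 7276) (Tr.nd (nat_lit 7275) (Tr.lf (Fc.ed (nat_lit 7274) (nat_lit 2435) Col.e (nat_lit 2741) (Dv.wd (nat_lit 57) [Mv.f (nat_lit 7273), Mv.f (nat_lit 6116), Mv.f (nat_lit 5002), Mv.f (nat_lit 5952), Mv.f (nat_lit 6582)])))
(Tr.lf (Fc.ed (nat_lit 7275) (nat_lit 1792) Col.b (nat_lit 2742) Dv.df)))
(Tr.nd (nat_lit 7277) (Tr.lf (Fc.ed (nat_lit 7276) (nat_lit 2735) Col.d (nat_lit 2743) Dv.df))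
(Tr.nd (nat_lit 7278) (Tr.lf (Fc.ed (nat_lit 7277) (nat_lit 2743) Col.e (nat_lit 2471) (Dv.wd (nat_lit 70) [Mv.b (nat_lit 6663), Mv.b (nat_lit 5072), Mv.f (nat_lit 6906), Mv.f (nat_lit 6907), Mv.b (nat_lit 6354), Mv.f (nat_lit 6908), Mv.b (nat_lit 5618), Mv.b (nat_lit 3177), Mv.b (nat_lit 7260), Mv.f (nat_lit 7276)])))
(Tr.lf (Fc.ed (nat_lit 7278) (nat_lit 1540) Col.c (nat_lit 2744) Dv.df))))))
(Tr.nd (nat_lit 7284) (Tr.nd (nat_lit 7281) (Tr.nd (nat_lit 7280) (Tr.lf (Fc.ed (nat_lit 7279) (nat_lit 2744) Col.a (nat_lit 2744) (Dv.wd (nat_lit 19) [Mv.b (nat_lit 7278), Mv.f (nat_lit 4583), Mv.f (nat_lit 7278)])))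
(Tr.lf (Fc.ed (nat_lit 7280) (nat_lit 2744) Col.e (nat_lit 1287) (Dv.wd (nat_lit 25) [Mv.f (nat_lit 4147), Mv.f (nat_lit 4582), Mv.f (nat_lit 7278)]))))
(Tr.nd (nat_lit 7282) (Tr.lf (Fc.ed (nat_lit 7281) (nat_lit 2300) Col.c (nat_lit 2745) Dv.df))
(Tr.nd (nat_lit 7283) (Tr.lf (Fc.ed (nat_lit 7282) (nat_lit 2745) Col.a (nat_lit 1524) (Dv.wd (nat_lit 19) [Mv.b (nat_lit 4551), Mv.b (nat_lit 6293), Mv.f (nat_lit 7281)])))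
(Tr.lf (Fc.ed (nat_lit 7283) (nat_lit 2745) Col.f (nat_lit 2487) (Dv.wd (nat_lit 26) [Mv.f (nat_lit 6697), Mv.f (nat_lit 6292), Mv.f (nat_lit 7281)]))))))
(Tr.nd (nat_lit 7286) (Tr.nd (nat_lit 7285) (Tr.lf (Fc.ed (nat_lit 7284) (nat_lit 2686) Col.e (nat_lit 2746) Dv.df))
(Tr.lf (Fc.ed (nat_lit 7285) (nat_lit 2746) Col.a (nat_lit 2665) (Dv.wd (nat_lit 15) [Mv.b (nat_lit 7109), Mv.f (nat_lit 7160), Mv.f (nat_lit 7284)]))))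
(Tr.nd (nat_lit 7287) (Tr.lf (Fc.ed (nat_lit 7286) (nat_lit 2746) Col.b (nat_lit 2236) (Dv.wd (nat_lit 49) [Mv.f (nat_lit 6275), Mv.f (nat_lit 7157), Mv.f (nat_lit 7284)])))
(Tr.nd (nat_lit 7288) (Tr.lf (Fc.ed (nat_lit 7287) (nat_lit 2746) Col.f (nat_lit 1476) (Dv.wd (nat_lit 96) [Mv.b (nat_lit 4446), Mv.b (nat_lit 2930), Mv.f (nat_lit 3814), Mv.b (nat_lit 7159), Mv.f (nat_lit 7284)])))
(Tr.lf (Fc.ed (nat_lit 7288) (nat_lit 2234) Col.f (nat_lit 2747) Dv.df)))))))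
(Tr.nd (nat_lit 7299) (Tr.nd (nat_lit 7294) (Tr.nd (nat_lit 7291) (Tr.nd (nat_lit 7290) (Tr.lf (Fc.ed (nat_lit 7289) (nat_lit 2747) Col.a (nat_lit 1670) (Dv.wd (nat_lit 16) [Mv.b (nat_lit 4876), Mv.f (nat_lit 6141), Mv.f (nat_lit 7288)])))
(Tr.lf (Fc.ed (nat_lit 7290) (nat_lit 1518) Col.g (nat_lit 2748) Dv.df)))
(Tr.nd (nat_lit 7292) (Tr.lf (Fc.ed (nat_lit 7291) (nat_lit 2748) Col.g (nat_lit 1485) (Dv.wd (nat_lit 9) [Mv.f (nat_lit 4535), Mv.f (nat_lit 4537), Mv.f (nat_lit 7290)])))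
(Tr.nd (nat_lit 7293) (Tr.lf (Fc.ed (nat_lit 7292) (nat_lit 1380) Col.a (nat_lit 2749) Dv.df))
(Tr.lf (Fc.ed (nat_lit 7293) (nat_lit 2749) Col.gi (nat_lit 2561) (Dv.wd (nat_lit 12) [Mv.b (nat_lit 6878), Mv.f (nat_lit 4274), Mv.f (nat_lit 7292)]))))))
(Tr.nd (nat_lit 7296) (Tr.nd (nat_lit 7295) (Tr.lf (Fc.ed (nat_lit 7294) (nat_lit 1160) Col.e (nat_lit 2750) Dv.df))
(Tr.lf (Fc.ed (nat_lit 7295) (nat_lit 2750) Col.b (nat_lit 2541) (Dv.wd (nat_lit 49) [Mv.f (nat_lit 6840), Mv.b (nat_lit 3576), Mv.f (nat_lit 7294)]))))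
(Tr.nd (nat_lit 7297) (Tr.lf (Fc.ed (nat_lit 7296) (nat_lit 2750) Col.c (nat_lit 2674) (Dv.wd (nat_lit 18) [Mv.b (nat_lit 7130), Mv.f (nat_lit 3577), Mv.f (nat_lit 7294)])))
(Tr.nd (nat_lit 7298) (Tr.lf (Fc.ed (nat_lit 7297) (nat_lit 1434) Col.gi (nat_lit 2751) Dv.df))
(Tr.lf (Fc.ed (nat_lit 7298) (nat_lit 2751) Col.gi (nat_lit 2649) (Dv.wd (nat_lit 24) [Mv.b (nat_lit 7073), Mv.b (nat_lit 4331), Mv.f (nat_lit 7297)])))))))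
(Tr.nd (nat_lit 7304) (Tr.nd (nat_lit 7301) (Tr.nd (nat_lit 7300) (Tr.lf (Fc.ed (nat_lit 7299) (nat_lit 1808) Col.d (nat_lit 2752) Dv.df))
(Tr.lf (Fc.ed (nat_lit 7300) (nat_lit 2752) Col.a (nat_lit 1747) (Dv.wd (nat_lit 8) [Mv.b (nat_lit 5058), Mv.f (nat_lit 5185), Mv.f (nat_lit 7299)]))))
(Tr.nd (nat_lit 7302) (Tr.lf (Fc.ed (nat_lit 7301) (nat_lit 1717) Col.c (nat_lit 2753) Dv.df))
(Tr.nd (nat_lit 7303) (Tr.lf (Fc.ed (nat_lit 7302) (nat_lit 2753) Col.f (nat_lit 1621) (Dv.wd (nat_lit 26) [Mv.b (nat_lit 4757), Mv.b (nat_lit 4992), Mv.f (nat_lit 7301)])))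
(Tr.lf (Fc.ed (nat_lit 7303) (nat_lit 2529) Col.c (nat_lit 2754) Dv.df)))))
(Tr.nd (nat_lit 7307) (Tr.nd (nat_lit 7305) (Tr.lf (Fc.ed (nat_lit 7304) (nat_lit 2754) Col.f (nat_lit 2096) (Dv.wd (nat_lit 26) [Mv.b (nat_lit 5775), Mv.f (nat_lit 6806), Mv.f (nat_lit 7303)])))
(Tr.nd (nat_lit 7306) (Tr.lf (Fc.ed (nat_lit 7305) (nat_lit 1555) Col.gi (nat_lit 2755) Dv.df))
(Tr.lf (Fc.ed (nat_lit 7306) (nat_lit 2755) Col.gi (nat_lit 1162) (Dv.wd (nat_lit 24) [Mv.b (nat_lit 3956), Mv.b (nat_lit 4616), Mv.f (nat_lit 7305)])))))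
(Tr.nd (nat_lit 7308) (Tr.lf (Fc.ed (nat_lit 7307) (nat_lit 1596) Col.f (nat_lit 2756) Dv.df))
(Tr.nd (nat_lit 7309) (Tr.lf (Fc.ed (nat_lit 7308) (nat_lit 2698) Col.c (nat_lit 2757) Dv.df))
(Tr.lf (Fc.ed (nat_lit 7309) (nat_lit 2757) Col.a (nat_lit 2410) (Dv.wd (nat_lit 19) [Mv.b (nat_lit 6525), Mv.f (nat_lit 7183), Mv.f (nat_lit 7308)]))))))))))
(Tr.nd (nat_lit 7351) (Tr.nd (nat_lit 7330) (Tr.nd (nat_lit 7320) (Tr.nd (nat_lit 7315) (Tr.nd (nat_lit 7312) (Tr.nd (nat_lit 7311) (Tr.lf (Fc.ed (nat_lit 7310) (nat_lit 1474) Col.a (nat_lit 2758) Dv.df))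
(Tr.lf (Fc.ed (nat_lit 7311) (nat_lit 2758) Col.f (nat_lit 1444) (Dv.wd (nat_lit 35) [Mv.b (nat_lit 7252), Mv.b (nat_lit 7251), Mv.f (nat_lit 7310)]))))
(Tr.nd (nat_lit 7313) (Tr.lf (Fc.ed (nat_lit 7312) (nat_lit 867) Col.b (nat_lit 2759) Dv.df))
(Tr.nd (nat_lit 7314) (Tr.lf (Fc.ed (nat_lit 7313) (nat_lit 2634) Col.b (nat_lit 2760) Dv.df))
(Tr.lf (Fc.ed (nat_lit 7314) (nat_lit 2760) Col.e (nat_lit 1554) (Dv.wd (nat_lit 52) [Mv.f (nat_lit 4614), Mv.f (nat_lit 7037), Mv.f (nat_lit 7313)]))))))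
(Tr.nd (nat_lit 7317) (Tr.nd (nat_lit 7316) (Tr.lf (Fc.ed (nat_lit 7315) (nat_lit 2393) Col.b (nat_lit 2761) Dv.df))
(Tr.lf (Fc.ed (nat_lit 7316) (nat_lit 2761) Col.f (nat_lit 2333) (Dv.wd (nat_lit 20) [Mv.f (nat_lit 6370), Mv.f (nat_lit 6492), Mv.f (nat_lit 7315)]))))
(Tr.nd (nat_lit 7318) (Tr.lf (Fc.ed (nat_lit 7317) (nat_lit 2435) Col.d (nat_lit 2761) (Dv.wd (nat_lit 90) [Mv.f (nat_lit 7316), Mv.f (nat_lit 6371), Mv.f (nat_lit 6582)])))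
(Tr.nd (nat_lit 7319) (Tr.lf (Fc.ed (nat_lit 7318) (nat_lit 2194) Col.f (nat_lit 2762) Dv.df))
(Tr.lf (Fc.ed (nat_lit 7319) (nat_lit 2762) Col.a (nat_lit 2762) (Dv.wd (nat_lit 16) [Mv.b (nat_lit 7318), Mv.f (nat_lit 6067), Mv.f (nat_lit 7318)])))))))
(Tr.nd (nat_lit 7325) (Tr.nd (nat_lit 7322) (Tr.nd (nat_lit 7321) (Tr.lf (Fc.ed (nat_lit 7320) (nat_lit 2762) Col.b (nat_lit 1602) (Dv.wd (nat_lit 66) [Mv.f (nat_lit 4712), Mv.b (nat_lit 6068), Mv.f (nat_lit 7318)])))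
(Tr.lf (Fc.ed (nat_lit 7321) (nat_lit 1870) Col.a (nat_lit 2763) Dv.df)))
(Tr.nd (nat_lit 7323) (Tr.lf (Fc.ed (nat_lit 7322) (nat_lit 2763) Col.b (nat_lit 2749) (Dv.wd (nat_lit 65) [Mv.b (nat_lit 7292), Mv.b (nat_lit 4195), Mv.f (nat_lit 1373), Mv.f (nat_lit 5315), Mv.f (nat_lit 7321)])))
(Tr.nd (nat_lit 7324) (Tr.lf (Fc.ed (nat_lit 7323) (nat_lit 1843) Col.gi (nat_lit 2764) Dv.df))
(Tr.lf (Fc.ed (nat_lit 7324) (nat_lit 2764) Col.gi (nat_lit 1203) (Dv.wd (nat_lit 24) [Mv.b (nat_lit 3987), Mv.b (nat_lit 5258), Mv.f (nat_lit 7323)]))))))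
(Tr.nd (nat_lit 7327) (Tr.nd (nat_lit 7326) (Tr.lf (Fc.ed (nat_lit 7325) (nat_lit 2107) Col.b (nat_lit 2765) Dv.df))
(Tr.lf (Fc.ed (nat_lit 7326) (nat_lit 2765) Col.c (nat_lit 1293) (Dv.wd (nat_lit 93) [Mv.f (nat_lit 3946), Mv.b (nat_lit 3684), Mv.b (nat_lit 4719), Mv.b (nat_lit 5800), Mv.f (nat_lit 7325)]))))
(Tr.nd (nat_lit 7328) (Tr.lf (Fc.ed (nat_lit 7327) (nat_lit 2714) Col.a (nat_lit 2766) Dv.df))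
(Tr.nd (nat_lit 7329) (Tr.lf (Fc.ed (nat_lit 7328) (nat_lit 2766) Col.c (nat_lit 1689) (Dv.wd (nat_lit 33) [Mv.f (nat_lit 4916), Mv.b (nat_lit 7217), Mv.f (nat_lit 7327)])))
(Tr.lf (Fc.ed (nat_lit 7329) (nat_lit 2766) Col.e (nat_lit 1915) (Dv.wd (nat_lit 56) [Mv.b (nat_lit 5401), Mv.f (nat_lit 7216), Mv.f (nat_lit 7327)]))))))))
(Tr.nd (nat_lit 7340) (Tr.nd (nat_lit 7335) (Tr.nd (nat_lit 7332) (Tr.nd (nat_lit 7331) (Tr.lf (Fc.ed (nat_lit 7330) (nat_lit 1285) Col.g (nat_lit 2767) Dv.df))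
(Tr.lf (Fc.ed (nat_lit 7331) (nat_lit 2767) Col.g (nat_lit 1265) (Dv.wd (nat_lit 9) [Mv.b (nat_lit 4043), Mv.f (nat_lit 4044), Mv.f (nat_lit 7330)]))))
(Tr.nd (nat_lit 7333) (Tr.lf (Fc.ed (nat_lit 7332) (nat_lit 2586) Col.f (nat_lit 2768) Dv.df))
(Tr.nd (nat_lit 7334) (Tr.lf (Fc.ed (nat_lit 7333) (nat_lit 2768) Col.a (nat_lit 2720) (Dv.wd (nat_lit 23) [Mv.b (nat_lit 7227), Mv.b (nat_lit 6939), Mv.f (nat_lit 7332)])))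
(Tr.lf (Fc.ed (nat_lit 7334) (nat_lit 1630) Col.a (nat_lit 2769) Dv.df)))))
(Tr.nd (nat_lit 7337) (Tr.nd (nat_lit 7336) (Tr.lf (Fc.ed (nat_lit 7335) (nat_lit 2769) Col.e (nat_lit 1761) (Dv.wd (nat_lit 56) [Mv.f (nat_lit 5094), Mv.f (nat_lit 4783), Mv.f (nat_lit 7334)])))
(Tr.lf (Fc.ed (nat_lit 7336) (nat_lit 1807) Col.a (nat_lit 2770) Dv.df)))
(Tr.nd (nat_lit 7338) (Tr.lf (Fc.ed (nat_lit 7337) (nat_lit 1157) Col.b (nat_lit 2771) Dv.df))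
(Tr.nd (nat_lit 7339) (Tr.lf (Fc.ed (nat_lit 7338) (nat_lit 2771) Col.c (nat_lit 2742) (Dv.wd (nat_lit 93) [Mv.b (nat_lit 7275), Mv.b (nat_lit 5157), Mv.f (nat_lit 4495), Mv.b (nat_lit 3565), Mv.f (nat_lit 7337)])))
(Tr.lf (Fc.ed (nat_lit 7339) (nat_lit 2750) Col.d (nat_lit 2772) Dv.df))))))
(Tr.nd (nat_lit 7345) (Tr.nd (nat_lit 7342) (Tr.nd (nat_lit 7341) (Tr.lf (Fc.ed (nat_lit 7340) (nat_lit 2772) Col.b (nat_lit 2570) (Dv.wd (nat_lit 37) [Mv.b (nat_lit 6894), Mv.b (nat_lit 7295), Mv.f (nat_lit 7339)])))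
(Tr.lf (Fc.ed (nat_lit 7341) (nat_lit 2772) Col.e (nat_lit 1840) (Dv.wd (nat_lit 42) [Mv.f (nat_lit 5251), Mv.b (nat_lit 4360), Mv.f (nat_lit 3575), Mv.f (nat_lit 7294), Mv.f (nat_lit 7339)]))))
(Tr.nd (nat_lit 7343) (Tr.lf (Fc.ed (nat_lit 7342) (nat_lit 2671) Col.gi (nat_lit 2773) Dv.df))
(Tr.nd (nat_lit 7344) (Tr.lf (Fc.ed (nat_lit 7343) (nat_lit 2773) Col.gi (nat_lit 1159) (Dv.wd (nat_lit 24) [Mv.f (nat_lit 5106), Mv.b (nat_lit 7124), Mv.f (nat_lit 7342)])))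
(Tr.lf (Fc.ed (nat_lit 7344) (nat_lit 2253) Col.f (nat_lit 2774) Dv.df)))))
(Tr.nd (nat_lit 7348) (Tr.nd (nat_lit 7346) (Tr.lf (Fc.ed (nat_lit 7345) (nat_lit 2774) Col.a (nat_lit 2518) (Dv.wd (nat_lit 16) [Mv.f (nat_lit 6780), Mv.b (nat_lit 6178), Mv.f (nat_lit 7344)])))
(Tr.nd (nat_lit 7347) (Tr.lf (Fc.ed (nat_lit 7346) (nat_lit 2774) Col.c (nat_lit 2523) (Dv.wd (nat_lit 34) [Mv.f (nat_lit 6791), Mv.b (nat_lit 6179), Mv.f (nat_lit 7344)])))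
(Tr.lf (Fc.ed (nat_lit 7347) (nat_lit 1559) Col.gi (nat_lit 2775) Dv.df))))
(Tr.nd (nat_lit 7349) (Tr.lf (Fc.ed (nat_lit 7348) (nat_lit 2775) Col.gi (nat_lit 1381) (Dv.wd (nat_lit 24) [Mv.b (nat_lit 4196), Mv.b (nat_lit 4624), Mv.f (nat_lit 7347)])))
(Tr.nd (nat_lit 7350) (Tr.lf (Fc.ed (nat_lit 7349) (nat_lit 2062) Col.a (nat_lit 2776) Dv.df))
(Tr.lf (Fc.ed (nat_lit 7350) (nat_lit 2776) Col.f (nat_lit 2776) (Dv.wd (nat_lit 35) [Mv.b (nat_lit 7349), Mv.f (nat_lit 5706), Mv.f (nat_lit 7349)])))))))))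
(Tr.nd (nat_lit 7371) (Tr.nd (nat_lit 7361) (Tr.nd (nat_lit 7356) (Tr.nd (nat_lit 7353) (Tr.nd (nat_lit 7352) (Tr.lf (Fc.ed (nat_lit 7351) (nat_lit 2672) Col.gi (nat_lit 2777) Dv.df))
(Tr.lf (Fc.ed (nat_lit 7352) (nat_lit 2777) Col.gi (nat_lit 1402) (Dv.wd (nat_lit 24) [Mv.f (nat_lit 5443), Mv.f (nat_lit 7127), Mv.f (nat_lit 7351)]))))
(Tr.nd (nat_lit 7354) (Tr.lf (Fc.ed (nat_lit 7353) (nat_lit 2432) Col.gi (nat_lit 2778) Dv.df))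
(Tr.nd (nat_lit 7355) (Tr.lf (Fc.ed (nat_lit 7354) (nat_lit 2778) Col.gi (nat_lit 1056) (Dv.wd (nat_lit 24) [Mv.b (nat_lit 4434), Mv.b (nat_lit 6573), Mv.f (nat_lit 7353)])))
(Tr.lf (Fc.ed (nat_lit 7355) (nat_lit 1439) Col.e (nat_lit 2779) Dv.df)))))
(Tr.nd (nat_lit 7358) (Tr.nd (nat_lit 7357) (Tr.lf (Fc.ed (nat_lit 7356) (nat_lit 2779) Col.a (nat_lit 2772) (Dv.wd (nat_lit 15) [Mv.f (nat_lit 7341), Mv.f (nat_lit 5250), Mv.f (nat_lit 7355)])))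
(Tr.lf (Fc.ed (nat_lit 7357) (nat_lit 2602) Col.d (nat_lit 2780) Dv.df)))
(Tr.nd (nat_lit 7359) (Tr.lf (Fc.ed (nat_lit 7358) (nat_lit 2780) Col.b (nat_lit 1046) (Dv.wd (nat_lit 37) [Mv.b (nat_lit 3248), Mv.b (nat_lit 6970), Mv.f (nat_lit 7357)])))
(Tr.nd (nat_lit 7360) (Tr.lf (Fc.ed (nat_lit 7359) (nat_lit 1514) Col.g (nat_lit 2781) Dv.df))
(Tr.lf (Fc.ed (nat_lit 7360) (nat_lit 2781) Col.g (nat_lit 1922) (Dv.wd (nat_lit 9) [Mv.f (nat_lit 5416), Mv.f (nat_lit 4527), Mv.f (nat_lit 7359)])))))))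
(Tr.nd (nat_lit 7366) (Tr.nd (nat_lit 7363) (Tr.nd (nat_lit 7362) (Tr.lf (Fc.ed (nat_lit 7361) (nat_lit 2647) Col.f (nat_lit 2782) Dv.df))
(Tr.lf (Fc.ed (nat_lit 7362) (nat_lit 2782) Col.b (nat_lit 1188) (Dv.wd (nat_lit 66) [Mv.b (nat_lit 3661), Mv.f (nat_lit 7070), Mv.f (nat_lit 7361)]))))
(Tr.nd (nat_lit 7364) (Tr.lf (Fc.ed (nat_lit 7363) (nat_lit 1601) Col.b (nat_lit 2783) Dv.df))
(Tr.nd (nat_lit 7365) (Tr.lf (Fc.ed (nat_lit 7364) (nat_lit 2783) Col.d (nat_lit 2783) (Dv.wd (nat_lit 58) [Mv.b (nat_lit 7363), Mv.f (nat_lit 4824), Mv.f (nat_lit 7363)])))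
(Tr.lf (Fc.ed (nat_lit 7365) (nat_lit 2783) Col.e (nat_lit 2762) (Dv.wd (nat_lit 52) [Mv.f (nat_lit 7320), Mv.b (nat_lit 4711), Mv.f (nat_lit 7363)]))))))
(Tr.nd (nat_lit 7368) (Tr.nd (nat_lit 7367) (Tr.lf (Fc.ed (nat_lit 7366) (nat_lit 2783) Col.f (nat_lit 1667) (Dv.wd (nat_lit 20) [Mv.b (nat_lit 4865), Mv.f (nat_lit 4710), Mv.f (nat_lit 7363)])))
(Tr.lf (Fc.ed (nat_lit 7367) (nat_lit 2783) Col.a (nat_lit 2783) (Dv.wd (nat_lit 98) [Mv.b (nat_lit 7363), Mv.b (nat_lit 5111), Mv.f (nat_lit 5112), Mv.f (nat_lit 5111), Mv.f (nat_lit 7363)]))))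
(Tr.nd (nat_lit 7369) (Tr.lf (Fc.ed (nat_lit 7368) (nat_lit 910) Col.c (nat_lit 2784) Dv.df))
(Tr.nd (nat_lit 7370) (Tr.lf (Fc.ed (nat_lit 7369) (nat_lit 2784) Col.f (nat_lit 2349) (Dv.wd (nat_lit 26) [Mv.b (nat_lit 6410), Mv.b (nat_lit 2970), Mv.f (nat_lit 7368)])))
(Tr.lf (Fc.ed (nat_lit 7370) (nat_lit 1816) Col.c (nat_lit 2785) Dv.df)))))))
(Tr.nd (nat_lit 7381) (Tr.nd (nat_lit 7376) (Tr.nd (nat_lit 7373) (Tr.nd (nat_lit 7372) (Tr.lf (Fc.ed (nat_lit 7371) (nat_lit 2785) Col.a (nat_lit 2276) (Dv.wd (nat_lit 19) [Mv.b (nat_lit 6236), Mv.b (nat_lit 5199), Mv.f (nat_lit 7370)])))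
(Tr.lf (Fc.ed (nat_lit 7372) (nat_lit 2785) Col.e (nat_lit 1666) (Dv.wd (nat_lit 25) [Mv.f (nat_lit 4864), Mv.f (nat_lit 5198), Mv.f (nat_lit 7370)]))))
(Tr.nd (nat_lit 7374) (Tr.lf (Fc.ed (nat_lit 7373) (nat_lit 1505) Col.f (nat_lit 2786) Dv.df))
(Tr.nd (nat_lit 7375) (Tr.lf (Fc.ed (nat_lit 7374) (nat_lit 2786) Col.d (nat_lit 2553) (Dv.wd (nat_lit 21) [Mv.f (nat_lit 6866), Mv.f (nat_lit 4509), Mv.f (nat_lit 7373)])))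
(Tr.lf (Fc.ed (nat_lit 7375) (nat_lit 2786) Col.e (nat_lit 2553) (Dv.wd (nat_lit 22) [Mv.f (nat_lit 6866), Mv.b (nat_lit 4265), Mv.f (nat_lit 3026), Mv.b (nat_lit 4510), Mv.f (nat_lit 7373)]))))))
(Tr.nd (nat_lit 7378) (Tr.nd (nat_lit 7377) (Tr.lf (Fc.ed (nat_lit 7376) (nat_lit 2601) Col.a (nat_lit 2787) Dv.df))
(Tr.lf (Fc.ed (nat_lit 7377) (nat_lit 2787) Col.d (nat_lit 2497) (Dv.wd (nat_lit 28) [Mv.f (nat_lit 6730), Mv.f (nat_lit 6968), Mv.f (nat_lit 7376)]))))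
(Tr.nd (nat_lit 7379) (Tr.lf (Fc.ed (nat_lit 7378) (nat_lit 2344) Col.b (nat_lit 2788) Dv.df))
(Tr.nd (nat_lit 7380) (Tr.lf (Fc.ed (nat_lit 7379) (nat_lit 2788) Col.a (nat_lit 1729) (Dv.wd (nat_lit 98) [Mv.b (nat_lit 5014), Mv.f (nat_lit 1151), Mv.f (nat_lit 4417), Mv.f (nat_lit 6397), Mv.f (nat_lit 7378)])))
(Tr.lf (Fc.ed (nat_lit 7380) (nat_lit 2206) Col.g (nat_lit 2788) (Dv.wd (nat_lit 9) [Mv.f (nat_lit 7379), Mv.f (nat_lit 5056), Mv.f (nat_lit 6090)])))))))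
(Tr.nd (nat_lit 7386) (Tr.nd (nat_lit 7383) (Tr.nd (nat_lit 7382) (Tr.lf (Fc.ed (nat_lit 7381) (nat_lit 2581) Col.a (nat_lit 2789) Dv.df))
(Tr.lf (Fc.ed (nat_lit 7382) (nat_lit 2789) Col.c (nat_lit 1581) (Dv.wd (nat_lit 33) [Mv.b (nat_lit 6527), Mv.b (nat_lit 6929), Mv.f (nat_lit 7381)]))))
(Tr.nd (nat_lit 7384) (Tr.lf (Fc.ed (nat_lit 7383) (nat_lit 2650) Col.b (nat_lit 2790) Dv.df))
(Tr.nd (nat_lit 7385) (Tr.lf (Fc.ed (nat_lit 7384) (nat_lit 2790) Col.e (nat_lit 1939) (Dv.wd (nat_lit 52) [Mv.b (nat_lit 5453), Mv.f (nat_lit 7076), Mv.f (nat_lit 7383)])))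
(Tr.lf (Fc.ed (nat_lit 7385) (nat_lit 2790) Col.c (nat_lit 2595) (Dv.wd (nat_lit 93) [Mv.f (nat_lit 6955), Mv.f (nat_lit 6179), Mv.f (nat_lit 4464), Mv.b (nat_lit 7078), Mv.f (nat_lit 7383)]))))))
(Tr.nd (nat_lit 7389) (Tr.nd (nat_lit 7387) (Tr.lf (Fc.ed (nat_lit 7386) (nat_lit 1200) Col.b (nat_lit 2791) Dv.df))
(Tr.nd (nat_lit 7388) (Tr.lf (Fc.ed (nat_lit 7387) (nat_lit 2791) Col.d (nat_lit 2303) (Dv.wd (nat_lit 58) [Mv.b (nat_lit 6297), Mv.f (nat_lit 3693), Mv.f (nat_lit 7386)])))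
(Tr.lf (Fc.ed (nat_lit 7388) (nat_lit 2791) Col.e (nat_lit 2520) (Dv.wd (nat_lit 52) [Mv.b (nat_lit 6785), Mv.b (nat_lit 3696), Mv.f (nat_lit 7386)])))))
(Tr.nd (nat_lit 7390) (Tr.lf (Fc.ed (nat_lit 7389) (nat_lit 2791) Col.f (nat_lit 2399) (Dv.wd (nat_lit 20) [Mv.b (nat_lit 6503), Mv.f (nat_lit 3850), Mv.f (nat_lit 7386)])))
(Tr.nd (nat_lit 7391) (Tr.lf (Fc.ed (nat_lit 7390) (nat_lit 1331) Col.b (nat_lit 2792) Dv.df))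
(Tr.lf (Fc.ed (nat_lit 7391) (nat_lit 2792) Col.d (nat_lit 2363) (Dv.wd (nat_lit 58) [Mv.b (nat_lit 6438), Mv.f (nat_lit 4019), Mv.f (nat_lit 7390)])))))))))))
(Tr.nd (nat_lit 7474) (Tr.nd (nat_lit 7433) (Tr.nd (nat_lit 7412) (Tr.nd (nat_lit 7402) (Tr.nd (nat_lit 7397) (Tr.nd (nat_lit 7394) (Tr.nd (nat_lit 7393) (Tr.lf (Fc.ed (nat_lit 7392) (nat_lit 1522) Col.c (nat_lit 2793) Dv.df))
(Tr.lf (Fc.ed (nat_lit 7393) (nat_lit 1370) Col.g (nat_lit 2794) Dv.df)))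
(Tr.nd (nat_lit 7395) (Tr.lf (Fc.ed (nat_lit 7394) (nat_lit 2794) Col.g (nat_lit 2277) (Dv.wd (nat_lit 9) [Mv.b (nat_lit 6237), Mv.b (nat_lit 4172), Mv.f (nat_lit 7393)])))
(Tr.nd (nat_lit 7396) (Tr.lf (Fc.ed (nat_lit 7395) (nat_lit 2794) Col.a (nat_lit 2491) (Dv.wd (nat_lit 114) [Mv.b (nat_lit 6718), Mv.b (nat_lit 6617), Mv.f (nat_lit 7393)])))
(Tr.lf (Fc.ed (nat_lit 7396) (nat_lit 1848) Col.b (nat_lit 2795) Dv.df)))))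
(Tr.nd (nat_lit 7399) (Tr.nd (nat_lit 7398) (Tr.lf (Fc.ed (nat_lit 7397) (nat_lit 2795) Col.c (nat_lit 2094) (Dv.wd (nat_lit 135) [Mv.b (nat_lit 5772), Mv.b (nat_lit 4433), Mv.b (nat_lit 3880), Mv.b (nat_lit 1095), Mv.b (nat_lit 845), Mv.b (nat_lit 402), Mv.b (nat_lit 588), Mv.f (nat_lit 2164), Mv.f (nat_lit 5267), Mv.f (nat_lit 7396)])))
(Tr.lf (Fc.ed (nat_lit 7398) (nat_lit 2588) Col.e (nat_lit 2796) Dv.df)))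
(Tr.nd (nat_lit 7400) (Tr.lf (Fc.ed (nat_lit 7399) (nat_lit 2796) Col.d (nat_lit 1847) (Dv.wd (nat_lit 59) [Mv.f (nat_lit 5266), Mv.f (nat_lit 3210), Mv.f (nat_lit 5766), Mv.f (nat_lit 6943), Mv.f (nat_lit 7398)])))
(Tr.nd (nat_lit 7401) (Tr.lf (Fc.ed (nat_lit 7400) (nat_lit 1408) Col.g (nat_lit 2797) Dv.df))
(Tr.lf (Fc.ed (nat_lit 7401) (nat_lit 2797) Col.g (nat_lit 2100) (Dv.wd (nat_lit 9) [Mv.f (nat_lit 6865), Mv.f (nat_lit 6866), Mv.f (nat_lit 7400)])))))))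
(Tr.nd (nat_lit 7407) (Tr.nd (nat_lit 7404) (Tr.nd (nat_lit 7403) (Tr.lf (Fc.ed (nat_lit 7402) (nat_lit 2357) Col.b (nat_lit 2798) Dv.df))
(Tr.lf (Fc.ed (nat_lit 7403) (nat_lit 2798) Col.c (nat_lit 2589) (Dv.wd (nat_lit 93) [Mv.f (nat_lit 6945), Mv.b (nat_lit 3592), Mv.f (nat_lit 3999), Mv.f (nat_lit 6427), Mv.f (nat_lit 7402)]))))
(Tr.nd (nat_lit 7405) (Tr.lf (Fc.ed (nat_lit 7404) (nat_lit 1450) Col.f (nat_lit 2799) Dv.df))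
(Tr.nd (nat_lit 7406) (Tr.lf (Fc.ed (nat_lit 7405) (nat_lit 2799) Col.a (nat_lit 1742) (Dv.wd (nat_lit 16) [Mv.f (nat_lit 5600), Mv.f (nat_lit 5601), Mv.f (nat_lit 7404)])))
(Tr.lf (Fc.ed (nat_lit 7406) (nat_lit 2121) Col.gi (nat_lit 2800) Dv.df)))))
(Tr.nd (nat_lit 7409) (Tr.nd (nat_lit 7408) (Tr.lf (Fc.ed (nat_lit 7407) (nat_lit 2800) Col.d (nat_lit 2800) (Dv.wd (nat_lit 89) [Mv.b (nat_lit 7406), Mv.f (nat_lit 5898), Mv.b (nat_lit 5885), Mv.f (nat_lit 4405), Mv.f (nat_lit 1003), Mv.b (nat_lit 4405), Mv.f (nat_lit 5885), Mv.b (nat_lit 5898), Mv.f (nat_lit 7406)])))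
(Tr.lf (Fc.ed (nat_lit 7408) (nat_lit 2709) Col.c (nat_lit 2801) Dv.df)))
(Tr.nd (nat_lit 7410) (Tr.lf (Fc.ed (nat_lit 7409) (nat_lit 2801) Col.a (nat_lit 1663) (Dv.wd (nat_lit 19) [Mv.f (nat_lit 4857), Mv.f (nat_lit 7204), Mv.f (nat_lit 7408)])))
(Tr.nd (nat_lit 7411) (Tr.lf (Fc.ed (nat_lit 7410) (nat_lit 2801) Col.f (nat_lit 1734) (Dv.wd (nat_lit 26) [Mv.f (nat_lit 5029), Mv.b (nat_lit 7206), Mv.f (nat_lit 7408)])))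
(Tr.lf (Fc.ed (nat_lit 7411) (nat_lit 1340) Col.gi (nat_lit 2802) Dv.df)))))))
(Tr.nd (nat_lit 7422) (Tr.nd (nat_lit 7417) (Tr.nd (nat_lit 7414) (Tr.nd (nat_lit 7413) (Tr.lf (Fc.ed (nat_lit 7412) (nat_lit 2802) Col.gi (nat_lit 2507) (Dv.wd (nat_lit 24) [Mv.b (nat_lit 6750), Mv.f (nat_lit 4105), Mv.f (nat_lit 7411)])))
(Tr.lf (Fc.ed (nat_lit 7413) (nat_lit 2802) Col.f (nat_lit 2390) (Dv.wd (nat_lit 13) [Mv.f (nat_lit 6487), Mv.f (nat_lit 6488), Mv.f (nat_lit 7411)]))))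
(Tr.nd (nat_lit 7415) (Tr.lf (Fc.ed (nat_lit 7414) (nat_lit 2802) Col.a (nat_lit 2802) (Dv.wd (nat_lit 79) [Mv.f (nat_lit 7413), Mv.f (nat_lit 6487), Mv.b (nat_lit 7413)])))
(Tr.nd (nat_lit 7416) (Tr.lf (Fc.ed (nat_lit 7415) (nat_lit 2779) Col.c (nat_lit 2803) Dv.df))
(Tr.lf (Fc.ed (nat_lit 7416) (nat_lit 1274) Col.f (nat_lit 2804) Dv.df)))))
(Tr.nd (nat_lit 7419) (Tr.nd (nat_lit 7418) (Tr.lf (Fc.ed (nat_lit 7417) (nat_lit 2804) Col.b (nat_lit 2161) (Dv.wd (nat_lit 66) [Mv.b (nat_lit 5986), Mv.f (nat_lit 4871), Mv.f (nat_lit 7416)])))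
(Tr.lf (Fc.ed (nat_lit 7418) (nat_lit 1838) Col.c (nat_lit 2805) Dv.df)))
(Tr.nd (nat_lit 7420) (Tr.lf (Fc.ed (nat_lit 7419) (nat_lit 2805) Col.e (nat_lit 1792) (Dv.wd (nat_lit 25) [Mv.b (nat_lit 5157), Mv.f (nat_lit 5245), Mv.f (nat_lit 7418)])))
(Tr.nd (nat_lit 7421) (Tr.lf (Fc.ed (nat_lit 7420) (nat_lit 2340) Col.f (nat_lit 2806) Dv.df))
(Tr.lf (Fc.ed (nat_lit 7421) (nat_lit 2806) Col.a (nat_lit 1507) (Dv.wd (nat_lit 23) [Mv.b (nat_lit 4513), Mv.f (nat_lit 6388), Mv.f (nat_lit 7420)])))))))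
(Tr.nd (nat_lit 7427) (Tr.nd (nat_lit 7424) (Tr.nd (nat_lit 7423) (Tr.lf (Fc.ed (nat_lit 7422) (nat_lit 1398) Col.gi (nat_lit 2807) Dv.df))
(Tr.lf (Fc.ed (nat_lit 7423) (nat_lit 2807) Col.gi (nat_lit 1497) (Dv.wd (nat_lit 24) [Mv.b (nat_lit 4490), Mv.f (nat_lit 4296), Mv.f (nat_lit 7422)]))))
(Tr.nd (nat_lit 7425) (Tr.lf (Fc.ed (nat_lit 7424) (nat_lit 1210) Col.b (nat_lit 2808) Dv.df))
(Tr.nd (nat_lit 7426) (Tr.lf (Fc.ed (nat_lit 7425) (nat_lit 2808) Col.f (nat_lit 2615) (Dv.wd (nat_lit 20) [Mv.f (nat_lit 6997), Mv.b (nat_lit 3727), Mv.f (nat_lit 7424)])))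
(Tr.lf (Fc.ed (nat_lit 7426) (nat_lit 2652) Col.d (nat_lit 2809) Dv.df)))))
(Tr.nd (nat_lit 7430) (Tr.nd (nat_lit 7428) (Tr.lf (Fc.ed (nat_lit 7427) (nat_lit 2809) Col.e (nat_lit 2802) (Dv.wd (nat_lit 70) [Mv.b (nat_lit 7411), Mv.b (nat_lit 4046), Mv.b (nat_lit 2431), Mv.f (nat_lit 3751), Mv.f (nat_lit 3757), Mv.b (nat_lit 5439), Mv.b (nat_lit 6665), Mv.b (nat_lit 6664), Mv.f (nat_lit 7081), Mv.f (nat_lit 7426)])))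
(Tr.nd (nat_lit 7429) (Tr.lf (Fc.ed (nat_lit 7428) (nat_lit 2809) Col.a (nat_lit 2809) (Dv.wd (nat_lit 31) [Mv.f (nat_lit 7427), Mv.f (nat_lit 7414), Mv.b (nat_lit 7427)])))
(Tr.lf (Fc.ed (nat_lit 7429) (nat_lit 2652) Col.a (nat_lit 2652) (Dv.wd (nat_lit 54) [Mv.f (nat_lit 7426), Mv.f (nat_lit 7428), Mv.b (nat_lit 7426)])))))
(Tr.nd (nat_lit 7431) (Tr.lf (Fc.ed (nat_lit 7430) (nat_lit 2658) Col.a (nat_lit 2658) (Dv.wd (nat_lit 79) [Mv.b (nat_lit 7092), Mv.f (nat_lit 7429), Mv.f (nat_lit 7092)])))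
(Tr.nd (nat_lit 7432) (Tr.lf (Fc.ed (nat_lit 7431) (nat_lit 2653) Col.a (nat_lit 2810) Dv.df))
(Tr.lf (Fc.ed (nat_lit 7432) (nat_lit 2810) Col.f (nat_lit 2710) (Dv.wd (nat_lit 10) [Mv.f (nat_lit 7209), Mv.f (nat_lit 7082), Mv.f (nat_lit 7431)])))))))))
(Tr.nd (nat_lit 7453) (Tr.nd (nat_lit 7443) (Tr.nd (nat_lit 7438) (Tr.nd (nat_lit 7435) (Tr.nd (nat_lit 7434) (Tr.lf (Fc.ed (nat_lit 7433) (nat_lit 1501) Col.c (nat_lit 2811) Dv.df))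
(Tr.lf (Fc.ed (nat_lit 7434) (nat_lit 2576) Col.a (nat_lit 2812) Dv.df)))
(Tr.nd (nat_lit 7436) (Tr.lf (Fc.ed (nat_lit 7435) (nat_lit 2812) Col.f (nat_lit 2631) (Dv.wd (nat_lit 35) [Mv.b (nat_lit 7028), Mv.f (nat_lit 6914), Mv.f (nat_lit 7434)])))
(Tr.nd (nat_lit 7437) (Tr.lf (Fc.ed (nat_lit 7436) (nat_lit 2533) Col.c (nat_lit 2813) Dv.df))
(Tr.lf (Fc.ed (nat_lit 7437) (nat_lit 2813) Col.f (nat_lit 1614) (Dv.wd (nat_lit 26) [Mv.f (nat_lit 4745), Mv.f (nat_lit 6816), Mv.f (nat_lit 7436)]))))))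
(Tr.nd (nat_lit 7440) (Tr.nd (nat_lit 7439) (Tr.lf (Fc.ed (nat_lit 7438) (nat_lit 2511) Col.b (nat_lit 2813) (Dv.wd (nat_lit 107) [Mv.f (nat_lit 7437), Mv.b (nat_lit 4744), Mv.b (nat_lit 6761)])))
(Tr.lf (Fc.ed (nat_lit 7439) (nat_lit 1279) Col.c (nat_lit 2814) Dv.df)))
(Tr.nd (nat_lit 7441) (Tr.lf (Fc.ed (nat_lit 7440) (nat_lit 2794) Col.b (nat_lit 2815) Dv.df))
(Tr.nd (nat_lit 7442) (Tr.lf (Fc.ed (nat_lit 7441) (nat_lit 2028) Col.g (nat_lit 2816) Dv.df))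
(Tr.lf (Fc.ed (nat_lit 7442) (nat_lit 2816) Col.g (nat_lit 1552) (Dv.wd (nat_lit 9) [Mv.f (nat_lit 4608), Mv.f (nat_lit 5635), Mv.f (nat_lit 7441)])))))))
(Tr.nd (nat_lit 7448) (Tr.nd (nat_lit 7445) (Tr.nd (nat_lit 7444) (Tr.lf (Fc.ed (nat_lit 7443) (nat_lit 1950) Col.c (nat_lit 2817) Dv.df))
(Tr.lf (Fc.ed (nat_lit 7444) (nat_lit 2724) Col.a (nat_lit 2818) Dv.df)))
(Tr.nd (nat_lit 7446) (Tr.lf (Fc.ed (nat_lit 7445) (nat_lit 2818) Col.c (nat_lit 1927) (Dv.wd (nat_lit 33) [Mv.f (nat_lit 5428), Mv.f (nat_lit 7236), Mv.f (nat_lit 7444)])))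
(Tr.nd (nat_lit 7447) (Tr.lf (Fc.ed (nat_lit 7446) (nat_lit 2818) Col.f (nat_lit 2312) (Dv.wd (nat_lit 35) [Mv.f (nat_lit 6324), Mv.b (nat_lit 7237), Mv.f (nat_lit 7444)])))
(Tr.lf (Fc.ed (nat_lit 7447) (nat_lit 1959) Col.f (nat_lit 2819) Dv.df)))))
(Tr.nd (nat_lit 7450) (Tr.nd (nat_lit 7449) (Tr.lf (Fc.ed (nat_lit 7448) (nat_lit 2681) Col.a (nat_lit 2820) Dv.df))
(Tr.lf (Fc.ed (nat_lit 7449) (nat_lit 2820) Col.f (nat_lit 1642) (Dv.wd (nat_lit 10) [Mv.b (nat_lit 4807), Mv.b (nat_lit 7147), Mv.f (nat_lit 7448)]))))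
(Tr.nd (nat_lit 7451) (Tr.lf (Fc.ed (nat_lit 7450) (nat_lit 2444) Col.e (nat_lit 2821) Dv.df))
(Tr.nd (nat_lit 7452) (Tr.lf (Fc.ed (nat_lit 7451) (nat_lit 2821) Col.b (nat_lit 2321) (Dv.wd (nat_lit 49) [Mv.b (nat_lit 6337), Mv.f (nat_lit 6601), Mv.f (nat_lit 7450)])))
(Tr.lf (Fc.ed (nat_lit 7452) (nat_lit 2489) Col.d (nat_lit 2822) Dv.df)))))))
(Tr.nd (nat_lit 7463) (Tr.nd (nat_lit 7458) (Tr.nd (nat_lit 7455) (Tr.nd (nat_lit 7454) (Tr.lf (Fc.ed (nat_lit 7453) (nat_lit 2822) Col.c (nat_lit 2700) (Dv.wd (nat_lit 80) [Mv.b (nat_lit 7187), Mv.b (nat_lit 5628), Mv.f (nat_lit 5509), Mv.b (nat_lit 6544), Mv.f (nat_lit 6545), Mv.f (nat_lit 5760), Mv.f (nat_lit 5761), Mv.b (nat_lit 6705), Mv.f (nat_lit 7452)])))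
(Tr.lf (Fc.ed (nat_lit 7454) (nat_lit 2579) Col.c (nat_lit 2823) Dv.df)))
(Tr.nd (nat_lit 7456) (Tr.lf (Fc.ed (nat_lit 7455) (nat_lit 2823) Col.g (nat_lit 2577) (Dv.wd (nat_lit 145) [Mv.f (nat_lit 6919), Mv.f (nat_lit 6425), Mv.f (nat_lit 5991), Mv.f (nat_lit 5994), Mv.b (nat_lit 5192), Mv.f (nat_lit 5863), Mv.f (nat_lit 6073), Mv.f (nat_lit 6923), Mv.f (nat_lit 7454)])))
(Tr.nd (nat_lit 7457) (Tr.lf (Fc.ed (nat_lit 7456) (nat_lit 1918) Col.c (nat_lit 2824) Dv.df))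
(Tr.lf (Fc.ed (nat_lit 7457) (nat_lit 2824) Col.b (nat_lit 2565) (Dv.wd (nat_lit 101) [Mv.f (nat_lit 6886), Mv.b (nat_lit 3934), Mv.f (nat_lit 2311), Mv.f (nat_lit 1550), Mv.b (nat_lit 1910), Mv.b (nat_lit 1907), Mv.f (nat_lit 2881), Mv.b (nat_lit 2967), Mv.b (nat_lit 5408), Mv.f (nat_lit 7456)]))))))
(Tr.nd (nat_lit 7460) (Tr.nd (nat_lit 7459) (Tr.lf (Fc.ed (nat_lit 7458) (nat_lit 1703) Col.e (nat_lit 2825) Dv.df))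
(Tr.lf (Fc.ed (nat_lit 7459) (nat_lit 2825) Col.a (nat_lit 2750) (Dv.wd (nat_lit 15) [Mv.b (nat_lit 7294), Mv.b (nat_lit 4948), Mv.f (nat_lit 7458)]))))
(Tr.nd (nat_lit 7461) (Tr.lf (Fc.ed (nat_lit 7460) (nat_lit 2825) Col.d (nat_lit 2779) (Dv.wd (nat_lit 59) [Mv.b (nat_lit 7355), Mv.b (nat_lit 4342), Mv.f (nat_lit 4359), Mv.f (nat_lit 4947), Mv.f (nat_lit 7458)])))
(Tr.nd (nat_lit 7462) (Tr.lf (Fc.ed (nat_lit 7461) (nat_lit 1566) Col.b (nat_lit 2826) Dv.df))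
(Tr.lf (Fc.ed (nat_lit 7462) (nat_lit 2826) Col.d (nat_lit 2683) (Dv.wd (nat_lit 58) [Mv.b (nat_lit 7150), Mv.b (nat_lit 5822), Mv.f (nat_lit 7461)])))))))
(Tr.nd (nat_lit 7468) (Tr.nd (nat_lit 7465) (Tr.nd (nat_lit 7464) (Tr.lf (Fc.ed (nat_lit 7463) (nat_lit 2826) Col.f (nat_lit 2122) (Dv.wd (nat_lit 20) [Mv.f (nat_lit 5900), Mv.b (nat_lit 4642), Mv.f (nat_lit 7461)])))
(Tr.lf (Fc.ed (nat_lit 7464) (nat_lit 1806) Col.b (nat_lit 2827) Dv.df)))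
(Tr.nd (nat_lit 7466) (Tr.lf (Fc.ed (nat_lit 7465) (nat_lit 1789) Col.f (nat_lit 2828) Dv.df))
(Tr.nd (nat_lit 7467) (Tr.lf (Fc.ed (nat_lit 7466) (nat_lit 2828) Col.a (nat_lit 2786) (Dv.wd (nat_lit 16) [Mv.b (nat_lit 7373), Mv.f (nat_lit 5153), Mv.f (nat_lit 7465)])))
(Tr.lf (Fc.ed (nat_lit 7467) (nat_lit 2828) Col.d (nat_lit 2100) (Dv.wd (nat_lit 21) [Mv.b (nat_lit 5786), Mv.b (nat_lit 5151), Mv.f (nat_lit 7465)]))))))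
(Tr.nd (nat_lit 7471) (Tr.nd (nat_lit 7469) (Tr.lf (Fc.ed (nat_lit 7468) (nat_lit 2828) Col.e (nat_lit 2100) (Dv.wd (nat_lit 22) [Mv.b (nat_lit 5786), Mv.b (nat_lit 4746), Mv.f (nat_lit 2935), Mv.b (nat_lit 5152), Mv.f (nat_lit 7465)])))
(Tr.nd (nat_lit 7470) (Tr.lf (Fc.ed (nat_lit 7469) (nat_lit 2658) Col.gi (nat_lit 2829) Dv.df))
(Tr.lf (Fc.ed (nat_lit 7470) (nat_lit 2829) Col.gi (nat_lit 2652) (Dv.wd (nat_lit 24) [Mv.f (nat_lit 7092), Mv.f (nat_lit 7430), Mv.f (nat_lit 7469)])))))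
(Tr.nd (nat_lit 7472) (Tr.lf (Fc.ed (nat_lit 7471) (nat_lit 2747) Col.gi (nat_lit 2830) Dv.df))
(Tr.nd (nat_lit 7473) (Tr.lf (Fc.ed (nat_lit 7472) (nat_lit 2830) Col.gi (nat_lit 1387) (Dv.wd (nat_lit 24) [Mv.f (nat_lit 4876), Mv.b (nat_lit 7289), Mv.f (nat_lit 7471)])))
(Tr.lf (Fc.ed (nat_lit 7473) (nat_lit 1258) Col.gi (nat_lit 2831) Dv.df)))))))))
(Tr.nd (nat_lit 7515) (Tr.nd (nat_lit 7494) (Tr.nd (nat_lit 7484) (Tr.nd (nat_lit 7479) (Tr.nd (nat_lit 7476) (Tr.nd (nat_lit 7475) (Tr.lf (Fc.ed (nat_lit 7474) (nat_lit 2831) Col.gi (nat_lit 2746) (Dv.wd (nat_lit 24) [Mv.f (nat_lit 7287), Mv.f (nat_lit 4447), Mv.f (nat_lit 7473)])))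
(Tr.lf (Fc.ed (nat_lit 7475) (nat_lit 1754) Col.a (nat_lit 2832) Dv.df)))
(Tr.nd (nat_lit 7477) (Tr.lf (Fc.ed (nat_lit 7476) (nat_lit 1497) Col.gi (nat_lit 2833) Dv.df))
(Tr.nd (nat_lit 7478) (Tr.lf (Fc.ed (nat_lit 7477) (nat_lit 2833) Col.gi (nat_lit 1398) (Dv.wd (nat_lit 24) [Mv.b (nat_lit 6986), Mv.f (nat_lit 6987), Mv.f (nat_lit 7476)])))
(Tr.lf (Fc.ed (nat_lit 7478) (nat_lit 2339) Col.f (nat_lit 2834) Dv.df)))))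
(Tr.nd (nat_lit 7481) (Tr.nd (nat_lit 7480) (Tr.lf (Fc.ed (nat_lit 7479) (nat_lit 2834) Col.c (nat_lit 2553) (Dv.wd (nat_lit 34) [Mv.f (nat_lit 6866), Mv.b (nat_lit 6386), Mv.f (nat_lit 7478)])))
(Tr.lf (Fc.ed (nat_lit 7480) (nat_lit 2391) Col.gi (nat_lit 2835) Dv.df)))
(Tr.nd (nat_lit 7482) (Tr.lf (Fc.ed (nat_lit 7481) (nat_lit 2835) Col.gi (nat_lit 2438) (Dv.wd (nat_lit 24) [Mv.b (nat_lit 6589), Mv.f (nat_lit 6489), Mv.f (nat_lit 7480)])))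
(Tr.nd (nat_lit 7483) (Tr.lf (Fc.ed (nat_lit 7482) (nat_lit 2620) Col.gi (nat_lit 2836) Dv.df))
(Tr.lf (Fc.ed (nat_lit 7483) (nat_lit 2836) Col.gi (nat_lit 1477) (Dv.wd (nat_lit 24) [Mv.b (nat_lit 6962), Mv.b (nat_lit 7006), Mv.f (nat_lit 7482)])))))))
(Tr.nd (nat_lit 7489) (Tr.nd (nat_lit 7486) (Tr.nd (nat_lit 7485) (Tr.lf (Fc.ed (nat_lit 7484) (nat_lit 2558) Col.d (nat_lit 2837) Dv.df))
(Tr.lf (Fc.ed (nat_lit 7485) (nat_lit 2837) Col.a (nat_lit 1570) (Dv.wd (nat_lit 8) [Mv.b (nat_lit 4651), Mv.f (nat_lit 6871), Mv.f (nat_lit 7484)]))))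
(Tr.nd (nat_lit 7487) (Tr.lf (Fc.ed (nat_lit 7486) (nat_lit 2837) Col.e (nat_lit 2405) (Dv.wd (nat_lit 42) [Mv.b (nat_lit 7119), Mv.f (nat_lit 7120), Mv.b (nat_lit 6676), Mv.b (nat_lit 6872), Mv.f (nat_lit 7484)])))
(Tr.nd (nat_lit 7488) (Tr.lf (Fc.ed (nat_lit 7487) (nat_lit 2482) Col.b (nat_lit 2838) Dv.df))
(Tr.lf (Fc.ed (nat_lit 7488) (nat_lit 2838) Col.f (nat_lit 1699) (Dv.wd (nat_lit 20) [Mv.f (nat_lit 4938), Mv.f (nat_lit 6686), Mv.f (nat_lit 7487)]))))))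
(Tr.nd (nat_lit 7491) (Tr.nd (nat_lit 7490) (Tr.lf (Fc.ed (nat_lit 7489) (nat_lit 2698) Col.g (nat_lit 2839) Dv.df))
(Tr.lf (Fc.ed (nat_lit 7490) (nat_lit 2839) Col.g (nat_lit 2040) (Dv.wd (nat_lit 9) [Mv.f (nat_lit 5663), Mv.b (nat_lit 7184), Mv.f (nat_lit 7489)]))))
(Tr.nd (nat_lit 7492) (Tr.lf (Fc.ed (nat_lit 7491) (nat_lit 1316) Col.g (nat_lit 2840) Dv.df))
(Tr.nd (nat_lit 7493) (Tr.lf (Fc.ed (nat_lit 7492) (nat_lit 2840) Col.g (nat_lit 2644) (Dv.wd (nat_lit 9) [Mv.f (nat_lit 7061), Mv.f (nat_lit 3991), Mv.f (nat_lit 7491)])))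
(Tr.lf (Fc.ed (nat_lit 7493) (nat_lit 1110) Col.b (nat_lit 2841) Dv.df)))))))
(Tr.nd (nat_lit 7504) (Tr.nd (nat_lit 7499) (Tr.nd (nat_lit 7496) (Tr.nd (nat_lit 7495) (Tr.lf (Fc.ed (nat_lit 7494) (nat_lit 2633) Col.a (nat_lit 2842) Dv.df))
(Tr.lf (Fc.ed (nat_lit 7495) (nat_lit 2842) Col.d (nat_lit 2344) (Dv.wd (nat_lit 28) [Mv.b (nat_lit 6397), Mv.f (nat_lit 7036), Mv.f (nat_lit 7494)]))))
(Tr.nd (nat_lit 7497) (Tr.lf (Fc.ed (nat_lit 7496) (nat_lit 1861) Col.e (nat_lit 2843) Dv.df))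
(Tr.nd (nat_lit 7498) (Tr.lf (Fc.ed (nat_lit 7497) (nat_lit 2843) Col.a (nat_lit 2674) (Dv.wd (nat_lit 15) [Mv.b (nat_lit 7130), Mv.b (nat_lit 5296), Mv.f (nat_lit 7496)])))
(Tr.lf (Fc.ed (nat_lit 7498) (nat_lit 2843) Col.c (nat_lit 2825) (Dv.wd (nat_lit 18) [Mv.b (nat_lit 7458), Mv.f (nat_lit 5295), Mv.f (nat_lit 7496)]))))))
(Tr.nd (nat_lit 7501) (Tr.nd (nat_lit 7500) (Tr.lf (Fc.ed (nat_lit 7499) (nat_lit 2759) Col.d (nat_lit 2844) Dv.df))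
(Tr.lf (Fc.ed (nat_lit 7500) (nat_lit 2844) Col.b (nat_lit 925) (Dv.wd (nat_lit 37) [Mv.b (nat_lit 2940), Mv.f (nat_lit 7312), Mv.f (nat_lit 7499)]))))
(Tr.nd (nat_lit 7502) (Tr.lf (Fc.ed (nat_lit 7501) (nat_lit 1774) Col.g (nat_lit 2845) Dv.df))
(Tr.nd (nat_lit 7503) (Tr.lf (Fc.ed (nat_lit 7502) (nat_lit 2845) Col.g (nat_lit 1472) (Dv.wd (nat_lit 9) [Mv.f (nat_lit 4628), Mv.b (nat_lit 5121), Mv.f (nat_lit 7501)])))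
(Tr.lf (Fc.ed (nat_lit 7503) (nat_lit 2563) Col.c (nat_lit 2846) Dv.df))))))
(Tr.nd (nat_lit 7509) (Tr.nd (nat_lit 7506) (Tr.nd (nat_lit 7505) (Tr.lf (Fc.ed (nat_lit 7504) (nat_lit 1788) Col.a (nat_lit 2847) Dv.df))
(Tr.lf (Fc.ed (nat_lit 7505) (nat_lit 2847) Col.f (nat_lit 2047) (Dv.wd (nat_lit 10) [Mv.b (nat_lit 5679), Mv.f (nat_lit 5148), Mv.f (nat_lit 7504)]))))
(Tr.nd (nat_lit 7507) (Tr.lf (Fc.ed (nat_lit 7506) (nat_lit 2702) Col.a (nat_lit 2848) Dv.df))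
(Tr.nd (nat_lit 7508) (Tr.lf (Fc.ed (nat_lit 7507) (nat_lit 1927) Col.gi (nat_lit 2849) Dv.df))
(Tr.lf (Fc.ed (nat_lit 7508) (nat_lit 2829) Col.d (nat_lit 2850) Dv.df)))))
(Tr.nd (nat_lit 7512) (Tr.nd (nat_lit 7510) (Tr.lf (Fc.ed (nat_lit 7509) (nat_lit 2850) Col.e (nat_lit 1960) (Dv.wd (nat_lit 131) [Mv.f (nat_lit 5497), Mv.b (nat_lit 2942), Mv.f (nat_lit 4701), Mv.f (nat_lit 6587), Mv.b (nat_lit 6752), Mv.b (nat_lit 7412), Mv.b (nat_lit 7427), Mv.b (nat_lit 7426), Mv.b (nat_lit 7470), Mv.f (nat_lit 7508)])))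
(Tr.nd (nat_lit 7511) (Tr.lf (Fc.ed (nat_lit 7510) (nat_lit 2829) Col.e (nat_lit 2464) (Dv.wd (nat_lit 42) [Mv.b (nat_lit 6644), Mv.f (nat_lit 6543), Mv.f (nat_lit 6545), Mv.b (nat_lit 7509), Mv.b (nat_lit 7508)])))
(Tr.lf (Fc.ed (nat_lit 7511) (nat_lit 2809) Col.gi (nat_lit 1839) (Dv.wd (nat_lit 163) [Mv.f (nat_lit 5248), Mv.f (nat_lit 1961), Mv.f (nat_lit 1753), Mv.b (nat_lit 1679), Mv.f (nat_lit 5876), Mv.b (nat_lit 5497), Mv.b (nat_lit 7509), Mv.b (nat_lit 7508), Mv.f (nat_lit 7470), Mv.f (nat_lit 7426)])))))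
(Tr.nd (nat_lit 7513) (Tr.lf (Fc.ed (nat_lit 7512) (nat_lit 2669) Col.f (nat_lit 2809) (Dv.wd (nat_lit 13) [Mv.f (nat_lit 7428), Mv.f (nat_lit 7511), Mv.f (nat_lit 7117)])))
(Tr.nd (nat_lit 7514) (Tr.lf (Fc.ed (nat_lit 7513) (nat_lit 2552) Col.e (nat_lit 2652) (Dv.wd (nat_lit 146) [Mv.f (nat_lit 7426), Mv.f (nat_lit 7511), Mv.b (nat_lit 5247), Mv.b (nat_lit 4157), Mv.f (nat_lit 1097), Mv.f (nat_lit 5816), Mv.f (nat_lit 2942), Mv.b (nat_lit 5497), Mv.b (nat_lit 6545), Mv.f (nat_lit 6861)])))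
(Tr.lf (Fc.ed (nat_lit 7514) (nat_lit 2658) Col.e (nat_lit 1415) (Dv.wd (nat_lit 140) [Mv.f (nat_lit 4282), Mv.b (nat_lit 6379), Mv.b (nat_lit 6862), Mv.f (nat_lit 7513), Mv.f (nat_lit 7092)])))))))))
(Tr.nd (nat_lit 7535) (Tr.nd (nat_lit 7525) (Tr.nd (nat_lit 7520) (Tr.nd (nat_lit 7517) (Tr.nd (nat_lit 7516) (Tr.lf (Fc.ed (nat_lit 7515) (nat_lit 2658) Col.d (nat_lit 2669) (Dv.wd (nat_lit 90) [Mv.f (nat_lit 7512), Mv.b (nat_lit 7426), Mv.f (nat_lit 7092)])))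
(Tr.lf (Fc.ed (nat_lit 7516) (nat_lit 2687) Col.d (nat_lit 2091) (Dv.wd (nat_lit 43) [Mv.b (nat_lit 5767), Mv.f (nat_lit 4261), Mv.b (nat_lit 4019), Mv.b (nat_lit 3359), Mv.f (nat_lit 3457), Mv.b (nat_lit 3541), Mv.f (nat_lit 4280), Mv.b (nat_lit 7514), Mv.f (nat_lit 7515), Mv.f (nat_lit 7161)]))))
(Tr.nd (nat_lit 7518) (Tr.lf (Fc.ed (nat_lit 7517) (nat_lit 2072) Col.e (nat_lit 2091) (Dv.wd (nat_lit 47) [Mv.b (nat_lit 7516), Mv.b (nat_lit 7161), Mv.b (nat_lit 7515), Mv.f (nat_lit 7514), Mv.b (nat_lit 4280), Mv.f (nat_lit 3542), Mv.f (nat_lit 3867), Mv.b (nat_lit 4974), Mv.f (nat_lit 5791), Mv.f (nat_lit 6913)])))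
(Tr.nd (nat_lit 7519) (Tr.lf (Fc.ed (nat_lit 7518) (nat_lit 1584) Col.e (nat_lit 2851) Dv.df))
(Tr.lf (Fc.ed (nat_lit 7519) (nat_lit 2851) Col.d (nat_lit 2689) (Dv.wd (nat_lit 59) [Mv.b (nat_lit 7166), Mv.f (nat_lit 4356), Mv.f (nat_lit 4768), Mv.f (nat_lit 4954), Mv.f (nat_lit 7518)]))))))
(Tr.nd (nat_lit 7522) (Tr.nd (nat_lit 7521) (Tr.lf (Fc.ed (nat_lit 7520) (nat_lit 1750) Col.f (nat_lit 2852) Dv.df))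
(Tr.lf (Fc.ed (nat_lit 7521) (nat_lit 1627) Col.b (nat_lit 2853) Dv.df)))
(Tr.nd (nat_lit 7523) (Tr.lf (Fc.ed (nat_lit 7522) (nat_lit 2853) Col.e (nat_lit 2535) (Dv.wd (nat_lit 52) [Mv.b (nat_lit 6820), Mv.b (nat_lit 4779), Mv.f (nat_lit 7521)])))
(Tr.nd (nat_lit 7524) (Tr.lf (Fc.ed (nat_lit 7523) (nat_lit 2837) Col.f (nat_lit 2854) Dv.df))
(Tr.lf (Fc.ed (nat_lit 7524) (nat_lit 2854) Col.a (nat_lit 1590) (Dv.wd (nat_lit 16) [Mv.f (nat_lit 4695), Mv.b (nat_lit 7485), Mv.f (nat_lit 7523)])))))))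
(Tr.nd (nat_lit 7530) (Tr.nd (nat_lit 7527) (Tr.nd (nat_lit 7526) (Tr.lf (Fc.ed (nat_lit 7525) (nat_lit 2769) Col.b (nat_lit 2855) Dv.df))
(Tr.lf (Fc.ed (nat_lit 7526) (nat_lit 2855) Col.e (nat_lit 1230) (Dv.wd (nat_lit 52) [Mv.b (nat_lit 5095), Mv.b (nat_lit 7335), Mv.f (nat_lit 7525)]))))
(Tr.nd (nat_lit 7528) (Tr.lf (Fc.ed (nat_lit 7527) (nat_lit 2855) Col.a (nat_lit 2068) (Dv.wd (nat_lit 98) [Mv.f (nat_lit 5717), Mv.b (nat_lit 4747), Mv.b (nat_lit 4784), Mv.f (nat_lit 7334), Mv.f (nat_lit 7525)])))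
(Tr.nd (nat_lit 7529) (Tr.lf (Fc.ed (nat_lit 7528) (nat_lit 2060) Col.g (nat_lit 2856) Dv.df))
(Tr.lf (Fc.ed (nat_lit 7529) (nat_lit 2856) Col.g (nat_lit 1534) (Dv.wd (nat_lit 9) [Mv.f (nat_lit 4572), Mv.f (nat_lit 5702), Mv.f (nat_lit 7528)]))))))
(Tr.nd (nat_lit 7532) (Tr.nd (nat_lit 7531) (Tr.lf (Fc.ed (nat_lit 7530) (nat_lit 2611) Col.g (nat_lit 2857) Dv.df))
(Tr.lf (Fc.ed (nat_lit 7531) (nat_lit 2857) Col.g (nat_lit 1428) (Dv.wd (nat_lit 9) [Mv.b (nat_lit 7186), Mv.b (nat_lit 7185), Mv.f (nat_lit 7530)]))))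
(Tr.nd (nat_lit 7533) (Tr.lf (Fc.ed (nat_lit 7532) (nat_lit 2538) Col.gi (nat_lit 2858) Dv.df))
(Tr.nd (nat_lit 7534) (Tr.lf (Fc.ed (nat_lit 7533) (nat_lit 2858) Col.gi (nat_lit 1328) (Dv.wd (nat_lit 24) [Mv.f (nat_lit 5635), Mv.b (nat_lit 6828), Mv.f (nat_lit 7532)])))
(Tr.lf (Fc.ed (nat_lit 7534) (nat_lit 1911) Col.f (nat_lit 2859) Dv.df)))))))
(Tr.nd (nat_lit 7545) (Tr.nd (nat_lit 7540) (Tr.nd (nat_lit 7537) (Tr.nd (nat_lit 7536) (Tr.lf (Fc.ed (nat_lit 7535) (nat_lit 2859) Col.a (nat_lit 2043) (Dv.wd (nat_lit 23) [Mv.f (nat_lit 5868), Mv.f (nat_lit 5870), Mv.f (nat_lit 7534)])))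
(Tr.lf (Fc.ed (nat_lit 7536) (nat_lit 2811) Col.a (nat_lit 2860) Dv.df)))
(Tr.nd (nat_lit 7538) (Tr.lf (Fc.ed (nat_lit 7537) (nat_lit 1600) Col.b (nat_lit 2861) Dv.df))
(Tr.nd (nat_lit 7539) (Tr.lf (Fc.ed (nat_lit 7538) (nat_lit 2861) Col.e (nat_lit 2602) (Dv.wd (nat_lit 52) [Mv.f (nat_lit 6970), Mv.b (nat_lit 4709), Mv.f (nat_lit 7537)])))
(Tr.lf (Fc.ed (nat_lit 7539) (nat_lit 2598) Col.gi (nat_lit 2862) Dv.df)))))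
(Tr.nd (nat_lit 7542) (Tr.nd (nat_lit 7541) (Tr.lf (Fc.ed (nat_lit 7540) (nat_lit 2862) Col.gi (nat_lit 1438) (Dv.wd (nat_lit 24) [Mv.b (nat_lit 7007), Mv.f (nat_lit 7006), Mv.f (nat_lit 7539)])))
(Tr.lf (Fc.ed (nat_lit 7541) (nat_lit 1077) Col.b (nat_lit 2863) Dv.df)))
(Tr.nd (nat_lit 7543) (Tr.lf (Fc.ed (nat_lit 7542) (nat_lit 2863) Col.f (nat_lit 2844) (Dv.wd (nat_lit 20) [Mv.f (nat_lit 7500), Mv.b (nat_lit 3329), Mv.f (nat_lit 7541)])))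
(Tr.nd (nat_lit 7544) (Tr.lf (Fc.ed (nat_lit 7543) (nat_lit 1479) Col.gi (nat_lit 2864) Dv.df))
(Tr.lf (Fc.ed (nat_lit 7544) (nat_lit 2864) Col.gi (nat_lit 1529) (Dv.wd (nat_lit 24) [Mv.b (nat_lit 6257), Mv.b (nat_lit 6256), Mv.f (nat_lit 7543)])))))))
(Tr.nd (nat_lit 7550) (Tr.nd (nat_lit 7547) (Tr.nd (nat_lit 7546) (Tr.lf (Fc.ed (nat_lit 7545) (nat_lit 1044) Col.gi (nat_lit 2865) Dv.df))
(Tr.lf (Fc.ed (nat_lit 7546) (nat_lit 2865) Col.gi (nat_lit 2038) (Dv.wd (nat_lit 24) [Mv.f (nat_lit 5658), Mv.b (nat_lit 5463), Mv.f (nat_lit 7545)]))))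
(Tr.nd (nat_lit 7548) (Tr.lf (Fc.ed (nat_lit 7547) (nat_lit 2367) Col.d (nat_lit 2866) Dv.df))
(Tr.nd (nat_lit 7549) (Tr.lf (Fc.ed (nat_lit 7548) (nat_lit 2866) Col.b (nat_lit 962) (Dv.wd (nat_lit 37) [Mv.f (nat_lit 3035), Mv.f (nat_lit 6448), Mv.f (nat_lit 7547)])))
(Tr.lf (Fc.ed (nat_lit 7549) (nat_lit 2866) Col.f (nat_lit 2461) (Dv.wd (nat_lit 11) [Mv.b (nat_lit 6639), Mv.b (nat_lit 6460), Mv.f (nat_lit 7547)]))))))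
(Tr.nd (nat_lit 7553) (Tr.nd (nat_lit 7551) (Tr.lf (Fc.ed (nat_lit 7550) (nat_lit 2542) Col.e (nat_lit 2867) Dv.df))
(Tr.nd (nat_lit 7552) (Tr.lf (Fc.ed (nat_lit 7551) (nat_lit 2867) Col.b (nat_lit 1404) (Dv.wd (nat_lit 49) [Mv.b (nat_lit 5874), Mv.b (nat_lit 6842), Mv.f (nat_lit 7550)])))
(Tr.lf (Fc.ed (nat_lit 7552) (nat_lit 2609) Col.gi (nat_lit 2868) Dv.df))))
(Tr.nd (nat_lit 7554) (Tr.lf (Fc.ed (nat_lit 7553) (nat_lit 2868) Col.gi (nat_lit 1421) (Dv.wd (nat_lit 24) [Mv.f (nat_lit 4490), Mv.b (nat_lit 6987), Mv.f (nat_lit 7552)])))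
(Tr.nd (nat_lit 7555) (Tr.lf (Fc.ed (nat_lit 7554) (nat_lit 2602) Col.f (nat_lit 2869) Dv.df))
(Tr.lf (Fc.ed (nat_lit 7555) (nat_lit 2869) Col.b (nat_lit 1008) (Dv.wd (nat_lit 66) [Mv.b (nat_lit 3218), Mv.b (nat_lit 6970), Mv.f (nat_lit 7554)]))))))))))))
(Tr.nd (nat_lit 7720) (Tr.nd (nat_lit 7638) (Tr.nd (nat_lit 7597) (Tr.nd (nat_lit 7576) (Tr.nd (nat_lit 7566) (Tr.nd (nat_lit 7561) (Tr.nd (nat_lit 7558) (Tr.nd (nat_lit 7557) (Tr.lf (Fc.ed (nat_lit 7556) (nat_lit 2792) Col.e (nat_lit 2870) Dv.df))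
(Tr.lf (Fc.ed (nat_lit 7557) (nat_lit 2870) Col.b (nat_lit 1406) (Dv.wd (nat_lit 49) [Mv.f (nat_lit 4261), Mv.f (nat_lit 7390), Mv.f (nat_lit 7556)]))))
(Tr.nd (nat_lit 7559) (Tr.lf (Fc.ed (nat_lit 7558) (nat_lit 2870) Col.d (nat_lit 2501) (Dv.wd (nat_lit 59) [Mv.b (nat_lit 6738), Mv.f (nat_lit 6383), Mv.b (nat_lit 6439), Mv.b (nat_lit 7391), Mv.f (nat_lit 7556)])))
(Tr.nd (nat_lit 7560) (Tr.lf (Fc.ed (nat_lit 7559) (nat_lit 1838) Col.a (nat_lit 2871) Dv.df))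
(Tr.lf (Fc.ed (nat_lit 7560) (nat_lit 2871) Col.d (nat_lit 2855) (Dv.wd (nat_lit 28) [Mv.f (nat_lit 7527), Mv.b (nat_lit 5716), Mv.f (nat_lit 7559)]))))))
(Tr.nd (nat_lit 7563) (Tr.nd (nat_lit 7562) (Tr.lf (Fc.ed (nat_lit 7561) (nat_lit 2871) Col.e (nat_lit 1383) (Dv.wd (nat_lit 56) [Mv.b (nat_lit 4494), Mv.f (nat_lit 5245), Mv.f (nat_lit 7559)])))
(Tr.lf (Fc.ed (nat_lit 7562) (nat_lit 1386) Col.g (nat_lit 2872) Dv.df)))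
(Tr.nd (nat_lit 7564) (Tr.lf (Fc.ed (nat_lit 7563) (nat_lit 2872) Col.g (nat_lit 2523) (Dv.wd (nat_lit 9) [Mv.b (nat_lit 6790), Mv.b (nat_lit 6160), Mv.f (nat_lit 7562)])))
(Tr.nd (nat_lit 7565) (Tr.lf (Fc.ed (nat_lit 7564) (nat_lit 2649) Col.gi (nat_lit 2873) Dv.df))
(Tr.lf (Fc.ed (nat_lit 7565) (nat_lit 2873) Col.gi (nat_lit 1434) (Dv.wd (nat_lit 24) [Mv.b (nat_lit 7137), Mv.f (nat_lit 7138), Mv.f (nat_lit 7564)])))))))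
(Tr.nd (nat_lit 7571) (Tr.nd (nat_lit 7568) (Tr.nd (nat_lit 7567) (Tr.lf (Fc.ed (nat_lit 7566) (nat_lit 2551) Col.g (nat_lit 2874) Dv.df))
(Tr.lf (Fc.ed (nat_lit 7567) (nat_lit 2874) Col.g (nat_lit 1798) (Dv.wd (nat_lit 9) [Mv.f (nat_lit 5166), Mv.f (nat_lit 6859), Mv.f (nat_lit 7566)]))))
(Tr.nd (nat_lit 7569) (Tr.lf (Fc.ed (nat_lit 7568) (nat_lit 1774) Col.gi (nat_lit 2875) Dv.df))
(Tr.nd (nat_lit 7570) (Tr.lf (Fc.ed (nat_lit 7569) (nat_lit 2875) Col.gi (nat_lit 1472) (Dv.wd (nat_lit 24) [Mv.f (nat_lit 4439), Mv.b (nat_lit 5122), Mv.f (nat_lit 7568)])))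
(Tr.lf (Fc.ed (nat_lit 7570) (nat_lit 2649) Col.e (nat_lit 2876) Dv.df)))))
(Tr.nd (nat_lit 7573) (Tr.nd (nat_lit 7572) (Tr.lf (Fc.ed (nat_lit 7571) (nat_lit 2876) Col.b (nat_lit 2136) (Dv.wd (nat_lit 49) [Mv.b (nat_lit 6259), Mv.b (nat_lit 7074), Mv.f (nat_lit 7570)])))
(Tr.lf (Fc.ed (nat_lit 7572) (nat_lit 2876) Col.f (nat_lit 1820) (Dv.wd (nat_lit 96) [Mv.b (nat_lit 5208), Mv.b (nat_lit 2180), Mv.b (nat_lit 4168), Mv.f (nat_lit 7073), Mv.f (nat_lit 7570)]))))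
(Tr.nd (nat_lit 7574) (Tr.lf (Fc.ed (nat_lit 7573) (nat_lit 1615) Col.gi (nat_lit 2877) Dv.df))
(Tr.nd (nat_lit 7575) (Tr.lf (Fc.ed (nat_lit 7574) (nat_lit 2877) Col.gi (nat_lit 2553) (Dv.wd (nat_lit 24) [Mv.f (nat_lit 6866), Mv.b (nat_lit 4747), Mv.f (nat_lit 7573)])))
(Tr.lf (Fc.ed (nat_lit 7575) (nat_lit 1565) Col.f (nat_lit 2878) Dv.df)))))))
(Tr.nd (nat_lit 7586) (Tr.nd (nat_lit 7581) (Tr.nd (nat_lit 7578) (Tr.nd (nat_lit 7577) (Tr.lf (Fc.ed (nat_lit 7576) (nat_lit 2878) Col.a (nat_lit 2024) (Dv.wd (nat_lit 23) [Mv.b (nat_lit 5630), Mv.f (nat_lit 4638), Mv.f (nat_lit 7575)])))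
(Tr.lf (Fc.ed (nat_lit 7577) (nat_lit 1928) Col.d (nat_lit 2879) Dv.df)))
(Tr.nd (nat_lit 7579) (Tr.lf (Fc.ed (nat_lit 7578) (nat_lit 2879) Col.f (nat_lit 1576) (Dv.wd (nat_lit 11) [Mv.f (nat_lit 4670), Mv.f (nat_lit 5431), Mv.f (nat_lit 7577)])))
(Tr.nd (nat_lit 7580) (Tr.lf (Fc.ed (nat_lit 7579) (nat_lit 2879) Col.e (nat_lit 2403) (Dv.wd (nat_lit 42) [Mv.f (nat_lit 6511), Mv.f (nat_lit 5865), Mv.b (nat_lit 5866), Mv.b (nat_lit 5432), Mv.f (nat_lit 7577)])))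
(Tr.lf (Fc.ed (nat_lit 7580) (nat_lit 2131) Col.f (nat_lit 2880) Dv.df)))))
(Tr.nd (nat_lit 7583) (Tr.nd (nat_lit 7582) (Tr.lf (Fc.ed (nat_lit 7581) (nat_lit 2880) Col.c (nat_lit 1601) (Dv.wd (nat_lit 34) [Mv.b (nat_lit 4710), Mv.b (nat_lit 5923), Mv.f (nat_lit 7580)])))
(Tr.lf (Fc.ed (nat_lit 7582) (nat_lit 2880) Col.e (nat_lit 2724) (Dv.wd (nat_lit 22) [Mv.f (nat_lit 7237), Mv.f (nat_lit 5585), Mv.b (nat_lit 3725), Mv.b (nat_lit 5924), Mv.f (nat_lit 7580)]))))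
(Tr.nd (nat_lit 7584) (Tr.lf (Fc.ed (nat_lit 7583) (nat_lit 1237) Col.gi (nat_lit 2881) Dv.df))
(Tr.nd (nat_lit 7585) (Tr.lf (Fc.ed (nat_lit 7584) (nat_lit 2881) Col.gi (nat_lit 2409) (Dv.wd (nat_lit 24) [Mv.b (nat_lit 6523), Mv.f (nat_lit 5881), Mv.f (nat_lit 7583)])))
(Tr.lf (Fc.ed (nat_lit 7585) (nat_lit 1945) Col.e (nat_lit 2882) Dv.df))))))
(Tr.nd (nat_lit 7591) (Tr.nd (nat_lit 7588) (Tr.nd (nat_lit 7587) (Tr.lf (Fc.ed (nat_lit 7586) (nat_lit 2882) Col.c (nat_lit 2068) (Dv.wd (nat_lit 18) [Mv.f (nat_lit 5718), Mv.b (nat_lit 5466), Mv.f (nat_lit 7585)])))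
(Tr.lf (Fc.ed (nat_lit 7587) (nat_lit 1314) Col.f (nat_lit 2883) Dv.df)))
(Tr.nd (nat_lit 7589) (Tr.lf (Fc.ed (nat_lit 7588) (nat_lit 2883) Col.c (nat_lit 1940) (Dv.wd (nat_lit 34) [Mv.b (nat_lit 5454), Mv.f (nat_lit 3984), Mv.f (nat_lit 7587)])))
(Tr.nd (nat_lit 7590) (Tr.lf (Fc.ed (nat_lit 7589) (nat_lit 1505) Col.g (nat_lit 2884) Dv.df))
(Tr.lf (Fc.ed (nat_lit 7590) (nat_lit 2884) Col.g (nat_lit 2828) (Dv.wd (nat_lit 9) [Mv.f (nat_lit 7466), Mv.b (nat_lit 7373), Mv.f (nat_lit 7589)]))))))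
(Tr.nd (nat_lit 7594) (Tr.nd (nat_lit 7592) (Tr.lf (Fc.ed (nat_lit 7591) (nat_lit 1756) Col.f (nat_lit 2885) Dv.df))
(Tr.nd (nat_lit 7593) (Tr.lf (Fc.ed (nat_lit 7592) (nat_lit 2885) Col.b (nat_lit 2507) (Dv.wd (nat_lit 66) [Mv.b (nat_lit 6750), Mv.f (nat_lit 5079), Mv.f (nat_lit 7591)])))
(Tr.lf (Fc.ed (nat_lit 7593) (nat_lit 2665) Col.gi (nat_lit 2886) Dv.df))))
(Tr.nd (nat_lit 7595) (Tr.lf (Fc.ed (nat_lit 7594) (nat_lit 2886) Col.gi (nat_lit 1476) (Dv.wd (nat_lit 24) [Mv.b (nat_lit 7287), Mv.f (nat_lit 7285), Mv.f (nat_lit 7593)])))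
(Tr.nd (nat_lit 7596) (Tr.lf (Fc.ed (nat_lit 7595) (nat_lit 2101) Col.a (nat_lit 2887) Dv.df))
(Tr.lf (Fc.ed (nat_lit 7596) (nat_lit 2887) Col.f (nat_lit 1806) (Dv.wd (nat_lit 10) [Mv.b (nat_lit 5182), Mv.f (nat_lit 5787), Mv.f (nat_lit 7595)])))))))))
(Tr.nd (nat_lit 7617) (Tr.nd (nat_lit 7607) (Tr.nd (nat_lit 7602) (Tr.nd (nat_lit 7599) (Tr.nd (nat_lit 7598) (Tr.lf (Fc.ed (nat_lit 7597) (nat_lit 1705) Col.e (nat_lit 2888) Dv.df))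
(Tr.lf (Fc.ed (nat_lit 7598) (nat_lit 2888) Col.a (nat_lit 2851) (Dv.wd (nat_lit 15) [Mv.b (nat_lit 7518), Mv.f (nat_lit 4955), Mv.f (nat_lit 7597)]))))
(Tr.nd (nat_lit 7600) (Tr.lf (Fc.ed (nat_lit 7599) (nat_lit 2888) Col.b (nat_lit 2888) (Dv.wd (nat_lit 49) [Mv.b (nat_lit 7597), Mv.f (nat_lit 4952), Mv.f (nat_lit 7597)])))
(Tr.nd (nat_lit 7601) (Tr.lf (Fc.ed (nat_lit 7600) (nat_lit 2832) Col.b (nat_lit 2889) Dv.df))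
(Tr.lf (Fc.ed (nat_lit 7601) (nat_lit 2691) Col.f (nat_lit 2890) Dv.df)))))
(Tr.nd (nat_lit 7604) (Tr.nd (nat_lit 7603) (Tr.lf (Fc.ed (nat_lit 7602) (nat_lit 2890) Col.a (nat_lit 2748) (Dv.wd (nat_lit 23) [Mv.b (nat_lit 7290), Mv.f (nat_lit 7168), Mv.f (nat_lit 7601)])))
(Tr.lf (Fc.ed (nat_lit 7603) (nat_lit 2831) Col.d (nat_lit 2891) Dv.df)))
(Tr.nd (nat_lit 7605) (Tr.lf (Fc.ed (nat_lit 7604) (nat_lit 2677) Col.e (nat_lit 2892) Dv.df))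
(Tr.nd (nat_lit 7606) (Tr.lf (Fc.ed (nat_lit 7605) (nat_lit 2892) Col.a (nat_lit 2876) (Dv.wd (nat_lit 15) [Mv.b (nat_lit 7570), Mv.b (nat_lit 7138), Mv.f (nat_lit 7604)])))
(Tr.lf (Fc.ed (nat_lit 7606) (nat_lit 2892) Col.b (nat_lit 2060) (Dv.wd (nat_lit 49) [Mv.b (nat_lit 6161), Mv.f (nat_lit 7135), Mv.f (nat_lit 7604)])))))))
(Tr.nd (nat_lit 7612) (Tr.nd (nat_lit 7609) (Tr.nd (nat_lit 7608) (Tr.lf (Fc.ed (nat_lit 7607) (nat_lit 2892) Col.d (nat_lit 2892) (Dv.wd (nat_lit 59) [Mv.b (nat_lit 7604), Mv.f (nat_lit 7136), Mv.f (nat_lit 6980), Mv.b (nat_lit 7136), Mv.f (nat_lit 7604)])))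
(Tr.lf (Fc.ed (nat_lit 7608) (nat_lit 2892) Col.f (nat_lit 1669) (Dv.wd (nat_lit 96) [Mv.f (nat_lit 4875), Mv.f (nat_lit 2285), Mv.f (nat_lit 4330), Mv.b (nat_lit 7137), Mv.f (nat_lit 7604)]))))
(Tr.nd (nat_lit 7610) (Tr.lf (Fc.ed (nat_lit 7609) (nat_lit 2845) Col.f (nat_lit 2893) Dv.df))
(Tr.nd (nat_lit 7611) (Tr.lf (Fc.ed (nat_lit 7610) (nat_lit 2893) Col.a (nat_lit 2875) (Dv.wd (nat_lit 23) [Mv.f (nat_lit 7569), Mv.b (nat_lit 7502), Mv.f (nat_lit 7609)])))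
(Tr.lf (Fc.ed (nat_lit 7611) (nat_lit 1164) Col.c (nat_lit 2894) Dv.df)))))
(Tr.nd (nat_lit 7614) (Tr.nd (nat_lit 7613) (Tr.lf (Fc.ed (nat_lit 7612) (nat_lit 2340) Col.a (nat_lit 2895) Dv.df))
(Tr.lf (Fc.ed (nat_lit 7613) (nat_lit 2895) Col.f (nat_lit 1507) (Dv.wd (nat_lit 35) [Mv.b (nat_lit 7421), Mv.b (nat_lit 7420), Mv.f (nat_lit 7612)]))))
(Tr.nd (nat_lit 7615) (Tr.lf (Fc.ed (nat_lit 7614) (nat_lit 1586) Col.e (nat_lit 2896) Dv.df))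
(Tr.nd (nat_lit 7616) (Tr.lf (Fc.ed (nat_lit 7615) (nat_lit 2896) Col.b (nat_lit 1452) (Dv.wd (nat_lit 49) [Mv.b (nat_lit 4396), Mv.f (nat_lit 4689), Mv.f (nat_lit 7614)])))
(Tr.lf (Fc.ed (nat_lit 7616) (nat_lit 2896) Col.d (nat_lit 2867) (Dv.wd (nat_lit 59) [Mv.b (nat_lit 7550), Mv.b (nat_lit 6841), Mv.b (nat_lit 5459), Mv.f (nat_lit 5458), Mv.f (nat_lit 7614)]))))))))
(Tr.nd (nat_lit 7627) (Tr.nd (nat_lit 7622) (Tr.nd (nat_lit 7619) (Tr.nd (nat_lit 7618) (Tr.lf (Fc.ed (nat_lit 7617) (nat_lit 2189) Col.c (nat_lit 2897) Dv.df))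
(Tr.lf (Fc.ed (nat_lit 7618) (nat_lit 2897) Col.a (nat_lit 2793) (Dv.wd (nat_lit 19) [Mv.b (nat_lit 7392), Mv.f (nat_lit 6053), Mv.f (nat_lit 7617)]))))
(Tr.nd (nat_lit 7620) (Tr.lf (Fc.ed (nat_lit 7619) (nat_lit 2897) Col.f (nat_lit 2082) (Dv.wd (nat_lit 26) [Mv.f (nat_lit 5750), Mv.b (nat_lit 6056), Mv.f (nat_lit 7617)])))
(Tr.nd (nat_lit 7621) (Tr.lf (Fc.ed (nat_lit 7620) (nat_lit 1475) Col.f (nat_lit 2898) Dv.df))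
(Tr.lf (Fc.ed (nat_lit 7621) (nat_lit 2898) Col.a (nat_lit 2065) (Dv.wd (nat_lit 23) [Mv.b (nat_lit 5711), Mv.b (nat_lit 4445), Mv.f (nat_lit 7620)]))))))
(Tr.nd (nat_lit 7624) (Tr.nd (nat_lit 7623) (Tr.lf (Fc.ed (nat_lit 7622) (nat_lit 1333) Col.gi (nat_lit 2899) Dv.df))
(Tr.lf (Fc.ed (nat_lit 7623) (nat_lit 2899) Col.gi (nat_lit 2685) (Dv.wd (nat_lit 24) [Mv.f (nat_lit 7155), Mv.b (nat_lit 6822), Mv.f (nat_lit 7622)]))))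
(Tr.nd (nat_lit 7625) (Tr.lf (Fc.ed (nat_lit 7624) (nat_lit 1314) Col.gi (nat_lit 2900) Dv.df))
(Tr.nd (nat_lit 7626) (Tr.lf (Fc.ed (nat_lit 7625) (nat_lit 2900) Col.c (nat_lit 2669) (Dv.wd (nat_lit 81) [Mv.f (nat_lit 7161), Mv.f (nat_lit 7516), Mv.f (nat_lit 5980), Mv.b (nat_lit 5977), Mv.b (nat_lit 5756), Mv.b (nat_lit 3214), Mv.f (nat_lit 3439), Mv.f (nat_lit 3984), Mv.f (nat_lit 7624)])))
(Tr.lf (Fc.ed (nat_lit 7626) (nat_lit 2060) Col.c (nat_lit 2901) Dv.df))))))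
(Tr.nd (nat_lit 7632) (Tr.nd (nat_lit 7629) (Tr.nd (nat_lit 7628) (Tr.lf (Fc.ed (nat_lit 7627) (nat_lit 2901) Col.a (nat_lit 2754) (Dv.wd (nat_lit 19) [Mv.b (nat_lit 7303), Mv.f (nat_lit 6807), Mv.f (nat_lit 7626)])))
(Tr.lf (Fc.ed (nat_lit 7628) (nat_lit 2901) Col.e (nat_lit 2518) (Dv.wd (nat_lit 25) [Mv.b (nat_lit 6779), Mv.f (nat_lit 6161), Mv.f (nat_lit 7626)]))))
(Tr.nd (nat_lit 7630) (Tr.lf (Fc.ed (nat_lit 7629) (nat_lit 2901) Col.f (nat_lit 1568) (Dv.wd (nat_lit 26) [Mv.b (nat_lit 4645), Mv.f (nat_lit 5702), Mv.f (nat_lit 7626)])))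
(Tr.nd (nat_lit 7631) (Tr.lf (Fc.ed (nat_lit 7630) (nat_lit 1553) Col.f (nat_lit 2902) Dv.df))
(Tr.lf (Fc.ed (nat_lit 7631) (nat_lit 2902) Col.a (nat_lit 1423) (Dv.wd (nat_lit 16) [Mv.b (nat_lit 6812), Mv.b (nat_lit 6811), Mv.f (nat_lit 7630)]))))))
(Tr.nd (nat_lit 7635) (Tr.nd (nat_lit 7633) (Tr.lf (Fc.ed (nat_lit 7632) (nat_lit 1456) Col.gi (nat_lit 2903) Dv.df))
(Tr.nd (nat_lit 7634) (Tr.lf (Fc.ed (nat_lit 7633) (nat_lit 2301) Col.d (nat_lit 2904) Dv.df))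
(Tr.lf (Fc.ed (nat_lit 7634) (nat_lit 2904) Col.e (nat_lit 2873) (Dv.wd (nat_lit 74) [Mv.f (nat_lit 7565), Mv.b (nat_lit 4330), Mv.f (nat_lit 2247), Mv.f (nat_lit 956), Mv.b (nat_lit 2435), Mv.f (nat_lit 2434), Mv.f (nat_lit 4869), Mv.f (nat_lit 4872), Mv.f (nat_lit 6294), Mv.f (nat_lit 7633)])))))
(Tr.nd (nat_lit 7636) (Tr.lf (Fc.ed (nat_lit 7635) (nat_lit 2097) Col.f (nat_lit 2905) Dv.df))
(Tr.nd (nat_lit 7637) (Tr.lf (Fc.ed (nat_lit 7636) (nat_lit 2905) Col.a (nat_lit 1511) (Dv.wd (nat_lit 16) [Mv.b (nat_lit 4561), Mv.f (nat_lit 5777), Mv.f (nat_lit 7635)])))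
(Tr.lf (Fc.ed (nat_lit 7637) (nat_lit 2905) Col.b (nat_lit 2432) (Dv.wd (nat_lit 66) [Mv.b (nat_lit 6572), Mv.b (nat_lit 5780), Mv.f (nat_lit 7635)]))))))))))
(Tr.nd (nat_lit 7679) (Tr.nd (nat_lit 7658) (Tr.nd (nat_lit 7648) (Tr.nd (nat_lit 7643) (Tr.nd (nat_lit 7640) (Tr.nd (nat_lit 7639) (Tr.lf (Fc.ed (nat_lit 7638) (nat_lit 2905) Col.c (nat_lit 2905) (Dv.wd (nat_lit 34) [Mv.b (nat_lit 7635), Mv.f (nat_lit 5778), Mv.f (nat_lit 7635)])))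
(Tr.lf (Fc.ed (nat_lit 7639) (nat_lit 1632) Col.g (nat_lit 2906) Dv.df)))
(Tr.nd (nat_lit 7641) (Tr.lf (Fc.ed (nat_lit 7640) (nat_lit 1894) Col.d (nat_lit 2907) Dv.df))
(Tr.nd (nat_lit 7642) (Tr.lf (Fc.ed (nat_lit 7641) (nat_lit 2575) Col.f (nat_lit 2908) Dv.df))
(Tr.lf (Fc.ed (nat_lit 7642) (nat_lit 1449) Col.e (nat_lit 2909) Dv.df)))))
(Tr.nd (nat_lit 7645) (Tr.nd (nat_lit 7644) (Tr.lf (Fc.ed (nat_lit 7643) (nat_lit 2909) Col.a (nat_lit 1781) (Dv.wd (nat_lit 15) [Mv.b (nat_lit 5133), Mv.f (nat_lit 4411), Mv.f (nat_lit 7642)])))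
(Tr.lf (Fc.ed (nat_lit 7644) (nat_lit 2909) Col.b (nat_lit 2871) (Dv.wd (nat_lit 49) [Mv.f (nat_lit 7561), Mv.b (nat_lit 4390), Mv.f (nat_lit 7642)]))))
(Tr.nd (nat_lit 7646) (Tr.lf (Fc.ed (nat_lit 7645) (nat_lit 2909) Col.d (nat_lit 2769) (Dv.wd (nat_lit 59) [Mv.f (nat_lit 7335), Mv.b (nat_lit 5093), Mv.b (nat_lit 3552), Mv.f (nat_lit 4389), Mv.f (nat_lit 7642)])))
(Tr.nd (nat_lit 7647) (Tr.lf (Fc.ed (nat_lit 7646) (nat_lit 2237) Col.g (nat_lit 2910) Dv.df))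
(Tr.lf (Fc.ed (nat_lit 7647) (nat_lit 2910) Col.a (nat_lit 1551) (Dv.wd (nat_lit 114) [Mv.b (nat_lit 5190), Mv.f (nat_lit 6146), Mv.f (nat_lit 7646)])))))))
(Tr.nd (nat_lit 7653) (Tr.nd (nat_lit 7650) (Tr.nd (nat_lit 7649) (Tr.lf (Fc.ed (nat_lit 7648) (nat_lit 2837) Col.c (nat_lit 2910) (Dv.wd (nat_lit 134) [Mv.f (nat_lit 7647), Mv.f (nat_lit 4649), Mv.b (nat_lit 7485)])))
(Tr.lf (Fc.ed (nat_lit 7649) (nat_lit 1355) Col.f (nat_lit 2911) Dv.df)))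
(Tr.nd (nat_lit 7651) (Tr.lf (Fc.ed (nat_lit 7650) (nat_lit 1494) Col.e (nat_lit 2912) Dv.df))
(Tr.nd (nat_lit 7652) (Tr.lf (Fc.ed (nat_lit 7651) (nat_lit 2912) Col.d (nat_lit 2888) (Dv.wd (nat_lit 59) [Mv.b (nat_lit 7597), Mv.b (nat_lit 4951), Mv.f (nat_lit 4769), Mv.f (nat_lit 4486), Mv.f (nat_lit 7650)])))
(Tr.lf (Fc.ed (nat_lit 7652) (nat_lit 1887) Col.f (nat_lit 2913) Dv.df)))))
(Tr.nd (nat_lit 7655) (Tr.nd (nat_lit 7654) (Tr.lf (Fc.ed (nat_lit 7653) (nat_lit 2913) Col.a (nat_lit 1693) (Dv.wd (nat_lit 16) [Mv.f (nat_lit 4927), Mv.b (nat_lit 5350), Mv.f (nat_lit 7652)])))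
(Tr.lf (Fc.ed (nat_lit 7654) (nat_lit 2106) Col.g (nat_lit 2914) Dv.df)))
(Tr.nd (nat_lit 7656) (Tr.lf (Fc.ed (nat_lit 7655) (nat_lit 2914) Col.g (nat_lit 1664) (Dv.wd (nat_lit 9) [Mv.b (nat_lit 7175), Mv.b (nat_lit 7174), Mv.f (nat_lit 7654)])))
(Tr.nd (nat_lit 7657) (Tr.lf (Fc.ed (nat_lit 7656) (nat_lit 1928) Col.g (nat_lit 2915) Dv.df))
(Tr.lf (Fc.ed (nat_lit 7657) (nat_lit 2915) Col.g (nat_lit 2386) (Dv.wd (nat_lit 9) [Mv.f (nat_lit 6479), Mv.f (nat_lit 5431), Mv.f (nat_lit 7656)]))))))))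
(Tr.nd (nat_lit 7668) (Tr.nd (nat_lit 7663) (Tr.nd (nat_lit 7660) (Tr.nd (nat_lit 7659) (Tr.lf (Fc.ed (nat_lit 7658) (nat_lit 2097) Col.d (nat_lit 2916) Dv.df))
(Tr.lf (Fc.ed (nat_lit 7659) (nat_lit 2916) Col.a (nat_lit 1618) (Dv.wd (nat_lit 8) [Mv.f (nat_lit 4752), Mv.f (nat_lit 5777), Mv.f (nat_lit 7658)]))))
(Tr.nd (nat_lit 7661) (Tr.lf (Fc.ed (nat_lit 7660) (nat_lit 1675) Col.a (nat_lit 2917) Dv.df))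
(Tr.nd (nat_lit 7662) (Tr.lf (Fc.ed (nat_lit 7661) (nat_lit 2917) Col.f (nat_lit 2872) (Dv.wd (nat_lit 10) [Mv.f (nat_lit 7563), Mv.b (nat_lit 6793), Mv.f (nat_lit 7660)])))
(Tr.lf (Fc.ed (nat_lit 7662) (nat_lit 1614) Col.a (nat_lit 2918) Dv.df)))))
(Tr.nd (nat_lit 7665) (Tr.nd (nat_lit 7664) (Tr.lf (Fc.ed (nat_lit 7663) (nat_lit 2918) Col.c (nat_lit 2594) (Dv.wd (nat_lit 33) [Mv.b (nat_lit 6952), Mv.b (nat_lit 4745), Mv.f (nat_lit 7662)])))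
(Tr.lf (Fc.ed (nat_lit 7664) (nat_lit 2429) Col.b (nat_lit 2919) Dv.df)))
(Tr.nd (nat_lit 7666) (Tr.lf (Fc.ed (nat_lit 7665) (nat_lit 2919) Col.c (nat_lit 2914) (Dv.wd (nat_lit 135) [Mv.f (nat_lit 7655), Mv.f (nat_lit 4859), Mv.f (nat_lit 2281), Mv.f (nat_lit 627), Mv.b (nat_lit 478), Mv.f (nat_lit 626), Mv.b (nat_lit 788), Mv.f (nat_lit 3597), Mv.b (nat_lit 6567), Mv.f (nat_lit 7664)])))
(Tr.nd (nat_lit 7667) (Tr.lf (Fc.ed (nat_lit 7666) (nat_lit 1902) Col.gi (nat_lit 2441) (Dv.wd (nat_lit 102) [Mv.b (nat_lit 6595), Mv.f (nat_lit 6566), Mv.f (nat_lit 7664), Mv.f (nat_lit 7665), Mv.b (nat_lit 7654), Mv.b (nat_lit 5797), Mv.f (nat_lit 3978), Mv.f (nat_lit 5212), Mv.f (nat_lit 5433), Mv.f (nat_lit 5434)])))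
(Tr.lf (Fc.ed (nat_lit 7667) (nat_lit 1749) Col.gi (nat_lit 2920) Dv.df))))))
(Tr.nd (nat_lit 7673) (Tr.nd (nat_lit 7670) (Tr.nd (nat_lit 7669) (Tr.lf (Fc.ed (nat_lit 7668) (nat_lit 2920) Col.gi (nat_lit 1920) (Dv.wd (nat_lit 24) [Mv.f (nat_lit 5412), Mv.f (nat_lit 5063), Mv.f (nat_lit 7667)])))
(Tr.lf (Fc.ed (nat_lit 7669) (nat_lit 1294) Col.gi (nat_lit 2921) Dv.df)))
(Tr.nd (nat_lit 7671) (Tr.lf (Fc.ed (nat_lit 7670) (nat_lit 2921) Col.gi (nat_lit 1573) (Dv.wd (nat_lit 24) [Mv.f (nat_lit 4662), Mv.f (nat_lit 4661), Mv.f (nat_lit 7669)])))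
(Tr.nd (nat_lit 7672) (Tr.lf (Fc.ed (nat_lit 7671) (nat_lit 2732) Col.a (nat_lit 2922) Dv.df))
(Tr.lf (Fc.ed (nat_lit 7672) (nat_lit 2922) Col.f (nat_lit 2857) (Dv.wd (nat_lit 10) [Mv.f (nat_lit 7531), Mv.f (nat_lit 7253), Mv.f (nat_lit 7671)]))))))
(Tr.nd (nat_lit 7676) (Tr.nd (nat_lit 7674) (Tr.lf (Fc.ed (nat_lit 7673) (nat_lit 2097) Col.g (nat_lit 2923) Dv.df))
(Tr.nd (nat_lit 7675) (Tr.lf (Fc.ed (nat_lit 7674) (nat_lit 2923) Col.g (nat_lit 1511) (Dv.wd (nat_lit 9) [Mv.b (nat_lit 7636), Mv.b (nat_lit 7635), Mv.f (nat_lit 7673)])))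
(Tr.lf (Fc.ed (nat_lit 7675) (nat_lit 2650) Col.f (nat_lit 2924) Dv.df))))
(Tr.nd (nat_lit 7677) (Tr.lf (Fc.ed (nat_lit 7676) (nat_lit 2924) Col.c (nat_lit 2587) (Dv.wd (nat_lit 34) [Mv.b (nat_lit 6940), Mv.b (nat_lit 7078), Mv.f (nat_lit 7675)])))
(Tr.nd (nat_lit 7678) (Tr.lf (Fc.ed (nat_lit 7677) (nat_lit 1103) Col.d (nat_lit 2925) Dv.df))
(Tr.lf (Fc.ed (nat_lit 7678) (nat_lit 1630) Col.c (nat_lit 2926) Dv.df))))))))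
(Tr.nd (nat_lit 7699) (Tr.nd (nat_lit 7689) (Tr.nd (nat_lit 7684) (Tr.nd (nat_lit 7681) (Tr.nd (nat_lit 7680) (Tr.lf (Fc.ed (nat_lit 7679) (nat_lit 2266) Col.g (nat_lit 2927) Dv.df))
(Tr.lf (Fc.ed (nat_lit 7680) (nat_lit 2927) Col.g (nat_lit 1610) (Dv.wd (nat_lit 9) [Mv.f (nat_lit 6216), Mv.b (nat_lit 6215), Mv.f (nat_lit 7679)]))))
(Tr.nd (nat_lit 7682) (Tr.lf (Fc.ed (nat_lit 7681) (nat_lit 1537) Col.a (nat_lit 2928) Dv.df))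
(Tr.nd (nat_lit 7683) (Tr.lf (Fc.ed (nat_lit 7682) (nat_lit 2928) Col.d (nat_lit 2029) (Dv.wd (nat_lit 28) [Mv.b (nat_lit 5637), Mv.b (nat_lit 4722), Mv.f (nat_lit 7681)])))
(Tr.lf (Fc.ed (nat_lit 7683) (nat_lit 2928) Col.e (nat_lit 2313) (Dv.wd (nat_lit 56) [Mv.b (nat_lit 6325), Mv.f (nat_lit 4577), Mv.f (nat_lit 7681)]))))))
(Tr.nd (nat_lit 7686) (Tr.nd (nat_lit 7685) (Tr.lf (Fc.ed (nat_lit 7684) (nat_lit 1456) Col.g (nat_lit 2929) Dv.df))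
(Tr.lf (Fc.ed (nat_lit 7685) (nat_lit 1392) Col.g (nat_lit 2930) Dv.df)))
(Tr.nd (nat_lit 7687) (Tr.lf (Fc.ed (nat_lit 7686) (nat_lit 2930) Col.g (nat_lit 1522) (Dv.wd (nat_lit 9) [Mv.f (nat_lit 6053), Mv.f (nat_lit 6056), Mv.f (nat_lit 7685)])))
(Tr.nd (nat_lit 7688) (Tr.lf (Fc.ed (nat_lit 7687) (nat_lit 2707) Col.e (nat_lit 2931) Dv.df))
(Tr.lf (Fc.ed (nat_lit 7688) (nat_lit 2931) Col.d (nat_lit 2856) (Dv.wd (nat_lit 91) [Mv.f (nat_lit 7529), Mv.f (nat_lit 4573), Mv.b (nat_lit 4571), Mv.f (nat_lit 2213), Mv.f (nat_lit 2212), Mv.f (nat_lit 1388), Mv.b (nat_lit 2929), Mv.f (nat_lit 3814), Mv.b (nat_lit 7201), Mv.f (nat_lit 7687)])))))))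
(Tr.nd (nat_lit 7694) (Tr.nd (nat_lit 7691) (Tr.nd (nat_lit 7690) (Tr.lf (Fc.ed (nat_lit 7689) (nat_lit 2708) Col.a (nat_lit 2932) Dv.df))
(Tr.lf (Fc.ed (nat_lit 7690) (nat_lit 2932) Col.d (nat_lit 1064) (Dv.wd (nat_lit 28) [Mv.b (nat_lit 3662), Mv.b (nat_lit 7203), Mv.f (nat_lit 7689)]))))
(Tr.nd (nat_lit 7692) (Tr.lf (Fc.ed (nat_lit 7691) (nat_lit 2932) Col.f (nat_lit 2381) (Dv.wd (nat_lit 35) [Mv.f (nat_lit 6632), Mv.f (nat_lit 7202), Mv.f (nat_lit 7689)])))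
(Tr.nd (nat_lit 7693) (Tr.lf (Fc.ed (nat_lit 7692) (nat_lit 1670) Col.g (nat_lit 2933) Dv.df))
(Tr.lf (Fc.ed (nat_lit 7693) (nat_lit 2016) Col.f (nat_lit 2934) Dv.df)))))
(Tr.nd (nat_lit 7696) (Tr.nd (nat_lit 7695) (Tr.lf (Fc.ed (nat_lit 7694) (nat_lit 2849) Col.e (nat_lit 2935) Dv.df))
(Tr.lf (Fc.ed (nat_lit 7695) (nat_lit 747) Col.gi (nat_lit 2936) Dv.df)))
(Tr.nd (nat_lit 7697) (Tr.lf (Fc.ed (nat_lit 7696) (nat_lit 2936) Col.gi (nat_lit 1653) (Dv.wd (nat_lit 24) [Mv.f (nat_lit 4838), Mv.f (nat_lit 4839), Mv.f (nat_lit 7695)])))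
(Tr.nd (nat_lit 7698) (Tr.lf (Fc.ed (nat_lit 7697) (nat_lit 2868) Col.e (nat_lit 2937) Dv.df))
(Tr.lf (Fc.ed (nat_lit 7698) (nat_lit 2834) Col.e (nat_lit 2938) Dv.df)))))))
(Tr.nd (nat_lit 7709) (Tr.nd (nat_lit 7704) (Tr.nd (nat_lit 7701) (Tr.nd (nat_lit 7700) (Tr.lf (Fc.ed (nat_lit 7699) (nat_lit 2938) Col.c (nat_lit 2786) (Dv.wd (nat_lit 18) [Mv.f (nat_lit 7375), Mv.b (nat_lit 7479), Mv.f (nat_lit 7698)])))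
(Tr.lf (Fc.ed (nat_lit 7700) (nat_lit 2938) Col.f (nat_lit 1805) (Dv.wd (nat_lit 96) [Mv.f (nat_lit 5181), Mv.f (nat_lit 3566), Mv.b (nat_lit 6387), Mv.f (nat_lit 7478), Mv.f (nat_lit 7698)]))))
(Tr.nd (nat_lit 7702) (Tr.lf (Fc.ed (nat_lit 7701) (nat_lit 2906) Col.a (nat_lit 2939) Dv.df))
(Tr.nd (nat_lit 7703) (Tr.lf (Fc.ed (nat_lit 7702) (nat_lit 2939) Col.f (nat_lit 1633) (Dv.wd (nat_lit 10) [Mv.f (nat_lit 4790), Mv.f (nat_lit 7639), Mv.f (nat_lit 7701)])))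
(Tr.lf (Fc.ed (nat_lit 7703) (nat_lit 1464) Col.c (nat_lit 2939) (Dv.wd (nat_lit 67) [Mv.f (nat_lit 7702), Mv.b (nat_lit 4789), Mv.f (nat_lit 4418)]))))))
(Tr.nd (nat_lit 7706) (Tr.nd (nat_lit 7705) (Tr.lf (Fc.ed (nat_lit 7704) (nat_lit 2573) Col.d (nat_lit 2940) Dv.df))
(Tr.lf (Fc.ed (nat_lit 7705) (nat_lit 2940) Col.a (nat_lit 2403) (Dv.wd (nat_lit 8) [Mv.f (nat_lit 6511), Mv.b (nat_lit 6902), Mv.f (nat_lit 7704)]))))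
(Tr.nd (nat_lit 7707) (Tr.lf (Fc.ed (nat_lit 7706) (nat_lit 2940) Col.f (nat_lit 2433) (Dv.wd (nat_lit 11) [Mv.b (nat_lit 6576), Mv.f (nat_lit 6901), Mv.f (nat_lit 7704)])))
(Tr.nd (nat_lit 7708) (Tr.lf (Fc.ed (nat_lit 7707) (nat_lit 2191) Col.g (nat_lit 2941) Dv.df))
(Tr.lf (Fc.ed (nat_lit 7708) (nat_lit 2941) Col.g (nat_lit 2445) (Dv.wd (nat_lit 9) [Mv.b (nat_lit 6603), Mv.f (nat_lit 6059), Mv.f (nat_lit 7707)])))))))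
(Tr.nd (nat_lit 7714) (Tr.nd (nat_lit 7711) (Tr.nd (nat_lit 7710) (Tr.lf (Fc.ed (nat_lit 7709) (nat_lit 1649) Col.gi (nat_lit 2942) Dv.df))
(Tr.lf (Fc.ed (nat_lit 7710) (nat_lit 2942) Col.gi (nat_lit 1601) (Dv.wd (nat_lit 24) [Mv.b (nat_lit 4710), Mv.b (nat_lit 4820), Mv.f (nat_lit 7709)]))))
(Tr.nd (nat_lit 7712) (Tr.lf (Fc.ed (nat_lit 7711) (nat_lit 1678) Col.f (nat_lit 2943) Dv.df))
(Tr.nd (nat_lit 7713) (Tr.lf (Fc.ed (nat_lit 7712) (nat_lit 2943) Col.a (nat_lit 2220) (Dv.wd (nat_lit 16) [Mv.b (nat_lit 6117), Mv.b (nat_lit 4893), Mv.f (nat_lit 7711)])))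
(Tr.lf (Fc.ed (nat_lit 7713) (nat_lit 2943) Col.c (nat_lit 2395) (Dv.wd (nat_lit 34) [Mv.f (nat_lit 6497), Mv.f (nat_lit 4892), Mv.f (nat_lit 7711)]))))))
(Tr.nd (nat_lit 7717) (Tr.nd (nat_lit 7715) (Tr.lf (Fc.ed (nat_lit 7714) (nat_lit 2812) Col.g (nat_lit 2944) Dv.df))
(Tr.nd (nat_lit 7716) (Tr.lf (Fc.ed (nat_lit 7715) (nat_lit 2944) Col.g (nat_lit 1411) (Dv.wd (nat_lit 9) [Mv.f (nat_lit 7028), Mv.b (nat_lit 7435), Mv.f (nat_lit 7714)])))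
(Tr.lf (Fc.ed (nat_lit 7716) (nat_lit 2394) Col.gi (nat_lit 2945) Dv.df))))
(Tr.nd (nat_lit 7718) (Tr.lf (Fc.ed (nat_lit 7717) (nat_lit 2945) Col.gi (nat_lit 1317) (Dv.wd (nat_lit 24) [Mv.f (nat_lit 5431), Mv.f (nat_lit 6494), Mv.f (nat_lit 7716)])))
(Tr.nd (nat_lit 7719) (Tr.lf (Fc.ed (nat_lit 7718) (nat_lit 2771) Col.d (nat_lit 2946) Dv.df))
(Tr.lf (Fc.ed (nat_lit 7719) (nat_lit 2946) Col.b (nat_lit 1172) (Dv.wd (nat_lit 37) [Mv.b (nat_lit 3616), Mv.f (nat_lit 7337), Mv.f (nat_lit 7718)])))))))))))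
(Tr.nd (nat_lit 7802) (Tr.nd (nat_lit 7761) (Tr.nd (nat_lit 7740) (Tr.nd (nat_lit 7730) (Tr.nd (nat_lit 7725) (Tr.nd (nat_lit 7722) (Tr.nd (nat_lit 7721) (Tr.lf (Fc.ed (nat_lit 7720) (nat_lit 2872) Col.e (nat_lit 2947) Dv.df))
(Tr.lf (Fc.ed (nat_lit 7721) (nat_lit 2947) Col.d (nat_lit 2697) (Dv.wd (nat_lit 91) [Mv.f (nat_lit 7182), Mv.f (nat_lit 5168), Mv.f (nat_lit 5169), Mv.f (nat_lit 2873), Mv.f (nat_lit 2872), Mv.f (nat_lit 1516), Mv.b (nat_lit 2170), Mv.f (nat_lit 4207), Mv.f (nat_lit 7562), Mv.f (nat_lit 7720)]))))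
(Tr.nd (nat_lit 7723) (Tr.lf (Fc.ed (nat_lit 7722) (nat_lit 2868) Col.a (nat_lit 2948) Dv.df))
(Tr.nd (nat_lit 7724) (Tr.lf (Fc.ed (nat_lit 7723) (nat_lit 2948) Col.f (nat_lit 2727) (Dv.wd (nat_lit 10) [Mv.f (nat_lit 7244), Mv.b (nat_lit 7553), Mv.f (nat_lit 7722)])))
(Tr.lf (Fc.ed (nat_lit 7724) (nat_lit 1763) Col.b (nat_lit 2949) Dv.df)))))
(Tr.nd (nat_lit 7727) (Tr.nd (nat_lit 7726) (Tr.lf (Fc.ed (nat_lit 7725) (nat_lit 1276) Col.gi (nat_lit 2950) Dv.df))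
(Tr.lf (Fc.ed (nat_lit 7726) (nat_lit 2950) Col.gi (nat_lit 1498) (Dv.wd (nat_lit 24) [Mv.f (nat_lit 6063), Mv.f (nat_lit 6064), Mv.f (nat_lit 7725)]))))
(Tr.nd (nat_lit 7728) (Tr.lf (Fc.ed (nat_lit 7727) (nat_lit 2792) Col.a (nat_lit 2951) Dv.df))
(Tr.nd (nat_lit 7729) (Tr.lf (Fc.ed (nat_lit 7728) (nat_lit 2425) Col.a (nat_lit 2952) Dv.df))
(Tr.lf (Fc.ed (nat_lit 7729) (nat_lit 2952) Col.e (nat_lit 837) (Dv.wd (nat_lit 56) [Mv.f (nat_lit 5128), Mv.f (nat_lit 6559), Mv.f (nat_lit 7728)])))))))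
(Tr.nd (nat_lit 7735) (Tr.nd (nat_lit 7732) (Tr.nd (nat_lit 7731) (Tr.lf (Fc.ed (nat_lit 7730) (nat_lit 2771) Col.f (nat_lit 2953) Dv.df))
(Tr.lf (Fc.ed (nat_lit 7731) (nat_lit 2953) Col.b (nat_lit 1138) (Dv.wd (nat_lit 66) [Mv.b (nat_lit 3566), Mv.f (nat_lit 7337), Mv.f (nat_lit 7730)]))))
(Tr.nd (nat_lit 7733) (Tr.lf (Fc.ed (nat_lit 7732) (nat_lit 2361) Col.g (nat_lit 2954) Dv.df))
(Tr.nd (nat_lit 7734) (Tr.lf (Fc.ed (nat_lit 7733) (nat_lit 2954) Col.g (nat_lit 2916) (Dv.wd (nat_lit 9) [Mv.f (nat_lit 7659), Mv.b (nat_lit 6435), Mv.f (nat_lit 7732)])))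
(Tr.lf (Fc.ed (nat_lit 7734) (nat_lit 2755) Col.b (nat_lit 2955) Dv.df)))))
(Tr.nd (nat_lit 7737) (Tr.nd (nat_lit 7736) (Tr.lf (Fc.ed (nat_lit 7735) (nat_lit 1243) Col.gi (nat_lit 2956) Dv.df))
(Tr.lf (Fc.ed (nat_lit 7736) (nat_lit 2956) Col.gi (nat_lit 2247) (Dv.wd (nat_lit 24) [Mv.f (nat_lit 6227), Mv.f (nat_lit 6228), Mv.f (nat_lit 7735)]))))
(Tr.nd (nat_lit 7738) (Tr.lf (Fc.ed (nat_lit 7737) (nat_lit 2532) Col.g (nat_lit 2957) Dv.df))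
(Tr.nd (nat_lit 7739) (Tr.lf (Fc.ed (nat_lit 7738) (nat_lit 2957) Col.g (nat_lit 1679) (Dv.wd (nat_lit 9) [Mv.b (nat_lit 4895), Mv.b (nat_lit 6814), Mv.f (nat_lit 7737)])))
(Tr.lf (Fc.ed (nat_lit 7739) (nat_lit 1726) Col.gi (nat_lit 2958) Dv.df)))))))
(Tr.nd (nat_lit 7750) (Tr.nd (nat_lit 7745) (Tr.nd (nat_lit 7742) (Tr.nd (nat_lit 7741) (Tr.lf (Fc.ed (nat_lit 7740) (nat_lit 2012) Col.c (nat_lit 2959) Dv.df))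
(Tr.lf (Fc.ed (nat_lit 7741) (nat_lit 837) Col.c (nat_lit 2960) Dv.df)))
(Tr.nd (nat_lit 7743) (Tr.lf (Fc.ed (nat_lit 7742) (nat_lit 2960) Col.b (nat_lit 2548) (Dv.wd (nat_lit 165) [Mv.b (nat_lit 6855), Mv.b (nat_lit 5610), Mv.f (nat_lit 4810), Mv.b (nat_lit 2210), Mv.f (nat_lit 2184), Mv.b (nat_lit 445), Mv.b (nat_lit 984), Mv.f (nat_lit 1239), Mv.b (nat_lit 2392), Mv.f (nat_lit 7741)])))
(Tr.nd (nat_lit 7744) (Tr.lf (Fc.ed (nat_lit 7743) (nat_lit 760) Col.gi (nat_lit 2961) Dv.df))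
(Tr.lf (Fc.ed (nat_lit 7744) (nat_lit 2961) Col.gi (nat_lit 1656) (Dv.wd (nat_lit 24) [Mv.b (nat_lit 4838), Mv.b (nat_lit 4831), Mv.f (nat_lit 7743)]))))))
(Tr.nd (nat_lit 7747) (Tr.nd (nat_lit 7746) (Tr.lf (Fc.ed (nat_lit 7745) (nat_lit 1678) Col.g (nat_lit 2962) Dv.df))
(Tr.lf (Fc.ed (nat_lit 7746) (nat_lit 2962) Col.g (nat_lit 2220) (Dv.wd (nat_lit 9) [Mv.b (nat_lit 7712), Mv.b (nat_lit 7711), Mv.f (nat_lit 7745)]))))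
(Tr.nd (nat_lit 7748) (Tr.lf (Fc.ed (nat_lit 7747) (nat_lit 1682) Col.d (nat_lit 2963) Dv.df))
(Tr.nd (nat_lit 7749) (Tr.lf (Fc.ed (nat_lit 7748) (nat_lit 1546) Col.gi (nat_lit 2964) Dv.df))
(Tr.lf (Fc.ed (nat_lit 7749) (nat_lit 2964) Col.gi (nat_lit 2034) (Dv.wd (nat_lit 24) [Mv.b (nat_lit 5645), Mv.b (nat_lit 4595), Mv.f (nat_lit 7748)])))))))
(Tr.nd (nat_lit 7755) (Tr.nd (nat_lit 7752) (Tr.nd (nat_lit 7751) (Tr.lf (Fc.ed (nat_lit 7750) (nat_lit 1514) Col.gi (nat_lit 2965) Dv.df))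
(Tr.lf (Fc.ed (nat_lit 7751) (nat_lit 2965) Col.gi (nat_lit 1922) (Dv.wd (nat_lit 24) [Mv.f (nat_lit 5417), Mv.f (nat_lit 4855), Mv.f (nat_lit 7750)]))))
(Tr.nd (nat_lit 7753) (Tr.lf (Fc.ed (nat_lit 7752) (nat_lit 2896) Col.f (nat_lit 2966) Dv.df))
(Tr.nd (nat_lit 7754) (Tr.lf (Fc.ed (nat_lit 7753) (nat_lit 2966) Col.b (nat_lit 2437) (Dv.wd (nat_lit 66) [Mv.f (nat_lit 6588), Mv.b (nat_lit 7615), Mv.f (nat_lit 7752)])))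
(Tr.lf (Fc.ed (nat_lit 7754) (nat_lit 2943) Col.e (nat_lit 2967) Dv.df)))))
(Tr.nd (nat_lit 7758) (Tr.nd (nat_lit 7756) (Tr.lf (Fc.ed (nat_lit 7755) (nat_lit 2967) Col.a (nat_lit 2525) (Dv.wd (nat_lit 15) [Mv.b (nat_lit 6798), Mv.b (nat_lit 7712), Mv.f (nat_lit 7754)])))
(Tr.nd (nat_lit 7757) (Tr.lf (Fc.ed (nat_lit 7756) (nat_lit 2967) Col.c (nat_lit 2161) (Dv.wd (nat_lit 18) [Mv.f (nat_lit 6496), Mv.b (nat_lit 7713), Mv.f (nat_lit 7754)])))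
(Tr.lf (Fc.ed (nat_lit 7757) (nat_lit 2967) Col.f (nat_lit 2287) (Dv.wd (nat_lit 96) [Mv.f (nat_lit 6262), Mv.f (nat_lit 3343), Mv.b (nat_lit 4894), Mv.f (nat_lit 7711), Mv.f (nat_lit 7754)])))))
(Tr.nd (nat_lit 7759) (Tr.lf (Fc.ed (nat_lit 7758) (nat_lit 1410) Col.a (nat_lit 2968) Dv.df))
(Tr.nd (nat_lit 7760) (Tr.lf (Fc.ed (nat_lit 7759) (nat_lit 2968) Col.e (nat_lit 2519) (Dv.wd (nat_lit 56) [Mv.b (nat_lit 6781), Mv.b (nat_lit 4269), Mv.f (nat_lit 7758)])))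
(Tr.lf (Fc.ed (nat_lit 7760) (nat_lit 2968) Col.gi (nat_lit 1591) (Dv.wd (nat_lit 12) [Mv.b (nat_lit 4696), Mv.f (nat_lit 4270), Mv.f (nat_lit 7758)])))))))))
(Tr.nd (nat_lit 7781) (Tr.nd (nat_lit 7771) (Tr.nd (nat_lit 7766) (Tr.nd (nat_lit 7763) (Tr.nd (nat_lit 7762) (Tr.lf (Fc.ed (nat_lit 7761) (nat_lit 2284) Col.e (nat_lit 2969) Dv.df))
(Tr.lf (Fc.ed (nat_lit 7762) (nat_lit 2864) Col.a (nat_lit 2970) Dv.df)))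
(Tr.nd (nat_lit 7764) (Tr.lf (Fc.ed (nat_lit 7763) (nat_lit 2970) Col.f (nat_lit 2695) (Dv.wd (nat_lit 10) [Mv.b (nat_lit 7177), Mv.b (nat_lit 7544), Mv.f (nat_lit 7762)])))
(Tr.nd (nat_lit 7765) (Tr.lf (Fc.ed (nat_lit 7764) (nat_lit 2575) Col.c (nat_lit 2971) Dv.df))
(Tr.lf (Fc.ed (nat_lit 7765) (nat_lit 2971) Col.d (nat_lit 2459) (Dv.wd (nat_lit 44) [Mv.b (nat_lit 6634), Mv.b (nat_lit 6545), Mv.f (nat_lit 6544), Mv.b (nat_lit 5509), Mv.f (nat_lit 6380), Mv.f (nat_lit 6381), Mv.b (nat_lit 6002), Mv.f (nat_lit 6906), Mv.f (nat_lit 7764)]))))))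
(Tr.nd (nat_lit 7768) (Tr.nd (nat_lit 7767) (Tr.lf (Fc.ed (nat_lit 7766) (nat_lit 1927) Col.g (nat_lit 2972) Dv.df))
(Tr.lf (Fc.ed (nat_lit 7767) (nat_lit 2972) Col.g (nat_lit 1516) (Dv.wd (nat_lit 9) [Mv.f (nat_lit 4531), Mv.b (nat_lit 5430), Mv.f (nat_lit 7766)]))))
(Tr.nd (nat_lit 7769) (Tr.lf (Fc.ed (nat_lit 7768) (nat_lit 1661) Col.gi (nat_lit 2973) Dv.df))
(Tr.nd (nat_lit 7770) (Tr.lf (Fc.ed (nat_lit 7769) (nat_lit 1565) Col.a (nat_lit 2974) Dv.df))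
(Tr.lf (Fc.ed (nat_lit 7770) (nat_lit 2974) Col.c (nat_lit 2337) (Dv.wd (nat_lit 33) [Mv.f (nat_lit 6381), Mv.b (nat_lit 6002), Mv.f (nat_lit 7769)])))))))
(Tr.nd (nat_lit 7776) (Tr.nd (nat_lit 7773) (Tr.nd (nat_lit 7772) (Tr.lf (Fc.ed (nat_lit 7771) (nat_lit 2974) Col.f (nat_lit 2024) (Dv.wd (nat_lit 35) [Mv.b (nat_lit 7576), Mv.b (nat_lit 7575), Mv.f (nat_lit 7769)])))
(Tr.lf (Fc.ed (nat_lit 7772) (nat_lit 1637) Col.f (nat_lit 2975) Dv.df)))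
(Tr.nd (nat_lit 7774) (Tr.lf (Fc.ed (nat_lit 7773) (nat_lit 2975) Col.a (nat_lit 2834) (Dv.wd (nat_lit 16) [Mv.b (nat_lit 7478), Mv.b (nat_lit 6385), Mv.f (nat_lit 7772)])))
(Tr.nd (nat_lit 7775) (Tr.lf (Fc.ed (nat_lit 7774) (nat_lit 2975) Col.c (nat_lit 2100) (Dv.wd (nat_lit 34) [Mv.b (nat_lit 5786), Mv.f (nat_lit 4796), Mv.f (nat_lit 7772)])))
(Tr.lf (Fc.ed (nat_lit 7775) (nat_lit 2910) Col.e (nat_lit 2976) Dv.df)))))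
(Tr.nd (nat_lit 7778) (Tr.nd (nat_lit 7777) (Tr.lf (Fc.ed (nat_lit 7776) (nat_lit 2976) Col.a (nat_lit 1575) (Dv.wd (nat_lit 15) [Mv.f (nat_lit 4666), Mv.b (nat_lit 7647), Mv.f (nat_lit 7775)])))
(Tr.lf (Fc.ed (nat_lit 7777) (nat_lit 1898) Col.gi (nat_lit 2977) Dv.df)))
(Tr.nd (nat_lit 7779) (Tr.lf (Fc.ed (nat_lit 7778) (nat_lit 2977) Col.gi (nat_lit 1934) (Dv.wd (nat_lit 24) [Mv.b (nat_lit 5443), Mv.f (nat_lit 5372), Mv.f (nat_lit 7777)])))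
(Tr.nd (nat_lit 7780) (Tr.lf (Fc.ed (nat_lit 7779) (nat_lit 2807) Col.a (nat_lit 2978) Dv.df))
(Tr.lf (Fc.ed (nat_lit 7780) (nat_lit 2978) Col.f (nat_lit 2833) (Dv.wd (nat_lit 10) [Mv.b (nat_lit 7476), Mv.b (nat_lit 7423), Mv.f (nat_lit 7779)]))))))))
(Tr.nd (nat_lit 7791) (Tr.nd (nat_lit 7786) (Tr.nd (nat_lit 7783) (Tr.nd (nat_lit 7782) (Tr.lf (Fc.ed (nat_lit 7781) (nat_lit 2753) Col.b (nat_lit 2979) Dv.df))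
(Tr.lf (Fc.ed (nat_lit 7782) (nat_lit 2979) Col.f (nat_lit 1453) (Dv.wd (nat_lit 20) [Mv.b (nat_lit 4758), Mv.b (nat_lit 7302), Mv.f (nat_lit 7781)]))))
(Tr.nd (nat_lit 7784) (Tr.lf (Fc.ed (nat_lit 7783) (nat_lit 1661) Col.g (nat_lit 2980) Dv.df))
(Tr.nd (nat_lit 7785) (Tr.lf (Fc.ed (nat_lit 7784) (nat_lit 1626) Col.g (nat_lit 2981) Dv.df))
(Tr.lf (Fc.ed (nat_lit 7785) (nat_lit 2981) Col.g (nat_lit 1846) (Dv.wd (nat_lit 9) [Mv.b (nat_lit 5262), Mv.f (nat_lit 4844), Mv.f (nat_lit 7784)]))))))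
(Tr.nd (nat_lit 7788) (Tr.nd (nat_lit 7787) (Tr.lf (Fc.ed (nat_lit 7786) (nat_lit 2174) Col.f (nat_lit 2982) Dv.df))
(Tr.lf (Fc.ed (nat_lit 7787) (nat_lit 2982) Col.a (nat_lit 2924) (Dv.wd (nat_lit 16) [Mv.b (nat_lit 7675), Mv.f (nat_lit 7077), Mv.f (nat_lit 7786)]))))
(Tr.nd (nat_lit 7789) (Tr.lf (Fc.ed (nat_lit 7788) (nat_lit 2982) Col.c (nat_lit 2286) (Dv.wd (nat_lit 34) [Mv.b (nat_lit 6258), Mv.f (nat_lit 6015), Mv.f (nat_lit 7786)])))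
(Tr.nd (nat_lit 7790) (Tr.lf (Fc.ed (nat_lit 7789) (nat_lit 1633) Col.a (nat_lit 2983) Dv.df))
(Tr.lf (Fc.ed (nat_lit 7790) (nat_lit 2983) Col.c (nat_lit 2344) (Dv.wd (nat_lit 33) [Mv.b (nat_lit 6397), Mv.f (nat_lit 4789), Mv.f (nat_lit 7789)])))))))
(Tr.nd (nat_lit 7796) (Tr.nd (nat_lit 7793) (Tr.nd (nat_lit 7792) (Tr.lf (Fc.ed (nat_lit 7791) (nat_lit 2343) Col.f (nat_lit 2984) Dv.df))
(Tr.lf (Fc.ed (nat_lit 7792) (nat_lit 2984) Col.a (nat_lit 1872) (Dv.wd (nat_lit 23) [Mv.f (nat_lit 5318), Mv.f (nat_lit 6395), Mv.f (nat_lit 7791)]))))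
(Tr.nd (nat_lit 7794) (Tr.lf (Fc.ed (nat_lit 7793) (nat_lit 1540) Col.f (nat_lit 2985) Dv.df))
(Tr.nd (nat_lit 7795) (Tr.lf (Fc.ed (nat_lit 7794) (nat_lit 2985) Col.a (nat_lit 2985) (Dv.wd (nat_lit 16) [Mv.b (nat_lit 7793), Mv.f (nat_lit 4583), Mv.f (nat_lit 7793)])))
(Tr.lf (Fc.ed (nat_lit 7795) (nat_lit 2985) Col.b (nat_lit 2547) (Dv.wd (nat_lit 66) [Mv.b (nat_lit 6853), Mv.b (nat_lit 4584), Mv.f (nat_lit 7793)]))))))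
(Tr.nd (nat_lit 7799) (Tr.nd (nat_lit 7797) (Tr.lf (Fc.ed (nat_lit 7796) (nat_lit 2985) Col.d (nat_lit 2762) (Dv.wd (nat_lit 21) [Mv.b (nat_lit 7318), Mv.f (nat_lit 6069), Mv.f (nat_lit 7793)])))
(Tr.nd (nat_lit 7798) (Tr.lf (Fc.ed (nat_lit 7797) (nat_lit 2985) Col.e (nat_lit 2985) (Dv.wd (nat_lit 22) [Mv.b (nat_lit 7793), Mv.b (nat_lit 4582), Mv.f (nat_lit 4378), Mv.f (nat_lit 4582), Mv.f (nat_lit 7793)])))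
(Tr.lf (Fc.ed (nat_lit 7798) (nat_lit 2223) Col.a (nat_lit 2986) Dv.df))))
(Tr.nd (nat_lit 7800) (Tr.lf (Fc.ed (nat_lit 7799) (nat_lit 2986) Col.f (nat_lit 2440) (Dv.wd (nat_lit 10) [Mv.f (nat_lit 6594), Mv.f (nat_lit 6120), Mv.f (nat_lit 7798)])))
(Tr.nd (nat_lit 7801) (Tr.lf (Fc.ed (nat_lit 7800) (nat_lit 2786) Col.b (nat_lit 2987) Dv.df))
(Tr.lf (Fc.ed (nat_lit 7801) (nat_lit 2987) Col.f (nat_lit 1838) (Dv.wd (nat_lit 20) [Mv.f (nat_lit 5246), Mv.f (nat_lit 7373), Mv.f (nat_lit 7800)]))))))))))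
(Tr.nd (nat_lit 7843) (Tr.nd (nat_lit 7822) (Tr.nd (nat_lit 7812) (Tr.nd (nat_lit 7807) (Tr.nd (nat_lit 7804) (Tr.nd (nat_lit 7803) (Tr.lf (Fc.ed (nat_lit 7802) (nat_lit 1162) Col.gi (nat_lit 2988) Dv.df))
(Tr.lf (Fc.ed (nat_lit 7803) (nat_lit 2988) Col.gi (nat_lit 1555) (Dv.wd (nat_lit 24) [Mv.f (nat_lit 4617), Mv.f (nat_lit 4415), Mv.f (nat_lit 7802)]))))
(Tr.nd (nat_lit 7805) (Tr.lf (Fc.ed (nat_lit 7804) (nat_lit 1634) Col.a (nat_lit 2989) Dv.df))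
(Tr.nd (nat_lit 7806) (Tr.lf (Fc.ed (nat_lit 7805) (nat_lit 2989) Col.d (nat_lit 2534) (Dv.wd (nat_lit 28) [Mv.b (nat_lit 6817), Mv.b (nat_lit 4792), Mv.f (nat_lit 7804)])))
(Tr.lf (Fc.ed (nat_lit 7806) (nat_lit 1825) Col.gi (nat_lit 2990) Dv.df)))))
(Tr.nd (nat_lit 7809) (Tr.nd (nat_lit 7808) (Tr.lf (Fc.ed (nat_lit 7807) (nat_lit 2990) Col.gi (nat_lit 1617) (Dv.wd (nat_lit 24) [Mv.b (nat_lit 5140), Mv.b (nat_lit 5220), Mv.f (nat_lit 7806)])))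
(Tr.lf (Fc.ed (nat_lit 7808) (nat_lit 2496) Col.d (nat_lit 2991) Dv.df)))
(Tr.nd (nat_lit 7810) (Tr.lf (Fc.ed (nat_lit 7809) (nat_lit 2991) Col.b (nat_lit 1550) (Dv.wd (nat_lit 37) [Mv.f (nat_lit 4605), Mv.f (nat_lit 6727), Mv.f (nat_lit 7808)])))
(Tr.nd (nat_lit 7811) (Tr.lf (Fc.ed (nat_lit 7810) (nat_lit 1091) Col.a (nat_lit 2992) Dv.df))
(Tr.lf (Fc.ed (nat_lit 7811) (nat_lit 2992) Col.f (nat_lit 2099) (Dv.wd (nat_lit 35) [Mv.b (nat_lit 7114), Mv.b (nat_lit 7113), Mv.f (nat_lit 7810)])))))))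
(Tr.nd (nat_lit 7817) (Tr.nd (nat_lit 7814) (Tr.nd (nat_lit 7813) (Tr.lf (Fc.ed (nat_lit 7812) (nat_lit 2031) Col.gi (nat_lit 2993) Dv.df))
(Tr.lf (Fc.ed (nat_lit 7813) (nat_lit 2993) Col.gi (nat_lit 947) (Dv.wd (nat_lit 24) [Mv.f (nat_lit 5259), Mv.f (nat_lit 5641), Mv.f (nat_lit 7812)]))))
(Tr.nd (nat_lit 7815) (Tr.lf (Fc.ed (nat_lit 7814) (nat_lit 2605) Col.c (nat_lit 2994) Dv.df))
(Tr.nd (nat_lit 7816) (Tr.lf (Fc.ed (nat_lit 7815) (nat_lit 2484) Col.e (nat_lit 2995) Dv.df))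
(Tr.lf (Fc.ed (nat_lit 7816) (nat_lit 2995) Col.a (nat_lit 2191) (Dv.wd (nat_lit 15) [Mv.f (nat_lit 6100), Mv.b (nat_lit 6691), Mv.f (nat_lit 7815)]))))))
(Tr.nd (nat_lit 7819) (Tr.nd (nat_lit 7818) (Tr.lf (Fc.ed (nat_lit 7817) (nat_lit 2995) Col.f (nat_lit 2445) (Dv.wd (nat_lit 96) [Mv.f (nat_lit 6605), Mv.b (nat_lit 4836), Mv.f (nat_lit 5051), Mv.f (nat_lit 6690), Mv.f (nat_lit 7815)])))
(Tr.lf (Fc.ed (nat_lit 7818) (nat_lit 2747) Col.d (nat_lit 2995) (Dv.wd (nat_lit 90) [Mv.f (nat_lit 7817), Mv.f (nat_lit 6604), Mv.f (nat_lit 7288)]))))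
(Tr.nd (nat_lit 7820) (Tr.lf (Fc.ed (nat_lit 7819) (nat_lit 2158) Col.b (nat_lit 2996) Dv.df))
(Tr.nd (nat_lit 7821) (Tr.lf (Fc.ed (nat_lit 7820) (nat_lit 2996) Col.f (nat_lit 2870) (Dv.wd (nat_lit 20) [Mv.f (nat_lit 7557), Mv.b (nat_lit 5979), Mv.f (nat_lit 7819)])))
(Tr.lf (Fc.ed (nat_lit 7821) (nat_lit 2395) Col.b (nat_lit 2997) Dv.df)))))))
(Tr.nd (nat_lit 7832) (Tr.nd (nat_lit 7827) (Tr.nd (nat_lit 7824) (Tr.nd (nat_lit 7823) (Tr.lf (Fc.ed (nat_lit 7822) (nat_lit 2997) Col.f (nat_lit 1643) (Dv.wd (nat_lit 20) [Mv.b (nat_lit 4853), Mv.b (nat_lit 6497), Mv.f (nat_lit 7821)])))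
(Tr.lf (Fc.ed (nat_lit 7823) (nat_lit 1689) Col.f (nat_lit 2998) Dv.df)))
(Tr.nd (nat_lit 7825) (Tr.lf (Fc.ed (nat_lit 7824) (nat_lit 2998) Col.a (nat_lit 2997) (Dv.wd (nat_lit 16) [Mv.f (nat_lit 7822), Mv.b (nat_lit 4916), Mv.f (nat_lit 7823)])))
(Tr.nd (nat_lit 7826) (Tr.lf (Fc.ed (nat_lit 7825) (nat_lit 2998) Col.b (nat_lit 2665) (Dv.wd (nat_lit 66) [Mv.f (nat_lit 7110), Mv.b (nat_lit 4917), Mv.f (nat_lit 7823)])))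
(Tr.lf (Fc.ed (nat_lit 7826) (nat_lit 1538) Col.c (nat_lit 2999) Dv.df)))))
(Tr.nd (nat_lit 7829) (Tr.nd (nat_lit 7828) (Tr.lf (Fc.ed (nat_lit 7827) (nat_lit 2999) Col.f (nat_lit 2554) (Dv.wd (nat_lit 26) [Mv.b (nat_lit 6867), Mv.f (nat_lit 4579), Mv.f (nat_lit 7826)])))
(Tr.lf (Fc.ed (nat_lit 7828) (nat_lit 1827) Col.a (nat_lit 3000) Dv.df)))
(Tr.nd (nat_lit 7830) (Tr.lf (Fc.ed (nat_lit 7829) (nat_lit 3000) Col.gi (nat_lit 2463) (Dv.wd (nat_lit 12) [Mv.f (nat_lit 6643), Mv.f (nat_lit 6111), Mv.f (nat_lit 7828)])))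
(Tr.nd (nat_lit 7831) (Tr.lf (Fc.ed (nat_lit 7830) (nat_lit 3000) Col.b (nat_lit 3000) (Dv.wd (nat_lit 65) [Mv.b (nat_lit 7828), Mv.b (nat_lit 5225), Mv.f (nat_lit 3601), Mv.f (nat_lit 5225), Mv.f (nat_lit 7828)])))
(Tr.lf (Fc.ed (nat_lit 7831) (nat_lit 1825) Col.g (nat_lit 3001) Dv.df))))))
(Tr.nd (nat_lit 7837) (Tr.nd (nat_lit 7834) (Tr.nd (nat_lit 7833) (Tr.lf (Fc.ed (nat_lit 7832) (nat_lit 3001) Col.g (nat_lit 1617) (Dv.wd (nat_lit 9) [Mv.b (nat_lit 5446), Mv.f (nat_lit 5447), Mv.f (nat_lit 7831)])))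
(Tr.lf (Fc.ed (nat_lit 7833) (nat_lit 2777) Col.b (nat_lit 3002) Dv.df)))
(Tr.nd (nat_lit 7835) (Tr.lf (Fc.ed (nat_lit 7834) (nat_lit 3002) Col.c (nat_lit 2950) (Dv.wd (nat_lit 135) [Mv.b (nat_lit 7725), Mv.f (nat_lit 3900), Mv.b (nat_lit 3344), Mv.b (nat_lit 2906), Mv.b (nat_lit 3678), Mv.f (nat_lit 4099), Mv.b (nat_lit 3803), Mv.f (nat_lit 4248), Mv.b (nat_lit 7352), Mv.f (nat_lit 7833)])))
(Tr.nd (nat_lit 7836) (Tr.lf (Fc.ed (nat_lit 7835) (nat_lit 2753) Col.a (nat_lit 3003) Dv.df))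
(Tr.lf (Fc.ed (nat_lit 7836) (nat_lit 1669) Col.g (nat_lit 3004) Dv.df)))))
(Tr.nd (nat_lit 7840) (Tr.nd (nat_lit 7838) (Tr.lf (Fc.ed (nat_lit 7837) (nat_lit 2998) Col.g (nat_lit 3005) Dv.df))
(Tr.nd (nat_lit 7839) (Tr.lf (Fc.ed (nat_lit 7838) (nat_lit 3005) Col.g (nat_lit 1643) (Dv.wd (nat_lit 9) [Mv.b (nat_lit 4916), Mv.f (nat_lit 7823), Mv.f (nat_lit 7837)])))
(Tr.lf (Fc.ed (nat_lit 7839) (nat_lit 2788) Col.g (nat_lit 3006) Dv.df))))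
(Tr.nd (nat_lit 7841) (Tr.lf (Fc.ed (nat_lit 7840) (nat_lit 2498) Col.gi (nat_lit 3007) Dv.df))
(Tr.nd (nat_lit 7842) (Tr.lf (Fc.ed (nat_lit 7841) (nat_lit 3007) Col.gi (nat_lit 2838) (Dv.wd (nat_lit 24) [Mv.f (nat_lit 7488), Mv.b (nat_lit 6732), Mv.f (nat_lit 7840)])))
(Tr.lf (Fc.ed (nat_lit 7842) (nat_lit 1675) Col.f (nat_lit 3008) Dv.df))))))))
(Tr.nd (nat_lit 7864) (Tr.nd (nat_lit 7853) (Tr.nd (nat_lit 7848) (Tr.nd (nat_lit 7845) (Tr.nd (nat_lit 7844) (Tr.lf (Fc.ed (nat_lit 7843) (nat_lit 3008) Col.a (nat_lit 2872) (Dv.wd (nat_lit 16) [Mv.b (nat_lit 7661), Mv.b (nat_lit 7660), Mv.f (nat_lit 7842)])))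
(Tr.lf (Fc.ed (nat_lit 7844) (nat_lit 1816) Col.f (nat_lit 3009) Dv.df)))
(Tr.nd (nat_lit 7846) (Tr.lf (Fc.ed (nat_lit 7845) (nat_lit 3009) Col.a (nat_lit 2804) (Dv.wd (nat_lit 16) [Mv.b (nat_lit 7416), Mv.b (nat_lit 5199), Mv.f (nat_lit 7844)])))
(Tr.nd (nat_lit 7847) (Tr.lf (Fc.ed (nat_lit 7846) (nat_lit 3009) Col.b (nat_lit 2402) (Dv.wd (nat_lit 66) [Mv.b (nat_lit 6508), Mv.b (nat_lit 5200), Mv.f (nat_lit 7844)])))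
(Tr.lf (Fc.ed (nat_lit 7847) (nat_lit 3009) Col.d (nat_lit 3009) (Dv.wd (nat_lit 21) [Mv.b (nat_lit 7844), Mv.f (nat_lit 5201), Mv.f (nat_lit 7844)]))))))
(Tr.nd (nat_lit 7850) (Tr.nd (nat_lit 7849) (Tr.lf (Fc.ed (nat_lit 7848) (nat_lit 3009) Col.e (nat_lit 2998) (Dv.wd (nat_lit 22) [Mv.b (nat_lit 7823), Mv.b (nat_lit 4915), Mv.b (nat_lit 4116), Mv.f (nat_lit 5198), Mv.f (nat_lit 7844)])))
(Tr.lf (Fc.ed (nat_lit 7849) (nat_lit 1092) Col.b (nat_lit 3010) Dv.df)))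
(Tr.nd (nat_lit 7851) (Tr.lf (Fc.ed (nat_lit 7850) (nat_lit 3010) Col.d (nat_lit 2863) (Dv.wd (nat_lit 58) [Mv.b (nat_lit 7541), Mv.f (nat_lit 3372), Mv.f (nat_lit 7849)])))
(Tr.nd (nat_lit 7852) (Tr.lf (Fc.ed (nat_lit 7851) (nat_lit 3010) Col.f (nat_lit 2759) (Dv.wd (nat_lit 20) [Mv.b (nat_lit 7312), Mv.b (nat_lit 3374), Mv.f (nat_lit 7849)])))
(Tr.lf (Fc.ed (nat_lit 7852) (nat_lit 2369) Col.a (nat_lit 3011) Dv.df))))))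
(Tr.nd (nat_lit 7858) (Tr.nd (nat_lit 7855) (Tr.nd (nat_lit 7854) (Tr.lf (Fc.ed (nat_lit 7853) (nat_lit 3011) Col.f (nat_lit 1627) (Dv.wd (nat_lit 35) [Mv.b (nat_lit 4778), Mv.b (nat_lit 6454), Mv.f (nat_lit 7852)])))
(Tr.lf (Fc.ed (nat_lit 7854) (nat_lit 2991) Col.f (nat_lit 3012) Dv.df)))
(Tr.nd (nat_lit 7856) (Tr.lf (Fc.ed (nat_lit 7855) (nat_lit 3012) Col.d (nat_lit 2449) (Dv.wd (nat_lit 21) [Mv.b (nat_lit 6728), Mv.f (nat_lit 7808), Mv.f (nat_lit 7854)])))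
(Tr.nd (nat_lit 7857) (Tr.lf (Fc.ed (nat_lit 7856) (nat_lit 1931) Col.a (nat_lit 3013) Dv.df))
(Tr.lf (Fc.ed (nat_lit 7857) (nat_lit 3013) Col.f (nat_lit 2009) (Dv.wd (nat_lit 35) [Mv.b (nat_lit 5599), Mv.f (nat_lit 5437), Mv.f (nat_lit 7856)]))))))
(Tr.nd (nat_lit 7861) (Tr.nd (nat_lit 7859) (Tr.lf (Fc.ed (nat_lit 7858) (nat_lit 2905) Col.g (nat_lit 3014) Dv.df))
(Tr.nd (nat_lit 7860) (Tr.lf (Fc.ed (nat_lit 7859) (nat_lit 3014) Col.g (nat_lit 1530) (Dv.wd (nat_lit 9) [Mv.f (nat_lit 5777), Mv.f (nat_lit 7635), Mv.f (nat_lit 7858)])))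
(Tr.lf (Fc.ed (nat_lit 7860) (nat_lit 2529) Col.gi (nat_lit 3015) Dv.df))))
(Tr.nd (nat_lit 7862) (Tr.lf (Fc.ed (nat_lit 7861) (nat_lit 3015) Col.gi (nat_lit 1533) (Dv.wd (nat_lit 24) [Mv.f (nat_lit 5702), Mv.b (nat_lit 6807), Mv.f (nat_lit 7860)])))
(Tr.nd (nat_lit 7863) (Tr.lf (Fc.ed (nat_lit 7862) (nat_lit 1748) Col.g (nat_lit 3016) Dv.df))
(Tr.lf (Fc.ed (nat_lit 7863) (nat_lit 3016) Col.g (nat_lit 1284) (Dv.wd (nat_lit 9) [Mv.f (nat_lit 5021), Mv.f (nat_lit 5060), Mv.f (nat_lit 7862)]))))))))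
(Tr.nd (nat_lit 7874) (Tr.nd (nat_lit 7869) (Tr.nd (nat_lit 7866) (Tr.nd (nat_lit 7865) (Tr.lf (Fc.ed (nat_lit 7864) (nat_lit 2928) Col.gi (nat_lit 3017) Dv.df))
(Tr.lf (Fc.ed (nat_lit 7865) (nat_lit 3017) Col.gi (nat_lit 1941) (Dv.wd (nat_lit 24) [Mv.b (nat_lit 5456), Mv.f (nat_lit 7681), Mv.f (nat_lit 7864)]))))
(Tr.nd (nat_lit 7867) (Tr.lf (Fc.ed (nat_lit 7866) (nat_lit 2546) Col.f (nat_lit 3018) Dv.df))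
(Tr.nd (nat_lit 7868) (Tr.lf (Fc.ed (nat_lit 7867) (nat_lit 3018) Col.b (nat_lit 2197) (Dv.wd (nat_lit 66) [Mv.f (nat_lit 6075), Mv.b (nat_lit 6851), Mv.f (nat_lit 7866)])))
(Tr.lf (Fc.ed (nat_lit 7868) (nat_lit 3018) Col.d (nat_lit 2514) (Dv.wd (nat_lit 21) [Mv.f (nat_lit 6769), Mv.f (nat_lit 6850), Mv.f (nat_lit 7866)]))))))
(Tr.nd (nat_lit 7871) (Tr.nd (nat_lit 7870) (Tr.lf (Fc.ed (nat_lit 7869) (nat_lit 2631) Col.gi (nat_lit 3019) Dv.df))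
(Tr.lf (Fc.ed (nat_lit 7870) (nat_lit 3019) Col.gi (nat_lit 2576) (Dv.wd (nat_lit 24) [Mv.b (nat_lit 6914), Mv.f (nat_lit 7028), Mv.f (nat_lit 7869)]))))
(Tr.nd (nat_lit 7872) (Tr.lf (Fc.ed (nat_lit 7871) (nat_lit 2842) Col.c (nat_lit 3020) Dv.df))
(Tr.nd (nat_lit 7873) (Tr.lf (Fc.ed (nat_lit 7872) (nat_lit 2876) Col.g (nat_lit 3021) Dv.df))
(Tr.lf (Fc.ed (nat_lit 7873) (nat_lit 3021) Col.g (nat_lit 1669) (Dv.wd (nat_lit 9) [Mv.b (nat_lit 5209), Mv.b (nat_lit 7572), Mv.f (nat_lit 7872)])))))))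
(Tr.nd (nat_lit 7879) (Tr.nd (nat_lit 7876) (Tr.nd (nat_lit 7875) (Tr.lf (Fc.ed (nat_lit 7874) (nat_lit 1622) Col.gi (nat_lit 3022) Dv.df))
(Tr.lf (Fc.ed (nat_lit 7875) (nat_lit 3022) Col.gi (nat_lit 1495) (Dv.wd (nat_lit 24) [Mv.b (nat_lit 7206), Mv.b (nat_lit 7204), Mv.f (nat_lit 7874)]))))
(Tr.nd (nat_lit 7877) (Tr.lf (Fc.ed (nat_lit 7876) (nat_lit 1186) Col.gi (nat_lit 3023) Dv.df))
(Tr.nd (nat_lit 7878) (Tr.lf (Fc.ed (nat_lit 7877) (nat_lit 3023) Col.gi (nat_lit 2693) (Dv.wd (nat_lit 24) [Mv.f (nat_lit 7173), Mv.b (nat_lit 6332), Mv.f (nat_lit 7876)])))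
(Tr.lf (Fc.ed (nat_lit 7878) (nat_lit 2343) Col.c (nat_lit 3024) Dv.df)))))
(Tr.nd (nat_lit 7882) (Tr.nd (nat_lit 7880) (Tr.lf (Fc.ed (nat_lit 7879) (nat_lit 1271) Col.g (nat_lit 3025) Dv.df))
(Tr.nd (nat_lit 7881) (Tr.lf (Fc.ed (nat_lit 7880) (nat_lit 3025) Col.g (nat_lit 2738) (Dv.wd (nat_lit 9) [Mv.f (nat_lit 7266), Mv.b (nat_lit 6519), Mv.f (nat_lit 7879)])))
(Tr.lf (Fc.ed (nat_lit 7881) (nat_lit 1483) Col.gi (nat_lit 3026) Dv.df))))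
(Tr.nd (nat_lit 7883) (Tr.lf (Fc.ed (nat_lit 7882) (nat_lit 3026) Col.gi (nat_lit 2709) (Dv.wd (nat_lit 24) [Mv.f (nat_lit 7206), Mv.f (nat_lit 4488), Mv.f (nat_lit 7881)])))
(Tr.nd (nat_lit 7884) (Tr.lf (Fc.ed (nat_lit 7883) (nat_lit 1317) Col.gi (nat_lit 3027) Dv.df))
(Tr.lf (Fc.ed (nat_lit 7884) (nat_lit 1702) Col.g (nat_lit 3028) Dv.df))))))))))))))
end CfsgLib.TCON
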