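import Cfsg.Agent.EqBase
import Cfsg.Agent.LibTCONW
set_option autoImplicit false
set_option linter.all false
set_option maxRecDepth 1000000
set_option maxHeartbeats 0
namespace CfsgLib.TCON
open CfsgLib.TC Cfsg.Spor CfsgLib.TCG_ON
noncomputable def mini2S_3 : Tr (Fc Col) := (Tr.nd (nat_lit 9199) (Tr.nd (nat_lit 8542) (Tr.nd (nat_lit 8213) (Tr.nd (nat_lit 8049) (Tr.nd (nat_lit 7967) (Tr.nd (nat_lit 7926) (Tr.nd (nat_lit 7905) (Tr.nd (nat_lit 7895) (Tr.nd (nat_lit 7890) (Tr.nd (nat_lit 7887) (Tr.nd (nat_lit 7886) (Tr.lf (Fc.ed (nat_lit 7885) (nat_lit 2974) Col.d (nat_lit 3029) Dv.df))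
(Tr.lf (Fc.ed (nat_lit 7886) (nat_lit 3029) Col.f (nat_lit 2700) (Dv.wd (nat_lit 11) [Mv.b (nat_lit 7187), Mv.b (nat_lit 7771), Mv.f (nat_lit 7885)]))))
(Tr.nd (nat_lit 7888) (Tr.lf (Fc.ed (nat_lit 7887) (nat_lit 2990) Col.a (nat_lit 3030) Dv.df))
(Tr.nd (nat_lit 7889) (Tr.lf (Fc.ed (nat_lit 7888) (nat_lit 3030) Col.f (nat_lit 3001) (Dv.wd (nat_lit 10) [Mv.f (nat_lit 7832), Mv.b (nat_lit 7807), Mv.f (nat_lit 7887)])))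
(Tr.lf (Fc.ed (nat_lit 7889) (nat_lit 2658) Col.b (nat_lit 3031) Dv.df)))))
(Tr.nd (nat_lit 7892) (Tr.nd (nat_lit 7891) (Tr.lf (Fc.ed (nat_lit 7890) (nat_lit 3031) Col.e (nat_lit 2496) (Dv.wd (nat_lit 52) [Mv.b (nat_lit 6727), Mv.b (nat_lit 7514), Mv.f (nat_lit 7889)])))
(Tr.lf (Fc.ed (nat_lit 7891) (nat_lit 2432) Col.d (nat_lit 3032) Dv.df)))
(Tr.nd (nat_lit 7893) (Tr.lf (Fc.ed (nat_lit 7892) (nat_lit 3032) Col.f (nat_lit 2230) (Dv.wd (nat_lit 11) [Mv.b (nat_lit 6134), Mv.f (nat_lit 6572), Mv.f (nat_lit 7891)])))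
(Tr.nd (nat_lit 7894) (Tr.lf (Fc.ed (nat_lit 7893) (nat_lit 1711) Col.a (nat_lit 3033) Dv.df))
(Tr.lf (Fc.ed (nat_lit 7894) (nat_lit 3033) Col.c (nat_lit 2247) (Dv.wd (nat_lit 33) [Mv.b (nat_lit 6164), Mv.f (nat_lit 4970), Mv.f (nat_lit 7893)])))))))
(Tr.nd (nat_lit 7900) (Tr.nd (nat_lit 7897) (Tr.nd (nat_lit 7896) (Tr.lf (Fc.ed (nat_lit 7895) (nat_lit 3033) Col.f (nat_lit 2465) (Dv.wd (nat_lit 35) [Mv.f (nat_lit 6649), Mv.b (nat_lit 5145), Mv.f (nat_lit 7893)])))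
(Tr.lf (Fc.ed (nat_lit 7896) (nat_lit 2877) Col.d (nat_lit 3034) Dv.df)))
(Tr.nd (nat_lit 7898) (Tr.lf (Fc.ed (nat_lit 7897) (nat_lit 2840) Col.b (nat_lit 3035) Dv.df))
(Tr.nd (nat_lit 7899) (Tr.lf (Fc.ed (nat_lit 7898) (nat_lit 3035) Col.c (nat_lit 1469) (Dv.wd (nat_lit 142) [Mv.f (nat_lit 4432), Mv.f (nat_lit 2890), Mv.f (nat_lit 2889), Mv.b (nat_lit 3284), Mv.f (nat_lit 4744), Mv.f (nat_lit 4745), Mv.f (nat_lit 7035), Mv.b (nat_lit 7063), Mv.b (nat_lit 7492), Mv.f (nat_lit 7897)])))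
(Tr.lf (Fc.ed (nat_lit 7899) (nat_lit 1937) Col.a (nat_lit 3036) Dv.df)))))
(Tr.nd (nat_lit 7902) (Tr.nd (nat_lit 7901) (Tr.lf (Fc.ed (nat_lit 7900) (nat_lit 3036) Col.f (nat_lit 1720) (Dv.wd (nat_lit 10) [Mv.f (nat_lit 4997), Mv.f (nat_lit 5450), Mv.f (nat_lit 7899)])))
(Tr.lf (Fc.ed (nat_lit 7901) (nat_lit 2273) Col.a (nat_lit 1720) (Dv.wd (nat_lit 79) [Mv.b (nat_lit 7900), Mv.b (nat_lit 7899), Mv.f (nat_lit 6231)]))))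
(Tr.nd (nat_lit 7903) (Tr.lf (Fc.ed (nat_lit 7902) (nat_lit 894) Col.gi (nat_lit 1937) (Dv.wd (nat_lit 24) [Mv.f (nat_lit 6231), Mv.f (nat_lit 7901), Mv.b (nat_lit 4996)])))
(Tr.nd (nat_lit 7904) (Tr.lf (Fc.ed (nat_lit 7903) (nat_lit 2557) Col.c (nat_lit 3037) Dv.df))
(Tr.lf (Fc.ed (nat_lit 7904) (nat_lit 3037) Col.a (nat_lit 1465) (Dv.wd (nat_lit 19) [Mv.b (nat_lit 4420), Mv.f (nat_lit 6870), Mv.f (nat_lit 7903)]))))))))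
(Tr.nd (nat_lit 7915) (Tr.nd (nat_lit 7910) (Tr.nd (nat_lit 7907) (Tr.nd (nat_lit 7906) (Tr.lf (Fc.ed (nat_lit 7905) (nat_lit 2712) Col.b (nat_lit 3038) Dv.df))
(Tr.lf (Fc.ed (nat_lit 7906) (nat_lit 3038) Col.c (nat_lit 3014) (Dv.wd (nat_lit 135) [Mv.f (nat_lit 7859), Mv.f (nat_lit 4562), Mv.b (nat_lit 4560), Mv.b (nat_lit 2215), Mv.f (nat_lit 2216), Mv.b (nat_lit 1979), Mv.f (nat_lit 2118), Mv.f (nat_lit 4385), Mv.b (nat_lit 7213), Mv.f (nat_lit 7905)]))))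
(Tr.nd (nat_lit 7908) (Tr.lf (Fc.ed (nat_lit 7907) (nat_lit 2759) Col.c (nat_lit 3039) Dv.df))
(Tr.nd (nat_lit 7909) (Tr.lf (Fc.ed (nat_lit 7908) (nat_lit 2858) Col.e (nat_lit 3040) Dv.df))
(Tr.lf (Fc.ed (nat_lit 7909) (nat_lit 3040) Col.d (nat_lit 3005) (Dv.wd (nat_lit 91) [Mv.f (nat_lit 7838), Mv.b (nat_lit 5010), Mv.b (nat_lit 5009), Mv.f (nat_lit 4146), Mv.b (nat_lit 3466), Mv.b (nat_lit 1139), Mv.b (nat_lit 3286), Mv.f (nat_lit 4014), Mv.b (nat_lit 7533), Mv.f (nat_lit 7908)]))))))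
(Tr.nd (nat_lit 7912) (Tr.nd (nat_lit 7911) (Tr.lf (Fc.ed (nat_lit 7910) (nat_lit 1574) Col.b (nat_lit 3041) Dv.df))
(Tr.lf (Fc.ed (nat_lit 7911) (nat_lit 2909) Col.c (nat_lit 3042) Dv.df)))
(Tr.nd (nat_lit 7913) (Tr.lf (Fc.ed (nat_lit 7912) (nat_lit 3042) Col.e (nat_lit 1647) (Dv.wd (nat_lit 25) [Mv.f (nat_lit 4817), Mv.f (nat_lit 7642), Mv.f (nat_lit 7911)])))
(Tr.nd (nat_lit 7914) (Tr.lf (Fc.ed (nat_lit 7913) (nat_lit 2225) Col.gi (nat_lit 3043) Dv.df))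
(Tr.lf (Fc.ed (nat_lit 7914) (nat_lit 3043) Col.gi (nat_lit 1384) (Dv.wd (nat_lit 24) [Mv.b (nat_lit 4540), Mv.b (nat_lit 6125), Mv.f (nat_lit 7913)])))))))
(Tr.nd (nat_lit 7920) (Tr.nd (nat_lit 7917) (Tr.nd (nat_lit 7916) (Tr.lf (Fc.ed (nat_lit 7915) (nat_lit 2616) Col.d (nat_lit 3044) Dv.df))
(Tr.lf (Fc.ed (nat_lit 7916) (nat_lit 3044) Col.e (nat_lit 3015) (Dv.wd (nat_lit 74) [Mv.f (nat_lit 7861), Mv.b (nat_lit 4569), Mv.f (nat_lit 2278), Mv.b (nat_lit 1608), Mv.b (nat_lit 3027), Mv.f (nat_lit 3029), Mv.f (nat_lit 3857), Mv.b (nat_lit 3933), Mv.f (nat_lit 6998), Mv.f (nat_lit 7915)]))))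
(Tr.nd (nat_lit 7918) (Tr.lf (Fc.ed (nat_lit 7917) (nat_lit 1775) Col.gi (nat_lit 3045) Dv.df))
(Tr.nd (nat_lit 7919) (Tr.lf (Fc.ed (nat_lit 7918) (nat_lit 1887) Col.g (nat_lit 3046) Dv.df))
(Tr.lf (Fc.ed (nat_lit 7919) (nat_lit 3046) Col.g (nat_lit 1693) (Dv.wd (nat_lit 9) [Mv.b (nat_lit 7653), Mv.b (nat_lit 7652), Mv.f (nat_lit 7918)]))))))
(Tr.nd (nat_lit 7923) (Tr.nd (nat_lit 7921) (Tr.lf (Fc.ed (nat_lit 7920) (nat_lit 1930) Col.a (nat_lit 3047) Dv.df))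
(Tr.nd (nat_lit 7922) (Tr.lf (Fc.ed (nat_lit 7921) (nat_lit 1178) Col.b (nat_lit 3048) Dv.df))
(Tr.lf (Fc.ed (nat_lit 7922) (nat_lit 3048) Col.f (nat_lit 2841) (Dv.wd (nat_lit 20) [Mv.b (nat_lit 7493), Mv.b (nat_lit 3635), Mv.f (nat_lit 7921)])))))
(Tr.nd (nat_lit 7924) (Tr.lf (Fc.ed (nat_lit 7923) (nat_lit 1752) Col.a (nat_lit 3049) Dv.df))
(Tr.nd (nat_lit 7925) (Tr.lf (Fc.ed (nat_lit 7924) (nat_lit 3049) Col.e (nat_lit 2974) (Dv.wd (nat_lit 56) [Mv.b (nat_lit 7769), Mv.f (nat_lit 5072), Mv.f (nat_lit 7923)])))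
(Tr.lf (Fc.ed (nat_lit 7925) (nat_lit 3049) Col.f (nat_lit 2464) (Dv.wd (nat_lit 10) [Mv.f (nat_lit 6660), Mv.b (nat_lit 6663), Mv.f (nat_lit 7923)])))))))))
(Tr.nd (nat_lit 7946) (Tr.nd (nat_lit 7936) (Tr.nd (nat_lit 7931) (Tr.nd (nat_lit 7928) (Tr.nd (nat_lit 7927) (Tr.lf (Fc.ed (nat_lit 7926) (nat_lit 2829) Col.f (nat_lit 2332) (Dv.wd (nat_lit 96) [Mv.b (nat_lit 6368), Mv.b (nat_lit 7771), Mv.b (nat_lit 7924), Mv.f (nat_lit 7925), Mv.b (nat_lit 7510)])))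
(Tr.lf (Fc.ed (nat_lit 7927) (nat_lit 2829) Col.a (nat_lit 2829) (Dv.wd (nat_lit 114) [Mv.f (nat_lit 7926), Mv.f (nat_lit 7081), Mv.b (nat_lit 7470)]))))
(Tr.nd (nat_lit 7929) (Tr.lf (Fc.ed (nat_lit 7928) (nat_lit 2464) Col.a (nat_lit 2464) (Dv.wd (nat_lit 31) [Mv.b (nat_lit 7510), Mv.f (nat_lit 7927), Mv.f (nat_lit 7510)])))
(Tr.nd (nat_lit 7930) (Tr.lf (Fc.al (nat_lit 7929) (nat_lit 2337) (nat_lit 2168) (Dv.wd (nat_lit 97) [Mv.f (nat_lit 6644), Mv.f (nat_lit 7928), Mv.b (nat_lit 6644), Mv.b (nat_lit 6381)])))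
(Tr.lf (Fc.al (nat_lit 7930) (nat_lit 1565) (nat_lit 2974) (Dv.wd (nat_lit 103) [Mv.f (nat_lit 7770), Mv.f (nat_lit 7929), Mv.b (nat_lit 6002)]))))))
(Tr.nd (nat_lit 7933) (Tr.nd (nat_lit 7932) (Tr.lf (Fc.al (nat_lit 7931) (nat_lit 2575) (nat_lit 3029) (Dv.wd (nat_lit 120) [Mv.b (nat_lit 7885), Mv.b (nat_lit 7930), Mv.f (nat_lit 6906)])))
(Tr.lf (Fc.al (nat_lit 7932) (nat_lit 2908) (nat_lit 2700) (Dv.wd (nat_lit 30) [Mv.b (nat_lit 7886), Mv.b (nat_lit 7931), Mv.f (nat_lit 7641)]))))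
(Tr.nd (nat_lit 7934) (Tr.lf (Fc.ed (nat_lit 7933) (nat_lit 2700) Col.f (nat_lit 2575) (Dv.wd (nat_lit 30) [Mv.f (nat_lit 7641), Mv.f (nat_lit 7932)])))
(Tr.nd (nat_lit 7935) (Tr.lf (Fc.ed (nat_lit 7934) (nat_lit 2971) Col.f (nat_lit 2822) (Dv.wd (nat_lit 26) [Mv.f (nat_lit 7453), Mv.f (nat_lit 7933), Mv.f (nat_lit 7764)])))
(Tr.lf (Fc.ed (nat_lit 7935) (nat_lit 2489) Col.f (nat_lit 2459) (Dv.wd (nat_lit 11) [Mv.b (nat_lit 7765), Mv.f (nat_lit 7934), Mv.b (nat_lit 7452)])))))))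
(Tr.nd (nat_lit 7941) (Tr.nd (nat_lit 7938) (Tr.nd (nat_lit 7937) (Tr.lf (Fc.ed (nat_lit 7936) (nat_lit 2971) Col.a (nat_lit 2971) (Dv.wd (nat_lit 166) [Mv.f (nat_lit 7934), Mv.b (nat_lit 7452), Mv.f (nat_lit 6705), Mv.f (nat_lit 5691), Mv.b (nat_lit 6646), Mv.b (nat_lit 6644), Mv.b (nat_lit 6002), Mv.f (nat_lit 6906), Mv.f (nat_lit 7764)])))
(Tr.lf (Fc.ed (nat_lit 7937) (nat_lit 2459) Col.a (nat_lit 2459) (Dv.wd (nat_lit 54) [Mv.b (nat_lit 7765), Mv.f (nat_lit 7936), Mv.f (nat_lit 7765)]))))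
(Tr.nd (nat_lit 7939) (Tr.lf (Fc.ed (nat_lit 7938) (nat_lit 2489) Col.a (nat_lit 2489) (Dv.wd (nat_lit 79) [Mv.f (nat_lit 7935), Mv.f (nat_lit 7937), Mv.b (nat_lit 7935)])))
(Tr.nd (nat_lit 7940) (Tr.lf (Fc.al (nat_lit 7939) (nat_lit 2087) (nat_lit 1865) (Dv.wd (nat_lit 134) [Mv.b (nat_lit 6705), Mv.f (nat_lit 7938), Mv.f (nat_lit 6705), Mv.b (nat_lit 5761)])))
(Tr.lf (Fc.ed (nat_lit 7940) (nat_lit 1865) Col.f (nat_lit 1960) (Dv.wd (nat_lit 30) [Mv.f (nat_lit 5760), Mv.f (nat_lit 7939)]))))))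
(Tr.nd (nat_lit 7943) (Tr.nd (nat_lit 7942) (Tr.lf (Fc.ed (nat_lit 7941) (nat_lit 2444) Col.c (nat_lit 3050) Dv.df))
(Tr.lf (Fc.ed (nat_lit 7942) (nat_lit 3050) Col.f (nat_lit 2537) (Dv.wd (nat_lit 26) [Mv.b (nat_lit 6825), Mv.f (nat_lit 6689), Mv.f (nat_lit 7941)]))))
(Tr.nd (nat_lit 7944) (Tr.lf (Fc.ed (nat_lit 7943) (nat_lit 3050) Col.b (nat_lit 1666) (Dv.wd (nat_lit 87) [Mv.f (nat_lit 4864), Mv.f (nat_lit 4115), Mv.f (nat_lit 3445), Mv.f (nat_lit 6601), Mv.f (nat_lit 7941)])))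
(Tr.nd (nat_lit 7945) (Tr.lf (Fc.ed (nat_lit 7944) (nat_lit 2754) Col.gi (nat_lit 3051) Dv.df))
(Tr.lf (Fc.ed (nat_lit 7945) (nat_lit 3051) Col.gi (nat_lit 1568) (Dv.wd (nat_lit 24) [Mv.b (nat_lit 7629), Mv.f (nat_lit 7627), Mv.f (nat_lit 7944)]))))))))
(Tr.nd (nat_lit 7956) (Tr.nd (nat_lit 7951) (Tr.nd (nat_lit 7948) (Tr.nd (nat_lit 7947) (Tr.lf (Fc.ed (nat_lit 7946) (nat_lit 2949) Col.c (nat_lit 3052) Dv.df))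
(Tr.lf (Fc.ed (nat_lit 7947) (nat_lit 3052) Col.g (nat_lit 1768) (Dv.wd (nat_lit 123) [Mv.f (nat_lit 5109), Mv.b (nat_lit 5108), Mv.f (nat_lit 2273), Mv.f (nat_lit 2274), Mv.b (nat_lit 399), Mv.f (nat_lit 1413), Mv.b (nat_lit 2893), Mv.b (nat_lit 5102), Mv.f (nat_lit 7724), Mv.f (nat_lit 7946)]))))
(Tr.nd (nat_lit 7949) (Tr.lf (Fc.ed (nat_lit 7948) (nat_lit 3052) Col.gi (nat_lit 1983) (Dv.wd (nat_lit 88) [Mv.f (nat_lit 5548), Mv.f (nat_lit 5549), Mv.b (nat_lit 6463), Mv.f (nat_lit 6506), Mv.f (nat_lit 6507), Mv.b (nat_lit 5494), Mv.f (nat_lit 3417), Mv.f (nat_lit 5101), Mv.f (nat_lit 7724), Mv.f (nat_lit 7946)])))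
(Tr.nd (nat_lit 7950) (Tr.lf (Fc.ed (nat_lit 7949) (nat_lit 2837) Col.g (nat_lit 3053) Dv.df))
(Tr.lf (Fc.ed (nat_lit 7950) (nat_lit 3053) Col.g (nat_lit 1590) (Dv.wd (nat_lit 9) [Mv.b (nat_lit 7524), Mv.b (nat_lit 7523), Mv.f (nat_lit 7949)]))))))
(Tr.nd (nat_lit 7953) (Tr.nd (nat_lit 7952) (Tr.lf (Fc.ed (nat_lit 7951) (nat_lit 1879) Col.e (nat_lit 3054) Dv.df))
(Tr.lf (Fc.ed (nat_lit 7952) (nat_lit 3054) Col.a (nat_lit 3054) (Dv.wd (nat_lit 15) [Mv.b (nat_lit 7951), Mv.f (nat_lit 5333), Mv.f (nat_lit 7951)]))))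
(Tr.nd (nat_lit 7954) (Tr.lf (Fc.ed (nat_lit 7953) (nat_lit 3054) Col.b (nat_lit 2851) (Dv.wd (nat_lit 49) [Mv.b (nat_lit 7518), Mv.f (nat_lit 5334), Mv.f (nat_lit 7951)])))
(Tr.nd (nat_lit 7955) (Tr.lf (Fc.ed (nat_lit 7954) (nat_lit 3054) Col.d (nat_lit 2744) (Dv.wd (nat_lit 59) [Mv.f (nat_lit 7280), Mv.b (nat_lit 4375), Mv.b (nat_lit 4728), Mv.b (nat_lit 5332), Mv.f (nat_lit 7951)])))
(Tr.lf (Fc.ed (nat_lit 7955) (nat_lit 1693) Col.g (nat_lit 3055) Dv.df))))))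
(Tr.nd (nat_lit 7961) (Tr.nd (nat_lit 7958) (Tr.nd (nat_lit 7957) (Tr.lf (Fc.ed (nat_lit 7956) (nat_lit 3055) Col.g (nat_lit 1887) (Dv.wd (nat_lit 9) [Mv.f (nat_lit 5350), Mv.b (nat_lit 4927), Mv.f (nat_lit 7955)])))
(Tr.lf (Fc.ed (nat_lit 7957) (nat_lit 2713) Col.f (nat_lit 3056) Dv.df)))
(Tr.nd (nat_lit 7959) (Tr.lf (Fc.ed (nat_lit 7958) (nat_lit 3056) Col.a (nat_lit 2862) (Dv.wd (nat_lit 23) [Mv.f (nat_lit 7540), Mv.b (nat_lit 7215), Mv.f (nat_lit 7957)])))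
(Tr.nd (nat_lit 7960) (Tr.lf (Fc.ed (nat_lit 7959) (nat_lit 1912) Col.c (nat_lit 3057) Dv.df))
(Tr.lf (Fc.ed (nat_lit 7960) (nat_lit 3057) Col.a (nat_lit 2846) (Dv.wd (nat_lit 19) [Mv.b (nat_lit 7503), Mv.b (nat_lit 6881), Mv.f (nat_lit 7959)]))))))
(Tr.nd (nat_lit 7964) (Tr.nd (nat_lit 7962) (Tr.lf (Fc.ed (nat_lit 7961) (nat_lit 3057) Col.e (nat_lit 1650) (Dv.wd (nat_lit 25) [Mv.b (nat_lit 4825), Mv.b (nat_lit 5397), Mv.f (nat_lit 7959)])))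
(Tr.nd (nat_lit 7963) (Tr.lf (Fc.ed (nat_lit 7962) (nat_lit 1921) Col.c (nat_lit 3058) Dv.df))
(Tr.lf (Fc.ed (nat_lit 7963) (nat_lit 3058) Col.f (nat_lit 2238) (Dv.wd (nat_lit 26) [Mv.b (nat_lit 6147), Mv.f (nat_lit 5413), Mv.f (nat_lit 7962)])))))
(Tr.nd (nat_lit 7965) (Tr.lf (Fc.ed (nat_lit 7964) (nat_lit 1976) Col.gi (nat_lit 3059) Dv.df))
(Tr.nd (nat_lit 7966) (Tr.lf (Fc.ed (nat_lit 7965) (nat_lit 3059) Col.gi (nat_lit 1762) (Dv.wd (nat_lit 24) [Mv.b (nat_lit 5099), Mv.f (nat_lit 5532), Mv.f (nat_lit 7964)])))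
(Tr.lf (Fc.ed (nat_lit 7966) (nat_lit 1701) Col.gi (nat_lit 3060) Dv.df)))))))))
(Tr.nd (nat_lit 8008) (Tr.nd (nat_lit 7987) (Tr.nd (nat_lit 7977) (Tr.nd (nat_lit 7972) (Tr.nd (nat_lit 7969) (Tr.nd (nat_lit 7968) (Tr.lf (Fc.ed (nat_lit 7967) (nat_lit 3060) Col.gi (nat_lit 1620) (Dv.wd (nat_lit 24) [Mv.f (nat_lit 4756), Mv.f (nat_lit 4941), Mv.f (nat_lit 7966)])))
(Tr.lf (Fc.ed (nat_lit 7968) (nat_lit 2538) Col.c (nat_lit 3061) Dv.df)))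
(Tr.nd (nat_lit 7970) (Tr.lf (Fc.ed (nat_lit 7969) (nat_lit 3061) Col.f (nat_lit 2560) (Dv.wd (nat_lit 26) [Mv.f (nat_lit 6876), Mv.f (nat_lit 6827), Mv.f (nat_lit 7968)])))
(Tr.nd (nat_lit 7971) (Tr.lf (Fc.ed (nat_lit 7970) (nat_lit 3048) Col.d (nat_lit 3062) Dv.df))
(Tr.lf (Fc.ed (nat_lit 7971) (nat_lit 3062) Col.b (nat_lit 1177) (Dv.wd (nat_lit 37) [Mv.f (nat_lit 3634), Mv.f (nat_lit 7921), Mv.f (nat_lit 7970)]))))))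
(Tr.nd (nat_lit 7974) (Tr.nd (nat_lit 7973) (Tr.lf (Fc.ed (nat_lit 7972) (nat_lit 3062) Col.c (nat_lit 3062) (Dv.wd (nat_lit 152) [Mv.f (nat_lit 7971), Mv.b (nat_lit 3631), Mv.f (nat_lit 2108), Mv.f (nat_lit 3631), Mv.b (nat_lit 7971)])))
(Tr.lf (Fc.ed (nat_lit 7973) (nat_lit 3027) Col.f (nat_lit 3063) Dv.df)))
(Tr.nd (nat_lit 7975) (Tr.lf (Fc.ed (nat_lit 7974) (nat_lit 3063) Col.a (nat_lit 2945) (Dv.wd (nat_lit 23) [Mv.f (nat_lit 7717), Mv.f (nat_lit 7883), Mv.f (nat_lit 7973)])))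
(Tr.nd (nat_lit 7976) (Tr.lf (Fc.ed (nat_lit 7975) (nat_lit 1796) Col.a (nat_lit 3064) Dv.df))
(Tr.lf (Fc.ed (nat_lit 7976) (nat_lit 3064) Col.f (nat_lit 1867) (Dv.wd (nat_lit 10) [Mv.b (nat_lit 5309), Mv.b (nat_lit 5163), Mv.f (nat_lit 7975)])))))))
(Tr.nd (nat_lit 7982) (Tr.nd (nat_lit 7979) (Tr.nd (nat_lit 7978) (Tr.lf (Fc.ed (nat_lit 7977) (nat_lit 1755) Col.a (nat_lit 3065) Dv.df))
(Tr.lf (Fc.ed (nat_lit 7978) (nat_lit 2546) Col.a (nat_lit 3066) Dv.df)))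
(Tr.nd (nat_lit 7980) (Tr.lf (Fc.ed (nat_lit 7979) (nat_lit 3066) Col.e (nat_lit 2580) (Dv.wd (nat_lit 56) [Mv.b (nat_lit 6924), Mv.b (nat_lit 6852), Mv.f (nat_lit 7978)])))
(Tr.nd (nat_lit 7981) (Tr.lf (Fc.ed (nat_lit 7980) (nat_lit 2223) Col.b (nat_lit 3067) Dv.df))
(Tr.lf (Fc.ed (nat_lit 7981) (nat_lit 3067) Col.c (nat_lit 3016) (Dv.wd (nat_lit 135) [Mv.f (nat_lit 7863), Mv.f (nat_lit 3925), Mv.b (nat_lit 3084), Mv.b (nat_lit 840), Mv.b (nat_lit 712), Mv.f (nat_lit 263), Mv.b (nat_lit 893), Mv.f (nat_lit 3877), Mv.f (nat_lit 6120), Mv.f (nat_lit 7980)]))))))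
(Tr.nd (nat_lit 7984) (Tr.nd (nat_lit 7983) (Tr.lf (Fc.ed (nat_lit 7982) (nat_lit 1930) Col.c (nat_lit 3068) Dv.df))
(Tr.lf (Fc.ed (nat_lit 7983) (nat_lit 1371) Col.g (nat_lit 3069) Dv.df)))
(Tr.nd (nat_lit 7985) (Tr.lf (Fc.ed (nat_lit 7984) (nat_lit 3069) Col.g (nat_lit 2752) (Dv.wd (nat_lit 9) [Mv.f (nat_lit 7300), Mv.f (nat_lit 5059), Mv.f (nat_lit 7983)])))
(Tr.nd (nat_lit 7986) (Tr.lf (Fc.ed (nat_lit 7985) (nat_lit 2111) Col.g (nat_lit 3070) Dv.df))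
(Tr.lf (Fc.ed (nat_lit 7986) (nat_lit 3070) Col.g (nat_lit 1658) (Dv.wd (nat_lit 9) [Mv.b (nat_lit 4845), Mv.f (nat_lit 5808), Mv.f (nat_lit 7985)]))))))))
(Tr.nd (nat_lit 7997) (Tr.nd (nat_lit 7992) (Tr.nd (nat_lit 7989) (Tr.nd (nat_lit 7988) (Tr.lf (Fc.ed (nat_lit 7987) (nat_lit 2419) Col.gi (nat_lit 3071) Dv.df))
(Tr.lf (Fc.ed (nat_lit 7988) (nat_lit 3071) Col.c (nat_lit 1813) (Dv.wd (nat_lit 143) [Mv.f (nat_lit 5194), Mv.b (nat_lit 2671), Mv.f (nat_lit 2673), Mv.b (nat_lit 28), Mv.b (nat_lit 262), Mv.f (nat_lit 2845), Mv.b (nat_lit 4071), Mv.f (nat_lit 6110), Mv.f (nat_lit 6546), Mv.f (nat_lit 7987)]))))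
(Tr.nd (nat_lit 7990) (Tr.lf (Fc.ed (nat_lit 7989) (nat_lit 2545) Col.d (nat_lit 3072) Dv.df))
(Tr.nd (nat_lit 7991) (Tr.lf (Fc.ed (nat_lit 7990) (nat_lit 3072) Col.b (nat_lit 986) (Dv.wd (nat_lit 37) [Mv.f (nat_lit 3105), Mv.b (nat_lit 6849), Mv.f (nat_lit 7989)])))
(Tr.lf (Fc.ed (nat_lit 7991) (nat_lit 1547) Col.g (nat_lit 3073) Dv.df)))))
(Tr.nd (nat_lit 7994) (Tr.nd (nat_lit 7993) (Tr.lf (Fc.ed (nat_lit 7992) (nat_lit 3073) Col.g (nat_lit 1694) (Dv.wd (nat_lit 9) [Mv.f (nat_lit 4929), Mv.f (nat_lit 4597), Mv.f (nat_lit 7991)])))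
(Tr.lf (Fc.ed (nat_lit 7993) (nat_lit 1723) Col.g (nat_lit 3074) Dv.df)))
(Tr.nd (nat_lit 7995) (Tr.lf (Fc.ed (nat_lit 7994) (nat_lit 3074) Col.g (nat_lit 2141) (Dv.wd (nat_lit 9) [Mv.f (nat_lit 5943), Mv.b (nat_lit 5138), Mv.f (nat_lit 7993)])))
(Tr.nd (nat_lit 7996) (Tr.lf (Fc.ed (nat_lit 7995) (nat_lit 2838) Col.c (nat_lit 3075) Dv.df))
(Tr.lf (Fc.ed (nat_lit 7996) (nat_lit 3075) Col.f (nat_lit 2643) (Dv.wd (nat_lit 26) [Mv.f (nat_lit 7059), Mv.b (nat_lit 7488), Mv.f (nat_lit 7995)])))))))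
(Tr.nd (nat_lit 8002) (Tr.nd (nat_lit 7999) (Tr.nd (nat_lit 7998) (Tr.lf (Fc.ed (nat_lit 7997) (nat_lit 2780) Col.f (nat_lit 3076) Dv.df))
(Tr.lf (Fc.ed (nat_lit 7998) (nat_lit 3076) Col.b (nat_lit 1016) (Dv.wd (nat_lit 66) [Mv.b (nat_lit 3249), Mv.b (nat_lit 7358), Mv.f (nat_lit 7997)]))))
(Tr.nd (nat_lit 8000) (Tr.lf (Fc.ed (nat_lit 7999) (nat_lit 3076) Col.d (nat_lit 2869) (Dv.wd (nat_lit 21) [Mv.b (nat_lit 7554), Mv.f (nat_lit 7357), Mv.f (nat_lit 7997)])))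
(Tr.nd (nat_lit 8001) (Tr.lf (Fc.ed (nat_lit 8000) (nat_lit 2097) Col.gi (nat_lit 3077) Dv.df))
(Tr.lf (Fc.ed (nat_lit 8001) (nat_lit 2975) Col.e (nat_lit 3078) Dv.df)))))
(Tr.nd (nat_lit 8005) (Tr.nd (nat_lit 8003) (Tr.lf (Fc.ed (nat_lit 8002) (nat_lit 3078) Col.a (nat_lit 2938) (Dv.wd (nat_lit 15) [Mv.b (nat_lit 7698), Mv.b (nat_lit 7773), Mv.f (nat_lit 8001)])))
(Tr.nd (nat_lit 8004) (Tr.lf (Fc.ed (nat_lit 8003) (nat_lit 3078) Col.c (nat_lit 2828) (Dv.wd (nat_lit 18) [Mv.f (nat_lit 7468), Mv.b (nat_lit 7774), Mv.f (nat_lit 8001)])))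
(Tr.lf (Fc.ed (nat_lit 8004) (nat_lit 3078) Col.f (nat_lit 2051) (Dv.wd (nat_lit 96) [Mv.f (nat_lit 5687), Mv.b (nat_lit 3408), Mv.b (nat_lit 4797), Mv.f (nat_lit 7772), Mv.f (nat_lit 8001)])))))
(Tr.nd (nat_lit 8006) (Tr.lf (Fc.ed (nat_lit 8005) (nat_lit 2646) Col.gi (nat_lit 3079) Dv.df))
(Tr.nd (nat_lit 8007) (Tr.lf (Fc.ed (nat_lit 8006) (nat_lit 3079) Col.gi (nat_lit 1864) (Dv.wd (nat_lit 24) [Mv.f (nat_lit 5303), Mv.b (nat_lit 7069), Mv.f (nat_lit 8005)])))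
(Tr.lf (Fc.ed (nat_lit 8007) (nat_lit 1501) Col.f (nat_lit 3080) Dv.df))))))))
(Tr.nd (nat_lit 8028) (Tr.nd (nat_lit 8018) (Tr.nd (nat_lit 8013) (Tr.nd (nat_lit 8010) (Tr.nd (nat_lit 8009) (Tr.lf (Fc.ed (nat_lit 8008) (nat_lit 3080) Col.b (nat_lit 1622) (Dv.wd (nat_lit 66) [Mv.b (nat_lit 4759), Mv.f (nat_lit 4500), Mv.f (nat_lit 8007)])))
(Tr.lf (Fc.ed (nat_lit 8009) (nat_lit 3080) Col.e (nat_lit 3080) (Dv.wd (nat_lit 22) [Mv.b (nat_lit 8007), Mv.f (nat_lit 4501), Mv.f (nat_lit 4338), Mv.b (nat_lit 4501), Mv.f (nat_lit 8007)]))))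
(Tr.nd (nat_lit 8011) (Tr.lf (Fc.ed (nat_lit 8010) (nat_lit 1816) Col.gi (nat_lit 3081) Dv.df))
(Tr.nd (nat_lit 8012) (Tr.lf (Fc.ed (nat_lit 8011) (nat_lit 3081) Col.gi (nat_lit 2804) (Dv.wd (nat_lit 24) [Mv.b (nat_lit 7416), Mv.b (nat_lit 5199), Mv.f (nat_lit 8010)])))
(Tr.lf (Fc.ed (nat_lit 8012) (nat_lit 2670) Col.g (nat_lit 3082) Dv.df)))))
(Tr.nd (nat_lit 8015) (Tr.nd (nat_lit 8014) (Tr.lf (Fc.ed (nat_lit 8013) (nat_lit 3082) Col.g (nat_lit 1407) (Dv.wd (nat_lit 9) [Mv.f (nat_lit 7118), Mv.f (nat_lit 7121), Mv.f (nat_lit 8012)])))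
(Tr.lf (Fc.ed (nat_lit 8014) (nat_lit 1176) Col.c (nat_lit 3083) Dv.df)))
(Tr.nd (nat_lit 8016) (Tr.lf (Fc.ed (nat_lit 8015) (nat_lit 3083) Col.e (nat_lit 2556) (Dv.wd (nat_lit 25) [Mv.b (nat_lit 6869), Mv.b (nat_lit 4753), Mv.f (nat_lit 8014)])))
(Tr.nd (nat_lit 8017) (Tr.lf (Fc.ed (nat_lit 8016) (nat_lit 1639) Col.a (nat_lit 3084) Dv.df))
(Tr.lf (Fc.ed (nat_lit 8017) (nat_lit 3084) Col.f (nat_lit 1859) (Dv.wd (nat_lit 35) [Mv.b (nat_lit 5414), Mv.b (nat_lit 5413), Mv.f (nat_lit 8016)])))))))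
(Tr.nd (nat_lit 8023) (Tr.nd (nat_lit 8020) (Tr.nd (nat_lit 8019) (Tr.lf (Fc.ed (nat_lit 8018) (nat_lit 2551) Col.b (nat_lit 3085) Dv.df))
(Tr.lf (Fc.ed (nat_lit 8019) (nat_lit 3085) Col.f (nat_lit 3041) (Dv.wd (nat_lit 20) [Mv.b (nat_lit 7910), Mv.f (nat_lit 6859), Mv.f (nat_lit 8018)]))))
(Tr.nd (nat_lit 8021) (Tr.lf (Fc.ed (nat_lit 8020) (nat_lit 1586) Col.a (nat_lit 3086) Dv.df))
(Tr.nd (nat_lit 8022) (Tr.lf (Fc.ed (nat_lit 8021) (nat_lit 3086) Col.f (nat_lit 2029) (Dv.wd (nat_lit 35) [Mv.b (nat_lit 5637), Mv.b (nat_lit 4724), Mv.f (nat_lit 8020)])))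
(Tr.lf (Fc.ed (nat_lit 8022) (nat_lit 2660) Col.b (nat_lit 3087) Dv.df)))))
(Tr.nd (nat_lit 8025) (Tr.nd (nat_lit 8024) (Tr.lf (Fc.ed (nat_lit 8023) (nat_lit 3087) Col.d (nat_lit 1739) (Dv.wd (nat_lit 58) [Mv.b (nat_lit 5041), Mv.b (nat_lit 7098), Mv.f (nat_lit 8022)])))
(Tr.lf (Fc.ed (nat_lit 8024) (nat_lit 2107) Col.f (nat_lit 3088) Dv.df)))
(Tr.nd (nat_lit 8026) (Tr.lf (Fc.ed (nat_lit 8025) (nat_lit 3088) Col.c (nat_lit 2006) (Dv.wd (nat_lit 34) [Mv.b (nat_lit 5594), Mv.b (nat_lit 5800), Mv.f (nat_lit 8024)])))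
(Tr.nd (nat_lit 8027) (Tr.lf (Fc.ed (nat_lit 8026) (nat_lit 1923) Col.f (nat_lit 3089) Dv.df))
(Tr.lf (Fc.ed (nat_lit 8027) (nat_lit 3089) Col.a (nat_lit 2852) (Dv.wd (nat_lit 16) [Mv.b (nat_lit 7520), Mv.f (nat_lit 5418), Mv.f (nat_lit 8026)]))))))))
(Tr.nd (nat_lit 8038) (Tr.nd (nat_lit 8033) (Tr.nd (nat_lit 8030) (Tr.nd (nat_lit 8029) (Tr.lf (Fc.ed (nat_lit 8028) (nat_lit 3089) Col.d (nat_lit 3089) (Dv.wd (nat_lit 21) [Mv.b (nat_lit 8026), Mv.f (nat_lit 5419), Mv.f (nat_lit 8026)])))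
(Tr.lf (Fc.ed (nat_lit 8029) (nat_lit 3089) Col.e (nat_lit 3089) (Dv.wd (nat_lit 22) [Mv.b (nat_lit 8026), Mv.f (nat_lit 5420), Mv.f (nat_lit 3189), Mv.b (nat_lit 5420), Mv.f (nat_lit 8026)]))))
(Tr.nd (nat_lit 8031) (Tr.lf (Fc.ed (nat_lit 8030) (nat_lit 2511) Col.c (nat_lit 3090) Dv.df))
(Tr.nd (nat_lit 8032) (Tr.lf (Fc.ed (nat_lit 8031) (nat_lit 3090) Col.a (nat_lit 3035) (Dv.wd (nat_lit 19) [Mv.f (nat_lit 7898), Mv.f (nat_lit 6760), Mv.f (nat_lit 8030)])))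
(Tr.lf (Fc.ed (nat_lit 8032) (nat_lit 1721) Col.a (nat_lit 3091) Dv.df)))))
(Tr.nd (nat_lit 8035) (Tr.nd (nat_lit 8034) (Tr.lf (Fc.ed (nat_lit 8033) (nat_lit 3091) Col.d (nat_lit 2632) (Dv.wd (nat_lit 28) [Mv.b (nat_lit 7032), Mv.b (nat_lit 4999), Mv.f (nat_lit 8032)])))
(Tr.lf (Fc.ed (nat_lit 8034) (nat_lit 1867) Col.a (nat_lit 3092) Dv.df)))
(Tr.nd (nat_lit 8036) (Tr.lf (Fc.ed (nat_lit 8035) (nat_lit 3092) Col.f (nat_lit 1796) (Dv.wd (nat_lit 35) [Mv.f (nat_lit 7975), Mv.f (nat_lit 7976), Mv.f (nat_lit 8034)])))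
(Tr.nd (nat_lit 8037) (Tr.lf (Fc.ed (nat_lit 8036) (nat_lit 2953) Col.d (nat_lit 3093) Dv.df))
(Tr.lf (Fc.ed (nat_lit 8037) (nat_lit 3093) Col.b (nat_lit 1222) (Dv.wd (nat_lit 37) [Mv.f (nat_lit 3769), Mv.b (nat_lit 7731), Mv.f (nat_lit 8036)])))))))
(Tr.nd (nat_lit 8043) (Tr.nd (nat_lit 8040) (Tr.nd (nat_lit 8039) (Tr.lf (Fc.ed (nat_lit 8038) (nat_lit 3093) Col.f (nat_lit 2946) (Dv.wd (nat_lit 11) [Mv.b (nat_lit 7718), Mv.f (nat_lit 7730), Mv.f (nat_lit 8036)])))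
(Tr.lf (Fc.ed (nat_lit 8039) (nat_lit 2252) Col.b (nat_lit 3094) Dv.df)))
(Tr.nd (nat_lit 8041) (Tr.lf (Fc.ed (nat_lit 8040) (nat_lit 3094) Col.e (nat_lit 3018) (Dv.wd (nat_lit 52) [Mv.f (nat_lit 7867), Mv.b (nat_lit 6176), Mv.f (nat_lit 8039)])))
(Tr.nd (nat_lit 8042) (Tr.lf (Fc.ed (nat_lit 8041) (nat_lit 3094) Col.f (nat_lit 2042) (Dv.wd (nat_lit 20) [Mv.f (nat_lit 5667), Mv.f (nat_lit 6175), Mv.f (nat_lit 8039)])))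
(Tr.lf (Fc.ed (nat_lit 8042) (nat_lit 3033) Col.gi (nat_lit 3095) Dv.df)))))
(Tr.nd (nat_lit 8046) (Tr.nd (nat_lit 8044) (Tr.lf (Fc.ed (nat_lit 8043) (nat_lit 3095) Col.gi (nat_lit 1786) (Dv.wd (nat_lit 24) [Mv.b (nat_lit 5145), Mv.f (nat_lit 7893), Mv.f (nat_lit 8042)])))
(Tr.nd (nat_lit 8045) (Tr.lf (Fc.ed (nat_lit 8044) (nat_lit 1781) Col.f (nat_lit 3096) Dv.df))
(Tr.lf (Fc.ed (nat_lit 8045) (nat_lit 3096) Col.b (nat_lit 2828) (Dv.wd (nat_lit 66) [Mv.b (nat_lit 7465), Mv.b (nat_lit 5150), Mv.f (nat_lit 8044)])))))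
(Tr.nd (nat_lit 8047) (Tr.lf (Fc.ed (nat_lit 8046) (nat_lit 2210) Col.c (nat_lit 3097) Dv.df))
(Tr.nd (nat_lit 8048) (Tr.lf (Fc.ed (nat_lit 8047) (nat_lit 3097) Col.f (nat_lit 2614) (Dv.wd (nat_lit 26) [Mv.b (nat_lit 6994), Mv.f (nat_lit 6282), Mv.f (nat_lit 8046)])))
(Tr.lf (Fc.ed (nat_lit 8048) (nat_lit 3097) Col.b (nat_lit 2737) (Dv.wd (nat_lit 87) [Mv.b (nat_lit 7263), Mv.f (nat_lit 4111), Mv.b (nat_lit 3231), Mv.f (nat_lit 6097), Mv.f (nat_lit 8046)])))))))))))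
(Tr.nd (nat_lit 8131) (Tr.nd (nat_lit 8090) (Tr.nd (nat_lit 8069) (Tr.nd (nat_lit 8059) (Tr.nd (nat_lit 8054) (Tr.nd (nat_lit 8051) (Tr.nd (nat_lit 8050) (Tr.lf (Fc.ed (nat_lit 8049) (nat_lit 1296) Col.g (nat_lit 3098) Dv.df))
(Tr.lf (Fc.ed (nat_lit 8050) (nat_lit 3098) Col.g (nat_lit 2995) (Dv.wd (nat_lit 9) [Mv.f (nat_lit 7816), Mv.b (nat_lit 6059), Mv.f (nat_lit 8049)]))))
(Tr.nd (nat_lit 8052) (Tr.lf (Fc.ed (nat_lit 8051) (nat_lit 1678) Col.gi (nat_lit 3099) Dv.df))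
(Tr.nd (nat_lit 8053) (Tr.lf (Fc.ed (nat_lit 8052) (nat_lit 3099) Col.gi (nat_lit 2220) (Dv.wd (nat_lit 24) [Mv.b (nat_lit 6117), Mv.b (nat_lit 4893), Mv.f (nat_lit 8051)])))
(Tr.lf (Fc.ed (nat_lit 8053) (nat_lit 2678) Col.c (nat_lit 3100) Dv.df)))))
(Tr.nd (nat_lit 8056) (Tr.nd (nat_lit 8055) (Tr.lf (Fc.ed (nat_lit 8054) (nat_lit 3100) Col.a (nat_lit 2556) (Dv.wd (nat_lit 19) [Mv.b (nat_lit 6869), Mv.b (nat_lit 7141), Mv.f (nat_lit 8053)])))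
(Tr.lf (Fc.ed (nat_lit 8055) (nat_lit 1707) Col.f (nat_lit 3101) Dv.df)))
(Tr.nd (nat_lit 8057) (Tr.lf (Fc.ed (nat_lit 8056) (nat_lit 3101) Col.b (nat_lit 2709) (Dv.wd (nat_lit 66) [Mv.f (nat_lit 7206), Mv.b (nat_lit 4959), Mv.f (nat_lit 8055)])))
(Tr.nd (nat_lit 8058) (Tr.lf (Fc.ed (nat_lit 8057) (nat_lit 3101) Col.d (nat_lit 2838) (Dv.wd (nat_lit 21) [Mv.f (nat_lit 7488), Mv.b (nat_lit 4960), Mv.f (nat_lit 8055)])))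
(Tr.lf (Fc.ed (nat_lit 8058) (nat_lit 3101) Col.e (nat_lit 3101) (Dv.wd (nat_lit 22) [Mv.b (nat_lit 8055), Mv.b (nat_lit 4958), Mv.f (nat_lit 3402), Mv.f (nat_lit 4958), Mv.f (nat_lit 8055)])))))))
(Tr.nd (nat_lit 8064) (Tr.nd (nat_lit 8061) (Tr.nd (nat_lit 8060) (Tr.lf (Fc.ed (nat_lit 8059) (nat_lit 2144) Col.b (nat_lit 3102) Dv.df))
(Tr.lf (Fc.ed (nat_lit 8060) (nat_lit 3102) Col.d (nat_lit 2885) (Dv.wd (nat_lit 58) [Mv.f (nat_lit 7592), Mv.f (nat_lit 6751), Mv.f (nat_lit 8059)]))))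
(Tr.nd (nat_lit 8062) (Tr.lf (Fc.ed (nat_lit 8061) (nat_lit 3102) Col.e (nat_lit 2826) (Dv.wd (nat_lit 52) [Mv.b (nat_lit 7461), Mv.b (nat_lit 5951), Mv.f (nat_lit 8059)])))
(Tr.nd (nat_lit 8063) (Tr.lf (Fc.ed (nat_lit 8062) (nat_lit 2682) Col.d (nat_lit 3103) Dv.df))
(Tr.lf (Fc.ed (nat_lit 8063) (nat_lit 3103) Col.f (nat_lit 3072) (Dv.wd (nat_lit 11) [Mv.b (nat_lit 7989), Mv.b (nat_lit 7149), Mv.f (nat_lit 8062)]))))))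
(Tr.nd (nat_lit 8066) (Tr.nd (nat_lit 8065) (Tr.lf (Fc.ed (nat_lit 8064) (nat_lit 2788) Col.e (nat_lit 3104) Dv.df))
(Tr.lf (Fc.ed (nat_lit 8065) (nat_lit 1764) Col.f (nat_lit 3105) Dv.df)))
(Tr.nd (nat_lit 8067) (Tr.lf (Fc.ed (nat_lit 8066) (nat_lit 3105) Col.a (nat_lit 1979) (Dv.wd (nat_lit 23) [Mv.b (nat_lit 5540), Mv.f (nat_lit 5539), Mv.f (nat_lit 8065)])))
(Tr.nd (nat_lit 8068) (Tr.lf (Fc.ed (nat_lit 8067) (nat_lit 2048) Col.f (nat_lit 1979) (Dv.wd (nat_lit 35) [Mv.b (nat_lit 8066), Mv.b (nat_lit 8065), Mv.f (nat_lit 5681)])))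
(Tr.lf (Fc.ed (nat_lit 8068) (nat_lit 1979) Col.g (nat_lit 1019) (Dv.wd (nat_lit 17) [Mv.f (nat_lit 5103), Mv.f (nat_lit 5681), Mv.f (nat_lit 8067)]))))))))
(Tr.nd (nat_lit 8079) (Tr.nd (nat_lit 8074) (Tr.nd (nat_lit 8071) (Tr.nd (nat_lit 8070) (Tr.lf (Fc.ed (nat_lit 8069) (nat_lit 2913) Col.gi (nat_lit 3106) Dv.df))
(Tr.lf (Fc.ed (nat_lit 8070) (nat_lit 3106) Col.gi (nat_lit 1572) (Dv.wd (nat_lit 24) [Mv.b (nat_lit 4927), Mv.b (nat_lit 7653), Mv.f (nat_lit 8069)]))))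
(Tr.nd (nat_lit 8072) (Tr.lf (Fc.ed (nat_lit 8071) (nat_lit 2901) Col.g (nat_lit 3107) Dv.df))
(Tr.nd (nat_lit 8073) (Tr.lf (Fc.ed (nat_lit 8072) (nat_lit 3107) Col.g (nat_lit 2096) (Dv.wd (nat_lit 9) [Mv.f (nat_lit 5776), Mv.b (nat_lit 7629), Mv.f (nat_lit 8071)])))
(Tr.lf (Fc.ed (nat_lit 8073) (nat_lit 1701) Col.g (nat_lit 3108) Dv.df)))))
(Tr.nd (nat_lit 8076) (Tr.nd (nat_lit 8075) (Tr.lf (Fc.ed (nat_lit 8074) (nat_lit 3108) Col.g (nat_lit 1620) (Dv.wd (nat_lit 9) [Mv.f (nat_lit 4755), Mv.b (nat_lit 4943), Mv.f (nat_lit 8073)])))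
(Tr.lf (Fc.ed (nat_lit 8075) (nat_lit 3010) Col.e (nat_lit 3109) Dv.df)))
(Tr.nd (nat_lit 8077) (Tr.lf (Fc.ed (nat_lit 8076) (nat_lit 3109) Col.b (nat_lit 2001) (Dv.wd (nat_lit 49) [Mv.b (nat_lit 5587), Mv.f (nat_lit 7849), Mv.f (nat_lit 8075)])))
(Tr.nd (nat_lit 8078) (Tr.lf (Fc.ed (nat_lit 8077) (nat_lit 2171) Col.a (nat_lit 3110) Dv.df))
(Tr.lf (Fc.ed (nat_lit 8078) (nat_lit 3110) Col.f (nat_lit 2142) (Dv.wd (nat_lit 10) [Mv.b (nat_lit 5946), Mv.f (nat_lit 6011), Mv.f (nat_lit 8077)])))))))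
(Tr.nd (nat_lit 8084) (Tr.nd (nat_lit 8081) (Tr.nd (nat_lit 8080) (Tr.lf (Fc.ed (nat_lit 8079) (nat_lit 1980) Col.a (nat_lit 3111) Dv.df))
(Tr.lf (Fc.ed (nat_lit 8080) (nat_lit 2681) Col.f (nat_lit 3112) Dv.df)))
(Tr.nd (nat_lit 8082) (Tr.lf (Fc.ed (nat_lit 8081) (nat_lit 3112) Col.a (nat_lit 1642) (Dv.wd (nat_lit 16) [Mv.b (nat_lit 7449), Mv.b (nat_lit 7448), Mv.f (nat_lit 8080)])))
(Tr.nd (nat_lit 8083) (Tr.lf (Fc.ed (nat_lit 8082) (nat_lit 1773) Col.f (nat_lit 3113) Dv.df))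
(Tr.lf (Fc.ed (nat_lit 8083) (nat_lit 3113) Col.c (nat_lit 2731) (Dv.wd (nat_lit 34) [Mv.b (nat_lit 7251), Mv.f (nat_lit 5119), Mv.f (nat_lit 8082)]))))))
(Tr.nd (nat_lit 8087) (Tr.nd (nat_lit 8085) (Tr.lf (Fc.ed (nat_lit 8084) (nat_lit 3023) Col.c (nat_lit 3114) Dv.df))
(Tr.nd (nat_lit 8086) (Tr.lf (Fc.ed (nat_lit 8085) (nat_lit 3114) Col.b (nat_lit 2011) (Dv.wd (nat_lit 101) [Mv.f (nat_lit 5603), Mv.b (nat_lit 4545), Mv.b (nat_lit 3332), Mv.f (nat_lit 2486), Mv.f (nat_lit 3592), Mv.b (nat_lit 3596), Mv.f (nat_lit 3222), Mv.f (nat_lit 3658), Mv.f (nat_lit 7876), Mv.f (nat_lit 8084)])))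
(Tr.lf (Fc.ed (nat_lit 8086) (nat_lit 1737) Col.gi (nat_lit 3115) Dv.df))))
(Tr.nd (nat_lit 8088) (Tr.lf (Fc.ed (nat_lit 8087) (nat_lit 2754) Col.g (nat_lit 3116) Dv.df))
(Tr.nd (nat_lit 8089) (Tr.lf (Fc.ed (nat_lit 8088) (nat_lit 3116) Col.g (nat_lit 1568) (Dv.wd (nat_lit 9) [Mv.b (nat_lit 5776), Mv.b (nat_lit 7304), Mv.f (nat_lit 8087)])))
(Tr.lf (Fc.ed (nat_lit 8089) (nat_lit 2838) Col.a (nat_lit 3117) Dv.df))))))))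
(Tr.nd (nat_lit 8110) (Tr.nd (nat_lit 8100) (Tr.nd (nat_lit 8095) (Tr.nd (nat_lit 8092) (Tr.nd (nat_lit 8091) (Tr.lf (Fc.ed (nat_lit 8090) (nat_lit 3117) Col.f (nat_lit 2498) (Dv.wd (nat_lit 35) [Mv.f (nat_lit 6732), Mv.b (nat_lit 7488), Mv.f (nat_lit 8089)])))
(Tr.lf (Fc.ed (nat_lit 8091) (nat_lit 2876) Col.c (nat_lit 3118) Dv.df)))
(Tr.nd (nat_lit 8093) (Tr.lf (Fc.ed (nat_lit 8092) (nat_lit 3118) Col.f (nat_lit 1715) (Dv.wd (nat_lit 26) [Mv.b (nat_lit 5210), Mv.b (nat_lit 7572), Mv.f (nat_lit 8091)])))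
(Tr.nd (nat_lit 8094) (Tr.lf (Fc.ed (nat_lit 8093) (nat_lit 1526) Col.f (nat_lit 3119) Dv.df))
(Tr.lf (Fc.ed (nat_lit 8094) (nat_lit 3119) Col.a (nat_lit 2012) (Dv.wd (nat_lit 16) [Mv.b (nat_lit 5894), Mv.b (nat_lit 5893), Mv.f (nat_lit 8093)]))))))
(Tr.nd (nat_lit 8097) (Tr.nd (nat_lit 8096) (Tr.lf (Fc.ed (nat_lit 8095) (nat_lit 1667) Col.gi (nat_lit 3120) Dv.df))
(Tr.lf (Fc.ed (nat_lit 8096) (nat_lit 3120) Col.gi (nat_lit 2783) (Dv.wd (nat_lit 24) [Mv.f (nat_lit 7366), Mv.f (nat_lit 4868), Mv.f (nat_lit 8095)]))))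
(Tr.nd (nat_lit 8098) (Tr.lf (Fc.ed (nat_lit 8097) (nat_lit 2255) Col.c (nat_lit 3121) Dv.df))
(Tr.nd (nat_lit 8099) (Tr.lf (Fc.ed (nat_lit 8098) (nat_lit 2644) Col.g (nat_lit 3122) Dv.df))
(Tr.lf (Fc.ed (nat_lit 8099) (nat_lit 3122) Col.g (nat_lit 1316) (Dv.wd (nat_lit 9) [Mv.f (nat_lit 6781), Mv.f (nat_lit 7060), Mv.f (nat_lit 8098)])))))))
(Tr.nd (nat_lit 8105) (Tr.nd (nat_lit 8102) (Tr.nd (nat_lit 8101) (Tr.lf (Fc.ed (nat_lit 8100) (nat_lit 1080) Col.gi (nat_lit 3123) Dv.df))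
(Tr.lf (Fc.ed (nat_lit 8101) (nat_lit 3123) Col.gi (nat_lit 1560) (Dv.wd (nat_lit 24) [Mv.f (nat_lit 5175), Mv.f (nat_lit 5176), Mv.f (nat_lit 8100)]))))
(Tr.nd (nat_lit 8103) (Tr.lf (Fc.ed (nat_lit 8102) (nat_lit 2883) Col.gi (nat_lit 3124) Dv.df))
(Tr.nd (nat_lit 8104) (Tr.lf (Fc.ed (nat_lit 8103) (nat_lit 3124) Col.c (nat_lit 2809) (Dv.wd (nat_lit 81) [Mv.f (nat_lit 7511), Mv.b (nat_lit 5247), Mv.f (nat_lit 4260), Mv.f (nat_lit 4315), Mv.f (nat_lit 4312), Mv.b (nat_lit 3781), Mv.b (nat_lit 5455), Mv.b (nat_lit 7588), Mv.f (nat_lit 8102)])))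
(Tr.lf (Fc.ed (nat_lit 8104) (nat_lit 3120) Col.d (nat_lit 3125) Dv.df)))))
(Tr.nd (nat_lit 8107) (Tr.nd (nat_lit 8106) (Tr.lf (Fc.ed (nat_lit 8105) (nat_lit 3125) Col.e (nat_lit 3028) (Dv.wd (nat_lit 74) [Mv.b (nat_lit 7884), Mv.f (nat_lit 4946), Mv.b (nat_lit 4127), Mv.b (nat_lit 3973), Mv.f (nat_lit 5557), Mv.b (nat_lit 5555), Mv.b (nat_lit 4867), Mv.f (nat_lit 4866), Mv.f (nat_lit 8095), Mv.f (nat_lit 8104)])))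
(Tr.lf (Fc.ed (nat_lit 8106) (nat_lit 1328) Col.gi (nat_lit 3126) Dv.df)))
(Tr.nd (nat_lit 8108) (Tr.lf (Fc.ed (nat_lit 8107) (nat_lit 3126) Col.gi (nat_lit 2538) (Dv.wd (nat_lit 24) [Mv.b (nat_lit 6827), Mv.f (nat_lit 4608), Mv.f (nat_lit 8106)])))
(Tr.nd (nat_lit 8109) (Tr.lf (Fc.ed (nat_lit 8108) (nat_lit 2677) Col.g (nat_lit 3127) Dv.df))
(Tr.lf (Fc.ed (nat_lit 8109) (nat_lit 3127) Col.g (nat_lit 1368) (Dv.wd (nat_lit 9) [Mv.b (nat_lit 4331), Mv.b (nat_lit 7137), Mv.f (nat_lit 8108)]))))))))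
(Tr.nd (nat_lit 8120) (Tr.nd (nat_lit 8115) (Tr.nd (nat_lit 8112) (Tr.nd (nat_lit 8111) (Tr.lf (Fc.ed (nat_lit 8110) (nat_lit 1352) Col.c (nat_lit 3128) Dv.df))
(Tr.lf (Fc.ed (nat_lit 8111) (nat_lit 3128) Col.b (nat_lit 2800) (Dv.wd (nat_lit 165) [Mv.b (nat_lit 7406), Mv.f (nat_lit 5898), Mv.b (nat_lit 5885), Mv.f (nat_lit 4405), Mv.b (nat_lit 1002), Mv.b (nat_lit 168), Mv.f (nat_lit 895), Mv.b (nat_lit 1923), Mv.f (nat_lit 4129), Mv.f (nat_lit 8110)]))))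
(Tr.nd (nat_lit 8113) (Tr.lf (Fc.ed (nat_lit 8112) (nat_lit 3128) Col.d (nat_lit 3128) (Dv.wd (nat_lit 116) [Mv.f (nat_lit 8111), Mv.f (nat_lit 7407), Mv.b (nat_lit 8111)])))
(Tr.nd (nat_lit 8114) (Tr.lf (Fc.ed (nat_lit 8113) (nat_lit 1073) Col.d (nat_lit 1073) (Dv.wd (nat_lit 89) [Mv.f (nat_lit 3321), Mv.b (nat_lit 1923), Mv.f (nat_lit 4129), Mv.f (nat_lit 8110), Mv.f (nat_lit 8112), Mv.b (nat_lit 8110), Mv.b (nat_lit 4129), Mv.f (nat_lit 1923), Mv.b (nat_lit 3321)])))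
(Tr.lf (Fc.ed (nat_lit 8114) (nat_lit 1909) Col.d (nat_lit 1909) (Dv.wd (nat_lit 28) [Mv.b (nat_lit 5389), Mv.f (nat_lit 8113), Mv.f (nat_lit 5389)]))))))
(Tr.nd (nat_lit 8117) (Tr.nd (nat_lit 8116) (Tr.lf (Fc.ed (nat_lit 8115) (nat_lit 1127) Col.d (nat_lit 1127) (Dv.wd (nat_lit 90) [Mv.b (nat_lit 5390), Mv.f (nat_lit 8114), Mv.f (nat_lit 5390)])))
(Tr.lf (Fc.ed (nat_lit 8116) (nat_lit 3073) Col.d (nat_lit 1352) (Dv.wd (nat_lit 48) [Mv.b (nat_lit 4129), Mv.f (nat_lit 1923), Mv.b (nat_lit 3471), Mv.f (nat_lit 8115), Mv.b (nat_lit 3470), Mv.f (nat_lit 2925), Mv.f (nat_lit 2988), Mv.f (nat_lit 4928), Mv.b (nat_lit 7992)]))))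
(Tr.nd (nat_lit 8118) (Tr.lf (Fc.ed (nat_lit 8117) (nat_lit 2841) Col.d (nat_lit 3129) Dv.df))
(Tr.nd (nat_lit 8119) (Tr.lf (Fc.ed (nat_lit 8118) (nat_lit 3129) Col.b (nat_lit 1114) (Dv.wd (nat_lit 37) [Mv.f (nat_lit 3438), Mv.f (nat_lit 7493), Mv.f (nat_lit 8117)])))
(Tr.lf (Fc.ed (nat_lit 8119) (nat_lit 3129) Col.f (nat_lit 3062) (Dv.wd (nat_lit 11) [Mv.b (nat_lit 7970), Mv.f (nat_lit 7922), Mv.f (nat_lit 8117)])))))))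
(Tr.nd (nat_lit 8125) (Tr.nd (nat_lit 8122) (Tr.nd (nat_lit 8121) (Tr.lf (Fc.ed (nat_lit 8120) (nat_lit 3129) Col.c (nat_lit 3129) (Dv.wd (nat_lit 67) [Mv.f (nat_lit 8119), Mv.f (nat_lit 7972), Mv.b (nat_lit 8119)])))
(Tr.lf (Fc.ed (nat_lit 8121) (nat_lit 2936) Col.f (nat_lit 3130) Dv.df)))
(Tr.nd (nat_lit 8123) (Tr.lf (Fc.ed (nat_lit 8122) (nat_lit 3130) Col.a (nat_lit 1848) (Dv.wd (nat_lit 23) [Mv.b (nat_lit 5267), Mv.f (nat_lit 7695), Mv.f (nat_lit 8121)])))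
(Tr.nd (nat_lit 8124) (Tr.lf (Fc.ed (nat_lit 8123) (nat_lit 2030) Col.b (nat_lit 3131) Dv.df))
(Tr.lf (Fc.ed (nat_lit 8124) (nat_lit 2936) Col.c (nat_lit 3132) Dv.df)))))
(Tr.nd (nat_lit 8128) (Tr.nd (nat_lit 8126) (Tr.lf (Fc.ed (nat_lit 8125) (nat_lit 3132) Col.b (nat_lit 3077) (Dv.wd (nat_lit 106) [Mv.b (nat_lit 8000), Mv.f (nat_lit 5780), Mv.f (nat_lit 5744), Mv.f (nat_lit 6550), Mv.f (nat_lit 6930), Mv.f (nat_lit 6931), Mv.f (nat_lit 5149), Mv.f (nat_lit 5007), Mv.b (nat_lit 7696), Mv.f (nat_lit 8124)])))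
(Tr.nd (nat_lit 8127) (Tr.lf (Fc.ed (nat_lit 8126) (nat_lit 2032) Col.f (nat_lit 3133) Dv.df))
(Tr.lf (Fc.ed (nat_lit 8127) (nat_lit 3133) Col.a (nat_lit 2067) (Dv.wd (nat_lit 23) [Mv.f (nat_lit 5715), Mv.b (nat_lit 5643), Mv.f (nat_lit 8126)])))))
(Tr.nd (nat_lit 8129) (Tr.lf (Fc.ed (nat_lit 8128) (nat_lit 1486) Col.b (nat_lit 3134) Dv.df))
(Tr.nd (nat_lit 8130) (Tr.lf (Fc.ed (nat_lit 8129) (nat_lit 3134) Col.d (nat_lit 2535) (Dv.wd (nat_lit 58) [Mv.b (nat_lit 6820), Mv.b (nat_lit 4471), Mv.f (nat_lit 8128)])))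
(Tr.lf (Fc.ed (nat_lit 8130) (nat_lit 1427) Col.b (nat_lit 3135) Dv.df)))))))))
(Tr.nd (nat_lit 8172) (Tr.nd (nat_lit 8151) (Tr.nd (nat_lit 8141) (Tr.nd (nat_lit 8136) (Tr.nd (nat_lit 8133) (Tr.nd (nat_lit 8132) (Tr.lf (Fc.ed (nat_lit 8131) (nat_lit 3071) Col.gi (nat_lit 3136) Dv.df))
(Tr.lf (Fc.ed (nat_lit 8132) (nat_lit 3136) Col.c (nat_lit 3000) (Dv.wd (nat_lit 143) [Mv.f (nat_lit 7830), Mv.f (nat_lit 7829), Mv.b (nat_lit 6642), Mv.b (nat_lit 6525), Mv.f (nat_lit 4503), Mv.f (nat_lit 3691), Mv.b (nat_lit 2199), Mv.b (nat_lit 5194), Mv.b (nat_lit 7988), Mv.f (nat_lit 8131)]))))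
(Tr.nd (nat_lit 8134) (Tr.lf (Fc.ed (nat_lit 8133) (nat_lit 2382) Col.a (nat_lit 3136) (Dv.wd (nat_lit 76) [Mv.f (nat_lit 8132), Mv.b (nat_lit 7828), Mv.f (nat_lit 6473)])))
(Tr.nd (nat_lit 8135) (Tr.lf (Fc.ed (nat_lit 8134) (nat_lit 3080) Col.d (nat_lit 3137) Dv.df))
(Tr.lf (Fc.ed (nat_lit 8135) (nat_lit 3137) Col.f (nat_lit 1912) (Dv.wd (nat_lit 11) [Mv.b (nat_lit 5395), Mv.f (nat_lit 8007), Mv.f (nat_lit 8134)]))))))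
(Tr.nd (nat_lit 8138) (Tr.nd (nat_lit 8137) (Tr.lf (Fc.ed (nat_lit 8136) (nat_lit 3132) Col.gi (nat_lit 3138) Dv.df))
(Tr.lf (Fc.ed (nat_lit 8137) (nat_lit 3080) Col.a (nat_lit 3139) Dv.df)))
(Tr.nd (nat_lit 8139) (Tr.lf (Fc.ed (nat_lit 8138) (nat_lit 3139) Col.f (nat_lit 2729) (Dv.wd (nat_lit 35) [Mv.b (nat_lit 7247), Mv.f (nat_lit 8007), Mv.f (nat_lit 8137)])))
(Tr.nd (nat_lit 8140) (Tr.lf (Fc.ed (nat_lit 8139) (nat_lit 2474) Col.f (nat_lit 3140) Dv.df))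
(Tr.lf (Fc.ed (nat_lit 8140) (nat_lit 3140) Col.c (nat_lit 2638) (Dv.wd (nat_lit 34) [Mv.f (nat_lit 7046), Mv.f (nat_lit 6670), Mv.f (nat_lit 8139)])))))))
(Tr.nd (nat_lit 8146) (Tr.nd (nat_lit 8143) (Tr.nd (nat_lit 8142) (Tr.lf (Fc.ed (nat_lit 8141) (nat_lit 1644) Col.a (nat_lit 3141) Dv.df))
(Tr.lf (Fc.ed (nat_lit 8142) (nat_lit 3141) Col.f (nat_lit 1736) (Dv.wd (nat_lit 35) [Mv.f (nat_lit 7115), Mv.f (nat_lit 7116), Mv.f (nat_lit 8141)]))))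
(Tr.nd (nat_lit 8144) (Tr.lf (Fc.ed (nat_lit 8143) (nat_lit 2919) Col.gi (nat_lit 3142) Dv.df))
(Tr.nd (nat_lit 8145) (Tr.lf (Fc.ed (nat_lit 8144) (nat_lit 3118) Col.g (nat_lit 3143) Dv.df))
(Tr.lf (Fc.ed (nat_lit 8145) (nat_lit 3143) Col.g (nat_lit 1686) (Dv.wd (nat_lit 9) [Mv.b (nat_lit 4987), Mv.b (nat_lit 8092), Mv.f (nat_lit 8144)]))))))
(Tr.nd (nat_lit 8148) (Tr.nd (nat_lit 8147) (Tr.lf (Fc.ed (nat_lit 8146) (nat_lit 2547) Col.gi (nat_lit 3144) Dv.df))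
(Tr.lf (Fc.ed (nat_lit 8147) (nat_lit 3144) Col.gi (nat_lit 1478) (Dv.wd (nat_lit 24) [Mv.b (nat_lit 7231), Mv.f (nat_lit 7230), Mv.f (nat_lit 8146)]))))
(Tr.nd (nat_lit 8149) (Tr.lf (Fc.ed (nat_lit 8148) (nat_lit 2601) Col.c (nat_lit 3145) Dv.df))
(Tr.nd (nat_lit 8150) (Tr.lf (Fc.ed (nat_lit 8149) (nat_lit 2138) Col.c (nat_lit 3146) Dv.df))
(Tr.lf (Fc.ed (nat_lit 8150) (nat_lit 2677) Col.c (nat_lit 3147) Dv.df)))))))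
(Tr.nd (nat_lit 8161) (Tr.nd (nat_lit 8156) (Tr.nd (nat_lit 8153) (Tr.nd (nat_lit 8152) (Tr.lf (Fc.ed (nat_lit 8151) (nat_lit 3147) Col.f (nat_lit 1851) (Dv.wd (nat_lit 26) [Mv.b (nat_lit 5277), Mv.b (nat_lit 7137), Mv.f (nat_lit 8150)])))
(Tr.lf (Fc.ed (nat_lit 8152) (nat_lit 3033) Col.g (nat_lit 3148) Dv.df)))
(Tr.nd (nat_lit 8154) (Tr.lf (Fc.ed (nat_lit 8153) (nat_lit 3148) Col.g (nat_lit 1786) (Dv.wd (nat_lit 9) [Mv.b (nat_lit 6649), Mv.b (nat_lit 7895), Mv.f (nat_lit 8152)])))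
(Tr.nd (nat_lit 8155) (Tr.lf (Fc.ed (nat_lit 8154) (nat_lit 3141) Col.b (nat_lit 3149) Dv.df))
(Tr.lf (Fc.ed (nat_lit 8155) (nat_lit 3149) Col.f (nat_lit 2054) (Dv.wd (nat_lit 20) [Mv.b (nat_lit 5692), Mv.b (nat_lit 8142), Mv.f (nat_lit 8154)]))))))
(Tr.nd (nat_lit 8158) (Tr.nd (nat_lit 8157) (Tr.lf (Fc.ed (nat_lit 8156) (nat_lit 1682) Col.e (nat_lit 3150) Dv.df))
(Tr.lf (Fc.ed (nat_lit 8157) (nat_lit 3150) Col.d (nat_lit 1718) (Dv.wd (nat_lit 91) [Mv.b (nat_lit 4993), Mv.f (nat_lit 2713), Mv.b (nat_lit 2715), Mv.b (nat_lit 3471), Mv.f (nat_lit 8115), Mv.b (nat_lit 3470), Mv.f (nat_lit 2925), Mv.f (nat_lit 2926), Mv.b (nat_lit 4901), Mv.f (nat_lit 8156)]))))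
(Tr.nd (nat_lit 8159) (Tr.lf (Fc.ed (nat_lit 8158) (nat_lit 2875) Col.b (nat_lit 3151) Dv.df))
(Tr.nd (nat_lit 8160) (Tr.lf (Fc.ed (nat_lit 8159) (nat_lit 3151) Col.c (nat_lit 2923) (Dv.wd (nat_lit 135) [Mv.f (nat_lit 7674), Mv.f (nat_lit 4523), Mv.b (nat_lit 4522), Mv.f (nat_lit 2191), Mv.f (nat_lit 2192), Mv.f (nat_lit 1944), Mv.f (nat_lit 1341), Mv.f (nat_lit 4438), Mv.b (nat_lit 7569), Mv.f (nat_lit 8158)])))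
(Tr.lf (Fc.ed (nat_lit 8160) (nat_lit 2727) Col.d (nat_lit 3152) Dv.df))))))
(Tr.nd (nat_lit 8166) (Tr.nd (nat_lit 8163) (Tr.nd (nat_lit 8162) (Tr.lf (Fc.ed (nat_lit 8161) (nat_lit 3152) Col.e (nat_lit 2886) (Dv.wd (nat_lit 74) [Mv.f (nat_lit 7594), Mv.b (nat_lit 4446), Mv.f (nat_lit 2342), Mv.f (nat_lit 1343), Mv.b (nat_lit 2446), Mv.b (nat_lit 2471), Mv.f (nat_lit 4462), Mv.f (nat_lit 4465), Mv.b (nat_lit 7244), Mv.f (nat_lit 8160)])))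
(Tr.lf (Fc.ed (nat_lit 8162) (nat_lit 2910) Col.f (nat_lit 3153) Dv.df)))
(Tr.nd (nat_lit 8164) (Tr.lf (Fc.ed (nat_lit 8163) (nat_lit 3153) Col.a (nat_lit 1811) (Dv.wd (nat_lit 16) [Mv.f (nat_lit 5190), Mv.b (nat_lit 7647), Mv.f (nat_lit 8162)])))
(Tr.nd (nat_lit 8165) (Tr.lf (Fc.ed (nat_lit 8164) (nat_lit 1790) Col.a (nat_lit 3154) Dv.df))
(Tr.lf (Fc.ed (nat_lit 8165) (nat_lit 3154) Col.d (nat_lit 1760) (Dv.wd (nat_lit 28) [Mv.b (nat_lit 5091), Mv.b (nat_lit 5155), Mv.f (nat_lit 8164)]))))))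
(Tr.nd (nat_lit 8169) (Tr.nd (nat_lit 8167) (Tr.lf (Fc.ed (nat_lit 8166) (nat_lit 3154) Col.f (nat_lit 2213) (Dv.wd (nat_lit 35) [Mv.f (nat_lit 6103), Mv.b (nat_lit 5908), Mv.f (nat_lit 8164)])))
(Tr.nd (nat_lit 8168) (Tr.lf (Fc.ed (nat_lit 8167) (nat_lit 3034) Col.e (nat_lit 3155) Dv.df))
(Tr.lf (Fc.ed (nat_lit 8168) (nat_lit 3155) Col.gi (nat_lit 1541) (Dv.wd (nat_lit 132) [Mv.b (nat_lit 4585), Mv.f (nat_lit 2212), Mv.b (nat_lit 1425), Mv.b (nat_lit 3032), Mv.f (nat_lit 3030), Mv.b (nat_lit 5152), Mv.f (nat_lit 5151), Mv.f (nat_lit 7573), Mv.f (nat_lit 7896), Mv.f (nat_lit 8167)])))))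
(Tr.nd (nat_lit 8170) (Tr.lf (Fc.ed (nat_lit 8169) (nat_lit 1759) Col.gi (nat_lit 3156) Dv.df))
(Tr.nd (nat_lit 8171) (Tr.lf (Fc.ed (nat_lit 8170) (nat_lit 3080) Col.g (nat_lit 3157) Dv.df))
(Tr.lf (Fc.ed (nat_lit 8171) (nat_lit 3157) Col.g (nat_lit 2729) (Dv.wd (nat_lit 9) [Mv.b (nat_lit 7247), Mv.f (nat_lit 8007), Mv.f (nat_lit 8170)])))))))))
(Tr.nd (nat_lit 8192) (Tr.nd (nat_lit 8182) (Tr.nd (nat_lit 8177) (Tr.nd (nat_lit 8174) (Tr.nd (nat_lit 8173) (Tr.lf (Fc.ed (nat_lit 8172) (nat_lit 1828) Col.g (nat_lit 3158) Dv.df))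
(Tr.lf (Fc.ed (nat_lit 8173) (nat_lit 2794) Col.c (nat_lit 3159) Dv.df)))
(Tr.nd (nat_lit 8175) (Tr.lf (Fc.ed (nat_lit 8174) (nat_lit 3159) Col.b (nat_lit 3138) (Dv.wd (nat_lit 165) [Mv.b (nat_lit 8136), Mv.b (nat_lit 8124), Mv.b (nat_lit 7695), Mv.f (nat_lit 2166), Mv.b (nat_lit 1972), Mv.f (nat_lit 1355), Mv.b (nat_lit 4009), Mv.b (nat_lit 4173), Mv.f (nat_lit 7393), Mv.f (nat_lit 8173)])))
(Tr.nd (nat_lit 8176) (Tr.lf (Fc.ed (nat_lit 8175) (nat_lit 1240) Col.gi (nat_lit 3160) Dv.df))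
(Tr.lf (Fc.ed (nat_lit 8176) (nat_lit 3160) Col.gi (nat_lit 2402) (Dv.wd (nat_lit 24) [Mv.b (nat_lit 6508), Mv.b (nat_lit 5167), Mv.f (nat_lit 8175)]))))))
(Tr.nd (nat_lit 8179) (Tr.nd (nat_lit 8178) (Tr.lf (Fc.ed (nat_lit 8177) (nat_lit 3083) Col.b (nat_lit 3161) Dv.df))
(Tr.lf (Fc.ed (nat_lit 8178) (nat_lit 3161) Col.c (nat_lit 2549) (Dv.wd (nat_lit 93) [Mv.b (nat_lit 6856), Mv.f (nat_lit 3766), Mv.b (nat_lit 3630), Mv.f (nat_lit 8014), Mv.f (nat_lit 8177)]))))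
(Tr.nd (nat_lit 8180) (Tr.lf (Fc.ed (nat_lit 8179) (nat_lit 1889) Col.g (nat_lit 3162) Dv.df))
(Tr.nd (nat_lit 8181) (Tr.lf (Fc.ed (nat_lit 8180) (nat_lit 3162) Col.g (nat_lit 1433) (Dv.wd (nat_lit 9) [Mv.b (nat_lit 6651), Mv.f (nat_lit 6652), Mv.f (nat_lit 8179)])))
(Tr.lf (Fc.ed (nat_lit 8181) (nat_lit 2296) Col.c (nat_lit 3163) Dv.df))))))
(Tr.nd (nat_lit 8187) (Tr.nd (nat_lit 8184) (Tr.nd (nat_lit 8183) (Tr.lf (Fc.ed (nat_lit 8182) (nat_lit 3163) Col.b (nat_lit 2977) (Dv.wd (nat_lit 101) [Mv.f (nat_lit 7778), Mv.f (nat_lit 5444), Mv.b (nat_lit 4056), Mv.f (nat_lit 4024), Mv.f (nat_lit 3785), Mv.b (nat_lit 2436), Mv.f (nat_lit 3125), Mv.f (nat_lit 3126), Mv.f (nat_lit 6283), Mv.f (nat_lit 8181)])))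
(Tr.lf (Fc.ed (nat_lit 8183) (nat_lit 1686) Col.f (nat_lit 3164) Dv.df)))
(Tr.nd (nat_lit 8185) (Tr.lf (Fc.ed (nat_lit 8184) (nat_lit 3164) Col.a (nat_lit 3118) (Dv.wd (nat_lit 16) [Mv.f (nat_lit 8092), Mv.f (nat_lit 4987), Mv.f (nat_lit 8183)])))
(Tr.nd (nat_lit 8186) (Tr.lf (Fc.ed (nat_lit 8185) (nat_lit 3164) Col.c (nat_lit 2892) (Dv.wd (nat_lit 34) [Mv.f (nat_lit 7608), Mv.f (nat_lit 4909), Mv.f (nat_lit 8183)])))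
(Tr.lf (Fc.ed (nat_lit 8186) (nat_lit 3109) Col.c (nat_lit 3165) Dv.df)))))
(Tr.nd (nat_lit 8189) (Tr.nd (nat_lit 8188) (Tr.lf (Fc.ed (nat_lit 8187) (nat_lit 3165) Col.b (nat_lit 2643) (Dv.wd (nat_lit 87) [Mv.f (nat_lit 7059), Mv.f (nat_lit 4938), Mv.b (nat_lit 5589), Mv.b (nat_lit 8076), Mv.f (nat_lit 8186)])))
(Tr.lf (Fc.ed (nat_lit 8188) (nat_lit 2175) Col.a (nat_lit 3166) Dv.df)))
(Tr.nd (nat_lit 8190) (Tr.lf (Fc.ed (nat_lit 8189) (nat_lit 3166) Col.d (nat_lit 2409) (Dv.wd (nat_lit 28) [Mv.f (nat_lit 6524), Mv.b (nat_lit 6019), Mv.f (nat_lit 8188)])))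
(Tr.nd (nat_lit 8191) (Tr.lf (Fc.ed (nat_lit 8190) (nat_lit 3166) Col.e (nat_lit 2812) (Dv.wd (nat_lit 56) [Mv.b (nat_lit 7434), Mv.f (nat_lit 6917), Mv.f (nat_lit 8188)])))
(Tr.lf (Fc.ed (nat_lit 8191) (nat_lit 3166) Col.b (nat_lit 3166) (Dv.wd (nat_lit 65) [Mv.b (nat_lit 8188), Mv.f (nat_lit 6018), Mv.f (nat_lit 4881), Mv.b (nat_lit 6018), Mv.f (nat_lit 8188)]))))))))
(Tr.nd (nat_lit 8202) (Tr.nd (nat_lit 8197) (Tr.nd (nat_lit 8194) (Tr.nd (nat_lit 8193) (Tr.lf (Fc.ed (nat_lit 8192) (nat_lit 2814) Col.a (nat_lit 3167) Dv.df))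
(Tr.lf (Fc.ed (nat_lit 8193) (nat_lit 3167) Col.c (nat_lit 1691) (Dv.wd (nat_lit 33) [Mv.b (nat_lit 4921), Mv.f (nat_lit 7439), Mv.f (nat_lit 8192)]))))
(Tr.nd (nat_lit 8195) (Tr.lf (Fc.ed (nat_lit 8194) (nat_lit 1333) Col.g (nat_lit 3168) Dv.df))
(Tr.nd (nat_lit 8196) (Tr.lf (Fc.ed (nat_lit 8195) (nat_lit 3168) Col.g (nat_lit 2685) (Dv.wd (nat_lit 9) [Mv.f (nat_lit 7156), Mv.f (nat_lit 5036), Mv.f (nat_lit 8194)])))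
(Tr.lf (Fc.ed (nat_lit 8196) (nat_lit 3146) Col.b (nat_lit 3169) Dv.df)))))
(Tr.nd (nat_lit 8199) (Tr.nd (nat_lit 8198) (Tr.lf (Fc.ed (nat_lit 8197) (nat_lit 3169) Col.g (nat_lit 1983) (Dv.wd (nat_lit 118) [Mv.f (nat_lit 5548), Mv.b (nat_lit 7948), Mv.b (nat_lit 7946), Mv.b (nat_lit 7724), Mv.b (nat_lit 5101), Mv.b (nat_lit 3415), Mv.f (nat_lit 3417), Mv.f (nat_lit 5935), Mv.f (nat_lit 8149), Mv.f (nat_lit 8196)])))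
(Tr.lf (Fc.ed (nat_lit 8198) (nat_lit 2440) Col.b (nat_lit 3170) Dv.df)))
(Tr.nd (nat_lit 8200) (Tr.lf (Fc.ed (nat_lit 8199) (nat_lit 3021) Col.f (nat_lit 3171) Dv.df))
(Tr.nd (nat_lit 8201) (Tr.lf (Fc.ed (nat_lit 8200) (nat_lit 3171) Col.a (nat_lit 3004) (Dv.wd (nat_lit 23) [Mv.b (nat_lit 7836), Mv.b (nat_lit 7873), Mv.f (nat_lit 8199)])))
(Tr.lf (Fc.ed (nat_lit 8201) (nat_lit 1296) Col.gi (nat_lit 3172) Dv.df))))))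
(Tr.nd (nat_lit 8207) (Tr.nd (nat_lit 8204) (Tr.nd (nat_lit 8203) (Tr.lf (Fc.ed (nat_lit 8202) (nat_lit 3172) Col.gi (nat_lit 2995) (Dv.wd (nat_lit 24) [Mv.f (nat_lit 7817), Mv.b (nat_lit 6603), Mv.f (nat_lit 8201)])))
(Tr.lf (Fc.ed (nat_lit 8203) (nat_lit 813) Col.d (nat_lit 3173) Dv.df)))
(Tr.nd (nat_lit 8205) (Tr.lf (Fc.ed (nat_lit 8204) (nat_lit 3173) Col.e (nat_lit 762) (Dv.wd (nat_lit 74) [Mv.b (nat_lit 2671), Mv.b (nat_lit 2715), Mv.f (nat_lit 896), Mv.b (nat_lit 3321), Mv.f (nat_lit 8113), Mv.b (nat_lit 3320), Mv.f (nat_lit 2926), Mv.b (nat_lit 2371), Mv.f (nat_lit 2326), Mv.f (nat_lit 8203)])))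
(Tr.nd (nat_lit 8206) (Tr.lf (Fc.ed (nat_lit 8205) (nat_lit 1928) Col.c (nat_lit 3174) Dv.df))
(Tr.lf (Fc.ed (nat_lit 8206) (nat_lit 3174) Col.f (nat_lit 2661) (Dv.wd (nat_lit 26) [Mv.f (nat_lit 7103), Mv.f (nat_lit 5431), Mv.f (nat_lit 8205)]))))))
(Tr.nd (nat_lit 8210) (Tr.nd (nat_lit 8208) (Tr.lf (Fc.ed (nat_lit 8207) (nat_lit 3083) Col.f (nat_lit 3175) Dv.df))
(Tr.nd (nat_lit 8209) (Tr.lf (Fc.ed (nat_lit 8208) (nat_lit 3175) Col.c (nat_lit 1701) (Dv.wd (nat_lit 34) [Mv.f (nat_lit 4943), Mv.f (nat_lit 8014), Mv.f (nat_lit 8207)])))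
(Tr.lf (Fc.ed (nat_lit 8209) (nat_lit 2286) Col.gi (nat_lit 3176) Dv.df))))
(Tr.nd (nat_lit 8211) (Tr.lf (Fc.ed (nat_lit 8210) (nat_lit 3176) Col.gi (nat_lit 1347) (Dv.wd (nat_lit 24) [Mv.f (nat_lit 6940), Mv.f (nat_lit 6941), Mv.f (nat_lit 8209)])))
(Tr.nd (nat_lit 8212) (Tr.lf (Fc.ed (nat_lit 8211) (nat_lit 3024) Col.b (nat_lit 3177) Dv.df))
(Tr.lf (Fc.ed (nat_lit 8212) (nat_lit 3177) Col.g (nat_lit 2217) (Dv.wd (nat_lit 122) [Mv.b (nat_lit 6110), Mv.b (nat_lit 3645), Mv.f (nat_lit 2613), Mv.f (nat_lit 2586), Mv.b (nat_lit 2580), Mv.b (nat_lit 2601), Mv.f (nat_lit 3807), Mv.b (nat_lit 6396), Mv.f (nat_lit 7878), Mv.f (nat_lit 8211)]))))))))))))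
(Tr.nd (nat_lit 8377) (Tr.nd (nat_lit 8295) (Tr.nd (nat_lit 8254) (Tr.nd (nat_lit 8233) (Tr.nd (nat_lit 8223) (Tr.nd (nat_lit 8218) (Tr.nd (nat_lit 8215) (Tr.nd (nat_lit 8214) (Tr.lf (Fc.ed (nat_lit 8213) (nat_lit 3011) Col.gi (nat_lit 3178) Dv.df))
(Tr.lf (Fc.ed (nat_lit 8214) (nat_lit 3178) Col.gi (nat_lit 1481) (Dv.wd (nat_lit 24) [Mv.b (nat_lit 6454), Mv.f (nat_lit 7852), Mv.f (nat_lit 8213)]))))
(Tr.nd (nat_lit 8216) (Tr.lf (Fc.ed (nat_lit 8215) (nat_lit 1626) Col.gi (nat_lit 3179) Dv.df))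
(Tr.nd (nat_lit 8217) (Tr.lf (Fc.ed (nat_lit 8216) (nat_lit 3179) Col.gi (nat_lit 1846) (Dv.wd (nat_lit 24) [Mv.f (nat_lit 5264), Mv.b (nat_lit 4777), Mv.f (nat_lit 8215)])))
(Tr.lf (Fc.ed (nat_lit 8217) (nat_lit 1484) Col.gi (nat_lit 3180) Dv.df)))))
(Tr.nd (nat_lit 8220) (Tr.nd (nat_lit 8219) (Tr.lf (Fc.ed (nat_lit 8218) (nat_lit 2989) Col.f (nat_lit 3181) Dv.df))
(Tr.lf (Fc.ed (nat_lit 8219) (nat_lit 3181) Col.a (nat_lit 2299) (Dv.wd (nat_lit 16) [Mv.f (nat_lit 6291), Mv.f (nat_lit 7804), Mv.f (nat_lit 8218)]))))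
(Tr.nd (nat_lit 8221) (Tr.lf (Fc.ed (nat_lit 8220) (nat_lit 3181) Col.d (nat_lit 2313) (Dv.wd (nat_lit 21) [Mv.b (nat_lit 6819), Mv.b (nat_lit 7805), Mv.f (nat_lit 8218)])))
(Tr.nd (nat_lit 8222) (Tr.lf (Fc.ed (nat_lit 8221) (nat_lit 1848) Col.f (nat_lit 3182) Dv.df))
(Tr.lf (Fc.ed (nat_lit 8222) (nat_lit 3182) Col.a (nat_lit 2936) (Dv.wd (nat_lit 16) [Mv.f (nat_lit 8121), Mv.f (nat_lit 8122), Mv.f (nat_lit 8221)])))))))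
(Tr.nd (nat_lit 8228) (Tr.nd (nat_lit 8225) (Tr.nd (nat_lit 8224) (Tr.lf (Fc.ed (nat_lit 8223) (nat_lit 3079) Col.b (nat_lit 3183) Dv.df))
(Tr.lf (Fc.ed (nat_lit 8224) (nat_lit 3183) Col.c (nat_lit 2623) (Dv.wd (nat_lit 135) [Mv.b (nat_lit 7011), Mv.b (nat_lit 2967), Mv.b (nat_lit 2966), Mv.f (nat_lit 1538), Mv.f (nat_lit 1565), Mv.b (nat_lit 1564), Mv.f (nat_lit 2260), Mv.f (nat_lit 5302), Mv.b (nat_lit 8006), Mv.f (nat_lit 8223)]))))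
(Tr.nd (nat_lit 8226) (Tr.lf (Fc.ed (nat_lit 8225) (nat_lit 2818) Col.e (nat_lit 3184) Dv.df))
(Tr.nd (nat_lit 8227) (Tr.lf (Fc.ed (nat_lit 8226) (nat_lit 3184) Col.a (nat_lit 2880) (Dv.wd (nat_lit 15) [Mv.f (nat_lit 7582), Mv.f (nat_lit 7444), Mv.f (nat_lit 8225)])))
(Tr.lf (Fc.ed (nat_lit 8227) (nat_lit 3184) Col.c (nat_lit 1769) (Dv.wd (nat_lit 18) [Mv.f (nat_lit 5427), Mv.b (nat_lit 7445), Mv.f (nat_lit 8225)]))))))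
(Tr.nd (nat_lit 8230) (Tr.nd (nat_lit 8229) (Tr.lf (Fc.ed (nat_lit 8228) (nat_lit 3184) Col.f (nat_lit 1907) (Dv.wd (nat_lit 96) [Mv.f (nat_lit 5387), Mv.b (nat_lit 3632), Mv.f (nat_lit 6323), Mv.b (nat_lit 7446), Mv.f (nat_lit 8225)])))
(Tr.lf (Fc.ed (nat_lit 8229) (nat_lit 2184) Col.f (nat_lit 3185) Dv.df)))
(Tr.nd (nat_lit 8231) (Tr.lf (Fc.ed (nat_lit 8230) (nat_lit 3185) Col.b (nat_lit 2895) (Dv.wd (nat_lit 66) [Mv.f (nat_lit 7613), Mv.f (nat_lit 6042), Mv.f (nat_lit 8229)])))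
(Tr.nd (nat_lit 8232) (Tr.lf (Fc.ed (nat_lit 8231) (nat_lit 3185) Col.c (nat_lit 2324) (Dv.wd (nat_lit 34) [Mv.f (nat_lit 6346), Mv.b (nat_lit 6148), Mv.f (nat_lit 8229)])))
(Tr.lf (Fc.ed (nat_lit 8232) (nat_lit 2136) Col.c (nat_lit 3186) Dv.df)))))))
(Tr.nd (nat_lit 8243) (Tr.nd (nat_lit 8238) (Tr.nd (nat_lit 8235) (Tr.nd (nat_lit 8234) (Tr.lf (Fc.ed (nat_lit 8233) (nat_lit 2245) Col.g (nat_lit 3187) Dv.df))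
(Tr.lf (Fc.ed (nat_lit 8234) (nat_lit 3187) Col.g (nat_lit 1482) (Dv.wd (nat_lit 9) [Mv.f (nat_lit 4463), Mv.f (nat_lit 6160), Mv.f (nat_lit 8233)]))))
(Tr.nd (nat_lit 8236) (Tr.lf (Fc.ed (nat_lit 8235) (nat_lit 2178) Col.f (nat_lit 3188) Dv.df))
(Tr.nd (nat_lit 8237) (Tr.lf (Fc.ed (nat_lit 8236) (nat_lit 3188) Col.a (nat_lit 2475) (Dv.wd (nat_lit 23) [Mv.f (nat_lit 6673), Mv.b (nat_lit 6025), Mv.f (nat_lit 8235)])))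
(Tr.lf (Fc.ed (nat_lit 8237) (nat_lit 1662) Col.gi (nat_lit 3189) Dv.df)))))
(Tr.nd (nat_lit 8240) (Tr.nd (nat_lit 8239) (Tr.lf (Fc.ed (nat_lit 8238) (nat_lit 3189) Col.gi (nat_lit 1484) (Dv.wd (nat_lit 24) [Mv.f (nat_lit 4527), Mv.b (nat_lit 4855), Mv.f (nat_lit 8237)])))
(Tr.lf (Fc.ed (nat_lit 8239) (nat_lit 2743) Col.b (nat_lit 3190) Dv.df)))
(Tr.nd (nat_lit 8241) (Tr.lf (Fc.ed (nat_lit 8240) (nat_lit 1119) Col.gi (nat_lit 3191) Dv.df))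
(Tr.nd (nat_lit 8242) (Tr.lf (Fc.ed (nat_lit 8241) (nat_lit 3191) Col.gi (nat_lit 2395) (Dv.wd (nat_lit 24) [Mv.f (nat_lit 6497), Mv.f (nat_lit 4852), Mv.f (nat_lit 8240)])))
(Tr.lf (Fc.ed (nat_lit 8242) (nat_lit 2869) Col.c (nat_lit 3192) Dv.df))))))
(Tr.nd (nat_lit 8248) (Tr.nd (nat_lit 8245) (Tr.nd (nat_lit 8244) (Tr.lf (Fc.ed (nat_lit 8243) (nat_lit 3192) Col.f (nat_lit 1739) (Dv.wd (nat_lit 26) [Mv.f (nat_lit 6969), Mv.f (nat_lit 7554), Mv.f (nat_lit 8242)])))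
(Tr.lf (Fc.ed (nat_lit 8244) (nat_lit 3192) Col.b (nat_lit 1492) (Dv.wd (nat_lit 87) [Mv.b (nat_lit 4480), Mv.f (nat_lit 3599), Mv.b (nat_lit 3163), Mv.b (nat_lit 7555), Mv.f (nat_lit 8242)]))))
(Tr.nd (nat_lit 8246) (Tr.lf (Fc.ed (nat_lit 8245) (nat_lit 2329) Col.gi (nat_lit 3193) Dv.df))
(Tr.nd (nat_lit 8247) (Tr.lf (Fc.ed (nat_lit 8246) (nat_lit 2180) Col.g (nat_lit 3194) Dv.df))
(Tr.lf (Fc.ed (nat_lit 8247) (nat_lit 3194) Col.g (nat_lit 2342) (Dv.wd (nat_lit 9) [Mv.b (nat_lit 6392), Mv.b (nat_lit 6031), Mv.f (nat_lit 8246)]))))))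
(Tr.nd (nat_lit 8251) (Tr.nd (nat_lit 8249) (Tr.lf (Fc.ed (nat_lit 8248) (nat_lit 2989) Col.e (nat_lit 3195) Dv.df))
(Tr.nd (nat_lit 8250) (Tr.lf (Fc.ed (nat_lit 8249) (nat_lit 3195) Col.a (nat_lit 2122) (Dv.wd (nat_lit 15) [Mv.b (nat_lit 5899), Mv.f (nat_lit 7804), Mv.f (nat_lit 8248)])))
(Tr.lf (Fc.ed (nat_lit 8250) (nat_lit 1610) Col.b (nat_lit 3196) Dv.df))))
(Tr.nd (nat_lit 8252) (Tr.lf (Fc.ed (nat_lit 8251) (nat_lit 1684) Col.g (nat_lit 3197) Dv.df))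
(Tr.nd (nat_lit 8253) (Tr.lf (Fc.ed (nat_lit 8252) (nat_lit 3197) Col.g (nat_lit 1592) (Dv.wd (nat_lit 9) [Mv.f (nat_lit 4699), Mv.b (nat_lit 4906), Mv.f (nat_lit 8251)])))
(Tr.lf (Fc.ed (nat_lit 8253) (nat_lit 3166) Col.f (nat_lit 3198) Dv.df))))))))
(Tr.nd (nat_lit 8274) (Tr.nd (nat_lit 8264) (Tr.nd (nat_lit 8259) (Tr.nd (nat_lit 8256) (Tr.nd (nat_lit 8255) (Tr.lf (Fc.ed (nat_lit 8254) (nat_lit 3198) Col.a (nat_lit 1504) (Dv.wd (nat_lit 16) [Mv.f (nat_lit 6017), Mv.f (nat_lit 8188), Mv.f (nat_lit 8253)])))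
(Tr.lf (Fc.ed (nat_lit 8255) (nat_lit 3198) Col.b (nat_lit 3198) (Dv.wd (nat_lit 66) [Mv.b (nat_lit 8253), Mv.f (nat_lit 8191), Mv.f (nat_lit 8253)]))))
(Tr.nd (nat_lit 8257) (Tr.lf (Fc.ed (nat_lit 8256) (nat_lit 3198) Col.d (nat_lit 2112) (Dv.wd (nat_lit 21) [Mv.f (nat_lit 6523), Mv.b (nat_lit 8189), Mv.f (nat_lit 8253)])))
(Tr.nd (nat_lit 8258) (Tr.lf (Fc.ed (nat_lit 8257) (nat_lit 3198) Col.e (nat_lit 1462) (Dv.wd (nat_lit 22) [Mv.b (nat_lit 4922), Mv.b (nat_lit 7030), Mv.b (nat_lit 7435), Mv.b (nat_lit 8190), Mv.f (nat_lit 8253)])))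
(Tr.lf (Fc.ed (nat_lit 8258) (nat_lit 927) Col.b (nat_lit 3199) Dv.df)))))
(Tr.nd (nat_lit 8261) (Tr.nd (nat_lit 8260) (Tr.lf (Fc.ed (nat_lit 8259) (nat_lit 3199) Col.c (nat_lit 3148) (Dv.wd (nat_lit 135) [Mv.f (nat_lit 8153), Mv.f (nat_lit 5144), Mv.b (nat_lit 3824), Mv.b (nat_lit 1105), Mv.b (nat_lit 842), Mv.f (nat_lit 582), Mv.f (nat_lit 478), Mv.f (nat_lit 915), Mv.f (nat_lit 2944), Mv.f (nat_lit 8258)])))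
(Tr.lf (Fc.ed (nat_lit 8260) (nat_lit 3035) Col.f (nat_lit 3200) Dv.df)))
(Tr.nd (nat_lit 8262) (Tr.lf (Fc.ed (nat_lit 8261) (nat_lit 2068) Col.f (nat_lit 3201) Dv.df))
(Tr.nd (nat_lit 8263) (Tr.lf (Fc.ed (nat_lit 8262) (nat_lit 3201) Col.b (nat_lit 2553) (Dv.wd (nat_lit 66) [Mv.f (nat_lit 6866), Mv.b (nat_lit 5717), Mv.f (nat_lit 8261)])))
(Tr.lf (Fc.ed (nat_lit 8263) (nat_lit 3201) Col.d (nat_lit 2987) (Dv.wd (nat_lit 21) [Mv.f (nat_lit 7801), Mv.f (nat_lit 5716), Mv.f (nat_lit 8261)])))))))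
(Tr.nd (nat_lit 8269) (Tr.nd (nat_lit 8266) (Tr.nd (nat_lit 8265) (Tr.lf (Fc.ed (nat_lit 8264) (nat_lit 1563) Col.gi (nat_lit 3202) Dv.df))
(Tr.lf (Fc.ed (nat_lit 8265) (nat_lit 3202) Col.gi (nat_lit 2405) (Dv.wd (nat_lit 24) [Mv.f (nat_lit 6515), Mv.b (nat_lit 6514), Mv.f (nat_lit 8264)]))))
(Tr.nd (nat_lit 8267) (Tr.lf (Fc.ed (nat_lit 8266) (nat_lit 2769) Col.c (nat_lit 3203) Dv.df))
(Tr.nd (nat_lit 8268) (Tr.lf (Fc.ed (nat_lit 8267) (nat_lit 3203) Col.a (nat_lit 2926) (Dv.wd (nat_lit 19) [Mv.b (nat_lit 7678), Mv.f (nat_lit 7334), Mv.f (nat_lit 8266)])))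
(Tr.lf (Fc.ed (nat_lit 8268) (nat_lit 3203) Col.e (nat_lit 1957) (Dv.wd (nat_lit 25) [Mv.f (nat_lit 5489), Mv.b (nat_lit 7335), Mv.f (nat_lit 8266)]))))))
(Tr.nd (nat_lit 8271) (Tr.nd (nat_lit 8270) (Tr.lf (Fc.ed (nat_lit 8269) (nat_lit 1858) Col.f (nat_lit 3204) Dv.df))
(Tr.lf (Fc.ed (nat_lit 8270) (nat_lit 3204) Col.a (nat_lit 1704) (Dv.wd (nat_lit 16) [Mv.f (nat_lit 5375), Mv.f (nat_lit 5376), Mv.f (nat_lit 8269)]))))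
(Tr.nd (nat_lit 8272) (Tr.lf (Fc.ed (nat_lit 8271) (nat_lit 1615) Col.g (nat_lit 3205) Dv.df))
(Tr.nd (nat_lit 8273) (Tr.lf (Fc.ed (nat_lit 8272) (nat_lit 3205) Col.g (nat_lit 2553) (Dv.wd (nat_lit 9) [Mv.b (nat_lit 6865), Mv.b (nat_lit 5786), Mv.f (nat_lit 8271)])))
(Tr.lf (Fc.ed (nat_lit 8273) (nat_lit 3103) Col.c (nat_lit 3206) Dv.df)))))))
(Tr.nd (nat_lit 8284) (Tr.nd (nat_lit 8279) (Tr.nd (nat_lit 8276) (Tr.nd (nat_lit 8275) (Tr.lf (Fc.ed (nat_lit 8274) (nat_lit 2751) Col.f (nat_lit 3207) Dv.df))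
(Tr.lf (Fc.ed (nat_lit 8275) (nat_lit 3207) Col.a (nat_lit 2873) (Dv.wd (nat_lit 23) [Mv.f (nat_lit 7565), Mv.f (nat_lit 7297), Mv.f (nat_lit 8274)]))))
(Tr.nd (nat_lit 8277) (Tr.lf (Fc.ed (nat_lit 8276) (nat_lit 1687) Col.e (nat_lit 3208) Dv.df))
(Tr.nd (nat_lit 8278) (Tr.lf (Fc.ed (nat_lit 8277) (nat_lit 3208) Col.b (nat_lit 2174) (Dv.wd (nat_lit 49) [Mv.f (nat_lit 6016), Mv.f (nat_lit 4911), Mv.f (nat_lit 8276)])))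
(Tr.lf (Fc.ed (nat_lit 8278) (nat_lit 1832) Col.b (nat_lit 3209) Dv.df)))))
(Tr.nd (nat_lit 8281) (Tr.nd (nat_lit 8280) (Tr.lf (Fc.ed (nat_lit 8279) (nat_lit 3209) Col.d (nat_lit 1939) (Dv.wd (nat_lit 58) [Mv.b (nat_lit 5453), Mv.f (nat_lit 5232), Mv.f (nat_lit 8278)])))
(Tr.lf (Fc.ed (nat_lit 8280) (nat_lit 1602) Col.g (nat_lit 3210) Dv.df)))
(Tr.nd (nat_lit 8282) (Tr.lf (Fc.ed (nat_lit 8281) (nat_lit 1588) Col.gi (nat_lit 3211) Dv.df))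
(Tr.nd (nat_lit 8283) (Tr.lf (Fc.ed (nat_lit 8282) (nat_lit 3211) Col.gi (nat_lit 2801) (Dv.wd (nat_lit 24) [Mv.f (nat_lit 7410), Mv.f (nat_lit 5028), Mv.f (nat_lit 8281)])))
(Tr.lf (Fc.ed (nat_lit 8283) (nat_lit 3011) Col.b (nat_lit 3212) Dv.df))))))
(Tr.nd (nat_lit 8289) (Tr.nd (nat_lit 8286) (Tr.nd (nat_lit 8285) (Tr.lf (Fc.ed (nat_lit 8284) (nat_lit 3212) Col.f (nat_lit 2853) (Dv.wd (nat_lit 20) [Mv.b (nat_lit 7521), Mv.b (nat_lit 7853), Mv.f (nat_lit 8283)])))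
(Tr.lf (Fc.ed (nat_lit 8285) (nat_lit 3181) Col.g (nat_lit 3213) Dv.df)))
(Tr.nd (nat_lit 8287) (Tr.lf (Fc.ed (nat_lit 8286) (nat_lit 3213) Col.g (nat_lit 1634) (Dv.wd (nat_lit 9) [Mv.f (nat_lit 7804), Mv.f (nat_lit 8218), Mv.f (nat_lit 8285)])))
(Tr.nd (nat_lit 8288) (Tr.lf (Fc.ed (nat_lit 8287) (nat_lit 1923) Col.gi (nat_lit 3214) Dv.df))
(Tr.lf (Fc.ed (nat_lit 8288) (nat_lit 1828) Col.a (nat_lit 3215) Dv.df)))))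
(Tr.nd (nat_lit 8292) (Tr.nd (nat_lit 8290) (Tr.lf (Fc.ed (nat_lit 8289) (nat_lit 2112) Col.g (nat_lit 3216) Dv.df))
(Tr.nd (nat_lit 8291) (Tr.lf (Fc.ed (nat_lit 8290) (nat_lit 3216) Col.g (nat_lit 1829) (Dv.wd (nat_lit 9) [Mv.b (nat_lit 6524), Mv.b (nat_lit 6523), Mv.f (nat_lit 8289)])))
(Tr.lf (Fc.ed (nat_lit 8291) (nat_lit 2400) Col.c (nat_lit 3217) Dv.df))))
(Tr.nd (nat_lit 8293) (Tr.lf (Fc.ed (nat_lit 8292) (nat_lit 3217) Col.b (nat_lit 3017) (Dv.wd (nat_lit 101) [Mv.f (nat_lit 7865), Mv.f (nat_lit 5457), Mv.f (nat_lit 4057), Mv.f (nat_lit 3912), Mv.f (nat_lit 3107), Mv.f (nat_lit 2705), Mv.f (nat_lit 3241), Mv.f (nat_lit 3243), Mv.f (nat_lit 6505), Mv.f (nat_lit 8291)])))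
(Tr.nd (nat_lit 8294) (Tr.lf (Fc.ed (nat_lit 8293) (nat_lit 1453) Col.e (nat_lit 3218) Dv.df))
(Tr.lf (Fc.ed (nat_lit 8294) (nat_lit 1788) Col.f (nat_lit 3219) Dv.df)))))))))
(Tr.nd (nat_lit 8336) (Tr.nd (nat_lit 8315) (Tr.nd (nat_lit 8305) (Tr.nd (nat_lit 8300) (Tr.nd (nat_lit 8297) (Tr.nd (nat_lit 8296) (Tr.lf (Fc.ed (nat_lit 8295) (nat_lit 3219) Col.a (nat_lit 2047) (Dv.wd (nat_lit 16) [Mv.b (nat_lit 7505), Mv.b (nat_lit 7504), Mv.f (nat_lit 8294)])))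
(Tr.lf (Fc.ed (nat_lit 8296) (nat_lit 2879) Col.a (nat_lit 3220) Dv.df)))
(Tr.nd (nat_lit 8298) (Tr.lf (Fc.ed (nat_lit 8297) (nat_lit 3220) Col.d (nat_lit 2394) (Dv.wd (nat_lit 28) [Mv.b (nat_lit 6494), Mv.f (nat_lit 7577), Mv.f (nat_lit 8296)])))
(Tr.nd (nat_lit 8299) (Tr.lf (Fc.ed (nat_lit 8298) (nat_lit 3220) Col.f (nat_lit 2377) (Dv.wd (nat_lit 35) [Mv.b (nat_lit 6465), Mv.b (nat_lit 7578), Mv.f (nat_lit 8296)])))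
(Tr.lf (Fc.ed (nat_lit 8299) (nat_lit 2910) Col.d (nat_lit 3221) Dv.df)))))
(Tr.nd (nat_lit 8302) (Tr.nd (nat_lit 8301) (Tr.lf (Fc.ed (nat_lit 8300) (nat_lit 2410) Col.f (nat_lit 3222) Dv.df))
(Tr.lf (Fc.ed (nat_lit 8301) (nat_lit 3222) Col.c (nat_lit 2040) (Dv.wd (nat_lit 34) [Mv.b (nat_lit 5662), Mv.f (nat_lit 6525), Mv.f (nat_lit 8300)]))))
(Tr.nd (nat_lit 8303) (Tr.lf (Fc.ed (nat_lit 8302) (nat_lit 3036) Col.b (nat_lit 3223) Dv.df))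
(Tr.nd (nat_lit 8304) (Tr.lf (Fc.ed (nat_lit 8303) (nat_lit 3223) Col.f (nat_lit 1767) (Dv.wd (nat_lit 20) [Mv.b (nat_lit 5107), Mv.b (nat_lit 7900), Mv.f (nat_lit 8302)])))
(Tr.lf (Fc.ed (nat_lit 8304) (nat_lit 2999) Col.a (nat_lit 3224) Dv.df))))))
(Tr.nd (nat_lit 8310) (Tr.nd (nat_lit 8307) (Tr.nd (nat_lit 8306) (Tr.lf (Fc.ed (nat_lit 8305) (nat_lit 3224) Col.c (nat_lit 1129) (Dv.wd (nat_lit 33) [Mv.b (nat_lit 4580), Mv.f (nat_lit 7826), Mv.f (nat_lit 8304)])))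
(Tr.lf (Fc.ed (nat_lit 8306) (nat_lit 1834) Col.g (nat_lit 3225) Dv.df)))
(Tr.nd (nat_lit 8308) (Tr.lf (Fc.ed (nat_lit 8307) (nat_lit 3225) Col.g (nat_lit 1260) (Dv.wd (nat_lit 9) [Mv.f (nat_lit 6305), Mv.f (nat_lit 6307), Mv.f (nat_lit 8306)])))
(Tr.nd (nat_lit 8309) (Tr.lf (Fc.ed (nat_lit 8308) (nat_lit 1504) Col.c (nat_lit 3226) Dv.df))
(Tr.lf (Fc.ed (nat_lit 8309) (nat_lit 1606) Col.g (nat_lit 3227) Dv.df)))))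
(Tr.nd (nat_lit 8312) (Tr.nd (nat_lit 8311) (Tr.lf (Fc.ed (nat_lit 8310) (nat_lit 3227) Col.g (nat_lit 3086) (Dv.wd (nat_lit 9) [Mv.b (nat_lit 8020), Mv.f (nat_lit 4724), Mv.f (nat_lit 8309)])))
(Tr.lf (Fc.ed (nat_lit 8311) (nat_lit 3009) Col.g (nat_lit 3228) Dv.df)))
(Tr.nd (nat_lit 8313) (Tr.lf (Fc.ed (nat_lit 8312) (nat_lit 3228) Col.g (nat_lit 1274) (Dv.wd (nat_lit 9) [Mv.b (nat_lit 5199), Mv.f (nat_lit 7844), Mv.f (nat_lit 8311)])))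
(Tr.nd (nat_lit 8314) (Tr.lf (Fc.ed (nat_lit 8313) (nat_lit 1278) Col.d (nat_lit 3229) Dv.df))
(Tr.lf (Fc.ed (nat_lit 8314) (nat_lit 3229) Col.f (nat_lit 2787) (Dv.wd (nat_lit 11) [Mv.f (nat_lit 7377), Mv.b (nat_lit 6729), Mv.f (nat_lit 8313)]))))))))
(Tr.nd (nat_lit 8325) (Tr.nd (nat_lit 8320) (Tr.nd (nat_lit 8317) (Tr.nd (nat_lit 8316) (Tr.lf (Fc.ed (nat_lit 8315) (nat_lit 2407) Col.g (nat_lit 3230) Dv.df))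
(Tr.lf (Fc.ed (nat_lit 8316) (nat_lit 3230) Col.g (nat_lit 3065) (Dv.wd (nat_lit 9) [Mv.b (nat_lit 7977), Mv.f (nat_lit 6518), Mv.f (nat_lit 8315)]))))
(Tr.nd (nat_lit 8318) (Tr.lf (Fc.ed (nat_lit 8317) (nat_lit 3156) Col.d (nat_lit 3231) Dv.df))
(Tr.nd (nat_lit 8319) (Tr.lf (Fc.ed (nat_lit 8318) (nat_lit 1916) Col.e (nat_lit 3232) Dv.df))
(Tr.lf (Fc.ed (nat_lit 8319) (nat_lit 1968) Col.b (nat_lit 3233) Dv.df)))))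
(Tr.nd (nat_lit 8322) (Tr.nd (nat_lit 8321) (Tr.lf (Fc.ed (nat_lit 8320) (nat_lit 3233) Col.e (nat_lit 2869) (Dv.wd (nat_lit 52) [Mv.f (nat_lit 7555), Mv.f (nat_lit 5515), Mv.f (nat_lit 8319)])))
(Tr.lf (Fc.ed (nat_lit 8321) (nat_lit 2319) Col.f (nat_lit 3234) Dv.df)))
(Tr.nd (nat_lit 8323) (Tr.lf (Fc.ed (nat_lit 8322) (nat_lit 3234) Col.a (nat_lit 1106) (Dv.wd (nat_lit 16) [Mv.b (nat_lit 3414), Mv.f (nat_lit 6334), Mv.f (nat_lit 8321)])))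
(Tr.nd (nat_lit 8324) (Tr.lf (Fc.ed (nat_lit 8323) (nat_lit 2659) Col.gi (nat_lit 3235) Dv.df))
(Tr.lf (Fc.ed (nat_lit 8324) (nat_lit 1598) Col.c (nat_lit 3236) Dv.df))))))
(Tr.nd (nat_lit 8330) (Tr.nd (nat_lit 8327) (Tr.nd (nat_lit 8326) (Tr.lf (Fc.ed (nat_lit 8325) (nat_lit 1829) Col.g (nat_lit 3237) Dv.df))
(Tr.lf (Fc.ed (nat_lit 8326) (nat_lit 3237) Col.g (nat_lit 2112) (Dv.wd (nat_lit 9) [Mv.f (nat_lit 5881), Mv.f (nat_lit 5227), Mv.f (nat_lit 8325)]))))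
(Tr.nd (nat_lit 8328) (Tr.lf (Fc.ed (nat_lit 8327) (nat_lit 3231) Col.b (nat_lit 3238) Dv.df))
(Tr.nd (nat_lit 8329) (Tr.lf (Fc.ed (nat_lit 8328) (nat_lit 1246) Col.e (nat_lit 3239) Dv.df))
(Tr.lf (Fc.ed (nat_lit 8329) (nat_lit 3239) Col.a (nat_lit 3232) (Dv.wd (nat_lit 15) [Mv.b (nat_lit 8318), Mv.f (nat_lit 5404), Mv.f (nat_lit 8328)]))))))
(Tr.nd (nat_lit 8333) (Tr.nd (nat_lit 8331) (Tr.lf (Fc.ed (nat_lit 8330) (nat_lit 1585) Col.g (nat_lit 3240) Dv.df))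
(Tr.nd (nat_lit 8332) (Tr.lf (Fc.ed (nat_lit 8331) (nat_lit 2565) Col.c (nat_lit 3241) Dv.df))
(Tr.lf (Fc.ed (nat_lit 8332) (nat_lit 3241) Col.a (nat_lit 2813) (Dv.wd (nat_lit 19) [Mv.b (nat_lit 7436), Mv.f (nat_lit 6885), Mv.f (nat_lit 8331)])))))
(Tr.nd (nat_lit 8334) (Tr.lf (Fc.ed (nat_lit 8333) (nat_lit 3241) Col.f (nat_lit 2918) (Dv.wd (nat_lit 26) [Mv.f (nat_lit 7663), Mv.f (nat_lit 6953), Mv.f (nat_lit 8331)])))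
(Tr.nd (nat_lit 8335) (Tr.lf (Fc.ed (nat_lit 8334) (nat_lit 3241) Col.b (nat_lit 3156) (Dv.wd (nat_lit 165) [Mv.b (nat_lit 8169), Mv.b (nat_lit 5089), Mv.b (nat_lit 4807), Mv.f (nat_lit 3385), Mv.b (nat_lit 3120), Mv.b (nat_lit 1100), Mv.f (nat_lit 3988), Mv.f (nat_lit 3990), Mv.b (nat_lit 6886), Mv.f (nat_lit 8331)])))
(Tr.lf (Fc.ed (nat_lit 8335) (nat_lit 3238) Col.d (nat_lit 3241) (Dv.wd (nat_lit 116) [Mv.f (nat_lit 8334), Mv.f (nat_lit 8317), Mv.f (nat_lit 8327)])))))))))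
(Tr.nd (nat_lit 8356) (Tr.nd (nat_lit 8346) (Tr.nd (nat_lit 8341) (Tr.nd (nat_lit 8338) (Tr.nd (nat_lit 8337) (Tr.lf (Fc.ed (nat_lit 8336) (nat_lit 1695) Col.a (nat_lit 3242) Dv.df))
(Tr.lf (Fc.ed (nat_lit 8337) (nat_lit 2672) Col.e (nat_lit 3243) Dv.df)))
(Tr.nd (nat_lit 8339) (Tr.lf (Fc.ed (nat_lit 8338) (nat_lit 3243) Col.a (nat_lit 1941) (Dv.wd (nat_lit 15) [Mv.f (nat_lit 5459), Mv.f (nat_lit 7127), Mv.f (nat_lit 8337)])))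
(Tr.nd (nat_lit 8340) (Tr.lf (Fc.ed (nat_lit 8339) (nat_lit 3243) Col.f (nat_lit 2928) (Dv.wd (nat_lit 96) [Mv.f (nat_lit 7683), Mv.b (nat_lit 6819), Mv.f (nat_lit 6818), Mv.b (nat_lit 7128), Mv.f (nat_lit 8337)])))
(Tr.lf (Fc.ed (nat_lit 8340) (nat_lit 3086) Col.d (nat_lit 3243) (Dv.wd (nat_lit 90) [Mv.f (nat_lit 8339), Mv.f (nat_lit 7682), Mv.b (nat_lit 8021)]))))))
(Tr.nd (nat_lit 8343) (Tr.nd (nat_lit 8342) (Tr.lf (Fc.ed (nat_lit 8341) (nat_lit 2799) Col.c (nat_lit 3244) Dv.df))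
(Tr.lf (Fc.ed (nat_lit 8342) (nat_lit 2532) Col.c (nat_lit 3245) Dv.df)))
(Tr.nd (nat_lit 8344) (Tr.lf (Fc.ed (nat_lit 8343) (nat_lit 3245) Col.f (nat_lit 1835) (Dv.wd (nat_lit 26) [Mv.b (nat_lit 5239), Mv.b (nat_lit 6814), Mv.f (nat_lit 8342)])))
(Tr.nd (nat_lit 8345) (Tr.lf (Fc.ed (nat_lit 8344) (nat_lit 2196) Col.a (nat_lit 3245) (Dv.wd (nat_lit 79) [Mv.f (nat_lit 8343), Mv.b (nat_lit 5516), Mv.f (nat_lit 6072)])))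
(Tr.lf (Fc.ed (nat_lit 8345) (nat_lit 1634) Col.g (nat_lit 3246) Dv.df))))))
(Tr.nd (nat_lit 8351) (Tr.nd (nat_lit 8348) (Tr.nd (nat_lit 8347) (Tr.lf (Fc.ed (nat_lit 8346) (nat_lit 3246) Col.g (nat_lit 3181) (Dv.wd (nat_lit 9) [Mv.f (nat_lit 8219), Mv.f (nat_lit 6291), Mv.f (nat_lit 8345)])))
(Tr.lf (Fc.ed (nat_lit 8347) (nat_lit 3026) Col.d (nat_lit 3247) Dv.df)))
(Tr.nd (nat_lit 8349) (Tr.lf (Fc.ed (nat_lit 8348) (nat_lit 3247) Col.e (nat_lit 2884) (Dv.wd (nat_lit 74) [Mv.b (nat_lit 7589), Mv.f (nat_lit 4510), Mv.f (nat_lit 2872), Mv.f (nat_lit 1901), Mv.f (nat_lit 1935), Mv.f (nat_lit 2088), Mv.f (nat_lit 4591), Mv.f (nat_lit 4593), Mv.f (nat_lit 7881), Mv.f (nat_lit 8347)])))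
(Tr.nd (nat_lit 8350) (Tr.lf (Fc.ed (nat_lit 8349) (nat_lit 2580) Col.g (nat_lit 3248) Dv.df))
(Tr.lf (Fc.ed (nat_lit 8350) (nat_lit 3248) Col.g (nat_lit 1519) (Dv.wd (nat_lit 9) [Mv.b (nat_lit 6125), Mv.b (nat_lit 6926), Mv.f (nat_lit 8349)]))))))
(Tr.nd (nat_lit 8353) (Tr.nd (nat_lit 8352) (Tr.lf (Fc.ed (nat_lit 8351) (nat_lit 3010) Col.c (nat_lit 3249) Dv.df))
(Tr.lf (Fc.ed (nat_lit 8352) (nat_lit 3249) Col.e (nat_lit 3165) (Dv.wd (nat_lit 25) [Mv.b (nat_lit 8186), Mv.b (nat_lit 8075), Mv.f (nat_lit 8351)]))))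
(Tr.nd (nat_lit 8354) (Tr.lf (Fc.ed (nat_lit 8353) (nat_lit 3249) Col.f (nat_lit 3039) (Dv.wd (nat_lit 26) [Mv.b (nat_lit 7907), Mv.b (nat_lit 7851), Mv.f (nat_lit 8351)])))
(Tr.nd (nat_lit 8355) (Tr.lf (Fc.ed (nat_lit 8354) (nat_lit 3249) Col.b (nat_lit 2383) (Dv.wd (nat_lit 87) [Mv.f (nat_lit 6711), Mv.b (nat_lit 3810), Mv.b (nat_lit 3375), Mv.f (nat_lit 7849), Mv.f (nat_lit 8351)])))
(Tr.lf (Fc.ed (nat_lit 8355) (nat_lit 1787) Col.gi (nat_lit 3250) Dv.df)))))))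
(Tr.nd (nat_lit 8366) (Tr.nd (nat_lit 8361) (Tr.nd (nat_lit 8358) (Tr.nd (nat_lit 8357) (Tr.lf (Fc.ed (nat_lit 8356) (nat_lit 3250) Col.gi (nat_lit 1783) (Dv.wd (nat_lit 24) [Mv.b (nat_lit 5138), Mv.b (nat_lit 5147), Mv.f (nat_lit 8355)])))
(Tr.lf (Fc.ed (nat_lit 8357) (nat_lit 3014) Col.b (nat_lit 3251) Dv.df)))
(Tr.nd (nat_lit 8359) (Tr.lf (Fc.ed (nat_lit 8358) (nat_lit 1885) Col.g (nat_lit 3252) Dv.df))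
(Tr.nd (nat_lit 8360) (Tr.lf (Fc.ed (nat_lit 8359) (nat_lit 3252) Col.g (nat_lit 2940) (Dv.wd (nat_lit 9) [Mv.f (nat_lit 7705), Mv.b (nat_lit 6509), Mv.f (nat_lit 8358)])))
(Tr.lf (Fc.ed (nat_lit 8360) (nat_lit 3011) Col.e (nat_lit 3253) Dv.df)))))
(Tr.nd (nat_lit 8363) (Tr.nd (nat_lit 8362) (Tr.lf (Fc.ed (nat_lit 8361) (nat_lit 3253) Col.a (nat_lit 2302) (Dv.wd (nat_lit 15) [Mv.f (nat_lit 6453), Mv.f (nat_lit 7852), Mv.f (nat_lit 8360)])))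
(Tr.lf (Fc.ed (nat_lit 8362) (nat_lit 3253) Col.f (nat_lit 1962) (Dv.wd (nat_lit 96) [Mv.b (nat_lit 5501), Mv.b (nat_lit 3967), Mv.b (nat_lit 4779), Mv.b (nat_lit 7853), Mv.f (nat_lit 8360)]))))
(Tr.nd (nat_lit 8364) (Tr.lf (Fc.ed (nat_lit 8363) (nat_lit 2785) Col.f (nat_lit 3254) Dv.df))
(Tr.nd (nat_lit 8365) (Tr.lf (Fc.ed (nat_lit 8364) (nat_lit 3254) Col.c (nat_lit 3009) (Dv.wd (nat_lit 34) [Mv.b (nat_lit 7844), Mv.f (nat_lit 7370), Mv.f (nat_lit 8363)])))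
(Tr.lf (Fc.ed (nat_lit 8365) (nat_lit 1636) Col.f (nat_lit 3255) Dv.df))))))
(Tr.nd (nat_lit 8371) (Tr.nd (nat_lit 8368) (Tr.nd (nat_lit 8367) (Tr.lf (Fc.ed (nat_lit 8366) (nat_lit 3255) Col.c (nat_lit 1766) (Dv.wd (nat_lit 34) [Mv.b (nat_lit 5106), Mv.f (nat_lit 4795), Mv.f (nat_lit 8365)])))
(Tr.lf (Fc.ed (nat_lit 8367) (nat_lit 2040) Col.g (nat_lit 3256) Dv.df)))
(Tr.nd (nat_lit 8369) (Tr.lf (Fc.ed (nat_lit 8368) (nat_lit 3256) Col.g (nat_lit 2698) (Dv.wd (nat_lit 9) [Mv.b (nat_lit 7183), Mv.f (nat_lit 5662), Mv.f (nat_lit 8367)])))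
(Tr.nd (nat_lit 8370) (Tr.lf (Fc.ed (nat_lit 8369) (nat_lit 2293) Col.gi (nat_lit 3257) Dv.df))
(Tr.lf (Fc.ed (nat_lit 8370) (nat_lit 3257) Col.gi (nat_lit 1668) (Dv.wd (nat_lit 24) [Mv.f (nat_lit 5986), Mv.f (nat_lit 6277), Mv.f (nat_lit 8369)]))))))
(Tr.nd (nat_lit 8374) (Tr.nd (nat_lit 8372) (Tr.lf (Fc.ed (nat_lit 8371) (nat_lit 3208) Col.c (nat_lit 3258) Dv.df))
(Tr.nd (nat_lit 8373) (Tr.lf (Fc.ed (nat_lit 8372) (nat_lit 3258) Col.e (nat_lit 2367) (Dv.wd (nat_lit 25) [Mv.f (nat_lit 6449), Mv.f (nat_lit 8276), Mv.f (nat_lit 8371)])))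
(Tr.lf (Fc.ed (nat_lit 8373) (nat_lit 3258) Col.b (nat_lit 2052) (Dv.wd (nat_lit 87) [Mv.f (nat_lit 5689), Mv.b (nat_lit 4884), Mv.f (nat_lit 6015), Mv.b (nat_lit 8277), Mv.f (nat_lit 8371)])))))
(Tr.nd (nat_lit 8375) (Tr.lf (Fc.ed (nat_lit 8374) (nat_lit 2321) Col.f (nat_lit 3259) Dv.df))
(Tr.nd (nat_lit 8376) (Tr.lf (Fc.ed (nat_lit 8375) (nat_lit 3259) Col.c (nat_lit 2402) (Dv.wd (nat_lit 34) [Mv.b (nat_lit 6508), Mv.b (nat_lit 6339), Mv.f (nat_lit 8374)])))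
(Tr.lf (Fc.ed (nat_lit 8376) (nat_lit 2987) Col.c (nat_lit 3260) Dv.df))))))))))
(Tr.nd (nat_lit 8459) (Tr.nd (nat_lit 8418) (Tr.nd (nat_lit 8397) (Tr.nd (nat_lit 8387) (Tr.nd (nat_lit 8382) (Tr.nd (nat_lit 8379) (Tr.nd (nat_lit 8378) (Tr.lf (Fc.ed (nat_lit 8377) (nat_lit 3260) Col.f (nat_lit 2805) (Dv.wd (nat_lit 26) [Mv.b (nat_lit 7418), Mv.b (nat_lit 7801), Mv.f (nat_lit 8376)])))
(Tr.lf (Fc.ed (nat_lit 8378) (nat_lit 2784) Col.g (nat_lit 3261) Dv.df)))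
(Tr.nd (nat_lit 8380) (Tr.lf (Fc.ed (nat_lit 8379) (nat_lit 1911) Col.a (nat_lit 3262) Dv.df))
(Tr.nd (nat_lit 8381) (Tr.lf (Fc.ed (nat_lit 8380) (nat_lit 3262) Col.f (nat_lit 2043) (Dv.wd (nat_lit 35) [Mv.b (nat_lit 7535), Mv.b (nat_lit 7534), Mv.f (nat_lit 8379)])))
(Tr.lf (Fc.ed (nat_lit 8381) (nat_lit 2666) Col.f (nat_lit 3263) Dv.df)))))
(Tr.nd (nat_lit 8384) (Tr.nd (nat_lit 8383) (Tr.lf (Fc.ed (nat_lit 8382) (nat_lit 2183) Col.a (nat_lit 3264) Dv.df))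
(Tr.lf (Fc.ed (nat_lit 8383) (nat_lit 3264) Col.f (nat_lit 3250) (Dv.wd (nat_lit 10) [Mv.b (nat_lit 8355), Mv.b (nat_lit 6041), Mv.f (nat_lit 8382)]))))
(Tr.nd (nat_lit 8385) (Tr.lf (Fc.ed (nat_lit 8384) (nat_lit 2213) Col.gi (nat_lit 3265) Dv.df))
(Tr.nd (nat_lit 8386) (Tr.lf (Fc.ed (nat_lit 8385) (nat_lit 3242) Col.d (nat_lit 3266) Dv.df))
(Tr.lf (Fc.ed (nat_lit 8386) (nat_lit 3266) Col.a (nat_lit 1587) (Dv.wd (nat_lit 8) [Mv.b (nat_lit 4931), Mv.f (nat_lit 8336), Mv.f (nat_lit 8385)])))))))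
(Tr.nd (nat_lit 8392) (Tr.nd (nat_lit 8389) (Tr.nd (nat_lit 8388) (Tr.lf (Fc.ed (nat_lit 8387) (nat_lit 3257) Col.e (nat_lit 3267) Dv.df))
(Tr.lf (Fc.ed (nat_lit 8388) (nat_lit 3267) Col.d (nat_lit 3021) (Dv.wd (nat_lit 91) [Mv.f (nat_lit 7873), Mv.f (nat_lit 4874), Mv.f (nat_lit 4875), Mv.f (nat_lit 2286), Mv.b (nat_lit 2234), Mv.f (nat_lit 1245), Mv.f (nat_lit 2398), Mv.f (nat_lit 4869), Mv.b (nat_lit 8370), Mv.f (nat_lit 8387)]))))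
(Tr.nd (nat_lit 8390) (Tr.lf (Fc.ed (nat_lit 8389) (nat_lit 2018) Col.c (nat_lit 3268) Dv.df))
(Tr.nd (nat_lit 8391) (Tr.lf (Fc.ed (nat_lit 8390) (nat_lit 3259) Col.e (nat_lit 3269) Dv.df))
(Tr.lf (Fc.ed (nat_lit 8391) (nat_lit 3269) Col.c (nat_lit 2665) (Dv.wd (nat_lit 18) [Mv.b (nat_lit 7109), Mv.b (nat_lit 8375), Mv.f (nat_lit 8390)]))))))
(Tr.nd (nat_lit 8394) (Tr.nd (nat_lit 8393) (Tr.lf (Fc.ed (nat_lit 8392) (nat_lit 3269) Col.f (nat_lit 2030) (Dv.wd (nat_lit 96) [Mv.f (nat_lit 5640), Mv.b (nat_lit 3447), Mv.f (nat_lit 6337), Mv.f (nat_lit 8374), Mv.f (nat_lit 8390)])))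
(Tr.lf (Fc.ed (nat_lit 8393) (nat_lit 1996) Col.d (nat_lit 3270) Dv.df)))
(Tr.nd (nat_lit 8395) (Tr.lf (Fc.ed (nat_lit 8394) (nat_lit 3117) Col.gi (nat_lit 3271) Dv.df))
(Tr.nd (nat_lit 8396) (Tr.lf (Fc.ed (nat_lit 8395) (nat_lit 3271) Col.gi (nat_lit 1699) (Dv.wd (nat_lit 24) [Mv.b (nat_lit 7488), Mv.f (nat_lit 8089), Mv.f (nat_lit 8394)])))
(Tr.lf (Fc.ed (nat_lit 8396) (nat_lit 2913) Col.g (nat_lit 3272) Dv.df)))))))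
(Tr.nd (nat_lit 8407) (Tr.nd (nat_lit 8402) (Tr.nd (nat_lit 8399) (Tr.nd (nat_lit 8398) (Tr.lf (Fc.ed (nat_lit 8397) (nat_lit 3272) Col.g (nat_lit 1572) (Dv.wd (nat_lit 9) [Mv.b (nat_lit 5350), Mv.f (nat_lit 7652), Mv.f (nat_lit 8396)])))
(Tr.lf (Fc.ed (nat_lit 8398) (nat_lit 1678) Col.b (nat_lit 3273) Dv.df)))
(Tr.nd (nat_lit 8400) (Tr.lf (Fc.ed (nat_lit 8399) (nat_lit 2686) Col.c (nat_lit 3274) Dv.df))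
(Tr.nd (nat_lit 8401) (Tr.lf (Fc.ed (nat_lit 8400) (nat_lit 3274) Col.a (nat_lit 3259) (Dv.wd (nat_lit 19) [Mv.f (nat_lit 8375), Mv.f (nat_lit 7160), Mv.f (nat_lit 8399)])))
(Tr.lf (Fc.ed (nat_lit 8401) (nat_lit 3274) Col.f (nat_lit 1847) (Dv.wd (nat_lit 26) [Mv.b (nat_lit 5265), Mv.b (nat_lit 7159), Mv.f (nat_lit 8399)]))))))
(Tr.nd (nat_lit 8404) (Tr.nd (nat_lit 8403) (Tr.lf (Fc.ed (nat_lit 8402) (nat_lit 2987) Col.g (nat_lit 3275) Dv.df))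
(Tr.lf (Fc.ed (nat_lit 8403) (nat_lit 3275) Col.g (nat_lit 2871) (Dv.wd (nat_lit 9) [Mv.b (nat_lit 7559), Mv.b (nat_lit 7801), Mv.f (nat_lit 8402)]))))
(Tr.nd (nat_lit 8405) (Tr.lf (Fc.ed (nat_lit 8404) (nat_lit 2628) Col.c (nat_lit 3276) Dv.df))
(Tr.nd (nat_lit 8406) (Tr.lf (Fc.ed (nat_lit 8405) (nat_lit 3276) Col.a (nat_lit 2417) (Dv.wd (nat_lit 19) [Mv.b (nat_lit 6541), Mv.b (nat_lit 7020), Mv.f (nat_lit 8404)])))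
(Tr.lf (Fc.ed (nat_lit 8406) (nat_lit 3276) Col.e (nat_lit 2441) (Dv.wd (nat_lit 25) [Mv.b (nat_lit 6595), Mv.f (nat_lit 7019), Mv.f (nat_lit 8404)])))))))
(Tr.nd (nat_lit 8412) (Tr.nd (nat_lit 8409) (Tr.nd (nat_lit 8408) (Tr.lf (Fc.ed (nat_lit 8407) (nat_lit 3228) Col.d (nat_lit 3277) Dv.df))
(Tr.lf (Fc.ed (nat_lit 8408) (nat_lit 3277) Col.e (nat_lit 3176) (Dv.wd (nat_lit 74) [Mv.f (nat_lit 8210), Mv.f (nat_lit 4118), Mv.b (nat_lit 3673), Mv.f (nat_lit 1900), Mv.f (nat_lit 4493), Mv.f (nat_lit 4498), Mv.f (nat_lit 3892), Mv.f (nat_lit 3893), Mv.b (nat_lit 8312), Mv.f (nat_lit 8407)]))))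
(Tr.nd (nat_lit 8410) (Tr.lf (Fc.ed (nat_lit 8409) (nat_lit 1505) Col.gi (nat_lit 3278) Dv.df))
(Tr.nd (nat_lit 8411) (Tr.lf (Fc.ed (nat_lit 8410) (nat_lit 3278) Col.gi (nat_lit 2828) (Dv.wd (nat_lit 24) [Mv.b (nat_lit 7465), Mv.b (nat_lit 5153), Mv.f (nat_lit 8409)])))
(Tr.lf (Fc.ed (nat_lit 8411) (nat_lit 3175) Col.b (nat_lit 3279) Dv.df)))))
(Tr.nd (nat_lit 8415) (Tr.nd (nat_lit 8413) (Tr.lf (Fc.ed (nat_lit 8412) (nat_lit 3279) Col.f (nat_lit 3161) (Dv.wd (nat_lit 20) [Mv.b (nat_lit 8177), Mv.f (nat_lit 8207), Mv.f (nat_lit 8411)])))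
(Tr.nd (nat_lit 8414) (Tr.lf (Fc.ed (nat_lit 8413) (nat_lit 3279) Col.c (nat_lit 2599) (Dv.wd (nat_lit 93) [Mv.f (nat_lit 6964), Mv.f (nat_lit 3920), Mv.f (nat_lit 4944), Mv.b (nat_lit 8208), Mv.f (nat_lit 8411)])))
(Tr.lf (Fc.ed (nat_lit 8414) (nat_lit 3215) Col.gi (nat_lit 3280) Dv.df))))
(Tr.nd (nat_lit 8416) (Tr.lf (Fc.ed (nat_lit 8415) (nat_lit 1734) Col.g (nat_lit 3281) Dv.df))
(Tr.nd (nat_lit 8417) (Tr.lf (Fc.ed (nat_lit 8416) (nat_lit 3281) Col.g (nat_lit 1663) (Dv.wd (nat_lit 9) [Mv.b (nat_lit 7409), Mv.f (nat_lit 7410), Mv.f (nat_lit 8415)])))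
(Tr.lf (Fc.ed (nat_lit 8417) (nat_lit 3243) Col.gi (nat_lit 3282) Dv.df))))))))
(Tr.nd (nat_lit 8438) (Tr.nd (nat_lit 8428) (Tr.nd (nat_lit 8423) (Tr.nd (nat_lit 8420) (Tr.nd (nat_lit 8419) (Tr.lf (Fc.ed (nat_lit 8418) (nat_lit 3282) Col.gi (nat_lit 1537) (Dv.wd (nat_lit 24) [Mv.f (nat_lit 5456), Mv.b (nat_lit 8338), Mv.f (nat_lit 8417)])))
(Tr.lf (Fc.ed (nat_lit 8419) (nat_lit 3118) Col.gi (nat_lit 3283) Dv.df)))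
(Tr.nd (nat_lit 8421) (Tr.lf (Fc.ed (nat_lit 8420) (nat_lit 3283) Col.gi (nat_lit 1686) (Dv.wd (nat_lit 24) [Mv.f (nat_lit 8183), Mv.f (nat_lit 8184), Mv.f (nat_lit 8419)])))
(Tr.nd (nat_lit 8422) (Tr.lf (Fc.ed (nat_lit 8421) (nat_lit 2288) Col.gi (nat_lit 3284) Dv.df))
(Tr.lf (Fc.ed (nat_lit 8422) (nat_lit 3284) Col.d (nat_lit 3142) (Dv.wd (nat_lit 89) [Mv.b (nat_lit 8143), Mv.f (nat_lit 7665), Mv.f (nat_lit 7655), Mv.f (nat_lit 4859), Mv.b (nat_lit 2280), Mv.f (nat_lit 2166), Mv.f (nat_lit 5679), Mv.f (nat_lit 6263), Mv.f (nat_lit 8421)]))))))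
(Tr.nd (nat_lit 8425) (Tr.nd (nat_lit 8424) (Tr.lf (Fc.ed (nat_lit 8423) (nat_lit 1614) Col.gi (nat_lit 3285) Dv.df))
(Tr.lf (Fc.ed (nat_lit 8424) (nat_lit 3285) Col.gi (nat_lit 3241) (Dv.wd (nat_lit 24) [Mv.f (nat_lit 8333), Mv.b (nat_lit 7662), Mv.f (nat_lit 8423)]))))
(Tr.nd (nat_lit 8426) (Tr.lf (Fc.ed (nat_lit 8425) (nat_lit 2957) Col.d (nat_lit 3286) Dv.df))
(Tr.nd (nat_lit 8427) (Tr.lf (Fc.ed (nat_lit 8426) (nat_lit 3286) Col.e (nat_lit 2797) (Dv.wd (nat_lit 74) [Mv.b (nat_lit 7400), Mv.b (nat_lit 4265), Mv.f (nat_lit 3027), Mv.f (nat_lit 1735), Mv.f (nat_lit 2468), Mv.f (nat_lit 2472), Mv.b (nat_lit 4897), Mv.f (nat_lit 4896), Mv.b (nat_lit 7738), Mv.f (nat_lit 8425)])))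
(Tr.lf (Fc.ed (nat_lit 8427) (nat_lit 1525) Col.g (nat_lit 3287) Dv.df))))))
(Tr.nd (nat_lit 8433) (Tr.nd (nat_lit 8430) (Tr.nd (nat_lit 8429) (Tr.lf (Fc.ed (nat_lit 8428) (nat_lit 3287) Col.g (nat_lit 1578) (Dv.wd (nat_lit 9) [Mv.f (nat_lit 5529), Mv.f (nat_lit 5531), Mv.f (nat_lit 8427)])))
(Tr.lf (Fc.ed (nat_lit 8429) (nat_lit 1351) Col.c (nat_lit 3288) Dv.df)))
(Tr.nd (nat_lit 8431) (Tr.lf (Fc.ed (nat_lit 8430) (nat_lit 3016) Col.a (nat_lit 3289) Dv.df))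
(Tr.nd (nat_lit 8432) (Tr.lf (Fc.ed (nat_lit 8431) (nat_lit 3289) Col.f (nat_lit 1757) (Dv.wd (nat_lit 10) [Mv.b (nat_lit 5081), Mv.f (nat_lit 7862), Mv.f (nat_lit 8430)])))
(Tr.lf (Fc.ed (nat_lit 8432) (nat_lit 2998) Col.gi (nat_lit 3290) Dv.df)))))
(Tr.nd (nat_lit 8435) (Tr.nd (nat_lit 8434) (Tr.lf (Fc.ed (nat_lit 8433) (nat_lit 3290) Col.gi (nat_lit 1643) (Dv.wd (nat_lit 24) [Mv.b (nat_lit 7822), Mv.b (nat_lit 7824), Mv.f (nat_lit 8432)])))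
(Tr.lf (Fc.ed (nat_lit 8434) (nat_lit 2953) Col.c (nat_lit 3291) Dv.df)))
(Tr.nd (nat_lit 8436) (Tr.lf (Fc.ed (nat_lit 8435) (nat_lit 3291) Col.f (nat_lit 2742) (Dv.wd (nat_lit 26) [Mv.b (nat_lit 7338), Mv.f (nat_lit 7730), Mv.f (nat_lit 8434)])))
(Tr.nd (nat_lit 8437) (Tr.lf (Fc.ed (nat_lit 8436) (nat_lit 3291) Col.b (nat_lit 1945) (Dv.wd (nat_lit 87) [Mv.f (nat_lit 5466), Mv.f (nat_lit 4321), Mv.f (nat_lit 3491), Mv.b (nat_lit 7731), Mv.f (nat_lit 8434)])))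
(Tr.lf (Fc.ed (nat_lit 8437) (nat_lit 3225) Col.c (nat_lit 3292) Dv.df)))))))
(Tr.nd (nat_lit 8448) (Tr.nd (nat_lit 8443) (Tr.nd (nat_lit 8440) (Tr.nd (nat_lit 8439) (Tr.lf (Fc.ed (nat_lit 8438) (nat_lit 1533) Col.gi (nat_lit 3293) Dv.df))
(Tr.lf (Fc.ed (nat_lit 8439) (nat_lit 3293) Col.gi (nat_lit 2529) (Dv.wd (nat_lit 24) [Mv.b (nat_lit 6806), Mv.f (nat_lit 4572), Mv.f (nat_lit 8438)]))))
(Tr.nd (nat_lit 8441) (Tr.lf (Fc.ed (nat_lit 8440) (nat_lit 2088) Col.c (nat_lit 3294) Dv.df))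
(Tr.nd (nat_lit 8442) (Tr.lf (Fc.ed (nat_lit 8441) (nat_lit 3294) Col.a (nat_lit 2107) (Dv.wd (nat_lit 19) [Mv.f (nat_lit 5800), Mv.b (nat_lit 5763), Mv.f (nat_lit 8440)])))
(Tr.lf (Fc.ed (nat_lit 8442) (nat_lit 3294) Col.e (nat_lit 2165) (Dv.wd (nat_lit 25) [Mv.b (nat_lit 5995), Mv.f (nat_lit 5762), Mv.f (nat_lit 8440)]))))))
(Tr.nd (nat_lit 8445) (Tr.nd (nat_lit 8444) (Tr.lf (Fc.ed (nat_lit 8443) (nat_lit 2353) Col.b (nat_lit 3295) Dv.df))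
(Tr.lf (Fc.ed (nat_lit 8444) (nat_lit 3295) Col.f (nat_lit 2385) (Dv.wd (nat_lit 20) [Mv.b (nat_lit 6477), Mv.b (nat_lit 6419), Mv.f (nat_lit 8443)]))))
(Tr.nd (nat_lit 8446) (Tr.lf (Fc.ed (nat_lit 8445) (nat_lit 3295) Col.c (nat_lit 2406) (Dv.wd (nat_lit 93) [Mv.b (nat_lit 6517), Mv.b (nat_lit 3700), Mv.b (nat_lit 4815), Mv.b (nat_lit 6420), Mv.f (nat_lit 8443)])))
(Tr.nd (nat_lit 8447) (Tr.lf (Fc.ed (nat_lit 8446) (nat_lit 3108) Col.a (nat_lit 3296) Dv.df))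
(Tr.lf (Fc.ed (nat_lit 8447) (nat_lit 3296) Col.f (nat_lit 3060) (Dv.wd (nat_lit 10) [Mv.b (nat_lit 7966), Mv.f (nat_lit 8073), Mv.f (nat_lit 8446)])))))))
(Tr.nd (nat_lit 8453) (Tr.nd (nat_lit 8450) (Tr.nd (nat_lit 8449) (Tr.lf (Fc.ed (nat_lit 8448) (nat_lit 2441) Col.f (nat_lit 3297) Dv.df))
(Tr.lf (Fc.ed (nat_lit 8449) (nat_lit 3297) Col.a (nat_lit 1683) (Dv.wd (nat_lit 16) [Mv.b (nat_lit 6266), Mv.b (nat_lit 6596), Mv.f (nat_lit 8448)]))))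
(Tr.nd (nat_lit 8451) (Tr.lf (Fc.ed (nat_lit 8450) (nat_lit 3297) Col.c (nat_lit 2330) (Dv.wd (nat_lit 34) [Mv.f (nat_lit 6363), Mv.f (nat_lit 6595), Mv.f (nat_lit 8448)])))
(Tr.nd (nat_lit 8452) (Tr.lf (Fc.ed (nat_lit 8451) (nat_lit 3220) Col.g (nat_lit 3298) Dv.df))
(Tr.lf (Fc.ed (nat_lit 8452) (nat_lit 3298) Col.g (nat_lit 1576) (Dv.wd (nat_lit 9) [Mv.f (nat_lit 6465), Mv.b (nat_lit 8298), Mv.f (nat_lit 8451)]))))))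
(Tr.nd (nat_lit 8456) (Tr.nd (nat_lit 8454) (Tr.lf (Fc.ed (nat_lit 8453) (nat_lit 2612) Col.d (nat_lit 3299) Dv.df))
(Tr.nd (nat_lit 8455) (Tr.lf (Fc.ed (nat_lit 8454) (nat_lit 2051) Col.gi (nat_lit 3300) Dv.df))
(Tr.lf (Fc.ed (nat_lit 8455) (nat_lit 3300) Col.gi (nat_lit 2938) (Dv.wd (nat_lit 24) [Mv.f (nat_lit 7700), Mv.b (nat_lit 5686), Mv.f (nat_lit 8454)])))))
(Tr.nd (nat_lit 8457) (Tr.lf (Fc.ed (nat_lit 8456) (nat_lit 2126) Col.a (nat_lit 3301) Dv.df))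
(Tr.nd (nat_lit 8458) (Tr.lf (Fc.ed (nat_lit 8457) (nat_lit 3301) Col.f (nat_lit 1943) (Dv.wd (nat_lit 35) [Mv.f (nat_lit 5590), Mv.b (nat_lit 5907), Mv.f (nat_lit 8456)])))
(Tr.lf (Fc.ed (nat_lit 8458) (nat_lit 1974) Col.g (nat_lit 3302) Dv.df)))))))))
(Tr.nd (nat_lit 8500) (Tr.nd (nat_lit 8479) (Tr.nd (nat_lit 8469) (Tr.nd (nat_lit 8464) (Tr.nd (nat_lit 8461) (Tr.nd (nat_lit 8460) (Tr.lf (Fc.ed (nat_lit 8459) (nat_lit 3302) Col.b (nat_lit 3224) (Dv.wd (nat_lit 104) [Mv.f (nat_lit 8305), Mv.f (nat_lit 3475), Mv.f (nat_lit 2648), Mv.b (nat_lit 496), Mv.f (nat_lit 2598), Mv.b (nat_lit 2625), Mv.f (nat_lit 1786), Mv.f (nat_lit 2845), Mv.f (nat_lit 5526), Mv.f (nat_lit 8458)])))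
(Tr.lf (Fc.ed (nat_lit 8460) (nat_lit 2243) Col.c (nat_lit 3303) Dv.df)))
(Tr.nd (nat_lit 8462) (Tr.lf (Fc.ed (nat_lit 8461) (nat_lit 2217) Col.a (nat_lit 3304) Dv.df))
(Tr.nd (nat_lit 8463) (Tr.lf (Fc.ed (nat_lit 8462) (nat_lit 3304) Col.f (nat_lit 3000) (Dv.wd (nat_lit 35) [Mv.b (nat_lit 7828), Mv.b (nat_lit 6111), Mv.f (nat_lit 8461)])))
(Tr.lf (Fc.ed (nat_lit 8463) (nat_lit 3000) Col.g (nat_lit 3177) (Dv.wd (nat_lit 17) [Mv.f (nat_lit 8212), Mv.f (nat_lit 8461), Mv.f (nat_lit 8462)]))))))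
(Tr.nd (nat_lit 8466) (Tr.nd (nat_lit 8465) (Tr.lf (Fc.ed (nat_lit 8464) (nat_lit 3159) Col.g (nat_lit 3305) Dv.df))
(Tr.lf (Fc.ed (nat_lit 8465) (nat_lit 3305) Col.c (nat_lit 3251) (Dv.wd (nat_lit 115) [Mv.b (nat_lit 8357), Mv.f (nat_lit 7859), Mv.b (nat_lit 4560), Mv.b (nat_lit 2204), Mv.b (nat_lit 558), Mv.f (nat_lit 1502), Mv.f (nat_lit 4171), Mv.f (nat_lit 7393), Mv.f (nat_lit 8173), Mv.f (nat_lit 8464)]))))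
(Tr.nd (nat_lit 8467) (Tr.lf (Fc.ed (nat_lit 8466) (nat_lit 3160) Col.f (nat_lit 3306) Dv.df))
(Tr.nd (nat_lit 8468) (Tr.lf (Fc.ed (nat_lit 8467) (nat_lit 3306) Col.a (nat_lit 2707) (Dv.wd (nat_lit 23) [Mv.f (nat_lit 7201), Mv.f (nat_lit 8175), Mv.f (nat_lit 8466)])))
(Tr.lf (Fc.ed (nat_lit 8468) (nat_lit 3266) Col.gi (nat_lit 3307) Dv.df))))))
(Tr.nd (nat_lit 8474) (Tr.nd (nat_lit 8471) (Tr.nd (nat_lit 8470) (Tr.lf (Fc.ed (nat_lit 8469) (nat_lit 3288) Col.f (nat_lit 3308) Dv.df))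
(Tr.lf (Fc.ed (nat_lit 8470) (nat_lit 3285) Col.b (nat_lit 3309) Dv.df)))
(Tr.nd (nat_lit 8472) (Tr.lf (Fc.ed (nat_lit 8471) (nat_lit 3309) Col.c (nat_lit 2056) (Dv.wd (nat_lit 142) [Mv.f (nat_lit 5696), Mv.b (nat_lit 3308), Mv.b (nat_lit 3182), Mv.f (nat_lit 1101), Mv.f (nat_lit 3988), Mv.f (nat_lit 3990), Mv.f (nat_lit 4015), Mv.b (nat_lit 4745), Mv.f (nat_lit 8423), Mv.f (nat_lit 8470)])))
(Tr.nd (nat_lit 8473) (Tr.lf (Fc.ed (nat_lit 8472) (nat_lit 2550) Col.e (nat_lit 3310) Dv.df))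
(Tr.lf (Fc.ed (nat_lit 8473) (nat_lit 3310) Col.d (nat_lit 3191) (Dv.wd (nat_lit 91) [Mv.b (nat_lit 8240), Mv.f (nat_lit 3663), Mv.f (nat_lit 3664), Mv.b (nat_lit 2055), Mv.f (nat_lit 2056), Mv.b (nat_lit 692), Mv.b (nat_lit 1984), Mv.f (nat_lit 4139), Mv.f (nat_lit 6858), Mv.f (nat_lit 8472)]))))))
(Tr.nd (nat_lit 8476) (Tr.nd (nat_lit 8475) (Tr.lf (Fc.ed (nat_lit 8474) (nat_lit 2206) Col.d (nat_lit 3311) Dv.df))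
(Tr.lf (Fc.ed (nat_lit 8475) (nat_lit 3311) Col.c (nat_lit 3229) (Dv.wd (nat_lit 110) [Mv.b (nat_lit 8313), Mv.f (nat_lit 3907), Mv.f (nat_lit 1584), Mv.b (nat_lit 3777), Mv.f (nat_lit 4551), Mv.f (nat_lit 6974), Mv.f (nat_lit 5075), Mv.f (nat_lit 6090), Mv.f (nat_lit 8474)]))))
(Tr.nd (nat_lit 8477) (Tr.lf (Fc.ed (nat_lit 8476) (nat_lit 1418) Col.g (nat_lit 3312) Dv.df))
(Tr.nd (nat_lit 8478) (Tr.lf (Fc.ed (nat_lit 8477) (nat_lit 3312) Col.g (nat_lit 1389) (Dv.wd (nat_lit 9) [Mv.f (nat_lit 4216), Mv.f (nat_lit 4290), Mv.f (nat_lit 8476)])))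
(Tr.lf (Fc.ed (nat_lit 8478) (nat_lit 2482) Col.g (nat_lit 3313) Dv.df)))))))
(Tr.nd (nat_lit 8489) (Tr.nd (nat_lit 8484) (Tr.nd (nat_lit 8481) (Tr.nd (nat_lit 8480) (Tr.lf (Fc.ed (nat_lit 8479) (nat_lit 3313) Col.g (nat_lit 1545) (Dv.wd (nat_lit 9) [Mv.f (nat_lit 4592), Mv.f (nat_lit 6686), Mv.f (nat_lit 8478)])))
(Tr.lf (Fc.ed (nat_lit 8480) (nat_lit 1942) Col.f (nat_lit 3314) Dv.df)))
(Tr.nd (nat_lit 8482) (Tr.lf (Fc.ed (nat_lit 8481) (nat_lit 2985) Col.gi (nat_lit 3315) Dv.df))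
(Tr.nd (nat_lit 8483) (Tr.lf (Fc.ed (nat_lit 8482) (nat_lit 3315) Col.gi (nat_lit 1540) (Dv.wd (nat_lit 24) [Mv.f (nat_lit 7793), Mv.f (nat_lit 7794), Mv.f (nat_lit 8481)])))
(Tr.lf (Fc.ed (nat_lit 8483) (nat_lit 1610) Col.e (nat_lit 3316) Dv.df)))))
(Tr.nd (nat_lit 8486) (Tr.nd (nat_lit 8485) (Tr.lf (Fc.ed (nat_lit 8484) (nat_lit 3316) Col.a (nat_lit 2555) (Dv.wd (nat_lit 15) [Mv.b (nat_lit 6868), Mv.b (nat_lit 6216), Mv.f (nat_lit 8483)])))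
(Tr.lf (Fc.ed (nat_lit 8485) (nat_lit 1520) Col.e (nat_lit 3317) Dv.df)))
(Tr.nd (nat_lit 8487) (Tr.lf (Fc.ed (nat_lit 8486) (nat_lit 3317) Col.c (nat_lit 2275) (Dv.wd (nat_lit 18) [Mv.b (nat_lit 6234), Mv.b (nat_lit 4542), Mv.f (nat_lit 8485)])))
(Tr.nd (nat_lit 8488) (Tr.lf (Fc.ed (nat_lit 8487) (nat_lit 2738) Col.e (nat_lit 3318) Dv.df))
(Tr.lf (Fc.ed (nat_lit 8488) (nat_lit 3318) Col.a (nat_lit 1762) (Dv.wd (nat_lit 15) [Mv.b (nat_lit 6522), Mv.b (nat_lit 7266), Mv.f (nat_lit 8487)])))))))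
(Tr.nd (nat_lit 8494) (Tr.nd (nat_lit 8491) (Tr.nd (nat_lit 8490) (Tr.lf (Fc.ed (nat_lit 8489) (nat_lit 3318) Col.b (nat_lit 3318) (Dv.wd (nat_lit 49) [Mv.b (nat_lit 8487), Mv.f (nat_lit 7267), Mv.f (nat_lit 8487)])))
(Tr.lf (Fc.ed (nat_lit 8490) (nat_lit 3318) Col.f (nat_lit 1976) (Dv.wd (nat_lit 96) [Mv.b (nat_lit 6362), Mv.f (nat_lit 6363), Mv.f (nat_lit 7019), Mv.f (nat_lit 7265), Mv.f (nat_lit 8487)]))))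
(Tr.nd (nat_lit 8492) (Tr.lf (Fc.ed (nat_lit 8491) (nat_lit 2812) Col.d (nat_lit 3318) (Dv.wd (nat_lit 90) [Mv.f (nat_lit 8490), Mv.b (nat_lit 7029), Mv.b (nat_lit 7435)])))
(Tr.nd (nat_lit 8493) (Tr.lf (Fc.ed (nat_lit 8492) (nat_lit 2905) Col.gi (nat_lit 3319) Dv.df))
(Tr.lf (Fc.ed (nat_lit 8493) (nat_lit 2795) Col.f (nat_lit 3320) Dv.df)))))
(Tr.nd (nat_lit 8497) (Tr.nd (nat_lit 8495) (Tr.lf (Fc.ed (nat_lit 8494) (nat_lit 3320) Col.b (nat_lit 3182) (Dv.wd (nat_lit 66) [Mv.b (nat_lit 8221), Mv.f (nat_lit 7396), Mv.f (nat_lit 8493)])))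
(Tr.nd (nat_lit 8496) (Tr.lf (Fc.ed (nat_lit 8495) (nat_lit 3320) Col.c (nat_lit 2711) (Dv.wd (nat_lit 34) [Mv.f (nat_lit 7211), Mv.b (nat_lit 7397), Mv.f (nat_lit 8493)])))
(Tr.lf (Fc.ed (nat_lit 8496) (nat_lit 1337) Col.gi (nat_lit 3321) Dv.df))))
(Tr.nd (nat_lit 8498) (Tr.lf (Fc.ed (nat_lit 8497) (nat_lit 3321) Col.gi (nat_lit 2035) (Dv.wd (nat_lit 24) [Mv.f (nat_lit 5648), Mv.f (nat_lit 5553), Mv.f (nat_lit 8496)])))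
(Tr.nd (nat_lit 8499) (Tr.lf (Fc.ed (nat_lit 8498) (nat_lit 2085) Col.b (nat_lit 3322) Dv.df))
(Tr.lf (Fc.ed (nat_lit 8499) (nat_lit 3322) Col.f (nat_lit 3135) (Dv.wd (nat_lit 20) [Mv.b (nat_lit 8130), Mv.b (nat_lit 5757), Mv.f (nat_lit 8498)])))))))))
(Tr.nd (nat_lit 8521) (Tr.nd (nat_lit 8510) (Tr.nd (nat_lit 8505) (Tr.nd (nat_lit 8502) (Tr.nd (nat_lit 8501) (Tr.lf (Fc.ed (nat_lit 8500) (nat_lit 1833) Col.c (nat_lit 3323) Dv.df))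
(Tr.lf (Fc.ed (nat_lit 8501) (nat_lit 3323) Col.f (nat_lit 3236) (Dv.wd (nat_lit 26) [Mv.b (nat_lit 8324), Mv.b (nat_lit 5235), Mv.f (nat_lit 8500)]))))
(Tr.nd (nat_lit 8503) (Tr.lf (Fc.ed (nat_lit 8502) (nat_lit 2746) Col.c (nat_lit 3324) Dv.df))
(Tr.nd (nat_lit 8504) (Tr.lf (Fc.ed (nat_lit 8503) (nat_lit 3324) Col.f (nat_lit 1779) (Dv.wd (nat_lit 26) [Mv.b (nat_lit 5129), Mv.b (nat_lit 7287), Mv.f (nat_lit 8502)])))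
(Tr.lf (Fc.ed (nat_lit 8504) (nat_lit 2231) Col.f (nat_lit 3325) Dv.df)))))
(Tr.nd (nat_lit 8507) (Tr.nd (nat_lit 8506) (Tr.lf (Fc.ed (nat_lit 8505) (nat_lit 3325) Col.a (nat_lit 2059) (Dv.wd (nat_lit 23) [Mv.f (nat_lit 5701), Mv.b (nat_lit 6137), Mv.f (nat_lit 8504)])))
(Tr.lf (Fc.ed (nat_lit 8506) (nat_lit 3219) Col.b (nat_lit 3326) Dv.df)))
(Tr.nd (nat_lit 8508) (Tr.lf (Fc.ed (nat_lit 8507) (nat_lit 3326) Col.f (nat_lit 2582) (Dv.wd (nat_lit 20) [Mv.f (nat_lit 6931), Mv.f (nat_lit 8294), Mv.f (nat_lit 8506)])))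
(Tr.nd (nat_lit 8509) (Tr.lf (Fc.ed (nat_lit 8508) (nat_lit 2428) Col.c (nat_lit 3326) (Dv.wd (nat_lit 67) [Mv.f (nat_lit 8507), Mv.b (nat_lit 6930), Mv.f (nat_lit 6564)])))
(Tr.lf (Fc.ed (nat_lit 8509) (nat_lit 2963) Col.a (nat_lit 3327) Dv.df))))))
(Tr.nd (nat_lit 8515) (Tr.nd (nat_lit 8512) (Tr.nd (nat_lit 8511) (Tr.lf (Fc.ed (nat_lit 8510) (nat_lit 3327) Col.d (nat_lit 1690) (Dv.wd (nat_lit 28) [Mv.b (nat_lit 4919), Mv.f (nat_lit 7747), Mv.f (nat_lit 8509)])))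
(Tr.lf (Fc.ed (nat_lit 8511) (nat_lit 2783) Col.gi (nat_lit 3328) Dv.df)))
(Tr.nd (nat_lit 8513) (Tr.lf (Fc.ed (nat_lit 8512) (nat_lit 3328) Col.gi (nat_lit 1667) (Dv.wd (nat_lit 24) [Mv.b (nat_lit 7366), Mv.f (nat_lit 7367), Mv.f (nat_lit 8511)])))
(Tr.nd (nat_lit 8514) (Tr.lf (Fc.ed (nat_lit 8513) (nat_lit 1596) Col.gi (nat_lit 3329) Dv.df))
(Tr.lf (Fc.ed (nat_lit 8514) (nat_lit 1982) Col.f (nat_lit 3330) Dv.df)))))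
(Tr.nd (nat_lit 8518) (Tr.nd (nat_lit 8516) (Tr.lf (Fc.ed (nat_lit 8515) (nat_lit 3330) Col.c (nat_lit 1901) (Dv.wd (nat_lit 34) [Mv.f (nat_lit 5867), Mv.f (nat_lit 5813), Mv.f (nat_lit 8514)])))
(Tr.nd (nat_lit 8517) (Tr.lf (Fc.ed (nat_lit 8516) (nat_lit 2998) Col.c (nat_lit 3331) Dv.df))
(Tr.lf (Fc.ed (nat_lit 8517) (nat_lit 3331) Col.f (nat_lit 2766) (Dv.wd (nat_lit 26) [Mv.f (nat_lit 7328), Mv.f (nat_lit 7823), Mv.f (nat_lit 8516)])))))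
(Tr.nd (nat_lit 8519) (Tr.lf (Fc.ed (nat_lit 8518) (nat_lit 1689) Col.g (nat_lit 3332) Dv.df))
(Tr.nd (nat_lit 8520) (Tr.lf (Fc.ed (nat_lit 8519) (nat_lit 3332) Col.g (nat_lit 2997) (Dv.wd (nat_lit 9) [Mv.b (nat_lit 7824), Mv.b (nat_lit 7823), Mv.f (nat_lit 8518)])))
(Tr.lf (Fc.ed (nat_lit 8520) (nat_lit 1589) Col.e (nat_lit 3333) Dv.df)))))))
(Tr.nd (nat_lit 8531) (Tr.nd (nat_lit 8526) (Tr.nd (nat_lit 8523) (Tr.nd (nat_lit 8522) (Tr.lf (Fc.ed (nat_lit 8521) (nat_lit 3333) Col.a (nat_lit 1969) (Dv.wd (nat_lit 15) [Mv.f (nat_lit 5519), Mv.f (nat_lit 4693), Mv.f (nat_lit 8520)])))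
(Tr.lf (Fc.ed (nat_lit 8522) (nat_lit 3174) Col.b (nat_lit 3334) Dv.df)))
(Tr.nd (nat_lit 8524) (Tr.lf (Fc.ed (nat_lit 8523) (nat_lit 3334) Col.f (nat_lit 2417) (Dv.wd (nat_lit 20) [Mv.b (nat_lit 7102), Mv.b (nat_lit 8206), Mv.f (nat_lit 8522)])))
(Tr.nd (nat_lit 8525) (Tr.lf (Fc.ed (nat_lit 8524) (nat_lit 3334) Col.c (nat_lit 2408) (Dv.wd (nat_lit 93) [Mv.f (nat_lit 6520), Mv.f (nat_lit 5855), Mv.b (nat_lit 5854), Mv.f (nat_lit 8205), Mv.f (nat_lit 8522)])))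
(Tr.lf (Fc.ed (nat_lit 8525) (nat_lit 2867) Col.f (nat_lit 3335) Dv.df)))))
(Tr.nd (nat_lit 8528) (Tr.nd (nat_lit 8527) (Tr.lf (Fc.ed (nat_lit 8526) (nat_lit 3335) Col.b (nat_lit 1594) (Dv.wd (nat_lit 66) [Mv.b (nat_lit 5873), Mv.b (nat_lit 7551), Mv.f (nat_lit 8525)])))
(Tr.lf (Fc.ed (nat_lit 8527) (nat_lit 3335) Col.d (nat_lit 2966) (Dv.wd (nat_lit 21) [Mv.b (nat_lit 7752), Mv.f (nat_lit 7616), Mv.f (nat_lit 8525)]))))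
(Tr.nd (nat_lit 8529) (Tr.lf (Fc.ed (nat_lit 8528) (nat_lit 3335) Col.e (nat_lit 2683) (Dv.wd (nat_lit 22) [Mv.f (nat_lit 7151), Mv.b (nat_lit 6432), Mv.b (nat_lit 6843), Mv.f (nat_lit 7550), Mv.f (nat_lit 8525)])))
(Tr.nd (nat_lit 8530) (Tr.lf (Fc.ed (nat_lit 8529) (nat_lit 3013) Col.g (nat_lit 3336) Dv.df))
(Tr.lf (Fc.ed (nat_lit 8530) (nat_lit 3336) Col.g (nat_lit 1700) (Dv.wd (nat_lit 9) [Mv.f (nat_lit 5599), Mv.b (nat_lit 7857), Mv.f (nat_lit 8529)])))))))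
(Tr.nd (nat_lit 8536) (Tr.nd (nat_lit 8533) (Tr.nd (nat_lit 8532) (Tr.lf (Fc.ed (nat_lit 8531) (nat_lit 3147) Col.b (nat_lit 3337) Dv.df))
(Tr.lf (Fc.ed (nat_lit 8532) (nat_lit 3337) Col.f (nat_lit 2163) (Dv.wd (nat_lit 20) [Mv.b (nat_lit 5989), Mv.b (nat_lit 8151), Mv.f (nat_lit 8531)]))))
(Tr.nd (nat_lit 8534) (Tr.lf (Fc.ed (nat_lit 8533) (nat_lit 2792) Col.f (nat_lit 3338) Dv.df))
(Tr.nd (nat_lit 8535) (Tr.lf (Fc.ed (nat_lit 8534) (nat_lit 3338) Col.b (nat_lit 1354) (Dv.wd (nat_lit 66) [Mv.f (nat_lit 4133), Mv.f (nat_lit 7390), Mv.f (nat_lit 8533)])))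
(Tr.lf (Fc.ed (nat_lit 8535) (nat_lit 3338) Col.d (nat_lit 2589) (Dv.wd (nat_lit 21) [Mv.b (nat_lit 6944), Mv.b (nat_lit 7391), Mv.f (nat_lit 8533)]))))))
(Tr.nd (nat_lit 8539) (Tr.nd (nat_lit 8537) (Tr.lf (Fc.ed (nat_lit 8536) (nat_lit 3287) Col.c (nat_lit 3339) Dv.df))
(Tr.nd (nat_lit 8538) (Tr.lf (Fc.ed (nat_lit 8537) (nat_lit 3339) Col.b (nat_lit 2203) (Dv.wd (nat_lit 101) [Mv.b (nat_lit 6085), Mv.b (nat_lit 3157), Mv.b (nat_lit 3436), Mv.b (nat_lit 3866), Mv.b (nat_lit 3864), Mv.f (nat_lit 3557), Mv.b (nat_lit 3497), Mv.f (nat_lit 4672), Mv.b (nat_lit 8428), Mv.f (nat_lit 8536)])))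
(Tr.lf (Fc.ed (nat_lit 8538) (nat_lit 2036) Col.e (nat_lit 3340) Dv.df))))
(Tr.nd (nat_lit 8540) (Tr.lf (Fc.ed (nat_lit 8539) (nat_lit 3340) Col.a (nat_lit 2291) (Dv.wd (nat_lit 15) [Mv.f (nat_lit 6272), Mv.b (nat_lit 5650), Mv.f (nat_lit 8538)])))
(Tr.nd (nat_lit 8541) (Tr.lf (Fc.ed (nat_lit 8540) (nat_lit 3340) Col.d (nat_lit 3066) (Dv.wd (nat_lit 59) [Mv.f (nat_lit 7979), Mv.f (nat_lit 6925), Mv.f (nat_lit 5657), Mv.f (nat_lit 5649), Mv.f (nat_lit 8538)])))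
(Tr.lf (Fc.ed (nat_lit 8541) (nat_lit 2034) Col.a (nat_lit 3341) Dv.df))))))))))))
(Tr.nd (nat_lit 8870) (Tr.nd (nat_lit 8706) (Tr.nd (nat_lit 8624) (Tr.nd (nat_lit 8583) (Tr.nd (nat_lit 8562) (Tr.nd (nat_lit 8552) (Tr.nd (nat_lit 8547) (Tr.nd (nat_lit 8544) (Tr.nd (nat_lit 8543) (Tr.lf (Fc.ed (nat_lit 8542) (nat_lit 3341) Col.c (nat_lit 2547) (Dv.wd (nat_lit 33) [Mv.b (nat_lit 7230), Mv.b (nat_lit 7232), Mv.f (nat_lit 8541)])))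
(Tr.lf (Fc.ed (nat_lit 8543) (nat_lit 3341) Col.f (nat_lit 1546) (Dv.wd (nat_lit 35) [Mv.f (nat_lit 4595), Mv.f (nat_lit 5645), Mv.f (nat_lit 8541)]))))
(Tr.nd (nat_lit 8545) (Tr.lf (Fc.ed (nat_lit 8544) (nat_lit 2770) Col.f (nat_lit 3342) Dv.df))
(Tr.nd (nat_lit 8546) (Tr.lf (Fc.ed (nat_lit 8545) (nat_lit 2980) Col.e (nat_lit 3343) Dv.df))
(Tr.lf (Fc.ed (nat_lit 8546) (nat_lit 3343) Col.d (nat_lit 3312) (Dv.wd (nat_lit 91) [Mv.f (nat_lit 8477), Mv.b (nat_lit 4333), Mv.b (nat_lit 4330), Mv.b (nat_lit 2246), Mv.f (nat_lit 2107), Mv.f (nat_lit 1247), Mv.f (nat_lit 2318), Mv.f (nat_lit 4851), Mv.f (nat_lit 7783), Mv.f (nat_lit 8545)]))))))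
(Tr.nd (nat_lit 8549) (Tr.nd (nat_lit 8548) (Tr.lf (Fc.ed (nat_lit 8547) (nat_lit 3024) Col.d (nat_lit 3344) Dv.df))
(Tr.lf (Fc.ed (nat_lit 8548) (nat_lit 3344) Col.c (nat_lit 3179) (Dv.wd (nat_lit 32) [Mv.f (nat_lit 8216), Mv.f (nat_lit 5263), Mv.f (nat_lit 1113), Mv.f (nat_lit 529), Mv.b (nat_lit 2601), Mv.f (nat_lit 3807), Mv.b (nat_lit 6396), Mv.f (nat_lit 7878), Mv.f (nat_lit 8547)]))))
(Tr.nd (nat_lit 8550) (Tr.lf (Fc.ed (nat_lit 8549) (nat_lit 3332) Col.e (nat_lit 3345) Dv.df))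
(Tr.nd (nat_lit 8551) (Tr.lf (Fc.ed (nat_lit 8550) (nat_lit 3345) Col.d (nat_lit 2816) (Dv.wd (nat_lit 91) [Mv.f (nat_lit 7442), Mv.b (nat_lit 4885), Mv.b (nat_lit 4882), Mv.b (nat_lit 3813), Mv.f (nat_lit 3811), Mv.f (nat_lit 1948), Mv.b (nat_lit 3839), Mv.f (nat_lit 4915), Mv.f (nat_lit 8518), Mv.f (nat_lit 8549)])))
(Tr.lf (Fc.ed (nat_lit 8551) (nat_lit 1943) Col.b (nat_lit 3346) Dv.df))))))
(Tr.nd (nat_lit 8557) (Tr.nd (nat_lit 8554) (Tr.nd (nat_lit 8553) (Tr.lf (Fc.ed (nat_lit 8552) (nat_lit 2804) Col.c (nat_lit 3347) Dv.df))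
(Tr.lf (Fc.ed (nat_lit 8553) (nat_lit 3347) Col.a (nat_lit 3254) (Dv.wd (nat_lit 19) [Mv.f (nat_lit 8364), Mv.f (nat_lit 7845), Mv.f (nat_lit 8552)]))))
(Tr.nd (nat_lit 8555) (Tr.lf (Fc.ed (nat_lit 8554) (nat_lit 3347) Col.f (nat_lit 2276) (Dv.wd (nat_lit 26) [Mv.b (nat_lit 6236), Mv.f (nat_lit 7416), Mv.f (nat_lit 8552)])))
(Tr.nd (nat_lit 8556) (Tr.lf (Fc.ed (nat_lit 8555) (nat_lit 2961) Col.c (nat_lit 3348) Dv.df))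
(Tr.lf (Fc.ed (nat_lit 8556) (nat_lit 3348) Col.b (nat_lit 3319) (Dv.wd (nat_lit 165) [Mv.b (nat_lit 8492), Mv.f (nat_lit 7638), Mv.f (nat_lit 7858), Mv.b (nat_lit 7906), Mv.b (nat_lit 7905), Mv.b (nat_lit 7212), Mv.f (nat_lit 4630), Mv.f (nat_lit 4841), Mv.b (nat_lit 7744), Mv.f (nat_lit 8555)]))))))
(Tr.nd (nat_lit 8559) (Tr.nd (nat_lit 8558) (Tr.lf (Fc.ed (nat_lit 8557) (nat_lit 2006) Col.g (nat_lit 3349) Dv.df))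
(Tr.lf (Fc.ed (nat_lit 8558) (nat_lit 3349) Col.g (nat_lit 2088) (Dv.wd (nat_lit 9) [Mv.f (nat_lit 5763), Mv.f (nat_lit 5594), Mv.f (nat_lit 8557)]))))
(Tr.nd (nat_lit 8560) (Tr.lf (Fc.ed (nat_lit 8559) (nat_lit 1913) Col.g (nat_lit 3350) Dv.df))
(Tr.nd (nat_lit 8561) (Tr.lf (Fc.ed (nat_lit 8560) (nat_lit 3350) Col.g (nat_lit 1938) (Dv.wd (nat_lit 9) [Mv.b (nat_lit 5782), Mv.f (nat_lit 5783), Mv.f (nat_lit 8559)])))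
(Tr.lf (Fc.ed (nat_lit 8561) (nat_lit 1929) Col.f (nat_lit 3351) Dv.df)))))))
(Tr.nd (nat_lit 8572) (Tr.nd (nat_lit 8567) (Tr.nd (nat_lit 8564) (Tr.nd (nat_lit 8563) (Tr.lf (Fc.ed (nat_lit 8562) (nat_lit 3351) Col.b (nat_lit 2467) (Dv.wd (nat_lit 66) [Mv.b (nat_lit 6653), Mv.f (nat_lit 5433), Mv.f (nat_lit 8561)])))
(Tr.lf (Fc.ed (nat_lit 8563) (nat_lit 3290) Col.e (nat_lit 3352) Dv.df)))
(Tr.nd (nat_lit 8565) (Tr.lf (Fc.ed (nat_lit 8564) (nat_lit 3352) Col.d (nat_lit 3126) (Dv.wd (nat_lit 162) [Mv.f (nat_lit 8107), Mv.f (nat_lit 6830), Mv.f (nat_lit 8209), Mv.b (nat_lit 8408), Mv.b (nat_lit 8407), Mv.b (nat_lit 8311), Mv.f (nat_lit 7847), Mv.f (nat_lit 7848), Mv.f (nat_lit 8432), Mv.f (nat_lit 8563)])))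
(Tr.nd (nat_lit 8566) (Tr.lf (Fc.ed (nat_lit 8565) (nat_lit 3324) Col.g (nat_lit 3353) Dv.df))
(Tr.lf (Fc.ed (nat_lit 8566) (nat_lit 3353) Col.g (nat_lit 2030) (Dv.wd (nat_lit 9) [Mv.b (nat_lit 5638), Mv.b (nat_lit 8503), Mv.f (nat_lit 8565)]))))))
(Tr.nd (nat_lit 8569) (Tr.nd (nat_lit 8568) (Tr.lf (Fc.ed (nat_lit 8567) (nat_lit 2649) Col.c (nat_lit 3354) Dv.df))
(Tr.lf (Fc.ed (nat_lit 8568) (nat_lit 3354) Col.a (nat_lit 3147) (Dv.wd (nat_lit 19) [Mv.b (nat_lit 8150), Mv.f (nat_lit 7138), Mv.f (nat_lit 8567)]))))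
(Tr.nd (nat_lit 8570) (Tr.lf (Fc.ed (nat_lit 8569) (nat_lit 3354) Col.f (nat_lit 2052) (Dv.wd (nat_lit 26) [Mv.f (nat_lit 5689), Mv.f (nat_lit 7073), Mv.f (nat_lit 8567)])))
(Tr.nd (nat_lit 8571) (Tr.lf (Fc.ed (nat_lit 8570) (nat_lit 2997) Col.g (nat_lit 3355) Dv.df))
(Tr.lf (Fc.ed (nat_lit 8571) (nat_lit 3355) Col.g (nat_lit 1689) (Dv.wd (nat_lit 9) [Mv.f (nat_lit 4916), Mv.b (nat_lit 7822), Mv.f (nat_lit 8570)])))))))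
(Tr.nd (nat_lit 8577) (Tr.nd (nat_lit 8574) (Tr.nd (nat_lit 8573) (Tr.lf (Fc.ed (nat_lit 8572) (nat_lit 1481) Col.gi (nat_lit 3356) Dv.df))
(Tr.lf (Fc.ed (nat_lit 8573) (nat_lit 3356) Col.gi (nat_lit 3011) (Dv.wd (nat_lit 24) [Mv.f (nat_lit 7853), Mv.b (nat_lit 4778), Mv.f (nat_lit 8572)]))))
(Tr.nd (nat_lit 8575) (Tr.lf (Fc.ed (nat_lit 8574) (nat_lit 2139) Col.f (nat_lit 3357) Dv.df))
(Tr.nd (nat_lit 8576) (Tr.lf (Fc.ed (nat_lit 8575) (nat_lit 3357) Col.c (nat_lit 2002) (Dv.wd (nat_lit 34) [Mv.b (nat_lit 5907), Mv.f (nat_lit 5937), Mv.f (nat_lit 8574)])))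
(Tr.lf (Fc.ed (nat_lit 8576) (nat_lit 1732) Col.f (nat_lit 3358) Dv.df)))))
(Tr.nd (nat_lit 8580) (Tr.nd (nat_lit 8578) (Tr.lf (Fc.ed (nat_lit 8577) (nat_lit 2696) Col.b (nat_lit 3359) Dv.df))
(Tr.nd (nat_lit 8579) (Tr.lf (Fc.ed (nat_lit 8578) (nat_lit 3359) Col.f (nat_lit 1955) (Dv.wd (nat_lit 20) [Mv.b (nat_lit 5483), Mv.f (nat_lit 7179), Mv.f (nat_lit 8577)])))
(Tr.lf (Fc.ed (nat_lit 8579) (nat_lit 2188) Col.c (nat_lit 3359) (Dv.wd (nat_lit 67) [Mv.f (nat_lit 8578), Mv.f (nat_lit 5498), Mv.f (nat_lit 6051)])))))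
(Tr.nd (nat_lit 8581) (Tr.lf (Fc.ed (nat_lit 8580) (nat_lit 1478) Col.gi (nat_lit 3360) Dv.df))
(Tr.nd (nat_lit 8582) (Tr.lf (Fc.ed (nat_lit 8581) (nat_lit 3360) Col.gi (nat_lit 2547) (Dv.wd (nat_lit 24) [Mv.b (nat_lit 6853), Mv.b (nat_lit 4473), Mv.f (nat_lit 8580)])))
(Tr.lf (Fc.ed (nat_lit 8582) (nat_lit 3136) Col.gi (nat_lit 3361) Dv.df))))))))
(Tr.nd (nat_lit 8603) (Tr.nd (nat_lit 8593) (Tr.nd (nat_lit 8588) (Tr.nd (nat_lit 8585) (Tr.nd (nat_lit 8584) (Tr.lf (Fc.ed (nat_lit 8583) (nat_lit 3361) Col.gi (nat_lit 2419) (Dv.wd (nat_lit 24) [Mv.f (nat_lit 6547), Mv.f (nat_lit 8133), Mv.f (nat_lit 8582)])))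
(Tr.lf (Fc.ed (nat_lit 8584) (nat_lit 3361) Col.c (nat_lit 2732) (Dv.wd (nat_lit 94) [Mv.b (nat_lit 7253), Mv.f (nat_lit 4317), Mv.b (nat_lit 3550), Mv.f (nat_lit 6395), Mv.f (nat_lit 7878), Mv.f (nat_lit 8211), Mv.b (nat_lit 8463), Mv.f (nat_lit 7830), Mv.b (nat_lit 8132), Mv.f (nat_lit 8582)]))))
(Tr.nd (nat_lit 8586) (Tr.lf (Fc.ed (nat_lit 8585) (nat_lit 3351) Col.c (nat_lit 3362) Dv.df))
(Tr.nd (nat_lit 8587) (Tr.lf (Fc.ed (nat_lit 8586) (nat_lit 3362) Col.f (nat_lit 1902) (Dv.wd (nat_lit 26) [Mv.b (nat_lit 5434), Mv.f (nat_lit 8561), Mv.f (nat_lit 8585)])))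
(Tr.lf (Fc.ed (nat_lit 8587) (nat_lit 1999) Col.b (nat_lit 3363) Dv.df)))))
(Tr.nd (nat_lit 8590) (Tr.nd (nat_lit 8589) (Tr.lf (Fc.ed (nat_lit 8588) (nat_lit 1425) Col.b (nat_lit 3364) Dv.df))
(Tr.lf (Fc.ed (nat_lit 8589) (nat_lit 2813) Col.g (nat_lit 3365) Dv.df)))
(Tr.nd (nat_lit 8591) (Tr.lf (Fc.ed (nat_lit 8590) (nat_lit 3365) Col.g (nat_lit 2918) (Dv.wd (nat_lit 9) [Mv.b (nat_lit 7662), Mv.b (nat_lit 7437), Mv.f (nat_lit 8589)])))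
(Tr.nd (nat_lit 8592) (Tr.lf (Fc.ed (nat_lit 8591) (nat_lit 1715) Col.g (nat_lit 3366) Dv.df))
(Tr.lf (Fc.ed (nat_lit 8592) (nat_lit 3366) Col.g (nat_lit 3164) (Dv.wd (nat_lit 9) [Mv.f (nat_lit 8184), Mv.f (nat_lit 8092), Mv.f (nat_lit 8591)])))))))
(Tr.nd (nat_lit 8598) (Tr.nd (nat_lit 8595) (Tr.nd (nat_lit 8594) (Tr.lf (Fc.ed (nat_lit 8593) (nat_lit 2007) Col.f (nat_lit 3367) Dv.df))
(Tr.lf (Fc.ed (nat_lit 8594) (nat_lit 3234) Col.gi (nat_lit 3368) Dv.df)))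
(Tr.nd (nat_lit 8596) (Tr.lf (Fc.ed (nat_lit 8595) (nat_lit 3368) Col.gi (nat_lit 979) (Dv.wd (nat_lit 24) [Mv.f (nat_lit 3414), Mv.b (nat_lit 8322), Mv.f (nat_lit 8594)])))
(Tr.nd (nat_lit 8597) (Tr.lf (Fc.ed (nat_lit 8596) (nat_lit 3091) Col.b (nat_lit 3369) Dv.df))
(Tr.lf (Fc.ed (nat_lit 8597) (nat_lit 3369) Col.d (nat_lit 2646) (Dv.wd (nat_lit 58) [Mv.b (nat_lit 7067), Mv.b (nat_lit 8033), Mv.f (nat_lit 8596)]))))))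
(Tr.nd (nat_lit 8600) (Tr.nd (nat_lit 8599) (Tr.lf (Fc.ed (nat_lit 8598) (nat_lit 3369) Col.a (nat_lit 1906) (Dv.wd (nat_lit 98) [Mv.f (nat_lit 5385), Mv.b (nat_lit 3424), Mv.f (nat_lit 4998), Mv.f (nat_lit 8032), Mv.f (nat_lit 8596)])))
(Tr.lf (Fc.ed (nat_lit 8599) (nat_lit 1609) Col.g (nat_lit 3370) Dv.df)))
(Tr.nd (nat_lit 8601) (Tr.lf (Fc.ed (nat_lit 8600) (nat_lit 3370) Col.g (nat_lit 3318) (Dv.wd (nat_lit 9) [Mv.f (nat_lit 8488), Mv.b (nat_lit 5099), Mv.f (nat_lit 8599)])))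
(Tr.nd (nat_lit 8602) (Tr.lf (Fc.ed (nat_lit 8601) (nat_lit 3344) Col.b (nat_lit 3371) Dv.df))
(Tr.lf (Fc.ed (nat_lit 8602) (nat_lit 3371) Col.d (nat_lit 3177) (Dv.wd (nat_lit 58) [Mv.b (nat_lit 8211), Mv.f (nat_lit 8547), Mv.f (nat_lit 8601)]))))))))
(Tr.nd (nat_lit 8613) (Tr.nd (nat_lit 8608) (Tr.nd (nat_lit 8605) (Tr.nd (nat_lit 8604) (Tr.lf (Fc.ed (nat_lit 8603) (nat_lit 3371) Col.g (nat_lit 3072) (Dv.wd (nat_lit 122) [Mv.f (nat_lit 7990), Mv.f (nat_lit 3091), Mv.f (nat_lit 2681), Mv.f (nat_lit 2637), Mv.b (nat_lit 2606), Mv.b (nat_lit 1113), Mv.b (nat_lit 5263), Mv.b (nat_lit 8216), Mv.b (nat_lit 8548), Mv.f (nat_lit 8601)])))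
(Tr.lf (Fc.ed (nat_lit 8604) (nat_lit 3297) Col.e (nat_lit 3372) Dv.df)))
(Tr.nd (nat_lit 8606) (Tr.lf (Fc.ed (nat_lit 8605) (nat_lit 3372) Col.a (nat_lit 1640) (Dv.wd (nat_lit 15) [Mv.b (nat_lit 4903), Mv.b (nat_lit 8449), Mv.f (nat_lit 8604)])))
(Tr.nd (nat_lit 8607) (Tr.lf (Fc.ed (nat_lit 8606) (nat_lit 3372) Col.c (nat_lit 1976) (Dv.wd (nat_lit 18) [Mv.b (nat_lit 6362), Mv.b (nat_lit 8450), Mv.f (nat_lit 8604)])))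
(Tr.lf (Fc.ed (nat_lit 8607) (nat_lit 3206) Col.f (nat_lit 3373) Dv.df)))))
(Tr.nd (nat_lit 8610) (Tr.nd (nat_lit 8609) (Tr.lf (Fc.ed (nat_lit 8608) (nat_lit 3373) Col.c (nat_lit 3072) (Dv.wd (nat_lit 34) [Mv.b (nat_lit 8063), Mv.f (nat_lit 8273), Mv.f (nat_lit 8607)])))
(Tr.lf (Fc.ed (nat_lit 8609) (nat_lit 2029) Col.e (nat_lit 3374) Dv.df)))
(Tr.nd (nat_lit 8611) (Tr.lf (Fc.ed (nat_lit 8610) (nat_lit 3374) Col.a (nat_lit 1756) (Dv.wd (nat_lit 15) [Mv.f (nat_lit 5080), Mv.f (nat_lit 5637), Mv.f (nat_lit 8609)])))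
(Tr.nd (nat_lit 8612) (Tr.lf (Fc.ed (nat_lit 8611) (nat_lit 1271) Col.gi (nat_lit 3375) Dv.df))
(Tr.lf (Fc.ed (nat_lit 8612) (nat_lit 3375) Col.gi (nat_lit 2738) (Dv.wd (nat_lit 24) [Mv.b (nat_lit 7265), Mv.f (nat_lit 7020), Mv.f (nat_lit 8611)])))))))
(Tr.nd (nat_lit 8618) (Tr.nd (nat_lit 8615) (Tr.nd (nat_lit 8614) (Tr.lf (Fc.ed (nat_lit 8613) (nat_lit 1873) Col.a (nat_lit 3376) Dv.df))
(Tr.lf (Fc.ed (nat_lit 8614) (nat_lit 3376) Col.f (nat_lit 1936) (Dv.wd (nat_lit 35) [Mv.b (nat_lit 6331), Mv.b (nat_lit 6330), Mv.f (nat_lit 8613)]))))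
(Tr.nd (nat_lit 8616) (Tr.lf (Fc.ed (nat_lit 8615) (nat_lit 1537) Col.gi (nat_lit 3377) Dv.df))
(Tr.nd (nat_lit 8617) (Tr.lf (Fc.ed (nat_lit 8616) (nat_lit 3377) Col.gi (nat_lit 3243) (Dv.wd (nat_lit 24) [Mv.f (nat_lit 8339), Mv.b (nat_lit 7681), Mv.f (nat_lit 8615)])))
(Tr.lf (Fc.ed (nat_lit 8617) (nat_lit 3122) Col.c (nat_lit 3378) Dv.df)))))
(Tr.nd (nat_lit 8621) (Tr.nd (nat_lit 8619) (Tr.lf (Fc.ed (nat_lit 8618) (nat_lit 3378) Col.b (nat_lit 1878) (Dv.wd (nat_lit 106) [Mv.f (nat_lit 5330), Mv.b (nat_lit 5367), Mv.f (nat_lit 5365), Mv.f (nat_lit 5407), Mv.f (nat_lit 7456), Mv.f (nat_lit 7457), Mv.b (nat_lit 7034), Mv.b (nat_lit 7063), Mv.f (nat_lit 8098), Mv.f (nat_lit 8617)])))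
(Tr.nd (nat_lit 8620) (Tr.lf (Fc.ed (nat_lit 8619) (nat_lit 1898) Col.g (nat_lit 3379) Dv.df))
(Tr.lf (Fc.ed (nat_lit 8620) (nat_lit 3379) Col.g (nat_lit 1934) (Dv.wd (nat_lit 9) [Mv.f (nat_lit 7127), Mv.f (nat_lit 7128), Mv.f (nat_lit 8619)])))))
(Tr.nd (nat_lit 8622) (Tr.lf (Fc.ed (nat_lit 8621) (nat_lit 1828) Col.gi (nat_lit 3380) Dv.df))
(Tr.nd (nat_lit 8623) (Tr.lf (Fc.ed (nat_lit 8622) (nat_lit 1540) Col.gi (nat_lit 3381) Dv.df))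
(Tr.lf (Fc.ed (nat_lit 8623) (nat_lit 3381) Col.gi (nat_lit 2985) (Dv.wd (nat_lit 24) [Mv.b (nat_lit 7793), Mv.f (nat_lit 4583), Mv.f (nat_lit 8622)]))))))))))
(Tr.nd (nat_lit 8665) (Tr.nd (nat_lit 8644) (Tr.nd (nat_lit 8634) (Tr.nd (nat_lit 8629) (Tr.nd (nat_lit 8626) (Tr.nd (nat_lit 8625) (Tr.lf (Fc.ed (nat_lit 8624) (nat_lit 1955) Col.a (nat_lit 3382) Dv.df))
(Tr.lf (Fc.ed (nat_lit 8625) (nat_lit 1683) Col.g (nat_lit 3383) Dv.df)))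
(Tr.nd (nat_lit 8627) (Tr.lf (Fc.ed (nat_lit 8626) (nat_lit 3383) Col.g (nat_lit 2441) (Dv.wd (nat_lit 9) [Mv.f (nat_lit 6596), Mv.f (nat_lit 6266), Mv.f (nat_lit 8625)])))
(Tr.nd (nat_lit 8628) (Tr.lf (Fc.ed (nat_lit 8627) (nat_lit 3383) Col.a (nat_lit 3362) (Dv.wd (nat_lit 114) [Mv.f (nat_lit 8586), Mv.b (nat_lit 5378), Mv.f (nat_lit 8625)])))
(Tr.lf (Fc.ed (nat_lit 8628) (nat_lit 2805) Col.a (nat_lit 3384) Dv.df)))))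
(Tr.nd (nat_lit 8631) (Tr.nd (nat_lit 8630) (Tr.lf (Fc.ed (nat_lit 8629) (nat_lit 3384) Col.c (nat_lit 2871) (Dv.wd (nat_lit 33) [Mv.b (nat_lit 7559), Mv.f (nat_lit 7418), Mv.f (nat_lit 8628)])))
(Tr.lf (Fc.ed (nat_lit 8630) (nat_lit 3384) Col.e (nat_lit 1967) (Dv.wd (nat_lit 56) [Mv.f (nat_lit 5512), Mv.b (nat_lit 7419), Mv.f (nat_lit 8628)]))))
(Tr.nd (nat_lit 8632) (Tr.lf (Fc.ed (nat_lit 8631) (nat_lit 2137) Col.g (nat_lit 3385) Dv.df))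
(Tr.nd (nat_lit 8633) (Tr.lf (Fc.ed (nat_lit 8632) (nat_lit 3385) Col.g (nat_lit 1995) (Dv.wd (nat_lit 9) [Mv.f (nat_lit 5764), Mv.f (nat_lit 5933), Mv.f (nat_lit 8631)])))
(Tr.lf (Fc.ed (nat_lit 8633) (nat_lit 2662) Col.f (nat_lit 3386) Dv.df))))))
(Tr.nd (nat_lit 8639) (Tr.nd (nat_lit 8636) (Tr.nd (nat_lit 8635) (Tr.lf (Fc.ed (nat_lit 8634) (nat_lit 3386) Col.b (nat_lit 2140) (Dv.wd (nat_lit 66) [Mv.f (nat_lit 5940), Mv.b (nat_lit 7105), Mv.f (nat_lit 8633)])))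
(Tr.lf (Fc.ed (nat_lit 8635) (nat_lit 1627) Col.g (nat_lit 3387) Dv.df)))
(Tr.nd (nat_lit 8637) (Tr.lf (Fc.ed (nat_lit 8636) (nat_lit 3387) Col.g (nat_lit 2369) (Dv.wd (nat_lit 9) [Mv.f (nat_lit 7852), Mv.f (nat_lit 7853), Mv.f (nat_lit 8635)])))
(Tr.nd (nat_lit 8638) (Tr.lf (Fc.ed (nat_lit 8637) (nat_lit 2351) Col.g (nat_lit 3388) Dv.df))
(Tr.lf (Fc.ed (nat_lit 8638) (nat_lit 3388) Col.g (nat_lit 1603) (Dv.wd (nat_lit 9) [Mv.b (nat_lit 5774), Mv.b (nat_lit 6415), Mv.f (nat_lit 8637)]))))))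
(Tr.nd (nat_lit 8641) (Tr.nd (nat_lit 8640) (Tr.lf (Fc.ed (nat_lit 8639) (nat_lit 3166) Col.gi (nat_lit 3389) Dv.df))
(Tr.lf (Fc.ed (nat_lit 8640) (nat_lit 3389) Col.gi (nat_lit 1504) (Dv.wd (nat_lit 24) [Mv.f (nat_lit 6017), Mv.f (nat_lit 8188), Mv.f (nat_lit 8639)]))))
(Tr.nd (nat_lit 8642) (Tr.lf (Fc.ed (nat_lit 8641) (nat_lit 3096) Col.c (nat_lit 3390) Dv.df))
(Tr.nd (nat_lit 8643) (Tr.lf (Fc.ed (nat_lit 8642) (nat_lit 1640) Col.f (nat_lit 3391) Dv.df))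
(Tr.lf (Fc.ed (nat_lit 8643) (nat_lit 3391) Col.b (nat_lit 3255) (Dv.wd (nat_lit 66) [Mv.b (nat_lit 8365), Mv.b (nat_lit 4803), Mv.f (nat_lit 8642)]))))))))
(Tr.nd (nat_lit 8654) (Tr.nd (nat_lit 8649) (Tr.nd (nat_lit 8646) (Tr.nd (nat_lit 8645) (Tr.lf (Fc.ed (nat_lit 8644) (nat_lit 3391) Col.c (nat_lit 1762) (Dv.wd (nat_lit 34) [Mv.b (nat_lit 5099), Mv.f (nat_lit 4802), Mv.f (nat_lit 8642)])))
(Tr.lf (Fc.ed (nat_lit 8645) (nat_lit 3391) Col.e (nat_lit 3334) (Dv.wd (nat_lit 22) [Mv.f (nat_lit 8523), Mv.f (nat_lit 6542), Mv.f (nat_lit 6266), Mv.f (nat_lit 4903), Mv.f (nat_lit 8642)]))))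
(Tr.nd (nat_lit 8647) (Tr.lf (Fc.ed (nat_lit 8646) (nat_lit 3223) Col.a (nat_lit 3392) Dv.df))
(Tr.nd (nat_lit 8648) (Tr.lf (Fc.ed (nat_lit 8647) (nat_lit 2243) Col.a (nat_lit 3393) Dv.df))
(Tr.lf (Fc.ed (nat_lit 8648) (nat_lit 3275) Col.d (nat_lit 3394) Dv.df)))))
(Tr.nd (nat_lit 8651) (Tr.nd (nat_lit 8650) (Tr.lf (Fc.ed (nat_lit 8649) (nat_lit 3394) Col.e (nat_lit 3271) (Dv.wd (nat_lit 74) [Mv.f (nat_lit 8395), Mv.b (nat_lit 4937), Mv.f (nat_lit 3811), Mv.b (nat_lit 1738), Mv.b (nat_lit 2939), Mv.f (nat_lit 3793), Mv.b (nat_lit 7526), Mv.b (nat_lit 7560), Mv.b (nat_lit 8403), Mv.f (nat_lit 8648)])))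
(Tr.lf (Fc.ed (nat_lit 8650) (nat_lit 2088) Col.f (nat_lit 3395) Dv.df)))
(Tr.nd (nat_lit 8652) (Tr.lf (Fc.ed (nat_lit 8651) (nat_lit 3395) Col.a (nat_lit 2006) (Dv.wd (nat_lit 16) [Mv.b (nat_lit 5594), Mv.b (nat_lit 5763), Mv.f (nat_lit 8650)])))
(Tr.nd (nat_lit 8653) (Tr.lf (Fc.ed (nat_lit 8652) (nat_lit 3395) Col.d (nat_lit 2738) (Dv.wd (nat_lit 21) [Mv.b (nat_lit 7265), Mv.f (nat_lit 7022), Mv.f (nat_lit 8650)])))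
(Tr.lf (Fc.ed (nat_lit 8653) (nat_lit 3395) Col.e (nat_lit 2409) (Dv.wd (nat_lit 22) [Mv.b (nat_lit 6523), Mv.b (nat_lit 5880), Mv.f (nat_lit 5300), Mv.f (nat_lit 5762), Mv.f (nat_lit 8650)])))))))
(Tr.nd (nat_lit 8659) (Tr.nd (nat_lit 8656) (Tr.nd (nat_lit 8655) (Tr.lf (Fc.ed (nat_lit 8654) (nat_lit 2064) Col.e (nat_lit 3396) Dv.df))
(Tr.lf (Fc.ed (nat_lit 8655) (nat_lit 3396) Col.d (nat_lit 3197) (Dv.wd (nat_lit 91) [Mv.f (nat_lit 8252), Mv.b (nat_lit 4698), Mv.b (nat_lit 1921), Mv.f (nat_lit 4129), Mv.b (nat_lit 8116), Mv.f (nat_lit 7992), Mv.b (nat_lit 4928), Mv.f (nat_lit 2990), Mv.f (nat_lit 5709), Mv.f (nat_lit 8654)]))))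
(Tr.nd (nat_lit 8657) (Tr.lf (Fc.ed (nat_lit 8656) (nat_lit 3013) Col.gi (nat_lit 3397) Dv.df))
(Tr.nd (nat_lit 8658) (Tr.lf (Fc.ed (nat_lit 8657) (nat_lit 3397) Col.gi (nat_lit 1700) (Dv.wd (nat_lit 24) [Mv.f (nat_lit 5437), Mv.f (nat_lit 7856), Mv.f (nat_lit 8656)])))
(Tr.lf (Fc.ed (nat_lit 8658) (nat_lit 2001) Col.f (nat_lit 3398) Dv.df)))))
(Tr.nd (nat_lit 8662) (Tr.nd (nat_lit 8660) (Tr.lf (Fc.ed (nat_lit 8659) (nat_lit 3398) Col.e (nat_lit 3245) (Dv.wd (nat_lit 22) [Mv.f (nat_lit 8343), Mv.f (nat_lit 5240), Mv.b (nat_lit 3374), Mv.f (nat_lit 5587), Mv.f (nat_lit 8658)])))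
(Tr.nd (nat_lit 8661) (Tr.lf (Fc.ed (nat_lit 8660) (nat_lit 2016) Col.a (nat_lit 3399) Dv.df))
(Tr.lf (Fc.ed (nat_lit 8661) (nat_lit 3399) Col.c (nat_lit 1887) (Dv.wd (nat_lit 33) [Mv.f (nat_lit 5350), Mv.f (nat_lit 5612), Mv.f (nat_lit 8660)])))))
(Tr.nd (nat_lit 8663) (Tr.lf (Fc.ed (nat_lit 8662) (nat_lit 3399) Col.e (nat_lit 1787) (Dv.wd (nat_lit 56) [Mv.f (nat_lit 5147), Mv.b (nat_lit 5613), Mv.f (nat_lit 8660)])))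
(Tr.nd (nat_lit 8664) (Tr.lf (Fc.ed (nat_lit 8663) (nat_lit 3297) Col.gi (nat_lit 3400) Dv.df))
(Tr.lf (Fc.ed (nat_lit 8664) (nat_lit 3400) Col.gi (nat_lit 2289) (Dv.wd (nat_lit 24) [Mv.f (nat_lit 6266), Mv.b (nat_lit 8449), Mv.f (nat_lit 8663)])))))))))
(Tr.nd (nat_lit 8685) (Tr.nd (nat_lit 8675) (Tr.nd (nat_lit 8670) (Tr.nd (nat_lit 8667) (Tr.nd (nat_lit 8666) (Tr.lf (Fc.ed (nat_lit 8665) (nat_lit 1205) Col.gi (nat_lit 3401) Dv.df))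
(Tr.lf (Fc.ed (nat_lit 8666) (nat_lit 3401) Col.gi (nat_lit 1800) (Dv.wd (nat_lit 24) [Mv.b (nat_lit 6239), Mv.b (nat_lit 6237), Mv.f (nat_lit 8665)]))))
(Tr.nd (nat_lit 8668) (Tr.lf (Fc.ed (nat_lit 8667) (nat_lit 3401) Col.c (nat_lit 3346) (Dv.wd (nat_lit 143) [Mv.b (nat_lit 8551), Mv.f (nat_lit 5462), Mv.b (nat_lit 2849), Mv.b (nat_lit 2140), Mv.f (nat_lit 1730), Mv.f (nat_lit 1341), Mv.b (nat_lit 1592), Mv.f (nat_lit 3860), Mv.f (nat_lit 3861), Mv.f (nat_lit 8665)])))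
(Tr.nd (nat_lit 8669) (Tr.lf (Fc.ed (nat_lit 8668) (nat_lit 3259) Col.gi (nat_lit 3402) Dv.df))
(Tr.lf (Fc.ed (nat_lit 8669) (nat_lit 3402) Col.gi (nat_lit 1847) (Dv.wd (nat_lit 24) [Mv.b (nat_lit 8401), Mv.f (nat_lit 8400), Mv.f (nat_lit 8668)]))))))
(Tr.nd (nat_lit 8672) (Tr.nd (nat_lit 8671) (Tr.lf (Fc.ed (nat_lit 8670) (nat_lit 2037) Col.a (nat_lit 3403) Dv.df))
(Tr.lf (Fc.ed (nat_lit 8671) (nat_lit 3403) Col.d (nat_lit 1983) (Dv.wd (nat_lit 28) [Mv.b (nat_lit 5547), Mv.f (nat_lit 5652), Mv.f (nat_lit 8670)]))))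
(Tr.nd (nat_lit 8673) (Tr.lf (Fc.ed (nat_lit 8672) (nat_lit 3403) Col.f (nat_lit 3369) (Dv.wd (nat_lit 35) [Mv.f (nat_lit 8598), Mv.b (nat_lit 5654), Mv.f (nat_lit 8670)])))
(Tr.nd (nat_lit 8674) (Tr.lf (Fc.ed (nat_lit 8673) (nat_lit 1995) Col.g (nat_lit 3404) Dv.df))
(Tr.lf (Fc.ed (nat_lit 8674) (nat_lit 2282) Col.c (nat_lit 3405) Dv.df))))))
(Tr.nd (nat_lit 8680) (Tr.nd (nat_lit 8677) (Tr.nd (nat_lit 8676) (Tr.lf (Fc.ed (nat_lit 8675) (nat_lit 1759) Col.f (nat_lit 3406) Dv.df))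
(Tr.lf (Fc.ed (nat_lit 8676) (nat_lit 3406) Col.b (nat_lit 3119) (Dv.wd (nat_lit 66) [Mv.b (nat_lit 8093), Mv.b (nat_lit 5090), Mv.f (nat_lit 8675)]))))
(Tr.nd (nat_lit 8678) (Tr.lf (Fc.ed (nat_lit 8677) (nat_lit 3406) Col.c (nat_lit 2820) (Dv.wd (nat_lit 34) [Mv.f (nat_lit 7449), Mv.f (nat_lit 5089), Mv.f (nat_lit 8675)])))
(Tr.nd (nat_lit 8679) (Tr.lf (Fc.ed (nat_lit 8678) (nat_lit 3358) Col.e (nat_lit 3407) Dv.df))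
(Tr.lf (Fc.ed (nat_lit 8679) (nat_lit 3129) Col.e (nat_lit 3408) Dv.df)))))
(Tr.nd (nat_lit 8682) (Tr.nd (nat_lit 8681) (Tr.lf (Fc.ed (nat_lit 8680) (nat_lit 3408) Col.b (nat_lit 1907) (Dv.wd (nat_lit 49) [Mv.f (nat_lit 5387), Mv.b (nat_lit 8118), Mv.f (nat_lit 8679)])))
(Tr.lf (Fc.ed (nat_lit 8681) (nat_lit 1999) Col.gi (nat_lit 3409) Dv.df)))
(Tr.nd (nat_lit 8683) (Tr.lf (Fc.ed (nat_lit 8682) (nat_lit 1681) Col.gi (nat_lit 3410) Dv.df))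
(Tr.nd (nat_lit 8684) (Tr.lf (Fc.ed (nat_lit 8683) (nat_lit 3410) Col.gi (nat_lit 1677) (Dv.wd (nat_lit 24) [Mv.b (nat_lit 5867), Mv.b (nat_lit 5377), Mv.f (nat_lit 8682)])))
(Tr.lf (Fc.ed (nat_lit 8684) (nat_lit 3376) Col.g (nat_lit 3411) Dv.df)))))))
(Tr.nd (nat_lit 8695) (Tr.nd (nat_lit 8690) (Tr.nd (nat_lit 8687) (Tr.nd (nat_lit 8686) (Tr.lf (Fc.ed (nat_lit 8685) (nat_lit 3411) Col.g (nat_lit 2317) (Dv.wd (nat_lit 9) [Mv.f (nat_lit 6331), Mv.b (nat_lit 8614), Mv.f (nat_lit 8684)])))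
(Tr.lf (Fc.ed (nat_lit 8686) (nat_lit 3198) Col.c (nat_lit 3412) Dv.df)))
(Tr.nd (nat_lit 8688) (Tr.lf (Fc.ed (nat_lit 8687) (nat_lit 3412) Col.a (nat_lit 3226) (Dv.wd (nat_lit 19) [Mv.b (nat_lit 8308), Mv.b (nat_lit 8254), Mv.f (nat_lit 8686)])))
(Tr.nd (nat_lit 8689) (Tr.lf (Fc.ed (nat_lit 8688) (nat_lit 1035) Col.d (nat_lit 3413) Dv.df))
(Tr.lf (Fc.ed (nat_lit 8689) (nat_lit 2638) Col.gi (nat_lit 3414) Dv.df)))))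
(Tr.nd (nat_lit 8692) (Tr.nd (nat_lit 8691) (Tr.lf (Fc.ed (nat_lit 8690) (nat_lit 3414) Col.gi (nat_lit 1849) (Dv.wd (nat_lit 24) [Mv.f (nat_lit 5931), Mv.b (nat_lit 7044), Mv.f (nat_lit 8689)])))
(Tr.lf (Fc.ed (nat_lit 8691) (nat_lit 1159) Col.gi (nat_lit 3415) Dv.df)))
(Tr.nd (nat_lit 8693) (Tr.lf (Fc.ed (nat_lit 8692) (nat_lit 3415) Col.gi (nat_lit 2671) (Dv.wd (nat_lit 24) [Mv.b (nat_lit 7123), Mv.b (nat_lit 4818), Mv.f (nat_lit 8691)])))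
(Tr.nd (nat_lit 8694) (Tr.lf (Fc.ed (nat_lit 8693) (nat_lit 2882) Col.b (nat_lit 3416) Dv.df))
(Tr.lf (Fc.ed (nat_lit 8694) (nat_lit 3416) Col.e (nat_lit 3291) (Dv.wd (nat_lit 52) [Mv.f (nat_lit 8436), Mv.f (nat_lit 7585), Mv.f (nat_lit 8693)])))))))
(Tr.nd (nat_lit 8700) (Tr.nd (nat_lit 8697) (Tr.nd (nat_lit 8696) (Tr.lf (Fc.ed (nat_lit 8695) (nat_lit 1773) Col.a (nat_lit 3417) Dv.df))
(Tr.lf (Fc.ed (nat_lit 8696) (nat_lit 3417) Col.c (nat_lit 2758) (Dv.wd (nat_lit 33) [Mv.b (nat_lit 7310), Mv.f (nat_lit 5119), Mv.f (nat_lit 8695)]))))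
(Tr.nd (nat_lit 8698) (Tr.lf (Fc.ed (nat_lit 8697) (nat_lit 3417) Col.f (nat_lit 3235) (Dv.wd (nat_lit 10) [Mv.b (nat_lit 8323), Mv.f (nat_lit 7094), Mv.f (nat_lit 8695)])))
(Tr.nd (nat_lit 8699) (Tr.lf (Fc.ed (nat_lit 8698) (nat_lit 3113) Col.a (nat_lit 3235) (Dv.wd (nat_lit 79) [Mv.b (nat_lit 8697), Mv.b (nat_lit 8695), Mv.f (nat_lit 8082)])))
(Tr.lf (Fc.ed (nat_lit 8699) (nat_lit 3235) Col.c (nat_lit 1444) (Dv.wd (nat_lit 33) [Mv.b (nat_lit 7252), Mv.b (nat_lit 8083), Mv.f (nat_lit 8698)]))))))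
(Tr.nd (nat_lit 8703) (Tr.nd (nat_lit 8701) (Tr.lf (Fc.ed (nat_lit 8700) (nat_lit 3170) Col.c (nat_lit 2659) (Dv.wd (nat_lit 156) [Mv.f (nat_lit 8323), Mv.f (nat_lit 8699), Mv.f (nat_lit 4352), Mv.b (nat_lit 1924), Mv.b (nat_lit 1641), Mv.f (nat_lit 433), Mv.b (nat_lit 893), Mv.f (nat_lit 3877), Mv.b (nat_lit 6594), Mv.f (nat_lit 8198)])))
(Tr.nd (nat_lit 8702) (Tr.lf (Fc.ed (nat_lit 8701) (nat_lit 2516) Col.f (nat_lit 3418) Dv.df))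
(Tr.lf (Fc.ed (nat_lit 8702) (nat_lit 2163) Col.a (nat_lit 3419) Dv.df))))
(Tr.nd (nat_lit 8704) (Tr.lf (Fc.ed (nat_lit 8703) (nat_lit 3419) Col.e (nat_lit 2622) (Dv.wd (nat_lit 56) [Mv.b (nat_lit 7009), Mv.b (nat_lit 5990), Mv.f (nat_lit 8702)])))
(Tr.nd (nat_lit 8705) (Tr.lf (Fc.ed (nat_lit 8704) (nat_lit 3120) Col.f (nat_lit 3420) Dv.df))
(Tr.lf (Fc.ed (nat_lit 8705) (nat_lit 3420) Col.a (nat_lit 3328) (Dv.wd (nat_lit 23) [Mv.f (nat_lit 8512), Mv.f (nat_lit 8095), Mv.f (nat_lit 8704)])))))))))))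
(Tr.nd (nat_lit 8788) (Tr.nd (nat_lit 8747) (Tr.nd (nat_lit 8726) (Tr.nd (nat_lit 8716) (Tr.nd (nat_lit 8711) (Tr.nd (nat_lit 8708) (Tr.nd (nat_lit 8707) (Tr.lf (Fc.ed (nat_lit 8706) (nat_lit 2879) Col.g (nat_lit 3421) Dv.df))
(Tr.lf (Fc.ed (nat_lit 8707) (nat_lit 3421) Col.g (nat_lit 2377) (Dv.wd (nat_lit 9) [Mv.b (nat_lit 6465), Mv.b (nat_lit 7578), Mv.f (nat_lit 8706)]))))
(Tr.nd (nat_lit 8709) (Tr.lf (Fc.ed (nat_lit 8708) (nat_lit 1674) Col.gi (nat_lit 3422) Dv.df))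
(Tr.nd (nat_lit 8710) (Tr.lf (Fc.ed (nat_lit 8709) (nat_lit 3422) Col.gi (nat_lit 1856) (Dv.wd (nat_lit 24) [Mv.f (nat_lit 6901), Mv.f (nat_lit 6902), Mv.f (nat_lit 8708)])))
(Tr.lf (Fc.ed (nat_lit 8710) (nat_lit 1933) Col.b (nat_lit 3423) Dv.df)))))
(Tr.nd (nat_lit 8713) (Tr.nd (nat_lit 8712) (Tr.lf (Fc.ed (nat_lit 8711) (nat_lit 3423) Col.d (nat_lit 3192) (Dv.wd (nat_lit 58) [Mv.f (nat_lit 8244), Mv.b (nat_lit 5441), Mv.f (nat_lit 8710)])))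
(Tr.lf (Fc.ed (nat_lit 8712) (nat_lit 3423) Col.f (nat_lit 3087) (Dv.wd (nat_lit 20) [Mv.b (nat_lit 8022), Mv.f (nat_lit 7097), Mv.f (nat_lit 8710)]))))
(Tr.nd (nat_lit 8714) (Tr.lf (Fc.ed (nat_lit 8713) (nat_lit 3314) Col.b (nat_lit 3424) Dv.df))
(Tr.nd (nat_lit 8715) (Tr.lf (Fc.ed (nat_lit 8714) (nat_lit 3424) Col.f (nat_lit 1896) (Dv.wd (nat_lit 20) [Mv.f (nat_lit 5460), Mv.f (nat_lit 8480), Mv.f (nat_lit 8713)])))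
(Tr.lf (Fc.ed (nat_lit 8715) (nat_lit 2017) Col.a (nat_lit 3424) (Dv.wd (nat_lit 79) [Mv.f (nat_lit 8714), Mv.f (nat_lit 6208), Mv.f (nat_lit 6209)])))))))
(Tr.nd (nat_lit 8721) (Tr.nd (nat_lit 8718) (Tr.nd (nat_lit 8717) (Tr.lf (Fc.ed (nat_lit 8716) (nat_lit 3414) Col.e (nat_lit 3425) Dv.df))
(Tr.lf (Fc.ed (nat_lit 8717) (nat_lit 3317) Col.a (nat_lit 3426) Dv.df)))
(Tr.nd (nat_lit 8719) (Tr.lf (Fc.ed (nat_lit 8718) (nat_lit 3426) Col.c (nat_lit 1707) (Dv.wd (nat_lit 33) [Mv.b (nat_lit 6235), Mv.b (nat_lit 8486), Mv.f (nat_lit 8717)])))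
(Tr.nd (nat_lit 8720) (Tr.lf (Fc.ed (nat_lit 8719) (nat_lit 3382) Col.f (nat_lit 3427) Dv.df))
(Tr.lf (Fc.ed (nat_lit 8720) (nat_lit 3427) Col.a (nat_lit 3359) (Dv.wd (nat_lit 16) [Mv.f (nat_lit 8578), Mv.f (nat_lit 8624), Mv.f (nat_lit 8719)]))))))
(Tr.nd (nat_lit 8723) (Tr.nd (nat_lit 8722) (Tr.lf (Fc.ed (nat_lit 8721) (nat_lit 1988) Col.c (nat_lit 3427) (Dv.wd (nat_lit 134) [Mv.f (nat_lit 8720), Mv.b (nat_lit 8579), Mv.f (nat_lit 6052)])))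
(Tr.lf (Fc.ed (nat_lit 8722) (nat_lit 2785) Col.b (nat_lit 3428) Dv.df)))
(Tr.nd (nat_lit 8724) (Tr.lf (Fc.ed (nat_lit 8723) (nat_lit 3428) Col.e (nat_lit 3050) (Dv.wd (nat_lit 52) [Mv.f (nat_lit 7943), Mv.b (nat_lit 7372), Mv.f (nat_lit 8722)])))
(Tr.nd (nat_lit 8725) (Tr.lf (Fc.ed (nat_lit 8724) (nat_lit 1071) Col.e (nat_lit 3429) Dv.df))
(Tr.lf (Fc.ed (nat_lit 8725) (nat_lit 3429) Col.a (nat_lit 3173) (Dv.wd (nat_lit 15) [Mv.f (nat_lit 8204), Mv.b (nat_lit 3317), Mv.f (nat_lit 8724)]))))))))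
(Tr.nd (nat_lit 8736) (Tr.nd (nat_lit 8731) (Tr.nd (nat_lit 8728) (Tr.nd (nat_lit 8727) (Tr.lf (Fc.ed (nat_lit 8726) (nat_lit 1031) Col.d (nat_lit 3429) (Dv.wd (nat_lit 97) [Mv.f (nat_lit 8725), Mv.b (nat_lit 8203), Mv.f (nat_lit 3215)])))
(Tr.lf (Fc.ed (nat_lit 8727) (nat_lit 1429) Col.gi (nat_lit 3430) Dv.df)))
(Tr.nd (nat_lit 8729) (Tr.lf (Fc.ed (nat_lit 8728) (nat_lit 2997) Col.c (nat_lit 3431) Dv.df))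
(Tr.nd (nat_lit 8730) (Tr.lf (Fc.ed (nat_lit 8729) (nat_lit 3431) Col.a (nat_lit 3331) (Dv.wd (nat_lit 19) [Mv.b (nat_lit 8516), Mv.f (nat_lit 7824), Mv.f (nat_lit 8728)])))
(Tr.lf (Fc.ed (nat_lit 8730) (nat_lit 3431) Col.f (nat_lit 2714) (Dv.wd (nat_lit 26) [Mv.f (nat_lit 7217), Mv.b (nat_lit 7822), Mv.f (nat_lit 8728)]))))))
(Tr.nd (nat_lit 8733) (Tr.nd (nat_lit 8732) (Tr.lf (Fc.ed (nat_lit 8731) (nat_lit 3054) Col.c (nat_lit 3432) Dv.df))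
(Tr.lf (Fc.ed (nat_lit 8732) (nat_lit 1576) Col.g (nat_lit 3433) Dv.df)))
(Tr.nd (nat_lit 8734) (Tr.lf (Fc.ed (nat_lit 8733) (nat_lit 3433) Col.g (nat_lit 3220) (Dv.wd (nat_lit 9) [Mv.b (nat_lit 8296), Mv.f (nat_lit 7578), Mv.f (nat_lit 8732)])))
(Tr.nd (nat_lit 8735) (Tr.lf (Fc.ed (nat_lit 8734) (nat_lit 3403) Col.b (nat_lit 3434) Dv.df))
(Tr.lf (Fc.ed (nat_lit 8735) (nat_lit 3434) Col.f (nat_lit 3091) (Dv.wd (nat_lit 20) [Mv.f (nat_lit 8596), Mv.b (nat_lit 8672), Mv.f (nat_lit 8734)])))))))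
(Tr.nd (nat_lit 8741) (Tr.nd (nat_lit 8738) (Tr.nd (nat_lit 8737) (Tr.lf (Fc.ed (nat_lit 8736) (nat_lit 3434) Col.a (nat_lit 1579) (Dv.wd (nat_lit 98) [Mv.f (nat_lit 4675), Mv.b (nat_lit 3654), Mv.b (nat_lit 5653), Mv.f (nat_lit 8670), Mv.f (nat_lit 8734)])))
(Tr.lf (Fc.ed (nat_lit 8737) (nat_lit 2178) Col.c (nat_lit 3435) Dv.df)))
(Tr.nd (nat_lit 8739) (Tr.lf (Fc.ed (nat_lit 8738) (nat_lit 3435) Col.b (nat_lit 3194) (Dv.wd (nat_lit 101) [Mv.b (nat_lit 8246), Mv.f (nat_lit 6029), Mv.f (nat_lit 3540), Mv.b (nat_lit 3460), Mv.b (nat_lit 3718), Mv.b (nat_lit 3716), Mv.b (nat_lit 1142), Mv.f (nat_lit 3044), Mv.b (nat_lit 6025), Mv.f (nat_lit 8737)])))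
(Tr.nd (nat_lit 8740) (Tr.lf (Fc.ed (nat_lit 8739) (nat_lit 2819) Col.c (nat_lit 3436) Dv.df))
(Tr.lf (Fc.ed (nat_lit 8740) (nat_lit 3436) Col.f (nat_lit 2401) (Dv.wd (nat_lit 26) [Mv.f (nat_lit 6507), Mv.f (nat_lit 7447), Mv.f (nat_lit 8739)]))))))
(Tr.nd (nat_lit 8744) (Tr.nd (nat_lit 8742) (Tr.lf (Fc.ed (nat_lit 8741) (nat_lit 3358) Col.g (nat_lit 3437) Dv.df))
(Tr.nd (nat_lit 8743) (Tr.lf (Fc.ed (nat_lit 8742) (nat_lit 2772) Col.c (nat_lit 3438) Dv.df))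
(Tr.lf (Fc.ed (nat_lit 8743) (nat_lit 3438) Col.a (nat_lit 2803) (Dv.wd (nat_lit 19) [Mv.b (nat_lit 7415), Mv.f (nat_lit 7356), Mv.f (nat_lit 8742)])))))
(Tr.nd (nat_lit 8745) (Tr.lf (Fc.ed (nat_lit 8744) (nat_lit 3438) Col.e (nat_lit 2477) (Dv.wd (nat_lit 25) [Mv.b (nat_lit 6715), Mv.b (nat_lit 7341), Mv.f (nat_lit 8742)])))
(Tr.nd (nat_lit 8746) (Tr.lf (Fc.ed (nat_lit 8745) (nat_lit 3083) Col.gi (nat_lit 3439) Dv.df))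
(Tr.lf (Fc.ed (nat_lit 8746) (nat_lit 1809) Col.a (nat_lit 3440) Dv.df))))))))
(Tr.nd (nat_lit 8767) (Tr.nd (nat_lit 8757) (Tr.nd (nat_lit 8752) (Tr.nd (nat_lit 8749) (Tr.nd (nat_lit 8748) (Tr.lf (Fc.ed (nat_lit 8747) (nat_lit 3440) Col.d (nat_lit 2651) (Dv.wd (nat_lit 28) [Mv.b (nat_lit 7079), Mv.f (nat_lit 6080), Mv.f (nat_lit 8746)])))
(Tr.lf (Fc.ed (nat_lit 8748) (nat_lit 3440) Col.e (nat_lit 3266) (Dv.wd (nat_lit 56) [Mv.f (nat_lit 8386), Mv.b (nat_lit 5187), Mv.f (nat_lit 8746)]))))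
(Tr.nd (nat_lit 8750) (Tr.lf (Fc.ed (nat_lit 8749) (nat_lit 2901) Col.b (nat_lit 3441) Dv.df))
(Tr.nd (nat_lit 8751) (Tr.lf (Fc.ed (nat_lit 8750) (nat_lit 3441) Col.f (nat_lit 2226) (Dv.wd (nat_lit 20) [Mv.b (nat_lit 6126), Mv.b (nat_lit 7629), Mv.f (nat_lit 8749)])))
(Tr.lf (Fc.ed (nat_lit 8751) (nat_lit 2119) Col.c (nat_lit 3442) Dv.df)))))
(Tr.nd (nat_lit 8754) (Tr.nd (nat_lit 8753) (Tr.lf (Fc.ed (nat_lit 8752) (nat_lit 2646) Col.g (nat_lit 3443) Dv.df))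
(Tr.lf (Fc.ed (nat_lit 8753) (nat_lit 3443) Col.g (nat_lit 1864) (Dv.wd (nat_lit 9) [Mv.f (nat_lit 5547), Mv.b (nat_lit 7068), Mv.f (nat_lit 8752)]))))
(Tr.nd (nat_lit 8755) (Tr.lf (Fc.ed (nat_lit 8754) (nat_lit 2040) Col.e (nat_lit 3444) Dv.df))
(Tr.nd (nat_lit 8756) (Tr.lf (Fc.ed (nat_lit 8755) (nat_lit 3105) Col.gi (nat_lit 3445) Dv.df))
(Tr.lf (Fc.ed (nat_lit 8756) (nat_lit 3445) Col.gi (nat_lit 2048) (Dv.wd (nat_lit 24) [Mv.f (nat_lit 8067), Mv.b (nat_lit 8066), Mv.f (nat_lit 8755)])))))))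
(Tr.nd (nat_lit 8762) (Tr.nd (nat_lit 8759) (Tr.nd (nat_lit 8758) (Tr.lf (Fc.ed (nat_lit 8757) (nat_lit 2100) Col.g (nat_lit 3446) Dv.df))
(Tr.lf (Fc.ed (nat_lit 8758) (nat_lit 3446) Col.g (nat_lit 1408) (Dv.wd (nat_lit 9) [Mv.b (nat_lit 4747), Mv.f (nat_lit 5786), Mv.f (nat_lit 8757)]))))
(Tr.nd (nat_lit 8760) (Tr.lf (Fc.ed (nat_lit 8759) (nat_lit 3346) Col.gi (nat_lit 3447) Dv.df))
(Tr.nd (nat_lit 8761) (Tr.lf (Fc.ed (nat_lit 8760) (nat_lit 2185) Col.b (nat_lit 3448) Dv.df))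
(Tr.lf (Fc.ed (nat_lit 8761) (nat_lit 3448) Col.d (nat_lit 2537) (Dv.wd (nat_lit 58) [Mv.f (nat_lit 6826), Mv.b (nat_lit 6046), Mv.f (nat_lit 8760)]))))))
(Tr.nd (nat_lit 8764) (Tr.nd (nat_lit 8763) (Tr.lf (Fc.ed (nat_lit 8762) (nat_lit 2815) Col.a (nat_lit 3449) Dv.df))
(Tr.lf (Fc.ed (nat_lit 8763) (nat_lit 1807) Col.g (nat_lit 3450) Dv.df)))
(Tr.nd (nat_lit 8765) (Tr.lf (Fc.ed (nat_lit 8764) (nat_lit 1831) Col.c (nat_lit 3451) Dv.df))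
(Tr.nd (nat_lit 8766) (Tr.lf (Fc.ed (nat_lit 8765) (nat_lit 3095) Col.a (nat_lit 3452) Dv.df))
(Tr.lf (Fc.ed (nat_lit 8766) (nat_lit 3452) Col.f (nat_lit 3148) (Dv.wd (nat_lit 10) [Mv.f (nat_lit 8153), Mv.b (nat_lit 8043), Mv.f (nat_lit 8765)]))))))))
(Tr.nd (nat_lit 8777) (Tr.nd (nat_lit 8772) (Tr.nd (nat_lit 8769) (Tr.nd (nat_lit 8768) (Tr.lf (Fc.ed (nat_lit 8767) (nat_lit 3447) Col.b (nat_lit 3453) Dv.df))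
(Tr.lf (Fc.ed (nat_lit 8768) (nat_lit 3453) Col.c (nat_lit 2875) (Dv.wd (nat_lit 142) [Mv.f (nat_lit 7569), Mv.f (nat_lit 4440), Mv.b (nat_lit 4438), Mv.b (nat_lit 1592), Mv.f (nat_lit 3860), Mv.f (nat_lit 3861), Mv.f (nat_lit 8665), Mv.f (nat_lit 8667), Mv.f (nat_lit 8759), Mv.f (nat_lit 8767)]))))
(Tr.nd (nat_lit 8770) (Tr.lf (Fc.ed (nat_lit 8769) (nat_lit 1739) Col.e (nat_lit 3454) Dv.df))
(Tr.nd (nat_lit 8771) (Tr.lf (Fc.ed (nat_lit 8770) (nat_lit 3454) Col.b (nat_lit 3057) (Dv.wd (nat_lit 49) [Mv.f (nat_lit 7961), Mv.f (nat_lit 5041), Mv.f (nat_lit 8769)])))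
(Tr.lf (Fc.ed (nat_lit 8771) (nat_lit 3454) Col.c (nat_lit 2861) (Dv.wd (nat_lit 18) [Mv.f (nat_lit 7538), Mv.b (nat_lit 6969), Mv.f (nat_lit 8769)]))))))
(Tr.nd (nat_lit 8774) (Tr.nd (nat_lit 8773) (Tr.lf (Fc.ed (nat_lit 8772) (nat_lit 3381) Col.d (nat_lit 3455) Dv.df))
(Tr.lf (Fc.ed (nat_lit 8773) (nat_lit 1920) Col.gi (nat_lit 3456) Dv.df)))
(Tr.nd (nat_lit 8775) (Tr.lf (Fc.ed (nat_lit 8774) (nat_lit 3456) Col.gi (nat_lit 1749) (Dv.wd (nat_lit 24) [Mv.f (nat_lit 5576), Mv.f (nat_lit 5577), Mv.f (nat_lit 8773)])))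
(Tr.nd (nat_lit 8776) (Tr.lf (Fc.ed (nat_lit 8775) (nat_lit 979) Col.gi (nat_lit 3457) Dv.df))
(Tr.lf (Fc.ed (nat_lit 8776) (nat_lit 2694) Col.gi (nat_lit 3458) Dv.df))))))
(Tr.nd (nat_lit 8782) (Tr.nd (nat_lit 8779) (Tr.nd (nat_lit 8778) (Tr.lf (Fc.ed (nat_lit 8777) (nat_lit 3458) Col.gi (nat_lit 2025) (Dv.wd (nat_lit 24) [Mv.f (nat_lit 5632), Mv.b (nat_lit 7175), Mv.f (nat_lit 8776)])))
(Tr.lf (Fc.ed (nat_lit 8778) (nat_lit 1612) Col.c (nat_lit 3459) Dv.df)))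
(Tr.nd (nat_lit 8780) (Tr.lf (Fc.ed (nat_lit 8779) (nat_lit 2622) Col.gi (nat_lit 3460) Dv.df))
(Tr.nd (nat_lit 8781) (Tr.lf (Fc.ed (nat_lit 8780) (nat_lit 3460) Col.gi (nat_lit 2039) (Dv.wd (nat_lit 24) [Mv.f (nat_lit 5661), Mv.f (nat_lit 7009), Mv.f (nat_lit 8779)])))
(Tr.lf (Fc.ed (nat_lit 8781) (nat_lit 2165) Col.gi (nat_lit 3461) Dv.df)))))
(Tr.nd (nat_lit 8785) (Tr.nd (nat_lit 8783) (Tr.lf (Fc.ed (nat_lit 8782) (nat_lit 3461) Col.gi (nat_lit 1291) (Dv.wd (nat_lit 24) [Mv.b (nat_lit 5571), Mv.b (nat_lit 5996), Mv.f (nat_lit 8781)])))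
(Tr.nd (nat_lit 8784) (Tr.lf (Fc.ed (nat_lit 8783) (nat_lit 1837) Col.g (nat_lit 3462) Dv.df))
(Tr.lf (Fc.ed (nat_lit 8784) (nat_lit 3462) Col.a (nat_lit 2205) (Dv.wd (nat_lit 114) [Mv.b (nat_lit 6088), Mv.b (nat_lit 5279), Mv.f (nat_lit 8783)])))))
(Tr.nd (nat_lit 8786) (Tr.lf (Fc.ed (nat_lit 8785) (nat_lit 3234) Col.c (nat_lit 3462) (Dv.wd (nat_lit 134) [Mv.f (nat_lit 8784), Mv.f (nat_lit 6089), Mv.b (nat_lit 8322)])))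
(Tr.nd (nat_lit 8787) (Tr.lf (Fc.ed (nat_lit 8786) (nat_lit 3100) Col.e (nat_lit 3463) Dv.df))
(Tr.lf (Fc.ed (nat_lit 8787) (nat_lit 3463) Col.a (nat_lit 3083) (Dv.wd (nat_lit 15) [Mv.f (nat_lit 8015), Mv.b (nat_lit 8054), Mv.f (nat_lit 8786)]))))))))))
(Tr.nd (nat_lit 8829) (Tr.nd (nat_lit 8808) (Tr.nd (nat_lit 8798) (Tr.nd (nat_lit 8793) (Tr.nd (nat_lit 8790) (Tr.nd (nat_lit 8789) (Tr.lf (Fc.ed (nat_lit 8788) (nat_lit 3463) Col.c (nat_lit 1620) (Dv.wd (nat_lit 18) [Mv.f (nat_lit 7140), Mv.f (nat_lit 8053), Mv.f (nat_lit 8786)])))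
(Tr.lf (Fc.ed (nat_lit 8789) (nat_lit 1798) Col.e (nat_lit 3464) Dv.df)))
(Tr.nd (nat_lit 8791) (Tr.lf (Fc.ed (nat_lit 8790) (nat_lit 1878) Col.f (nat_lit 3465) Dv.df))
(Tr.nd (nat_lit 8792) (Tr.lf (Fc.ed (nat_lit 8791) (nat_lit 3465) Col.a (nat_lit 1918) (Dv.wd (nat_lit 16) [Mv.f (nat_lit 6614), Mv.f (nat_lit 6615), Mv.f (nat_lit 8790)])))
(Tr.lf (Fc.ed (nat_lit 8792) (nat_lit 2128) Col.e (nat_lit 3466) Dv.df)))))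
(Tr.nd (nat_lit 8795) (Tr.nd (nat_lit 8794) (Tr.lf (Fc.ed (nat_lit 8793) (nat_lit 3012) Col.e (nat_lit 3467) Dv.df))
(Tr.lf (Fc.ed (nat_lit 8794) (nat_lit 2245) Col.gi (nat_lit 3468) Dv.df)))
(Tr.nd (nat_lit 8796) (Tr.lf (Fc.ed (nat_lit 8795) (nat_lit 3468) Col.gi (nat_lit 1482) (Dv.wd (nat_lit 24) [Mv.b (nat_lit 6791), Mv.b (nat_lit 6790), Mv.f (nat_lit 8794)])))
(Tr.nd (nat_lit 8797) (Tr.lf (Fc.ed (nat_lit 8796) (nat_lit 2972) Col.a (nat_lit 3469) Dv.df))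
(Tr.lf (Fc.ed (nat_lit 8797) (nat_lit 3469) Col.f (nat_lit 2849) (Dv.wd (nat_lit 10) [Mv.b (nat_lit 7507), Mv.f (nat_lit 7766), Mv.f (nat_lit 8796)])))))))
(Tr.nd (nat_lit 8803) (Tr.nd (nat_lit 8800) (Tr.nd (nat_lit 8799) (Tr.lf (Fc.ed (nat_lit 8798) (nat_lit 3369) Col.g (nat_lit 3470) Dv.df))
(Tr.lf (Fc.ed (nat_lit 8799) (nat_lit 3470) Col.g (nat_lit 2037) (Dv.wd (nat_lit 9) [Mv.f (nat_lit 8670), Mv.f (nat_lit 8672), Mv.f (nat_lit 8798)]))))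
(Tr.nd (nat_lit 8801) (Tr.lf (Fc.ed (nat_lit 8800) (nat_lit 3253) Col.g (nat_lit 3471) Dv.df))
(Tr.nd (nat_lit 8802) (Tr.lf (Fc.ed (nat_lit 8801) (nat_lit 3471) Col.g (nat_lit 2022) (Dv.wd (nat_lit 9) [Mv.f (nat_lit 5625), Mv.b (nat_lit 8362), Mv.f (nat_lit 8800)])))
(Tr.lf (Fc.ed (nat_lit 8802) (nat_lit 2212) Col.gi (nat_lit 3472) Dv.df)))))
(Tr.nd (nat_lit 8805) (Tr.nd (nat_lit 8804) (Tr.lf (Fc.ed (nat_lit 8803) (nat_lit 3472) Col.gi (nat_lit 1744) (Dv.wd (nat_lit 24) [Mv.f (nat_lit 6690), Mv.f (nat_lit 6691), Mv.f (nat_lit 8802)])))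
(Tr.lf (Fc.ed (nat_lit 8804) (nat_lit 3201) Col.c (nat_lit 3473) Dv.df)))
(Tr.nd (nat_lit 8806) (Tr.lf (Fc.ed (nat_lit 8805) (nat_lit 3473) Col.f (nat_lit 2882) (Dv.wd (nat_lit 26) [Mv.f (nat_lit 7586), Mv.f (nat_lit 8261), Mv.f (nat_lit 8804)])))
(Tr.nd (nat_lit 8807) (Tr.lf (Fc.ed (nat_lit 8806) (nat_lit 1857) Col.gi (nat_lit 3474) Dv.df))
(Tr.lf (Fc.ed (nat_lit 8807) (nat_lit 3474) Col.gi (nat_lit 3330) (Dv.wd (nat_lit 24) [Mv.b (nat_lit 8514), Mv.f (nat_lit 5546), Mv.f (nat_lit 8806)]))))))))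
(Tr.nd (nat_lit 8818) (Tr.nd (nat_lit 8813) (Tr.nd (nat_lit 8810) (Tr.nd (nat_lit 8809) (Tr.lf (Fc.ed (nat_lit 8808) (nat_lit 3117) Col.e (nat_lit 3475) Dv.df))
(Tr.lf (Fc.ed (nat_lit 8809) (nat_lit 1764) Col.e (nat_lit 3476) Dv.df)))
(Tr.nd (nat_lit 8811) (Tr.lf (Fc.ed (nat_lit 8810) (nat_lit 1299) Col.g (nat_lit 3477) Dv.df))
(Tr.nd (nat_lit 8812) (Tr.lf (Fc.ed (nat_lit 8811) (nat_lit 3477) Col.g (nat_lit 2086) (Dv.wd (nat_lit 9) [Mv.b (nat_lit 5809), Mv.b (nat_lit 5808), Mv.f (nat_lit 8810)])))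
(Tr.lf (Fc.ed (nat_lit 8812) (nat_lit 2451) Col.f (nat_lit 3478) Dv.df)))))
(Tr.nd (nat_lit 8815) (Tr.nd (nat_lit 8814) (Tr.lf (Fc.ed (nat_lit 8813) (nat_lit 3071) Col.f (nat_lit 3479) Dv.df))
(Tr.lf (Fc.ed (nat_lit 8814) (nat_lit 3479) Col.c (nat_lit 1539) (Dv.wd (nat_lit 34) [Mv.f (nat_lit 5193), Mv.b (nat_lit 7988), Mv.f (nat_lit 8813)]))))
(Tr.nd (nat_lit 8816) (Tr.lf (Fc.ed (nat_lit 8815) (nat_lit 3479) Col.a (nat_lit 3361) (Dv.wd (nat_lit 23) [Mv.f (nat_lit 8583), Mv.f (nat_lit 7987), Mv.f (nat_lit 8813)])))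
(Tr.nd (nat_lit 8817) (Tr.lf (Fc.al (nat_lit 8816) (nat_lit 2922) (nat_lit 1539) (Dv.wd (nat_lit 134) [Mv.b (nat_lit 8814), Mv.f (nat_lit 8815), Mv.f (nat_lit 8584), Mv.f (nat_lit 7671)])))
(Tr.lf (Fc.ed (nat_lit 8817) (nat_lit 1539) Col.a (nat_lit 2732) (Dv.wd (nat_lit 29) [Mv.f (nat_lit 7671), Mv.f (nat_lit 8816)])))))))
(Tr.nd (nat_lit 8823) (Tr.nd (nat_lit 8820) (Tr.nd (nat_lit 8819) (Tr.lf (Fc.al (nat_lit 8818) (nat_lit 1813) (nat_lit 2857) (Dv.wd (nat_lit 30) [Mv.b (nat_lit 7672), Mv.f (nat_lit 8816), Mv.f (nat_lit 5193)])))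
(Tr.lf (Fc.ed (nat_lit 8819) (nat_lit 1813) Col.gi (nat_lit 2611) (Dv.wd (nat_lit 128) [Mv.f (nat_lit 7530), Mv.b (nat_lit 8818)]))))
(Tr.nd (nat_lit 8821) (Tr.lf (Fc.ed (nat_lit 8820) (nat_lit 3090) Col.f (nat_lit 3480) Dv.df))
(Tr.nd (nat_lit 8822) (Tr.lf (Fc.ed (nat_lit 8821) (nat_lit 3480) Col.a (nat_lit 3200) (Dv.wd (nat_lit 16) [Mv.b (nat_lit 8260), Mv.b (nat_lit 8031), Mv.f (nat_lit 8820)])))
(Tr.lf (Fc.ed (nat_lit 8822) (nat_lit 3480) Col.c (nat_lit 1061) (Dv.wd (nat_lit 34) [Mv.b (nat_lit 6761), Mv.f (nat_lit 8030), Mv.f (nat_lit 8820)]))))))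
(Tr.nd (nat_lit 8826) (Tr.nd (nat_lit 8824) (Tr.lf (Fc.ed (nat_lit 8823) (nat_lit 3291) Col.d (nat_lit 3481) Dv.df))
(Tr.nd (nat_lit 8825) (Tr.lf (Fc.ed (nat_lit 8824) (nat_lit 3481) Col.b (nat_lit 1954) (Dv.wd (nat_lit 37) [Mv.b (nat_lit 5481), Mv.b (nat_lit 8436), Mv.f (nat_lit 8823)])))
(Tr.lf (Fc.ed (nat_lit 8825) (nat_lit 3410) Col.f (nat_lit 3482) Dv.df))))
(Tr.nd (nat_lit 8827) (Tr.lf (Fc.ed (nat_lit 8826) (nat_lit 3482) Col.a (nat_lit 1823) (Dv.wd (nat_lit 23) [Mv.b (nat_lit 5869), Mv.f (nat_lit 8682), Mv.f (nat_lit 8825)])))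
(Tr.nd (nat_lit 8828) (Tr.lf (Fc.ed (nat_lit 8827) (nat_lit 3068) Col.a (nat_lit 3483) Dv.df))
(Tr.lf (Fc.ed (nat_lit 8828) (nat_lit 3483) Col.c (nat_lit 3047) (Dv.wd (nat_lit 33) [Mv.b (nat_lit 7920), Mv.f (nat_lit 7982), Mv.f (nat_lit 8827)])))))))))
(Tr.nd (nat_lit 8849) (Tr.nd (nat_lit 8839) (Tr.nd (nat_lit 8834) (Tr.nd (nat_lit 8831) (Tr.nd (nat_lit 8830) (Tr.lf (Fc.ed (nat_lit 8829) (nat_lit 3427) Col.g (nat_lit 3484) Dv.df))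
(Tr.lf (Fc.ed (nat_lit 8830) (nat_lit 3484) Col.g (nat_lit 1955) (Dv.wd (nat_lit 9) [Mv.f (nat_lit 8624), Mv.f (nat_lit 8719), Mv.f (nat_lit 8829)]))))
(Tr.nd (nat_lit 8832) (Tr.lf (Fc.ed (nat_lit 8831) (nat_lit 1715) Col.gi (nat_lit 3485) Dv.df))
(Tr.nd (nat_lit 8833) (Tr.lf (Fc.ed (nat_lit 8832) (nat_lit 3485) Col.gi (nat_lit 3164) (Dv.wd (nat_lit 24) [Mv.b (nat_lit 8183), Mv.b (nat_lit 4987), Mv.f (nat_lit 8831)])))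
(Tr.lf (Fc.ed (nat_lit 8833) (nat_lit 2805) Col.b (nat_lit 3486) Dv.df)))))
(Tr.nd (nat_lit 8836) (Tr.nd (nat_lit 8835) (Tr.lf (Fc.ed (nat_lit 8834) (nat_lit 3486) Col.e (nat_lit 2742) (Dv.wd (nat_lit 52) [Mv.b (nat_lit 7275), Mv.b (nat_lit 7419), Mv.f (nat_lit 8833)])))
(Tr.lf (Fc.ed (nat_lit 8835) (nat_lit 3385) Col.f (nat_lit 3487) Dv.df)))
(Tr.nd (nat_lit 8837) (Tr.lf (Fc.ed (nat_lit 8836) (nat_lit 3487) Col.a (nat_lit 3404) (Dv.wd (nat_lit 23) [Mv.b (nat_lit 8673), Mv.b (nat_lit 8632), Mv.f (nat_lit 8835)])))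
(Tr.nd (nat_lit 8838) (Tr.lf (Fc.ed (nat_lit 8837) (nat_lit 2299) Col.g (nat_lit 3488) Dv.df))
(Tr.lf (Fc.ed (nat_lit 8838) (nat_lit 3488) Col.g (nat_lit 2989) (Dv.wd (nat_lit 9) [Mv.b (nat_lit 7804), Mv.b (nat_lit 6291), Mv.f (nat_lit 8837)])))))))
(Tr.nd (nat_lit 8844) (Tr.nd (nat_lit 8841) (Tr.nd (nat_lit 8840) (Tr.lf (Fc.ed (nat_lit 8839) (nat_lit 1721) Col.g (nat_lit 3489) Dv.df))
(Tr.lf (Fc.ed (nat_lit 8840) (nat_lit 3489) Col.g (nat_lit 3434) (Dv.wd (nat_lit 9) [Mv.f (nat_lit 8736), Mv.b (nat_lit 5000), Mv.f (nat_lit 8839)]))))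
(Tr.nd (nat_lit 8842) (Tr.lf (Fc.ed (nat_lit 8841) (nat_lit 1871) Col.e (nat_lit 3490) Dv.df))
(Tr.nd (nat_lit 8843) (Tr.lf (Fc.ed (nat_lit 8842) (nat_lit 1956) Col.g (nat_lit 3491) Dv.df))
(Tr.lf (Fc.ed (nat_lit 8843) (nat_lit 3491) Col.g (nat_lit 2098) (Dv.wd (nat_lit 9) [Mv.f (nat_lit 5782), Mv.f (nat_lit 5484), Mv.f (nat_lit 8842)]))))))
(Tr.nd (nat_lit 8846) (Tr.nd (nat_lit 8845) (Tr.lf (Fc.ed (nat_lit 8844) (nat_lit 2817) Col.f (nat_lit 3492) Dv.df))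
(Tr.lf (Fc.ed (nat_lit 8845) (nat_lit 3492) Col.c (nat_lit 1974) (Dv.wd (nat_lit 34) [Mv.f (nat_lit 5528), Mv.f (nat_lit 7443), Mv.f (nat_lit 8844)]))))
(Tr.nd (nat_lit 8847) (Tr.lf (Fc.ed (nat_lit 8846) (nat_lit 3466) Col.f (nat_lit 3493) Dv.df))
(Tr.nd (nat_lit 8848) (Tr.lf (Fc.ed (nat_lit 8847) (nat_lit 2106) Col.gi (nat_lit 3494) Dv.df))
(Tr.lf (Fc.ed (nat_lit 8848) (nat_lit 3494) Col.gi (nat_lit 1664) (Dv.wd (nat_lit 24) [Mv.b (nat_lit 5632), Mv.b (nat_lit 5798), Mv.f (nat_lit 8847)]))))))))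
(Tr.nd (nat_lit 8859) (Tr.nd (nat_lit 8854) (Tr.nd (nat_lit 8851) (Tr.nd (nat_lit 8850) (Tr.lf (Fc.ed (nat_lit 8849) (nat_lit 1779) Col.gi (nat_lit 3495) Dv.df))
(Tr.lf (Fc.ed (nat_lit 8850) (nat_lit 3495) Col.gi (nat_lit 3269) (Dv.wd (nat_lit 24) [Mv.f (nat_lit 8392), Mv.b (nat_lit 5638), Mv.f (nat_lit 8849)]))))
(Tr.nd (nat_lit 8852) (Tr.lf (Fc.ed (nat_lit 8851) (nat_lit 2443) Col.a (nat_lit 3496) Dv.df))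
(Tr.nd (nat_lit 8853) (Tr.lf (Fc.ed (nat_lit 8852) (nat_lit 3496) Col.f (nat_lit 2132) (Dv.wd (nat_lit 10) [Mv.b (nat_lit 5925), Mv.b (nat_lit 6600), Mv.f (nat_lit 8851)])))
(Tr.lf (Fc.ed (nat_lit 8853) (nat_lit 2372) Col.g (nat_lit 3497) Dv.df)))))
(Tr.nd (nat_lit 8856) (Tr.nd (nat_lit 8855) (Tr.lf (Fc.ed (nat_lit 8854) (nat_lit 3497) Col.g (nat_lit 3333) (Dv.wd (nat_lit 9) [Mv.f (nat_lit 8521), Mv.f (nat_lit 6458), Mv.f (nat_lit 8853)])))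
(Tr.lf (Fc.ed (nat_lit 8855) (nat_lit 2296) Col.f (nat_lit 3498) Dv.df)))
(Tr.nd (nat_lit 8857) (Tr.lf (Fc.ed (nat_lit 8856) (nat_lit 3498) Col.a (nat_lit 2607) (Dv.wd (nat_lit 23) [Mv.b (nat_lit 6982), Mv.f (nat_lit 6283), Mv.f (nat_lit 8855)])))
(Tr.nd (nat_lit 8858) (Tr.lf (Fc.ed (nat_lit 8857) (nat_lit 3242) Col.gi (nat_lit 3499) Dv.df))
(Tr.lf (Fc.ed (nat_lit 8858) (nat_lit 3499) Col.gi (nat_lit 1722) (Dv.wd (nat_lit 24) [Mv.f (nat_lit 5002), Mv.f (nat_lit 8336), Mv.f (nat_lit 8857)])))))))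
(Tr.nd (nat_lit 8864) (Tr.nd (nat_lit 8861) (Tr.nd (nat_lit 8860) (Tr.lf (Fc.ed (nat_lit 8859) (nat_lit 1524) Col.e (nat_lit 3500) Dv.df))
(Tr.lf (Fc.ed (nat_lit 8860) (nat_lit 2113) Col.c (nat_lit 3501) Dv.df)))
(Tr.nd (nat_lit 8862) (Tr.lf (Fc.ed (nat_lit 8861) (nat_lit 3501) Col.f (nat_lit 2717) (Dv.wd (nat_lit 26) [Mv.b (nat_lit 7222), Mv.f (nat_lit 5882), Mv.f (nat_lit 8860)])))
(Tr.nd (nat_lit 8863) (Tr.lf (Fc.ed (nat_lit 8862) (nat_lit 3443) Col.c (nat_lit 3502) Dv.df))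
(Tr.lf (Fc.ed (nat_lit 8863) (nat_lit 1955) Col.g (nat_lit 3503) Dv.df)))))
(Tr.nd (nat_lit 8867) (Tr.nd (nat_lit 8865) (Tr.lf (Fc.ed (nat_lit 8864) (nat_lit 3503) Col.g (nat_lit 3427) (Dv.wd (nat_lit 9) [Mv.f (nat_lit 8720), Mv.f (nat_lit 8578), Mv.f (nat_lit 8863)])))
(Tr.nd (nat_lit 8866) (Tr.lf (Fc.ed (nat_lit 8865) (nat_lit 1261) Col.c (nat_lit 3504) Dv.df))
(Tr.lf (Fc.ed (nat_lit 8866) (nat_lit 3504) Col.a (nat_lit 3501) (Dv.wd (nat_lit 19) [Mv.b (nat_lit 8860), Mv.f (nat_lit 5883), Mv.f (nat_lit 8865)])))))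
(Tr.nd (nat_lit 8868) (Tr.lf (Fc.ed (nat_lit 8867) (nat_lit 3504) Col.f (nat_lit 2117) (Dv.wd (nat_lit 26) [Mv.b (nat_lit 5890), Mv.b (nat_lit 3863), Mv.f (nat_lit 8865)])))
(Tr.nd (nat_lit 8869) (Tr.lf (Fc.ed (nat_lit 8868) (nat_lit 904) Col.b (nat_lit 3505) Dv.df))
(Tr.lf (Fc.ed (nat_lit 8869) (nat_lit 1687) Col.d (nat_lit 3506) Dv.df)))))))))))
(Tr.nd (nat_lit 9034) (Tr.nd (nat_lit 8952) (Tr.nd (nat_lit 8911) (Tr.nd (nat_lit 8890) (Tr.nd (nat_lit 8880) (Tr.nd (nat_lit 8875) (Tr.nd (nat_lit 8872) (Tr.nd (nat_lit 8871) (Tr.lf (Fc.ed (nat_lit 8870) (nat_lit 3506) Col.b (nat_lit 1853) (Dv.wd (nat_lit 37) [Mv.f (nat_lit 5283), Mv.f (nat_lit 4911), Mv.f (nat_lit 8869)])))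
(Tr.lf (Fc.ed (nat_lit 8871) (nat_lit 1999) Col.g (nat_lit 3507) Dv.df)))
(Tr.nd (nat_lit 8873) (Tr.lf (Fc.ed (nat_lit 8872) (nat_lit 3507) Col.g (nat_lit 2818) (Dv.wd (nat_lit 9) [Mv.b (nat_lit 7444), Mv.f (nat_lit 7237), Mv.f (nat_lit 8871)])))
(Tr.nd (nat_lit 8874) (Tr.lf (Fc.ed (nat_lit 8873) (nat_lit 3395) Col.gi (nat_lit 3508) Dv.df))
(Tr.lf (Fc.ed (nat_lit 8874) (nat_lit 3508) Col.gi (nat_lit 1605) (Dv.wd (nat_lit 24) [Mv.f (nat_lit 5594), Mv.b (nat_lit 8651), Mv.f (nat_lit 8873)]))))))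
(Tr.nd (nat_lit 8877) (Tr.nd (nat_lit 8876) (Tr.lf (Fc.ed (nat_lit 8875) (nat_lit 2042) Col.a (nat_lit 3509) Dv.df))
(Tr.lf (Fc.ed (nat_lit 8876) (nat_lit 3509) Col.e (nat_lit 2225) (Dv.wd (nat_lit 56) [Mv.f (nat_lit 6125), Mv.b (nat_lit 5668), Mv.f (nat_lit 8875)]))))
(Tr.nd (nat_lit 8878) (Tr.lf (Fc.ed (nat_lit 8877) (nat_lit 3462) Col.g (nat_lit 3510) Dv.df))
(Tr.nd (nat_lit 8879) (Tr.lf (Fc.ed (nat_lit 8878) (nat_lit 3510) Col.a (nat_lit 2559) (Dv.wd (nat_lit 114) [Mv.f (nat_lit 6874), Mv.f (nat_lit 8783), Mv.f (nat_lit 8877)])))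
(Tr.lf (Fc.ed (nat_lit 8879) (nat_lit 2032) Col.a (nat_lit 3511) Dv.df))))))
(Tr.nd (nat_lit 8885) (Tr.nd (nat_lit 8882) (Tr.nd (nat_lit 8881) (Tr.lf (Fc.ed (nat_lit 8880) (nat_lit 3511) Col.f (nat_lit 2067) (Dv.wd (nat_lit 35) [Mv.b (nat_lit 8127), Mv.b (nat_lit 8126), Mv.f (nat_lit 8879)])))
(Tr.lf (Fc.ed (nat_lit 8881) (nat_lit 3468) Col.e (nat_lit 3512) Dv.df)))
(Tr.nd (nat_lit 8883) (Tr.lf (Fc.ed (nat_lit 8882) (nat_lit 3512) Col.d (nat_lit 3160) (Dv.wd (nat_lit 91) [Mv.b (nat_lit 8175), Mv.f (nat_lit 3816), Mv.b (nat_lit 3814), Mv.f (nat_lit 2932), Mv.f (nat_lit 2933), Mv.b (nat_lit 1734), Mv.f (nat_lit 2468), Mv.f (nat_lit 4462), Mv.b (nat_lit 8795), Mv.f (nat_lit 8881)])))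
(Tr.nd (nat_lit 8884) (Tr.lf (Fc.ed (nat_lit 8883) (nat_lit 3282) Col.b (nat_lit 3513) Dv.df))
(Tr.lf (Fc.ed (nat_lit 8884) (nat_lit 2002) Col.g (nat_lit 3514) Dv.df)))))
(Tr.nd (nat_lit 8887) (Tr.nd (nat_lit 8886) (Tr.lf (Fc.ed (nat_lit 8885) (nat_lit 3514) Col.g (nat_lit 3301) (Dv.wd (nat_lit 9) [Mv.b (nat_lit 8456), Mv.f (nat_lit 5907), Mv.f (nat_lit 8884)])))
(Tr.lf (Fc.ed (nat_lit 8886) (nat_lit 2037) Col.g (nat_lit 3515) Dv.df)))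
(Tr.nd (nat_lit 8888) (Tr.lf (Fc.ed (nat_lit 8887) (nat_lit 1949) Col.b (nat_lit 3516) Dv.df))
(Tr.nd (nat_lit 8889) (Tr.lf (Fc.ed (nat_lit 8888) (nat_lit 3516) Col.d (nat_lit 2636) (Dv.wd (nat_lit 58) [Mv.b (nat_lit 7040), Mv.b (nat_lit 5915), Mv.f (nat_lit 8887)])))
(Tr.lf (Fc.ed (nat_lit 8889) (nat_lit 3516) Col.e (nat_lit 3338) (Dv.wd (nat_lit 52) [Mv.f (nat_lit 8534), Mv.f (nat_lit 5472), Mv.f (nat_lit 8887)]))))))))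
(Tr.nd (nat_lit 8900) (Tr.nd (nat_lit 8895) (Tr.nd (nat_lit 8892) (Tr.nd (nat_lit 8891) (Tr.lf (Fc.ed (nat_lit 8890) (nat_lit 2052) Col.gi (nat_lit 3517) Dv.df))
(Tr.lf (Fc.ed (nat_lit 8891) (nat_lit 3517) Col.gi (nat_lit 3147) (Dv.wd (nat_lit 24) [Mv.f (nat_lit 8151), Mv.f (nat_lit 5688), Mv.f (nat_lit 8890)]))))
(Tr.nd (nat_lit 8893) (Tr.lf (Fc.ed (nat_lit 8892) (nat_lit 1501) Col.g (nat_lit 3518) Dv.df))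
(Tr.nd (nat_lit 8894) (Tr.lf (Fc.ed (nat_lit 8893) (nat_lit 3518) Col.g (nat_lit 3139) (Dv.wd (nat_lit 9) [Mv.b (nat_lit 8137), Mv.b (nat_lit 8007), Mv.f (nat_lit 8892)])))
(Tr.lf (Fc.ed (nat_lit 8894) (nat_lit 3258) Col.a (nat_lit 3519) Dv.df)))))
(Tr.nd (nat_lit 8897) (Tr.nd (nat_lit 8896) (Tr.lf (Fc.ed (nat_lit 8895) (nat_lit 3519) Col.e (nat_lit 2590) (Dv.wd (nat_lit 56) [Mv.b (nat_lit 6947), Mv.b (nat_lit 8372), Mv.f (nat_lit 8894)])))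
(Tr.lf (Fc.ed (nat_lit 8896) (nat_lit 3519) Col.b (nat_lit 3419) (Dv.wd (nat_lit 65) [Mv.b (nat_lit 8702), Mv.b (nat_lit 5989), Mv.f (nat_lit 5688), Mv.b (nat_lit 8373), Mv.f (nat_lit 8894)]))))
(Tr.nd (nat_lit 8898) (Tr.lf (Fc.ed (nat_lit 8897) (nat_lit 1496) Col.c (nat_lit 3520) Dv.df))
(Tr.nd (nat_lit 8899) (Tr.lf (Fc.ed (nat_lit 8898) (nat_lit 3520) Col.a (nat_lit 2349) (Dv.wd (nat_lit 19) [Mv.b (nat_lit 6410), Mv.f (nat_lit 4489), Mv.f (nat_lit 8897)])))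
(Tr.lf (Fc.ed (nat_lit 8899) (nat_lit 3261) Col.g (nat_lit 3520) (Dv.wd (nat_lit 9) [Mv.f (nat_lit 8898), Mv.b (nat_lit 7369), Mv.f (nat_lit 8378)])))))))
(Tr.nd (nat_lit 8905) (Tr.nd (nat_lit 8902) (Tr.nd (nat_lit 8901) (Tr.lf (Fc.ed (nat_lit 8900) (nat_lit 3413) Col.b (nat_lit 3521) Dv.df))
(Tr.lf (Fc.ed (nat_lit 8901) (nat_lit 3521) Col.d (nat_lit 966) (Dv.wd (nat_lit 58) [Mv.f (nat_lit 3224), Mv.f (nat_lit 8688), Mv.f (nat_lit 8900)]))))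
(Tr.nd (nat_lit 8903) (Tr.lf (Fc.ed (nat_lit 8902) (nat_lit 2563) Col.f (nat_lit 3522) Dv.df))
(Tr.nd (nat_lit 8904) (Tr.lf (Fc.ed (nat_lit 8903) (nat_lit 3522) Col.a (nat_lit 3137) (Dv.wd (nat_lit 16) [Mv.f (nat_lit 8135), Mv.f (nat_lit 6881), Mv.f (nat_lit 8902)])))
(Tr.lf (Fc.ed (nat_lit 8904) (nat_lit 3522) Col.b (nat_lit 3117) (Dv.wd (nat_lit 66) [Mv.f (nat_lit 8090), Mv.b (nat_lit 6882), Mv.f (nat_lit 8902)]))))))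
(Tr.nd (nat_lit 8908) (Tr.nd (nat_lit 8906) (Tr.lf (Fc.ed (nat_lit 8905) (nat_lit 3522) Col.d (nat_lit 3139) (Dv.wd (nat_lit 21) [Mv.f (nat_lit 8138), Mv.f (nat_lit 7248), Mv.f (nat_lit 8902)])))
(Tr.nd (nat_lit 8907) (Tr.lf (Fc.ed (nat_lit 8906) (nat_lit 2732) Col.f (nat_lit 3523) Dv.df))
(Tr.lf (Fc.ed (nat_lit 8907) (nat_lit 3523) Col.a (nat_lit 1813) (Dv.wd (nat_lit 16) [Mv.b (nat_lit 5193), Mv.f (nat_lit 8817), Mv.f (nat_lit 8906)])))))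
(Tr.nd (nat_lit 8909) (Tr.lf (Fc.ed (nat_lit 8908) (nat_lit 3386) Col.c (nat_lit 3524) Dv.df))
(Tr.nd (nat_lit 8910) (Tr.lf (Fc.ed (nat_lit 8909) (nat_lit 3524) Col.f (nat_lit 2578) (Dv.wd (nat_lit 26) [Mv.f (nat_lit 7104), Mv.f (nat_lit 8633), Mv.f (nat_lit 8908)])))
(Tr.lf (Fc.ed (nat_lit 8910) (nat_lit 3524) Col.b (nat_lit 1957) (Dv.wd (nat_lit 87) [Mv.f (nat_lit 5489), Mv.f (nat_lit 5095), Mv.f (nat_lit 5938), Mv.b (nat_lit 8634), Mv.f (nat_lit 8908)])))))))))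
(Tr.nd (nat_lit 8931) (Tr.nd (nat_lit 8921) (Tr.nd (nat_lit 8916) (Tr.nd (nat_lit 8913) (Tr.nd (nat_lit 8912) (Tr.lf (Fc.ed (nat_lit 8911) (nat_lit 2771) Col.e (nat_lit 3525) Dv.df))
(Tr.lf (Fc.ed (nat_lit 8912) (nat_lit 3525) Col.b (nat_lit 1805) (Dv.wd (nat_lit 49) [Mv.f (nat_lit 5181), Mv.f (nat_lit 7337), Mv.f (nat_lit 8911)]))))
(Tr.nd (nat_lit 8914) (Tr.lf (Fc.ed (nat_lit 8913) (nat_lit 3525) Col.c (nat_lit 3486) (Dv.wd (nat_lit 18) [Mv.f (nat_lit 8834), Mv.b (nat_lit 7338), Mv.f (nat_lit 8911)])))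
(Tr.nd (nat_lit 8915) (Tr.lf (Fc.ed (nat_lit 8914) (nat_lit 2733) Col.e (nat_lit 3526) Dv.df))
(Tr.lf (Fc.ed (nat_lit 8915) (nat_lit 3526) Col.f (nat_lit 2706) (Dv.wd (nat_lit 96) [Mv.f (nat_lit 7199), Mv.b (nat_lit 7389), Mv.f (nat_lit 7388), Mv.b (nat_lit 7256), Mv.f (nat_lit 8914)]))))))
(Tr.nd (nat_lit 8918) (Tr.nd (nat_lit 8917) (Tr.lf (Fc.ed (nat_lit 8916) (nat_lit 2622) Col.f (nat_lit 3527) Dv.df))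
(Tr.lf (Fc.ed (nat_lit 8917) (nat_lit 3527) Col.a (nat_lit 2039) (Dv.wd (nat_lit 16) [Mv.f (nat_lit 5661), Mv.f (nat_lit 7009), Mv.f (nat_lit 8916)]))))
(Tr.nd (nat_lit 8919) (Tr.lf (Fc.ed (nat_lit 8918) (nat_lit 1740) Col.c (nat_lit 3528) Dv.df))
(Tr.nd (nat_lit 8920) (Tr.lf (Fc.ed (nat_lit 8919) (nat_lit 3397) Col.a (nat_lit 3529) Dv.df))
(Tr.lf (Fc.ed (nat_lit 8920) (nat_lit 3529) Col.f (nat_lit 3336) (Dv.wd (nat_lit 10) [Mv.f (nat_lit 8530), Mv.b (nat_lit 8657), Mv.f (nat_lit 8919)])))))))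
(Tr.nd (nat_lit 8926) (Tr.nd (nat_lit 8923) (Tr.nd (nat_lit 8922) (Tr.lf (Fc.ed (nat_lit 8921) (nat_lit 2201) Col.gi (nat_lit 3530) Dv.df))
(Tr.lf (Fc.ed (nat_lit 8922) (nat_lit 3398) Col.gi (nat_lit 3531) Dv.df)))
(Tr.nd (nat_lit 8924) (Tr.lf (Fc.ed (nat_lit 8923) (nat_lit 1664) Col.d (nat_lit 3532) Dv.df))
(Tr.nd (nat_lit 8925) (Tr.lf (Fc.ed (nat_lit 8924) (nat_lit 1956) Col.gi (nat_lit 3533) Dv.df))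
(Tr.lf (Fc.ed (nat_lit 8925) (nat_lit 3533) Col.gi (nat_lit 2098) (Dv.wd (nat_lit 24) [Mv.f (nat_lit 5783), Mv.b (nat_lit 5486), Mv.f (nat_lit 8924)]))))))
(Tr.nd (nat_lit 8928) (Tr.nd (nat_lit 8927) (Tr.lf (Fc.ed (nat_lit 8926) (nat_lit 2897) Col.g (nat_lit 3534) Dv.df))
(Tr.lf (Fc.ed (nat_lit 8927) (nat_lit 3534) Col.g (nat_lit 1866) (Dv.wd (nat_lit 9) [Mv.f (nat_lit 5749), Mv.b (nat_lit 7619), Mv.f (nat_lit 8926)]))))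
(Tr.nd (nat_lit 8929) (Tr.lf (Fc.ed (nat_lit 8928) (nat_lit 1820) Col.gi (nat_lit 3535) Dv.df))
(Tr.nd (nat_lit 8930) (Tr.lf (Fc.ed (nat_lit 8929) (nat_lit 3535) Col.gi (nat_lit 2892) (Dv.wd (nat_lit 24) [Mv.f (nat_lit 7608), Mv.b (nat_lit 5209), Mv.f (nat_lit 8928)])))
(Tr.lf (Fc.ed (nat_lit 8930) (nat_lit 3301) Col.b (nat_lit 3536) Dv.df)))))))
(Tr.nd (nat_lit 8941) (Tr.nd (nat_lit 8936) (Tr.nd (nat_lit 8933) (Tr.nd (nat_lit 8932) (Tr.lf (Fc.ed (nat_lit 8931) (nat_lit 3536) Col.f (nat_lit 3346) (Dv.wd (nat_lit 20) [Mv.b (nat_lit 8551), Mv.b (nat_lit 8457), Mv.f (nat_lit 8930)])))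
(Tr.lf (Fc.ed (nat_lit 8932) (nat_lit 2451) Col.a (nat_lit 3537) Dv.df)))
(Tr.nd (nat_lit 8934) (Tr.lf (Fc.ed (nat_lit 8933) (nat_lit 1515) Col.c (nat_lit 3538) Dv.df))
(Tr.nd (nat_lit 8935) (Tr.lf (Fc.ed (nat_lit 8934) (nat_lit 3538) Col.a (nat_lit 3222) (Dv.wd (nat_lit 19) [Mv.f (nat_lit 8301), Mv.f (nat_lit 5663), Mv.f (nat_lit 8933)])))
(Tr.lf (Fc.ed (nat_lit 8935) (nat_lit 3538) Col.f (nat_lit 2757) (Dv.wd (nat_lit 26) [Mv.b (nat_lit 7308), Mv.f (nat_lit 7184), Mv.f (nat_lit 8933)]))))))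
(Tr.nd (nat_lit 8938) (Tr.nd (nat_lit 8937) (Tr.lf (Fc.ed (nat_lit 8936) (nat_lit 2676) Col.gi (nat_lit 3538) (Dv.wd (nat_lit 24) [Mv.f (nat_lit 8935), Mv.f (nat_lit 7309), Mv.f (nat_lit 7133)])))
(Tr.lf (Fc.ed (nat_lit 8937) (nat_lit 3360) Col.d (nat_lit 3539) Dv.df)))
(Tr.nd (nat_lit 8939) (Tr.lf (Fc.ed (nat_lit 8938) (nat_lit 3539) Col.e (nat_lit 2993) (Dv.wd (nat_lit 74) [Mv.f (nat_lit 7813), Mv.b (nat_lit 2997), Mv.f (nat_lit 2435), Mv.f (nat_lit 957), Mv.f (nat_lit 1995), Mv.f (nat_lit 2106), Mv.f (nat_lit 4053), Mv.b (nat_lit 4454), Mv.f (nat_lit 8580), Mv.f (nat_lit 8937)])))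
(Tr.nd (nat_lit 8940) (Tr.lf (Fc.ed (nat_lit 8939) (nat_lit 2498) Col.c (nat_lit 3540) Dv.df))
(Tr.lf (Fc.ed (nat_lit 8940) (nat_lit 3540) Col.a (nat_lit 2643) (Dv.wd (nat_lit 19) [Mv.f (nat_lit 7059), Mv.b (nat_lit 6732), Mv.f (nat_lit 8939)])))))))
(Tr.nd (nat_lit 8946) (Tr.nd (nat_lit 8943) (Tr.nd (nat_lit 8942) (Tr.lf (Fc.ed (nat_lit 8941) (nat_lit 2221) Col.e (nat_lit 3540) (Dv.wd (nat_lit 72) [Mv.f (nat_lit 8940), Mv.b (nat_lit 7058), Mv.b (nat_lit 6474)])))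
(Tr.lf (Fc.ed (nat_lit 8942) (nat_lit 3121) Col.d (nat_lit 3541) Dv.df)))
(Tr.nd (nat_lit 8944) (Tr.lf (Fc.ed (nat_lit 8943) (nat_lit 3541) Col.c (nat_lit 3532) (Dv.wd (nat_lit 80) [Mv.b (nat_lit 8923), Mv.f (nat_lit 4859), Mv.b (nat_lit 2280), Mv.f (nat_lit 2166), Mv.b (nat_lit 3835), Mv.b (nat_lit 4112), Mv.f (nat_lit 6184), Mv.f (nat_lit 8097), Mv.f (nat_lit 8942)])))
(Tr.nd (nat_lit 8945) (Tr.lf (Fc.ed (nat_lit 8944) (nat_lit 1345) Col.gi (nat_lit 3542) Dv.df))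
(Tr.lf (Fc.ed (nat_lit 8945) (nat_lit 2023) Col.f (nat_lit 3543) Dv.df)))))
(Tr.nd (nat_lit 8949) (Tr.nd (nat_lit 8947) (Tr.lf (Fc.ed (nat_lit 8946) (nat_lit 3543) Col.a (nat_lit 2346) (Dv.wd (nat_lit 16) [Mv.f (nat_lit 7047), Mv.f (nat_lit 7048), Mv.f (nat_lit 8945)])))
(Tr.nd (nat_lit 8948) (Tr.lf (Fc.ed (nat_lit 8947) (nat_lit 1569) Col.c (nat_lit 3544) Dv.df))
(Tr.lf (Fc.ed (nat_lit 8948) (nat_lit 3544) Col.a (nat_lit 3323) (Dv.wd (nat_lit 19) [Mv.b (nat_lit 8500), Mv.b (nat_lit 5234), Mv.f (nat_lit 8947)])))))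
(Tr.nd (nat_lit 8950) (Tr.lf (Fc.ed (nat_lit 8949) (nat_lit 3544) Col.f (nat_lit 3528) (Dv.wd (nat_lit 26) [Mv.b (nat_lit 8918), Mv.f (nat_lit 5043), Mv.f (nat_lit 8947)])))
(Tr.nd (nat_lit 8951) (Tr.lf (Fc.ed (nat_lit 8950) (nat_lit 3289) Col.c (nat_lit 3545) Dv.df))
(Tr.lf (Fc.ed (nat_lit 8951) (nat_lit 3545) Col.a (nat_lit 3067) (Dv.wd (nat_lit 19) [Mv.f (nat_lit 7981), Mv.f (nat_lit 8430), Mv.f (nat_lit 8950)]))))))))))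
(Tr.nd (nat_lit 8993) (Tr.nd (nat_lit 8972) (Tr.nd (nat_lit 8962) (Tr.nd (nat_lit 8957) (Tr.nd (nat_lit 8954) (Tr.nd (nat_lit 8953) (Tr.lf (Fc.ed (nat_lit 8952) (nat_lit 3545) Col.f (nat_lit 2057) (Dv.wd (nat_lit 26) [Mv.b (nat_lit 5697), Mv.b (nat_lit 8431), Mv.f (nat_lit 8950)])))
(Tr.lf (Fc.ed (nat_lit 8953) (nat_lit 2409) Col.c (nat_lit 3546) Dv.df)))
(Tr.nd (nat_lit 8955) (Tr.lf (Fc.ed (nat_lit 8954) (nat_lit 3546) Col.a (nat_lit 2279) (Dv.wd (nat_lit 19) [Mv.b (nat_lit 6242), Mv.b (nat_lit 6524), Mv.f (nat_lit 8953)])))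
(Tr.nd (nat_lit 8956) (Tr.lf (Fc.ed (nat_lit 8955) (nat_lit 2871) Col.f (nat_lit 3547) Dv.df))
(Tr.lf (Fc.ed (nat_lit 8956) (nat_lit 3547) Col.a (nat_lit 2987) (Dv.wd (nat_lit 16) [Mv.f (nat_lit 7801), Mv.f (nat_lit 7559), Mv.f (nat_lit 8955)]))))))
(Tr.nd (nat_lit 8959) (Tr.nd (nat_lit 8958) (Tr.lf (Fc.ed (nat_lit 8957) (nat_lit 3236) Col.gi (nat_lit 3548) Dv.df))
(Tr.lf (Fc.ed (nat_lit 8958) (nat_lit 2840) Col.c (nat_lit 3549) Dv.df)))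
(Tr.nd (nat_lit 8960) (Tr.lf (Fc.ed (nat_lit 8959) (nat_lit 3549) Col.b (nat_lit 3484) (Dv.wd (nat_lit 165) [Mv.f (nat_lit 8830), Mv.f (nat_lit 5498), Mv.f (nat_lit 5499), Mv.b (nat_lit 3385), Mv.b (nat_lit 3383), Mv.b (nat_lit 2309), Mv.f (nat_lit 3934), Mv.b (nat_lit 3990), Mv.f (nat_lit 7491), Mv.f (nat_lit 8958)])))
(Tr.nd (nat_lit 8961) (Tr.lf (Fc.ed (nat_lit 8960) (nat_lit 2028) Col.gi (nat_lit 3550) Dv.df))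
(Tr.lf (Fc.ed (nat_lit 8961) (nat_lit 3550) Col.gi (nat_lit 1552) (Dv.wd (nat_lit 24) [Mv.f (nat_lit 6827), Mv.f (nat_lit 6828), Mv.f (nat_lit 8960)])))))))
(Tr.nd (nat_lit 8967) (Tr.nd (nat_lit 8964) (Tr.nd (nat_lit 8963) (Tr.lf (Fc.ed (nat_lit 8962) (nat_lit 2275) Col.f (nat_lit 3551) Dv.df))
(Tr.lf (Fc.ed (nat_lit 8963) (nat_lit 3551) Col.a (nat_lit 3101) (Dv.wd (nat_lit 16) [Mv.b (nat_lit 8055), Mv.b (nat_lit 6235), Mv.f (nat_lit 8962)]))))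
(Tr.nd (nat_lit 8965) (Tr.lf (Fc.ed (nat_lit 8964) (nat_lit 3551) Col.d (nat_lit 3117) (Dv.wd (nat_lit 21) [Mv.f (nat_lit 8090), Mv.b (nat_lit 6731), Mv.f (nat_lit 8962)])))
(Tr.nd (nat_lit 8966) (Tr.lf (Fc.ed (nat_lit 8965) (nat_lit 2746) Col.gi (nat_lit 3552) Dv.df))
(Tr.lf (Fc.ed (nat_lit 8966) (nat_lit 3552) Col.gi (nat_lit 1258) (Dv.wd (nat_lit 24) [Mv.b (nat_lit 7110), Mv.b (nat_lit 7285), Mv.f (nat_lit 8965)]))))))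
(Tr.nd (nat_lit 8969) (Tr.nd (nat_lit 8968) (Tr.lf (Fc.ed (nat_lit 8967) (nat_lit 2028) Col.c (nat_lit 3553) Dv.df))
(Tr.lf (Fc.ed (nat_lit 8968) (nat_lit 3553) Col.a (nat_lit 3061) (Dv.wd (nat_lit 19) [Mv.b (nat_lit 7968), Mv.f (nat_lit 6828), Mv.f (nat_lit 8967)]))))
(Tr.nd (nat_lit 8970) (Tr.lf (Fc.ed (nat_lit 8969) (nat_lit 3553) Col.f (nat_lit 2154) (Dv.wd (nat_lit 26) [Mv.b (nat_lit 5969), Mv.f (nat_lit 5635), Mv.f (nat_lit 8967)])))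
(Tr.nd (nat_lit 8971) (Tr.lf (Fc.ed (nat_lit 8970) (nat_lit 2127) Col.g (nat_lit 3554) Dv.df))
(Tr.lf (Fc.ed (nat_lit 8971) (nat_lit 3554) Col.g (nat_lit 3154) (Dv.wd (nat_lit 9) [Mv.b (nat_lit 8164), Mv.f (nat_lit 5908), Mv.f (nat_lit 8970)]))))))))
(Tr.nd (nat_lit 8982) (Tr.nd (nat_lit 8977) (Tr.nd (nat_lit 8974) (Tr.nd (nat_lit 8973) (Tr.lf (Fc.ed (nat_lit 8972) (nat_lit 3142) Col.b (nat_lit 3555) Dv.df))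
(Tr.lf (Fc.ed (nat_lit 8973) (nat_lit 3555) Col.c (nat_lit 2216) (Dv.wd (nat_lit 142) [Mv.b (nat_lit 6108), Mv.b (nat_lit 3590), Mv.b (nat_lit 915), Mv.b (nat_lit 627), Mv.b (nat_lit 2281), Mv.b (nat_lit 4859), Mv.b (nat_lit 7655), Mv.b (nat_lit 7665), Mv.f (nat_lit 8143), Mv.f (nat_lit 8972)]))))
(Tr.nd (nat_lit 8975) (Tr.lf (Fc.ed (nat_lit 8974) (nat_lit 2353) Col.e (nat_lit 3556) Dv.df))
(Tr.nd (nat_lit 8976) (Tr.lf (Fc.ed (nat_lit 8975) (nat_lit 3556) Col.c (nat_lit 1667) (Dv.wd (nat_lit 18) [Mv.f (nat_lit 4867), Mv.b (nat_lit 6420), Mv.f (nat_lit 8974)])))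
(Tr.lf (Fc.ed (nat_lit 8976) (nat_lit 2089) Col.g (nat_lit 3557) Dv.df)))))
(Tr.nd (nat_lit 8979) (Tr.nd (nat_lit 8978) (Tr.lf (Fc.ed (nat_lit 8977) (nat_lit 3557) Col.g (nat_lit 1814) (Dv.wd (nat_lit 9) [Mv.b (nat_lit 5934), Mv.b (nat_lit 5933), Mv.f (nat_lit 8976)])))
(Tr.lf (Fc.ed (nat_lit 8978) (nat_lit 2504) Col.f (nat_lit 3558) Dv.df)))
(Tr.nd (nat_lit 8980) (Tr.lf (Fc.ed (nat_lit 8979) (nat_lit 3558) Col.c (nat_lit 3441) (Dv.wd (nat_lit 34) [Mv.f (nat_lit 8750), Mv.b (nat_lit 6747), Mv.f (nat_lit 8978)])))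
(Tr.nd (nat_lit 8981) (Tr.lf (Fc.ed (nat_lit 8980) (nat_lit 3558) Col.e (nat_lit 3337) (Dv.wd (nat_lit 22) [Mv.f (nat_lit 8532), Mv.f (nat_lit 5990), Mv.b (nat_lit 5661), Mv.f (nat_lit 6746), Mv.f (nat_lit 8978)])))
(Tr.lf (Fc.ed (nat_lit 8981) (nat_lit 3242) Col.e (nat_lit 3559) Dv.df))))))
(Tr.nd (nat_lit 8987) (Tr.nd (nat_lit 8984) (Tr.nd (nat_lit 8983) (Tr.lf (Fc.ed (nat_lit 8982) (nat_lit 3559) Col.a (nat_lit 2145) (Dv.wd (nat_lit 15) [Mv.b (nat_lit 5952), Mv.f (nat_lit 8336), Mv.f (nat_lit 8981)])))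
(Tr.lf (Fc.ed (nat_lit 8983) (nat_lit 1071) Col.b (nat_lit 3560) Dv.df)))
(Tr.nd (nat_lit 8985) (Tr.lf (Fc.ed (nat_lit 8984) (nat_lit 1976) Col.g (nat_lit 3561) Dv.df))
(Tr.nd (nat_lit 8986) (Tr.lf (Fc.ed (nat_lit 8985) (nat_lit 3561) Col.g (nat_lit 1762) (Dv.wd (nat_lit 9) [Mv.b (nat_lit 8488), Mv.f (nat_lit 8490), Mv.f (nat_lit 8984)])))
(Tr.lf (Fc.ed (nat_lit 8986) (nat_lit 2054) Col.g (nat_lit 3562) Dv.df)))))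
(Tr.nd (nat_lit 8990) (Tr.nd (nat_lit 8988) (Tr.lf (Fc.ed (nat_lit 8987) (nat_lit 3354) Col.b (nat_lit 3563) Dv.df))
(Tr.nd (nat_lit 8989) (Tr.lf (Fc.ed (nat_lit 8988) (nat_lit 3563) Col.f (nat_lit 3258) (Dv.wd (nat_lit 20) [Mv.f (nat_lit 8373), Mv.b (nat_lit 8569), Mv.f (nat_lit 8987)])))
(Tr.lf (Fc.ed (nat_lit 8989) (nat_lit 2330) Col.gi (nat_lit 3564) Dv.df))))
(Tr.nd (nat_lit 8991) (Tr.lf (Fc.ed (nat_lit 8990) (nat_lit 3564) Col.gi (nat_lit 1220) (Dv.wd (nat_lit 24) [Mv.f (nat_lit 3764), Mv.f (nat_lit 6360), Mv.f (nat_lit 8989)])))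
(Tr.nd (nat_lit 8992) (Tr.lf (Fc.ed (nat_lit 8991) (nat_lit 3032) Col.g (nat_lit 3565) Dv.df))
(Tr.lf (Fc.ed (nat_lit 8992) (nat_lit 3565) Col.g (nat_lit 1868) (Dv.wd (nat_lit 9) [Mv.b (nat_lit 6135), Mv.b (nat_lit 7892), Mv.f (nat_lit 8991)])))))))))
(Tr.nd (nat_lit 9013) (Tr.nd (nat_lit 9003) (Tr.nd (nat_lit 8998) (Tr.nd (nat_lit 8995) (Tr.nd (nat_lit 8994) (Tr.lf (Fc.ed (nat_lit 8993) (nat_lit 2657) Col.f (nat_lit 3566) Dv.df))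
(Tr.lf (Fc.ed (nat_lit 8994) (nat_lit 3566) Col.a (nat_lit 3387) (Dv.wd (nat_lit 23) [Mv.b (nat_lit 8635), Mv.f (nat_lit 7090), Mv.f (nat_lit 8993)]))))
(Tr.nd (nat_lit 8996) (Tr.lf (Fc.ed (nat_lit 8995) (nat_lit 2203) Col.f (nat_lit 3567) Dv.df))
(Tr.nd (nat_lit 8997) (Tr.lf (Fc.ed (nat_lit 8996) (nat_lit 3567) Col.a (nat_lit 2187) (Dv.wd (nat_lit 16) [Mv.f (nat_lit 6498), Mv.f (nat_lit 6499), Mv.f (nat_lit 8995)])))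
(Tr.lf (Fc.ed (nat_lit 8997) (nat_lit 3527) Col.c (nat_lit 3568) Dv.df)))))
(Tr.nd (nat_lit 9000) (Tr.nd (nat_lit 8999) (Tr.lf (Fc.ed (nat_lit 8998) (nat_lit 3568) Col.a (nat_lit 2115) (Dv.wd (nat_lit 19) [Mv.b (nat_lit 5886), Mv.b (nat_lit 8917), Mv.f (nat_lit 8997)])))
(Tr.lf (Fc.ed (nat_lit 8999) (nat_lit 2126) Col.d (nat_lit 3569) Dv.df)))
(Tr.nd (nat_lit 9001) (Tr.lf (Fc.ed (nat_lit 9000) (nat_lit 2044) Col.gi (nat_lit 3570) Dv.df))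
(Tr.nd (nat_lit 9002) (Tr.lf (Fc.ed (nat_lit 9001) (nat_lit 3570) Col.gi (nat_lit 2136) (Dv.wd (nat_lit 24) [Mv.b (nat_lit 5931), Mv.b (nat_lit 5671), Mv.f (nat_lit 9000)])))
(Tr.lf (Fc.ed (nat_lit 9002) (nat_lit 2967) Col.gi (nat_lit 3571) Dv.df))))))
(Tr.nd (nat_lit 9008) (Tr.nd (nat_lit 9005) (Tr.nd (nat_lit 9004) (Tr.lf (Fc.ed (nat_lit 9003) (nat_lit 3571) Col.gi (nat_lit 2123) (Dv.wd (nat_lit 24) [Mv.f (nat_lit 6796), Mv.b (nat_lit 7755), Mv.f (nat_lit 9002)])))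
(Tr.lf (Fc.ed (nat_lit 9004) (nat_lit 1447) Col.gi (nat_lit 3572) Dv.df)))
(Tr.nd (nat_lit 9006) (Tr.lf (Fc.ed (nat_lit 9005) (nat_lit 3572) Col.gi (nat_lit 1561) (Dv.wd (nat_lit 24) [Mv.b (nat_lit 5121), Mv.f (nat_lit 5122), Mv.f (nat_lit 9004)])))
(Tr.nd (nat_lit 9007) (Tr.lf (Fc.ed (nat_lit 9006) (nat_lit 2686) Col.gi (nat_lit 3573) Dv.df))
(Tr.lf (Fc.ed (nat_lit 9007) (nat_lit 3573) Col.gi (nat_lit 1799) (Dv.wd (nat_lit 24) [Mv.f (nat_lit 6508), Mv.f (nat_lit 7160), Mv.f (nat_lit 9006)]))))))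
(Tr.nd (nat_lit 9010) (Tr.nd (nat_lit 9009) (Tr.lf (Fc.ed (nat_lit 9008) (nat_lit 2208) Col.d (nat_lit 3574) Dv.df))
(Tr.lf (Fc.ed (nat_lit 9009) (nat_lit 1061) Col.e (nat_lit 3575) Dv.df)))
(Tr.nd (nat_lit 9011) (Tr.lf (Fc.ed (nat_lit 9010) (nat_lit 3410) Col.a (nat_lit 3576) Dv.df))
(Tr.nd (nat_lit 9012) (Tr.lf (Fc.ed (nat_lit 9011) (nat_lit 3576) Col.f (nat_lit 1823) (Dv.wd (nat_lit 35) [Mv.b (nat_lit 8826), Mv.b (nat_lit 8825), Mv.f (nat_lit 9010)])))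
(Tr.lf (Fc.ed (nat_lit 9012) (nat_lit 2450) Col.b (nat_lit 3577) Dv.df)))))))
(Tr.nd (nat_lit 9023) (Tr.nd (nat_lit 9018) (Tr.nd (nat_lit 9015) (Tr.nd (nat_lit 9014) (Tr.lf (Fc.ed (nat_lit 9013) (nat_lit 3459) Col.a (nat_lit 3578) Dv.df))
(Tr.lf (Fc.ed (nat_lit 9014) (nat_lit 3578) Col.c (nat_lit 927) (Dv.wd (nat_lit 33) [Mv.b (nat_lit 4741), Mv.f (nat_lit 8778), Mv.f (nat_lit 9013)]))))
(Tr.nd (nat_lit 9016) (Tr.lf (Fc.ed (nat_lit 9015) (nat_lit 2962) Col.a (nat_lit 3579) Dv.df))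
(Tr.nd (nat_lit 9017) (Tr.lf (Fc.ed (nat_lit 9016) (nat_lit 3579) Col.f (nat_lit 3099) (Dv.wd (nat_lit 10) [Mv.b (nat_lit 8051), Mv.f (nat_lit 7745), Mv.f (nat_lit 9015)])))
(Tr.lf (Fc.ed (nat_lit 9017) (nat_lit 2940) Col.g (nat_lit 3580) Dv.df)))))
(Tr.nd (nat_lit 9020) (Tr.nd (nat_lit 9019) (Tr.lf (Fc.ed (nat_lit 9018) (nat_lit 3580) Col.g (nat_lit 1885) (Dv.wd (nat_lit 9) [Mv.b (nat_lit 6577), Mv.b (nat_lit 7706), Mv.f (nat_lit 9017)])))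
(Tr.lf (Fc.ed (nat_lit 9019) (nat_lit 2979) Col.a (nat_lit 3581) Dv.df)))
(Tr.nd (nat_lit 9021) (Tr.lf (Fc.ed (nat_lit 9020) (nat_lit 3581) Col.gi (nat_lit 2322) (Dv.wd (nat_lit 12) [Mv.b (nat_lit 6340), Mv.b (nat_lit 7782), Mv.f (nat_lit 9019)])))
(Tr.nd (nat_lit 9022) (Tr.lf (Fc.ed (nat_lit 9021) (nat_lit 3500) Col.a (nat_lit 3582) Dv.df))
(Tr.lf (Fc.ed (nat_lit 9022) (nat_lit 3582) Col.e (nat_lit 2745) (Dv.wd (nat_lit 56) [Mv.f (nat_lit 7282), Mv.f (nat_lit 8859), Mv.f (nat_lit 9021)])))))))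
(Tr.nd (nat_lit 9028) (Tr.nd (nat_lit 9025) (Tr.nd (nat_lit 9024) (Tr.lf (Fc.ed (nat_lit 9023) (nat_lit 1325) Col.gi (nat_lit 3583) Dv.df))
(Tr.lf (Fc.ed (nat_lit 9024) (nat_lit 3583) Col.gi (nat_lit 2305) (Dv.wd (nat_lit 24) [Mv.f (nat_lit 6307), Mv.f (nat_lit 5237), Mv.f (nat_lit 9023)]))))
(Tr.nd (nat_lit 9026) (Tr.lf (Fc.ed (nat_lit 9025) (nat_lit 2008) Col.a (nat_lit 3584) Dv.df))
(Tr.nd (nat_lit 9027) (Tr.lf (Fc.ed (nat_lit 9026) (nat_lit 3584) Col.d (nat_lit 2622) (Dv.wd (nat_lit 28) [Mv.b (nat_lit 7009), Mv.f (nat_lit 5597), Mv.f (nat_lit 9025)])))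
(Tr.lf (Fc.ed (nat_lit 9027) (nat_lit 3233) Col.f (nat_lit 3585) Dv.df)))))
(Tr.nd (nat_lit 9031) (Tr.nd (nat_lit 9029) (Tr.lf (Fc.ed (nat_lit 9028) (nat_lit 3585) Col.b (nat_lit 2196) (Dv.wd (nat_lit 66) [Mv.b (nat_lit 6072), Mv.f (nat_lit 8319), Mv.f (nat_lit 9027)])))
(Tr.nd (nat_lit 9030) (Tr.lf (Fc.ed (nat_lit 9029) (nat_lit 2171) Col.f (nat_lit 3586) Dv.df))
(Tr.lf (Fc.ed (nat_lit 9030) (nat_lit 3586) Col.a (nat_lit 2142) (Dv.wd (nat_lit 16) [Mv.b (nat_lit 8078), Mv.b (nat_lit 8077), Mv.f (nat_lit 9029)])))))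
(Tr.nd (nat_lit 9032) (Tr.lf (Fc.ed (nat_lit 9031) (nat_lit 3219) Col.c (nat_lit 3587) Dv.df))
(Tr.nd (nat_lit 9033) (Tr.lf (Fc.ed (nat_lit 9032) (nat_lit 3587) Col.a (nat_lit 2288) (Dv.wd (nat_lit 19) [Mv.b (nat_lit 6263), Mv.b (nat_lit 8295), Mv.f (nat_lit 9031)])))
(Tr.lf (Fc.ed (nat_lit 9033) (nat_lit 1679) Col.g (nat_lit 3588) Dv.df))))))))))
(Tr.nd (nat_lit 9116) (Tr.nd (nat_lit 9075) (Tr.nd (nat_lit 9054) (Tr.nd (nat_lit 9044) (Tr.nd (nat_lit 9039) (Tr.nd (nat_lit 9036) (Tr.nd (nat_lit 9035) (Tr.lf (Fc.ed (nat_lit 9034) (nat_lit 2885) Col.g (nat_lit 3589) Dv.df))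
(Tr.lf (Fc.ed (nat_lit 9035) (nat_lit 3589) Col.g (nat_lit 3374) (Dv.wd (nat_lit 9) [Mv.f (nat_lit 8610), Mv.f (nat_lit 7591), Mv.f (nat_lit 9034)]))))
(Tr.nd (nat_lit 9037) (Tr.lf (Fc.ed (nat_lit 9036) (nat_lit 3557) Col.c (nat_lit 3590) Dv.df))
(Tr.nd (nat_lit 9038) (Tr.lf (Fc.ed (nat_lit 9037) (nat_lit 3590) Col.b (nat_lit 2695) (Dv.wd (nat_lit 101) [Mv.f (nat_lit 7178), Mv.b (nat_lit 4455), Mv.f (nat_lit 3965), Mv.f (nat_lit 3974), Mv.f (nat_lit 4109), Mv.b (nat_lit 4016), Mv.b (nat_lit 1893), Mv.f (nat_lit 5195), Mv.b (nat_lit 8977), Mv.f (nat_lit 9036)])))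
(Tr.lf (Fc.ed (nat_lit 9038) (nat_lit 1207) Col.e (nat_lit 3591) Dv.df)))))
(Tr.nd (nat_lit 9041) (Tr.nd (nat_lit 9040) (Tr.lf (Fc.ed (nat_lit 9039) (nat_lit 3572) Col.c (nat_lit 3592) Dv.df))
(Tr.lf (Fc.ed (nat_lit 9040) (nat_lit 3592) Col.b (nat_lit 2778) (Dv.wd (nat_lit 106) [Mv.b (nat_lit 7353), Mv.b (nat_lit 7637), Mv.f (nat_lit 7638), Mv.f (nat_lit 7858), Mv.b (nat_lit 7906), Mv.b (nat_lit 7905), Mv.b (nat_lit 7212), Mv.f (nat_lit 4629), Mv.b (nat_lit 9005), Mv.f (nat_lit 9039)]))))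
(Tr.nd (nat_lit 9042) (Tr.lf (Fc.ed (nat_lit 9041) (nat_lit 3302) Col.g (nat_lit 3593) Dv.df))
(Tr.nd (nat_lit 9043) (Tr.lf (Fc.ed (nat_lit 9042) (nat_lit 3593) Col.a (nat_lit 1950) (Dv.wd (nat_lit 114) [Mv.b (nat_lit 5528), Mv.f (nat_lit 8458), Mv.f (nat_lit 9041)])))
(Tr.lf (Fc.ed (nat_lit 9043) (nat_lit 3593) Col.b (nat_lit 3593) (Dv.wd (nat_lit 108) [Mv.f (nat_lit 9042), Mv.f (nat_lit 5475), Mv.f (nat_lit 4077), Mv.b (nat_lit 5475), Mv.b (nat_lit 9042)])))))))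
(Tr.nd (nat_lit 9049) (Tr.nd (nat_lit 9046) (Tr.nd (nat_lit 9045) (Tr.lf (Fc.ed (nat_lit 9044) (nat_lit 3182) Col.g (nat_lit 3594) Dv.df))
(Tr.lf (Fc.ed (nat_lit 9045) (nat_lit 3594) Col.g (nat_lit 3130) (Dv.wd (nat_lit 9) [Mv.f (nat_lit 8122), Mv.f (nat_lit 8221), Mv.f (nat_lit 9044)]))))
(Tr.nd (nat_lit 9047) (Tr.lf (Fc.ed (nat_lit 9046) (nat_lit 2096) Col.b (nat_lit 3595) Dv.df))
(Tr.nd (nat_lit 9048) (Tr.lf (Fc.ed (nat_lit 9047) (nat_lit 2255) Col.gi (nat_lit 3596) Dv.df))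
(Tr.lf (Fc.ed (nat_lit 9048) (nat_lit 3596) Col.gi (nat_lit 1247) (Dv.wd (nat_lit 24) [Mv.b (nat_lit 4112), Mv.f (nat_lit 6184), Mv.f (nat_lit 9047)]))))))
(Tr.nd (nat_lit 9051) (Tr.nd (nat_lit 9050) (Tr.lf (Fc.ed (nat_lit 9049) (nat_lit 2162) Col.g (nat_lit 3597) Dv.df))
(Tr.lf (Fc.ed (nat_lit 9050) (nat_lit 3597) Col.g (nat_lit 1373) (Dv.wd (nat_lit 9) [Mv.b (nat_lit 6957), Mv.b (nat_lit 6956), Mv.f (nat_lit 9049)]))))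
(Tr.nd (nat_lit 9052) (Tr.lf (Fc.ed (nat_lit 9051) (nat_lit 2651) Col.gi (nat_lit 3598) Dv.df))
(Tr.nd (nat_lit 9053) (Tr.lf (Fc.ed (nat_lit 9052) (nat_lit 3598) Col.gi (nat_lit 1926) (Dv.wd (nat_lit 24) [Mv.b (nat_lit 6081), Mv.f (nat_lit 7079), Mv.f (nat_lit 9051)])))
(Tr.lf (Fc.ed (nat_lit 9053) (nat_lit 2012) Col.b (nat_lit 3599) Dv.df)))))))
(Tr.nd (nat_lit 9064) (Tr.nd (nat_lit 9059) (Tr.nd (nat_lit 9056) (Tr.nd (nat_lit 9055) (Tr.lf (Fc.ed (nat_lit 9054) (nat_lit 2531) Col.c (nat_lit 3600) Dv.df))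
(Tr.lf (Fc.ed (nat_lit 9055) (nat_lit 3600) Col.a (nat_lit 1855) (Dv.wd (nat_lit 19) [Mv.b (nat_lit 5285), Mv.f (nat_lit 6811), Mv.f (nat_lit 9054)]))))
(Tr.nd (nat_lit 9057) (Tr.lf (Fc.ed (nat_lit 9056) (nat_lit 3591) Col.c (nat_lit 3601) Dv.df))
(Tr.nd (nat_lit 9058) (Tr.lf (Fc.ed (nat_lit 9057) (nat_lit 3601) Col.e (nat_lit 2487) (Dv.wd (nat_lit 25) [Mv.f (nat_lit 6697), Mv.f (nat_lit 9038), Mv.f (nat_lit 9056)])))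
(Tr.lf (Fc.ed (nat_lit 9058) (nat_lit 3573) Col.e (nat_lit 3602) Dv.df)))))
(Tr.nd (nat_lit 9061) (Tr.nd (nat_lit 9060) (Tr.lf (Fc.ed (nat_lit 9059) (nat_lit 3602) Col.d (nat_lit 3293) (Dv.wd (nat_lit 91) [Mv.b (nat_lit 8438), Mv.f (nat_lit 4570), Mv.b (nat_lit 4569), Mv.b (nat_lit 2426), Mv.b (nat_lit 2423), Mv.f (nat_lit 1429), Mv.f (nat_lit 2439), Mv.b (nat_lit 5169), Mv.b (nat_lit 9007), Mv.f (nat_lit 9058)])))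
(Tr.lf (Fc.ed (nat_lit 9060) (nat_lit 3533) Col.c (nat_lit 3603) Dv.df)))
(Tr.nd (nat_lit 9062) (Tr.lf (Fc.ed (nat_lit 9061) (nat_lit 3045) Col.b (nat_lit 3604) Dv.df))
(Tr.nd (nat_lit 9063) (Tr.lf (Fc.ed (nat_lit 9062) (nat_lit 2596) Col.gi (nat_lit 3605) Dv.df))
(Tr.lf (Fc.ed (nat_lit 9063) (nat_lit 3605) Col.gi (nat_lit 2021) (Dv.wd (nat_lit 24) [Mv.f (nat_lit 5623), Mv.b (nat_lit 6957), Mv.f (nat_lit 9062)])))))))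
(Tr.nd (nat_lit 9069) (Tr.nd (nat_lit 9066) (Tr.nd (nat_lit 9065) (Tr.lf (Fc.ed (nat_lit 9064) (nat_lit 2220) Col.b (nat_lit 3606) Dv.df))
(Tr.lf (Fc.ed (nat_lit 9065) (nat_lit 3606) Col.f (nat_lit 2371) (Dv.wd (nat_lit 20) [Mv.b (nat_lit 6457), Mv.f (nat_lit 6117), Mv.f (nat_lit 9064)]))))
(Tr.nd (nat_lit 9067) (Tr.lf (Fc.ed (nat_lit 9066) (nat_lit 2539) Col.a (nat_lit 3607) Dv.df))
(Tr.nd (nat_lit 9068) (Tr.lf (Fc.ed (nat_lit 9067) (nat_lit 3607) Col.f (nat_lit 3388) (Dv.wd (nat_lit 10) [Mv.f (nat_lit 8638), Mv.b (nat_lit 6833), Mv.f (nat_lit 9066)])))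
(Tr.lf (Fc.ed (nat_lit 9068) (nat_lit 963) Col.b (nat_lit 3608) Dv.df)))))
(Tr.nd (nat_lit 9072) (Tr.nd (nat_lit 9070) (Tr.lf (Fc.ed (nat_lit 9069) (nat_lit 2767) Col.d (nat_lit 3609) Dv.df))
(Tr.nd (nat_lit 9071) (Tr.lf (Fc.ed (nat_lit 9070) (nat_lit 3534) Col.c (nat_lit 3610) Dv.df))
(Tr.lf (Fc.ed (nat_lit 9071) (nat_lit 3610) Col.b (nat_lit 2442) (Dv.wd (nat_lit 101) [Mv.f (nat_lit 6598), Mv.b (nat_lit 3894), Mv.f (nat_lit 3314), Mv.f (nat_lit 3561), Mv.f (nat_lit 3672), Mv.f (nat_lit 3473), Mv.f (nat_lit 2095), Mv.b (nat_lit 5308), Mv.b (nat_lit 8927), Mv.f (nat_lit 9070)])))))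
(Tr.nd (nat_lit 9073) (Tr.lf (Fc.ed (nat_lit 9072) (nat_lit 2620) Col.g (nat_lit 3611) Dv.df))
(Tr.nd (nat_lit 9074) (Tr.lf (Fc.ed (nat_lit 9073) (nat_lit 3611) Col.g (nat_lit 1477) (Dv.wd (nat_lit 9) [Mv.f (nat_lit 4451), Mv.b (nat_lit 7007), Mv.f (nat_lit 9072)])))
(Tr.lf (Fc.ed (nat_lit 9074) (nat_lit 1064) Col.b (nat_lit 3612) Dv.df))))))))
(Tr.nd (nat_lit 9095) (Tr.nd (nat_lit 9085) (Tr.nd (nat_lit 9080) (Tr.nd (nat_lit 9077) (Tr.nd (nat_lit 9076) (Tr.lf (Fc.ed (nat_lit 9075) (nat_lit 2155) Col.a (nat_lit 3613) Dv.df))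
(Tr.lf (Fc.ed (nat_lit 9076) (nat_lit 2681) Col.c (nat_lit 3614) Dv.df)))
(Tr.nd (nat_lit 9078) (Tr.lf (Fc.ed (nat_lit 9077) (nat_lit 3614) Col.a (nat_lit 3406) (Dv.wd (nat_lit 19) [Mv.f (nat_lit 8677), Mv.b (nat_lit 7448), Mv.f (nat_lit 9076)])))
(Tr.nd (nat_lit 9079) (Tr.lf (Fc.ed (nat_lit 9078) (nat_lit 3385) Col.c (nat_lit 3615) Dv.df))
(Tr.lf (Fc.ed (nat_lit 9079) (nat_lit 3046) Col.e (nat_lit 3616) Dv.df)))))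
(Tr.nd (nat_lit 9082) (Tr.nd (nat_lit 9081) (Tr.lf (Fc.ed (nat_lit 9080) (nat_lit 2628) Col.gi (nat_lit 3617) Dv.df))
(Tr.lf (Fc.ed (nat_lit 9081) (nat_lit 3617) Col.gi (nat_lit 2408) (Dv.wd (nat_lit 24) [Mv.b (nat_lit 6519), Mv.b (nat_lit 7020), Mv.f (nat_lit 9080)]))))
(Tr.nd (nat_lit 9083) (Tr.lf (Fc.ed (nat_lit 9082) (nat_lit 2884) Col.a (nat_lit 3618) Dv.df))
(Tr.nd (nat_lit 9084) (Tr.lf (Fc.ed (nat_lit 9083) (nat_lit 3618) Col.f (nat_lit 3278) (Dv.wd (nat_lit 10) [Mv.b (nat_lit 8409), Mv.f (nat_lit 7589), Mv.f (nat_lit 9082)])))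
(Tr.lf (Fc.ed (nat_lit 9084) (nat_lit 2147) Col.gi (nat_lit 3619) Dv.df))))))
(Tr.nd (nat_lit 9090) (Tr.nd (nat_lit 9087) (Tr.nd (nat_lit 9086) (Tr.lf (Fc.ed (nat_lit 9085) (nat_lit 951) Col.g (nat_lit 3620) Dv.df))
(Tr.lf (Fc.ed (nat_lit 9086) (nat_lit 3620) Col.g (nat_lit 2161) (Dv.wd (nat_lit 9) [Mv.f (nat_lit 6277), Mv.f (nat_lit 6276), Mv.f (nat_lit 9085)]))))
(Tr.nd (nat_lit 9088) (Tr.lf (Fc.ed (nat_lit 9087) (nat_lit 2456) Col.b (nat_lit 3621) Dv.df))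
(Tr.nd (nat_lit 9089) (Tr.lf (Fc.ed (nat_lit 9088) (nat_lit 3621) Col.e (nat_lit 2996) (Dv.wd (nat_lit 52) [Mv.b (nat_lit 7819), Mv.b (nat_lit 6627), Mv.f (nat_lit 9087)])))
(Tr.lf (Fc.ed (nat_lit 9089) (nat_lit 3621) Col.f (nat_lit 3516) (Dv.wd (nat_lit 20) [Mv.b (nat_lit 8887), Mv.b (nat_lit 6628), Mv.f (nat_lit 9087)]))))))
(Tr.nd (nat_lit 9092) (Tr.nd (nat_lit 9091) (Tr.lf (Fc.ed (nat_lit 9090) (nat_lit 3593) Col.f (nat_lit 3622) Dv.df))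
(Tr.lf (Fc.ed (nat_lit 9091) (nat_lit 3622) Col.a (nat_lit 1974) (Dv.wd (nat_lit 16) [Mv.f (nat_lit 5528), Mv.b (nat_lit 9042), Mv.f (nat_lit 9090)]))))
(Tr.nd (nat_lit 9093) (Tr.lf (Fc.ed (nat_lit 9092) (nat_lit 2155) Col.f (nat_lit 3623) Dv.df))
(Tr.nd (nat_lit 9094) (Tr.lf (Fc.ed (nat_lit 9093) (nat_lit 3623) Col.b (nat_lit 2799) (Dv.wd (nat_lit 66) [Mv.b (nat_lit 7404), Mv.f (nat_lit 5970), Mv.f (nat_lit 9092)])))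
(Tr.lf (Fc.ed (nat_lit 9094) (nat_lit 1859) Col.b (nat_lit 3624) Dv.df)))))))
(Tr.nd (nat_lit 9105) (Tr.nd (nat_lit 9100) (Tr.nd (nat_lit 9097) (Tr.nd (nat_lit 9096) (Tr.lf (Fc.ed (nat_lit 9095) (nat_lit 1574) Col.e (nat_lit 3625) Dv.df))
(Tr.lf (Fc.ed (nat_lit 9096) (nat_lit 3625) Col.a (nat_lit 3464) (Dv.wd (nat_lit 15) [Mv.b (nat_lit 8789), Mv.f (nat_lit 5166), Mv.f (nat_lit 9095)]))))
(Tr.nd (nat_lit 9098) (Tr.lf (Fc.ed (nat_lit 9097) (nat_lit 3374) Col.d (nat_lit 3626) Dv.df))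
(Tr.nd (nat_lit 9099) (Tr.lf (Fc.ed (nat_lit 9098) (nat_lit 3626) Col.e (nat_lit 3181) (Dv.wd (nat_lit 42) [Mv.f (nat_lit 8220), Mv.b (nat_lit 7683), Mv.f (nat_lit 7682), Mv.f (nat_lit 8609), Mv.f (nat_lit 9097)])))
(Tr.lf (Fc.ed (nat_lit 9099) (nat_lit 2640) Col.gi (nat_lit 3627) Dv.df)))))
(Tr.nd (nat_lit 9102) (Tr.nd (nat_lit 9101) (Tr.lf (Fc.ed (nat_lit 9100) (nat_lit 3627) Col.gi (nat_lit 1964) (Dv.wd (nat_lit 24) [Mv.b (nat_lit 6031), Mv.f (nat_lit 7049), Mv.f (nat_lit 9099)])))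
(Tr.lf (Fc.ed (nat_lit 9101) (nat_lit 3625) Col.b (nat_lit 3628) Dv.df)))
(Tr.nd (nat_lit 9103) (Tr.lf (Fc.ed (nat_lit 9102) (nat_lit 3628) Col.e (nat_lit 3041) (Dv.wd (nat_lit 52) [Mv.b (nat_lit 7910), Mv.f (nat_lit 9095), Mv.f (nat_lit 9101)])))
(Tr.nd (nat_lit 9104) (Tr.lf (Fc.ed (nat_lit 9103) (nat_lit 2015) Col.a (nat_lit 3629) Dv.df))
(Tr.lf (Fc.ed (nat_lit 9104) (nat_lit 3629) Col.c (nat_lit 3141) (Dv.wd (nat_lit 33) [Mv.b (nat_lit 8141), Mv.f (nat_lit 5610), Mv.f (nat_lit 9103)])))))))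
(Tr.nd (nat_lit 9110) (Tr.nd (nat_lit 9107) (Tr.nd (nat_lit 9106) (Tr.lf (Fc.ed (nat_lit 9105) (nat_lit 3492) Col.gi (nat_lit 3630) Dv.df))
(Tr.lf (Fc.ed (nat_lit 9106) (nat_lit 3630) Col.c (nat_lit 1905) (Dv.wd (nat_lit 143) [Mv.b (nat_lit 5382), Mv.b (nat_lit 883), Mv.b (nat_lit 496), Mv.b (nat_lit 751), Mv.f (nat_lit 2618), Mv.f (nat_lit 3600), Mv.f (nat_lit 4058), Mv.f (nat_lit 5526), Mv.b (nat_lit 8845), Mv.f (nat_lit 9105)]))))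
(Tr.nd (nat_lit 9108) (Tr.lf (Fc.ed (nat_lit 9107) (nat_lit 2105) Col.f (nat_lit 3631) Dv.df))
(Tr.nd (nat_lit 9109) (Tr.lf (Fc.ed (nat_lit 9108) (nat_lit 3631) Col.b (nat_lit 3367) (Dv.wd (nat_lit 66) [Mv.b (nat_lit 8593), Mv.b (nat_lit 5796), Mv.f (nat_lit 9107)])))
(Tr.lf (Fc.ed (nat_lit 9109) (nat_lit 3631) Col.c (nat_lit 2120) (Dv.wd (nat_lit 34) [Mv.f (nat_lit 5896), Mv.f (nat_lit 5795), Mv.f (nat_lit 9107)]))))))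
(Tr.nd (nat_lit 9113) (Tr.nd (nat_lit 9111) (Tr.lf (Fc.ed (nat_lit 9110) (nat_lit 3613) Col.f (nat_lit 3632) Dv.df))
(Tr.nd (nat_lit 9112) (Tr.lf (Fc.ed (nat_lit 9111) (nat_lit 3632) Col.a (nat_lit 3623) (Dv.wd (nat_lit 16) [Mv.b (nat_lit 9092), Mv.f (nat_lit 9075), Mv.f (nat_lit 9110)])))
(Tr.lf (Fc.ed (nat_lit 9112) (nat_lit 3336) Col.b (nat_lit 3633) Dv.df))))
(Tr.nd (nat_lit 9114) (Tr.lf (Fc.ed (nat_lit 9113) (nat_lit 1721) Col.gi (nat_lit 3634) Dv.df))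
(Tr.nd (nat_lit 9115) (Tr.lf (Fc.ed (nat_lit 9114) (nat_lit 3634) Col.gi (nat_lit 3434) (Dv.wd (nat_lit 24) [Mv.f (nat_lit 8735), Mv.b (nat_lit 8032), Mv.f (nat_lit 9113)])))
(Tr.lf (Fc.ed (nat_lit 9115) (nat_lit 2941) Col.d (nat_lit 3635) Dv.df)))))))))
(Tr.nd (nat_lit 9157) (Tr.nd (nat_lit 9136) (Tr.nd (nat_lit 9126) (Tr.nd (nat_lit 9121) (Tr.nd (nat_lit 9118) (Tr.nd (nat_lit 9117) (Tr.lf (Fc.ed (nat_lit 9116) (nat_lit 3491) Col.f (nat_lit 3636) Dv.df))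
(Tr.lf (Fc.ed (nat_lit 9117) (nat_lit 3636) Col.a (nat_lit 3533) (Dv.wd (nat_lit 23) [Mv.f (nat_lit 8925), Mv.b (nat_lit 8843), Mv.f (nat_lit 9116)]))))
(Tr.nd (nat_lit 9119) (Tr.lf (Fc.ed (nat_lit 9118) (nat_lit 2796) Col.a (nat_lit 3637) Dv.df))
(Tr.nd (nat_lit 9120) (Tr.lf (Fc.ed (nat_lit 9119) (nat_lit 3637) Col.d (nat_lit 2321) (Dv.wd (nat_lit 28) [Mv.f (nat_lit 6338), Mv.b (nat_lit 7399), Mv.f (nat_lit 9118)])))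
(Tr.lf (Fc.ed (nat_lit 9120) (nat_lit 2315) Col.f (nat_lit 3638) Dv.df)))))
(Tr.nd (nat_lit 9123) (Tr.nd (nat_lit 9122) (Tr.lf (Fc.ed (nat_lit 9121) (nat_lit 3638) Col.a (nat_lit 1919) (Dv.wd (nat_lit 23) [Mv.b (nat_lit 5409), Mv.f (nat_lit 6328), Mv.f (nat_lit 9120)])))
(Tr.lf (Fc.ed (nat_lit 9122) (nat_lit 2315) Col.a (nat_lit 2739) (Dv.wd (nat_lit 16) [Mv.b (nat_lit 7268), Mv.b (nat_lit 9121), Mv.b (nat_lit 9120)]))))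
(Tr.nd (nat_lit 9124) (Tr.lf (Fc.ed (nat_lit 9123) (nat_lit 861) Col.g (nat_lit 2315) (Dv.wd (nat_lit 9) [Mv.f (nat_lit 9122), Mv.b (nat_lit 7268), Mv.f (nat_lit 5410)])))
(Tr.nd (nat_lit 9125) (Tr.lf (Fc.ed (nat_lit 9124) (nat_lit 1453) Col.a (nat_lit 3639) Dv.df))
(Tr.lf (Fc.ed (nat_lit 9125) (nat_lit 3639) Col.f (nat_lit 3581) (Dv.wd (nat_lit 35) [Mv.b (nat_lit 9019), Mv.f (nat_lit 7782), Mv.f (nat_lit 9124)])))))))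
(Tr.nd (nat_lit 9131) (Tr.nd (nat_lit 9128) (Tr.nd (nat_lit 9127) (Tr.lf (Fc.ed (nat_lit 9126) (nat_lit 3195) Col.f (nat_lit 3640) Dv.df))
(Tr.lf (Fc.ed (nat_lit 9127) (nat_lit 3640) Col.a (nat_lit 2826) (Dv.wd (nat_lit 16) [Mv.f (nat_lit 7463), Mv.b (nat_lit 8249), Mv.f (nat_lit 9126)]))))
(Tr.nd (nat_lit 9129) (Tr.lf (Fc.ed (nat_lit 9128) (nat_lit 2104) Col.d (nat_lit 3641) Dv.df))
(Tr.nd (nat_lit 9130) (Tr.lf (Fc.ed (nat_lit 9129) (nat_lit 3494) Col.a (nat_lit 3642) Dv.df))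
(Tr.lf (Fc.ed (nat_lit 9130) (nat_lit 3642) Col.f (nat_lit 2914) (Dv.wd (nat_lit 10) [Mv.f (nat_lit 7655), Mv.b (nat_lit 8848), Mv.f (nat_lit 9129)]))))))
(Tr.nd (nat_lit 9133) (Tr.nd (nat_lit 9132) (Tr.lf (Fc.ed (nat_lit 9131) (nat_lit 3600) Col.f (nat_lit 3643) Dv.df))
(Tr.lf (Fc.ed (nat_lit 9132) (nat_lit 3643) Col.c (nat_lit 1423) (Dv.wd (nat_lit 34) [Mv.b (nat_lit 6812), Mv.f (nat_lit 9054), Mv.f (nat_lit 9131)]))))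
(Tr.nd (nat_lit 9134) (Tr.lf (Fc.ed (nat_lit 9133) (nat_lit 3329) Col.b (nat_lit 3643) (Dv.wd (nat_lit 154) [Mv.f (nat_lit 9132), Mv.b (nat_lit 4301), Mv.f (nat_lit 1930), Mv.b (nat_lit 1928), Mv.b (nat_lit 1646), Mv.b (nat_lit 4650), Mv.b (nat_lit 4649), Mv.f (nat_lit 4793), Mv.f (nat_lit 4794), Mv.f (nat_lit 8513)])))
(Tr.nd (nat_lit 9135) (Tr.lf (Fc.ed (nat_lit 9134) (nat_lit 3523) Col.b (nat_lit 3644) Dv.df))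
(Tr.lf (Fc.ed (nat_lit 9135) (nat_lit 3644) Col.a (nat_lit 3560) (Dv.wd (nat_lit 98) [Mv.b (nat_lit 8983), Mv.f (nat_lit 3317), Mv.b (nat_lit 5194), Mv.b (nat_lit 8907), Mv.f (nat_lit 9134)]))))))))
(Tr.nd (nat_lit 9146) (Tr.nd (nat_lit 9141) (Tr.nd (nat_lit 9138) (Tr.nd (nat_lit 9137) (Tr.lf (Fc.ed (nat_lit 9136) (nat_lit 3223) Col.g (nat_lit 3645) Dv.df))
(Tr.lf (Fc.ed (nat_lit 9137) (nat_lit 3198) Col.g (nat_lit 3646) Dv.df)))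
(Tr.nd (nat_lit 9139) (Tr.lf (Fc.ed (nat_lit 9138) (nat_lit 3646) Col.g (nat_lit 2175) (Dv.wd (nat_lit 9) [Mv.f (nat_lit 8188), Mv.f (nat_lit 8253), Mv.f (nat_lit 9137)])))
(Tr.nd (nat_lit 9140) (Tr.lf (Fc.ed (nat_lit 9139) (nat_lit 3106) Col.e (nat_lit 3647) Dv.df))
(Tr.lf (Fc.ed (nat_lit 9140) (nat_lit 2718) Col.a (nat_lit 3648) Dv.df)))))
(Tr.nd (nat_lit 9143) (Tr.nd (nat_lit 9142) (Tr.lf (Fc.ed (nat_lit 9141) (nat_lit 2769) Col.f (nat_lit 3649) Dv.df))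
(Tr.lf (Fc.ed (nat_lit 9142) (nat_lit 3294) Col.f (nat_lit 3650) Dv.df)))
(Tr.nd (nat_lit 9144) (Tr.lf (Fc.ed (nat_lit 9143) (nat_lit 3650) Col.a (nat_lit 3088) (Dv.wd (nat_lit 16) [Mv.b (nat_lit 8024), Mv.b (nat_lit 8441), Mv.f (nat_lit 9142)])))
(Tr.nd (nat_lit 9145) (Tr.lf (Fc.ed (nat_lit 9144) (nat_lit 3650) Col.c (nat_lit 3395) (Dv.wd (nat_lit 34) [Mv.b (nat_lit 8650), Mv.f (nat_lit 8440), Mv.f (nat_lit 9142)])))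
(Tr.lf (Fc.ed (nat_lit 9145) (nat_lit 2560) Col.gi (nat_lit 3651) Dv.df))))))
(Tr.nd (nat_lit 9151) (Tr.nd (nat_lit 9148) (Tr.nd (nat_lit 9147) (Tr.lf (Fc.ed (nat_lit 9146) (nat_lit 3651) Col.gi (nat_lit 3553) (Dv.wd (nat_lit 24) [Mv.f (nat_lit 8969), Mv.f (nat_lit 6877), Mv.f (nat_lit 9145)])))
(Tr.lf (Fc.ed (nat_lit 9147) (nat_lit 3301) Col.g (nat_lit 3652) Dv.df)))
(Tr.nd (nat_lit 9149) (Tr.lf (Fc.ed (nat_lit 9148) (nat_lit 3652) Col.g (nat_lit 2002) (Dv.wd (nat_lit 9) [Mv.b (nat_lit 5590), Mv.b (nat_lit 8457), Mv.f (nat_lit 9147)])))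
(Tr.nd (nat_lit 9150) (Tr.lf (Fc.ed (nat_lit 9149) (nat_lit 3092) Col.c (nat_lit 3653) Dv.df))
(Tr.lf (Fc.ed (nat_lit 9150) (nat_lit 3493) Col.e (nat_lit 3654) Dv.df)))))
(Tr.nd (nat_lit 9154) (Tr.nd (nat_lit 9152) (Tr.lf (Fc.ed (nat_lit 9151) (nat_lit 3654) Col.f (nat_lit 2281) (Dv.wd (nat_lit 96) [Mv.b (nat_lit 6248), Mv.b (nat_lit 5911), Mv.f (nat_lit 8792), Mv.f (nat_lit 8846), Mv.f (nat_lit 9150)])))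
(Tr.nd (nat_lit 9153) (Tr.lf (Fc.ed (nat_lit 9152) (nat_lit 3490) Col.a (nat_lit 3655) Dv.df))
(Tr.lf (Fc.ed (nat_lit 9153) (nat_lit 3655) Col.e (nat_lit 853) (Dv.wd (nat_lit 56) [Mv.f (nat_lit 5316), Mv.f (nat_lit 8841), Mv.f (nat_lit 9152)])))))
(Tr.nd (nat_lit 9155) (Tr.lf (Fc.ed (nat_lit 9154) (nat_lit 1874) Col.b (nat_lit 3656) Dv.df))
(Tr.nd (nat_lit 9156) (Tr.lf (Fc.ed (nat_lit 9155) (nat_lit 3656) Col.f (nat_lit 3612) (Dv.wd (nat_lit 20) [Mv.b (nat_lit 9074), Mv.b (nat_lit 5322), Mv.f (nat_lit 9154)])))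
(Tr.lf (Fc.ed (nat_lit 9156) (nat_lit 3266) Col.f (nat_lit 3657) Dv.df))))))))
(Tr.nd (nat_lit 9178) (Tr.nd (nat_lit 9167) (Tr.nd (nat_lit 9162) (Tr.nd (nat_lit 9159) (Tr.nd (nat_lit 9158) (Tr.lf (Fc.ed (nat_lit 9157) (nat_lit 3657) Col.a (nat_lit 1751) (Dv.wd (nat_lit 16) [Mv.f (nat_lit 5071), Mv.b (nat_lit 8386), Mv.f (nat_lit 9156)])))
(Tr.lf (Fc.ed (nat_lit 9158) (nat_lit 2401) Col.a (nat_lit 3658) Dv.df)))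
(Tr.nd (nat_lit 9160) (Tr.lf (Fc.ed (nat_lit 9159) (nat_lit 3172) Col.d (nat_lit 3659) Dv.df))
(Tr.nd (nat_lit 9161) (Tr.lf (Fc.ed (nat_lit 9160) (nat_lit 2178) Col.a (nat_lit 3660) Dv.df))
(Tr.lf (Fc.ed (nat_lit 9161) (nat_lit 3660) Col.f (nat_lit 2475) (Dv.wd (nat_lit 35) [Mv.b (nat_lit 8236), Mv.b (nat_lit 8235), Mv.f (nat_lit 9160)]))))))
(Tr.nd (nat_lit 9164) (Tr.nd (nat_lit 9163) (Tr.lf (Fc.ed (nat_lit 9162) (nat_lit 2662) Col.a (nat_lit 3661) Dv.df))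
(Tr.lf (Fc.ed (nat_lit 9163) (nat_lit 3058) Col.a (nat_lit 3662) Dv.df)))
(Tr.nd (nat_lit 9165) (Tr.lf (Fc.ed (nat_lit 9164) (nat_lit 3662) Col.c (nat_lit 1859) (Dv.wd (nat_lit 33) [Mv.b (nat_lit 5414), Mv.f (nat_lit 7962), Mv.f (nat_lit 9163)])))
(Tr.nd (nat_lit 9166) (Tr.lf (Fc.ed (nat_lit 9165) (nat_lit 2651) Col.f (nat_lit 3663) Dv.df))
(Tr.lf (Fc.ed (nat_lit 9166) (nat_lit 3663) Col.a (nat_lit 1926) (Dv.wd (nat_lit 16) [Mv.b (nat_lit 6081), Mv.f (nat_lit 7079), Mv.f (nat_lit 9165)])))))))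
(Tr.nd (nat_lit 9172) (Tr.nd (nat_lit 9169) (Tr.nd (nat_lit 9168) (Tr.lf (Fc.ed (nat_lit 9167) (nat_lit 3456) Col.c (nat_lit 3664) Dv.df))
(Tr.lf (Fc.ed (nat_lit 9168) (nat_lit 3664) Col.b (nat_lit 3627) (Dv.wd (nat_lit 101) [Mv.f (nat_lit 9100), Mv.f (nat_lit 5505), Mv.f (nat_lit 3436), Mv.f (nat_lit 3771), Mv.b (nat_lit 3775), Mv.b (nat_lit 3652), Mv.f (nat_lit 3365), Mv.f (nat_lit 5411), Mv.f (nat_lit 8773), Mv.f (nat_lit 9167)]))))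
(Tr.nd (nat_lit 9170) (Tr.lf (Fc.ed (nat_lit 9169) (nat_lit 3450) Col.e (nat_lit 3665) Dv.df))
(Tr.nd (nat_lit 9171) (Tr.lf (Fc.ed (nat_lit 9170) (nat_lit 2171) Col.b (nat_lit 3666) Dv.df))
(Tr.lf (Fc.ed (nat_lit 9171) (nat_lit 3446) Col.d (nat_lit 3667) Dv.df)))))
(Tr.nd (nat_lit 9175) (Tr.nd (nat_lit 9173) (Tr.lf (Fc.ed (nat_lit 9172) (nat_lit 3667) Col.e (nat_lit 3588) (Dv.wd (nat_lit 74) [Mv.b (nat_lit 9033), Mv.f (nat_lit 4897), Mv.b (nat_lit 2423), Mv.b (nat_lit 1430), Mv.b (nat_lit 2342), Mv.f (nat_lit 2871), Mv.b (nat_lit 4510), Mv.b (nat_lit 4509), Mv.b (nat_lit 8758), Mv.f (nat_lit 9171)])))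
(Tr.nd (nat_lit 9174) (Tr.lf (Fc.ed (nat_lit 9173) (nat_lit 2532) Col.gi (nat_lit 3588) (Dv.wd (nat_lit 163) [Mv.b (nat_lit 9172), Mv.b (nat_lit 9171), Mv.b (nat_lit 8757), Mv.b (nat_lit 7467), Mv.f (nat_lit 7468), Mv.b (nat_lit 7401), Mv.b (nat_lit 8426), Mv.b (nat_lit 8425), Mv.b (nat_lit 7737), Mv.f (nat_lit 6815)])))
(Tr.lf (Fc.ed (nat_lit 9174) (nat_lit 3378) Col.f (nat_lit 3668) Dv.df))))
(Tr.nd (nat_lit 9176) (Tr.lf (Fc.ed (nat_lit 9175) (nat_lit 3668) Col.b (nat_lit 3465) (Dv.wd (nat_lit 66) [Mv.b (nat_lit 8790), Mv.b (nat_lit 8618), Mv.f (nat_lit 9174)])))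
(Tr.nd (nat_lit 9177) (Tr.lf (Fc.ed (nat_lit 9176) (nat_lit 2474) Col.b (nat_lit 3669) Dv.df))
(Tr.lf (Fc.ed (nat_lit 9177) (nat_lit 3669) Col.e (nat_lit 2500) (Dv.wd (nat_lit 52) [Mv.f (nat_lit 6737), Mv.b (nat_lit 6671), Mv.f (nat_lit 9176)]))))))))
(Tr.nd (nat_lit 9188) (Tr.nd (nat_lit 9183) (Tr.nd (nat_lit 9180) (Tr.nd (nat_lit 9179) (Tr.lf (Fc.ed (nat_lit 9178) (nat_lit 3669) Col.c (nat_lit 3595) (Dv.wd (nat_lit 93) [Mv.b (nat_lit 9046), Mv.b (nat_lit 5775), Mv.b (nat_lit 5672), Mv.f (nat_lit 6670), Mv.f (nat_lit 9176)])))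
(Tr.lf (Fc.ed (nat_lit 9179) (nat_lit 3052) Col.a (nat_lit 3670) Dv.df)))
(Tr.nd (nat_lit 9181) (Tr.lf (Fc.ed (nat_lit 9180) (nat_lit 3670) Col.f (nat_lit 3169) (Dv.wd (nat_lit 10) [Mv.f (nat_lit 8197), Mv.b (nat_lit 7948), Mv.f (nat_lit 9179)])))
(Tr.nd (nat_lit 9182) (Tr.lf (Fc.ed (nat_lit 9181) (nat_lit 3612) Col.gi (nat_lit 3671) Dv.df))
(Tr.lf (Fc.ed (nat_lit 9182) (nat_lit 3632) Col.b (nat_lit 3672) Dv.df)))))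
(Tr.nd (nat_lit 9185) (Tr.nd (nat_lit 9184) (Tr.lf (Fc.ed (nat_lit 9183) (nat_lit 2607) Col.f (nat_lit 3673) Dv.df))
(Tr.lf (Fc.ed (nat_lit 9184) (nat_lit 3673) Col.a (nat_lit 2296) (Dv.wd (nat_lit 16) [Mv.f (nat_lit 8855), Mv.f (nat_lit 8856), Mv.f (nat_lit 9183)]))))
(Tr.nd (nat_lit 9186) (Tr.lf (Fc.ed (nat_lit 9185) (nat_lit 1822) Col.d (nat_lit 3674) Dv.df))
(Tr.nd (nat_lit 9187) (Tr.lf (Fc.ed (nat_lit 9186) (nat_lit 3674) Col.f (nat_lit 2963) (Dv.wd (nat_lit 11) [Mv.b (nat_lit 7747), Mv.b (nat_lit 5215), Mv.f (nat_lit 9185)])))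
(Tr.lf (Fc.ed (nat_lit 9187) (nat_lit 3535) Col.d (nat_lit 3675) Dv.df))))))
(Tr.nd (nat_lit 9193) (Tr.nd (nat_lit 9190) (Tr.nd (nat_lit 9189) (Tr.lf (Fc.ed (nat_lit 9188) (nat_lit 3675) Col.e (nat_lit 3620) (Dv.wd (nat_lit 131) [Mv.f (nat_lit 9086), Mv.f (nat_lit 5987), Mv.b (nat_lit 6152), Mv.f (nat_lit 6200), Mv.b (nat_lit 6429), Mv.f (nat_lit 7139), Mv.f (nat_lit 7604), Mv.f (nat_lit 7607), Mv.b (nat_lit 8929), Mv.f (nat_lit 9187)])))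
(Tr.lf (Fc.ed (nat_lit 9189) (nat_lit 3101) Col.c (nat_lit 3676) Dv.df)))
(Tr.nd (nat_lit 9191) (Tr.lf (Fc.ed (nat_lit 9190) (nat_lit 2413) Col.f (nat_lit 3677) Dv.df))
(Tr.nd (nat_lit 9192) (Tr.lf (Fc.ed (nat_lit 9191) (nat_lit 3677) Col.c (nat_lit 3606) (Dv.wd (nat_lit 34) [Mv.f (nat_lit 9065), Mv.f (nat_lit 6531), Mv.f (nat_lit 9190)])))
(Tr.lf (Fc.ed (nat_lit 9192) (nat_lit 3653) Col.f (nat_lit 3678) Dv.df)))))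
(Tr.nd (nat_lit 9196) (Tr.nd (nat_lit 9194) (Tr.lf (Fc.ed (nat_lit 9193) (nat_lit 3678) Col.c (nat_lit 1796) (Dv.wd (nat_lit 34) [Mv.b (nat_lit 8035), Mv.f (nat_lit 9149), Mv.f (nat_lit 9192)])))
(Tr.nd (nat_lit 9195) (Tr.lf (Fc.ed (nat_lit 9194) (nat_lit 2824) Col.a (nat_lit 3679) Dv.df))
(Tr.lf (Fc.ed (nat_lit 9195) (nat_lit 3679) Col.c (nat_lit 3465) (Dv.wd (nat_lit 33) [Mv.f (nat_lit 8791), Mv.f (nat_lit 7456), Mv.f (nat_lit 9194)])))))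
(Tr.nd (nat_lit 9197) (Tr.lf (Fc.ed (nat_lit 9196) (nat_lit 3622) Col.d (nat_lit 3680) Dv.df))
(Tr.nd (nat_lit 9198) (Tr.lf (Fc.ed (nat_lit 9197) (nat_lit 3680) Col.a (nat_lit 1710) (Dv.wd (nat_lit 8) [Mv.b (nat_lit 5527), Mv.b (nat_lit 9091), Mv.f (nat_lit 9196)])))
(Tr.lf (Fc.ed (nat_lit 9198) (nat_lit 2572) Col.g (nat_lit 3680) (Dv.wd (nat_lit 9) [Mv.f (nat_lit 9197), Mv.f (nat_lit 4994), Mv.f (nat_lit 6899)]))))))))))))))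
(Tr.nd (nat_lit 9856) (Tr.nd (nat_lit 9527) (Tr.nd (nat_lit 9363) (Tr.nd (nat_lit 9281) (Tr.nd (nat_lit 9240) (Tr.nd (nat_lit 9219) (Tr.nd (nat_lit 9209) (Tr.nd (nat_lit 9204) (Tr.nd (nat_lit 9201) (Tr.nd (nat_lit 9200) (Tr.lf (Fc.ed (nat_lit 9199) (nat_lit 1437) Col.b (nat_lit 3681) Dv.df))
(Tr.lf (Fc.ed (nat_lit 9200) (nat_lit 3681) Col.c (nat_lit 3608) (Dv.wd (nat_lit 93) [Mv.b (nat_lit 9068), Mv.b (nat_lit 3036), Mv.b (nat_lit 4305), Mv.f (nat_lit 4339), Mv.f (nat_lit 9199)]))))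
(Tr.nd (nat_lit 9202) (Tr.lf (Fc.ed (nat_lit 9201) (nat_lit 3640) Col.g (nat_lit 3682) Dv.df))
(Tr.nd (nat_lit 9203) (Tr.lf (Fc.ed (nat_lit 9202) (nat_lit 3682) Col.g (nat_lit 2122) (Dv.wd (nat_lit 9) [Mv.b (nat_lit 8249), Mv.f (nat_lit 9126), Mv.f (nat_lit 9201)])))
(Tr.lf (Fc.ed (nat_lit 9203) (nat_lit 1936) Col.e (nat_lit 3683) Dv.df)))))
(Tr.nd (nat_lit 9206) (Tr.nd (nat_lit 9205) (Tr.lf (Fc.ed (nat_lit 9204) (nat_lit 2110) Col.a (nat_lit 3684) Dv.df))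
(Tr.lf (Fc.ed (nat_lit 9205) (nat_lit 3050) Col.d (nat_lit 3685) Dv.df)))
(Tr.nd (nat_lit 9207) (Tr.lf (Fc.ed (nat_lit 9206) (nat_lit 3685) Col.f (nat_lit 3448) (Dv.wd (nat_lit 11) [Mv.f (nat_lit 8761), Mv.b (nat_lit 7942), Mv.f (nat_lit 9205)])))
(Tr.nd (nat_lit 9208) (Tr.lf (Fc.ed (nat_lit 9207) (nat_lit 1722) Col.a (nat_lit 3686) Dv.df))
(Tr.lf (Fc.ed (nat_lit 9208) (nat_lit 3686) Col.f (nat_lit 3242) (Dv.wd (nat_lit 35) [Mv.b (nat_lit 8336), Mv.b (nat_lit 5002), Mv.f (nat_lit 9207)])))))))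
(Tr.nd (nat_lit 9214) (Tr.nd (nat_lit 9211) (Tr.nd (nat_lit 9210) (Tr.lf (Fc.ed (nat_lit 9209) (nat_lit 2435) Col.a (nat_lit 3687) Dv.df))
(Tr.lf (Fc.ed (nat_lit 9210) (nat_lit 3687) Col.f (nat_lit 3559) (Dv.wd (nat_lit 35) [Mv.f (nat_lit 8982), Mv.f (nat_lit 6582), Mv.f (nat_lit 9209)]))))
(Tr.nd (nat_lit 9212) (Tr.lf (Fc.ed (nat_lit 9211) (nat_lit 3112) Col.c (nat_lit 3688) Dv.df))
(Tr.nd (nat_lit 9213) (Tr.lf (Fc.ed (nat_lit 9212) (nat_lit 3688) Col.a (nat_lit 1759) (Dv.wd (nat_lit 19) [Mv.b (nat_lit 5089), Mv.b (nat_lit 8081), Mv.f (nat_lit 9211)])))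
(Tr.lf (Fc.ed (nat_lit 9213) (nat_lit 3688) Col.f (nat_lit 3614) (Dv.wd (nat_lit 26) [Mv.b (nat_lit 9076), Mv.f (nat_lit 8080), Mv.f (nat_lit 9211)]))))))
(Tr.nd (nat_lit 9216) (Tr.nd (nat_lit 9215) (Tr.lf (Fc.ed (nat_lit 9214) (nat_lit 3614) Col.g (nat_lit 3156) (Dv.wd (nat_lit 17) [Mv.b (nat_lit 8169), Mv.b (nat_lit 9212), Mv.f (nat_lit 9213)])))
(Tr.lf (Fc.ed (nat_lit 9215) (nat_lit 1981) Col.g (nat_lit 3689) Dv.df)))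
(Tr.nd (nat_lit 9217) (Tr.lf (Fc.ed (nat_lit 9216) (nat_lit 3689) Col.g (nat_lit 1261) (Dv.wd (nat_lit 9) [Mv.b (nat_lit 5883), Mv.b (nat_lit 5882), Mv.f (nat_lit 9215)])))
(Tr.nd (nat_lit 9218) (Tr.lf (Fc.ed (nat_lit 9217) (nat_lit 3145) Col.a (nat_lit 3690) Dv.df))
(Tr.lf (Fc.ed (nat_lit 9218) (nat_lit 3690) Col.c (nat_lit 2787) (Dv.wd (nat_lit 33) [Mv.b (nat_lit 7376), Mv.f (nat_lit 8148), Mv.f (nat_lit 9217)]))))))))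
(Tr.nd (nat_lit 9229) (Tr.nd (nat_lit 9224) (Tr.nd (nat_lit 9221) (Tr.nd (nat_lit 9220) (Tr.lf (Fc.ed (nat_lit 9219) (nat_lit 3311) Col.f (nat_lit 3690) (Dv.wd (nat_lit 64) [Mv.f (nat_lit 9218), Mv.b (nat_lit 8314), Mv.b (nat_lit 8475)])))
(Tr.lf (Fc.ed (nat_lit 9220) (nat_lit 1648) Col.g (nat_lit 3691) Dv.df)))
(Tr.nd (nat_lit 9222) (Tr.lf (Fc.ed (nat_lit 9221) (nat_lit 3691) Col.g (nat_lit 1766) (Dv.wd (nat_lit 9) [Mv.b (nat_lit 7124), Mv.b (nat_lit 7123), Mv.f (nat_lit 9220)])))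
(Tr.nd (nat_lit 9223) (Tr.lf (Fc.ed (nat_lit 9222) (nat_lit 1601) Col.gi (nat_lit 3692) Dv.df))
(Tr.lf (Fc.ed (nat_lit 9223) (nat_lit 3692) Col.gi (nat_lit 1649) (Dv.wd (nat_lit 24) [Mv.f (nat_lit 5110), Mv.f (nat_lit 5111), Mv.f (nat_lit 9222)]))))))
(Tr.nd (nat_lit 9226) (Tr.nd (nat_lit 9225) (Tr.lf (Fc.ed (nat_lit 9224) (nat_lit 3373) Col.g (nat_lit 3693) Dv.df))
(Tr.lf (Fc.ed (nat_lit 9225) (nat_lit 3693) Col.c (nat_lit 3633) (Dv.wd (nat_lit 115) [Mv.b (nat_lit 9112), Mv.f (nat_lit 8530), Mv.f (nat_lit 4940), Mv.b (nat_lit 5263), Mv.b (nat_lit 8216), Mv.b (nat_lit 8548), Mv.f (nat_lit 8601), Mv.f (nat_lit 8603), Mv.b (nat_lit 8608), Mv.f (nat_lit 9224)]))))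
(Tr.nd (nat_lit 9227) (Tr.lf (Fc.ed (nat_lit 9226) (nat_lit 2732) Col.d (nat_lit 3633) (Dv.wd (nat_lit 62) [Mv.b (nat_lit 9225), Mv.b (nat_lit 9224), Mv.f (nat_lit 8608), Mv.b (nat_lit 8603), Mv.f (nat_lit 8602), Mv.f (nat_lit 8212), Mv.f (nat_lit 6546), Mv.b (nat_lit 8583), Mv.f (nat_lit 8584)])))
(Tr.nd (nat_lit 9228) (Tr.lf (Fc.ed (nat_lit 9227) (nat_lit 2812) Col.gi (nat_lit 3694) Dv.df))
(Tr.lf (Fc.ed (nat_lit 9228) (nat_lit 3694) Col.gi (nat_lit 1411) (Dv.wd (nat_lit 24) [Mv.f (nat_lit 6914), Mv.f (nat_lit 7434), Mv.f (nat_lit 9227)])))))))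
(Tr.nd (nat_lit 9234) (Tr.nd (nat_lit 9231) (Tr.nd (nat_lit 9230) (Tr.lf (Fc.ed (nat_lit 9229) (nat_lit 3680) Col.c (nat_lit 3695) Dv.df))
(Tr.lf (Fc.ed (nat_lit 9230) (nat_lit 3695) Col.g (nat_lit 2574) (Dv.wd (nat_lit 105) [Mv.b (nat_lit 6904), Mv.f (nat_lit 4940), Mv.b (nat_lit 2691), Mv.f (nat_lit 2693), Mv.b (nat_lit 2386), Mv.b (nat_lit 4684), Mv.f (nat_lit 6491), Mv.b (nat_lit 6900), Mv.f (nat_lit 9198), Mv.f (nat_lit 9229)]))))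
(Tr.nd (nat_lit 9232) (Tr.lf (Fc.ed (nat_lit 9231) (nat_lit 3510) Col.f (nat_lit 3695) (Dv.wd (nat_lit 10) [Mv.f (nat_lit 9230), Mv.f (nat_lit 6905), Mv.b (nat_lit 8878)])))
(Tr.nd (nat_lit 9233) (Tr.lf (Fc.ed (nat_lit 9232) (nat_lit 2694) Col.d (nat_lit 3696) Dv.df))
(Tr.lf (Fc.ed (nat_lit 9233) (nat_lit 3696) Col.a (nat_lit 3532) (Dv.wd (nat_lit 8) [Mv.b (nat_lit 8923), Mv.b (nat_lit 7175), Mv.f (nat_lit 9232)]))))))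
(Tr.nd (nat_lit 9237) (Tr.nd (nat_lit 9235) (Tr.lf (Fc.ed (nat_lit 9234) (nat_lit 2645) Col.f (nat_lit 3697) Dv.df))
(Tr.nd (nat_lit 9236) (Tr.lf (Fc.ed (nat_lit 9235) (nat_lit 3697) Col.d (nat_lit 3623) (Dv.wd (nat_lit 21) [Mv.b (nat_lit 9092), Mv.f (nat_lit 7066), Mv.f (nat_lit 9234)])))
(Tr.lf (Fc.ed (nat_lit 9236) (nat_lit 1973) Col.f (nat_lit 3698) Dv.df))))
(Tr.nd (nat_lit 9238) (Tr.lf (Fc.ed (nat_lit 9237) (nat_lit 2732) Col.b (nat_lit 3699) Dv.df))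
(Tr.nd (nat_lit 9239) (Tr.lf (Fc.ed (nat_lit 9238) (nat_lit 3699) Col.d (nat_lit 3336) (Dv.wd (nat_lit 58) [Mv.f (nat_lit 9112), Mv.b (nat_lit 9226), Mv.f (nat_lit 9237)])))
(Tr.lf (Fc.ed (nat_lit 9239) (nat_lit 3699) Col.f (nat_lit 3644) (Dv.wd (nat_lit 20) [Mv.b (nat_lit 9134), Mv.b (nat_lit 8906), Mv.f (nat_lit 9237)])))))))))
(Tr.nd (nat_lit 9260) (Tr.nd (nat_lit 9250) (Tr.nd (nat_lit 9245) (Tr.nd (nat_lit 9242) (Tr.nd (nat_lit 9241) (Tr.lf (Fc.ed (nat_lit 9240) (nat_lit 3699) Col.a (nat_lit 3505) (Dv.wd (nat_lit 98) [Mv.b (nat_lit 8868), Mv.b (nat_lit 4525), Mv.f (nat_lit 4581), Mv.f (nat_lit 8817), Mv.f (nat_lit 9237)])))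
(Tr.lf (Fc.ed (nat_lit 9241) (nat_lit 3644) Col.d (nat_lit 3529) (Dv.wd (nat_lit 21) [Mv.f (nat_lit 8920), Mv.b (nat_lit 9238), Mv.f (nat_lit 9239)]))))
(Tr.nd (nat_lit 9243) (Tr.lf (Fc.ed (nat_lit 9242) (nat_lit 3397) Col.d (nat_lit 3560) (Dv.wd (nat_lit 28) [Mv.b (nat_lit 9135), Mv.f (nat_lit 9241), Mv.b (nat_lit 8919)])))
(Tr.nd (nat_lit 9244) (Tr.lf (Fc.ed (nat_lit 9243) (nat_lit 2593) Col.b (nat_lit 3397) (Dv.wd (nat_lit 126) [Mv.f (nat_lit 9242), Mv.b (nat_lit 8983), Mv.f (nat_lit 6951)])))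
(Tr.lf (Fc.ed (nat_lit 9244) (nat_lit 3417) Col.gi (nat_lit 3700) Dv.df)))))
(Tr.nd (nat_lit 9247) (Tr.nd (nat_lit 9246) (Tr.lf (Fc.ed (nat_lit 9245) (nat_lit 3700) Col.gi (nat_lit 3113) (Dv.wd (nat_lit 24) [Mv.b (nat_lit 8082), Mv.f (nat_lit 8695), Mv.f (nat_lit 9244)])))
(Tr.lf (Fc.ed (nat_lit 9246) (nat_lit 3616) Col.a (nat_lit 3701) Dv.df)))
(Tr.nd (nat_lit 9248) (Tr.lf (Fc.ed (nat_lit 9247) (nat_lit 3632) Col.g (nat_lit 3702) Dv.df))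
(Tr.nd (nat_lit 9249) (Tr.lf (Fc.ed (nat_lit 9248) (nat_lit 3702) Col.g (nat_lit 2155) (Dv.wd (nat_lit 9) [Mv.f (nat_lit 9075), Mv.f (nat_lit 9110), Mv.f (nat_lit 9247)])))
(Tr.lf (Fc.ed (nat_lit 9249) (nat_lit 3375) Col.f (nat_lit 3703) Dv.df))))))
(Tr.nd (nat_lit 9255) (Tr.nd (nat_lit 9252) (Tr.nd (nat_lit 9251) (Tr.lf (Fc.ed (nat_lit 9250) (nat_lit 3703) Col.a (nat_lit 3025) (Dv.wd (nat_lit 23) [Mv.b (nat_lit 7879), Mv.f (nat_lit 8611), Mv.f (nat_lit 9249)])))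
(Tr.lf (Fc.ed (nat_lit 9251) (nat_lit 1469) Col.b (nat_lit 3704) Dv.df)))
(Tr.nd (nat_lit 9253) (Tr.lf (Fc.ed (nat_lit 9252) (nat_lit 3704) Col.a (nat_lit 3156) (Dv.wd (nat_lit 98) [Mv.b (nat_lit 8334), Mv.f (nat_lit 8332), Mv.b (nat_lit 7438), Mv.b (nat_lit 6760), Mv.f (nat_lit 9251)])))
(Tr.nd (nat_lit 9254) (Tr.lf (Fc.ed (nat_lit 9253) (nat_lit 3704) Col.c (nat_lit 3484) (Dv.wd (nat_lit 93) [Mv.b (nat_lit 8959), Mv.b (nat_lit 8958), Mv.f (nat_lit 7897), Mv.f (nat_lit 7898), Mv.f (nat_lit 9251)])))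
(Tr.lf (Fc.ed (nat_lit 9254) (nat_lit 3349) Col.b (nat_lit 3705) Dv.df)))))
(Tr.nd (nat_lit 9257) (Tr.nd (nat_lit 9256) (Tr.lf (Fc.ed (nat_lit 9255) (nat_lit 3705) Col.c (nat_lit 3474) (Dv.wd (nat_lit 135) [Mv.b (nat_lit 8806), Mv.f (nat_lit 5812), Mv.f (nat_lit 3574), Mv.f (nat_lit 5160), Mv.f (nat_lit 5836), Mv.b (nat_lit 5863), Mv.f (nat_lit 5862), Mv.f (nat_lit 5818), Mv.f (nat_lit 8557), Mv.f (nat_lit 9254)])))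
(Tr.lf (Fc.ed (nat_lit 9256) (nat_lit 3692) Col.e (nat_lit 3706) Dv.df)))
(Tr.nd (nat_lit 9258) (Tr.lf (Fc.ed (nat_lit 9257) (nat_lit 3706) Col.d (nat_lit 2124) (Dv.wd (nat_lit 91) [Mv.b (nat_lit 5903), Mv.f (nat_lit 3236), Mv.b (nat_lit 2997), Mv.b (nat_lit 2433), Mv.f (nat_lit 2332), Mv.f (nat_lit 1242), Mv.f (nat_lit 2234), Mv.f (nat_lit 4819), Mv.b (nat_lit 9223), Mv.f (nat_lit 9256)])))
(Tr.nd (nat_lit 9259) (Tr.lf (Fc.ed (nat_lit 9258) (nat_lit 3569) Col.f (nat_lit 3707) Dv.df))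
(Tr.lf (Fc.ed (nat_lit 9259) (nat_lit 3707) Col.d (nat_lit 2002) (Dv.wd (nat_lit 21) [Mv.b (nat_lit 5907), Mv.f (nat_lit 8999), Mv.f (nat_lit 9258)]))))))))
(Tr.nd (nat_lit 9270) (Tr.nd (nat_lit 9265) (Tr.nd (nat_lit 9262) (Tr.nd (nat_lit 9261) (Tr.lf (Fc.ed (nat_lit 9260) (nat_lit 2118) Col.b (nat_lit 3708) Dv.df))
(Tr.lf (Fc.ed (nat_lit 9261) (nat_lit 3708) Col.d (nat_lit 2662) (Dv.wd (nat_lit 58) [Mv.f (nat_lit 7105), Mv.f (nat_lit 5891), Mv.f (nat_lit 9260)]))))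
(Tr.nd (nat_lit 9263) (Tr.lf (Fc.ed (nat_lit 9262) (nat_lit 3126) Col.f (nat_lit 3709) Dv.df))
(Tr.nd (nat_lit 9264) (Tr.lf (Fc.ed (nat_lit 9263) (nat_lit 3709) Col.a (nat_lit 2858) (Dv.wd (nat_lit 23) [Mv.f (nat_lit 7533), Mv.f (nat_lit 8106), Mv.f (nat_lit 9262)])))
(Tr.lf (Fc.ed (nat_lit 9264) (nat_lit 3444) Col.c (nat_lit 3710) Dv.df)))))
(Tr.nd (nat_lit 9267) (Tr.nd (nat_lit 9266) (Tr.lf (Fc.ed (nat_lit 9265) (nat_lit 3339) Col.f (nat_lit 3711) Dv.df))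
(Tr.lf (Fc.ed (nat_lit 9266) (nat_lit 2136) Col.gi (nat_lit 3712) Dv.df)))
(Tr.nd (nat_lit 9268) (Tr.lf (Fc.ed (nat_lit 9267) (nat_lit 3712) Col.gi (nat_lit 2044) (Dv.wd (nat_lit 24) [Mv.b (nat_lit 7046), Mv.f (nat_lit 7044), Mv.f (nat_lit 9266)])))
(Tr.nd (nat_lit 9269) (Tr.lf (Fc.ed (nat_lit 9268) (nat_lit 3055) Col.f (nat_lit 3713) Dv.df))
(Tr.lf (Fc.ed (nat_lit 9269) (nat_lit 3713) Col.a (nat_lit 3046) (Dv.wd (nat_lit 23) [Mv.b (nat_lit 7918), Mv.b (nat_lit 7956), Mv.f (nat_lit 9268)])))))))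
(Tr.nd (nat_lit 9275) (Tr.nd (nat_lit 9272) (Tr.nd (nat_lit 9271) (Tr.lf (Fc.ed (nat_lit 9270) (nat_lit 3701) Col.e (nat_lit 3713) (Dv.wd (nat_lit 72) [Mv.f (nat_lit 9269), Mv.f (nat_lit 9079), Mv.f (nat_lit 9246)])))
(Tr.lf (Fc.ed (nat_lit 9271) (nat_lit 2737) Col.d (nat_lit 3714) Dv.df)))
(Tr.nd (nat_lit 9273) (Tr.lf (Fc.ed (nat_lit 9272) (nat_lit 3714) Col.c (nat_lit 3696) (Dv.wd (nat_lit 150) [Mv.b (nat_lit 9232), Mv.f (nat_lit 7176), Mv.f (nat_lit 5038), Mv.b (nat_lit 4838), Mv.b (nat_lit 4831), Mv.f (nat_lit 2415), Mv.f (nat_lit 4110), Mv.f (nat_lit 7263), Mv.f (nat_lit 9271)])))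
(Tr.nd (nat_lit 9274) (Tr.lf (Fc.ed (nat_lit 9273) (nat_lit 3326) Col.a (nat_lit 3715) Dv.df))
(Tr.lf (Fc.ed (nat_lit 9274) (nat_lit 3715) Col.c (nat_lit 2092) (Dv.wd (nat_lit 33) [Mv.b (nat_lit 6565), Mv.f (nat_lit 8508), Mv.f (nat_lit 9273)]))))))
(Tr.nd (nat_lit 9278) (Tr.nd (nat_lit 9276) (Tr.lf (Fc.ed (nat_lit 9275) (nat_lit 2426) Col.gi (nat_lit 3716) Dv.df))
(Tr.nd (nat_lit 9277) (Tr.lf (Fc.ed (nat_lit 9276) (nat_lit 3716) Col.gi (nat_lit 2070) (Dv.wd (nat_lit 24) [Mv.b (nat_lit 6071), Mv.f (nat_lit 6560), Mv.f (nat_lit 9275)])))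
(Tr.lf (Fc.ed (nat_lit 9277) (nat_lit 3527) Col.b (nat_lit 3717) Dv.df))))
(Tr.nd (nat_lit 9279) (Tr.lf (Fc.ed (nat_lit 9278) (nat_lit 3717) Col.f (nat_lit 2590) (Dv.wd (nat_lit 20) [Mv.b (nat_lit 7010), Mv.f (nat_lit 8916), Mv.f (nat_lit 9277)])))
(Tr.nd (nat_lit 9280) (Tr.lf (Fc.ed (nat_lit 9279) (nat_lit 3717) Col.a (nat_lit 2374) (Dv.wd (nat_lit 98) [Mv.f (nat_lit 6461), Mv.b (nat_lit 3122), Mv.f (nat_lit 5660), Mv.b (nat_lit 8917), Mv.f (nat_lit 9277)])))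
(Tr.lf (Fc.ed (nat_lit 9280) (nat_lit 3417) Col.b (nat_lit 3718) Dv.df)))))))))
(Tr.nd (nat_lit 9322) (Tr.nd (nat_lit 9301) (Tr.nd (nat_lit 9291) (Tr.nd (nat_lit 9286) (Tr.nd (nat_lit 9283) (Tr.nd (nat_lit 9282) (Tr.lf (Fc.ed (nat_lit 9281) (nat_lit 1338) Col.c (nat_lit 3719) Dv.df))
(Tr.lf (Fc.ed (nat_lit 9282) (nat_lit 3719) Col.f (nat_lit 2625) (Dv.wd (nat_lit 26) [Mv.b (nat_lit 7015), Mv.f (nat_lit 4040), Mv.f (nat_lit 9281)]))))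
(Tr.nd (nat_lit 9284) (Tr.lf (Fc.ed (nat_lit 9283) (nat_lit 2172) Col.g (nat_lit 3720) Dv.df))
(Tr.nd (nat_lit 9285) (Tr.lf (Fc.ed (nat_lit 9284) (nat_lit 3720) Col.g (nat_lit 3111) (Dv.wd (nat_lit 9) [Mv.b (nat_lit 8079), Mv.f (nat_lit 6013), Mv.f (nat_lit 9283)])))
(Tr.lf (Fc.ed (nat_lit 9285) (nat_lit 3210) Col.a (nat_lit 3721) Dv.df)))))
(Tr.nd (nat_lit 9288) (Tr.nd (nat_lit 9287) (Tr.lf (Fc.ed (nat_lit 9286) (nat_lit 3721) Col.f (nat_lit 2600) (Dv.wd (nat_lit 10) [Mv.b (nat_lit 6966), Mv.f (nat_lit 8280), Mv.f (nat_lit 9285)])))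
(Tr.lf (Fc.ed (nat_lit 9287) (nat_lit 2081) Col.a (nat_lit 3722) Dv.df)))
(Tr.nd (nat_lit 9289) (Tr.lf (Fc.ed (nat_lit 9288) (nat_lit 3722) Col.d (nat_lit 3527) (Dv.wd (nat_lit 28) [Mv.f (nat_lit 8917), Mv.b (nat_lit 5748), Mv.f (nat_lit 9287)])))
(Tr.nd (nat_lit 9290) (Tr.lf (Fc.ed (nat_lit 9289) (nat_lit 3722) Col.f (nat_lit 3584) (Dv.wd (nat_lit 35) [Mv.b (nat_lit 9025), Mv.f (nat_lit 5746), Mv.f (nat_lit 9287)])))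
(Tr.lf (Fc.ed (nat_lit 9290) (nat_lit 3086) Col.e (nat_lit 3723) Dv.df))))))
(Tr.nd (nat_lit 9296) (Tr.nd (nat_lit 9293) (Tr.nd (nat_lit 9292) (Tr.lf (Fc.ed (nat_lit 9291) (nat_lit 3723) Col.a (nat_lit 2896) (Dv.wd (nat_lit 15) [Mv.b (nat_lit 7614), Mv.f (nat_lit 8020), Mv.f (nat_lit 9290)])))
(Tr.lf (Fc.ed (nat_lit 9292) (nat_lit 3548) Col.d (nat_lit 3724) Dv.df)))
(Tr.nd (nat_lit 9294) (Tr.lf (Fc.ed (nat_lit 9293) (nat_lit 3724) Col.g (nat_lit 2360) (Dv.wd (nat_lit 139) [Mv.b (nat_lit 6433), Mv.f (nat_lit 3746), Mv.f (nat_lit 2741), Mv.f (nat_lit 1854), Mv.f (nat_lit 2746), Mv.f (nat_lit 4705), Mv.f (nat_lit 8324), Mv.f (nat_lit 8957), Mv.f (nat_lit 9292)])))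
(Tr.nd (nat_lit 9295) (Tr.lf (Fc.ed (nat_lit 9294) (nat_lit 2153) Col.b (nat_lit 3725) Dv.df))
(Tr.lf (Fc.ed (nat_lit 9295) (nat_lit 2132) Col.a (nat_lit 3726) Dv.df)))))
(Tr.nd (nat_lit 9298) (Tr.nd (nat_lit 9297) (Tr.lf (Fc.ed (nat_lit 9296) (nat_lit 3726) Col.f (nat_lit 2443) (Dv.wd (nat_lit 35) [Mv.f (nat_lit 8851), Mv.f (nat_lit 8852), Mv.f (nat_lit 9295)])))
(Tr.lf (Fc.ed (nat_lit 9297) (nat_lit 2259) Col.b (nat_lit 3727) Dv.df)))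
(Tr.nd (nat_lit 9299) (Tr.lf (Fc.ed (nat_lit 9298) (nat_lit 3727) Col.d (nat_lit 3386) (Dv.wd (nat_lit 58) [Mv.f (nat_lit 8634), Mv.f (nat_lit 6196), Mv.f (nat_lit 9297)])))
(Tr.nd (nat_lit 9300) (Tr.lf (Fc.ed (nat_lit 9299) (nat_lit 3727) Col.f (nat_lit 3708) (Dv.wd (nat_lit 20) [Mv.b (nat_lit 9260), Mv.b (nat_lit 6198), Mv.f (nat_lit 9297)])))
(Tr.lf (Fc.ed (nat_lit 9300) (nat_lit 2394) Col.c (nat_lit 3728) Dv.df)))))))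
(Tr.nd (nat_lit 9311) (Tr.nd (nat_lit 9306) (Tr.nd (nat_lit 9303) (Tr.nd (nat_lit 9302) (Tr.lf (Fc.ed (nat_lit 9301) (nat_lit 3728) Col.a (nat_lit 3174) (Dv.wd (nat_lit 19) [Mv.b (nat_lit 8205), Mv.f (nat_lit 6494), Mv.f (nat_lit 9300)])))
(Tr.lf (Fc.ed (nat_lit 9302) (nat_lit 3728) Col.f (nat_lit 2522) (Dv.wd (nat_lit 26) [Mv.b (nat_lit 6788), Mv.b (nat_lit 6495), Mv.f (nat_lit 9300)]))))
(Tr.nd (nat_lit 9304) (Tr.lf (Fc.ed (nat_lit 9303) (nat_lit 3572) Col.b (nat_lit 3729) Dv.df))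
(Tr.nd (nat_lit 9305) (Tr.lf (Fc.ed (nat_lit 9304) (nat_lit 2684) Col.f (nat_lit 3730) Dv.df))
(Tr.lf (Fc.ed (nat_lit 9305) (nat_lit 3730) Col.a (nat_lit 3022) (Dv.wd (nat_lit 23) [Mv.f (nat_lit 7875), Mv.f (nat_lit 7152), Mv.f (nat_lit 9304)]))))))
(Tr.nd (nat_lit 9308) (Tr.nd (nat_lit 9307) (Tr.lf (Fc.ed (nat_lit 9306) (nat_lit 2461) Col.a (nat_lit 3731) Dv.df))
(Tr.lf (Fc.ed (nat_lit 9307) (nat_lit 3731) Col.d (nat_lit 3717) (Dv.wd (nat_lit 28) [Mv.f (nat_lit 9279), Mv.f (nat_lit 6639), Mv.f (nat_lit 9306)]))))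
(Tr.nd (nat_lit 9309) (Tr.lf (Fc.ed (nat_lit 9308) (nat_lit 3731) Col.b (nat_lit 3722) (Dv.wd (nat_lit 65) [Mv.b (nat_lit 9287), Mv.f (nat_lit 5747), Mv.f (nat_lit 3202), Mv.b (nat_lit 6640), Mv.f (nat_lit 9306)])))
(Tr.nd (nat_lit 9310) (Tr.lf (Fc.ed (nat_lit 9309) (nat_lit 2206) Col.a (nat_lit 3732) Dv.df))
(Tr.lf (Fc.ed (nat_lit 9310) (nat_lit 3680) Col.f (nat_lit 3733) Dv.df))))))
(Tr.nd (nat_lit 9316) (Tr.nd (nat_lit 9313) (Tr.nd (nat_lit 9312) (Tr.lf (Fc.ed (nat_lit 9311) (nat_lit 3733) Col.c (nat_lit 3510) (Dv.wd (nat_lit 34) [Mv.f (nat_lit 9231), Mv.b (nat_lit 9229), Mv.f (nat_lit 9310)])))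
(Tr.lf (Fc.ed (nat_lit 9312) (nat_lit 3733) Col.d (nat_lit 3593) (Dv.wd (nat_lit 21) [Mv.f (nat_lit 9090), Mv.f (nat_lit 9196), Mv.f (nat_lit 9310)]))))
(Tr.nd (nat_lit 9314) (Tr.lf (Fc.ed (nat_lit 9313) (nat_lit 2653) Col.f (nat_lit 3734) Dv.df))
(Tr.nd (nat_lit 9315) (Tr.lf (Fc.ed (nat_lit 9314) (nat_lit 3734) Col.a (nat_lit 2710) (Dv.wd (nat_lit 16) [Mv.b (nat_lit 7432), Mv.b (nat_lit 7431), Mv.f (nat_lit 9313)])))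
(Tr.lf (Fc.ed (nat_lit 9315) (nat_lit 2157) Col.c (nat_lit 3735) Dv.df)))))
(Tr.nd (nat_lit 9319) (Tr.nd (nat_lit 9317) (Tr.lf (Fc.ed (nat_lit 9316) (nat_lit 3735) Col.a (nat_lit 3185) (Dv.wd (nat_lit 19) [Mv.f (nat_lit 8231), Mv.b (nat_lit 6345), Mv.f (nat_lit 9315)])))
(Tr.nd (nat_lit 9318) (Tr.lf (Fc.ed (nat_lit 9317) (nat_lit 3235) Col.b (nat_lit 3736) Dv.df))
(Tr.lf (Fc.ed (nat_lit 9318) (nat_lit 3736) Col.f (nat_lit 3718) (Dv.wd (nat_lit 20) [Mv.b (nat_lit 9280), Mv.f (nat_lit 8697), Mv.f (nat_lit 9317)])))))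
(Tr.nd (nat_lit 9320) (Tr.lf (Fc.ed (nat_lit 9319) (nat_lit 3736) Col.g (nat_lit 2701) (Dv.wd (nat_lit 118) [Mv.f (nat_lit 7189), Mv.f (nat_lit 5580), Mv.b (nat_lit 2857), Mv.b (nat_lit 2324), Mv.b (nat_lit 1649), Mv.f (nat_lit 1924), Mv.f (nat_lit 1925), Mv.b (nat_lit 4352), Mv.b (nat_lit 8699), Mv.f (nat_lit 9317)])))
(Tr.nd (nat_lit 9321) (Tr.lf (Fc.ed (nat_lit 9320) (nat_lit 3567) Col.c (nat_lit 3737) Dv.df))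
(Tr.lf (Fc.ed (nat_lit 9321) (nat_lit 1926) Col.gi (nat_lit 3738) Dv.df))))))))
(Tr.nd (nat_lit 9342) (Tr.nd (nat_lit 9332) (Tr.nd (nat_lit 9327) (Tr.nd (nat_lit 9324) (Tr.nd (nat_lit 9323) (Tr.lf (Fc.ed (nat_lit 9322) (nat_lit 3738) Col.gi (nat_lit 2651) (Dv.wd (nat_lit 24) [Mv.f (nat_lit 9165), Mv.f (nat_lit 9166), Mv.f (nat_lit 9321)])))
(Tr.lf (Fc.ed (nat_lit 9323) (nat_lit 1991) Col.gi (nat_lit 3739) Dv.df)))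
(Tr.nd (nat_lit 9325) (Tr.lf (Fc.ed (nat_lit 9324) (nat_lit 2294) Col.e (nat_lit 3740) Dv.df))
(Tr.nd (nat_lit 9326) (Tr.lf (Fc.ed (nat_lit 9325) (nat_lit 2671) Col.c (nat_lit 3741) Dv.df))
(Tr.lf (Fc.ed (nat_lit 9326) (nat_lit 3741) Col.a (nat_lit 3255) (Dv.wd (nat_lit 19) [Mv.f (nat_lit 8366), Mv.b (nat_lit 7124), Mv.f (nat_lit 9325)]))))))
(Tr.nd (nat_lit 9329) (Tr.nd (nat_lit 9328) (Tr.lf (Fc.ed (nat_lit 9327) (nat_lit 3741) Col.f (nat_lit 2499) (Dv.wd (nat_lit 26) [Mv.f (nat_lit 6734), Mv.f (nat_lit 7123), Mv.f (nat_lit 9325)])))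
(Tr.lf (Fc.ed (nat_lit 9328) (nat_lit 2324) Col.d (nat_lit 3742) Dv.df)))
(Tr.nd (nat_lit 9330) (Tr.lf (Fc.ed (nat_lit 9329) (nat_lit 1835) Col.g (nat_lit 3743) Dv.df))
(Tr.nd (nat_lit 9331) (Tr.lf (Fc.ed (nat_lit 9330) (nat_lit 3743) Col.g (nat_lit 2196) (Dv.wd (nat_lit 9) [Mv.f (nat_lit 8344), Mv.f (nat_lit 8343), Mv.f (nat_lit 9329)])))
(Tr.lf (Fc.ed (nat_lit 9331) (nat_lit 1767) Col.gi (nat_lit 3744) Dv.df))))))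
(Tr.nd (nat_lit 9337) (Tr.nd (nat_lit 9334) (Tr.nd (nat_lit 9333) (Tr.lf (Fc.ed (nat_lit 9332) (nat_lit 1845) Col.g (nat_lit 3745) Dv.df))
(Tr.lf (Fc.ed (nat_lit 9333) (nat_lit 3745) Col.g (nat_lit 2003) (Dv.wd (nat_lit 9) [Mv.b (nat_lit 5591), Mv.b (nat_lit 5261), Mv.f (nat_lit 9332)]))))
(Tr.nd (nat_lit 9335) (Tr.lf (Fc.ed (nat_lit 9334) (nat_lit 2500) Col.a (nat_lit 3746) Dv.df))
(Tr.nd (nat_lit 9336) (Tr.lf (Fc.ed (nat_lit 9335) (nat_lit 3666) Col.gi (nat_lit 3747) Dv.df))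
(Tr.lf (Fc.ed (nat_lit 9336) (nat_lit 3554) Col.a (nat_lit 3748) Dv.df)))))
(Tr.nd (nat_lit 9339) (Tr.nd (nat_lit 9338) (Tr.lf (Fc.ed (nat_lit 9337) (nat_lit 1702) Col.c (nat_lit 3749) Dv.df))
(Tr.lf (Fc.ed (nat_lit 9338) (nat_lit 3749) Col.e (nat_lit 3288) (Dv.wd (nat_lit 25) [Mv.b (nat_lit 8429), Mv.b (nat_lit 4946), Mv.f (nat_lit 9337)]))))
(Tr.nd (nat_lit 9340) (Tr.lf (Fc.ed (nat_lit 9339) (nat_lit 2039) Col.gi (nat_lit 3750) Dv.df))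
(Tr.nd (nat_lit 9341) (Tr.lf (Fc.ed (nat_lit 9340) (nat_lit 2518) Col.gi (nat_lit 3751) Dv.df))
(Tr.lf (Fc.ed (nat_lit 9341) (nat_lit 3751) Col.gi (nat_lit 2253) (Dv.wd (nat_lit 24) [Mv.f (nat_lit 7344), Mv.f (nat_lit 7345), Mv.f (nat_lit 9340)]))))))))
(Tr.nd (nat_lit 9352) (Tr.nd (nat_lit 9347) (Tr.nd (nat_lit 9344) (Tr.nd (nat_lit 9343) (Tr.lf (Fc.ed (nat_lit 9342) (nat_lit 3480) Col.b (nat_lit 3752) Dv.df))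
(Tr.lf (Fc.ed (nat_lit 9343) (nat_lit 3752) Col.g (nat_lit 2376) (Dv.wd (nat_lit 122) [Mv.b (nat_lit 6464), Mv.f (nat_lit 8721), Mv.f (nat_lit 8829), Mv.b (nat_lit 9253), Mv.b (nat_lit 9251), Mv.b (nat_lit 4431), Mv.f (nat_lit 2013), Mv.f (nat_lit 3283), Mv.b (nat_lit 8822), Mv.f (nat_lit 9342)]))))
(Tr.nd (nat_lit 9345) (Tr.lf (Fc.ed (nat_lit 9344) (nat_lit 2776) Col.g (nat_lit 3753) Dv.df))
(Tr.nd (nat_lit 9346) (Tr.lf (Fc.ed (nat_lit 9345) (nat_lit 3753) Col.g (nat_lit 2062) (Dv.wd (nat_lit 9) [Mv.f (nat_lit 7349), Mv.f (nat_lit 7350), Mv.f (nat_lit 9344)])))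
(Tr.lf (Fc.ed (nat_lit 9346) (nat_lit 2017) Col.b (nat_lit 3754) Dv.df)))))
(Tr.nd (nat_lit 9349) (Tr.nd (nat_lit 9348) (Tr.lf (Fc.ed (nat_lit 9347) (nat_lit 3440) Col.gi (nat_lit 3755) Dv.df))
(Tr.lf (Fc.ed (nat_lit 9348) (nat_lit 3755) Col.gi (nat_lit 1877) (Dv.wd (nat_lit 24) [Mv.f (nat_lit 5328), Mv.f (nat_lit 8746), Mv.f (nat_lit 9347)]))))
(Tr.nd (nat_lit 9350) (Tr.lf (Fc.ed (nat_lit 9349) (nat_lit 1064) Col.c (nat_lit 3756) Dv.df))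
(Tr.nd (nat_lit 9351) (Tr.lf (Fc.ed (nat_lit 9350) (nat_lit 3480) Col.d (nat_lit 3757) Dv.df))
(Tr.lf (Fc.ed (nat_lit 9351) (nat_lit 3316) Col.b (nat_lit 3758) Dv.df))))))
(Tr.nd (nat_lit 9357) (Tr.nd (nat_lit 9354) (Tr.nd (nat_lit 9353) (Tr.lf (Fc.ed (nat_lit 9352) (nat_lit 3758) Col.e (nat_lit 3196) (Dv.wd (nat_lit 52) [Mv.b (nat_lit 8250), Mv.f (nat_lit 8483), Mv.f (nat_lit 9351)])))
(Tr.lf (Fc.ed (nat_lit 9353) (nat_lit 2128) Col.g (nat_lit 3759) Dv.df)))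
(Tr.nd (nat_lit 9355) (Tr.lf (Fc.ed (nat_lit 9354) (nat_lit 2424) Col.d (nat_lit 3760) Dv.df))
(Tr.nd (nat_lit 9356) (Tr.lf (Fc.ed (nat_lit 9355) (nat_lit 3760) Col.b (nat_lit 1797) (Dv.wd (nat_lit 37) [Mv.b (nat_lit 5164), Mv.f (nat_lit 6556), Mv.f (nat_lit 9354)])))
(Tr.lf (Fc.ed (nat_lit 9356) (nat_lit 3760) Col.f (nat_lit 3506) (Dv.wd (nat_lit 11) [Mv.b (nat_lit 8869), Mv.b (nat_lit 6557), Mv.f (nat_lit 9354)]))))))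
(Tr.nd (nat_lit 9360) (Tr.nd (nat_lit 9358) (Tr.lf (Fc.ed (nat_lit 9357) (nat_lit 1618) Col.gi (nat_lit 3761) Dv.df))
(Tr.nd (nat_lit 9359) (Tr.lf (Fc.ed (nat_lit 9358) (nat_lit 1868) Col.g (nat_lit 3762) Dv.df))
(Tr.lf (Fc.ed (nat_lit 9359) (nat_lit 3300) Col.f (nat_lit 3763) Dv.df))))
(Tr.nd (nat_lit 9361) (Tr.lf (Fc.ed (nat_lit 9360) (nat_lit 2204) Col.f (nat_lit 3764) Dv.df))
(Tr.nd (nat_lit 9362) (Tr.lf (Fc.ed (nat_lit 9361) (nat_lit 3764) Col.d (nat_lit 3245) (Dv.wd (nat_lit 21) [Mv.f (nat_lit 8343), Mv.f (nat_lit 6087), Mv.f (nat_lit 9360)])))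
(Tr.lf (Fc.ed (nat_lit 9362) (nat_lit 3415) Col.f (nat_lit 3765) Dv.df))))))))))
(Tr.nd (nat_lit 9445) (Tr.nd (nat_lit 9404) (Tr.nd (nat_lit 9383) (Tr.nd (nat_lit 9373) (Tr.nd (nat_lit 9368) (Tr.nd (nat_lit 9365) (Tr.nd (nat_lit 9364) (Tr.lf (Fc.ed (nat_lit 9363) (nat_lit 3765) Col.a (nat_lit 2773) (Dv.wd (nat_lit 23) [Mv.f (nat_lit 7343), Mv.f (nat_lit 8691), Mv.f (nat_lit 9362)])))
(Tr.lf (Fc.ed (nat_lit 9364) (nat_lit 3372) Col.f (nat_lit 3766) Dv.df)))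
(Tr.nd (nat_lit 9366) (Tr.lf (Fc.ed (nat_lit 9365) (nat_lit 3766) Col.a (nat_lit 3391) (Dv.wd (nat_lit 16) [Mv.b (nat_lit 8642), Mv.b (nat_lit 8605), Mv.f (nat_lit 9364)])))
(Tr.nd (nat_lit 9367) (Tr.lf (Fc.ed (nat_lit 9366) (nat_lit 3766) Col.c (nat_lit 3318) (Dv.wd (nat_lit 34) [Mv.f (nat_lit 8490), Mv.b (nat_lit 8606), Mv.f (nat_lit 9364)])))
(Tr.lf (Fc.ed (nat_lit 9367) (nat_lit 3583) Col.f (nat_lit 3767) Dv.df)))))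
(Tr.nd (nat_lit 9370) (Tr.nd (nat_lit 9369) (Tr.lf (Fc.ed (nat_lit 9368) (nat_lit 3767) Col.a (nat_lit 2341) (Dv.wd (nat_lit 23) [Mv.b (nat_lit 6390), Mv.f (nat_lit 9023), Mv.f (nat_lit 9367)])))
(Tr.lf (Fc.ed (nat_lit 9369) (nat_lit 3399) Col.f (nat_lit 3768) Dv.df)))
(Tr.nd (nat_lit 9371) (Tr.lf (Fc.ed (nat_lit 9370) (nat_lit 3768) Col.a (nat_lit 2934) (Dv.wd (nat_lit 16) [Mv.b (nat_lit 7693), Mv.f (nat_lit 8660), Mv.f (nat_lit 9369)])))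
(Tr.nd (nat_lit 9372) (Tr.lf (Fc.ed (nat_lit 9371) (nat_lit 3252) Col.a (nat_lit 3769) Dv.df))
(Tr.lf (Fc.ed (nat_lit 9372) (nat_lit 3769) Col.f (nat_lit 3580) (Dv.wd (nat_lit 10) [Mv.f (nat_lit 9018), Mv.f (nat_lit 8358), Mv.f (nat_lit 9371)])))))))
(Tr.nd (nat_lit 9378) (Tr.nd (nat_lit 9375) (Tr.nd (nat_lit 9374) (Tr.lf (Fc.ed (nat_lit 9373) (nat_lit 1913) Col.gi (nat_lit 3770) Dv.df))
(Tr.lf (Fc.ed (nat_lit 9374) (nat_lit 3770) Col.gi (nat_lit 1938) (Dv.wd (nat_lit 24) [Mv.f (nat_lit 5484), Mv.f (nat_lit 5486), Mv.f (nat_lit 9373)]))))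
(Tr.nd (nat_lit 9376) (Tr.lf (Fc.ed (nat_lit 9375) (nat_lit 2297) Col.a (nat_lit 3771) Dv.df))
(Tr.nd (nat_lit 9377) (Tr.lf (Fc.ed (nat_lit 9376) (nat_lit 3771) Col.c (nat_lit 3746) (Dv.wd (nat_lit 33) [Mv.b (nat_lit 9334), Mv.b (nat_lit 6735), Mv.f (nat_lit 9375)])))
(Tr.lf (Fc.ed (nat_lit 9377) (nat_lit 3771) Col.b (nat_lit 3568) (Dv.wd (nat_lit 65) [Mv.f (nat_lit 8998), Mv.f (nat_lit 5887), Mv.f (nat_lit 3790), Mv.b (nat_lit 6285), Mv.f (nat_lit 9375)]))))))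
(Tr.nd (nat_lit 9380) (Tr.nd (nat_lit 9379) (Tr.lf (Fc.ed (nat_lit 9378) (nat_lit 3662) Col.f (nat_lit 3772) Dv.df))
(Tr.lf (Fc.ed (nat_lit 9379) (nat_lit 3772) Col.a (nat_lit 2238) (Dv.wd (nat_lit 16) [Mv.b (nat_lit 7963), Mv.f (nat_lit 9163), Mv.f (nat_lit 9378)]))))
(Tr.nd (nat_lit 9381) (Tr.lf (Fc.ed (nat_lit 9380) (nat_lit 3772) Col.c (nat_lit 3084) (Dv.wd (nat_lit 34) [Mv.f (nat_lit 8017), Mv.b (nat_lit 9164), Mv.f (nat_lit 9378)])))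
(Tr.nd (nat_lit 9382) (Tr.lf (Fc.ed (nat_lit 9381) (nat_lit 1923) Col.g (nat_lit 3773) Dv.df))
(Tr.lf (Fc.ed (nat_lit 9382) (nat_lit 1872) Col.f (nat_lit 3774) Dv.df)))))))
(Tr.nd (nat_lit 9393) (Tr.nd (nat_lit 9388) (Tr.nd (nat_lit 9385) (Tr.nd (nat_lit 9384) (Tr.lf (Fc.ed (nat_lit 9383) (nat_lit 3774) Col.a (nat_lit 2343) (Dv.wd (nat_lit 16) [Mv.f (nat_lit 7791), Mv.f (nat_lit 7792), Mv.f (nat_lit 9382)])))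
(Tr.lf (Fc.ed (nat_lit 9384) (nat_lit 3657) Col.g (nat_lit 3775) Dv.df)))
(Tr.nd (nat_lit 9386) (Tr.lf (Fc.ed (nat_lit 9385) (nat_lit 3340) Col.f (nat_lit 3776) Dv.df))
(Tr.nd (nat_lit 9387) (Tr.lf (Fc.ed (nat_lit 9386) (nat_lit 3776) Col.a (nat_lit 2514) (Dv.wd (nat_lit 16) [Mv.f (nat_lit 6769), Mv.b (nat_lit 8539), Mv.f (nat_lit 9385)])))
(Tr.lf (Fc.ed (nat_lit 9387) (nat_lit 1907) Col.g (nat_lit 3777) Dv.df)))))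
(Tr.nd (nat_lit 9390) (Tr.nd (nat_lit 9389) (Tr.lf (Fc.ed (nat_lit 9388) (nat_lit 1993) Col.gi (nat_lit 3778) Dv.df))
(Tr.lf (Fc.ed (nat_lit 9389) (nat_lit 3778) Col.gi (nat_lit 2290) (Dv.wd (nat_lit 24) [Mv.f (nat_lit 6270), Mv.f (nat_lit 5996), Mv.f (nat_lit 9388)]))))
(Tr.nd (nat_lit 9391) (Tr.lf (Fc.ed (nat_lit 9390) (nat_lit 3250) Col.a (nat_lit 3779) Dv.df))
(Tr.nd (nat_lit 9392) (Tr.lf (Fc.ed (nat_lit 9391) (nat_lit 3779) Col.f (nat_lit 2183) (Dv.wd (nat_lit 35) [Mv.f (nat_lit 8382), Mv.f (nat_lit 8383), Mv.f (nat_lit 9390)])))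
(Tr.lf (Fc.ed (nat_lit 9392) (nat_lit 1897) Col.c (nat_lit 3780) Dv.df))))))
(Tr.nd (nat_lit 9398) (Tr.nd (nat_lit 9395) (Tr.nd (nat_lit 9394) (Tr.lf (Fc.ed (nat_lit 9393) (nat_lit 3780) Col.a (nat_lit 2894) (Dv.wd (nat_lit 19) [Mv.b (nat_lit 7611), Mv.b (nat_lit 5371), Mv.f (nat_lit 9392)])))
(Tr.lf (Fc.ed (nat_lit 9394) (nat_lit 2003) Col.g (nat_lit 3781) Dv.df)))
(Tr.nd (nat_lit 9396) (Tr.lf (Fc.ed (nat_lit 9395) (nat_lit 2886) Col.a (nat_lit 3782) Dv.df))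
(Tr.nd (nat_lit 9397) (Tr.lf (Fc.ed (nat_lit 9396) (nat_lit 2865) Col.f (nat_lit 3783) Dv.df))
(Tr.lf (Fc.ed (nat_lit 9397) (nat_lit 3783) Col.a (nat_lit 2109) (Dv.wd (nat_lit 23) [Mv.b (nat_lit 5802), Mv.f (nat_lit 7545), Mv.f (nat_lit 9396)]))))))
(Tr.nd (nat_lit 9401) (Tr.nd (nat_lit 9399) (Tr.lf (Fc.ed (nat_lit 9398) (nat_lit 2766) Col.b (nat_lit 3784) Dv.df))
(Tr.nd (nat_lit 9400) (Tr.lf (Fc.ed (nat_lit 9399) (nat_lit 3784) Col.e (nat_lit 2537) (Dv.wd (nat_lit 52) [Mv.f (nat_lit 6826), Mv.b (nat_lit 7329), Mv.f (nat_lit 9398)])))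
(Tr.lf (Fc.ed (nat_lit 9400) (nat_lit 3784) Col.c (nat_lit 3131) (Dv.wd (nat_lit 93) [Mv.b (nat_lit 8123), Mv.f (nat_lit 5639), Mv.b (nat_lit 4917), Mv.b (nat_lit 7328), Mv.f (nat_lit 9398)])))))
(Tr.nd (nat_lit 9402) (Tr.lf (Fc.ed (nat_lit 9401) (nat_lit 3657) Col.e (nat_lit 3785) Dv.df))
(Tr.nd (nat_lit 9403) (Tr.lf (Fc.ed (nat_lit 9402) (nat_lit 3785) Col.a (nat_lit 2303) (Dv.wd (nat_lit 15) [Mv.f (nat_lit 6298), Mv.b (nat_lit 9157), Mv.f (nat_lit 9401)])))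
(Tr.lf (Fc.ed (nat_lit 9403) (nat_lit 3183) Col.gi (nat_lit 3786) Dv.df))))))))
(Tr.nd (nat_lit 9424) (Tr.nd (nat_lit 9414) (Tr.nd (nat_lit 9409) (Tr.nd (nat_lit 9406) (Tr.nd (nat_lit 9405) (Tr.lf (Fc.ed (nat_lit 9404) (nat_lit 3786) Col.b (nat_lit 3662) (Dv.wd (nat_lit 154) [Mv.f (nat_lit 9164), Mv.f (nat_lit 5292), Mv.f (nat_lit 2210), Mv.b (nat_lit 1880), Mv.b (nat_lit 1538), Mv.f (nat_lit 2966), Mv.f (nat_lit 2967), Mv.f (nat_lit 7011), Mv.b (nat_lit 8224), Mv.f (nat_lit 9403)])))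
(Tr.lf (Fc.ed (nat_lit 9405) (nat_lit 3737) Col.a (nat_lit 3787) Dv.df)))
(Tr.nd (nat_lit 9407) (Tr.lf (Fc.ed (nat_lit 9406) (nat_lit 3787) Col.c (nat_lit 2187) (Dv.wd (nat_lit 33) [Mv.b (nat_lit 8996), Mv.f (nat_lit 9320), Mv.f (nat_lit 9405)])))
(Tr.nd (nat_lit 9408) (Tr.lf (Fc.ed (nat_lit 9407) (nat_lit 2633) Col.c (nat_lit 3788) Dv.df))
(Tr.lf (Fc.ed (nat_lit 9408) (nat_lit 3788) Col.a (nat_lit 3020) (Dv.wd (nat_lit 19) [Mv.b (nat_lit 7871), Mv.b (nat_lit 7494), Mv.f (nat_lit 9407)]))))))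
(Tr.nd (nat_lit 9411) (Tr.nd (nat_lit 9410) (Tr.lf (Fc.ed (nat_lit 9409) (nat_lit 2050) Col.g (nat_lit 3789) Dv.df))
(Tr.lf (Fc.ed (nat_lit 9410) (nat_lit 3789) Col.g (nat_lit 2510) (Dv.wd (nat_lit 9) [Mv.f (nat_lit 6758), Mv.f (nat_lit 5911), Mv.f (nat_lit 9409)]))))
(Tr.nd (nat_lit 9412) (Tr.lf (Fc.ed (nat_lit 9411) (nat_lit 3254) Col.g (nat_lit 3790) Dv.df))
(Tr.nd (nat_lit 9413) (Tr.lf (Fc.ed (nat_lit 9412) (nat_lit 3790) Col.g (nat_lit 2276) (Dv.wd (nat_lit 9) [Mv.b (nat_lit 7371), Mv.f (nat_lit 8363), Mv.f (nat_lit 9411)])))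
(Tr.lf (Fc.ed (nat_lit 9413) (nat_lit 2494) Col.g (nat_lit 3791) Dv.df))))))
(Tr.nd (nat_lit 9419) (Tr.nd (nat_lit 9416) (Tr.nd (nat_lit 9415) (Tr.lf (Fc.ed (nat_lit 9414) (nat_lit 3791) Col.g (nat_lit 1308) (Dv.wd (nat_lit 9) [Mv.f (nat_lit 6489), Mv.b (nat_lit 6724), Mv.f (nat_lit 9413)])))
(Tr.lf (Fc.ed (nat_lit 9415) (nat_lit 3250) Col.c (nat_lit 3792) Dv.df)))
(Tr.nd (nat_lit 9417) (Tr.lf (Fc.ed (nat_lit 9416) (nat_lit 1963) Col.c (nat_lit 3793) Dv.df))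
(Tr.nd (nat_lit 9418) (Tr.lf (Fc.ed (nat_lit 9417) (nat_lit 3793) Col.b (nat_lit 3548) (Dv.wd (nat_lit 165) [Mv.b (nat_lit 8957), Mv.b (nat_lit 8324), Mv.b (nat_lit 4705), Mv.b (nat_lit 2746), Mv.f (nat_lit 2745), Mv.b (nat_lit 464), Mv.b (nat_lit 2668), Mv.f (nat_lit 3277), Mv.b (nat_lit 5503), Mv.f (nat_lit 9416)])))
(Tr.lf (Fc.ed (nat_lit 9418) (nat_lit 3684) Col.d (nat_lit 3794) Dv.df)))))
(Tr.nd (nat_lit 9421) (Tr.nd (nat_lit 9420) (Tr.lf (Fc.ed (nat_lit 9419) (nat_lit 3794) Col.a (nat_lit 2269) (Dv.wd (nat_lit 8) [Mv.b (nat_lit 6221), Mv.f (nat_lit 9204), Mv.f (nat_lit 9418)])))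
(Tr.lf (Fc.ed (nat_lit 9420) (nat_lit 3070) Col.a (nat_lit 3795) Dv.df)))
(Tr.nd (nat_lit 9422) (Tr.lf (Fc.ed (nat_lit 9421) (nat_lit 1733) Col.c (nat_lit 3796) Dv.df))
(Tr.nd (nat_lit 9423) (Tr.lf (Fc.ed (nat_lit 9422) (nat_lit 3796) Col.a (nat_lit 2392) (Dv.wd (nat_lit 19) [Mv.b (nat_lit 6491), Mv.f (nat_lit 5025), Mv.f (nat_lit 9421)])))
(Tr.lf (Fc.ed (nat_lit 9423) (nat_lit 2754) Col.b (nat_lit 3797) Dv.df)))))))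
(Tr.nd (nat_lit 9434) (Tr.nd (nat_lit 9429) (Tr.nd (nat_lit 9426) (Tr.nd (nat_lit 9425) (Tr.lf (Fc.ed (nat_lit 9424) (nat_lit 3797) Col.f (nat_lit 3595) (Dv.wd (nat_lit 20) [Mv.b (nat_lit 9046), Mv.b (nat_lit 7304), Mv.f (nat_lit 9423)])))
(Tr.lf (Fc.ed (nat_lit 9425) (nat_lit 3037) Col.d (nat_lit 3798) Dv.df)))
(Tr.nd (nat_lit 9427) (Tr.lf (Fc.ed (nat_lit 9426) (nat_lit 2224) Col.c (nat_lit 3799) Dv.df))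
(Tr.nd (nat_lit 9428) (Tr.lf (Fc.ed (nat_lit 9427) (nat_lit 3799) Col.a (nat_lit 3146) (Dv.wd (nat_lit 19) [Mv.b (nat_lit 8149), Mv.f (nat_lit 6122), Mv.f (nat_lit 9426)])))
(Tr.lf (Fc.ed (nat_lit 9428) (nat_lit 2362) Col.a (nat_lit 3800) Dv.df)))))
(Tr.nd (nat_lit 9431) (Tr.nd (nat_lit 9430) (Tr.lf (Fc.ed (nat_lit 9429) (nat_lit 3800) Col.f (nat_lit 3691) (Dv.wd (nat_lit 10) [Mv.f (nat_lit 9221), Mv.f (nat_lit 6436), Mv.f (nat_lit 9428)])))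
(Tr.lf (Fc.ed (nat_lit 9430) (nat_lit 2011) Col.d (nat_lit 3801) Dv.df)))
(Tr.nd (nat_lit 9432) (Tr.lf (Fc.ed (nat_lit 9431) (nat_lit 1285) Col.e (nat_lit 3802) Dv.df))
(Tr.nd (nat_lit 9433) (Tr.lf (Fc.ed (nat_lit 9432) (nat_lit 3442) Col.a (nat_lit 3803) Dv.df))
(Tr.lf (Fc.ed (nat_lit 9433) (nat_lit 3803) Col.c (nat_lit 1526) (Dv.wd (nat_lit 33) [Mv.f (nat_lit 5893), Mv.f (nat_lit 8751), Mv.f (nat_lit 9432)])))))))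
(Tr.nd (nat_lit 9439) (Tr.nd (nat_lit 9436) (Tr.nd (nat_lit 9435) (Tr.lf (Fc.ed (nat_lit 9434) (nat_lit 2920) Col.f (nat_lit 3804) Dv.df))
(Tr.lf (Fc.ed (nat_lit 9435) (nat_lit 3804) Col.a (nat_lit 3456) (Dv.wd (nat_lit 23) [Mv.f (nat_lit 8774), Mv.f (nat_lit 7667), Mv.f (nat_lit 9434)]))))
(Tr.nd (nat_lit 9437) (Tr.lf (Fc.ed (nat_lit 9436) (nat_lit 2169) Col.a (nat_lit 3805) Dv.df))
(Tr.nd (nat_lit 9438) (Tr.lf (Fc.ed (nat_lit 9437) (nat_lit 3805) Col.d (nat_lit 3805) (Dv.wd (nat_lit 28) [Mv.b (nat_lit 9436), Mv.f (nat_lit 6008), Mv.f (nat_lit 9436)])))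
(Tr.lf (Fc.ed (nat_lit 9438) (nat_lit 3805) Col.f (nat_lit 2150) (Dv.wd (nat_lit 35) [Mv.b (nat_lit 5972), Mv.f (nat_lit 6007), Mv.f (nat_lit 9436)]))))))
(Tr.nd (nat_lit 9442) (Tr.nd (nat_lit 9440) (Tr.lf (Fc.ed (nat_lit 9439) (nat_lit 999) Col.e (nat_lit 3806) Dv.df))
(Tr.nd (nat_lit 9441) (Tr.lf (Fc.ed (nat_lit 9440) (nat_lit 1836) Col.b (nat_lit 3807) Dv.df))
(Tr.lf (Fc.ed (nat_lit 9441) (nat_lit 3807) Col.d (nat_lit 2500) (Dv.wd (nat_lit 58) [Mv.f (nat_lit 6737), Mv.b (nat_lit 5242), Mv.f (nat_lit 9440)])))))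
(Tr.nd (nat_lit 9443) (Tr.lf (Fc.ed (nat_lit 9442) (nat_lit 3807) Col.f (nat_lit 3209) (Dv.wd (nat_lit 20) [Mv.b (nat_lit 8278), Mv.f (nat_lit 5241), Mv.f (nat_lit 9440)])))
(Tr.nd (nat_lit 9444) (Tr.lf (Fc.ed (nat_lit 9443) (nat_lit 3714) Col.f (nat_lit 3808) Dv.df))
(Tr.lf (Fc.ed (nat_lit 9444) (nat_lit 3808) Col.d (nat_lit 2610) (Dv.wd (nat_lit 21) [Mv.b (nat_lit 7264), Mv.f (nat_lit 9271), Mv.f (nat_lit 9443)]))))))))))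
(Tr.nd (nat_lit 9486) (Tr.nd (nat_lit 9465) (Tr.nd (nat_lit 9455) (Tr.nd (nat_lit 9450) (Tr.nd (nat_lit 9447) (Tr.nd (nat_lit 9446) (Tr.lf (Fc.ed (nat_lit 9445) (nat_lit 2284) Col.f (nat_lit 3809) Dv.df))
(Tr.lf (Fc.ed (nat_lit 9446) (nat_lit 2378) Col.d (nat_lit 3810) Dv.df)))
(Tr.nd (nat_lit 9448) (Tr.lf (Fc.ed (nat_lit 9447) (nat_lit 2249) Col.a (nat_lit 3811) Dv.df))
(Tr.nd (nat_lit 9449) (Tr.lf (Fc.ed (nat_lit 9448) (nat_lit 3811) Col.c (nat_lit 2622) (Dv.wd (nat_lit 33) [Mv.b (nat_lit 7009), Mv.f (nat_lit 6169), Mv.f (nat_lit 9447)])))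
(Tr.lf (Fc.ed (nat_lit 9449) (nat_lit 2499) Col.gi (nat_lit 3812) Dv.df)))))
(Tr.nd (nat_lit 9452) (Tr.nd (nat_lit 9451) (Tr.lf (Fc.ed (nat_lit 9450) (nat_lit 3812) Col.gi (nat_lit 3255) (Dv.wd (nat_lit 24) [Mv.b (nat_lit 8365), Mv.f (nat_lit 6733), Mv.f (nat_lit 9449)])))
(Tr.lf (Fc.ed (nat_lit 9451) (nat_lit 3257) Col.a (nat_lit 3813) Dv.df)))
(Tr.nd (nat_lit 9453) (Tr.lf (Fc.ed (nat_lit 9452) (nat_lit 3813) Col.f (nat_lit 2301) (Dv.wd (nat_lit 10) [Mv.b (nat_lit 6294), Mv.b (nat_lit 8370), Mv.f (nat_lit 9451)])))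
(Tr.nd (nat_lit 9454) (Tr.lf (Fc.ed (nat_lit 9453) (nat_lit 3587) Col.f (nat_lit 3814) Dv.df))
(Tr.lf (Fc.ed (nat_lit 9454) (nat_lit 3814) Col.c (nat_lit 1788) (Dv.wd (nat_lit 34) [Mv.f (nat_lit 8294), Mv.f (nat_lit 9031), Mv.f (nat_lit 9453)])))))))
(Tr.nd (nat_lit 9460) (Tr.nd (nat_lit 9457) (Tr.nd (nat_lit 9456) (Tr.lf (Fc.ed (nat_lit 9455) (nat_lit 3814) Col.g (nat_lit 3284) (Dv.wd (nat_lit 17) [Mv.b (nat_lit 8421), Mv.b (nat_lit 9032), Mv.f (nat_lit 9453)])))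
(Tr.lf (Fc.ed (nat_lit 9456) (nat_lit 3757) Col.b (nat_lit 3815) Dv.df)))
(Tr.nd (nat_lit 9458) (Tr.lf (Fc.ed (nat_lit 9457) (nat_lit 3815) Col.d (nat_lit 3752) (Dv.wd (nat_lit 58) [Mv.b (nat_lit 9342), Mv.f (nat_lit 9350), Mv.f (nat_lit 9456)])))
(Tr.nd (nat_lit 9459) (Tr.lf (Fc.ed (nat_lit 9458) (nat_lit 3459) Col.d (nat_lit 3816) Dv.df))
(Tr.lf (Fc.ed (nat_lit 9459) (nat_lit 3808) Col.c (nat_lit 3817) Dv.df)))))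
(Tr.nd (nat_lit 9462) (Tr.nd (nat_lit 9461) (Tr.lf (Fc.ed (nat_lit 9460) (nat_lit 3817) Col.f (nat_lit 3696) (Dv.wd (nat_lit 26) [Mv.b (nat_lit 9272), Mv.f (nat_lit 9443), Mv.f (nat_lit 9459)])))
(Tr.lf (Fc.ed (nat_lit 9461) (nat_lit 3817) Col.d (nat_lit 2106) (Dv.wd (nat_lit 95) [Mv.b (nat_lit 5797), Mv.b (nat_lit 4832), Mv.f (nat_lit 4838), Mv.f (nat_lit 4839), Mv.f (nat_lit 2166), Mv.b (nat_lit 3835), Mv.f (nat_lit 6989), Mv.b (nat_lit 9444), Mv.f (nat_lit 9459)]))))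
(Tr.nd (nat_lit 9463) (Tr.lf (Fc.ed (nat_lit 9462) (nat_lit 2134) Col.d (nat_lit 3818) Dv.df))
(Tr.nd (nat_lit 9464) (Tr.lf (Fc.ed (nat_lit 9463) (nat_lit 1742) Col.b (nat_lit 3819) Dv.df))
(Tr.lf (Fc.ed (nat_lit 9464) (nat_lit 3819) Col.a (nat_lit 3672) (Dv.wd (nat_lit 98) [Mv.b (nat_lit 9182), Mv.f (nat_lit 9111), Mv.f (nat_lit 9093), Mv.f (nat_lit 7405), Mv.f (nat_lit 9463)]))))))))
(Tr.nd (nat_lit 9475) (Tr.nd (nat_lit 9470) (Tr.nd (nat_lit 9467) (Tr.nd (nat_lit 9466) (Tr.lf (Fc.ed (nat_lit 9465) (nat_lit 3648) Col.b (nat_lit 3820) Dv.df))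
(Tr.lf (Fc.ed (nat_lit 9466) (nat_lit 3820) Col.a (nat_lit 2215) (Dv.wd (nat_lit 98) [Mv.b (nat_lit 6106), Mv.b (nat_lit 4829), Mv.f (nat_lit 7224), Mv.f (nat_lit 9140), Mv.f (nat_lit 9465)]))))
(Tr.nd (nat_lit 9468) (Tr.lf (Fc.ed (nat_lit 9467) (nat_lit 2806) Col.b (nat_lit 3821) Dv.df))
(Tr.nd (nat_lit 9469) (Tr.lf (Fc.ed (nat_lit 9468) (nat_lit 2412) Col.f (nat_lit 3822) Dv.df))
(Tr.lf (Fc.ed (nat_lit 9469) (nat_lit 3822) Col.a (nat_lit 3596) (Dv.wd (nat_lit 23) [Mv.f (nat_lit 9048), Mv.f (nat_lit 6528), Mv.f (nat_lit 9468)]))))))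
(Tr.nd (nat_lit 9472) (Tr.nd (nat_lit 9471) (Tr.lf (Fc.ed (nat_lit 9470) (nat_lit 3287) Col.a (nat_lit 3823) Dv.df))
(Tr.lf (Fc.ed (nat_lit 9471) (nat_lit 3823) Col.f (nat_lit 2227) (Dv.wd (nat_lit 10) [Mv.b (nat_lit 6128), Mv.f (nat_lit 8427), Mv.f (nat_lit 9470)]))))
(Tr.nd (nat_lit 9473) (Tr.lf (Fc.ed (nat_lit 9472) (nat_lit 3518) Col.e (nat_lit 3824) Dv.df))
(Tr.nd (nat_lit 9474) (Tr.lf (Fc.ed (nat_lit 9473) (nat_lit 3824) Col.d (nat_lit 3214) (Dv.wd (nat_lit 91) [Mv.b (nat_lit 8287), Mv.f (nat_lit 5419), Mv.f (nat_lit 5420), Mv.b (nat_lit 4485), Mv.b (nat_lit 4486), Mv.b (nat_lit 4217), Mv.b (nat_lit 4337), Mv.b (nat_lit 4501), Mv.f (nat_lit 8892), Mv.f (nat_lit 9472)])))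
(Tr.lf (Fc.ed (nat_lit 9474) (nat_lit 1947) Col.e (nat_lit 3825) Dv.df))))))
(Tr.nd (nat_lit 9480) (Tr.nd (nat_lit 9477) (Tr.nd (nat_lit 9476) (Tr.lf (Fc.ed (nat_lit 9475) (nat_lit 3825) Col.c (nat_lit 2851) (Dv.wd (nat_lit 18) [Mv.b (nat_lit 7518), Mv.b (nat_lit 5470), Mv.f (nat_lit 9474)])))
(Tr.lf (Fc.ed (nat_lit 9476) (nat_lit 2774) Col.g (nat_lit 3826) Dv.df)))
(Tr.nd (nat_lit 9478) (Tr.lf (Fc.ed (nat_lit 9477) (nat_lit 3826) Col.g (nat_lit 2143) (Dv.wd (nat_lit 9) [Mv.b (nat_lit 6178), Mv.f (nat_lit 7344), Mv.f (nat_lit 9476)])))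
(Tr.nd (nat_lit 9479) (Tr.lf (Fc.ed (nat_lit 9478) (nat_lit 3568) Col.d (nat_lit 3827) Dv.df))
(Tr.lf (Fc.ed (nat_lit 9479) (nat_lit 3827) Col.a (nat_lit 2493) (Dv.wd (nat_lit 8) [Mv.b (nat_lit 6721), Mv.b (nat_lit 8998), Mv.f (nat_lit 9478)]))))))
(Tr.nd (nat_lit 9483) (Tr.nd (nat_lit 9481) (Tr.lf (Fc.ed (nat_lit 9480) (nat_lit 3701) Col.f (nat_lit 3828) Dv.df))
(Tr.nd (nat_lit 9482) (Tr.lf (Fc.ed (nat_lit 9481) (nat_lit 3089) Col.b (nat_lit 3829) Dv.df))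
(Tr.lf (Fc.ed (nat_lit 9482) (nat_lit 3829) Col.d (nat_lit 3829) (Dv.wd (nat_lit 58) [Mv.b (nat_lit 9481), Mv.f (nat_lit 8028), Mv.f (nat_lit 9481)])))))
(Tr.nd (nat_lit 9484) (Tr.lf (Fc.ed (nat_lit 9483) (nat_lit 3829) Col.e (nat_lit 3829) (Dv.wd (nat_lit 52) [Mv.b (nat_lit 9481), Mv.f (nat_lit 8029), Mv.f (nat_lit 9481)])))
(Tr.nd (nat_lit 9485) (Tr.lf (Fc.ed (nat_lit 9484) (nat_lit 3829) Col.f (nat_lit 2329) (Dv.wd (nat_lit 20) [Mv.b (nat_lit 6356), Mv.f (nat_lit 8026), Mv.f (nat_lit 9481)])))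
(Tr.lf (Fc.ed (nat_lit 9485) (nat_lit 3658) Col.b (nat_lit 3830) Dv.df))))))))
(Tr.nd (nat_lit 9506) (Tr.nd (nat_lit 9496) (Tr.nd (nat_lit 9491) (Tr.nd (nat_lit 9488) (Tr.nd (nat_lit 9487) (Tr.lf (Fc.ed (nat_lit 9486) (nat_lit 3672) Col.c (nat_lit 3831) Dv.df))
(Tr.lf (Fc.ed (nat_lit 9487) (nat_lit 1979) Col.b (nat_lit 3832) Dv.df)))
(Tr.nd (nat_lit 9489) (Tr.lf (Fc.ed (nat_lit 9488) (nat_lit 2015) Col.g (nat_lit 3833) Dv.df))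
(Tr.nd (nat_lit 9490) (Tr.lf (Fc.ed (nat_lit 9489) (nat_lit 3630) Col.gi (nat_lit 3834) Dv.df))
(Tr.lf (Fc.ed (nat_lit 9490) (nat_lit 3834) Col.c (nat_lit 3593) (Dv.wd (nat_lit 143) [Mv.f (nat_lit 9043), Mv.b (nat_lit 9041), Mv.f (nat_lit 8459), Mv.f (nat_lit 8305), Mv.b (nat_lit 3474), Mv.f (nat_lit 1340), Mv.b (nat_lit 2827), Mv.f (nat_lit 5382), Mv.b (nat_lit 9106), Mv.f (nat_lit 9489)]))))))
(Tr.nd (nat_lit 9493) (Tr.nd (nat_lit 9492) (Tr.lf (Fc.ed (nat_lit 9491) (nat_lit 2817) Col.a (nat_lit 3834) (Dv.wd (nat_lit 76) [Mv.f (nat_lit 9490), Mv.f (nat_lit 9042), Mv.f (nat_lit 7443)])))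
(Tr.lf (Fc.ed (nat_lit 9492) (nat_lit 2302) Col.g (nat_lit 3835) Dv.df)))
(Tr.nd (nat_lit 9494) (Tr.lf (Fc.ed (nat_lit 9493) (nat_lit 3835) Col.g (nat_lit 1962) (Dv.wd (nat_lit 9) [Mv.b (nat_lit 5625), Mv.f (nat_lit 6296), Mv.f (nat_lit 9492)])))
(Tr.nd (nat_lit 9495) (Tr.lf (Fc.ed (nat_lit 9494) (nat_lit 1838) Col.g (nat_lit 3836) Dv.df))
(Tr.lf (Fc.ed (nat_lit 9495) (nat_lit 3549) Col.e (nat_lit 3837) Dv.df))))))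
(Tr.nd (nat_lit 9501) (Tr.nd (nat_lit 9498) (Tr.nd (nat_lit 9497) (Tr.lf (Fc.ed (nat_lit 9496) (nat_lit 2339) Col.b (nat_lit 3838) Dv.df))
(Tr.lf (Fc.ed (nat_lit 9497) (nat_lit 3838) Col.e (nat_lit 2953) (Dv.wd (nat_lit 52) [Mv.f (nat_lit 7731), Mv.b (nat_lit 6387), Mv.f (nat_lit 9496)]))))
(Tr.nd (nat_lit 9499) (Tr.lf (Fc.ed (nat_lit 9498) (nat_lit 3838) Col.c (nat_lit 3416) (Dv.wd (nat_lit 93) [Mv.b (nat_lit 8693), Mv.f (nat_lit 7586), Mv.f (nat_lit 5717), Mv.b (nat_lit 6386), Mv.f (nat_lit 9496)])))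
(Tr.nd (nat_lit 9500) (Tr.lf (Fc.ed (nat_lit 9499) (nat_lit 3269) Col.b (nat_lit 3839) Dv.df))
(Tr.lf (Fc.ed (nat_lit 9500) (nat_lit 3839) Col.f (nat_lit 3131) (Dv.wd (nat_lit 20) [Mv.b (nat_lit 8123), Mv.b (nat_lit 8392), Mv.f (nat_lit 9499)]))))))
(Tr.nd (nat_lit 9503) (Tr.nd (nat_lit 9502) (Tr.lf (Fc.ed (nat_lit 9501) (nat_lit 1842) Col.g (nat_lit 3840) Dv.df))
(Tr.lf (Fc.ed (nat_lit 9502) (nat_lit 3756) Col.d (nat_lit 3841) Dv.df)))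
(Tr.nd (nat_lit 9504) (Tr.lf (Fc.ed (nat_lit 9503) (nat_lit 3792) Col.gi (nat_lit 3842) Dv.df))
(Tr.nd (nat_lit 9505) (Tr.lf (Fc.ed (nat_lit 9504) (nat_lit 3794) Col.f (nat_lit 3843) Dv.df))
(Tr.lf (Fc.ed (nat_lit 9505) (nat_lit 3843) Col.a (nat_lit 2338) (Dv.wd (nat_lit 16) [Mv.f (nat_lit 6384), Mv.b (nat_lit 9419), Mv.f (nat_lit 9504)]))))))))
(Tr.nd (nat_lit 9516) (Tr.nd (nat_lit 9511) (Tr.nd (nat_lit 9508) (Tr.nd (nat_lit 9507) (Tr.lf (Fc.ed (nat_lit 9506) (nat_lit 2774) Col.gi (nat_lit 3844) Dv.df))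
(Tr.lf (Fc.ed (nat_lit 9507) (nat_lit 3844) Col.gi (nat_lit 2143) (Dv.wd (nat_lit 24) [Mv.b (nat_lit 6780), Mv.b (nat_lit 7345), Mv.f (nat_lit 9506)]))))
(Tr.nd (nat_lit 9509) (Tr.lf (Fc.ed (nat_lit 9508) (nat_lit 3842) Col.b (nat_lit 3845) Dv.df))
(Tr.nd (nat_lit 9510) (Tr.lf (Fc.ed (nat_lit 9509) (nat_lit 2793) Col.gi (nat_lit 3846) Dv.df))
(Tr.lf (Fc.ed (nat_lit 9510) (nat_lit 3846) Col.gi (nat_lit 2082) (Dv.wd (nat_lit 24) [Mv.b (nat_lit 7619), Mv.f (nat_lit 7618), Mv.f (nat_lit 9509)]))))))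
(Tr.nd (nat_lit 9513) (Tr.nd (nat_lit 9512) (Tr.lf (Fc.ed (nat_lit 9511) (nat_lit 2528) Col.b (nat_lit 3847) Dv.df))
(Tr.lf (Fc.ed (nat_lit 9512) (nat_lit 3847) Col.c (nat_lit 3739) (Dv.wd (nat_lit 135) [Mv.b (nat_lit 9323), Mv.f (nat_lit 5567), Mv.b (nat_lit 5565), Mv.b (nat_lit 2214), Mv.b (nat_lit 2200), Mv.f (nat_lit 467), Mv.f (nat_lit 1588), Mv.f (nat_lit 3860), Mv.f (nat_lit 6804), Mv.f (nat_lit 9511)]))))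
(Tr.nd (nat_lit 9514) (Tr.lf (Fc.ed (nat_lit 9513) (nat_lit 3520) Col.d (nat_lit 3848) Dv.df))
(Tr.nd (nat_lit 9515) (Tr.lf (Fc.ed (nat_lit 9514) (nat_lit 2146) Col.c (nat_lit 3849) Dv.df))
(Tr.lf (Fc.ed (nat_lit 9515) (nat_lit 3140) Col.gi (nat_lit 3850) Dv.df))))))
(Tr.nd (nat_lit 9521) (Tr.nd (nat_lit 9518) (Tr.nd (nat_lit 9517) (Tr.lf (Fc.ed (nat_lit 9516) (nat_lit 2240) Col.f (nat_lit 3851) Dv.df))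
(Tr.lf (Fc.ed (nat_lit 9517) (nat_lit 3851) Col.a (nat_lit 3620) (Dv.wd (nat_lit 23) [Mv.b (nat_lit 9085), Mv.f (nat_lit 6151), Mv.f (nat_lit 9516)]))))
(Tr.nd (nat_lit 9519) (Tr.lf (Fc.ed (nat_lit 9518) (nat_lit 3403) Col.g (nat_lit 3852) Dv.df))
(Tr.nd (nat_lit 9520) (Tr.lf (Fc.ed (nat_lit 9519) (nat_lit 3304) Col.c (nat_lit 3853) Dv.df))
(Tr.lf (Fc.ed (nat_lit 9520) (nat_lit 3853) Col.a (nat_lit 2419) (Dv.wd (nat_lit 19) [Mv.b (nat_lit 6546), Mv.f (nat_lit 8461), Mv.f (nat_lit 9519)]))))))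
(Tr.nd (nat_lit 9524) (Tr.nd (nat_lit 9522) (Tr.lf (Fc.ed (nat_lit 9521) (nat_lit 3853) Col.f (nat_lit 3136) (Dv.wd (nat_lit 26) [Mv.f (nat_lit 8132), Mv.b (nat_lit 8462), Mv.f (nat_lit 9519)])))
(Tr.nd (nat_lit 9523) (Tr.lf (Fc.ed (nat_lit 9522) (nat_lit 3503) Col.a (nat_lit 3854) Dv.df))
(Tr.lf (Fc.ed (nat_lit 9523) (nat_lit 3854) Col.f (nat_lit 3484) (Dv.wd (nat_lit 10) [Mv.f (nat_lit 8830), Mv.f (nat_lit 8863), Mv.f (nat_lit 9522)])))))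
(Tr.nd (nat_lit 9525) (Tr.lf (Fc.ed (nat_lit 9524) (nat_lit 3691) Col.a (nat_lit 3855) Dv.df))
(Tr.nd (nat_lit 9526) (Tr.lf (Fc.ed (nat_lit 9525) (nat_lit 3855) Col.f (nat_lit 2362) (Dv.wd (nat_lit 35) [Mv.f (nat_lit 9428), Mv.f (nat_lit 9429), Mv.f (nat_lit 9524)])))
(Tr.lf (Fc.ed (nat_lit 9526) (nat_lit 1929) Col.gi (nat_lit 3856) Dv.df)))))))))))
(Tr.nd (nat_lit 9691) (Tr.nd (nat_lit 9609) (Tr.nd (nat_lit 9568) (Tr.nd (nat_lit 9547) (Tr.nd (nat_lit 9537) (Tr.nd (nat_lit 9532) (Tr.nd (nat_lit 9529) (Tr.nd (nat_lit 9528) (Tr.lf (Fc.ed (nat_lit 9527) (nat_lit 2310) Col.gi (nat_lit 3857) Dv.df))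
(Tr.lf (Fc.ed (nat_lit 9528) (nat_lit 3857) Col.gi (nat_lit 2270) (Dv.wd (nat_lit 24) [Mv.b (nat_lit 6581), Mv.f (nat_lit 6580), Mv.f (nat_lit 9527)]))))
(Tr.nd (nat_lit 9530) (Tr.lf (Fc.ed (nat_lit 9529) (nat_lit 1625) Col.d (nat_lit 3858) Dv.df))
(Tr.nd (nat_lit 9531) (Tr.lf (Fc.ed (nat_lit 9530) (nat_lit 2404) Col.g (nat_lit 3859) Dv.df))
(Tr.lf (Fc.ed (nat_lit 9531) (nat_lit 2494) Col.gi (nat_lit 3860) Dv.df)))))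
(Tr.nd (nat_lit 9534) (Tr.nd (nat_lit 9533) (Tr.lf (Fc.ed (nat_lit 9532) (nat_lit 3860) Col.gi (nat_lit 1308) (Dv.wd (nat_lit 24) [Mv.f (nat_lit 6589), Mv.f (nat_lit 6723), Mv.f (nat_lit 9531)])))
(Tr.lf (Fc.ed (nat_lit 9533) (nat_lit 3715) Col.g (nat_lit 3861) Dv.df)))
(Tr.nd (nat_lit 9535) (Tr.lf (Fc.ed (nat_lit 9534) (nat_lit 3861) Col.c (nat_lit 3819) (Dv.wd (nat_lit 115) [Mv.b (nat_lit 9463), Mv.b (nat_lit 5046), Mv.b (nat_lit 2037), Mv.f (nat_lit 564), Mv.f (nat_lit 197), Mv.f (nat_lit 784), Mv.f (nat_lit 3880), Mv.b (nat_lit 5769), Mv.b (nat_lit 9274), Mv.f (nat_lit 9533)])))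
(Tr.nd (nat_lit 9536) (Tr.lf (Fc.ed (nat_lit 9535) (nat_lit 3831) Col.a (nat_lit 3861) (Dv.wd (nat_lit 76) [Mv.f (nat_lit 9534), Mv.f (nat_lit 9464), Mv.f (nat_lit 9486)])))
(Tr.lf (Fc.ed (nat_lit 9536) (nat_lit 3383) Col.c (nat_lit 3862) Dv.df))))))
(Tr.nd (nat_lit 9542) (Tr.nd (nat_lit 9539) (Tr.nd (nat_lit 9538) (Tr.lf (Fc.ed (nat_lit 9537) (nat_lit 3862) Col.a (nat_lit 3351) (Dv.wd (nat_lit 19) [Mv.f (nat_lit 8585), Mv.b (nat_lit 8627), Mv.f (nat_lit 9536)])))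
(Tr.lf (Fc.ed (nat_lit 9538) (nat_lit 3133) Col.c (nat_lit 3863) Dv.df)))
(Tr.nd (nat_lit 9540) (Tr.lf (Fc.ed (nat_lit 9539) (nat_lit 3863) Col.a (nat_lit 2446) (Dv.wd (nat_lit 19) [Mv.b (nat_lit 6606), Mv.b (nat_lit 8127), Mv.f (nat_lit 9538)])))
(Tr.nd (nat_lit 9541) (Tr.lf (Fc.ed (nat_lit 9540) (nat_lit 3070) Col.c (nat_lit 3864) Dv.df))
(Tr.lf (Fc.ed (nat_lit 9541) (nat_lit 2943) Col.gi (nat_lit 3865) Dv.df)))))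
(Tr.nd (nat_lit 9544) (Tr.nd (nat_lit 9543) (Tr.lf (Fc.ed (nat_lit 9542) (nat_lit 3865) Col.gi (nat_lit 1593) (Dv.wd (nat_lit 24) [Mv.f (nat_lit 6117), Mv.b (nat_lit 7712), Mv.f (nat_lit 9541)])))
(Tr.lf (Fc.ed (nat_lit 9543) (nat_lit 3159) Col.gi (nat_lit 3866) Dv.df)))
(Tr.nd (nat_lit 9545) (Tr.lf (Fc.ed (nat_lit 9544) (nat_lit 3253) Col.b (nat_lit 3867) Dv.df))
(Tr.nd (nat_lit 9546) (Tr.lf (Fc.ed (nat_lit 9545) (nat_lit 3867) Col.e (nat_lit 3212) (Dv.wd (nat_lit 52) [Mv.b (nat_lit 8283), Mv.f (nat_lit 8360), Mv.f (nat_lit 9544)])))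
(Tr.lf (Fc.ed (nat_lit 9546) (nat_lit 3055) Col.d (nat_lit 3868) Dv.df)))))))
(Tr.nd (nat_lit 9557) (Tr.nd (nat_lit 9552) (Tr.nd (nat_lit 9549) (Tr.nd (nat_lit 9548) (Tr.lf (Fc.ed (nat_lit 9547) (nat_lit 2126) Col.b (nat_lit 3869) Dv.df))
(Tr.lf (Fc.ed (nat_lit 9548) (nat_lit 1665) Col.g (nat_lit 3870) Dv.df)))
(Tr.nd (nat_lit 9550) (Tr.lf (Fc.ed (nat_lit 9549) (nat_lit 2782) Col.g (nat_lit 3871) Dv.df))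
(Tr.nd (nat_lit 9551) (Tr.lf (Fc.ed (nat_lit 9550) (nat_lit 1658) Col.g (nat_lit 3872) Dv.df))
(Tr.lf (Fc.ed (nat_lit 9551) (nat_lit 3872) Col.g (nat_lit 2111) (Dv.wd (nat_lit 9) [Mv.f (nat_lit 5809), Mv.b (nat_lit 5759), Mv.f (nat_lit 9550)]))))))
(Tr.nd (nat_lit 9554) (Tr.nd (nat_lit 9553) (Tr.lf (Fc.ed (nat_lit 9552) (nat_lit 3795) Col.f (nat_lit 3872) (Dv.wd (nat_lit 10) [Mv.f (nat_lit 9551), Mv.f (nat_lit 7985), Mv.f (nat_lit 9420)])))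
(Tr.lf (Fc.ed (nat_lit 9553) (nat_lit 2310) Col.g (nat_lit 3873) Dv.df)))
(Tr.nd (nat_lit 9555) (Tr.lf (Fc.ed (nat_lit 9554) (nat_lit 3873) Col.g (nat_lit 2270) (Dv.wd (nat_lit 9) [Mv.b (nat_lit 6288), Mv.b (nat_lit 6319), Mv.f (nat_lit 9553)])))
(Tr.nd (nat_lit 9556) (Tr.lf (Fc.ed (nat_lit 9555) (nat_lit 2043) Col.e (nat_lit 3874) Dv.df))
(Tr.lf (Fc.ed (nat_lit 9556) (nat_lit 1930) Col.b (nat_lit 3875) Dv.df))))))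
(Tr.nd (nat_lit 9562) (Tr.nd (nat_lit 9559) (Tr.nd (nat_lit 9558) (Tr.lf (Fc.ed (nat_lit 9557) (nat_lit 2944) Col.d (nat_lit 3876) Dv.df))
(Tr.lf (Fc.ed (nat_lit 9558) (nat_lit 2848) Col.gi (nat_lit 3877) Dv.df)))
(Tr.nd (nat_lit 9560) (Tr.lf (Fc.ed (nat_lit 9559) (nat_lit 2260) Col.f (nat_lit 3878) Dv.df))
(Tr.nd (nat_lit 9561) (Tr.lf (Fc.ed (nat_lit 9560) (nat_lit 3878) Col.d (nat_lit 3851) (Dv.wd (nat_lit 21) [Mv.b (nat_lit 9516), Mv.f (nat_lit 6200), Mv.f (nat_lit 9559)])))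
(Tr.lf (Fc.ed (nat_lit 9561) (nat_lit 3854) Col.gi (nat_lit 3879) Dv.df)))))
(Tr.nd (nat_lit 9565) (Tr.nd (nat_lit 9563) (Tr.lf (Fc.ed (nat_lit 9562) (nat_lit 2204) Col.a (nat_lit 3880) Dv.df))
(Tr.nd (nat_lit 9564) (Tr.lf (Fc.ed (nat_lit 9563) (nat_lit 3880) Col.d (nat_lit 1968) (Dv.wd (nat_lit 28) [Mv.f (nat_lit 5516), Mv.f (nat_lit 6087), Mv.f (nat_lit 9562)])))
(Tr.lf (Fc.ed (nat_lit 9564) (nat_lit 2338) Col.g (nat_lit 3881) Dv.df))))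
(Tr.nd (nat_lit 9566) (Tr.lf (Fc.ed (nat_lit 9565) (nat_lit 3881) Col.g (nat_lit 3794) (Dv.wd (nat_lit 9) [Mv.f (nat_lit 9419), Mv.b (nat_lit 6384), Mv.f (nat_lit 9564)])))
(Tr.nd (nat_lit 9567) (Tr.lf (Fc.ed (nat_lit 9566) (nat_lit 2341) Col.f (nat_lit 3882) Dv.df))
(Tr.lf (Fc.ed (nat_lit 9567) (nat_lit 3882) Col.a (nat_lit 3583) (Dv.wd (nat_lit 16) [Mv.f (nat_lit 9367), Mv.f (nat_lit 9368), Mv.f (nat_lit 9566)])))))))))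
(Tr.nd (nat_lit 9588) (Tr.nd (nat_lit 9578) (Tr.nd (nat_lit 9573) (Tr.nd (nat_lit 9570) (Tr.nd (nat_lit 9569) (Tr.lf (Fc.ed (nat_lit 9568) (nat_lit 3877) Col.c (nat_lit 3883) Dv.df))
(Tr.lf (Fc.ed (nat_lit 9569) (nat_lit 2266) Col.d (nat_lit 3884) Dv.df)))
(Tr.nd (nat_lit 9571) (Tr.lf (Fc.ed (nat_lit 9570) (nat_lit 3698) Col.c (nat_lit 3885) Dv.df))
(Tr.nd (nat_lit 9572) (Tr.lf (Fc.ed (nat_lit 9571) (nat_lit 3421) Col.d (nat_lit 3886) Dv.df))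
(Tr.lf (Fc.ed (nat_lit 9572) (nat_lit 3393) Col.c (nat_lit 3887) Dv.df)))))
(Tr.nd (nat_lit 9575) (Tr.nd (nat_lit 9574) (Tr.lf (Fc.ed (nat_lit 9573) (nat_lit 3887) Col.a (nat_lit 3303) (Dv.wd (nat_lit 19) [Mv.b (nat_lit 8460), Mv.f (nat_lit 8647), Mv.f (nat_lit 9572)])))
(Tr.lf (Fc.ed (nat_lit 9574) (nat_lit 3735) Col.gi (nat_lit 3888) Dv.df)))
(Tr.nd (nat_lit 9576) (Tr.lf (Fc.ed (nat_lit 9575) (nat_lit 3888) Col.gi (nat_lit 2184) (Dv.wd (nat_lit 24) [Mv.f (nat_lit 8229), Mv.b (nat_lit 9316), Mv.f (nat_lit 9574)])))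
(Tr.nd (nat_lit 9577) (Tr.lf (Fc.ed (nat_lit 9576) (nat_lit 3661) Col.b (nat_lit 3889) Dv.df))
(Tr.lf (Fc.ed (nat_lit 9577) (nat_lit 3889) Col.a (nat_lit 2742) (Dv.wd (nat_lit 98) [Mv.b (nat_lit 7275), Mv.b (nat_lit 5512), Mv.b (nat_lit 7105), Mv.f (nat_lit 9162), Mv.f (nat_lit 9576)])))))))
(Tr.nd (nat_lit 9583) (Tr.nd (nat_lit 9580) (Tr.nd (nat_lit 9579) (Tr.lf (Fc.ed (nat_lit 9578) (nat_lit 3617) Col.d (nat_lit 3890) Dv.df))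
(Tr.lf (Fc.ed (nat_lit 9579) (nat_lit 3276) Col.gi (nat_lit 3891) Dv.df)))
(Tr.nd (nat_lit 9581) (Tr.lf (Fc.ed (nat_lit 9580) (nat_lit 3891) Col.gi (nat_lit 3334) (Dv.wd (nat_lit 24) [Mv.f (nat_lit 8523), Mv.b (nat_lit 8405), Mv.f (nat_lit 9579)])))
(Tr.nd (nat_lit 9582) (Tr.lf (Fc.ed (nat_lit 9581) (nat_lit 1229) Col.gi (nat_lit 3892) Dv.df))
(Tr.lf (Fc.ed (nat_lit 9582) (nat_lit 3892) Col.gi (nat_lit 2476) (Dv.wd (nat_lit 24) [Mv.b (nat_lit 6677), Mv.f (nat_lit 6341), Mv.f (nat_lit 9581)]))))))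
(Tr.nd (nat_lit 9585) (Tr.nd (nat_lit 9584) (Tr.lf (Fc.ed (nat_lit 9583) (nat_lit 2223) Col.e (nat_lit 3893) Dv.df))
(Tr.lf (Fc.ed (nat_lit 9584) (nat_lit 3041) Col.gi (nat_lit 3894) Dv.df)))
(Tr.nd (nat_lit 9586) (Tr.lf (Fc.ed (nat_lit 9585) (nat_lit 3318) Col.g (nat_lit 3895) Dv.df))
(Tr.nd (nat_lit 9587) (Tr.lf (Fc.ed (nat_lit 9586) (nat_lit 3895) Col.g (nat_lit 1609) (Dv.wd (nat_lit 9) [Mv.f (nat_lit 5532), Mv.b (nat_lit 8490), Mv.f (nat_lit 9585)])))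
(Tr.lf (Fc.ed (nat_lit 9587) (nat_lit 3741) Col.g (nat_lit 3896) Dv.df)))))))
(Tr.nd (nat_lit 9598) (Tr.nd (nat_lit 9593) (Tr.nd (nat_lit 9590) (Tr.nd (nat_lit 9589) (Tr.lf (Fc.ed (nat_lit 9588) (nat_lit 3896) Col.g (nat_lit 1636) (Dv.wd (nat_lit 9) [Mv.f (nat_lit 6733), Mv.b (nat_lit 9327), Mv.f (nat_lit 9587)])))
(Tr.lf (Fc.ed (nat_lit 9589) (nat_lit 3717) Col.gi (nat_lit 3897) Dv.df)))
(Tr.nd (nat_lit 9591) (Tr.lf (Fc.ed (nat_lit 9590) (nat_lit 3897) Col.gi (nat_lit 2367) (Dv.wd (nat_lit 24) [Mv.f (nat_lit 6460), Mv.b (nat_lit 9279), Mv.f (nat_lit 9589)])))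
(Tr.nd (nat_lit 9592) (Tr.lf (Fc.ed (nat_lit 9591) (nat_lit 2340) Col.b (nat_lit 3898) Dv.df))
(Tr.lf (Fc.ed (nat_lit 9592) (nat_lit 3898) Col.f (nat_lit 3821) (Dv.wd (nat_lit 20) [Mv.b (nat_lit 9467), Mv.b (nat_lit 7420), Mv.f (nat_lit 9591)]))))))
(Tr.nd (nat_lit 9595) (Tr.nd (nat_lit 9594) (Tr.lf (Fc.ed (nat_lit 9593) (nat_lit 3537) Col.c (nat_lit 3899) Dv.df))
(Tr.lf (Fc.ed (nat_lit 9594) (nat_lit 3899) Col.a (nat_lit 2655) (Dv.wd (nat_lit 19) [Mv.f (nat_lit 7086), Mv.f (nat_lit 8932), Mv.f (nat_lit 9593)]))))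
(Tr.nd (nat_lit 9596) (Tr.lf (Fc.ed (nat_lit 9595) (nat_lit 2625) Col.a (nat_lit 3900) Dv.df))
(Tr.nd (nat_lit 9597) (Tr.lf (Fc.ed (nat_lit 9596) (nat_lit 3900) Col.c (nat_lit 2313) (Dv.wd (nat_lit 33) [Mv.b (nat_lit 6325), Mv.f (nat_lit 7015), Mv.f (nat_lit 9595)])))
(Tr.lf (Fc.ed (nat_lit 9597) (nat_lit 2139) Col.g (nat_lit 3901) Dv.df))))))
(Tr.nd (nat_lit 9603) (Tr.nd (nat_lit 9600) (Tr.nd (nat_lit 9599) (Tr.lf (Fc.ed (nat_lit 9598) (nat_lit 2434) Col.g (nat_lit 3902) Dv.df))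
(Tr.lf (Fc.ed (nat_lit 9599) (nat_lit 3902) Col.g (nat_lit 2298) (Dv.wd (nat_lit 9) [Mv.f (nat_lit 6288), Mv.b (nat_lit 6581), Mv.f (nat_lit 9598)]))))
(Tr.nd (nat_lit 9601) (Tr.lf (Fc.ed (nat_lit 9600) (nat_lit 2578) Col.e (nat_lit 3903) Dv.df))
(Tr.nd (nat_lit 9602) (Tr.lf (Fc.ed (nat_lit 9601) (nat_lit 3903) Col.b (nat_lit 3042) (Dv.wd (nat_lit 49) [Mv.f (nat_lit 7912), Mv.f (nat_lit 6920), Mv.f (nat_lit 9600)])))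
(Tr.lf (Fc.ed (nat_lit 9602) (nat_lit 2077) Col.gi (nat_lit 3904) Dv.df)))))
(Tr.nd (nat_lit 9606) (Tr.nd (nat_lit 9604) (Tr.lf (Fc.ed (nat_lit 9603) (nat_lit 973) Col.b (nat_lit 3905) Dv.df))
(Tr.nd (nat_lit 9605) (Tr.lf (Fc.ed (nat_lit 9604) (nat_lit 3441) Col.e (nat_lit 3906) Dv.df))
(Tr.lf (Fc.ed (nat_lit 9605) (nat_lit 3906) Col.b (nat_lit 2518) (Dv.wd (nat_lit 49) [Mv.b (nat_lit 7628), Mv.f (nat_lit 8749), Mv.f (nat_lit 9604)])))))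
(Tr.nd (nat_lit 9607) (Tr.lf (Fc.ed (nat_lit 9606) (nat_lit 3906) Col.c (nat_lit 3337) (Dv.wd (nat_lit 18) [Mv.b (nat_lit 8980), Mv.f (nat_lit 8979), Mv.f (nat_lit 9604)])))
(Tr.nd (nat_lit 9608) (Tr.lf (Fc.ed (nat_lit 9607) (nat_lit 3906) Col.f (nat_lit 2526) (Dv.wd (nat_lit 96) [Mv.f (nat_lit 6800), Mv.f (nat_lit 6170), Mv.b (nat_lit 6127), Mv.b (nat_lit 8750), Mv.f (nat_lit 9604)])))
(Tr.lf (Fc.ed (nat_lit 9608) (nat_lit 1699) Col.gi (nat_lit 3907) Dv.df)))))))))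
(Tr.nd (nat_lit 9650) (Tr.nd (nat_lit 9629) (Tr.nd (nat_lit 9619) (Tr.nd (nat_lit 9614) (Tr.nd (nat_lit 9611) (Tr.nd (nat_lit 9610) (Tr.lf (Fc.ed (nat_lit 9609) (nat_lit 3907) Col.gi (nat_lit 3117) (Dv.wd (nat_lit 24) [Mv.f (nat_lit 8090), Mv.f (nat_lit 6732), Mv.f (nat_lit 9608)])))
(Tr.lf (Fc.ed (nat_lit 9610) (nat_lit 3268) Col.e (nat_lit 3908) Dv.df)))
(Tr.nd (nat_lit 9612) (Tr.lf (Fc.ed (nat_lit 9611) (nat_lit 3908) Col.c (nat_lit 1893) (Dv.wd (nat_lit 18) [Mv.f (nat_lit 5616), Mv.f (nat_lit 8389), Mv.f (nat_lit 9610)])))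
(Tr.nd (nat_lit 9613) (Tr.lf (Fc.ed (nat_lit 9612) (nat_lit 2986) Col.e (nat_lit 3909) Dv.df))
(Tr.lf (Fc.ed (nat_lit 9613) (nat_lit 3909) Col.a (nat_lit 3893) (Dv.wd (nat_lit 15) [Mv.b (nat_lit 9583), Mv.f (nat_lit 7798), Mv.f (nat_lit 9612)]))))))
(Tr.nd (nat_lit 9616) (Tr.nd (nat_lit 9615) (Tr.lf (Fc.ed (nat_lit 9614) (nat_lit 3135) Col.e (nat_lit 3910) Dv.df))
(Tr.lf (Fc.ed (nat_lit 9615) (nat_lit 3910) Col.b (nat_lit 1341) (Dv.wd (nat_lit 49) [Mv.b (nat_lit 4313), Mv.f (nat_lit 8130), Mv.f (nat_lit 9614)]))))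
(Tr.nd (nat_lit 9617) (Tr.lf (Fc.ed (nat_lit 9616) (nat_lit 3653) Col.b (nat_lit 3911) Dv.df))
(Tr.nd (nat_lit 9618) (Tr.lf (Fc.ed (nat_lit 9617) (nat_lit 1702) Col.gi (nat_lit 3912) Dv.df))
(Tr.lf (Fc.ed (nat_lit 9618) (nat_lit 2881) Col.f (nat_lit 3913) Dv.df))))))
(Tr.nd (nat_lit 9624) (Tr.nd (nat_lit 9621) (Tr.nd (nat_lit 9620) (Tr.lf (Fc.ed (nat_lit 9619) (nat_lit 3913) Col.a (nat_lit 2492) (Dv.wd (nat_lit 23) [Mv.b (nat_lit 6719), Mv.f (nat_lit 7583), Mv.f (nat_lit 9618)])))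
(Tr.lf (Fc.ed (nat_lit 9620) (nat_lit 3864) Col.gi (nat_lit 3914) Dv.df)))
(Tr.nd (nat_lit 9622) (Tr.lf (Fc.ed (nat_lit 9621) (nat_lit 3672) Col.gi (nat_lit 3915) Dv.df))
(Tr.nd (nat_lit 9623) (Tr.lf (Fc.ed (nat_lit 9622) (nat_lit 3375) Col.d (nat_lit 3916) Dv.df))
(Tr.lf (Fc.ed (nat_lit 9623) (nat_lit 2431) Col.g (nat_lit 3917) Dv.df)))))
(Tr.nd (nat_lit 9626) (Tr.nd (nat_lit 9625) (Tr.lf (Fc.ed (nat_lit 9624) (nat_lit 3917) Col.g (nat_lit 2244) (Dv.wd (nat_lit 9) [Mv.b (nat_lit 6189), Mv.b (nat_lit 6571), Mv.f (nat_lit 9623)])))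
(Tr.lf (Fc.ed (nat_lit 9625) (nat_lit 3914) Col.f (nat_lit 3918) Dv.df)))
(Tr.nd (nat_lit 9627) (Tr.lf (Fc.ed (nat_lit 9626) (nat_lit 2261) Col.c (nat_lit 3919) Dv.df))
(Tr.nd (nat_lit 9628) (Tr.lf (Fc.ed (nat_lit 9627) (nat_lit 3919) Col.a (nat_lit 3849) (Dv.wd (nat_lit 19) [Mv.b (nat_lit 9514), Mv.f (nat_lit 6201), Mv.f (nat_lit 9626)])))
(Tr.lf (Fc.ed (nat_lit 9628) (nat_lit 3919) Col.f (nat_lit 3780) (Dv.wd (nat_lit 26) [Mv.b (nat_lit 9392), Mv.b (nat_lit 6202), Mv.f (nat_lit 9626)]))))))))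
(Tr.nd (nat_lit 9639) (Tr.nd (nat_lit 9634) (Tr.nd (nat_lit 9631) (Tr.nd (nat_lit 9630) (Tr.lf (Fc.ed (nat_lit 9629) (nat_lit 2348) Col.c (nat_lit 3920) Dv.df))
(Tr.lf (Fc.ed (nat_lit 9630) (nat_lit 3184) Col.g (nat_lit 3921) Dv.df)))
(Tr.nd (nat_lit 9632) (Tr.lf (Fc.ed (nat_lit 9631) (nat_lit 3921) Col.g (nat_lit 2131) (Dv.wd (nat_lit 9) [Mv.b (nat_lit 5922), Mv.b (nat_lit 8228), Mv.f (nat_lit 9630)])))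
(Tr.nd (nat_lit 9633) (Tr.lf (Fc.ed (nat_lit 9632) (nat_lit 2651) Col.e (nat_lit 3922) Dv.df))
(Tr.lf (Fc.ed (nat_lit 9633) (nat_lit 3922) Col.a (nat_lit 2333) (Dv.wd (nat_lit 15) [Mv.b (nat_lit 6369), Mv.f (nat_lit 7079), Mv.f (nat_lit 9632)]))))))
(Tr.nd (nat_lit 9636) (Tr.nd (nat_lit 9635) (Tr.lf (Fc.ed (nat_lit 9634) (nat_lit 3328) Col.e (nat_lit 3923) Dv.df))
(Tr.lf (Fc.ed (nat_lit 9635) (nat_lit 2741) Col.a (nat_lit 3924) Dv.df)))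
(Tr.nd (nat_lit 9637) (Tr.lf (Fc.ed (nat_lit 9636) (nat_lit 3924) Col.e (nat_lit 3687) (Dv.wd (nat_lit 56) [Mv.b (nat_lit 9209), Mv.f (nat_lit 7274), Mv.f (nat_lit 9635)])))
(Tr.nd (nat_lit 9638) (Tr.lf (Fc.ed (nat_lit 9637) (nat_lit 3716) Col.c (nat_lit 3925) Dv.df))
(Tr.lf (Fc.ed (nat_lit 9638) (nat_lit 3925) Col.b (nat_lit 3724) (Dv.wd (nat_lit 165) [Mv.f (nat_lit 9293), Mv.b (nat_lit 6433), Mv.f (nat_lit 3746), Mv.f (nat_lit 2741), Mv.b (nat_lit 552), Mv.b (nat_lit 1844), Mv.b (nat_lit 2956), Mv.f (nat_lit 5721), Mv.b (nat_lit 9276), Mv.f (nat_lit 9637)])))))))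
(Tr.nd (nat_lit 9644) (Tr.nd (nat_lit 9641) (Tr.nd (nat_lit 9640) (Tr.lf (Fc.ed (nat_lit 9639) (nat_lit 3793) Col.d (nat_lit 3925) (Dv.wd (nat_lit 116) [Mv.f (nat_lit 9638), Mv.b (nat_lit 9292), Mv.b (nat_lit 9417)])))
(Tr.lf (Fc.ed (nat_lit 9640) (nat_lit 1972) Col.d (nat_lit 997) (Dv.wd (nat_lit 89) [Mv.b (nat_lit 3127), Mv.f (nat_lit 3277), Mv.b (nat_lit 5503), Mv.f (nat_lit 9416), Mv.f (nat_lit 9639), Mv.b (nat_lit 9637), Mv.f (nat_lit 9276), Mv.b (nat_lit 5721), Mv.b (nat_lit 5523)]))))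
(Tr.nd (nat_lit 9642) (Tr.lf (Fc.al (nat_lit 9641) (nat_lit 3429) (nat_lit 2705) (Dv.wd (nat_lit 86) [Mv.b (nat_lit 7195), Mv.f (nat_lit 9640), Mv.b (nat_lit 3216), Mv.f (nat_lit 8726)])))
(Tr.nd (nat_lit 9643) (Tr.lf (Fc.al (nat_lit 9642) (nat_lit 1801) (nat_lit 3173) (Dv.wd (nat_lit 29) [Mv.b (nat_lit 8725), Mv.f (nat_lit 9641), Mv.f (nat_lit 7196)])))
(Tr.lf (Fc.ed (nat_lit 9643) (nat_lit 2705) Col.d (nat_lit 1031) (Dv.wd (nat_lit 120) [Mv.f (nat_lit 8726), Mv.f (nat_lit 9641)]))))))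
(Tr.nd (nat_lit 9647) (Tr.nd (nat_lit 9645) (Tr.lf (Fc.ed (nat_lit 9644) (nat_lit 2705) Col.e (nat_lit 1071) (Dv.wd (nat_lit 117) [Mv.f (nat_lit 8724), Mv.f (nat_lit 9641)])))
(Tr.nd (nat_lit 9646) (Tr.lf (Fc.ed (nat_lit 9645) (nat_lit 1801) Col.d (nat_lit 813) (Dv.wd (nat_lit 120) [Mv.f (nat_lit 8203), Mv.b (nat_lit 9642)])))
(Tr.lf (Fc.ed (nat_lit 9646) (nat_lit 1801) Col.e (nat_lit 762) (Dv.wd (nat_lit 117) [Mv.b (nat_lit 8204), Mv.b (nat_lit 9642)])))))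
(Tr.nd (nat_lit 9648) (Tr.lf (Fc.ed (nat_lit 9647) (nat_lit 2925) Col.e (nat_lit 1385) (Dv.wd (nat_lit 74) [Mv.f (nat_lit 4206), Mv.b (nat_lit 3489), Mv.f (nat_lit 3488), Mv.f (nat_lit 5171), Mv.f (nat_lit 9645), Mv.b (nat_lit 2667), Mv.b (nat_lit 2712), Mv.f (nat_lit 1834), Mv.b (nat_lit 3406), Mv.f (nat_lit 7677)])))
(Tr.nd (nat_lit 9649) (Tr.lf (Fc.ed (nat_lit 9648) (nat_lit 802) Col.e (nat_lit 813) (Dv.wd (nat_lit 146) [Mv.b (nat_lit 9645), Mv.f (nat_lit 5172), Mv.b (nat_lit 2955), Mv.b (nat_lit 2499), Mv.f (nat_lit 4205), Mv.b (nat_lit 9647), Mv.b (nat_lit 7677), Mv.b (nat_lit 3405), Mv.f (nat_lit 2196), Mv.b (nat_lit 2299)])))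
(Tr.lf (Fc.ed (nat_lit 9649) (nat_lit 1031) Col.e (nat_lit 1286) (Dv.wd (nat_lit 56) [Mv.f (nat_lit 3929), Mv.f (nat_lit 9648), Mv.f (nat_lit 3215)])))))))))
(Tr.nd (nat_lit 9670) (Tr.nd (nat_lit 9660) (Tr.nd (nat_lit 9655) (Tr.nd (nat_lit 9652) (Tr.nd (nat_lit 9651) (Tr.lf (Fc.al (nat_lit 9650) (nat_lit 1385) (nat_lit 2963) (Dv.wd (nat_lit 68) [Mv.b (nat_lit 7747), Mv.b (nat_lit 4900), Mv.b (nat_lit 674), Mv.b (nat_lit 2712), Mv.f (nat_lit 2298), Mv.f (nat_lit 9648), Mv.b (nat_lit 9645), Mv.b (nat_lit 5171), Mv.b (nat_lit 3488), Mv.f (nat_lit 3489), Mv.b (nat_lit 4206)])))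
(Tr.lf (Fc.al (nat_lit 9651) (nat_lit 2267) (nat_lit 3327) (Dv.wd (nat_lit 29) [Mv.b (nat_lit 8509), Mv.b (nat_lit 9650), Mv.b (nat_lit 6218)]))))
(Tr.nd (nat_lit 9653) (Tr.lf (Fc.ed (nat_lit 9652) (nat_lit 1385) Col.d (nat_lit 1682) (Dv.wd (nat_lit 120) [Mv.f (nat_lit 7747), Mv.b (nat_lit 9650)])))
(Tr.nd (nat_lit 9654) (Tr.lf (Fc.al (nat_lit 9653) (nat_lit 1506) (nat_lit 3674) (Dv.wd (nat_lit 30) [Mv.f (nat_lit 9186), Mv.b (nat_lit 9650), Mv.f (nat_lit 4511)])))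
(Tr.lf (Fc.ed (nat_lit 9654) (nat_lit 2267) Col.d (nat_lit 1690) (Dv.wd (nat_lit 120) [Mv.b (nat_lit 8510), Mv.b (nat_lit 9651)]))))))
(Tr.nd (nat_lit 9657) (Tr.nd (nat_lit 9656) (Tr.lf (Fc.ed (nat_lit 9655) (nat_lit 1506) Col.d (nat_lit 1822) (Dv.wd (nat_lit 120) [Mv.f (nat_lit 9185), Mv.b (nat_lit 9653)])))
(Tr.lf (Fc.ed (nat_lit 9656) (nat_lit 1245) Col.d (nat_lit 1320) (Dv.wd (nat_lit 28) [Mv.b (nat_lit 4512), Mv.f (nat_lit 9655), Mv.b (nat_lit 5214)]))))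
(Tr.nd (nat_lit 9658) (Tr.lf (Fc.ed (nat_lit 9657) (nat_lit 997) Col.e (nat_lit 997) (Dv.wd (nat_lit 74) [Mv.b (nat_lit 4914), Mv.f (nat_lit 2218), Mv.f (nat_lit 2371), Mv.b (nat_lit 3831), Mv.f (nat_lit 9656), Mv.f (nat_lit 4001), Mv.f (nat_lit 2499), Mv.f (nat_lit 2955), Mv.b (nat_lit 5523), Mv.f (nat_lit 9640)])))
(Tr.nd (nat_lit 9659) (Tr.lf (Fc.al (nat_lit 9658) (nat_lit 1103) (nat_lit 1286) (Dv.wd (nat_lit 57) [Mv.b (nat_lit 9649), Mv.f (nat_lit 3216), Mv.f (nat_lit 9657), Mv.b (nat_lit 3216), Mv.f (nat_lit 9649), Mv.b (nat_lit 3928)])))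
(Tr.lf (Fc.al (nat_lit 9659) (nat_lit 2925) (nat_lit 2387) (Dv.wd (nat_lit 120) [Mv.b (nat_lit 6482), Mv.b (nat_lit 9658), Mv.f (nat_lit 7677)])))))))
(Tr.nd (nat_lit 9665) (Tr.nd (nat_lit 9662) (Tr.nd (nat_lit 9661) (Tr.lf (Fc.ed (nat_lit 9660) (nat_lit 1103) Col.e (nat_lit 1031) (Dv.wd (nat_lit 117) [Mv.f (nat_lit 9649), Mv.b (nat_lit 9658)])))
(Tr.lf (Fc.ed (nat_lit 9661) (nat_lit 2387) Col.e (nat_lit 1385) (Dv.wd (nat_lit 117) [Mv.b (nat_lit 9647), Mv.f (nat_lit 9659)]))))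
(Tr.nd (nat_lit 9663) (Tr.lf (Fc.ed (nat_lit 9662) (nat_lit 2736) Col.e (nat_lit 1426) (Dv.wd (nat_lit 131) [Mv.f (nat_lit 4310), Mv.f (nat_lit 3488), Mv.f (nat_lit 5522), Mv.f (nat_lit 9640), Mv.f (nat_lit 9657), Mv.b (nat_lit 3127), Mv.b (nat_lit 2712), Mv.f (nat_lit 1834), Mv.f (nat_lit 2298), Mv.f (nat_lit 7261)])))
(Tr.nd (nat_lit 9664) (Tr.lf (Fc.al (nat_lit 9663) (nat_lit 2398) (nat_lit 1385) (Dv.wd (nat_lit 56) [Mv.b (nat_lit 9661), Mv.b (nat_lit 7262), Mv.f (nat_lit 9662), Mv.b (nat_lit 6502)])))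
(Tr.lf (Fc.al (nat_lit 9664) (nat_lit 2267) (nat_lit 1426) (Dv.wd (nat_lit 29) [Mv.b (nat_lit 6502), Mv.f (nat_lit 9663), Mv.b (nat_lit 6218)]))))))
(Tr.nd (nat_lit 9667) (Tr.nd (nat_lit 9666) (Tr.lf (Fc.ed (nat_lit 9665) (nat_lit 1426) Col.d (nat_lit 1690) (Dv.wd (nat_lit 120) [Mv.b (nat_lit 9654), Mv.f (nat_lit 9664)])))
(Tr.lf (Fc.al (nat_lit 9666) (nat_lit 1690) (nat_lit 762) (Dv.wd (nat_lit 42) [Mv.b (nat_lit 9646), Mv.f (nat_lit 9645), Mv.b (nat_lit 9648), Mv.f (nat_lit 7261), Mv.f (nat_lit 9662), Mv.f (nat_lit 9665)]))))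
(Tr.nd (nat_lit 9668) (Tr.lf (Fc.al (nat_lit 9667) (nat_lit 1071) (nat_lit 1682) (Dv.wd (nat_lit 29) [Mv.f (nat_lit 4919), Mv.f (nat_lit 9666), Mv.b (nat_lit 3317)])))
(Tr.nd (nat_lit 9669) (Tr.lf (Fc.al (nat_lit 9668) (nat_lit 1512) (nat_lit 1245) (Dv.wd (nat_lit 30) [Mv.b (nat_lit 4920), Mv.f (nat_lit 9666), Mv.f (nat_lit 4524)])))
(Tr.lf (Fc.al (nat_lit 9669) (nat_lit 2593) (nat_lit 1385) (Dv.wd (nat_lit 120) [Mv.f (nat_lit 9652), Mv.b (nat_lit 9667), Mv.f (nat_lit 6951)]))))))))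
(Tr.nd (nat_lit 9680) (Tr.nd (nat_lit 9675) (Tr.nd (nat_lit 9672) (Tr.nd (nat_lit 9671) (Tr.lf (Fc.al (nat_lit 9670) (nat_lit 2705) (nat_lit 3150) (Dv.wd (nat_lit 117) [Mv.b (nat_lit 8156), Mv.b (nat_lit 9667), Mv.b (nat_lit 9644)])))
(Tr.lf (Fc.ed (nat_lit 9671) (nat_lit 1245) Col.b (nat_lit 1539) (Dv.wd (nat_lit 119) [Mv.b (nat_lit 4581), Mv.f (nat_lit 9668)]))))
(Tr.nd (nat_lit 9673) (Tr.lf (Fc.ed (nat_lit 9672) (nat_lit 1385) Col.b (nat_lit 3397) (Dv.wd (nat_lit 119) [Mv.b (nat_lit 9243), Mv.f (nat_lit 9669)])))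
(Tr.nd (nat_lit 9674) (Tr.lf (Fc.al (nat_lit 9673) (nat_lit 1506) (nat_lit 2604) (Dv.wd (nat_lit 30) [Mv.b (nat_lit 6975), Mv.f (nat_lit 9669), Mv.f (nat_lit 4511)])))
(Tr.lf (Fc.al (nat_lit 9674) (nat_lit 1031) (nat_lit 1718) (Dv.wd (nat_lit 120) [Mv.b (nat_lit 8157), Mv.b (nat_lit 9670), Mv.f (nat_lit 9643)]))))))
(Tr.nd (nat_lit 9677) (Tr.nd (nat_lit 9676) (Tr.lf (Fc.ed (nat_lit 9675) (nat_lit 1506) Col.d (nat_lit 904) (Dv.wd (nat_lit 120) [Mv.b (nat_lit 6976), Mv.b (nat_lit 9673)])))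
(Tr.lf (Fc.al (nat_lit 9676) (nat_lit 1986) (nat_lit 294) (Dv.wd (nat_lit 128) [Mv.f (nat_lit 4993), Mv.b (nat_lit 9674), Mv.f (nat_lit 5554)]))))
(Tr.nd (nat_lit 9678) (Tr.lf (Fc.ed (nat_lit 9677) (nat_lit 294) Col.gi (nat_lit 1031) (Dv.wd (nat_lit 128) [Mv.f (nat_lit 5554), Mv.f (nat_lit 9676)])))
(Tr.nd (nat_lit 9679) (Tr.lf (Fc.al (nat_lit 9678) (nat_lit 1771) (nat_lit 2705) (Dv.wd (nat_lit 60) [Mv.f (nat_lit 9643), Mv.b (nat_lit 9660), Mv.f (nat_lit 3406), Mv.f (nat_lit 1834), Mv.f (nat_lit 2298), Mv.f (nat_lit 7261), Mv.f (nat_lit 9662), Mv.f (nat_lit 4310), Mv.f (nat_lit 3489), Mv.b (nat_lit 4459), Mv.b (nat_lit 5116)])))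
(Tr.lf (Fc.ed (nat_lit 9679) (nat_lit 1771) Col.d (nat_lit 1031) (Dv.wd (nat_lit 120) [Mv.b (nat_lit 9643), Mv.b (nat_lit 9678)])))))))
(Tr.nd (nat_lit 9685) (Tr.nd (nat_lit 9682) (Tr.nd (nat_lit 9681) (Tr.lf (Fc.ed (nat_lit 9680) (nat_lit 3396) Col.gi (nat_lit 2648) (Dv.wd (nat_lit 50) [Mv.b (nat_lit 7071), Mv.b (nat_lit 5116), Mv.f (nat_lit 9679), Mv.b (nat_lit 9677), Mv.f (nat_lit 2713), Mv.f (nat_lit 2674), Mv.f (nat_lit 4698), Mv.b (nat_lit 8252), Mv.b (nat_lit 8655)])))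
(Tr.lf (Fc.ed (nat_lit 9681) (nat_lit 2195) Col.gi (nat_lit 3396) (Dv.wd (nat_lit 12) [Mv.f (nat_lit 9680), Mv.f (nat_lit 7072), Mv.b (nat_lit 6560)]))))
(Tr.nd (nat_lit 9683) (Tr.lf (Fc.ed (nat_lit 9682) (nat_lit 3479) Col.g (nat_lit 2382) (Dv.wd (nat_lit 123) [Mv.b (nat_lit 6473), Mv.b (nat_lit 5225), Mv.b (nat_lit 4061), Mv.b (nat_lit 2287), Mv.b (nat_lit 1787), Mv.f (nat_lit 2625), Mv.f (nat_lit 539), Mv.f (nat_lit 3830), Mv.f (nat_lit 9671), Mv.b (nat_lit 8814)])))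
(Tr.nd (nat_lit 9684) (Tr.lf (Fc.ed (nat_lit 9683) (nat_lit 3853) Col.g (nat_lit 3479) (Dv.wd (nat_lit 17) [Mv.f (nat_lit 9682), Mv.f (nat_lit 8133), Mv.b (nat_lit 9521)])))
(Tr.lf (Fc.ed (nat_lit 9684) (nat_lit 3257) Col.f (nat_lit 3926) Dv.df)))))
(Tr.nd (nat_lit 9688) (Tr.nd (nat_lit 9686) (Tr.lf (Fc.ed (nat_lit 9685) (nat_lit 3926) Col.a (nat_lit 2301) (Dv.wd (nat_lit 16) [Mv.b (nat_lit 9452), Mv.b (nat_lit 9451), Mv.f (nat_lit 9684)])))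
(Tr.nd (nat_lit 9687) (Tr.lf (Fc.ed (nat_lit 9686) (nat_lit 2595) Col.f (nat_lit 3927) Dv.df))
(Tr.lf (Fc.ed (nat_lit 9687) (nat_lit 3927) Col.b (nat_lit 2774) (Dv.wd (nat_lit 66) [Mv.b (nat_lit 7344), Mv.b (nat_lit 6955), Mv.f (nat_lit 9686)])))))
(Tr.nd (nat_lit 9689) (Tr.lf (Fc.ed (nat_lit 9688) (nat_lit 3410) Col.e (nat_lit 3928) Dv.df))
(Tr.nd (nat_lit 9690) (Tr.lf (Fc.ed (nat_lit 9689) (nat_lit 3162) Col.d (nat_lit 3929) Dv.df))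
(Tr.lf (Fc.ed (nat_lit 9690) (nat_lit 3158) Col.a (nat_lit 3930) Dv.df))))))))))
(Tr.nd (nat_lit 9773) (Tr.nd (nat_lit 9732) (Tr.nd (nat_lit 9711) (Tr.nd (nat_lit 9701) (Tr.nd (nat_lit 9696) (Tr.nd (nat_lit 9693) (Tr.nd (nat_lit 9692) (Tr.lf (Fc.ed (nat_lit 9691) (nat_lit 3930) Col.f (nat_lit 3380) (Dv.wd (nat_lit 10) [Mv.b (nat_lit 8621), Mv.f (nat_lit 8172), Mv.f (nat_lit 9690)])))
(Tr.lf (Fc.ed (nat_lit 9692) (nat_lit 2146) Col.gi (nat_lit 3931) Dv.df)))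
(Tr.nd (nat_lit 9694) (Tr.lf (Fc.ed (nat_lit 9693) (nat_lit 3931) Col.gi (nat_lit 1897) (Dv.wd (nat_lit 24) [Mv.b (nat_lit 6202), Mv.b (nat_lit 6201), Mv.f (nat_lit 9692)])))
(Tr.nd (nat_lit 9695) (Tr.lf (Fc.ed (nat_lit 9694) (nat_lit 2006) Col.gi (nat_lit 3932) Dv.df))
(Tr.lf (Fc.ed (nat_lit 9695) (nat_lit 3932) Col.gi (nat_lit 2088) (Dv.wd (nat_lit 24) [Mv.f (nat_lit 8650), Mv.f (nat_lit 8651), Mv.f (nat_lit 9694)]))))))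
(Tr.nd (nat_lit 9698) (Tr.nd (nat_lit 9697) (Tr.lf (Fc.ed (nat_lit 9696) (nat_lit 2781) Col.f (nat_lit 3933) Dv.df))
(Tr.lf (Fc.ed (nat_lit 9697) (nat_lit 3933) Col.a (nat_lit 2965) (Dv.wd (nat_lit 23) [Mv.f (nat_lit 7751), Mv.b (nat_lit 7360), Mv.f (nat_lit 9696)]))))
(Tr.nd (nat_lit 9699) (Tr.lf (Fc.ed (nat_lit 9698) (nat_lit 2782) Col.e (nat_lit 3934) Dv.df))
(Tr.nd (nat_lit 9700) (Tr.lf (Fc.ed (nat_lit 9699) (nat_lit 2946) Col.g (nat_lit 3935) Dv.df))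
(Tr.lf (Fc.ed (nat_lit 9700) (nat_lit 2723) Col.e (nat_lit 3936) Dv.df))))))
(Tr.nd (nat_lit 9706) (Tr.nd (nat_lit 9703) (Tr.nd (nat_lit 9702) (Tr.lf (Fc.ed (nat_lit 9701) (nat_lit 2816) Col.e (nat_lit 3937) Dv.df))
(Tr.lf (Fc.ed (nat_lit 9702) (nat_lit 3524) Col.g (nat_lit 3938) Dv.df)))
(Tr.nd (nat_lit 9704) (Tr.lf (Fc.ed (nat_lit 9703) (nat_lit 3758) Col.c (nat_lit 3939) Dv.df))
(Tr.nd (nat_lit 9705) (Tr.lf (Fc.ed (nat_lit 9704) (nat_lit 3872) Col.c (nat_lit 3940) Dv.df))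
(Tr.lf (Fc.ed (nat_lit 9705) (nat_lit 3940) Col.b (nat_lit 2014) (Dv.wd (nat_lit 101) [Mv.b (nat_lit 5608), Mv.b (nat_lit 3360), Mv.b (nat_lit 822), Mv.f (nat_lit 836), Mv.f (nat_lit 735), Mv.b (nat_lit 760), Mv.b (nat_lit 2855), Mv.f (nat_lit 5806), Mv.b (nat_lit 9551), Mv.f (nat_lit 9704)]))))))
(Tr.nd (nat_lit 9708) (Tr.nd (nat_lit 9707) (Tr.lf (Fc.ed (nat_lit 9706) (nat_lit 2404) Col.gi (nat_lit 3941) Dv.df))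
(Tr.lf (Fc.ed (nat_lit 9707) (nat_lit 3679) Col.b (nat_lit 3942) Dv.df)))
(Tr.nd (nat_lit 9709) (Tr.lf (Fc.ed (nat_lit 9708) (nat_lit 2909) Col.gi (nat_lit 3943) Dv.df))
(Tr.nd (nat_lit 9710) (Tr.lf (Fc.ed (nat_lit 9709) (nat_lit 3943) Col.gi (nat_lit 3096) (Dv.wd (nat_lit 24) [Mv.b (nat_lit 8044), Mv.b (nat_lit 7643), Mv.f (nat_lit 9708)])))
(Tr.lf (Fc.ed (nat_lit 9710) (nat_lit 3552) Col.a (nat_lit 3944) Dv.df)))))))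
(Tr.nd (nat_lit 9721) (Tr.nd (nat_lit 9716) (Tr.nd (nat_lit 9713) (Tr.nd (nat_lit 9712) (Tr.lf (Fc.ed (nat_lit 9711) (nat_lit 3944) Col.f (nat_lit 2831) (Dv.wd (nat_lit 10) [Mv.b (nat_lit 7473), Mv.b (nat_lit 8966), Mv.f (nat_lit 9710)])))
(Tr.lf (Fc.ed (nat_lit 9712) (nat_lit 3137) Col.g (nat_lit 3945) Dv.df)))
(Tr.nd (nat_lit 9714) (Tr.lf (Fc.ed (nat_lit 9713) (nat_lit 3945) Col.g (nat_lit 2563) (Dv.wd (nat_lit 9) [Mv.b (nat_lit 6881), Mv.b (nat_lit 8135), Mv.f (nat_lit 9712)])))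
(Tr.nd (nat_lit 9715) (Tr.lf (Fc.ed (nat_lit 9714) (nat_lit 2688) Col.f (nat_lit 3946) Dv.df))
(Tr.lf (Fc.ed (nat_lit 9715) (nat_lit 3946) Col.a (nat_lit 2513) (Dv.wd (nat_lit 16) [Mv.f (nat_lit 6766), Mv.b (nat_lit 7163), Mv.f (nat_lit 9714)]))))))
(Tr.nd (nat_lit 9718) (Tr.nd (nat_lit 9717) (Tr.lf (Fc.ed (nat_lit 9716) (nat_lit 3946) Col.b (nat_lit 3946) (Dv.wd (nat_lit 66) [Mv.b (nat_lit 9714), Mv.f (nat_lit 7164), Mv.f (nat_lit 9714)])))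
(Tr.lf (Fc.ed (nat_lit 9717) (nat_lit 3946) Col.d (nat_lit 2494) (Dv.wd (nat_lit 21) [Mv.f (nat_lit 6724), Mv.f (nat_lit 7162), Mv.f (nat_lit 9714)]))))
(Tr.nd (nat_lit 9719) (Tr.lf (Fc.ed (nat_lit 9718) (nat_lit 3946) Col.e (nat_lit 3776) (Dv.wd (nat_lit 22) [Mv.b (nat_lit 9385), Mv.b (nat_lit 8538), Mv.f (nat_lit 5651), Mv.f (nat_lit 7165), Mv.f (nat_lit 9714)])))
(Tr.nd (nat_lit 9720) (Tr.lf (Fc.ed (nat_lit 9719) (nat_lit 3144) Col.a (nat_lit 3947) Dv.df))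
(Tr.lf (Fc.ed (nat_lit 9720) (nat_lit 3947) Col.f (nat_lit 3360) (Dv.wd (nat_lit 10) [Mv.b (nat_lit 8580), Mv.b (nat_lit 8147), Mv.f (nat_lit 9719)])))))))
(Tr.nd (nat_lit 9726) (Tr.nd (nat_lit 9723) (Tr.nd (nat_lit 9722) (Tr.lf (Fc.ed (nat_lit 9721) (nat_lit 2323) Col.a (nat_lit 3948) Dv.df))
(Tr.lf (Fc.ed (nat_lit 9722) (nat_lit 3948) Col.f (nat_lit 2294) (Dv.wd (nat_lit 35) [Mv.b (nat_lit 6949), Mv.b (nat_lit 6948), Mv.f (nat_lit 9721)]))))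
(Tr.nd (nat_lit 9724) (Tr.lf (Fc.ed (nat_lit 9723) (nat_lit 3888) Col.c (nat_lit 3949) Dv.df))
(Tr.nd (nat_lit 9725) (Tr.lf (Fc.ed (nat_lit 9724) (nat_lit 3532) Col.gi (nat_lit 3950) Dv.df))
(Tr.lf (Fc.ed (nat_lit 9725) (nat_lit 3950) Col.gi (nat_lit 3817) (Dv.wd (nat_lit 24) [Mv.f (nat_lit 9460), Mv.f (nat_lit 9233), Mv.f (nat_lit 9724)]))))))
(Tr.nd (nat_lit 9729) (Tr.nd (nat_lit 9727) (Tr.lf (Fc.ed (nat_lit 9726) (nat_lit 3696) Col.gi (nat_lit 3951) Dv.df))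
(Tr.nd (nat_lit 9728) (Tr.lf (Fc.ed (nat_lit 9727) (nat_lit 2238) Col.g (nat_lit 3952) Dv.df))
(Tr.lf (Fc.ed (nat_lit 9728) (nat_lit 3952) Col.g (nat_lit 3662) (Dv.wd (nat_lit 9) [Mv.b (nat_lit 9163), Mv.f (nat_lit 7963), Mv.f (nat_lit 9727)])))))
(Tr.nd (nat_lit 9730) (Tr.lf (Fc.ed (nat_lit 9729) (nat_lit 1896) Col.e (nat_lit 3953) Dv.df))
(Tr.nd (nat_lit 9731) (Tr.lf (Fc.ed (nat_lit 9730) (nat_lit 3365) Col.c (nat_lit 3954) Dv.df))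
(Tr.lf (Fc.ed (nat_lit 9731) (nat_lit 2657) Col.d (nat_lit 3955) Dv.df))))))))
(Tr.nd (nat_lit 9752) (Tr.nd (nat_lit 9742) (Tr.nd (nat_lit 9737) (Tr.nd (nat_lit 9734) (Tr.nd (nat_lit 9733) (Tr.lf (Fc.ed (nat_lit 9732) (nat_lit 3880) Col.gi (nat_lit 3956) Dv.df))
(Tr.lf (Fc.ed (nat_lit 9733) (nat_lit 3956) Col.gi (nat_lit 3764) (Dv.wd (nat_lit 24) [Mv.b (nat_lit 9360), Mv.f (nat_lit 9562), Mv.f (nat_lit 9732)]))))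
(Tr.nd (nat_lit 9735) (Tr.lf (Fc.ed (nat_lit 9734) (nat_lit 3377) Col.f (nat_lit 3957) Dv.df))
(Tr.nd (nat_lit 9736) (Tr.lf (Fc.ed (nat_lit 9735) (nat_lit 3957) Col.a (nat_lit 3282) (Dv.wd (nat_lit 23) [Mv.f (nat_lit 8418), Mv.f (nat_lit 8615), Mv.f (nat_lit 9734)])))
(Tr.lf (Fc.ed (nat_lit 9736) (nat_lit 3613) Col.g (nat_lit 3958) Dv.df)))))
(Tr.nd (nat_lit 9739) (Tr.nd (nat_lit 9738) (Tr.lf (Fc.ed (nat_lit 9737) (nat_lit 3958) Col.g (nat_lit 3623) (Dv.wd (nat_lit 9) [Mv.b (nat_lit 9111), Mv.b (nat_lit 9110), Mv.f (nat_lit 9736)])))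
(Tr.lf (Fc.ed (nat_lit 9738) (nat_lit 2222) Col.f (nat_lit 3959) Dv.df)))
(Tr.nd (nat_lit 9740) (Tr.lf (Fc.ed (nat_lit 9739) (nat_lit 2275) Col.gi (nat_lit 3960) Dv.df))
(Tr.nd (nat_lit 9741) (Tr.lf (Fc.ed (nat_lit 9740) (nat_lit 3960) Col.gi (nat_lit 3101) (Dv.wd (nat_lit 24) [Mv.b (nat_lit 8055), Mv.b (nat_lit 6235), Mv.f (nat_lit 9739)])))
(Tr.lf (Fc.ed (nat_lit 9741) (nat_lit 3958) Col.d (nat_lit 3961) Dv.df))))))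
(Tr.nd (nat_lit 9747) (Tr.nd (nat_lit 9744) (Tr.nd (nat_lit 9743) (Tr.lf (Fc.ed (nat_lit 9742) (nat_lit 3778) Col.c (nat_lit 3962) Dv.df))
(Tr.lf (Fc.ed (nat_lit 9743) (nat_lit 3962) Col.b (nat_lit 1741) (Dv.wd (nat_lit 106) [Mv.b (nat_lit 5044), Mv.f (nat_lit 4657), Mv.b (nat_lit 5811), Mv.f (nat_lit 9550), Mv.f (nat_lit 9704), Mv.f (nat_lit 9705), Mv.f (nat_lit 5609), Mv.f (nat_lit 6268), Mv.b (nat_lit 9389), Mv.f (nat_lit 9742)]))))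
(Tr.nd (nat_lit 9745) (Tr.lf (Fc.ed (nat_lit 9744) (nat_lit 3372) Col.gi (nat_lit 3963) Dv.df))
(Tr.nd (nat_lit 9746) (Tr.lf (Fc.ed (nat_lit 9745) (nat_lit 3963) Col.gi (nat_lit 3391) (Dv.wd (nat_lit 24) [Mv.b (nat_lit 8642), Mv.b (nat_lit 8605), Mv.f (nat_lit 9744)])))
(Tr.lf (Fc.ed (nat_lit 9746) (nat_lit 3477) Col.c (nat_lit 3964) Dv.df)))))
(Tr.nd (nat_lit 9749) (Tr.nd (nat_lit 9748) (Tr.lf (Fc.ed (nat_lit 9747) (nat_lit 3502) Col.gi (nat_lit 3965) Dv.df))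
(Tr.lf (Fc.ed (nat_lit 9748) (nat_lit 3785) Col.f (nat_lit 3966) Dv.df)))
(Tr.nd (nat_lit 9750) (Tr.lf (Fc.ed (nat_lit 9749) (nat_lit 3966) Col.a (nat_lit 1989) (Dv.wd (nat_lit 16) [Mv.b (nat_lit 6299), Mv.b (nat_lit 9402), Mv.f (nat_lit 9748)])))
(Tr.nd (nat_lit 9751) (Tr.lf (Fc.ed (nat_lit 9750) (nat_lit 3792) Col.b (nat_lit 3967) Dv.df))
(Tr.lf (Fc.ed (nat_lit 9751) (nat_lit 3967) Col.g (nat_lit 3940) (Dv.wd (nat_lit 118) [Mv.b (nat_lit 9704), Mv.f (nat_lit 9551), Mv.b (nat_lit 5806), Mv.f (nat_lit 2855), Mv.f (nat_lit 760), Mv.b (nat_lit 2947), Mv.b (nat_lit 5137), Mv.b (nat_lit 8356), Mv.f (nat_lit 9415), Mv.f (nat_lit 9750)]))))))))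
(Tr.nd (nat_lit 9762) (Tr.nd (nat_lit 9757) (Tr.nd (nat_lit 9754) (Tr.nd (nat_lit 9753) (Tr.lf (Fc.ed (nat_lit 9752) (nat_lit 2548) Col.d (nat_lit 3967) (Dv.wd (nat_lit 89) [Mv.f (nat_lit 9751), Mv.b (nat_lit 9704), Mv.f (nat_lit 9551), Mv.b (nat_lit 5806), Mv.b (nat_lit 2854), Mv.f (nat_lit 2210), Mv.b (nat_lit 4810), Mv.f (nat_lit 5610), Mv.f (nat_lit 6855)])))
(Tr.lf (Fc.ed (nat_lit 9753) (nat_lit 3792) Col.d (nat_lit 2960) (Dv.wd (nat_lit 58) [Mv.f (nat_lit 7742), Mv.f (nat_lit 9752), Mv.b (nat_lit 9750)]))))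
(Tr.nd (nat_lit 9755) (Tr.lf (Fc.ed (nat_lit 9754) (nat_lit 2516) Col.d (nat_lit 3968) Dv.df))
(Tr.nd (nat_lit 9756) (Tr.lf (Fc.ed (nat_lit 9755) (nat_lit 3968) Col.b (nat_lit 3311) (Dv.wd (nat_lit 37) [Mv.b (nat_lit 8474), Mv.f (nat_lit 6774), Mv.f (nat_lit 9754)])))
(Tr.lf (Fc.ed (nat_lit 9756) (nat_lit 2392) Col.f (nat_lit 3969) Dv.df)))))
(Tr.nd (nat_lit 9759) (Tr.nd (nat_lit 9758) (Tr.lf (Fc.ed (nat_lit 9757) (nat_lit 3969) Col.c (nat_lit 2725) (Dv.wd (nat_lit 34) [Mv.f (nat_lit 7239), Mv.f (nat_lit 6491), Mv.f (nat_lit 9756)])))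
(Tr.lf (Fc.ed (nat_lit 9758) (nat_lit 3231) Col.a (nat_lit 3970) Dv.df)))
(Tr.nd (nat_lit 9760) (Tr.lf (Fc.ed (nat_lit 9759) (nat_lit 3970) Col.d (nat_lit 3704) (Dv.wd (nat_lit 28) [Mv.f (nat_lit 9252), Mv.f (nat_lit 8317), Mv.f (nat_lit 9758)])))
(Tr.nd (nat_lit 9761) (Tr.lf (Fc.ed (nat_lit 9760) (nat_lit 3221) Col.g (nat_lit 3971) Dv.df))
(Tr.lf (Fc.ed (nat_lit 9761) (nat_lit 3580) Col.d (nat_lit 3972) Dv.df))))))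
(Tr.nd (nat_lit 9767) (Tr.nd (nat_lit 9764) (Tr.nd (nat_lit 9763) (Tr.lf (Fc.ed (nat_lit 9762) (nat_lit 3671) Col.a (nat_lit 3973) Dv.df))
(Tr.lf (Fc.ed (nat_lit 9763) (nat_lit 2170) Col.a (nat_lit 3974) Dv.df)))
(Tr.nd (nat_lit 9765) (Tr.lf (Fc.ed (nat_lit 9764) (nat_lit 3974) Col.f (nat_lit 3771) (Dv.wd (nat_lit 35) [Mv.b (nat_lit 9375), Mv.b (nat_lit 6284), Mv.f (nat_lit 9763)])))
(Tr.nd (nat_lit 9766) (Tr.lf (Fc.ed (nat_lit 9765) (nat_lit 3974) Col.b (nat_lit 3811) (Dv.wd (nat_lit 65) [Mv.b (nat_lit 9447), Mv.f (nat_lit 6171), Mv.f (nat_lit 3901), Mv.b (nat_lit 6010), Mv.f (nat_lit 9763)])))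
(Tr.lf (Fc.ed (nat_lit 9766) (nat_lit 3766) Col.g (nat_lit 3975) Dv.df)))))
(Tr.nd (nat_lit 9770) (Tr.nd (nat_lit 9768) (Tr.lf (Fc.ed (nat_lit 9767) (nat_lit 3975) Col.g (nat_lit 1640) (Dv.wd (nat_lit 9) [Mv.b (nat_lit 8605), Mv.f (nat_lit 9364), Mv.f (nat_lit 9766)])))
(Tr.nd (nat_lit 9769) (Tr.lf (Fc.ed (nat_lit 9768) (nat_lit 1855) Col.d (nat_lit 3976) Dv.df))
(Tr.lf (Fc.ed (nat_lit 9769) (nat_lit 3358) Col.gi (nat_lit 3977) Dv.df))))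
(Tr.nd (nat_lit 9771) (Tr.lf (Fc.ed (nat_lit 9770) (nat_lit 3962) Col.f (nat_lit 3978) Dv.df))
(Tr.nd (nat_lit 9772) (Tr.lf (Fc.ed (nat_lit 9771) (nat_lit 3978) Col.b (nat_lit 2151) (Dv.wd (nat_lit 66) [Mv.b (nat_lit 5963), Mv.b (nat_lit 9743), Mv.f (nat_lit 9770)])))
(Tr.lf (Fc.ed (nat_lit 9772) (nat_lit 3398) Col.b (nat_lit 3979) Dv.df)))))))))
(Tr.nd (nat_lit 9814) (Tr.nd (nat_lit 9793) (Tr.nd (nat_lit 9783) (Tr.nd (nat_lit 9778) (Tr.nd (nat_lit 9775) (Tr.nd (nat_lit 9774) (Tr.lf (Fc.ed (nat_lit 9773) (nat_lit 3979) Col.f (nat_lit 3109) (Dv.wd (nat_lit 20) [Mv.f (nat_lit 8076), Mv.f (nat_lit 8658), Mv.f (nat_lit 9772)])))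
(Tr.lf (Fc.ed (nat_lit 9774) (nat_lit 2778) Col.c (nat_lit 3980) Dv.df)))
(Tr.nd (nat_lit 9776) (Tr.lf (Fc.ed (nat_lit 9775) (nat_lit 1788) Col.e (nat_lit 3981) Dv.df))
(Tr.nd (nat_lit 9777) (Tr.lf (Fc.ed (nat_lit 9776) (nat_lit 2930) Col.f (nat_lit 3982) Dv.df))
(Tr.lf (Fc.ed (nat_lit 9777) (nat_lit 3982) Col.a (nat_lit 2011) (Dv.wd (nat_lit 23) [Mv.f (nat_lit 5603), Mv.b (nat_lit 7686), Mv.f (nat_lit 9776)]))))))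
(Tr.nd (nat_lit 9780) (Tr.nd (nat_lit 9779) (Tr.lf (Fc.ed (nat_lit 9778) (nat_lit 3366) Col.a (nat_lit 3983) Dv.df))
(Tr.lf (Fc.ed (nat_lit 9779) (nat_lit 3983) Col.f (nat_lit 3485) (Dv.wd (nat_lit 10) [Mv.b (nat_lit 8831), Mv.f (nat_lit 8591), Mv.f (nat_lit 9778)]))))
(Tr.nd (nat_lit 9781) (Tr.lf (Fc.ed (nat_lit 9780) (nat_lit 3859) Col.c (nat_lit 3984) Dv.df))
(Tr.nd (nat_lit 9782) (Tr.lf (Fc.ed (nat_lit 9781) (nat_lit 1969) Col.g (nat_lit 3985) Dv.df))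
(Tr.lf (Fc.ed (nat_lit 9782) (nat_lit 2628) Col.g (nat_lit 3986) Dv.df))))))
(Tr.nd (nat_lit 9788) (Tr.nd (nat_lit 9785) (Tr.nd (nat_lit 9784) (Tr.lf (Fc.ed (nat_lit 9783) (nat_lit 3330) Col.gi (nat_lit 3987) Dv.df))
(Tr.lf (Fc.ed (nat_lit 9784) (nat_lit 1610) Col.d (nat_lit 3988) Dv.df)))
(Tr.nd (nat_lit 9786) (Tr.lf (Fc.ed (nat_lit 9785) (nat_lit 3870) Col.e (nat_lit 3989) Dv.df))
(Tr.nd (nat_lit 9787) (Tr.lf (Fc.ed (nat_lit 9786) (nat_lit 3989) Col.d (nat_lit 2626) (Dv.wd (nat_lit 91) [Mv.f (nat_lit 7017), Mv.f (nat_lit 4823), Mv.b (nat_lit 3843), Mv.b (nat_lit 2333), Mv.f (nat_lit 2247), Mv.f (nat_lit 989), Mv.b (nat_lit 2380), Mv.f (nat_lit 4860), Mv.f (nat_lit 9548), Mv.f (nat_lit 9785)])))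
(Tr.lf (Fc.ed (nat_lit 9787) (nat_lit 3564) Col.b (nat_lit 3990) Dv.df)))))
(Tr.nd (nat_lit 9790) (Tr.nd (nat_lit 9789) (Tr.lf (Fc.ed (nat_lit 9788) (nat_lit 1474) Col.b (nat_lit 3991) Dv.df))
(Tr.lf (Fc.ed (nat_lit 9789) (nat_lit 3472) Col.e (nat_lit 3992) Dv.df)))
(Tr.nd (nat_lit 9791) (Tr.lf (Fc.ed (nat_lit 9790) (nat_lit 2804) Col.gi (nat_lit 3993) Dv.df))
(Tr.nd (nat_lit 9792) (Tr.lf (Fc.ed (nat_lit 9791) (nat_lit 3993) Col.gi (nat_lit 1816) (Dv.wd (nat_lit 24) [Mv.f (nat_lit 7844), Mv.f (nat_lit 7845), Mv.f (nat_lit 9790)])))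
(Tr.lf (Fc.ed (nat_lit 9792) (nat_lit 2675) Col.g (nat_lit 3994) Dv.df)))))))
(Tr.nd (nat_lit 9803) (Tr.nd (nat_lit 9798) (Tr.nd (nat_lit 9795) (Tr.nd (nat_lit 9794) (Tr.lf (Fc.ed (nat_lit 9793) (nat_lit 3846) Col.c (nat_lit 3995) Dv.df))
(Tr.lf (Fc.ed (nat_lit 9794) (nat_lit 3995) Col.b (nat_lit 2443) (Dv.wd (nat_lit 106) [Mv.b (nat_lit 6599), Mv.f (nat_lit 6302), Mv.b (nat_lit 7172), Mv.b (nat_lit 7877), Mv.f (nat_lit 8084), Mv.f (nat_lit 8085), Mv.b (nat_lit 5602), Mv.b (nat_lit 5750), Mv.b (nat_lit 9510), Mv.f (nat_lit 9793)]))))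
(Tr.nd (nat_lit 9796) (Tr.lf (Fc.ed (nat_lit 9795) (nat_lit 3778) Col.f (nat_lit 3996) Dv.df))
(Tr.nd (nat_lit 9797) (Tr.lf (Fc.ed (nat_lit 9796) (nat_lit 3996) Col.c (nat_lit 3978) (Dv.wd (nat_lit 34) [Mv.b (nat_lit 9770), Mv.b (nat_lit 9742), Mv.f (nat_lit 9795)])))
(Tr.lf (Fc.ed (nat_lit 9797) (nat_lit 3996) Col.a (nat_lit 2348) (Dv.wd (nat_lit 23) [Mv.b (nat_lit 6408), Mv.f (nat_lit 9388), Mv.f (nat_lit 9795)]))))))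
(Tr.nd (nat_lit 9800) (Tr.nd (nat_lit 9799) (Tr.lf (Fc.ed (nat_lit 9798) (nat_lit 3920) Col.a (nat_lit 3978) (Dv.wd (nat_lit 76) [Mv.b (nat_lit 9796), Mv.f (nat_lit 9797), Mv.f (nat_lit 9629)])))
(Tr.lf (Fc.ed (nat_lit 9799) (nat_lit 2288) Col.g (nat_lit 3997) Dv.df)))
(Tr.nd (nat_lit 9801) (Tr.lf (Fc.ed (nat_lit 9800) (nat_lit 1005) Col.c (nat_lit 3998) Dv.df))
(Tr.nd (nat_lit 9802) (Tr.lf (Fc.ed (nat_lit 9801) (nat_lit 3658) Col.gi (nat_lit 3999) Dv.df))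
(Tr.lf (Fc.ed (nat_lit 9802) (nat_lit 3999) Col.gi (nat_lit 3436) (Dv.wd (nat_lit 24) [Mv.f (nat_lit 8740), Mv.f (nat_lit 9158), Mv.f (nat_lit 9801)])))))))
(Tr.nd (nat_lit 9808) (Tr.nd (nat_lit 9805) (Tr.nd (nat_lit 9804) (Tr.lf (Fc.ed (nat_lit 9803) (nat_lit 3786) Col.c (nat_lit 4000) Dv.df))
(Tr.lf (Fc.ed (nat_lit 9804) (nat_lit 3663) Col.d (nat_lit 4001) Dv.df)))
(Tr.nd (nat_lit 9806) (Tr.lf (Fc.ed (nat_lit 9805) (nat_lit 4001) Col.a (nat_lit 1877) (Dv.wd (nat_lit 8) [Mv.f (nat_lit 5425), Mv.b (nat_lit 9166), Mv.f (nat_lit 9804)])))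
(Tr.nd (nat_lit 9807) (Tr.lf (Fc.ed (nat_lit 9806) (nat_lit 4001) Col.f (nat_lit 3440) (Dv.wd (nat_lit 11) [Mv.f (nat_lit 8747), Mv.f (nat_lit 9165), Mv.f (nat_lit 9804)])))
(Tr.lf (Fc.ed (nat_lit 9807) (nat_lit 3966) Col.e (nat_lit 4001) (Dv.wd (nat_lit 57) [Mv.f (nat_lit 9806), Mv.f (nat_lit 8748), Mv.f (nat_lit 9156), Mv.f (nat_lit 9401), Mv.f (nat_lit 9748)]))))))
(Tr.nd (nat_lit 9811) (Tr.nd (nat_lit 9809) (Tr.lf (Fc.ed (nat_lit 9808) (nat_lit 3511) Col.c (nat_lit 4002) Dv.df))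
(Tr.nd (nat_lit 9810) (Tr.lf (Fc.ed (nat_lit 9809) (nat_lit 4002) Col.f (nat_lit 2446) (Dv.wd (nat_lit 26) [Mv.b (nat_lit 6606), Mv.b (nat_lit 8880), Mv.f (nat_lit 9808)])))
(Tr.lf (Fc.ed (nat_lit 9810) (nat_lit 2155) Col.g (nat_lit 4003) Dv.df))))
(Tr.nd (nat_lit 9812) (Tr.lf (Fc.ed (nat_lit 9811) (nat_lit 4003) Col.g (nat_lit 3632) (Dv.wd (nat_lit 9) [Mv.f (nat_lit 9111), Mv.b (nat_lit 9092), Mv.f (nat_lit 9810)])))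
(Tr.nd (nat_lit 9813) (Tr.lf (Fc.ed (nat_lit 9812) (nat_lit 3349) Col.d (nat_lit 4004) Dv.df))
(Tr.lf (Fc.ed (nat_lit 9813) (nat_lit 3813) Col.d (nat_lit 4005) Dv.df))))))))
(Tr.nd (nat_lit 9835) (Tr.nd (nat_lit 9824) (Tr.nd (nat_lit 9819) (Tr.nd (nat_lit 9816) (Tr.nd (nat_lit 9815) (Tr.lf (Fc.ed (nat_lit 9814) (nat_lit 4005) Col.f (nat_lit 2904) (Dv.wd (nat_lit 11) [Mv.b (nat_lit 7633), Mv.b (nat_lit 9452), Mv.f (nat_lit 9813)])))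
(Tr.lf (Fc.ed (nat_lit 9815) (nat_lit 1815) Col.gi (nat_lit 4006) Dv.df)))
(Tr.nd (nat_lit 9817) (Tr.lf (Fc.ed (nat_lit 9816) (nat_lit 2597) Col.f (nat_lit 4007) Dv.df))
(Tr.nd (nat_lit 9818) (Tr.lf (Fc.ed (nat_lit 9817) (nat_lit 4007) Col.a (nat_lit 2414) (Dv.wd (nat_lit 23) [Mv.f (nat_lit 6533), Mv.f (nat_lit 6959), Mv.f (nat_lit 9816)])))
(Tr.lf (Fc.ed (nat_lit 9818) (nat_lit 3871) Col.b (nat_lit 4008) Dv.df)))))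
(Tr.nd (nat_lit 9821) (Tr.nd (nat_lit 9820) (Tr.lf (Fc.ed (nat_lit 9819) (nat_lit 3298) Col.d (nat_lit 4009) Dv.df))
(Tr.lf (Fc.ed (nat_lit 9820) (nat_lit 3351) Col.gi (nat_lit 4010) Dv.df)))
(Tr.nd (nat_lit 9822) (Tr.lf (Fc.ed (nat_lit 9821) (nat_lit 3810) Col.gi (nat_lit 4011) Dv.df))
(Tr.nd (nat_lit 9823) (Tr.lf (Fc.ed (nat_lit 9822) (nat_lit 3735) Col.g (nat_lit 4012) Dv.df))
(Tr.lf (Fc.ed (nat_lit 9823) (nat_lit 3406) Col.gi (nat_lit 4013) Dv.df))))))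
(Tr.nd (nat_lit 9829) (Tr.nd (nat_lit 9826) (Tr.nd (nat_lit 9825) (Tr.lf (Fc.ed (nat_lit 9824) (nat_lit 4013) Col.gi (nat_lit 3688) (Dv.wd (nat_lit 24) [Mv.f (nat_lit 9213), Mv.f (nat_lit 9077), Mv.f (nat_lit 9823)])))
(Tr.lf (Fc.ed (nat_lit 9825) (nat_lit 1880) Col.b (nat_lit 4014) Dv.df)))
(Tr.nd (nat_lit 9827) (Tr.lf (Fc.ed (nat_lit 9826) (nat_lit 4014) Col.f (nat_lit 3681) (Dv.wd (nat_lit 20) [Mv.b (nat_lit 9199), Mv.b (nat_lit 5338), Mv.f (nat_lit 9825)])))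
(Tr.nd (nat_lit 9828) (Tr.lf (Fc.ed (nat_lit 9827) (nat_lit 3146) Col.gi (nat_lit 4015) Dv.df))
(Tr.lf (Fc.ed (nat_lit 9828) (nat_lit 4015) Col.b (nat_lit 3803) (Dv.wd (nat_lit 154) [Mv.f (nat_lit 9433), Mv.f (nat_lit 4555), Mv.f (nat_lit 2206), Mv.f (nat_lit 2208), Mv.b (nat_lit 1434), Mv.f (nat_lit 3093), Mv.f (nat_lit 3095), Mv.b (nat_lit 5936), Mv.f (nat_lit 8149), Mv.f (nat_lit 9827)]))))))
(Tr.nd (nat_lit 9832) (Tr.nd (nat_lit 9830) (Tr.lf (Fc.ed (nat_lit 9829) (nat_lit 4012) Col.d (nat_lit 4016) Dv.df))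
(Tr.nd (nat_lit 9831) (Tr.lf (Fc.ed (nat_lit 9830) (nat_lit 3650) Col.gi (nat_lit 4017) Dv.df))
(Tr.lf (Fc.ed (nat_lit 9831) (nat_lit 4017) Col.gi (nat_lit 2107) (Dv.wd (nat_lit 24) [Mv.f (nat_lit 8024), Mv.b (nat_lit 9143), Mv.f (nat_lit 9830)])))))
(Tr.nd (nat_lit 9833) (Tr.lf (Fc.ed (nat_lit 9832) (nat_lit 3811) Col.e (nat_lit 4018) Dv.df))
(Tr.nd (nat_lit 9834) (Tr.lf (Fc.ed (nat_lit 9833) (nat_lit 4018) Col.a (nat_lit 2526) (Dv.wd (nat_lit 15) [Mv.f (nat_lit 6800), Mv.f (nat_lit 9447), Mv.f (nat_lit 9832)])))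
(Tr.lf (Fc.ed (nat_lit 9834) (nat_lit 4018) Col.c (nat_lit 3419) (Dv.wd (nat_lit 18) [Mv.f (nat_lit 8703), Mv.b (nat_lit 9448), Mv.f (nat_lit 9832)]))))))))
(Tr.nd (nat_lit 9845) (Tr.nd (nat_lit 9840) (Tr.nd (nat_lit 9837) (Tr.nd (nat_lit 9836) (Tr.lf (Fc.ed (nat_lit 9835) (nat_lit 2608) Col.e (nat_lit 4019) Dv.df))
(Tr.lf (Fc.ed (nat_lit 9836) (nat_lit 4019) Col.d (nat_lit 3195) (Dv.wd (nat_lit 59) [Mv.b (nat_lit 8248), Mv.f (nat_lit 7805), Mv.f (nat_lit 6818), Mv.f (nat_lit 6983), Mv.f (nat_lit 9835)]))))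
(Tr.nd (nat_lit 9838) (Tr.lf (Fc.ed (nat_lit 9837) (nat_lit 2945) Col.e (nat_lit 4020) Dv.df))
(Tr.nd (nat_lit 9839) (Tr.lf (Fc.ed (nat_lit 9838) (nat_lit 2518) Col.g (nat_lit 4021) Dv.df))
(Tr.lf (Fc.ed (nat_lit 9839) (nat_lit 4021) Col.g (nat_lit 2253) (Dv.wd (nat_lit 9) [Mv.f (nat_lit 6178), Mv.b (nat_lit 6780), Mv.f (nat_lit 9838)]))))))
(Tr.nd (nat_lit 9842) (Tr.nd (nat_lit 9841) (Tr.lf (Fc.ed (nat_lit 9840) (nat_lit 2093) Col.a (nat_lit 4022) Dv.df))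
(Tr.lf (Fc.ed (nat_lit 9841) (nat_lit 4022) Col.f (nat_lit 3689) (Dv.wd (nat_lit 10) [Mv.f (nat_lit 9216), Mv.f (nat_lit 5770), Mv.f (nat_lit 9840)]))))
(Tr.nd (nat_lit 9843) (Tr.lf (Fc.ed (nat_lit 9842) (nat_lit 1763) Col.c (nat_lit 4023) Dv.df))
(Tr.nd (nat_lit 9844) (Tr.lf (Fc.ed (nat_lit 9843) (nat_lit 4023) Col.f (nat_lit 3799) (Dv.wd (nat_lit 26) [Mv.b (nat_lit 9426), Mv.f (nat_lit 6123), Mv.f (nat_lit 9842)])))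
(Tr.lf (Fc.ed (nat_lit 9844) (nat_lit 4015) Col.gi (nat_lit 4023) (Dv.wd (nat_lit 24) [Mv.f (nat_lit 9843), Mv.f (nat_lit 9427), Mv.f (nat_lit 9827)])))))))
(Tr.nd (nat_lit 9850) (Tr.nd (nat_lit 9847) (Tr.nd (nat_lit 9846) (Tr.lf (Fc.ed (nat_lit 9845) (nat_lit 3461) Col.a (nat_lit 4024) Dv.df))
(Tr.lf (Fc.ed (nat_lit 9846) (nat_lit 4024) Col.f (nat_lit 2460) (Dv.wd (nat_lit 10) [Mv.b (nat_lit 6637), Mv.b (nat_lit 8782), Mv.f (nat_lit 9845)]))))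
(Tr.nd (nat_lit 9848) (Tr.lf (Fc.ed (nat_lit 9847) (nat_lit 3403) Col.gi (nat_lit 4025) Dv.df))
(Tr.nd (nat_lit 9849) (Tr.lf (Fc.ed (nat_lit 9848) (nat_lit 4025) Col.gi (nat_lit 1906) (Dv.wd (nat_lit 24) [Mv.b (nat_lit 5654), Mv.f (nat_lit 8670), Mv.f (nat_lit 9847)])))
(Tr.lf (Fc.ed (nat_lit 9849) (nat_lit 1606) Col.gi (nat_lit 4026) Dv.df)))))
(Tr.nd (nat_lit 9853) (Tr.nd (nat_lit 9851) (Tr.lf (Fc.ed (nat_lit 9850) (nat_lit 4026) Col.gi (nat_lit 3086) (Dv.wd (nat_lit 24) [Mv.f (nat_lit 8021), Mv.b (nat_lit 5637), Mv.f (nat_lit 9849)])))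
(Tr.nd (nat_lit 9852) (Tr.lf (Fc.ed (nat_lit 9851) (nat_lit 3969) Col.a (nat_lit 4027) Dv.df))
(Tr.lf (Fc.ed (nat_lit 9852) (nat_lit 4027) Col.c (nat_lit 1508) (Dv.wd (nat_lit 33) [Mv.f (nat_lit 7238), Mv.b (nat_lit 9757), Mv.f (nat_lit 9851)])))))
(Tr.nd (nat_lit 9854) (Tr.lf (Fc.ed (nat_lit 9853) (nat_lit 4027) Col.f (nat_lit 3796) (Dv.wd (nat_lit 35) [Mv.f (nat_lit 9422), Mv.f (nat_lit 9756), Mv.f (nat_lit 9851)])))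
(Tr.nd (nat_lit 9855) (Tr.lf (Fc.ed (nat_lit 9854) (nat_lit 3491) Col.c (nat_lit 4028) Dv.df))
(Tr.lf (Fc.ed (nat_lit 9855) (nat_lit 2492) Col.f (nat_lit 4029) Dv.df))))))))))))
(Tr.nd (nat_lit 10185) (Tr.nd (nat_lit 10020) (Tr.nd (nat_lit 9938) (Tr.nd (nat_lit 9897) (Tr.nd (nat_lit 9876) (Tr.nd (nat_lit 9866) (Tr.nd (nat_lit 9861) (Tr.nd (nat_lit 9858) (Tr.nd (nat_lit 9857) (Tr.lf (Fc.ed (nat_lit 9856) (nat_lit 4029) Col.a (nat_lit 2881) (Dv.wd (nat_lit 16) [Mv.f (nat_lit 9618), Mv.f (nat_lit 9619), Mv.f (nat_lit 9855)])))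
(Tr.lf (Fc.ed (nat_lit 9857) (nat_lit 3850) Col.a (nat_lit 4030) Dv.df)))
(Tr.nd (nat_lit 9859) (Tr.lf (Fc.ed (nat_lit 9858) (nat_lit 3706) Col.a (nat_lit 4031) Dv.df))
(Tr.nd (nat_lit 9860) (Tr.lf (Fc.ed (nat_lit 9859) (nat_lit 1736) Col.c (nat_lit 4032) Dv.df))
(Tr.lf (Fc.ed (nat_lit 9860) (nat_lit 4032) Col.f (nat_lit 3629) (Dv.wd (nat_lit 26) [Mv.f (nat_lit 9104), Mv.f (nat_lit 8142), Mv.f (nat_lit 9859)]))))))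
(Tr.nd (nat_lit 9863) (Tr.nd (nat_lit 9862) (Tr.lf (Fc.ed (nat_lit 9861) (nat_lit 2548) Col.gi (nat_lit 4032) (Dv.wd (nat_lit 24) [Mv.f (nat_lit 9860), Mv.b (nat_lit 9103), Mv.f (nat_lit 6855)])))
(Tr.lf (Fc.ed (nat_lit 9862) (nat_lit 1798) Col.b (nat_lit 4033) Dv.df)))
(Tr.nd (nat_lit 9864) (Tr.lf (Fc.ed (nat_lit 9863) (nat_lit 3169) Col.c (nat_lit 4034) Dv.df))
(Tr.nd (nat_lit 9865) (Tr.lf (Fc.ed (nat_lit 9864) (nat_lit 2993) Col.f (nat_lit 4035) Dv.df))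
(Tr.lf (Fc.ed (nat_lit 9865) (nat_lit 4035) Col.a (nat_lit 2173) (Dv.wd (nat_lit 23) [Mv.b (nat_lit 6014), Mv.f (nat_lit 7812), Mv.f (nat_lit 9864)])))))))
(Tr.nd (nat_lit 9871) (Tr.nd (nat_lit 9868) (Tr.nd (nat_lit 9867) (Tr.lf (Fc.ed (nat_lit 9866) (nat_lit 3960) Col.d (nat_lit 4036) Dv.df))
(Tr.lf (Fc.ed (nat_lit 9867) (nat_lit 2022) Col.b (nat_lit 4037) Dv.df)))
(Tr.nd (nat_lit 9869) (Tr.lf (Fc.ed (nat_lit 9868) (nat_lit 4037) Col.e (nat_lit 3905) (Dv.wd (nat_lit 52) [Mv.b (nat_lit 9603), Mv.f (nat_lit 5624), Mv.f (nat_lit 9867)])))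
(Tr.nd (nat_lit 9870) (Tr.lf (Fc.ed (nat_lit 9869) (nat_lit 3232) Col.b (nat_lit 4038) Dv.df))
(Tr.lf (Fc.ed (nat_lit 9870) (nat_lit 3449) Col.b (nat_lit 4039) Dv.df)))))
(Tr.nd (nat_lit 9873) (Tr.nd (nat_lit 9872) (Tr.lf (Fc.ed (nat_lit 9871) (nat_lit 2054) Col.d (nat_lit 4040) Dv.df))
(Tr.lf (Fc.ed (nat_lit 9872) (nat_lit 3786) Col.gi (nat_lit 4041) Dv.df)))
(Tr.nd (nat_lit 9874) (Tr.lf (Fc.ed (nat_lit 9873) (nat_lit 2376) Col.g (nat_lit 4042) Dv.df))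
(Tr.nd (nat_lit 9875) (Tr.lf (Fc.ed (nat_lit 9874) (nat_lit 2849) Col.a (nat_lit 4043) Dv.df))
(Tr.lf (Fc.ed (nat_lit 9875) (nat_lit 4043) Col.f (nat_lit 2972) (Dv.wd (nat_lit 35) [Mv.f (nat_lit 8796), Mv.f (nat_lit 8797), Mv.f (nat_lit 9874)]))))))))
(Tr.nd (nat_lit 9886) (Tr.nd (nat_lit 9881) (Tr.nd (nat_lit 9878) (Tr.nd (nat_lit 9877) (Tr.lf (Fc.ed (nat_lit 9876) (nat_lit 3392) Col.gi (nat_lit 4044) Dv.df))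
(Tr.lf (Fc.ed (nat_lit 9877) (nat_lit 4044) Col.gi (nat_lit 1767) (Dv.wd (nat_lit 24) [Mv.b (nat_lit 8303), Mv.f (nat_lit 8646), Mv.f (nat_lit 9876)]))))
(Tr.nd (nat_lit 9879) (Tr.lf (Fc.ed (nat_lit 9878) (nat_lit 3776) Col.g (nat_lit 4045) Dv.df))
(Tr.nd (nat_lit 9880) (Tr.lf (Fc.ed (nat_lit 9879) (nat_lit 4045) Col.g (nat_lit 2291) (Dv.wd (nat_lit 9) [Mv.b (nat_lit 8539), Mv.f (nat_lit 9385), Mv.f (nat_lit 9878)])))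
(Tr.lf (Fc.ed (nat_lit 9880) (nat_lit 2349) Col.d (nat_lit 4046) Dv.df)))))
(Tr.nd (nat_lit 9883) (Tr.nd (nat_lit 9882) (Tr.lf (Fc.ed (nat_lit 9881) (nat_lit 4046) Col.a (nat_lit 3848) (Dv.wd (nat_lit 8) [Mv.b (nat_lit 9513), Mv.f (nat_lit 8898), Mv.f (nat_lit 9880)])))
(Tr.lf (Fc.ed (nat_lit 9882) (nat_lit 3976) Col.gi (nat_lit 4047) Dv.df)))
(Tr.nd (nat_lit 9884) (Tr.lf (Fc.ed (nat_lit 9883) (nat_lit 2761) Col.e (nat_lit 4048) Dv.df))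
(Tr.nd (nat_lit 9885) (Tr.lf (Fc.ed (nat_lit 9884) (nat_lit 4048) Col.b (nat_lit 2473) (Dv.wd (nat_lit 49) [Mv.b (nat_lit 6669), Mv.f (nat_lit 7315), Mv.f (nat_lit 9883)])))
(Tr.lf (Fc.ed (nat_lit 9885) (nat_lit 4048) Col.d (nat_lit 3526) (Dv.wd (nat_lit 59) [Mv.b (nat_lit 8914), Mv.b (nat_lit 7272), Mv.b (nat_lit 7274), Mv.f (nat_lit 7317), Mv.f (nat_lit 9883)])))))))
(Tr.nd (nat_lit 9891) (Tr.nd (nat_lit 9888) (Tr.nd (nat_lit 9887) (Tr.lf (Fc.ed (nat_lit 9886) (nat_lit 3598) Col.a (nat_lit 4049) Dv.df))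
(Tr.lf (Fc.ed (nat_lit 9887) (nat_lit 1905) Col.gi (nat_lit 4050) Dv.df)))
(Tr.nd (nat_lit 9889) (Tr.lf (Fc.ed (nat_lit 9888) (nat_lit 4050) Col.d (nat_lit 3457) (Dv.wd (nat_lit 89) [Mv.b (nat_lit 8775), Mv.b (nat_lit 5280), Mv.b (nat_lit 5279), Mv.b (nat_lit 5244), Mv.b (nat_lit 5527), Mv.b (nat_lit 8845), Mv.f (nat_lit 9105), Mv.f (nat_lit 9106), Mv.f (nat_lit 9887)])))
(Tr.nd (nat_lit 9890) (Tr.lf (Fc.ed (nat_lit 9889) (nat_lit 3159) Col.f (nat_lit 4051) Dv.df))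
(Tr.lf (Fc.ed (nat_lit 9890) (nat_lit 2664) Col.e (nat_lit 4052) Dv.df)))))
(Tr.nd (nat_lit 9894) (Tr.nd (nat_lit 9892) (Tr.lf (Fc.ed (nat_lit 9891) (nat_lit 3908) Col.a (nat_lit 4053) Dv.df))
(Tr.nd (nat_lit 9893) (Tr.lf (Fc.ed (nat_lit 9892) (nat_lit 4053) Col.c (nat_lit 1075) (Dv.wd (nat_lit 33) [Mv.f (nat_lit 5361), Mv.b (nat_lit 9611), Mv.f (nat_lit 9891)])))
(Tr.lf (Fc.ed (nat_lit 9893) (nat_lit 3283) Col.a (nat_lit 4054) Dv.df))))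
(Tr.nd (nat_lit 9895) (Tr.lf (Fc.ed (nat_lit 9894) (nat_lit 4054) Col.f (nat_lit 3143) (Dv.wd (nat_lit 10) [Mv.f (nat_lit 8145), Mv.b (nat_lit 8420), Mv.f (nat_lit 9893)])))
(Tr.nd (nat_lit 9896) (Tr.lf (Fc.ed (nat_lit 9895) (nat_lit 1506) Col.b (nat_lit 4055) Dv.df))
(Tr.lf (Fc.ed (nat_lit 9896) (nat_lit 4055) Col.d (nat_lit 3505) (Dv.wd (nat_lit 58) [Mv.b (nat_lit 8868), Mv.b (nat_lit 9675), Mv.f (nat_lit 9895)])))))))))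
(Tr.nd (nat_lit 9917) (Tr.nd (nat_lit 9907) (Tr.nd (nat_lit 9902) (Tr.nd (nat_lit 9899) (Tr.nd (nat_lit 9898) (Tr.lf (Fc.ed (nat_lit 9897) (nat_lit 4055) Col.f (nat_lit 3397) (Dv.wd (nat_lit 20) [Mv.b (nat_lit 9672), Mv.f (nat_lit 4511), Mv.f (nat_lit 9895)])))
(Tr.lf (Fc.ed (nat_lit 9898) (nat_lit 3336) Col.a (nat_lit 4055) (Dv.wd (nat_lit 79) [Mv.f (nat_lit 9897), Mv.f (nat_lit 8919), Mv.f (nat_lit 8920)]))))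
(Tr.nd (nat_lit 9900) (Tr.lf (Fc.ed (nat_lit 9899) (nat_lit 3831) Col.g (nat_lit 4056) Dv.df))
(Tr.nd (nat_lit 9901) (Tr.lf (Fc.ed (nat_lit 9900) (nat_lit 3800) Col.d (nat_lit 4057) Dv.df))
(Tr.lf (Fc.ed (nat_lit 9901) (nat_lit 2492) Col.e (nat_lit 4058) Dv.df)))))
(Tr.nd (nat_lit 9904) (Tr.nd (nat_lit 9903) (Tr.lf (Fc.ed (nat_lit 9902) (nat_lit 3829) Col.gi (nat_lit 4059) Dv.df))
(Tr.lf (Fc.ed (nat_lit 9903) (nat_lit 3527) Col.gi (nat_lit 4060) Dv.df)))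
(Tr.nd (nat_lit 9905) (Tr.lf (Fc.ed (nat_lit 9904) (nat_lit 4060) Col.gi (nat_lit 1970) (Dv.wd (nat_lit 24) [Mv.b (nat_lit 5661), Mv.b (nat_lit 8917), Mv.f (nat_lit 9903)])))
(Tr.nd (nat_lit 9906) (Tr.lf (Fc.ed (nat_lit 9905) (nat_lit 4028) Col.d (nat_lit 4061) Dv.df))
(Tr.lf (Fc.ed (nat_lit 9906) (nat_lit 2645) Col.a (nat_lit 4062) Dv.df))))))
(Tr.nd (nat_lit 9912) (Tr.nd (nat_lit 9909) (Tr.nd (nat_lit 9908) (Tr.lf (Fc.ed (nat_lit 9907) (nat_lit 4062) Col.d (nat_lit 3613) (Dv.wd (nat_lit 28) [Mv.b (nat_lit 9075), Mv.f (nat_lit 7066), Mv.f (nat_lit 9906)])))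
(Tr.lf (Fc.ed (nat_lit 9908) (nat_lit 4051) Col.d (nat_lit 4063) Dv.df)))
(Tr.nd (nat_lit 9910) (Tr.lf (Fc.ed (nat_lit 9909) (nat_lit 2244) Col.g (nat_lit 4064) Dv.df))
(Tr.nd (nat_lit 9911) (Tr.lf (Fc.ed (nat_lit 9910) (nat_lit 2855) Col.f (nat_lit 4065) Dv.df))
(Tr.lf (Fc.ed (nat_lit 9911) (nat_lit 4065) Col.a (nat_lit 3201) (Dv.wd (nat_lit 16) [Mv.b (nat_lit 8261), Mv.b (nat_lit 7527), Mv.f (nat_lit 9910)]))))))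
(Tr.nd (nat_lit 9914) (Tr.nd (nat_lit 9913) (Tr.lf (Fc.ed (nat_lit 9912) (nat_lit 4065) Col.b (nat_lit 3649) (Dv.wd (nat_lit 66) [Mv.b (nat_lit 9141), Mv.f (nat_lit 7525), Mv.f (nat_lit 9910)])))
(Tr.lf (Fc.ed (nat_lit 9913) (nat_lit 4065) Col.d (nat_lit 3547) (Dv.wd (nat_lit 21) [Mv.b (nat_lit 8955), Mv.f (nat_lit 7560), Mv.f (nat_lit 9910)]))))
(Tr.nd (nat_lit 9915) (Tr.lf (Fc.ed (nat_lit 9914) (nat_lit 2712) Col.c (nat_lit 4066) Dv.df))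
(Tr.nd (nat_lit 9916) (Tr.lf (Fc.ed (nat_lit 9915) (nat_lit 4066) Col.b (nat_lit 3305) (Dv.wd (nat_lit 87) [Mv.f (nat_lit 8465), Mv.b (nat_lit 8357), Mv.b (nat_lit 7906), Mv.b (nat_lit 7905), Mv.f (nat_lit 9914)])))
(Tr.lf (Fc.ed (nat_lit 9916) (nat_lit 3853) Col.gi (nat_lit 4067) Dv.df)))))))
(Tr.nd (nat_lit 9927) (Tr.nd (nat_lit 9922) (Tr.nd (nat_lit 9919) (Tr.nd (nat_lit 9918) (Tr.lf (Fc.ed (nat_lit 9917) (nat_lit 4067) Col.gi (nat_lit 2382) (Dv.wd (nat_lit 24) [Mv.b (nat_lit 6547), Mv.b (nat_lit 9520), Mv.f (nat_lit 9916)])))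
(Tr.lf (Fc.ed (nat_lit 9918) (nat_lit 4067) Col.f (nat_lit 3361) (Dv.wd (nat_lit 13) [Mv.b (nat_lit 8815), Mv.b (nat_lit 9683), Mv.f (nat_lit 9916)]))))
(Tr.nd (nat_lit 9920) (Tr.lf (Fc.ed (nat_lit 9919) (nat_lit 3523) Col.c (nat_lit 4067) (Dv.wd (nat_lit 67) [Mv.f (nat_lit 9918), Mv.f (nat_lit 8584), Mv.f (nat_lit 8906)])))
(Tr.nd (nat_lit 9921) (Tr.lf (Fc.al (nat_lit 9920) (nat_lit 4050) (nat_lit 3644) (Dv.wd (nat_lit 154) [Mv.b (nat_lit 9134), Mv.f (nat_lit 9919), Mv.f (nat_lit 9917), Mv.b (nat_lit 6473), Mv.b (nat_lit 5225), Mv.f (nat_lit 4058), Mv.f (nat_lit 5526), Mv.b (nat_lit 8845), Mv.f (nat_lit 9105), Mv.f (nat_lit 9106), Mv.f (nat_lit 9887)])))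
(Tr.lf (Fc.ed (nat_lit 9921) (nat_lit 3644) Col.g (nat_lit 1905) (Dv.wd (nat_lit 129) [Mv.f (nat_lit 9887), Mv.f (nat_lit 9920)]))))))
(Tr.nd (nat_lit 9924) (Tr.nd (nat_lit 9923) (Tr.lf (Fc.al (nat_lit 9922) (nat_lit 3529) (nat_lit 3457) (Dv.wd (nat_lit 120) [Mv.b (nat_lit 9888), Mv.f (nat_lit 9920), Mv.f (nat_lit 9241)])))
(Tr.lf (Fc.ed (nat_lit 9923) (nat_lit 3457) Col.f (nat_lit 3336) (Dv.wd (nat_lit 30) [Mv.b (nat_lit 8920), Mv.f (nat_lit 9922)]))))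
(Tr.nd (nat_lit 9925) (Tr.lf (Fc.al (nat_lit 9924) (nat_lit 4055) (nat_lit 3368) (Dv.wd (nat_lit 12) [Mv.f (nat_lit 8595), Mv.f (nat_lit 8775), Mv.f (nat_lit 9923), Mv.f (nat_lit 9898)])))
(Tr.nd (nat_lit 9926) (Tr.lf (Fc.ed (nat_lit 9925) (nat_lit 3368) Col.d (nat_lit 3505) (Dv.wd (nat_lit 120) [Mv.b (nat_lit 9896), Mv.f (nat_lit 9924)])))
(Tr.lf (Fc.ed (nat_lit 9926) (nat_lit 1905) Col.g (nat_lit 3505) (Dv.wd (nat_lit 9) [Mv.b (nat_lit 9240), Mv.f (nat_lit 9239), Mv.f (nat_lit 9921)])))))))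
(Tr.nd (nat_lit 9932) (Tr.nd (nat_lit 9929) (Tr.nd (nat_lit 9928) (Tr.lf (Fc.ed (nat_lit 9927) (nat_lit 3505) Col.g (nat_lit 2763) (Dv.wd (nat_lit 9) [Mv.b (nat_lit 7321), Mv.b (nat_lit 5383), Mv.f (nat_lit 9926)])))
(Tr.lf (Fc.ed (nat_lit 9928) (nat_lit 2525) Col.g (nat_lit 4068) Dv.df)))
(Tr.nd (nat_lit 9930) (Tr.lf (Fc.ed (nat_lit 9929) (nat_lit 2501) Col.a (nat_lit 4069) Dv.df))
(Tr.nd (nat_lit 9931) (Tr.lf (Fc.ed (nat_lit 9930) (nat_lit 4069) Col.e (nat_lit 3843) (Dv.wd (nat_lit 56) [Mv.f (nat_lit 9505), Mv.f (nat_lit 6738), Mv.f (nat_lit 9929)])))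
(Tr.lf (Fc.ed (nat_lit 9931) (nat_lit 3997) Col.c (nat_lit 4070) Dv.df)))))
(Tr.nd (nat_lit 9935) (Tr.nd (nat_lit 9933) (Tr.lf (Fc.ed (nat_lit 9932) (nat_lit 2380) Col.b (nat_lit 4071) Dv.df))
(Tr.nd (nat_lit 9934) (Tr.lf (Fc.ed (nat_lit 9933) (nat_lit 2020) Col.gi (nat_lit 4072) Dv.df))
(Tr.lf (Fc.ed (nat_lit 9934) (nat_lit 2471) Col.b (nat_lit 4073) Dv.df))))
(Tr.nd (nat_lit 9936) (Tr.lf (Fc.ed (nat_lit 9935) (nat_lit 4073) Col.d (nat_lit 3621) (Dv.wd (nat_lit 58) [Mv.b (nat_lit 9087), Mv.b (nat_lit 6661), Mv.f (nat_lit 9934)])))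
(Tr.nd (nat_lit 9937) (Tr.lf (Fc.ed (nat_lit 9936) (nat_lit 4073) Col.e (nat_lit 3190) (Dv.wd (nat_lit 52) [Mv.b (nat_lit 8239), Mv.f (nat_lit 7277), Mv.f (nat_lit 9934)])))
(Tr.lf (Fc.ed (nat_lit 9937) (nat_lit 4073) Col.f (nat_lit 2636) (Dv.wd (nat_lit 20) [Mv.b (nat_lit 7040), Mv.f (nat_lit 6662), Mv.f (nat_lit 9934)]))))))))))
(Tr.nd (nat_lit 9979) (Tr.nd (nat_lit 9958) (Tr.nd (nat_lit 9948) (Tr.nd (nat_lit 9943) (Tr.nd (nat_lit 9940) (Tr.nd (nat_lit 9939) (Tr.lf (Fc.ed (nat_lit 9938) (nat_lit 2930) Col.e (nat_lit 4074) Dv.df))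
(Tr.lf (Fc.ed (nat_lit 9939) (nat_lit 3605) Col.a (nat_lit 4075) Dv.df)))
(Tr.nd (nat_lit 9941) (Tr.lf (Fc.ed (nat_lit 9940) (nat_lit 3673) Col.c (nat_lit 4076) Dv.df))
(Tr.nd (nat_lit 9942) (Tr.lf (Fc.ed (nat_lit 9941) (nat_lit 4076) Col.a (nat_lit 3163) (Dv.wd (nat_lit 19) [Mv.b (nat_lit 8181), Mv.b (nat_lit 9184), Mv.f (nat_lit 9940)])))
(Tr.lf (Fc.ed (nat_lit 9942) (nat_lit 2187) Col.d (nat_lit 4077) Dv.df)))))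
(Tr.nd (nat_lit 9945) (Tr.nd (nat_lit 9944) (Tr.lf (Fc.ed (nat_lit 9943) (nat_lit 1528) Col.e (nat_lit 4078) Dv.df))
(Tr.lf (Fc.ed (nat_lit 9944) (nat_lit 3974) Col.e (nat_lit 4079) Dv.df)))
(Tr.nd (nat_lit 9946) (Tr.lf (Fc.ed (nat_lit 9945) (nat_lit 4079) Col.a (nat_lit 2595) (Dv.wd (nat_lit 15) [Mv.b (nat_lit 6954), Mv.f (nat_lit 9763), Mv.f (nat_lit 9944)])))
(Tr.nd (nat_lit 9947) (Tr.lf (Fc.ed (nat_lit 9946) (nat_lit 4079) Col.b (nat_lit 4018) (Dv.wd (nat_lit 49) [Mv.b (nat_lit 9832), Mv.b (nat_lit 9765), Mv.f (nat_lit 9944)])))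
(Tr.lf (Fc.ed (nat_lit 9947) (nat_lit 2992) Col.d (nat_lit 4080) Dv.df))))))
(Tr.nd (nat_lit 9953) (Tr.nd (nat_lit 9950) (Tr.nd (nat_lit 9949) (Tr.lf (Fc.ed (nat_lit 9948) (nat_lit 3188) Col.c (nat_lit 4081) Dv.df))
(Tr.lf (Fc.ed (nat_lit 9949) (nat_lit 4081) Col.f (nat_lit 3435) (Dv.wd (nat_lit 26) [Mv.b (nat_lit 8737), Mv.f (nat_lit 8235), Mv.f (nat_lit 9948)]))))
(Tr.nd (nat_lit 9951) (Tr.lf (Fc.ed (nat_lit 9950) (nat_lit 3551) Col.c (nat_lit 4082) Dv.df))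
(Tr.nd (nat_lit 9952) (Tr.lf (Fc.ed (nat_lit 9951) (nat_lit 4082) Col.a (nat_lit 3676) (Dv.wd (nat_lit 19) [Mv.b (nat_lit 9189), Mv.b (nat_lit 8963), Mv.f (nat_lit 9950)])))
(Tr.lf (Fc.ed (nat_lit 9952) (nat_lit 4082) Col.f (nat_lit 3317) (Dv.wd (nat_lit 26) [Mv.f (nat_lit 8486), Mv.f (nat_lit 8962), Mv.f (nat_lit 9950)]))))))
(Tr.nd (nat_lit 9955) (Tr.nd (nat_lit 9954) (Tr.lf (Fc.ed (nat_lit 9953) (nat_lit 3007) Col.d (nat_lit 4083) Dv.df))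
(Tr.lf (Fc.ed (nat_lit 9954) (nat_lit 2228) Col.b (nat_lit 4084) Dv.df)))
(Tr.nd (nat_lit 9956) (Tr.lf (Fc.ed (nat_lit 9955) (nat_lit 4084) Col.d (nat_lit 2742) (Dv.wd (nat_lit 58) [Mv.b (nat_lit 7275), Mv.b (nat_lit 6132), Mv.f (nat_lit 9954)])))
(Tr.nd (nat_lit 9957) (Tr.lf (Fc.ed (nat_lit 9956) (nat_lit 4084) Col.f (nat_lit 3481) (Dv.wd (nat_lit 20) [Mv.f (nat_lit 8824), Mv.b (nat_lit 6131), Mv.f (nat_lit 9954)])))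
(Tr.lf (Fc.ed (nat_lit 9957) (nat_lit 2316) Col.a (nat_lit 4085) Dv.df)))))))
(Tr.nd (nat_lit 9968) (Tr.nd (nat_lit 9963) (Tr.nd (nat_lit 9960) (Tr.nd (nat_lit 9959) (Tr.lf (Fc.ed (nat_lit 9958) (nat_lit 3820) Col.f (nat_lit 4086) Dv.df))
(Tr.lf (Fc.ed (nat_lit 9959) (nat_lit 4086) Col.a (nat_lit 2192) (Dv.wd (nat_lit 16) [Mv.b (nat_lit 6107), Mv.b (nat_lit 9466), Mv.f (nat_lit 9958)]))))
(Tr.nd (nat_lit 9961) (Tr.lf (Fc.ed (nat_lit 9960) (nat_lit 2761) Col.g (nat_lit 4087) Dv.df))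
(Tr.nd (nat_lit 9962) (Tr.lf (Fc.ed (nat_lit 9961) (nat_lit 3494) Col.c (nat_lit 4088) Dv.df))
(Tr.lf (Fc.ed (nat_lit 9962) (nat_lit 4023) Col.b (nat_lit 4089) Dv.df)))))
(Tr.nd (nat_lit 9965) (Tr.nd (nat_lit 9964) (Tr.lf (Fc.ed (nat_lit 9963) (nat_lit 3968) Col.e (nat_lit 4090) Dv.df))
(Tr.lf (Fc.ed (nat_lit 9964) (nat_lit 3269) Col.gi (nat_lit 4091) Dv.df)))
(Tr.nd (nat_lit 9966) (Tr.lf (Fc.ed (nat_lit 9965) (nat_lit 2911) Col.g (nat_lit 4092) Dv.df))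
(Tr.nd (nat_lit 9967) (Tr.lf (Fc.ed (nat_lit 9966) (nat_lit 4092) Col.g (nat_lit 2018) (Dv.wd (nat_lit 9) [Mv.f (nat_lit 5617), Mv.f (nat_lit 7649), Mv.f (nat_lit 9965)])))
(Tr.lf (Fc.ed (nat_lit 9967) (nat_lit 2993) Col.a (nat_lit 4093) Dv.df))))))
(Tr.nd (nat_lit 9973) (Tr.nd (nat_lit 9970) (Tr.nd (nat_lit 9969) (Tr.lf (Fc.ed (nat_lit 9968) (nat_lit 4093) Col.f (nat_lit 2173) (Dv.wd (nat_lit 35) [Mv.b (nat_lit 9865), Mv.b (nat_lit 9864), Mv.f (nat_lit 9967)])))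
(Tr.lf (Fc.ed (nat_lit 9969) (nat_lit 2173) Col.g (nat_lit 947) (Dv.wd (nat_lit 17) [Mv.b (nat_lit 7813), Mv.f (nat_lit 9967), Mv.f (nat_lit 9968)]))))
(Tr.nd (nat_lit 9971) (Tr.lf (Fc.ed (nat_lit 9970) (nat_lit 2600) Col.e (nat_lit 2673) (Dv.wd (nat_lit 47) [Mv.b (nat_lit 7129), Mv.f (nat_lit 9969), Mv.b (nat_lit 3236), Mv.b (nat_lit 3235), Mv.b (nat_lit 2375), Mv.b (nat_lit 2374), Mv.f (nat_lit 1246), Mv.b (nat_lit 2107), Mv.f (nat_lit 4053), Mv.b (nat_lit 6967)])))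
(Tr.nd (nat_lit 9972) (Tr.lf (Fc.ed (nat_lit 9971) (nat_lit 2031) Col.d (nat_lit 2116) (Dv.wd (nat_lit 53) [Mv.f (nat_lit 5889), Mv.f (nat_lit 7812), Mv.b (nat_lit 8938), Mv.b (nat_lit 8937), Mv.f (nat_lit 8581), Mv.f (nat_lit 6854), Mv.f (nat_lit 6966), Mv.f (nat_lit 9970), Mv.b (nat_lit 7129), Mv.b (nat_lit 6014)])))
(Tr.lf (Fc.ed (nat_lit 9972) (nat_lit 2969) Col.d (nat_lit 2942) (Dv.wd (nat_lit 27) [Mv.f (nat_lit 7710), Mv.f (nat_lit 4824), Mv.f (nat_lit 4711), Mv.f (nat_lit 6966), Mv.f (nat_lit 9970), Mv.b (nat_lit 7129), Mv.b (nat_lit 6014), Mv.f (nat_lit 9971), Mv.f (nat_lit 6255), Mv.f (nat_lit 7761)]))))))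
(Tr.nd (nat_lit 9976) (Tr.nd (nat_lit 9974) (Tr.lf (Fc.ed (nat_lit 9973) (nat_lit 1040) Col.g (nat_lit 2284) (Dv.wd (nat_lit 38) [Mv.f (nat_lit 7761), Mv.f (nat_lit 9972), Mv.b (nat_lit 7709), Mv.f (nat_lit 4822), Mv.b (nat_lit 4819), Mv.f (nat_lit 2237), Mv.b (nat_lit 2179), Mv.b (nat_lit 1166), Mv.f (nat_lit 2293), Mv.f (nat_lit 3235)])))
(Tr.nd (nat_lit 9975) (Tr.lf (Fc.ed (nat_lit 9974) (nat_lit 2124) Col.gi (nat_lit 2116) (Dv.wd (nat_lit 71) [Mv.b (nat_lit 9971), Mv.b (nat_lit 5889), Mv.f (nat_lit 6255), Mv.f (nat_lit 7761), Mv.f (nat_lit 9972), Mv.f (nat_lit 7710), Mv.f (nat_lit 4824), Mv.f (nat_lit 9222), Mv.f (nat_lit 9256), Mv.f (nat_lit 9257)])))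
(Tr.lf (Fc.ed (nat_lit 9975) (nat_lit 3809) Col.a (nat_lit 2124) (Dv.wd (nat_lit 23) [Mv.f (nat_lit 9974), Mv.f (nat_lit 6255), Mv.f (nat_lit 9445)])))))
(Tr.nd (nat_lit 9977) (Tr.lf (Fc.ed (nat_lit 9976) (nat_lit 4031) Col.d (nat_lit 3809) (Dv.wd (nat_lit 97) [Mv.f (nat_lit 9975), Mv.b (nat_lit 9257), Mv.f (nat_lit 9858)])))
(Tr.nd (nat_lit 9978) (Tr.lf (Fc.ed (nat_lit 9977) (nat_lit 2621) Col.a (nat_lit 2284) (Dv.wd (nat_lit 79) [Mv.f (nat_lit 9445), Mv.f (nat_lit 9975), Mv.f (nat_lit 7008)])))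
(Tr.lf (Fc.ed (nat_lit 9978) (nat_lit 1948) Col.f (nat_lit 1040) (Dv.wd (nat_lit 10) [Mv.f (nat_lit 9973), Mv.b (nat_lit 6255), Mv.b (nat_lit 5888)])))))))))
(Tr.nd (nat_lit 9999) (Tr.nd (nat_lit 9989) (Tr.nd (nat_lit 9984) (Tr.nd (nat_lit 9981) (Tr.nd (nat_lit 9980) (Tr.lf (Fc.ed (nat_lit 9979) (nat_lit 2033) Col.b (nat_lit 1948) (Dv.wd (nat_lit 107) [Mv.f (nat_lit 9978), Mv.f (nat_lit 4945), Mv.f (nat_lit 5644)])))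
(Tr.lf (Fc.ed (nat_lit 9980) (nat_lit 2058) Col.f (nat_lit 2527) (Dv.wd (nat_lit 26) [Mv.b (nat_lit 6802), Mv.f (nat_lit 9978), Mv.f (nat_lit 5698)]))))
(Tr.nd (nat_lit 9982) (Tr.lf (Fc.ed (nat_lit 9981) (nat_lit 1844) Col.d (nat_lit 1948) (Dv.wd (nat_lit 90) [Mv.f (nat_lit 9978), Mv.f (nat_lit 3236), Mv.f (nat_lit 5259)])))
(Tr.nd (nat_lit 9983) (Tr.lf (Fc.ed (nat_lit 9982) (nat_lit 800) Col.f (nat_lit 856) (Dv.wd (nat_lit 96) [Mv.f (nat_lit 2997), Mv.f (nat_lit 5259), Mv.f (nat_lit 5471), Mv.f (nat_lit 9978), Mv.b (nat_lit 3235)])))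
(Tr.lf (Fc.ed (nat_lit 9983) (nat_lit 1263) Col.f (nat_lit 1351) (Dv.wd (nat_lit 20) [Mv.f (nat_lit 4128), Mv.f (nat_lit 9982), Mv.b (nat_lit 3869)]))))))
(Tr.nd (nat_lit 9986) (Tr.nd (nat_lit 9985) (Tr.lf (Fc.ed (nat_lit 9984) (nat_lit 1053) Col.f (nat_lit 1123) (Dv.wd (nat_lit 26) [Mv.f (nat_lit 3463), Mv.f (nat_lit 9982), Mv.f (nat_lit 3268)])))
(Tr.lf (Fc.ed (nat_lit 9985) (nat_lit 856) Col.a (nat_lit 823) (Dv.wd (nat_lit 23) [Mv.f (nat_lit 2372), Mv.f (nat_lit 2375), Mv.f (nat_lit 9982)]))))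
(Tr.nd (nat_lit 9987) (Tr.lf (Fc.ed (nat_lit 9986) (nat_lit 833) Col.a (nat_lit 800) (Dv.wd (nat_lit 114) [Mv.f (nat_lit 9982), Mv.b (nat_lit 2433), Mv.f (nat_lit 2379)])))
(Tr.nd (nat_lit 9988) (Tr.lf (Fc.ed (nat_lit 9987) (nat_lit 833) Col.f (nat_lit 823) (Dv.wd (nat_lit 35) [Mv.b (nat_lit 9985), Mv.b (nat_lit 9982), Mv.b (nat_lit 9986)])))
(Tr.lf (Fc.ed (nat_lit 9988) (nat_lit 957) Col.f (nat_lit 1130) (Dv.wd (nat_lit 26) [Mv.f (nat_lit 3478), Mv.f (nat_lit 9987), Mv.f (nat_lit 3021)])))))))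
(Tr.nd (nat_lit 9994) (Tr.nd (nat_lit 9991) (Tr.nd (nat_lit 9990) (Tr.lf (Fc.ed (nat_lit 9989) (nat_lit 470) Col.f (nat_lit 428) (Dv.wd (nat_lit 11) [Mv.b (nat_lit 2380), Mv.f (nat_lit 9987), Mv.b (nat_lit 2352)])))
(Tr.lf (Fc.ed (nat_lit 9990) (nat_lit 618) Col.f (nat_lit 620) (Dv.wd (nat_lit 26) [Mv.b (nat_lit 1664), Mv.f (nat_lit 9989), Mv.b (nat_lit 1617)]))))
(Tr.nd (nat_lit 9992) (Tr.lf (Fc.ed (nat_lit 9991) (nat_lit 620) Col.a (nat_lit 648) (Dv.wd (nat_lit 23) [Mv.b (nat_lit 1912), Mv.b (nat_lit 1618), Mv.f (nat_lit 9990)])))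
(Tr.nd (nat_lit 9993) (Tr.lf (Fc.ed (nat_lit 9992) (nat_lit 622) Col.a (nat_lit 618) (Dv.wd (nat_lit 114) [Mv.f (nat_lit 9990), Mv.f (nat_lit 1665), Mv.f (nat_lit 1674)])))
(Tr.lf (Fc.ed (nat_lit 9993) (nat_lit 622) Col.f (nat_lit 648) (Dv.wd (nat_lit 35) [Mv.b (nat_lit 9991), Mv.b (nat_lit 9990), Mv.b (nat_lit 9992)]))))))
(Tr.nd (nat_lit 9996) (Tr.nd (nat_lit 9995) (Tr.lf (Fc.ed (nat_lit 9994) (nat_lit 661) Col.f (nat_lit 663) (Dv.wd (nat_lit 11) [Mv.f (nat_lit 1950), Mv.f (nat_lit 9993), Mv.f (nat_lit 1942)])))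
(Tr.lf (Fc.ed (nat_lit 9995) (nat_lit 768) Col.f (nat_lit 759) (Dv.wd (nat_lit 26) [Mv.f (nat_lit 2192), Mv.f (nat_lit 9994), Mv.b (nat_lit 2216)]))))
(Tr.nd (nat_lit 9997) (Tr.lf (Fc.ed (nat_lit 9996) (nat_lit 635) Col.a (nat_lit 661) (Dv.wd (nat_lit 114) [Mv.f (nat_lit 9994), Mv.b (nat_lit 1979), Mv.f (nat_lit 1978)])))
(Tr.nd (nat_lit 9998) (Tr.lf (Fc.ed (nat_lit 9997) (nat_lit 759) Col.a (nat_lit 764) (Dv.wd (nat_lit 76) [Mv.b (nat_lit 2202), Mv.f (nat_lit 9996), Mv.b (nat_lit 2192)])))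
(Tr.lf (Fc.ed (nat_lit 9998) (nat_lit 154) Col.a (nat_lit 154) (Dv.wd (nat_lit 167) [Mv.b (nat_lit 1749), Mv.f (nat_lit 9996), Mv.f (nat_lit 1943), Mv.b (nat_lit 9996), Mv.f (nat_lit 1749)]))))))))
(Tr.nd (nat_lit 10009) (Tr.nd (nat_lit 10004) (Tr.nd (nat_lit 10001) (Tr.nd (nat_lit 10000) (Tr.lf (Fc.ed (nat_lit 9999) (nat_lit 160) Col.f (nat_lit 154) (Dv.wd (nat_lit 13) [Mv.f (nat_lit 9998), Mv.f (nat_lit 420), Mv.b (nat_lit 422)])))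
(Tr.lf (Fc.ed (nat_lit 10000) (nat_lit 160) Col.a (nat_lit 160) (Dv.wd (nat_lit 79) [Mv.f (nat_lit 9999), Mv.f (nat_lit 9998), Mv.b (nat_lit 9999)]))))
(Tr.nd (nat_lit 10002) (Tr.lf (Fc.ed (nat_lit 10001) (nat_lit 416) Col.a (nat_lit 416) (Dv.wd (nat_lit 31) [Mv.f (nat_lit 965), Mv.f (nat_lit 10000), Mv.b (nat_lit 965)])))
(Tr.nd (nat_lit 10003) (Tr.lf (Fc.ed (nat_lit 10002) (nat_lit 508) Col.f (nat_lit 416) (Dv.wd (nat_lit 13) [Mv.f (nat_lit 10001), Mv.f (nat_lit 1040), Mv.f (nat_lit 1871)])))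
(Tr.lf (Fc.ed (nat_lit 10003) (nat_lit 508) Col.a (nat_lit 508) (Dv.wd (nat_lit 79) [Mv.f (nat_lit 10002), Mv.f (nat_lit 10001), Mv.b (nat_lit 10002)]))))))
(Tr.nd (nat_lit 10006) (Tr.nd (nat_lit 10005) (Tr.lf (Fc.ed (nat_lit 10004) (nat_lit 515) Col.a (nat_lit 515) (Dv.wd (nat_lit 54) [Mv.b (nat_lit 1195), Mv.f (nat_lit 10003), Mv.f (nat_lit 1195)])))
(Tr.lf (Fc.ed (nat_lit 10005) (nat_lit 415) Col.f (nat_lit 515) (Dv.wd (nat_lit 13) [Mv.f (nat_lit 10004), Mv.f (nat_lit 1872), Mv.f (nat_lit 963)]))))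
(Tr.nd (nat_lit 10007) (Tr.lf (Fc.ed (nat_lit 10006) (nat_lit 518) Col.f (nat_lit 423) (Dv.wd (nat_lit 26) [Mv.b (nat_lit 981), Mv.f (nat_lit 10005), Mv.f (nat_lit 1200)])))
(Tr.nd (nat_lit 10008) (Tr.lf (Fc.ed (nat_lit 10007) (nat_lit 423) Col.b (nat_lit 1019) (Dv.wd (nat_lit 66) [Mv.b (nat_lit 3186), Mv.f (nat_lit 3119), Mv.f (nat_lit 10006)])))
(Tr.lf (Fc.ed (nat_lit 10008) (nat_lit 668) Col.f (nat_lit 693) (Dv.wd (nat_lit 11) [Mv.f (nat_lit 2035), Mv.f (nat_lit 10006), Mv.b (nat_lit 1961)])))))))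
(Tr.nd (nat_lit 10014) (Tr.nd (nat_lit 10011) (Tr.nd (nat_lit 10010) (Tr.lf (Fc.ed (nat_lit 10009) (nat_lit 668) Col.a (nat_lit 668) (Dv.wd (nat_lit 114) [Mv.f (nat_lit 10008), Mv.b (nat_lit 2034), Mv.f (nat_lit 1960)])))
(Tr.lf (Fc.ed (nat_lit 10010) (nat_lit 1839) Col.a (nat_lit 1839) (Dv.wd (nat_lit 31) [Mv.f (nat_lit 5248), Mv.f (nat_lit 10009), Mv.b (nat_lit 5248)]))))
(Tr.nd (nat_lit 10012) (Tr.lf (Fc.ed (nat_lit 10011) (nat_lit 2687) Col.f (nat_lit 1839) (Dv.wd (nat_lit 13) [Mv.f (nat_lit 10010), Mv.f (nat_lit 7117), Mv.f (nat_lit 7161)])))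
(Tr.nd (nat_lit 10013) (Tr.lf (Fc.ed (nat_lit 10012) (nat_lit 2687) Col.a (nat_lit 2687) (Dv.wd (nat_lit 79) [Mv.f (nat_lit 10011), Mv.f (nat_lit 10010), Mv.b (nat_lit 10011)])))
(Tr.lf (Fc.ed (nat_lit 10013) (nat_lit 2091) Col.a (nat_lit 2091) (Dv.wd (nat_lit 54) [Mv.b (nat_lit 7516), Mv.f (nat_lit 10012), Mv.f (nat_lit 7516)]))))))
(Tr.nd (nat_lit 10017) (Tr.nd (nat_lit 10015) (Tr.lf (Fc.ed (nat_lit 10014) (nat_lit 2072) Col.a (nat_lit 2072) (Dv.wd (nat_lit 31) [Mv.f (nat_lit 7517), Mv.f (nat_lit 10013), Mv.b (nat_lit 7517)])))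
(Tr.nd (nat_lit 10016) (Tr.lf (Fc.ed (nat_lit 10015) (nat_lit 1364) Col.f (nat_lit 2091) (Dv.wd (nat_lit 13) [Mv.f (nat_lit 10013), Mv.b (nat_lit 5767), Mv.b (nat_lit 4260)])))
(Tr.lf (Fc.ed (nat_lit 10016) (nat_lit 1011) Col.f (nat_lit 2072) (Dv.wd (nat_lit 13) [Mv.f (nat_lit 10014), Mv.b (nat_lit 6913), Mv.f (nat_lit 6912)])))))
(Tr.nd (nat_lit 10018) (Tr.lf (Fc.ed (nat_lit 10017) (nat_lit 1011) Col.a (nat_lit 1011) (Dv.wd (nat_lit 79) [Mv.f (nat_lit 10016), Mv.f (nat_lit 10014), Mv.b (nat_lit 10016)])))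
(Tr.nd (nat_lit 10019) (Tr.lf (Fc.ed (nat_lit 10018) (nat_lit 1897) Col.b (nat_lit 1897) (Dv.wd (nat_lit 159) [Mv.f (nat_lit 5371), Mv.b (nat_lit 3584), Mv.f (nat_lit 10017), Mv.f (nat_lit 3584), Mv.b (nat_lit 5371)])))
(Tr.lf (Fc.ed (nat_lit 10019) (nat_lit 1496) Col.b (nat_lit 1496) (Dv.wd (nat_lit 127) [Mv.f (nat_lit 5370), Mv.f (nat_lit 10018), Mv.b (nat_lit 5370)])))))))))))
(Tr.nd (nat_lit 10102) (Tr.nd (nat_lit 10061) (Tr.nd (nat_lit 10040) (Tr.nd (nat_lit 10030) (Tr.nd (nat_lit 10025) (Tr.nd (nat_lit 10022) (Tr.nd (nat_lit 10021) (Tr.lf (Fc.ed (nat_lit 10020) (nat_lit 2261) Col.b (nat_lit 2261) (Dv.wd (nat_lit 107) [Mv.f (nat_lit 6202), Mv.f (nat_lit 10018), Mv.b (nat_lit 6202)])))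
(Tr.lf (Fc.ed (nat_lit 10021) (nat_lit 1697) Col.b (nat_lit 1697) (Dv.wd (nat_lit 126) [Mv.f (nat_lit 4934), Mv.f (nat_lit 10019), Mv.b (nat_lit 4934)]))))
(Tr.nd (nat_lit 10023) (Tr.lf (Fc.ed (nat_lit 10022) (nat_lit 1775) Col.c (nat_lit 1775) (Dv.wd (nat_lit 121) [Mv.b (nat_lit 5124), Mv.f (nat_lit 5092), Mv.f (nat_lit 10021), Mv.b (nat_lit 5092), Mv.f (nat_lit 5124)])))
(Tr.nd (nat_lit 10024) (Tr.lf (Fc.ed (nat_lit 10023) (nat_lit 1894) Col.c (nat_lit 1894) (Dv.wd (nat_lit 67) [Mv.f (nat_lit 5363), Mv.f (nat_lit 10022), Mv.b (nat_lit 5363)])))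
(Tr.lf (Fc.ed (nat_lit 10024) (nat_lit 1894) Col.g (nat_lit 3739) (Dv.wd (nat_lit 123) [Mv.b (nat_lit 9512), Mv.b (nat_lit 9511), Mv.f (nat_lit 6805), Mv.b (nat_lit 5238), Mv.b (nat_lit 8666), Mv.f (nat_lit 8667), Mv.b (nat_lit 8551), Mv.b (nat_lit 5461), Mv.f (nat_lit 5362), Mv.f (nat_lit 10023)]))))))
(Tr.nd (nat_lit 10027) (Tr.nd (nat_lit 10026) (Tr.lf (Fc.ed (nat_lit 10025) (nat_lit 1991) Col.a (nat_lit 1775) (Dv.wd (nat_lit 114) [Mv.b (nat_lit 5363), Mv.f (nat_lit 10024), Mv.b (nat_lit 9323)])))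
(Tr.lf (Fc.ed (nat_lit 10026) (nat_lit 736) Col.a (nat_lit 768) (Dv.wd (nat_lit 167) [Mv.f (nat_lit 5565), Mv.f (nat_lit 10025), Mv.b (nat_lit 5124), Mv.b (nat_lit 5091), Mv.b (nat_lit 2849)]))))
(Tr.nd (nat_lit 10028) (Tr.lf (Fc.ed (nat_lit 10027) (nat_lit 936) Col.a (nat_lit 1010) (Dv.wd (nat_lit 54) [Mv.b (nat_lit 3167), Mv.f (nat_lit 10026), Mv.f (nat_lit 2965)])))
(Tr.nd (nat_lit 10029) (Tr.lf (Fc.ed (nat_lit 10028) (nat_lit 764) Col.f (nat_lit 736) (Dv.wd (nat_lit 73) [Mv.f (nat_lit 10026), Mv.f (nat_lit 9995), Mv.f (nat_lit 9997)])))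
(Tr.lf (Fc.ed (nat_lit 10029) (nat_lit 954) Col.b (nat_lit 764) (Dv.wd (nat_lit 107) [Mv.f (nat_lit 10028), Mv.f (nat_lit 2849), Mv.b (nat_lit 3014)])))))))
(Tr.nd (nat_lit 10035) (Tr.nd (nat_lit 10032) (Tr.nd (nat_lit 10031) (Tr.lf (Fc.ed (nat_lit 10030) (nat_lit 1010) Col.f (nat_lit 1144) (Dv.wd (nat_lit 11) [Mv.f (nat_lit 3525), Mv.f (nat_lit 10028), Mv.f (nat_lit 3167)])))
(Tr.lf (Fc.ed (nat_lit 10031) (nat_lit 1144) Col.b (nat_lit 2127) (Dv.wd (nat_lit 66) [Mv.b (nat_lit 5908), Mv.b (nat_lit 5154), Mv.f (nat_lit 10030)]))))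
(Tr.nd (nat_lit 10033) (Tr.lf (Fc.ed (nat_lit 10032) (nat_lit 1150) Col.f (nat_lit 1067) (Dv.wd (nat_lit 26) [Mv.f (nat_lit 3411), Mv.f (nat_lit 10030), Mv.f (nat_lit 3545)])))
(Tr.nd (nat_lit 10034) (Tr.lf (Fc.ed (nat_lit 10033) (nat_lit 1144) Col.a (nat_lit 942) (Dv.wd (nat_lit 23) [Mv.f (nat_lit 3077), Mv.b (nat_lit 3168), Mv.f (nat_lit 10030)])))
(Tr.lf (Fc.ed (nat_lit 10034) (nat_lit 936) Col.f (nat_lit 942) (Dv.wd (nat_lit 35) [Mv.b (nat_lit 10033), Mv.b (nat_lit 10030), Mv.b (nat_lit 10027)]))))))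
(Tr.nd (nat_lit 10037) (Tr.nd (nat_lit 10036) (Tr.lf (Fc.ed (nat_lit 10035) (nat_lit 2583) Col.f (nat_lit 1828) (Dv.wd (nat_lit 20) [Mv.b (nat_lit 5226), Mv.f (nat_lit 10034), Mv.f (nat_lit 6932)])))
(Tr.lf (Fc.ed (nat_lit 10036) (nat_lit 1204) Col.f (nat_lit 1021) (Dv.wd (nat_lit 26) [Mv.b (nat_lit 3456), Mv.f (nat_lit 10034), Mv.f (nat_lit 3706)]))))
(Tr.nd (nat_lit 10038) (Tr.lf (Fc.ed (nat_lit 10037) (nat_lit 2278) Col.f (nat_lit 2704) (Dv.wd (nat_lit 20) [Mv.b (nat_lit 7193), Mv.f (nat_lit 10036), Mv.f (nat_lit 6240)])))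
(Tr.nd (nat_lit 10039) (Tr.lf (Fc.ed (nat_lit 10038) (nat_lit 1021) Col.a (nat_lit 1067) (Dv.wd (nat_lit 23) [Mv.b (nat_lit 3755), Mv.f (nat_lit 3756), Mv.f (nat_lit 10036)])))
(Tr.lf (Fc.ed (nat_lit 10039) (nat_lit 1150) Col.a (nat_lit 1204) (Dv.wd (nat_lit 114) [Mv.f (nat_lit 10036), Mv.b (nat_lit 3455), Mv.f (nat_lit 3547)]))))))))
(Tr.nd (nat_lit 10050) (Tr.nd (nat_lit 10045) (Tr.nd (nat_lit 10042) (Tr.nd (nat_lit 10041) (Tr.lf (Fc.ed (nat_lit 10040) (nat_lit 1130) Col.a (nat_lit 1123) (Dv.wd (nat_lit 54) [Mv.b (nat_lit 3546), Mv.f (nat_lit 10039), Mv.f (nat_lit 3707)])))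
(Tr.lf (Fc.ed (nat_lit 10041) (nat_lit 2530) Col.e (nat_lit 1150) (Dv.wd (nat_lit 72) [Mv.f (nat_lit 10039), Mv.f (nat_lit 6749), Mv.f (nat_lit 6810)]))))
(Tr.nd (nat_lit 10043) (Tr.lf (Fc.ed (nat_lit 10042) (nat_lit 1150) Col.b (nat_lit 4052) (Dv.wd (nat_lit 49) [Mv.b (nat_lit 9890), Mv.b (nat_lit 7108), Mv.f (nat_lit 10041)])))
(Tr.nd (nat_lit 10044) (Tr.lf (Fc.ed (nat_lit 10043) (nat_lit 2058) Col.a (nat_lit 1732) (Dv.wd (nat_lit 31) [Mv.b (nat_lit 5023), Mv.f (nat_lit 10040), Mv.b (nat_lit 5699)])))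
(Tr.lf (Fc.ed (nat_lit 10044) (nat_lit 1053) Col.a (nat_lit 957) (Dv.wd (nat_lit 79) [Mv.f (nat_lit 9988), Mv.f (nat_lit 10040), Mv.b (nat_lit 9984)]))))))
(Tr.nd (nat_lit 10047) (Tr.nd (nat_lit 10046) (Tr.lf (Fc.ed (nat_lit 10045) (nat_lit 1665) Col.a (nat_lit 1040) (Dv.wd (nat_lit 76) [Mv.f (nat_lit 5698), Mv.f (nat_lit 10043), Mv.f (nat_lit 5024)])))
(Tr.lf (Fc.ed (nat_lit 10046) (nat_lit 3358) Col.a (nat_lit 2527) (Dv.wd (nat_lit 79) [Mv.b (nat_lit 9980), Mv.f (nat_lit 10043), Mv.f (nat_lit 8576)]))))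
(Tr.nd (nat_lit 10048) (Tr.lf (Fc.ed (nat_lit 10047) (nat_lit 3437) Col.g (nat_lit 2058) (Dv.wd (nat_lit 9) [Mv.f (nat_lit 10043), Mv.f (nat_lit 8576), Mv.f (nat_lit 8741)])))
(Tr.nd (nat_lit 10049) (Tr.lf (Fc.ed (nat_lit 10048) (nat_lit 2116) Col.c (nat_lit 3358) (Dv.wd (nat_lit 134) [Mv.f (nat_lit 10046), Mv.b (nat_lit 6802), Mv.f (nat_lit 5888)])))
(Tr.lf (Fc.ed (nat_lit 10049) (nat_lit 2201) Col.a (nat_lit 3407) (Dv.wd (nat_lit 31) [Mv.b (nat_lit 8678), Mv.f (nat_lit 10046), Mv.f (nat_lit 6803)])))))))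
(Tr.nd (nat_lit 10055) (Tr.nd (nat_lit 10052) (Tr.nd (nat_lit 10051) (Tr.lf (Fc.ed (nat_lit 10050) (nat_lit 2058) Col.g (nat_lit 3977) (Dv.wd (nat_lit 17) [Mv.b (nat_lit 9769), Mv.f (nat_lit 10046), Mv.b (nat_lit 9980)])))
(Tr.lf (Fc.ed (nat_lit 10051) (nat_lit 3407) Col.c (nat_lit 2031) (Dv.wd (nat_lit 33) [Mv.b (nat_lit 5641), Mv.f (nat_lit 6082), Mv.f (nat_lit 10049)]))))
(Tr.nd (nat_lit 10053) (Tr.lf (Fc.ed (nat_lit 10052) (nat_lit 1665) Col.f (nat_lit 2116) (Dv.wd (nat_lit 64) [Mv.f (nat_lit 10048), Mv.b (nat_lit 8576), Mv.f (nat_lit 5024)])))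
(Tr.nd (nat_lit 10054) (Tr.lf (Fc.ed (nat_lit 10053) (nat_lit 2116) Col.b (nat_lit 2116) (Dv.wd (nat_lit 66) [Mv.b (nat_lit 10052), Mv.f (nat_lit 4861), Mv.f (nat_lit 10052)])))
(Tr.lf (Fc.ed (nat_lit 10054) (nat_lit 2031) Col.f (nat_lit 1585) (Dv.wd (nat_lit 11) [Mv.b (nat_lit 4862), Mv.f (nat_lit 10052), Mv.b (nat_lit 9971)]))))))
(Tr.nd (nat_lit 10058) (Tr.nd (nat_lit 10056) (Tr.lf (Fc.ed (nat_lit 10055) (nat_lit 1948) Col.gi (nat_lit 3870) (Dv.wd (nat_lit 12) [Mv.b (nat_lit 9548), Mv.f (nat_lit 10052), Mv.b (nat_lit 5888)])))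
(Tr.nd (nat_lit 10057) (Tr.lf (Fc.ed (nat_lit 10056) (nat_lit 1585) Col.a (nat_lit 947) (Dv.wd (nat_lit 16) [Mv.f (nat_lit 5259), Mv.f (nat_lit 5641), Mv.f (nat_lit 10054)])))
(Tr.lf (Fc.ed (nat_lit 10057) (nat_lit 2031) Col.b (nat_lit 2031) (Dv.wd (nat_lit 107) [Mv.f (nat_lit 10054), Mv.f (nat_lit 4688), Mv.b (nat_lit 10054)])))))
(Tr.nd (nat_lit 10059) (Tr.lf (Fc.ed (nat_lit 10058) (nat_lit 3240) Col.g (nat_lit 1844) (Dv.wd (nat_lit 9) [Mv.f (nat_lit 5641), Mv.f (nat_lit 10054), Mv.f (nat_lit 8330)])))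
(Tr.nd (nat_lit 10060) (Tr.lf (Fc.ed (nat_lit 10059) (nat_lit 1745) Col.a (nat_lit 1745) (Dv.wd (nat_lit 155) [Mv.f (nat_lit 5054), Mv.b (nat_lit 10056), Mv.f (nat_lit 4688), Mv.f (nat_lit 10056), Mv.b (nat_lit 5054)])))
(Tr.lf (Fc.ed (nat_lit 10060) (nat_lit 1702) Col.a (nat_lit 1702) (Dv.wd (nat_lit 54) [Mv.b (nat_lit 5055), Mv.f (nat_lit 10059), Mv.f (nat_lit 5055)])))))))))
(Tr.nd (nat_lit 10081) (Tr.nd (nat_lit 10071) (Tr.nd (nat_lit 10066) (Tr.nd (nat_lit 10063) (Tr.nd (nat_lit 10062) (Tr.lf (Fc.ed (nat_lit 10061) (nat_lit 1263) Col.a (nat_lit 1263) (Dv.wd (nat_lit 31) [Mv.f (nat_lit 5053), Mv.f (nat_lit 10059), Mv.b (nat_lit 5053)])))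
(Tr.lf (Fc.ed (nat_lit 10062) (nat_lit 1351) Col.a (nat_lit 1351) (Dv.wd (nat_lit 79) [Mv.b (nat_lit 9983), Mv.f (nat_lit 10061), Mv.f (nat_lit 9983)]))))
(Tr.nd (nat_lit 10064) (Tr.lf (Fc.ed (nat_lit 10063) (nat_lit 3288) Col.a (nat_lit 3288) (Dv.wd (nat_lit 76) [Mv.b (nat_lit 8429), Mv.f (nat_lit 10062), Mv.f (nat_lit 8429)])))
(Tr.nd (nat_lit 10065) (Tr.lf (Fc.ed (nat_lit 10064) (nat_lit 3749) Col.a (nat_lit 3749) (Dv.wd (nat_lit 31) [Mv.f (nat_lit 9338), Mv.f (nat_lit 10063), Mv.b (nat_lit 9338)])))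
(Tr.lf (Fc.ed (nat_lit 10065) (nat_lit 2033) Col.a (nat_lit 2033) (Dv.wd (nat_lit 79) [Mv.b (nat_lit 5644), Mv.f (nat_lit 10060), Mv.f (nat_lit 5644)]))))))
(Tr.nd (nat_lit 10068) (Tr.nd (nat_lit 10067) (Tr.lf (Fc.ed (nat_lit 10066) (nat_lit 3912) Col.gi (nat_lit 2033) (Dv.wd (nat_lit 24) [Mv.b (nat_lit 5644), Mv.f (nat_lit 10060), Mv.f (nat_lit 9617)])))
(Tr.lf (Fc.ed (nat_lit 10067) (nat_lit 2033) Col.gi (nat_lit 3028) (Dv.wd (nat_lit 12) [Mv.b (nat_lit 7884), Mv.f (nat_lit 5644), Mv.f (nat_lit 10065)]))))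
(Tr.nd (nat_lit 10069) (Tr.lf (Fc.ed (nat_lit 10068) (nat_lit 2222) Col.g (nat_lit 1665) (Dv.wd (nat_lit 9) [Mv.f (nat_lit 10045), Mv.b (nat_lit 9978), Mv.f (nat_lit 6119)])))
(Tr.nd (nat_lit 10070) (Tr.lf (Fc.ed (nat_lit 10069) (nat_lit 3870) Col.a (nat_lit 3959) (Dv.wd (nat_lit 114) [Mv.b (nat_lit 9738), Mv.f (nat_lit 10068), Mv.f (nat_lit 9548)])))
(Tr.lf (Fc.ed (nat_lit 10070) (nat_lit 2177) Col.f (nat_lit 2049) (Dv.wd (nat_lit 11) [Mv.b (nat_lit 6241), Mv.f (nat_lit 10037), Mv.f (nat_lit 7194)])))))))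
(Tr.nd (nat_lit 10076) (Tr.nd (nat_lit 10073) (Tr.nd (nat_lit 10072) (Tr.lf (Fc.ed (nat_lit 10071) (nat_lit 1991) Col.f (nat_lit 1660) (Dv.wd (nat_lit 11) [Mv.b (nat_lit 6933), Mv.f (nat_lit 10035), Mv.b (nat_lit 5566)])))
(Tr.lf (Fc.ed (nat_lit 10072) (nat_lit 3280) Col.gi (nat_lit 2583) (Dv.wd (nat_lit 24) [Mv.f (nat_lit 10035), Mv.f (nat_lit 8288), Mv.f (nat_lit 8414)]))))
(Tr.nd (nat_lit 10074) (Tr.lf (Fc.ed (nat_lit 10073) (nat_lit 1660) Col.a (nat_lit 1894) (Dv.wd (nat_lit 16) [Mv.f (nat_lit 5363), Mv.b (nat_lit 10025), Mv.f (nat_lit 10071)])))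
(Tr.nd (nat_lit 10075) (Tr.lf (Fc.ed (nat_lit 10074) (nat_lit 1660) Col.g (nat_lit 3045) (Dv.wd (nat_lit 17) [Mv.b (nat_lit 7917), Mv.b (nat_lit 10025), Mv.f (nat_lit 10071)])))
(Tr.lf (Fc.ed (nat_lit 10075) (nat_lit 3045) Col.a (nat_lit 3478) (Dv.wd (nat_lit 114) [Mv.b (nat_lit 8812), Mv.b (nat_lit 6616), Mv.f (nat_lit 10074)]))))))
(Tr.nd (nat_lit 10078) (Tr.nd (nat_lit 10077) (Tr.lf (Fc.ed (nat_lit 10076) (nat_lit 3604) Col.c (nat_lit 3583) (Dv.wd (nat_lit 135) [Mv.b (nat_lit 9023), Mv.b (nat_lit 4173), Mv.b (nat_lit 4171), Mv.f (nat_lit 1515), Mv.f (nat_lit 1380), Mv.f (nat_lit 1945), Mv.b (nat_lit 2192), Mv.f (nat_lit 4849), Mv.f (nat_lit 10074), Mv.f (nat_lit 9061)])))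
(Tr.lf (Fc.ed (nat_lit 10077) (nat_lit 2451) Col.gi (nat_lit 1775) (Dv.wd (nat_lit 102) [Mv.f (nat_lit 10022), Mv.f (nat_lit 7917), Mv.f (nat_lit 9061), Mv.f (nat_lit 10076), Mv.f (nat_lit 9024), Mv.f (nat_lit 6306), Mv.b (nat_lit 6308), Mv.b (nat_lit 6391), Mv.f (nat_lit 7085), Mv.f (nat_lit 7086)]))))
(Tr.nd (nat_lit 10079) (Tr.lf (Fc.ed (nat_lit 10078) (nat_lit 2815) Col.c (nat_lit 1937) (Dv.wd (nat_lit 142) [Mv.b (nat_lit 5450), Mv.b (nat_lit 5092), Mv.f (nat_lit 5124), Mv.f (nat_lit 7917), Mv.f (nat_lit 9061), Mv.f (nat_lit 10076), Mv.f (nat_lit 9024), Mv.f (nat_lit 6306), Mv.b (nat_lit 7394), Mv.f (nat_lit 7440)])))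
(Tr.nd (nat_lit 10080) (Tr.lf (Fc.ed (nat_lit 10079) (nat_lit 3036) Col.c (nat_lit 3449) (Dv.wd (nat_lit 33) [Mv.b (nat_lit 8762), Mv.f (nat_lit 10078), Mv.f (nat_lit 7899)])))
(Tr.lf (Fc.ed (nat_lit 10080) (nat_lit 2134) Col.c (nat_lit 2452) (Dv.wd (nat_lit 142) [Mv.f (nat_lit 6618), Mv.b (nat_lit 6306), Mv.f (nat_lit 6308), Mv.b (nat_lit 7394), Mv.f (nat_lit 7440), Mv.f (nat_lit 10078), Mv.b (nat_lit 5450), Mv.b (nat_lit 5092), Mv.f (nat_lit 5550), Mv.f (nat_lit 5929)]))))))))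
(Tr.nd (nat_lit 10091) (Tr.nd (nat_lit 10086) (Tr.nd (nat_lit 10083) (Tr.nd (nat_lit 10082) (Tr.lf (Fc.ed (nat_lit 10081) (nat_lit 3305) Col.g (nat_lit 2134) (Dv.wd (nat_lit 118) [Mv.f (nat_lit 10080), Mv.b (nat_lit 6617), Mv.f (nat_lit 4173), Mv.f (nat_lit 4009), Mv.b (nat_lit 2122), Mv.f (nat_lit 4385), Mv.f (nat_lit 4386), Mv.b (nat_lit 7213), Mv.f (nat_lit 9914), Mv.f (nat_lit 9915)])))
(Tr.lf (Fc.ed (nat_lit 10082) (nat_lit 2134) Col.a (nat_lit 4051) (Dv.wd (nat_lit 114) [Mv.b (nat_lit 9889), Mv.f (nat_lit 8464), Mv.f (nat_lit 10081)]))))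
(Tr.nd (nat_lit 10084) (Tr.lf (Fc.ed (nat_lit 10083) (nat_lit 4063) Col.a (nat_lit 3818) (Dv.wd (nat_lit 54) [Mv.b (nat_lit 9462), Mv.f (nat_lit 10082), Mv.f (nat_lit 9908)])))
(Tr.nd (nat_lit 10085) (Tr.lf (Fc.ed (nat_lit 10084) (nat_lit 3045) Col.f (nat_lit 3537) (Dv.wd (nat_lit 13) [Mv.b (nat_lit 8932), Mv.f (nat_lit 10077), Mv.f (nat_lit 7917)])))
(Tr.lf (Fc.ed (nat_lit 10085) (nat_lit 2907) Col.a (nat_lit 2583) (Dv.wd (nat_lit 54) [Mv.f (nat_lit 6933), Mv.f (nat_lit 10073), Mv.f (nat_lit 7640)]))))))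
(Tr.nd (nat_lit 10088) (Tr.nd (nat_lit 10087) (Tr.lf (Fc.ed (nat_lit 10086) (nat_lit 3215) Col.f (nat_lit 2907) (Dv.wd (nat_lit 73) [Mv.f (nat_lit 10085), Mv.f (nat_lit 10035), Mv.f (nat_lit 8288)])))
(Tr.lf (Fc.ed (nat_lit 10087) (nat_lit 2907) Col.g (nat_lit 3380) (Dv.wd (nat_lit 17) [Mv.b (nat_lit 8621), Mv.f (nat_lit 8288), Mv.f (nat_lit 10086)]))))
(Tr.nd (nat_lit 10089) (Tr.lf (Fc.ed (nat_lit 10088) (nat_lit 354) Col.b (nat_lit 894) (Dv.wd (nat_lit 136) [Mv.f (nat_lit 3013), Mv.f (nat_lit 10029), Mv.b (nat_lit 2202), Mv.f (nat_lit 1749), Mv.f (nat_lit 845)])))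
(Tr.nd (nat_lit 10090) (Tr.lf (Fc.ed (nat_lit 10089) (nat_lit 3284) Col.c (nat_lit 3725) (Dv.wd (nat_lit 115) [Mv.b (nat_lit 9294), Mv.f (nat_lit 5968), Mv.f (nat_lit 10029), Mv.b (nat_lit 2202), Mv.f (nat_lit 1750), Mv.f (nat_lit 1330), Mv.f (nat_lit 1972), Mv.f (nat_lit 5148), Mv.b (nat_lit 9454), Mv.f (nat_lit 9455)])))
(Tr.lf (Fc.ed (nat_lit 10090) (nat_lit 910) Col.b (nat_lit 379) (Dv.wd (nat_lit 126) [Mv.f (nat_lit 902), Mv.f (nat_lit 10088), Mv.f (nat_lit 2891)])))))))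
(Tr.nd (nat_lit 10096) (Tr.nd (nat_lit 10093) (Tr.nd (nat_lit 10092) (Tr.lf (Fc.ed (nat_lit 10091) (nat_lit 894) Col.e (nat_lit 1019) (Dv.wd (nat_lit 52) [Mv.b (nat_lit 10007), Mv.f (nat_lit 982), Mv.f (nat_lit 10088)])))
(Tr.lf (Fc.ed (nat_lit 10092) (nat_lit 1767) Col.c (nat_lit 1742) (Dv.wd (nat_lit 135) [Mv.b (nat_lit 5046), Mv.f (nat_lit 2040), Mv.b (nat_lit 2037), Mv.b (nat_lit 563), Mv.b (nat_lit 546), Mv.b (nat_lit 420), Mv.f (nat_lit 845), Mv.f (nat_lit 10088), Mv.f (nat_lit 4996), Mv.f (nat_lit 5107)]))))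
(Tr.nd (nat_lit 10094) (Tr.lf (Fc.ed (nat_lit 10093) (nat_lit 3244) Col.a (nat_lit 1767) (Dv.wd (nat_lit 76) [Mv.f (nat_lit 10092), Mv.b (nat_lit 7405), Mv.f (nat_lit 8341)])))
(Tr.nd (nat_lit 10095) (Tr.lf (Fc.ed (nat_lit 10094) (nat_lit 2010) Col.c (nat_lit 3223) (Dv.wd (nat_lit 67) [Mv.f (nat_lit 8303), Mv.f (nat_lit 10092), Mv.f (nat_lit 5600)])))
(Tr.lf (Fc.ed (nat_lit 10095) (nat_lit 3678) Col.b (nat_lit 3744) (Dv.wd (nat_lit 165) [Mv.b (nat_lit 9331), Mv.f (nat_lit 10092), Mv.b (nat_lit 5046), Mv.f (nat_lit 2040), Mv.b (nat_lit 2037), Mv.b (nat_lit 563), Mv.b (nat_lit 2194), Mv.f (nat_lit 2415), Mv.b (nat_lit 5163), Mv.b (nat_lit 9193)]))))))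
(Tr.nd (nat_lit 10099) (Tr.nd (nat_lit 10097) (Tr.lf (Fc.ed (nat_lit 10096) (nat_lit 2155) Col.c (nat_lit 2153) (Dv.wd (nat_lit 156) [Mv.b (nat_lit 5967), Mv.f (nat_lit 5092), Mv.b (nat_lit 4997), Mv.f (nat_lit 5107), Mv.f (nat_lit 10092), Mv.f (nat_lit 5047), Mv.f (nat_lit 4236), Mv.f (nat_lit 4239), Mv.b (nat_lit 4392), Mv.f (nat_lit 5970)])))
(Tr.nd (nat_lit 10098) (Tr.lf (Fc.ed (nat_lit 10097) (nat_lit 3744) Col.f (nat_lit 3911) (Dv.wd (nat_lit 20) [Mv.b (nat_lit 9616), Mv.f (nat_lit 9192), Mv.f (nat_lit 10095)])))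
(Tr.lf (Fc.ed (nat_lit 10098) (nat_lit 3911) Col.a (nat_lit 4044) (Dv.wd (nat_lit 23) [Mv.f (nat_lit 9877), Mv.f (nat_lit 9331), Mv.f (nat_lit 10097)])))))
(Tr.nd (nat_lit 10100) (Tr.lf (Fc.ed (nat_lit 10099) (nat_lit 3392) Col.c (nat_lit 1450) (Dv.wd (nat_lit 33) [Mv.b (nat_lit 5601), Mv.f (nat_lit 10094), Mv.f (nat_lit 8646)])))
(Tr.nd (nat_lit 10101) (Tr.lf (Fc.ed (nat_lit 10100) (nat_lit 3284) Col.b (nat_lit 3392) (Dv.wd (nat_lit 136) [Mv.f (nat_lit 10099), Mv.f (nat_lit 5970), Mv.f (nat_lit 10096), Mv.f (nat_lit 9294), Mv.b (nat_lit 10089)])))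
(Tr.lf (Fc.ed (nat_lit 10101) (nat_lit 3392) Col.d (nat_lit 3555) (Dv.wd (nat_lit 58) [Mv.b (nat_lit 8972), Mv.b (nat_lit 8422), Mv.f (nat_lit 10100)]))))))))))
(Tr.nd (nat_lit 10143) (Tr.nd (nat_lit 10122) (Tr.nd (nat_lit 10112) (Tr.nd (nat_lit 10107) (Tr.nd (nat_lit 10104) (Tr.nd (nat_lit 10103) (Tr.lf (Fc.ed (nat_lit 10102) (nat_lit 1246) Col.d (nat_lit 1742) (Dv.wd (nat_lit 89) [Mv.b (nat_lit 5046), Mv.f (nat_lit 2040), Mv.f (nat_lit 4391), Mv.b (nat_lit 10099), Mv.f (nat_lit 10101), Mv.f (nat_lit 8973), Mv.b (nat_lit 6108), Mv.b (nat_lit 3590), Mv.f (nat_lit 3832)])))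
(Tr.lf (Fc.ed (nat_lit 10103) (nat_lit 2799) Col.d (nat_lit 1916) (Dv.wd (nat_lit 28) [Mv.f (nat_lit 5404), Mv.f (nat_lit 10102), Mv.b (nat_lit 7405)]))))
(Tr.nd (nat_lit 10105) (Tr.lf (Fc.ed (nat_lit 10104) (nat_lit 3533) Col.d (nat_lit 2326) (Dv.wd (nat_lit 48) [Mv.f (nat_lit 6351), Mv.b (nat_lit 3801), Mv.b (nat_lit 3833), Mv.f (nat_lit 10102), Mv.b (nat_lit 5046), Mv.f (nat_lit 2232), Mv.f (nat_lit 5003), Mv.b (nat_lit 5485), Mv.f (nat_lit 8924)])))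
(Tr.nd (nat_lit 10106) (Tr.lf (Fc.ed (nat_lit 10105) (nat_lit 3647) Col.d (nat_lit 1091) (Dv.wd (nat_lit 91) [Mv.f (nat_lit 3371), Mv.f (nat_lit 3098), Mv.b (nat_lit 3096), Mv.b (nat_lit 3833), Mv.f (nat_lit 10102), Mv.b (nat_lit 5046), Mv.f (nat_lit 2232), Mv.f (nat_lit 4658), Mv.b (nat_lit 8070), Mv.f (nat_lit 9139)])))
(Tr.lf (Fc.ed (nat_lit 10106) (nat_lit 2055) Col.d (nat_lit 3591) (Dv.wd (nat_lit 53) [Mv.b (nat_lit 9038), Mv.b (nat_lit 3714), Mv.b (nat_lit 1279), Mv.b (nat_lit 983), Mv.f (nat_lit 3832), Mv.f (nat_lit 10102), Mv.f (nat_lit 5047), Mv.b (nat_lit 4335), Mv.f (nat_lit 4621), Mv.b (nat_lit 5694)]))))))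
(Tr.nd (nat_lit 10109) (Tr.nd (nat_lit 10108) (Tr.lf (Fc.ed (nat_lit 10107) (nat_lit 2458) Col.e (nat_lit 1474) (Dv.wd (nat_lit 131) [Mv.b (nat_lit 4442), Mv.f (nat_lit 2263), Mv.f (nat_lit 5693), Mv.f (nat_lit 10106), Mv.b (nat_lit 9038), Mv.f (nat_lit 3715), Mv.f (nat_lit 3101), Mv.b (nat_lit 2961), Mv.f (nat_lit 3174), Mv.b (nat_lit 6633)])))
(Tr.lf (Fc.ed (nat_lit 10108) (nat_lit 2601) Col.e (nat_lit 1553) (Dv.wd (nat_lit 70) [Mv.f (nat_lit 4611), Mv.f (nat_lit 1929), Mv.f (nat_lit 2263), Mv.f (nat_lit 5693), Mv.f (nat_lit 10106), Mv.b (nat_lit 9038), Mv.f (nat_lit 3715), Mv.f (nat_lit 3625), Mv.b (nat_lit 4013), Mv.f (nat_lit 6968)]))))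
(Tr.nd (nat_lit 10110) (Tr.lf (Fc.ed (nat_lit 10109) (nat_lit 2531) Col.e (nat_lit 2787) (Dv.wd (nat_lit 56) [Mv.b (nat_lit 7376), Mv.f (nat_lit 10108), Mv.f (nat_lit 6811)])))
(Tr.nd (nat_lit 10111) (Tr.lf (Fc.ed (nat_lit 10110) (nat_lit 1855) Col.e (nat_lit 3145) (Dv.wd (nat_lit 25) [Mv.b (nat_lit 8148), Mv.f (nat_lit 10108), Mv.f (nat_lit 5285)])))
(Tr.lf (Fc.ed (nat_lit 10111) (nat_lit 2755) Col.d (nat_lit 3575) (Dv.wd (nat_lit 39) [Mv.b (nat_lit 9009), Mv.f (nat_lit 3284), Mv.b (nat_lit 3101), Mv.f (nat_lit 3625), Mv.b (nat_lit 4013), Mv.f (nat_lit 6968), Mv.f (nat_lit 10108), Mv.f (nat_lit 4611), Mv.f (nat_lit 3580), Mv.b (nat_lit 7306)])))))))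
(Tr.nd (nat_lit 10117) (Tr.nd (nat_lit 10114) (Tr.nd (nat_lit 10113) (Tr.lf (Fc.ed (nat_lit 10112) (nat_lit 1557) Col.d (nat_lit 837) (Dv.wd (nat_lit 43) [Mv.f (nat_lit 2392), Mv.f (nat_lit 1279), Mv.b (nat_lit 1584), Mv.f (nat_lit 4012), Mv.f (nat_lit 6968), Mv.f (nat_lit 10108), Mv.b (nat_lit 4610), Mv.b (nat_lit 4230), Mv.f (nat_lit 4406), Mv.f (nat_lit 4619)])))
(Tr.lf (Fc.ed (nat_lit 10113) (nat_lit 2416) Col.d (nat_lit 3250) (Dv.wd (nat_lit 48) [Mv.f (nat_lit 8356), Mv.f (nat_lit 5137), Mv.b (nat_lit 4620), Mv.f (nat_lit 10112), Mv.b (nat_lit 2391), Mv.b (nat_lit 2865), Mv.f (nat_lit 3801), Mv.b (nat_lit 4045), Mv.f (nat_lit 6539)]))))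
(Tr.nd (nat_lit 10115) (Tr.lf (Fc.ed (nat_lit 10114) (nat_lit 2099) Col.e (nat_lit 3659) (Dv.wd (nat_lit 47) [Mv.b (nat_lit 9159), Mv.b (nat_lit 8201), Mv.b (nat_lit 4209), Mv.f (nat_lit 4210), Mv.b (nat_lit 4620), Mv.f (nat_lit 10112), Mv.b (nat_lit 2391), Mv.b (nat_lit 2865), Mv.f (nat_lit 3096), Mv.f (nat_lit 5784)])))
(Tr.nd (nat_lit 10116) (Tr.lf (Fc.ed (nat_lit 10115) (nat_lit 2830) Col.e (nat_lit 3801) (Dv.wd (nat_lit 146) [Mv.b (nat_lit 9430), Mv.f (nat_lit 5603), Mv.f (nat_lit 4546), Mv.f (nat_lit 3498), Mv.b (nat_lit 5785), Mv.f (nat_lit 10114), Mv.b (nat_lit 9159), Mv.f (nat_lit 8202), Mv.b (nat_lit 7818), Mv.f (nat_lit 7471)])))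
(Tr.lf (Fc.al (nat_lit 10116) (nat_lit 2458) (nat_lit 1930) (Dv.wd (nat_lit 55) [Mv.b (nat_lit 5435), Mv.b (nat_lit 2948), Mv.b (nat_lit 4210), Mv.b (nat_lit 7472), Mv.f (nat_lit 10115), Mv.b (nat_lit 9430), Mv.b (nat_lit 5602), Mv.f (nat_lit 4224), Mv.f (nat_lit 4182), Mv.f (nat_lit 3174), Mv.b (nat_lit 6633)]))))))
(Tr.nd (nat_lit 10119) (Tr.nd (nat_lit 10118) (Tr.lf (Fc.al (nat_lit 10117) (nat_lit 3047) (nat_lit 2381) (Dv.wd (nat_lit 29) [Mv.f (nat_lit 6632), Mv.f (nat_lit 10116), Mv.f (nat_lit 7920)])))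
(Tr.lf (Fc.ed (nat_lit 10118) (nat_lit 1930) Col.d (nat_lit 1013) (Dv.wd (nat_lit 120) [Mv.b (nat_lit 6633), Mv.f (nat_lit 10116)]))))
(Tr.nd (nat_lit 10120) (Tr.lf (Fc.ed (nat_lit 10119) (nat_lit 1930) Col.e (nat_lit 1474) (Dv.wd (nat_lit 117) [Mv.b (nat_lit 10107), Mv.f (nat_lit 10116)])))
(Tr.nd (nat_lit 10121) (Tr.lf (Fc.al (nat_lit 10120) (nat_lit 2235) (nat_lit 2708) (Dv.wd (nat_lit 30) [Mv.b (nat_lit 7202), Mv.f (nat_lit 10116), Mv.f (nat_lit 6143)])))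
(Tr.lf (Fc.ed (nat_lit 10121) (nat_lit 2381) Col.a (nat_lit 1930) (Dv.wd (nat_lit 29) [Mv.f (nat_lit 7920), Mv.f (nat_lit 10117)]))))))))
(Tr.nd (nat_lit 10132) (Tr.nd (nat_lit 10127) (Tr.nd (nat_lit 10124) (Tr.nd (nat_lit 10123) (Tr.lf (Fc.ed (nat_lit 10122) (nat_lit 2381) Col.c (nat_lit 3483) (Dv.wd (nat_lit 103) [Mv.f (nat_lit 8828), Mv.f (nat_lit 10117)])))
(Tr.lf (Fc.ed (nat_lit 10123) (nat_lit 2235) Col.a (nat_lit 2932) (Dv.wd (nat_lit 29) [Mv.b (nat_lit 7689), Mv.b (nat_lit 10120)]))))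
(Tr.nd (nat_lit 10125) (Tr.lf (Fc.ed (nat_lit 10124) (nat_lit 2235) Col.d (nat_lit 1188) (Dv.wd (nat_lit 120) [Mv.b (nat_lit 7203), Mv.b (nat_lit 10120)])))
(Tr.nd (nat_lit 10126) (Tr.lf (Fc.ed (nat_lit 10125) (nat_lit 2932) Col.gi (nat_lit 689) (Dv.wd (nat_lit 12) [Mv.f (nat_lit 5435), Mv.f (nat_lit 6143), Mv.f (nat_lit 10123)])))
(Tr.lf (Fc.ed (nat_lit 10126) (nat_lit 1394) Col.gi (nat_lit 2932) (Dv.wd (nat_lit 12) [Mv.f (nat_lit 10125), Mv.b (nat_lit 2039), Mv.f (nat_lit 4228)]))))))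
(Tr.nd (nat_lit 10129) (Tr.nd (nat_lit 10128) (Tr.lf (Fc.ed (nat_lit 10127) (nat_lit 2139) Col.b (nat_lit 2932) (Dv.wd (nat_lit 101) [Mv.f (nat_lit 10125), Mv.b (nat_lit 2024), Mv.b (nat_lit 576), Mv.f (nat_lit 193), Mv.f (nat_lit 784), Mv.f (nat_lit 1099), Mv.f (nat_lit 2402), Mv.b (nat_lit 2850), Mv.f (nat_lit 5906), Mv.f (nat_lit 5937)])))
(Tr.lf (Fc.ed (nat_lit 10128) (nat_lit 3574) Col.e (nat_lit 1224) (Dv.wd (nat_lit 74) [Mv.b (nat_lit 3776), Mv.f (nat_lit 3101), Mv.b (nat_lit 2961), Mv.f (nat_lit 3292), Mv.b (nat_lit 7690), Mv.f (nat_lit 10125), Mv.f (nat_lit 2025), Mv.b (nat_lit 3208), Mv.b (nat_lit 6094), Mv.f (nat_lit 9008)]))))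
(Tr.nd (nat_lit 10130) (Tr.lf (Fc.ed (nat_lit 10129) (nat_lit 3500) Col.c (nat_lit 3574) (Dv.wd (nat_lit 109) [Mv.f (nat_lit 10128), Mv.f (nat_lit 4551), Mv.f (nat_lit 8859)])))
(Tr.nd (nat_lit 10131) (Tr.lf (Fc.ed (nat_lit 10130) (nat_lit 3229) Col.e (nat_lit 1475) (Dv.wd (nat_lit 70) [Mv.f (nat_lit 4445), Mv.b (nat_lit 4426), Mv.b (nat_lit 4835), Mv.f (nat_lit 6093), Mv.f (nat_lit 9008), Mv.f (nat_lit 10128), Mv.f (nat_lit 3777), Mv.b (nat_lit 1584), Mv.b (nat_lit 3907), Mv.f (nat_lit 8313)])))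
(Tr.lf (Fc.ed (nat_lit 10131) (nat_lit 2898) Col.e (nat_lit 1423) (Dv.wd (nat_lit 140) [Mv.b (nat_lit 6812), Mv.f (nat_lit 10109), Mv.b (nat_lit 8314), Mv.f (nat_lit 10130), Mv.f (nat_lit 7620)])))))))
(Tr.nd (nat_lit 10137) (Tr.nd (nat_lit 10134) (Tr.nd (nat_lit 10133) (Tr.lf (Fc.ed (nat_lit 10132) (nat_lit 1528) Col.d (nat_lit 1469) (Dv.wd (nat_lit 43) [Mv.f (nat_lit 4432), Mv.b (nat_lit 3101), Mv.f (nat_lit 3625), Mv.f (nat_lit 3906), Mv.f (nat_lit 8313), Mv.f (nat_lit 10130), Mv.b (nat_lit 4444), Mv.b (nat_lit 2038), Mv.f (nat_lit 2232), Mv.b (nat_lit 4558)])))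
(Tr.lf (Fc.ed (nat_lit 10133) (nat_lit 2511) Col.d (nat_lit 2551) (Dv.wd (nat_lit 28) [Mv.f (nat_lit 6860), Mv.f (nat_lit 10132), Mv.f (nat_lit 6760)]))))
(Tr.nd (nat_lit 10135) (Tr.lf (Fc.ed (nat_lit 10134) (nat_lit 3970) Col.b (nat_lit 1528) (Dv.wd (nat_lit 126) [Mv.f (nat_lit 10132), Mv.f (nat_lit 9251), Mv.b (nat_lit 9759)])))
(Tr.nd (nat_lit 10136) (Tr.lf (Fc.ed (nat_lit 10135) (nat_lit 3609) Col.gi (nat_lit 2141) (Dv.wd (nat_lit 50) [Mv.b (nat_lit 5942), Mv.f (nat_lit 4557), Mv.f (nat_lit 10132), Mv.b (nat_lit 4431), Mv.f (nat_lit 2010), Mv.f (nat_lit 3639), Mv.f (nat_lit 3873), Mv.b (nat_lit 7331), Mv.f (nat_lit 9069)])))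
(Tr.lf (Fc.ed (nat_lit 10136) (nat_lit 3757) Col.c (nat_lit 3074) (Dv.wd (nat_lit 32) [Mv.b (nat_lit 7993), Mv.b (nat_lit 5003), Mv.b (nat_lit 4558), Mv.f (nat_lit 10132), Mv.b (nat_lit 4431), Mv.f (nat_lit 2013), Mv.f (nat_lit 3283), Mv.b (nat_lit 8822), Mv.f (nat_lit 9350)]))))))
(Tr.nd (nat_lit 10140) (Tr.nd (nat_lit 10138) (Tr.lf (Fc.ed (nat_lit 10137) (nat_lit 2263) Col.e (nat_lit 3635) (Dv.wd (nat_lit 47) [Mv.b (nat_lit 9115), Mv.f (nat_lit 7708), Mv.f (nat_lit 6604), Mv.f (nat_lit 6142), Mv.f (nat_lit 4557), Mv.f (nat_lit 10132), Mv.b (nat_lit 4431), Mv.f (nat_lit 2010), Mv.f (nat_lit 1141), Mv.b (nat_lit 6206)])))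
(Tr.nd (nat_lit 10139) (Tr.lf (Fc.ed (nat_lit 10138) (nat_lit 3616) Col.d (nat_lit 1395) (Dv.wd (nat_lit 162) [Mv.b (nat_lit 4287), Mv.f (nat_lit 4286), Mv.f (nat_lit 6207), Mv.f (nat_lit 10137), Mv.b (nat_lit 9115), Mv.b (nat_lit 7707), Mv.f (nat_lit 6061), Mv.f (nat_lit 4925), Mv.b (nat_lit 7919), Mv.f (nat_lit 9079)])))
(Tr.lf (Fc.ed (nat_lit 10139) (nat_lit 2703) Col.d (nat_lit 3701) (Dv.wd (nat_lit 28) [Mv.b (nat_lit 9246), Mv.f (nat_lit 10138), Mv.f (nat_lit 7191)])))))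
(Tr.nd (nat_lit 10141) (Tr.lf (Fc.ed (nat_lit 10140) (nat_lit 3828) Col.d (nat_lit 2263) (Dv.wd (nat_lit 90) [Mv.b (nat_lit 7192), Mv.f (nat_lit 10139), Mv.f (nat_lit 9480)])))
(Tr.nd (nat_lit 10142) (Tr.lf (Fc.ed (nat_lit 10141) (nat_lit 1723) Col.gi (nat_lit 3609) (Dv.wd (nat_lit 12) [Mv.f (nat_lit 10135), Mv.f (nat_lit 5944), Mv.f (nat_lit 5147)])))
(Tr.lf (Fc.ed (nat_lit 10142) (nat_lit 2485) Col.d (nat_lit 3074) (Dv.wd (nat_lit 51) [Mv.f (nat_lit 7994), Mv.f (nat_lit 5945), Mv.b (nat_lit 5781), Mv.f (nat_lit 5485), Mv.f (nat_lit 10141), Mv.b (nat_lit 9069), Mv.b (nat_lit 7330), Mv.f (nat_lit 3927), Mv.b (nat_lit 6693)])))))))))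
(Tr.nd (nat_lit 10164) (Tr.nd (nat_lit 10153) (Tr.nd (nat_lit 10148) (Tr.nd (nat_lit 10145) (Tr.nd (nat_lit 10144) (Tr.lf (Fc.ed (nat_lit 10143) (nat_lit 3609) Col.c (nat_lit 3666) (Dv.wd (nat_lit 143) [Mv.b (nat_lit 9170), Mv.b (nat_lit 6011), Mv.f (nat_lit 10090), Mv.b (nat_lit 901), Mv.f (nat_lit 881), Mv.b (nat_lit 822), Mv.f (nat_lit 836), Mv.b (nat_lit 2233), Mv.f (nat_lit 5003), Mv.f (nat_lit 10141)])))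
(Tr.lf (Fc.ed (nat_lit 10144) (nat_lit 3747) Col.b (nat_lit 3864) (Dv.wd (nat_lit 154) [Mv.b (nat_lit 9540), Mv.b (nat_lit 7985), Mv.b (nat_lit 5806), Mv.f (nat_lit 2855), Mv.f (nat_lit 836), Mv.b (nat_lit 2233), Mv.f (nat_lit 5003), Mv.f (nat_lit 10141), Mv.f (nat_lit 10143), Mv.f (nat_lit 9335)]))))
(Tr.nd (nat_lit 10146) (Tr.lf (Fc.ed (nat_lit 10145) (nat_lit 3744) Col.d (nat_lit 3747) (Dv.wd (nat_lit 89) [Mv.b (nat_lit 9335), Mv.b (nat_lit 10143), Mv.b (nat_lit 10141), Mv.b (nat_lit 5003), Mv.b (nat_lit 2232), Mv.f (nat_lit 2040), Mv.f (nat_lit 5046), Mv.b (nat_lit 10092), Mv.f (nat_lit 9331)])))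
(Tr.nd (nat_lit 10147) (Tr.lf (Fc.ed (nat_lit 10146) (nat_lit 3864) Col.d (nat_lit 3678) (Dv.wd (nat_lit 58) [Mv.f (nat_lit 10095), Mv.f (nat_lit 10145), Mv.f (nat_lit 10144)])))
(Tr.lf (Fc.ed (nat_lit 10147) (nat_lit 2961) Col.d (nat_lit 2069) (Dv.wd (nat_lit 89) [Mv.f (nat_lit 5720), Mv.f (nat_lit 5806), Mv.f (nat_lit 7985), Mv.f (nat_lit 9540), Mv.f (nat_lit 10146), Mv.f (nat_lit 9193), Mv.f (nat_lit 5163), Mv.b (nat_lit 2415), Mv.f (nat_lit 7743)]))))))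
(Tr.nd (nat_lit 10150) (Tr.nd (nat_lit 10149) (Tr.lf (Fc.ed (nat_lit 10148) (nat_lit 3060) Col.d (nat_lit 1867) (Dv.wd (nat_lit 48) [Mv.f (nat_lit 5310), Mv.f (nat_lit 4841), Mv.b (nat_lit 7744), Mv.f (nat_lit 10147), Mv.f (nat_lit 5720), Mv.b (nat_lit 2854), Mv.f (nat_lit 2210), Mv.b (nat_lit 4942), Mv.f (nat_lit 7966)])))
(Tr.lf (Fc.ed (nat_lit 10149) (nat_lit 2362) Col.d (nat_lit 4020) (Dv.wd (nat_lit 53) [Mv.b (nat_lit 9837), Mv.f (nat_lit 7717), Mv.f (nat_lit 3994), Mv.b (nat_lit 2949), Mv.f (nat_lit 7743), Mv.f (nat_lit 10147), Mv.b (nat_lit 5719), Mv.b (nat_lit 4891), Mv.f (nat_lit 4890), Mv.b (nat_lit 6437)]))))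
(Tr.nd (nat_lit 10151) (Tr.lf (Fc.ed (nat_lit 10150) (nat_lit 4020) Col.a (nat_lit 4057) (Dv.wd (nat_lit 8) [Mv.b (nat_lit 9900), Mv.b (nat_lit 9428), Mv.f (nat_lit 10149)])))
(Tr.nd (nat_lit 10152) (Tr.lf (Fc.ed (nat_lit 10151) (nat_lit 1911) Col.d (nat_lit 3928) (Dv.wd (nat_lit 60) [Mv.b (nat_lit 9688), Mv.b (nat_lit 8682), Mv.b (nat_lit 5866), Mv.f (nat_lit 6436), Mv.f (nat_lit 10149), Mv.b (nat_lit 9837), Mv.b (nat_lit 7716), Mv.b (nat_lit 7126), Mv.f (nat_lit 7125), Mv.f (nat_lit 5394)])))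
(Tr.lf (Fc.ed (nat_lit 10152) (nat_lit 4009) Col.e (nat_lit 3422) (Dv.wd (nat_lit 70) [Mv.b (nat_lit 8708), Mv.f (nat_lit 5865), Mv.b (nat_lit 5866), Mv.f (nat_lit 6436), Mv.f (nat_lit 10149), Mv.b (nat_lit 9837), Mv.b (nat_lit 7716), Mv.b (nat_lit 8297), Mv.f (nat_lit 8451), Mv.f (nat_lit 9819)])))))))
(Tr.nd (nat_lit 10158) (Tr.nd (nat_lit 10155) (Tr.nd (nat_lit 10154) (Tr.lf (Fc.ed (nat_lit 10153) (nat_lit 1526) Col.d (nat_lit 2013) (Dv.wd (nat_lit 43) [Mv.b (nat_lit 5606), Mv.b (nat_lit 3994), Mv.b (nat_lit 4670), Mv.b (nat_lit 8452), Mv.f (nat_lit 9819), Mv.f (nat_lit 10152), Mv.f (nat_lit 8709), Mv.f (nat_lit 5287), Mv.b (nat_lit 4653), Mv.f (nat_lit 4554)])))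
(Tr.lf (Fc.ed (nat_lit 10154) (nat_lit 1859) Col.d (nat_lit 1821) (Dv.wd (nat_lit 43) [Mv.f (nat_lit 5213), Mv.f (nat_lit 3571), Mv.f (nat_lit 3573), Mv.f (nat_lit 5870), Mv.f (nat_lit 10151), Mv.b (nat_lit 9688), Mv.f (nat_lit 8683), Mv.f (nat_lit 4891), Mv.b (nat_lit 4737), Mv.f (nat_lit 5291)]))))
(Tr.nd (nat_lit 10156) (Tr.lf (Fc.ed (nat_lit 10155) (nat_lit 2585) Col.d (nat_lit 1921) (Dv.wd (nat_lit 28) [Mv.f (nat_lit 5414), Mv.f (nat_lit 10154), Mv.f (nat_lit 6936)])))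
(Tr.nd (nat_lit 10157) (Tr.lf (Fc.ed (nat_lit 10156) (nat_lit 1929) Col.d (nat_lit 3624) (Dv.wd (nat_lit 58) [Mv.b (nat_lit 9094), Mv.f (nat_lit 10154), Mv.f (nat_lit 5433)])))
(Tr.lf (Fc.ed (nat_lit 10157) (nat_lit 2467) Col.d (nat_lit 3084) (Dv.wd (nat_lit 90) [Mv.f (nat_lit 8017), Mv.f (nat_lit 10154), Mv.f (nat_lit 6653)]))))))
(Tr.nd (nat_lit 10161) (Tr.nd (nat_lit 10159) (Tr.lf (Fc.ed (nat_lit 10158) (nat_lit 3596) Col.d (nat_lit 1736) (Dv.wd (nat_lit 48) [Mv.b (nat_lit 5032), Mv.b (nat_lit 2210), Mv.b (nat_lit 5292), Mv.f (nat_lit 10154), Mv.b (nat_lit 5212), Mv.b (nat_lit 4832), Mv.b (nat_lit 5007), Mv.b (nat_lit 6185), Mv.f (nat_lit 9047)])))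
(Tr.nd (nat_lit 10160) (Tr.lf (Fc.ed (nat_lit 10159) (nat_lit 2919) Col.d (nat_lit 2015) (Dv.wd (nat_lit 62) [Mv.b (nat_lit 5610), Mv.b (nat_lit 4809), Mv.b (nat_lit 4736), Mv.f (nat_lit 5291), Mv.f (nat_lit 10154), Mv.b (nat_lit 5212), Mv.f (nat_lit 5797), Mv.f (nat_lit 7654), Mv.b (nat_lit 7665)])))
(Tr.lf (Fc.ed (nat_lit 10160) (nat_lit 1973) Col.d (nat_lit 2429) (Dv.wd (nat_lit 58) [Mv.f (nat_lit 7664), Mv.f (nat_lit 10159), Mv.f (nat_lit 5611)])))))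
(Tr.nd (nat_lit 10162) (Tr.lf (Fc.ed (nat_lit 10161) (nat_lit 3876) Col.e (nat_lit 3216) (Dv.wd (nat_lit 74) [Mv.b (nat_lit 8289), Mv.b (nat_lit 5880), Mv.b (nat_lit 5424), Mv.b (nat_lit 5525), Mv.f (nat_lit 10160), Mv.f (nat_lit 6567), Mv.b (nat_lit 4733), Mv.f (nat_lit 4732), Mv.b (nat_lit 7715), Mv.f (nat_lit 9557)])))
(Tr.nd (nat_lit 10163) (Tr.lf (Fc.ed (nat_lit 10162) (nat_lit 3890) Col.e (nat_lit 3370) (Dv.wd (nat_lit 131) [Mv.f (nat_lit 8600), Mv.b (nat_lit 8491), Mv.f (nat_lit 7714), Mv.f (nat_lit 9557), Mv.f (nat_lit 10161), Mv.f (nat_lit 8290), Mv.b (nat_lit 5595), Mv.b (nat_lit 6521), Mv.b (nat_lit 9081), Mv.f (nat_lit 9578)])))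
(Tr.lf (Fc.ed (nat_lit 10163) (nat_lit 2421) Col.d (nat_lit 2152) (Dv.wd (nat_lit 43) [Mv.f (nat_lit 5966), Mv.f (nat_lit 5762), Mv.b (nat_lit 7022), Mv.f (nat_lit 9080), Mv.f (nat_lit 9578), Mv.f (nat_lit 10162), Mv.b (nat_lit 8599), Mv.f (nat_lit 4733), Mv.b (nat_lit 3881), Mv.b (nat_lit 6551)]))))))))
(Tr.nd (nat_lit 10174) (Tr.nd (nat_lit 10169) (Tr.nd (nat_lit 10166) (Tr.nd (nat_lit 10165) (Tr.lf (Fc.ed (nat_lit 10164) (nat_lit 2354) Col.d (nat_lit 2428) (Dv.wd (nat_lit 90) [Mv.b (nat_lit 6564), Mv.f (nat_lit 10163), Mv.b (nat_lit 6422)])))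
(Tr.lf (Fc.ed (nat_lit 10165) (nat_lit 4006) Col.d (nat_lit 2094) (Dv.wd (nat_lit 48) [Mv.f (nat_lit 6575), Mv.f (nat_lit 5744), Mv.f (nat_lit 6550), Mv.f (nat_lit 10163), Mv.b (nat_lit 5965), Mv.f (nat_lit 3200), Mv.b (nat_lit 3385), Mv.b (nat_lit 5197), Mv.f (nat_lit 9815)]))))
(Tr.nd (nat_lit 10167) (Tr.lf (Fc.ed (nat_lit 10166) (nat_lit 2092) Col.d (nat_lit 2159) (Dv.wd (nat_lit 28) [Mv.f (nat_lit 6421), Mv.f (nat_lit 10164), Mv.f (nat_lit 6565)])))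
(Tr.nd (nat_lit 10168) (Tr.lf (Fc.ed (nat_lit 10167) (nat_lit 2730) Col.d (nat_lit 2288) (Dv.wd (nat_lit 58) [Mv.f (nat_lit 6264), Mv.f (nat_lit 10166), Mv.f (nat_lit 7250)])))
(Tr.lf (Fc.ed (nat_lit 10168) (nat_lit 2568) Col.e (nat_lit 2092) (Dv.wd (nat_lit 47) [Mv.f (nat_lit 10166), Mv.b (nat_lit 5981), Mv.b (nat_lit 4677), Mv.f (nat_lit 4678), Mv.f (nat_lit 6550), Mv.f (nat_lit 10163), Mv.b (nat_lit 5965), Mv.f (nat_lit 3200), Mv.b (nat_lit 3483), Mv.f (nat_lit 6891)]))))))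
(Tr.nd (nat_lit 10171) (Tr.nd (nat_lit 10170) (Tr.lf (Fc.ed (nat_lit 10169) (nat_lit 2288) Col.e (nat_lit 2701) (Dv.wd (nat_lit 52) [Mv.b (nat_lit 7188), Mv.f (nat_lit 10168), Mv.b (nat_lit 6264)])))
(Tr.lf (Fc.ed (nat_lit 10170) (nat_lit 1997) Col.e (nat_lit 2047) (Dv.wd (nat_lit 25) [Mv.f (nat_lit 6263), Mv.f (nat_lit 10169), Mv.f (nat_lit 7189)]))))
(Tr.nd (nat_lit 10172) (Tr.lf (Fc.ed (nat_lit 10171) (nat_lit 2668) Col.d (nat_lit 3822) (Dv.wd (nat_lit 28) [Mv.f (nat_lit 9469), Mv.f (nat_lit 10158), Mv.f (nat_lit 7115)])))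
(Tr.nd (nat_lit 10173) (Tr.lf (Fc.ed (nat_lit 10172) (nat_lit 4040) Col.b (nat_lit 3596) (Dv.wd (nat_lit 126) [Mv.f (nat_lit 10158), Mv.f (nat_lit 5692), Mv.f (nat_lit 9871)])))
(Tr.lf (Fc.ed (nat_lit 10173) (nat_lit 3929) Col.e (nat_lit 3016) (Dv.wd (nat_lit 74) [Mv.b (nat_lit 7862), Mv.f (nat_lit 5062), Mv.b (nat_lit 6185), Mv.f (nat_lit 9047), Mv.f (nat_lit 10158), Mv.b (nat_lit 5032), Mv.b (nat_lit 3923), Mv.f (nat_lit 4329), Mv.b (nat_lit 8180), Mv.f (nat_lit 9689)])))))))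
(Tr.nd (nat_lit 10179) (Tr.nd (nat_lit 10176) (Tr.nd (nat_lit 10175) (Tr.lf (Fc.ed (nat_lit 10174) (nat_lit 2728) Col.d (nat_lit 3981) (Dv.wd (nat_lit 39) [Mv.b (nat_lit 9775), Mv.f (nat_lit 5149), Mv.b (nat_lit 5062), Mv.b (nat_lit 5354), Mv.f (nat_lit 8179), Mv.f (nat_lit 9689), Mv.f (nat_lit 10173), Mv.f (nat_lit 7863), Mv.f (nat_lit 4329), Mv.b (nat_lit 7246)])))
(Tr.lf (Fc.ed (nat_lit 10175) (nat_lit 2412) Col.d (nat_lit 1644) (Dv.wd (nat_lit 90) [Mv.b (nat_lit 7116), Mv.f (nat_lit 10171), Mv.b (nat_lit 9468)]))))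
(Tr.nd (nat_lit 10177) (Tr.lf (Fc.ed (nat_lit 10176) (nat_lit 2255) Col.g (nat_lit 2412) (Dv.wd (nat_lit 69) [Mv.f (nat_lit 10175), Mv.f (nat_lit 5610), Mv.b (nat_lit 10159), Mv.f (nat_lit 8143), Mv.b (nat_lit 8422), Mv.b (nat_lit 9455), Mv.f (nat_lit 9454), Mv.f (nat_lit 5149), Mv.b (nat_lit 6185)])))
(Tr.nd (nat_lit 10178) (Tr.lf (Fc.ed (nat_lit 10177) (nat_lit 1639) Col.d (nat_lit 1869) (Dv.wd (nat_lit 51) [Mv.b (nat_lit 5313), Mv.b (nat_lit 2280), Mv.f (nat_lit 2166), Mv.b (nat_lit 3835), Mv.f (nat_lit 6528), Mv.f (nat_lit 10175), Mv.b (nat_lit 4809), Mv.b (nat_lit 4736), Mv.f (nat_lit 4800)])))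
(Tr.lf (Fc.ed (nat_lit 10178) (nat_lit 1644) Col.e (nat_lit 1644) (Dv.wd (nat_lit 70) [Mv.f (nat_lit 4810), Mv.b (nat_lit 3923), Mv.f (nat_lit 4329), Mv.b (nat_lit 7246), Mv.f (nat_lit 10174), Mv.b (nat_lit 9775), Mv.f (nat_lit 5149), Mv.b (nat_lit 6185), Mv.f (nat_lit 10176), Mv.f (nat_lit 10175)]))))))
(Tr.nd (nat_lit 10182) (Tr.nd (nat_lit 10180) (Tr.lf (Fc.ed (nat_lit 10179) (nat_lit 2015) Col.e (nat_lit 2015) (Dv.wd (nat_lit 25) [Mv.b (nat_lit 5610), Mv.f (nat_lit 10178), Mv.f (nat_lit 5610)])))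
(Tr.nd (nat_lit 10181) (Tr.lf (Fc.ed (nat_lit 10180) (nat_lit 1973) Col.e (nat_lit 1973) (Dv.wd (nat_lit 52) [Mv.b (nat_lit 5611), Mv.f (nat_lit 10179), Mv.f (nat_lit 5611)])))
(Tr.lf (Fc.ed (nat_lit 10181) (nat_lit 1961) Col.d (nat_lit 2679) (Dv.wd (nat_lit 68) [Mv.f (nat_lit 7143), Mv.f (nat_lit 3882), Mv.b (nat_lit 3269), Mv.f (nat_lit 5524), Mv.f (nat_lit 10180), Mv.f (nat_lit 10160), Mv.b (nat_lit 6566), Mv.f (nat_lit 6321), Mv.b (nat_lit 4678), Mv.f (nat_lit 5500)])))))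
(Tr.nd (nat_lit 10183) (Tr.lf (Fc.ed (nat_lit 10182) (nat_lit 3565) Col.d (nat_lit 1642) (Dv.wd (nat_lit 48) [Mv.f (nat_lit 5728), Mv.f (nat_lit 5726), Mv.f (nat_lit 5500), Mv.f (nat_lit 10181), Mv.f (nat_lit 7143), Mv.f (nat_lit 3882), Mv.f (nat_lit 3311), Mv.f (nat_lit 5311), Mv.b (nat_lit 8992)])))
(Tr.nd (nat_lit 10184) (Tr.lf (Fc.ed (nat_lit 10183) (nat_lit 1961) Col.e (nat_lit 1961) (Dv.wd (nat_lit 47) [Mv.f (nat_lit 10181), Mv.f (nat_lit 7143), Mv.f (nat_lit 3882), Mv.b (nat_lit 3269), Mv.f (nat_lit 5524), Mv.f (nat_lit 10160), Mv.b (nat_lit 6566), Mv.f (nat_lit 6321), Mv.b (nat_lit 4678), Mv.f (nat_lit 5500)])))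
(Tr.lf (Fc.ed (nat_lit 10184) (nat_lit 3019) Col.d (nat_lit 4058) (Dv.wd (nat_lit 53) [Mv.b (nat_lit 9901), Mv.b (nat_lit 6719), Mv.b (nat_lit 3806), Mv.f (nat_lit 3200), Mv.b (nat_lit 5499), Mv.f (nat_lit 10181), Mv.b (nat_lit 7142), Mv.f (nat_lit 6362), Mv.b (nat_lit 7029), Mv.f (nat_lit 7869)]))))))))))))
(Tr.nd (nat_lit 10349) (Tr.nd (nat_lit 10267) (Tr.nd (nat_lit 10226) (Tr.nd (nat_lit 10205) (Tr.nd (nat_lit 10195) (Tr.nd (nat_lit 10190) (Tr.nd (nat_lit 10187) (Tr.nd (nat_lit 10186) (Tr.lf (Fc.ed (nat_lit 10185) (nat_lit 3916) Col.e (nat_lit 3561) (Dv.wd (nat_lit 131) [Mv.f (nat_lit 8985), Mv.b (nat_lit 6916), Mv.b (nat_lit 7870), Mv.f (nat_lit 10184), Mv.b (nat_lit 9901), Mv.f (nat_lit 6720), Mv.b (nat_lit 8653), Mv.f (nat_lit 8652), Mv.b (nat_lit 8612), Mv.f (nat_lit 9622)])))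
(Tr.lf (Fc.ed (nat_lit 10186) (nat_lit 4004) Col.e (nat_lit 3508) (Dv.wd (nat_lit 131) [Mv.b (nat_lit 8873), Mv.f (nat_lit 8652), Mv.b (nat_lit 8612), Mv.f (nat_lit 9622), Mv.f (nat_lit 10185), Mv.f (nat_lit 8985), Mv.b (nat_lit 6522), Mv.f (nat_lit 6521), Mv.f (nat_lit 8557), Mv.f (nat_lit 9812)]))))
(Tr.nd (nat_lit 10188) (Tr.lf (Fc.ed (nat_lit 10187) (nat_lit 1896) Col.d (nat_lit 2014) (Dv.wd (nat_lit 43) [Mv.b (nat_lit 5608), Mv.f (nat_lit 4718), Mv.f (nat_lit 4720), Mv.f (nat_lit 8611), Mv.f (nat_lit 9622), Mv.f (nat_lit 10185), Mv.b (nat_lit 8984), Mv.b (nat_lit 6362), Mv.f (nat_lit 6361), Mv.b (nat_lit 5369)])))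
(Tr.nd (nat_lit 10189) (Tr.lf (Fc.ed (nat_lit 10188) (nat_lit 2274) Col.d (nat_lit 2264) (Dv.wd (nat_lit 28) [Mv.b (nat_lit 6208), Mv.f (nat_lit 10187), Mv.f (nat_lit 6232)])))
(Tr.lf (Fc.ed (nat_lit 10189) (nat_lit 3940) Col.d (nat_lit 1942) (Dv.wd (nat_lit 58) [Mv.b (nat_lit 5460), Mv.f (nat_lit 10187), Mv.b (nat_lit 9705)]))))))
(Tr.nd (nat_lit 10192) (Tr.nd (nat_lit 10191) (Tr.lf (Fc.ed (nat_lit 10190) (nat_lit 3745) Col.d (nat_lit 2778) (Dv.wd (nat_lit 48) [Mv.f (nat_lit 7354), Mv.b (nat_lit 3311), Mv.f (nat_lit 5368), Mv.f (nat_lit 10187), Mv.f (nat_lit 5609), Mv.b (nat_lit 5424), Mv.b (nat_lit 5675), Mv.f (nat_lit 5676), Mv.b (nat_lit 9333)])))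
(Tr.lf (Fc.ed (nat_lit 10191) (nat_lit 1942) Col.c (nat_lit 1867) (Dv.wd (nat_lit 110) [Mv.b (nat_lit 10148), Mv.f (nat_lit 7967), Mv.b (nat_lit 4754), Mv.b (nat_lit 5033), Mv.f (nat_lit 9859), Mv.b (nat_lit 9861), Mv.f (nat_lit 9752), Mv.f (nat_lit 9751), Mv.f (nat_lit 10189)]))))
(Tr.nd (nat_lit 10193) (Tr.lf (Fc.ed (nat_lit 10192) (nat_lit 3653) Col.a (nat_lit 1942) (Dv.wd (nat_lit 76) [Mv.f (nat_lit 10191), Mv.f (nat_lit 8034), Mv.f (nat_lit 9149)])))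
(Tr.nd (nat_lit 10194) (Tr.lf (Fc.ed (nat_lit 10193) (nat_lit 3064) Col.c (nat_lit 3314) (Dv.wd (nat_lit 67) [Mv.b (nat_lit 8480), Mv.f (nat_lit 10191), Mv.b (nat_lit 7976)])))
(Tr.lf (Fc.ed (nat_lit 10194) (nat_lit 3314) Col.a (nat_lit 3678) (Dv.wd (nat_lit 19) [Mv.f (nat_lit 9193), Mv.f (nat_lit 7975), Mv.f (nat_lit 10193)])))))))
(Tr.nd (nat_lit 10200) (Tr.nd (nat_lit 10197) (Tr.nd (nat_lit 10196) (Tr.lf (Fc.ed (nat_lit 10195) (nat_lit 3744) Col.a (nat_lit 3754) (Dv.wd (nat_lit 155) [Mv.b (nat_lit 9346), Mv.f (nat_lit 8715), Mv.b (nat_lit 8713), Mv.f (nat_lit 10194), Mv.f (nat_lit 10095)])))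
(Tr.lf (Fc.ed (nat_lit 10196) (nat_lit 3754) Col.f (nat_lit 4044) (Dv.wd (nat_lit 35) [Mv.b (nat_lit 10098), Mv.b (nat_lit 10097), Mv.f (nat_lit 10195)]))))
(Tr.nd (nat_lit 10198) (Tr.lf (Fc.ed (nat_lit 10197) (nat_lit 3392) Col.g (nat_lit 3744) (Dv.wd (nat_lit 9) [Mv.f (nat_lit 10195), Mv.f (nat_lit 10196), Mv.b (nat_lit 9876)])))
(Tr.nd (nat_lit 10199) (Tr.lf (Fc.ed (nat_lit 10198) (nat_lit 3666) Col.d (nat_lit 3035) (Dv.wd (nat_lit 85) [Mv.f (nat_lit 7898), Mv.b (nat_lit 10132), Mv.b (nat_lit 4557), Mv.b (nat_lit 4237), Mv.b (nat_lit 4392), Mv.b (nat_lit 10099), Mv.f (nat_lit 10197), Mv.f (nat_lit 10145), Mv.b (nat_lit 9335)])))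
(Tr.lf (Fc.ed (nat_lit 10199) (nat_lit 3348) Col.g (nat_lit 3725) (Dv.wd (nat_lit 105) [Mv.b (nat_lit 10089), Mv.f (nat_lit 10100), Mv.f (nat_lit 10197), Mv.b (nat_lit 10095), Mv.f (nat_lit 9193), Mv.b (nat_lit 5162), Mv.f (nat_lit 4841), Mv.f (nat_lit 4840), Mv.b (nat_lit 7744), Mv.f (nat_lit 8555)]))))))
(Tr.nd (nat_lit 10202) (Tr.nd (nat_lit 10201) (Tr.lf (Fc.ed (nat_lit 10200) (nat_lit 2840) Col.d (nat_lit 2171) (Dv.wd (nat_lit 58) [Mv.f (nat_lit 9170), Mv.f (nat_lit 10198), Mv.b (nat_lit 7897)])))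
(Tr.lf (Fc.ed (nat_lit 10201) (nat_lit 3035) Col.gi (nat_lit 4016) (Dv.wd (nat_lit 111) [Mv.b (nat_lit 9829), Mv.b (nat_lit 9822), Mv.b (nat_lit 9315), Mv.b (nat_lit 5975), Mv.f (nat_lit 3926), Mv.f (nat_lit 7330), Mv.f (nat_lit 9069), Mv.f (nat_lit 10143), Mv.f (nat_lit 10198)]))))
(Tr.nd (nat_lit 10203) (Tr.lf (Fc.ed (nat_lit 10202) (nat_lit 1061) Col.d (nat_lit 1574) (Dv.wd (nat_lit 89) [Mv.f (nat_lit 4664), Mv.f (nat_lit 5942), Mv.b (nat_lit 10135), Mv.f (nat_lit 10143), Mv.f (nat_lit 10198), Mv.f (nat_lit 7898), Mv.f (nat_lit 4432), Mv.f (nat_lit 2890), Mv.b (nat_lit 3284)])))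
(Tr.nd (nat_lit 10204) (Tr.lf (Fc.ed (nat_lit 10203) (nat_lit 3041) Col.d (nat_lit 1614) (Dv.wd (nat_lit 58) [Mv.b (nat_lit 4744), Mv.f (nat_lit 10202), Mv.f (nat_lit 7910)])))
(Tr.lf (Fc.ed (nat_lit 10204) (nat_lit 2813) Col.d (nat_lit 3085) (Dv.wd (nat_lit 90) [Mv.f (nat_lit 8019), Mv.f (nat_lit 10203), Mv.b (nat_lit 7437)]))))))))
(Tr.nd (nat_lit 10215) (Tr.nd (nat_lit 10210) (Tr.nd (nat_lit 10207) (Tr.nd (nat_lit 10206) (Tr.lf (Fc.ed (nat_lit 10205) (nat_lit 3085) Col.a (nat_lit 3238) (Dv.wd (nat_lit 8) [Mv.f (nat_lit 8335), Mv.f (nat_lit 8332), Mv.f (nat_lit 10204)])))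
(Tr.lf (Fc.ed (nat_lit 10206) (nat_lit 4016) Col.gi (nat_lit 3480) (Dv.wd (nat_lit 24) [Mv.b (nat_lit 8820), Mv.f (nat_lit 8031), Mv.f (nat_lit 10201)]))))
(Tr.nd (nat_lit 10208) (Tr.lf (Fc.ed (nat_lit 10207) (nat_lit 4012) Col.g (nat_lit 2184) (Dv.wd (nat_lit 139) [Mv.f (nat_lit 6148), Mv.f (nat_lit 6149), Mv.b (nat_lit 3639), Mv.b (nat_lit 2010), Mv.f (nat_lit 2013), Mv.f (nat_lit 4431), Mv.b (nat_lit 7898), Mv.f (nat_lit 10201), Mv.b (nat_lit 9829)])))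
(Tr.nd (nat_lit 10209) (Tr.lf (Fc.ed (nat_lit 10208) (nat_lit 4016) Col.b (nat_lit 4032) (Dv.wd (nat_lit 154) [Mv.b (nat_lit 9859), Mv.b (nat_lit 5032), Mv.b (nat_lit 2210), Mv.f (nat_lit 2184), Mv.f (nat_lit 455), Mv.f (nat_lit 2009), Mv.f (nat_lit 2013), Mv.f (nat_lit 4431), Mv.b (nat_lit 7898), Mv.f (nat_lit 10201)])))
(Tr.lf (Fc.ed (nat_lit 10209) (nat_lit 3952) Col.c (nat_lit 3752) (Dv.wd (nat_lit 115) [Mv.b (nat_lit 9342), Mv.b (nat_lit 10206), Mv.f (nat_lit 10208), Mv.b (nat_lit 9859), Mv.f (nat_lit 5033), Mv.b (nat_lit 4736), Mv.f (nat_lit 4739), Mv.f (nat_lit 4800), Mv.f (nat_lit 6147), Mv.f (nat_lit 9727)]))))))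
(Tr.nd (nat_lit 10212) (Tr.nd (nat_lit 10211) (Tr.lf (Fc.ed (nat_lit 10210) (nat_lit 1329) Col.b (nat_lit 3952) (Dv.wd (nat_lit 136) [Mv.f (nat_lit 10209), Mv.b (nat_lit 9342), Mv.f (nat_lit 8822), Mv.f (nat_lit 4744), Mv.f (nat_lit 4745)])))
(Tr.lf (Fc.ed (nat_lit 10211) (nat_lit 2184) Col.d (nat_lit 3068) (Dv.wd (nat_lit 85) [Mv.b (nat_lit 7982), Mv.f (nat_lit 10118), Mv.b (nat_lit 3174), Mv.f (nat_lit 2961), Mv.b (nat_lit 3284), Mv.b (nat_lit 8822), Mv.b (nat_lit 10206), Mv.b (nat_lit 9829), Mv.f (nat_lit 10207)]))))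
(Tr.nd (nat_lit 10213) (Tr.lf (Fc.ed (nat_lit 10212) (nat_lit 4088) Col.b (nat_lit 4012) (Dv.wd (nat_lit 165) [Mv.f (nat_lit 10207), Mv.f (nat_lit 6148), Mv.f (nat_lit 6149), Mv.b (nat_lit 3639), Mv.b (nat_lit 930), Mv.f (nat_lit 626), Mv.b (nat_lit 2281), Mv.b (nat_lit 4859), Mv.b (nat_lit 8848), Mv.f (nat_lit 9961)])))
(Tr.nd (nat_lit 10214) (Tr.lf (Fc.ed (nat_lit 10213) (nat_lit 4032) Col.d (nat_lit 4088) (Dv.wd (nat_lit 116) [Mv.f (nat_lit 10212), Mv.f (nat_lit 9829), Mv.f (nat_lit 10208)])))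
(Tr.lf (Fc.ed (nat_lit 10214) (nat_lit 3554) Col.d (nat_lit 2565) (Dv.wd (nat_lit 48) [Mv.f (nat_lit 6886), Mv.b (nat_lit 3990), Mv.f (nat_lit 7491), Mv.f (nat_lit 10200), Mv.f (nat_lit 6012), Mv.b (nat_lit 4934), Mv.b (nat_lit 5092), Mv.b (nat_lit 8165), Mv.b (nat_lit 8971)])))))))
(Tr.nd (nat_lit 10220) (Tr.nd (nat_lit 10217) (Tr.nd (nat_lit 10216) (Tr.lf (Fc.ed (nat_lit 10215) (nat_lit 2533) Col.d (nat_lit 3748) (Dv.wd (nat_lit 28) [Mv.b (nat_lit 9336), Mv.f (nat_lit 10214), Mv.b (nat_lit 6885)])))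
(Tr.lf (Fc.ed (nat_lit 10216) (nat_lit 4044) Col.b (nat_lit 2264) (Dv.wd (nat_lit 66) [Mv.f (nat_lit 6209), Mv.f (nat_lit 9346), Mv.f (nat_lit 10196)]))))
(Tr.nd (nat_lit 10218) (Tr.lf (Fc.ed (nat_lit 10217) (nat_lit 2017) Col.d (nat_lit 2149) (Dv.wd (nat_lit 90) [Mv.b (nat_lit 6233), Mv.f (nat_lit 10188), Mv.f (nat_lit 6209)])))
(Tr.nd (nat_lit 10219) (Tr.lf (Fc.ed (nat_lit 10218) (nat_lit 3920) Col.d (nat_lit 3980) (Dv.wd (nat_lit 62) [Mv.b (nat_lit 9774), Mv.f (nat_lit 7354), Mv.b (nat_lit 3311), Mv.b (nat_lit 5615), Mv.f (nat_lit 10217), Mv.b (nat_lit 5959), Mv.f (nat_lit 5570), Mv.f (nat_lit 6408), Mv.f (nat_lit 9629)])))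
(Tr.lf (Fc.ed (nat_lit 10219) (nat_lit 2440) Col.e (nat_lit 2017) (Dv.wd (nat_lit 47) [Mv.f (nat_lit 10217), Mv.b (nat_lit 5959), Mv.f (nat_lit 3361), Mv.f (nat_lit 3269), Mv.f (nat_lit 5368), Mv.f (nat_lit 10187), Mv.f (nat_lit 5609), Mv.b (nat_lit 5424), Mv.b (nat_lit 6114), Mv.f (nat_lit 6593)]))))))
(Tr.nd (nat_lit 10223) (Tr.nd (nat_lit 10221) (Tr.lf (Fc.ed (nat_lit 10220) (nat_lit 3754) Col.e (nat_lit 3170) (Dv.wd (nat_lit 52) [Mv.b (nat_lit 8198), Mv.f (nat_lit 10219), Mv.f (nat_lit 9346)])))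
(Tr.nd (nat_lit 10222) (Tr.lf (Fc.ed (nat_lit 10221) (nat_lit 1955) Col.e (nat_lit 1955) (Dv.wd (nat_lit 25) [Mv.f (nat_lit 5498), Mv.f (nat_lit 10183), Mv.b (nat_lit 5498)])))
(Tr.lf (Fc.ed (nat_lit 10222) (nat_lit 1616) Col.e (nat_lit 1616) (Dv.wd (nat_lit 52) [Mv.f (nat_lit 5483), Mv.f (nat_lit 10221), Mv.b (nat_lit 5483)])))))
(Tr.nd (nat_lit 10224) (Tr.lf (Fc.ed (nat_lit 10223) (nat_lit 1526) Col.e (nat_lit 1526) (Dv.wd (nat_lit 47) [Mv.f (nat_lit 10153), Mv.f (nat_lit 5607), Mv.f (nat_lit 5038), Mv.b (nat_lit 4842), Mv.f (nat_lit 4800), Mv.f (nat_lit 10177), Mv.b (nat_lit 5313), Mv.b (nat_lit 2280), Mv.f (nat_lit 2165), Mv.b (nat_lit 4555)])))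
(Tr.nd (nat_lit 10225) (Tr.lf (Fc.ed (nat_lit 10224) (nat_lit 1639) Col.e (nat_lit 1639) (Dv.wd (nat_lit 47) [Mv.f (nat_lit 10177), Mv.b (nat_lit 5313), Mv.b (nat_lit 2280), Mv.f (nat_lit 2165), Mv.b (nat_lit 4555), Mv.f (nat_lit 10153), Mv.f (nat_lit 5607), Mv.f (nat_lit 5038), Mv.b (nat_lit 4842), Mv.f (nat_lit 4800)])))
(Tr.lf (Fc.ed (nat_lit 10225) (nat_lit 2238) Col.e (nat_lit 2238) (Dv.wd (nat_lit 25) [Mv.b (nat_lit 6147), Mv.f (nat_lit 10224), Mv.f (nat_lit 6147)])))))))))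
(Tr.nd (nat_lit 10246) (Tr.nd (nat_lit 10236) (Tr.nd (nat_lit 10231) (Tr.nd (nat_lit 10228) (Tr.nd (nat_lit 10227) (Tr.lf (Fc.ed (nat_lit 10226) (nat_lit 2539) Col.e (nat_lit 2539) (Dv.wd (nat_lit 52) [Mv.b (nat_lit 6832), Mv.f (nat_lit 10225), Mv.f (nat_lit 6832)])))
(Tr.lf (Fc.ed (nat_lit 10227) (nat_lit 3607) Col.e (nat_lit 3607) (Dv.wd (nat_lit 56) [Mv.b (nat_lit 9066), Mv.f (nat_lit 10226), Mv.f (nat_lit 9066)]))))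
(Tr.nd (nat_lit 10229) (Tr.lf (Fc.ed (nat_lit 10228) (nat_lit 1759) Col.e (nat_lit 1759) (Dv.wd (nat_lit 52) [Mv.f (nat_lit 5090), Mv.f (nat_lit 10223), Mv.b (nat_lit 5090)])))
(Tr.nd (nat_lit 10230) (Tr.lf (Fc.ed (nat_lit 10229) (nat_lit 4057) Col.e (nat_lit 3063) (Dv.wd (nat_lit 56) [Mv.f (nat_lit 7974), Mv.f (nat_lit 9837), Mv.f (nat_lit 10150)])))
(Tr.lf (Fc.ed (nat_lit 10230) (nat_lit 3064) Col.d (nat_lit 3296) (Dv.wd (nat_lit 90) [Mv.f (nat_lit 8447), Mv.f (nat_lit 10148), Mv.b (nat_lit 7976)]))))))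
(Tr.nd (nat_lit 10233) (Tr.nd (nat_lit 10232) (Tr.lf (Fc.ed (nat_lit 10231) (nat_lit 3108) Col.d (nat_lit 1796) (Dv.wd (nat_lit 28) [Mv.f (nat_lit 7975), Mv.f (nat_lit 10230), Mv.b (nat_lit 8446)])))
(Tr.lf (Fc.ed (nat_lit 10232) (nat_lit 3914) Col.d (nat_lit 3833) (Dv.wd (nat_lit 48) [Mv.b (nat_lit 9488), Mv.b (nat_lit 5610), Mv.f (nat_lit 4810), Mv.b (nat_lit 4942), Mv.f (nat_lit 8073), Mv.f (nat_lit 10231), Mv.b (nat_lit 9193), Mv.b (nat_lit 10146), Mv.f (nat_lit 9620)]))))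
(Tr.nd (nat_lit 10234) (Tr.lf (Fc.ed (nat_lit 10233) (nat_lit 1796) Col.e (nat_lit 1757) (Dv.wd (nat_lit 70) [Mv.b (nat_lit 5081), Mv.f (nat_lit 5062), Mv.b (nat_lit 6185), Mv.f (nat_lit 10176), Mv.f (nat_lit 10175), Mv.f (nat_lit 10178), Mv.f (nat_lit 4810), Mv.b (nat_lit 4942), Mv.f (nat_lit 8073), Mv.f (nat_lit 10231)])))
(Tr.nd (nat_lit 10235) (Tr.lf (Fc.ed (nat_lit 10234) (nat_lit 2057) Col.e (nat_lit 3678) (Dv.wd (nat_lit 25) [Mv.f (nat_lit 9193), Mv.f (nat_lit 10233), Mv.f (nat_lit 5697)])))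
(Tr.lf (Fc.ed (nat_lit 10235) (nat_lit 3744) Col.e (nat_lit 2659) (Dv.wd (nat_lit 52) [Mv.b (nat_lit 7093), Mv.f (nat_lit 10234), Mv.f (nat_lit 10095)])))))))
(Tr.nd (nat_lit 10241) (Tr.nd (nat_lit 10238) (Tr.nd (nat_lit 10237) (Tr.lf (Fc.ed (nat_lit 10236) (nat_lit 2659) Col.a (nat_lit 3170) (Dv.wd (nat_lit 15) [Mv.b (nat_lit 10220), Mv.b (nat_lit 10195), Mv.f (nat_lit 10235)])))
(Tr.lf (Fc.ed (nat_lit 10237) (nat_lit 3754) Col.c (nat_lit 3744) (Dv.wd (nat_lit 109) [Mv.f (nat_lit 10235), Mv.b (nat_lit 8700), Mv.b (nat_lit 10220)]))))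
(Tr.nd (nat_lit 10239) (Tr.lf (Fc.ed (nat_lit 10238) (nat_lit 3911) Col.c (nat_lit 4044) (Dv.wd (nat_lit 67) [Mv.b (nat_lit 10196), Mv.f (nat_lit 10237), Mv.f (nat_lit 10097)])))
(Tr.nd (nat_lit 10240) (Tr.lf (Fc.ed (nat_lit 10239) (nat_lit 3819) Col.g (nat_lit 3980) (Dv.wd (nat_lit 118) [Mv.b (nat_lit 9774), Mv.b (nat_lit 7353), Mv.f (nat_lit 6574), Mv.f (nat_lit 4787), Mv.f (nat_lit 5614), Mv.f (nat_lit 9346), Mv.f (nat_lit 10237), Mv.b (nat_lit 9331), Mv.f (nat_lit 10092), Mv.f (nat_lit 9463)])))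
(Tr.lf (Fc.ed (nat_lit 10240) (nat_lit 3702) Col.b (nat_lit 3980) (Dv.wd (nat_lit 168) [Mv.b (nat_lit 9774), Mv.f (nat_lit 7354), Mv.b (nat_lit 3311), Mv.b (nat_lit 5615), Mv.f (nat_lit 9346), Mv.f (nat_lit 10237), Mv.b (nat_lit 10197), Mv.f (nat_lit 10099), Mv.f (nat_lit 5970), Mv.b (nat_lit 9248)]))))))
(Tr.nd (nat_lit 10243) (Tr.nd (nat_lit 10242) (Tr.lf (Fc.ed (nat_lit 10241) (nat_lit 3729) Col.c (nat_lit 3702) (Dv.wd (nat_lit 152) [Mv.f (nat_lit 10240), Mv.b (nat_lit 9774), Mv.b (nat_lit 9040), Mv.b (nat_lit 9039), Mv.f (nat_lit 9303)])))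
(Tr.lf (Fc.ed (nat_lit 10242) (nat_lit 3632) Col.c (nat_lit 1984) (Dv.wd (nat_lit 143) [Mv.f (nat_lit 5929), Mv.b (nat_lit 10081), Mv.b (nat_lit 9915), Mv.b (nat_lit 9914), Mv.f (nat_lit 7213), Mv.f (nat_lit 4386), Mv.f (nat_lit 9004), Mv.f (nat_lit 9303), Mv.f (nat_lit 10241), Mv.b (nat_lit 9247)]))))
(Tr.nd (nat_lit 10244) (Tr.lf (Fc.ed (nat_lit 10243) (nat_lit 2452) Col.b (nat_lit 3831) (Dv.wd (nat_lit 158) [Mv.b (nat_lit 9486), Mv.b (nat_lit 9182), Mv.f (nat_lit 10242), Mv.f (nat_lit 5929), Mv.f (nat_lit 10080)])))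
(Tr.nd (nat_lit 10245) (Tr.lf (Fc.ed (nat_lit 10244) (nat_lit 2795) Col.gi (nat_lit 3672) (Dv.wd (nat_lit 157) [Mv.b (nat_lit 9182), Mv.f (nat_lit 10242), Mv.f (nat_lit 5551), Mv.b (nat_lit 3013), Mv.b (nat_lit 10088), Mv.f (nat_lit 1095), Mv.f (nat_lit 3880), Mv.f (nat_lit 4433), Mv.f (nat_lit 5772), Mv.b (nat_lit 7397)])))
(Tr.lf (Fc.ed (nat_lit 10245) (nat_lit 3672) Col.d (nat_lit 3856) (Dv.wd (nat_lit 89) [Mv.b (nat_lit 9526), Mv.f (nat_lit 5434), Mv.b (nat_lit 5378), Mv.b (nat_lit 4902), Mv.b (nat_lit 3881), Mv.f (nat_lit 4433), Mv.f (nat_lit 5772), Mv.b (nat_lit 7397), Mv.f (nat_lit 10244)]))))))))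
(Tr.nd (nat_lit 10256) (Tr.nd (nat_lit 10251) (Tr.nd (nat_lit 10248) (Tr.nd (nat_lit 10247) (Tr.lf (Fc.ed (nat_lit 10246) (nat_lit 3866) Col.b (nat_lit 2094) (Dv.wd (nat_lit 154) [Mv.b (nat_lit 7397), Mv.f (nat_lit 10244), Mv.f (nat_lit 9486), Mv.b (nat_lit 10243), Mv.f (nat_lit 6618), Mv.b (nat_lit 6308), Mv.f (nat_lit 6306), Mv.b (nat_lit 7394), Mv.f (nat_lit 8173), Mv.f (nat_lit 9543)])))
(Tr.lf (Fc.ed (nat_lit 10247) (nat_lit 4056) Col.c (nat_lit 1896) (Dv.wd (nat_lit 130) [Mv.f (nat_lit 5369), Mv.b (nat_lit 6574), Mv.b (nat_lit 7637), Mv.f (nat_lit 7858), Mv.f (nat_lit 8357), Mv.b (nat_lit 8465), Mv.f (nat_lit 10081), Mv.f (nat_lit 10080), Mv.f (nat_lit 10243), Mv.f (nat_lit 9899)]))))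
(Tr.nd (nat_lit 10249) (Tr.lf (Fc.ed (nat_lit 10248) (nat_lit 3915) Col.c (nat_lit 2618) (Dv.wd (nat_lit 94) [Mv.b (nat_lit 7001), Mv.f (nat_lit 4435), Mv.b (nat_lit 2200), Mv.f (nat_lit 557), Mv.f (nat_lit 1502), Mv.f (nat_lit 4171), Mv.f (nat_lit 6617), Mv.f (nat_lit 10243), Mv.b (nat_lit 9486), Mv.f (nat_lit 9621)])))
(Tr.nd (nat_lit 10250) (Tr.lf (Fc.ed (nat_lit 10249) (nat_lit 3320) Col.a (nat_lit 3915) (Dv.wd (nat_lit 76) [Mv.f (nat_lit 10248), Mv.f (nat_lit 7210), Mv.b (nat_lit 8495)])))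
(Tr.lf (Fc.al (nat_lit 10250) (nat_lit 3814) (nat_lit 3653) (Dv.wd (nat_lit 168) [Mv.f (nat_lit 9616), Mv.f (nat_lit 10238), Mv.f (nat_lit 9877), Mv.f (nat_lit 10092), Mv.f (nat_lit 5047), Mv.f (nat_lit 4239), Mv.f (nat_lit 4236), Mv.b (nat_lit 4392), Mv.b (nat_lit 10099), Mv.b (nat_lit 10100), Mv.b (nat_lit 9455)]))))))
(Tr.nd (nat_lit 10253) (Tr.nd (nat_lit 10252) (Tr.lf (Fc.ed (nat_lit 10251) (nat_lit 3653) Col.g (nat_lit 3284) (Dv.wd (nat_lit 129) [Mv.b (nat_lit 9455), Mv.f (nat_lit 10250)])))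
(Tr.lf (Fc.al (nat_lit 10252) (nat_lit 3092) (nat_lit 1788) (Dv.wd (nat_lit 103) [Mv.b (nat_lit 9454), Mv.f (nat_lit 10250), Mv.b (nat_lit 9149)]))))
(Tr.nd (nat_lit 10254) (Tr.lf (Fc.al (nat_lit 10253) (nat_lit 3678) (nat_lit 3587) (Dv.wd (nat_lit 30) [Mv.f (nat_lit 9453), Mv.f (nat_lit 10250), Mv.f (nat_lit 9192)])))
(Tr.nd (nat_lit 10255) (Tr.lf (Fc.al (nat_lit 10254) (nat_lit 2847) (nat_lit 1867) (Dv.wd (nat_lit 29) [Mv.f (nat_lit 8034), Mv.f (nat_lit 10252), Mv.f (nat_lit 7504)])))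
(Tr.lf (Fc.ed (nat_lit 10255) (nat_lit 1788) Col.c (nat_lit 3653) (Dv.wd (nat_lit 103) [Mv.b (nat_lit 9149), Mv.f (nat_lit 10252)])))))))
(Tr.nd (nat_lit 10261) (Tr.nd (nat_lit 10258) (Tr.nd (nat_lit 10257) (Tr.lf (Fc.al (nat_lit 10256) (nat_lit 3219) (nat_lit 1796) (Dv.wd (nat_lit 30) [Mv.b (nat_lit 8035), Mv.f (nat_lit 10252), Mv.f (nat_lit 8294)])))
(Tr.lf (Fc.al (nat_lit 10257) (nat_lit 2288) (nat_lit 3314) (Dv.wd (nat_lit 29) [Mv.f (nat_lit 10194), Mv.f (nat_lit 10253), Mv.f (nat_lit 9032)]))))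
(Tr.nd (nat_lit 10259) (Tr.lf (Fc.ed (nat_lit 10258) (nat_lit 3587) Col.d (nat_lit 3864) (Dv.wd (nat_lit 120) [Mv.f (nat_lit 10146), Mv.f (nat_lit 10253)])))
(Tr.nd (nat_lit 10260) (Tr.lf (Fc.ed (nat_lit 10259) (nat_lit 3587) Col.e (nat_lit 2057) (Dv.wd (nat_lit 117) [Mv.f (nat_lit 10234), Mv.f (nat_lit 10253)])))
(Tr.lf (Fc.ed (nat_lit 10260) (nat_lit 3587) Col.f (nat_lit 3653) (Dv.wd (nat_lit 30) [Mv.f (nat_lit 9192), Mv.f (nat_lit 10253)]))))))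
(Tr.nd (nat_lit 10264) (Tr.nd (nat_lit 10262) (Tr.lf (Fc.ed (nat_lit 10261) (nat_lit 1867) Col.a (nat_lit 1788) (Dv.wd (nat_lit 29) [Mv.f (nat_lit 7504), Mv.f (nat_lit 10254)])))
(Tr.nd (nat_lit 10263) (Tr.lf (Fc.al (nat_lit 10262) (nat_lit 3064) (nat_lit 2047) (Dv.wd (nat_lit 30) [Mv.b (nat_lit 7505), Mv.f (nat_lit 10254), Mv.b (nat_lit 7976)])))
(Tr.lf (Fc.ed (nat_lit 10263) (nat_lit 1796) Col.c (nat_lit 3587) (Dv.wd (nat_lit 103) [Mv.b (nat_lit 9031), Mv.f (nat_lit 10256)])))))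
(Tr.nd (nat_lit 10265) (Tr.lf (Fc.ed (nat_lit 10264) (nat_lit 1796) Col.f (nat_lit 1788) (Dv.wd (nat_lit 30) [Mv.f (nat_lit 8294), Mv.f (nat_lit 10256)])))
(Tr.nd (nat_lit 10266) (Tr.lf (Fc.al (nat_lit 10265) (nat_lit 2092) (nat_lit 3424) (Dv.wd (nat_lit 119) [Mv.b (nat_lit 8713), Mv.b (nat_lit 10257), Mv.f (nat_lit 6264)])))
(Tr.lf (Fc.ed (nat_lit 10266) (nat_lit 2288) Col.f (nat_lit 1942) (Dv.wd (nat_lit 30) [Mv.f (nat_lit 8480), Mv.b (nat_lit 10257)]))))))))))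
(Tr.nd (nat_lit 10308) (Tr.nd (nat_lit 10287) (Tr.nd (nat_lit 10277) (Tr.nd (nat_lit 10272) (Tr.nd (nat_lit 10269) (Tr.nd (nat_lit 10268) (Tr.lf (Fc.ed (nat_lit 10267) (nat_lit 2047) Col.d (nat_lit 3296) (Dv.wd (nat_lit 120) [Mv.b (nat_lit 10230), Mv.f (nat_lit 10262)])))
(Tr.lf (Fc.al (nat_lit 10268) (nat_lit 2428) (nat_lit 2017) (Dv.wd (nat_lit 29) [Mv.f (nat_lit 8715), Mv.b (nat_lit 10265), Mv.b (nat_lit 6565)]))))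
(Tr.nd (nat_lit 10270) (Tr.lf (Fc.ed (nat_lit 10269) (nat_lit 2092) Col.f (nat_lit 1896) (Dv.wd (nat_lit 30) [Mv.b (nat_lit 8714), Mv.b (nat_lit 10265)])))
(Tr.nd (nat_lit 10271) (Tr.lf (Fc.ed (nat_lit 10270) (nat_lit 2017) Col.a (nat_lit 2092) (Dv.wd (nat_lit 29) [Mv.b (nat_lit 6565), Mv.f (nat_lit 10268)])))
(Tr.lf (Fc.ed (nat_lit 10271) (nat_lit 2017) Col.c (nat_lit 3326) (Dv.wd (nat_lit 103) [Mv.b (nat_lit 8508), Mv.f (nat_lit 10268)]))))))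
(Tr.nd (nat_lit 10274) (Tr.nd (nat_lit 10273) (Tr.lf (Fc.al (nat_lit 10272) (nat_lit 2149) (nat_lit 2354) (Dv.wd (nat_lit 120) [Mv.f (nat_lit 10164), Mv.f (nat_lit 10268), Mv.f (nat_lit 10217)])))
(Tr.lf (Fc.al (nat_lit 10273) (nat_lit 2264) (nat_lit 2421) (Dv.wd (nat_lit 30) [Mv.f (nat_lit 6564), Mv.f (nat_lit 10268), Mv.b (nat_lit 6209)]))))
(Tr.nd (nat_lit 10275) (Tr.lf (Fc.ed (nat_lit 10274) (nat_lit 2149) Col.a (nat_lit 2159) (Dv.wd (nat_lit 29) [Mv.f (nat_lit 6421), Mv.b (nat_lit 10272)])))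
(Tr.nd (nat_lit 10276) (Tr.lf (Fc.al (nat_lit 10275) (nat_lit 2274) (nat_lit 2152) (Dv.wd (nat_lit 30) [Mv.b (nat_lit 6422), Mv.b (nat_lit 10272), Mv.b (nat_lit 6233)])))
(Tr.lf (Fc.ed (nat_lit 10276) (nat_lit 2264) Col.g (nat_lit 1139) (Dv.wd (nat_lit 129) [Mv.b (nat_lit 6551), Mv.b (nat_lit 10273)])))))))
(Tr.nd (nat_lit 10282) (Tr.nd (nat_lit 10279) (Tr.nd (nat_lit 10278) (Tr.lf (Fc.ed (nat_lit 10277) (nat_lit 2264) Col.gi (nat_lit 1117) (Dv.wd (nat_lit 128) [Mv.f (nat_lit 6550), Mv.b (nat_lit 10273)])))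
(Tr.lf (Fc.ed (nat_lit 10278) (nat_lit 2264) Col.c (nat_lit 2582) (Dv.wd (nat_lit 103) [Mv.b (nat_lit 6930), Mv.b (nat_lit 10273)]))))
(Tr.nd (nat_lit 10280) (Tr.lf (Fc.ed (nat_lit 10279) (nat_lit 2152) Col.a (nat_lit 2014) (Dv.wd (nat_lit 29) [Mv.f (nat_lit 6232), Mv.f (nat_lit 10275)])))
(Tr.nd (nat_lit 10281) (Tr.lf (Fc.ed (nat_lit 10280) (nat_lit 2152) Col.d (nat_lit 2264) (Dv.wd (nat_lit 120) [Mv.b (nat_lit 10188), Mv.f (nat_lit 10275)])))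
(Tr.lf (Fc.ed (nat_lit 10281) (nat_lit 2152) Col.f (nat_lit 2149) (Dv.wd (nat_lit 30) [Mv.b (nat_lit 6233), Mv.f (nat_lit 10275)]))))))
(Tr.nd (nat_lit 10284) (Tr.nd (nat_lit 10283) (Tr.lf (Fc.ed (nat_lit 10282) (nat_lit 2159) Col.f (nat_lit 2014) (Dv.wd (nat_lit 35) [Mv.b (nat_lit 10279), Mv.f (nat_lit 10281), Mv.f (nat_lit 10274)])))
(Tr.lf (Fc.ed (nat_lit 10283) (nat_lit 3940) Col.f (nat_lit 2730) (Dv.wd (nat_lit 20) [Mv.b (nat_lit 7250), Mv.f (nat_lit 10282), Mv.b (nat_lit 9705)]))))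
(Tr.nd (nat_lit 10285) (Tr.lf (Fc.ed (nat_lit 10284) (nat_lit 2730) Col.c (nat_lit 3795) (Dv.wd (nat_lit 34) [Mv.f (nat_lit 9552), Mv.f (nat_lit 9704), Mv.f (nat_lit 10283)])))
(Tr.nd (nat_lit 10286) (Tr.lf (Fc.ed (nat_lit 10285) (nat_lit 3864) Col.a (nat_lit 2730) (Dv.wd (nat_lit 76) [Mv.f (nat_lit 10284), Mv.b (nat_lit 9420), Mv.f (nat_lit 9540)])))
(Tr.lf (Fc.ed (nat_lit 10286) (nat_lit 3940) Col.g (nat_lit 3914) (Dv.wd (nat_lit 17) [Mv.b (nat_lit 9620), Mv.f (nat_lit 10285), Mv.b (nat_lit 10283)]))))))))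
(Tr.nd (nat_lit 10297) (Tr.nd (nat_lit 10292) (Tr.nd (nat_lit 10289) (Tr.nd (nat_lit 10288) (Tr.lf (Fc.ed (nat_lit 10287) (nat_lit 2582) Col.a (nat_lit 4056) (Dv.wd (nat_lit 19) [Mv.f (nat_lit 10247), Mv.f (nat_lit 6208), Mv.f (nat_lit 10278)])))
(Tr.lf (Fc.ed (nat_lit 10288) (nat_lit 2582) Col.gi (nat_lit 3861) (Dv.wd (nat_lit 88) [Mv.f (nat_lit 9534), Mv.b (nat_lit 9463), Mv.f (nat_lit 5047), Mv.f (nat_lit 4239), Mv.f (nat_lit 4236), Mv.b (nat_lit 4392), Mv.b (nat_lit 10099), Mv.f (nat_lit 9876), Mv.f (nat_lit 10216), Mv.f (nat_lit 10278)]))))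
(Tr.nd (nat_lit 10290) (Tr.lf (Fc.ed (nat_lit 10289) (nat_lit 3715) Col.f (nat_lit 4056) (Dv.wd (nat_lit 13) [Mv.b (nat_lit 10287), Mv.f (nat_lit 10288), Mv.b (nat_lit 9533)])))
(Tr.nd (nat_lit 10291) (Tr.lf (Fc.ed (nat_lit 10290) (nat_lit 3831) Col.gi (nat_lit 3326) (Dv.wd (nat_lit 24) [Mv.f (nat_lit 8507), Mv.f (nat_lit 10287), Mv.b (nat_lit 9899)])))
(Tr.lf (Fc.ed (nat_lit 10291) (nat_lit 2568) Col.a (nat_lit 2440) (Dv.wd (nat_lit 31) [Mv.f (nat_lit 10219), Mv.f (nat_lit 10270), Mv.b (nat_lit 10168)]))))))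
(Tr.nd (nat_lit 10294) (Tr.nd (nat_lit 10293) (Tr.lf (Fc.ed (nat_lit 10292) (nat_lit 2223) Col.f (nat_lit 2568) (Dv.wd (nat_lit 73) [Mv.f (nat_lit 10291), Mv.b (nat_lit 7799), Mv.b (nat_lit 7798)])))
(Tr.lf (Fc.ed (nat_lit 10293) (nat_lit 2057) Col.a (nat_lit 2701) (Dv.wd (nat_lit 167) [Mv.b (nat_lit 7188), Mv.f (nat_lit 10291), Mv.f (nat_lit 8198), Mv.b (nat_lit 10236), Mv.b (nat_lit 7093)]))))
(Tr.nd (nat_lit 10295) (Tr.lf (Fc.ed (nat_lit 10294) (nat_lit 2701) Col.f (nat_lit 3067) (Dv.wd (nat_lit 35) [Mv.b (nat_lit 8951), Mv.f (nat_lit 8952), Mv.f (nat_lit 10293)])))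
(Tr.nd (nat_lit 10296) (Tr.lf (Fc.ed (nat_lit 10295) (nat_lit 3736) Col.gi (nat_lit 3545) (Dv.wd (nat_lit 24) [Mv.f (nat_lit 8952), Mv.f (nat_lit 10293), Mv.b (nat_lit 9319)])))
(Tr.lf (Fc.ed (nat_lit 10296) (nat_lit 3016) Col.f (nat_lit 1997) (Dv.wd (nat_lit 26) [Mv.b (nat_lit 7189), Mv.f (nat_lit 10294), Mv.f (nat_lit 7981)])))))))
(Tr.nd (nat_lit 10302) (Tr.nd (nat_lit 10299) (Tr.nd (nat_lit 10298) (Tr.lf (Fc.ed (nat_lit 10297) (nat_lit 893) Col.g (nat_lit 3289) (Dv.wd (nat_lit 9) [Mv.b (nat_lit 8430), Mv.f (nat_lit 10296), Mv.f (nat_lit 5580)])))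
(Tr.lf (Fc.ed (nat_lit 10298) (nat_lit 3736) Col.c (nat_lit 3364) (Dv.wd (nat_lit 115) [Mv.b (nat_lit 8588), Mv.b (nat_lit 4308), Mv.b (nat_lit 4002), Mv.f (nat_lit 2904), Mv.b (nat_lit 1752), Mv.f (nat_lit 1874), Mv.b (nat_lit 2859), Mv.f (nat_lit 10297), Mv.f (nat_lit 8950), Mv.b (nat_lit 10295)]))))
(Tr.nd (nat_lit 10300) (Tr.lf (Fc.ed (nat_lit 10299) (nat_lit 1465) Col.b (nat_lit 1444) (Dv.wd (nat_lit 158) [Mv.b (nat_lit 8699), Mv.f (nat_lit 9317), Mv.f (nat_lit 10298), Mv.b (nat_lit 8588), Mv.f (nat_lit 4420)])))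
(Tr.nd (nat_lit 10301) (Tr.lf (Fc.ed (nat_lit 10300) (nat_lit 3953) Col.f (nat_lit 3893) (Dv.wd (nat_lit 41) [Mv.b (nat_lit 9583), Mv.f (nat_lit 10292), Mv.f (nat_lit 10168), Mv.f (nat_lit 10269), Mv.f (nat_lit 9729)])))
(Tr.lf (Fc.ed (nat_lit 10301) (nat_lit 3296) Col.g (nat_lit 1176) (Dv.wd (nat_lit 55) [Mv.b (nat_lit 3629), Mv.f (nat_lit 2207), Mv.f (nat_lit 5148), Mv.f (nat_lit 9775), Mv.b (nat_lit 10174), Mv.b (nat_lit 7245), Mv.f (nat_lit 5354), Mv.f (nat_lit 5062), Mv.b (nat_lit 5680), Mv.f (nat_lit 10267)]))))))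
(Tr.nd (nat_lit 10305) (Tr.nd (nat_lit 10303) (Tr.lf (Fc.ed (nat_lit 10302) (nat_lit 1788) Col.d (nat_lit 2251) (Dv.wd (nat_lit 68) [Mv.b (nat_lit 6173), Mv.b (nat_lit 4671), Mv.b (nat_lit 5022), Mv.f (nat_lit 5579), Mv.f (nat_lit 10170), Mv.f (nat_lit 10267), Mv.f (nat_lit 10301), Mv.b (nat_lit 3629), Mv.f (nat_lit 2207), Mv.f (nat_lit 5148)])))
(Tr.nd (nat_lit 10304) (Tr.lf (Fc.ed (nat_lit 10303) (nat_lit 2936) Col.d (nat_lit 2101) (Dv.wd (nat_lit 51) [Mv.f (nat_lit 5788), Mv.b (nat_lit 2378), Mv.f (nat_lit 2206), Mv.f (nat_lit 3629), Mv.b (nat_lit 10301), Mv.b (nat_lit 10267), Mv.f (nat_lit 5680), Mv.f (nat_lit 5007), Mv.b (nat_lit 7696)])))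
(Tr.lf (Fc.ed (nat_lit 10304) (nat_lit 2887) Col.d (nat_lit 3182) (Dv.wd (nat_lit 28) [Mv.f (nat_lit 8222), Mv.f (nat_lit 10303), Mv.f (nat_lit 7595)])))))
(Tr.nd (nat_lit 10306) (Tr.lf (Fc.ed (nat_lit 10305) (nat_lit 2654) Col.d (nat_lit 3950) (Dv.wd (nat_lit 51) [Mv.b (nat_lit 9724), Mv.b (nat_lit 8923), Mv.f (nat_lit 4859), Mv.b (nat_lit 2280), Mv.f (nat_lit 7695), Mv.f (nat_lit 10303), Mv.b (nat_lit 5787), Mv.f (nat_lit 5879), Mv.f (nat_lit 7083)])))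
(Tr.nd (nat_lit 10307) (Tr.lf (Fc.ed (nat_lit 10306) (nat_lit 3964) Col.d (nat_lit 3653) (Dv.wd (nat_lit 62) [Mv.b (nat_lit 10255), Mv.b (nat_lit 5148), Mv.b (nat_lit 2166), Mv.f (nat_lit 7695), Mv.f (nat_lit 10303), Mv.f (nat_lit 5788), Mv.f (nat_lit 5810), Mv.f (nat_lit 8810), Mv.f (nat_lit 9746)])))
(Tr.lf (Fc.ed (nat_lit 10307) (nat_lit 3940) Col.a (nat_lit 3964) (Dv.wd (nat_lit 54) [Mv.f (nat_lit 10306), Mv.f (nat_lit 10192), Mv.b (nat_lit 10189)])))))))))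
(Tr.nd (nat_lit 10328) (Tr.nd (nat_lit 10318) (Tr.nd (nat_lit 10313) (Tr.nd (nat_lit 10310) (Tr.nd (nat_lit 10309) (Tr.lf (Fc.ed (nat_lit 10308) (nat_lit 3864) Col.f (nat_lit 3964) (Dv.wd (nat_lit 86) [Mv.f (nat_lit 10306), Mv.b (nat_lit 10260), Mv.f (nat_lit 10258)])))
(Tr.lf (Fc.ed (nat_lit 10309) (nat_lit 3477) Col.f (nat_lit 3070) (Dv.wd (nat_lit 26) [Mv.f (nat_lit 9540), Mv.f (nat_lit 10308), Mv.b (nat_lit 9746)]))))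
(Tr.nd (nat_lit 10311) (Tr.lf (Fc.ed (nat_lit 10310) (nat_lit 3967) Col.gi (nat_lit 3864) (Dv.wd (nat_lit 24) [Mv.f (nat_lit 10308), Mv.b (nat_lit 10307), Mv.b (nat_lit 9751)])))
(Tr.nd (nat_lit 10312) (Tr.lf (Fc.ed (nat_lit 10311) (nat_lit 3918) Col.a (nat_lit 3967) (Dv.wd (nat_lit 23) [Mv.f (nat_lit 10310), Mv.f (nat_lit 9620), Mv.f (nat_lit 9625)])))
(Tr.lf (Fc.al (nat_lit 10312) (nat_lit 3795) (nat_lit 2654) (Dv.wd (nat_lit 12) [Mv.b (nat_lit 7083), Mv.b (nat_lit 8811), Mv.f (nat_lit 10309), Mv.f (nat_lit 9420)]))))))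
(Tr.nd (nat_lit 10315) (Tr.nd (nat_lit 10314) (Tr.lf (Fc.ed (nat_lit 10313) (nat_lit 2654) Col.a (nat_lit 3070) (Dv.wd (nat_lit 29) [Mv.f (nat_lit 9420), Mv.f (nat_lit 10312)])))
(Tr.lf (Fc.ed (nat_lit 10314) (nat_lit 2654) Col.c (nat_lit 2730) (Dv.wd (nat_lit 103) [Mv.f (nat_lit 10284), Mv.f (nat_lit 10312)]))))
(Tr.nd (nat_lit 10316) (Tr.lf (Fc.ed (nat_lit 10315) (nat_lit 3142) Col.gi (nat_lit 4088) (Dv.wd (nat_lit 50) [Mv.b (nat_lit 9961), Mv.b (nat_lit 8847), Mv.b (nat_lit 9461), Mv.b (nat_lit 9725), Mv.b (nat_lit 10305), Mv.f (nat_lit 10314), Mv.f (nat_lit 10167), Mv.f (nat_lit 8421), Mv.f (nat_lit 8422)])))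
(Tr.nd (nat_lit 10317) (Tr.lf (Fc.ed (nat_lit 10316) (nat_lit 1848) Col.d (nat_lit 1806) (Dv.wd (nat_lit 89) [Mv.b (nat_lit 5182), Mv.f (nat_lit 5879), Mv.f (nat_lit 7083), Mv.f (nat_lit 10314), Mv.f (nat_lit 10167), Mv.b (nat_lit 6263), Mv.f (nat_lit 5680), Mv.f (nat_lit 5007), Mv.b (nat_lit 5268)])))
(Tr.lf (Fc.ed (nat_lit 10317) (nat_lit 2730) Col.gi (nat_lit 3815) (Dv.wd (nat_lit 141) [Mv.f (nat_lit 9457), Mv.f (nat_lit 9343), Mv.b (nat_lit 7027), Mv.b (nat_lit 7025), Mv.b (nat_lit 2206), Mv.f (nat_lit 2378), Mv.f (nat_lit 5810), Mv.b (nat_lit 7084), Mv.f (nat_lit 10314)])))))))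
(Tr.nd (nat_lit 10323) (Tr.nd (nat_lit 10320) (Tr.nd (nat_lit 10319) (Tr.lf (Fc.ed (nat_lit 10318) (nat_lit 2460) Col.c (nat_lit 2827) (Dv.wd (nat_lit 124) [Mv.b (nat_lit 7464), Mv.b (nat_lit 5182), Mv.f (nat_lit 5879), Mv.f (nat_lit 7083), Mv.f (nat_lit 10314), Mv.b (nat_lit 7250), Mv.b (nat_lit 5981), Mv.f (nat_lit 3845), Mv.f (nat_lit 5995), Mv.b (nat_lit 6638)])))
(Tr.lf (Fc.ed (nat_lit 10319) (nat_lit 2827) Col.d (nat_lit 2795) (Dv.wd (nat_lit 62) [Mv.f (nat_lit 7397), Mv.f (nat_lit 6575), Mv.f (nat_lit 5744), Mv.f (nat_lit 5768), Mv.f (nat_lit 10166), Mv.b (nat_lit 5981), Mv.f (nat_lit 5995), Mv.b (nat_lit 6638), Mv.f (nat_lit 10318)]))))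
(Tr.nd (nat_lit 10321) (Tr.lf (Fc.ed (nat_lit 10320) (nat_lit 2827) Col.gi (nat_lit 3231) (Dv.wd (nat_lit 141) [Mv.b (nat_lit 8317), Mv.b (nat_lit 8169), Mv.b (nat_lit 5089), Mv.b (nat_lit 4807), Mv.f (nat_lit 3385), Mv.b (nat_lit 3200), Mv.f (nat_lit 3940), Mv.f (nat_lit 6637), Mv.f (nat_lit 10318)])))
(Tr.nd (nat_lit 10322) (Tr.lf (Fc.ed (nat_lit 10321) (nat_lit 3238) Col.c (nat_lit 3261) (Dv.wd (nat_lit 142) [Mv.b (nat_lit 8378), Mv.b (nat_lit 7368), Mv.f (nat_lit 10090), Mv.f (nat_lit 1097), Mv.f (nat_lit 3199), Mv.f (nat_lit 3940), Mv.f (nat_lit 6637), Mv.f (nat_lit 10318), Mv.f (nat_lit 10320), Mv.f (nat_lit 8327)])))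
(Tr.lf (Fc.ed (nat_lit 10322) (nat_lit 2142) Col.d (nat_lit 3122) (Dv.wd (nat_lit 89) [Mv.f (nat_lit 8099), Mv.f (nat_lit 3990), Mv.b (nat_lit 6886), Mv.f (nat_lit 8331), Mv.b (nat_lit 8335), Mv.f (nat_lit 10321), Mv.b (nat_lit 8378), Mv.b (nat_lit 7368), Mv.f (nat_lit 5946)]))))))
(Tr.nd (nat_lit 10325) (Tr.nd (nat_lit 10324) (Tr.lf (Fc.ed (nat_lit 10323) (nat_lit 1507) Col.d (nat_lit 3476) (Dv.wd (nat_lit 53) [Mv.b (nat_lit 8809), Mv.b (nat_lit 5103), Mv.b (nat_lit 10091), Mv.f (nat_lit 2891), Mv.f (nat_lit 5946), Mv.f (nat_lit 10322), Mv.b (nat_lit 8098), Mv.f (nat_lit 7065), Mv.f (nat_lit 7064), Mv.b (nat_lit 6230)])))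
(Tr.lf (Fc.ed (nat_lit 10324) (nat_lit 3476) Col.b (nat_lit 3068) (Dv.wd (nat_lit 37) [Mv.b (nat_lit 10211), Mv.b (nat_lit 6042), Mv.f (nat_lit 10323)]))))
(Tr.nd (nat_lit 10326) (Tr.lf (Fc.ed (nat_lit 10325) (nat_lit 840) Col.g (nat_lit 3476) (Dv.wd (nat_lit 122) [Mv.f (nat_lit 10324), Mv.b (nat_lit 7982), Mv.b (nat_lit 5435), Mv.f (nat_lit 2026), Mv.b (nat_lit 2024), Mv.f (nat_lit 587), Mv.f (nat_lit 588), Mv.f (nat_lit 421), Mv.f (nat_lit 879), Mv.f (nat_lit 2402)])))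
(Tr.nd (nat_lit 10327) (Tr.lf (Fc.ed (nat_lit 10326) (nat_lit 3815) Col.gi (nat_lit 3964) (Dv.wd (nat_lit 24) [Mv.b (nat_lit 10308), Mv.f (nat_lit 10285), Mv.f (nat_lit 10317)])))
(Tr.lf (Fc.ed (nat_lit 10327) (nat_lit 2251) Col.a (nat_lit 3060) (Dv.wd (nat_lit 8) [Mv.f (nat_lit 10148), Mv.f (nat_lit 10261), Mv.f (nat_lit 10302)]))))))))
(Tr.nd (nat_lit 10338) (Tr.nd (nat_lit 10333) (Tr.nd (nat_lit 10330) (Tr.nd (nat_lit 10329) (Tr.lf (Fc.ed (nat_lit 10328) (nat_lit 2251) Col.f (nat_lit 3108) (Dv.wd (nat_lit 11) [Mv.f (nat_lit 10231), Mv.f (nat_lit 10264), Mv.f (nat_lit 10302)])))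
(Tr.lf (Fc.ed (nat_lit 10329) (nat_lit 3296) Col.gi (nat_lit 1577) (Dv.wd (nat_lit 12) [Mv.f (nat_lit 6173), Mv.f (nat_lit 10328), Mv.f (nat_lit 8446)]))))
(Tr.nd (nat_lit 10331) (Tr.lf (Fc.ed (nat_lit 10330) (nat_lit 1616) Col.d (nat_lit 2380) (Dv.wd (nat_lit 27) [Mv.b (nat_lit 6471), Mv.b (nat_lit 4110), Mv.b (nat_lit 2858), Mv.b (nat_lit 5580), Mv.f (nat_lit 10170), Mv.f (nat_lit 10267), Mv.f (nat_lit 10329), Mv.b (nat_lit 4671), Mv.f (nat_lit 4748), Mv.f (nat_lit 10222)])))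
(Tr.nd (nat_lit 10332) (Tr.lf (Fc.ed (nat_lit 10331) (nat_lit 4071) Col.d (nat_lit 1955) (Dv.wd (nat_lit 58) [Mv.b (nat_lit 5483), Mv.f (nat_lit 10330), Mv.f (nat_lit 9932)])))
(Tr.lf (Fc.ed (nat_lit 10332) (nat_lit 3653) Col.gi (nat_lit 3997) (Dv.wd (nat_lit 12) [Mv.b (nat_lit 9799), Mv.f (nat_lit 10266), Mv.b (nat_lit 10192)]))))))
(Tr.nd (nat_lit 10335) (Tr.nd (nat_lit 10334) (Tr.lf (Fc.ed (nat_lit 10333) (nat_lit 3911) Col.g (nat_lit 3068) (Dv.wd (nat_lit 118) [Mv.b (nat_lit 7982), Mv.b (nat_lit 5435), Mv.f (nat_lit 2026), Mv.b (nat_lit 2024), Mv.f (nat_lit 587), Mv.f (nat_lit 2164), Mv.f (nat_lit 2166), Mv.f (nat_lit 5148), Mv.f (nat_lit 10255), Mv.f (nat_lit 9616)])))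
(Tr.lf (Fc.ed (nat_lit 10334) (nat_lit 3068) Col.g (nat_lit 3754) (Dv.wd (nat_lit 9) [Mv.b (nat_lit 10195), Mv.f (nat_lit 10097), Mv.f (nat_lit 10333)]))))
(Tr.nd (nat_lit 10336) (Tr.lf (Fc.ed (nat_lit 10335) (nat_lit 3875) Col.g (nat_lit 3915) (Dv.wd (nat_lit 118) [Mv.f (nat_lit 10248), Mv.f (nat_lit 7002), Mv.f (nat_lit 5744), Mv.f (nat_lit 4680), Mv.b (nat_lit 10277), Mv.b (nat_lit 10216), Mv.b (nat_lit 10238), Mv.f (nat_lit 10333), Mv.b (nat_lit 7982), Mv.f (nat_lit 9556)])))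
(Tr.nd (nat_lit 10337) (Tr.lf (Fc.ed (nat_lit 10336) (nat_lit 3819) Col.f (nat_lit 3875) (Dv.wd (nat_lit 10) [Mv.f (nat_lit 10335), Mv.b (nat_lit 9621), Mv.b (nat_lit 9464)])))
(Tr.lf (Fc.al (nat_lit 10337) (nat_lit 2235) (nat_lit 1742) (Dv.wd (nat_lit 107) [Mv.f (nat_lit 9463), Mv.f (nat_lit 10336), Mv.b (nat_lit 9556), Mv.f (nat_lit 6143)])))))))
(Tr.nd (nat_lit 10343) (Tr.nd (nat_lit 10340) (Tr.nd (nat_lit 10339) (Tr.lf (Fc.al (nat_lit 10338) (nat_lit 2799) (nat_lit 2932) (Dv.wd (nat_lit 29) [Mv.b (nat_lit 10123), Mv.f (nat_lit 10337), Mv.b (nat_lit 7405)])))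
(Tr.lf (Fc.al (nat_lit 10339) (nat_lit 1246) (nat_lit 1188) (Dv.wd (nat_lit 120) [Mv.b (nat_lit 10124), Mv.f (nat_lit 10337), Mv.b (nat_lit 10102)]))))
(Tr.nd (nat_lit 10341) (Tr.lf (Fc.al (nat_lit 10340) (nat_lit 2010) (nat_lit 1930) (Dv.wd (nat_lit 30) [Mv.f (nat_lit 6143), Mv.f (nat_lit 10337), Mv.f (nat_lit 5600)])))
(Tr.nd (nat_lit 10342) (Tr.lf (Fc.ed (nat_lit 10341) (nat_lit 2799) Col.g (nat_lit 1394) (Dv.wd (nat_lit 129) [Mv.f (nat_lit 10126), Mv.b (nat_lit 10338)])))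
(Tr.lf (Fc.ed (nat_lit 10342) (nat_lit 2799) Col.gi (nat_lit 689) (Dv.wd (nat_lit 128) [Mv.b (nat_lit 10125), Mv.b (nat_lit 10338)]))))))
(Tr.nd (nat_lit 10346) (Tr.nd (nat_lit 10344) (Tr.lf (Fc.al (nat_lit 10343) (nat_lit 3623) (nat_lit 2139) (Dv.wd (nat_lit 119) [Mv.f (nat_lit 10127), Mv.b (nat_lit 10338), Mv.b (nat_lit 9093)])))
(Tr.nd (nat_lit 10345) (Tr.lf (Fc.al (nat_lit 10344) (nat_lit 1916) (nat_lit 1064) (Dv.wd (nat_lit 120) [Mv.b (nat_lit 7690), Mv.b (nat_lit 10338), Mv.f (nat_lit 10103)])))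
(Tr.lf (Fc.al (nat_lit 10345) (nat_lit 1450) (nat_lit 2381) (Dv.wd (nat_lit 30) [Mv.b (nat_lit 7691), Mv.b (nat_lit 10338), Mv.b (nat_lit 7404)])))))
(Tr.nd (nat_lit 10347) (Tr.lf (Fc.al (nat_lit 10346) (nat_lit 2084) (nat_lit 897) (Dv.wd (nat_lit 129) [Mv.b (nat_lit 3833), Mv.f (nat_lit 10339), Mv.f (nat_lit 5755)])))
(Tr.nd (nat_lit 10348) (Tr.lf (Fc.ed (nat_lit 10347) (nat_lit 1188) Col.d (nat_lit 1742) (Dv.wd (nat_lit 120) [Mv.b (nat_lit 10102), Mv.f (nat_lit 10339)])))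
(Tr.lf (Fc.ed (nat_lit 10348) (nat_lit 1188) Col.e (nat_lit 3239) (Dv.wd (nat_lit 117) [Mv.b (nat_lit 8328), Mv.f (nat_lit 10339)])))))))))))
(Tr.nd (nat_lit 10431) (Tr.nd (nat_lit 10390) (Tr.nd (nat_lit 10369) (Tr.nd (nat_lit 10359) (Tr.nd (nat_lit 10354) (Tr.nd (nat_lit 10351) (Tr.nd (nat_lit 10350) (Tr.lf (Fc.al (nat_lit 10349) (nat_lit 1013) (nat_lit 1612) (Dv.wd (nat_lit 30) [Mv.b (nat_lit 4740), Mv.f (nat_lit 10339), Mv.b (nat_lit 3661)])))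
(Tr.lf (Fc.al (nat_lit 10350) (nat_lit 3068) (nat_lit 3223) (Dv.wd (nat_lit 103) [Mv.b (nat_lit 10094), Mv.f (nat_lit 10340), Mv.f (nat_lit 7982)]))))
(Tr.nd (nat_lit 10352) (Tr.lf (Fc.ed (nat_lit 10351) (nat_lit 2139) Col.gi (nat_lit 3958) (Dv.wd (nat_lit 128) [Mv.f (nat_lit 9737), Mv.f (nat_lit 10343)])))
(Tr.nd (nat_lit 10353) (Tr.lf (Fc.ed (nat_lit 10352) (nat_lit 2139) Col.b (nat_lit 2799) (Dv.wd (nat_lit 119) [Mv.b (nat_lit 9093), Mv.f (nat_lit 10343)])))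
(Tr.lf (Fc.ed (nat_lit 10353) (nat_lit 2139) Col.d (nat_lit 3697) (Dv.wd (nat_lit 120) [Mv.f (nat_lit 9235), Mv.f (nat_lit 10343)]))))))
(Tr.nd (nat_lit 10356) (Tr.nd (nat_lit 10355) (Tr.lf (Fc.al (nat_lit 10354) (nat_lit 3357) (nat_lit 2155) (Dv.wd (nat_lit 30) [Mv.f (nat_lit 9092), Mv.f (nat_lit 10343), Mv.f (nat_lit 8574)])))
(Tr.lf (Fc.ed (nat_lit 10355) (nat_lit 1064) Col.d (nat_lit 2799) (Dv.wd (nat_lit 120) [Mv.f (nat_lit 10103), Mv.f (nat_lit 10344)]))))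
(Tr.nd (nat_lit 10357) (Tr.lf (Fc.ed (nat_lit 10356) (nat_lit 1064) Col.e (nat_lit 3232) (Dv.wd (nat_lit 117) [Mv.b (nat_lit 8318), Mv.f (nat_lit 10344)])))
(Tr.nd (nat_lit 10358) (Tr.lf (Fc.al (nat_lit 10357) (nat_lit 1874) (nat_lit 927) (Dv.wd (nat_lit 30) [Mv.f (nat_lit 5403), Mv.f (nat_lit 10344), Mv.b (nat_lit 5322)])))
(Tr.lf (Fc.ed (nat_lit 10358) (nat_lit 1450) Col.a (nat_lit 1930) (Dv.wd (nat_lit 29) [Mv.b (nat_lit 10121), Mv.b (nat_lit 10345)])))))))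
(Tr.nd (nat_lit 10364) (Tr.nd (nat_lit 10361) (Tr.nd (nat_lit 10360) (Tr.lf (Fc.al (nat_lit 10359) (nat_lit 3392) (nat_lit 3483) (Dv.wd (nat_lit 103) [Mv.b (nat_lit 10122), Mv.b (nat_lit 10345), Mv.b (nat_lit 10099)])))
(Tr.lf (Fc.ed (nat_lit 10360) (nat_lit 1450) Col.d (nat_lit 927) (Dv.wd (nat_lit 120) [Mv.b (nat_lit 10357), Mv.f (nat_lit 6472), Mv.b (nat_lit 10345)]))))
(Tr.nd (nat_lit 10362) (Tr.lf (Fc.ed (nat_lit 10361) (nat_lit 897) Col.g (nat_lit 1188) (Dv.wd (nat_lit 129) [Mv.f (nat_lit 5755), Mv.f (nat_lit 10346)])))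
(Tr.nd (nat_lit 10363) (Tr.lf (Fc.ed (nat_lit 10362) (nat_lit 1013) Col.c (nat_lit 3459) (Dv.wd (nat_lit 103) [Mv.b (nat_lit 8778), Mv.b (nat_lit 10349)])))
(Tr.lf (Fc.al (nat_lit 10363) (nat_lit 3754) (nat_lit 3645) (Dv.wd (nat_lit 128) [Mv.b (nat_lit 9136), Mv.b (nat_lit 10350), Mv.f (nat_lit 10334)]))))))
(Tr.nd (nat_lit 10366) (Tr.nd (nat_lit 10365) (Tr.lf (Fc.al (nat_lit 10364) (nat_lit 3476) (nat_lit 3036) (Dv.wd (nat_lit 119) [Mv.f (nat_lit 8302), Mv.b (nat_lit 10350), Mv.b (nat_lit 10324)])))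
(Tr.lf (Fc.ed (nat_lit 10365) (nat_lit 3068) Col.f (nat_lit 1767) (Dv.wd (nat_lit 30) [Mv.b (nat_lit 8303), Mv.b (nat_lit 10350)]))))
(Tr.nd (nat_lit 10367) (Tr.lf (Fc.al (nat_lit 10366) (nat_lit 2153) (nat_lit 2002) (Dv.wd (nat_lit 103) [Mv.b (nat_lit 8575), Mv.f (nat_lit 10354), Mv.f (nat_lit 10096)])))
(Tr.nd (nat_lit 10368) (Tr.lf (Fc.ed (nat_lit 10367) (nat_lit 927) Col.a (nat_lit 1013) (Dv.wd (nat_lit 29) [Mv.f (nat_lit 5321), Mv.f (nat_lit 10357)])))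
(Tr.lf (Fc.al (nat_lit 10368) (nat_lit 3199) (nat_lit 3656) (Dv.wd (nat_lit 119) [Mv.b (nat_lit 9154), Mv.f (nat_lit 10357), Mv.f (nat_lit 8258)]))))))))
(Tr.nd (nat_lit 10379) (Tr.nd (nat_lit 10374) (Tr.nd (nat_lit 10371) (Tr.nd (nat_lit 10370) (Tr.lf (Fc.ed (nat_lit 10369) (nat_lit 3392) Col.a (nat_lit 3068) (Dv.wd (nat_lit 29) [Mv.f (nat_lit 8827), Mv.b (nat_lit 10359)])))
(Tr.lf (Fc.ed (nat_lit 10370) (nat_lit 3645) Col.gi (nat_lit 3068) (Dv.wd (nat_lit 128) [Mv.f (nat_lit 10334), Mv.f (nat_lit 10363)]))))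
(Tr.nd (nat_lit 10372) (Tr.lf (Fc.ed (nat_lit 10371) (nat_lit 3645) Col.b (nat_lit 2017) (Dv.wd (nat_lit 119) [Mv.f (nat_lit 9346), Mv.f (nat_lit 10363)])))
(Tr.nd (nat_lit 10373) (Tr.lf (Fc.ed (nat_lit 10372) (nat_lit 3645) Col.c (nat_lit 3744) (Dv.wd (nat_lit 103) [Mv.b (nat_lit 10237), Mv.f (nat_lit 10363)])))
(Tr.lf (Fc.ed (nat_lit 10373) (nat_lit 3645) Col.e (nat_lit 3170) (Dv.wd (nat_lit 117) [Mv.b (nat_lit 10220), Mv.f (nat_lit 10363)]))))))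
(Tr.nd (nat_lit 10376) (Tr.nd (nat_lit 10375) (Tr.lf (Fc.ed (nat_lit 10374) (nat_lit 3645) Col.f (nat_lit 4044) (Dv.wd (nat_lit 30) [Mv.b (nat_lit 10196), Mv.f (nat_lit 10363)])))
(Tr.lf (Fc.ed (nat_lit 10375) (nat_lit 3036) Col.gi (nat_lit 840) (Dv.wd (nat_lit 128) [Mv.f (nat_lit 10325), Mv.f (nat_lit 10364)]))))
(Tr.nd (nat_lit 10377) (Tr.lf (Fc.ed (nat_lit 10376) (nat_lit 3036) Col.b (nat_lit 3068) (Dv.wd (nat_lit 119) [Mv.b (nat_lit 10324), Mv.f (nat_lit 10364)])))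
(Tr.nd (nat_lit 10378) (Tr.lf (Fc.ed (nat_lit 10377) (nat_lit 3036) Col.d (nat_lit 1507) (Dv.wd (nat_lit 120) [Mv.f (nat_lit 10323), Mv.f (nat_lit 10364)])))
(Tr.lf (Fc.ed (nat_lit 10378) (nat_lit 3036) Col.e (nat_lit 1764) (Dv.wd (nat_lit 117) [Mv.f (nat_lit 8809), Mv.f (nat_lit 10364)])))))))
(Tr.nd (nat_lit 10384) (Tr.nd (nat_lit 10381) (Tr.nd (nat_lit 10380) (Tr.lf (Fc.al (nat_lit 10379) (nat_lit 3514) (nat_lit 954) (Dv.wd (nat_lit 128) [Mv.b (nat_lit 5968), Mv.f (nat_lit 10366), Mv.f (nat_lit 8884)])))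
(Tr.lf (Fc.al (nat_lit 10380) (nat_lit 3652) (nat_lit 1760) (Dv.wd (nat_lit 129) [Mv.f (nat_lit 5967), Mv.f (nat_lit 10366), Mv.b (nat_lit 9148)]))))
(Tr.nd (nat_lit 10382) (Tr.lf (Fc.ed (nat_lit 10381) (nat_lit 2002) Col.b (nat_lit 3725) (Dv.wd (nat_lit 119) [Mv.b (nat_lit 9294), Mv.f (nat_lit 10366)])))
(Tr.nd (nat_lit 10383) (Tr.lf (Fc.ed (nat_lit 10382) (nat_lit 2002) Col.c (nat_lit 2155) (Dv.wd (nat_lit 103) [Mv.f (nat_lit 10096), Mv.f (nat_lit 10366)])))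
(Tr.lf (Fc.ed (nat_lit 10383) (nat_lit 3199) Col.f (nat_lit 3612) (Dv.wd (nat_lit 30) [Mv.b (nat_lit 9155), Mv.b (nat_lit 10368)]))))))
(Tr.nd (nat_lit 10387) (Tr.nd (nat_lit 10385) (Tr.lf (Fc.al (nat_lit 10384) (nat_lit 1984) (nat_lit 3301) (Dv.wd (nat_lit 128) [Mv.b (nat_lit 8885), Mv.f (nat_lit 10379), Mv.b (nat_lit 5551)])))
(Tr.nd (nat_lit 10386) (Tr.lf (Fc.ed (nat_lit 10385) (nat_lit 954) Col.gi (nat_lit 2002) (Dv.wd (nat_lit 128) [Mv.f (nat_lit 8884), Mv.f (nat_lit 10379)])))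
(Tr.lf (Fc.ed (nat_lit 10386) (nat_lit 1760) Col.g (nat_lit 2002) (Dv.wd (nat_lit 129) [Mv.b (nat_lit 9148), Mv.f (nat_lit 10380)])))))
(Tr.nd (nat_lit 10388) (Tr.lf (Fc.ed (nat_lit 10387) (nat_lit 1984) Col.a (nat_lit 2126) (Dv.wd (nat_lit 29) [Mv.f (nat_lit 8456), Mv.b (nat_lit 10384)])))
(Tr.nd (nat_lit 10389) (Tr.lf (Fc.al (nat_lit 10388) (nat_lit 2134) (nat_lit 3536) (Dv.wd (nat_lit 119) [Mv.b (nat_lit 8930), Mv.b (nat_lit 10384), Mv.f (nat_lit 5929)])))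
(Tr.lf (Fc.ed (nat_lit 10389) (nat_lit 1984) Col.f (nat_lit 1943) (Dv.wd (nat_lit 30) [Mv.b (nat_lit 8457), Mv.b (nat_lit 10384)])))))))))
(Tr.nd (nat_lit 10410) (Tr.nd (nat_lit 10400) (Tr.nd (nat_lit 10395) (Tr.nd (nat_lit 10392) (Tr.nd (nat_lit 10391) (Tr.lf (Fc.ed (nat_lit 10390) (nat_lit 2134) Col.f (nat_lit 3346) (Dv.wd (nat_lit 30) [Mv.b (nat_lit 8931), Mv.b (nat_lit 10388)])))
(Tr.lf (Fc.ed (nat_lit 10391) (nat_lit 3346) Col.a (nat_lit 3159) (Dv.wd (nat_lit 16) [Mv.f (nat_lit 9889), Mv.b (nat_lit 10082), Mv.f (nat_lit 10390)]))))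
(Tr.nd (nat_lit 10393) (Tr.lf (Fc.al (nat_lit 10392) (nat_lit 3401) (nat_lit 2491) (Dv.wd (nat_lit 26) [Mv.b (nat_lit 6718), Mv.b (nat_lit 10080), Mv.f (nat_lit 10390), Mv.b (nat_lit 8667)])))
(Tr.nd (nat_lit 10394) (Tr.lf (Fc.ed (nat_lit 10393) (nat_lit 2491) Col.gi (nat_lit 1800) (Dv.wd (nat_lit 128) [Mv.b (nat_lit 8666), Mv.f (nat_lit 10392)])))
(Tr.lf (Fc.ed (nat_lit 10394) (nat_lit 2491) Col.c (nat_lit 3346) (Dv.wd (nat_lit 103) [Mv.b (nat_lit 8667), Mv.f (nat_lit 10392)]))))))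
(Tr.nd (nat_lit 10397) (Tr.nd (nat_lit 10396) (Tr.lf (Fc.ed (nat_lit 10395) (nat_lit 3866) Col.gi (nat_lit 2134) (Dv.wd (nat_lit 24) [Mv.f (nat_lit 10390), Mv.f (nat_lit 10391), Mv.f (nat_lit 9543)])))
(Tr.lf (Fc.ed (nat_lit 10396) (nat_lit 4051) Col.g (nat_lit 3447) (Dv.wd (nat_lit 17) [Mv.b (nat_lit 8759), Mv.f (nat_lit 10391), Mv.f (nat_lit 9889)]))))
(Tr.nd (nat_lit 10398) (Tr.lf (Fc.ed (nat_lit 10397) (nat_lit 3138) Col.a (nat_lit 3725) (Dv.wd (nat_lit 155) [Mv.b (nat_lit 10381), Mv.b (nat_lit 5590), Mv.f (nat_lit 8551), Mv.f (nat_lit 10391), Mv.f (nat_lit 8174)])))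
(Tr.nd (nat_lit 10399) (Tr.lf (Fc.ed (nat_lit 10398) (nat_lit 4070) Col.b (nat_lit 4051) (Dv.wd (nat_lit 106) [Mv.f (nat_lit 10396), Mv.f (nat_lit 8767), Mv.f (nat_lit 8768), Mv.b (nat_lit 7568), Mv.f (nat_lit 5123), Mv.b (nat_lit 5120), Mv.b (nat_lit 5680), Mv.f (nat_lit 6263), Mv.f (nat_lit 9799), Mv.f (nat_lit 9931)])))
(Tr.lf (Fc.ed (nat_lit 10399) (nat_lit 3138) Col.f (nat_lit 4070) (Dv.wd (nat_lit 125) [Mv.f (nat_lit 10398), Mv.b (nat_lit 9889), Mv.f (nat_lit 8174)])))))))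
(Tr.nd (nat_lit 10405) (Tr.nd (nat_lit 10402) (Tr.nd (nat_lit 10401) (Tr.lf (Fc.ed (nat_lit 10400) (nat_lit 3869) Col.a (nat_lit 4070) (Dv.wd (nat_lit 167) [Mv.f (nat_lit 10398), Mv.b (nat_lit 10082), Mv.b (nat_lit 5929), Mv.f (nat_lit 10387), Mv.f (nat_lit 9547)])))
(Tr.lf (Fc.ed (nat_lit 10401) (nat_lit 3725) Col.f (nat_lit 3869) (Dv.wd (nat_lit 73) [Mv.f (nat_lit 10400), Mv.b (nat_lit 10399), Mv.f (nat_lit 10397)]))))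
(Tr.nd (nat_lit 10403) (Tr.lf (Fc.ed (nat_lit 10402) (nat_lit 3132) Col.g (nat_lit 3869) (Dv.wd (nat_lit 9) [Mv.f (nat_lit 10400), Mv.b (nat_lit 10399), Mv.b (nat_lit 8136)])))
(Tr.nd (nat_lit 10404) (Tr.lf (Fc.ed (nat_lit 10403) (nat_lit 1943) Col.c (nat_lit 3613) (Dv.wd (nat_lit 34) [Mv.f (nat_lit 9110), Mv.f (nat_lit 10242), Mv.f (nat_lit 10389)])))
(Tr.lf (Fc.ed (nat_lit 10404) (nat_lit 3612) Col.c (nat_lit 3452) (Dv.wd (nat_lit 34) [Mv.f (nat_lit 8766), Mv.b (nat_lit 8259), Mv.f (nat_lit 10383)]))))))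
(Tr.nd (nat_lit 10407) (Tr.nd (nat_lit 10406) (Tr.lf (Fc.ed (nat_lit 10405) (nat_lit 3452) Col.g (nat_lit 1711) (Dv.wd (nat_lit 123) [Mv.b (nat_lit 4970), Mv.f (nat_lit 3589), Mv.b (nat_lit 1102), Mv.f (nat_lit 788), Mv.f (nat_lit 627), Mv.b (nat_lit 478), Mv.f (nat_lit 930), Mv.b (nat_lit 3293), Mv.f (nat_lit 9074), Mv.f (nat_lit 10404)])))
(Tr.lf (Fc.ed (nat_lit 10406) (nat_lit 3452) Col.gi (nat_lit 2465) (Dv.wd (nat_lit 88) [Mv.b (nat_lit 6648), Mv.f (nat_lit 6229), Mv.b (nat_lit 6230), Mv.f (nat_lit 6042), Mv.f (nat_lit 6148), Mv.b (nat_lit 6150), Mv.f (nat_lit 3822), Mv.f (nat_lit 3292), Mv.f (nat_lit 9074), Mv.f (nat_lit 10404)]))))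
(Tr.nd (nat_lit 10408) (Tr.lf (Fc.ed (nat_lit 10407) (nat_lit 3671) Col.d (nat_lit 3285) (Dv.wd (nat_lit 89) [Mv.b (nat_lit 8423), Mv.f (nat_lit 4745), Mv.b (nat_lit 4015), Mv.b (nat_lit 3990), Mv.f (nat_lit 3989), Mv.f (nat_lit 4970), Mv.b (nat_lit 10405), Mv.b (nat_lit 10404), Mv.f (nat_lit 9181)])))
(Tr.nd (nat_lit 10409) (Tr.lf (Fc.ed (nat_lit 10408) (nat_lit 3671) Col.b (nat_lit 3862) (Dv.wd (nat_lit 154) [Mv.b (nat_lit 9536), Mv.b (nat_lit 8625), Mv.b (nat_lit 4902), Mv.b (nat_lit 3597), Mv.f (nat_lit 1102), Mv.b (nat_lit 3589), Mv.f (nat_lit 4970), Mv.b (nat_lit 10405), Mv.b (nat_lit 10404), Mv.f (nat_lit 9181)])))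
(Tr.lf (Fc.ed (nat_lit 10409) (nat_lit 3862) Col.d (nat_lit 3309) (Dv.wd (nat_lit 58) [Mv.b (nat_lit 8470), Mv.b (nat_lit 10407), Mv.f (nat_lit 10408)]))))))))
(Tr.nd (nat_lit 10420) (Tr.nd (nat_lit 10415) (Tr.nd (nat_lit 10412) (Tr.nd (nat_lit 10411) (Tr.lf (Fc.ed (nat_lit 10410) (nat_lit 1869) Col.b (nat_lit 3973) (Dv.wd (nat_lit 159) [Mv.b (nat_lit 9762), Mv.f (nat_lit 10408), Mv.f (nat_lit 9537), Mv.f (nat_lit 8562), Mv.f (nat_lit 6654)])))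
(Tr.lf (Fc.ed (nat_lit 10411) (nat_lit 2048) Col.e (nat_lit 1937) (Dv.wd (nat_lit 56) [Mv.f (nat_lit 7899), Mv.f (nat_lit 10378), Mv.f (nat_lit 5681)]))))
(Tr.nd (nat_lit 10413) (Tr.lf (Fc.ed (nat_lit 10412) (nat_lit 2806) Col.d (nat_lit 1937) (Dv.wd (nat_lit 28) [Mv.f (nat_lit 7899), Mv.f (nat_lit 10377), Mv.b (nat_lit 7421)])))
(Tr.nd (nat_lit 10414) (Tr.lf (Fc.ed (nat_lit 10413) (nat_lit 2895) Col.d (nat_lit 1720) (Dv.wd (nat_lit 90) [Mv.b (nat_lit 7900), Mv.f (nat_lit 10377), Mv.b (nat_lit 7613)])))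
(Tr.lf (Fc.ed (nat_lit 10414) (nat_lit 2273) Col.d (nat_lit 2340) (Dv.wd (nat_lit 28) [Mv.f (nat_lit 7612), Mv.f (nat_lit 10413), Mv.b (nat_lit 7901)]))))))
(Tr.nd (nat_lit 10417) (Tr.nd (nat_lit 10416) (Tr.lf (Fc.ed (nat_lit 10415) (nat_lit 1767) Col.d (nat_lit 3185) (Dv.wd (nat_lit 58) [Mv.f (nat_lit 8230), Mv.f (nat_lit 10413), Mv.f (nat_lit 5107)])))
(Tr.lf (Fc.ed (nat_lit 10416) (nat_lit 3735) Col.d (nat_lit 3244) (Dv.wd (nat_lit 28) [Mv.f (nat_lit 10093), Mv.f (nat_lit 10415), Mv.b (nat_lit 9316)]))))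
(Tr.nd (nat_lit 10418) (Tr.lf (Fc.al (nat_lit 10417) (nat_lit 2324) (nat_lit 2326) (Dv.wd (nat_lit 78) [Mv.f (nat_lit 6351), Mv.b (nat_lit 3801), Mv.b (nat_lit 2945), Mv.b (nat_lit 10360), Mv.f (nat_lit 4392), Mv.f (nat_lit 4236), Mv.b (nat_lit 5047), Mv.b (nat_lit 10092), Mv.f (nat_lit 10415), Mv.f (nat_lit 8231)])))
(Tr.nd (nat_lit 10419) (Tr.lf (Fc.ed (nat_lit 10418) (nat_lit 2324) Col.gi (nat_lit 1234) (Dv.wd (nat_lit 128) [Mv.b (nat_lit 6351), Mv.b (nat_lit 10417)])))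
(Tr.lf (Fc.al (nat_lit 10419) (nat_lit 3185) (nat_lit 2404) (Dv.wd (nat_lit 103) [Mv.f (nat_lit 6513), Mv.b (nat_lit 10417), Mv.b (nat_lit 8231)])))))))
(Tr.nd (nat_lit 10425) (Tr.nd (nat_lit 10422) (Tr.nd (nat_lit 10421) (Tr.lf (Fc.al (nat_lit 10420) (nat_lit 3742) (nat_lit 3533) (Dv.wd (nat_lit 120) [Mv.f (nat_lit 10104), Mv.b (nat_lit 10417), Mv.f (nat_lit 9328)])))
(Tr.lf (Fc.ed (nat_lit 10421) (nat_lit 2404) Col.a (nat_lit 3735) (Dv.wd (nat_lit 29) [Mv.f (nat_lit 9316), Mv.f (nat_lit 10419)]))))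
(Tr.nd (nat_lit 10423) (Tr.lf (Fc.al (nat_lit 10422) (nat_lit 2292) (nat_lit 2895) (Dv.wd (nat_lit 119) [Mv.b (nat_lit 8230), Mv.f (nat_lit 10419), Mv.b (nat_lit 6512)])))
(Tr.nd (nat_lit 10424) (Tr.lf (Fc.ed (nat_lit 10423) (nat_lit 2404) Col.c (nat_lit 2324) (Dv.wd (nat_lit 103) [Mv.b (nat_lit 8231), Mv.f (nat_lit 10419)])))
(Tr.lf (Fc.ed (nat_lit 10424) (nat_lit 2404) Col.d (nat_lit 1767) (Dv.wd (nat_lit 120) [Mv.f (nat_lit 10415), Mv.f (nat_lit 10419)]))))))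
(Tr.nd (nat_lit 10428) (Tr.nd (nat_lit 10426) (Tr.lf (Fc.ed (nat_lit 10425) (nat_lit 2404) Col.f (nat_lit 2184) (Dv.wd (nat_lit 30) [Mv.f (nat_lit 8229), Mv.f (nat_lit 10419)])))
(Tr.nd (nat_lit 10427) (Tr.lf (Fc.ed (nat_lit 10426) (nat_lit 3533) Col.d (nat_lit 2324) (Dv.wd (nat_lit 120) [Mv.f (nat_lit 9328), Mv.f (nat_lit 10420)])))
(Tr.lf (Fc.ed (nat_lit 10427) (nat_lit 2292) Col.a (nat_lit 2340) (Dv.wd (nat_lit 29) [Mv.f (nat_lit 7612), Mv.b (nat_lit 10422)])))))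
(Tr.nd (nat_lit 10429) (Tr.lf (Fc.ed (nat_lit 10428) (nat_lit 2292) Col.d (nat_lit 1720) (Dv.wd (nat_lit 120) [Mv.b (nat_lit 10413), Mv.b (nat_lit 10422)])))
(Tr.nd (nat_lit 10430) (Tr.lf (Fc.ed (nat_lit 10429) (nat_lit 2292) Col.f (nat_lit 1507) (Dv.wd (nat_lit 30) [Mv.b (nat_lit 7613), Mv.b (nat_lit 10422)])))
(Tr.lf (Fc.ed (nat_lit 10430) (nat_lit 3984) Col.g (nat_lit 3459) (Dv.wd (nat_lit 77) [Mv.b (nat_lit 10362), Mv.b (nat_lit 10118), Mv.f (nat_lit 7982), Mv.b (nat_lit 10333), Mv.f (nat_lit 10238), Mv.f (nat_lit 9877), Mv.b (nat_lit 10424), Mv.f (nat_lit 9530), Mv.f (nat_lit 9780)]))))))))))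
(Tr.nd (nat_lit 10472) (Tr.nd (nat_lit 10451) (Tr.nd (nat_lit 10441) (Tr.nd (nat_lit 10436) (Tr.nd (nat_lit 10433) (Tr.nd (nat_lit 10432) (Tr.lf (Fc.ed (nat_lit 10431) (nat_lit 3578) Col.d (nat_lit 3603) (Dv.wd (nat_lit 147) [Mv.b (nat_lit 9060), Mv.f (nat_lit 10426), Mv.b (nat_lit 10423), Mv.f (nat_lit 10424), Mv.f (nat_lit 10092), Mv.b (nat_lit 10347), Mv.b (nat_lit 3661), Mv.b (nat_lit 10367), Mv.b (nat_lit 9014)])))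
(Tr.lf (Fc.ed (nat_lit 10432) (nat_lit 3747) Col.gi (nat_lit 3757) (Dv.wd (nat_lit 50) [Mv.f (nat_lit 10136), Mv.f (nat_lit 7994), Mv.f (nat_lit 5945), Mv.b (nat_lit 8925), Mv.f (nat_lit 10426), Mv.b (nat_lit 10423), Mv.f (nat_lit 10424), Mv.f (nat_lit 9331), Mv.f (nat_lit 10145)]))))
(Tr.nd (nat_lit 10434) (Tr.lf (Fc.ed (nat_lit 10433) (nat_lit 3603) Col.a (nat_lit 3816) (Dv.wd (nat_lit 8) [Mv.b (nat_lit 9458), Mv.f (nat_lit 9013), Mv.f (nat_lit 10431)])))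
(Tr.nd (nat_lit 10435) (Tr.lf (Fc.al (nat_lit 10434) (nat_lit 2641) (nat_lit 2216) (Dv.wd (nat_lit 169) [Mv.b (nat_lit 8973), Mv.b (nat_lit 10101), Mv.f (nat_lit 10099), Mv.f (nat_lit 10360), Mv.b (nat_lit 9014), Mv.f (nat_lit 10431), Mv.b (nat_lit 9060), Mv.f (nat_lit 10426), Mv.f (nat_lit 6346), Mv.b (nat_lit 7054)])))
(Tr.lf (Fc.ed (nat_lit 10435) (nat_lit 2216) Col.a (nat_lit 2239) (Dv.wd (nat_lit 29) [Mv.b (nat_lit 7054), Mv.f (nat_lit 10434)]))))))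
(Tr.nd (nat_lit 10438) (Tr.nd (nat_lit 10437) (Tr.lf (Fc.ed (nat_lit 10436) (nat_lit 3735) Col.f (nat_lit 3555) (Dv.wd (nat_lit 45) [Mv.b (nat_lit 10101), Mv.f (nat_lit 10099), Mv.f (nat_lit 10360), Mv.b (nat_lit 9014), Mv.f (nat_lit 10431), Mv.b (nat_lit 9060), Mv.f (nat_lit 10426), Mv.b (nat_lit 10423), Mv.f (nat_lit 10421)])))
(Tr.lf (Fc.ed (nat_lit 10437) (nat_lit 3491) Col.d (nat_lit 2216) (Dv.wd (nat_lit 170) [Mv.b (nat_lit 8973), Mv.b (nat_lit 10101), Mv.f (nat_lit 10099), Mv.f (nat_lit 10360), Mv.b (nat_lit 9014), Mv.f (nat_lit 10431), Mv.b (nat_lit 9060), Mv.b (nat_lit 9117), Mv.b (nat_lit 9116)]))))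
(Tr.nd (nat_lit 10439) (Tr.lf (Fc.ed (nat_lit 10438) (nat_lit 1188) Col.c (nat_lit 4061) (Dv.wd (nat_lit 171) [Mv.b (nat_lit 9905), Mv.b (nat_lit 9854), Mv.f (nat_lit 10437), Mv.b (nat_lit 8973), Mv.b (nat_lit 10101), Mv.f (nat_lit 10099), Mv.f (nat_lit 10360), Mv.b (nat_lit 9014), Mv.f (nat_lit 10431), Mv.b (nat_lit 9060), Mv.f (nat_lit 10426), Mv.b (nat_lit 10423), Mv.f (nat_lit 10424), Mv.f (nat_lit 10092), Mv.b (nat_lit 10347)])))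
(Tr.nd (nat_lit 10440) (Tr.lf (Fc.ed (nat_lit 10439) (nat_lit 4061) Col.a (nat_lit 3756) (Dv.wd (nat_lit 19) [Mv.b (nat_lit 9349), Mv.b (nat_lit 3662), Mv.f (nat_lit 10438)])))
(Tr.lf (Fc.ed (nat_lit 10440) (nat_lit 4061) Col.f (nat_lit 3459) (Dv.wd (nat_lit 26) [Mv.b (nat_lit 10362), Mv.f (nat_lit 3661), Mv.f (nat_lit 10438)])))))))
(Tr.nd (nat_lit 10446) (Tr.nd (nat_lit 10443) (Tr.nd (nat_lit 10442) (Tr.lf (Fc.ed (nat_lit 10441) (nat_lit 4028) Col.f (nat_lit 3816) (Dv.wd (nat_lit 112) [Mv.b (nat_lit 10433), Mv.b (nat_lit 9060), Mv.f (nat_lit 10426), Mv.b (nat_lit 10423), Mv.f (nat_lit 10424), Mv.f (nat_lit 10092), Mv.b (nat_lit 10347), Mv.f (nat_lit 10438), Mv.b (nat_lit 9905)])))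
(Tr.lf (Fc.ed (nat_lit 10442) (nat_lit 3555) Col.a (nat_lit 2184) (Dv.wd (nat_lit 166) [Mv.b (nat_lit 10425), Mv.f (nat_lit 10424), Mv.f (nat_lit 10092), Mv.b (nat_lit 10347), Mv.f (nat_lit 10438), Mv.b (nat_lit 9905), Mv.b (nat_lit 9854), Mv.f (nat_lit 10437), Mv.b (nat_lit 8973)]))))
(Tr.nd (nat_lit 10444) (Tr.lf (Fc.ed (nat_lit 10443) (nat_lit 3756) Col.f (nat_lit 3578) (Dv.wd (nat_lit 45) [Mv.f (nat_lit 10431), Mv.b (nat_lit 9060), Mv.f (nat_lit 10426), Mv.b (nat_lit 10423), Mv.f (nat_lit 10424), Mv.f (nat_lit 10092), Mv.b (nat_lit 10347), Mv.f (nat_lit 10438), Mv.f (nat_lit 10439)])))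
(Tr.nd (nat_lit 10445) (Tr.lf (Fc.ed (nat_lit 10444) (nat_lit 4061) Col.gi (nat_lit 3949) (Dv.wd (nat_lit 78) [Mv.b (nat_lit 9723), Mv.f (nat_lit 9575), Mv.f (nat_lit 10211), Mv.b (nat_lit 10370), Mv.f (nat_lit 10372), Mv.b (nat_lit 9331), Mv.f (nat_lit 10092), Mv.b (nat_lit 10347), Mv.f (nat_lit 10438)])))
(Tr.lf (Fc.ed (nat_lit 10445) (nat_lit 3949) Col.gi (nat_lit 3578) (Dv.wd (nat_lit 24) [Mv.b (nat_lit 10443), Mv.b (nat_lit 10439), Mv.f (nat_lit 10444)]))))))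
(Tr.nd (nat_lit 10448) (Tr.nd (nat_lit 10447) (Tr.lf (Fc.ed (nat_lit 10446) (nat_lit 2679) Col.b (nat_lit 3888) (Dv.wd (nat_lit 168) [Mv.f (nat_lit 9723), Mv.f (nat_lit 10445), Mv.f (nat_lit 9014), Mv.b (nat_lit 2944), Mv.b (nat_lit 915), Mv.b (nat_lit 478), Mv.b (nat_lit 582), Mv.f (nat_lit 842), Mv.f (nat_lit 3763), Mv.b (nat_lit 7143)])))
(Tr.lf (Fc.ed (nat_lit 10447) (nat_lit 3871) Col.c (nat_lit 3400) (Dv.wd (nat_lit 130) [Mv.b (nat_lit 8663), Mv.f (nat_lit 8450), Mv.f (nat_lit 6364), Mv.f (nat_lit 7142), Mv.f (nat_lit 10446), Mv.f (nat_lit 9723), Mv.b (nat_lit 10444), Mv.b (nat_lit 10438), Mv.b (nat_lit 7362), Mv.f (nat_lit 9549)]))))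
(Tr.nd (nat_lit 10449) (Tr.lf (Fc.ed (nat_lit 10448) (nat_lit 3199) Col.gi (nat_lit 4008) (Dv.wd (nat_lit 100) [Mv.b (nat_lit 9818), Mv.f (nat_lit 10447), Mv.f (nat_lit 8664), Mv.f (nat_lit 6267), Mv.b (nat_lit 7143), Mv.f (nat_lit 10446), Mv.f (nat_lit 9723), Mv.f (nat_lit 10445), Mv.f (nat_lit 9014), Mv.f (nat_lit 8258)])))
(Tr.nd (nat_lit 10450) (Tr.lf (Fc.ed (nat_lit 10449) (nat_lit 3819) Col.d (nat_lit 2782) (Dv.wd (nat_lit 89) [Mv.f (nat_lit 9549), Mv.f (nat_lit 10447), Mv.b (nat_lit 8663), Mv.f (nat_lit 8450), Mv.f (nat_lit 6361), Mv.b (nat_lit 6574), Mv.f (nat_lit 7353), Mv.f (nat_lit 9774), Mv.b (nat_lit 10239)])))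
(Tr.lf (Fc.ed (nat_lit 10450) (nat_lit 3614) Col.d (nat_lit 3871) (Dv.wd (nat_lit 62) [Mv.f (nat_lit 10447), Mv.f (nat_lit 8664), Mv.f (nat_lit 6267), Mv.b (nat_lit 7143), Mv.b (nat_lit 10181), Mv.f (nat_lit 5499), Mv.b (nat_lit 3385), Mv.b (nat_lit 7147), Mv.f (nat_lit 9076)]))))))))
(Tr.nd (nat_lit 10461) (Tr.nd (nat_lit 10456) (Tr.nd (nat_lit 10453) (Tr.nd (nat_lit 10452) (Tr.lf (Fc.ed (nat_lit 10451) (nat_lit 2782) Col.a (nat_lit 3856) (Dv.wd (nat_lit 8) [Mv.b (nat_lit 10245), Mv.b (nat_lit 9464), Mv.f (nat_lit 10449)])))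
(Tr.lf (Fc.ed (nat_lit 10452) (nat_lit 2647) Col.d (nat_lit 3875) (Dv.wd (nat_lit 90) [Mv.b (nat_lit 10336), Mv.f (nat_lit 10449), Mv.b (nat_lit 7361)]))))
(Tr.nd (nat_lit 10454) (Tr.lf (Fc.ed (nat_lit 10453) (nat_lit 3862) Col.gi (nat_lit 2647) (Dv.wd (nat_lit 141) [Mv.f (nat_lit 10452), Mv.f (nat_lit 10335), Mv.f (nat_lit 10248), Mv.f (nat_lit 7002), Mv.f (nat_lit 5744), Mv.b (nat_lit 6321), Mv.f (nat_lit 6595), Mv.b (nat_lit 8626), Mv.f (nat_lit 9536)])))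
(Tr.nd (nat_lit 10455) (Tr.lf (Fc.ed (nat_lit 10454) (nat_lit 2647) Col.gi (nat_lit 1929) (Dv.wd (nat_lit 24) [Mv.f (nat_lit 8561), Mv.b (nat_lit 9537), Mv.f (nat_lit 10453)])))
(Tr.lf (Fc.ed (nat_lit 10455) (nat_lit 3856) Col.gi (nat_lit 3862) (Dv.wd (nat_lit 12) [Mv.f (nat_lit 10453), Mv.f (nat_lit 7361), Mv.f (nat_lit 10451)]))))))
(Tr.nd (nat_lit 10458) (Tr.nd (nat_lit 10457) (Tr.lf (Fc.ed (nat_lit 10456) (nat_lit 3603) Col.f (nat_lit 3841) (Dv.wd (nat_lit 11) [Mv.b (nat_lit 9502), Mv.f (nat_lit 10443), Mv.f (nat_lit 10431)])))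
(Tr.lf (Fc.ed (nat_lit 10457) (nat_lit 3984) Col.gi (nat_lit 3756) (Dv.wd (nat_lit 24) [Mv.f (nat_lit 10443), Mv.b (nat_lit 9013), Mv.b (nat_lit 10430)]))))
(Tr.nd (nat_lit 10459) (Tr.lf (Fc.ed (nat_lit 10458) (nat_lit 3841) Col.a (nat_lit 4028) (Dv.wd (nat_lit 16) [Mv.f (nat_lit 10441), Mv.b (nat_lit 10433), Mv.f (nat_lit 10456)])))
(Tr.nd (nat_lit 10460) (Tr.lf (Fc.ed (nat_lit 10459) (nat_lit 3859) Col.g (nat_lit 3555) (Dv.wd (nat_lit 9) [Mv.f (nat_lit 10442), Mv.b (nat_lit 10425), Mv.f (nat_lit 9530)])))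
(Tr.lf (Fc.ed (nat_lit 10460) (nat_lit 3821) Col.a (nat_lit 3142) (Dv.wd (nat_lit 167) [Mv.f (nat_lit 8972), Mv.f (nat_lit 10442), Mv.b (nat_lit 6042), Mv.b (nat_lit 7421), Mv.f (nat_lit 9467)])))))))
(Tr.nd (nat_lit 10466) (Tr.nd (nat_lit 10463) (Tr.nd (nat_lit 10462) (Tr.lf (Fc.ed (nat_lit 10461) (nat_lit 4088) Col.gi (nat_lit 3898) (Dv.wd (nat_lit 24) [Mv.f (nat_lit 9592), Mv.f (nat_lit 10460), Mv.f (nat_lit 10315)])))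
(Tr.lf (Fc.ed (nat_lit 10462) (nat_lit 3898) Col.d (nat_lit 3997) (Dv.wd (nat_lit 48) [Mv.b (nat_lit 9799), Mv.b (nat_lit 6263), Mv.b (nat_lit 5679), Mv.b (nat_lit 3835), Mv.b (nat_lit 9048), Mv.f (nat_lit 10158), Mv.f (nat_lit 9859), Mv.f (nat_lit 10213), Mv.f (nat_lit 10461)]))))
(Tr.nd (nat_lit 10464) (Tr.lf (Fc.ed (nat_lit 10463) (nat_lit 3816) Col.c (nat_lit 3636) (Dv.wd (nat_lit 34) [Mv.b (nat_lit 9116), Mv.f (nat_lit 9854), Mv.f (nat_lit 10441)])))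
(Tr.nd (nat_lit 10465) (Tr.lf (Fc.ed (nat_lit 10464) (nat_lit 3636) Col.d (nat_lit 2157) (Dv.wd (nat_lit 147) [Mv.f (nat_lit 9315), Mv.f (nat_lit 10416), Mv.b (nat_lit 8341), Mv.b (nat_lit 10355), Mv.f (nat_lit 9349), Mv.f (nat_lit 9502), Mv.b (nat_lit 10456), Mv.f (nat_lit 10433), Mv.f (nat_lit 10463)])))
(Tr.lf (Fc.al (nat_lit 10465) (nat_lit 3770) (nat_lit 3636) (Dv.wd (nat_lit 48) [Mv.f (nat_lit 10464), Mv.f (nat_lit 5976), Mv.b (nat_lit 3639), Mv.b (nat_lit 3293), Mv.f (nat_lit 10355), Mv.f (nat_lit 10341), Mv.f (nat_lit 4406), Mv.f (nat_lit 5146), Mv.f (nat_lit 5398), Mv.f (nat_lit 9373)]))))))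
(Tr.nd (nat_lit 10469) (Tr.nd (nat_lit 10467) (Tr.lf (Fc.ed (nat_lit 10466) (nat_lit 3636) Col.g (nat_lit 1913) (Dv.wd (nat_lit 129) [Mv.f (nat_lit 9373), Mv.f (nat_lit 10465)])))
(Tr.nd (nat_lit 10468) (Tr.lf (Fc.ed (nat_lit 10467) (nat_lit 3636) Col.gi (nat_lit 1938) (Dv.wd (nat_lit 128) [Mv.b (nat_lit 9374), Mv.f (nat_lit 10465)])))
(Tr.lf (Fc.ed (nat_lit 10468) (nat_lit 3350) Col.d (nat_lit 2239) (Dv.wd (nat_lit 51) [Mv.f (nat_lit 6149), Mv.f (nat_lit 3873), Mv.b (nat_lit 3927), Mv.b (nat_lit 3926), Mv.f (nat_lit 5975), Mv.b (nat_lit 10464), Mv.f (nat_lit 10467), Mv.f (nat_lit 5452), Mv.f (nat_lit 8559)])))))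
(Tr.nd (nat_lit 10470) (Tr.lf (Fc.ed (nat_lit 10469) (nat_lit 3350) Col.c (nat_lit 3841) (Dv.wd (nat_lit 172) [Mv.b (nat_lit 9502), Mv.b (nat_lit 9349), Mv.f (nat_lit 10355), Mv.f (nat_lit 8341), Mv.b (nat_lit 10416), Mv.b (nat_lit 9315), Mv.b (nat_lit 10464), Mv.b (nat_lit 10463), Mv.b (nat_lit 9458), Mv.b (nat_lit 10362), Mv.b (nat_lit 10118), Mv.f (nat_lit 7982), Mv.b (nat_lit 10211), Mv.f (nat_lit 6148), Mv.b (nat_lit 10468)])))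
(Tr.nd (nat_lit 10471) (Tr.lf (Fc.ed (nat_lit 10470) (nat_lit 3491) Col.a (nat_lit 3350) (Dv.wd (nat_lit 76) [Mv.f (nat_lit 10469), Mv.f (nat_lit 10458), Mv.b (nat_lit 9854)])))
(Tr.lf (Fc.ed (nat_lit 10471) (nat_lit 3533) Col.f (nat_lit 3350) (Dv.wd (nat_lit 64) [Mv.f (nat_lit 10469), Mv.b (nat_lit 10456), Mv.b (nat_lit 9060)])))))))))
(Tr.nd (nat_lit 10493) (Tr.nd (nat_lit 10482) (Tr.nd (nat_lit 10477) (Tr.nd (nat_lit 10474) (Tr.nd (nat_lit 10473) (Tr.lf (Fc.ed (nat_lit 10472) (nat_lit 3555) Col.g (nat_lit 3941) (Dv.wd (nat_lit 17) [Mv.b (nat_lit 9706), Mv.f (nat_lit 10421), Mv.f (nat_lit 10436)])))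
(Tr.lf (Fc.al (nat_lit 10473) (nat_lit 2806) (nat_lit 2956) (Dv.wd (nat_lit 12) [Mv.f (nat_lit 7736), Mv.f (nat_lit 6273), Mv.f (nat_lit 10429), Mv.b (nat_lit 7421)]))))
(Tr.nd (nat_lit 10475) (Tr.lf (Fc.ed (nat_lit 10474) (nat_lit 2806) Col.g (nat_lit 1243) (Dv.wd (nat_lit 129) [Mv.f (nat_lit 7735), Mv.b (nat_lit 10473)])))
(Tr.nd (nat_lit 10476) (Tr.lf (Fc.ed (nat_lit 10475) (nat_lit 2806) Col.gi (nat_lit 2247) (Dv.wd (nat_lit 128) [Mv.b (nat_lit 7736), Mv.b (nat_lit 10473)])))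
(Tr.lf (Fc.al (nat_lit 10476) (nat_lit 3634) (nat_lit 3707) (Dv.wd (nat_lit 48) [Mv.f (nat_lit 9259), Mv.b (nat_lit 10386), Mv.f (nat_lit 5092), Mv.f (nat_lit 5450), Mv.b (nat_lit 10412), Mv.f (nat_lit 10474), Mv.f (nat_lit 3992), Mv.b (nat_lit 3968), Mv.b (nat_lit 4999), Mv.f (nat_lit 9113)]))))))
(Tr.nd (nat_lit 10479) (Tr.nd (nat_lit 10478) (Tr.lf (Fc.ed (nat_lit 10477) (nat_lit 3634) Col.d (nat_lit 2002) (Dv.wd (nat_lit 120) [Mv.b (nat_lit 9259), Mv.b (nat_lit 10476)])))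
(Tr.lf (Fc.ed (nat_lit 10478) (nat_lit 3634) Col.f (nat_lit 3569) (Dv.wd (nat_lit 30) [Mv.f (nat_lit 9258), Mv.b (nat_lit 10476)]))))
(Tr.nd (nat_lit 10480) (Tr.lf (Fc.ed (nat_lit 10479) (nat_lit 3569) Col.a (nat_lit 3489) (Dv.wd (nat_lit 23) [Mv.b (nat_lit 8839), Mv.f (nat_lit 9113), Mv.f (nat_lit 10478)])))
(Tr.nd (nat_lit 10481) (Tr.lf (Fc.ed (nat_lit 10480) (nat_lit 3489) Col.d (nat_lit 1984) (Dv.wd (nat_lit 28) [Mv.f (nat_lit 10387), Mv.f (nat_lit 8999), Mv.f (nat_lit 10479)])))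
(Tr.lf (Fc.ed (nat_lit 10481) (nat_lit 3818) Col.b (nat_lit 3489) (Dv.wd (nat_lit 126) [Mv.f (nat_lit 10480), Mv.f (nat_lit 5929), Mv.f (nat_lit 9462)])))))))
(Tr.nd (nat_lit 10487) (Tr.nd (nat_lit 10484) (Tr.nd (nat_lit 10483) (Tr.lf (Fc.al (nat_lit 10482) (nat_lit 2645) (nat_lit 3199) (Dv.wd (nat_lit 32) [Mv.f (nat_lit 8259), Mv.b (nat_lit 8152), Mv.f (nat_lit 7894), Mv.f (nat_lit 6273), Mv.f (nat_lit 10428), Mv.f (nat_lit 4997), Mv.b (nat_lit 5092), Mv.f (nat_lit 10386), Mv.f (nat_lit 10382), Mv.f (nat_lit 7066)])))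
(Tr.lf (Fc.ed (nat_lit 10483) (nat_lit 2645) Col.gi (nat_lit 4008) (Dv.wd (nat_lit 128) [Mv.b (nat_lit 10448), Mv.b (nat_lit 10482)]))))
(Tr.nd (nat_lit 10485) (Tr.lf (Fc.ed (nat_lit 10484) (nat_lit 2645) Col.b (nat_lit 927) (Dv.wd (nat_lit 119) [Mv.f (nat_lit 8258), Mv.b (nat_lit 10482)])))
(Tr.nd (nat_lit 10486) (Tr.lf (Fc.ed (nat_lit 10485) (nat_lit 2645) Col.c (nat_lit 3148) (Dv.wd (nat_lit 103) [Mv.b (nat_lit 8259), Mv.b (nat_lit 10482)])))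
(Tr.lf (Fc.al (nat_lit 10486) (nat_lit 3697) (nat_lit 3612) (Dv.wd (nat_lit 30) [Mv.b (nat_lit 10383), Mv.b (nat_lit 10482), Mv.f (nat_lit 9234)]))))))
(Tr.nd (nat_lit 10490) (Tr.nd (nat_lit 10488) (Tr.lf (Fc.ed (nat_lit 10487) (nat_lit 3612) Col.d (nat_lit 2139) (Dv.wd (nat_lit 120) [Mv.f (nat_lit 10353), Mv.f (nat_lit 10486)])))
(Tr.nd (nat_lit 10489) (Tr.lf (Fc.ed (nat_lit 10488) (nat_lit 3612) Col.f (nat_lit 2645) (Dv.wd (nat_lit 30) [Mv.f (nat_lit 9234), Mv.f (nat_lit 10486)])))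
(Tr.lf (Fc.ed (nat_lit 10489) (nat_lit 3569) Col.gi (nat_lit 3091) (Dv.wd (nat_lit 111) [Mv.f (nat_lit 8033), Mv.f (nat_lit 7034), Mv.f (nat_lit 8331), Mv.b (nat_lit 8424), Mv.b (nat_lit 10407), Mv.b (nat_lit 9181), Mv.f (nat_lit 10487), Mv.b (nat_lit 5937), Mv.f (nat_lit 8999)])))))
(Tr.nd (nat_lit 10491) (Tr.lf (Fc.ed (nat_lit 10490) (nat_lit 1579) Col.gi (nat_lit 3569) (Dv.wd (nat_lit 12) [Mv.f (nat_lit 10489), Mv.b (nat_lit 8735), Mv.f (nat_lit 8736)])))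
(Tr.nd (nat_lit 10492) (Tr.lf (Fc.ed (nat_lit 10491) (nat_lit 3875) Col.c (nat_lit 4039) (Dv.wd (nat_lit 121) [Mv.b (nat_lit 9870), Mv.b (nat_lit 10079), Mv.f (nat_lit 10376), Mv.b (nat_lit 7982), Mv.f (nat_lit 9556)])))
(Tr.lf (Fc.ed (nat_lit 10492) (nat_lit 3729) Col.g (nat_lit 3449) (Dv.wd (nat_lit 105) [Mv.b (nat_lit 10079), Mv.f (nat_lit 10376), Mv.b (nat_lit 10370), Mv.f (nat_lit 10371), Mv.f (nat_lit 10271), Mv.b (nat_lit 10290), Mv.b (nat_lit 9486), Mv.b (nat_lit 9182), Mv.f (nat_lit 9247), Mv.b (nat_lit 10241)]))))))))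
(Tr.nd (nat_lit 10503) (Tr.nd (nat_lit 10498) (Tr.nd (nat_lit 10495) (Tr.nd (nat_lit 10494) (Tr.lf (Fc.ed (nat_lit 10493) (nat_lit 4039) Col.f (nat_lit 3861) (Dv.wd (nat_lit 26) [Mv.f (nat_lit 9534), Mv.f (nat_lit 10336), Mv.f (nat_lit 10491)])))
(Tr.lf (Fc.ed (nat_lit 10494) (nat_lit 3326) Col.gi (nat_lit 4039) (Dv.wd (nat_lit 24) [Mv.f (nat_lit 10493), Mv.b (nat_lit 9535), Mv.f (nat_lit 10290)]))))
(Tr.nd (nat_lit 10496) (Tr.lf (Fc.ed (nat_lit 10495) (nat_lit 4039) Col.gi (nat_lit 4056) (Dv.wd (nat_lit 24) [Mv.b (nat_lit 10289), Mv.b (nat_lit 9273), Mv.f (nat_lit 10494)])))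
(Tr.nd (nat_lit 10497) (Tr.lf (Fc.ed (nat_lit 10496) (nat_lit 3244) Col.gi (nat_lit 3645) (Dv.wd (nat_lit 157) [Mv.f (nat_lit 10371), Mv.f (nat_lit 10271), Mv.f (nat_lit 10494), Mv.b (nat_lit 10491), Mv.b (nat_lit 9556), Mv.f (nat_lit 5436), Mv.f (nat_lit 4231), Mv.f (nat_lit 4229), Mv.b (nat_lit 10341), Mv.f (nat_lit 8341)])))
(Tr.lf (Fc.ed (nat_lit 10497) (nat_lit 3911) Col.gi (nat_lit 3244) (Dv.wd (nat_lit 12) [Mv.f (nat_lit 10496), Mv.f (nat_lit 10374), Mv.b (nat_lit 10098)]))))))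
(Tr.nd (nat_lit 10500) (Tr.nd (nat_lit 10499) (Tr.lf (Fc.ed (nat_lit 10498) (nat_lit 3645) Col.d (nat_lit 3842) (Dv.wd (nat_lit 89) [Mv.b (nat_lit 9503), Mv.b (nat_lit 9415), Mv.b (nat_lit 8355), Mv.b (nat_lit 5146), Mv.b (nat_lit 4406), Mv.f (nat_lit 4229), Mv.b (nat_lit 10341), Mv.f (nat_lit 8341), Mv.f (nat_lit 10496)])))
(Tr.lf (Fc.ed (nat_lit 10499) (nat_lit 2961) Col.b (nat_lit 3901) (Dv.wd (nat_lit 101) [Mv.b (nat_lit 9597), Mv.f (nat_lit 10352), Mv.f (nat_lit 8341), Mv.f (nat_lit 10496), Mv.f (nat_lit 10372), Mv.b (nat_lit 10197), Mv.b (nat_lit 10100), Mv.f (nat_lit 10089), Mv.b (nat_lit 10199), Mv.b (nat_lit 8555)]))))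
(Tr.nd (nat_lit 10501) (Tr.lf (Fc.al (nat_lit 10500) (nat_lit 3845) (nat_lit 2149) (Dv.wd (nat_lit 58) [Mv.b (nat_lit 10217), Mv.b (nat_lit 10371), Mv.f (nat_lit 10498), Mv.f (nat_lit 9508)])))
(Tr.nd (nat_lit 10502) (Tr.lf (Fc.ed (nat_lit 10501) (nat_lit 2149) Col.b (nat_lit 3842) (Dv.wd (nat_lit 119) [Mv.f (nat_lit 9508), Mv.f (nat_lit 10500)])))
(Tr.lf (Fc.ed (nat_lit 10502) (nat_lit 3958) Col.b (nat_lit 3915) (Dv.wd (nat_lit 168) [Mv.f (nat_lit 10248), Mv.b (nat_lit 7001), Mv.b (nat_lit 4433), Mv.b (nat_lit 10276), Mv.b (nat_lit 10216), Mv.b (nat_lit 10238), Mv.f (nat_lit 10497), Mv.b (nat_lit 8341), Mv.b (nat_lit 10352), Mv.f (nat_lit 10351)])))))))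
(Tr.nd (nat_lit 10508) (Tr.nd (nat_lit 10505) (Tr.nd (nat_lit 10504) (Tr.lf (Fc.al (nat_lit 10503) (nat_lit 1908) (nat_lit 2273) (Dv.wd (nat_lit 13) [Mv.b (nat_lit 6231), Mv.f (nat_lit 7899), Mv.f (nat_lit 10375), Mv.f (nat_lit 5388)])))
(Tr.lf (Fc.ed (nat_lit 10504) (nat_lit 1908) Col.a (nat_lit 1720) (Dv.wd (nat_lit 29) [Mv.b (nat_lit 7901), Mv.b (nat_lit 10503)]))))
(Tr.nd (nat_lit 10506) (Tr.lf (Fc.ed (nat_lit 10505) (nat_lit 1908) Col.d (nat_lit 2340) (Dv.wd (nat_lit 120) [Mv.b (nat_lit 10414), Mv.b (nat_lit 10503)])))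
(Tr.nd (nat_lit 10507) (Tr.lf (Fc.ed (nat_lit 10506) (nat_lit 3194) Col.d (nat_lit 3740) (Dv.wd (nat_lit 53) [Mv.b (nat_lit 9324), Mv.f (nat_lit 6280), Mv.f (nat_lit 3585), Mv.f (nat_lit 2969), Mv.f (nat_lit 5388), Mv.f (nat_lit 10505), Mv.f (nat_lit 6389), Mv.b (nat_lit 6394), Mv.f (nat_lit 6393), Mv.b (nat_lit 8247)])))
(Tr.lf (Fc.ed (nat_lit 10507) (nat_lit 1645) Col.e (nat_lit 1450) (Dv.wd (nat_lit 146) [Mv.f (nat_lit 10360), Mv.b (nat_lit 2944), Mv.f (nat_lit 983), Mv.f (nat_lit 1279), Mv.b (nat_lit 3777), Mv.b (nat_lit 10128), Mv.b (nat_lit 9008), Mv.b (nat_lit 6093), Mv.f (nat_lit 4835), Mv.f (nat_lit 4811)]))))))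
(Tr.nd (nat_lit 10511) (Tr.nd (nat_lit 10509) (Tr.lf (Fc.al (nat_lit 10508) (nat_lit 2758) (nat_lit 1645) (Dv.wd (nat_lit 72) [Mv.f (nat_lit 10507), Mv.f (nat_lit 10358), Mv.f (nat_lit 10119), Mv.f (nat_lit 7310)])))
(Tr.nd (nat_lit 10510) (Tr.lf (Fc.al (nat_lit 10509) (nat_lit 2120) (nat_lit 1474) (Dv.wd (nat_lit 29) [Mv.f (nat_lit 7310), Mv.f (nat_lit 10508), Mv.f (nat_lit 5895)])))
(Tr.lf (Fc.ed (nat_lit 10510) (nat_lit 1645) Col.c (nat_lit 3417) (Dv.wd (nat_lit 103) [Mv.f (nat_lit 8696), Mv.f (nat_lit 10508)])))))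
(Tr.nd (nat_lit 10512) (Tr.lf (Fc.al (nat_lit 10511) (nat_lit 2690) (nat_lit 1444) (Dv.wd (nat_lit 30) [Mv.b (nat_lit 7311), Mv.f (nat_lit 10508), Mv.f (nat_lit 7167)])))
(Tr.nd (nat_lit 10513) (Tr.lf (Fc.ed (nat_lit 10512) (nat_lit 1474) Col.a (nat_lit 1645) (Dv.wd (nat_lit 29) [Mv.f (nat_lit 5895), Mv.f (nat_lit 10509)])))
(Tr.lf (Fc.al (nat_lit 10513) (nat_lit 1773) (nat_lit 3631) (Dv.wd (nat_lit 103) [Mv.f (nat_lit 9109), Mv.f (nat_lit 10509), Mv.f (nat_lit 5119)])))))))))))))))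
end CfsgLib.TCON
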