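import Cfsg.Agent.EqBase
import Cfsg.Agent.LibTCONW
set_option autoImplicit false
set_option linter.all false
set_option maxRecDepth 1000000
set_option maxHeartbeats 0
namespace CfsgLib.TCON
open CfsgLib.TC Cfsg.Spor CfsgLib.TCG_ON
noncomputable def mini2S_4 : Tr (Fc Col) := (Tr.nd (nat_lit 11828) (Tr.nd (nat_lit 11171) (Tr.nd (nat_lit 10842) (Tr.nd (nat_lit 10678) (Tr.nd (nat_lit 10596) (Tr.nd (nat_lit 10555) (Tr.nd (nat_lit 10534) (Tr.nd (nat_lit 10524) (Tr.nd (nat_lit 10519) (Tr.nd (nat_lit 10516) (Tr.nd (nat_lit 10515) (Tr.lf (Fc.ed (nat_lit 10514) (nat_lit 1444) Col.f (nat_lit 1645) (Dv.wd (nat_lit 30) [Mv.f (nat_lit 7167), Mv.f (nat_lit 10511)])))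
(Tr.lf (Fc.ed (nat_lit 10515) (nat_lit 1773) Col.b (nat_lit 3367) (Dv.wd (nat_lit 119) [Mv.b (nat_lit 9108), Mv.b (nat_lit 10513)]))))
(Tr.nd (nat_lit 10517) (Tr.lf (Fc.al (nat_lit 10516) (nat_lit 3113) (nat_lit 2105) (Dv.wd (nat_lit 30) [Mv.f (nat_lit 9107), Mv.b (nat_lit 10513), Mv.f (nat_lit 8082)])))
(Tr.nd (nat_lit 10518) (Tr.lf (Fc.ed (nat_lit 10517) (nat_lit 2105) Col.g (nat_lit 3700) (Dv.wd (nat_lit 129) [Mv.f (nat_lit 9245), Mv.f (nat_lit 10516)])))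
(Tr.lf (Fc.ed (nat_lit 10518) (nat_lit 2105) Col.a (nat_lit 3235) (Dv.wd (nat_lit 29) [Mv.b (nat_lit 8698), Mv.f (nat_lit 10516)]))))))
(Tr.nd (nat_lit 10521) (Tr.nd (nat_lit 10520) (Tr.lf (Fc.ed (nat_lit 10519) (nat_lit 2105) Col.f (nat_lit 1773) (Dv.wd (nat_lit 30) [Mv.f (nat_lit 8082), Mv.f (nat_lit 10516)])))
(Tr.lf (Fc.ed (nat_lit 10520) (nat_lit 3392) Col.e (nat_lit 3417) (Dv.wd (nat_lit 25) [Mv.b (nat_lit 10510), Mv.f (nat_lit 10507), Mv.b (nat_lit 10099)]))))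
(Tr.nd (nat_lit 10522) (Tr.lf (Fc.ed (nat_lit 10521) (nat_lit 1773) Col.e (nat_lit 3068) (Dv.wd (nat_lit 56) [Mv.b (nat_lit 10369), Mv.f (nat_lit 10520), Mv.b (nat_lit 8695)])))
(Tr.nd (nat_lit 10523) (Tr.lf (Fc.ed (nat_lit 10522) (nat_lit 3718) Col.e (nat_lit 3284) (Dv.wd (nat_lit 52) [Mv.f (nat_lit 10100), Mv.f (nat_lit 10520), Mv.f (nat_lit 9280)])))
(Tr.lf (Fc.ed (nat_lit 10523) (nat_lit 2057) Col.g (nat_lit 3718) (Dv.wd (nat_lit 38) [Mv.f (nat_lit 10522), Mv.f (nat_lit 8422), Mv.b (nat_lit 8143), Mv.f (nat_lit 10159), Mv.f (nat_lit 10179), Mv.f (nat_lit 9488), Mv.b (nat_lit 10232), Mv.b (nat_lit 9620), Mv.b (nat_lit 10258), Mv.f (nat_lit 10259)])))))))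
(Tr.nd (nat_lit 10529) (Tr.nd (nat_lit 10526) (Tr.nd (nat_lit 10525) (Tr.lf (Fc.ed (nat_lit 10524) (nat_lit 3718) Col.g (nat_lit 3067) (Dv.wd (nat_lit 9) [Mv.b (nat_lit 8951), Mv.f (nat_lit 8952), Mv.f (nat_lit 10523)])))
(Tr.lf (Fc.al (nat_lit 10525) (nat_lit 3700) (nat_lit 3170) (Dv.wd (nat_lit 115) [Mv.f (nat_lit 8700), Mv.b (nat_lit 7093), Mv.f (nat_lit 10523), Mv.b (nat_lit 9280), Mv.b (nat_lit 10510), Mv.b (nat_lit 4811), Mv.f (nat_lit 4425), Mv.f (nat_lit 4428), Mv.b (nat_lit 5790), Mv.f (nat_lit 5795), Mv.f (nat_lit 10517)]))))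
(Tr.nd (nat_lit 10527) (Tr.lf (Fc.ed (nat_lit 10526) (nat_lit 3170) Col.g (nat_lit 3417) (Dv.wd (nat_lit 129) [Mv.f (nat_lit 9244), Mv.f (nat_lit 10525)])))
(Tr.nd (nat_lit 10528) (Tr.lf (Fc.ed (nat_lit 10527) (nat_lit 3170) Col.gi (nat_lit 2105) (Dv.wd (nat_lit 128) [Mv.f (nat_lit 10517), Mv.f (nat_lit 10525)])))
(Tr.lf (Fc.al (nat_lit 10528) (nat_lit 1764) (nat_lit 3367) (Dv.wd (nat_lit 127) [Mv.b (nat_lit 10515), Mv.f (nat_lit 10521), Mv.b (nat_lit 10376), Mv.f (nat_lit 10378)]))))))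
(Tr.nd (nat_lit 10531) (Tr.nd (nat_lit 10530) (Tr.lf (Fc.ed (nat_lit 10529) (nat_lit 1764) Col.b (nat_lit 1773) (Dv.wd (nat_lit 119) [Mv.f (nat_lit 10515), Mv.b (nat_lit 10528)])))
(Tr.lf (Fc.al (nat_lit 10530) (nat_lit 3105) (nat_lit 2007) (Dv.wd (nat_lit 30) [Mv.f (nat_lit 8593), Mv.b (nat_lit 10528), Mv.f (nat_lit 8065)]))))
(Tr.nd (nat_lit 10532) (Tr.lf (Fc.al (nat_lit 10531) (nat_lit 992) (nat_lit 3445) (Dv.wd (nat_lit 129) [Mv.b (nat_lit 8755), Mv.f (nat_lit 10530), Mv.b (nat_lit 5596)])))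
(Tr.nd (nat_lit 10533) (Tr.lf (Fc.ed (nat_lit 10532) (nat_lit 2007) Col.a (nat_lit 1979) (Dv.wd (nat_lit 29) [Mv.b (nat_lit 8066), Mv.f (nat_lit 10530)])))
(Tr.lf (Fc.ed (nat_lit 10533) (nat_lit 2007) Col.f (nat_lit 1764) (Dv.wd (nat_lit 30) [Mv.f (nat_lit 8065), Mv.f (nat_lit 10530)]))))))))
(Tr.nd (nat_lit 10544) (Tr.nd (nat_lit 10539) (Tr.nd (nat_lit 10536) (Tr.nd (nat_lit 10535) (Tr.lf (Fc.ed (nat_lit 10534) (nat_lit 992) Col.gi (nat_lit 2048) (Dv.wd (nat_lit 128) [Mv.b (nat_lit 8756), Mv.b (nat_lit 10531)])))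
(Tr.lf (Fc.ed (nat_lit 10535) (nat_lit 1591) Col.e (nat_lit 3641) (Dv.wd (nat_lit 133) [Mv.b (nat_lit 9128), Mv.b (nat_lit 5794), Mv.f (nat_lit 4325), Mv.f (nat_lit 10534), Mv.f (nat_lit 10411), Mv.b (nat_lit 10412), Mv.f (nat_lit 10475), Mv.b (nat_lit 6783), Mv.b (nat_lit 7759), Mv.f (nat_lit 7760)]))))
(Tr.nd (nat_lit 10537) (Tr.lf (Fc.ed (nat_lit 10536) (nat_lit 3641) Col.b (nat_lit 3500) (Dv.wd (nat_lit 49) [Mv.b (nat_lit 8859), Mv.b (nat_lit 4697), Mv.f (nat_lit 10535)])))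
(Tr.nd (nat_lit 10538) (Tr.lf (Fc.ed (nat_lit 10537) (nat_lit 3832) Col.a (nat_lit 3736) (Dv.wd (nat_lit 155) [Mv.b (nat_lit 9317), Mv.b (nat_lit 10518), Mv.f (nat_lit 5796), Mv.f (nat_lit 10532), Mv.f (nat_lit 9487)])))
(Tr.lf (Fc.ed (nat_lit 10538) (nat_lit 3067) Col.g (nat_lit 3832) (Dv.wd (nat_lit 9) [Mv.f (nat_lit 10537), Mv.f (nat_lit 9318), Mv.f (nat_lit 10524)]))))))
(Tr.nd (nat_lit 10541) (Tr.nd (nat_lit 10540) (Tr.lf (Fc.ed (nat_lit 10539) (nat_lit 4038) Col.e (nat_lit 3612) (Dv.wd (nat_lit 52) [Mv.b (nat_lit 9074), Mv.f (nat_lit 10356), Mv.f (nat_lit 9869)])))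
(Tr.lf (Fc.ed (nat_lit 10540) (nat_lit 3239) Col.b (nat_lit 3934) (Dv.wd (nat_lit 49) [Mv.b (nat_lit 9698), Mv.f (nat_lit 7362), Mv.f (nat_lit 10348)]))))
(Tr.nd (nat_lit 10542) (Tr.lf (Fc.ed (nat_lit 10541) (nat_lit 3833) Col.g (nat_lit 4032) (Dv.wd (nat_lit 139) [Mv.b (nat_lit 9859), Mv.f (nat_lit 5033), Mv.b (nat_lit 4736), Mv.f (nat_lit 4737), Mv.b (nat_lit 5811), Mv.b (nat_lit 7986), Mv.f (nat_lit 9540), Mv.f (nat_lit 9620), Mv.f (nat_lit 10232)])))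
(Tr.nd (nat_lit 10543) (Tr.lf (Fc.ed (nat_lit 10542) (nat_lit 4033) Col.f (nat_lit 3970) (Dv.wd (nat_lit 125) [Mv.f (nat_lit 10134), Mv.f (nat_lit 5165), Mv.f (nat_lit 9862)])))
(Tr.lf (Fc.ed (nat_lit 10543) (nat_lit 2902) Col.e (nat_lit 2065) (Dv.wd (nat_lit 56) [Mv.b (nat_lit 7621), Mv.f (nat_lit 10131), Mv.b (nat_lit 7631)])))))))
(Tr.nd (nat_lit 10549) (Tr.nd (nat_lit 10546) (Tr.nd (nat_lit 10545) (Tr.lf (Fc.ed (nat_lit 10544) (nat_lit 3991) Col.e (nat_lit 3875) (Dv.wd (nat_lit 52) [Mv.b (nat_lit 9556), Mv.f (nat_lit 10119), Mv.f (nat_lit 9788)])))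
(Tr.lf (Fc.ed (nat_lit 10545) (nat_lit 3264) Col.d (nat_lit 2692) (Dv.wd (nat_lit 90) [Mv.b (nat_lit 7169), Mv.f (nat_lit 10113), Mv.b (nat_lit 8383)]))))
(Tr.nd (nat_lit 10547) (Tr.lf (Fc.ed (nat_lit 10546) (nat_lit 2183) Col.d (nat_lit 2468) (Dv.wd (nat_lit 48) [Mv.f (nat_lit 6656), Mv.b (nat_lit 4042), Mv.b (nat_lit 6540), Mv.f (nat_lit 10113), Mv.b (nat_lit 8355), Mv.f (nat_lit 5398), Mv.b (nat_lit 5452), Mv.b (nat_lit 5451), Mv.f (nat_lit 6040)])))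
(Tr.nd (nat_lit 10548) (Tr.lf (Fc.ed (nat_lit 10547) (nat_lit 3690) Col.e (nat_lit 3600) (Dv.wd (nat_lit 56) [Mv.f (nat_lit 9055), Mv.f (nat_lit 10110), Mv.f (nat_lit 9217)])))
(Tr.lf (Fc.ed (nat_lit 10548) (nat_lit 4080) Col.a (nat_lit 3647) (Dv.wd (nat_lit 54) [Mv.f (nat_lit 10105), Mv.f (nat_lit 7810), Mv.f (nat_lit 9947)]))))))
(Tr.nd (nat_lit 10552) (Tr.nd (nat_lit 10550) (Tr.lf (Fc.ed (nat_lit 10549) (nat_lit 1807) Col.e (nat_lit 910) (Dv.wd (nat_lit 82) [Mv.f (nat_lit 10090), Mv.f (nat_lit 4157), Mv.f (nat_lit 5184)])))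
(Tr.nd (nat_lit 10551) (Tr.lf (Fc.ed (nat_lit 10550) (nat_lit 1765) Col.e (nat_lit 2770) (Dv.wd (nat_lit 56) [Mv.b (nat_lit 7336), Mv.f (nat_lit 10549), Mv.f (nat_lit 5104)])))
(Tr.lf (Fc.ed (nat_lit 10551) (nat_lit 1355) Col.d (nat_lit 1807) (Dv.wd (nat_lit 99) [Mv.f (nat_lit 10549), Mv.b (nat_lit 2891), Mv.f (nat_lit 10091), Mv.f (nat_lit 3324), Mv.f (nat_lit 4136)])))))
(Tr.nd (nat_lit 10553) (Tr.lf (Fc.ed (nat_lit 10552) (nat_lit 2282) Col.f (nat_lit 1807) (Dv.wd (nat_lit 61) [Mv.f (nat_lit 10549), Mv.f (nat_lit 2970), Mv.b (nat_lit 3585), Mv.f (nat_lit 5953), Mv.f (nat_lit 6250)])))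
(Tr.nd (nat_lit 10554) (Tr.lf (Fc.ed (nat_lit 10553) (nat_lit 2442) Col.d (nat_lit 3665) (Dv.wd (nat_lit 53) [Mv.b (nat_lit 9169), Mv.b (nat_lit 8763), Mv.f (nat_lit 10549), Mv.b (nat_lit 2891), Mv.f (nat_lit 7902), Mv.b (nat_lit 10412), Mv.f (nat_lit 10475), Mv.f (nat_lit 6165), Mv.f (nat_lit 5733), Mv.f (nat_lit 6597)])))
(Tr.lf (Fc.ed (nat_lit 10554) (nat_lit 3342) Col.a (nat_lit 2282) (Dv.wd (nat_lit 79) [Mv.f (nat_lit 10552), Mv.f (nat_lit 7336), Mv.f (nat_lit 8544)])))))))))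
(Tr.nd (nat_lit 10575) (Tr.nd (nat_lit 10565) (Tr.nd (nat_lit 10560) (Tr.nd (nat_lit 10557) (Tr.nd (nat_lit 10556) (Tr.lf (Fc.ed (nat_lit 10555) (nat_lit 2091) Col.b (nat_lit 2282) (Dv.wd (nat_lit 107) [Mv.f (nat_lit 10552), Mv.b (nat_lit 5184), Mv.f (nat_lit 10015)])))
(Tr.lf (Fc.ed (nat_lit 10556) (nat_lit 2911) Col.d (nat_lit 2282) (Dv.wd (nat_lit 90) [Mv.f (nat_lit 10552), Mv.b (nat_lit 10551), Mv.f (nat_lit 7649)]))))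
(Tr.nd (nat_lit 10558) (Tr.lf (Fc.ed (nat_lit 10557) (nat_lit 2687) Col.b (nat_lit 2911) (Dv.wd (nat_lit 126) [Mv.f (nat_lit 10556), Mv.b (nat_lit 10555), Mv.b (nat_lit 7516)])))
(Tr.nd (nat_lit 10559) (Tr.lf (Fc.ed (nat_lit 10558) (nat_lit 2146) Col.b (nat_lit 2072) (Dv.wd (nat_lit 127) [Mv.f (nat_lit 7517), Mv.f (nat_lit 10555), Mv.b (nat_lit 6250)])))
(Tr.lf (Fc.ed (nat_lit 10559) (nat_lit 2770) Col.d (nat_lit 2018) (Dv.wd (nat_lit 28) [Mv.f (nat_lit 5617), Mv.f (nat_lit 10551), Mv.f (nat_lit 7336)]))))))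
(Tr.nd (nat_lit 10562) (Tr.nd (nat_lit 10561) (Tr.lf (Fc.ed (nat_lit 10560) (nat_lit 2072) Col.c (nat_lit 2091) (Dv.wd (nat_lit 34) [Mv.b (nat_lit 10015), Mv.f (nat_lit 4158), Mv.f (nat_lit 10016)])))
(Tr.lf (Fc.ed (nat_lit 10561) (nat_lit 3308) Col.c (nat_lit 1263) (Dv.wd (nat_lit 67) [Mv.f (nat_lit 9983), Mv.f (nat_lit 8429), Mv.f (nat_lit 8469)]))))
(Tr.nd (nat_lit 10563) (Tr.lf (Fc.ed (nat_lit 10562) (nat_lit 3990) Col.gi (nat_lit 4094) Dv.df))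
(Tr.nd (nat_lit 10564) (Tr.lf (Fc.ed (nat_lit 10563) (nat_lit 3461) Col.c (nat_lit 4095) Dv.df))
(Tr.lf (Fc.ed (nat_lit 10564) (nat_lit 4095) Col.d (nat_lit 3915) (Dv.wd (nat_lit 62) [Mv.f (nat_lit 10248), Mv.b (nat_lit 7001), Mv.b (nat_lit 4433), Mv.b (nat_lit 10276), Mv.b (nat_lit 10280), Mv.b (nat_lit 5965), Mv.f (nat_lit 3940), Mv.b (nat_lit 8782), Mv.f (nat_lit 10563)])))))))
(Tr.nd (nat_lit 10570) (Tr.nd (nat_lit 10567) (Tr.nd (nat_lit 10566) (Tr.lf (Fc.ed (nat_lit 10565) (nat_lit 3961) Col.b (nat_lit 4095) (Dv.wd (nat_lit 126) [Mv.f (nat_lit 10564), Mv.b (nat_lit 10502), Mv.f (nat_lit 9741)])))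
(Tr.lf (Fc.ed (nat_lit 10566) (nat_lit 3941) Col.c (nat_lit 4096) Dv.df)))
(Tr.nd (nat_lit 10568) (Tr.lf (Fc.ed (nat_lit 10567) (nat_lit 4096) Col.g (nat_lit 3756) (Dv.wd (nat_lit 77) [Mv.b (nat_lit 9349), Mv.f (nat_lit 10355), Mv.f (nat_lit 8341), Mv.f (nat_lit 10496), Mv.f (nat_lit 10372), Mv.b (nat_lit 10197), Mv.f (nat_lit 10101), Mv.f (nat_lit 10472), Mv.f (nat_lit 10566)])))
(Tr.nd (nat_lit 10569) (Tr.lf (Fc.ed (nat_lit 10568) (nat_lit 3459) Col.g (nat_lit 4096) (Dv.wd (nat_lit 17) [Mv.f (nat_lit 10567), Mv.b (nat_lit 10439), Mv.f (nat_lit 10440)])))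
(Tr.lf (Fc.ed (nat_lit 10569) (nat_lit 3532) Col.f (nat_lit 4097) Dv.df)))))
(Tr.nd (nat_lit 10572) (Tr.nd (nat_lit 10571) (Tr.lf (Fc.ed (nat_lit 10570) (nat_lit 4097) Col.a (nat_lit 3817) (Dv.wd (nat_lit 16) [Mv.f (nat_lit 9460), Mv.f (nat_lit 9233), Mv.f (nat_lit 10569)])))
(Tr.lf (Fc.ed (nat_lit 10571) (nat_lit 4097) Col.d (nat_lit 2025) (Dv.wd (nat_lit 21) [Mv.f (nat_lit 5632), Mv.f (nat_lit 8923), Mv.f (nat_lit 10569)]))))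
(Tr.nd (nat_lit 10573) (Tr.lf (Fc.ed (nat_lit 10572) (nat_lit 4097) Col.g (nat_lit 3951) (Dv.wd (nat_lit 17) [Mv.b (nat_lit 9726), Mv.f (nat_lit 9233), Mv.f (nat_lit 10569)])))
(Tr.nd (nat_lit 10574) (Tr.lf (Fc.ed (nat_lit 10573) (nat_lit 2510) Col.g (nat_lit 4098) Dv.df))
(Tr.lf (Fc.ed (nat_lit 10574) (nat_lit 4098) Col.g (nat_lit 2050) (Dv.wd (nat_lit 9) [Mv.f (nat_lit 5684), Mv.b (nat_lit 6759), Mv.f (nat_lit 10573)]))))))))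
(Tr.nd (nat_lit 10585) (Tr.nd (nat_lit 10580) (Tr.nd (nat_lit 10577) (Tr.nd (nat_lit 10576) (Tr.lf (Fc.ed (nat_lit 10575) (nat_lit 2093) Col.f (nat_lit 4099) Dv.df))
(Tr.lf (Fc.ed (nat_lit 10576) (nat_lit 4099) Col.a (nat_lit 3689) (Dv.wd (nat_lit 16) [Mv.b (nat_lit 9841), Mv.b (nat_lit 9840), Mv.f (nat_lit 10575)]))))
(Tr.nd (nat_lit 10578) (Tr.lf (Fc.ed (nat_lit 10577) (nat_lit 2981) Col.f (nat_lit 4100) Dv.df))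
(Tr.nd (nat_lit 10579) (Tr.lf (Fc.ed (nat_lit 10578) (nat_lit 4100) Col.a (nat_lit 3179) (Dv.wd (nat_lit 23) [Mv.f (nat_lit 8216), Mv.b (nat_lit 7785), Mv.f (nat_lit 10577)])))
(Tr.lf (Fc.ed (nat_lit 10579) (nat_lit 4097) Col.c (nat_lit 4101) Dv.df)))))
(Tr.nd (nat_lit 10582) (Tr.nd (nat_lit 10581) (Tr.lf (Fc.ed (nat_lit 10580) (nat_lit 4101) Col.a (nat_lit 3808) (Dv.wd (nat_lit 19) [Mv.f (nat_lit 9459), Mv.b (nat_lit 10570), Mv.f (nat_lit 10579)])))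
(Tr.lf (Fc.ed (nat_lit 10581) (nat_lit 4101) Col.f (nat_lit 3541) (Dv.wd (nat_lit 26) [Mv.f (nat_lit 8943), Mv.f (nat_lit 10569), Mv.f (nat_lit 10579)]))))
(Tr.nd (nat_lit 10583) (Tr.lf (Fc.ed (nat_lit 10582) (nat_lit 3447) Col.c (nat_lit 4102) Dv.df))
(Tr.nd (nat_lit 10584) (Tr.lf (Fc.ed (nat_lit 10583) (nat_lit 4102) Col.b (nat_lit 2923) (Dv.wd (nat_lit 87) [Mv.b (nat_lit 8159), Mv.b (nat_lit 8158), Mv.b (nat_lit 8768), Mv.b (nat_lit 8767), Mv.f (nat_lit 10582)])))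
(Tr.lf (Fc.ed (nat_lit 10584) (nat_lit 3440) Col.g (nat_lit 4103) Dv.df))))))
(Tr.nd (nat_lit 10590) (Tr.nd (nat_lit 10587) (Tr.nd (nat_lit 10586) (Tr.lf (Fc.ed (nat_lit 10585) (nat_lit 4103) Col.g (nat_lit 1877) (Dv.wd (nat_lit 9) [Mv.b (nat_lit 9805), Mv.f (nat_lit 9806), Mv.f (nat_lit 10584)])))
(Tr.lf (Fc.ed (nat_lit 10586) (nat_lit 3543) Col.g (nat_lit 4104) Dv.df)))
(Tr.nd (nat_lit 10588) (Tr.lf (Fc.ed (nat_lit 10587) (nat_lit 4104) Col.g (nat_lit 2639) (Dv.wd (nat_lit 9) [Mv.f (nat_lit 7048), Mv.f (nat_lit 8945), Mv.f (nat_lit 10586)])))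
(Tr.nd (nat_lit 10589) (Tr.lf (Fc.ed (nat_lit 10588) (nat_lit 2958) Col.f (nat_lit 4105) Dv.df))
(Tr.lf (Fc.ed (nat_lit 10589) (nat_lit 2755) Col.e (nat_lit 4106) Dv.df)))))
(Tr.nd (nat_lit 10593) (Tr.nd (nat_lit 10591) (Tr.lf (Fc.ed (nat_lit 10590) (nat_lit 4106) Col.d (nat_lit 3625) (Dv.wd (nat_lit 59) [Mv.b (nat_lit 9095), Mv.b (nat_lit 10202), Mv.f (nat_lit 9009), Mv.b (nat_lit 10111), Mv.f (nat_lit 10589)])))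
(Tr.nd (nat_lit 10592) (Tr.lf (Fc.ed (nat_lit 10591) (nat_lit 3965) Col.gi (nat_lit 4107) Dv.df))
(Tr.lf (Fc.ed (nat_lit 10592) (nat_lit 2075) Col.g (nat_lit 4108) Dv.df))))
(Tr.nd (nat_lit 10594) (Tr.lf (Fc.ed (nat_lit 10593) (nat_lit 4108) Col.g (nat_lit 3546) (Dv.wd (nat_lit 9) [Mv.f (nat_lit 8954), Mv.f (nat_lit 6243), Mv.f (nat_lit 10592)])))
(Tr.nd (nat_lit 10595) (Tr.lf (Fc.ed (nat_lit 10594) (nat_lit 3646) Col.e (nat_lit 4109) Dv.df))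
(Tr.lf (Fc.ed (nat_lit 10595) (nat_lit 3717) Col.c (nat_lit 4110) Dv.df)))))))))
(Tr.nd (nat_lit 10637) (Tr.nd (nat_lit 10616) (Tr.nd (nat_lit 10606) (Tr.nd (nat_lit 10601) (Tr.nd (nat_lit 10598) (Tr.nd (nat_lit 10597) (Tr.lf (Fc.ed (nat_lit 10596) (nat_lit 4110) Col.a (nat_lit 2424) (Dv.wd (nat_lit 19) [Mv.f (nat_lit 6558), Mv.b (nat_lit 9279), Mv.f (nat_lit 10595)])))
(Tr.lf (Fc.ed (nat_lit 10597) (nat_lit 4110) Col.b (nat_lit 3746) (Dv.wd (nat_lit 87) [Mv.b (nat_lit 9376), Mv.f (nat_lit 9377), Mv.b (nat_lit 8997), Mv.f (nat_lit 9277), Mv.f (nat_lit 10595)]))))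
(Tr.nd (nat_lit 10599) (Tr.lf (Fc.ed (nat_lit 10598) (nat_lit 3985) Col.e (nat_lit 4111) Dv.df))
(Tr.nd (nat_lit 10600) (Tr.lf (Fc.ed (nat_lit 10599) (nat_lit 2630) Col.b (nat_lit 4112) Dv.df))
(Tr.lf (Fc.ed (nat_lit 10600) (nat_lit 3094) Col.a (nat_lit 4113) Dv.df)))))
(Tr.nd (nat_lit 10603) (Tr.nd (nat_lit 10602) (Tr.lf (Fc.ed (nat_lit 10601) (nat_lit 4113) Col.f (nat_lit 3509) (Dv.wd (nat_lit 35) [Mv.b (nat_lit 8875), Mv.b (nat_lit 8041), Mv.f (nat_lit 10600)])))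
(Tr.lf (Fc.ed (nat_lit 10602) (nat_lit 3061) Col.gi (nat_lit 4114) Dv.df)))
(Tr.nd (nat_lit 10604) (Tr.lf (Fc.ed (nat_lit 10603) (nat_lit 4114) Col.gi (nat_lit 2154) (Dv.wd (nat_lit 24) [Mv.b (nat_lit 8969), Mv.f (nat_lit 8968), Mv.f (nat_lit 10602)])))
(Tr.nd (nat_lit 10605) (Tr.lf (Fc.ed (nat_lit 10604) (nat_lit 3684) Col.gi (nat_lit 4115) Dv.df))
(Tr.lf (Fc.ed (nat_lit 10605) (nat_lit 4115) Col.gi (nat_lit 1883) (Dv.wd (nat_lit 24) [Mv.f (nat_lit 5804), Mv.f (nat_lit 9204), Mv.f (nat_lit 10604)])))))))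
(Tr.nd (nat_lit 10611) (Tr.nd (nat_lit 10608) (Tr.nd (nat_lit 10607) (Tr.lf (Fc.ed (nat_lit 10606) (nat_lit 3746) Col.gi (nat_lit 4116) Dv.df))
(Tr.lf (Fc.ed (nat_lit 10607) (nat_lit 4116) Col.gi (nat_lit 1939) (Dv.wd (nat_lit 24) [Mv.b (nat_lit 6736), Mv.f (nat_lit 9334), Mv.f (nat_lit 10606)]))))
(Tr.nd (nat_lit 10609) (Tr.lf (Fc.ed (nat_lit 10608) (nat_lit 2314) Col.d (nat_lit 4117) Dv.df))
(Tr.nd (nat_lit 10610) (Tr.lf (Fc.ed (nat_lit 10609) (nat_lit 2174) Col.gi (nat_lit 4118) Dv.df))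
(Tr.lf (Fc.ed (nat_lit 10610) (nat_lit 4118) Col.gi (nat_lit 2924) (Dv.wd (nat_lit 24) [Mv.b (nat_lit 7675), Mv.f (nat_lit 7077), Mv.f (nat_lit 10609)]))))))
(Tr.nd (nat_lit 10613) (Tr.nd (nat_lit 10612) (Tr.lf (Fc.ed (nat_lit 10611) (nat_lit 2327) Col.f (nat_lit 4119) Dv.df))
(Tr.lf (Fc.ed (nat_lit 10612) (nat_lit 4119) Col.a (nat_lit 1946) (Dv.wd (nat_lit 16) [Mv.b (nat_lit 7235), Mv.b (nat_lit 7234), Mv.f (nat_lit 10611)]))))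
(Tr.nd (nat_lit 10614) (Tr.lf (Fc.ed (nat_lit 10613) (nat_lit 2479) Col.e (nat_lit 4120) Dv.df))
(Tr.nd (nat_lit 10615) (Tr.lf (Fc.ed (nat_lit 10614) (nat_lit 2586) Col.d (nat_lit 4121) Dv.df))
(Tr.lf (Fc.ed (nat_lit 10615) (nat_lit 2834) Col.b (nat_lit 4122) Dv.df)))))))
(Tr.nd (nat_lit 10626) (Tr.nd (nat_lit 10621) (Tr.nd (nat_lit 10618) (Tr.nd (nat_lit 10617) (Tr.lf (Fc.ed (nat_lit 10616) (nat_lit 4122) Col.f (nat_lit 3838) (Dv.wd (nat_lit 20) [Mv.b (nat_lit 9496), Mv.f (nat_lit 7478), Mv.f (nat_lit 10615)])))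
(Tr.lf (Fc.ed (nat_lit 10617) (nat_lit 2789) Col.gi (nat_lit 4123) Dv.df)))
(Tr.nd (nat_lit 10619) (Tr.lf (Fc.ed (nat_lit 10618) (nat_lit 2194) Col.gi (nat_lit 4124) Dv.df))
(Tr.nd (nat_lit 10620) (Tr.lf (Fc.ed (nat_lit 10619) (nat_lit 4124) Col.gi (nat_lit 2762) (Dv.wd (nat_lit 24) [Mv.b (nat_lit 7318), Mv.f (nat_lit 6067), Mv.f (nat_lit 10618)])))
(Tr.lf (Fc.ed (nat_lit 10620) (nat_lit 3868) Col.a (nat_lit 4125) Dv.df)))))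
(Tr.nd (nat_lit 10623) (Tr.nd (nat_lit 10622) (Tr.lf (Fc.ed (nat_lit 10621) (nat_lit 2191) Col.gi (nat_lit 4126) Dv.df))
(Tr.lf (Fc.ed (nat_lit 10622) (nat_lit 4126) Col.gi (nat_lit 2445) (Dv.wd (nat_lit 24) [Mv.b (nat_lit 7817), Mv.f (nat_lit 7816), Mv.f (nat_lit 10621)]))))
(Tr.nd (nat_lit 10624) (Tr.lf (Fc.ed (nat_lit 10623) (nat_lit 1854) Col.d (nat_lit 4127) Dv.df))
(Tr.nd (nat_lit 10625) (Tr.lf (Fc.ed (nat_lit 10624) (nat_lit 4127) Col.a (nat_lit 3828) (Dv.wd (nat_lit 8) [Mv.f (nat_lit 10140), Mv.b (nat_lit 6205), Mv.f (nat_lit 10623)])))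
(Tr.lf (Fc.ed (nat_lit 10625) (nat_lit 4127) Col.f (nat_lit 3616) (Dv.wd (nat_lit 11) [Mv.f (nat_lit 10138), Mv.f (nat_lit 5284), Mv.f (nat_lit 10623)])))))))
(Tr.nd (nat_lit 10631) (Tr.nd (nat_lit 10628) (Tr.nd (nat_lit 10627) (Tr.lf (Fc.ed (nat_lit 10626) (nat_lit 3880) Col.f (nat_lit 4128) Dv.df))
(Tr.lf (Fc.ed (nat_lit 10627) (nat_lit 4128) Col.d (nat_lit 2196) (Dv.wd (nat_lit 21) [Mv.b (nat_lit 6072), Mv.b (nat_lit 9563), Mv.f (nat_lit 10626)]))))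
(Tr.nd (nat_lit 10629) (Tr.lf (Fc.ed (nat_lit 10628) (nat_lit 3653) Col.e (nat_lit 4129) Dv.df))
(Tr.nd (nat_lit 10630) (Tr.lf (Fc.ed (nat_lit 10629) (nat_lit 4129) Col.c (nat_lit 3981) (Dv.wd (nat_lit 18) [Mv.b (nat_lit 9775), Mv.f (nat_lit 10255), Mv.f (nat_lit 10628)])))
(Tr.lf (Fc.ed (nat_lit 10630) (nat_lit 2555) Col.d (nat_lit 4130) Dv.df)))))
(Tr.nd (nat_lit 10634) (Tr.nd (nat_lit 10632) (Tr.lf (Fc.ed (nat_lit 10631) (nat_lit 1824) Col.d (nat_lit 4131) Dv.df))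
(Tr.nd (nat_lit 10633) (Tr.lf (Fc.ed (nat_lit 10632) (nat_lit 2965) Col.d (nat_lit 4132) Dv.df))
(Tr.lf (Fc.ed (nat_lit 10633) (nat_lit 3242) Col.g (nat_lit 4133) Dv.df))))
(Tr.nd (nat_lit 10635) (Tr.lf (Fc.ed (nat_lit 10634) (nat_lit 4133) Col.g (nat_lit 1722) (Dv.wd (nat_lit 9) [Mv.f (nat_lit 9207), Mv.f (nat_lit 9208), Mv.f (nat_lit 10633)])))
(Tr.nd (nat_lit 10636) (Tr.lf (Fc.ed (nat_lit 10635) (nat_lit 3160) Col.a (nat_lit 4134) Dv.df))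
(Tr.lf (Fc.ed (nat_lit 10636) (nat_lit 4134) Col.f (nat_lit 2707) (Dv.wd (nat_lit 35) [Mv.b (nat_lit 8467), Mv.b (nat_lit 8466), Mv.f (nat_lit 10635)])))))))))
(Tr.nd (nat_lit 10657) (Tr.nd (nat_lit 10647) (Tr.nd (nat_lit 10642) (Tr.nd (nat_lit 10639) (Tr.nd (nat_lit 10638) (Tr.lf (Fc.ed (nat_lit 10637) (nat_lit 1848) Col.c (nat_lit 4135) Dv.df))
(Tr.lf (Fc.ed (nat_lit 10638) (nat_lit 1942) Col.g (nat_lit 4136) Dv.df)))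
(Tr.nd (nat_lit 10640) (Tr.lf (Fc.ed (nat_lit 10639) (nat_lit 4136) Col.g (nat_lit 3587) (Dv.wd (nat_lit 9) [Mv.f (nat_lit 9032), Mv.f (nat_lit 10266), Mv.f (nat_lit 10638)])))
(Tr.nd (nat_lit 10641) (Tr.lf (Fc.ed (nat_lit 10640) (nat_lit 4136) Col.c (nat_lit 3138) (Dv.wd (nat_lit 115) [Mv.b (nat_lit 8174), Mv.f (nat_lit 8464), Mv.b (nat_lit 9915), Mv.b (nat_lit 9914), Mv.b (nat_lit 7212), Mv.f (nat_lit 4629), Mv.f (nat_lit 4630), Mv.b (nat_lit 5310), Mv.b (nat_lit 10191), Mv.f (nat_lit 10638)])))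
(Tr.lf (Fc.ed (nat_lit 10641) (nat_lit 2936) Col.b (nat_lit 4003) (Dv.wd (nat_lit 106) [Mv.f (nat_lit 9811), Mv.f (nat_lit 9182), Mv.f (nat_lit 9486), Mv.f (nat_lit 9899), Mv.f (nat_lit 10247), Mv.f (nat_lit 5460), Mv.f (nat_lit 10638), Mv.f (nat_lit 10640), Mv.b (nat_lit 8136), Mv.b (nat_lit 8124)]))))))
(Tr.nd (nat_lit 10644) (Tr.nd (nat_lit 10643) (Tr.lf (Fc.ed (nat_lit 10642) (nat_lit 4003) Col.a (nat_lit 3958) (Dv.wd (nat_lit 98) [Mv.f (nat_lit 10502), Mv.b (nat_lit 10249), Mv.f (nat_lit 8494), Mv.f (nat_lit 8222), Mv.f (nat_lit 10641)])))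
(Tr.lf (Fc.ed (nat_lit 10643) (nat_lit 1937) Col.b (nat_lit 4136) (Dv.wd (nat_lit 104) [Mv.f (nat_lit 10640), Mv.b (nat_lit 8136), Mv.b (nat_lit 8124), Mv.f (nat_lit 10641), Mv.f (nat_lit 9811), Mv.f (nat_lit 10242), Mv.b (nat_lit 5550), Mv.f (nat_lit 5092), Mv.f (nat_lit 10021), Mv.f (nat_lit 5450)]))))
(Tr.nd (nat_lit 10645) (Tr.lf (Fc.ed (nat_lit 10644) (nat_lit 4136) Col.d (nat_lit 3821) (Dv.wd (nat_lit 58) [Mv.b (nat_lit 9467), Mv.f (nat_lit 10412), Mv.f (nat_lit 10643)])))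
(Tr.nd (nat_lit 10646) (Tr.lf (Fc.ed (nat_lit 10645) (nat_lit 3138) Col.gi (nat_lit 4135) (Dv.wd (nat_lit 88) [Mv.b (nat_lit 10637), Mv.f (nat_lit 7396), Mv.f (nat_lit 10244), Mv.b (nat_lit 9182), Mv.f (nat_lit 10242), Mv.f (nat_lit 5551), Mv.b (nat_lit 3013), Mv.f (nat_lit 7902), Mv.f (nat_lit 10643), Mv.f (nat_lit 10640)])))
(Tr.lf (Fc.ed (nat_lit 10646) (nat_lit 4135) Col.gi (nat_lit 3869) (Dv.wd (nat_lit 24) [Mv.b (nat_lit 10401), Mv.b (nat_lit 10397), Mv.f (nat_lit 10645)])))))))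
(Tr.nd (nat_lit 10652) (Tr.nd (nat_lit 10649) (Tr.nd (nat_lit 10648) (Tr.lf (Fc.ed (nat_lit 10647) (nat_lit 3958) Col.f (nat_lit 3702) (Dv.wd (nat_lit 10) [Mv.f (nat_lit 9248), Mv.f (nat_lit 9810), Mv.f (nat_lit 10642)])))
(Tr.lf (Fc.ed (nat_lit 10648) (nat_lit 3980) Col.f (nat_lit 3915) (Dv.wd (nat_lit 20) [Mv.b (nat_lit 10502), Mv.f (nat_lit 10647), Mv.f (nat_lit 10240)]))))
(Tr.nd (nat_lit 10650) (Tr.lf (Fc.ed (nat_lit 10649) (nat_lit 2795) Col.a (nat_lit 3980) (Dv.wd (nat_lit 79) [Mv.f (nat_lit 10648), Mv.b (nat_lit 10249), Mv.b (nat_lit 8493)])))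
(Tr.nd (nat_lit 10651) (Tr.lf (Fc.ed (nat_lit 10650) (nat_lit 4095) Col.f (nat_lit 3920) (Dv.wd (nat_lit 11) [Mv.f (nat_lit 10218), Mv.f (nat_lit 10648), Mv.b (nat_lit 10564)])))
(Tr.lf (Fc.ed (nat_lit 10651) (nat_lit 3962) Col.a (nat_lit 4095) (Dv.wd (nat_lit 79) [Mv.f (nat_lit 10650), Mv.f (nat_lit 9798), Mv.b (nat_lit 9770)]))))))
(Tr.nd (nat_lit 10654) (Tr.nd (nat_lit 10653) (Tr.lf (Fc.ed (nat_lit 10652) (nat_lit 2348) Col.f (nat_lit 3461) (Dv.wd (nat_lit 26) [Mv.f (nat_lit 10563), Mv.f (nat_lit 10650), Mv.b (nat_lit 9629)])))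
(Tr.lf (Fc.al (nat_lit 10653) (nat_lit 2460) (nat_lit 3996) (Dv.wd (nat_lit 79) [Mv.f (nat_lit 9797), Mv.f (nat_lit 10652), Mv.f (nat_lit 9845), Mv.f (nat_lit 9846)]))))
(Tr.nd (nat_lit 10655) (Tr.lf (Fc.ed (nat_lit 10654) (nat_lit 2460) Col.a (nat_lit 2348) (Dv.wd (nat_lit 29) [Mv.b (nat_lit 9797), Mv.b (nat_lit 10653)])))
(Tr.nd (nat_lit 10656) (Tr.lf (Fc.al (nat_lit 10655) (nat_lit 2827) (nat_lit 3978) (Dv.wd (nat_lit 103) [Mv.b (nat_lit 9796), Mv.b (nat_lit 10653), Mv.f (nat_lit 10318)])))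
(Tr.lf (Fc.al (nat_lit 10656) (nat_lit 4024) (nat_lit 3778) (Dv.wd (nat_lit 30) [Mv.f (nat_lit 9795), Mv.b (nat_lit 10653), Mv.b (nat_lit 9846)]))))))))
(Tr.nd (nat_lit 10667) (Tr.nd (nat_lit 10662) (Tr.nd (nat_lit 10659) (Tr.nd (nat_lit 10658) (Tr.lf (Fc.ed (nat_lit 10657) (nat_lit 2827) Col.a (nat_lit 3920) (Dv.wd (nat_lit 29) [Mv.f (nat_lit 9798), Mv.b (nat_lit 10655)])))
(Tr.lf (Fc.al (nat_lit 10658) (nat_lit 1806) (nat_lit 2151) (Dv.wd (nat_lit 119) [Mv.b (nat_lit 9771), Mv.b (nat_lit 10655), Mv.b (nat_lit 7464)]))))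
(Tr.nd (nat_lit 10660) (Tr.lf (Fc.ed (nat_lit 10659) (nat_lit 2827) Col.f (nat_lit 3962) (Dv.wd (nat_lit 30) [Mv.f (nat_lit 9770), Mv.b (nat_lit 10655)])))
(Tr.nd (nat_lit 10661) (Tr.lf (Fc.ed (nat_lit 10660) (nat_lit 3778) Col.a (nat_lit 3461) (Dv.wd (nat_lit 29) [Mv.f (nat_lit 9845), Mv.f (nat_lit 10656)])))
(Tr.lf (Fc.ed (nat_lit 10661) (nat_lit 1806) Col.a (nat_lit 2069) (Dv.wd (nat_lit 29) [Mv.b (nat_lit 5964), Mv.b (nat_lit 10658)]))))))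
(Tr.nd (nat_lit 10664) (Tr.nd (nat_lit 10663) (Tr.lf (Fc.al (nat_lit 10662) (nat_lit 2887) (nat_lit 1741) (Dv.wd (nat_lit 30) [Mv.f (nat_lit 5963), Mv.b (nat_lit 10658), Mv.b (nat_lit 7596)])))
(Tr.lf (Fc.ed (nat_lit 10663) (nat_lit 1741) Col.a (nat_lit 2101) (Dv.wd (nat_lit 29) [Mv.f (nat_lit 7595), Mv.f (nat_lit 10662)]))))
(Tr.nd (nat_lit 10665) (Tr.lf (Fc.ed (nat_lit 10664) (nat_lit 1741) Col.d (nat_lit 3182) (Dv.wd (nat_lit 120) [Mv.b (nat_lit 10304), Mv.f (nat_lit 10662)])))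
(Tr.nd (nat_lit 10666) (Tr.lf (Fc.ed (nat_lit 10665) (nat_lit 1741) Col.f (nat_lit 1806) (Dv.wd (nat_lit 30) [Mv.b (nat_lit 7596), Mv.f (nat_lit 10662)])))
(Tr.lf (Fc.ed (nat_lit 10666) (nat_lit 2069) Col.f (nat_lit 2101) (Dv.wd (nat_lit 35) [Mv.b (nat_lit 10663), Mv.f (nat_lit 10665), Mv.f (nat_lit 10661)])))))))
(Tr.nd (nat_lit 10672) (Tr.nd (nat_lit 10669) (Tr.nd (nat_lit 10668) (Tr.lf (Fc.al (nat_lit 10667) (nat_lit 3130) (nat_lit 2961) (Dv.wd (nat_lit 90) [Mv.f (nat_lit 10147), Mv.f (nat_lit 10666), Mv.b (nat_lit 10303), Mv.f (nat_lit 8121)])))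
(Tr.lf (Fc.al (nat_lit 10668) (nat_lit 1656) (nat_lit 3594) (Dv.wd (nat_lit 129) [Mv.f (nat_lit 9045), Mv.f (nat_lit 10667), Mv.f (nat_lit 7744)]))))
(Tr.nd (nat_lit 10670) (Tr.lf (Fc.ed (nat_lit 10669) (nat_lit 2961) Col.f (nat_lit 2936) (Dv.wd (nat_lit 30) [Mv.f (nat_lit 8121), Mv.f (nat_lit 10667)])))
(Tr.nd (nat_lit 10671) (Tr.lf (Fc.ed (nat_lit 10670) (nat_lit 1656) Col.gi (nat_lit 3182) (Dv.wd (nat_lit 128) [Mv.f (nat_lit 9044), Mv.b (nat_lit 10668)])))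
(Tr.lf (Fc.ed (nat_lit 10671) (nat_lit 3070) Col.d (nat_lit 3951) (Dv.wd (nat_lit 51) [Mv.b (nat_lit 9726), Mv.b (nat_lit 9232), Mv.f (nat_lit 7176), Mv.f (nat_lit 5038), Mv.f (nat_lit 10670), Mv.b (nat_lit 10664), Mv.f (nat_lit 5045), Mv.f (nat_lit 5806), Mv.f (nat_lit 7985)]))))))
(Tr.nd (nat_lit 10675) (Tr.nd (nat_lit 10673) (Tr.lf (Fc.ed (nat_lit 10672) (nat_lit 2711) Col.gi (nat_lit 2432) (Dv.wd (nat_lit 88) [Mv.f (nat_lit 6574), Mv.f (nat_lit 4787), Mv.b (nat_lit 5369), Mv.f (nat_lit 5460), Mv.f (nat_lit 10191), Mv.f (nat_lit 5310), Mv.f (nat_lit 4841), Mv.f (nat_lit 10670), Mv.b (nat_lit 8494), Mv.f (nat_lit 8495)])))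
(Tr.nd (nat_lit 10674) (Tr.lf (Fc.ed (nat_lit 10673) (nat_lit 3972) Col.e (nat_lit 3691) (Dv.wd (nat_lit 74) [Mv.b (nat_lit 9220), Mv.b (nat_lit 5039), Mv.f (nat_lit 5038), Mv.f (nat_lit 10670), Mv.b (nat_lit 10664), Mv.f (nat_lit 5045), Mv.f (nat_lit 3945), Mv.b (nat_lit 5346), Mv.b (nat_lit 9018), Mv.f (nat_lit 9761)])))
(Tr.lf (Fc.ed (nat_lit 10674) (nat_lit 1823) Col.d (nat_lit 3874) (Dv.wd (nat_lit 39) [Mv.b (nat_lit 9555), Mv.b (nat_lit 5669), Mv.b (nat_lit 6903), Mv.f (nat_lit 7704), Mv.f (nat_lit 9017), Mv.f (nat_lit 9761), Mv.f (nat_lit 10673), Mv.f (nat_lit 9221), Mv.f (nat_lit 5866), Mv.f (nat_lit 5869)])))))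
(Tr.nd (nat_lit 10676) (Tr.lf (Fc.ed (nat_lit 10675) (nat_lit 2012) Col.d (nat_lit 1882) (Dv.wd (nat_lit 43) [Mv.b (nat_lit 5341), Mv.f (nat_lit 5039), Mv.b (nat_lit 4890), Mv.f (nat_lit 5216), Mv.f (nat_lit 10674), Mv.b (nat_lit 9555), Mv.f (nat_lit 5868), Mv.b (nat_lit 2993), Mv.b (nat_lit 2378), Mv.b (nat_lit 5605)])))
(Tr.nd (nat_lit 10677) (Tr.lf (Fc.ed (nat_lit 10676) (nat_lit 3542) Col.d (nat_lit 2630) (Dv.wd (nat_lit 48) [Mv.f (nat_lit 7026), Mv.b (nat_lit 4519), Mv.f (nat_lit 5604), Mv.f (nat_lit 10675), Mv.f (nat_lit 5342), Mv.b (nat_lit 2949), Mv.f (nat_lit 2415), Mv.f (nat_lit 4110), Mv.f (nat_lit 8944)])))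
(Tr.lf (Fc.ed (nat_lit 10677) (nat_lit 1056) Col.gi (nat_lit 2711) (Dv.wd (nat_lit 12) [Mv.f (nat_lit 10672), Mv.b (nat_lit 6572), Mv.f (nat_lit 5743)])))))))))))
(Tr.nd (nat_lit 10760) (Tr.nd (nat_lit 10719) (Tr.nd (nat_lit 10698) (Tr.nd (nat_lit 10688) (Tr.nd (nat_lit 10683) (Tr.nd (nat_lit 10680) (Tr.nd (nat_lit 10679) (Tr.lf (Fc.ed (nat_lit 10678) (nat_lit 3962) Col.d (nat_lit 3320) (Dv.wd (nat_lit 62) [Mv.f (nat_lit 8495), Mv.f (nat_lit 10672), Mv.f (nat_lit 6574), Mv.b (nat_lit 5369), Mv.f (nat_lit 10187), Mv.f (nat_lit 5609), Mv.f (nat_lit 6268), Mv.b (nat_lit 9389), Mv.f (nat_lit 9742)])))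
(Tr.lf (Fc.ed (nat_lit 10679) (nat_lit 2094) Col.a (nat_lit 2778) (Dv.wd (nat_lit 23) [Mv.f (nat_lit 7354), Mv.f (nat_lit 10677), Mv.f (nat_lit 7211)]))))
(Tr.nd (nat_lit 10681) (Tr.lf (Fc.ed (nat_lit 10680) (nat_lit 3951) Col.a (nat_lit 3950) (Dv.wd (nat_lit 8) [Mv.b (nat_lit 10305), Mv.f (nat_lit 10313), Mv.f (nat_lit 10671)])))
(Tr.nd (nat_lit 10682) (Tr.lf (Fc.ed (nat_lit 10681) (nat_lit 3132) Col.f (nat_lit 3348) (Dv.wd (nat_lit 26) [Mv.b (nat_lit 8555), Mv.f (nat_lit 10669), Mv.f (nat_lit 8124)])))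
(Tr.lf (Fc.ed (nat_lit 10682) (nat_lit 3319) Col.f (nat_lit 3077) (Dv.wd (nat_lit 20) [Mv.b (nat_lit 8125), Mv.f (nat_lit 10681), Mv.f (nat_lit 8556)]))))))
(Tr.nd (nat_lit 10685) (Tr.nd (nat_lit 10684) (Tr.lf (Fc.ed (nat_lit 10683) (nat_lit 3348) Col.a (nat_lit 4135) (Dv.wd (nat_lit 23) [Mv.f (nat_lit 10646), Mv.b (nat_lit 10402), Mv.f (nat_lit 10681)])))
(Tr.lf (Fc.ed (nat_lit 10684) (nat_lit 3077) Col.a (nat_lit 3014) (Dv.wd (nat_lit 23) [Mv.b (nat_lit 7858), Mv.f (nat_lit 8492), Mv.f (nat_lit 10682)]))))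
(Tr.nd (nat_lit 10686) (Tr.lf (Fc.ed (nat_lit 10685) (nat_lit 2923) Col.a (nat_lit 3319) (Dv.wd (nat_lit 114) [Mv.f (nat_lit 10682), Mv.b (nat_lit 8000), Mv.f (nat_lit 7673)])))
(Tr.nd (nat_lit 10687) (Tr.lf (Fc.ed (nat_lit 10686) (nat_lit 2923) Col.f (nat_lit 3014) (Dv.wd (nat_lit 35) [Mv.b (nat_lit 10684), Mv.b (nat_lit 10682), Mv.b (nat_lit 10685)])))
(Tr.lf (Fc.ed (nat_lit 10687) (nat_lit 3251) Col.f (nat_lit 4102) (Dv.wd (nat_lit 20) [Mv.f (nat_lit 10583), Mv.f (nat_lit 10686), Mv.f (nat_lit 8357)])))))))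
(Tr.nd (nat_lit 10693) (Tr.nd (nat_lit 10690) (Tr.nd (nat_lit 10689) (Tr.lf (Fc.ed (nat_lit 10688) (nat_lit 3038) Col.f (nat_lit 3151) (Dv.wd (nat_lit 26) [Mv.f (nat_lit 8159), Mv.f (nat_lit 10686), Mv.b (nat_lit 7906)])))
(Tr.lf (Fc.ed (nat_lit 10689) (nat_lit 2875) Col.f (nat_lit 2712) (Dv.wd (nat_lit 20) [Mv.f (nat_lit 7905), Mv.f (nat_lit 10688), Mv.b (nat_lit 8158)]))))
(Tr.nd (nat_lit 10691) (Tr.lf (Fc.al (nat_lit 10690) (nat_lit 3572) (nat_lit 2893) (Dv.wd (nat_lit 114) [Mv.f (nat_lit 7610), Mv.f (nat_lit 10689), Mv.b (nat_lit 7212), Mv.b (nat_lit 9005)])))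
(Tr.nd (nat_lit 10692) (Tr.lf (Fc.ed (nat_lit 10691) (nat_lit 2893) Col.c (nat_lit 3592) (Dv.wd (nat_lit 103) [Mv.b (nat_lit 9039), Mv.f (nat_lit 10690)])))
(Tr.lf (Fc.ed (nat_lit 10692) (nat_lit 3592) Col.a (nat_lit 3453) (Dv.wd (nat_lit 19) [Mv.f (nat_lit 8768), Mv.b (nat_lit 7610), Mv.f (nat_lit 10691)]))))))
(Tr.nd (nat_lit 10695) (Tr.nd (nat_lit 10694) (Tr.lf (Fc.ed (nat_lit 10693) (nat_lit 3447) Col.a (nat_lit 3866) (Dv.wd (nat_lit 155) [Mv.f (nat_lit 10246), Mv.f (nat_lit 10679), Mv.b (nat_lit 9040), Mv.f (nat_lit 10692), Mv.b (nat_lit 8767)])))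
(Tr.lf (Fc.ed (nat_lit 10694) (nat_lit 4095) Col.g (nat_lit 3231) (Dv.wd (nat_lit 17) [Mv.b (nat_lit 10320), Mv.f (nat_lit 10657), Mv.b (nat_lit 10650)]))))
(Tr.nd (nat_lit 10696) (Tr.lf (Fc.ed (nat_lit 10695) (nat_lit 4033) Col.g (nat_lit 4095) (Dv.wd (nat_lit 17) [Mv.f (nat_lit 10694), Mv.f (nat_lit 9758), Mv.b (nat_lit 10542)])))
(Tr.nd (nat_lit 10697) (Tr.lf (Fc.ed (nat_lit 10696) (nat_lit 2827) Col.g (nat_lit 4033) (Dv.wd (nat_lit 17) [Mv.f (nat_lit 10695), Mv.b (nat_lit 10651), Mv.b (nat_lit 10659)])))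
(Tr.lf (Fc.ed (nat_lit 10697) (nat_lit 3819) Col.gi (nat_lit 3320) (Dv.wd (nat_lit 24) [Mv.b (nat_lit 8493), Mv.f (nat_lit 10649), Mv.b (nat_lit 10239)]))))))))
(Tr.nd (nat_lit 10708) (Tr.nd (nat_lit 10703) (Tr.nd (nat_lit 10700) (Tr.nd (nat_lit 10699) (Tr.lf (Fc.ed (nat_lit 10698) (nat_lit 3762) Col.d (nat_lit 2681) (Dv.wd (nat_lit 85) [Mv.f (nat_lit 9076), Mv.f (nat_lit 10450), Mv.b (nat_lit 9549), Mv.b (nat_lit 10449), Mv.f (nat_lit 10697), Mv.f (nat_lit 8495), Mv.b (nat_lit 10677), Mv.f (nat_lit 5311), Mv.f (nat_lit 9358)])))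
(Tr.lf (Fc.ed (nat_lit 10699) (nat_lit 2442) Col.a (nat_lit 4137) Dv.df)))
(Tr.nd (nat_lit 10701) (Tr.lf (Fc.ed (nat_lit 10700) (nat_lit 2314) Col.f (nat_lit 4138) Dv.df))
(Tr.nd (nat_lit 10702) (Tr.lf (Fc.ed (nat_lit 10701) (nat_lit 4138) Col.a (nat_lit 3892) (Dv.wd (nat_lit 23) [Mv.f (nat_lit 9582), Mv.b (nat_lit 6674), Mv.f (nat_lit 10700)])))
(Tr.lf (Fc.ed (nat_lit 10702) (nat_lit 2870) Col.a (nat_lit 4139) Dv.df)))))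
(Tr.nd (nat_lit 10705) (Tr.nd (nat_lit 10704) (Tr.lf (Fc.ed (nat_lit 10703) (nat_lit 4139) Col.d (nat_lit 4069) (Dv.wd (nat_lit 28) [Mv.b (nat_lit 9929), Mv.b (nat_lit 7558), Mv.f (nat_lit 10702)])))
(Tr.lf (Fc.ed (nat_lit 10704) (nat_lit 3866) Col.c (nat_lit 4140) Dv.df)))
(Tr.nd (nat_lit 10706) (Tr.lf (Fc.ed (nat_lit 10705) (nat_lit 4140) Col.a (nat_lit 4102) (Dv.wd (nat_lit 19) [Mv.b (nat_lit 10582), Mv.f (nat_lit 10693), Mv.f (nat_lit 10704)])))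
(Tr.nd (nat_lit 10707) (Tr.lf (Fc.ed (nat_lit 10706) (nat_lit 4140) Col.b (nat_lit 4135) (Dv.wd (nat_lit 87) [Mv.b (nat_lit 10637), Mv.f (nat_lit 7396), Mv.f (nat_lit 7397), Mv.b (nat_lit 10246), Mv.f (nat_lit 10704)])))
(Tr.lf (Fc.ed (nat_lit 10707) (nat_lit 3292) Col.gi (nat_lit 4140) (Dv.wd (nat_lit 157) [Mv.f (nat_lit 10706), Mv.b (nat_lit 10637), Mv.b (nat_lit 5267), Mv.f (nat_lit 2166), Mv.b (nat_lit 1972), Mv.f (nat_lit 1349), Mv.b (nat_lit 3709), Mv.b (nat_lit 3861), Mv.b (nat_lit 8307), Mv.f (nat_lit 8437)])))))))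
(Tr.nd (nat_lit 10713) (Tr.nd (nat_lit 10710) (Tr.nd (nat_lit 10709) (Tr.lf (Fc.ed (nat_lit 10708) (nat_lit 3663) Col.g (nat_lit 4141) Dv.df))
(Tr.lf (Fc.ed (nat_lit 10709) (nat_lit 4141) Col.g (nat_lit 2200) (Dv.wd (nat_lit 9) [Mv.f (nat_lit 7079), Mv.f (nat_lit 9165), Mv.f (nat_lit 10708)]))))
(Tr.nd (nat_lit 10711) (Tr.lf (Fc.ed (nat_lit 10710) (nat_lit 4013) Col.d (nat_lit 4142) Dv.df))
(Tr.nd (nat_lit 10712) (Tr.lf (Fc.ed (nat_lit 10711) (nat_lit 3712) Col.e (nat_lit 4143) Dv.df))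
(Tr.lf (Fc.ed (nat_lit 10712) (nat_lit 4143) Col.d (nat_lit 2958) (Dv.wd (nat_lit 91) [Mv.b (nat_lit 7739), Mv.f (nat_lit 5010), Mv.b (nat_lit 4808), Mv.f (nat_lit 4322), Mv.b (nat_lit 4319), Mv.b (nat_lit 2069), Mv.f (nat_lit 3280), Mv.f (nat_lit 5670), Mv.b (nat_lit 9267), Mv.f (nat_lit 10711)]))))))
(Tr.nd (nat_lit 10716) (Tr.nd (nat_lit 10714) (Tr.lf (Fc.ed (nat_lit 10713) (nat_lit 2287) Col.g (nat_lit 4144) Dv.df))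
(Tr.nd (nat_lit 10715) (Tr.lf (Fc.ed (nat_lit 10714) (nat_lit 4144) Col.g (nat_lit 2525) (Dv.wd (nat_lit 9) [Mv.b (nat_lit 7755), Mv.f (nat_lit 7757), Mv.f (nat_lit 10713)])))
(Tr.lf (Fc.ed (nat_lit 10715) (nat_lit 2233) Col.gi (nat_lit 4145) Dv.df))))
(Tr.nd (nat_lit 10717) (Tr.lf (Fc.ed (nat_lit 10716) (nat_lit 4145) Col.gi (nat_lit 2479) (Dv.wd (nat_lit 24) [Mv.b (nat_lit 6890), Mv.b (nat_lit 6889), Mv.f (nat_lit 10715)])))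
(Tr.nd (nat_lit 10718) (Tr.lf (Fc.ed (nat_lit 10717) (nat_lit 3407) Col.gi (nat_lit 4146) Dv.df))
(Tr.lf (Fc.ed (nat_lit 10718) (nat_lit 2713) Col.a (nat_lit 4147) Dv.df))))))))
(Tr.nd (nat_lit 10739) (Tr.nd (nat_lit 10729) (Tr.nd (nat_lit 10724) (Tr.nd (nat_lit 10721) (Tr.nd (nat_lit 10720) (Tr.lf (Fc.ed (nat_lit 10719) (nat_lit 4147) Col.f (nat_lit 2862) (Dv.wd (nat_lit 35) [Mv.b (nat_lit 7958), Mv.b (nat_lit 7957), Mv.f (nat_lit 10718)])))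
(Tr.lf (Fc.ed (nat_lit 10720) (nat_lit 1630) Col.gi (nat_lit 4148) Dv.df)))
(Tr.nd (nat_lit 10722) (Tr.lf (Fc.ed (nat_lit 10721) (nat_lit 4148) Col.gi (nat_lit 3649) (Dv.wd (nat_lit 24) [Mv.b (nat_lit 9141), Mv.b (nat_lit 7334), Mv.f (nat_lit 10720)])))
(Tr.nd (nat_lit 10723) (Tr.lf (Fc.ed (nat_lit 10722) (nat_lit 3266) Col.g (nat_lit 4149) Dv.df))
(Tr.lf (Fc.ed (nat_lit 10723) (nat_lit 4149) Col.g (nat_lit 1751) (Dv.wd (nat_lit 9) [Mv.b (nat_lit 9157), Mv.b (nat_lit 9156), Mv.f (nat_lit 10722)]))))))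
(Tr.nd (nat_lit 10726) (Tr.nd (nat_lit 10725) (Tr.lf (Fc.ed (nat_lit 10724) (nat_lit 3003) Col.gi (nat_lit 4150) Dv.df))
(Tr.lf (Fc.ed (nat_lit 10725) (nat_lit 4150) Col.gi (nat_lit 1621) (Dv.wd (nat_lit 24) [Mv.b (nat_lit 7302), Mv.f (nat_lit 7835), Mv.f (nat_lit 10724)]))))
(Tr.nd (nat_lit 10727) (Tr.lf (Fc.ed (nat_lit 10726) (nat_lit 2081) Col.g (nat_lit 4151) Dv.df))
(Tr.nd (nat_lit 10728) (Tr.lf (Fc.ed (nat_lit 10727) (nat_lit 4151) Col.g (nat_lit 3584) (Dv.wd (nat_lit 9) [Mv.b (nat_lit 9025), Mv.f (nat_lit 5746), Mv.f (nat_lit 10726)])))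
(Tr.lf (Fc.ed (nat_lit 10728) (nat_lit 1882) Col.b (nat_lit 4152) Dv.df))))))
(Tr.nd (nat_lit 10734) (Tr.nd (nat_lit 10731) (Tr.nd (nat_lit 10730) (Tr.lf (Fc.ed (nat_lit 10729) (nat_lit 4152) Col.d (nat_lit 3599) (Dv.wd (nat_lit 58) [Mv.b (nat_lit 9053), Mv.f (nat_lit 10675), Mv.f (nat_lit 10728)])))
(Tr.lf (Fc.ed (nat_lit 10730) (nat_lit 4120) Col.d (nat_lit 4153) Dv.df)))
(Tr.nd (nat_lit 10732) (Tr.lf (Fc.ed (nat_lit 10731) (nat_lit 2763) Col.c (nat_lit 4154) Dv.df))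
(Tr.nd (nat_lit 10733) (Tr.lf (Fc.ed (nat_lit 10732) (nat_lit 4154) Col.g (nat_lit 3834) (Dv.wd (nat_lit 77) [Mv.f (nat_lit 9490), Mv.b (nat_lit 9312), Mv.f (nat_lit 9311), Mv.b (nat_lit 8877), Mv.b (nat_lit 8785), Mv.f (nat_lit 8594), Mv.f (nat_lit 9925), Mv.f (nat_lit 9927), Mv.f (nat_lit 10731)])))
(Tr.lf (Fc.ed (nat_lit 10733) (nat_lit 3492) Col.g (nat_lit 4154) (Dv.wd (nat_lit 17) [Mv.f (nat_lit 10732), Mv.b (nat_lit 9491), Mv.f (nat_lit 8844)]))))))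
(Tr.nd (nat_lit 10736) (Tr.nd (nat_lit 10735) (Tr.lf (Fc.al (nat_lit 10734) (nat_lit 2749) (nat_lit 2611) (Dv.wd (nat_lit 118) [Mv.b (nat_lit 8819), Mv.b (nat_lit 7988), Mv.b (nat_lit 7987), Mv.b (nat_lit 6546), Mv.b (nat_lit 6110), Mv.f (nat_lit 4071), Mv.f (nat_lit 5526), Mv.b (nat_lit 8845), Mv.f (nat_lit 10733), Mv.b (nat_lit 10731), Mv.f (nat_lit 7322)])))
(Tr.lf (Fc.al (nat_lit 10735) (nat_lit 2732) (nat_lit 2561) (Dv.wd (nat_lit 129) [Mv.b (nat_lit 7293), Mv.f (nat_lit 10734), Mv.b (nat_lit 7254)]))))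
(Tr.nd (nat_lit 10737) (Tr.lf (Fc.al (nat_lit 10736) (nat_lit 1197) (nat_lit 1380) (Dv.wd (nat_lit 29) [Mv.f (nat_lit 7292), Mv.f (nat_lit 10734), Mv.b (nat_lit 6990)])))
(Tr.nd (nat_lit 10738) (Tr.lf (Fc.al (nat_lit 10737) (nat_lit 1412) (nat_lit 1428) (Dv.wd (nat_lit 129) [Mv.f (nat_lit 7253), Mv.f (nat_lit 10735), Mv.b (nat_lit 6878)])))
(Tr.lf (Fc.al (nat_lit 10738) (nat_lit 563) (nat_lit 435) (Dv.wd (nat_lit 119) [Mv.f (nat_lit 4195), Mv.b (nat_lit 10736), Mv.b (nat_lit 3686)]))))))))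
(Tr.nd (nat_lit 10749) (Tr.nd (nat_lit 10744) (Tr.nd (nat_lit 10741) (Tr.nd (nat_lit 10740) (Tr.lf (Fc.al (nat_lit 10739) (nat_lit 751) (nat_lit 414) (Dv.wd (nat_lit 119) [Mv.b (nat_lit 4317), Mv.b (nat_lit 10737), Mv.b (nat_lit 4273)])))
(Tr.lf (Fc.al (nat_lit 10740) (nat_lit 1935) (nat_lit 913) (Dv.wd (nat_lit 103) [Mv.b (nat_lit 2896), Mv.f (nat_lit 10738), Mv.f (nat_lit 5445)]))))
(Tr.nd (nat_lit 10742) (Tr.lf (Fc.al (nat_lit 10741) (nat_lit 1076) (nat_lit 901) (Dv.wd (nat_lit 120) [Mv.b (nat_lit 2874), Mv.f (nat_lit 10738), Mv.b (nat_lit 3326)])))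
(Tr.nd (nat_lit 10743) (Tr.lf (Fc.al (nat_lit 10742) (nat_lit 748) (nat_lit 372) (Dv.wd (nat_lit 29) [Mv.f (nat_lit 2173), Mv.f (nat_lit 10739), Mv.b (nat_lit 2168)])))
(Tr.lf (Fc.al (nat_lit 10743) (nat_lit 1152) (nat_lit 1825) (Dv.wd (nat_lit 103) [Mv.b (nat_lit 5219), Mv.f (nat_lit 10739), Mv.b (nat_lit 3550)]))))))
(Tr.nd (nat_lit 10746) (Tr.nd (nat_lit 10745) (Tr.lf (Fc.ed (nat_lit 10744) (nat_lit 414) Col.d (nat_lit 845) (Dv.wd (nat_lit 120) [Mv.b (nat_lit 2414), Mv.f (nat_lit 10739)])))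
(Tr.lf (Fc.ed (nat_lit 10745) (nat_lit 913) Col.c (nat_lit 435) (Dv.wd (nat_lit 103) [Mv.f (nat_lit 5445), Mv.f (nat_lit 10740)]))))
(Tr.nd (nat_lit 10747) (Tr.lf (Fc.al (nat_lit 10746) (nat_lit 2373) (nat_lit 1817) (Dv.wd (nat_lit 128) [Mv.b (nat_lit 5202), Mv.f (nat_lit 10741), Mv.f (nat_lit 6459)])))
(Tr.nd (nat_lit 10748) (Tr.lf (Fc.ed (nat_lit 10747) (nat_lit 901) Col.d (nat_lit 435) (Dv.wd (nat_lit 120) [Mv.b (nat_lit 3326), Mv.f (nat_lit 10741)])))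
(Tr.lf (Fc.al (nat_lit 10748) (nat_lit 1784) (nat_lit 1232) (Dv.wd (nat_lit 103) [Mv.b (nat_lit 3797), Mv.f (nat_lit 10742), Mv.f (nat_lit 5139)])))))))
(Tr.nd (nat_lit 10754) (Tr.nd (nat_lit 10751) (Tr.nd (nat_lit 10750) (Tr.lf (Fc.ed (nat_lit 10749) (nat_lit 372) Col.f (nat_lit 407) (Dv.wd (nat_lit 30) [Mv.f (nat_lit 2167), Mv.f (nat_lit 10742)])))
(Tr.lf (Fc.al (nat_lit 10750) (nat_lit 1872) (nat_lit 3001) (Dv.wd (nat_lit 128) [Mv.b (nat_lit 7831), Mv.b (nat_lit 10743), Mv.b (nat_lit 5318)]))))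
(Tr.nd (nat_lit 10752) (Tr.lf (Fc.ed (nat_lit 10751) (nat_lit 1817) Col.gi (nat_lit 901) (Dv.wd (nat_lit 128) [Mv.f (nat_lit 6459), Mv.f (nat_lit 10746)])))
(Tr.nd (nat_lit 10753) (Tr.lf (Fc.ed (nat_lit 10752) (nat_lit 1232) Col.c (nat_lit 372) (Dv.wd (nat_lit 103) [Mv.f (nat_lit 5139), Mv.f (nat_lit 10748)])))
(Tr.lf (Fc.al (nat_lit 10753) (nat_lit 3774) (nat_lit 3030) (Dv.wd (nat_lit 30) [Mv.f (nat_lit 7888), Mv.b (nat_lit 10750), Mv.f (nat_lit 9382)]))))))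
(Tr.nd (nat_lit 10757) (Tr.nd (nat_lit 10755) (Tr.lf (Fc.ed (nat_lit 10754) (nat_lit 3030) Col.a (nat_lit 2343) (Dv.wd (nat_lit 29) [Mv.b (nat_lit 9383), Mv.f (nat_lit 10753)])))
(Tr.nd (nat_lit 10756) (Tr.lf (Fc.ed (nat_lit 10755) (nat_lit 3030) Col.f (nat_lit 1872) (Dv.wd (nat_lit 30) [Mv.f (nat_lit 9382), Mv.f (nat_lit 10753)])))
(Tr.lf (Fc.ed (nat_lit 10756) (nat_lit 2224) Col.gi (nat_lit 4155) Dv.df))))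
(Tr.nd (nat_lit 10758) (Tr.lf (Fc.ed (nat_lit 10757) (nat_lit 4155) Col.gi (nat_lit 2427) (Dv.wd (nat_lit 24) [Mv.f (nat_lit 6563), Mv.f (nat_lit 6122), Mv.f (nat_lit 10756)])))
(Tr.nd (nat_lit 10759) (Tr.lf (Fc.ed (nat_lit 10758) (nat_lit 3584) Col.b (nat_lit 4156) Dv.df))
(Tr.lf (Fc.ed (nat_lit 10759) (nat_lit 4156) Col.d (nat_lit 2590) (Dv.wd (nat_lit 58) [Mv.b (nat_lit 7010), Mv.b (nat_lit 9026), Mv.f (nat_lit 10758)]))))))))))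
(Tr.nd (nat_lit 10801) (Tr.nd (nat_lit 10780) (Tr.nd (nat_lit 10770) (Tr.nd (nat_lit 10765) (Tr.nd (nat_lit 10762) (Tr.nd (nat_lit 10761) (Tr.lf (Fc.ed (nat_lit 10760) (nat_lit 4156) Col.f (nat_lit 3731) (Dv.wd (nat_lit 20) [Mv.f (nat_lit 9308), Mv.f (nat_lit 9289), Mv.f (nat_lit 10758)])))
(Tr.lf (Fc.ed (nat_lit 10761) (nat_lit 4156) Col.a (nat_lit 2866) (Dv.wd (nat_lit 98) [Mv.f (nat_lit 7548), Mv.b (nat_lit 3172), Mv.b (nat_lit 5598), Mv.f (nat_lit 9025), Mv.f (nat_lit 10758)]))))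
(Tr.nd (nat_lit 10763) (Tr.lf (Fc.ed (nat_lit 10762) (nat_lit 2391) Col.g (nat_lit 4157) Dv.df))
(Tr.nd (nat_lit 10764) (Tr.lf (Fc.ed (nat_lit 10763) (nat_lit 4157) Col.g (nat_lit 2438) (Dv.wd (nat_lit 9) [Mv.f (nat_lit 6723), Mv.f (nat_lit 6724), Mv.f (nat_lit 10762)])))
(Tr.lf (Fc.ed (nat_lit 10764) (nat_lit 1557) Col.e (nat_lit 4158) Dv.df)))))
(Tr.nd (nat_lit 10767) (Tr.nd (nat_lit 10766) (Tr.lf (Fc.ed (nat_lit 10765) (nat_lit 2341) Col.c (nat_lit 4159) Dv.df))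
(Tr.lf (Fc.ed (nat_lit 10766) (nat_lit 2582) Col.d (nat_lit 4160) Dv.df)))
(Tr.nd (nat_lit 10768) (Tr.lf (Fc.ed (nat_lit 10767) (nat_lit 4160) Col.b (nat_lit 2251) (Dv.wd (nat_lit 37) [Mv.b (nat_lit 10302), Mv.b (nat_lit 6931), Mv.f (nat_lit 10766)])))
(Tr.nd (nat_lit 10769) (Tr.lf (Fc.ed (nat_lit 10768) (nat_lit 3679) Col.g (nat_lit 4161) Dv.df))
(Tr.lf (Fc.ed (nat_lit 10769) (nat_lit 2199) Col.gi (nat_lit 4162) Dv.df))))))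
(Tr.nd (nat_lit 10775) (Tr.nd (nat_lit 10772) (Tr.nd (nat_lit 10771) (Tr.lf (Fc.ed (nat_lit 10770) (nat_lit 4162) Col.gi (nat_lit 2318) (Dv.wd (nat_lit 24) [Mv.b (nat_lit 7173), Mv.b (nat_lit 7171), Mv.f (nat_lit 10769)])))
(Tr.lf (Fc.ed (nat_lit 10771) (nat_lit 2859) Col.e (nat_lit 4163) Dv.df)))
(Tr.nd (nat_lit 10773) (Tr.lf (Fc.ed (nat_lit 10772) (nat_lit 4163) Col.a (nat_lit 3874) (Dv.wd (nat_lit 15) [Mv.b (nat_lit 9555), Mv.b (nat_lit 7535), Mv.f (nat_lit 10771)])))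
(Tr.nd (nat_lit 10774) (Tr.lf (Fc.ed (nat_lit 10773) (nat_lit 3482) Col.d (nat_lit 4163) (Dv.wd (nat_lit 97) [Mv.f (nat_lit 10772), Mv.b (nat_lit 10674), Mv.b (nat_lit 8826)])))
(Tr.lf (Fc.ed (nat_lit 10774) (nat_lit 3750) Col.c (nat_lit 4164) Dv.df)))))
(Tr.nd (nat_lit 10777) (Tr.nd (nat_lit 10776) (Tr.lf (Fc.ed (nat_lit 10775) (nat_lit 4164) Col.b (nat_lit 4060) (Dv.wd (nat_lit 101) [Mv.f (nat_lit 9904), Mv.b (nat_lit 5520), Mv.f (nat_lit 3132), Mv.f (nat_lit 2333), Mv.f (nat_lit 3700), Mv.b (nat_lit 3698), Mv.b (nat_lit 5887), Mv.b (nat_lit 5886), Mv.f (nat_lit 9339), Mv.f (nat_lit 10774)])))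
(Tr.lf (Fc.ed (nat_lit 10776) (nat_lit 2938) Col.b (nat_lit 4165) Dv.df)))
(Tr.nd (nat_lit 10778) (Tr.lf (Fc.ed (nat_lit 10777) (nat_lit 4165) Col.e (nat_lit 4122) (Dv.wd (nat_lit 52) [Mv.b (nat_lit 10615), Mv.f (nat_lit 7698), Mv.f (nat_lit 10776)])))
(Tr.nd (nat_lit 10779) (Tr.lf (Fc.ed (nat_lit 10778) (nat_lit 4165) Col.f (nat_lit 3525) (Dv.wd (nat_lit 20) [Mv.f (nat_lit 8912), Mv.b (nat_lit 7700), Mv.f (nat_lit 10776)])))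
(Tr.lf (Fc.ed (nat_lit 10779) (nat_lit 1855) Col.gi (nat_lit 4166) Dv.df)))))))
(Tr.nd (nat_lit 10790) (Tr.nd (nat_lit 10785) (Tr.nd (nat_lit 10782) (Tr.nd (nat_lit 10781) (Tr.lf (Fc.ed (nat_lit 10780) (nat_lit 4166) Col.gi (nat_lit 3643) (Dv.wd (nat_lit 24) [Mv.b (nat_lit 9131), Mv.f (nat_lit 9055), Mv.f (nat_lit 10779)])))
(Tr.lf (Fc.ed (nat_lit 10781) (nat_lit 2543) Col.f (nat_lit 4167) Dv.df)))
(Tr.nd (nat_lit 10783) (Tr.lf (Fc.ed (nat_lit 10782) (nat_lit 4167) Col.c (nat_lit 2535) (Dv.wd (nat_lit 34) [Mv.f (nat_lit 6821), Mv.b (nat_lit 6845), Mv.f (nat_lit 10781)])))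
(Tr.nd (nat_lit 10784) (Tr.lf (Fc.ed (nat_lit 10783) (nat_lit 2655) Col.gi (nat_lit 4168) Dv.df))
(Tr.lf (Fc.ed (nat_lit 10784) (nat_lit 2818) Col.d (nat_lit 4169) Dv.df)))))
(Tr.nd (nat_lit 10787) (Tr.nd (nat_lit 10786) (Tr.lf (Fc.ed (nat_lit 10785) (nat_lit 4085) Col.f (nat_lit 4170) Dv.df))
(Tr.lf (Fc.ed (nat_lit 10786) (nat_lit 2517) Col.g (nat_lit 4171) Dv.df)))
(Tr.nd (nat_lit 10788) (Tr.lf (Fc.ed (nat_lit 10787) (nat_lit 4171) Col.g (nat_lit 3827) (Dv.wd (nat_lit 9) [Mv.f (nat_lit 9479), Mv.b (nat_lit 6778), Mv.f (nat_lit 10786)])))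
(Tr.nd (nat_lit 10789) (Tr.lf (Fc.ed (nat_lit 10788) (nat_lit 4089) Col.gi (nat_lit 4172) Dv.df))
(Tr.lf (Fc.ed (nat_lit 10789) (nat_lit 2290) Col.d (nat_lit 4173) Dv.df))))))
(Tr.nd (nat_lit 10795) (Tr.nd (nat_lit 10792) (Tr.nd (nat_lit 10791) (Tr.lf (Fc.ed (nat_lit 10790) (nat_lit 3746) Col.d (nat_lit 4174) Dv.df))
(Tr.lf (Fc.ed (nat_lit 10791) (nat_lit 4174) Col.a (nat_lit 3807) (Dv.wd (nat_lit 8) [Mv.f (nat_lit 9441), Mv.f (nat_lit 9334), Mv.f (nat_lit 10790)]))))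
(Tr.nd (nat_lit 10793) (Tr.lf (Fc.ed (nat_lit 10792) (nat_lit 3078) Col.gi (nat_lit 4175) Dv.df))
(Tr.nd (nat_lit 10794) (Tr.lf (Fc.ed (nat_lit 10793) (nat_lit 4175) Col.gi (nat_lit 1805) (Dv.wd (nat_lit 24) [Mv.b (nat_lit 7700), Mv.b (nat_lit 8002), Mv.f (nat_lit 10792)])))
(Tr.lf (Fc.ed (nat_lit 10794) (nat_lit 4162) Col.c (nat_lit 4176) Dv.df)))))
(Tr.nd (nat_lit 10798) (Tr.nd (nat_lit 10796) (Tr.lf (Fc.ed (nat_lit 10795) (nat_lit 4176) Col.b (nat_lit 2414) (Dv.wd (nat_lit 106) [Mv.b (nat_lit 6532), Mv.f (nat_lit 6057), Mv.f (nat_lit 7617), Mv.f (nat_lit 8926), Mv.f (nat_lit 9070), Mv.f (nat_lit 9071), Mv.b (nat_lit 6597), Mv.b (nat_lit 6333), Mv.b (nat_lit 10770), Mv.f (nat_lit 10794)])))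
(Tr.nd (nat_lit 10797) (Tr.lf (Fc.ed (nat_lit 10796) (nat_lit 2550) Col.d (nat_lit 4177) Dv.df))
(Tr.lf (Fc.ed (nat_lit 10797) (nat_lit 2616) Col.a (nat_lit 4178) Dv.df))))
(Tr.nd (nat_lit 10799) (Tr.lf (Fc.ed (nat_lit 10798) (nat_lit 3198) Col.gi (nat_lit 4179) Dv.df))
(Tr.nd (nat_lit 10800) (Tr.lf (Fc.ed (nat_lit 10799) (nat_lit 4179) Col.gi (nat_lit 2175) (Dv.wd (nat_lit 24) [Mv.b (nat_lit 6017), Mv.b (nat_lit 8254), Mv.f (nat_lit 10798)])))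
(Tr.lf (Fc.ed (nat_lit 10800) (nat_lit 1686) Col.d (nat_lit 4180) Dv.df))))))))
(Tr.nd (nat_lit 10821) (Tr.nd (nat_lit 10811) (Tr.nd (nat_lit 10806) (Tr.nd (nat_lit 10803) (Tr.nd (nat_lit 10802) (Tr.lf (Fc.ed (nat_lit 10801) (nat_lit 3627) Col.e (nat_lit 4181) Dv.df))
(Tr.lf (Fc.ed (nat_lit 10802) (nat_lit 4123) Col.d (nat_lit 4182) Dv.df)))
(Tr.nd (nat_lit 10804) (Tr.lf (Fc.ed (nat_lit 10803) (nat_lit 4182) Col.g (nat_lit 3544) (Dv.wd (nat_lit 139) [Mv.b (nat_lit 8947), Mv.b (nat_lit 4647), Mv.b (nat_lit 2738), Mv.f (nat_lit 2739), Mv.f (nat_lit 1990), Mv.b (nat_lit 4682), Mv.b (nat_lit 7382), Mv.f (nat_lit 10617), Mv.f (nat_lit 10802)])))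
(Tr.nd (nat_lit 10805) (Tr.lf (Fc.ed (nat_lit 10804) (nat_lit 3236) Col.g (nat_lit 4182) (Dv.wd (nat_lit 17) [Mv.f (nat_lit 10803), Mv.f (nat_lit 8948), Mv.f (nat_lit 8501)])))
(Tr.lf (Fc.ed (nat_lit 10805) (nat_lit 4064) Col.d (nat_lit 4183) Dv.df)))))
(Tr.nd (nat_lit 10808) (Tr.nd (nat_lit 10807) (Tr.lf (Fc.ed (nat_lit 10806) (nat_lit 4065) Col.g (nat_lit 4184) Dv.df))
(Tr.lf (Fc.ed (nat_lit 10807) (nat_lit 4184) Col.g (nat_lit 2068) (Dv.wd (nat_lit 9) [Mv.b (nat_lit 7527), Mv.f (nat_lit 9910), Mv.f (nat_lit 10806)]))))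
(Tr.nd (nat_lit 10809) (Tr.lf (Fc.ed (nat_lit 10808) (nat_lit 2688) Col.gi (nat_lit 4185) Dv.df))
(Tr.nd (nat_lit 10810) (Tr.lf (Fc.ed (nat_lit 10809) (nat_lit 4185) Col.gi (nat_lit 2513) (Dv.wd (nat_lit 24) [Mv.f (nat_lit 6766), Mv.b (nat_lit 7163), Mv.f (nat_lit 10808)])))
(Tr.lf (Fc.ed (nat_lit 10810) (nat_lit 2570) Col.c (nat_lit 4186) Dv.df))))))
(Tr.nd (nat_lit 10816) (Tr.nd (nat_lit 10813) (Tr.nd (nat_lit 10812) (Tr.lf (Fc.ed (nat_lit 10811) (nat_lit 4186) Col.a (nat_lit 4186) (Dv.wd (nat_lit 19) [Mv.b (nat_lit 10810), Mv.f (nat_lit 6895), Mv.f (nat_lit 10810)])))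
(Tr.lf (Fc.ed (nat_lit 10812) (nat_lit 4186) Col.e (nat_lit 2331) (Dv.wd (nat_lit 25) [Mv.b (nat_lit 6365), Mv.b (nat_lit 6896), Mv.f (nat_lit 10810)]))))
(Tr.nd (nat_lit 10814) (Tr.lf (Fc.ed (nat_lit 10813) (nat_lit 4053) Col.e (nat_lit 4187) Dv.df))
(Tr.nd (nat_lit 10815) (Tr.lf (Fc.ed (nat_lit 10814) (nat_lit 4187) Col.a (nat_lit 3268) (Dv.wd (nat_lit 15) [Mv.f (nat_lit 9610), Mv.f (nat_lit 9891), Mv.f (nat_lit 10813)])))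
(Tr.lf (Fc.ed (nat_lit 10815) (nat_lit 4187) Col.c (nat_lit 1355) (Dv.wd (nat_lit 18) [Mv.b (nat_lit 4136), Mv.b (nat_lit 9892), Mv.f (nat_lit 10813)]))))))
(Tr.nd (nat_lit 10818) (Tr.nd (nat_lit 10817) (Tr.lf (Fc.ed (nat_lit 10816) (nat_lit 2478) Col.e (nat_lit 4188) Dv.df))
(Tr.lf (Fc.ed (nat_lit 10817) (nat_lit 4188) Col.a (nat_lit 4120) (Dv.wd (nat_lit 15) [Mv.b (nat_lit 10613), Mv.b (nat_lit 6681), Mv.f (nat_lit 10816)]))))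
(Tr.nd (nat_lit 10819) (Tr.lf (Fc.ed (nat_lit 10818) (nat_lit 1673) Col.g (nat_lit 4189) Dv.df))
(Tr.nd (nat_lit 10820) (Tr.lf (Fc.ed (nat_lit 10819) (nat_lit 4189) Col.g (nat_lit 2587) (Dv.wd (nat_lit 9) [Mv.f (nat_lit 6941), Mv.b (nat_lit 6258), Mv.f (nat_lit 10818)])))
(Tr.lf (Fc.ed (nat_lit 10820) (nat_lit 1384) Col.gi (nat_lit 4190) Dv.df)))))))
(Tr.nd (nat_lit 10831) (Tr.nd (nat_lit 10826) (Tr.nd (nat_lit 10823) (Tr.nd (nat_lit 10822) (Tr.lf (Fc.ed (nat_lit 10821) (nat_lit 4190) Col.gi (nat_lit 2225) (Dv.wd (nat_lit 24) [Mv.b (nat_lit 6926), Mv.b (nat_lit 6924), Mv.f (nat_lit 10820)])))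
(Tr.lf (Fc.ed (nat_lit 10822) (nat_lit 3802) Col.c (nat_lit 4191) Dv.df)))
(Tr.nd (nat_lit 10824) (Tr.lf (Fc.ed (nat_lit 10823) (nat_lit 4191) Col.e (nat_lit 1265) (Dv.wd (nat_lit 25) [Mv.b (nat_lit 3927), Mv.f (nat_lit 9431), Mv.f (nat_lit 10822)])))
(Tr.nd (nat_lit 10825) (Tr.lf (Fc.ed (nat_lit 10824) (nat_lit 4131) Col.a (nat_lit 4192) Dv.df))
(Tr.lf (Fc.ed (nat_lit 10825) (nat_lit 2612) Col.a (nat_lit 4193) Dv.df)))))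
(Tr.nd (nat_lit 10828) (Tr.nd (nat_lit 10827) (Tr.lf (Fc.ed (nat_lit 10826) (nat_lit 4193) Col.f (nat_lit 3176) (Dv.wd (nat_lit 10) [Mv.b (nat_lit 8209), Mv.f (nat_lit 6991), Mv.f (nat_lit 10825)])))
(Tr.lf (Fc.ed (nat_lit 10827) (nat_lit 2314) Col.a (nat_lit 4194) Dv.df)))
(Tr.nd (nat_lit 10829) (Tr.lf (Fc.ed (nat_lit 10828) (nat_lit 4194) Col.f (nat_lit 3892) (Dv.wd (nat_lit 35) [Mv.b (nat_lit 10701), Mv.b (nat_lit 10700), Mv.f (nat_lit 10827)])))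
(Tr.nd (nat_lit 10830) (Tr.lf (Fc.ed (nat_lit 10829) (nat_lit 1381) Col.e (nat_lit 4195) Dv.df))
(Tr.lf (Fc.ed (nat_lit 10830) (nat_lit 2967) Col.g (nat_lit 4196) Dv.df))))))
(Tr.nd (nat_lit 10836) (Tr.nd (nat_lit 10833) (Tr.nd (nat_lit 10832) (Tr.lf (Fc.ed (nat_lit 10831) (nat_lit 4196) Col.g (nat_lit 2123) (Dv.wd (nat_lit 9) [Mv.f (nat_lit 6260), Mv.b (nat_lit 7757), Mv.f (nat_lit 10830)])))
(Tr.lf (Fc.ed (nat_lit 10832) (nat_lit 3895) Col.d (nat_lit 4197) Dv.df)))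
(Tr.nd (nat_lit 10834) (Tr.lf (Fc.ed (nat_lit 10833) (nat_lit 3805) Col.c (nat_lit 4198) Dv.df))
(Tr.nd (nat_lit 10835) (Tr.lf (Fc.ed (nat_lit 10834) (nat_lit 4198) Col.f (nat_lit 2629) (Dv.wd (nat_lit 26) [Mv.f (nat_lit 7024), Mv.b (nat_lit 9438), Mv.f (nat_lit 10833)])))
(Tr.lf (Fc.ed (nat_lit 10835) (nat_lit 4172) Col.b (nat_lit 4199) Dv.df)))))
(Tr.nd (nat_lit 10839) (Tr.nd (nat_lit 10837) (Tr.lf (Fc.ed (nat_lit 10836) (nat_lit 4186) Col.f (nat_lit 4200) Dv.df))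
(Tr.nd (nat_lit 10838) (Tr.lf (Fc.ed (nat_lit 10837) (nat_lit 4200) Col.a (nat_lit 4200) (Dv.wd (nat_lit 16) [Mv.b (nat_lit 10836), Mv.f (nat_lit 10811), Mv.f (nat_lit 10836)])))
(Tr.lf (Fc.ed (nat_lit 10838) (nat_lit 4200) Col.d (nat_lit 4186) (Dv.wd (nat_lit 170) [Mv.b (nat_lit 10810), Mv.b (nat_lit 6894), Mv.b (nat_lit 6838), Mv.f (nat_lit 6835), Mv.f (nat_lit 6838), Mv.f (nat_lit 6894), Mv.f (nat_lit 10810), Mv.f (nat_lit 10811), Mv.f (nat_lit 10836)])))))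
(Tr.nd (nat_lit 10840) (Tr.lf (Fc.ed (nat_lit 10839) (nat_lit 2140) Col.e (nat_lit 4201) Dv.df))
(Tr.nd (nat_lit 10841) (Tr.lf (Fc.ed (nat_lit 10840) (nat_lit 4201) Col.a (nat_lit 2882) (Dv.wd (nat_lit 15) [Mv.b (nat_lit 7585), Mv.b (nat_lit 5939), Mv.f (nat_lit 10839)])))
(Tr.lf (Fc.ed (nat_lit 10841) (nat_lit 4201) Col.c (nat_lit 2855) (Dv.wd (nat_lit 18) [Mv.f (nat_lit 7526), Mv.f (nat_lit 5938), Mv.f (nat_lit 10839)]))))))))))))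
(Tr.nd (nat_lit 11006) (Tr.nd (nat_lit 10924) (Tr.nd (nat_lit 10883) (Tr.nd (nat_lit 10862) (Tr.nd (nat_lit 10852) (Tr.nd (nat_lit 10847) (Tr.nd (nat_lit 10844) (Tr.nd (nat_lit 10843) (Tr.lf (Fc.ed (nat_lit 10842) (nat_lit 3201) Col.g (nat_lit 4202) Dv.df))
(Tr.lf (Fc.ed (nat_lit 10843) (nat_lit 4202) Col.g (nat_lit 2855) (Dv.wd (nat_lit 9) [Mv.f (nat_lit 7527), Mv.f (nat_lit 8261), Mv.f (nat_lit 10842)]))))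
(Tr.nd (nat_lit 10845) (Tr.lf (Fc.ed (nat_lit 10844) (nat_lit 2943) Col.b (nat_lit 4203) Dv.df))
(Tr.nd (nat_lit 10846) (Tr.lf (Fc.ed (nat_lit 10845) (nat_lit 4203) Col.f (nat_lit 3273) (Dv.wd (nat_lit 20) [Mv.b (nat_lit 8398), Mv.f (nat_lit 7711), Mv.f (nat_lit 10844)])))
(Tr.lf (Fc.ed (nat_lit 10846) (nat_lit 2463) Col.f (nat_lit 4204) Dv.df)))))
(Tr.nd (nat_lit 10849) (Tr.nd (nat_lit 10848) (Tr.lf (Fc.ed (nat_lit 10847) (nat_lit 4204) Col.b (nat_lit 3222) (Dv.wd (nat_lit 66) [Mv.b (nat_lit 8300), Mv.f (nat_lit 6642), Mv.f (nat_lit 10846)])))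
(Tr.lf (Fc.ed (nat_lit 10848) (nat_lit 4204) Col.a (nat_lit 3177) (Dv.wd (nat_lit 23) [Mv.b (nat_lit 8463), Mv.f (nat_lit 7829), Mv.f (nat_lit 10846)]))))
(Tr.nd (nat_lit 10850) (Tr.lf (Fc.ed (nat_lit 10849) (nat_lit 1899) Col.b (nat_lit 4205) Dv.df))
(Tr.nd (nat_lit 10851) (Tr.lf (Fc.ed (nat_lit 10850) (nat_lit 4205) Col.d (nat_lit 2578) (Dv.wd (nat_lit 58) [Mv.b (nat_lit 6920), Mv.b (nat_lit 5374), Mv.f (nat_lit 10849)])))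
(Tr.lf (Fc.ed (nat_lit 10851) (nat_lit 2626) Col.a (nat_lit 4206) Dv.df))))))
(Tr.nd (nat_lit 10857) (Tr.nd (nat_lit 10854) (Tr.nd (nat_lit 10853) (Tr.lf (Fc.ed (nat_lit 10852) (nat_lit 2954) Col.b (nat_lit 4207) Dv.df))
(Tr.lf (Fc.ed (nat_lit 10853) (nat_lit 3388) Col.b (nat_lit 4208) Dv.df)))
(Tr.nd (nat_lit 10855) (Tr.lf (Fc.ed (nat_lit 10854) (nat_lit 1968) Col.g (nat_lit 4209) Dv.df))
(Tr.nd (nat_lit 10856) (Tr.lf (Fc.ed (nat_lit 10855) (nat_lit 4209) Col.g (nat_lit 3245) (Dv.wd (nat_lit 9) [Mv.b (nat_lit 8344), Mv.b (nat_lit 6072), Mv.f (nat_lit 10854)])))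
(Tr.lf (Fc.ed (nat_lit 10856) (nat_lit 3750) Col.f (nat_lit 4210) Dv.df)))))
(Tr.nd (nat_lit 10859) (Tr.nd (nat_lit 10858) (Tr.lf (Fc.ed (nat_lit 10857) (nat_lit 4210) Col.a (nat_lit 3460) (Dv.wd (nat_lit 23) [Mv.f (nat_lit 8780), Mv.f (nat_lit 9339), Mv.f (nat_lit 10856)])))
(Tr.lf (Fc.ed (nat_lit 10858) (nat_lit 2608) Col.gi (nat_lit 4211) Dv.df)))
(Tr.nd (nat_lit 10860) (Tr.lf (Fc.ed (nat_lit 10859) (nat_lit 4211) Col.gi (nat_lit 2542) (Dv.wd (nat_lit 24) [Mv.f (nat_lit 6843), Mv.b (nat_lit 6984), Mv.f (nat_lit 10858)])))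
(Tr.nd (nat_lit 10861) (Tr.lf (Fc.ed (nat_lit 10860) (nat_lit 3955) Col.f (nat_lit 4212) Dv.df))
(Tr.lf (Fc.ed (nat_lit 10861) (nat_lit 4212) Col.d (nat_lit 3566) (Dv.wd (nat_lit 21) [Mv.b (nat_lit 8993), Mv.f (nat_lit 9731), Mv.f (nat_lit 10860)]))))))))
(Tr.nd (nat_lit 10872) (Tr.nd (nat_lit 10867) (Tr.nd (nat_lit 10864) (Tr.nd (nat_lit 10863) (Tr.lf (Fc.ed (nat_lit 10862) (nat_lit 2853) Col.c (nat_lit 4213) Dv.df))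
(Tr.lf (Fc.ed (nat_lit 10863) (nat_lit 4027) Col.gi (nat_lit 4214) Dv.df)))
(Tr.nd (nat_lit 10865) (Tr.lf (Fc.ed (nat_lit 10864) (nat_lit 4214) Col.gi (nat_lit 2392) (Dv.wd (nat_lit 24) [Mv.f (nat_lit 9756), Mv.f (nat_lit 9851), Mv.f (nat_lit 10863)])))
(Tr.nd (nat_lit 10866) (Tr.lf (Fc.ed (nat_lit 10865) (nat_lit 3903) Col.c (nat_lit 4215) Dv.df))
(Tr.lf (Fc.ed (nat_lit 10866) (nat_lit 4215) Col.e (nat_lit 2662) (Dv.wd (nat_lit 25) [Mv.b (nat_lit 7104), Mv.f (nat_lit 9600), Mv.f (nat_lit 10865)]))))))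
(Tr.nd (nat_lit 10869) (Tr.nd (nat_lit 10868) (Tr.lf (Fc.ed (nat_lit 10867) (nat_lit 4215) Col.b (nat_lit 3384) (Dv.wd (nat_lit 87) [Mv.f (nat_lit 8629), Mv.b (nat_lit 7644), Mv.f (nat_lit 7911), Mv.b (nat_lit 9601), Mv.f (nat_lit 10865)])))
(Tr.lf (Fc.ed (nat_lit 10868) (nat_lit 4173) Col.a (nat_lit 4216) Dv.df)))
(Tr.nd (nat_lit 10870) (Tr.lf (Fc.ed (nat_lit 10869) (nat_lit 4216) Col.d (nat_lit 1291) (Dv.wd (nat_lit 28) [Mv.b (nat_lit 6269), Mv.f (nat_lit 10789), Mv.f (nat_lit 10868)])))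
(Tr.nd (nat_lit 10871) (Tr.lf (Fc.ed (nat_lit 10870) (nat_lit 4110) Col.f (nat_lit 4217) Dv.df))
(Tr.lf (Fc.ed (nat_lit 10871) (nat_lit 4217) Col.a (nat_lit 1687) (Dv.wd (nat_lit 16) [Mv.b (nat_lit 6557), Mv.b (nat_lit 10596), Mv.f (nat_lit 10870)])))))))
(Tr.nd (nat_lit 10877) (Tr.nd (nat_lit 10874) (Tr.nd (nat_lit 10873) (Tr.lf (Fc.ed (nat_lit 10872) (nat_lit 4217) Col.c (nat_lit 2590) (Dv.wd (nat_lit 34) [Mv.b (nat_lit 9278), Mv.f (nat_lit 10595), Mv.f (nat_lit 10870)])))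
(Tr.lf (Fc.ed (nat_lit 10873) (nat_lit 1186) Col.g (nat_lit 4218) Dv.df)))
(Tr.nd (nat_lit 10875) (Tr.lf (Fc.ed (nat_lit 10874) (nat_lit 4218) Col.g (nat_lit 2693) (Dv.wd (nat_lit 9) [Mv.b (nat_lit 7171), Mv.f (nat_lit 6078), Mv.f (nat_lit 10873)])))
(Tr.nd (nat_lit 10876) (Tr.lf (Fc.ed (nat_lit 10875) (nat_lit 2517) Col.a (nat_lit 4219) Dv.df))
(Tr.lf (Fc.ed (nat_lit 10876) (nat_lit 4219) Col.d (nat_lit 3811) (Dv.wd (nat_lit 28) [Mv.b (nat_lit 9447), Mv.b (nat_lit 6777), Mv.f (nat_lit 10875)]))))))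
(Tr.nd (nat_lit 10880) (Tr.nd (nat_lit 10878) (Tr.lf (Fc.ed (nat_lit 10877) (nat_lit 4219) Col.f (nat_lit 3827) (Dv.wd (nat_lit 35) [Mv.f (nat_lit 9479), Mv.b (nat_lit 6778), Mv.f (nat_lit 10875)])))
(Tr.nd (nat_lit 10879) (Tr.lf (Fc.ed (nat_lit 10878) (nat_lit 2613) Col.f (nat_lit 4220) Dv.df))
(Tr.lf (Fc.ed (nat_lit 10879) (nat_lit 1683) Col.d (nat_lit 4221) Dv.df))))
(Tr.nd (nat_lit 10881) (Tr.lf (Fc.ed (nat_lit 10880) (nat_lit 4221) Col.b (nat_lit 3532) (Dv.wd (nat_lit 37) [Mv.b (nat_lit 8923), Mv.b (nat_lit 4904), Mv.f (nat_lit 10879)])))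
(Tr.nd (nat_lit 10882) (Tr.lf (Fc.ed (nat_lit 10881) (nat_lit 4086) Col.gi (nat_lit 4222) Dv.df))
(Tr.lf (Fc.ed (nat_lit 10882) (nat_lit 4222) Col.gi (nat_lit 2215) (Dv.wd (nat_lit 24) [Mv.f (nat_lit 6107), Mv.b (nat_lit 9959), Mv.f (nat_lit 10881)])))))))))
(Tr.nd (nat_lit 10903) (Tr.nd (nat_lit 10893) (Tr.nd (nat_lit 10888) (Tr.nd (nat_lit 10885) (Tr.nd (nat_lit 10884) (Tr.lf (Fc.ed (nat_lit 10883) (nat_lit 3582) Col.d (nat_lit 4223) Dv.df))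
(Tr.lf (Fc.ed (nat_lit 10884) (nat_lit 4046) Col.f (nat_lit 4224) Dv.df)))
(Tr.nd (nat_lit 10886) (Tr.lf (Fc.ed (nat_lit 10885) (nat_lit 4224) Col.d (nat_lit 2784) (Dv.wd (nat_lit 21) [Mv.f (nat_lit 7369), Mv.f (nat_lit 9880), Mv.f (nat_lit 10884)])))
(Tr.nd (nat_lit 10887) (Tr.lf (Fc.ed (nat_lit 10886) (nat_lit 2599) Col.a (nat_lit 4225) Dv.df))
(Tr.lf (Fc.ed (nat_lit 10887) (nat_lit 4225) Col.d (nat_lit 3974) (Dv.wd (nat_lit 28) [Mv.b (nat_lit 9763), Mv.f (nat_lit 6963), Mv.f (nat_lit 10886)]))))))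
(Tr.nd (nat_lit 10890) (Tr.nd (nat_lit 10889) (Tr.lf (Fc.ed (nat_lit 10888) (nat_lit 3057) Col.f (nat_lit 4226) Dv.df))
(Tr.lf (Fc.ed (nat_lit 10889) (nat_lit 4226) Col.c (nat_lit 3137) (Dv.wd (nat_lit 34) [Mv.f (nat_lit 8135), Mv.f (nat_lit 7959), Mv.f (nat_lit 10888)]))))
(Tr.nd (nat_lit 10891) (Tr.lf (Fc.ed (nat_lit 10890) (nat_lit 2672) Col.d (nat_lit 4227) Dv.df))
(Tr.nd (nat_lit 10892) (Tr.lf (Fc.ed (nat_lit 10891) (nat_lit 4227) Col.a (nat_lit 2542) (Dv.wd (nat_lit 8) [Mv.b (nat_lit 6841), Mv.f (nat_lit 7127), Mv.f (nat_lit 10890)])))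
(Tr.lf (Fc.ed (nat_lit 10892) (nat_lit 4069) Col.gi (nat_lit 4228) Dv.df))))))
(Tr.nd (nat_lit 10898) (Tr.nd (nat_lit 10895) (Tr.nd (nat_lit 10894) (Tr.lf (Fc.ed (nat_lit 10893) (nat_lit 4014) Col.c (nat_lit 4229) Dv.df))
(Tr.lf (Fc.ed (nat_lit 10894) (nat_lit 4229) Col.f (nat_lit 3608) (Dv.wd (nat_lit 26) [Mv.b (nat_lit 9200), Mv.b (nat_lit 9826), Mv.f (nat_lit 10893)]))))
(Tr.nd (nat_lit 10896) (Tr.lf (Fc.ed (nat_lit 10895) (nat_lit 4229) Col.b (nat_lit 1082) (Dv.wd (nat_lit 87) [Mv.b (nat_lit 3341), Mv.f (nat_lit 2938), Mv.f (nat_lit 5336), Mv.f (nat_lit 9825), Mv.f (nat_lit 10893)])))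
(Tr.nd (nat_lit 10897) (Tr.lf (Fc.ed (nat_lit 10896) (nat_lit 1596) Col.g (nat_lit 4230) Dv.df))
(Tr.lf (Fc.ed (nat_lit 10897) (nat_lit 3362) Col.d (nat_lit 4231) Dv.df)))))
(Tr.nd (nat_lit 10900) (Tr.nd (nat_lit 10899) (Tr.lf (Fc.ed (nat_lit 10898) (nat_lit 4216) Col.g (nat_lit 4232) Dv.df))
(Tr.lf (Fc.ed (nat_lit 10899) (nat_lit 1737) Col.c (nat_lit 4233) Dv.df)))
(Tr.nd (nat_lit 10901) (Tr.lf (Fc.ed (nat_lit 10900) (nat_lit 1501) Col.gi (nat_lit 4234) Dv.df))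
(Tr.nd (nat_lit 10902) (Tr.lf (Fc.ed (nat_lit 10901) (nat_lit 4234) Col.gi (nat_lit 3139) (Dv.wd (nat_lit 24) [Mv.f (nat_lit 8138), Mv.b (nat_lit 7247), Mv.f (nat_lit 10900)])))
(Tr.lf (Fc.ed (nat_lit 10902) (nat_lit 4217) Col.e (nat_lit 4235) Dv.df)))))))
(Tr.nd (nat_lit 10913) (Tr.nd (nat_lit 10908) (Tr.nd (nat_lit 10905) (Tr.nd (nat_lit 10904) (Tr.lf (Fc.ed (nat_lit 10903) (nat_lit 4235) Col.a (nat_lit 3208) (Dv.wd (nat_lit 15) [Mv.b (nat_lit 8276), Mv.b (nat_lit 10871), Mv.f (nat_lit 10902)])))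
(Tr.lf (Fc.ed (nat_lit 10904) (nat_lit 4235) Col.c (nat_lit 3519) (Dv.wd (nat_lit 18) [Mv.f (nat_lit 8895), Mv.b (nat_lit 10872), Mv.f (nat_lit 10902)]))))
(Tr.nd (nat_lit 10906) (Tr.lf (Fc.ed (nat_lit 10905) (nat_lit 2506) Col.f (nat_lit 4236) Dv.df))
(Tr.nd (nat_lit 10907) (Tr.lf (Fc.ed (nat_lit 10906) (nat_lit 3293) Col.f (nat_lit 4237) Dv.df))
(Tr.lf (Fc.ed (nat_lit 10907) (nat_lit 4237) Col.a (nat_lit 3015) (Dv.wd (nat_lit 23) [Mv.f (nat_lit 7861), Mv.f (nat_lit 8438), Mv.f (nat_lit 10906)]))))))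
(Tr.nd (nat_lit 10910) (Tr.nd (nat_lit 10909) (Tr.lf (Fc.ed (nat_lit 10908) (nat_lit 3127) Col.a (nat_lit 4238) Dv.df))
(Tr.lf (Fc.ed (nat_lit 10909) (nat_lit 4238) Col.f (nat_lit 2358) (Dv.wd (nat_lit 10) [Mv.f (nat_lit 7139), Mv.f (nat_lit 8108), Mv.f (nat_lit 10908)]))))
(Tr.nd (nat_lit 10911) (Tr.lf (Fc.ed (nat_lit 10910) (nat_lit 4150) Col.d (nat_lit 4239) Dv.df))
(Tr.nd (nat_lit 10912) (Tr.lf (Fc.ed (nat_lit 10911) (nat_lit 1339) Col.e (nat_lit 4240) Dv.df))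
(Tr.lf (Fc.ed (nat_lit 10912) (nat_lit 4240) Col.a (nat_lit 4191) (Dv.wd (nat_lit 15) [Mv.f (nat_lit 10823), Mv.b (nat_lit 4043), Mv.f (nat_lit 10911)])))))))
(Tr.nd (nat_lit 10918) (Tr.nd (nat_lit 10915) (Tr.nd (nat_lit 10914) (Tr.lf (Fc.ed (nat_lit 10913) (nat_lit 3791) Col.a (nat_lit 4241) Dv.df))
(Tr.lf (Fc.ed (nat_lit 10914) (nat_lit 4241) Col.f (nat_lit 3860) (Dv.wd (nat_lit 10) [Mv.b (nat_lit 9531), Mv.f (nat_lit 9413), Mv.f (nat_lit 10913)]))))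
(Tr.nd (nat_lit 10916) (Tr.lf (Fc.ed (nat_lit 10915) (nat_lit 3771) Col.g (nat_lit 4242) Dv.df))
(Tr.nd (nat_lit 10917) (Tr.lf (Fc.ed (nat_lit 10916) (nat_lit 4242) Col.g (nat_lit 2170) (Dv.wd (nat_lit 9) [Mv.f (nat_lit 9763), Mv.f (nat_lit 9764), Mv.f (nat_lit 10915)])))
(Tr.lf (Fc.ed (nat_lit 10917) (nat_lit 3946) Col.g (nat_lit 4243) Dv.df)))))
(Tr.nd (nat_lit 10921) (Tr.nd (nat_lit 10919) (Tr.lf (Fc.ed (nat_lit 10918) (nat_lit 4243) Col.g (nat_lit 2350) (Dv.wd (nat_lit 9) [Mv.b (nat_lit 7163), Mv.f (nat_lit 9714), Mv.f (nat_lit 10917)])))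
(Tr.nd (nat_lit 10920) (Tr.lf (Fc.ed (nat_lit 10919) (nat_lit 2783) Col.c (nat_lit 4244) Dv.df))
(Tr.lf (Fc.ed (nat_lit 10920) (nat_lit 4244) Col.f (nat_lit 3556) (Dv.wd (nat_lit 26) [Mv.f (nat_lit 8975), Mv.b (nat_lit 7366), Mv.f (nat_lit 10919)])))))
(Tr.nd (nat_lit 10922) (Tr.lf (Fc.ed (nat_lit 10921) (nat_lit 2110) Col.g (nat_lit 4245) Dv.df))
(Tr.nd (nat_lit 10923) (Tr.lf (Fc.ed (nat_lit 10922) (nat_lit 2315) Col.b (nat_lit 4246) Dv.df))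
(Tr.lf (Fc.ed (nat_lit 10923) (nat_lit 1488) Col.gi (nat_lit 4247) Dv.df)))))))))
(Tr.nd (nat_lit 10965) (Tr.nd (nat_lit 10944) (Tr.nd (nat_lit 10934) (Tr.nd (nat_lit 10929) (Tr.nd (nat_lit 10926) (Tr.nd (nat_lit 10925) (Tr.lf (Fc.ed (nat_lit 10924) (nat_lit 4247) Col.gi (nat_lit 2721) (Dv.wd (nat_lit 24) [Mv.f (nat_lit 7231), Mv.f (nat_lit 4473), Mv.f (nat_lit 10923)])))
(Tr.lf (Fc.ed (nat_lit 10925) (nat_lit 4012) Col.c (nat_lit 4248) Dv.df)))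
(Tr.nd (nat_lit 10927) (Tr.lf (Fc.ed (nat_lit 10926) (nat_lit 4248) Col.g (nat_lit 3578) (Dv.wd (nat_lit 77) [Mv.f (nat_lit 9014), Mv.b (nat_lit 10360), Mv.b (nat_lit 10099), Mv.f (nat_lit 9876), Mv.b (nat_lit 10238), Mv.f (nat_lit 10497), Mv.b (nat_lit 10416), Mv.f (nat_lit 9822), Mv.f (nat_lit 10925)])))
(Tr.nd (nat_lit 10928) (Tr.lf (Fc.ed (nat_lit 10927) (nat_lit 4248) Col.gi (nat_lit 4061) (Dv.wd (nat_lit 102) [Mv.b (nat_lit 10438), Mv.b (nat_lit 10361), Mv.f (nat_lit 2866), Mv.f (nat_lit 3801), Mv.b (nat_lit 6109), Mv.b (nat_lit 8973), Mv.b (nat_lit 8972), Mv.f (nat_lit 10315), Mv.f (nat_lit 10212), Mv.f (nat_lit 10925)])))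
(Tr.lf (Fc.ed (nat_lit 10928) (nat_lit 4168) Col.gi (nat_lit 4249) Dv.df)))))
(Tr.nd (nat_lit 10931) (Tr.nd (nat_lit 10930) (Tr.lf (Fc.ed (nat_lit 10929) (nat_lit 4249) Col.f (nat_lit 3899) (Dv.wd (nat_lit 13) [Mv.f (nat_lit 9594), Mv.f (nat_lit 10783), Mv.f (nat_lit 10928)])))
(Tr.lf (Fc.ed (nat_lit 10930) (nat_lit 3045) Col.c (nat_lit 4249) (Dv.wd (nat_lit 67) [Mv.f (nat_lit 10929), Mv.b (nat_lit 9593), Mv.b (nat_lit 10084)]))))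
(Tr.nd (nat_lit 10932) (Tr.lf (Fc.ed (nat_lit 10931) (nat_lit 3276) Col.f (nat_lit 4250) Dv.df))
(Tr.nd (nat_lit 10933) (Tr.lf (Fc.ed (nat_lit 10932) (nat_lit 4250) Col.a (nat_lit 3334) (Dv.wd (nat_lit 16) [Mv.f (nat_lit 8523), Mv.b (nat_lit 8405), Mv.f (nat_lit 10931)])))
(Tr.lf (Fc.ed (nat_lit 10933) (nat_lit 4250) Col.c (nat_lit 2738) (Dv.wd (nat_lit 34) [Mv.b (nat_lit 7265), Mv.f (nat_lit 8404), Mv.f (nat_lit 10931)])))))))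
(Tr.nd (nat_lit 10939) (Tr.nd (nat_lit 10936) (Tr.nd (nat_lit 10935) (Tr.lf (Fc.ed (nat_lit 10934) (nat_lit 3270) Col.f (nat_lit 4251) Dv.df))
(Tr.lf (Fc.ed (nat_lit 10935) (nat_lit 4251) Col.d (nat_lit 1749) (Dv.wd (nat_lit 21) [Mv.f (nat_lit 5576), Mv.f (nat_lit 8393), Mv.f (nat_lit 10934)]))))
(Tr.nd (nat_lit 10937) (Tr.lf (Fc.ed (nat_lit 10936) (nat_lit 3521) Col.a (nat_lit 4251) (Dv.wd (nat_lit 54) [Mv.f (nat_lit 10935), Mv.b (nat_lit 5063), Mv.b (nat_lit 8901)])))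
(Tr.nd (nat_lit 10938) (Tr.lf (Fc.ed (nat_lit 10937) (nat_lit 3986) Col.a (nat_lit 4252) Dv.df))
(Tr.lf (Fc.ed (nat_lit 10938) (nat_lit 4252) Col.f (nat_lit 3617) (Dv.wd (nat_lit 10) [Mv.b (nat_lit 9080), Mv.f (nat_lit 9782), Mv.f (nat_lit 10937)]))))))
(Tr.nd (nat_lit 10941) (Tr.nd (nat_lit 10940) (Tr.lf (Fc.ed (nat_lit 10939) (nat_lit 1891) Col.c (nat_lit 4253) Dv.df))
(Tr.lf (Fc.ed (nat_lit 10940) (nat_lit 4253) Col.b (nat_lit 3538) (Dv.wd (nat_lit 106) [Mv.b (nat_lit 8936), Mv.f (nat_lit 7134), Mv.b (nat_lit 6867), Mv.b (nat_lit 4190), Mv.f (nat_lit 1340), Mv.f (nat_lit 2829), Mv.f (nat_lit 1000), Mv.b (nat_lit 10745), Mv.b (nat_lit 5358), Mv.f (nat_lit 10939)]))))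
(Tr.nd (nat_lit 10942) (Tr.lf (Fc.ed (nat_lit 10941) (nat_lit 3024) Col.a (nat_lit 4253) (Dv.wd (nat_lit 167) [Mv.f (nat_lit 10940), Mv.f (nat_lit 8934), Mv.b (nat_lit 10847), Mv.f (nat_lit 10848), Mv.b (nat_lit 8211)])))
(Tr.nd (nat_lit 10943) (Tr.lf (Fc.ed (nat_lit 10942) (nat_lit 3998) Col.gi (nat_lit 4253) (Dv.wd (nat_lit 157) [Mv.f (nat_lit 10940), Mv.b (nat_lit 8933), Mv.b (nat_lit 4529), Mv.b (nat_lit 2674), Mv.f (nat_lit 2673), Mv.f (nat_lit 46), Mv.b (nat_lit 2580), Mv.b (nat_lit 2603), Mv.b (nat_lit 3156), Mv.f (nat_lit 9800)])))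
(Tr.lf (Fc.al (nat_lit 10943) (nat_lit 2469) (nat_lit 2343) (Dv.wd (nat_lit 134) [Mv.f (nat_lit 7878), Mv.f (nat_lit 10941), Mv.b (nat_lit 10939), Mv.b (nat_lit 6658)]))))))))
(Tr.nd (nat_lit 10954) (Tr.nd (nat_lit 10949) (Tr.nd (nat_lit 10946) (Tr.nd (nat_lit 10945) (Tr.lf (Fc.al (nat_lit 10944) (nat_lit 3030) (nat_lit 1891) (Dv.wd (nat_lit 29) [Mv.b (nat_lit 6658), Mv.f (nat_lit 10943), Mv.b (nat_lit 10754)])))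
(Tr.lf (Fc.ed (nat_lit 10945) (nat_lit 1891) Col.f (nat_lit 1872) (Dv.wd (nat_lit 30) [Mv.b (nat_lit 10755), Mv.f (nat_lit 10944)]))))
(Tr.nd (nat_lit 10947) (Tr.lf (Fc.ed (nat_lit 10946) (nat_lit 3811) Col.gi (nat_lit 4254) Dv.df))
(Tr.nd (nat_lit 10948) (Tr.lf (Fc.ed (nat_lit 10947) (nat_lit 4254) Col.gi (nat_lit 2115) (Dv.wd (nat_lit 24) [Mv.b (nat_lit 6170), Mv.f (nat_lit 9447), Mv.f (nat_lit 10946)])))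
(Tr.lf (Fc.ed (nat_lit 10948) (nat_lit 4029) Col.b (nat_lit 4255) Dv.df)))))
(Tr.nd (nat_lit 10951) (Tr.nd (nat_lit 10950) (Tr.lf (Fc.ed (nat_lit 10949) (nat_lit 2480) Col.g (nat_lit 4256) Dv.df))
(Tr.lf (Fc.ed (nat_lit 10950) (nat_lit 4256) Col.a (nat_lit 4167) (Dv.wd (nat_lit 114) [Mv.b (nat_lit 10781), Mv.b (nat_lit 6844), Mv.f (nat_lit 10949)]))))
(Tr.nd (nat_lit 10952) (Tr.lf (Fc.ed (nat_lit 10951) (nat_lit 3551) Col.gi (nat_lit 4257) Dv.df))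
(Tr.nd (nat_lit 10953) (Tr.lf (Fc.ed (nat_lit 10952) (nat_lit 4257) Col.gi (nat_lit 1707) (Dv.wd (nat_lit 24) [Mv.f (nat_lit 8055), Mv.b (nat_lit 8963), Mv.f (nat_lit 10951)])))
(Tr.lf (Fc.ed (nat_lit 10953) (nat_lit 2392) Col.gi (nat_lit 4258) Dv.df))))))
(Tr.nd (nat_lit 10959) (Tr.nd (nat_lit 10956) (Tr.nd (nat_lit 10955) (Tr.lf (Fc.ed (nat_lit 10954) (nat_lit 4258) Col.gi (nat_lit 4027) (Dv.wd (nat_lit 24) [Mv.f (nat_lit 9853), Mv.f (nat_lit 9422), Mv.f (nat_lit 10953)])))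
(Tr.lf (Fc.ed (nat_lit 10955) (nat_lit 4258) Col.d (nat_lit 4253) (Dv.wd (nat_lit 89) [Mv.b (nat_lit 10942), Mv.b (nat_lit 9800), Mv.f (nat_lit 3156), Mv.f (nat_lit 2603), Mv.b (nat_lit 529), Mv.f (nat_lit 2607), Mv.f (nat_lit 4683), Mv.f (nat_lit 6491), Mv.f (nat_lit 10953)]))))
(Tr.nd (nat_lit 10957) (Tr.lf (Fc.ed (nat_lit 10956) (nat_lit 3344) Col.a (nat_lit 4258) (Dv.wd (nat_lit 54) [Mv.f (nat_lit 10955), Mv.b (nat_lit 10941), Mv.f (nat_lit 8547)])))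
(Tr.nd (nat_lit 10958) (Tr.lf (Fc.ed (nat_lit 10957) (nat_lit 4258) Col.c (nat_lit 4100) (Dv.wd (nat_lit 33) [Mv.f (nat_lit 10578), Mv.b (nat_lit 8548), Mv.f (nat_lit 10956)])))
(Tr.lf (Fc.ed (nat_lit 10958) (nat_lit 4214) Col.f (nat_lit 3344) (Dv.wd (nat_lit 13) [Mv.f (nat_lit 10956), Mv.f (nat_lit 10954), Mv.f (nat_lit 10863)]))))))
(Tr.nd (nat_lit 10962) (Tr.nd (nat_lit 10960) (Tr.lf (Fc.ed (nat_lit 10959) (nat_lit 4100) Col.gi (nat_lit 1803) (Dv.wd (nat_lit 78) [Mv.b (nat_lit 5174), Mv.f (nat_lit 2830), Mv.f (nat_lit 968), Mv.f (nat_lit 1000), Mv.b (nat_lit 10745), Mv.b (nat_lit 5358), Mv.f (nat_lit 10939), Mv.b (nat_lit 10955), Mv.f (nat_lit 10957)])))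
(Tr.nd (nat_lit 10961) (Tr.lf (Fc.ed (nat_lit 10960) (nat_lit 1842) Col.gi (nat_lit 4100) (Dv.wd (nat_lit 12) [Mv.f (nat_lit 10959), Mv.b (nat_lit 5229), Mv.f (nat_lit 5255)])))
(Tr.lf (Fc.ed (nat_lit 10961) (nat_lit 2981) Col.a (nat_lit 3840) (Dv.wd (nat_lit 23) [Mv.b (nat_lit 9501), Mv.f (nat_lit 10960), Mv.b (nat_lit 10577)])))))
(Tr.nd (nat_lit 10963) (Tr.lf (Fc.ed (nat_lit 10962) (nat_lit 3840) Col.f (nat_lit 3179) (Dv.wd (nat_lit 35) [Mv.b (nat_lit 10578), Mv.b (nat_lit 10577), Mv.f (nat_lit 10961)])))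
(Tr.nd (nat_lit 10964) (Tr.lf (Fc.ed (nat_lit 10963) (nat_lit 4214) Col.c (nat_lit 3840) (Dv.wd (nat_lit 67) [Mv.f (nat_lit 10962), Mv.b (nat_lit 8548), Mv.b (nat_lit 10958)])))
(Tr.lf (Fc.ed (nat_lit 10964) (nat_lit 3994) Col.e (nat_lit 4259) Dv.df))))))))
(Tr.nd (nat_lit 10985) (Tr.nd (nat_lit 10975) (Tr.nd (nat_lit 10970) (Tr.nd (nat_lit 10967) (Tr.nd (nat_lit 10966) (Tr.lf (Fc.ed (nat_lit 10965) (nat_lit 4156) Col.g (nat_lit 4260) Dv.df))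
(Tr.lf (Fc.ed (nat_lit 10966) (nat_lit 4260) Col.g (nat_lit 2461) (Dv.wd (nat_lit 9) [Mv.f (nat_lit 9306), Mv.b (nat_lit 10760), Mv.f (nat_lit 10965)]))))
(Tr.nd (nat_lit 10968) (Tr.lf (Fc.ed (nat_lit 10967) (nat_lit 3452) Col.d (nat_lit 4261) Dv.df))
(Tr.nd (nat_lit 10969) (Tr.lf (Fc.ed (nat_lit 10968) (nat_lit 4261) Col.g (nat_lit 4046) (Dv.wd (nat_lit 69) [Mv.b (nat_lit 9880), Mv.b (nat_lit 6410), Mv.f (nat_lit 2969), Mv.f (nat_lit 5388), Mv.f (nat_lit 10505), Mv.f (nat_lit 6389), Mv.f (nat_lit 6648), Mv.b (nat_lit 10406), Mv.f (nat_lit 10967)])))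
(Tr.lf (Fc.ed (nat_lit 10969) (nat_lit 2796) Col.f (nat_lit 4262) Dv.df)))))
(Tr.nd (nat_lit 10972) (Tr.nd (nat_lit 10971) (Tr.lf (Fc.ed (nat_lit 10970) (nat_lit 4262) Col.d (nat_lit 3274) (Dv.wd (nat_lit 21) [Mv.f (nat_lit 8401), Mv.b (nat_lit 7399), Mv.f (nat_lit 10969)])))
(Tr.lf (Fc.ed (nat_lit 10971) (nat_lit 3167) Col.e (nat_lit 4263) Dv.df)))
(Tr.nd (nat_lit 10973) (Tr.lf (Fc.ed (nat_lit 10972) (nat_lit 4263) Col.c (nat_lit 2631) (Dv.wd (nat_lit 18) [Mv.f (nat_lit 7030), Mv.b (nat_lit 8193), Mv.f (nat_lit 10971)])))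
(Tr.nd (nat_lit 10974) (Tr.lf (Fc.ed (nat_lit 10973) (nat_lit 4177) Col.e (nat_lit 4264) Dv.df))
(Tr.lf (Fc.ed (nat_lit 10974) (nat_lit 4264) Col.g (nat_lit 2969) (Dv.wd (nat_lit 75) [Mv.f (nat_lit 9972), Mv.b (nat_lit 7709), Mv.f (nat_lit 4822), Mv.b (nat_lit 4819), Mv.f (nat_lit 2237), Mv.b (nat_lit 4168), Mv.b (nat_lit 4167), Mv.f (nat_lit 6858), Mv.f (nat_lit 10796), Mv.f (nat_lit 10973)])))))))
(Tr.nd (nat_lit 10980) (Tr.nd (nat_lit 10977) (Tr.nd (nat_lit 10976) (Tr.lf (Fc.ed (nat_lit 10975) (nat_lit 2655) Col.f (nat_lit 4265) Dv.df))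
(Tr.lf (Fc.ed (nat_lit 10976) (nat_lit 4265) Col.a (nat_lit 4249) (Dv.wd (nat_lit 16) [Mv.f (nat_lit 10929), Mv.f (nat_lit 9594), Mv.f (nat_lit 10975)]))))
(Tr.nd (nat_lit 10978) (Tr.lf (Fc.ed (nat_lit 10977) (nat_lit 4265) Col.b (nat_lit 3882) (Dv.wd (nat_lit 66) [Mv.b (nat_lit 9566), Mv.f (nat_lit 7085), Mv.f (nat_lit 10975)])))
(Tr.nd (nat_lit 10979) (Tr.lf (Fc.ed (nat_lit 10978) (nat_lit 4265) Col.c (nat_lit 3478) (Dv.wd (nat_lit 34) [Mv.b (nat_lit 8812), Mv.b (nat_lit 7086), Mv.f (nat_lit 10975)])))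
(Tr.lf (Fc.ed (nat_lit 10979) (nat_lit 1051) Col.c (nat_lit 4266) Dv.df)))))
(Tr.nd (nat_lit 10982) (Tr.nd (nat_lit 10981) (Tr.lf (Fc.ed (nat_lit 10980) (nat_lit 3979) Col.c (nat_lit 4267) Dv.df))
(Tr.lf (Fc.ed (nat_lit 10981) (nat_lit 4267) Col.f (nat_lit 3165) (Dv.wd (nat_lit 26) [Mv.b (nat_lit 8186), Mv.b (nat_lit 9773), Mv.f (nat_lit 10980)]))))
(Tr.nd (nat_lit 10983) (Tr.lf (Fc.ed (nat_lit 10982) (nat_lit 2868) Col.f (nat_lit 4268) Dv.df))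
(Tr.nd (nat_lit 10984) (Tr.lf (Fc.ed (nat_lit 10983) (nat_lit 4268) Col.a (nat_lit 2727) (Dv.wd (nat_lit 16) [Mv.b (nat_lit 7723), Mv.b (nat_lit 7722), Mv.f (nat_lit 10982)])))
(Tr.lf (Fc.ed (nat_lit 10984) (nat_lit 3901) Col.d (nat_lit 4269) Dv.df)))))))
(Tr.nd (nat_lit 10995) (Tr.nd (nat_lit 10990) (Tr.nd (nat_lit 10987) (Tr.nd (nat_lit 10986) (Tr.lf (Fc.ed (nat_lit 10985) (nat_lit 4269) Col.b (nat_lit 2069) (Dv.wd (nat_lit 37) [Mv.b (nat_lit 10147), Mv.f (nat_lit 10499), Mv.f (nat_lit 10984)])))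
(Tr.lf (Fc.ed (nat_lit 10986) (nat_lit 2374) Col.g (nat_lit 4270) Dv.df)))
(Tr.nd (nat_lit 10988) (Tr.lf (Fc.ed (nat_lit 10987) (nat_lit 4270) Col.g (nat_lit 2590) (Dv.wd (nat_lit 9) [Mv.b (nat_lit 6947), Mv.f (nat_lit 6460), Mv.f (nat_lit 10986)])))
(Tr.nd (nat_lit 10989) (Tr.lf (Fc.ed (nat_lit 10988) (nat_lit 4037) Col.f (nat_lit 4271) Dv.df))
(Tr.lf (Fc.ed (nat_lit 10989) (nat_lit 4271) Col.b (nat_lit 2302) (Dv.wd (nat_lit 66) [Mv.b (nat_lit 6296), Mv.f (nat_lit 9867), Mv.f (nat_lit 10988)]))))))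
(Tr.nd (nat_lit 10992) (Tr.nd (nat_lit 10991) (Tr.lf (Fc.ed (nat_lit 10990) (nat_lit 4189) Col.e (nat_lit 4272) Dv.df))
(Tr.lf (Fc.ed (nat_lit 10991) (nat_lit 4272) Col.d (nat_lit 3081) (Dv.wd (nat_lit 91) [Mv.b (nat_lit 8010), Mv.f (nat_lit 5201), Mv.b (nat_lit 5198), Mv.f (nat_lit 4200), Mv.f (nat_lit 4201), Mv.b (nat_lit 3158), Mv.f (nat_lit 2364), Mv.f (nat_lit 4882), Mv.f (nat_lit 10818), Mv.f (nat_lit 10990)]))))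
(Tr.nd (nat_lit 10993) (Tr.lf (Fc.ed (nat_lit 10992) (nat_lit 2789) Col.d (nat_lit 4273) Dv.df))
(Tr.nd (nat_lit 10994) (Tr.lf (Fc.ed (nat_lit 10993) (nat_lit 4214) Col.d (nat_lit 4274) Dv.df))
(Tr.lf (Fc.ed (nat_lit 10994) (nat_lit 4274) Col.f (nat_lit 3024) (Dv.wd (nat_lit 11) [Mv.f (nat_lit 8547), Mv.b (nat_lit 10958), Mv.f (nat_lit 10993)])))))))
(Tr.nd (nat_lit 11000) (Tr.nd (nat_lit 10997) (Tr.nd (nat_lit 10996) (Tr.lf (Fc.ed (nat_lit 10995) (nat_lit 4274) Col.c (nat_lit 1892) (Dv.wd (nat_lit 32) [Mv.f (nat_lit 5360), Mv.f (nat_lit 10752), Mv.b (nat_lit 883), Mv.f (nat_lit 497), Mv.f (nat_lit 941), Mv.b (nat_lit 5256), Mv.f (nat_lit 9501), Mv.b (nat_lit 10963), Mv.f (nat_lit 10993)])))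
(Tr.lf (Fc.ed (nat_lit 10996) (nat_lit 4274) Col.g (nat_lit 4266) (Dv.wd (nat_lit 139) [Mv.b (nat_lit 10979), Mv.b (nat_lit 3262), Mv.b (nat_lit 1326), Mv.b (nat_lit 1009), Mv.b (nat_lit 2386), Mv.b (nat_lit 4515), Mv.b (nat_lit 9852), Mv.f (nat_lit 10863), Mv.f (nat_lit 10993)]))))
(Tr.nd (nat_lit 10998) (Tr.lf (Fc.ed (nat_lit 10997) (nat_lit 2282) Col.g (nat_lit 4275) Dv.df))
(Tr.nd (nat_lit 10999) (Tr.lf (Fc.ed (nat_lit 10998) (nat_lit 4275) Col.g (nat_lit 2770) (Dv.wd (nat_lit 9) [Mv.b (nat_lit 7336), Mv.b (nat_lit 10552), Mv.f (nat_lit 10997)])))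
(Tr.lf (Fc.ed (nat_lit 10999) (nat_lit 4047) Col.gi (nat_lit 4276) Dv.df)))))
(Tr.nd (nat_lit 11003) (Tr.nd (nat_lit 11001) (Tr.lf (Fc.ed (nat_lit 11000) (nat_lit 4217) Col.b (nat_lit 4277) Dv.df))
(Tr.nd (nat_lit 11002) (Tr.lf (Fc.ed (nat_lit 11001) (nat_lit 4277) Col.f (nat_lit 3746) (Dv.wd (nat_lit 20) [Mv.b (nat_lit 10597), Mv.f (nat_lit 10870), Mv.f (nat_lit 11000)])))
(Tr.lf (Fc.ed (nat_lit 11002) (nat_lit 4277) Col.a (nat_lit 1939) (Dv.wd (nat_lit 98) [Mv.b (nat_lit 5453), Mv.b (nat_lit 4806), Mv.f (nat_lit 4911), Mv.b (nat_lit 10871), Mv.f (nat_lit 11000)])))))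
(Tr.nd (nat_lit 11004) (Tr.lf (Fc.ed (nat_lit 11003) (nat_lit 4277) Col.c (nat_lit 3974) (Dv.wd (nat_lit 93) [Mv.f (nat_lit 9765), Mv.f (nat_lit 9448), Mv.f (nat_lit 7010), Mv.b (nat_lit 10872), Mv.f (nat_lit 11000)])))
(Tr.nd (nat_lit 11005) (Tr.lf (Fc.ed (nat_lit 11004) (nat_lit 4249) Col.gi (nat_lit 4278) Dv.df))
(Tr.lf (Fc.ed (nat_lit 11005) (nat_lit 4278) Col.gi (nat_lit 2655) (Dv.wd (nat_lit 24) [Mv.f (nat_lit 10975), Mv.f (nat_lit 10976), Mv.f (nat_lit 11004)])))))))))))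
(Tr.nd (nat_lit 11088) (Tr.nd (nat_lit 11047) (Tr.nd (nat_lit 11026) (Tr.nd (nat_lit 11016) (Tr.nd (nat_lit 11011) (Tr.nd (nat_lit 11008) (Tr.nd (nat_lit 11007) (Tr.lf (Fc.ed (nat_lit 11006) (nat_lit 4278) Col.b (nat_lit 2047) (Dv.wd (nat_lit 154) [Mv.f (nat_lit 6263), Mv.f (nat_lit 8421), Mv.f (nat_lit 10089), Mv.b (nat_lit 10381), Mv.b (nat_lit 10386), Mv.f (nat_lit 5124), Mv.f (nat_lit 10022), Mv.f (nat_lit 7917), Mv.f (nat_lit 10930), Mv.f (nat_lit 11004)])))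
(Tr.lf (Fc.ed (nat_lit 11007) (nat_lit 4102) Col.g (nat_lit 4159) (Dv.wd (nat_lit 105) [Mv.b (nat_lit 10765), Mv.f (nat_lit 7085), Mv.b (nat_lit 11005), Mv.f (nat_lit 11006), Mv.f (nat_lit 6263), Mv.f (nat_lit 9799), Mv.f (nat_lit 9931), Mv.f (nat_lit 10398), Mv.f (nat_lit 10396), Mv.f (nat_lit 10582)]))))
(Tr.nd (nat_lit 11009) (Tr.lf (Fc.ed (nat_lit 11008) (nat_lit 2331) Col.d (nat_lit 4279) Dv.df))
(Tr.nd (nat_lit 11010) (Tr.lf (Fc.ed (nat_lit 11009) (nat_lit 4279) Col.a (nat_lit 4279) (Dv.wd (nat_lit 8) [Mv.b (nat_lit 11008), Mv.f (nat_lit 6366), Mv.f (nat_lit 11008)])))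
(Tr.lf (Fc.ed (nat_lit 11010) (nat_lit 1577) Col.c (nat_lit 4280) Dv.df)))))
(Tr.nd (nat_lit 11013) (Tr.nd (nat_lit 11012) (Tr.lf (Fc.ed (nat_lit 11011) (nat_lit 4280) Col.f (nat_lit 3463) (Dv.wd (nat_lit 26) [Mv.f (nat_lit 8788), Mv.f (nat_lit 4756), Mv.f (nat_lit 11010)])))
(Tr.lf (Fc.ed (nat_lit 11012) (nat_lit 3439) Col.gi (nat_lit 4280) (Dv.wd (nat_lit 24) [Mv.f (nat_lit 11011), Mv.f (nat_lit 8787), Mv.f (nat_lit 8745)]))))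
(Tr.nd (nat_lit 11014) (Tr.lf (Fc.ed (nat_lit 11013) (nat_lit 4183) Col.c (nat_lit 4281) Dv.df))
(Tr.nd (nat_lit 11015) (Tr.lf (Fc.ed (nat_lit 11014) (nat_lit 4281) Col.d (nat_lit 4266) (Dv.wd (nat_lit 113) [Mv.b (nat_lit 10996), Mv.b (nat_lit 10993), Mv.f (nat_lit 10864), Mv.b (nat_lit 6491), Mv.b (nat_lit 4683), Mv.f (nat_lit 6159), Mv.f (nat_lit 9909), Mv.f (nat_lit 10805), Mv.f (nat_lit 11013)])))
(Tr.lf (Fc.ed (nat_lit 11015) (nat_lit 1290) Col.e (nat_lit 4282) Dv.df))))))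
(Tr.nd (nat_lit 11021) (Tr.nd (nat_lit 11018) (Tr.nd (nat_lit 11017) (Tr.lf (Fc.ed (nat_lit 11016) (nat_lit 4282) Col.a (nat_lit 3802) (Dv.wd (nat_lit 15) [Mv.b (nat_lit 9431), Mv.b (nat_lit 3938), Mv.f (nat_lit 11015)])))
(Tr.lf (Fc.ed (nat_lit 11017) (nat_lit 4282) Col.b (nat_lit 4191) (Dv.wd (nat_lit 49) [Mv.f (nat_lit 10823), Mv.f (nat_lit 3939), Mv.f (nat_lit 11015)]))))
(Tr.nd (nat_lit 11019) (Tr.lf (Fc.ed (nat_lit 11018) (nat_lit 4282) Col.c (nat_lit 4240) (Dv.wd (nat_lit 18) [Mv.b (nat_lit 10911), Mv.b (nat_lit 4042), Mv.f (nat_lit 11015)])))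
(Tr.nd (nat_lit 11020) (Tr.lf (Fc.ed (nat_lit 11019) (nat_lit 4257) Col.e (nat_lit 4283) Dv.df))
(Tr.lf (Fc.ed (nat_lit 11020) (nat_lit 4283) Col.d (nat_lit 3193) (Dv.wd (nat_lit 91) [Mv.b (nat_lit 8245), Mv.f (nat_lit 6357), Mv.f (nat_lit 6358), Mv.f (nat_lit 4145), Mv.b (nat_lit 2483), Mv.f (nat_lit 2267), Mv.f (nat_lit 3400), Mv.f (nat_lit 4958), Mv.b (nat_lit 10952), Mv.f (nat_lit 11019)]))))))
(Tr.nd (nat_lit 11023) (Tr.nd (nat_lit 11022) (Tr.lf (Fc.ed (nat_lit 11021) (nat_lit 1338) Col.gi (nat_lit 4284) Dv.df))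
(Tr.lf (Fc.ed (nat_lit 11022) (nat_lit 4274) Col.b (nat_lit 4285) Dv.df)))
(Tr.nd (nat_lit 11024) (Tr.lf (Fc.ed (nat_lit 11023) (nat_lit 4285) Col.f (nat_lit 3177) (Dv.wd (nat_lit 20) [Mv.b (nat_lit 8211), Mv.b (nat_lit 10994), Mv.f (nat_lit 11022)])))
(Tr.nd (nat_lit 11025) (Tr.lf (Fc.ed (nat_lit 11024) (nat_lit 4285) Col.g (nat_lit 1827) (Dv.wd (nat_lit 122) [Mv.b (nat_lit 5225), Mv.b (nat_lit 3600), Mv.b (nat_lit 2618), Mv.f (nat_lit 751), Mv.f (nat_lit 496), Mv.f (nat_lit 883), Mv.b (nat_lit 10752), Mv.b (nat_lit 5360), Mv.b (nat_lit 10995), Mv.f (nat_lit 11022)])))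
(Tr.lf (Fc.ed (nat_lit 11025) (nat_lit 1827) Col.g (nat_lit 4204) (Dv.wd (nat_lit 9) [Mv.f (nat_lit 10848), Mv.b (nat_lit 11023), Mv.f (nat_lit 11024)]))))))))
(Tr.nd (nat_lit 11036) (Tr.nd (nat_lit 11031) (Tr.nd (nat_lit 11028) (Tr.nd (nat_lit 11027) (Tr.lf (Fc.al (nat_lit 11026) (nat_lit 3256) (nat_lit 588) (Dv.wd (nat_lit 124) [Mv.b (nat_lit 2622), Mv.b (nat_lit 539), Mv.f (nat_lit 2589), Mv.b (nat_lit 2586), Mv.b (nat_lit 1612), Mv.f (nat_lit 3600), Mv.f (nat_lit 5225), Mv.f (nat_lit 11025), Mv.f (nat_lit 10847), Mv.f (nat_lit 8301), Mv.f (nat_lit 8367)])))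
(Tr.lf (Fc.al (nat_lit 11027) (nat_lit 1322) (nat_lit 2698) (Dv.wd (nat_lit 128) [Mv.b (nat_lit 8368), Mv.f (nat_lit 11026), Mv.b (nat_lit 4004)]))))
(Tr.nd (nat_lit 11029) (Tr.lf (Fc.al (nat_lit 11028) (nat_lit 2064) (nat_lit 2040) (Dv.wd (nat_lit 129) [Mv.f (nat_lit 8367), Mv.f (nat_lit 11026), Mv.b (nat_lit 5710)])))
(Tr.nd (nat_lit 11030) (Tr.lf (Fc.al (nat_lit 11029) (nat_lit 842) (nat_lit 2839) (Dv.wd (nat_lit 128) [Mv.b (nat_lit 7489), Mv.b (nat_lit 11027), Mv.b (nat_lit 4003)])))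
(Tr.lf (Fc.ed (nat_lit 11030) (nat_lit 1322) Col.c (nat_lit 2757) (Dv.wd (nat_lit 103) [Mv.b (nat_lit 7308), Mv.b (nat_lit 11027)]))))))
(Tr.nd (nat_lit 11033) (Tr.nd (nat_lit 11032) (Tr.lf (Fc.al (nat_lit 11031) (nat_lit 3444) (nat_lit 3396) (Dv.wd (nat_lit 117) [Mv.b (nat_lit 8654), Mv.f (nat_lit 11028), Mv.f (nat_lit 8754)])))
(Tr.lf (Fc.ed (nat_lit 11032) (nat_lit 842) Col.g (nat_lit 2040) (Dv.wd (nat_lit 129) [Mv.b (nat_lit 7490), Mv.b (nat_lit 11029)]))))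
(Tr.nd (nat_lit 11034) (Tr.lf (Fc.ed (nat_lit 11033) (nat_lit 3396) Col.c (nat_lit 3710) (Dv.wd (nat_lit 103) [Mv.b (nat_lit 9264), Mv.f (nat_lit 11031)])))
(Tr.nd (nat_lit 11035) (Tr.lf (Fc.ed (nat_lit 11034) (nat_lit 2320) Col.a (nat_lit 4286) Dv.df))
(Tr.lf (Fc.ed (nat_lit 11035) (nat_lit 4286) Col.f (nat_lit 4284) (Dv.wd (nat_lit 10) [Mv.b (nat_lit 11021), Mv.b (nat_lit 6336), Mv.f (nat_lit 11034)])))))))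
(Tr.nd (nat_lit 11041) (Tr.nd (nat_lit 11038) (Tr.nd (nat_lit 11037) (Tr.lf (Fc.ed (nat_lit 11036) (nat_lit 3028) Col.f (nat_lit 4287) Dv.df))
(Tr.lf (Fc.ed (nat_lit 11037) (nat_lit 4287) Col.a (nat_lit 3912) (Dv.wd (nat_lit 23) [Mv.f (nat_lit 10066), Mv.f (nat_lit 10067), Mv.f (nat_lit 11036)]))))
(Tr.nd (nat_lit 11039) (Tr.lf (Fc.ed (nat_lit 11038) (nat_lit 3222) Col.d (nat_lit 4288) Dv.df))
(Tr.nd (nat_lit 11040) (Tr.lf (Fc.ed (nat_lit 11039) (nat_lit 4288) Col.c (nat_lit 2447) (Dv.wd (nat_lit 32) [Mv.b (nat_lit 6608), Mv.b (nat_lit 3856), Mv.f (nat_lit 4000), Mv.b (nat_lit 9656), Mv.f (nat_lit 3831), Mv.f (nat_lit 2408), Mv.f (nat_lit 11032), Mv.b (nat_lit 8301), Mv.f (nat_lit 11038)])))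
(Tr.lf (Fc.ed (nat_lit 11040) (nat_lit 3355) Col.f (nat_lit 4289) Dv.df)))))
(Tr.nd (nat_lit 11044) (Tr.nd (nat_lit 11042) (Tr.lf (Fc.ed (nat_lit 11041) (nat_lit 4289) Col.a (nat_lit 3332) (Dv.wd (nat_lit 23) [Mv.b (nat_lit 8518), Mv.b (nat_lit 8571), Mv.f (nat_lit 11040)])))
(Tr.nd (nat_lit 11043) (Tr.lf (Fc.ed (nat_lit 11042) (nat_lit 4002) Col.b (nat_lit 4290) Dv.df))
(Tr.lf (Fc.ed (nat_lit 11043) (nat_lit 4290) Col.f (nat_lit 2320) (Dv.wd (nat_lit 20) [Mv.b (nat_lit 6607), Mv.b (nat_lit 9809), Mv.f (nat_lit 11042)])))))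
(Tr.nd (nat_lit 11045) (Tr.lf (Fc.ed (nat_lit 11044) (nat_lit 4284) Col.a (nat_lit 4290) (Dv.wd (nat_lit 79) [Mv.f (nat_lit 11043), Mv.f (nat_lit 11034), Mv.f (nat_lit 11035)])))
(Tr.nd (nat_lit 11046) (Tr.lf (Fc.ed (nat_lit 11045) (nat_lit 3906) Col.g (nat_lit 4291) Dv.df))
(Tr.lf (Fc.ed (nat_lit 11046) (nat_lit 4291) Col.g (nat_lit 4018) (Dv.wd (nat_lit 9) [Mv.f (nat_lit 9833), Mv.b (nat_lit 9607), Mv.f (nat_lit 11045)])))))))))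
(Tr.nd (nat_lit 11067) (Tr.nd (nat_lit 11057) (Tr.nd (nat_lit 11052) (Tr.nd (nat_lit 11049) (Tr.nd (nat_lit 11048) (Tr.lf (Fc.ed (nat_lit 11047) (nat_lit 2034) Col.gi (nat_lit 4292) Dv.df))
(Tr.lf (Fc.ed (nat_lit 11048) (nat_lit 4292) Col.gi (nat_lit 1546) (Dv.wd (nat_lit 24) [Mv.b (nat_lit 8543), Mv.b (nat_lit 8541), Mv.f (nat_lit 11047)]))))
(Tr.nd (nat_lit 11050) (Tr.lf (Fc.ed (nat_lit 11049) (nat_lit 2165) Col.d (nat_lit 4293) Dv.df))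
(Tr.nd (nat_lit 11051) (Tr.lf (Fc.ed (nat_lit 11050) (nat_lit 4293) Col.f (nat_lit 4173) (Dv.wd (nat_lit 11) [Mv.b (nat_lit 10789), Mv.f (nat_lit 6270), Mv.f (nat_lit 11049)])))
(Tr.lf (Fc.ed (nat_lit 11051) (nat_lit 2291) Col.g (nat_lit 4294) Dv.df)))))
(Tr.nd (nat_lit 11054) (Tr.nd (nat_lit 11053) (Tr.lf (Fc.ed (nat_lit 11052) (nat_lit 3240) Col.e (nat_lit 4295) Dv.df))
(Tr.lf (Fc.ed (nat_lit 11053) (nat_lit 4295) Col.d (nat_lit 4247) (Dv.wd (nat_lit 91) [Mv.b (nat_lit 10923), Mv.b (nat_lit 4532), Mv.b (nat_lit 4530), Mv.b (nat_lit 2336), Mv.b (nat_lit 2282), Mv.b (nat_lit 1065), Mv.f (nat_lit 2352), Mv.f (nat_lit 4687), Mv.f (nat_lit 8330), Mv.f (nat_lit 11052)]))))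
(Tr.nd (nat_lit 11055) (Tr.lf (Fc.ed (nat_lit 11054) (nat_lit 3966) Col.gi (nat_lit 4296) Dv.df))
(Tr.nd (nat_lit 11056) (Tr.lf (Fc.ed (nat_lit 11055) (nat_lit 4296) Col.gi (nat_lit 2303) (Dv.wd (nat_lit 24) [Mv.f (nat_lit 6299), Mv.b (nat_lit 9749), Mv.f (nat_lit 11054)])))
(Tr.lf (Fc.ed (nat_lit 11056) (nat_lit 2201) Col.g (nat_lit 4297) Dv.df))))))
(Tr.nd (nat_lit 11062) (Tr.nd (nat_lit 11059) (Tr.nd (nat_lit 11058) (Tr.lf (Fc.ed (nat_lit 11057) (nat_lit 3805) Col.b (nat_lit 4298) Dv.df))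
(Tr.lf (Fc.ed (nat_lit 11058) (nat_lit 4298) Col.d (nat_lit 4298) (Dv.wd (nat_lit 58) [Mv.b (nat_lit 11057), Mv.f (nat_lit 9437), Mv.f (nat_lit 11057)]))))
(Tr.nd (nat_lit 11060) (Tr.lf (Fc.ed (nat_lit 11059) (nat_lit 4298) Col.f (nat_lit 2540) (Dv.wd (nat_lit 20) [Mv.b (nat_lit 6834), Mv.b (nat_lit 9438), Mv.f (nat_lit 11057)])))
(Tr.nd (nat_lit 11061) (Tr.lf (Fc.ed (nat_lit 11060) (nat_lit 2415) Col.d (nat_lit 4299) Dv.df))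
(Tr.lf (Fc.ed (nat_lit 11061) (nat_lit 4299) Col.f (nat_lit 4279) (Dv.wd (nat_lit 11) [Mv.b (nat_lit 11008), Mv.b (nat_lit 6536), Mv.f (nat_lit 11060)]))))))
(Tr.nd (nat_lit 11064) (Tr.nd (nat_lit 11063) (Tr.lf (Fc.ed (nat_lit 11062) (nat_lit 4299) Col.c (nat_lit 4279) (Dv.wd (nat_lit 80) [Mv.b (nat_lit 11008), Mv.b (nat_lit 6365), Mv.b (nat_lit 5557), Mv.f (nat_lit 3972), Mv.f (nat_lit 5557), Mv.b (nat_lit 6193), Mv.f (nat_lit 6191), Mv.f (nat_lit 6534), Mv.f (nat_lit 11060)])))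
(Tr.lf (Fc.ed (nat_lit 11063) (nat_lit 3746) Col.g (nat_lit 4300) Dv.df)))
(Tr.nd (nat_lit 11065) (Tr.lf (Fc.ed (nat_lit 11064) (nat_lit 4300) Col.g (nat_lit 1939) (Dv.wd (nat_lit 9) [Mv.b (nat_lit 11002), Mv.f (nat_lit 11001), Mv.f (nat_lit 11063)])))
(Tr.nd (nat_lit 11066) (Tr.lf (Fc.ed (nat_lit 11065) (nat_lit 3413) Col.e (nat_lit 4301) Dv.df))
(Tr.lf (Fc.ed (nat_lit 11066) (nat_lit 4301) Col.d (nat_lit 4282) (Dv.wd (nat_lit 59) [Mv.b (nat_lit 11015), Mv.f (nat_lit 3937), Mv.f (nat_lit 3591), Mv.f (nat_lit 8688), Mv.f (nat_lit 11065)]))))))))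
(Tr.nd (nat_lit 11077) (Tr.nd (nat_lit 11072) (Tr.nd (nat_lit 11069) (Tr.nd (nat_lit 11068) (Tr.lf (Fc.ed (nat_lit 11067) (nat_lit 1951) Col.e (nat_lit 4302) Dv.df))
(Tr.lf (Fc.ed (nat_lit 11068) (nat_lit 3126) Col.a (nat_lit 4303) Dv.df)))
(Tr.nd (nat_lit 11070) (Tr.lf (Fc.ed (nat_lit 11069) (nat_lit 4303) Col.f (nat_lit 2858) (Dv.wd (nat_lit 35) [Mv.b (nat_lit 9263), Mv.b (nat_lit 9262), Mv.f (nat_lit 11068)])))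
(Tr.nd (nat_lit 11071) (Tr.lf (Fc.ed (nat_lit 11070) (nat_lit 4220) Col.d (nat_lit 4304) Dv.df))
(Tr.lf (Fc.ed (nat_lit 11071) (nat_lit 4072) Col.c (nat_lit 4305) Dv.df)))))
(Tr.nd (nat_lit 11074) (Tr.nd (nat_lit 11073) (Tr.lf (Fc.ed (nat_lit 11072) (nat_lit 4305) Col.b (nat_lit 4275) (Dv.wd (nat_lit 101) [Mv.b (nat_lit 10997), Mv.b (nat_lit 10555), Mv.b (nat_lit 10560), Mv.b (nat_lit 6913), Mv.f (nat_lit 5793), Mv.b (nat_lit 3548), Mv.f (nat_lit 4208), Mv.b (nat_lit 5620), Mv.f (nat_lit 9933), Mv.f (nat_lit 11071)])))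
(Tr.lf (Fc.ed (nat_lit 11073) (nat_lit 2625) Col.g (nat_lit 4306) Dv.df)))
(Tr.nd (nat_lit 11075) (Tr.lf (Fc.ed (nat_lit 11074) (nat_lit 4097) Col.gi (nat_lit 4307) Dv.df))
(Tr.nd (nat_lit 11076) (Tr.lf (Fc.ed (nat_lit 11075) (nat_lit 4307) Col.gi (nat_lit 3696) (Dv.wd (nat_lit 24) [Mv.b (nat_lit 9460), Mv.b (nat_lit 10570), Mv.f (nat_lit 11074)])))
(Tr.lf (Fc.ed (nat_lit 11076) (nat_lit 4307) Col.f (nat_lit 3950) (Dv.wd (nat_lit 13) [Mv.b (nat_lit 10680), Mv.b (nat_lit 10572), Mv.f (nat_lit 11074)])))))))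
(Tr.nd (nat_lit 11082) (Tr.nd (nat_lit 11079) (Tr.nd (nat_lit 11078) (Tr.lf (Fc.ed (nat_lit 11077) (nat_lit 4307) Col.d (nat_lit 3872) (Dv.wd (nat_lit 48) [Mv.b (nat_lit 9550), Mv.f (nat_lit 5811), Mv.f (nat_lit 5719), Mv.b (nat_lit 10147), Mv.b (nat_lit 7743), Mv.f (nat_lit 2949), Mv.f (nat_lit 5631), Mv.b (nat_lit 10571), Mv.f (nat_lit 11074)])))
(Tr.lf (Fc.ed (nat_lit 11078) (nat_lit 3896) Col.c (nat_lit 4308) Dv.df)))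
(Tr.nd (nat_lit 11080) (Tr.lf (Fc.ed (nat_lit 11079) (nat_lit 4308) Col.b (nat_lit 3617) (Dv.wd (nat_lit 101) [Mv.f (nat_lit 9081), Mv.f (nat_lit 6520), Mv.f (nat_lit 5855), Mv.b (nat_lit 6187), Mv.b (nat_lit 6212), Mv.f (nat_lit 6211), Mv.b (nat_lit 3572), Mv.f (nat_lit 4795), Mv.b (nat_lit 9588), Mv.f (nat_lit 11078)])))
(Tr.nd (nat_lit 11081) (Tr.lf (Fc.ed (nat_lit 11080) (nat_lit 3907) Col.f (nat_lit 4309) Dv.df))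
(Tr.lf (Fc.ed (nat_lit 11081) (nat_lit 4309) Col.a (nat_lit 3271) (Dv.wd (nat_lit 23) [Mv.f (nat_lit 8395), Mv.f (nat_lit 9608), Mv.f (nat_lit 11080)]))))))
(Tr.nd (nat_lit 11085) (Tr.nd (nat_lit 11083) (Tr.lf (Fc.ed (nat_lit 11082) (nat_lit 2929) Col.e (nat_lit 4310) Dv.df))
(Tr.nd (nat_lit 11084) (Tr.lf (Fc.ed (nat_lit 11083) (nat_lit 3576) Col.d (nat_lit 4311) Dv.df))
(Tr.lf (Fc.ed (nat_lit 11084) (nat_lit 4311) Col.f (nat_lit 3874) (Dv.wd (nat_lit 11) [Mv.b (nat_lit 10674), Mv.b (nat_lit 9011), Mv.f (nat_lit 11083)])))))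
(Tr.nd (nat_lit 11086) (Tr.lf (Fc.ed (nat_lit 11085) (nat_lit 3025) Col.e (nat_lit 4312) Dv.df))
(Tr.nd (nat_lit 11087) (Tr.lf (Fc.ed (nat_lit 11086) (nat_lit 4312) Col.d (nat_lit 4179) (Dv.wd (nat_lit 91) [Mv.b (nat_lit 10798), Mv.f (nat_lit 8256), Mv.b (nat_lit 5880), Mv.b (nat_lit 5960), Mv.b (nat_lit 10217), Mv.f (nat_lit 5615), Mv.b (nat_lit 3882), Mv.f (nat_lit 3887), Mv.f (nat_lit 7879), Mv.f (nat_lit 11085)])))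
(Tr.lf (Fc.ed (nat_lit 11087) (nat_lit 2790) Col.a (nat_lit 4313) Dv.df)))))))))
(Tr.nd (nat_lit 11129) (Tr.nd (nat_lit 11108) (Tr.nd (nat_lit 11098) (Tr.nd (nat_lit 11093) (Tr.nd (nat_lit 11090) (Tr.nd (nat_lit 11089) (Tr.lf (Fc.ed (nat_lit 11088) (nat_lit 4313) Col.c (nat_lit 4079) (Dv.wd (nat_lit 33) [Mv.f (nat_lit 9945), Mv.b (nat_lit 7385), Mv.f (nat_lit 11087)])))
(Tr.lf (Fc.ed (nat_lit 11089) (nat_lit 4313) Col.b (nat_lit 4235) (Dv.wd (nat_lit 65) [Mv.f (nat_lit 10903), Mv.f (nat_lit 8277), Mv.b (nat_lit 7077), Mv.f (nat_lit 7383), Mv.f (nat_lit 11087)]))))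
(Tr.nd (nat_lit 11091) (Tr.lf (Fc.ed (nat_lit 11090) (nat_lit 2657) Col.e (nat_lit 4314) Dv.df))
(Tr.nd (nat_lit 11092) (Tr.lf (Fc.ed (nat_lit 11091) (nat_lit 2307) Col.e (nat_lit 4315) Dv.df))
(Tr.lf (Fc.ed (nat_lit 11092) (nat_lit 4315) Col.a (nat_lit 4315) (Dv.wd (nat_lit 15) [Mv.b (nat_lit 11091), Mv.f (nat_lit 6312), Mv.f (nat_lit 11091)]))))))
(Tr.nd (nat_lit 11095) (Tr.nd (nat_lit 11094) (Tr.lf (Fc.ed (nat_lit 11093) (nat_lit 4315) Col.c (nat_lit 2194) (Dv.wd (nat_lit 18) [Mv.b (nat_lit 6066), Mv.f (nat_lit 6311), Mv.f (nat_lit 11091)])))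
(Tr.lf (Fc.ed (nat_lit 11094) (nat_lit 3830) Col.d (nat_lit 4316) Dv.df)))
(Tr.nd (nat_lit 11096) (Tr.lf (Fc.ed (nat_lit 11095) (nat_lit 2924) Col.gi (nat_lit 4317) Dv.df))
(Tr.nd (nat_lit 11097) (Tr.lf (Fc.ed (nat_lit 11096) (nat_lit 4317) Col.gi (nat_lit 2174) (Dv.wd (nat_lit 24) [Mv.f (nat_lit 7786), Mv.f (nat_lit 7787), Mv.f (nat_lit 11095)])))
(Tr.lf (Fc.ed (nat_lit 11097) (nat_lit 3078) Col.g (nat_lit 4318) Dv.df))))))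
(Tr.nd (nat_lit 11103) (Tr.nd (nat_lit 11100) (Tr.nd (nat_lit 11099) (Tr.lf (Fc.ed (nat_lit 11098) (nat_lit 4318) Col.g (nat_lit 1805) (Dv.wd (nat_lit 9) [Mv.b (nat_lit 5686), Mv.b (nat_lit 8004), Mv.f (nat_lit 11097)])))
(Tr.lf (Fc.ed (nat_lit 11099) (nat_lit 3785) Col.d (nat_lit 4319) Dv.df)))
(Tr.nd (nat_lit 11101) (Tr.lf (Fc.ed (nat_lit 11100) (nat_lit 4319) Col.a (nat_lit 2791) (Dv.wd (nat_lit 8) [Mv.f (nat_lit 7387), Mv.b (nat_lit 9402), Mv.f (nat_lit 11099)])))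
(Tr.nd (nat_lit 11102) (Tr.lf (Fc.ed (nat_lit 11101) (nat_lit 2663) Col.a (nat_lit 4320) Dv.df))
(Tr.lf (Fc.ed (nat_lit 11102) (nat_lit 4320) Col.f (nat_lit 4189) (Dv.wd (nat_lit 10) [Mv.f (nat_lit 10819), Mv.f (nat_lit 7106), Mv.f (nat_lit 11101)]))))))
(Tr.nd (nat_lit 11105) (Tr.nd (nat_lit 11104) (Tr.lf (Fc.ed (nat_lit 11103) (nat_lit 4246) Col.gi (nat_lit 4321) Dv.df))
(Tr.lf (Fc.ed (nat_lit 11104) (nat_lit 3694) Col.e (nat_lit 4322) Dv.df)))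
(Tr.nd (nat_lit 11106) (Tr.lf (Fc.ed (nat_lit 11105) (nat_lit 2570) Col.f (nat_lit 4323) Dv.df))
(Tr.nd (nat_lit 11107) (Tr.lf (Fc.ed (nat_lit 11106) (nat_lit 4323) Col.a (nat_lit 4323) (Dv.wd (nat_lit 16) [Mv.b (nat_lit 11105), Mv.f (nat_lit 6895), Mv.f (nat_lit 11105)])))
(Tr.lf (Fc.ed (nat_lit 11107) (nat_lit 4323) Col.c (nat_lit 4200) (Dv.wd (nat_lit 34) [Mv.b (nat_lit 10836), Mv.b (nat_lit 10810), Mv.f (nat_lit 11105)]))))))))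
(Tr.nd (nat_lit 11118) (Tr.nd (nat_lit 11113) (Tr.nd (nat_lit 11110) (Tr.nd (nat_lit 11109) (Tr.lf (Fc.ed (nat_lit 11108) (nat_lit 2436) Col.b (nat_lit 4324) Dv.df))
(Tr.lf (Fc.ed (nat_lit 11109) (nat_lit 4324) Col.e (nat_lit 3322) (Dv.wd (nat_lit 52) [Mv.b (nat_lit 8498), Mv.b (nat_lit 6586), Mv.f (nat_lit 11108)]))))
(Tr.nd (nat_lit 11111) (Tr.lf (Fc.ed (nat_lit 11110) (nat_lit 3900) Col.gi (nat_lit 4325) Dv.df))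
(Tr.nd (nat_lit 11112) (Tr.lf (Fc.ed (nat_lit 11111) (nat_lit 4325) Col.gi (nat_lit 3719) (Dv.wd (nat_lit 24) [Mv.f (nat_lit 9282), Mv.f (nat_lit 9595), Mv.f (nat_lit 11110)])))
(Tr.lf (Fc.ed (nat_lit 11112) (nat_lit 4173) Col.g (nat_lit 4326) Dv.df)))))
(Tr.nd (nat_lit 11115) (Tr.nd (nat_lit 11114) (Tr.lf (Fc.ed (nat_lit 11113) (nat_lit 2772) Col.f (nat_lit 4327) Dv.df))
(Tr.lf (Fc.ed (nat_lit 11114) (nat_lit 4327) Col.b (nat_lit 4323) (Dv.wd (nat_lit 66) [Mv.b (nat_lit 11105), Mv.b (nat_lit 7340), Mv.f (nat_lit 11113)]))))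
(Tr.nd (nat_lit 11116) (Tr.lf (Fc.ed (nat_lit 11115) (nat_lit 2856) Col.a (nat_lit 4328) Dv.df))
(Tr.nd (nat_lit 11117) (Tr.lf (Fc.ed (nat_lit 11116) (nat_lit 2838) Col.gi (nat_lit 4329) Dv.df))
(Tr.lf (Fc.ed (nat_lit 11117) (nat_lit 4329) Col.gi (nat_lit 2498) (Dv.wd (nat_lit 24) [Mv.b (nat_lit 8090), Mv.b (nat_lit 8089), Mv.f (nat_lit 11116)])))))))
(Tr.nd (nat_lit 11123) (Tr.nd (nat_lit 11120) (Tr.nd (nat_lit 11119) (Tr.lf (Fc.ed (nat_lit 11118) (nat_lit 3288) Col.d (nat_lit 4330) Dv.df))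
(Tr.lf (Fc.ed (nat_lit 11119) (nat_lit 4330) Col.gi (nat_lit 4279) (Dv.wd (nat_lit 111) [Mv.b (nat_lit 11008), Mv.f (nat_lit 6418), Mv.f (nat_lit 6420), Mv.f (nat_lit 5555), Mv.b (nat_lit 5557), Mv.f (nat_lit 3973), Mv.f (nat_lit 4127), Mv.f (nat_lit 8429), Mv.f (nat_lit 11118)]))))
(Tr.nd (nat_lit 11121) (Tr.lf (Fc.ed (nat_lit 11120) (nat_lit 2403) Col.g (nat_lit 4331) Dv.df))
(Tr.nd (nat_lit 11122) (Tr.lf (Fc.ed (nat_lit 11121) (nat_lit 3026) Col.a (nat_lit 4332) Dv.df))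
(Tr.lf (Fc.ed (nat_lit 11122) (nat_lit 4332) Col.f (nat_lit 2715) (Dv.wd (nat_lit 10) [Mv.b (nat_lit 7218), Mv.b (nat_lit 7882), Mv.f (nat_lit 11121)]))))))
(Tr.nd (nat_lit 11126) (Tr.nd (nat_lit 11124) (Tr.lf (Fc.ed (nat_lit 11123) (nat_lit 4015) Col.a (nat_lit 4333) Dv.df))
(Tr.nd (nat_lit 11125) (Tr.lf (Fc.ed (nat_lit 11124) (nat_lit 2564) Col.d (nat_lit 4334) Dv.df))
(Tr.lf (Fc.ed (nat_lit 11125) (nat_lit 3948) Col.gi (nat_lit 4335) Dv.df))))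
(Tr.nd (nat_lit 11127) (Tr.lf (Fc.ed (nat_lit 11126) (nat_lit 4335) Col.gi (nat_lit 2591) (Dv.wd (nat_lit 24) [Mv.b (nat_lit 6948), Mv.f (nat_lit 9721), Mv.f (nat_lit 11125)])))
(Tr.nd (nat_lit 11128) (Tr.lf (Fc.ed (nat_lit 11127) (nat_lit 2328) Col.b (nat_lit 4336) Dv.df))
(Tr.lf (Fc.ed (nat_lit 11128) (nat_lit 4184) Col.d (nat_lit 4337) Dv.df))))))))
(Tr.nd (nat_lit 11150) (Tr.nd (nat_lit 11139) (Tr.nd (nat_lit 11134) (Tr.nd (nat_lit 11131) (Tr.nd (nat_lit 11130) (Tr.lf (Fc.ed (nat_lit 11129) (nat_lit 2541) Col.f (nat_lit 4338) Dv.df))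
(Tr.lf (Fc.ed (nat_lit 11130) (nat_lit 4338) Col.a (nat_lit 4338) (Dv.wd (nat_lit 16) [Mv.b (nat_lit 11129), Mv.f (nat_lit 6839), Mv.f (nat_lit 11129)]))))
(Tr.nd (nat_lit 11132) (Tr.lf (Fc.ed (nat_lit 11131) (nat_lit 4338) Col.c (nat_lit 4298) (Dv.wd (nat_lit 34) [Mv.f (nat_lit 11059), Mv.f (nat_lit 6838), Mv.f (nat_lit 11129)])))
(Tr.nd (nat_lit 11133) (Tr.lf (Fc.ed (nat_lit 11132) (nat_lit 4338) Col.d (nat_lit 4323) (Dv.wd (nat_lit 21) [Mv.b (nat_lit 11105), Mv.b (nat_lit 6894), Mv.f (nat_lit 11129)])))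
(Tr.lf (Fc.ed (nat_lit 11133) (nat_lit 2684) Col.a (nat_lit 4339) Dv.df)))))
(Tr.nd (nat_lit 11136) (Tr.nd (nat_lit 11135) (Tr.lf (Fc.ed (nat_lit 11134) (nat_lit 4339) Col.f (nat_lit 3022) (Dv.wd (nat_lit 35) [Mv.b (nat_lit 9305), Mv.b (nat_lit 9304), Mv.f (nat_lit 11133)])))
(Tr.lf (Fc.ed (nat_lit 11135) (nat_lit 2514) Col.g (nat_lit 4340) Dv.df)))
(Tr.nd (nat_lit 11137) (Tr.lf (Fc.ed (nat_lit 11136) (nat_lit 4340) Col.g (nat_lit 3340) (Dv.wd (nat_lit 9) [Mv.f (nat_lit 8539), Mv.b (nat_lit 6769), Mv.f (nat_lit 11135)])))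
(Tr.nd (nat_lit 11138) (Tr.lf (Fc.ed (nat_lit 11137) (nat_lit 3961) Col.a (nat_lit 4341) Dv.df))
(Tr.lf (Fc.ed (nat_lit 11138) (nat_lit 4341) Col.d (nat_lit 4003) (Dv.wd (nat_lit 28) [Mv.f (nat_lit 10642), Mv.f (nat_lit 9741), Mv.f (nat_lit 11137)])))))))
(Tr.nd (nat_lit 11144) (Tr.nd (nat_lit 11141) (Tr.nd (nat_lit 11140) (Tr.lf (Fc.ed (nat_lit 11139) (nat_lit 4341) Col.b (nat_lit 2101) (Dv.wd (nat_lit 65) [Mv.b (nat_lit 10663), Mv.b (nat_lit 9743), Mv.f (nat_lit 10651), Mv.b (nat_lit 10565), Mv.f (nat_lit 11137)])))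
(Tr.lf (Fc.ed (nat_lit 11140) (nat_lit 4269) Col.f (nat_lit 4341) (Dv.wd (nat_lit 125) [Mv.f (nat_lit 11139), Mv.b (nat_lit 10666), Mv.b (nat_lit 10985)]))))
(Tr.nd (nat_lit 11142) (Tr.lf (Fc.ed (nat_lit 11141) (nat_lit 3238) Col.gi (nat_lit 4341) (Dv.wd (nat_lit 111) [Mv.f (nat_lit 11138), Mv.b (nat_lit 9810), Mv.b (nat_lit 10382), Mv.b (nat_lit 10385), Mv.b (nat_lit 5909), Mv.f (nat_lit 8970), Mv.f (nat_lit 10214), Mv.f (nat_lit 8331), Mv.b (nat_lit 8335)])))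
(Tr.nd (nat_lit 11143) (Tr.lf (Fc.ed (nat_lit 11142) (nat_lit 4341) Col.gi (nat_lit 3041) (Dv.wd (nat_lit 24) [Mv.b (nat_lit 8019), Mv.f (nat_lit 10205), Mv.f (nat_lit 11141)])))
(Tr.lf (Fc.ed (nat_lit 11143) (nat_lit 3894) Col.f (nat_lit 3961) (Dv.wd (nat_lit 13) [Mv.f (nat_lit 11137), Mv.f (nat_lit 11142), Mv.f (nat_lit 9584)]))))))
(Tr.nd (nat_lit 11147) (Tr.nd (nat_lit 11145) (Tr.lf (Fc.ed (nat_lit 11144) (nat_lit 4269) Col.a (nat_lit 3894) (Dv.wd (nat_lit 79) [Mv.f (nat_lit 11143), Mv.f (nat_lit 11137), Mv.b (nat_lit 11140)])))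
(Tr.nd (nat_lit 11146) (Tr.lf (Fc.ed (nat_lit 11145) (nat_lit 3702) Col.d (nat_lit 3894) (Dv.wd (nat_lit 90) [Mv.f (nat_lit 11143), Mv.b (nat_lit 9741), Mv.f (nat_lit 10647)])))
(Tr.lf (Fc.ed (nat_lit 11146) (nat_lit 3894) Col.gi (nat_lit 3238) (Dv.wd (nat_lit 12) [Mv.f (nat_lit 11141), Mv.b (nat_lit 11140), Mv.f (nat_lit 11144)])))))
(Tr.nd (nat_lit 11148) (Tr.lf (Fc.ed (nat_lit 11147) (nat_lit 4027) Col.b (nat_lit 4342) Dv.df))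
(Tr.nd (nat_lit 11149) (Tr.lf (Fc.ed (nat_lit 11148) (nat_lit 4342) Col.g (nat_lit 4288) (Dv.wd (nat_lit 118) [Mv.f (nat_lit 11039), Mv.f (nat_lit 6609), Mv.b (nat_lit 3981), Mv.b (nat_lit 2795), Mv.f (nat_lit 2633), Mv.b (nat_lit 2606), Mv.f (nat_lit 2607), Mv.f (nat_lit 4514), Mv.b (nat_lit 9852), Mv.f (nat_lit 11147)])))
(Tr.lf (Fc.ed (nat_lit 11149) (nat_lit 3274) Col.gi (nat_lit 4343) Dv.df)))))))
(Tr.nd (nat_lit 11160) (Tr.nd (nat_lit 11155) (Tr.nd (nat_lit 11152) (Tr.nd (nat_lit 11151) (Tr.lf (Fc.ed (nat_lit 11150) (nat_lit 4343) Col.gi (nat_lit 2321) (Dv.wd (nat_lit 24) [Mv.f (nat_lit 8374), Mv.b (nat_lit 8400), Mv.f (nat_lit 11149)])))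
(Tr.lf (Fc.ed (nat_lit 11151) (nat_lit 2385) Col.e (nat_lit 4344) Dv.df)))
(Tr.nd (nat_lit 11153) (Tr.lf (Fc.ed (nat_lit 11152) (nat_lit 4344) Col.b (nat_lit 4315) (Dv.wd (nat_lit 49) [Mv.b (nat_lit 11091), Mv.f (nat_lit 6477), Mv.f (nat_lit 11151)])))
(Tr.nd (nat_lit 11154) (Tr.lf (Fc.ed (nat_lit 11153) (nat_lit 3363) Col.c (nat_lit 4344) (Dv.wd (nat_lit 152) [Mv.f (nat_lit 11152), Mv.f (nat_lit 11093), Mv.f (nat_lit 6068), Mv.f (nat_lit 5584), Mv.f (nat_lit 8587)])))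
(Tr.lf (Fc.ed (nat_lit 11154) (nat_lit 4028) Col.g (nat_lit 4345) Dv.df)))))
(Tr.nd (nat_lit 11157) (Tr.nd (nat_lit 11156) (Tr.lf (Fc.ed (nat_lit 11155) (nat_lit 2202) Col.d (nat_lit 4346) Dv.df))
(Tr.lf (Fc.ed (nat_lit 11156) (nat_lit 1750) Col.gi (nat_lit 4347) Dv.df)))
(Tr.nd (nat_lit 11158) (Tr.lf (Fc.ed (nat_lit 11157) (nat_lit 4347) Col.gi (nat_lit 3089) (Dv.wd (nat_lit 24) [Mv.b (nat_lit 8026), Mv.b (nat_lit 5418), Mv.f (nat_lit 11156)])))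
(Tr.nd (nat_lit 11159) (Tr.lf (Fc.ed (nat_lit 11158) (nat_lit 4236) Col.a (nat_lit 4348) Dv.df))
(Tr.lf (Fc.ed (nat_lit 11159) (nat_lit 4348) Col.f (nat_lit 2530) (Dv.wd (nat_lit 35) [Mv.b (nat_lit 6810), Mv.f (nat_lit 10905), Mv.f (nat_lit 11158)])))))))
(Tr.nd (nat_lit 11165) (Tr.nd (nat_lit 11162) (Tr.nd (nat_lit 11161) (Tr.lf (Fc.ed (nat_lit 11160) (nat_lit 4195) Col.a (nat_lit 4349) Dv.df))
(Tr.lf (Fc.ed (nat_lit 11161) (nat_lit 4349) Col.e (nat_lit 1486) (Dv.wd (nat_lit 56) [Mv.b (nat_lit 4470), Mv.f (nat_lit 10829), Mv.f (nat_lit 11160)]))))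
(Tr.nd (nat_lit 11163) (Tr.lf (Fc.ed (nat_lit 11162) (nat_lit 1872) Col.c (nat_lit 4350) Dv.df))
(Tr.nd (nat_lit 11164) (Tr.lf (Fc.ed (nat_lit 11163) (nat_lit 4350) Col.f (nat_lit 4253) (Dv.wd (nat_lit 26) [Mv.b (nat_lit 10939), Mv.f (nat_lit 10945), Mv.f (nat_lit 11162)])))
(Tr.lf (Fc.ed (nat_lit 11164) (nat_lit 2757) Col.b (nat_lit 4350) (Dv.wd (nat_lit 107) [Mv.f (nat_lit 11163), Mv.f (nat_lit 10940), Mv.f (nat_lit 8935)]))))))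
(Tr.nd (nat_lit 11168) (Tr.nd (nat_lit 11166) (Tr.lf (Fc.ed (nat_lit 11165) (nat_lit 4350) Col.g (nat_lit 3224) (Dv.wd (nat_lit 118) [Mv.f (nat_lit 8305), Mv.f (nat_lit 3475), Mv.f (nat_lit 2648), Mv.b (nat_lit 496), Mv.f (nat_lit 2598), Mv.f (nat_lit 539), Mv.f (nat_lit 2622), Mv.b (nat_lit 4004), Mv.f (nat_lit 11030), Mv.f (nat_lit 11164)])))
(Tr.nd (nat_lit 11167) (Tr.lf (Fc.ed (nat_lit 11166) (nat_lit 2554) Col.g (nat_lit 4350) (Dv.wd (nat_lit 17) [Mv.f (nat_lit 11165), Mv.b (nat_lit 8304), Mv.f (nat_lit 7827)])))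
(Tr.lf (Fc.ed (nat_lit 11167) (nat_lit 2597) Col.a (nat_lit 4351) Dv.df))))
(Tr.nd (nat_lit 11169) (Tr.lf (Fc.ed (nat_lit 11168) (nat_lit 4351) Col.f (nat_lit 2414) (Dv.wd (nat_lit 35) [Mv.b (nat_lit 9817), Mv.b (nat_lit 9816), Mv.f (nat_lit 11167)])))
(Tr.nd (nat_lit 11170) (Tr.lf (Fc.ed (nat_lit 11169) (nat_lit 3913) Col.gi (nat_lit 4352) Dv.df))
(Tr.lf (Fc.ed (nat_lit 11170) (nat_lit 4352) Col.gi (nat_lit 4029) (Dv.wd (nat_lit 24) [Mv.b (nat_lit 9855), Mv.b (nat_lit 9619), Mv.f (nat_lit 11169)])))))))))))))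
(Tr.nd (nat_lit 11499) (Tr.nd (nat_lit 11335) (Tr.nd (nat_lit 11253) (Tr.nd (nat_lit 11212) (Tr.nd (nat_lit 11191) (Tr.nd (nat_lit 11181) (Tr.nd (nat_lit 11176) (Tr.nd (nat_lit 11173) (Tr.nd (nat_lit 11172) (Tr.lf (Fc.ed (nat_lit 11171) (nat_lit 4116) Col.a (nat_lit 4353) Dv.df))
(Tr.lf (Fc.ed (nat_lit 11172) (nat_lit 4353) Col.f (nat_lit 4300) (Dv.wd (nat_lit 10) [Mv.f (nat_lit 11064), Mv.b (nat_lit 10607), Mv.f (nat_lit 11171)]))))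
(Tr.nd (nat_lit 11174) (Tr.lf (Fc.ed (nat_lit 11173) (nat_lit 4110) Col.gi (nat_lit 4354) Dv.df))
(Tr.nd (nat_lit 11175) (Tr.lf (Fc.ed (nat_lit 11174) (nat_lit 4271) Col.e (nat_lit 4355) Dv.df))
(Tr.lf (Fc.ed (nat_lit 11175) (nat_lit 4355) Col.b (nat_lit 2369) (Dv.wd (nat_lit 49) [Mv.b (nat_lit 6453), Mv.b (nat_lit 10989), Mv.f (nat_lit 11174)]))))))
(Tr.nd (nat_lit 11178) (Tr.nd (nat_lit 11177) (Tr.lf (Fc.ed (nat_lit 11176) (nat_lit 2196) Col.g (nat_lit 4356) Dv.df))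
(Tr.lf (Fc.ed (nat_lit 11177) (nat_lit 4356) Col.g (nat_lit 1835) (Dv.wd (nat_lit 9) [Mv.b (nat_lit 5516), Mv.f (nat_lit 6072), Mv.f (nat_lit 11176)]))))
(Tr.nd (nat_lit 11179) (Tr.lf (Fc.ed (nat_lit 11178) (nat_lit 3785) Col.g (nat_lit 4357) Dv.df))
(Tr.nd (nat_lit 11180) (Tr.lf (Fc.ed (nat_lit 11179) (nat_lit 4357) Col.g (nat_lit 1989) (Dv.wd (nat_lit 9) [Mv.b (nat_lit 9749), Mv.b (nat_lit 9748), Mv.f (nat_lit 11178)])))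
(Tr.lf (Fc.ed (nat_lit 11180) (nat_lit 2082) Col.gi (nat_lit 4358) Dv.df))))))
(Tr.nd (nat_lit 11186) (Tr.nd (nat_lit 11183) (Tr.nd (nat_lit 11182) (Tr.lf (Fc.ed (nat_lit 11181) (nat_lit 2640) Col.g (nat_lit 4359) Dv.df))
(Tr.lf (Fc.ed (nat_lit 11182) (nat_lit 4359) Col.g (nat_lit 1964) (Dv.wd (nat_lit 9) [Mv.f (nat_lit 6392), Mv.b (nat_lit 7052), Mv.f (nat_lit 11181)]))))
(Tr.nd (nat_lit 11184) (Tr.lf (Fc.ed (nat_lit 11183) (nat_lit 2612) Col.f (nat_lit 4360) Dv.df))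
(Tr.nd (nat_lit 11185) (Tr.lf (Fc.ed (nat_lit 11184) (nat_lit 4360) Col.a (nat_lit 3176) (Dv.wd (nat_lit 16) [Mv.b (nat_lit 10826), Mv.b (nat_lit 10825), Mv.f (nat_lit 11183)])))
(Tr.lf (Fc.ed (nat_lit 11185) (nat_lit 2276) Col.g (nat_lit 4361) Dv.df)))))
(Tr.nd (nat_lit 11188) (Tr.nd (nat_lit 11187) (Tr.lf (Fc.ed (nat_lit 11186) (nat_lit 4361) Col.g (nat_lit 3254) (Dv.wd (nat_lit 9) [Mv.b (nat_lit 8553), Mv.f (nat_lit 8554), Mv.f (nat_lit 11185)])))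
(Tr.lf (Fc.ed (nat_lit 11187) (nat_lit 3530) Col.f (nat_lit 4362) Dv.df)))
(Tr.nd (nat_lit 11189) (Tr.lf (Fc.ed (nat_lit 11188) (nat_lit 4362) Col.a (nat_lit 4297) (Dv.wd (nat_lit 23) [Mv.b (nat_lit 11056), Mv.f (nat_lit 8921), Mv.f (nat_lit 11187)])))
(Tr.nd (nat_lit 11190) (Tr.lf (Fc.ed (nat_lit 11189) (nat_lit 2722) Col.a (nat_lit 4363) Dv.df))
(Tr.lf (Fc.ed (nat_lit 11190) (nat_lit 4363) Col.e (nat_lit 3794) (Dv.wd (nat_lit 56) [Mv.f (nat_lit 9419), Mv.f (nat_lit 7233), Mv.f (nat_lit 11189)]))))))))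
(Tr.nd (nat_lit 11201) (Tr.nd (nat_lit 11196) (Tr.nd (nat_lit 11193) (Tr.nd (nat_lit 11192) (Tr.lf (Fc.ed (nat_lit 11191) (nat_lit 2789) Col.b (nat_lit 4364) Dv.df))
(Tr.lf (Fc.ed (nat_lit 11192) (nat_lit 4364) Col.g (nat_lit 3710) (Dv.wd (nat_lit 118) [Mv.b (nat_lit 11033), Mv.b (nat_lit 9681), Mv.b (nat_lit 6070), Mv.b (nat_lit 2503), Mv.f (nat_lit 2684), Mv.f (nat_lit 552), Mv.b (nat_lit 2741), Mv.f (nat_lit 4681), Mv.b (nat_lit 7382), Mv.f (nat_lit 11191)]))))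
(Tr.nd (nat_lit 11194) (Tr.lf (Fc.ed (nat_lit 11193) (nat_lit 4342) Col.d (nat_lit 4364) (Dv.wd (nat_lit 89) [Mv.f (nat_lit 11192), Mv.b (nat_lit 11033), Mv.b (nat_lit 9681), Mv.b (nat_lit 6070), Mv.b (nat_lit 2314), Mv.f (nat_lit 3981), Mv.b (nat_lit 6609), Mv.b (nat_lit 11039), Mv.b (nat_lit 11148)])))
(Tr.nd (nat_lit 11195) (Tr.lf (Fc.al (nat_lit 11194) (nat_lit 4273) (nat_lit 4027) (Dv.wd (nat_lit 126) [Mv.f (nat_lit 11147), Mv.f (nat_lit 11193), Mv.b (nat_lit 11191), Mv.f (nat_lit 10992)])))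
(Tr.lf (Fc.ed (nat_lit 11195) (nat_lit 4027) Col.d (nat_lit 2789) (Dv.wd (nat_lit 120) [Mv.f (nat_lit 10992), Mv.f (nat_lit 11194)]))))))
(Tr.nd (nat_lit 11198) (Tr.nd (nat_lit 11197) (Tr.lf (Fc.ed (nat_lit 11196) (nat_lit 3189) Col.d (nat_lit 1508) (Dv.wd (nat_lit 85) [Mv.b (nat_lit 9852), Mv.f (nat_lit 11195), Mv.f (nat_lit 10617), Mv.f (nat_lit 10802), Mv.b (nat_lit 10804), Mv.b (nat_lit 8324), Mv.b (nat_lit 4705), Mv.f (nat_lit 4467), Mv.b (nat_lit 8238)])))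
(Tr.lf (Fc.ed (nat_lit 11197) (nat_lit 539) Col.d (nat_lit 456) (Dv.wd (nat_lit 89) [Mv.b (nat_lit 1039), Mv.f (nat_lit 2607), Mv.f (nat_lit 4514), Mv.b (nat_lit 9852), Mv.f (nat_lit 11195), Mv.f (nat_lit 7382), Mv.b (nat_lit 4681), Mv.f (nat_lit 2741), Mv.b (nat_lit 2737)]))))
(Tr.nd (nat_lit 11199) (Tr.lf (Fc.ed (nat_lit 11198) (nat_lit 1582) Col.d (nat_lit 3180) (Dv.wd (nat_lit 51) [Mv.b (nat_lit 8217), Mv.b (nat_lit 4467), Mv.b (nat_lit 2746), Mv.b (nat_lit 1854), Mv.b (nat_lit 2737), Mv.f (nat_lit 11197), Mv.b (nat_lit 2831), Mv.b (nat_lit 2386), Mv.b (nat_lit 4684)])))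
(Tr.nd (nat_lit 11200) (Tr.lf (Fc.al (nat_lit 11199) (nat_lit 1966) (nat_lit 1310) (Dv.wd (nat_lit 74) [Mv.b (nat_lit 3979), Mv.f (nat_lit 1170), Mv.f (nat_lit 2769), Mv.b (nat_lit 1854), Mv.b (nat_lit 2737), Mv.f (nat_lit 11197), Mv.b (nat_lit 2831), Mv.b (nat_lit 2735), Mv.b (nat_lit 2760), Mv.b (nat_lit 1164), Mv.f (nat_lit 5510)])))
(Tr.lf (Fc.ed (nat_lit 11200) (nat_lit 1310) Col.d (nat_lit 498) (Dv.wd (nat_lit 120) [Mv.f (nat_lit 5510), Mv.f (nat_lit 11199)])))))))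
(Tr.nd (nat_lit 11206) (Tr.nd (nat_lit 11203) (Tr.nd (nat_lit 11202) (Tr.lf (Fc.al (nat_lit 11201) (nat_lit 2135) (nat_lit 456) (Dv.wd (nat_lit 162) [Mv.b (nat_lit 11197), Mv.b (nat_lit 1296), Mv.b (nat_lit 2739), Mv.f (nat_lit 1169), Mv.f (nat_lit 3979), Mv.f (nat_lit 11200), Mv.f (nat_lit 2763), Mv.f (nat_lit 2743), Mv.f (nat_lit 489), Mv.f (nat_lit 1038), Mv.f (nat_lit 5930)])))
(Tr.lf (Fc.ed (nat_lit 11202) (nat_lit 456) Col.e (nat_lit 455) (Dv.wd (nat_lit 117) [Mv.f (nat_lit 5930), Mv.f (nat_lit 11201)]))))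
(Tr.nd (nat_lit 11204) (Tr.lf (Fc.al (nat_lit 11203) (nat_lit 2389) (nat_lit 498) (Dv.wd (nat_lit 38) [Mv.f (nat_lit 1164), Mv.f (nat_lit 2761), Mv.f (nat_lit 2739), Mv.f (nat_lit 1296), Mv.f (nat_lit 11197), Mv.f (nat_lit 11202), Mv.b (nat_lit 1038), Mv.b (nat_lit 497), Mv.f (nat_lit 883), Mv.f (nat_lit 2473), Mv.f (nat_lit 6485)])))
(Tr.nd (nat_lit 11205) (Tr.lf (Fc.ed (nat_lit 11204) (nat_lit 498) Col.e (nat_lit 874) (Dv.wd (nat_lit 117) [Mv.f (nat_lit 6485), Mv.f (nat_lit 11203)])))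
(Tr.lf (Fc.al (nat_lit 11205) (nat_lit 1817) (nat_lit 271) (Dv.wd (nat_lit 146) [Mv.f (nat_lit 2769), Mv.b (nat_lit 1854), Mv.b (nat_lit 2737), Mv.f (nat_lit 11197), Mv.f (nat_lit 11202), Mv.f (nat_lit 2830), Mv.f (nat_lit 2824), Mv.f (nat_lit 968), Mv.b (nat_lit 2827), Mv.f (nat_lit 2473), Mv.b (nat_lit 5203)]))))))
(Tr.nd (nat_lit 11209) (Tr.nd (nat_lit 11207) (Tr.lf (Fc.al (nat_lit 11206) (nat_lit 501) (nat_lit 874) (Dv.wd (nat_lit 128) [Mv.b (nat_lit 5203), Mv.f (nat_lit 11205), Mv.b (nat_lit 1170)])))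
(Tr.nd (nat_lit 11208) (Tr.lf (Fc.al (nat_lit 11207) (nat_lit 562) (nat_lit 901) (Dv.wd (nat_lit 129) [Mv.b (nat_lit 10751), Mv.f (nat_lit 11205), Mv.f (nat_lit 1347)])))
(Tr.lf (Fc.al (nat_lit 11208) (nat_lit 1841) (nat_lit 372) (Dv.wd (nat_lit 120) [Mv.f (nat_lit 2473), Mv.b (nat_lit 11206), Mv.b (nat_lit 5254)])))))
(Tr.nd (nat_lit 11210) (Tr.lf (Fc.al (nat_lit 11209) (nat_lit 1310) (nat_lit 498) (Dv.wd (nat_lit 117) [Mv.f (nat_lit 11204), Mv.b (nat_lit 11206), Mv.f (nat_lit 3979)])))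
(Tr.nd (nat_lit 11211) (Tr.lf (Fc.al (nat_lit 11210) (nat_lit 2071) (nat_lit 435) (Dv.wd (nat_lit 120) [Mv.b (nat_lit 10747), Mv.b (nat_lit 11207), Mv.b (nat_lit 5723)])))
(Tr.lf (Fc.ed (nat_lit 11211) (nat_lit 372) Col.d (nat_lit 501) (Dv.wd (nat_lit 120) [Mv.b (nat_lit 5254), Mv.f (nat_lit 11208)])))))))))
(Tr.nd (nat_lit 11232) (Tr.nd (nat_lit 11222) (Tr.nd (nat_lit 11217) (Tr.nd (nat_lit 11214) (Tr.nd (nat_lit 11213) (Tr.lf (Fc.al (nat_lit 11212) (nat_lit 407) (nat_lit 1628) (Dv.wd (nat_lit 30) [Mv.f (nat_lit 5253), Mv.f (nat_lit 11208), Mv.f (nat_lit 10749)])))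
(Tr.lf (Fc.ed (nat_lit 11213) (nat_lit 498) Col.d (nat_lit 498) (Dv.wd (nat_lit 120) [Mv.b (nat_lit 11200), Mv.f (nat_lit 11209)]))))
(Tr.nd (nat_lit 11215) (Tr.lf (Fc.ed (nat_lit 11214) (nat_lit 498) Col.e (nat_lit 501) (Dv.wd (nat_lit 117) [Mv.f (nat_lit 3979), Mv.f (nat_lit 11209)])))
(Tr.nd (nat_lit 11216) (Tr.lf (Fc.ed (nat_lit 11215) (nat_lit 435) Col.d (nat_lit 562) (Dv.wd (nat_lit 120) [Mv.b (nat_lit 5723), Mv.f (nat_lit 11210)])))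
(Tr.lf (Fc.ed (nat_lit 11216) (nat_lit 407) Col.d (nat_lit 1105) (Dv.wd (nat_lit 120) [Mv.f (nat_lit 4780), Mv.b (nat_lit 11212)]))))))
(Tr.nd (nat_lit 11219) (Tr.nd (nat_lit 11218) (Tr.lf (Fc.al (nat_lit 11217) (nat_lit 1597) (nat_lit 455) (Dv.wd (nat_lit 74) [Mv.b (nat_lit 11202), Mv.b (nat_lit 2831), Mv.b (nat_lit 2735), Mv.b (nat_lit 2760), Mv.b (nat_lit 1164), Mv.f (nat_lit 11213), Mv.f (nat_lit 2763), Mv.f (nat_lit 2744), Mv.f (nat_lit 640), Mv.b (nat_lit 2702), Mv.f (nat_lit 4704)])))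
(Tr.lf (Fc.al (nat_lit 11218) (nat_lit 1886) (nat_lit 649) (Dv.wd (nat_lit 120) [Mv.f (nat_lit 4704), Mv.f (nat_lit 11217), Mv.f (nat_lit 5348)]))))
(Tr.nd (nat_lit 11220) (Tr.lf (Fc.ed (nat_lit 11219) (nat_lit 649) Col.d (nat_lit 455) (Dv.wd (nat_lit 120) [Mv.f (nat_lit 5348), Mv.f (nat_lit 11218)])))
(Tr.nd (nat_lit 11221) (Tr.lf (Fc.al (nat_lit 11220) (nat_lit 1716) (nat_lit 4132) (Dv.wd (nat_lit 51) [Mv.b (nat_lit 10632), Mv.b (nat_lit 7750), Mv.f (nat_lit 4528), Mv.b (nat_lit 2703), Mv.f (nat_lit 640), Mv.b (nat_lit 2702), Mv.f (nat_lit 11219), Mv.f (nat_lit 2830), Mv.f (nat_lit 2085), Mv.b (nat_lit 4989)])))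
(Tr.lf (Fc.ed (nat_lit 11221) (nat_lit 1716) Col.d (nat_lit 2965) (Dv.wd (nat_lit 120) [Mv.f (nat_lit 10632), Mv.b (nat_lit 11220)])))))))
(Tr.nd (nat_lit 11227) (Tr.nd (nat_lit 11224) (Tr.nd (nat_lit 11223) (Tr.lf (Fc.ed (nat_lit 11222) (nat_lit 1105) Col.e (nat_lit 558) (Dv.wd (nat_lit 131) [Mv.b (nat_lit 1336), Mv.b (nat_lit 1114), Mv.f (nat_lit 2740), Mv.f (nat_lit 11219), Mv.b (nat_lit 11202), Mv.b (nat_lit 1039), Mv.f (nat_lit 2608), Mv.f (nat_lit 529), Mv.b (nat_lit 2601), Mv.f (nat_lit 11216)])))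
(Tr.lf (Fc.ed (nat_lit 11223) (nat_lit 514) Col.d (nat_lit 514) (Dv.wd (nat_lit 43) [Mv.b (nat_lit 2732), Mv.f (nat_lit 2735), Mv.f (nat_lit 1009), Mv.b (nat_lit 951), Mv.f (nat_lit 11216), Mv.f (nat_lit 11222), Mv.f (nat_lit 1337), Mv.b (nat_lit 2744), Mv.f (nat_lit 2743), Mv.f (nat_lit 1193)]))))
(Tr.nd (nat_lit 11225) (Tr.lf (Fc.ed (nat_lit 11224) (nat_lit 514) Col.e (nat_lit 514) (Dv.wd (nat_lit 70) [Mv.b (nat_lit 1193), Mv.f (nat_lit 489), Mv.b (nat_lit 497), Mv.f (nat_lit 883), Mv.f (nat_lit 11211), Mv.b (nat_lit 11214), Mv.f (nat_lit 1164), Mv.f (nat_lit 2760), Mv.f (nat_lit 2732), Mv.f (nat_lit 11223)])))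
(Tr.nd (nat_lit 11226) (Tr.lf (Fc.al (nat_lit 11225) (nat_lit 2571) (nat_lit 405) (Dv.wd (nat_lit 39) [Mv.b (nat_lit 1009), Mv.b (nat_lit 2735), Mv.f (nat_lit 2732), Mv.f (nat_lit 11224), Mv.f (nat_lit 11223), Mv.b (nat_lit 1193), Mv.b (nat_lit 2743), Mv.f (nat_lit 2744), Mv.b (nat_lit 1337), Mv.b (nat_lit 4151), Mv.f (nat_lit 6897)])))
(Tr.lf (Fc.al (nat_lit 11226) (nat_lit 414) (nat_lit 1881) (Dv.wd (nat_lit 128) [Mv.b (nat_lit 6898), Mv.f (nat_lit 11225), Mv.f (nat_lit 961)]))))))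
(Tr.nd (nat_lit 11229) (Tr.nd (nat_lit 11228) (Tr.lf (Fc.al (nat_lit 11227) (nat_lit 845) (nat_lit 544) (Dv.wd (nat_lit 120) [Mv.b (nat_lit 5340), Mv.b (nat_lit 11226), Mv.f (nat_lit 10744)])))
(Tr.lf (Fc.ed (nat_lit 11228) (nat_lit 544) Col.d (nat_lit 414) (Dv.wd (nat_lit 120) [Mv.f (nat_lit 10744), Mv.f (nat_lit 11227)]))))
(Tr.nd (nat_lit 11230) (Tr.lf (Fc.ed (nat_lit 11229) (nat_lit 3917) Col.d (nat_lit 1517) (Dv.wd (nat_lit 48) [Mv.f (nat_lit 4534), Mv.f (nat_lit 3067), Mv.f (nat_lit 1310), Mv.f (nat_lit 11228), Mv.b (nat_lit 2579), Mv.b (nat_lit 529), Mv.f (nat_lit 2607), Mv.f (nat_lit 6159), Mv.b (nat_lit 9624)])))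
(Tr.nd (nat_lit 11231) (Tr.lf (Fc.al (nat_lit 11230) (nat_lit 4183) (nat_lit 1638) (Dv.wd (nat_lit 78) [Mv.f (nat_lit 4799), Mv.b (nat_lit 2703), Mv.b (nat_lit 1311), Mv.f (nat_lit 11228), Mv.b (nat_lit 2579), Mv.b (nat_lit 2603), Mv.b (nat_lit 3263), Mv.f (nat_lit 10979), Mv.b (nat_lit 11014), Mv.b (nat_lit 11013)])))
(Tr.lf (Fc.ed (nat_lit 11231) (nat_lit 1638) Col.c (nat_lit 4281) (Dv.wd (nat_lit 103) [Mv.b (nat_lit 11013), Mv.f (nat_lit 11230)]))))))))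
(Tr.nd (nat_lit 11242) (Tr.nd (nat_lit 11237) (Tr.nd (nat_lit 11234) (Tr.nd (nat_lit 11233) (Tr.lf (Fc.ed (nat_lit 11232) (nat_lit 1638) Col.d (nat_lit 4064) (Dv.wd (nat_lit 120) [Mv.f (nat_lit 10805), Mv.f (nat_lit 11230)])))
(Tr.lf (Fc.ed (nat_lit 11233) (nat_lit 1517) Col.e (nat_lit 1858) (Dv.wd (nat_lit 74) [Mv.f (nat_lit 5290), Mv.f (nat_lit 2477), Mv.f (nat_lit 4854), Mv.f (nat_lit 8237), Mv.f (nat_lit 11196), Mv.b (nat_lit 4514), Mv.f (nat_lit 2826), Mv.f (nat_lit 6159), Mv.b (nat_lit 9624), Mv.f (nat_lit 11229)]))))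
(Tr.nd (nat_lit 11235) (Tr.lf (Fc.ed (nat_lit 11234) (nat_lit 3933) Col.d (nat_lit 2125) (Dv.wd (nat_lit 28) [Mv.f (nat_lit 5905), Mv.f (nat_lit 11221), Mv.b (nat_lit 9697)])))
(Tr.nd (nat_lit 11236) (Tr.lf (Fc.ed (nat_lit 11235) (nat_lit 1491) Col.d (nat_lit 2781) (Dv.wd (nat_lit 90) [Mv.f (nat_lit 9696), Mv.f (nat_lit 11234), Mv.b (nat_lit 5904)])))
(Tr.lf (Fc.ed (nat_lit 11236) (nat_lit 1858) Col.d (nat_lit 2691) (Dv.wd (nat_lit 91) [Mv.b (nat_lit 7168), Mv.f (nat_lit 4536), Mv.b (nat_lit 2031), Mv.f (nat_lit 4479), Mv.f (nat_lit 11235), Mv.f (nat_lit 7360), Mv.b (nat_lit 5415), Mv.f (nat_lit 3068), Mv.b (nat_lit 4534), Mv.f (nat_lit 11233)]))))))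
(Tr.nd (nat_lit 11239) (Tr.nd (nat_lit 11238) (Tr.lf (Fc.ed (nat_lit 11237) (nat_lit 2890) Col.d (nat_lit 3204) (Dv.wd (nat_lit 90) [Mv.b (nat_lit 8269), Mv.f (nat_lit 11236), Mv.f (nat_lit 7601)])))
(Tr.lf (Fc.ed (nat_lit 11238) (nat_lit 1704) Col.d (nat_lit 2748) (Dv.wd (nat_lit 28) [Mv.b (nat_lit 7602), Mv.f (nat_lit 11237), Mv.f (nat_lit 8270)]))))
(Tr.nd (nat_lit 11240) (Tr.lf (Fc.ed (nat_lit 11239) (nat_lit 1582) Col.e (nat_lit 1716) (Dv.wd (nat_lit 47) [Mv.f (nat_lit 11221), Mv.b (nat_lit 7750), Mv.f (nat_lit 4528), Mv.b (nat_lit 2464), Mv.f (nat_lit 4949), Mv.f (nat_lit 11238), Mv.f (nat_lit 7291), Mv.b (nat_lit 4468), Mv.f (nat_lit 2384), Mv.b (nat_lit 4684)])))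
(Tr.nd (nat_lit 11241) (Tr.lf (Fc.ed (nat_lit 11240) (nat_lit 1569) Col.e (nat_lit 1704) (Dv.wd (nat_lit 47) [Mv.f (nat_lit 11238), Mv.f (nat_lit 7291), Mv.b (nat_lit 4468), Mv.f (nat_lit 2384), Mv.b (nat_lit 4684), Mv.f (nat_lit 11198), Mv.b (nat_lit 8217), Mv.b (nat_lit 4467), Mv.f (nat_lit 2770), Mv.b (nat_lit 4648)])))
(Tr.lf (Fc.ed (nat_lit 11241) (nat_lit 3204) Col.e (nat_lit 1833) (Dv.wd (nat_lit 56) [Mv.b (nat_lit 5234), Mv.f (nat_lit 11240), Mv.b (nat_lit 8270)])))))))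
(Tr.nd (nat_lit 11247) (Tr.nd (nat_lit 11244) (Tr.nd (nat_lit 11243) (Tr.lf (Fc.al (nat_lit 11242) (nat_lit 1598) (nat_lit 4302) (Dv.wd (nat_lit 140) [Mv.b (nat_lit 11067), Mv.f (nat_lit 5477), Mv.f (nat_lit 11233), Mv.f (nat_lit 8269), Mv.f (nat_lit 11241), Mv.f (nat_lit 5235)])))
(Tr.lf (Fc.ed (nat_lit 11243) (nat_lit 1598) Col.e (nat_lit 1951) (Dv.wd (nat_lit 117) [Mv.f (nat_lit 11067), Mv.b (nat_lit 11242)]))))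
(Tr.nd (nat_lit 11245) (Tr.lf (Fc.ed (nat_lit 11244) (nat_lit 1638) Col.e (nat_lit 1740) (Dv.wd (nat_lit 56) [Mv.b (nat_lit 5042), Mv.f (nat_lit 11243), Mv.b (nat_lit 5476)])))
(Tr.nd (nat_lit 11246) (Tr.lf (Fc.al (nat_lit 11245) (nat_lit 1740) (nat_lit 1638) (Dv.wd (nat_lit 38) [Mv.b (nat_lit 4798), Mv.f (nat_lit 3068), Mv.f (nat_lit 5415), Mv.b (nat_lit 7751), Mv.b (nat_lit 11221), Mv.b (nat_lit 11239), Mv.b (nat_lit 4683), Mv.f (nat_lit 6159), Mv.f (nat_lit 9909), Mv.b (nat_lit 11232), Mv.f (nat_lit 11244)])))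
(Tr.lf (Fc.al (nat_lit 11246) (nat_lit 4281) (nat_lit 3528) (Dv.wd (nat_lit 103) [Mv.b (nat_lit 8918), Mv.f (nat_lit 11245), Mv.f (nat_lit 11231)]))))))
(Tr.nd (nat_lit 11250) (Tr.nd (nat_lit 11248) (Tr.lf (Fc.ed (nat_lit 11247) (nat_lit 3528) Col.d (nat_lit 4266) (Dv.wd (nat_lit 120) [Mv.b (nat_lit 11014), Mv.f (nat_lit 11246)])))
(Tr.nd (nat_lit 11249) (Tr.lf (Fc.ed (nat_lit 11248) (nat_lit 3544) Col.d (nat_lit 2554) (Dv.wd (nat_lit 62) [Mv.b (nat_lit 6867), Mv.f (nat_lit 4191), Mv.f (nat_lit 2648), Mv.b (nat_lit 2651), Mv.f (nat_lit 11215), Mv.b (nat_lit 1347), Mv.f (nat_lit 2746), Mv.b (nat_lit 4648), Mv.f (nat_lit 8947)])))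
(Tr.lf (Fc.al (nat_lit 11249) (nat_lit 2999) (nat_lit 4266) (Dv.wd (nat_lit 90) [Mv.b (nat_lit 11247), Mv.b (nat_lit 8949), Mv.f (nat_lit 11248), Mv.b (nat_lit 7827)])))))
(Tr.nd (nat_lit 11251) (Tr.lf (Fc.al (nat_lit 11250) (nat_lit 1538) (nat_lit 1051) (Dv.wd (nat_lit 103) [Mv.f (nat_lit 10979), Mv.b (nat_lit 11249), Mv.b (nat_lit 7826)])))
(Tr.nd (nat_lit 11252) (Tr.lf (Fc.al (nat_lit 11251) (nat_lit 1903) (nat_lit 1377) (Dv.wd (nat_lit 30) [Mv.f (nat_lit 4579), Mv.f (nat_lit 11250), Mv.f (nat_lit 5379)])))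
(Tr.lf (Fc.ed (nat_lit 11252) (nat_lit 1377) Col.b (nat_lit 2242) (Dv.wd (nat_lit 119) [Mv.f (nat_lit 6156), Mv.f (nat_lit 11251)]))))))))))
(Tr.nd (nat_lit 11294) (Tr.nd (nat_lit 11273) (Tr.nd (nat_lit 11263) (Tr.nd (nat_lit 11258) (Tr.nd (nat_lit 11255) (Tr.nd (nat_lit 11254) (Tr.lf (Fc.ed (nat_lit 11253) (nat_lit 3308) Col.d (nat_lit 4365) Dv.df))
(Tr.lf (Fc.ed (nat_lit 11254) (nat_lit 4365) Col.c (nat_lit 4330) (Dv.wd (nat_lit 80) [Mv.b (nat_lit 11118), Mv.b (nat_lit 8429), Mv.b (nat_lit 4127), Mv.f (nat_lit 3570), Mv.f (nat_lit 4127), Mv.b (nat_lit 9983), Mv.f (nat_lit 10061), Mv.b (nat_lit 10561), Mv.f (nat_lit 11253)]))))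
(Tr.nd (nat_lit 11256) (Tr.lf (Fc.ed (nat_lit 11255) (nat_lit 4365) Col.gi (nat_lit 4299) (Dv.wd (nat_lit 111) [Mv.b (nat_lit 11060), Mv.f (nat_lit 6537), Mv.b (nat_lit 6311), Mv.b (nat_lit 6194), Mv.b (nat_lit 6190), Mv.f (nat_lit 4213), Mv.f (nat_lit 3868), Mv.b (nat_lit 10561), Mv.f (nat_lit 11253)])))
(Tr.nd (nat_lit 11257) (Tr.lf (Fc.ed (nat_lit 11256) (nat_lit 4279) Col.gi (nat_lit 4365) (Dv.wd (nat_lit 12) [Mv.f (nat_lit 11255), Mv.f (nat_lit 11061), Mv.f (nat_lit 11009)])))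
(Tr.lf (Fc.ed (nat_lit 11257) (nat_lit 4304) Col.e (nat_lit 4366) Dv.df)))))
(Tr.nd (nat_lit 11260) (Tr.nd (nat_lit 11259) (Tr.lf (Fc.ed (nat_lit 11258) (nat_lit 4113) Col.e (nat_lit 4367) Dv.df))
(Tr.lf (Fc.ed (nat_lit 11259) (nat_lit 4367) Col.a (nat_lit 3018) (Dv.wd (nat_lit 15) [Mv.b (nat_lit 8040), Mv.f (nat_lit 10600), Mv.f (nat_lit 11258)]))))
(Tr.nd (nat_lit 11261) (Tr.lf (Fc.ed (nat_lit 11260) (nat_lit 4367) Col.f (nat_lit 3066) (Dv.wd (nat_lit 96) [Mv.f (nat_lit 7979), Mv.f (nat_lit 6926), Mv.b (nat_lit 8876), Mv.b (nat_lit 10601), Mv.f (nat_lit 11258)])))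
(Tr.nd (nat_lit 11262) (Tr.lf (Fc.ed (nat_lit 11261) (nat_lit 2262) Col.d (nat_lit 4368) Dv.df))
(Tr.lf (Fc.ed (nat_lit 11262) (nat_lit 4368) Col.a (nat_lit 4346) (Dv.wd (nat_lit 8) [Mv.b (nat_lit 11155), Mv.b (nat_lit 6204), Mv.f (nat_lit 11261)])))))))
(Tr.nd (nat_lit 11268) (Tr.nd (nat_lit 11265) (Tr.nd (nat_lit 11264) (Tr.lf (Fc.ed (nat_lit 11263) (nat_lit 4142) Col.b (nat_lit 4369) Dv.df))
(Tr.lf (Fc.ed (nat_lit 11264) (nat_lit 2786) Col.gi (nat_lit 4370) Dv.df)))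
(Tr.nd (nat_lit 11266) (Tr.lf (Fc.ed (nat_lit 11265) (nat_lit 4370) Col.gi (nat_lit 1789) (Dv.wd (nat_lit 24) [Mv.f (nat_lit 7465), Mv.f (nat_lit 7466), Mv.f (nat_lit 11264)])))
(Tr.nd (nat_lit 11267) (Tr.lf (Fc.ed (nat_lit 11266) (nat_lit 3832) Col.d (nat_lit 4371) Dv.df))
(Tr.lf (Fc.ed (nat_lit 11267) (nat_lit 3722) Col.gi (nat_lit 4372) Dv.df)))))
(Tr.nd (nat_lit 11270) (Tr.nd (nat_lit 11269) (Tr.lf (Fc.ed (nat_lit 11268) (nat_lit 4372) Col.gi (nat_lit 2008) (Dv.wd (nat_lit 24) [Mv.f (nat_lit 5746), Mv.f (nat_lit 9287), Mv.f (nat_lit 11267)])))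
(Tr.lf (Fc.ed (nat_lit 11269) (nat_lit 2761) Col.a (nat_lit 4373) Dv.df)))
(Tr.nd (nat_lit 11271) (Tr.lf (Fc.ed (nat_lit 11270) (nat_lit 4373) Col.f (nat_lit 3922) (Dv.wd (nat_lit 35) [Mv.f (nat_lit 9633), Mv.b (nat_lit 7316), Mv.f (nat_lit 11269)])))
(Tr.nd (nat_lit 11272) (Tr.lf (Fc.ed (nat_lit 11271) (nat_lit 4179) Col.a (nat_lit 4374) Dv.df))
(Tr.lf (Fc.ed (nat_lit 11272) (nat_lit 4374) Col.f (nat_lit 3646) (Dv.wd (nat_lit 10) [Mv.f (nat_lit 9138), Mv.b (nat_lit 10799), Mv.f (nat_lit 11271)]))))))))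
(Tr.nd (nat_lit 11283) (Tr.nd (nat_lit 11278) (Tr.nd (nat_lit 11275) (Tr.nd (nat_lit 11274) (Tr.lf (Fc.ed (nat_lit 11273) (nat_lit 1798) Col.c (nat_lit 4375) Dv.df))
(Tr.lf (Fc.ed (nat_lit 11274) (nat_lit 1993) Col.d (nat_lit 4376) Dv.df)))
(Tr.nd (nat_lit 11276) (Tr.lf (Fc.ed (nat_lit 11275) (nat_lit 4376) Col.a (nat_lit 4293) (Dv.wd (nat_lit 8) [Mv.b (nat_lit 11049), Mv.f (nat_lit 5996), Mv.f (nat_lit 11274)])))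
(Tr.nd (nat_lit 11277) (Tr.lf (Fc.ed (nat_lit 11276) (nat_lit 4376) Col.f (nat_lit 4216) (Dv.wd (nat_lit 11) [Mv.f (nat_lit 10869), Mv.b (nat_lit 5571), Mv.f (nat_lit 11274)])))
(Tr.lf (Fc.ed (nat_lit 11277) (nat_lit 4232) Col.g (nat_lit 4293) (Dv.wd (nat_lit 9) [Mv.b (nat_lit 11275), Mv.f (nat_lit 11276), Mv.f (nat_lit 10898)]))))))
(Tr.nd (nat_lit 11280) (Tr.nd (nat_lit 11279) (Tr.lf (Fc.ed (nat_lit 11278) (nat_lit 4326) Col.g (nat_lit 4376) (Dv.wd (nat_lit 9) [Mv.f (nat_lit 11275), Mv.f (nat_lit 11050), Mv.f (nat_lit 11112)])))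
(Tr.lf (Fc.ed (nat_lit 11279) (nat_lit 2368) Col.f (nat_lit 4377) Dv.df)))
(Tr.nd (nat_lit 11281) (Tr.lf (Fc.ed (nat_lit 11280) (nat_lit 4377) Col.a (nat_lit 3654) (Dv.wd (nat_lit 16) [Mv.f (nat_lit 9151), Mv.b (nat_lit 6451), Mv.f (nat_lit 11279)])))
(Tr.nd (nat_lit 11282) (Tr.lf (Fc.ed (nat_lit 11281) (nat_lit 4377) Col.c (nat_lit 3253) (Dv.wd (nat_lit 34) [Mv.f (nat_lit 8362), Mv.f (nat_lit 6450), Mv.f (nat_lit 11279)])))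
(Tr.lf (Fc.ed (nat_lit 11282) (nat_lit 4331) Col.d (nat_lit 4378) Dv.df))))))
(Tr.nd (nat_lit 11288) (Tr.nd (nat_lit 11285) (Tr.nd (nat_lit 11284) (Tr.lf (Fc.ed (nat_lit 11283) (nat_lit 4378) Col.e (nat_lit 2773) (Dv.wd (nat_lit 70) [Mv.b (nat_lit 7342), Mv.f (nat_lit 7126), Mv.b (nat_lit 8297), Mv.f (nat_lit 8451), Mv.f (nat_lit 9819), Mv.f (nat_lit 10152), Mv.b (nat_lit 8708), Mv.b (nat_lit 6511), Mv.f (nat_lit 11120), Mv.f (nat_lit 11282)])))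
(Tr.lf (Fc.ed (nat_lit 11284) (nat_lit 2175) Col.c (nat_lit 4379) Dv.df)))
(Tr.nd (nat_lit 11286) (Tr.lf (Fc.ed (nat_lit 11285) (nat_lit 4379) Col.f (nat_lit 3226) (Dv.wd (nat_lit 26) [Mv.b (nat_lit 8308), Mv.f (nat_lit 6017), Mv.f (nat_lit 11284)])))
(Tr.nd (nat_lit 11287) (Tr.lf (Fc.ed (nat_lit 11286) (nat_lit 2377) Col.g (nat_lit 4380) Dv.df))
(Tr.lf (Fc.ed (nat_lit 11287) (nat_lit 4380) Col.g (nat_lit 2879) (Dv.wd (nat_lit 9) [Mv.f (nat_lit 8296), Mv.f (nat_lit 8298), Mv.f (nat_lit 11286)]))))))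
(Tr.nd (nat_lit 11291) (Tr.nd (nat_lit 11289) (Tr.lf (Fc.ed (nat_lit 11288) (nat_lit 2940) Col.c (nat_lit 4381) Dv.df))
(Tr.nd (nat_lit 11290) (Tr.lf (Fc.ed (nat_lit 11289) (nat_lit 4375) Col.d (nat_lit 4382) Dv.df))
(Tr.lf (Fc.ed (nat_lit 11290) (nat_lit 3846) Col.a (nat_lit 4383) Dv.df))))
(Tr.nd (nat_lit 11292) (Tr.lf (Fc.ed (nat_lit 11291) (nat_lit 4383) Col.f (nat_lit 4358) (Dv.wd (nat_lit 10) [Mv.b (nat_lit 11180), Mv.b (nat_lit 9510), Mv.f (nat_lit 11290)])))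
(Tr.nd (nat_lit 11293) (Tr.lf (Fc.ed (nat_lit 11292) (nat_lit 2684) Col.d (nat_lit 4384) Dv.df))
(Tr.lf (Fc.ed (nat_lit 11293) (nat_lit 4384) Col.e (nat_lit 4370) (Dv.wd (nat_lit 74) [Mv.f (nat_lit 11265), Mv.f (nat_lit 5152), Mv.f (nat_lit 2933), Mv.b (nat_lit 1609), Mv.b (nat_lit 2278), Mv.f (nat_lit 2444), Mv.b (nat_lit 4517), Mv.b (nat_lit 4516), Mv.f (nat_lit 7152), Mv.f (nat_lit 11292)])))))))))
(Tr.nd (nat_lit 11314) (Tr.nd (nat_lit 11304) (Tr.nd (nat_lit 11299) (Tr.nd (nat_lit 11296) (Tr.nd (nat_lit 11295) (Tr.lf (Fc.ed (nat_lit 11294) (nat_lit 3999) Col.d (nat_lit 4385) Dv.df))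
(Tr.lf (Fc.ed (nat_lit 11295) (nat_lit 4375) Col.g (nat_lit 4386) Dv.df)))
(Tr.nd (nat_lit 11297) (Tr.lf (Fc.ed (nat_lit 11296) (nat_lit 2499) Col.g (nat_lit 4387) Dv.df))
(Tr.nd (nat_lit 11298) (Tr.lf (Fc.ed (nat_lit 11297) (nat_lit 1707) Col.gi (nat_lit 4388) Dv.df))
(Tr.lf (Fc.ed (nat_lit 11298) (nat_lit 4388) Col.gi (nat_lit 3551) (Dv.wd (nat_lit 24) [Mv.b (nat_lit 8962), Mv.f (nat_lit 6235), Mv.f (nat_lit 11297)]))))))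
(Tr.nd (nat_lit 11301) (Tr.nd (nat_lit 11300) (Tr.lf (Fc.ed (nat_lit 11299) (nat_lit 3249) Col.d (nat_lit 4389) Dv.df))
(Tr.lf (Fc.ed (nat_lit 11300) (nat_lit 4389) Col.b (nat_lit 2384) (Dv.wd (nat_lit 37) [Mv.b (nat_lit 6475), Mv.b (nat_lit 8354), Mv.f (nat_lit 11299)]))))
(Tr.nd (nat_lit 11302) (Tr.lf (Fc.ed (nat_lit 11301) (nat_lit 4348) Col.d (nat_lit 4390) Dv.df))
(Tr.nd (nat_lit 11303) (Tr.lf (Fc.ed (nat_lit 11302) (nat_lit 4074) Col.f (nat_lit 4391) Dv.df))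
(Tr.lf (Fc.ed (nat_lit 11303) (nat_lit 3760) Col.a (nat_lit 4392) Dv.df))))))
(Tr.nd (nat_lit 11309) (Tr.nd (nat_lit 11306) (Tr.nd (nat_lit 11305) (Tr.lf (Fc.ed (nat_lit 11304) (nat_lit 4392) Col.d (nat_lit 4110) (Dv.wd (nat_lit 28) [Mv.f (nat_lit 10596), Mv.f (nat_lit 9354), Mv.f (nat_lit 11303)])))
(Tr.lf (Fc.ed (nat_lit 11305) (nat_lit 4392) Col.b (nat_lit 4174) (Dv.wd (nat_lit 65) [Mv.f (nat_lit 10791), Mv.b (nat_lit 9440), Mv.f (nat_lit 5243), Mv.b (nat_lit 9355), Mv.f (nat_lit 11303)]))))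
(Tr.nd (nat_lit 11307) (Tr.lf (Fc.ed (nat_lit 11306) (nat_lit 3975) Col.c (nat_lit 4393) Dv.df))
(Tr.nd (nat_lit 11308) (Tr.lf (Fc.ed (nat_lit 11307) (nat_lit 4393) Col.b (nat_lit 2915) (Dv.wd (nat_lit 101) [Mv.b (nat_lit 7656), Mv.f (nat_lit 5854), Mv.b (nat_lit 5855), Mv.f (nat_lit 6004), Mv.b (nat_lit 6002), Mv.f (nat_lit 4639), Mv.f (nat_lit 4731), Mv.f (nat_lit 4802), Mv.b (nat_lit 9767), Mv.f (nat_lit 11306)])))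
(Tr.lf (Fc.ed (nat_lit 11308) (nat_lit 2773) Col.f (nat_lit 4394) Dv.df)))))
(Tr.nd (nat_lit 11311) (Tr.nd (nat_lit 11310) (Tr.lf (Fc.ed (nat_lit 11309) (nat_lit 4394) Col.a (nat_lit 3415) (Dv.wd (nat_lit 16) [Mv.f (nat_lit 9362), Mv.f (nat_lit 9363), Mv.f (nat_lit 11308)])))
(Tr.lf (Fc.ed (nat_lit 11310) (nat_lit 2232) Col.f (nat_lit 4395) Dv.df)))
(Tr.nd (nat_lit 11312) (Tr.lf (Fc.ed (nat_lit 11311) (nat_lit 3712) Col.a (nat_lit 4396) Dv.df))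
(Tr.nd (nat_lit 11313) (Tr.lf (Fc.ed (nat_lit 11312) (nat_lit 4396) Col.f (nat_lit 3570) (Dv.wd (nat_lit 10) [Mv.b (nat_lit 9000), Mv.b (nat_lit 9267), Mv.f (nat_lit 11311)])))
(Tr.lf (Fc.ed (nat_lit 11313) (nat_lit 2723) Col.gi (nat_lit 4397) Dv.df)))))))
(Tr.nd (nat_lit 11324) (Tr.nd (nat_lit 11319) (Tr.nd (nat_lit 11316) (Tr.nd (nat_lit 11315) (Tr.lf (Fc.ed (nat_lit 11314) (nat_lit 4397) Col.gi (nat_lit 4119) (Dv.wd (nat_lit 24) [Mv.b (nat_lit 10611), Mv.f (nat_lit 7234), Mv.f (nat_lit 11313)])))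
(Tr.lf (Fc.ed (nat_lit 11315) (nat_lit 1715) Col.d (nat_lit 4398) Dv.df)))
(Tr.nd (nat_lit 11317) (Tr.lf (Fc.ed (nat_lit 11316) (nat_lit 4398) Col.a (nat_lit 4180) (Dv.wd (nat_lit 8) [Mv.b (nat_lit 10800), Mv.b (nat_lit 4987), Mv.f (nat_lit 11315)])))
(Tr.nd (nat_lit 11318) (Tr.lf (Fc.ed (nat_lit 11317) (nat_lit 2549) Col.a (nat_lit 4399) Dv.df))
(Tr.lf (Fc.ed (nat_lit 11318) (nat_lit 4399) Col.d (nat_lit 3771) (Dv.wd (nat_lit 28) [Mv.b (nat_lit 9375), Mv.b (nat_lit 6857), Mv.f (nat_lit 11317)]))))))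
(Tr.nd (nat_lit 11321) (Tr.nd (nat_lit 11320) (Tr.lf (Fc.ed (nat_lit 11319) (nat_lit 4399) Col.f (nat_lit 4225) (Dv.wd (nat_lit 35) [Mv.b (nat_lit 10886), Mv.f (nat_lit 6965), Mv.f (nat_lit 11317)])))
(Tr.lf (Fc.ed (nat_lit 11320) (nat_lit 4315) Col.f (nat_lit 4400) Dv.df)))
(Tr.nd (nat_lit 11322) (Tr.lf (Fc.ed (nat_lit 11321) (nat_lit 4400) Col.a (nat_lit 4400) (Dv.wd (nat_lit 16) [Mv.b (nat_lit 11320), Mv.f (nat_lit 11092), Mv.f (nat_lit 11320)])))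
(Tr.nd (nat_lit 11323) (Tr.lf (Fc.ed (nat_lit 11322) (nat_lit 4400) Col.c (nat_lit 2762) (Dv.wd (nat_lit 34) [Mv.b (nat_lit 7318), Mv.b (nat_lit 11093), Mv.f (nat_lit 11320)])))
(Tr.lf (Fc.ed (nat_lit 11323) (nat_lit 4400) Col.e (nat_lit 4244) (Dv.wd (nat_lit 22) [Mv.f (nat_lit 10920), Mv.b (nat_lit 8974), Mv.f (nat_lit 6419), Mv.f (nat_lit 11091), Mv.f (nat_lit 11320)])))))))
(Tr.nd (nat_lit 11329) (Tr.nd (nat_lit 11326) (Tr.nd (nat_lit 11325) (Tr.lf (Fc.ed (nat_lit 11324) (nat_lit 3966) Col.d (nat_lit 4401) Dv.df))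
(Tr.lf (Fc.ed (nat_lit 11325) (nat_lit 4401) Col.a (nat_lit 2399) (Dv.wd (nat_lit 8) [Mv.f (nat_lit 6504), Mv.b (nat_lit 9749), Mv.f (nat_lit 11324)]))))
(Tr.nd (nat_lit 11327) (Tr.lf (Fc.ed (nat_lit 11326) (nat_lit 2767) Col.c (nat_lit 4402) Dv.df))
(Tr.nd (nat_lit 11328) (Tr.lf (Fc.ed (nat_lit 11327) (nat_lit 4145) Col.b (nat_lit 4403) Dv.df))
(Tr.lf (Fc.ed (nat_lit 11328) (nat_lit 4403) Col.c (nat_lit 4306) (Dv.wd (nat_lit 142) [Mv.b (nat_lit 11073), Mv.b (nat_lit 7015), Mv.b (nat_lit 3876), Mv.f (nat_lit 277), Mv.f (nat_lit 693), Mv.f (nat_lit 1110), Mv.b (nat_lit 3465), Mv.f (nat_lit 6140), Mv.f (nat_lit 10715), Mv.f (nat_lit 11327)]))))))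
(Tr.nd (nat_lit 11332) (Tr.nd (nat_lit 11330) (Tr.lf (Fc.ed (nat_lit 11329) (nat_lit 3276) Col.g (nat_lit 4404) Dv.df))
(Tr.nd (nat_lit 11331) (Tr.lf (Fc.ed (nat_lit 11330) (nat_lit 4404) Col.g (nat_lit 3334) (Dv.wd (nat_lit 9) [Mv.b (nat_lit 10932), Mv.b (nat_lit 10931), Mv.f (nat_lit 11329)])))
(Tr.lf (Fc.ed (nat_lit 11331) (nat_lit 3931) Col.e (nat_lit 4405) Dv.df))))
(Tr.nd (nat_lit 11333) (Tr.lf (Fc.ed (nat_lit 11332) (nat_lit 4405) Col.d (nat_lit 4359) (Dv.wd (nat_lit 91) [Mv.f (nat_lit 11182), Mv.f (nat_lit 5506), Mv.b (nat_lit 5504), Mv.b (nat_lit 6274), Mv.f (nat_lit 10428), Mv.f (nat_lit 4997), Mv.f (nat_lit 4934), Mv.f (nat_lit 5370), Mv.b (nat_lit 9693), Mv.f (nat_lit 11331)])))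
(Tr.nd (nat_lit 11334) (Tr.lf (Fc.ed (nat_lit 11333) (nat_lit 4181) Col.d (nat_lit 4092) (Dv.wd (nat_lit 27) [Mv.b (nat_lit 9965), Mv.f (nat_lit 10556), Mv.b (nat_lit 6250), Mv.f (nat_lit 9692), Mv.f (nat_lit 11331), Mv.f (nat_lit 11332), Mv.b (nat_lit 11181), Mv.f (nat_lit 7050), Mv.f (nat_lit 9099), Mv.f (nat_lit 10801)])))
(Tr.lf (Fc.ed (nat_lit 11334) (nat_lit 1819) Col.d (nat_lit 2719) (Dv.wd (nat_lit 68) [Mv.b (nat_lit 7225), Mv.b (nat_lit 3992), Mv.f (nat_lit 5504), Mv.b (nat_lit 9100), Mv.f (nat_lit 10801), Mv.f (nat_lit 11333), Mv.f (nat_lit 9966), Mv.b (nat_lit 10559), Mv.b (nat_lit 10550), Mv.b (nat_lit 5207)])))))))))))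
(Tr.nd (nat_lit 11417) (Tr.nd (nat_lit 11376) (Tr.nd (nat_lit 11355) (Tr.nd (nat_lit 11345) (Tr.nd (nat_lit 11340) (Tr.nd (nat_lit 11337) (Tr.nd (nat_lit 11336) (Tr.lf (Fc.ed (nat_lit 11335) (nat_lit 2951) Col.gi (nat_lit 4406) Dv.df))
(Tr.lf (Fc.ed (nat_lit 11336) (nat_lit 4406) Col.gi (nat_lit 3338) (Dv.wd (nat_lit 24) [Mv.b (nat_lit 8533), Mv.f (nat_lit 7727), Mv.f (nat_lit 11335)]))))
(Tr.nd (nat_lit 11338) (Tr.lf (Fc.ed (nat_lit 11337) (nat_lit 3655) Col.b (nat_lit 4407) Dv.df))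
(Tr.nd (nat_lit 11339) (Tr.lf (Fc.ed (nat_lit 11338) (nat_lit 4407) Col.e (nat_lit 2192) (Dv.wd (nat_lit 52) [Mv.b (nat_lit 6062), Mv.b (nat_lit 9153), Mv.f (nat_lit 11337)])))
(Tr.lf (Fc.ed (nat_lit 11339) (nat_lit 1369) Col.b (nat_lit 4408) Dv.df)))))
(Tr.nd (nat_lit 11342) (Tr.nd (nat_lit 11341) (Tr.lf (Fc.ed (nat_lit 11340) (nat_lit 2241) Col.a (nat_lit 4409) Dv.df))
(Tr.lf (Fc.ed (nat_lit 11341) (nat_lit 4409) Col.e (nat_lit 3663) (Dv.wd (nat_lit 56) [Mv.f (nat_lit 9166), Mv.b (nat_lit 6154), Mv.f (nat_lit 11340)]))))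
(Tr.nd (nat_lit 11343) (Tr.lf (Fc.ed (nat_lit 11342) (nat_lit 4246) Col.f (nat_lit 4410) Dv.df))
(Tr.nd (nat_lit 11344) (Tr.lf (Fc.ed (nat_lit 11343) (nat_lit 4410) Col.b (nat_lit 3638) (Dv.wd (nat_lit 66) [Mv.b (nat_lit 9120), Mv.f (nat_lit 10922), Mv.f (nat_lit 11342)])))
(Tr.lf (Fc.ed (nat_lit 11344) (nat_lit 1488) Col.g (nat_lit 4411) Dv.df))))))
(Tr.nd (nat_lit 11350) (Tr.nd (nat_lit 11347) (Tr.nd (nat_lit 11346) (Tr.lf (Fc.ed (nat_lit 11345) (nat_lit 4411) Col.g (nat_lit 2721) (Dv.wd (nat_lit 9) [Mv.f (nat_lit 7230), Mv.b (nat_lit 6853), Mv.f (nat_lit 11344)])))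
(Tr.lf (Fc.ed (nat_lit 11346) (nat_lit 3530) Col.a (nat_lit 4412) Dv.df)))
(Tr.nd (nat_lit 11348) (Tr.lf (Fc.ed (nat_lit 11347) (nat_lit 4412) Col.f (nat_lit 4297) (Dv.wd (nat_lit 35) [Mv.b (nat_lit 11188), Mv.b (nat_lit 11187), Mv.f (nat_lit 11346)])))
(Tr.nd (nat_lit 11349) (Tr.lf (Fc.ed (nat_lit 11348) (nat_lit 4198) Col.b (nat_lit 4413) Dv.df))
(Tr.lf (Fc.ed (nat_lit 11349) (nat_lit 4413) Col.f (nat_lit 2674) (Dv.wd (nat_lit 20) [Mv.f (nat_lit 7131), Mv.b (nat_lit 10834), Mv.f (nat_lit 11348)]))))))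
(Tr.nd (nat_lit 11352) (Tr.nd (nat_lit 11351) (Tr.lf (Fc.ed (nat_lit 11350) (nat_lit 2810) Col.b (nat_lit 4414) Dv.df))
(Tr.lf (Fc.ed (nat_lit 11351) (nat_lit 2358) Col.a (nat_lit 4415) Dv.df)))
(Tr.nd (nat_lit 11353) (Tr.lf (Fc.ed (nat_lit 11352) (nat_lit 4415) Col.f (nat_lit 3127) (Dv.wd (nat_lit 35) [Mv.f (nat_lit 10908), Mv.f (nat_lit 10909), Mv.f (nat_lit 11351)])))
(Tr.nd (nat_lit 11354) (Tr.lf (Fc.ed (nat_lit 11353) (nat_lit 2909) Col.f (nat_lit 4416) Dv.df))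
(Tr.lf (Fc.ed (nat_lit 11354) (nat_lit 4416) Col.a (nat_lit 3096) (Dv.wd (nat_lit 16) [Mv.b (nat_lit 8044), Mv.b (nat_lit 7643), Mv.f (nat_lit 11353)]))))))))
(Tr.nd (nat_lit 11365) (Tr.nd (nat_lit 11360) (Tr.nd (nat_lit 11357) (Tr.nd (nat_lit 11356) (Tr.lf (Fc.ed (nat_lit 11355) (nat_lit 4416) Col.b (nat_lit 3547) (Dv.wd (nat_lit 66) [Mv.b (nat_lit 8955), Mv.b (nat_lit 7644), Mv.f (nat_lit 11353)])))
(Tr.lf (Fc.ed (nat_lit 11356) (nat_lit 4416) Col.d (nat_lit 3649) (Dv.wd (nat_lit 21) [Mv.b (nat_lit 9141), Mv.b (nat_lit 7645), Mv.f (nat_lit 11353)]))))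
(Tr.nd (nat_lit 11358) (Tr.lf (Fc.ed (nat_lit 11357) (nat_lit 4416) Col.e (nat_lit 3649) (Dv.wd (nat_lit 22) [Mv.b (nat_lit 9141), Mv.f (nat_lit 7335), Mv.f (nat_lit 5096), Mv.f (nat_lit 7642), Mv.f (nat_lit 11353)])))
(Tr.nd (nat_lit 11359) (Tr.lf (Fc.ed (nat_lit 11358) (nat_lit 2726) Col.gi (nat_lit 4417) Dv.df))
(Tr.lf (Fc.ed (nat_lit 11359) (nat_lit 2562) Col.d (nat_lit 4418) Dv.df)))))
(Tr.nd (nat_lit 11362) (Tr.nd (nat_lit 11361) (Tr.lf (Fc.ed (nat_lit 11360) (nat_lit 4402) Col.d (nat_lit 4419) Dv.df))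
(Tr.lf (Fc.ed (nat_lit 11361) (nat_lit 4419) Col.c (nat_lit 1574) (Dv.wd (nat_lit 148) [Mv.b (nat_lit 10202), Mv.b (nat_lit 6761), Mv.b (nat_lit 6760), Mv.b (nat_lit 7898), Mv.b (nat_lit 10198), Mv.b (nat_lit 10143), Mv.b (nat_lit 9069), Mv.f (nat_lit 11326), Mv.f (nat_lit 11360)]))))
(Tr.nd (nat_lit 11363) (Tr.lf (Fc.ed (nat_lit 11362) (nat_lit 4375) Col.a (nat_lit 4419) (Dv.wd (nat_lit 76) [Mv.f (nat_lit 11361), Mv.b (nat_lit 5166), Mv.f (nat_lit 11273)])))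
(Tr.nd (nat_lit 11364) (Tr.lf (Fc.ed (nat_lit 11363) (nat_lit 4402) Col.a (nat_lit 4382) (Dv.wd (nat_lit 54) [Mv.b (nat_lit 11289), Mv.f (nat_lit 11362), Mv.b (nat_lit 11360)])))
(Tr.lf (Fc.ed (nat_lit 11364) (nat_lit 3922) Col.g (nat_lit 4420) Dv.df))))))
(Tr.nd (nat_lit 11370) (Tr.nd (nat_lit 11367) (Tr.nd (nat_lit 11366) (Tr.lf (Fc.ed (nat_lit 11365) (nat_lit 4420) Col.g (nat_lit 2761) (Dv.wd (nat_lit 9) [Mv.f (nat_lit 11269), Mv.f (nat_lit 11270), Mv.f (nat_lit 11364)])))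
(Tr.lf (Fc.ed (nat_lit 11366) (nat_lit 2760) Col.g (nat_lit 4421) Dv.df)))
(Tr.nd (nat_lit 11368) (Tr.lf (Fc.ed (nat_lit 11367) (nat_lit 2365) Col.b (nat_lit 4422) Dv.df))
(Tr.nd (nat_lit 11369) (Tr.lf (Fc.ed (nat_lit 11368) (nat_lit 2396) Col.d (nat_lit 4423) Dv.df))
(Tr.lf (Fc.ed (nat_lit 11369) (nat_lit 4423) Col.f (nat_lit 4077) (Dv.wd (nat_lit 11) [Mv.b (nat_lit 9942), Mv.f (nat_lit 6498), Mv.f (nat_lit 11368)]))))))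
(Tr.nd (nat_lit 11373) (Tr.nd (nat_lit 11371) (Tr.lf (Fc.ed (nat_lit 11370) (nat_lit 3331) Col.g (nat_lit 4424) Dv.df))
(Tr.nd (nat_lit 11372) (Tr.lf (Fc.ed (nat_lit 11371) (nat_lit 4424) Col.g (nat_lit 2714) (Dv.wd (nat_lit 9) [Mv.f (nat_lit 7327), Mv.b (nat_lit 8517), Mv.f (nat_lit 11370)])))
(Tr.lf (Fc.ed (nat_lit 11372) (nat_lit 4336) Col.f (nat_lit 4425) Dv.df))))
(Tr.nd (nat_lit 11374) (Tr.lf (Fc.ed (nat_lit 11373) (nat_lit 4207) Col.gi (nat_lit 4426) Dv.df))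
(Tr.nd (nat_lit 11375) (Tr.lf (Fc.ed (nat_lit 11374) (nat_lit 4401) Col.e (nat_lit 4427) Dv.df))
(Tr.lf (Fc.ed (nat_lit 11375) (nat_lit 4427) Col.a (nat_lit 2706) (Dv.wd (nat_lit 15) [Mv.f (nat_lit 7199), Mv.b (nat_lit 11325), Mv.f (nat_lit 11374)])))))))))
(Tr.nd (nat_lit 11396) (Tr.nd (nat_lit 11386) (Tr.nd (nat_lit 11381) (Tr.nd (nat_lit 11378) (Tr.nd (nat_lit 11377) (Tr.lf (Fc.ed (nat_lit 11376) (nat_lit 4427) Col.d (nat_lit 4409) (Dv.wd (nat_lit 59) [Mv.f (nat_lit 11341), Mv.f (nat_lit 9804), Mv.b (nat_lit 9807), Mv.f (nat_lit 11324), Mv.f (nat_lit 11374)])))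
(Tr.lf (Fc.ed (nat_lit 11377) (nat_lit 4218) Col.a (nat_lit 4428) Dv.df)))
(Tr.nd (nat_lit 11379) (Tr.lf (Fc.ed (nat_lit 11378) (nat_lit 4428) Col.f (nat_lit 3023) (Dv.wd (nat_lit 10) [Mv.b (nat_lit 7876), Mv.f (nat_lit 10873), Mv.f (nat_lit 11377)])))
(Tr.nd (nat_lit 11380) (Tr.lf (Fc.ed (nat_lit 11379) (nat_lit 2826) Col.g (nat_lit 4429) Dv.df))
(Tr.lf (Fc.ed (nat_lit 11380) (nat_lit 4429) Col.g (nat_lit 3195) (Dv.wd (nat_lit 9) [Mv.f (nat_lit 8249), Mv.b (nat_lit 7463), Mv.f (nat_lit 11379)]))))))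
(Tr.nd (nat_lit 11383) (Tr.nd (nat_lit 11382) (Tr.lf (Fc.ed (nat_lit 11381) (nat_lit 3148) Col.d (nat_lit 4430) Dv.df))
(Tr.lf (Fc.ed (nat_lit 11382) (nat_lit 4430) Col.gi (nat_lit 3848) (Dv.wd (nat_lit 111) [Mv.b (nat_lit 9513), Mv.b (nat_lit 8899), Mv.b (nat_lit 10321), Mv.b (nat_lit 11146), Mv.b (nat_lit 11145), Mv.f (nat_lit 9248), Mv.f (nat_lit 7066), Mv.f (nat_lit 10485), Mv.f (nat_lit 11381)]))))
(Tr.nd (nat_lit 11384) (Tr.lf (Fc.ed (nat_lit 11383) (nat_lit 2912) Col.gi (nat_lit 4431) Dv.df))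
(Tr.nd (nat_lit 11385) (Tr.lf (Fc.ed (nat_lit 11384) (nat_lit 2851) Col.f (nat_lit 4432) Dv.df))
(Tr.lf (Fc.ed (nat_lit 11385) (nat_lit 4250) Col.gi (nat_lit 4433) Dv.df))))))
(Tr.nd (nat_lit 11391) (Tr.nd (nat_lit 11388) (Tr.nd (nat_lit 11387) (Tr.lf (Fc.ed (nat_lit 11386) (nat_lit 4433) Col.gi (nat_lit 2417) (Dv.wd (nat_lit 24) [Mv.b (nat_lit 8523), Mv.b (nat_lit 10932), Mv.f (nat_lit 11385)])))
(Tr.lf (Fc.ed (nat_lit 11387) (nat_lit 1420) Col.b (nat_lit 4434) Dv.df)))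
(Tr.nd (nat_lit 11389) (Tr.lf (Fc.ed (nat_lit 11388) (nat_lit 4319) Col.gi (nat_lit 4435) Dv.df))
(Tr.nd (nat_lit 11390) (Tr.lf (Fc.ed (nat_lit 11389) (nat_lit 4435) Col.gi (nat_lit 2399) (Dv.wd (nat_lit 24) [Mv.b (nat_lit 7389), Mv.b (nat_lit 11100), Mv.f (nat_lit 11388)])))
(Tr.lf (Fc.ed (nat_lit 11390) (nat_lit 4377) Col.g (nat_lit 4436) Dv.df)))))
(Tr.nd (nat_lit 11393) (Tr.nd (nat_lit 11392) (Tr.lf (Fc.ed (nat_lit 11391) (nat_lit 4436) Col.g (nat_lit 2281) (Dv.wd (nat_lit 9) [Mv.b (nat_lit 6451), Mv.f (nat_lit 11279), Mv.f (nat_lit 11390)])))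
(Tr.lf (Fc.ed (nat_lit 11392) (nat_lit 4129) Col.d (nat_lit 4437) Dv.df)))
(Tr.nd (nat_lit 11394) (Tr.lf (Fc.ed (nat_lit 11393) (nat_lit 4437) Col.gi (nat_lit 4371) (Dv.wd (nat_lit 111) [Mv.b (nat_lit 11266), Mv.b (nat_lit 10538), Mv.f (nat_lit 7981), Mv.f (nat_lit 7863), Mv.f (nat_lit 4329), Mv.b (nat_lit 7246), Mv.f (nat_lit 10174), Mv.b (nat_lit 10629), Mv.f (nat_lit 11392)])))
(Tr.nd (nat_lit 11395) (Tr.lf (Fc.ed (nat_lit 11394) (nat_lit 3832) Col.e (nat_lit 3833) (Dv.wd (nat_lit 74) [Mv.b (nat_lit 9488), Mv.f (nat_lit 10179), Mv.b (nat_lit 10159), Mv.f (nat_lit 8143), Mv.b (nat_lit 8422), Mv.b (nat_lit 10251), Mv.f (nat_lit 10628), Mv.f (nat_lit 11392), Mv.f (nat_lit 11393), Mv.b (nat_lit 11266)])))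
(Tr.lf (Fc.ed (nat_lit 11395) (nat_lit 3340) Col.g (nat_lit 4438) Dv.df)))))))
(Tr.nd (nat_lit 11406) (Tr.nd (nat_lit 11401) (Tr.nd (nat_lit 11398) (Tr.nd (nat_lit 11397) (Tr.lf (Fc.ed (nat_lit 11396) (nat_lit 2207) Col.b (nat_lit 4439) Dv.df))
(Tr.lf (Fc.ed (nat_lit 11397) (nat_lit 4439) Col.d (nat_lit 4422) (Dv.wd (nat_lit 58) [Mv.b (nat_lit 11367), Mv.f (nat_lit 6446), Mv.f (nat_lit 11396)]))))
(Tr.nd (nat_lit 11399) (Tr.lf (Fc.ed (nat_lit 11398) (nat_lit 1708) Col.e (nat_lit 4440) Dv.df))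
(Tr.nd (nat_lit 11400) (Tr.lf (Fc.ed (nat_lit 11399) (nat_lit 4440) Col.d (nat_lit 4440) (Dv.wd (nat_lit 59) [Mv.b (nat_lit 11398), Mv.b (nat_lit 4961), Mv.f (nat_lit 4368), Mv.f (nat_lit 4961), Mv.f (nat_lit 11398)])))
(Tr.lf (Fc.ed (nat_lit 11400) (nat_lit 4327) Col.e (nat_lit 4441) Dv.df)))))
(Tr.nd (nat_lit 11403) (Tr.nd (nat_lit 11402) (Tr.lf (Fc.ed (nat_lit 11401) (nat_lit 4441) Col.f (nat_lit 4440) (Dv.wd (nat_lit 96) [Mv.b (nat_lit 11398), Mv.f (nat_lit 5252), Mv.b (nat_lit 7341), Mv.f (nat_lit 11113), Mv.f (nat_lit 11400)])))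
(Tr.lf (Fc.ed (nat_lit 11402) (nat_lit 3573) Col.f (nat_lit 4442) Dv.df)))
(Tr.nd (nat_lit 11404) (Tr.lf (Fc.ed (nat_lit 11403) (nat_lit 4442) Col.a (nat_lit 2697) (Dv.wd (nat_lit 23) [Mv.b (nat_lit 7181), Mv.f (nat_lit 9006), Mv.f (nat_lit 11402)])))
(Tr.nd (nat_lit 11405) (Tr.lf (Fc.ed (nat_lit 11404) (nat_lit 3331) Col.gi (nat_lit 4443) Dv.df))
(Tr.lf (Fc.ed (nat_lit 11405) (nat_lit 4443) Col.gi (nat_lit 2714) (Dv.wd (nat_lit 24) [Mv.b (nat_lit 8730), Mv.f (nat_lit 8729), Mv.f (nat_lit 11404)])))))))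
(Tr.nd (nat_lit 11411) (Tr.nd (nat_lit 11408) (Tr.nd (nat_lit 11407) (Tr.lf (Fc.ed (nat_lit 11406) (nat_lit 1818) Col.f (nat_lit 4444) Dv.df))
(Tr.lf (Fc.ed (nat_lit 11407) (nat_lit 4380) Col.e (nat_lit 4445) Dv.df)))
(Tr.nd (nat_lit 11409) (Tr.lf (Fc.ed (nat_lit 11408) (nat_lit 2621) Col.e (nat_lit 4446) Dv.df))
(Tr.nd (nat_lit 11410) (Tr.lf (Fc.ed (nat_lit 11409) (nat_lit 4446) Col.a (nat_lit 2969) (Dv.wd (nat_lit 15) [Mv.b (nat_lit 7761), Mv.b (nat_lit 9977), Mv.f (nat_lit 11408)])))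
(Tr.lf (Fc.ed (nat_lit 11410) (nat_lit 4427) Col.gi (nat_lit 4447) Dv.df)))))
(Tr.nd (nat_lit 11414) (Tr.nd (nat_lit 11412) (Tr.lf (Fc.ed (nat_lit 11411) (nat_lit 4447) Col.gi (nat_lit 3526) (Dv.wd (nat_lit 24) [Mv.f (nat_lit 8915), Mv.b (nat_lit 11375), Mv.f (nat_lit 11410)])))
(Tr.nd (nat_lit 11413) (Tr.lf (Fc.ed (nat_lit 11412) (nat_lit 3669) Col.f (nat_lit 4448) Dv.df))
(Tr.lf (Fc.ed (nat_lit 11413) (nat_lit 4448) Col.c (nat_lit 3797) (Dv.wd (nat_lit 34) [Mv.f (nat_lit 9424), Mv.b (nat_lit 9178), Mv.f (nat_lit 11412)])))))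
(Tr.nd (nat_lit 11415) (Tr.lf (Fc.ed (nat_lit 11414) (nat_lit 3333) Col.g (nat_lit 4449) Dv.df))
(Tr.nd (nat_lit 11416) (Tr.lf (Fc.ed (nat_lit 11415) (nat_lit 2710) Col.e (nat_lit 4450) Dv.df))
(Tr.lf (Fc.ed (nat_lit 11416) (nat_lit 3584) Col.g (nat_lit 4451) Dv.df)))))))))
(Tr.nd (nat_lit 11458) (Tr.nd (nat_lit 11437) (Tr.nd (nat_lit 11427) (Tr.nd (nat_lit 11422) (Tr.nd (nat_lit 11419) (Tr.nd (nat_lit 11418) (Tr.lf (Fc.ed (nat_lit 11417) (nat_lit 4451) Col.g (nat_lit 2081) (Dv.wd (nat_lit 9) [Mv.f (nat_lit 9287), Mv.f (nat_lit 9289), Mv.f (nat_lit 11416)])))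
(Tr.lf (Fc.ed (nat_lit 11418) (nat_lit 4391) Col.a (nat_lit 4452) Dv.df)))
(Tr.nd (nat_lit 11420) (Tr.lf (Fc.ed (nat_lit 11419) (nat_lit 3372) Col.d (nat_lit 4453) Dv.df))
(Tr.nd (nat_lit 11421) (Tr.lf (Fc.ed (nat_lit 11420) (nat_lit 3382) Col.d (nat_lit 4454) Dv.df))
(Tr.lf (Fc.ed (nat_lit 11421) (nat_lit 4454) Col.a (nat_lit 4071) (Dv.wd (nat_lit 8) [Mv.f (nat_lit 10331), Mv.f (nat_lit 8624), Mv.f (nat_lit 11420)]))))))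
(Tr.nd (nat_lit 11424) (Tr.nd (nat_lit 11423) (Tr.lf (Fc.ed (nat_lit 11422) (nat_lit 3080) Col.c (nat_lit 4455) Dv.df))
(Tr.lf (Fc.ed (nat_lit 11423) (nat_lit 4455) Col.f (nat_lit 2811) (Dv.wd (nat_lit 26) [Mv.b (nat_lit 7433), Mv.f (nat_lit 8007), Mv.f (nat_lit 11422)]))))
(Tr.nd (nat_lit 11425) (Tr.lf (Fc.ed (nat_lit 11424) (nat_lit 4052) Col.f (nat_lit 4456) Dv.df))
(Tr.nd (nat_lit 11426) (Tr.lf (Fc.ed (nat_lit 11425) (nat_lit 4456) Col.b (nat_lit 1067) (Dv.wd (nat_lit 66) [Mv.b (nat_lit 10032), Mv.f (nat_lit 10042), Mv.f (nat_lit 11424)])))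
(Tr.lf (Fc.ed (nat_lit 11426) (nat_lit 3889) Col.d (nat_lit 4457) Dv.df))))))
(Tr.nd (nat_lit 11432) (Tr.nd (nat_lit 11429) (Tr.nd (nat_lit 11428) (Tr.lf (Fc.ed (nat_lit 11427) (nat_lit 4457) Col.a (nat_lit 4084) (Dv.wd (nat_lit 8) [Mv.f (nat_lit 9955), Mv.b (nat_lit 9577), Mv.f (nat_lit 11426)])))
(Tr.lf (Fc.ed (nat_lit 11428) (nat_lit 2397) Col.gi (nat_lit 4458) Dv.df)))
(Tr.nd (nat_lit 11430) (Tr.lf (Fc.ed (nat_lit 11429) (nat_lit 2243) Col.f (nat_lit 4459) Dv.df))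
(Tr.nd (nat_lit 11431) (Tr.lf (Fc.ed (nat_lit 11430) (nat_lit 4459) Col.b (nat_lit 4444) (Dv.wd (nat_lit 66) [Mv.b (nat_lit 11406), Mv.b (nat_lit 6158), Mv.f (nat_lit 11429)])))
(Tr.lf (Fc.ed (nat_lit 11431) (nat_lit 3290) Col.d (nat_lit 4460) Dv.df)))))
(Tr.nd (nat_lit 11434) (Tr.nd (nat_lit 11433) (Tr.lf (Fc.ed (nat_lit 11432) (nat_lit 3946) Col.gi (nat_lit 4461) Dv.df))
(Tr.lf (Fc.ed (nat_lit 11433) (nat_lit 4461) Col.gi (nat_lit 2350) (Dv.wd (nat_lit 24) [Mv.b (nat_lit 6766), Mv.b (nat_lit 9715), Mv.f (nat_lit 11432)]))))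
(Tr.nd (nat_lit 11435) (Tr.lf (Fc.ed (nat_lit 11434) (nat_lit 3114) Col.d (nat_lit 4462) Dv.df))
(Tr.nd (nat_lit 11436) (Tr.lf (Fc.ed (nat_lit 11435) (nat_lit 4462) Col.b (nat_lit 3801) (Dv.wd (nat_lit 37) [Mv.b (nat_lit 9430), Mv.b (nat_lit 8085), Mv.f (nat_lit 11434)])))
(Tr.lf (Fc.ed (nat_lit 11436) (nat_lit 2483) Col.a (nat_lit 4463) Dv.df)))))))
(Tr.nd (nat_lit 11447) (Tr.nd (nat_lit 11442) (Tr.nd (nat_lit 11439) (Tr.nd (nat_lit 11438) (Tr.lf (Fc.ed (nat_lit 11437) (nat_lit 4450) Col.b (nat_lit 4464) Dv.df))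
(Tr.lf (Fc.ed (nat_lit 11438) (nat_lit 4389) Col.f (nat_lit 4465) Dv.df)))
(Tr.nd (nat_lit 11440) (Tr.lf (Fc.ed (nat_lit 11439) (nat_lit 4465) Col.b (nat_lit 2470) (Dv.wd (nat_lit 66) [Mv.b (nat_lit 6712), Mv.b (nat_lit 11300), Mv.f (nat_lit 11438)])))
(Tr.nd (nat_lit 11441) (Tr.lf (Fc.ed (nat_lit 11440) (nat_lit 4465) Col.d (nat_lit 3039) (Dv.wd (nat_lit 21) [Mv.b (nat_lit 8353), Mv.f (nat_lit 11299), Mv.f (nat_lit 11438)])))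
(Tr.lf (Fc.ed (nat_lit 11441) (nat_lit 4280) Col.d (nat_lit 4466) Dv.df)))))
(Tr.nd (nat_lit 11444) (Tr.nd (nat_lit 11443) (Tr.lf (Fc.ed (nat_lit 11442) (nat_lit 3573) Col.a (nat_lit 4467) Dv.df))
(Tr.lf (Fc.ed (nat_lit 11443) (nat_lit 4467) Col.f (nat_lit 2697) (Dv.wd (nat_lit 35) [Mv.b (nat_lit 11403), Mv.b (nat_lit 11402), Mv.f (nat_lit 11442)]))))
(Tr.nd (nat_lit 11445) (Tr.lf (Fc.ed (nat_lit 11444) (nat_lit 4135) Col.d (nat_lit 4468) Dv.df))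
(Tr.nd (nat_lit 11446) (Tr.lf (Fc.ed (nat_lit 11445) (nat_lit 3802) Col.d (nat_lit 4469) Dv.df))
(Tr.lf (Fc.ed (nat_lit 11446) (nat_lit 4469) Col.a (nat_lit 4301) (Dv.wd (nat_lit 8) [Mv.f (nat_lit 11066), Mv.f (nat_lit 11016), Mv.f (nat_lit 11445)])))))))
(Tr.nd (nat_lit 11452) (Tr.nd (nat_lit 11449) (Tr.nd (nat_lit 11448) (Tr.lf (Fc.ed (nat_lit 11447) (nat_lit 4366) Col.d (nat_lit 4470) Dv.df))
(Tr.lf (Fc.ed (nat_lit 11448) (nat_lit 4292) Col.f (nat_lit 4471) Dv.df)))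
(Tr.nd (nat_lit 11450) (Tr.lf (Fc.ed (nat_lit 11449) (nat_lit 4471) Col.a (nat_lit 2964) (Dv.wd (nat_lit 23) [Mv.f (nat_lit 7749), Mv.f (nat_lit 11047), Mv.f (nat_lit 11448)])))
(Tr.nd (nat_lit 11451) (Tr.lf (Fc.ed (nat_lit 11450) (nat_lit 2552) Col.b (nat_lit 4472) Dv.df))
(Tr.lf (Fc.ed (nat_lit 11451) (nat_lit 4472) Col.f (nat_lit 2562) (Dv.wd (nat_lit 20) [Mv.b (nat_lit 6879), Mv.b (nat_lit 6862), Mv.f (nat_lit 11450)]))))))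
(Tr.nd (nat_lit 11455) (Tr.nd (nat_lit 11453) (Tr.lf (Fc.ed (nat_lit 11452) (nat_lit 4470) Col.g (nat_lit 4473) Dv.df))
(Tr.nd (nat_lit 11454) (Tr.lf (Fc.ed (nat_lit 11453) (nat_lit 4345) Col.d (nat_lit 4474) Dv.df))
(Tr.lf (Fc.ed (nat_lit 11454) (nat_lit 4474) Col.g (nat_lit 4419) (Dv.wd (nat_lit 69) [Mv.b (nat_lit 11360), Mv.b (nat_lit 11326), Mv.f (nat_lit 9069), Mv.f (nat_lit 10135), Mv.f (nat_lit 5945), Mv.b (nat_lit 8843), Mv.f (nat_lit 9854), Mv.f (nat_lit 11154), Mv.f (nat_lit 11453)])))))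
(Tr.nd (nat_lit 11456) (Tr.lf (Fc.ed (nat_lit 11455) (nat_lit 4229) Col.d (nat_lit 4475) Dv.df))
(Tr.nd (nat_lit 11457) (Tr.lf (Fc.ed (nat_lit 11456) (nat_lit 4475) Col.b (nat_lit 1084) (Dv.wd (nat_lit 37) [Mv.f (nat_lit 3348), Mv.b (nat_lit 10895), Mv.f (nat_lit 11455)])))
(Tr.lf (Fc.ed (nat_lit 11457) (nat_lit 2422) Col.b (nat_lit 4476) Dv.df))))))))
(Tr.nd (nat_lit 11478) (Tr.nd (nat_lit 11468) (Tr.nd (nat_lit 11463) (Tr.nd (nat_lit 11460) (Tr.nd (nat_lit 11459) (Tr.lf (Fc.ed (nat_lit 11458) (nat_lit 2460) Col.d (nat_lit 4477) Dv.df))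
(Tr.lf (Fc.ed (nat_lit 11459) (nat_lit 4477) Col.g (nat_lit 4221) (Dv.wd (nat_lit 69) [Mv.b (nat_lit 10879), Mv.b (nat_lit 4902), Mv.b (nat_lit 3881), Mv.b (nat_lit 10276), Mv.b (nat_lit 10280), Mv.f (nat_lit 5966), Mv.f (nat_lit 5995), Mv.b (nat_lit 6638), Mv.f (nat_lit 11458)]))))
(Tr.nd (nat_lit 11461) (Tr.lf (Fc.ed (nat_lit 11460) (nat_lit 3083) Col.g (nat_lit 4478) Dv.df))
(Tr.nd (nat_lit 11462) (Tr.lf (Fc.ed (nat_lit 11461) (nat_lit 4478) Col.c (nat_lit 4468) (Dv.wd (nat_lit 83) [Mv.b (nat_lit 11444), Mv.b (nat_lit 10637), Mv.b (nat_lit 5267), Mv.f (nat_lit 2166), Mv.f (nat_lit 5679), Mv.f (nat_lit 10267), Mv.f (nat_lit 10301), Mv.f (nat_lit 8014), Mv.f (nat_lit 11460)])))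
(Tr.lf (Fc.ed (nat_lit 11462) (nat_lit 2210) Col.a (nat_lit 4479) Dv.df)))))
(Tr.nd (nat_lit 11465) (Tr.nd (nat_lit 11464) (Tr.lf (Fc.ed (nat_lit 11463) (nat_lit 4479) Col.d (nat_lit 4463) (Dv.wd (nat_lit 28) [Mv.b (nat_lit 11436), Mv.b (nat_lit 6687), Mv.f (nat_lit 11462)])))
(Tr.lf (Fc.ed (nat_lit 11464) (nat_lit 1936) Col.b (nat_lit 4480) Dv.df)))
(Tr.nd (nat_lit 11466) (Tr.lf (Fc.ed (nat_lit 11465) (nat_lit 3384) Col.gi (nat_lit 4481) Dv.df))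
(Tr.nd (nat_lit 11467) (Tr.lf (Fc.ed (nat_lit 11466) (nat_lit 4481) Col.gi (nat_lit 3260) (Dv.wd (nat_lit 24) [Mv.f (nat_lit 8377), Mv.f (nat_lit 8628), Mv.f (nat_lit 11465)])))
(Tr.lf (Fc.ed (nat_lit 11467) (nat_lit 3571) Col.a (nat_lit 4482) Dv.df))))))
(Tr.nd (nat_lit 11473) (Tr.nd (nat_lit 11470) (Tr.nd (nat_lit 11469) (Tr.lf (Fc.ed (nat_lit 11468) (nat_lit 4482) Col.f (nat_lit 4196) (Dv.wd (nat_lit 10) [Mv.f (nat_lit 10831), Mv.b (nat_lit 9003), Mv.f (nat_lit 11467)])))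
(Tr.lf (Fc.ed (nat_lit 11469) (nat_lit 4283) Col.gi (nat_lit 4483) Dv.df)))
(Tr.nd (nat_lit 11471) (Tr.lf (Fc.ed (nat_lit 11470) (nat_lit 4483) Col.e (nat_lit 4460) (Dv.wd (nat_lit 146) [Mv.b (nat_lit 11431), Mv.f (nat_lit 8433), Mv.b (nat_lit 5010), Mv.b (nat_lit 5009), Mv.b (nat_lit 4145), Mv.b (nat_lit 6358), Mv.f (nat_lit 6357), Mv.f (nat_lit 8245), Mv.b (nat_lit 11020), Mv.f (nat_lit 11469)])))
(Tr.nd (nat_lit 11472) (Tr.lf (Fc.ed (nat_lit 11471) (nat_lit 2720) Col.e (nat_lit 4484) Dv.df))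
(Tr.lf (Fc.ed (nat_lit 11472) (nat_lit 2994) Col.f (nat_lit 4485) Dv.df)))))
(Tr.nd (nat_lit 11475) (Tr.nd (nat_lit 11474) (Tr.lf (Fc.ed (nat_lit 11473) (nat_lit 4485) Col.c (nat_lit 2584) (Dv.wd (nat_lit 34) [Mv.f (nat_lit 6977), Mv.f (nat_lit 7814), Mv.f (nat_lit 11472)])))
(Tr.lf (Fc.ed (nat_lit 11474) (nat_lit 2077) Col.e (nat_lit 4486) Dv.df)))
(Tr.nd (nat_lit 11476) (Tr.lf (Fc.ed (nat_lit 11475) (nat_lit 2613) Col.e (nat_lit 4487) Dv.df))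
(Tr.nd (nat_lit 11477) (Tr.lf (Fc.ed (nat_lit 11476) (nat_lit 2733) Col.a (nat_lit 4488) Dv.df))
(Tr.lf (Fc.ed (nat_lit 11477) (nat_lit 4488) Col.d (nat_lit 3924) (Dv.wd (nat_lit 28) [Mv.b (nat_lit 9635), Mv.f (nat_lit 7272), Mv.f (nat_lit 11476)]))))))))
(Tr.nd (nat_lit 11488) (Tr.nd (nat_lit 11483) (Tr.nd (nat_lit 11480) (Tr.nd (nat_lit 11479) (Tr.lf (Fc.ed (nat_lit 11478) (nat_lit 2302) Col.gi (nat_lit 4489) Dv.df))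
(Tr.lf (Fc.ed (nat_lit 11479) (nat_lit 4489) Col.gi (nat_lit 1962) (Dv.wd (nat_lit 24) [Mv.b (nat_lit 8362), Mv.f (nat_lit 8361), Mv.f (nat_lit 11478)]))))
(Tr.nd (nat_lit 11481) (Tr.lf (Fc.ed (nat_lit 11480) (nat_lit 2791) Col.g (nat_lit 4490) Dv.df))
(Tr.nd (nat_lit 11482) (Tr.lf (Fc.ed (nat_lit 11481) (nat_lit 3773) Col.a (nat_lit 4491) Dv.df))
(Tr.lf (Fc.ed (nat_lit 11482) (nat_lit 4491) Col.f (nat_lit 3214) (Dv.wd (nat_lit 10) [Mv.b (nat_lit 8287), Mv.f (nat_lit 9381), Mv.f (nat_lit 11481)]))))))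
(Tr.nd (nat_lit 11485) (Tr.nd (nat_lit 11484) (Tr.lf (Fc.ed (nat_lit 11483) (nat_lit 1528) Col.c (nat_lit 4492) Dv.df))
(Tr.lf (Fc.ed (nat_lit 11484) (nat_lit 4492) Col.f (nat_lit 4375) (Dv.wd (nat_lit 26) [Mv.b (nat_lit 11273), Mv.b (nat_lit 5165), Mv.f (nat_lit 11483)]))))
(Tr.nd (nat_lit 11486) (Tr.lf (Fc.ed (nat_lit 11485) (nat_lit 639) Col.b (nat_lit 4493) Dv.df))
(Tr.nd (nat_lit 11487) (Tr.lf (Fc.ed (nat_lit 11486) (nat_lit 4493) Col.f (nat_lit 3905) (Dv.wd (nat_lit 20) [Mv.b (nat_lit 9603), Mv.b (nat_lit 3060), Mv.f (nat_lit 11485)])))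
(Tr.lf (Fc.ed (nat_lit 11487) (nat_lit 3075) Col.g (nat_lit 4494) Dv.df))))))
(Tr.nd (nat_lit 11493) (Tr.nd (nat_lit 11490) (Tr.nd (nat_lit 11489) (Tr.lf (Fc.ed (nat_lit 11488) (nat_lit 4494) Col.g (nat_lit 3540) (Dv.wd (nat_lit 9) [Mv.f (nat_lit 8940), Mv.b (nat_lit 7996), Mv.f (nat_lit 11487)])))
(Tr.lf (Fc.ed (nat_lit 11489) (nat_lit 2358) Col.b (nat_lit 4495) Dv.df)))
(Tr.nd (nat_lit 11491) (Tr.lf (Fc.ed (nat_lit 11490) (nat_lit 3686) Col.e (nat_lit 4496) Dv.df))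
(Tr.nd (nat_lit 11492) (Tr.lf (Fc.ed (nat_lit 11491) (nat_lit 4496) Col.a (nat_lit 2219) (Dv.wd (nat_lit 15) [Mv.f (nat_lit 6116), Mv.f (nat_lit 9207), Mv.f (nat_lit 11490)])))
(Tr.lf (Fc.ed (nat_lit 11492) (nat_lit 4496) Col.f (nat_lit 3924) (Dv.wd (nat_lit 96) [Mv.f (nat_lit 9636), Mv.f (nat_lit 9210), Mv.b (nat_lit 8981), Mv.b (nat_lit 9208), Mv.f (nat_lit 11490)]))))))
(Tr.nd (nat_lit 11496) (Tr.nd (nat_lit 11494) (Tr.lf (Fc.ed (nat_lit 11493) (nat_lit 4463) Col.c (nat_lit 4497) Dv.df))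
(Tr.nd (nat_lit 11495) (Tr.lf (Fc.ed (nat_lit 11494) (nat_lit 4497) Col.a (nat_lit 2537) (Dv.wd (nat_lit 19) [Mv.b (nat_lit 6825), Mv.f (nat_lit 11436), Mv.f (nat_lit 11493)])))
(Tr.lf (Fc.ed (nat_lit 11495) (nat_lit 3475) Col.gi (nat_lit 4498) Dv.df))))
(Tr.nd (nat_lit 11497) (Tr.lf (Fc.ed (nat_lit 11496) (nat_lit 4088) Col.e (nat_lit 4499) Dv.df))
(Tr.nd (nat_lit 11498) (Tr.lf (Fc.ed (nat_lit 11497) (nat_lit 3527) Col.g (nat_lit 4500) Dv.df))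
(Tr.lf (Fc.ed (nat_lit 11498) (nat_lit 4500) Col.g (nat_lit 1970) (Dv.wd (nat_lit 9) [Mv.f (nat_lit 7009), Mv.f (nat_lit 8916), Mv.f (nat_lit 11497)]))))))))))))
(Tr.nd (nat_lit 11663) (Tr.nd (nat_lit 11581) (Tr.nd (nat_lit 11540) (Tr.nd (nat_lit 11519) (Tr.nd (nat_lit 11509) (Tr.nd (nat_lit 11504) (Tr.nd (nat_lit 11501) (Tr.nd (nat_lit 11500) (Tr.lf (Fc.ed (nat_lit 11499) (nat_lit 3827) Col.g (nat_lit 4501) Dv.df))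
(Tr.lf (Fc.ed (nat_lit 11500) (nat_lit 4501) Col.g (nat_lit 2517) (Dv.wd (nat_lit 9) [Mv.f (nat_lit 10875), Mv.f (nat_lit 10877), Mv.f (nat_lit 11499)]))))
(Tr.nd (nat_lit 11502) (Tr.lf (Fc.ed (nat_lit 11501) (nat_lit 4432) Col.g (nat_lit 4502) Dv.df))
(Tr.nd (nat_lit 11503) (Tr.lf (Fc.ed (nat_lit 11502) (nat_lit 4502) Col.g (nat_lit 2888) (Dv.wd (nat_lit 9) [Mv.f (nat_lit 7598), Mv.f (nat_lit 11384), Mv.f (nat_lit 11501)])))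
(Tr.lf (Fc.ed (nat_lit 11503) (nat_lit 3386) Col.g (nat_lit 4503) Dv.df)))))
(Tr.nd (nat_lit 11506) (Tr.nd (nat_lit 11505) (Tr.lf (Fc.ed (nat_lit 11504) (nat_lit 4503) Col.g (nat_lit 3661) (Dv.wd (nat_lit 9) [Mv.b (nat_lit 9162), Mv.f (nat_lit 8633), Mv.f (nat_lit 11503)])))
(Tr.lf (Fc.ed (nat_lit 11505) (nat_lit 2194) Col.g (nat_lit 4504) Dv.df)))
(Tr.nd (nat_lit 11507) (Tr.lf (Fc.ed (nat_lit 11506) (nat_lit 4504) Col.g (nat_lit 2762) (Dv.wd (nat_lit 9) [Mv.f (nat_lit 7319), Mv.b (nat_lit 7318), Mv.f (nat_lit 11505)])))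
(Tr.nd (nat_lit 11508) (Tr.lf (Fc.ed (nat_lit 11507) (nat_lit 2726) Col.f (nat_lit 4505) Dv.df))
(Tr.lf (Fc.ed (nat_lit 11508) (nat_lit 4505) Col.a (nat_lit 4395) (Dv.wd (nat_lit 16) [Mv.b (nat_lit 11310), Mv.b (nat_lit 7241), Mv.f (nat_lit 11507)])))))))
(Tr.nd (nat_lit 11514) (Tr.nd (nat_lit 11511) (Tr.nd (nat_lit 11510) (Tr.lf (Fc.ed (nat_lit 11509) (nat_lit 1481) Col.d (nat_lit 4506) Dv.df))
(Tr.lf (Fc.ed (nat_lit 11510) (nat_lit 3345) Col.gi (nat_lit 4507) Dv.df)))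
(Tr.nd (nat_lit 11512) (Tr.lf (Fc.ed (nat_lit 11511) (nat_lit 4402) Col.f (nat_lit 4508) Dv.df))
(Tr.nd (nat_lit 11513) (Tr.lf (Fc.ed (nat_lit 11512) (nat_lit 2287) Col.d (nat_lit 4509) Dv.df))
(Tr.lf (Fc.ed (nat_lit 11513) (nat_lit 4509) Col.e (nat_lit 4368) (Dv.wd (nat_lit 42) [Mv.b (nat_lit 11261), Mv.b (nat_lit 6203), Mv.f (nat_lit 3348), Mv.b (nat_lit 6262), Mv.f (nat_lit 11512)]))))))
(Tr.nd (nat_lit 11516) (Tr.nd (nat_lit 11515) (Tr.lf (Fc.ed (nat_lit 11514) (nat_lit 4071) Col.gi (nat_lit 4510) Dv.df))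
(Tr.lf (Fc.ed (nat_lit 11515) (nat_lit 4510) Col.d (nat_lit 4039) (Dv.wd (nat_lit 48) [Mv.f (nat_lit 10495), Mv.f (nat_lit 10247), Mv.f (nat_lit 5369), Mv.b (nat_lit 6361), Mv.f (nat_lit 7142), Mv.b (nat_lit 10181), Mv.b (nat_lit 5498), Mv.b (nat_lit 10331), Mv.f (nat_lit 11514)]))))
(Tr.nd (nat_lit 11517) (Tr.lf (Fc.ed (nat_lit 11516) (nat_lit 4455) Col.a (nat_lit 4511) Dv.df))
(Tr.nd (nat_lit 11518) (Tr.lf (Fc.ed (nat_lit 11517) (nat_lit 4511) Col.c (nat_lit 3139) (Dv.wd (nat_lit 33) [Mv.b (nat_lit 8137), Mv.f (nat_lit 11422), Mv.f (nat_lit 11516)])))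
(Tr.lf (Fc.ed (nat_lit 11518) (nat_lit 4511) Col.f (nat_lit 2860) (Dv.wd (nat_lit 35) [Mv.b (nat_lit 7536), Mv.b (nat_lit 11423), Mv.f (nat_lit 11516)]))))))))
(Tr.nd (nat_lit 11529) (Tr.nd (nat_lit 11524) (Tr.nd (nat_lit 11521) (Tr.nd (nat_lit 11520) (Tr.lf (Fc.ed (nat_lit 11519) (nat_lit 4476) Col.f (nat_lit 4512) Dv.df))
(Tr.lf (Fc.ed (nat_lit 11520) (nat_lit 2182) Col.a (nat_lit 4513) Dv.df)))
(Tr.nd (nat_lit 11522) (Tr.lf (Fc.ed (nat_lit 11521) (nat_lit 2929) Col.a (nat_lit 4514) Dv.df))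
(Tr.nd (nat_lit 11523) (Tr.lf (Fc.ed (nat_lit 11522) (nat_lit 4514) Col.f (nat_lit 2903) (Dv.wd (nat_lit 10) [Mv.b (nat_lit 7632), Mv.f (nat_lit 7684), Mv.f (nat_lit 11521)])))
(Tr.lf (Fc.ed (nat_lit 11523) (nat_lit 1557) Col.c (nat_lit 4515) Dv.df)))))
(Tr.nd (nat_lit 11526) (Tr.nd (nat_lit 11525) (Tr.lf (Fc.ed (nat_lit 11524) (nat_lit 4492) Col.gi (nat_lit 4516) Dv.df))
(Tr.lf (Fc.ed (nat_lit 11525) (nat_lit 2444) Col.a (nat_lit 4517) Dv.df)))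
(Tr.nd (nat_lit 11527) (Tr.lf (Fc.ed (nat_lit 11526) (nat_lit 4517) Col.f (nat_lit 4463) (Dv.wd (nat_lit 35) [Mv.b (nat_lit 11436), Mv.f (nat_lit 6689), Mv.f (nat_lit 11525)])))
(Tr.nd (nat_lit 11528) (Tr.lf (Fc.ed (nat_lit 11527) (nat_lit 4517) Col.b (nat_lit 4513) (Dv.wd (nat_lit 65) [Mv.b (nat_lit 11520), Mv.b (nat_lit 6039), Mv.b (nat_lit 3446), Mv.f (nat_lit 6601), Mv.f (nat_lit 11525)])))
(Tr.lf (Fc.ed (nat_lit 11528) (nat_lit 4386) Col.d (nat_lit 4518) Dv.df))))))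
(Tr.nd (nat_lit 11534) (Tr.nd (nat_lit 11531) (Tr.nd (nat_lit 11530) (Tr.lf (Fc.ed (nat_lit 11529) (nat_lit 4277) Col.gi (nat_lit 4519) Dv.df))
(Tr.lf (Fc.ed (nat_lit 11530) (nat_lit 4519) Col.gi (nat_lit 2500) (Dv.wd (nat_lit 24) [Mv.f (nat_lit 6736), Mv.b (nat_lit 11002), Mv.f (nat_lit 11529)]))))
(Tr.nd (nat_lit 11532) (Tr.lf (Fc.ed (nat_lit 11531) (nat_lit 4021) Col.f (nat_lit 4520) Dv.df))
(Tr.nd (nat_lit 11533) (Tr.lf (Fc.ed (nat_lit 11532) (nat_lit 4520) Col.a (nat_lit 3751) (Dv.wd (nat_lit 23) [Mv.f (nat_lit 9341), Mv.b (nat_lit 9839), Mv.f (nat_lit 11531)])))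
(Tr.lf (Fc.ed (nat_lit 11533) (nat_lit 4477) Col.gi (nat_lit 4521) Dv.df)))))
(Tr.nd (nat_lit 11537) (Tr.nd (nat_lit 11535) (Tr.lf (Fc.ed (nat_lit 11534) (nat_lit 4521) Col.d (nat_lit 2441) (Dv.wd (nat_lit 48) [Mv.b (nat_lit 8626), Mv.f (nat_lit 9536), Mv.b (nat_lit 10455), Mv.b (nat_lit 10245), Mv.b (nat_lit 10244), Mv.b (nat_lit 10319), Mv.b (nat_lit 10318), Mv.f (nat_lit 11458), Mv.f (nat_lit 11533)])))
(Tr.nd (nat_lit 11536) (Tr.lf (Fc.ed (nat_lit 11535) (nat_lit 4411) Col.a (nat_lit 4522) Dv.df))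
(Tr.lf (Fc.ed (nat_lit 11536) (nat_lit 4522) Col.f (nat_lit 4247) (Dv.wd (nat_lit 10) [Mv.b (nat_lit 10923), Mv.f (nat_lit 11344), Mv.f (nat_lit 11535)])))))
(Tr.nd (nat_lit 11538) (Tr.lf (Fc.ed (nat_lit 11537) (nat_lit 2540) Col.gi (nat_lit 4523) Dv.df))
(Tr.nd (nat_lit 11539) (Tr.lf (Fc.ed (nat_lit 11538) (nat_lit 4523) Col.gi (nat_lit 4298) (Dv.wd (nat_lit 24) [Mv.f (nat_lit 11059), Mv.f (nat_lit 6837), Mv.f (nat_lit 11537)])))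
(Tr.lf (Fc.ed (nat_lit 11539) (nat_lit 3433) Col.a (nat_lit 4524) Dv.df))))))))
(Tr.nd (nat_lit 11560) (Tr.nd (nat_lit 11550) (Tr.nd (nat_lit 11545) (Tr.nd (nat_lit 11542) (Tr.nd (nat_lit 11541) (Tr.lf (Fc.ed (nat_lit 11540) (nat_lit 4524) Col.f (nat_lit 3298) (Dv.wd (nat_lit 10) [Mv.f (nat_lit 8452), Mv.f (nat_lit 8732), Mv.f (nat_lit 11539)])))
(Tr.lf (Fc.ed (nat_lit 11541) (nat_lit 2843) Col.f (nat_lit 4525) Dv.df)))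
(Tr.nd (nat_lit 11543) (Tr.lf (Fc.ed (nat_lit 11542) (nat_lit 4525) Col.a (nat_lit 4413) (Dv.wd (nat_lit 16) [Mv.f (nat_lit 11349), Mv.b (nat_lit 7497), Mv.f (nat_lit 11541)])))
(Tr.nd (nat_lit 11544) (Tr.lf (Fc.ed (nat_lit 11543) (nat_lit 2227) Col.a (nat_lit 4526) Dv.df))
(Tr.lf (Fc.ed (nat_lit 11544) (nat_lit 4526) Col.f (nat_lit 3287) (Dv.wd (nat_lit 35) [Mv.f (nat_lit 9470), Mv.f (nat_lit 9471), Mv.f (nat_lit 11543)]))))))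
(Tr.nd (nat_lit 11547) (Tr.nd (nat_lit 11546) (Tr.lf (Fc.ed (nat_lit 11545) (nat_lit 3711) Col.c (nat_lit 4526) (Dv.wd (nat_lit 67) [Mv.f (nat_lit 11544), Mv.f (nat_lit 8536), Mv.f (nat_lit 9265)])))
(Tr.lf (Fc.ed (nat_lit 11546) (nat_lit 4327) Col.a (nat_lit 4527) Dv.df)))
(Tr.nd (nat_lit 11548) (Tr.lf (Fc.ed (nat_lit 11547) (nat_lit 4527) Col.f (nat_lit 2779) (Dv.wd (nat_lit 35) [Mv.f (nat_lit 7356), Mv.f (nat_lit 11113), Mv.f (nat_lit 11546)])))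
(Tr.nd (nat_lit 11549) (Tr.lf (Fc.ed (nat_lit 11548) (nat_lit 2751) Col.a (nat_lit 4528) Dv.df))
(Tr.lf (Fc.ed (nat_lit 11549) (nat_lit 4528) Col.f (nat_lit 2873) (Dv.wd (nat_lit 35) [Mv.b (nat_lit 8275), Mv.b (nat_lit 8274), Mv.f (nat_lit 11548)])))))))
(Tr.nd (nat_lit 11555) (Tr.nd (nat_lit 11552) (Tr.nd (nat_lit 11551) (Tr.lf (Fc.ed (nat_lit 11550) (nat_lit 2892) Col.gi (nat_lit 4529) Dv.df))
(Tr.lf (Fc.ed (nat_lit 11551) (nat_lit 4529) Col.gi (nat_lit 1820) (Dv.wd (nat_lit 24) [Mv.b (nat_lit 7572), Mv.b (nat_lit 7605), Mv.f (nat_lit 11550)]))))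
(Tr.nd (nat_lit 11553) (Tr.lf (Fc.ed (nat_lit 11552) (nat_lit 4069) Col.f (nat_lit 4530) Dv.df))
(Tr.nd (nat_lit 11554) (Tr.lf (Fc.ed (nat_lit 11553) (nat_lit 4358) Col.a (nat_lit 4531) Dv.df))
(Tr.lf (Fc.ed (nat_lit 11554) (nat_lit 4531) Col.f (nat_lit 3846) (Dv.wd (nat_lit 35) [Mv.f (nat_lit 11290), Mv.f (nat_lit 11291), Mv.f (nat_lit 11553)]))))))
(Tr.nd (nat_lit 11557) (Tr.nd (nat_lit 11556) (Tr.lf (Fc.ed (nat_lit 11555) (nat_lit 4097) Col.b (nat_lit 4532) Dv.df))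
(Tr.lf (Fc.ed (nat_lit 11556) (nat_lit 4532) Col.d (nat_lit 2289) (Dv.wd (nat_lit 58) [Mv.b (nat_lit 6265), Mv.b (nat_lit 10571), Mv.f (nat_lit 11555)]))))
(Tr.nd (nat_lit 11558) (Tr.lf (Fc.ed (nat_lit 11557) (nat_lit 4532) Col.f (nat_lit 4221) (Dv.wd (nat_lit 20) [Mv.f (nat_lit 10880), Mv.f (nat_lit 10569), Mv.f (nat_lit 11555)])))
(Tr.nd (nat_lit 11559) (Tr.lf (Fc.ed (nat_lit 11558) (nat_lit 4521) Col.a (nat_lit 4532) (Dv.wd (nat_lit 54) [Mv.f (nat_lit 11556), Mv.b (nat_lit 6596), Mv.b (nat_lit 11534)])))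
(Tr.lf (Fc.ed (nat_lit 11559) (nat_lit 4434) Col.f (nat_lit 4533) Dv.df)))))))
(Tr.nd (nat_lit 11570) (Tr.nd (nat_lit 11565) (Tr.nd (nat_lit 11562) (Tr.nd (nat_lit 11561) (Tr.lf (Fc.ed (nat_lit 11560) (nat_lit 4507) Col.e (nat_lit 4534) Dv.df))
(Tr.lf (Fc.ed (nat_lit 11561) (nat_lit 4534) Col.d (nat_lit 4257) (Dv.wd (nat_lit 27) [Mv.f (nat_lit 10952), Mv.f (nat_lit 4960), Mv.b (nat_lit 4937), Mv.f (nat_lit 3813), Mv.f (nat_lit 4882), Mv.f (nat_lit 4885), Mv.b (nat_lit 7442), Mv.b (nat_lit 8550), Mv.f (nat_lit 11510), Mv.f (nat_lit 11560)]))))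
(Tr.nd (nat_lit 11563) (Tr.lf (Fc.ed (nat_lit 11562) (nat_lit 1507) Col.e (nat_lit 4535) Dv.df))
(Tr.nd (nat_lit 11564) (Tr.lf (Fc.ed (nat_lit 11563) (nat_lit 2790) Col.f (nat_lit 4536) Dv.df))
(Tr.lf (Fc.ed (nat_lit 11564) (nat_lit 4536) Col.b (nat_lit 2924) (Dv.wd (nat_lit 66) [Mv.b (nat_lit 7675), Mv.f (nat_lit 7383), Mv.f (nat_lit 11563)]))))))
(Tr.nd (nat_lit 11567) (Tr.nd (nat_lit 11566) (Tr.lf (Fc.ed (nat_lit 11565) (nat_lit 4536) Col.c (nat_lit 3927) (Dv.wd (nat_lit 34) [Mv.b (nat_lit 9686), Mv.b (nat_lit 7385), Mv.f (nat_lit 11563)])))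
(Tr.lf (Fc.ed (nat_lit 11566) (nat_lit 2899) Col.f (nat_lit 4537) Dv.df)))
(Tr.nd (nat_lit 11568) (Tr.lf (Fc.ed (nat_lit 11567) (nat_lit 4537) Col.a (nat_lit 3168) (Dv.wd (nat_lit 23) [Mv.b (nat_lit 8194), Mv.f (nat_lit 7622), Mv.f (nat_lit 11566)])))
(Tr.nd (nat_lit 11569) (Tr.lf (Fc.ed (nat_lit 11568) (nat_lit 2888) Col.c (nat_lit 4538) Dv.df))
(Tr.lf (Fc.ed (nat_lit 11569) (nat_lit 2650) Col.d (nat_lit 4539) Dv.df))))))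
(Tr.nd (nat_lit 11575) (Tr.nd (nat_lit 11572) (Tr.nd (nat_lit 11571) (Tr.lf (Fc.ed (nat_lit 11570) (nat_lit 2717) Col.g (nat_lit 4540) Dv.df))
(Tr.lf (Fc.ed (nat_lit 11571) (nat_lit 4540) Col.c (nat_lit 4480) (Dv.wd (nat_lit 115) [Mv.b (nat_lit 11464), Mv.b (nat_lit 5448), Mv.f (nat_lit 5223), Mv.b (nat_lit 5530), Mv.b (nat_lit 6405), Mv.f (nat_lit 6887), Mv.f (nat_lit 6888), Mv.f (nat_lit 5771), Mv.f (nat_lit 7222), Mv.f (nat_lit 11570)]))))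
(Tr.nd (nat_lit 11573) (Tr.lf (Fc.ed (nat_lit 11572) (nat_lit 4536) Col.a (nat_lit 4541) Dv.df))
(Tr.nd (nat_lit 11574) (Tr.lf (Fc.ed (nat_lit 11573) (nat_lit 4541) Col.f (nat_lit 4313) (Dv.wd (nat_lit 35) [Mv.b (nat_lit 11087), Mv.f (nat_lit 11563), Mv.f (nat_lit 11572)])))
(Tr.lf (Fc.ed (nat_lit 11574) (nat_lit 2877) Col.a (nat_lit 4542) Dv.df)))))
(Tr.nd (nat_lit 11578) (Tr.nd (nat_lit 11576) (Tr.lf (Fc.ed (nat_lit 11575) (nat_lit 4542) Col.f (nat_lit 3205) (Dv.wd (nat_lit 10) [Mv.f (nat_lit 8272), Mv.b (nat_lit 7574), Mv.f (nat_lit 11574)])))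
(Tr.nd (nat_lit 11577) (Tr.lf (Fc.ed (nat_lit 11576) (nat_lit 3535) Col.f (nat_lit 4543) Dv.df))
(Tr.lf (Fc.ed (nat_lit 11577) (nat_lit 4543) Col.a (nat_lit 4529) (Dv.wd (nat_lit 23) [Mv.f (nat_lit 11551), Mv.f (nat_lit 8928), Mv.f (nat_lit 11576)])))))
(Tr.nd (nat_lit 11579) (Tr.lf (Fc.ed (nat_lit 11578) (nat_lit 3166) Col.g (nat_lit 4544) Dv.df))
(Tr.nd (nat_lit 11580) (Tr.lf (Fc.ed (nat_lit 11579) (nat_lit 4544) Col.g (nat_lit 1504) (Dv.wd (nat_lit 9) [Mv.b (nat_lit 8254), Mv.b (nat_lit 8253), Mv.f (nat_lit 11578)])))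
(Tr.lf (Fc.ed (nat_lit 11580) (nat_lit 3387) Col.f (nat_lit 4545) Dv.df)))))))))
(Tr.nd (nat_lit 11622) (Tr.nd (nat_lit 11601) (Tr.nd (nat_lit 11591) (Tr.nd (nat_lit 11586) (Tr.nd (nat_lit 11583) (Tr.nd (nat_lit 11582) (Tr.lf (Fc.ed (nat_lit 11581) (nat_lit 4545) Col.a (nat_lit 2657) (Dv.wd (nat_lit 16) [Mv.f (nat_lit 8993), Mv.f (nat_lit 8994), Mv.f (nat_lit 11580)])))
(Tr.lf (Fc.ed (nat_lit 11582) (nat_lit 2370) Col.f (nat_lit 4546) Dv.df)))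
(Tr.nd (nat_lit 11584) (Tr.lf (Fc.ed (nat_lit 11583) (nat_lit 4546) Col.a (nat_lit 4162) (Dv.wd (nat_lit 23) [Mv.f (nat_lit 10770), Mv.b (nat_lit 6456), Mv.f (nat_lit 11582)])))
(Tr.nd (nat_lit 11585) (Tr.lf (Fc.ed (nat_lit 11584) (nat_lit 2068) Col.g (nat_lit 4547) Dv.df))
(Tr.lf (Fc.ed (nat_lit 11585) (nat_lit 4547) Col.g (nat_lit 4065) (Dv.wd (nat_lit 9) [Mv.f (nat_lit 9911), Mv.b (nat_lit 8261), Mv.f (nat_lit 11584)]))))))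
(Tr.nd (nat_lit 11588) (Tr.nd (nat_lit 11587) (Tr.lf (Fc.ed (nat_lit 11586) (nat_lit 4478) Col.d (nat_lit 4548) Dv.df))
(Tr.lf (Fc.ed (nat_lit 11587) (nat_lit 3494) Col.d (nat_lit 4549) Dv.df)))
(Tr.nd (nat_lit 11589) (Tr.lf (Fc.ed (nat_lit 11588) (nat_lit 3715) Col.d (nat_lit 4550) Dv.df))
(Tr.nd (nat_lit 11590) (Tr.lf (Fc.ed (nat_lit 11589) (nat_lit 4175) Col.a (nat_lit 4551) Dv.df))
(Tr.lf (Fc.ed (nat_lit 11590) (nat_lit 4551) Col.f (nat_lit 4318) (Dv.wd (nat_lit 10) [Mv.f (nat_lit 11098), Mv.b (nat_lit 10793), Mv.f (nat_lit 11589)])))))))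
(Tr.nd (nat_lit 11596) (Tr.nd (nat_lit 11593) (Tr.nd (nat_lit 11592) (Tr.lf (Fc.ed (nat_lit 11591) (nat_lit 2716) Col.a (nat_lit 4552) Dv.df))
(Tr.lf (Fc.ed (nat_lit 11592) (nat_lit 4552) Col.f (nat_lit 3597) (Dv.wd (nat_lit 10) [Mv.f (nat_lit 9050), Mv.f (nat_lit 7220), Mv.f (nat_lit 11591)]))))
(Tr.nd (nat_lit 11594) (Tr.lf (Fc.ed (nat_lit 11593) (nat_lit 4504) Col.a (nat_lit 4553) Dv.df))
(Tr.nd (nat_lit 11595) (Tr.lf (Fc.ed (nat_lit 11594) (nat_lit 4553) Col.f (nat_lit 4124) (Dv.wd (nat_lit 10) [Mv.b (nat_lit 10618), Mv.f (nat_lit 11505), Mv.f (nat_lit 11593)])))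
(Tr.lf (Fc.ed (nat_lit 11595) (nat_lit 2652) Col.b (nat_lit 4554) Dv.df)))))
(Tr.nd (nat_lit 11598) (Tr.nd (nat_lit 11597) (Tr.lf (Fc.ed (nat_lit 11596) (nat_lit 4554) Col.e (nat_lit 4472) (Dv.wd (nat_lit 52) [Mv.b (nat_lit 11450), Mv.f (nat_lit 7513), Mv.f (nat_lit 11595)])))
(Tr.lf (Fc.ed (nat_lit 11597) (nat_lit 4554) Col.f (nat_lit 3031) (Dv.wd (nat_lit 20) [Mv.b (nat_lit 7889), Mv.b (nat_lit 7092), Mv.f (nat_lit 11595)]))))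
(Tr.nd (nat_lit 11599) (Tr.lf (Fc.ed (nat_lit 11598) (nat_lit 4492) Col.d (nat_lit 4555) Dv.df))
(Tr.nd (nat_lit 11600) (Tr.lf (Fc.ed (nat_lit 11599) (nat_lit 4555) Col.f (nat_lit 4382) (Dv.wd (nat_lit 11) [Mv.b (nat_lit 11289), Mv.b (nat_lit 11484), Mv.f (nat_lit 11598)])))
(Tr.lf (Fc.ed (nat_lit 11600) (nat_lit 4555) Col.c (nat_lit 2485) (Dv.wd (nat_lit 80) [Mv.f (nat_lit 10142), Mv.b (nat_lit 10136), Mv.b (nat_lit 9350), Mv.f (nat_lit 8822), Mv.f (nat_lit 10202), Mv.f (nat_lit 6859), Mv.f (nat_lit 6860), Mv.f (nat_lit 11483), Mv.f (nat_lit 11598)]))))))))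
(Tr.nd (nat_lit 11611) (Tr.nd (nat_lit 11606) (Tr.nd (nat_lit 11603) (Tr.nd (nat_lit 11602) (Tr.lf (Fc.ed (nat_lit 11601) (nat_lit 4508) Col.a (nat_lit 4555) (Dv.wd (nat_lit 46) [Mv.f (nat_lit 11600), Mv.f (nat_lit 10142), Mv.b (nat_lit 10136), Mv.b (nat_lit 9350), Mv.f (nat_lit 8822), Mv.f (nat_lit 10202), Mv.b (nat_lit 11361), Mv.b (nat_lit 11360), Mv.f (nat_lit 11511)])))
(Tr.lf (Fc.ed (nat_lit 11602) (nat_lit 4035) Col.d (nat_lit 4556) Dv.df)))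
(Tr.nd (nat_lit 11604) (Tr.lf (Fc.ed (nat_lit 11603) (nat_lit 4556) Col.a (nat_lit 2673) (Dv.wd (nat_lit 8) [Mv.b (nat_lit 7129), Mv.b (nat_lit 9865), Mv.f (nat_lit 11602)])))
(Tr.nd (nat_lit 11605) (Tr.lf (Fc.ed (nat_lit 11604) (nat_lit 2770) Col.g (nat_lit 4557) Dv.df))
(Tr.lf (Fc.ed (nat_lit 11605) (nat_lit 4557) Col.g (nat_lit 2282) (Dv.wd (nat_lit 9) [Mv.b (nat_lit 10554), Mv.b (nat_lit 8544), Mv.f (nat_lit 11604)]))))))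
(Tr.nd (nat_lit 11608) (Tr.nd (nat_lit 11607) (Tr.lf (Fc.ed (nat_lit 11606) (nat_lit 3681) Col.a (nat_lit 4558) Dv.df))
(Tr.lf (Fc.ed (nat_lit 11607) (nat_lit 4558) Col.b (nat_lit 4497) (Dv.wd (nat_lit 65) [Mv.f (nat_lit 11494), Mv.f (nat_lit 6826), Mv.b (nat_lit 5401), Mv.f (nat_lit 9199), Mv.f (nat_lit 11606)]))))
(Tr.nd (nat_lit 11609) (Tr.lf (Fc.ed (nat_lit 11608) (nat_lit 3986) Col.e (nat_lit 4559) Dv.df))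
(Tr.nd (nat_lit 11610) (Tr.lf (Fc.ed (nat_lit 11609) (nat_lit 4559) Col.d (nat_lit 4544) (Dv.wd (nat_lit 91) [Mv.f (nat_lit 11579), Mv.f (nat_lit 4508), Mv.b (nat_lit 3806), Mv.b (nat_lit 5982), Mv.b (nat_lit 10166), Mv.b (nat_lit 5768), Mv.b (nat_lit 6321), Mv.f (nat_lit 7019), Mv.f (nat_lit 9782), Mv.f (nat_lit 11608)])))
(Tr.lf (Fc.ed (nat_lit 11610) (nat_lit 2773) Col.b (nat_lit 4560) Dv.df))))))
(Tr.nd (nat_lit 11616) (Tr.nd (nat_lit 11613) (Tr.nd (nat_lit 11612) (Tr.lf (Fc.ed (nat_lit 11611) (nat_lit 4560) Col.c (nat_lit 4404) (Dv.wd (nat_lit 135) [Mv.f (nat_lit 11330), Mv.f (nat_lit 8524), Mv.f (nat_lit 6520), Mv.b (nat_lit 5508), Mv.f (nat_lit 5628), Mv.f (nat_lit 5629), Mv.b (nat_lit 2092), Mv.b (nat_lit 3572), Mv.b (nat_lit 7343), Mv.f (nat_lit 11610)])))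
(Tr.lf (Fc.ed (nat_lit 11612) (nat_lit 1810) Col.gi (nat_lit 4561) Dv.df)))
(Tr.nd (nat_lit 11614) (Tr.lf (Fc.ed (nat_lit 11613) (nat_lit 4390) Col.f (nat_lit 4562) Dv.df))
(Tr.nd (nat_lit 11615) (Tr.lf (Fc.ed (nat_lit 11614) (nat_lit 4562) Col.d (nat_lit 2530) (Dv.wd (nat_lit 21) [Mv.b (nat_lit 11159), Mv.f (nat_lit 11301), Mv.f (nat_lit 11613)])))
(Tr.lf (Fc.ed (nat_lit 11615) (nat_lit 3253) Col.gi (nat_lit 4563) Dv.df)))))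
(Tr.nd (nat_lit 11619) (Tr.nd (nat_lit 11617) (Tr.lf (Fc.ed (nat_lit 11616) (nat_lit 4563) Col.gi (nat_lit 2022) (Dv.wd (nat_lit 24) [Mv.f (nat_lit 6296), Mv.b (nat_lit 8361), Mv.f (nat_lit 11615)])))
(Tr.nd (nat_lit 11618) (Tr.lf (Fc.ed (nat_lit 11617) (nat_lit 1529) Col.c (nat_lit 4564) Dv.df))
(Tr.lf (Fc.ed (nat_lit 11618) (nat_lit 2729) Col.g (nat_lit 4565) Dv.df))))
(Tr.nd (nat_lit 11620) (Tr.lf (Fc.ed (nat_lit 11619) (nat_lit 4565) Col.g (nat_lit 3080) (Dv.wd (nat_lit 9) [Mv.f (nat_lit 8137), Mv.f (nat_lit 8138), Mv.f (nat_lit 11618)])))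
(Tr.nd (nat_lit 11621) (Tr.lf (Fc.ed (nat_lit 11620) (nat_lit 3184) Col.b (nat_lit 4566) Dv.df))
(Tr.lf (Fc.ed (nat_lit 11621) (nat_lit 4566) Col.f (nat_lit 3408) (Dv.wd (nat_lit 20) [Mv.f (nat_lit 8680), Mv.b (nat_lit 8228), Mv.f (nat_lit 11620)])))))))))
(Tr.nd (nat_lit 11642) (Tr.nd (nat_lit 11632) (Tr.nd (nat_lit 11627) (Tr.nd (nat_lit 11624) (Tr.nd (nat_lit 11623) (Tr.lf (Fc.ed (nat_lit 11622) (nat_lit 4566) Col.c (nat_lit 4566) (Dv.wd (nat_lit 93) [Mv.b (nat_lit 11620), Mv.f (nat_lit 8227), Mv.f (nat_lit 5112), Mv.b (nat_lit 8227), Mv.f (nat_lit 11620)])))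
(Tr.lf (Fc.ed (nat_lit 11623) (nat_lit 2132) Col.d (nat_lit 4567) Dv.df)))
(Tr.nd (nat_lit 11625) (Tr.lf (Fc.ed (nat_lit 11624) (nat_lit 4567) Col.e (nat_lit 4557) (Dv.wd (nat_lit 131) [Mv.f (nat_lit 11605), Mv.b (nat_lit 10556), Mv.f (nat_lit 9965), Mv.b (nat_lit 11333), Mv.b (nat_lit 10801), Mv.b (nat_lit 9099), Mv.f (nat_lit 7051), Mv.f (nat_lit 6300), Mv.b (nat_lit 6304), Mv.f (nat_lit 11623)])))
(Tr.nd (nat_lit 11626) (Tr.lf (Fc.ed (nat_lit 11625) (nat_lit 2834) Col.d (nat_lit 4568) Dv.df))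
(Tr.lf (Fc.ed (nat_lit 11626) (nat_lit 2600) Col.a (nat_lit 4569) Dv.df)))))
(Tr.nd (nat_lit 11629) (Tr.nd (nat_lit 11628) (Tr.lf (Fc.ed (nat_lit 11627) (nat_lit 4569) Col.e (nat_lit 4556) (Dv.wd (nat_lit 56) [Mv.f (nat_lit 11603), Mv.b (nat_lit 9970), Mv.f (nat_lit 11626)])))
(Tr.lf (Fc.ed (nat_lit 11628) (nat_lit 3471) Col.f (nat_lit 4570) Dv.df)))
(Tr.nd (nat_lit 11630) (Tr.lf (Fc.ed (nat_lit 11629) (nat_lit 4570) Col.a (nat_lit 4563) (Dv.wd (nat_lit 23) [Mv.f (nat_lit 11616), Mv.b (nat_lit 8801), Mv.f (nat_lit 11628)])))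
(Tr.nd (nat_lit 11631) (Tr.lf (Fc.ed (nat_lit 11630) (nat_lit 1053) Col.b (nat_lit 4571) Dv.df))
(Tr.lf (Fc.ed (nat_lit 11631) (nat_lit 4571) Col.d (nat_lit 4456) (Dv.wd (nat_lit 58) [Mv.f (nat_lit 11425), Mv.b (nat_lit 3304), Mv.f (nat_lit 11630)])))))))
(Tr.nd (nat_lit 11637) (Tr.nd (nat_lit 11634) (Tr.nd (nat_lit 11633) (Tr.lf (Fc.ed (nat_lit 11632) (nat_lit 4539) Col.b (nat_lit 4572) Dv.df))
(Tr.lf (Fc.ed (nat_lit 11633) (nat_lit 4572) Col.d (nat_lit 2790) (Dv.wd (nat_lit 58) [Mv.b (nat_lit 7383), Mv.f (nat_lit 11569), Mv.f (nat_lit 11632)]))))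
(Tr.nd (nat_lit 11635) (Tr.lf (Fc.ed (nat_lit 11634) (nat_lit 2966) Col.a (nat_lit 4573) Dv.df))
(Tr.nd (nat_lit 11636) (Tr.lf (Fc.ed (nat_lit 11635) (nat_lit 4573) Col.f (nat_lit 3723) (Dv.wd (nat_lit 35) [Mv.f (nat_lit 9291), Mv.f (nat_lit 7752), Mv.f (nat_lit 11634)])))
(Tr.lf (Fc.ed (nat_lit 11636) (nat_lit 3460) Col.b (nat_lit 4574) Dv.df)))))
(Tr.nd (nat_lit 11639) (Tr.nd (nat_lit 11638) (Tr.lf (Fc.ed (nat_lit 11637) (nat_lit 4574) Col.c (nat_lit 4500) (Dv.wd (nat_lit 135) [Mv.f (nat_lit 11498), Mv.f (nat_lit 6169), Mv.f (nat_lit 6171), Mv.f (nat_lit 3722), Mv.f (nat_lit 3724), Mv.b (nat_lit 2336), Mv.f (nat_lit 3121), Mv.f (nat_lit 5660), Mv.b (nat_lit 8780), Mv.f (nat_lit 11636)])))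
(Tr.lf (Fc.ed (nat_lit 11638) (nat_lit 2826) Col.gi (nat_lit 4575) Dv.df)))
(Tr.nd (nat_lit 11640) (Tr.lf (Fc.ed (nat_lit 11639) (nat_lit 4575) Col.gi (nat_lit 3195) (Dv.wd (nat_lit 24) [Mv.f (nat_lit 9126), Mv.f (nat_lit 9127), Mv.f (nat_lit 11638)])))
(Tr.nd (nat_lit 11641) (Tr.lf (Fc.ed (nat_lit 11640) (nat_lit 3869) Col.d (nat_lit 4576) Dv.df))
(Tr.lf (Fc.ed (nat_lit 11641) (nat_lit 1809) Col.g (nat_lit 4577) Dv.df)))))))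
(Tr.nd (nat_lit 11652) (Tr.nd (nat_lit 11647) (Tr.nd (nat_lit 11644) (Tr.nd (nat_lit 11643) (Tr.lf (Fc.ed (nat_lit 11642) (nat_lit 4577) Col.g (nat_lit 4001) (Dv.wd (nat_lit 9) [Mv.f (nat_lit 9805), Mv.f (nat_lit 5328), Mv.f (nat_lit 11641)])))
(Tr.lf (Fc.ed (nat_lit 11643) (nat_lit 2211) Col.a (nat_lit 4578) Dv.df)))
(Tr.nd (nat_lit 11645) (Tr.lf (Fc.ed (nat_lit 11644) (nat_lit 4578) Col.f (nat_lit 4513) (Dv.wd (nat_lit 35) [Mv.b (nat_lit 11520), Mv.f (nat_lit 6098), Mv.f (nat_lit 11643)])))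
(Tr.nd (nat_lit 11646) (Tr.lf (Fc.ed (nat_lit 11645) (nat_lit 4578) Col.b (nat_lit 4463) (Dv.wd (nat_lit 65) [Mv.b (nat_lit 11436), Mv.f (nat_lit 6688), Mv.f (nat_lit 3221), Mv.b (nat_lit 6099), Mv.f (nat_lit 11643)])))
(Tr.lf (Fc.ed (nat_lit 11646) (nat_lit 2096) Col.g (nat_lit 4579) Dv.df)))))
(Tr.nd (nat_lit 11649) (Tr.nd (nat_lit 11648) (Tr.lf (Fc.ed (nat_lit 11647) (nat_lit 4579) Col.g (nat_lit 2901) (Dv.wd (nat_lit 9) [Mv.f (nat_lit 7627), Mv.f (nat_lit 7304), Mv.f (nat_lit 11646)])))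
(Tr.lf (Fc.ed (nat_lit 11648) (nat_lit 3431) Col.g (nat_lit 4580) Dv.df)))
(Tr.nd (nat_lit 11650) (Tr.lf (Fc.ed (nat_lit 11649) (nat_lit 4580) Col.g (nat_lit 2766) (Dv.wd (nat_lit 9) [Mv.b (nat_lit 7327), Mv.b (nat_lit 8730), Mv.f (nat_lit 11648)])))
(Tr.nd (nat_lit 11651) (Tr.lf (Fc.ed (nat_lit 11650) (nat_lit 3726) Col.d (nat_lit 4581) Dv.df))
(Tr.lf (Fc.ed (nat_lit 11651) (nat_lit 4581) Col.a (nat_lit 4567) (Dv.wd (nat_lit 8) [Mv.b (nat_lit 11623), Mv.f (nat_lit 9295), Mv.f (nat_lit 11650)])))))))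
(Tr.nd (nat_lit 11657) (Tr.nd (nat_lit 11654) (Tr.nd (nat_lit 11653) (Tr.lf (Fc.ed (nat_lit 11652) (nat_lit 4418) Col.e (nat_lit 4582) Dv.df))
(Tr.lf (Fc.ed (nat_lit 11653) (nat_lit 4582) Col.d (nat_lit 3467) (Dv.wd (nat_lit 59) [Mv.b (nat_lit 8793), Mv.f (nat_lit 7855), Mv.b (nat_lit 6880), Mv.f (nat_lit 11359), Mv.f (nat_lit 11652)]))))
(Tr.nd (nat_lit 11655) (Tr.lf (Fc.ed (nat_lit 11654) (nat_lit 2744) Col.f (nat_lit 4583) Dv.df))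
(Tr.nd (nat_lit 11656) (Tr.lf (Fc.ed (nat_lit 11655) (nat_lit 4583) Col.a (nat_lit 4583) (Dv.wd (nat_lit 16) [Mv.b (nat_lit 11654), Mv.f (nat_lit 7279), Mv.f (nat_lit 11654)])))
(Tr.lf (Fc.ed (nat_lit 11656) (nat_lit 4583) Col.c (nat_lit 2985) (Dv.wd (nat_lit 34) [Mv.b (nat_lit 7793), Mv.f (nat_lit 7278), Mv.f (nat_lit 11654)]))))))
(Tr.nd (nat_lit 11660) (Tr.nd (nat_lit 11658) (Tr.lf (Fc.ed (nat_lit 11657) (nat_lit 3268) Col.f (nat_lit 4584) Dv.df))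
(Tr.nd (nat_lit 11659) (Tr.lf (Fc.ed (nat_lit 11658) (nat_lit 4395) Col.gi (nat_lit 4585) Dv.df))
(Tr.lf (Fc.ed (nat_lit 11659) (nat_lit 4585) Col.gi (nat_lit 2726) (Dv.wd (nat_lit 24) [Mv.f (nat_lit 11507), Mv.f (nat_lit 11508), Mv.f (nat_lit 11658)])))))
(Tr.nd (nat_lit 11661) (Tr.lf (Fc.ed (nat_lit 11660) (nat_lit 2989) Col.g (nat_lit 4586) Dv.df))
(Tr.nd (nat_lit 11662) (Tr.lf (Fc.ed (nat_lit 11661) (nat_lit 4586) Col.g (nat_lit 2299) (Dv.wd (nat_lit 9) [Mv.b (nat_lit 8219), Mv.b (nat_lit 8218), Mv.f (nat_lit 11660)])))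
(Tr.lf (Fc.ed (nat_lit 11662) (nat_lit 4437) Col.g (nat_lit 4587) Dv.df))))))))))
(Tr.nd (nat_lit 11745) (Tr.nd (nat_lit 11704) (Tr.nd (nat_lit 11683) (Tr.nd (nat_lit 11673) (Tr.nd (nat_lit 11668) (Tr.nd (nat_lit 11665) (Tr.nd (nat_lit 11664) (Tr.lf (Fc.ed (nat_lit 11663) (nat_lit 3066) Col.gi (nat_lit 4588) Dv.df))
(Tr.lf (Fc.ed (nat_lit 11664) (nat_lit 4588) Col.gi (nat_lit 3018) (Dv.wd (nat_lit 24) [Mv.b (nat_lit 7866), Mv.f (nat_lit 7978), Mv.f (nat_lit 11663)]))))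
(Tr.nd (nat_lit 11666) (Tr.lf (Fc.ed (nat_lit 11665) (nat_lit 4170) Col.g (nat_lit 4589) Dv.df))
(Tr.nd (nat_lit 11667) (Tr.lf (Fc.ed (nat_lit 11666) (nat_lit 4589) Col.g (nat_lit 2316) (Dv.wd (nat_lit 9) [Mv.f (nat_lit 9957), Mv.f (nat_lit 10785), Mv.f (nat_lit 11665)])))
(Tr.lf (Fc.ed (nat_lit 11667) (nat_lit 4090) Col.d (nat_lit 4590) Dv.df)))))
(Tr.nd (nat_lit 11670) (Tr.nd (nat_lit 11669) (Tr.lf (Fc.ed (nat_lit 11668) (nat_lit 3129) Col.a (nat_lit 4591) Dv.df))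
(Tr.lf (Fc.ed (nat_lit 11669) (nat_lit 4591) Col.c (nat_lit 4591) (Dv.wd (nat_lit 33) [Mv.b (nat_lit 11668), Mv.f (nat_lit 8120), Mv.f (nat_lit 11668)]))))
(Tr.nd (nat_lit 11671) (Tr.lf (Fc.ed (nat_lit 11670) (nat_lit 4227) Col.gi (nat_lit 4592) Dv.df))
(Tr.nd (nat_lit 11672) (Tr.lf (Fc.ed (nat_lit 11671) (nat_lit 4592) Col.gi (nat_lit 2359) (Dv.wd (nat_lit 24) [Mv.b (nat_lit 6843), Mv.b (nat_lit 10891), Mv.f (nat_lit 11670)])))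
(Tr.lf (Fc.ed (nat_lit 11672) (nat_lit 3008) Col.gi (nat_lit 4593) Dv.df))))))
(Tr.nd (nat_lit 11678) (Tr.nd (nat_lit 11675) (Tr.nd (nat_lit 11674) (Tr.lf (Fc.ed (nat_lit 11673) (nat_lit 4593) Col.gi (nat_lit 2917) (Dv.wd (nat_lit 24) [Mv.f (nat_lit 7661), Mv.b (nat_lit 7843), Mv.f (nat_lit 11672)])))
(Tr.lf (Fc.ed (nat_lit 11674) (nat_lit 3927) Col.a (nat_lit 4594) Dv.df)))
(Tr.nd (nat_lit 11676) (Tr.lf (Fc.ed (nat_lit 11675) (nat_lit 4594) Col.f (nat_lit 4079) (Dv.wd (nat_lit 35) [Mv.f (nat_lit 9945), Mv.f (nat_lit 9686), Mv.f (nat_lit 11674)])))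
(Tr.nd (nat_lit 11677) (Tr.lf (Fc.ed (nat_lit 11676) (nat_lit 2663) Col.f (nat_lit 4595) Dv.df))
(Tr.lf (Fc.ed (nat_lit 11677) (nat_lit 4595) Col.a (nat_lit 4189) (Dv.wd (nat_lit 16) [Mv.b (nat_lit 11102), Mv.b (nat_lit 11101), Mv.f (nat_lit 11676)]))))))
(Tr.nd (nat_lit 11680) (Tr.nd (nat_lit 11679) (Tr.lf (Fc.ed (nat_lit 11678) (nat_lit 3860) Col.a (nat_lit 4596) Dv.df))
(Tr.lf (Fc.ed (nat_lit 11679) (nat_lit 4596) Col.f (nat_lit 3791) (Dv.wd (nat_lit 35) [Mv.f (nat_lit 10913), Mv.f (nat_lit 10914), Mv.f (nat_lit 11678)]))))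
(Tr.nd (nat_lit 11681) (Tr.lf (Fc.ed (nat_lit 11680) (nat_lit 3618) Col.d (nat_lit 4597) Dv.df))
(Tr.nd (nat_lit 11682) (Tr.lf (Fc.ed (nat_lit 11681) (nat_lit 4555) Col.g (nat_lit 4598) Dv.df))
(Tr.lf (Fc.ed (nat_lit 11682) (nat_lit 4598) Col.g (nat_lit 4402) (Dv.wd (nat_lit 9) [Mv.f (nat_lit 11363), Mv.b (nat_lit 11599), Mv.f (nat_lit 11681)]))))))))
(Tr.nd (nat_lit 11693) (Tr.nd (nat_lit 11688) (Tr.nd (nat_lit 11685) (Tr.nd (nat_lit 11684) (Tr.lf (Fc.ed (nat_lit 11683) (nat_lit 4598) Col.d (nat_lit 4096) (Dv.wd (nat_lit 51) [Mv.f (nat_lit 10567), Mv.f (nat_lit 9502), Mv.b (nat_lit 10469), Mv.f (nat_lit 10468), Mv.b (nat_lit 6150), Mv.f (nat_lit 3926), Mv.f (nat_lit 6692), Mv.b (nat_lit 11600), Mv.f (nat_lit 11681)])))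
(Tr.lf (Fc.ed (nat_lit 11684) (nat_lit 1809) Col.c (nat_lit 4599) Dv.df)))
(Tr.nd (nat_lit 11686) (Tr.lf (Fc.ed (nat_lit 11685) (nat_lit 3168) Col.f (nat_lit 4600) Dv.df))
(Tr.nd (nat_lit 11687) (Tr.lf (Fc.ed (nat_lit 11686) (nat_lit 4600) Col.a (nat_lit 2899) (Dv.wd (nat_lit 16) [Mv.f (nat_lit 11566), Mv.f (nat_lit 11567), Mv.f (nat_lit 11685)])))
(Tr.lf (Fc.ed (nat_lit 11687) (nat_lit 4591) Col.b (nat_lit 4601) Dv.df)))))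
(Tr.nd (nat_lit 11690) (Tr.nd (nat_lit 11689) (Tr.lf (Fc.ed (nat_lit 11688) (nat_lit 4601) Col.a (nat_lit 2406) (Dv.wd (nat_lit 98) [Mv.b (nat_lit 6517), Mv.f (nat_lit 3699), Mv.b (nat_lit 8118), Mv.f (nat_lit 11668), Mv.f (nat_lit 11687)])))
(Tr.lf (Fc.ed (nat_lit 11689) (nat_lit 3849) Col.g (nat_lit 4602) Dv.df)))
(Tr.nd (nat_lit 11691) (Tr.lf (Fc.ed (nat_lit 11690) (nat_lit 3417) Col.d (nat_lit 4603) Dv.df))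
(Tr.nd (nat_lit 11692) (Tr.lf (Fc.ed (nat_lit 11691) (nat_lit 1658) Col.d (nat_lit 4604) Dv.df))
(Tr.lf (Fc.ed (nat_lit 11692) (nat_lit 2896) Col.g (nat_lit 4605) Dv.df))))))
(Tr.nd (nat_lit 11698) (Tr.nd (nat_lit 11695) (Tr.nd (nat_lit 11694) (Tr.lf (Fc.ed (nat_lit 11693) (nat_lit 2934) Col.gi (nat_lit 4606) Dv.df))
(Tr.lf (Fc.ed (nat_lit 11694) (nat_lit 4606) Col.gi (nat_lit 3399) (Dv.wd (nat_lit 24) [Mv.f (nat_lit 9369), Mv.f (nat_lit 9370), Mv.f (nat_lit 11693)]))))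
(Tr.nd (nat_lit 11696) (Tr.lf (Fc.ed (nat_lit 11695) (nat_lit 4486) Col.b (nat_lit 4607) Dv.df))
(Tr.nd (nat_lit 11697) (Tr.lf (Fc.ed (nat_lit 11696) (nat_lit 4607) Col.e (nat_lit 1992) (Dv.wd (nat_lit 52) [Mv.f (nat_lit 5735), Mv.f (nat_lit 11474), Mv.f (nat_lit 11695)])))
(Tr.lf (Fc.ed (nat_lit 11697) (nat_lit 1299) Col.d (nat_lit 4608) Dv.df)))))
(Tr.nd (nat_lit 11701) (Tr.nd (nat_lit 11699) (Tr.lf (Fc.ed (nat_lit 11698) (nat_lit 4608) Col.b (nat_lit 4216) (Dv.wd (nat_lit 37) [Mv.f (nat_lit 10869), Mv.f (nat_lit 3959), Mv.f (nat_lit 11697)])))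
(Tr.nd (nat_lit 11700) (Tr.lf (Fc.ed (nat_lit 11699) (nat_lit 4578) Col.e (nat_lit 4609) Dv.df))
(Tr.lf (Fc.ed (nat_lit 11700) (nat_lit 4609) Col.a (nat_lit 2413) (Dv.wd (nat_lit 15) [Mv.b (nat_lit 6529), Mv.f (nat_lit 11643), Mv.f (nat_lit 11699)])))))
(Tr.nd (nat_lit 11702) (Tr.lf (Fc.ed (nat_lit 11701) (nat_lit 4539) Col.f (nat_lit 4610) Dv.df))
(Tr.nd (nat_lit 11703) (Tr.lf (Fc.ed (nat_lit 11702) (nat_lit 4610) Col.d (nat_lit 2924) (Dv.wd (nat_lit 21) [Mv.b (nat_lit 7675), Mv.f (nat_lit 11569), Mv.f (nat_lit 11701)])))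
(Tr.lf (Fc.ed (nat_lit 11703) (nat_lit 3019) Col.a (nat_lit 4611) Dv.df))))))))
(Tr.nd (nat_lit 11724) (Tr.nd (nat_lit 11714) (Tr.nd (nat_lit 11709) (Tr.nd (nat_lit 11706) (Tr.nd (nat_lit 11705) (Tr.lf (Fc.ed (nat_lit 11704) (nat_lit 4604) Col.c (nat_lit 4612) Dv.df))
(Tr.lf (Fc.ed (nat_lit 11705) (nat_lit 4612) Col.d (nat_lit 3175) (Dv.wd (nat_lit 44) [Mv.f (nat_lit 8208), Mv.f (nat_lit 4942), Mv.b (nat_lit 2210), Mv.f (nat_lit 2854), Mv.f (nat_lit 2856), Mv.f (nat_lit 3226), Mv.b (nat_lit 5811), Mv.f (nat_lit 11691), Mv.f (nat_lit 11704)]))))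
(Tr.nd (nat_lit 11707) (Tr.lf (Fc.ed (nat_lit 11706) (nat_lit 4449) Col.e (nat_lit 4613) Dv.df))
(Tr.nd (nat_lit 11708) (Tr.lf (Fc.ed (nat_lit 11707) (nat_lit 3166) Col.c (nat_lit 4614) Dv.df))
(Tr.lf (Fc.ed (nat_lit 11708) (nat_lit 4614) Col.a (nat_lit 4379) (Dv.wd (nat_lit 19) [Mv.b (nat_lit 11284), Mv.f (nat_lit 8188), Mv.f (nat_lit 11707)]))))))
(Tr.nd (nat_lit 11711) (Tr.nd (nat_lit 11710) (Tr.lf (Fc.ed (nat_lit 11709) (nat_lit 4614) Col.f (nat_lit 3412) (Dv.wd (nat_lit 26) [Mv.b (nat_lit 8686), Mv.b (nat_lit 8253), Mv.f (nat_lit 11707)])))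
(Tr.lf (Fc.ed (nat_lit 11710) (nat_lit 4547) Col.a (nat_lit 4615) Dv.df)))
(Tr.nd (nat_lit 11712) (Tr.lf (Fc.ed (nat_lit 11711) (nat_lit 4615) Col.f (nat_lit 4184) (Dv.wd (nat_lit 10) [Mv.f (nat_lit 10807), Mv.f (nat_lit 11584), Mv.f (nat_lit 11710)])))
(Tr.nd (nat_lit 11713) (Tr.lf (Fc.ed (nat_lit 11712) (nat_lit 4598) Col.c (nat_lit 4616) Dv.df))
(Tr.lf (Fc.ed (nat_lit 11713) (nat_lit 4616) Col.d (nat_lit 4248) (Dv.wd (nat_lit 62) [Mv.b (nat_lit 10925), Mv.b (nat_lit 9822), Mv.b (nat_lit 9315), Mv.f (nat_lit 5976), Mv.f (nat_lit 3873), Mv.b (nat_lit 6693), Mv.b (nat_lit 11600), Mv.f (nat_lit 11681), Mv.f (nat_lit 11712)])))))))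
(Tr.nd (nat_lit 11719) (Tr.nd (nat_lit 11716) (Tr.nd (nat_lit 11715) (Tr.lf (Fc.ed (nat_lit 11714) (nat_lit 3660) Col.g (nat_lit 4617) Dv.df))
(Tr.lf (Fc.ed (nat_lit 11715) (nat_lit 4617) Col.g (nat_lit 3188) (Dv.wd (nat_lit 9) [Mv.f (nat_lit 8236), Mv.b (nat_lit 9161), Mv.f (nat_lit 11714)]))))
(Tr.nd (nat_lit 11717) (Tr.lf (Fc.ed (nat_lit 11716) (nat_lit 4157) Col.f (nat_lit 4618) Dv.df))
(Tr.nd (nat_lit 11718) (Tr.lf (Fc.ed (nat_lit 11717) (nat_lit 4618) Col.a (nat_lit 2835) (Dv.wd (nat_lit 23) [Mv.f (nat_lit 7481), Mv.b (nat_lit 10763), Mv.f (nat_lit 11716)])))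
(Tr.lf (Fc.ed (nat_lit 11718) (nat_lit 4443) Col.a (nat_lit 4619) Dv.df)))))
(Tr.nd (nat_lit 11721) (Tr.nd (nat_lit 11720) (Tr.lf (Fc.ed (nat_lit 11719) (nat_lit 4619) Col.f (nat_lit 4424) (Dv.wd (nat_lit 10) [Mv.f (nat_lit 11371), Mv.b (nat_lit 11405), Mv.f (nat_lit 11718)])))
(Tr.lf (Fc.ed (nat_lit 11720) (nat_lit 4562) Col.e (nat_lit 4620) Dv.df)))
(Tr.nd (nat_lit 11722) (Tr.lf (Fc.ed (nat_lit 11721) (nat_lit 4620) Col.d (nat_lit 2058) (Dv.wd (nat_lit 59) [Mv.f (nat_lit 5699), Mv.b (nat_lit 3546), Mv.b (nat_lit 10041), Mv.b (nat_lit 11614), Mv.f (nat_lit 11720)])))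
(Tr.nd (nat_lit 11723) (Tr.lf (Fc.ed (nat_lit 11722) (nat_lit 4238) Col.b (nat_lit 4621) Dv.df))
(Tr.lf (Fc.ed (nat_lit 11723) (nat_lit 4621) Col.f (nat_lit 4495) (Dv.wd (nat_lit 20) [Mv.b (nat_lit 11489), Mv.b (nat_lit 10909), Mv.f (nat_lit 11722)]))))))))
(Tr.nd (nat_lit 11734) (Tr.nd (nat_lit 11729) (Tr.nd (nat_lit 11726) (Tr.nd (nat_lit 11725) (Tr.lf (Fc.ed (nat_lit 11724) (nat_lit 2744) Col.gi (nat_lit 4622) Dv.df))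
(Tr.lf (Fc.ed (nat_lit 11725) (nat_lit 4622) Col.gi (nat_lit 4583) (Dv.wd (nat_lit 24) [Mv.b (nat_lit 11654), Mv.f (nat_lit 7279), Mv.f (nat_lit 11724)]))))
(Tr.nd (nat_lit 11727) (Tr.lf (Fc.ed (nat_lit 11726) (nat_lit 2688) Col.g (nat_lit 4623) Dv.df))
(Tr.nd (nat_lit 11728) (Tr.lf (Fc.ed (nat_lit 11727) (nat_lit 4623) Col.g (nat_lit 2513) (Dv.wd (nat_lit 9) [Mv.b (nat_lit 9715), Mv.b (nat_lit 9714), Mv.f (nat_lit 11726)])))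
(Tr.lf (Fc.ed (nat_lit 11728) (nat_lit 3263) Col.d (nat_lit 4624) Dv.df)))))
(Tr.nd (nat_lit 11731) (Tr.nd (nat_lit 11730) (Tr.lf (Fc.ed (nat_lit 11729) (nat_lit 4509) Col.a (nat_lit 4625) Dv.df))
(Tr.lf (Fc.ed (nat_lit 11730) (nat_lit 4625) Col.d (nat_lit 2123) (Dv.wd (nat_lit 28) [Mv.f (nat_lit 6260), Mv.f (nat_lit 11512), Mv.f (nat_lit 11729)]))))
(Tr.nd (nat_lit 11732) (Tr.lf (Fc.ed (nat_lit 11731) (nat_lit 4625) Col.e (nat_lit 4346) (Dv.wd (nat_lit 56) [Mv.b (nat_lit 11262), Mv.b (nat_lit 11513), Mv.f (nat_lit 11729)])))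
(Tr.nd (nat_lit 11733) (Tr.lf (Fc.ed (nat_lit 11732) (nat_lit 2859) Col.d (nat_lit 4626) Dv.df))
(Tr.lf (Fc.ed (nat_lit 11733) (nat_lit 4626) Col.f (nat_lit 3928) (Dv.wd (nat_lit 11) [Mv.b (nat_lit 10151), Mv.f (nat_lit 7534), Mv.f (nat_lit 11732)])))))))
(Tr.nd (nat_lit 11739) (Tr.nd (nat_lit 11736) (Tr.nd (nat_lit 11735) (Tr.lf (Fc.ed (nat_lit 11734) (nat_lit 4517) Col.d (nat_lit 4627) Dv.df))
(Tr.lf (Fc.ed (nat_lit 11735) (nat_lit 4627) Col.a (nat_lit 2295) (Dv.wd (nat_lit 8) [Mv.b (nat_lit 6602), Mv.f (nat_lit 11525), Mv.f (nat_lit 11734)]))))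
(Tr.nd (nat_lit 11737) (Tr.lf (Fc.ed (nat_lit 11736) (nat_lit 4627) Col.f (nat_lit 4479) (Dv.wd (nat_lit 11) [Mv.f (nat_lit 11463), Mv.b (nat_lit 11526), Mv.f (nat_lit 11734)])))
(Tr.nd (nat_lit 11738) (Tr.lf (Fc.ed (nat_lit 11737) (nat_lit 3154) Col.c (nat_lit 4628) Dv.df))
(Tr.lf (Fc.ed (nat_lit 11738) (nat_lit 4300) Col.c (nat_lit 4629) Dv.df)))))
(Tr.nd (nat_lit 11742) (Tr.nd (nat_lit 11740) (Tr.lf (Fc.ed (nat_lit 11739) (nat_lit 4629) Col.b (nat_lit 4270) (Dv.wd (nat_lit 101) [Mv.b (nat_lit 10986), Mv.f (nat_lit 6461), Mv.b (nat_lit 3056), Mv.f (nat_lit 2106), Mv.f (nat_lit 3631), Mv.f (nat_lit 3905), Mv.b (nat_lit 6010), Mv.b (nat_lit 6009), Mv.b (nat_lit 11064), Mv.f (nat_lit 11738)])))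
(Tr.nd (nat_lit 11741) (Tr.lf (Fc.ed (nat_lit 11740) (nat_lit 2970) Col.d (nat_lit 4630) Dv.df))
(Tr.lf (Fc.ed (nat_lit 11741) (nat_lit 3218) Col.a (nat_lit 4631) Dv.df))))
(Tr.nd (nat_lit 11743) (Tr.lf (Fc.ed (nat_lit 11742) (nat_lit 4631) Col.e (nat_lit 3639) (Dv.wd (nat_lit 56) [Mv.b (nat_lit 9124), Mv.f (nat_lit 8293), Mv.f (nat_lit 11741)])))
(Tr.nd (nat_lit 11744) (Tr.lf (Fc.ed (nat_lit 11743) (nat_lit 4226) Col.a (nat_lit 4632) Dv.df))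
(Tr.lf (Fc.ed (nat_lit 11744) (nat_lit 4632) Col.c (nat_lit 3522) (Dv.wd (nat_lit 33) [Mv.f (nat_lit 8903), Mv.b (nat_lit 10889), Mv.f (nat_lit 11743)]))))))))))
(Tr.nd (nat_lit 11786) (Tr.nd (nat_lit 11765) (Tr.nd (nat_lit 11755) (Tr.nd (nat_lit 11750) (Tr.nd (nat_lit 11747) (Tr.nd (nat_lit 11746) (Tr.lf (Fc.ed (nat_lit 11745) (nat_lit 4632) Col.f (nat_lit 2846) (Dv.wd (nat_lit 35) [Mv.b (nat_lit 7960), Mv.f (nat_lit 10888), Mv.f (nat_lit 11743)])))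
(Tr.lf (Fc.ed (nat_lit 11746) (nat_lit 3158) Col.f (nat_lit 4633) Dv.df)))
(Tr.nd (nat_lit 11748) (Tr.lf (Fc.ed (nat_lit 11747) (nat_lit 4633) Col.a (nat_lit 3380) (Dv.wd (nat_lit 16) [Mv.b (nat_lit 9691), Mv.b (nat_lit 9690), Mv.f (nat_lit 11746)])))
(Tr.nd (nat_lit 11749) (Tr.lf (Fc.ed (nat_lit 11748) (nat_lit 4535) Col.a (nat_lit 4634) Dv.df))
(Tr.lf (Fc.ed (nat_lit 11749) (nat_lit 4634) Col.e (nat_lit 2806) (Dv.wd (nat_lit 56) [Mv.f (nat_lit 7421), Mv.f (nat_lit 11562), Mv.f (nat_lit 11748)]))))))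
(Tr.nd (nat_lit 11752) (Tr.nd (nat_lit 11751) (Tr.lf (Fc.ed (nat_lit 11750) (nat_lit 4316) Col.b (nat_lit 4635) Dv.df))
(Tr.lf (Fc.ed (nat_lit 11751) (nat_lit 4635) Col.d (nat_lit 3658) (Dv.wd (nat_lit 58) [Mv.f (nat_lit 9485), Mv.f (nat_lit 11094), Mv.f (nat_lit 11750)]))))
(Tr.nd (nat_lit 11753) (Tr.lf (Fc.ed (nat_lit 11752) (nat_lit 4160) Col.c (nat_lit 4636) Dv.df))
(Tr.nd (nat_lit 11754) (Tr.lf (Fc.ed (nat_lit 11753) (nat_lit 3730) Col.d (nat_lit 4637) Dv.df))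
(Tr.lf (Fc.ed (nat_lit 11754) (nat_lit 4637) Col.f (nat_lit 4384) (Dv.wd (nat_lit 11) [Mv.b (nat_lit 11292), Mv.f (nat_lit 9304), Mv.f (nat_lit 11753)])))))))
(Tr.nd (nat_lit 11760) (Tr.nd (nat_lit 11757) (Tr.nd (nat_lit 11756) (Tr.lf (Fc.ed (nat_lit 11755) (nat_lit 4599) Col.f (nat_lit 4638) Dv.df))
(Tr.lf (Fc.ed (nat_lit 11756) (nat_lit 4638) Col.c (nat_lit 1877) (Dv.wd (nat_lit 34) [Mv.f (nat_lit 5328), Mv.f (nat_lit 11684), Mv.f (nat_lit 11755)]))))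
(Tr.nd (nat_lit 11758) (Tr.lf (Fc.ed (nat_lit 11757) (nat_lit 4187) Col.f (nat_lit 4639) Dv.df))
(Tr.nd (nat_lit 11759) (Tr.lf (Fc.ed (nat_lit 11758) (nat_lit 4639) Col.a (nat_lit 4584) (Dv.wd (nat_lit 16) [Mv.b (nat_lit 11657), Mv.b (nat_lit 10814), Mv.f (nat_lit 11757)])))
(Tr.lf (Fc.ed (nat_lit 11759) (nat_lit 4639) Col.c (nat_lit 2911) (Dv.wd (nat_lit 34) [Mv.b (nat_lit 7649), Mv.b (nat_lit 10815), Mv.f (nat_lit 11757)]))))))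
(Tr.nd (nat_lit 11762) (Tr.nd (nat_lit 11761) (Tr.lf (Fc.ed (nat_lit 11760) (nat_lit 2358) Col.c (nat_lit 4640) Dv.df))
(Tr.lf (Fc.ed (nat_lit 11761) (nat_lit 4636) Col.gi (nat_lit 4641) Dv.df)))
(Tr.nd (nat_lit 11763) (Tr.lf (Fc.ed (nat_lit 11762) (nat_lit 3374) Col.f (nat_lit 4642) Dv.df))
(Tr.nd (nat_lit 11764) (Tr.lf (Fc.ed (nat_lit 11763) (nat_lit 4421) Col.e (nat_lit 4643) Dv.df))
(Tr.lf (Fc.ed (nat_lit 11764) (nat_lit 4643) Col.d (nat_lit 4148) (Dv.wd (nat_lit 91) [Mv.b (nat_lit 10720), Mv.b (nat_lit 5134), Mv.b (nat_lit 5133), Mv.f (nat_lit 4686), Mv.b (nat_lit 4954), Mv.b (nat_lit 4767), Mv.b (nat_lit 4613), Mv.b (nat_lit 7314), Mv.f (nat_lit 11366), Mv.f (nat_lit 11763)]))))))))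
(Tr.nd (nat_lit 11775) (Tr.nd (nat_lit 11770) (Tr.nd (nat_lit 11767) (Tr.nd (nat_lit 11766) (Tr.lf (Fc.ed (nat_lit 11765) (nat_lit 3131) Col.a (nat_lit 4644) Dv.df))
(Tr.lf (Fc.ed (nat_lit 11766) (nat_lit 4641) Col.gi (nat_lit 4645) Dv.df)))
(Tr.nd (nat_lit 11768) (Tr.lf (Fc.ed (nat_lit 11767) (nat_lit 4641) Col.d (nat_lit 4646) Dv.df))
(Tr.nd (nat_lit 11769) (Tr.lf (Fc.ed (nat_lit 11768) (nat_lit 2149) Col.e (nat_lit 4647) Dv.df))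
(Tr.lf (Fc.ed (nat_lit 11769) (nat_lit 1400) Col.c (nat_lit 4648) Dv.df)))))
(Tr.nd (nat_lit 11772) (Tr.nd (nat_lit 11771) (Tr.lf (Fc.ed (nat_lit 11770) (nat_lit 4648) Col.a (nat_lit 2994) (Dv.wd (nat_lit 19) [Mv.b (nat_lit 7814), Mv.f (nat_lit 6978), Mv.f (nat_lit 11769)])))
(Tr.lf (Fc.ed (nat_lit 11771) (nat_lit 2765) Col.gi (nat_lit 4649) Dv.df)))
(Tr.nd (nat_lit 11773) (Tr.lf (Fc.ed (nat_lit 11772) (nat_lit 2846) Col.g (nat_lit 4650) Dv.df))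
(Tr.nd (nat_lit 11774) (Tr.lf (Fc.ed (nat_lit 11773) (nat_lit 4650) Col.g (nat_lit 4226) (Dv.wd (nat_lit 9) [Mv.f (nat_lit 11743), Mv.f (nat_lit 11745), Mv.f (nat_lit 11772)])))
(Tr.lf (Fc.ed (nat_lit 11774) (nat_lit 4410) Col.e (nat_lit 4651) Dv.df))))))
(Tr.nd (nat_lit 11780) (Tr.nd (nat_lit 11777) (Tr.nd (nat_lit 11776) (Tr.lf (Fc.ed (nat_lit 11775) (nat_lit 2535) Col.a (nat_lit 4652) Dv.df))
(Tr.lf (Fc.ed (nat_lit 11776) (nat_lit 4652) Col.c (nat_lit 4256) (Dv.wd (nat_lit 33) [Mv.f (nat_lit 10950), Mv.f (nat_lit 10782), Mv.f (nat_lit 11775)]))))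
(Tr.nd (nat_lit 11778) (Tr.lf (Fc.ed (nat_lit 11777) (nat_lit 2821) Col.a (nat_lit 4653) Dv.df))
(Tr.nd (nat_lit 11779) (Tr.lf (Fc.ed (nat_lit 11778) (nat_lit 4653) Col.e (nat_lit 4517) (Dv.wd (nat_lit 56) [Mv.b (nat_lit 11525), Mv.f (nat_lit 7450), Mv.f (nat_lit 11777)])))
(Tr.lf (Fc.ed (nat_lit 11779) (nat_lit 3184) Col.gi (nat_lit 4654) Dv.df)))))
(Tr.nd (nat_lit 11783) (Tr.nd (nat_lit 11781) (Tr.lf (Fc.ed (nat_lit 11780) (nat_lit 4654) Col.gi (nat_lit 2131) (Dv.wd (nat_lit 24) [Mv.f (nat_lit 7580), Mv.b (nat_lit 8226), Mv.f (nat_lit 11779)])))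
(Tr.nd (nat_lit 11782) (Tr.lf (Fc.ed (nat_lit 11781) (nat_lit 2287) Col.b (nat_lit 4655) Dv.df))
(Tr.lf (Fc.ed (nat_lit 11782) (nat_lit 4655) Col.e (nat_lit 4229) (Dv.wd (nat_lit 52) [Mv.f (nat_lit 10895), Mv.b (nat_lit 6262), Mv.f (nat_lit 11781)])))))
(Tr.nd (nat_lit 11784) (Tr.lf (Fc.ed (nat_lit 11783) (nat_lit 2744) Col.g (nat_lit 4656) Dv.df))
(Tr.nd (nat_lit 11785) (Tr.lf (Fc.ed (nat_lit 11784) (nat_lit 4656) Col.g (nat_lit 4583) (Dv.wd (nat_lit 9) [Mv.f (nat_lit 11655), Mv.b (nat_lit 11654), Mv.f (nat_lit 11783)])))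
(Tr.lf (Fc.ed (nat_lit 11785) (nat_lit 3501) Col.gi (nat_lit 4657) Dv.df))))))))
(Tr.nd (nat_lit 11807) (Tr.nd (nat_lit 11796) (Tr.nd (nat_lit 11791) (Tr.nd (nat_lit 11788) (Tr.nd (nat_lit 11787) (Tr.lf (Fc.ed (nat_lit 11786) (nat_lit 4657) Col.gi (nat_lit 2117) (Dv.wd (nat_lit 24) [Mv.b (nat_lit 8867), Mv.f (nat_lit 8866), Mv.f (nat_lit 11785)])))
(Tr.lf (Fc.ed (nat_lit 11787) (nat_lit 3237) Col.b (nat_lit 4658) Dv.df)))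
(Tr.nd (nat_lit 11789) (Tr.lf (Fc.ed (nat_lit 11788) (nat_lit 4658) Col.c (nat_lit 4649) (Dv.wd (nat_lit 135) [Mv.b (nat_lit 11771), Mv.f (nat_lit 7326), Mv.f (nat_lit 3946), Mv.f (nat_lit 5592), Mv.b (nat_lit 5836), Mv.f (nat_lit 5837), Mv.b (nat_lit 5848), Mv.b (nat_lit 5817), Mv.f (nat_lit 8325), Mv.f (nat_lit 11787)])))
(Tr.nd (nat_lit 11790) (Tr.lf (Fc.ed (nat_lit 11789) (nat_lit 2716) Col.f (nat_lit 4659) Dv.df))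
(Tr.lf (Fc.ed (nat_lit 11790) (nat_lit 4659) Col.a (nat_lit 3597) (Dv.wd (nat_lit 16) [Mv.b (nat_lit 11592), Mv.b (nat_lit 11591), Mv.f (nat_lit 11789)]))))))
(Tr.nd (nat_lit 11793) (Tr.nd (nat_lit 11792) (Tr.lf (Fc.ed (nat_lit 11791) (nat_lit 2364) Col.b (nat_lit 4660) Dv.df))
(Tr.lf (Fc.ed (nat_lit 11792) (nat_lit 4652) Col.b (nat_lit 4661) Dv.df)))
(Tr.nd (nat_lit 11794) (Tr.lf (Fc.ed (nat_lit 11793) (nat_lit 4661) Col.a (nat_lit 4493) (Dv.wd (nat_lit 98) [Mv.b (nat_lit 11485), Mv.f (nat_lit 3966), Mv.f (nat_lit 6820), Mv.f (nat_lit 11775), Mv.f (nat_lit 11792)])))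
(Tr.nd (nat_lit 11795) (Tr.lf (Fc.ed (nat_lit 11794) (nat_lit 4661) Col.g (nat_lit 2446) (Dv.wd (nat_lit 118) [Mv.b (nat_lit 6606), Mv.b (nat_lit 5714), Mv.f (nat_lit 3331), Mv.b (nat_lit 2880), Mv.f (nat_lit 1581), Mv.f (nat_lit 3791), Mv.b (nat_lit 6684), Mv.f (nat_lit 10949), Mv.b (nat_lit 11776), Mv.f (nat_lit 11792)])))
(Tr.lf (Fc.ed (nat_lit 11795) (nat_lit 4457) Col.b (nat_lit 4662) Dv.df))))))
(Tr.nd (nat_lit 11801) (Tr.nd (nat_lit 11798) (Tr.nd (nat_lit 11797) (Tr.lf (Fc.ed (nat_lit 11796) (nat_lit 4662) Col.d (nat_lit 3661) (Dv.wd (nat_lit 58) [Mv.f (nat_lit 9576), Mv.f (nat_lit 11426), Mv.f (nat_lit 11795)])))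
(Tr.lf (Fc.ed (nat_lit 11797) (nat_lit 4662) Col.a (nat_lit 3708) (Dv.wd (nat_lit 98) [Mv.b (nat_lit 9260), Mv.b (nat_lit 6130), Mv.f (nat_lit 9954), Mv.b (nat_lit 11427), Mv.f (nat_lit 11795)]))))
(Tr.nd (nat_lit 11799) (Tr.lf (Fc.ed (nat_lit 11798) (nat_lit 4578) Col.gi (nat_lit 4663) Dv.df))
(Tr.nd (nat_lit 11800) (Tr.lf (Fc.ed (nat_lit 11799) (nat_lit 4663) Col.gi (nat_lit 2182) (Dv.wd (nat_lit 24) [Mv.f (nat_lit 6098), Mv.f (nat_lit 11643), Mv.f (nat_lit 11798)])))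
(Tr.lf (Fc.ed (nat_lit 11800) (nat_lit 2796) Col.gi (nat_lit 4664) Dv.df)))))
(Tr.nd (nat_lit 11804) (Tr.nd (nat_lit 11802) (Tr.lf (Fc.ed (nat_lit 11801) (nat_lit 4597) Col.a (nat_lit 4665) Dv.df))
(Tr.nd (nat_lit 11803) (Tr.lf (Fc.ed (nat_lit 11802) (nat_lit 4665) Col.d (nat_lit 2884) (Dv.wd (nat_lit 28) [Mv.f (nat_lit 9082), Mv.f (nat_lit 11680), Mv.f (nat_lit 11801)])))
(Tr.lf (Fc.ed (nat_lit 11803) (nat_lit 2174) Col.d (nat_lit 4666) Dv.df))))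
(Tr.nd (nat_lit 11805) (Tr.lf (Fc.ed (nat_lit 11804) (nat_lit 4666) Col.a (nat_lit 4539) (Dv.wd (nat_lit 8) [Mv.b (nat_lit 11569), Mv.f (nat_lit 7077), Mv.f (nat_lit 11803)])))
(Tr.nd (nat_lit 11806) (Tr.lf (Fc.ed (nat_lit 11805) (nat_lit 4607) Col.a (nat_lit 4667) Dv.df))
(Tr.lf (Fc.ed (nat_lit 11806) (nat_lit 4667) Col.e (nat_lit 2740) (Dv.wd (nat_lit 56) [Mv.b (nat_lit 7269), Mv.b (nat_lit 11696), Mv.f (nat_lit 11805)]))))))))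
(Tr.nd (nat_lit 11817) (Tr.nd (nat_lit 11812) (Tr.nd (nat_lit 11809) (Tr.nd (nat_lit 11808) (Tr.lf (Fc.ed (nat_lit 11807) (nat_lit 3717) Col.g (nat_lit 4668) Dv.df))
(Tr.lf (Fc.ed (nat_lit 11808) (nat_lit 4668) Col.g (nat_lit 2367) (Dv.wd (nat_lit 9) [Mv.f (nat_lit 6947), Mv.b (nat_lit 9278), Mv.f (nat_lit 11807)]))))
(Tr.nd (nat_lit 11810) (Tr.lf (Fc.ed (nat_lit 11809) (nat_lit 3004) Col.f (nat_lit 4669) Dv.df))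
(Tr.nd (nat_lit 11811) (Tr.lf (Fc.ed (nat_lit 11810) (nat_lit 4669) Col.a (nat_lit 3021) (Dv.wd (nat_lit 16) [Mv.f (nat_lit 8199), Mv.f (nat_lit 8200), Mv.f (nat_lit 11809)])))
(Tr.lf (Fc.ed (nat_lit 11811) (nat_lit 4488) Col.e (nat_lit 4670) Dv.df)))))
(Tr.nd (nat_lit 11814) (Tr.nd (nat_lit 11813) (Tr.lf (Fc.ed (nat_lit 11812) (nat_lit 4670) Col.a (nat_lit 3526) (Dv.wd (nat_lit 15) [Mv.b (nat_lit 8914), Mv.f (nat_lit 11476), Mv.f (nat_lit 11811)])))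
(Tr.lf (Fc.ed (nat_lit 11813) (nat_lit 4427) Col.f (nat_lit 4670) (Dv.wd (nat_lit 73) [Mv.f (nat_lit 11812), Mv.f (nat_lit 8915), Mv.b (nat_lit 11375)]))))
(Tr.nd (nat_lit 11815) (Tr.lf (Fc.ed (nat_lit 11814) (nat_lit 4233) Col.g (nat_lit 4671) Dv.df))
(Tr.nd (nat_lit 11816) (Tr.lf (Fc.ed (nat_lit 11815) (nat_lit 3383) Col.d (nat_lit 4672) Dv.df))
(Tr.lf (Fc.ed (nat_lit 11816) (nat_lit 4672) Col.a (nat_lit 4231) (Dv.wd (nat_lit 8) [Mv.b (nat_lit 10897), Mv.b (nat_lit 8627), Mv.f (nat_lit 11815)])))))))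
(Tr.nd (nat_lit 11822) (Tr.nd (nat_lit 11819) (Tr.nd (nat_lit 11818) (Tr.lf (Fc.ed (nat_lit 11817) (nat_lit 4672) Col.g (nat_lit 4173) (Dv.wd (nat_lit 69) [Mv.b (nat_lit 10789), Mv.b (nat_lit 6268), Mv.b (nat_lit 5424), Mv.b (nat_lit 5525), Mv.f (nat_lit 10160), Mv.f (nat_lit 6567), Mv.f (nat_lit 4902), Mv.f (nat_lit 8625), Mv.f (nat_lit 11815)])))
(Tr.lf (Fc.ed (nat_lit 11818) (nat_lit 4376) Col.g (nat_lit 4672) (Dv.wd (nat_lit 17) [Mv.f (nat_lit 11817), Mv.f (nat_lit 10868), Mv.b (nat_lit 11276)]))))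
(Tr.nd (nat_lit 11820) (Tr.lf (Fc.ed (nat_lit 11819) (nat_lit 4231) Col.f (nat_lit 4326) (Dv.wd (nat_lit 10) [Mv.f (nat_lit 11278), Mv.f (nat_lit 11818), Mv.f (nat_lit 11816)])))
(Tr.nd (nat_lit 11821) (Tr.lf (Fc.ed (nat_lit 11820) (nat_lit 4326) Col.d (nat_lit 1902) (Dv.wd (nat_lit 21) [Mv.b (nat_lit 8586), Mv.f (nat_lit 10897), Mv.f (nat_lit 11819)])))
(Tr.lf (Fc.ed (nat_lit 11821) (nat_lit 4323) Col.g (nat_lit 4673) Dv.df)))))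
(Tr.nd (nat_lit 11825) (Tr.nd (nat_lit 11823) (Tr.lf (Fc.ed (nat_lit 11822) (nat_lit 4673) Col.g (nat_lit 2570) (Dv.wd (nat_lit 9) [Mv.f (nat_lit 6895), Mv.f (nat_lit 11105), Mv.f (nat_lit 11821)])))
(Tr.nd (nat_lit 11824) (Tr.lf (Fc.ed (nat_lit 11823) (nat_lit 4608) Col.f (nat_lit 4674) Dv.df))
(Tr.lf (Fc.ed (nat_lit 11824) (nat_lit 4674) Col.b (nat_lit 4376) (Dv.wd (nat_lit 66) [Mv.f (nat_lit 11276), Mv.b (nat_lit 11698), Mv.f (nat_lit 11823)])))))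
(Tr.nd (nat_lit 11826) (Tr.lf (Fc.ed (nat_lit 11825) (nat_lit 4674) Col.d (nat_lit 2111) (Dv.wd (nat_lit 21) [Mv.b (nat_lit 5808), Mv.f (nat_lit 11697), Mv.f (nat_lit 11823)])))
(Tr.nd (nat_lit 11827) (Tr.lf (Fc.ed (nat_lit 11826) (nat_lit 4635) Col.gi (nat_lit 4675) Dv.df))
(Tr.lf (Fc.ed (nat_lit 11827) (nat_lit 4126) Col.a (nat_lit 4676) Dv.df)))))))))))))
(Tr.nd (nat_lit 12485) (Tr.nd (nat_lit 12156) (Tr.nd (nat_lit 11992) (Tr.nd (nat_lit 11910) (Tr.nd (nat_lit 11869) (Tr.nd (nat_lit 11848) (Tr.nd (nat_lit 11838) (Tr.nd (nat_lit 11833) (Tr.nd (nat_lit 11830) (Tr.nd (nat_lit 11829) (Tr.lf (Fc.ed (nat_lit 11828) (nat_lit 4676) Col.f (nat_lit 2941) (Dv.wd (nat_lit 10) [Mv.f (nat_lit 7708), Mv.b (nat_lit 10622), Mv.f (nat_lit 11827)])))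
(Tr.lf (Fc.ed (nat_lit 11829) (nat_lit 2050) Col.b (nat_lit 4677) Dv.df)))
(Tr.nd (nat_lit 11831) (Tr.lf (Fc.ed (nat_lit 11830) (nat_lit 3339) Col.e (nat_lit 4678) Dv.df))
(Tr.nd (nat_lit 11832) (Tr.lf (Fc.ed (nat_lit 11831) (nat_lit 4660) Col.d (nat_lit 4679) Dv.df))
(Tr.lf (Fc.ed (nat_lit 11832) (nat_lit 4679) Col.b (nat_lit 2265) (Dv.wd (nat_lit 37) [Mv.b (nat_lit 6441), Mv.f (nat_lit 11791), Mv.f (nat_lit 11831)]))))))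
(Tr.nd (nat_lit 11835) (Tr.nd (nat_lit 11834) (Tr.lf (Fc.ed (nat_lit 11833) (nat_lit 4422) Col.e (nat_lit 4679) (Dv.wd (nat_lit 82) [Mv.f (nat_lit 11832), Mv.f (nat_lit 6443), Mv.f (nat_lit 11367)])))
(Tr.lf (Fc.ed (nat_lit 11834) (nat_lit 3640) Col.gi (nat_lit 4680) Dv.df)))
(Tr.nd (nat_lit 11836) (Tr.lf (Fc.ed (nat_lit 11835) (nat_lit 4680) Col.gi (nat_lit 2122) (Dv.wd (nat_lit 24) [Mv.b (nat_lit 7463), Mv.b (nat_lit 9127), Mv.f (nat_lit 11834)])))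
(Tr.nd (nat_lit 11837) (Tr.lf (Fc.ed (nat_lit 11836) (nat_lit 3076) Col.c (nat_lit 4681) Dv.df))
(Tr.lf (Fc.ed (nat_lit 11837) (nat_lit 4669) Col.g (nat_lit 4682) Dv.df))))))
(Tr.nd (nat_lit 11843) (Tr.nd (nat_lit 11840) (Tr.nd (nat_lit 11839) (Tr.lf (Fc.ed (nat_lit 11838) (nat_lit 4682) Col.g (nat_lit 3171) (Dv.wd (nat_lit 9) [Mv.f (nat_lit 8200), Mv.f (nat_lit 11809), Mv.f (nat_lit 11837)])))
(Tr.lf (Fc.ed (nat_lit 11839) (nat_lit 3808) Col.gi (nat_lit 4683) Dv.df)))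
(Tr.nd (nat_lit 11841) (Tr.lf (Fc.ed (nat_lit 11840) (nat_lit 4683) Col.gi (nat_lit 3541) (Dv.wd (nat_lit 24) [Mv.b (nat_lit 10581), Mv.f (nat_lit 10580), Mv.f (nat_lit 11839)])))
(Tr.nd (nat_lit 11842) (Tr.lf (Fc.ed (nat_lit 11841) (nat_lit 4683) Col.d (nat_lit 3439) (Dv.wd (nat_lit 48) [Mv.f (nat_lit 11012), Mv.b (nat_lit 11010), Mv.b (nat_lit 10329), Mv.b (nat_lit 10267), Mv.b (nat_lit 5679), Mv.b (nat_lit 3835), Mv.f (nat_lit 6989), Mv.b (nat_lit 9444), Mv.f (nat_lit 11839)])))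
(Tr.lf (Fc.ed (nat_lit 11842) (nat_lit 3463) Col.d (nat_lit 4684) Dv.df)))))
(Tr.nd (nat_lit 11845) (Tr.nd (nat_lit 11844) (Tr.lf (Fc.ed (nat_lit 11843) (nat_lit 4684) Col.f (nat_lit 4466) (Dv.wd (nat_lit 11) [Mv.b (nat_lit 11441), Mv.f (nat_lit 11011), Mv.f (nat_lit 11842)])))
(Tr.lf (Fc.ed (nat_lit 11844) (nat_lit 4529) Col.e (nat_lit 4685) Dv.df)))
(Tr.nd (nat_lit 11846) (Tr.lf (Fc.ed (nat_lit 11845) (nat_lit 3552) Col.f (nat_lit 4686) Dv.df))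
(Tr.nd (nat_lit 11847) (Tr.lf (Fc.ed (nat_lit 11846) (nat_lit 4686) Col.a (nat_lit 2831) (Dv.wd (nat_lit 16) [Mv.b (nat_lit 9711), Mv.b (nat_lit 9710), Mv.f (nat_lit 11845)])))
(Tr.lf (Fc.ed (nat_lit 11847) (nat_lit 3018) Col.gi (nat_lit 4687) Dv.df)))))))
(Tr.nd (nat_lit 11858) (Tr.nd (nat_lit 11853) (Tr.nd (nat_lit 11850) (Tr.nd (nat_lit 11849) (Tr.lf (Fc.ed (nat_lit 11848) (nat_lit 4080) Col.f (nat_lit 4688) Dv.df))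
(Tr.lf (Fc.ed (nat_lit 11849) (nat_lit 4688) Col.d (nat_lit 2099) (Dv.wd (nat_lit 21) [Mv.b (nat_lit 7811), Mv.f (nat_lit 9947), Mv.f (nat_lit 11848)]))))
(Tr.nd (nat_lit 11851) (Tr.lf (Fc.ed (nat_lit 11850) (nat_lit 4656) Col.e (nat_lit 4689) Dv.df))
(Tr.nd (nat_lit 11852) (Tr.lf (Fc.ed (nat_lit 11851) (nat_lit 4689) Col.d (nat_lit 4673) (Dv.wd (nat_lit 91) [Mv.f (nat_lit 11822), Mv.b (nat_lit 6894), Mv.f (nat_lit 6840), Mv.b (nat_lit 4149), Mv.f (nat_lit 4377), Mv.b (nat_lit 4257), Mv.f (nat_lit 4375), Mv.b (nat_lit 7280), Mv.f (nat_lit 11783), Mv.f (nat_lit 11850)])))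
(Tr.lf (Fc.ed (nat_lit 11852) (nat_lit 2187) Col.b (nat_lit 4690) Dv.df)))))
(Tr.nd (nat_lit 11855) (Tr.nd (nat_lit 11854) (Tr.lf (Fc.ed (nat_lit 11853) (nat_lit 4161) Col.d (nat_lit 4691) Dv.df))
(Tr.lf (Fc.ed (nat_lit 11854) (nat_lit 1587) Col.c (nat_lit 4692) Dv.df)))
(Tr.nd (nat_lit 11856) (Tr.lf (Fc.ed (nat_lit 11855) (nat_lit 1732) Col.gi (nat_lit 4693) Dv.df))
(Tr.nd (nat_lit 11857) (Tr.lf (Fc.ed (nat_lit 11856) (nat_lit 4693) Col.gi (nat_lit 2527) (Dv.wd (nat_lit 24) [Mv.b (nat_lit 9980), Mv.f (nat_lit 10043), Mv.f (nat_lit 11855)])))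
(Tr.lf (Fc.ed (nat_lit 11857) (nat_lit 3635) Col.f (nat_lit 4694) Dv.df))))))
(Tr.nd (nat_lit 11863) (Tr.nd (nat_lit 11860) (Tr.nd (nat_lit 11859) (Tr.lf (Fc.ed (nat_lit 11858) (nat_lit 4694) Col.d (nat_lit 4676) (Dv.wd (nat_lit 21) [Mv.f (nat_lit 11828), Mv.f (nat_lit 9115), Mv.f (nat_lit 11857)])))
(Tr.lf (Fc.ed (nat_lit 11859) (nat_lit 4002) Col.a (nat_lit 4695) Dv.df)))
(Tr.nd (nat_lit 11861) (Tr.lf (Fc.ed (nat_lit 11860) (nat_lit 4695) Col.c (nat_lit 2032) (Dv.wd (nat_lit 33) [Mv.f (nat_lit 8879), Mv.f (nat_lit 9808), Mv.f (nat_lit 11859)])))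
(Tr.nd (nat_lit 11862) (Tr.lf (Fc.ed (nat_lit 11861) (nat_lit 4695) Col.f (nat_lit 3863) (Dv.wd (nat_lit 35) [Mv.f (nat_lit 9539), Mv.b (nat_lit 9809), Mv.f (nat_lit 11859)])))
(Tr.lf (Fc.ed (nat_lit 11862) (nat_lit 4661) Col.gi (nat_lit 4695) (Dv.wd (nat_lit 24) [Mv.f (nat_lit 11861), Mv.f (nat_lit 9539), Mv.b (nat_lit 11794)]))))))
(Tr.nd (nat_lit 11866) (Tr.nd (nat_lit 11864) (Tr.lf (Fc.ed (nat_lit 11863) (nat_lit 4695) Col.gi (nat_lit 3905) (Dv.wd (nat_lit 24) [Mv.b (nat_lit 11486), Mv.b (nat_lit 11793), Mv.f (nat_lit 11862)])))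
(Tr.nd (nat_lit 11865) (Tr.lf (Fc.ed (nat_lit 11864) (nat_lit 3905) Col.gi (nat_lit 2446) (Dv.wd (nat_lit 24) [Mv.b (nat_lit 9809), Mv.f (nat_lit 11859), Mv.f (nat_lit 11863)])))
(Tr.lf (Fc.ed (nat_lit 11865) (nat_lit 2616) Col.e (nat_lit 4696) Dv.df))))
(Tr.nd (nat_lit 11867) (Tr.lf (Fc.ed (nat_lit 11866) (nat_lit 3926) Col.d (nat_lit 4697) Dv.df))
(Tr.nd (nat_lit 11868) (Tr.lf (Fc.ed (nat_lit 11867) (nat_lit 4697) Col.a (nat_lit 2904) (Dv.wd (nat_lit 8) [Mv.b (nat_lit 7633), Mv.b (nat_lit 9685), Mv.f (nat_lit 11866)])))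
(Tr.lf (Fc.ed (nat_lit 11868) (nat_lit 3207) Col.e (nat_lit 4697) (Dv.wd (nat_lit 72) [Mv.f (nat_lit 11867), Mv.f (nat_lit 7634), Mv.b (nat_lit 8275)])))))))))
(Tr.nd (nat_lit 11889) (Tr.nd (nat_lit 11879) (Tr.nd (nat_lit 11874) (Tr.nd (nat_lit 11871) (Tr.nd (nat_lit 11870) (Tr.lf (Fc.ed (nat_lit 11869) (nat_lit 4674) Col.gi (nat_lit 4698) Dv.df))
(Tr.lf (Fc.ed (nat_lit 11870) (nat_lit 4698) Col.d (nat_lit 2914) (Dv.wd (nat_lit 48) [Mv.b (nat_lit 7654), Mv.b (nat_lit 5797), Mv.b (nat_lit 5314), Mv.b (nat_lit 10177), Mv.f (nat_lit 4801), Mv.f (nat_lit 2854), Mv.f (nat_lit 5806), Mv.b (nat_lit 11825), Mv.f (nat_lit 11869)]))))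
(Tr.nd (nat_lit 11872) (Tr.lf (Fc.ed (nat_lit 11871) (nat_lit 4604) Col.g (nat_lit 4698) (Dv.wd (nat_lit 69) [Mv.f (nat_lit 11870), Mv.b (nat_lit 7665), Mv.f (nat_lit 10159), Mv.f (nat_lit 6855), Mv.f (nat_lit 9752), Mv.f (nat_lit 10310), Mv.b (nat_lit 9540), Mv.f (nat_lit 7986), Mv.f (nat_lit 11691)])))
(Tr.nd (nat_lit 11873) (Tr.lf (Fc.ed (nat_lit 11872) (nat_lit 4601) Col.e (nat_lit 4699) Dv.df))
(Tr.lf (Fc.ed (nat_lit 11873) (nat_lit 4641) Col.f (nat_lit 4700) Dv.df)))))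
(Tr.nd (nat_lit 11876) (Tr.nd (nat_lit 11875) (Tr.lf (Fc.ed (nat_lit 11874) (nat_lit 4700) Col.d (nat_lit 4701) Dv.df))
(Tr.lf (Fc.ed (nat_lit 11875) (nat_lit 4701) Col.f (nat_lit 4646) (Dv.wd (nat_lit 11) [Mv.b (nat_lit 11767), Mv.f (nat_lit 11873), Mv.f (nat_lit 11874)]))))
(Tr.nd (nat_lit 11877) (Tr.lf (Fc.ed (nat_lit 11876) (nat_lit 4564) Col.f (nat_lit 4702) Dv.df))
(Tr.nd (nat_lit 11878) (Tr.lf (Fc.ed (nat_lit 11877) (nat_lit 4702) Col.c (nat_lit 2285) (Dv.wd (nat_lit 34) [Mv.f (nat_lit 6257), Mv.f (nat_lit 11617), Mv.f (nat_lit 11876)])))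
(Tr.lf (Fc.ed (nat_lit 11878) (nat_lit 4541) Col.b (nat_lit 4703) Dv.df))))))
(Tr.nd (nat_lit 11884) (Tr.nd (nat_lit 11881) (Tr.nd (nat_lit 11880) (Tr.lf (Fc.ed (nat_lit 11879) (nat_lit 4703) Col.f (nat_lit 4235) (Dv.wd (nat_lit 20) [Mv.b (nat_lit 11089), Mv.b (nat_lit 11573), Mv.f (nat_lit 11878)])))
(Tr.lf (Fc.ed (nat_lit 11880) (nat_lit 3497) Col.d (nat_lit 4704) Dv.df)))
(Tr.nd (nat_lit 11882) (Tr.lf (Fc.ed (nat_lit 11881) (nat_lit 3722) Col.g (nat_lit 4705) Dv.df))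
(Tr.nd (nat_lit 11883) (Tr.lf (Fc.ed (nat_lit 11882) (nat_lit 4705) Col.g (nat_lit 2008) (Dv.wd (nat_lit 9) [Mv.f (nat_lit 9025), Mv.b (nat_lit 9289), Mv.f (nat_lit 11881)])))
(Tr.lf (Fc.ed (nat_lit 11883) (nat_lit 4696) Col.d (nat_lit 4706) Dv.df)))))
(Tr.nd (nat_lit 11886) (Tr.nd (nat_lit 11885) (Tr.lf (Fc.ed (nat_lit 11884) (nat_lit 2101) Col.c (nat_lit 4707) Dv.df))
(Tr.lf (Fc.ed (nat_lit 11885) (nat_lit 4233) Col.f (nat_lit 4708) Dv.df)))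
(Tr.nd (nat_lit 11887) (Tr.lf (Fc.ed (nat_lit 11886) (nat_lit 4708) Col.c (nat_lit 1333) (Dv.wd (nat_lit 34) [Mv.b (nat_lit 5036), Mv.f (nat_lit 10899), Mv.f (nat_lit 11885)])))
(Tr.nd (nat_lit 11888) (Tr.lf (Fc.ed (nat_lit 11887) (nat_lit 2825) Col.f (nat_lit 4709) Dv.df))
(Tr.lf (Fc.ed (nat_lit 11888) (nat_lit 4709) Col.c (nat_lit 4525) (Dv.wd (nat_lit 34) [Mv.b (nat_lit 11541), Mv.f (nat_lit 7498), Mv.f (nat_lit 11887)]))))))))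
(Tr.nd (nat_lit 11899) (Tr.nd (nat_lit 11894) (Tr.nd (nat_lit 11891) (Tr.nd (nat_lit 11890) (Tr.lf (Fc.ed (nat_lit 11889) (nat_lit 4709) Col.d (nat_lit 4527) (Dv.wd (nat_lit 21) [Mv.f (nat_lit 11547), Mv.b (nat_lit 7460), Mv.f (nat_lit 11887)])))
(Tr.lf (Fc.ed (nat_lit 11890) (nat_lit 4706) Col.e (nat_lit 4710) Dv.df)))
(Tr.nd (nat_lit 11892) (Tr.lf (Fc.ed (nat_lit 11891) (nat_lit 4710) Col.d (nat_lit 3015) (Dv.wd (nat_lit 59) [Mv.b (nat_lit 7916), Mv.b (nat_lit 7915), Mv.f (nat_lit 11865), Mv.f (nat_lit 11883), Mv.f (nat_lit 11890)])))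
(Tr.nd (nat_lit 11893) (Tr.lf (Fc.ed (nat_lit 11892) (nat_lit 4384) Col.gi (nat_lit 4706) (Dv.wd (nat_lit 163) [Mv.f (nat_lit 11890), Mv.f (nat_lit 11891), Mv.f (nat_lit 7861), Mv.f (nat_lit 4570), Mv.b (nat_lit 4569), Mv.f (nat_lit 2444), Mv.b (nat_lit 4517), Mv.b (nat_lit 4516), Mv.f (nat_lit 7152), Mv.f (nat_lit 11292)])))
(Tr.lf (Fc.ed (nat_lit 11893) (nat_lit 2942) Col.f (nat_lit 4711) Dv.df)))))
(Tr.nd (nat_lit 11896) (Tr.nd (nat_lit 11895) (Tr.lf (Fc.ed (nat_lit 11894) (nat_lit 4711) Col.a (nat_lit 3692) (Dv.wd (nat_lit 23) [Mv.f (nat_lit 9223), Mv.f (nat_lit 7709), Mv.f (nat_lit 11893)])))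
(Tr.lf (Fc.ed (nat_lit 11895) (nat_lit 4031) Col.e (nat_lit 4711) (Dv.wd (nat_lit 72) [Mv.f (nat_lit 11894), Mv.f (nat_lit 9256), Mv.f (nat_lit 9858)]))))
(Tr.nd (nat_lit 11897) (Tr.lf (Fc.ed (nat_lit 11896) (nat_lit 4607) Col.d (nat_lit 4712) Dv.df))
(Tr.nd (nat_lit 11898) (Tr.lf (Fc.ed (nat_lit 11897) (nat_lit 3427) Col.d (nat_lit 4713) Dv.df))
(Tr.lf (Fc.ed (nat_lit 11898) (nat_lit 4713) Col.f (nat_lit 4454) (Dv.wd (nat_lit 11) [Mv.b (nat_lit 11420), Mv.f (nat_lit 8719), Mv.f (nat_lit 11897)])))))))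
(Tr.nd (nat_lit 11904) (Tr.nd (nat_lit 11901) (Tr.nd (nat_lit 11900) (Tr.lf (Fc.ed (nat_lit 11899) (nat_lit 4510) Col.gi (nat_lit 4713) (Dv.wd (nat_lit 24) [Mv.f (nat_lit 11898), Mv.f (nat_lit 11421), Mv.f (nat_lit 11514)])))
(Tr.lf (Fc.ed (nat_lit 11900) (nat_lit 4218) Col.f (nat_lit 4714) Dv.df)))
(Tr.nd (nat_lit 11902) (Tr.lf (Fc.ed (nat_lit 11901) (nat_lit 4714) Col.a (nat_lit 3023) (Dv.wd (nat_lit 16) [Mv.b (nat_lit 11378), Mv.b (nat_lit 11377), Mv.f (nat_lit 11900)])))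
(Tr.nd (nat_lit 11903) (Tr.lf (Fc.ed (nat_lit 11902) (nat_lit 1587) Col.g (nat_lit 4715) Dv.df))
(Tr.lf (Fc.ed (nat_lit 11903) (nat_lit 4715) Col.g (nat_lit 3657) (Dv.wd (nat_lit 9) [Mv.f (nat_lit 9157), Mv.f (nat_lit 5071), Mv.f (nat_lit 11902)]))))))
(Tr.nd (nat_lit 11907) (Tr.nd (nat_lit 11905) (Tr.lf (Fc.ed (nat_lit 11904) (nat_lit 1845) Col.c (nat_lit 4716) Dv.df))
(Tr.nd (nat_lit 11906) (Tr.lf (Fc.ed (nat_lit 11905) (nat_lit 2454) Col.b (nat_lit 4717) Dv.df))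
(Tr.lf (Fc.ed (nat_lit 11906) (nat_lit 2790) Col.g (nat_lit 4718) Dv.df))))
(Tr.nd (nat_lit 11908) (Tr.lf (Fc.ed (nat_lit 11907) (nat_lit 4718) Col.g (nat_lit 4541) (Dv.wd (nat_lit 9) [Mv.b (nat_lit 11572), Mv.b (nat_lit 11563), Mv.f (nat_lit 11906)])))
(Tr.nd (nat_lit 11909) (Tr.lf (Fc.ed (nat_lit 11908) (nat_lit 4645) Col.gi (nat_lit 4719) Dv.df))
(Tr.lf (Fc.ed (nat_lit 11909) (nat_lit 2043) Col.d (nat_lit 4720) Dv.df)))))))))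
(Tr.nd (nat_lit 11951) (Tr.nd (nat_lit 11930) (Tr.nd (nat_lit 11920) (Tr.nd (nat_lit 11915) (Tr.nd (nat_lit 11912) (Tr.nd (nat_lit 11911) (Tr.lf (Fc.ed (nat_lit 11910) (nat_lit 4720) Col.a (nat_lit 4626) (Dv.wd (nat_lit 8) [Mv.b (nat_lit 11732), Mv.f (nat_lit 7535), Mv.f (nat_lit 11909)])))
(Tr.lf (Fc.ed (nat_lit 11911) (nat_lit 2396) Col.c (nat_lit 4721) Dv.df)))
(Tr.nd (nat_lit 11913) (Tr.lf (Fc.ed (nat_lit 11912) (nat_lit 4721) Col.f (nat_lit 3787) (Dv.wd (nat_lit 26) [Mv.f (nat_lit 9406), Mv.f (nat_lit 6498), Mv.f (nat_lit 11911)])))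
(Tr.nd (nat_lit 11914) (Tr.lf (Fc.ed (nat_lit 11913) (nat_lit 3116) Col.f (nat_lit 4722) Dv.df))
(Tr.lf (Fc.ed (nat_lit 11914) (nat_lit 4722) Col.a (nat_lit 3051) (Dv.wd (nat_lit 23) [Mv.f (nat_lit 7945), Mv.b (nat_lit 8088), Mv.f (nat_lit 11913)]))))))
(Tr.nd (nat_lit 11917) (Tr.nd (nat_lit 11916) (Tr.lf (Fc.ed (nat_lit 11915) (nat_lit 2841) Col.a (nat_lit 4723) Dv.df))
(Tr.lf (Fc.ed (nat_lit 11916) (nat_lit 4723) Col.d (nat_lit 4591) (Dv.wd (nat_lit 28) [Mv.b (nat_lit 11668), Mv.b (nat_lit 8117), Mv.f (nat_lit 11915)]))))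
(Tr.nd (nat_lit 11918) (Tr.lf (Fc.ed (nat_lit 11917) (nat_lit 4264) Col.d (nat_lit 4724) Dv.df))
(Tr.nd (nat_lit 11919) (Tr.lf (Fc.ed (nat_lit 11918) (nat_lit 4724) Col.e (nat_lit 3191) (Dv.wd (nat_lit 42) [Mv.b (nat_lit 8473), Mv.b (nat_lit 8472), Mv.f (nat_lit 10796), Mv.f (nat_lit 10973), Mv.f (nat_lit 11917)])))
(Tr.lf (Fc.ed (nat_lit 11919) (nat_lit 3919) Col.g (nat_lit 4725) Dv.df))))))
(Tr.nd (nat_lit 11925) (Tr.nd (nat_lit 11922) (Tr.nd (nat_lit 11921) (Tr.lf (Fc.ed (nat_lit 11920) (nat_lit 4725) Col.g (nat_lit 2894) (Dv.wd (nat_lit 9) [Mv.b (nat_lit 9393), Mv.b (nat_lit 9628), Mv.f (nat_lit 11919)])))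
(Tr.lf (Fc.ed (nat_lit 11921) (nat_lit 2661) Col.gi (nat_lit 4726) Dv.df)))
(Tr.nd (nat_lit 11923) (Tr.lf (Fc.ed (nat_lit 11922) (nat_lit 4221) Col.c (nat_lit 4727) Dv.df))
(Tr.nd (nat_lit 11924) (Tr.lf (Fc.ed (nat_lit 11923) (nat_lit 3212) Col.c (nat_lit 4728) Dv.df))
(Tr.lf (Fc.ed (nat_lit 11924) (nat_lit 4728) Col.f (nat_lit 4213) (Dv.wd (nat_lit 26) [Mv.b (nat_lit 10862), Mv.b (nat_lit 8284), Mv.f (nat_lit 11923)]))))))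
(Tr.nd (nat_lit 11927) (Tr.nd (nat_lit 11926) (Tr.lf (Fc.ed (nat_lit 11925) (nat_lit 3416) Col.f (nat_lit 4729) Dv.df))
(Tr.lf (Fc.ed (nat_lit 11926) (nat_lit 4729) Col.b (nat_lit 3473) (Dv.wd (nat_lit 66) [Mv.f (nat_lit 8805), Mv.f (nat_lit 8693), Mv.f (nat_lit 11925)]))))
(Tr.nd (nat_lit 11928) (Tr.lf (Fc.ed (nat_lit 11927) (nat_lit 4729) Col.c (nat_lit 4122) (Dv.wd (nat_lit 34) [Mv.f (nat_lit 10616), Mv.f (nat_lit 9498), Mv.f (nat_lit 11925)])))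
(Tr.nd (nat_lit 11929) (Tr.lf (Fc.ed (nat_lit 11928) (nat_lit 3096) Col.gi (nat_lit 4730) Dv.df))
(Tr.lf (Fc.ed (nat_lit 11929) (nat_lit 4730) Col.gi (nat_lit 2909) (Dv.wd (nat_lit 24) [Mv.f (nat_lit 11353), Mv.f (nat_lit 11354), Mv.f (nat_lit 11928)]))))))))
(Tr.nd (nat_lit 11940) (Tr.nd (nat_lit 11935) (Tr.nd (nat_lit 11932) (Tr.nd (nat_lit 11931) (Tr.lf (Fc.ed (nat_lit 11930) (nat_lit 4727) Col.d (nat_lit 4731) Dv.df))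
(Tr.lf (Fc.ed (nat_lit 11931) (nat_lit 4731) Col.c (nat_lit 2230) (Dv.wd (nat_lit 150) [Mv.b (nat_lit 6134), Mv.f (nat_lit 5744), Mv.b (nat_lit 6321), Mv.b (nat_lit 6363), Mv.b (nat_lit 6360), Mv.f (nat_lit 4902), Mv.f (nat_lit 10879), Mv.f (nat_lit 11922), Mv.f (nat_lit 11930)]))))
(Tr.nd (nat_lit 11933) (Tr.lf (Fc.ed (nat_lit 11932) (nat_lit 4517) Col.g (nat_lit 4732) Dv.df))
(Tr.nd (nat_lit 11934) (Tr.lf (Fc.ed (nat_lit 11933) (nat_lit 4732) Col.g (nat_lit 2483) (Dv.wd (nat_lit 9) [Mv.f (nat_lit 11436), Mv.b (nat_lit 11526), Mv.f (nat_lit 11932)])))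
(Tr.lf (Fc.ed (nat_lit 11934) (nat_lit 4040) Col.c (nat_lit 4733) Dv.df)))))
(Tr.nd (nat_lit 11937) (Tr.nd (nat_lit 11936) (Tr.lf (Fc.ed (nat_lit 11935) (nat_lit 4468) Col.a (nat_lit 4734) Dv.df))
(Tr.lf (Fc.ed (nat_lit 11936) (nat_lit 4734) Col.d (nat_lit 3348) (Dv.wd (nat_lit 28) [Mv.f (nat_lit 10683), Mv.f (nat_lit 11444), Mv.f (nat_lit 11935)]))))
(Tr.nd (nat_lit 11938) (Tr.lf (Fc.ed (nat_lit 11937) (nat_lit 1919) Col.e (nat_lit 4735) Dv.df))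
(Tr.nd (nat_lit 11939) (Tr.lf (Fc.ed (nat_lit 11938) (nat_lit 4556) Col.f (nat_lit 4736) Dv.df))
(Tr.lf (Fc.ed (nat_lit 11939) (nat_lit 4736) Col.d (nat_lit 2993) (Dv.wd (nat_lit 21) [Mv.f (nat_lit 9864), Mv.f (nat_lit 11602), Mv.f (nat_lit 11938)])))))))
(Tr.nd (nat_lit 11945) (Tr.nd (nat_lit 11942) (Tr.nd (nat_lit 11941) (Tr.lf (Fc.ed (nat_lit 11940) (nat_lit 3040) Col.gi (nat_lit 4737) Dv.df))
(Tr.lf (Fc.ed (nat_lit 11941) (nat_lit 2928) Col.g (nat_lit 4738) Dv.df)))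
(Tr.nd (nat_lit 11943) (Tr.lf (Fc.ed (nat_lit 11942) (nat_lit 4738) Col.g (nat_lit 1941) (Dv.wd (nat_lit 9) [Mv.b (nat_lit 8338), Mv.f (nat_lit 8339), Mv.f (nat_lit 11941)])))
(Tr.nd (nat_lit 11944) (Tr.lf (Fc.ed (nat_lit 11943) (nat_lit 4699) Col.b (nat_lit 4739) Dv.df))
(Tr.lf (Fc.ed (nat_lit 11944) (nat_lit 4739) Col.e (nat_lit 4591) (Dv.wd (nat_lit 52) [Mv.f (nat_lit 11687), Mv.f (nat_lit 11872), Mv.f (nat_lit 11943)]))))))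
(Tr.nd (nat_lit 11948) (Tr.nd (nat_lit 11946) (Tr.lf (Fc.ed (nat_lit 11945) (nat_lit 3408) Col.a (nat_lit 4739) (Dv.wd (nat_lit 31) [Mv.f (nat_lit 11944), Mv.b (nat_lit 11668), Mv.f (nat_lit 8679)])))
(Tr.nd (nat_lit 11947) (Tr.lf (Fc.ed (nat_lit 11946) (nat_lit 2866) Col.gi (nat_lit 4740) Dv.df))
(Tr.lf (Fc.ed (nat_lit 11947) (nat_lit 3751) Col.e (nat_lit 4741) Dv.df))))
(Tr.nd (nat_lit 11949) (Tr.lf (Fc.ed (nat_lit 11948) (nat_lit 4741) Col.d (nat_lit 4664) (Dv.wd (nat_lit 91) [Mv.b (nat_lit 11800), Mv.f (nat_lit 7399), Mv.f (nat_lit 5266), Mv.b (nat_lit 3267), Mv.f (nat_lit 3304), Mv.f (nat_lit 3921), Mv.f (nat_lit 3919), Mv.f (nat_lit 6177), Mv.b (nat_lit 9341), Mv.f (nat_lit 11947)])))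
(Tr.nd (nat_lit 11950) (Tr.lf (Fc.ed (nat_lit 11949) (nat_lit 4707) Col.gi (nat_lit 4742) Dv.df))
(Tr.lf (Fc.ed (nat_lit 11950) (nat_lit 4742) Col.c (nat_lit 3914) (Dv.wd (nat_lit 81) [Mv.b (nat_lit 10286), Mv.f (nat_lit 10189), Mv.f (nat_lit 10638), Mv.f (nat_lit 10640), Mv.b (nat_lit 8136), Mv.b (nat_lit 8124), Mv.f (nat_lit 10303), Mv.f (nat_lit 11884), Mv.f (nat_lit 11949)])))))))))
(Tr.nd (nat_lit 11971) (Tr.nd (nat_lit 11961) (Tr.nd (nat_lit 11956) (Tr.nd (nat_lit 11953) (Tr.nd (nat_lit 11952) (Tr.lf (Fc.ed (nat_lit 11951) (nat_lit 3914) Col.b (nat_lit 2142) (Dv.wd (nat_lit 101) [Mv.f (nat_lit 5947), Mv.f (nat_lit 10019), Mv.f (nat_lit 8897), Mv.b (nat_lit 8899), Mv.b (nat_lit 10321), Mv.f (nat_lit 11141), Mv.f (nat_lit 11139), Mv.f (nat_lit 11884), Mv.f (nat_lit 11949), Mv.f (nat_lit 11950)])))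
(Tr.lf (Fc.ed (nat_lit 11952) (nat_lit 3122) Col.b (nat_lit 3833) (Dv.wd (nat_lit 126) [Mv.b (nat_lit 10232), Mv.f (nat_lit 11951), Mv.f (nat_lit 10322)]))))
(Tr.nd (nat_lit 11954) (Tr.lf (Fc.ed (nat_lit 11953) (nat_lit 3110) Col.b (nat_lit 3918) (Dv.wd (nat_lit 107) [Mv.b (nat_lit 9625), Mv.f (nat_lit 11951), Mv.b (nat_lit 8078)])))
(Tr.nd (nat_lit 11955) (Tr.lf (Fc.ed (nat_lit 11954) (nat_lit 3792) Col.a (nat_lit 3666) (Dv.wd (nat_lit 155) [Mv.b (nat_lit 9170), Mv.f (nat_lit 8077), Mv.f (nat_lit 11953), Mv.f (nat_lit 10311), Mv.b (nat_lit 9750)])))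
(Tr.lf (Fc.al (nat_lit 11955) (nat_lit 3609) (nat_lit 3779) (Dv.wd (nat_lit 76) [Mv.b (nat_lit 9390), Mv.f (nat_lit 9415), Mv.f (nat_lit 11954), Mv.b (nat_lit 10143)]))))))
(Tr.nd (nat_lit 11958) (Tr.nd (nat_lit 11957) (Tr.lf (Fc.ed (nat_lit 11956) (nat_lit 3609) Col.a (nat_lit 3250) (Dv.wd (nat_lit 29) [Mv.f (nat_lit 9390), Mv.b (nat_lit 11955)])))
(Tr.lf (Fc.ed (nat_lit 11957) (nat_lit 3609) Col.f (nat_lit 2183) (Dv.wd (nat_lit 30) [Mv.b (nat_lit 9391), Mv.b (nat_lit 11955)]))))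
(Tr.nd (nat_lit 11959) (Tr.lf (Fc.al (nat_lit 11958) (nat_lit 3090) (nat_lit 2960) (Dv.wd (nat_lit 97) [Mv.b (nat_lit 9753), Mv.f (nat_lit 11954), Mv.f (nat_lit 10198), Mv.b (nat_lit 8031)])))
(Tr.nd (nat_lit 11960) (Tr.lf (Fc.ed (nat_lit 11959) (nat_lit 2960) Col.a (nat_lit 3035) (Dv.wd (nat_lit 29) [Mv.b (nat_lit 8031), Mv.f (nat_lit 11958)])))
(Tr.lf (Fc.al (nat_lit 11960) (nat_lit 837) (nat_lit 2511) (Dv.wd (nat_lit 103) [Mv.f (nat_lit 8030), Mv.f (nat_lit 11958), Mv.b (nat_lit 7741)])))))))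
(Tr.nd (nat_lit 11966) (Tr.nd (nat_lit 11963) (Tr.nd (nat_lit 11962) (Tr.lf (Fc.al (nat_lit 11961) (nat_lit 1778) (nat_lit 1469) (Dv.wd (nat_lit 29) [Mv.f (nat_lit 6760), Mv.b (nat_lit 11960), Mv.f (nat_lit 5128)])))
(Tr.lf (Fc.al (nat_lit 11962) (nat_lit 1557) (nat_lit 2551) (Dv.wd (nat_lit 120) [Mv.b (nat_lit 10133), Mv.b (nat_lit 11960), Mv.b (nat_lit 10112)]))))
(Tr.nd (nat_lit 11964) (Tr.lf (Fc.ed (nat_lit 11963) (nat_lit 837) Col.f (nat_lit 1061) (Dv.wd (nat_lit 30) [Mv.b (nat_lit 6761), Mv.b (nat_lit 11960)])))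
(Tr.nd (nat_lit 11965) (Tr.lf (Fc.ed (nat_lit 11964) (nat_lit 1469) Col.e (nat_lit 2425) (Dv.wd (nat_lit 117) [Mv.b (nat_lit 6559), Mv.f (nat_lit 11961)])))
(Tr.lf (Fc.al (nat_lit 11965) (nat_lit 1458) (nat_lit 2874) (Dv.wd (nat_lit 128) [Mv.b (nat_lit 7566), Mv.b (nat_lit 11962), Mv.b (nat_lit 4619)]))))))
(Tr.nd (nat_lit 11968) (Tr.nd (nat_lit 11967) (Tr.lf (Fc.al (nat_lit 11966) (nat_lit 1990) (nat_lit 1798) (Dv.wd (nat_lit 128) [Mv.b (nat_lit 7567), Mv.b (nat_lit 11965), Mv.b (nat_lit 5564)])))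
(Tr.lf (Fc.ed (nat_lit 11967) (nat_lit 1798) Col.g (nat_lit 928) (Dv.wd (nat_lit 129) [Mv.f (nat_lit 5563), Mv.f (nat_lit 11966)]))))
(Tr.nd (nat_lit 11969) (Tr.lf (Fc.ed (nat_lit 11968) (nat_lit 3757) Col.f (nat_lit 3792) (Dv.wd (nat_lit 13) [Mv.f (nat_lit 11954), Mv.f (nat_lit 9335), Mv.f (nat_lit 10432)])))
(Tr.nd (nat_lit 11970) (Tr.lf (Fc.ed (nat_lit 11969) (nat_lit 3967) Col.f (nat_lit 3815) (Dv.wd (nat_lit 20) [Mv.b (nat_lit 9456), Mv.f (nat_lit 11968), Mv.f (nat_lit 9750)])))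
(Tr.lf (Fc.al (nat_lit 11970) (nat_lit 3264) (nat_lit 3074) (Dv.wd (nat_lit 67) [Mv.b (nat_lit 10136), Mv.f (nat_lit 11968), Mv.b (nat_lit 9415), Mv.b (nat_lit 8383)]))))))))
(Tr.nd (nat_lit 11981) (Tr.nd (nat_lit 11976) (Tr.nd (nat_lit 11973) (Tr.nd (nat_lit 11972) (Tr.lf (Fc.ed (nat_lit 11971) (nat_lit 3074) Col.a (nat_lit 2183) (Dv.wd (nat_lit 29) [Mv.f (nat_lit 8382), Mv.f (nat_lit 11970)])))
(Tr.lf (Fc.al (nat_lit 11972) (nat_lit 2485) (nat_lit 2692) (Dv.wd (nat_lit 120) [Mv.b (nat_lit 10545), Mv.f (nat_lit 11970), Mv.b (nat_lit 10142)]))))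
(Tr.nd (nat_lit 11974) (Tr.lf (Fc.ed (nat_lit 11973) (nat_lit 2485) Col.a (nat_lit 2468) (Dv.wd (nat_lit 29) [Mv.b (nat_lit 7170), Mv.b (nat_lit 11972)])))
(Tr.nd (nat_lit 11975) (Tr.lf (Fc.ed (nat_lit 11974) (nat_lit 2485) Col.f (nat_lit 2416) (Dv.wd (nat_lit 30) [Mv.f (nat_lit 7169), Mv.b (nat_lit 11972)])))
(Tr.lf (Fc.ed (nat_lit 11975) (nat_lit 2416) Col.c (nat_lit 4382) (Dv.wd (nat_lit 34) [Mv.b (nat_lit 11599), Mv.f (nat_lit 11600), Mv.f (nat_lit 11974)]))))))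
(Tr.nd (nat_lit 11978) (Tr.nd (nat_lit 11977) (Tr.lf (Fc.ed (nat_lit 11976) (nat_lit 2416) Col.a (nat_lit 2767) (Dv.wd (nat_lit 23) [Mv.b (nat_lit 7330), Mv.f (nat_lit 6692), Mv.f (nat_lit 11974)])))
(Tr.lf (Fc.ed (nat_lit 11977) (nat_lit 2468) Col.f (nat_lit 2767) (Dv.wd (nat_lit 35) [Mv.b (nat_lit 11976), Mv.b (nat_lit 11974), Mv.f (nat_lit 11973)]))))
(Tr.nd (nat_lit 11979) (Tr.lf (Fc.ed (nat_lit 11978) (nat_lit 4508) Col.c (nat_lit 2468) (Dv.wd (nat_lit 67) [Mv.f (nat_lit 11977), Mv.f (nat_lit 11326), Mv.f (nat_lit 11511)])))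
(Tr.nd (nat_lit 11980) (Tr.lf (Fc.ed (nat_lit 11979) (nat_lit 4515) Col.d (nat_lit 4508) (Dv.wd (nat_lit 95) [Mv.f (nat_lit 11978), Mv.b (nat_lit 10546), Mv.b (nat_lit 11957), Mv.f (nat_lit 11956), Mv.f (nat_lit 9415), Mv.f (nat_lit 9753), Mv.b (nat_lit 7741), Mv.b (nat_lit 10112), Mv.f (nat_lit 11523)])))
(Tr.lf (Fc.ed (nat_lit 11980) (nat_lit 4616) Col.g (nat_lit 4508) (Dv.wd (nat_lit 139) [Mv.f (nat_lit 11978), Mv.b (nat_lit 6655), Mv.f (nat_lit 4042), Mv.f (nat_lit 4045), Mv.b (nat_lit 3801), Mv.b (nat_lit 2945), Mv.b (nat_lit 9014), Mv.b (nat_lit 10926), Mv.b (nat_lit 11713)])))))))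
(Tr.nd (nat_lit 11986) (Tr.nd (nat_lit 11983) (Tr.nd (nat_lit 11982) (Tr.lf (Fc.ed (nat_lit 11981) (nat_lit 4382) Col.g (nat_lit 4616) (Dv.wd (nat_lit 17) [Mv.f (nat_lit 11980), Mv.f (nat_lit 11601), Mv.f (nat_lit 11599)])))
(Tr.lf (Fc.ed (nat_lit 11982) (nat_lit 3747) Col.c (nat_lit 4386) (Dv.wd (nat_lit 81) [Mv.b (nat_lit 11295), Mv.f (nat_lit 11289), Mv.f (nat_lit 11981), Mv.b (nat_lit 11712), Mv.f (nat_lit 11682), Mv.b (nat_lit 11326), Mv.f (nat_lit 9069), Mv.f (nat_lit 10143), Mv.f (nat_lit 9335)]))))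
(Tr.nd (nat_lit 11984) (Tr.lf (Fc.ed (nat_lit 11983) (nat_lit 4518) Col.gi (nat_lit 3816) (Dv.wd (nat_lit 111) [Mv.b (nat_lit 9458), Mv.b (nat_lit 10430), Mv.b (nat_lit 9780), Mv.f (nat_lit 10459), Mv.b (nat_lit 10101), Mv.f (nat_lit 10197), Mv.f (nat_lit 10145), Mv.f (nat_lit 11982), Mv.f (nat_lit 11528)])))
(Tr.nd (nat_lit 11985) (Tr.lf (Fc.ed (nat_lit 11984) (nat_lit 4518) Col.c (nat_lit 4345) (Dv.wd (nat_lit 32) [Mv.b (nat_lit 11154), Mv.b (nat_lit 9854), Mv.b (nat_lit 8842), Mv.f (nat_lit 5485), Mv.f (nat_lit 7993), Mv.b (nat_lit 10136), Mv.b (nat_lit 10432), Mv.f (nat_lit 11982), Mv.f (nat_lit 11528)])))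
(Tr.lf (Fc.ed (nat_lit 11985) (nat_lit 3841) Col.gi (nat_lit 4518) (Dv.wd (nat_lit 78) [Mv.f (nat_lit 11984), Mv.b (nat_lit 11154), Mv.f (nat_lit 9905), Mv.b (nat_lit 10927), Mv.b (nat_lit 10925), Mv.f (nat_lit 10207), Mv.f (nat_lit 6148), Mv.b (nat_lit 10468), Mv.f (nat_lit 10469)]))))))
(Tr.nd (nat_lit 11989) (Tr.nd (nat_lit 11987) (Tr.lf (Fc.ed (nat_lit 11986) (nat_lit 4386) Col.g (nat_lit 4515) (Dv.wd (nat_lit 139) [Mv.b (nat_lit 11523), Mv.b (nat_lit 4619), Mv.f (nat_lit 5146), Mv.f (nat_lit 5398), Mv.b (nat_lit 5452), Mv.b (nat_lit 8560), Mv.f (nat_lit 10469), Mv.f (nat_lit 11985), Mv.b (nat_lit 11528)])))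
(Tr.nd (nat_lit 11988) (Tr.lf (Fc.ed (nat_lit 11987) (nat_lit 4515) Col.a (nat_lit 4492) (Dv.wd (nat_lit 114) [Mv.f (nat_lit 11484), Mv.f (nat_lit 11295), Mv.f (nat_lit 11986)])))
(Tr.lf (Fc.ed (nat_lit 11988) (nat_lit 4419) Col.f (nat_lit 4515) (Dv.wd (nat_lit 73) [Mv.f (nat_lit 11987), Mv.f (nat_lit 11484), Mv.f (nat_lit 11362)])))))
(Tr.nd (nat_lit 11990) (Tr.lf (Fc.ed (nat_lit 11989) (nat_lit 4516) Col.gi (nat_lit 4419) (Dv.wd (nat_lit 24) [Mv.f (nat_lit 11988), Mv.f (nat_lit 11987), Mv.f (nat_lit 11524)])))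
(Tr.nd (nat_lit 11991) (Tr.lf (Fc.ed (nat_lit 11990) (nat_lit 3842) Col.c (nat_lit 4516) (Dv.wd (nat_lit 32) [Mv.f (nat_lit 11989), Mv.f (nat_lit 11361), Mv.b (nat_lit 4663), Mv.b (nat_lit 2232), Mv.f (nat_lit 4391), Mv.b (nat_lit 10099), Mv.f (nat_lit 10197), Mv.b (nat_lit 10372), Mv.f (nat_lit 10498)])))
(Tr.lf (Fc.ed (nat_lit 11991) (nat_lit 3970) Col.g (nat_lit 3920) (Dv.wd (nat_lit 118) [Mv.b (nat_lit 9629), Mv.f (nat_lit 6409), Mv.b (nat_lit 6268), Mv.f (nat_lit 5301), Mv.b (nat_lit 5960), Mv.f (nat_lit 10501), Mv.f (nat_lit 11990), Mv.b (nat_lit 11524), Mv.b (nat_lit 11483), Mv.b (nat_lit 10134)])))))))))))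
(Tr.nd (nat_lit 12074) (Tr.nd (nat_lit 12033) (Tr.nd (nat_lit 12012) (Tr.nd (nat_lit 12002) (Tr.nd (nat_lit 11997) (Tr.nd (nat_lit 11994) (Tr.nd (nat_lit 11993) (Tr.lf (Fc.ed (nat_lit 11992) (nat_lit 3309) Col.gi (nat_lit 3704) (Dv.wd (nat_lit 141) [Mv.b (nat_lit 9759), Mv.f (nat_lit 11991), Mv.b (nat_lit 9629), Mv.f (nat_lit 6409), Mv.b (nat_lit 6268), Mv.b (nat_lit 5424), Mv.b (nat_lit 5675), Mv.f (nat_lit 5695), Mv.b (nat_lit 8471)])))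
(Tr.lf (Fc.ed (nat_lit 11993) (nat_lit 3815) Col.a (nat_lit 3914) (Dv.wd (nat_lit 16) [Mv.f (nat_lit 9625), Mv.f (nat_lit 10311), Mv.f (nat_lit 11969)]))))
(Tr.nd (nat_lit 11995) (Tr.lf (Fc.ed (nat_lit 11994) (nat_lit 3752) Col.f (nat_lit 2548) (Dv.wd (nat_lit 11) [Mv.f (nat_lit 9752), Mv.f (nat_lit 11969), Mv.f (nat_lit 9457)])))
(Tr.nd (nat_lit 11996) (Tr.lf (Fc.ed (nat_lit 11995) (nat_lit 2730) Col.g (nat_lit 3918) (Dv.wd (nat_lit 9) [Mv.f (nat_lit 10311), Mv.f (nat_lit 11969), Mv.b (nat_lit 10317)])))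
(Tr.lf (Fc.ed (nat_lit 11996) (nat_lit 3918) Col.g (nat_lit 3964) (Dv.wd (nat_lit 9) [Mv.b (nat_lit 10307), Mv.f (nat_lit 10283), Mv.f (nat_lit 11995)]))))))
(Tr.nd (nat_lit 11999) (Tr.nd (nat_lit 11998) (Tr.lf (Fc.ed (nat_lit 11997) (nat_lit 4042) Col.d (nat_lit 3918) (Dv.wd (nat_lit 51) [Mv.f (nat_lit 11996), Mv.f (nat_lit 10306), Mv.b (nat_lit 10255), Mv.f (nat_lit 10302), Mv.f (nat_lit 6174), Mv.b (nat_lit 3629), Mv.f (nat_lit 7025), Mv.f (nat_lit 7027), Mv.f (nat_lit 9873)])))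
(Tr.lf (Fc.ed (nat_lit 11998) (nat_lit 2548) Col.a (nat_lit 4042) (Dv.wd (nat_lit 54) [Mv.f (nat_lit 11997), Mv.f (nat_lit 10311), Mv.b (nat_lit 9752)]))))
(Tr.nd (nat_lit 12000) (Tr.lf (Fc.ed (nat_lit 11999) (nat_lit 3833) Col.f (nat_lit 4042) (Dv.wd (nat_lit 86) [Mv.f (nat_lit 11997), Mv.b (nat_lit 9625), Mv.f (nat_lit 10232)])))
(Tr.nd (nat_lit 12001) (Tr.lf (Fc.ed (nat_lit 12000) (nat_lit 3752) Col.a (nat_lit 3833) (Dv.wd (nat_lit 79) [Mv.f (nat_lit 11999), Mv.b (nat_lit 11998), Mv.b (nat_lit 11994)])))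
(Tr.lf (Fc.ed (nat_lit 12001) (nat_lit 3736) Col.e (nat_lit 3752) (Dv.wd (nat_lit 72) [Mv.f (nat_lit 12000), Mv.b (nat_lit 11394), Mv.f (nat_lit 10537)])))))))
(Tr.nd (nat_lit 12007) (Tr.nd (nat_lit 12004) (Tr.nd (nat_lit 12003) (Tr.lf (Fc.ed (nat_lit 12002) (nat_lit 3952) Col.e (nat_lit 3364) (Dv.wd (nat_lit 25) [Mv.b (nat_lit 10298), Mv.f (nat_lit 12001), Mv.b (nat_lit 10209)])))
(Tr.lf (Fc.ed (nat_lit 12003) (nat_lit 3997) Col.e (nat_lit 4042) (Dv.wd (nat_lit 146) [Mv.f (nat_lit 11997), Mv.b (nat_lit 11995), Mv.f (nat_lit 10167), Mv.f (nat_lit 10169), Mv.b (nat_lit 9319), Mv.f (nat_lit 12001), Mv.b (nat_lit 9457), Mv.f (nat_lit 10326), Mv.f (nat_lit 10306), Mv.f (nat_lit 10332)]))))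
(Tr.nd (nat_lit 12005) (Tr.lf (Fc.ed (nat_lit 12004) (nat_lit 3718) Col.d (nat_lit 4587) (Dv.wd (nat_lit 27) [Mv.b (nat_lit 11662), Mv.b (nat_lit 11392), Mv.b (nat_lit 10628), Mv.f (nat_lit 10332), Mv.f (nat_lit 12003), Mv.f (nat_lit 11997), Mv.b (nat_lit 11995), Mv.f (nat_lit 10167), Mv.f (nat_lit 8421), Mv.b (nat_lit 10522)])))
(Tr.nd (nat_lit 12006) (Tr.lf (Fc.ed (nat_lit 12005) (nat_lit 1425) Col.e (nat_lit 1329) (Dv.wd (nat_lit 52) [Mv.f (nat_lit 10210), Mv.f (nat_lit 12002), Mv.b (nat_lit 8588)])))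
(Tr.lf (Fc.ed (nat_lit 12006) (nat_lit 1614) Col.e (nat_lit 1465) (Dv.wd (nat_lit 25) [Mv.b (nat_lit 4420), Mv.f (nat_lit 12005), Mv.b (nat_lit 4745)]))))))
(Tr.nd (nat_lit 12009) (Tr.nd (nat_lit 12008) (Tr.lf (Fc.al (nat_lit 12007) (nat_lit 1444) (nat_lit 3575) (Dv.wd (nat_lit 52) [Mv.b (nat_lit 9009), Mv.f (nat_lit 4744), Mv.f (nat_lit 12006), Mv.f (nat_lit 10299)])))
(Tr.lf (Fc.ed (nat_lit 12008) (nat_lit 1444) Col.d (nat_lit 2755) (Dv.wd (nat_lit 120) [Mv.f (nat_lit 10111), Mv.b (nat_lit 12007)]))))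
(Tr.nd (nat_lit 12010) (Tr.lf (Fc.ed (nat_lit 12009) (nat_lit 1444) Col.e (nat_lit 1061) (Dv.wd (nat_lit 117) [Mv.f (nat_lit 9009), Mv.b (nat_lit 12007)])))
(Tr.nd (nat_lit 12011) (Tr.lf (Fc.al (nat_lit 12010) (nat_lit 2952) (nat_lit 2799) (Dv.wd (nat_lit 41) [Mv.b (nat_lit 7404), Mv.b (nat_lit 10507), Mv.b (nat_lit 10514), Mv.f (nat_lit 12009), Mv.b (nat_lit 11963), Mv.b (nat_lit 7729)])))
(Tr.lf (Fc.al (nat_lit 12011) (nat_lit 1742) (nat_lit 2425) (Dv.wd (nat_lit 29) [Mv.f (nat_lit 7728), Mv.f (nat_lit 12010), Mv.f (nat_lit 7405)]))))))))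
(Tr.nd (nat_lit 12022) (Tr.nd (nat_lit 12017) (Tr.nd (nat_lit 12014) (Tr.nd (nat_lit 12013) (Tr.lf (Fc.ed (nat_lit 12012) (nat_lit 2799) Col.e (nat_lit 837) (Dv.wd (nat_lit 117) [Mv.b (nat_lit 7729), Mv.f (nat_lit 12010)])))
(Tr.lf (Fc.ed (nat_lit 12013) (nat_lit 1742) Col.e (nat_lit 1469) (Dv.wd (nat_lit 117) [Mv.f (nat_lit 11964), Mv.b (nat_lit 12011)]))))
(Tr.nd (nat_lit 12015) (Tr.lf (Fc.ed (nat_lit 12014) (nat_lit 1474) Col.d (nat_lit 2988) (Dv.wd (nat_lit 68) [Mv.b (nat_lit 7802), Mv.b (nat_lit 3580), Mv.f (nat_lit 1929), Mv.b (nat_lit 4352), Mv.f (nat_lit 12009), Mv.f (nat_lit 10202), Mv.f (nat_lit 4664), Mv.b (nat_lit 4237), Mv.b (nat_lit 4335), Mv.b (nat_lit 4443)])))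
(Tr.nd (nat_lit 12016) (Tr.lf (Fc.ed (nat_lit 12015) (nat_lit 2902) Col.d (nat_lit 1755) (Dv.wd (nat_lit 162) [Mv.b (nat_lit 5077), Mv.b (nat_lit 4621), Mv.f (nat_lit 4351), Mv.f (nat_lit 12009), Mv.f (nat_lit 10202), Mv.b (nat_lit 4663), Mv.b (nat_lit 2232), Mv.f (nat_lit 2038), Mv.b (nat_lit 5712), Mv.b (nat_lit 10543)])))
(Tr.lf (Fc.ed (nat_lit 12016) (nat_lit 3065) Col.d (nat_lit 1423) (Dv.wd (nat_lit 28) [Mv.b (nat_lit 7631), Mv.f (nat_lit 12015), Mv.f (nat_lit 7977)]))))))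
(Tr.nd (nat_lit 12019) (Tr.nd (nat_lit 12018) (Tr.lf (Fc.ed (nat_lit 12017) (nat_lit 2407) Col.d (nat_lit 1553) (Dv.wd (nat_lit 90) [Mv.f (nat_lit 7630), Mv.f (nat_lit 12015), Mv.f (nat_lit 6518)])))
(Tr.lf (Fc.al (nat_lit 12018) (nat_lit 3065) (nat_lit 1735) (Dv.wd (nat_lit 55) [Mv.f (nat_lit 5031), Mv.f (nat_lit 4835), Mv.f (nat_lit 4426), Mv.f (nat_lit 5711), Mv.b (nat_lit 10543), Mv.f (nat_lit 12015), Mv.f (nat_lit 5078), Mv.b (nat_lit 2263), Mv.b (nat_lit 1929), Mv.f (nat_lit 4301), Mv.b (nat_lit 12016)]))))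
(Tr.nd (nat_lit 12020) (Tr.lf (Fc.al (nat_lit 12019) (nat_lit 1028) (nat_lit 3230) (Dv.wd (nat_lit 129) [Mv.f (nat_lit 8316), Mv.f (nat_lit 12018), Mv.b (nat_lit 5030)])))
(Tr.nd (nat_lit 12021) (Tr.lf (Fc.ed (nat_lit 12020) (nat_lit 1735) Col.d (nat_lit 1423) (Dv.wd (nat_lit 120) [Mv.b (nat_lit 12016), Mv.f (nat_lit 12018)])))
(Tr.lf (Fc.al (nat_lit 12021) (nat_lit 2208) (nat_lit 2407) (Dv.wd (nat_lit 129) [Mv.f (nat_lit 8315), Mv.b (nat_lit 12019), Mv.b (nat_lit 6094)])))))))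
(Tr.nd (nat_lit 12027) (Tr.nd (nat_lit 12024) (Tr.nd (nat_lit 12023) (Tr.lf (Fc.al (nat_lit 12022) (nat_lit 3574) (nat_lit 1553) (Dv.wd (nat_lit 120) [Mv.b (nat_lit 12017), Mv.b (nat_lit 12021), Mv.f (nat_lit 9008)])))
(Tr.lf (Fc.al (nat_lit 12023) (nat_lit 1855) (nat_lit 3500) (Dv.wd (nat_lit 103) [Mv.f (nat_lit 10129), Mv.f (nat_lit 12022), Mv.f (nat_lit 5285)]))))
(Tr.nd (nat_lit 12025) (Tr.lf (Fc.ed (nat_lit 12024) (nat_lit 1553) Col.d (nat_lit 2208) (Dv.wd (nat_lit 120) [Mv.f (nat_lit 9008), Mv.f (nat_lit 12022)])))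
(Tr.nd (nat_lit 12026) (Tr.lf (Fc.al (nat_lit 12025) (nat_lit 2601) (nat_lit 1224) (Dv.wd (nat_lit 117) [Mv.b (nat_lit 10128), Mv.f (nat_lit 12022), Mv.b (nat_lit 10108)])))
(Tr.lf (Fc.al (nat_lit 12026) (nat_lit 3600) (nat_lit 3582) (Dv.wd (nat_lit 29) [Mv.b (nat_lit 9021), Mv.b (nat_lit 12023), Mv.b (nat_lit 9055)]))))))
(Tr.nd (nat_lit 12030) (Tr.nd (nat_lit 12028) (Tr.lf (Fc.al (nat_lit 12027) (nat_lit 1914) (nat_lit 3641) (Dv.wd (nat_lit 119) [Mv.f (nat_lit 10536), Mv.b (nat_lit 12023), Mv.f (nat_lit 5399)])))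
(Tr.nd (nat_lit 12029) (Tr.lf (Fc.al (nat_lit 12028) (nat_lit 2300) (nat_lit 2787) (Dv.wd (nat_lit 29) [Mv.b (nat_lit 7376), Mv.f (nat_lit 12025), Mv.b (nat_lit 6293)])))
(Tr.lf (Fc.ed (nat_lit 12029) (nat_lit 1224) Col.d (nat_lit 1327) (Dv.wd (nat_lit 120) [Mv.f (nat_lit 6968), Mv.f (nat_lit 12025)])))))
(Tr.nd (nat_lit 12031) (Tr.lf (Fc.ed (nat_lit 12030) (nat_lit 1224) Col.e (nat_lit 1553) (Dv.wd (nat_lit 117) [Mv.b (nat_lit 10108), Mv.f (nat_lit 12025)])))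
(Tr.nd (nat_lit 12032) (Tr.lf (Fc.ed (nat_lit 12031) (nat_lit 3582) Col.a (nat_lit 1855) (Dv.wd (nat_lit 29) [Mv.b (nat_lit 9055), Mv.f (nat_lit 12026)])))
(Tr.lf (Fc.ed (nat_lit 12032) (nat_lit 3582) Col.c (nat_lit 2531) (Dv.wd (nat_lit 103) [Mv.f (nat_lit 9054), Mv.f (nat_lit 12026)])))))))))
(Tr.nd (nat_lit 12053) (Tr.nd (nat_lit 12043) (Tr.nd (nat_lit 12038) (Tr.nd (nat_lit 12035) (Tr.nd (nat_lit 12034) (Tr.lf (Fc.al (nat_lit 12033) (nat_lit 2745) (nat_lit 3690) (Dv.wd (nat_lit 117) [Mv.f (nat_lit 10547), Mv.f (nat_lit 12026), Mv.f (nat_lit 9022)])))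
(Tr.lf (Fc.ed (nat_lit 12034) (nat_lit 3582) Col.f (nat_lit 3643) (Dv.wd (nat_lit 30) [Mv.b (nat_lit 9131), Mv.f (nat_lit 12026)]))))
(Tr.nd (nat_lit 12036) (Tr.lf (Fc.ed (nat_lit 12035) (nat_lit 1914) Col.d (nat_lit 2104) (Dv.wd (nat_lit 120) [Mv.f (nat_lit 9128), Mv.b (nat_lit 12027)])))
(Tr.nd (nat_lit 12037) (Tr.lf (Fc.al (nat_lit 12036) (nat_lit 1207) (nat_lit 3229) (Dv.wd (nat_lit 30) [Mv.f (nat_lit 8314), Mv.b (nat_lit 12028), Mv.b (nat_lit 6292)])))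
(Tr.lf (Fc.al (nat_lit 12037) (nat_lit 2487) (nat_lit 3311) (Dv.wd (nat_lit 30) [Mv.f (nat_lit 9219), Mv.b (nat_lit 12033), Mv.f (nat_lit 7283)]))))))
(Tr.nd (nat_lit 12040) (Tr.nd (nat_lit 12039) (Tr.lf (Fc.ed (nat_lit 12038) (nat_lit 1207) Col.d (nat_lit 1278) (Dv.wd (nat_lit 120) [Mv.f (nat_lit 8313), Mv.b (nat_lit 12036)])))
(Tr.lf (Fc.al (nat_lit 12039) (nat_lit 3591) (nat_lit 1475) (Dv.wd (nat_lit 117) [Mv.b (nat_lit 10130), Mv.b (nat_lit 12036), Mv.f (nat_lit 9038)]))))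
(Tr.nd (nat_lit 12041) (Tr.lf (Fc.ed (nat_lit 12040) (nat_lit 2487) Col.b (nat_lit 3968) (Dv.wd (nat_lit 119) [Mv.f (nat_lit 9755), Mv.b (nat_lit 12037)])))
(Tr.nd (nat_lit 12042) (Tr.lf (Fc.ed (nat_lit 12041) (nat_lit 2487) Col.d (nat_lit 2206) (Dv.wd (nat_lit 120) [Mv.f (nat_lit 8474), Mv.b (nat_lit 12037)])))
(Tr.lf (Fc.ed (nat_lit 12042) (nat_lit 1475) Col.c (nat_lit 3601) (Dv.wd (nat_lit 103) [Mv.b (nat_lit 9056), Mv.f (nat_lit 12039)])))))))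
(Tr.nd (nat_lit 12048) (Tr.nd (nat_lit 12045) (Tr.nd (nat_lit 12044) (Tr.lf (Fc.ed (nat_lit 12043) (nat_lit 1645) Col.d (nat_lit 2653) (Dv.wd (nat_lit 162) [Mv.b (nat_lit 7082), Mv.f (nat_lit 3955), Mv.b (nat_lit 5712), Mv.b (nat_lit 10543), Mv.f (nat_lit 12015), Mv.b (nat_lit 5077), Mv.b (nat_lit 4621), Mv.f (nat_lit 4335), Mv.b (nat_lit 4392), Mv.b (nat_lit 10507)])))
(Tr.lf (Fc.al (nat_lit 12044) (nat_lit 2810) (nat_lit 2988) (Dv.wd (nat_lit 28) [Mv.b (nat_lit 12014), Mv.f (nat_lit 10512), Mv.f (nat_lit 12043), Mv.f (nat_lit 7431)]))))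
(Tr.nd (nat_lit 12046) (Tr.lf (Fc.ed (nat_lit 12045) (nat_lit 2810) Col.gi (nat_lit 1555) (Dv.wd (nat_lit 128) [Mv.b (nat_lit 7803), Mv.b (nat_lit 12044)])))
(Tr.nd (nat_lit 12047) (Tr.lf (Fc.ed (nat_lit 12046) (nat_lit 2810) Col.d (nat_lit 1474) (Dv.wd (nat_lit 120) [Mv.f (nat_lit 12014), Mv.b (nat_lit 12044)])))
(Tr.lf (Fc.al (nat_lit 12047) (nat_lit 3734) (nat_lit 2755) (Dv.wd (nat_lit 90) [Mv.b (nat_lit 12008), Mv.f (nat_lit 10514), Mv.f (nat_lit 12043), Mv.f (nat_lit 9313)]))))))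
(Tr.nd (nat_lit 12050) (Tr.nd (nat_lit 12049) (Tr.lf (Fc.ed (nat_lit 12048) (nat_lit 2755) Col.a (nat_lit 2710) (Dv.wd (nat_lit 29) [Mv.b (nat_lit 9314), Mv.f (nat_lit 12047)])))
(Tr.lf (Fc.ed (nat_lit 12049) (nat_lit 2755) Col.f (nat_lit 2653) (Dv.wd (nat_lit 30) [Mv.f (nat_lit 9313), Mv.f (nat_lit 12047)]))))
(Tr.nd (nat_lit 12051) (Tr.lf (Fc.ed (nat_lit 12050) (nat_lit 3272) Col.d (nat_lit 3992) (Dv.wd (nat_lit 53) [Mv.b (nat_lit 9789), Mv.f (nat_lit 8803), Mv.b (nat_lit 5051), Mv.f (nat_lit 4835), Mv.f (nat_lit 4811), Mv.f (nat_lit 12043), Mv.b (nat_lit 7082), Mv.b (nat_lit 5012), Mv.b (nat_lit 5011), Mv.b (nat_lit 8397)])))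
(Tr.nd (nat_lit 12052) (Tr.lf (Fc.ed (nat_lit 12051) (nat_lit 4450) Col.a (nat_lit 4106) (Dv.wd (nat_lit 31) [Mv.b (nat_lit 10589), Mv.f (nat_lit 12048), Mv.f (nat_lit 11415)])))
(Tr.lf (Fc.ed (nat_lit 12052) (nat_lit 3464) Col.d (nat_lit 4450) (Dv.wd (nat_lit 97) [Mv.f (nat_lit 12051), Mv.f (nat_lit 10590), Mv.f (nat_lit 9096)]))))))))
(Tr.nd (nat_lit 12063) (Tr.nd (nat_lit 12058) (Tr.nd (nat_lit 12055) (Tr.nd (nat_lit 12054) (Tr.lf (Fc.ed (nat_lit 12053) (nat_lit 3991) Col.d (nat_lit 4414) (Dv.wd (nat_lit 58) [Mv.b (nat_lit 11350), Mv.f (nat_lit 12046), Mv.f (nat_lit 9788)])))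
(Tr.lf (Fc.ed (nat_lit 12054) (nat_lit 2524) Col.e (nat_lit 3868) (Dv.wd (nat_lit 47) [Mv.b (nat_lit 9546), Mv.f (nat_lit 7956), Mv.b (nat_lit 7056), Mv.f (nat_lit 7057), Mv.b (nat_lit 12045), Mv.f (nat_lit 12046), Mv.b (nat_lit 4442), Mv.f (nat_lit 2263), Mv.b (nat_lit 4011), Mv.b (nat_lit 6795)]))))
(Tr.nd (nat_lit 12056) (Tr.lf (Fc.al (nat_lit 12055) (nat_lit 2898) (nat_lit 1423) (Dv.wd (nat_lit 75) [Mv.f (nat_lit 4302), Mv.f (nat_lit 4615), Mv.b (nat_lit 12045), Mv.f (nat_lit 12046), Mv.b (nat_lit 10119), Mv.b (nat_lit 5435), Mv.f (nat_lit 2025), Mv.b (nat_lit 3208), Mv.f (nat_lit 5030), Mv.f (nat_lit 12020), Mv.b (nat_lit 10131)])))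
(Tr.nd (nat_lit 12057) (Tr.lf (Fc.al (nat_lit 12056) (nat_lit 2531) (nat_lit 1475) (Dv.wd (nat_lit 30) [Mv.f (nat_lit 7620), Mv.f (nat_lit 12055), Mv.b (nat_lit 6812)])))
(Tr.lf (Fc.al (nat_lit 12057) (nat_lit 3601) (nat_lit 3582) (Dv.wd (nat_lit 103) [Mv.f (nat_lit 12032), Mv.f (nat_lit 12056), Mv.f (nat_lit 12042)]))))))
(Tr.nd (nat_lit 12060) (Tr.nd (nat_lit 12059) (Tr.lf (Fc.al (nat_lit 12058) (nat_lit 2745) (nat_lit 2487) (Dv.wd (nat_lit 117) [Mv.b (nat_lit 9057), Mv.f (nat_lit 12057), Mv.f (nat_lit 9022)])))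
(Tr.lf (Fc.al (nat_lit 12059) (nat_lit 2603) (nat_lit 1524) (Dv.wd (nat_lit 29) [Mv.b (nat_lit 7282), Mv.f (nat_lit 12058), Mv.f (nat_lit 6973)]))))
(Tr.nd (nat_lit 12061) (Tr.lf (Fc.ed (nat_lit 12060) (nat_lit 2487) Col.e (nat_lit 3582) (Dv.wd (nat_lit 117) [Mv.f (nat_lit 9022), Mv.f (nat_lit 12058)])))
(Tr.nd (nat_lit 12062) (Tr.lf (Fc.ed (nat_lit 12061) (nat_lit 2487) Col.f (nat_lit 2487) (Dv.wd (nat_lit 30) [Mv.b (nat_lit 7283), Mv.f (nat_lit 12058)])))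
(Tr.lf (Fc.ed (nat_lit 12062) (nat_lit 1524) Col.a (nat_lit 2487) (Dv.wd (nat_lit 29) [Mv.f (nat_lit 6973), Mv.f (nat_lit 12059)])))))))
(Tr.nd (nat_lit 12068) (Tr.nd (nat_lit 12065) (Tr.nd (nat_lit 12064) (Tr.lf (Fc.ed (nat_lit 12063) (nat_lit 1524) Col.f (nat_lit 1524) (Dv.wd (nat_lit 30) [Mv.f (nat_lit 6971), Mv.f (nat_lit 12059)])))
(Tr.lf (Fc.ed (nat_lit 12064) (nat_lit 3732) Col.d (nat_lit 1524) (Dv.wd (nat_lit 97) [Mv.f (nat_lit 12062), Mv.f (nat_lit 12041), Mv.f (nat_lit 9309)]))))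
(Tr.nd (nat_lit 12066) (Tr.lf (Fc.ed (nat_lit 12065) (nat_lit 3732) Col.f (nat_lit 3732) (Dv.wd (nat_lit 86) [Mv.f (nat_lit 12064), Mv.f (nat_lit 12063), Mv.b (nat_lit 12064)])))
(Tr.nd (nat_lit 12067) (Tr.lf (Fc.ed (nat_lit 12066) (nat_lit 2921) Col.c (nat_lit 3732) (Dv.wd (nat_lit 83) [Mv.f (nat_lit 12064), Mv.b (nat_lit 4551), Mv.b (nat_lit 3776), Mv.f (nat_lit 3100), Mv.b (nat_lit 3715), Mv.f (nat_lit 12038), Mv.b (nat_lit 3906), Mv.f (nat_lit 4660), Mv.b (nat_lit 7670)])))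
(Tr.lf (Fc.ed (nat_lit 12067) (nat_lit 2448) Col.a (nat_lit 2921) (Dv.wd (nat_lit 76) [Mv.f (nat_lit 12066), Mv.b (nat_lit 9309), Mv.f (nat_lit 6612)]))))))
(Tr.nd (nat_lit 12071) (Tr.nd (nat_lit 12069) (Tr.lf (Fc.ed (nat_lit 12068) (nat_lit 2921) Col.f (nat_lit 2921) (Dv.wd (nat_lit 64) [Mv.f (nat_lit 12066), Mv.f (nat_lit 12065), Mv.b (nat_lit 12066)])))
(Tr.nd (nat_lit 12070) (Tr.lf (Fc.ed (nat_lit 12069) (nat_lit 2448) Col.f (nat_lit 2448) (Dv.wd (nat_lit 35) [Mv.f (nat_lit 12067), Mv.f (nat_lit 12068), Mv.b (nat_lit 12067)])))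
(Tr.lf (Fc.ed (nat_lit 12070) (nat_lit 2206) Col.f (nat_lit 2206) (Dv.wd (nat_lit 26) [Mv.f (nat_lit 6612), Mv.f (nat_lit 12069), Mv.b (nat_lit 6612)])))))
(Tr.nd (nat_lit 12072) (Tr.lf (Fc.al (nat_lit 12071) (nat_lit 3418) (nat_lit 2516) (Dv.wd (nat_lit 107) [Mv.b (nat_lit 6774), Mv.f (nat_lit 12070), Mv.f (nat_lit 6774), Mv.f (nat_lit 8701)])))
(Tr.nd (nat_lit 12073) (Tr.lf (Fc.ed (nat_lit 12072) (nat_lit 2516) Col.f (nat_lit 2516) (Dv.wd (nat_lit 30) [Mv.f (nat_lit 8701), Mv.f (nat_lit 12071)])))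
(Tr.lf (Fc.al (nat_lit 12073) (nat_lit 3732) (nat_lit 3006) (Dv.wd (nat_lit 12) [Mv.b (nat_lit 7839), Mv.b (nat_lit 7380), Mv.f (nat_lit 12070), Mv.f (nat_lit 9309)]))))))))))
(Tr.nd (nat_lit 12115) (Tr.nd (nat_lit 12094) (Tr.nd (nat_lit 12084) (Tr.nd (nat_lit 12079) (Tr.nd (nat_lit 12076) (Tr.nd (nat_lit 12075) (Tr.lf (Fc.ed (nat_lit 12074) (nat_lit 3006) Col.a (nat_lit 2206) (Dv.wd (nat_lit 29) [Mv.f (nat_lit 9309), Mv.f (nat_lit 12073)])))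
(Tr.lf (Fc.ed (nat_lit 12075) (nat_lit 3006) Col.c (nat_lit 2921) (Dv.wd (nat_lit 103) [Mv.f (nat_lit 12066), Mv.f (nat_lit 12073)]))))
(Tr.nd (nat_lit 12077) (Tr.lf (Fc.ed (nat_lit 12076) (nat_lit 3006) Col.d (nat_lit 1524) (Dv.wd (nat_lit 120) [Mv.b (nat_lit 12064), Mv.f (nat_lit 12073)])))
(Tr.nd (nat_lit 12078) (Tr.lf (Fc.al (nat_lit 12077) (nat_lit 2906) (nat_lit 2983) (Dv.wd (nat_lit 124) [Mv.f (nat_lit 7790), Mv.f (nat_lit 7378), Mv.f (nat_lit 7839), Mv.f (nat_lit 12075), Mv.b (nat_lit 7669), Mv.b (nat_lit 3947), Mv.b (nat_lit 1583), Mv.b (nat_lit 358), Mv.f (nat_lit 4262), Mv.f (nat_lit 4788), Mv.f (nat_lit 7639)])))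
(Tr.lf (Fc.al (nat_lit 12078) (nat_lit 2939) (nat_lit 1633) (Dv.wd (nat_lit 29) [Mv.f (nat_lit 7789), Mv.b (nat_lit 12077), Mv.f (nat_lit 7701)]))))))
(Tr.nd (nat_lit 12081) (Tr.nd (nat_lit 12080) (Tr.lf (Fc.ed (nat_lit 12079) (nat_lit 2906) Col.c (nat_lit 2344) (Dv.wd (nat_lit 103) [Mv.b (nat_lit 7790), Mv.b (nat_lit 12077)])))
(Tr.lf (Fc.al (nat_lit 12080) (nat_lit 1463) (nat_lit 1464) (Dv.wd (nat_lit 103) [Mv.f (nat_lit 7703), Mv.f (nat_lit 12078), Mv.b (nat_lit 4789)]))))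
(Tr.nd (nat_lit 12082) (Tr.lf (Fc.ed (nat_lit 12081) (nat_lit 1463) Col.g (nat_lit 2564) (Dv.wd (nat_lit 129) [Mv.b (nat_lit 6883), Mv.b (nat_lit 12080)])))
(Tr.nd (nat_lit 12083) (Tr.lf (Fc.al (nat_lit 12082) (nat_lit 400) (nat_lit 739) (Dv.wd (nat_lit 119) [Mv.b (nat_lit 4419), Mv.b (nat_lit 12080), Mv.b (nat_lit 4417)])))
(Tr.lf (Fc.ed (nat_lit 12083) (nat_lit 1463) Col.e (nat_lit 2243) (Dv.wd (nat_lit 117) [Mv.b (nat_lit 6157), Mv.b (nat_lit 12080)])))))))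
(Tr.nd (nat_lit 12089) (Tr.nd (nat_lit 12086) (Tr.nd (nat_lit 12085) (Tr.lf (Fc.al (nat_lit 12084) (nat_lit 493) (nat_lit 462) (Dv.wd (nat_lit 29) [Mv.f (nat_lit 2146), Mv.b (nat_lit 12082), Mv.b (nat_lit 1151)])))
(Tr.lf (Fc.al (nat_lit 12085) (nat_lit 1746) (nat_lit 1729) (Dv.wd (nat_lit 119) [Mv.b (nat_lit 5014), Mv.f (nat_lit 12084), Mv.b (nat_lit 5057)]))))
(Tr.nd (nat_lit 12087) (Tr.lf (Fc.ed (nat_lit 12086) (nat_lit 1729) Col.g (nat_lit 2206) (Dv.wd (nat_lit 129) [Mv.b (nat_lit 6090), Mv.f (nat_lit 12085)])))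
(Tr.nd (nat_lit 12088) (Tr.lf (Fc.al (nat_lit 12087) (nat_lit 1445) (nat_lit 1754) (Dv.wd (nat_lit 120) [Mv.f (nat_lit 5075), Mv.f (nat_lit 12085), Mv.f (nat_lit 5015)])))
(Tr.lf (Fc.ed (nat_lit 12088) (nat_lit 1729) Col.e (nat_lit 1824) (Dv.wd (nat_lit 117) [Mv.b (nat_lit 5217), Mv.f (nat_lit 12085)]))))))
(Tr.nd (nat_lit 12091) (Tr.nd (nat_lit 12090) (Tr.lf (Fc.ed (nat_lit 12089) (nat_lit 1729) Col.f (nat_lit 1729) (Dv.wd (nat_lit 30) [Mv.f (nat_lit 5056), Mv.f (nat_lit 12085)])))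
(Tr.lf (Fc.ed (nat_lit 12090) (nat_lit 1445) Col.g (nat_lit 2487) (Dv.wd (nat_lit 129) [Mv.b (nat_lit 6696), Mv.b (nat_lit 12087)]))))
(Tr.nd (nat_lit 12092) (Tr.lf (Fc.ed (nat_lit 12091) (nat_lit 1445) Col.gi (nat_lit 1524) (Dv.wd (nat_lit 128) [Mv.f (nat_lit 6974), Mv.b (nat_lit 12087)])))
(Tr.nd (nat_lit 12093) (Tr.lf (Fc.ed (nat_lit 12092) (nat_lit 1445) Col.a (nat_lit 2832) (Dv.wd (nat_lit 29) [Mv.b (nat_lit 7475), Mv.b (nat_lit 12087)])))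
(Tr.lf (Fc.ed (nat_lit 12093) (nat_lit 1445) Col.b (nat_lit 974) (Dv.wd (nat_lit 119) [Mv.f (nat_lit 5074), Mv.b (nat_lit 12087)]))))))))
(Tr.nd (nat_lit 12104) (Tr.nd (nat_lit 12099) (Tr.nd (nat_lit 12096) (Tr.nd (nat_lit 12095) (Tr.lf (Fc.ed (nat_lit 12094) (nat_lit 1445) Col.f (nat_lit 1445) (Dv.wd (nat_lit 30) [Mv.b (nat_lit 5076), Mv.b (nat_lit 12087)])))
(Tr.lf (Fc.ed (nat_lit 12095) (nat_lit 2832) Col.f (nat_lit 2832) (Dv.wd (nat_lit 35) [Mv.b (nat_lit 12092), Mv.f (nat_lit 12094), Mv.f (nat_lit 12092)]))))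
(Tr.nd (nat_lit 12097) (Tr.lf (Fc.ed (nat_lit 12096) (nat_lit 2832) Col.gi (nat_lit 2487) (Dv.wd (nat_lit 12) [Mv.b (nat_lit 12090), Mv.f (nat_lit 12094), Mv.f (nat_lit 12092)])))
(Tr.nd (nat_lit 12098) (Tr.lf (Fc.ed (nat_lit 12097) (nat_lit 1524) Col.gi (nat_lit 2832) (Dv.wd (nat_lit 12) [Mv.f (nat_lit 12096), Mv.f (nat_lit 12061), Mv.b (nat_lit 12062)])))
(Tr.lf (Fc.ed (nat_lit 12098) (nat_lit 2788) Col.d (nat_lit 2832) (Dv.wd (nat_lit 48) [Mv.f (nat_lit 12096), Mv.f (nat_lit 6697), Mv.f (nat_lit 3715), Mv.f (nat_lit 3625), Mv.b (nat_lit 4013), Mv.b (nat_lit 12029), Mv.f (nat_lit 4551), Mv.b (nat_lit 12076), Mv.b (nat_lit 7839)]))))))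
(Tr.nd (nat_lit 12101) (Tr.nd (nat_lit 12100) (Tr.lf (Fc.al (nat_lit 12099) (nat_lit 2889) (nat_lit 2842) (Dv.wd (nat_lit 58) [Mv.f (nat_lit 7495), Mv.f (nat_lit 7378), Mv.f (nat_lit 12098), Mv.f (nat_lit 7600)])))
(Tr.lf (Fc.ed (nat_lit 12100) (nat_lit 2842) Col.b (nat_lit 2832) (Dv.wd (nat_lit 119) [Mv.f (nat_lit 7600), Mv.f (nat_lit 12099)]))))
(Tr.nd (nat_lit 12102) (Tr.lf (Fc.ed (nat_lit 12101) (nat_lit 2788) Col.f (nat_lit 2788) (Dv.wd (nat_lit 86) [Mv.f (nat_lit 12098), Mv.f (nat_lit 12095), Mv.b (nat_lit 12098)])))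
(Tr.nd (nat_lit 12103) (Tr.lf (Fc.ed (nat_lit 12102) (nat_lit 2344) Col.f (nat_lit 2344) (Dv.wd (nat_lit 20) [Mv.f (nat_lit 7378), Mv.f (nat_lit 12101), Mv.b (nat_lit 7378)])))
(Tr.lf (Fc.ed (nat_lit 12103) (nat_lit 2842) Col.f (nat_lit 2842) (Dv.wd (nat_lit 11) [Mv.f (nat_lit 7495), Mv.f (nat_lit 12102), Mv.b (nat_lit 7495)])))))))
(Tr.nd (nat_lit 12109) (Tr.nd (nat_lit 12106) (Tr.nd (nat_lit 12105) (Tr.lf (Fc.ed (nat_lit 12104) (nat_lit 2516) Col.gi (nat_lit 2344) (Dv.wd (nat_lit 24) [Mv.f (nat_lit 12102), Mv.b (nat_lit 6397), Mv.b (nat_lit 6775)])))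
(Tr.lf (Fc.ed (nat_lit 12105) (nat_lit 3020) Col.f (nat_lit 3020) (Dv.wd (nat_lit 26) [Mv.b (nat_lit 7871), Mv.f (nat_lit 12103), Mv.f (nat_lit 7871)]))))
(Tr.nd (nat_lit 12107) (Tr.lf (Fc.ed (nat_lit 12106) (nat_lit 3788) Col.f (nat_lit 3788) (Dv.wd (nat_lit 35) [Mv.f (nat_lit 9408), Mv.f (nat_lit 12105), Mv.b (nat_lit 9408)])))
(Tr.nd (nat_lit 12108) (Tr.lf (Fc.ed (nat_lit 12107) (nat_lit 1575) Col.g (nat_lit 3020) (Dv.wd (nat_lit 123) [Mv.b (nat_lit 7871), Mv.f (nat_lit 12100), Mv.b (nat_lit 12097), Mv.b (nat_lit 4551), Mv.f (nat_lit 3777), Mv.f (nat_lit 1281), Mv.f (nat_lit 1280), Mv.b (nat_lit 347), Mv.b (nat_lit 4634), Mv.f (nat_lit 4665)])))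
(Tr.lf (Fc.ed (nat_lit 12108) (nat_lit 3020) Col.g (nat_lit 2976) (Dv.wd (nat_lit 9) [Mv.f (nat_lit 7776), Mv.f (nat_lit 4667), Mv.f (nat_lit 12107)]))))))
(Tr.nd (nat_lit 12112) (Tr.nd (nat_lit 12110) (Tr.lf (Fc.ed (nat_lit 12109) (nat_lit 3788) Col.g (nat_lit 1575) (Dv.wd (nat_lit 17) [Mv.f (nat_lit 12107), Mv.b (nat_lit 9408), Mv.f (nat_lit 12106)])))
(Tr.nd (nat_lit 12111) (Tr.lf (Fc.ed (nat_lit 12110) (nat_lit 3082) Col.d (nat_lit 3202) (Dv.wd (nat_lit 89) [Mv.b (nat_lit 8264), Mv.f (nat_lit 4665), Mv.f (nat_lit 12107), Mv.b (nat_lit 7871), Mv.f (nat_lit 7495), Mv.b (nat_lit 12079), Mv.b (nat_lit 7639), Mv.b (nat_lit 4788), Mv.b (nat_lit 8013)])))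
(Tr.lf (Fc.ed (nat_lit 12111) (nat_lit 3218) Col.d (nat_lit 2695) (Dv.wd (nat_lit 91) [Mv.b (nat_lit 7177), Mv.f (nat_lit 6676), Mv.b (nat_lit 7120), Mv.f (nat_lit 8012), Mv.f (nat_lit 12110), Mv.b (nat_lit 8264), Mv.b (nat_lit 4633), Mv.f (nat_lit 4263), Mv.f (nat_lit 4397), Mv.f (nat_lit 8293)])))))
(Tr.nd (nat_lit 12113) (Tr.lf (Fc.ed (nat_lit 12112) (nat_lit 4630) Col.f (nat_lit 3218) (Dv.wd (nat_lit 86) [Mv.f (nat_lit 12111), Mv.b (nat_lit 7763), Mv.f (nat_lit 11740)])))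
(Tr.nd (nat_lit 12114) (Tr.lf (Fc.ed (nat_lit 12113) (nat_lit 3892) Col.e (nat_lit 4121) (Dv.wd (nat_lit 133) [Mv.b (nat_lit 10614), Mv.b (nat_lit 6938), Mv.f (nat_lit 6342), Mv.b (nat_lit 6340), Mv.f (nat_lit 8293), Mv.f (nat_lit 12111), Mv.f (nat_lit 7178), Mv.f (nat_lit 4456), Mv.f (nat_lit 3792), Mv.f (nat_lit 9581)])))
(Tr.lf (Fc.ed (nat_lit 12114) (nat_lit 2512) Col.d (nat_lit 2190) (Dv.wd (nat_lit 68) [Mv.b (nat_lit 6516), Mv.b (nat_lit 7119), Mv.f (nat_lit 7120), Mv.b (nat_lit 9582), Mv.f (nat_lit 12113), Mv.b (nat_lit 10614), Mv.f (nat_lit 6939), Mv.f (nat_lit 4289), Mv.b (nat_lit 4263), Mv.f (nat_lit 6762)])))))))))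
(Tr.nd (nat_lit 12135) (Tr.nd (nat_lit 12125) (Tr.nd (nat_lit 12120) (Tr.nd (nat_lit 12117) (Tr.nd (nat_lit 12116) (Tr.lf (Fc.ed (nat_lit 12115) (nat_lit 2379) Col.d (nat_lit 2423) (Dv.wd (nat_lit 58) [Mv.b (nat_lit 6763), Mv.f (nat_lit 12114), Mv.f (nat_lit 6470)])))
(Tr.lf (Fc.ed (nat_lit 12116) (nat_lit 3968) Col.g (nat_lit 2633) (Dv.wd (nat_lit 139) [Mv.f (nat_lit 9407), Mv.f (nat_lit 12109), Mv.b (nat_lit 4665), Mv.b (nat_lit 4633), Mv.f (nat_lit 4788), Mv.b (nat_lit 4790), Mv.b (nat_lit 4789), Mv.b (nat_lit 6775), Mv.f (nat_lit 9754)]))))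
(Tr.nd (nat_lit 12118) (Tr.lf (Fc.ed (nat_lit 12117) (nat_lit 2842) Col.g (nat_lit 3968) (Dv.wd (nat_lit 17) [Mv.f (nat_lit 12116), Mv.f (nat_lit 7494), Mv.f (nat_lit 12103)])))
(Tr.nd (nat_lit 12119) (Tr.lf (Fc.ed (nat_lit 12118) (nat_lit 1445) Col.c (nat_lit 2832) (Dv.wd (nat_lit 115) [Mv.b (nat_lit 12100), Mv.f (nat_lit 12117), Mv.b (nat_lit 12040), Mv.f (nat_lit 6697), Mv.f (nat_lit 3715), Mv.f (nat_lit 3100), Mv.f (nat_lit 3103), Mv.f (nat_lit 3776), Mv.f (nat_lit 4551), Mv.b (nat_lit 12091)])))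
(Tr.lf (Fc.ed (nat_lit 12119) (nat_lit 365) Col.gi (nat_lit 974) (Dv.wd (nat_lit 100) [Mv.b (nat_lit 12093), Mv.f (nat_lit 12118), Mv.f (nat_lit 12096), Mv.f (nat_lit 6697), Mv.b (nat_lit 3714), Mv.f (nat_lit 1280), Mv.b (nat_lit 305), Mv.f (nat_lit 116), Mv.f (nat_lit 25), Mv.f (nat_lit 870)]))))))
(Tr.nd (nat_lit 12122) (Tr.nd (nat_lit 12121) (Tr.lf (Fc.ed (nat_lit 12120) (nat_lit 974) Col.gi (nat_lit 707) (Dv.wd (nat_lit 24) [Mv.f (nat_lit 2077), Mv.f (nat_lit 2076), Mv.f (nat_lit 12119)])))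
(Tr.lf (Fc.ed (nat_lit 12121) (nat_lit 1382) Col.d (nat_lit 3753) (Dv.wd (nat_lit 51) [Mv.f (nat_lit 9345), Mv.b (nat_lit 5705), Mv.b (nat_lit 1802), Mv.b (nat_lit 1810), Mv.f (nat_lit 12119), Mv.b (nat_lit 3062), Mv.b (nat_lit 1047), Mv.f (nat_lit 2294), Mv.f (nat_lit 4198)]))))
(Tr.nd (nat_lit 12123) (Tr.lf (Fc.ed (nat_lit 12122) (nat_lit 1282) Col.d (nat_lit 1962) (Dv.wd (nat_lit 53) [Mv.b (nat_lit 5501), Mv.b (nat_lit 2128), Mv.f (nat_lit 1811), Mv.b (nat_lit 1810), Mv.f (nat_lit 12119), Mv.b (nat_lit 3062), Mv.b (nat_lit 1047), Mv.b (nat_lit 1815), Mv.f (nat_lit 1988), Mv.b (nat_lit 3917)])))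
(Tr.nd (nat_lit 12124) (Tr.lf (Fc.ed (nat_lit 12123) (nat_lit 2022) Col.d (nat_lit 2306) (Dv.wd (nat_lit 28) [Mv.f (nat_lit 6310), Mv.f (nat_lit 12122), Mv.b (nat_lit 5625)])))
(Tr.lf (Fc.ed (nat_lit 12124) (nat_lit 3253) Col.d (nat_lit 1489) (Dv.wd (nat_lit 90) [Mv.f (nat_lit 4476), Mv.f (nat_lit 12122), Mv.b (nat_lit 8362)])))))))
(Tr.nd (nat_lit 12130) (Tr.nd (nat_lit 12127) (Tr.nd (nat_lit 12126) (Tr.lf (Fc.ed (nat_lit 12125) (nat_lit 3835) Col.c (nat_lit 4011) (Dv.wd (nat_lit 14) [Mv.b (nat_lit 9821), Mv.b (nat_lit 9446), Mv.b (nat_lit 6468), Mv.f (nat_lit 4979), Mv.b (nat_lit 1185), Mv.f (nat_lit 1988), Mv.b (nat_lit 3917), Mv.f (nat_lit 12122), Mv.b (nat_lit 9493)])))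
(Tr.lf (Fc.ed (nat_lit 12126) (nat_lit 1369) Col.d (nat_lit 3655) (Dv.wd (nat_lit 60) [Mv.f (nat_lit 9153), Mv.b (nat_lit 2429), Mv.f (nat_lit 2144), Mv.f (nat_lit 3916), Mv.f (nat_lit 12122), Mv.b (nat_lit 5501), Mv.f (nat_lit 2129), Mv.f (nat_lit 1817), Mv.f (nat_lit 3051), Mv.f (nat_lit 4169)]))))
(Tr.nd (nat_lit 12128) (Tr.lf (Fc.ed (nat_lit 12127) (nat_lit 4407) Col.d (nat_lit 4408) (Dv.wd (nat_lit 58) [Mv.b (nat_lit 11339), Mv.f (nat_lit 12126), Mv.f (nat_lit 11337)])))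
(Tr.nd (nat_lit 12129) (Tr.lf (Fc.ed (nat_lit 12128) (nat_lit 1420) Col.d (nat_lit 2302) (Dv.wd (nat_lit 28) [Mv.b (nat_lit 8361), Mv.f (nat_lit 12124), Mv.b (nat_lit 4475)])))
(Tr.lf (Fc.ed (nat_lit 12129) (nat_lit 4271) Col.d (nat_lit 4434) (Dv.wd (nat_lit 58) [Mv.b (nat_lit 11387), Mv.f (nat_lit 12128), Mv.b (nat_lit 10989)]))))))
(Tr.nd (nat_lit 12132) (Tr.nd (nat_lit 12131) (Tr.lf (Fc.ed (nat_lit 12130) (nat_lit 4533) Col.d (nat_lit 4037) (Dv.wd (nat_lit 90) [Mv.f (nat_lit 10988), Mv.f (nat_lit 12129), Mv.f (nat_lit 11559)])))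
(Tr.lf (Fc.ed (nat_lit 12131) (nat_lit 1086) Col.e (nat_lit 3810) (Dv.wd (nat_lit 47) [Mv.b (nat_lit 9446), Mv.b (nat_lit 6468), Mv.f (nat_lit 4979), Mv.b (nat_lit 2296), Mv.f (nat_lit 4198), Mv.f (nat_lit 12121), Mv.f (nat_lit 9345), Mv.b (nat_lit 5705), Mv.b (nat_lit 1312), Mv.b (nat_lit 3355)]))))
(Tr.nd (nat_lit 12133) (Tr.lf (Fc.ed (nat_lit 12132) (nat_lit 3810) Col.c (nat_lit 4120) (Dv.wd (nat_lit 18) [Mv.b (nat_lit 10613), Mv.f (nat_lit 6682), Mv.f (nat_lit 12131)])))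
(Tr.nd (nat_lit 12134) (Tr.lf (Fc.ed (nat_lit 12133) (nat_lit 4153) Col.gi (nat_lit 4239) (Dv.wd (nat_lit 111) [Mv.b (nat_lit 10910), Mv.f (nat_lit 10725), Mv.b (nat_lit 4757), Mv.f (nat_lit 3859), Mv.f (nat_lit 3890), Mv.b (nat_lit 6469), Mv.f (nat_lit 9446), Mv.f (nat_lit 12132), Mv.f (nat_lit 10730)])))
(Tr.lf (Fc.ed (nat_lit 12134) (nat_lit 4153) Col.c (nat_lit 3404) (Dv.wd (nat_lit 32) [Mv.b (nat_lit 8673), Mv.f (nat_lit 5575), Mv.b (nat_lit 4294), Mv.f (nat_lit 12128), Mv.f (nat_lit 9492), Mv.f (nat_lit 12125), Mv.b (nat_lit 9821), Mv.f (nat_lit 12132), Mv.f (nat_lit 10730)]))))))))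
(Tr.nd (nat_lit 12145) (Tr.nd (nat_lit 12140) (Tr.nd (nat_lit 12137) (Tr.nd (nat_lit 12136) (Tr.lf (Fc.ed (nat_lit 12135) (nat_lit 1824) Col.a (nat_lit 3104) (Dv.wd (nat_lit 15) [Mv.b (nat_lit 8064), Mv.f (nat_lit 7379), Mv.f (nat_lit 12088)])))
(Tr.lf (Fc.ed (nat_lit 12136) (nat_lit 3104) Col.d (nat_lit 4192) (Dv.wd (nat_lit 28) [Mv.b (nat_lit 10824), Mv.b (nat_lit 10631), Mv.f (nat_lit 12135)]))))
(Tr.nd (nat_lit 12138) (Tr.lf (Fc.ed (nat_lit 12137) (nat_lit 3104) Col.b (nat_lit 3393) (Dv.wd (nat_lit 65) [Mv.b (nat_lit 8647), Mv.f (nat_lit 6158), Mv.b (nat_lit 5204), Mv.b (nat_lit 5218), Mv.f (nat_lit 12135)])))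
(Tr.nd (nat_lit 12139) (Tr.lf (Fc.ed (nat_lit 12138) (nat_lit 3393) Col.e (nat_lit 2344) (Dv.wd (nat_lit 52) [Mv.f (nat_lit 7378), Mv.f (nat_lit 8064), Mv.f (nat_lit 12137)])))
(Tr.lf (Fc.ed (nat_lit 12139) (nat_lit 2564) Col.a (nat_lit 2516) (Dv.wd (nat_lit 114) [Mv.f (nat_lit 12072), Mv.f (nat_lit 6775), Mv.f (nat_lit 12081)]))))))
(Tr.nd (nat_lit 12142) (Tr.nd (nat_lit 12141) (Tr.lf (Fc.ed (nat_lit 12140) (nat_lit 3968) Col.a (nat_lit 4334) (Dv.wd (nat_lit 54) [Mv.b (nat_lit 11124), Mv.f (nat_lit 12139), Mv.f (nat_lit 9754)])))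
(Tr.lf (Fc.ed (nat_lit 12141) (nat_lit 3582) Col.b (nat_lit 4090) (Dv.wd (nat_lit 49) [Mv.b (nat_lit 9963), Mv.b (nat_lit 12040), Mv.f (nat_lit 12060)]))))
(Tr.nd (nat_lit 12143) (Tr.lf (Fc.ed (nat_lit 12142) (nat_lit 4090) Col.f (nat_lit 3329) (Dv.wd (nat_lit 20) [Mv.f (nat_lit 9133), Mv.b (nat_lit 12034), Mv.f (nat_lit 12141)])))
(Tr.nd (nat_lit 12144) (Tr.lf (Fc.ed (nat_lit 12143) (nat_lit 4230) Col.a (nat_lit 4090) (Dv.wd (nat_lit 114) [Mv.f (nat_lit 12142), Mv.b (nat_lit 8513), Mv.f (nat_lit 10896)])))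
(Tr.lf (Fc.ed (nat_lit 12144) (nat_lit 4334) Col.e (nat_lit 4230) (Dv.wd (nat_lit 72) [Mv.f (nat_lit 12143), Mv.b (nat_lit 9963), Mv.f (nat_lit 12140)])))))))
(Tr.nd (nat_lit 12150) (Tr.nd (nat_lit 12147) (Tr.nd (nat_lit 12146) (Tr.lf (Fc.ed (nat_lit 12145) (nat_lit 4125) Col.e (nat_lit 2617) (Dv.wd (nat_lit 56) [Mv.f (nat_lit 7000), Mv.f (nat_lit 12054), Mv.f (nat_lit 10620)])))
(Tr.lf (Fc.ed (nat_lit 12146) (nat_lit 1873) Col.d (nat_lit 4074) (Dv.wd (nat_lit 53) [Mv.b (nat_lit 9938), Mv.b (nat_lit 7685), Mv.b (nat_lit 4221), Mv.b (nat_lit 3625), Mv.b (nat_lit 3715), Mv.f (nat_lit 12038), Mv.f (nat_lit 3907), Mv.b (nat_lit 2097), Mv.f (nat_lit 2096), Mv.b (nat_lit 5320)]))))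
(Tr.nd (nat_lit 12148) (Tr.lf (Fc.ed (nat_lit 12147) (nat_lit 4391) Col.d (nat_lit 2317) (Dv.wd (nat_lit 90) [Mv.b (nat_lit 6330), Mv.f (nat_lit 12146), Mv.f (nat_lit 11302)])))
(Tr.nd (nat_lit 12149) (Tr.lf (Fc.ed (nat_lit 12148) (nat_lit 1936) Col.d (nat_lit 4452) (Dv.wd (nat_lit 28) [Mv.b (nat_lit 11418), Mv.f (nat_lit 12147), Mv.f (nat_lit 6331)])))
(Tr.lf (Fc.ed (nat_lit 12149) (nat_lit 2104) Col.b (nat_lit 3976) (Dv.wd (nat_lit 37) [Mv.b (nat_lit 9768), Mv.f (nat_lit 5399), Mv.f (nat_lit 12035)]))))))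
(Tr.nd (nat_lit 12153) (Tr.nd (nat_lit 12151) (Tr.lf (Fc.ed (nat_lit 12150) (nat_lit 3976) Col.a (nat_lit 4223) (Dv.wd (nat_lit 54) [Mv.b (nat_lit 10883), Mv.f (nat_lit 12031), Mv.f (nat_lit 9768)])))
(Tr.nd (nat_lit 12152) (Tr.lf (Fc.ed (nat_lit 12151) (nat_lit 4223) Col.f (nat_lit 4276) (Dv.wd (nat_lit 10) [Mv.b (nat_lit 10999), Mv.b (nat_lit 9882), Mv.f (nat_lit 12150)])))
(Tr.lf (Fc.ed (nat_lit 12152) (nat_lit 4276) Col.d (nat_lit 3643) (Dv.wd (nat_lit 21) [Mv.b (nat_lit 12034), Mv.f (nat_lit 10883), Mv.f (nat_lit 12151)])))))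
(Tr.nd (nat_lit 12154) (Tr.lf (Fc.ed (nat_lit 12153) (nat_lit 3704) Col.e (nat_lit 3819) (Dv.wd (nat_lit 52) [Mv.b (nat_lit 9463), Mv.f (nat_lit 12013), Mv.f (nat_lit 9251)])))
(Tr.nd (nat_lit 12155) (Tr.lf (Fc.ed (nat_lit 12154) (nat_lit 3035) Col.e (nat_lit 1767) (Dv.wd (nat_lit 25) [Mv.f (nat_lit 10092), Mv.f (nat_lit 12013), Mv.b (nat_lit 7898)])))
(Tr.lf (Fc.ed (nat_lit 12155) (nat_lit 4078) Col.d (nat_lit 3239) (Dv.wd (nat_lit 36) [Mv.b (nat_lit 10348), Mv.f (nat_lit 10347), Mv.f (nat_lit 12013), Mv.b (nat_lit 10132), Mv.f (nat_lit 9943)]))))))))))))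
(Tr.nd (nat_lit 12320) (Tr.nd (nat_lit 12238) (Tr.nd (nat_lit 12197) (Tr.nd (nat_lit 12176) (Tr.nd (nat_lit 12166) (Tr.nd (nat_lit 12161) (Tr.nd (nat_lit 12158) (Tr.nd (nat_lit 12157) (Tr.lf (Fc.ed (nat_lit 12156) (nat_lit 3244) Col.e (nat_lit 2960) (Dv.wd (nat_lit 56) [Mv.f (nat_lit 11959), Mv.f (nat_lit 12154), Mv.b (nat_lit 10093)])))
(Tr.lf (Fc.ed (nat_lit 12157) (nat_lit 1720) Col.e (nat_lit 2840) (Dv.wd (nat_lit 52) [Mv.f (nat_lit 7897), Mv.f (nat_lit 12154), Mv.b (nat_lit 5107)]))))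
(Tr.nd (nat_lit 12159) (Tr.lf (Fc.ed (nat_lit 12158) (nat_lit 2105) Col.e (nat_lit 3200) (Dv.wd (nat_lit 57) [Mv.b (nat_lit 8260), Mv.f (nat_lit 12154), Mv.b (nat_lit 10365), Mv.b (nat_lit 10521), Mv.b (nat_lit 10519)])))
(Tr.nd (nat_lit 12160) (Tr.lf (Fc.ed (nat_lit 12159) (nat_lit 3837) Col.c (nat_lit 1720) (Dv.wd (nat_lit 109) [Mv.f (nat_lit 12157), Mv.f (nat_lit 8958), Mv.f (nat_lit 9495)])))
(Tr.lf (Fc.ed (nat_lit 12160) (nat_lit 1908) Col.e (nat_lit 2719) (Dv.wd (nat_lit 131) [Mv.b (nat_lit 7225), Mv.b (nat_lit 3992), Mv.b (nat_lit 6274), Mv.f (nat_lit 10428), Mv.f (nat_lit 12157), Mv.f (nat_lit 7492), Mv.f (nat_lit 7065), Mv.f (nat_lit 7064), Mv.b (nat_lit 6389), Mv.b (nat_lit 10505)]))))))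
(Tr.nd (nat_lit 12163) (Tr.nd (nat_lit 12162) (Tr.lf (Fc.ed (nat_lit 12161) (nat_lit 1979) Col.e (nat_lit 3122) (Dv.wd (nat_lit 133) [Mv.b (nat_lit 10322), Mv.f (nat_lit 5947), Mv.b (nat_lit 4934), Mv.b (nat_lit 4997), Mv.f (nat_lit 12157), Mv.f (nat_lit 10200), Mv.b (nat_lit 6011), Mv.b (nat_lit 2891), Mv.f (nat_lit 10091), Mv.b (nat_lit 8068)])))
(Tr.lf (Fc.ed (nat_lit 12162) (nat_lit 2048) Col.d (nat_lit 2198) (Dv.wd (nat_lit 27) [Mv.b (nat_lit 6076), Mv.b (nat_lit 4908), Mv.b (nat_lit 4935), Mv.b (nat_lit 4997), Mv.f (nat_lit 12157), Mv.f (nat_lit 10200), Mv.b (nat_lit 6011), Mv.b (nat_lit 2891), Mv.f (nat_lit 7902), Mv.b (nat_lit 10411)]))))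
(Tr.nd (nat_lit 12164) (Tr.lf (Fc.ed (nat_lit 12163) (nat_lit 2719) Col.a (nat_lit 2840) (Dv.wd (nat_lit 31) [Mv.b (nat_lit 12157), Mv.b (nat_lit 10504), Mv.f (nat_lit 12160)])))
(Tr.nd (nat_lit 12165) (Tr.lf (Fc.ed (nat_lit 12164) (nat_lit 3549) Col.a (nat_lit 2734) (Dv.wd (nat_lit 76) [Mv.b (nat_lit 7257), Mv.f (nat_lit 12163), Mv.f (nat_lit 8958)])))
(Tr.lf (Fc.al (nat_lit 12165) (nat_lit 3110) (nat_lit 1819) (Dv.wd (nat_lit 97) [Mv.f (nat_lit 11334), Mv.f (nat_lit 12163), Mv.f (nat_lit 10200), Mv.f (nat_lit 8077)])))))))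
(Tr.nd (nat_lit 12171) (Tr.nd (nat_lit 12168) (Tr.nd (nat_lit 12167) (Tr.lf (Fc.al (nat_lit 12166) (nat_lit 2740) (nat_lit 2142) (Dv.wd (nat_lit 30) [Mv.b (nat_lit 8078), Mv.f (nat_lit 12165), Mv.b (nat_lit 7270)])))
(Tr.lf (Fc.al (nat_lit 12167) (nat_lit 3586) (nat_lit 1992) (Dv.wd (nat_lit 29) [Mv.f (nat_lit 7269), Mv.f (nat_lit 12166), Mv.b (nat_lit 9030)]))))
(Tr.nd (nat_lit 12169) (Tr.lf (Fc.ed (nat_lit 12168) (nat_lit 2142) Col.e (nat_lit 4667) (Dv.wd (nat_lit 117) [Mv.f (nat_lit 11806), Mv.f (nat_lit 12166)])))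
(Tr.nd (nat_lit 12170) (Tr.lf (Fc.ed (nat_lit 12169) (nat_lit 1992) Col.a (nat_lit 2142) (Dv.wd (nat_lit 29) [Mv.b (nat_lit 9030), Mv.f (nat_lit 12167)])))
(Tr.lf (Fc.ed (nat_lit 12170) (nat_lit 3122) Col.f (nat_lit 2719) (Dv.wd (nat_lit 13) [Mv.f (nat_lit 12163), Mv.b (nat_lit 7491), Mv.b (nat_lit 8099)]))))))
(Tr.nd (nat_lit 12173) (Tr.nd (nat_lit 12172) (Tr.lf (Fc.ed (nat_lit 12171) (nat_lit 2840) Col.f (nat_lit 2680) (Dv.wd (nat_lit 10) [Mv.b (nat_lit 7144), Mv.b (nat_lit 7226), Mv.f (nat_lit 12163)])))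
(Tr.lf (Fc.ed (nat_lit 12172) (nat_lit 4042) Col.b (nat_lit 2719) (Dv.wd (nat_lit 108) [Mv.f (nat_lit 12163), Mv.f (nat_lit 7897), Mv.b (nat_lit 11959), Mv.f (nat_lit 7742), Mv.f (nat_lit 11998)]))))
(Tr.nd (nat_lit 12174) (Tr.lf (Fc.ed (nat_lit 12173) (nat_lit 3122) Col.a (nat_lit 2680) (Dv.wd (nat_lit 79) [Mv.b (nat_lit 12171), Mv.b (nat_lit 12163), Mv.b (nat_lit 12170)])))
(Tr.nd (nat_lit 12175) (Tr.lf (Fc.ed (nat_lit 12174) (nat_lit 2680) Col.d (nat_lit 1992) (Dv.wd (nat_lit 28) [Mv.f (nat_lit 12169), Mv.f (nat_lit 10322), Mv.f (nat_lit 12173)])))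
(Tr.lf (Fc.ed (nat_lit 12175) (nat_lit 2680) Col.e (nat_lit 2007) (Dv.wd (nat_lit 56) [Mv.f (nat_lit 10532), Mv.f (nat_lit 12161), Mv.f (nat_lit 12173)]))))))))
(Tr.nd (nat_lit 12186) (Tr.nd (nat_lit 12181) (Tr.nd (nat_lit 12178) (Tr.nd (nat_lit 12177) (Tr.lf (Fc.al (nat_lit 12176) (nat_lit 2848) (nat_lit 3480) (Dv.wd (nat_lit 159) [Mv.f (nat_lit 9342), Mv.f (nat_lit 12000), Mv.b (nat_lit 11952), Mv.f (nat_lit 12173), Mv.f (nat_lit 7190), Mv.f (nat_lit 7506)])))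
(Tr.lf (Fc.al (nat_lit 12177) (nat_lit 2702) (nat_lit 3200) (Dv.wd (nat_lit 29) [Mv.b (nat_lit 8821), Mv.b (nat_lit 12176), Mv.b (nat_lit 7506)]))))
(Tr.nd (nat_lit 12179) (Tr.lf (Fc.ed (nat_lit 12178) (nat_lit 2848) Col.b (nat_lit 3752) (Dv.wd (nat_lit 119) [Mv.b (nat_lit 9342), Mv.b (nat_lit 12176)])))
(Tr.nd (nat_lit 12180) (Tr.lf (Fc.ed (nat_lit 12179) (nat_lit 2848) Col.d (nat_lit 3757) (Dv.wd (nat_lit 120) [Mv.b (nat_lit 9350), Mv.b (nat_lit 12176)])))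
(Tr.lf (Fc.ed (nat_lit 12180) (nat_lit 2702) Col.e (nat_lit 2105) (Dv.wd (nat_lit 117) [Mv.f (nat_lit 12158), Mv.b (nat_lit 12177)]))))))
(Tr.nd (nat_lit 12183) (Tr.nd (nat_lit 12182) (Tr.lf (Fc.ed (nat_lit 12181) (nat_lit 2702) Col.f (nat_lit 3035) (Dv.wd (nat_lit 30) [Mv.f (nat_lit 8260), Mv.b (nat_lit 12177)])))
(Tr.lf (Fc.ed (nat_lit 12182) (nat_lit 3035) Col.g (nat_lit 3877) (Dv.wd (nat_lit 17) [Mv.b (nat_lit 9558), Mv.b (nat_lit 7506), Mv.f (nat_lit 12181)]))))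
(Tr.nd (nat_lit 12184) (Tr.lf (Fc.ed (nat_lit 12183) (nat_lit 3877) Col.d (nat_lit 3888) (Dv.wd (nat_lit 51) [Mv.b (nat_lit 9574), Mv.f (nat_lit 10416), Mv.b (nat_lit 8341), Mv.b (nat_lit 10355), Mv.f (nat_lit 3293), Mv.b (nat_lit 2010), Mv.f (nat_lit 4431), Mv.b (nat_lit 7898), Mv.f (nat_lit 12182)])))
(Tr.nd (nat_lit 12185) (Tr.lf (Fc.ed (nat_lit 12184) (nat_lit 3883) Col.d (nat_lit 3941) (Dv.wd (nat_lit 62) [Mv.f (nat_lit 10566), Mv.b (nat_lit 10568), Mv.b (nat_lit 10362), Mv.b (nat_lit 3174), Mv.f (nat_lit 2961), Mv.b (nat_lit 4432), Mv.b (nat_lit 7898), Mv.f (nat_lit 12182), Mv.f (nat_lit 9568)])))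
(Tr.lf (Fc.ed (nat_lit 12185) (nat_lit 2960) Col.g (nat_lit 3883) (Dv.wd (nat_lit 145) [Mv.f (nat_lit 12184), Mv.b (nat_lit 9706), Mv.f (nat_lit 10424), Mv.f (nat_lit 10092), Mv.b (nat_lit 10347), Mv.b (nat_lit 10361), Mv.f (nat_lit 2865), Mv.f (nat_lit 2391), Mv.f (nat_lit 7741)])))))))
(Tr.nd (nat_lit 12191) (Tr.nd (nat_lit 12188) (Tr.nd (nat_lit 12187) (Tr.lf (Fc.ed (nat_lit 12186) (nat_lit 3877) Col.b (nat_lit 1961) (Dv.wd (nat_lit 106) [Mv.f (nat_lit 5499), Mv.b (nat_lit 3120), Mv.b (nat_lit 848), Mv.f (nat_lit 35), Mv.b (nat_lit 444), Mv.b (nat_lit 984), Mv.b (nat_lit 2392), Mv.f (nat_lit 7741), Mv.f (nat_lit 12185), Mv.b (nat_lit 9568)])))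
(Tr.lf (Fc.ed (nat_lit 12187) (nat_lit 3704) Col.gi (nat_lit 3624) (Dv.wd (nat_lit 157) [Mv.b (nat_lit 9094), Mv.b (nat_lit 9164), Mv.b (nat_lit 9728), Mv.f (nat_lit 10209), Mv.b (nat_lit 12178), Mv.f (nat_lit 9558), Mv.f (nat_lit 12186), Mv.b (nat_lit 5498), Mv.b (nat_lit 8830), Mv.b (nat_lit 9253)]))))
(Tr.nd (nat_lit 12189) (Tr.lf (Fc.ed (nat_lit 12188) (nat_lit 2077) Col.d (nat_lit 2702) (Dv.wd (nat_lit 58) [Mv.b (nat_lit 7190), Mv.f (nat_lit 12174), Mv.f (nat_lit 5735)])))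
(Tr.nd (nat_lit 12190) (Tr.lf (Fc.ed (nat_lit 12189) (nat_lit 3757) Col.a (nat_lit 2077) (Dv.wd (nat_lit 54) [Mv.f (nat_lit 12188), Mv.f (nat_lit 7506), Mv.f (nat_lit 12179)])))
(Tr.lf (Fc.ed (nat_lit 12190) (nat_lit 3666) Col.f (nat_lit 2077) (Dv.wd (nat_lit 86) [Mv.f (nat_lit 12188), Mv.f (nat_lit 12181), Mv.b (nat_lit 10198)]))))))
(Tr.nd (nat_lit 12194) (Tr.nd (nat_lit 12192) (Tr.lf (Fc.ed (nat_lit 12191) (nat_lit 3911) Col.d (nat_lit 3904) (Dv.wd (nat_lit 68) [Mv.b (nat_lit 9602), Mv.f (nat_lit 12188), Mv.f (nat_lit 12180), Mv.b (nat_lit 10527), Mv.b (nat_lit 10373), Mv.f (nat_lit 10498), Mv.b (nat_lit 9503), Mv.f (nat_lit 9753), Mv.b (nat_lit 12156), Mv.b (nat_lit 10497)])))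
(Tr.nd (nat_lit 12193) (Tr.lf (Fc.ed (nat_lit 12192) (nat_lit 3904) Col.b (nat_lit 3964) (Dv.wd (nat_lit 37) [Mv.f (nat_lit 10306), Mv.f (nat_lit 9616), Mv.f (nat_lit 12191)])))
(Tr.lf (Fc.ed (nat_lit 12193) (nat_lit 3904) Col.c (nat_lit 4474) (Dv.wd (nat_lit 80) [Mv.b (nat_lit 11453), Mv.b (nat_lit 11984), Mv.b (nat_lit 11528), Mv.b (nat_lit 11982), Mv.b (nat_lit 10145), Mv.f (nat_lit 10097), Mv.f (nat_lit 10098), Mv.b (nat_lit 10238), Mv.f (nat_lit 12191)])))))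
(Tr.nd (nat_lit 12195) (Tr.lf (Fc.ed (nat_lit 12194) (nat_lit 3904) Col.gi (nat_lit 3792) (Dv.wd (nat_lit 50) [Mv.b (nat_lit 9415), Mv.b (nat_lit 8355), Mv.f (nat_lit 5398), Mv.f (nat_lit 8559), Mv.f (nat_lit 10468), Mv.b (nat_lit 6148), Mv.f (nat_lit 10211), Mv.b (nat_lit 10333), Mv.f (nat_lit 12191)])))
(Tr.nd (nat_lit 12196) (Tr.lf (Fc.al (nat_lit 12195) (nat_lit 2734) (nat_lit 3668) (Dv.wd (nat_lit 26) [Mv.b (nat_lit 9174), Mv.b (nat_lit 8617), Mv.f (nat_lit 12170), Mv.f (nat_lit 7257)])))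
(Tr.lf (Fc.ed (nat_lit 12196) (nat_lit 2734) Col.b (nat_lit 3465) (Dv.wd (nat_lit 119) [Mv.b (nat_lit 9175), Mv.b (nat_lit 12195)])))))))))
(Tr.nd (nat_lit 12217) (Tr.nd (nat_lit 12207) (Tr.nd (nat_lit 12202) (Tr.nd (nat_lit 12199) (Tr.nd (nat_lit 12198) (Tr.lf (Fc.ed (nat_lit 12197) (nat_lit 3942) Col.c (nat_lit 4042) (Dv.wd (nat_lit 121) [Mv.f (nat_lit 12172), Mv.f (nat_lit 7257), Mv.f (nat_lit 12196), Mv.b (nat_lit 9195), Mv.f (nat_lit 9707)])))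
(Tr.lf (Fc.ed (nat_lit 12198) (nat_lit 3465) Col.g (nat_lit 976) (Dv.wd (nat_lit 122) [Mv.f (nat_lit 3415), Mv.b (nat_lit 3417), Mv.f (nat_lit 5494), Mv.b (nat_lit 6507), Mv.b (nat_lit 6506), Mv.f (nat_lit 6463), Mv.b (nat_lit 6782), Mv.b (nat_lit 7226), Mv.f (nat_lit 7257), Mv.f (nat_lit 12196)]))))
(Tr.nd (nat_lit 12200) (Tr.lf (Fc.ed (nat_lit 12199) (nat_lit 3465) Col.gi (nat_lit 987) (Dv.wd (nat_lit 100) [Mv.b (nat_lit 3093), Mv.f (nat_lit 1053), Mv.b (nat_lit 424), Mv.f (nat_lit 2256), Mv.f (nat_lit 2257), Mv.f (nat_lit 3429), Mv.f (nat_lit 3968), Mv.f (nat_lit 7225), Mv.f (nat_lit 7257), Mv.f (nat_lit 12196)])))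
(Tr.nd (nat_lit 12201) (Tr.lf (Fc.al (nat_lit 12200) (nat_lit 2819) (nat_lit 1918) (Dv.wd (nat_lit 23) [Mv.b (nat_lit 8791), Mv.f (nat_lit 12199), Mv.b (nat_lit 5495), Mv.f (nat_lit 7447)])))
(Tr.lf (Fc.al (nat_lit 12201) (nat_lit 2824) (nat_lit 3436) (Dv.wd (nat_lit 103) [Mv.b (nat_lit 8739), Mv.f (nat_lit 12200), Mv.f (nat_lit 7456)]))))))
(Tr.nd (nat_lit 12204) (Tr.nd (nat_lit 12203) (Tr.lf (Fc.al (nat_lit 12202) (nat_lit 2450) (nat_lit 1959) (Dv.wd (nat_lit 30) [Mv.f (nat_lit 7447), Mv.f (nat_lit 12200), Mv.f (nat_lit 6614)])))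
(Tr.lf (Fc.ed (nat_lit 12203) (nat_lit 2824) Col.g (nat_lit 3999) (Dv.wd (nat_lit 129) [Mv.f (nat_lit 9802), Mv.b (nat_lit 12201)]))))
(Tr.nd (nat_lit 12205) (Tr.lf (Fc.ed (nat_lit 12204) (nat_lit 2824) Col.f (nat_lit 2401) (Dv.wd (nat_lit 30) [Mv.b (nat_lit 8740), Mv.b (nat_lit 12201)])))
(Tr.nd (nat_lit 12206) (Tr.lf (Fc.ed (nat_lit 12205) (nat_lit 1959) Col.a (nat_lit 1878) (Dv.wd (nat_lit 29) [Mv.b (nat_lit 6615), Mv.f (nat_lit 12202)])))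
(Tr.lf (Fc.ed (nat_lit 12206) (nat_lit 1959) Col.b (nat_lit 3577) (Dv.wd (nat_lit 119) [Mv.b (nat_lit 9012), Mv.f (nat_lit 12202)])))))))
(Tr.nd (nat_lit 12212) (Tr.nd (nat_lit 12209) (Tr.nd (nat_lit 12208) (Tr.lf (Fc.ed (nat_lit 12207) (nat_lit 1959) Col.f (nat_lit 1918) (Dv.wd (nat_lit 30) [Mv.f (nat_lit 6614), Mv.f (nat_lit 12202)])))
(Tr.lf (Fc.ed (nat_lit 12208) (nat_lit 2238) Col.gi (nat_lit 3942) (Dv.wd (nat_lit 157) [Mv.b (nat_lit 9707), Mv.f (nat_lit 9195), Mv.f (nat_lit 12199), Mv.f (nat_lit 3095), Mv.f (nat_lit 2893), Mv.b (nat_lit 1539), Mv.f (nat_lit 1880), Mv.b (nat_lit 2210), Mv.b (nat_lit 4801), Mv.f (nat_lit 6147)]))))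
(Tr.nd (nat_lit 12210) (Tr.lf (Fc.ed (nat_lit 12209) (nat_lit 3942) Col.gi (nat_lit 3662) (Dv.wd (nat_lit 24) [Mv.f (nat_lit 9378), Mv.f (nat_lit 9379), Mv.f (nat_lit 12208)])))
(Tr.nd (nat_lit 12211) (Tr.lf (Fc.ed (nat_lit 12210) (nat_lit 4000) Col.gi (nat_lit 2401) (Dv.wd (nat_lit 102) [Mv.f (nat_lit 6507), Mv.b (nat_lit 5494), Mv.f (nat_lit 3415), Mv.b (nat_lit 3417), Mv.b (nat_lit 12198), Mv.b (nat_lit 9195), Mv.f (nat_lit 9707), Mv.f (nat_lit 12209), Mv.b (nat_lit 9404), Mv.f (nat_lit 9803)])))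
(Tr.lf (Fc.ed (nat_lit 12211) (nat_lit 3679) Col.gi (nat_lit 4000) (Dv.wd (nat_lit 12) [Mv.f (nat_lit 12210), Mv.b (nat_lit 12204), Mv.f (nat_lit 9194)]))))))
(Tr.nd (nat_lit 12214) (Tr.nd (nat_lit 12213) (Tr.lf (Fc.ed (nat_lit 12212) (nat_lit 1878) Col.c (nat_lit 3658) (Dv.wd (nat_lit 33) [Mv.b (nat_lit 9158), Mv.f (nat_lit 6507), Mv.f (nat_lit 12205)])))
(Tr.lf (Fc.ed (nat_lit 12213) (nat_lit 3658) Col.f (nat_lit 3679) (Dv.wd (nat_lit 26) [Mv.f (nat_lit 9195), Mv.b (nat_lit 8790), Mv.f (nat_lit 12212)]))))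
(Tr.nd (nat_lit 12215) (Tr.lf (Fc.ed (nat_lit 12214) (nat_lit 3830) Col.c (nat_lit 3833) (Dv.wd (nat_lit 93) [Mv.b (nat_lit 11952), Mv.f (nat_lit 8617), Mv.f (nat_lit 8618), Mv.f (nat_lit 12212), Mv.f (nat_lit 9485)])))
(Tr.nd (nat_lit 12216) (Tr.lf (Fc.ed (nat_lit 12215) (nat_lit 3830) Col.g (nat_lit 2959) (Dv.wd (nat_lit 118) [Mv.b (nat_lit 7740), Mv.f (nat_lit 5605), Mv.f (nat_lit 2206), Mv.f (nat_lit 2208), Mv.f (nat_lit 1435), Mv.f (nat_lit 2881), Mv.b (nat_lit 2967), Mv.f (nat_lit 5329), Mv.f (nat_lit 12212), Mv.f (nat_lit 9485)])))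
(Tr.lf (Fc.ed (nat_lit 12216) (nat_lit 3599) Col.g (nat_lit 3241) (Dv.wd (nat_lit 118) [Mv.b (nat_lit 8331), Mv.b (nat_lit 7034), Mv.b (nat_lit 7063), Mv.f (nat_lit 7062), Mv.f (nat_lit 8098), Mv.f (nat_lit 11952), Mv.b (nat_lit 12214), Mv.f (nat_lit 12215), Mv.b (nat_lit 7740), Mv.f (nat_lit 9053)]))))))))
(Tr.nd (nat_lit 12227) (Tr.nd (nat_lit 12222) (Tr.nd (nat_lit 12219) (Tr.nd (nat_lit 12218) (Tr.lf (Fc.ed (nat_lit 12217) (nat_lit 3952) Col.a (nat_lit 3830) (Dv.wd (nat_lit 76) [Mv.f (nat_lit 12214), Mv.b (nat_lit 12000), Mv.b (nat_lit 10209)])))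
(Tr.lf (Fc.ed (nat_lit 12218) (nat_lit 3803) Col.g (nat_lit 3830) (Dv.wd (nat_lit 105) [Mv.f (nat_lit 12214), Mv.b (nat_lit 11952), Mv.f (nat_lit 8099), Mv.b (nat_lit 3988), Mv.b (nat_lit 846), Mv.f (nat_lit 322), Mv.f (nat_lit 458), Mv.f (nat_lit 2090), Mv.b (nat_lit 4555), Mv.b (nat_lit 9433)]))))
(Tr.nd (nat_lit 12220) (Tr.lf (Fc.ed (nat_lit 12219) (nat_lit 3999) Col.c (nat_lit 4015) (Dv.wd (nat_lit 115) [Mv.f (nat_lit 9828), Mv.f (nat_lit 12218), Mv.b (nat_lit 9485), Mv.b (nat_lit 12212), Mv.f (nat_lit 5330), Mv.b (nat_lit 5365), Mv.f (nat_lit 5367), Mv.f (nat_lit 5407), Mv.f (nat_lit 7456), Mv.f (nat_lit 12203)])))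
(Tr.nd (nat_lit 12221) (Tr.lf (Fc.ed (nat_lit 12220) (nat_lit 3562) Col.b (nat_lit 1918) (Dv.wd (nat_lit 104) [Mv.f (nat_lit 7456), Mv.f (nat_lit 12203), Mv.f (nat_lit 12219), Mv.f (nat_lit 9828), Mv.f (nat_lit 12218), Mv.f (nat_lit 12214), Mv.f (nat_lit 10541), Mv.b (nat_lit 9859), Mv.f (nat_lit 5692), Mv.f (nat_lit 8986)])))
(Tr.lf (Fc.ed (nat_lit 12221) (nat_lit 3577) Col.f (nat_lit 3562) (Dv.wd (nat_lit 125) [Mv.f (nat_lit 12220), Mv.b (nat_lit 12207), Mv.f (nat_lit 12206)]))))))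
(Tr.nd (nat_lit 12224) (Tr.nd (nat_lit 12223) (Tr.lf (Fc.ed (nat_lit 12222) (nat_lit 3484) Col.a (nat_lit 3562) (Dv.wd (nat_lit 167) [Mv.f (nat_lit 12220), Mv.b (nat_lit 8791), Mv.b (nat_lit 12196), Mv.b (nat_lit 12164), Mv.f (nat_lit 8959)])))
(Tr.lf (Fc.ed (nat_lit 12223) (nat_lit 3156) Col.c (nat_lit 3562) (Dv.wd (nat_lit 152) [Mv.f (nat_lit 12220), Mv.f (nat_lit 7456), Mv.f (nat_lit 7457), Mv.f (nat_lit 8331), Mv.f (nat_lit 8334)]))))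
(Tr.nd (nat_lit 12225) (Tr.lf (Fc.ed (nat_lit 12224) (nat_lit 3999) Col.b (nat_lit 1642) (Dv.wd (nat_lit 154) [Mv.f (nat_lit 5089), Mv.f (nat_lit 8169), Mv.f (nat_lit 12223), Mv.f (nat_lit 12220), Mv.b (nat_lit 5407), Mv.b (nat_lit 5367), Mv.f (nat_lit 5365), Mv.b (nat_lit 5330), Mv.f (nat_lit 12212), Mv.f (nat_lit 9801)])))
(Tr.nd (nat_lit 12226) (Tr.lf (Fc.al (nat_lit 12225) (nat_lit 3577) (nat_lit 3503) (Dv.wd (nat_lit 79) [Mv.f (nat_lit 9522), Mv.f (nat_lit 9523), Mv.f (nat_lit 12222), Mv.b (nat_lit 12221)])))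
(Tr.lf (Fc.ed (nat_lit 12226) (nat_lit 3503) Col.b (nat_lit 1959) (Dv.wd (nat_lit 119) [Mv.f (nat_lit 12206), Mv.f (nat_lit 12225)])))))))
(Tr.nd (nat_lit 12232) (Tr.nd (nat_lit 12229) (Tr.nd (nat_lit 12228) (Tr.lf (Fc.ed (nat_lit 12227) (nat_lit 3503) Col.f (nat_lit 3562) (Dv.wd (nat_lit 30) [Mv.b (nat_lit 12221), Mv.f (nat_lit 12225)])))
(Tr.lf (Fc.ed (nat_lit 12228) (nat_lit 3562) Col.g (nat_lit 3879) (Dv.wd (nat_lit 17) [Mv.b (nat_lit 9561), Mv.b (nat_lit 9522), Mv.f (nat_lit 12227)]))))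
(Tr.nd (nat_lit 12230) (Tr.lf (Fc.ed (nat_lit 12229) (nat_lit 3879) Col.a (nat_lit 3149) (Dv.wd (nat_lit 114) [Mv.f (nat_lit 8155), Mv.f (nat_lit 8986), Mv.f (nat_lit 12228)])))
(Tr.nd (nat_lit 12231) (Tr.lf (Fc.ed (nat_lit 12230) (nat_lit 3879) Col.c (nat_lit 1973) (Dv.wd (nat_lit 124) [Mv.b (nat_lit 5611), Mv.f (nat_lit 9488), Mv.b (nat_lit 12214), Mv.f (nat_lit 12215), Mv.b (nat_lit 7740), Mv.f (nat_lit 9053), Mv.f (nat_lit 12216), Mv.f (nat_lit 8334), Mv.f (nat_lit 12223), Mv.f (nat_lit 12228)])))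
(Tr.lf (Fc.ed (nat_lit 12231) (nat_lit 3885) Col.f (nat_lit 3879) (Dv.wd (nat_lit 64) [Mv.f (nat_lit 12230), Mv.f (nat_lit 9236), Mv.f (nat_lit 9570)]))))))
(Tr.nd (nat_lit 12235) (Tr.nd (nat_lit 12233) (Tr.lf (Fc.ed (nat_lit 12232) (nat_lit 3965) Col.b (nat_lit 3879) (Dv.wd (nat_lit 154) [Mv.f (nat_lit 12230), Mv.b (nat_lit 5524), Mv.f (nat_lit 3308), Mv.f (nat_lit 3309), Mv.b (nat_lit 2262), Mv.f (nat_lit 5302), Mv.f (nat_lit 5304), Mv.b (nat_lit 8753), Mv.f (nat_lit 8862), Mv.f (nat_lit 9747)])))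
(Tr.nd (nat_lit 12234) (Tr.lf (Fc.ed (nat_lit 12233) (nat_lit 2054) Col.a (nat_lit 3885) (Dv.wd (nat_lit 79) [Mv.f (nat_lit 12231), Mv.f (nat_lit 12229), Mv.f (nat_lit 8155)])))
(Tr.lf (Fc.al (nat_lit 12234) (nat_lit 2375) (nat_lit 2594) (Dv.wd (nat_lit 167) [Mv.b (nat_lit 6952), Mv.f (nat_lit 10210), Mv.f (nat_lit 12217), Mv.b (nat_lit 9485), Mv.b (nat_lit 9158), Mv.b (nat_lit 6506)])))))
(Tr.nd (nat_lit 12236) (Tr.lf (Fc.ed (nat_lit 12235) (nat_lit 2375) Col.c (nat_lit 2918) (Dv.wd (nat_lit 103) [Mv.f (nat_lit 7663), Mv.b (nat_lit 12234)])))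
(Tr.nd (nat_lit 12237) (Tr.lf (Fc.ed (nat_lit 12236) (nat_lit 2375) Col.f (nat_lit 2565) (Dv.wd (nat_lit 30) [Mv.b (nat_lit 6953), Mv.b (nat_lit 12234)])))
(Tr.lf (Fc.ed (nat_lit 12237) (nat_lit 2533) Col.gi (nat_lit 1953) (Dv.wd (nat_lit 12) [Mv.b (nat_lit 6463), Mv.f (nat_lit 12236), Mv.b (nat_lit 6885)]))))))))))
(Tr.nd (nat_lit 12279) (Tr.nd (nat_lit 12258) (Tr.nd (nat_lit 12248) (Tr.nd (nat_lit 12243) (Tr.nd (nat_lit 12240) (Tr.nd (nat_lit 12239) (Tr.lf (Fc.ed (nat_lit 12238) (nat_lit 1790) Col.gi (nat_lit 3748) (Dv.wd (nat_lit 111) [Mv.b (nat_lit 10215), Mv.f (nat_lit 12237), Mv.b (nat_lit 6782), Mv.b (nat_lit 7226), Mv.b (nat_lit 11334), Mv.b (nat_lit 5206), Mv.f (nat_lit 2969), Mv.b (nat_lit 2850), Mv.b (nat_lit 5155)])))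
(Tr.lf (Fc.ed (nat_lit 12239) (nat_lit 3748) Col.gi (nat_lit 2213) (Dv.wd (nat_lit 24) [Mv.b (nat_lit 8166), Mv.b (nat_lit 8164), Mv.f (nat_lit 12238)]))))
(Tr.nd (nat_lit 12241) (Tr.lf (Fc.ed (nat_lit 12240) (nat_lit 3265) Col.f (nat_lit 3554) (Dv.wd (nat_lit 13) [Mv.f (nat_lit 9336), Mv.f (nat_lit 12239), Mv.f (nat_lit 8384)])))
(Tr.nd (nat_lit 12242) (Tr.lf (Fc.ed (nat_lit 12241) (nat_lit 3961) Col.g (nat_lit 3085) (Dv.wd (nat_lit 69) [Mv.b (nat_lit 10204), Mv.b (nat_lit 7436), Mv.f (nat_lit 10215), Mv.f (nat_lit 12239), Mv.b (nat_lit 6102), Mv.f (nat_lit 5461), Mv.f (nat_lit 10403), Mv.f (nat_lit 9736), Mv.f (nat_lit 9741)])))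
(Tr.lf (Fc.ed (nat_lit 12242) (nat_lit 3085) Col.g (nat_lit 4269) (Dv.wd (nat_lit 9) [Mv.f (nat_lit 11144), Mv.f (nat_lit 11143), Mv.f (nat_lit 12241)]))))))
(Tr.nd (nat_lit 12245) (Tr.nd (nat_lit 12244) (Tr.lf (Fc.ed (nat_lit 12243) (nat_lit 2375) Col.d (nat_lit 3265) (Dv.wd (nat_lit 90) [Mv.f (nat_lit 12240), Mv.f (nat_lit 10214), Mv.b (nat_lit 12236)])))
(Tr.lf (Fc.ed (nat_lit 12244) (nat_lit 3365) Col.b (nat_lit 1639) (Dv.wd (nat_lit 154) [Mv.f (nat_lit 6147), Mv.f (nat_lit 12208), Mv.f (nat_lit 12197), Mv.f (nat_lit 12172), Mv.f (nat_lit 7226), Mv.f (nat_lit 6784), Mv.f (nat_lit 6782), Mv.b (nat_lit 6463), Mv.f (nat_lit 12235), Mv.b (nat_lit 8590)]))))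
(Tr.nd (nat_lit 12246) (Tr.lf (Fc.ed (nat_lit 12245) (nat_lit 3973) Col.d (nat_lit 3365) (Dv.wd (nat_lit 116) [Mv.f (nat_lit 12244), Mv.f (nat_lit 10177), Mv.f (nat_lit 10410)])))
(Tr.nd (nat_lit 12247) (Tr.lf (Fc.ed (nat_lit 12246) (nat_lit 3365) Col.a (nat_lit 3285) (Dv.wd (nat_lit 8) [Mv.b (nat_lit 10407), Mv.f (nat_lit 9762), Mv.f (nat_lit 12245)])))
(Tr.lf (Fc.ed (nat_lit 12247) (nat_lit 3599) Col.f (nat_lit 3365) (Dv.wd (nat_lit 13) [Mv.f (nat_lit 12246), Mv.f (nat_lit 8424), Mv.b (nat_lit 12216)])))))))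
(Tr.nd (nat_lit 12253) (Tr.nd (nat_lit 12250) (Tr.nd (nat_lit 12249) (Tr.lf (Fc.al (nat_lit 12248) (nat_lit 1921) (nat_lit 2012) (Dv.wd (nat_lit 107) [Mv.f (nat_lit 9053), Mv.f (nat_lit 12247), Mv.f (nat_lit 12244), Mv.f (nat_lit 5413)])))
(Tr.lf (Fc.ed (nat_lit 12249) (nat_lit 1921) Col.g (nat_lit 714) (Dv.wd (nat_lit 129) [Mv.b (nat_lit 5605), Mv.b (nat_lit 12248)]))))
(Tr.nd (nat_lit 12251) (Tr.lf (Fc.ed (nat_lit 12250) (nat_lit 1921) Col.gi (nat_lit 1510) (Dv.wd (nat_lit 128) [Mv.f (nat_lit 5604), Mv.b (nat_lit 12248)])))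
(Tr.nd (nat_lit 12252) (Tr.lf (Fc.al (nat_lit 12251) (nat_lit 1859) (nat_lit 3119) (Dv.wd (nat_lit 29) [Mv.f (nat_lit 8094), Mv.b (nat_lit 12248), Mv.f (nat_lit 5414)])))
(Tr.lf (Fc.al (nat_lit 12252) (nat_lit 2585) (nat_lit 1882) (Dv.wd (nat_lit 120) [Mv.b (nat_lit 10675), Mv.b (nat_lit 12248), Mv.b (nat_lit 10155)]))))))
(Tr.nd (nat_lit 12255) (Tr.nd (nat_lit 12254) (Tr.lf (Fc.al (nat_lit 12253) (nat_lit 3624) (nat_lit 3406) (Dv.wd (nat_lit 119) [Mv.f (nat_lit 8676), Mv.b (nat_lit 12251), Mv.f (nat_lit 9094)])))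
(Tr.lf (Fc.al (nat_lit 12254) (nat_lit 3084) (nat_lit 1526) (Dv.wd (nat_lit 30) [Mv.f (nat_lit 8093), Mv.b (nat_lit 12251), Mv.b (nat_lit 8017)]))))
(Tr.nd (nat_lit 12256) (Tr.lf (Fc.ed (nat_lit 12255) (nat_lit 1882) Col.a (nat_lit 1821) (Dv.wd (nat_lit 29) [Mv.f (nat_lit 6936), Mv.f (nat_lit 12252)])))
(Tr.nd (nat_lit 12257) (Tr.lf (Fc.ed (nat_lit 12256) (nat_lit 1882) Col.d (nat_lit 1921) (Dv.wd (nat_lit 120) [Mv.b (nat_lit 10155), Mv.f (nat_lit 12252)])))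
(Tr.lf (Fc.ed (nat_lit 12257) (nat_lit 1882) Col.f (nat_lit 1869) (Dv.wd (nat_lit 30) [Mv.b (nat_lit 6937), Mv.f (nat_lit 12252)]))))))))
(Tr.nd (nat_lit 12268) (Tr.nd (nat_lit 12263) (Tr.nd (nat_lit 12260) (Tr.nd (nat_lit 12259) (Tr.lf (Fc.ed (nat_lit 12258) (nat_lit 3406) Col.g (nat_lit 3704) (Dv.wd (nat_lit 129) [Mv.f (nat_lit 12187), Mv.f (nat_lit 12253)])))
(Tr.lf (Fc.ed (nat_lit 12259) (nat_lit 3406) Col.b (nat_lit 1859) (Dv.wd (nat_lit 119) [Mv.f (nat_lit 9094), Mv.f (nat_lit 12253)]))))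
(Tr.nd (nat_lit 12261) (Tr.lf (Fc.ed (nat_lit 12260) (nat_lit 3406) Col.d (nat_lit 1929) (Dv.wd (nat_lit 120) [Mv.f (nat_lit 10156), Mv.f (nat_lit 12253)])))
(Tr.nd (nat_lit 12262) (Tr.lf (Fc.al (nat_lit 12261) (nat_lit 3803) (nat_lit 3772) (Dv.wd (nat_lit 103) [Mv.f (nat_lit 9380), Mv.f (nat_lit 12254), Mv.b (nat_lit 9433)])))
(Tr.lf (Fc.al (nat_lit 12262) (nat_lit 2013) (nat_lit 2467) (Dv.wd (nat_lit 120) [Mv.f (nat_lit 10157), Mv.f (nat_lit 12254), Mv.f (nat_lit 10153)]))))))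
(Tr.nd (nat_lit 12265) (Tr.nd (nat_lit 12264) (Tr.lf (Fc.ed (nat_lit 12263) (nat_lit 3772) Col.g (nat_lit 3830) (Dv.wd (nat_lit 129) [Mv.b (nat_lit 12218), Mv.f (nat_lit 12261)])))
(Tr.lf (Fc.ed (nat_lit 12264) (nat_lit 3772) Col.b (nat_lit 4015) (Dv.wd (nat_lit 119) [Mv.f (nat_lit 9828), Mv.f (nat_lit 12261)]))))
(Tr.nd (nat_lit 12266) (Tr.lf (Fc.ed (nat_lit 12265) (nat_lit 3772) Col.c (nat_lit 1526) (Dv.wd (nat_lit 103) [Mv.b (nat_lit 9433), Mv.f (nat_lit 12261)])))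
(Tr.nd (nat_lit 12267) (Tr.lf (Fc.ed (nat_lit 12266) (nat_lit 2013) Col.b (nat_lit 3351) (Dv.wd (nat_lit 119) [Mv.f (nat_lit 8562), Mv.b (nat_lit 12262)])))
(Tr.lf (Fc.ed (nat_lit 12267) (nat_lit 3973) Col.f (nat_lit 4152) (Dv.wd (nat_lit 11) [Mv.f (nat_lit 10729), Mv.f (nat_lit 12247), Mv.b (nat_lit 12245)])))))))
(Tr.nd (nat_lit 12273) (Tr.nd (nat_lit 12270) (Tr.nd (nat_lit 12269) (Tr.lf (Fc.ed (nat_lit 12268) (nat_lit 3351) Col.d (nat_lit 1759) (Dv.wd (nat_lit 58) [Mv.f (nat_lit 5090), Mv.f (nat_lit 10153), Mv.f (nat_lit 12266)])))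
(Tr.lf (Fc.ed (nat_lit 12269) (nat_lit 3362) Col.g (nat_lit 2289) (Dv.wd (nat_lit 123) [Mv.f (nat_lit 6267), Mv.b (nat_lit 3763), Mv.b (nat_lit 1103), Mv.f (nat_lit 899), Mv.b (nat_lit 1105), Mv.b (nat_lit 842), Mv.b (nat_lit 2950), Mv.f (nat_lit 5606), Mv.f (nat_lit 12266), Mv.f (nat_lit 8585)]))))
(Tr.nd (nat_lit 12271) (Tr.lf (Fc.ed (nat_lit 12270) (nat_lit 3297) Col.g (nat_lit 3362) (Dv.wd (nat_lit 17) [Mv.f (nat_lit 12269), Mv.b (nat_lit 6596), Mv.f (nat_lit 8448)])))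
(Tr.nd (nat_lit 12272) (Tr.lf (Fc.ed (nat_lit 12271) (nat_lit 3383) Col.f (nat_lit 3400) (Dv.wd (nat_lit 10) [Mv.b (nat_lit 8663), Mv.f (nat_lit 12270), Mv.b (nat_lit 8627)])))
(Tr.lf (Fc.ed (nat_lit 12272) (nat_lit 4231) Col.g (nat_lit 4216) (Dv.wd (nat_lit 69) [Mv.f (nat_lit 10869), Mv.b (nat_lit 3940), Mv.f (nat_lit 3200), Mv.b (nat_lit 5499), Mv.f (nat_lit 10181), Mv.b (nat_lit 7142), Mv.b (nat_lit 8450), Mv.f (nat_lit 12270), Mv.f (nat_lit 10897)]))))))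
(Tr.nd (nat_lit 12276) (Tr.nd (nat_lit 12274) (Tr.lf (Fc.ed (nat_lit 12273) (nat_lit 1988) Col.d (nat_lit 3564) (Dv.wd (nat_lit 89) [Mv.b (nat_lit 8989), Mv.b (nat_lit 8450), Mv.f (nat_lit 12270), Mv.b (nat_lit 8585), Mv.f (nat_lit 12268), Mv.b (nat_lit 5089), Mv.f (nat_lit 5728), Mv.f (nat_lit 5726), Mv.f (nat_lit 5559)])))
(Tr.nd (nat_lit 12275) (Tr.lf (Fc.ed (nat_lit 12274) (nat_lit 3990) Col.d (nat_lit 2376) (Dv.wd (nat_lit 58) [Mv.b (nat_lit 6464), Mv.f (nat_lit 12273), Mv.f (nat_lit 9787)])))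
(Tr.lf (Fc.ed (nat_lit 12275) (nat_lit 3032) Col.gi (nat_lit 3762) (Dv.wd (nat_lit 111) [Mv.f (nat_lit 10698), Mv.f (nat_lit 7147), Mv.f (nat_lit 3385), Mv.b (nat_lit 5560), Mv.f (nat_lit 12273), Mv.b (nat_lit 8989), Mv.f (nat_lit 6361), Mv.b (nat_lit 6574), Mv.f (nat_lit 7891)])))))
(Tr.nd (nat_lit 12277) (Tr.lf (Fc.ed (nat_lit 12276) (nat_lit 3400) Col.d (nat_lit 4232) (Dv.wd (nat_lit 51) [Mv.f (nat_lit 11277), Mv.b (nat_lit 11049), Mv.b (nat_lit 5995), Mv.b (nat_lit 4677), Mv.f (nat_lit 5559), Mv.f (nat_lit 12273), Mv.f (nat_lit 8990), Mv.b (nat_lit 6267), Mv.b (nat_lit 8664)])))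
(Tr.nd (nat_lit 12278) (Tr.lf (Fc.ed (nat_lit 12277) (nat_lit 4232) Col.f (nat_lit 4672) (Dv.wd (nat_lit 11) [Mv.b (nat_lit 11815), Mv.f (nat_lit 12271), Mv.f (nat_lit 12276)])))
(Tr.lf (Fc.ed (nat_lit 12278) (nat_lit 4231) Col.gi (nat_lit 4293) (Dv.wd (nat_lit 12) [Mv.b (nat_lit 11277), Mv.f (nat_lit 12277), Mv.f (nat_lit 11816)])))))))))
(Tr.nd (nat_lit 12299) (Tr.nd (nat_lit 12289) (Tr.nd (nat_lit 12284) (Tr.nd (nat_lit 12281) (Tr.nd (nat_lit 12280) (Tr.lf (Fc.ed (nat_lit 12279) (nat_lit 3871) Col.f (nat_lit 3862) (Dv.wd (nat_lit 26) [Mv.b (nat_lit 9536), Mv.f (nat_lit 12271), Mv.b (nat_lit 10447)])))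
(Tr.lf (Fc.ed (nat_lit 12280) (nat_lit 3671) Col.f (nat_lit 4008) (Dv.wd (nat_lit 20) [Mv.b (nat_lit 9818), Mv.f (nat_lit 12279), Mv.b (nat_lit 10408)]))))
(Tr.nd (nat_lit 12282) (Tr.lf (Fc.al (nat_lit 12281) (nat_lit 3309) (nat_lit 3688) (Dv.wd (nat_lit 11) [Mv.f (nat_lit 9213), Mv.f (nat_lit 10450), Mv.f (nat_lit 12279), Mv.f (nat_lit 10409)])))
(Tr.nd (nat_lit 12283) (Tr.lf (Fc.ed (nat_lit 12282) (nat_lit 3309) Col.g (nat_lit 4013) (Dv.wd (nat_lit 129) [Mv.f (nat_lit 9824), Mv.b (nat_lit 12281)])))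
(Tr.lf (Fc.al (nat_lit 12283) (nat_lit 2056) (nat_lit 3112) (Dv.wd (nat_lit 103) [Mv.f (nat_lit 9211), Mv.b (nat_lit 12281), Mv.f (nat_lit 8471)]))))))
(Tr.nd (nat_lit 12286) (Tr.nd (nat_lit 12285) (Tr.lf (Fc.ed (nat_lit 12284) (nat_lit 2056) Col.f (nat_lit 2681) (Dv.wd (nat_lit 30) [Mv.f (nat_lit 8080), Mv.b (nat_lit 12283)])))
(Tr.lf (Fc.ed (nat_lit 12285) (nat_lit 4010) Col.gi (nat_lit 3871) (Dv.wd (nat_lit 24) [Mv.f (nat_lit 12279), Mv.f (nat_lit 9537), Mv.f (nat_lit 9820)]))))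
(Tr.nd (nat_lit 12287) (Tr.lf (Fc.ed (nat_lit 12286) (nat_lit 2647) Col.a (nat_lit 4010) (Dv.wd (nat_lit 23) [Mv.f (nat_lit 12285), Mv.b (nat_lit 9549), Mv.b (nat_lit 7361)])))
(Tr.nd (nat_lit 12288) (Tr.lf (Fc.ed (nat_lit 12287) (nat_lit 4010) Col.f (nat_lit 3856) (Dv.wd (nat_lit 35) [Mv.b (nat_lit 10451), Mv.b (nat_lit 7361), Mv.f (nat_lit 12286)])))
(Tr.lf (Fc.ed (nat_lit 12288) (nat_lit 2782) Col.gi (nat_lit 3351) (Dv.wd (nat_lit 12) [Mv.f (nat_lit 9820), Mv.f (nat_lit 12287), Mv.b (nat_lit 10451)])))))))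
(Tr.nd (nat_lit 12294) (Tr.nd (nat_lit 12291) (Tr.nd (nat_lit 12290) (Tr.lf (Fc.ed (nat_lit 12289) (nat_lit 3156) Col.e (nat_lit 3672) (Dv.wd (nat_lit 133) [Mv.f (nat_lit 10245), Mv.f (nat_lit 10455), Mv.f (nat_lit 10409), Mv.f (nat_lit 11992), Mv.f (nat_lit 12153), Mv.f (nat_lit 10449), Mv.f (nat_lit 12288), Mv.f (nat_lit 12268), Mv.f (nat_lit 10228), Mv.f (nat_lit 8169)])))
(Tr.lf (Fc.ed (nat_lit 12290) (nat_lit 3831) Col.e (nat_lit 3562) (Dv.wd (nat_lit 25) [Mv.b (nat_lit 12223), Mv.f (nat_lit 12289), Mv.f (nat_lit 9486)]))))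
(Tr.nd (nat_lit 12292) (Tr.lf (Fc.ed (nat_lit 12291) (nat_lit 3484) Col.e (nat_lit 3861) (Dv.wd (nat_lit 56) [Mv.b (nat_lit 9535), Mv.f (nat_lit 12290), Mv.b (nat_lit 12222)])))
(Tr.nd (nat_lit 12293) (Tr.lf (Fc.ed (nat_lit 12292) (nat_lit 3861) Col.b (nat_lit 3837) (Dv.wd (nat_lit 49) [Mv.b (nat_lit 9495), Mv.f (nat_lit 8959), Mv.f (nat_lit 12291)])))
(Tr.lf (Fc.ed (nat_lit 12293) (nat_lit 2820) Col.gi (nat_lit 2045) (Dv.wd (nat_lit 12) [Mv.f (nat_lit 5695), Mv.f (nat_lit 12284), Mv.f (nat_lit 7448)]))))))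
(Tr.nd (nat_lit 12296) (Tr.nd (nat_lit 12295) (Tr.lf (Fc.ed (nat_lit 12294) (nat_lit 1069) Col.gi (nat_lit 2820) (Dv.wd (nat_lit 12) [Mv.f (nat_lit 12293), Mv.b (nat_lit 5727), Mv.b (nat_lit 5725)])))
(Tr.lf (Fc.ed (nat_lit 12295) (nat_lit 4142) Col.g (nat_lit 3962) (Dv.wd (nat_lit 139) [Mv.b (nat_lit 9742), Mv.b (nat_lit 9388), Mv.b (nat_lit 5570), Mv.f (nat_lit 3361), Mv.f (nat_lit 3308), Mv.f (nat_lit 12294), Mv.b (nat_lit 8677), Mv.f (nat_lit 9823), Mv.f (nat_lit 10710)]))))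
(Tr.nd (nat_lit 12297) (Tr.lf (Fc.ed (nat_lit 12296) (nat_lit 3920) Col.g (nat_lit 4142) (Dv.wd (nat_lit 17) [Mv.f (nat_lit 12295), Mv.f (nat_lit 10651), Mv.f (nat_lit 10650)])))
(Tr.nd (nat_lit 12298) (Tr.lf (Fc.ed (nat_lit 12297) (nat_lit 2711) Col.d (nat_lit 3781) (Dv.wd (nat_lit 113) [Mv.b (nat_lit 9394), Mv.b (nat_lit 5676), Mv.f (nat_lit 5695), Mv.b (nat_lit 8471), Mv.f (nat_lit 12282), Mv.f (nat_lit 10710), Mv.f (nat_lit 12295), Mv.f (nat_lit 10678), Mv.f (nat_lit 8495)])))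
(Tr.lf (Fc.ed (nat_lit 12298) (nat_lit 3781) Col.g (nat_lit 1845) (Dv.wd (nat_lit 69) [Mv.b (nat_lit 5260), Mv.b (nat_lit 3308), Mv.b (nat_lit 3361), Mv.f (nat_lit 5959), Mv.b (nat_lit 10217), Mv.b (nat_lit 5614), Mv.b (nat_lit 6574), Mv.b (nat_lit 10672), Mv.f (nat_lit 12297)]))))))))
(Tr.nd (nat_lit 12309) (Tr.nd (nat_lit 12304) (Tr.nd (nat_lit 12301) (Tr.nd (nat_lit 12300) (Tr.lf (Fc.ed (nat_lit 12299) (nat_lit 4142) Col.a (nat_lit 4033) (Dv.wd (nat_lit 114) [Mv.f (nat_lit 10542), Mv.f (nat_lit 11991), Mv.f (nat_lit 12296)])))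
(Tr.lf (Fc.ed (nat_lit 12300) (nat_lit 3041) Col.a (nat_lit 4369) (Dv.wd (nat_lit 167) [Mv.b (nat_lit 11263), Mv.f (nat_lit 12299), Mv.b (nat_lit 9862), Mv.f (nat_lit 5166), Mv.f (nat_lit 7910)]))))
(Tr.nd (nat_lit 12302) (Tr.lf (Fc.ed (nat_lit 12301) (nat_lit 4369) Col.d (nat_lit 2918) (Dv.wd (nat_lit 28) [Mv.b (nat_lit 7662), Mv.b (nat_lit 10203), Mv.f (nat_lit 12300)])))
(Tr.nd (nat_lit 12303) (Tr.lf (Fc.ed (nat_lit 12302) (nat_lit 4369) Col.gi (nat_lit 4269) (Dv.wd (nat_lit 12) [Mv.b (nat_lit 12242), Mv.f (nat_lit 8019), Mv.f (nat_lit 12300)])))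
(Tr.lf (Fc.ed (nat_lit 12303) (nat_lit 3961) Col.gi (nat_lit 4369) (Dv.wd (nat_lit 12) [Mv.f (nat_lit 12302), Mv.f (nat_lit 11140), Mv.b (nat_lit 11137)]))))))
(Tr.nd (nat_lit 12306) (Tr.nd (nat_lit 12305) (Tr.lf (Fc.ed (nat_lit 12304) (nat_lit 2918) Col.b (nat_lit 4013) (Dv.wd (nat_lit 37) [Mv.f (nat_lit 10710), Mv.f (nat_lit 11263), Mv.f (nat_lit 12301)])))
(Tr.lf (Fc.ed (nat_lit 12305) (nat_lit 4013) Col.c (nat_lit 3503) (Dv.wd (nat_lit 93) [Mv.f (nat_lit 12226), Mv.b (nat_lit 6507), Mv.b (nat_lit 6506), Mv.f (nat_lit 12235), Mv.f (nat_lit 12304)]))))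
(Tr.nd (nat_lit 12307) (Tr.lf (Fc.ed (nat_lit 12306) (nat_lit 4000) Col.b (nat_lit 2820) (Dv.wd (nat_lit 154) [Mv.b (nat_lit 8677), Mv.f (nat_lit 9823), Mv.f (nat_lit 12305), Mv.f (nat_lit 12226), Mv.b (nat_lit 5494), Mv.f (nat_lit 3415), Mv.b (nat_lit 3417), Mv.b (nat_lit 12198), Mv.b (nat_lit 9195), Mv.f (nat_lit 12211)])))
(Tr.nd (nat_lit 12308) (Tr.lf (Fc.ed (nat_lit 12307) (nat_lit 3999) Col.f (nat_lit 4000) (Dv.wd (nat_lit 125) [Mv.f (nat_lit 12306), Mv.f (nat_lit 7449), Mv.b (nat_lit 12224)])))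
(Tr.lf (Fc.ed (nat_lit 12308) (nat_lit 2388) Col.c (nat_lit 4041) (Dv.wd (nat_lit 130) [Mv.b (nat_lit 9872), Mv.f (nat_lit 9803), Mv.f (nat_lit 12306), Mv.b (nat_lit 12294), Mv.f (nat_lit 3309), Mv.f (nat_lit 2245), Mv.b (nat_lit 372), Mv.f (nat_lit 1031), Mv.f (nat_lit 2881), Mv.b (nat_lit 6484)])))))))
(Tr.nd (nat_lit 12314) (Tr.nd (nat_lit 12311) (Tr.nd (nat_lit 12310) (Tr.lf (Fc.ed (nat_lit 12309) (nat_lit 3786) Col.f (nat_lit 4015) (Dv.wd (nat_lit 26) [Mv.b (nat_lit 12219), Mv.f (nat_lit 12307), Mv.b (nat_lit 9803)])))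
(Tr.lf (Fc.ed (nat_lit 12310) (nat_lit 4161) Col.a (nat_lit 3999) (Dv.wd (nat_lit 114) [Mv.f (nat_lit 12307), Mv.b (nat_lit 12211), Mv.f (nat_lit 10768)]))))
(Tr.nd (nat_lit 12312) (Tr.lf (Fc.ed (nat_lit 12311) (nat_lit 4333) Col.c (nat_lit 4161) (Dv.wd (nat_lit 134) [Mv.f (nat_lit 12310), Mv.f (nat_lit 12219), Mv.f (nat_lit 11123)])))
(Tr.nd (nat_lit 12313) (Tr.lf (Fc.ed (nat_lit 12312) (nat_lit 4385) Col.a (nat_lit 4691) (Dv.wd (nat_lit 54) [Mv.b (nat_lit 11853), Mv.f (nat_lit 12310), Mv.f (nat_lit 11294)])))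
(Tr.lf (Fc.ed (nat_lit 12313) (nat_lit 4333) Col.gi (nat_lit 3183) (Dv.wd (nat_lit 12) [Mv.f (nat_lit 9403), Mv.f (nat_lit 12309), Mv.f (nat_lit 11123)]))))))
(Tr.nd (nat_lit 12317) (Tr.nd (nat_lit 12315) (Tr.lf (Fc.ed (nat_lit 12314) (nat_lit 4008) Col.a (nat_lit 4152) (Dv.wd (nat_lit 16) [Mv.b (nat_lit 12267), Mv.b (nat_lit 9762), Mv.f (nat_lit 12280)])))
(Tr.nd (nat_lit 12316) (Tr.lf (Fc.ed (nat_lit 12315) (nat_lit 4152) Col.gi (nat_lit 3612) (Dv.wd (nat_lit 12) [Mv.f (nat_lit 9181), Mv.f (nat_lit 12280), Mv.f (nat_lit 12314)])))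
(Tr.lf (Fc.ed (nat_lit 12316) (nat_lit 2645) Col.g (nat_lit 3973) (Dv.wd (nat_lit 9) [Mv.b (nat_lit 9762), Mv.f (nat_lit 12280), Mv.b (nat_lit 10483)])))))
(Tr.nd (nat_lit 12318) (Tr.lf (Fc.ed (nat_lit 12317) (nat_lit 4062) Col.gi (nat_lit 4152) (Dv.wd (nat_lit 12) [Mv.f (nat_lit 12315), Mv.f (nat_lit 10488), Mv.f (nat_lit 9906)])))
(Tr.nd (nat_lit 12319) (Tr.lf (Fc.ed (nat_lit 12318) (nat_lit 4333) Col.b (nat_lit 3607) (Dv.wd (nat_lit 65) [Mv.b (nat_lit 9066), Mv.b (nat_lit 6832), Mv.b (nat_lit 9379), Mv.f (nat_lit 12264), Mv.f (nat_lit 11123)])))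
(Tr.lf (Fc.ed (nat_lit 12319) (nat_lit 4208) Col.f (nat_lit 4333) (Dv.wd (nat_lit 125) [Mv.f (nat_lit 12318), Mv.f (nat_lit 9067), Mv.f (nat_lit 10853)])))))))))))
(Tr.nd (nat_lit 12402) (Tr.nd (nat_lit 12361) (Tr.nd (nat_lit 12340) (Tr.nd (nat_lit 12330) (Tr.nd (nat_lit 12325) (Tr.nd (nat_lit 12322) (Tr.nd (nat_lit 12321) (Tr.lf (Fc.ed (nat_lit 12320) (nat_lit 3786) Col.a (nat_lit 4208) (Dv.wd (nat_lit 79) [Mv.f (nat_lit 12319), Mv.b (nat_lit 11123), Mv.b (nat_lit 12309)])))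
(Tr.lf (Fc.ed (nat_lit 12321) (nat_lit 4023) Col.gi (nat_lit 4208) (Dv.wd (nat_lit 24) [Mv.f (nat_lit 12319), Mv.b (nat_lit 11123), Mv.f (nat_lit 9844)]))))
(Tr.nd (nat_lit 12323) (Tr.lf (Fc.ed (nat_lit 12322) (nat_lit 4208) Col.gi (nat_lit 3146) (Dv.wd (nat_lit 12) [Mv.f (nat_lit 9827), Mv.b (nat_lit 12309), Mv.f (nat_lit 12320)])))
(Tr.nd (nat_lit 12324) (Tr.lf (Fc.ed (nat_lit 12323) (nat_lit 4199) Col.c (nat_lit 4208) (Dv.wd (nat_lit 156) [Mv.f (nat_lit 12322), Mv.b (nat_lit 8149), Mv.b (nat_lit 5935), Mv.b (nat_lit 3415), Mv.f (nat_lit 3417), Mv.f (nat_lit 5101), Mv.f (nat_lit 9842), Mv.f (nat_lit 9962), Mv.f (nat_lit 10788), Mv.f (nat_lit 10835)])))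
(Tr.lf (Fc.ed (nat_lit 12324) (nat_lit 4000) Col.a (nat_lit 4199) (Dv.wd (nat_lit 76) [Mv.f (nat_lit 12323), Mv.b (nat_lit 12320), Mv.f (nat_lit 9803)]))))))
(Tr.nd (nat_lit 12327) (Tr.nd (nat_lit 12326) (Tr.lf (Fc.ed (nat_lit 12325) (nat_lit 4161) Col.f (nat_lit 4199) (Dv.wd (nat_lit 64) [Mv.f (nat_lit 12323), Mv.f (nat_lit 12319), Mv.f (nat_lit 12311)])))
(Tr.lf (Fc.ed (nat_lit 12326) (nat_lit 2824) Col.gi (nat_lit 4199) (Dv.wd (nat_lit 88) [Mv.f (nat_lit 12323), Mv.b (nat_lit 10853), Mv.b (nat_lit 8637), Mv.b (nat_lit 6414), Mv.f (nat_lit 5675), Mv.b (nat_lit 5525), Mv.b (nat_lit 12230), Mv.b (nat_lit 12228), Mv.f (nat_lit 12220), Mv.f (nat_lit 7456)]))))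
(Tr.nd (nat_lit 12328) (Tr.lf (Fc.ed (nat_lit 12327) (nat_lit 2401) Col.gi (nat_lit 4161) (Dv.wd (nat_lit 24) [Mv.f (nat_lit 12325), Mv.b (nat_lit 12324), Mv.f (nat_lit 12210)])))
(Tr.nd (nat_lit 12329) (Tr.lf (Fc.ed (nat_lit 12328) (nat_lit 3607) Col.gi (nat_lit 2095) (Dv.wd (nat_lit 100) [Mv.b (nat_lit 5773), Mv.f (nat_lit 5726), Mv.f (nat_lit 5559), Mv.f (nat_lit 8721), Mv.b (nat_lit 8864), Mv.f (nat_lit 12226), Mv.b (nat_lit 6507), Mv.f (nat_lit 12327), Mv.b (nat_lit 12311), Mv.f (nat_lit 12318)])))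
(Tr.lf (Fc.ed (nat_lit 12329) (nat_lit 2246) Col.d (nat_lit 4111) (Dv.wd (nat_lit 53) [Mv.b (nat_lit 10598), Mv.b (nat_lit 9781), Mv.f (nat_lit 5519), Mv.f (nat_lit 4325), Mv.f (nat_lit 10534), Mv.f (nat_lit 12162), Mv.b (nat_lit 6076), Mv.f (nat_lit 5677), Mv.f (nat_lit 5678), Mv.b (nat_lit 6163)])))))))
(Tr.nd (nat_lit 12335) (Tr.nd (nat_lit 12332) (Tr.nd (nat_lit 12331) (Tr.lf (Fc.ed (nat_lit 12330) (nat_lit 1919) Col.d (nat_lit 1979) (Dv.wd (nat_lit 53) [Mv.f (nat_lit 12161), Mv.b (nat_lit 8098), Mv.f (nat_lit 7065), Mv.f (nat_lit 7064), Mv.b (nat_lit 6230), Mv.b (nat_lit 10377), Mv.f (nat_lit 10375), Mv.f (nat_lit 2410), Mv.f (nat_lit 2442), Mv.b (nat_lit 5410)])))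
(Tr.lf (Fc.ed (nat_lit 12331) (nat_lit 4735) Col.d (nat_lit 4667) (Dv.wd (nat_lit 36) [Mv.b (nat_lit 12168), Mv.f (nat_lit 10322), Mv.b (nat_lit 12161), Mv.b (nat_lit 12330), Mv.f (nat_lit 11937)]))))
(Tr.nd (nat_lit 12333) (Tr.lf (Fc.ed (nat_lit 12332) (nat_lit 4712) Col.a (nat_lit 4735) (Dv.wd (nat_lit 54) [Mv.f (nat_lit 12331), Mv.b (nat_lit 11805), Mv.f (nat_lit 11896)])))
(Tr.nd (nat_lit 12334) (Tr.lf (Fc.ed (nat_lit 12333) (nat_lit 3638) Col.e (nat_lit 4712) (Dv.wd (nat_lit 72) [Mv.f (nat_lit 12332), Mv.b (nat_lit 11937), Mv.b (nat_lit 9121)])))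
(Tr.lf (Fc.ed (nat_lit 12334) (nat_lit 4712) Col.b (nat_lit 4651) (Dv.wd (nat_lit 49) [Mv.b (nat_lit 11774), Mv.f (nat_lit 11343), Mv.f (nat_lit 12333)]))))))
(Tr.nd (nat_lit 12337) (Tr.nd (nat_lit 12336) (Tr.lf (Fc.ed (nat_lit 12335) (nat_lit 2007) Col.d (nat_lit 3638) (Dv.wd (nat_lit 99) [Mv.f (nat_lit 12333), Mv.b (nat_lit 11896), Mv.f (nat_lit 11696), Mv.b (nat_lit 12174), Mv.f (nat_lit 12175)])))
(Tr.lf (Fc.ed (nat_lit 12336) (nat_lit 4410) Col.d (nat_lit 2105) (Dv.wd (nat_lit 58) [Mv.f (nat_lit 5796), Mv.f (nat_lit 12335), Mv.b (nat_lit 11343)]))))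
(Tr.nd (nat_lit 12338) (Tr.lf (Fc.ed (nat_lit 12337) (nat_lit 2315) Col.d (nat_lit 1764) (Dv.wd (nat_lit 90) [Mv.b (nat_lit 10533), Mv.f (nat_lit 12335), Mv.b (nat_lit 9120)])))
(Tr.nd (nat_lit 12339) (Tr.lf (Fc.ed (nat_lit 12338) (nat_lit 3638) Col.g (nat_lit 1419) (Dv.wd (nat_lit 63) [Mv.b (nat_lit 4908), Mv.b (nat_lit 4935), Mv.f (nat_lit 5450), Mv.b (nat_lit 10412), Mv.f (nat_lit 10474), Mv.f (nat_lit 3992), Mv.f (nat_lit 3969), Mv.b (nat_lit 7145), Mv.f (nat_lit 12175), Mv.f (nat_lit 12335)])))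
(Tr.lf (Fc.al (nat_lit 12339) (nat_lit 2198) (nat_lit 2739) (Dv.wd (nat_lit 114) [Mv.b (nat_lit 9122), Mv.f (nat_lit 9120), Mv.f (nat_lit 12338), Mv.f (nat_lit 6076)]))))))))
(Tr.nd (nat_lit 12350) (Tr.nd (nat_lit 12345) (Tr.nd (nat_lit 12342) (Tr.nd (nat_lit 12341) (Tr.lf (Fc.ed (nat_lit 12340) (nat_lit 2198) Col.a (nat_lit 2315) (Dv.wd (nat_lit 29) [Mv.f (nat_lit 9122), Mv.b (nat_lit 12339)])))
(Tr.lf (Fc.ed (nat_lit 12341) (nat_lit 1773) Col.d (nat_lit 4246) (Dv.wd (nat_lit 58) [Mv.b (nat_lit 10922), Mv.f (nat_lit 12337), Mv.f (nat_lit 10529)]))))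
(Tr.nd (nat_lit 12343) (Tr.lf (Fc.ed (nat_lit 12342) (nat_lit 4613) Col.d (nat_lit 2323) (Dv.wd (nat_lit 91) [Mv.f (nat_lit 6344), Mv.b (nat_lit 5005), Mv.b (nat_lit 5004), Mv.f (nat_lit 9123), Mv.f (nat_lit 12337), Mv.b (nat_lit 5539), Mv.f (nat_lit 5538), Mv.f (nat_lit 8520), Mv.f (nat_lit 11414), Mv.f (nat_lit 11706)])))
(Tr.nd (nat_lit 12344) (Tr.lf (Fc.ed (nat_lit 12343) (nat_lit 4321) Col.d (nat_lit 4166) (Dv.wd (nat_lit 48) [Mv.f (nat_lit 10780), Mv.f (nat_lit 9132), Mv.f (nat_lit 4302), Mv.f (nat_lit 4615), Mv.b (nat_lit 12045), Mv.f (nat_lit 12046), Mv.f (nat_lit 5119), Mv.f (nat_lit 12341), Mv.f (nat_lit 11103)])))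
(Tr.lf (Fc.ed (nat_lit 12344) (nat_lit 4166) Col.e (nat_lit 3911) (Dv.wd (nat_lit 74) [Mv.f (nat_lit 10497), Mv.f (nat_lit 12156), Mv.b (nat_lit 9753), Mv.f (nat_lit 9503), Mv.b (nat_lit 10498), Mv.f (nat_lit 10370), Mv.b (nat_lit 10521), Mv.f (nat_lit 12341), Mv.f (nat_lit 11103), Mv.f (nat_lit 12343)]))))))
(Tr.nd (nat_lit 12347) (Tr.nd (nat_lit 12346) (Tr.lf (Fc.ed (nat_lit 12345) (nat_lit 4129) Col.b (nat_lit 4166) (Dv.wd (nat_lit 127) [Mv.f (nat_lit 12344), Mv.b (nat_lit 9616), Mv.f (nat_lit 10628)])))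
(Tr.lf (Fc.al (nat_lit 12346) (nat_lit 2237) (nat_lit 3981) (Dv.wd (nat_lit 124) [Mv.b (nat_lit 10629), Mv.f (nat_lit 12345), Mv.b (nat_lit 10779), Mv.b (nat_lit 5285), Mv.f (nat_lit 4611), Mv.f (nat_lit 1930), Mv.b (nat_lit 1928), Mv.f (nat_lit 1117), Mv.f (nat_lit 4694), Mv.b (nat_lit 5191), Mv.f (nat_lit 6146)]))))
(Tr.nd (nat_lit 12348) (Tr.lf (Fc.ed (nat_lit 12347) (nat_lit 2237) Col.e (nat_lit 1788) (Dv.wd (nat_lit 117) [Mv.f (nat_lit 9775), Mv.b (nat_lit 12346)])))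
(Tr.nd (nat_lit 12349) (Tr.lf (Fc.ed (nat_lit 12348) (nat_lit 1997) Col.d (nat_lit 3971) (Dv.wd (nat_lit 162) [Mv.b (nat_lit 9760), Mv.b (nat_lit 8299), Mv.b (nat_lit 7646), Mv.f (nat_lit 12347), Mv.f (nat_lit 10302), Mv.f (nat_lit 6174), Mv.b (nat_lit 3629), Mv.f (nat_lit 2207), Mv.f (nat_lit 5679), Mv.b (nat_lit 10170)])))
(Tr.lf (Fc.ed (nat_lit 12349) (nat_lit 3020) Col.e (nat_lit 1736) (Dv.wd (nat_lit 133) [Mv.b (nat_lit 10158), Mv.f (nat_lit 9048), Mv.f (nat_lit 3835), Mv.f (nat_lit 5679), Mv.b (nat_lit 10170), Mv.f (nat_lit 12348), Mv.b (nat_lit 9760), Mv.b (nat_lit 8299), Mv.f (nat_lit 7775), Mv.b (nat_lit 12108)])))))))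
(Tr.nd (nat_lit 12355) (Tr.nd (nat_lit 12352) (Tr.nd (nat_lit 12351) (Tr.lf (Fc.ed (nat_lit 12350) (nat_lit 4032) Col.e (nat_lit 2842) (Dv.wd (nat_lit 25) [Mv.f (nat_lit 7871), Mv.f (nat_lit 12349), Mv.f (nat_lit 9859)])))
(Tr.lf (Fc.ed (nat_lit 12351) (nat_lit 3393) Col.d (nat_lit 4499) (Dv.wd (nat_lit 36) [Mv.b (nat_lit 11496), Mv.b (nat_lit 10213), Mv.f (nat_lit 12350), Mv.f (nat_lit 7495), Mv.b (nat_lit 12138)]))))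
(Tr.nd (nat_lit 12353) (Tr.lf (Fc.ed (nat_lit 12352) (nat_lit 2633) Col.e (nat_lit 2376) (Dv.wd (nat_lit 70) [Mv.f (nat_lit 9873), Mv.b (nat_lit 12003), Mv.b (nat_lit 10462), Mv.b (nat_lit 10461), Mv.b (nat_lit 10213), Mv.f (nat_lit 12350), Mv.f (nat_lit 12117), Mv.b (nat_lit 9754), Mv.f (nat_lit 6775), Mv.f (nat_lit 7036)])))
(Tr.nd (nat_lit 12354) (Tr.lf (Fc.ed (nat_lit 12353) (nat_lit 1596) Col.e (nat_lit 1942) (Dv.wd (nat_lit 133) [Mv.b (nat_lit 10189), Mv.b (nat_lit 9751), Mv.b (nat_lit 9752), Mv.f (nat_lit 9861), Mv.f (nat_lit 12350), Mv.f (nat_lit 7495), Mv.b (nat_lit 6884), Mv.f (nat_lit 11124), Mv.f (nat_lit 12144), Mv.b (nat_lit 10896)])))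
(Tr.lf (Fc.ed (nat_lit 12354) (nat_lit 4032) Col.a (nat_lit 2376) (Dv.wd (nat_lit 15) [Mv.b (nat_lit 12352), Mv.f (nat_lit 7494), Mv.b (nat_lit 12350)]))))))
(Tr.nd (nat_lit 12358) (Tr.nd (nat_lit 12356) (Tr.lf (Fc.al (nat_lit 12355) (nat_lit 2696) (nat_lit 1736) (Dv.wd (nat_lit 134) [Mv.f (nat_lit 9859), Mv.f (nat_lit 12354), Mv.b (nat_lit 7027), Mv.b (nat_lit 7180)])))
(Tr.nd (nat_lit 12357) (Tr.lf (Fc.al (nat_lit 12356) (nat_lit 2668) (nat_lit 2630) (Dv.wd (nat_lit 29) [Mv.b (nat_lit 7180), Mv.f (nat_lit 12355), Mv.f (nat_lit 7115)])))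
(Tr.lf (Fc.al (nat_lit 12357) (nat_lit 2054) (nat_lit 3359) (Dv.wd (nat_lit 119) [Mv.b (nat_lit 8577), Mv.f (nat_lit 12355), Mv.f (nat_lit 5692)])))))
(Tr.nd (nat_lit 12359) (Tr.lf (Fc.al (nat_lit 12358) (nat_lit 3542) (nat_lit 3822) (Dv.wd (nat_lit 120) [Mv.b (nat_lit 10171), Mv.f (nat_lit 12356), Mv.b (nat_lit 10676)])))
(Tr.nd (nat_lit 12360) (Tr.lf (Fc.al (nat_lit 12359) (nat_lit 3885) (nat_lit 3427) (Dv.wd (nat_lit 29) [Mv.f (nat_lit 8720), Mv.b (nat_lit 12357), Mv.f (nat_lit 12233)])))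
(Tr.lf (Fc.al (nat_lit 12360) (nat_lit 3149) (nat_lit 1955) (Dv.wd (nat_lit 30) [Mv.b (nat_lit 8578), Mv.b (nat_lit 12357), Mv.b (nat_lit 8155)])))))))))
(Tr.nd (nat_lit 12381) (Tr.nd (nat_lit 12371) (Tr.nd (nat_lit 12366) (Tr.nd (nat_lit 12363) (Tr.nd (nat_lit 12362) (Tr.lf (Fc.ed (nat_lit 12361) (nat_lit 3542) Col.a (nat_lit 3596) (Dv.wd (nat_lit 29) [Mv.b (nat_lit 9469), Mv.b (nat_lit 12358)])))
(Tr.lf (Fc.al (nat_lit 12362) (nat_lit 3382) (nat_lit 3879) (Dv.wd (nat_lit 30) [Mv.b (nat_lit 12231), Mv.f (nat_lit 12359), Mv.b (nat_lit 8719)]))))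
(Tr.nd (nat_lit 12364) (Tr.lf (Fc.ed (nat_lit 12363) (nat_lit 1955) Col.f (nat_lit 2054) (Dv.wd (nat_lit 30) [Mv.b (nat_lit 8155), Mv.f (nat_lit 12360)])))
(Tr.nd (nat_lit 12365) (Tr.lf (Fc.ed (nat_lit 12364) (nat_lit 3382) Col.b (nat_lit 3965) (Dv.wd (nat_lit 119) [Mv.f (nat_lit 12232), Mv.b (nat_lit 12362)])))
(Tr.lf (Fc.ed (nat_lit 12365) (nat_lit 3382) Col.c (nat_lit 1973) (Dv.wd (nat_lit 103) [Mv.b (nat_lit 12230), Mv.b (nat_lit 12362)]))))))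
(Tr.nd (nat_lit 12368) (Tr.nd (nat_lit 12367) (Tr.lf (Fc.ed (nat_lit 12366) (nat_lit 3752) Col.gi (nat_lit 3629) (Dv.wd (nat_lit 24) [Mv.b (nat_lit 9860), Mv.f (nat_lit 12354), Mv.b (nat_lit 9343)])))
(Tr.lf (Fc.ed (nat_lit 12367) (nat_lit 3629) Col.b (nat_lit 3883) (Dv.wd (nat_lit 154) [Mv.b (nat_lit 9568), Mv.b (nat_lit 12182), Mv.f (nat_lit 7898), Mv.f (nat_lit 9251), Mv.b (nat_lit 12258), Mv.f (nat_lit 12259), Mv.b (nat_lit 9164), Mv.b (nat_lit 9728), Mv.f (nat_lit 10209), Mv.f (nat_lit 12366)]))))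
(Tr.nd (nat_lit 12369) (Tr.lf (Fc.ed (nat_lit 12368) (nat_lit 3883) Col.f (nat_lit 4016) (Dv.wd (nat_lit 20) [Mv.f (nat_lit 10208), Mv.f (nat_lit 9860), Mv.f (nat_lit 12367)])))
(Tr.nd (nat_lit 12370) (Tr.lf (Fc.ed (nat_lit 12369) (nat_lit 4012) Col.f (nat_lit 3941) (Dv.wd (nat_lit 11) [Mv.b (nat_lit 12184), Mv.f (nat_lit 12368), Mv.b (nat_lit 9829)])))
(Tr.lf (Fc.ed (nat_lit 12370) (nat_lit 3877) Col.a (nat_lit 3883) (Dv.wd (nat_lit 114) [Mv.f (nat_lit 12368), Mv.b (nat_lit 10201), Mv.f (nat_lit 12182)])))))))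
(Tr.nd (nat_lit 12376) (Tr.nd (nat_lit 12373) (Tr.nd (nat_lit 12372) (Tr.lf (Fc.ed (nat_lit 12371) (nat_lit 3941) Col.a (nat_lit 3888) (Dv.wd (nat_lit 54) [Mv.b (nat_lit 12183), Mv.f (nat_lit 12370), Mv.f (nat_lit 12184)])))
(Tr.lf (Fc.ed (nat_lit 12372) (nat_lit 1973) Col.a (nat_lit 1961) (Dv.wd (nat_lit 167) [Mv.b (nat_lit 12186), Mv.f (nat_lit 12370), Mv.b (nat_lit 12367), Mv.b (nat_lit 9103), Mv.f (nat_lit 5611)]))))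
(Tr.nd (nat_lit 12374) (Tr.lf (Fc.ed (nat_lit 12373) (nat_lit 2679) Col.a (nat_lit 2429) (Dv.wd (nat_lit 54) [Mv.b (nat_lit 10160), Mv.f (nat_lit 12372), Mv.f (nat_lit 10181)])))
(Tr.nd (nat_lit 12375) (Tr.lf (Fc.ed (nat_lit 12374) (nat_lit 2429) Col.f (nat_lit 3564) (Dv.wd (nat_lit 10) [Mv.b (nat_lit 8989), Mv.f (nat_lit 7142), Mv.f (nat_lit 12373)])))
(Tr.lf (Fc.ed (nat_lit 12375) (nat_lit 3990) Col.f (nat_lit 2919) (Dv.wd (nat_lit 20) [Mv.b (nat_lit 7664), Mv.f (nat_lit 12374), Mv.f (nat_lit 9787)]))))))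
(Tr.nd (nat_lit 12378) (Tr.nd (nat_lit 12377) (Tr.lf (Fc.ed (nat_lit 12376) (nat_lit 3642) Col.c (nat_lit 3990) (Dv.wd (nat_lit 67) [Mv.f (nat_lit 12375), Mv.f (nat_lit 7665), Mv.b (nat_lit 9130)])))
(Tr.lf (Fc.ed (nat_lit 12377) (nat_lit 2694) Col.g (nat_lit 3642) (Dv.wd (nat_lit 77) [Mv.f (nat_lit 12376), Mv.f (nat_lit 12274), Mv.b (nat_lit 7027), Mv.f (nat_lit 7026), Mv.b (nat_lit 4519), Mv.f (nat_lit 4554), Mv.f (nat_lit 10153), Mv.f (nat_lit 5607), Mv.b (nat_lit 7176)]))))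
(Tr.nd (nat_lit 12379) (Tr.lf (Fc.ed (nat_lit 12378) (nat_lit 2025) Col.gi (nat_lit 3642) (Dv.wd (nat_lit 88) [Mv.f (nat_lit 12376), Mv.b (nat_lit 9787), Mv.f (nat_lit 8990), Mv.b (nat_lit 3763), Mv.b (nat_lit 842), Mv.b (nat_lit 583), Mv.b (nat_lit 478), Mv.b (nat_lit 582), Mv.b (nat_lit 2950), Mv.f (nat_lit 5631)])))
(Tr.nd (nat_lit 12380) (Tr.lf (Fc.ed (nat_lit 12379) (nat_lit 4094) Col.b (nat_lit 3735) (Dv.wd (nat_lit 154) [Mv.b (nat_lit 9315), Mv.f (nat_lit 5976), Mv.b (nat_lit 3639), Mv.b (nat_lit 930), Mv.b (nat_lit 582), Mv.b (nat_lit 2950), Mv.f (nat_lit 5631), Mv.f (nat_lit 12378), Mv.f (nat_lit 12376), Mv.f (nat_lit 10562)])))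
(Tr.lf (Fc.ed (nat_lit 12380) (nat_lit 3821) Col.gi (nat_lit 3990) (Dv.wd (nat_lit 50) [Mv.b (nat_lit 12376), Mv.b (nat_lit 12378), Mv.b (nat_lit 10571), Mv.f (nat_lit 10572), Mv.b (nat_lit 10671), Mv.f (nat_lit 9540), Mv.b (nat_lit 10258), Mv.b (nat_lit 10639), Mv.f (nat_lit 10644)]))))))))
(Tr.nd (nat_lit 12391) (Tr.nd (nat_lit 12386) (Tr.nd (nat_lit 12383) (Tr.nd (nat_lit 12382) (Tr.lf (Fc.ed (nat_lit 12381) (nat_lit 4094) Col.f (nat_lit 3142) (Dv.wd (nat_lit 13) [Mv.b (nat_lit 10460), Mv.f (nat_lit 12380), Mv.f (nat_lit 10562)])))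
(Tr.lf (Fc.ed (nat_lit 12382) (nat_lit 3898) Col.a (nat_lit 4094) (Dv.wd (nat_lit 79) [Mv.f (nat_lit 12381), Mv.b (nat_lit 10460), Mv.b (nat_lit 9592)]))))
(Tr.nd (nat_lit 12384) (Tr.lf (Fc.ed (nat_lit 12383) (nat_lit 2914) Col.a (nat_lit 3458) (Dv.wd (nat_lit 23) [Mv.f (nat_lit 8777), Mv.f (nat_lit 12378), Mv.f (nat_lit 9130)])))
(Tr.nd (nat_lit 12385) (Tr.lf (Fc.ed (nat_lit 12384) (nat_lit 3458) Col.f (nat_lit 3494) (Dv.wd (nat_lit 35) [Mv.f (nat_lit 9129), Mv.f (nat_lit 9130), Mv.f (nat_lit 12383)])))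
(Tr.lf (Fc.ed (nat_lit 12385) (nat_lit 3888) Col.f (nat_lit 3859) (Dv.wd (nat_lit 10) [Mv.f (nat_lit 10459), Mv.f (nat_lit 10472), Mv.f (nat_lit 12371)]))))))
(Tr.nd (nat_lit 12388) (Tr.nd (nat_lit 12387) (Tr.lf (Fc.ed (nat_lit 12386) (nat_lit 4012) Col.a (nat_lit 3859) (Dv.wd (nat_lit 79) [Mv.b (nat_lit 12385), Mv.b (nat_lit 12371), Mv.b (nat_lit 12369)])))
(Tr.lf (Fc.ed (nat_lit 12387) (nat_lit 3984) Col.a (nat_lit 4248) (Dv.wd (nat_lit 76) [Mv.b (nat_lit 10925), Mv.f (nat_lit 12386), Mv.f (nat_lit 9780)]))))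
(Tr.nd (nat_lit 12389) (Tr.lf (Fc.ed (nat_lit 12388) (nat_lit 4248) Col.f (nat_lit 4096) (Dv.wd (nat_lit 10) [Mv.f (nat_lit 10567), Mv.b (nat_lit 10457), Mv.f (nat_lit 12387)])))
(Tr.nd (nat_lit 12390) (Tr.lf (Fc.ed (nat_lit 12389) (nat_lit 4598) Col.f (nat_lit 4616) (Dv.wd (nat_lit 11) [Mv.f (nat_lit 11713), Mv.f (nat_lit 12388), Mv.b (nat_lit 11683)])))
(Tr.lf (Fc.ed (nat_lit 12390) (nat_lit 4040) Col.f (nat_lit 4071) (Dv.wd (nat_lit 11) [Mv.f (nat_lit 10331), Mv.f (nat_lit 12363), Mv.f (nat_lit 9871)])))))))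
(Tr.nd (nat_lit 12396) (Tr.nd (nat_lit 12393) (Tr.nd (nat_lit 12392) (Tr.lf (Fc.ed (nat_lit 12391) (nat_lit 4713) Col.a (nat_lit 4040) (Dv.wd (nat_lit 79) [Mv.f (nat_lit 12390), Mv.b (nat_lit 11421), Mv.b (nat_lit 11898)])))
(Tr.lf (Fc.al (nat_lit 12392) (nat_lit 3953) (nat_lit 881) (Dv.wd (nat_lit 127) [Mv.f (nat_lit 4703), Mv.f (nat_lit 12353), Mv.b (nat_lit 5460), Mv.f (nat_lit 9729)]))))
(Tr.nd (nat_lit 12394) (Tr.lf (Fc.ed (nat_lit 12393) (nat_lit 881) Col.f (nat_lit 3893) (Dv.wd (nat_lit 30) [Mv.b (nat_lit 10300), Mv.f (nat_lit 12392)])))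
(Tr.nd (nat_lit 12395) (Tr.lf (Fc.ed (nat_lit 12394) (nat_lit 1867) Col.e (nat_lit 1635) (Dv.wd (nat_lit 25) [Mv.f (nat_lit 4794), Mv.f (nat_lit 12353), Mv.f (nat_lit 10191)])))
(Tr.lf (Fc.ed (nat_lit 12395) (nat_lit 3067) Col.e (nat_lit 2756) (Dv.wd (nat_lit 57) [Mv.b (nat_lit 7307), Mv.f (nat_lit 12353), Mv.b (nat_lit 10266), Mv.f (nat_lit 10169), Mv.f (nat_lit 10294)]))))))
(Tr.nd (nat_lit 12399) (Tr.nd (nat_lit 12397) (Tr.lf (Fc.ed (nat_lit 12396) (nat_lit 2756) Col.b (nat_lit 3893) (Dv.wd (nat_lit 49) [Mv.b (nat_lit 9583), Mv.f (nat_lit 7980), Mv.f (nat_lit 12395)])))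
(Tr.nd (nat_lit 12398) (Tr.lf (Fc.ed (nat_lit 12397) (nat_lit 2756) Col.c (nat_lit 3929) (Dv.wd (nat_lit 18) [Mv.f (nat_lit 10173), Mv.b (nat_lit 7981), Mv.f (nat_lit 12395)])))
(Tr.lf (Fc.ed (nat_lit 12398) (nat_lit 3929) Col.f (nat_lit 1635) (Dv.wd (nat_lit 26) [Mv.f (nat_lit 4794), Mv.f (nat_lit 7307), Mv.f (nat_lit 12397)])))))
(Tr.nd (nat_lit 12400) (Tr.lf (Fc.ed (nat_lit 12399) (nat_lit 1635) Col.a (nat_lit 2237) (Dv.wd (nat_lit 15) [Mv.f (nat_lit 12347), Mv.b (nat_lit 10261), Mv.f (nat_lit 12394)])))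
(Tr.nd (nat_lit 12401) (Tr.lf (Fc.ed (nat_lit 12400) (nat_lit 1811) Col.gi (nat_lit 3929) (Dv.wd (nat_lit 24) [Mv.f (nat_lit 12398), Mv.f (nat_lit 12399), Mv.b (nat_lit 6146)])))
(Tr.lf (Fc.ed (nat_lit 12401) (nat_lit 3929) Col.gi (nat_lit 2910) (Dv.wd (nat_lit 24) [Mv.f (nat_lit 8162), Mv.f (nat_lit 8163), Mv.f (nat_lit 12400)]))))))))))
(Tr.nd (nat_lit 12443) (Tr.nd (nat_lit 12422) (Tr.nd (nat_lit 12412) (Tr.nd (nat_lit 12407) (Tr.nd (nat_lit 12404) (Tr.nd (nat_lit 12403) (Tr.lf (Fc.al (nat_lit 12402) (nat_lit 3893) (nat_lit 834) (Dv.wd (nat_lit 100) [Mv.f (nat_lit 2383), Mv.b (nat_lit 922), Mv.f (nat_lit 248), Mv.b (nat_lit 250), Mv.f (nat_lit 597), Mv.f (nat_lit 1645), Mv.f (nat_lit 4694), Mv.b (nat_lit 5191), Mv.f (nat_lit 12400), Mv.b (nat_lit 12397), Mv.f (nat_lit 12396)])))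
(Tr.lf (Fc.ed (nat_lit 12403) (nat_lit 834) Col.a (nat_lit 3909) (Dv.wd (nat_lit 29) [Mv.f (nat_lit 9613), Mv.f (nat_lit 12402)]))))
(Tr.nd (nat_lit 12405) (Tr.lf (Fc.ed (nat_lit 12404) (nat_lit 834) Col.e (nat_lit 2223) (Dv.wd (nat_lit 117) [Mv.f (nat_lit 9583), Mv.f (nat_lit 12402)])))
(Tr.nd (nat_lit 12406) (Tr.lf (Fc.ed (nat_lit 12405) (nat_lit 834) Col.f (nat_lit 881) (Dv.wd (nat_lit 30) [Mv.f (nat_lit 12393), Mv.f (nat_lit 12402)])))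
(Tr.lf (Fc.al (nat_lit 12406) (nat_lit 999) (nat_lit 3909) (Dv.wd (nat_lit 79) [Mv.b (nat_lit 12403), Mv.f (nat_lit 12405), Mv.f (nat_lit 3795), Mv.f (nat_lit 3796)]))))))
(Tr.nd (nat_lit 12409) (Tr.nd (nat_lit 12408) (Tr.lf (Fc.al (nat_lit 12407) (nat_lit 3806) (nat_lit 2986) (Dv.wd (nat_lit 117) [Mv.f (nat_lit 9612), Mv.b (nat_lit 12406), Mv.f (nat_lit 9439)])))
(Tr.lf (Fc.ed (nat_lit 12408) (nat_lit 2986) Col.e (nat_lit 999) (Dv.wd (nat_lit 117) [Mv.f (nat_lit 9439), Mv.f (nat_lit 12407)]))))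
(Tr.nd (nat_lit 12410) (Tr.lf (Fc.al (nat_lit 12409) (nat_lit 1231) (nat_lit 1059) (Dv.wd (nat_lit 12) [Mv.b (nat_lit 3279), Mv.f (nat_lit 2382), Mv.f (nat_lit 12405), Mv.f (nat_lit 3795)])))
(Tr.nd (nat_lit 12411) (Tr.lf (Fc.al (nat_lit 12410) (nat_lit 1556) (nat_lit 999) (Dv.wd (nat_lit 30) [Mv.b (nat_lit 3796), Mv.f (nat_lit 12409), Mv.f (nat_lit 4618)])))
(Tr.lf (Fc.ed (nat_lit 12411) (nat_lit 999) Col.f (nat_lit 1059) (Dv.wd (nat_lit 30) [Mv.f (nat_lit 4618), Mv.f (nat_lit 12410)])))))))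
(Tr.nd (nat_lit 12417) (Tr.nd (nat_lit 12414) (Tr.nd (nat_lit 12413) (Tr.lf (Fc.ed (nat_lit 12412) (nat_lit 1059) Col.e (nat_lit 2264) (Dv.wd (nat_lit 22) [Mv.f (nat_lit 6209), Mv.b (nat_lit 10219), Mv.b (nat_lit 7799), Mv.f (nat_lit 12408), Mv.f (nat_lit 12411)])))
(Tr.lf (Fc.ed (nat_lit 12413) (nat_lit 2568) Col.d (nat_lit 1490) (Dv.wd (nat_lit 68) [Mv.f (nat_lit 4478), Mv.b (nat_lit 3322), Mv.f (nat_lit 2266), Mv.f (nat_lit 3279), Mv.f (nat_lit 12412), Mv.b (nat_lit 10280), Mv.b (nat_lit 5965), Mv.f (nat_lit 3200), Mv.b (nat_lit 3483), Mv.f (nat_lit 6891)]))))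
(Tr.nd (nat_lit 12415) (Tr.lf (Fc.al (nat_lit 12414) (nat_lit 3988) (nat_lit 2440) (Dv.wd (nat_lit 54) [Mv.b (nat_lit 10291), Mv.f (nat_lit 12413), Mv.b (nat_lit 6216), Mv.f (nat_lit 9784)])))
(Tr.nd (nat_lit 12416) (Tr.lf (Fc.ed (nat_lit 12415) (nat_lit 2440) Col.d (nat_lit 1610) (Dv.wd (nat_lit 120) [Mv.f (nat_lit 9784), Mv.f (nat_lit 12414)])))
(Tr.lf (Fc.al (nat_lit 12416) (nat_lit 3884) (nat_lit 2223) (Dv.wd (nat_lit 86) [Mv.f (nat_lit 10292), Mv.f (nat_lit 12413), Mv.b (nat_lit 6215), Mv.f (nat_lit 9569)]))))))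
(Tr.nd (nat_lit 12419) (Tr.nd (nat_lit 12418) (Tr.lf (Fc.ed (nat_lit 12417) (nat_lit 2223) Col.d (nat_lit 2266) (Dv.wd (nat_lit 120) [Mv.f (nat_lit 9569), Mv.f (nat_lit 12416)])))
(Tr.lf (Fc.ed (nat_lit 12418) (nat_lit 4130) Col.e (nat_lit 2159) (Dv.wd (nat_lit 40) [Mv.b (nat_lit 10166), Mv.b (nat_lit 10168), Mv.f (nat_lit 12413), Mv.f (nat_lit 6868), Mv.f (nat_lit 10630)]))))
(Tr.nd (nat_lit 12420) (Tr.lf (Fc.ed (nat_lit 12419) (nat_lit 4195) Col.gi (nat_lit 2631) (Dv.wd (nat_lit 132) [Mv.f (nat_lit 7030), Mv.f (nat_lit 6247), Mv.b (nat_lit 6892), Mv.f (nat_lit 12413), Mv.b (nat_lit 4477), Mv.f (nat_lit 2080), Mv.b (nat_lit 1529), Mv.f (nat_lit 1881), Mv.b (nat_lit 4197), Mv.f (nat_lit 10829)])))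
(Tr.nd (nat_lit 12421) (Tr.lf (Fc.ed (nat_lit 12420) (nat_lit 3019) Col.f (nat_lit 4349) (Dv.wd (nat_lit 13) [Mv.b (nat_lit 11160), Mv.f (nat_lit 12419), Mv.f (nat_lit 7869)])))
(Tr.lf (Fc.ed (nat_lit 12421) (nat_lit 2576) Col.gi (nat_lit 4195) (Dv.wd (nat_lit 12) [Mv.f (nat_lit 12419), Mv.b (nat_lit 7435), Mv.b (nat_lit 7434)]))))))))
(Tr.nd (nat_lit 12432) (Tr.nd (nat_lit 12427) (Tr.nd (nat_lit 12424) (Tr.nd (nat_lit 12423) (Tr.lf (Fc.ed (nat_lit 12422) (nat_lit 4195) Col.f (nat_lit 4611) (Dv.wd (nat_lit 13) [Mv.b (nat_lit 11703), Mv.f (nat_lit 7870), Mv.f (nat_lit 12421)])))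
(Tr.lf (Fc.ed (nat_lit 12423) (nat_lit 4647) Col.a (nat_lit 4130) (Dv.wd (nat_lit 31) [Mv.f (nat_lit 12418), Mv.b (nat_lit 10274), Mv.f (nat_lit 11768)]))))
(Tr.nd (nat_lit 12425) (Tr.lf (Fc.ed (nat_lit 12424) (nat_lit 3316) Col.d (nat_lit 4647) (Dv.wd (nat_lit 97) [Mv.f (nat_lit 12423), Mv.b (nat_lit 10630), Mv.b (nat_lit 8484)])))
(Tr.nd (nat_lit 12426) (Tr.lf (Fc.ed (nat_lit 12425) (nat_lit 1442) Col.d (nat_lit 2986) (Dv.wd (nat_lit 28) [Mv.b (nat_lit 7798), Mv.f (nat_lit 12417), Mv.b (nat_lit 6214)])))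
(Tr.lf (Fc.al (nat_lit 12426) (nat_lit 2266) (nat_lit 1625) (Dv.wd (nat_lit 71) [Mv.b (nat_lit 4775), Mv.f (nat_lit 2043), Mv.f (nat_lit 1826), Mv.f (nat_lit 3130), Mv.b (nat_lit 12408), Mv.b (nat_lit 12425), Mv.b (nat_lit 4348), Mv.b (nat_lit 3322), Mv.f (nat_lit 2382), Mv.f (nat_lit 12404), Mv.f (nat_lit 12417)]))))))
(Tr.nd (nat_lit 12429) (Tr.nd (nat_lit 12428) (Tr.lf (Fc.ed (nat_lit 12427) (nat_lit 1625) Col.a (nat_lit 1442) (Dv.wd (nat_lit 29) [Mv.f (nat_lit 6214), Mv.f (nat_lit 12426)])))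
(Tr.lf (Fc.al (nat_lit 12428) (nat_lit 3858) (nat_lit 2223) (Dv.wd (nat_lit 120) [Mv.f (nat_lit 12417), Mv.f (nat_lit 12426), Mv.f (nat_lit 9529)]))))
(Tr.nd (nat_lit 12430) (Tr.lf (Fc.ed (nat_lit 12429) (nat_lit 2223) Col.d (nat_lit 1625) (Dv.wd (nat_lit 120) [Mv.f (nat_lit 9529), Mv.f (nat_lit 12428)])))
(Tr.nd (nat_lit 12431) (Tr.lf (Fc.ed (nat_lit 12430) (nat_lit 2903) Col.d (nat_lit 4109) (Dv.wd (nat_lit 53) [Mv.b (nat_lit 10594), Mv.b (nat_lit 9137), Mv.f (nat_lit 8257), Mv.b (nat_lit 6113), Mv.b (nat_lit 6121), Mv.f (nat_lit 12429), Mv.b (nat_lit 4775), Mv.f (nat_lit 4402), Mv.f (nat_lit 4403), Mv.f (nat_lit 7632)])))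
(Tr.lf (Fc.ed (nat_lit 12431) (nat_lit 1610) Col.g (nat_lit 697) (Dv.wd (nat_lit 17) [Mv.f (nat_lit 4775), Mv.f (nat_lit 12427), Mv.f (nat_lit 4734)])))))))
(Tr.nd (nat_lit 12437) (Tr.nd (nat_lit 12434) (Tr.nd (nat_lit 12433) (Tr.lf (Fc.ed (nat_lit 12432) (nat_lit 1074) Col.f (nat_lit 2927) (Dv.wd (nat_lit 10) [Mv.f (nat_lit 7680), Mv.f (nat_lit 12431), Mv.b (nat_lit 3323)])))
(Tr.lf (Fc.ed (nat_lit 12433) (nat_lit 2927) Col.a (nat_lit 708) (Dv.wd (nat_lit 16) [Mv.f (nat_lit 2079), Mv.b (nat_lit 3323), Mv.f (nat_lit 12432)]))))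
(Tr.nd (nat_lit 12435) (Tr.lf (Fc.ed (nat_lit 12434) (nat_lit 677) Col.e (nat_lit 2927) (Dv.wd (nat_lit 72) [Mv.f (nat_lit 12433), Mv.f (nat_lit 2080), Mv.b (nat_lit 1989)])))
(Tr.nd (nat_lit 12436) (Tr.lf (Fc.ed (nat_lit 12435) (nat_lit 4322) Col.d (nat_lit 931) (Dv.wd (nat_lit 91) [Mv.b (nat_lit 2953), Mv.f (nat_lit 1988), Mv.f (nat_lit 12434), Mv.f (nat_lit 7680), Mv.b (nat_lit 12415), Mv.f (nat_lit 6594), Mv.f (nat_lit 3908), Mv.b (nat_lit 4272), Mv.b (nat_lit 9228), Mv.f (nat_lit 11104)])))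
(Tr.lf (Fc.ed (nat_lit 12436) (nat_lit 3196) Col.d (nat_lit 3170) (Dv.wd (nat_lit 58) [Mv.b (nat_lit 8198), Mv.f (nat_lit 12415), Mv.f (nat_lit 8250)]))))))
(Tr.nd (nat_lit 12440) (Tr.nd (nat_lit 12438) (Tr.lf (Fc.ed (nat_lit 12437) (nat_lit 4276) Col.gi (nat_lit 3196) (Dv.wd (nat_lit 111) [Mv.f (nat_lit 12436), Mv.f (nat_lit 10527), Mv.b (nat_lit 5795), Mv.b (nat_lit 5789), Mv.b (nat_lit 3208), Mv.f (nat_lit 5030), Mv.f (nat_lit 12020), Mv.b (nat_lit 9132), Mv.b (nat_lit 12152)])))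
(Tr.nd (nat_lit 12439) (Tr.lf (Fc.ed (nat_lit 12438) (nat_lit 3976) Col.g (nat_lit 3196) (Dv.wd (nat_lit 55) [Mv.f (nat_lit 12436), Mv.b (nat_lit 10373), Mv.b (nat_lit 10496), Mv.f (nat_lit 12156), Mv.b (nat_lit 9753), Mv.b (nat_lit 12194), Mv.b (nat_lit 12191), Mv.b (nat_lit 12344), Mv.b (nat_lit 10779), Mv.f (nat_lit 9768)])))
(Tr.lf (Fc.ed (nat_lit 12439) (nat_lit 3053) Col.d (nat_lit 3321) (Dv.wd (nat_lit 51) [Mv.b (nat_lit 8496), Mv.b (nat_lit 4037), Mv.b (nat_lit 3925), Mv.f (nat_lit 4329), Mv.b (nat_lit 8180), Mv.f (nat_lit 9689), Mv.f (nat_lit 12401), Mv.b (nat_lit 7648), Mv.f (nat_lit 7949)])))))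
(Tr.nd (nat_lit 12441) (Tr.lf (Fc.ed (nat_lit 12440) (nat_lit 1859) Col.e (nat_lit 2190) (Dv.wd (nat_lit 47) [Mv.b (nat_lit 12114), Mv.b (nat_lit 7122), Mv.f (nat_lit 7119), Mv.b (nat_lit 7486), Mv.f (nat_lit 7949), Mv.f (nat_lit 12439), Mv.b (nat_lit 8496), Mv.b (nat_lit 4037), Mv.f (nat_lit 3085), Mv.b (nat_lit 5292)])))
(Tr.nd (nat_lit 12442) (Tr.lf (Fc.ed (nat_lit 12441) (nat_lit 2915) Col.d (nat_lit 4259) (Dv.wd (nat_lit 53) [Mv.b (nat_lit 10964), Mv.b (nat_lit 9792), Mv.b (nat_lit 7132), Mv.f (nat_lit 4924), Mv.b (nat_lit 7950), Mv.f (nat_lit 12439), Mv.f (nat_lit 8497), Mv.b (nat_lit 6466), Mv.b (nat_lit 6481), Mv.b (nat_lit 7657)])))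
(Tr.lf (Fc.ed (nat_lit 12442) (nat_lit 2379) Col.e (nat_lit 3406) (Dv.wd (nat_lit 52) [Mv.f (nat_lit 12259), Mv.f (nat_lit 12440), Mv.f (nat_lit 6470)])))))))))
(Tr.nd (nat_lit 12464) (Tr.nd (nat_lit 12453) (Tr.nd (nat_lit 12448) (Tr.nd (nat_lit 12445) (Tr.nd (nat_lit 12444) (Tr.lf (Fc.ed (nat_lit 12443) (nat_lit 3202) Col.e (nat_lit 1921) (Dv.wd (nat_lit 70) [Mv.f (nat_lit 12249), Mv.b (nat_lit 2165), Mv.f (nat_lit 2280), Mv.b (nat_lit 5213), Mv.b (nat_lit 10154), Mv.f (nat_lit 12440), Mv.b (nat_lit 6516), Mv.b (nat_lit 7119), Mv.f (nat_lit 8012), Mv.f (nat_lit 12110)])))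
(Tr.lf (Fc.ed (nat_lit 12444) (nat_lit 3202) Col.a (nat_lit 2190) (Dv.wd (nat_lit 31) [Mv.b (nat_lit 12440), Mv.b (nat_lit 5414), Mv.b (nat_lit 12443)]))))
(Tr.nd (nat_lit 12446) (Tr.lf (Fc.ed (nat_lit 12445) (nat_lit 2512) Col.a (nat_lit 3082) (Dv.wd (nat_lit 54) [Mv.f (nat_lit 12110), Mv.f (nat_lit 12444), Mv.b (nat_lit 12114)])))
(Tr.nd (nat_lit 12447) (Tr.lf (Fc.ed (nat_lit 12446) (nat_lit 4129) Col.g (nat_lit 4090) (Dv.wd (nat_lit 38) [Mv.b (nat_lit 9963), Mv.b (nat_lit 9754), Mv.f (nat_lit 6775), Mv.f (nat_lit 7036), Mv.f (nat_lit 12352), Mv.f (nat_lit 9873), Mv.f (nat_lit 11997), Mv.f (nat_lit 11996), Mv.f (nat_lit 10306), Mv.f (nat_lit 10628)])))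
(Tr.lf (Fc.ed (nat_lit 12447) (nat_lit 4499) Col.b (nat_lit 4192) (Dv.wd (nat_lit 37) [Mv.b (nat_lit 12136), Mv.f (nat_lit 12137), Mv.f (nat_lit 12351)]))))))
(Tr.nd (nat_lit 12450) (Tr.nd (nat_lit 12449) (Tr.lf (Fc.ed (nat_lit 12448) (nat_lit 4192) Col.e (nat_lit 4012) (Dv.wd (nat_lit 52) [Mv.b (nat_lit 10212), Mv.f (nat_lit 11496), Mv.f (nat_lit 12447)])))
(Tr.lf (Fc.ed (nat_lit 12449) (nat_lit 3859) Col.e (nat_lit 4131) (Dv.wd (nat_lit 56) [Mv.f (nat_lit 10824), Mv.f (nat_lit 12448), Mv.f (nat_lit 12386)]))))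
(Tr.nd (nat_lit 12451) (Tr.lf (Fc.ed (nat_lit 12450) (nat_lit 4486) Col.d (nat_lit 4651) (Dv.wd (nat_lit 99) [Mv.b (nat_lit 11774), Mv.f (nat_lit 12336), Mv.b (nat_lit 12180), Mv.b (nat_lit 12188), Mv.f (nat_lit 11474)])))
(Tr.nd (nat_lit 12452) (Tr.lf (Fc.ed (nat_lit 12451) (nat_lit 4158) Col.d (nat_lit 3232) (Dv.wd (nat_lit 36) [Mv.b (nat_lit 10356), Mv.f (nat_lit 10355), Mv.f (nat_lit 12012), Mv.b (nat_lit 10112), Mv.f (nat_lit 10764)])))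
(Tr.lf (Fc.ed (nat_lit 12452) (nat_lit 4078) Col.a (nat_lit 4158) (Dv.wd (nat_lit 54) [Mv.f (nat_lit 12451), Mv.b (nat_lit 8329), Mv.b (nat_lit 12155)])))))))
(Tr.nd (nat_lit 12458) (Tr.nd (nat_lit 12455) (Tr.nd (nat_lit 12454) (Tr.lf (Fc.ed (nat_lit 12453) (nat_lit 2955) Col.d (nat_lit 1465) (Dv.wd (nat_lit 58) [Mv.f (nat_lit 10299), Mv.f (nat_lit 12008), Mv.f (nat_lit 7734)])))
(Tr.lf (Fc.ed (nat_lit 12454) (nat_lit 3798) Col.a (nat_lit 2955) (Dv.wd (nat_lit 54) [Mv.f (nat_lit 12453), Mv.b (nat_lit 7904), Mv.f (nat_lit 9425)]))))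
(Tr.nd (nat_lit 12456) (Tr.lf (Fc.ed (nat_lit 12455) (nat_lit 3637) Col.f (nat_lit 4743) Dv.df))
(Tr.nd (nat_lit 12457) (Tr.lf (Fc.ed (nat_lit 12456) (nat_lit 4157) Col.a (nat_lit 4744) Dv.df))
(Tr.lf (Fc.ed (nat_lit 12457) (nat_lit 4744) Col.f (nat_lit 2835) (Dv.wd (nat_lit 35) [Mv.b (nat_lit 11717), Mv.b (nat_lit 11716), Mv.f (nat_lit 12456)]))))))
(Tr.nd (nat_lit 12461) (Tr.nd (nat_lit 12459) (Tr.lf (Fc.ed (nat_lit 12458) (nat_lit 4293) Col.c (nat_lit 4745) Dv.df))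
(Tr.nd (nat_lit 12460) (Tr.lf (Fc.ed (nat_lit 12459) (nat_lit 2401) Col.d (nat_lit 4746) Dv.df))
(Tr.lf (Fc.ed (nat_lit 12460) (nat_lit 4746) Col.a (nat_lit 4635) (Dv.wd (nat_lit 8) [Mv.f (nat_lit 11751), Mv.b (nat_lit 9158), Mv.f (nat_lit 12459)])))))
(Tr.nd (nat_lit 12462) (Tr.lf (Fc.ed (nat_lit 12461) (nat_lit 4530) Col.g (nat_lit 4747) Dv.df))
(Tr.nd (nat_lit 12463) (Tr.lf (Fc.ed (nat_lit 12462) (nat_lit 4747) Col.g (nat_lit 2501) (Dv.wd (nat_lit 9) [Mv.f (nat_lit 9929), Mv.f (nat_lit 11552), Mv.f (nat_lit 12461)])))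
(Tr.lf (Fc.ed (nat_lit 12463) (nat_lit 3768) Col.gi (nat_lit 4748) Dv.df)))))))
(Tr.nd (nat_lit 12474) (Tr.nd (nat_lit 12469) (Tr.nd (nat_lit 12466) (Tr.nd (nat_lit 12465) (Tr.lf (Fc.ed (nat_lit 12464) (nat_lit 4748) Col.gi (nat_lit 2016) (Dv.wd (nat_lit 24) [Mv.f (nat_lit 7693), Mv.b (nat_lit 9370), Mv.f (nat_lit 12463)])))
(Tr.lf (Fc.ed (nat_lit 12465) (nat_lit 3731) Col.gi (nat_lit 4749) Dv.df)))
(Tr.nd (nat_lit 12467) (Tr.lf (Fc.ed (nat_lit 12466) (nat_lit 4749) Col.gi (nat_lit 2866) (Dv.wd (nat_lit 24) [Mv.f (nat_lit 7549), Mv.f (nat_lit 9306), Mv.f (nat_lit 12465)])))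
(Tr.nd (nat_lit 12468) (Tr.lf (Fc.ed (nat_lit 12467) (nat_lit 4589) Col.c (nat_lit 4750) Dv.df))
(Tr.lf (Fc.ed (nat_lit 12468) (nat_lit 4750) Col.b (nat_lit 4715) (Dv.wd (nat_lit 101) [Mv.b (nat_lit 11902), Mv.b (nat_lit 4690), Mv.b (nat_lit 3369), Mv.b (nat_lit 3911), Mv.b (nat_lit 4057), Mv.b (nat_lit 3949), Mv.f (nat_lit 5343), Mv.f (nat_lit 6329), Mv.b (nat_lit 11666), Mv.f (nat_lit 12467)]))))))
(Tr.nd (nat_lit 12471) (Tr.nd (nat_lit 12470) (Tr.lf (Fc.ed (nat_lit 12469) (nat_lit 1739) Col.a (nat_lit 4751) Dv.df))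
(Tr.lf (Fc.ed (nat_lit 12470) (nat_lit 4707) Col.g (nat_lit 4752) Dv.df)))
(Tr.nd (nat_lit 12472) (Tr.lf (Fc.ed (nat_lit 12471) (nat_lit 4752) Col.c (nat_lit 3967) (Dv.wd (nat_lit 115) [Mv.b (nat_lit 9750), Mv.b (nat_lit 12194), Mv.f (nat_lit 12192), Mv.b (nat_lit 9746), Mv.f (nat_lit 8811), Mv.b (nat_lit 5879), Mv.f (nat_lit 4655), Mv.f (nat_lit 5787), Mv.f (nat_lit 11884), Mv.f (nat_lit 12470)])))
(Tr.nd (nat_lit 12473) (Tr.lf (Fc.ed (nat_lit 12472) (nat_lit 3260) Col.a (nat_lit 4753) Dv.df))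
(Tr.lf (Fc.ed (nat_lit 12473) (nat_lit 4753) Col.c (nat_lit 3547) (Dv.wd (nat_lit 33) [Mv.f (nat_lit 8956), Mv.f (nat_lit 8376), Mv.f (nat_lit 12472)])))))))
(Tr.nd (nat_lit 12479) (Tr.nd (nat_lit 12476) (Tr.nd (nat_lit 12475) (Tr.lf (Fc.ed (nat_lit 12474) (nat_lit 4753) Col.f (nat_lit 3384) (Dv.wd (nat_lit 35) [Mv.b (nat_lit 8628), Mv.b (nat_lit 8377), Mv.f (nat_lit 12472)])))
(Tr.lf (Fc.ed (nat_lit 12475) (nat_lit 1872) Col.b (nat_lit 4754) Dv.df)))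
(Tr.nd (nat_lit 12477) (Tr.lf (Fc.ed (nat_lit 12476) (nat_lit 2688) Col.c (nat_lit 4755) Dv.df))
(Tr.nd (nat_lit 12478) (Tr.lf (Fc.ed (nat_lit 12477) (nat_lit 3248) Col.a (nat_lit 4756) Dv.df))
(Tr.lf (Fc.ed (nat_lit 12478) (nat_lit 4700) Col.g (nat_lit 4757) Dv.df)))))
(Tr.nd (nat_lit 12482) (Tr.nd (nat_lit 12480) (Tr.lf (Fc.ed (nat_lit 12479) (nat_lit 4655) Col.d (nat_lit 4758) Dv.df))
(Tr.nd (nat_lit 12481) (Tr.lf (Fc.ed (nat_lit 12480) (nat_lit 4758) Col.b (nat_lit 4509) (Dv.wd (nat_lit 37) [Mv.b (nat_lit 11512), Mv.f (nat_lit 11781), Mv.f (nat_lit 12479)])))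
(Tr.lf (Fc.ed (nat_lit 12481) (nat_lit 3954) Col.d (nat_lit 4759) Dv.df))))
(Tr.nd (nat_lit 12483) (Tr.lf (Fc.ed (nat_lit 12482) (nat_lit 1605) Col.gi (nat_lit 4760) Dv.df))
(Tr.nd (nat_lit 12484) (Tr.lf (Fc.ed (nat_lit 12483) (nat_lit 4760) Col.gi (nat_lit 3395) (Dv.wd (nat_lit 24) [Mv.b (nat_lit 8650), Mv.f (nat_lit 5763), Mv.f (nat_lit 12482)])))
(Tr.lf (Fc.ed (nat_lit 12484) (nat_lit 4642) Col.gi (nat_lit 4761) Dv.df))))))))))))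
(Tr.nd (nat_lit 12813) (Tr.nd (nat_lit 12649) (Tr.nd (nat_lit 12567) (Tr.nd (nat_lit 12526) (Tr.nd (nat_lit 12505) (Tr.nd (nat_lit 12495) (Tr.nd (nat_lit 12490) (Tr.nd (nat_lit 12487) (Tr.nd (nat_lit 12486) (Tr.lf (Fc.ed (nat_lit 12485) (nat_lit 4634) Col.b (nat_lit 4762) Dv.df))
(Tr.lf (Fc.ed (nat_lit 12486) (nat_lit 4762) Col.e (nat_lit 3821) (Dv.wd (nat_lit 52) [Mv.b (nat_lit 9467), Mv.b (nat_lit 11749), Mv.f (nat_lit 12485)]))))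
(Tr.nd (nat_lit 12488) (Tr.lf (Fc.ed (nat_lit 12487) (nat_lit 3995) Col.f (nat_lit 4763) Dv.df))
(Tr.nd (nat_lit 12489) (Tr.lf (Fc.ed (nat_lit 12488) (nat_lit 4763) Col.b (nat_lit 3726) (Dv.wd (nat_lit 66) [Mv.f (nat_lit 9296), Mv.b (nat_lit 9794), Mv.f (nat_lit 12487)])))
(Tr.lf (Fc.ed (nat_lit 12489) (nat_lit 4763) Col.c (nat_lit 4531) (Dv.wd (nat_lit 34) [Mv.f (nat_lit 11554), Mv.f (nat_lit 9793), Mv.f (nat_lit 12487)]))))))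
(Tr.nd (nat_lit 12492) (Tr.nd (nat_lit 12491) (Tr.lf (Fc.ed (nat_lit 12490) (nat_lit 4736) Col.e (nat_lit 4764) Dv.df))
(Tr.lf (Fc.ed (nat_lit 12491) (nat_lit 2325) Col.b (nat_lit 4765) Dv.df)))
(Tr.nd (nat_lit 12493) (Tr.lf (Fc.ed (nat_lit 12492) (nat_lit 4251) Col.e (nat_lit 4766) Dv.df))
(Tr.nd (nat_lit 12494) (Tr.lf (Fc.ed (nat_lit 12493) (nat_lit 4766) Col.d (nat_lit 4240) (Dv.wd (nat_lit 59) [Mv.b (nat_lit 10911), Mv.f (nat_lit 4045), Mv.b (nat_lit 5065), Mv.b (nat_lit 10935), Mv.f (nat_lit 12492)])))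
(Tr.lf (Fc.ed (nat_lit 12494) (nat_lit 4498) Col.e (nat_lit 4767) Dv.df))))))
(Tr.nd (nat_lit 12500) (Tr.nd (nat_lit 12497) (Tr.nd (nat_lit 12496) (Tr.lf (Fc.ed (nat_lit 12495) (nat_lit 4513) Col.g (nat_lit 4768) Dv.df))
(Tr.lf (Fc.ed (nat_lit 12496) (nat_lit 4768) Col.g (nat_lit 2211) (Dv.wd (nat_lit 9) [Mv.f (nat_lit 11643), Mv.f (nat_lit 11644), Mv.f (nat_lit 12495)]))))
(Tr.nd (nat_lit 12498) (Tr.lf (Fc.ed (nat_lit 12497) (nat_lit 3895) Col.f (nat_lit 4769) Dv.df))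
(Tr.nd (nat_lit 12499) (Tr.lf (Fc.ed (nat_lit 12498) (nat_lit 4769) Col.a (nat_lit 3370) (Dv.wd (nat_lit 23) [Mv.b (nat_lit 8599), Mv.b (nat_lit 9586), Mv.f (nat_lit 12497)])))
(Tr.lf (Fc.ed (nat_lit 12499) (nat_lit 1531) Col.gi (nat_lit 4770) Dv.df)))))
(Tr.nd (nat_lit 12502) (Tr.nd (nat_lit 12501) (Tr.lf (Fc.ed (nat_lit 12500) (nat_lit 4770) Col.gi (nat_lit 3341) (Dv.wd (nat_lit 24) [Mv.f (nat_lit 8543), Mv.f (nat_lit 4595), Mv.f (nat_lit 12499)])))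
(Tr.lf (Fc.ed (nat_lit 12501) (nat_lit 3550) Col.a (nat_lit 4771) Dv.df)))
(Tr.nd (nat_lit 12503) (Tr.lf (Fc.ed (nat_lit 12502) (nat_lit 4771) Col.f (nat_lit 2816) (Dv.wd (nat_lit 10) [Mv.f (nat_lit 7442), Mv.b (nat_lit 8961), Mv.f (nat_lit 12501)])))
(Tr.nd (nat_lit 12504) (Tr.lf (Fc.ed (nat_lit 12503) (nat_lit 3055) Col.b (nat_lit 4772) Dv.df))
(Tr.lf (Fc.ed (nat_lit 12504) (nat_lit 4772) Col.c (nat_lit 4725) (Dv.wd (nat_lit 135) [Mv.f (nat_lit 11920), Mv.b (nat_lit 7611), Mv.b (nat_lit 3584), Mv.b (nat_lit 6912), Mv.f (nat_lit 5793), Mv.b (nat_lit 3782), Mv.f (nat_lit 3781), Mv.b (nat_lit 4926), Mv.f (nat_lit 7955), Mv.f (nat_lit 12503)]))))))))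
(Tr.nd (nat_lit 12515) (Tr.nd (nat_lit 12510) (Tr.nd (nat_lit 12507) (Tr.nd (nat_lit 12506) (Tr.lf (Fc.ed (nat_lit 12505) (nat_lit 3608) Col.a (nat_lit 4773) Dv.df))
(Tr.lf (Fc.ed (nat_lit 12506) (nat_lit 4773) Col.c (nat_lit 4558) (Dv.wd (nat_lit 33) [Mv.b (nat_lit 11606), Mv.f (nat_lit 9200), Mv.f (nat_lit 12505)]))))
(Tr.nd (nat_lit 12508) (Tr.lf (Fc.ed (nat_lit 12507) (nat_lit 3709) Col.e (nat_lit 4774) Dv.df))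
(Tr.nd (nat_lit 12509) (Tr.lf (Fc.ed (nat_lit 12508) (nat_lit 4774) Col.a (nat_lit 3040) (Dv.wd (nat_lit 15) [Mv.b (nat_lit 7908), Mv.b (nat_lit 9263), Mv.f (nat_lit 12507)])))
(Tr.lf (Fc.ed (nat_lit 12509) (nat_lit 4523) Col.d (nat_lit 4775) Dv.df)))))
(Tr.nd (nat_lit 12512) (Tr.nd (nat_lit 12511) (Tr.lf (Fc.ed (nat_lit 12510) (nat_lit 4775) Col.e (nat_lit 3315) (Dv.wd (nat_lit 74) [Mv.f (nat_lit 8482), Mv.b (nat_lit 4582), Mv.f (nat_lit 4377), Mv.f (nat_lit 4256), Mv.f (nat_lit 4375), Mv.b (nat_lit 3930), Mv.b (nat_lit 6836), Mv.f (nat_lit 6835), Mv.f (nat_lit 11537), Mv.f (nat_lit 12509)])))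
(Tr.lf (Fc.ed (nat_lit 12511) (nat_lit 4690) Col.d (nat_lit 4776) Dv.df)))
(Tr.nd (nat_lit 12513) (Tr.lf (Fc.ed (nat_lit 12512) (nat_lit 4776) Col.b (nat_lit 4077) (Dv.wd (nat_lit 37) [Mv.b (nat_lit 9942), Mv.f (nat_lit 11852), Mv.f (nat_lit 12511)])))
(Tr.nd (nat_lit 12514) (Tr.lf (Fc.ed (nat_lit 12513) (nat_lit 4409) Col.f (nat_lit 4777) Dv.df))
(Tr.lf (Fc.ed (nat_lit 12514) (nat_lit 4777) Col.d (nat_lit 4670) (Dv.wd (nat_lit 21) [Mv.b (nat_lit 11813), Mv.f (nat_lit 11376), Mv.f (nat_lit 12513)])))))))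
(Tr.nd (nat_lit 12520) (Tr.nd (nat_lit 12517) (Tr.nd (nat_lit 12516) (Tr.lf (Fc.ed (nat_lit 12515) (nat_lit 4777) Col.e (nat_lit 4373) (Dv.wd (nat_lit 22) [Mv.f (nat_lit 11270), Mv.b (nat_lit 9632), Mv.f (nat_lit 9165), Mv.b (nat_lit 11341), Mv.f (nat_lit 12513)])))
(Tr.lf (Fc.ed (nat_lit 12516) (nat_lit 4752) Col.g (nat_lit 4778) Dv.df)))
(Tr.nd (nat_lit 12518) (Tr.lf (Fc.ed (nat_lit 12517) (nat_lit 4778) Col.c (nat_lit 1806) (Dv.wd (nat_lit 115) [Mv.f (nat_lit 7464), Mv.f (nat_lit 10696), Mv.b (nat_lit 9862), Mv.f (nat_lit 11273), Mv.f (nat_lit 11295), Mv.b (nat_lit 11982), Mv.f (nat_lit 10144), Mv.b (nat_lit 10310), Mv.b (nat_lit 12471), Mv.f (nat_lit 12516)])))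
(Tr.nd (nat_lit 12519) (Tr.lf (Fc.ed (nat_lit 12518) (nat_lit 4742) Col.gi (nat_lit 4778) (Dv.wd (nat_lit 78) [Mv.f (nat_lit 12517), Mv.f (nat_lit 5183), Mv.b (nat_lit 2378), Mv.b (nat_lit 4555), Mv.b (nat_lit 12265), Mv.f (nat_lit 12263), Mv.f (nat_lit 12214), Mv.b (nat_lit 10232), Mv.b (nat_lit 11950)])))
(Tr.lf (Fc.ed (nat_lit 12519) (nat_lit 2260) Col.b (nat_lit 4779) Dv.df)))))
(Tr.nd (nat_lit 12523) (Tr.nd (nat_lit 12521) (Tr.lf (Fc.ed (nat_lit 12520) (nat_lit 4779) Col.e (nat_lit 4495) (Dv.wd (nat_lit 52) [Mv.b (nat_lit 11489), Mv.f (nat_lit 6429), Mv.f (nat_lit 12519)])))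
(Tr.nd (nat_lit 12522) (Tr.lf (Fc.ed (nat_lit 12521) (nat_lit 3107) Col.f (nat_lit 4780) Dv.df))
(Tr.lf (Fc.ed (nat_lit 12522) (nat_lit 4780) Col.a (nat_lit 4579) (Dv.wd (nat_lit 23) [Mv.b (nat_lit 11646), Mv.b (nat_lit 8072), Mv.f (nat_lit 12521)])))))
(Tr.nd (nat_lit 12524) (Tr.lf (Fc.ed (nat_lit 12523) (nat_lit 3428) Col.f (nat_lit 4781) Dv.df))
(Tr.nd (nat_lit 12525) (Tr.lf (Fc.ed (nat_lit 12524) (nat_lit 4781) Col.b (nat_lit 3254) (Dv.wd (nat_lit 66) [Mv.b (nat_lit 8363), Mv.f (nat_lit 8722), Mv.f (nat_lit 12523)])))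
(Tr.lf (Fc.ed (nat_lit 12525) (nat_lit 4673) Col.f (nat_lit 4782) Dv.df))))))))
(Tr.nd (nat_lit 12546) (Tr.nd (nat_lit 12536) (Tr.nd (nat_lit 12531) (Tr.nd (nat_lit 12528) (Tr.nd (nat_lit 12527) (Tr.lf (Fc.ed (nat_lit 12526) (nat_lit 4058) Col.a (nat_lit 4783) Dv.df))
(Tr.lf (Fc.ed (nat_lit 12527) (nat_lit 4783) Col.d (nat_lit 4611) (Dv.wd (nat_lit 28) [Mv.b (nat_lit 11703), Mv.f (nat_lit 10184), Mv.f (nat_lit 12526)]))))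
(Tr.nd (nat_lit 12529) (Tr.lf (Fc.ed (nat_lit 12528) (nat_lit 4783) Col.e (nat_lit 3913) (Dv.wd (nat_lit 56) [Mv.f (nat_lit 9619), Mv.f (nat_lit 9901), Mv.f (nat_lit 12526)])))
(Tr.nd (nat_lit 12530) (Tr.lf (Fc.ed (nat_lit 12529) (nat_lit 3543) Col.c (nat_lit 4784) Dv.df))
(Tr.lf (Fc.ed (nat_lit 12530) (nat_lit 4784) Col.a (nat_lit 2566) (Dv.wd (nat_lit 19) [Mv.b (nat_lit 6887), Mv.b (nat_lit 8946), Mv.f (nat_lit 12529)]))))))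
(Tr.nd (nat_lit 12533) (Tr.nd (nat_lit 12532) (Tr.lf (Fc.ed (nat_lit 12531) (nat_lit 4738) Col.a (nat_lit 4785) Dv.df))
(Tr.lf (Fc.ed (nat_lit 12532) (nat_lit 4785) Col.f (nat_lit 3017) (Dv.wd (nat_lit 10) [Mv.b (nat_lit 7864), Mv.f (nat_lit 11941), Mv.f (nat_lit 12531)]))))
(Tr.nd (nat_lit 12534) (Tr.lf (Fc.ed (nat_lit 12533) (nat_lit 3376) Col.b (nat_lit 4786) Dv.df))
(Tr.nd (nat_lit 12535) (Tr.lf (Fc.ed (nat_lit 12534) (nat_lit 4786) Col.f (nat_lit 4480) (Dv.wd (nat_lit 20) [Mv.b (nat_lit 11464), Mv.b (nat_lit 8614), Mv.f (nat_lit 12533)])))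
(Tr.lf (Fc.ed (nat_lit 12535) (nat_lit 4514) Col.d (nat_lit 4787) Dv.df))))))
(Tr.nd (nat_lit 12541) (Tr.nd (nat_lit 12538) (Tr.nd (nat_lit 12537) (Tr.lf (Fc.ed (nat_lit 12536) (nat_lit 4787) Col.f (nat_lit 4109) (Dv.wd (nat_lit 11) [Mv.b (nat_lit 12430), Mv.b (nat_lit 11522), Mv.f (nat_lit 12535)])))
(Tr.lf (Fc.ed (nat_lit 12537) (nat_lit 4432) Col.a (nat_lit 4788) Dv.df)))
(Tr.nd (nat_lit 12539) (Tr.lf (Fc.ed (nat_lit 12538) (nat_lit 4788) Col.f (nat_lit 2888) (Dv.wd (nat_lit 35) [Mv.f (nat_lit 7598), Mv.f (nat_lit 11384), Mv.f (nat_lit 12537)])))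
(Tr.nd (nat_lit 12540) (Tr.lf (Fc.ed (nat_lit 12539) (nat_lit 1365) Col.b (nat_lit 4789) Dv.df))
(Tr.lf (Fc.ed (nat_lit 12540) (nat_lit 4789) Col.f (nat_lit 3910) (Dv.wd (nat_lit 20) [Mv.f (nat_lit 9615), Mv.b (nat_lit 4161), Mv.f (nat_lit 12539)]))))))
(Tr.nd (nat_lit 12543) (Tr.nd (nat_lit 12542) (Tr.lf (Fc.ed (nat_lit 12541) (nat_lit 3271) Col.d (nat_lit 4790) Dv.df))
(Tr.lf (Fc.ed (nat_lit 12542) (nat_lit 3749) Col.f (nat_lit 4791) Dv.df)))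
(Tr.nd (nat_lit 12544) (Tr.lf (Fc.ed (nat_lit 12543) (nat_lit 4791) Col.a (nat_lit 4791) (Dv.wd (nat_lit 16) [Mv.b (nat_lit 12542), Mv.f (nat_lit 10064), Mv.f (nat_lit 12542)])))
(Tr.nd (nat_lit 12545) (Tr.lf (Fc.ed (nat_lit 12544) (nat_lit 4791) Col.c (nat_lit 2033) (Dv.wd (nat_lit 34) [Mv.b (nat_lit 5644), Mv.f (nat_lit 9337), Mv.f (nat_lit 12542)])))
(Tr.lf (Fc.ed (nat_lit 12545) (nat_lit 2621) Col.c (nat_lit 4792) Dv.df)))))))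
(Tr.nd (nat_lit 12556) (Tr.nd (nat_lit 12551) (Tr.nd (nat_lit 12548) (Tr.nd (nat_lit 12547) (Tr.lf (Fc.ed (nat_lit 12546) (nat_lit 4594) Col.g (nat_lit 4793) Dv.df))
(Tr.lf (Fc.ed (nat_lit 12547) (nat_lit 4793) Col.g (nat_lit 2595) (Dv.wd (nat_lit 9) [Mv.b (nat_lit 9945), Mv.b (nat_lit 11675), Mv.f (nat_lit 12546)]))))
(Tr.nd (nat_lit 12549) (Tr.lf (Fc.ed (nat_lit 12548) (nat_lit 2128) Col.gi (nat_lit 4794) Dv.df))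
(Tr.nd (nat_lit 12550) (Tr.lf (Fc.ed (nat_lit 12549) (nat_lit 4794) Col.gi (nat_lit 2027) (Dv.wd (nat_lit 24) [Mv.b (nat_lit 6759), Mv.f (nat_lit 6758), Mv.f (nat_lit 12548)])))
(Tr.lf (Fc.ed (nat_lit 12550) (nat_lit 4723) Col.gi (nat_lit 4795) Dv.df)))))
(Tr.nd (nat_lit 12553) (Tr.nd (nat_lit 12552) (Tr.lf (Fc.ed (nat_lit 12551) (nat_lit 4795) Col.gi (nat_lit 3048) (Dv.wd (nat_lit 24) [Mv.f (nat_lit 7922), Mv.f (nat_lit 11915), Mv.f (nat_lit 12550)])))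
(Tr.lf (Fc.ed (nat_lit 12552) (nat_lit 3661) Col.c (nat_lit 4796) Dv.df)))
(Tr.nd (nat_lit 12554) (Tr.lf (Fc.ed (nat_lit 12553) (nat_lit 4796) Col.a (nat_lit 2578) (Dv.wd (nat_lit 19) [Mv.f (nat_lit 7104), Mv.f (nat_lit 9162), Mv.f (nat_lit 12552)])))
(Tr.nd (nat_lit 12555) (Tr.lf (Fc.ed (nat_lit 12554) (nat_lit 3932) Col.e (nat_lit 4797) Dv.df))
(Tr.lf (Fc.ed (nat_lit 12555) (nat_lit 4797) Col.d (nat_lit 4760) (Dv.wd (nat_lit 91) [Mv.b (nat_lit 12482), Mv.f (nat_lit 4720), Mv.b (nat_lit 3887), Mv.b (nat_lit 8990), Mv.b (nat_lit 12273), Mv.b (nat_lit 5559), Mv.f (nat_lit 4677), Mv.f (nat_lit 5762), Mv.b (nat_lit 9695), Mv.f (nat_lit 12554)])))))))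
(Tr.nd (nat_lit 12561) (Tr.nd (nat_lit 12558) (Tr.nd (nat_lit 12557) (Tr.lf (Fc.ed (nat_lit 12556) (nat_lit 4205) Col.f (nat_lit 4798) Dv.df))
(Tr.lf (Fc.ed (nat_lit 12557) (nat_lit 4798) Col.b (nat_lit 2181) (Dv.wd (nat_lit 66) [Mv.f (nat_lit 6034), Mv.f (nat_lit 10849), Mv.f (nat_lit 12556)]))))
(Tr.nd (nat_lit 12559) (Tr.lf (Fc.ed (nat_lit 12558) (nat_lit 4798) Col.d (nat_lit 3524) (Dv.wd (nat_lit 21) [Mv.f (nat_lit 8909), Mv.b (nat_lit 10850), Mv.f (nat_lit 12556)])))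
(Tr.nd (nat_lit 12560) (Tr.lf (Fc.ed (nat_lit 12559) (nat_lit 4125) Col.f (nat_lit 4799) Dv.df))
(Tr.lf (Fc.ed (nat_lit 12560) (nat_lit 4432) Col.e (nat_lit 4800) Dv.df)))))
(Tr.nd (nat_lit 12564) (Tr.nd (nat_lit 12562) (Tr.lf (Fc.ed (nat_lit 12561) (nat_lit 2339) Col.g (nat_lit 4801) Dv.df))
(Tr.nd (nat_lit 12563) (Tr.lf (Fc.ed (nat_lit 12562) (nat_lit 4801) Col.g (nat_lit 2975) (Dv.wd (nat_lit 9) [Mv.f (nat_lit 7773), Mv.b (nat_lit 7478), Mv.f (nat_lit 12561)])))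
(Tr.lf (Fc.ed (nat_lit 12563) (nat_lit 1621) Col.gi (nat_lit 4802) Dv.df))))
(Tr.nd (nat_lit 12565) (Tr.lf (Fc.ed (nat_lit 12564) (nat_lit 2912) Col.g (nat_lit 4803) Dv.df))
(Tr.nd (nat_lit 12566) (Tr.lf (Fc.ed (nat_lit 12565) (nat_lit 4608) Col.gi (nat_lit 4804) Dv.df))
(Tr.lf (Fc.ed (nat_lit 12566) (nat_lit 4804) Col.d (nat_lit 3642) (Dv.wd (nat_lit 48) [Mv.b (nat_lit 12377), Mv.f (nat_lit 7176), Mv.f (nat_lit 5341), Mv.f (nat_lit 12256), Mv.f (nat_lit 12249), Mv.f (nat_lit 2378), Mv.f (nat_lit 5810), Mv.f (nat_lit 11697), Mv.f (nat_lit 12565)]))))))))))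
(Tr.nd (nat_lit 12608) (Tr.nd (nat_lit 12587) (Tr.nd (nat_lit 12577) (Tr.nd (nat_lit 12572) (Tr.nd (nat_lit 12569) (Tr.nd (nat_lit 12568) (Tr.lf (Fc.ed (nat_lit 12567) (nat_lit 4698) Col.f (nat_lit 4804) (Dv.wd (nat_lit 86) [Mv.f (nat_lit 12566), Mv.f (nat_lit 9130), Mv.b (nat_lit 11870)])))
(Tr.lf (Fc.ed (nat_lit 12568) (nat_lit 4733) Col.d (nat_lit 4805) Dv.df)))
(Tr.nd (nat_lit 12570) (Tr.lf (Fc.ed (nat_lit 12569) (nat_lit 3075) Col.a (nat_lit 4806) Dv.df))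
(Tr.nd (nat_lit 12571) (Tr.lf (Fc.ed (nat_lit 12570) (nat_lit 4806) Col.c (nat_lit 3117) (Dv.wd (nat_lit 33) [Mv.b (nat_lit 8089), Mv.f (nat_lit 7995), Mv.f (nat_lit 12569)])))
(Tr.lf (Fc.ed (nat_lit 12571) (nat_lit 4806) Col.f (nat_lit 3540) (Dv.wd (nat_lit 35) [Mv.f (nat_lit 8940), Mv.b (nat_lit 7996), Mv.f (nat_lit 12569)]))))))
(Tr.nd (nat_lit 12574) (Tr.nd (nat_lit 12573) (Tr.lf (Fc.ed (nat_lit 12572) (nat_lit 2673) Col.f (nat_lit 4807) Dv.df))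
(Tr.lf (Fc.ed (nat_lit 12573) (nat_lit 4807) Col.a (nat_lit 4736) (Dv.wd (nat_lit 16) [Mv.b (nat_lit 11938), Mv.f (nat_lit 11603), Mv.f (nat_lit 12572)]))))
(Tr.nd (nat_lit 12575) (Tr.lf (Fc.ed (nat_lit 12574) (nat_lit 4807) Col.d (nat_lit 4093) (Dv.wd (nat_lit 21) [Mv.f (nat_lit 9968), Mv.f (nat_lit 7129), Mv.f (nat_lit 12572)])))
(Tr.nd (nat_lit 12576) (Tr.lf (Fc.ed (nat_lit 12575) (nat_lit 4801) Col.e (nat_lit 4808) Dv.df))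
(Tr.lf (Fc.ed (nat_lit 12576) (nat_lit 4808) Col.d (nat_lit 3956) (Dv.wd (nat_lit 91) [Mv.b (nat_lit 9732), Mv.f (nat_lit 9563), Mv.b (nat_lit 5515), Mv.b (nat_lit 3161), Mv.b (nat_lit 3035), Mv.b (nat_lit 3770), Mv.f (nat_lit 3769), Mv.b (nat_lit 6387), Mv.f (nat_lit 12561), Mv.f (nat_lit 12575)])))))))
(Tr.nd (nat_lit 12582) (Tr.nd (nat_lit 12579) (Tr.nd (nat_lit 12578) (Tr.lf (Fc.ed (nat_lit 12577) (nat_lit 3454) Col.a (nat_lit 4809) Dv.df))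
(Tr.lf (Fc.ed (nat_lit 12578) (nat_lit 4809) Col.e (nat_lit 4751) (Dv.wd (nat_lit 56) [Mv.b (nat_lit 12469), Mv.f (nat_lit 8769), Mv.f (nat_lit 12577)]))))
(Tr.nd (nat_lit 12580) (Tr.lf (Fc.ed (nat_lit 12579) (nat_lit 2221) Col.b (nat_lit 4810) Dv.df))
(Tr.nd (nat_lit 12581) (Tr.lf (Fc.ed (nat_lit 12580) (nat_lit 4521) Col.f (nat_lit 4811) Dv.df))
(Tr.lf (Fc.ed (nat_lit 12581) (nat_lit 4811) Col.d (nat_lit 3297) (Dv.wd (nat_lit 21) [Mv.b (nat_lit 8448), Mv.b (nat_lit 11534), Mv.f (nat_lit 12580)]))))))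
(Tr.nd (nat_lit 12584) (Tr.nd (nat_lit 12583) (Tr.lf (Fc.ed (nat_lit 12582) (nat_lit 4708) Col.b (nat_lit 4812) Dv.df))
(Tr.lf (Fc.ed (nat_lit 12583) (nat_lit 4812) Col.c (nat_lit 3093) (Dv.wd (nat_lit 93) [Mv.f (nat_lit 8037), Mv.b (nat_lit 3768), Mv.f (nat_lit 4025), Mv.b (nat_lit 11886), Mv.f (nat_lit 12582)]))))
(Tr.nd (nat_lit 12585) (Tr.lf (Fc.ed (nat_lit 12584) (nat_lit 2931) Col.a (nat_lit 4813) Dv.df))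
(Tr.nd (nat_lit 12586) (Tr.lf (Fc.ed (nat_lit 12585) (nat_lit 4813) Col.d (nat_lit 4328) (Dv.wd (nat_lit 28) [Mv.b (nat_lit 11115), Mv.b (nat_lit 7688), Mv.f (nat_lit 12584)])))
(Tr.lf (Fc.ed (nat_lit 12586) (nat_lit 4813) Col.e (nat_lit 3306) (Dv.wd (nat_lit 56) [Mv.f (nat_lit 8467), Mv.f (nat_lit 7687), Mv.f (nat_lit 12584)]))))))))
(Tr.nd (nat_lit 12597) (Tr.nd (nat_lit 12592) (Tr.nd (nat_lit 12589) (Tr.nd (nat_lit 12588) (Tr.lf (Fc.ed (nat_lit 12587) (nat_lit 4076) Col.f (nat_lit 4814) Dv.df))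
(Tr.lf (Fc.ed (nat_lit 12588) (nat_lit 4814) Col.c (nat_lit 2607) (Dv.wd (nat_lit 34) [Mv.f (nat_lit 9183), Mv.f (nat_lit 9940), Mv.f (nat_lit 12587)]))))
(Tr.nd (nat_lit 12590) (Tr.lf (Fc.ed (nat_lit 12589) (nat_lit 2566) Col.d (nat_lit 4815) Dv.df))
(Tr.nd (nat_lit 12591) (Tr.lf (Fc.ed (nat_lit 12590) (nat_lit 4535) Col.d (nat_lit 4816) Dv.df))
(Tr.lf (Fc.ed (nat_lit 12591) (nat_lit 4816) Col.e (nat_lit 2315) (Dv.wd (nat_lit 42) [Mv.f (nat_lit 12337), Mv.b (nat_lit 10378), Mv.f (nat_lit 10377), Mv.f (nat_lit 11562), Mv.f (nat_lit 12590)]))))))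
(Tr.nd (nat_lit 12594) (Tr.nd (nat_lit 12593) (Tr.lf (Fc.ed (nat_lit 12592) (nat_lit 4026) Col.f (nat_lit 4817) Dv.df))
(Tr.lf (Fc.ed (nat_lit 12593) (nat_lit 4817) Col.a (nat_lit 3227) (Dv.wd (nat_lit 23) [Mv.b (nat_lit 8309), Mv.f (nat_lit 9849), Mv.f (nat_lit 12592)]))))
(Tr.nd (nat_lit 12595) (Tr.lf (Fc.ed (nat_lit 12594) (nat_lit 4555) Col.b (nat_lit 4818) Dv.df))
(Tr.nd (nat_lit 12596) (Tr.lf (Fc.ed (nat_lit 12595) (nat_lit 2935) Col.f (nat_lit 4819) Dv.df))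
(Tr.lf (Fc.ed (nat_lit 12596) (nat_lit 3637) Col.b (nat_lit 4820) Dv.df))))))
(Tr.nd (nat_lit 12602) (Tr.nd (nat_lit 12599) (Tr.nd (nat_lit 12598) (Tr.lf (Fc.ed (nat_lit 12597) (nat_lit 4820) Col.d (nat_lit 2821) (Dv.wd (nat_lit 58) [Mv.f (nat_lit 7451), Mv.b (nat_lit 9119), Mv.f (nat_lit 12596)])))
(Tr.lf (Fc.ed (nat_lit 12598) (nat_lit 2527) Col.gi (nat_lit 4821) Dv.df)))
(Tr.nd (nat_lit 12600) (Tr.lf (Fc.ed (nat_lit 12599) (nat_lit 4821) Col.gi (nat_lit 1732) (Dv.wd (nat_lit 24) [Mv.f (nat_lit 8576), Mv.f (nat_lit 10046), Mv.f (nat_lit 12598)])))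
(Tr.nd (nat_lit 12601) (Tr.lf (Fc.ed (nat_lit 12600) (nat_lit 4250) Col.g (nat_lit 4822) Dv.df))
(Tr.lf (Fc.ed (nat_lit 12601) (nat_lit 4822) Col.g (nat_lit 2417) (Dv.wd (nat_lit 9) [Mv.b (nat_lit 8405), Mv.f (nat_lit 10931), Mv.f (nat_lit 12600)]))))))
(Tr.nd (nat_lit 12605) (Tr.nd (nat_lit 12603) (Tr.lf (Fc.ed (nat_lit 12602) (nat_lit 4425) Col.e (nat_lit 4823) Dv.df))
(Tr.nd (nat_lit 12604) (Tr.lf (Fc.ed (nat_lit 12603) (nat_lit 4329) Col.a (nat_lit 4824) Dv.df))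
(Tr.lf (Fc.ed (nat_lit 12604) (nat_lit 4824) Col.f (nat_lit 3007) (Dv.wd (nat_lit 10) [Mv.b (nat_lit 7840), Mv.b (nat_lit 11117), Mv.f (nat_lit 12603)])))))
(Tr.nd (nat_lit 12606) (Tr.lf (Fc.ed (nat_lit 12605) (nat_lit 4565) Col.a (nat_lit 4825) Dv.df))
(Tr.nd (nat_lit 12607) (Tr.lf (Fc.ed (nat_lit 12606) (nat_lit 4825) Col.f (nat_lit 3157) (Dv.wd (nat_lit 10) [Mv.f (nat_lit 8171), Mv.f (nat_lit 11618), Mv.f (nat_lit 12605)])))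
(Tr.lf (Fc.ed (nat_lit 12607) (nat_lit 4359) Col.a (nat_lit 4826) Dv.df))))))))
(Tr.nd (nat_lit 12628) (Tr.nd (nat_lit 12618) (Tr.nd (nat_lit 12613) (Tr.nd (nat_lit 12610) (Tr.nd (nat_lit 12609) (Tr.lf (Fc.ed (nat_lit 12608) (nat_lit 4826) Col.f (nat_lit 3627) (Dv.wd (nat_lit 10) [Mv.b (nat_lit 9099), Mv.f (nat_lit 11181), Mv.f (nat_lit 12607)])))
(Tr.lf (Fc.ed (nat_lit 12609) (nat_lit 1489) Col.b (nat_lit 4827) Dv.df)))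
(Tr.nd (nat_lit 12611) (Tr.lf (Fc.ed (nat_lit 12610) (nat_lit 4827) Col.d (nat_lit 3867) (Dv.wd (nat_lit 58) [Mv.b (nat_lit 9544), Mv.f (nat_lit 12124), Mv.f (nat_lit 12609)])))
(Tr.nd (nat_lit 12612) (Tr.lf (Fc.ed (nat_lit 12611) (nat_lit 2461) Col.c (nat_lit 4828) Dv.df))
(Tr.lf (Fc.ed (nat_lit 12612) (nat_lit 4690) Col.f (nat_lit 4829) Dv.df)))))
(Tr.nd (nat_lit 12615) (Tr.nd (nat_lit 12614) (Tr.lf (Fc.ed (nat_lit 12613) (nat_lit 4829) Col.b (nat_lit 2396) (Dv.wd (nat_lit 66) [Mv.b (nat_lit 6498), Mv.f (nat_lit 11852), Mv.f (nat_lit 12612)])))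
(Tr.lf (Fc.ed (nat_lit 12614) (nat_lit 4416) Col.c (nat_lit 4830) Dv.df)))
(Tr.nd (nat_lit 12616) (Tr.lf (Fc.ed (nat_lit 12615) (nat_lit 4830) Col.f (nat_lit 3042) (Dv.wd (nat_lit 26) [Mv.b (nat_lit 7911), Mv.f (nat_lit 11353), Mv.f (nat_lit 12614)])))
(Tr.nd (nat_lit 12617) (Tr.lf (Fc.ed (nat_lit 12616) (nat_lit 3628) Col.d (nat_lit 4831) Dv.df))
(Tr.lf (Fc.ed (nat_lit 12617) (nat_lit 4831) Col.b (nat_lit 4106) (Dv.wd (nat_lit 37) [Mv.f (nat_lit 10590), Mv.f (nat_lit 9101), Mv.f (nat_lit 12616)])))))))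
(Tr.nd (nat_lit 12623) (Tr.nd (nat_lit 12620) (Tr.nd (nat_lit 12619) (Tr.lf (Fc.ed (nat_lit 12618) (nat_lit 4831) Col.e (nat_lit 2955) (Dv.wd (nat_lit 42) [Mv.f (nat_lit 12453), Mv.b (nat_lit 12006), Mv.b (nat_lit 10203), Mv.b (nat_lit 9102), Mv.f (nat_lit 12616)])))
(Tr.lf (Fc.ed (nat_lit 12619) (nat_lit 2362) Col.b (nat_lit 4832) Dv.df)))
(Tr.nd (nat_lit 12621) (Tr.lf (Fc.ed (nat_lit 12620) (nat_lit 4832) Col.c (nat_lit 4822) (Dv.wd (nat_lit 135) [Mv.f (nat_lit 12601), Mv.b (nat_lit 6541), Mv.f (nat_lit 3888), Mv.b (nat_lit 6003), Mv.b (nat_lit 6002), Mv.b (nat_lit 4638), Mv.b (nat_lit 5851), Mv.f (nat_lit 5850), Mv.f (nat_lit 6436), Mv.f (nat_lit 12619)])))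
(Tr.nd (nat_lit 12622) (Tr.lf (Fc.ed (nat_lit 12621) (nat_lit 4414) Col.c (nat_lit 4833) Dv.df))
(Tr.lf (Fc.ed (nat_lit 12622) (nat_lit 3008) Col.e (nat_lit 4834) Dv.df)))))
(Tr.nd (nat_lit 12625) (Tr.nd (nat_lit 12624) (Tr.lf (Fc.ed (nat_lit 12623) (nat_lit 4834) Col.a (nat_lit 2947) (Dv.wd (nat_lit 15) [Mv.b (nat_lit 7720), Mv.b (nat_lit 7843), Mv.f (nat_lit 12622)])))
(Tr.lf (Fc.ed (nat_lit 12624) (nat_lit 4442) Col.d (nat_lit 4834) (Dv.wd (nat_lit 97) [Mv.f (nat_lit 12623), Mv.f (nat_lit 7721), Mv.b (nat_lit 11403)]))))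
(Tr.nd (nat_lit 12626) (Tr.lf (Fc.ed (nat_lit 12625) (nat_lit 2560) Col.g (nat_lit 4835) Dv.df))
(Tr.nd (nat_lit 12627) (Tr.lf (Fc.ed (nat_lit 12626) (nat_lit 4835) Col.g (nat_lit 3553) (Dv.wd (nat_lit 9) [Mv.f (nat_lit 8968), Mv.f (nat_lit 7969), Mv.f (nat_lit 12625)])))
(Tr.lf (Fc.ed (nat_lit 12627) (nat_lit 4219) Col.gi (nat_lit 4836) Dv.df)))))))
(Tr.nd (nat_lit 12638) (Tr.nd (nat_lit 12633) (Tr.nd (nat_lit 12630) (Tr.nd (nat_lit 12629) (Tr.lf (Fc.ed (nat_lit 12628) (nat_lit 4606) Col.c (nat_lit 4837) Dv.df))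
(Tr.lf (Fc.ed (nat_lit 12629) (nat_lit 4837) Col.b (nat_lit 2294) (Dv.wd (nat_lit 106) [Mv.b (nat_lit 6279), Mv.f (nat_lit 10020), Mv.f (nat_lit 9626), Mv.f (nat_lit 11919), Mv.b (nat_lit 12504), Mv.b (nat_lit 12503), Mv.f (nat_lit 7956), Mv.b (nat_lit 8661), Mv.b (nat_lit 11694), Mv.f (nat_lit 12628)]))))
(Tr.nd (nat_lit 12631) (Tr.lf (Fc.ed (nat_lit 12630) (nat_lit 4295) Col.g (nat_lit 4838) Dv.df))
(Tr.nd (nat_lit 12632) (Tr.lf (Fc.ed (nat_lit 12631) (nat_lit 3239) Col.c (nat_lit 4839) Dv.df))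
(Tr.lf (Fc.ed (nat_lit 12632) (nat_lit 4839) Col.e (nat_lit 4061) (Dv.wd (nat_lit 25) [Mv.b (nat_lit 10438), Mv.f (nat_lit 10348), Mv.f (nat_lit 12631)]))))))
(Tr.nd (nat_lit 12635) (Tr.nd (nat_lit 12634) (Tr.lf (Fc.ed (nat_lit 12633) (nat_lit 2946) Col.c (nat_lit 4840) Dv.df))
(Tr.lf (Fc.ed (nat_lit 12634) (nat_lit 4840) Col.f (nat_lit 4812) (Dv.wd (nat_lit 26) [Mv.f (nat_lit 12583), Mv.f (nat_lit 8038), Mv.f (nat_lit 12633)]))))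
(Tr.nd (nat_lit 12636) (Tr.lf (Fc.ed (nat_lit 12635) (nat_lit 3044) Col.a (nat_lit 4841) Dv.df))
(Tr.nd (nat_lit 12637) (Tr.lf (Fc.ed (nat_lit 12636) (nat_lit 4841) Col.d (nat_lit 4178) (Dv.wd (nat_lit 28) [Mv.b (nat_lit 10797), Mv.f (nat_lit 7915), Mv.f (nat_lit 12635)])))
(Tr.lf (Fc.ed (nat_lit 12637) (nat_lit 4841) Col.e (nat_lit 4237) (Dv.wd (nat_lit 56) [Mv.f (nat_lit 10907), Mv.b (nat_lit 7916), Mv.f (nat_lit 12635)])))))))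
(Tr.nd (nat_lit 12643) (Tr.nd (nat_lit 12640) (Tr.nd (nat_lit 12639) (Tr.lf (Fc.ed (nat_lit 12638) (nat_lit 4226) Col.b (nat_lit 4842) Dv.df))
(Tr.lf (Fc.ed (nat_lit 12639) (nat_lit 4842) Col.f (nat_lit 3454) (Dv.wd (nat_lit 20) [Mv.f (nat_lit 8770), Mv.f (nat_lit 10888), Mv.f (nat_lit 12638)]))))
(Tr.nd (nat_lit 12641) (Tr.lf (Fc.ed (nat_lit 12640) (nat_lit 4031) Col.f (nat_lit 4843) Dv.df))
(Tr.nd (nat_lit 12642) (Tr.lf (Fc.ed (nat_lit 12641) (nat_lit 4843) Col.d (nat_lit 2284) (Dv.wd (nat_lit 21) [Mv.f (nat_lit 9445), Mv.b (nat_lit 9976), Mv.f (nat_lit 12640)])))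
(Tr.lf (Fc.ed (nat_lit 12642) (nat_lit 2643) Col.gi (nat_lit 4844) Dv.df)))))
(Tr.nd (nat_lit 12646) (Tr.nd (nat_lit 12644) (Tr.lf (Fc.ed (nat_lit 12643) (nat_lit 4844) Col.gi (nat_lit 4806) (Dv.wd (nat_lit 24) [Mv.f (nat_lit 12571), Mv.f (nat_lit 8940), Mv.f (nat_lit 12642)])))
(Tr.nd (nat_lit 12645) (Tr.lf (Fc.ed (nat_lit 12644) (nat_lit 3005) Col.a (nat_lit 4845) Dv.df))
(Tr.lf (Fc.ed (nat_lit 12645) (nat_lit 4845) Col.d (nat_lit 4774) (Dv.wd (nat_lit 28) [Mv.f (nat_lit 12508), Mv.f (nat_lit 7909), Mv.f (nat_lit 12644)])))))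
(Tr.nd (nat_lit 12647) (Tr.lf (Fc.ed (nat_lit 12646) (nat_lit 4845) Col.f (nat_lit 3290) (Dv.wd (nat_lit 10) [Mv.b (nat_lit 8432), Mv.f (nat_lit 7837), Mv.f (nat_lit 12644)])))
(Tr.nd (nat_lit 12648) (Tr.lf (Fc.ed (nat_lit 12647) (nat_lit 4460) Col.f (nat_lit 4774) (Dv.wd (nat_lit 11) [Mv.b (nat_lit 12645), Mv.f (nat_lit 12646), Mv.f (nat_lit 11431)])))
(Tr.lf (Fc.ed (nat_lit 12648) (nat_lit 4737) Col.gi (nat_lit 4460) (Dv.wd (nat_lit 24) [Mv.f (nat_lit 12647), Mv.f (nat_lit 12508), Mv.f (nat_lit 11940)])))))))))))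
(Tr.nd (nat_lit 12731) (Tr.nd (nat_lit 12690) (Tr.nd (nat_lit 12669) (Tr.nd (nat_lit 12659) (Tr.nd (nat_lit 12654) (Tr.nd (nat_lit 12651) (Tr.nd (nat_lit 12650) (Tr.lf (Fc.ed (nat_lit 12649) (nat_lit 3379) Col.a (nat_lit 4846) Dv.df))
(Tr.lf (Fc.ed (nat_lit 12650) (nat_lit 4846) Col.f (nat_lit 2977) (Dv.wd (nat_lit 10) [Mv.b (nat_lit 7777), Mv.f (nat_lit 8619), Mv.f (nat_lit 12649)]))))
(Tr.nd (nat_lit 12652) (Tr.lf (Fc.ed (nat_lit 12651) (nat_lit 2117) Col.gi (nat_lit 4847) Dv.df))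
(Tr.nd (nat_lit 12653) (Tr.lf (Fc.ed (nat_lit 12652) (nat_lit 4847) Col.gi (nat_lit 3501) (Dv.wd (nat_lit 24) [Mv.f (nat_lit 8861), Mv.f (nat_lit 7223), Mv.f (nat_lit 12651)])))
(Tr.lf (Fc.ed (nat_lit 12653) (nat_lit 3032) Col.c (nat_lit 4848) Dv.df)))))
(Tr.nd (nat_lit 12656) (Tr.nd (nat_lit 12655) (Tr.lf (Fc.ed (nat_lit 12654) (nat_lit 4848) Col.f (nat_lit 4731) (Dv.wd (nat_lit 26) [Mv.f (nat_lit 11931), Mv.b (nat_lit 7892), Mv.f (nat_lit 12653)])))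
(Tr.lf (Fc.ed (nat_lit 12655) (nat_lit 4671) Col.g (nat_lit 4849) Dv.df)))
(Tr.nd (nat_lit 12657) (Tr.lf (Fc.ed (nat_lit 12656) (nat_lit 4849) Col.a (nat_lit 4708) (Dv.wd (nat_lit 114) [Mv.b (nat_lit 11885), Mv.f (nat_lit 11814), Mv.f (nat_lit 12655)])))
(Tr.nd (nat_lit 12658) (Tr.lf (Fc.ed (nat_lit 12657) (nat_lit 2536) Col.c (nat_lit 4849) (Dv.wd (nat_lit 134) [Mv.f (nat_lit 12656), Mv.f (nat_lit 11886), Mv.f (nat_lit 6822)])))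
(Tr.lf (Fc.ed (nat_lit 12658) (nat_lit 3220) Col.c (nat_lit 4850) Dv.df))))))
(Tr.nd (nat_lit 12664) (Tr.nd (nat_lit 12661) (Tr.nd (nat_lit 12660) (Tr.lf (Fc.ed (nat_lit 12659) (nat_lit 4759) Col.gi (nat_lit 4851) Dv.df))
(Tr.lf (Fc.ed (nat_lit 12660) (nat_lit 4851) Col.d (nat_lit 3449) (Dv.wd (nat_lit 48) [Mv.b (nat_lit 10492), Mv.f (nat_lit 10241), Mv.f (nat_lit 9248), Mv.f (nat_lit 7066), Mv.f (nat_lit 12316), Mv.f (nat_lit 12245), Mv.f (nat_lit 9730), Mv.f (nat_lit 12481), Mv.f (nat_lit 12659)]))))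
(Tr.nd (nat_lit 12662) (Tr.lf (Fc.ed (nat_lit 12661) (nat_lit 4510) Col.b (nat_lit 4851) (Dv.wd (nat_lit 126) [Mv.f (nat_lit 12660), Mv.f (nat_lit 9870), Mv.b (nat_lit 11515)])))
(Tr.nd (nat_lit 12663) (Tr.lf (Fc.ed (nat_lit 12662) (nat_lit 3439) Col.f (nat_lit 4852) Dv.df))
(Tr.lf (Fc.ed (nat_lit 12663) (nat_lit 4852) Col.a (nat_lit 4478) (Dv.wd (nat_lit 23) [Mv.b (nat_lit 11460), Mv.f (nat_lit 8745), Mv.f (nat_lit 12662)]))))))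
(Tr.nd (nat_lit 12666) (Tr.nd (nat_lit 12665) (Tr.lf (Fc.ed (nat_lit 12664) (nat_lit 4734) Col.c (nat_lit 4852) (Dv.wd (nat_lit 134) [Mv.f (nat_lit 12663), Mv.f (nat_lit 11461), Mv.f (nat_lit 11935)])))
(Tr.lf (Fc.ed (nat_lit 12665) (nat_lit 4852) Col.gi (nat_lit 3463) (Dv.wd (nat_lit 78) [Mv.f (nat_lit 8788), Mv.b (nat_lit 8074), Mv.f (nat_lit 10231), Mv.b (nat_lit 5162), Mv.f (nat_lit 4841), Mv.b (nat_lit 7744), Mv.f (nat_lit 8555), Mv.b (nat_lit 11936), Mv.f (nat_lit 12664)]))))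
(Tr.nd (nat_lit 12667) (Tr.lf (Fc.ed (nat_lit 12666) (nat_lit 1337) Col.c (nat_lit 4853) Dv.df))
(Tr.nd (nat_lit 12668) (Tr.lf (Fc.ed (nat_lit 12667) (nat_lit 3848) Col.f (nat_lit 4854) Dv.df))
(Tr.lf (Fc.ed (nat_lit 12668) (nat_lit 4854) Col.a (nat_lit 4224) (Dv.wd (nat_lit 16) [Mv.b (nat_lit 10884), Mv.f (nat_lit 9881), Mv.f (nat_lit 12667)]))))))))
(Tr.nd (nat_lit 12679) (Tr.nd (nat_lit 12674) (Tr.nd (nat_lit 12671) (Tr.nd (nat_lit 12670) (Tr.lf (Fc.ed (nat_lit 12669) (nat_lit 4854) Col.g (nat_lit 4261) (Dv.wd (nat_lit 17) [Mv.f (nat_lit 10968), Mv.f (nat_lit 9881), Mv.f (nat_lit 12667)])))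
(Tr.lf (Fc.ed (nat_lit 12670) (nat_lit 3338) Col.gi (nat_lit 4855) Dv.df)))
(Tr.nd (nat_lit 12672) (Tr.lf (Fc.ed (nat_lit 12671) (nat_lit 2566) Col.f (nat_lit 4856) Dv.df))
(Tr.nd (nat_lit 12673) (Tr.lf (Fc.ed (nat_lit 12672) (nat_lit 4856) Col.b (nat_lit 4099) (Dv.wd (nat_lit 66) [Mv.b (nat_lit 10575), Mv.b (nat_lit 6888), Mv.f (nat_lit 12671)])))
(Tr.lf (Fc.ed (nat_lit 12673) (nat_lit 4856) Col.c (nat_lit 2639) (Dv.wd (nat_lit 34) [Mv.b (nat_lit 7047), Mv.f (nat_lit 6887), Mv.f (nat_lit 12671)]))))))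
(Tr.nd (nat_lit 12676) (Tr.nd (nat_lit 12675) (Tr.lf (Fc.ed (nat_lit 12674) (nat_lit 4000) Col.d (nat_lit 4857) Dv.df))
(Tr.lf (Fc.ed (nat_lit 12675) (nat_lit 4857) Col.f (nat_lit 4385) (Dv.wd (nat_lit 11) [Mv.b (nat_lit 11294), Mv.f (nat_lit 12307), Mv.f (nat_lit 12674)]))))
(Tr.nd (nat_lit 12677) (Tr.lf (Fc.ed (nat_lit 12676) (nat_lit 4625) Col.b (nat_lit 4858) Dv.df))
(Tr.nd (nat_lit 12678) (Tr.lf (Fc.ed (nat_lit 12677) (nat_lit 4858) Col.d (nat_lit 2624) (Dv.wd (nat_lit 58) [Mv.b (nat_lit 7013), Mv.b (nat_lit 11730), Mv.f (nat_lit 12676)])))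
(Tr.lf (Fc.ed (nat_lit 12678) (nat_lit 2052) Col.d (nat_lit 4859) Dv.df))))))
(Tr.nd (nat_lit 12684) (Tr.nd (nat_lit 12681) (Tr.nd (nat_lit 12680) (Tr.lf (Fc.ed (nat_lit 12679) (nat_lit 2920) Col.a (nat_lit 4860) Dv.df))
(Tr.lf (Fc.ed (nat_lit 12680) (nat_lit 4860) Col.f (nat_lit 3456) (Dv.wd (nat_lit 35) [Mv.b (nat_lit 9435), Mv.b (nat_lit 9434), Mv.f (nat_lit 12679)]))))
(Tr.nd (nat_lit 12682) (Tr.lf (Fc.ed (nat_lit 12681) (nat_lit 1838) Col.gi (nat_lit 4861) Dv.df))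
(Tr.nd (nat_lit 12683) (Tr.lf (Fc.ed (nat_lit 12682) (nat_lit 4861) Col.gi (nat_lit 3547) (Dv.wd (nat_lit 24) [Mv.b (nat_lit 8955), Mv.b (nat_lit 7559), Mv.f (nat_lit 12681)])))
(Tr.lf (Fc.ed (nat_lit 12683) (nat_lit 2256) Col.b (nat_lit 4862) Dv.df)))))
(Tr.nd (nat_lit 12687) (Tr.nd (nat_lit 12685) (Tr.lf (Fc.ed (nat_lit 12684) (nat_lit 4862) Col.e (nat_lit 4765) (Dv.wd (nat_lit 52) [Mv.b (nat_lit 12491), Mv.f (nat_lit 6349), Mv.f (nat_lit 12683)])))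
(Tr.nd (nat_lit 12686) (Tr.lf (Fc.ed (nat_lit 12685) (nat_lit 4329) Col.f (nat_lit 4863) Dv.df))
(Tr.lf (Fc.ed (nat_lit 12686) (nat_lit 4863) Col.a (nat_lit 3007) (Dv.wd (nat_lit 16) [Mv.b (nat_lit 12604), Mv.b (nat_lit 12603), Mv.f (nat_lit 12685)])))))
(Tr.nd (nat_lit 12688) (Tr.lf (Fc.ed (nat_lit 12687) (nat_lit 4683) Col.c (nat_lit 4864) Dv.df))
(Tr.nd (nat_lit 12689) (Tr.lf (Fc.ed (nat_lit 12688) (nat_lit 4864) Col.d (nat_lit 4778) (Dv.wd (nat_lit 160) [Mv.f (nat_lit 12517), Mv.b (nat_lit 10316), Mv.f (nat_lit 10637), Mv.f (nat_lit 11444), Mv.b (nat_lit 11461), Mv.b (nat_lit 12663), Mv.b (nat_lit 12662), Mv.b (nat_lit 11841), Mv.f (nat_lit 12687)])))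
(Tr.lf (Fc.ed (nat_lit 12689) (nat_lit 3550) Col.f (nat_lit 4865) Dv.df))))))))
(Tr.nd (nat_lit 12710) (Tr.nd (nat_lit 12700) (Tr.nd (nat_lit 12695) (Tr.nd (nat_lit 12692) (Tr.nd (nat_lit 12691) (Tr.lf (Fc.ed (nat_lit 12690) (nat_lit 4865) Col.a (nat_lit 2816) (Dv.wd (nat_lit 16) [Mv.b (nat_lit 12502), Mv.b (nat_lit 12501), Mv.f (nat_lit 12689)])))
(Tr.lf (Fc.ed (nat_lit 12691) (nat_lit 4513) Col.c (nat_lit 4866) Dv.df)))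
(Tr.nd (nat_lit 12693) (Tr.lf (Fc.ed (nat_lit 12692) (nat_lit 4866) Col.a (nat_lit 2254) (Dv.wd (nat_lit 19) [Mv.f (nat_lit 6182), Mv.f (nat_lit 11520), Mv.f (nat_lit 12691)])))
(Tr.nd (nat_lit 12694) (Tr.lf (Fc.ed (nat_lit 12693) (nat_lit 4043) Col.e (nat_lit 4867) Dv.df))
(Tr.lf (Fc.ed (nat_lit 12694) (nat_lit 4867) Col.a (nat_lit 2935) (Dv.wd (nat_lit 15) [Mv.b (nat_lit 7694), Mv.f (nat_lit 9874), Mv.f (nat_lit 12693)]))))))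
(Tr.nd (nat_lit 12697) (Tr.nd (nat_lit 12696) (Tr.lf (Fc.ed (nat_lit 12695) (nat_lit 4805) Col.b (nat_lit 4868) Dv.df))
(Tr.lf (Fc.ed (nat_lit 12696) (nat_lit 2891) Col.a (nat_lit 4869) Dv.df)))
(Tr.nd (nat_lit 12698) (Tr.lf (Fc.ed (nat_lit 12697) (nat_lit 4869) Col.d (nat_lit 4686) (Dv.wd (nat_lit 28) [Mv.f (nat_lit 11846), Mv.f (nat_lit 7603), Mv.f (nat_lit 12696)])))
(Tr.nd (nat_lit 12699) (Tr.lf (Fc.ed (nat_lit 12698) (nat_lit 4237) Col.d (nat_lit 4870) Dv.df))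
(Tr.lf (Fc.ed (nat_lit 12699) (nat_lit 4870) Col.a (nat_lit 4710) (Dv.wd (nat_lit 8) [Mv.f (nat_lit 11891), Mv.b (nat_lit 10907), Mv.f (nat_lit 12698)])))))))
(Tr.nd (nat_lit 12705) (Tr.nd (nat_lit 12702) (Tr.nd (nat_lit 12701) (Tr.lf (Fc.ed (nat_lit 12700) (nat_lit 4870) Col.f (nat_lit 3602) (Dv.wd (nat_lit 11) [Mv.f (nat_lit 9059), Mv.f (nat_lit 10906), Mv.f (nat_lit 12698)])))
(Tr.lf (Fc.ed (nat_lit 12701) (nat_lit 4784) Col.gi (nat_lit 4871) Dv.df)))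
(Tr.nd (nat_lit 12703) (Tr.lf (Fc.ed (nat_lit 12702) (nat_lit 4871) Col.gi (nat_lit 4856) (Dv.wd (nat_lit 24) [Mv.b (nat_lit 12671), Mv.b (nat_lit 12530), Mv.f (nat_lit 12701)])))
(Tr.nd (nat_lit 12704) (Tr.lf (Fc.ed (nat_lit 12703) (nat_lit 2881) Col.e (nat_lit 4872) Dv.df))
(Tr.lf (Fc.ed (nat_lit 12704) (nat_lit 4628) Col.f (nat_lit 4873) Dv.df)))))
(Tr.nd (nat_lit 12707) (Tr.nd (nat_lit 12706) (Tr.lf (Fc.ed (nat_lit 12705) (nat_lit 4873) Col.c (nat_lit 2213) (Dv.wd (nat_lit 34) [Mv.b (nat_lit 8166), Mv.f (nat_lit 11737), Mv.f (nat_lit 12704)])))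
(Tr.lf (Fc.ed (nat_lit 12706) (nat_lit 3789) Col.f (nat_lit 4874) Dv.df)))
(Tr.nd (nat_lit 12708) (Tr.lf (Fc.ed (nat_lit 12707) (nat_lit 4874) Col.a (nat_lit 4098) (Dv.wd (nat_lit 23) [Mv.b (nat_lit 10573), Mv.b (nat_lit 9410), Mv.f (nat_lit 12706)])))
(Tr.nd (nat_lit 12709) (Tr.lf (Fc.ed (nat_lit 12708) (nat_lit 3290) Col.a (nat_lit 4875) Dv.df))
(Tr.lf (Fc.ed (nat_lit 12709) (nat_lit 4532) Col.c (nat_lit 4876) Dv.df)))))))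
(Tr.nd (nat_lit 12720) (Tr.nd (nat_lit 12715) (Tr.nd (nat_lit 12712) (Tr.nd (nat_lit 12711) (Tr.lf (Fc.ed (nat_lit 12710) (nat_lit 4876) Col.f (nat_lit 4727) (Dv.wd (nat_lit 26) [Mv.b (nat_lit 11922), Mv.b (nat_lit 11557), Mv.f (nat_lit 12709)])))
(Tr.lf (Fc.ed (nat_lit 12711) (nat_lit 1323) Col.b (nat_lit 4877) Dv.df)))
(Tr.nd (nat_lit 12713) (Tr.lf (Fc.ed (nat_lit 12712) (nat_lit 4866) Col.b (nat_lit 4878) Dv.df))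
(Tr.nd (nat_lit 12714) (Tr.lf (Fc.ed (nat_lit 12713) (nat_lit 4878) Col.a (nat_lit 4229) (Dv.wd (nat_lit 98) [Mv.f (nat_lit 10895), Mv.f (nat_lit 3342), Mv.f (nat_lit 6180), Mv.b (nat_lit 12692), Mv.f (nat_lit 12712)])))
(Tr.lf (Fc.ed (nat_lit 12714) (nat_lit 4773) Col.f (nat_lit 4878) (Dv.wd (nat_lit 73) [Mv.f (nat_lit 12713), Mv.f (nat_lit 10894), Mv.f (nat_lit 12505)]))))))
(Tr.nd (nat_lit 12717) (Tr.nd (nat_lit 12716) (Tr.lf (Fc.ed (nat_lit 12715) (nat_lit 2945) Col.b (nat_lit 4879) Dv.df))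
(Tr.lf (Fc.ed (nat_lit 12716) (nat_lit 4868) Col.f (nat_lit 4880) Dv.df)))
(Tr.nd (nat_lit 12718) (Tr.lf (Fc.ed (nat_lit 12717) (nat_lit 4785) Col.b (nat_lit 4881) Dv.df))
(Tr.nd (nat_lit 12719) (Tr.lf (Fc.ed (nat_lit 12718) (nat_lit 4881) Col.f (nat_lit 3217) (Dv.wd (nat_lit 20) [Mv.f (nat_lit 8292), Mv.b (nat_lit 12532), Mv.f (nat_lit 12717)])))
(Tr.lf (Fc.ed (nat_lit 12719) (nat_lit 3450) Col.b (nat_lit 4882) Dv.df))))))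
(Tr.nd (nat_lit 12725) (Tr.nd (nat_lit 12722) (Tr.nd (nat_lit 12721) (Tr.lf (Fc.ed (nat_lit 12720) (nat_lit 2490) Col.b (nat_lit 4883) Dv.df))
(Tr.lf (Fc.ed (nat_lit 12721) (nat_lit 4883) Col.f (nat_lit 4810) (Dv.wd (nat_lit 20) [Mv.b (nat_lit 12579), Mv.b (nat_lit 6707), Mv.f (nat_lit 12720)]))))
(Tr.nd (nat_lit 12723) (Tr.lf (Fc.ed (nat_lit 12722) (nat_lit 2260) Col.a (nat_lit 4884) Dv.df))
(Tr.nd (nat_lit 12724) (Tr.lf (Fc.ed (nat_lit 12723) (nat_lit 4884) Col.e (nat_lit 4415) (Dv.wd (nat_lit 56) [Mv.b (nat_lit 11351), Mv.f (nat_lit 6429), Mv.f (nat_lit 12722)])))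
(Tr.lf (Fc.ed (nat_lit 12724) (nat_lit 4863) Col.d (nat_lit 4885) Dv.df)))))
(Tr.nd (nat_lit 12728) (Tr.nd (nat_lit 12726) (Tr.lf (Fc.ed (nat_lit 12725) (nat_lit 4885) Col.a (nat_lit 4083) (Dv.wd (nat_lit 8) [Mv.b (nat_lit 9953), Mv.b (nat_lit 12686), Mv.f (nat_lit 12724)])))
(Tr.nd (nat_lit 12727) (Tr.lf (Fc.ed (nat_lit 12726) (nat_lit 4413) Col.c (nat_lit 4886) Dv.df))
(Tr.lf (Fc.ed (nat_lit 12727) (nat_lit 4886) Col.a (nat_lit 4709) (Dv.wd (nat_lit 19) [Mv.f (nat_lit 11888), Mv.f (nat_lit 11542), Mv.f (nat_lit 12726)])))))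
(Tr.nd (nat_lit 12729) (Tr.lf (Fc.ed (nat_lit 12728) (nat_lit 4886) Col.f (nat_lit 2750) (Dv.wd (nat_lit 26) [Mv.f (nat_lit 7296), Mv.b (nat_lit 11349), Mv.f (nat_lit 12726)])))
(Tr.nd (nat_lit 12730) (Tr.lf (Fc.ed (nat_lit 12729) (nat_lit 4886) Col.b (nat_lit 4338) (Dv.wd (nat_lit 87) [Mv.f (nat_lit 11131), Mv.b (nat_lit 11057), Mv.f (nat_lit 10833), Mv.f (nat_lit 11348), Mv.f (nat_lit 12726)])))
(Tr.lf (Fc.ed (nat_lit 12730) (nat_lit 4327) Col.d (nat_lit 4886) (Dv.wd (nat_lit 116) [Mv.f (nat_lit 12729), Mv.f (nat_lit 11132), Mv.b (nat_lit 11114)]))))))))))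
(Tr.nd (nat_lit 12772) (Tr.nd (nat_lit 12751) (Tr.nd (nat_lit 12741) (Tr.nd (nat_lit 12736) (Tr.nd (nat_lit 12733) (Tr.nd (nat_lit 12732) (Tr.lf (Fc.ed (nat_lit 12731) (nat_lit 4497) Col.gi (nat_lit 4887) Dv.df))
(Tr.lf (Fc.ed (nat_lit 12732) (nat_lit 4887) Col.gi (nat_lit 3050) (Dv.wd (nat_lit 24) [Mv.f (nat_lit 7942), Mv.b (nat_lit 11494), Mv.f (nat_lit 12731)]))))
(Tr.nd (nat_lit 12734) (Tr.lf (Fc.ed (nat_lit 12733) (nat_lit 4487) Col.f (nat_lit 4888) Dv.df))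
(Tr.nd (nat_lit 12735) (Tr.lf (Fc.ed (nat_lit 12734) (nat_lit 3158) Col.c (nat_lit 4889) Dv.df))
(Tr.lf (Fc.ed (nat_lit 12735) (nat_lit 3028) Col.a (nat_lit 4890) Dv.df)))))
(Tr.nd (nat_lit 12738) (Tr.nd (nat_lit 12737) (Tr.lf (Fc.ed (nat_lit 12736) (nat_lit 4890) Col.f (nat_lit 3912) (Dv.wd (nat_lit 35) [Mv.b (nat_lit 11037), Mv.b (nat_lit 11036), Mv.f (nat_lit 12735)])))
(Tr.lf (Fc.ed (nat_lit 12737) (nat_lit 2824) Col.d (nat_lit 4891) Dv.df)))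
(Tr.nd (nat_lit 12739) (Tr.lf (Fc.ed (nat_lit 12738) (nat_lit 4891) Col.f (nat_lit 4746) (Dv.wd (nat_lit 11) [Mv.b (nat_lit 12459), Mv.b (nat_lit 12204), Mv.f (nat_lit 12737)])))
(Tr.nd (nat_lit 12740) (Tr.lf (Fc.ed (nat_lit 12739) (nat_lit 4675) Col.gi (nat_lit 4891) (Dv.wd (nat_lit 24) [Mv.f (nat_lit 12738), Mv.f (nat_lit 12460), Mv.f (nat_lit 11826)])))
(Tr.lf (Fc.ed (nat_lit 12740) (nat_lit 4432) Col.b (nat_lit 4892) Dv.df))))))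
(Tr.nd (nat_lit 12746) (Tr.nd (nat_lit 12743) (Tr.nd (nat_lit 12742) (Tr.lf (Fc.ed (nat_lit 12741) (nat_lit 4892) Col.f (nat_lit 3054) (Dv.wd (nat_lit 20) [Mv.f (nat_lit 7953), Mv.f (nat_lit 11384), Mv.f (nat_lit 12740)])))
(Tr.lf (Fc.ed (nat_lit 12742) (nat_lit 4583) Col.d (nat_lit 4892) (Dv.wd (nat_lit 90) [Mv.f (nat_lit 12741), Mv.f (nat_lit 7954), Mv.f (nat_lit 11654)]))))
(Tr.nd (nat_lit 12744) (Tr.lf (Fc.ed (nat_lit 12743) (nat_lit 3605) Col.b (nat_lit 4893) Dv.df))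
(Tr.nd (nat_lit 12745) (Tr.lf (Fc.ed (nat_lit 12744) (nat_lit 4642) Col.d (nat_lit 4894) Dv.df))
(Tr.lf (Fc.ed (nat_lit 12745) (nat_lit 4894) Col.f (nat_lit 3626) (Dv.wd (nat_lit 11) [Mv.b (nat_lit 9097), Mv.f (nat_lit 11762), Mv.f (nat_lit 12744)]))))))
(Tr.nd (nat_lit 12748) (Tr.nd (nat_lit 12747) (Tr.lf (Fc.ed (nat_lit 12746) (nat_lit 3640) Col.e (nat_lit 4894) (Dv.wd (nat_lit 57) [Mv.f (nat_lit 12745), Mv.f (nat_lit 9098), Mv.b (nat_lit 8218), Mv.f (nat_lit 8248), Mv.f (nat_lit 9126)])))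
(Tr.lf (Fc.ed (nat_lit 12747) (nat_lit 4889) Col.f (nat_lit 4895) Dv.df)))
(Tr.nd (nat_lit 12749) (Tr.lf (Fc.ed (nat_lit 12748) (nat_lit 4895) Col.c (nat_lit 4633) (Dv.wd (nat_lit 34) [Mv.b (nat_lit 11746), Mv.f (nat_lit 12734), Mv.f (nat_lit 12747)])))
(Tr.nd (nat_lit 12750) (Tr.lf (Fc.ed (nat_lit 12749) (nat_lit 2522) Col.gi (nat_lit 4896) Dv.df))
(Tr.lf (Fc.ed (nat_lit 12750) (nat_lit 4896) Col.gi (nat_lit 3174) (Dv.wd (nat_lit 24) [Mv.f (nat_lit 8206), Mv.f (nat_lit 7101), Mv.f (nat_lit 12749)]))))))))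
(Tr.nd (nat_lit 12761) (Tr.nd (nat_lit 12756) (Tr.nd (nat_lit 12753) (Tr.nd (nat_lit 12752) (Tr.lf (Fc.ed (nat_lit 12751) (nat_lit 3123) Col.b (nat_lit 4897) Dv.df))
(Tr.lf (Fc.ed (nat_lit 12752) (nat_lit 4897) Col.c (nat_lit 4794) (Dv.wd (nat_lit 156) [Mv.f (nat_lit 12549), Mv.b (nat_lit 5634), Mv.b (nat_lit 2128), Mv.b (nat_lit 693), Mv.f (nat_lit 28), Mv.f (nat_lit 46), Mv.b (nat_lit 2586), Mv.f (nat_lit 3336), Mv.f (nat_lit 8100), Mv.f (nat_lit 12751)]))))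
(Tr.nd (nat_lit 12754) (Tr.lf (Fc.ed (nat_lit 12753) (nat_lit 4443) Col.e (nat_lit 4898) Dv.df))
(Tr.nd (nat_lit 12755) (Tr.lf (Fc.ed (nat_lit 12754) (nat_lit 4754) Col.g (nat_lit 4899) Dv.df))
(Tr.lf (Fc.ed (nat_lit 12755) (nat_lit 3855) Col.d (nat_lit 4900) Dv.df)))))
(Tr.nd (nat_lit 12758) (Tr.nd (nat_lit 12757) (Tr.lf (Fc.ed (nat_lit 12756) (nat_lit 4900) Col.f (nat_lit 4020) (Dv.wd (nat_lit 11) [Mv.b (nat_lit 10149), Mv.b (nat_lit 9525), Mv.f (nat_lit 12755)])))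
(Tr.lf (Fc.ed (nat_lit 12757) (nat_lit 3089) Col.gi (nat_lit 4901) Dv.df)))
(Tr.nd (nat_lit 12759) (Tr.lf (Fc.ed (nat_lit 12758) (nat_lit 4901) Col.gi (nat_lit 1750) (Dv.wd (nat_lit 24) [Mv.f (nat_lit 7520), Mv.b (nat_lit 8027), Mv.f (nat_lit 12757)])))
(Tr.nd (nat_lit 12760) (Tr.lf (Fc.ed (nat_lit 12759) (nat_lit 4861) Col.d (nat_lit 4902) Dv.df))
(Tr.lf (Fc.ed (nat_lit 12760) (nat_lit 2915) Col.a (nat_lit 4903) Dv.df))))))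
(Tr.nd (nat_lit 12766) (Tr.nd (nat_lit 12763) (Tr.nd (nat_lit 12762) (Tr.lf (Fc.ed (nat_lit 12761) (nat_lit 3134) Col.a (nat_lit 4904) Dv.df))
(Tr.lf (Fc.ed (nat_lit 12762) (nat_lit 4904) Col.d (nat_lit 4652) (Dv.wd (nat_lit 28) [Mv.b (nat_lit 11775), Mv.b (nat_lit 8129), Mv.f (nat_lit 12761)]))))
(Tr.nd (nat_lit 12764) (Tr.lf (Fc.ed (nat_lit 12763) (nat_lit 4225) Col.c (nat_lit 4905) Dv.df))
(Tr.nd (nat_lit 12765) (Tr.lf (Fc.ed (nat_lit 12764) (nat_lit 4905) Col.a (nat_lit 3279) (Dv.wd (nat_lit 19) [Mv.f (nat_lit 8413), Mv.f (nat_lit 10886), Mv.f (nat_lit 12763)])))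
(Tr.lf (Fc.ed (nat_lit 12765) (nat_lit 4866) Col.d (nat_lit 4906) Dv.df)))))
(Tr.nd (nat_lit 12769) (Tr.nd (nat_lit 12767) (Tr.lf (Fc.ed (nat_lit 12766) (nat_lit 4906) Col.a (nat_lit 2026) (Dv.wd (nat_lit 8) [Mv.b (nat_lit 6181), Mv.b (nat_lit 12692), Mv.f (nat_lit 12765)])))
(Tr.nd (nat_lit 12768) (Tr.lf (Fc.ed (nat_lit 12767) (nat_lit 4268) Col.d (nat_lit 4907) Dv.df))
(Tr.lf (Fc.ed (nat_lit 12768) (nat_lit 4907) Col.a (nat_lit 3152) (Dv.wd (nat_lit 8) [Mv.b (nat_lit 8160), Mv.b (nat_lit 10983), Mv.f (nat_lit 12767)])))))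
(Tr.nd (nat_lit 12770) (Tr.lf (Fc.ed (nat_lit 12769) (nat_lit 3782) Col.e (nat_lit 4907) (Dv.wd (nat_lit 72) [Mv.f (nat_lit 12768), Mv.f (nat_lit 8161), Mv.f (nat_lit 9395)])))
(Tr.nd (nat_lit 12771) (Tr.lf (Fc.ed (nat_lit 12770) (nat_lit 4702) Col.a (nat_lit 4908) Dv.df))
(Tr.lf (Fc.ed (nat_lit 12771) (nat_lit 4908) Col.c (nat_lit 1479) (Dv.wd (nat_lit 33) [Mv.f (nat_lit 6256), Mv.b (nat_lit 11877), Mv.f (nat_lit 12770)])))))))))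
(Tr.nd (nat_lit 12792) (Tr.nd (nat_lit 12782) (Tr.nd (nat_lit 12777) (Tr.nd (nat_lit 12774) (Tr.nd (nat_lit 12773) (Tr.lf (Fc.ed (nat_lit 12772) (nat_lit 4665) Col.e (nat_lit 4909) Dv.df))
(Tr.lf (Fc.ed (nat_lit 12773) (nat_lit 4909) Col.g (nat_lit 3044) (Dv.wd (nat_lit 75) [Mv.b (nat_lit 7915), Mv.b (nat_lit 6998), Mv.f (nat_lit 3933), Mv.b (nat_lit 3857), Mv.b (nat_lit 3029), Mv.f (nat_lit 4265), Mv.f (nat_lit 4509), Mv.f (nat_lit 7589), Mv.b (nat_lit 11802), Mv.f (nat_lit 12772)]))))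
(Tr.nd (nat_lit 12775) (Tr.lf (Fc.ed (nat_lit 12774) (nat_lit 4591) Col.gi (nat_lit 4910) Dv.df))
(Tr.nd (nat_lit 12776) (Tr.lf (Fc.ed (nat_lit 12775) (nat_lit 4910) Col.gi (nat_lit 3062) (Dv.wd (nat_lit 24) [Mv.b (nat_lit 8119), Mv.f (nat_lit 11668), Mv.f (nat_lit 12774)])))
(Tr.lf (Fc.ed (nat_lit 12776) (nat_lit 3048) Col.a (nat_lit 4911) Dv.df)))))
(Tr.nd (nat_lit 12779) (Tr.nd (nat_lit 12778) (Tr.lf (Fc.ed (nat_lit 12777) (nat_lit 4911) Col.f (nat_lit 4723) (Dv.wd (nat_lit 35) [Mv.b (nat_lit 11915), Mv.b (nat_lit 7922), Mv.f (nat_lit 12776)])))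
(Tr.lf (Fc.ed (nat_lit 12778) (nat_lit 3737) Col.f (nat_lit 4912) Dv.df)))
(Tr.nd (nat_lit 12780) (Tr.lf (Fc.ed (nat_lit 12779) (nat_lit 4912) Col.a (nat_lit 4721) (Dv.wd (nat_lit 16) [Mv.f (nat_lit 11912), Mv.b (nat_lit 9405), Mv.f (nat_lit 12778)])))
(Tr.nd (nat_lit 12781) (Tr.lf (Fc.ed (nat_lit 12780) (nat_lit 4912) Col.c (nat_lit 2203) (Dv.wd (nat_lit 34) [Mv.f (nat_lit 8995), Mv.f (nat_lit 9320), Mv.f (nat_lit 12778)])))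
(Tr.lf (Fc.ed (nat_lit 12781) (nat_lit 2706) Col.g (nat_lit 4913) Dv.df))))))
(Tr.nd (nat_lit 12787) (Tr.nd (nat_lit 12784) (Tr.nd (nat_lit 12783) (Tr.lf (Fc.ed (nat_lit 12782) (nat_lit 4913) Col.g (nat_lit 4670) (Dv.wd (nat_lit 9) [Mv.f (nat_lit 11812), Mv.f (nat_lit 8915), Mv.f (nat_lit 12781)])))
(Tr.lf (Fc.ed (nat_lit 12783) (nat_lit 3659) Col.a (nat_lit 4914) Dv.df)))
(Tr.nd (nat_lit 12785) (Tr.lf (Fc.ed (nat_lit 12784) (nat_lit 4914) Col.e (nat_lit 2667) (Dv.wd (nat_lit 56) [Mv.f (nat_lit 7114), Mv.f (nat_lit 10114), Mv.f (nat_lit 12783)])))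
(Tr.nd (nat_lit 12786) (Tr.lf (Fc.ed (nat_lit 12785) (nat_lit 3299) Col.a (nat_lit 4915) Dv.df))
(Tr.lf (Fc.ed (nat_lit 12786) (nat_lit 4915) Col.d (nat_lit 4193) (Dv.wd (nat_lit 28) [Mv.b (nat_lit 10825), Mv.f (nat_lit 8453), Mv.f (nat_lit 12785)]))))))
(Tr.nd (nat_lit 12789) (Tr.nd (nat_lit 12788) (Tr.lf (Fc.ed (nat_lit 12787) (nat_lit 4847) Col.c (nat_lit 4916) Dv.df))
(Tr.lf (Fc.ed (nat_lit 12788) (nat_lit 4916) Col.b (nat_lit 1400) (Dv.wd (nat_lit 106) [Mv.b (nat_lit 4244), Mv.f (nat_lit 4183), Mv.f (nat_lit 4552), Mv.f (nat_lit 8427), Mv.f (nat_lit 8536), Mv.f (nat_lit 8537), Mv.f (nat_lit 6086), Mv.f (nat_lit 8860), Mv.b (nat_lit 12652), Mv.f (nat_lit 12787)]))))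
(Tr.nd (nat_lit 12790) (Tr.lf (Fc.ed (nat_lit 12789) (nat_lit 3728) Col.gi (nat_lit 4917) Dv.df))
(Tr.nd (nat_lit 12791) (Tr.lf (Fc.ed (nat_lit 12790) (nat_lit 4917) Col.gi (nat_lit 2661) (Dv.wd (nat_lit 24) [Mv.b (nat_lit 8206), Mv.b (nat_lit 9301), Mv.f (nat_lit 12789)])))
(Tr.lf (Fc.ed (nat_lit 12791) (nat_lit 4890) Col.e (nat_lit 4918) Dv.df)))))))
(Tr.nd (nat_lit 12802) (Tr.nd (nat_lit 12797) (Tr.nd (nat_lit 12794) (Tr.nd (nat_lit 12793) (Tr.lf (Fc.ed (nat_lit 12792) (nat_lit 4918) Col.a (nat_lit 3125) (Dv.wd (nat_lit 15) [Mv.f (nat_lit 8105), Mv.f (nat_lit 12735), Mv.f (nat_lit 12791)])))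
(Tr.lf (Fc.ed (nat_lit 12793) (nat_lit 4275) Col.f (nat_lit 4919) Dv.df)))
(Tr.nd (nat_lit 12795) (Tr.lf (Fc.ed (nat_lit 12794) (nat_lit 4919) Col.a (nat_lit 4557) (Dv.wd (nat_lit 23) [Mv.b (nat_lit 11604), Mv.b (nat_lit 10998), Mv.f (nat_lit 12793)])))
(Tr.nd (nat_lit 12796) (Tr.lf (Fc.ed (nat_lit 12795) (nat_lit 4581) Col.e (nat_lit 4919) (Dv.wd (nat_lit 72) [Mv.f (nat_lit 12794), Mv.b (nat_lit 11624), Mv.b (nat_lit 11651)])))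
(Tr.lf (Fc.ed (nat_lit 12796) (nat_lit 3192) Col.a (nat_lit 4920) Dv.df)))))
(Tr.nd (nat_lit 12799) (Tr.nd (nat_lit 12798) (Tr.lf (Fc.ed (nat_lit 12797) (nat_lit 4920) Col.f (nat_lit 4751) (Dv.wd (nat_lit 35) [Mv.b (nat_lit 12469), Mv.b (nat_lit 8243), Mv.f (nat_lit 12796)])))
(Tr.lf (Fc.ed (nat_lit 12798) (nat_lit 2866) Col.c (nat_lit 4921) Dv.df)))
(Tr.nd (nat_lit 12800) (Tr.lf (Fc.ed (nat_lit 12799) (nat_lit 4921) Col.f (nat_lit 4828) (Dv.wd (nat_lit 26) [Mv.b (nat_lit 12611), Mv.b (nat_lit 7549), Mv.f (nat_lit 12798)])))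
(Tr.nd (nat_lit 12801) (Tr.lf (Fc.ed (nat_lit 12800) (nat_lit 2846) Col.b (nat_lit 4922) Dv.df))
(Tr.lf (Fc.ed (nat_lit 12801) (nat_lit 4581) Col.f (nat_lit 4923) Dv.df))))))
(Tr.nd (nat_lit 12807) (Tr.nd (nat_lit 12804) (Tr.nd (nat_lit 12803) (Tr.lf (Fc.ed (nat_lit 12802) (nat_lit 4923) Col.d (nat_lit 2443) (Dv.wd (nat_lit 21) [Mv.b (nat_lit 9296), Mv.f (nat_lit 11650), Mv.f (nat_lit 12801)])))
(Tr.lf (Fc.ed (nat_lit 12803) (nat_lit 4201) Col.f (nat_lit 4924) Dv.df)))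
(Tr.nd (nat_lit 12805) (Tr.lf (Fc.ed (nat_lit 12804) (nat_lit 4924) Col.a (nat_lit 3473) (Dv.wd (nat_lit 16) [Mv.f (nat_lit 8805), Mv.b (nat_lit 10840), Mv.f (nat_lit 12803)])))
(Tr.nd (nat_lit 12806) (Tr.lf (Fc.ed (nat_lit 12805) (nat_lit 4924) Col.e (nat_lit 4753) (Dv.wd (nat_lit 22) [Mv.f (nat_lit 12474), Mv.f (nat_lit 8630), Mv.b (nat_lit 5940), Mv.f (nat_lit 10839), Mv.f (nat_lit 12803)])))
(Tr.lf (Fc.ed (nat_lit 12806) (nat_lit 3081) Col.a (nat_lit 4925) Dv.df)))))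
(Tr.nd (nat_lit 12810) (Tr.nd (nat_lit 12808) (Tr.lf (Fc.ed (nat_lit 12807) (nat_lit 4925) Col.f (nat_lit 3993) (Dv.wd (nat_lit 10) [Mv.b (nat_lit 9790), Mv.b (nat_lit 8011), Mv.f (nat_lit 12806)])))
(Tr.nd (nat_lit 12809) (Tr.lf (Fc.ed (nat_lit 12808) (nat_lit 3259) Col.g (nat_lit 4926) Dv.df))
(Tr.lf (Fc.ed (nat_lit 12809) (nat_lit 4926) Col.g (nat_lit 1847) (Dv.wd (nat_lit 9) [Mv.b (nat_lit 6338), Mv.f (nat_lit 8374), Mv.f (nat_lit 12808)])))))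
(Tr.nd (nat_lit 12811) (Tr.lf (Fc.ed (nat_lit 12810) (nat_lit 3099) Col.a (nat_lit 4927) Dv.df))
(Tr.nd (nat_lit 12812) (Tr.lf (Fc.ed (nat_lit 12811) (nat_lit 4927) Col.f (nat_lit 2962) (Dv.wd (nat_lit 35) [Mv.f (nat_lit 9015), Mv.f (nat_lit 9016), Mv.f (nat_lit 12810)])))
(Tr.lf (Fc.ed (nat_lit 12812) (nat_lit 4669) Col.d (nat_lit 4928) Dv.df)))))))))))
(Tr.nd (nat_lit 12977) (Tr.nd (nat_lit 12895) (Tr.nd (nat_lit 12854) (Tr.nd (nat_lit 12833) (Tr.nd (nat_lit 12823) (Tr.nd (nat_lit 12818) (Tr.nd (nat_lit 12815) (Tr.nd (nat_lit 12814) (Tr.lf (Fc.ed (nat_lit 12813) (nat_lit 4928) Col.a (nat_lit 3267) (Dv.wd (nat_lit 8) [Mv.f (nat_lit 8388), Mv.b (nat_lit 11810), Mv.f (nat_lit 12812)])))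
(Tr.lf (Fc.ed (nat_lit 12814) (nat_lit 3813) Col.e (nat_lit 4928) (Dv.wd (nat_lit 72) [Mv.f (nat_lit 12813), Mv.b (nat_lit 8387), Mv.f (nat_lit 9451)]))))
(Tr.nd (nat_lit 12816) (Tr.lf (Fc.ed (nat_lit 12815) (nat_lit 3097) Col.a (nat_lit 4929) Dv.df))
(Tr.nd (nat_lit 12817) (Tr.lf (Fc.ed (nat_lit 12816) (nat_lit 4929) Col.c (nat_lit 4479) (Dv.wd (nat_lit 33) [Mv.b (nat_lit 11462), Mv.f (nat_lit 8046), Mv.f (nat_lit 12815)])))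
(Tr.lf (Fc.ed (nat_lit 12817) (nat_lit 2339) Col.d (nat_lit 4930) Dv.df)))))
(Tr.nd (nat_lit 12820) (Tr.nd (nat_lit 12819) (Tr.lf (Fc.ed (nat_lit 12818) (nat_lit 4930) Col.f (nat_lit 4568) (Dv.wd (nat_lit 11) [Mv.b (nat_lit 11625), Mv.b (nat_lit 7478), Mv.f (nat_lit 12817)])))
(Tr.lf (Fc.ed (nat_lit 12819) (nat_lit 4387) Col.c (nat_lit 4931) Dv.df)))
(Tr.nd (nat_lit 12821) (Tr.lf (Fc.ed (nat_lit 12820) (nat_lit 4931) Col.b (nat_lit 3025) (Dv.wd (nat_lit 106) [Mv.f (nat_lit 7880), Mv.f (nat_lit 7267), Mv.b (nat_lit 10933), Mv.f (nat_lit 12600), Mv.b (nat_lit 12620), Mv.b (nat_lit 12619), Mv.f (nat_lit 6437), Mv.b (nat_lit 6734), Mv.f (nat_lit 11296), Mv.f (nat_lit 12819)])))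
(Tr.nd (nat_lit 12822) (Tr.lf (Fc.ed (nat_lit 12821) (nat_lit 2643) Col.g (nat_lit 4932) Dv.df))
(Tr.lf (Fc.ed (nat_lit 12822) (nat_lit 4932) Col.g (nat_lit 4806) (Dv.wd (nat_lit 9) [Mv.b (nat_lit 12569), Mv.f (nat_lit 7996), Mv.f (nat_lit 12821)])))))))
(Tr.nd (nat_lit 12828) (Tr.nd (nat_lit 12825) (Tr.nd (nat_lit 12824) (Tr.lf (Fc.ed (nat_lit 12823) (nat_lit 2541) Col.gi (nat_lit 4933) Dv.df))
(Tr.lf (Fc.ed (nat_lit 12824) (nat_lit 4933) Col.gi (nat_lit 4338) (Dv.wd (nat_lit 24) [Mv.b (nat_lit 11129), Mv.f (nat_lit 6839), Mv.f (nat_lit 12823)]))))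
(Tr.nd (nat_lit 12826) (Tr.lf (Fc.ed (nat_lit 12825) (nat_lit 3083) Col.d (nat_lit 4934) Dv.df))
(Tr.nd (nat_lit 12827) (Tr.lf (Fc.ed (nat_lit 12826) (nat_lit 4934) Col.a (nat_lit 4684) (Dv.wd (nat_lit 8) [Mv.b (nat_lit 11842), Mv.f (nat_lit 8787), Mv.f (nat_lit 12825)])))
(Tr.lf (Fc.ed (nat_lit 12827) (nat_lit 4934) Col.f (nat_lit 4612) (Dv.wd (nat_lit 11) [Mv.f (nat_lit 11705), Mv.b (nat_lit 8207), Mv.f (nat_lit 12825)]))))))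
(Tr.nd (nat_lit 12830) (Tr.nd (nat_lit 12829) (Tr.lf (Fc.ed (nat_lit 12828) (nat_lit 2444) Col.g (nat_lit 4935) Dv.df))
(Tr.lf (Fc.ed (nat_lit 12829) (nat_lit 4935) Col.g (nat_lit 4463) (Dv.wd (nat_lit 9) [Mv.b (nat_lit 11436), Mv.f (nat_lit 6689), Mv.f (nat_lit 12828)]))))
(Tr.nd (nat_lit 12831) (Tr.lf (Fc.ed (nat_lit 12830) (nat_lit 4931) Col.e (nat_lit 4936) Dv.df))
(Tr.nd (nat_lit 12832) (Tr.lf (Fc.ed (nat_lit 12831) (nat_lit 4936) Col.b (nat_lit 4312) (Dv.wd (nat_lit 49) [Mv.b (nat_lit 11085), Mv.b (nat_lit 12820), Mv.f (nat_lit 12830)])))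
(Tr.lf (Fc.ed (nat_lit 12832) (nat_lit 4323) Col.gi (nat_lit 4937) Dv.df)))))))
(Tr.nd (nat_lit 12843) (Tr.nd (nat_lit 12838) (Tr.nd (nat_lit 12835) (Tr.nd (nat_lit 12834) (Tr.lf (Fc.ed (nat_lit 12833) (nat_lit 4937) Col.gi (nat_lit 2570) (Dv.wd (nat_lit 24) [Mv.f (nat_lit 11105), Mv.f (nat_lit 11106), Mv.f (nat_lit 12832)])))
(Tr.lf (Fc.ed (nat_lit 12834) (nat_lit 4782) Col.a (nat_lit 4937) (Dv.wd (nat_lit 23) [Mv.f (nat_lit 12833), Mv.b (nat_lit 11822), Mv.f (nat_lit 12525)]))))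
(Tr.nd (nat_lit 12836) (Tr.lf (Fc.ed (nat_lit 12835) (nat_lit 2942) Col.a (nat_lit 4938) Dv.df))
(Tr.nd (nat_lit 12837) (Tr.lf (Fc.ed (nat_lit 12836) (nat_lit 4938) Col.d (nat_lit 4446) (Dv.wd (nat_lit 28) [Mv.f (nat_lit 11409), Mv.f (nat_lit 9972), Mv.f (nat_lit 12835)])))
(Tr.lf (Fc.ed (nat_lit 12837) (nat_lit 4122) Col.d (nat_lit 4939) Dv.df)))))
(Tr.nd (nat_lit 12840) (Tr.nd (nat_lit 12839) (Tr.lf (Fc.ed (nat_lit 12838) (nat_lit 4939) Col.b (nat_lit 4568) (Dv.wd (nat_lit 37) [Mv.b (nat_lit 11625), Mv.f (nat_lit 10615), Mv.f (nat_lit 12837)])))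
(Tr.lf (Fc.ed (nat_lit 12839) (nat_lit 3590) Col.d (nat_lit 4940) Dv.df)))
(Tr.nd (nat_lit 12841) (Tr.lf (Fc.ed (nat_lit 12840) (nat_lit 4940) Col.b (nat_lit 3218) (Dv.wd (nat_lit 37) [Mv.f (nat_lit 12111), Mv.b (nat_lit 9037), Mv.f (nat_lit 12839)])))
(Tr.nd (nat_lit 12842) (Tr.lf (Fc.ed (nat_lit 12841) (nat_lit 4568) Col.a (nat_lit 4941) Dv.df))
(Tr.lf (Fc.ed (nat_lit 12842) (nat_lit 4941) Col.d (nat_lit 2975) (Dv.wd (nat_lit 28) [Mv.f (nat_lit 7773), Mv.f (nat_lit 11625), Mv.f (nat_lit 12841)])))))))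
(Tr.nd (nat_lit 12848) (Tr.nd (nat_lit 12845) (Tr.nd (nat_lit 12844) (Tr.lf (Fc.ed (nat_lit 12843) (nat_lit 4745) Col.gi (nat_lit 4942) Dv.df))
(Tr.lf (Fc.ed (nat_lit 12844) (nat_lit 4837) Col.f (nat_lit 4943) Dv.df)))
(Tr.nd (nat_lit 12846) (Tr.lf (Fc.ed (nat_lit 12845) (nat_lit 4943) Col.b (nat_lit 3948) (Dv.wd (nat_lit 66) [Mv.f (nat_lit 9722), Mv.b (nat_lit 12629), Mv.f (nat_lit 12844)])))
(Tr.nd (nat_lit 12847) (Tr.lf (Fc.ed (nat_lit 12846) (nat_lit 3201) Col.gi (nat_lit 4944) Dv.df))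
(Tr.lf (Fc.ed (nat_lit 12847) (nat_lit 4944) Col.gi (nat_lit 2855) (Dv.wd (nat_lit 24) [Mv.f (nat_lit 9910), Mv.f (nat_lit 9911), Mv.f (nat_lit 12846)]))))))
(Tr.nd (nat_lit 12851) (Tr.nd (nat_lit 12849) (Tr.lf (Fc.ed (nat_lit 12848) (nat_lit 4849) Col.g (nat_lit 4945) Dv.df))
(Tr.nd (nat_lit 12850) (Tr.lf (Fc.ed (nat_lit 12849) (nat_lit 4221) Col.g (nat_lit 4946) Dv.df))
(Tr.lf (Fc.ed (nat_lit 12850) (nat_lit 4946) Col.g (nat_lit 4521) (Dv.wd (nat_lit 9) [Mv.f (nat_lit 11558), Mv.f (nat_lit 11557), Mv.f (nat_lit 12849)])))))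
(Tr.nd (nat_lit 12852) (Tr.lf (Fc.ed (nat_lit 12851) (nat_lit 4946) Col.d (nat_lit 3461) (Dv.wd (nat_lit 85) [Mv.f (nat_lit 10563), Mv.f (nat_lit 10564), Mv.b (nat_lit 10335), Mv.b (nat_lit 10452), Mv.f (nat_lit 10454), Mv.f (nat_lit 5434), Mv.b (nat_lit 5378), Mv.f (nat_lit 10879), Mv.f (nat_lit 12849)])))
(Tr.nd (nat_lit 12853) (Tr.lf (Fc.ed (nat_lit 12852) (nat_lit 2348) Col.d (nat_lit 4947) Dv.df))
(Tr.lf (Fc.ed (nat_lit 12853) (nat_lit 4947) Col.a (nat_lit 4477) (Dv.wd (nat_lit 8) [Mv.b (nat_lit 11458), Mv.f (nat_lit 10654), Mv.f (nat_lit 12852)])))))))))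
(Tr.nd (nat_lit 12874) (Tr.nd (nat_lit 12864) (Tr.nd (nat_lit 12859) (Tr.nd (nat_lit 12856) (Tr.nd (nat_lit 12855) (Tr.lf (Fc.ed (nat_lit 12854) (nat_lit 4947) Col.f (nat_lit 4946) (Dv.wd (nat_lit 11) [Mv.f (nat_lit 12851), Mv.b (nat_lit 10652), Mv.f (nat_lit 12852)])))
(Tr.lf (Fc.ed (nat_lit 12855) (nat_lit 4947) Col.gi (nat_lit 4532) (Dv.wd (nat_lit 111) [Mv.f (nat_lit 11556), Mv.b (nat_lit 12269), Mv.b (nat_lit 8585), Mv.b (nat_lit 12288), Mv.b (nat_lit 10449), Mv.f (nat_lit 10239), Mv.b (nat_lit 10218), Mv.b (nat_lit 9629), Mv.f (nat_lit 12852)]))))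
(Tr.nd (nat_lit 12857) (Tr.lf (Fc.ed (nat_lit 12856) (nat_lit 2546) Col.g (nat_lit 4948) Dv.df))
(Tr.nd (nat_lit 12858) (Tr.lf (Fc.ed (nat_lit 12857) (nat_lit 4948) Col.g (nat_lit 4367) (Dv.wd (nat_lit 9) [Mv.f (nat_lit 11259), Mv.b (nat_lit 7866), Mv.f (nat_lit 12856)])))
(Tr.lf (Fc.ed (nat_lit 12858) (nat_lit 3214) Col.a (nat_lit 4949) Dv.df)))))
(Tr.nd (nat_lit 12861) (Tr.nd (nat_lit 12860) (Tr.lf (Fc.ed (nat_lit 12859) (nat_lit 4949) Col.f (nat_lit 3773) (Dv.wd (nat_lit 35) [Mv.f (nat_lit 11481), Mv.f (nat_lit 11482), Mv.f (nat_lit 12858)])))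
(Tr.lf (Fc.ed (nat_lit 12860) (nat_lit 2166) Col.b (nat_lit 4950) Dv.df)))
(Tr.nd (nat_lit 12862) (Tr.lf (Fc.ed (nat_lit 12861) (nat_lit 4601) Col.d (nat_lit 4951) Dv.df))
(Tr.nd (nat_lit 12863) (Tr.lf (Fc.ed (nat_lit 12862) (nat_lit 4951) Col.a (nat_lit 2615) (Dv.wd (nat_lit 8) [Mv.b (nat_lit 6996), Mv.b (nat_lit 11688), Mv.f (nat_lit 12861)])))
(Tr.lf (Fc.ed (nat_lit 12863) (nat_lit 4850) Col.a (nat_lit 4952) Dv.df))))))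
(Tr.nd (nat_lit 12869) (Tr.nd (nat_lit 12866) (Tr.nd (nat_lit 12865) (Tr.lf (Fc.ed (nat_lit 12864) (nat_lit 3050) Col.a (nat_lit 4953) Dv.df))
(Tr.lf (Fc.ed (nat_lit 12865) (nat_lit 4953) Col.c (nat_lit 4517) (Dv.wd (nat_lit 33) [Mv.b (nat_lit 11525), Mv.f (nat_lit 7941), Mv.f (nat_lit 12864)]))))
(Tr.nd (nat_lit 12867) (Tr.lf (Fc.ed (nat_lit 12866) (nat_lit 4953) Col.f (nat_lit 4497) (Dv.wd (nat_lit 35) [Mv.f (nat_lit 11494), Mv.b (nat_lit 7942), Mv.f (nat_lit 12864)])))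
(Tr.nd (nat_lit 12868) (Tr.lf (Fc.ed (nat_lit 12867) (nat_lit 3134) Col.e (nat_lit 4954) Dv.df))
(Tr.lf (Fc.ed (nat_lit 12868) (nat_lit 4954) Col.b (nat_lit 4349) (Dv.wd (nat_lit 49) [Mv.f (nat_lit 11161), Mv.f (nat_lit 8128), Mv.f (nat_lit 12867)]))))))
(Tr.nd (nat_lit 12871) (Tr.nd (nat_lit 12870) (Tr.lf (Fc.ed (nat_lit 12869) (nat_lit 4513) Col.gi (nat_lit 4955) Dv.df))
(Tr.lf (Fc.ed (nat_lit 12870) (nat_lit 4955) Col.gi (nat_lit 2211) (Dv.wd (nat_lit 24) [Mv.b (nat_lit 6098), Mv.f (nat_lit 11520), Mv.f (nat_lit 12869)]))))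
(Tr.nd (nat_lit 12872) (Tr.lf (Fc.ed (nat_lit 12871) (nat_lit 3758) Col.d (nat_lit 4956) Dv.df))
(Tr.nd (nat_lit 12873) (Tr.lf (Fc.ed (nat_lit 12872) (nat_lit 4956) Col.b (nat_lit 4647) (Dv.wd (nat_lit 37) [Mv.b (nat_lit 12424), Mv.f (nat_lit 9351), Mv.f (nat_lit 12871)])))
(Tr.lf (Fc.ed (nat_lit 12873) (nat_lit 4956) Col.e (nat_lit 3842) (Dv.wd (nat_lit 42) [Mv.b (nat_lit 10498), Mv.f (nat_lit 10373), Mv.b (nat_lit 12436), Mv.b (nat_lit 9352), Mv.f (nat_lit 12871)]))))))))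
(Tr.nd (nat_lit 12884) (Tr.nd (nat_lit 12879) (Tr.nd (nat_lit 12876) (Tr.nd (nat_lit 12875) (Tr.lf (Fc.ed (nat_lit 12874) (nat_lit 4916) Col.f (nat_lit 4957) Dv.df))
(Tr.lf (Fc.ed (nat_lit 12875) (nat_lit 1882) Col.c (nat_lit 4958) Dv.df)))
(Tr.nd (nat_lit 12877) (Tr.lf (Fc.ed (nat_lit 12876) (nat_lit 3522) Col.gi (nat_lit 4959) Dv.df))
(Tr.nd (nat_lit 12878) (Tr.lf (Fc.ed (nat_lit 12877) (nat_lit 4959) Col.gi (nat_lit 1912) (Dv.wd (nat_lit 24) [Mv.b (nat_lit 8135), Mv.b (nat_lit 8903), Mv.f (nat_lit 12876)])))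
(Tr.lf (Fc.ed (nat_lit 12878) (nat_lit 4765) Col.d (nat_lit 4960) Dv.df)))))
(Tr.nd (nat_lit 12881) (Tr.nd (nat_lit 12880) (Tr.lf (Fc.ed (nat_lit 12879) (nat_lit 4960) Col.b (nat_lit 1793) (Dv.wd (nat_lit 37) [Mv.f (nat_lit 6347), Mv.f (nat_lit 12491), Mv.f (nat_lit 12878)])))
(Tr.lf (Fc.ed (nat_lit 12880) (nat_lit 4476) Col.e (nat_lit 4960) (Dv.wd (nat_lit 82) [Mv.f (nat_lit 12879), Mv.f (nat_lit 6552), Mv.f (nat_lit 11457)]))))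
(Tr.nd (nat_lit 12882) (Tr.lf (Fc.ed (nat_lit 12881) (nat_lit 4954) Col.f (nat_lit 4961) Dv.df))
(Tr.nd (nat_lit 12883) (Tr.lf (Fc.ed (nat_lit 12882) (nat_lit 4961) Col.b (nat_lit 3019) (Dv.wd (nat_lit 66) [Mv.f (nat_lit 12420), Mv.b (nat_lit 12868), Mv.f (nat_lit 12881)])))
(Tr.lf (Fc.ed (nat_lit 12883) (nat_lit 3076) Col.a (nat_lit 4962) Dv.df))))))
(Tr.nd (nat_lit 12889) (Tr.nd (nat_lit 12886) (Tr.nd (nat_lit 12885) (Tr.lf (Fc.ed (nat_lit 12884) (nat_lit 4709) Col.gi (nat_lit 4963) Dv.df))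
(Tr.lf (Fc.ed (nat_lit 12885) (nat_lit 4963) Col.gi (nat_lit 2750) (Dv.wd (nat_lit 24) [Mv.b (nat_lit 12728), Mv.f (nat_lit 12727), Mv.f (nat_lit 12884)]))))
(Tr.nd (nat_lit 12887) (Tr.lf (Fc.ed (nat_lit 12886) (nat_lit 4380) Col.a (nat_lit 4964) Dv.df))
(Tr.nd (nat_lit 12888) (Tr.lf (Fc.ed (nat_lit 12887) (nat_lit 4964) Col.f (nat_lit 3421) (Dv.wd (nat_lit 10) [Mv.f (nat_lit 8707), Mv.f (nat_lit 11286), Mv.f (nat_lit 12886)])))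
(Tr.lf (Fc.ed (nat_lit 12888) (nat_lit 2527) Col.d (nat_lit 4965) Dv.df)))))
(Tr.nd (nat_lit 12892) (Tr.nd (nat_lit 12890) (Tr.lf (Fc.ed (nat_lit 12889) (nat_lit 4965) Col.f (nat_lit 4620) (Dv.wd (nat_lit 11) [Mv.f (nat_lit 11721), Mv.f (nat_lit 9980), Mv.f (nat_lit 12888)])))
(Tr.nd (nat_lit 12891) (Tr.lf (Fc.ed (nat_lit 12890) (nat_lit 3535) Col.e (nat_lit 4966) Dv.df))
(Tr.lf (Fc.ed (nat_lit 12891) (nat_lit 2617) Col.d (nat_lit 4967) Dv.df))))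
(Tr.nd (nat_lit 12893) (Tr.lf (Fc.ed (nat_lit 12892) (nat_lit 3107) Col.a (nat_lit 4968) Dv.df))
(Tr.nd (nat_lit 12894) (Tr.lf (Fc.ed (nat_lit 12893) (nat_lit 4968) Col.f (nat_lit 4579) (Dv.wd (nat_lit 35) [Mv.b (nat_lit 12522), Mv.b (nat_lit 12521), Mv.f (nat_lit 12892)])))
(Tr.lf (Fc.ed (nat_lit 12894) (nat_lit 4908) Col.gi (nat_lit 4969) Dv.df)))))))))
(Tr.nd (nat_lit 12936) (Tr.nd (nat_lit 12915) (Tr.nd (nat_lit 12905) (Tr.nd (nat_lit 12900) (Tr.nd (nat_lit 12897) (Tr.nd (nat_lit 12896) (Tr.lf (Fc.ed (nat_lit 12895) (nat_lit 4969) Col.gi (nat_lit 4564) (Dv.wd (nat_lit 24) [Mv.f (nat_lit 11876), Mv.f (nat_lit 12770), Mv.f (nat_lit 12894)])))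
(Tr.lf (Fc.ed (nat_lit 12896) (nat_lit 2815) Col.d (nat_lit 4970) Dv.df)))
(Tr.nd (nat_lit 12898) (Tr.lf (Fc.ed (nat_lit 12897) (nat_lit 4502) Col.d (nat_lit 4971) Dv.df))
(Tr.nd (nat_lit 12899) (Tr.lf (Fc.ed (nat_lit 12898) (nat_lit 4971) Col.e (nat_lit 4963) (Dv.wd (nat_lit 74) [Mv.f (nat_lit 12885), Mv.b (nat_lit 7294), Mv.b (nat_lit 3575), Mv.f (nat_lit 3002), Mv.f (nat_lit 2148), Mv.f (nat_lit 4484), Mv.f (nat_lit 7650), Mv.f (nat_lit 7651), Mv.b (nat_lit 11502), Mv.f (nat_lit 12897)])))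
(Tr.lf (Fc.ed (nat_lit 12899) (nat_lit 4073) Col.a (nat_lit 4972) Dv.df)))))
(Tr.nd (nat_lit 12902) (Tr.nd (nat_lit 12901) (Tr.lf (Fc.ed (nat_lit 12900) (nat_lit 4934) Col.c (nat_lit 4973) Dv.df))
(Tr.lf (Fc.ed (nat_lit 12901) (nat_lit 4973) Col.d (nat_lit 2086) (Dv.wd (nat_lit 147) [Mv.b (nat_lit 5879), Mv.b (nat_lit 4653), Mv.f (nat_lit 4519), Mv.f (nat_lit 4671), Mv.f (nat_lit 11010), Mv.f (nat_lit 11441), Mv.b (nat_lit 11843), Mv.b (nat_lit 12826), Mv.f (nat_lit 12900)]))))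
(Tr.nd (nat_lit 12903) (Tr.lf (Fc.ed (nat_lit 12902) (nat_lit 4804) Col.gi (nat_lit 4973) (Dv.wd (nat_lit 111) [Mv.f (nat_lit 12901), Mv.b (nat_lit 8811), Mv.f (nat_lit 9746), Mv.b (nat_lit 10326), Mv.f (nat_lit 9457), Mv.f (nat_lit 9343), Mv.b (nat_lit 12274), Mv.b (nat_lit 12376), Mv.b (nat_lit 12566)])))
(Tr.nd (nat_lit 12904) (Tr.lf (Fc.ed (nat_lit 12903) (nat_lit 4636) Col.d (nat_lit 4974) Dv.df))
(Tr.lf (Fc.ed (nat_lit 12904) (nat_lit 4059) Col.d (nat_lit 4975) Dv.df))))))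
(Tr.nd (nat_lit 12910) (Tr.nd (nat_lit 12907) (Tr.nd (nat_lit 12906) (Tr.lf (Fc.ed (nat_lit 12905) (nat_lit 4810) Col.c (nat_lit 4976) Dv.df))
(Tr.lf (Fc.ed (nat_lit 12906) (nat_lit 3098) Col.f (nat_lit 4977) Dv.df)))
(Tr.nd (nat_lit 12908) (Tr.lf (Fc.ed (nat_lit 12907) (nat_lit 4977) Col.a (nat_lit 3172) (Dv.wd (nat_lit 23) [Mv.f (nat_lit 8202), Mv.b (nat_lit 8050), Mv.f (nat_lit 12906)])))
(Tr.nd (nat_lit 12909) (Tr.lf (Fc.ed (nat_lit 12908) (nat_lit 4914) Col.d (nat_lit 4977) (Dv.wd (nat_lit 97) [Mv.f (nat_lit 12907), Mv.f (nat_lit 9159), Mv.f (nat_lit 12783)])))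
(Tr.lf (Fc.ed (nat_lit 12909) (nat_lit 3839) Col.g (nat_lit 4978) Dv.df)))))
(Tr.nd (nat_lit 12912) (Tr.nd (nat_lit 12911) (Tr.lf (Fc.ed (nat_lit 12910) (nat_lit 4978) Col.g (nat_lit 4644) (Dv.wd (nat_lit 9) [Mv.b (nat_lit 11765), Mv.b (nat_lit 9500), Mv.f (nat_lit 12909)])))
(Tr.lf (Fc.ed (nat_lit 12911) (nat_lit 1985) Col.c (nat_lit 4979) Dv.df)))
(Tr.nd (nat_lit 12913) (Tr.lf (Fc.ed (nat_lit 12912) (nat_lit 4979) Col.a (nat_lit 4853) (Dv.wd (nat_lit 19) [Mv.b (nat_lit 12666), Mv.b (nat_lit 5553), Mv.f (nat_lit 12911)])))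
(Tr.nd (nat_lit 12914) (Tr.lf (Fc.ed (nat_lit 12913) (nat_lit 4730) Col.f (nat_lit 4980) Dv.df))
(Tr.lf (Fc.ed (nat_lit 12914) (nat_lit 4980) Col.a (nat_lit 3943) (Dv.wd (nat_lit 23) [Mv.f (nat_lit 9709), Mv.f (nat_lit 11928), Mv.f (nat_lit 12913)]))))))))
(Tr.nd (nat_lit 12925) (Tr.nd (nat_lit 12920) (Tr.nd (nat_lit 12917) (Tr.nd (nat_lit 12916) (Tr.lf (Fc.ed (nat_lit 12915) (nat_lit 4215) Col.a (nat_lit 4981) Dv.df))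
(Tr.lf (Fc.ed (nat_lit 12916) (nat_lit 4981) Col.e (nat_lit 3661) (Dv.wd (nat_lit 56) [Mv.b (nat_lit 9162), Mv.b (nat_lit 10866), Mv.f (nat_lit 12915)]))))
(Tr.nd (nat_lit 12918) (Tr.lf (Fc.ed (nat_lit 12917) (nat_lit 1790) Col.c (nat_lit 4982) Dv.df))
(Tr.nd (nat_lit 12919) (Tr.lf (Fc.ed (nat_lit 12918) (nat_lit 4982) Col.a (nat_lit 4628) (Dv.wd (nat_lit 19) [Mv.b (nat_lit 11737), Mv.b (nat_lit 8164), Mv.f (nat_lit 12917)])))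
(Tr.lf (Fc.ed (nat_lit 12919) (nat_lit 4773) Col.b (nat_lit 4983) Dv.df)))))
(Tr.nd (nat_lit 12922) (Tr.nd (nat_lit 12921) (Tr.lf (Fc.ed (nat_lit 12920) (nat_lit 4983) Col.f (nat_lit 4866) (Dv.wd (nat_lit 20) [Mv.f (nat_lit 12712), Mv.b (nat_lit 12714), Mv.f (nat_lit 12919)])))
(Tr.lf (Fc.ed (nat_lit 12921) (nat_lit 4983) Col.c (nat_lit 4578) (Dv.wd (nat_lit 93) [Mv.f (nat_lit 11645), Mv.f (nat_lit 11493), Mv.b (nat_lit 11607), Mv.b (nat_lit 12506), Mv.f (nat_lit 12919)]))))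
(Tr.nd (nat_lit 12923) (Tr.lf (Fc.ed (nat_lit 12922) (nat_lit 2229) Col.a (nat_lit 4983) (Dv.wd (nat_lit 76) [Mv.f (nat_lit 12921), Mv.b (nat_lit 11643), Mv.f (nat_lit 6133)])))
(Tr.nd (nat_lit 12924) (Tr.lf (Fc.ed (nat_lit 12923) (nat_lit 2525) Col.d (nat_lit 4984) Dv.df))
(Tr.lf (Fc.ed (nat_lit 12924) (nat_lit 4984) Col.f (nat_lit 4625) (Dv.wd (nat_lit 11) [Mv.f (nat_lit 11730), Mv.f (nat_lit 6796), Mv.f (nat_lit 12923)])))))))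
(Tr.nd (nat_lit 12930) (Tr.nd (nat_lit 12927) (Tr.nd (nat_lit 12926) (Tr.lf (Fc.ed (nat_lit 12925) (nat_lit 4195) Col.d (nat_lit 4985) Dv.df))
(Tr.lf (Fc.ed (nat_lit 12926) (nat_lit 4985) Col.f (nat_lit 4783) (Dv.wd (nat_lit 11) [Mv.f (nat_lit 12527), Mv.b (nat_lit 12422), Mv.f (nat_lit 12925)]))))
(Tr.nd (nat_lit 12928) (Tr.lf (Fc.ed (nat_lit 12927) (nat_lit 4985) Col.e (nat_lit 4506) (Dv.wd (nat_lit 42) [Mv.b (nat_lit 11509), Mv.b (nat_lit 4461), Mv.b (nat_lit 4197), Mv.f (nat_lit 10829), Mv.f (nat_lit 12925)])))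
(Tr.nd (nat_lit 12929) (Tr.lf (Fc.ed (nat_lit 12928) (nat_lit 4506) Col.f (nat_lit 4872) (Dv.wd (nat_lit 96) [Mv.b (nat_lit 12703), Mv.f (nat_lit 9618), Mv.b (nat_lit 12528), Mv.b (nat_lit 12926), Mv.f (nat_lit 12927)])))
(Tr.lf (Fc.ed (nat_lit 12929) (nat_lit 4872) Col.d (nat_lit 2369) (Dv.wd (nat_lit 21) [Mv.f (nat_lit 6454), Mv.f (nat_lit 11509), Mv.f (nat_lit 12928)]))))))
(Tr.nd (nat_lit 12933) (Tr.nd (nat_lit 12931) (Tr.lf (Fc.ed (nat_lit 12930) (nat_lit 4877) Col.d (nat_lit 4986) Dv.df))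
(Tr.nd (nat_lit 12932) (Tr.lf (Fc.ed (nat_lit 12931) (nat_lit 4986) Col.b (nat_lit 1335) (Dv.wd (nat_lit 37) [Mv.f (nat_lit 4035), Mv.f (nat_lit 12711), Mv.f (nat_lit 12930)])))
(Tr.lf (Fc.ed (nat_lit 12932) (nat_lit 4098) Col.c (nat_lit 4987) Dv.df))))
(Tr.nd (nat_lit 12934) (Tr.lf (Fc.ed (nat_lit 12933) (nat_lit 4987) Col.b (nat_lit 1946) (Dv.wd (nat_lit 101) [Mv.b (nat_lit 5467), Mv.f (nat_lit 5177), Mv.b (nat_lit 5178), Mv.b (nat_lit 5643), Mv.b (nat_lit 11860), Mv.f (nat_lit 11863), Mv.b (nat_lit 9603), Mv.f (nat_lit 5683), Mv.b (nat_lit 10574), Mv.f (nat_lit 12932)])))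
(Tr.nd (nat_lit 12935) (Tr.lf (Fc.al (nat_lit 12934) (nat_lit 1304) (nat_lit 931) (Dv.wd (nat_lit 157) [Mv.f (nat_lit 2954), Mv.f (nat_lit 776), Mv.f (nat_lit 2625), Mv.b (nat_lit 2598), Mv.b (nat_lit 751), Mv.f (nat_lit 2880), Mv.b (nat_lit 5468), Mv.b (nat_lit 12933), Mv.b (nat_lit 12932), Mv.b (nat_lit 10573), Mv.b (nat_lit 6757)])))
(Tr.lf (Fc.al (nat_lit 12935) (nat_lit 1652) (nat_lit 639) (Dv.wd (nat_lit 29) [Mv.f (nat_lit 3966), Mv.f (nat_lit 12934), Mv.f (nat_lit 4829)])))))))))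
(Tr.nd (nat_lit 12956) (Tr.nd (nat_lit 12946) (Tr.nd (nat_lit 12941) (Tr.nd (nat_lit 12938) (Tr.nd (nat_lit 12937) (Tr.lf (Fc.al (nat_lit 12936) (nat_lit 2718) (nat_lit 2535) (Dv.wd (nat_lit 119) [Mv.b (nat_lit 6820), Mv.f (nat_lit 12934), Mv.f (nat_lit 7224)])))
(Tr.lf (Fc.al (nat_lit 12937) (nat_lit 4322) (nat_lit 1486) (Dv.wd (nat_lit 120) [Mv.f (nat_lit 4471), Mv.f (nat_lit 12934), Mv.b (nat_lit 12435)]))))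
(Tr.nd (nat_lit 12939) (Tr.lf (Fc.ed (nat_lit 12938) (nat_lit 931) Col.e (nat_lit 1627) (Dv.wd (nat_lit 117) [Mv.f (nat_lit 4779), Mv.f (nat_lit 12934)])))
(Tr.nd (nat_lit 12940) (Tr.lf (Fc.al (nat_lit 12939) (nat_lit 4493) (nat_lit 2215) (Dv.wd (nat_lit 119) [Mv.b (nat_lit 6106), Mv.f (nat_lit 12935), Mv.f (nat_lit 11485)])))
(Tr.lf (Fc.al (nat_lit 12940) (nat_lit 973) (nat_lit 853) (Dv.wd (nat_lit 30) [Mv.b (nat_lit 4830), Mv.f (nat_lit 12935), Mv.f (nat_lit 3060)]))))))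
(Tr.nd (nat_lit 12943) (Tr.nd (nat_lit 12942) (Tr.lf (Fc.al (nat_lit 12941) (nat_lit 4652) (nat_lit 3648) (Dv.wd (nat_lit 29) [Mv.b (nat_lit 9140), Mv.f (nat_lit 12936), Mv.f (nat_lit 11775)])))
(Tr.lf (Fc.ed (nat_lit 12942) (nat_lit 1486) Col.d (nat_lit 931) (Dv.wd (nat_lit 120) [Mv.b (nat_lit 12435), Mv.f (nat_lit 12937)]))))
(Tr.nd (nat_lit 12944) (Tr.lf (Fc.al (nat_lit 12943) (nat_lit 4349) (nat_lit 3694) (Dv.wd (nat_lit 117) [Mv.f (nat_lit 11104), Mv.f (nat_lit 12937), Mv.b (nat_lit 11161)])))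
(Tr.nd (nat_lit 12945) (Tr.lf (Fc.al (nat_lit 12944) (nat_lit 3820) (nat_lit 4661) (Dv.wd (nat_lit 29) [Mv.f (nat_lit 11793), Mv.f (nat_lit 12939), Mv.b (nat_lit 9466)])))
(Tr.lf (Fc.ed (nat_lit 12945) (nat_lit 2215) Col.b (nat_lit 639) (Dv.wd (nat_lit 119) [Mv.f (nat_lit 11485), Mv.f (nat_lit 12939)])))))))
(Tr.nd (nat_lit 12951) (Tr.nd (nat_lit 12948) (Tr.nd (nat_lit 12947) (Tr.lf (Fc.al (nat_lit 12946) (nat_lit 2192) (nat_lit 3905) (Dv.wd (nat_lit 30) [Mv.b (nat_lit 11486), Mv.f (nat_lit 12939), Mv.f (nat_lit 6107)])))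
(Tr.lf (Fc.ed (nat_lit 12947) (nat_lit 853) Col.c (nat_lit 2050) (Dv.wd (nat_lit 103) [Mv.b (nat_lit 5683), Mv.f (nat_lit 12940)]))))
(Tr.nd (nat_lit 12949) (Tr.lf (Fc.al (nat_lit 12948) (nat_lit 3655) (nat_lit 2022) (Dv.wd (nat_lit 117) [Mv.b (nat_lit 5624), Mv.f (nat_lit 12940), Mv.b (nat_lit 9153)])))
(Tr.nd (nat_lit 12950) (Tr.lf (Fc.ed (nat_lit 12949) (nat_lit 3648) Col.a (nat_lit 2535) (Dv.wd (nat_lit 29) [Mv.f (nat_lit 11775), Mv.f (nat_lit 12941)])))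
(Tr.lf (Fc.ed (nat_lit 12950) (nat_lit 3648) Col.d (nat_lit 4904) (Dv.wd (nat_lit 120) [Mv.f (nat_lit 12762), Mv.f (nat_lit 12941)]))))))
(Tr.nd (nat_lit 12953) (Tr.nd (nat_lit 12952) (Tr.lf (Fc.ed (nat_lit 12951) (nat_lit 3694) Col.a (nat_lit 4195) (Dv.wd (nat_lit 29) [Mv.f (nat_lit 11160), Mv.f (nat_lit 12943)])))
(Tr.lf (Fc.ed (nat_lit 12952) (nat_lit 3694) Col.b (nat_lit 4954) (Dv.wd (nat_lit 119) [Mv.f (nat_lit 12868), Mv.f (nat_lit 12943)]))))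
(Tr.nd (nat_lit 12954) (Tr.lf (Fc.ed (nat_lit 12953) (nat_lit 3694) Col.e (nat_lit 1486) (Dv.wd (nat_lit 117) [Mv.b (nat_lit 11161), Mv.f (nat_lit 12943)])))
(Tr.nd (nat_lit 12955) (Tr.lf (Fc.ed (nat_lit 12954) (nat_lit 3694) Col.f (nat_lit 3019) (Dv.wd (nat_lit 30) [Mv.f (nat_lit 12420), Mv.f (nat_lit 12943)])))
(Tr.lf (Fc.ed (nat_lit 12955) (nat_lit 3820) Col.g (nat_lit 2446) (Dv.wd (nat_lit 129) [Mv.b (nat_lit 11794), Mv.b (nat_lit 12944)]))))))))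
(Tr.nd (nat_lit 12966) (Tr.nd (nat_lit 12961) (Tr.nd (nat_lit 12958) (Tr.nd (nat_lit 12957) (Tr.lf (Fc.ed (nat_lit 12956) (nat_lit 2192) Col.gi (nat_lit 2446) (Dv.wd (nat_lit 128) [Mv.b (nat_lit 11864), Mv.b (nat_lit 12946)])))
(Tr.lf (Fc.al (nat_lit 12957) (nat_lit 4407) (nat_lit 4037) (Dv.wd (nat_lit 117) [Mv.f (nat_lit 9868), Mv.b (nat_lit 12946), Mv.b (nat_lit 11338)]))))
(Tr.nd (nat_lit 12959) (Tr.lf (Fc.al (nat_lit 12958) (nat_lit 2306) (nat_lit 1369) (Dv.wd (nat_lit 120) [Mv.f (nat_lit 12126), Mv.f (nat_lit 12948), Mv.f (nat_lit 12123)])))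
(Tr.nd (nat_lit 12960) (Tr.lf (Fc.al (nat_lit 12959) (nat_lit 4533) (nat_lit 4408) (Dv.wd (nat_lit 120) [Mv.b (nat_lit 12127), Mv.f (nat_lit 12957), Mv.b (nat_lit 12130)])))
(Tr.lf (Fc.ed (nat_lit 12960) (nat_lit 4037) Col.e (nat_lit 2192) (Dv.wd (nat_lit 117) [Mv.b (nat_lit 11338), Mv.f (nat_lit 12957)]))))))
(Tr.nd (nat_lit 12963) (Tr.nd (nat_lit 12962) (Tr.lf (Fc.ed (nat_lit 12961) (nat_lit 1369) Col.d (nat_lit 2022) (Dv.wd (nat_lit 120) [Mv.f (nat_lit 12123), Mv.f (nat_lit 12958)])))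
(Tr.lf (Fc.al (nat_lit 12962) (nat_lit 1583) (nat_lit 1420) (Dv.wd (nat_lit 30) [Mv.f (nat_lit 6309), Mv.f (nat_lit 12958), Mv.f (nat_lit 4685)]))))
(Tr.nd (nat_lit 12964) (Tr.lf (Fc.ed (nat_lit 12963) (nat_lit 4408) Col.d (nat_lit 4037) (Dv.wd (nat_lit 120) [Mv.b (nat_lit 12130), Mv.f (nat_lit 12959)])))
(Tr.nd (nat_lit 12965) (Tr.lf (Fc.ed (nat_lit 12964) (nat_lit 1420) Col.f (nat_lit 1369) (Dv.wd (nat_lit 30) [Mv.f (nat_lit 4685), Mv.f (nat_lit 12962)])))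
(Tr.lf (Fc.ed (nat_lit 12965) (nat_lit 586) Col.g (nat_lit 1489) (Dv.wd (nat_lit 9) [Mv.b (nat_lit 4475), Mv.f (nat_lit 12964), Mv.f (nat_lit 4170)])))))))
(Tr.nd (nat_lit 12971) (Tr.nd (nat_lit 12968) (Tr.nd (nat_lit 12967) (Tr.lf (Fc.ed (nat_lit 12966) (nat_lit 1489) Col.g (nat_lit 969) (Dv.wd (nat_lit 9) [Mv.f (nat_lit 3052), Mv.f (nat_lit 2145), Mv.f (nat_lit 12965)])))
(Tr.lf (Fc.ed (nat_lit 12967) (nat_lit 4969) Col.c (nat_lit 4827) (Dv.wd (nat_lit 115) [Mv.b (nat_lit 12609), Mv.f (nat_lit 12966), Mv.f (nat_lit 3053), Mv.b (nat_lit 5765), Mv.f (nat_lit 8976), Mv.f (nat_lit 9036), Mv.f (nat_lit 9037), Mv.b (nat_lit 7177), Mv.f (nat_lit 11617), Mv.b (nat_lit 12895)]))))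
(Tr.nd (nat_lit 12969) (Tr.lf (Fc.al (nat_lit 12968) (nat_lit 4611) (nat_lit 2944) (Dv.wd (nat_lit 12) [Mv.b (nat_lit 7714), Mv.f (nat_lit 9227), Mv.f (nat_lit 12954), Mv.f (nat_lit 11703)])))
(Tr.nd (nat_lit 12970) (Tr.lf (Fc.ed (nat_lit 12969) (nat_lit 2944) Col.a (nat_lit 3019) (Dv.wd (nat_lit 29) [Mv.f (nat_lit 11703), Mv.f (nat_lit 12968)])))
(Tr.lf (Fc.al (nat_lit 12970) (nat_lit 3876) (nat_lit 4783) (Dv.wd (nat_lit 120) [Mv.f (nat_lit 12527), Mv.f (nat_lit 12968), Mv.f (nat_lit 9557)]))))))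
(Tr.nd (nat_lit 12974) (Tr.nd (nat_lit 12972) (Tr.lf (Fc.ed (nat_lit 12971) (nat_lit 2944) Col.f (nat_lit 4195) (Dv.wd (nat_lit 30) [Mv.f (nat_lit 12422), Mv.f (nat_lit 12968)])))
(Tr.nd (nat_lit 12973) (Tr.lf (Fc.ed (nat_lit 12972) (nat_lit 3876) Col.a (nat_lit 4058) (Dv.wd (nat_lit 29) [Mv.f (nat_lit 12526), Mv.b (nat_lit 12970)])))
(Tr.lf (Fc.al (nat_lit 12973) (nat_lit 3216) (nat_lit 3913) (Dv.wd (nat_lit 117) [Mv.b (nat_lit 12528), Mv.b (nat_lit 12970), Mv.f (nat_lit 10161)])))))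
(Tr.nd (nat_lit 12975) (Tr.lf (Fc.ed (nat_lit 12974) (nat_lit 3876) Col.f (nat_lit 4985) (Dv.wd (nat_lit 30) [Mv.f (nat_lit 12926), Mv.b (nat_lit 12970)])))
(Tr.nd (nat_lit 12976) (Tr.lf (Fc.al (nat_lit 12975) (nat_lit 2112) (nat_lit 4352) (Dv.wd (nat_lit 129) [Mv.b (nat_lit 11169), Mv.b (nat_lit 12973), Mv.b (nat_lit 8289)])))
(Tr.lf (Fc.al (nat_lit 12976) (nat_lit 3237) (nat_lit 4029) (Dv.wd (nat_lit 129) [Mv.b (nat_lit 11170), Mv.b (nat_lit 12975), Mv.b (nat_lit 8326)])))))))))))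
(Tr.nd (nat_lit 13059) (Tr.nd (nat_lit 13018) (Tr.nd (nat_lit 12997) (Tr.nd (nat_lit 12987) (Tr.nd (nat_lit 12982) (Tr.nd (nat_lit 12979) (Tr.nd (nat_lit 12978) (Tr.lf (Fc.ed (nat_lit 12977) (nat_lit 3237) Col.a (nat_lit 2881) (Dv.wd (nat_lit 29) [Mv.b (nat_lit 9856), Mv.b (nat_lit 12976)])))
(Tr.lf (Fc.al (nat_lit 12978) (nat_lit 4658) (nat_lit 4255) (Dv.wd (nat_lit 119) [Mv.b (nat_lit 10948), Mv.b (nat_lit 12976), Mv.f (nat_lit 11787)]))))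
(Tr.nd (nat_lit 12980) (Tr.lf (Fc.ed (nat_lit 12979) (nat_lit 3237) Col.f (nat_lit 2492) (Dv.wd (nat_lit 30) [Mv.f (nat_lit 9855), Mv.b (nat_lit 12976)])))
(Tr.nd (nat_lit 12981) (Tr.lf (Fc.ed (nat_lit 12980) (nat_lit 4255) Col.b (nat_lit 3237) (Dv.wd (nat_lit 119) [Mv.f (nat_lit 11787), Mv.f (nat_lit 12978)])))
(Tr.lf (Fc.ed (nat_lit 12981) (nat_lit 4255) Col.c (nat_lit 4649) (Dv.wd (nat_lit 103) [Mv.b (nat_lit 11788), Mv.f (nat_lit 12978)]))))))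
(Tr.nd (nat_lit 12984) (Tr.nd (nat_lit 12983) (Tr.lf (Fc.ed (nat_lit 12982) (nat_lit 2248) Col.c (nat_lit 4222) (Dv.wd (nat_lit 94) [Mv.f (nat_lit 10882), Mv.f (nat_lit 12945), Mv.f (nat_lit 5910), Mv.f (nat_lit 12548), Mv.b (nat_lit 12752), Mv.b (nat_lit 12751), Mv.f (nat_lit 8101), Mv.f (nat_lit 4627), Mv.b (nat_lit 5535), Mv.b (nat_lit 6168)])))
(Tr.lf (Fc.ed (nat_lit 12983) (nat_lit 4222) Col.b (nat_lit 4458) (Dv.wd (nat_lit 106) [Mv.b (nat_lit 11428), Mv.b (nat_lit 6500), Mv.f (nat_lit 5634), Mv.b (nat_lit 12549), Mv.b (nat_lit 12752), Mv.b (nat_lit 12751), Mv.b (nat_lit 8100), Mv.b (nat_lit 3528), Mv.f (nat_lit 6167), Mv.f (nat_lit 12982)]))))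
(Tr.nd (nat_lit 12985) (Tr.lf (Fc.ed (nat_lit 12984) (nat_lit 2206) Col.e (nat_lit 4988) Dv.df))
(Tr.nd (nat_lit 12986) (Tr.lf (Fc.ed (nat_lit 12985) (nat_lit 4355) Col.f (nat_lit 4989) Dv.df))
(Tr.lf (Fc.ed (nat_lit 12986) (nat_lit 4989) Col.b (nat_lit 1481) (Dv.wd (nat_lit 66) [Mv.b (nat_lit 6454), Mv.b (nat_lit 11175), Mv.f (nat_lit 12985)])))))))
(Tr.nd (nat_lit 12992) (Tr.nd (nat_lit 12989) (Tr.nd (nat_lit 12988) (Tr.lf (Fc.ed (nat_lit 12987) (nat_lit 4989) Col.e (nat_lit 2215) (Dv.wd (nat_lit 22) [Mv.f (nat_lit 6107), Mv.b (nat_lit 12960), Mv.f (nat_lit 10988), Mv.f (nat_lit 11174), Mv.f (nat_lit 12985)])))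
(Tr.lf (Fc.ed (nat_lit 12988) (nat_lit 4804) Col.c (nat_lit 4990) Dv.df)))
(Tr.nd (nat_lit 12990) (Tr.lf (Fc.ed (nat_lit 12989) (nat_lit 1545) Col.g (nat_lit 4991) Dv.df))
(Tr.nd (nat_lit 12991) (Tr.lf (Fc.ed (nat_lit 12990) (nat_lit 2661) Col.d (nat_lit 4992) Dv.df))
(Tr.lf (Fc.ed (nat_lit 12991) (nat_lit 3347) Col.g (nat_lit 4993) Dv.df)))))
(Tr.nd (nat_lit 12994) (Tr.nd (nat_lit 12993) (Tr.lf (Fc.ed (nat_lit 12992) (nat_lit 3356) Col.d (nat_lit 4994) Dv.df))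
(Tr.lf (Fc.ed (nat_lit 12993) (nat_lit 4992) Col.f (nat_lit 4995) Dv.df)))
(Tr.nd (nat_lit 12995) (Tr.lf (Fc.ed (nat_lit 12994) (nat_lit 4995) Col.d (nat_lit 3174) (Dv.wd (nat_lit 21) [Mv.f (nat_lit 8206), Mv.f (nat_lit 12990), Mv.f (nat_lit 12993)])))
(Tr.nd (nat_lit 12996) (Tr.lf (Fc.ed (nat_lit 12995) (nat_lit 4162) Col.f (nat_lit 4996) Dv.df))
(Tr.lf (Fc.ed (nat_lit 12996) (nat_lit 4996) Col.a (nat_lit 2370) (Dv.wd (nat_lit 16) [Mv.f (nat_lit 11582), Mv.f (nat_lit 11583), Mv.f (nat_lit 12995)]))))))))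
(Tr.nd (nat_lit 13007) (Tr.nd (nat_lit 13002) (Tr.nd (nat_lit 12999) (Tr.nd (nat_lit 12998) (Tr.lf (Fc.ed (nat_lit 12997) (nat_lit 4753) Col.g (nat_lit 4997) Dv.df))
(Tr.lf (Fc.ed (nat_lit 12998) (nat_lit 4997) Col.g (nat_lit 2805) (Dv.wd (nat_lit 9) [Mv.f (nat_lit 8628), Mv.b (nat_lit 12474), Mv.f (nat_lit 12997)]))))
(Tr.nd (nat_lit 13000) (Tr.lf (Fc.ed (nat_lit 12999) (nat_lit 3458) Col.d (nat_lit 4998) Dv.df))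
(Tr.nd (nat_lit 13001) (Tr.lf (Fc.ed (nat_lit 13000) (nat_lit 4998) Col.a (nat_lit 4698) (Dv.wd (nat_lit 8) [Mv.f (nat_lit 11870), Mv.f (nat_lit 12383), Mv.f (nat_lit 12999)])))
(Tr.lf (Fc.ed (nat_lit 13001) (nat_lit 4998) Col.f (nat_lit 4549) (Dv.wd (nat_lit 11) [Mv.b (nat_lit 11587), Mv.b (nat_lit 12384), Mv.f (nat_lit 12999)]))))))
(Tr.nd (nat_lit 13004) (Tr.nd (nat_lit 13003) (Tr.lf (Fc.ed (nat_lit 13002) (nat_lit 2869) Col.a (nat_lit 4999) Dv.df))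
(Tr.lf (Fc.ed (nat_lit 13003) (nat_lit 4999) Col.c (nat_lit 4920) (Dv.wd (nat_lit 33) [Mv.b (nat_lit 12796), Mv.b (nat_lit 8242), Mv.f (nat_lit 13002)]))))
(Tr.nd (nat_lit 13005) (Tr.lf (Fc.ed (nat_lit 13004) (nat_lit 4999) Col.d (nat_lit 4962) (Dv.wd (nat_lit 28) [Mv.b (nat_lit 12883), Mv.f (nat_lit 7999), Mv.f (nat_lit 13002)])))
(Tr.nd (nat_lit 13006) (Tr.lf (Fc.ed (nat_lit 13005) (nat_lit 4792) Col.a (nat_lit 5000) Dv.df))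
(Tr.lf (Fc.ed (nat_lit 13006) (nat_lit 5000) Col.c (nat_lit 2284) (Dv.wd (nat_lit 33) [Mv.b (nat_lit 9977), Mv.f (nat_lit 12545), Mv.f (nat_lit 13005)])))))))
(Tr.nd (nat_lit 13012) (Tr.nd (nat_lit 13009) (Tr.nd (nat_lit 13008) (Tr.lf (Fc.ed (nat_lit 13007) (nat_lit 4576) Col.c (nat_lit 5001) Dv.df))
(Tr.lf (Fc.ed (nat_lit 13008) (nat_lit 3091) Col.c (nat_lit 5002) Dv.df)))
(Tr.nd (nat_lit 13010) (Tr.lf (Fc.ed (nat_lit 13009) (nat_lit 4158) Col.c (nat_lit 5003) Dv.df))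
(Tr.nd (nat_lit 13011) (Tr.lf (Fc.ed (nat_lit 13010) (nat_lit 3714) Col.b (nat_lit 5004) Dv.df))
(Tr.lf (Fc.ed (nat_lit 13011) (nat_lit 5004) Col.d (nat_lit 3097) (Dv.wd (nat_lit 58) [Mv.f (nat_lit 8048), Mv.f (nat_lit 9271), Mv.f (nat_lit 13010)]))))))
(Tr.nd (nat_lit 13015) (Tr.nd (nat_lit 13013) (Tr.lf (Fc.ed (nat_lit 13012) (nat_lit 4830) Col.e (nat_lit 5005) Dv.df))
(Tr.nd (nat_lit 13014) (Tr.lf (Fc.ed (nat_lit 13013) (nat_lit 5005) Col.c (nat_lit 3649) (Dv.wd (nat_lit 18) [Mv.b (nat_lit 11357), Mv.f (nat_lit 12614), Mv.f (nat_lit 13012)])))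
(Tr.lf (Fc.ed (nat_lit 13014) (nat_lit 5005) Col.f (nat_lit 3203) (Dv.wd (nat_lit 96) [Mv.f (nat_lit 8268), Mv.b (nat_lit 5488), Mv.b (nat_lit 7912), Mv.b (nat_lit 12615), Mv.f (nat_lit 13012)])))))
(Tr.nd (nat_lit 13016) (Tr.lf (Fc.ed (nat_lit 13015) (nat_lit 4914) Col.f (nat_lit 5006) Dv.df))
(Tr.nd (nat_lit 13017) (Tr.lf (Fc.ed (nat_lit 13016) (nat_lit 5006) Col.d (nat_lit 3098) (Dv.wd (nat_lit 21) [Mv.f (nat_lit 12906), Mv.b (nat_lit 12908), Mv.f (nat_lit 13015)])))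
(Tr.lf (Fc.ed (nat_lit 13017) (nat_lit 4854) Col.c (nat_lit 5007) Dv.df))))))))
(Tr.nd (nat_lit 13038) (Tr.nd (nat_lit 13028) (Tr.nd (nat_lit 13023) (Tr.nd (nat_lit 13020) (Tr.nd (nat_lit 13019) (Tr.lf (Fc.ed (nat_lit 13018) (nat_lit 5007) Col.d (nat_lit 4982) (Dv.wd (nat_lit 147) [Mv.b (nat_lit 12917), Mv.f (nat_lit 5155), Mv.f (nat_lit 2850), Mv.b (nat_lit 2969), Mv.f (nat_lit 6410), Mv.f (nat_lit 9880), Mv.f (nat_lit 10884), Mv.b (nat_lit 12668), Mv.f (nat_lit 13017)])))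
(Tr.lf (Fc.ed (nat_lit 13019) (nat_lit 3025) Col.f (nat_lit 5008) Dv.df)))
(Tr.nd (nat_lit 13021) (Tr.lf (Fc.ed (nat_lit 13020) (nat_lit 5008) Col.a (nat_lit 3375) (Dv.wd (nat_lit 16) [Mv.f (nat_lit 9249), Mv.f (nat_lit 9250), Mv.f (nat_lit 13019)])))
(Tr.nd (nat_lit 13022) (Tr.lf (Fc.ed (nat_lit 13021) (nat_lit 4880) Col.g (nat_lit 5009) Dv.df))
(Tr.lf (Fc.ed (nat_lit 13022) (nat_lit 1869) Col.c (nat_lit 5010) Dv.df)))))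
(Tr.nd (nat_lit 13025) (Tr.nd (nat_lit 13024) (Tr.lf (Fc.ed (nat_lit 13023) (nat_lit 5010) Col.f (nat_lit 4958) (Dv.wd (nat_lit 26) [Mv.b (nat_lit 12875), Mv.f (nat_lit 12257), Mv.f (nat_lit 13022)])))
(Tr.lf (Fc.ed (nat_lit 13024) (nat_lit 2439) Col.b (nat_lit 5011) Dv.df)))
(Tr.nd (nat_lit 13026) (Tr.lf (Fc.ed (nat_lit 13025) (nat_lit 5011) Col.d (nat_lit 4717) (Dv.wd (nat_lit 58) [Mv.b (nat_lit 11905), Mv.b (nat_lit 6621), Mv.f (nat_lit 13024)])))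
(Tr.nd (nat_lit 13027) (Tr.lf (Fc.ed (nat_lit 13026) (nat_lit 2904) Col.gi (nat_lit 5012) Dv.df))
(Tr.lf (Fc.ed (nat_lit 13027) (nat_lit 5012) Col.e (nat_lit 4843) (Dv.wd (nat_lit 146) [Mv.f (nat_lit 12641), Mv.b (nat_lit 9973), Mv.f (nat_lit 3236), Mv.b (nat_lit 2997), Mv.f (nat_lit 2434), Mv.f (nat_lit 4869), Mv.f (nat_lit 4872), Mv.f (nat_lit 6294), Mv.f (nat_lit 7633), Mv.f (nat_lit 13026)])))))))
(Tr.nd (nat_lit 13033) (Tr.nd (nat_lit 13030) (Tr.nd (nat_lit 13029) (Tr.lf (Fc.ed (nat_lit 13028) (nat_lit 3157) Col.a (nat_lit 5013) Dv.df))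
(Tr.lf (Fc.ed (nat_lit 13029) (nat_lit 5013) Col.f (nat_lit 4565) (Dv.wd (nat_lit 35) [Mv.f (nat_lit 12605), Mv.f (nat_lit 12606), Mv.f (nat_lit 13028)]))))
(Tr.nd (nat_lit 13031) (Tr.lf (Fc.ed (nat_lit 13030) (nat_lit 4819) Col.a (nat_lit 5014) Dv.df))
(Tr.nd (nat_lit 13032) (Tr.lf (Fc.ed (nat_lit 13031) (nat_lit 5014) Col.f (nat_lit 4867) (Dv.wd (nat_lit 35) [Mv.f (nat_lit 12694), Mv.f (nat_lit 12595), Mv.f (nat_lit 13030)])))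
(Tr.lf (Fc.ed (nat_lit 13032) (nat_lit 4178) Col.e (nat_lit 5015) Dv.df)))))
(Tr.nd (nat_lit 13035) (Tr.nd (nat_lit 13034) (Tr.lf (Fc.ed (nat_lit 13033) (nat_lit 5015) Col.a (nat_lit 4696) (Dv.wd (nat_lit 15) [Mv.b (nat_lit 11865), Mv.f (nat_lit 10797), Mv.f (nat_lit 13032)])))
(Tr.lf (Fc.ed (nat_lit 13034) (nat_lit 4792) Col.e (nat_lit 5016) Dv.df)))
(Tr.nd (nat_lit 13036) (Tr.lf (Fc.ed (nat_lit 13035) (nat_lit 5016) Col.c (nat_lit 4446) (Dv.wd (nat_lit 18) [Mv.b (nat_lit 11408), Mv.f (nat_lit 12545), Mv.f (nat_lit 13034)])))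
(Tr.nd (nat_lit 13037) (Tr.lf (Fc.ed (nat_lit 13036) (nat_lit 3486) Col.f (nat_lit 5017) Dv.df))
(Tr.lf (Fc.ed (nat_lit 13037) (nat_lit 5017) Col.b (nat_lit 3260) (Dv.wd (nat_lit 66) [Mv.f (nat_lit 8377), Mv.f (nat_lit 8833), Mv.f (nat_lit 13036)]))))))))
(Tr.nd (nat_lit 13048) (Tr.nd (nat_lit 13043) (Tr.nd (nat_lit 13040) (Tr.nd (nat_lit 13039) (Tr.lf (Fc.ed (nat_lit 13038) (nat_lit 5017) Col.e (nat_lit 4729) (Dv.wd (nat_lit 22) [Mv.b (nat_lit 11925), Mv.f (nat_lit 8694), Mv.f (nat_lit 8435), Mv.b (nat_lit 8834), Mv.f (nat_lit 13036)])))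
(Tr.lf (Fc.ed (nat_lit 13039) (nat_lit 4347) Col.d (nat_lit 5018) Dv.df)))
(Tr.nd (nat_lit 13041) (Tr.lf (Fc.ed (nat_lit 13040) (nat_lit 4751) Col.b (nat_lit 5019) Dv.df))
(Tr.nd (nat_lit 13042) (Tr.lf (Fc.ed (nat_lit 13041) (nat_lit 1350) Col.e (nat_lit 5020) Dv.df))
(Tr.lf (Fc.ed (nat_lit 13042) (nat_lit 5020) Col.a (nat_lit 4440) (Dv.wd (nat_lit 15) [Mv.b (nat_lit 11398), Mv.f (nat_lit 4962), Mv.f (nat_lit 13041)]))))))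
(Tr.nd (nat_lit 13045) (Tr.nd (nat_lit 13044) (Tr.lf (Fc.ed (nat_lit 13043) (nat_lit 5020) Col.d (nat_lit 5020) (Dv.wd (nat_lit 59) [Mv.b (nat_lit 13041), Mv.b (nat_lit 4125), Mv.f (nat_lit 4369), Mv.f (nat_lit 4125), Mv.f (nat_lit 13041)])))
(Tr.lf (Fc.ed (nat_lit 13044) (nat_lit 4056) Col.d (nat_lit 5021) Dv.df)))
(Tr.nd (nat_lit 13046) (Tr.lf (Fc.ed (nat_lit 13045) (nat_lit 5021) Col.a (nat_lit 4160) (Dv.wd (nat_lit 8) [Mv.b (nat_lit 10766), Mv.f (nat_lit 10287), Mv.f (nat_lit 13044)])))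
(Tr.nd (nat_lit 13047) (Tr.lf (Fc.ed (nat_lit 13046) (nat_lit 5021) Col.f (nat_lit 4550) (Dv.wd (nat_lit 11) [Mv.b (nat_lit 11588), Mv.f (nat_lit 10289), Mv.f (nat_lit 13044)])))
(Tr.lf (Fc.ed (nat_lit 13047) (nat_lit 4731) Col.a (nat_lit 5022) Dv.df))))))
(Tr.nd (nat_lit 13053) (Tr.nd (nat_lit 13050) (Tr.nd (nat_lit 13049) (Tr.lf (Fc.ed (nat_lit 13048) (nat_lit 5022) Col.c (nat_lit 1868) (Dv.wd (nat_lit 33) [Mv.b (nat_lit 6135), Mv.b (nat_lit 11931), Mv.f (nat_lit 13047)])))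
(Tr.lf (Fc.ed (nat_lit 13049) (nat_lit 2275) Col.g (nat_lit 5023) Dv.df)))
(Tr.nd (nat_lit 13051) (Tr.lf (Fc.ed (nat_lit 13050) (nat_lit 5023) Col.g (nat_lit 3101) (Dv.wd (nat_lit 9) [Mv.b (nat_lit 8963), Mv.b (nat_lit 8962), Mv.f (nat_lit 13049)])))
(Tr.nd (nat_lit 13052) (Tr.lf (Fc.ed (nat_lit 13051) (nat_lit 3539) Col.a (nat_lit 5024) Dv.df))
(Tr.lf (Fc.ed (nat_lit 13052) (nat_lit 5024) Col.e (nat_lit 4093) (Dv.wd (nat_lit 56) [Mv.b (nat_lit 9967), Mv.b (nat_lit 8938), Mv.f (nat_lit 13051)]))))))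
(Tr.nd (nat_lit 13056) (Tr.nd (nat_lit 13054) (Tr.lf (Fc.ed (nat_lit 13053) (nat_lit 3821) Col.c (nat_lit 5025) Dv.df))
(Tr.nd (nat_lit 13055) (Tr.lf (Fc.ed (nat_lit 13054) (nat_lit 3183) Col.d (nat_lit 5026) Dv.df))
(Tr.lf (Fc.ed (nat_lit 13055) (nat_lit 4234) Col.d (nat_lit 5027) Dv.df))))
(Tr.nd (nat_lit 13057) (Tr.lf (Fc.ed (nat_lit 13056) (nat_lit 5027) Col.e (nat_lit 4730) (Dv.wd (nat_lit 74) [Mv.f (nat_lit 11929), Mv.b (nat_lit 7642), Mv.b (nat_lit 4389), Mv.b (nat_lit 3942), Mv.f (nat_lit 4961), Mv.f (nat_lit 4963), Mv.b (nat_lit 5397), Mv.b (nat_lit 5395), Mv.f (nat_lit 10900), Mv.f (nat_lit 13055)])))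
(Tr.nd (nat_lit 13058) (Tr.lf (Fc.ed (nat_lit 13057) (nat_lit 4223) Col.e (nat_lit 5028) Dv.df))
(Tr.lf (Fc.ed (nat_lit 13058) (nat_lit 5028) Col.d (nat_lit 4988) (Dv.wd (nat_lit 59) [Mv.b (nat_lit 12984), Mv.b (nat_lit 12041), Mv.f (nat_lit 12060), Mv.f (nat_lit 10883), Mv.f (nat_lit 13057)]))))))))))
(Tr.nd (nat_lit 13100) (Tr.nd (nat_lit 13079) (Tr.nd (nat_lit 13069) (Tr.nd (nat_lit 13064) (Tr.nd (nat_lit 13061) (Tr.nd (nat_lit 13060) (Tr.lf (Fc.ed (nat_lit 13059) (nat_lit 2996) Col.a (nat_lit 5029) Dv.df))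
(Tr.lf (Fc.ed (nat_lit 13060) (nat_lit 5029) Col.f (nat_lit 4139) (Dv.wd (nat_lit 35) [Mv.b (nat_lit 10702), Mv.b (nat_lit 7820), Mv.f (nat_lit 13059)]))))
(Tr.nd (nat_lit 13062) (Tr.lf (Fc.ed (nat_lit 13061) (nat_lit 4530) Col.d (nat_lit 5029) (Dv.wd (nat_lit 90) [Mv.f (nat_lit 13060), Mv.f (nat_lit 10703), Mv.f (nat_lit 11552)])))
(Tr.nd (nat_lit 13063) (Tr.lf (Fc.ed (nat_lit 13062) (nat_lit 4976) Col.f (nat_lit 5030) Dv.df))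
(Tr.lf (Fc.ed (nat_lit 13063) (nat_lit 5030) Col.c (nat_lit 4883) (Dv.wd (nat_lit 34) [Mv.f (nat_lit 12721), Mv.f (nat_lit 12905), Mv.f (nat_lit 13062)]))))))
(Tr.nd (nat_lit 13066) (Tr.nd (nat_lit 13065) (Tr.lf (Fc.ed (nat_lit 13064) (nat_lit 1709) Col.b (nat_lit 5030) (Dv.wd (nat_lit 136) [Mv.f (nat_lit 13063), Mv.b (nat_lit 12720), Mv.f (nat_lit 6717), Mv.b (nat_lit 4614), Mv.b (nat_lit 4968)])))
(Tr.lf (Fc.ed (nat_lit 13065) (nat_lit 3615) Col.f (nat_lit 5031) Dv.df)))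
(Tr.nd (nat_lit 13067) (Tr.lf (Fc.ed (nat_lit 13066) (nat_lit 5031) Col.c (nat_lit 3487) (Dv.wd (nat_lit 34) [Mv.b (nat_lit 8835), Mv.f (nat_lit 9078), Mv.f (nat_lit 13065)])))
(Tr.nd (nat_lit 13068) (Tr.lf (Fc.ed (nat_lit 13067) (nat_lit 4153) Col.a (nat_lit 5031) (Dv.wd (nat_lit 76) [Mv.f (nat_lit 13066), Mv.f (nat_lit 8836), Mv.b (nat_lit 12134)])))
(Tr.lf (Fc.ed (nat_lit 13068) (nat_lit 5031) Col.d (nat_lit 4188) (Dv.wd (nat_lit 28) [Mv.f (nat_lit 10817), Mv.f (nat_lit 10730), Mv.f (nat_lit 13067)])))))))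
(Tr.nd (nat_lit 13074) (Tr.nd (nat_lit 13071) (Tr.nd (nat_lit 13070) (Tr.lf (Fc.ed (nat_lit 13069) (nat_lit 3615) Col.g (nat_lit 4239) (Dv.wd (nat_lit 17) [Mv.b (nat_lit 12133), Mv.f (nat_lit 13067), Mv.b (nat_lit 13065)])))
(Tr.lf (Fc.ed (nat_lit 13070) (nat_lit 3784) Col.a (nat_lit 5032) Dv.df)))
(Tr.nd (nat_lit 13072) (Tr.lf (Fc.ed (nat_lit 13071) (nat_lit 5032) Col.c (nat_lit 4644) (Dv.wd (nat_lit 33) [Mv.b (nat_lit 11765), Mv.b (nat_lit 9400), Mv.f (nat_lit 13070)])))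
(Tr.nd (nat_lit 13073) (Tr.lf (Fc.ed (nat_lit 13072) (nat_lit 5032) Col.e (nat_lit 4497) (Dv.wd (nat_lit 56) [Mv.f (nat_lit 11494), Mv.b (nat_lit 9399), Mv.f (nat_lit 13070)])))
(Tr.lf (Fc.ed (nat_lit 13073) (nat_lit 4988) Col.a (nat_lit 5033) Dv.df)))))
(Tr.nd (nat_lit 13076) (Tr.nd (nat_lit 13075) (Tr.lf (Fc.ed (nat_lit 13074) (nat_lit 5033) Col.e (nat_lit 3006) (Dv.wd (nat_lit 56) [Mv.f (nat_lit 12074), Mv.f (nat_lit 12984), Mv.f (nat_lit 13073)])))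
(Tr.lf (Fc.ed (nat_lit 13075) (nat_lit 3277) Col.a (nat_lit 5034) Dv.df)))
(Tr.nd (nat_lit 13077) (Tr.lf (Fc.ed (nat_lit 13076) (nat_lit 5034) Col.e (nat_lit 4360) (Dv.wd (nat_lit 56) [Mv.f (nat_lit 11184), Mv.b (nat_lit 8408), Mv.f (nat_lit 13075)])))
(Tr.nd (nat_lit 13078) (Tr.lf (Fc.ed (nat_lit 13077) (nat_lit 3723) Col.d (nat_lit 5035) Dv.df))
(Tr.lf (Fc.ed (nat_lit 13078) (nat_lit 5035) Col.a (nat_lit 2867) (Dv.wd (nat_lit 8) [Mv.b (nat_lit 7616), Mv.b (nat_lit 9291), Mv.f (nat_lit 13077)]))))))))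
(Tr.nd (nat_lit 13089) (Tr.nd (nat_lit 13084) (Tr.nd (nat_lit 13081) (Tr.nd (nat_lit 13080) (Tr.lf (Fc.ed (nat_lit 13079) (nat_lit 5035) Col.e (nat_lit 4227) (Dv.wd (nat_lit 42) [Mv.b (nat_lit 10890), Mv.f (nat_lit 8337), Mv.b (nat_lit 8340), Mv.f (nat_lit 9290), Mv.f (nat_lit 13077)])))
(Tr.lf (Fc.ed (nat_lit 13080) (nat_lit 4802) Col.b (nat_lit 5036) Dv.df)))
(Tr.nd (nat_lit 13082) (Tr.lf (Fc.ed (nat_lit 13081) (nat_lit 5036) Col.c (nat_lit 4325) (Dv.wd (nat_lit 142) [Mv.f (nat_lit 11111), Mv.b (nat_lit 9281), Mv.b (nat_lit 4089), Mv.b (nat_lit 1786), Mv.b (nat_lit 776), Mv.f (nat_lit 1285), Mv.b (nat_lit 3859), Mv.f (nat_lit 4757), Mv.f (nat_lit 12563), Mv.f (nat_lit 13080)])))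
(Tr.nd (nat_lit 13083) (Tr.lf (Fc.ed (nat_lit 13082) (nat_lit 3499) Col.a (nat_lit 5037) Dv.df))
(Tr.lf (Fc.ed (nat_lit 13083) (nat_lit 5037) Col.f (nat_lit 4133) (Dv.wd (nat_lit 10) [Mv.f (nat_lit 10634), Mv.b (nat_lit 8858), Mv.f (nat_lit 13082)]))))))
(Tr.nd (nat_lit 13086) (Tr.nd (nat_lit 13085) (Tr.lf (Fc.ed (nat_lit 13084) (nat_lit 5014) Col.gi (nat_lit 5038) Dv.df))
(Tr.lf (Fc.ed (nat_lit 13085) (nat_lit 3209) Col.a (nat_lit 5039) Dv.df)))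
(Tr.nd (nat_lit 13087) (Tr.lf (Fc.ed (nat_lit 13086) (nat_lit 5039) Col.d (nat_lit 4277) (Dv.wd (nat_lit 28) [Mv.f (nat_lit 11002), Mv.b (nat_lit 8279), Mv.f (nat_lit 13085)])))
(Tr.nd (nat_lit 13088) (Tr.lf (Fc.ed (nat_lit 13087) (nat_lit 5039) Col.f (nat_lit 4174) (Dv.wd (nat_lit 35) [Mv.f (nat_lit 10791), Mv.f (nat_lit 9442), Mv.f (nat_lit 13085)])))
(Tr.lf (Fc.ed (nat_lit 13088) (nat_lit 4827) Col.e (nat_lit 5040) Dv.df))))))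
(Tr.nd (nat_lit 13094) (Tr.nd (nat_lit 13091) (Tr.nd (nat_lit 13090) (Tr.lf (Fc.ed (nat_lit 13089) (nat_lit 5002) Col.gi (nat_lit 5041) Dv.df))
(Tr.lf (Fc.ed (nat_lit 13090) (nat_lit 4624) Col.f (nat_lit 5042) Dv.df)))
(Tr.nd (nat_lit 13092) (Tr.lf (Fc.ed (nat_lit 13091) (nat_lit 5042) Col.d (nat_lit 2666) (Dv.wd (nat_lit 21) [Mv.f (nat_lit 8381), Mv.f (nat_lit 11728), Mv.f (nat_lit 13090)])))
(Tr.nd (nat_lit 13093) (Tr.lf (Fc.ed (nat_lit 13092) (nat_lit 2621) Col.d (nat_lit 5043) Dv.df))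
(Tr.lf (Fc.ed (nat_lit 13093) (nat_lit 5043) Col.a (nat_lit 4843) (Dv.wd (nat_lit 8) [Mv.f (nat_lit 12641), Mv.b (nat_lit 9977), Mv.f (nat_lit 13092)]))))))
(Tr.nd (nat_lit 13097) (Tr.nd (nat_lit 13095) (Tr.lf (Fc.ed (nat_lit 13094) (nat_lit 5043) Col.f (nat_lit 3706) (Dv.wd (nat_lit 11) [Mv.f (nat_lit 9257), Mv.f (nat_lit 7008), Mv.f (nat_lit 13092)])))
(Tr.nd (nat_lit 13096) (Tr.lf (Fc.ed (nat_lit 13095) (nat_lit 4381) Col.f (nat_lit 5044) Dv.df))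
(Tr.lf (Fc.ed (nat_lit 13096) (nat_lit 5044) Col.c (nat_lit 2433) (Dv.wd (nat_lit 34) [Mv.b (nat_lit 7706), Mv.f (nat_lit 11288), Mv.f (nat_lit 13095)])))))
(Tr.nd (nat_lit 13098) (Tr.lf (Fc.ed (nat_lit 13097) (nat_lit 4979) Col.e (nat_lit 5044) (Dv.wd (nat_lit 84) [Mv.f (nat_lit 13096), Mv.f (nat_lit 6578), Mv.f (nat_lit 12911)])))
(Tr.nd (nat_lit 13099) (Tr.lf (Fc.ed (nat_lit 13098) (nat_lit 4548) Col.a (nat_lit 5045) Dv.df))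
(Tr.lf (Fc.ed (nat_lit 13099) (nat_lit 5045) Col.d (nat_lit 4852) (Dv.wd (nat_lit 28) [Mv.f (nat_lit 12663), Mv.f (nat_lit 11586), Mv.f (nat_lit 13098)])))))))))
(Tr.nd (nat_lit 13121) (Tr.nd (nat_lit 13110) (Tr.nd (nat_lit 13105) (Tr.nd (nat_lit 13102) (Tr.nd (nat_lit 13101) (Tr.lf (Fc.ed (nat_lit 13100) (nat_lit 3714) Col.gi (nat_lit 5045) (Dv.wd (nat_lit 111) [Mv.f (nat_lit 13099), Mv.f (nat_lit 12665), Mv.f (nat_lit 8788), Mv.b (nat_lit 7967), Mv.f (nat_lit 10148), Mv.b (nat_lit 5309), Mv.f (nat_lit 4110), Mv.f (nat_lit 7263), Mv.f (nat_lit 9271)])))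
(Tr.lf (Fc.ed (nat_lit 13101) (nat_lit 3232) Col.c (nat_lit 5046) Dv.df)))
(Tr.nd (nat_lit 13103) (Tr.lf (Fc.ed (nat_lit 13102) (nat_lit 5046) Col.a (nat_lit 4839) (Dv.wd (nat_lit 19) [Mv.b (nat_lit 12631), Mv.f (nat_lit 8329), Mv.f (nat_lit 13101)])))
(Tr.nd (nat_lit 13104) (Tr.lf (Fc.ed (nat_lit 13103) (nat_lit 5046) Col.e (nat_lit 3756) (Dv.wd (nat_lit 25) [Mv.b (nat_lit 9349), Mv.f (nat_lit 10356), Mv.f (nat_lit 13101)])))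
(Tr.lf (Fc.ed (nat_lit 13104) (nat_lit 3126) Col.e (nat_lit 5047) Dv.df)))))
(Tr.nd (nat_lit 13107) (Tr.nd (nat_lit 13106) (Tr.lf (Fc.ed (nat_lit 13105) (nat_lit 5047) Col.d (nat_lit 4483) (Dv.wd (nat_lit 59) [Mv.f (nat_lit 11470), Mv.b (nat_lit 11431), Mv.f (nat_lit 8563), Mv.f (nat_lit 8564), Mv.f (nat_lit 13104)])))
(Tr.lf (Fc.ed (nat_lit 13106) (nat_lit 4185) Col.a (nat_lit 5048) Dv.df)))
(Tr.nd (nat_lit 13108) (Tr.lf (Fc.ed (nat_lit 13107) (nat_lit 5048) Col.f (nat_lit 4623) (Dv.wd (nat_lit 10) [Mv.f (nat_lit 11727), Mv.b (nat_lit 10809), Mv.f (nat_lit 13106)])))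
(Tr.nd (nat_lit 13109) (Tr.lf (Fc.ed (nat_lit 13108) (nat_lit 4794) Col.d (nat_lit 5049) Dv.df))
(Tr.lf (Fc.ed (nat_lit 13109) (nat_lit 4630) Col.a (nat_lit 5050) Dv.df))))))
(Tr.nd (nat_lit 13115) (Tr.nd (nat_lit 13112) (Tr.nd (nat_lit 13111) (Tr.lf (Fc.ed (nat_lit 13110) (nat_lit 5050) Col.d (nat_lit 2864) (Dv.wd (nat_lit 28) [Mv.f (nat_lit 7762), Mv.f (nat_lit 11740), Mv.f (nat_lit 13109)])))
(Tr.lf (Fc.ed (nat_lit 13111) (nat_lit 5050) Col.f (nat_lit 4631) (Dv.wd (nat_lit 35) [Mv.b (nat_lit 11741), Mv.b (nat_lit 12112), Mv.f (nat_lit 13109)]))))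
(Tr.nd (nat_lit 13113) (Tr.lf (Fc.ed (nat_lit 13112) (nat_lit 3275) Col.e (nat_lit 5051) Dv.df))
(Tr.nd (nat_lit 13114) (Tr.lf (Fc.ed (nat_lit 13113) (nat_lit 4966) Col.d (nat_lit 5052) Dv.df))
(Tr.lf (Fc.ed (nat_lit 13114) (nat_lit 5052) Col.gi (nat_lit 4736) (Dv.wd (nat_lit 151) [Mv.f (nat_lit 11939), Mv.f (nat_lit 7813), Mv.b (nat_lit 2997), Mv.f (nat_lit 2435), Mv.f (nat_lit 957), Mv.f (nat_lit 1995), Mv.f (nat_lit 5208), Mv.f (nat_lit 8928), Mv.f (nat_lit 12890), Mv.f (nat_lit 13113)]))))))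
(Tr.nd (nat_lit 13118) (Tr.nd (nat_lit 13116) (Tr.lf (Fc.ed (nat_lit 13115) (nat_lit 2673) Col.gi (nat_lit 5052) (Dv.wd (nat_lit 12) [Mv.f (nat_lit 13114), Mv.b (nat_lit 11938), Mv.f (nat_lit 11603)])))
(Tr.nd (nat_lit 13117) (Tr.lf (Fc.ed (nat_lit 13116) (nat_lit 4726) Col.c (nat_lit 5053) Dv.df))
(Tr.lf (Fc.ed (nat_lit 13117) (nat_lit 5053) Col.b (nat_lit 3059) (Dv.wd (nat_lit 101) [Mv.f (nat_lit 7965), Mv.f (nat_lit 5100), Mv.b (nat_lit 5851), Mv.f (nat_lit 6210), Mv.f (nat_lit 6212), Mv.b (nat_lit 6186), Mv.f (nat_lit 3993), Mv.b (nat_lit 7103), Mv.f (nat_lit 11921), Mv.f (nat_lit 13116)])))))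
(Tr.nd (nat_lit 13119) (Tr.lf (Fc.ed (nat_lit 13118) (nat_lit 4746) Col.c (nat_lit 5054) Dv.df))
(Tr.nd (nat_lit 13120) (Tr.lf (Fc.ed (nat_lit 13119) (nat_lit 2650) Col.g (nat_lit 5055) Dv.df))
(Tr.lf (Fc.ed (nat_lit 13120) (nat_lit 5055) Col.g (nat_lit 2982) (Dv.wd (nat_lit 9) [Mv.f (nat_lit 7787), Mv.b (nat_lit 7675), Mv.f (nat_lit 13119)]))))))))
(Tr.nd (nat_lit 13131) (Tr.nd (nat_lit 13126) (Tr.nd (nat_lit 13123) (Tr.nd (nat_lit 13122) (Tr.lf (Fc.ed (nat_lit 13121) (nat_lit 4211) Col.f (nat_lit 5056) Dv.df))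
(Tr.lf (Fc.ed (nat_lit 13122) (nat_lit 4802) Col.d (nat_lit 5057) Dv.df)))
(Tr.nd (nat_lit 13124) (Tr.lf (Fc.ed (nat_lit 13123) (nat_lit 5057) Col.g (nat_lit 3615) (Dv.wd (nat_lit 139) [Mv.b (nat_lit 9078), Mv.f (nat_lit 8632), Mv.f (nat_lit 5575), Mv.b (nat_lit 2144), Mv.f (nat_lit 1285), Mv.b (nat_lit 3859), Mv.f (nat_lit 4757), Mv.f (nat_lit 12563), Mv.f (nat_lit 13122)])))
(Tr.nd (nat_lit 13125) (Tr.lf (Fc.ed (nat_lit 13124) (nat_lit 3106) Col.b (nat_lit 5058) Dv.df))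
(Tr.lf (Fc.ed (nat_lit 13125) (nat_lit 4848) Col.g (nat_lit 5059) Dv.df)))))
(Tr.nd (nat_lit 13128) (Tr.nd (nat_lit 13127) (Tr.lf (Fc.ed (nat_lit 13126) (nat_lit 5059) Col.g (nat_lit 5022) (Dv.wd (nat_lit 9) [Mv.b (nat_lit 13047), Mv.b (nat_lit 12654), Mv.f (nat_lit 13125)])))
(Tr.lf (Fc.ed (nat_lit 13127) (nat_lit 5059) Col.c (nat_lit 4071) (Dv.wd (nat_lit 83) [Mv.f (nat_lit 10331), Mv.f (nat_lit 5498), Mv.b (nat_lit 5500), Mv.b (nat_lit 5726), Mv.f (nat_lit 7146), Mv.b (nat_lit 10698), Mv.b (nat_lit 12275), Mv.f (nat_lit 12653), Mv.f (nat_lit 13125)]))))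
(Tr.nd (nat_lit 13129) (Tr.lf (Fc.ed (nat_lit 13128) (nat_lit 4733) Col.f (nat_lit 5059) (Dv.wd (nat_lit 64) [Mv.f (nat_lit 13127), Mv.b (nat_lit 12390), Mv.f (nat_lit 11934)])))
(Tr.nd (nat_lit 13130) (Tr.lf (Fc.ed (nat_lit 13129) (nat_lit 3011) Col.d (nat_lit 5060) Dv.df))
(Tr.lf (Fc.ed (nat_lit 13130) (nat_lit 5060) Col.a (nat_lit 4872) (Dv.wd (nat_lit 8) [Mv.f (nat_lit 12929), Mv.f (nat_lit 7852), Mv.f (nat_lit 13129)])))))))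
(Tr.nd (nat_lit 13136) (Tr.nd (nat_lit 13133) (Tr.nd (nat_lit 13132) (Tr.lf (Fc.ed (nat_lit 13131) (nat_lit 3237) Col.e (nat_lit 5060) (Dv.wd (nat_lit 72) [Mv.f (nat_lit 13130), Mv.b (nat_lit 12703), Mv.b (nat_lit 12977)])))
(Tr.lf (Fc.ed (nat_lit 13132) (nat_lit 3152) Col.gi (nat_lit 5061) Dv.df)))
(Tr.nd (nat_lit 13134) (Tr.lf (Fc.ed (nat_lit 13133) (nat_lit 3293) Col.a (nat_lit 5062) Dv.df))
(Tr.nd (nat_lit 13135) (Tr.lf (Fc.ed (nat_lit 13134) (nat_lit 5062) Col.f (nat_lit 3015) (Dv.wd (nat_lit 35) [Mv.b (nat_lit 10907), Mv.b (nat_lit 10906), Mv.f (nat_lit 13133)])))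
(Tr.lf (Fc.ed (nat_lit 13135) (nat_lit 4527) Col.c (nat_lit 5063) Dv.df)))))
(Tr.nd (nat_lit 13139) (Tr.nd (nat_lit 13137) (Tr.lf (Fc.ed (nat_lit 13136) (nat_lit 5063) Col.f (nat_lit 2803) (Dv.wd (nat_lit 26) [Mv.b (nat_lit 7415), Mv.b (nat_lit 11547), Mv.f (nat_lit 13135)])))
(Tr.nd (nat_lit 13138) (Tr.lf (Fc.ed (nat_lit 13137) (nat_lit 4681) Col.b (nat_lit 5064) Dv.df))
(Tr.lf (Fc.ed (nat_lit 13138) (nat_lit 5064) Col.c (nat_lit 2298) (Dv.wd (nat_lit 93) [Mv.b (nat_lit 6286), Mv.b (nat_lit 3181), Mv.b (nat_lit 7998), Mv.f (nat_lit 11836), Mv.f (nat_lit 13137)])))))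
(Tr.nd (nat_lit 13140) (Tr.lf (Fc.ed (nat_lit 13139) (nat_lit 3934) Col.d (nat_lit 5065) Dv.df))
(Tr.nd (nat_lit 13141) (Tr.lf (Fc.ed (nat_lit 13140) (nat_lit 5065) Col.e (nat_lit 3970) (Dv.wd (nat_lit 42) [Mv.f (nat_lit 9759), Mv.f (nat_lit 12153), Mv.f (nat_lit 10449), Mv.f (nat_lit 9698), Mv.f (nat_lit 13139)])))
(Tr.lf (Fc.ed (nat_lit 13141) (nat_lit 3740) Col.b (nat_lit 5066) Dv.df))))))))))))))
end CfsgLib.TCON
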