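import Cfsg.Agent.EqBase
import Cfsg.Agent.LibTCONW
set_option autoImplicit false
set_option linter.all false
set_option maxRecDepth 1000000
set_option maxHeartbeats 0
namespace CfsgLib.TCON
open CfsgLib.TC Cfsg.Spor CfsgLib.TCG_ON
noncomputable def mini2S_5 : Tr (Fc Col) := (Tr.nd (nat_lit 14456) (Tr.nd (nat_lit 13799) (Tr.nd (nat_lit 13470) (Tr.nd (nat_lit 13306) (Tr.nd (nat_lit 13224) (Tr.nd (nat_lit 13183) (Tr.nd (nat_lit 13162) (Tr.nd (nat_lit 13152) (Tr.nd (nat_lit 13147) (Tr.nd (nat_lit 13144) (Tr.nd (nat_lit 13143) (Tr.lf (Fc.ed (nat_lit 13142) (nat_lit 5066) Col.d (nat_lit 3435) (Dv.wd (nat_lit 58) [Mv.f (nat_lit 8738), Mv.f (nat_lit 10506), Mv.f (nat_lit 13141)])))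
(Tr.lf (Fc.ed (nat_lit 13143) (nat_lit 5066) Col.e (nat_lit 4837) (Dv.wd (nat_lit 52) [Mv.f (nat_lit 12629), Mv.f (nat_lit 9324), Mv.f (nat_lit 13141)]))))
(Tr.nd (nat_lit 13145) (Tr.lf (Fc.ed (nat_lit 13144) (nat_lit 3540) Col.g (nat_lit 5067) Dv.df))
(Tr.nd (nat_lit 13146) (Tr.lf (Fc.ed (nat_lit 13145) (nat_lit 5067) Col.g (nat_lit 3075) (Dv.wd (nat_lit 9) [Mv.f (nat_lit 12569), Mv.f (nat_lit 12571), Mv.f (nat_lit 13144)])))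
(Tr.lf (Fc.ed (nat_lit 13146) (nat_lit 3703) Col.e (nat_lit 5068) Dv.df)))))
(Tr.nd (nat_lit 13149) (Tr.nd (nat_lit 13148) (Tr.lf (Fc.ed (nat_lit 13147) (nat_lit 5068) Col.a (nat_lit 4312) (Dv.wd (nat_lit 15) [Mv.b (nat_lit 11085), Mv.b (nat_lit 9250), Mv.f (nat_lit 13146)])))
(Tr.lf (Fc.ed (nat_lit 13148) (nat_lit 4374) Col.d (nat_lit 5068) (Dv.wd (nat_lit 97) [Mv.f (nat_lit 13147), Mv.f (nat_lit 11086), Mv.f (nat_lit 11271)]))))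
(Tr.nd (nat_lit 13150) (Tr.lf (Fc.ed (nat_lit 13149) (nat_lit 4788) Col.g (nat_lit 5069) Dv.df))
(Tr.nd (nat_lit 13151) (Tr.lf (Fc.ed (nat_lit 13150) (nat_lit 5069) Col.g (nat_lit 2851) (Dv.wd (nat_lit 9) [Mv.b (nat_lit 7598), Mv.b (nat_lit 12538), Mv.f (nat_lit 13149)])))
(Tr.lf (Fc.ed (nat_lit 13151) (nat_lit 2871) Col.g (nat_lit 5070) Dv.df))))))
(Tr.nd (nat_lit 13157) (Tr.nd (nat_lit 13154) (Tr.nd (nat_lit 13153) (Tr.lf (Fc.ed (nat_lit 13152) (nat_lit 5070) Col.g (nat_lit 2987) (Dv.wd (nat_lit 9) [Mv.b (nat_lit 8956), Mv.b (nat_lit 8955), Mv.f (nat_lit 13151)])))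
(Tr.lf (Fc.ed (nat_lit 13153) (nat_lit 4843) Col.g (nat_lit 5071) Dv.df)))
(Tr.nd (nat_lit 13155) (Tr.lf (Fc.ed (nat_lit 13154) (nat_lit 5071) Col.g (nat_lit 3706) (Dv.wd (nat_lit 9) [Mv.f (nat_lit 9858), Mv.f (nat_lit 12640), Mv.f (nat_lit 13153)])))
(Tr.nd (nat_lit 13156) (Tr.lf (Fc.ed (nat_lit 13155) (nat_lit 4951) Col.f (nat_lit 5072) Dv.df))
(Tr.lf (Fc.ed (nat_lit 13156) (nat_lit 5072) Col.a (nat_lit 2808) (Dv.wd (nat_lit 16) [Mv.f (nat_lit 7425), Mv.b (nat_lit 12862), Mv.f (nat_lit 13155)]))))))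
(Tr.nd (nat_lit 13159) (Tr.nd (nat_lit 13158) (Tr.lf (Fc.ed (nat_lit 13157) (nat_lit 4777) Col.g (nat_lit 5073) Dv.df))
(Tr.lf (Fc.ed (nat_lit 13158) (nat_lit 5073) Col.g (nat_lit 2241) (Dv.wd (nat_lit 9) [Mv.f (nat_lit 11340), Mv.f (nat_lit 12513), Mv.f (nat_lit 13157)]))))
(Tr.nd (nat_lit 13160) (Tr.lf (Fc.ed (nat_lit 13159) (nat_lit 3897) Col.a (nat_lit 5074) Dv.df))
(Tr.nd (nat_lit 13161) (Tr.lf (Fc.ed (nat_lit 13160) (nat_lit 5074) Col.f (nat_lit 4668) (Dv.wd (nat_lit 10) [Mv.f (nat_lit 11808), Mv.b (nat_lit 9590), Mv.f (nat_lit 13159)])))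
(Tr.lf (Fc.ed (nat_lit 13161) (nat_lit 2676) Col.c (nat_lit 5075) Dv.df)))))))
(Tr.nd (nat_lit 13172) (Tr.nd (nat_lit 13167) (Tr.nd (nat_lit 13164) (Tr.nd (nat_lit 13163) (Tr.lf (Fc.ed (nat_lit 13162) (nat_lit 4972) Col.f (nat_lit 5076) Dv.df))
(Tr.lf (Fc.ed (nat_lit 13163) (nat_lit 5076) Col.a (nat_lit 2636) (Dv.wd (nat_lit 16) [Mv.b (nat_lit 9937), Mv.f (nat_lit 12899), Mv.f (nat_lit 13162)]))))
(Tr.nd (nat_lit 13165) (Tr.lf (Fc.ed (nat_lit 13164) (nat_lit 4751) Col.g (nat_lit 5077) Dv.df))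
(Tr.nd (nat_lit 13166) (Tr.lf (Fc.ed (nat_lit 13165) (nat_lit 5077) Col.g (nat_lit 3192) (Dv.wd (nat_lit 9) [Mv.f (nat_lit 12796), Mv.f (nat_lit 12797), Mv.f (nat_lit 13164)])))
(Tr.lf (Fc.ed (nat_lit 13166) (nat_lit 2947) Col.g (nat_lit 5078) Dv.df)))))
(Tr.nd (nat_lit 13169) (Tr.nd (nat_lit 13168) (Tr.lf (Fc.ed (nat_lit 13167) (nat_lit 3540) Col.b (nat_lit 5079) Dv.df))
(Tr.lf (Fc.ed (nat_lit 13168) (nat_lit 5079) Col.e (nat_lit 4810) (Dv.wd (nat_lit 52) [Mv.b (nat_lit 12579), Mv.f (nat_lit 8941), Mv.f (nat_lit 13167)]))))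
(Tr.nd (nat_lit 13170) (Tr.lf (Fc.ed (nat_lit 13169) (nat_lit 5079) Col.c (nat_lit 4922) (Dv.wd (nat_lit 93) [Mv.b (nat_lit 12800), Mv.b (nat_lit 7503), Mv.f (nat_lit 6882), Mv.f (nat_lit 8939), Mv.f (nat_lit 13167)])))
(Tr.nd (nat_lit 13171) (Tr.lf (Fc.ed (nat_lit 13170) (nat_lit 4922) Col.e (nat_lit 4976) (Dv.wd (nat_lit 25) [Mv.b (nat_lit 12905), Mv.b (nat_lit 13168), Mv.f (nat_lit 13169)])))
(Tr.lf (Fc.ed (nat_lit 13171) (nat_lit 4426) Col.c (nat_lit 5080) Dv.df))))))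
(Tr.nd (nat_lit 13177) (Tr.nd (nat_lit 13174) (Tr.nd (nat_lit 13173) (Tr.lf (Fc.ed (nat_lit 13172) (nat_lit 4935) Col.b (nat_lit 5081) Dv.df))
(Tr.lf (Fc.ed (nat_lit 13173) (nat_lit 3349) Col.a (nat_lit 5082) Dv.df)))
(Tr.nd (nat_lit 13175) (Tr.lf (Fc.ed (nat_lit 13174) (nat_lit 5082) Col.f (nat_lit 3932) (Dv.wd (nat_lit 10) [Mv.b (nat_lit 9694), Mv.f (nat_lit 8557), Mv.f (nat_lit 13173)])))
(Tr.nd (nat_lit 13176) (Tr.lf (Fc.ed (nat_lit 13175) (nat_lit 3114) Col.a (nat_lit 5083) Dv.df))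
(Tr.lf (Fc.ed (nat_lit 13176) (nat_lit 5083) Col.c (nat_lit 4714) (Dv.wd (nat_lit 33) [Mv.f (nat_lit 11901), Mv.f (nat_lit 8084), Mv.f (nat_lit 13175)]))))))
(Tr.nd (nat_lit 13180) (Tr.nd (nat_lit 13178) (Tr.lf (Fc.ed (nat_lit 13177) (nat_lit 4672) Col.c (nat_lit 5084) Dv.df))
(Tr.nd (nat_lit 13179) (Tr.lf (Fc.ed (nat_lit 13178) (nat_lit 4411) Col.f (nat_lit 5085) Dv.df))
(Tr.lf (Fc.ed (nat_lit 13179) (nat_lit 5085) Col.a (nat_lit 4247) (Dv.wd (nat_lit 16) [Mv.b (nat_lit 11536), Mv.b (nat_lit 11535), Mv.f (nat_lit 13178)])))))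
(Tr.nd (nat_lit 13181) (Tr.lf (Fc.ed (nat_lit 13180) (nat_lit 3194) Col.a (nat_lit 5086) Dv.df))
(Tr.nd (nat_lit 13182) (Tr.lf (Fc.ed (nat_lit 13181) (nat_lit 4861) Col.f (nat_lit 5087) Dv.df))
(Tr.lf (Fc.ed (nat_lit 13182) (nat_lit 5087) Col.a (nat_lit 3836) (Dv.wd (nat_lit 23) [Mv.b (nat_lit 9494), Mv.f (nat_lit 12681), Mv.f (nat_lit 13181)])))))))))
(Tr.nd (nat_lit 13203) (Tr.nd (nat_lit 13193) (Tr.nd (nat_lit 13188) (Tr.nd (nat_lit 13185) (Tr.nd (nat_lit 13184) (Tr.lf (Fc.ed (nat_lit 13183) (nat_lit 4461) Col.a (nat_lit 5088) Dv.df))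
(Tr.lf (Fc.ed (nat_lit 13184) (nat_lit 5088) Col.f (nat_lit 4243) (Dv.wd (nat_lit 10) [Mv.f (nat_lit 10918), Mv.b (nat_lit 11433), Mv.f (nat_lit 13183)]))))
(Tr.nd (nat_lit 13186) (Tr.lf (Fc.ed (nat_lit 13185) (nat_lit 4023) Col.d (nat_lit 5089) Dv.df))
(Tr.nd (nat_lit 13187) (Tr.lf (Fc.ed (nat_lit 13186) (nat_lit 3829) Col.g (nat_lit 5090) Dv.df))
(Tr.lf (Fc.ed (nat_lit 13187) (nat_lit 5090) Col.g (nat_lit 1780) (Dv.wd (nat_lit 9) [Mv.f (nat_lit 6359), Mv.b (nat_lit 9484), Mv.f (nat_lit 13186)]))))))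
(Tr.nd (nat_lit 13190) (Tr.nd (nat_lit 13189) (Tr.lf (Fc.ed (nat_lit 13188) (nat_lit 3602) Col.a (nat_lit 5091) Dv.df))
(Tr.lf (Fc.ed (nat_lit 13189) (nat_lit 5091) Col.d (nat_lit 5062) (Dv.wd (nat_lit 28) [Mv.b (nat_lit 13133), Mv.b (nat_lit 9059), Mv.f (nat_lit 13188)]))))
(Tr.nd (nat_lit 13191) (Tr.lf (Fc.ed (nat_lit 13190) (nat_lit 5091) Col.e (nat_lit 4467) (Dv.wd (nat_lit 56) [Mv.b (nat_lit 11442), Mv.f (nat_lit 9058), Mv.f (nat_lit 13188)])))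
(Tr.nd (nat_lit 13192) (Tr.lf (Fc.ed (nat_lit 13191) (nat_lit 5091) Col.f (nat_lit 4710) (Dv.wd (nat_lit 35) [Mv.b (nat_lit 12699), Mv.f (nat_lit 12700), Mv.f (nat_lit 13188)])))
(Tr.lf (Fc.ed (nat_lit 13192) (nat_lit 1810) Col.f (nat_lit 5092) Dv.df))))))
(Tr.nd (nat_lit 13198) (Tr.nd (nat_lit 13195) (Tr.nd (nat_lit 13194) (Tr.lf (Fc.ed (nat_lit 13193) (nat_lit 5092) Col.a (nat_lit 4444) (Dv.wd (nat_lit 16) [Mv.b (nat_lit 11406), Mv.b (nat_lit 5204), Mv.f (nat_lit 13192)])))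
(Tr.lf (Fc.ed (nat_lit 13194) (nat_lit 4272) Col.a (nat_lit 5093) Dv.df)))
(Tr.nd (nat_lit 13196) (Tr.lf (Fc.ed (nat_lit 13195) (nat_lit 5093) Col.d (nat_lit 4925) (Dv.wd (nat_lit 28) [Mv.b (nat_lit 12806), Mv.b (nat_lit 10991), Mv.f (nat_lit 13194)])))
(Tr.nd (nat_lit 13197) (Tr.lf (Fc.ed (nat_lit 13196) (nat_lit 5093) Col.e (nat_lit 4595) (Dv.wd (nat_lit 56) [Mv.f (nat_lit 11677), Mv.f (nat_lit 10990), Mv.f (nat_lit 13194)])))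
(Tr.lf (Fc.ed (nat_lit 13197) (nat_lit 1851) Col.g (nat_lit 5094) Dv.df)))))
(Tr.nd (nat_lit 13200) (Tr.nd (nat_lit 13199) (Tr.lf (Fc.ed (nat_lit 13198) (nat_lit 5094) Col.g (nat_lit 3354) (Dv.wd (nat_lit 9) [Mv.f (nat_lit 8568), Mv.f (nat_lit 8151), Mv.f (nat_lit 13197)])))
(Tr.lf (Fc.ed (nat_lit 13199) (nat_lit 4972) Col.gi (nat_lit 5095) Dv.df)))
(Tr.nd (nat_lit 13201) (Tr.lf (Fc.ed (nat_lit 13200) (nat_lit 5095) Col.gi (nat_lit 2636) (Dv.wd (nat_lit 24) [Mv.b (nat_lit 9937), Mv.f (nat_lit 12899), Mv.f (nat_lit 13199)])))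
(Tr.nd (nat_lit 13202) (Tr.lf (Fc.ed (nat_lit 13201) (nat_lit 4858) Col.e (nat_lit 5096) Dv.df))
(Tr.lf (Fc.ed (nat_lit 13202) (nat_lit 5096) Col.b (nat_lit 4346) (Dv.wd (nat_lit 49) [Mv.b (nat_lit 11731), Mv.f (nat_lit 12676), Mv.f (nat_lit 13201)]))))))))
(Tr.nd (nat_lit 13213) (Tr.nd (nat_lit 13208) (Tr.nd (nat_lit 13205) (Tr.nd (nat_lit 13204) (Tr.lf (Fc.ed (nat_lit 13203) (nat_lit 5096) Col.d (nat_lit 2569) (Dv.wd (nat_lit 59) [Mv.b (nat_lit 6893), Mv.b (nat_lit 6181), Mv.b (nat_lit 7014), Mv.b (nat_lit 12677), Mv.f (nat_lit 13201)])))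
(Tr.lf (Fc.ed (nat_lit 13204) (nat_lit 4612) Col.b (nat_lit 5097) Dv.df)))
(Tr.nd (nat_lit 13206) (Tr.lf (Fc.ed (nat_lit 13205) (nat_lit 5097) Col.d (nat_lit 3279) (Dv.wd (nat_lit 58) [Mv.b (nat_lit 8411), Mv.b (nat_lit 11705), Mv.f (nat_lit 13204)])))
(Tr.nd (nat_lit 13207) (Tr.lf (Fc.ed (nat_lit 13206) (nat_lit 3129) Col.g (nat_lit 5098) Dv.df))
(Tr.lf (Fc.ed (nat_lit 13207) (nat_lit 4430) Col.c (nat_lit 5099) Dv.df)))))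
(Tr.nd (nat_lit 13210) (Tr.nd (nat_lit 13209) (Tr.lf (Fc.ed (nat_lit 13208) (nat_lit 3759) Col.d (nat_lit 5100) Dv.df))
(Tr.lf (Fc.ed (nat_lit 13209) (nat_lit 2549) Col.gi (nat_lit 5101) Dv.df)))
(Tr.nd (nat_lit 13211) (Tr.lf (Fc.ed (nat_lit 13210) (nat_lit 2225) Col.c (nat_lit 5102) Dv.df))
(Tr.nd (nat_lit 13212) (Tr.lf (Fc.ed (nat_lit 13211) (nat_lit 5012) Col.gi (nat_lit 5103) Dv.df))
(Tr.lf (Fc.ed (nat_lit 13212) (nat_lit 5103) Col.f (nat_lit 4697) (Dv.wd (nat_lit 13) [Mv.f (nat_lit 11867), Mv.f (nat_lit 13026), Mv.f (nat_lit 13211)])))))))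
(Tr.nd (nat_lit 13218) (Tr.nd (nat_lit 13215) (Tr.nd (nat_lit 13214) (Tr.lf (Fc.ed (nat_lit 13213) (nat_lit 4005) Col.a (nat_lit 5103) (Dv.wd (nat_lit 79) [Mv.f (nat_lit 13212), Mv.f (nat_lit 11867), Mv.b (nat_lit 9814)])))
(Tr.lf (Fc.ed (nat_lit 13214) (nat_lit 3257) Col.d (nat_lit 5103) (Dv.wd (nat_lit 90) [Mv.f (nat_lit 13212), Mv.b (nat_lit 11866), Mv.b (nat_lit 9684)]))))
(Tr.nd (nat_lit 13216) (Tr.lf (Fc.ed (nat_lit 13215) (nat_lit 2481) Col.b (nat_lit 5104) Dv.df))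
(Tr.nd (nat_lit 13217) (Tr.lf (Fc.ed (nat_lit 13216) (nat_lit 4730) Col.a (nat_lit 5105) Dv.df))
(Tr.lf (Fc.ed (nat_lit 13217) (nat_lit 5105) Col.f (nat_lit 3943) (Dv.wd (nat_lit 35) [Mv.b (nat_lit 12914), Mv.b (nat_lit 12913), Mv.f (nat_lit 13216)]))))))
(Tr.nd (nat_lit 13221) (Tr.nd (nat_lit 13219) (Tr.lf (Fc.ed (nat_lit 13218) (nat_lit 4262) Col.g (nat_lit 5106) Dv.df))
(Tr.nd (nat_lit 13220) (Tr.lf (Fc.ed (nat_lit 13219) (nat_lit 5106) Col.g (nat_lit 3637) (Dv.wd (nat_lit 9) [Mv.b (nat_lit 9118), Mv.f (nat_lit 10969), Mv.f (nat_lit 13218)])))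
(Tr.lf (Fc.ed (nat_lit 13220) (nat_lit 5012) Col.f (nat_lit 5107) Dv.df))))
(Tr.nd (nat_lit 13222) (Tr.lf (Fc.ed (nat_lit 13221) (nat_lit 5107) Col.e (nat_lit 2942) (Dv.wd (nat_lit 22) [Mv.f (nat_lit 11893), Mv.b (nat_lit 11895), Mv.f (nat_lit 12640), Mv.b (nat_lit 13027), Mv.f (nat_lit 13220)])))
(Tr.nd (nat_lit 13223) (Tr.lf (Fc.ed (nat_lit 13222) (nat_lit 5012) Col.d (nat_lit 5107) (Dv.wd (nat_lit 99) [Mv.f (nat_lit 13221), Mv.b (nat_lit 9972), Mv.b (nat_lit 7761), Mv.b (nat_lit 12641), Mv.b (nat_lit 13027)])))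
(Tr.lf (Fc.ed (nat_lit 13223) (nat_lit 5107) Col.g (nat_lit 5108) Dv.df)))))))))
(Tr.nd (nat_lit 13265) (Tr.nd (nat_lit 13244) (Tr.nd (nat_lit 13234) (Tr.nd (nat_lit 13229) (Tr.nd (nat_lit 13226) (Tr.nd (nat_lit 13225) (Tr.lf (Fc.ed (nat_lit 13224) (nat_lit 5108) Col.d (nat_lit 3620) (Dv.wd (nat_lit 68) [Mv.f (nat_lit 9086), Mv.f (nat_lit 5987), Mv.f (nat_lit 6496), Mv.b (nat_lit 8241), Mv.b (nat_lit 11918), Mv.b (nat_lit 11917), Mv.f (nat_lit 10974), Mv.f (nat_lit 9972), Mv.b (nat_lit 13221), Mv.f (nat_lit 13223)])))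
(Tr.lf (Fc.ed (nat_lit 13225) (nat_lit 3878) Col.a (nat_lit 5108) (Dv.wd (nat_lit 54) [Mv.f (nat_lit 13224), Mv.b (nat_lit 9517), Mv.b (nat_lit 9560)]))))
(Tr.nd (nat_lit 13227) (Tr.lf (Fc.ed (nat_lit 13226) (nat_lit 5052) Col.e (nat_lit 5108) (Dv.wd (nat_lit 137) [Mv.f (nat_lit 13224), Mv.b (nat_lit 9188), Mv.b (nat_lit 9187), Mv.f (nat_lit 12890), Mv.f (nat_lit 13113)])))
(Tr.nd (nat_lit 13228) (Tr.lf (Fc.ed (nat_lit 13227) (nat_lit 5108) Col.f (nat_lit 4884) (Dv.wd (nat_lit 35) [Mv.b (nat_lit 12722), Mv.f (nat_lit 9559), Mv.f (nat_lit 13225)])))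
(Tr.lf (Fc.ed (nat_lit 13228) (nat_lit 5107) Col.gi (nat_lit 2260) (Dv.wd (nat_lit 24) [Mv.f (nat_lit 9559), Mv.f (nat_lit 13225), Mv.b (nat_lit 13223)]))))))
(Tr.nd (nat_lit 13231) (Tr.nd (nat_lit 13230) (Tr.lf (Fc.ed (nat_lit 13229) (nat_lit 5020) Col.g (nat_lit 5109) Dv.df))
(Tr.lf (Fc.ed (nat_lit 13230) (nat_lit 1468) Col.e (nat_lit 5110) Dv.df)))
(Tr.nd (nat_lit 13232) (Tr.lf (Fc.ed (nat_lit 13231) (nat_lit 5110) Col.f (nat_lit 4800) (Dv.wd (nat_lit 96) [Mv.b (nat_lit 12560), Mv.b (nat_lit 11384), Mv.b (nat_lit 7518), Mv.b (nat_lit 4956), Mv.f (nat_lit 13230)])))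
(Tr.nd (nat_lit 13233) (Tr.lf (Fc.ed (nat_lit 13232) (nat_lit 3194) Col.f (nat_lit 5111) Dv.df))
(Tr.lf (Fc.ed (nat_lit 13233) (nat_lit 3481) Col.a (nat_lit 5112) Dv.df))))))
(Tr.nd (nat_lit 13239) (Tr.nd (nat_lit 13236) (Tr.nd (nat_lit 13235) (Tr.lf (Fc.ed (nat_lit 13234) (nat_lit 3060) Col.c (nat_lit 5113) Dv.df))
(Tr.lf (Fc.ed (nat_lit 13235) (nat_lit 4026) Col.a (nat_lit 5114) Dv.df)))
(Tr.nd (nat_lit 13237) (Tr.lf (Fc.ed (nat_lit 13236) (nat_lit 5114) Col.f (nat_lit 3227) (Dv.wd (nat_lit 35) [Mv.b (nat_lit 12593), Mv.b (nat_lit 12592), Mv.f (nat_lit 13235)])))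
(Tr.nd (nat_lit 13238) (Tr.lf (Fc.ed (nat_lit 13237) (nat_lit 5083) Col.f (nat_lit 5115) Dv.df))
(Tr.lf (Fc.ed (nat_lit 13238) (nat_lit 5115) Col.c (nat_lit 4218) (Dv.wd (nat_lit 34) [Mv.f (nat_lit 11900), Mv.b (nat_lit 13176), Mv.f (nat_lit 13237)]))))))
(Tr.nd (nat_lit 13241) (Tr.nd (nat_lit 13240) (Tr.lf (Fc.ed (nat_lit 13239) (nat_lit 5025) Col.d (nat_lit 5116) Dv.df))
(Tr.lf (Fc.ed (nat_lit 13240) (nat_lit 5116) Col.gi (nat_lit 4864) (Dv.wd (nat_lit 111) [Mv.f (nat_lit 12688), Mv.b (nat_lit 12516), Mv.f (nat_lit 12471), Mv.f (nat_lit 9751), Mv.f (nat_lit 10189), Mv.f (nat_lit 10638), Mv.f (nat_lit 10644), Mv.f (nat_lit 13053), Mv.f (nat_lit 13239)]))))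
(Tr.nd (nat_lit 13242) (Tr.lf (Fc.ed (nat_lit 13241) (nat_lit 4816) Col.a (nat_lit 5117) Dv.df))
(Tr.nd (nat_lit 13243) (Tr.lf (Fc.ed (nat_lit 13242) (nat_lit 5117) Col.d (nat_lit 4634) (Dv.wd (nat_lit 28) [Mv.b (nat_lit 11748), Mv.f (nat_lit 12590), Mv.f (nat_lit 13241)])))
(Tr.lf (Fc.ed (nat_lit 13243) (nat_lit 5117) Col.e (nat_lit 2198) (Dv.wd (nat_lit 56) [Mv.f (nat_lit 12340), Mv.b (nat_lit 12591), Mv.f (nat_lit 13241)]))))))))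
(Tr.nd (nat_lit 13254) (Tr.nd (nat_lit 13249) (Tr.nd (nat_lit 13246) (Tr.nd (nat_lit 13245) (Tr.lf (Fc.ed (nat_lit 13244) (nat_lit 4991) Col.d (nat_lit 5118) Dv.df))
(Tr.lf (Fc.ed (nat_lit 13245) (nat_lit 4999) Col.e (nat_lit 5119) Dv.df)))
(Tr.nd (nat_lit 13247) (Tr.lf (Fc.ed (nat_lit 13246) (nat_lit 4156) Col.c (nat_lit 5120) Dv.df))
(Tr.nd (nat_lit 13248) (Tr.lf (Fc.ed (nat_lit 13247) (nat_lit 5120) Col.a (nat_lit 4921) (Dv.wd (nat_lit 19) [Mv.b (nat_lit 12798), Mv.b (nat_lit 10761), Mv.f (nat_lit 13246)])))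
(Tr.lf (Fc.ed (nat_lit 13248) (nat_lit 1675) Col.e (nat_lit 5121) Dv.df)))))
(Tr.nd (nat_lit 13251) (Tr.nd (nat_lit 13250) (Tr.lf (Fc.ed (nat_lit 13249) (nat_lit 4351) Col.b (nat_lit 5122) Dv.df))
(Tr.lf (Fc.ed (nat_lit 13250) (nat_lit 5122) Col.f (nat_lit 4176) (Dv.wd (nat_lit 20) [Mv.f (nat_lit 10795), Mv.b (nat_lit 11168), Mv.f (nat_lit 13249)]))))
(Tr.nd (nat_lit 13252) (Tr.lf (Fc.ed (nat_lit 13251) (nat_lit 4996) Col.c (nat_lit 5122) (Dv.wd (nat_lit 67) [Mv.f (nat_lit 13250), Mv.b (nat_lit 10794), Mv.f (nat_lit 12995)])))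
(Tr.nd (nat_lit 13253) (Tr.lf (Fc.ed (nat_lit 13252) (nat_lit 5121) Col.d (nat_lit 5123) Dv.df))
(Tr.lf (Fc.ed (nat_lit 13253) (nat_lit 3651) Col.f (nat_lit 5124) Dv.df))))))
(Tr.nd (nat_lit 13259) (Tr.nd (nat_lit 13256) (Tr.nd (nat_lit 13255) (Tr.lf (Fc.ed (nat_lit 13254) (nat_lit 5124) Col.a (nat_lit 4835) (Dv.wd (nat_lit 23) [Mv.b (nat_lit 12625), Mv.f (nat_lit 9145), Mv.f (nat_lit 13253)])))
(Tr.lf (Fc.ed (nat_lit 13255) (nat_lit 5022) Col.d (nat_lit 5125) Dv.df)))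
(Tr.nd (nat_lit 13257) (Tr.lf (Fc.ed (nat_lit 13256) (nat_lit 5125) Col.a (nat_lit 4727) (Dv.wd (nat_lit 8) [Mv.f (nat_lit 11930), Mv.f (nat_lit 13047), Mv.f (nat_lit 13255)])))
(Tr.nd (nat_lit 13258) (Tr.lf (Fc.ed (nat_lit 13257) (nat_lit 5125) Col.c (nat_lit 4811) (Dv.wd (nat_lit 80) [Mv.f (nat_lit 12581), Mv.f (nat_lit 8450), Mv.f (nat_lit 6361), Mv.b (nat_lit 6574), Mv.f (nat_lit 7891), Mv.f (nat_lit 7892), Mv.f (nat_lit 6135), Mv.b (nat_lit 13048), Mv.f (nat_lit 13255)])))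
(Tr.lf (Fc.ed (nat_lit 13258) (nat_lit 4043) Col.c (nat_lit 5126) Dv.df)))))
(Tr.nd (nat_lit 13262) (Tr.nd (nat_lit 13260) (Tr.lf (Fc.ed (nat_lit 13259) (nat_lit 5070) Col.e (nat_lit 5127) Dv.df))
(Tr.nd (nat_lit 13261) (Tr.lf (Fc.ed (nat_lit 13260) (nat_lit 5127) Col.d (nat_lit 4388) (Dv.wd (nat_lit 91) [Mv.b (nat_lit 11297), Mv.f (nat_lit 4960), Mv.b (nat_lit 4937), Mv.f (nat_lit 3812), Mv.b (nat_lit 3280), Mv.b (nat_lit 3159), Mv.b (nat_lit 4201), Mv.b (nat_lit 7561), Mv.f (nat_lit 13151), Mv.f (nat_lit 13259)])))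
(Tr.lf (Fc.ed (nat_lit 13261) (nat_lit 4767) Col.d (nat_lit 4202) (Dv.wd (nat_lit 162) [Mv.b (nat_lit 10842), Mv.f (nat_lit 8263), Mv.b (nat_lit 13152), Mv.f (nat_lit 13259), Mv.f (nat_lit 13260), Mv.f (nat_lit 11298), Mv.f (nat_lit 8964), Mv.f (nat_lit 8808), Mv.f (nat_lit 11495), Mv.f (nat_lit 12494)])))))
(Tr.nd (nat_lit 13263) (Tr.lf (Fc.ed (nat_lit 13262) (nat_lit 2061) Col.g (nat_lit 4498) (Dv.wd (nat_lit 38) [Mv.f (nat_lit 12494), Mv.f (nat_lit 13261), Mv.f (nat_lit 10843), Mv.b (nat_lit 7560), Mv.f (nat_lit 7561), Mv.b (nat_lit 4307), Mv.b (nat_lit 4303), Mv.b (nat_lit 2063), Mv.b (nat_lit 4028), Mv.b (nat_lit 5704)])))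
(Tr.nd (nat_lit 13264) (Tr.lf (Fc.ed (nat_lit 13263) (nat_lit 4459) Col.c (nat_lit 5128) Dv.df))
(Tr.lf (Fc.ed (nat_lit 13264) (nat_lit 5128) Col.f (nat_lit 3303) (Dv.wd (nat_lit 26) [Mv.b (nat_lit 8460), Mv.f (nat_lit 11429), Mv.f (nat_lit 13263)])))))))))
(Tr.nd (nat_lit 13285) (Tr.nd (nat_lit 13275) (Tr.nd (nat_lit 13270) (Tr.nd (nat_lit 13267) (Tr.nd (nat_lit 13266) (Tr.lf (Fc.ed (nat_lit 13265) (nat_lit 4982) Col.f (nat_lit 5129) Dv.df))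
(Tr.lf (Fc.ed (nat_lit 13266) (nat_lit 5129) Col.c (nat_lit 2127) (Dv.wd (nat_lit 34) [Mv.b (nat_lit 5908), Mv.f (nat_lit 12917), Mv.f (nat_lit 13265)]))))
(Tr.nd (nat_lit 13268) (Tr.lf (Fc.ed (nat_lit 13267) (nat_lit 4933) Col.d (nat_lit 5130) Dv.df))
(Tr.nd (nat_lit 13269) (Tr.lf (Fc.ed (nat_lit 13268) (nat_lit 4873) Col.g (nat_lit 5131) Dv.df))
(Tr.lf (Fc.ed (nat_lit 13269) (nat_lit 5131) Col.g (nat_lit 4982) (Dv.wd (nat_lit 9) [Mv.f (nat_lit 12918), Mv.f (nat_lit 12704), Mv.f (nat_lit 13268)]))))))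
(Tr.nd (nat_lit 13272) (Tr.nd (nat_lit 13271) (Tr.lf (Fc.ed (nat_lit 13270) (nat_lit 4893) Col.c (nat_lit 5131) (Dv.wd (nat_lit 135) [Mv.f (nat_lit 13269), Mv.b (nat_lit 12917), Mv.b (nat_lit 5154), Mv.f (nat_lit 3168), Mv.b (nat_lit 3173), Mv.f (nat_lit 3390), Mv.f (nat_lit 3392), Mv.f (nat_lit 5621), Mv.b (nat_lit 9063), Mv.f (nat_lit 12743)])))
(Tr.lf (Fc.ed (nat_lit 13271) (nat_lit 2734) Col.d (nat_lit 4893) (Dv.wd (nat_lit 62) [Mv.f (nat_lit 13270), Mv.b (nat_lit 13268), Mv.f (nat_lit 12705), Mv.f (nat_lit 8384), Mv.b (nat_lit 12243), Mv.f (nat_lit 6463), Mv.b (nat_lit 6782), Mv.b (nat_lit 7226), Mv.f (nat_lit 7257)]))))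
(Tr.nd (nat_lit 13273) (Tr.lf (Fc.ed (nat_lit 13272) (nat_lit 3605) Col.d (nat_lit 3465) (Dv.wd (nat_lit 58) [Mv.b (nat_lit 12196), Mv.f (nat_lit 13271), Mv.b (nat_lit 12743)])))
(Tr.nd (nat_lit 13274) (Tr.lf (Fc.ed (nat_lit 13273) (nat_lit 1918) Col.d (nat_lit 4075) (Dv.wd (nat_lit 28) [Mv.b (nat_lit 9939), Mv.f (nat_lit 13272), Mv.f (nat_lit 8791)])))
(Tr.lf (Fc.ed (nat_lit 13274) (nat_lit 1763) Col.d (nat_lit 3168) (Dv.wd (nat_lit 51) [Mv.f (nat_lit 8195), Mv.f (nat_lit 7154), Mv.b (nat_lit 5238), Mv.b (nat_lit 6958), Mv.f (nat_lit 9062), Mv.f (nat_lit 13272), Mv.f (nat_lit 12199), Mv.f (nat_lit 3095), Mv.b (nat_lit 5102)])))))))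
(Tr.nd (nat_lit 13280) (Tr.nd (nat_lit 13277) (Tr.nd (nat_lit 13276) (Tr.lf (Fc.ed (nat_lit 13275) (nat_lit 4537) Col.d (nat_lit 2427) (Dv.wd (nat_lit 28) [Mv.b (nat_lit 6562), Mv.f (nat_lit 13274), Mv.b (nat_lit 11567)])))
(Tr.lf (Fc.ed (nat_lit 13276) (nat_lit 4600) Col.d (nat_lit 2224) (Dv.wd (nat_lit 90) [Mv.f (nat_lit 6123), Mv.f (nat_lit 13274), Mv.f (nat_lit 11685)]))))
(Tr.nd (nat_lit 13278) (Tr.lf (Fc.ed (nat_lit 13277) (nat_lit 2138) Col.d (nat_lit 2899) (Dv.wd (nat_lit 28) [Mv.b (nat_lit 11686), Mv.f (nat_lit 13276), Mv.b (nat_lit 6122)])))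
(Tr.nd (nat_lit 13279) (Tr.lf (Fc.ed (nat_lit 13278) (nat_lit 2229) Col.g (nat_lit 5132) Dv.df))
(Tr.lf (Fc.ed (nat_lit 13279) (nat_lit 5132) Col.g (nat_lit 4866) (Dv.wd (nat_lit 9) [Mv.f (nat_lit 12692), Mv.b (nat_lit 6183), Mv.f (nat_lit 13278)]))))))
(Tr.nd (nat_lit 13282) (Tr.nd (nat_lit 13281) (Tr.lf (Fc.ed (nat_lit 13280) (nat_lit 4475) Col.a (nat_lit 5133) Dv.df))
(Tr.lf (Fc.ed (nat_lit 13281) (nat_lit 5133) Col.d (nat_lit 4878) (Dv.wd (nat_lit 28) [Mv.f (nat_lit 12713), Mv.f (nat_lit 11455), Mv.f (nat_lit 13280)]))))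
(Tr.nd (nat_lit 13283) (Tr.lf (Fc.ed (nat_lit 13282) (nat_lit 5133) Col.b (nat_lit 4906) (Dv.wd (nat_lit 65) [Mv.f (nat_lit 12766), Mv.b (nat_lit 5633), Mv.b (nat_lit 3347), Mv.b (nat_lit 11456), Mv.f (nat_lit 13280)])))
(Tr.nd (nat_lit 13284) (Tr.lf (Fc.ed (nat_lit 13283) (nat_lit 4927) Col.g (nat_lit 5134) Dv.df))
(Tr.lf (Fc.ed (nat_lit 13284) (nat_lit 5134) Col.g (nat_lit 3579) (Dv.wd (nat_lit 9) [Mv.b (nat_lit 9015), Mv.b (nat_lit 12811), Mv.f (nat_lit 13283)]))))))))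
(Tr.nd (nat_lit 13295) (Tr.nd (nat_lit 13290) (Tr.nd (nat_lit 13287) (Tr.nd (nat_lit 13286) (Tr.lf (Fc.ed (nat_lit 13285) (nat_lit 2926) Col.g (nat_lit 5135) Dv.df))
(Tr.lf (Fc.ed (nat_lit 13286) (nat_lit 3848) Col.c (nat_lit 5136) Dv.df)))
(Tr.nd (nat_lit 13288) (Tr.lf (Fc.ed (nat_lit 13287) (nat_lit 5136) Col.d (nat_lit 5129) (Dv.wd (nat_lit 147) [Mv.f (nat_lit 13266), Mv.f (nat_lit 5909), Mv.b (nat_lit 3013), Mv.f (nat_lit 2891), Mv.f (nat_lit 7368), Mv.b (nat_lit 10885), Mv.b (nat_lit 10884), Mv.f (nat_lit 9881), Mv.f (nat_lit 13286)])))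
(Tr.nd (nat_lit 13289) (Tr.lf (Fc.ed (nat_lit 13288) (nat_lit 4614) Col.g (nat_lit 5137) Dv.df))
(Tr.lf (Fc.ed (nat_lit 13289) (nat_lit 5137) Col.g (nat_lit 3226) (Dv.wd (nat_lit 9) [Mv.b (nat_lit 8687), Mv.b (nat_lit 11709), Mv.f (nat_lit 13288)]))))))
(Tr.nd (nat_lit 13292) (Tr.nd (nat_lit 13291) (Tr.lf (Fc.ed (nat_lit 13290) (nat_lit 4238) Col.e (nat_lit 5138) Dv.df))
(Tr.lf (Fc.ed (nat_lit 13291) (nat_lit 4901) Col.e (nat_lit 5139) Dv.df)))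
(Tr.nd (nat_lit 13293) (Tr.lf (Fc.ed (nat_lit 13292) (nat_lit 3349) Col.f (nat_lit 5140) Dv.df))
(Tr.nd (nat_lit 13294) (Tr.lf (Fc.ed (nat_lit 13293) (nat_lit 5140) Col.a (nat_lit 3932) (Dv.wd (nat_lit 16) [Mv.b (nat_lit 13174), Mv.b (nat_lit 13173), Mv.f (nat_lit 13292)])))
(Tr.lf (Fc.ed (nat_lit 13294) (nat_lit 3564) Col.c (nat_lit 5141) Dv.df))))))
(Tr.nd (nat_lit 13300) (Tr.nd (nat_lit 13297) (Tr.nd (nat_lit 13296) (Tr.lf (Fc.ed (nat_lit 13295) (nat_lit 4930) Col.a (nat_lit 5142) Dv.df))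
(Tr.lf (Fc.ed (nat_lit 13296) (nat_lit 5142) Col.d (nat_lit 1637) (Dv.wd (nat_lit 28) [Mv.f (nat_lit 6385), Mv.f (nat_lit 12817), Mv.f (nat_lit 13295)]))))
(Tr.nd (nat_lit 13298) (Tr.lf (Fc.ed (nat_lit 13297) (nat_lit 5142) Col.f (nat_lit 4941) (Dv.wd (nat_lit 35) [Mv.b (nat_lit 12841), Mv.b (nat_lit 12818), Mv.f (nat_lit 13295)])))
(Tr.nd (nat_lit 13299) (Tr.lf (Fc.ed (nat_lit 13298) (nat_lit 4879) Col.c (nat_lit 5143) Dv.df))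
(Tr.lf (Fc.ed (nat_lit 13299) (nat_lit 5143) Col.g (nat_lit 3391) (Dv.wd (nat_lit 123) [Mv.f (nat_lit 8644), Mv.f (nat_lit 5100), Mv.f (nat_lit 5630), Mv.b (nat_lit 5628), Mv.b (nat_lit 5507), Mv.b (nat_lit 3870), Mv.f (nat_lit 3993), Mv.b (nat_lit 7717), Mv.f (nat_lit 12715), Mv.f (nat_lit 13298)]))))))
(Tr.nd (nat_lit 13303) (Tr.nd (nat_lit 13301) (Tr.lf (Fc.ed (nat_lit 13300) (nat_lit 4959) Col.e (nat_lit 5144) Dv.df))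
(Tr.nd (nat_lit 13302) (Tr.lf (Fc.ed (nat_lit 13301) (nat_lit 5144) Col.d (nat_lit 3943) (Dv.wd (nat_lit 91) [Mv.b (nat_lit 9708), Mv.f (nat_lit 7645), Mv.f (nat_lit 7335), Mv.f (nat_lit 5098), Mv.b (nat_lit 5083), Mv.b (nat_lit 3731), Mv.f (nat_lit 4225), Mv.b (nat_lit 5397), Mv.b (nat_lit 12877), Mv.f (nat_lit 13300)])))
(Tr.lf (Fc.ed (nat_lit 13302) (nat_lit 4984) Col.a (nat_lit 5145) Dv.df))))
(Tr.nd (nat_lit 13304) (Tr.lf (Fc.ed (nat_lit 13303) (nat_lit 5145) Col.f (nat_lit 4509) (Dv.wd (nat_lit 35) [Mv.f (nat_lit 11729), Mv.b (nat_lit 12924), Mv.f (nat_lit 13302)])))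
(Tr.nd (nat_lit 13305) (Tr.lf (Fc.ed (nat_lit 13304) (nat_lit 3335) Col.a (nat_lit 5146) Dv.df))
(Tr.lf (Fc.ed (nat_lit 13305) (nat_lit 5146) Col.f (nat_lit 5035) (Dv.wd (nat_lit 35) [Mv.f (nat_lit 13078), Mv.f (nat_lit 8525), Mv.f (nat_lit 13304)])))))))))))
(Tr.nd (nat_lit 13388) (Tr.nd (nat_lit 13347) (Tr.nd (nat_lit 13326) (Tr.nd (nat_lit 13316) (Tr.nd (nat_lit 13311) (Tr.nd (nat_lit 13308) (Tr.nd (nat_lit 13307) (Tr.lf (Fc.ed (nat_lit 13306) (nat_lit 5034) Col.d (nat_lit 5147) Dv.df))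
(Tr.lf (Fc.ed (nat_lit 13307) (nat_lit 5147) Col.a (nat_lit 3228) (Dv.wd (nat_lit 8) [Mv.f (nat_lit 8407), Mv.f (nat_lit 13075), Mv.f (nat_lit 13306)]))))
(Tr.nd (nat_lit 13309) (Tr.lf (Fc.ed (nat_lit 13308) (nat_lit 3007) Col.e (nat_lit 5148) Dv.df))
(Tr.nd (nat_lit 13310) (Tr.lf (Fc.ed (nat_lit 13309) (nat_lit 4872) Col.gi (nat_lit 5149) Dv.df))
(Tr.lf (Fc.ed (nat_lit 13310) (nat_lit 3588) Col.f (nat_lit 5150) Dv.df)))))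
(Tr.nd (nat_lit 13313) (Tr.nd (nat_lit 13312) (Tr.lf (Fc.ed (nat_lit 13311) (nat_lit 5150) Col.a (nat_lit 2957) (Dv.wd (nat_lit 23) [Mv.b (nat_lit 7737), Mv.f (nat_lit 9173), Mv.f (nat_lit 13310)])))
(Tr.lf (Fc.ed (nat_lit 13312) (nat_lit 3009) Col.gi (nat_lit 5151) Dv.df)))
(Tr.nd (nat_lit 13314) (Tr.lf (Fc.ed (nat_lit 13313) (nat_lit 5151) Col.f (nat_lit 5147) (Dv.wd (nat_lit 13) [Mv.f (nat_lit 13307), Mv.b (nat_lit 8311), Mv.f (nat_lit 13312)])))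
(Tr.nd (nat_lit 13315) (Tr.lf (Fc.ed (nat_lit 13314) (nat_lit 2935) Col.gi (nat_lit 5152) Dv.df))
(Tr.lf (Fc.ed (nat_lit 13315) (nat_lit 5152) Col.gi (nat_lit 5014) (Dv.wd (nat_lit 24) [Mv.f (nat_lit 13031), Mv.f (nat_lit 12694), Mv.f (nat_lit 13314)])))))))
(Tr.nd (nat_lit 13321) (Tr.nd (nat_lit 13318) (Tr.nd (nat_lit 13317) (Tr.lf (Fc.ed (nat_lit 13316) (nat_lit 3570) Col.d (nat_lit 5153) Dv.df))
(Tr.lf (Fc.ed (nat_lit 13317) (nat_lit 5153) Col.e (nat_lit 5151) (Dv.wd (nat_lit 131) [Mv.b (nat_lit 13312), Mv.f (nat_lit 7847), Mv.f (nat_lit 8311), Mv.f (nat_lit 8407), Mv.f (nat_lit 8408), Mv.b (nat_lit 8209), Mv.f (nat_lit 6259), Mv.f (nat_lit 5932), Mv.b (nat_lit 9001), Mv.f (nat_lit 13316)]))))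
(Tr.nd (nat_lit 13319) (Tr.lf (Fc.ed (nat_lit 13318) (nat_lit 5023) Col.e (nat_lit 5154) Dv.df))
(Tr.nd (nat_lit 13320) (Tr.lf (Fc.ed (nat_lit 13319) (nat_lit 2780) Col.a (nat_lit 5155) Dv.df))
(Tr.lf (Fc.ed (nat_lit 13320) (nat_lit 5155) Col.f (nat_lit 4962) (Dv.wd (nat_lit 35) [Mv.b (nat_lit 12883), Mv.b (nat_lit 7997), Mv.f (nat_lit 13319)]))))))
(Tr.nd (nat_lit 13323) (Tr.nd (nat_lit 13322) (Tr.lf (Fc.ed (nat_lit 13321) (nat_lit 4667) Col.b (nat_lit 5156) Dv.df))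
(Tr.lf (Fc.ed (nat_lit 13322) (nat_lit 5156) Col.e (nat_lit 3914) (Dv.wd (nat_lit 52) [Mv.f (nat_lit 11951), Mv.f (nat_lit 12168), Mv.f (nat_lit 13321)]))))
(Tr.nd (nat_lit 13324) (Tr.lf (Fc.ed (nat_lit 13323) (nat_lit 4920) Col.b (nat_lit 5157) Dv.df))
(Tr.nd (nat_lit 13325) (Tr.lf (Fc.ed (nat_lit 13324) (nat_lit 5157) Col.f (nat_lit 5019) (Dv.wd (nat_lit 20) [Mv.b (nat_lit 13040), Mv.b (nat_lit 12797), Mv.f (nat_lit 13323)])))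
(Tr.lf (Fc.ed (nat_lit 13325) (nat_lit 5157) Col.a (nat_lit 5030) (Dv.wd (nat_lit 98) [Mv.b (nat_lit 13064), Mv.f (nat_lit 4967), Mv.b (nat_lit 8244), Mv.f (nat_lit 12796), Mv.f (nat_lit 13323)]))))))))
(Tr.nd (nat_lit 13336) (Tr.nd (nat_lit 13331) (Tr.nd (nat_lit 13328) (Tr.nd (nat_lit 13327) (Tr.lf (Fc.ed (nat_lit 13326) (nat_lit 4976) Col.a (nat_lit 5019) (Dv.wd (nat_lit 79) [Mv.b (nat_lit 13324), Mv.f (nat_lit 13325), Mv.b (nat_lit 13062)])))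
(Tr.lf (Fc.ed (nat_lit 13327) (nat_lit 3143) Col.a (nat_lit 5158) Dv.df)))
(Tr.nd (nat_lit 13329) (Tr.lf (Fc.ed (nat_lit 13328) (nat_lit 5158) Col.f (nat_lit 3283) (Dv.wd (nat_lit 35) [Mv.f (nat_lit 9893), Mv.f (nat_lit 9894), Mv.f (nat_lit 13327)])))
(Tr.nd (nat_lit 13330) (Tr.lf (Fc.ed (nat_lit 13329) (nat_lit 5039) Col.b (nat_lit 5159) Dv.df))
(Tr.lf (Fc.ed (nat_lit 13330) (nat_lit 5159) Col.d (nat_lit 4217) (Dv.wd (nat_lit 58) [Mv.f (nat_lit 11000), Mv.b (nat_lit 13086), Mv.f (nat_lit 13329)]))))))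
(Tr.nd (nat_lit 13333) (Tr.nd (nat_lit 13332) (Tr.lf (Fc.ed (nat_lit 13331) (nat_lit 5159) Col.f (nat_lit 4392) (Dv.wd (nat_lit 20) [Mv.f (nat_lit 11305), Mv.b (nat_lit 13087), Mv.f (nat_lit 13329)])))
(Tr.lf (Fc.ed (nat_lit 13332) (nat_lit 5159) Col.a (nat_lit 3506) (Dv.wd (nat_lit 98) [Mv.f (nat_lit 8870), Mv.f (nat_lit 5282), Mv.f (nat_lit 8278), Mv.f (nat_lit 13085), Mv.f (nat_lit 13329)]))))
(Tr.nd (nat_lit 13334) (Tr.lf (Fc.ed (nat_lit 13333) (nat_lit 5119) Col.c (nat_lit 5160) Dv.df))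
(Tr.nd (nat_lit 13335) (Tr.lf (Fc.ed (nat_lit 13334) (nat_lit 5160) Col.e (nat_lit 4920) (Dv.wd (nat_lit 25) [Mv.b (nat_lit 13003), Mv.f (nat_lit 13245), Mv.f (nat_lit 13333)])))
(Tr.lf (Fc.ed (nat_lit 13335) (nat_lit 2246) Col.b (nat_lit 5161) Dv.df))))))
(Tr.nd (nat_lit 13341) (Tr.nd (nat_lit 13338) (Tr.nd (nat_lit 13337) (Tr.lf (Fc.ed (nat_lit 13336) (nat_lit 4920) Col.gi (nat_lit 5162) Dv.df))
(Tr.lf (Fc.ed (nat_lit 13337) (nat_lit 5162) Col.gi (nat_lit 1739) (Dv.wd (nat_lit 24) [Mv.b (nat_lit 8243), Mv.f (nat_lit 12796), Mv.f (nat_lit 13336)]))))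
(Tr.nd (nat_lit 13339) (Tr.lf (Fc.ed (nat_lit 13338) (nat_lit 2483) Col.g (nat_lit 5163) Dv.df))
(Tr.nd (nat_lit 13340) (Tr.lf (Fc.ed (nat_lit 13339) (nat_lit 5163) Col.g (nat_lit 4517) (Dv.wd (nat_lit 9) [Mv.b (nat_lit 11525), Mv.b (nat_lit 6689), Mv.f (nat_lit 13338)])))
(Tr.lf (Fc.ed (nat_lit 13340) (nat_lit 4432) Col.c (nat_lit 5164) Dv.df)))))
(Tr.nd (nat_lit 13344) (Tr.nd (nat_lit 13342) (Tr.lf (Fc.ed (nat_lit 13341) (nat_lit 5164) Col.f (nat_lit 3825) (Dv.wd (nat_lit 26) [Mv.f (nat_lit 9475), Mv.f (nat_lit 11384), Mv.f (nat_lit 13340)])))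
(Tr.nd (nat_lit 13343) (Tr.lf (Fc.ed (nat_lit 13342) (nat_lit 4790) Col.g (nat_lit 5165) Dv.df))
(Tr.lf (Fc.ed (nat_lit 13343) (nat_lit 3306) Col.d (nat_lit 5166) Dv.df))))
(Tr.nd (nat_lit 13345) (Tr.lf (Fc.ed (nat_lit 13344) (nat_lit 5166) Col.f (nat_lit 3512) (Dv.wd (nat_lit 11) [Mv.f (nat_lit 8882), Mv.f (nat_lit 8466), Mv.f (nat_lit 13343)])))
(Tr.nd (nat_lit 13346) (Tr.lf (Fc.ed (nat_lit 13345) (nat_lit 5041) Col.gi (nat_lit 5167) Dv.df))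
(Tr.lf (Fc.ed (nat_lit 13346) (nat_lit 5030) Col.e (nat_lit 5168) Dv.df))))))))
(Tr.nd (nat_lit 13367) (Tr.nd (nat_lit 13357) (Tr.nd (nat_lit 13352) (Tr.nd (nat_lit 13349) (Tr.nd (nat_lit 13348) (Tr.lf (Fc.ed (nat_lit 13347) (nat_lit 4764) Col.gi (nat_lit 5169) Dv.df))
(Tr.lf (Fc.ed (nat_lit 13348) (nat_lit 3120) Col.a (nat_lit 5170) Dv.df)))
(Tr.nd (nat_lit 13350) (Tr.lf (Fc.ed (nat_lit 13349) (nat_lit 5170) Col.d (nat_lit 4918) (Dv.wd (nat_lit 28) [Mv.f (nat_lit 12792), Mv.b (nat_lit 8104), Mv.f (nat_lit 13348)])))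
(Tr.nd (nat_lit 13351) (Tr.lf (Fc.ed (nat_lit 13350) (nat_lit 5170) Col.f (nat_lit 3328) (Dv.wd (nat_lit 35) [Mv.b (nat_lit 8705), Mv.b (nat_lit 8704), Mv.f (nat_lit 13348)])))
(Tr.lf (Fc.ed (nat_lit 13351) (nat_lit 3713) Col.d (nat_lit 5171) Dv.df)))))
(Tr.nd (nat_lit 13354) (Tr.nd (nat_lit 13353) (Tr.lf (Fc.ed (nat_lit 13352) (nat_lit 5171) Col.f (nat_lit 3868) (Dv.wd (nat_lit 11) [Mv.b (nat_lit 9546), Mv.f (nat_lit 9268), Mv.f (nat_lit 13351)])))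
(Tr.lf (Fc.ed (nat_lit 13353) (nat_lit 4799) Col.a (nat_lit 5171) (Dv.wd (nat_lit 79) [Mv.f (nat_lit 13352), Mv.f (nat_lit 10620), Mv.f (nat_lit 12559)]))))
(Tr.nd (nat_lit 13355) (Tr.lf (Fc.ed (nat_lit 13354) (nat_lit 3046) Col.d (nat_lit 4799) (Dv.wd (nat_lit 97) [Mv.f (nat_lit 13353), Mv.b (nat_lit 13351), Mv.f (nat_lit 9269)])))
(Tr.nd (nat_lit 13356) (Tr.lf (Fc.ed (nat_lit 13355) (nat_lit 3275) Col.a (nat_lit 5172) Dv.df))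
(Tr.lf (Fc.ed (nat_lit 13356) (nat_lit 5172) Col.f (nat_lit 5070) (Dv.wd (nat_lit 10) [Mv.f (nat_lit 13152), Mv.f (nat_lit 8402), Mv.f (nat_lit 13355)])))))))
(Tr.nd (nat_lit 13362) (Tr.nd (nat_lit 13359) (Tr.nd (nat_lit 13358) (Tr.lf (Fc.ed (nat_lit 13357) (nat_lit 4987) Col.f (nat_lit 5173) Dv.df))
(Tr.lf (Fc.ed (nat_lit 13358) (nat_lit 5173) Col.b (nat_lit 2723) (Dv.wd (nat_lit 66) [Mv.f (nat_lit 7235), Mv.b (nat_lit 12933), Mv.f (nat_lit 13357)]))))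
(Tr.nd (nat_lit 13360) (Tr.lf (Fc.ed (nat_lit 13359) (nat_lit 5026) Col.b (nat_lit 5174) Dv.df))
(Tr.nd (nat_lit 13361) (Tr.lf (Fc.ed (nat_lit 13360) (nat_lit 5174) Col.d (nat_lit 3079) (Dv.wd (nat_lit 58) [Mv.f (nat_lit 8223), Mv.f (nat_lit 13054), Mv.f (nat_lit 13359)])))
(Tr.lf (Fc.ed (nat_lit 13361) (nat_lit 2350) Col.c (nat_lit 5175) Dv.df)))))
(Tr.nd (nat_lit 13364) (Tr.nd (nat_lit 13363) (Tr.lf (Fc.ed (nat_lit 13362) (nat_lit 5175) Col.a (nat_lit 4755) (Dv.wd (nat_lit 19) [Mv.b (nat_lit 12476), Mv.f (nat_lit 7163), Mv.f (nat_lit 13361)])))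
(Tr.lf (Fc.ed (nat_lit 13363) (nat_lit 2663) Col.b (nat_lit 5176) Dv.df)))
(Tr.nd (nat_lit 13365) (Tr.lf (Fc.ed (nat_lit 13364) (nat_lit 3812) Col.f (nat_lit 5177) Dv.df))
(Tr.nd (nat_lit 13366) (Tr.lf (Fc.ed (nat_lit 13365) (nat_lit 5177) Col.a (nat_lit 4387) (Dv.wd (nat_lit 23) [Mv.b (nat_lit 11296), Mv.f (nat_lit 9449), Mv.f (nat_lit 13364)])))
(Tr.lf (Fc.ed (nat_lit 13366) (nat_lit 3728) Col.d (nat_lit 5178) Dv.df)))))))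
(Tr.nd (nat_lit 13377) (Tr.nd (nat_lit 13372) (Tr.nd (nat_lit 13369) (Tr.nd (nat_lit 13368) (Tr.lf (Fc.ed (nat_lit 13367) (nat_lit 5178) Col.a (nat_lit 4995) (Dv.wd (nat_lit 8) [Mv.f (nat_lit 12994), Mv.b (nat_lit 9301), Mv.f (nat_lit 13366)])))
(Tr.lf (Fc.ed (nat_lit 13368) (nat_lit 3352) Col.a (nat_lit 5179) Dv.df)))
(Tr.nd (nat_lit 13370) (Tr.lf (Fc.ed (nat_lit 13369) (nat_lit 5179) Col.d (nat_lit 4303) (Dv.wd (nat_lit 28) [Mv.b (nat_lit 11068), Mv.b (nat_lit 8564), Mv.f (nat_lit 13368)])))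
(Tr.nd (nat_lit 13371) (Tr.lf (Fc.ed (nat_lit 13370) (nat_lit 5179) Col.e (nat_lit 4875) (Dv.wd (nat_lit 56) [Mv.b (nat_lit 12708), Mv.f (nat_lit 8563), Mv.f (nat_lit 13368)])))
(Tr.lf (Fc.ed (nat_lit 13371) (nat_lit 3356) Col.a (nat_lit 5180) Dv.df)))))
(Tr.nd (nat_lit 13374) (Tr.nd (nat_lit 13373) (Tr.lf (Fc.ed (nat_lit 13372) (nat_lit 5180) Col.f (nat_lit 3178) (Dv.wd (nat_lit 10) [Mv.b (nat_lit 8213), Mv.b (nat_lit 8573), Mv.f (nat_lit 13371)])))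
(Tr.lf (Fc.ed (nat_lit 13373) (nat_lit 4677) Col.f (nat_lit 5181) Dv.df)))
(Tr.nd (nat_lit 13375) (Tr.lf (Fc.ed (nat_lit 13374) (nat_lit 5181) Col.b (nat_lit 2128) (Dv.wd (nat_lit 66) [Mv.f (nat_lit 5911), Mv.f (nat_lit 11829), Mv.f (nat_lit 13373)])))
(Tr.nd (nat_lit 13376) (Tr.lf (Fc.ed (nat_lit 13375) (nat_lit 2537) Col.g (nat_lit 5182) Dv.df))
(Tr.lf (Fc.ed (nat_lit 13376) (nat_lit 2958) Col.a (nat_lit 5183) Dv.df))))))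
(Tr.nd (nat_lit 13382) (Tr.nd (nat_lit 13379) (Tr.nd (nat_lit 13378) (Tr.lf (Fc.ed (nat_lit 13377) (nat_lit 5021) Col.c (nat_lit 5184) Dv.df))
(Tr.lf (Fc.ed (nat_lit 13378) (nat_lit 5184) Col.a (nat_lit 4636) (Dv.wd (nat_lit 19) [Mv.b (nat_lit 11752), Mv.b (nat_lit 13045), Mv.f (nat_lit 13377)]))))
(Tr.nd (nat_lit 13380) (Tr.lf (Fc.ed (nat_lit 13379) (nat_lit 5184) Col.gi (nat_lit 4716) (Dv.wd (nat_lit 78) [Mv.b (nat_lit 11904), Mv.b (nat_lit 12298), Mv.b (nat_lit 12297), Mv.b (nat_lit 10677), Mv.b (nat_lit 3311), Mv.f (nat_lit 5368), Mv.b (nat_lit 10247), Mv.f (nat_lit 13044), Mv.f (nat_lit 13377)])))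
(Tr.nd (nat_lit 13381) (Tr.lf (Fc.ed (nat_lit 13380) (nat_lit 4645) Col.f (nat_lit 5184) (Dv.wd (nat_lit 13) [Mv.f (nat_lit 13378), Mv.f (nat_lit 11761), Mv.f (nat_lit 11766)])))
(Tr.lf (Fc.ed (nat_lit 13381) (nat_lit 4550) Col.c (nat_lit 4645) (Dv.wd (nat_lit 67) [Mv.f (nat_lit 13380), Mv.b (nat_lit 13377), Mv.f (nat_lit 13046)]))))))
(Tr.nd (nat_lit 13385) (Tr.nd (nat_lit 13383) (Tr.lf (Fc.ed (nat_lit 13382) (nat_lit 4719) Col.c (nat_lit 1815) (Dv.wd (nat_lit 81) [Mv.f (nat_lit 9815), Mv.f (nat_lit 10165), Mv.b (nat_lit 5772), Mv.b (nat_lit 4433), Mv.b (nat_lit 5769), Mv.b (nat_lit 9274), Mv.f (nat_lit 11588), Mv.f (nat_lit 13381), Mv.f (nat_lit 11908)])))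
(Tr.nd (nat_lit 13384) (Tr.lf (Fc.ed (nat_lit 13383) (nat_lit 4716) Col.f (nat_lit 4719) (Dv.wd (nat_lit 64) [Mv.f (nat_lit 13382), Mv.b (nat_lit 5261), Mv.f (nat_lit 11904)])))
(Tr.lf (Fc.ed (nat_lit 13384) (nat_lit 4921) Col.b (nat_lit 4719) (Dv.wd (nat_lit 136) [Mv.f (nat_lit 13382), Mv.b (nat_lit 5196), Mv.f (nat_lit 3034), Mv.b (nat_lit 7548), Mv.f (nat_lit 12798)])))))
(Tr.nd (nat_lit 13386) (Tr.lf (Fc.ed (nat_lit 13385) (nat_lit 4745) Col.d (nat_lit 4719) (Dv.wd (nat_lit 147) [Mv.f (nat_lit 13382), Mv.f (nat_lit 5197), Mv.f (nat_lit 3385), Mv.b (nat_lit 3200), Mv.f (nat_lit 3940), Mv.b (nat_lit 10869), Mv.b (nat_lit 11276), Mv.f (nat_lit 11275), Mv.f (nat_lit 12458)])))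
(Tr.nd (nat_lit 13387) (Tr.lf (Fc.ed (nat_lit 13386) (nat_lit 5059) Col.d (nat_lit 4942) (Dv.wd (nat_lit 51) [Mv.b (nat_lit 12843), Mv.f (nat_lit 13385), Mv.f (nat_lit 13382), Mv.f (nat_lit 5197), Mv.f (nat_lit 4807), Mv.b (nat_lit 10182), Mv.b (nat_lit 8991), Mv.f (nat_lit 12653), Mv.f (nat_lit 13125)])))
(Tr.lf (Fc.ed (nat_lit 13387) (nat_lit 4636) Col.g (nat_lit 4719) (Dv.wd (nat_lit 123) [Mv.f (nat_lit 13382), Mv.b (nat_lit 5196), Mv.b (nat_lit 3524), Mv.f (nat_lit 3545), Mv.f (nat_lit 3767), Mv.f (nat_lit 3766), Mv.b (nat_lit 3630), Mv.b (nat_lit 6174), Mv.b (nat_lit 10767), Mv.f (nat_lit 11752)]))))))))))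
(Tr.nd (nat_lit 13429) (Tr.nd (nat_lit 13408) (Tr.nd (nat_lit 13398) (Tr.nd (nat_lit 13393) (Tr.nd (nat_lit 13390) (Tr.nd (nat_lit 13389) (Tr.lf (Fc.ed (nat_lit 13388) (nat_lit 4719) Col.a (nat_lit 4700) (Dv.wd (nat_lit 114) [Mv.b (nat_lit 11873), Mv.b (nat_lit 11761), Mv.f (nat_lit 13387)])))
(Tr.lf (Fc.ed (nat_lit 13389) (nat_lit 4700) Col.c (nat_lit 2003) (Dv.wd (nat_lit 33) [Mv.b (nat_lit 5591), Mv.b (nat_lit 13382), Mv.f (nat_lit 13388)]))))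
(Tr.nd (nat_lit 13391) (Tr.lf (Fc.ed (nat_lit 13390) (nat_lit 4700) Col.gi (nat_lit 5184) (Dv.wd (nat_lit 12) [Mv.f (nat_lit 13379), Mv.f (nat_lit 13383), Mv.f (nat_lit 13388)])))
(Tr.nd (nat_lit 13392) (Tr.lf (Fc.ed (nat_lit 13391) (nat_lit 4646) Col.c (nat_lit 4216) (Dv.wd (nat_lit 164) [Mv.f (nat_lit 10869), Mv.b (nat_lit 3940), Mv.f (nat_lit 3200), Mv.b (nat_lit 3385), Mv.b (nat_lit 5197), Mv.b (nat_lit 13382), Mv.f (nat_lit 13388), Mv.b (nat_lit 11873), Mv.f (nat_lit 11767)])))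
(Tr.lf (Fc.ed (nat_lit 13392) (nat_lit 4376) Col.c (nat_lit 4701) (Dv.wd (nat_lit 67) [Mv.f (nat_lit 11875), Mv.f (nat_lit 13391), Mv.b (nat_lit 11276)]))))))
(Tr.nd (nat_lit 13395) (Tr.nd (nat_lit 13394) (Tr.lf (Fc.ed (nat_lit 13393) (nat_lit 4942) Col.gi (nat_lit 4646) (Dv.wd (nat_lit 50) [Mv.f (nat_lit 13391), Mv.f (nat_lit 10898), Mv.b (nat_lit 12276), Mv.b (nat_lit 8663), Mv.b (nat_lit 12581), Mv.b (nat_lit 13257), Mv.b (nat_lit 13255), Mv.b (nat_lit 13126), Mv.f (nat_lit 13386)])))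
(Tr.lf (Fc.ed (nat_lit 13394) (nat_lit 4645) Col.a (nat_lit 4757) (Dv.wd (nat_lit 23) [Mv.b (nat_lit 12478), Mv.f (nat_lit 13390), Mv.b (nat_lit 13380)]))))
(Tr.nd (nat_lit 13396) (Tr.lf (Fc.ed (nat_lit 13395) (nat_lit 4757) Col.f (nat_lit 4636) (Dv.wd (nat_lit 35) [Mv.b (nat_lit 13378), Mv.b (nat_lit 13380), Mv.f (nat_lit 13394)])))
(Tr.nd (nat_lit 13397) (Tr.lf (Fc.ed (nat_lit 13396) (nat_lit 4942) Col.f (nat_lit 4805) (Dv.wd (nat_lit 11) [Mv.b (nat_lit 12568), Mv.f (nat_lit 13128), Mv.f (nat_lit 13386)])))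
(Tr.lf (Fc.ed (nat_lit 13397) (nat_lit 4880) Col.b (nat_lit 4942) (Dv.wd (nat_lit 107) [Mv.f (nat_lit 13396), Mv.f (nat_lit 12695), Mv.f (nat_lit 12716)])))))))
(Tr.nd (nat_lit 13403) (Tr.nd (nat_lit 13400) (Tr.nd (nat_lit 13399) (Tr.lf (Fc.ed (nat_lit 13398) (nat_lit 3168) Col.c (nat_lit 4880) (Dv.wd (nat_lit 173) [Mv.f (nat_lit 13397), Mv.b (nat_lit 12843), Mv.f (nat_lit 13385), Mv.f (nat_lit 13382), Mv.b (nat_lit 5196), Mv.b (nat_lit 3524), Mv.f (nat_lit 3525), Mv.b (nat_lit 2202), Mv.f (nat_lit 1749), Mv.b (nat_lit 402), Mv.b (nat_lit 395), Mv.b (nat_lit 165), Mv.b (nat_lit 201), Mv.b (nat_lit 492), Mv.f (nat_lit 1444), Mv.f (nat_lit 1413), Mv.b (nat_lit 2893), Mv.b (nat_lit 5102), Mv.f (nat_lit 13274)])))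
(Tr.lf (Fc.ed (nat_lit 13399) (nat_lit 4868) Col.c (nat_lit 4600) (Dv.wd (nat_lit 67) [Mv.b (nat_lit 11685), Mv.f (nat_lit 13398), Mv.b (nat_lit 12716)]))))
(Tr.nd (nat_lit 13401) (Tr.lf (Fc.ed (nat_lit 13400) (nat_lit 4891) Col.gi (nat_lit 5185) Dv.df))
(Tr.nd (nat_lit 13402) (Tr.lf (Fc.ed (nat_lit 13401) (nat_lit 2242) Col.c (nat_lit 5186) Dv.df))
(Tr.lf (Fc.ed (nat_lit 13402) (nat_lit 5186) Col.b (nat_lit 5075) (Dv.wd (nat_lit 87) [Mv.b (nat_lit 13161), Mv.f (nat_lit 7134), Mv.b (nat_lit 6867), Mv.f (nat_lit 11252), Mv.f (nat_lit 13401)]))))))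
(Tr.nd (nat_lit 13405) (Tr.nd (nat_lit 13404) (Tr.lf (Fc.ed (nat_lit 13403) (nat_lit 5181) Col.gi (nat_lit 5186) (Dv.wd (nat_lit 100) [Mv.f (nat_lit 13402), Mv.b (nat_lit 13161), Mv.f (nat_lit 8936), Mv.b (nat_lit 8933), Mv.b (nat_lit 4529), Mv.f (nat_lit 1725), Mv.b (nat_lit 1110), Mv.f (nat_lit 1881), Mv.f (nat_lit 5910), Mv.b (nat_lit 13374)])))
(Tr.lf (Fc.ed (nat_lit 13404) (nat_lit 3337) Col.a (nat_lit 5187) Dv.df)))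
(Tr.nd (nat_lit 13406) (Tr.lf (Fc.ed (nat_lit 13405) (nat_lit 5187) Col.f (nat_lit 3419) (Dv.wd (nat_lit 35) [Mv.b (nat_lit 8702), Mv.b (nat_lit 8532), Mv.f (nat_lit 13404)])))
(Tr.nd (nat_lit 13407) (Tr.lf (Fc.ed (nat_lit 13406) (nat_lit 3034) Col.a (nat_lit 5188) Dv.df))
(Tr.lf (Fc.ed (nat_lit 13407) (nat_lit 5188) Col.d (nat_lit 4542) (Dv.wd (nat_lit 28) [Mv.b (nat_lit 11574), Mv.f (nat_lit 7896), Mv.f (nat_lit 13406)]))))))))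
(Tr.nd (nat_lit 13418) (Tr.nd (nat_lit 13413) (Tr.nd (nat_lit 13410) (Tr.nd (nat_lit 13409) (Tr.lf (Fc.ed (nat_lit 13408) (nat_lit 3205) Col.d (nat_lit 5189) Dv.df))
(Tr.lf (Fc.ed (nat_lit 13409) (nat_lit 5189) Col.f (nat_lit 5188) (Dv.wd (nat_lit 11) [Mv.f (nat_lit 13407), Mv.f (nat_lit 11575), Mv.f (nat_lit 13408)]))))
(Tr.nd (nat_lit 13411) (Tr.lf (Fc.ed (nat_lit 13410) (nat_lit 5189) Col.g (nat_lit 5123) (Dv.wd (nat_lit 55) [Mv.b (nat_lit 13252), Mv.b (nat_lit 13248), Mv.b (nat_lit 4887), Mv.b (nat_lit 4207), Mv.f (nat_lit 2170), Mv.f (nat_lit 1610), Mv.f (nat_lit 2350), Mv.f (nat_lit 4746), Mv.f (nat_lit 8271), Mv.f (nat_lit 13408)])))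
(Tr.nd (nat_lit 13412) (Tr.lf (Fc.ed (nat_lit 13411) (nat_lit 5123) Col.g (nat_lit 3034) (Dv.wd (nat_lit 9) [Mv.f (nat_lit 13406), Mv.b (nat_lit 13409), Mv.f (nat_lit 13410)])))
(Tr.lf (Fc.ed (nat_lit 13412) (nat_lit 4115) Col.b (nat_lit 5190) Dv.df)))))
(Tr.nd (nat_lit 13415) (Tr.nd (nat_lit 13414) (Tr.lf (Fc.ed (nat_lit 13413) (nat_lit 4195) Col.c (nat_lit 5191) Dv.df))
(Tr.lf (Fc.ed (nat_lit 13414) (nat_lit 4354) Col.a (nat_lit 5192) Dv.df)))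
(Tr.nd (nat_lit 13416) (Tr.lf (Fc.ed (nat_lit 13415) (nat_lit 4367) Col.g (nat_lit 5193) Dv.df))
(Tr.nd (nat_lit 13417) (Tr.lf (Fc.ed (nat_lit 13416) (nat_lit 5193) Col.g (nat_lit 2546) (Dv.wd (nat_lit 9) [Mv.f (nat_lit 7978), Mv.b (nat_lit 11260), Mv.f (nat_lit 13415)])))
(Tr.lf (Fc.ed (nat_lit 13417) (nat_lit 4462) Col.e (nat_lit 5194) Dv.df))))))
(Tr.nd (nat_lit 13423) (Tr.nd (nat_lit 13420) (Tr.nd (nat_lit 13419) (Tr.lf (Fc.ed (nat_lit 13418) (nat_lit 5194) Col.b (nat_lit 2830) (Dv.wd (nat_lit 49) [Mv.f (nat_lit 10115), Mv.b (nat_lit 11435), Mv.f (nat_lit 13417)])))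
(Tr.lf (Fc.ed (nat_lit 13419) (nat_lit 5137) Col.c (nat_lit 5195) Dv.df)))
(Tr.nd (nat_lit 13421) (Tr.lf (Fc.ed (nat_lit 13420) (nat_lit 5195) Col.b (nat_lit 4331) (Dv.wd (nat_lit 101) [Mv.b (nat_lit 11120), Mv.f (nat_lit 6510), Mv.b (nat_lit 5994), Mv.f (nat_lit 6703), Mv.f (nat_lit 6705), Mv.f (nat_lit 5306), Mv.b (nat_lit 5815), Mv.f (nat_lit 8308), Mv.b (nat_lit 13289), Mv.f (nat_lit 13419)])))
(Tr.nd (nat_lit 13422) (Tr.lf (Fc.ed (nat_lit 13421) (nat_lit 5141) Col.g (nat_lit 5196) Dv.df))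
(Tr.lf (Fc.ed (nat_lit 13422) (nat_lit 5196) Col.c (nat_lit 2647) (Dv.wd (nat_lit 83) [Mv.f (nat_lit 10452), Mv.f (nat_lit 10491), Mv.f (nat_lit 10495), Mv.f (nat_lit 10247), Mv.b (nat_lit 5368), Mv.b (nat_lit 3882), Mv.b (nat_lit 8990), Mv.f (nat_lit 13294), Mv.f (nat_lit 13421)]))))))
(Tr.nd (nat_lit 13426) (Tr.nd (nat_lit 13424) (Tr.lf (Fc.ed (nat_lit 13423) (nat_lit 3306) Col.gi (nat_lit 5197) Dv.df))
(Tr.nd (nat_lit 13425) (Tr.lf (Fc.ed (nat_lit 13424) (nat_lit 5138) Col.d (nat_lit 5198) Dv.df))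
(Tr.lf (Fc.ed (nat_lit 13425) (nat_lit 2805) Col.g (nat_lit 5199) Dv.df))))
(Tr.nd (nat_lit 13427) (Tr.lf (Fc.ed (nat_lit 13426) (nat_lit 5199) Col.g (nat_lit 4753) (Dv.wd (nat_lit 9) [Mv.b (nat_lit 12472), Mv.f (nat_lit 8377), Mv.f (nat_lit 13425)])))
(Tr.nd (nat_lit 13428) (Tr.lf (Fc.ed (nat_lit 13427) (nat_lit 4263) Col.gi (nat_lit 5200) Dv.df))
(Tr.lf (Fc.ed (nat_lit 13428) (nat_lit 4991) Col.e (nat_lit 5201) Dv.df))))))))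
(Tr.nd (nat_lit 13449) (Tr.nd (nat_lit 13439) (Tr.nd (nat_lit 13434) (Tr.nd (nat_lit 13431) (Tr.nd (nat_lit 13430) (Tr.lf (Fc.ed (nat_lit 13429) (nat_lit 5201) Col.d (nat_lit 3278) (Dv.wd (nat_lit 91) [Mv.b (nat_lit 8409), Mv.b (nat_lit 4509), Mv.b (nat_lit 4265), Mv.b (nat_lit 3025), Mv.f (nat_lit 2929), Mv.f (nat_lit 1334), Mv.b (nat_lit 2089), Mv.f (nat_lit 4591), Mv.f (nat_lit 12989), Mv.f (nat_lit 13428)])))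
(Tr.lf (Fc.ed (nat_lit 13430) (nat_lit 2482) Col.gi (nat_lit 4991) (Dv.wd (nat_lit 163) [Mv.f (nat_lit 13428), Mv.f (nat_lit 13429), Mv.f (nat_lit 8410), Mv.f (nat_lit 7467), Mv.b (nat_lit 7468), Mv.b (nat_lit 7590), Mv.b (nat_lit 8348), Mv.b (nat_lit 8347), Mv.f (nat_lit 7882), Mv.b (nat_lit 7207)]))))
(Tr.nd (nat_lit 13432) (Tr.lf (Fc.ed (nat_lit 13431) (nat_lit 4597) Col.f (nat_lit 5201) (Dv.wd (nat_lit 86) [Mv.f (nat_lit 13429), Mv.b (nat_lit 9083), Mv.f (nat_lit 11680)])))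
(Tr.nd (nat_lit 13433) (Tr.lf (Fc.ed (nat_lit 13432) (nat_lit 4399) Col.g (nat_lit 5202) Dv.df))
(Tr.lf (Fc.ed (nat_lit 13433) (nat_lit 5202) Col.g (nat_lit 2599) (Dv.wd (nat_lit 9) [Mv.f (nat_lit 10886), Mv.b (nat_lit 11319), Mv.f (nat_lit 13432)]))))))
(Tr.nd (nat_lit 13436) (Tr.nd (nat_lit 13435) (Tr.lf (Fc.ed (nat_lit 13434) (nat_lit 4915) Col.f (nat_lit 5203) Dv.df))
(Tr.lf (Fc.ed (nat_lit 13435) (nat_lit 5203) Col.d (nat_lit 3176) (Dv.wd (nat_lit 21) [Mv.b (nat_lit 10826), Mv.b (nat_lit 12786), Mv.f (nat_lit 13434)]))))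
(Tr.nd (nat_lit 13437) (Tr.lf (Fc.ed (nat_lit 13436) (nat_lit 3171) Col.d (nat_lit 5204) Dv.df))
(Tr.nd (nat_lit 13438) (Tr.lf (Fc.ed (nat_lit 13437) (nat_lit 5204) Col.f (nat_lit 3267) (Dv.wd (nat_lit 11) [Mv.f (nat_lit 8388), Mv.f (nat_lit 8199), Mv.f (nat_lit 13436)])))
(Tr.lf (Fc.ed (nat_lit 13438) (nat_lit 4178) Col.g (nat_lit 5205) Dv.df))))))
(Tr.nd (nat_lit 13444) (Tr.nd (nat_lit 13441) (Tr.nd (nat_lit 13440) (Tr.lf (Fc.ed (nat_lit 13439) (nat_lit 5174) Col.c (nat_lit 5206) Dv.df))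
(Tr.lf (Fc.ed (nat_lit 13440) (nat_lit 5206) Col.b (nat_lit 4698) (Dv.wd (nat_lit 174) [Mv.b (nat_lit 11869), Mv.f (nat_lit 11825), Mv.b (nat_lit 5806), Mv.f (nat_lit 2855), Mv.f (nat_lit 760), Mv.f (nat_lit 736), Mv.b (nat_lit 576), Mv.f (nat_lit 1624), Mv.b (nat_lit 140), Mv.b (nat_lit 119), Mv.f (nat_lit 165), Mv.b (nat_lit 662), Mv.f (nat_lit 1259), Mv.b (nat_lit 1257), Mv.f (nat_lit 2260), Mv.f (nat_lit 5302), Mv.b (nat_lit 8006), Mv.b (nat_lit 13360), Mv.f (nat_lit 13439)]))))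
(Tr.nd (nat_lit 13442) (Tr.lf (Fc.ed (nat_lit 13441) (nat_lit 4378) Col.b (nat_lit 5207) Dv.df))
(Tr.nd (nat_lit 13443) (Tr.lf (Fc.ed (nat_lit 13442) (nat_lit 5207) Col.d (nat_lit 5195) (Dv.wd (nat_lit 58) [Mv.f (nat_lit 13420), Mv.f (nat_lit 11282), Mv.f (nat_lit 13441)])))
(Tr.lf (Fc.ed (nat_lit 13443) (nat_lit 5207) Col.e (nat_lit 4560) (Dv.wd (nat_lit 52) [Mv.b (nat_lit 11610), Mv.b (nat_lit 11283), Mv.f (nat_lit 13441)]))))))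
(Tr.nd (nat_lit 13446) (Tr.nd (nat_lit 13445) (Tr.lf (Fc.ed (nat_lit 13444) (nat_lit 4514) Col.e (nat_lit 5208) Dv.df))
(Tr.lf (Fc.ed (nat_lit 13445) (nat_lit 5208) Col.a (nat_lit 4310) (Dv.wd (nat_lit 15) [Mv.b (nat_lit 11082), Mv.f (nat_lit 11521), Mv.f (nat_lit 13444)]))))
(Tr.nd (nat_lit 13447) (Tr.lf (Fc.ed (nat_lit 13446) (nat_lit 3226) Col.g (nat_lit 5209) Dv.df))
(Tr.nd (nat_lit 13448) (Tr.lf (Fc.ed (nat_lit 13447) (nat_lit 5209) Col.g (nat_lit 4614) (Dv.wd (nat_lit 9) [Mv.f (nat_lit 11708), Mv.f (nat_lit 11285), Mv.f (nat_lit 13446)])))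
(Tr.lf (Fc.ed (nat_lit 13448) (nat_lit 2377) Col.c (nat_lit 5210) Dv.df)))))))
(Tr.nd (nat_lit 13459) (Tr.nd (nat_lit 13454) (Tr.nd (nat_lit 13451) (Tr.nd (nat_lit 13450) (Tr.lf (Fc.ed (nat_lit 13449) (nat_lit 5210) Col.f (nat_lit 4850) (Dv.wd (nat_lit 26) [Mv.b (nat_lit 12658), Mv.f (nat_lit 8298), Mv.f (nat_lit 13448)])))
(Tr.lf (Fc.ed (nat_lit 13450) (nat_lit 3818) Col.f (nat_lit 5211) Dv.df)))
(Tr.nd (nat_lit 13452) (Tr.lf (Fc.ed (nat_lit 13451) (nat_lit 5211) Col.d (nat_lit 3346) (Dv.wd (nat_lit 21) [Mv.b (nat_lit 10390), Mv.f (nat_lit 9462), Mv.f (nat_lit 13450)])))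
(Tr.nd (nat_lit 13453) (Tr.lf (Fc.ed (nat_lit 13452) (nat_lit 3278) Col.a (nat_lit 5212) Dv.df))
(Tr.lf (Fc.ed (nat_lit 13453) (nat_lit 5212) Col.f (nat_lit 2884) (Dv.wd (nat_lit 35) [Mv.f (nat_lit 9082), Mv.f (nat_lit 9083), Mv.f (nat_lit 13452)]))))))
(Tr.nd (nat_lit 13456) (Tr.nd (nat_lit 13455) (Tr.lf (Fc.ed (nat_lit 13454) (nat_lit 3856) Col.c (nat_lit 5213) Dv.df))
(Tr.lf (Fc.ed (nat_lit 13455) (nat_lit 3353) Col.f (nat_lit 5214) Dv.df)))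
(Tr.nd (nat_lit 13457) (Tr.lf (Fc.ed (nat_lit 13456) (nat_lit 3618) Col.e (nat_lit 5215) Dv.df))
(Tr.nd (nat_lit 13458) (Tr.lf (Fc.ed (nat_lit 13457) (nat_lit 5215) Col.a (nat_lit 3247) (Dv.wd (nat_lit 15) [Mv.f (nat_lit 8348), Mv.f (nat_lit 9082), Mv.f (nat_lit 13456)])))
(Tr.lf (Fc.ed (nat_lit 13458) (nat_lit 4332) Col.d (nat_lit 5215) (Dv.wd (nat_lit 97) [Mv.f (nat_lit 13457), Mv.b (nat_lit 8347), Mv.f (nat_lit 11121)])))))))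
(Tr.nd (nat_lit 13464) (Tr.nd (nat_lit 13461) (Tr.nd (nat_lit 13460) (Tr.lf (Fc.ed (nat_lit 13459) (nat_lit 4974) Col.b (nat_lit 5216) Dv.df))
(Tr.lf (Fc.ed (nat_lit 13460) (nat_lit 4497) Col.d (nat_lit 5217) Dv.df)))
(Tr.nd (nat_lit 13462) (Tr.lf (Fc.ed (nat_lit 13461) (nat_lit 5217) Col.a (nat_lit 3448) (Dv.wd (nat_lit 8) [Mv.f (nat_lit 8761), Mv.b (nat_lit 11494), Mv.f (nat_lit 13460)])))
(Tr.nd (nat_lit 13463) (Tr.lf (Fc.ed (nat_lit 13462) (nat_lit 3387) Col.d (nat_lit 5218) Dv.df))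
(Tr.lf (Fc.ed (nat_lit 13463) (nat_lit 5218) Col.a (nat_lit 4212) (Dv.wd (nat_lit 8) [Mv.f (nat_lit 10861), Mv.f (nat_lit 8994), Mv.f (nat_lit 13462)]))))))
(Tr.nd (nat_lit 13467) (Tr.nd (nat_lit 13465) (Tr.lf (Fc.ed (nat_lit 13464) (nat_lit 3272) Col.a (nat_lit 5219) Dv.df))
(Tr.nd (nat_lit 13466) (Tr.lf (Fc.ed (nat_lit 13465) (nat_lit 5219) Col.f (nat_lit 3106) (Dv.wd (nat_lit 10) [Mv.b (nat_lit 8069), Mv.f (nat_lit 8396), Mv.f (nat_lit 13464)])))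
(Tr.lf (Fc.ed (nat_lit 13466) (nat_lit 3960) Col.a (nat_lit 5220) Dv.df))))
(Tr.nd (nat_lit 13468) (Tr.lf (Fc.ed (nat_lit 13467) (nat_lit 5220) Col.f (nat_lit 5023) (Dv.wd (nat_lit 10) [Mv.f (nat_lit 13050), Mv.b (nat_lit 9740), Mv.f (nat_lit 13466)])))
(Tr.nd (nat_lit 13469) (Tr.lf (Fc.ed (nat_lit 13468) (nat_lit 2259) Col.e (nat_lit 5221) Dv.df))
(Tr.lf (Fc.ed (nat_lit 13469) (nat_lit 2258) Col.e (nat_lit 5222) Dv.df)))))))))))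
(Tr.nd (nat_lit 13634) (Tr.nd (nat_lit 13552) (Tr.nd (nat_lit 13511) (Tr.nd (nat_lit 13490) (Tr.nd (nat_lit 13480) (Tr.nd (nat_lit 13475) (Tr.nd (nat_lit 13472) (Tr.nd (nat_lit 13471) (Tr.lf (Fc.ed (nat_lit 13470) (nat_lit 5222) Col.a (nat_lit 5222) (Dv.wd (nat_lit 15) [Mv.b (nat_lit 13469), Mv.f (nat_lit 6191), Mv.f (nat_lit 13469)])))
(Tr.lf (Fc.ed (nat_lit 13471) (nat_lit 5222) Col.b (nat_lit 4440) (Dv.wd (nat_lit 49) [Mv.b (nat_lit 11398), Mv.b (nat_lit 6192), Mv.f (nat_lit 13469)]))))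
(Tr.nd (nat_lit 13473) (Tr.lf (Fc.ed (nat_lit 13472) (nat_lit 5222) Col.d (nat_lit 5222) (Dv.wd (nat_lit 59) [Mv.b (nat_lit 13469), Mv.b (nat_lit 6190), Mv.f (nat_lit 4370), Mv.f (nat_lit 6190), Mv.f (nat_lit 13469)])))
(Tr.nd (nat_lit 13474) (Tr.lf (Fc.ed (nat_lit 13473) (nat_lit 3231) Col.e (nat_lit 5223) Dv.df))
(Tr.lf (Fc.ed (nat_lit 13474) (nat_lit 5223) Col.a (nat_lit 5065) (Dv.wd (nat_lit 15) [Mv.f (nat_lit 13140), Mv.b (nat_lit 9758), Mv.f (nat_lit 13473)]))))))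
(Tr.nd (nat_lit 13477) (Tr.nd (nat_lit 13476) (Tr.lf (Fc.ed (nat_lit 13475) (nat_lit 5106) Col.d (nat_lit 5224) Dv.df))
(Tr.lf (Fc.ed (nat_lit 13476) (nat_lit 5224) Col.e (nat_lit 3844) (Dv.wd (nat_lit 74) [Mv.f (nat_lit 9507), Mv.b (nat_lit 5948), Mv.b (nat_lit 3499), Mv.f (nat_lit 3455), Mv.b (nat_lit 3190), Mv.b (nat_lit 3449), Mv.f (nat_lit 6337), Mv.b (nat_lit 9119), Mv.b (nat_lit 13219), Mv.f (nat_lit 13475)]))))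
(Tr.nd (nat_lit 13478) (Tr.lf (Fc.ed (nat_lit 13477) (nat_lit 2626) Col.e (nat_lit 5225) Dv.df))
(Tr.nd (nat_lit 13479) (Tr.lf (Fc.ed (nat_lit 13478) (nat_lit 4899) Col.b (nat_lit 5226) Dv.df))
(Tr.lf (Fc.ed (nat_lit 13479) (nat_lit 5226) Col.c (nat_lit 1946) (Dv.wd (nat_lit 135) [Mv.f (nat_lit 5468), Mv.b (nat_lit 3331), Mv.b (nat_lit 3330), Mv.b (nat_lit 4191), Mv.f (nat_lit 6867), Mv.f (nat_lit 11166), Mv.b (nat_lit 11162), Mv.f (nat_lit 12475), Mv.f (nat_lit 12754), Mv.f (nat_lit 13478)])))))))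
(Tr.nd (nat_lit 13485) (Tr.nd (nat_lit 13482) (Tr.nd (nat_lit 13481) (Tr.lf (Fc.ed (nat_lit 13480) (nat_lit 4904) Col.b (nat_lit 5227) Dv.df))
(Tr.lf (Fc.ed (nat_lit 13481) (nat_lit 5227) Col.d (nat_lit 3820) (Dv.wd (nat_lit 58) [Mv.b (nat_lit 9465), Mv.f (nat_lit 12950), Mv.f (nat_lit 13480)]))))
(Tr.nd (nat_lit 13483) (Tr.lf (Fc.ed (nat_lit 13482) (nat_lit 5110) Col.a (nat_lit 5228) Dv.df))
(Tr.nd (nat_lit 13484) (Tr.lf (Fc.ed (nat_lit 13483) (nat_lit 5228) Col.e (nat_lit 1758) (Dv.wd (nat_lit 56) [Mv.b (nat_lit 5087), Mv.f (nat_lit 13230), Mv.f (nat_lit 13482)])))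
(Tr.lf (Fc.ed (nat_lit 13484) (nat_lit 5228) Col.d (nat_lit 5228) (Dv.wd (nat_lit 99) [Mv.f (nat_lit 13483), Mv.b (nat_lit 5083), Mv.f (nat_lit 4774), Mv.f (nat_lit 5083), Mv.b (nat_lit 13483)]))))))
(Tr.nd (nat_lit 13487) (Tr.nd (nat_lit 13486) (Tr.lf (Fc.ed (nat_lit 13485) (nat_lit 5110) Col.d (nat_lit 5110) (Dv.wd (nat_lit 28) [Mv.f (nat_lit 13482), Mv.f (nat_lit 13484), Mv.b (nat_lit 13482)])))
(Tr.lf (Fc.ed (nat_lit 13486) (nat_lit 4800) Col.d (nat_lit 4800) (Dv.wd (nat_lit 90) [Mv.b (nat_lit 13231), Mv.f (nat_lit 13485), Mv.f (nat_lit 13231)]))))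
(Tr.nd (nat_lit 13488) (Tr.lf (Fc.ed (nat_lit 13487) (nat_lit 3399) Col.gi (nat_lit 5229) Dv.df))
(Tr.nd (nat_lit 13489) (Tr.lf (Fc.ed (nat_lit 13488) (nat_lit 5229) Col.gi (nat_lit 2934) (Dv.wd (nat_lit 24) [Mv.b (nat_lit 7693), Mv.f (nat_lit 8660), Mv.f (nat_lit 13487)])))
(Tr.lf (Fc.ed (nat_lit 13489) (nat_lit 3955) Col.a (nat_lit 5230) Dv.df)))))))
(Tr.nd (nat_lit 13500) (Tr.nd (nat_lit 13495) (Tr.nd (nat_lit 13492) (Tr.nd (nat_lit 13491) (Tr.lf (Fc.ed (nat_lit 13490) (nat_lit 5230) Col.d (nat_lit 4545) (Dv.wd (nat_lit 28) [Mv.f (nat_lit 11581), Mv.f (nat_lit 9731), Mv.f (nat_lit 13489)])))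
(Tr.lf (Fc.ed (nat_lit 13491) (nat_lit 5230) Col.f (nat_lit 5218) (Dv.wd (nat_lit 35) [Mv.f (nat_lit 13463), Mv.b (nat_lit 10860), Mv.f (nat_lit 13489)]))))
(Tr.nd (nat_lit 13493) (Tr.lf (Fc.ed (nat_lit 13492) (nat_lit 4094) Col.c (nat_lit 5231) Dv.df))
(Tr.nd (nat_lit 13494) (Tr.lf (Fc.ed (nat_lit 13493) (nat_lit 4156) Col.gi (nat_lit 5232) Dv.df))
(Tr.lf (Fc.ed (nat_lit 13494) (nat_lit 4962) Col.gi (nat_lit 5233) Dv.df)))))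
(Tr.nd (nat_lit 13497) (Tr.nd (nat_lit 13496) (Tr.lf (Fc.ed (nat_lit 13495) (nat_lit 5233) Col.gi (nat_lit 2780) (Dv.wd (nat_lit 24) [Mv.f (nat_lit 7997), Mv.f (nat_lit 12883), Mv.f (nat_lit 13494)])))
(Tr.lf (Fc.ed (nat_lit 13496) (nat_lit 2222) Col.c (nat_lit 5234) Dv.df)))
(Tr.nd (nat_lit 13498) (Tr.lf (Fc.ed (nat_lit 13497) (nat_lit 4810) Col.a (nat_lit 5235) Dv.df))
(Tr.nd (nat_lit 13499) (Tr.lf (Fc.ed (nat_lit 13498) (nat_lit 5235) Col.c (nat_lit 5019) (Dv.wd (nat_lit 33) [Mv.b (nat_lit 13326), Mv.b (nat_lit 12905), Mv.f (nat_lit 13497)])))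
(Tr.lf (Fc.ed (nat_lit 13499) (nat_lit 3137) Col.gi (nat_lit 5236) Dv.df))))))
(Tr.nd (nat_lit 13505) (Tr.nd (nat_lit 13502) (Tr.nd (nat_lit 13501) (Tr.lf (Fc.ed (nat_lit 13500) (nat_lit 5236) Col.gi (nat_lit 2563) (Dv.wd (nat_lit 24) [Mv.f (nat_lit 8902), Mv.f (nat_lit 8903), Mv.f (nat_lit 13499)])))
(Tr.lf (Fc.ed (nat_lit 13501) (nat_lit 5211) Col.a (nat_lit 5237) Dv.df)))
(Tr.nd (nat_lit 13503) (Tr.lf (Fc.ed (nat_lit 13502) (nat_lit 5237) Col.d (nat_lit 3159) (Dv.wd (nat_lit 28) [Mv.b (nat_lit 10391), Mv.b (nat_lit 13451), Mv.f (nat_lit 13501)])))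
(Tr.nd (nat_lit 13504) (Tr.lf (Fc.ed (nat_lit 13503) (nat_lit 5237) Col.f (nat_lit 4063) (Dv.wd (nat_lit 35) [Mv.f (nat_lit 10083), Mv.f (nat_lit 13450), Mv.f (nat_lit 13501)])))
(Tr.lf (Fc.ed (nat_lit 13504) (nat_lit 3026) Col.e (nat_lit 5238) Dv.df)))))
(Tr.nd (nat_lit 13508) (Tr.nd (nat_lit 13506) (Tr.lf (Fc.ed (nat_lit 13505) (nat_lit 5238) Col.d (nat_lit 4909) (Dv.wd (nat_lit 59) [Mv.b (nat_lit 12772), Mv.f (nat_lit 11802), Mv.b (nat_lit 8348), Mv.b (nat_lit 8347), Mv.f (nat_lit 13504)])))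
(Tr.nd (nat_lit 13507) (Tr.lf (Fc.ed (nat_lit 13506) (nat_lit 4696) Col.g (nat_lit 5118) (Dv.wd (nat_lit 75) [Mv.b (nat_lit 13244), Mv.b (nat_lit 13430), Mv.f (nat_lit 7207), Mv.f (nat_lit 7205), Mv.b (nat_lit 7882), Mv.f (nat_lit 13504), Mv.f (nat_lit 13505), Mv.f (nat_lit 12773), Mv.b (nat_lit 7915), Mv.f (nat_lit 11865)])))
(Tr.lf (Fc.ed (nat_lit 13507) (nat_lit 4201) Col.b (nat_lit 5239) Dv.df))))
(Tr.nd (nat_lit 13509) (Tr.lf (Fc.ed (nat_lit 13508) (nat_lit 5239) Col.e (nat_lit 3386) (Dv.wd (nat_lit 52) [Mv.f (nat_lit 8634), Mv.f (nat_lit 10839), Mv.f (nat_lit 13507)])))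
(Tr.nd (nat_lit 13510) (Tr.lf (Fc.ed (nat_lit 13509) (nat_lit 3519) Col.f (nat_lit 5240) Dv.df))
(Tr.lf (Fc.ed (nat_lit 13510) (nat_lit 5240) Col.a (nat_lit 3563) (Dv.wd (nat_lit 16) [Mv.f (nat_lit 8988), Mv.f (nat_lit 8894), Mv.f (nat_lit 13509)])))))))))
(Tr.nd (nat_lit 13531) (Tr.nd (nat_lit 13521) (Tr.nd (nat_lit 13516) (Tr.nd (nat_lit 13513) (Tr.nd (nat_lit 13512) (Tr.lf (Fc.ed (nat_lit 13511) (nat_lit 5240) Col.b (nat_lit 5187) (Dv.wd (nat_lit 66) [Mv.f (nat_lit 13405), Mv.b (nat_lit 8896), Mv.f (nat_lit 13509)])))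
(Tr.lf (Fc.ed (nat_lit 13512) (nat_lit 5240) Col.c (nat_lit 4703) (Dv.wd (nat_lit 34) [Mv.f (nat_lit 11879), Mv.f (nat_lit 10904), Mv.f (nat_lit 13509)]))))
(Tr.nd (nat_lit 13514) (Tr.lf (Fc.ed (nat_lit 13513) (nat_lit 3539) Col.gi (nat_lit 5241) Dv.df))
(Tr.nd (nat_lit 13515) (Tr.lf (Fc.ed (nat_lit 13514) (nat_lit 4949) Col.d (nat_lit 5242) Dv.df))
(Tr.lf (Fc.ed (nat_lit 13515) (nat_lit 5242) Col.a (nat_lit 3824) (Dv.wd (nat_lit 8) [Mv.f (nat_lit 9473), Mv.f (nat_lit 12858), Mv.f (nat_lit 13514)]))))))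
(Tr.nd (nat_lit 13518) (Tr.nd (nat_lit 13517) (Tr.lf (Fc.ed (nat_lit 13516) (nat_lit 3251) Col.d (nat_lit 5243) Dv.df))
(Tr.lf (Fc.ed (nat_lit 13517) (nat_lit 2472) Col.b (nat_lit 5244) Dv.df)))
(Tr.nd (nat_lit 13519) (Tr.lf (Fc.ed (nat_lit 13518) (nat_lit 3615) Col.d (nat_lit 5245) Dv.df))
(Tr.nd (nat_lit 13520) (Tr.lf (Fc.ed (nat_lit 13519) (nat_lit 5245) Col.f (nat_lit 4188) (Dv.wd (nat_lit 11) [Mv.b (nat_lit 13068), Mv.b (nat_lit 13065), Mv.f (nat_lit 13518)])))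
(Tr.lf (Fc.ed (nat_lit 13520) (nat_lit 5113) Col.d (nat_lit 5246) Dv.df))))))
(Tr.nd (nat_lit 13526) (Tr.nd (nat_lit 13523) (Tr.nd (nat_lit 13522) (Tr.lf (Fc.ed (nat_lit 13521) (nat_lit 5246) Col.c (nat_lit 3951) (Dv.wd (nat_lit 80) [Mv.b (nat_lit 10671), Mv.f (nat_lit 9540), Mv.b (nat_lit 10258), Mv.b (nat_lit 10263), Mv.b (nat_lit 10231), Mv.b (nat_lit 10328), Mv.f (nat_lit 10327), Mv.f (nat_lit 13234), Mv.f (nat_lit 13520)])))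
(Tr.lf (Fc.ed (nat_lit 13522) (nat_lit 2947) Col.f (nat_lit 5247) Dv.df)))
(Tr.nd (nat_lit 13524) (Tr.lf (Fc.ed (nat_lit 13523) (nat_lit 5247) Col.d (nat_lit 4467) (Dv.wd (nat_lit 21) [Mv.f (nat_lit 11443), Mv.b (nat_lit 7721), Mv.f (nat_lit 13522)])))
(Tr.nd (nat_lit 13525) (Tr.lf (Fc.ed (nat_lit 13524) (nat_lit 5149) Col.gi (nat_lit 5248) Dv.df))
(Tr.lf (Fc.ed (nat_lit 13525) (nat_lit 5248) Col.f (nat_lit 5060) (Dv.wd (nat_lit 13) [Mv.f (nat_lit 13130), Mv.f (nat_lit 13309), Mv.f (nat_lit 13524)]))))))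
(Tr.nd (nat_lit 13528) (Tr.nd (nat_lit 13527) (Tr.lf (Fc.ed (nat_lit 13526) (nat_lit 4506) Col.a (nat_lit 5248) (Dv.wd (nat_lit 79) [Mv.f (nat_lit 13525), Mv.f (nat_lit 13130), Mv.b (nat_lit 12928)])))
(Tr.lf (Fc.ed (nat_lit 13527) (nat_lit 1627) Col.d (nat_lit 5248) (Dv.wd (nat_lit 90) [Mv.f (nat_lit 13525), Mv.b (nat_lit 13129), Mv.f (nat_lit 7853)]))))
(Tr.nd (nat_lit 13529) (Tr.lf (Fc.ed (nat_lit 13528) (nat_lit 2423) Col.e (nat_lit 5249) Dv.df))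
(Tr.nd (nat_lit 13530) (Tr.lf (Fc.ed (nat_lit 13529) (nat_lit 2885) Col.gi (nat_lit 5250) Dv.df))
(Tr.lf (Fc.ed (nat_lit 13530) (nat_lit 3464) Col.b (nat_lit 5251) Dv.df)))))))
(Tr.nd (nat_lit 13541) (Tr.nd (nat_lit 13536) (Tr.nd (nat_lit 13533) (Tr.nd (nat_lit 13532) (Tr.lf (Fc.ed (nat_lit 13531) (nat_lit 5251) Col.d (nat_lit 4464) (Dv.wd (nat_lit 58) [Mv.b (nat_lit 11437), Mv.b (nat_lit 12052), Mv.f (nat_lit 13530)])))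
(Tr.lf (Fc.ed (nat_lit 13532) (nat_lit 5251) Col.e (nat_lit 4033) (Dv.wd (nat_lit 52) [Mv.b (nat_lit 9862), Mv.f (nat_lit 8789), Mv.f (nat_lit 13530)]))))
(Tr.nd (nat_lit 13534) (Tr.lf (Fc.ed (nat_lit 13533) (nat_lit 3057) Col.gi (nat_lit 5252) Dv.df))
(Tr.nd (nat_lit 13535) (Tr.lf (Fc.ed (nat_lit 13534) (nat_lit 5252) Col.gi (nat_lit 4632) (Dv.wd (nat_lit 24) [Mv.f (nat_lit 11745), Mv.b (nat_lit 7960), Mv.f (nat_lit 13533)])))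
(Tr.lf (Fc.ed (nat_lit 13535) (nat_lit 4479) Col.g (nat_lit 5253) Dv.df)))))
(Tr.nd (nat_lit 13538) (Tr.nd (nat_lit 13537) (Tr.lf (Fc.ed (nat_lit 13536) (nat_lit 5253) Col.g (nat_lit 2295) (Dv.wd (nat_lit 9) [Mv.b (nat_lit 11735), Mv.f (nat_lit 11736), Mv.f (nat_lit 13535)])))
(Tr.lf (Fc.ed (nat_lit 13537) (nat_lit 4857) Col.c (nat_lit 5254) Dv.df)))
(Tr.nd (nat_lit 13539) (Tr.lf (Fc.ed (nat_lit 13538) (nat_lit 2834) Col.gi (nat_lit 5255) Dv.df))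
(Tr.nd (nat_lit 13540) (Tr.lf (Fc.ed (nat_lit 13539) (nat_lit 5255) Col.gi (nat_lit 1637) (Dv.wd (nat_lit 24) [Mv.f (nat_lit 7772), Mv.f (nat_lit 7773), Mv.f (nat_lit 13538)])))
(Tr.lf (Fc.ed (nat_lit 13540) (nat_lit 2808) Col.gi (nat_lit 5256) Dv.df))))))
(Tr.nd (nat_lit 13546) (Tr.nd (nat_lit 13543) (Tr.nd (nat_lit 13542) (Tr.lf (Fc.ed (nat_lit 13541) (nat_lit 5256) Col.gi (nat_lit 4951) (Dv.wd (nat_lit 24) [Mv.f (nat_lit 13155), Mv.f (nat_lit 13156), Mv.f (nat_lit 13540)])))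
(Tr.lf (Fc.ed (nat_lit 13542) (nat_lit 4853) Col.e (nat_lit 5257) Dv.df)))
(Tr.nd (nat_lit 13544) (Tr.lf (Fc.ed (nat_lit 13543) (nat_lit 5257) Col.a (nat_lit 5044) (Dv.wd (nat_lit 15) [Mv.b (nat_lit 13097), Mv.f (nat_lit 12912), Mv.f (nat_lit 13542)])))
(Tr.nd (nat_lit 13545) (Tr.lf (Fc.ed (nat_lit 13544) (nat_lit 5257) Col.c (nat_lit 1885) (Dv.wd (nat_lit 18) [Mv.f (nat_lit 5347), Mv.f (nat_lit 12666), Mv.f (nat_lit 13542)])))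
(Tr.lf (Fc.ed (nat_lit 13545) (nat_lit 5239) Col.c (nat_lit 5258) Dv.df)))))
(Tr.nd (nat_lit 13549) (Tr.nd (nat_lit 13547) (Tr.lf (Fc.ed (nat_lit 13546) (nat_lit 5258) Col.e (nat_lit 3524) (Dv.wd (nat_lit 25) [Mv.b (nat_lit 8908), Mv.b (nat_lit 13508), Mv.f (nat_lit 13545)])))
(Tr.nd (nat_lit 13548) (Tr.lf (Fc.ed (nat_lit 13547) (nat_lit 5258) Col.b (nat_lit 3203) (Dv.wd (nat_lit 87) [Mv.b (nat_lit 8266), Mv.f (nat_lit 7525), Mv.b (nat_lit 10841), Mv.f (nat_lit 13507), Mv.f (nat_lit 13545)])))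
(Tr.lf (Fc.ed (nat_lit 13548) (nat_lit 4379) Col.g (nat_lit 5259) Dv.df))))
(Tr.nd (nat_lit 13550) (Tr.lf (Fc.ed (nat_lit 13549) (nat_lit 5259) Col.g (nat_lit 3412) (Dv.wd (nat_lit 9) [Mv.f (nat_lit 8687), Mv.b (nat_lit 11285), Mv.f (nat_lit 13548)])))
(Tr.nd (nat_lit 13551) (Tr.lf (Fc.ed (nat_lit 13550) (nat_lit 3294) Col.g (nat_lit 5260) Dv.df))
(Tr.lf (Fc.ed (nat_lit 13551) (nat_lit 5260) Col.g (nat_lit 3088) (Dv.wd (nat_lit 9) [Mv.b (nat_lit 9143), Mv.b (nat_lit 9142), Mv.f (nat_lit 13550)]))))))))))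
(Tr.nd (nat_lit 13593) (Tr.nd (nat_lit 13572) (Tr.nd (nat_lit 13562) (Tr.nd (nat_lit 13557) (Tr.nd (nat_lit 13554) (Tr.nd (nat_lit 13553) (Tr.lf (Fc.ed (nat_lit 13552) (nat_lit 5064) Col.f (nat_lit 5261) Dv.df))
(Tr.lf (Fc.ed (nat_lit 13553) (nat_lit 5261) Col.c (nat_lit 2310) (Dv.wd (nat_lit 34) [Mv.f (nat_lit 6319), Mv.b (nat_lit 13138), Mv.f (nat_lit 13552)]))))
(Tr.nd (nat_lit 13555) (Tr.lf (Fc.ed (nat_lit 13554) (nat_lit 4058) Col.f (nat_lit 5262) Dv.df))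
(Tr.nd (nat_lit 13556) (Tr.lf (Fc.ed (nat_lit 13555) (nat_lit 5262) Col.a (nat_lit 4985) (Dv.wd (nat_lit 16) [Mv.b (nat_lit 12974), Mv.f (nat_lit 12972), Mv.f (nat_lit 13554)])))
(Tr.lf (Fc.ed (nat_lit 13556) (nat_lit 5262) Col.d (nat_lit 3694) (Dv.wd (nat_lit 21) [Mv.f (nat_lit 12954), Mv.f (nat_lit 10184), Mv.f (nat_lit 13554)]))))))
(Tr.nd (nat_lit 13559) (Tr.nd (nat_lit 13558) (Tr.lf (Fc.ed (nat_lit 13557) (nat_lit 5262) Col.e (nat_lit 5248) (Dv.wd (nat_lit 22) [Mv.f (nat_lit 13525), Mv.b (nat_lit 13131), Mv.f (nat_lit 12979), Mv.f (nat_lit 9901), Mv.f (nat_lit 13554)])))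
(Tr.lf (Fc.ed (nat_lit 13558) (nat_lit 5061) Col.gi (nat_lit 5263) Dv.df)))
(Tr.nd (nat_lit 13560) (Tr.lf (Fc.ed (nat_lit 13559) (nat_lit 5263) Col.f (nat_lit 4907) (Dv.wd (nat_lit 13) [Mv.f (nat_lit 12768), Mv.f (nat_lit 13132), Mv.f (nat_lit 13558)])))
(Tr.nd (nat_lit 13561) (Tr.lf (Fc.ed (nat_lit 13560) (nat_lit 2868) Col.d (nat_lit 5263) (Dv.wd (nat_lit 90) [Mv.f (nat_lit 13559), Mv.b (nat_lit 12767), Mv.b (nat_lit 10982)])))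
(Tr.lf (Fc.ed (nat_lit 13561) (nat_lit 3174) Col.gi (nat_lit 5264) Dv.df))))))
(Tr.nd (nat_lit 13567) (Tr.nd (nat_lit 13564) (Tr.nd (nat_lit 13563) (Tr.lf (Fc.ed (nat_lit 13562) (nat_lit 5264) Col.gi (nat_lit 2522) (Dv.wd (nat_lit 24) [Mv.b (nat_lit 9302), Mv.f (nat_lit 9301), Mv.f (nat_lit 13561)])))
(Tr.lf (Fc.ed (nat_lit 13563) (nat_lit 5219) Col.d (nat_lit 5265) Dv.df)))
(Tr.nd (nat_lit 13565) (Tr.lf (Fc.ed (nat_lit 13564) (nat_lit 5265) Col.a (nat_lit 3992) (Dv.wd (nat_lit 8) [Mv.b (nat_lit 12050), Mv.f (nat_lit 13464), Mv.f (nat_lit 13563)])))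
(Tr.nd (nat_lit 13566) (Tr.lf (Fc.ed (nat_lit 13565) (nat_lit 3004) Col.d (nat_lit 5266) Dv.df))
(Tr.lf (Fc.ed (nat_lit 13566) (nat_lit 5266) Col.a (nat_lit 5204) (Dv.wd (nat_lit 8) [Mv.b (nat_lit 13436), Mv.f (nat_lit 8200), Mv.f (nat_lit 13565)]))))))
(Tr.nd (nat_lit 13569) (Tr.nd (nat_lit 13568) (Tr.lf (Fc.ed (nat_lit 13567) (nat_lit 3596) Col.c (nat_lit 5267) Dv.df))
(Tr.lf (Fc.ed (nat_lit 13568) (nat_lit 5260) Col.c (nat_lit 5268) Dv.df)))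
(Tr.nd (nat_lit 13570) (Tr.lf (Fc.ed (nat_lit 13569) (nat_lit 5268) Col.b (nat_lit 2043) (Dv.wd (nat_lit 106) [Mv.b (nat_lit 5669), Mv.f (nat_lit 5843), Mv.b (nat_lit 8515), Mv.b (nat_lit 8807), Mv.b (nat_lit 9255), Mv.b (nat_lit 9254), Mv.f (nat_lit 8558), Mv.f (nat_lit 8440), Mv.f (nat_lit 13550), Mv.f (nat_lit 13568)])))
(Tr.nd (nat_lit 13571) (Tr.lf (Fc.ed (nat_lit 13570) (nat_lit 4962) Col.b (nat_lit 5269) Dv.df))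
(Tr.lf (Fc.ed (nat_lit 13571) (nat_lit 5269) Col.a (nat_lit 2844) (Dv.wd (nat_lit 98) [Mv.f (nat_lit 7500), Mv.b (nat_lit 3180), Mv.b (nat_lit 7998), Mv.f (nat_lit 12883), Mv.f (nat_lit 13570)]))))))))
(Tr.nd (nat_lit 13582) (Tr.nd (nat_lit 13577) (Tr.nd (nat_lit 13574) (Tr.nd (nat_lit 13573) (Tr.lf (Fc.ed (nat_lit 13572) (nat_lit 3356) Col.e (nat_lit 5270) Dv.df))
(Tr.lf (Fc.ed (nat_lit 13573) (nat_lit 2850) Col.b (nat_lit 5271) Dv.df)))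
(Tr.nd (nat_lit 13575) (Tr.lf (Fc.ed (nat_lit 13574) (nat_lit 4942) Col.c (nat_lit 5272) Dv.df))
(Tr.nd (nat_lit 13576) (Tr.lf (Fc.ed (nat_lit 13575) (nat_lit 5272) Col.d (nat_lit 5141) (Dv.wd (nat_lit 44) [Mv.b (nat_lit 13294), Mv.b (nat_lit 12273), Mv.f (nat_lit 8721), Mv.f (nat_lit 11897), Mv.f (nat_lit 11898), Mv.f (nat_lit 11421), Mv.b (nat_lit 13127), Mv.f (nat_lit 13386), Mv.f (nat_lit 13574)])))
(Tr.lf (Fc.ed (nat_lit 13576) (nat_lit 4691) Col.c (nat_lit 5273) Dv.df)))))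
(Tr.nd (nat_lit 13579) (Tr.nd (nat_lit 13578) (Tr.lf (Fc.ed (nat_lit 13577) (nat_lit 2863) Col.a (nat_lit 5274) Dv.df))
(Tr.lf (Fc.ed (nat_lit 13578) (nat_lit 5274) Col.f (nat_lit 5269) (Dv.wd (nat_lit 35) [Mv.f (nat_lit 13571), Mv.b (nat_lit 7542), Mv.f (nat_lit 13577)]))))
(Tr.nd (nat_lit 13580) (Tr.lf (Fc.ed (nat_lit 13579) (nat_lit 3258) Col.g (nat_lit 5275) Dv.df))
(Tr.nd (nat_lit 13581) (Tr.lf (Fc.ed (nat_lit 13580) (nat_lit 5102) Col.a (nat_lit 5276) Dv.df))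
(Tr.lf (Fc.ed (nat_lit 13581) (nat_lit 5276) Col.c (nat_lit 1519) (Dv.wd (nat_lit 33) [Mv.b (nat_lit 6125), Mv.f (nat_lit 13210), Mv.f (nat_lit 13580)])))))))
(Tr.nd (nat_lit 13587) (Tr.nd (nat_lit 13584) (Tr.nd (nat_lit 13583) (Tr.lf (Fc.ed (nat_lit 13582) (nat_lit 5270) Col.d (nat_lit 5277) Dv.df))
(Tr.lf (Fc.ed (nat_lit 13583) (nat_lit 5277) Col.g (nat_lit 4506) (Dv.wd (nat_lit 63) [Mv.b (nat_lit 11509), Mv.b (nat_lit 4461), Mv.b (nat_lit 1881), Mv.f (nat_lit 1529), Mv.f (nat_lit 12965), Mv.b (nat_lit 12124), Mv.b (nat_lit 8360), Mv.b (nat_lit 8573), Mv.f (nat_lit 13572), Mv.f (nat_lit 13582)]))))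
(Tr.nd (nat_lit 13585) (Tr.lf (Fc.ed (nat_lit 13584) (nat_lit 5060) Col.g (nat_lit 5277) (Dv.wd (nat_lit 17) [Mv.f (nat_lit 13583), Mv.f (nat_lit 13526), Mv.f (nat_lit 13525)])))
(Tr.nd (nat_lit 13586) (Tr.lf (Fc.ed (nat_lit 13585) (nat_lit 5116) Col.c (nat_lit 5278) Dv.df))
(Tr.lf (Fc.ed (nat_lit 13586) (nat_lit 5278) Col.d (nat_lit 5001) (Dv.wd (nat_lit 95) [Mv.b (nat_lit 13007), Mv.b (nat_lit 11640), Mv.b (nat_lit 10401), Mv.b (nat_lit 10397), Mv.b (nat_lit 10640), Mv.f (nat_lit 10644), Mv.f (nat_lit 13053), Mv.f (nat_lit 13239), Mv.f (nat_lit 13585)]))))))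
(Tr.nd (nat_lit 13590) (Tr.nd (nat_lit 13588) (Tr.lf (Fc.ed (nat_lit 13587) (nat_lit 5278) Col.g (nat_lit 5246) (Dv.wd (nat_lit 77) [Mv.f (nat_lit 13521), Mv.b (nat_lit 10671), Mv.f (nat_lit 9540), Mv.f (nat_lit 9620), Mv.b (nat_lit 11950), Mv.f (nat_lit 12518), Mv.b (nat_lit 12688), Mv.b (nat_lit 13240), Mv.f (nat_lit 13585)])))
(Tr.nd (nat_lit 13589) (Tr.lf (Fc.ed (nat_lit 13588) (nat_lit 4698) Col.c (nat_lit 5279) Dv.df))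
(Tr.lf (Fc.ed (nat_lit 13589) (nat_lit 5279) Col.f (nat_lit 4990) (Dv.wd (nat_lit 26) [Mv.b (nat_lit 12988), Mv.b (nat_lit 12567), Mv.f (nat_lit 13588)])))))
(Tr.nd (nat_lit 13591) (Tr.lf (Fc.ed (nat_lit 13590) (nat_lit 5279) Col.d (nat_lit 5267) (Dv.wd (nat_lit 147) [Mv.b (nat_lit 13567), Mv.f (nat_lit 10158), Mv.f (nat_lit 9859), Mv.f (nat_lit 10213), Mv.b (nat_lit 9961), Mv.f (nat_lit 11587), Mv.b (nat_lit 13001), Mv.f (nat_lit 13000), Mv.f (nat_lit 13588)])))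
(Tr.nd (nat_lit 13592) (Tr.lf (Fc.ed (nat_lit 13591) (nat_lit 4081) Col.a (nat_lit 5280) Dv.df))
(Tr.lf (Fc.ed (nat_lit 13592) (nat_lit 5280) Col.c (nat_lit 2475) (Dv.wd (nat_lit 33) [Mv.b (nat_lit 8236), Mv.f (nat_lit 9948), Mv.f (nat_lit 13591)])))))))))
(Tr.nd (nat_lit 13613) (Tr.nd (nat_lit 13603) (Tr.nd (nat_lit 13598) (Tr.nd (nat_lit 13595) (Tr.nd (nat_lit 13594) (Tr.lf (Fc.ed (nat_lit 13593) (nat_lit 1266) Col.c (nat_lit 5281) Dv.df))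
(Tr.lf (Fc.ed (nat_lit 13594) (nat_lit 5281) Col.e (nat_lit 5175) (Dv.wd (nat_lit 25) [Mv.b (nat_lit 13361), Mv.f (nat_lit 6413), Mv.f (nat_lit 13593)]))))
(Tr.nd (nat_lit 13596) (Tr.lf (Fc.ed (nat_lit 13595) (nat_lit 2052) Col.g (nat_lit 5282) Dv.df))
(Tr.nd (nat_lit 13597) (Tr.lf (Fc.ed (nat_lit 13596) (nat_lit 5282) Col.g (nat_lit 3147) (Dv.wd (nat_lit 9) [Mv.b (nat_lit 8568), Mv.f (nat_lit 8569), Mv.f (nat_lit 13595)])))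
(Tr.lf (Fc.ed (nat_lit 13597) (nat_lit 5231) Col.d (nat_lit 5283) Dv.df)))))
(Tr.nd (nat_lit 13600) (Tr.nd (nat_lit 13599) (Tr.lf (Fc.ed (nat_lit 13598) (nat_lit 5167) Col.b (nat_lit 5284) Dv.df))
(Tr.lf (Fc.ed (nat_lit 13599) (nat_lit 4653) Col.d (nat_lit 5285) Dv.df)))
(Tr.nd (nat_lit 13601) (Tr.lf (Fc.ed (nat_lit 13600) (nat_lit 5285) Col.a (nat_lit 4820) (Dv.wd (nat_lit 8) [Mv.f (nat_lit 12597), Mv.f (nat_lit 11777), Mv.f (nat_lit 13599)])))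
(Tr.nd (nat_lit 13602) (Tr.lf (Fc.ed (nat_lit 13601) (nat_lit 3987) Col.f (nat_lit 5286) Dv.df))
(Tr.lf (Fc.ed (nat_lit 13602) (nat_lit 5286) Col.a (nat_lit 3474) (Dv.wd (nat_lit 23) [Mv.f (nat_lit 8807), Mv.f (nat_lit 9783), Mv.f (nat_lit 13601)])))))))
(Tr.nd (nat_lit 13608) (Tr.nd (nat_lit 13605) (Tr.nd (nat_lit 13604) (Tr.lf (Fc.ed (nat_lit 13603) (nat_lit 3649) Col.gi (nat_lit 5287) Dv.df))
(Tr.lf (Fc.ed (nat_lit 13604) (nat_lit 5264) Col.c (nat_lit 5288) Dv.df)))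
(Tr.nd (nat_lit 13606) (Tr.lf (Fc.ed (nat_lit 13605) (nat_lit 5288) Col.b (nat_lit 3370) (Dv.wd (nat_lit 106) [Mv.f (nat_lit 8600), Mv.f (nat_lit 8489), Mv.b (nat_lit 9366), Mv.f (nat_lit 9766), Mv.f (nat_lit 11306), Mv.f (nat_lit 11307), Mv.f (nat_lit 7657), Mv.f (nat_lit 6788), Mv.b (nat_lit 13562), Mv.f (nat_lit 13604)])))
(Tr.nd (nat_lit 13607) (Tr.lf (Fc.ed (nat_lit 13606) (nat_lit 2780) Col.c (nat_lit 5289) Dv.df))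
(Tr.lf (Fc.ed (nat_lit 13607) (nat_lit 5289) Col.b (nat_lit 5261) (Dv.wd (nat_lit 87) [Mv.f (nat_lit 13553), Mv.b (nat_lit 6317), Mv.b (nat_lit 3250), Mv.b (nat_lit 7358), Mv.f (nat_lit 13606)]))))))
(Tr.nd (nat_lit 13610) (Tr.nd (nat_lit 13609) (Tr.lf (Fc.ed (nat_lit 13608) (nat_lit 4999) Col.f (nat_lit 5290) Dv.df))
(Tr.lf (Fc.ed (nat_lit 13609) (nat_lit 5290) Col.a (nat_lit 2602) (Dv.wd (nat_lit 16) [Mv.f (nat_lit 7554), Mv.f (nat_lit 13002), Mv.f (nat_lit 13608)]))))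
(Tr.nd (nat_lit 13611) (Tr.lf (Fc.ed (nat_lit 13610) (nat_lit 5290) Col.c (nat_lit 4751) (Dv.wd (nat_lit 34) [Mv.b (nat_lit 12797), Mv.b (nat_lit 13003), Mv.f (nat_lit 13608)])))
(Tr.nd (nat_lit 13612) (Tr.lf (Fc.ed (nat_lit 13611) (nat_lit 5290) Col.d (nat_lit 5155) (Dv.wd (nat_lit 21) [Mv.f (nat_lit 13320), Mv.b (nat_lit 13004), Mv.f (nat_lit 13608)])))
(Tr.lf (Fc.ed (nat_lit 13612) (nat_lit 5123) Col.e (nat_lit 5291) Dv.df)))))))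
(Tr.nd (nat_lit 13623) (Tr.nd (nat_lit 13618) (Tr.nd (nat_lit 13615) (Tr.nd (nat_lit 13614) (Tr.lf (Fc.ed (nat_lit 13613) (nat_lit 3286) Col.gi (nat_lit 5292) Dv.df))
(Tr.lf (Fc.ed (nat_lit 13614) (nat_lit 5292) Col.e (nat_lit 5263) (Dv.wd (nat_lit 146) [Mv.b (nat_lit 13560), Mv.f (nat_lit 7553), Mv.b (nat_lit 4465), Mv.b (nat_lit 4462), Mv.f (nat_lit 2472), Mv.b (nat_lit 4897), Mv.f (nat_lit 4896), Mv.b (nat_lit 7738), Mv.f (nat_lit 8425), Mv.f (nat_lit 13613)]))))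
(Tr.nd (nat_lit 13616) (Tr.lf (Fc.ed (nat_lit 13615) (nat_lit 4796) Col.e (nat_lit 5293) Dv.df))
(Tr.nd (nat_lit 13617) (Tr.lf (Fc.ed (nat_lit 13616) (nat_lit 5293) Col.a (nat_lit 3903) (Dv.wd (nat_lit 15) [Mv.b (nat_lit 9600), Mv.b (nat_lit 12553), Mv.f (nat_lit 13615)])))
(Tr.lf (Fc.ed (nat_lit 13617) (nat_lit 5293) Col.c (nat_lit 4981) (Dv.wd (nat_lit 18) [Mv.f (nat_lit 12916), Mv.f (nat_lit 12552), Mv.f (nat_lit 13615)]))))))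
(Tr.nd (nat_lit 13620) (Tr.nd (nat_lit 13619) (Tr.lf (Fc.ed (nat_lit 13618) (nat_lit 3332) Col.d (nat_lit 5294) Dv.df))
(Tr.lf (Fc.ed (nat_lit 13619) (nat_lit 4747) Col.f (nat_lit 5295) Dv.df)))
(Tr.nd (nat_lit 13621) (Tr.lf (Fc.ed (nat_lit 13620) (nat_lit 3144) Col.d (nat_lit 5296) Dv.df))
(Tr.nd (nat_lit 13622) (Tr.lf (Fc.ed (nat_lit 13621) (nat_lit 4203) Col.g (nat_lit 5297) Dv.df))
(Tr.lf (Fc.ed (nat_lit 13622) (nat_lit 3705) Col.d (nat_lit 5298) Dv.df))))))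
(Tr.nd (nat_lit 13628) (Tr.nd (nat_lit 13625) (Tr.nd (nat_lit 13624) (Tr.lf (Fc.ed (nat_lit 13623) (nat_lit 5298) Col.b (nat_lit 4004) (Dv.wd (nat_lit 37) [Mv.b (nat_lit 9812), Mv.f (nat_lit 9254), Mv.f (nat_lit 13622)])))
(Tr.lf (Fc.ed (nat_lit 13624) (nat_lit 4532) Col.gi (nat_lit 5299) Dv.df)))
(Tr.nd (nat_lit 13626) (Tr.lf (Fc.ed (nat_lit 13625) (nat_lit 5299) Col.gi (nat_lit 4811) (Dv.wd (nat_lit 24) [Mv.b (nat_lit 12580), Mv.f (nat_lit 11558), Mv.f (nat_lit 13624)])))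
(Tr.nd (nat_lit 13627) (Tr.lf (Fc.ed (nat_lit 13626) (nat_lit 5299) Col.f (nat_lit 4477) (Dv.wd (nat_lit 13) [Mv.b (nat_lit 12853), Mv.f (nat_lit 12855), Mv.f (nat_lit 13624)])))
(Tr.lf (Fc.ed (nat_lit 13627) (nat_lit 5299) Col.d (nat_lit 3778) (Dv.wd (nat_lit 48) [Mv.f (nat_lit 9389), Mv.b (nat_lit 6268), Mv.b (nat_lit 5960), Mv.b (nat_lit 10217), Mv.f (nat_lit 5615), Mv.b (nat_lit 3882), Mv.b (nat_lit 6267), Mv.b (nat_lit 11556), Mv.f (nat_lit 13624)]))))))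
(Tr.nd (nat_lit 13631) (Tr.nd (nat_lit 13629) (Tr.lf (Fc.ed (nat_lit 13628) (nat_lit 4946) Col.a (nat_lit 5299) (Dv.wd (nat_lit 54) [Mv.f (nat_lit 13627), Mv.f (nat_lit 10660), Mv.b (nat_lit 12851)])))
(Tr.nd (nat_lit 13630) (Tr.lf (Fc.ed (nat_lit 13629) (nat_lit 5247) Col.g (nat_lit 5300) Dv.df))
(Tr.lf (Fc.ed (nat_lit 13630) (nat_lit 5300) Col.g (nat_lit 4834) (Dv.wd (nat_lit 9) [Mv.f (nat_lit 12623), Mv.f (nat_lit 13522), Mv.f (nat_lit 13629)])))))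
(Tr.nd (nat_lit 13632) (Tr.lf (Fc.ed (nat_lit 13631) (nat_lit 4983) Col.gi (nat_lit 5301) Dv.df))
(Tr.nd (nat_lit 13633) (Tr.lf (Fc.ed (nat_lit 13632) (nat_lit 5301) Col.gi (nat_lit 2254) (Dv.wd (nat_lit 24) [Mv.b (nat_lit 6183), Mv.f (nat_lit 12922), Mv.f (nat_lit 13631)])))
(Tr.lf (Fc.ed (nat_lit 13633) (nat_lit 4954) Col.a (nat_lit 5302) Dv.df))))))))))
(Tr.nd (nat_lit 13716) (Tr.nd (nat_lit 13675) (Tr.nd (nat_lit 13654) (Tr.nd (nat_lit 13644) (Tr.nd (nat_lit 13639) (Tr.nd (nat_lit 13636) (Tr.nd (nat_lit 13635) (Tr.lf (Fc.ed (nat_lit 13634) (nat_lit 5302) Col.e (nat_lit 4904) (Dv.wd (nat_lit 56) [Mv.b (nat_lit 12761), Mv.f (nat_lit 12867), Mv.f (nat_lit 13633)])))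
(Tr.lf (Fc.ed (nat_lit 13635) (nat_lit 1929) Col.e (nat_lit 5303) Dv.df)))
(Tr.nd (nat_lit 13637) (Tr.lf (Fc.ed (nat_lit 13636) (nat_lit 5303) Col.d (nat_lit 5249) (Dv.wd (nat_lit 59) [Mv.b (nat_lit 13528), Mv.b (nat_lit 12115), Mv.f (nat_lit 12442), Mv.f (nat_lit 12260), Mv.f (nat_lit 13635)])))
(Tr.nd (nat_lit 13638) (Tr.lf (Fc.ed (nat_lit 13637) (nat_lit 3766) Col.d (nat_lit 5304) Dv.df))
(Tr.lf (Fc.ed (nat_lit 13638) (nat_lit 5304) Col.f (nat_lit 4453) (Dv.wd (nat_lit 11) [Mv.b (nat_lit 11419), Mv.f (nat_lit 9364), Mv.f (nat_lit 13637)]))))))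
(Tr.nd (nat_lit 13641) (Tr.nd (nat_lit 13640) (Tr.lf (Fc.ed (nat_lit 13639) (nat_lit 3360) Col.a (nat_lit 5305) Dv.df))
(Tr.lf (Fc.ed (nat_lit 13640) (nat_lit 5305) Col.d (nat_lit 5024) (Dv.wd (nat_lit 28) [Mv.b (nat_lit 13051), Mv.b (nat_lit 8937), Mv.f (nat_lit 13639)]))))
(Tr.nd (nat_lit 13642) (Tr.lf (Fc.ed (nat_lit 13641) (nat_lit 5305) Col.f (nat_lit 3144) (Dv.wd (nat_lit 35) [Mv.f (nat_lit 9719), Mv.f (nat_lit 9720), Mv.f (nat_lit 13639)])))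
(Tr.nd (nat_lit 13643) (Tr.lf (Fc.ed (nat_lit 13642) (nat_lit 5296) Col.f (nat_lit 5024) (Dv.wd (nat_lit 11) [Mv.b (nat_lit 13640), Mv.f (nat_lit 13641), Mv.f (nat_lit 13620)])))
(Tr.lf (Fc.ed (nat_lit 13643) (nat_lit 5241) Col.gi (nat_lit 5296) (Dv.wd (nat_lit 24) [Mv.f (nat_lit 13642), Mv.b (nat_lit 13051), Mv.f (nat_lit 13513)])))))))
(Tr.nd (nat_lit 13649) (Tr.nd (nat_lit 13646) (Tr.nd (nat_lit 13645) (Tr.lf (Fc.ed (nat_lit 13644) (nat_lit 3661) Col.f (nat_lit 5306) Dv.df))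
(Tr.lf (Fc.ed (nat_lit 13645) (nat_lit 5306) Col.a (nat_lit 3386) (Dv.wd (nat_lit 16) [Mv.b (nat_lit 8633), Mv.f (nat_lit 9162), Mv.f (nat_lit 13644)]))))
(Tr.nd (nat_lit 13647) (Tr.lf (Fc.ed (nat_lit 13646) (nat_lit 2899) Col.c (nat_lit 5307) Dv.df))
(Tr.nd (nat_lit 13648) (Tr.lf (Fc.ed (nat_lit 13647) (nat_lit 5307) Col.a (nat_lit 4868) (Dv.wd (nat_lit 19) [Mv.f (nat_lit 13399), Mv.f (nat_lit 11686), Mv.f (nat_lit 13646)])))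
(Tr.lf (Fc.ed (nat_lit 13648) (nat_lit 5009) Col.g (nat_lit 5307) (Dv.wd (nat_lit 9) [Mv.f (nat_lit 13647), Mv.f (nat_lit 12716), Mv.f (nat_lit 13021)]))))))
(Tr.nd (nat_lit 13651) (Tr.nd (nat_lit 13650) (Tr.lf (Fc.ed (nat_lit 13649) (nat_lit 4675) Col.c (nat_lit 5009) (Dv.wd (nat_lit 138) [Mv.f (nat_lit 13648), Mv.b (nat_lit 13646), Mv.b (nat_lit 13277), Mv.f (nat_lit 8149), Mv.f (nat_lit 9827), Mv.b (nat_lit 12219), Mv.b (nat_lit 12203), Mv.f (nat_lit 12737), Mv.b (nat_lit 12739)])))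
(Tr.lf (Fc.ed (nat_lit 13650) (nat_lit 4006) Col.b (nat_lit 4675) (Dv.wd (nat_lit 168) [Mv.f (nat_lit 13649), Mv.b (nat_lit 13021), Mv.b (nat_lit 13398), Mv.b (nat_lit 8194), Mv.b (nat_lit 4025), Mv.f (nat_lit 3768), Mv.f (nat_lit 3770), Mv.b (nat_lit 3034), Mv.f (nat_lit 5196), Mv.f (nat_lit 9815)]))))
(Tr.nd (nat_lit 13652) (Tr.lf (Fc.ed (nat_lit 13651) (nat_lit 4675) Col.d (nat_lit 3866) (Dv.wd (nat_lit 58) [Mv.f (nat_lit 10246), Mv.b (nat_lit 10165), Mv.f (nat_lit 13650)])))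
(Tr.nd (nat_lit 13653) (Tr.lf (Fc.ed (nat_lit 13652) (nat_lit 2716) Col.d (nat_lit 1878) (Dv.wd (nat_lit 85) [Mv.f (nat_lit 12212), Mv.b (nat_lit 11751), Mv.f (nat_lit 11826), Mv.f (nat_lit 13651), Mv.f (nat_lit 10395), Mv.f (nat_lit 10080), Mv.b (nat_lit 6617), Mv.f (nat_lit 4179), Mv.f (nat_lit 7220)])))
(Tr.lf (Fc.ed (nat_lit 13653) (nat_lit 4671) Col.c (nat_lit 4635) (Dv.wd (nat_lit 81) [Mv.f (nat_lit 11826), Mv.f (nat_lit 13651), Mv.b (nat_lit 9543), Mv.b (nat_lit 8173), Mv.f (nat_lit 7394), Mv.b (nat_lit 6306), Mv.b (nat_lit 6823), Mv.f (nat_lit 12657), Mv.b (nat_lit 12655)]))))))))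
(Tr.nd (nat_lit 13664) (Tr.nd (nat_lit 13659) (Tr.nd (nat_lit 13656) (Tr.nd (nat_lit 13655) (Tr.lf (Fc.ed (nat_lit 13654) (nat_lit 5054) Col.a (nat_lit 4671) (Dv.wd (nat_lit 76) [Mv.f (nat_lit 13653), Mv.b (nat_lit 12460), Mv.f (nat_lit 13118)])))
(Tr.lf (Fc.ed (nat_lit 13655) (nat_lit 2623) Col.d (nat_lit 3115) (Dv.wd (nat_lit 89) [Mv.b (nat_lit 8086), Mv.f (nat_lit 10899), Mv.f (nat_lit 11814), Mv.f (nat_lit 13653), Mv.f (nat_lit 11751), Mv.b (nat_lit 12212), Mv.b (nat_lit 5329), Mv.f (nat_lit 2967), Mv.f (nat_lit 7011)]))))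
(Tr.nd (nat_lit 13657) (Tr.lf (Fc.al (nat_lit 13656) (nat_lit 3597) (nat_lit 4075) (Dv.wd (nat_lit 48) [Mv.b (nat_lit 13273), Mv.b (nat_lit 5407), Mv.b (nat_lit 5365), Mv.b (nat_lit 7012), Mv.f (nat_lit 13655), Mv.b (nat_lit 8086), Mv.b (nat_lit 5034), Mv.b (nat_lit 4173), Mv.f (nat_lit 4179), Mv.b (nat_lit 9050)])))
(Tr.nd (nat_lit 13658) (Tr.lf (Fc.al (nat_lit 13657) (nat_lit 4659) (nat_lit 3605) (Dv.wd (nat_lit 29) [Mv.f (nat_lit 9939), Mv.b (nat_lit 13656), Mv.b (nat_lit 11790)])))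
(Tr.lf (Fc.ed (nat_lit 13658) (nat_lit 3597) Col.d (nat_lit 1918) (Dv.wd (nat_lit 120) [Mv.f (nat_lit 13273), Mv.b (nat_lit 13656)]))))))
(Tr.nd (nat_lit 13661) (Tr.nd (nat_lit 13660) (Tr.lf (Fc.ed (nat_lit 13659) (nat_lit 3605) Col.f (nat_lit 2716) (Dv.wd (nat_lit 30) [Mv.f (nat_lit 11789), Mv.f (nat_lit 13657)])))
(Tr.lf (Fc.ed (nat_lit 13660) (nat_lit 4552) Col.gi (nat_lit 2596) (Dv.wd (nat_lit 12) [Mv.f (nat_lit 9062), Mv.f (nat_lit 13659), Mv.f (nat_lit 11591)]))))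
(Tr.nd (nat_lit 13662) (Tr.lf (Fc.ed (nat_lit 13661) (nat_lit 2021) Col.gi (nat_lit 4552) (Dv.wd (nat_lit 12) [Mv.f (nat_lit 13660), Mv.b (nat_lit 6956), Mv.b (nat_lit 5988)])))
(Tr.nd (nat_lit 13663) (Tr.lf (Fc.ed (nat_lit 13662) (nat_lit 4552) Col.d (nat_lit 1959) (Dv.wd (nat_lit 48) [Mv.b (nat_lit 5494), Mv.f (nat_lit 3417), Mv.f (nat_lit 5935), Mv.f (nat_lit 13277), Mv.b (nat_lit 7622), Mv.f (nat_lit 4026), Mv.f (nat_lit 3861), Mv.b (nat_lit 5622), Mv.f (nat_lit 13661)])))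
(Tr.lf (Fc.ed (nat_lit 13663) (nat_lit 5185) Col.d (nat_lit 3305) (Dv.wd (nat_lit 48) [Mv.b (nat_lit 8464), Mv.b (nat_lit 8173), Mv.f (nat_lit 7394), Mv.f (nat_lit 6238), Mv.f (nat_lit 9049), Mv.f (nat_lit 13658), Mv.f (nat_lit 7456), Mv.f (nat_lit 12737), Mv.f (nat_lit 13400)])))))))
(Tr.nd (nat_lit 13669) (Tr.nd (nat_lit 13666) (Tr.nd (nat_lit 13665) (Tr.lf (Fc.ed (nat_lit 13664) (nat_lit 4865) Col.d (nat_lit 5308) Dv.df))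
(Tr.lf (Fc.ed (nat_lit 13665) (nat_lit 5308) Col.a (nat_lit 3345) (Dv.wd (nat_lit 8) [Mv.f (nat_lit 8550), Mv.b (nat_lit 12690), Mv.f (nat_lit 13664)]))))
(Tr.nd (nat_lit 13667) (Tr.lf (Fc.ed (nat_lit 13666) (nat_lit 4289) Col.e (nat_lit 5308) (Dv.wd (nat_lit 72) [Mv.f (nat_lit 13665), Mv.b (nat_lit 8549), Mv.b (nat_lit 11041)])))
(Tr.nd (nat_lit 13668) (Tr.lf (Fc.ed (nat_lit 13667) (nat_lit 3082) Col.e (nat_lit 5309) Dv.df))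
(Tr.lf (Fc.ed (nat_lit 13668) (nat_lit 1824) Col.f (nat_lit 5310) Dv.df)))))
(Tr.nd (nat_lit 13672) (Tr.nd (nat_lit 13670) (Tr.lf (Fc.ed (nat_lit 13669) (nat_lit 5310) Col.e (nat_lit 5310) (Dv.wd (nat_lit 22) [Mv.b (nat_lit 13668), Mv.b (nat_lit 12088), Mv.f (nat_lit 12089), Mv.f (nat_lit 12088), Mv.f (nat_lit 13668)])))
(Tr.nd (nat_lit 13671) (Tr.lf (Fc.ed (nat_lit 13670) (nat_lit 5243) Col.a (nat_lit 5311) Dv.df))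
(Tr.lf (Fc.ed (nat_lit 13671) (nat_lit 2811) Col.gi (nat_lit 5312) Dv.df))))
(Tr.nd (nat_lit 13673) (Tr.lf (Fc.ed (nat_lit 13672) (nat_lit 5312) Col.gi (nat_lit 4511) (Dv.wd (nat_lit 24) [Mv.f (nat_lit 11518), Mv.b (nat_lit 7536), Mv.f (nat_lit 13671)])))
(Tr.nd (nat_lit 13674) (Tr.lf (Fc.ed (nat_lit 13673) (nat_lit 2260) Col.gi (nat_lit 5313) Dv.df))
(Tr.lf (Fc.ed (nat_lit 13674) (nat_lit 5313) Col.gi (nat_lit 5108) (Dv.wd (nat_lit 24) [Mv.f (nat_lit 13227), Mv.b (nat_lit 12722), Mv.f (nat_lit 13673)])))))))))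
(Tr.nd (nat_lit 13695) (Tr.nd (nat_lit 13685) (Tr.nd (nat_lit 13680) (Tr.nd (nat_lit 13677) (Tr.nd (nat_lit 13676) (Tr.lf (Fc.ed (nat_lit 13675) (nat_lit 5012) Col.a (nat_lit 5313) (Dv.wd (nat_lit 23) [Mv.f (nat_lit 13674), Mv.b (nat_lit 13223), Mv.b (nat_lit 13220)])))
(Tr.lf (Fc.ed (nat_lit 13676) (nat_lit 5313) Col.e (nat_lit 5043) (Dv.wd (nat_lit 56) [Mv.f (nat_lit 13093), Mv.b (nat_lit 13027), Mv.f (nat_lit 13675)]))))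
(Tr.nd (nat_lit 13678) (Tr.lf (Fc.al (nat_lit 13677) (nat_lit 2621) (nat_lit 3870) (Dv.wd (nat_lit 71) [Mv.b (nat_lit 9548), Mv.f (nat_lit 4862), Mv.b (nat_lit 4687), Mv.f (nat_lit 2372), Mv.f (nat_lit 3006), Mv.f (nat_lit 3007), Mv.f (nat_lit 6151), Mv.f (nat_lit 6200), Mv.f (nat_lit 13673), Mv.f (nat_lit 13676), Mv.b (nat_lit 13092)])))
(Tr.nd (nat_lit 13679) (Tr.lf (Fc.ed (nat_lit 13678) (nat_lit 2621) Col.g (nat_lit 1948) (Dv.wd (nat_lit 129) [Mv.f (nat_lit 10055), Mv.b (nat_lit 13677)])))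
(Tr.lf (Fc.ed (nat_lit 13679) (nat_lit 2621) Col.gi (nat_lit 1665) (Dv.wd (nat_lit 128) [Mv.f (nat_lit 9548), Mv.b (nat_lit 13677)]))))))
(Tr.nd (nat_lit 13682) (Tr.nd (nat_lit 13681) (Tr.lf (Fc.al (nat_lit 13680) (nat_lit 2284) (nat_lit 3959) (Dv.wd (nat_lit 29) [Mv.b (nat_lit 10069), Mv.b (nat_lit 13677), Mv.f (nat_lit 9977)])))
(Tr.lf (Fc.al (nat_lit 13681) (nat_lit 4446) (nat_lit 3989) (Dv.wd (nat_lit 117) [Mv.b (nat_lit 9785), Mv.b (nat_lit 13677), Mv.f (nat_lit 11408)]))))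
(Tr.nd (nat_lit 13683) (Tr.lf (Fc.al (nat_lit 13682) (nat_lit 3809) (nat_lit 2222) (Dv.wd (nat_lit 30) [Mv.f (nat_lit 9738), Mv.b (nat_lit 13680), Mv.f (nat_lit 9445)])))
(Tr.nd (nat_lit 13684) (Tr.lf (Fc.ed (nat_lit 13683) (nat_lit 3989) Col.c (nat_lit 5016) (Dv.wd (nat_lit 103) [Mv.f (nat_lit 13035), Mv.f (nat_lit 13681)])))
(Tr.lf (Fc.al (nat_lit 13684) (nat_lit 2626) (nat_lit 4938) (Dv.wd (nat_lit 120) [Mv.f (nat_lit 12836), Mv.f (nat_lit 13681), Mv.f (nat_lit 9786)])))))))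
(Tr.nd (nat_lit 13690) (Tr.nd (nat_lit 13687) (Tr.nd (nat_lit 13686) (Tr.lf (Fc.ed (nat_lit 13685) (nat_lit 3989) Col.e (nat_lit 2621) (Dv.wd (nat_lit 117) [Mv.f (nat_lit 11408), Mv.f (nat_lit 13681)])))
(Tr.lf (Fc.ed (nat_lit 13686) (nat_lit 2222) Col.a (nat_lit 2124) (Dv.wd (nat_lit 29) [Mv.b (nat_lit 9975), Mv.f (nat_lit 13682)]))))
(Tr.nd (nat_lit 13688) (Tr.lf (Fc.ed (nat_lit 13687) (nat_lit 2222) Col.d (nat_lit 4031) (Dv.wd (nat_lit 120) [Mv.f (nat_lit 9976), Mv.f (nat_lit 13682)])))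
(Tr.nd (nat_lit 13689) (Tr.lf (Fc.ed (nat_lit 13688) (nat_lit 2222) Col.f (nat_lit 2284) (Dv.wd (nat_lit 30) [Mv.f (nat_lit 9445), Mv.f (nat_lit 13682)])))
(Tr.lf (Fc.al (nat_lit 13689) (nat_lit 4206) (nat_lit 2942) (Dv.wd (nat_lit 29) [Mv.f (nat_lit 12835), Mv.b (nat_lit 13684), Mv.f (nat_lit 10851)]))))))
(Tr.nd (nat_lit 13692) (Tr.nd (nat_lit 13691) (Tr.lf (Fc.ed (nat_lit 13690) (nat_lit 2942) Col.a (nat_lit 2626) (Dv.wd (nat_lit 29) [Mv.f (nat_lit 10851), Mv.f (nat_lit 13689)])))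
(Tr.lf (Fc.ed (nat_lit 13691) (nat_lit 5313) Col.d (nat_lit 5225) (Dv.wd (nat_lit 59) [Mv.b (nat_lit 13477), Mv.b (nat_lit 9786), Mv.f (nat_lit 13685), Mv.f (nat_lit 13092), Mv.b (nat_lit 13676)]))))
(Tr.nd (nat_lit 13693) (Tr.lf (Fc.ed (nat_lit 13692) (nat_lit 4966) Col.gi (nat_lit 4031) (Dv.wd (nat_lit 151) [Mv.b (nat_lit 13687), Mv.b (nat_lit 6119), Mv.b (nat_lit 5471), Mv.f (nat_lit 9981), Mv.b (nat_lit 13678), Mv.f (nat_lit 13092), Mv.b (nat_lit 13676), Mv.f (nat_lit 13674), Mv.b (nat_lit 13226), Mv.b (nat_lit 13113)])))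
(Tr.nd (nat_lit 13694) (Tr.lf (Fc.ed (nat_lit 13693) (nat_lit 5043) Col.gi (nat_lit 4966) (Dv.wd (nat_lit 12) [Mv.f (nat_lit 13692), Mv.f (nat_lit 12640), Mv.b (nat_lit 13093)])))
(Tr.lf (Fc.ed (nat_lit 13694) (nat_lit 1769) Col.gi (nat_lit 4711) (Dv.wd (nat_lit 24) [Mv.b (nat_lit 11893), Mv.f (nat_lit 13690), Mv.b (nat_lit 7016)]))))))))
(Tr.nd (nat_lit 13705) (Tr.nd (nat_lit 13700) (Tr.nd (nat_lit 13697) (Tr.nd (nat_lit 13696) (Tr.lf (Fc.ed (nat_lit 13695) (nat_lit 5000) Col.f (nat_lit 5234) (Dv.wd (nat_lit 26) [Mv.b (nat_lit 13496), Mv.f (nat_lit 13688), Mv.b (nat_lit 13006)])))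
(Tr.lf (Fc.ed (nat_lit 13696) (nat_lit 4456) Col.c (nat_lit 5314) Dv.df)))
(Tr.nd (nat_lit 13698) (Tr.lf (Fc.ed (nat_lit 13697) (nat_lit 5314) Col.b (nat_lit 4982) (Dv.wd (nat_lit 87) [Mv.b (nat_lit 12917), Mv.b (nat_lit 5154), Mv.b (nat_lit 3411), Mv.b (nat_lit 11425), Mv.f (nat_lit 13696)])))
(Tr.nd (nat_lit 13699) (Tr.lf (Fc.ed (nat_lit 13698) (nat_lit 4922) Col.f (nat_lit 5315) Dv.df))
(Tr.lf (Fc.ed (nat_lit 13699) (nat_lit 5315) Col.b (nat_lit 4632) (Dv.wd (nat_lit 66) [Mv.f (nat_lit 11745), Mv.f (nat_lit 12800), Mv.f (nat_lit 13698)]))))))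
(Tr.nd (nat_lit 13702) (Tr.nd (nat_lit 13701) (Tr.lf (Fc.ed (nat_lit 13700) (nat_lit 4757) Col.d (nat_lit 5316) Dv.df))
(Tr.lf (Fc.ed (nat_lit 13701) (nat_lit 5316) Col.f (nat_lit 4974) (Dv.wd (nat_lit 11) [Mv.b (nat_lit 12903), Mv.b (nat_lit 13395), Mv.f (nat_lit 13700)]))))
(Tr.nd (nat_lit 13703) (Tr.lf (Fc.ed (nat_lit 13702) (nat_lit 5316) Col.g (nat_lit 5125) (Dv.wd (nat_lit 69) [Mv.b (nat_lit 13255), Mv.f (nat_lit 13048), Mv.b (nat_lit 5311), Mv.f (nat_lit 10677), Mv.f (nat_lit 12297), Mv.b (nat_lit 9394), Mv.b (nat_lit 13389), Mv.f (nat_lit 12478), Mv.f (nat_lit 13700)])))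
(Tr.nd (nat_lit 13704) (Tr.lf (Fc.ed (nat_lit 13703) (nat_lit 4876) Col.g (nat_lit 5316) (Dv.wd (nat_lit 17) [Mv.f (nat_lit 13702), Mv.f (nat_lit 13256), Mv.b (nat_lit 12710)])))
(Tr.lf (Fc.ed (nat_lit 13704) (nat_lit 4920) Col.d (nat_lit 5317) Dv.df))))))
(Tr.nd (nat_lit 13710) (Tr.nd (nat_lit 13707) (Tr.nd (nat_lit 13706) (Tr.lf (Fc.ed (nat_lit 13705) (nat_lit 5317) Col.a (nat_lit 3423) (Dv.wd (nat_lit 8) [Mv.f (nat_lit 8711), Mv.f (nat_lit 12796), Mv.f (nat_lit 13704)])))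
(Tr.lf (Fc.ed (nat_lit 13706) (nat_lit 1912) Col.gi (nat_lit 5318) Dv.df)))
(Tr.nd (nat_lit 13708) (Tr.lf (Fc.ed (nat_lit 13707) (nat_lit 4091) Col.f (nat_lit 5319) Dv.df))
(Tr.nd (nat_lit 13709) (Tr.lf (Fc.ed (nat_lit 13708) (nat_lit 5318) Col.d (nat_lit 5320) Dv.df))
(Tr.lf (Fc.ed (nat_lit 13709) (nat_lit 4756) Col.d (nat_lit 5321) Dv.df)))))
(Tr.nd (nat_lit 13713) (Tr.nd (nat_lit 13711) (Tr.lf (Fc.ed (nat_lit 13710) (nat_lit 5049) Col.g (nat_lit 5322) Dv.df))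
(Tr.nd (nat_lit 13712) (Tr.lf (Fc.ed (nat_lit 13711) (nat_lit 5322) Col.d (nat_lit 2281) (Dv.wd (nat_lit 85) [Mv.f (nat_lit 6249), Mv.b (nat_lit 12961), Mv.b (nat_lit 4169), Mv.b (nat_lit 3051), Mv.b (nat_lit 2129), Mv.f (nat_lit 5634), Mv.b (nat_lit 12549), Mv.f (nat_lit 13108), Mv.f (nat_lit 13710)])))
(Tr.lf (Fc.ed (nat_lit 13712) (nat_lit 5014) Col.e (nat_lit 5323) Dv.df))))
(Tr.nd (nat_lit 13714) (Tr.lf (Fc.ed (nat_lit 13713) (nat_lit 3947) Col.d (nat_lit 5324) Dv.df))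
(Tr.nd (nat_lit 13715) (Tr.lf (Fc.ed (nat_lit 13714) (nat_lit 5324) Col.a (nat_lit 5296) (Dv.wd (nat_lit 8) [Mv.b (nat_lit 13620), Mv.f (nat_lit 9719), Mv.f (nat_lit 13713)])))
(Tr.lf (Fc.ed (nat_lit 13715) (nat_lit 4225) Col.gi (nat_lit 5325) Dv.df)))))))))
(Tr.nd (nat_lit 13757) (Tr.nd (nat_lit 13736) (Tr.nd (nat_lit 13726) (Tr.nd (nat_lit 13721) (Tr.nd (nat_lit 13718) (Tr.nd (nat_lit 13717) (Tr.lf (Fc.ed (nat_lit 13716) (nat_lit 5325) Col.gi (nat_lit 2549) (Dv.wd (nat_lit 24) [Mv.b (nat_lit 6965), Mv.f (nat_lit 10886), Mv.f (nat_lit 13715)])))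
(Tr.lf (Fc.ed (nat_lit 13717) (nat_lit 2966) Col.gi (nat_lit 5326) Dv.df)))
(Tr.nd (nat_lit 13719) (Tr.lf (Fc.ed (nat_lit 13718) (nat_lit 5326) Col.gi (nat_lit 3723) (Dv.wd (nat_lit 24) [Mv.b (nat_lit 11635), Mv.b (nat_lit 11634), Mv.f (nat_lit 13717)])))
(Tr.nd (nat_lit 13720) (Tr.lf (Fc.ed (nat_lit 13719) (nat_lit 5210) Col.a (nat_lit 5327) Dv.df))
(Tr.lf (Fc.ed (nat_lit 13720) (nat_lit 5327) Col.c (nat_lit 1576) (Dv.wd (nat_lit 33) [Mv.f (nat_lit 6465), Mv.f (nat_lit 13448), Mv.f (nat_lit 13719)]))))))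
(Tr.nd (nat_lit 13723) (Tr.nd (nat_lit 13722) (Tr.lf (Fc.ed (nat_lit 13721) (nat_lit 5327) Col.f (nat_lit 4952) (Dv.wd (nat_lit 35) [Mv.b (nat_lit 12863), Mv.b (nat_lit 13449), Mv.f (nat_lit 13719)])))
(Tr.lf (Fc.ed (nat_lit 13722) (nat_lit 2415) Col.e (nat_lit 5328) Dv.df)))
(Tr.nd (nat_lit 13724) (Tr.lf (Fc.ed (nat_lit 13723) (nat_lit 5328) Col.a (nat_lit 5328) (Dv.wd (nat_lit 15) [Mv.b (nat_lit 13722), Mv.f (nat_lit 6535), Mv.f (nat_lit 13722)])))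
(Tr.nd (nat_lit 13725) (Tr.lf (Fc.ed (nat_lit 13724) (nat_lit 5328) Col.c (nat_lit 5222) (Dv.wd (nat_lit 18) [Mv.b (nat_lit 13469), Mv.f (nat_lit 6534), Mv.f (nat_lit 13722)])))
(Tr.lf (Fc.ed (nat_lit 13725) (nat_lit 4953) Col.e (nat_lit 5329) Dv.df))))))
(Tr.nd (nat_lit 13731) (Tr.nd (nat_lit 13728) (Tr.nd (nat_lit 13727) (Tr.lf (Fc.ed (nat_lit 13726) (nat_lit 5329) Col.a (nat_lit 3428) (Dv.wd (nat_lit 15) [Mv.f (nat_lit 8723), Mv.f (nat_lit 12864), Mv.f (nat_lit 13725)])))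
(Tr.lf (Fc.ed (nat_lit 13727) (nat_lit 5329) Col.c (nat_lit 4653) (Dv.wd (nat_lit 18) [Mv.f (nat_lit 11778), Mv.b (nat_lit 12865), Mv.f (nat_lit 13725)]))))
(Tr.nd (nat_lit 13729) (Tr.lf (Fc.ed (nat_lit 13728) (nat_lit 5167) Col.a (nat_lit 5330) Dv.df))
(Tr.nd (nat_lit 13730) (Tr.lf (Fc.ed (nat_lit 13729) (nat_lit 5160) Col.b (nat_lit 5331) Dv.df))
(Tr.lf (Fc.ed (nat_lit 13730) (nat_lit 5331) Col.e (nat_lit 5157) (Dv.wd (nat_lit 52) [Mv.b (nat_lit 13323), Mv.b (nat_lit 13334), Mv.f (nat_lit 13729)]))))))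
(Tr.nd (nat_lit 13733) (Tr.nd (nat_lit 13732) (Tr.lf (Fc.ed (nat_lit 13731) (nat_lit 5168) Col.a (nat_lit 5331) (Dv.wd (nat_lit 31) [Mv.f (nat_lit 13730), Mv.f (nat_lit 13325), Mv.f (nat_lit 13346)])))
(Tr.lf (Fc.ed (nat_lit 13732) (nat_lit 3192) Col.g (nat_lit 5332) Dv.df)))
(Tr.nd (nat_lit 13734) (Tr.lf (Fc.ed (nat_lit 13733) (nat_lit 5307) Col.g (nat_lit 5333) Dv.df))
(Tr.nd (nat_lit 13735) (Tr.lf (Fc.ed (nat_lit 13734) (nat_lit 5283) Col.c (nat_lit 5334) Dv.df))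
(Tr.lf (Fc.ed (nat_lit 13735) (nat_lit 4892) Col.g (nat_lit 5335) Dv.df)))))))
(Tr.nd (nat_lit 13746) (Tr.nd (nat_lit 13741) (Tr.nd (nat_lit 13738) (Tr.nd (nat_lit 13737) (Tr.lf (Fc.ed (nat_lit 13736) (nat_lit 5335) Col.g (nat_lit 3054) (Dv.wd (nat_lit 9) [Mv.f (nat_lit 7952), Mv.b (nat_lit 12741), Mv.f (nat_lit 13735)])))
(Tr.lf (Fc.ed (nat_lit 13737) (nat_lit 5001) Col.g (nat_lit 5336) Dv.df)))
(Tr.nd (nat_lit 13739) (Tr.lf (Fc.ed (nat_lit 13738) (nat_lit 5336) Col.c (nat_lit 3542) (Dv.wd (nat_lit 138) [Mv.b (nat_lit 8944), Mv.f (nat_lit 7263), Mv.f (nat_lit 9271), Mv.f (nat_lit 9272), Mv.f (nat_lit 9726), Mv.b (nat_lit 13521), Mv.b (nat_lit 13587), Mv.f (nat_lit 13586), Mv.f (nat_lit 13737)])))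
(Tr.nd (nat_lit 13740) (Tr.lf (Fc.ed (nat_lit 13739) (nat_lit 4536) Col.d (nat_lit 5337) Dv.df))
(Tr.lf (Fc.ed (nat_lit 13740) (nat_lit 5337) Col.f (nat_lit 4572) (Dv.wd (nat_lit 11) [Mv.f (nat_lit 11633), Mv.f (nat_lit 11563), Mv.f (nat_lit 13739)]))))))
(Tr.nd (nat_lit 13743) (Tr.nd (nat_lit 13742) (Tr.lf (Fc.ed (nat_lit 13741) (nat_lit 2973) Col.b (nat_lit 5338) Dv.df))
(Tr.lf (Fc.ed (nat_lit 13742) (nat_lit 2697) Col.e (nat_lit 5339) Dv.df)))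
(Tr.nd (nat_lit 13744) (Tr.lf (Fc.ed (nat_lit 13743) (nat_lit 5339) Col.f (nat_lit 4706) (Dv.wd (nat_lit 96) [Mv.f (nat_lit 11890), Mv.b (nat_lit 13191), Mv.f (nat_lit 13190), Mv.f (nat_lit 11443), Mv.f (nat_lit 13742)])))
(Tr.nd (nat_lit 13745) (Tr.lf (Fc.ed (nat_lit 13744) (nat_lit 2764) Col.c (nat_lit 5340) Dv.df))
(Tr.lf (Fc.ed (nat_lit 13745) (nat_lit 4471) Col.gi (nat_lit 5341) Dv.df))))))
(Tr.nd (nat_lit 13751) (Tr.nd (nat_lit 13748) (Tr.nd (nat_lit 13747) (Tr.lf (Fc.ed (nat_lit 13746) (nat_lit 4169) Col.gi (nat_lit 5342) Dv.df))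
(Tr.lf (Fc.ed (nat_lit 13747) (nat_lit 5327) Col.gi (nat_lit 5343) Dv.df)))
(Tr.nd (nat_lit 13749) (Tr.lf (Fc.ed (nat_lit 13748) (nat_lit 5343) Col.c (nat_lit 4961) (Dv.wd (nat_lit 143) [Mv.f (nat_lit 12882), Mv.f (nat_lit 7870), Mv.f (nat_lit 6915), Mv.b (nat_lit 5878), Mv.b (nat_lit 6213), Mv.b (nat_lit 4576), Mv.f (nat_lit 3734), Mv.b (nat_lit 4669), Mv.b (nat_lit 13720), Mv.f (nat_lit 13747)])))
(Tr.nd (nat_lit 13750) (Tr.lf (Fc.ed (nat_lit 13749) (nat_lit 3161) Col.a (nat_lit 5344) Dv.df))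
(Tr.lf (Fc.ed (nat_lit 13750) (nat_lit 5344) Col.c (nat_lit 4399) (Dv.wd (nat_lit 33) [Mv.b (nat_lit 11317), Mv.b (nat_lit 8178), Mv.f (nat_lit 13749)]))))))
(Tr.nd (nat_lit 13754) (Tr.nd (nat_lit 13752) (Tr.lf (Fc.ed (nat_lit 13751) (nat_lit 5344) Col.f (nat_lit 4905) (Dv.wd (nat_lit 35) [Mv.f (nat_lit 12764), Mv.f (nat_lit 8412), Mv.f (nat_lit 13749)])))
(Tr.nd (nat_lit 13753) (Tr.lf (Fc.ed (nat_lit 13752) (nat_lit 5100) Col.g (nat_lit 5345) Dv.df))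
(Tr.lf (Fc.ed (nat_lit 13753) (nat_lit 5345) Col.d (nat_lit 4377) (Dv.wd (nat_lit 85) [Mv.f (nat_lit 11281), Mv.f (nat_lit 12124), Mv.b (nat_lit 12965), Mv.b (nat_lit 1529), Mv.f (nat_lit 1881), Mv.f (nat_lit 5910), Mv.f (nat_lit 9353), Mv.f (nat_lit 13208), Mv.f (nat_lit 13752)])))))
(Tr.nd (nat_lit 13755) (Tr.lf (Fc.ed (nat_lit 13754) (nat_lit 3300) Col.a (nat_lit 5346) Dv.df))
(Tr.nd (nat_lit 13756) (Tr.lf (Fc.ed (nat_lit 13755) (nat_lit 5316) Col.c (nat_lit 5347) Dv.df))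
(Tr.lf (Fc.ed (nat_lit 13756) (nat_lit 3345) Col.f (nat_lit 5348) Dv.df))))))))
(Tr.nd (nat_lit 13778) (Tr.nd (nat_lit 13767) (Tr.nd (nat_lit 13762) (Tr.nd (nat_lit 13759) (Tr.nd (nat_lit 13758) (Tr.lf (Fc.ed (nat_lit 13757) (nat_lit 5348) Col.d (nat_lit 4771) (Dv.wd (nat_lit 21) [Mv.f (nat_lit 12502), Mv.b (nat_lit 8550), Mv.f (nat_lit 13756)])))
(Tr.lf (Fc.ed (nat_lit 13758) (nat_lit 3470) Col.f (nat_lit 5349) Dv.df)))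
(Tr.nd (nat_lit 13760) (Tr.lf (Fc.ed (nat_lit 13759) (nat_lit 5349) Col.a (nat_lit 3515) (Dv.wd (nat_lit 23) [Mv.b (nat_lit 8886), Mv.b (nat_lit 8799), Mv.f (nat_lit 13758)])))
(Tr.nd (nat_lit 13761) (Tr.lf (Fc.ed (nat_lit 13760) (nat_lit 4594) Col.gi (nat_lit 5350) Dv.df))
(Tr.lf (Fc.ed (nat_lit 13761) (nat_lit 5350) Col.gi (nat_lit 2595) (Dv.wd (nat_lit 24) [Mv.f (nat_lit 9686), Mv.f (nat_lit 11674), Mv.f (nat_lit 13760)]))))))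
(Tr.nd (nat_lit 13764) (Tr.nd (nat_lit 13763) (Tr.lf (Fc.ed (nat_lit 13762) (nat_lit 5007) Col.gi (nat_lit 5351) Dv.df))
(Tr.lf (Fc.ed (nat_lit 13763) (nat_lit 3521) Col.e (nat_lit 5352) Dv.df)))
(Tr.nd (nat_lit 13765) (Tr.lf (Fc.ed (nat_lit 13764) (nat_lit 5352) Col.a (nat_lit 4766) (Dv.wd (nat_lit 15) [Mv.b (nat_lit 12492), Mv.b (nat_lit 10936), Mv.f (nat_lit 13763)])))
(Tr.nd (nat_lit 13766) (Tr.lf (Fc.ed (nat_lit 13765) (nat_lit 5352) Col.b (nat_lit 4301) (Dv.wd (nat_lit 49) [Mv.b (nat_lit 11065), Mv.f (nat_lit 8900), Mv.f (nat_lit 13763)])))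
(Tr.lf (Fc.ed (nat_lit 13766) (nat_lit 5352) Col.d (nat_lit 4191) (Dv.wd (nat_lit 59) [Mv.f (nat_lit 10823), Mv.b (nat_lit 3873), Mv.f (nat_lit 3640), Mv.b (nat_lit 8901), Mv.f (nat_lit 13763)])))))))
(Tr.nd (nat_lit 13772) (Tr.nd (nat_lit 13769) (Tr.nd (nat_lit 13768) (Tr.lf (Fc.ed (nat_lit 13767) (nat_lit 4324) Col.f (nat_lit 5353) Dv.df))
(Tr.lf (Fc.ed (nat_lit 13768) (nat_lit 5353) Col.e (nat_lit 4789) (Dv.wd (nat_lit 22) [Mv.f (nat_lit 12540), Mv.b (nat_lit 9614), Mv.b (nat_lit 8499), Mv.b (nat_lit 11109), Mv.f (nat_lit 13767)]))))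
(Tr.nd (nat_lit 13770) (Tr.lf (Fc.ed (nat_lit 13769) (nat_lit 4491) Col.d (nat_lit 5354) Dv.df))
(Tr.nd (nat_lit 13771) (Tr.lf (Fc.ed (nat_lit 13770) (nat_lit 5354) Col.f (nat_lit 3824) (Dv.wd (nat_lit 11) [Mv.f (nat_lit 9473), Mv.b (nat_lit 11482), Mv.f (nat_lit 13769)])))
(Tr.lf (Fc.ed (nat_lit 13771) (nat_lit 5191) Col.f (nat_lit 5355) Dv.df)))))
(Tr.nd (nat_lit 13775) (Tr.nd (nat_lit 13773) (Tr.lf (Fc.ed (nat_lit 13772) (nat_lit 5355) Col.c (nat_lit 2944) (Dv.wd (nat_lit 34) [Mv.f (nat_lit 12971), Mv.f (nat_lit 13413), Mv.f (nat_lit 13771)])))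
(Tr.nd (nat_lit 13774) (Tr.lf (Fc.ed (nat_lit 13773) (nat_lit 5294) Col.f (nat_lit 5356) Dv.df))
(Tr.lf (Fc.ed (nat_lit 13774) (nat_lit 2063) Col.e (nat_lit 5357) Dv.df))))
(Tr.nd (nat_lit 13776) (Tr.lf (Fc.ed (nat_lit 13775) (nat_lit 5308) Col.f (nat_lit 5358) Dv.df))
(Tr.nd (nat_lit 13777) (Tr.lf (Fc.ed (nat_lit 13776) (nat_lit 5358) Col.a (nat_lit 5348) (Dv.wd (nat_lit 16) [Mv.b (nat_lit 13756), Mv.b (nat_lit 13665), Mv.f (nat_lit 13775)])))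
(Tr.lf (Fc.ed (nat_lit 13777) (nat_lit 3780) Col.g (nat_lit 5359) Dv.df)))))))
(Tr.nd (nat_lit 13788) (Tr.nd (nat_lit 13783) (Tr.nd (nat_lit 13780) (Tr.nd (nat_lit 13779) (Tr.lf (Fc.ed (nat_lit 13778) (nat_lit 5359) Col.g (nat_lit 3849) (Dv.wd (nat_lit 9) [Mv.b (nat_lit 9627), Mv.f (nat_lit 9628), Mv.f (nat_lit 13777)])))
(Tr.lf (Fc.ed (nat_lit 13779) (nat_lit 5058) Col.c (nat_lit 5359) (Dv.wd (nat_lit 135) [Mv.f (nat_lit 13778), Mv.b (nat_lit 9514), Mv.f (nat_lit 10558), Mv.b (nat_lit 5724), Mv.f (nat_lit 6910), Mv.b (nat_lit 4328), Mv.f (nat_lit 3214), Mv.b (nat_lit 4659), Mv.b (nat_lit 8070), Mv.f (nat_lit 13124)]))))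
(Tr.nd (nat_lit 13781) (Tr.lf (Fc.ed (nat_lit 13780) (nat_lit 2303) Col.c (nat_lit 5360) Dv.df))
(Tr.nd (nat_lit 13782) (Tr.lf (Fc.ed (nat_lit 13781) (nat_lit 3438) Col.gi (nat_lit 5361) Dv.df))
(Tr.lf (Fc.ed (nat_lit 13782) (nat_lit 5250) Col.f (nat_lit 5362) Dv.df)))))
(Tr.nd (nat_lit 13785) (Tr.nd (nat_lit 13784) (Tr.lf (Fc.ed (nat_lit 13783) (nat_lit 5362) Col.a (nat_lit 3589) (Dv.wd (nat_lit 23) [Mv.b (nat_lit 9034), Mv.f (nat_lit 13529), Mv.f (nat_lit 13782)])))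
(Tr.lf (Fc.ed (nat_lit 13784) (nat_lit 2347) Col.b (nat_lit 5363) Dv.df)))
(Tr.nd (nat_lit 13786) (Tr.lf (Fc.ed (nat_lit 13785) (nat_lit 5363) Col.d (nat_lit 4862) (Dv.wd (nat_lit 58) [Mv.b (nat_lit 12683), Mv.b (nat_lit 6407), Mv.f (nat_lit 13784)])))
(Tr.nd (nat_lit 13787) (Tr.lf (Fc.ed (nat_lit 13786) (nat_lit 3486) Col.a (nat_lit 5364) Dv.df))
(Tr.lf (Fc.ed (nat_lit 13787) (nat_lit 5364) Col.e (nat_lit 3889) (Dv.wd (nat_lit 56) [Mv.f (nat_lit 9577), Mv.b (nat_lit 8834), Mv.f (nat_lit 13786)])))))))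
(Tr.nd (nat_lit 13793) (Tr.nd (nat_lit 13790) (Tr.nd (nat_lit 13789) (Tr.lf (Fc.ed (nat_lit 13788) (nat_lit 5364) Col.b (nat_lit 4981) (Dv.wd (nat_lit 65) [Mv.b (nat_lit 12915), Mv.f (nat_lit 10867), Mv.b (nat_lit 8628), Mv.f (nat_lit 8833), Mv.f (nat_lit 13786)])))
(Tr.lf (Fc.ed (nat_lit 13789) (nat_lit 5189) Col.a (nat_lit 5365) Dv.df)))
(Tr.nd (nat_lit 13791) (Tr.lf (Fc.ed (nat_lit 13790) (nat_lit 5365) Col.f (nat_lit 3034) (Dv.wd (nat_lit 35) [Mv.f (nat_lit 13406), Mv.b (nat_lit 13409), Mv.f (nat_lit 13789)])))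
(Tr.nd (nat_lit 13792) (Tr.lf (Fc.ed (nat_lit 13791) (nat_lit 4460) Col.a (nat_lit 5366) Dv.df))
(Tr.lf (Fc.ed (nat_lit 13792) (nat_lit 5366) Col.d (nat_lit 4875) (Dv.wd (nat_lit 28) [Mv.b (nat_lit 12708), Mv.f (nat_lit 11431), Mv.f (nat_lit 13791)]))))))
(Tr.nd (nat_lit 13796) (Tr.nd (nat_lit 13794) (Tr.lf (Fc.ed (nat_lit 13793) (nat_lit 5366) Col.f (nat_lit 3040) (Dv.wd (nat_lit 35) [Mv.b (nat_lit 12508), Mv.b (nat_lit 12647), Mv.f (nat_lit 13791)])))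
(Tr.nd (nat_lit 13795) (Tr.lf (Fc.ed (nat_lit 13794) (nat_lit 3916) Col.f (nat_lit 5367) Dv.df))
(Tr.lf (Fc.ed (nat_lit 13795) (nat_lit 5367) Col.d (nat_lit 3703) (Dv.wd (nat_lit 21) [Mv.b (nat_lit 9249), Mv.f (nat_lit 9622), Mv.f (nat_lit 13794)])))))
(Tr.nd (nat_lit 13797) (Tr.lf (Fc.ed (nat_lit 13796) (nat_lit 4255) Col.e (nat_lit 5368) Dv.df))
(Tr.nd (nat_lit 13798) (Tr.lf (Fc.ed (nat_lit 13797) (nat_lit 5368) Col.b (nat_lit 5060) (Dv.wd (nat_lit 49) [Mv.b (nat_lit 13131), Mv.b (nat_lit 12980), Mv.f (nat_lit 13796)])))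
(Tr.lf (Fc.ed (nat_lit 13798) (nat_lit 3212) Col.d (nat_lit 5368) (Dv.wd (nat_lit 116) [Mv.f (nat_lit 13797), Mv.b (nat_lit 13129), Mv.f (nat_lit 8283)])))))))))))))
(Tr.nd (nat_lit 14127) (Tr.nd (nat_lit 13963) (Tr.nd (nat_lit 13881) (Tr.nd (nat_lit 13840) (Tr.nd (nat_lit 13819) (Tr.nd (nat_lit 13809) (Tr.nd (nat_lit 13804) (Tr.nd (nat_lit 13801) (Tr.nd (nat_lit 13800) (Tr.lf (Fc.ed (nat_lit 13799) (nat_lit 4255) Col.d (nat_lit 5040) (Dv.wd (nat_lit 36) [Mv.b (nat_lit 13088), Mv.f (nat_lit 12610), Mv.f (nat_lit 9545), Mv.f (nat_lit 13798), Mv.b (nat_lit 13796)])))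
(Tr.lf (Fc.ed (nat_lit 13800) (nat_lit 1954) Col.e (nat_lit 5369) Dv.df)))
(Tr.nd (nat_lit 13802) (Tr.lf (Fc.ed (nat_lit 13801) (nat_lit 5369) Col.a (nat_lit 5221) (Dv.wd (nat_lit 15) [Mv.b (nat_lit 13468), Mv.f (nat_lit 6197), Mv.f (nat_lit 13800)])))
(Tr.nd (nat_lit 13803) (Tr.lf (Fc.ed (nat_lit 13802) (nat_lit 3010) Col.a (nat_lit 5370) Dv.df))
(Tr.lf (Fc.ed (nat_lit 13803) (nat_lit 5370) Col.b (nat_lit 5290) (Dv.wd (nat_lit 65) [Mv.f (nat_lit 13609), Mv.f (nat_lit 6970), Mv.b (nat_lit 3373), Mv.f (nat_lit 7849), Mv.f (nat_lit 13802)]))))))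
(Tr.nd (nat_lit 13806) (Tr.nd (nat_lit 13805) (Tr.lf (Fc.ed (nat_lit 13804) (nat_lit 4535) Col.b (nat_lit 5371) Dv.df))
(Tr.lf (Fc.ed (nat_lit 13805) (nat_lit 5371) Col.e (nat_lit 2184) (Dv.wd (nat_lit 52) [Mv.b (nat_lit 6042), Mv.f (nat_lit 11562), Mv.f (nat_lit 13804)]))))
(Tr.nd (nat_lit 13807) (Tr.lf (Fc.ed (nat_lit 13806) (nat_lit 4219) Col.g (nat_lit 5372) Dv.df))
(Tr.nd (nat_lit 13808) (Tr.lf (Fc.ed (nat_lit 13807) (nat_lit 5372) Col.g (nat_lit 2493) (Dv.wd (nat_lit 9) [Mv.b (nat_lit 9479), Mv.b (nat_lit 10877), Mv.f (nat_lit 13806)])))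
(Tr.lf (Fc.ed (nat_lit 13808) (nat_lit 3087) Col.a (nat_lit 5373) Dv.df))))))
(Tr.nd (nat_lit 13814) (Tr.nd (nat_lit 13811) (Tr.nd (nat_lit 13810) (Tr.lf (Fc.ed (nat_lit 13809) (nat_lit 5373) Col.d (nat_lit 4751) (Dv.wd (nat_lit 28) [Mv.b (nat_lit 12469), Mv.b (nat_lit 8023), Mv.f (nat_lit 13808)])))
(Tr.lf (Fc.ed (nat_lit 13810) (nat_lit 5373) Col.f (nat_lit 5317) (Dv.wd (nat_lit 35) [Mv.f (nat_lit 13705), Mv.f (nat_lit 8712), Mv.f (nat_lit 13808)]))))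
(Tr.nd (nat_lit 13812) (Tr.lf (Fc.ed (nat_lit 13811) (nat_lit 1946) Col.d (nat_lit 5374) Dv.df))
(Tr.nd (nat_lit 13813) (Tr.lf (Fc.ed (nat_lit 13812) (nat_lit 5064) Col.d (nat_lit 5375) Dv.df))
(Tr.lf (Fc.ed (nat_lit 13813) (nat_lit 5153) Col.f (nat_lit 5376) Dv.df)))))
(Tr.nd (nat_lit 13816) (Tr.nd (nat_lit 13815) (Tr.lf (Fc.ed (nat_lit 13814) (nat_lit 5376) Col.d (nat_lit 4396) (Dv.wd (nat_lit 21) [Mv.f (nat_lit 11312), Mv.f (nat_lit 13316), Mv.f (nat_lit 13813)])))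
(Tr.lf (Fc.ed (nat_lit 13815) (nat_lit 2268) Col.e (nat_lit 5377) Dv.df)))
(Tr.nd (nat_lit 13817) (Tr.lf (Fc.ed (nat_lit 13816) (nat_lit 5206) Col.d (nat_lit 5378) Dv.df))
(Tr.nd (nat_lit 13818) (Tr.lf (Fc.ed (nat_lit 13817) (nat_lit 5378) Col.b (nat_lit 2914) (Dv.wd (nat_lit 37) [Mv.b (nat_lit 11870), Mv.b (nat_lit 13440), Mv.f (nat_lit 13816)])))
(Tr.lf (Fc.ed (nat_lit 13818) (nat_lit 4417) Col.c (nat_lit 5379) Dv.df)))))))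
(Tr.nd (nat_lit 13829) (Tr.nd (nat_lit 13824) (Tr.nd (nat_lit 13821) (Tr.nd (nat_lit 13820) (Tr.lf (Fc.ed (nat_lit 13819) (nat_lit 4710) Col.gi (nat_lit 5380) Dv.df))
(Tr.lf (Fc.ed (nat_lit 13820) (nat_lit 5380) Col.gi (nat_lit 3602) (Dv.wd (nat_lit 24) [Mv.b (nat_lit 12700), Mv.f (nat_lit 12699), Mv.f (nat_lit 13819)]))))
(Tr.nd (nat_lit 13822) (Tr.lf (Fc.ed (nat_lit 13821) (nat_lit 5380) Col.e (nat_lit 2877) (Dv.wd (nat_lit 146) [Mv.f (nat_lit 7896), Mv.b (nat_lit 13411), Mv.b (nat_lit 13252), Mv.b (nat_lit 13248), Mv.f (nat_lit 6793), Mv.b (nat_lit 6809), Mv.f (nat_lit 6808), Mv.f (nat_lit 7860), Mv.b (nat_lit 11891), Mv.f (nat_lit 13819)])))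
(Tr.nd (nat_lit 13823) (Tr.lf (Fc.ed (nat_lit 13822) (nat_lit 5121) Col.gi (nat_lit 5201) (Dv.wd (nat_lit 163) [Mv.b (nat_lit 13428), Mv.f (nat_lit 13244), Mv.b (nat_lit 13506), Mv.f (nat_lit 11883), Mv.f (nat_lit 11890), Mv.f (nat_lit 13819), Mv.f (nat_lit 13821), Mv.f (nat_lit 7896), Mv.b (nat_lit 13411), Mv.b (nat_lit 13252)])))
(Tr.lf (Fc.ed (nat_lit 13823) (nat_lit 4665) Col.gi (nat_lit 5121) (Dv.wd (nat_lit 12) [Mv.f (nat_lit 13822), Mv.b (nat_lit 13431), Mv.f (nat_lit 11801)]))))))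
(Tr.nd (nat_lit 13826) (Tr.nd (nat_lit 13825) (Tr.lf (Fc.ed (nat_lit 13824) (nat_lit 4909) Col.gi (nat_lit 5291) (Dv.wd (nat_lit 132) [Mv.b (nat_lit 13612), Mv.b (nat_lit 13252), Mv.f (nat_lit 13822), Mv.f (nat_lit 13429), Mv.f (nat_lit 8410), Mv.f (nat_lit 7468), Mv.b (nat_lit 7467), Mv.b (nat_lit 7590), Mv.b (nat_lit 11802), Mv.f (nat_lit 12772)])))
(Tr.lf (Fc.ed (nat_lit 13825) (nat_lit 5291) Col.f (nat_lit 4841) (Dv.wd (nat_lit 13) [Mv.b (nat_lit 12635), Mv.b (nat_lit 12773), Mv.f (nat_lit 13824)]))))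
(Tr.nd (nat_lit 13827) (Tr.lf (Fc.ed (nat_lit 13826) (nat_lit 4888) Col.gi (nat_lit 5381) Dv.df))
(Tr.nd (nat_lit 13828) (Tr.lf (Fc.ed (nat_lit 13827) (nat_lit 5247) Col.e (nat_lit 5382) Dv.df))
(Tr.lf (Fc.ed (nat_lit 13828) (nat_lit 4835) Col.c (nat_lit 5383) Dv.df))))))
(Tr.nd (nat_lit 13834) (Tr.nd (nat_lit 13831) (Tr.nd (nat_lit 13830) (Tr.lf (Fc.ed (nat_lit 13829) (nat_lit 2915) Col.f (nat_lit 5384) Dv.df))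
(Tr.lf (Fc.ed (nat_lit 13830) (nat_lit 4741) Col.gi (nat_lit 5385) Dv.df)))
(Tr.nd (nat_lit 13832) (Tr.lf (Fc.ed (nat_lit 13831) (nat_lit 4507) Col.d (nat_lit 5386) Dv.df))
(Tr.nd (nat_lit 13833) (Tr.lf (Fc.ed (nat_lit 13832) (nat_lit 5386) Col.e (nat_lit 3193) (Dv.wd (nat_lit 42) [Mv.b (nat_lit 11020), Mv.b (nat_lit 11019), Mv.b (nat_lit 11561), Mv.b (nat_lit 11560), Mv.f (nat_lit 13831)])))
(Tr.lf (Fc.ed (nat_lit 13833) (nat_lit 5203) Col.gi (nat_lit 5386) (Dv.wd (nat_lit 163) [Mv.f (nat_lit 13832), Mv.b (nat_lit 11020), Mv.f (nat_lit 11469), Mv.b (nat_lit 13105), Mv.b (nat_lit 13104), Mv.f (nat_lit 8107), Mv.f (nat_lit 6831), Mv.f (nat_lit 6830), Mv.f (nat_lit 8209), Mv.b (nat_lit 13435)]))))))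
(Tr.nd (nat_lit 13837) (Tr.nd (nat_lit 13835) (Tr.lf (Fc.ed (nat_lit 13834) (nat_lit 3421) Col.a (nat_lit 5387) Dv.df))
(Tr.nd (nat_lit 13836) (Tr.lf (Fc.ed (nat_lit 13835) (nat_lit 5387) Col.f (nat_lit 4380) (Dv.wd (nat_lit 35) [Mv.f (nat_lit 12886), Mv.f (nat_lit 12887), Mv.f (nat_lit 13834)])))
(Tr.lf (Fc.ed (nat_lit 13836) (nat_lit 4810) Col.g (nat_lit 5388) Dv.df))))
(Tr.nd (nat_lit 13838) (Tr.lf (Fc.ed (nat_lit 13837) (nat_lit 3005) Col.b (nat_lit 5389) Dv.df))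
(Tr.nd (nat_lit 13839) (Tr.lf (Fc.ed (nat_lit 13838) (nat_lit 5022) Col.g (nat_lit 5390) Dv.df))
(Tr.lf (Fc.ed (nat_lit 13839) (nat_lit 5390) Col.c (nat_lit 4713) (Dv.wd (nat_lit 83) [Mv.b (nat_lit 11897), Mv.b (nat_lit 8721), Mv.f (nat_lit 5560), Mv.b (nat_lit 3385), Mv.f (nat_lit 4807), Mv.b (nat_lit 10182), Mv.f (nat_lit 8992), Mv.b (nat_lit 13048), Mv.f (nat_lit 13838)])))))))))
(Tr.nd (nat_lit 13860) (Tr.nd (nat_lit 13850) (Tr.nd (nat_lit 13845) (Tr.nd (nat_lit 13842) (Tr.nd (nat_lit 13841) (Tr.lf (Fc.ed (nat_lit 13840) (nat_lit 5248) Col.gi (nat_lit 5391) Dv.df))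
(Tr.lf (Fc.ed (nat_lit 13841) (nat_lit 5391) Col.gi (nat_lit 4872) (Dv.wd (nat_lit 24) [Mv.b (nat_lit 12928), Mv.f (nat_lit 13526), Mv.f (nat_lit 13840)]))))
(Tr.nd (nat_lit 13843) (Tr.lf (Fc.ed (nat_lit 13842) (nat_lit 5391) Col.d (nat_lit 4314) (Dv.wd (nat_lit 53) [Mv.b (nat_lit 11090), Mv.f (nat_lit 7091), Mv.b (nat_lit 6453), Mv.b (nat_lit 12128), Mv.b (nat_lit 4293), Mv.b (nat_lit 1988), Mv.f (nat_lit 2953), Mv.f (nat_lit 12938), Mv.f (nat_lit 13527), Mv.f (nat_lit 13840)])))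
(Tr.nd (nat_lit 13844) (Tr.lf (Fc.ed (nat_lit 13843) (nat_lit 4314) Col.gi (nat_lit 1810) (Dv.wd (nat_lit 163) [Mv.b (nat_lit 5188), Mv.f (nat_lit 3062), Mv.f (nat_lit 12120), Mv.b (nat_lit 2075), Mv.b (nat_lit 1815), Mv.f (nat_lit 2953), Mv.f (nat_lit 12938), Mv.f (nat_lit 13527), Mv.f (nat_lit 13840), Mv.f (nat_lit 13842)])))
(Tr.lf (Fc.ed (nat_lit 13844) (nat_lit 4444) Col.gi (nat_lit 4314) (Dv.wd (nat_lit 12) [Mv.f (nat_lit 13843), Mv.f (nat_lit 13192), Mv.f (nat_lit 13193)]))))))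
(Tr.nd (nat_lit 13847) (Tr.nd (nat_lit 13846) (Tr.lf (Fc.ed (nat_lit 13845) (nat_lit 3460) Col.f (nat_lit 5392) Dv.df))
(Tr.lf (Fc.ed (nat_lit 13846) (nat_lit 5392) Col.a (nat_lit 3750) (Dv.wd (nat_lit 16) [Mv.f (nat_lit 10856), Mv.f (nat_lit 10857), Mv.f (nat_lit 13845)]))))
(Tr.nd (nat_lit 13848) (Tr.lf (Fc.ed (nat_lit 13847) (nat_lit 3104) Col.gi (nat_lit 5393) Dv.df))
(Tr.nd (nat_lit 13849) (Tr.lf (Fc.ed (nat_lit 13848) (nat_lit 5393) Col.gi (nat_lit 5310) (Dv.wd (nat_lit 24) [Mv.b (nat_lit 13668), Mv.f (nat_lit 12135), Mv.f (nat_lit 13847)])))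
(Tr.lf (Fc.ed (nat_lit 13849) (nat_lit 5266) Col.e (nat_lit 5394) Dv.df))))))
(Tr.nd (nat_lit 13855) (Tr.nd (nat_lit 13852) (Tr.nd (nat_lit 13851) (Tr.lf (Fc.ed (nat_lit 13850) (nat_lit 5394) Col.g (nat_lit 4295) (Dv.wd (nat_lit 75) [Mv.f (nat_lit 11053), Mv.b (nat_lit 10923), Mv.b (nat_lit 4532), Mv.b (nat_lit 4530), Mv.b (nat_lit 2336), Mv.b (nat_lit 4875), Mv.f (nat_lit 4874), Mv.f (nat_lit 7836), Mv.f (nat_lit 13565), Mv.f (nat_lit 13849)])))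
(Tr.lf (Fc.ed (nat_lit 13851) (nat_lit 3160) Col.e (nat_lit 5395) Dv.df)))
(Tr.nd (nat_lit 13853) (Tr.lf (Fc.ed (nat_lit 13852) (nat_lit 2766) Col.g (nat_lit 5396) Dv.df))
(Tr.nd (nat_lit 13854) (Tr.lf (Fc.ed (nat_lit 13853) (nat_lit 5396) Col.g (nat_lit 3431) (Dv.wd (nat_lit 9) [Mv.f (nat_lit 8729), Mv.f (nat_lit 8517), Mv.f (nat_lit 13852)])))
(Tr.lf (Fc.ed (nat_lit 13854) (nat_lit 4083) Col.gi (nat_lit 5397) Dv.df)))))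
(Tr.nd (nat_lit 13857) (Tr.nd (nat_lit 13856) (Tr.lf (Fc.ed (nat_lit 13855) (nat_lit 2886) Col.b (nat_lit 5398) Dv.df))
(Tr.lf (Fc.ed (nat_lit 13856) (nat_lit 3679) Col.d (nat_lit 5399) Dv.df)))
(Tr.nd (nat_lit 13858) (Tr.lf (Fc.ed (nat_lit 13857) (nat_lit 5399) Col.a (nat_lit 4891) (Dv.wd (nat_lit 8) [Mv.b (nat_lit 12737), Mv.f (nat_lit 9194), Mv.f (nat_lit 13856)])))
(Tr.nd (nat_lit 13859) (Tr.lf (Fc.ed (nat_lit 13858) (nat_lit 5399) Col.f (nat_lit 4635) (Dv.wd (nat_lit 11) [Mv.f (nat_lit 11751), Mv.f (nat_lit 12213), Mv.f (nat_lit 13856)])))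
(Tr.lf (Fc.ed (nat_lit 13859) (nat_lit 4635) Col.g (nat_lit 5185) (Dv.wd (nat_lit 17) [Mv.b (nat_lit 13400), Mv.b (nat_lit 13857), Mv.f (nat_lit 13858)]))))))))
(Tr.nd (nat_lit 13870) (Tr.nd (nat_lit 13865) (Tr.nd (nat_lit 13862) (Tr.nd (nat_lit 13861) (Tr.lf (Fc.ed (nat_lit 13860) (nat_lit 3093) Col.a (nat_lit 5400) Dv.df))
(Tr.lf (Fc.ed (nat_lit 13861) (nat_lit 5400) Col.gi (nat_lit 3935) (Dv.wd (nat_lit 12) [Mv.b (nat_lit 9699), Mv.b (nat_lit 8038), Mv.f (nat_lit 13860)]))))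
(Tr.nd (nat_lit 13863) (Tr.lf (Fc.ed (nat_lit 13862) (nat_lit 3982) Col.c (nat_lit 5401) Dv.df))
(Tr.nd (nat_lit 13864) (Tr.lf (Fc.ed (nat_lit 13863) (nat_lit 2785) Col.g (nat_lit 5402) Dv.df))
(Tr.lf (Fc.ed (nat_lit 13864) (nat_lit 4886) Col.g (nat_lit 5403) Dv.df)))))
(Tr.nd (nat_lit 13867) (Tr.nd (nat_lit 13866) (Tr.lf (Fc.ed (nat_lit 13865) (nat_lit 5403) Col.g (nat_lit 2825) (Dv.wd (nat_lit 9) [Mv.f (nat_lit 7459), Mv.b (nat_lit 12728), Mv.f (nat_lit 13864)])))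
(Tr.lf (Fc.ed (nat_lit 13866) (nat_lit 3878) Col.c (nat_lit 5404) Dv.df)))
(Tr.nd (nat_lit 13868) (Tr.lf (Fc.ed (nat_lit 13867) (nat_lit 4566) Col.a (nat_lit 5405) Dv.df))
(Tr.nd (nat_lit 13869) (Tr.lf (Fc.ed (nat_lit 13868) (nat_lit 5405) Col.c (nat_lit 5405) (Dv.wd (nat_lit 33) [Mv.b (nat_lit 13867), Mv.f (nat_lit 11622), Mv.f (nat_lit 13867)])))
(Tr.lf (Fc.ed (nat_lit 13869) (nat_lit 5405) Col.f (nat_lit 4739) (Dv.wd (nat_lit 35) [Mv.b (nat_lit 11945), Mv.b (nat_lit 11621), Mv.f (nat_lit 13867)])))))))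
(Tr.nd (nat_lit 13875) (Tr.nd (nat_lit 13872) (Tr.nd (nat_lit 13871) (Tr.lf (Fc.ed (nat_lit 13870) (nat_lit 5015) Col.d (nat_lit 5406) Dv.df))
(Tr.lf (Fc.ed (nat_lit 13871) (nat_lit 5406) Col.a (nat_lit 4706) (Dv.wd (nat_lit 8) [Mv.b (nat_lit 11883), Mv.b (nat_lit 13033), Mv.f (nat_lit 13870)]))))
(Tr.nd (nat_lit 13873) (Tr.lf (Fc.ed (nat_lit 13872) (nat_lit 5406) Col.e (nat_lit 4870) (Dv.wd (nat_lit 42) [Mv.b (nat_lit 12698), Mv.b (nat_lit 12637), Mv.f (nat_lit 12636), Mv.f (nat_lit 13032), Mv.f (nat_lit 13870)])))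
(Tr.nd (nat_lit 13874) (Tr.lf (Fc.ed (nat_lit 13873) (nat_lit 5367) Col.a (nat_lit 5407) Dv.df))
(Tr.lf (Fc.ed (nat_lit 13874) (nat_lit 5407) Col.d (nat_lit 3025) (Dv.wd (nat_lit 28) [Mv.b (nat_lit 9250), Mv.b (nat_lit 13795), Mv.f (nat_lit 13873)]))))))
(Tr.nd (nat_lit 13878) (Tr.nd (nat_lit 13876) (Tr.lf (Fc.ed (nat_lit 13875) (nat_lit 3268) Col.g (nat_lit 5408) Dv.df))
(Tr.nd (nat_lit 13877) (Tr.lf (Fc.ed (nat_lit 13876) (nat_lit 5408) Col.g (nat_lit 4639) (Dv.wd (nat_lit 9) [Mv.f (nat_lit 11758), Mv.b (nat_lit 11657), Mv.f (nat_lit 13875)])))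
(Tr.lf (Fc.ed (nat_lit 13877) (nat_lit 3313) Col.f (nat_lit 5409) Dv.df))))
(Tr.nd (nat_lit 13879) (Tr.lf (Fc.ed (nat_lit 13878) (nat_lit 5409) Col.a (nat_lit 4991) (Dv.wd (nat_lit 23) [Mv.b (nat_lit 12989), Mv.b (nat_lit 8479), Mv.f (nat_lit 13877)])))
(Tr.nd (nat_lit 13880) (Tr.lf (Fc.ed (nat_lit 13879) (nat_lit 4036) Col.gi (nat_lit 5410) Dv.df))
(Tr.lf (Fc.ed (nat_lit 13880) (nat_lit 5405) Col.gi (nat_lit 5411) Dv.df)))))))))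
(Tr.nd (nat_lit 13922) (Tr.nd (nat_lit 13901) (Tr.nd (nat_lit 13891) (Tr.nd (nat_lit 13886) (Tr.nd (nat_lit 13883) (Tr.nd (nat_lit 13882) (Tr.lf (Fc.ed (nat_lit 13881) (nat_lit 5411) Col.gi (nat_lit 3408) (Dv.wd (nat_lit 24) [Mv.b (nat_lit 11621), Mv.f (nat_lit 13867), Mv.f (nat_lit 13880)])))
(Tr.lf (Fc.ed (nat_lit 13882) (nat_lit 3076) Col.g (nat_lit 5412) Dv.df)))
(Tr.nd (nat_lit 13884) (Tr.lf (Fc.ed (nat_lit 13883) (nat_lit 5412) Col.g (nat_lit 5155) (Dv.wd (nat_lit 9) [Mv.b (nat_lit 13319), Mv.f (nat_lit 7997), Mv.f (nat_lit 13882)])))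
(Tr.nd (nat_lit 13885) (Tr.lf (Fc.ed (nat_lit 13884) (nat_lit 5310) Col.a (nat_lit 5413) Dv.df))
(Tr.lf (Fc.ed (nat_lit 13885) (nat_lit 5413) Col.f (nat_lit 3104) (Dv.wd (nat_lit 35) [Mv.b (nat_lit 12135), Mv.f (nat_lit 13668), Mv.f (nat_lit 13884)]))))))
(Tr.nd (nat_lit 13888) (Tr.nd (nat_lit 13887) (Tr.lf (Fc.ed (nat_lit 13886) (nat_lit 2972) Col.e (nat_lit 5414) Dv.df))
(Tr.lf (Fc.ed (nat_lit 13887) (nat_lit 5414) Col.f (nat_lit 5323) (Dv.wd (nat_lit 96) [Mv.b (nat_lit 13712), Mv.f (nat_lit 13031), Mv.b (nat_lit 12693), Mv.f (nat_lit 9875), Mv.f (nat_lit 13886)]))))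
(Tr.nd (nat_lit 13889) (Tr.lf (Fc.ed (nat_lit 13888) (nat_lit 3524) Col.a (nat_lit 5415) Dv.df))
(Tr.nd (nat_lit 13890) (Tr.lf (Fc.ed (nat_lit 13889) (nat_lit 5415) Col.c (nat_lit 5306) (Dv.wd (nat_lit 33) [Mv.f (nat_lit 13645), Mv.f (nat_lit 8908), Mv.f (nat_lit 13888)])))
(Tr.lf (Fc.ed (nat_lit 13890) (nat_lit 5415) Col.f (nat_lit 4796) (Dv.wd (nat_lit 35) [Mv.f (nat_lit 12553), Mv.b (nat_lit 8909), Mv.f (nat_lit 13888)])))))))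
(Tr.nd (nat_lit 13896) (Tr.nd (nat_lit 13893) (Tr.nd (nat_lit 13892) (Tr.lf (Fc.ed (nat_lit 13891) (nat_lit 5373) Col.b (nat_lit 5416) Dv.df))
(Tr.lf (Fc.ed (nat_lit 13892) (nat_lit 5416) Col.d (nat_lit 5019) (Dv.wd (nat_lit 58) [Mv.b (nat_lit 13040), Mv.b (nat_lit 13809), Mv.f (nat_lit 13891)]))))
(Tr.nd (nat_lit 13894) (Tr.lf (Fc.ed (nat_lit 13893) (nat_lit 5416) Col.a (nat_lit 5104) (Dv.wd (nat_lit 98) [Mv.b (nat_lit 13215), Mv.b (nat_lit 7096), Mv.f (nat_lit 8022), Mv.f (nat_lit 13808), Mv.f (nat_lit 13891)])))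
(Tr.nd (nat_lit 13895) (Tr.lf (Fc.ed (nat_lit 13894) (nat_lit 5104) Col.d (nat_lit 4976) (Dv.wd (nat_lit 28) [Mv.f (nat_lit 13326), Mv.b (nat_lit 13892), Mv.f (nat_lit 13893)])))
(Tr.lf (Fc.ed (nat_lit 13895) (nat_lit 4599) Col.a (nat_lit 5417) Dv.df)))))
(Tr.nd (nat_lit 13898) (Tr.nd (nat_lit 13897) (Tr.lf (Fc.ed (nat_lit 13896) (nat_lit 5417) Col.c (nat_lit 3440) (Dv.wd (nat_lit 33) [Mv.b (nat_lit 8746), Mv.f (nat_lit 11684), Mv.f (nat_lit 13895)])))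
(Tr.lf (Fc.ed (nat_lit 13897) (nat_lit 2917) Col.b (nat_lit 5418) Dv.df)))
(Tr.nd (nat_lit 13899) (Tr.lf (Fc.ed (nat_lit 13898) (nat_lit 3712) Col.d (nat_lit 5419) Dv.df))
(Tr.nd (nat_lit 13900) (Tr.lf (Fc.ed (nat_lit 13899) (nat_lit 5294) Col.e (nat_lit 5420) Dv.df))
(Tr.lf (Fc.ed (nat_lit 13900) (nat_lit 5420) Col.d (nat_lit 3937) (Dv.wd (nat_lit 59) [Mv.b (nat_lit 9701), Mv.b (nat_lit 8550), Mv.b (nat_lit 8549), Mv.f (nat_lit 13618), Mv.f (nat_lit 13899)]))))))))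
(Tr.nd (nat_lit 13911) (Tr.nd (nat_lit 13906) (Tr.nd (nat_lit 13903) (Tr.nd (nat_lit 13902) (Tr.lf (Fc.ed (nat_lit 13901) (nat_lit 1739) Col.gi (nat_lit 5421) Dv.df))
(Tr.lf (Fc.ed (nat_lit 13902) (nat_lit 5421) Col.gi (nat_lit 4920) (Dv.wd (nat_lit 24) [Mv.f (nat_lit 12797), Mv.b (nat_lit 12469), Mv.f (nat_lit 13901)]))))
(Tr.nd (nat_lit 13904) (Tr.lf (Fc.ed (nat_lit 13903) (nat_lit 5357) Col.a (nat_lit 5422) Dv.df))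
(Tr.nd (nat_lit 13905) (Tr.lf (Fc.ed (nat_lit 13904) (nat_lit 5422) Col.e (nat_lit 2181) (Dv.wd (nat_lit 56) [Mv.f (nat_lit 6033), Mv.f (nat_lit 13774), Mv.f (nat_lit 13903)])))
(Tr.lf (Fc.ed (nat_lit 13905) (nat_lit 2527) Col.b (nat_lit 5423) Dv.df)))))
(Tr.nd (nat_lit 13908) (Tr.nd (nat_lit 13907) (Tr.lf (Fc.ed (nat_lit 13906) (nat_lit 5194) Col.c (nat_lit 5424) Dv.df))
(Tr.lf (Fc.ed (nat_lit 13907) (nat_lit 5424) Col.g (nat_lit 3405) (Dv.wd (nat_lit 123) [Mv.b (nat_lit 8674), Mv.b (nat_lit 10555), Mv.f (nat_lit 5980), Mv.b (nat_lit 5977), Mv.b (nat_lit 5756), Mv.b (nat_lit 3214), Mv.f (nat_lit 4208), Mv.b (nat_lit 7472), Mv.b (nat_lit 13418), Mv.f (nat_lit 13906)]))))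
(Tr.nd (nat_lit 13909) (Tr.lf (Fc.ed (nat_lit 13908) (nat_lit 5050) Col.gi (nat_lit 5425) Dv.df))
(Tr.nd (nat_lit 13910) (Tr.lf (Fc.ed (nat_lit 13909) (nat_lit 5425) Col.gi (nat_lit 3218) (Dv.wd (nat_lit 24) [Mv.b (nat_lit 12112), Mv.f (nat_lit 13109), Mv.f (nat_lit 13908)])))
(Tr.lf (Fc.ed (nat_lit 13910) (nat_lit 3294) Col.gi (nat_lit 5426) Dv.df))))))
(Tr.nd (nat_lit 13916) (Tr.nd (nat_lit 13913) (Tr.nd (nat_lit 13912) (Tr.lf (Fc.ed (nat_lit 13911) (nat_lit 5426) Col.gi (nat_lit 3088) (Dv.wd (nat_lit 24) [Mv.b (nat_lit 8024), Mv.b (nat_lit 8441), Mv.f (nat_lit 13910)])))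
(Tr.lf (Fc.ed (nat_lit 13912) (nat_lit 2294) Col.d (nat_lit 5427) Dv.df)))
(Tr.nd (nat_lit 13914) (Tr.lf (Fc.ed (nat_lit 13913) (nat_lit 5383) Col.a (nat_lit 5428) Dv.df))
(Tr.nd (nat_lit 13915) (Tr.lf (Fc.ed (nat_lit 13914) (nat_lit 5428) Col.c (nat_lit 5124) (Dv.wd (nat_lit 33) [Mv.f (nat_lit 13254), Mv.f (nat_lit 13828), Mv.f (nat_lit 13913)])))
(Tr.lf (Fc.ed (nat_lit 13915) (nat_lit 2683) Col.a (nat_lit 5429) Dv.df)))))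
(Tr.nd (nat_lit 13919) (Tr.nd (nat_lit 13917) (Tr.lf (Fc.ed (nat_lit 13916) (nat_lit 5429) Col.d (nat_lit 3640) (Dv.wd (nat_lit 28) [Mv.f (nat_lit 9127), Mv.f (nat_lit 7462), Mv.f (nat_lit 13915)])))
(Tr.nd (nat_lit 13918) (Tr.lf (Fc.ed (nat_lit 13917) (nat_lit 5429) Col.e (nat_lit 5146) (Dv.wd (nat_lit 56) [Mv.b (nat_lit 13304), Mv.f (nat_lit 8528), Mv.f (nat_lit 13915)])))
(Tr.lf (Fc.ed (nat_lit 13918) (nat_lit 2917) Col.e (nat_lit 5430) Dv.df))))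
(Tr.nd (nat_lit 13920) (Tr.lf (Fc.ed (nat_lit 13919) (nat_lit 5430) Col.a (nat_lit 5121) (Dv.wd (nat_lit 15) [Mv.b (nat_lit 13248), Mv.f (nat_lit 7660), Mv.f (nat_lit 13918)])))
(Tr.nd (nat_lit 13921) (Tr.lf (Fc.ed (nat_lit 13920) (nat_lit 5430) Col.f (nat_lit 5382) (Dv.wd (nat_lit 96) [Mv.b (nat_lit 13827), Mv.b (nat_lit 13522), Mv.b (nat_lit 7720), Mv.b (nat_lit 7661), Mv.f (nat_lit 13918)])))
(Tr.lf (Fc.ed (nat_lit 13921) (nat_lit 5382) Col.g (nat_lit 5201) (Dv.wd (nat_lit 17) [Mv.b (nat_lit 13822), Mv.b (nat_lit 13919), Mv.f (nat_lit 13920)])))))))))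
(Tr.nd (nat_lit 13942) (Tr.nd (nat_lit 13932) (Tr.nd (nat_lit 13927) (Tr.nd (nat_lit 13924) (Tr.nd (nat_lit 13923) (Tr.lf (Fc.al (nat_lit 13922) (nat_lit 2707) (nat_lit 4467) (Dv.wd (nat_lit 60) [Mv.b (nat_lit 13523), Mv.f (nat_lit 13827), Mv.f (nat_lit 13921), Mv.f (nat_lit 13429), Mv.b (nat_lit 8409), Mv.b (nat_lit 4509), Mv.b (nat_lit 4265), Mv.b (nat_lit 3025), Mv.f (nat_lit 3814), Mv.f (nat_lit 3816), Mv.b (nat_lit 7201)])))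
(Tr.lf (Fc.al (nat_lit 13923) (nat_lit 3306) (nat_lit 3573) (Dv.wd (nat_lit 29) [Mv.f (nat_lit 11442), Mv.b (nat_lit 13922), Mv.b (nat_lit 8467)]))))
(Tr.nd (nat_lit 13925) (Tr.lf (Fc.ed (nat_lit 13924) (nat_lit 2707) Col.d (nat_lit 5247) (Dv.wd (nat_lit 120) [Mv.f (nat_lit 13523), Mv.b (nat_lit 13922)])))
(Tr.nd (nat_lit 13926) (Tr.lf (Fc.al (nat_lit 13925) (nat_lit 2931) (nat_lit 5091) (Dv.wd (nat_lit 117) [Mv.f (nat_lit 13190), Mv.b (nat_lit 13922), Mv.f (nat_lit 7687)])))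
(Tr.lf (Fc.al (nat_lit 13926) (nat_lit 4134) (nat_lit 2697) (Dv.wd (nat_lit 30) [Mv.b (nat_lit 11443), Mv.b (nat_lit 13922), Mv.b (nat_lit 10636)]))))))
(Tr.nd (nat_lit 13929) (Tr.nd (nat_lit 13928) (Tr.lf (Fc.ed (nat_lit 13927) (nat_lit 3306) Col.g (nat_lit 2686) (Dv.wd (nat_lit 129) [Mv.f (nat_lit 9006), Mv.b (nat_lit 13923)])))
(Tr.lf (Fc.al (nat_lit 13928) (nat_lit 5197) (nat_lit 1799) (Dv.wd (nat_lit 129) [Mv.b (nat_lit 9007), Mv.b (nat_lit 13923), Mv.f (nat_lit 13423)]))))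
(Tr.nd (nat_lit 13930) (Tr.lf (Fc.al (nat_lit 13929) (nat_lit 4813) (nat_lit 3602) (Dv.wd (nat_lit 117) [Mv.b (nat_lit 9058), Mv.b (nat_lit 13923), Mv.b (nat_lit 12586)])))
(Tr.nd (nat_lit 13931) (Tr.lf (Fc.al (nat_lit 13930) (nat_lit 3160) (nat_lit 4442) (Dv.wd (nat_lit 30) [Mv.b (nat_lit 11402), Mv.b (nat_lit 13923), Mv.b (nat_lit 8466)])))
(Tr.lf (Fc.al (nat_lit 13931) (nat_lit 2856) (nat_lit 5062) (Dv.wd (nat_lit 120) [Mv.b (nat_lit 13189), Mv.b (nat_lit 13925), Mv.f (nat_lit 7688)])))))))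
(Tr.nd (nat_lit 13937) (Tr.nd (nat_lit 13934) (Tr.nd (nat_lit 13933) (Tr.lf (Fc.ed (nat_lit 13932) (nat_lit 2697) Col.f (nat_lit 2707) (Dv.wd (nat_lit 30) [Mv.b (nat_lit 10636), Mv.f (nat_lit 13926)])))
(Tr.lf (Fc.ed (nat_lit 13933) (nat_lit 1799) Col.g (nat_lit 3306) (Dv.wd (nat_lit 129) [Mv.f (nat_lit 13423), Mv.f (nat_lit 13928)]))))
(Tr.nd (nat_lit 13935) (Tr.lf (Fc.al (nat_lit 13934) (nat_lit 3293) (nat_lit 4328) (Dv.wd (nat_lit 120) [Mv.b (nat_lit 12585), Mv.f (nat_lit 13929), Mv.f (nat_lit 9059)])))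
(Tr.nd (nat_lit 13936) (Tr.lf (Fc.ed (nat_lit 13935) (nat_lit 3602) Col.e (nat_lit 3306) (Dv.wd (nat_lit 117) [Mv.b (nat_lit 12586), Mv.f (nat_lit 13929)])))
(Tr.lf (Fc.ed (nat_lit 13936) (nat_lit 3160) Col.a (nat_lit 2697) (Dv.wd (nat_lit 29) [Mv.b (nat_lit 11403), Mv.b (nat_lit 13930)]))))))
(Tr.nd (nat_lit 13939) (Tr.nd (nat_lit 13938) (Tr.lf (Fc.al (nat_lit 13937) (nat_lit 3512) (nat_lit 4834) (Dv.wd (nat_lit 120) [Mv.b (nat_lit 12624), Mv.b (nat_lit 13930), Mv.b (nat_lit 8882)])))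
(Tr.lf (Fc.ed (nat_lit 13938) (nat_lit 2856) Col.f (nat_lit 3015) (Dv.wd (nat_lit 30) [Mv.b (nat_lit 13134), Mv.b (nat_lit 13931)]))))
(Tr.nd (nat_lit 13940) (Tr.lf (Fc.ed (nat_lit 13939) (nat_lit 3293) Col.a (nat_lit 2856) (Dv.wd (nat_lit 29) [Mv.f (nat_lit 11115), Mv.b (nat_lit 13934)])))
(Tr.nd (nat_lit 13941) (Tr.lf (Fc.ed (nat_lit 13940) (nat_lit 3512) Col.gi (nat_lit 5300) (Dv.wd (nat_lit 128) [Mv.f (nat_lit 13630), Mv.b (nat_lit 13937)])))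
(Tr.lf (Fc.ed (nat_lit 13941) (nat_lit 3512) Col.a (nat_lit 2947) (Dv.wd (nat_lit 29) [Mv.b (nat_lit 12623), Mv.b (nat_lit 13937)]))))))))
(Tr.nd (nat_lit 13952) (Tr.nd (nat_lit 13947) (Tr.nd (nat_lit 13944) (Tr.nd (nat_lit 13943) (Tr.lf (Fc.al (nat_lit 13942) (nat_lit 3468) (nat_lit 3008) (Dv.wd (nat_lit 117) [Mv.f (nat_lit 12622), Mv.b (nat_lit 13937), Mv.b (nat_lit 8881)])))
(Tr.lf (Fc.ed (nat_lit 13943) (nat_lit 3008) Col.g (nat_lit 2245) (Dv.wd (nat_lit 129) [Mv.f (nat_lit 8794), Mv.f (nat_lit 13942)]))))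
(Tr.nd (nat_lit 13945) (Tr.lf (Fc.al (nat_lit 13944) (nat_lit 4593) (nat_lit 1482) (Dv.wd (nat_lit 129) [Mv.b (nat_lit 8795), Mv.f (nat_lit 13942), Mv.f (nat_lit 11672)])))
(Tr.nd (nat_lit 13946) (Tr.lf (Fc.ed (nat_lit 13945) (nat_lit 3008) Col.e (nat_lit 3512) (Dv.wd (nat_lit 117) [Mv.b (nat_lit 8881), Mv.f (nat_lit 13942)])))
(Tr.lf (Fc.ed (nat_lit 13946) (nat_lit 1482) Col.g (nat_lit 3008) (Dv.wd (nat_lit 129) [Mv.f (nat_lit 11672), Mv.f (nat_lit 13944)]))))))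
(Tr.nd (nat_lit 13949) (Tr.nd (nat_lit 13948) (Tr.lf (Fc.al (nat_lit 13947) (nat_lit 3187) (nat_lit 2917) (Dv.wd (nat_lit 129) [Mv.b (nat_lit 11673), Mv.f (nat_lit 13944), Mv.b (nat_lit 8234)])))
(Tr.lf (Fc.ed (nat_lit 13948) (nat_lit 2917) Col.g (nat_lit 1482) (Dv.wd (nat_lit 129) [Mv.b (nat_lit 8234), Mv.f (nat_lit 13947)]))))
(Tr.nd (nat_lit 13950) (Tr.lf (Fc.ed (nat_lit 13949) (nat_lit 2917) Col.gi (nat_lit 2245) (Dv.wd (nat_lit 128) [Mv.f (nat_lit 8233), Mv.f (nat_lit 13947)])))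
(Tr.nd (nat_lit 13951) (Tr.lf (Fc.ed (nat_lit 13950) (nat_lit 5247) Col.a (nat_lit 5166) (Dv.wd (nat_lit 79) [Mv.f (nat_lit 13344), Mv.f (nat_lit 13941), Mv.f (nat_lit 13522)])))
(Tr.lf (Fc.ed (nat_lit 13951) (nat_lit 5166) Col.gi (nat_lit 5078) (Dv.wd (nat_lit 12) [Mv.b (nat_lit 13166), Mv.f (nat_lit 13522), Mv.f (nat_lit 13950)])))))))
(Tr.nd (nat_lit 13957) (Tr.nd (nat_lit 13954) (Tr.nd (nat_lit 13953) (Tr.lf (Fc.ed (nat_lit 13952) (nat_lit 5300) Col.c (nat_lit 5385) (Dv.wd (nat_lit 14) [Mv.b (nat_lit 13830), Mv.f (nat_lit 11948), Mv.b (nat_lit 11800), Mv.f (nat_lit 7399), Mv.b (nat_lit 5265), Mv.f (nat_lit 3816), Mv.f (nat_lit 8175), Mv.b (nat_lit 8882), Mv.f (nat_lit 13940)])))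
(Tr.lf (Fc.ed (nat_lit 13953) (nat_lit 5300) Col.e (nat_lit 5189) (Dv.wd (nat_lit 146) [Mv.b (nat_lit 13408), Mv.b (nat_lit 8271), Mv.b (nat_lit 5151), Mv.f (nat_lit 5152), Mv.b (nat_lit 2932), Mv.f (nat_lit 3814), Mv.f (nat_lit 3816), Mv.f (nat_lit 8175), Mv.b (nat_lit 8882), Mv.f (nat_lit 13940)]))))
(Tr.nd (nat_lit 13955) (Tr.lf (Fc.ed (nat_lit 13954) (nat_lit 2060) Col.gi (nat_lit 4237) (Dv.wd (nat_lit 24) [Mv.b (nat_lit 10906), Mv.f (nat_lit 13939), Mv.b (nat_lit 7528)])))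
(Tr.nd (nat_lit 13956) (Tr.lf (Fc.ed (nat_lit 13955) (nat_lit 4237) Col.gi (nat_lit 1534) (Dv.wd (nat_lit 24) [Mv.f (nat_lit 6806), Mv.f (nat_lit 6807), Mv.f (nat_lit 13954)])))
(Tr.lf (Fc.ed (nat_lit 13956) (nat_lit 3247) Col.gi (nat_lit 5406) (Dv.wd (nat_lit 163) [Mv.f (nat_lit 13872), Mv.b (nat_lit 12698), Mv.f (nat_lit 13955), Mv.f (nat_lit 4573), Mv.b (nat_lit 4571), Mv.f (nat_lit 2088), Mv.f (nat_lit 4591), Mv.f (nat_lit 4593), Mv.f (nat_lit 7881), Mv.f (nat_lit 8347)]))))))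
(Tr.nd (nat_lit 13960) (Tr.nd (nat_lit 13958) (Tr.lf (Fc.al (nat_lit 13957) (nat_lit 1414) (nat_lit 5205) (Dv.wd (nat_lit 71) [Mv.b (nat_lit 13438), Mv.b (nat_lit 12636), Mv.f (nat_lit 12637), Mv.f (nat_lit 13955), Mv.b (nat_lit 4571), Mv.b (nat_lit 1935), Mv.f (nat_lit 1902), Mv.f (nat_lit 2350), Mv.f (nat_lit 2351), Mv.f (nat_lit 4446), Mv.f (nat_lit 4449)])))
(Tr.nd (nat_lit 13959) (Tr.lf (Fc.ed (nat_lit 13958) (nat_lit 1414) Col.gi (nat_lit 4178) (Dv.wd (nat_lit 128) [Mv.f (nat_lit 13438), Mv.b (nat_lit 13957)])))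
(Tr.lf (Fc.ed (nat_lit 13959) (nat_lit 5339) Col.a (nat_lit 5395) (Dv.wd (nat_lit 31) [Mv.b (nat_lit 13851), Mv.f (nat_lit 13936), Mv.f (nat_lit 13742)])))))
(Tr.nd (nat_lit 13961) (Tr.lf (Fc.ed (nat_lit 13960) (nat_lit 5395) Col.f (nat_lit 5406) (Dv.wd (nat_lit 35) [Mv.f (nat_lit 13871), Mv.b (nat_lit 13743), Mv.f (nat_lit 13959)])))
(Tr.nd (nat_lit 13962) (Tr.lf (Fc.ed (nat_lit 13961) (nat_lit 5395) Col.gi (nat_lit 4384) (Dv.wd (nat_lit 12) [Mv.f (nat_lit 11892), Mv.b (nat_lit 13743), Mv.f (nat_lit 13959)])))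
(Tr.lf (Fc.ed (nat_lit 13962) (nat_lit 3247) Col.g (nat_lit 5339) (Dv.wd (nat_lit 9) [Mv.f (nat_lit 13959), Mv.f (nat_lit 13960), Mv.b (nat_lit 13956)])))))))))))
(Tr.nd (nat_lit 14045) (Tr.nd (nat_lit 14004) (Tr.nd (nat_lit 13983) (Tr.nd (nat_lit 13973) (Tr.nd (nat_lit 13968) (Tr.nd (nat_lit 13965) (Tr.nd (nat_lit 13964) (Tr.lf (Fc.ed (nat_lit 13963) (nat_lit 5078) Col.d (nat_lit 5300) (Dv.wd (nat_lit 60) [Mv.f (nat_lit 13953), Mv.f (nat_lit 13410), Mv.b (nat_lit 13252), Mv.b (nat_lit 13823), Mv.f (nat_lit 11802), Mv.b (nat_lit 8348), Mv.f (nat_lit 13962), Mv.b (nat_lit 13742), Mv.b (nat_lit 7721), Mv.f (nat_lit 13166)])))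
(Tr.lf (Fc.ed (nat_lit 13964) (nat_lit 4859) Col.g (nat_lit 5431) Dv.df)))
(Tr.nd (nat_lit 13966) (Tr.lf (Fc.ed (nat_lit 13965) (nat_lit 3993) Col.b (nat_lit 5432) Dv.df))
(Tr.nd (nat_lit 13967) (Tr.lf (Fc.ed (nat_lit 13966) (nat_lit 4784) Col.f (nat_lit 5433) Dv.df))
(Tr.lf (Fc.ed (nat_lit 13967) (nat_lit 5433) Col.a (nat_lit 4856) (Dv.wd (nat_lit 16) [Mv.b (nat_lit 12671), Mv.b (nat_lit 12530), Mv.f (nat_lit 13966)]))))))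
(Tr.nd (nat_lit 13970) (Tr.nd (nat_lit 13969) (Tr.lf (Fc.ed (nat_lit 13968) (nat_lit 5433) Col.c (nat_lit 2023) (Dv.wd (nat_lit 34) [Mv.f (nat_lit 8945), Mv.f (nat_lit 12529), Mv.f (nat_lit 13966)])))
(Tr.lf (Fc.ed (nat_lit 13969) (nat_lit 2957) Col.e (nat_lit 5434) Dv.df)))
(Tr.nd (nat_lit 13971) (Tr.lf (Fc.ed (nat_lit 13970) (nat_lit 4708) Col.g (nat_lit 5435) Dv.df))
(Tr.nd (nat_lit 13972) (Tr.lf (Fc.ed (nat_lit 13971) (nat_lit 5435) Col.c (nat_lit 5399) (Dv.wd (nat_lit 83) [Mv.b (nat_lit 13856), Mv.f (nat_lit 9195), Mv.f (nat_lit 12199), Mv.f (nat_lit 3095), Mv.b (nat_lit 5936), Mv.f (nat_lit 13277), Mv.b (nat_lit 7622), Mv.b (nat_lit 11886), Mv.f (nat_lit 13970)])))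
(Tr.lf (Fc.ed (nat_lit 13972) (nat_lit 4671) Col.f (nat_lit 5435) (Dv.wd (nat_lit 64) [Mv.f (nat_lit 13971), Mv.f (nat_lit 13858), Mv.b (nat_lit 13653)])))))))
(Tr.nd (nat_lit 13978) (Tr.nd (nat_lit 13975) (Tr.nd (nat_lit 13974) (Tr.lf (Fc.ed (nat_lit 13973) (nat_lit 5435) Col.a (nat_lit 4945) (Dv.wd (nat_lit 23) [Mv.b (nat_lit 12848), Mv.b (nat_lit 12655), Mv.f (nat_lit 13972)])))
(Tr.lf (Fc.ed (nat_lit 13974) (nat_lit 5054) Col.f (nat_lit 4945) (Dv.wd (nat_lit 35) [Mv.b (nat_lit 13973), Mv.b (nat_lit 13972), Mv.b (nat_lit 13654)]))))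
(Tr.nd (nat_lit 13976) (Tr.lf (Fc.ed (nat_lit 13975) (nat_lit 4945) Col.c (nat_lit 4891) (Dv.wd (nat_lit 34) [Mv.f (nat_lit 12738), Mv.f (nat_lit 13118), Mv.f (nat_lit 13974)])))
(Tr.nd (nat_lit 13977) (Tr.lf (Fc.ed (nat_lit 13976) (nat_lit 1675) Col.c (nat_lit 5436) Dv.df))
(Tr.lf (Fc.ed (nat_lit 13977) (nat_lit 2764) Col.b (nat_lit 5437) Dv.df)))))
(Tr.nd (nat_lit 13980) (Tr.nd (nat_lit 13979) (Tr.lf (Fc.ed (nat_lit 13978) (nat_lit 4171) Col.a (nat_lit 5438) Dv.df))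
(Tr.lf (Fc.ed (nat_lit 13979) (nat_lit 5438) Col.f (nat_lit 4501) (Dv.wd (nat_lit 10) [Mv.f (nat_lit 11500), Mv.f (nat_lit 10786), Mv.f (nat_lit 13978)]))))
(Tr.nd (nat_lit 13981) (Tr.lf (Fc.ed (nat_lit 13980) (nat_lit 5213) Col.b (nat_lit 5439) Dv.df))
(Tr.nd (nat_lit 13982) (Tr.lf (Fc.ed (nat_lit 13981) (nat_lit 4993) Col.c (nat_lit 5440) Dv.df))
(Tr.lf (Fc.ed (nat_lit 13982) (nat_lit 2707) Col.b (nat_lit 5441) Dv.df)))))))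
(Tr.nd (nat_lit 13993) (Tr.nd (nat_lit 13988) (Tr.nd (nat_lit 13985) (Tr.nd (nat_lit 13984) (Tr.lf (Fc.ed (nat_lit 13983) (nat_lit 1282) Col.e (nat_lit 5442) Dv.df))
(Tr.lf (Fc.ed (nat_lit 13984) (nat_lit 5434) Col.d (nat_lit 5443) Dv.df)))
(Tr.nd (nat_lit 13986) (Tr.lf (Fc.ed (nat_lit 13985) (nat_lit 5443) Col.gi (nat_lit 5166) (Dv.wd (nat_lit 151) [Mv.b (nat_lit 13343), Mv.b (nat_lit 13933), Mv.f (nat_lit 5169), Mv.b (nat_lit 2439), Mv.b (nat_lit 1429), Mv.f (nat_lit 2423), Mv.b (nat_lit 4897), Mv.b (nat_lit 7738), Mv.f (nat_lit 13969), Mv.f (nat_lit 13984)])))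
(Tr.nd (nat_lit 13987) (Tr.lf (Fc.ed (nat_lit 13986) (nat_lit 2947) Col.gi (nat_lit 5443) (Dv.wd (nat_lit 12) [Mv.f (nat_lit 13985), Mv.f (nat_lit 13344), Mv.f (nat_lit 13941)])))
(Tr.lf (Fc.ed (nat_lit 13987) (nat_lit 5382) Col.d (nat_lit 5444) Dv.df)))))
(Tr.nd (nat_lit 13990) (Tr.nd (nat_lit 13989) (Tr.lf (Fc.ed (nat_lit 13988) (nat_lit 5444) Col.e (nat_lit 2856) (Dv.wd (nat_lit 42) [Mv.b (nat_lit 7688), Mv.b (nat_lit 7687), Mv.f (nat_lit 13924), Mv.f (nat_lit 13827), Mv.f (nat_lit 13987)])))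
(Tr.lf (Fc.ed (nat_lit 13989) (nat_lit 4665) Col.g (nat_lit 5382) (Dv.wd (nat_lit 55) [Mv.f (nat_lit 13987), Mv.f (nat_lit 13988), Mv.f (nat_lit 7529), Mv.b (nat_lit 4571), Mv.b (nat_lit 1935), Mv.b (nat_lit 1901), Mv.b (nat_lit 2872), Mv.b (nat_lit 4510), Mv.f (nat_lit 7589), Mv.b (nat_lit 11802)]))))
(Tr.nd (nat_lit 13991) (Tr.lf (Fc.ed (nat_lit 13990) (nat_lit 5444) Col.gi (nat_lit 3034) (Dv.wd (nat_lit 71) [Mv.b (nat_lit 7896), Mv.b (nat_lit 13821), Mv.f (nat_lit 13820), Mv.f (nat_lit 13935), Mv.f (nat_lit 13343), Mv.f (nat_lit 13951), Mv.f (nat_lit 13963), Mv.b (nat_lit 13629), Mv.f (nat_lit 13827), Mv.f (nat_lit 13987)])))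
(Tr.nd (nat_lit 13992) (Tr.lf (Fc.ed (nat_lit 13991) (nat_lit 5189) Col.gi (nat_lit 5444) (Dv.wd (nat_lit 12) [Mv.f (nat_lit 13990), Mv.b (nat_lit 13790), Mv.b (nat_lit 13789)])))
(Tr.lf (Fc.ed (nat_lit 13992) (nat_lit 3789) Col.a (nat_lit 5445) Dv.df))))))
(Tr.nd (nat_lit 13998) (Tr.nd (nat_lit 13995) (Tr.nd (nat_lit 13994) (Tr.lf (Fc.ed (nat_lit 13993) (nat_lit 5445) Col.f (nat_lit 4098) (Dv.wd (nat_lit 35) [Mv.b (nat_lit 12707), Mv.b (nat_lit 12706), Mv.f (nat_lit 13992)])))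
(Tr.lf (Fc.ed (nat_lit 13994) (nat_lit 5173) Col.c (nat_lit 5445) (Dv.wd (nat_lit 67) [Mv.f (nat_lit 13993), Mv.f (nat_lit 12932), Mv.f (nat_lit 13357)]))))
(Tr.nd (nat_lit 13996) (Tr.lf (Fc.ed (nat_lit 13995) (nat_lit 2625) Col.gi (nat_lit 5446) Dv.df))
(Tr.nd (nat_lit 13997) (Tr.lf (Fc.ed (nat_lit 13996) (nat_lit 4140) Col.d (nat_lit 5447) Dv.df))
(Tr.lf (Fc.ed (nat_lit 13997) (nat_lit 5447) Col.gi (nat_lit 5089) (Dv.wd (nat_lit 111) [Mv.b (nat_lit 13185), Mv.f (nat_lit 12321), Mv.b (nat_lit 12323), Mv.b (nat_lit 12326), Mv.f (nat_lit 12737), Mv.b (nat_lit 12739), Mv.f (nat_lit 13651), Mv.f (nat_lit 10704), Mv.f (nat_lit 13996)]))))))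
(Tr.nd (nat_lit 14001) (Tr.nd (nat_lit 13999) (Tr.lf (Fc.ed (nat_lit 13998) (nat_lit 3116) Col.e (nat_lit 5448) Dv.df))
(Tr.nd (nat_lit 14000) (Tr.lf (Fc.ed (nat_lit 13999) (nat_lit 4458) Col.d (nat_lit 5449) Dv.df))
(Tr.lf (Fc.ed (nat_lit 14000) (nat_lit 5449) Col.g (nat_lit 4827) (Dv.wd (nat_lit 139) [Mv.b (nat_lit 12967), Mv.b (nat_lit 12894), Mv.f (nat_lit 12771), Mv.f (nat_lit 4456), Mv.b (nat_lit 6684), Mv.f (nat_lit 6844), Mv.f (nat_lit 6845), Mv.f (nat_lit 11428), Mv.f (nat_lit 13999)])))))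
(Tr.nd (nat_lit 14002) (Tr.lf (Fc.ed (nat_lit 14001) (nat_lit 2872) Col.b (nat_lit 5450) Dv.df))
(Tr.nd (nat_lit 14003) (Tr.lf (Fc.ed (nat_lit 14002) (nat_lit 5450) Col.f (nat_lit 5418) (Dv.wd (nat_lit 20) [Mv.b (nat_lit 13897), Mv.f (nat_lit 7661), Mv.f (nat_lit 14001)])))
(Tr.lf (Fc.ed (nat_lit 14003) (nat_lit 2863) Col.gi (nat_lit 5451) Dv.df))))))))
(Tr.nd (nat_lit 14024) (Tr.nd (nat_lit 14014) (Tr.nd (nat_lit 14009) (Tr.nd (nat_lit 14006) (Tr.nd (nat_lit 14005) (Tr.lf (Fc.ed (nat_lit 14004) (nat_lit 5451) Col.gi (nat_lit 5269) (Dv.wd (nat_lit 24) [Mv.b (nat_lit 13578), Mv.b (nat_lit 13577), Mv.f (nat_lit 14003)])))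
(Tr.lf (Fc.ed (nat_lit 14005) (nat_lit 5375) Col.gi (nat_lit 5452) Dv.df)))
(Tr.nd (nat_lit 14007) (Tr.lf (Fc.ed (nat_lit 14006) (nat_lit 5452) Col.b (nat_lit 5267) (Dv.wd (nat_lit 175) [Mv.b (nat_lit 13567), Mv.f (nat_lit 10158), Mv.b (nat_lit 5032), Mv.b (nat_lit 1880), Mv.f (nat_lit 1565), Mv.f (nat_lit 798), Mv.b (nat_lit 1618), Mv.b (nat_lit 1616), Mv.f (nat_lit 1094), Mv.b (nat_lit 423), Mv.b (nat_lit 421), Mv.f (nat_lit 741), Mv.f (nat_lit 1330), Mv.b (nat_lit 3009), Mv.b (nat_lit 3008), Mv.f (nat_lit 6286), Mv.b (nat_lit 13138), Mv.f (nat_lit 13812), Mv.f (nat_lit 14005)])))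
(Tr.nd (nat_lit 14008) (Tr.lf (Fc.ed (nat_lit 14007) (nat_lit 2966) Col.g (nat_lit 5453) Dv.df))
(Tr.lf (Fc.ed (nat_lit 14008) (nat_lit 5453) Col.g (nat_lit 3723) (Dv.wd (nat_lit 9) [Mv.f (nat_lit 9291), Mv.f (nat_lit 7752), Mv.f (nat_lit 14007)]))))))
(Tr.nd (nat_lit 14011) (Tr.nd (nat_lit 14010) (Tr.lf (Fc.ed (nat_lit 14009) (nat_lit 3685) Col.g (nat_lit 5454) Dv.df))
(Tr.lf (Fc.ed (nat_lit 14010) (nat_lit 5454) Col.g (nat_lit 5217) (Dv.wd (nat_lit 9) [Mv.f (nat_lit 13461), Mv.b (nat_lit 9206), Mv.f (nat_lit 14009)]))))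
(Tr.nd (nat_lit 14012) (Tr.lf (Fc.ed (nat_lit 14011) (nat_lit 2403) Col.c (nat_lit 5455) Dv.df))
(Tr.nd (nat_lit 14013) (Tr.lf (Fc.ed (nat_lit 14012) (nat_lit 5455) Col.a (nat_lit 4381) (Dv.wd (nat_lit 19) [Mv.b (nat_lit 11288), Mv.f (nat_lit 7705), Mv.f (nat_lit 14011)])))
(Tr.lf (Fc.ed (nat_lit 14013) (nat_lit 5455) Col.f (nat_lit 5257) (Dv.wd (nat_lit 26) [Mv.f (nat_lit 13544), Mv.f (nat_lit 6509), Mv.f (nat_lit 14011)])))))))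
(Tr.nd (nat_lit 14019) (Tr.nd (nat_lit 14016) (Tr.nd (nat_lit 14015) (Tr.lf (Fc.ed (nat_lit 14014) (nat_lit 5398) Col.a (nat_lit 5456) Dv.df))
(Tr.lf (Fc.ed (nat_lit 14015) (nat_lit 5379) Col.d (nat_lit 5457) Dv.df)))
(Tr.nd (nat_lit 14017) (Tr.lf (Fc.ed (nat_lit 14016) (nat_lit 2953) Col.a (nat_lit 5458) Dv.df))
(Tr.nd (nat_lit 14018) (Tr.lf (Fc.ed (nat_lit 14017) (nat_lit 5458) Col.d (nat_lit 5400) (Dv.wd (nat_lit 28) [Mv.b (nat_lit 13860), Mv.b (nat_lit 8036), Mv.f (nat_lit 14016)])))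
(Tr.lf (Fc.ed (nat_lit 14018) (nat_lit 3171) Col.b (nat_lit 5459) Dv.df)))))
(Tr.nd (nat_lit 14021) (Tr.nd (nat_lit 14020) (Tr.lf (Fc.ed (nat_lit 14019) (nat_lit 5165) Col.d (nat_lit 5460) Dv.df))
(Tr.lf (Fc.ed (nat_lit 14020) (nat_lit 5460) Col.e (nat_lit 3228) (Dv.wd (nat_lit 70) [Mv.f (nat_lit 8312), Mv.b (nat_lit 3892), Mv.f (nat_lit 2939), Mv.f (nat_lit 1738), Mv.b (nat_lit 3811), Mv.f (nat_lit 4937), Mv.b (nat_lit 8395), Mv.f (nat_lit 12541), Mv.f (nat_lit 13342), Mv.f (nat_lit 14019)]))))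
(Tr.nd (nat_lit 14022) (Tr.lf (Fc.ed (nat_lit 14021) (nat_lit 5165) Col.e (nat_lit 5203) (Dv.wd (nat_lit 42) [Mv.f (nat_lit 13435), Mv.b (nat_lit 8408), Mv.b (nat_lit 8407), Mv.b (nat_lit 14020), Mv.b (nat_lit 14019)])))
(Tr.nd (nat_lit 14023) (Tr.lf (Fc.ed (nat_lit 14022) (nat_lit 3986) Col.f (nat_lit 5461) Dv.df))
(Tr.lf (Fc.ed (nat_lit 14023) (nat_lit 5461) Col.a (nat_lit 3617) (Dv.wd (nat_lit 16) [Mv.b (nat_lit 10938), Mv.b (nat_lit 10937), Mv.f (nat_lit 14022)]))))))))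
(Tr.nd (nat_lit 14034) (Tr.nd (nat_lit 14029) (Tr.nd (nat_lit 14026) (Tr.nd (nat_lit 14025) (Tr.lf (Fc.ed (nat_lit 14024) (nat_lit 3040) Col.b (nat_lit 5462) Dv.df))
(Tr.lf (Fc.ed (nat_lit 14025) (nat_lit 5462) Col.d (nat_lit 5389) (Dv.wd (nat_lit 58) [Mv.b (nat_lit 13837), Mv.b (nat_lit 7909), Mv.f (nat_lit 14024)]))))
(Tr.nd (nat_lit 14027) (Tr.lf (Fc.ed (nat_lit 14026) (nat_lit 3506) Col.g (nat_lit 5463) Dv.df))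
(Tr.nd (nat_lit 14028) (Tr.lf (Fc.ed (nat_lit 14027) (nat_lit 5463) Col.g (nat_lit 4392) (Dv.wd (nat_lit 9) [Mv.b (nat_lit 11303), Mv.f (nat_lit 9356), Mv.f (nat_lit 14026)])))
(Tr.lf (Fc.ed (nat_lit 14028) (nat_lit 5441) Col.e (nat_lit 5464) Dv.df)))))
(Tr.nd (nat_lit 14031) (Tr.nd (nat_lit 14030) (Tr.lf (Fc.ed (nat_lit 14029) (nat_lit 5464) Col.b (nat_lit 2931) (Dv.wd (nat_lit 49) [Mv.b (nat_lit 7687), Mv.f (nat_lit 13982), Mv.f (nat_lit 14028)])))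
(Tr.lf (Fc.ed (nat_lit 14030) (nat_lit 2500) Col.gi (nat_lit 5465) Dv.df)))
(Tr.nd (nat_lit 14032) (Tr.lf (Fc.ed (nat_lit 14031) (nat_lit 5465) Col.gi (nat_lit 4277) (Dv.wd (nat_lit 24) [Mv.f (nat_lit 11001), Mv.b (nat_lit 9334), Mv.f (nat_lit 14030)])))
(Tr.nd (nat_lit 14033) (Tr.lf (Fc.ed (nat_lit 14032) (nat_lit 5437) Col.f (nat_lit 5466) Dv.df))
(Tr.lf (Fc.ed (nat_lit 14033) (nat_lit 5187) Col.g (nat_lit 5467) Dv.df))))))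
(Tr.nd (nat_lit 14039) (Tr.nd (nat_lit 14036) (Tr.nd (nat_lit 14035) (Tr.lf (Fc.ed (nat_lit 14034) (nat_lit 5467) Col.g (nat_lit 2163) (Dv.wd (nat_lit 9) [Mv.f (nat_lit 8702), Mv.b (nat_lit 13405), Mv.f (nat_lit 14033)])))
(Tr.lf (Fc.ed (nat_lit 14035) (nat_lit 2809) Col.b (nat_lit 5468) Dv.df)))
(Tr.nd (nat_lit 14037) (Tr.lf (Fc.ed (nat_lit 14036) (nat_lit 5468) Col.d (nat_lit 4554) (Dv.wd (nat_lit 58) [Mv.b (nat_lit 11595), Mv.f (nat_lit 7426), Mv.f (nat_lit 14035)])))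
(Tr.nd (nat_lit 14038) (Tr.lf (Fc.ed (nat_lit 14037) (nat_lit 5437) Col.gi (nat_lit 5469) Dv.df))
(Tr.lf (Fc.ed (nat_lit 14038) (nat_lit 4084) Col.g (nat_lit 5470) Dv.df)))))
(Tr.nd (nat_lit 14042) (Tr.nd (nat_lit 14040) (Tr.lf (Fc.ed (nat_lit 14039) (nat_lit 5470) Col.g (nat_lit 5112) (Dv.wd (nat_lit 9) [Mv.b (nat_lit 13233), Mv.b (nat_lit 9956), Mv.f (nat_lit 14038)])))
(Tr.nd (nat_lit 14041) (Tr.lf (Fc.ed (nat_lit 14040) (nat_lit 5404) Col.gi (nat_lit 5471) Dv.df))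
(Tr.lf (Fc.ed (nat_lit 14041) (nat_lit 3665) Col.b (nat_lit 5472) Dv.df))))
(Tr.nd (nat_lit 14043) (Tr.lf (Fc.ed (nat_lit 14042) (nat_lit 5472) Col.d (nat_lit 3610) (Dv.wd (nat_lit 58) [Mv.f (nat_lit 9071), Mv.f (nat_lit 10553), Mv.f (nat_lit 14041)])))
(Tr.nd (nat_lit 14044) (Tr.lf (Fc.ed (nat_lit 14043) (nat_lit 5472) Col.e (nat_lit 4882) (Dv.wd (nat_lit 52) [Mv.b (nat_lit 12719), Mv.f (nat_lit 9169), Mv.f (nat_lit 14041)])))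
(Tr.lf (Fc.ed (nat_lit 14044) (nat_lit 5439) Col.g (nat_lit 5473) Dv.df)))))))))
(Tr.nd (nat_lit 14086) (Tr.nd (nat_lit 14065) (Tr.nd (nat_lit 14055) (Tr.nd (nat_lit 14050) (Tr.nd (nat_lit 14047) (Tr.nd (nat_lit 14046) (Tr.lf (Fc.ed (nat_lit 14045) (nat_lit 5473) Col.b (nat_lit 5010) (Dv.wd (nat_lit 104) [Mv.b (nat_lit 13022), Mv.b (nat_lit 5313), Mv.b (nat_lit 4859), Mv.b (nat_lit 4904), Mv.f (nat_lit 8625), Mv.f (nat_lit 9536), Mv.b (nat_lit 10455), Mv.f (nat_lit 13454), Mv.f (nat_lit 13980), Mv.f (nat_lit 14044)])))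
(Tr.lf (Fc.ed (nat_lit 14046) (nat_lit 5398) Col.d (nat_lit 5474) Dv.df)))
(Tr.nd (nat_lit 14048) (Tr.lf (Fc.ed (nat_lit 14047) (nat_lit 3950) Col.b (nat_lit 5475) Dv.df))
(Tr.nd (nat_lit 14049) (Tr.lf (Fc.ed (nat_lit 14048) (nat_lit 5084) Col.a (nat_lit 5476) Dv.df))
(Tr.lf (Fc.ed (nat_lit 14049) (nat_lit 5476) Col.c (nat_lit 4231) (Dv.wd (nat_lit 33) [Mv.b (nat_lit 11816), Mv.f (nat_lit 13177), Mv.f (nat_lit 14048)]))))))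
(Tr.nd (nat_lit 14052) (Tr.nd (nat_lit 14051) (Tr.lf (Fc.ed (nat_lit 14050) (nat_lit 3993) Col.d (nat_lit 5477) Dv.df))
(Tr.lf (Fc.ed (nat_lit 14051) (nat_lit 5477) Col.f (nat_lit 5093) (Dv.wd (nat_lit 11) [Mv.f (nat_lit 13195), Mv.f (nat_lit 12807), Mv.f (nat_lit 14050)]))))
(Tr.nd (nat_lit 14053) (Tr.lf (Fc.ed (nat_lit 14052) (nat_lit 4846) Col.b (nat_lit 5478) Dv.df))
(Tr.nd (nat_lit 14054) (Tr.lf (Fc.ed (nat_lit 14053) (nat_lit 5478) Col.f (nat_lit 3163) (Dv.wd (nat_lit 20) [Mv.f (nat_lit 8182), Mv.b (nat_lit 12650), Mv.f (nat_lit 14052)])))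
(Tr.lf (Fc.ed (nat_lit 14054) (nat_lit 4814) Col.a (nat_lit 5478) (Dv.wd (nat_lit 79) [Mv.f (nat_lit 14053), Mv.b (nat_lit 9941), Mv.f (nat_lit 12587)])))))))
(Tr.nd (nat_lit 14060) (Tr.nd (nat_lit 14057) (Tr.nd (nat_lit 14056) (Tr.lf (Fc.ed (nat_lit 14055) (nat_lit 5405) Col.g (nat_lit 5479) Dv.df))
(Tr.lf (Fc.ed (nat_lit 14056) (nat_lit 5479) Col.g (nat_lit 3408) (Dv.wd (nat_lit 9) [Mv.f (nat_lit 11945), Mv.b (nat_lit 13869), Mv.f (nat_lit 14055)]))))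
(Tr.nd (nat_lit 14058) (Tr.lf (Fc.ed (nat_lit 14057) (nat_lit 4656) Col.a (nat_lit 5480) Dv.df))
(Tr.nd (nat_lit 14059) (Tr.lf (Fc.ed (nat_lit 14058) (nat_lit 5480) Col.f (nat_lit 4622) (Dv.wd (nat_lit 10) [Mv.b (nat_lit 11724), Mv.f (nat_lit 11783), Mv.f (nat_lit 14057)])))
(Tr.lf (Fc.ed (nat_lit 14059) (nat_lit 4261) Col.c (nat_lit 5481) Dv.df)))))
(Tr.nd (nat_lit 14062) (Tr.nd (nat_lit 14061) (Tr.lf (Fc.ed (nat_lit 14060) (nat_lit 4779) Col.d (nat_lit 5482) Dv.df))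
(Tr.lf (Fc.ed (nat_lit 14061) (nat_lit 5482) Col.b (nat_lit 2240) (Dv.wd (nat_lit 37) [Mv.f (nat_lit 6200), Mv.f (nat_lit 12519), Mv.f (nat_lit 14060)]))))
(Tr.nd (nat_lit 14063) (Tr.lf (Fc.ed (nat_lit 14062) (nat_lit 5410) Col.gi (nat_lit 5483) Dv.df))
(Tr.nd (nat_lit 14064) (Tr.lf (Fc.ed (nat_lit 14063) (nat_lit 4379) Col.gi (nat_lit 5484) Dv.df))
(Tr.lf (Fc.ed (nat_lit 14064) (nat_lit 5484) Col.gi (nat_lit 3412) (Dv.wd (nat_lit 24) [Mv.b (nat_lit 11709), Mv.f (nat_lit 11708), Mv.f (nat_lit 14063)]))))))))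
(Tr.nd (nat_lit 14075) (Tr.nd (nat_lit 14070) (Tr.nd (nat_lit 14067) (Tr.nd (nat_lit 14066) (Tr.lf (Fc.ed (nat_lit 14065) (nat_lit 3252) Col.b (nat_lit 5485) Dv.df))
(Tr.lf (Fc.ed (nat_lit 14066) (nat_lit 5485) Col.c (nat_lit 5484) (Dv.wd (nat_lit 135) [Mv.b (nat_lit 14063), Mv.b (nat_lit 11284), Mv.f (nat_lit 6018), Mv.f (nat_lit 5496), Mv.f (nat_lit 6634), Mv.b (nat_lit 6636), Mv.f (nat_lit 5914), Mv.f (nat_lit 5345), Mv.f (nat_lit 8358), Mv.f (nat_lit 14065)]))))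
(Tr.nd (nat_lit 14068) (Tr.lf (Fc.ed (nat_lit 14067) (nat_lit 3335) Col.g (nat_lit 5486) Dv.df))
(Tr.nd (nat_lit 14069) (Tr.lf (Fc.ed (nat_lit 14068) (nat_lit 5486) Col.g (nat_lit 5035) (Dv.wd (nat_lit 9) [Mv.f (nat_lit 13078), Mv.f (nat_lit 8525), Mv.f (nat_lit 14067)])))
(Tr.lf (Fc.ed (nat_lit 14069) (nat_lit 3148) Col.e (nat_lit 5487) Dv.df)))))
(Tr.nd (nat_lit 14072) (Tr.nd (nat_lit 14071) (Tr.lf (Fc.ed (nat_lit 14070) (nat_lit 5373) Col.gi (nat_lit 5488) Dv.df))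
(Tr.lf (Fc.ed (nat_lit 14071) (nat_lit 5488) Col.gi (nat_lit 3423) (Dv.wd (nat_lit 24) [Mv.f (nat_lit 8712), Mv.f (nat_lit 13808), Mv.f (nat_lit 14070)]))))
(Tr.nd (nat_lit 14073) (Tr.lf (Fc.ed (nat_lit 14072) (nat_lit 3062) Col.gi (nat_lit 5489) Dv.df))
(Tr.nd (nat_lit 14074) (Tr.lf (Fc.ed (nat_lit 14073) (nat_lit 4647) Col.g (nat_lit 5490) Dv.df))
(Tr.lf (Fc.ed (nat_lit 14074) (nat_lit 3945) Col.f (nat_lit 5491) Dv.df))))))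
(Tr.nd (nat_lit 14080) (Tr.nd (nat_lit 14077) (Tr.nd (nat_lit 14076) (Tr.lf (Fc.ed (nat_lit 14075) (nat_lit 5491) Col.a (nat_lit 5236) (Dv.wd (nat_lit 23) [Mv.f (nat_lit 13500), Mv.b (nat_lit 9713), Mv.f (nat_lit 14074)])))
(Tr.lf (Fc.ed (nat_lit 14076) (nat_lit 5397) Col.d (nat_lit 5492) Dv.df)))
(Tr.nd (nat_lit 14078) (Tr.lf (Fc.ed (nat_lit 14077) (nat_lit 5141) Col.f (nat_lit 5493) Dv.df))
(Tr.nd (nat_lit 14079) (Tr.lf (Fc.ed (nat_lit 14078) (nat_lit 5493) Col.c (nat_lit 2429) (Dv.wd (nat_lit 34) [Mv.f (nat_lit 12374), Mv.f (nat_lit 13294), Mv.f (nat_lit 14077)])))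
(Tr.lf (Fc.ed (nat_lit 14079) (nat_lit 3561) Col.f (nat_lit 5494) Dv.df)))))
(Tr.nd (nat_lit 14083) (Tr.nd (nat_lit 14081) (Tr.lf (Fc.ed (nat_lit 14080) (nat_lit 5494) Col.a (nat_lit 3059) (Dv.wd (nat_lit 23) [Mv.f (nat_lit 7965), Mv.b (nat_lit 8985), Mv.f (nat_lit 14079)])))
(Tr.nd (nat_lit 14082) (Tr.lf (Fc.ed (nat_lit 14081) (nat_lit 5409) Col.e (nat_lit 5495) Dv.df))
(Tr.lf (Fc.ed (nat_lit 14082) (nat_lit 5495) Col.a (nat_lit 5201) (Dv.wd (nat_lit 15) [Mv.b (nat_lit 13428), Mv.b (nat_lit 13878), Mv.f (nat_lit 14081)])))))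
(Tr.nd (nat_lit 14084) (Tr.lf (Fc.ed (nat_lit 14083) (nat_lit 5212) Col.d (nat_lit 5495) (Dv.wd (nat_lit 97) [Mv.f (nat_lit 14082), Mv.f (nat_lit 13429), Mv.f (nat_lit 13452)])))
(Tr.nd (nat_lit 14085) (Tr.lf (Fc.ed (nat_lit 14084) (nat_lit 4665) Col.f (nat_lit 5495) (Dv.wd (nat_lit 73) [Mv.f (nat_lit 14082), Mv.b (nat_lit 13431), Mv.f (nat_lit 11801)])))
(Tr.lf (Fc.ed (nat_lit 14085) (nat_lit 4796) Col.d (nat_lit 5496) Dv.df))))))))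
(Tr.nd (nat_lit 14106) (Tr.nd (nat_lit 14096) (Tr.nd (nat_lit 14091) (Tr.nd (nat_lit 14088) (Tr.nd (nat_lit 14087) (Tr.lf (Fc.ed (nat_lit 14086) (nat_lit 5496) Col.a (nat_lit 4205) (Dv.wd (nat_lit 8) [Mv.f (nat_lit 10850), Mv.b (nat_lit 12553), Mv.f (nat_lit 14085)])))
(Tr.lf (Fc.ed (nat_lit 14087) (nat_lit 5446) Col.c (nat_lit 5497) Dv.df)))
(Tr.nd (nat_lit 14089) (Tr.lf (Fc.ed (nat_lit 14088) (nat_lit 4962) Col.g (nat_lit 5498) Dv.df))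
(Tr.nd (nat_lit 14090) (Tr.lf (Fc.ed (nat_lit 14089) (nat_lit 5498) Col.g (nat_lit 2780) (Dv.wd (nat_lit 9) [Mv.f (nat_lit 13319), Mv.f (nat_lit 13320), Mv.f (nat_lit 14088)])))
(Tr.lf (Fc.ed (nat_lit 14090) (nat_lit 3907) Col.d (nat_lit 5499) Dv.df)))))
(Tr.nd (nat_lit 14093) (Tr.nd (nat_lit 14092) (Tr.lf (Fc.ed (nat_lit 14091) (nat_lit 5499) Col.gi (nat_lit 5165) (Dv.wd (nat_lit 163) [Mv.f (nat_lit 14021), Mv.f (nat_lit 13435), Mv.f (nat_lit 8210), Mv.b (nat_lit 4117), Mv.b (nat_lit 4014), Mv.f (nat_lit 3404), Mv.f (nat_lit 4958), Mv.f (nat_lit 4960), Mv.f (nat_lit 9608), Mv.f (nat_lit 14090)])))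
(Tr.lf (Fc.ed (nat_lit 14092) (nat_lit 4143) Col.b (nat_lit 5500) Dv.df)))
(Tr.nd (nat_lit 14094) (Tr.lf (Fc.ed (nat_lit 14093) (nat_lit 5383) Col.d (nat_lit 5501) Dv.df))
(Tr.nd (nat_lit 14095) (Tr.lf (Fc.ed (nat_lit 14094) (nat_lit 5378) Col.f (nat_lit 5502) Dv.df))
(Tr.lf (Fc.ed (nat_lit 14095) (nat_lit 5502) Col.b (nat_lit 3642) (Dv.wd (nat_lit 66) [Mv.f (nat_lit 9130), Mv.b (nat_lit 13817), Mv.f (nat_lit 14094)])))))))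
(Tr.nd (nat_lit 14101) (Tr.nd (nat_lit 14098) (Tr.nd (nat_lit 14097) (Tr.lf (Fc.ed (nat_lit 14096) (nat_lit 4970) Col.c (nat_lit 5503) Dv.df))
(Tr.lf (Fc.ed (nat_lit 14097) (nat_lit 4781) Col.a (nat_lit 5504) Dv.df)))
(Tr.nd (nat_lit 14099) (Tr.lf (Fc.ed (nat_lit 14098) (nat_lit 3513) Col.f (nat_lit 5505) Dv.df))
(Tr.nd (nat_lit 14100) (Tr.lf (Fc.ed (nat_lit 14099) (nat_lit 4060) Col.a (nat_lit 5506) Dv.df))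
(Tr.lf (Fc.ed (nat_lit 14100) (nat_lit 5506) Col.f (nat_lit 4500) (Dv.wd (nat_lit 10) [Mv.f (nat_lit 11498), Mv.b (nat_lit 9904), Mv.f (nat_lit 14099)]))))))
(Tr.nd (nat_lit 14103) (Tr.nd (nat_lit 14102) (Tr.lf (Fc.ed (nat_lit 14101) (nat_lit 3790) Col.c (nat_lit 5507) Dv.df))
(Tr.lf (Fc.ed (nat_lit 14102) (nat_lit 3937) Col.g (nat_lit 5508) Dv.df)))
(Tr.nd (nat_lit 14104) (Tr.lf (Fc.ed (nat_lit 14103) (nat_lit 3960) Col.e (nat_lit 5509) Dv.df))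
(Tr.nd (nat_lit 14105) (Tr.lf (Fc.ed (nat_lit 14104) (nat_lit 5148) Col.g (nat_lit 5510) Dv.df))
(Tr.lf (Fc.ed (nat_lit 14105) (nat_lit 3118) Col.d (nat_lit 5511) Dv.df)))))))
(Tr.nd (nat_lit 14116) (Tr.nd (nat_lit 14111) (Tr.nd (nat_lit 14108) (Tr.nd (nat_lit 14107) (Tr.lf (Fc.ed (nat_lit 14106) (nat_lit 5511) Col.f (nat_lit 4398) (Dv.wd (nat_lit 11) [Mv.b (nat_lit 11315), Mv.b (nat_lit 8092), Mv.f (nat_lit 14105)])))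
(Tr.lf (Fc.ed (nat_lit 14107) (nat_lit 3125) Col.f (nat_lit 5512) Dv.df)))
(Tr.nd (nat_lit 14109) (Tr.lf (Fc.ed (nat_lit 14108) (nat_lit 5512) Col.d (nat_lit 3420) (Dv.wd (nat_lit 21) [Mv.b (nat_lit 8704), Mv.f (nat_lit 8104), Mv.f (nat_lit 14107)])))
(Tr.nd (nat_lit 14110) (Tr.lf (Fc.ed (nat_lit 14109) (nat_lit 3878) Col.b (nat_lit 5513) Dv.df))
(Tr.lf (Fc.ed (nat_lit 14110) (nat_lit 5513) Col.f (nat_lit 4779) (Dv.wd (nat_lit 20) [Mv.b (nat_lit 12519), Mv.f (nat_lit 9559), Mv.f (nat_lit 14109)]))))))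
(Tr.nd (nat_lit 14113) (Tr.nd (nat_lit 14112) (Tr.lf (Fc.ed (nat_lit 14111) (nat_lit 4999) Col.b (nat_lit 5514) Dv.df))
(Tr.lf (Fc.ed (nat_lit 14112) (nat_lit 5514) Col.f (nat_lit 5370) (Dv.wd (nat_lit 20) [Mv.f (nat_lit 13803), Mv.b (nat_lit 13608), Mv.f (nat_lit 14111)]))))
(Tr.nd (nat_lit 14114) (Tr.lf (Fc.ed (nat_lit 14113) (nat_lit 5514) Col.a (nat_lit 2759) (Dv.wd (nat_lit 98) [Mv.b (nat_lit 7312), Mv.f (nat_lit 3164), Mv.b (nat_lit 7555), Mv.f (nat_lit 13002), Mv.f (nat_lit 14111)])))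
(Tr.nd (nat_lit 14115) (Tr.lf (Fc.ed (nat_lit 14114) (nat_lit 2384) Col.e (nat_lit 5515) Dv.df))
(Tr.lf (Fc.ed (nat_lit 14115) (nat_lit 5515) Col.c (nat_lit 5377) (Dv.wd (nat_lit 18) [Mv.b (nat_lit 13815), Mv.f (nat_lit 6713), Mv.f (nat_lit 14114)])))))))
(Tr.nd (nat_lit 14121) (Tr.nd (nat_lit 14118) (Tr.nd (nat_lit 14117) (Tr.lf (Fc.ed (nat_lit 14116) (nat_lit 4010) Col.c (nat_lit 5516) Dv.df))
(Tr.lf (Fc.ed (nat_lit 14117) (nat_lit 4860) Col.c (nat_lit 5517) Dv.df)))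
(Tr.nd (nat_lit 14119) (Tr.lf (Fc.ed (nat_lit 14118) (nat_lit 5517) Col.f (nat_lit 3664) (Dv.wd (nat_lit 26) [Mv.b (nat_lit 9167), Mv.b (nat_lit 12680), Mv.f (nat_lit 14117)])))
(Tr.nd (nat_lit 14120) (Tr.lf (Fc.ed (nat_lit 14119) (nat_lit 4826) Col.b (nat_lit 5517) (Dv.wd (nat_lit 107) [Mv.f (nat_lit 14118), Mv.f (nat_lit 9168), Mv.b (nat_lit 12608)])))
(Tr.lf (Fc.ed (nat_lit 14120) (nat_lit 2920) Col.c (nat_lit 5518) Dv.df)))))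
(Tr.nd (nat_lit 14124) (Tr.nd (nat_lit 14122) (Tr.lf (Fc.ed (nat_lit 14121) (nat_lit 5518) Col.a (nat_lit 5517) (Dv.wd (nat_lit 19) [Mv.b (nat_lit 14117), Mv.b (nat_lit 12679), Mv.f (nat_lit 14120)])))
(Tr.nd (nat_lit 14123) (Tr.lf (Fc.ed (nat_lit 14122) (nat_lit 2856) Col.b (nat_lit 5519) Dv.df))
(Tr.lf (Fc.ed (nat_lit 14123) (nat_lit 5519) Col.d (nat_lit 5464) (Dv.wd (nat_lit 58) [Mv.f (nat_lit 14029), Mv.f (nat_lit 7688), Mv.f (nat_lit 14122)])))))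
(Tr.nd (nat_lit 14125) (Tr.lf (Fc.ed (nat_lit 14124) (nat_lit 3315) Col.d (nat_lit 5520) Dv.df))
(Tr.nd (nat_lit 14126) (Tr.lf (Fc.ed (nat_lit 14125) (nat_lit 4102) Col.d (nat_lit 5521) Dv.df))
(Tr.lf (Fc.ed (nat_lit 14126) (nat_lit 5521) Col.a (nat_lit 5447) (Dv.wd (nat_lit 8) [Mv.b (nat_lit 13996), Mv.f (nat_lit 10705), Mv.f (nat_lit 14125)]))))))))))))
(Tr.nd (nat_lit 14291) (Tr.nd (nat_lit 14209) (Tr.nd (nat_lit 14168) (Tr.nd (nat_lit 14147) (Tr.nd (nat_lit 14137) (Tr.nd (nat_lit 14132) (Tr.nd (nat_lit 14129) (Tr.nd (nat_lit 14128) (Tr.lf (Fc.ed (nat_lit 14127) (nat_lit 5521) Col.f (nat_lit 5243) (Dv.wd (nat_lit 11) [Mv.b (nat_lit 13516), Mv.f (nat_lit 10687), Mv.f (nat_lit 14125)])))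
(Tr.lf (Fc.ed (nat_lit 14128) (nat_lit 5311) Col.f (nat_lit 5447) (Dv.wd (nat_lit 35) [Mv.b (nat_lit 14126), Mv.f (nat_lit 14127), Mv.f (nat_lit 13670)]))))
(Tr.nd (nat_lit 14130) (Tr.lf (Fc.ed (nat_lit 14129) (nat_lit 5243) Col.g (nat_lit 5089) (Dv.wd (nat_lit 17) [Mv.b (nat_lit 13997), Mv.b (nat_lit 14126), Mv.f (nat_lit 14127)])))
(Tr.nd (nat_lit 14131) (Tr.lf (Fc.ed (nat_lit 14130) (nat_lit 3292) Col.g (nat_lit 3251) (Dv.wd (nat_lit 145) [Mv.f (nat_lit 13516), Mv.f (nat_lit 14129), Mv.b (nat_lit 13185), Mv.b (nat_lit 9842), Mv.f (nat_lit 13274), Mv.b (nat_lit 8194), Mv.f (nat_lit 4026), Mv.b (nat_lit 8307), Mv.f (nat_lit 8437)])))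
(Tr.lf (Fc.ed (nat_lit 14131) (nat_lit 5185) Col.c (nat_lit 5333) (Dv.wd (nat_lit 32) [Mv.b (nat_lit 13733), Mv.b (nat_lit 13646), Mv.f (nat_lit 7623), Mv.f (nat_lit 7154), Mv.f (nat_lit 8306), Mv.f (nat_lit 8437), Mv.f (nat_lit 14130), Mv.b (nat_lit 8465), Mv.b (nat_lit 13663)]))))))
(Tr.nd (nat_lit 14134) (Tr.nd (nat_lit 14133) (Tr.lf (Fc.ed (nat_lit 14132) (nat_lit 3497) Col.a (nat_lit 5522) Dv.df))
(Tr.lf (Fc.ed (nat_lit 14133) (nat_lit 5281) Col.f (nat_lit 5523) Dv.df)))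
(Tr.nd (nat_lit 14135) (Tr.lf (Fc.ed (nat_lit 14134) (nat_lit 5523) Col.c (nat_lit 1363) (Dv.wd (nat_lit 34) [Mv.f (nat_lit 4156), Mv.f (nat_lit 13593), Mv.f (nat_lit 14133)])))
(Tr.nd (nat_lit 14136) (Tr.lf (Fc.ed (nat_lit 14135) (nat_lit 2958) Col.e (nat_lit 5524) Dv.df))
(Tr.lf (Fc.ed (nat_lit 14136) (nat_lit 2683) Col.c (nat_lit 5525) Dv.df))))))
(Tr.nd (nat_lit 14142) (Tr.nd (nat_lit 14139) (Tr.nd (nat_lit 14138) (Tr.lf (Fc.ed (nat_lit 14137) (nat_lit 2844) Col.g (nat_lit 5526) Dv.df))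
(Tr.lf (Fc.ed (nat_lit 14138) (nat_lit 4112) Col.d (nat_lit 5527) Dv.df)))
(Tr.nd (nat_lit 14140) (Tr.lf (Fc.ed (nat_lit 14139) (nat_lit 5527) Col.b (nat_lit 3542) (Dv.wd (nat_lit 37) [Mv.f (nat_lit 10676), Mv.f (nat_lit 10599), Mv.f (nat_lit 14138)])))
(Tr.nd (nat_lit 14141) (Tr.lf (Fc.ed (nat_lit 14140) (nat_lit 2782) Col.c (nat_lit 5528) Dv.df))
(Tr.lf (Fc.ed (nat_lit 14141) (nat_lit 5306) Col.d (nat_lit 5529) Dv.df)))))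
(Tr.nd (nat_lit 14144) (Tr.nd (nat_lit 14143) (Tr.lf (Fc.ed (nat_lit 14142) (nat_lit 5529) Col.a (nat_lit 3727) (Dv.wd (nat_lit 8) [Mv.f (nat_lit 9298), Mv.b (nat_lit 13645), Mv.f (nat_lit 14141)])))
(Tr.lf (Fc.ed (nat_lit 14143) (nat_lit 5529) Col.f (nat_lit 4662) (Dv.wd (nat_lit 11) [Mv.f (nat_lit 11796), Mv.f (nat_lit 13644), Mv.f (nat_lit 14141)]))))
(Tr.nd (nat_lit 14145) (Tr.lf (Fc.ed (nat_lit 14144) (nat_lit 3526) Col.gi (nat_lit 5530) Dv.df))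
(Tr.nd (nat_lit 14146) (Tr.lf (Fc.ed (nat_lit 14145) (nat_lit 5311) Col.c (nat_lit 5531) Dv.df))
(Tr.lf (Fc.ed (nat_lit 14146) (nat_lit 2417) Col.d (nat_lit 5532) Dv.df)))))))
(Tr.nd (nat_lit 14157) (Tr.nd (nat_lit 14152) (Tr.nd (nat_lit 14149) (Tr.nd (nat_lit 14148) (Tr.lf (Fc.ed (nat_lit 14147) (nat_lit 5532) Col.b (nat_lit 4992) (Dv.wd (nat_lit 37) [Mv.b (nat_lit 12990), Mv.f (nat_lit 7102), Mv.f (nat_lit 14146)])))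
(Tr.lf (Fc.ed (nat_lit 14148) (nat_lit 3087) Col.g (nat_lit 5533) Dv.df)))
(Tr.nd (nat_lit 14150) (Tr.lf (Fc.ed (nat_lit 14149) (nat_lit 5533) Col.g (nat_lit 5317) (Dv.wd (nat_lit 9) [Mv.f (nat_lit 13705), Mv.f (nat_lit 8712), Mv.f (nat_lit 14148)])))
(Tr.nd (nat_lit 14151) (Tr.lf (Fc.ed (nat_lit 14150) (nat_lit 5334) Col.g (nat_lit 5534) Dv.df))
(Tr.lf (Fc.ed (nat_lit 14151) (nat_lit 4336) Col.e (nat_lit 5535) Dv.df)))))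
(Tr.nd (nat_lit 14154) (Tr.nd (nat_lit 14153) (Tr.lf (Fc.ed (nat_lit 14152) (nat_lit 5535) Col.b (nat_lit 2390) (Dv.wd (nat_lit 49) [Mv.b (nat_lit 6486), Mv.f (nat_lit 11127), Mv.f (nat_lit 14151)])))
(Tr.lf (Fc.ed (nat_lit 14153) (nat_lit 5524) Col.d (nat_lit 5536) Dv.df)))
(Tr.nd (nat_lit 14155) (Tr.lf (Fc.ed (nat_lit 14154) (nat_lit 5536) Col.e (nat_lit 5419) (Dv.wd (nat_lit 42) [Mv.b (nat_lit 13898), Mv.f (nat_lit 10711), Mv.f (nat_lit 10712), Mv.f (nat_lit 14135), Mv.f (nat_lit 14153)])))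
(Tr.nd (nat_lit 14156) (Tr.lf (Fc.ed (nat_lit 14155) (nat_lit 5536) Col.gi (nat_lit 4534) (Dv.wd (nat_lit 71) [Mv.f (nat_lit 11561), Mv.f (nat_lit 11019), Mv.f (nat_lit 11469), Mv.f (nat_lit 11470), Mv.b (nat_lit 11431), Mv.f (nat_lit 8433), Mv.b (nat_lit 5010), Mv.f (nat_lit 7739), Mv.f (nat_lit 14135), Mv.f (nat_lit 14153)])))
(Tr.lf (Fc.ed (nat_lit 14156) (nat_lit 5127) Col.gi (nat_lit 5536) (Dv.wd (nat_lit 163) [Mv.f (nat_lit 14154), Mv.b (nat_lit 13898), Mv.f (nat_lit 9267), Mv.f (nat_lit 5673), Mv.b (nat_lit 5670), Mv.b (nat_lit 3812), Mv.f (nat_lit 4937), Mv.b (nat_lit 4960), Mv.f (nat_lit 11297), Mv.b (nat_lit 13260)])))))))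
(Tr.nd (nat_lit 14162) (Tr.nd (nat_lit 14159) (Tr.nd (nat_lit 14158) (Tr.lf (Fc.ed (nat_lit 14157) (nat_lit 4955) Col.a (nat_lit 5537) Dv.df))
(Tr.lf (Fc.ed (nat_lit 14158) (nat_lit 5537) Col.f (nat_lit 4768) (Dv.wd (nat_lit 10) [Mv.f (nat_lit 12496), Mv.b (nat_lit 12870), Mv.f (nat_lit 14157)]))))
(Tr.nd (nat_lit 14160) (Tr.lf (Fc.ed (nat_lit 14159) (nat_lit 3293) Col.e (nat_lit 5538) Dv.df))
(Tr.nd (nat_lit 14161) (Tr.lf (Fc.ed (nat_lit 14160) (nat_lit 5538) Col.a (nat_lit 5444) (Dv.wd (nat_lit 15) [Mv.f (nat_lit 13988), Mv.b (nat_lit 13939), Mv.f (nat_lit 14159)])))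
(Tr.lf (Fc.ed (nat_lit 14161) (nat_lit 5538) Col.f (nat_lit 5123) (Dv.wd (nat_lit 96) [Mv.f (nat_lit 13612), Mv.f (nat_lit 13825), Mv.f (nat_lit 12637), Mv.b (nat_lit 10906), Mv.f (nat_lit 14159)]))))))
(Tr.nd (nat_lit 14165) (Tr.nd (nat_lit 14163) (Tr.lf (Fc.ed (nat_lit 14162) (nat_lit 5229) Col.a (nat_lit 5539) Dv.df))
(Tr.nd (nat_lit 14164) (Tr.lf (Fc.ed (nat_lit 14163) (nat_lit 5539) Col.f (nat_lit 4606) (Dv.wd (nat_lit 10) [Mv.b (nat_lit 11693), Mv.b (nat_lit 13488), Mv.f (nat_lit 14162)])))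
(Tr.lf (Fc.ed (nat_lit 14164) (nat_lit 4943) Col.c (nat_lit 5539) (Dv.wd (nat_lit 67) [Mv.f (nat_lit 14163), Mv.f (nat_lit 12628), Mv.f (nat_lit 12844)])))))
(Tr.nd (nat_lit 14166) (Tr.lf (Fc.ed (nat_lit 14165) (nat_lit 4755) Col.f (nat_lit 5540) Dv.df))
(Tr.nd (nat_lit 14167) (Tr.lf (Fc.ed (nat_lit 14166) (nat_lit 5540) Col.c (nat_lit 3946) (Dv.wd (nat_lit 34) [Mv.b (nat_lit 9714), Mv.f (nat_lit 12476), Mv.f (nat_lit 14165)])))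
(Tr.lf (Fc.ed (nat_lit 14167) (nat_lit 5101) Col.f (nat_lit 5541) Dv.df))))))))
(Tr.nd (nat_lit 14188) (Tr.nd (nat_lit 14178) (Tr.nd (nat_lit 14173) (Tr.nd (nat_lit 14170) (Tr.nd (nat_lit 14169) (Tr.lf (Fc.ed (nat_lit 14168) (nat_lit 5541) Col.a (nat_lit 5325) (Dv.wd (nat_lit 23) [Mv.f (nat_lit 13716), Mv.f (nat_lit 13209), Mv.f (nat_lit 14167)])))
(Tr.lf (Fc.ed (nat_lit 14169) (nat_lit 3389) Col.a (nat_lit 5542) Dv.df)))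
(Tr.nd (nat_lit 14171) (Tr.lf (Fc.ed (nat_lit 14170) (nat_lit 5542) Col.f (nat_lit 4544) (Dv.wd (nat_lit 10) [Mv.f (nat_lit 11579), Mv.b (nat_lit 8640), Mv.f (nat_lit 14169)])))
(Tr.nd (nat_lit 14172) (Tr.lf (Fc.ed (nat_lit 14171) (nat_lit 5136) Col.gi (nat_lit 5543) Dv.df))
(Tr.lf (Fc.ed (nat_lit 14172) (nat_lit 2635) Col.c (nat_lit 5544) Dv.df)))))
(Tr.nd (nat_lit 14175) (Tr.nd (nat_lit 14174) (Tr.lf (Fc.ed (nat_lit 14173) (nat_lit 5544) Col.g (nat_lit 5273) (Dv.wd (nat_lit 77) [Mv.b (nat_lit 13576), Mv.b (nat_lit 11853), Mv.b (nat_lit 12311), Mv.f (nat_lit 12313), Mv.f (nat_lit 8224), Mv.f (nat_lit 7012), Mv.b (nat_lit 5392), Mv.b (nat_lit 7039), Mv.f (nat_lit 14172)])))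
(Tr.lf (Fc.ed (nat_lit 14174) (nat_lit 5437) Col.c (nat_lit 5545) Dv.df)))
(Tr.nd (nat_lit 14176) (Tr.lf (Fc.ed (nat_lit 14175) (nat_lit 4373) Col.gi (nat_lit 5546) Dv.df))
(Tr.nd (nat_lit 14177) (Tr.lf (Fc.ed (nat_lit 14176) (nat_lit 5244) Col.d (nat_lit 5547) Dv.df))
(Tr.lf (Fc.ed (nat_lit 14177) (nat_lit 5547) Col.b (nat_lit 2332) (Dv.wd (nat_lit 37) [Mv.f (nat_lit 6664), Mv.f (nat_lit 13517), Mv.f (nat_lit 14176)])))))))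
(Tr.nd (nat_lit 14183) (Tr.nd (nat_lit 14180) (Tr.nd (nat_lit 14179) (Tr.lf (Fc.ed (nat_lit 14178) (nat_lit 3589) Col.f (nat_lit 5548) Dv.df))
(Tr.lf (Fc.ed (nat_lit 14179) (nat_lit 5548) Col.a (nat_lit 5250) (Dv.wd (nat_lit 16) [Mv.f (nat_lit 13782), Mv.f (nat_lit 13783), Mv.f (nat_lit 14178)]))))
(Tr.nd (nat_lit 14181) (Tr.lf (Fc.ed (nat_lit 14180) (nat_lit 5277) Col.e (nat_lit 5549) Dv.df))
(Tr.nd (nat_lit 14182) (Tr.lf (Fc.ed (nat_lit 14181) (nat_lit 5348) Col.g (nat_lit 5550) Dv.df))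
(Tr.lf (Fc.ed (nat_lit 14182) (nat_lit 5550) Col.g (nat_lit 5308) (Dv.wd (nat_lit 9) [Mv.f (nat_lit 13665), Mv.f (nat_lit 13756), Mv.f (nat_lit 14181)]))))))
(Tr.nd (nat_lit 14185) (Tr.nd (nat_lit 14184) (Tr.lf (Fc.ed (nat_lit 14183) (nat_lit 4087) Col.a (nat_lit 5551) Dv.df))
(Tr.lf (Fc.ed (nat_lit 14184) (nat_lit 5551) Col.f (nat_lit 4420) (Dv.wd (nat_lit 10) [Mv.f (nat_lit 11365), Mv.f (nat_lit 9960), Mv.f (nat_lit 14183)]))))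
(Tr.nd (nat_lit 14186) (Tr.lf (Fc.ed (nat_lit 14185) (nat_lit 5545) Col.g (nat_lit 5552) Dv.df))
(Tr.nd (nat_lit 14187) (Tr.lf (Fc.ed (nat_lit 14186) (nat_lit 5552) Col.c (nat_lit 1906) (Dv.wd (nat_lit 124) [Mv.f (nat_lit 5385), Mv.b (nat_lit 3422), Mv.f (nat_lit 3346), Mv.b (nat_lit 3350), Mv.b (nat_lit 3327), Mv.b (nat_lit 3705), Mv.b (nat_lit 7324), Mv.f (nat_lit 13977), Mv.f (nat_lit 14174), Mv.f (nat_lit 14185)])))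
(Tr.lf (Fc.ed (nat_lit 14187) (nat_lit 5469) Col.b (nat_lit 4713) (Dv.wd (nat_lit 154) [Mv.b (nat_lit 13839), Mv.b (nat_lit 13838), Mv.f (nat_lit 13048), Mv.f (nat_lit 5312), Mv.f (nat_lit 3422), Mv.b (nat_lit 5385), Mv.b (nat_lit 14186), Mv.b (nat_lit 14185), Mv.b (nat_lit 14174), Mv.f (nat_lit 14037)]))))))))
(Tr.nd (nat_lit 14198) (Tr.nd (nat_lit 14193) (Tr.nd (nat_lit 14190) (Tr.nd (nat_lit 14189) (Tr.lf (Fc.ed (nat_lit 14188) (nat_lit 5527) Col.a (nat_lit 5469) (Dv.wd (nat_lit 167) [Mv.f (nat_lit 14187), Mv.f (nat_lit 12391), Mv.f (nat_lit 10172), Mv.b (nat_lit 12361), Mv.b (nat_lit 14139)])))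
(Tr.lf (Fc.ed (nat_lit 14189) (nat_lit 1926) Col.c (nat_lit 5553) Dv.df)))
(Tr.nd (nat_lit 14191) (Tr.lf (Fc.ed (nat_lit 14190) (nat_lit 2882) Col.d (nat_lit 5554) Dv.df))
(Tr.nd (nat_lit 14192) (Tr.lf (Fc.ed (nat_lit 14191) (nat_lit 2516) Col.e (nat_lit 5555) Dv.df))
(Tr.lf (Fc.ed (nat_lit 14192) (nat_lit 5555) Col.b (nat_lit 4988) (Dv.wd (nat_lit 49) [Mv.b (nat_lit 12984), Mv.f (nat_lit 6774), Mv.f (nat_lit 14191)]))))))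
(Tr.nd (nat_lit 14195) (Tr.nd (nat_lit 14194) (Tr.lf (Fc.ed (nat_lit 14193) (nat_lit 5510) Col.e (nat_lit 5556) Dv.df))
(Tr.lf (Fc.ed (nat_lit 14194) (nat_lit 2566) Col.e (nat_lit 5557) Dv.df)))
(Tr.nd (nat_lit 14196) (Tr.lf (Fc.ed (nat_lit 14195) (nat_lit 4959) Col.a (nat_lit 5558) Dv.df))
(Tr.nd (nat_lit 14197) (Tr.lf (Fc.ed (nat_lit 14196) (nat_lit 5558) Col.f (nat_lit 5318) (Dv.wd (nat_lit 10) [Mv.b (nat_lit 13706), Mv.b (nat_lit 12877), Mv.f (nat_lit 14195)])))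
(Tr.lf (Fc.ed (nat_lit 14197) (nat_lit 3713) Col.b (nat_lit 5559) Dv.df))))))
(Tr.nd (nat_lit 14203) (Tr.nd (nat_lit 14200) (Tr.nd (nat_lit 14199) (Tr.lf (Fc.ed (nat_lit 14198) (nat_lit 5559) Col.f (nat_lit 4772) (Dv.wd (nat_lit 20) [Mv.b (nat_lit 12503), Mv.f (nat_lit 9268), Mv.f (nat_lit 14197)])))
(Tr.lf (Fc.ed (nat_lit 14199) (nat_lit 2269) Col.gi (nat_lit 5560) Dv.df)))
(Tr.nd (nat_lit 14201) (Tr.lf (Fc.ed (nat_lit 14200) (nat_lit 5560) Col.gi (nat_lit 3843) (Dv.wd (nat_lit 24) [Mv.b (nat_lit 9504), Mv.f (nat_lit 9419), Mv.f (nat_lit 14199)])))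
(Tr.nd (nat_lit 14202) (Tr.lf (Fc.ed (nat_lit 14201) (nat_lit 5104) Col.f (nat_lit 5561) Dv.df))
(Tr.lf (Fc.ed (nat_lit 14202) (nat_lit 5561) Col.b (nat_lit 2268) (Dv.wd (nat_lit 66) [Mv.f (nat_lit 6701), Mv.f (nat_lit 13215), Mv.f (nat_lit 14201)]))))))
(Tr.nd (nat_lit 14206) (Tr.nd (nat_lit 14204) (Tr.lf (Fc.ed (nat_lit 14203) (nat_lit 5561) Col.d (nat_lit 5030) (Dv.wd (nat_lit 21) [Mv.b (nat_lit 13062), Mv.b (nat_lit 13894), Mv.f (nat_lit 14201)])))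
(Tr.nd (nat_lit 14205) (Tr.lf (Fc.ed (nat_lit 14204) (nat_lit 5490) Col.d (nat_lit 5562) Dv.df))
(Tr.lf (Fc.ed (nat_lit 14205) (nat_lit 5562) Col.e (nat_lit 2627) (Dv.wd (nat_lit 131) [Mv.b (nat_lit 7018), Mv.f (nat_lit 12942), Mv.b (nat_lit 2953), Mv.f (nat_lit 1988), Mv.f (nat_lit 12434), Mv.f (nat_lit 7680), Mv.f (nat_lit 8483), Mv.f (nat_lit 12424), Mv.f (nat_lit 14073), Mv.f (nat_lit 14204)])))))
(Tr.nd (nat_lit 14207) (Tr.lf (Fc.ed (nat_lit 14206) (nat_lit 4416) Col.g (nat_lit 5563) Dv.df))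
(Tr.nd (nat_lit 14208) (Tr.lf (Fc.ed (nat_lit 14207) (nat_lit 5563) Col.g (nat_lit 1781) (Dv.wd (nat_lit 9) [Mv.b (nat_lit 7643), Mv.f (nat_lit 11353), Mv.f (nat_lit 14206)])))
(Tr.lf (Fc.ed (nat_lit 14208) (nat_lit 5456) Col.e (nat_lit 5564) Dv.df)))))))))
(Tr.nd (nat_lit 14250) (Tr.nd (nat_lit 14229) (Tr.nd (nat_lit 14219) (Tr.nd (nat_lit 14214) (Tr.nd (nat_lit 14211) (Tr.nd (nat_lit 14210) (Tr.lf (Fc.ed (nat_lit 14209) (nat_lit 3158) Col.b (nat_lit 5565) Dv.df))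
(Tr.lf (Fc.ed (nat_lit 14210) (nat_lit 3291) Col.a (nat_lit 5566) Dv.df)))
(Tr.nd (nat_lit 14212) (Tr.lf (Fc.ed (nat_lit 14211) (nat_lit 5566) Col.c (nat_lit 5458) (Dv.wd (nat_lit 33) [Mv.b (nat_lit 14016), Mv.f (nat_lit 8434), Mv.f (nat_lit 14210)])))
(Tr.nd (nat_lit 14213) (Tr.lf (Fc.ed (nat_lit 14212) (nat_lit 5566) Col.d (nat_lit 5112) (Dv.wd (nat_lit 28) [Mv.b (nat_lit 13233), Mv.b (nat_lit 8823), Mv.f (nat_lit 14210)])))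
(Tr.lf (Fc.ed (nat_lit 14213) (nat_lit 5566) Col.f (nat_lit 3889) (Dv.wd (nat_lit 35) [Mv.f (nat_lit 9577), Mv.b (nat_lit 8435), Mv.f (nat_lit 14210)]))))))
(Tr.nd (nat_lit 14216) (Tr.nd (nat_lit 14215) (Tr.lf (Fc.ed (nat_lit 14214) (nat_lit 5566) Col.b (nat_lit 5306) (Dv.wd (nat_lit 65) [Mv.f (nat_lit 13645), Mv.f (nat_lit 8634), Mv.f (nat_lit 5939), Mv.b (nat_lit 8436), Mv.f (nat_lit 14210)])))
(Tr.lf (Fc.ed (nat_lit 14215) (nat_lit 4902) Col.gi (nat_lit 5567) Dv.df)))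
(Tr.nd (nat_lit 14217) (Tr.lf (Fc.ed (nat_lit 14216) (nat_lit 5567) Col.e (nat_lit 5477) (Dv.wd (nat_lit 146) [Mv.b (nat_lit 14050), Mv.f (nat_lit 9791), Mv.f (nat_lit 5201), Mv.b (nat_lit 5198), Mv.f (nat_lit 4323), Mv.b (nat_lit 5718), Mv.b (nat_lit 5716), Mv.f (nat_lit 12681), Mv.f (nat_lit 12759), Mv.f (nat_lit 14215)])))
(Tr.nd (nat_lit 14218) (Tr.lf (Fc.ed (nat_lit 14217) (nat_lit 5538) Col.d (nat_lit 5568) Dv.df))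
(Tr.lf (Fc.ed (nat_lit 14218) (nat_lit 5568) Col.f (nat_lit 5121) (Dv.wd (nat_lit 11) [Mv.f (nat_lit 13252), Mv.b (nat_lit 14161), Mv.f (nat_lit 14217)])))))))
(Tr.nd (nat_lit 14224) (Tr.nd (nat_lit 14221) (Tr.nd (nat_lit 14220) (Tr.lf (Fc.ed (nat_lit 14219) (nat_lit 5568) Col.e (nat_lit 5166) (Dv.wd (nat_lit 42) [Mv.b (nat_lit 13343), Mv.b (nat_lit 13935), Mv.f (nat_lit 9059), Mv.f (nat_lit 14159), Mv.f (nat_lit 14217)])))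
(Tr.lf (Fc.ed (nat_lit 14220) (nat_lit 4906) Col.e (nat_lit 5569) Dv.df)))
(Tr.nd (nat_lit 14222) (Tr.lf (Fc.ed (nat_lit 14221) (nat_lit 5569) Col.a (nat_lit 2569) (Dv.wd (nat_lit 15) [Mv.b (nat_lit 6893), Mv.b (nat_lit 12766), Mv.f (nat_lit 14220)])))
(Tr.nd (nat_lit 14223) (Tr.lf (Fc.ed (nat_lit 14222) (nat_lit 2000) Col.e (nat_lit 5570) Dv.df))
(Tr.lf (Fc.ed (nat_lit 14223) (nat_lit 5570) Col.c (nat_lit 5221) (Dv.wd (nat_lit 18) [Mv.b (nat_lit 13468), Mv.f (nat_lit 6199), Mv.f (nat_lit 14222)]))))))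
(Tr.nd (nat_lit 14226) (Tr.nd (nat_lit 14225) (Tr.lf (Fc.ed (nat_lit 14224) (nat_lit 5569) Col.b (nat_lit 5571) Dv.df))
(Tr.lf (Fc.ed (nat_lit 14225) (nat_lit 5571) Col.e (nat_lit 5133) (Dv.wd (nat_lit 52) [Mv.f (nat_lit 13282), Mv.f (nat_lit 14220), Mv.f (nat_lit 14224)]))))
(Tr.nd (nat_lit 14227) (Tr.lf (Fc.ed (nat_lit 14226) (nat_lit 3650) Col.g (nat_lit 5572) Dv.df))
(Tr.nd (nat_lit 14228) (Tr.lf (Fc.ed (nat_lit 14227) (nat_lit 5572) Col.g (nat_lit 2107) (Dv.wd (nat_lit 9) [Mv.b (nat_lit 8441), Mv.f (nat_lit 9142), Mv.f (nat_lit 14226)])))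
(Tr.lf (Fc.ed (nat_lit 14228) (nat_lit 5265) Col.f (nat_lit 5573) Dv.df)))))))
(Tr.nd (nat_lit 14239) (Tr.nd (nat_lit 14234) (Tr.nd (nat_lit 14231) (Tr.nd (nat_lit 14230) (Tr.lf (Fc.ed (nat_lit 14229) (nat_lit 5573) Col.d (nat_lit 3106) (Dv.wd (nat_lit 21) [Mv.b (nat_lit 13465), Mv.f (nat_lit 13563), Mv.f (nat_lit 14228)])))
(Tr.lf (Fc.ed (nat_lit 14230) (nat_lit 5431) Col.d (nat_lit 5574) Dv.df)))
(Tr.nd (nat_lit 14232) (Tr.lf (Fc.ed (nat_lit 14231) (nat_lit 3648) Col.e (nat_lit 5575) Dv.df))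
(Tr.nd (nat_lit 14233) (Tr.lf (Fc.ed (nat_lit 14232) (nat_lit 5575) Col.a (nat_lit 2853) (Dv.wd (nat_lit 15) [Mv.f (nat_lit 7522), Mv.b (nat_lit 12949), Mv.f (nat_lit 14231)])))
(Tr.lf (Fc.ed (nat_lit 14233) (nat_lit 2578) Col.gi (nat_lit 5576) Dv.df)))))
(Tr.nd (nat_lit 14236) (Tr.nd (nat_lit 14235) (Tr.lf (Fc.ed (nat_lit 14234) (nat_lit 5576) Col.gi (nat_lit 5415) (Dv.wd (nat_lit 24) [Mv.f (nat_lit 13890), Mv.f (nat_lit 12553), Mv.f (nat_lit 14233)])))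
(Tr.lf (Fc.ed (nat_lit 14235) (nat_lit 3635) Col.a (nat_lit 5577) Dv.df)))
(Tr.nd (nat_lit 14237) (Tr.lf (Fc.ed (nat_lit 14236) (nat_lit 5577) Col.e (nat_lit 1854) (Dv.wd (nat_lit 56) [Mv.f (nat_lit 6205), Mv.f (nat_lit 10137), Mv.f (nat_lit 14235)])))
(Tr.nd (nat_lit 14238) (Tr.lf (Fc.ed (nat_lit 14237) (nat_lit 4805) Col.c (nat_lit 5578) Dv.df))
(Tr.lf (Fc.ed (nat_lit 14238) (nat_lit 5578) Col.d (nat_lit 5493) (Dv.wd (nat_lit 44) [Mv.f (nat_lit 14078), Mv.b (nat_lit 10160), Mv.b (nat_lit 12365), Mv.f (nat_lit 11420), Mv.b (nat_lit 11898), Mv.f (nat_lit 12391), Mv.f (nat_lit 11934), Mv.f (nat_lit 12568), Mv.f (nat_lit 14237)])))))))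
(Tr.nd (nat_lit 14244) (Tr.nd (nat_lit 14241) (Tr.nd (nat_lit 14240) (Tr.lf (Fc.ed (nat_lit 14239) (nat_lit 4701) Col.g (nat_lit 4805) (Dv.wd (nat_lit 77) [Mv.f (nat_lit 14237), Mv.f (nat_lit 14238), Mv.f (nat_lit 14078), Mv.f (nat_lit 6567), Mv.f (nat_lit 4902), Mv.f (nat_lit 5378), Mv.b (nat_lit 11820), Mv.f (nat_lit 11278), Mv.f (nat_lit 13392)])))
(Tr.lf (Fc.ed (nat_lit 14240) (nat_lit 4878) Col.g (nat_lit 5579) Dv.df)))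
(Tr.nd (nat_lit 14242) (Tr.lf (Fc.ed (nat_lit 14241) (nat_lit 5579) Col.g (nat_lit 3608) (Dv.wd (nat_lit 9) [Mv.f (nat_lit 12505), Mv.f (nat_lit 12714), Mv.f (nat_lit 14240)])))
(Tr.nd (nat_lit 14243) (Tr.lf (Fc.ed (nat_lit 14242) (nat_lit 5328) Col.f (nat_lit 5580) Dv.df))
(Tr.lf (Fc.ed (nat_lit 14243) (nat_lit 5580) Col.a (nat_lit 5580) (Dv.wd (nat_lit 16) [Mv.b (nat_lit 14242), Mv.f (nat_lit 13723), Mv.f (nat_lit 14242)]))))))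
(Tr.nd (nat_lit 14247) (Tr.nd (nat_lit 14245) (Tr.lf (Fc.ed (nat_lit 14244) (nat_lit 5580) Col.e (nat_lit 4200) (Dv.wd (nat_lit 22) [Mv.b (nat_lit 10836), Mv.f (nat_lit 10812), Mv.b (nat_lit 6536), Mv.f (nat_lit 13722), Mv.f (nat_lit 14242)])))
(Tr.nd (nat_lit 14246) (Tr.lf (Fc.ed (nat_lit 14245) (nat_lit 4784) Col.e (nat_lit 5581) Dv.df))
(Tr.lf (Fc.ed (nat_lit 14246) (nat_lit 5581) Col.a (nat_lit 5557) (Dv.wd (nat_lit 15) [Mv.b (nat_lit 14194), Mv.b (nat_lit 12530), Mv.f (nat_lit 14245)])))))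
(Tr.nd (nat_lit 14248) (Tr.lf (Fc.ed (nat_lit 14247) (nat_lit 2772) Col.g (nat_lit 5582) Dv.df))
(Tr.nd (nat_lit 14249) (Tr.lf (Fc.ed (nat_lit 14248) (nat_lit 5582) Col.g (nat_lit 4527) (Dv.wd (nat_lit 9) [Mv.b (nat_lit 11546), Mv.b (nat_lit 11113), Mv.f (nat_lit 14247)])))
(Tr.lf (Fc.ed (nat_lit 14249) (nat_lit 4895) Col.g (nat_lit 5583) Dv.df))))))))
(Tr.nd (nat_lit 14270) (Tr.nd (nat_lit 14260) (Tr.nd (nat_lit 14255) (Tr.nd (nat_lit 14252) (Tr.nd (nat_lit 14251) (Tr.lf (Fc.ed (nat_lit 14250) (nat_lit 3820) Col.e (nat_lit 5584) Dv.df))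
(Tr.lf (Fc.ed (nat_lit 14251) (nat_lit 5584) Col.b (nat_lit 5575) (Dv.wd (nat_lit 49) [Mv.b (nat_lit 14231), Mv.f (nat_lit 9465), Mv.f (nat_lit 14250)]))))
(Tr.nd (nat_lit 14253) (Tr.lf (Fc.ed (nat_lit 14252) (nat_lit 5563) Col.d (nat_lit 5585) Dv.df))
(Tr.nd (nat_lit 14254) (Tr.lf (Fc.ed (nat_lit 14253) (nat_lit 4598) Col.b (nat_lit 5586) Dv.df))
(Tr.lf (Fc.ed (nat_lit 14254) (nat_lit 5586) Col.g (nat_lit 4818) (Dv.wd (nat_lit 122) [Mv.b (nat_lit 12594), Mv.f (nat_lit 11600), Mv.b (nat_lit 6692), Mv.f (nat_lit 3927), Mv.f (nat_lit 3939), Mv.b (nat_lit 6540), Mv.f (nat_lit 11975), Mv.f (nat_lit 11981), Mv.b (nat_lit 11712), Mv.f (nat_lit 14253)]))))))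
(Tr.nd (nat_lit 14257) (Tr.nd (nat_lit 14256) (Tr.lf (Fc.ed (nat_lit 14255) (nat_lit 5211) Col.c (nat_lit 5587) Dv.df))
(Tr.lf (Fc.ed (nat_lit 14256) (nat_lit 3602) Col.c (nat_lit 5588) Dv.df)))
(Tr.nd (nat_lit 14258) (Tr.lf (Fc.ed (nat_lit 14257) (nat_lit 4052) Col.c (nat_lit 5589) Dv.df))
(Tr.nd (nat_lit 14259) (Tr.lf (Fc.ed (nat_lit 14258) (nat_lit 5589) Col.f (nat_lit 5314) (Dv.wd (nat_lit 26) [Mv.b (nat_lit 13696), Mv.b (nat_lit 11424), Mv.f (nat_lit 14257)])))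
(Tr.lf (Fc.ed (nat_lit 14259) (nat_lit 5589) Col.b (nat_lit 5129) (Dv.wd (nat_lit 87) [Mv.f (nat_lit 13266), Mv.b (nat_lit 10031), Mv.f (nat_lit 3545), Mv.f (nat_lit 10042), Mv.f (nat_lit 14257)])))))))
(Tr.nd (nat_lit 14265) (Tr.nd (nat_lit 14262) (Tr.nd (nat_lit 14261) (Tr.lf (Fc.ed (nat_lit 14260) (nat_lit 5370) Col.e (nat_lit 5590) Dv.df))
(Tr.lf (Fc.ed (nat_lit 14261) (nat_lit 5590) Col.a (nat_lit 3109) (Dv.wd (nat_lit 15) [Mv.b (nat_lit 8075), Mv.f (nat_lit 13802), Mv.f (nat_lit 14260)]))))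
(Tr.nd (nat_lit 14263) (Tr.lf (Fc.ed (nat_lit 14262) (nat_lit 5384) Col.b (nat_lit 5591) Dv.df))
(Tr.nd (nat_lit 14264) (Tr.lf (Fc.ed (nat_lit 14263) (nat_lit 5591) Col.f (nat_lit 4393) (Dv.wd (nat_lit 20) [Mv.f (nat_lit 11307), Mv.f (nat_lit 13829), Mv.f (nat_lit 14262)])))
(Tr.lf (Fc.ed (nat_lit 14264) (nat_lit 2406) Col.g (nat_lit 5592) Dv.df)))))
(Tr.nd (nat_lit 14267) (Tr.nd (nat_lit 14266) (Tr.lf (Fc.ed (nat_lit 14265) (nat_lit 5474) Col.f (nat_lit 5593) Dv.df))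
(Tr.lf (Fc.ed (nat_lit 14266) (nat_lit 5549) Col.d (nat_lit 5594) Dv.df)))
(Tr.nd (nat_lit 14268) (Tr.lf (Fc.ed (nat_lit 14267) (nat_lit 5594) Col.e (nat_lit 4994) (Dv.wd (nat_lit 42) [Mv.b (nat_lit 12992), Mv.f (nat_lit 13572), Mv.f (nat_lit 13582), Mv.f (nat_lit 14180), Mv.f (nat_lit 14266)])))
(Tr.nd (nat_lit 14269) (Tr.lf (Fc.ed (nat_lit 14268) (nat_lit 5594) Col.gi (nat_lit 3890) (Dv.wd (nat_lit 151) [Mv.b (nat_lit 9578), Mv.f (nat_lit 9081), Mv.f (nat_lit 6522), Mv.b (nat_lit 6916), Mv.f (nat_lit 12421), Mv.f (nat_lit 12925), Mv.f (nat_lit 12927), Mv.b (nat_lit 13583), Mv.f (nat_lit 14180), Mv.f (nat_lit 14266)])))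
(Tr.lf (Fc.ed (nat_lit 14269) (nat_lit 3610) Col.a (nat_lit 5595) Dv.df)))))))
(Tr.nd (nat_lit 14280) (Tr.nd (nat_lit 14275) (Tr.nd (nat_lit 14272) (Tr.nd (nat_lit 14271) (Tr.lf (Fc.ed (nat_lit 14270) (nat_lit 3108) Col.c (nat_lit 5596) Dv.df))
(Tr.lf (Fc.ed (nat_lit 14271) (nat_lit 3518) Col.f (nat_lit 5597) Dv.df)))
(Tr.nd (nat_lit 14273) (Tr.lf (Fc.ed (nat_lit 14272) (nat_lit 5597) Col.a (nat_lit 4234) (Dv.wd (nat_lit 23) [Mv.f (nat_lit 10901), Mv.b (nat_lit 8893), Mv.f (nat_lit 14271)])))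
(Tr.nd (nat_lit 14274) (Tr.lf (Fc.ed (nat_lit 14273) (nat_lit 5552) Col.b (nat_lit 5598) Dv.df))
(Tr.lf (Fc.ed (nat_lit 14274) (nat_lit 5598) Col.c (nat_lit 2841) (Dv.wd (nat_lit 93) [Mv.b (nat_lit 7493), Mv.f (nat_lit 3428), Mv.b (nat_lit 5385), Mv.b (nat_lit 14186), Mv.f (nat_lit 14273)]))))))
(Tr.nd (nat_lit 14277) (Tr.nd (nat_lit 14276) (Tr.lf (Fc.ed (nat_lit 14275) (nat_lit 4903) Col.d (nat_lit 5599) Dv.df))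
(Tr.lf (Fc.ed (nat_lit 14276) (nat_lit 5599) Col.a (nat_lit 4259) (Dv.wd (nat_lit 8) [Mv.b (nat_lit 12441), Mv.f (nat_lit 12760), Mv.f (nat_lit 14275)]))))
(Tr.nd (nat_lit 14278) (Tr.lf (Fc.ed (nat_lit 14277) (nat_lit 3416) Col.a (nat_lit 5600) Dv.df))
(Tr.nd (nat_lit 14279) (Tr.lf (Fc.ed (nat_lit 14278) (nat_lit 5600) Col.e (nat_lit 5566) (Dv.wd (nat_lit 56) [Mv.b (nat_lit 14210), Mv.b (nat_lit 8694), Mv.f (nat_lit 14277)])))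
(Tr.lf (Fc.ed (nat_lit 14279) (nat_lit 5408) Col.c (nat_lit 5601) Dv.df))))))
(Tr.nd (nat_lit 14285) (Tr.nd (nat_lit 14282) (Tr.nd (nat_lit 14281) (Tr.lf (Fc.ed (nat_lit 14280) (nat_lit 5601) Col.b (nat_lit 3098) (Dv.wd (nat_lit 101) [Mv.b (nat_lit 8049), Mv.b (nat_lit 3952), Mv.f (nat_lit 3984), Mv.f (nat_lit 7624), Mv.f (nat_lit 7625), Mv.f (nat_lit 7161), Mv.f (nat_lit 10557), Mv.b (nat_lit 11759), Mv.b (nat_lit 13876), Mv.f (nat_lit 14279)])))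
(Tr.lf (Fc.ed (nat_lit 14281) (nat_lit 3282) Col.f (nat_lit 5602) Dv.df)))
(Tr.nd (nat_lit 14283) (Tr.lf (Fc.ed (nat_lit 14282) (nat_lit 5602) Col.a (nat_lit 3377) (Dv.wd (nat_lit 16) [Mv.f (nat_lit 9734), Mv.f (nat_lit 9735), Mv.f (nat_lit 14281)])))
(Tr.nd (nat_lit 14284) (Tr.lf (Fc.ed (nat_lit 14283) (nat_lit 5602) Col.b (nat_lit 5505) (Dv.wd (nat_lit 66) [Mv.b (nat_lit 14098), Mv.b (nat_lit 8883), Mv.f (nat_lit 14281)])))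
(Tr.lf (Fc.ed (nat_lit 14284) (nat_lit 4329) Col.d (nat_lit 5603) Dv.df)))))
(Tr.nd (nat_lit 14288) (Tr.nd (nat_lit 14286) (Tr.lf (Fc.ed (nat_lit 14285) (nat_lit 5603) Col.f (nat_lit 4885) (Dv.wd (nat_lit 11) [Mv.b (nat_lit 12724), Mv.b (nat_lit 12685), Mv.f (nat_lit 14284)])))
(Tr.nd (nat_lit 14287) (Tr.lf (Fc.ed (nat_lit 14286) (nat_lit 5397) Col.gi (nat_lit 5603) (Dv.wd (nat_lit 24) [Mv.f (nat_lit 14285), Mv.f (nat_lit 12725), Mv.f (nat_lit 13854)])))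
(Tr.lf (Fc.ed (nat_lit 14287) (nat_lit 4986) Col.c (nat_lit 5604) Dv.df))))
(Tr.nd (nat_lit 14289) (Tr.lf (Fc.ed (nat_lit 14288) (nat_lit 5604) Col.b (nat_lit 5281) (Dv.wd (nat_lit 87) [Mv.b (nat_lit 13593), Mv.f (nat_lit 3875), Mv.f (nat_lit 4032), Mv.b (nat_lit 12931), Mv.f (nat_lit 14287)])))
(Tr.nd (nat_lit 14290) (Tr.lf (Fc.ed (nat_lit 14289) (nat_lit 4588) Col.a (nat_lit 5605) Dv.df))
(Tr.lf (Fc.ed (nat_lit 14290) (nat_lit 5605) Col.f (nat_lit 4687) (Dv.wd (nat_lit 10) [Mv.b (nat_lit 11847), Mv.b (nat_lit 11664), Mv.f (nat_lit 14289)])))))))))))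
(Tr.nd (nat_lit 14373) (Tr.nd (nat_lit 14332) (Tr.nd (nat_lit 14311) (Tr.nd (nat_lit 14301) (Tr.nd (nat_lit 14296) (Tr.nd (nat_lit 14293) (Tr.nd (nat_lit 14292) (Tr.lf (Fc.ed (nat_lit 14291) (nat_lit 5528) Col.e (nat_lit 5606) Dv.df))
(Tr.lf (Fc.ed (nat_lit 14292) (nat_lit 5606) Col.c (nat_lit 3934) (Dv.wd (nat_lit 18) [Mv.b (nat_lit 9698), Mv.f (nat_lit 14140), Mv.f (nat_lit 14291)]))))
(Tr.nd (nat_lit 14294) (Tr.lf (Fc.ed (nat_lit 14293) (nat_lit 3743) Col.f (nat_lit 5607) Dv.df))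
(Tr.nd (nat_lit 14295) (Tr.lf (Fc.ed (nat_lit 14294) (nat_lit 5607) Col.a (nat_lit 4356) (Dv.wd (nat_lit 23) [Mv.b (nat_lit 11176), Mv.b (nat_lit 9330), Mv.f (nat_lit 14293)])))
(Tr.lf (Fc.ed (nat_lit 14295) (nat_lit 4740) Col.f (nat_lit 5608) Dv.df)))))
(Tr.nd (nat_lit 14298) (Tr.nd (nat_lit 14297) (Tr.lf (Fc.ed (nat_lit 14296) (nat_lit 5608) Col.a (nat_lit 4749) (Dv.wd (nat_lit 23) [Mv.f (nat_lit 12466), Mv.f (nat_lit 11946), Mv.f (nat_lit 14295)])))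
(Tr.lf (Fc.ed (nat_lit 14297) (nat_lit 3394) Col.g (nat_lit 5609) Dv.df)))
(Tr.nd (nat_lit 14299) (Tr.lf (Fc.ed (nat_lit 14298) (nat_lit 5235) Col.b (nat_lit 5610) Dv.df))
(Tr.nd (nat_lit 14300) (Tr.lf (Fc.ed (nat_lit 14299) (nat_lit 5610) Col.a (nat_lit 3249) (Dv.wd (nat_lit 98) [Mv.f (nat_lit 8354), Mv.b (nat_lit 6474), Mv.f (nat_lit 12579), Mv.f (nat_lit 13497), Mv.f (nat_lit 14298)])))
(Tr.lf (Fc.ed (nat_lit 14300) (nat_lit 5610) Col.c (nat_lit 5370) (Dv.wd (nat_lit 93) [Mv.f (nat_lit 13803), Mv.f (nat_lit 13610), Mv.f (nat_lit 13040), Mv.b (nat_lit 13498), Mv.f (nat_lit 14298)])))))))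
(Tr.nd (nat_lit 14306) (Tr.nd (nat_lit 14303) (Tr.nd (nat_lit 14302) (Tr.lf (Fc.ed (nat_lit 14301) (nat_lit 4983) Col.g (nat_lit 5611) Dv.df))
(Tr.lf (Fc.ed (nat_lit 14302) (nat_lit 5611) Col.g (nat_lit 2254) (Dv.wd (nat_lit 9) [Mv.b (nat_lit 12692), Mv.b (nat_lit 12920), Mv.f (nat_lit 14301)]))))
(Tr.nd (nat_lit 14304) (Tr.lf (Fc.ed (nat_lit 14303) (nat_lit 3508) Col.d (nat_lit 5612) Dv.df))
(Tr.nd (nat_lit 14305) (Tr.lf (Fc.ed (nat_lit 14304) (nat_lit 3606) Col.a (nat_lit 5613) Dv.df))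
(Tr.lf (Fc.ed (nat_lit 14305) (nat_lit 5063) Col.a (nat_lit 5614) Dv.df)))))
(Tr.nd (nat_lit 14308) (Tr.nd (nat_lit 14307) (Tr.lf (Fc.ed (nat_lit 14306) (nat_lit 5614) Col.c (nat_lit 4327) (Dv.wd (nat_lit 33) [Mv.f (nat_lit 11546), Mv.f (nat_lit 13135), Mv.f (nat_lit 14305)])))
(Tr.lf (Fc.ed (nat_lit 14307) (nat_lit 5614) Col.f (nat_lit 3438) (Dv.wd (nat_lit 35) [Mv.f (nat_lit 8743), Mv.b (nat_lit 13136), Mv.f (nat_lit 14305)]))))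
(Tr.nd (nat_lit 14309) (Tr.lf (Fc.ed (nat_lit 14308) (nat_lit 5610) Col.gi (nat_lit 5615) Dv.df))
(Tr.nd (nat_lit 14310) (Tr.lf (Fc.ed (nat_lit 14309) (nat_lit 5615) Col.gi (nat_lit 3039) (Dv.wd (nat_lit 24) [Mv.b (nat_lit 8353), Mv.b (nat_lit 14299), Mv.f (nat_lit 14308)])))
(Tr.lf (Fc.ed (nat_lit 14310) (nat_lit 3934) Col.a (nat_lit 5616) Dv.df)))))))
(Tr.nd (nat_lit 14321) (Tr.nd (nat_lit 14316) (Tr.nd (nat_lit 14313) (Tr.nd (nat_lit 14312) (Tr.lf (Fc.ed (nat_lit 14311) (nat_lit 5616) Col.d (nat_lit 5223) (Dv.wd (nat_lit 28) [Mv.f (nat_lit 13474), Mv.b (nat_lit 13139), Mv.f (nat_lit 14310)])))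
(Tr.lf (Fc.ed (nat_lit 14312) (nat_lit 5616) Col.e (nat_lit 3856) (Dv.wd (nat_lit 56) [Mv.b (nat_lit 10451), Mv.f (nat_lit 9698), Mv.f (nat_lit 14310)]))))
(Tr.nd (nat_lit 14314) (Tr.lf (Fc.ed (nat_lit 14313) (nat_lit 4451) Col.a (nat_lit 5617) Dv.df))
(Tr.nd (nat_lit 14315) (Tr.lf (Fc.ed (nat_lit 14314) (nat_lit 5617) Col.f (nat_lit 4151) (Dv.wd (nat_lit 10) [Mv.f (nat_lit 10727), Mv.f (nat_lit 11416), Mv.f (nat_lit 14313)])))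
(Tr.lf (Fc.ed (nat_lit 14315) (nat_lit 3308) Col.b (nat_lit 5618) Dv.df)))))
(Tr.nd (nat_lit 14318) (Tr.nd (nat_lit 14317) (Tr.lf (Fc.ed (nat_lit 14316) (nat_lit 5618) Col.c (nat_lit 4571) (Dv.wd (nat_lit 93) [Mv.b (nat_lit 11630), Mv.b (nat_lit 3268), Mv.b (nat_lit 3869), Mv.b (nat_lit 10561), Mv.f (nat_lit 14315)])))
(Tr.lf (Fc.ed (nat_lit 14317) (nat_lit 4822) Col.f (nat_lit 5619) Dv.df)))
(Tr.nd (nat_lit 14319) (Tr.lf (Fc.ed (nat_lit 14318) (nat_lit 5619) Col.a (nat_lit 4433) (Dv.wd (nat_lit 23) [Mv.f (nat_lit 11386), Mv.b (nat_lit 12601), Mv.f (nat_lit 14317)])))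
(Tr.nd (nat_lit 14320) (Tr.lf (Fc.ed (nat_lit 14319) (nat_lit 3561) Col.a (nat_lit 5620) Dv.df))
(Tr.lf (Fc.ed (nat_lit 14320) (nat_lit 5620) Col.f (nat_lit 3059) (Dv.wd (nat_lit 35) [Mv.b (nat_lit 14080), Mv.b (nat_lit 14079), Mv.f (nat_lit 14319)])))))))
(Tr.nd (nat_lit 14326) (Tr.nd (nat_lit 14323) (Tr.nd (nat_lit 14322) (Tr.lf (Fc.ed (nat_lit 14321) (nat_lit 4762) Col.d (nat_lit 5621) Dv.df))
(Tr.lf (Fc.ed (nat_lit 14322) (nat_lit 5621) Col.b (nat_lit 5117) (Dv.wd (nat_lit 37) [Mv.f (nat_lit 13242), Mv.f (nat_lit 12485), Mv.f (nat_lit 14321)]))))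
(Tr.nd (nat_lit 14324) (Tr.lf (Fc.ed (nat_lit 14323) (nat_lit 3563) Col.gi (nat_lit 5622) Dv.df))
(Tr.nd (nat_lit 14325) (Tr.lf (Fc.ed (nat_lit 14324) (nat_lit 5622) Col.gi (nat_lit 3519) (Dv.wd (nat_lit 24) [Mv.f (nat_lit 13509), Mv.f (nat_lit 13510), Mv.f (nat_lit 14323)])))
(Tr.lf (Fc.ed (nat_lit 14325) (nat_lit 3799) Col.d (nat_lit 5623) Dv.df)))))
(Tr.nd (nat_lit 14329) (Tr.nd (nat_lit 14327) (Tr.lf (Fc.ed (nat_lit 14326) (nat_lit 5623) Col.f (nat_lit 5089) (Dv.wd (nat_lit 11) [Mv.b (nat_lit 13185), Mv.f (nat_lit 9843), Mv.f (nat_lit 14325)])))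
(Tr.nd (nat_lit 14328) (Tr.lf (Fc.ed (nat_lit 14327) (nat_lit 5466) Col.gi (nat_lit 5624) Dv.df))
(Tr.lf (Fc.ed (nat_lit 14328) (nat_lit 3142) Col.e (nat_lit 5625) Dv.df))))
(Tr.nd (nat_lit 14330) (Tr.lf (Fc.ed (nat_lit 14329) (nat_lit 5625) Col.a (nat_lit 4762) (Dv.wd (nat_lit 15) [Mv.f (nat_lit 12486), Mv.f (nat_lit 10460), Mv.f (nat_lit 14328)])))
(Tr.nd (nat_lit 14331) (Tr.lf (Fc.ed (nat_lit 14330) (nat_lit 3295) Col.a (nat_lit 5626) Dv.df))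
(Tr.lf (Fc.ed (nat_lit 14331) (nat_lit 5626) Col.c (nat_lit 4601) (Dv.wd (nat_lit 33) [Mv.f (nat_lit 11688), Mv.b (nat_lit 8445), Mv.f (nat_lit 14330)])))))))))
(Tr.nd (nat_lit 14352) (Tr.nd (nat_lit 14342) (Tr.nd (nat_lit 14337) (Tr.nd (nat_lit 14334) (Tr.nd (nat_lit 14333) (Tr.lf (Fc.ed (nat_lit 14332) (nat_lit 5407) Col.gi (nat_lit 5627) Dv.df))
(Tr.lf (Fc.ed (nat_lit 14333) (nat_lit 5627) Col.gi (nat_lit 3916) (Dv.wd (nat_lit 24) [Mv.f (nat_lit 13794), Mv.f (nat_lit 13873), Mv.f (nat_lit 14332)]))))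
(Tr.nd (nat_lit 14335) (Tr.lf (Fc.ed (nat_lit 14334) (nat_lit 5627) Col.e (nat_lit 3955) (Dv.wd (nat_lit 146) [Mv.b (nat_lit 9731), Mv.f (nat_lit 7091), Mv.b (nat_lit 12929), Mv.b (nat_lit 12703), Mv.f (nat_lit 7584), Mv.b (nat_lit 8653), Mv.f (nat_lit 8652), Mv.b (nat_lit 7880), Mv.b (nat_lit 13874), Mv.f (nat_lit 14332)])))
(Tr.nd (nat_lit 14336) (Tr.lf (Fc.ed (nat_lit 14335) (nat_lit 5553) Col.f (nat_lit 5628) Dv.df))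
(Tr.lf (Fc.ed (nat_lit 14336) (nat_lit 5023) Col.a (nat_lit 5629) Dv.df)))))
(Tr.nd (nat_lit 14339) (Tr.nd (nat_lit 14338) (Tr.lf (Fc.ed (nat_lit 14337) (nat_lit 5629) Col.f (nat_lit 3960) (Dv.wd (nat_lit 35) [Mv.f (nat_lit 13466), Mv.f (nat_lit 13467), Mv.f (nat_lit 14336)])))
(Tr.lf (Fc.ed (nat_lit 14338) (nat_lit 2327) Col.e (nat_lit 5630) Dv.df)))
(Tr.nd (nat_lit 14340) (Tr.lf (Fc.ed (nat_lit 14339) (nat_lit 5630) Col.a (nat_lit 3936) (Dv.wd (nat_lit 15) [Mv.b (nat_lit 9700), Mv.b (nat_lit 7234), Mv.f (nat_lit 14338)])))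
(Tr.nd (nat_lit 14341) (Tr.lf (Fc.ed (nat_lit 14340) (nat_lit 3615) Col.a (nat_lit 5631) Dv.df))
(Tr.lf (Fc.ed (nat_lit 14341) (nat_lit 5631) Col.f (nat_lit 4153) (Dv.wd (nat_lit 35) [Mv.f (nat_lit 13067), Mv.b (nat_lit 13065), Mv.f (nat_lit 14340)])))))))
(Tr.nd (nat_lit 14347) (Tr.nd (nat_lit 14344) (Tr.nd (nat_lit 14343) (Tr.lf (Fc.ed (nat_lit 14342) (nat_lit 4153) Col.g (nat_lit 5057) (Dv.wd (nat_lit 17) [Mv.f (nat_lit 13123), Mv.f (nat_lit 14340), Mv.f (nat_lit 14341)])))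
(Tr.lf (Fc.ed (nat_lit 14343) (nat_lit 3497) Col.f (nat_lit 5632) Dv.df)))
(Tr.nd (nat_lit 14345) (Tr.lf (Fc.ed (nat_lit 14344) (nat_lit 5632) Col.a (nat_lit 4449) (Dv.wd (nat_lit 23) [Mv.b (nat_lit 11414), Mv.b (nat_lit 8854), Mv.f (nat_lit 14343)])))
(Tr.nd (nat_lit 14346) (Tr.lf (Fc.ed (nat_lit 14345) (nat_lit 5522) Col.f (nat_lit 4449) (Dv.wd (nat_lit 35) [Mv.b (nat_lit 14344), Mv.b (nat_lit 14343), Mv.f (nat_lit 14132)])))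
(Tr.lf (Fc.ed (nat_lit 14346) (nat_lit 4082) Col.g (nat_lit 5633) Dv.df)))))
(Tr.nd (nat_lit 14349) (Tr.nd (nat_lit 14348) (Tr.lf (Fc.ed (nat_lit 14347) (nat_lit 5633) Col.g (nat_lit 3426) (Dv.wd (nat_lit 9) [Mv.b (nat_lit 8717), Mv.b (nat_lit 9952), Mv.f (nat_lit 14346)])))
(Tr.lf (Fc.ed (nat_lit 14348) (nat_lit 3425) Col.f (nat_lit 5634) Dv.df)))
(Tr.nd (nat_lit 14350) (Tr.lf (Fc.ed (nat_lit 14349) (nat_lit 1466) Col.b (nat_lit 5635) Dv.df))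
(Tr.nd (nat_lit 14351) (Tr.lf (Fc.ed (nat_lit 14350) (nat_lit 5635) Col.e (nat_lit 4877) (Dv.wd (nat_lit 52) [Mv.b (nat_lit 12711), Mv.f (nat_lit 4421), Mv.f (nat_lit 14349)])))
(Tr.lf (Fc.ed (nat_lit 14351) (nat_lit 5422) Col.c (nat_lit 5636) Dv.df)))))))
(Tr.nd (nat_lit 14362) (Tr.nd (nat_lit 14357) (Tr.nd (nat_lit 14354) (Tr.nd (nat_lit 14353) (Tr.lf (Fc.ed (nat_lit 14352) (nat_lit 5636) Col.e (nat_lit 2228) (Dv.wd (nat_lit 25) [Mv.b (nat_lit 6129), Mv.b (nat_lit 13904), Mv.f (nat_lit 14351)])))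
(Tr.lf (Fc.ed (nat_lit 14353) (nat_lit 1776) Col.b (nat_lit 5637) Dv.df)))
(Tr.nd (nat_lit 14355) (Tr.lf (Fc.ed (nat_lit 14354) (nat_lit 5637) Col.d (nat_lit 5635) (Dv.wd (nat_lit 58) [Mv.b (nat_lit 14349), Mv.f (nat_lit 5125), Mv.f (nat_lit 14353)])))
(Tr.nd (nat_lit 14356) (Tr.lf (Fc.ed (nat_lit 14355) (nat_lit 2566) Col.gi (nat_lit 5638) Dv.df))
(Tr.lf (Fc.ed (nat_lit 14356) (nat_lit 4842) Col.g (nat_lit 5639) Dv.df)))))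
(Tr.nd (nat_lit 14359) (Tr.nd (nat_lit 14358) (Tr.lf (Fc.ed (nat_lit 14357) (nat_lit 5639) Col.g (nat_lit 4809) (Dv.wd (nat_lit 9) [Mv.b (nat_lit 12577), Mv.b (nat_lit 12639), Mv.f (nat_lit 14356)])))
(Tr.lf (Fc.ed (nat_lit 14358) (nat_lit 1732) Col.d (nat_lit 5640) Dv.df)))
(Tr.nd (nat_lit 14360) (Tr.lf (Fc.ed (nat_lit 14359) (nat_lit 5640) Col.a (nat_lit 4620) (Dv.wd (nat_lit 8) [Mv.f (nat_lit 11721), Mv.f (nat_lit 10043), Mv.f (nat_lit 14358)])))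
(Tr.nd (nat_lit 14361) (Tr.lf (Fc.ed (nat_lit 14360) (nat_lit 5504) Col.gi (nat_lit 5641) Dv.df))
(Tr.lf (Fc.ed (nat_lit 14361) (nat_lit 5641) Col.gi (nat_lit 3428) (Dv.wd (nat_lit 24) [Mv.f (nat_lit 12523), Mv.f (nat_lit 14097), Mv.f (nat_lit 14360)])))))))
(Tr.nd (nat_lit 14367) (Tr.nd (nat_lit 14364) (Tr.nd (nat_lit 14363) (Tr.lf (Fc.ed (nat_lit 14362) (nat_lit 3621) Col.a (nat_lit 5642) Dv.df))
(Tr.lf (Fc.ed (nat_lit 14363) (nat_lit 5642) Col.d (nat_lit 4972) (Dv.wd (nat_lit 28) [Mv.b (nat_lit 12899), Mv.f (nat_lit 9935), Mv.f (nat_lit 14362)]))))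
(Tr.nd (nat_lit 14365) (Tr.lf (Fc.ed (nat_lit 14364) (nat_lit 5642) Col.e (nat_lit 5029) (Dv.wd (nat_lit 56) [Mv.b (nat_lit 13059), Mv.b (nat_lit 9088), Mv.f (nat_lit 14362)])))
(Tr.nd (nat_lit 14366) (Tr.lf (Fc.ed (nat_lit 14365) (nat_lit 5590) Col.b (nat_lit 5643) Dv.df))
(Tr.lf (Fc.ed (nat_lit 14366) (nat_lit 5643) Col.a (nat_lit 2861) (Dv.wd (nat_lit 98) [Mv.b (nat_lit 7537), Mv.b (nat_lit 5588), Mv.b (nat_lit 8076), Mv.b (nat_lit 14261), Mv.f (nat_lit 14365)]))))))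
(Tr.nd (nat_lit 14370) (Tr.nd (nat_lit 14368) (Tr.lf (Fc.ed (nat_lit 14367) (nat_lit 4809) Col.c (nat_lit 5643) (Dv.wd (nat_lit 134) [Mv.f (nat_lit 14366), Mv.b (nat_lit 8771), Mv.f (nat_lit 12577)])))
(Tr.nd (nat_lit 14369) (Tr.lf (Fc.ed (nat_lit 14368) (nat_lit 5613) Col.b (nat_lit 5644) Dv.df))
(Tr.lf (Fc.ed (nat_lit 14369) (nat_lit 5644) Col.a (nat_lit 4203) (Dv.wd (nat_lit 98) [Mv.b (nat_lit 10844), Mv.f (nat_lit 7712), Mv.f (nat_lit 9064), Mv.f (nat_lit 14304), Mv.f (nat_lit 14368)])))))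
(Tr.nd (nat_lit 14371) (Tr.lf (Fc.ed (nat_lit 14370) (nat_lit 2947) Col.b (nat_lit 5645) Dv.df))
(Tr.nd (nat_lit 14372) (Tr.lf (Fc.ed (nat_lit 14371) (nat_lit 5645) Col.e (nat_lit 5450) (Dv.wd (nat_lit 52) [Mv.b (nat_lit 14001), Mv.f (nat_lit 7720), Mv.f (nat_lit 14370)])))
(Tr.lf (Fc.ed (nat_lit 14372) (nat_lit 1636) Col.g (nat_lit 5646) Dv.df)))))))))
(Tr.nd (nat_lit 14414) (Tr.nd (nat_lit 14393) (Tr.nd (nat_lit 14383) (Tr.nd (nat_lit 14378) (Tr.nd (nat_lit 14375) (Tr.nd (nat_lit 14374) (Tr.lf (Fc.ed (nat_lit 14373) (nat_lit 5646) Col.g (nat_lit 3741) (Dv.wd (nat_lit 9) [Mv.f (nat_lit 9326), Mv.b (nat_lit 8365), Mv.f (nat_lit 14372)])))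
(Tr.lf (Fc.ed (nat_lit 14374) (nat_lit 5375) Col.c (nat_lit 5647) Dv.df)))
(Tr.nd (nat_lit 14376) (Tr.lf (Fc.ed (nat_lit 14375) (nat_lit 5258) Col.a (nat_lit 5648) Dv.df))
(Tr.nd (nat_lit 14377) (Tr.lf (Fc.ed (nat_lit 14376) (nat_lit 5648) Col.e (nat_lit 5415) (Dv.wd (nat_lit 56) [Mv.b (nat_lit 13888), Mv.b (nat_lit 13546), Mv.f (nat_lit 14375)])))
(Tr.lf (Fc.ed (nat_lit 14377) (nat_lit 3106) Col.a (nat_lit 5649) Dv.df)))))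
(Tr.nd (nat_lit 14380) (Tr.nd (nat_lit 14379) (Tr.lf (Fc.ed (nat_lit 14378) (nat_lit 5649) Col.e (nat_lit 4080) (Dv.wd (nat_lit 56) [Mv.f (nat_lit 10548), Mv.b (nat_lit 9139), Mv.f (nat_lit 14377)])))
(Tr.lf (Fc.ed (nat_lit 14379) (nat_lit 5649) Col.f (nat_lit 3272) (Dv.wd (nat_lit 35) [Mv.f (nat_lit 13464), Mv.f (nat_lit 13465), Mv.f (nat_lit 14377)]))))
(Tr.nd (nat_lit 14381) (Tr.lf (Fc.ed (nat_lit 14380) (nat_lit 2841) Col.g (nat_lit 5650) Dv.df))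
(Tr.nd (nat_lit 14382) (Tr.lf (Fc.ed (nat_lit 14381) (nat_lit 5371) Col.a (nat_lit 5651) Dv.df))
(Tr.lf (Fc.ed (nat_lit 14382) (nat_lit 5651) Col.e (nat_lit 3555) (Dv.wd (nat_lit 56) [Mv.f (nat_lit 10442), Mv.b (nat_lit 13805), Mv.f (nat_lit 14381)])))))))
(Tr.nd (nat_lit 14388) (Tr.nd (nat_lit 14385) (Tr.nd (nat_lit 14384) (Tr.lf (Fc.ed (nat_lit 14383) (nat_lit 5651) Col.b (nat_lit 5625) (Dv.wd (nat_lit 65) [Mv.f (nat_lit 14329), Mv.b (nat_lit 12485), Mv.b (nat_lit 11748), Mv.f (nat_lit 13804), Mv.f (nat_lit 14381)])))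
(Tr.lf (Fc.ed (nat_lit 14384) (nat_lit 3389) Col.f (nat_lit 5652) Dv.df)))
(Tr.nd (nat_lit 14386) (Tr.lf (Fc.ed (nat_lit 14385) (nat_lit 5652) Col.a (nat_lit 4544) (Dv.wd (nat_lit 16) [Mv.b (nat_lit 14170), Mv.b (nat_lit 14169), Mv.f (nat_lit 14384)])))
(Tr.nd (nat_lit 14387) (Tr.lf (Fc.ed (nat_lit 14386) (nat_lit 5119) Col.gi (nat_lit 5653) Dv.df))
(Tr.lf (Fc.ed (nat_lit 14387) (nat_lit 5577) Col.gi (nat_lit 5654) Dv.df)))))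
(Tr.nd (nat_lit 14390) (Tr.nd (nat_lit 14389) (Tr.lf (Fc.ed (nat_lit 14388) (nat_lit 5654) Col.gi (nat_lit 4694) (Dv.wd (nat_lit 24) [Mv.b (nat_lit 11857), Mv.f (nat_lit 14235), Mv.f (nat_lit 14387)])))
(Tr.lf (Fc.ed (nat_lit 14389) (nat_lit 5026) Col.c (nat_lit 5655) Dv.df)))
(Tr.nd (nat_lit 14391) (Tr.lf (Fc.ed (nat_lit 14390) (nat_lit 5655) Col.b (nat_lit 5279) (Dv.wd (nat_lit 87) [Mv.b (nat_lit 13588), Mv.b (nat_lit 13440), Mv.b (nat_lit 13439), Mv.b (nat_lit 13359), Mv.f (nat_lit 14389)])))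
(Tr.nd (nat_lit 14392) (Tr.lf (Fc.ed (nat_lit 14391) (nat_lit 5452) Col.d (nat_lit 5655) (Dv.wd (nat_lit 116) [Mv.f (nat_lit 14390), Mv.f (nat_lit 13590), Mv.b (nat_lit 14006)])))
(Tr.lf (Fc.ed (nat_lit 14392) (nat_lit 3393) Col.f (nat_lit 5656) Dv.df)))))))
(Tr.nd (nat_lit 14403) (Tr.nd (nat_lit 14398) (Tr.nd (nat_lit 14395) (Tr.nd (nat_lit 14394) (Tr.lf (Fc.ed (nat_lit 14393) (nat_lit 5656) Col.a (nat_lit 4459) (Dv.wd (nat_lit 16) [Mv.b (nat_lit 11429), Mv.f (nat_lit 8647), Mv.f (nat_lit 14392)])))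
(Tr.lf (Fc.ed (nat_lit 14394) (nat_lit 5656) Col.b (nat_lit 5413) (Dv.wd (nat_lit 66) [Mv.f (nat_lit 13885), Mv.f (nat_lit 12137), Mv.f (nat_lit 14392)]))))
(Tr.nd (nat_lit 14396) (Tr.lf (Fc.ed (nat_lit 14395) (nat_lit 5508) Col.e (nat_lit 5657) Dv.df))
(Tr.nd (nat_lit 14397) (Tr.lf (Fc.ed (nat_lit 14396) (nat_lit 3481) Col.gi (nat_lit 5658) Dv.df))
(Tr.lf (Fc.ed (nat_lit 14397) (nat_lit 3481) Col.e (nat_lit 5659) Dv.df)))))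
(Tr.nd (nat_lit 14400) (Tr.nd (nat_lit 14399) (Tr.lf (Fc.ed (nat_lit 14398) (nat_lit 4412) Col.e (nat_lit 5660) Dv.df))
(Tr.lf (Fc.ed (nat_lit 14399) (nat_lit 2771) Col.a (nat_lit 5661) Dv.df)))
(Tr.nd (nat_lit 14401) (Tr.lf (Fc.ed (nat_lit 14400) (nat_lit 5661) Col.c (nat_lit 3889) (Dv.wd (nat_lit 33) [Mv.f (nat_lit 9577), Mv.b (nat_lit 7338), Mv.f (nat_lit 14399)])))
(Tr.nd (nat_lit 14402) (Tr.lf (Fc.ed (nat_lit 14401) (nat_lit 5661) Col.f (nat_lit 5458) (Dv.wd (nat_lit 35) [Mv.b (nat_lit 14016), Mv.b (nat_lit 7730), Mv.f (nat_lit 14399)])))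
(Tr.lf (Fc.ed (nat_lit 14402) (nat_lit 5583) Col.g (nat_lit 5662) Dv.df))))))
(Tr.nd (nat_lit 14408) (Tr.nd (nat_lit 14405) (Tr.nd (nat_lit 14404) (Tr.lf (Fc.ed (nat_lit 14403) (nat_lit 5662) Col.a (nat_lit 4889) (Dv.wd (nat_lit 114) [Mv.f (nat_lit 12747), Mv.f (nat_lit 14249), Mv.f (nat_lit 14402)])))
(Tr.lf (Fc.ed (nat_lit 14404) (nat_lit 1899) Col.e (nat_lit 5663) Dv.df)))
(Tr.nd (nat_lit 14406) (Tr.lf (Fc.ed (nat_lit 14405) (nat_lit 5663) Col.a (nat_lit 5570) (Dv.wd (nat_lit 15) [Mv.b (nat_lit 14222), Mv.b (nat_lit 6038), Mv.f (nat_lit 14404)])))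
(Tr.nd (nat_lit 14407) (Tr.lf (Fc.ed (nat_lit 14406) (nat_lit 5663) Col.c (nat_lit 5369) (Dv.wd (nat_lit 18) [Mv.b (nat_lit 13800), Mv.f (nat_lit 5482), Mv.f (nat_lit 14404)])))
(Tr.lf (Fc.ed (nat_lit 14407) (nat_lit 3608) Col.g (nat_lit 5664) Dv.df)))))
(Tr.nd (nat_lit 14411) (Tr.nd (nat_lit 14409) (Tr.lf (Fc.ed (nat_lit 14408) (nat_lit 5664) Col.g (nat_lit 4878) (Dv.wd (nat_lit 9) [Mv.f (nat_lit 12713), Mv.f (nat_lit 10894), Mv.f (nat_lit 14407)])))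
(Tr.nd (nat_lit 14410) (Tr.lf (Fc.ed (nat_lit 14409) (nat_lit 5547) Col.e (nat_lit 5665) Dv.df))
(Tr.lf (Fc.ed (nat_lit 14410) (nat_lit 5665) Col.b (nat_lit 2024) (Dv.wd (nat_lit 49) [Mv.f (nat_lit 6368), Mv.b (nat_lit 14177), Mv.f (nat_lit 14409)])))))
(Tr.nd (nat_lit 14412) (Tr.lf (Fc.ed (nat_lit 14411) (nat_lit 5510) Col.b (nat_lit 5666) Dv.df))
(Tr.nd (nat_lit 14413) (Tr.lf (Fc.ed (nat_lit 14412) (nat_lit 3276) Col.d (nat_lit 5667) Dv.df))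
(Tr.lf (Fc.ed (nat_lit 14413) (nat_lit 5667) Col.a (nat_lit 5532) (Dv.wd (nat_lit 8) [Mv.b (nat_lit 14146), Mv.b (nat_lit 8405), Mv.f (nat_lit 14412)])))))))))
(Tr.nd (nat_lit 14435) (Tr.nd (nat_lit 14424) (Tr.nd (nat_lit 14419) (Tr.nd (nat_lit 14416) (Tr.nd (nat_lit 14415) (Tr.lf (Fc.ed (nat_lit 14414) (nat_lit 5329) Col.gi (nat_lit 5668) Dv.df))
(Tr.lf (Fc.ed (nat_lit 14415) (nat_lit 5668) Col.gi (nat_lit 4781) (Dv.wd (nat_lit 24) [Mv.b (nat_lit 12523), Mv.b (nat_lit 13726), Mv.f (nat_lit 14414)]))))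
(Tr.nd (nat_lit 14417) (Tr.lf (Fc.ed (nat_lit 14416) (nat_lit 5599) Col.f (nat_lit 5669) Dv.df))
(Tr.nd (nat_lit 14418) (Tr.lf (Fc.ed (nat_lit 14417) (nat_lit 3628) Col.f (nat_lit 5670) Dv.df))
(Tr.lf (Fc.ed (nat_lit 14418) (nat_lit 3907) Col.e (nat_lit 5671) Dv.df)))))
(Tr.nd (nat_lit 14421) (Tr.nd (nat_lit 14420) (Tr.lf (Fc.ed (nat_lit 14419) (nat_lit 3324) Col.d (nat_lit 5672) Dv.df))
(Tr.lf (Fc.ed (nat_lit 14420) (nat_lit 3155) Col.c (nat_lit 5673) Dv.df)))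
(Tr.nd (nat_lit 14422) (Tr.lf (Fc.ed (nat_lit 14421) (nat_lit 2521) Col.e (nat_lit 5674) Dv.df))
(Tr.nd (nat_lit 14423) (Tr.lf (Fc.ed (nat_lit 14422) (nat_lit 5467) Col.c (nat_lit 5675) Dv.df))
(Tr.lf (Fc.ed (nat_lit 14423) (nat_lit 1373) Col.c (nat_lit 5676) Dv.df))))))
(Tr.nd (nat_lit 14429) (Tr.nd (nat_lit 14426) (Tr.nd (nat_lit 14425) (Tr.lf (Fc.ed (nat_lit 14424) (nat_lit 4034) Col.d (nat_lit 5677) Dv.df))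
(Tr.lf (Fc.ed (nat_lit 14425) (nat_lit 5407) Col.f (nat_lit 5678) Dv.df)))
(Tr.nd (nat_lit 14427) (Tr.lf (Fc.ed (nat_lit 14426) (nat_lit 5678) Col.a (nat_lit 3916) (Dv.wd (nat_lit 16) [Mv.f (nat_lit 13794), Mv.f (nat_lit 13873), Mv.f (nat_lit 14425)])))
(Tr.nd (nat_lit 14428) (Tr.lf (Fc.ed (nat_lit 14427) (nat_lit 5678) Col.d (nat_lit 5008) (Dv.wd (nat_lit 21) [Mv.b (nat_lit 13019), Mv.b (nat_lit 13874), Mv.f (nat_lit 14425)])))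
(Tr.lf (Fc.ed (nat_lit 14428) (nat_lit 5620) Col.e (nat_lit 5678) (Dv.wd (nat_lit 72) [Mv.f (nat_lit 14426), Mv.f (nat_lit 10185), Mv.f (nat_lit 14319)]))))))
(Tr.nd (nat_lit 14432) (Tr.nd (nat_lit 14430) (Tr.lf (Fc.ed (nat_lit 14429) (nat_lit 5115) Col.b (nat_lit 5679) Dv.df))
(Tr.nd (nat_lit 14431) (Tr.lf (Fc.ed (nat_lit 14430) (nat_lit 4767) Col.gi (nat_lit 5680) Dv.df))
(Tr.lf (Fc.ed (nat_lit 14431) (nat_lit 3516) Col.a (nat_lit 5681) Dv.df))))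
(Tr.nd (nat_lit 14433) (Tr.lf (Fc.ed (nat_lit 14432) (nat_lit 5681) Col.d (nat_lit 5076) (Dv.wd (nat_lit 28) [Mv.f (nat_lit 13163), Mv.b (nat_lit 8888), Mv.f (nat_lit 14431)])))
(Tr.nd (nat_lit 14434) (Tr.lf (Fc.ed (nat_lit 14433) (nat_lit 5681) Col.f (nat_lit 5642) (Dv.wd (nat_lit 35) [Mv.b (nat_lit 14362), Mv.f (nat_lit 9089), Mv.f (nat_lit 14431)])))
(Tr.lf (Fc.ed (nat_lit 14434) (nat_lit 4119) Col.d (nat_lit 5682) Dv.df)))))))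
(Tr.nd (nat_lit 14445) (Tr.nd (nat_lit 14440) (Tr.nd (nat_lit 14437) (Tr.nd (nat_lit 14436) (Tr.lf (Fc.ed (nat_lit 14435) (nat_lit 5682) Col.a (nat_lit 5374) (Dv.wd (nat_lit 8) [Mv.b (nat_lit 13811), Mv.b (nat_lit 10612), Mv.f (nat_lit 14434)])))
(Tr.lf (Fc.ed (nat_lit 14436) (nat_lit 5017) Col.a (nat_lit 5683) Dv.df)))
(Tr.nd (nat_lit 14438) (Tr.lf (Fc.ed (nat_lit 14437) (nat_lit 5683) Col.f (nat_lit 5364) (Dv.wd (nat_lit 35) [Mv.b (nat_lit 13786), Mv.f (nat_lit 13036), Mv.f (nat_lit 14436)])))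
(Tr.nd (nat_lit 14439) (Tr.lf (Fc.ed (nat_lit 14438) (nat_lit 4710) Col.b (nat_lit 5684) Dv.df))
(Tr.lf (Fc.ed (nat_lit 14439) (nat_lit 4177) Col.b (nat_lit 5685) Dv.df)))))
(Tr.nd (nat_lit 14442) (Tr.nd (nat_lit 14441) (Tr.lf (Fc.ed (nat_lit 14440) (nat_lit 5444) Col.b (nat_lit 5686) Dv.df))
(Tr.lf (Fc.ed (nat_lit 14441) (nat_lit 5686) Col.e (nat_lit 5519) (Dv.wd (nat_lit 52) [Mv.b (nat_lit 14122), Mv.b (nat_lit 13988), Mv.f (nat_lit 14440)]))))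
(Tr.nd (nat_lit 14443) (Tr.lf (Fc.ed (nat_lit 14442) (nat_lit 4630) Col.g (nat_lit 5687) Dv.df))
(Tr.nd (nat_lit 14444) (Tr.lf (Fc.ed (nat_lit 14443) (nat_lit 5687) Col.g (nat_lit 4631) (Dv.wd (nat_lit 9) [Mv.b (nat_lit 11741), Mv.b (nat_lit 12112), Mv.f (nat_lit 14442)])))
(Tr.lf (Fc.ed (nat_lit 14444) (nat_lit 3157) Col.b (nat_lit 5688) Dv.df))))))
(Tr.nd (nat_lit 14450) (Tr.nd (nat_lit 14447) (Tr.nd (nat_lit 14446) (Tr.lf (Fc.ed (nat_lit 14445) (nat_lit 4174) Col.gi (nat_lit 5689) Dv.df))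
(Tr.lf (Fc.ed (nat_lit 14446) (nat_lit 5689) Col.gi (nat_lit 3209) (Dv.wd (nat_lit 24) [Mv.b (nat_lit 9442), Mv.b (nat_lit 10791), Mv.f (nat_lit 14445)]))))
(Tr.nd (nat_lit 14448) (Tr.lf (Fc.ed (nat_lit 14447) (nat_lit 5676) Col.g (nat_lit 5690) Dv.df))
(Tr.nd (nat_lit 14449) (Tr.lf (Fc.ed (nat_lit 14448) (nat_lit 4504) Col.b (nat_lit 5691) Dv.df))
(Tr.lf (Fc.ed (nat_lit 14449) (nat_lit 4844) Col.c (nat_lit 5692) Dv.df)))))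
(Tr.nd (nat_lit 14453) (Tr.nd (nat_lit 14451) (Tr.lf (Fc.ed (nat_lit 14450) (nat_lit 3450) Col.f (nat_lit 5693) Dv.df))
(Tr.nd (nat_lit 14452) (Tr.lf (Fc.ed (nat_lit 14451) (nat_lit 5138) Col.c (nat_lit 5694) Dv.df))
(Tr.lf (Fc.ed (nat_lit 14452) (nat_lit 4948) Col.a (nat_lit 5695) Dv.df))))
(Tr.nd (nat_lit 14454) (Tr.lf (Fc.ed (nat_lit 14453) (nat_lit 5695) Col.f (nat_lit 5193) (Dv.wd (nat_lit 10) [Mv.f (nat_lit 13416), Mv.f (nat_lit 12856), Mv.f (nat_lit 14452)])))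
(Tr.nd (nat_lit 14455) (Tr.lf (Fc.ed (nat_lit 14454) (nat_lit 3390) Col.g (nat_lit 5696) Dv.df))
(Tr.lf (Fc.ed (nat_lit 14455) (nat_lit 4787) Col.a (nat_lit 5697) Dv.df)))))))))))))
(Tr.nd (nat_lit 15113) (Tr.nd (nat_lit 14784) (Tr.nd (nat_lit 14620) (Tr.nd (nat_lit 14538) (Tr.nd (nat_lit 14497) (Tr.nd (nat_lit 14476) (Tr.nd (nat_lit 14466) (Tr.nd (nat_lit 14461) (Tr.nd (nat_lit 14458) (Tr.nd (nat_lit 14457) (Tr.lf (Fc.ed (nat_lit 14456) (nat_lit 5697) Col.d (nat_lit 2929) (Dv.wd (nat_lit 28) [Mv.f (nat_lit 11521), Mv.f (nat_lit 12535), Mv.f (nat_lit 14455)])))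
(Tr.lf (Fc.ed (nat_lit 14457) (nat_lit 5203) Col.g (nat_lit 5698) Dv.df)))
(Tr.nd (nat_lit 14459) (Tr.lf (Fc.ed (nat_lit 14458) (nat_lit 5698) Col.g (nat_lit 3299) (Dv.wd (nat_lit 9) [Mv.f (nat_lit 12785), Mv.f (nat_lit 13434), Mv.f (nat_lit 14457)])))
(Tr.nd (nat_lit 14460) (Tr.lf (Fc.ed (nat_lit 14459) (nat_lit 5603) Col.e (nat_lit 5698) (Dv.wd (nat_lit 131) [Mv.f (nat_lit 14458), Mv.b (nat_lit 8453), Mv.f (nat_lit 6992), Mv.b (nat_lit 4117), Mv.b (nat_lit 4014), Mv.b (nat_lit 4394), Mv.f (nat_lit 6234), Mv.f (nat_lit 6731), Mv.b (nat_lit 11117), Mv.f (nat_lit 14284)])))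
(Tr.lf (Fc.ed (nat_lit 14460) (nat_lit 5460) Col.gi (nat_lit 4036) (Dv.wd (nat_lit 151) [Mv.b (nat_lit 9866), Mv.f (nat_lit 9740), Mv.f (nat_lit 8058), Mv.f (nat_lit 8057), Mv.f (nat_lit 11116), Mv.f (nat_lit 14284), Mv.f (nat_lit 14459), Mv.b (nat_lit 14457), Mv.b (nat_lit 14021), Mv.f (nat_lit 14019)]))))))
(Tr.nd (nat_lit 14463) (Tr.nd (nat_lit 14462) (Tr.lf (Fc.ed (nat_lit 14461) (nat_lit 4703) Col.gi (nat_lit 5699) Dv.df))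
(Tr.lf (Fc.ed (nat_lit 14462) (nat_lit 3010) Col.g (nat_lit 5700) Dv.df)))
(Tr.nd (nat_lit 14464) (Tr.lf (Fc.ed (nat_lit 14463) (nat_lit 5700) Col.g (nat_lit 5514) (Dv.wd (nat_lit 9) [Mv.f (nat_lit 14113), Mv.b (nat_lit 7851), Mv.f (nat_lit 14462)])))
(Tr.nd (nat_lit 14465) (Tr.lf (Fc.ed (nat_lit 14464) (nat_lit 3712) Col.b (nat_lit 5701) Dv.df))
(Tr.lf (Fc.ed (nat_lit 14465) (nat_lit 5701) Col.e (nat_lit 5500) (Dv.wd (nat_lit 52) [Mv.b (nat_lit 14092), Mv.b (nat_lit 10711), Mv.f (nat_lit 14464)])))))))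
(Tr.nd (nat_lit 14471) (Tr.nd (nat_lit 14468) (Tr.nd (nat_lit 14467) (Tr.lf (Fc.ed (nat_lit 14466) (nat_lit 5252) Col.c (nat_lit 5702) Dv.df))
(Tr.lf (Fc.ed (nat_lit 14467) (nat_lit 3270) Col.g (nat_lit 5703) Dv.df)))
(Tr.nd (nat_lit 14469) (Tr.lf (Fc.ed (nat_lit 14468) (nat_lit 5703) Col.g (nat_lit 3521) (Dv.wd (nat_lit 9) [Mv.f (nat_lit 10936), Mv.b (nat_lit 10934), Mv.f (nat_lit 14467)])))
(Tr.nd (nat_lit 14470) (Tr.lf (Fc.ed (nat_lit 14469) (nat_lit 5241) Col.c (nat_lit 5704) Dv.df))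
(Tr.lf (Fc.ed (nat_lit 14470) (nat_lit 5642) Col.g (nat_lit 5705) Dv.df)))))
(Tr.nd (nat_lit 14473) (Tr.nd (nat_lit 14472) (Tr.lf (Fc.ed (nat_lit 14471) (nat_lit 3512) Col.c (nat_lit 5706) Dv.df))
(Tr.lf (Fc.ed (nat_lit 14472) (nat_lit 5357) Col.c (nat_lit 5707) Dv.df)))
(Tr.nd (nat_lit 14474) (Tr.lf (Fc.ed (nat_lit 14473) (nat_lit 5707) Col.a (nat_lit 5636) (Dv.wd (nat_lit 19) [Mv.b (nat_lit 14351), Mv.b (nat_lit 13903), Mv.f (nat_lit 14472)])))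
(Tr.nd (nat_lit 14475) (Tr.lf (Fc.ed (nat_lit 14474) (nat_lit 3761) Col.b (nat_lit 5708) Dv.df))
(Tr.lf (Fc.ed (nat_lit 14475) (nat_lit 5132) Col.b (nat_lit 5709) Dv.df)))))))
(Tr.nd (nat_lit 14486) (Tr.nd (nat_lit 14481) (Tr.nd (nat_lit 14478) (Tr.nd (nat_lit 14477) (Tr.lf (Fc.ed (nat_lit 14476) (nat_lit 5680) Col.gi (nat_lit 5710) Dv.df))
(Tr.lf (Fc.ed (nat_lit 14477) (nat_lit 4650) Col.c (nat_lit 5711) Dv.df)))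
(Tr.nd (nat_lit 14479) (Tr.lf (Fc.ed (nat_lit 14478) (nat_lit 5130) Col.gi (nat_lit 5712) Dv.df))
(Tr.nd (nat_lit 14480) (Tr.lf (Fc.ed (nat_lit 14479) (nat_lit 5712) Col.e (nat_lit 5520) (Dv.wd (nat_lit 146) [Mv.b (nat_lit 14124), Mv.f (nat_lit 8482), Mv.b (nat_lit 6069), Mv.b (nat_lit 6066), Mv.b (nat_lit 5556), Mv.b (nat_lit 6896), Mv.b (nat_lit 6894), Mv.f (nat_lit 12823), Mv.f (nat_lit 13267), Mv.f (nat_lit 14478)])))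
(Tr.lf (Fc.ed (nat_lit 14480) (nat_lit 4808) Col.gi (nat_lit 5713) Dv.df)))))
(Tr.nd (nat_lit 14483) (Tr.nd (nat_lit 14482) (Tr.lf (Fc.ed (nat_lit 14481) (nat_lit 5713) Col.c (nat_lit 5292) (Dv.wd (nat_lit 14) [Mv.b (nat_lit 13613), Mv.b (nat_lit 8425), Mv.f (nat_lit 7738), Mv.f (nat_lit 4896), Mv.b (nat_lit 5517), Mv.b (nat_lit 9563), Mv.f (nat_lit 9732), Mv.b (nat_lit 12576), Mv.f (nat_lit 14480)])))
(Tr.lf (Fc.ed (nat_lit 14482) (nat_lit 5713) Col.e (nat_lit 5574) (Dv.wd (nat_lit 146) [Mv.b (nat_lit 14230), Mv.b (nat_lit 13964), Mv.b (nat_lit 12678), Mv.f (nat_lit 5690), Mv.f (nat_lit 3161), Mv.f (nat_lit 5515), Mv.b (nat_lit 9563), Mv.f (nat_lit 9732), Mv.b (nat_lit 12576), Mv.f (nat_lit 14480)]))))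
(Tr.nd (nat_lit 14484) (Tr.lf (Fc.ed (nat_lit 14483) (nat_lit 5574) Col.c (nat_lit 5263) (Dv.wd (nat_lit 18) [Mv.b (nat_lit 13614), Mv.b (nat_lit 14481), Mv.f (nat_lit 14482)])))
(Tr.nd (nat_lit 14485) (Tr.lf (Fc.ed (nat_lit 14484) (nat_lit 2917) Col.c (nat_lit 3517) (Dv.wd (nat_lit 14) [Mv.b (nat_lit 8890), Mv.f (nat_lit 12678), Mv.f (nat_lit 13964), Mv.f (nat_lit 14230), Mv.f (nat_lit 14483), Mv.b (nat_lit 13560), Mv.f (nat_lit 7553), Mv.b (nat_lit 4465), Mv.b (nat_lit 13948)])))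
(Tr.lf (Fc.ed (nat_lit 14485) (nat_lit 3517) Col.a (nat_lit 5436) (Dv.wd (nat_lit 19) [Mv.b (nat_lit 13976), Mv.f (nat_lit 7660), Mv.f (nat_lit 14484)])))))))
(Tr.nd (nat_lit 14491) (Tr.nd (nat_lit 14488) (Tr.nd (nat_lit 14487) (Tr.lf (Fc.ed (nat_lit 14486) (nat_lit 3611) Col.c (nat_lit 2727) (Dv.wd (nat_lit 81) [Mv.b (nat_lit 7243), Mv.b (nat_lit 6988), Mv.b (nat_lit 13949), Mv.f (nat_lit 14484), Mv.b (nat_lit 8890), Mv.f (nat_lit 5689), Mv.b (nat_lit 4167), Mv.b (nat_lit 4452), Mv.b (nat_lit 9073)])))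
(Tr.lf (Fc.ed (nat_lit 14487) (nat_lit 5436) Col.f (nat_lit 5282) (Dv.wd (nat_lit 10) [Mv.f (nat_lit 13596), Mv.b (nat_lit 8891), Mv.f (nat_lit 14485)]))))
(Tr.nd (nat_lit 14489) (Tr.lf (Fc.ed (nat_lit 14488) (nat_lit 5282) Col.c (nat_lit 3008) (Dv.wd (nat_lit 34) [Mv.b (nat_lit 7842), Mv.f (nat_lit 13976), Mv.f (nat_lit 14487)])))
(Tr.nd (nat_lit 14490) (Tr.lf (Fc.ed (nat_lit 14489) (nat_lit 5706) Col.e (nat_lit 5282) (Dv.wd (nat_lit 84) [Mv.f (nat_lit 14488), Mv.f (nat_lit 13945), Mv.f (nat_lit 14471)])))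
(Tr.lf (Fc.ed (nat_lit 14490) (nat_lit 2868) Col.c (nat_lit 2836) (Dv.wd (nat_lit 138) [Mv.b (nat_lit 7482), Mv.b (nat_lit 7005), Mv.b (nat_lit 7136), Mv.f (nat_lit 8150), Mv.b (nat_lit 13596), Mv.f (nat_lit 14488), Mv.b (nat_lit 13946), Mv.f (nat_lit 4465), Mv.b (nat_lit 7553)]))))))
(Tr.nd (nat_lit 14494) (Tr.nd (nat_lit 14492) (Tr.lf (Fc.ed (nat_lit 14491) (nat_lit 3008) Col.b (nat_lit 4189) (Dv.wd (nat_lit 101) [Mv.b (nat_lit 10818), Mv.f (nat_lit 4884), Mv.b (nat_lit 5689), Mv.f (nat_lit 8890), Mv.b (nat_lit 14484), Mv.f (nat_lit 13949), Mv.f (nat_lit 7135), Mv.f (nat_lit 8150), Mv.b (nat_lit 13596), Mv.f (nat_lit 14488)])))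
(Tr.nd (nat_lit 14493) (Tr.lf (Fc.ed (nat_lit 14492) (nat_lit 5176) Col.c (nat_lit 4118) (Dv.wd (nat_lit 156) [Mv.f (nat_lit 10610), Mv.f (nat_lit 7676), Mv.b (nat_lit 10819), Mv.b (nat_lit 14491), Mv.b (nat_lit 14488), Mv.b (nat_lit 13595), Mv.f (nat_lit 5689), Mv.b (nat_lit 4884), Mv.b (nat_lit 7107), Mv.f (nat_lit 13363)])))
(Tr.lf (Fc.al (nat_lit 14493) (nat_lit 4640) (nat_lit 3844) (Dv.wd (nat_lit 105) [Mv.b (nat_lit 9506), Mv.f (nat_lit 7346), Mv.b (nat_lit 6942), Mv.f (nat_lit 7106), Mv.f (nat_lit 13363), Mv.f (nat_lit 14492), Mv.b (nat_lit 10609), Mv.b (nat_lit 6015), Mv.f (nat_lit 4884), Mv.f (nat_lit 6428), Mv.f (nat_lit 11760)])))))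
(Tr.nd (nat_lit 14495) (Tr.lf (Fc.ed (nat_lit 14494) (nat_lit 3844) Col.c (nat_lit 2358) (Dv.wd (nat_lit 103) [Mv.f (nat_lit 11760), Mv.f (nat_lit 14493)])))
(Tr.nd (nat_lit 14496) (Tr.lf (Fc.ed (nat_lit 14495) (nat_lit 5450) Col.c (nat_lit 4317) (Dv.wd (nat_lit 156) [Mv.f (nat_lit 11096), Mv.b (nat_lit 6015), Mv.b (nat_lit 7107), Mv.f (nat_lit 13363), Mv.f (nat_lit 14492), Mv.f (nat_lit 10610), Mv.f (nat_lit 7676), Mv.f (nat_lit 6942), Mv.b (nat_lit 7563), Mv.f (nat_lit 14001)])))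
(Tr.lf (Fc.ed (nat_lit 14496) (nat_lit 5436) Col.g (nat_lit 1851) (Dv.wd (nat_lit 105) [Mv.b (nat_lit 5277), Mv.f (nat_lit 4332), Mv.f (nat_lit 7562), Mv.f (nat_lit 14001), Mv.f (nat_lit 14495), Mv.b (nat_lit 11095), Mv.f (nat_lit 7676), Mv.f (nat_lit 6942), Mv.b (nat_lit 6793), Mv.f (nat_lit 13976)])))))))))
(Tr.nd (nat_lit 14517) (Tr.nd (nat_lit 14507) (Tr.nd (nat_lit 14502) (Tr.nd (nat_lit 14499) (Tr.nd (nat_lit 14498) (Tr.lf (Fc.ed (nat_lit 14497) (nat_lit 3354) Col.g (nat_lit 5436) (Dv.wd (nat_lit 17) [Mv.f (nat_lit 14496), Mv.f (nat_lit 5688), Mv.b (nat_lit 8569)])))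
(Tr.lf (Fc.ed (nat_lit 14498) (nat_lit 2713) Col.c (nat_lit 2807) (Dv.wd (nat_lit 81) [Mv.f (nat_lit 7423), Mv.f (nat_lit 6792), Mv.b (nat_lit 6793), Mv.f (nat_lit 13976), Mv.f (nat_lit 14496), Mv.b (nat_lit 5277), Mv.f (nat_lit 4333), Mv.b (nat_lit 4341), Mv.b (nat_lit 7215)]))))
(Tr.nd (nat_lit 14500) (Tr.lf (Fc.ed (nat_lit 14499) (nat_lit 2978) Col.c (nat_lit 4147) (Dv.wd (nat_lit 33) [Mv.b (nat_lit 10718), Mv.f (nat_lit 14498), Mv.f (nat_lit 7779)])))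
(Tr.nd (nat_lit 14501) (Tr.lf (Fc.ed (nat_lit 14500) (nat_lit 5383) Col.b (nat_lit 2833) (Dv.wd (nat_lit 101) [Mv.f (nat_lit 7477), Mv.f (nat_lit 4241), Mv.b (nat_lit 4341), Mv.b (nat_lit 7215), Mv.f (nat_lit 14498), Mv.f (nat_lit 7423), Mv.b (nat_lit 5636), Mv.f (nat_lit 8967), Mv.b (nat_lit 12626), Mv.f (nat_lit 13828)])))
(Tr.lf (Fc.ed (nat_lit 14501) (nat_lit 2862) Col.c (nat_lit 2833) (Dv.wd (nat_lit 67) [Mv.b (nat_lit 7780), Mv.f (nat_lit 14499), Mv.f (nat_lit 10719)]))))))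
(Tr.nd (nat_lit 14504) (Tr.nd (nat_lit 14503) (Tr.lf (Fc.ed (nat_lit 14502) (nat_lit 2872) Col.c (nat_lit 5094) (Dv.wd (nat_lit 138) [Mv.f (nat_lit 13198), Mv.b (nat_lit 8567), Mv.f (nat_lit 7075), Mv.f (nat_lit 6961), Mv.f (nat_lit 7539), Mv.f (nat_lit 14501), Mv.f (nat_lit 7477), Mv.f (nat_lit 4242), Mv.f (nat_lit 7562)])))
(Tr.lf (Fc.ed (nat_lit 14503) (nat_lit 2807) Col.b (nat_lit 3126) (Dv.wd (nat_lit 101) [Mv.f (nat_lit 8107), Mv.f (nat_lit 6829), Mv.f (nat_lit 6961), Mv.f (nat_lit 7539), Mv.f (nat_lit 14501), Mv.f (nat_lit 7477), Mv.f (nat_lit 4241), Mv.b (nat_lit 4341), Mv.b (nat_lit 7215), Mv.f (nat_lit 14498)]))))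
(Tr.nd (nat_lit 14505) (Tr.lf (Fc.ed (nat_lit 14504) (nat_lit 2612) Col.b (nat_lit 1675) (Dv.wd (nat_lit 104) [Mv.f (nat_lit 13976), Mv.f (nat_lit 14496), Mv.b (nat_lit 5277), Mv.f (nat_lit 4332), Mv.f (nat_lit 7562), Mv.f (nat_lit 14502), Mv.f (nat_lit 13198), Mv.b (nat_lit 8567), Mv.f (nat_lit 7074), Mv.f (nat_lit 6991)])))
(Tr.nd (nat_lit 14506) (Tr.lf (Fc.al (nat_lit 14505) (nat_lit 4320) (nat_lit 2612) (Dv.wd (nat_lit 66) [Mv.f (nat_lit 14504), Mv.f (nat_lit 7842), Mv.f (nat_lit 14491), Mv.b (nat_lit 11102)])))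
(Tr.lf (Fc.al (nat_lit 14506) (nat_lit 4193) (nat_lit 2663) (Dv.wd (nat_lit 29) [Mv.f (nat_lit 11101), Mv.f (nat_lit 14505), Mv.f (nat_lit 10825)])))))))
(Tr.nd (nat_lit 14512) (Tr.nd (nat_lit 14509) (Tr.nd (nat_lit 14508) (Tr.lf (Fc.al (nat_lit 14507) (nat_lit 4360) (nat_lit 4189) (Dv.wd (nat_lit 30) [Mv.b (nat_lit 11102), Mv.f (nat_lit 14505), Mv.f (nat_lit 11183)])))
(Tr.lf (Fc.ed (nat_lit 14508) (nat_lit 2663) Col.a (nat_lit 2612) (Dv.wd (nat_lit 29) [Mv.f (nat_lit 10825), Mv.f (nat_lit 14506)]))))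
(Tr.nd (nat_lit 14510) (Tr.lf (Fc.ed (nat_lit 14509) (nat_lit 2663) Col.d (nat_lit 4915) (Dv.wd (nat_lit 120) [Mv.f (nat_lit 12786), Mv.f (nat_lit 14506)])))
(Tr.nd (nat_lit 14511) (Tr.lf (Fc.al (nat_lit 14510) (nat_lit 4595) (nat_lit 3176) (Dv.wd (nat_lit 30) [Mv.b (nat_lit 10826), Mv.f (nat_lit 14506), Mv.f (nat_lit 11676)])))
(Tr.lf (Fc.al (nat_lit 14511) (nat_lit 4272) (nat_lit 5034) (Dv.wd (nat_lit 117) [Mv.f (nat_lit 13076), Mv.f (nat_lit 14507), Mv.f (nat_lit 10990)]))))))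
(Tr.nd (nat_lit 14514) (Tr.nd (nat_lit 14513) (Tr.lf (Fc.ed (nat_lit 14512) (nat_lit 3176) Col.a (nat_lit 4189) (Dv.wd (nat_lit 29) [Mv.b (nat_lit 11677), Mv.f (nat_lit 14510)])))
(Tr.lf (Fc.al (nat_lit 14513) (nat_lit 3277) (nat_lit 5093) (Dv.wd (nat_lit 117) [Mv.f (nat_lit 13196), Mv.f (nat_lit 14510), Mv.b (nat_lit 8408)]))))
(Tr.nd (nat_lit 14515) (Tr.lf (Fc.al (nat_lit 14514) (nat_lit 3081) (nat_lit 5147) (Dv.wd (nat_lit 120) [Mv.b (nat_lit 13306), Mv.b (nat_lit 14511), Mv.f (nat_lit 10991)])))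
(Tr.nd (nat_lit 14516) (Tr.lf (Fc.ed (nat_lit 14515) (nat_lit 3277) Col.a (nat_lit 4272) (Dv.wd (nat_lit 29) [Mv.f (nat_lit 13194), Mv.b (nat_lit 14513)])))
(Tr.lf (Fc.al (nat_lit 14516) (nat_lit 3228) (nat_lit 4925) (Dv.wd (nat_lit 120) [Mv.b (nat_lit 13195), Mv.b (nat_lit 14513), Mv.b (nat_lit 8407)]))))))))
(Tr.nd (nat_lit 14527) (Tr.nd (nat_lit 14522) (Tr.nd (nat_lit 14519) (Tr.nd (nat_lit 14518) (Tr.lf (Fc.ed (nat_lit 14517) (nat_lit 3277) Col.f (nat_lit 5477) (Dv.wd (nat_lit 30) [Mv.f (nat_lit 14051), Mv.b (nat_lit 14513)])))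
(Tr.lf (Fc.ed (nat_lit 14518) (nat_lit 3081) Col.f (nat_lit 5151) (Dv.wd (nat_lit 30) [Mv.f (nat_lit 13313), Mv.b (nat_lit 14514)]))))
(Tr.nd (nat_lit 14520) (Tr.lf (Fc.ed (nat_lit 14519) (nat_lit 3228) Col.a (nat_lit 3081) (Dv.wd (nat_lit 29) [Mv.f (nat_lit 12806), Mv.b (nat_lit 14516)])))
(Tr.nd (nat_lit 14521) (Tr.lf (Fc.ed (nat_lit 14520) (nat_lit 3228) Col.f (nat_lit 3993) (Dv.wd (nat_lit 30) [Mv.b (nat_lit 12807), Mv.b (nat_lit 14516)])))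
(Tr.lf (Fc.ed (nat_lit 14521) (nat_lit 5418) Col.a (nat_lit 5176) (Dv.wd (nat_lit 155) [Mv.b (nat_lit 13363), Mv.f (nat_lit 14508), Mv.f (nat_lit 14504), Mv.f (nat_lit 7660), Mv.f (nat_lit 13897)]))))))
(Tr.nd (nat_lit 14524) (Tr.nd (nat_lit 14523) (Tr.lf (Fc.ed (nat_lit 14522) (nat_lit 3993) Col.a (nat_lit 5151) (Dv.wd (nat_lit 16) [Mv.b (nat_lit 14518), Mv.b (nat_lit 14519), Mv.f (nat_lit 14520)])))
(Tr.lf (Fc.ed (nat_lit 14523) (nat_lit 2260) Col.c (nat_lit 5224) (Dv.wd (nat_lit 109) [Mv.f (nat_lit 13476), Mv.f (nat_lit 14494), Mv.f (nat_lit 6429)]))))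
(Tr.nd (nat_lit 14525) (Tr.lf (Fc.ed (nat_lit 14524) (nat_lit 5224) Col.f (nat_lit 5404) (Dv.wd (nat_lit 26) [Mv.b (nat_lit 13866), Mv.b (nat_lit 9559), Mv.f (nat_lit 14523)])))
(Tr.nd (nat_lit 14526) (Tr.lf (Fc.ed (nat_lit 14525) (nat_lit 4343) Col.c (nat_lit 3620) (Dv.wd (nat_lit 14) [Mv.f (nat_lit 9086), Mv.f (nat_lit 5987), Mv.b (nat_lit 6152), Mv.f (nat_lit 6200), Mv.f (nat_lit 14523), Mv.b (nat_lit 13475), Mv.b (nat_lit 13218), Mv.f (nat_lit 10970), Mv.f (nat_lit 11149)])))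
(Tr.lf (Fc.ed (nat_lit 14526) (nat_lit 4272) Col.b (nat_lit 3512) (Dv.wd (nat_lit 127) [Mv.b (nat_lit 13945), Mv.f (nat_lit 14491), Mv.f (nat_lit 10990)])))))))
(Tr.nd (nat_lit 14532) (Tr.nd (nat_lit 14529) (Tr.nd (nat_lit 14528) (Tr.lf (Fc.ed (nat_lit 14527) (nat_lit 3160) Col.b (nat_lit 3081) (Dv.wd (nat_lit 126) [Mv.b (nat_lit 10991), Mv.f (nat_lit 14526), Mv.f (nat_lit 8882)])))
(Tr.lf (Fc.ed (nat_lit 14528) (nat_lit 5151) Col.b (nat_lit 3306) (Dv.wd (nat_lit 107) [Mv.b (nat_lit 8466), Mv.f (nat_lit 14527), Mv.f (nat_lit 14518)]))))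
(Tr.nd (nat_lit 14530) (Tr.lf (Fc.ed (nat_lit 14529) (nat_lit 3602) Col.b (nat_lit 5153) (Dv.wd (nat_lit 127) [Mv.f (nat_lit 13317), Mv.f (nat_lit 14528), Mv.b (nat_lit 13935)])))
(Tr.nd (nat_lit 14531) (Tr.lf (Fc.ed (nat_lit 14530) (nat_lit 5441) Col.a (nat_lit 5432) (Dv.wd (nat_lit 155) [Mv.b (nat_lit 13965), Mv.f (nat_lit 14522), Mv.f (nat_lit 14528), Mv.f (nat_lit 8467), Mv.f (nat_lit 13982)])))
(Tr.lf (Fc.ed (nat_lit 14531) (nat_lit 3570) Col.b (nat_lit 3293) (Dv.wd (nat_lit 126) [Mv.b (nat_lit 9059), Mv.f (nat_lit 14529), Mv.b (nat_lit 13316)]))))))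
(Tr.nd (nat_lit 14535) (Tr.nd (nat_lit 14533) (Tr.lf (Fc.ed (nat_lit 14532) (nat_lit 5376) Col.b (nat_lit 4870) (Dv.wd (nat_lit 107) [Mv.f (nat_lit 12700), Mv.f (nat_lit 14529), Mv.f (nat_lit 13813)])))
(Tr.nd (nat_lit 14534) (Tr.lf (Fc.ed (nat_lit 14533) (nat_lit 4237) Col.b (nat_lit 4396) (Dv.wd (nat_lit 126) [Mv.b (nat_lit 13814), Mv.f (nat_lit 14532), Mv.b (nat_lit 12698)])))
(Tr.lf (Fc.ed (nat_lit 14534) (nat_lit 3550) Col.b (nat_lit 2868) (Dv.wd (nat_lit 104) [Mv.f (nat_lit 14490), Mv.b (nat_lit 7482), Mv.b (nat_lit 7005), Mv.f (nat_lit 6985), Mv.f (nat_lit 7243), Mv.b (nat_lit 14486), Mv.f (nat_lit 9073), Mv.f (nat_lit 4452), Mv.b (nat_lit 4609), Mv.b (nat_lit 8961)])))))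
(Tr.nd (nat_lit 14536) (Tr.lf (Fc.ed (nat_lit 14535) (nat_lit 4268) Col.b (nat_lit 4865) (Dv.wd (nat_lit 107) [Mv.b (nat_lit 12689), Mv.f (nat_lit 14534), Mv.f (nat_lit 10982)])))
(Tr.nd (nat_lit 14537) (Tr.lf (Fc.ed (nat_lit 14536) (nat_lit 5308) Col.b (nat_lit 4907) (Dv.wd (nat_lit 126) [Mv.b (nat_lit 12767), Mv.f (nat_lit 14535), Mv.f (nat_lit 13664)])))
(Tr.lf (Fc.ed (nat_lit 14537) (nat_lit 3782) Col.b (nat_lit 4289) (Dv.wd (nat_lit 127) [Mv.f (nat_lit 13666), Mv.f (nat_lit 14536), Mv.b (nat_lit 12769)]))))))))))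
(Tr.nd (nat_lit 14579) (Tr.nd (nat_lit 14558) (Tr.nd (nat_lit 14548) (Tr.nd (nat_lit 14543) (Tr.nd (nat_lit 14540) (Tr.nd (nat_lit 14539) (Tr.lf (Fc.ed (nat_lit 14538) (nat_lit 3332) Col.b (nat_lit 5456) (Dv.wd (nat_lit 65) [Mv.b (nat_lit 14014), Mv.b (nat_lit 13855), Mv.f (nat_lit 9395), Mv.f (nat_lit 14537), Mv.f (nat_lit 11041)])))
(Tr.lf (Fc.ed (nat_lit 14539) (nat_lit 5564) Col.b (nat_lit 3345) (Dv.wd (nat_lit 127) [Mv.b (nat_lit 8549), Mv.f (nat_lit 14538), Mv.f (nat_lit 14208)]))))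
(Tr.nd (nat_lit 14541) (Tr.lf (Fc.ed (nat_lit 14540) (nat_lit 4680) Col.a (nat_lit 5714) Dv.df))
(Tr.nd (nat_lit 14542) (Tr.lf (Fc.ed (nat_lit 14541) (nat_lit 5714) Col.f (nat_lit 3682) (Dv.wd (nat_lit 10) [Mv.f (nat_lit 9202), Mv.b (nat_lit 11835), Mv.f (nat_lit 14540)])))
(Tr.lf (Fc.ed (nat_lit 14542) (nat_lit 5572) Col.c (nat_lit 5715) Dv.df)))))
(Tr.nd (nat_lit 14545) (Tr.nd (nat_lit 14544) (Tr.lf (Fc.ed (nat_lit 14543) (nat_lit 5715) Col.b (nat_lit 1823) (Dv.wd (nat_lit 101) [Mv.b (nat_lit 5869), Mv.b (nat_lit 4899), Mv.b (nat_lit 5848), Mv.b (nat_lit 5020), Mv.b (nat_lit 5920), Mv.b (nat_lit 4052), Mv.b (nat_lit 4719), Mv.b (nat_lit 5800), Mv.b (nat_lit 14227), Mv.f (nat_lit 14542)])))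
(Tr.lf (Fc.ed (nat_lit 14544) (nat_lit 5415) Col.d (nat_lit 5716) Dv.df)))
(Tr.nd (nat_lit 14546) (Tr.lf (Fc.ed (nat_lit 14545) (nat_lit 5716) Col.a (nat_lit 4798) (Dv.wd (nat_lit 8) [Mv.f (nat_lit 12558), Mv.f (nat_lit 13888), Mv.f (nat_lit 14544)])))
(Tr.nd (nat_lit 14547) (Tr.lf (Fc.ed (nat_lit 14546) (nat_lit 5716) Col.f (nat_lit 5496) (Dv.wd (nat_lit 11) [Mv.b (nat_lit 14085), Mv.b (nat_lit 13890), Mv.f (nat_lit 14544)])))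
(Tr.lf (Fc.ed (nat_lit 14547) (nat_lit 4045) Col.f (nat_lit 5717) Dv.df))))))
(Tr.nd (nat_lit 14553) (Tr.nd (nat_lit 14550) (Tr.nd (nat_lit 14549) (Tr.lf (Fc.ed (nat_lit 14548) (nat_lit 5717) Col.a (nat_lit 4294) (Dv.wd (nat_lit 23) [Mv.b (nat_lit 11051), Mv.b (nat_lit 9879), Mv.f (nat_lit 14547)])))
(Tr.lf (Fc.ed (nat_lit 14549) (nat_lit 3381) Col.b (nat_lit 5718) Dv.df)))
(Tr.nd (nat_lit 14551) (Tr.lf (Fc.ed (nat_lit 14550) (nat_lit 3798) Col.e (nat_lit 5719) Dv.df))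
(Tr.nd (nat_lit 14552) (Tr.lf (Fc.ed (nat_lit 14551) (nat_lit 5719) Col.a (nat_lit 4831) (Dv.wd (nat_lit 15) [Mv.f (nat_lit 12618), Mv.b (nat_lit 12454), Mv.f (nat_lit 14550)])))
(Tr.lf (Fc.ed (nat_lit 14552) (nat_lit 5509) Col.d (nat_lit 5720) Dv.df)))))
(Tr.nd (nat_lit 14555) (Tr.nd (nat_lit 14554) (Tr.lf (Fc.ed (nat_lit 14553) (nat_lit 5477) Col.g (nat_lit 5721) Dv.df))
(Tr.lf (Fc.ed (nat_lit 14554) (nat_lit 5721) Col.g (nat_lit 4272) (Dv.wd (nat_lit 9) [Mv.b (nat_lit 14515), Mv.f (nat_lit 14517), Mv.f (nat_lit 14553)]))))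
(Tr.nd (nat_lit 14556) (Tr.lf (Fc.ed (nat_lit 14555) (nat_lit 5176) Col.e (nat_lit 5722) Dv.df))
(Tr.nd (nat_lit 14557) (Tr.lf (Fc.ed (nat_lit 14556) (nat_lit 3410) Col.d (nat_lit 5723) Dv.df))
(Tr.lf (Fc.ed (nat_lit 14557) (nat_lit 5723) Col.f (nat_lit 4163) (Dv.wd (nat_lit 11) [Mv.b (nat_lit 10773), Mv.b (nat_lit 8825), Mv.f (nat_lit 14556)]))))))))
(Tr.nd (nat_lit 14568) (Tr.nd (nat_lit 14563) (Tr.nd (nat_lit 14560) (Tr.nd (nat_lit 14559) (Tr.lf (Fc.ed (nat_lit 14558) (nat_lit 5601) Col.d (nat_lit 5724) Dv.df))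
(Tr.lf (Fc.ed (nat_lit 14559) (nat_lit 5724) Col.b (nat_lit 5006) (Dv.wd (nat_lit 37) [Mv.f (nat_lit 13016), Mv.b (nat_lit 14280), Mv.f (nat_lit 14558)]))))
(Tr.nd (nat_lit 14561) (Tr.lf (Fc.ed (nat_lit 14560) (nat_lit 4847) Col.f (nat_lit 5725) Dv.df))
(Tr.nd (nat_lit 14562) (Tr.lf (Fc.ed (nat_lit 14561) (nat_lit 5725) Col.c (nat_lit 4957) (Dv.wd (nat_lit 34) [Mv.b (nat_lit 12874), Mv.b (nat_lit 12787), Mv.f (nat_lit 14560)])))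
(Tr.lf (Fc.ed (nat_lit 14562) (nat_lit 5725) Col.a (nat_lit 4657) (Dv.wd (nat_lit 23) [Mv.f (nat_lit 11786), Mv.f (nat_lit 12651), Mv.f (nat_lit 14560)]))))))
(Tr.nd (nat_lit 14565) (Tr.nd (nat_lit 14564) (Tr.lf (Fc.ed (nat_lit 14563) (nat_lit 3039) Col.a (nat_lit 5726) Dv.df))
(Tr.lf (Fc.ed (nat_lit 14564) (nat_lit 5726) Col.c (nat_lit 5514) (Dv.wd (nat_lit 33) [Mv.f (nat_lit 14113), Mv.f (nat_lit 7907), Mv.f (nat_lit 14563)]))))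
(Tr.nd (nat_lit 14566) (Tr.lf (Fc.ed (nat_lit 14565) (nat_lit 5726) Col.f (nat_lit 5610) (Dv.wd (nat_lit 35) [Mv.f (nat_lit 14299), Mv.f (nat_lit 8353), Mv.f (nat_lit 14563)])))
(Tr.nd (nat_lit 14567) (Tr.lf (Fc.ed (nat_lit 14566) (nat_lit 4250) Col.d (nat_lit 5727) Dv.df))
(Tr.lf (Fc.ed (nat_lit 14567) (nat_lit 5727) Col.f (nat_lit 5667) (Dv.wd (nat_lit 11) [Mv.b (nat_lit 14412), Mv.f (nat_lit 10931), Mv.f (nat_lit 14566)])))))))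
(Tr.nd (nat_lit 14573) (Tr.nd (nat_lit 14570) (Tr.nd (nat_lit 14569) (Tr.lf (Fc.ed (nat_lit 14568) (nat_lit 4554) Col.a (nat_lit 5728) Dv.df))
(Tr.lf (Fc.ed (nat_lit 14569) (nat_lit 4180) Col.gi (nat_lit 5729) Dv.df)))
(Tr.nd (nat_lit 14571) (Tr.lf (Fc.ed (nat_lit 14570) (nat_lit 5729) Col.gi (nat_lit 5511) (Dv.wd (nat_lit 24) [Mv.f (nat_lit 14106), Mv.f (nat_lit 11316), Mv.f (nat_lit 14569)])))
(Tr.nd (nat_lit 14572) (Tr.lf (Fc.ed (nat_lit 14571) (nat_lit 4259) Col.f (nat_lit 5730) Dv.df))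
(Tr.lf (Fc.ed (nat_lit 14572) (nat_lit 5730) Col.a (nat_lit 5669) (Dv.wd (nat_lit 16) [Mv.b (nat_lit 14416), Mv.f (nat_lit 14276), Mv.f (nat_lit 14571)]))))))
(Tr.nd (nat_lit 14576) (Tr.nd (nat_lit 14574) (Tr.lf (Fc.ed (nat_lit 14573) (nat_lit 2204) Col.gi (nat_lit 5731) Dv.df))
(Tr.nd (nat_lit 14575) (Tr.lf (Fc.ed (nat_lit 14574) (nat_lit 5731) Col.gi (nat_lit 4128) (Dv.wd (nat_lit 24) [Mv.b (nat_lit 10626), Mv.b (nat_lit 9562), Mv.f (nat_lit 14573)])))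
(Tr.lf (Fc.ed (nat_lit 14575) (nat_lit 4723) Col.c (nat_lit 5732) Dv.df))))
(Tr.nd (nat_lit 14577) (Tr.lf (Fc.ed (nat_lit 14576) (nat_lit 1104) Col.b (nat_lit 5733) Dv.df))
(Tr.nd (nat_lit 14578) (Tr.lf (Fc.ed (nat_lit 14577) (nat_lit 3291) Col.g (nat_lit 5734) Dv.df))
(Tr.lf (Fc.ed (nat_lit 14578) (nat_lit 5734) Col.g (nat_lit 3889) (Dv.wd (nat_lit 9) [Mv.f (nat_lit 9577), Mv.b (nat_lit 8435), Mv.f (nat_lit 14577)])))))))))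
(Tr.nd (nat_lit 14599) (Tr.nd (nat_lit 14589) (Tr.nd (nat_lit 14584) (Tr.nd (nat_lit 14581) (Tr.nd (nat_lit 14580) (Tr.lf (Fc.ed (nat_lit 14579) (nat_lit 4025) Col.c (nat_lit 5735) Dv.df))
(Tr.lf (Fc.ed (nat_lit 14580) (nat_lit 5720) Col.e (nat_lit 5736) Dv.df)))
(Tr.nd (nat_lit 14582) (Tr.lf (Fc.ed (nat_lit 14581) (nat_lit 5637) Col.e (nat_lit 5737) Dv.df))
(Tr.nd (nat_lit 14583) (Tr.lf (Fc.ed (nat_lit 14582) (nat_lit 5737) Col.b (nat_lit 1794) (Dv.wd (nat_lit 49) [Mv.b (nat_lit 5275), Mv.f (nat_lit 14353), Mv.f (nat_lit 14581)])))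
(Tr.lf (Fc.ed (nat_lit 14583) (nat_lit 5479) Col.f (nat_lit 5738) Dv.df)))))
(Tr.nd (nat_lit 14586) (Tr.nd (nat_lit 14585) (Tr.lf (Fc.ed (nat_lit 14584) (nat_lit 5738) Col.a (nat_lit 5411) (Dv.wd (nat_lit 23) [Mv.f (nat_lit 13881), Mv.b (nat_lit 14056), Mv.f (nat_lit 14583)])))
(Tr.lf (Fc.ed (nat_lit 14585) (nat_lit 3165) Col.a (nat_lit 5739) Dv.df)))
(Tr.nd (nat_lit 14587) (Tr.lf (Fc.ed (nat_lit 14586) (nat_lit 5739) Col.c (nat_lit 5590) (Dv.wd (nat_lit 33) [Mv.f (nat_lit 14261), Mv.f (nat_lit 8186), Mv.f (nat_lit 14585)])))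
(Tr.nd (nat_lit 14588) (Tr.lf (Fc.ed (nat_lit 14587) (nat_lit 5739) Col.e (nat_lit 5610) (Dv.wd (nat_lit 56) [Mv.f (nat_lit 14299), Mv.f (nat_lit 8352), Mv.f (nat_lit 14585)])))
(Tr.lf (Fc.ed (nat_lit 14588) (nat_lit 3685) Col.gi (nat_lit 5740) Dv.df))))))
(Tr.nd (nat_lit 14594) (Tr.nd (nat_lit 14591) (Tr.nd (nat_lit 14590) (Tr.lf (Fc.ed (nat_lit 14589) (nat_lit 4099) Col.d (nat_lit 5741) Dv.df))
(Tr.lf (Fc.ed (nat_lit 14590) (nat_lit 4918) Col.f (nat_lit 5742) Dv.df)))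
(Tr.nd (nat_lit 14592) (Tr.lf (Fc.ed (nat_lit 14591) (nat_lit 5742) Col.a (nat_lit 5512) (Dv.wd (nat_lit 16) [Mv.b (nat_lit 14107), Mv.b (nat_lit 12792), Mv.f (nat_lit 14590)])))
(Tr.nd (nat_lit 14593) (Tr.lf (Fc.ed (nat_lit 14592) (nat_lit 5742) Col.d (nat_lit 3328) (Dv.wd (nat_lit 21) [Mv.b (nat_lit 13350), Mv.f (nat_lit 13349), Mv.f (nat_lit 14590)])))
(Tr.lf (Fc.ed (nat_lit 14593) (nat_lit 4252) Col.b (nat_lit 5743) Dv.df)))))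
(Tr.nd (nat_lit 14596) (Tr.nd (nat_lit 14595) (Tr.lf (Fc.ed (nat_lit 14594) (nat_lit 5743) Col.f (nat_lit 4308) (Dv.wd (nat_lit 20) [Mv.f (nat_lit 11079), Mv.b (nat_lit 10938), Mv.f (nat_lit 14593)])))
(Tr.lf (Fc.ed (nat_lit 14595) (nat_lit 3277) Col.g (nat_lit 5744) Dv.df)))
(Tr.nd (nat_lit 14597) (Tr.lf (Fc.ed (nat_lit 14596) (nat_lit 3212) Col.g (nat_lit 5745) Dv.df))
(Tr.nd (nat_lit 14598) (Tr.lf (Fc.ed (nat_lit 14597) (nat_lit 5745) Col.g (nat_lit 5575) (Dv.wd (nat_lit 9) [Mv.f (nat_lit 14232), Mv.b (nat_lit 8284), Mv.f (nat_lit 14596)])))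
(Tr.lf (Fc.ed (nat_lit 14598) (nat_lit 3048) Col.c (nat_lit 5746) Dv.df)))))))
(Tr.nd (nat_lit 14609) (Tr.nd (nat_lit 14604) (Tr.nd (nat_lit 14601) (Tr.nd (nat_lit 14600) (Tr.lf (Fc.ed (nat_lit 14599) (nat_lit 5746) Col.f (nat_lit 5598) (Dv.wd (nat_lit 26) [Mv.f (nat_lit 14274), Mv.b (nat_lit 7922), Mv.f (nat_lit 14598)])))
(Tr.lf (Fc.ed (nat_lit 14600) (nat_lit 5632) Col.d (nat_lit 5747) Dv.df)))
(Tr.nd (nat_lit 14602) (Tr.lf (Fc.ed (nat_lit 14601) (nat_lit 5747) Col.f (nat_lit 4704) (Dv.wd (nat_lit 11) [Mv.b (nat_lit 11880), Mv.f (nat_lit 14343), Mv.f (nat_lit 14600)])))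
(Tr.nd (nat_lit 14603) (Tr.lf (Fc.ed (nat_lit 14602) (nat_lit 5592) Col.a (nat_lit 5748) Dv.df))
(Tr.lf (Fc.ed (nat_lit 14603) (nat_lit 5552) Col.f (nat_lit 5749) Dv.df)))))
(Tr.nd (nat_lit 14606) (Tr.nd (nat_lit 14605) (Tr.lf (Fc.ed (nat_lit 14604) (nat_lit 5749) Col.b (nat_lit 5746) (Dv.wd (nat_lit 66) [Mv.f (nat_lit 14599), Mv.b (nat_lit 14273), Mv.f (nat_lit 14603)])))
(Tr.lf (Fc.ed (nat_lit 14605) (nat_lit 5749) Col.c (nat_lit 2037) (Dv.wd (nat_lit 34) [Mv.f (nat_lit 5654), Mv.b (nat_lit 14186), Mv.f (nat_lit 14603)]))))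
(Tr.nd (nat_lit 14607) (Tr.lf (Fc.ed (nat_lit 14606) (nat_lit 5735) Col.a (nat_lit 5750) Dv.df))
(Tr.nd (nat_lit 14608) (Tr.lf (Fc.ed (nat_lit 14607) (nat_lit 5176) Col.gi (nat_lit 5751) Dv.df))
(Tr.lf (Fc.ed (nat_lit 14608) (nat_lit 5751) Col.gi (nat_lit 5450) (Dv.wd (nat_lit 24) [Mv.f (nat_lit 14002), Mv.f (nat_lit 14521), Mv.f (nat_lit 14607)])))))))
(Tr.nd (nat_lit 14614) (Tr.nd (nat_lit 14611) (Tr.nd (nat_lit 14610) (Tr.lf (Fc.ed (nat_lit 14609) (nat_lit 3677) Col.a (nat_lit 5752) Dv.df))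
(Tr.lf (Fc.ed (nat_lit 14610) (nat_lit 5752) Col.c (nat_lit 5613) (Dv.wd (nat_lit 33) [Mv.b (nat_lit 14304), Mv.b (nat_lit 9191), Mv.f (nat_lit 14609)]))))
(Tr.nd (nat_lit 14612) (Tr.lf (Fc.ed (nat_lit 14611) (nat_lit 5752) Col.f (nat_lit 4609) (Dv.wd (nat_lit 35) [Mv.f (nat_lit 11700), Mv.f (nat_lit 9190), Mv.f (nat_lit 14609)])))
(Tr.nd (nat_lit 14613) (Tr.lf (Fc.ed (nat_lit 14612) (nat_lit 5458) Col.b (nat_lit 5753) Dv.df))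
(Tr.lf (Fc.ed (nat_lit 14613) (nat_lit 5098) Col.d (nat_lit 5754) Dv.df)))))
(Tr.nd (nat_lit 14617) (Tr.nd (nat_lit 14615) (Tr.lf (Fc.ed (nat_lit 14614) (nat_lit 4587) Col.e (nat_lit 5755) Dv.df))
(Tr.nd (nat_lit 14616) (Tr.lf (Fc.ed (nat_lit 14615) (nat_lit 5755) Col.d (nat_lit 5625) (Dv.wd (nat_lit 59) [Mv.b (nat_lit 14328), Mv.b (nat_lit 8422), Mv.b (nat_lit 10522), Mv.f (nat_lit 12004), Mv.f (nat_lit 14614)])))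
(Tr.lf (Fc.ed (nat_lit 14616) (nat_lit 5621) Col.a (nat_lit 5755) (Dv.wd (nat_lit 54) [Mv.f (nat_lit 14615), Mv.f (nat_lit 14329), Mv.f (nat_lit 14321)])))))
(Tr.nd (nat_lit 14618) (Tr.lf (Fc.ed (nat_lit 14617) (nat_lit 4486) Col.a (nat_lit 5756) Dv.df))
(Tr.nd (nat_lit 14619) (Tr.lf (Fc.ed (nat_lit 14618) (nat_lit 5756) Col.e (nat_lit 3757) (Dv.wd (nat_lit 56) [Mv.f (nat_lit 12189), Mv.f (nat_lit 11474), Mv.f (nat_lit 14617)])))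
(Tr.lf (Fc.ed (nat_lit 14619) (nat_lit 3252) Col.f (nat_lit 5757) Dv.df))))))))))
(Tr.nd (nat_lit 14702) (Tr.nd (nat_lit 14661) (Tr.nd (nat_lit 14640) (Tr.nd (nat_lit 14630) (Tr.nd (nat_lit 14625) (Tr.nd (nat_lit 14622) (Tr.nd (nat_lit 14621) (Tr.lf (Fc.ed (nat_lit 14620) (nat_lit 5757) Col.a (nat_lit 3580) (Dv.wd (nat_lit 16) [Mv.b (nat_lit 9372), Mv.b (nat_lit 9371), Mv.f (nat_lit 14619)])))
(Tr.lf (Fc.ed (nat_lit 14621) (nat_lit 3277) Col.b (nat_lit 5758) Dv.df)))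
(Tr.nd (nat_lit 14623) (Tr.lf (Fc.ed (nat_lit 14622) (nat_lit 5758) Col.a (nat_lit 5645) (Dv.wd (nat_lit 98) [Mv.b (nat_lit 14370), Mv.b (nat_lit 13941), Mv.b (nat_lit 14526), Mv.b (nat_lit 14515), Mv.f (nat_lit 14621)])))
(Tr.nd (nat_lit 14624) (Tr.lf (Fc.ed (nat_lit 14623) (nat_lit 5342) Col.d (nat_lit 5759) Dv.df))
(Tr.lf (Fc.ed (nat_lit 14624) (nat_lit 4883) Col.a (nat_lit 5760) Dv.df)))))
(Tr.nd (nat_lit 14627) (Tr.nd (nat_lit 14626) (Tr.lf (Fc.ed (nat_lit 14625) (nat_lit 5760) Col.c (nat_lit 5157) (Dv.wd (nat_lit 33) [Mv.f (nat_lit 13325), Mv.f (nat_lit 13063), Mv.f (nat_lit 14624)])))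
(Tr.lf (Fc.ed (nat_lit 14626) (nat_lit 5760) Col.f (nat_lit 5235) (Dv.wd (nat_lit 35) [Mv.b (nat_lit 13497), Mv.b (nat_lit 12721), Mv.f (nat_lit 14624)]))))
(Tr.nd (nat_lit 14628) (Tr.lf (Fc.ed (nat_lit 14627) (nat_lit 5760) Col.gi (nat_lit 5388) (Dv.wd (nat_lit 12) [Mv.b (nat_lit 13836), Mv.b (nat_lit 12721), Mv.f (nat_lit 14624)])))
(Tr.nd (nat_lit 14629) (Tr.lf (Fc.ed (nat_lit 14628) (nat_lit 3705) Col.a (nat_lit 5761) Dv.df))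
(Tr.lf (Fc.ed (nat_lit 14629) (nat_lit 5761) Col.c (nat_lit 5286) (Dv.wd (nat_lit 33) [Mv.f (nat_lit 13602), Mv.b (nat_lit 9255), Mv.f (nat_lit 14628)])))))))
(Tr.nd (nat_lit 14635) (Tr.nd (nat_lit 14632) (Tr.nd (nat_lit 14631) (Tr.lf (Fc.ed (nat_lit 14630) (nat_lit 5394) Col.c (nat_lit 5762) Dv.df))
(Tr.lf (Fc.ed (nat_lit 14631) (nat_lit 3517) Col.e (nat_lit 5763) Dv.df)))
(Tr.nd (nat_lit 14633) (Tr.lf (Fc.ed (nat_lit 14632) (nat_lit 5763) Col.c (nat_lit 5430) (Dv.wd (nat_lit 18) [Mv.b (nat_lit 13918), Mv.f (nat_lit 14484), Mv.f (nat_lit 14631)])))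
(Tr.nd (nat_lit 14634) (Tr.lf (Fc.ed (nat_lit 14633) (nat_lit 5763) Col.g (nat_lit 5764) Dv.df))
(Tr.lf (Fc.ed (nat_lit 14634) (nat_lit 4685) Col.c (nat_lit 5765) Dv.df)))))
(Tr.nd (nat_lit 14637) (Tr.nd (nat_lit 14636) (Tr.lf (Fc.ed (nat_lit 14635) (nat_lit 5576) Col.c (nat_lit 5766) Dv.df))
(Tr.lf (Fc.ed (nat_lit 14636) (nat_lit 5766) Col.b (nat_lit 3938) (Dv.wd (nat_lit 101) [Mv.b (nat_lit 9702), Mv.f (nat_lit 8910), Mv.f (nat_lit 5489), Mv.f (nat_lit 5097), Mv.b (nat_lit 5470), Mv.b (nat_lit 5514), Mv.b (nat_lit 7105), Mv.b (nat_lit 7104), Mv.f (nat_lit 14233), Mv.f (nat_lit 14635)]))))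
(Tr.nd (nat_lit 14638) (Tr.lf (Fc.ed (nat_lit 14637) (nat_lit 5077) Col.f (nat_lit 5767) Dv.df))
(Tr.nd (nat_lit 14639) (Tr.lf (Fc.ed (nat_lit 14638) (nat_lit 5767) Col.a (nat_lit 5332) (Dv.wd (nat_lit 23) [Mv.b (nat_lit 13732), Mv.b (nat_lit 13165), Mv.f (nat_lit 14637)])))
(Tr.lf (Fc.ed (nat_lit 14639) (nat_lit 5564) Col.f (nat_lit 5768) Dv.df)))))))
(Tr.nd (nat_lit 14650) (Tr.nd (nat_lit 14645) (Tr.nd (nat_lit 14642) (Tr.nd (nat_lit 14641) (Tr.lf (Fc.ed (nat_lit 14640) (nat_lit 5768) Col.b (nat_lit 5348) (Dv.wd (nat_lit 66) [Mv.b (nat_lit 13756), Mv.b (nat_lit 14539), Mv.f (nat_lit 14639)])))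
(Tr.lf (Fc.ed (nat_lit 14641) (nat_lit 5600) Col.b (nat_lit 5769) Dv.df)))
(Tr.nd (nat_lit 14643) (Tr.lf (Fc.ed (nat_lit 14642) (nat_lit 5769) Col.e (nat_lit 5306) (Dv.wd (nat_lit 52) [Mv.b (nat_lit 14214), Mv.b (nat_lit 14278), Mv.f (nat_lit 14641)])))
(Tr.nd (nat_lit 14644) (Tr.lf (Fc.ed (nat_lit 14643) (nat_lit 5626) Col.gi (nat_lit 5770) Dv.df))
(Tr.lf (Fc.ed (nat_lit 14644) (nat_lit 5770) Col.gi (nat_lit 2385) (Dv.wd (nat_lit 24) [Mv.b (nat_lit 8444), Mv.f (nat_lit 14330), Mv.f (nat_lit 14643)]))))))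
(Tr.nd (nat_lit 14647) (Tr.nd (nat_lit 14646) (Tr.lf (Fc.ed (nat_lit 14645) (nat_lit 4655) Col.a (nat_lit 5771) Dv.df))
(Tr.lf (Fc.ed (nat_lit 14646) (nat_lit 5771) Col.e (nat_lit 4878) (Dv.wd (nat_lit 56) [Mv.f (nat_lit 12713), Mv.b (nat_lit 11782), Mv.f (nat_lit 14645)]))))
(Tr.nd (nat_lit 14648) (Tr.lf (Fc.ed (nat_lit 14647) (nat_lit 5592) Col.b (nat_lit 5772) Dv.df))
(Tr.nd (nat_lit 14649) (Tr.lf (Fc.ed (nat_lit 14648) (nat_lit 5772) Col.c (nat_lit 5421) (Dv.wd (nat_lit 135) [Mv.b (nat_lit 13901), Mv.f (nat_lit 6969), Mv.f (nat_lit 6970), Mv.f (nat_lit 3219), Mv.b (nat_lit 3056), Mv.b (nat_lit 2334), Mv.f (nat_lit 3700), Mv.f (nat_lit 6517), Mv.f (nat_lit 14264), Mv.f (nat_lit 14647)])))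
(Tr.lf (Fc.ed (nat_lit 14649) (nat_lit 5578) Col.b (nat_lit 5773) Dv.df))))))
(Tr.nd (nat_lit 14655) (Tr.nd (nat_lit 14652) (Tr.nd (nat_lit 14651) (Tr.lf (Fc.ed (nat_lit 14650) (nat_lit 3518) Col.a (nat_lit 5774) Dv.df))
(Tr.lf (Fc.ed (nat_lit 14651) (nat_lit 5774) Col.e (nat_lit 5242) (Dv.wd (nat_lit 56) [Mv.f (nat_lit 13515), Mv.b (nat_lit 9472), Mv.f (nat_lit 14650)]))))
(Tr.nd (nat_lit 14653) (Tr.lf (Fc.ed (nat_lit 14652) (nat_lit 5774) Col.f (nat_lit 4234) (Dv.wd (nat_lit 35) [Mv.b (nat_lit 14272), Mv.b (nat_lit 14271), Mv.f (nat_lit 14650)])))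
(Tr.nd (nat_lit 14654) (Tr.lf (Fc.ed (nat_lit 14653) (nat_lit 3435) Col.a (nat_lit 5775) Dv.df))
(Tr.lf (Fc.ed (nat_lit 14654) (nat_lit 5775) Col.c (nat_lit 3660) (Dv.wd (nat_lit 33) [Mv.b (nat_lit 9160), Mv.f (nat_lit 8737), Mv.f (nat_lit 14653)]))))))
(Tr.nd (nat_lit 14658) (Tr.nd (nat_lit 14656) (Tr.lf (Fc.ed (nat_lit 14655) (nat_lit 5775) Col.f (nat_lit 5280) (Dv.wd (nat_lit 35) [Mv.b (nat_lit 13591), Mv.f (nat_lit 9949), Mv.f (nat_lit 14653)])))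
(Tr.nd (nat_lit 14657) (Tr.lf (Fc.ed (nat_lit 14656) (nat_lit 5452) Col.c (nat_lit 5776) Dv.df))
(Tr.lf (Fc.ed (nat_lit 14657) (nat_lit 5776) Col.b (nat_lit 4733) (Dv.wd (nat_lit 87) [Mv.b (nat_lit 11934), Mv.f (nat_lit 10172), Mv.f (nat_lit 13567), Mv.b (nat_lit 14006), Mv.f (nat_lit 14656)])))))
(Tr.nd (nat_lit 14659) (Tr.lf (Fc.ed (nat_lit 14658) (nat_lit 4868) Col.d (nat_lit 5776) (Dv.wd (nat_lit 116) [Mv.f (nat_lit 14657), Mv.f (nat_lit 12568), Mv.f (nat_lit 12695)])))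
(Tr.nd (nat_lit 14660) (Tr.lf (Fc.al (nat_lit 14659) (nat_lit 3115) (nat_lit 4537) (Dv.wd (nat_lit 112) [Mv.b (nat_lit 11566), Mv.b (nat_lit 11686), Mv.b (nat_lit 13399), Mv.f (nat_lit 14658), Mv.b (nat_lit 14656), Mv.f (nat_lit 14391), Mv.b (nat_lit 14389), Mv.b (nat_lit 13054), Mv.f (nat_lit 8224), Mv.f (nat_lit 13655)])))
(Tr.lf (Fc.al (nat_lit 14660) (nat_lit 2623) (nat_lit 2427) (Dv.wd (nat_lit 120) [Mv.b (nat_lit 13275), Mv.b (nat_lit 14659), Mv.b (nat_lit 13655)])))))))))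
(Tr.nd (nat_lit 14681) (Tr.nd (nat_lit 14671) (Tr.nd (nat_lit 14666) (Tr.nd (nat_lit 14663) (Tr.nd (nat_lit 14662) (Tr.lf (Fc.al (nat_lit 14661) (nat_lit 4155) (nat_lit 906) (Dv.wd (nat_lit 128) [Mv.f (nat_lit 7011), Mv.f (nat_lit 14660), Mv.b (nat_lit 10757)])))
(Tr.lf (Fc.ed (nat_lit 14662) (nat_lit 2427) Col.c (nat_lit 3183) (Dv.wd (nat_lit 103) [Mv.f (nat_lit 8224), Mv.f (nat_lit 14660)]))))
(Tr.nd (nat_lit 14664) (Tr.lf (Fc.al (nat_lit 14663) (nat_lit 2388) (nat_lit 2224) (Dv.wd (nat_lit 128) [Mv.f (nat_lit 10756), Mv.f (nat_lit 14661), Mv.b (nat_lit 6484)])))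
(Tr.nd (nat_lit 14665) (Tr.lf (Fc.ed (nat_lit 14664) (nat_lit 906) Col.gi (nat_lit 2427) (Dv.wd (nat_lit 128) [Mv.b (nat_lit 10757), Mv.f (nat_lit 14661)])))
(Tr.lf (Fc.ed (nat_lit 14665) (nat_lit 2224) Col.g (nat_lit 1895) (Dv.wd (nat_lit 129) [Mv.f (nat_lit 6483), Mv.f (nat_lit 14663)]))))))
(Tr.nd (nat_lit 14668) (Tr.nd (nat_lit 14667) (Tr.lf (Fc.ed (nat_lit 14666) (nat_lit 2224) Col.gi (nat_lit 906) (Dv.wd (nat_lit 128) [Mv.b (nat_lit 6484), Mv.f (nat_lit 14663)])))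
(Tr.lf (Fc.al (nat_lit 14667) (nat_lit 3799) (nat_lit 4041) (Dv.wd (nat_lit 103) [Mv.b (nat_lit 12308), Mv.f (nat_lit 14663), Mv.f (nat_lit 9426)]))))
(Tr.nd (nat_lit 14669) (Tr.lf (Fc.ed (nat_lit 14668) (nat_lit 3799) Col.g (nat_lit 3786) (Dv.wd (nat_lit 129) [Mv.f (nat_lit 9872), Mv.b (nat_lit 14667)])))
(Tr.nd (nat_lit 14670) (Tr.lf (Fc.ed (nat_lit 14669) (nat_lit 3183) Col.f (nat_lit 3146) (Dv.wd (nat_lit 112) [Mv.b (nat_lit 9427), Mv.b (nat_lit 9426), Mv.b (nat_lit 13276), Mv.b (nat_lit 13399), Mv.f (nat_lit 14658), Mv.b (nat_lit 14656), Mv.f (nat_lit 14391), Mv.b (nat_lit 14389), Mv.b (nat_lit 13054)])))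
(Tr.lf (Fc.al (nat_lit 14670) (nat_lit 3670) (nat_lit 3079) (Dv.wd (nat_lit 107) [Mv.f (nat_lit 8223), Mv.f (nat_lit 14669), Mv.f (nat_lit 8196), Mv.b (nat_lit 9180)])))))))
(Tr.nd (nat_lit 14676) (Tr.nd (nat_lit 14673) (Tr.nd (nat_lit 14672) (Tr.lf (Fc.ed (nat_lit 14671) (nat_lit 3079) Col.a (nat_lit 3052) (Dv.wd (nat_lit 29) [Mv.f (nat_lit 9179), Mv.f (nat_lit 14670)])))
(Tr.lf (Fc.ed (nat_lit 14672) (nat_lit 3079) Col.f (nat_lit 3169) (Dv.wd (nat_lit 30) [Mv.b (nat_lit 9180), Mv.f (nat_lit 14670)]))))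
(Tr.nd (nat_lit 14674) (Tr.lf (Fc.ed (nat_lit 14673) (nat_lit 3169) Col.a (nat_lit 3443) (Dv.wd (nat_lit 23) [Mv.b (nat_lit 8752), Mv.f (nat_lit 8005), Mv.f (nat_lit 14672)])))
(Tr.nd (nat_lit 14675) (Tr.lf (Fc.ed (nat_lit 14674) (nat_lit 3052) Col.f (nat_lit 3443) (Dv.wd (nat_lit 35) [Mv.b (nat_lit 14673), Mv.b (nat_lit 14672), Mv.f (nat_lit 14671)])))
(Tr.lf (Fc.ed (nat_lit 14675) (nat_lit 3502) Col.f (nat_lit 2949) (Dv.wd (nat_lit 26) [Mv.f (nat_lit 7946), Mv.f (nat_lit 14674), Mv.f (nat_lit 8862)]))))))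
(Tr.nd (nat_lit 14678) (Tr.nd (nat_lit 14677) (Tr.lf (Fc.ed (nat_lit 14676) (nat_lit 3502) Col.a (nat_lit 4034) (Dv.wd (nat_lit 76) [Mv.b (nat_lit 9863), Mv.f (nat_lit 14673), Mv.f (nat_lit 8862)])))
(Tr.lf (Fc.ed (nat_lit 14677) (nat_lit 4034) Col.f (nat_lit 4107) (Dv.wd (nat_lit 10) [Mv.b (nat_lit 10591), Mv.b (nat_lit 9747), Mv.f (nat_lit 14676)]))))
(Tr.nd (nat_lit 14679) (Tr.lf (Fc.ed (nat_lit 14678) (nat_lit 2949) Col.a (nat_lit 4107) (Dv.wd (nat_lit 79) [Mv.b (nat_lit 14677), Mv.b (nat_lit 14676), Mv.f (nat_lit 14675)])))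
(Tr.nd (nat_lit 14680) (Tr.lf (Fc.ed (nat_lit 14679) (nat_lit 4107) Col.c (nat_lit 3079) (Dv.wd (nat_lit 33) [Mv.f (nat_lit 14671), Mv.b (nat_lit 7946), Mv.f (nat_lit 14678)])))
(Tr.lf (Fc.ed (nat_lit 14680) (nat_lit 2536) Col.gi (nat_lit 4600) (Dv.wd (nat_lit 111) [Mv.f (nat_lit 13276), Mv.f (nat_lit 14666), Mv.b (nat_lit 2967), Mv.f (nat_lit 5329), Mv.b (nat_lit 13652), Mv.f (nat_lit 7221), Mv.b (nat_lit 6238), Mv.b (nat_lit 6306), Mv.b (nat_lit 6823)]))))))))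
(Tr.nd (nat_lit 14691) (Tr.nd (nat_lit 14686) (Tr.nd (nat_lit 14683) (Tr.nd (nat_lit 14682) (Tr.lf (Fc.ed (nat_lit 14681) (nat_lit 5690) Col.c (nat_lit 5623) (Dv.wd (nat_lit 83) [Mv.b (nat_lit 14325), Mv.b (nat_lit 9426), Mv.f (nat_lit 14666), Mv.b (nat_lit 2967), Mv.b (nat_lit 5408), Mv.b (nat_lit 13658), Mv.f (nat_lit 9050), Mv.f (nat_lit 14423), Mv.f (nat_lit 14447)])))
(Tr.lf (Fc.ed (nat_lit 14682) (nat_lit 4600) Col.gi (nat_lit 1737) (Dv.wd (nat_lit 24) [Mv.f (nat_lit 5036), Mv.f (nat_lit 6822), Mv.f (nat_lit 14680)]))))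
(Tr.nd (nat_lit 14684) (Tr.lf (Fc.ed (nat_lit 14683) (nat_lit 1100) Col.b (nat_lit 5777) Dv.df))
(Tr.nd (nat_lit 14685) (Tr.lf (Fc.ed (nat_lit 14684) (nat_lit 5777) Col.f (nat_lit 5733) (Dv.wd (nat_lit 20) [Mv.b (nat_lit 14576), Mv.f (nat_lit 3408), Mv.f (nat_lit 14683)])))
(Tr.lf (Fc.ed (nat_lit 14685) (nat_lit 3706) Col.b (nat_lit 5778) Dv.df)))))
(Tr.nd (nat_lit 14688) (Tr.nd (nat_lit 14687) (Tr.lf (Fc.ed (nat_lit 14686) (nat_lit 3818) Col.c (nat_lit 5779) Dv.df))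
(Tr.lf (Fc.ed (nat_lit 14687) (nat_lit 3518) Col.b (nat_lit 5780) Dv.df)))
(Tr.nd (nat_lit 14689) (Tr.lf (Fc.ed (nat_lit 14688) (nat_lit 4720) Col.b (nat_lit 5781) Dv.df))
(Tr.nd (nat_lit 14690) (Tr.lf (Fc.ed (nat_lit 14689) (nat_lit 5781) Col.d (nat_lit 5268) (Dv.wd (nat_lit 58) [Mv.f (nat_lit 13569), Mv.f (nat_lit 11909), Mv.f (nat_lit 14688)])))
(Tr.lf (Fc.ed (nat_lit 14690) (nat_lit 1910) Col.c (nat_lit 5782) Dv.df))))))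
(Tr.nd (nat_lit 14696) (Tr.nd (nat_lit 14693) (Tr.nd (nat_lit 14692) (Tr.lf (Fc.ed (nat_lit 14691) (nat_lit 5782) Col.d (nat_lit 5647) (Dv.wd (nat_lit 147) [Mv.b (nat_lit 14374), Mv.b (nat_lit 13812), Mv.f (nat_lit 13138), Mv.f (nat_lit 6287), Mv.f (nat_lit 2967), Mv.f (nat_lit 3985), Mv.f (nat_lit 3987), Mv.f (nat_lit 5391), Mv.f (nat_lit 14690)])))
(Tr.lf (Fc.ed (nat_lit 14692) (nat_lit 2093) Col.e (nat_lit 5783) Dv.df)))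
(Tr.nd (nat_lit 14694) (Tr.lf (Fc.ed (nat_lit 14693) (nat_lit 3044) Col.c (nat_lit 5784) Dv.df))
(Tr.nd (nat_lit 14695) (Tr.lf (Fc.ed (nat_lit 14694) (nat_lit 4743) Col.b (nat_lit 5785) Dv.df))
(Tr.lf (Fc.ed (nat_lit 14695) (nat_lit 5785) Col.f (nat_lit 4820) (Dv.wd (nat_lit 20) [Mv.b (nat_lit 12596), Mv.f (nat_lit 12455), Mv.f (nat_lit 14694)]))))))
(Tr.nd (nat_lit 14699) (Tr.nd (nat_lit 14697) (Tr.lf (Fc.ed (nat_lit 14696) (nat_lit 5222) Col.f (nat_lit 5786) Dv.df))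
(Tr.nd (nat_lit 14698) (Tr.lf (Fc.ed (nat_lit 14697) (nat_lit 5786) Col.b (nat_lit 4441) (Dv.wd (nat_lit 66) [Mv.f (nat_lit 11401), Mv.b (nat_lit 13471), Mv.f (nat_lit 14696)])))
(Tr.lf (Fc.ed (nat_lit 14698) (nat_lit 5786) Col.c (nat_lit 5580) (Dv.wd (nat_lit 34) [Mv.b (nat_lit 14242), Mv.f (nat_lit 13724), Mv.f (nat_lit 14696)])))))
(Tr.nd (nat_lit 14700) (Tr.lf (Fc.ed (nat_lit 14699) (nat_lit 5786) Col.d (nat_lit 5786) (Dv.wd (nat_lit 21) [Mv.b (nat_lit 14696), Mv.f (nat_lit 13472), Mv.f (nat_lit 14696)])))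
(Tr.nd (nat_lit 14701) (Tr.lf (Fc.ed (nat_lit 14700) (nat_lit 5786) Col.e (nat_lit 4323) (Dv.wd (nat_lit 22) [Mv.b (nat_lit 11105), Mv.f (nat_lit 6896), Mv.b (nat_lit 6193), Mv.f (nat_lit 13469), Mv.f (nat_lit 14696)])))
(Tr.lf (Fc.ed (nat_lit 14701) (nat_lit 3515) Col.b (nat_lit 5787) Dv.df)))))))))
(Tr.nd (nat_lit 14743) (Tr.nd (nat_lit 14722) (Tr.nd (nat_lit 14712) (Tr.nd (nat_lit 14707) (Tr.nd (nat_lit 14704) (Tr.nd (nat_lit 14703) (Tr.lf (Fc.ed (nat_lit 14702) (nat_lit 5672) Col.f (nat_lit 5788) Dv.df))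
(Tr.lf (Fc.ed (nat_lit 14703) (nat_lit 5788) Col.d (nat_lit 1779) (Dv.wd (nat_lit 21) [Mv.b (nat_lit 8503), Mv.f (nat_lit 14419), Mv.f (nat_lit 14702)]))))
(Tr.nd (nat_lit 14705) (Tr.lf (Fc.ed (nat_lit 14704) (nat_lit 4174) Col.g (nat_lit 5789) Dv.df))
(Tr.nd (nat_lit 14706) (Tr.lf (Fc.ed (nat_lit 14705) (nat_lit 5789) Col.g (nat_lit 3209) (Dv.wd (nat_lit 9) [Mv.f (nat_lit 13085), Mv.f (nat_lit 13087), Mv.f (nat_lit 14704)])))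
(Tr.lf (Fc.ed (nat_lit 14706) (nat_lit 2802) Col.b (nat_lit 5790) Dv.df)))))
(Tr.nd (nat_lit 14709) (Tr.nd (nat_lit 14708) (Tr.lf (Fc.ed (nat_lit 14707) (nat_lit 5790) Col.e (nat_lit 5468) (Dv.wd (nat_lit 52) [Mv.b (nat_lit 14035), Mv.f (nat_lit 7427), Mv.f (nat_lit 14706)])))
(Tr.lf (Fc.ed (nat_lit 14708) (nat_lit 5790) Col.f (nat_lit 5535) (Dv.wd (nat_lit 20) [Mv.f (nat_lit 14152), Mv.b (nat_lit 7413), Mv.f (nat_lit 14706)]))))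
(Tr.nd (nat_lit 14710) (Tr.lf (Fc.ed (nat_lit 14709) (nat_lit 4823) Col.f (nat_lit 5468) (Dv.wd (nat_lit 41) [Mv.b (nat_lit 14707), Mv.f (nat_lit 14708), Mv.b (nat_lit 14151), Mv.f (nat_lit 11372), Mv.f (nat_lit 12602)])))
(Tr.nd (nat_lit 14711) (Tr.lf (Fc.ed (nat_lit 14710) (nat_lit 3031) Col.d (nat_lit 4823) (Dv.wd (nat_lit 90) [Mv.f (nat_lit 14709), Mv.f (nat_lit 14036), Mv.f (nat_lit 11597)])))
(Tr.lf (Fc.ed (nat_lit 14711) (nat_lit 5005) Col.g (nat_lit 5791) Dv.df))))))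
(Tr.nd (nat_lit 14717) (Tr.nd (nat_lit 14714) (Tr.nd (nat_lit 14713) (Tr.lf (Fc.ed (nat_lit 14712) (nat_lit 5791) Col.g (nat_lit 2926) (Dv.wd (nat_lit 9) [Mv.b (nat_lit 8267), Mv.b (nat_lit 13014), Mv.f (nat_lit 14711)])))
(Tr.lf (Fc.ed (nat_lit 14713) (nat_lit 5773) Col.gi (nat_lit 5792) Dv.df)))
(Tr.nd (nat_lit 14715) (Tr.lf (Fc.ed (nat_lit 14714) (nat_lit 3317) Col.g (nat_lit 5793) Dv.df))
(Tr.nd (nat_lit 14716) (Tr.lf (Fc.ed (nat_lit 14715) (nat_lit 5793) Col.g (nat_lit 3676) (Dv.wd (nat_lit 9) [Mv.b (nat_lit 9951), Mv.f (nat_lit 9952), Mv.f (nat_lit 14714)])))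
(Tr.lf (Fc.ed (nat_lit 14716) (nat_lit 5561) Col.a (nat_lit 5794) Dv.df)))))
(Tr.nd (nat_lit 14719) (Tr.nd (nat_lit 14718) (Tr.lf (Fc.ed (nat_lit 14717) (nat_lit 5794) Col.d (nat_lit 5157) (Dv.wd (nat_lit 28) [Mv.f (nat_lit 13325), Mv.b (nat_lit 14203), Mv.f (nat_lit 14716)])))
(Tr.lf (Fc.ed (nat_lit 14718) (nat_lit 5794) Col.f (nat_lit 5416) (Dv.wd (nat_lit 35) [Mv.f (nat_lit 13893), Mv.f (nat_lit 14201), Mv.f (nat_lit 14716)]))))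
(Tr.nd (nat_lit 14720) (Tr.lf (Fc.ed (nat_lit 14719) (nat_lit 5378) Col.c (nat_lit 5795) Dv.df))
(Tr.nd (nat_lit 14721) (Tr.lf (Fc.ed (nat_lit 14720) (nat_lit 5795) Col.b (nat_lit 5493) (Dv.wd (nat_lit 87) [Mv.f (nat_lit 14078), Mv.f (nat_lit 7664), Mv.f (nat_lit 7665), Mv.b (nat_lit 13817), Mv.f (nat_lit 14719)])))
(Tr.lf (Fc.ed (nat_lit 14721) (nat_lit 5773) Col.d (nat_lit 5795) (Dv.wd (nat_lit 116) [Mv.f (nat_lit 14720), Mv.b (nat_lit 14238), Mv.f (nat_lit 14649)]))))))))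
(Tr.nd (nat_lit 14732) (Tr.nd (nat_lit 14727) (Tr.nd (nat_lit 14724) (Tr.nd (nat_lit 14723) (Tr.lf (Fc.ed (nat_lit 14722) (nat_lit 3104) Col.g (nat_lit 5796) Dv.df))
(Tr.lf (Fc.ed (nat_lit 14723) (nat_lit 5796) Col.g (nat_lit 5310) (Dv.wd (nat_lit 9) [Mv.f (nat_lit 13884), Mv.f (nat_lit 13885), Mv.f (nat_lit 14722)]))))
(Tr.nd (nat_lit 14725) (Tr.lf (Fc.ed (nat_lit 14724) (nat_lit 3152) Col.b (nat_lit 5797) Dv.df))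
(Tr.nd (nat_lit 14726) (Tr.lf (Fc.ed (nat_lit 14725) (nat_lit 5797) Col.e (nat_lit 5398) (Dv.wd (nat_lit 52) [Mv.b (nat_lit 13855), Mv.b (nat_lit 8161), Mv.f (nat_lit 14724)])))
(Tr.lf (Fc.ed (nat_lit 14726) (nat_lit 5797) Col.a (nat_lit 5564) (Dv.wd (nat_lit 98) [Mv.f (nat_lit 14539), Mv.b (nat_lit 13665), Mv.f (nat_lit 14536), Mv.f (nat_lit 12768), Mv.f (nat_lit 14724)]))))))
(Tr.nd (nat_lit 14729) (Tr.nd (nat_lit 14728) (Tr.lf (Fc.ed (nat_lit 14727) (nat_lit 4512) Col.a (nat_lit 5798) Dv.df))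
(Tr.lf (Fc.ed (nat_lit 14728) (nat_lit 3975) Col.a (nat_lit 5799) Dv.df)))
(Tr.nd (nat_lit 14730) (Tr.lf (Fc.ed (nat_lit 14729) (nat_lit 5355) Col.a (nat_lit 5800) Dv.df))
(Tr.nd (nat_lit 14731) (Tr.lf (Fc.ed (nat_lit 14730) (nat_lit 5800) Col.c (nat_lit 3019) (Dv.wd (nat_lit 33) [Mv.b (nat_lit 12969), Mv.b (nat_lit 13772), Mv.f (nat_lit 14729)])))
(Tr.lf (Fc.ed (nat_lit 14731) (nat_lit 5784) Col.f (nat_lit 5801) Dv.df))))))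
(Tr.nd (nat_lit 14737) (Tr.nd (nat_lit 14734) (Tr.nd (nat_lit 14733) (Tr.lf (Fc.ed (nat_lit 14732) (nat_lit 5254) Col.d (nat_lit 5802) Dv.df))
(Tr.lf (Fc.ed (nat_lit 14733) (nat_lit 4990) Col.b (nat_lit 5803) Dv.df)))
(Tr.nd (nat_lit 14735) (Tr.lf (Fc.ed (nat_lit 14734) (nat_lit 5803) Col.f (nat_lit 5655) (Dv.wd (nat_lit 20) [Mv.f (nat_lit 14390), Mv.f (nat_lit 13589), Mv.f (nat_lit 14733)])))
(Tr.nd (nat_lit 14736) (Tr.lf (Fc.ed (nat_lit 14735) (nat_lit 5690) Col.a (nat_lit 5803) (Dv.wd (nat_lit 166) [Mv.f (nat_lit 14734), Mv.b (nat_lit 14391), Mv.f (nat_lit 14656), Mv.b (nat_lit 14658), Mv.f (nat_lit 13399), Mv.f (nat_lit 13276), Mv.f (nat_lit 9426), Mv.f (nat_lit 14325), Mv.b (nat_lit 14681)])))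
(Tr.lf (Fc.ed (nat_lit 14736) (nat_lit 5676) Col.gi (nat_lit 5655) (Dv.wd (nat_lit 24) [Mv.b (nat_lit 14734), Mv.b (nat_lit 14735), Mv.b (nat_lit 14447)]))))))
(Tr.nd (nat_lit 14740) (Tr.nd (nat_lit 14738) (Tr.lf (Fc.al (nat_lit 14737) (nat_lit 5174) (nat_lit 3280) (Dv.wd (nat_lit 100) [Mv.f (nat_lit 10072), Mv.b (nat_lit 6932), Mv.f (nat_lit 3706), Mv.f (nat_lit 3918), Mv.f (nat_lit 3920), Mv.b (nat_lit 3689), Mv.b (nat_lit 4180), Mv.f (nat_lit 14423), Mv.f (nat_lit 14736), Mv.b (nat_lit 14389), Mv.f (nat_lit 13359)])))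
(Tr.nd (nat_lit 14739) (Tr.lf (Fc.ed (nat_lit 14738) (nat_lit 3280) Col.c (nat_lit 5206) (Dv.wd (nat_lit 103) [Mv.b (nat_lit 13439), Mv.f (nat_lit 14737)])))
(Tr.lf (Fc.ed (nat_lit 14739) (nat_lit 3280) Col.d (nat_lit 3079) (Dv.wd (nat_lit 120) [Mv.b (nat_lit 13360), Mv.f (nat_lit 14737)])))))
(Tr.nd (nat_lit 14741) (Tr.lf (Fc.ed (nat_lit 14740) (nat_lit 5803) Col.gi (nat_lit 5804) Dv.df))
(Tr.nd (nat_lit 14742) (Tr.lf (Fc.ed (nat_lit 14741) (nat_lit 5646) Col.f (nat_lit 5805) Dv.df))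
(Tr.lf (Fc.ed (nat_lit 14742) (nat_lit 5805) Col.a (nat_lit 3896) (Dv.wd (nat_lit 23) [Mv.b (nat_lit 9587), Mv.b (nat_lit 14373), Mv.f (nat_lit 14741)])))))))))
(Tr.nd (nat_lit 14763) (Tr.nd (nat_lit 14753) (Tr.nd (nat_lit 14748) (Tr.nd (nat_lit 14745) (Tr.nd (nat_lit 14744) (Tr.lf (Fc.ed (nat_lit 14743) (nat_lit 5671) Col.f (nat_lit 5806) Dv.df))
(Tr.lf (Fc.ed (nat_lit 14744) (nat_lit 4809) Col.b (nat_lit 5807) Dv.df)))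
(Tr.nd (nat_lit 14746) (Tr.lf (Fc.ed (nat_lit 14745) (nat_lit 5807) Col.e (nat_lit 5019) (Dv.wd (nat_lit 52) [Mv.b (nat_lit 13040), Mv.b (nat_lit 12578), Mv.f (nat_lit 14744)])))
(Tr.nd (nat_lit 14747) (Tr.lf (Fc.ed (nat_lit 14746) (nat_lit 5807) Col.a (nat_lit 4922) (Dv.wd (nat_lit 98) [Mv.b (nat_lit 12800), Mv.b (nat_lit 7960), Mv.b (nat_lit 8770), Mv.f (nat_lit 12577), Mv.f (nat_lit 14744)])))
(Tr.lf (Fc.ed (nat_lit 14747) (nat_lit 2250) Col.e (nat_lit 5808) Dv.df)))))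
(Tr.nd (nat_lit 14750) (Tr.nd (nat_lit 14749) (Tr.lf (Fc.ed (nat_lit 14748) (nat_lit 5808) Col.a (nat_lit 5515) (Dv.wd (nat_lit 15) [Mv.b (nat_lit 14114), Mv.f (nat_lit 6476), Mv.f (nat_lit 14747)])))
(Tr.lf (Fc.ed (nat_lit 14749) (nat_lit 4431) Col.f (nat_lit 5809) Dv.df)))
(Tr.nd (nat_lit 14751) (Tr.lf (Fc.ed (nat_lit 14750) (nat_lit 5809) Col.a (nat_lit 4803) (Dv.wd (nat_lit 23) [Mv.b (nat_lit 12564), Mv.f (nat_lit 11383), Mv.f (nat_lit 14749)])))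
(Tr.nd (nat_lit 14752) (Tr.lf (Fc.ed (nat_lit 14751) (nat_lit 3691) Col.d (nat_lit 5810) Dv.df))
(Tr.lf (Fc.ed (nat_lit 14752) (nat_lit 5810) Col.a (nat_lit 4900) (Dv.wd (nat_lit 8) [Mv.b (nat_lit 12755), Mv.b (nat_lit 9524), Mv.f (nat_lit 14751)])))))))
(Tr.nd (nat_lit 14758) (Tr.nd (nat_lit 14755) (Tr.nd (nat_lit 14754) (Tr.lf (Fc.ed (nat_lit 14753) (nat_lit 5810) Col.f (nat_lit 4057) (Dv.wd (nat_lit 11) [Mv.b (nat_lit 9900), Mv.f (nat_lit 9429), Mv.f (nat_lit 14751)])))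
(Tr.lf (Fc.ed (nat_lit 14754) (nat_lit 3932) Col.d (nat_lit 5811) Dv.df)))
(Tr.nd (nat_lit 14756) (Tr.lf (Fc.ed (nat_lit 14755) (nat_lit 3381) Col.f (nat_lit 5812) Dv.df))
(Tr.nd (nat_lit 14757) (Tr.lf (Fc.ed (nat_lit 14756) (nat_lit 5812) Col.a (nat_lit 3315) (Dv.wd (nat_lit 23) [Mv.f (nat_lit 8482), Mv.f (nat_lit 8622), Mv.f (nat_lit 14755)])))
(Tr.lf (Fc.ed (nat_lit 14757) (nat_lit 5806) Col.d (nat_lit 5813) Dv.df)))))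
(Tr.nd (nat_lit 14760) (Tr.nd (nat_lit 14759) (Tr.lf (Fc.ed (nat_lit 14758) (nat_lit 2270) Col.c (nat_lit 5814) Dv.df))
(Tr.lf (Fc.ed (nat_lit 14759) (nat_lit 5814) Col.a (nat_lit 5064) (Dv.wd (nat_lit 19) [Mv.f (nat_lit 13138), Mv.f (nat_lit 6288), Mv.f (nat_lit 14758)]))))
(Tr.nd (nat_lit 14761) (Tr.lf (Fc.ed (nat_lit 14760) (nat_lit 5335) Col.d (nat_lit 5815) Dv.df))
(Tr.nd (nat_lit 14762) (Tr.lf (Fc.ed (nat_lit 14761) (nat_lit 3763) Col.e (nat_lit 5816) Dv.df))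
(Tr.lf (Fc.ed (nat_lit 14762) (nat_lit 4315) Col.d (nat_lit 5817) Dv.df)))))))
(Tr.nd (nat_lit 14773) (Tr.nd (nat_lit 14768) (Tr.nd (nat_lit 14765) (Tr.nd (nat_lit 14764) (Tr.lf (Fc.ed (nat_lit 14763) (nat_lit 4231) Col.b (nat_lit 5818) Dv.df))
(Tr.lf (Fc.ed (nat_lit 14764) (nat_lit 5818) Col.c (nat_lit 5754) (Dv.wd (nat_lit 176) [Mv.b (nat_lit 14613), Mv.b (nat_lit 13206), Mv.f (nat_lit 8118), Mv.b (nat_lit 3437), Mv.b (nat_lit 2234), Mv.b (nat_lit 1242), Mv.f (nat_lit 805), Mv.f (nat_lit 806), Mv.b (nat_lit 742), Mv.b (nat_lit 1750), Mv.f (nat_lit 1749), Mv.f (nat_lit 845), Mv.b (nat_lit 902), Mv.f (nat_lit 1097), Mv.f (nat_lit 3199), Mv.f (nat_lit 3940), Mv.b (nat_lit 10869), Mv.b (nat_lit 12272), Mv.f (nat_lit 14763)]))))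
(Tr.nd (nat_lit 14766) (Tr.lf (Fc.ed (nat_lit 14765) (nat_lit 1960) Col.b (nat_lit 5819) Dv.df))
(Tr.nd (nat_lit 14767) (Tr.lf (Fc.ed (nat_lit 14766) (nat_lit 5819) Col.e (nat_lit 5271) (Dv.wd (nat_lit 52) [Mv.b (nat_lit 13573), Mv.f (nat_lit 7509), Mv.f (nat_lit 14765)])))
(Tr.lf (Fc.ed (nat_lit 14767) (nat_lit 3727) Col.gi (nat_lit 5820) Dv.df)))))
(Tr.nd (nat_lit 14770) (Tr.nd (nat_lit 14769) (Tr.lf (Fc.ed (nat_lit 14768) (nat_lit 5820) Col.gi (nat_lit 4662) (Dv.wd (nat_lit 24) [Mv.b (nat_lit 14143), Mv.f (nat_lit 14142), Mv.f (nat_lit 14767)])))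
(Tr.lf (Fc.ed (nat_lit 14769) (nat_lit 4784) Col.b (nat_lit 5821) Dv.df)))
(Tr.nd (nat_lit 14771) (Tr.lf (Fc.ed (nat_lit 14770) (nat_lit 5005) Col.b (nat_lit 5822) Dv.df))
(Tr.nd (nat_lit 14772) (Tr.lf (Fc.ed (nat_lit 14771) (nat_lit 5822) Col.f (nat_lit 5258) (Dv.wd (nat_lit 20) [Mv.f (nat_lit 13547), Mv.b (nat_lit 13014), Mv.f (nat_lit 14770)])))
(Tr.lf (Fc.ed (nat_lit 14772) (nat_lit 5746) Col.gi (nat_lit 5823) Dv.df))))))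
(Tr.nd (nat_lit 14778) (Tr.nd (nat_lit 14775) (Tr.nd (nat_lit 14774) (Tr.lf (Fc.ed (nat_lit 14773) (nat_lit 5189) Col.b (nat_lit 5824) Dv.df))
(Tr.lf (Fc.ed (nat_lit 14774) (nat_lit 3270) Col.gi (nat_lit 5825) Dv.df)))
(Tr.nd (nat_lit 14776) (Tr.lf (Fc.ed (nat_lit 14775) (nat_lit 2710) Col.c (nat_lit 5826) Dv.df))
(Tr.nd (nat_lit 14777) (Tr.lf (Fc.ed (nat_lit 14776) (nat_lit 5787) Col.gi (nat_lit 5827) Dv.df))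
(Tr.lf (Fc.ed (nat_lit 14777) (nat_lit 5739) Col.f (nat_lit 5828) Dv.df)))))
(Tr.nd (nat_lit 14781) (Tr.nd (nat_lit 14779) (Tr.lf (Fc.ed (nat_lit 14778) (nat_lit 5828) Col.a (nat_lit 4267) (Dv.wd (nat_lit 16) [Mv.f (nat_lit 10981), Mv.f (nat_lit 14585), Mv.f (nat_lit 14777)])))
(Tr.nd (nat_lit 14780) (Tr.lf (Fc.ed (nat_lit 14779) (nat_lit 5703) Col.f (nat_lit 5829) Dv.df))
(Tr.lf (Fc.ed (nat_lit 14780) (nat_lit 4964) Col.d (nat_lit 5830) Dv.df))))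
(Tr.nd (nat_lit 14782) (Tr.lf (Fc.ed (nat_lit 14781) (nat_lit 1471) Col.b (nat_lit 5831) Dv.df))
(Tr.nd (nat_lit 14783) (Tr.lf (Fc.ed (nat_lit 14782) (nat_lit 5831) Col.c (nat_lit 5733) (Dv.wd (nat_lit 93) [Mv.b (nat_lit 14576), Mv.b (nat_lit 3407), Mv.b (nat_lit 3961), Mv.f (nat_lit 4436), Mv.f (nat_lit 14781)])))
(Tr.lf (Fc.ed (nat_lit 14783) (nat_lit 5423) Col.f (nat_lit 5832) Dv.df)))))))))))
(Tr.nd (nat_lit 14948) (Tr.nd (nat_lit 14866) (Tr.nd (nat_lit 14825) (Tr.nd (nat_lit 14804) (Tr.nd (nat_lit 14794) (Tr.nd (nat_lit 14789) (Tr.nd (nat_lit 14786) (Tr.nd (nat_lit 14785) (Tr.lf (Fc.ed (nat_lit 14784) (nat_lit 5832) Col.b (nat_lit 2058) (Dv.wd (nat_lit 66) [Mv.f (nat_lit 9980), Mv.f (nat_lit 13905), Mv.f (nat_lit 14783)])))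
(Tr.lf (Fc.ed (nat_lit 14785) (nat_lit 3403) Col.c (nat_lit 5833) Dv.df)))
(Tr.nd (nat_lit 14787) (Tr.lf (Fc.ed (nat_lit 14786) (nat_lit 3531) Col.e (nat_lit 5834) Dv.df))
(Tr.nd (nat_lit 14788) (Tr.lf (Fc.ed (nat_lit 14787) (nat_lit 5306) Col.gi (nat_lit 5835) Dv.df))
(Tr.lf (Fc.ed (nat_lit 14788) (nat_lit 5835) Col.gi (nat_lit 2662) (Dv.wd (nat_lit 24) [Mv.f (nat_lit 8633), Mv.b (nat_lit 13645), Mv.f (nat_lit 14787)]))))))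
(Tr.nd (nat_lit 14791) (Tr.nd (nat_lit 14790) (Tr.lf (Fc.ed (nat_lit 14789) (nat_lit 4174) Col.c (nat_lit 5836) Dv.df))
(Tr.lf (Fc.ed (nat_lit 14790) (nat_lit 3423) Col.gi (nat_lit 5837) Dv.df)))
(Tr.nd (nat_lit 14792) (Tr.lf (Fc.ed (nat_lit 14791) (nat_lit 5764) Col.d (nat_lit 5838) Dv.df))
(Tr.nd (nat_lit 14793) (Tr.lf (Fc.ed (nat_lit 14792) (nat_lit 5102) Col.f (nat_lit 5839) Dv.df))
(Tr.lf (Fc.ed (nat_lit 14793) (nat_lit 5839) Col.c (nat_lit 2580) (Dv.wd (nat_lit 34) [Mv.f (nat_lit 6926), Mv.f (nat_lit 13210), Mv.f (nat_lit 14792)])))))))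
(Tr.nd (nat_lit 14799) (Tr.nd (nat_lit 14796) (Tr.nd (nat_lit 14795) (Tr.lf (Fc.ed (nat_lit 14794) (nat_lit 5035) Col.g (nat_lit 5840) Dv.df))
(Tr.lf (Fc.ed (nat_lit 14795) (nat_lit 5840) Col.g (nat_lit 3335) (Dv.wd (nat_lit 9) [Mv.f (nat_lit 13304), Mv.f (nat_lit 13305), Mv.f (nat_lit 14794)]))))
(Tr.nd (nat_lit 14797) (Tr.lf (Fc.ed (nat_lit 14796) (nat_lit 5299) Col.c (nat_lit 5841) Dv.df))
(Tr.nd (nat_lit 14798) (Tr.lf (Fc.ed (nat_lit 14797) (nat_lit 4295) Col.c (nat_lit 5842) Dv.df))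
(Tr.lf (Fc.ed (nat_lit 14798) (nat_lit 3664) Col.a (nat_lit 5843) Dv.df)))))
(Tr.nd (nat_lit 14801) (Tr.nd (nat_lit 14800) (Tr.lf (Fc.ed (nat_lit 14799) (nat_lit 5843) Col.f (nat_lit 5518) (Dv.wd (nat_lit 35) [Mv.f (nat_lit 14121), Mv.f (nat_lit 14118), Mv.f (nat_lit 14798)])))
(Tr.lf (Fc.ed (nat_lit 14800) (nat_lit 4949) Col.g (nat_lit 5844) Dv.df)))
(Tr.nd (nat_lit 14802) (Tr.lf (Fc.ed (nat_lit 14801) (nat_lit 5844) Col.g (nat_lit 4491) (Dv.wd (nat_lit 9) [Mv.b (nat_lit 11481), Mv.b (nat_lit 12859), Mv.f (nat_lit 14800)])))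
(Tr.nd (nat_lit 14803) (Tr.lf (Fc.ed (nat_lit 14802) (nat_lit 4933) Col.c (nat_lit 5845) Dv.df))
(Tr.lf (Fc.ed (nat_lit 14803) (nat_lit 4429) Col.f (nat_lit 5846) Dv.df)))))))
(Tr.nd (nat_lit 14814) (Tr.nd (nat_lit 14809) (Tr.nd (nat_lit 14806) (Tr.nd (nat_lit 14805) (Tr.lf (Fc.ed (nat_lit 14804) (nat_lit 5846) Col.a (nat_lit 4575) (Dv.wd (nat_lit 23) [Mv.f (nat_lit 11639), Mv.b (nat_lit 11380), Mv.f (nat_lit 14803)])))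
(Tr.lf (Fc.ed (nat_lit 14805) (nat_lit 1781) Col.g (nat_lit 5847) Dv.df)))
(Tr.nd (nat_lit 14807) (Tr.lf (Fc.ed (nat_lit 14806) (nat_lit 5847) Col.g (nat_lit 4416) (Dv.wd (nat_lit 9) [Mv.f (nat_lit 11354), Mv.b (nat_lit 8044), Mv.f (nat_lit 14805)])))
(Tr.nd (nat_lit 14808) (Tr.lf (Fc.ed (nat_lit 14807) (nat_lit 2583) Col.c (nat_lit 5848) Dv.df))
(Tr.lf (Fc.ed (nat_lit 14808) (nat_lit 5848) Col.gi (nat_lit 5773) (Dv.wd (nat_lit 157) [Mv.b (nat_lit 14649), Mv.b (nat_lit 14237), Mv.b (nat_lit 14239), Mv.b (nat_lit 13392), Mv.b (nat_lit 11824), Mv.f (nat_lit 11869), Mv.b (nat_lit 13440), Mv.b (nat_lit 14738), Mv.f (nat_lit 10072), Mv.f (nat_lit 14807)]))))))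
(Tr.nd (nat_lit 14811) (Tr.nd (nat_lit 14810) (Tr.lf (Fc.ed (nat_lit 14809) (nat_lit 4374) Col.g (nat_lit 5849) Dv.df))
(Tr.lf (Fc.ed (nat_lit 14810) (nat_lit 5064) Col.gi (nat_lit 5850) Dv.df)))
(Tr.nd (nat_lit 14812) (Tr.lf (Fc.ed (nat_lit 14811) (nat_lit 5850) Col.c (nat_lit 5787) (Dv.wd (nat_lit 143) [Mv.b (nat_lit 14701), Mv.b (nat_lit 8886), Mv.f (nat_lit 5653), Mv.b (nat_lit 3636), Mv.f (nat_lit 3637), Mv.b (nat_lit 3351), Mv.b (nat_lit 3008), Mv.f (nat_lit 6286), Mv.b (nat_lit 13138), Mv.f (nat_lit 14810)])))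
(Tr.nd (nat_lit 14813) (Tr.lf (Fc.ed (nat_lit 14812) (nat_lit 3786) Col.d (nat_lit 5827) (Dv.wd (nat_lit 89) [Mv.b (nat_lit 14776), Mv.b (nat_lit 14811), Mv.b (nat_lit 14810), Mv.f (nat_lit 13138), Mv.f (nat_lit 6287), Mv.f (nat_lit 2967), Mv.f (nat_lit 14664), Mv.f (nat_lit 14662), Mv.f (nat_lit 9403)])))
(Tr.lf (Fc.ed (nat_lit 14813) (nat_lit 5850) Col.gi (nat_lit 5851) Dv.df))))))
(Tr.nd (nat_lit 14819) (Tr.nd (nat_lit 14816) (Tr.nd (nat_lit 14815) (Tr.lf (Fc.ed (nat_lit 14814) (nat_lit 5851) Col.f (nat_lit 5814) (Dv.wd (nat_lit 13) [Mv.f (nat_lit 14759), Mv.f (nat_lit 14810), Mv.f (nat_lit 14813)])))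
(Tr.lf (Fc.ed (nat_lit 14815) (nat_lit 5261) Col.a (nat_lit 5851) (Dv.wd (nat_lit 79) [Mv.f (nat_lit 14814), Mv.f (nat_lit 14759), Mv.f (nat_lit 13552)]))))
(Tr.nd (nat_lit 14817) (Tr.lf (Fc.ed (nat_lit 14816) (nat_lit 5020) Col.f (nat_lit 5852) Dv.df))
(Tr.nd (nat_lit 14818) (Tr.lf (Fc.ed (nat_lit 14817) (nat_lit 5852) Col.a (nat_lit 4441) (Dv.wd (nat_lit 16) [Mv.f (nat_lit 11401), Mv.b (nat_lit 13042), Mv.f (nat_lit 14816)])))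
(Tr.lf (Fc.ed (nat_lit 14818) (nat_lit 5852) Col.d (nat_lit 5852) (Dv.wd (nat_lit 21) [Mv.b (nat_lit 14816), Mv.f (nat_lit 13043), Mv.f (nat_lit 14816)]))))))
(Tr.nd (nat_lit 14822) (Tr.nd (nat_lit 14820) (Tr.lf (Fc.ed (nat_lit 14819) (nat_lit 4441) Col.gi (nat_lit 5109) (Dv.wd (nat_lit 12) [Mv.b (nat_lit 13229), Mv.f (nat_lit 14816), Mv.f (nat_lit 14817)])))
(Tr.nd (nat_lit 14821) (Tr.lf (Fc.ed (nat_lit 14820) (nat_lit 5852) Col.e (nat_lit 4527) (Dv.wd (nat_lit 22) [Mv.f (nat_lit 11547), Mv.b (nat_lit 7355), Mv.f (nat_lit 4371), Mv.f (nat_lit 13041), Mv.f (nat_lit 14816)])))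
(Tr.lf (Fc.ed (nat_lit 14821) (nat_lit 3375) Col.e (nat_lit 5853) Dv.df))))
(Tr.nd (nat_lit 14823) (Tr.lf (Fc.ed (nat_lit 14822) (nat_lit 3315) Col.b (nat_lit 5854) Dv.df))
(Tr.nd (nat_lit 14824) (Tr.lf (Fc.ed (nat_lit 14823) (nat_lit 5350) Col.a (nat_lit 5855) Dv.df))
(Tr.lf (Fc.ed (nat_lit 14824) (nat_lit 5855) Col.f (nat_lit 4793) (Dv.wd (nat_lit 10) [Mv.f (nat_lit 12547), Mv.b (nat_lit 13761), Mv.f (nat_lit 14823)])))))))))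
(Tr.nd (nat_lit 14845) (Tr.nd (nat_lit 14835) (Tr.nd (nat_lit 14830) (Tr.nd (nat_lit 14827) (Tr.nd (nat_lit 14826) (Tr.lf (Fc.ed (nat_lit 14825) (nat_lit 5469) Col.c (nat_lit 5856) Dv.df))
(Tr.lf (Fc.ed (nat_lit 14826) (nat_lit 3203) Col.gi (nat_lit 5857) Dv.df)))
(Tr.nd (nat_lit 14828) (Tr.lf (Fc.ed (nat_lit 14827) (nat_lit 3948) Col.d (nat_lit 5858) Dv.df))
(Tr.nd (nat_lit 14829) (Tr.lf (Fc.ed (nat_lit 14828) (nat_lit 5858) Col.a (nat_lit 4613) (Dv.wd (nat_lit 8) [Mv.f (nat_lit 12342), Mv.f (nat_lit 9721), Mv.f (nat_lit 14827)])))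
(Tr.lf (Fc.ed (nat_lit 14829) (nat_lit 5858) Col.f (nat_lit 5427) (Dv.wd (nat_lit 11) [Mv.b (nat_lit 13912), Mv.b (nat_lit 9722), Mv.f (nat_lit 14827)]))))))
(Tr.nd (nat_lit 14832) (Tr.nd (nat_lit 14831) (Tr.lf (Fc.ed (nat_lit 14830) (nat_lit 5632) Col.e (nat_lit 5858) (Dv.wd (nat_lit 72) [Mv.f (nat_lit 14828), Mv.b (nat_lit 11706), Mv.b (nat_lit 14344)])))
(Tr.lf (Fc.ed (nat_lit 14831) (nat_lit 5242) Col.gi (nat_lit 5859) Dv.df)))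
(Tr.nd (nat_lit 14833) (Tr.lf (Fc.ed (nat_lit 14832) (nat_lit 1203) Col.c (nat_lit 5860) Dv.df))
(Tr.nd (nat_lit 14834) (Tr.lf (Fc.ed (nat_lit 14833) (nat_lit 5860) Col.gi (nat_lit 5779) (Dv.wd (nat_lit 88) [Mv.b (nat_lit 14686), Mv.f (nat_lit 10481), Mv.b (nat_lit 8839), Mv.b (nat_lit 4998), Mv.b (nat_lit 3711), Mv.b (nat_lit 3713), Mv.f (nat_lit 3290), Mv.b (nat_lit 3042), Mv.b (nat_lit 3705), Mv.f (nat_lit 14832)])))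
(Tr.lf (Fc.ed (nat_lit 14834) (nat_lit 4691) Col.g (nat_lit 3818) (Dv.wd (nat_lit 139) [Mv.f (nat_lit 14686), Mv.b (nat_lit 14833), Mv.b (nat_lit 14832), Mv.b (nat_lit 3704), Mv.b (nat_lit 3095), Mv.b (nat_lit 5495), Mv.b (nat_lit 6507), Mv.f (nat_lit 12327), Mv.f (nat_lit 11853)])))))))
(Tr.nd (nat_lit 14840) (Tr.nd (nat_lit 14837) (Tr.nd (nat_lit 14836) (Tr.lf (Fc.ed (nat_lit 14835) (nat_lit 5237) Col.g (nat_lit 4691) (Dv.wd (nat_lit 17) [Mv.f (nat_lit 14834), Mv.b (nat_lit 10083), Mv.b (nat_lit 13503)])))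
(Tr.lf (Fc.ed (nat_lit 14836) (nat_lit 2452) Col.d (nat_lit 3857) (Dv.wd (nat_lit 113) [Mv.f (nat_lit 9528), Mv.f (nat_lit 6224), Mv.b (nat_lit 12198), Mv.b (nat_lit 9195), Mv.f (nat_lit 10768), Mv.f (nat_lit 11853), Mv.f (nat_lit 14834), Mv.b (nat_lit 9462), Mv.f (nat_lit 10080)]))))
(Tr.nd (nat_lit 14838) (Tr.lf (Fc.ed (nat_lit 14837) (nat_lit 4857) Col.g (nat_lit 5237) (Dv.wd (nat_lit 17) [Mv.f (nat_lit 14835), Mv.b (nat_lit 12312), Mv.b (nat_lit 12675)])))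
(Tr.nd (nat_lit 14839) (Tr.lf (Fc.ed (nat_lit 14838) (nat_lit 3818) Col.g (nat_lit 4857) (Dv.wd (nat_lit 17) [Mv.f (nat_lit 14837), Mv.b (nat_lit 13501), Mv.b (nat_lit 13450)])))
(Tr.lf (Fc.ed (nat_lit 14839) (nat_lit 2794) Col.d (nat_lit 3873) (Dv.wd (nat_lit 113) [Mv.b (nat_lit 9553), Mv.f (nat_lit 6318), Mv.b (nat_lit 5495), Mv.b (nat_lit 6507), Mv.b (nat_lit 12210), Mv.f (nat_lit 12674), Mv.f (nat_lit 14837), Mv.f (nat_lit 13502), Mv.b (nat_lit 8173)]))))))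
(Tr.nd (nat_lit 14842) (Tr.nd (nat_lit 14841) (Tr.lf (Fc.ed (nat_lit 14840) (nat_lit 2764) Col.d (nat_lit 2341) (Dv.wd (nat_lit 48) [Mv.b (nat_lit 6390), Mv.b (nat_lit 4173), Mv.f (nat_lit 7393), Mv.f (nat_lit 14839), Mv.f (nat_lit 9554), Mv.f (nat_lit 6224), Mv.f (nat_lit 3417), Mv.f (nat_lit 5257), Mv.f (nat_lit 7323)])))
(Tr.lf (Fc.ed (nat_lit 14841) (nat_lit 2655) Col.d (nat_lit 5437) (Dv.wd (nat_lit 58) [Mv.b (nat_lit 13977), Mv.f (nat_lit 14840), Mv.f (nat_lit 7085)]))))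
(Tr.nd (nat_lit 14843) (Tr.lf (Fc.ed (nat_lit 14842) (nat_lit 5316) Col.b (nat_lit 5340) (Dv.wd (nat_lit 177) [Mv.b (nat_lit 13744), Mv.f (nat_lit 14840), Mv.b (nat_lit 6390), Mv.f (nat_lit 4009), Mv.f (nat_lit 1325), Mv.b (nat_lit 1479), Mv.b (nat_lit 287), Mv.f (nat_lit 157), Mv.f (nat_lit 38), Mv.f (nat_lit 315), Mv.b (nat_lit 322), Mv.b (nat_lit 562), Mv.b (nat_lit 2311), Mv.b (nat_lit 3655), Mv.f (nat_lit 3657), Mv.b (nat_lit 5312), Mv.b (nat_lit 13048), Mv.f (nat_lit 13255), Mv.b (nat_lit 13702)])))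
(Tr.nd (nat_lit 14844) (Tr.lf (Fc.ed (nat_lit 14843) (nat_lit 5340) Col.f (nat_lit 5216) (Dv.wd (nat_lit 20) [Mv.b (nat_lit 13459), Mv.b (nat_lit 13701), Mv.f (nat_lit 14842)])))
(Tr.lf (Fc.ed (nat_lit 14844) (nat_lit 5545) Col.b (nat_lit 5347) (Dv.wd (nat_lit 136) [Mv.b (nat_lit 13755), Mv.f (nat_lit 14842), Mv.b (nat_lit 13744), Mv.f (nat_lit 13977), Mv.f (nat_lit 14174)]))))))))
(Tr.nd (nat_lit 14855) (Tr.nd (nat_lit 14850) (Tr.nd (nat_lit 14847) (Tr.nd (nat_lit 14846) (Tr.lf (Fc.ed (nat_lit 14845) (nat_lit 4307) Col.b (nat_lit 5735) (Dv.wd (nat_lit 168) [Mv.b (nat_lit 14579), Mv.f (nat_lit 9848), Mv.b (nat_lit 14186), Mv.b (nat_lit 14185), Mv.f (nat_lit 14844), Mv.b (nat_lit 13755), Mv.b (nat_lit 13703), Mv.b (nat_lit 12709), Mv.b (nat_lit 11555), Mv.f (nat_lit 11074)])))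
(Tr.lf (Fc.ed (nat_lit 14846) (nat_lit 5735) Col.f (nat_lit 5475) (Dv.wd (nat_lit 20) [Mv.b (nat_lit 14047), Mv.b (nat_lit 11076), Mv.f (nat_lit 14845)]))))
(Tr.nd (nat_lit 14848) (Tr.lf (Fc.ed (nat_lit 14847) (nat_lit 4025) Col.d (nat_lit 3045) (Dv.wd (nat_lit 149) [Mv.b (nat_lit 10074), Mv.b (nat_lit 4849), Mv.f (nat_lit 2192), Mv.b (nat_lit 1942), Mv.b (nat_lit 1912), Mv.b (nat_lit 721), Mv.b (nat_lit 79), Mv.f (nat_lit 44), Mv.f (nat_lit 51), Mv.f (nat_lit 1233), Mv.f (nat_lit 451), Mv.f (nat_lit 475), Mv.b (nat_lit 582), Mv.b (nat_lit 2950), Mv.f (nat_lit 5631), Mv.b (nat_lit 10571), Mv.f (nat_lit 11074), Mv.f (nat_lit 14845), Mv.b (nat_lit 14579)])))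
(Tr.nd (nat_lit 14849) (Tr.lf (Fc.ed (nat_lit 14848) (nat_lit 5466) Col.d (nat_lit 4265) (Dv.wd (nat_lit 90) [Mv.b (nat_lit 10975), Mv.f (nat_lit 14841), Mv.f (nat_lit 14032)])))
(Tr.lf (Fc.ed (nat_lit 14849) (nat_lit 4999) Col.g (nat_lit 5861) Dv.df)))))
(Tr.nd (nat_lit 14852) (Tr.nd (nat_lit 14851) (Tr.lf (Fc.ed (nat_lit 14850) (nat_lit 5529) Col.gi (nat_lit 5862) Dv.df))
(Tr.lf (Fc.ed (nat_lit 14851) (nat_lit 5862) Col.gi (nat_lit 3708) (Dv.wd (nat_lit 24) [Mv.b (nat_lit 9299), Mv.b (nat_lit 14142), Mv.f (nat_lit 14850)]))))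
(Tr.nd (nat_lit 14853) (Tr.lf (Fc.ed (nat_lit 14852) (nat_lit 5824) Col.e (nat_lit 5863) Dv.df))
(Tr.nd (nat_lit 14854) (Tr.lf (Fc.ed (nat_lit 14853) (nat_lit 5863) Col.b (nat_lit 5300) (Dv.wd (nat_lit 49) [Mv.f (nat_lit 13953), Mv.f (nat_lit 14773), Mv.f (nat_lit 14852)])))
(Tr.lf (Fc.ed (nat_lit 14854) (nat_lit 5309) Col.a (nat_lit 5864) Dv.df))))))
(Tr.nd (nat_lit 14860) (Tr.nd (nat_lit 14857) (Tr.nd (nat_lit 14856) (Tr.lf (Fc.ed (nat_lit 14855) (nat_lit 5864) Col.e (nat_lit 2512) (Dv.wd (nat_lit 56) [Mv.f (nat_lit 12445), Mv.f (nat_lit 13667), Mv.f (nat_lit 14854)])))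
(Tr.lf (Fc.ed (nat_lit 14856) (nat_lit 5249) Col.b (nat_lit 5864) (Dv.wd (nat_lit 127) [Mv.f (nat_lit 14855), Mv.f (nat_lit 6763), Mv.f (nat_lit 13528)]))))
(Tr.nd (nat_lit 14858) (Tr.lf (Fc.ed (nat_lit 14857) (nat_lit 5642) Col.gi (nat_lit 5865) Dv.df))
(Tr.nd (nat_lit 14859) (Tr.lf (Fc.ed (nat_lit 14858) (nat_lit 5865) Col.gi (nat_lit 3516) (Dv.wd (nat_lit 24) [Mv.b (nat_lit 9089), Mv.f (nat_lit 14362), Mv.f (nat_lit 14857)])))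
(Tr.lf (Fc.ed (nat_lit 14859) (nat_lit 5792) Col.f (nat_lit 5866) Dv.df)))))
(Tr.nd (nat_lit 14863) (Tr.nd (nat_lit 14861) (Tr.lf (Fc.ed (nat_lit 14860) (nat_lit 5866) Col.a (nat_lit 5848) (Dv.wd (nat_lit 23) [Mv.f (nat_lit 14808), Mv.f (nat_lit 14713), Mv.f (nat_lit 14859)])))
(Tr.nd (nat_lit 14862) (Tr.lf (Fc.ed (nat_lit 14861) (nat_lit 2907) Col.c (nat_lit 5866) (Dv.wd (nat_lit 134) [Mv.f (nat_lit 14860), Mv.b (nat_lit 14807), Mv.b (nat_lit 10085)])))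
(Tr.lf (Fc.ed (nat_lit 14862) (nat_lit 5792) Col.c (nat_lit 3215) (Dv.wd (nat_lit 67) [Mv.f (nat_lit 10086), Mv.f (nat_lit 14861), Mv.b (nat_lit 14859)])))))
(Tr.nd (nat_lit 14864) (Tr.lf (Fc.ed (nat_lit 14863) (nat_lit 5804) Col.gi (nat_lit 5867) Dv.df))
(Tr.nd (nat_lit 14865) (Tr.lf (Fc.ed (nat_lit 14864) (nat_lit 5867) Col.f (nat_lit 5690) (Dv.wd (nat_lit 13) [Mv.f (nat_lit 14735), Mv.f (nat_lit 14740), Mv.f (nat_lit 14863)])))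
(Tr.lf (Fc.ed (nat_lit 14865) (nat_lit 5655) Col.a (nat_lit 5867) (Dv.wd (nat_lit 79) [Mv.f (nat_lit 14864), Mv.f (nat_lit 14735), Mv.f (nat_lit 14734)]))))))))))
(Tr.nd (nat_lit 14907) (Tr.nd (nat_lit 14886) (Tr.nd (nat_lit 14876) (Tr.nd (nat_lit 14871) (Tr.nd (nat_lit 14868) (Tr.nd (nat_lit 14867) (Tr.lf (Fc.ed (nat_lit 14866) (nat_lit 5089) Col.c (nat_lit 5867) (Dv.wd (nat_lit 67) [Mv.f (nat_lit 14864), Mv.f (nat_lit 14681), Mv.f (nat_lit 14326)])))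
(Tr.lf (Fc.ed (nat_lit 14867) (nat_lit 5552) Col.d (nat_lit 5868) Dv.df)))
(Tr.nd (nat_lit 14869) (Tr.lf (Fc.ed (nat_lit 14868) (nat_lit 5562) Col.g (nat_lit 5869) Dv.df))
(Tr.nd (nat_lit 14870) (Tr.lf (Fc.ed (nat_lit 14869) (nat_lit 4472) Col.c (nat_lit 5870) Dv.df))
(Tr.lf (Fc.ed (nat_lit 14870) (nat_lit 1821) Col.e (nat_lit 5871) Dv.df)))))
(Tr.nd (nat_lit 14873) (Tr.nd (nat_lit 14872) (Tr.lf (Fc.ed (nat_lit 14871) (nat_lit 5871) Col.d (nat_lit 5864) (Dv.wd (nat_lit 59) [Mv.f (nat_lit 14855), Mv.f (nat_lit 12114), Mv.b (nat_lit 12440), Mv.f (nat_lit 10154), Mv.f (nat_lit 14870)])))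
(Tr.lf (Fc.ed (nat_lit 14872) (nat_lit 5269) Col.c (nat_lit 5872) Dv.df)))
(Tr.nd (nat_lit 14874) (Tr.lf (Fc.ed (nat_lit 14873) (nat_lit 3838) Col.d (nat_lit 5873) Dv.df))
(Tr.nd (nat_lit 14875) (Tr.lf (Fc.ed (nat_lit 14874) (nat_lit 5868) Col.c (nat_lit 5874) Dv.df))
(Tr.lf (Fc.ed (nat_lit 14875) (nat_lit 5874) Col.d (nat_lit 5833) (Dv.wd (nat_lit 44) [Mv.b (nat_lit 14785), Mv.f (nat_lit 8671), Mv.f (nat_lit 5548), Mv.b (nat_lit 8671), Mv.f (nat_lit 8672), Mv.f (nat_lit 8598), Mv.b (nat_lit 14186), Mv.f (nat_lit 14867), Mv.f (nat_lit 14874)])))))))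
(Tr.nd (nat_lit 14881) (Tr.nd (nat_lit 14878) (Tr.nd (nat_lit 14877) (Tr.lf (Fc.ed (nat_lit 14876) (nat_lit 5784) Col.a (nat_lit 5875) Dv.df))
(Tr.lf (Fc.ed (nat_lit 14877) (nat_lit 5875) Col.c (nat_lit 4841) (Dv.wd (nat_lit 33) [Mv.b (nat_lit 12635), Mv.f (nat_lit 14693), Mv.f (nat_lit 14876)]))))
(Tr.nd (nat_lit 14879) (Tr.lf (Fc.ed (nat_lit 14878) (nat_lit 5097) Col.f (nat_lit 5876) Dv.df))
(Tr.nd (nat_lit 14880) (Tr.lf (Fc.ed (nat_lit 14879) (nat_lit 5876) Col.b (nat_lit 4934) (Dv.wd (nat_lit 66) [Mv.f (nat_lit 12827), Mv.f (nat_lit 13204), Mv.f (nat_lit 14878)])))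
(Tr.lf (Fc.ed (nat_lit 14880) (nat_lit 5876) Col.d (nat_lit 3161) (Dv.wd (nat_lit 21) [Mv.b (nat_lit 8412), Mv.b (nat_lit 13205), Mv.f (nat_lit 14878)]))))))
(Tr.nd (nat_lit 14883) (Tr.nd (nat_lit 14882) (Tr.lf (Fc.ed (nat_lit 14881) (nat_lit 5344) Col.d (nat_lit 5877) Dv.df))
(Tr.lf (Fc.ed (nat_lit 14882) (nat_lit 5877) Col.a (nat_lit 5876) (Dv.wd (nat_lit 8) [Mv.f (nat_lit 14880), Mv.f (nat_lit 13749), Mv.f (nat_lit 14881)]))))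
(Tr.nd (nat_lit 14884) (Tr.lf (Fc.ed (nat_lit 14883) (nat_lit 5841) Col.d (nat_lit 5878) Dv.df))
(Tr.nd (nat_lit 14885) (Tr.lf (Fc.ed (nat_lit 14884) (nat_lit 5878) Col.c (nat_lit 3745) (Dv.wd (nat_lit 80) [Mv.f (nat_lit 10190), Mv.f (nat_lit 9774), Mv.b (nat_lit 10218), Mv.b (nat_lit 9629), Mv.f (nat_lit 12852), Mv.f (nat_lit 12854), Mv.f (nat_lit 13628), Mv.f (nat_lit 14796), Mv.f (nat_lit 14883)])))
(Tr.lf (Fc.ed (nat_lit 14885) (nat_lit 5322) Col.a (nat_lit 5879) Dv.df)))))))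
(Tr.nd (nat_lit 14896) (Tr.nd (nat_lit 14891) (Tr.nd (nat_lit 14888) (Tr.nd (nat_lit 14887) (Tr.lf (Fc.ed (nat_lit 14886) (nat_lit 5879) Col.d (nat_lit 2368) (Dv.wd (nat_lit 28) [Mv.f (nat_lit 6451), Mv.b (nat_lit 13711), Mv.f (nat_lit 14885)])))
(Tr.lf (Fc.ed (nat_lit 14887) (nat_lit 4909) Col.c (nat_lit 5880) Dv.df)))
(Tr.nd (nat_lit 14889) (Tr.lf (Fc.ed (nat_lit 14888) (nat_lit 5845) Col.f (nat_lit 5881) Dv.df))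
(Tr.nd (nat_lit 14890) (Tr.lf (Fc.ed (nat_lit 14889) (nat_lit 5614) Col.g (nat_lit 5882) Dv.df))
(Tr.lf (Fc.ed (nat_lit 14890) (nat_lit 5429) Col.gi (nat_lit 5883) Dv.df)))))
(Tr.nd (nat_lit 14893) (Tr.nd (nat_lit 14892) (Tr.lf (Fc.ed (nat_lit 14891) (nat_lit 4905) Col.g (nat_lit 5884) Dv.df))
(Tr.lf (Fc.ed (nat_lit 14892) (nat_lit 5884) Col.g (nat_lit 3161) (Dv.wd (nat_lit 9) [Mv.f (nat_lit 13749), Mv.f (nat_lit 13751), Mv.f (nat_lit 14891)]))))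
(Tr.nd (nat_lit 14894) (Tr.lf (Fc.ed (nat_lit 14893) (nat_lit 5808) Col.c (nat_lit 5885) Dv.df))
(Tr.nd (nat_lit 14895) (Tr.lf (Fc.ed (nat_lit 14894) (nat_lit 5885) Col.e (nat_lit 1933) (Dv.wd (nat_lit 25) [Mv.b (nat_lit 6709), Mv.f (nat_lit 14747), Mv.f (nat_lit 14893)])))
(Tr.lf (Fc.ed (nat_lit 14895) (nat_lit 4310) Col.f (nat_lit 5886) Dv.df))))))
(Tr.nd (nat_lit 14901) (Tr.nd (nat_lit 14898) (Tr.nd (nat_lit 14897) (Tr.lf (Fc.ed (nat_lit 14896) (nat_lit 5728) Col.gi (nat_lit 5887) Dv.df))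
(Tr.lf (Fc.ed (nat_lit 14897) (nat_lit 5887) Col.gi (nat_lit 3031) (Dv.wd (nat_lit 24) [Mv.b (nat_lit 11597), Mv.f (nat_lit 14568), Mv.f (nat_lit 14896)]))))
(Tr.nd (nat_lit 14899) (Tr.lf (Fc.ed (nat_lit 14898) (nat_lit 3889) Col.g (nat_lit 5888) Dv.df))
(Tr.nd (nat_lit 14900) (Tr.lf (Fc.ed (nat_lit 14899) (nat_lit 5888) Col.g (nat_lit 3291) (Dv.wd (nat_lit 9) [Mv.f (nat_lit 14210), Mv.f (nat_lit 14213), Mv.f (nat_lit 14898)])))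
(Tr.lf (Fc.ed (nat_lit 14900) (nat_lit 4941) Col.g (nat_lit 5889) Dv.df)))))
(Tr.nd (nat_lit 14904) (Tr.nd (nat_lit 14902) (Tr.lf (Fc.ed (nat_lit 14901) (nat_lit 5889) Col.g (nat_lit 4930) (Dv.wd (nat_lit 9) [Mv.f (nat_lit 13295), Mv.f (nat_lit 13297), Mv.f (nat_lit 14900)])))
(Tr.nd (nat_lit 14903) (Tr.lf (Fc.ed (nat_lit 14902) (nat_lit 5889) Col.d (nat_lit 5834) (Dv.wd (nat_lit 39) [Mv.b (nat_lit 14786), Mv.b (nat_lit 8922), Mv.f (nat_lit 8659), Mv.b (nat_lit 9361), Mv.b (nat_lit 9733), Mv.b (nat_lit 12576), Mv.b (nat_lit 12575), Mv.f (nat_lit 12562), Mv.b (nat_lit 12842), Mv.f (nat_lit 14900)])))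
(Tr.lf (Fc.ed (nat_lit 14903) (nat_lit 3531) Col.gi (nat_lit 1600) (Dv.wd (nat_lit 132) [Mv.f (nat_lit 4709), Mv.f (nat_lit 3248), Mv.b (nat_lit 3256), Mv.f (nat_lit 3255), Mv.b (nat_lit 3493), Mv.b (nat_lit 6387), Mv.f (nat_lit 12817), Mv.b (nat_lit 14901), Mv.f (nat_lit 14902), Mv.b (nat_lit 14786)])))))
(Tr.nd (nat_lit 14905) (Tr.lf (Fc.ed (nat_lit 14904) (nat_lit 5414) Col.c (nat_lit 5890) Dv.df))
(Tr.nd (nat_lit 14906) (Tr.lf (Fc.ed (nat_lit 14905) (nat_lit 5543) Col.c (nat_lit 5891) Dv.df))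
(Tr.lf (Fc.ed (nat_lit 14906) (nat_lit 4463) Col.g (nat_lit 5892) Dv.df))))))))
(Tr.nd (nat_lit 14927) (Tr.nd (nat_lit 14917) (Tr.nd (nat_lit 14912) (Tr.nd (nat_lit 14909) (Tr.nd (nat_lit 14908) (Tr.lf (Fc.ed (nat_lit 14907) (nat_lit 5892) Col.g (nat_lit 2444) (Dv.wd (nat_lit 9) [Mv.f (nat_lit 11525), Mv.f (nat_lit 11526), Mv.f (nat_lit 14906)])))
(Tr.lf (Fc.ed (nat_lit 14908) (nat_lit 3143) Col.e (nat_lit 5893) Dv.df)))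
(Tr.nd (nat_lit 14910) (Tr.lf (Fc.ed (nat_lit 14909) (nat_lit 3789) Col.d (nat_lit 5894) Dv.df))
(Tr.nd (nat_lit 14911) (Tr.lf (Fc.ed (nat_lit 14910) (nat_lit 5894) Col.g (nat_lit 5879) (Dv.wd (nat_lit 69) [Mv.f (nat_lit 14886), Mv.b (nat_lit 6450), Mv.b (nat_lit 12122), Mv.b (nat_lit 3916), Mv.b (nat_lit 2144), Mv.f (nat_lit 2429), Mv.f (nat_lit 12947), Mv.f (nat_lit 9409), Mv.f (nat_lit 14909)])))
(Tr.lf (Fc.ed (nat_lit 14911) (nat_lit 3789) Col.e (nat_lit 3789) (Dv.wd (nat_lit 47) [Mv.f (nat_lit 14909), Mv.f (nat_lit 14910), Mv.f (nat_lit 14886), Mv.f (nat_lit 6452), Mv.b (nat_lit 12549), Mv.f (nat_lit 13108), Mv.f (nat_lit 13710), Mv.f (nat_lit 13711), Mv.b (nat_lit 6248), Mv.f (nat_lit 9409)]))))))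
(Tr.nd (nat_lit 14914) (Tr.nd (nat_lit 14913) (Tr.lf (Fc.ed (nat_lit 14912) (nat_lit 5445) Col.e (nat_lit 5445) (Dv.wd (nat_lit 56) [Mv.b (nat_lit 13992), Mv.f (nat_lit 14911), Mv.f (nat_lit 13992)])))
(Tr.lf (Fc.ed (nat_lit 14913) (nat_lit 5173) Col.e (nat_lit 5173) (Dv.wd (nat_lit 25) [Mv.f (nat_lit 13994), Mv.f (nat_lit 14912), Mv.b (nat_lit 13994)]))))
(Tr.nd (nat_lit 14915) (Tr.lf (Fc.al (nat_lit 14914) (nat_lit 3936) (nat_lit 2723) (Dv.wd (nat_lit 127) [Mv.b (nat_lit 13358), Mv.f (nat_lit 14913), Mv.f (nat_lit 13358), Mv.f (nat_lit 9700)])))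
(Tr.nd (nat_lit 14916) (Tr.lf (Fc.al (nat_lit 14915) (nat_lit 2327) (nat_lit 5630) (Dv.wd (nat_lit 29) [Mv.f (nat_lit 14339), Mv.f (nat_lit 14914), Mv.b (nat_lit 7234)])))
(Tr.lf (Fc.ed (nat_lit 14916) (nat_lit 2723) Col.e (nat_lit 2723) (Dv.wd (nat_lit 117) [Mv.f (nat_lit 9700), Mv.f (nat_lit 14914)])))))))
(Tr.nd (nat_lit 14922) (Tr.nd (nat_lit 14919) (Tr.nd (nat_lit 14918) (Tr.lf (Fc.ed (nat_lit 14917) (nat_lit 2327) Col.e (nat_lit 2327) (Dv.wd (nat_lit 117) [Mv.f (nat_lit 14338), Mv.b (nat_lit 14915)])))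
(Tr.lf (Fc.ed (nat_lit 14918) (nat_lit 5884) Col.c (nat_lit 5895) Dv.df)))
(Tr.nd (nat_lit 14920) (Tr.lf (Fc.ed (nat_lit 14919) (nat_lit 5895) Col.b (nat_lit 4749) (Dv.wd (nat_lit 101) [Mv.f (nat_lit 12466), Mv.f (nat_lit 7548), Mv.b (nat_lit 3034), Mv.f (nat_lit 2985), Mv.f (nat_lit 3456), Mv.f (nat_lit 3765), Mv.f (nat_lit 6856), Mv.b (nat_lit 8178), Mv.b (nat_lit 14892), Mv.f (nat_lit 14918)])))
(Tr.nd (nat_lit 14921) (Tr.lf (Fc.ed (nat_lit 14920) (nat_lit 4058) Col.gi (nat_lit 5896) Dv.df))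
(Tr.lf (Fc.ed (nat_lit 14921) (nat_lit 5896) Col.gi (nat_lit 4985) (Dv.wd (nat_lit 24) [Mv.b (nat_lit 12974), Mv.f (nat_lit 12972), Mv.f (nat_lit 14920)]))))))
(Tr.nd (nat_lit 14924) (Tr.nd (nat_lit 14923) (Tr.lf (Fc.ed (nat_lit 14922) (nat_lit 3876) Col.b (nat_lit 5897) Dv.df))
(Tr.lf (Fc.ed (nat_lit 14923) (nat_lit 4764) Col.c (nat_lit 5898) Dv.df)))
(Tr.nd (nat_lit 14925) (Tr.lf (Fc.ed (nat_lit 14924) (nat_lit 2775) Col.e (nat_lit 5899) Dv.df))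
(Tr.nd (nat_lit 14926) (Tr.lf (Fc.ed (nat_lit 14925) (nat_lit 5051) Col.c (nat_lit 5900) Dv.df))
(Tr.lf (Fc.ed (nat_lit 14926) (nat_lit 5271) Col.d (nat_lit 5901) Dv.df)))))))
(Tr.nd (nat_lit 14937) (Tr.nd (nat_lit 14932) (Tr.nd (nat_lit 14929) (Tr.nd (nat_lit 14928) (Tr.lf (Fc.ed (nat_lit 14927) (nat_lit 5901) Col.b (nat_lit 2829) (Dv.wd (nat_lit 37) [Mv.f (nat_lit 7508), Mv.f (nat_lit 13573), Mv.f (nat_lit 14926)])))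
(Tr.lf (Fc.ed (nat_lit 14928) (nat_lit 3646) Col.a (nat_lit 5902) Dv.df)))
(Tr.nd (nat_lit 14930) (Tr.lf (Fc.ed (nat_lit 14929) (nat_lit 5902) Col.f (nat_lit 4179) (Dv.wd (nat_lit 35) [Mv.f (nat_lit 11271), Mv.f (nat_lit 11272), Mv.f (nat_lit 14928)])))
(Tr.nd (nat_lit 14931) (Tr.lf (Fc.ed (nat_lit 14930) (nat_lit 4791) Col.g (nat_lit 5903) Dv.df))
(Tr.lf (Fc.ed (nat_lit 14931) (nat_lit 5903) Col.g (nat_lit 3749) (Dv.wd (nat_lit 9) [Mv.f (nat_lit 10064), Mv.f (nat_lit 12542), Mv.f (nat_lit 14930)]))))))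
(Tr.nd (nat_lit 14934) (Tr.nd (nat_lit 14933) (Tr.lf (Fc.ed (nat_lit 14932) (nat_lit 3419) Col.g (nat_lit 5904) Dv.df))
(Tr.lf (Fc.ed (nat_lit 14933) (nat_lit 5904) Col.g (nat_lit 3337) (Dv.wd (nat_lit 9) [Mv.f (nat_lit 13404), Mv.f (nat_lit 13405), Mv.f (nat_lit 14932)]))))
(Tr.nd (nat_lit 14935) (Tr.lf (Fc.ed (nat_lit 14934) (nat_lit 4606) Col.e (nat_lit 5905) Dv.df))
(Tr.nd (nat_lit 14936) (Tr.lf (Fc.ed (nat_lit 14935) (nat_lit 5905) Col.c (nat_lit 5066) (Dv.wd (nat_lit 18) [Mv.f (nat_lit 13143), Mv.b (nat_lit 12628), Mv.f (nat_lit 14934)])))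
(Tr.lf (Fc.ed (nat_lit 14936) (nat_lit 5905) Col.d (nat_lit 5703) (Dv.wd (nat_lit 91) [Mv.f (nat_lit 14468), Mv.f (nat_lit 8901), Mv.b (nat_lit 3640), Mv.b (nat_lit 5976), Mv.b (nat_lit 10464), Mv.f (nat_lit 10466), Mv.b (nat_lit 5398), Mv.b (nat_lit 8662), Mv.b (nat_lit 11694), Mv.f (nat_lit 14934)])))))))
(Tr.nd (nat_lit 14942) (Tr.nd (nat_lit 14939) (Tr.nd (nat_lit 14938) (Tr.lf (Fc.ed (nat_lit 14937) (nat_lit 5677) Col.c (nat_lit 5906) Dv.df))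
(Tr.lf (Fc.ed (nat_lit 14938) (nat_lit 5477) Col.a (nat_lit 5907) Dv.df)))
(Tr.nd (nat_lit 14940) (Tr.lf (Fc.ed (nat_lit 14939) (nat_lit 5907) Col.d (nat_lit 5151) (Dv.wd (nat_lit 28) [Mv.b (nat_lit 14522), Mv.f (nat_lit 14050), Mv.f (nat_lit 14938)])))
(Tr.nd (nat_lit 14941) (Tr.lf (Fc.ed (nat_lit 14940) (nat_lit 5907) Col.f (nat_lit 4272) (Dv.wd (nat_lit 35) [Mv.b (nat_lit 14515), Mv.f (nat_lit 14517), Mv.f (nat_lit 14938)])))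
(Tr.lf (Fc.ed (nat_lit 14941) (nat_lit 5907) Col.gi (nat_lit 5744) (Dv.wd (nat_lit 12) [Mv.b (nat_lit 14595), Mv.f (nat_lit 14517), Mv.f (nat_lit 14938)]))))))
(Tr.nd (nat_lit 14945) (Tr.nd (nat_lit 14943) (Tr.lf (Fc.ed (nat_lit 14942) (nat_lit 5166) Col.b (nat_lit 5907) (Dv.wd (nat_lit 107) [Mv.f (nat_lit 14940), Mv.f (nat_lit 14526), Mv.b (nat_lit 13344)])))
(Tr.nd (nat_lit 14944) (Tr.lf (Fc.ed (nat_lit 14943) (nat_lit 4784) Col.d (nat_lit 5908) Dv.df))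
(Tr.lf (Fc.ed (nat_lit 14944) (nat_lit 5908) Col.a (nat_lit 4815) (Dv.wd (nat_lit 8) [Mv.b (nat_lit 12589), Mv.b (nat_lit 12530), Mv.f (nat_lit 14943)])))))
(Tr.nd (nat_lit 14946) (Tr.lf (Fc.ed (nat_lit 14945) (nat_lit 5382) Col.c (nat_lit 5909) Dv.df))
(Tr.nd (nat_lit 14947) (Tr.lf (Fc.ed (nat_lit 14946) (nat_lit 5909) Col.f (nat_lit 5763) (Dv.wd (nat_lit 26) [Mv.f (nat_lit 14632), Mv.f (nat_lit 13920), Mv.f (nat_lit 14945)])))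
(Tr.lf (Fc.ed (nat_lit 14947) (nat_lit 2021) Col.c (nat_lit 5910) Dv.df))))))))))
(Tr.nd (nat_lit 15030) (Tr.nd (nat_lit 14989) (Tr.nd (nat_lit 14968) (Tr.nd (nat_lit 14958) (Tr.nd (nat_lit 14953) (Tr.nd (nat_lit 14950) (Tr.nd (nat_lit 14949) (Tr.lf (Fc.ed (nat_lit 14948) (nat_lit 5910) Col.g (nat_lit 5867) (Dv.wd (nat_lit 77) [Mv.b (nat_lit 14866), Mv.b (nat_lit 13185), Mv.b (nat_lit 9842), Mv.f (nat_lit 5102), Mv.b (nat_lit 3095), Mv.b (nat_lit 5495), Mv.b (nat_lit 13662), Mv.b (nat_lit 13661), Mv.f (nat_lit 14947)])))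
(Tr.lf (Fc.ed (nat_lit 14949) (nat_lit 5803) Col.g (nat_lit 5910) (Dv.wd (nat_lit 17) [Mv.f (nat_lit 14948), Mv.b (nat_lit 14865), Mv.b (nat_lit 14734)]))))
(Tr.nd (nat_lit 14951) (Tr.lf (Fc.ed (nat_lit 14950) (nat_lit 5565) Col.c (nat_lit 5803) (Dv.wd (nat_lit 135) [Mv.f (nat_lit 14949), Mv.b (nat_lit 14947), Mv.b (nat_lit 5621), Mv.f (nat_lit 3237), Mv.b (nat_lit 3766), Mv.b (nat_lit 3765), Mv.b (nat_lit 3456), Mv.f (nat_lit 5226), Mv.f (nat_lit 8172), Mv.f (nat_lit 14209)])))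
(Tr.nd (nat_lit 14952) (Tr.lf (Fc.ed (nat_lit 14951) (nat_lit 5565) Col.gi (nat_lit 5447) (Dv.wd (nat_lit 141) [Mv.b (nat_lit 13996), Mv.b (nat_lit 10707), Mv.b (nat_lit 8437), Mv.f (nat_lit 8307), Mv.f (nat_lit 3861), Mv.b (nat_lit 5622), Mv.f (nat_lit 14947), Mv.b (nat_lit 14949), Mv.b (nat_lit 14950)])))
(Tr.lf (Fc.ed (nat_lit 14952) (nat_lit 5243) Col.gi (nat_lit 5565) (Dv.wd (nat_lit 12) [Mv.f (nat_lit 14951), Mv.b (nat_lit 14128), Mv.b (nat_lit 13670)]))))))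
(Tr.nd (nat_lit 14955) (Tr.nd (nat_lit 14954) (Tr.lf (Fc.ed (nat_lit 14953) (nat_lit 5565) Col.d (nat_lit 3146) (Dv.wd (nat_lit 48) [Mv.f (nat_lit 9827), Mv.b (nat_lit 12219), Mv.b (nat_lit 9801), Mv.b (nat_lit 11751), Mv.f (nat_lit 13859), Mv.f (nat_lit 13663), Mv.f (nat_lit 8465), Mv.f (nat_lit 13516), Mv.f (nat_lit 14952)])))
(Tr.lf (Fc.ed (nat_lit 14954) (nat_lit 3169) Col.d (nat_lit 3158) (Dv.wd (nat_lit 58) [Mv.f (nat_lit 14209), Mv.f (nat_lit 14953), Mv.f (nat_lit 8196)]))))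
(Tr.nd (nat_lit 14956) (Tr.lf (Fc.ed (nat_lit 14955) (nat_lit 2596) Col.c (nat_lit 5804) (Dv.wd (nat_lit 138) [Mv.b (nat_lit 14740), Mv.b (nat_lit 14950), Mv.f (nat_lit 14953), Mv.b (nat_lit 8149), Mv.b (nat_lit 5935), Mv.b (nat_lit 3417), Mv.b (nat_lit 12198), Mv.b (nat_lit 13272), Mv.b (nat_lit 9062)])))
(Tr.nd (nat_lit 14957) (Tr.lf (Fc.al (nat_lit 14956) (nat_lit 4633) (nat_lit 3280) (Dv.wd (nat_lit 90) [Mv.f (nat_lit 14739), Mv.f (nat_lit 14672), Mv.f (nat_lit 14954), Mv.f (nat_lit 11746)])))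
(Tr.lf (Fc.ed (nat_lit 14957) (nat_lit 3280) Col.a (nat_lit 3380) (Dv.wd (nat_lit 29) [Mv.b (nat_lit 11747), Mv.f (nat_lit 14956)])))))))
(Tr.nd (nat_lit 14963) (Tr.nd (nat_lit 14960) (Tr.nd (nat_lit 14959) (Tr.lf (Fc.al (nat_lit 14958) (nat_lit 5206) (nat_lit 4895) (Dv.wd (nat_lit 103) [Mv.f (nat_lit 12748), Mv.f (nat_lit 14956), Mv.f (nat_lit 14738)])))
(Tr.lf (Fc.ed (nat_lit 14959) (nat_lit 4895) Col.c (nat_lit 3280) (Dv.wd (nat_lit 103) [Mv.f (nat_lit 14738), Mv.f (nat_lit 14958)]))))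
(Tr.nd (nat_lit 14961) (Tr.lf (Fc.ed (nat_lit 14960) (nat_lit 4895) Col.d (nat_lit 5378) (Dv.wd (nat_lit 120) [Mv.b (nat_lit 13816), Mv.f (nat_lit 14958)])))
(Tr.nd (nat_lit 14962) (Tr.lf (Fc.ed (nat_lit 14961) (nat_lit 5502) Col.d (nat_lit 4889) (Dv.wd (nat_lit 90) [Mv.f (nat_lit 12747), Mv.f (nat_lit 14960), Mv.f (nat_lit 14094)])))
(Tr.lf (Fc.ed (nat_lit 14962) (nat_lit 3380) Col.d (nat_lit 3052) (Dv.wd (nat_lit 28) [Mv.b (nat_lit 14671), Mv.b (nat_lit 14739), Mv.f (nat_lit 14957)]))))))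
(Tr.nd (nat_lit 14965) (Tr.nd (nat_lit 14964) (Tr.lf (Fc.ed (nat_lit 14963) (nat_lit 3923) Col.a (nat_lit 5911) Dv.df))
(Tr.lf (Fc.ed (nat_lit 14964) (nat_lit 5911) Col.e (nat_lit 3420) (Dv.wd (nat_lit 56) [Mv.f (nat_lit 8705), Mv.f (nat_lit 9634), Mv.f (nat_lit 14963)]))))
(Tr.nd (nat_lit 14966) (Tr.lf (Fc.ed (nat_lit 14965) (nat_lit 4400) Col.d (nat_lit 5912) Dv.df))
(Tr.nd (nat_lit 14967) (Tr.lf (Fc.ed (nat_lit 14966) (nat_lit 5912) Col.f (nat_lit 5817) (Dv.wd (nat_lit 11) [Mv.b (nat_lit 14762), Mv.f (nat_lit 11320), Mv.f (nat_lit 14965)])))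
(Tr.lf (Fc.ed (nat_lit 14967) (nat_lit 5409) Col.b (nat_lit 5913) Dv.df)))))))
(Tr.nd (nat_lit 14978) (Tr.nd (nat_lit 14973) (Tr.nd (nat_lit 14970) (Tr.nd (nat_lit 14969) (Tr.lf (Fc.ed (nat_lit 14968) (nat_lit 2215) Col.c (nat_lit 5914) Dv.df))
(Tr.lf (Fc.ed (nat_lit 14969) (nat_lit 5412) Col.b (nat_lit 5915) Dv.df)))
(Tr.nd (nat_lit 14971) (Tr.lf (Fc.ed (nat_lit 14970) (nat_lit 5915) Col.c (nat_lit 5823) (Dv.wd (nat_lit 135) [Mv.b (nat_lit 14772), Mv.b (nat_lit 14598), Mv.b (nat_lit 7921), Mv.f (nat_lit 3638), Mv.f (nat_lit 3290), Mv.f (nat_lit 3020), Mv.b (nat_lit 3181), Mv.b (nat_lit 7998), Mv.f (nat_lit 13882), Mv.f (nat_lit 14969)])))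
(Tr.nd (nat_lit 14972) (Tr.lf (Fc.ed (nat_lit 14971) (nat_lit 5819) Col.f (nat_lit 5916) Dv.df))
(Tr.lf (Fc.ed (nat_lit 14972) (nat_lit 5916) Col.b (nat_lit 1865) (Dv.wd (nat_lit 66) [Mv.f (nat_lit 7940), Mv.f (nat_lit 14765), Mv.f (nat_lit 14971)]))))))
(Tr.nd (nat_lit 14975) (Tr.nd (nat_lit 14974) (Tr.lf (Fc.ed (nat_lit 14973) (nat_lit 5548) Col.g (nat_lit 5917) Dv.df))
(Tr.lf (Fc.ed (nat_lit 14974) (nat_lit 5917) Col.g (nat_lit 5362) (Dv.wd (nat_lit 9) [Mv.f (nat_lit 13783), Mv.f (nat_lit 14178), Mv.f (nat_lit 14973)]))))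
(Tr.nd (nat_lit 14976) (Tr.lf (Fc.ed (nat_lit 14975) (nat_lit 3157) Col.d (nat_lit 5918) Dv.df))
(Tr.nd (nat_lit 14977) (Tr.lf (Fc.ed (nat_lit 14976) (nat_lit 5868) Col.gi (nat_lit 5919) Dv.df))
(Tr.lf (Fc.ed (nat_lit 14977) (nat_lit 5919) Col.b (nat_lit 5141) (Dv.wd (nat_lit 175) [Mv.b (nat_lit 13294), Mv.b (nat_lit 12273), Mv.f (nat_lit 5560), Mv.b (nat_lit 3120), Mv.b (nat_lit 848), Mv.b (nat_lit 44), Mv.f (nat_lit 70), Mv.f (nat_lit 1625), Mv.f (nat_lit 88), Mv.b (nat_lit 155), Mv.b (nat_lit 154), Mv.f (nat_lit 229), Mv.b (nat_lit 2253), Mv.f (nat_lit 3318), Mv.f (nat_lit 3422), Mv.b (nat_lit 5385), Mv.b (nat_lit 14186), Mv.f (nat_lit 14867), Mv.f (nat_lit 14976)])))))))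
(Tr.nd (nat_lit 14983) (Tr.nd (nat_lit 14980) (Tr.nd (nat_lit 14979) (Tr.lf (Fc.ed (nat_lit 14978) (nat_lit 5795) Col.f (nat_lit 5919) (Dv.wd (nat_lit 125) [Mv.f (nat_lit 14977), Mv.f (nat_lit 14077), Mv.b (nat_lit 14720)])))
(Tr.lf (Fc.ed (nat_lit 14979) (nat_lit 5502) Col.c (nat_lit 5919) (Dv.wd (nat_lit 152) [Mv.f (nat_lit 14977), Mv.b (nat_lit 13294), Mv.f (nat_lit 9787), Mv.b (nat_lit 12376), Mv.b (nat_lit 14095)]))))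
(Tr.nd (nat_lit 14981) (Tr.lf (Fc.ed (nat_lit 14980) (nat_lit 5905) Col.gi (nat_lit 5920) Dv.df))
(Tr.nd (nat_lit 14982) (Tr.lf (Fc.ed (nat_lit 14981) (nat_lit 2327) Col.b (nat_lit 5921) Dv.df))
(Tr.lf (Fc.ed (nat_lit 14982) (nat_lit 5663) Col.b (nat_lit 5922) Dv.df)))))
(Tr.nd (nat_lit 14986) (Tr.nd (nat_lit 14984) (Tr.lf (Fc.ed (nat_lit 14983) (nat_lit 5922) Col.e (nat_lit 4205) (Dv.wd (nat_lit 52) [Mv.b (nat_lit 10849), Mv.f (nat_lit 14404), Mv.f (nat_lit 14982)])))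
(Tr.nd (nat_lit 14985) (Tr.lf (Fc.ed (nat_lit 14984) (nat_lit 1123) Col.b (nat_lit 5923) Dv.df))
(Tr.lf (Fc.ed (nat_lit 14985) (nat_lit 5923) Col.d (nat_lit 4052) (Dv.wd (nat_lit 58) [Mv.b (nat_lit 10042), Mv.f (nat_lit 3546), Mv.f (nat_lit 14984)])))))
(Tr.nd (nat_lit 14987) (Tr.lf (Fc.ed (nat_lit 14986) (nat_lit 5923) Col.e (nat_lit 5832) (Dv.wd (nat_lit 52) [Mv.f (nat_lit 14784), Mv.f (nat_lit 5699), Mv.f (nat_lit 14984)])))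
(Tr.nd (nat_lit 14988) (Tr.lf (Fc.ed (nat_lit 14987) (nat_lit 5352) Col.c (nat_lit 5924) Dv.df))
(Tr.lf (Fc.ed (nat_lit 14988) (nat_lit 4117) Col.a (nat_lit 5925) Dv.df))))))))
(Tr.nd (nat_lit 15009) (Tr.nd (nat_lit 14999) (Tr.nd (nat_lit 14994) (Tr.nd (nat_lit 14991) (Tr.nd (nat_lit 14990) (Tr.lf (Fc.ed (nat_lit 14989) (nat_lit 5925) Col.d (nat_lit 4194) (Dv.wd (nat_lit 28) [Mv.b (nat_lit 10827), Mv.f (nat_lit 10608), Mv.f (nat_lit 14988)])))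
(Tr.lf (Fc.ed (nat_lit 14990) (nat_lit 2513) Col.c (nat_lit 5926) Dv.df)))
(Tr.nd (nat_lit 14992) (Tr.lf (Fc.ed (nat_lit 14991) (nat_lit 5926) Col.a (nat_lit 5540) (Dv.wd (nat_lit 19) [Mv.f (nat_lit 14166), Mv.f (nat_lit 9715), Mv.f (nat_lit 14990)])))
(Tr.nd (nat_lit 14993) (Tr.lf (Fc.ed (nat_lit 14992) (nat_lit 5926) Col.f (nat_lit 5175) (Dv.wd (nat_lit 26) [Mv.b (nat_lit 13361), Mv.b (nat_lit 6766), Mv.f (nat_lit 14990)])))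
(Tr.lf (Fc.ed (nat_lit 14993) (nat_lit 5128) Col.g (nat_lit 5927) Dv.df)))))
(Tr.nd (nat_lit 14996) (Tr.nd (nat_lit 14995) (Tr.lf (Fc.ed (nat_lit 14994) (nat_lit 5927) Col.g (nat_lit 3887) (Dv.wd (nat_lit 9) [Mv.f (nat_lit 9573), Mv.b (nat_lit 13264), Mv.f (nat_lit 14993)])))
(Tr.lf (Fc.ed (nat_lit 14995) (nat_lit 5919) Col.d (nat_lit 5928) Dv.df)))
(Tr.nd (nat_lit 14997) (Tr.lf (Fc.ed (nat_lit 14996) (nat_lit 5928) Col.b (nat_lit 5272) (Dv.wd (nat_lit 37) [Mv.f (nat_lit 13575), Mv.b (nat_lit 14977), Mv.f (nat_lit 14995)])))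
(Tr.nd (nat_lit 14998) (Tr.lf (Fc.ed (nat_lit 14997) (nat_lit 5928) Col.f (nat_lit 5773) (Dv.wd (nat_lit 11) [Mv.f (nat_lit 14721), Mv.f (nat_lit 14978), Mv.f (nat_lit 14995)])))
(Tr.lf (Fc.ed (nat_lit 14998) (nat_lit 5773) Col.a (nat_lit 5906) (Dv.wd (nat_lit 46) [Mv.b (nat_lit 14937), Mv.b (nat_lit 14424), Mv.b (nat_lit 9863), Mv.f (nat_lit 14954), Mv.f (nat_lit 12734), Mv.b (nat_lit 14961), Mv.f (nat_lit 14979), Mv.f (nat_lit 14995), Mv.f (nat_lit 14997)])))))))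
(Tr.nd (nat_lit 15004) (Tr.nd (nat_lit 15001) (Tr.nd (nat_lit 15000) (Tr.lf (Fc.ed (nat_lit 14999) (nat_lit 5928) Col.gi (nat_lit 5866) (Dv.wd (nat_lit 50) [Mv.b (nat_lit 14861), Mv.f (nat_lit 10087), Mv.f (nat_lit 14962), Mv.f (nat_lit 7947), Mv.f (nat_lit 5384), Mv.b (nat_lit 14186), Mv.f (nat_lit 14867), Mv.f (nat_lit 14976), Mv.f (nat_lit 14995)])))
(Tr.lf (Fc.ed (nat_lit 15000) (nat_lit 5190) Col.c (nat_lit 5929) Dv.df)))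
(Tr.nd (nat_lit 15002) (Tr.lf (Fc.ed (nat_lit 15001) (nat_lit 5929) Col.g (nat_lit 4692) (Dv.wd (nat_lit 123) [Mv.b (nat_lit 11854), Mv.b (nat_lit 4690), Mv.f (nat_lit 1116), Mv.b (nat_lit 609), Mv.f (nat_lit 542), Mv.f (nat_lit 3747), Mv.f (nat_lit 5343), Mv.b (nat_lit 10605), Mv.f (nat_lit 13412), Mv.f (nat_lit 15000)])))
(Tr.nd (nat_lit 15003) (Tr.lf (Fc.ed (nat_lit 15002) (nat_lit 5826) Col.e (nat_lit 5930) Dv.df))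
(Tr.lf (Fc.ed (nat_lit 15003) (nat_lit 5930) Col.c (nat_lit 4450) (Dv.wd (nat_lit 18) [Mv.b (nat_lit 11415), Mv.f (nat_lit 14775), Mv.f (nat_lit 15002)]))))))
(Tr.nd (nat_lit 15006) (Tr.nd (nat_lit 15005) (Tr.lf (Fc.ed (nat_lit 15004) (nat_lit 5893) Col.a (nat_lit 5931) Dv.df))
(Tr.lf (Fc.ed (nat_lit 15005) (nat_lit 5931) Col.e (nat_lit 5158) (Dv.wd (nat_lit 56) [Mv.b (nat_lit 13327), Mv.f (nat_lit 14908), Mv.f (nat_lit 15004)]))))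
(Tr.nd (nat_lit 15007) (Tr.lf (Fc.ed (nat_lit 15006) (nat_lit 3900) Col.g (nat_lit 5932) Dv.df))
(Tr.nd (nat_lit 15008) (Tr.lf (Fc.ed (nat_lit 15007) (nat_lit 5932) Col.c (nat_lit 5921) (Dv.wd (nat_lit 115) [Mv.b (nat_lit 14981), Mv.b (nat_lit 6352), Mv.f (nat_lit 5177), Mv.b (nat_lit 5178), Mv.b (nat_lit 5715), Mv.f (nat_lit 6606), Mv.f (nat_lit 6607), Mv.b (nat_lit 6335), Mv.b (nat_lit 9596), Mv.f (nat_lit 15006)])))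
(Tr.lf (Fc.ed (nat_lit 15008) (nat_lit 1091) Col.e (nat_lit 5933) Dv.df)))))))
(Tr.nd (nat_lit 15019) (Tr.nd (nat_lit 15014) (Tr.nd (nat_lit 15011) (Tr.nd (nat_lit 15010) (Tr.lf (Fc.ed (nat_lit 15009) (nat_lit 5816) Col.gi (nat_lit 5934) Dv.df))
(Tr.lf (Fc.ed (nat_lit 15010) (nat_lit 3664) Col.gi (nat_lit 5935) Dv.df)))
(Tr.nd (nat_lit 15012) (Tr.lf (Fc.ed (nat_lit 15011) (nat_lit 5935) Col.gi (nat_lit 5518) (Dv.wd (nat_lit 24) [Mv.b (nat_lit 14799), Mv.b (nat_lit 14798), Mv.f (nat_lit 15010)])))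
(Tr.nd (nat_lit 15013) (Tr.lf (Fc.ed (nat_lit 15012) (nat_lit 5935) Col.d (nat_lit 5935) (Dv.wd (nat_lit 89) [Mv.b (nat_lit 15010), Mv.b (nat_lit 9167), Mv.b (nat_lit 8773), Mv.b (nat_lit 5411), Mv.f (nat_lit 3340), Mv.f (nat_lit 5411), Mv.f (nat_lit 8773), Mv.f (nat_lit 9167), Mv.f (nat_lit 15010)])))
(Tr.lf (Fc.ed (nat_lit 15013) (nat_lit 5758) Col.f (nat_lit 5936) Dv.df)))))
(Tr.nd (nat_lit 15016) (Tr.nd (nat_lit 15015) (Tr.lf (Fc.ed (nat_lit 15014) (nat_lit 5936) Col.b (nat_lit 5477) (Dv.wd (nat_lit 66) [Mv.b (nat_lit 14517), Mv.f (nat_lit 14621), Mv.f (nat_lit 15013)])))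
(Tr.lf (Fc.ed (nat_lit 15015) (nat_lit 5432) Col.d (nat_lit 5936) (Dv.wd (nat_lit 116) [Mv.f (nat_lit 15014), Mv.b (nat_lit 14050), Mv.f (nat_lit 13965)]))))
(Tr.nd (nat_lit 15017) (Tr.lf (Fc.ed (nat_lit 15016) (nat_lit 5482) Col.f (nat_lit 5937) Dv.df))
(Tr.nd (nat_lit 15018) (Tr.lf (Fc.ed (nat_lit 15017) (nat_lit 5937) Col.b (nat_lit 3851) (Dv.wd (nat_lit 66) [Mv.b (nat_lit 9516), Mv.b (nat_lit 14061), Mv.f (nat_lit 15016)])))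
(Tr.lf (Fc.ed (nat_lit 15018) (nat_lit 5937) Col.d (nat_lit 5513) (Dv.wd (nat_lit 21) [Mv.f (nat_lit 14110), Mv.f (nat_lit 14060), Mv.f (nat_lit 15016)])))))))
(Tr.nd (nat_lit 15024) (Tr.nd (nat_lit 15021) (Tr.nd (nat_lit 15020) (Tr.lf (Fc.ed (nat_lit 15019) (nat_lit 5842) Col.f (nat_lit 5938) Dv.df))
(Tr.lf (Fc.ed (nat_lit 15020) (nat_lit 3525) Col.a (nat_lit 5939) Dv.df)))
(Tr.nd (nat_lit 15022) (Tr.lf (Fc.ed (nat_lit 15021) (nat_lit 5939) Col.c (nat_lit 5364) (Dv.wd (nat_lit 33) [Mv.b (nat_lit 13786), Mv.b (nat_lit 8913), Mv.f (nat_lit 15020)])))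
(Tr.nd (nat_lit 15023) (Tr.lf (Fc.ed (nat_lit 15022) (nat_lit 5939) Col.e (nat_lit 5661) (Dv.wd (nat_lit 56) [Mv.b (nat_lit 14399), Mv.f (nat_lit 8911), Mv.f (nat_lit 15020)])))
(Tr.lf (Fc.ed (nat_lit 15023) (nat_lit 5553) Col.a (nat_lit 5940) Dv.df)))))
(Tr.nd (nat_lit 15027) (Tr.nd (nat_lit 15025) (Tr.lf (Fc.ed (nat_lit 15024) (nat_lit 5940) Col.c (nat_lit 3663) (Dv.wd (nat_lit 33) [Mv.f (nat_lit 9166), Mv.f (nat_lit 14189), Mv.f (nat_lit 15023)])))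
(Tr.nd (nat_lit 15026) (Tr.lf (Fc.ed (nat_lit 15025) (nat_lit 5273) Col.d (nat_lit 5941) Dv.df))
(Tr.lf (Fc.ed (nat_lit 15026) (nat_lit 5941) Col.g (nat_lit 5776) (Dv.wd (nat_lit 69) [Mv.b (nat_lit 14658), Mv.f (nat_lit 13399), Mv.f (nat_lit 13276), Mv.f (nat_lit 14666), Mv.f (nat_lit 3985), Mv.f (nat_lit 7038), Mv.f (nat_lit 14172), Mv.f (nat_lit 14173), Mv.f (nat_lit 15025)])))))
(Tr.nd (nat_lit 15028) (Tr.lf (Fc.ed (nat_lit 15027) (nat_lit 5540) Col.e (nat_lit 5942) Dv.df))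
(Tr.nd (nat_lit 15029) (Tr.lf (Fc.ed (nat_lit 15028) (nat_lit 5942) Col.c (nat_lit 3776) (Dv.wd (nat_lit 18) [Mv.b (nat_lit 9718), Mv.b (nat_lit 14166), Mv.f (nat_lit 15027)])))
(Tr.lf (Fc.ed (nat_lit 15029) (nat_lit 5110) Col.c (nat_lit 5943) Dv.df)))))))))
(Tr.nd (nat_lit 15071) (Tr.nd (nat_lit 15050) (Tr.nd (nat_lit 15040) (Tr.nd (nat_lit 15035) (Tr.nd (nat_lit 15032) (Tr.nd (nat_lit 15031) (Tr.lf (Fc.ed (nat_lit 15030) (nat_lit 3028) Col.c (nat_lit 5944) Dv.df))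
(Tr.lf (Fc.ed (nat_lit 15031) (nat_lit 5788) Col.a (nat_lit 5945) Dv.df)))
(Tr.nd (nat_lit 15033) (Tr.lf (Fc.ed (nat_lit 15032) (nat_lit 5945) Col.d (nat_lit 2030) (Dv.wd (nat_lit 28) [Mv.b (nat_lit 5638), Mv.b (nat_lit 14703), Mv.f (nat_lit 15031)])))
(Tr.nd (nat_lit 15034) (Tr.lf (Fc.ed (nat_lit 15033) (nat_lit 3727) Col.e (nat_lit 5946) Dv.df))
(Tr.lf (Fc.ed (nat_lit 15034) (nat_lit 5946) Col.b (nat_lit 5221) (Dv.wd (nat_lit 49) [Mv.b (nat_lit 13468), Mv.f (nat_lit 9297), Mv.f (nat_lit 15033)]))))))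
(Tr.nd (nat_lit 15037) (Tr.nd (nat_lit 15036) (Tr.lf (Fc.ed (nat_lit 15035) (nat_lit 2278) Col.a (nat_lit 5947) Dv.df))
(Tr.lf (Fc.ed (nat_lit 15036) (nat_lit 4036) Col.c (nat_lit 5948) Dv.df)))
(Tr.nd (nat_lit 15038) (Tr.lf (Fc.ed (nat_lit 15037) (nat_lit 5199) Col.a (nat_lit 5949) Dv.df))
(Tr.nd (nat_lit 15039) (Tr.lf (Fc.ed (nat_lit 15038) (nat_lit 5949) Col.f (nat_lit 4997) (Dv.wd (nat_lit 10) [Mv.f (nat_lit 12998), Mv.f (nat_lit 13425), Mv.f (nat_lit 15037)])))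
(Tr.lf (Fc.ed (nat_lit 15039) (nat_lit 4022) Col.b (nat_lit 5950) Dv.df))))))
(Tr.nd (nat_lit 15045) (Tr.nd (nat_lit 15042) (Tr.nd (nat_lit 15041) (Tr.lf (Fc.ed (nat_lit 15040) (nat_lit 5950) Col.a (nat_lit 5821) (Dv.wd (nat_lit 98) [Mv.b (nat_lit 14769), Mv.f (nat_lit 12530), Mv.f (nat_lit 6888), Mv.f (nat_lit 9840), Mv.f (nat_lit 15039)])))
(Tr.lf (Fc.ed (nat_lit 15041) (nat_lit 5523) Col.b (nat_lit 5951) Dv.df)))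
(Tr.nd (nat_lit 15043) (Tr.lf (Fc.ed (nat_lit 15042) (nat_lit 5951) Col.f (nat_lit 5604) (Dv.wd (nat_lit 20) [Mv.f (nat_lit 14288), Mv.f (nat_lit 14133), Mv.f (nat_lit 15041)])))
(Tr.nd (nat_lit 15044) (Tr.lf (Fc.ed (nat_lit 15043) (nat_lit 5951) Col.c (nat_lit 4877) (Dv.wd (nat_lit 93) [Mv.b (nat_lit 12711), Mv.b (nat_lit 4005), Mv.b (nat_lit 4155), Mv.b (nat_lit 14134), Mv.f (nat_lit 15041)])))
(Tr.lf (Fc.ed (nat_lit 15044) (nat_lit 5881) Col.e (nat_lit 5952) Dv.df)))))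
(Tr.nd (nat_lit 15047) (Tr.nd (nat_lit 15046) (Tr.lf (Fc.ed (nat_lit 15045) (nat_lit 2541) Col.g (nat_lit 5953) Dv.df))
(Tr.lf (Fc.ed (nat_lit 15046) (nat_lit 5953) Col.g (nat_lit 4338) (Dv.wd (nat_lit 9) [Mv.f (nat_lit 11130), Mv.b (nat_lit 11129), Mv.f (nat_lit 15045)]))))
(Tr.nd (nat_lit 15048) (Tr.lf (Fc.ed (nat_lit 15047) (nat_lit 5953) Col.e (nat_lit 5815) (Dv.wd (nat_lit 47) [Mv.b (nat_lit 14760), Mv.f (nat_lit 13736), Mv.f (nat_lit 7954), Mv.f (nat_lit 7280), Mv.f (nat_lit 3931), Mv.f (nat_lit 3192), Mv.f (nat_lit 3297), Mv.b (nat_lit 3300), Mv.b (nat_lit 6840), Mv.f (nat_lit 15045)])))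
(Tr.nd (nat_lit 15049) (Tr.lf (Fc.ed (nat_lit 15048) (nat_lit 3432) Col.d (nat_lit 5954) Dv.df))
(Tr.lf (Fc.ed (nat_lit 15049) (nat_lit 5954) Col.c (nat_lit 5912) (Dv.wd (nat_lit 80) [Mv.b (nat_lit 14965), Mv.f (nat_lit 11322), Mv.b (nat_lit 7796), Mv.b (nat_lit 11656), Mv.f (nat_lit 12742), Mv.f (nat_lit 12741), Mv.f (nat_lit 7952), Mv.f (nat_lit 8731), Mv.f (nat_lit 15048)]))))))))
(Tr.nd (nat_lit 15060) (Tr.nd (nat_lit 15055) (Tr.nd (nat_lit 15052) (Tr.nd (nat_lit 15051) (Tr.lf (Fc.ed (nat_lit 15050) (nat_lit 5531) Col.g (nat_lit 5955) Dv.df))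
(Tr.lf (Fc.ed (nat_lit 15051) (nat_lit 4142) Col.e (nat_lit 5956) Dv.df)))
(Tr.nd (nat_lit 15053) (Tr.lf (Fc.ed (nat_lit 15052) (nat_lit 5956) Col.a (nat_lit 5251) (Dv.wd (nat_lit 15) [Mv.f (nat_lit 13532), Mv.b (nat_lit 12299), Mv.f (nat_lit 15051)])))
(Tr.nd (nat_lit 15054) (Tr.lf (Fc.ed (nat_lit 15053) (nat_lit 5955) Col.a (nat_lit 5957) Dv.df))
(Tr.lf (Fc.ed (nat_lit 15054) (nat_lit 5164) Col.e (nat_lit 5958) Dv.df)))))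
(Tr.nd (nat_lit 15057) (Tr.nd (nat_lit 15056) (Tr.lf (Fc.ed (nat_lit 15055) (nat_lit 5958) Col.c (nat_lit 4800) (Dv.wd (nat_lit 18) [Mv.b (nat_lit 12560), Mv.f (nat_lit 13340), Mv.f (nat_lit 15054)])))
(Tr.lf (Fc.ed (nat_lit 15056) (nat_lit 5943) Col.f (nat_lit 5958) (Dv.wd (nat_lit 64) [Mv.f (nat_lit 15055), Mv.b (nat_lit 13231), Mv.f (nat_lit 15029)]))))
(Tr.nd (nat_lit 15058) (Tr.lf (Fc.ed (nat_lit 15057) (nat_lit 3972) Col.a (nat_lit 5959) Dv.df))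
(Tr.nd (nat_lit 15059) (Tr.lf (Fc.ed (nat_lit 15058) (nat_lit 5959) Col.d (nat_lit 5757) (Dv.wd (nat_lit 28) [Mv.f (nat_lit 14620), Mv.f (nat_lit 9761), Mv.f (nat_lit 15057)])))
(Tr.lf (Fc.ed (nat_lit 15059) (nat_lit 5959) Col.e (nat_lit 3855) (Dv.wd (nat_lit 56) [Mv.b (nat_lit 9524), Mv.b (nat_lit 10673), Mv.f (nat_lit 15057)])))))))
(Tr.nd (nat_lit 15065) (Tr.nd (nat_lit 15062) (Tr.nd (nat_lit 15061) (Tr.lf (Fc.ed (nat_lit 15060) (nat_lit 5914) Col.b (nat_lit 5960) Dv.df))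
(Tr.lf (Fc.ed (nat_lit 15061) (nat_lit 5960) Col.c (nat_lit 5181) (Dv.wd (nat_lit 93) [Mv.f (nat_lit 13374), Mv.b (nat_lit 5910), Mv.b (nat_lit 12945), Mv.f (nat_lit 14968), Mv.f (nat_lit 15060)]))))
(Tr.nd (nat_lit 15063) (Tr.lf (Fc.ed (nat_lit 15062) (nat_lit 5226) Col.gi (nat_lit 5914) (Dv.wd (nat_lit 157) [Mv.f (nat_lit 15060), Mv.f (nat_lit 15061), Mv.f (nat_lit 13403), Mv.b (nat_lit 13401), Mv.b (nat_lit 11252), Mv.f (nat_lit 4191), Mv.f (nat_lit 3330), Mv.f (nat_lit 3331), Mv.b (nat_lit 5468), Mv.b (nat_lit 13479)])))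
(Tr.nd (nat_lit 15064) (Tr.lf (Fc.ed (nat_lit 15063) (nat_lit 2479) Col.gi (nat_lit 4987) (Dv.wd (nat_lit 157) [Mv.f (nat_lit 12933), Mv.b (nat_lit 13479), Mv.f (nat_lit 15062), Mv.b (nat_lit 14968), Mv.f (nat_lit 12945), Mv.f (nat_lit 1882), Mv.f (nat_lit 1824), Mv.b (nat_lit 2868), Mv.f (nat_lit 3354), Mv.b (nat_lit 6682)])))
(Tr.lf (Fc.ed (nat_lit 15064) (nat_lit 5173) Col.a (nat_lit 4145) (Dv.wd (nat_lit 23) [Mv.f (nat_lit 10716), Mv.f (nat_lit 15063), Mv.f (nat_lit 13357)]))))))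
(Tr.nd (nat_lit 15068) (Tr.nd (nat_lit 15066) (Tr.lf (Fc.ed (nat_lit 15065) (nat_lit 4145) Col.c (nat_lit 3789) (Dv.wd (nat_lit 33) [Mv.f (nat_lit 13992), Mv.b (nat_lit 13994), Mv.f (nat_lit 15064)])))
(Tr.nd (nat_lit 15067) (Tr.lf (Fc.ed (nat_lit 15066) (nat_lit 4403) Col.a (nat_lit 5921) (Dv.wd (nat_lit 155) [Mv.b (nat_lit 14981), Mv.f (nat_lit 7234), Mv.b (nat_lit 13358), Mv.f (nat_lit 15064), Mv.f (nat_lit 11327)])))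
(Tr.lf (Fc.ed (nat_lit 15067) (nat_lit 5932) Col.a (nat_lit 4306) (Dv.wd (nat_lit 76) [Mv.b (nat_lit 11328), Mv.f (nat_lit 15066), Mv.b (nat_lit 15007)])))))
(Tr.nd (nat_lit 15069) (Tr.lf (Fc.ed (nat_lit 15068) (nat_lit 5446) Col.f (nat_lit 5932) (Dv.wd (nat_lit 13) [Mv.f (nat_lit 15067), Mv.b (nat_lit 11073), Mv.f (nat_lit 13995)])))
(Tr.nd (nat_lit 15070) (Tr.lf (Fc.ed (nat_lit 15069) (nat_lit 4306) Col.f (nat_lit 4325) (Dv.wd (nat_lit 10) [Mv.b (nat_lit 11110), Mv.f (nat_lit 15006), Mv.f (nat_lit 15067)])))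
(Tr.lf (Fc.ed (nat_lit 15070) (nat_lit 5446) Col.a (nat_lit 4325) (Dv.wd (nat_lit 79) [Mv.b (nat_lit 15069), Mv.b (nat_lit 15067), Mv.b (nat_lit 15068)])))))))))
(Tr.nd (nat_lit 15092) (Tr.nd (nat_lit 15081) (Tr.nd (nat_lit 15076) (Tr.nd (nat_lit 15073) (Tr.nd (nat_lit 15072) (Tr.lf (Fc.ed (nat_lit 15071) (nat_lit 5036) Col.a (nat_lit 5497) (Dv.wd (nat_lit 76) [Mv.b (nat_lit 14087), Mv.f (nat_lit 15070), Mv.b (nat_lit 13081)])))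
(Tr.lf (Fc.ed (nat_lit 15072) (nat_lit 5036) Col.f (nat_lit 4403) (Dv.wd (nat_lit 26) [Mv.f (nat_lit 11328), Mv.f (nat_lit 15069), Mv.b (nat_lit 13081)]))))
(Tr.nd (nat_lit 15074) (Tr.lf (Fc.ed (nat_lit 15073) (nat_lit 4145) Col.f (nat_lit 4802) (Dv.wd (nat_lit 20) [Mv.f (nat_lit 13080), Mv.f (nat_lit 15072), Mv.b (nat_lit 11327)])))
(Tr.nd (nat_lit 15075) (Tr.lf (Fc.ed (nat_lit 15074) (nat_lit 4802) Col.a (nat_lit 4987) (Dv.wd (nat_lit 16) [Mv.f (nat_lit 13357), Mv.f (nat_lit 15064), Mv.f (nat_lit 15073)])))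
(Tr.lf (Fc.ed (nat_lit 15075) (nat_lit 4802) Col.c (nat_lit 4874) (Dv.wd (nat_lit 34) [Mv.b (nat_lit 12706), Mv.b (nat_lit 15065), Mv.f (nat_lit 15073)]))))))
(Tr.nd (nat_lit 15078) (Tr.nd (nat_lit 15077) (Tr.lf (Fc.al (nat_lit 15076) (nat_lit 4150) (nat_lit 5173) (Dv.wd (nat_lit 114) [Mv.f (nat_lit 15064), Mv.f (nat_lit 15073), Mv.b (nat_lit 12563), Mv.b (nat_lit 10725)])))
(Tr.lf (Fc.ed (nat_lit 15077) (nat_lit 4150) Col.b (nat_lit 2723) (Dv.wd (nat_lit 119) [Mv.b (nat_lit 13358), Mv.b (nat_lit 15076)]))))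
(Tr.nd (nat_lit 15079) (Tr.lf (Fc.ed (nat_lit 15078) (nat_lit 4150) Col.c (nat_lit 5445) (Dv.wd (nat_lit 103) [Mv.b (nat_lit 13994), Mv.b (nat_lit 15076)])))
(Tr.nd (nat_lit 15080) (Tr.lf (Fc.ed (nat_lit 15079) (nat_lit 4119) Col.b (nat_lit 5497) (Dv.wd (nat_lit 159) [Mv.b (nat_lit 15071), Mv.b (nat_lit 13080), Mv.f (nat_lit 15074), Mv.f (nat_lit 12933), Mv.b (nat_lit 10612)])))
(Tr.lf (Fc.ed (nat_lit 15080) (nat_lit 1080) Col.g (nat_lit 4119) (Dv.wd (nat_lit 122) [Mv.f (nat_lit 15079), Mv.b (nat_lit 14087), Mv.b (nat_lit 13995), Mv.b (nat_lit 7015), Mv.b (nat_lit 3876), Mv.b (nat_lit 1787), Mv.f (nat_lit 2625), Mv.f (nat_lit 2589), Mv.b (nat_lit 2586), Mv.f (nat_lit 3336)])))))))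
(Tr.nd (nat_lit 15086) (Tr.nd (nat_lit 15083) (Tr.nd (nat_lit 15082) (Tr.lf (Fc.al (nat_lit 15081) (nat_lit 4397) (nat_lit 1560) (Dv.wd (nat_lit 114) [Mv.b (nat_lit 4626), Mv.b (nat_lit 3338), Mv.f (nat_lit 15080), Mv.b (nat_lit 11314)])))
(Tr.lf (Fc.al (nat_lit 15082) (nat_lit 3123) (nat_lit 2723) (Dv.wd (nat_lit 128) [Mv.f (nat_lit 11313), Mv.f (nat_lit 15081), Mv.b (nat_lit 8101)]))))
(Tr.nd (nat_lit 15084) (Tr.lf (Fc.ed (nat_lit 15083) (nat_lit 2723) Col.g (nat_lit 1080) (Dv.wd (nat_lit 129) [Mv.f (nat_lit 8100), Mv.f (nat_lit 15082)])))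
(Tr.nd (nat_lit 15085) (Tr.lf (Fc.ed (nat_lit 15084) (nat_lit 2723) Col.gi (nat_lit 1560) (Dv.wd (nat_lit 128) [Mv.b (nat_lit 8101), Mv.f (nat_lit 15082)])))
(Tr.lf (Fc.al (nat_lit 15085) (nat_lit 4150) (nat_lit 4897) (Dv.wd (nat_lit 119) [Mv.b (nat_lit 12751), Mv.f (nat_lit 15082), Mv.b (nat_lit 15077)]))))))
(Tr.nd (nat_lit 15089) (Tr.nd (nat_lit 15087) (Tr.lf (Fc.al (nat_lit 15086) (nat_lit 5445) (nat_lit 4794) (Dv.wd (nat_lit 103) [Mv.b (nat_lit 12752), Mv.b (nat_lit 15085), Mv.f (nat_lit 15078)])))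
(Tr.nd (nat_lit 15088) (Tr.lf (Fc.ed (nat_lit 15087) (nat_lit 4794) Col.f (nat_lit 4098) (Dv.wd (nat_lit 30) [Mv.b (nat_lit 13993), Mv.f (nat_lit 15086)])))
(Tr.lf (Fc.al (nat_lit 15088) (nat_lit 4874) (nat_lit 3759) (Dv.wd (nat_lit 12) [Mv.b (nat_lit 9353), Mv.f (nat_lit 12548), Mv.f (nat_lit 15087), Mv.b (nat_lit 12707)])))))
(Tr.nd (nat_lit 15090) (Tr.lf (Fc.ed (nat_lit 15089) (nat_lit 3759) Col.c (nat_lit 4802) (Dv.wd (nat_lit 103) [Mv.f (nat_lit 15075), Mv.f (nat_lit 15088)])))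
(Tr.nd (nat_lit 15091) (Tr.lf (Fc.ed (nat_lit 15090) (nat_lit 5310) Col.d (nat_lit 5961) Dv.df))
(Tr.lf (Fc.ed (nat_lit 15091) (nat_lit 5961) Col.f (nat_lit 4131) (Dv.wd (nat_lit 11) [Mv.b (nat_lit 10631), Mv.f (nat_lit 13668), Mv.f (nat_lit 15090)]))))))))
(Tr.nd (nat_lit 15102) (Tr.nd (nat_lit 15097) (Tr.nd (nat_lit 15094) (Tr.nd (nat_lit 15093) (Tr.lf (Fc.ed (nat_lit 15092) (nat_lit 2863) Col.c (nat_lit 5962) Dv.df))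
(Tr.lf (Fc.ed (nat_lit 15093) (nat_lit 5962) Col.b (nat_lit 5860) (Dv.wd (nat_lit 87) [Mv.b (nat_lit 14832), Mv.f (nat_lit 3705), Mv.f (nat_lit 3327), Mv.f (nat_lit 7541), Mv.f (nat_lit 15092)]))))
(Tr.nd (nat_lit 15095) (Tr.lf (Fc.ed (nat_lit 15094) (nat_lit 3518) Col.d (nat_lit 5963) Dv.df))
(Tr.nd (nat_lit 15096) (Tr.lf (Fc.ed (nat_lit 15095) (nat_lit 5301) Col.a (nat_lit 5964) Dv.df))
(Tr.lf (Fc.ed (nat_lit 15096) (nat_lit 5964) Col.f (nat_lit 5611) (Dv.wd (nat_lit 10) [Mv.f (nat_lit 14302), Mv.b (nat_lit 13632), Mv.f (nat_lit 15095)]))))))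
(Tr.nd (nat_lit 15099) (Tr.nd (nat_lit 15098) (Tr.lf (Fc.ed (nat_lit 15097) (nat_lit 4251) Col.g (nat_lit 5965) Dv.df))
(Tr.lf (Fc.ed (nat_lit 15098) (nat_lit 3791) Col.b (nat_lit 5966) Dv.df)))
(Tr.nd (nat_lit 15100) (Tr.lf (Fc.ed (nat_lit 15099) (nat_lit 5512) Col.gi (nat_lit 5967) Dv.df))
(Tr.nd (nat_lit 15101) (Tr.lf (Fc.ed (nat_lit 15100) (nat_lit 5967) Col.gi (nat_lit 4918) (Dv.wd (nat_lit 24) [Mv.f (nat_lit 14590), Mv.f (nat_lit 14591), Mv.f (nat_lit 15099)])))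
(Tr.lf (Fc.ed (nat_lit 15101) (nat_lit 5955) Col.b (nat_lit 5968) Dv.df))))))
(Tr.nd (nat_lit 15107) (Tr.nd (nat_lit 15104) (Tr.nd (nat_lit 15103) (Tr.lf (Fc.ed (nat_lit 15102) (nat_lit 2239) Col.e (nat_lit 5969) Dv.df))
(Tr.lf (Fc.ed (nat_lit 15103) (nat_lit 5969) Col.c (nat_lit 5371) (Dv.wd (nat_lit 18) [Mv.f (nat_lit 13805), Mv.f (nat_lit 6148), Mv.f (nat_lit 15102)]))))
(Tr.nd (nat_lit 15105) (Tr.lf (Fc.ed (nat_lit 15104) (nat_lit 5370) Col.g (nat_lit 5970) Dv.df))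
(Tr.nd (nat_lit 15106) (Tr.lf (Fc.ed (nat_lit 15105) (nat_lit 5970) Col.g (nat_lit 2759) (Dv.wd (nat_lit 9) [Mv.b (nat_lit 14113), Mv.f (nat_lit 14112), Mv.f (nat_lit 15104)])))
(Tr.lf (Fc.ed (nat_lit 15106) (nat_lit 3777) Col.e (nat_lit 5971) Dv.df)))))
(Tr.nd (nat_lit 15110) (Tr.nd (nat_lit 15108) (Tr.lf (Fc.ed (nat_lit 15107) (nat_lit 5293) Col.b (nat_lit 5972) Dv.df))
(Tr.nd (nat_lit 15109) (Tr.lf (Fc.ed (nat_lit 15108) (nat_lit 5956) Col.b (nat_lit 5973) Dv.df))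
(Tr.lf (Fc.ed (nat_lit 15109) (nat_lit 5973) Col.e (nat_lit 4369) (Dv.wd (nat_lit 52) [Mv.b (nat_lit 11263), Mv.f (nat_lit 15051), Mv.f (nat_lit 15108)])))))
(Tr.nd (nat_lit 15111) (Tr.lf (Fc.ed (nat_lit 15110) (nat_lit 5973) Col.a (nat_lit 3628) (Dv.wd (nat_lit 98) [Mv.b (nat_lit 9101), Mv.f (nat_lit 9096), Mv.f (nat_lit 13530), Mv.b (nat_lit 15052), Mv.f (nat_lit 15108)])))
(Tr.nd (nat_lit 15112) (Tr.lf (Fc.ed (nat_lit 15111) (nat_lit 5719) Col.d (nat_lit 5973) (Dv.wd (nat_lit 97) [Mv.f (nat_lit 15110), Mv.f (nat_lit 12616), Mv.b (nat_lit 14551)])))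
(Tr.lf (Fc.ed (nat_lit 15112) (nat_lit 5947) Col.d (nat_lit 5974) Dv.df))))))))))))
(Tr.nd (nat_lit 15442) (Tr.nd (nat_lit 15277) (Tr.nd (nat_lit 15195) (Tr.nd (nat_lit 15154) (Tr.nd (nat_lit 15133) (Tr.nd (nat_lit 15123) (Tr.nd (nat_lit 15118) (Tr.nd (nat_lit 15115) (Tr.nd (nat_lit 15114) (Tr.lf (Fc.ed (nat_lit 15113) (nat_lit 5974) Col.a (nat_lit 2049) (Dv.wd (nat_lit 8) [Mv.b (nat_lit 6241), Mv.f (nat_lit 15035), Mv.f (nat_lit 15112)])))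
(Tr.lf (Fc.ed (nat_lit 15114) (nat_lit 5582) Col.e (nat_lit 5975) Dv.df)))
(Tr.nd (nat_lit 15116) (Tr.lf (Fc.ed (nat_lit 15115) (nat_lit 5166) Col.c (nat_lit 5976) Dv.df))
(Tr.nd (nat_lit 15117) (Tr.lf (Fc.ed (nat_lit 15116) (nat_lit 5976) Col.f (nat_lit 5706) (Dv.wd (nat_lit 26) [Mv.b (nat_lit 14471), Mv.b (nat_lit 13344), Mv.f (nat_lit 15115)])))
(Tr.lf (Fc.ed (nat_lit 15117) (nat_lit 5792) Col.a (nat_lit 5977) Dv.df)))))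
(Tr.nd (nat_lit 15120) (Tr.nd (nat_lit 15119) (Tr.lf (Fc.ed (nat_lit 15118) (nat_lit 5977) Col.c (nat_lit 1828) (Dv.wd (nat_lit 33) [Mv.f (nat_lit 8288), Mv.b (nat_lit 14862), Mv.f (nat_lit 15117)])))
(Tr.lf (Fc.ed (nat_lit 15119) (nat_lit 5977) Col.gi (nat_lit 5928) (Dv.wd (nat_lit 12) [Mv.f (nat_lit 14999), Mv.b (nat_lit 14859), Mv.f (nat_lit 15117)]))))
(Tr.nd (nat_lit 15121) (Tr.lf (Fc.ed (nat_lit 15120) (nat_lit 5906) Col.gi (nat_lit 5977) (Dv.wd (nat_lit 12) [Mv.f (nat_lit 15119), Mv.f (nat_lit 14997), Mv.f (nat_lit 14998)])))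
(Tr.nd (nat_lit 15122) (Tr.lf (Fc.ed (nat_lit 15121) (nat_lit 4597) Col.c (nat_lit 5978) Dv.df))
(Tr.lf (Fc.ed (nat_lit 15122) (nat_lit 5957) Col.gi (nat_lit 5979) Dv.df))))))
(Tr.nd (nat_lit 15128) (Tr.nd (nat_lit 15125) (Tr.nd (nat_lit 15124) (Tr.lf (Fc.ed (nat_lit 15123) (nat_lit 4017) Col.e (nat_lit 5980) Dv.df))
(Tr.lf (Fc.ed (nat_lit 15124) (nat_lit 5942) Col.a (nat_lit 5981) Dv.df)))
(Tr.nd (nat_lit 15126) (Tr.lf (Fc.ed (nat_lit 15125) (nat_lit 5981) Col.c (nat_lit 2514) (Dv.wd (nat_lit 33) [Mv.b (nat_lit 9386), Mv.b (nat_lit 15028), Mv.f (nat_lit 15124)])))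
(Tr.nd (nat_lit 15127) (Tr.lf (Fc.ed (nat_lit 15126) (nat_lit 5981) Col.e (nat_lit 5926) (Dv.wd (nat_lit 56) [Mv.f (nat_lit 14991), Mv.f (nat_lit 15027), Mv.f (nat_lit 15124)])))
(Tr.lf (Fc.ed (nat_lit 15127) (nat_lit 3249) Col.g (nat_lit 5982) Dv.df)))))
(Tr.nd (nat_lit 15130) (Tr.nd (nat_lit 15129) (Tr.lf (Fc.ed (nat_lit 15128) (nat_lit 2798) Col.gi (nat_lit 5983) Dv.df))
(Tr.lf (Fc.ed (nat_lit 15129) (nat_lit 5532) Col.f (nat_lit 5984) Dv.df)))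
(Tr.nd (nat_lit 15131) (Tr.lf (Fc.ed (nat_lit 15130) (nat_lit 5984) Col.a (nat_lit 5727) (Dv.wd (nat_lit 16) [Mv.f (nat_lit 14567), Mv.f (nat_lit 14413), Mv.f (nat_lit 15129)])))
(Tr.nd (nat_lit 15132) (Tr.lf (Fc.ed (nat_lit 15131) (nat_lit 3924) Col.g (nat_lit 5985) Dv.df))
(Tr.lf (Fc.ed (nat_lit 15132) (nat_lit 5985) Col.g (nat_lit 2219) (Dv.wd (nat_lit 9) [Mv.b (nat_lit 11491), Mv.f (nat_lit 11492), Mv.f (nat_lit 15131)]))))))))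
(Tr.nd (nat_lit 15143) (Tr.nd (nat_lit 15138) (Tr.nd (nat_lit 15135) (Tr.nd (nat_lit 15134) (Tr.lf (Fc.ed (nat_lit 15133) (nat_lit 5523) Col.e (nat_lit 5986) Dv.df))
(Tr.lf (Fc.ed (nat_lit 15134) (nat_lit 5986) Col.c (nat_lit 2291) (Dv.wd (nat_lit 18) [Mv.f (nat_lit 6272), Mv.b (nat_lit 14134), Mv.f (nat_lit 15133)]))))
(Tr.nd (nat_lit 15136) (Tr.lf (Fc.ed (nat_lit 15135) (nat_lit 5986) Col.f (nat_lit 5981) (Dv.wd (nat_lit 96) [Mv.f (nat_lit 15126), Mv.f (nat_lit 14992), Mv.b (nat_lit 13594), Mv.f (nat_lit 14133), Mv.f (nat_lit 15133)])))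
(Tr.nd (nat_lit 15137) (Tr.lf (Fc.ed (nat_lit 15136) (nat_lit 5891) Col.d (nat_lit 5987) Dv.df))
(Tr.lf (Fc.ed (nat_lit 15137) (nat_lit 5739) Col.b (nat_lit 5988) Dv.df)))))
(Tr.nd (nat_lit 15140) (Tr.nd (nat_lit 15139) (Tr.lf (Fc.ed (nat_lit 15138) (nat_lit 5988) Col.e (nat_lit 5235) (Dv.wd (nat_lit 52) [Mv.f (nat_lit 14298), Mv.b (nat_lit 14587), Mv.f (nat_lit 15137)])))
(Tr.lf (Fc.ed (nat_lit 15139) (nat_lit 5988) Col.c (nat_lit 5807) (Dv.wd (nat_lit 93) [Mv.b (nat_lit 14744), Mv.f (nat_lit 14367), Mv.b (nat_lit 14365), Mv.b (nat_lit 14586), Mv.f (nat_lit 15137)]))))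
(Tr.nd (nat_lit 15141) (Tr.lf (Fc.ed (nat_lit 15140) (nat_lit 5744) Col.a (nat_lit 5989) Dv.df))
(Tr.nd (nat_lit 15142) (Tr.lf (Fc.ed (nat_lit 15141) (nat_lit 3737) Col.g (nat_lit 5990) Dv.df))
(Tr.lf (Fc.ed (nat_lit 15142) (nat_lit 5990) Col.g (nat_lit 4721) (Dv.wd (nat_lit 9) [Mv.b (nat_lit 12779), Mv.b (nat_lit 12778), Mv.f (nat_lit 15141)])))))))
(Tr.nd (nat_lit 15148) (Tr.nd (nat_lit 15145) (Tr.nd (nat_lit 15144) (Tr.lf (Fc.ed (nat_lit 15143) (nat_lit 5401) Col.f (nat_lit 5991) Dv.df))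
(Tr.lf (Fc.ed (nat_lit 15144) (nat_lit 5991) Col.c (nat_lit 2930) (Dv.wd (nat_lit 34) [Mv.f (nat_lit 9776), Mv.f (nat_lit 13862), Mv.f (nat_lit 15143)]))))
(Tr.nd (nat_lit 15146) (Tr.lf (Fc.ed (nat_lit 15145) (nat_lit 3416) Col.d (nat_lit 5992) Dv.df))
(Tr.nd (nat_lit 15147) (Tr.lf (Fc.ed (nat_lit 15146) (nat_lit 5992) Col.b (nat_lit 5554) (Dv.wd (nat_lit 37) [Mv.b (nat_lit 14190), Mv.f (nat_lit 8693), Mv.f (nat_lit 15145)])))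
(Tr.lf (Fc.ed (nat_lit 15147) (nat_lit 4300) Col.a (nat_lit 5993) Dv.df)))))
(Tr.nd (nat_lit 15151) (Tr.nd (nat_lit 15149) (Tr.lf (Fc.ed (nat_lit 15148) (nat_lit 5993) Col.f (nat_lit 4116) (Dv.wd (nat_lit 35) [Mv.f (nat_lit 11171), Mv.f (nat_lit 11172), Mv.f (nat_lit 15147)])))
(Tr.nd (nat_lit 15150) (Tr.lf (Fc.ed (nat_lit 15149) (nat_lit 5888) Col.c (nat_lit 5994) Dv.df))
(Tr.lf (Fc.ed (nat_lit 15150) (nat_lit 4400) Col.g (nat_lit 5995) Dv.df))))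
(Tr.nd (nat_lit 15152) (Tr.lf (Fc.ed (nat_lit 15151) (nat_lit 5995) Col.g (nat_lit 4315) (Dv.wd (nat_lit 9) [Mv.f (nat_lit 11092), Mv.f (nat_lit 11320), Mv.f (nat_lit 15150)])))
(Tr.nd (nat_lit 15153) (Tr.lf (Fc.ed (nat_lit 15152) (nat_lit 5707) Col.b (nat_lit 5996) Dv.df))
(Tr.lf (Fc.ed (nat_lit 15153) (nat_lit 4308) Col.d (nat_lit 5997) Dv.df))))))))
(Tr.nd (nat_lit 15174) (Tr.nd (nat_lit 15164) (Tr.nd (nat_lit 15159) (Tr.nd (nat_lit 15156) (Tr.nd (nat_lit 15155) (Tr.lf (Fc.ed (nat_lit 15154) (nat_lit 5997) Col.b (nat_lit 3890) (Dv.wd (nat_lit 37) [Mv.b (nat_lit 9578), Mv.b (nat_lit 11079), Mv.f (nat_lit 15153)])))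
(Tr.lf (Fc.ed (nat_lit 15155) (nat_lit 5288) Col.e (nat_lit 5997) (Dv.wd (nat_lit 82) [Mv.f (nat_lit 15154), Mv.f (nat_lit 10162), Mv.b (nat_lit 13605)]))))
(Tr.nd (nat_lit 15157) (Tr.lf (Fc.ed (nat_lit 15156) (nat_lit 3807) Col.gi (nat_lit 5998) Dv.df))
(Tr.nd (nat_lit 15158) (Tr.lf (Fc.ed (nat_lit 15157) (nat_lit 5392) Col.c (nat_lit 5999) Dv.df))
(Tr.lf (Fc.ed (nat_lit 15158) (nat_lit 5999) Col.a (nat_lit 4164) (Dv.wd (nat_lit 19) [Mv.b (nat_lit 10774), Mv.b (nat_lit 13846), Mv.f (nat_lit 15157)]))))))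
(Tr.nd (nat_lit 15161) (Tr.nd (nat_lit 15160) (Tr.lf (Fc.ed (nat_lit 15159) (nat_lit 3904) Col.e (nat_lit 6000) Dv.df))
(Tr.lf (Fc.ed (nat_lit 15160) (nat_lit 5981) Col.b (nat_lit 6001) Dv.df)))
(Tr.nd (nat_lit 15162) (Tr.lf (Fc.ed (nat_lit 15161) (nat_lit 6001) Col.c (nat_lit 5737) (Dv.wd (nat_lit 93) [Mv.f (nat_lit 14582), Mv.f (nat_lit 5836), Mv.b (nat_lit 6768), Mv.b (nat_lit 15125), Mv.f (nat_lit 15160)])))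
(Tr.nd (nat_lit 15163) (Tr.lf (Fc.ed (nat_lit 15162) (nat_lit 5369) Col.d (nat_lit 6002) Dv.df))
(Tr.lf (Fc.ed (nat_lit 15163) (nat_lit 6002) Col.e (nat_lit 5554) (Dv.wd (nat_lit 42) [Mv.b (nat_lit 14190), Mv.b (nat_lit 7585), Mv.f (nat_lit 5481), Mv.f (nat_lit 13800), Mv.f (nat_lit 15162)])))))))
(Tr.nd (nat_lit 15169) (Tr.nd (nat_lit 15166) (Tr.nd (nat_lit 15165) (Tr.lf (Fc.ed (nat_lit 15164) (nat_lit 5487) Col.c (nat_lit 6003) Dv.df))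
(Tr.lf (Fc.ed (nat_lit 15165) (nat_lit 6003) Col.e (nat_lit 2645) (Dv.wd (nat_lit 25) [Mv.f (nat_lit 10485), Mv.f (nat_lit 14069), Mv.f (nat_lit 15164)]))))
(Tr.nd (nat_lit 15167) (Tr.lf (Fc.ed (nat_lit 15166) (nat_lit 2385) Col.gi (nat_lit 6004) Dv.df))
(Tr.nd (nat_lit 15168) (Tr.lf (Fc.ed (nat_lit 15167) (nat_lit 2177) Col.g (nat_lit 6005) Dv.df))
(Tr.lf (Fc.ed (nat_lit 15168) (nat_lit 6005) Col.g (nat_lit 5974) (Dv.wd (nat_lit 9) [Mv.f (nat_lit 15113), Mv.b (nat_lit 10070), Mv.f (nat_lit 15167)]))))))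
(Tr.nd (nat_lit 15171) (Tr.nd (nat_lit 15170) (Tr.lf (Fc.ed (nat_lit 15169) (nat_lit 3815) Col.e (nat_lit 6006) Dv.df))
(Tr.lf (Fc.ed (nat_lit 15170) (nat_lit 6006) Col.a (nat_lit 5156) (Dv.wd (nat_lit 15) [Mv.f (nat_lit 13322), Mv.b (nat_lit 11993), Mv.f (nat_lit 15169)]))))
(Tr.nd (nat_lit 15172) (Tr.lf (Fc.ed (nat_lit 15171) (nat_lit 6006) Col.b (nat_lit 5756) (Dv.wd (nat_lit 49) [Mv.f (nat_lit 14618), Mv.f (nat_lit 9456), Mv.f (nat_lit 15169)])))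
(Tr.nd (nat_lit 15173) (Tr.lf (Fc.ed (nat_lit 15172) (nat_lit 1756) Col.gi (nat_lit 6007) Dv.df))
(Tr.lf (Fc.ed (nat_lit 15173) (nat_lit 6007) Col.gi (nat_lit 4642) (Dv.wd (nat_lit 24) [Mv.b (nat_lit 11762), Mv.f (nat_lit 8610), Mv.f (nat_lit 15172)]))))))))
(Tr.nd (nat_lit 15184) (Tr.nd (nat_lit 15179) (Tr.nd (nat_lit 15176) (Tr.nd (nat_lit 15175) (Tr.lf (Fc.ed (nat_lit 15174) (nat_lit 4769) Col.d (nat_lit 6008) Dv.df))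
(Tr.lf (Fc.ed (nat_lit 15175) (nat_lit 6008) Col.f (nat_lit 4197) (Dv.wd (nat_lit 11) [Mv.b (nat_lit 10832), Mv.f (nat_lit 12497), Mv.f (nat_lit 15174)]))))
(Tr.nd (nat_lit 15177) (Tr.lf (Fc.ed (nat_lit 15176) (nat_lit 5970) Col.c (nat_lit 6009) Dv.df))
(Tr.nd (nat_lit 15178) (Tr.lf (Fc.ed (nat_lit 15177) (nat_lit 2759) Col.g (nat_lit 6010) Dv.df))
(Tr.lf (Fc.ed (nat_lit 15178) (nat_lit 6010) Col.g (nat_lit 5370) (Dv.wd (nat_lit 9) [Mv.b (nat_lit 13802), Mv.f (nat_lit 7851), Mv.f (nat_lit 15177)]))))))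
(Tr.nd (nat_lit 15181) (Tr.nd (nat_lit 15180) (Tr.lf (Fc.ed (nat_lit 15179) (nat_lit 6010) Col.a (nat_lit 6011) Dv.df))
(Tr.lf (Fc.ed (nat_lit 15180) (nat_lit 6011) Col.f (nat_lit 5970) (Dv.wd (nat_lit 10) [Mv.f (nat_lit 15105), Mv.f (nat_lit 15177), Mv.f (nat_lit 15179)]))))
(Tr.nd (nat_lit 15182) (Tr.lf (Fc.ed (nat_lit 15181) (nat_lit 5647) Col.gi (nat_lit 6012) Dv.df))
(Tr.nd (nat_lit 15183) (Tr.lf (Fc.ed (nat_lit 15182) (nat_lit 6012) Col.d (nat_lit 4671) (Dv.wd (nat_lit 48) [Mv.b (nat_lit 11814), Mv.b (nat_lit 10899), Mv.b (nat_lit 14682), Mv.f (nat_lit 13276), Mv.f (nat_lit 14665), Mv.b (nat_lit 5392), Mv.f (nat_lit 14690), Mv.f (nat_lit 14691), Mv.f (nat_lit 15181)])))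
(Tr.lf (Fc.ed (nat_lit 15183) (nat_lit 4558) Col.gi (nat_lit 6013) Dv.df))))))
(Tr.nd (nat_lit 15189) (Tr.nd (nat_lit 15186) (Tr.nd (nat_lit 15185) (Tr.lf (Fc.ed (nat_lit 15184) (nat_lit 6013) Col.gi (nat_lit 4014) (Dv.wd (nat_lit 24) [Mv.f (nat_lit 9826), Mv.f (nat_lit 11606), Mv.f (nat_lit 15183)])))
(Tr.lf (Fc.ed (nat_lit 15185) (nat_lit 5683) Col.e (nat_lit 6014) Dv.df)))
(Tr.nd (nat_lit 15187) (Tr.lf (Fc.ed (nat_lit 15186) (nat_lit 6014) Col.a (nat_lit 4729) (Dv.wd (nat_lit 15) [Mv.b (nat_lit 13038), Mv.f (nat_lit 14436), Mv.f (nat_lit 15185)])))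
(Tr.nd (nat_lit 15188) (Tr.lf (Fc.ed (nat_lit 15187) (nat_lit 6014) Col.f (nat_lit 5600) (Dv.wd (nat_lit 96) [Mv.f (nat_lit 14278), Mv.f (nat_lit 14213), Mv.b (nat_lit 13787), Mv.b (nat_lit 14437), Mv.f (nat_lit 15185)])))
(Tr.lf (Fc.ed (nat_lit 15188) (nat_lit 5526) Col.b (nat_lit 6015) Dv.df)))))
(Tr.nd (nat_lit 15192) (Tr.nd (nat_lit 15190) (Tr.lf (Fc.ed (nat_lit 15189) (nat_lit 5115) Col.gi (nat_lit 6016) Dv.df))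
(Tr.nd (nat_lit 15191) (Tr.lf (Fc.ed (nat_lit 15190) (nat_lit 4448) Col.a (nat_lit 6017) Dv.df))
(Tr.lf (Fc.ed (nat_lit 15191) (nat_lit 5939) Col.f (nat_lit 6018) Dv.df))))
(Tr.nd (nat_lit 15193) (Tr.lf (Fc.ed (nat_lit 15192) (nat_lit 6018) Col.a (nat_lit 4165) (Dv.wd (nat_lit 16) [Mv.f (nat_lit 10778), Mv.f (nat_lit 15020), Mv.f (nat_lit 15191)])))
(Tr.nd (nat_lit 15194) (Tr.lf (Fc.ed (nat_lit 15193) (nat_lit 6018) Col.c (nat_lit 5683) (Dv.wd (nat_lit 34) [Mv.f (nat_lit 14437), Mv.b (nat_lit 15021), Mv.f (nat_lit 15191)])))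
(Tr.lf (Fc.ed (nat_lit 15194) (nat_lit 5107) Col.c (nat_lit 6019) Dv.df)))))))))
(Tr.nd (nat_lit 15236) (Tr.nd (nat_lit 15215) (Tr.nd (nat_lit 15205) (Tr.nd (nat_lit 15200) (Tr.nd (nat_lit 15197) (Tr.nd (nat_lit 15196) (Tr.lf (Fc.ed (nat_lit 15195) (nat_lit 3262) Col.e (nat_lit 6020) Dv.df))
(Tr.lf (Fc.ed (nat_lit 15196) (nat_lit 5400) Col.f (nat_lit 6021) Dv.df)))
(Tr.nd (nat_lit 15198) (Tr.lf (Fc.ed (nat_lit 15197) (nat_lit 6021) Col.a (nat_lit 2946) (Dv.wd (nat_lit 16) [Mv.b (nat_lit 8038), Mv.f (nat_lit 13860), Mv.f (nat_lit 15196)])))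
(Tr.nd (nat_lit 15199) (Tr.lf (Fc.ed (nat_lit 15198) (nat_lit 6021) Col.d (nat_lit 5661) (Dv.wd (nat_lit 21) [Mv.f (nat_lit 14401), Mv.f (nat_lit 14017), Mv.f (nat_lit 15196)])))
(Tr.lf (Fc.ed (nat_lit 15199) (nat_lit 5262) Col.gi (nat_lit 6022) Dv.df)))))
(Tr.nd (nat_lit 15202) (Tr.nd (nat_lit 15201) (Tr.lf (Fc.ed (nat_lit 15200) (nat_lit 6022) Col.gi (nat_lit 3876) (Dv.wd (nat_lit 24) [Mv.f (nat_lit 12974), Mv.b (nat_lit 13555), Mv.f (nat_lit 15199)])))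
(Tr.lf (Fc.ed (nat_lit 15201) (nat_lit 5661) Col.b (nat_lit 6023) Dv.df)))
(Tr.nd (nat_lit 15203) (Tr.lf (Fc.ed (nat_lit 15202) (nat_lit 6023) Col.a (nat_lit 5777) (Dv.wd (nat_lit 98) [Mv.b (nat_lit 14683), Mv.f (nat_lit 3564), Mv.f (nat_lit 7337), Mv.f (nat_lit 14399), Mv.f (nat_lit 15201)])))
(Tr.nd (nat_lit 15204) (Tr.lf (Fc.ed (nat_lit 15203) (nat_lit 5979) Col.gi (nat_lit 6024) Dv.df))
(Tr.lf (Fc.ed (nat_lit 15204) (nat_lit 6024) Col.f (nat_lit 5955) (Dv.wd (nat_lit 13) [Mv.f (nat_lit 15053), Mv.f (nat_lit 15122), Mv.f (nat_lit 15203)])))))))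
(Tr.nd (nat_lit 15210) (Tr.nd (nat_lit 15207) (Tr.nd (nat_lit 15206) (Tr.lf (Fc.ed (nat_lit 15205) (nat_lit 4673) Col.c (nat_lit 6025) Dv.df))
(Tr.lf (Fc.ed (nat_lit 15206) (nat_lit 5590) Col.f (nat_lit 6026) Dv.df)))
(Tr.nd (nat_lit 15208) (Tr.lf (Fc.ed (nat_lit 15207) (nat_lit 6026) Col.c (nat_lit 5828) (Dv.wd (nat_lit 34) [Mv.b (nat_lit 14777), Mv.f (nat_lit 14586), Mv.f (nat_lit 15206)])))
(Tr.nd (nat_lit 15209) (Tr.lf (Fc.ed (nat_lit 15208) (nat_lit 4571) Col.a (nat_lit 6027) Dv.df))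
(Tr.lf (Fc.ed (nat_lit 15209) (nat_lit 6027) Col.b (nat_lit 5974) (Dv.wd (nat_lit 65) [Mv.f (nat_lit 15113), Mv.b (nat_lit 5682), Mv.b (nat_lit 10044), Mv.f (nat_lit 11630), Mv.f (nat_lit 15208)]))))))
(Tr.nd (nat_lit 15212) (Tr.nd (nat_lit 15211) (Tr.lf (Fc.ed (nat_lit 15210) (nat_lit 3874) Col.b (nat_lit 6028) Dv.df))
(Tr.lf (Fc.ed (nat_lit 15211) (nat_lit 6028) Col.d (nat_lit 5715) (Dv.wd (nat_lit 58) [Mv.f (nat_lit 14543), Mv.f (nat_lit 10674), Mv.f (nat_lit 15210)]))))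
(Tr.nd (nat_lit 15213) (Tr.lf (Fc.ed (nat_lit 15212) (nat_lit 6028) Col.e (nat_lit 5268) (Dv.wd (nat_lit 52) [Mv.f (nat_lit 13569), Mv.f (nat_lit 9555), Mv.f (nat_lit 15210)])))
(Tr.nd (nat_lit 15214) (Tr.lf (Fc.ed (nat_lit 15213) (nat_lit 3760) Col.gi (nat_lit 6029) Dv.df))
(Tr.lf (Fc.ed (nat_lit 15214) (nat_lit 6029) Col.gi (nat_lit 5159) (Dv.wd (nat_lit 24) [Mv.f (nat_lit 13331), Mv.b (nat_lit 11303), Mv.f (nat_lit 15213)]))))))))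
(Tr.nd (nat_lit 15225) (Tr.nd (nat_lit 15220) (Tr.nd (nat_lit 15217) (Tr.nd (nat_lit 15216) (Tr.lf (Fc.ed (nat_lit 15215) (nat_lit 4137) Col.b (nat_lit 6030) Dv.df))
(Tr.lf (Fc.ed (nat_lit 15216) (nat_lit 4643) Col.gi (nat_lit 6031) Dv.df)))
(Tr.nd (nat_lit 15218) (Tr.lf (Fc.ed (nat_lit 15217) (nat_lit 2662) Col.gi (nat_lit 6032) Dv.df))
(Tr.nd (nat_lit 15219) (Tr.lf (Fc.ed (nat_lit 15218) (nat_lit 6032) Col.gi (nat_lit 5306) (Dv.wd (nat_lit 24) [Mv.b (nat_lit 13644), Mv.b (nat_lit 9162), Mv.f (nat_lit 15217)])))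
(Tr.lf (Fc.ed (nat_lit 15219) (nat_lit 5950) Col.f (nat_lit 6033) Dv.df)))))
(Tr.nd (nat_lit 15222) (Tr.nd (nat_lit 15221) (Tr.lf (Fc.ed (nat_lit 15220) (nat_lit 6033) Col.b (nat_lit 3689) (Dv.wd (nat_lit 66) [Mv.b (nat_lit 9841), Mv.f (nat_lit 15039), Mv.f (nat_lit 15219)])))
(Tr.lf (Fc.ed (nat_lit 15221) (nat_lit 3095) Col.e (nat_lit 6034) Dv.df)))
(Tr.nd (nat_lit 15223) (Tr.lf (Fc.ed (nat_lit 15222) (nat_lit 4799) Col.g (nat_lit 6035) Dv.df))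
(Tr.nd (nat_lit 15224) (Tr.lf (Fc.ed (nat_lit 15223) (nat_lit 6035) Col.g (nat_lit 3868) (Dv.wd (nat_lit 9) [Mv.f (nat_lit 10620), Mv.f (nat_lit 12559), Mv.f (nat_lit 15222)])))
(Tr.lf (Fc.ed (nat_lit 15224) (nat_lit 3701) Col.gi (nat_lit 6036) Dv.df))))))
(Tr.nd (nat_lit 15230) (Tr.nd (nat_lit 15227) (Tr.nd (nat_lit 15226) (Tr.lf (Fc.ed (nat_lit 15225) (nat_lit 6036) Col.gi (nat_lit 4127) (Dv.wd (nat_lit 24) [Mv.f (nat_lit 10625), Mv.f (nat_lit 9246), Mv.f (nat_lit 15224)])))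
(Tr.lf (Fc.ed (nat_lit 15226) (nat_lit 1882) Col.e (nat_lit 6037) Dv.df)))
(Tr.nd (nat_lit 15228) (Tr.lf (Fc.ed (nat_lit 15227) (nat_lit 6037) Col.a (nat_lit 5871) (Dv.wd (nat_lit 15) [Mv.b (nat_lit 14870), Mv.b (nat_lit 12255), Mv.f (nat_lit 15226)])))
(Tr.nd (nat_lit 15229) (Tr.lf (Fc.ed (nat_lit 15228) (nat_lit 6037) Col.d (nat_lit 5309) (Dv.wd (nat_lit 59) [Mv.b (nat_lit 13667), Mv.f (nat_lit 12110), Mv.f (nat_lit 12443), Mv.b (nat_lit 12256), Mv.f (nat_lit 15226)])))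
(Tr.lf (Fc.ed (nat_lit 15229) (nat_lit 5433) Col.gi (nat_lit 6038) Dv.df)))))
(Tr.nd (nat_lit 15233) (Tr.nd (nat_lit 15231) (Tr.lf (Fc.ed (nat_lit 15230) (nat_lit 6038) Col.gi (nat_lit 2566) (Dv.wd (nat_lit 24) [Mv.f (nat_lit 12671), Mv.b (nat_lit 13967), Mv.f (nat_lit 15229)])))
(Tr.nd (nat_lit 15232) (Tr.lf (Fc.ed (nat_lit 15231) (nat_lit 3706) Col.c (nat_lit 6039) Dv.df))
(Tr.lf (Fc.ed (nat_lit 15232) (nat_lit 5700) Col.b (nat_lit 6040) Dv.df))))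
(Tr.nd (nat_lit 15234) (Tr.lf (Fc.ed (nat_lit 15233) (nat_lit 5752) Col.g (nat_lit 6041) Dv.df))
(Tr.nd (nat_lit 15235) (Tr.lf (Fc.ed (nat_lit 15234) (nat_lit 6041) Col.g (nat_lit 2413) (Dv.wd (nat_lit 9) [Mv.b (nat_lit 11700), Mv.b (nat_lit 14611), Mv.f (nat_lit 15233)])))
(Tr.lf (Fc.ed (nat_lit 15235) (nat_lit 5759) Col.gi (nat_lit 6042) Dv.df))))))))
(Tr.nd (nat_lit 15256) (Tr.nd (nat_lit 15246) (Tr.nd (nat_lit 15241) (Tr.nd (nat_lit 15238) (Tr.nd (nat_lit 15237) (Tr.lf (Fc.ed (nat_lit 15236) (nat_lit 4372) Col.a (nat_lit 6043) Dv.df))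
(Tr.lf (Fc.ed (nat_lit 15237) (nat_lit 6043) Col.f (nat_lit 4705) (Dv.wd (nat_lit 10) [Mv.f (nat_lit 11882), Mv.b (nat_lit 11268), Mv.f (nat_lit 15236)]))))
(Tr.nd (nat_lit 15239) (Tr.lf (Fc.ed (nat_lit 15238) (nat_lit 5573) Col.g (nat_lit 6044) Dv.df))
(Tr.nd (nat_lit 15240) (Tr.lf (Fc.ed (nat_lit 15239) (nat_lit 6044) Col.g (nat_lit 3992) (Dv.wd (nat_lit 9) [Mv.b (nat_lit 13564), Mv.f (nat_lit 14228), Mv.f (nat_lit 15238)])))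
(Tr.lf (Fc.ed (nat_lit 15240) (nat_lit 5679) Col.a (nat_lit 6045) Dv.df)))))
(Tr.nd (nat_lit 15243) (Tr.nd (nat_lit 15242) (Tr.lf (Fc.ed (nat_lit 15241) (nat_lit 4453) Col.gi (nat_lit 6046) Dv.df))
(Tr.lf (Fc.ed (nat_lit 15242) (nat_lit 5378) Col.gi (nat_lit 6047) Dv.df)))
(Tr.nd (nat_lit 15244) (Tr.lf (Fc.ed (nat_lit 15243) (nat_lit 4073) Col.g (nat_lit 6048) Dv.df))
(Tr.nd (nat_lit 15245) (Tr.lf (Fc.ed (nat_lit 15244) (nat_lit 6048) Col.g (nat_lit 5076) (Dv.wd (nat_lit 9) [Mv.f (nat_lit 13163), Mv.b (nat_lit 9937), Mv.f (nat_lit 15243)])))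
(Tr.lf (Fc.ed (nat_lit 15245) (nat_lit 5992) Col.e (nat_lit 6049) Dv.df))))))
(Tr.nd (nat_lit 15251) (Tr.nd (nat_lit 15248) (Tr.nd (nat_lit 15247) (Tr.lf (Fc.ed (nat_lit 15246) (nat_lit 6049) Col.b (nat_lit 6002) (Dv.wd (nat_lit 49) [Mv.f (nat_lit 15163), Mv.b (nat_lit 15146), Mv.f (nat_lit 15245)])))
(Tr.lf (Fc.ed (nat_lit 15247) (nat_lit 6049) Col.d (nat_lit 5659) (Dv.wd (nat_lit 59) [Mv.b (nat_lit 14397), Mv.b (nat_lit 8823), Mv.b (nat_lit 8694), Mv.f (nat_lit 15145), Mv.f (nat_lit 15245)]))))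
(Tr.nd (nat_lit 15249) (Tr.lf (Fc.ed (nat_lit 15248) (nat_lit 5555) Col.d (nat_lit 6050) Dv.df))
(Tr.nd (nat_lit 15250) (Tr.lf (Fc.ed (nat_lit 15249) (nat_lit 6050) Col.e (nat_lit 4590) (Dv.wd (nat_lit 42) [Mv.b (nat_lit 11667), Mv.b (nat_lit 9963), Mv.b (nat_lit 9754), Mv.f (nat_lit 14191), Mv.f (nat_lit 15248)])))
(Tr.lf (Fc.ed (nat_lit 15250) (nat_lit 4978) Col.b (nat_lit 6051) Dv.df)))))
(Tr.nd (nat_lit 15253) (Tr.nd (nat_lit 15252) (Tr.lf (Fc.ed (nat_lit 15251) (nat_lit 5656) Col.d (nat_lit 6052) Dv.df))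
(Tr.lf (Fc.ed (nat_lit 15252) (nat_lit 6052) Col.f (nat_lit 4499) (Dv.wd (nat_lit 11) [Mv.b (nat_lit 12351), Mv.f (nat_lit 14392), Mv.f (nat_lit 15251)]))))
(Tr.nd (nat_lit 15254) (Tr.lf (Fc.ed (nat_lit 15253) (nat_lit 5379) Col.e (nat_lit 6053) Dv.df))
(Tr.nd (nat_lit 15255) (Tr.lf (Fc.ed (nat_lit 15254) (nat_lit 5945) Col.gi (nat_lit 6054) Dv.df))
(Tr.lf (Fc.ed (nat_lit 15255) (nat_lit 5168) Col.d (nat_lit 6055) Dv.df)))))))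
(Tr.nd (nat_lit 15266) (Tr.nd (nat_lit 15261) (Tr.nd (nat_lit 15258) (Tr.nd (nat_lit 15257) (Tr.lf (Fc.ed (nat_lit 15256) (nat_lit 5933) Col.a (nat_lit 6056) Dv.df))
(Tr.lf (Fc.ed (nat_lit 15257) (nat_lit 6056) Col.e (nat_lit 2992) (Dv.wd (nat_lit 56) [Mv.b (nat_lit 7810), Mv.f (nat_lit 15008), Mv.f (nat_lit 15256)]))))
(Tr.nd (nat_lit 15259) (Tr.lf (Fc.ed (nat_lit 15258) (nat_lit 5693) Col.b (nat_lit 6057) Dv.df))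
(Tr.nd (nat_lit 15260) (Tr.lf (Fc.ed (nat_lit 15259) (nat_lit 6057) Col.f (nat_lit 4882) (Dv.wd (nat_lit 20) [Mv.b (nat_lit 12719), Mv.f (nat_lit 14450), Mv.f (nat_lit 15258)])))
(Tr.lf (Fc.ed (nat_lit 15260) (nat_lit 5756) Col.d (nat_lit 6058) Dv.df)))))
(Tr.nd (nat_lit 15263) (Tr.nd (nat_lit 15262) (Tr.lf (Fc.ed (nat_lit 15261) (nat_lit 6058) Col.a (nat_lit 4651) (Dv.wd (nat_lit 8) [Mv.b (nat_lit 12450), Mv.f (nat_lit 14617), Mv.f (nat_lit 15260)])))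
(Tr.lf (Fc.ed (nat_lit 15262) (nat_lit 4923) Col.b (nat_lit 6059) Dv.df)))
(Tr.nd (nat_lit 15264) (Tr.lf (Fc.ed (nat_lit 15263) (nat_lit 6059) Col.d (nat_lit 3995) (Dv.wd (nat_lit 58) [Mv.f (nat_lit 9794), Mv.b (nat_lit 12802), Mv.f (nat_lit 15262)])))
(Tr.nd (nat_lit 15265) (Tr.lf (Fc.ed (nat_lit 15264) (nat_lit 1911) Col.e (nat_lit 6060) Dv.df))
(Tr.lf (Fc.ed (nat_lit 15265) (nat_lit 6060) Col.a (nat_lit 6020) (Dv.wd (nat_lit 15) [Mv.b (nat_lit 15195), Mv.b (nat_lit 8379), Mv.f (nat_lit 15264)])))))))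
(Tr.nd (nat_lit 15271) (Tr.nd (nat_lit 15268) (Tr.nd (nat_lit 15267) (Tr.lf (Fc.ed (nat_lit 15266) (nat_lit 3533) Col.b (nat_lit 6061) Dv.df))
(Tr.lf (Fc.ed (nat_lit 15267) (nat_lit 5268) Col.f (nat_lit 6062) Dv.df)))
(Tr.nd (nat_lit 15269) (Tr.lf (Fc.ed (nat_lit 15268) (nat_lit 6062) Col.b (nat_lit 3262) (Dv.wd (nat_lit 66) [Mv.f (nat_lit 8380), Mv.b (nat_lit 13569), Mv.f (nat_lit 15267)])))
(Tr.nd (nat_lit 15270) (Tr.lf (Fc.ed (nat_lit 15269) (nat_lit 4210) Col.c (nat_lit 6063) Dv.df))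
(Tr.lf (Fc.ed (nat_lit 15270) (nat_lit 6063) Col.f (nat_lit 4164) (Dv.wd (nat_lit 26) [Mv.b (nat_lit 10774), Mv.f (nat_lit 10856), Mv.f (nat_lit 15269)]))))))
(Tr.nd (nat_lit 15274) (Tr.nd (nat_lit 15272) (Tr.lf (Fc.ed (nat_lit 15271) (nat_lit 5839) Col.e (nat_lit 6064) Dv.df))
(Tr.nd (nat_lit 15273) (Tr.lf (Fc.ed (nat_lit 15272) (nat_lit 6064) Col.c (nat_lit 3066) (Dv.wd (nat_lit 18) [Mv.f (nat_lit 7979), Mv.b (nat_lit 14793), Mv.f (nat_lit 15271)])))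
(Tr.lf (Fc.ed (nat_lit 15273) (nat_lit 6021) Col.gi (nat_lit 6065) Dv.df))))
(Tr.nd (nat_lit 15275) (Tr.lf (Fc.ed (nat_lit 15274) (nat_lit 5801) Col.g (nat_lit 6066) Dv.df))
(Tr.nd (nat_lit 15276) (Tr.lf (Fc.ed (nat_lit 15275) (nat_lit 6066) Col.g (nat_lit 5875) (Dv.wd (nat_lit 9) [Mv.b (nat_lit 14876), Mv.f (nat_lit 14731), Mv.f (nat_lit 15274)])))
(Tr.lf (Fc.ed (nat_lit 15276) (nat_lit 2340) Col.e (nat_lit 6067) Dv.df))))))))))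
(Tr.nd (nat_lit 15359) (Tr.nd (nat_lit 15318) (Tr.nd (nat_lit 15297) (Tr.nd (nat_lit 15287) (Tr.nd (nat_lit 15282) (Tr.nd (nat_lit 15279) (Tr.nd (nat_lit 15278) (Tr.lf (Fc.ed (nat_lit 15277) (nat_lit 3855) Col.b (nat_lit 6068) Dv.df))
(Tr.lf (Fc.ed (nat_lit 15278) (nat_lit 6068) Col.f (nat_lit 4832) (Dv.wd (nat_lit 20) [Mv.b (nat_lit 12619), Mv.b (nat_lit 9525), Mv.f (nat_lit 15277)]))))
(Tr.nd (nat_lit 15280) (Tr.lf (Fc.ed (nat_lit 15279) (nat_lit 5619) Col.c (nat_lit 6068) (Dv.wd (nat_lit 67) [Mv.f (nat_lit 15278), Mv.f (nat_lit 12620), Mv.f (nat_lit 14317)])))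
(Tr.nd (nat_lit 15281) (Tr.lf (Fc.ed (nat_lit 15280) (nat_lit 5646) Col.a (nat_lit 6069) Dv.df))
(Tr.lf (Fc.ed (nat_lit 15281) (nat_lit 6069) Col.f (nat_lit 3896) (Dv.wd (nat_lit 35) [Mv.b (nat_lit 14742), Mv.b (nat_lit 14741), Mv.f (nat_lit 15280)]))))))
(Tr.nd (nat_lit 15284) (Tr.nd (nat_lit 15283) (Tr.lf (Fc.ed (nat_lit 15282) (nat_lit 5743) Col.c (nat_lit 6069) (Dv.wd (nat_lit 67) [Mv.f (nat_lit 15281), Mv.f (nat_lit 11078), Mv.b (nat_lit 14594)])))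
(Tr.lf (Fc.ed (nat_lit 15283) (nat_lit 5869) Col.d (nat_lit 6070) Dv.df)))
(Tr.nd (nat_lit 15285) (Tr.lf (Fc.ed (nat_lit 15284) (nat_lit 6070) Col.e (nat_lit 3059) (Dv.wd (nat_lit 70) [Mv.b (nat_lit 7964), Mv.b (nat_lit 6362), Mv.f (nat_lit 6361), Mv.f (nat_lit 5614), Mv.f (nat_lit 10217), Mv.f (nat_lit 11768), Mv.f (nat_lit 14073), Mv.f (nat_lit 14204), Mv.f (nat_lit 14868), Mv.f (nat_lit 15283)])))
(Tr.nd (nat_lit 15286) (Tr.lf (Fc.ed (nat_lit 15285) (nat_lit 3891) Col.a (nat_lit 6071) Dv.df))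
(Tr.lf (Fc.ed (nat_lit 15286) (nat_lit 6071) Col.f (nat_lit 4404) (Dv.wd (nat_lit 10) [Mv.f (nat_lit 11330), Mv.b (nat_lit 9580), Mv.f (nat_lit 15285)])))))))
(Tr.nd (nat_lit 15292) (Tr.nd (nat_lit 15289) (Tr.nd (nat_lit 15288) (Tr.lf (Fc.ed (nat_lit 15287) (nat_lit 5595) Col.b (nat_lit 6072) Dv.df))
(Tr.lf (Fc.ed (nat_lit 15288) (nat_lit 6072) Col.a (nat_lit 6030) (Dv.wd (nat_lit 98) [Mv.b (nat_lit 15215), Mv.b (nat_lit 10699), Mv.b (nat_lit 9071), Mv.f (nat_lit 14269), Mv.f (nat_lit 15287)]))))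
(Tr.nd (nat_lit 15290) (Tr.lf (Fc.ed (nat_lit 15289) (nat_lit 5885) Col.b (nat_lit 6073) Dv.df))
(Tr.nd (nat_lit 15291) (Tr.lf (Fc.ed (nat_lit 15290) (nat_lit 6073) Col.e (nat_lit 3423) (Dv.wd (nat_lit 52) [Mv.b (nat_lit 8710), Mv.b (nat_lit 14894), Mv.f (nat_lit 15289)])))
(Tr.lf (Fc.ed (nat_lit 15291) (nat_lit 6067) Col.a (nat_lit 6074) Dv.df)))))
(Tr.nd (nat_lit 15294) (Tr.nd (nat_lit 15293) (Tr.lf (Fc.ed (nat_lit 15292) (nat_lit 6074) Col.e (nat_lit 2292) (Dv.wd (nat_lit 56) [Mv.f (nat_lit 10427), Mv.f (nat_lit 15276), Mv.f (nat_lit 15291)])))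
(Tr.lf (Fc.ed (nat_lit 15293) (nat_lit 4924) Col.d (nat_lit 6075) Dv.df)))
(Tr.nd (nat_lit 15295) (Tr.lf (Fc.ed (nat_lit 15294) (nat_lit 4461) Col.f (nat_lit 6076) Dv.df))
(Tr.nd (nat_lit 15296) (Tr.lf (Fc.ed (nat_lit 15295) (nat_lit 6076) Col.a (nat_lit 4243) (Dv.wd (nat_lit 16) [Mv.b (nat_lit 13184), Mv.b (nat_lit 13183), Mv.f (nat_lit 15294)])))
(Tr.lf (Fc.ed (nat_lit 15296) (nat_lit 5940) Col.f (nat_lit 6077) Dv.df)))))))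
(Tr.nd (nat_lit 15307) (Tr.nd (nat_lit 15302) (Tr.nd (nat_lit 15299) (Tr.nd (nat_lit 15298) (Tr.lf (Fc.ed (nat_lit 15297) (nat_lit 6077) Col.a (nat_lit 5628) (Dv.wd (nat_lit 16) [Mv.b (nat_lit 14335), Mv.f (nat_lit 15023), Mv.f (nat_lit 15296)])))
(Tr.lf (Fc.ed (nat_lit 15298) (nat_lit 6077) Col.c (nat_lit 2651) (Dv.wd (nat_lit 34) [Mv.f (nat_lit 9165), Mv.b (nat_lit 15024), Mv.f (nat_lit 15296)]))))
(Tr.nd (nat_lit 15300) (Tr.lf (Fc.ed (nat_lit 15299) (nat_lit 5890) Col.g (nat_lit 6078) Dv.df))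
(Tr.nd (nat_lit 15301) (Tr.lf (Fc.ed (nat_lit 15300) (nat_lit 5832) Col.d (nat_lit 6079) Dv.df))
(Tr.lf (Fc.ed (nat_lit 15301) (nat_lit 6079) Col.b (nat_lit 4620) (Dv.wd (nat_lit 37) [Mv.f (nat_lit 11721), Mv.b (nat_lit 14784), Mv.f (nat_lit 15300)]))))))
(Tr.nd (nat_lit 15304) (Tr.nd (nat_lit 15303) (Tr.lf (Fc.ed (nat_lit 15302) (nat_lit 3074) Col.e (nat_lit 6080) Dv.df))
(Tr.lf (Fc.ed (nat_lit 15303) (nat_lit 6080) Col.c (nat_lit 5756) (Dv.wd (nat_lit 18) [Mv.f (nat_lit 14618), Mv.f (nat_lit 10136), Mv.f (nat_lit 15302)]))))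
(Tr.nd (nat_lit 15305) (Tr.lf (Fc.ed (nat_lit 15304) (nat_lit 2177) Col.a (nat_lit 6081) Dv.df))
(Tr.nd (nat_lit 15306) (Tr.lf (Fc.ed (nat_lit 15305) (nat_lit 6081) Col.c (nat_lit 6081) (Dv.wd (nat_lit 33) [Mv.b (nat_lit 15304), Mv.f (nat_lit 6023), Mv.f (nat_lit 15304)])))
(Tr.lf (Fc.ed (nat_lit 15306) (nat_lit 6081) Col.f (nat_lit 5974) (Dv.wd (nat_lit 35) [Mv.f (nat_lit 15113), Mv.b (nat_lit 10070), Mv.f (nat_lit 15304)])))))))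
(Tr.nd (nat_lit 15312) (Tr.nd (nat_lit 15309) (Tr.nd (nat_lit 15308) (Tr.lf (Fc.ed (nat_lit 15307) (nat_lit 4146) Col.b (nat_lit 6082) Dv.df))
(Tr.lf (Fc.ed (nat_lit 15308) (nat_lit 6010) Col.b (nat_lit 6083) Dv.df)))
(Tr.nd (nat_lit 15310) (Tr.lf (Fc.ed (nat_lit 15309) (nat_lit 5190) Col.gi (nat_lit 6084) Dv.df))
(Tr.nd (nat_lit 15311) (Tr.lf (Fc.ed (nat_lit 15310) (nat_lit 6084) Col.b (nat_lit 3451) (Dv.wd (nat_lit 154) [Mv.b (nat_lit 8764), Mv.b (nat_lit 5230), Mv.b (nat_lit 3243), Mv.b (nat_lit 3241), Mv.b (nat_lit 1116), Mv.f (nat_lit 4690), Mv.f (nat_lit 11854), Mv.b (nat_lit 15001), Mv.b (nat_lit 15000), Mv.f (nat_lit 15309)])))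
(Tr.lf (Fc.ed (nat_lit 15311) (nat_lit 5874) Col.gi (nat_lit 6085) Dv.df)))))
(Tr.nd (nat_lit 15315) (Tr.nd (nat_lit 15313) (Tr.lf (Fc.ed (nat_lit 15312) (nat_lit 6085) Col.d (nat_lit 5906) (Dv.wd (nat_lit 48) [Mv.f (nat_lit 15120), Mv.f (nat_lit 15118), Mv.f (nat_lit 8172), Mv.b (nat_lit 14954), Mv.f (nat_lit 8197), Mv.b (nat_lit 8671), Mv.f (nat_lit 14785), Mv.b (nat_lit 14875), Mv.f (nat_lit 15311)])))
(Tr.nd (nat_lit 15314) (Tr.lf (Fc.ed (nat_lit 15313) (nat_lit 5795) Col.a (nat_lit 6085) (Dv.wd (nat_lit 54) [Mv.f (nat_lit 15312), Mv.b (nat_lit 14998), Mv.f (nat_lit 14721)])))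
(Tr.lf (Fc.ed (nat_lit 15314) (nat_lit 5449) Col.b (nat_lit 6086) Dv.df))))
(Tr.nd (nat_lit 15316) (Tr.lf (Fc.ed (nat_lit 15315) (nat_lit 6086) Col.d (nat_lit 4222) (Dv.wd (nat_lit 58) [Mv.f (nat_lit 12983), Mv.f (nat_lit 13999), Mv.f (nat_lit 15314)])))
(Tr.nd (nat_lit 15317) (Tr.lf (Fc.ed (nat_lit 15316) (nat_lit 3918) Col.e (nat_lit 6087) Dv.df))
(Tr.lf (Fc.ed (nat_lit 15317) (nat_lit 3903) Col.f (nat_lit 6088) Dv.df))))))))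
(Tr.nd (nat_lit 15338) (Tr.nd (nat_lit 15328) (Tr.nd (nat_lit 15323) (Tr.nd (nat_lit 15320) (Tr.nd (nat_lit 15319) (Tr.lf (Fc.ed (nat_lit 15318) (nat_lit 6088) Col.b (nat_lit 4830) (Dv.wd (nat_lit 66) [Mv.f (nat_lit 12615), Mv.b (nat_lit 9601), Mv.f (nat_lit 15317)])))
(Tr.lf (Fc.ed (nat_lit 15319) (nat_lit 6088) Col.e (nat_lit 5822) (Dv.wd (nat_lit 22) [Mv.f (nat_lit 14771), Mv.f (nat_lit 13546), Mv.f (nat_lit 8909), Mv.f (nat_lit 9600), Mv.f (nat_lit 15317)]))))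
(Tr.nd (nat_lit 15321) (Tr.lf (Fc.ed (nat_lit 15320) (nat_lit 4929) Col.f (nat_lit 6089) Dv.df))
(Tr.nd (nat_lit 15322) (Tr.lf (Fc.ed (nat_lit 15321) (nat_lit 6089) Col.a (nat_lit 2614) (Dv.wd (nat_lit 16) [Mv.b (nat_lit 8047), Mv.f (nat_lit 12815), Mv.f (nat_lit 15320)])))
(Tr.lf (Fc.ed (nat_lit 15322) (nat_lit 6080) Col.a (nat_lit 6090) Dv.df)))))
(Tr.nd (nat_lit 15325) (Tr.nd (nat_lit 15324) (Tr.lf (Fc.ed (nat_lit 15323) (nat_lit 6090) Col.c (nat_lit 4486) (Dv.wd (nat_lit 33) [Mv.f (nat_lit 14617), Mv.b (nat_lit 15303), Mv.f (nat_lit 15322)])))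
(Tr.lf (Fc.ed (nat_lit 15324) (nat_lit 6090) Col.e (nat_lit 2183) (Dv.wd (nat_lit 56) [Mv.b (nat_lit 11971), Mv.f (nat_lit 15302), Mv.f (nat_lit 15322)]))))
(Tr.nd (nat_lit 15326) (Tr.lf (Fc.ed (nat_lit 15325) (nat_lit 5247) Col.c (nat_lit 6091) Dv.df))
(Tr.nd (nat_lit 15327) (Tr.lf (Fc.ed (nat_lit 15326) (nat_lit 6091) Col.a (nat_lit 5976) (Dv.wd (nat_lit 19) [Mv.b (nat_lit 15115), Mv.b (nat_lit 13950), Mv.f (nat_lit 15325)])))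
(Tr.lf (Fc.ed (nat_lit 15327) (nat_lit 6091) Col.e (nat_lit 5909) (Dv.wd (nat_lit 25) [Mv.b (nat_lit 14945), Mv.b (nat_lit 13827), Mv.f (nat_lit 15325)])))))))
(Tr.nd (nat_lit 15333) (Tr.nd (nat_lit 15330) (Tr.nd (nat_lit 15329) (Tr.lf (Fc.ed (nat_lit 15328) (nat_lit 2825) Col.g (nat_lit 6092) Dv.df))
(Tr.lf (Fc.ed (nat_lit 15329) (nat_lit 6092) Col.g (nat_lit 4886) (Dv.wd (nat_lit 9) [Mv.f (nat_lit 12727), Mv.b (nat_lit 11887), Mv.f (nat_lit 15328)]))))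
(Tr.nd (nat_lit 15331) (Tr.lf (Fc.ed (nat_lit 15330) (nat_lit 2317) Col.c (nat_lit 6093) Dv.df))
(Tr.nd (nat_lit 15332) (Tr.lf (Fc.ed (nat_lit 15331) (nat_lit 5961) Col.e (nat_lit 6094) Dv.df))
(Tr.lf (Fc.ed (nat_lit 15332) (nat_lit 6094) Col.d (nat_lit 6094) (Dv.wd (nat_lit 59) [Mv.b (nat_lit 15331), Mv.b (nat_lit 15090), Mv.f (nat_lit 13669), Mv.f (nat_lit 15090), Mv.f (nat_lit 15331)]))))))
(Tr.nd (nat_lit 15335) (Tr.nd (nat_lit 15334) (Tr.lf (Fc.ed (nat_lit 15333) (nat_lit 927) Col.e (nat_lit 6095) Dv.df))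
(Tr.lf (Fc.ed (nat_lit 15334) (nat_lit 6095) Col.b (nat_lit 6003) (Dv.wd (nat_lit 49) [Mv.f (nat_lit 15165), Mv.f (nat_lit 10484), Mv.f (nat_lit 15333)]))))
(Tr.nd (nat_lit 15336) (Tr.lf (Fc.ed (nat_lit 15335) (nat_lit 5459) Col.d (nat_lit 6096) Dv.df))
(Tr.nd (nat_lit 15337) (Tr.lf (Fc.ed (nat_lit 15336) (nat_lit 6096) Col.b (nat_lit 5204) (Dv.wd (nat_lit 37) [Mv.b (nat_lit 13436), Mv.f (nat_lit 14018), Mv.f (nat_lit 15335)])))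
(Tr.lf (Fc.ed (nat_lit 15337) (nat_lit 4668) Col.a (nat_lit 6097) Dv.df)))))))
(Tr.nd (nat_lit 15348) (Tr.nd (nat_lit 15343) (Tr.nd (nat_lit 15340) (Tr.nd (nat_lit 15339) (Tr.lf (Fc.ed (nat_lit 15338) (nat_lit 6097) Col.f (nat_lit 3897) (Dv.wd (nat_lit 35) [Mv.f (nat_lit 13159), Mv.f (nat_lit 13160), Mv.f (nat_lit 15337)])))
(Tr.lf (Fc.ed (nat_lit 15339) (nat_lit 3454) Col.d (nat_lit 6098) Dv.df)))
(Tr.nd (nat_lit 15341) (Tr.lf (Fc.ed (nat_lit 15340) (nat_lit 3895) Col.e (nat_lit 6099) Dv.df))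
(Tr.nd (nat_lit 15342) (Tr.lf (Fc.ed (nat_lit 15341) (nat_lit 4387) Col.f (nat_lit 6100) Dv.df))
(Tr.lf (Fc.ed (nat_lit 15342) (nat_lit 6100) Col.a (nat_lit 3812) (Dv.wd (nat_lit 16) [Mv.f (nat_lit 13364), Mv.f (nat_lit 13365), Mv.f (nat_lit 15341)]))))))
(Tr.nd (nat_lit 15345) (Tr.nd (nat_lit 15344) (Tr.lf (Fc.ed (nat_lit 15343) (nat_lit 5610) Col.g (nat_lit 6101) Dv.df))
(Tr.lf (Fc.ed (nat_lit 15344) (nat_lit 6101) Col.g (nat_lit 3039) (Dv.wd (nat_lit 9) [Mv.f (nat_lit 14563), Mv.f (nat_lit 14565), Mv.f (nat_lit 15343)]))))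
(Tr.nd (nat_lit 15346) (Tr.lf (Fc.ed (nat_lit 15345) (nat_lit 4448) Col.g (nat_lit 6102) Dv.df))
(Tr.nd (nat_lit 15347) (Tr.lf (Fc.ed (nat_lit 15346) (nat_lit 6100) Col.gi (nat_lit 6103) Dv.df))
(Tr.lf (Fc.ed (nat_lit 15347) (nat_lit 6103) Col.gi (nat_lit 5177) (Dv.wd (nat_lit 24) [Mv.b (nat_lit 13364), Mv.b (nat_lit 15342), Mv.f (nat_lit 15346)])))))))
(Tr.nd (nat_lit 15353) (Tr.nd (nat_lit 15350) (Tr.nd (nat_lit 15349) (Tr.lf (Fc.ed (nat_lit 15348) (nat_lit 4504) Col.c (nat_lit 6104) Dv.df))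
(Tr.lf (Fc.ed (nat_lit 15349) (nat_lit 3891) Col.f (nat_lit 6105) Dv.df)))
(Tr.nd (nat_lit 15351) (Tr.lf (Fc.ed (nat_lit 15350) (nat_lit 6105) Col.a (nat_lit 4404) (Dv.wd (nat_lit 16) [Mv.b (nat_lit 15286), Mv.b (nat_lit 15285), Mv.f (nat_lit 15349)])))
(Tr.nd (nat_lit 15352) (Tr.lf (Fc.ed (nat_lit 15351) (nat_lit 3524) Col.gi (nat_lit 6106) Dv.df))
(Tr.lf (Fc.ed (nat_lit 15352) (nat_lit 6106) Col.gi (nat_lit 4796) (Dv.wd (nat_lit 24) [Mv.b (nat_lit 13890), Mv.b (nat_lit 13888), Mv.f (nat_lit 15351)]))))))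
(Tr.nd (nat_lit 15356) (Tr.nd (nat_lit 15354) (Tr.lf (Fc.ed (nat_lit 15353) (nat_lit 5827) Col.f (nat_lit 6107) Dv.df))
(Tr.nd (nat_lit 15355) (Tr.lf (Fc.ed (nat_lit 15354) (nat_lit 6107) Col.d (nat_lit 4015) (Dv.wd (nat_lit 21) [Mv.b (nat_lit 12309), Mv.f (nat_lit 14812), Mv.f (nat_lit 15353)])))
(Tr.lf (Fc.ed (nat_lit 15355) (nat_lit 6046) Col.d (nat_lit 6108) Dv.df))))
(Tr.nd (nat_lit 15357) (Tr.lf (Fc.ed (nat_lit 15356) (nat_lit 6108) Col.e (nat_lit 4108) (Dv.wd (nat_lit 74) [Mv.b (nat_lit 10592), Mv.f (nat_lit 5731), Mv.b (nat_lit 10869), Mv.b (nat_lit 12272), Mv.b (nat_lit 10897), Mv.b (nat_lit 12270), Mv.f (nat_lit 8604), Mv.f (nat_lit 11419), Mv.f (nat_lit 15241), Mv.f (nat_lit 15355)])))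
(Tr.nd (nat_lit 15358) (Tr.lf (Fc.ed (nat_lit 15357) (nat_lit 4367) Col.c (nat_lit 6109) Dv.df))
(Tr.lf (Fc.ed (nat_lit 15358) (nat_lit 6109) Col.f (nat_lit 6064) (Dv.wd (nat_lit 26) [Mv.f (nat_lit 15272), Mv.b (nat_lit 11260), Mv.f (nat_lit 15357)]))))))))))
(Tr.nd (nat_lit 15400) (Tr.nd (nat_lit 15379) (Tr.nd (nat_lit 15369) (Tr.nd (nat_lit 15364) (Tr.nd (nat_lit 15361) (Tr.nd (nat_lit 15360) (Tr.lf (Fc.ed (nat_lit 15359) (nat_lit 3654) Col.d (nat_lit 6110) Dv.df))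
(Tr.lf (Fc.ed (nat_lit 15360) (nat_lit 6110) Col.a (nat_lit 5345) (Dv.wd (nat_lit 8) [Mv.f (nat_lit 13753), Mv.f (nat_lit 11280), Mv.f (nat_lit 15359)]))))
(Tr.nd (nat_lit 15362) (Tr.lf (Fc.ed (nat_lit 15361) (nat_lit 6110) Col.f (nat_lit 5322) (Dv.wd (nat_lit 11) [Mv.f (nat_lit 13711), Mv.b (nat_lit 9151), Mv.f (nat_lit 15359)])))
(Tr.nd (nat_lit 15363) (Tr.lf (Fc.ed (nat_lit 15362) (nat_lit 5322) Col.g (nat_lit 5100) (Dv.wd (nat_lit 17) [Mv.f (nat_lit 13752), Mv.b (nat_lit 15360), Mv.f (nat_lit 15361)])))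
(Tr.lf (Fc.ed (nat_lit 15363) (nat_lit 4803) Col.d (nat_lit 6111) Dv.df)))))
(Tr.nd (nat_lit 15366) (Tr.nd (nat_lit 15365) (Tr.lf (Fc.ed (nat_lit 15364) (nat_lit 6085) Col.c (nat_lit 6112) Dv.df))
(Tr.lf (Fc.ed (nat_lit 15365) (nat_lit 6112) Col.a (nat_lit 5378) (Dv.wd (nat_lit 19) [Mv.f (nat_lit 14719), Mv.f (nat_lit 15313), Mv.f (nat_lit 15364)]))))
(Tr.nd (nat_lit 15367) (Tr.lf (Fc.ed (nat_lit 15366) (nat_lit 3340) Col.c (nat_lit 6113) Dv.df))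
(Tr.nd (nat_lit 15368) (Tr.lf (Fc.ed (nat_lit 15367) (nat_lit 6113) Col.a (nat_lit 5986) (Dv.wd (nat_lit 19) [Mv.f (nat_lit 15134), Mv.b (nat_lit 8539), Mv.f (nat_lit 15366)])))
(Tr.lf (Fc.ed (nat_lit 15368) (nat_lit 6113) Col.f (nat_lit 5942) (Dv.wd (nat_lit 26) [Mv.f (nat_lit 15028), Mv.b (nat_lit 9385), Mv.f (nat_lit 15366)])))))))
(Tr.nd (nat_lit 15374) (Tr.nd (nat_lit 15371) (Tr.nd (nat_lit 15370) (Tr.lf (Fc.ed (nat_lit 15369) (nat_lit 5616) Col.c (nat_lit 6114) Dv.df))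
(Tr.lf (Fc.ed (nat_lit 15370) (nat_lit 6114) Col.a (nat_lit 5606) (Dv.wd (nat_lit 19) [Mv.f (nat_lit 14292), Mv.f (nat_lit 14310), Mv.f (nat_lit 15369)]))))
(Tr.nd (nat_lit 15372) (Tr.lf (Fc.ed (nat_lit 15371) (nat_lit 2446) Col.d (nat_lit 6115) Dv.df))
(Tr.nd (nat_lit 15373) (Tr.lf (Fc.ed (nat_lit 15372) (nat_lit 5886) Col.a (nat_lit 6116) Dv.df))
(Tr.lf (Fc.ed (nat_lit 15373) (nat_lit 6116) Col.f (nat_lit 5208) (Dv.wd (nat_lit 35) [Mv.f (nat_lit 13445), Mv.f (nat_lit 14895), Mv.f (nat_lit 15372)]))))))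
(Tr.nd (nat_lit 15376) (Tr.nd (nat_lit 15375) (Tr.lf (Fc.ed (nat_lit 15374) (nat_lit 1640) Col.d (nat_lit 6117) Dv.df))
(Tr.lf (Fc.ed (nat_lit 15375) (nat_lit 6117) Col.a (nat_lit 4453) (Dv.wd (nat_lit 8) [Mv.b (nat_lit 11419), Mv.f (nat_lit 8605), Mv.f (nat_lit 15374)]))))
(Tr.nd (nat_lit 15377) (Tr.lf (Fc.ed (nat_lit 15376) (nat_lit 3923) Col.f (nat_lit 6118) Dv.df))
(Tr.nd (nat_lit 15378) (Tr.lf (Fc.ed (nat_lit 15377) (nat_lit 2704) Col.a (nat_lit 6119) Dv.df))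
(Tr.lf (Fc.ed (nat_lit 15378) (nat_lit 5595) Col.d (nat_lit 6120) Dv.df)))))))
(Tr.nd (nat_lit 15389) (Tr.nd (nat_lit 15384) (Tr.nd (nat_lit 15381) (Tr.nd (nat_lit 15380) (Tr.lf (Fc.ed (nat_lit 15379) (nat_lit 6120) Col.a (nat_lit 5472) (Dv.wd (nat_lit 8) [Mv.f (nat_lit 14042), Mv.f (nat_lit 14269), Mv.f (nat_lit 15378)])))
(Tr.lf (Fc.ed (nat_lit 15380) (nat_lit 3703) Col.gi (nat_lit 6121) Dv.df)))
(Tr.nd (nat_lit 15382) (Tr.lf (Fc.ed (nat_lit 15381) (nat_lit 6121) Col.gi (nat_lit 5008) (Dv.wd (nat_lit 24) [Mv.b (nat_lit 13019), Mv.b (nat_lit 9250), Mv.f (nat_lit 15380)])))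
(Tr.nd (nat_lit 15383) (Tr.lf (Fc.ed (nat_lit 15382) (nat_lit 5083) Col.b (nat_lit 6122) Dv.df))
(Tr.lf (Fc.ed (nat_lit 15383) (nat_lit 6122) Col.f (nat_lit 5679) (Dv.wd (nat_lit 20) [Mv.b (nat_lit 14429), Mv.b (nat_lit 13237), Mv.f (nat_lit 15382)]))))))
(Tr.nd (nat_lit 15386) (Tr.nd (nat_lit 15385) (Tr.lf (Fc.ed (nat_lit 15384) (nat_lit 5447) Col.c (nat_lit 6123) Dv.df))
(Tr.lf (Fc.ed (nat_lit 15385) (nat_lit 6123) Col.f (nat_lit 5531) (Dv.wd (nat_lit 26) [Mv.b (nat_lit 14145), Mv.f (nat_lit 14128), Mv.f (nat_lit 15384)]))))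
(Tr.nd (nat_lit 15387) (Tr.lf (Fc.ed (nat_lit 15386) (nat_lit 5187) Col.gi (nat_lit 6124) Dv.df))
(Tr.nd (nat_lit 15388) (Tr.lf (Fc.ed (nat_lit 15387) (nat_lit 6124) Col.gi (nat_lit 2163) (Dv.wd (nat_lit 24) [Mv.b (nat_lit 8532), Mv.f (nat_lit 13404), Mv.f (nat_lit 15386)])))
(Tr.lf (Fc.ed (nat_lit 15388) (nat_lit 2250) Col.b (nat_lit 6125) Dv.df))))))
(Tr.nd (nat_lit 15394) (Tr.nd (nat_lit 15391) (Tr.nd (nat_lit 15390) (Tr.lf (Fc.ed (nat_lit 15389) (nat_lit 6125) Col.d (nat_lit 4810) (Dv.wd (nat_lit 58) [Mv.b (nat_lit 12579), Mv.f (nat_lit 6172), Mv.f (nat_lit 15388)])))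
(Tr.lf (Fc.ed (nat_lit 15390) (nat_lit 2314) Col.e (nat_lit 6126) Dv.df)))
(Tr.nd (nat_lit 15392) (Tr.lf (Fc.ed (nat_lit 15391) (nat_lit 4327) Col.gi (nat_lit 6127) Dv.df))
(Tr.nd (nat_lit 15393) (Tr.lf (Fc.ed (nat_lit 15392) (nat_lit 6127) Col.gi (nat_lit 2779) (Dv.wd (nat_lit 24) [Mv.b (nat_lit 11547), Mv.b (nat_lit 11546), Mv.f (nat_lit 15391)])))
(Tr.lf (Fc.ed (nat_lit 15393) (nat_lit 4630) Col.e (nat_lit 6128) Dv.df)))))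
(Tr.nd (nat_lit 15397) (Tr.nd (nat_lit 15395) (Tr.lf (Fc.ed (nat_lit 15394) (nat_lit 2742) Col.gi (nat_lit 6129) Dv.df))
(Tr.nd (nat_lit 15396) (Tr.lf (Fc.ed (nat_lit 15395) (nat_lit 6129) Col.gi (nat_lit 5566) (Dv.wd (nat_lit 24) [Mv.f (nat_lit 14213), Mv.f (nat_lit 9577), Mv.f (nat_lit 15394)])))
(Tr.lf (Fc.ed (nat_lit 15396) (nat_lit 4688) Col.g (nat_lit 6130) Dv.df))))
(Tr.nd (nat_lit 15398) (Tr.lf (Fc.ed (nat_lit 15397) (nat_lit 6130) Col.g (nat_lit 3647) (Dv.wd (nat_lit 9) [Mv.b (nat_lit 10548), Mv.f (nat_lit 11848), Mv.f (nat_lit 15396)])))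
(Tr.nd (nat_lit 15399) (Tr.lf (Fc.ed (nat_lit 15398) (nat_lit 4856) Col.d (nat_lit 6131) Dv.df))
(Tr.lf (Fc.ed (nat_lit 15399) (nat_lit 6131) Col.b (nat_lit 5741) (Dv.wd (nat_lit 37) [Mv.b (nat_lit 14589), Mv.b (nat_lit 12672), Mv.f (nat_lit 15398)])))))))))
(Tr.nd (nat_lit 15421) (Tr.nd (nat_lit 15410) (Tr.nd (nat_lit 15405) (Tr.nd (nat_lit 15402) (Tr.nd (nat_lit 15401) (Tr.lf (Fc.ed (nat_lit 15400) (nat_lit 6131) Col.f (nat_lit 4815) (Dv.wd (nat_lit 11) [Mv.b (nat_lit 12589), Mv.f (nat_lit 12671), Mv.f (nat_lit 15398)])))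
(Tr.lf (Fc.ed (nat_lit 15401) (nat_lit 5422) Col.b (nat_lit 6132) Dv.df)))
(Tr.nd (nat_lit 15403) (Tr.lf (Fc.ed (nat_lit 15402) (nat_lit 6132) Col.e (nat_lit 4798) (Dv.wd (nat_lit 52) [Mv.f (nat_lit 12557), Mv.b (nat_lit 13904), Mv.f (nat_lit 15401)])))
(Tr.nd (nat_lit 15404) (Tr.lf (Fc.ed (nat_lit 15403) (nat_lit 6061) Col.d (nat_lit 6133) Dv.df))
(Tr.lf (Fc.ed (nat_lit 15404) (nat_lit 6133) Col.b (nat_lit 2324) (Dv.wd (nat_lit 37) [Mv.b (nat_lit 10426), Mv.f (nat_lit 15266), Mv.f (nat_lit 15403)]))))))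
(Tr.nd (nat_lit 15407) (Tr.nd (nat_lit 15406) (Tr.lf (Fc.ed (nat_lit 15405) (nat_lit 5839) Col.a (nat_lit 6134) Dv.df))
(Tr.lf (Fc.ed (nat_lit 15406) (nat_lit 6134) Col.c (nat_lit 1384) (Dv.wd (nat_lit 33) [Mv.f (nat_lit 6924), Mv.b (nat_lit 14793), Mv.f (nat_lit 15405)]))))
(Tr.nd (nat_lit 15408) (Tr.lf (Fc.ed (nat_lit 15407) (nat_lit 6134) Col.f (nat_lit 5276) (Dv.wd (nat_lit 35) [Mv.b (nat_lit 13580), Mv.f (nat_lit 14792), Mv.f (nat_lit 15405)])))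
(Tr.nd (nat_lit 15409) (Tr.lf (Fc.ed (nat_lit 15408) (nat_lit 4068) Col.e (nat_lit 6135) Dv.df))
(Tr.lf (Fc.ed (nat_lit 15409) (nat_lit 4663) Col.c (nat_lit 6136) Dv.df))))))
(Tr.nd (nat_lit 15415) (Tr.nd (nat_lit 15412) (Tr.nd (nat_lit 15411) (Tr.lf (Fc.ed (nat_lit 15410) (nat_lit 5978) Col.d (nat_lit 6137) Dv.df))
(Tr.lf (Fc.ed (nat_lit 15411) (nat_lit 5435) Col.d (nat_lit 6138) Dv.df)))
(Tr.nd (nat_lit 15413) (Tr.lf (Fc.ed (nat_lit 15412) (nat_lit 6138) Col.f (nat_lit 6012) (Dv.wd (nat_lit 11) [Mv.f (nat_lit 15182), Mv.f (nat_lit 13972), Mv.f (nat_lit 15411)])))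
(Tr.nd (nat_lit 15414) (Tr.lf (Fc.ed (nat_lit 15413) (nat_lit 6024) Col.b (nat_lit 6139) Dv.df))
(Tr.lf (Fc.ed (nat_lit 15414) (nat_lit 4439) Col.a (nat_lit 6140) Dv.df)))))
(Tr.nd (nat_lit 15418) (Tr.nd (nat_lit 15416) (Tr.lf (Fc.ed (nat_lit 15415) (nat_lit 6118) Col.e (nat_lit 6141) Dv.df))
(Tr.nd (nat_lit 15417) (Tr.lf (Fc.ed (nat_lit 15416) (nat_lit 5901) Col.e (nat_lit 6142) Dv.df))
(Tr.lf (Fc.ed (nat_lit 15417) (nat_lit 6142) Col.b (nat_lit 2464) (Dv.wd (nat_lit 49) [Mv.b (nat_lit 7510), Mv.b (nat_lit 14927), Mv.f (nat_lit 15416)])))))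
(Tr.nd (nat_lit 15419) (Tr.lf (Fc.ed (nat_lit 15418) (nat_lit 6107) Col.g (nat_lit 6143) Dv.df))
(Tr.nd (nat_lit 15420) (Tr.lf (Fc.ed (nat_lit 15419) (nat_lit 3787) Col.gi (nat_lit 6144) Dv.df))
(Tr.lf (Fc.ed (nat_lit 15420) (nat_lit 6144) Col.gi (nat_lit 4912) (Dv.wd (nat_lit 24) [Mv.b (nat_lit 12778), Mv.f (nat_lit 9405), Mv.f (nat_lit 15419)]))))))))
(Tr.nd (nat_lit 15431) (Tr.nd (nat_lit 15426) (Tr.nd (nat_lit 15423) (Tr.nd (nat_lit 15422) (Tr.lf (Fc.ed (nat_lit 15421) (nat_lit 5968) Col.c (nat_lit 6145) Dv.df))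
(Tr.lf (Fc.ed (nat_lit 15422) (nat_lit 4910) Col.b (nat_lit 6146) Dv.df)))
(Tr.nd (nat_lit 15424) (Tr.lf (Fc.ed (nat_lit 15423) (nat_lit 6146) Col.c (nat_lit 6101) (Dv.wd (nat_lit 135) [Mv.f (nat_lit 15344), Mv.b (nat_lit 7907), Mv.b (nat_lit 7312), Mv.b (nat_lit 3134), Mv.f (nat_lit 3132), Mv.b (nat_lit 2246), Mv.f (nat_lit 3631), Mv.b (nat_lit 7971), Mv.b (nat_lit 12775), Mv.f (nat_lit 15422)])))
(Tr.nd (nat_lit 15425) (Tr.lf (Fc.ed (nat_lit 15424) (nat_lit 5947) Col.gi (nat_lit 6147) Dv.df))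
(Tr.lf (Fc.ed (nat_lit 15425) (nat_lit 6147) Col.gi (nat_lit 2704) (Dv.wd (nat_lit 24) [Mv.b (nat_lit 10037), Mv.f (nat_lit 15035), Mv.f (nat_lit 15424)]))))))
(Tr.nd (nat_lit 15428) (Tr.nd (nat_lit 15427) (Tr.lf (Fc.ed (nat_lit 15426) (nat_lit 3491) Col.e (nat_lit 6148) Dv.df))
(Tr.lf (Fc.ed (nat_lit 15427) (nat_lit 3681) Col.g (nat_lit 6149) Dv.df)))
(Tr.nd (nat_lit 15429) (Tr.lf (Fc.ed (nat_lit 15428) (nat_lit 4114) Col.e (nat_lit 6150) Dv.df))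
(Tr.nd (nat_lit 15430) (Tr.lf (Fc.ed (nat_lit 15429) (nat_lit 6064) Col.a (nat_lit 6151) Dv.df))
(Tr.lf (Fc.ed (nat_lit 15430) (nat_lit 6151) Col.c (nat_lit 2546) (Dv.wd (nat_lit 33) [Mv.f (nat_lit 7978), Mv.b (nat_lit 15272), Mv.f (nat_lit 15429)])))))))
(Tr.nd (nat_lit 15436) (Tr.nd (nat_lit 15433) (Tr.nd (nat_lit 15432) (Tr.lf (Fc.ed (nat_lit 15431) (nat_lit 2953) Col.g (nat_lit 6152) Dv.df))
(Tr.lf (Fc.ed (nat_lit 15432) (nat_lit 6152) Col.g (nat_lit 5661) (Dv.wd (nat_lit 9) [Mv.b (nat_lit 14399), Mv.f (nat_lit 7730), Mv.f (nat_lit 15431)]))))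
(Tr.nd (nat_lit 15434) (Tr.lf (Fc.ed (nat_lit 15433) (nat_lit 4031) Col.c (nat_lit 6153) Dv.df))
(Tr.nd (nat_lit 15435) (Tr.lf (Fc.ed (nat_lit 15434) (nat_lit 5814) Col.g (nat_lit 6154) Dv.df))
(Tr.lf (Fc.ed (nat_lit 15435) (nat_lit 6154) Col.g (nat_lit 5261) (Dv.wd (nat_lit 9) [Mv.f (nat_lit 14815), Mv.f (nat_lit 14814), Mv.f (nat_lit 15434)]))))))
(Tr.nd (nat_lit 15439) (Tr.nd (nat_lit 15437) (Tr.lf (Fc.ed (nat_lit 15436) (nat_lit 6143) Col.c (nat_lit 6154) (Dv.wd (nat_lit 138) [Mv.f (nat_lit 15435), Mv.f (nat_lit 13553), Mv.f (nat_lit 6318), Mv.f (nat_lit 3095), Mv.b (nat_lit 5936), Mv.f (nat_lit 8149), Mv.f (nat_lit 9827), Mv.b (nat_lit 15354), Mv.f (nat_lit 15418)])))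
(Tr.nd (nat_lit 15438) (Tr.lf (Fc.ed (nat_lit 15437) (nat_lit 4025) Col.b (nat_lit 6143) (Dv.wd (nat_lit 104) [Mv.f (nat_lit 15436), Mv.f (nat_lit 15435), Mv.f (nat_lit 13553), Mv.b (nat_lit 6317), Mv.b (nat_lit 3244), Mv.b (nat_lit 3231), Mv.f (nat_lit 3426), Mv.f (nat_lit 3428), Mv.b (nat_lit 5385), Mv.b (nat_lit 9848)])))
(Tr.lf (Fc.ed (nat_lit 15438) (nat_lit 6143) Col.d (nat_lit 3604) (Dv.wd (nat_lit 58) [Mv.b (nat_lit 9061), Mv.b (nat_lit 14847), Mv.f (nat_lit 15437)])))))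
(Tr.nd (nat_lit 15440) (Tr.lf (Fc.ed (nat_lit 15439) (nat_lit 4252) Col.d (nat_lit 6155) Dv.df))
(Tr.nd (nat_lit 15441) (Tr.lf (Fc.ed (nat_lit 15440) (nat_lit 6155) Col.f (nat_lit 3890) (Dv.wd (nat_lit 11) [Mv.b (nat_lit 9578), Mv.b (nat_lit 10938), Mv.f (nat_lit 15439)])))
(Tr.lf (Fc.ed (nat_lit 15441) (nat_lit 3021) Col.b (nat_lit 6156) Dv.df)))))))))))
(Tr.nd (nat_lit 15606) (Tr.nd (nat_lit 15524) (Tr.nd (nat_lit 15483) (Tr.nd (nat_lit 15462) (Tr.nd (nat_lit 15452) (Tr.nd (nat_lit 15447) (Tr.nd (nat_lit 15444) (Tr.nd (nat_lit 15443) (Tr.lf (Fc.ed (nat_lit 15442) (nat_lit 6156) Col.f (nat_lit 5459) (Dv.wd (nat_lit 20) [Mv.b (nat_lit 14018), Mv.b (nat_lit 8199), Mv.f (nat_lit 15441)])))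
(Tr.lf (Fc.ed (nat_lit 15443) (nat_lit 6032) Col.c (nat_lit 6157) Dv.df)))
(Tr.nd (nat_lit 15445) (Tr.lf (Fc.ed (nat_lit 15444) (nat_lit 6157) Col.b (nat_lit 5734) (Dv.wd (nat_lit 101) [Mv.b (nat_lit 14577), Mv.f (nat_lit 8436), Mv.f (nat_lit 5466), Mv.b (nat_lit 4322), Mv.f (nat_lit 4339), Mv.f (nat_lit 4816), Mv.f (nat_lit 6920), Mv.f (nat_lit 7104), Mv.f (nat_lit 15217), Mv.f (nat_lit 15443)])))
(Tr.nd (nat_lit 15446) (Tr.lf (Fc.ed (nat_lit 15445) (nat_lit 4803) Col.c (nat_lit 6158) Dv.df))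
(Tr.lf (Fc.ed (nat_lit 15446) (nat_lit 6148) Col.c (nat_lit 6159) Dv.df)))))
(Tr.nd (nat_lit 15449) (Tr.nd (nat_lit 15448) (Tr.lf (Fc.ed (nat_lit 15447) (nat_lit 6159) Col.e (nat_lit 4028) (Dv.wd (nat_lit 25) [Mv.b (nat_lit 9854), Mv.f (nat_lit 15426), Mv.f (nat_lit 15446)])))
(Tr.lf (Fc.ed (nat_lit 15448) (nat_lit 5899) Col.d (nat_lit 6160) Dv.df)))
(Tr.nd (nat_lit 15450) (Tr.lf (Fc.ed (nat_lit 15449) (nat_lit 5520) Col.g (nat_lit 6161) Dv.df))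
(Tr.nd (nat_lit 15451) (Tr.lf (Fc.ed (nat_lit 15450) (nat_lit 4215) Col.f (nat_lit 6162) Dv.df))
(Tr.lf (Fc.ed (nat_lit 15451) (nat_lit 6162) Col.b (nat_lit 4753) (Dv.wd (nat_lit 66) [Mv.f (nat_lit 12474), Mv.b (nat_lit 10867), Mv.f (nat_lit 15450)])))))))
(Tr.nd (nat_lit 15457) (Tr.nd (nat_lit 15454) (Tr.nd (nat_lit 15453) (Tr.lf (Fc.ed (nat_lit 15452) (nat_lit 6162) Col.c (nat_lit 6088) (Dv.wd (nat_lit 34) [Mv.b (nat_lit 15317), Mv.f (nat_lit 10865), Mv.f (nat_lit 15450)])))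
(Tr.lf (Fc.ed (nat_lit 15453) (nat_lit 3987) Col.a (nat_lit 6163) Dv.df)))
(Tr.nd (nat_lit 15455) (Tr.lf (Fc.ed (nat_lit 15454) (nat_lit 6163) Col.f (nat_lit 3474) (Dv.wd (nat_lit 35) [Mv.b (nat_lit 13602), Mv.b (nat_lit 13601), Mv.f (nat_lit 15453)])))
(Tr.nd (nat_lit 15456) (Tr.lf (Fc.ed (nat_lit 15455) (nat_lit 3923) Col.gi (nat_lit 6164) Dv.df))
(Tr.lf (Fc.ed (nat_lit 15456) (nat_lit 6162) Col.a (nat_lit 6165) Dv.df)))))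
(Tr.nd (nat_lit 15459) (Tr.nd (nat_lit 15458) (Tr.lf (Fc.ed (nat_lit 15457) (nat_lit 6165) Col.f (nat_lit 4981) (Dv.wd (nat_lit 35) [Mv.b (nat_lit 12915), Mv.f (nat_lit 15450), Mv.f (nat_lit 15456)])))
(Tr.lf (Fc.ed (nat_lit 15458) (nat_lit 6165) Col.b (nat_lit 5683) (Dv.wd (nat_lit 65) [Mv.b (nat_lit 14436), Mv.f (nat_lit 13037), Mv.f (nat_lit 12472), Mv.b (nat_lit 15451), Mv.f (nat_lit 15456)]))))
(Tr.nd (nat_lit 15460) (Tr.lf (Fc.ed (nat_lit 15459) (nat_lit 5969) Col.a (nat_lit 6166) Dv.df))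
(Tr.nd (nat_lit 15461) (Tr.lf (Fc.ed (nat_lit 15460) (nat_lit 6166) Col.c (nat_lit 5651) (Dv.wd (nat_lit 33) [Mv.b (nat_lit 14381), Mv.b (nat_lit 15103), Mv.f (nat_lit 15459)])))
(Tr.lf (Fc.ed (nat_lit 15461) (nat_lit 6166) Col.e (nat_lit 2216) (Dv.wd (nat_lit 56) [Mv.f (nat_lit 10435), Mv.f (nat_lit 15102), Mv.f (nat_lit 15459)]))))))))
(Tr.nd (nat_lit 15472) (Tr.nd (nat_lit 15467) (Tr.nd (nat_lit 15464) (Tr.nd (nat_lit 15463) (Tr.lf (Fc.ed (nat_lit 15462) (nat_lit 4931) Col.d (nat_lit 6167) Dv.df))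
(Tr.lf (Fc.ed (nat_lit 15463) (nat_lit 6167) Col.b (nat_lit 5407) (Dv.wd (nat_lit 37) [Mv.f (nat_lit 13874), Mv.b (nat_lit 12820), Mv.f (nat_lit 15462)]))))
(Tr.nd (nat_lit 15465) (Tr.lf (Fc.ed (nat_lit 15464) (nat_lit 5916) Col.d (nat_lit 6168) Dv.df))
(Tr.nd (nat_lit 15466) (Tr.lf (Fc.ed (nat_lit 15465) (nat_lit 6168) Col.b (nat_lit 2053) (Dv.wd (nat_lit 37) [Mv.b (nat_lit 5691), Mv.b (nat_lit 14972), Mv.f (nat_lit 15464)])))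
(Tr.lf (Fc.ed (nat_lit 15466) (nat_lit 3232) Col.gi (nat_lit 6169) Dv.df)))))
(Tr.nd (nat_lit 15469) (Tr.nd (nat_lit 15468) (Tr.lf (Fc.ed (nat_lit 15467) (nat_lit 2418) Col.b (nat_lit 6170) Dv.df))
(Tr.lf (Fc.ed (nat_lit 15468) (nat_lit 6170) Col.d (nat_lit 5819) (Dv.wd (nat_lit 58) [Mv.b (nat_lit 14765), Mv.b (nat_lit 6545), Mv.f (nat_lit 15467)]))))
(Tr.nd (nat_lit 15470) (Tr.lf (Fc.ed (nat_lit 15469) (nat_lit 4985) Col.gi (nat_lit 6171) Dv.df))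
(Tr.nd (nat_lit 15471) (Tr.lf (Fc.ed (nat_lit 15470) (nat_lit 6171) Col.gi (nat_lit 4058) (Dv.wd (nat_lit 24) [Mv.f (nat_lit 13554), Mv.f (nat_lit 13555), Mv.f (nat_lit 15469)])))
(Tr.lf (Fc.ed (nat_lit 15471) (nat_lit 6040) Col.c (nat_lit 6172) Dv.df))))))
(Tr.nd (nat_lit 15477) (Tr.nd (nat_lit 15474) (Tr.nd (nat_lit 15473) (Tr.lf (Fc.ed (nat_lit 15472) (nat_lit 6172) Col.g (nat_lit 3295) (Dv.wd (nat_lit 123) [Mv.f (nat_lit 8445), Mv.b (nat_lit 6517), Mv.b (nat_lit 3904), Mv.f (nat_lit 3902), Mv.f (nat_lit 2471), Mv.b (nat_lit 3375), Mv.f (nat_lit 7849), Mv.f (nat_lit 14462), Mv.f (nat_lit 15232), Mv.f (nat_lit 15471)])))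
(Tr.lf (Fc.ed (nat_lit 15473) (nat_lit 3897) Col.b (nat_lit 6173) Dv.df)))
(Tr.nd (nat_lit 15475) (Tr.lf (Fc.ed (nat_lit 15474) (nat_lit 6173) Col.c (nat_lit 5465) (Dv.wd (nat_lit 135) [Mv.b (nat_lit 14030), Mv.b (nat_lit 6735), Mv.f (nat_lit 6285), Mv.b (nat_lit 3786), Mv.b (nat_lit 3437), Mv.f (nat_lit 2237), Mv.f (nat_lit 3024), Mv.f (nat_lit 6448), Mv.b (nat_lit 9590), Mv.f (nat_lit 15473)])))
(Tr.nd (nat_lit 15476) (Tr.lf (Fc.ed (nat_lit 15475) (nat_lit 1924) Col.c (nat_lit 6174) Dv.df))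
(Tr.lf (Fc.ed (nat_lit 15476) (nat_lit 1567) Col.c (nat_lit 6175) Dv.df)))))
(Tr.nd (nat_lit 15480) (Tr.nd (nat_lit 15478) (Tr.lf (Fc.ed (nat_lit 15477) (nat_lit 5140) Col.d (nat_lit 6176) Dv.df))
(Tr.nd (nat_lit 15479) (Tr.lf (Fc.ed (nat_lit 15478) (nat_lit 6176) Col.a (nat_lit 5811) (Dv.wd (nat_lit 8) [Mv.b (nat_lit 14754), Mv.b (nat_lit 13293), Mv.f (nat_lit 15477)])))
(Tr.lf (Fc.ed (nat_lit 15479) (nat_lit 6176) Col.f (nat_lit 4004) (Dv.wd (nat_lit 11) [Mv.b (nat_lit 9812), Mv.f (nat_lit 13292), Mv.f (nat_lit 15477)])))))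
(Tr.nd (nat_lit 15481) (Tr.lf (Fc.ed (nat_lit 15480) (nat_lit 2926) Col.d (nat_lit 6177) Dv.df))
(Tr.nd (nat_lit 15482) (Tr.lf (Fc.ed (nat_lit 15481) (nat_lit 5156) Col.d (nat_lit 6178) Dv.df))
(Tr.lf (Fc.ed (nat_lit 15482) (nat_lit 6178) Col.e (nat_lit 4371) (Dv.wd (nat_lit 42) [Mv.b (nat_lit 11266), Mv.f (nat_lit 11394), Mv.b (nat_lit 10232), Mv.b (nat_lit 13322), Mv.f (nat_lit 15481)])))))))))
(Tr.nd (nat_lit 15503) (Tr.nd (nat_lit 15493) (Tr.nd (nat_lit 15488) (Tr.nd (nat_lit 15485) (Tr.nd (nat_lit 15484) (Tr.lf (Fc.ed (nat_lit 15483) (nat_lit 5667) Col.gi (nat_lit 6179) Dv.df))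
(Tr.lf (Fc.ed (nat_lit 15484) (nat_lit 6179) Col.d (nat_lit 5980) (Dv.wd (nat_lit 53) [Mv.b (nat_lit 15123), Mv.f (nat_lit 9831), Mv.b (nat_lit 5799), Mv.f (nat_lit 11274), Mv.b (nat_lit 11278), Mv.f (nat_lit 11820), Mv.f (nat_lit 7666), Mv.b (nat_lit 8406), Mv.f (nat_lit 14412), Mv.f (nat_lit 15483)]))))
(Tr.nd (nat_lit 15486) (Tr.lf (Fc.ed (nat_lit 15485) (nat_lit 4436) Col.c (nat_lit 6180) Dv.df))
(Tr.nd (nat_lit 15487) (Tr.lf (Fc.ed (nat_lit 15486) (nat_lit 6180) Col.g (nat_lit 4120) (Dv.wd (nat_lit 145) [Mv.f (nat_lit 10730), Mv.f (nat_lit 14342), Mv.b (nat_lit 13122), Mv.b (nat_lit 15089), Mv.f (nat_lit 13208), Mv.b (nat_lit 15362), Mv.f (nat_lit 13711), Mv.b (nat_lit 11391), Mv.f (nat_lit 15485)])))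
(Tr.lf (Fc.ed (nat_lit 15487) (nat_lit 5245) Col.g (nat_lit 6180) (Dv.wd (nat_lit 17) [Mv.f (nat_lit 15486), Mv.b (nat_lit 10817), Mv.b (nat_lit 13519)]))))))
(Tr.nd (nat_lit 15490) (Tr.nd (nat_lit 15489) (Tr.lf (Fc.ed (nat_lit 15488) (nat_lit 4171) Col.f (nat_lit 6181) Dv.df))
(Tr.lf (Fc.ed (nat_lit 15489) (nat_lit 6181) Col.a (nat_lit 4501) (Dv.wd (nat_lit 16) [Mv.b (nat_lit 13979), Mv.b (nat_lit 13978), Mv.f (nat_lit 15488)]))))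
(Tr.nd (nat_lit 15491) (Tr.lf (Fc.ed (nat_lit 15490) (nat_lit 6123) Col.d (nat_lit 6182) Dv.df))
(Tr.nd (nat_lit 15492) (Tr.lf (Fc.ed (nat_lit 15491) (nat_lit 4708) Col.d (nat_lit 6183) Dv.df))
(Tr.lf (Fc.ed (nat_lit 15492) (nat_lit 5544) Col.d (nat_lit 6184) Dv.df))))))
(Tr.nd (nat_lit 15498) (Tr.nd (nat_lit 15495) (Tr.nd (nat_lit 15494) (Tr.lf (Fc.ed (nat_lit 15493) (nat_lit 6183) Col.c (nat_lit 6185) Dv.df))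
(Tr.lf (Fc.ed (nat_lit 15494) (nat_lit 6185) Col.d (nat_lit 5804) (Dv.wd (nat_lit 44) [Mv.b (nat_lit 14955), Mv.f (nat_lit 6958), Mv.f (nat_lit 5238), Mv.b (nat_lit 7154), Mv.f (nat_lit 7155), Mv.b (nat_lit 6822), Mv.b (nat_lit 11886), Mv.f (nat_lit 15491), Mv.f (nat_lit 15493)]))))
(Tr.nd (nat_lit 15496) (Tr.lf (Fc.ed (nat_lit 15495) (nat_lit 5831) Col.f (nat_lit 6186) Dv.df))
(Tr.nd (nat_lit 15497) (Tr.lf (Fc.ed (nat_lit 15496) (nat_lit 6186) Col.c (nat_lit 5777) (Dv.wd (nat_lit 34) [Mv.f (nat_lit 14684), Mv.b (nat_lit 14782), Mv.f (nat_lit 15495)])))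
(Tr.lf (Fc.ed (nat_lit 15497) (nat_lit 5233) Col.c (nat_lit 6187) Dv.df)))))
(Tr.nd (nat_lit 15500) (Tr.nd (nat_lit 15499) (Tr.lf (Fc.ed (nat_lit 15498) (nat_lit 4226) Col.d (nat_lit 6188) Dv.df))
(Tr.lf (Fc.ed (nat_lit 15499) (nat_lit 4680) Col.f (nat_lit 6189) Dv.df)))
(Tr.nd (nat_lit 15501) (Tr.lf (Fc.ed (nat_lit 15500) (nat_lit 6189) Col.a (nat_lit 3682) (Dv.wd (nat_lit 16) [Mv.b (nat_lit 14541), Mv.b (nat_lit 14540), Mv.f (nat_lit 15499)])))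
(Tr.nd (nat_lit 15502) (Tr.lf (Fc.ed (nat_lit 15501) (nat_lit 2049) Col.g (nat_lit 6190) Dv.df))
(Tr.lf (Fc.ed (nat_lit 15502) (nat_lit 6190) Col.g (nat_lit 6081) (Dv.wd (nat_lit 9) [Mv.b (nat_lit 15304), Mv.f (nat_lit 10070), Mv.f (nat_lit 15501)]))))))))
(Tr.nd (nat_lit 15513) (Tr.nd (nat_lit 15508) (Tr.nd (nat_lit 15505) (Tr.nd (nat_lit 15504) (Tr.lf (Fc.ed (nat_lit 15503) (nat_lit 6190) Col.b (nat_lit 5994) (Dv.wd (nat_lit 104) [Mv.b (nat_lit 15149), Mv.f (nat_lit 14899), Mv.b (nat_lit 8434), Mv.f (nat_lit 7731), Mv.f (nat_lit 3493), Mv.b (nat_lit 3239), Mv.b (nat_lit 2372), Mv.f (nat_lit 3021), Mv.f (nat_lit 5682), Mv.f (nat_lit 15501)])))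
(Tr.lf (Fc.ed (nat_lit 15504) (nat_lit 5975) Col.d (nat_lit 6191) Dv.df)))
(Tr.nd (nat_lit 15506) (Tr.lf (Fc.ed (nat_lit 15505) (nat_lit 6191) Col.g (nat_lit 5228) (Dv.wd (nat_lit 63) [Mv.f (nat_lit 13484), Mv.f (nat_lit 13483), Mv.f (nat_lit 5086), Mv.b (nat_lit 4410), Mv.b (nat_lit 3736), Mv.b (nat_lit 5251), Mv.b (nat_lit 7341), Mv.f (nat_lit 14247), Mv.f (nat_lit 15114), Mv.f (nat_lit 15504)])))
(Tr.nd (nat_lit 15507) (Tr.lf (Fc.ed (nat_lit 15506) (nat_lit 4800) Col.g (nat_lit 6191) (Dv.wd (nat_lit 17) [Mv.f (nat_lit 15505), Mv.b (nat_lit 13482), Mv.f (nat_lit 13231)])))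
(Tr.lf (Fc.ed (nat_lit 15507) (nat_lit 6148) Col.a (nat_lit 6192) Dv.df)))))
(Tr.nd (nat_lit 15510) (Tr.nd (nat_lit 15509) (Tr.lf (Fc.ed (nat_lit 15508) (nat_lit 6192) Col.e (nat_lit 3350) (Dv.wd (nat_lit 56) [Mv.b (nat_lit 10470), Mv.f (nat_lit 15426), Mv.f (nat_lit 15507)])))
(Tr.lf (Fc.ed (nat_lit 15509) (nat_lit 3109) Col.gi (nat_lit 6193) Dv.df)))
(Tr.nd (nat_lit 15511) (Tr.lf (Fc.ed (nat_lit 15510) (nat_lit 6193) Col.gi (nat_lit 6026) (Dv.wd (nat_lit 24) [Mv.b (nat_lit 15206), Mv.f (nat_lit 14261), Mv.f (nat_lit 15509)])))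
(Tr.nd (nat_lit 15512) (Tr.lf (Fc.ed (nat_lit 15511) (nat_lit 5898) Col.e (nat_lit 6194) Dv.df))
(Tr.lf (Fc.ed (nat_lit 15512) (nat_lit 6194) Col.c (nat_lit 4736) (Dv.wd (nat_lit 18) [Mv.f (nat_lit 12490), Mv.f (nat_lit 14923), Mv.f (nat_lit 15511)])))))))
(Tr.nd (nat_lit 15518) (Tr.nd (nat_lit 15515) (Tr.nd (nat_lit 15514) (Tr.lf (Fc.ed (nat_lit 15513) (nat_lit 5653) Col.b (nat_lit 6195) Dv.df))
(Tr.lf (Fc.ed (nat_lit 15514) (nat_lit 6008) Col.a (nat_lit 6196) Dv.df)))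
(Tr.nd (nat_lit 15516) (Tr.lf (Fc.ed (nat_lit 15515) (nat_lit 6196) Col.d (nat_lit 3370) (Dv.wd (nat_lit 28) [Mv.b (nat_lit 12498), Mv.f (nat_lit 15174), Mv.f (nat_lit 15514)])))
(Tr.nd (nat_lit 15517) (Tr.lf (Fc.ed (nat_lit 15516) (nat_lit 5395) Col.c (nat_lit 6197) Dv.df))
(Tr.lf (Fc.ed (nat_lit 15517) (nat_lit 6028) Col.c (nat_lit 6198) Dv.df)))))
(Tr.nd (nat_lit 15521) (Tr.nd (nat_lit 15519) (Tr.lf (Fc.ed (nat_lit 15518) (nat_lit 6198) Col.e (nat_lit 5260) (Dv.wd (nat_lit 25) [Mv.f (nat_lit 13568), Mv.b (nat_lit 15212), Mv.f (nat_lit 15517)])))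
(Tr.nd (nat_lit 15520) (Tr.lf (Fc.ed (nat_lit 15519) (nat_lit 5392) Col.b (nat_lit 6199) Dv.df))
(Tr.lf (Fc.ed (nat_lit 15520) (nat_lit 6199) Col.f (nat_lit 4574) (Dv.wd (nat_lit 20) [Mv.b (nat_lit 11636), Mv.f (nat_lit 13845), Mv.f (nat_lit 15519)])))))
(Tr.nd (nat_lit 15522) (Tr.lf (Fc.ed (nat_lit 15521) (nat_lit 5506) Col.c (nat_lit 6199) (Dv.wd (nat_lit 67) [Mv.f (nat_lit 15520), Mv.f (nat_lit 11637), Mv.b (nat_lit 14100)])))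
(Tr.nd (nat_lit 15523) (Tr.lf (Fc.ed (nat_lit 15522) (nat_lit 5931) Col.g (nat_lit 6200) Dv.df))
(Tr.lf (Fc.ed (nat_lit 15523) (nat_lit 2271) Col.c (nat_lit 6201) Dv.df)))))))))
(Tr.nd (nat_lit 15565) (Tr.nd (nat_lit 15544) (Tr.nd (nat_lit 15534) (Tr.nd (nat_lit 15529) (Tr.nd (nat_lit 15526) (Tr.nd (nat_lit 15525) (Tr.lf (Fc.ed (nat_lit 15524) (nat_lit 3974) Col.g (nat_lit 6202) Dv.df))
(Tr.lf (Fc.ed (nat_lit 15525) (nat_lit 6097) Col.b (nat_lit 6203) Dv.df)))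
(Tr.nd (nat_lit 15527) (Tr.lf (Fc.ed (nat_lit 15526) (nat_lit 6203) Col.f (nat_lit 6173) (Dv.wd (nat_lit 20) [Mv.b (nat_lit 15473), Mv.b (nat_lit 15338), Mv.f (nat_lit 15525)])))
(Tr.nd (nat_lit 15528) (Tr.lf (Fc.ed (nat_lit 15527) (nat_lit 6021) Col.c (nat_lit 6204) Dv.df))
(Tr.lf (Fc.ed (nat_lit 15528) (nat_lit 6204) Col.a (nat_lit 4840) (Dv.wd (nat_lit 19) [Mv.b (nat_lit 12633), Mv.b (nat_lit 15197), Mv.f (nat_lit 15527)]))))))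
(Tr.nd (nat_lit 15531) (Tr.nd (nat_lit 15530) (Tr.lf (Fc.ed (nat_lit 15529) (nat_lit 5900) Col.g (nat_lit 6205) Dv.df))
(Tr.lf (Fc.ed (nat_lit 15530) (nat_lit 6078) Col.e (nat_lit 6206) Dv.df)))
(Tr.nd (nat_lit 15532) (Tr.lf (Fc.ed (nat_lit 15531) (nat_lit 5904) Col.c (nat_lit 6207) Dv.df))
(Tr.nd (nat_lit 15533) (Tr.lf (Fc.ed (nat_lit 15532) (nat_lit 5897) Col.f (nat_lit 6208) Dv.df))
(Tr.lf (Fc.ed (nat_lit 15533) (nat_lit 6208) Col.b (nat_lit 4985) (Dv.wd (nat_lit 66) [Mv.b (nat_lit 12974), Mv.f (nat_lit 14922), Mv.f (nat_lit 15532)])))))))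
(Tr.nd (nat_lit 15539) (Tr.nd (nat_lit 15536) (Tr.nd (nat_lit 15535) (Tr.lf (Fc.ed (nat_lit 15534) (nat_lit 6094) Col.f (nat_lit 6209) Dv.df))
(Tr.lf (Fc.ed (nat_lit 15535) (nat_lit 6209) Col.d (nat_lit 6209) (Dv.wd (nat_lit 21) [Mv.b (nat_lit 15534), Mv.f (nat_lit 15332), Mv.f (nat_lit 15534)]))))
(Tr.nd (nat_lit 15537) (Tr.lf (Fc.ed (nat_lit 15536) (nat_lit 6209) Col.e (nat_lit 3888) (Dv.wd (nat_lit 22) [Mv.f (nat_lit 12385), Mv.f (nat_lit 12449), Mv.b (nat_lit 15091), Mv.f (nat_lit 15331), Mv.f (nat_lit 15534)])))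
(Tr.nd (nat_lit 15538) (Tr.lf (Fc.ed (nat_lit 15537) (nat_lit 1956) Col.e (nat_lit 6210) Dv.df))
(Tr.lf (Fc.ed (nat_lit 15538) (nat_lit 6210) Col.d (nat_lit 6211) Dv.df)))))
(Tr.nd (nat_lit 15541) (Tr.nd (nat_lit 15540) (Tr.lf (Fc.ed (nat_lit 15539) (nat_lit 6095) Col.d (nat_lit 6212) Dv.df))
(Tr.lf (Fc.ed (nat_lit 15540) (nat_lit 6212) Col.e (nat_lit 2653) (Dv.wd (nat_lit 42) [Mv.b (nat_lit 12043), Mv.f (nat_lit 10507), Mv.f (nat_lit 10360), Mv.f (nat_lit 15333), Mv.f (nat_lit 15539)]))))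
(Tr.nd (nat_lit 15542) (Tr.lf (Fc.ed (nat_lit 15541) (nat_lit 5662) Col.d (nat_lit 6213) Dv.df))
(Tr.nd (nat_lit 15543) (Tr.lf (Fc.ed (nat_lit 15542) (nat_lit 6213) Col.a (nat_lit 5502) (Dv.wd (nat_lit 8) [Mv.f (nat_lit 14961), Mv.b (nat_lit 14403), Mv.f (nat_lit 15541)])))
(Tr.lf (Fc.ed (nat_lit 15543) (nat_lit 6112) Col.f (nat_lit 6213) (Dv.wd (nat_lit 73) [Mv.f (nat_lit 15542), Mv.b (nat_lit 14094), Mv.b (nat_lit 15365)]))))))))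
(Tr.nd (nat_lit 15554) (Tr.nd (nat_lit 15549) (Tr.nd (nat_lit 15546) (Tr.nd (nat_lit 15545) (Tr.lf (Fc.ed (nat_lit 15544) (nat_lit 6213) Col.g (nat_lit 6047) (Dv.wd (nat_lit 17) [Mv.b (nat_lit 15242), Mv.b (nat_lit 15365), Mv.f (nat_lit 15543)])))
(Tr.lf (Fc.ed (nat_lit 15545) (nat_lit 6119) Col.b (nat_lit 6214) Dv.df)))
(Tr.nd (nat_lit 15547) (Tr.lf (Fc.ed (nat_lit 15546) (nat_lit 6214) Col.a (nat_lit 4052) (Dv.wd (nat_lit 98) [Mv.b (nat_lit 10042), Mv.f (nat_lit 10039), Mv.f (nat_lit 7193), Mv.f (nat_lit 15377), Mv.f (nat_lit 15545)])))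
(Tr.nd (nat_lit 15548) (Tr.lf (Fc.ed (nat_lit 15547) (nat_lit 6086) Col.c (nat_lit 6215) Dv.df))
(Tr.lf (Fc.ed (nat_lit 15548) (nat_lit 6215) Col.gi (nat_lit 5276) (Dv.wd (nat_lit 88) [Mv.f (nat_lit 13581), Mv.b (nat_lit 4538), Mv.f (nat_lit 2707), Mv.f (nat_lit 4455), Mv.b (nat_lit 12771), Mv.f (nat_lit 12894), Mv.f (nat_lit 12967), Mv.b (nat_lit 14000), Mv.f (nat_lit 15314), Mv.f (nat_lit 15547)]))))))
(Tr.nd (nat_lit 15551) (Tr.nd (nat_lit 15550) (Tr.lf (Fc.ed (nat_lit 15549) (nat_lit 2723) Col.d (nat_lit 3248) (Dv.wd (nat_lit 89) [Mv.f (nat_lit 8350), Mv.b (nat_lit 13581), Mv.b (nat_lit 15548), Mv.b (nat_lit 15547), Mv.f (nat_lit 15315), Mv.b (nat_lit 12982), Mv.b (nat_lit 6167), Mv.f (nat_lit 3528), Mv.b (nat_lit 15083)])))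
(Tr.lf (Fc.al (nat_lit 15550) (nat_lit 5321) (nat_lit 2327) (Dv.wd (nat_lit 54) [Mv.f (nat_lit 7234), Mv.f (nat_lit 15549), Mv.f (nat_lit 12477), Mv.f (nat_lit 13709)]))))
(Tr.nd (nat_lit 15552) (Tr.lf (Fc.ed (nat_lit 15551) (nat_lit 2327) Col.d (nat_lit 4756) (Dv.wd (nat_lit 120) [Mv.f (nat_lit 13709), Mv.f (nat_lit 15550)])))
(Tr.nd (nat_lit 15553) (Tr.lf (Fc.ed (nat_lit 15552) (nat_lit 3248) Col.b (nat_lit 4239) (Dv.wd (nat_lit 37) [Mv.b (nat_lit 10910), Mv.f (nat_lit 15077), Mv.f (nat_lit 15549)])))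
(Tr.lf (Fc.al (nat_lit 15553) (nat_lit 4756) (nat_lit 3043) (Dv.wd (nat_lit 63) [Mv.b (nat_lit 7913), Mv.b (nat_lit 6124), Mv.f (nat_lit 5464), Mv.b (nat_lit 15084), Mv.f (nat_lit 15549), Mv.f (nat_lit 8350), Mv.f (nat_lit 4539), Mv.f (nat_lit 3242), Mv.b (nat_lit 6353), Mv.f (nat_lit 14917), Mv.f (nat_lit 15551)])))))))
(Tr.nd (nat_lit 15559) (Tr.nd (nat_lit 15556) (Tr.nd (nat_lit 15555) (Tr.lf (Fc.ed (nat_lit 15554) (nat_lit 3043) Col.a (nat_lit 3248) (Dv.wd (nat_lit 29) [Mv.f (nat_lit 12477), Mv.f (nat_lit 15553)])))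
(Tr.lf (Fc.ed (nat_lit 15555) (nat_lit 3043) Col.d (nat_lit 2327) (Dv.wd (nat_lit 120) [Mv.f (nat_lit 15551), Mv.f (nat_lit 15553)]))))
(Tr.nd (nat_lit 15557) (Tr.lf (Fc.ed (nat_lit 15556) (nat_lit 5682) Col.f (nat_lit 3043) (Dv.wd (nat_lit 86) [Mv.f (nat_lit 15555), Mv.f (nat_lit 10611), Mv.f (nat_lit 14434)])))
(Tr.nd (nat_lit 15558) (Tr.lf (Fc.ed (nat_lit 15557) (nat_lit 5042) Col.e (nat_lit 2231) (Dv.wd (nat_lit 131) [Mv.f (nat_lit 6137), Mv.f (nat_lit 4203), Mv.b (nat_lit 7914), Mv.f (nat_lit 15555), Mv.f (nat_lit 14917), Mv.b (nat_lit 6352), Mv.b (nat_lit 5179), Mv.f (nat_lit 5492), Mv.f (nat_lit 7111), Mv.b (nat_lit 13091)])))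
(Tr.lf (Fc.ed (nat_lit 15558) (nat_lit 2580) Col.gi (nat_lit 5682) (Dv.wd (nat_lit 24) [Mv.f (nat_lit 15556), Mv.f (nat_lit 15554), Mv.b (nat_lit 8349)]))))))
(Tr.nd (nat_lit 15562) (Tr.nd (nat_lit 15560) (Tr.lf (Fc.al (nat_lit 15559) (nat_lit 4190) (nat_lit 5374) (Dv.wd (nat_lit 114) [Mv.b (nat_lit 14435), Mv.f (nat_lit 15556), Mv.b (nat_lit 7913), Mv.b (nat_lit 10821)])))
(Tr.nd (nat_lit 15561) (Tr.lf (Fc.ed (nat_lit 15560) (nat_lit 4190) Col.d (nat_lit 1946) (Dv.wd (nat_lit 120) [Mv.f (nat_lit 13811), Mv.b (nat_lit 15559)])))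
(Tr.lf (Fc.ed (nat_lit 15561) (nat_lit 2248) Col.d (nat_lit 3069) (Dv.wd (nat_lit 51) [Mv.f (nat_lit 7984), Mv.b (nat_lit 7299), Mv.b (nat_lit 5656), Mv.b (nat_lit 6925), Mv.f (nat_lit 15558), Mv.b (nat_lit 14434), Mv.b (nat_lit 15080), Mv.b (nat_lit 3528), Mv.f (nat_lit 6167)])))))
(Tr.nd (nat_lit 15563) (Tr.lf (Fc.ed (nat_lit 15562) (nat_lit 5839) Col.gi (nat_lit 6215) (Dv.wd (nat_lit 12) [Mv.f (nat_lit 15548), Mv.b (nat_lit 15407), Mv.b (nat_lit 15405)])))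
(Tr.nd (nat_lit 15564) (Tr.lf (Fc.ed (nat_lit 15563) (nat_lit 6018) Col.b (nat_lit 6216) Dv.df))
(Tr.lf (Fc.ed (nat_lit 15564) (nat_lit 6082) Col.f (nat_lit 6217) Dv.df))))))))
(Tr.nd (nat_lit 15585) (Tr.nd (nat_lit 15575) (Tr.nd (nat_lit 15570) (Tr.nd (nat_lit 15567) (Tr.nd (nat_lit 15566) (Tr.lf (Fc.ed (nat_lit 15565) (nat_lit 5799) Col.c (nat_lit 6218) Dv.df))
(Tr.lf (Fc.ed (nat_lit 15566) (nat_lit 6218) Col.a (nat_lit 4393) (Dv.wd (nat_lit 19) [Mv.b (nat_lit 11306), Mv.f (nat_lit 14728), Mv.f (nat_lit 15565)]))))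
(Tr.nd (nat_lit 15568) (Tr.lf (Fc.ed (nat_lit 15567) (nat_lit 3580) Col.e (nat_lit 6219) Dv.df))
(Tr.nd (nat_lit 15569) (Tr.lf (Fc.ed (nat_lit 15568) (nat_lit 5029) Col.g (nat_lit 6220) Dv.df))
(Tr.lf (Fc.ed (nat_lit 15569) (nat_lit 6220) Col.g (nat_lit 2870) (Dv.wd (nat_lit 9) [Mv.f (nat_lit 10702), Mv.b (nat_lit 13060), Mv.f (nat_lit 15568)]))))))
(Tr.nd (nat_lit 15572) (Tr.nd (nat_lit 15571) (Tr.lf (Fc.ed (nat_lit 15570) (nat_lit 3217) Col.d (nat_lit 6221) Dv.df))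
(Tr.lf (Fc.ed (nat_lit 15571) (nat_lit 4049) Col.g (nat_lit 6222) Dv.df)))
(Tr.nd (nat_lit 15573) (Tr.lf (Fc.ed (nat_lit 15572) (nat_lit 5959) Col.f (nat_lit 6223) Dv.df))
(Tr.nd (nat_lit 15574) (Tr.lf (Fc.ed (nat_lit 15573) (nat_lit 6223) Col.d (nat_lit 3252) (Dv.wd (nat_lit 21) [Mv.f (nat_lit 14619), Mv.b (nat_lit 15058), Mv.f (nat_lit 15572)])))
(Tr.lf (Fc.ed (nat_lit 15574) (nat_lit 3203) Col.d (nat_lit 6224) Dv.df))))))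
(Tr.nd (nat_lit 15580) (Tr.nd (nat_lit 15577) (Tr.nd (nat_lit 15576) (Tr.lf (Fc.ed (nat_lit 15575) (nat_lit 6224) Col.a (nat_lit 6177) (Dv.wd (nat_lit 8) [Mv.b (nat_lit 15480), Mv.b (nat_lit 8267), Mv.f (nat_lit 15574)])))
(Tr.lf (Fc.ed (nat_lit 15576) (nat_lit 4239) Col.c (nat_lit 6225) Dv.df)))
(Tr.nd (nat_lit 15578) (Tr.lf (Fc.ed (nat_lit 15577) (nat_lit 4080) Col.g (nat_lit 6226) Dv.df))
(Tr.nd (nat_lit 15579) (Tr.lf (Fc.ed (nat_lit 15578) (nat_lit 3485) Col.b (nat_lit 6227) Dv.df))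
(Tr.lf (Fc.ed (nat_lit 15579) (nat_lit 3659) Col.gi (nat_lit 6228) Dv.df)))))
(Tr.nd (nat_lit 15582) (Tr.nd (nat_lit 15581) (Tr.lf (Fc.ed (nat_lit 15580) (nat_lit 6138) Col.a (nat_lit 6229) Dv.df))
(Tr.lf (Fc.ed (nat_lit 15581) (nat_lit 6229) Col.d (nat_lit 4945) (Dv.wd (nat_lit 28) [Mv.b (nat_lit 13973), Mv.f (nat_lit 15411), Mv.f (nat_lit 15580)]))))
(Tr.nd (nat_lit 15583) (Tr.lf (Fc.ed (nat_lit 15582) (nat_lit 6229) Col.gi (nat_lit 5647) (Dv.wd (nat_lit 12) [Mv.f (nat_lit 15181), Mv.b (nat_lit 15412), Mv.f (nat_lit 15580)])))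
(Tr.nd (nat_lit 15584) (Tr.lf (Fc.ed (nat_lit 15583) (nat_lit 5961) Col.g (nat_lit 6230) Dv.df))
(Tr.lf (Fc.ed (nat_lit 15584) (nat_lit 6170) Col.e (nat_lit 6231) Dv.df)))))))
(Tr.nd (nat_lit 15595) (Tr.nd (nat_lit 15590) (Tr.nd (nat_lit 15587) (Tr.nd (nat_lit 15586) (Tr.lf (Fc.ed (nat_lit 15585) (nat_lit 6231) Col.b (nat_lit 2168) (Dv.wd (nat_lit 49) [Mv.f (nat_lit 6543), Mv.f (nat_lit 15467), Mv.f (nat_lit 15584)])))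
(Tr.lf (Fc.ed (nat_lit 15586) (nat_lit 6231) Col.d (nat_lit 6142) (Dv.wd (nat_lit 59) [Mv.b (nat_lit 15416), Mv.b (nat_lit 14926), Mv.b (nat_lit 14766), Mv.b (nat_lit 15468), Mv.f (nat_lit 15584)]))))
(Tr.nd (nat_lit 15588) (Tr.lf (Fc.ed (nat_lit 15587) (nat_lit 5413) Col.c (nat_lit 6232) Dv.df))
(Tr.nd (nat_lit 15589) (Tr.lf (Fc.ed (nat_lit 15588) (nat_lit 5877) Col.c (nat_lit 6233) Dv.df))
(Tr.lf (Fc.ed (nat_lit 15589) (nat_lit 3063) Col.c (nat_lit 6234) Dv.df)))))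
(Tr.nd (nat_lit 15592) (Tr.nd (nat_lit 15591) (Tr.lf (Fc.ed (nat_lit 15590) (nat_lit 4936) Col.d (nat_lit 6235) Dv.df))
(Tr.lf (Fc.ed (nat_lit 15591) (nat_lit 6235) Col.b (nat_lit 4179) (Dv.wd (nat_lit 37) [Mv.b (nat_lit 11086), Mv.b (nat_lit 12831), Mv.f (nat_lit 15590)]))))
(Tr.nd (nat_lit 15593) (Tr.lf (Fc.ed (nat_lit 15592) (nat_lit 5840) Col.f (nat_lit 6236) Dv.df))
(Tr.nd (nat_lit 15594) (Tr.lf (Fc.ed (nat_lit 15593) (nat_lit 6236) Col.a (nat_lit 5486) (Dv.wd (nat_lit 23) [Mv.b (nat_lit 14067), Mv.b (nat_lit 14795), Mv.f (nat_lit 15592)])))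
(Tr.lf (Fc.ed (nat_lit 15594) (nat_lit 5247) Col.b (nat_lit 6237) Dv.df))))))
(Tr.nd (nat_lit 15600) (Tr.nd (nat_lit 15597) (Tr.nd (nat_lit 15596) (Tr.lf (Fc.ed (nat_lit 15595) (nat_lit 6237) Col.d (nat_lit 5441) (Dv.wd (nat_lit 58) [Mv.b (nat_lit 13982), Mv.f (nat_lit 13924), Mv.f (nat_lit 15594)])))
(Tr.lf (Fc.ed (nat_lit 15596) (nat_lit 6237) Col.f (nat_lit 5645) (Dv.wd (nat_lit 20) [Mv.b (nat_lit 14370), Mv.f (nat_lit 13522), Mv.f (nat_lit 15594)]))))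
(Tr.nd (nat_lit 15598) (Tr.lf (Fc.ed (nat_lit 15597) (nat_lit 6237) Col.a (nat_lit 5936) (Dv.wd (nat_lit 98) [Mv.f (nat_lit 15014), Mv.f (nat_lit 14938), Mv.b (nat_lit 14942), Mv.b (nat_lit 13950), Mv.f (nat_lit 15594)])))
(Tr.nd (nat_lit 15599) (Tr.lf (Fc.ed (nat_lit 15598) (nat_lit 4910) Col.a (nat_lit 6238) Dv.df))
(Tr.lf (Fc.ed (nat_lit 15599) (nat_lit 6238) Col.f (nat_lit 5489) (Dv.wd (nat_lit 10) [Mv.b (nat_lit 14072), Mv.b (nat_lit 12775), Mv.f (nat_lit 15598)]))))))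
(Tr.nd (nat_lit 15603) (Tr.nd (nat_lit 15601) (Tr.lf (Fc.ed (nat_lit 15600) (nat_lit 5294) Col.b (nat_lit 6239) Dv.df))
(Tr.nd (nat_lit 15602) (Tr.lf (Fc.ed (nat_lit 15601) (nat_lit 6239) Col.d (nat_lit 5456) (Dv.wd (nat_lit 58) [Mv.b (nat_lit 14538), Mv.f (nat_lit 13618), Mv.f (nat_lit 15600)])))
(Tr.lf (Fc.ed (nat_lit 15602) (nat_lit 5474) Col.a (nat_lit 6239) (Dv.wd (nat_lit 54) [Mv.f (nat_lit 15601), Mv.b (nat_lit 14014), Mv.f (nat_lit 14046)])))))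
(Tr.nd (nat_lit 15604) (Tr.lf (Fc.ed (nat_lit 15603) (nat_lit 5971) Col.gi (nat_lit 6240) Dv.df))
(Tr.nd (nat_lit 15605) (Tr.lf (Fc.ed (nat_lit 15604) (nat_lit 4201) Col.d (nat_lit 6241) Dv.df))
(Tr.lf (Fc.ed (nat_lit 15605) (nat_lit 6241) Col.a (nat_lit 5554) (Dv.wd (nat_lit 8) [Mv.b (nat_lit 14190), Mv.b (nat_lit 10840), Mv.f (nat_lit 15604)])))))))))))
(Tr.nd (nat_lit 15688) (Tr.nd (nat_lit 15647) (Tr.nd (nat_lit 15626) (Tr.nd (nat_lit 15616) (Tr.nd (nat_lit 15611) (Tr.nd (nat_lit 15608) (Tr.nd (nat_lit 15607) (Tr.lf (Fc.ed (nat_lit 15606) (nat_lit 6241) Col.f (nat_lit 6075) (Dv.wd (nat_lit 11) [Mv.b (nat_lit 15293), Mv.b (nat_lit 12803), Mv.f (nat_lit 15604)])))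
(Tr.lf (Fc.ed (nat_lit 15607) (nat_lit 6186) Col.a (nat_lit 6242) Dv.df)))
(Tr.nd (nat_lit 15609) (Tr.lf (Fc.ed (nat_lit 15608) (nat_lit 6242) Col.c (nat_lit 6023) (Dv.wd (nat_lit 33) [Mv.f (nat_lit 15202), Mv.b (nat_lit 15496), Mv.f (nat_lit 15607)])))
(Tr.nd (nat_lit 15610) (Tr.lf (Fc.ed (nat_lit 15609) (nat_lit 4796) Col.b (nat_lit 6242) (Dv.wd (nat_lit 136) [Mv.f (nat_lit 15608), Mv.b (nat_lit 15201), Mv.f (nat_lit 14400), Mv.b (nat_lit 9576), Mv.f (nat_lit 12552)])))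
(Tr.lf (Fc.ed (nat_lit 15610) (nat_lit 6242) Col.e (nat_lit 5972) (Dv.wd (nat_lit 52) [Mv.b (nat_lit 15107), Mv.b (nat_lit 13615), Mv.f (nat_lit 15609)]))))))
(Tr.nd (nat_lit 15613) (Tr.nd (nat_lit 15612) (Tr.lf (Fc.ed (nat_lit 15611) (nat_lit 2171) Col.e (nat_lit 6243) Dv.df))
(Tr.lf (Fc.ed (nat_lit 15612) (nat_lit 6243) Col.d (nat_lit 6074) (Dv.wd (nat_lit 59) [Mv.f (nat_lit 15292), Mv.f (nat_lit 10428), Mv.f (nat_lit 12157), Mv.f (nat_lit 10200), Mv.f (nat_lit 15611)]))))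
(Tr.nd (nat_lit 15614) (Tr.lf (Fc.ed (nat_lit 15613) (nat_lit 6169) Col.e (nat_lit 6244) Dv.df))
(Tr.nd (nat_lit 15615) (Tr.lf (Fc.ed (nat_lit 15614) (nat_lit 6244) Col.d (nat_lit 6035) (Dv.wd (nat_lit 162) [Mv.b (nat_lit 15222), Mv.b (nat_lit 13354), Mv.b (nat_lit 7918), Mv.b (nat_lit 5349), Mv.b (nat_lit 4406), Mv.b (nat_lit 10341), Mv.b (nat_lit 10355), Mv.f (nat_lit 10356), Mv.f (nat_lit 15466), Mv.f (nat_lit 15613)])))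
(Tr.lf (Fc.ed (nat_lit 15615) (nat_lit 4999) Col.gi (nat_lit 6245) Dv.df))))))
(Tr.nd (nat_lit 15621) (Tr.nd (nat_lit 15618) (Tr.nd (nat_lit 15617) (Tr.lf (Fc.ed (nat_lit 15616) (nat_lit 6245) Col.gi (nat_lit 2602) (Dv.wd (nat_lit 24) [Mv.f (nat_lit 7554), Mv.f (nat_lit 13002), Mv.f (nat_lit 15615)])))
(Tr.lf (Fc.ed (nat_lit 15617) (nat_lit 4782) Col.c (nat_lit 6246) Dv.df)))
(Tr.nd (nat_lit 15619) (Tr.lf (Fc.ed (nat_lit 15618) (nat_lit 6246) Col.f (nat_lit 6025) (Dv.wd (nat_lit 26) [Mv.b (nat_lit 15205), Mv.f (nat_lit 12525), Mv.f (nat_lit 15617)])))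
(Tr.nd (nat_lit 15620) (Tr.lf (Fc.ed (nat_lit 15619) (nat_lit 6184) Col.g (nat_lit 6247) Dv.df))
(Tr.lf (Fc.ed (nat_lit 15620) (nat_lit 6160) Col.g (nat_lit 6248) Dv.df)))))
(Tr.nd (nat_lit 15623) (Tr.nd (nat_lit 15622) (Tr.lf (Fc.ed (nat_lit 15621) (nat_lit 5622) Col.a (nat_lit 6249) Dv.df))
(Tr.lf (Fc.ed (nat_lit 15622) (nat_lit 5726) Col.d (nat_lit 6250) Dv.df)))
(Tr.nd (nat_lit 15624) (Tr.lf (Fc.ed (nat_lit 15623) (nat_lit 6250) Col.a (nat_lit 4465) (Dv.wd (nat_lit 8) [Mv.f (nat_lit 11440), Mv.f (nat_lit 14563), Mv.f (nat_lit 15622)])))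
(Tr.nd (nat_lit 15625) (Tr.lf (Fc.ed (nat_lit 15624) (nat_lit 5694) Col.a (nat_lit 6251) Dv.df))
(Tr.lf (Fc.ed (nat_lit 15625) (nat_lit 5458) Col.gi (nat_lit 6252) Dv.df)))))))
(Tr.nd (nat_lit 15636) (Tr.nd (nat_lit 15631) (Tr.nd (nat_lit 15628) (Tr.nd (nat_lit 15627) (Tr.lf (Fc.ed (nat_lit 15626) (nat_lit 6252) Col.gi (nat_lit 2771) (Dv.wd (nat_lit 24) [Mv.f (nat_lit 7730), Mv.f (nat_lit 14016), Mv.f (nat_lit 15625)])))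
(Tr.lf (Fc.ed (nat_lit 15627) (nat_lit 3416) Col.g (nat_lit 6253) Dv.df)))
(Tr.nd (nat_lit 15629) (Tr.lf (Fc.ed (nat_lit 15628) (nat_lit 6253) Col.g (nat_lit 6014) (Dv.wd (nat_lit 9) [Mv.f (nat_lit 15186), Mv.b (nat_lit 11925), Mv.f (nat_lit 15627)])))
(Tr.nd (nat_lit 15630) (Tr.lf (Fc.ed (nat_lit 15629) (nat_lit 4795) Col.c (nat_lit 6254) Dv.df))
(Tr.lf (Fc.ed (nat_lit 15630) (nat_lit 3279) Col.gi (nat_lit 6255) Dv.df)))))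
(Tr.nd (nat_lit 15633) (Tr.nd (nat_lit 15632) (Tr.lf (Fc.ed (nat_lit 15631) (nat_lit 6255) Col.gi (nat_lit 5344) (Dv.wd (nat_lit 24) [Mv.f (nat_lit 13751), Mv.f (nat_lit 12764), Mv.f (nat_lit 15630)])))
(Tr.lf (Fc.ed (nat_lit 15632) (nat_lit 6198) Col.d (nat_lit 6256) Dv.df)))
(Tr.nd (nat_lit 15634) (Tr.lf (Fc.ed (nat_lit 15633) (nat_lit 6256) Col.g (nat_lit 5532) (Dv.wd (nat_lit 63) [Mv.b (nat_lit 14146), Mv.f (nat_lit 6542), Mv.b (nat_lit 8664), Mv.f (nat_lit 12276), Mv.f (nat_lit 11277), Mv.b (nat_lit 11049), Mv.b (nat_lit 8442), Mv.f (nat_lit 13550), Mv.b (nat_lit 15518), Mv.f (nat_lit 15632)])))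
(Tr.nd (nat_lit 15635) (Tr.lf (Fc.ed (nat_lit 15634) (nat_lit 5727) Col.g (nat_lit 6256) (Dv.wd (nat_lit 17) [Mv.f (nat_lit 15633), Mv.b (nat_lit 14413), Mv.b (nat_lit 14567)])))
(Tr.lf (Fc.ed (nat_lit 15635) (nat_lit 4060) Col.f (nat_lit 6257) Dv.df))))))
(Tr.nd (nat_lit 15641) (Tr.nd (nat_lit 15638) (Tr.nd (nat_lit 15637) (Tr.lf (Fc.ed (nat_lit 15636) (nat_lit 6257) Col.a (nat_lit 4500) (Dv.wd (nat_lit 16) [Mv.b (nat_lit 14100), Mv.b (nat_lit 14099), Mv.f (nat_lit 15635)])))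
(Tr.lf (Fc.ed (nat_lit 15637) (nat_lit 6257) Col.b (nat_lit 6063) (Dv.wd (nat_lit 66) [Mv.f (nat_lit 15270), Mv.f (nat_lit 10775), Mv.f (nat_lit 15635)]))))
(Tr.nd (nat_lit 15639) (Tr.lf (Fc.ed (nat_lit 15638) (nat_lit 6162) Col.e (nat_lit 6258) Dv.df))
(Tr.nd (nat_lit 15640) (Tr.lf (Fc.ed (nat_lit 15639) (nat_lit 6258) Col.b (nat_lit 4924) (Dv.wd (nat_lit 49) [Mv.f (nat_lit 12805), Mv.b (nat_lit 15451), Mv.f (nat_lit 15638)])))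
(Tr.lf (Fc.ed (nat_lit 15640) (nat_lit 6258) Col.c (nat_lit 5822) (Dv.wd (nat_lit 18) [Mv.b (nat_lit 15319), Mv.b (nat_lit 15452), Mv.f (nat_lit 15638)]))))))
(Tr.nd (nat_lit 15644) (Tr.nd (nat_lit 15642) (Tr.lf (Fc.ed (nat_lit 15641) (nat_lit 6258) Col.f (nat_lit 5239) (Dv.wd (nat_lit 96) [Mv.f (nat_lit 13508), Mv.b (nat_lit 8633), Mv.b (nat_lit 10866), Mv.f (nat_lit 15450), Mv.f (nat_lit 15638)])))
(Tr.nd (nat_lit 15643) (Tr.lf (Fc.ed (nat_lit 15642) (nat_lit 4812) Col.gi (nat_lit 6259) Dv.df))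
(Tr.lf (Fc.ed (nat_lit 15643) (nat_lit 6259) Col.b (nat_lit 5476) (Dv.wd (nat_lit 168) [Mv.f (nat_lit 14049), Mv.f (nat_lit 12278), Mv.f (nat_lit 12458), Mv.f (nat_lit 12843), Mv.b (nat_lit 13397), Mv.b (nat_lit 13398), Mv.b (nat_lit 8194), Mv.b (nat_lit 11886), Mv.f (nat_lit 12582), Mv.f (nat_lit 15642)])))))
(Tr.nd (nat_lit 15645) (Tr.lf (Fc.ed (nat_lit 15644) (nat_lit 5009) Col.d (nat_lit 6260) Dv.df))
(Tr.nd (nat_lit 15646) (Tr.lf (Fc.ed (nat_lit 15645) (nat_lit 5670) Col.b (nat_lit 6261) Dv.df))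
(Tr.lf (Fc.ed (nat_lit 15646) (nat_lit 6261) Col.f (nat_lit 3625) (Dv.wd (nat_lit 20) [Mv.f (nat_lit 9101), Mv.f (nat_lit 14417), Mv.f (nat_lit 15645)])))))))))
(Tr.nd (nat_lit 15667) (Tr.nd (nat_lit 15657) (Tr.nd (nat_lit 15652) (Tr.nd (nat_lit 15649) (Tr.nd (nat_lit 15648) (Tr.lf (Fc.ed (nat_lit 15647) (nat_lit 6194) Col.d (nat_lit 6262) Dv.df))
(Tr.lf (Fc.ed (nat_lit 15648) (nat_lit 3681) Col.gi (nat_lit 6263) Dv.df)))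
(Tr.nd (nat_lit 15650) (Tr.lf (Fc.ed (nat_lit 15649) (nat_lit 6133) Col.c (nat_lit 6264) Dv.df))
(Tr.nd (nat_lit 15651) (Tr.lf (Fc.ed (nat_lit 15650) (nat_lit 6092) Col.e (nat_lit 6265) Dv.df))
(Tr.lf (Fc.ed (nat_lit 15651) (nat_lit 6265) Col.d (nat_lit 5069) (Dv.wd (nat_lit 91) [Mv.f (nat_lit 13150), Mv.f (nat_lit 7519), Mv.b (nat_lit 7166), Mv.b (nat_lit 4358), Mv.b (nat_lit 3187), Mv.f (nat_lit 3015), Mv.f (nat_lit 4947), Mv.f (nat_lit 7458), Mv.f (nat_lit 15328), Mv.f (nat_lit 15650)]))))))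
(Tr.nd (nat_lit 15654) (Tr.nd (nat_lit 15653) (Tr.lf (Fc.ed (nat_lit 15652) (nat_lit 6163) Col.c (nat_lit 6266) Dv.df))
(Tr.lf (Fc.ed (nat_lit 15653) (nat_lit 6266) Col.f (nat_lit 3705) (Dv.wd (nat_lit 26) [Mv.f (nat_lit 9255), Mv.b (nat_lit 15454), Mv.f (nat_lit 15652)]))))
(Tr.nd (nat_lit 15655) (Tr.lf (Fc.ed (nat_lit 15654) (nat_lit 5140) Col.b (nat_lit 6266) (Dv.wd (nat_lit 107) [Mv.f (nat_lit 15653), Mv.b (nat_lit 9254), Mv.f (nat_lit 13292)])))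
(Tr.nd (nat_lit 15656) (Tr.lf (Fc.ed (nat_lit 15655) (nat_lit 4096) Col.b (nat_lit 6267) Dv.df))
(Tr.lf (Fc.ed (nat_lit 15656) (nat_lit 6267) Col.d (nat_lit 5586) (Dv.wd (nat_lit 58) [Mv.b (nat_lit 14253), Mv.f (nat_lit 11683), Mv.f (nat_lit 15655)])))))))
(Tr.nd (nat_lit 15662) (Tr.nd (nat_lit 15659) (Tr.nd (nat_lit 15658) (Tr.lf (Fc.ed (nat_lit 15657) (nat_lit 6024) Col.d (nat_lit 6268) Dv.df))
(Tr.lf (Fc.ed (nat_lit 15658) (nat_lit 6223) Col.b (nat_lit 6269) Dv.df)))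
(Tr.nd (nat_lit 15660) (Tr.lf (Fc.ed (nat_lit 15659) (nat_lit 6269) Col.d (nat_lit 5485) (Dv.wd (nat_lit 58) [Mv.b (nat_lit 14065), Mv.b (nat_lit 15573), Mv.f (nat_lit 15658)])))
(Tr.nd (nat_lit 15661) (Tr.lf (Fc.ed (nat_lit 15660) (nat_lit 3464) Col.gi (nat_lit 6270) Dv.df))
(Tr.lf (Fc.ed (nat_lit 15661) (nat_lit 6270) Col.gi (nat_lit 6261) (Dv.wd (nat_lit 24) [Mv.f (nat_lit 15646), Mv.f (nat_lit 9096), Mv.f (nat_lit 15660)]))))))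
(Tr.nd (nat_lit 15664) (Tr.nd (nat_lit 15663) (Tr.lf (Fc.ed (nat_lit 15662) (nat_lit 6266) Col.g (nat_lit 6271) Dv.df))
(Tr.lf (Fc.ed (nat_lit 15663) (nat_lit 6271) Col.g (nat_lit 5761) (Dv.wd (nat_lit 9) [Mv.b (nat_lit 14628), Mv.b (nat_lit 15653), Mv.f (nat_lit 15662)]))))
(Tr.nd (nat_lit 15665) (Tr.lf (Fc.ed (nat_lit 15664) (nat_lit 4860) Col.e (nat_lit 6272) Dv.df))
(Tr.nd (nat_lit 15666) (Tr.lf (Fc.ed (nat_lit 15665) (nat_lit 6088) Col.g (nat_lit 6273) Dv.df))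
(Tr.lf (Fc.ed (nat_lit 15666) (nat_lit 6273) Col.g (nat_lit 5293) (Dv.wd (nat_lit 9) [Mv.f (nat_lit 13616), Mv.f (nat_lit 15317), Mv.f (nat_lit 15665)]))))))))
(Tr.nd (nat_lit 15677) (Tr.nd (nat_lit 15672) (Tr.nd (nat_lit 15669) (Tr.nd (nat_lit 15668) (Tr.lf (Fc.ed (nat_lit 15667) (nat_lit 3807) Col.c (nat_lit 6274) Dv.df))
(Tr.lf (Fc.ed (nat_lit 15668) (nat_lit 6274) Col.a (nat_lit 5836) (Dv.wd (nat_lit 19) [Mv.b (nat_lit 14789), Mv.f (nat_lit 10791), Mv.f (nat_lit 15667)]))))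
(Tr.nd (nat_lit 15670) (Tr.lf (Fc.ed (nat_lit 15669) (nat_lit 5716) Col.g (nat_lit 6275) Dv.df))
(Tr.nd (nat_lit 15671) (Tr.lf (Fc.ed (nat_lit 15670) (nat_lit 6275) Col.g (nat_lit 4205) (Dv.wd (nat_lit 9) [Mv.b (nat_lit 14086), Mv.b (nat_lit 14546), Mv.f (nat_lit 15669)])))
(Tr.lf (Fc.ed (nat_lit 15671) (nat_lit 6212) Col.a (nat_lit 6276) Dv.df)))))
(Tr.nd (nat_lit 15674) (Tr.nd (nat_lit 15673) (Tr.lf (Fc.ed (nat_lit 15672) (nat_lit 6276) Col.e (nat_lit 2810) (Dv.wd (nat_lit 56) [Mv.b (nat_lit 7431), Mv.b (nat_lit 15540), Mv.f (nat_lit 15671)])))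
(Tr.lf (Fc.ed (nat_lit 15673) (nat_lit 6265) Col.gi (nat_lit 6277) Dv.df)))
(Tr.nd (nat_lit 15675) (Tr.lf (Fc.ed (nat_lit 15674) (nat_lit 6221) Col.f (nat_lit 6278) Dv.df))
(Tr.nd (nat_lit 15676) (Tr.lf (Fc.ed (nat_lit 15675) (nat_lit 6278) Col.d (nat_lit 4881) (Dv.wd (nat_lit 21) [Mv.f (nat_lit 12718), Mv.f (nat_lit 15570), Mv.f (nat_lit 15674)])))
(Tr.lf (Fc.ed (nat_lit 15676) (nat_lit 3135) Col.a (nat_lit 6279) Dv.df))))))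
(Tr.nd (nat_lit 15682) (Tr.nd (nat_lit 15679) (Tr.nd (nat_lit 15678) (Tr.lf (Fc.ed (nat_lit 15677) (nat_lit 6260) Col.gi (nat_lit 6280) Dv.df))
(Tr.lf (Fc.ed (nat_lit 15678) (nat_lit 6280) Col.b (nat_lit 4636) (Dv.wd (nat_lit 175) [Mv.b (nat_lit 11752), Mv.b (nat_lit 10766), Mv.f (nat_lit 10288), Mv.f (nat_lit 12292), Mv.f (nat_lit 12159), Mv.b (nat_lit 10428), Mv.f (nat_lit 6274), Mv.b (nat_lit 3824), Mv.b (nat_lit 899), Mv.b (nat_lit 852), Mv.f (nat_lit 1100), Mv.f (nat_lit 3120), Mv.b (nat_lit 3385), Mv.b (nat_lit 5197), Mv.f (nat_lit 9815), Mv.f (nat_lit 13650), Mv.f (nat_lit 13649), Mv.f (nat_lit 15644), Mv.f (nat_lit 15677)]))))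
(Tr.nd (nat_lit 15680) (Tr.lf (Fc.ed (nat_lit 15679) (nat_lit 5216) Col.d (nat_lit 6280) (Dv.wd (nat_lit 116) [Mv.f (nat_lit 15678), Mv.f (nat_lit 12903), Mv.f (nat_lit 13459)])))
(Tr.nd (nat_lit 15681) (Tr.lf (Fc.ed (nat_lit 15680) (nat_lit 5273) Col.g (nat_lit 5216) (Dv.wd (nat_lit 145) [Mv.f (nat_lit 15679), Mv.b (nat_lit 15677), Mv.b (nat_lit 15644), Mv.b (nat_lit 13649), Mv.f (nat_lit 13651), Mv.f (nat_lit 10395), Mv.f (nat_lit 9462), Mv.b (nat_lit 14834), Mv.f (nat_lit 13576)])))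
(Tr.lf (Fc.ed (nat_lit 15681) (nat_lit 5216) Col.c (nat_lit 2495) (Dv.wd (nat_lit 138) [Mv.f (nat_lit 6726), Mv.f (nat_lit 14690), Mv.f (nat_lit 14691), Mv.b (nat_lit 14374), Mv.f (nat_lit 14005), Mv.f (nat_lit 14656), Mv.b (nat_lit 15026), Mv.b (nat_lit 15025), Mv.f (nat_lit 15680)]))))))
(Tr.nd (nat_lit 15685) (Tr.nd (nat_lit 15683) (Tr.lf (Fc.ed (nat_lit 15682) (nat_lit 2495) Col.f (nat_lit 2764) (Dv.wd (nat_lit 26) [Mv.f (nat_lit 13744), Mv.f (nat_lit 14843), Mv.f (nat_lit 15681)])))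
(Tr.nd (nat_lit 15684) (Tr.lf (Fc.ed (nat_lit 15683) (nat_lit 5254) Col.gi (nat_lit 5216) (Dv.wd (nat_lit 78) [Mv.f (nat_lit 15681), Mv.b (nat_lit 6725), Mv.b (nat_lit 3985), Mv.b (nat_lit 14666), Mv.f (nat_lit 9426), Mv.f (nat_lit 14668), Mv.f (nat_lit 9803), Mv.f (nat_lit 12674), Mv.f (nat_lit 13537)])))
(Tr.lf (Fc.ed (nat_lit 15684) (nat_lit 5466) Col.b (nat_lit 2495) (Dv.wd (nat_lit 107) [Mv.f (nat_lit 15682), Mv.f (nat_lit 13977), Mv.f (nat_lit 14032)])))))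
(Tr.nd (nat_lit 15686) (Tr.lf (Fc.ed (nat_lit 15685) (nat_lit 3882) Col.d (nat_lit 2495) (Dv.wd (nat_lit 90) [Mv.f (nat_lit 15682), Mv.f (nat_lit 14840), Mv.f (nat_lit 9566)])))
(Tr.nd (nat_lit 15687) (Tr.lf (Fc.ed (nat_lit 15686) (nat_lit 2764) Col.a (nat_lit 2635) (Dv.wd (nat_lit 23) [Mv.f (nat_lit 7039), Mv.b (nat_lit 6726), Mv.f (nat_lit 15682)])))
(Tr.lf (Fc.ed (nat_lit 15687) (nat_lit 5544) Col.a (nat_lit 5340) (Dv.wd (nat_lit 76) [Mv.b (nat_lit 13744), Mv.f (nat_lit 15686), Mv.f (nat_lit 14172)]))))))))))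
(Tr.nd (nat_lit 15729) (Tr.nd (nat_lit 15708) (Tr.nd (nat_lit 15698) (Tr.nd (nat_lit 15693) (Tr.nd (nat_lit 15690) (Tr.nd (nat_lit 15689) (Tr.lf (Fc.ed (nat_lit 15688) (nat_lit 2635) Col.d (nat_lit 3767) (Dv.wd (nat_lit 28) [Mv.f (nat_lit 9368), Mv.b (nat_lit 14840), Mv.f (nat_lit 15686)])))
(Tr.lf (Fc.ed (nat_lit 15689) (nat_lit 5254) Col.g (nat_lit 5544) (Dv.wd (nat_lit 9) [Mv.f (nat_lit 15687), Mv.f (nat_lit 14843), Mv.b (nat_lit 15683)]))))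
(Tr.nd (nat_lit 15691) (Tr.lf (Fc.ed (nat_lit 15690) (nat_lit 6247) Col.d (nat_lit 5333) (Dv.wd (nat_lit 85) [Mv.b (nat_lit 14131), Mv.f (nat_lit 13663), Mv.b (nat_lit 8464), Mv.b (nat_lit 13502), Mv.b (nat_lit 14837), Mv.f (nat_lit 13537), Mv.f (nat_lit 15689), Mv.f (nat_lit 15492), Mv.f (nat_lit 15619)])))
(Tr.nd (nat_lit 15692) (Tr.lf (Fc.al (nat_lit 15691) (nat_lit 3767) (nat_lit 3225) (Dv.wd (nat_lit 32) [Mv.f (nat_lit 8437), Mv.f (nat_lit 10707), Mv.b (nat_lit 10704), Mv.f (nat_lit 10395), Mv.f (nat_lit 9462), Mv.f (nat_lit 14838), Mv.f (nat_lit 13537), Mv.f (nat_lit 15689), Mv.b (nat_lit 14172), Mv.f (nat_lit 15688)])))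
(Tr.lf (Fc.ed (nat_lit 15692) (nat_lit 3225) Col.a (nat_lit 2341) (Dv.wd (nat_lit 29) [Mv.b (nat_lit 9368), Mv.f (nat_lit 15691)]))))))
(Tr.nd (nat_lit 15695) (Tr.nd (nat_lit 15694) (Tr.lf (Fc.ed (nat_lit 15693) (nat_lit 3225) Col.d (nat_lit 2635) (Dv.wd (nat_lit 120) [Mv.f (nat_lit 15688), Mv.f (nat_lit 15691)])))
(Tr.lf (Fc.ed (nat_lit 15694) (nat_lit 3225) Col.f (nat_lit 3583) (Dv.wd (nat_lit 30) [Mv.f (nat_lit 9367), Mv.f (nat_lit 15691)]))))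
(Tr.nd (nat_lit 15696) (Tr.lf (Fc.ed (nat_lit 15695) (nat_lit 3604) Col.f (nat_lit 3292) (Dv.wd (nat_lit 26) [Mv.b (nat_lit 8437), Mv.f (nat_lit 15694), Mv.b (nat_lit 10076)])))
(Tr.nd (nat_lit 15697) (Tr.lf (Fc.al (nat_lit 15696) (nat_lit 3882) (nat_lit 2528) (Dv.wd (nat_lit 12) [Mv.b (nat_lit 6804), Mv.b (nat_lit 8307), Mv.f (nat_lit 15694), Mv.b (nat_lit 9567)])))
(Tr.lf (Fc.al (nat_lit 15697) (nat_lit 3847) (nat_lit 4265) (Dv.wd (nat_lit 119) [Mv.f (nat_lit 10977), Mv.f (nat_lit 15696), Mv.f (nat_lit 9511)])))))))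
(Tr.nd (nat_lit 15703) (Tr.nd (nat_lit 15700) (Tr.nd (nat_lit 15699) (Tr.lf (Fc.ed (nat_lit 15698) (nat_lit 2528) Col.d (nat_lit 2495) (Dv.wd (nat_lit 120) [Mv.b (nat_lit 15685), Mv.f (nat_lit 15696)])))
(Tr.lf (Fc.ed (nat_lit 15699) (nat_lit 2528) Col.f (nat_lit 2341) (Dv.wd (nat_lit 30) [Mv.f (nat_lit 9566), Mv.f (nat_lit 15696)]))))
(Tr.nd (nat_lit 15701) (Tr.lf (Fc.al (nat_lit 15700) (nat_lit 3739) (nat_lit 3478) (Dv.wd (nat_lit 103) [Mv.b (nat_lit 10978), Mv.b (nat_lit 15697), Mv.f (nat_lit 9512)])))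
(Tr.nd (nat_lit 15702) (Tr.lf (Fc.ed (nat_lit 15701) (nat_lit 3847) Col.d (nat_lit 5466) (Dv.wd (nat_lit 120) [Mv.f (nat_lit 14848), Mv.b (nat_lit 15697)])))
(Tr.lf (Fc.ed (nat_lit 15702) (nat_lit 3478) Col.gi (nat_lit 1894) (Dv.wd (nat_lit 128) [Mv.f (nat_lit 10024), Mv.f (nat_lit 15700)]))))))
(Tr.nd (nat_lit 15705) (Tr.nd (nat_lit 15704) (Tr.lf (Fc.ed (nat_lit 15703) (nat_lit 3478) Col.c (nat_lit 3847) (Dv.wd (nat_lit 103) [Mv.f (nat_lit 9512), Mv.f (nat_lit 15700)])))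
(Tr.lf (Fc.ed (nat_lit 15704) (nat_lit 1894) Col.gi (nat_lit 3537) (Dv.wd (nat_lit 24) [Mv.b (nat_lit 10084), Mv.f (nat_lit 10075), Mv.f (nat_lit 15702)]))))
(Tr.nd (nat_lit 15706) (Tr.lf (Fc.ed (nat_lit 15705) (nat_lit 3537) Col.b (nat_lit 3292) (Dv.wd (nat_lit 154) [Mv.b (nat_lit 8437), Mv.b (nat_lit 8306), Mv.b (nat_lit 5238), Mv.f (nat_lit 5236), Mv.b (nat_lit 6805), Mv.f (nat_lit 9511), Mv.b (nat_lit 15703), Mv.f (nat_lit 15702), Mv.f (nat_lit 10023), Mv.f (nat_lit 15704)])))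
(Tr.nd (nat_lit 15707) (Tr.lf (Fc.ed (nat_lit 15706) (nat_lit 6280) Col.gi (nat_lit 6247) (Dv.wd (nat_lit 111) [Mv.f (nat_lit 15690), Mv.b (nat_lit 13733), Mv.b (nat_lit 13646), Mv.b (nat_lit 7622), Mv.f (nat_lit 4026), Mv.f (nat_lit 6804), Mv.f (nat_lit 15698), Mv.b (nat_lit 15681), Mv.f (nat_lit 15679)])))
(Tr.lf (Fc.ed (nat_lit 15707) (nat_lit 5782) Col.g (nat_lit 5587) (Dv.wd (nat_lit 77) [Mv.b (nat_lit 14255), Mv.f (nat_lit 13451), Mv.b (nat_lit 10394), Mv.f (nat_lit 10393), Mv.f (nat_lit 5238), Mv.b (nat_lit 6805), Mv.f (nat_lit 15698), Mv.f (nat_lit 6726), Mv.f (nat_lit 14690)]))))))))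
(Tr.nd (nat_lit 15718) (Tr.nd (nat_lit 15713) (Tr.nd (nat_lit 15710) (Tr.nd (nat_lit 15709) (Tr.lf (Fc.ed (nat_lit 15708) (nat_lit 3902) Col.d (nat_lit 2491) (Dv.wd (nat_lit 48) [Mv.f (nat_lit 10393), Mv.f (nat_lit 5238), Mv.f (nat_lit 8306), Mv.f (nat_lit 15693), Mv.b (nat_lit 7038), Mv.b (nat_lit 3985), Mv.b (nat_lit 2967), Mv.b (nat_lit 6287), Mv.b (nat_lit 9599)])))
(Tr.lf (Fc.ed (nat_lit 15709) (nat_lit 5787) Col.d (nat_lit 3292) (Dv.wd (nat_lit 85) [Mv.b (nat_lit 8437), Mv.f (nat_lit 15693), Mv.f (nat_lit 7039), Mv.f (nat_lit 5392), Mv.b (nat_lit 14665), Mv.f (nat_lit 9426), Mv.f (nat_lit 14668), Mv.f (nat_lit 14812), Mv.b (nat_lit 14776)]))))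
(Tr.nd (nat_lit 15711) (Tr.lf (Fc.ed (nat_lit 15710) (nat_lit 3537) Col.d (nat_lit 3515) (Dv.wd (nat_lit 58) [Mv.f (nat_lit 14701), Mv.f (nat_lit 15709), Mv.b (nat_lit 15705)])))
(Tr.nd (nat_lit 15712) (Tr.lf (Fc.ed (nat_lit 15711) (nat_lit 6143) Col.f (nat_lit 5787) (Dv.wd (nat_lit 86) [Mv.f (nat_lit 15709), Mv.b (nat_lit 15695), Mv.b (nat_lit 15438)])))
(Tr.lf (Fc.ed (nat_lit 15712) (nat_lit 3515) Col.f (nat_lit 4025) (Dv.wd (nat_lit 20) [Mv.f (nat_lit 15437), Mv.f (nat_lit 15711), Mv.b (nat_lit 14701)]))))))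
(Tr.nd (nat_lit 15715) (Tr.nd (nat_lit 15714) (Tr.lf (Fc.ed (nat_lit 15713) (nat_lit 4025) Col.a (nat_lit 3470) (Dv.wd (nat_lit 16) [Mv.f (nat_lit 13758), Mv.f (nat_lit 13759), Mv.f (nat_lit 15712)])))
(Tr.lf (Fc.ed (nat_lit 15714) (nat_lit 5475) Col.c (nat_lit 3515) (Dv.wd (nat_lit 67) [Mv.f (nat_lit 15712), Mv.f (nat_lit 14579), Mv.f (nat_lit 14846)]))))
(Tr.nd (nat_lit 15716) (Tr.lf (Fc.al (nat_lit 15715) (nat_lit 3852) (nat_lit 5349) (Dv.wd (nat_lit 114) [Mv.f (nat_lit 13759), Mv.f (nat_lit 15712), Mv.b (nat_lit 9847), Mv.f (nat_lit 9518)])))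
(Tr.nd (nat_lit 15717) (Tr.lf (Fc.ed (nat_lit 15716) (nat_lit 3852) Col.a (nat_lit 3515) (Dv.wd (nat_lit 29) [Mv.b (nat_lit 13759), Mv.b (nat_lit 15715)])))
(Tr.lf (Fc.ed (nat_lit 15717) (nat_lit 3852) Col.f (nat_lit 3470) (Dv.wd (nat_lit 30) [Mv.f (nat_lit 13758), Mv.b (nat_lit 15715)])))))))
(Tr.nd (nat_lit 15723) (Tr.nd (nat_lit 15720) (Tr.nd (nat_lit 15719) (Tr.lf (Fc.ed (nat_lit 15718) (nat_lit 2451) Col.d (nat_lit 3852) (Dv.wd (nat_lit 97) [Mv.f (nat_lit 15716), Mv.b (nat_lit 15710), Mv.b (nat_lit 8932)])))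
(Tr.lf (Fc.ed (nat_lit 15719) (nat_lit 3470) Col.d (nat_lit 3478) (Dv.wd (nat_lit 90) [Mv.b (nat_lit 8812), Mv.f (nat_lit 15718), Mv.f (nat_lit 15717)]))))
(Tr.nd (nat_lit 15721) (Tr.lf (Fc.ed (nat_lit 15720) (nat_lit 5624) Col.d (nat_lit 3965) (Dv.wd (nat_lit 48) [Mv.f (nat_lit 10591), Mv.f (nat_lit 14679), Mv.b (nat_lit 8005), Mv.b (nat_lit 8597), Mv.f (nat_lit 8798), Mv.f (nat_lit 15719), Mv.f (nat_lit 15703), Mv.f (nat_lit 15701), Mv.f (nat_lit 14327)])))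
(Tr.nd (nat_lit 15722) (Tr.lf (Fc.ed (nat_lit 15721) (nat_lit 4454) Col.b (nat_lit 5624) (Dv.wd (nat_lit 126) [Mv.f (nat_lit 15720), Mv.b (nat_lit 12364), Mv.f (nat_lit 11420)])))
(Tr.lf (Fc.ed (nat_lit 15722) (nat_lit 5624) Col.f (nat_lit 5469) (Dv.wd (nat_lit 20) [Mv.f (nat_lit 14187), Mv.f (nat_lit 11898), Mv.f (nat_lit 15721)]))))))
(Tr.nd (nat_lit 15726) (Tr.nd (nat_lit 15724) (Tr.lf (Fc.ed (nat_lit 15723) (nat_lit 5527) Col.gi (nat_lit 5466) (Dv.wd (nat_lit 12) [Mv.f (nat_lit 14327), Mv.f (nat_lit 15722), Mv.b (nat_lit 14188)])))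
(Tr.nd (nat_lit 15725) (Tr.lf (Fc.ed (nat_lit 15724) (nat_lit 5823) Col.b (nat_lit 4864) (Dv.wd (nat_lit 168) [Mv.b (nat_lit 12687), Mv.f (nat_lit 11840), Mv.f (nat_lit 8943), Mv.f (nat_lit 9724), Mv.f (nat_lit 14047), Mv.f (nat_lit 15714), Mv.b (nat_lit 8886), Mv.b (nat_lit 14605), Mv.f (nat_lit 14604), Mv.f (nat_lit 14772)])))
(Tr.lf (Fc.ed (nat_lit 15725) (nat_lit 4477) Col.b (nat_lit 6254) (Dv.wd (nat_lit 168) [Mv.b (nat_lit 15629), Mv.f (nat_lit 12551), Mv.f (nat_lit 14598), Mv.f (nat_lit 14772), Mv.f (nat_lit 15724), Mv.b (nat_lit 12687), Mv.f (nat_lit 11840), Mv.f (nat_lit 8943), Mv.b (nat_lit 10880), Mv.b (nat_lit 11459)])))))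
(Tr.nd (nat_lit 15727) (Tr.lf (Fc.ed (nat_lit 15726) (nat_lit 3470) Col.c (nat_lit 5750) (Dv.wd (nat_lit 33) [Mv.b (nat_lit 14606), Mv.b (nat_lit 14579), Mv.f (nat_lit 15713)])))
(Tr.nd (nat_lit 15728) (Tr.lf (Fc.ed (nat_lit 15727) (nat_lit 3873) Col.a (nat_lit 3902) (Dv.wd (nat_lit 54) [Mv.f (nat_lit 15708), Mv.b (nat_lit 7395), Mv.f (nat_lit 14839)])))
(Tr.lf (Fc.ed (nat_lit 15728) (nat_lit 3857) Col.f (nat_lit 3902) (Dv.wd (nat_lit 86) [Mv.f (nat_lit 15708), Mv.b (nat_lit 6718), Mv.f (nat_lit 14836)])))))))))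
(Tr.nd (nat_lit 15750) (Tr.nd (nat_lit 15739) (Tr.nd (nat_lit 15734) (Tr.nd (nat_lit 15731) (Tr.nd (nat_lit 15730) (Tr.lf (Fc.ed (nat_lit 15729) (nat_lit 4159) Col.a (nat_lit 3292) (Dv.wd (nat_lit 76) [Mv.b (nat_lit 8437), Mv.f (nat_lit 15692), Mv.f (nat_lit 10765)])))
(Tr.lf (Fc.ed (nat_lit 15730) (nat_lit 3604) Col.g (nat_lit 4102) (Dv.wd (nat_lit 17) [Mv.f (nat_lit 11007), Mv.f (nat_lit 15729), Mv.b (nat_lit 15695)]))))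
(Tr.nd (nat_lit 15732) (Tr.lf (Fc.ed (nat_lit 15731) (nat_lit 5521) Col.g (nat_lit 5623) (Dv.wd (nat_lit 69) [Mv.b (nat_lit 14325), Mv.b (nat_lit 9426), Mv.b (nat_lit 13276), Mv.f (nat_lit 14682), Mv.b (nat_lit 5034), Mv.f (nat_lit 9023), Mv.b (nat_lit 10076), Mv.f (nat_lit 15730), Mv.f (nat_lit 14125)])))
(Tr.nd (nat_lit 15733) (Tr.lf (Fc.ed (nat_lit 15732) (nat_lit 5623) Col.g (nat_lit 5311) (Dv.wd (nat_lit 9) [Mv.b (nat_lit 13670), Mv.b (nat_lit 14127), Mv.f (nat_lit 15731)])))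
(Tr.lf (Fc.ed (nat_lit 15733) (nat_lit 5955) Col.c (nat_lit 3605) (Dv.wd (nat_lit 83) [Mv.f (nat_lit 13272), Mv.b (nat_lit 9195), Mv.f (nat_lit 12211), Mv.b (nat_lit 9803), Mv.b (nat_lit 14668), Mv.f (nat_lit 14325), Mv.f (nat_lit 15732), Mv.f (nat_lit 14145), Mv.f (nat_lit 15050)]))))))
(Tr.nd (nat_lit 15736) (Tr.nd (nat_lit 15735) (Tr.lf (Fc.ed (nat_lit 15734) (nat_lit 2716) Col.c (nat_lit 6024) (Dv.wd (nat_lit 67) [Mv.f (nat_lit 15204), Mv.f (nat_lit 15733), Mv.f (nat_lit 13659)])))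
(Tr.lf (Fc.ed (nat_lit 15735) (nat_lit 5131) Col.b (nat_lit 6145) (Dv.wd (nat_lit 158) [Mv.b (nat_lit 15421), Mv.b (nat_lit 15101), Mv.f (nat_lit 15733), Mv.f (nat_lit 12743), Mv.f (nat_lit 13270)]))))
(Tr.nd (nat_lit 15737) (Tr.lf (Fc.ed (nat_lit 15736) (nat_lit 5876) Col.gi (nat_lit 5968) (Dv.wd (nat_lit 100) [Mv.b (nat_lit 15101), Mv.f (nat_lit 15733), Mv.f (nat_lit 9063), Mv.f (nat_lit 14947), Mv.b (nat_lit 14949), Mv.b (nat_lit 14733), Mv.b (nat_lit 12988), Mv.f (nat_lit 12902), Mv.b (nat_lit 12900), Mv.b (nat_lit 14879)])))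
(Tr.nd (nat_lit 15738) (Tr.lf (Fc.ed (nat_lit 15737) (nat_lit 6268) Col.c (nat_lit 6229) (Dv.wd (nat_lit 80) [Mv.f (nat_lit 15581), Mv.f (nat_lit 13975), Mv.b (nat_lit 12737), Mv.b (nat_lit 7456), Mv.b (nat_lit 13658), Mv.b (nat_lit 11592), Mv.b (nat_lit 11591), Mv.f (nat_lit 15734), Mv.f (nat_lit 15657)])))
(Tr.lf (Fc.ed (nat_lit 15738) (nat_lit 5979) Col.c (nat_lit 5243) (Dv.wd (nat_lit 83) [Mv.b (nat_lit 13516), Mv.b (nat_lit 8465), Mv.b (nat_lit 8464), Mv.b (nat_lit 8173), Mv.b (nat_lit 7393), Mv.f (nat_lit 4179), Mv.f (nat_lit 7220), Mv.f (nat_lit 15734), Mv.b (nat_lit 15203)])))))))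
(Tr.nd (nat_lit 15744) (Tr.nd (nat_lit 15741) (Tr.nd (nat_lit 15740) (Tr.lf (Fc.ed (nat_lit 15739) (nat_lit 6024) Col.gi (nat_lit 6123) (Dv.wd (nat_lit 78) [Mv.b (nat_lit 15384), Mv.f (nat_lit 13997), Mv.b (nat_lit 13185), Mv.b (nat_lit 9844), Mv.b (nat_lit 12219), Mv.b (nat_lit 9801), Mv.b (nat_lit 12212), Mv.b (nat_lit 13652), Mv.f (nat_lit 15734)])))
(Tr.lf (Fc.ed (nat_lit 15740) (nat_lit 6139) Col.g (nat_lit 5097) (Dv.wd (nat_lit 122) [Mv.b (nat_lit 13204), Mv.b (nat_lit 11704), Mv.f (nat_lit 11871), Mv.f (nat_lit 13588), Mv.b (nat_lit 14390), Mv.b (nat_lit 14736), Mv.b (nat_lit 14423), Mv.f (nat_lit 7220), Mv.f (nat_lit 15734), Mv.f (nat_lit 15413)]))))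
(Tr.nd (nat_lit 15742) (Tr.lf (Fc.ed (nat_lit 15741) (nat_lit 5531) Col.a (nat_lit 5979) (Dv.wd (nat_lit 23) [Mv.f (nat_lit 15203), Mv.f (nat_lit 15739), Mv.f (nat_lit 15385)])))
(Tr.nd (nat_lit 15743) (Tr.lf (Fc.ed (nat_lit 15742) (nat_lit 6247) Col.c (nat_lit 6182) (Dv.wd (nat_lit 148) [Mv.b (nat_lit 15490), Mv.f (nat_lit 15385), Mv.f (nat_lit 15741), Mv.f (nat_lit 15738), Mv.b (nat_lit 13516), Mv.b (nat_lit 8465), Mv.b (nat_lit 13663), Mv.f (nat_lit 14131), Mv.b (nat_lit 15690)])))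
(Tr.lf (Fc.ed (nat_lit 15743) (nat_lit 6081) Col.g (nat_lit 6281) Dv.df)))))
(Tr.nd (nat_lit 15747) (Tr.nd (nat_lit 15745) (Tr.lf (Fc.ed (nat_lit 15744) (nat_lit 6281) Col.g (nat_lit 2049) (Dv.wd (nat_lit 9) [Mv.b (nat_lit 15113), Mv.b (nat_lit 15306), Mv.f (nat_lit 15743)])))
(Tr.nd (nat_lit 15746) (Tr.lf (Fc.ed (nat_lit 15745) (nat_lit 6276) Col.c (nat_lit 6282) Dv.df))
(Tr.lf (Fc.ed (nat_lit 15746) (nat_lit 4622) Col.e (nat_lit 6283) Dv.df))))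
(Tr.nd (nat_lit 15748) (Tr.lf (Fc.ed (nat_lit 15747) (nat_lit 6283) Col.d (nat_lit 6161) (Dv.wd (nat_lit 162) [Mv.b (nat_lit 15449), Mv.b (nat_lit 14124), Mv.f (nat_lit 8482), Mv.b (nat_lit 4582), Mv.f (nat_lit 4377), Mv.f (nat_lit 4256), Mv.f (nat_lit 4375), Mv.b (nat_lit 7280), Mv.f (nat_lit 11724), Mv.f (nat_lit 15746)])))
(Tr.nd (nat_lit 15749) (Tr.lf (Fc.ed (nat_lit 15748) (nat_lit 4782) Col.d (nat_lit 6284) Dv.df))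
(Tr.lf (Fc.ed (nat_lit 15749) (nat_lit 6284) Col.f (nat_lit 4689) (Dv.wd (nat_lit 11) [Mv.f (nat_lit 11851), Mv.f (nat_lit 12525), Mv.f (nat_lit 15748)]))))))))
(Tr.nd (nat_lit 15760) (Tr.nd (nat_lit 15755) (Tr.nd (nat_lit 15752) (Tr.nd (nat_lit 15751) (Tr.lf (Fc.ed (nat_lit 15750) (nat_lit 6245) Col.b (nat_lit 6285) Dv.df))
(Tr.lf (Fc.ed (nat_lit 15751) (nat_lit 5393) Col.f (nat_lit 6286) Dv.df)))
(Tr.nd (nat_lit 15753) (Tr.lf (Fc.ed (nat_lit 15752) (nat_lit 6286) Col.a (nat_lit 5796) (Dv.wd (nat_lit 23) [Mv.b (nat_lit 14722), Mv.f (nat_lit 13847), Mv.f (nat_lit 15751)])))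
(Tr.nd (nat_lit 15754) (Tr.lf (Fc.ed (nat_lit 15753) (nat_lit 4773) Col.gi (nat_lit 6287) Dv.df))
(Tr.lf (Fc.ed (nat_lit 15754) (nat_lit 6287) Col.gi (nat_lit 4229) (Dv.wd (nat_lit 24) [Mv.f (nat_lit 10894), Mv.f (nat_lit 12505), Mv.f (nat_lit 15753)]))))))
(Tr.nd (nat_lit 15757) (Tr.nd (nat_lit 15756) (Tr.lf (Fc.ed (nat_lit 15755) (nat_lit 4843) Col.c (nat_lit 6288) Dv.df))
(Tr.lf (Fc.ed (nat_lit 15756) (nat_lit 6288) Col.f (nat_lit 6153) (Dv.wd (nat_lit 26) [Mv.b (nat_lit 15433), Mv.f (nat_lit 12640), Mv.f (nat_lit 15755)]))))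
(Tr.nd (nat_lit 15758) (Tr.lf (Fc.ed (nat_lit 15757) (nat_lit 4654) Col.e (nat_lit 6289) Dv.df))
(Tr.nd (nat_lit 15759) (Tr.lf (Fc.ed (nat_lit 15758) (nat_lit 5587) Col.d (nat_lit 6290) Dv.df))
(Tr.lf (Fc.ed (nat_lit 15759) (nat_lit 6290) Col.g (nat_lit 6183) (Dv.wd (nat_lit 69) [Mv.b (nat_lit 15491), Mv.f (nat_lit 11886), Mv.f (nat_lit 4026), Mv.b (nat_lit 8307), Mv.f (nat_lit 15693), Mv.f (nat_lit 7039), Mv.f (nat_lit 14690), Mv.f (nat_lit 15707), Mv.f (nat_lit 15758)])))))))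
(Tr.nd (nat_lit 15765) (Tr.nd (nat_lit 15762) (Tr.nd (nat_lit 15761) (Tr.lf (Fc.ed (nat_lit 15760) (nat_lit 5664) Col.d (nat_lit 6291) Dv.df))
(Tr.lf (Fc.ed (nat_lit 15761) (nat_lit 4703) Col.g (nat_lit 6292) Dv.df)))
(Tr.nd (nat_lit 15763) (Tr.lf (Fc.ed (nat_lit 15762) (nat_lit 6292) Col.g (nat_lit 3208) (Dv.wd (nat_lit 9) [Mv.b (nat_lit 10903), Mv.b (nat_lit 11879), Mv.f (nat_lit 15761)])))
(Tr.nd (nat_lit 15764) (Tr.lf (Fc.ed (nat_lit 15763) (nat_lit 4504) Col.d (nat_lit 6293) Dv.df))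
(Tr.lf (Fc.ed (nat_lit 15764) (nat_lit 3093) Col.gi (nat_lit 6294) Dv.df)))))
(Tr.nd (nat_lit 15768) (Tr.nd (nat_lit 15766) (Tr.lf (Fc.ed (nat_lit 15765) (nat_lit 6294) Col.gi (nat_lit 6021) (Dv.wd (nat_lit 24) [Mv.b (nat_lit 15196), Mv.b (nat_lit 13860), Mv.f (nat_lit 15764)])))
(Tr.nd (nat_lit 15767) (Tr.lf (Fc.ed (nat_lit 15766) (nat_lit 5575) Col.c (nat_lit 6295) Dv.df))
(Tr.lf (Fc.ed (nat_lit 15767) (nat_lit 6295) Col.a (nat_lit 4213) (Dv.wd (nat_lit 19) [Mv.b (nat_lit 10862), Mv.b (nat_lit 14232), Mv.f (nat_lit 15766)])))))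
(Tr.nd (nat_lit 15769) (Tr.lf (Fc.ed (nat_lit 15768) (nat_lit 5712) Col.f (nat_lit 6296) Dv.df))
(Tr.nd (nat_lit 15770) (Tr.lf (Fc.ed (nat_lit 15769) (nat_lit 5850) Col.d (nat_lit 6297) Dv.df))
(Tr.lf (Fc.ed (nat_lit 15770) (nat_lit 6297) Col.c (nat_lit 6280) (Dv.wd (nat_lit 150) [Mv.b (nat_lit 15679), Mv.f (nat_lit 15681), Mv.b (nat_lit 15698), Mv.f (nat_lit 15699), Mv.b (nat_lit 15692), Mv.f (nat_lit 8437), Mv.b (nat_lit 15709), Mv.b (nat_lit 14811), Mv.f (nat_lit 15769)])))))))))))))))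
end CfsgLib.TCON
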