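import Cfsg.Agent.EqBase
import Cfsg.Agent.LibTCONW
set_option autoImplicit false
set_option linter.all false
set_option maxRecDepth 1000000
set_option maxHeartbeats 0
namespace CfsgLib.TCON
open CfsgLib.TC Cfsg.Spor CfsgLib.TCG_ON
noncomputable def mini2S_6 : Tr (Fc Col) := (Tr.nd (nat_lit 17085) (Tr.nd (nat_lit 16428) (Tr.nd (nat_lit 16099) (Tr.nd (nat_lit 15935) (Tr.nd (nat_lit 15853) (Tr.nd (nat_lit 15812) (Tr.nd (nat_lit 15791) (Tr.nd (nat_lit 15781) (Tr.nd (nat_lit 15776) (Tr.nd (nat_lit 15773) (Tr.nd (nat_lit 15772) (Tr.lf (Fc.ed (nat_lit 15771) (nat_lit 6297) Col.gi (nat_lit 6185) (Dv.wd (nat_lit 111) [Mv.f (nat_lit 15494), Mv.f (nat_lit 14863), Mv.b (nat_lit 14866), Mv.b (nat_lit 13997), Mv.b (nat_lit 13996), Mv.b (nat_lit 10707), Mv.b (nat_lit 15709), Mv.b (nat_lit 14811), Mv.f (nat_lit 15769)])))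
(Tr.lf (Fc.ed (nat_lit 15772) (nat_lit 5976) Col.e (nat_lit 6298) Dv.df)))
(Tr.nd (nat_lit 15774) (Tr.lf (Fc.ed (nat_lit 15773) (nat_lit 6298) Col.a (nat_lit 5909) (Dv.wd (nat_lit 15) [Mv.b (nat_lit 15327), Mv.f (nat_lit 15326), Mv.f (nat_lit 15772)])))
(Tr.nd (nat_lit 15775) (Tr.lf (Fc.ed (nat_lit 15774) (nat_lit 6298) Col.c (nat_lit 5568) (Dv.wd (nat_lit 18) [Mv.f (nat_lit 14219), Mv.f (nat_lit 15115), Mv.f (nat_lit 15772)])))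
(Tr.lf (Fc.ed (nat_lit 15775) (nat_lit 5764) Col.g (nat_lit 6298) (Dv.wd (nat_lit 9) [Mv.f (nat_lit 15773), Mv.f (nat_lit 14946), Mv.f (nat_lit 14633)]))))))
(Tr.nd (nat_lit 15778) (Tr.nd (nat_lit 15777) (Tr.lf (Fc.ed (nat_lit 15776) (nat_lit 1013) Col.e (nat_lit 6299) Dv.df))
(Tr.lf (Fc.ed (nat_lit 15777) (nat_lit 6299) Col.d (nat_lit 6276) (Dv.wd (nat_lit 59) [Mv.f (nat_lit 15672), Mv.f (nat_lit 12046), Mv.b (nat_lit 10119), Mv.f (nat_lit 10118), Mv.f (nat_lit 15776)]))))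
(Tr.nd (nat_lit 15779) (Tr.lf (Fc.ed (nat_lit 15778) (nat_lit 6284) Col.g (nat_lit 6300) Dv.df))
(Tr.nd (nat_lit 15780) (Tr.lf (Fc.ed (nat_lit 15779) (nat_lit 4559) Col.a (nat_lit 6301) Dv.df))
(Tr.lf (Fc.ed (nat_lit 15780) (nat_lit 6301) Col.d (nat_lit 5652) (Dv.wd (nat_lit 28) [Mv.f (nat_lit 14385), Mv.b (nat_lit 11609), Mv.f (nat_lit 15779)])))))))
(Tr.nd (nat_lit 15786) (Tr.nd (nat_lit 15783) (Tr.nd (nat_lit 15782) (Tr.lf (Fc.ed (nat_lit 15781) (nat_lit 6301) Col.e (nat_lit 4252) (Dv.wd (nat_lit 56) [Mv.b (nat_lit 10937), Mv.f (nat_lit 11608), Mv.f (nat_lit 15779)])))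
(Tr.lf (Fc.ed (nat_lit 15782) (nat_lit 5976) Col.g (nat_lit 6302) Dv.df)))
(Tr.nd (nat_lit 15784) (Tr.lf (Fc.ed (nat_lit 15783) (nat_lit 5579) Col.f (nat_lit 6303) Dv.df))
(Tr.nd (nat_lit 15785) (Tr.lf (Fc.ed (nat_lit 15784) (nat_lit 6303) Col.a (nat_lit 5664) (Dv.wd (nat_lit 23) [Mv.b (nat_lit 14407), Mv.b (nat_lit 14241), Mv.f (nat_lit 15783)])))
(Tr.lf (Fc.ed (nat_lit 15785) (nat_lit 6198) Col.gi (nat_lit 6304) Dv.df)))))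
(Tr.nd (nat_lit 15788) (Tr.nd (nat_lit 15787) (Tr.lf (Fc.ed (nat_lit 15786) (nat_lit 5810) Col.e (nat_lit 6305) Dv.df))
(Tr.lf (Fc.ed (nat_lit 15787) (nat_lit 6305) Col.d (nat_lit 6219) (Dv.wd (nat_lit 59) [Mv.b (nat_lit 15567), Mv.f (nat_lit 9761), Mv.f (nat_lit 10673), Mv.f (nat_lit 14751), Mv.f (nat_lit 15786)]))))
(Tr.nd (nat_lit 15789) (Tr.lf (Fc.ed (nat_lit 15788) (nat_lit 5980) Col.gi (nat_lit 6306) Dv.df))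
(Tr.nd (nat_lit 15790) (Tr.lf (Fc.ed (nat_lit 15789) (nat_lit 2229) Col.gi (nat_lit 6307) Dv.df))
(Tr.lf (Fc.ed (nat_lit 15790) (nat_lit 6307) Col.gi (nat_lit 4866) (Dv.wd (nat_lit 24) [Mv.b (nat_lit 12920), Mv.b (nat_lit 12922), Mv.f (nat_lit 15789)]))))))))
(Tr.nd (nat_lit 15801) (Tr.nd (nat_lit 15796) (Tr.nd (nat_lit 15793) (Tr.nd (nat_lit 15792) (Tr.lf (Fc.ed (nat_lit 15791) (nat_lit 3125) Col.c (nat_lit 6308) Dv.df))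
(Tr.lf (Fc.ed (nat_lit 15792) (nat_lit 6308) Col.e (nat_lit 5944) (Dv.wd (nat_lit 25) [Mv.b (nat_lit 15030), Mv.b (nat_lit 8105), Mv.f (nat_lit 15791)]))))
(Tr.nd (nat_lit 15794) (Tr.lf (Fc.ed (nat_lit 15793) (nat_lit 5827) Col.c (nat_lit 6309) Dv.df))
(Tr.nd (nat_lit 15795) (Tr.lf (Fc.ed (nat_lit 15794) (nat_lit 3031) Col.a (nat_lit 6310) Dv.df))
(Tr.lf (Fc.ed (nat_lit 15795) (nat_lit 6310) Col.f (nat_lit 5728) (Dv.wd (nat_lit 35) [Mv.b (nat_lit 14568), Mv.f (nat_lit 11597), Mv.f (nat_lit 15794)]))))))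
(Tr.nd (nat_lit 15798) (Tr.nd (nat_lit 15797) (Tr.lf (Fc.ed (nat_lit 15796) (nat_lit 4499) Col.c (nat_lit 6311) Dv.df))
(Tr.lf (Fc.ed (nat_lit 15797) (nat_lit 5304) Col.a (nat_lit 6312) Dv.df)))
(Tr.nd (nat_lit 15799) (Tr.lf (Fc.ed (nat_lit 15798) (nat_lit 6312) Col.d (nat_lit 3391) (Dv.wd (nat_lit 28) [Mv.b (nat_lit 9365), Mv.f (nat_lit 13637), Mv.f (nat_lit 15797)])))
(Tr.nd (nat_lit 15800) (Tr.lf (Fc.ed (nat_lit 15799) (nat_lit 6312) Col.f (nat_lit 6117) (Dv.wd (nat_lit 35) [Mv.f (nat_lit 15375), Mv.b (nat_lit 13638), Mv.f (nat_lit 15797)])))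
(Tr.lf (Fc.ed (nat_lit 15800) (nat_lit 6046) Col.gi (nat_lit 6312) (Dv.wd (nat_lit 24) [Mv.f (nat_lit 15799), Mv.f (nat_lit 15375), Mv.f (nat_lit 15241)])))))))
(Tr.nd (nat_lit 15806) (Tr.nd (nat_lit 15803) (Tr.nd (nat_lit 15802) (Tr.lf (Fc.ed (nat_lit 15801) (nat_lit 5233) Col.d (nat_lit 6313) Dv.df))
(Tr.lf (Fc.ed (nat_lit 15802) (nat_lit 6233) Col.d (nat_lit 6314) Dv.df)))
(Tr.nd (nat_lit 15804) (Tr.lf (Fc.ed (nat_lit 15803) (nat_lit 6314) Col.c (nat_lit 3209) (Dv.wd (nat_lit 80) [Mv.f (nat_lit 8279), Mv.f (nat_lit 6009), Mv.f (nat_lit 6963), Mv.b (nat_lit 8413), Mv.b (nat_lit 13205), Mv.f (nat_lit 14878), Mv.b (nat_lit 14882), Mv.f (nat_lit 15588), Mv.f (nat_lit 15802)])))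
(Tr.nd (nat_lit 15805) (Tr.lf (Fc.ed (nat_lit 15804) (nat_lit 6314) Col.f (nat_lit 6274) (Dv.wd (nat_lit 112) [Mv.f (nat_lit 15668), Mv.b (nat_lit 14789), Mv.b (nat_lit 10790), Mv.b (nat_lit 9376), Mv.b (nat_lit 11318), Mv.b (nat_lit 13750), Mv.f (nat_lit 14881), Mv.f (nat_lit 15588), Mv.f (nat_lit 15802)])))
(Tr.lf (Fc.ed (nat_lit 15805) (nat_lit 2869) Col.g (nat_lit 6315) Dv.df)))))
(Tr.nd (nat_lit 15809) (Tr.nd (nat_lit 15807) (Tr.lf (Fc.ed (nat_lit 15806) (nat_lit 6315) Col.g (nat_lit 5290) (Dv.wd (nat_lit 9) [Mv.f (nat_lit 13609), Mv.f (nat_lit 7554), Mv.f (nat_lit 15805)])))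
(Tr.nd (nat_lit 15808) (Tr.lf (Fc.ed (nat_lit 15807) (nat_lit 4776) Col.e (nat_lit 6316) Dv.df))
(Tr.lf (Fc.ed (nat_lit 15808) (nat_lit 6150) Col.gi (nat_lit 6317) Dv.df))))
(Tr.nd (nat_lit 15810) (Tr.lf (Fc.ed (nat_lit 15809) (nat_lit 4911) Col.g (nat_lit 6318) Dv.df))
(Tr.nd (nat_lit 15811) (Tr.lf (Fc.ed (nat_lit 15810) (nat_lit 6318) Col.g (nat_lit 2841) (Dv.wd (nat_lit 9) [Mv.f (nat_lit 11915), Mv.b (nat_lit 12777), Mv.f (nat_lit 15809)])))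
(Tr.lf (Fc.ed (nat_lit 15811) (nat_lit 5939) Col.gi (nat_lit 6319) Dv.df))))))))
(Tr.nd (nat_lit 15832) (Tr.nd (nat_lit 15822) (Tr.nd (nat_lit 15817) (Tr.nd (nat_lit 15814) (Tr.nd (nat_lit 15813) (Tr.lf (Fc.ed (nat_lit 15812) (nat_lit 6319) Col.gi (nat_lit 4165) (Dv.wd (nat_lit 24) [Mv.f (nat_lit 10778), Mv.f (nat_lit 15020), Mv.f (nat_lit 15811)])))
(Tr.lf (Fc.ed (nat_lit 15813) (nat_lit 6290) Col.b (nat_lit 6320) Dv.df)))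
(Tr.nd (nat_lit 15815) (Tr.lf (Fc.ed (nat_lit 15814) (nat_lit 6320) Col.c (nat_lit 4749) (Dv.wd (nat_lit 142) [Mv.f (nat_lit 12466), Mv.f (nat_lit 12798), Mv.f (nat_lit 13384), Mv.b (nat_lit 13387), Mv.b (nat_lit 15678), Mv.b (nat_lit 15770), Mv.f (nat_lit 15771), Mv.b (nat_lit 15493), Mv.b (nat_lit 15759), Mv.f (nat_lit 15813)])))
(Tr.nd (nat_lit 15816) (Tr.lf (Fc.al (nat_lit 15815) (nat_lit 4749) (nat_lit 6291) (Dv.wd (nat_lit 149) [Mv.b (nat_lit 15760), Mv.b (nat_lit 14407), Mv.b (nat_lit 9068), Mv.b (nat_lit 3036), Mv.b (nat_lit 2318), Mv.b (nat_lit 1247), Mv.f (nat_lit 1249), Mv.f (nat_lit 1248), Mv.f (nat_lit 568), Mv.f (nat_lit 1562), Mv.f (nat_lit 1378), Mv.f (nat_lit 1602), Mv.b (nat_lit 3532), Mv.f (nat_lit 3741), Mv.f (nat_lit 4025), Mv.b (nat_lit 11886), Mv.f (nat_lit 15491), Mv.b (nat_lit 15759), Mv.f (nat_lit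 15813), Mv.f (nat_lit 15814)])))
(Tr.lf (Fc.ed (nat_lit 15816) (nat_lit 4749) Col.d (nat_lit 5664) (Dv.wd (nat_lit 120) [Mv.f (nat_lit 15760), Mv.b (nat_lit 15815)]))))))
(Tr.nd (nat_lit 15819) (Tr.nd (nat_lit 15818) (Tr.lf (Fc.ed (nat_lit 15817) (nat_lit 6303) Col.d (nat_lit 5608) (Dv.wd (nat_lit 28) [Mv.f (nat_lit 14296), Mv.f (nat_lit 15816), Mv.b (nat_lit 15784)])))
(Tr.lf (Fc.ed (nat_lit 15818) (nat_lit 6149) Col.d (nat_lit 5463) (Dv.wd (nat_lit 51) [Mv.f (nat_lit 14027), Mv.f (nat_lit 11304), Mv.b (nat_lit 10595), Mv.b (nat_lit 9307), Mv.f (nat_lit 12465), Mv.f (nat_lit 15816), Mv.b (nat_lit 14407), Mv.b (nat_lit 9200), Mv.f (nat_lit 15427)]))))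
(Tr.nd (nat_lit 15820) (Tr.lf (Fc.ed (nat_lit 15819) (nat_lit 4740) Col.d (nat_lit 5579) (Dv.wd (nat_lit 90) [Mv.f (nat_lit 15783), Mv.f (nat_lit 15817), Mv.b (nat_lit 14295)])))
(Tr.nd (nat_lit 15821) (Tr.lf (Fc.ed (nat_lit 15820) (nat_lit 6248) Col.d (nat_lit 6321) Dv.df))
(Tr.lf (Fc.ed (nat_lit 15821) (nat_lit 5837) Col.f (nat_lit 6322) Dv.df))))))
(Tr.nd (nat_lit 15827) (Tr.nd (nat_lit 15824) (Tr.nd (nat_lit 15823) (Tr.lf (Fc.ed (nat_lit 15822) (nat_lit 6322) Col.a (nat_lit 5488) (Dv.wd (nat_lit 23) [Mv.f (nat_lit 14071), Mv.f (nat_lit 14790), Mv.f (nat_lit 15821)])))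
(Tr.lf (Fc.ed (nat_lit 15823) (nat_lit 6241) Col.e (nat_lit 6323) Dv.df)))
(Tr.nd (nat_lit 15825) (Tr.lf (Fc.ed (nat_lit 15824) (nat_lit 6323) Col.a (nat_lit 6002) (Dv.wd (nat_lit 15) [Mv.f (nat_lit 15163), Mv.b (nat_lit 15605), Mv.f (nat_lit 15823)])))
(Tr.nd (nat_lit 15826) (Tr.lf (Fc.ed (nat_lit 15825) (nat_lit 6323) Col.d (nat_lit 5221) (Dv.wd (nat_lit 59) [Mv.b (nat_lit 13468), Mv.b (nat_lit 6196), Mv.f (nat_lit 10839), Mv.f (nat_lit 15604), Mv.f (nat_lit 15823)])))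
(Tr.lf (Fc.ed (nat_lit 15826) (nat_lit 3381) Col.e (nat_lit 6324) Dv.df)))))
(Tr.nd (nat_lit 15829) (Tr.nd (nat_lit 15828) (Tr.lf (Fc.ed (nat_lit 15827) (nat_lit 2771) Col.gi (nat_lit 6325) Dv.df))
(Tr.lf (Fc.ed (nat_lit 15828) (nat_lit 6325) Col.gi (nat_lit 5458) (Dv.wd (nat_lit 24) [Mv.b (nat_lit 14401), Mv.b (nat_lit 14399), Mv.f (nat_lit 15827)]))))
(Tr.nd (nat_lit 15830) (Tr.lf (Fc.ed (nat_lit 15829) (nat_lit 5111) Col.d (nat_lit 6326) Dv.df))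
(Tr.nd (nat_lit 15831) (Tr.lf (Fc.ed (nat_lit 15830) (nat_lit 6326) Col.f (nat_lit 3740) (Dv.wd (nat_lit 11) [Mv.b (nat_lit 10506), Mv.f (nat_lit 13232), Mv.f (nat_lit 15829)])))
(Tr.lf (Fc.ed (nat_lit 15831) (nat_lit 5743) Col.d (nat_lit 6327) Dv.df)))))))
(Tr.nd (nat_lit 15842) (Tr.nd (nat_lit 15837) (Tr.nd (nat_lit 15834) (Tr.nd (nat_lit 15833) (Tr.lf (Fc.ed (nat_lit 15832) (nat_lit 6327) Col.b (nat_lit 6155) (Dv.wd (nat_lit 37) [Mv.b (nat_lit 15439), Mv.f (nat_lit 14593), Mv.f (nat_lit 15831)])))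
(Tr.lf (Fc.ed (nat_lit 15833) (nat_lit 6327) Col.f (nat_lit 5997) (Dv.wd (nat_lit 11) [Mv.b (nat_lit 15153), Mv.b (nat_lit 14594), Mv.f (nat_lit 15831)]))))
(Tr.nd (nat_lit 15835) (Tr.lf (Fc.ed (nat_lit 15834) (nat_lit 5843) Col.e (nat_lit 6328) Dv.df))
(Tr.nd (nat_lit 15836) (Tr.lf (Fc.ed (nat_lit 15835) (nat_lit 6279) Col.e (nat_lit 6329) Dv.df))
(Tr.lf (Fc.ed (nat_lit 15836) (nat_lit 6329) Col.a (nat_lit 3910) (Dv.wd (nat_lit 15) [Mv.b (nat_lit 9614), Mv.f (nat_lit 15676), Mv.f (nat_lit 15835)]))))))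
(Tr.nd (nat_lit 15839) (Tr.nd (nat_lit 15838) (Tr.lf (Fc.ed (nat_lit 15837) (nat_lit 6186) Col.d (nat_lit 6330) Dv.df))
(Tr.lf (Fc.ed (nat_lit 15838) (nat_lit 6174) Col.b (nat_lit 6331) Dv.df)))
(Tr.nd (nat_lit 15840) (Tr.lf (Fc.ed (nat_lit 15839) (nat_lit 6331) Col.c (nat_lit 2517) (Dv.wd (nat_lit 93) [Mv.b (nat_lit 6776), Mv.b (nat_lit 3454), Mv.f (nat_lit 5421), Mv.f (nat_lit 15475), Mv.f (nat_lit 15838)])))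
(Tr.nd (nat_lit 15841) (Tr.lf (Fc.ed (nat_lit 15840) (nat_lit 5301) Col.b (nat_lit 6332) Dv.df))
(Tr.lf (Fc.ed (nat_lit 15841) (nat_lit 6332) Col.c (nat_lit 6307) (Dv.wd (nat_lit 135) [Mv.b (nat_lit 15789), Mv.b (nat_lit 6133), Mv.f (nat_lit 6099), Mv.f (nat_lit 3461), Mv.f (nat_lit 3463), Mv.b (nat_lit 2375), Mv.f (nat_lit 3239), Mv.f (nat_lit 6180), Mv.b (nat_lit 13632), Mv.f (nat_lit 15840)])))))))
(Tr.nd (nat_lit 15847) (Tr.nd (nat_lit 15844) (Tr.nd (nat_lit 15843) (Tr.lf (Fc.ed (nat_lit 15842) (nat_lit 5201) Col.c (nat_lit 6333) Dv.df))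
(Tr.lf (Fc.ed (nat_lit 15843) (nat_lit 6333) Col.f (nat_lit 5978) (Dv.wd (nat_lit 26) [Mv.b (nat_lit 15121), Mv.f (nat_lit 13431), Mv.f (nat_lit 15842)]))))
(Tr.nd (nat_lit 15845) (Tr.lf (Fc.ed (nat_lit 15844) (nat_lit 6296) Col.c (nat_lit 6334) Dv.df))
(Tr.nd (nat_lit 15846) (Tr.lf (Fc.ed (nat_lit 15845) (nat_lit 4311) Col.b (nat_lit 6335) Dv.df))
(Tr.lf (Fc.ed (nat_lit 15846) (nat_lit 6335) Col.f (nat_lit 6028) (Dv.wd (nat_lit 20) [Mv.b (nat_lit 15210), Mv.b (nat_lit 11084), Mv.f (nat_lit 15845)]))))))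
(Tr.nd (nat_lit 15850) (Tr.nd (nat_lit 15848) (Tr.lf (Fc.ed (nat_lit 15847) (nat_lit 5947) Col.b (nat_lit 6336) Dv.df))
(Tr.nd (nat_lit 15849) (Tr.lf (Fc.ed (nat_lit 15848) (nat_lit 6336) Col.d (nat_lit 6027) (Dv.wd (nat_lit 58) [Mv.f (nat_lit 15209), Mv.b (nat_lit 15112), Mv.f (nat_lit 15847)])))
(Tr.lf (Fc.ed (nat_lit 15849) (nat_lit 6336) Col.a (nat_lit 4456) (Dv.wd (nat_lit 98) [Mv.f (nat_lit 11425), Mv.b (nat_lit 10038), Mv.f (nat_lit 6240), Mv.f (nat_lit 15035), Mv.f (nat_lit 15847)])))))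
(Tr.nd (nat_lit 15851) (Tr.lf (Fc.ed (nat_lit 15850) (nat_lit 5931) Col.d (nat_lit 6337) Dv.df))
(Tr.nd (nat_lit 15852) (Tr.lf (Fc.ed (nat_lit 15851) (nat_lit 3898) Col.e (nat_lit 6338) Dv.df))
(Tr.lf (Fc.ed (nat_lit 15852) (nat_lit 6338) Col.b (nat_lit 6067) (Dv.wd (nat_lit 49) [Mv.b (nat_lit 15276), Mv.f (nat_lit 9591), Mv.f (nat_lit 15851)]))))))))))
(Tr.nd (nat_lit 15894) (Tr.nd (nat_lit 15873) (Tr.nd (nat_lit 15863) (Tr.nd (nat_lit 15858) (Tr.nd (nat_lit 15855) (Tr.nd (nat_lit 15854) (Tr.lf (Fc.ed (nat_lit 15853) (nat_lit 6338) Col.d (nat_lit 6087) (Dv.wd (nat_lit 59) [Mv.b (nat_lit 15316), Mv.b (nat_lit 11997), Mv.b (nat_lit 12003), Mv.b (nat_lit 10462), Mv.f (nat_lit 15851)])))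
(Tr.lf (Fc.ed (nat_lit 15854) (nat_lit 5463) Col.a (nat_lit 6339) Dv.df)))
(Tr.nd (nat_lit 15856) (Tr.lf (Fc.ed (nat_lit 15855) (nat_lit 4663) Col.b (nat_lit 6340) Dv.df))
(Tr.nd (nat_lit 15857) (Tr.lf (Fc.ed (nat_lit 15856) (nat_lit 6340) Col.c (nat_lit 6263) (Dv.wd (nat_lit 135) [Mv.b (nat_lit 15648), Mv.f (nat_lit 9200), Mv.b (nat_lit 9068), Mv.b (nat_lit 3494), Mv.b (nat_lit 3491), Mv.b (nat_lit 3025), Mv.f (nat_lit 3205), Mv.f (nat_lit 6039), Mv.b (nat_lit 11799), Mv.f (nat_lit 15855)])))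
(Tr.lf (Fc.ed (nat_lit 15857) (nat_lit 2278) Col.c (nat_lit 6341) Dv.df)))))
(Tr.nd (nat_lit 15860) (Tr.nd (nat_lit 15859) (Tr.lf (Fc.ed (nat_lit 15858) (nat_lit 6341) Col.b (nat_lit 5977) (Dv.wd (nat_lit 87) [Mv.f (nat_lit 15118), Mv.b (nat_lit 5226), Mv.f (nat_lit 3456), Mv.f (nat_lit 6240), Mv.f (nat_lit 15857)])))
(Tr.lf (Fc.ed (nat_lit 15859) (nat_lit 5754) Col.gi (nat_lit 2278) (Dv.wd (nat_lit 88) [Mv.f (nat_lit 15857), Mv.f (nat_lit 15858), Mv.f (nat_lit 15119), Mv.f (nat_lit 14996), Mv.b (nat_lit 13574), Mv.f (nat_lit 13393), Mv.f (nat_lit 13391), Mv.b (nat_lit 12272), Mv.f (nat_lit 14763), Mv.f (nat_lit 14764)]))))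
(Tr.nd (nat_lit 15861) (Tr.lf (Fc.ed (nat_lit 15860) (nat_lit 4087) Col.f (nat_lit 6342) Dv.df))
(Tr.nd (nat_lit 15862) (Tr.lf (Fc.ed (nat_lit 15861) (nat_lit 6342) Col.a (nat_lit 4420) (Dv.wd (nat_lit 16) [Mv.b (nat_lit 14184), Mv.b (nat_lit 14183), Mv.f (nat_lit 15860)])))
(Tr.lf (Fc.ed (nat_lit 15862) (nat_lit 4381) Col.g (nat_lit 6343) Dv.df))))))
(Tr.nd (nat_lit 15868) (Tr.nd (nat_lit 15865) (Tr.nd (nat_lit 15864) (Tr.lf (Fc.ed (nat_lit 15863) (nat_lit 6343) Col.g (nat_lit 5257) (Dv.wd (nat_lit 9) [Mv.f (nat_lit 13543), Mv.b (nat_lit 13095), Mv.f (nat_lit 15862)])))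
(Tr.lf (Fc.ed (nat_lit 15864) (nat_lit 6343) Col.c (nat_lit 6235) (Dv.wd (nat_lit 115) [Mv.f (nat_lit 15591), Mv.b (nat_lit 10798), Mv.f (nat_lit 8255), Mv.f (nat_lit 8686), Mv.b (nat_lit 14064), Mv.b (nat_lit 14066), Mv.b (nat_lit 14065), Mv.f (nat_lit 8359), Mv.f (nat_lit 11288), Mv.f (nat_lit 15862)]))))
(Tr.nd (nat_lit 15866) (Tr.lf (Fc.ed (nat_lit 15865) (nat_lit 6164) Col.d (nat_lit 6344) Dv.df))
(Tr.nd (nat_lit 15867) (Tr.lf (Fc.ed (nat_lit 15866) (nat_lit 5148) Col.c (nat_lit 6345) Dv.df))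
(Tr.lf (Fc.ed (nat_lit 15867) (nat_lit 6345) Col.g (nat_lit 6346) Dv.df)))))
(Tr.nd (nat_lit 15870) (Tr.nd (nat_lit 15869) (Tr.lf (Fc.ed (nat_lit 15868) (nat_lit 6018) Col.g (nat_lit 6347) Dv.df))
(Tr.lf (Fc.ed (nat_lit 15869) (nat_lit 6347) Col.g (nat_lit 3525) (Dv.wd (nat_lit 9) [Mv.f (nat_lit 15020), Mv.f (nat_lit 15191), Mv.f (nat_lit 15868)]))))
(Tr.nd (nat_lit 15871) (Tr.lf (Fc.ed (nat_lit 15870) (nat_lit 6333) Col.d (nat_lit 6348) Dv.df))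
(Tr.nd (nat_lit 15872) (Tr.lf (Fc.ed (nat_lit 15871) (nat_lit 6348) Col.f (nat_lit 6137) (Dv.wd (nat_lit 11) [Mv.b (nat_lit 15410), Mv.b (nat_lit 15843), Mv.f (nat_lit 15870)])))
(Tr.lf (Fc.ed (nat_lit 15872) (nat_lit 3857) Col.c (nat_lit 6349) Dv.df)))))))
(Tr.nd (nat_lit 15883) (Tr.nd (nat_lit 15878) (Tr.nd (nat_lit 15875) (Tr.nd (nat_lit 15874) (Tr.lf (Fc.ed (nat_lit 15873) (nat_lit 6349) Col.g (nat_lit 6309) (Dv.wd (nat_lit 77) [Mv.b (nat_lit 15793), Mv.b (nat_lit 14812), Mv.f (nat_lit 9803), Mv.f (nat_lit 12210), Mv.f (nat_lit 6507), Mv.b (nat_lit 5494), Mv.b (nat_lit 6224), Mv.b (nat_lit 9528), Mv.f (nat_lit 15872)])))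
(Tr.lf (Fc.ed (nat_lit 15874) (nat_lit 4146) Col.d (nat_lit 6350) Dv.df)))
(Tr.nd (nat_lit 15876) (Tr.lf (Fc.ed (nat_lit 15875) (nat_lit 5859) Col.e (nat_lit 6351) Dv.df))
(Tr.nd (nat_lit 15877) (Tr.lf (Fc.ed (nat_lit 15876) (nat_lit 6134) Col.gi (nat_lit 6352) Dv.df))
(Tr.lf (Fc.ed (nat_lit 15877) (nat_lit 6352) Col.gi (nat_lit 5102) (Dv.wd (nat_lit 24) [Mv.f (nat_lit 14792), Mv.f (nat_lit 15405), Mv.f (nat_lit 15876)]))))))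
(Tr.nd (nat_lit 15880) (Tr.nd (nat_lit 15879) (Tr.lf (Fc.ed (nat_lit 15878) (nat_lit 6115) Col.c (nat_lit 6352) (Dv.wd (nat_lit 32) [Mv.f (nat_lit 15877), Mv.b (nat_lit 13210), Mv.f (nat_lit 7913), Mv.f (nat_lit 15555), Mv.b (nat_lit 6352), Mv.b (nat_lit 5178), Mv.b (nat_lit 5715), Mv.f (nat_lit 6606), Mv.f (nat_lit 15371)])))
(Tr.lf (Fc.ed (nat_lit 15879) (nat_lit 3227) Col.b (nat_lit 6115) (Dv.wd (nat_lit 104) [Mv.f (nat_lit 15878), Mv.b (nat_lit 15876), Mv.f (nat_lit 15406), Mv.f (nat_lit 4204), Mv.b (nat_lit 2658), Mv.f (nat_lit 3965), Mv.f (nat_lit 4219), Mv.f (nat_lit 4220), Mv.b (nat_lit 4723), Mv.f (nat_lit 8309)]))))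
(Tr.nd (nat_lit 15881) (Tr.lf (Fc.ed (nat_lit 15880) (nat_lit 2320) Col.d (nat_lit 3227) (Dv.wd (nat_lit 116) [Mv.f (nat_lit 15879), Mv.b (nat_lit 15371), Mv.f (nat_lit 6607)])))
(Tr.nd (nat_lit 15882) (Tr.lf (Fc.ed (nat_lit 15881) (nat_lit 5114) Col.d (nat_lit 4290) (Dv.wd (nat_lit 90) [Mv.f (nat_lit 11043), Mv.f (nat_lit 15880), Mv.b (nat_lit 13236)])))
(Tr.lf (Fc.ed (nat_lit 15882) (nat_lit 4284) Col.d (nat_lit 4026) (Dv.wd (nat_lit 28) [Mv.f (nat_lit 13235), Mv.f (nat_lit 15881), Mv.b (nat_lit 11044)])))))))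
(Tr.nd (nat_lit 15888) (Tr.nd (nat_lit 15885) (Tr.nd (nat_lit 15884) (Tr.lf (Fc.ed (nat_lit 15883) (nat_lit 5454) Col.a (nat_lit 6353) Dv.df))
(Tr.lf (Fc.ed (nat_lit 15884) (nat_lit 6353) Col.f (nat_lit 5740) (Dv.wd (nat_lit 10) [Mv.b (nat_lit 14588), Mv.f (nat_lit 14009), Mv.f (nat_lit 15883)]))))
(Tr.nd (nat_lit 15886) (Tr.lf (Fc.ed (nat_lit 15885) (nat_lit 3282) Col.e (nat_lit 6354) Dv.df))
(Tr.nd (nat_lit 15887) (Tr.lf (Fc.ed (nat_lit 15886) (nat_lit 6289) Col.gi (nat_lit 6355) Dv.df))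
(Tr.lf (Fc.ed (nat_lit 15887) (nat_lit 6118) Col.gi (nat_lit 6356) Dv.df)))))
(Tr.nd (nat_lit 15891) (Tr.nd (nat_lit 15889) (Tr.lf (Fc.ed (nat_lit 15888) (nat_lit 3902) Col.c (nat_lit 6357) Dv.df))
(Tr.nd (nat_lit 15890) (Tr.lf (Fc.ed (nat_lit 15889) (nat_lit 6357) Col.f (nat_lit 6349) (Dv.wd (nat_lit 26) [Mv.b (nat_lit 15872), Mv.f (nat_lit 15728), Mv.f (nat_lit 15888)])))
(Tr.lf (Fc.ed (nat_lit 15890) (nat_lit 5293) Col.f (nat_lit 6358) Dv.df))))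
(Tr.nd (nat_lit 15892) (Tr.lf (Fc.ed (nat_lit 15891) (nat_lit 6358) Col.a (nat_lit 6088) (Dv.wd (nat_lit 16) [Mv.b (nat_lit 15317), Mv.b (nat_lit 13616), Mv.f (nat_lit 15890)])))
(Tr.nd (nat_lit 15893) (Tr.lf (Fc.ed (nat_lit 15892) (nat_lit 4264) Col.b (nat_lit 6359) Dv.df))
(Tr.lf (Fc.ed (nat_lit 15893) (nat_lit 6359) Col.e (nat_lit 5685) (Dv.wd (nat_lit 52) [Mv.b (nat_lit 14439), Mv.f (nat_lit 10973), Mv.f (nat_lit 15892)])))))))))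
(Tr.nd (nat_lit 15914) (Tr.nd (nat_lit 15904) (Tr.nd (nat_lit 15899) (Tr.nd (nat_lit 15896) (Tr.nd (nat_lit 15895) (Tr.lf (Fc.ed (nat_lit 15894) (nat_lit 5326) Col.e (nat_lit 6360) Dv.df))
(Tr.lf (Fc.ed (nat_lit 15895) (nat_lit 5486) Col.d (nat_lit 6361) Dv.df)))
(Tr.nd (nat_lit 15897) (Tr.lf (Fc.ed (nat_lit 15896) (nat_lit 6361) Col.e (nat_lit 4680) (Dv.wd (nat_lit 74) [Mv.f (nat_lit 11835), Mv.b (nat_lit 5899), Mv.f (nat_lit 4792), Mv.f (nat_lit 11021), Mv.f (nat_lit 15882), Mv.f (nat_lit 9850), Mv.f (nat_lit 9290), Mv.f (nat_lit 13077), Mv.b (nat_lit 14068), Mv.f (nat_lit 15895)])))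
(Tr.nd (nat_lit 15898) (Tr.lf (Fc.ed (nat_lit 15897) (nat_lit 6360) Col.d (nat_lit 6007) (Dv.wd (nat_lit 27) [Mv.f (nat_lit 15173), Mv.f (nat_lit 12744), Mv.b (nat_lit 12746), Mv.f (nat_lit 11834), Mv.b (nat_lit 15896), Mv.b (nat_lit 15895), Mv.b (nat_lit 14067), Mv.f (nat_lit 8527), Mv.f (nat_lit 13717), Mv.f (nat_lit 15894)])))
(Tr.lf (Fc.ed (nat_lit 15898) (nat_lit 3488) Col.d (nat_lit 3282) (Dv.wd (nat_lit 68) [Mv.b (nat_lit 8417), Mv.b (nat_lit 8340), Mv.f (nat_lit 9290), Mv.b (nat_lit 13718), Mv.f (nat_lit 15894), Mv.f (nat_lit 15897), Mv.b (nat_lit 15172), Mv.b (nat_lit 6376), Mv.b (nat_lit 6375), Mv.f (nat_lit 8837)]))))))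
(Tr.nd (nat_lit 15901) (Tr.nd (nat_lit 15900) (Tr.lf (Fc.ed (nat_lit 15899) (nat_lit 6144) Col.c (nat_lit 6362) Dv.df))
(Tr.lf (Fc.ed (nat_lit 15900) (nat_lit 6362) Col.b (nat_lit 3738) (Dv.wd (nat_lit 106) [Mv.b (nat_lit 9321), Mv.f (nat_lit 5426), Mv.f (nat_lit 3864), Mv.f (nat_lit 3866), Mv.f (nat_lit 3436), Mv.f (nat_lit 3157), Mv.f (nat_lit 6085), Mv.b (nat_lit 12780), Mv.b (nat_lit 15420), Mv.f (nat_lit 15899)]))))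
(Tr.nd (nat_lit 15902) (Tr.lf (Fc.ed (nat_lit 15901) (nat_lit 2455) Col.c (nat_lit 6363) Dv.df))
(Tr.nd (nat_lit 15903) (Tr.lf (Fc.ed (nat_lit 15902) (nat_lit 6363) Col.f (nat_lit 6174) (Dv.wd (nat_lit 26) [Mv.b (nat_lit 15475), Mv.b (nat_lit 6625), Mv.f (nat_lit 15901)])))
(Tr.lf (Fc.ed (nat_lit 15903) (nat_lit 6252) Col.a (nat_lit 6364) Dv.df))))))
(Tr.nd (nat_lit 15909) (Tr.nd (nat_lit 15906) (Tr.nd (nat_lit 15905) (Tr.lf (Fc.ed (nat_lit 15904) (nat_lit 6364) Col.f (nat_lit 6325) (Dv.wd (nat_lit 10) [Mv.b (nat_lit 15827), Mv.b (nat_lit 15626), Mv.f (nat_lit 15903)])))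
(Tr.lf (Fc.ed (nat_lit 15905) (nat_lit 3860) Col.e (nat_lit 6365) Dv.df)))
(Tr.nd (nat_lit 15907) (Tr.lf (Fc.ed (nat_lit 15906) (nat_lit 6365) Col.d (nat_lit 4340) (Dv.wd (nat_lit 91) [Mv.f (nat_lit 11136), Mv.f (nat_lit 8540), Mv.f (nat_lit 7979), Mv.f (nat_lit 8349), Mv.b (nat_lit 15549), Mv.f (nat_lit 15083), Mv.b (nat_lit 3958), Mv.b (nat_lit 3976), Mv.b (nat_lit 9532), Mv.f (nat_lit 15905)])))
(Tr.nd (nat_lit 15908) (Tr.lf (Fc.ed (nat_lit 15907) (nat_lit 5259) Col.f (nat_lit 6366) Dv.df))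
(Tr.lf (Fc.ed (nat_lit 15908) (nat_lit 6366) Col.a (nat_lit 5484) (Dv.wd (nat_lit 23) [Mv.f (nat_lit 14064), Mv.b (nat_lit 13549), Mv.f (nat_lit 15907)]))))))
(Tr.nd (nat_lit 15911) (Tr.nd (nat_lit 15910) (Tr.lf (Fc.ed (nat_lit 15909) (nat_lit 4030) Col.e (nat_lit 6367) Dv.df))
(Tr.lf (Fc.ed (nat_lit 15910) (nat_lit 5208) Col.gi (nat_lit 6368) Dv.df)))
(Tr.nd (nat_lit 15912) (Tr.lf (Fc.ed (nat_lit 15911) (nat_lit 6368) Col.gi (nat_lit 5886) (Dv.wd (nat_lit 24) [Mv.b (nat_lit 14895), Mv.b (nat_lit 13445), Mv.f (nat_lit 15910)])))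
(Tr.nd (nat_lit 15913) (Tr.lf (Fc.ed (nat_lit 15912) (nat_lit 4665) Col.c (nat_lit 6369) Dv.df))
(Tr.lf (Fc.ed (nat_lit 15913) (nat_lit 6369) Col.a (nat_lit 5978) (Dv.wd (nat_lit 19) [Mv.b (nat_lit 15121), Mv.f (nat_lit 11801), Mv.f (nat_lit 15912)]))))))))
(Tr.nd (nat_lit 15924) (Tr.nd (nat_lit 15919) (Tr.nd (nat_lit 15916) (Tr.nd (nat_lit 15915) (Tr.lf (Fc.ed (nat_lit 15914) (nat_lit 6369) Col.e (nat_lit 5880) (Dv.wd (nat_lit 25) [Mv.b (nat_lit 14887), Mv.b (nat_lit 12772), Mv.f (nat_lit 15912)])))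
(Tr.lf (Fc.ed (nat_lit 15915) (nat_lit 5848) Col.b (nat_lit 6370) Dv.df)))
(Tr.nd (nat_lit 15917) (Tr.lf (Fc.ed (nat_lit 15916) (nat_lit 6370) Col.c (nat_lit 2704) (Dv.wd (nat_lit 93) [Mv.b (nat_lit 7193), Mv.b (nat_lit 3706), Mv.f (nat_lit 6932), Mv.f (nat_lit 14807), Mv.f (nat_lit 15915)])))
(Tr.nd (nat_lit 15918) (Tr.lf (Fc.ed (nat_lit 15917) (nat_lit 4720) Col.gi (nat_lit 6371) Dv.df))
(Tr.lf (Fc.ed (nat_lit 15918) (nat_lit 6371) Col.gi (nat_lit 3928) (Dv.wd (nat_lit 24) [Mv.b (nat_lit 11733), Mv.b (nat_lit 11910), Mv.f (nat_lit 15917)]))))))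
(Tr.nd (nat_lit 15921) (Tr.nd (nat_lit 15920) (Tr.lf (Fc.ed (nat_lit 15919) (nat_lit 5039) Col.gi (nat_lit 6372) Dv.df))
(Tr.lf (Fc.ed (nat_lit 15920) (nat_lit 6372) Col.gi (nat_lit 3807) (Dv.wd (nat_lit 24) [Mv.f (nat_lit 9442), Mv.f (nat_lit 13085), Mv.f (nat_lit 15919)]))))
(Tr.nd (nat_lit 15922) (Tr.lf (Fc.ed (nat_lit 15921) (nat_lit 4775) Col.gi (nat_lit 6373) Dv.df))
(Tr.nd (nat_lit 15923) (Tr.lf (Fc.ed (nat_lit 15922) (nat_lit 6031) Col.gi (nat_lit 6374) Dv.df))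
(Tr.lf (Fc.ed (nat_lit 15923) (nat_lit 6308) Col.f (nat_lit 6375) Dv.df))))))
(Tr.nd (nat_lit 15929) (Tr.nd (nat_lit 15926) (Tr.nd (nat_lit 15925) (Tr.lf (Fc.ed (nat_lit 15924) (nat_lit 6375) Col.c (nat_lit 5512) (Dv.wd (nat_lit 34) [Mv.b (nat_lit 14107), Mv.f (nat_lit 15791), Mv.f (nat_lit 15923)])))
(Tr.lf (Fc.ed (nat_lit 15925) (nat_lit 5068) Col.f (nat_lit 6376) Dv.df)))
(Tr.nd (nat_lit 15927) (Tr.lf (Fc.ed (nat_lit 15926) (nat_lit 6376) Col.d (nat_lit 3646) (Dv.wd (nat_lit 21) [Mv.b (nat_lit 11272), Mv.f (nat_lit 13148), Mv.f (nat_lit 15925)])))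
(Tr.nd (nat_lit 15928) (Tr.lf (Fc.ed (nat_lit 15927) (nat_lit 2243) Col.gi (nat_lit 6377) Dv.df))
(Tr.lf (Fc.ed (nat_lit 15928) (nat_lit 6377) Col.gi (nat_lit 5656) (Dv.wd (nat_lit 24) [Mv.b (nat_lit 14392), Mv.b (nat_lit 8647), Mv.f (nat_lit 15927)]))))))
(Tr.nd (nat_lit 15932) (Tr.nd (nat_lit 15930) (Tr.lf (Fc.ed (nat_lit 15929) (nat_lit 6267) Col.f (nat_lit 6378) Dv.df))
(Tr.nd (nat_lit 15931) (Tr.lf (Fc.ed (nat_lit 15930) (nat_lit 6378) Col.b (nat_lit 4248) (Dv.wd (nat_lit 66) [Mv.f (nat_lit 12388), Mv.f (nat_lit 15655), Mv.f (nat_lit 15929)])))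
(Tr.lf (Fc.ed (nat_lit 15931) (nat_lit 5318) Col.e (nat_lit 6379) Dv.df))))
(Tr.nd (nat_lit 15933) (Tr.lf (Fc.ed (nat_lit 15932) (nat_lit 5063) Col.gi (nat_lit 6380) Dv.df))
(Tr.nd (nat_lit 15934) (Tr.lf (Fc.ed (nat_lit 15933) (nat_lit 6380) Col.gi (nat_lit 3438) (Dv.wd (nat_lit 24) [Mv.b (nat_lit 14307), Mv.b (nat_lit 14305), Mv.f (nat_lit 15932)])))
(Tr.lf (Fc.ed (nat_lit 15934) (nat_lit 6000) Col.d (nat_lit 6381) Dv.df))))))))))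
(Tr.nd (nat_lit 16017) (Tr.nd (nat_lit 15976) (Tr.nd (nat_lit 15955) (Tr.nd (nat_lit 15945) (Tr.nd (nat_lit 15940) (Tr.nd (nat_lit 15937) (Tr.nd (nat_lit 15936) (Tr.lf (Fc.ed (nat_lit 15935) (nat_lit 6381) Col.e (nat_lit 4321) (Dv.wd (nat_lit 42) [Mv.f (nat_lit 12343), Mv.f (nat_lit 12344), Mv.f (nat_lit 12191), Mv.f (nat_lit 15159), Mv.f (nat_lit 15934)])))
(Tr.lf (Fc.ed (nat_lit 15936) (nat_lit 6160) Col.gi (nat_lit 6382) Dv.df)))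
(Tr.nd (nat_lit 15938) (Tr.lf (Fc.ed (nat_lit 15937) (nat_lit 5708) Col.c (nat_lit 6383) Dv.df))
(Tr.nd (nat_lit 15939) (Tr.lf (Fc.ed (nat_lit 15938) (nat_lit 4192) Col.f (nat_lit 6384) Dv.df))
(Tr.lf (Fc.ed (nat_lit 15939) (nat_lit 6384) Col.a (nat_lit 5961) (Dv.wd (nat_lit 16) [Mv.f (nat_lit 15091), Mv.f (nat_lit 10824), Mv.f (nat_lit 15938)]))))))
(Tr.nd (nat_lit 15942) (Tr.nd (nat_lit 15941) (Tr.lf (Fc.ed (nat_lit 15940) (nat_lit 6384) Col.b (nat_lit 6052) (Dv.wd (nat_lit 66) [Mv.f (nat_lit 15252), Mv.f (nat_lit 12447), Mv.f (nat_lit 15938)])))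
(Tr.lf (Fc.ed (nat_lit 15941) (nat_lit 6384) Col.d (nat_lit 5413) (Dv.wd (nat_lit 21) [Mv.f (nat_lit 13885), Mv.f (nat_lit 12136), Mv.f (nat_lit 15938)]))))
(Tr.nd (nat_lit 15943) (Tr.lf (Fc.ed (nat_lit 15942) (nat_lit 6276) Col.b (nat_lit 6385) Dv.df))
(Tr.nd (nat_lit 15944) (Tr.lf (Fc.ed (nat_lit 15943) (nat_lit 6385) Col.e (nat_lit 4414) (Dv.wd (nat_lit 52) [Mv.b (nat_lit 11350), Mv.b (nat_lit 15672), Mv.f (nat_lit 15942)])))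
(Tr.lf (Fc.ed (nat_lit 15944) (nat_lit 5458) Col.e (nat_lit 6386) Dv.df))))))
(Tr.nd (nat_lit 15950) (Tr.nd (nat_lit 15947) (Tr.nd (nat_lit 15946) (Tr.lf (Fc.ed (nat_lit 15945) (nat_lit 6386) Col.a (nat_lit 3838) (Dv.wd (nat_lit 15) [Mv.f (nat_lit 9497), Mv.f (nat_lit 14016), Mv.f (nat_lit 15944)])))
(Tr.lf (Fc.ed (nat_lit 15946) (nat_lit 5943) Col.gi (nat_lit 6387) Dv.df)))
(Tr.nd (nat_lit 15948) (Tr.lf (Fc.ed (nat_lit 15947) (nat_lit 6309) Col.g (nat_lit 6388) Dv.df))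
(Tr.nd (nat_lit 15949) (Tr.lf (Fc.ed (nat_lit 15948) (nat_lit 6388) Col.a (nat_lit 6357) (Dv.wd (nat_lit 114) [Mv.f (nat_lit 15889), Mv.f (nat_lit 15873), Mv.f (nat_lit 15947)])))
(Tr.lf (Fc.ed (nat_lit 15949) (nat_lit 3873) Col.c (nat_lit 6388) (Dv.wd (nat_lit 134) [Mv.f (nat_lit 15948), Mv.b (nat_lit 15888), Mv.b (nat_lit 15727)]))))))
(Tr.nd (nat_lit 15952) (Tr.nd (nat_lit 15951) (Tr.lf (Fc.ed (nat_lit 15950) (nat_lit 6388) Col.g (nat_lit 6383) (Dv.wd (nat_lit 105) [Mv.b (nat_lit 15937), Mv.b (nat_lit 14474), Mv.b (nat_lit 9357), Mv.b (nat_lit 4751), Mv.f (nat_lit 3254), Mv.f (nat_lit 3256), Mv.f (nat_lit 3250), Mv.f (nat_lit 6317), Mv.f (nat_lit 9553), Mv.f (nat_lit 15949)])))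
(Tr.lf (Fc.ed (nat_lit 15951) (nat_lit 4333) Col.d (nat_lit 5708) (Dv.wd (nat_lit 62) [Mv.f (nat_lit 15937), Mv.b (nat_lit 15950), Mv.b (nat_lit 15949), Mv.b (nat_lit 9553), Mv.f (nat_lit 6318), Mv.b (nat_lit 12199), Mv.b (nat_lit 9195), Mv.f (nat_lit 10768), Mv.b (nat_lit 12311)]))))
(Tr.nd (nat_lit 15953) (Tr.lf (Fc.ed (nat_lit 15952) (nat_lit 3761) Col.d (nat_lit 3607) (Dv.wd (nat_lit 58) [Mv.b (nat_lit 12318), Mv.f (nat_lit 15951), Mv.b (nat_lit 14474)])))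
(Tr.nd (nat_lit 15954) (Tr.lf (Fc.ed (nat_lit 15953) (nat_lit 2954) Col.d (nat_lit 2539) (Dv.wd (nat_lit 43) [Mv.f (nat_lit 6833), Mv.f (nat_lit 4714), Mv.b (nat_lit 4752), Mv.f (nat_lit 9357), Mv.f (nat_lit 15952), Mv.f (nat_lit 10227), Mv.f (nat_lit 12328), Mv.b (nat_lit 5779), Mv.f (nat_lit 7658), Mv.b (nat_lit 7733)])))
(Tr.lf (Fc.ed (nat_lit 15954) (nat_lit 2238) Col.d (nat_lit 4207) (Dv.wd (nat_lit 58) [Mv.b (nat_lit 10852), Mv.f (nat_lit 15953), Mv.b (nat_lit 6832)]))))))))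
(Tr.nd (nat_lit 15965) (Tr.nd (nat_lit 15960) (Tr.nd (nat_lit 15957) (Tr.nd (nat_lit 15956) (Tr.lf (Fc.ed (nat_lit 15955) (nat_lit 4426) Col.d (nat_lit 3138) (Dv.wd (nat_lit 48) [Mv.f (nat_lit 10645), Mv.b (nat_lit 10637), Mv.f (nat_lit 5268), Mv.f (nat_lit 4832), Mv.b (nat_lit 5314), Mv.b (nat_lit 10177), Mv.f (nat_lit 6147), Mv.f (nat_lit 15954), Mv.f (nat_lit 11373)])))
(Tr.lf (Fc.ed (nat_lit 15956) (nat_lit 5237) Col.b (nat_lit 4426) (Dv.wd (nat_lit 126) [Mv.f (nat_lit 15955), Mv.b (nat_lit 8174), Mv.b (nat_lit 13502)]))))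
(Tr.nd (nat_lit 15958) (Tr.lf (Fc.ed (nat_lit 15957) (nat_lit 5334) Col.d (nat_lit 5080) (Dv.wd (nat_lit 44) [Mv.b (nat_lit 13171), Mv.f (nat_lit 15955), Mv.b (nat_lit 10640), Mv.f (nat_lit 10644), Mv.b (nat_lit 9592), Mv.f (nat_lit 12382), Mv.f (nat_lit 13492), Mv.f (nat_lit 13597), Mv.f (nat_lit 13734)])))
(Tr.nd (nat_lit 15959) (Tr.lf (Fc.ed (nat_lit 15958) (nat_lit 5080) Col.gi (nat_lit 5336) (Dv.wd (nat_lit 88) [Mv.f (nat_lit 13738), Mv.b (nat_lit 14139), Mv.f (nat_lit 15723), Mv.f (nat_lit 15684), Mv.b (nat_lit 15681), Mv.b (nat_lit 15680), Mv.b (nat_lit 13576), Mv.b (nat_lit 14835), Mv.f (nat_lit 15956), Mv.f (nat_lit 13171)])))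
(Tr.lf (Fc.ed (nat_lit 15959) (nat_lit 5596) Col.d (nat_lit 5534) (Dv.wd (nat_lit 113) [Mv.b (nat_lit 14150), Mv.f (nat_lit 15957), Mv.f (nat_lit 15958), Mv.f (nat_lit 13738), Mv.b (nat_lit 8944), Mv.b (nat_lit 4110), Mv.b (nat_lit 5163), Mv.b (nat_lit 10231), Mv.f (nat_lit 14270)]))))))
(Tr.nd (nat_lit 15962) (Tr.nd (nat_lit 15961) (Tr.lf (Fc.ed (nat_lit 15960) (nat_lit 5534) Col.c (nat_lit 4307) (Dv.wd (nat_lit 80) [Mv.f (nat_lit 11077), Mv.f (nat_lit 9704), Mv.f (nat_lit 10189), Mv.f (nat_lit 10191), Mv.b (nat_lit 10148), Mv.b (nat_lit 8447), Mv.b (nat_lit 8446), Mv.f (nat_lit 14270), Mv.f (nat_lit 15959)])))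
(Tr.lf (Fc.ed (nat_lit 15961) (nat_lit 6154) Col.b (nat_lit 5534) (Dv.wd (nat_lit 136) [Mv.f (nat_lit 15960), Mv.f (nat_lit 14845), Mv.b (nat_lit 14579), Mv.f (nat_lit 15437), Mv.f (nat_lit 15436)]))))
(Tr.nd (nat_lit 15963) (Tr.lf (Fc.ed (nat_lit 15962) (nat_lit 5045) Col.b (nat_lit 6187) (Dv.wd (nat_lit 154) [Mv.b (nat_lit 15497), Mv.f (nat_lit 13495), Mv.f (nat_lit 13606), Mv.f (nat_lit 13607), Mv.b (nat_lit 15435), Mv.f (nat_lit 15961), Mv.f (nat_lit 15960), Mv.f (nat_lit 11075), Mv.b (nat_lit 9272), Mv.f (nat_lit 13100)])))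
(Tr.nd (nat_lit 15964) (Tr.lf (Fc.ed (nat_lit 15963) (nat_lit 6313) Col.gi (nat_lit 5777) (Dv.wd (nat_lit 178) [Mv.b (nat_lit 14683), Mv.f (nat_lit 3397), Mv.f (nat_lit 2933), Mv.b (nat_lit 1609), Mv.b (nat_lit 887), Mv.f (nat_lit 618), Mv.f (nat_lit 181), Mv.f (nat_lit 376), Mv.b (nat_lit 1422), Mv.f (nat_lit 1031), Mv.b (nat_lit 2937), Mv.f (nat_lit 2991), Mv.b (nat_lit 4111), Mv.f (nat_lit 7263), Mv.f (nat_lit 9271), Mv.f (nat_lit 13100), Mv.f (nat_lit 15962), Mv.b (nat_lit 15497), Mv.f (nat_lit 15801)])))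
(Tr.lf (Fc.ed (nat_lit 15964) (nat_lit 6369) Col.d (nat_lit 6389) Dv.df))))))
(Tr.nd (nat_lit 15970) (Tr.nd (nat_lit 15967) (Tr.nd (nat_lit 15966) (Tr.lf (Fc.ed (nat_lit 15965) (nat_lit 6389) Col.a (nat_lit 6137) (Dv.wd (nat_lit 8) [Mv.b (nat_lit 15410), Mv.b (nat_lit 15913), Mv.f (nat_lit 15964)])))
(Tr.lf (Fc.ed (nat_lit 15966) (nat_lit 4656) Col.d (nat_lit 6390) Dv.df)))
(Tr.nd (nat_lit 15968) (Tr.lf (Fc.ed (nat_lit 15967) (nat_lit 4905) Col.d (nat_lit 6391) Dv.df))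
(Tr.nd (nat_lit 15969) (Tr.lf (Fc.ed (nat_lit 15968) (nat_lit 6391) Col.f (nat_lit 5877) (Dv.wd (nat_lit 11) [Mv.b (nat_lit 14881), Mv.f (nat_lit 13751), Mv.f (nat_lit 15967)])))
(Tr.lf (Fc.ed (nat_lit 15969) (nat_lit 5968) Col.gi (nat_lit 6391) (Dv.wd (nat_lit 24) [Mv.f (nat_lit 15968), Mv.f (nat_lit 14882), Mv.f (nat_lit 15736)]))))))
(Tr.nd (nat_lit 15973) (Tr.nd (nat_lit 15971) (Tr.lf (Fc.ed (nat_lit 15970) (nat_lit 4725) Col.f (nat_lit 6392) Dv.df))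
(Tr.nd (nat_lit 15972) (Tr.lf (Fc.ed (nat_lit 15971) (nat_lit 6392) Col.c (nat_lit 5559) (Dv.wd (nat_lit 34) [Mv.f (nat_lit 14198), Mv.f (nat_lit 12504), Mv.f (nat_lit 15970)])))
(Tr.lf (Fc.ed (nat_lit 15972) (nat_lit 4203) Col.gi (nat_lit 6393) Dv.df))))
(Tr.nd (nat_lit 15974) (Tr.lf (Fc.ed (nat_lit 15973) (nat_lit 6388) Col.b (nat_lit 6394) Dv.df))
(Tr.nd (nat_lit 15975) (Tr.lf (Fc.ed (nat_lit 15974) (nat_lit 6394) Col.g (nat_lit 5004) (Dv.wd (nat_lit 122) [Mv.b (nat_lit 13010), Mv.f (nat_lit 9272), Mv.b (nat_lit 11075), Mv.b (nat_lit 15960), Mv.b (nat_lit 15961), Mv.f (nat_lit 15435), Mv.f (nat_lit 13553), Mv.f (nat_lit 9553), Mv.f (nat_lit 15949), Mv.f (nat_lit 15973)])))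
(Tr.lf (Fc.ed (nat_lit 15975) (nat_lit 6379) Col.a (nat_lit 6395) Dv.df))))))))
(Tr.nd (nat_lit 15996) (Tr.nd (nat_lit 15986) (Tr.nd (nat_lit 15981) (Tr.nd (nat_lit 15978) (Tr.nd (nat_lit 15977) (Tr.lf (Fc.ed (nat_lit 15976) (nat_lit 6184) Col.a (nat_lit 6396) Dv.df))
(Tr.lf (Fc.ed (nat_lit 15977) (nat_lit 6396) Col.d (nat_lit 5340) (Dv.wd (nat_lit 28) [Mv.b (nat_lit 15687), Mv.f (nat_lit 15492), Mv.f (nat_lit 15976)]))))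
(Tr.nd (nat_lit 15979) (Tr.lf (Fc.ed (nat_lit 15978) (nat_lit 6391) Col.c (nat_lit 6397) Dv.df))
(Tr.nd (nat_lit 15980) (Tr.lf (Fc.ed (nat_lit 15979) (nat_lit 3081) Col.c (nat_lit 6398) Dv.df))
(Tr.lf (Fc.ed (nat_lit 15980) (nat_lit 5993) Col.c (nat_lit 6399) Dv.df)))))
(Tr.nd (nat_lit 15983) (Tr.nd (nat_lit 15982) (Tr.lf (Fc.ed (nat_lit 15981) (nat_lit 6399) Col.a (nat_lit 4629) (Dv.wd (nat_lit 19) [Mv.b (nat_lit 11738), Mv.f (nat_lit 15147), Mv.f (nat_lit 15980)])))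
(Tr.lf (Fc.ed (nat_lit 15982) (nat_lit 3459) Col.b (nat_lit 6400) Dv.df)))
(Tr.nd (nat_lit 15984) (Tr.lf (Fc.ed (nat_lit 15983) (nat_lit 6400) Col.gi (nat_lit 6267) (Dv.wd (nat_lit 100) [Mv.b (nat_lit 15655), Mv.b (nat_lit 10566), Mv.b (nat_lit 10472), Mv.f (nat_lit 8973), Mv.b (nat_lit 6108), Mv.b (nat_lit 3642), Mv.b (nat_lit 3639), Mv.b (nat_lit 3175), Mv.f (nat_lit 10362), Mv.f (nat_lit 15982)])))
(Tr.nd (nat_lit 15985) (Tr.lf (Fc.ed (nat_lit 15984) (nat_lit 2977) Col.e (nat_lit 6401) Dv.df))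
(Tr.lf (Fc.ed (nat_lit 15985) (nat_lit 6272) Col.a (nat_lit 6402) Dv.df))))))
(Tr.nd (nat_lit 15991) (Tr.nd (nat_lit 15988) (Tr.nd (nat_lit 15987) (Tr.lf (Fc.ed (nat_lit 15986) (nat_lit 6402) Col.e (nat_lit 2920) (Dv.wd (nat_lit 56) [Mv.f (nat_lit 12679), Mv.f (nat_lit 15664), Mv.f (nat_lit 15985)])))
(Tr.lf (Fc.ed (nat_lit 15987) (nat_lit 1369) Col.c (nat_lit 6403) Dv.df)))
(Tr.nd (nat_lit 15989) (Tr.lf (Fc.ed (nat_lit 15988) (nat_lit 6403) Col.gi (nat_lit 6225) (Dv.wd (nat_lit 78) [Mv.b (nat_lit 15576), Mv.b (nat_lit 13069), Mv.f (nat_lit 13518), Mv.f (nat_lit 15487), Mv.b (nat_lit 15485), Mv.f (nat_lit 11391), Mv.f (nat_lit 6249), Mv.b (nat_lit 12961), Mv.f (nat_lit 15987)])))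
(Tr.nd (nat_lit 15990) (Tr.lf (Fc.ed (nat_lit 15989) (nat_lit 6086) Col.gi (nat_lit 4408) (Dv.wd (nat_lit 157) [Mv.b (nat_lit 11339), Mv.f (nat_lit 15987), Mv.f (nat_lit 15988), Mv.b (nat_lit 15576), Mv.b (nat_lit 15552), Mv.b (nat_lit 8349), Mv.f (nat_lit 6927), Mv.b (nat_lit 14793), Mv.f (nat_lit 15562), Mv.b (nat_lit 15547)])))
(Tr.lf (Fc.ed (nat_lit 15990) (nat_lit 4037) Col.gi (nat_lit 3217) (Dv.wd (nat_lit 50) [Mv.b (nat_lit 8291), Mv.b (nat_lit 6505), Mv.f (nat_lit 4174), Mv.f (nat_lit 7983), Mv.b (nat_lit 15561), Mv.f (nat_lit 12982), Mv.b (nat_lit 15315), Mv.f (nat_lit 15989), Mv.f (nat_lit 12963)]))))))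
(Tr.nd (nat_lit 15993) (Tr.nd (nat_lit 15992) (Tr.lf (Fc.ed (nat_lit 15991) (nat_lit 4037) Col.g (nat_lit 3451) (Dv.wd (nat_lit 139) [Mv.b (nat_lit 8764), Mv.f (nat_lit 5231), Mv.b (nat_lit 5656), Mv.b (nat_lit 6925), Mv.b (nat_lit 14793), Mv.f (nat_lit 15562), Mv.b (nat_lit 15547), Mv.f (nat_lit 15989), Mv.f (nat_lit 12963)])))
(Tr.lf (Fc.ed (nat_lit 15992) (nat_lit 2865) Col.b (nat_lit 6180) (Dv.wd (nat_lit 104) [Mv.b (nat_lit 15485), Mv.f (nat_lit 11391), Mv.f (nat_lit 6249), Mv.f (nat_lit 9867), Mv.f (nat_lit 15991), Mv.b (nat_lit 8764), Mv.f (nat_lit 5231), Mv.b (nat_lit 5656), Mv.f (nat_lit 5659), Mv.b (nat_lit 7546)]))))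
(Tr.nd (nat_lit 15994) (Tr.lf (Fc.al (nat_lit 15993) (nat_lit 3867) (nat_lit 5190) (Dv.wd (nat_lit 100) [Mv.f (nat_lit 15309), Mv.f (nat_lit 15310), Mv.b (nat_lit 8764), Mv.b (nat_lit 5230), Mv.b (nat_lit 3243), Mv.f (nat_lit 7545), Mv.f (nat_lit 15992), Mv.b (nat_lit 15485), Mv.b (nat_lit 11390), Mv.f (nat_lit 11281), Mv.f (nat_lit 9544)])))
(Tr.nd (nat_lit 15995) (Tr.lf (Fc.al (nat_lit 15994) (nat_lit 3253) (nat_lit 4115) (Dv.wd (nat_lit 119) [Mv.f (nat_lit 13412), Mv.b (nat_lit 15993), Mv.b (nat_lit 9544)])))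
(Tr.lf (Fc.al (nat_lit 15995) (nat_lit 3471) (nat_lit 3684) (Dv.wd (nat_lit 128) [Mv.f (nat_lit 10604), Mv.b (nat_lit 15994), Mv.f (nat_lit 8800)]))))))))
(Tr.nd (nat_lit 16006) (Tr.nd (nat_lit 16001) (Tr.nd (nat_lit 15998) (Tr.nd (nat_lit 15997) (Tr.lf (Fc.al (nat_lit 15996) (nat_lit 4563) (nat_lit 1883) (Dv.wd (nat_lit 129) [Mv.b (nat_lit 10605), Mv.b (nat_lit 15994), Mv.f (nat_lit 11615)])))
(Tr.lf (Fc.ed (nat_lit 15997) (nat_lit 3471) Col.a (nat_lit 2110) (Dv.wd (nat_lit 29) [Mv.f (nat_lit 9204), Mv.b (nat_lit 15995)]))))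
(Tr.nd (nat_lit 15999) (Tr.lf (Fc.ed (nat_lit 15998) (nat_lit 3471) Col.d (nat_lit 3794) (Dv.wd (nat_lit 120) [Mv.b (nat_lit 9418), Mv.b (nat_lit 15995)])))
(Tr.nd (nat_lit 16000) (Tr.lf (Fc.ed (nat_lit 15999) (nat_lit 1883) Col.g (nat_lit 3253) (Dv.wd (nat_lit 129) [Mv.f (nat_lit 11615), Mv.f (nat_lit 15996)])))
(Tr.lf (Fc.ed (nat_lit 16000) (nat_lit 1883) Col.a (nat_lit 4570) (Dv.wd (nat_lit 29) [Mv.f (nat_lit 11629), Mv.f (nat_lit 15996)]))))))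
(Tr.nd (nat_lit 16003) (Tr.nd (nat_lit 16002) (Tr.lf (Fc.ed (nat_lit 16001) (nat_lit 4570) Col.c (nat_lit 4085) (Dv.wd (nat_lit 33) [Mv.b (nat_lit 9957), Mv.b (nat_lit 6329), Mv.f (nat_lit 16000)])))
(Tr.lf (Fc.ed (nat_lit 16002) (nat_lit 4570) Col.d (nat_lit 3843) (Dv.wd (nat_lit 28) [Mv.f (nat_lit 9505), Mv.f (nat_lit 6383), Mv.f (nat_lit 16000)]))))
(Tr.nd (nat_lit 16004) (Tr.lf (Fc.ed (nat_lit 16003) (nat_lit 4570) Col.gi (nat_lit 4245) (Dv.wd (nat_lit 12) [Mv.b (nat_lit 10921), Mv.b (nat_lit 5804), Mv.f (nat_lit 16000)])))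
(Tr.nd (nat_lit 16005) (Tr.lf (Fc.ed (nat_lit 16004) (nat_lit 4170) Col.c (nat_lit 3471) (Dv.wd (nat_lit 67) [Mv.f (nat_lit 11628), Mv.f (nat_lit 16001), Mv.f (nat_lit 10785)])))
(Tr.lf (Fc.al (nat_lit 16005) (nat_lit 4940) (nat_lit 4750) (Dv.wd (nat_lit 32) [Mv.b (nat_lit 12467), Mv.b (nat_lit 11665), Mv.f (nat_lit 16004), Mv.b (nat_lit 8800), Mv.f (nat_lit 12124), Mv.f (nat_lit 12966), Mv.b (nat_lit 5765), Mv.f (nat_lit 8976), Mv.f (nat_lit 9036), Mv.f (nat_lit 12839)])))))))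
(Tr.nd (nat_lit 16011) (Tr.nd (nat_lit 16008) (Tr.nd (nat_lit 16007) (Tr.lf (Fc.al (nat_lit 16006) (nat_lit 4715) (nat_lit 3218) (Dv.wd (nat_lit 119) [Mv.b (nat_lit 12840), Mv.f (nat_lit 16005), Mv.f (nat_lit 12468)])))
(Tr.lf (Fc.al (nat_lit 16007) (nat_lit 5425) (nat_lit 3657) (Dv.wd (nat_lit 128) [Mv.b (nat_lit 11903), Mv.f (nat_lit 16006), Mv.b (nat_lit 13909)]))))
(Tr.nd (nat_lit 16009) (Tr.lf (Fc.al (nat_lit 16008) (nat_lit 3775) (nat_lit 5050) (Dv.wd (nat_lit 128) [Mv.f (nat_lit 13908), Mv.f (nat_lit 16007), Mv.f (nat_lit 9384)])))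
(Tr.nd (nat_lit 16010) (Tr.lf (Fc.ed (nat_lit 16009) (nat_lit 3775) Col.a (nat_lit 4630) (Dv.wd (nat_lit 29) [Mv.f (nat_lit 13109), Mv.b (nat_lit 16008)])))
(Tr.lf (Fc.ed (nat_lit 16010) (nat_lit 3775) Col.d (nat_lit 2864) (Dv.wd (nat_lit 120) [Mv.b (nat_lit 13110), Mv.b (nat_lit 16008)]))))))
(Tr.nd (nat_lit 16014) (Tr.nd (nat_lit 16012) (Tr.lf (Fc.ed (nat_lit 16011) (nat_lit 3775) Col.f (nat_lit 4631) (Dv.wd (nat_lit 30) [Mv.b (nat_lit 13111), Mv.b (nat_lit 16008)])))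
(Tr.nd (nat_lit 16013) (Tr.lf (Fc.ed (nat_lit 16012) (nat_lit 6126) Col.d (nat_lit 4435) (Dv.wd (nat_lit 91) [Mv.b (nat_lit 11388), Mv.b (nat_lit 11099), Mv.b (nat_lit 9401), Mv.f (nat_lit 9384), Mv.f (nat_lit 16010), Mv.b (nat_lit 7543), Mv.f (nat_lit 4456), Mv.f (nat_lit 3792), Mv.b (nat_lit 6327), Mv.f (nat_lit 15390)])))
(Tr.lf (Fc.ed (nat_lit 16013) (nat_lit 4103) Col.e (nat_lit 3775) (Dv.wd (nat_lit 133) [Mv.f (nat_lit 16010), Mv.f (nat_lit 7544), Mv.f (nat_lit 6676), Mv.b (nat_lit 6674), Mv.f (nat_lit 15390), Mv.f (nat_lit 16012), Mv.f (nat_lit 11389), Mv.f (nat_lit 6504), Mv.b (nat_lit 5561), Mv.b (nat_lit 10585)])))))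
(Tr.nd (nat_lit 16015) (Tr.lf (Fc.al (nat_lit 16014) (nat_lit 3598) (nat_lit 5871) (Dv.wd (nat_lit 39) [Mv.f (nat_lit 14871), Mv.f (nat_lit 14855), Mv.b (nat_lit 7122), Mv.f (nat_lit 7120), Mv.b (nat_lit 6676), Mv.b (nat_lit 7544), Mv.b (nat_lit 16010), Mv.b (nat_lit 16013), Mv.f (nat_lit 10585), Mv.f (nat_lit 5425), Mv.b (nat_lit 9052)])))
(Tr.nd (nat_lit 16016) (Tr.lf (Fc.al (nat_lit 16015) (nat_lit 4049) (nat_lit 6037) (Dv.wd (nat_lit 29) [Mv.f (nat_lit 15227), Mv.b (nat_lit 16014), Mv.f (nat_lit 9886)])))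
(Tr.lf (Fc.ed (nat_lit 16016) (nat_lit 3598) Col.d (nat_lit 5864) (Dv.wd (nat_lit 120) [Mv.b (nat_lit 14871), Mv.b (nat_lit 16014)]))))))))))
(Tr.nd (nat_lit 16058) (Tr.nd (nat_lit 16037) (Tr.nd (nat_lit 16027) (Tr.nd (nat_lit 16022) (Tr.nd (nat_lit 16019) (Tr.nd (nat_lit 16018) (Tr.lf (Fc.ed (nat_lit 16017) (nat_lit 4049) Col.d (nat_lit 5309) (Dv.wd (nat_lit 120) [Mv.b (nat_lit 15228), Mv.b (nat_lit 16015)])))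
(Tr.lf (Fc.ed (nat_lit 16018) (nat_lit 4049) Col.e (nat_lit 1882) (Dv.wd (nat_lit 117) [Mv.f (nat_lit 15226), Mv.b (nat_lit 16015)]))))
(Tr.nd (nat_lit 16020) (Tr.lf (Fc.al (nat_lit 16019) (nat_lit 3499) (nat_lit 4117) (Dv.wd (nat_lit 43) [Mv.b (nat_lit 10608), Mv.f (nat_lit 6327), Mv.f (nat_lit 3792), Mv.b (nat_lit 4456), Mv.f (nat_lit 7543), Mv.b (nat_lit 16010), Mv.b (nat_lit 16013), Mv.b (nat_lit 10584), Mv.f (nat_lit 8748), Mv.b (nat_lit 8385), Mv.f (nat_lit 8857)])))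
(Tr.nd (nat_lit 16021) (Tr.lf (Fc.al (nat_lit 16020) (nat_lit 5037) (nat_lit 5925) (Dv.wd (nat_lit 29) [Mv.b (nat_lit 14988), Mv.b (nat_lit 16019), Mv.f (nat_lit 13082)])))
(Tr.lf (Fc.ed (nat_lit 16021) (nat_lit 3499) Col.d (nat_lit 2314) (Dv.wd (nat_lit 120) [Mv.f (nat_lit 10608), Mv.b (nat_lit 16019)]))))))
(Tr.nd (nat_lit 16024) (Tr.nd (nat_lit 16023) (Tr.lf (Fc.ed (nat_lit 16022) (nat_lit 5037) Col.d (nat_lit 4194) (Dv.wd (nat_lit 120) [Mv.b (nat_lit 14989), Mv.b (nat_lit 16020)])))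
(Tr.lf (Fc.ed (nat_lit 16023) (nat_lit 3892) Col.d (nat_lit 4133) (Dv.wd (nat_lit 90) [Mv.b (nat_lit 13083), Mv.f (nat_lit 16022), Mv.f (nat_lit 10828)]))))
(Tr.nd (nat_lit 16025) (Tr.lf (Fc.al (nat_lit 16024) (nat_lit 4296) (nat_lit 5864) (Dv.wd (nat_lit 47) [Mv.f (nat_lit 14855), Mv.f (nat_lit 12114), Mv.b (nat_lit 6516), Mv.b (nat_lit 7119), Mv.f (nat_lit 7120), Mv.b (nat_lit 9582), Mv.f (nat_lit 16023), Mv.f (nat_lit 10634), Mv.f (nat_lit 5069), Mv.b (nat_lit 6298), Mv.b (nat_lit 11055)])))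
(Tr.nd (nat_lit 16026) (Tr.lf (Fc.ed (nat_lit 16025) (nat_lit 4296) Col.b (nat_lit 5249) (Dv.wd (nat_lit 119) [Mv.f (nat_lit 14856), Mv.b (nat_lit 16024)])))
(Tr.lf (Fc.ed (nat_lit 16026) (nat_lit 4296) Col.d (nat_lit 3598) (Dv.wd (nat_lit 120) [Mv.f (nat_lit 16016), Mv.b (nat_lit 16024)])))))))
(Tr.nd (nat_lit 16032) (Tr.nd (nat_lit 16029) (Tr.nd (nat_lit 16028) (Tr.lf (Fc.ed (nat_lit 16027) (nat_lit 4296) Col.e (nat_lit 2512) (Dv.wd (nat_lit 117) [Mv.b (nat_lit 14855), Mv.b (nat_lit 16024)])))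
(Tr.lf (Fc.al (nat_lit 16028) (nat_lit 4149) (nat_lit 4121) (Dv.wd (nat_lit 47) [Mv.b (nat_lit 12113), Mv.f (nat_lit 16023), Mv.f (nat_lit 10634), Mv.f (nat_lit 5069), Mv.b (nat_lit 6298), Mv.b (nat_lit 11055), Mv.f (nat_lit 16026), Mv.b (nat_lit 9051), Mv.b (nat_lit 8747), Mv.f (nat_lit 8748), Mv.f (nat_lit 10722)]))))
(Tr.nd (nat_lit 16030) (Tr.lf (Fc.ed (nat_lit 16029) (nat_lit 4121) Col.g (nat_lit 1751) (Dv.wd (nat_lit 129) [Mv.b (nat_lit 10723), Mv.f (nat_lit 16028)])))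
(Tr.nd (nat_lit 16031) (Tr.lf (Fc.ed (nat_lit 16030) (nat_lit 4121) Col.gi (nat_lit 3266) (Dv.wd (nat_lit 128) [Mv.f (nat_lit 10722), Mv.f (nat_lit 16028)])))
(Tr.lf (Fc.al (nat_lit 16031) (nat_lit 3755) (nat_lit 6126) (Dv.wd (nat_lit 133) [Mv.b (nat_lit 15390), Mv.b (nat_lit 16021), Mv.f (nat_lit 8858), Mv.f (nat_lit 5069), Mv.b (nat_lit 16029), Mv.b (nat_lit 12113), Mv.f (nat_lit 16023), Mv.b (nat_lit 10633), Mv.f (nat_lit 8385), Mv.b (nat_lit 8748), Mv.f (nat_lit 9347)]))))))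
(Tr.nd (nat_lit 16034) (Tr.nd (nat_lit 16033) (Tr.lf (Fc.ed (nat_lit 16032) (nat_lit 3755) Col.d (nat_lit 4435) (Dv.wd (nat_lit 120) [Mv.b (nat_lit 16012), Mv.b (nat_lit 16031)])))
(Tr.lf (Fc.ed (nat_lit 16033) (nat_lit 3755) Col.e (nat_lit 2314) (Dv.wd (nat_lit 117) [Mv.f (nat_lit 15390), Mv.b (nat_lit 16031)]))))
(Tr.nd (nat_lit 16035) (Tr.lf (Fc.al (nat_lit 16034) (nat_lit 5309) (nat_lit 4357) (Dv.wd (nat_lit 75) [Mv.f (nat_lit 11179), Mv.b (nat_lit 6504), Mv.b (nat_lit 11389), Mv.b (nat_lit 16032), Mv.f (nat_lit 16033), Mv.f (nat_lit 6674), Mv.b (nat_lit 7120), Mv.f (nat_lit 7119), Mv.b (nat_lit 8265), Mv.b (nat_lit 12110), Mv.f (nat_lit 13667)])))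
(Tr.nd (nat_lit 16036) (Tr.lf (Fc.ed (nat_lit 16035) (nat_lit 4357) Col.d (nat_lit 4049) (Dv.wd (nat_lit 120) [Mv.f (nat_lit 16017), Mv.f (nat_lit 16034)])))
(Tr.lf (Fc.ed (nat_lit 16036) (nat_lit 4357) Col.e (nat_lit 3082) (Dv.wd (nat_lit 117) [Mv.f (nat_lit 13667), Mv.f (nat_lit 16034)]))))))))
(Tr.nd (nat_lit 16047) (Tr.nd (nat_lit 16042) (Tr.nd (nat_lit 16039) (Tr.nd (nat_lit 16038) (Tr.lf (Fc.al (nat_lit 16037) (nat_lit 4141) (nat_lit 4049) (Dv.wd (nat_lit 60) [Mv.b (nat_lit 16035), Mv.f (nat_lit 16036), Mv.f (nat_lit 8013), Mv.f (nat_lit 4633), Mv.f (nat_lit 6058), Mv.b (nat_lit 12114), Mv.b (nat_lit 16027), Mv.b (nat_lit 11054), Mv.f (nat_lit 9807), Mv.b (nat_lit 9804), Mv.f (nat_lit 10708)])))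
(Tr.lf (Fc.al (nat_lit 16038) (nat_lit 6222) (nat_lit 2200) (Dv.wd (nat_lit 128) [Mv.b (nat_lit 10709), Mv.f (nat_lit 16037), Mv.f (nat_lit 15571)]))))
(Tr.nd (nat_lit 16040) (Tr.lf (Fc.ed (nat_lit 16039) (nat_lit 4049) Col.gi (nat_lit 3663) (Dv.wd (nat_lit 128) [Mv.f (nat_lit 10708), Mv.f (nat_lit 16037)])))
(Tr.nd (nat_lit 16041) (Tr.lf (Fc.ed (nat_lit 16040) (nat_lit 2200) Col.gi (nat_lit 4049) (Dv.wd (nat_lit 128) [Mv.f (nat_lit 15571), Mv.f (nat_lit 16038)])))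
(Tr.lf (Fc.al (nat_lit 16041) (nat_lit 4447) (nat_lit 4720) (Dv.wd (nat_lit 43) [Mv.b (nat_lit 11909), Mv.f (nat_lit 5868), Mv.b (nat_lit 2993), Mv.b (nat_lit 2378), Mv.b (nat_lit 12249), Mv.b (nat_lit 12256), Mv.b (nat_lit 16018), Mv.f (nat_lit 16039), Mv.b (nat_lit 11341), Mv.b (nat_lit 11376), Mv.f (nat_lit 11410)]))))))
(Tr.nd (nat_lit 16044) (Tr.nd (nat_lit 16043) (Tr.lf (Fc.al (nat_lit 16042) (nat_lit 3526) (nat_lit 6371) (Dv.wd (nat_lit 129) [Mv.b (nat_lit 15917), Mv.b (nat_lit 16041), Mv.f (nat_lit 11411)])))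
(Tr.lf (Fc.ed (nat_lit 16043) (nat_lit 4447) Col.d (nat_lit 2043) (Dv.wd (nat_lit 120) [Mv.f (nat_lit 11909), Mv.b (nat_lit 16041)]))))
(Tr.nd (nat_lit 16045) (Tr.lf (Fc.al (nat_lit 16044) (nat_lit 5530) (nat_lit 3928) (Dv.wd (nat_lit 129) [Mv.b (nat_lit 15918), Mv.b (nat_lit 16042), Mv.f (nat_lit 14144)])))
(Tr.nd (nat_lit 16046) (Tr.lf (Fc.ed (nat_lit 16045) (nat_lit 3928) Col.g (nat_lit 3526) (Dv.wd (nat_lit 129) [Mv.f (nat_lit 14144), Mv.f (nat_lit 16044)])))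
(Tr.lf (Fc.al (nat_lit 16046) (nat_lit 4913) (nat_lit 3874) (Dv.wd (nat_lit 47) [Mv.b (nat_lit 9555), Mv.b (nat_lit 16043), Mv.b (nat_lit 11410), Mv.f (nat_lit 11376), Mv.f (nat_lit 11341), Mv.b (nat_lit 16039), Mv.b (nat_lit 16035), Mv.f (nat_lit 11179), Mv.b (nat_lit 6504), Mv.b (nat_lit 7199), Mv.f (nat_lit 12781)])))))))
(Tr.nd (nat_lit 16052) (Tr.nd (nat_lit 16049) (Tr.nd (nat_lit 16048) (Tr.lf (Fc.ed (nat_lit 16047) (nat_lit 3874) Col.g (nat_lit 4670) (Dv.wd (nat_lit 129) [Mv.b (nat_lit 12782), Mv.f (nat_lit 16046)])))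
(Tr.lf (Fc.ed (nat_lit 16048) (nat_lit 3874) Col.gi (nat_lit 2706) (Dv.wd (nat_lit 128) [Mv.f (nat_lit 12781), Mv.f (nat_lit 16046)]))))
(Tr.nd (nat_lit 16050) (Tr.lf (Fc.ed (nat_lit 16049) (nat_lit 2706) Col.gi (nat_lit 5723) (Dv.wd (nat_lit 24) [Mv.f (nat_lit 14557), Mv.f (nat_lit 10772), Mv.f (nat_lit 16048)])))
(Tr.nd (nat_lit 16051) (Tr.lf (Fc.ed (nat_lit 16050) (nat_lit 5723) Col.gi (nat_lit 4670) (Dv.wd (nat_lit 24) [Mv.b (nat_lit 11813), Mv.f (nat_lit 11375), Mv.f (nat_lit 16049)])))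
(Tr.lf (Fc.ed (nat_lit 16051) (nat_lit 4087) Col.e (nat_lit 6223) (Dv.wd (nat_lit 47) [Mv.f (nat_lit 15573), Mv.f (nat_lit 8359), Mv.b (nat_lit 7704), Mv.f (nat_lit 6903), Mv.f (nat_lit 5394), Mv.f (nat_lit 10151), Mv.f (nat_lit 16045), Mv.b (nat_lit 9885), Mv.b (nat_lit 9883), Mv.f (nat_lit 9960)]))))))
(Tr.nd (nat_lit 16055) (Tr.nd (nat_lit 16053) (Tr.lf (Fc.ed (nat_lit 16052) (nat_lit 2362) Col.e (nat_lit 6342) (Dv.wd (nat_lit 57) [Mv.b (nat_lit 15860), Mv.f (nat_lit 16051), Mv.b (nat_lit 15572), Mv.f (nat_lit 15059), Mv.f (nat_lit 9525)])))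
(Tr.nd (nat_lit 16054) (Tr.lf (Fc.ed (nat_lit 16053) (nat_lit 4420) Col.e (nat_lit 3800) (Dv.wd (nat_lit 56) [Mv.b (nat_lit 9428), Mv.f (nat_lit 16052), Mv.f (nat_lit 15861)])))
(Tr.lf (Fc.al (nat_lit 16054) (nat_lit 4057) (nat_lit 5073) (Dv.wd (nat_lit 63) [Mv.f (nat_lit 13158), Mv.b (nat_lit 7198), Mv.f (nat_lit 7199), Mv.b (nat_lit 11389), Mv.b (nat_lit 16032), Mv.b (nat_lit 9347), Mv.f (nat_lit 8747), Mv.f (nat_lit 9632), Mv.f (nat_lit 11364), Mv.f (nat_lit 16053), Mv.f (nat_lit 9900)])))))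
(Tr.nd (nat_lit 16056) (Tr.lf (Fc.ed (nat_lit 16055) (nat_lit 4057) Col.g (nat_lit 2241) (Dv.wd (nat_lit 129) [Mv.b (nat_lit 13158), Mv.b (nat_lit 16054)])))
(Tr.nd (nat_lit 16057) (Tr.lf (Fc.ed (nat_lit 16056) (nat_lit 5249) Col.c (nat_lit 5983) (Dv.wd (nat_lit 135) [Mv.b (nat_lit 15128), Mv.f (nat_lit 7403), Mv.f (nat_lit 6945), Mv.f (nat_lit 3595), Mv.f (nat_lit 3314), Mv.f (nat_lit 3578), Mv.b (nat_lit 3670), Mv.f (nat_lit 6297), Mv.b (nat_lit 11055), Mv.f (nat_lit 16025)])))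
(Tr.lf (Fc.ed (nat_lit 16057) (nat_lit 6128) Col.a (nat_lit 4103) (Dv.wd (nat_lit 31) [Mv.f (nat_lit 16013), Mv.f (nat_lit 16009), Mv.f (nat_lit 15393)])))))))))
(Tr.nd (nat_lit 16078) (Tr.nd (nat_lit 16068) (Tr.nd (nat_lit 16063) (Tr.nd (nat_lit 16060) (Tr.nd (nat_lit 16059) (Tr.lf (Fc.ed (nat_lit 16058) (nat_lit 3755) Col.f (nat_lit 6128) (Dv.wd (nat_lit 13) [Mv.f (nat_lit 16057), Mv.b (nat_lit 10584), Mv.f (nat_lit 9347)])))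
(Tr.lf (Fc.al (nat_lit 16059) (nat_lit 2979) (nat_lit 2314) (Dv.wd (nat_lit 57) [Mv.b (nat_lit 16033), Mv.f (nat_lit 16058), Mv.b (nat_lit 15393), Mv.f (nat_lit 12112), Mv.b (nat_lit 8293), Mv.b (nat_lit 7782)]))))
(Tr.nd (nat_lit 16061) (Tr.lf (Fc.al (nat_lit 16060) (nat_lit 4194) (nat_lit 3581) (Dv.wd (nat_lit 29) [Mv.b (nat_lit 9019), Mv.f (nat_lit 16059), Mv.f (nat_lit 10827)])))
(Tr.nd (nat_lit 16062) (Tr.lf (Fc.ed (nat_lit 16061) (nat_lit 3581) Col.d (nat_lit 5037) (Dv.wd (nat_lit 120) [Mv.f (nat_lit 16022), Mv.f (nat_lit 16060)])))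
(Tr.lf (Fc.al (nat_lit 16062) (nat_lit 3639) (nat_lit 3892) (Dv.wd (nat_lit 30) [Mv.b (nat_lit 10828), Mv.f (nat_lit 16060), Mv.b (nat_lit 9125)]))))))
(Tr.nd (nat_lit 16065) (Tr.nd (nat_lit 16064) (Tr.lf (Fc.ed (nat_lit 16063) (nat_lit 3639) Col.d (nat_lit 4133) (Dv.wd (nat_lit 120) [Mv.b (nat_lit 16023), Mv.b (nat_lit 16062)])))
(Tr.lf (Fc.al (nat_lit 16064) (nat_lit 4631) (nat_lit 4121) (Dv.wd (nat_lit 117) [Mv.b (nat_lit 12113), Mv.b (nat_lit 16062), Mv.b (nat_lit 11742)]))))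
(Tr.nd (nat_lit 16066) (Tr.lf (Fc.al (nat_lit 16065) (nat_lit 3266) (nat_lit 5687) (Dv.wd (nat_lit 129) [Mv.f (nat_lit 14443), Mv.f (nat_lit 16064), Mv.f (nat_lit 16030)])))
(Tr.nd (nat_lit 16067) (Tr.lf (Fc.ed (nat_lit 16066) (nat_lit 4121) Col.e (nat_lit 3639) (Dv.wd (nat_lit 117) [Mv.b (nat_lit 11742), Mv.f (nat_lit 16064)])))
(Tr.lf (Fc.ed (nat_lit 16067) (nat_lit 4121) Col.f (nat_lit 3775) (Dv.wd (nat_lit 30) [Mv.f (nat_lit 16011), Mv.f (nat_lit 16064)])))))))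
(Tr.nd (nat_lit 16073) (Tr.nd (nat_lit 16070) (Tr.nd (nat_lit 16069) (Tr.lf (Fc.al (nat_lit 16068) (nat_lit 3307) (nat_lit 4630) (Dv.wd (nat_lit 129) [Mv.f (nat_lit 14442), Mv.b (nat_lit 16065), Mv.f (nat_lit 8468)])))
(Tr.lf (Fc.ed (nat_lit 16069) (nat_lit 3307) Col.d (nat_lit 2970) (Dv.wd (nat_lit 120) [Mv.f (nat_lit 11740), Mv.b (nat_lit 16068)]))))
(Tr.nd (nat_lit 16071) (Tr.lf (Fc.ed (nat_lit 16070) (nat_lit 3307) Col.e (nat_lit 6128) (Dv.wd (nat_lit 117) [Mv.b (nat_lit 15393), Mv.b (nat_lit 16068)])))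
(Tr.nd (nat_lit 16072) (Tr.lf (Fc.ed (nat_lit 16071) (nat_lit 6128) Col.d (nat_lit 4490) (Dv.wd (nat_lit 27) [Mv.b (nat_lit 11480), Mv.f (nat_lit 7387), Mv.f (nat_lit 6298), Mv.b (nat_lit 16029), Mv.f (nat_lit 16066), Mv.f (nat_lit 16063), Mv.b (nat_lit 10633), Mv.f (nat_lit 8385), Mv.f (nat_lit 8468), Mv.f (nat_lit 16070)])))
(Tr.lf (Fc.al (nat_lit 16072) (nat_lit 2864) (nat_lit 2768) (Dv.wd (nat_lit 11) [Mv.b (nat_lit 7332), Mv.f (nat_lit 10614), Mv.f (nat_lit 16067), Mv.f (nat_lit 16010)]))))))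
(Tr.nd (nat_lit 16075) (Tr.nd (nat_lit 16074) (Tr.lf (Fc.al (nat_lit 16073) (nat_lit 2720) (nat_lit 2970) (Dv.wd (nat_lit 29) [Mv.b (nat_lit 7762), Mv.f (nat_lit 16072), Mv.f (nat_lit 7333)])))
(Tr.lf (Fc.ed (nat_lit 16074) (nat_lit 2720) Col.d (nat_lit 3307) (Dv.wd (nat_lit 120) [Mv.f (nat_lit 16069), Mv.b (nat_lit 16073)]))))
(Tr.nd (nat_lit 16076) (Tr.lf (Fc.al (nat_lit 16075) (nat_lit 6128) (nat_lit 4577) (Dv.wd (nat_lit 75) [Mv.f (nat_lit 11642), Mv.b (nat_lit 9804), Mv.b (nat_lit 16039), Mv.b (nat_lit 16035), Mv.f (nat_lit 16036), Mv.f (nat_lit 8013), Mv.f (nat_lit 4263), Mv.b (nat_lit 4289), Mv.f (nat_lit 7227), Mv.f (nat_lit 16074), Mv.f (nat_lit 16070)])))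
(Tr.nd (nat_lit 16077) (Tr.lf (Fc.ed (nat_lit 16076) (nat_lit 4577) Col.d (nat_lit 4490) (Dv.wd (nat_lit 120) [Mv.b (nat_lit 16071), Mv.f (nat_lit 16075)])))
(Tr.lf (Fc.ed (nat_lit 16077) (nat_lit 4577) Col.e (nat_lit 3307) (Dv.wd (nat_lit 117) [Mv.f (nat_lit 16070), Mv.f (nat_lit 16075)]))))))))
(Tr.nd (nat_lit 16088) (Tr.nd (nat_lit 16083) (Tr.nd (nat_lit 16080) (Tr.nd (nat_lit 16079) (Tr.lf (Fc.ed (nat_lit 16078) (nat_lit 4490) Col.e (nat_lit 2420) (Dv.wd (nat_lit 70) [Mv.f (nat_lit 6549), Mv.f (nat_lit 5287), Mv.b (nat_lit 4653), Mv.b (nat_lit 12250), Mv.b (nat_lit 12256), Mv.b (nat_lit 16018), Mv.b (nat_lit 16040), Mv.f (nat_lit 6080), Mv.f (nat_lit 11641), Mv.f (nat_lit 16076)])))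
(Tr.lf (Fc.ed (nat_lit 16079) (nat_lit 5810) Col.gi (nat_lit 4409) (Dv.wd (nat_lit 163) [Mv.f (nat_lit 11341), Mv.f (nat_lit 9804), Mv.b (nat_lit 11642), Mv.f (nat_lit 16076), Mv.f (nat_lit 16078), Mv.b (nat_lit 6548), Mv.f (nat_lit 5865), Mv.b (nat_lit 5866), Mv.b (nat_lit 9221), Mv.f (nat_lit 14751)]))))
(Tr.nd (nat_lit 16081) (Tr.lf (Fc.al (nat_lit 16080) (nat_lit 5985) (nat_lit 6219) (Dv.wd (nat_lit 53) [Mv.b (nat_lit 15787), Mv.b (nat_lit 15786), Mv.f (nat_lit 16079), Mv.f (nat_lit 11341), Mv.f (nat_lit 9804), Mv.b (nat_lit 11642), Mv.f (nat_lit 16076), Mv.b (nat_lit 11480), Mv.f (nat_lit 7388), Mv.f (nat_lit 6786), Mv.b (nat_lit 15132)])))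
(Tr.nd (nat_lit 16082) (Tr.lf (Fc.ed (nat_lit 16081) (nat_lit 5985) Col.d (nat_lit 6305) (Dv.wd (nat_lit 120) [Mv.f (nat_lit 15787), Mv.b (nat_lit 16080)])))
(Tr.lf (Fc.ed (nat_lit 16082) (nat_lit 4484) Col.d (nat_lit 2420) (Dv.wd (nat_lit 99) [Mv.b (nat_lit 16078), Mv.b (nat_lit 16076), Mv.f (nat_lit 16077), Mv.b (nat_lit 16074), Mv.f (nat_lit 11471)]))))))
(Tr.nd (nat_lit 16085) (Tr.nd (nat_lit 16084) (Tr.lf (Fc.al (nat_lit 16083) (nat_lit 4445) (nat_lit 5037) (Dv.wd (nat_lit 162) [Mv.b (nat_lit 16061), Mv.f (nat_lit 9020), Mv.b (nat_lit 6342), Mv.b (nat_lit 7228), Mv.f (nat_lit 11471), Mv.f (nat_lit 16082), Mv.b (nat_lit 6548), Mv.b (nat_lit 6511), Mv.b (nat_lit 7579), Mv.b (nat_lit 11287), Mv.f (nat_lit 11407)])))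
(Tr.lf (Fc.ed (nat_lit 16084) (nat_lit 4445) Col.a (nat_lit 3499) (Dv.wd (nat_lit 29) [Mv.f (nat_lit 13082), Mv.b (nat_lit 16083)]))))
(Tr.nd (nat_lit 16086) (Tr.lf (Fc.ed (nat_lit 16085) (nat_lit 3499) Col.e (nat_lit 4964) (Dv.wd (nat_lit 56) [Mv.b (nat_lit 12886), Mv.f (nat_lit 11407), Mv.f (nat_lit 16084)])))
(Tr.nd (nat_lit 16087) (Tr.lf (Fc.ed (nat_lit 16086) (nat_lit 5830) Col.e (nat_lit 4435) (Dv.wd (nat_lit 42) [Mv.b (nat_lit 16032), Mv.f (nat_lit 16033), Mv.b (nat_lit 16021), Mv.f (nat_lit 16085), Mv.f (nat_lit 14780)])))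
(Tr.lf (Fc.al (nat_lit 16087) (nat_lit 3433) (nat_lit 4964) (Dv.wd (nat_lit 60) [Mv.f (nat_lit 14780), Mv.f (nat_lit 16086), Mv.b (nat_lit 11388), Mv.b (nat_lit 11099), Mv.f (nat_lit 11178), Mv.f (nat_lit 16035), Mv.f (nat_lit 16018), Mv.f (nat_lit 5342), Mv.b (nat_lit 3994), Mv.b (nat_lit 4670), Mv.f (nat_lit 8732)])))))))
(Tr.nd (nat_lit 16093) (Tr.nd (nat_lit 16090) (Tr.nd (nat_lit 16089) (Tr.lf (Fc.al (nat_lit 16088) (nat_lit 4524) (nat_lit 4380) (Dv.wd (nat_lit 29) [Mv.f (nat_lit 12886), Mv.b (nat_lit 16087), Mv.f (nat_lit 11539)])))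
(Tr.lf (Fc.ed (nat_lit 16089) (nat_lit 3433) Col.d (nat_lit 5830) (Dv.wd (nat_lit 120) [Mv.b (nat_lit 14780), Mv.b (nat_lit 16087)]))))
(Tr.nd (nat_lit 16091) (Tr.lf (Fc.ed (nat_lit 16090) (nat_lit 4380) Col.a (nat_lit 3433) (Dv.wd (nat_lit 29) [Mv.f (nat_lit 11539), Mv.f (nat_lit 16088)])))
(Tr.nd (nat_lit 16092) (Tr.lf (Fc.al (nat_lit 16091) (nat_lit 5387) (nat_lit 3298) (Dv.wd (nat_lit 30) [Mv.b (nat_lit 11540), Mv.f (nat_lit 16088), Mv.b (nat_lit 13835)])))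
(Tr.lf (Fc.ed (nat_lit 16092) (nat_lit 3298) Col.a (nat_lit 3421) (Dv.wd (nat_lit 29) [Mv.f (nat_lit 13834), Mv.f (nat_lit 16091)]))))))
(Tr.nd (nat_lit 16096) (Tr.nd (nat_lit 16094) (Tr.lf (Fc.ed (nat_lit 16093) (nat_lit 3298) Col.f (nat_lit 4380) (Dv.wd (nat_lit 30) [Mv.b (nat_lit 13835), Mv.f (nat_lit 16091)])))
(Tr.nd (nat_lit 16095) (Tr.lf (Fc.al (nat_lit 16094) (nat_lit 3800) (nat_lit 3415) (Dv.wd (nat_lit 163) [Mv.f (nat_lit 8692), Mv.f (nat_lit 7126), Mv.b (nat_lit 8297), Mv.b (nat_lit 8733), Mv.f (nat_lit 16089), Mv.f (nat_lit 16086), Mv.f (nat_lit 11389), Mv.b (nat_lit 7199), Mv.f (nat_lit 7198), Mv.b (nat_lit 16055), Mv.b (nat_lit 9900)])))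
(Tr.lf (Fc.al (nat_lit 16095) (nat_lit 4394) (nat_lit 2362) (Dv.wd (nat_lit 29) [Mv.f (nat_lit 9428), Mv.f (nat_lit 16094), Mv.b (nat_lit 11309)])))))
(Tr.nd (nat_lit 16097) (Tr.lf (Fc.ed (nat_lit 16096) (nat_lit 3415) Col.d (nat_lit 4057) (Dv.wd (nat_lit 120) [Mv.b (nat_lit 9900), Mv.f (nat_lit 16094)])))
(Tr.nd (nat_lit 16098) (Tr.lf (Fc.al (nat_lit 16097) (nat_lit 3855) (nat_lit 2773) (Dv.wd (nat_lit 30) [Mv.f (nat_lit 11308), Mv.f (nat_lit 16095), Mv.b (nat_lit 9525)])))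
(Tr.lf (Fc.al (nat_lit 16098) (nat_lit 4560) (nat_lit 6068) (Dv.wd (nat_lit 119) [Mv.b (nat_lit 15277), Mv.f (nat_lit 16097), Mv.f (nat_lit 11610)]))))))))))))
(Tr.nd (nat_lit 16263) (Tr.nd (nat_lit 16181) (Tr.nd (nat_lit 16140) (Tr.nd (nat_lit 16119) (Tr.nd (nat_lit 16109) (Tr.nd (nat_lit 16104) (Tr.nd (nat_lit 16101) (Tr.nd (nat_lit 16100) (Tr.lf (Fc.al (nat_lit 16099) (nat_lit 4378) (nat_lit 5959) (Dv.wd (nat_lit 117) [Mv.f (nat_lit 15059), Mv.f (nat_lit 16097), Mv.b (nat_lit 11283)])))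
(Tr.lf (Fc.al (nat_lit 16100) (nat_lit 4404) (nat_lit 5619) (Dv.wd (nat_lit 103) [Mv.f (nat_lit 15279), Mv.b (nat_lit 16098), Mv.f (nat_lit 11611)]))))
(Tr.nd (nat_lit 16102) (Tr.lf (Fc.ed (nat_lit 16101) (nat_lit 4560) Col.f (nat_lit 4832) (Dv.wd (nat_lit 30) [Mv.b (nat_lit 15278), Mv.b (nat_lit 16098)])))
(Tr.nd (nat_lit 16103) (Tr.lf (Fc.al (nat_lit 16102) (nat_lit 4331) (nat_lit 5757) (Dv.wd (nat_lit 120) [Mv.b (nat_lit 15058), Mv.b (nat_lit 16099), Mv.b (nat_lit 11282)])))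
(Tr.lf (Fc.al (nat_lit 16103) (nat_lit 6105) (nat_lit 4433) (Dv.wd (nat_lit 29) [Mv.b (nat_lit 14318), Mv.b (nat_lit 16100), Mv.b (nat_lit 15350)]))))))
(Tr.nd (nat_lit 16106) (Tr.nd (nat_lit 16105) (Tr.lf (Fc.ed (nat_lit 16104) (nat_lit 4331) Col.a (nat_lit 3580) (Dv.wd (nat_lit 29) [Mv.b (nat_lit 14620), Mv.b (nat_lit 16102)])))
(Tr.lf (Fc.ed (nat_lit 16105) (nat_lit 4331) Col.f (nat_lit 3252) (Dv.wd (nat_lit 30) [Mv.f (nat_lit 14619), Mv.b (nat_lit 16102)]))))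
(Tr.nd (nat_lit 16107) (Tr.lf (Fc.ed (nat_lit 16106) (nat_lit 4433) Col.a (nat_lit 4404) (Dv.wd (nat_lit 29) [Mv.b (nat_lit 15350), Mv.f (nat_lit 16103)])))
(Tr.nd (nat_lit 16108) (Tr.lf (Fc.ed (nat_lit 16107) (nat_lit 5485) Col.f (nat_lit 5195) (Dv.wd (nat_lit 20) [Mv.f (nat_lit 13420), Mv.f (nat_lit 16105), Mv.f (nat_lit 14065)])))
(Tr.lf (Fc.ed (nat_lit 16108) (nat_lit 5137) Col.f (nat_lit 5484) (Dv.wd (nat_lit 26) [Mv.b (nat_lit 14066), Mv.f (nat_lit 16107), Mv.b (nat_lit 13419)])))))))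
(Tr.nd (nat_lit 16114) (Tr.nd (nat_lit 16111) (Tr.nd (nat_lit 16110) (Tr.lf (Fc.ed (nat_lit 16109) (nat_lit 5207) Col.f (nat_lit 6269) (Dv.wd (nat_lit 11) [Mv.f (nat_lit 15659), Mv.f (nat_lit 16107), Mv.b (nat_lit 13442)])))
(Tr.lf (Fc.ed (nat_lit 16110) (nat_lit 5259) Col.a (nat_lit 5137) (Dv.wd (nat_lit 79) [Mv.f (nat_lit 16108), Mv.b (nat_lit 15908), Mv.b (nat_lit 15907)]))))
(Tr.nd (nat_lit 16112) (Tr.lf (Fc.al (nat_lit 16111) (nat_lit 6366) (nat_lit 5209) (Dv.wd (nat_lit 12) [Mv.b (nat_lit 13446), Mv.b (nat_lit 13289), Mv.f (nat_lit 16108), Mv.b (nat_lit 15908)])))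
(Tr.nd (nat_lit 16113) (Tr.lf (Fc.ed (nat_lit 16112) (nat_lit 5209) Col.a (nat_lit 5484) (Dv.wd (nat_lit 29) [Mv.b (nat_lit 15908), Mv.f (nat_lit 16111)])))
(Tr.lf (Fc.ed (nat_lit 16113) (nat_lit 5209) Col.f (nat_lit 5259) (Dv.wd (nat_lit 30) [Mv.f (nat_lit 15907), Mv.f (nat_lit 16111)]))))))
(Tr.nd (nat_lit 16116) (Tr.nd (nat_lit 16115) (Tr.lf (Fc.ed (nat_lit 16114) (nat_lit 3063) Col.gi (nat_lit 2386) (Dv.wd (nat_lit 132) [Mv.b (nat_lit 6478), Mv.b (nat_lit 4832), Mv.b (nat_lit 5268), Mv.f (nat_lit 10316), Mv.f (nat_lit 5183), Mv.f (nat_lit 2993), Mv.b (nat_lit 3573), Mv.f (nat_lit 8691), Mv.f (nat_lit 16096), Mv.f (nat_lit 10229)])))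
(Tr.lf (Fc.al (nat_lit 16115) (nat_lit 5384) (nat_lit 2945) (Dv.wd (nat_lit 23) [Mv.b (nat_lit 7974), Mv.f (nat_lit 16114), Mv.b (nat_lit 7657), Mv.f (nat_lit 13829)]))))
(Tr.nd (nat_lit 16117) (Tr.lf (Fc.al (nat_lit 16116) (nat_lit 4879) (nat_lit 5591) (Dv.wd (nat_lit 119) [Mv.b (nat_lit 14262), Mv.f (nat_lit 16115), Mv.f (nat_lit 12715)])))
(Tr.nd (nat_lit 16118) (Tr.lf (Fc.ed (nat_lit 16117) (nat_lit 2945) Col.f (nat_lit 2915) (Dv.wd (nat_lit 30) [Mv.f (nat_lit 13829), Mv.f (nat_lit 16115)])))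
(Tr.lf (Fc.ed (nat_lit 16118) (nat_lit 4879) Col.f (nat_lit 4393) (Dv.wd (nat_lit 30) [Mv.b (nat_lit 14263), Mv.b (nat_lit 16116)]))))))))
(Tr.nd (nat_lit 16129) (Tr.nd (nat_lit 16124) (Tr.nd (nat_lit 16121) (Tr.nd (nat_lit 16120) (Tr.lf (Fc.ed (nat_lit 16119) (nat_lit 3975) Col.f (nat_lit 5143) (Dv.wd (nat_lit 26) [Mv.b (nat_lit 13298), Mv.f (nat_lit 16118), Mv.b (nat_lit 11306)])))
(Tr.lf (Fc.al (nat_lit 16120) (nat_lit 3963) (nat_lit 5799) (Dv.wd (nat_lit 114) [Mv.b (nat_lit 14728), Mv.f (nat_lit 16119), Mv.f (nat_lit 13299), Mv.b (nat_lit 9745)]))))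
(Tr.nd (nat_lit 16122) (Tr.lf (Fc.ed (nat_lit 16121) (nat_lit 3963) Col.c (nat_lit 6218) (Dv.wd (nat_lit 103) [Mv.b (nat_lit 15565), Mv.b (nat_lit 16120)])))
(Tr.nd (nat_lit 16123) (Tr.lf (Fc.al (nat_lit 16122) (nat_lit 4903) (nat_lit 3027) (Dv.wd (nat_lit 35) [Mv.f (nat_lit 7973), Mv.f (nat_lit 7974), Mv.f (nat_lit 16117), Mv.f (nat_lit 12760)])))
(Tr.lf (Fc.ed (nat_lit 16123) (nat_lit 3027) Col.d (nat_lit 5599) (Dv.wd (nat_lit 120) [Mv.b (nat_lit 14275), Mv.f (nat_lit 16122)]))))))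
(Tr.nd (nat_lit 16126) (Tr.nd (nat_lit 16125) (Tr.lf (Fc.ed (nat_lit 16124) (nat_lit 5669) Col.d (nat_lit 3063) (Dv.wd (nat_lit 90) [Mv.b (nat_lit 7973), Mv.f (nat_lit 16123), Mv.f (nat_lit 14416)])))
(Tr.lf (Fc.ed (nat_lit 16125) (nat_lit 5810) Col.g (nat_lit 4048) (Dv.wd (nat_lit 75) [Mv.f (nat_lit 9885), Mv.b (nat_lit 11411), Mv.f (nat_lit 16043), Mv.f (nat_lit 9555), Mv.f (nat_lit 16047), Mv.b (nat_lit 11811), Mv.f (nat_lit 11477), Mv.f (nat_lit 15131), Mv.f (nat_lit 16081), Mv.b (nat_lit 15786)]))))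
(Tr.nd (nat_lit 16127) (Tr.lf (Fc.ed (nat_lit 16126) (nat_lit 4048) Col.g (nat_lit 4020) (Dv.wd (nat_lit 9) [Mv.f (nat_lit 10150), Mv.b (nat_lit 14753), Mv.f (nat_lit 16125)])))
(Tr.nd (nat_lit 16128) (Tr.lf (Fc.al (nat_lit 16127) (nat_lit 6342) (nat_lit 5546) (Dv.wd (nat_lit 38) [Mv.b (nat_lit 14175), Mv.b (nat_lit 12515), Mv.f (nat_lit 12514), Mv.b (nat_lit 16050), Mv.b (nat_lit 14556), Mv.f (nat_lit 9688), Mv.f (nat_lit 16045), Mv.b (nat_lit 9885), Mv.f (nat_lit 16126), Mv.b (nat_lit 10149), Mv.f (nat_lit 16052)])))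
(Tr.lf (Fc.ed (nat_lit 16128) (nat_lit 5546) Col.e (nat_lit 2362) (Dv.wd (nat_lit 117) [Mv.f (nat_lit 16052), Mv.f (nat_lit 16127)])))))))
(Tr.nd (nat_lit 16134) (Tr.nd (nat_lit 16131) (Tr.nd (nat_lit 16130) (Tr.lf (Fc.ed (nat_lit 16129) (nat_lit 4506) Col.g (nat_lit 2792) (Dv.wd (nat_lit 55) [Mv.f (nat_lit 7391), Mv.f (nat_lit 6439), Mv.f (nat_lit 15999), Mv.b (nat_lit 8360), Mv.f (nat_lit 13129), Mv.f (nat_lit 13584), Mv.b (nat_lit 13582), Mv.b (nat_lit 13572), Mv.b (nat_lit 8572), Mv.f (nat_lit 11509)])))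
(Tr.lf (Fc.ed (nat_lit 16130) (nat_lit 2951) Col.f (nat_lit 5277) (Dv.wd (nat_lit 10) [Mv.f (nat_lit 13583), Mv.f (nat_lit 16129), Mv.f (nat_lit 7727)]))))
(Tr.nd (nat_lit 16132) (Tr.lf (Fc.al (nat_lit 16131) (nat_lit 2501) (nat_lit 5562) (Dv.wd (nat_lit 63) [Mv.f (nat_lit 14868), Mv.f (nat_lit 15283), Mv.f (nat_lit 15284), Mv.b (nat_lit 7964), Mv.b (nat_lit 7029), Mv.b (nat_lit 12419), Mv.f (nat_lit 12925), Mv.f (nat_lit 12927), Mv.f (nat_lit 16129), Mv.f (nat_lit 7556), Mv.f (nat_lit 7558)])))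
(Tr.nd (nat_lit 16133) (Tr.lf (Fc.ed (nat_lit 16132) (nat_lit 2501) Col.g (nat_lit 5869) (Dv.wd (nat_lit 129) [Mv.b (nat_lit 14868), Mv.b (nat_lit 16131)])))
(Tr.lf (Fc.al (nat_lit 16133) (nat_lit 2870) (nat_lit 5490) (Dv.wd (nat_lit 120) [Mv.f (nat_lit 14204), Mv.b (nat_lit 16131), Mv.b (nat_lit 7558)]))))))
(Tr.nd (nat_lit 16137) (Tr.nd (nat_lit 16135) (Tr.lf (Fc.al (nat_lit 16134) (nat_lit 2338) (nat_lit 2627) (Dv.wd (nat_lit 117) [Mv.b (nat_lit 14205), Mv.b (nat_lit 16131), Mv.b (nat_lit 6738)])))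
(Tr.nd (nat_lit 16136) (Tr.lf (Fc.al (nat_lit 16135) (nat_lit 6220) (nat_lit 4647) (Dv.wd (nat_lit 129) [Mv.f (nat_lit 14073), Mv.b (nat_lit 16133), Mv.b (nat_lit 15569)])))
(Tr.lf (Fc.al (nat_lit 16136) (nat_lit 3881) (nat_lit 1486) (Dv.wd (nat_lit 128) [Mv.f (nat_lit 7018), Mv.b (nat_lit 16134), Mv.f (nat_lit 9564)])))))
(Tr.nd (nat_lit 16138) (Tr.lf (Fc.ed (nat_lit 16137) (nat_lit 4647) Col.g (nat_lit 2870) (Dv.wd (nat_lit 129) [Mv.b (nat_lit 15569), Mv.f (nat_lit 16135)])))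
(Tr.nd (nat_lit 16139) (Tr.lf (Fc.ed (nat_lit 16138) (nat_lit 4647) Col.gi (nat_lit 5029) (Dv.wd (nat_lit 128) [Mv.f (nat_lit 15568), Mv.f (nat_lit 16135)])))
(Tr.lf (Fc.ed (nat_lit 16139) (nat_lit 1486) Col.g (nat_lit 3794) (Dv.wd (nat_lit 129) [Mv.b (nat_lit 9565), Mv.f (nat_lit 16136)])))))))))
(Tr.nd (nat_lit 16160) (Tr.nd (nat_lit 16150) (Tr.nd (nat_lit 16145) (Tr.nd (nat_lit 16142) (Tr.nd (nat_lit 16141) (Tr.lf (Fc.ed (nat_lit 16140) (nat_lit 1486) Col.gi (nat_lit 2338) (Dv.wd (nat_lit 128) [Mv.f (nat_lit 9564), Mv.f (nat_lit 16136)])))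
(Tr.lf (Fc.ed (nat_lit 16141) (nat_lit 3471) Col.e (nat_lit 3387) (Dv.wd (nat_lit 70) [Mv.f (nat_lit 8636), Mv.b (nat_lit 6453), Mv.b (nat_lit 12128), Mv.f (nat_lit 4294), Mv.b (nat_lit 2144), Mv.f (nat_lit 1818), Mv.b (nat_lit 2954), Mv.b (nat_lit 12942), Mv.f (nat_lit 16139), Mv.b (nat_lit 15998)]))))
(Tr.nd (nat_lit 16143) (Tr.lf (Fc.al (nat_lit 16142) (nat_lit 3566) (nat_lit 2309) (Dv.wd (nat_lit 56) [Mv.b (nat_lit 6315), Mv.b (nat_lit 15997), Mv.f (nat_lit 16141), Mv.b (nat_lit 8994)])))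
(Tr.nd (nat_lit 16144) (Tr.lf (Fc.al (nat_lit 16143) (nat_lit 2544) (nat_lit 4212) (Dv.wd (nat_lit 120) [Mv.f (nat_lit 10861), Mv.f (nat_lit 16142), Mv.b (nat_lit 6847)])))
(Tr.lf (Fc.al (nat_lit 16144) (nat_lit 2503) (nat_lit 2657) (Dv.wd (nat_lit 30) [Mv.f (nat_lit 8993), Mv.f (nat_lit 16142), Mv.b (nat_lit 6745)]))))))
(Tr.nd (nat_lit 16147) (Tr.nd (nat_lit 16146) (Tr.lf (Fc.al (nat_lit 16145) (nat_lit 2613) (nat_lit 5218) (Dv.wd (nat_lit 29) [Mv.f (nat_lit 13463), Mv.b (nat_lit 16143), Mv.f (nat_lit 6993)])))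
(Tr.lf (Fc.ed (nat_lit 16146) (nat_lit 2503) Col.g (nat_lit 1627) (Dv.wd (nat_lit 129) [Mv.f (nat_lit 7090), Mv.b (nat_lit 16144)]))))
(Tr.nd (nat_lit 16148) (Tr.lf (Fc.ed (nat_lit 16147) (nat_lit 2503) Col.a (nat_lit 4545) (Dv.wd (nat_lit 29) [Mv.f (nat_lit 11581), Mv.b (nat_lit 16144)])))
(Tr.nd (nat_lit 16149) (Tr.lf (Fc.ed (nat_lit 16148) (nat_lit 2503) Col.d (nat_lit 3955) (Dv.wd (nat_lit 120) [Mv.b (nat_lit 9731), Mv.b (nat_lit 16144)])))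
(Tr.lf (Fc.al (nat_lit 16149) (nat_lit 2589) (nat_lit 4314) (Dv.wd (nat_lit 117) [Mv.b (nat_lit 11090), Mv.b (nat_lit 16144), Mv.b (nat_lit 6946)])))))))
(Tr.nd (nat_lit 16155) (Tr.nd (nat_lit 16152) (Tr.nd (nat_lit 16151) (Tr.lf (Fc.ed (nat_lit 16150) (nat_lit 2613) Col.d (nat_lit 3387) (Dv.wd (nat_lit 120) [Mv.f (nat_lit 13462), Mv.b (nat_lit 16145)])))
(Tr.lf (Fc.al (nat_lit 16151) (nat_lit 4220) (nat_lit 5230) (Dv.wd (nat_lit 30) [Mv.f (nat_lit 13491), Mv.b (nat_lit 16145), Mv.f (nat_lit 10878)]))))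
(Tr.nd (nat_lit 16153) (Tr.lf (Fc.ed (nat_lit 16152) (nat_lit 2589) Col.g (nat_lit 4444) (Dv.wd (nat_lit 129) [Mv.f (nat_lit 13844), Mv.b (nat_lit 16149)])))
(Tr.nd (nat_lit 16154) (Tr.lf (Fc.ed (nat_lit 16153) (nat_lit 2589) Col.gi (nat_lit 1810) (Dv.wd (nat_lit 128) [Mv.b (nat_lit 13843), Mv.b (nat_lit 16149)])))
(Tr.lf (Fc.al (nat_lit 16154) (nat_lit 3338) (nat_lit 5391) (Dv.wd (nat_lit 120) [Mv.f (nat_lit 13842), Mv.b (nat_lit 16149), Mv.b (nat_lit 8535)]))))))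
(Tr.nd (nat_lit 16157) (Tr.nd (nat_lit 16156) (Tr.lf (Fc.ed (nat_lit 16155) (nat_lit 4220) Col.a (nat_lit 3955) (Dv.wd (nat_lit 29) [Mv.f (nat_lit 13489), Mv.b (nat_lit 16151)])))
(Tr.lf (Fc.al (nat_lit 16156) (nat_lit 4304) (nat_lit 4545) (Dv.wd (nat_lit 120) [Mv.b (nat_lit 13490), Mv.b (nat_lit 16151), Mv.f (nat_lit 11070)]))))
(Tr.nd (nat_lit 16158) (Tr.lf (Fc.al (nat_lit 16157) (nat_lit 4406) (nat_lit 5248) (Dv.wd (nat_lit 128) [Mv.f (nat_lit 13840), Mv.b (nat_lit 16154), Mv.b (nat_lit 11336)])))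
(Tr.nd (nat_lit 16159) (Tr.lf (Fc.al (nat_lit 16158) (nat_lit 4855) (nat_lit 4872) (Dv.wd (nat_lit 129) [Mv.b (nat_lit 13841), Mv.b (nat_lit 16154), Mv.f (nat_lit 12670)])))
(Tr.lf (Fc.ed (nat_lit 16159) (nat_lit 4304) Col.a (nat_lit 2503) (Dv.wd (nat_lit 29) [Mv.f (nat_lit 16147), Mv.b (nat_lit 16156)]))))))))
(Tr.nd (nat_lit 16170) (Tr.nd (nat_lit 16165) (Tr.nd (nat_lit 16162) (Tr.nd (nat_lit 16161) (Tr.lf (Fc.al (nat_lit 16160) (nat_lit 2951) (nat_lit 5149) (Dv.wd (nat_lit 128) [Mv.f (nat_lit 13524), Mv.b (nat_lit 16157), Mv.b (nat_lit 11335)])))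
(Tr.lf (Fc.ed (nat_lit 16161) (nat_lit 4406) Col.d (nat_lit 1627) (Dv.wd (nat_lit 120) [Mv.f (nat_lit 13527), Mv.b (nat_lit 16157)]))))
(Tr.nd (nat_lit 16163) (Tr.lf (Fc.ed (nat_lit 16162) (nat_lit 4406) Col.e (nat_lit 5262) (Dv.wd (nat_lit 117) [Mv.f (nat_lit 13557), Mv.b (nat_lit 16157)])))
(Tr.nd (nat_lit 16164) (Tr.lf (Fc.ed (nat_lit 16163) (nat_lit 4855) Col.gi (nat_lit 2951) (Dv.wd (nat_lit 128) [Mv.f (nat_lit 16160), Mv.b (nat_lit 13309), Mv.b (nat_lit 16158)])))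
(Tr.lf (Fc.ed (nat_lit 16164) (nat_lit 4855) Col.d (nat_lit 2369) (Dv.wd (nat_lit 120) [Mv.b (nat_lit 12929), Mv.b (nat_lit 16158)]))))))
(Tr.nd (nat_lit 16167) (Tr.nd (nat_lit 16166) (Tr.lf (Fc.ed (nat_lit 16165) (nat_lit 4487) Col.d (nat_lit 4363) (Dv.wd (nat_lit 36) [Mv.f (nat_lit 11190), Mv.b (nat_lit 15998), Mv.f (nat_lit 16141), Mv.b (nat_lit 16150), Mv.f (nat_lit 11475)])))
(Tr.lf (Fc.ed (nat_lit 16166) (nat_lit 5277) Col.a (nat_lit 3338) (Dv.wd (nat_lit 23) [Mv.f (nat_lit 12670), Mv.f (nat_lit 16163), Mv.f (nat_lit 16130)]))))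
(Tr.nd (nat_lit 16168) (Tr.lf (Fc.ed (nat_lit 16167) (nat_lit 2589) Col.a (nat_lit 5270) (Dv.wd (nat_lit 54) [Mv.f (nat_lit 13582), Mv.f (nat_lit 16166), Mv.f (nat_lit 8535)])))
(Tr.nd (nat_lit 16169) (Tr.lf (Fc.al (nat_lit 16168) (nat_lit 5681) (nat_lit 5549) (Dv.wd (nat_lit 72) [Mv.b (nat_lit 14180), Mv.f (nat_lit 16166), Mv.b (nat_lit 8889), Mv.f (nat_lit 14431)])))
(Tr.lf (Fc.ed (nat_lit 16169) (nat_lit 5549) Col.a (nat_lit 3516) (Dv.wd (nat_lit 29) [Mv.f (nat_lit 14431), Mv.f (nat_lit 16168)])))))))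
(Tr.nd (nat_lit 16175) (Tr.nd (nat_lit 16172) (Tr.nd (nat_lit 16171) (Tr.lf (Fc.al (nat_lit 16170) (nat_lit 5594) (nat_lit 5076) (Dv.wd (nat_lit 120) [Mv.b (nat_lit 14432), Mv.f (nat_lit 16168), Mv.f (nat_lit 14266)])))
(Tr.lf (Fc.ed (nat_lit 16171) (nat_lit 5549) Col.f (nat_lit 5642) (Dv.wd (nat_lit 30) [Mv.b (nat_lit 14433), Mv.f (nat_lit 16168)]))))
(Tr.nd (nat_lit 16173) (Tr.lf (Fc.al (nat_lit 16172) (nat_lit 6048) (nat_lit 3890) (Dv.wd (nat_lit 129) [Mv.b (nat_lit 14268), Mv.f (nat_lit 16170), Mv.b (nat_lit 15244)])))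
(Tr.nd (nat_lit 16174) (Tr.lf (Fc.ed (nat_lit 16173) (nat_lit 5076) Col.d (nat_lit 5549) (Dv.wd (nat_lit 120) [Mv.f (nat_lit 14266), Mv.f (nat_lit 16170)])))
(Tr.lf (Fc.ed (nat_lit 16174) (nat_lit 5076) Col.e (nat_lit 4994) (Dv.wd (nat_lit 117) [Mv.b (nat_lit 14267), Mv.f (nat_lit 16170)]))))))
(Tr.nd (nat_lit 16178) (Tr.nd (nat_lit 16176) (Tr.lf (Fc.ed (nat_lit 16175) (nat_lit 3890) Col.g (nat_lit 5076) (Dv.wd (nat_lit 129) [Mv.b (nat_lit 15244), Mv.f (nat_lit 16172)])))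
(Tr.nd (nat_lit 16177) (Tr.lf (Fc.ed (nat_lit 16176) (nat_lit 3890) Col.gi (nat_lit 4073) (Dv.wd (nat_lit 128) [Mv.f (nat_lit 15243), Mv.f (nat_lit 16172)])))
(Tr.lf (Fc.al (nat_lit 16177) (nat_lit 5180) (nat_lit 2503) (Dv.wd (nat_lit 72) [Mv.b (nat_lit 6946), Mv.f (nat_lit 16167), Mv.b (nat_lit 13572), Mv.f (nat_lit 13371)])))))
(Tr.nd (nat_lit 16179) (Tr.lf (Fc.al (nat_lit 16178) (nat_lit 4304) (nat_lit 3356) (Dv.wd (nat_lit 29) [Mv.f (nat_lit 13371), Mv.f (nat_lit 16177), Mv.b (nat_lit 16159)])))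
(Tr.nd (nat_lit 16180) (Tr.lf (Fc.al (nat_lit 16179) (nat_lit 2309) (nat_lit 3178) (Dv.wd (nat_lit 30) [Mv.b (nat_lit 13372), Mv.f (nat_lit 16177), Mv.f (nat_lit 6745)])))
(Tr.lf (Fc.al (nat_lit 16180) (nat_lit 4994) (nat_lit 4220) (Dv.wd (nat_lit 120) [Mv.f (nat_lit 11070), Mv.f (nat_lit 16178), Mv.f (nat_lit 12992)]))))))))))
(Tr.nd (nat_lit 16222) (Tr.nd (nat_lit 16201) (Tr.nd (nat_lit 16191) (Tr.nd (nat_lit 16186) (Tr.nd (nat_lit 16183) (Tr.nd (nat_lit 16182) (Tr.lf (Fc.al (nat_lit 16181) (nat_lit 5270) (nat_lit 4366) (Dv.wd (nat_lit 117) [Mv.b (nat_lit 11257), Mv.f (nat_lit 16178), Mv.f (nat_lit 13572)])))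
(Tr.lf (Fc.ed (nat_lit 16182) (nat_lit 2309) Col.g (nat_lit 3011) (Dv.wd (nat_lit 129) [Mv.f (nat_lit 8213), Mv.b (nat_lit 16179)]))))
(Tr.nd (nat_lit 16184) (Tr.lf (Fc.ed (nat_lit 16183) (nat_lit 2309) Col.gi (nat_lit 1481) (Dv.wd (nat_lit 128) [Mv.b (nat_lit 8214), Mv.b (nat_lit 16179)])))
(Tr.nd (nat_lit 16185) (Tr.lf (Fc.ed (nat_lit 16184) (nat_lit 4220) Col.d (nat_lit 3356) (Dv.wd (nat_lit 120) [Mv.f (nat_lit 12992), Mv.f (nat_lit 16180)])))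
(Tr.lf (Fc.ed (nat_lit 16185) (nat_lit 4220) Col.e (nat_lit 5076) (Dv.wd (nat_lit 117) [Mv.f (nat_lit 16174), Mv.f (nat_lit 16180)]))))))
(Tr.nd (nat_lit 16188) (Tr.nd (nat_lit 16187) (Tr.lf (Fc.ed (nat_lit 16186) (nat_lit 4366) Col.a (nat_lit 2589) (Dv.wd (nat_lit 29) [Mv.f (nat_lit 16167), Mv.f (nat_lit 16181)])))
(Tr.lf (Fc.al (nat_lit 16187) (nat_lit 4470) (nat_lit 5277) (Dv.wd (nat_lit 120) [Mv.b (nat_lit 13582), Mv.f (nat_lit 16181), Mv.f (nat_lit 11447)]))))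
(Tr.nd (nat_lit 16189) (Tr.lf (Fc.al (nat_lit 16188) (nat_lit 4473) (nat_lit 4506) (Dv.wd (nat_lit 128) [Mv.b (nat_lit 13583), Mv.b (nat_lit 16187), Mv.f (nat_lit 11452)])))
(Tr.nd (nat_lit 16190) (Tr.lf (Fc.ed (nat_lit 16189) (nat_lit 4470) Col.e (nat_lit 5549) (Dv.wd (nat_lit 117) [Mv.b (nat_lit 14180), Mv.b (nat_lit 16187)])))
(Tr.lf (Fc.ed (nat_lit 16190) (nat_lit 4473) Col.d (nat_lit 1481) (Dv.wd (nat_lit 120) [Mv.f (nat_lit 11509), Mv.b (nat_lit 16188)])))))))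
(Tr.nd (nat_lit 16196) (Tr.nd (nat_lit 16193) (Tr.nd (nat_lit 16192) (Tr.lf (Fc.ed (nat_lit 16191) (nat_lit 4473) Col.e (nat_lit 4985) (Dv.wd (nat_lit 117) [Mv.f (nat_lit 12927), Mv.b (nat_lit 16188)])))
(Tr.lf (Fc.ed (nat_lit 16192) (nat_lit 4366) Col.f (nat_lit 4561) (Dv.wd (nat_lit 10) [Mv.b (nat_lit 11612), Mv.b (nat_lit 16153), Mv.b (nat_lit 16186)]))))
(Tr.nd (nat_lit 16194) (Tr.lf (Fc.ed (nat_lit 16193) (nat_lit 2363) Col.a (nat_lit 4561) (Dv.wd (nat_lit 79) [Mv.b (nat_lit 16192), Mv.f (nat_lit 16186), Mv.b (nat_lit 6944)])))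
(Tr.nd (nat_lit 16195) (Tr.lf (Fc.ed (nat_lit 16194) (nat_lit 4561) Col.d (nat_lit 2951) (Dv.wd (nat_lit 28) [Mv.b (nat_lit 7727), Mv.f (nat_lit 7391), Mv.f (nat_lit 16193)])))
(Tr.lf (Fc.ed (nat_lit 16195) (nat_lit 4561) Col.e (nat_lit 4570) (Dv.wd (nat_lit 56) [Mv.b (nat_lit 16000), Mv.b (nat_lit 6439), Mv.f (nat_lit 16193)]))))))
(Tr.nd (nat_lit 16198) (Tr.nd (nat_lit 16197) (Tr.lf (Fc.al (nat_lit 16196) (nat_lit 4570) (nat_lit 4489) (Dv.wd (nat_lit 38) [Mv.b (nat_lit 11478), Mv.f (nat_lit 6453), Mv.b (nat_lit 16164), Mv.b (nat_lit 12670), Mv.f (nat_lit 8535), Mv.f (nat_lit 6946), Mv.f (nat_lit 16146), Mv.b (nat_lit 16161), Mv.b (nat_lit 11335), Mv.b (nat_lit 16194), Mv.f (nat_lit 16195)])))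
(Tr.lf (Fc.al (nat_lit 16197) (nat_lit 1962) (nat_lit 4245) (Dv.wd (nat_lit 129) [Mv.b (nat_lit 16003), Mv.f (nat_lit 16196), Mv.f (nat_lit 11479)]))))
(Tr.nd (nat_lit 16199) (Tr.lf (Fc.ed (nat_lit 16198) (nat_lit 4489) Col.d (nat_lit 3843) (Dv.wd (nat_lit 120) [Mv.b (nat_lit 16002), Mv.f (nat_lit 16196)])))
(Tr.nd (nat_lit 16200) (Tr.lf (Fc.ed (nat_lit 16199) (nat_lit 4489) Col.e (nat_lit 4561) (Dv.wd (nat_lit 117) [Mv.f (nat_lit 16195), Mv.f (nat_lit 16196)])))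
(Tr.lf (Fc.al (nat_lit 16200) (nat_lit 3835) (nat_lit 2110) (Dv.wd (nat_lit 129) [Mv.f (nat_lit 10921), Mv.b (nat_lit 16197), Mv.b (nat_lit 9493)]))))))))
(Tr.nd (nat_lit 16211) (Tr.nd (nat_lit 16206) (Tr.nd (nat_lit 16203) (Tr.nd (nat_lit 16202) (Tr.lf (Fc.ed (nat_lit 16201) (nat_lit 2110) Col.g (nat_lit 1962) (Dv.wd (nat_lit 129) [Mv.b (nat_lit 9493), Mv.f (nat_lit 16200)])))
(Tr.lf (Fc.ed (nat_lit 16202) (nat_lit 2110) Col.gi (nat_lit 2302) (Dv.wd (nat_lit 128) [Mv.f (nat_lit 9492), Mv.f (nat_lit 16200)]))))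
(Tr.nd (nat_lit 16204) (Tr.lf (Fc.al (nat_lit 16203) (nat_lit 2775) (nat_lit 2269) (Dv.wd (nat_lit 43) [Mv.b (nat_lit 6221), Mv.f (nat_lit 16202), Mv.f (nat_lit 6453), Mv.b (nat_lit 16164), Mv.f (nat_lit 16163), Mv.b (nat_lit 16194), Mv.b (nat_lit 16199), Mv.f (nat_lit 11479), Mv.b (nat_lit 5501), Mv.b (nat_lit 4625), Mv.f (nat_lit 7347)])))
(Tr.nd (nat_lit 16205) (Tr.lf (Fc.al (nat_lit 16204) (nat_lit 5560) (nat_lit 1381) (Dv.wd (nat_lit 129) [Mv.b (nat_lit 7348), Mv.f (nat_lit 16203), Mv.f (nat_lit 14199)])))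
(Tr.lf (Fc.al (nat_lit 16205) (nat_lit 2722) (nat_lit 5899) (Dv.wd (nat_lit 117) [Mv.b (nat_lit 14924), Mv.f (nat_lit 16203), Mv.f (nat_lit 7233)]))))))
(Tr.nd (nat_lit 16208) (Tr.nd (nat_lit 16207) (Tr.lf (Fc.ed (nat_lit 16206) (nat_lit 1381) Col.g (nat_lit 2269) (Dv.wd (nat_lit 129) [Mv.f (nat_lit 14199), Mv.f (nat_lit 16204)])))
(Tr.lf (Fc.al (nat_lit 16207) (nat_lit 2521) (nat_lit 3843) (Dv.wd (nat_lit 129) [Mv.b (nat_lit 14200), Mv.f (nat_lit 16204), Mv.f (nat_lit 6787)]))))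
(Tr.nd (nat_lit 16209) (Tr.lf (Fc.ed (nat_lit 16208) (nat_lit 2722) Col.d (nat_lit 6160) (Dv.wd (nat_lit 120) [Mv.b (nat_lit 15448), Mv.b (nat_lit 16205)])))
(Tr.nd (nat_lit 16210) (Tr.lf (Fc.ed (nat_lit 16209) (nat_lit 2521) Col.d (nat_lit 4489) (Dv.wd (nat_lit 120) [Mv.f (nat_lit 16198), Mv.b (nat_lit 16207)])))
(Tr.lf (Fc.al (nat_lit 16210) (nat_lit 5674) (nat_lit 4069) (Dv.wd (nat_lit 117) [Mv.f (nat_lit 9930), Mv.b (nat_lit 16207), Mv.f (nat_lit 14421)])))))))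
(Tr.nd (nat_lit 16216) (Tr.nd (nat_lit 16213) (Tr.nd (nat_lit 16212) (Tr.lf (Fc.ed (nat_lit 16211) (nat_lit 4069) Col.e (nat_lit 2521) (Dv.wd (nat_lit 117) [Mv.f (nat_lit 14421), Mv.f (nat_lit 16210)])))
(Tr.lf (Fc.ed (nat_lit 16212) (nat_lit 4130) Col.g (nat_lit 4139) (Dv.wd (nat_lit 63) [Mv.f (nat_lit 10703), Mv.f (nat_lit 16211), Mv.b (nat_lit 6787), Mv.f (nat_lit 4197), Mv.b (nat_lit 1881), Mv.f (nat_lit 1529), Mv.b (nat_lit 2080), Mv.f (nat_lit 4477), Mv.f (nat_lit 6868), Mv.f (nat_lit 10630)]))))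
(Tr.nd (nat_lit 16214) (Tr.lf (Fc.ed (nat_lit 16213) (nat_lit 6160) Col.a (nat_lit 4487) (Dv.wd (nat_lit 8) [Mv.f (nat_lit 16165), Mv.b (nat_lit 11189), Mv.f (nat_lit 16208)])))
(Tr.nd (nat_lit 16215) (Tr.lf (Fc.ed (nat_lit 16214) (nat_lit 6160) Col.e (nat_lit 2544) (Dv.wd (nat_lit 42) [Mv.f (nat_lit 6847), Mv.b (nat_lit 6315), Mv.f (nat_lit 6221), Mv.f (nat_lit 7233), Mv.f (nat_lit 16208)])))
(Tr.lf (Fc.ed (nat_lit 16215) (nat_lit 6376) Col.e (nat_lit 6382) (Dv.wd (nat_lit 70) [Mv.b (nat_lit 15936), Mv.f (nat_lit 16214), Mv.f (nat_lit 6847), Mv.f (nat_lit 16182), Mv.f (nat_lit 13129), Mv.b (nat_lit 13131), Mv.f (nat_lit 8326), Mv.b (nat_lit 8256), Mv.f (nat_lit 9137), Mv.b (nat_lit 15926)]))))))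
(Tr.nd (nat_lit 16219) (Tr.nd (nat_lit 16217) (Tr.lf (Fc.ed (nat_lit 16216) (nat_lit 3617) Col.e (nat_lit 6248) (Dv.wd (nat_lit 74) [Mv.b (nat_lit 15620), Mv.f (nat_lit 16214), Mv.f (nat_lit 6847), Mv.f (nat_lit 16183), Mv.b (nat_lit 16190), Mv.b (nat_lit 11452), Mv.f (nat_lit 16189), Mv.b (nat_lit 16173), Mv.b (nat_lit 16175), Mv.b (nat_lit 9578)])))
(Tr.nd (nat_lit 16218) (Tr.lf (Fc.ed (nat_lit 16217) (nat_lit 6321) Col.e (nat_lit 6196) (Dv.wd (nat_lit 42) [Mv.f (nat_lit 15515), Mv.b (nat_lit 10162), Mv.b (nat_lit 9578), Mv.f (nat_lit 16216), Mv.f (nat_lit 15820)])))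
(Tr.lf (Fc.ed (nat_lit 16218) (nat_lit 6382) Col.f (nat_lit 5853) (Dv.wd (nat_lit 96) [Mv.b (nat_lit 14821), Mv.f (nat_lit 9249), Mv.f (nat_lit 13146), Mv.f (nat_lit 15925), Mv.f (nat_lit 16215)])))))
(Tr.nd (nat_lit 16220) (Tr.lf (Fc.ed (nat_lit 16219) (nat_lit 5853) Col.a (nat_lit 6248) (Dv.wd (nat_lit 23) [Mv.b (nat_lit 15620), Mv.f (nat_lit 15936), Mv.f (nat_lit 16218)])))
(Tr.nd (nat_lit 16221) (Tr.lf (Fc.al (nat_lit 16220) (nat_lit 5461) (nat_lit 3375) (Dv.wd (nat_lit 72) [Mv.f (nat_lit 14821), Mv.f (nat_lit 16219), Mv.b (nat_lit 16216), Mv.b (nat_lit 14023)])))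
(Tr.lf (Fc.al (nat_lit 16221) (nat_lit 5008) (nat_lit 3617) (Dv.wd (nat_lit 29) [Mv.b (nat_lit 14023), Mv.f (nat_lit 16220), Mv.b (nat_lit 13020)])))))))))
(Tr.nd (nat_lit 16242) (Tr.nd (nat_lit 16232) (Tr.nd (nat_lit 16227) (Tr.nd (nat_lit 16224) (Tr.nd (nat_lit 16223) (Tr.lf (Fc.al (nat_lit 16222) (nat_lit 3703) (nat_lit 3986) (Dv.wd (nat_lit 30) [Mv.f (nat_lit 14022), Mv.f (nat_lit 16220), Mv.f (nat_lit 9249)])))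
(Tr.lf (Fc.al (nat_lit 16223) (nat_lit 2628) (nat_lit 6121) (Dv.wd (nat_lit 128) [Mv.f (nat_lit 15381), Mv.f (nat_lit 16221), Mv.b (nat_lit 9080)]))))
(Tr.nd (nat_lit 16225) (Tr.lf (Fc.ed (nat_lit 16224) (nat_lit 3617) Col.a (nat_lit 3375) (Dv.wd (nat_lit 29) [Mv.b (nat_lit 13020), Mv.f (nat_lit 16221)])))
(Tr.nd (nat_lit 16226) (Tr.lf (Fc.al (nat_lit 16225) (nat_lit 3890) (nat_lit 5678) (Dv.wd (nat_lit 120) [Mv.f (nat_lit 14427), Mv.f (nat_lit 16221), Mv.f (nat_lit 9578)])))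
(Tr.lf (Fc.al (nat_lit 16226) (nat_lit 4252) (nat_lit 3025) (Dv.wd (nat_lit 30) [Mv.f (nat_lit 13019), Mv.f (nat_lit 16221), Mv.b (nat_lit 10938)]))))))
(Tr.nd (nat_lit 16229) (Tr.nd (nat_lit 16228) (Tr.lf (Fc.al (nat_lit 16227) (nat_lit 5068) (nat_lit 4559) (Dv.wd (nat_lit 117) [Mv.b (nat_lit 11608), Mv.b (nat_lit 16222), Mv.f (nat_lit 13146)])))
(Tr.lf (Fc.ed (nat_lit 16228) (nat_lit 2628) Col.g (nat_lit 3703) (Dv.wd (nat_lit 129) [Mv.f (nat_lit 15380), Mv.b (nat_lit 16223)]))))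
(Tr.nd (nat_lit 16230) (Tr.lf (Fc.al (nat_lit 16229) (nat_lit 3370) (nat_lit 5620) (Dv.wd (nat_lit 117) [Mv.f (nat_lit 14428), Mv.b (nat_lit 16225), Mv.f (nat_lit 10162)])))
(Tr.nd (nat_lit 16231) (Tr.lf (Fc.al (nat_lit 16230) (nat_lit 6155) (nat_lit 5407) (Dv.wd (nat_lit 30) [Mv.f (nat_lit 14425), Mv.b (nat_lit 16225), Mv.b (nat_lit 15440)])))
(Tr.lf (Fc.al (nat_lit 16231) (nat_lit 4931) (nat_lit 5743) (Dv.wd (nat_lit 119) [Mv.b (nat_lit 14593), Mv.f (nat_lit 16226), Mv.b (nat_lit 12820)])))))))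
(Tr.nd (nat_lit 16237) (Tr.nd (nat_lit 16234) (Tr.nd (nat_lit 16233) (Tr.lf (Fc.al (nat_lit 16232) (nat_lit 4312) (nat_lit 6301) (Dv.wd (nat_lit 117) [Mv.f (nat_lit 15781), Mv.f (nat_lit 16226), Mv.f (nat_lit 11085)])))
(Tr.lf (Fc.al (nat_lit 16233) (nat_lit 4544) (nat_lit 4374) (Dv.wd (nat_lit 120) [Mv.f (nat_lit 13148), Mv.f (nat_lit 16227), Mv.f (nat_lit 11609)]))))
(Tr.nd (nat_lit 16235) (Tr.lf (Fc.ed (nat_lit 16234) (nat_lit 4559) Col.e (nat_lit 3703) (Dv.wd (nat_lit 117) [Mv.f (nat_lit 13146), Mv.f (nat_lit 16227)])))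
(Tr.nd (nat_lit 16236) (Tr.lf (Fc.ed (nat_lit 16235) (nat_lit 4559) Col.f (nat_lit 6376) (Dv.wd (nat_lit 30) [Mv.b (nat_lit 15925), Mv.f (nat_lit 16227)])))
(Tr.lf (Fc.al (nat_lit 16236) (nat_lit 4769) (nat_lit 3561) (Dv.wd (nat_lit 29) [Mv.f (nat_lit 14319), Mv.b (nat_lit 16229), Mv.b (nat_lit 12498)]))))))
(Tr.nd (nat_lit 16239) (Tr.nd (nat_lit 16238) (Tr.lf (Fc.ed (nat_lit 16237) (nat_lit 3370) Col.f (nat_lit 3059) (Dv.wd (nat_lit 30) [Mv.b (nat_lit 14320), Mv.b (nat_lit 16229)])))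
(Tr.lf (Fc.al (nat_lit 16238) (nat_lit 6167) (nat_lit 6327) (Dv.wd (nat_lit 119) [Mv.f (nat_lit 15832), Mv.f (nat_lit 16230), Mv.b (nat_lit 15463)]))))
(Tr.nd (nat_lit 16240) (Tr.lf (Fc.ed (nat_lit 16239) (nat_lit 5407) Col.f (nat_lit 3890) (Dv.wd (nat_lit 30) [Mv.b (nat_lit 15440), Mv.f (nat_lit 16230)])))
(Tr.nd (nat_lit 16241) (Tr.lf (Fc.al (nat_lit 16240) (nat_lit 4387) (nat_lit 6069) (Dv.wd (nat_lit 103) [Mv.b (nat_lit 15282), Mv.b (nat_lit 16231), Mv.b (nat_lit 12819)])))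
(Tr.lf (Fc.ed (nat_lit 16241) (nat_lit 4931) Col.f (nat_lit 4308) (Dv.wd (nat_lit 30) [Mv.b (nat_lit 14594), Mv.b (nat_lit 16231)]))))))))
(Tr.nd (nat_lit 16252) (Tr.nd (nat_lit 16247) (Tr.nd (nat_lit 16244) (Tr.nd (nat_lit 16243) (Tr.lf (Fc.ed (nat_lit 16242) (nat_lit 4312) Col.a (nat_lit 4559) (Dv.wd (nat_lit 29) [Mv.f (nat_lit 15779), Mv.b (nat_lit 16232)])))
(Tr.lf (Fc.al (nat_lit 16243) (nat_lit 4179) (nat_lit 5652) (Dv.wd (nat_lit 120) [Mv.b (nat_lit 15780), Mv.b (nat_lit 16232), Mv.f (nat_lit 11086)]))))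
(Tr.nd (nat_lit 16245) (Tr.lf (Fc.al (nat_lit 16244) (nat_lit 5849) (nat_lit 1504) (Dv.wd (nat_lit 128) [Mv.b (nat_lit 11579), Mv.f (nat_lit 16233), Mv.f (nat_lit 14809)])))
(Tr.nd (nat_lit 16246) (Tr.lf (Fc.ed (nat_lit 16245) (nat_lit 4374) Col.gi (nat_lit 3166) (Dv.wd (nat_lit 128) [Mv.f (nat_lit 11578), Mv.f (nat_lit 16233)])))
(Tr.lf (Fc.ed (nat_lit 16246) (nat_lit 4374) Col.d (nat_lit 4559) (Dv.wd (nat_lit 120) [Mv.f (nat_lit 11609), Mv.f (nat_lit 16233)]))))))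
(Tr.nd (nat_lit 16249) (Tr.nd (nat_lit 16248) (Tr.lf (Fc.ed (nat_lit 16247) (nat_lit 3561) Col.d (nat_lit 6008) (Dv.wd (nat_lit 120) [Mv.b (nat_lit 15174), Mv.f (nat_lit 16236)])))
(Tr.lf (Fc.al (nat_lit 16248) (nat_lit 5494) (nat_lit 3895) (Dv.wd (nat_lit 30) [Mv.f (nat_lit 12497), Mv.f (nat_lit 16236), Mv.f (nat_lit 14079)]))))
(Tr.nd (nat_lit 16250) (Tr.lf (Fc.ed (nat_lit 16249) (nat_lit 6167) Col.f (nat_lit 5997) (Dv.wd (nat_lit 30) [Mv.b (nat_lit 15833), Mv.b (nat_lit 16238)])))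
(Tr.nd (nat_lit 16251) (Tr.lf (Fc.al (nat_lit 16250) (nat_lit 5177) (nat_lit 5646) (Dv.wd (nat_lit 29) [Mv.f (nat_lit 15280), Mv.b (nat_lit 16240), Mv.b (nat_lit 13365)])))
(Tr.lf (Fc.al (nat_lit 16251) (nat_lit 5902) (nat_lit 3389) (Dv.wd (nat_lit 30) [Mv.f (nat_lit 14384), Mv.b (nat_lit 16243), Mv.b (nat_lit 14929)])))))))
(Tr.nd (nat_lit 16257) (Tr.nd (nat_lit 16254) (Tr.nd (nat_lit 16253) (Tr.lf (Fc.ed (nat_lit 16252) (nat_lit 1504) Col.gi (nat_lit 4374) (Dv.wd (nat_lit 128) [Mv.f (nat_lit 14809), Mv.f (nat_lit 16244)])))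
(Tr.lf (Fc.ed (nat_lit 16253) (nat_lit 3895) Col.a (nat_lit 3059) (Dv.wd (nat_lit 29) [Mv.b (nat_lit 14080), Mv.f (nat_lit 16248)]))))
(Tr.nd (nat_lit 16255) (Tr.lf (Fc.ed (nat_lit 16254) (nat_lit 3895) Col.f (nat_lit 3561) (Dv.wd (nat_lit 30) [Mv.f (nat_lit 14079), Mv.f (nat_lit 16248)])))
(Tr.nd (nat_lit 16256) (Tr.lf (Fc.al (nat_lit 16255) (nat_lit 6103) (nat_lit 3741) (Dv.wd (nat_lit 128) [Mv.b (nat_lit 14373), Mv.b (nat_lit 16250), Mv.b (nat_lit 15347)])))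
(Tr.lf (Fc.ed (nat_lit 16256) (nat_lit 5177) Col.gi (nat_lit 1636) (Dv.wd (nat_lit 128) [Mv.f (nat_lit 14372), Mv.b (nat_lit 16250)]))))))
(Tr.nd (nat_lit 16260) (Tr.nd (nat_lit 16258) (Tr.lf (Fc.al (nat_lit 16257) (nat_lit 3812) (nat_lit 5805) (Dv.wd (nat_lit 30) [Mv.b (nat_lit 14741), Mv.b (nat_lit 16250), Mv.b (nat_lit 13364)])))
(Tr.nd (nat_lit 16259) (Tr.lf (Fc.ed (nat_lit 16258) (nat_lit 3389) Col.a (nat_lit 3646) (Dv.wd (nat_lit 29) [Mv.f (nat_lit 14928), Mv.f (nat_lit 16251)])))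
(Tr.lf (Fc.ed (nat_lit 16259) (nat_lit 3389) Col.f (nat_lit 4179) (Dv.wd (nat_lit 30) [Mv.b (nat_lit 14929), Mv.f (nat_lit 16251)])))))
(Tr.nd (nat_lit 16261) (Tr.lf (Fc.ed (nat_lit 16260) (nat_lit 3741) Col.gi (nat_lit 5177) (Dv.wd (nat_lit 128) [Mv.b (nat_lit 15347), Mv.f (nat_lit 16255)])))
(Tr.nd (nat_lit 16262) (Tr.lf (Fc.ed (nat_lit 16261) (nat_lit 3812) Col.a (nat_lit 3896) (Dv.wd (nat_lit 29) [Mv.b (nat_lit 14742), Mv.b (nat_lit 16257)])))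
(Tr.lf (Fc.ed (nat_lit 16262) (nat_lit 6070) Col.a (nat_lit 6099) (Dv.wd (nat_lit 31) [Mv.b (nat_lit 15340), Mv.f (nat_lit 16253), Mv.b (nat_lit 15284)])))))))))))
(Tr.nd (nat_lit 16345) (Tr.nd (nat_lit 16304) (Tr.nd (nat_lit 16283) (Tr.nd (nat_lit 16273) (Tr.nd (nat_lit 16268) (Tr.nd (nat_lit 16265) (Tr.nd (nat_lit 16264) (Tr.lf (Fc.ed (nat_lit 16263) (nat_lit 5076) Col.g (nat_lit 5367) (Dv.wd (nat_lit 9) [Mv.f (nat_lit 13873), Mv.f (nat_lit 16239), Mv.f (nat_lit 16175)])))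
(Tr.lf (Fc.ed (nat_lit 16264) (nat_lit 5053) Col.f (nat_lit 5288) (Dv.wd (nat_lit 20) [Mv.f (nat_lit 13605), Mv.f (nat_lit 16237), Mv.b (nat_lit 13117)]))))
(Tr.nd (nat_lit 16266) (Tr.lf (Fc.ed (nat_lit 16265) (nat_lit 5264) Col.f (nat_lit 4726) (Dv.wd (nat_lit 26) [Mv.f (nat_lit 13116), Mv.f (nat_lit 16264), Mv.b (nat_lit 13604)])))
(Tr.nd (nat_lit 16267) (Tr.lf (Fc.ed (nat_lit 16266) (nat_lit 4726) Col.a (nat_lit 4896) (Dv.wd (nat_lit 23) [Mv.f (nat_lit 12750), Mv.f (nat_lit 13561), Mv.f (nat_lit 16265)])))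
(Tr.lf (Fc.ed (nat_lit 16267) (nat_lit 4917) Col.a (nat_lit 5264) (Dv.wd (nat_lit 114) [Mv.f (nat_lit 16265), Mv.b (nat_lit 11921), Mv.b (nat_lit 12790)]))))))
(Tr.nd (nat_lit 16270) (Tr.nd (nat_lit 16269) (Tr.lf (Fc.ed (nat_lit 16268) (nat_lit 4917) Col.f (nat_lit 4896) (Dv.wd (nat_lit 35) [Mv.b (nat_lit 16266), Mv.b (nat_lit 16265), Mv.b (nat_lit 16267)])))
(Tr.lf (Fc.ed (nat_lit 16269) (nat_lit 4888) Col.g (nat_lit 6382) (Dv.wd (nat_lit 17) [Mv.b (nat_lit 15936), Mv.f (nat_lit 16213), Mv.f (nat_lit 12733)]))))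
(Tr.nd (nat_lit 16271) (Tr.lf (Fc.al (nat_lit 16270) (nat_lit 2636) (nat_lit 5627) (Dv.wd (nat_lit 56) [Mv.f (nat_lit 14334), Mv.b (nat_lit 16155), Mv.f (nat_lit 16185), Mv.f (nat_lit 13163)])))
(Tr.nd (nat_lit 16272) (Tr.lf (Fc.al (nat_lit 16271) (nat_lit 5095) (nat_lit 5407) (Dv.wd (nat_lit 128) [Mv.f (nat_lit 14332), Mv.b (nat_lit 16270), Mv.b (nat_lit 13200)])))
(Tr.lf (Fc.ed (nat_lit 16272) (nat_lit 2636) Col.gi (nat_lit 3916) (Dv.wd (nat_lit 128) [Mv.b (nat_lit 14333), Mv.b (nat_lit 16270)])))))))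
(Tr.nd (nat_lit 16278) (Tr.nd (nat_lit 16275) (Tr.nd (nat_lit 16274) (Tr.lf (Fc.ed (nat_lit 16273) (nat_lit 2636) Col.e (nat_lit 3955) (Dv.wd (nat_lit 117) [Mv.b (nat_lit 14334), Mv.b (nat_lit 16270)])))
(Tr.lf (Fc.ed (nat_lit 16274) (nat_lit 5095) Col.d (nat_lit 3025) (Dv.wd (nat_lit 120) [Mv.b (nat_lit 13874), Mv.b (nat_lit 16271)]))))
(Tr.nd (nat_lit 16276) (Tr.lf (Fc.ed (nat_lit 16275) (nat_lit 4972) Col.e (nat_lit 4888) (Dv.wd (nat_lit 140) [Mv.b (nat_lit 12733), Mv.b (nat_lit 11475), Mv.f (nat_lit 10878), Mv.f (nat_lit 16185), Mv.b (nat_lit 13162)])))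
(Tr.nd (nat_lit 16277) (Tr.lf (Fc.ed (nat_lit 16276) (nat_lit 4888) Col.a (nat_lit 3190) (Dv.wd (nat_lit 15) [Mv.b (nat_lit 9936), Mv.f (nat_lit 12899), Mv.f (nat_lit 16275)])))
(Tr.lf (Fc.al (nat_lit 16277) (nat_lit 4004) (nat_lit 5865) (Dv.wd (nat_lit 55) [Mv.b (nat_lit 14857), Mv.f (nat_lit 14363), Mv.f (nat_lit 16275), Mv.f (nat_lit 16269), Mv.b (nat_lit 16215), Mv.f (nat_lit 15926), Mv.f (nat_lit 9138), Mv.f (nat_lit 6019), Mv.b (nat_lit 5595), Mv.f (nat_lit 8557), Mv.f (nat_lit 9812)]))))))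
(Tr.nd (nat_lit 16280) (Tr.nd (nat_lit 16279) (Tr.lf (Fc.ed (nat_lit 16278) (nat_lit 4004) Col.g (nat_lit 5642) (Dv.wd (nat_lit 129) [Mv.f (nat_lit 14857), Mv.b (nat_lit 16277)])))
(Tr.lf (Fc.ed (nat_lit 16279) (nat_lit 4004) Col.gi (nat_lit 3516) (Dv.wd (nat_lit 128) [Mv.b (nat_lit 14858), Mv.b (nat_lit 16277)]))))
(Tr.nd (nat_lit 16281) (Tr.lf (Fc.ed (nat_lit 16280) (nat_lit 3516) Col.c (nat_lit 6306) (Dv.wd (nat_lit 14) [Mv.b (nat_lit 15788), Mv.b (nat_lit 15484), Mv.b (nat_lit 15483), Mv.b (nat_lit 14412), Mv.b (nat_lit 8404), Mv.f (nat_lit 7022), Mv.b (nat_lit 8558), Mv.f (nat_lit 9812), Mv.f (nat_lit 16279)])))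
(Tr.nd (nat_lit 16282) (Tr.lf (Fc.al (nat_lit 16281) (nat_lit 5705) (nat_lit 5811) (Dv.wd (nat_lit 114) [Mv.b (nat_lit 15478), Mv.f (nat_lit 15479), Mv.f (nat_lit 16278), Mv.f (nat_lit 14470)])))
(Tr.lf (Fc.ed (nat_lit 16282) (nat_lit 5705) Col.a (nat_lit 6176) (Dv.wd (nat_lit 29) [Mv.f (nat_lit 15478), Mv.b (nat_lit 16281)]))))))))
(Tr.nd (nat_lit 16293) (Tr.nd (nat_lit 16288) (Tr.nd (nat_lit 16285) (Tr.nd (nat_lit 16284) (Tr.lf (Fc.ed (nat_lit 16283) (nat_lit 5705) Col.d (nat_lit 3932) (Dv.wd (nat_lit 120) [Mv.f (nat_lit 14754), Mv.b (nat_lit 16281)])))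
(Tr.lf (Fc.ed (nat_lit 16284) (nat_lit 5869) Col.g (nat_lit 4530) (Dv.wd (nat_lit 63) [Mv.f (nat_lit 13061), Mv.b (nat_lit 14364), Mv.f (nat_lit 14470), Mv.f (nat_lit 16283), Mv.b (nat_lit 9694), Mv.b (nat_lit 6521), Mv.f (nat_lit 6522), Mv.b (nat_lit 7965), Mv.b (nat_lit 15284), Mv.b (nat_lit 15283)]))))
(Tr.nd (nat_lit 16286) (Tr.lf (Fc.ed (nat_lit 16285) (nat_lit 5697) Col.e (nat_lit 5869) (Dv.wd (nat_lit 131) [Mv.f (nat_lit 16284), Mv.f (nat_lit 13061), Mv.b (nat_lit 16138), Mv.b (nat_lit 12424), Mv.b (nat_lit 8483), Mv.f (nat_lit 12431), Mv.f (nat_lit 4402), Mv.f (nat_lit 4403), Mv.f (nat_lit 7684), Mv.b (nat_lit 14456)])))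
(Tr.nd (nat_lit 16287) (Tr.lf (Fc.ed (nat_lit 16286) (nat_lit 3059) Col.d (nat_lit 4310) (Dv.wd (nat_lit 36) [Mv.b (nat_lit 11082), Mv.b (nat_lit 14456), Mv.f (nat_lit 16285), Mv.f (nat_lit 15283), Mv.f (nat_lit 15284)])))
(Tr.lf (Fc.al (nat_lit 16287) (nat_lit 5208) (nat_lit 4197) (Dv.wd (nat_lit 28) [Mv.b (nat_lit 10832), Mv.f (nat_lit 16253), Mv.f (nat_lit 16286), Mv.b (nat_lit 13445)]))))))
(Tr.nd (nat_lit 16290) (Tr.nd (nat_lit 16289) (Tr.lf (Fc.al (nat_lit 16288) (nat_lit 6008) (nat_lit 6116) (Dv.wd (nat_lit 30) [Mv.f (nat_lit 15373), Mv.f (nat_lit 16287), Mv.b (nat_lit 15175)])))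
(Tr.lf (Fc.al (nat_lit 16289) (nat_lit 6196) (nat_lit 5886) (Dv.wd (nat_lit 29) [Mv.f (nat_lit 15372), Mv.b (nat_lit 16288), Mv.f (nat_lit 15514)]))))
(Tr.nd (nat_lit 16291) (Tr.lf (Fc.ed (nat_lit 16290) (nat_lit 5886) Col.a (nat_lit 6008) (Dv.wd (nat_lit 29) [Mv.f (nat_lit 15514), Mv.f (nat_lit 16289)])))
(Tr.nd (nat_lit 16292) (Tr.lf (Fc.ed (nat_lit 16291) (nat_lit 5886) Col.d (nat_lit 3370) (Dv.wd (nat_lit 120) [Mv.b (nat_lit 15515), Mv.f (nat_lit 16289)])))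
(Tr.lf (Fc.ed (nat_lit 16292) (nat_lit 5886) Col.e (nat_lit 6321) (Dv.wd (nat_lit 117) [Mv.f (nat_lit 16217), Mv.f (nat_lit 16289)])))))))
(Tr.nd (nat_lit 16298) (Tr.nd (nat_lit 16295) (Tr.nd (nat_lit 16294) (Tr.lf (Fc.ed (nat_lit 16293) (nat_lit 6171) Col.d (nat_lit 6368) (Dv.wd (nat_lit 43) [Mv.f (nat_lit 15911), Mv.f (nat_lit 16292), Mv.b (nat_lit 15820), Mv.b (nat_lit 15620), Mv.b (nat_lit 16208), Mv.b (nat_lit 7233), Mv.b (nat_lit 16206), Mv.f (nat_lit 10829), Mv.f (nat_lit 12925), Mv.f (nat_lit 15469)])))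
(Tr.lf (Fc.ed (nat_lit 16294) (nat_lit 3190) Col.f (nat_lit 6160) (Dv.wd (nat_lit 35) [Mv.f (nat_lit 16213), Mv.f (nat_lit 12733), Mv.f (nat_lit 16276)]))))
(Tr.nd (nat_lit 16296) (Tr.lf (Fc.al (nat_lit 16295) (nat_lit 6248) (nat_lit 5381) (Dv.wd (nat_lit 9) [Mv.b (nat_lit 13826), Mv.f (nat_lit 16276), Mv.f (nat_lit 16294), Mv.f (nat_lit 15620)])))
(Tr.nd (nat_lit 16297) (Tr.lf (Fc.ed (nat_lit 16296) (nat_lit 5381) Col.d (nat_lit 6321) (Dv.wd (nat_lit 120) [Mv.b (nat_lit 15820), Mv.f (nat_lit 16295)])))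
(Tr.lf (Fc.ed (nat_lit 16297) (nat_lit 5381) Col.e (nat_lit 3617) (Dv.wd (nat_lit 117) [Mv.f (nat_lit 16216), Mv.f (nat_lit 16295)]))))))
(Tr.nd (nat_lit 16301) (Tr.nd (nat_lit 16299) (Tr.lf (Fc.ed (nat_lit 16298) (nat_lit 3621) Col.gi (nat_lit 4797) (Dv.wd (nat_lit 163) [Mv.b (nat_lit 12554), Mv.b (nat_lit 16283), Mv.b (nat_lit 14470), Mv.f (nat_lit 14363), Mv.f (nat_lit 16275), Mv.f (nat_lit 13826), Mv.f (nat_lit 16297), Mv.f (nat_lit 9578), Mv.f (nat_lit 16176), Mv.f (nat_lit 9935)])))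
(Tr.nd (nat_lit 16300) (Tr.lf (Fc.ed (nat_lit 16299) (nat_lit 4797) Col.gi (nat_lit 5549) (Dv.wd (nat_lit 24) [Mv.f (nat_lit 16171), Mv.b (nat_lit 14362), Mv.f (nat_lit 16298)])))
(Tr.lf (Fc.ed (nat_lit 16300) (nat_lit 5549) Col.c (nat_lit 6304) (Dv.wd (nat_lit 14) [Mv.b (nat_lit 15785), Mv.f (nat_lit 15632), Mv.f (nat_lit 15633), Mv.b (nat_lit 14146), Mv.b (nat_lit 6541), Mv.b (nat_lit 4720), Mv.f (nat_lit 12482), Mv.b (nat_lit 12555), Mv.f (nat_lit 16299)])))))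
(Tr.nd (nat_lit 16302) (Tr.lf (Fc.ed (nat_lit 16301) (nat_lit 6304) Col.a (nat_lit 6306) (Dv.wd (nat_lit 19) [Mv.b (nat_lit 16280), Mv.b (nat_lit 16169), Mv.f (nat_lit 16300)])))
(Tr.nd (nat_lit 16303) (Tr.lf (Fc.ed (nat_lit 16302) (nat_lit 5612) Col.g (nat_lit 5549) (Dv.wd (nat_lit 139) [Mv.f (nat_lit 16300), Mv.b (nat_lit 15785), Mv.b (nat_lit 15517), Mv.f (nat_lit 15211), Mv.b (nat_lit 14542), Mv.b (nat_lit 14226), Mv.f (nat_lit 9144), Mv.f (nat_lit 8873), Mv.f (nat_lit 14303)])))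
(Tr.lf (Fc.ed (nat_lit 16303) (nat_lit 3621) Col.g (nat_lit 5612) (Dv.wd (nat_lit 17) [Mv.f (nat_lit 16302), Mv.f (nat_lit 16169), Mv.b (nat_lit 9089)])))))))))
(Tr.nd (nat_lit 16324) (Tr.nd (nat_lit 16314) (Tr.nd (nat_lit 16309) (Tr.nd (nat_lit 16306) (Tr.nd (nat_lit 16305) (Tr.lf (Fc.ed (nat_lit 16304) (nat_lit 4728) Col.g (nat_lit 4638) (Dv.wd (nat_lit 123) [Mv.f (nat_lit 11756), Mv.b (nat_lit 5327), Mv.b (nat_lit 2905), Mv.f (nat_lit 1846), Mv.b (nat_lit 2776), Mv.b (nat_lit 3229), Mv.b (nat_lit 6316), Mv.f (nat_lit 16182), Mv.f (nat_lit 8283), Mv.f (nat_lit 11923)])))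
(Tr.lf (Fc.ed (nat_lit 16305) (nat_lit 4638) Col.g (nat_lit 6295) (Dv.wd (nat_lit 9) [Mv.f (nat_lit 15767), Mv.b (nat_lit 11924), Mv.f (nat_lit 16304)]))))
(Tr.nd (nat_lit 16307) (Tr.lf (Fc.ed (nat_lit 16306) (nat_lit 6295) Col.g (nat_lit 5417) (Dv.wd (nat_lit 9) [Mv.b (nat_lit 13895), Mv.f (nat_lit 11755), Mv.f (nat_lit 16305)])))
(Tr.nd (nat_lit 16308) (Tr.lf (Fc.ed (nat_lit 16307) (nat_lit 5584) Col.g (nat_lit 3002) (Dv.wd (nat_lit 118) [Mv.f (nat_lit 7834), Mv.b (nat_lit 7725), Mv.f (nat_lit 3900), Mv.b (nat_lit 3344), Mv.b (nat_lit 2906), Mv.f (nat_lit 5327), Mv.b (nat_lit 11756), Mv.f (nat_lit 16305), Mv.b (nat_lit 15766), Mv.b (nat_lit 14251)])))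
(Tr.lf (Fc.al (nat_lit 16308) (nat_lit 5927) (nat_lit 5360) (Dv.wd (nat_lit 124) [Mv.b (nat_lit 13780), Mv.b (nat_lit 6297), Mv.b (nat_lit 3378), Mv.b (nat_lit 1058), Mv.b (nat_lit 2390), Mv.f (nat_lit 3592), Mv.b (nat_lit 6945), Mv.f (nat_lit 16152), Mv.b (nat_lit 11430), Mv.f (nat_lit 13263), Mv.f (nat_lit 14993)]))))))
(Tr.nd (nat_lit 16311) (Tr.nd (nat_lit 16310) (Tr.lf (Fc.ed (nat_lit 16309) (nat_lit 5360) Col.g (nat_lit 3887) (Dv.wd (nat_lit 129) [Mv.b (nat_lit 14994), Mv.f (nat_lit 16308)])))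
(Tr.lf (Fc.al (nat_lit 16310) (nat_lit 5796) (nat_lit 3995) (Dv.wd (nat_lit 130) [Mv.b (nat_lit 9793), Mv.b (nat_lit 9509), Mv.b (nat_lit 7392), Mv.b (nat_lit 4545), Mv.b (nat_lit 3379), Mv.f (nat_lit 6297), Mv.f (nat_lit 13780), Mv.f (nat_lit 16309), Mv.b (nat_lit 9572), Mv.b (nat_lit 12137), Mv.f (nat_lit 14722)]))))
(Tr.nd (nat_lit 16312) (Tr.lf (Fc.ed (nat_lit 16311) (nat_lit 3995) Col.g (nat_lit 5310) (Dv.wd (nat_lit 129) [Mv.b (nat_lit 14723), Mv.f (nat_lit 16310)])))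
(Tr.nd (nat_lit 16313) (Tr.lf (Fc.ed (nat_lit 16312) (nat_lit 3995) Col.gi (nat_lit 3104) (Dv.wd (nat_lit 128) [Mv.f (nat_lit 14722), Mv.f (nat_lit 16310)])))
(Tr.lf (Fc.ed (nat_lit 16313) (nat_lit 3995) Col.a (nat_lit 6286) (Dv.wd (nat_lit 29) [Mv.f (nat_lit 15752), Mv.f (nat_lit 16310)])))))))
(Tr.nd (nat_lit 16319) (Tr.nd (nat_lit 16316) (Tr.nd (nat_lit 16315) (Tr.lf (Fc.ed (nat_lit 16314) (nat_lit 5393) Col.a (nat_lit 4763) (Dv.wd (nat_lit 79) [Mv.b (nat_lit 12487), Mv.f (nat_lit 16313), Mv.b (nat_lit 15751)])))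
(Tr.lf (Fc.ed (nat_lit 16315) (nat_lit 4358) Col.c (nat_lit 5393) (Dv.wd (nat_lit 134) [Mv.f (nat_lit 16314), Mv.f (nat_lit 12489), Mv.b (nat_lit 11553)]))))
(Tr.nd (nat_lit 16317) (Tr.lf (Fc.ed (nat_lit 16316) (nat_lit 6230) Col.c (nat_lit 2227) (Dv.wd (nat_lit 138) [Mv.b (nat_lit 6128), Mv.b (nat_lit 4552), Mv.b (nat_lit 4224), Mv.b (nat_lit 5750), Mv.f (nat_lit 11180), Mv.f (nat_lit 16315), Mv.f (nat_lit 13848), Mv.f (nat_lit 15090), Mv.f (nat_lit 15583)])))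
(Tr.nd (nat_lit 16318) (Tr.lf (Fc.ed (nat_lit 16317) (nat_lit 3711) Col.a (nat_lit 6230) (Dv.wd (nat_lit 76) [Mv.f (nat_lit 16316), Mv.f (nat_lit 11543), Mv.b (nat_lit 11545)])))
(Tr.lf (Fc.ed (nat_lit 16318) (nat_lit 5961) Col.gi (nat_lit 3339) (Dv.wd (nat_lit 24) [Mv.f (nat_lit 9265), Mv.f (nat_lit 16317), Mv.b (nat_lit 15583)]))))))
(Tr.nd (nat_lit 16321) (Tr.nd (nat_lit 16320) (Tr.lf (Fc.ed (nat_lit 16319) (nat_lit 3339) Col.gi (nat_lit 4192) (Dv.wd (nat_lit 24) [Mv.f (nat_lit 15938), Mv.f (nat_lit 15939), Mv.f (nat_lit 16318)])))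
(Tr.lf (Fc.ed (nat_lit 16320) (nat_lit 6311) Col.gi (nat_lit 5553) (Dv.wd (nat_lit 88) [Mv.b (nat_lit 14189), Mv.f (nat_lit 5426), Mv.f (nat_lit 3557), Mv.b (nat_lit 3497), Mv.f (nat_lit 4672), Mv.b (nat_lit 8428), Mv.f (nat_lit 8536), Mv.f (nat_lit 16319), Mv.b (nat_lit 12447), Mv.f (nat_lit 15796)]))))
(Tr.nd (nat_lit 16322) (Tr.lf (Fc.ed (nat_lit 16321) (nat_lit 6077) Col.gi (nat_lit 6311) (Dv.wd (nat_lit 12) [Mv.f (nat_lit 16320), Mv.f (nat_lit 14335), Mv.b (nat_lit 15297)])))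
(Tr.nd (nat_lit 16323) (Tr.lf (Fc.ed (nat_lit 16322) (nat_lit 4499) Col.gi (nat_lit 4690) (Dv.wd (nat_lit 157) [Mv.b (nat_lit 11852), Mv.b (nat_lit 9406), Mv.f (nat_lit 15419), Mv.f (nat_lit 15899), Mv.f (nat_lit 15900), Mv.f (nat_lit 9322), Mv.f (nat_lit 7080), Mv.b (nat_lit 15298), Mv.f (nat_lit 16321), Mv.b (nat_lit 15796)])))
(Tr.lf (Fc.al (nat_lit 16323) (nat_lit 5745) (nat_lit 4776) (Dv.wd (nat_lit 89) [Mv.b (nat_lit 12511), Mv.b (nat_lit 16322), Mv.f (nat_lit 15796), Mv.b (nat_lit 16321), Mv.f (nat_lit 15298), Mv.b (nat_lit 8747), Mv.b (nat_lit 13896), Mv.b (nat_lit 16306), Mv.b (nat_lit 15766), Mv.b (nat_lit 14597)]))))))))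
(Tr.nd (nat_lit 16334) (Tr.nd (nat_lit 16329) (Tr.nd (nat_lit 16326) (Tr.nd (nat_lit 16325) (Tr.lf (Fc.ed (nat_lit 16324) (nat_lit 4776) Col.gi (nat_lit 3212) (Dv.wd (nat_lit 128) [Mv.f (nat_lit 14596), Mv.f (nat_lit 16323)])))
(Tr.lf (Fc.al (nat_lit 16325) (nat_lit 4458) (nat_lit 5555) (Dv.wd (nat_lit 74) [Mv.b (nat_lit 14191), Mv.f (nat_lit 12104), Mv.b (nat_lit 12138), Mv.f (nat_lit 12351), Mv.f (nat_lit 16322), Mv.f (nat_lit 12511), Mv.f (nat_lit 16324), Mv.b (nat_lit 9545), Mv.b (nat_lit 12610), Mv.b (nat_lit 14000), Mv.b (nat_lit 13999)]))))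
(Tr.nd (nat_lit 16327) (Tr.lf (Fc.al (nat_lit 16326) (nat_lit 4222) (nat_lit 4988) (Dv.wd (nat_lit 119) [Mv.b (nat_lit 14192), Mv.b (nat_lit 16325), Mv.b (nat_lit 12983)])))
(Tr.nd (nat_lit 16328) (Tr.lf (Fc.al (nat_lit 16327) (nat_lit 5449) (nat_lit 6050) (Dv.wd (nat_lit 120) [Mv.b (nat_lit 15248), Mv.b (nat_lit 16325), Mv.f (nat_lit 13999)])))
(Tr.lf (Fc.ed (nat_lit 16328) (nat_lit 4222) Col.a (nat_lit 5033) (Dv.wd (nat_lit 29) [Mv.b (nat_lit 13073), Mv.b (nat_lit 16326)]))))))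
(Tr.nd (nat_lit 16331) (Tr.nd (nat_lit 16330) (Tr.lf (Fc.al (nat_lit 16329) (nat_lit 6086) (nat_lit 5028) (Dv.wd (nat_lit 120) [Mv.f (nat_lit 13058), Mv.b (nat_lit 16326), Mv.b (nat_lit 15315)])))
(Tr.lf (Fc.ed (nat_lit 16330) (nat_lit 4222) Col.e (nat_lit 2206) (Dv.wd (nat_lit 117) [Mv.f (nat_lit 12984), Mv.b (nat_lit 16326)]))))
(Tr.nd (nat_lit 16332) (Tr.lf (Fc.ed (nat_lit 16331) (nat_lit 5449) Col.e (nat_lit 4590) (Dv.wd (nat_lit 117) [Mv.b (nat_lit 15249), Mv.b (nat_lit 16327)])))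
(Tr.nd (nat_lit 16333) (Tr.lf (Fc.ed (nat_lit 16332) (nat_lit 5028) Col.gi (nat_lit 4408) (Dv.wd (nat_lit 128) [Mv.b (nat_lit 15989), Mv.f (nat_lit 16329)])))
(Tr.lf (Fc.ed (nat_lit 16333) (nat_lit 5028) Col.d (nat_lit 4222) (Dv.wd (nat_lit 120) [Mv.b (nat_lit 15315), Mv.f (nat_lit 16329)])))))))
(Tr.nd (nat_lit 16339) (Tr.nd (nat_lit 16336) (Tr.nd (nat_lit 16335) (Tr.lf (Fc.al (nat_lit 16334) (nat_lit 5033) (nat_lit 2446) (Dv.wd (nat_lit 38) [Mv.b (nat_lit 12956), Mv.b (nat_lit 12960), Mv.b (nat_lit 12963), Mv.b (nat_lit 16332), Mv.f (nat_lit 16333), Mv.f (nat_lit 16330), Mv.f (nat_lit 7380), Mv.f (nat_lit 12098), Mv.b (nat_lit 12097), Mv.b (nat_lit 12076), Mv.b (nat_lit 13074)])))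
(Tr.lf (Fc.al (nat_lit 16335) (nat_lit 3863) (nat_lit 4222) (Dv.wd (nat_lit 29) [Mv.f (nat_lit 16328), Mv.f (nat_lit 16334), Mv.b (nat_lit 9539)]))))
(Tr.nd (nat_lit 16337) (Tr.lf (Fc.ed (nat_lit 16336) (nat_lit 3863) Col.gi (nat_lit 2215) (Dv.wd (nat_lit 128) [Mv.b (nat_lit 10882), Mv.b (nat_lit 16335)])))
(Tr.nd (nat_lit 16338) (Tr.lf (Fc.ed (nat_lit 16337) (nat_lit 3863) Col.d (nat_lit 5028) (Dv.wd (nat_lit 120) [Mv.f (nat_lit 16333), Mv.b (nat_lit 16335)])))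
(Tr.lf (Fc.ed (nat_lit 16338) (nat_lit 3863) Col.e (nat_lit 2206) (Dv.wd (nat_lit 117) [Mv.b (nat_lit 16330), Mv.b (nat_lit 16335)]))))))
(Tr.nd (nat_lit 16342) (Tr.nd (nat_lit 16340) (Tr.lf (Fc.ed (nat_lit 16339) (nat_lit 5028) Col.a (nat_lit 6115) (Dv.wd (nat_lit 8) [Mv.b (nat_lit 15371), Mv.b (nat_lit 9539), Mv.f (nat_lit 16337)])))
(Tr.nd (nat_lit 16341) (Tr.lf (Fc.ed (nat_lit 16340) (nat_lit 6115) Col.e (nat_lit 3976) (Dv.wd (nat_lit 56) [Mv.f (nat_lit 12150), Mv.f (nat_lit 13057), Mv.f (nat_lit 16339)])))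
(Tr.lf (Fc.ed (nat_lit 16341) (nat_lit 2104) Col.e (nat_lit 3227) (Dv.wd (nat_lit 52) [Mv.f (nat_lit 15879), Mv.f (nat_lit 16340), Mv.b (nat_lit 12149)])))))
(Tr.nd (nat_lit 16343) (Tr.lf (Fc.al (nat_lit 16342) (nat_lit 5840) (nat_lit 4667) (Dv.wd (nat_lit 60) [Mv.b (nat_lit 12331), Mv.b (nat_lit 11937), Mv.f (nat_lit 5410), Mv.b (nat_lit 2442), Mv.b (nat_lit 5400), Mv.f (nat_lit 12035), Mv.f (nat_lit 16341), Mv.f (nat_lit 8310), Mv.f (nat_lit 9290), Mv.f (nat_lit 13077), Mv.f (nat_lit 14794)])))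
(Tr.nd (nat_lit 16344) (Tr.lf (Fc.ed (nat_lit 16343) (nat_lit 4667) Col.gi (nat_lit 5035) (Dv.wd (nat_lit 128) [Mv.f (nat_lit 14794), Mv.f (nat_lit 16342)])))
(Tr.lf (Fc.ed (nat_lit 16344) (nat_lit 4667) Col.f (nat_lit 6236) (Dv.wd (nat_lit 30) [Mv.b (nat_lit 15592), Mv.f (nat_lit 16342)]))))))))))
(Tr.nd (nat_lit 16386) (Tr.nd (nat_lit 16365) (Tr.nd (nat_lit 16355) (Tr.nd (nat_lit 16350) (Tr.nd (nat_lit 16347) (Tr.nd (nat_lit 16346) (Tr.lf (Fc.ed (nat_lit 16345) (nat_lit 5486) Col.f (nat_lit 4607) (Dv.wd (nat_lit 35) [Mv.f (nat_lit 11805), Mv.f (nat_lit 16344), Mv.f (nat_lit 15593)])))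
(Tr.lf (Fc.ed (nat_lit 16346) (nat_lit 4712) Col.f (nat_lit 6361) (Dv.wd (nat_lit 11) [Mv.b (nat_lit 15895), Mv.f (nat_lit 16345), Mv.f (nat_lit 11896)]))))
(Tr.nd (nat_lit 16348) (Tr.lf (Fc.al (nat_lit 16347) (nat_lit 6189) (nat_lit 4816) (Dv.wd (nat_lit 140) [Mv.f (nat_lit 12591), Mv.f (nat_lit 9120), Mv.f (nat_lit 12333), Mv.f (nat_lit 16346), Mv.f (nat_lit 15896), Mv.f (nat_lit 15499)])))
(Tr.nd (nat_lit 16349) (Tr.lf (Fc.al (nat_lit 16348) (nat_lit 5117) (nat_lit 3682) (Dv.wd (nat_lit 29) [Mv.b (nat_lit 15500), Mv.f (nat_lit 16347), Mv.f (nat_lit 13241)])))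
(Tr.lf (Fc.ed (nat_lit 16349) (nat_lit 4816) Col.f (nat_lit 4680) (Dv.wd (nat_lit 30) [Mv.f (nat_lit 15499), Mv.f (nat_lit 16347)]))))))
(Tr.nd (nat_lit 16352) (Tr.nd (nat_lit 16351) (Tr.lf (Fc.ed (nat_lit 16350) (nat_lit 3682) Col.b (nat_lit 5621) (Dv.wd (nat_lit 119) [Mv.f (nat_lit 14322), Mv.f (nat_lit 16348)])))
(Tr.lf (Fc.ed (nat_lit 16351) (nat_lit 3682) Col.d (nat_lit 4634) (Dv.wd (nat_lit 120) [Mv.b (nat_lit 13242), Mv.f (nat_lit 16348)]))))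
(Tr.nd (nat_lit 16353) (Tr.lf (Fc.ed (nat_lit 16352) (nat_lit 3682) Col.e (nat_lit 2198) (Dv.wd (nat_lit 117) [Mv.b (nat_lit 13243), Mv.f (nat_lit 16348)])))
(Tr.nd (nat_lit 16354) (Tr.lf (Fc.ed (nat_lit 16353) (nat_lit 3985) Col.d (nat_lit 4761) (Dv.wd (nat_lit 68) [Mv.b (nat_lit 12484), Mv.f (nat_lit 12744), Mv.b (nat_lit 12746), Mv.f (nat_lit 9201), Mv.f (nat_lit 16352), Mv.b (nat_lit 12162), Mv.b (nat_lit 10534), Mv.b (nat_lit 4325), Mv.b (nat_lit 5519), Mv.f (nat_lit 9781)])))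
(Tr.lf (Fc.ed (nat_lit 16354) (nat_lit 4607) Col.g (nat_lit 5146) (Dv.wd (nat_lit 38) [Mv.b (nat_lit 13917), Mv.f (nat_lit 13916), Mv.f (nat_lit 9201), Mv.f (nat_lit 16351), Mv.f (nat_lit 11749), Mv.f (nat_lit 10474), Mv.f (nat_lit 3992), Mv.b (nat_lit 7145), Mv.f (nat_lit 12174), Mv.b (nat_lit 11696)])))))))
(Tr.nd (nat_lit 16360) (Tr.nd (nat_lit 16357) (Tr.nd (nat_lit 16356) (Tr.lf (Fc.al (nat_lit 16355) (nat_lit 3665) (nat_lit 4592) (Dv.wd (nat_lit 163) [Mv.f (nat_lit 11671), Mv.f (nat_lit 6432), Mv.b (nat_lit 6225), Mv.b (nat_lit 9202), Mv.f (nat_lit 16351), Mv.f (nat_lit 11749), Mv.f (nat_lit 10475), Mv.f (nat_lit 6165), Mv.f (nat_lit 5733), Mv.f (nat_lit 6597), Mv.f (nat_lit 10553)])))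
(Tr.lf (Fc.ed (nat_lit 16356) (nat_lit 3665) Col.g (nat_lit 4227) (Dv.wd (nat_lit 129) [Mv.f (nat_lit 11670), Mv.b (nat_lit 16355)]))))
(Tr.nd (nat_lit 16358) (Tr.lf (Fc.ed (nat_lit 16357) (nat_lit 3665) Col.gi (nat_lit 2359) (Dv.wd (nat_lit 128) [Mv.b (nat_lit 11671), Mv.b (nat_lit 16355)])))
(Tr.nd (nat_lit 16359) (Tr.lf (Fc.ed (nat_lit 16358) (nat_lit 2867) Col.g (nat_lit 4607) (Dv.wd (nat_lit 17) [Mv.f (nat_lit 16354), Mv.b (nat_lit 13304), Mv.b (nat_lit 8525)])))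
(Tr.lf (Fc.ed (nat_lit 16359) (nat_lit 3689) Col.d (nat_lit 3379) (Dv.wd (nat_lit 68) [Mv.f (nat_lit 8620), Mv.f (nat_lit 6841), Mv.f (nat_lit 7550), Mv.f (nat_lit 16358), Mv.f (nat_lit 11696), Mv.b (nat_lit 12174), Mv.b (nat_lit 7144), Mv.f (nat_lit 6783), Mv.f (nat_lit 6165), Mv.f (nat_lit 9215)]))))))
(Tr.nd (nat_lit 16362) (Tr.nd (nat_lit 16361) (Tr.lf (Fc.al (nat_lit 16360) (nat_lit 4846) (nat_lit 5741) (Dv.wd (nat_lit 28) [Mv.b (nat_lit 14589), Mv.f (nat_lit 10576), Mv.f (nat_lit 16359), Mv.f (nat_lit 12649)])))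
(Tr.lf (Fc.al (nat_lit 16361) (nat_lit 5478) (nat_lit 6131) (Dv.wd (nat_lit 119) [Mv.f (nat_lit 15399), Mv.b (nat_lit 16360), Mv.f (nat_lit 14052)]))))
(Tr.nd (nat_lit 16363) (Tr.lf (Fc.ed (nat_lit 16362) (nat_lit 4846) Col.d (nat_lit 4099) (Dv.wd (nat_lit 120) [Mv.f (nat_lit 14589), Mv.b (nat_lit 16360)])))
(Tr.nd (nat_lit 16364) (Tr.lf (Fc.ed (nat_lit 16363) (nat_lit 5478) Col.d (nat_lit 4856) (Dv.wd (nat_lit 120) [Mv.f (nat_lit 15398), Mv.b (nat_lit 16361)])))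
(Tr.lf (Fc.al (nat_lit 16364) (nat_lit 3163) (nat_lit 4815) (Dv.wd (nat_lit 30) [Mv.b (nat_lit 15400), Mv.b (nat_lit 16361), Mv.f (nat_lit 14053)]))))))))
(Tr.nd (nat_lit 16375) (Tr.nd (nat_lit 16370) (Tr.nd (nat_lit 16367) (Tr.nd (nat_lit 16366) (Tr.lf (Fc.al (nat_lit 16365) (nat_lit 4076) (nat_lit 5908) (Dv.wd (nat_lit 29) [Mv.f (nat_lit 14944), Mv.b (nat_lit 16364), Mv.b (nat_lit 9941)])))
(Tr.lf (Fc.ed (nat_lit 16366) (nat_lit 3163) Col.d (nat_lit 2566) (Dv.wd (nat_lit 120) [Mv.f (nat_lit 12589), Mv.b (nat_lit 16364)]))))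
(Tr.nd (nat_lit 16368) (Tr.lf (Fc.ed (nat_lit 16367) (nat_lit 4076) Col.d (nat_lit 4784) (Dv.wd (nat_lit 120) [Mv.f (nat_lit 14943), Mv.b (nat_lit 16365)])))
(Tr.nd (nat_lit 16369) (Tr.lf (Fc.ed (nat_lit 16368) (nat_lit 3379) Col.e (nat_lit 3377) (Dv.wd (nat_lit 74) [Mv.f (nat_lit 8616), Mv.b (nat_lit 8337), Mv.f (nat_lit 10890), Mv.b (nat_lit 16356), Mv.b (nat_lit 10553), Mv.f (nat_lit 6598), Mv.f (nat_lit 3896), Mv.f (nat_lit 3895), Mv.b (nat_lit 9216), Mv.f (nat_lit 16359)])))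
(Tr.lf (Fc.al (nat_lit 16369) (nat_lit 6354) (nat_lit 2442) (Dv.wd (nat_lit 132) [Mv.f (nat_lit 6598), Mv.f (nat_lit 3896), Mv.f (nat_lit 3895), Mv.b (nat_lit 9216), Mv.f (nat_lit 16359), Mv.b (nat_lit 8619), Mv.b (nat_lit 6818), Mv.b (nat_lit 7805), Mv.b (nat_lit 8838), Mv.f (nat_lit 15898), Mv.f (nat_lit 15885)]))))))
(Tr.nd (nat_lit 16372) (Tr.nd (nat_lit 16371) (Tr.lf (Fc.ed (nat_lit 16370) (nat_lit 2442) Col.e (nat_lit 3282) (Dv.wd (nat_lit 117) [Mv.f (nat_lit 15885), Mv.f (nat_lit 16369)])))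
(Tr.lf (Fc.ed (nat_lit 16371) (nat_lit 3957) Col.e (nat_lit 4137) (Dv.wd (nat_lit 56) [Mv.b (nat_lit 10699), Mv.f (nat_lit 16370), Mv.b (nat_lit 9735)]))))
(Tr.nd (nat_lit 16373) (Tr.lf (Fc.ed (nat_lit 16372) (nat_lit 3513) Col.e (nat_lit 3610) (Dv.wd (nat_lit 52) [Mv.f (nat_lit 9071), Mv.f (nat_lit 16370), Mv.f (nat_lit 8883)])))
(Tr.nd (nat_lit 16374) (Tr.lf (Fc.ed (nat_lit 16373) (nat_lit 4284) Col.e (nat_lit 4284) (Dv.wd (nat_lit 70) [Mv.b (nat_lit 11021), Mv.b (nat_lit 4249), Mv.b (nat_lit 6431), Mv.b (nat_lit 16357), Mv.b (nat_lit 10553), Mv.f (nat_lit 16370), Mv.b (nat_lit 8417), Mv.b (nat_lit 8340), Mv.b (nat_lit 9850), Mv.b (nat_lit 15882)])))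
(Tr.lf (Fc.ed (nat_lit 16374) (nat_lit 4586) Col.d (nat_lit 3377) (Dv.wd (nat_lit 43) [Mv.f (nat_lit 8616), Mv.b (nat_lit 8337), Mv.f (nat_lit 10890), Mv.b (nat_lit 16356), Mv.b (nat_lit 10553), Mv.f (nat_lit 16370), Mv.f (nat_lit 8418), Mv.b (nat_lit 4577), Mv.b (nat_lit 6290), Mv.b (nat_lit 11661)])))))))
(Tr.nd (nat_lit 16380) (Tr.nd (nat_lit 16377) (Tr.nd (nat_lit 16376) (Tr.lf (Fc.ed (nat_lit 16375) (nat_lit 4211) Col.d (nat_lit 6401) (Dv.wd (nat_lit 39) [Mv.b (nat_lit 15984), Mv.b (nat_lit 7777), Mv.b (nat_lit 6818), Mv.b (nat_lit 7805), Mv.f (nat_lit 11660), Mv.f (nat_lit 16374), Mv.b (nat_lit 16368), Mv.f (nat_lit 8620), Mv.f (nat_lit 6841), Mv.b (nat_lit 10859)])))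
(Tr.lf (Fc.ed (nat_lit 16376) (nat_lit 5602) Col.e (nat_lit 4846) (Dv.wd (nat_lit 56) [Mv.b (nat_lit 12649), Mv.f (nat_lit 16368), Mv.b (nat_lit 14282)]))))
(Tr.nd (nat_lit 16378) (Tr.lf (Fc.ed (nat_lit 16377) (nat_lit 5478) Col.e (nat_lit 5505) (Dv.wd (nat_lit 52) [Mv.b (nat_lit 14283), Mv.f (nat_lit 16376), Mv.f (nat_lit 14052)])))
(Tr.nd (nat_lit 16379) (Tr.lf (Fc.ed (nat_lit 16378) (nat_lit 6401) Col.f (nat_lit 2442) (Dv.wd (nat_lit 41) [Mv.f (nat_lit 16370), Mv.f (nat_lit 14281), Mv.f (nat_lit 16376), Mv.f (nat_lit 12650), Mv.f (nat_lit 15984)])))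
(Tr.lf (Fc.al (nat_lit 16379) (nat_lit 3665) (nat_lit 5056) (Dv.wd (nat_lit 11) [Mv.b (nat_lit 13121), Mv.f (nat_lit 16375), Mv.f (nat_lit 16378), Mv.f (nat_lit 10553)]))))))
(Tr.nd (nat_lit 16383) (Tr.nd (nat_lit 16381) (Tr.lf (Fc.ed (nat_lit 16380) (nat_lit 3665) Col.f (nat_lit 4211) (Dv.wd (nat_lit 30) [Mv.f (nat_lit 13121), Mv.b (nat_lit 16379)])))
(Tr.nd (nat_lit 16382) (Tr.lf (Fc.ed (nat_lit 16381) (nat_lit 5433) Col.d (nat_lit 4814) (Dv.wd (nat_lit 90) [Mv.b (nat_lit 12587), Mv.f (nat_lit 16367), Mv.f (nat_lit 13966)])))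
(Tr.lf (Fc.al (nat_lit 16382) (nat_lit 1980) (nat_lit 4074) (Dv.wd (nat_lit 89) [Mv.b (nat_lit 12146), Mv.f (nat_lit 5320), Mv.b (nat_lit 3225), Mv.b (nat_lit 5627), Mv.b (nat_lit 13968), Mv.f (nat_lit 16381), Mv.f (nat_lit 12588), Mv.b (nat_lit 6982), Mv.b (nat_lit 3126), Mv.b (nat_lit 5542)])))))
(Tr.nd (nat_lit 16384) (Tr.lf (Fc.ed (nat_lit 16383) (nat_lit 1980) Col.d (nat_lit 1873) (Dv.wd (nat_lit 120) [Mv.f (nat_lit 12146), Mv.b (nat_lit 16382)])))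
(Tr.nd (nat_lit 16385) (Tr.lf (Fc.ed (nat_lit 16384) (nat_lit 1980) Col.e (nat_lit 2930) (Dv.wd (nat_lit 117) [Mv.f (nat_lit 9938), Mv.b (nat_lit 16382)])))
(Tr.lf (Fc.al (nat_lit 16385) (nat_lit 2172) (nat_lit 4391) (Dv.wd (nat_lit 30) [Mv.b (nat_lit 11302), Mv.b (nat_lit 16382), Mv.f (nat_lit 6013)])))))))))
(Tr.nd (nat_lit 16407) (Tr.nd (nat_lit 16396) (Tr.nd (nat_lit 16391) (Tr.nd (nat_lit 16388) (Tr.nd (nat_lit 16387) (Tr.lf (Fc.ed (nat_lit 16386) (nat_lit 2172) Col.a (nat_lit 4452) (Dv.wd (nat_lit 29) [Mv.b (nat_lit 11418), Mv.b (nat_lit 16385)])))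
(Tr.lf (Fc.ed (nat_lit 16387) (nat_lit 2172) Col.d (nat_lit 2317) (Dv.wd (nat_lit 120) [Mv.b (nat_lit 12147), Mv.b (nat_lit 16385)]))))
(Tr.nd (nat_lit 16389) (Tr.lf (Fc.ed (nat_lit 16388) (nat_lit 4452) Col.f (nat_lit 3111) (Dv.wd (nat_lit 35) [Mv.b (nat_lit 8079), Mv.f (nat_lit 6013), Mv.f (nat_lit 16386)])))
(Tr.nd (nat_lit 16390) (Tr.lf (Fc.ed (nat_lit 16389) (nat_lit 4452) Col.gi (nat_lit 996) (Dv.wd (nat_lit 12) [Mv.b (nat_lit 5542), Mv.f (nat_lit 6013), Mv.f (nat_lit 16386)])))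
(Tr.lf (Fc.ed (nat_lit 16390) (nat_lit 1301) Col.gi (nat_lit 4452) (Dv.wd (nat_lit 12) [Mv.f (nat_lit 16389), Mv.b (nat_lit 3345), Mv.f (nat_lit 3962)]))))))
(Tr.nd (nat_lit 16393) (Tr.nd (nat_lit 16392) (Tr.lf (Fc.ed (nat_lit 16391) (nat_lit 3111) Col.d (nat_lit 3376) (Dv.wd (nat_lit 21) [Mv.f (nat_lit 8614), Mv.f (nat_lit 12148), Mv.f (nat_lit 16388)])))
(Tr.lf (Fc.ed (nat_lit 16392) (nat_lit 1278) Col.e (nat_lit 4119) (Dv.wd (nat_lit 47) [Mv.f (nat_lit 14434), Mv.b (nat_lit 15558), Mv.f (nat_lit 6925), Mv.f (nat_lit 5657), Mv.f (nat_lit 5541), Mv.f (nat_lit 16383), Mv.f (nat_lit 5320), Mv.b (nat_lit 2096), Mv.f (nat_lit 2097), Mv.b (nat_lit 3907)]))))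
(Tr.nd (nat_lit 16394) (Tr.lf (Fc.ed (nat_lit 16393) (nat_lit 3828) Col.e (nat_lit 4461) (Dv.wd (nat_lit 74) [Mv.f (nat_lit 11433), Mv.f (nat_lit 6413), Mv.b (nat_lit 3874), Mv.b (nat_lit 5542), Mv.f (nat_lit 16383), Mv.b (nat_lit 5319), Mv.f (nat_lit 5224), Mv.f (nat_lit 4286), Mv.f (nat_lit 6207), Mv.b (nat_lit 10140)])))
(Tr.nd (nat_lit 16395) (Tr.lf (Fc.ed (nat_lit 16394) (nat_lit 5088) Col.e (nat_lit 4127) (Dv.wd (nat_lit 56) [Mv.f (nat_lit 10624), Mv.f (nat_lit 16393), Mv.f (nat_lit 13183)])))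
(Tr.lf (Fc.ed (nat_lit 16395) (nat_lit 6076) Col.e (nat_lit 3055) (Dv.wd (nat_lit 140) [Mv.f (nat_lit 9268), Mv.b (nat_lit 9270), Mv.f (nat_lit 9480), Mv.f (nat_lit 16393), Mv.f (nat_lit 15294)])))))))
(Tr.nd (nat_lit 16401) (Tr.nd (nat_lit 16398) (Tr.nd (nat_lit 16397) (Tr.lf (Fc.al (nat_lit 16396) (nat_lit 3791) (nat_lit 6276) (Dv.wd (nat_lit 39) [Mv.b (nat_lit 15777), Mv.b (nat_lit 15776), Mv.f (nat_lit 3175), Mv.f (nat_lit 1141), Mv.f (nat_lit 1143), Mv.b (nat_lit 6206), Mv.b (nat_lit 10140), Mv.f (nat_lit 16393), Mv.b (nat_lit 11432), Mv.f (nat_lit 9717), Mv.f (nat_lit 9413)])))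
(Tr.lf (Fc.al (nat_lit 16397) (nat_lit 4241) (nat_lit 6212) (Dv.wd (nat_lit 29) [Mv.f (nat_lit 15671), Mv.b (nat_lit 16396), Mv.f (nat_lit 10913)]))))
(Tr.nd (nat_lit 16399) (Tr.lf (Fc.al (nat_lit 16398) (nat_lit 5966) (nat_lit 6385) (Dv.wd (nat_lit 119) [Mv.b (nat_lit 15942), Mv.b (nat_lit 16396), Mv.f (nat_lit 15098)])))
(Tr.nd (nat_lit 16400) (Tr.lf (Fc.ed (nat_lit 16399) (nat_lit 3791) Col.c (nat_lit 6282) (Dv.wd (nat_lit 103) [Mv.b (nat_lit 15745), Mv.b (nat_lit 16396)])))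
(Tr.lf (Fc.ed (nat_lit 16400) (nat_lit 3791) Col.d (nat_lit 6299) (Dv.wd (nat_lit 120) [Mv.f (nat_lit 15777), Mv.b (nat_lit 16396)]))))))
(Tr.nd (nat_lit 16404) (Tr.nd (nat_lit 16402) (Tr.lf (Fc.ed (nat_lit 16401) (nat_lit 3791) Col.e (nat_lit 2810) (Dv.wd (nat_lit 117) [Mv.b (nat_lit 15672), Mv.b (nat_lit 16396)])))
(Tr.nd (nat_lit 16403) (Tr.lf (Fc.ed (nat_lit 16402) (nat_lit 4241) Col.d (nat_lit 6095) (Dv.wd (nat_lit 120) [Mv.f (nat_lit 15539), Mv.b (nat_lit 16397)])))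
(Tr.lf (Fc.ed (nat_lit 16403) (nat_lit 4241) Col.e (nat_lit 2653) (Dv.wd (nat_lit 117) [Mv.b (nat_lit 15540), Mv.b (nat_lit 16397)])))))
(Tr.nd (nat_lit 16405) (Tr.lf (Fc.ed (nat_lit 16404) (nat_lit 5966) Col.e (nat_lit 4414) (Dv.wd (nat_lit 117) [Mv.b (nat_lit 15943), Mv.b (nat_lit 16398)])))
(Tr.nd (nat_lit 16406) (Tr.lf (Fc.ed (nat_lit 16405) (nat_lit 4106) Col.f (nat_lit 6365) (Dv.wd (nat_lit 41) [Mv.b (nat_lit 15905), Mv.b (nat_lit 10914), Mv.f (nat_lit 16403), Mv.b (nat_lit 12049), Mv.f (nat_lit 10589)])))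
(Tr.lf (Fc.al (nat_lit 16406) (nat_lit 4340) (nat_lit 6261) (Dv.wd (nat_lit 11) [Mv.f (nat_lit 15646), Mv.b (nat_lit 10590), Mv.f (nat_lit 16405), Mv.f (nat_lit 15906)]))))))))
(Tr.nd (nat_lit 16417) (Tr.nd (nat_lit 16412) (Tr.nd (nat_lit 16409) (Tr.nd (nat_lit 16408) (Tr.lf (Fc.al (nat_lit 16407) (nat_lit 3340) (nat_lit 6270) (Dv.wd (nat_lit 128) [Mv.f (nat_lit 15661), Mv.b (nat_lit 16406), Mv.f (nat_lit 11136)])))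
(Tr.lf (Fc.al (nat_lit 16408) (nat_lit 4438) (nat_lit 3464) (Dv.wd (nat_lit 128) [Mv.f (nat_lit 15660), Mv.b (nat_lit 16407), Mv.f (nat_lit 11395)]))))
(Tr.nd (nat_lit 16410) (Tr.lf (Fc.ed (nat_lit 16409) (nat_lit 3464) Col.gi (nat_lit 3340) (Dv.wd (nat_lit 128) [Mv.f (nat_lit 11395), Mv.f (nat_lit 16408)])))
(Tr.nd (nat_lit 16411) (Tr.lf (Fc.ed (nat_lit 16410) (nat_lit 4588) Col.e (nat_lit 5573) (Dv.wd (nat_lit 146) [Mv.f (nat_lit 14229), Mv.f (nat_lit 8070), Mv.f (nat_lit 5011), Mv.f (nat_lit 5012), Mv.b (nat_lit 7209), Mv.f (nat_lit 11415), Mv.b (nat_lit 12052), Mv.f (nat_lit 16409), Mv.f (nat_lit 8540), Mv.f (nat_lit 11663)])))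
(Tr.lf (Fc.ed (nat_lit 16411) (nat_lit 5933) Col.d (nat_lit 4588) (Dv.wd (nat_lit 99) [Mv.f (nat_lit 16410), Mv.f (nat_lit 14229), Mv.f (nat_lit 9139), Mv.f (nat_lit 10105), Mv.f (nat_lit 15008)]))))))
(Tr.nd (nat_lit 16414) (Tr.nd (nat_lit 16413) (Tr.lf (Fc.ed (nat_lit 16412) (nat_lit 5605) Col.d (nat_lit 6056) (Dv.wd (nat_lit 28) [Mv.b (nat_lit 15256), Mv.f (nat_lit 16411), Mv.f (nat_lit 14289)])))
(Tr.lf (Fc.ed (nat_lit 16413) (nat_lit 4623) Col.e (nat_lit 4688) (Dv.wd (nat_lit 133) [Mv.f (nat_lit 11849), Mv.b (nat_lit 5784), Mv.f (nat_lit 3098), Mv.b (nat_lit 3371), Mv.f (nat_lit 15008), Mv.f (nat_lit 16411), Mv.f (nat_lit 11664), Mv.f (nat_lit 7868), Mv.b (nat_lit 6767), Mv.b (nat_lit 11727)]))))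
(Tr.nd (nat_lit 16415) (Tr.lf (Fc.ed (nat_lit 16414) (nat_lit 3272) Col.e (nat_lit 5048) (Dv.wd (nat_lit 57) [Mv.f (nat_lit 13107), Mv.f (nat_lit 16413), Mv.b (nat_lit 11848), Mv.b (nat_lit 14378), Mv.f (nat_lit 14379)])))
(Tr.nd (nat_lit 16416) (Tr.lf (Fc.ed (nat_lit 16415) (nat_lit 1400) Col.d (nat_lit 2041) (Dv.wd (nat_lit 68) [Mv.f (nat_lit 5665), Mv.f (nat_lit 5492), Mv.f (nat_lit 7165), Mv.f (nat_lit 11726), Mv.f (nat_lit 16413), Mv.f (nat_lit 11849), Mv.f (nat_lit 5785), Mv.f (nat_lit 3340), Mv.b (nat_lit 3498), Mv.b (nat_lit 4245)])))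
(Tr.lf (Fc.al (nat_lit 16416) (nat_lit 4241) (nat_lit 2835) (Dv.wd (nat_lit 151) [Mv.f (nat_lit 7481), Mv.b (nat_lit 6765), Mv.b (nat_lit 11727), Mv.f (nat_lit 16413), Mv.f (nat_lit 11849), Mv.b (nat_lit 5784), Mv.f (nat_lit 3098), Mv.b (nat_lit 3096), Mv.b (nat_lit 2945), Mv.f (nat_lit 15333), Mv.b (nat_lit 16402)])))))))
(Tr.nd (nat_lit 16422) (Tr.nd (nat_lit 16419) (Tr.nd (nat_lit 16418) (Tr.lf (Fc.al (nat_lit 16417) (nat_lit 4618) (nat_lit 3791) (Dv.wd (nat_lit 29) [Mv.f (nat_lit 10913), Mv.f (nat_lit 16416), Mv.b (nat_lit 11717)])))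
(Tr.lf (Fc.ed (nat_lit 16418) (nat_lit 2835) Col.d (nat_lit 6095) (Dv.wd (nat_lit 120) [Mv.b (nat_lit 16402), Mv.f (nat_lit 16416)]))))
(Tr.nd (nat_lit 16420) (Tr.lf (Fc.ed (nat_lit 16419) (nat_lit 2835) Col.e (nat_lit 2653) (Dv.wd (nat_lit 117) [Mv.b (nat_lit 16403), Mv.f (nat_lit 16416)])))
(Tr.nd (nat_lit 16421) (Tr.lf (Fc.al (nat_lit 16420) (nat_lit 4744) (nat_lit 3860) (Dv.wd (nat_lit 30) [Mv.b (nat_lit 10914), Mv.f (nat_lit 16416), Mv.b (nat_lit 12457)])))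
(Tr.lf (Fc.ed (nat_lit 16421) (nat_lit 3791) Col.a (nat_lit 2835) (Dv.wd (nat_lit 29) [Mv.b (nat_lit 11717), Mv.f (nat_lit 16417)]))))))
(Tr.nd (nat_lit 16425) (Tr.nd (nat_lit 16423) (Tr.lf (Fc.al (nat_lit 16422) (nat_lit 4596) (nat_lit 4157) (Dv.wd (nat_lit 30) [Mv.f (nat_lit 11716), Mv.f (nat_lit 16417), Mv.b (nat_lit 11679)])))
(Tr.nd (nat_lit 16424) (Tr.lf (Fc.ed (nat_lit 16423) (nat_lit 3860) Col.f (nat_lit 2835) (Dv.wd (nat_lit 30) [Mv.b (nat_lit 12457), Mv.f (nat_lit 16420)])))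
(Tr.lf (Fc.ed (nat_lit 16424) (nat_lit 4157) Col.a (nat_lit 3860) (Dv.wd (nat_lit 29) [Mv.f (nat_lit 11678), Mv.f (nat_lit 16422)])))))
(Tr.nd (nat_lit 16426) (Tr.lf (Fc.ed (nat_lit 16425) (nat_lit 4157) Col.f (nat_lit 3791) (Dv.wd (nat_lit 30) [Mv.b (nat_lit 11679), Mv.f (nat_lit 16422)])))
(Tr.nd (nat_lit 16427) (Tr.lf (Fc.al (nat_lit 16426) (nat_lit 2597) (nat_lit 5042) (Dv.wd (nat_lit 43) [Mv.f (nat_lit 13091), Mv.b (nat_lit 7111), Mv.f (nat_lit 7165), Mv.b (nat_lit 7162), Mv.f (nat_lit 7480), Mv.f (nat_lit 16418), Mv.b (nat_lit 15333), Mv.b (nat_lit 2944), Mv.b (nat_lit 976), Mv.b (nat_lit 2096), Mv.f (nat_lit 6959)])))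
(Tr.lf (Fc.ed (nat_lit 16427) (nat_lit 2597) Col.d (nat_lit 2666) (Dv.wd (nat_lit 120) [Mv.b (nat_lit 13091), Mv.b (nat_lit 16426)])))))))))))))
(Tr.nd (nat_lit 16756) (Tr.nd (nat_lit 16592) (Tr.nd (nat_lit 16510) (Tr.nd (nat_lit 16469) (Tr.nd (nat_lit 16448) (Tr.nd (nat_lit 16438) (Tr.nd (nat_lit 16433) (Tr.nd (nat_lit 16430) (Tr.nd (nat_lit 16429) (Tr.lf (Fc.ed (nat_lit 16428) (nat_lit 2597) Col.e (nat_lit 2231) (Dv.wd (nat_lit 117) [Mv.b (nat_lit 15557), Mv.b (nat_lit 16426)])))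
(Tr.lf (Fc.al (nat_lit 16429) (nat_lit 4007) (nat_lit 4624) (Dv.wd (nat_lit 30) [Mv.f (nat_lit 13090), Mv.b (nat_lit 16426), Mv.f (nat_lit 9816)]))))
(Tr.nd (nat_lit 16431) (Tr.lf (Fc.ed (nat_lit 16430) (nat_lit 4007) Col.d (nat_lit 3263) (Dv.wd (nat_lit 120) [Mv.f (nat_lit 11728), Mv.b (nat_lit 16429)])))
(Tr.nd (nat_lit 16432) (Tr.lf (Fc.ed (nat_lit 16431) (nat_lit 2059) Col.e (nat_lit 4452) (Dv.wd (nat_lit 47) [Mv.b (nat_lit 12148), Mv.b (nat_lit 5448), Mv.b (nat_lit 6054), Mv.f (nat_lit 6055), Mv.b (nat_lit 6960), Mv.f (nat_lit 16427), Mv.f (nat_lit 7112), Mv.b (nat_lit 4154), Mv.b (nat_lit 3453), Mv.b (nat_lit 5701)])))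
(Tr.lf (Fc.ed (nat_lit 16432) (nat_lit 2172) Col.e (nat_lit 3325) (Dv.wd (nat_lit 56) [Mv.f (nat_lit 8505), Mv.f (nat_lit 16431), Mv.b (nat_lit 16386)]))))))
(Tr.nd (nat_lit 16435) (Tr.nd (nat_lit 16434) (Tr.lf (Fc.ed (nat_lit 16433) (nat_lit 2592) Col.d (nat_lit 2059) (Dv.wd (nat_lit 39) [Mv.f (nat_lit 16431), Mv.b (nat_lit 16390), Mv.b (nat_lit 5657), Mv.b (nat_lit 6925), Mv.f (nat_lit 8349), Mv.b (nat_lit 15549), Mv.f (nat_lit 14916), Mv.f (nat_lit 15083), Mv.b (nat_lit 3958), Mv.f (nat_lit 6950)])))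
(Tr.lf (Fc.ed (nat_lit 16434) (nat_lit 1327) Col.e (nat_lit 1946) (Dv.wd (nat_lit 133) [Mv.b (nat_lit 15560), Mv.f (nat_lit 10821), Mv.b (nat_lit 6124), Mv.f (nat_lit 5700), Mv.f (nat_lit 16431), Mv.b (nat_lit 12148), Mv.f (nat_lit 5449), Mv.b (nat_lit 2096), Mv.f (nat_lit 2097), Mv.f (nat_lit 4012)]))))
(Tr.nd (nat_lit 16436) (Tr.lf (Fc.ed (nat_lit 16435) (nat_lit 4190) Col.e (nat_lit 2208) (Dv.wd (nat_lit 42) [Mv.b (nat_lit 12024), Mv.b (nat_lit 12030), Mv.f (nat_lit 12029), Mv.f (nat_lit 16434), Mv.b (nat_lit 15560)])))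
(Tr.nd (nat_lit 16437) (Tr.lf (Fc.al (nat_lit 16436) (nat_lit 3625) (nat_lit 4294) (Dv.wd (nat_lit 71) [Mv.b (nat_lit 11051), Mv.f (nat_lit 6850), Mv.f (nat_lit 6852), Mv.f (nat_lit 10820), Mv.f (nat_lit 16435), Mv.b (nat_lit 12024), Mv.b (nat_lit 4610), Mv.f (nat_lit 4615), Mv.f (nat_lit 7305), Mv.f (nat_lit 10589), Mv.f (nat_lit 10590)])))
(Tr.lf (Fc.ed (nat_lit 16437) (nat_lit 3625) Col.gi (nat_lit 2291) (Dv.wd (nat_lit 128) [Mv.f (nat_lit 11051), Mv.b (nat_lit 16436)])))))))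
(Tr.nd (nat_lit 16443) (Tr.nd (nat_lit 16440) (Tr.nd (nat_lit 16439) (Tr.lf (Fc.al (nat_lit 16438) (nat_lit 3464) (nat_lit 5717) (Dv.wd (nat_lit 29) [Mv.f (nat_lit 14548), Mv.b (nat_lit 16436), Mv.f (nat_lit 9096)])))
(Tr.lf (Fc.ed (nat_lit 16439) (nat_lit 3464) Col.f (nat_lit 4045) (Dv.wd (nat_lit 30) [Mv.f (nat_lit 14547), Mv.b (nat_lit 16438)]))))
(Tr.nd (nat_lit 16441) (Tr.lf (Fc.ed (nat_lit 16440) (nat_lit 5193) Col.e (nat_lit 4799) (Dv.wd (nat_lit 146) [Mv.b (nat_lit 13354), Mv.b (nat_lit 7918), Mv.b (nat_lit 7056), Mv.f (nat_lit 7057), Mv.f (nat_lit 7305), Mv.f (nat_lit 10589), Mv.f (nat_lit 10590), Mv.f (nat_lit 16437), Mv.f (nat_lit 6850), Mv.b (nat_lit 13416)])))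
(Tr.nd (nat_lit 16442) (Tr.lf (Fc.al (nat_lit 16441) (nat_lit 4007) (nat_lit 2930) (Dv.wd (nat_lit 57) [Mv.b (nat_lit 16384), Mv.f (nat_lit 6013), Mv.f (nat_lit 16432), Mv.b (nat_lit 8504), Mv.b (nat_lit 16428), Mv.f (nat_lit 9816)])))
(Tr.lf (Fc.ed (nat_lit 16442) (nat_lit 2930) Col.d (nat_lit 3263) (Dv.wd (nat_lit 120) [Mv.b (nat_lit 16430), Mv.f (nat_lit 16441)]))))))
(Tr.nd (nat_lit 16445) (Tr.nd (nat_lit 16444) (Tr.lf (Fc.al (nat_lit 16443) (nat_lit 3982) (nat_lit 2597) (Dv.wd (nat_lit 30) [Mv.f (nat_lit 9816), Mv.f (nat_lit 16441), Mv.f (nat_lit 9776)])))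
(Tr.lf (Fc.al (nat_lit 16444) (nat_lit 4351) (nat_lit 2011) (Dv.wd (nat_lit 29) [Mv.b (nat_lit 9777), Mv.f (nat_lit 16443), Mv.f (nat_lit 11167)]))))
(Tr.nd (nat_lit 16446) (Tr.lf (Fc.ed (nat_lit 16445) (nat_lit 2011) Col.a (nat_lit 2597) (Dv.wd (nat_lit 29) [Mv.f (nat_lit 11167), Mv.f (nat_lit 16444)])))
(Tr.nd (nat_lit 16447) (Tr.lf (Fc.al (nat_lit 16446) (nat_lit 3114) (nat_lit 5122) (Dv.wd (nat_lit 119) [Mv.b (nat_lit 13249), Mv.f (nat_lit 16444), Mv.b (nat_lit 8085)])))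
(Tr.lf (Fc.ed (nat_lit 16447) (nat_lit 2011) Col.f (nat_lit 2414) (Dv.wd (nat_lit 30) [Mv.b (nat_lit 11168), Mv.f (nat_lit 16444)]))))))))
(Tr.nd (nat_lit 16458) (Tr.nd (nat_lit 16453) (Tr.nd (nat_lit 16450) (Tr.nd (nat_lit 16449) (Tr.lf (Fc.al (nat_lit 16448) (nat_lit 3023) (nat_lit 4996) (Dv.wd (nat_lit 103) [Mv.f (nat_lit 13251), Mv.b (nat_lit 16446), Mv.b (nat_lit 8084)])))
(Tr.lf (Fc.ed (nat_lit 16449) (nat_lit 3114) Col.f (nat_lit 4176) (Dv.wd (nat_lit 30) [Mv.b (nat_lit 13250), Mv.b (nat_lit 16446)]))))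
(Tr.nd (nat_lit 16451) (Tr.lf (Fc.al (nat_lit 16450) (nat_lit 4714) (nat_lit 2370) (Dv.wd (nat_lit 29) [Mv.b (nat_lit 12996), Mv.b (nat_lit 16448), Mv.b (nat_lit 11901)])))
(Tr.nd (nat_lit 16452) (Tr.lf (Fc.ed (nat_lit 16451) (nat_lit 2370) Col.c (nat_lit 5083) (Dv.wd (nat_lit 103) [Mv.f (nat_lit 13176), Mv.f (nat_lit 16450)])))
(Tr.lf (Fc.al (nat_lit 16452) (nat_lit 4546) (nat_lit 4218) (Dv.wd (nat_lit 30) [Mv.f (nat_lit 11900), Mv.f (nat_lit 16450), Mv.f (nat_lit 11582)]))))))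
(Tr.nd (nat_lit 16455) (Tr.nd (nat_lit 16454) (Tr.lf (Fc.ed (nat_lit 16453) (nat_lit 4218) Col.a (nat_lit 4162) (Dv.wd (nat_lit 29) [Mv.b (nat_lit 11583), Mv.f (nat_lit 16452)])))
(Tr.lf (Fc.ed (nat_lit 16454) (nat_lit 4176) Col.a (nat_lit 5115) (Dv.wd (nat_lit 76) [Mv.f (nat_lit 13238), Mv.f (nat_lit 16453), Mv.f (nat_lit 10794)]))))
(Tr.nd (nat_lit 16456) (Tr.lf (Fc.ed (nat_lit 16455) (nat_lit 6016) Col.gi (nat_lit 3114) (Dv.wd (nat_lit 24) [Mv.f (nat_lit 16449), Mv.f (nat_lit 16454), Mv.f (nat_lit 15189)])))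
(Tr.nd (nat_lit 16457) (Tr.lf (Fc.ed (nat_lit 16456) (nat_lit 6122) Col.g (nat_lit 5249) (Dv.wd (nat_lit 118) [Mv.f (nat_lit 16056), Mv.b (nat_lit 15128), Mv.f (nat_lit 7403), Mv.f (nat_lit 6945), Mv.f (nat_lit 3595), Mv.f (nat_lit 3894), Mv.f (nat_lit 6077), Mv.f (nat_lit 6455), Mv.f (nat_lit 16451), Mv.f (nat_lit 15382)])))
(Tr.lf (Fc.ed (nat_lit 16457) (nat_lit 5249) Col.g (nat_lit 6045) (Dv.wd (nat_lit 9) [Mv.b (nat_lit 15240), Mv.b (nat_lit 15383), Mv.f (nat_lit 16456)])))))))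
(Tr.nd (nat_lit 16463) (Tr.nd (nat_lit 16460) (Tr.nd (nat_lit 16459) (Tr.lf (Fc.ed (nat_lit 16458) (nat_lit 2666) Col.a (nat_lit 3801) (Dv.wd (nat_lit 54) [Mv.b (nat_lit 9430), Mv.f (nat_lit 16445), Mv.f (nat_lit 16427)])))
(Tr.lf (Fc.ed (nat_lit 16459) (nat_lit 3263) Col.g (nat_lit 1266) (Dv.wd (nat_lit 55) [Mv.b (nat_lit 3874), Mv.b (nat_lit 3337), Mv.f (nat_lit 15080), Mv.b (nat_lit 16392), Mv.b (nat_lit 12038), Mv.f (nat_lit 3715), Mv.f (nat_lit 3625), Mv.f (nat_lit 4221), Mv.f (nat_lit 7685), Mv.f (nat_lit 16442)]))))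
(Tr.nd (nat_lit 16461) (Tr.lf (Fc.ed (nat_lit 16460) (nat_lit 3263) Col.gi (nat_lit 2036) (Dv.wd (nat_lit 151) [Mv.b (nat_lit 5649), Mv.f (nat_lit 16390), Mv.b (nat_lit 16431), Mv.b (nat_lit 16433), Mv.b (nat_lit 6950), Mv.f (nat_lit 3958), Mv.f (nat_lit 3337), Mv.b (nat_lit 5542), Mv.f (nat_lit 16384), Mv.f (nat_lit 16442)])))
(Tr.nd (nat_lit 16462) (Tr.lf (Fc.ed (nat_lit 16461) (nat_lit 1266) Col.g (nat_lit 3801) (Dv.wd (nat_lit 9) [Mv.b (nat_lit 16458), Mv.f (nat_lit 8381), Mv.f (nat_lit 16459)])))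
(Tr.lf (Fc.ed (nat_lit 16462) (nat_lit 2011) Col.e (nat_lit 2109) (Dv.wd (nat_lit 70) [Mv.f (nat_lit 5803), Mv.f (nat_lit 5657), Mv.f (nat_lit 5649), Mv.b (nat_lit 16460), Mv.b (nat_lit 16442), Mv.b (nat_lit 16384), Mv.f (nat_lit 5542), Mv.f (nat_lit 3874), Mv.f (nat_lit 16461), Mv.b (nat_lit 9430)]))))))
(Tr.nd (nat_lit 16466) (Tr.nd (nat_lit 16464) (Tr.lf (Fc.al (nat_lit 16463) (nat_lit 3783) (nat_lit 2231) (Dv.wd (nat_lit 56) [Mv.b (nat_lit 16428), Mv.b (nat_lit 16445), Mv.f (nat_lit 16462), Mv.b (nat_lit 9397)])))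
(Tr.nd (nat_lit 16465) (Tr.lf (Fc.ed (nat_lit 16464) (nat_lit 2231) Col.a (nat_lit 2109) (Dv.wd (nat_lit 29) [Mv.b (nat_lit 9397), Mv.f (nat_lit 16463)])))
(Tr.lf (Fc.al (nat_lit 16465) (nat_lit 3325) (nat_lit 2865) (Dv.wd (nat_lit 30) [Mv.f (nat_lit 9396), Mv.f (nat_lit 16463), Mv.f (nat_lit 8504)])))))
(Tr.nd (nat_lit 16467) (Tr.lf (Fc.ed (nat_lit 16466) (nat_lit 2865) Col.a (nat_lit 2059) (Dv.wd (nat_lit 29) [Mv.b (nat_lit 8505), Mv.f (nat_lit 16465)])))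
(Tr.nd (nat_lit 16468) (Tr.lf (Fc.ed (nat_lit 16467) (nat_lit 2865) Col.f (nat_lit 2231) (Dv.wd (nat_lit 30) [Mv.f (nat_lit 8504), Mv.f (nat_lit 16465)])))
(Tr.lf (Fc.ed (nat_lit 16468) (nat_lit 2109) Col.f (nat_lit 2059) (Dv.wd (nat_lit 35) [Mv.b (nat_lit 16466), Mv.f (nat_lit 16467), Mv.f (nat_lit 16464)])))))))))
(Tr.nd (nat_lit 16489) (Tr.nd (nat_lit 16479) (Tr.nd (nat_lit 16474) (Tr.nd (nat_lit 16471) (Tr.nd (nat_lit 16470) (Tr.lf (Fc.ed (nat_lit 16469) (nat_lit 3111) Col.e (nat_lit 2414) (Dv.wd (nat_lit 140) [Mv.b (nat_lit 16447), Mv.f (nat_lit 16462), Mv.f (nat_lit 16468), Mv.f (nat_lit 16431), Mv.f (nat_lit 16388)])))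
(Tr.lf (Fc.al (nat_lit 16470) (nat_lit 2041) (nat_lit 3111) (Dv.wd (nat_lit 70) [Mv.f (nat_lit 16469), Mv.b (nat_lit 6532), Mv.f (nat_lit 6055), Mv.f (nat_lit 6054), Mv.f (nat_lit 5319), Mv.b (nat_lit 16383), Mv.f (nat_lit 16384), Mv.f (nat_lit 7686), Mv.f (nat_lit 4546), Mv.b (nat_lit 4245), Mv.f (nat_lit 16415)]))))
(Tr.nd (nat_lit 16472) (Tr.lf (Fc.al (nat_lit 16471) (nat_lit 1083) (nat_lit 3720) (Dv.wd (nat_lit 129) [Mv.f (nat_lit 9284), Mv.b (nat_lit 16470), Mv.b (nat_lit 5664)])))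
(Tr.nd (nat_lit 16473) (Tr.lf (Fc.al (nat_lit 16472) (nat_lit 1400) (nat_lit 3376) (Dv.wd (nat_lit 120) [Mv.b (nat_lit 16391), Mv.b (nat_lit 16470), Mv.b (nat_lit 16415)])))
(Tr.lf (Fc.ed (nat_lit 16473) (nat_lit 1083) Col.gi (nat_lit 2172) (Dv.wd (nat_lit 128) [Mv.f (nat_lit 9283), Mv.b (nat_lit 16471)]))))))
(Tr.nd (nat_lit 16476) (Tr.nd (nat_lit 16475) (Tr.lf (Fc.al (nat_lit 16474) (nat_lit 1374) (nat_lit 3411) (Dv.wd (nat_lit 128) [Mv.b (nat_lit 8684), Mv.b (nat_lit 16472), Mv.b (nat_lit 4244)])))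
(Tr.lf (Fc.al (nat_lit 16475) (nat_lit 4916) (nat_lit 4786) (Dv.wd (nat_lit 119) [Mv.b (nat_lit 12533), Mv.b (nat_lit 16472), Mv.b (nat_lit 12788)]))))
(Tr.nd (nat_lit 16477) (Tr.lf (Fc.al (nat_lit 16476) (nat_lit 2584) (nat_lit 2317) (Dv.wd (nat_lit 128) [Mv.b (nat_lit 8685), Mv.b (nat_lit 16474), Mv.b (nat_lit 6935)])))
(Tr.nd (nat_lit 16478) (Tr.lf (Fc.ed (nat_lit 16477) (nat_lit 4786) Col.b (nat_lit 1400) (Dv.wd (nat_lit 119) [Mv.b (nat_lit 12788), Mv.f (nat_lit 16475)])))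
(Tr.lf (Fc.al (nat_lit 16478) (nat_lit 4480) (nat_lit 4957) (Dv.wd (nat_lit 30) [Mv.b (nat_lit 12874), Mv.f (nat_lit 16475), Mv.f (nat_lit 12534)])))))))
(Tr.nd (nat_lit 16484) (Tr.nd (nat_lit 16481) (Tr.nd (nat_lit 16480) (Tr.lf (Fc.ed (nat_lit 16479) (nat_lit 2317) Col.gi (nat_lit 1374) (Dv.wd (nat_lit 128) [Mv.b (nat_lit 6935), Mv.f (nat_lit 16476)])))
(Tr.lf (Fc.al (nat_lit 16480) (nat_lit 6093) (nat_lit 4485) (Dv.wd (nat_lit 103) [Mv.f (nat_lit 11473), Mv.f (nat_lit 16476), Mv.f (nat_lit 15330)]))))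
(Tr.nd (nat_lit 16482) (Tr.lf (Fc.al (nat_lit 16481) (nat_lit 4540) (nat_lit 5725) (Dv.wd (nat_lit 103) [Mv.f (nat_lit 14561), Mv.b (nat_lit 16478), Mv.b (nat_lit 11571)])))
(Tr.nd (nat_lit 16483) (Tr.lf (Fc.ed (nat_lit 16482) (nat_lit 4485) Col.c (nat_lit 2317) (Dv.wd (nat_lit 103) [Mv.f (nat_lit 15330), Mv.f (nat_lit 16480)])))
(Tr.lf (Fc.ed (nat_lit 16483) (nat_lit 4540) Col.a (nat_lit 4657) (Dv.wd (nat_lit 29) [Mv.b (nat_lit 14562), Mv.b (nat_lit 16481)]))))))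
(Tr.nd (nat_lit 16486) (Tr.nd (nat_lit 16485) (Tr.lf (Fc.ed (nat_lit 16484) (nat_lit 3002) Col.d (nat_lit 3339) (Dv.wd (nat_lit 62) [Mv.b (nat_lit 8536), Mv.b (nat_lit 8427), Mv.b (nat_lit 4552), Mv.f (nat_lit 4244), Mv.f (nat_lit 16415), Mv.f (nat_lit 5665), Mv.b (nat_lit 4492), Mv.b (nat_lit 7726), Mv.b (nat_lit 7834)])))
(Tr.lf (Fc.ed (nat_lit 16485) (nat_lit 2203) Col.d (nat_lit 2777) (Dv.wd (nat_lit 58) [Mv.f (nat_lit 7833), Mv.f (nat_lit 16484), Mv.f (nat_lit 8537)]))))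
(Tr.nd (nat_lit 16487) (Tr.lf (Fc.ed (nat_lit 16486) (nat_lit 3217) Col.e (nat_lit 3002) (Dv.wd (nat_lit 146) [Mv.f (nat_lit 16484), Mv.f (nat_lit 16319), Mv.b (nat_lit 12136), Mv.b (nat_lit 8064), Mv.b (nat_lit 7380), Mv.b (nat_lit 16338), Mv.f (nat_lit 16337), Mv.f (nat_lit 16332), Mv.f (nat_lit 12963), Mv.f (nat_lit 15990)])))
(Tr.nd (nat_lit 16488) (Tr.lf (Fc.ed (nat_lit 16487) (nat_lit 2777) Col.e (nat_lit 3017) (Dv.wd (nat_lit 52) [Mv.b (nat_lit 8292), Mv.f (nat_lit 16486), Mv.b (nat_lit 7833)])))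
(Tr.lf (Fc.ed (nat_lit 16488) (nat_lit 3017) Col.d (nat_lit 3246) (Dv.wd (nat_lit 162) [Mv.b (nat_lit 8345), Mv.f (nat_lit 4792), Mv.f (nat_lit 11021), Mv.f (nat_lit 16373), Mv.f (nat_lit 15882), Mv.f (nat_lit 9850), Mv.f (nat_lit 8340), Mv.b (nat_lit 8337), Mv.f (nat_lit 7351), Mv.f (nat_lit 16487)]))))))))
(Tr.nd (nat_lit 16499) (Tr.nd (nat_lit 16494) (Tr.nd (nat_lit 16491) (Tr.nd (nat_lit 16490) (Tr.lf (Fc.ed (nat_lit 16489) (nat_lit 3213) Col.d (nat_lit 4738) (Dv.wd (nat_lit 43) [Mv.b (nat_lit 11941), Mv.f (nat_lit 7683), Mv.b (nat_lit 8220), Mv.b (nat_lit 8346), Mv.b (nat_lit 16488), Mv.b (nat_lit 16487), Mv.f (nat_lit 7352), Mv.f (nat_lit 4249), Mv.b (nat_lit 4792), Mv.b (nat_lit 8286)])))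
(Tr.lf (Fc.ed (nat_lit 16490) (nat_lit 2132) Col.e (nat_lit 4738) (Dv.wd (nat_lit 146) [Mv.b (nat_lit 16489), Mv.b (nat_lit 8285), Mv.f (nat_lit 8220), Mv.b (nat_lit 7683), Mv.f (nat_lit 7864), Mv.b (nat_lit 16487), Mv.b (nat_lit 16485), Mv.b (nat_lit 6085), Mv.b (nat_lit 3223), Mv.f (nat_lit 5925)]))))
(Tr.nd (nat_lit 16492) (Tr.lf (Fc.ed (nat_lit 16491) (nat_lit 4785) Col.e (nat_lit 3726) (Dv.wd (nat_lit 56) [Mv.b (nat_lit 9295), Mv.f (nat_lit 16490), Mv.f (nat_lit 12531)])))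
(Tr.nd (nat_lit 16493) (Tr.lf (Fc.ed (nat_lit 16492) (nat_lit 2608) Col.g (nat_lit 4567) (Dv.wd (nat_lit 55) [Mv.b (nat_lit 11623), Mv.f (nat_lit 16490), Mv.f (nat_lit 11942), Mv.f (nat_lit 5459), Mv.f (nat_lit 6841), Mv.b (nat_lit 10859), Mv.f (nat_lit 16375), Mv.b (nat_lit 15984), Mv.b (nat_lit 7777), Mv.f (nat_lit 6983)])))
(Tr.lf (Fc.al (nat_lit 16493) (nat_lit 4923) (nat_lit 4211) (Dv.wd (nat_lit 17) [Mv.b (nat_lit 10858), Mv.f (nat_lit 16492), Mv.b (nat_lit 11651), Mv.f (nat_lit 12801)]))))))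
(Tr.nd (nat_lit 16496) (Tr.nd (nat_lit 16495) (Tr.lf (Fc.al (nat_lit 16494) (nat_lit 6401) (nat_lit 2443) (Dv.wd (nat_lit 120) [Mv.b (nat_lit 12802), Mv.f (nat_lit 16493), Mv.f (nat_lit 16375)])))
(Tr.lf (Fc.al (nat_lit 16495) (nat_lit 3665) (nat_lit 4581) (Dv.wd (nat_lit 30) [Mv.f (nat_lit 12801), Mv.f (nat_lit 16493), Mv.b (nat_lit 16380)]))))
(Tr.nd (nat_lit 16497) (Tr.lf (Fc.al (nat_lit 16496) (nat_lit 3726) (nat_lit 2442) (Dv.wd (nat_lit 30) [Mv.b (nat_lit 16378), Mv.f (nat_lit 16494), Mv.b (nat_lit 9296)])))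
(Tr.nd (nat_lit 16498) (Tr.lf (Fc.al (nat_lit 16497) (nat_lit 3450) (nat_lit 4919) (Dv.wd (nat_lit 117) [Mv.b (nat_lit 12795), Mv.b (nat_lit 16495), Mv.b (nat_lit 9169)])))
(Tr.lf (Fc.al (nat_lit 16498) (nat_lit 4137) (nat_lit 2132) (Dv.wd (nat_lit 29) [Mv.f (nat_lit 9295), Mv.f (nat_lit 16496), Mv.f (nat_lit 10699)])))))))
(Tr.nd (nat_lit 16504) (Tr.nd (nat_lit 16501) (Tr.nd (nat_lit 16500) (Tr.lf (Fc.al (nat_lit 16499) (nat_lit 3610) (nat_lit 4763) (Dv.wd (nat_lit 119) [Mv.f (nat_lit 12488), Mv.f (nat_lit 16496), Mv.b (nat_lit 9071)])))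
(Tr.lf (Fc.al (nat_lit 16500) (nat_lit 3282) (nat_lit 4785) (Dv.wd (nat_lit 117) [Mv.f (nat_lit 16491), Mv.f (nat_lit 16496), Mv.f (nat_lit 16370)]))))
(Tr.nd (nat_lit 16502) (Tr.lf (Fc.al (nat_lit 16501) (nat_lit 5693) (nat_lit 4275) (Dv.wd (nat_lit 30) [Mv.f (nat_lit 12793), Mv.b (nat_lit 16497), Mv.f (nat_lit 14450)])))
(Tr.nd (nat_lit 16503) (Tr.lf (Fc.ed (nat_lit 16502) (nat_lit 2132) Col.b (nat_lit 6030) (Dv.wd (nat_lit 119) [Mv.b (nat_lit 15215), Mv.f (nat_lit 16498)])))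
(Tr.lf (Fc.al (nat_lit 16503) (nat_lit 4738) (nat_lit 3957) (Dv.wd (nat_lit 117) [Mv.f (nat_lit 16371), Mv.f (nat_lit 16498), Mv.f (nat_lit 16490)]))))))
(Tr.nd (nat_lit 16507) (Tr.nd (nat_lit 16505) (Tr.lf (Fc.al (nat_lit 16504) (nat_lit 5595) (nat_lit 5393) (Dv.wd (nat_lit 29) [Mv.f (nat_lit 16314), Mv.b (nat_lit 16499), Mv.f (nat_lit 14269)])))
(Tr.nd (nat_lit 16506) (Tr.lf (Fc.ed (nat_lit 16505) (nat_lit 3610) Col.f (nat_lit 3995) (Dv.wd (nat_lit 30) [Mv.f (nat_lit 12487), Mv.b (nat_lit 16499)])))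
(Tr.lf (Fc.al (nat_lit 16506) (nat_lit 3513) (nat_lit 4881) (Dv.wd (nat_lit 119) [Mv.b (nat_lit 12717), Mv.b (nat_lit 16500), Mv.f (nat_lit 8883)])))))
(Tr.nd (nat_lit 16508) (Tr.lf (Fc.al (nat_lit 16507) (nat_lit 5602) (nat_lit 3017) (Dv.wd (nat_lit 30) [Mv.b (nat_lit 12532), Mv.b (nat_lit 16500), Mv.f (nat_lit 14281)])))
(Tr.nd (nat_lit 16509) (Tr.lf (Fc.al (nat_lit 16508) (nat_lit 4305) (nat_lit 6057) (Dv.wd (nat_lit 119) [Mv.b (nat_lit 15258), Mv.f (nat_lit 16501), Mv.b (nat_lit 11072)])))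
(Tr.lf (Fc.ed (nat_lit 16509) (nat_lit 3957) Col.g (nat_lit 1941) (Dv.wd (nat_lit 129) [Mv.b (nat_lit 11942), Mv.f (nat_lit 16503)]))))))))))
(Tr.nd (nat_lit 16551) (Tr.nd (nat_lit 16530) (Tr.nd (nat_lit 16520) (Tr.nd (nat_lit 16515) (Tr.nd (nat_lit 16512) (Tr.nd (nat_lit 16511) (Tr.lf (Fc.ed (nat_lit 16510) (nat_lit 3957) Col.d (nat_lit 3213) (Dv.wd (nat_lit 120) [Mv.f (nat_lit 16489), Mv.f (nat_lit 16503)])))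
(Tr.lf (Fc.ed (nat_lit 16511) (nat_lit 3957) Col.e (nat_lit 2132) (Dv.wd (nat_lit 117) [Mv.f (nat_lit 16490), Mv.f (nat_lit 16503)]))))
(Tr.nd (nat_lit 16513) (Tr.lf (Fc.ed (nat_lit 16512) (nat_lit 5393) Col.b (nat_lit 6072) (Dv.wd (nat_lit 119) [Mv.b (nat_lit 15287), Mv.f (nat_lit 16504)])))
(Tr.nd (nat_lit 16514) (Tr.lf (Fc.ed (nat_lit 16513) (nat_lit 5393) Col.d (nat_lit 6120) (Dv.wd (nat_lit 120) [Mv.b (nat_lit 15378), Mv.f (nat_lit 16504)])))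
(Tr.lf (Fc.ed (nat_lit 16514) (nat_lit 3513) Col.d (nat_lit 6278) (Dv.wd (nat_lit 120) [Mv.f (nat_lit 15675), Mv.b (nat_lit 16506)]))))))
(Tr.nd (nat_lit 16517) (Tr.nd (nat_lit 16516) (Tr.lf (Fc.al (nat_lit 16515) (nat_lit 5505) (nat_lit 3217) (Dv.wd (nat_lit 30) [Mv.b (nat_lit 12718), Mv.b (nat_lit 16506), Mv.f (nat_lit 14098)])))
(Tr.lf (Fc.al (nat_lit 16516) (nat_lit 2777) (nat_lit 4846) (Dv.wd (nat_lit 117) [Mv.b (nat_lit 16376), Mv.f (nat_lit 16507), Mv.b (nat_lit 16487)]))))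
(Tr.nd (nat_lit 16518) (Tr.lf (Fc.ed (nat_lit 16517) (nat_lit 4305) Col.f (nat_lit 4882) (Dv.wd (nat_lit 30) [Mv.b (nat_lit 15259), Mv.b (nat_lit 16508)])))
(Tr.nd (nat_lit 16519) (Tr.lf (Fc.al (nat_lit 16518) (nat_lit 3002) (nat_lit 5478) (Dv.wd (nat_lit 117) [Mv.f (nat_lit 16377), Mv.f (nat_lit 16515), Mv.f (nat_lit 16486)])))
(Tr.lf (Fc.ed (nat_lit 16519) (nat_lit 3217) Col.f (nat_lit 3513) (Dv.wd (nat_lit 30) [Mv.f (nat_lit 14098), Mv.f (nat_lit 16515)])))))))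
(Tr.nd (nat_lit 16525) (Tr.nd (nat_lit 16522) (Tr.nd (nat_lit 16521) (Tr.lf (Fc.ed (nat_lit 16520) (nat_lit 2777) Col.a (nat_lit 3379) (Dv.wd (nat_lit 29) [Mv.f (nat_lit 12649), Mv.b (nat_lit 16516)])))
(Tr.lf (Fc.al (nat_lit 16521) (nat_lit 2203) (nat_lit 4099) (Dv.wd (nat_lit 120) [Mv.b (nat_lit 16362), Mv.b (nat_lit 16516), Mv.b (nat_lit 16485)]))))
(Tr.nd (nat_lit 16523) (Tr.lf (Fc.ed (nat_lit 16522) (nat_lit 3002) Col.a (nat_lit 4814) (Dv.wd (nat_lit 29) [Mv.f (nat_lit 14054), Mv.b (nat_lit 16518)])))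
(Tr.nd (nat_lit 16524) (Tr.lf (Fc.al (nat_lit 16523) (nat_lit 3339) (nat_lit 4856) (Dv.wd (nat_lit 120) [Mv.b (nat_lit 16363), Mv.b (nat_lit 16518), Mv.f (nat_lit 16484)])))
(Tr.lf (Fc.ed (nat_lit 16524) (nat_lit 3002) Col.f (nat_lit 3163) (Dv.wd (nat_lit 30) [Mv.b (nat_lit 14053), Mv.b (nat_lit 16518)]))))))
(Tr.nd (nat_lit 16527) (Tr.nd (nat_lit 16526) (Tr.lf (Fc.al (nat_lit 16525) (nat_lit 2396) (nat_lit 3689) (Dv.wd (nat_lit 29) [Mv.b (nat_lit 10576), Mv.b (nat_lit 16521), Mv.b (nat_lit 6499)])))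
(Tr.lf (Fc.al (nat_lit 16526) (nat_lit 3567) (nat_lit 2093) (Dv.wd (nat_lit 30) [Mv.f (nat_lit 10575), Mv.b (nat_lit 16521), Mv.f (nat_lit 8995)]))))
(Tr.nd (nat_lit 16528) (Tr.lf (Fc.al (nat_lit 16527) (nat_lit 5961) (nat_lit 4871) (Dv.wd (nat_lit 128) [Mv.f (nat_lit 12702), Mv.b (nat_lit 16523), Mv.b (nat_lit 16318)])))
(Tr.nd (nat_lit 16529) (Tr.lf (Fc.al (nat_lit 16528) (nat_lit 3287) (nat_lit 2639) (Dv.wd (nat_lit 103) [Mv.b (nat_lit 12673), Mv.b (nat_lit 16523), Mv.b (nat_lit 8536)])))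
(Tr.lf (Fc.al (nat_lit 16529) (nat_lit 3711) (nat_lit 2566) (Dv.wd (nat_lit 30) [Mv.f (nat_lit 12671), Mv.b (nat_lit 16523), Mv.f (nat_lit 9265)]))))))))
(Tr.nd (nat_lit 16540) (Tr.nd (nat_lit 16535) (Tr.nd (nat_lit 16532) (Tr.nd (nat_lit 16531) (Tr.lf (Fc.al (nat_lit 16530) (nat_lit 4829) (nat_lit 6033) (Dv.wd (nat_lit 119) [Mv.f (nat_lit 15220), Mv.b (nat_lit 16525), Mv.b (nat_lit 12613)])))
(Tr.lf (Fc.al (nat_lit 16531) (nat_lit 4423) (nat_lit 3379) (Dv.wd (nat_lit 120) [Mv.b (nat_lit 16359), Mv.b (nat_lit 16525), Mv.f (nat_lit 11368)]))))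
(Tr.nd (nat_lit 16533) (Tr.lf (Fc.al (nat_lit 16532) (nat_lit 2187) (nat_lit 4022) (Dv.wd (nat_lit 30) [Mv.f (nat_lit 9841), Mv.b (nat_lit 16525), Mv.b (nat_lit 6498)])))
(Tr.nd (nat_lit 16534) (Tr.lf (Fc.ed (nat_lit 16533) (nat_lit 2093) Col.c (nat_lit 3737) (Dv.wd (nat_lit 103) [Mv.b (nat_lit 9320), Mv.f (nat_lit 16526)])))
(Tr.lf (Fc.al (nat_lit 16534) (nat_lit 4784) (nat_lit 6230) (Dv.wd (nat_lit 128) [Mv.b (nat_lit 15583), Mv.f (nat_lit 16527), Mv.b (nat_lit 12701)]))))))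
(Tr.nd (nat_lit 16537) (Tr.nd (nat_lit 16536) (Tr.lf (Fc.ed (nat_lit 16535) (nat_lit 4871) Col.a (nat_lit 6384) (Dv.wd (nat_lit 29) [Mv.f (nat_lit 15939), Mv.f (nat_lit 16527)])))
(Tr.lf (Fc.ed (nat_lit 16536) (nat_lit 4871) Col.d (nat_lit 5310) (Dv.wd (nat_lit 120) [Mv.f (nat_lit 15090), Mv.f (nat_lit 16527)]))))
(Tr.nd (nat_lit 16538) (Tr.lf (Fc.ed (nat_lit 16537) (nat_lit 4871) Col.e (nat_lit 6094) (Dv.wd (nat_lit 117) [Mv.b (nat_lit 15331), Mv.f (nat_lit 16527)])))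
(Tr.nd (nat_lit 16539) (Tr.lf (Fc.al (nat_lit 16538) (nat_lit 4104) (nat_lit 1525) (Dv.wd (nat_lit 129) [Mv.f (nat_lit 8427), Mv.f (nat_lit 16528), Mv.b (nat_lit 10587)])))
(Tr.lf (Fc.ed (nat_lit 16539) (nat_lit 2566) Col.f (nat_lit 3339) (Dv.wd (nat_lit 30) [Mv.f (nat_lit 9265), Mv.f (nat_lit 16529)])))))))
(Tr.nd (nat_lit 16545) (Tr.nd (nat_lit 16542) (Tr.nd (nat_lit 16541) (Tr.lf (Fc.al (nat_lit 16540) (nat_lit 4690) (nat_lit 5950) (Dv.wd (nat_lit 30) [Mv.f (nat_lit 15219), Mv.b (nat_lit 16530), Mv.b (nat_lit 12612)])))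
(Tr.lf (Fc.ed (nat_lit 16541) (nat_lit 3379) Col.f (nat_lit 4077) (Dv.wd (nat_lit 30) [Mv.b (nat_lit 11369), Mv.f (nat_lit 16531)]))))
(Tr.nd (nat_lit 16543) (Tr.lf (Fc.ed (nat_lit 16542) (nat_lit 2187) Col.a (nat_lit 2093) (Dv.wd (nat_lit 29) [Mv.f (nat_lit 9840), Mv.b (nat_lit 16532)])))
(Tr.nd (nat_lit 16544) (Tr.lf (Fc.al (nat_lit 16543) (nat_lit 3543) (nat_lit 2227) (Dv.wd (nat_lit 103) [Mv.b (nat_lit 16316), Mv.b (nat_lit 16534), Mv.b (nat_lit 12529)])))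
(Tr.lf (Fc.ed (nat_lit 16544) (nat_lit 1525) Col.g (nat_lit 2639) (Dv.wd (nat_lit 129) [Mv.b (nat_lit 10587), Mv.f (nat_lit 16538)]))))))
(Tr.nd (nat_lit 16548) (Tr.nd (nat_lit 16546) (Tr.lf (Fc.ed (nat_lit 16545) (nat_lit 4690) Col.a (nat_lit 5821) (Dv.wd (nat_lit 29) [Mv.b (nat_lit 15040), Mv.b (nat_lit 16540)])))
(Tr.nd (nat_lit 16547) (Tr.lf (Fc.ed (nat_lit 16546) (nat_lit 2227) Col.c (nat_lit 4784) (Dv.wd (nat_lit 103) [Mv.b (nat_lit 12529), Mv.f (nat_lit 16543)])))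
(Tr.lf (Fc.al (nat_lit 16547) (nat_lit 4816) (nat_lit 4429) (Dv.wd (nat_lit 63) [Mv.f (nat_lit 11380), Mv.b (nat_lit 9836), Mv.b (nat_lit 9835), Mv.f (nat_lit 16492), Mv.b (nat_lit 11623), Mv.b (nat_lit 5925), Mv.f (nat_lit 3223), Mv.f (nat_lit 3588), Mv.f (nat_lit 4513), Mv.f (nat_lit 11562), Mv.f (nat_lit 12590)])))))
(Tr.nd (nat_lit 16549) (Tr.lf (Fc.ed (nat_lit 16548) (nat_lit 4429) Col.d (nat_lit 4535) (Dv.wd (nat_lit 120) [Mv.f (nat_lit 12590), Mv.f (nat_lit 16547)])))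
(Tr.nd (nat_lit 16550) (Tr.lf (Fc.ed (nat_lit 16549) (nat_lit 4429) Col.e (nat_lit 2315) (Dv.wd (nat_lit 117) [Mv.b (nat_lit 12591), Mv.f (nat_lit 16547)])))
(Tr.lf (Fc.al (nat_lit 16550) (nat_lit 5846) (nat_lit 4680) (Dv.wd (nat_lit 30) [Mv.b (nat_lit 16349), Mv.f (nat_lit 16547), Mv.f (nat_lit 14803)])))))))))
(Tr.nd (nat_lit 16571) (Tr.nd (nat_lit 16561) (Tr.nd (nat_lit 16556) (Tr.nd (nat_lit 16553) (Tr.nd (nat_lit 16552) (Tr.lf (Fc.al (nat_lit 16551) (nat_lit 5714) (nat_lit 4575) (Dv.wd (nat_lit 29) [Mv.b (nat_lit 14804), Mv.f (nat_lit 16550), Mv.f (nat_lit 14540)])))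
(Tr.lf (Fc.ed (nat_lit 16552) (nat_lit 4680) Col.f (nat_lit 4429) (Dv.wd (nat_lit 30) [Mv.f (nat_lit 14803), Mv.f (nat_lit 16550)]))))
(Tr.nd (nat_lit 16554) (Tr.lf (Fc.ed (nat_lit 16553) (nat_lit 4575) Col.f (nat_lit 3682) (Dv.wd (nat_lit 30) [Mv.b (nat_lit 14541), Mv.f (nat_lit 16551)])))
(Tr.nd (nat_lit 16555) (Tr.lf (Fc.ed (nat_lit 16554) (nat_lit 4449) Col.d (nat_lit 5250) (Dv.wd (nat_lit 68) [Mv.b (nat_lit 13529), Mv.b (nat_lit 8060), Mv.f (nat_lit 8061), Mv.f (nat_lit 11379), Mv.f (nat_lit 16549), Mv.f (nat_lit 12337), Mv.b (nat_lit 5539), Mv.f (nat_lit 5538), Mv.f (nat_lit 8520), Mv.f (nat_lit 11414)])))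
(Tr.lf (Fc.al (nat_lit 16555) (nat_lit 5548) (nat_lit 5747) (Dv.wd (nat_lit 28) [Mv.b (nat_lit 14600), Mv.f (nat_lit 14344), Mv.f (nat_lit 16554), Mv.b (nat_lit 14179)]))))))
(Tr.nd (nat_lit 16558) (Tr.nd (nat_lit 16557) (Tr.lf (Fc.ed (nat_lit 16556) (nat_lit 5548) Col.d (nat_lit 5632) (Dv.wd (nat_lit 120) [Mv.f (nat_lit 14600), Mv.b (nat_lit 16555)])))
(Tr.lf (Fc.al (nat_lit 16557) (nat_lit 3589) (nat_lit 4704) (Dv.wd (nat_lit 30) [Mv.b (nat_lit 14601), Mv.b (nat_lit 16555), Mv.b (nat_lit 14178)]))))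
(Tr.nd (nat_lit 16559) (Tr.lf (Fc.ed (nat_lit 16558) (nat_lit 3589) Col.d (nat_lit 3497) (Dv.wd (nat_lit 120) [Mv.f (nat_lit 11880), Mv.b (nat_lit 16557)])))
(Tr.nd (nat_lit 16560) (Tr.lf (Fc.ed (nat_lit 16559) (nat_lit 5362) Col.d (nat_lit 5522) (Dv.wd (nat_lit 90) [Mv.f (nat_lit 14345), Mv.f (nat_lit 16554), Mv.f (nat_lit 13782)])))
(Tr.lf (Fc.ed (nat_lit 16560) (nat_lit 3497) Col.e (nat_lit 4605) (Dv.wd (nat_lit 74) [Mv.b (nat_lit 11692), Mv.b (nat_lit 7614), Mv.b (nat_lit 5458), Mv.b (nat_lit 16509), Mv.f (nat_lit 16510), Mv.b (nat_lit 8285), Mv.b (nat_lit 9098), Mv.b (nat_lit 9097), Mv.b (nat_lit 9035), Mv.f (nat_lit 16558)])))))))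
(Tr.nd (nat_lit 16566) (Tr.nd (nat_lit 16563) (Tr.nd (nat_lit 16562) (Tr.lf (Fc.ed (nat_lit 16561) (nat_lit 4077) Col.g (nat_lit 1402) (Dv.wd (nat_lit 17) [Mv.b (nat_lit 7352), Mv.f (nat_lit 16520), Mv.f (nat_lit 16541)])))
(Tr.lf (Fc.ed (nat_lit 16562) (nat_lit 4077) Col.e (nat_lit 3496) (Dv.wd (nat_lit 22) [Mv.f (nat_lit 8852), Mv.b (nat_lit 16511), Mv.b (nat_lit 9734), Mv.b (nat_lit 16368), Mv.f (nat_lit 16541)]))))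
(Tr.nd (nat_lit 16564) (Tr.lf (Fc.ed (nat_lit 16563) (nat_lit 3496) Col.b (nat_lit 6316) (Dv.wd (nat_lit 49) [Mv.b (nat_lit 15807), Mv.f (nat_lit 12512), Mv.f (nat_lit 16562)])))
(Tr.nd (nat_lit 16565) (Tr.lf (Fc.ed (nat_lit 16564) (nat_lit 6316) Col.f (nat_lit 6030) (Dv.wd (nat_lit 20) [Mv.b (nat_lit 16502), Mv.b (nat_lit 8852), Mv.f (nat_lit 16563)])))
(Tr.lf (Fc.ed (nat_lit 16565) (nat_lit 2672) Col.g (nat_lit 4077) (Dv.wd (nat_lit 17) [Mv.f (nat_lit 16561), Mv.f (nat_lit 5372), Mv.b (nat_lit 7128)]))))))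
(Tr.nd (nat_lit 16568) (Tr.nd (nat_lit 16567) (Tr.lf (Fc.ed (nat_lit 16566) (nat_lit 3163) Col.e (nat_lit 3995) (Dv.wd (nat_lit 22) [Mv.b (nat_lit 16505), Mv.b (nat_lit 16372), Mv.b (nat_lit 16519), Mv.f (nat_lit 16486), Mv.f (nat_lit 16524)])))
(Tr.lf (Fc.al (nat_lit 16567) (nat_lit 4131) (nat_lit 6038) (Dv.wd (nat_lit 71) [Mv.f (nat_lit 15230), Mv.b (nat_lit 16366), Mv.f (nat_lit 16566), Mv.f (nat_lit 16312), Mv.b (nat_lit 8064), Mv.f (nat_lit 12098), Mv.f (nat_lit 12096), Mv.f (nat_lit 12041), Mv.b (nat_lit 12086), Mv.f (nat_lit 12088), Mv.f (nat_lit 10631)]))))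
(Tr.nd (nat_lit 16569) (Tr.lf (Fc.ed (nat_lit 16568) (nat_lit 4131) Col.gi (nat_lit 2566) (Dv.wd (nat_lit 128) [Mv.b (nat_lit 15230), Mv.b (nat_lit 16567)])))
(Tr.nd (nat_lit 16570) (Tr.lf (Fc.al (nat_lit 16569) (nat_lit 5638) (nat_lit 6384) (Dv.wd (nat_lit 13) [Mv.b (nat_lit 15938), Mv.b (nat_lit 10824), Mv.f (nat_lit 16568), Mv.f (nat_lit 14355)])))
(Tr.lf (Fc.ed (nat_lit 16570) (nat_lit 5638) Col.a (nat_lit 4871) (Dv.wd (nat_lit 29) [Mv.f (nat_lit 16535), Mv.b (nat_lit 16569)]))))))))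
(Tr.nd (nat_lit 16581) (Tr.nd (nat_lit 16576) (Tr.nd (nat_lit 16573) (Tr.nd (nat_lit 16572) (Tr.lf (Fc.ed (nat_lit 16571) (nat_lit 5638) Col.b (nat_lit 6052) (Dv.wd (nat_lit 119) [Mv.b (nat_lit 15940), Mv.b (nat_lit 16569)])))
(Tr.lf (Fc.ed (nat_lit 16572) (nat_lit 5638) Col.d (nat_lit 5413) (Dv.wd (nat_lit 120) [Mv.b (nat_lit 15941), Mv.b (nat_lit 16569)]))))
(Tr.nd (nat_lit 16574) (Tr.lf (Fc.ed (nat_lit 16573) (nat_lit 4076) Col.g (nat_lit 5584) (Dv.wd (nat_lit 17) [Mv.f (nat_lit 16307), Mv.f (nat_lit 16522), Mv.b (nat_lit 12587)])))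
(Tr.nd (nat_lit 16575) (Tr.lf (Fc.ed (nat_lit 16574) (nat_lit 6059) Col.f (nat_lit 5472) (Dv.wd (nat_lit 11) [Mv.f (nat_lit 14042), Mv.f (nat_lit 16505), Mv.b (nat_lit 15263)])))
(Tr.lf (Fc.ed (nat_lit 16575) (nat_lit 4185) Col.e (nat_lit 5219) (Dv.wd (nat_lit 56) [Mv.b (nat_lit 13464), Mv.f (nat_lit 16414), Mv.b (nat_lit 13106)]))))))
(Tr.nd (nat_lit 16578) (Tr.nd (nat_lit 16577) (Tr.lf (Fc.ed (nat_lit 16576) (nat_lit 5453) Col.e (nat_lit 5427) (Dv.wd (nat_lit 146) [Mv.b (nat_lit 13912), Mv.f (nat_lit 6280), Mv.b (nat_lit 5005), Mv.b (nat_lit 5004), Mv.b (nat_lit 5410), Mv.f (nat_lit 11937), Mv.f (nat_lit 12331), Mv.f (nat_lit 16343), Mv.b (nat_lit 13077), Mv.b (nat_lit 14008)])))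
(Tr.lf (Fc.ed (nat_lit 16577) (nat_lit 4605) Col.f (nat_lit 5453) (Dv.wd (nat_lit 61) [Mv.f (nat_lit 16576), Mv.b (nat_lit 14829), Mv.b (nat_lit 14830), Mv.b (nat_lit 14343), Mv.f (nat_lit 16560)]))))
(Tr.nd (nat_lit 16579) (Tr.lf (Fc.ed (nat_lit 16578) (nat_lit 5326) Col.a (nat_lit 4605) (Dv.wd (nat_lit 114) [Mv.f (nat_lit 16577), Mv.f (nat_lit 14008), Mv.b (nat_lit 13718)])))
(Tr.nd (nat_lit 16580) (Tr.lf (Fc.al (nat_lit 16579) (nat_lit 5522) (nat_lit 6360) (Dv.wd (nat_lit 72) [Mv.b (nat_lit 15894), Mv.f (nat_lit 16578), Mv.b (nat_lit 16560), Mv.f (nat_lit 14132)])))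
(Tr.lf (Fc.al (nat_lit 16580) (nat_lit 5362) (nat_lit 6007) (Dv.wd (nat_lit 120) [Mv.b (nat_lit 15897), Mv.b (nat_lit 16579), Mv.b (nat_lit 16559)])))))))
(Tr.nd (nat_lit 16586) (Tr.nd (nat_lit 16583) (Tr.nd (nat_lit 16582) (Tr.lf (Fc.al (nat_lit 16581) (nat_lit 5917) (nat_lit 4642) (Dv.wd (nat_lit 129) [Mv.b (nat_lit 15173), Mv.b (nat_lit 16580), Mv.b (nat_lit 14974)])))
(Tr.lf (Fc.al (nat_lit 16582) (nat_lit 4761) (nat_lit 5548) (Dv.wd (nat_lit 129) [Mv.f (nat_lit 14973), Mv.f (nat_lit 16581), Mv.f (nat_lit 12484)]))))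
(Tr.nd (nat_lit 16584) (Tr.lf (Fc.al (nat_lit 16583) (nat_lit 3985) (nat_lit 5632) (Dv.wd (nat_lit 120) [Mv.b (nat_lit 16556), Mv.b (nat_lit 16582), Mv.b (nat_lit 16353)])))
(Tr.nd (nat_lit 16585) (Tr.lf (Fc.al (nat_lit 16584) (nat_lit 4111) (nat_lit 5858) (Dv.wd (nat_lit 117) [Mv.b (nat_lit 14830), Mv.b (nat_lit 16583), Mv.f (nat_lit 10598)])))
(Tr.lf (Fc.al (nat_lit 16585) (nat_lit 2246) (nat_lit 3948) (Dv.wd (nat_lit 120) [Mv.f (nat_lit 14827), Mv.b (nat_lit 16584), Mv.b (nat_lit 12329)]))))))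
(Tr.nd (nat_lit 16589) (Tr.nd (nat_lit 16587) (Tr.lf (Fc.al (nat_lit 16586) (nat_lit 2146) (nat_lit 4335) (Dv.wd (nat_lit 129) [Mv.b (nat_lit 11125), Mv.b (nat_lit 16585), Mv.b (nat_lit 6162)])))
(Tr.nd (nat_lit 16588) (Tr.lf (Fc.al (nat_lit 16587) (nat_lit 5161) (nat_lit 4943) (Dv.wd (nat_lit 119) [Mv.f (nat_lit 12845), Mv.b (nat_lit 16585), Mv.f (nat_lit 13335)])))
(Tr.lf (Fc.al (nat_lit 16588) (nat_lit 3931) (nat_lit 2591) (Dv.wd (nat_lit 129) [Mv.b (nat_lit 11126), Mv.b (nat_lit 16586), Mv.f (nat_lit 9692)])))))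
(Tr.nd (nat_lit 16590) (Tr.lf (Fc.ed (nat_lit 16589) (nat_lit 4943) Col.b (nat_lit 2246) (Dv.wd (nat_lit 119) [Mv.f (nat_lit 13335), Mv.f (nat_lit 16587)])))
(Tr.nd (nat_lit 16591) (Tr.lf (Fc.ed (nat_lit 16590) (nat_lit 2591) Col.e (nat_lit 4405) (Dv.wd (nat_lit 117) [Mv.b (nat_lit 11331), Mv.f (nat_lit 16588)])))
(Tr.lf (Fc.ed (nat_lit 16591) (nat_lit 4405) Col.a (nat_lit 3740) (Dv.wd (nat_lit 15) [Mv.b (nat_lit 9324), Mv.b (nat_lit 6949), Mv.f (nat_lit 16590)])))))))))))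
(Tr.nd (nat_lit 16674) (Tr.nd (nat_lit 16633) (Tr.nd (nat_lit 16612) (Tr.nd (nat_lit 16602) (Tr.nd (nat_lit 16597) (Tr.nd (nat_lit 16594) (Tr.nd (nat_lit 16593) (Tr.lf (Fc.al (nat_lit 16592) (nat_lit 5086) (nat_lit 4359) (Dv.wd (nat_lit 97) [Mv.b (nat_lit 11332), Mv.f (nat_lit 16591), Mv.b (nat_lit 10506), Mv.f (nat_lit 13180)])))
(Tr.lf (Fc.al (nat_lit 16593) (nat_lit 4826) (nat_lit 3194) (Dv.wd (nat_lit 29) [Mv.f (nat_lit 13180), Mv.f (nat_lit 16592), Mv.f (nat_lit 12607)]))))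
(Tr.nd (nat_lit 16595) (Tr.lf (Fc.al (nat_lit 16594) (nat_lit 3435) (nat_lit 5517) (Dv.wd (nat_lit 119) [Mv.b (nat_lit 14119), Mv.f (nat_lit 16593), Mv.b (nat_lit 8738)])))
(Tr.nd (nat_lit 16596) (Tr.lf (Fc.al (nat_lit 16595) (nat_lit 5111) (nat_lit 3627) (Dv.wd (nat_lit 30) [Mv.b (nat_lit 12608), Mv.f (nat_lit 16593), Mv.f (nat_lit 13232)])))
(Tr.lf (Fc.al (nat_lit 16596) (nat_lit 5775) (nat_lit 5518) (Dv.wd (nat_lit 29) [Mv.f (nat_lit 14121), Mv.b (nat_lit 16594), Mv.f (nat_lit 14653)]))))))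
(Tr.nd (nat_lit 16599) (Tr.nd (nat_lit 16598) (Tr.lf (Fc.al (nat_lit 16597) (nat_lit 2178) (nat_lit 4860) (Dv.wd (nat_lit 103) [Mv.f (nat_lit 14117), Mv.b (nat_lit 16594), Mv.b (nat_lit 8737)])))
(Tr.lf (Fc.al (nat_lit 16598) (nat_lit 4081) (nat_lit 3664) (Dv.wd (nat_lit 30) [Mv.b (nat_lit 14118), Mv.b (nat_lit 16594), Mv.b (nat_lit 9949)]))))
(Tr.nd (nat_lit 16600) (Tr.lf (Fc.ed (nat_lit 16599) (nat_lit 3627) Col.d (nat_lit 6326) (Dv.wd (nat_lit 120) [Mv.b (nat_lit 15829), Mv.f (nat_lit 16595)])))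
(Tr.nd (nat_lit 16601) (Tr.lf (Fc.ed (nat_lit 16600) (nat_lit 5518) Col.a (nat_lit 3435) (Dv.wd (nat_lit 29) [Mv.f (nat_lit 14653), Mv.f (nat_lit 16596)])))
(Tr.lf (Fc.al (nat_lit 16601) (nat_lit 2920) (nat_lit 3660) (Dv.wd (nat_lit 103) [Mv.b (nat_lit 14654), Mv.f (nat_lit 16596), Mv.b (nat_lit 14120)])))))))
(Tr.nd (nat_lit 16607) (Tr.nd (nat_lit 16604) (Tr.nd (nat_lit 16603) (Tr.lf (Fc.al (nat_lit 16602) (nat_lit 5843) (nat_lit 5280) (Dv.wd (nat_lit 30) [Mv.b (nat_lit 14655), Mv.f (nat_lit 16596), Mv.b (nat_lit 14799)])))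
(Tr.lf (Fc.ed (nat_lit 16603) (nat_lit 2178) Col.e (nat_lit 6272) (Dv.wd (nat_lit 117) [Mv.b (nat_lit 15664), Mv.b (nat_lit 16597)]))))
(Tr.nd (nat_lit 16605) (Tr.lf (Fc.al (nat_lit 16604) (nat_lit 3188) (nat_lit 3456) (Dv.wd (nat_lit 30) [Mv.b (nat_lit 12680), Mv.b (nat_lit 16597), Mv.f (nat_lit 8235)])))
(Tr.nd (nat_lit 16606) (Tr.lf (Fc.ed (nat_lit 16605) (nat_lit 3664) Col.f (nat_lit 3435) (Dv.wd (nat_lit 30) [Mv.b (nat_lit 9949), Mv.f (nat_lit 16598)])))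
(Tr.lf (Fc.al (nat_lit 16606) (nat_lit 1749) (nat_lit 4617) (Dv.wd (nat_lit 128) [Mv.b (nat_lit 11714), Mv.b (nat_lit 16601), Mv.b (nat_lit 7667)]))))))
(Tr.nd (nat_lit 16609) (Tr.nd (nat_lit 16608) (Tr.lf (Fc.ed (nat_lit 16607) (nat_lit 5280) Col.a (nat_lit 3664) (Dv.wd (nat_lit 29) [Mv.f (nat_lit 14798), Mv.f (nat_lit 16602)])))
(Tr.lf (Fc.ed (nat_lit 16608) (nat_lit 5280) Col.e (nat_lit 6328) (Dv.wd (nat_lit 117) [Mv.b (nat_lit 15834), Mv.f (nat_lit 16602)]))))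
(Tr.nd (nat_lit 16610) (Tr.lf (Fc.ed (nat_lit 16609) (nat_lit 5280) Col.f (nat_lit 5518) (Dv.wd (nat_lit 30) [Mv.b (nat_lit 14799), Mv.f (nat_lit 16602)])))
(Tr.nd (nat_lit 16611) (Tr.lf (Fc.ed (nat_lit 16610) (nat_lit 3188) Col.c (nat_lit 3664) (Dv.wd (nat_lit 103) [Mv.b (nat_lit 9167), Mv.b (nat_lit 16604)])))
(Tr.lf (Fc.ed (nat_lit 16611) (nat_lit 1749) Col.g (nat_lit 3188) (Dv.wd (nat_lit 129) [Mv.b (nat_lit 11715), Mv.b (nat_lit 16606)]))))))))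
(Tr.nd (nat_lit 16622) (Tr.nd (nat_lit 16617) (Tr.nd (nat_lit 16614) (Tr.nd (nat_lit 16613) (Tr.lf (Fc.ed (nat_lit 16612) (nat_lit 6326) Col.e (nat_lit 5883) (Dv.wd (nat_lit 131) [Mv.b (nat_lit 14890), Mv.f (nat_lit 13916), Mv.f (nat_lit 9201), Mv.f (nat_lit 16351), Mv.f (nat_lit 11749), Mv.f (nat_lit 10474), Mv.f (nat_lit 5504), Mv.f (nat_lit 5506), Mv.b (nat_lit 9100), Mv.f (nat_lit 16599)])))
(Tr.lf (Fc.ed (nat_lit 16613) (nat_lit 2016) Col.gi (nat_lit 5539) (Dv.wd (nat_lit 88) [Mv.b (nat_lit 14164), Mv.f (nat_lit 16589), Mv.b (nat_lit 6162), Mv.f (nat_lit 10558), Mv.f (nat_lit 10560), Mv.b (nat_lit 5767), Mv.f (nat_lit 4315), Mv.b (nat_lit 4311), Mv.b (nat_lit 4659), Mv.f (nat_lit 5612)]))))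
(Tr.nd (nat_lit 16615) (Tr.lf (Fc.ed (nat_lit 16614) (nat_lit 4606) Col.a (nat_lit 4748) (Dv.wd (nat_lit 23) [Mv.f (nat_lit 12464), Mv.f (nat_lit 16613), Mv.f (nat_lit 14163)])))
(Tr.nd (nat_lit 16616) (Tr.lf (Fc.ed (nat_lit 16615) (nat_lit 5156) Col.gi (nat_lit 4255) (Dv.wd (nat_lit 71) [Mv.f (nat_lit 13799), Mv.b (nat_lit 13088), Mv.b (nat_lit 14000), Mv.f (nat_lit 16331), Mv.b (nat_lit 11667), Mv.b (nat_lit 12446), Mv.f (nat_lit 11392), Mv.f (nat_lit 11393), Mv.b (nat_lit 15482), Mv.b (nat_lit 15481)])))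
(Tr.lf (Fc.ed (nat_lit 16616) (nat_lit 6316) Col.gi (nat_lit 2243) (Dv.wd (nat_lit 132) [Mv.b (nat_lit 12083), Mv.f (nat_lit 7036), Mv.b (nat_lit 12116), Mv.b (nat_lit 9754), Mv.f (nat_lit 12104), Mv.b (nat_lit 12138), Mv.f (nat_lit 12351), Mv.f (nat_lit 16322), Mv.f (nat_lit 12511), Mv.f (nat_lit 15807)]))))))
(Tr.nd (nat_lit 16619) (Tr.nd (nat_lit 16618) (Tr.lf (Fc.ed (nat_lit 16617) (nat_lit 5656) Col.gi (nat_lit 6316) (Dv.wd (nat_lit 12) [Mv.f (nat_lit 16616), Mv.f (nat_lit 11429), Mv.b (nat_lit 14393)])))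
(Tr.lf (Fc.al (nat_lit 16618) (nat_lit 6072) (nat_lit 6377) (Dv.wd (nat_lit 12) [Mv.f (nat_lit 15928), Mv.f (nat_lit 16617), Mv.f (nat_lit 16564), Mv.b (nat_lit 15288)]))))
(Tr.nd (nat_lit 16620) (Tr.lf (Fc.ed (nat_lit 16619) (nat_lit 6072) Col.gi (nat_lit 5656) (Dv.wd (nat_lit 128) [Mv.b (nat_lit 15928), Mv.b (nat_lit 16618)])))
(Tr.nd (nat_lit 16621) (Tr.lf (Fc.ed (nat_lit 16620) (nat_lit 6232) Col.gi (nat_lit 5991) (Dv.wd (nat_lit 102) [Mv.f (nat_lit 15144), Mv.b (nat_lit 7685), Mv.f (nat_lit 4223), Mv.b (nat_lit 5750), Mv.f (nat_lit 11180), Mv.f (nat_lit 16315), Mv.f (nat_lit 16512), Mv.f (nat_lit 16619), Mv.f (nat_lit 14394), Mv.f (nat_lit 15587)])))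
(Tr.lf (Fc.ed (nat_lit 16621) (nat_lit 5869) Col.a (nat_lit 5295) (Dv.wd (nat_lit 114) [Mv.b (nat_lit 13619), Mv.f (nat_lit 12462), Mv.f (nat_lit 16132)])))))))
(Tr.nd (nat_lit 16627) (Tr.nd (nat_lit 16624) (Tr.nd (nat_lit 16623) (Tr.lf (Fc.ed (nat_lit 16622) (nat_lit 5295) Col.d (nat_lit 6099) (Dv.wd (nat_lit 28) [Mv.b (nat_lit 16262), Mv.b (nat_lit 15283), Mv.f (nat_lit 16621)])))
(Tr.lf (Fc.ed (nat_lit 16623) (nat_lit 5295) Col.e (nat_lit 4787) (Dv.wd (nat_lit 56) [Mv.f (nat_lit 14455), Mv.f (nat_lit 16285), Mv.f (nat_lit 16621)]))))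
(Tr.nd (nat_lit 16625) (Tr.lf (Fc.ed (nat_lit 16624) (nat_lit 4374) Col.e (nat_lit 4747) (Dv.wd (nat_lit 57) [Mv.f (nat_lit 13619), Mv.f (nat_lit 16623), Mv.f (nat_lit 12536), Mv.b (nat_lit 10594), Mv.b (nat_lit 11272)])))
(Tr.nd (nat_lit 16626) (Tr.lf (Fc.ed (nat_lit 16625) (nat_lit 4069) Col.g (nat_lit 5295) (Dv.wd (nat_lit 55) [Mv.f (nat_lit 16622), Mv.b (nat_lit 15340), Mv.f (nat_lit 9586), Mv.f (nat_lit 4733), Mv.b (nat_lit 3881), Mv.b (nat_lit 5769), Mv.f (nat_lit 10166), Mv.b (nat_lit 12418), Mv.f (nat_lit 16212), Mv.f (nat_lit 10703)])))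
(Tr.lf (Fc.ed (nat_lit 16626) (nat_lit 5869) Col.f (nat_lit 4228) (Dv.wd (nat_lit 10) [Mv.b (nat_lit 10892), Mv.f (nat_lit 16625), Mv.b (nat_lit 16621)]))))))
(Tr.nd (nat_lit 16630) (Tr.nd (nat_lit 16628) (Tr.lf (Fc.ed (nat_lit 16627) (nat_lit 4228) Col.a (nat_lit 4747) (Dv.wd (nat_lit 16) [Mv.f (nat_lit 13619), Mv.b (nat_lit 16621), Mv.f (nat_lit 16626)])))
(Tr.nd (nat_lit 16629) (Tr.lf (Fc.ed (nat_lit 16628) (nat_lit 4179) Col.e (nat_lit 4228) (Dv.wd (nat_lit 72) [Mv.f (nat_lit 16627), Mv.b (nat_lit 16624), Mv.b (nat_lit 11271)])))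
(Tr.lf (Fc.ed (nat_lit 16629) (nat_lit 5883) Col.d (nat_lit 6404) Dv.df))))
(Tr.nd (nat_lit 16631) (Tr.lf (Fc.ed (nat_lit 16630) (nat_lit 6367) Col.a (nat_lit 6405) Dv.df))
(Tr.nd (nat_lit 16632) (Tr.lf (Fc.ed (nat_lit 16631) (nat_lit 6405) Col.e (nat_lit 3850) (Dv.wd (nat_lit 56) [Mv.f (nat_lit 9857), Mv.f (nat_lit 15909), Mv.f (nat_lit 16630)])))
(Tr.lf (Fc.ed (nat_lit 16632) (nat_lit 6326) Col.b (nat_lit 6406) Dv.df))))))))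
(Tr.nd (nat_lit 16653) (Tr.nd (nat_lit 16643) (Tr.nd (nat_lit 16638) (Tr.nd (nat_lit 16635) (Tr.nd (nat_lit 16634) (Tr.lf (Fc.ed (nat_lit 16633) (nat_lit 6406) Col.d (nat_lit 3664) (Dv.wd (nat_lit 58) [Mv.f (nat_lit 9168), Mv.f (nat_lit 16599), Mv.f (nat_lit 16632)])))
(Tr.lf (Fc.ed (nat_lit 16634) (nat_lit 6406) Col.f (nat_lit 5066) (Dv.wd (nat_lit 20) [Mv.b (nat_lit 13141), Mv.b (nat_lit 15830), Mv.f (nat_lit 16632)]))))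
(Tr.nd (nat_lit 16636) (Tr.lf (Fc.ed (nat_lit 16635) (nat_lit 6175) Col.b (nat_lit 6407) Dv.df))
(Tr.nd (nat_lit 16637) (Tr.lf (Fc.ed (nat_lit 16636) (nat_lit 6407) Col.c (nat_lit 2186) (Dv.wd (nat_lit 93) [Mv.b (nat_lit 6047), Mv.f (nat_lit 3211), Mv.f (nat_lit 4644), Mv.f (nat_lit 15476), Mv.f (nat_lit 16635)])))
(Tr.lf (Fc.ed (nat_lit 16637) (nat_lit 5726) Col.g (nat_lit 6408) Dv.df)))))
(Tr.nd (nat_lit 16640) (Tr.nd (nat_lit 16639) (Tr.lf (Fc.ed (nat_lit 16638) (nat_lit 6408) Col.g (nat_lit 3249) (Dv.wd (nat_lit 9) [Mv.b (nat_lit 14299), Mv.b (nat_lit 14565), Mv.f (nat_lit 16637)])))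
(Tr.lf (Fc.ed (nat_lit 16639) (nat_lit 6390) Col.g (nat_lit 6409) Dv.df)))
(Tr.nd (nat_lit 16641) (Tr.lf (Fc.ed (nat_lit 16640) (nat_lit 6409) Col.d (nat_lit 6324) (Dv.wd (nat_lit 39) [Mv.b (nat_lit 15826), Mv.b (nat_lit 8622), Mv.b (nat_lit 4582), Mv.f (nat_lit 4377), Mv.b (nat_lit 4257), Mv.f (nat_lit 4375), Mv.b (nat_lit 7280), Mv.f (nat_lit 11783), Mv.f (nat_lit 15966), Mv.f (nat_lit 16639)])))
(Tr.nd (nat_lit 16642) (Tr.lf (Fc.ed (nat_lit 16641) (nat_lit 6283) Col.c (nat_lit 6324) (Dv.wd (nat_lit 110) [Mv.b (nat_lit 16640), Mv.b (nat_lit 16639), Mv.b (nat_lit 15966), Mv.b (nat_lit 11783), Mv.b (nat_lit 7278), Mv.b (nat_lit 8482), Mv.f (nat_lit 14124), Mv.f (nat_lit 15449), Mv.b (nat_lit 15747)])))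
(Tr.lf (Fc.ed (nat_lit 16642) (nat_lit 3381) Col.c (nat_lit 4622) (Dv.wd (nat_lit 109) [Mv.f (nat_lit 15746), Mv.f (nat_lit 16641), Mv.b (nat_lit 15826)])))))))
(Tr.nd (nat_lit 16648) (Tr.nd (nat_lit 16645) (Tr.nd (nat_lit 16644) (Tr.lf (Fc.ed (nat_lit 16643) (nat_lit 5480) Col.c (nat_lit 5812) (Dv.wd (nat_lit 67) [Mv.b (nat_lit 14755), Mv.f (nat_lit 16642), Mv.b (nat_lit 14058)])))
(Tr.lf (Fc.ed (nat_lit 16644) (nat_lit 5995) Col.c (nat_lit 4124) (Dv.wd (nat_lit 81) [Mv.f (nat_lit 10619), Mv.b (nat_lit 7796), Mv.b (nat_lit 8623), Mv.f (nat_lit 16642), Mv.b (nat_lit 11724), Mv.b (nat_lit 7278), Mv.b (nat_lit 6069), Mv.b (nat_lit 11093), Mv.b (nat_lit 15151)]))))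
(Tr.nd (nat_lit 16646) (Tr.lf (Fc.ed (nat_lit 16645) (nat_lit 3315) Col.c (nat_lit 4656) (Dv.wd (nat_lit 33) [Mv.f (nat_lit 14057), Mv.f (nat_lit 16643), Mv.f (nat_lit 14756)])))
(Tr.nd (nat_lit 16647) (Tr.lf (Fc.ed (nat_lit 16646) (nat_lit 4689) Col.c (nat_lit 4775) (Dv.wd (nat_lit 109) [Mv.f (nat_lit 12510), Mv.f (nat_lit 16645), Mv.f (nat_lit 11850)])))
(Tr.lf (Fc.ed (nat_lit 16647) (nat_lit 4400) Col.gi (nat_lit 6104) (Dv.wd (nat_lit 78) [Mv.b (nat_lit 15348), Mv.b (nat_lit 11505), Mv.f (nat_lit 6069), Mv.b (nat_lit 8482), Mv.f (nat_lit 16645), Mv.f (nat_lit 11784), Mv.f (nat_lit 11656), Mv.f (nat_lit 7796), Mv.b (nat_lit 11322)]))))))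
(Tr.nd (nat_lit 16650) (Tr.nd (nat_lit 16649) (Tr.lf (Fc.ed (nat_lit 16648) (nat_lit 6104) Col.gi (nat_lit 4315) (Dv.wd (nat_lit 24) [Mv.f (nat_lit 11320), Mv.f (nat_lit 11321), Mv.f (nat_lit 16647)])))
(Tr.lf (Fc.ed (nat_lit 16649) (nat_lit 5422) Col.d (nat_lit 6410) Dv.df)))
(Tr.nd (nat_lit 16651) (Tr.lf (Fc.ed (nat_lit 16650) (nat_lit 6410) Col.e (nat_lit 6224) (Dv.wd (nat_lit 42) [Mv.b (nat_lit 15574), Mv.f (nat_lit 8268), Mv.f (nat_lit 6032), Mv.b (nat_lit 13904), Mv.f (nat_lit 16649)])))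
(Tr.nd (nat_lit 16652) (Tr.lf (Fc.ed (nat_lit 16651) (nat_lit 5164) Col.gi (nat_lit 6411) Dv.df))
(Tr.lf (Fc.ed (nat_lit 16652) (nat_lit 5162) Col.a (nat_lit 6412) Dv.df)))))))
(Tr.nd (nat_lit 16663) (Tr.nd (nat_lit 16658) (Tr.nd (nat_lit 16655) (Tr.nd (nat_lit 16654) (Tr.lf (Fc.ed (nat_lit 16653) (nat_lit 6412) Col.f (nat_lit 5421) (Dv.wd (nat_lit 10) [Mv.b (nat_lit 13901), Mv.b (nat_lit 13337), Mv.f (nat_lit 16652)])))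
(Tr.lf (Fc.ed (nat_lit 16654) (nat_lit 6337) Col.gi (nat_lit 6413) Dv.df)))
(Tr.nd (nat_lit 16656) (Tr.lf (Fc.ed (nat_lit 16655) (nat_lit 2334) Col.c (nat_lit 6414) Dv.df))
(Tr.nd (nat_lit 16657) (Tr.lf (Fc.ed (nat_lit 16656) (nat_lit 6414) Col.f (nat_lit 6407) (Dv.wd (nat_lit 26) [Mv.f (nat_lit 16636), Mv.f (nat_lit 6372), Mv.f (nat_lit 16655)])))
(Tr.lf (Fc.ed (nat_lit 16657) (nat_lit 5367) Col.e (nat_lit 6415) Dv.df)))))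
(Tr.nd (nat_lit 16660) (Tr.nd (nat_lit 16659) (Tr.lf (Fc.ed (nat_lit 16658) (nat_lit 6415) Col.d (nat_lit 4747) (Dv.wd (nat_lit 59) [Mv.b (nat_lit 16624), Mv.f (nat_lit 16246), Mv.f (nat_lit 16234), Mv.b (nat_lit 13795), Mv.f (nat_lit 16657)])))
(Tr.lf (Fc.ed (nat_lit 16659) (nat_lit 6415) Col.f (nat_lit 6099) (Dv.wd (nat_lit 96) [Mv.b (nat_lit 15340), Mv.f (nat_lit 16254), Mv.b (nat_lit 10185), Mv.f (nat_lit 13794), Mv.f (nat_lit 16657)]))))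
(Tr.nd (nat_lit 16661) (Tr.lf (Fc.ed (nat_lit 16660) (nat_lit 5892) Col.f (nat_lit 6416) Dv.df))
(Tr.nd (nat_lit 16662) (Tr.lf (Fc.ed (nat_lit 16661) (nat_lit 6416) Col.a (nat_lit 4935) (Dv.wd (nat_lit 23) [Mv.b (nat_lit 12828), Mv.b (nat_lit 14907), Mv.f (nat_lit 16660)])))
(Tr.lf (Fc.ed (nat_lit 16662) (nat_lit 4729) Col.d (nat_lit 6417) Dv.df))))))
(Tr.nd (nat_lit 16668) (Tr.nd (nat_lit 16665) (Tr.nd (nat_lit 16664) (Tr.lf (Fc.ed (nat_lit 16663) (nat_lit 6396) Col.c (nat_lit 6418) Dv.df))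
(Tr.lf (Fc.ed (nat_lit 16664) (nat_lit 6418) Col.d (nat_lit 6154) (Dv.wd (nat_lit 95) [Mv.b (nat_lit 15436), Mv.f (nat_lit 15438), Mv.f (nat_lit 15695), Mv.b (nat_lit 15729), Mv.b (nat_lit 10765), Mv.b (nat_lit 14840), Mv.f (nat_lit 13744), Mv.b (nat_lit 15977), Mv.f (nat_lit 16663)]))))
(Tr.nd (nat_lit 16666) (Tr.lf (Fc.ed (nat_lit 16665) (nat_lit 5596) Col.b (nat_lit 6418) (Dv.wd (nat_lit 126) [Mv.f (nat_lit 16664), Mv.f (nat_lit 15961), Mv.b (nat_lit 15959)])))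
(Tr.nd (nat_lit 16667) (Tr.lf (Fc.ed (nat_lit 16666) (nat_lit 6060) Col.d (nat_lit 6419) Dv.df))
(Tr.lf (Fc.ed (nat_lit 16667) (nat_lit 6419) Col.e (nat_lit 5723) (Dv.wd (nat_lit 42) [Mv.b (nat_lit 14556), Mv.f (nat_lit 9688), Mv.b (nat_lit 10151), Mv.f (nat_lit 15264), Mv.f (nat_lit 16666)]))))))
(Tr.nd (nat_lit 16671) (Tr.nd (nat_lit 16669) (Tr.lf (Fc.ed (nat_lit 16668) (nat_lit 6060) Col.f (nat_lit 6419) (Dv.wd (nat_lit 61) [Mv.f (nat_lit 16667), Mv.f (nat_lit 14557), Mv.b (nat_lit 10771), Mv.b (nat_lit 7534), Mv.f (nat_lit 15264)])))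
(Tr.nd (nat_lit 16670) (Tr.lf (Fc.ed (nat_lit 16669) (nat_lit 5353) Col.a (nat_lit 6420) Dv.df))
(Tr.lf (Fc.ed (nat_lit 16670) (nat_lit 6156) Col.c (nat_lit 6421) Dv.df))))
(Tr.nd (nat_lit 16672) (Tr.lf (Fc.ed (nat_lit 16671) (nat_lit 6418) Col.g (nat_lit 6422) Dv.df))
(Tr.nd (nat_lit 16673) (Tr.lf (Fc.ed (nat_lit 16672) (nat_lit 6422) Col.d (nat_lit 5676) (Dv.wd (nat_lit 85) [Mv.b (nat_lit 14423), Mv.b (nat_lit 4179), Mv.f (nat_lit 6617), Mv.f (nat_lit 14836), Mv.f (nat_lit 9528), Mv.f (nat_lit 14758), Mv.f (nat_lit 15434), Mv.b (nat_lit 16664), Mv.f (nat_lit 16671)])))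
(Tr.lf (Fc.ed (nat_lit 16673) (nat_lit 3232) Col.g (nat_lit 6423) Dv.df)))))))))
(Tr.nd (nat_lit 16715) (Tr.nd (nat_lit 16694) (Tr.nd (nat_lit 16684) (Tr.nd (nat_lit 16679) (Tr.nd (nat_lit 16676) (Tr.nd (nat_lit 16675) (Tr.lf (Fc.ed (nat_lit 16674) (nat_lit 5274) Col.c (nat_lit 6424) Dv.df))
(Tr.lf (Fc.ed (nat_lit 16675) (nat_lit 6424) Col.a (nat_lit 5962) (Dv.wd (nat_lit 19) [Mv.b (nat_lit 15092), Mv.f (nat_lit 13577), Mv.f (nat_lit 16674)]))))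
(Tr.nd (nat_lit 16677) (Tr.lf (Fc.ed (nat_lit 16676) (nat_lit 6424) Col.f (nat_lit 5872) (Dv.wd (nat_lit 26) [Mv.b (nat_lit 14872), Mv.b (nat_lit 13578), Mv.f (nat_lit 16674)])))
(Tr.nd (nat_lit 16678) (Tr.lf (Fc.ed (nat_lit 16677) (nat_lit 4956) Col.g (nat_lit 6425) Dv.df))
(Tr.lf (Fc.ed (nat_lit 16678) (nat_lit 6425) Col.e (nat_lit 6120) (Dv.wd (nat_lit 47) [Mv.b (nat_lit 16513), Mv.b (nat_lit 13847), Mv.f (nat_lit 12136), Mv.f (nat_lit 12448), Mv.f (nat_lit 10207), Mv.f (nat_lit 10211), Mv.b (nat_lit 10370), Mv.f (nat_lit 10498), Mv.b (nat_lit 12873), Mv.f (nat_lit 16677)]))))))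
(Tr.nd (nat_lit 16681) (Tr.nd (nat_lit 16680) (Tr.lf (Fc.ed (nat_lit 16679) (nat_lit 4882) Col.a (nat_lit 6425) (Dv.wd (nat_lit 31) [Mv.f (nat_lit 16678), Mv.f (nat_lit 15379), Mv.f (nat_lit 14043)])))
(Tr.lf (Fc.ed (nat_lit 16680) (nat_lit 4956) Col.gi (nat_lit 4305) (Dv.wd (nat_lit 24) [Mv.f (nat_lit 16517), Mv.f (nat_lit 16679), Mv.b (nat_lit 16677)]))))
(Tr.nd (nat_lit 16682) (Tr.lf (Fc.ed (nat_lit 16681) (nat_lit 3355) Col.c (nat_lit 6426) Dv.df))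
(Tr.nd (nat_lit 16683) (Tr.lf (Fc.ed (nat_lit 16682) (nat_lit 5354) Col.e (nat_lit 6427) Dv.df))
(Tr.lf (Fc.ed (nat_lit 16683) (nat_lit 5802) Col.c (nat_lit 6428) Dv.df))))))
(Tr.nd (nat_lit 16689) (Tr.nd (nat_lit 16686) (Tr.nd (nat_lit 16685) (Tr.lf (Fc.ed (nat_lit 16684) (nat_lit 6428) Col.d (nat_lit 6383) (Dv.wd (nat_lit 95) [Mv.b (nat_lit 15937), Mv.b (nat_lit 15951), Mv.b (nat_lit 12319), Mv.b (nat_lit 12320), Mv.f (nat_lit 9803), Mv.f (nat_lit 12674), Mv.f (nat_lit 13537), Mv.f (nat_lit 14732), Mv.f (nat_lit 16683)])))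
(Tr.lf (Fc.ed (nat_lit 16685) (nat_lit 4429) Col.b (nat_lit 6429) Dv.df)))
(Tr.nd (nat_lit 16687) (Tr.lf (Fc.ed (nat_lit 16686) (nat_lit 6429) Col.d (nat_lit 5371) (Dv.wd (nat_lit 58) [Mv.b (nat_lit 13804), Mv.b (nat_lit 16548), Mv.f (nat_lit 16685)])))
(Tr.nd (nat_lit 16688) (Tr.lf (Fc.ed (nat_lit 16687) (nat_lit 5005) Col.d (nat_lit 6430) Dv.df))
(Tr.lf (Fc.ed (nat_lit 16688) (nat_lit 6430) Col.f (nat_lit 6224) (Dv.wd (nat_lit 11) [Mv.b (nat_lit 15574), Mv.b (nat_lit 13014), Mv.f (nat_lit 16687)]))))))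
(Tr.nd (nat_lit 16691) (Tr.nd (nat_lit 16690) (Tr.lf (Fc.ed (nat_lit 16689) (nat_lit 5357) Col.d (nat_lit 6431) Dv.df))
(Tr.lf (Fc.ed (nat_lit 16690) (nat_lit 6431) Col.a (nat_lit 6410) (Dv.wd (nat_lit 8) [Mv.b (nat_lit 16649), Mv.b (nat_lit 13903), Mv.f (nat_lit 16689)]))))
(Tr.nd (nat_lit 16692) (Tr.lf (Fc.ed (nat_lit 16691) (nat_lit 3825) Col.g (nat_lit 6432) Dv.df))
(Tr.nd (nat_lit 16693) (Tr.lf (Fc.ed (nat_lit 16692) (nat_lit 5251) Col.f (nat_lit 6433) Dv.df))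
(Tr.lf (Fc.ed (nat_lit 16693) (nat_lit 3194) Col.e (nat_lit 6434) Dv.df)))))))
(Tr.nd (nat_lit 16704) (Tr.nd (nat_lit 16699) (Tr.nd (nat_lit 16696) (Tr.nd (nat_lit 16695) (Tr.lf (Fc.ed (nat_lit 16694) (nat_lit 6434) Col.d (nat_lit 5453) (Dv.wd (nat_lit 59) [Mv.f (nat_lit 16576), Mv.b (nat_lit 13912), Mv.f (nat_lit 9324), Mv.b (nat_lit 10506), Mv.f (nat_lit 16693)])))
(Tr.lf (Fc.ed (nat_lit 16695) (nat_lit 5685) Col.c (nat_lit 6435) Dv.df)))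
(Tr.nd (nat_lit 16697) (Tr.lf (Fc.ed (nat_lit 16696) (nat_lit 4809) Col.d (nat_lit 6436) Dv.df))
(Tr.nd (nat_lit 16698) (Tr.lf (Fc.ed (nat_lit 16697) (nat_lit 6436) Col.a (nat_lit 6098) (Dv.wd (nat_lit 8) [Mv.b (nat_lit 15339), Mv.f (nat_lit 12577), Mv.f (nat_lit 16696)])))
(Tr.lf (Fc.ed (nat_lit 16698) (nat_lit 6120) Col.gi (nat_lit 6437) Dv.df)))))
(Tr.nd (nat_lit 16701) (Tr.nd (nat_lit 16700) (Tr.lf (Fc.ed (nat_lit 16699) (nat_lit 6437) Col.gi (nat_lit 6059) (Dv.wd (nat_lit 24) [Mv.f (nat_lit 16574), Mv.b (nat_lit 15379), Mv.f (nat_lit 16698)])))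
(Tr.lf (Fc.ed (nat_lit 16700) (nat_lit 4989) Col.d (nat_lit 6437) (Dv.wd (nat_lit 162) [Mv.f (nat_lit 16699), Mv.f (nat_lit 15263), Mv.f (nat_lit 16312), Mv.b (nat_lit 8064), Mv.f (nat_lit 12098), Mv.f (nat_lit 12096), Mv.f (nat_lit 12041), Mv.b (nat_lit 16338), Mv.f (nat_lit 16336), Mv.b (nat_lit 12987)]))))
(Tr.nd (nat_lit 16702) (Tr.lf (Fc.ed (nat_lit 16701) (nat_lit 6437) Col.b (nat_lit 4473) (Dv.wd (nat_lit 37) [Mv.f (nat_lit 16190), Mv.b (nat_lit 12986), Mv.f (nat_lit 16700)])))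
(Tr.nd (nat_lit 16703) (Tr.lf (Fc.ed (nat_lit 16702) (nat_lit 6208) Col.e (nat_lit 6437) (Dv.wd (nat_lit 82) [Mv.f (nat_lit 16701), Mv.f (nat_lit 16191), Mv.b (nat_lit 15533)])))
(Tr.lf (Fc.ed (nat_lit 16703) (nat_lit 4308) Col.a (nat_lit 6438) Dv.df))))))
(Tr.nd (nat_lit 16709) (Tr.nd (nat_lit 16706) (Tr.nd (nat_lit 16705) (Tr.lf (Fc.ed (nat_lit 16704) (nat_lit 6438) Col.c (nat_lit 3812) (Dv.wd (nat_lit 33) [Mv.f (nat_lit 16261), Mv.f (nat_lit 11078), Mv.f (nat_lit 16703)])))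
(Tr.lf (Fc.ed (nat_lit 16705) (nat_lit 6208) Col.d (nat_lit 6439) Dv.df)))
(Tr.nd (nat_lit 16707) (Tr.lf (Fc.ed (nat_lit 16706) (nat_lit 6439) Col.b (nat_lit 4195) (Dv.wd (nat_lit 37) [Mv.f (nat_lit 12925), Mv.b (nat_lit 15533), Mv.f (nat_lit 16705)])))
(Tr.nd (nat_lit 16708) (Tr.lf (Fc.ed (nat_lit 16707) (nat_lit 6439) Col.gi (nat_lit 6429) (Dv.wd (nat_lit 71) [Mv.f (nat_lit 16686), Mv.f (nat_lit 13805), Mv.b (nat_lit 10207), Mv.b (nat_lit 12448), Mv.b (nat_lit 12136), Mv.f (nat_lit 13847), Mv.f (nat_lit 16513), Mv.f (nat_lit 16698), Mv.b (nat_lit 16702), Mv.f (nat_lit 16705)])))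
(Tr.lf (Fc.ed (nat_lit 16708) (nat_lit 6133) Col.f (nat_lit 6440) Dv.df)))))
(Tr.nd (nat_lit 16712) (Tr.nd (nat_lit 16710) (Tr.lf (Fc.ed (nat_lit 16709) (nat_lit 6440) Col.b (nat_lit 2239) (Dv.wd (nat_lit 66) [Mv.b (nat_lit 6346), Mv.b (nat_lit 15404), Mv.f (nat_lit 16708)])))
(Tr.nd (nat_lit 16711) (Tr.lf (Fc.ed (nat_lit 16710) (nat_lit 6374) Col.e (nat_lit 6441) Dv.df))
(Tr.lf (Fc.ed (nat_lit 16711) (nat_lit 4967) Col.e (nat_lit 6442) Dv.df))))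
(Tr.nd (nat_lit 16713) (Tr.lf (Fc.ed (nat_lit 16712) (nat_lit 2177) Col.gi (nat_lit 6443) Dv.df))
(Tr.nd (nat_lit 16714) (Tr.lf (Fc.ed (nat_lit 16713) (nat_lit 6443) Col.gi (nat_lit 5974) (Dv.wd (nat_lit 24) [Mv.b (nat_lit 15306), Mv.b (nat_lit 15304), Mv.f (nat_lit 16712)])))
(Tr.lf (Fc.ed (nat_lit 16714) (nat_lit 4228) Col.d (nat_lit 6444) Dv.df))))))))
(Tr.nd (nat_lit 16735) (Tr.nd (nat_lit 16725) (Tr.nd (nat_lit 16720) (Tr.nd (nat_lit 16717) (Tr.nd (nat_lit 16716) (Tr.lf (Fc.ed (nat_lit 16715) (nat_lit 6444) Col.a (nat_lit 6415) (Dv.wd (nat_lit 8) [Mv.f (nat_lit 16658), Mv.b (nat_lit 16627), Mv.f (nat_lit 16714)])))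
(Tr.lf (Fc.ed (nat_lit 16716) (nat_lit 6444) Col.f (nat_lit 6070) (Dv.wd (nat_lit 11) [Mv.b (nat_lit 15283), Mv.f (nat_lit 16626), Mv.f (nat_lit 16714)]))))
(Tr.nd (nat_lit 16718) (Tr.lf (Fc.ed (nat_lit 16717) (nat_lit 6409) Col.g (nat_lit 6445) Dv.df))
(Tr.nd (nat_lit 16719) (Tr.lf (Fc.ed (nat_lit 16718) (nat_lit 6368) Col.e (nat_lit 6446) Dv.df))
(Tr.lf (Fc.ed (nat_lit 16719) (nat_lit 6446) Col.gi (nat_lit 5442) (Dv.wd (nat_lit 132) [Mv.b (nat_lit 13983), Mv.f (nat_lit 12122), Mv.b (nat_lit 16201), Mv.f (nat_lit 6221), Mv.b (nat_lit 16206), Mv.f (nat_lit 10829), Mv.f (nat_lit 12925), Mv.f (nat_lit 15469), Mv.f (nat_lit 16293), Mv.f (nat_lit 16718)]))))))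
(Tr.nd (nat_lit 16722) (Tr.nd (nat_lit 16721) (Tr.lf (Fc.ed (nat_lit 16720) (nat_lit 4433) Col.c (nat_lit 6447) Dv.df))
(Tr.lf (Fc.ed (nat_lit 16721) (nat_lit 6447) Col.a (nat_lit 4560) (Dv.wd (nat_lit 19) [Mv.f (nat_lit 11611), Mv.b (nat_lit 16106), Mv.f (nat_lit 16720)]))))
(Tr.nd (nat_lit 16723) (Tr.lf (Fc.ed (nat_lit 16722) (nat_lit 5192) Col.c (nat_lit 6448) Dv.df))
(Tr.nd (nat_lit 16724) (Tr.lf (Fc.ed (nat_lit 16723) (nat_lit 5754) Col.b (nat_lit 6449) Dv.df))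
(Tr.lf (Fc.ed (nat_lit 16724) (nat_lit 6449) Col.c (nat_lit 6259) (Dv.wd (nat_lit 93) [Mv.f (nat_lit 15643), Mv.f (nat_lit 14049), Mv.f (nat_lit 14763), Mv.f (nat_lit 14764), Mv.f (nat_lit 16723)])))))))
(Tr.nd (nat_lit 16730) (Tr.nd (nat_lit 16727) (Tr.nd (nat_lit 16726) (Tr.lf (Fc.ed (nat_lit 16725) (nat_lit 4849) Col.d (nat_lit 6450) Dv.df))
(Tr.lf (Fc.ed (nat_lit 16726) (nat_lit 6450) Col.c (nat_lit 6422) (Dv.wd (nat_lit 80) [Mv.f (nat_lit 16672), Mv.b (nat_lit 14423), Mv.b (nat_lit 4179), Mv.f (nat_lit 4173), Mv.f (nat_lit 5034), Mv.f (nat_lit 5036), Mv.f (nat_lit 6822), Mv.f (nat_lit 12657), Mv.f (nat_lit 16725)]))))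
(Tr.nd (nat_lit 16728) (Tr.lf (Fc.ed (nat_lit 16727) (nat_lit 6274) Col.b (nat_lit 6451) Dv.df))
(Tr.nd (nat_lit 16729) (Tr.lf (Fc.ed (nat_lit 16728) (nat_lit 6451) Col.c (nat_lit 3506) (Dv.wd (nat_lit 93) [Mv.f (nat_lit 8870), Mv.b (nat_lit 5281), Mv.f (nat_lit 9440), Mv.f (nat_lit 15667), Mv.f (nat_lit 16727)])))
(Tr.lf (Fc.ed (nat_lit 16729) (nat_lit 5514) Col.g (nat_lit 6452) Dv.df)))))
(Tr.nd (nat_lit 16732) (Tr.nd (nat_lit 16731) (Tr.lf (Fc.ed (nat_lit 16730) (nat_lit 6452) Col.g (nat_lit 3010) (Dv.wd (nat_lit 9) [Mv.f (nat_lit 13802), Mv.b (nat_lit 14112), Mv.f (nat_lit 16729)])))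
(Tr.lf (Fc.ed (nat_lit 16731) (nat_lit 4678) Col.d (nat_lit 6453) Dv.df)))
(Tr.nd (nat_lit 16733) (Tr.lf (Fc.ed (nat_lit 16732) (nat_lit 6453) Col.e (nat_lit 6221) (Dv.wd (nat_lit 42) [Mv.b (nat_lit 15570), Mv.f (nat_lit 16486), Mv.f (nat_lit 16484), Mv.f (nat_lit 11830), Mv.f (nat_lit 16731)])))
(Tr.nd (nat_lit 16734) (Tr.lf (Fc.ed (nat_lit 16733) (nat_lit 5943) Col.g (nat_lit 6454) Dv.df))
(Tr.lf (Fc.ed (nat_lit 16734) (nat_lit 4791) Col.b (nat_lit 6455) Dv.df)))))))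
(Tr.nd (nat_lit 16745) (Tr.nd (nat_lit 16740) (Tr.nd (nat_lit 16737) (Tr.nd (nat_lit 16736) (Tr.lf (Fc.ed (nat_lit 16735) (nat_lit 6455) Col.c (nat_lit 5423) (Dv.wd (nat_lit 93) [Mv.b (nat_lit 13905), Mv.b (nat_lit 6802), Mv.b (nat_lit 9979), Mv.b (nat_lit 12544), Mv.f (nat_lit 16734)])))
(Tr.lf (Fc.ed (nat_lit 16736) (nat_lit 6318) Col.f (nat_lit 6456) Dv.df)))
(Tr.nd (nat_lit 16738) (Tr.lf (Fc.ed (nat_lit 16737) (nat_lit 6456) Col.a (nat_lit 5650) (Dv.wd (nat_lit 23) [Mv.b (nat_lit 14380), Mv.b (nat_lit 15810), Mv.f (nat_lit 16736)])))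
(Tr.nd (nat_lit 16739) (Tr.lf (Fc.ed (nat_lit 16738) (nat_lit 5684) Col.e (nat_lit 6457) Dv.df))
(Tr.lf (Fc.ed (nat_lit 16739) (nat_lit 6457) Col.b (nat_lit 4706) (Dv.wd (nat_lit 49) [Mv.f (nat_lit 11890), Mv.f (nat_lit 14438), Mv.f (nat_lit 16738)]))))))
(Tr.nd (nat_lit 16742) (Tr.nd (nat_lit 16741) (Tr.lf (Fc.ed (nat_lit 16740) (nat_lit 3423) Col.c (nat_lit 6458) Dv.df))
(Tr.lf (Fc.ed (nat_lit 16741) (nat_lit 6239) Col.c (nat_lit 6459) Dv.df)))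
(Tr.nd (nat_lit 16743) (Tr.lf (Fc.ed (nat_lit 16742) (nat_lit 3273) Col.g (nat_lit 6460) Dv.df))
(Tr.nd (nat_lit 16744) (Tr.lf (Fc.ed (nat_lit 16743) (nat_lit 6460) Col.g (nat_lit 5644) (Dv.wd (nat_lit 9) [Mv.f (nat_lit 14369), Mv.f (nat_lit 10845), Mv.f (nat_lit 16742)])))
(Tr.lf (Fc.ed (nat_lit 16744) (nat_lit 3157) Col.e (nat_lit 6461) Dv.df))))))
(Tr.nd (nat_lit 16750) (Tr.nd (nat_lit 16747) (Tr.nd (nat_lit 16746) (Tr.lf (Fc.ed (nat_lit 16745) (nat_lit 6227) Col.e (nat_lit 6462) Dv.df))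
(Tr.lf (Fc.ed (nat_lit 16746) (nat_lit 4748) Col.e (nat_lit 6463) Dv.df)))
(Tr.nd (nat_lit 16748) (Tr.lf (Fc.ed (nat_lit 16747) (nat_lit 6463) Col.a (nat_lit 5905) (Dv.wd (nat_lit 15) [Mv.b (nat_lit 14934), Mv.f (nat_lit 16614), Mv.f (nat_lit 16746)])))
(Tr.nd (nat_lit 16749) (Tr.lf (Fc.ed (nat_lit 16748) (nat_lit 5638) Col.c (nat_lit 6464) Dv.df))
(Tr.lf (Fc.ed (nat_lit 16749) (nat_lit 6464) Col.gi (nat_lit 4485) (Dv.wd (nat_lit 78) [Mv.f (nat_lit 16482), Mv.f (nat_lit 16479), Mv.b (nat_lit 4224), Mv.f (nat_lit 7685), Mv.b (nat_lit 15144), Mv.b (nat_lit 16620), Mv.b (nat_lit 15587), Mv.b (nat_lit 16572), Mv.f (nat_lit 16748)]))))))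
(Tr.nd (nat_lit 16753) (Tr.nd (nat_lit 16751) (Tr.lf (Fc.ed (nat_lit 16750) (nat_lit 5821) Col.gi (nat_lit 6052) (Dv.wd (nat_lit 100) [Mv.b (nat_lit 16571), Mv.f (nat_lit 16748), Mv.f (nat_lit 16749), Mv.f (nat_lit 16482), Mv.f (nat_lit 16479), Mv.f (nat_lit 4183), Mv.f (nat_lit 4552), Mv.f (nat_lit 6128), Mv.f (nat_lit 16546), Mv.f (nat_lit 14769)])))
(Tr.nd (nat_lit 16752) (Tr.lf (Fc.ed (nat_lit 16751) (nat_lit 6052) Col.gi (nat_lit 4829) (Dv.wd (nat_lit 24) [Mv.b (nat_lit 12612), Mv.f (nat_lit 16545), Mv.f (nat_lit 16750)])))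
(Tr.lf (Fc.ed (nat_lit 16752) (nat_lit 4648) Col.gi (nat_lit 6464) (Dv.wd (nat_lit 12) [Mv.f (nat_lit 16749), Mv.b (nat_lit 11472), Mv.b (nat_lit 11770)])))))
(Tr.nd (nat_lit 16754) (Tr.lf (Fc.ed (nat_lit 16753) (nat_lit 4357) Col.b (nat_lit 6465) Dv.df))
(Tr.nd (nat_lit 16755) (Tr.lf (Fc.ed (nat_lit 16754) (nat_lit 3816) Col.b (nat_lit 6466) Dv.df))
(Tr.lf (Fc.ed (nat_lit 16755) (nat_lit 6466) Col.d (nat_lit 6400) (Dv.wd (nat_lit 58) [Mv.b (nat_lit 15982), Mv.f (nat_lit 9458), Mv.f (nat_lit 16754)]))))))))))))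
(Tr.nd (nat_lit 16920) (Tr.nd (nat_lit 16838) (Tr.nd (nat_lit 16797) (Tr.nd (nat_lit 16776) (Tr.nd (nat_lit 16766) (Tr.nd (nat_lit 16761) (Tr.nd (nat_lit 16758) (Tr.nd (nat_lit 16757) (Tr.lf (Fc.ed (nat_lit 16756) (nat_lit 6243) Col.b (nat_lit 6467) Dv.df))
(Tr.lf (Fc.ed (nat_lit 16757) (nat_lit 6467) Col.e (nat_lit 3666) (Dv.wd (nat_lit 52) [Mv.b (nat_lit 9170), Mv.f (nat_lit 15611), Mv.f (nat_lit 16756)]))))
(Tr.nd (nat_lit 16759) (Tr.lf (Fc.ed (nat_lit 16758) (nat_lit 5966) Col.f (nat_lit 6468) Dv.df))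
(Tr.nd (nat_lit 16760) (Tr.lf (Fc.ed (nat_lit 16759) (nat_lit 6468) Col.b (nat_lit 4157) (Dv.wd (nat_lit 66) [Mv.f (nat_lit 16425), Mv.f (nat_lit 15098), Mv.f (nat_lit 16758)])))
(Tr.lf (Fc.ed (nat_lit 16760) (nat_lit 4565) Col.d (nat_lit 6469) Dv.df)))))
(Tr.nd (nat_lit 16763) (Tr.nd (nat_lit 16762) (Tr.lf (Fc.ed (nat_lit 16761) (nat_lit 5990) Col.c (nat_lit 6470) Dv.df))
(Tr.lf (Fc.ed (nat_lit 16762) (nat_lit 6470) Col.b (nat_lit 4049) (Dv.wd (nat_lit 106) [Mv.b (nat_lit 16040), Mv.b (nat_lit 6079), Mv.b (nat_lit 4283), Mv.b (nat_lit 4280), Mv.f (nat_lit 3540), Mv.f (nat_lit 3862), Mv.f (nat_lit 5770), Mv.f (nat_lit 16533), Mv.f (nat_lit 15141), Mv.f (nat_lit 16761)]))))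
(Tr.nd (nat_lit 16764) (Tr.lf (Fc.ed (nat_lit 16763) (nat_lit 6470) Col.gi (nat_lit 4786) (Dv.wd (nat_lit 157) [Mv.f (nat_lit 16477), Mv.f (nat_lit 11769), Mv.f (nat_lit 16752), Mv.b (nat_lit 16748), Mv.f (nat_lit 16571), Mv.f (nat_lit 16751), Mv.f (nat_lit 12613), Mv.f (nat_lit 11911), Mv.b (nat_lit 15142), Mv.f (nat_lit 16761)])))
(Tr.nd (nat_lit 16765) (Tr.lf (Fc.ed (nat_lit 16764) (nat_lit 6465) Col.d (nat_lit 6470) (Dv.wd (nat_lit 116) [Mv.f (nat_lit 16762), Mv.b (nat_lit 16035), Mv.f (nat_lit 16753)])))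
(Tr.lf (Fc.ed (nat_lit 16765) (nat_lit 4152) Col.e (nat_lit 6470) (Dv.wd (nat_lit 82) [Mv.f (nat_lit 16762), Mv.f (nat_lit 16018), Mv.f (nat_lit 10728)])))))))
(Tr.nd (nat_lit 16771) (Tr.nd (nat_lit 16768) (Tr.nd (nat_lit 16767) (Tr.lf (Fc.ed (nat_lit 16766) (nat_lit 5654) Col.e (nat_lit 6471) Dv.df))
(Tr.lf (Fc.ed (nat_lit 16767) (nat_lit 6017) Col.gi (nat_lit 6472) Dv.df)))
(Tr.nd (nat_lit 16769) (Tr.lf (Fc.ed (nat_lit 16768) (nat_lit 6472) Col.gi (nat_lit 3669) (Dv.wd (nat_lit 24) [Mv.f (nat_lit 11412), Mv.f (nat_lit 15190), Mv.f (nat_lit 16767)])))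
(Tr.nd (nat_lit 16770) (Tr.lf (Fc.ed (nat_lit 16769) (nat_lit 4260) Col.a (nat_lit 6473) Dv.df))
(Tr.lf (Fc.ed (nat_lit 16770) (nat_lit 6473) Col.f (nat_lit 5232) (Dv.wd (nat_lit 10) [Mv.b (nat_lit 13493), Mv.f (nat_lit 10965), Mv.f (nat_lit 16769)]))))))
(Tr.nd (nat_lit 16773) (Tr.nd (nat_lit 16772) (Tr.lf (Fc.ed (nat_lit 16771) (nat_lit 6059) Col.e (nat_lit 6474) Dv.df))
(Tr.lf (Fc.ed (nat_lit 16772) (nat_lit 6474) Col.d (nat_lit 5557) (Dv.wd (nat_lit 59) [Mv.b (nat_lit 14194), Mv.b (nat_lit 16366), Mv.f (nat_lit 16566), Mv.b (nat_lit 15263), Mv.f (nat_lit 16771)]))))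
(Tr.nd (nat_lit 16774) (Tr.lf (Fc.ed (nat_lit 16773) (nat_lit 4497) Col.g (nat_lit 6475) Dv.df))
(Tr.nd (nat_lit 16775) (Tr.lf (Fc.ed (nat_lit 16774) (nat_lit 6475) Col.g (nat_lit 3050) (Dv.wd (nat_lit 9) [Mv.f (nat_lit 12864), Mv.f (nat_lit 12866), Mv.f (nat_lit 16773)])))
(Tr.lf (Fc.ed (nat_lit 16775) (nat_lit 6438) Col.f (nat_lit 6476) Dv.df)))))))
(Tr.nd (nat_lit 16786) (Tr.nd (nat_lit 16781) (Tr.nd (nat_lit 16778) (Tr.nd (nat_lit 16777) (Tr.lf (Fc.ed (nat_lit 16776) (nat_lit 6476) Col.a (nat_lit 4931) (Dv.wd (nat_lit 16) [Mv.f (nat_lit 16241), Mv.f (nat_lit 16703), Mv.f (nat_lit 16775)])))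
(Tr.lf (Fc.ed (nat_lit 16777) (nat_lit 6476) Col.c (nat_lit 5177) (Dv.wd (nat_lit 34) [Mv.b (nat_lit 13364), Mv.b (nat_lit 16704), Mv.f (nat_lit 16775)]))))
(Tr.nd (nat_lit 16779) (Tr.lf (Fc.ed (nat_lit 16778) (nat_lit 5507) Col.e (nat_lit 6477) Dv.df))
(Tr.nd (nat_lit 16780) (Tr.lf (Fc.ed (nat_lit 16779) (nat_lit 4313) Col.gi (nat_lit 6478) Dv.df))
(Tr.lf (Fc.ed (nat_lit 16780) (nat_lit 6478) Col.gi (nat_lit 4536) (Dv.wd (nat_lit 24) [Mv.b (nat_lit 11563), Mv.f (nat_lit 11087), Mv.f (nat_lit 16779)]))))))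
(Tr.nd (nat_lit 16783) (Tr.nd (nat_lit 16782) (Tr.lf (Fc.ed (nat_lit 16781) (nat_lit 5412) Col.c (nat_lit 6479) Dv.df))
(Tr.lf (Fc.ed (nat_lit 16782) (nat_lit 6479) Col.b (nat_lit 4683) (Dv.wd (nat_lit 87) [Mv.f (nat_lit 12687), Mv.b (nat_lit 15724), Mv.b (nat_lit 14970), Mv.b (nat_lit 14969), Mv.f (nat_lit 16781)]))))
(Tr.nd (nat_lit 16784) (Tr.lf (Fc.ed (nat_lit 16783) (nat_lit 3546) Col.d (nat_lit 6480) Dv.df))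
(Tr.nd (nat_lit 16785) (Tr.lf (Fc.ed (nat_lit 16784) (nat_lit 6036) Col.c (nat_lit 6481) Dv.df))
(Tr.lf (Fc.ed (nat_lit 16785) (nat_lit 4953) Col.g (nat_lit 6482) Dv.df))))))
(Tr.nd (nat_lit 16791) (Tr.nd (nat_lit 16788) (Tr.nd (nat_lit 16787) (Tr.lf (Fc.ed (nat_lit 16786) (nat_lit 6482) Col.g (nat_lit 2537) (Dv.wd (nat_lit 9) [Mv.b (nat_lit 11494), Mv.b (nat_lit 12866), Mv.f (nat_lit 16785)])))
(Tr.lf (Fc.ed (nat_lit 16787) (nat_lit 6246) Col.d (nat_lit 6483) Dv.df)))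
(Tr.nd (nat_lit 16789) (Tr.lf (Fc.ed (nat_lit 16788) (nat_lit 4143) Col.c (nat_lit 6484) Dv.df))
(Tr.nd (nat_lit 16790) (Tr.lf (Fc.ed (nat_lit 16789) (nat_lit 6302) Col.g (nat_lit 6485) Dv.df))
(Tr.lf (Fc.ed (nat_lit 16790) (nat_lit 6485) Col.a (nat_lit 5706) (Dv.wd (nat_lit 114) [Mv.b (nat_lit 15116), Mv.f (nat_lit 15782), Mv.f (nat_lit 16789)]))))))
(Tr.nd (nat_lit 16794) (Tr.nd (nat_lit 16792) (Tr.lf (Fc.ed (nat_lit 16791) (nat_lit 2947) Col.c (nat_lit 6485) (Dv.wd (nat_lit 134) [Mv.f (nat_lit 16790), Mv.b (nat_lit 14471), Mv.f (nat_lit 13941)])))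
(Tr.nd (nat_lit 16793) (Tr.lf (Fc.ed (nat_lit 16792) (nat_lit 6091) Col.f (nat_lit 6485) (Dv.wd (nat_lit 73) [Mv.f (nat_lit 16790), Mv.b (nat_lit 15116), Mv.b (nat_lit 15326)])))
(Tr.lf (Fc.ed (nat_lit 16793) (nat_lit 6008) Col.gi (nat_lit 6486) Dv.df))))
(Tr.nd (nat_lit 16795) (Tr.lf (Fc.ed (nat_lit 16794) (nat_lit 4797) Col.a (nat_lit 6487) Dv.df))
(Tr.nd (nat_lit 16796) (Tr.lf (Fc.ed (nat_lit 16795) (nat_lit 6487) Col.e (nat_lit 5140) (Dv.wd (nat_lit 56) [Mv.f (nat_lit 13293), Mv.f (nat_lit 12554), Mv.f (nat_lit 16794)])))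
(Tr.lf (Fc.ed (nat_lit 16796) (nat_lit 6487) Col.f (nat_lit 5612) (Dv.wd (nat_lit 10) [Mv.f (nat_lit 16302), Mv.b (nat_lit 16299), Mv.f (nat_lit 16794)])))))))))
(Tr.nd (nat_lit 16817) (Tr.nd (nat_lit 16807) (Tr.nd (nat_lit 16802) (Tr.nd (nat_lit 16799) (Tr.nd (nat_lit 16798) (Tr.lf (Fc.ed (nat_lit 16797) (nat_lit 5262) Col.g (nat_lit 6488) Dv.df))
(Tr.lf (Fc.ed (nat_lit 16798) (nat_lit 6488) Col.g (nat_lit 3876) (Dv.wd (nat_lit 9) [Mv.f (nat_lit 12972), Mv.f (nat_lit 13554), Mv.f (nat_lit 16797)]))))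
(Tr.nd (nat_lit 16800) (Tr.lf (Fc.ed (nat_lit 16799) (nat_lit 6488) Col.d (nat_lit 6486) (Dv.wd (nat_lit 68) [Mv.b (nat_lit 16793), Mv.b (nat_lit 16247), Mv.b (nat_lit 10185), Mv.b (nat_lit 16272), Mv.f (nat_lit 16273), Mv.b (nat_lit 16148), Mv.f (nat_lit 16146), Mv.b (nat_lit 16161), Mv.f (nat_lit 16162), Mv.f (nat_lit 16797)])))
(Tr.nd (nat_lit 16801) (Tr.lf (Fc.ed (nat_lit 16800) (nat_lit 5459) Col.c (nat_lit 6489) Dv.df))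
(Tr.lf (Fc.ed (nat_lit 16801) (nat_lit 6489) Col.f (nat_lit 6421) (Dv.wd (nat_lit 26) [Mv.b (nat_lit 16670), Mv.f (nat_lit 15442), Mv.f (nat_lit 16800)]))))))
(Tr.nd (nat_lit 16804) (Tr.nd (nat_lit 16803) (Tr.lf (Fc.ed (nat_lit 16802) (nat_lit 2790) Col.gi (nat_lit 6490) Dv.df))
(Tr.lf (Fc.ed (nat_lit 16803) (nat_lit 6490) Col.gi (nat_lit 4541) (Dv.wd (nat_lit 24) [Mv.f (nat_lit 11573), Mv.b (nat_lit 11087), Mv.f (nat_lit 16802)]))))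
(Tr.nd (nat_lit 16805) (Tr.lf (Fc.ed (nat_lit 16804) (nat_lit 5584) Col.d (nat_lit 6491) Dv.df))
(Tr.nd (nat_lit 16806) (Tr.lf (Fc.ed (nat_lit 16805) (nat_lit 5712) Col.c (nat_lit 6492) Dv.df))
(Tr.lf (Fc.ed (nat_lit 16806) (nat_lit 6492) Col.f (nat_lit 6334) (Dv.wd (nat_lit 26) [Mv.b (nat_lit 15844), Mv.b (nat_lit 15768), Mv.f (nat_lit 16805)])))))))
(Tr.nd (nat_lit 16812) (Tr.nd (nat_lit 16809) (Tr.nd (nat_lit 16808) (Tr.lf (Fc.ed (nat_lit 16807) (nat_lit 6458) Col.e (nat_lit 6493) Dv.df))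
(Tr.lf (Fc.ed (nat_lit 16808) (nat_lit 6493) Col.c (nat_lit 6073) (Dv.wd (nat_lit 18) [Mv.f (nat_lit 15290), Mv.f (nat_lit 16740), Mv.f (nat_lit 16807)]))))
(Tr.nd (nat_lit 16810) (Tr.lf (Fc.ed (nat_lit 16809) (nat_lit 4368) Col.b (nat_lit 6494) Dv.df))
(Tr.nd (nat_lit 16811) (Tr.lf (Fc.ed (nat_lit 16810) (nat_lit 6494) Col.e (nat_lit 4758) (Dv.wd (nat_lit 52) [Mv.f (nat_lit 12480), Mv.f (nat_lit 11513), Mv.f (nat_lit 16809)])))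
(Tr.lf (Fc.ed (nat_lit 16811) (nat_lit 4911) Col.c (nat_lit 6495) Dv.df)))))
(Tr.nd (nat_lit 16814) (Tr.nd (nat_lit 16813) (Tr.lf (Fc.ed (nat_lit 16812) (nat_lit 6495) Col.a (nat_lit 5746) (Dv.wd (nat_lit 19) [Mv.b (nat_lit 14598), Mv.f (nat_lit 12776), Mv.f (nat_lit 16811)])))
(Tr.lf (Fc.ed (nat_lit 16813) (nat_lit 6495) Col.f (nat_lit 5732) (Dv.wd (nat_lit 26) [Mv.b (nat_lit 14575), Mv.b (nat_lit 12777), Mv.f (nat_lit 16811)]))))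
(Tr.nd (nat_lit 16815) (Tr.lf (Fc.ed (nat_lit 16814) (nat_lit 5732) Col.g (nat_lit 5823) (Dv.wd (nat_lit 17) [Mv.b (nat_lit 14772), Mv.b (nat_lit 16812), Mv.f (nat_lit 16813)])))
(Tr.nd (nat_lit 16816) (Tr.lf (Fc.ed (nat_lit 16815) (nat_lit 4882) Col.d (nat_lit 6496) Dv.df))
(Tr.lf (Fc.ed (nat_lit 16816) (nat_lit 6496) Col.e (nat_lit 6278) (Dv.wd (nat_lit 42) [Mv.b (nat_lit 16514), Mv.f (nat_lit 16372), Mv.b (nat_lit 14042), Mv.f (nat_lit 14043), Mv.f (nat_lit 16815)]))))))))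
(Tr.nd (nat_lit 16827) (Tr.nd (nat_lit 16822) (Tr.nd (nat_lit 16819) (Tr.nd (nat_lit 16818) (Tr.lf (Fc.ed (nat_lit 16817) (nat_lit 4425) Col.a (nat_lit 6497) Dv.df))
(Tr.lf (Fc.ed (nat_lit 16818) (nat_lit 4464) Col.f (nat_lit 6498) Dv.df)))
(Tr.nd (nat_lit 16820) (Tr.lf (Fc.ed (nat_lit 16819) (nat_lit 6498) Col.d (nat_lit 6433) (Dv.wd (nat_lit 21) [Mv.b (nat_lit 16692), Mv.f (nat_lit 13531), Mv.f (nat_lit 16818)])))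
(Tr.nd (nat_lit 16821) (Tr.lf (Fc.ed (nat_lit 16820) (nat_lit 4317) Col.e (nat_lit 6499) Dv.df))
(Tr.lf (Fc.ed (nat_lit 16821) (nat_lit 6499) Col.c (nat_lit 5645) (Dv.wd (nat_lit 18) [Mv.f (nat_lit 14371), Mv.f (nat_lit 14495), Mv.f (nat_lit 16820)]))))))
(Tr.nd (nat_lit 16824) (Tr.nd (nat_lit 16823) (Tr.lf (Fc.ed (nat_lit 16822) (nat_lit 6315) Col.b (nat_lit 6500) Dv.df))
(Tr.lf (Fc.ed (nat_lit 16823) (nat_lit 6500) Col.c (nat_lit 5489) (Dv.wd (nat_lit 135) [Mv.b (nat_lit 14072), Mv.f (nat_lit 7972), Mv.f (nat_lit 7971), Mv.f (nat_lit 3633), Mv.b (nat_lit 3479), Mv.b (nat_lit 2426), Mv.b (nat_lit 3163), Mv.b (nat_lit 7555), Mv.f (nat_lit 15805), Mv.f (nat_lit 16822)]))))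
(Tr.nd (nat_lit 16825) (Tr.lf (Fc.ed (nat_lit 16824) (nat_lit 5489) Col.gi (nat_lit 4591) (Dv.wd (nat_lit 102) [Mv.f (nat_lit 11669), Mv.f (nat_lit 12774), Mv.f (nat_lit 15422), Mv.f (nat_lit 15423), Mv.b (nat_lit 15343), Mv.f (nat_lit 14300), Mv.f (nat_lit 13803), Mv.b (nat_lit 15806), Mv.f (nat_lit 16822), Mv.f (nat_lit 16823)])))
(Tr.nd (nat_lit 16826) (Tr.lf (Fc.ed (nat_lit 16825) (nat_lit 6096) Col.gi (nat_lit 6501) Dv.df))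
(Tr.lf (Fc.ed (nat_lit 16826) (nat_lit 5716) Col.gi (nat_lit 6502) Dv.df))))))
(Tr.nd (nat_lit 16832) (Tr.nd (nat_lit 16829) (Tr.nd (nat_lit 16828) (Tr.lf (Fc.ed (nat_lit 16827) (nat_lit 6502) Col.gi (nat_lit 4205) (Dv.wd (nat_lit 24) [Mv.f (nat_lit 12556), Mv.b (nat_lit 14545), Mv.f (nat_lit 16826)])))
(Tr.lf (Fc.ed (nat_lit 16828) (nat_lit 6292) Col.c (nat_lit 6503) Dv.df)))
(Tr.nd (nat_lit 16830) (Tr.lf (Fc.ed (nat_lit 16829) (nat_lit 6503) Col.b (nat_lit 4291) (Dv.wd (nat_lit 101) [Mv.b (nat_lit 11045), Mv.f (nat_lit 9605), Mv.b (nat_lit 6779), Mv.b (nat_lit 13943), Mv.b (nat_lit 14488), Mv.b (nat_lit 13595), Mv.b (nat_lit 8373), Mv.b (nat_lit 8371), Mv.b (nat_lit 15762), Mv.f (nat_lit 16828)])))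
(Tr.nd (nat_lit 16831) (Tr.lf (Fc.ed (nat_lit 16830) (nat_lit 6124) Col.b (nat_lit 6207) (Dv.wd (nat_lit 168) [Mv.b (nat_lit 15531), Mv.b (nat_lit 14932), Mv.b (nat_lit 9834), Mv.b (nat_lit 11046), Mv.b (nat_lit 16829), Mv.b (nat_lit 16828), Mv.b (nat_lit 15761), Mv.b (nat_lit 13512), Mv.f (nat_lit 13511), Mv.f (nat_lit 15386)])))
(Tr.lf (Fc.ed (nat_lit 16831) (nat_lit 4021) Col.c (nat_lit 2751) (Dv.wd (nat_lit 130) [Mv.b (nat_lit 7297), Mv.f (nat_lit 5277), Mv.f (nat_lit 5989), Mv.b (nat_lit 15387), Mv.f (nat_lit 16830), Mv.b (nat_lit 15531), Mv.f (nat_lit 14933), Mv.b (nat_lit 9606), Mv.f (nat_lit 9605), Mv.f (nat_lit 9838)]))))))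
(Tr.nd (nat_lit 16835) (Tr.nd (nat_lit 16833) (Tr.lf (Fc.ed (nat_lit 16832) (nat_lit 3207) Col.c (nat_lit 4520) (Dv.wd (nat_lit 67) [Mv.b (nat_lit 11531), Mv.f (nat_lit 16831), Mv.f (nat_lit 8274)])))
(Tr.nd (nat_lit 16834) (Tr.lf (Fc.ed (nat_lit 16833) (nat_lit 3312) Col.c (nat_lit 3430) (Dv.wd (nat_lit 138) [Mv.b (nat_lit 8727), Mv.b (nat_lit 4318), Mv.b (nat_lit 4465), Mv.b (nat_lit 6179), Mv.b (nat_lit 9839), Mv.f (nat_lit 16831), Mv.f (nat_lit 7298), Mv.f (nat_lit 7075), Mv.f (nat_lit 8476)])))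
(Tr.lf (Fc.ed (nat_lit 16834) (nat_lit 3751) Col.c (nat_lit 2873) (Dv.wd (nat_lit 33) [Mv.b (nat_lit 8275), Mv.f (nat_lit 16832), Mv.f (nat_lit 11532)])))))
(Tr.nd (nat_lit 16836) (Tr.lf (Fc.ed (nat_lit 16835) (nat_lit 2873) Col.b (nat_lit 2873) (Dv.wd (nat_lit 165) [Mv.b (nat_lit 7564), Mv.f (nat_lit 8567), Mv.f (nat_lit 14497), Mv.b (nat_lit 13976), Mv.b (nat_lit 14504), Mv.f (nat_lit 6992), Mv.b (nat_lit 4464), Mv.b (nat_lit 6179), Mv.b (nat_lit 9341), Mv.f (nat_lit 16834)])))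
(Tr.nd (nat_lit 16837) (Tr.lf (Fc.ed (nat_lit 16836) (nat_lit 3826) Col.c (nat_lit 3127) (Dv.wd (nat_lit 94) [Mv.b (nat_lit 8108), Mv.b (nat_lit 7135), Mv.f (nat_lit 6779), Mv.f (nat_lit 9340), Mv.f (nat_lit 16834), Mv.f (nat_lit 16835), Mv.f (nat_lit 7565), Mv.f (nat_lit 4332), Mv.b (nat_lit 5949), Mv.b (nat_lit 9477)])))
(Tr.lf (Fc.ed (nat_lit 16837) (nat_lit 3127) Col.b (nat_lit 3127) (Dv.wd (nat_lit 101) [Mv.b (nat_lit 8108), Mv.b (nat_lit 7135), Mv.f (nat_lit 6779), Mv.f (nat_lit 9340), Mv.f (nat_lit 16834), Mv.f (nat_lit 7565), Mv.f (nat_lit 4332), Mv.b (nat_lit 5949), Mv.b (nat_lit 9477), Mv.f (nat_lit 16836)]))))))))))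
(Tr.nd (nat_lit 16879) (Tr.nd (nat_lit 16858) (Tr.nd (nat_lit 16848) (Tr.nd (nat_lit 16843) (Tr.nd (nat_lit 16840) (Tr.nd (nat_lit 16839) (Tr.lf (Fc.ed (nat_lit 16838) (nat_lit 4621) Col.a (nat_lit 4621) (Dv.wd (nat_lit 155) [Mv.b (nat_lit 11722), Mv.b (nat_lit 10908), Mv.f (nat_lit 16837), Mv.f (nat_lit 10908), Mv.f (nat_lit 11722)])))
(Tr.lf (Fc.ed (nat_lit 16839) (nat_lit 4495) Col.a (nat_lit 4495) (Dv.wd (nat_lit 79) [Mv.b (nat_lit 11723), Mv.f (nat_lit 16838), Mv.f (nat_lit 11723)]))))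
(Tr.nd (nat_lit 16841) (Tr.lf (Fc.ed (nat_lit 16840) (nat_lit 4779) Col.a (nat_lit 4779) (Dv.wd (nat_lit 31) [Mv.f (nat_lit 12520), Mv.f (nat_lit 16839), Mv.b (nat_lit 12520)])))
(Tr.nd (nat_lit 16842) (Tr.lf (Fc.ed (nat_lit 16841) (nat_lit 4884) Col.b (nat_lit 4884) (Dv.wd (nat_lit 159) [Mv.b (nat_lit 12722), Mv.f (nat_lit 12519), Mv.f (nat_lit 16840), Mv.b (nat_lit 12519), Mv.f (nat_lit 12722)])))
(Tr.lf (Fc.ed (nat_lit 16842) (nat_lit 5108) Col.b (nat_lit 5108) (Dv.wd (nat_lit 107) [Mv.f (nat_lit 13227), Mv.f (nat_lit 16841), Mv.b (nat_lit 13227)]))))))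
(Tr.nd (nat_lit 16845) (Tr.nd (nat_lit 16844) (Tr.lf (Fc.ed (nat_lit 16843) (nat_lit 3620) Col.b (nat_lit 3620) (Dv.wd (nat_lit 126) [Mv.b (nat_lit 13224), Mv.f (nat_lit 16842), Mv.f (nat_lit 13224)])))
(Tr.lf (Fc.ed (nat_lit 16844) (nat_lit 5052) Col.b (nat_lit 5052) (Dv.wd (nat_lit 127) [Mv.f (nat_lit 13226), Mv.f (nat_lit 16842), Mv.b (nat_lit 13226)]))))
(Tr.nd (nat_lit 16846) (Tr.lf (Fc.ed (nat_lit 16845) (nat_lit 4966) Col.b (nat_lit 4966) (Dv.wd (nat_lit 126) [Mv.f (nat_lit 13113), Mv.f (nat_lit 16844), Mv.b (nat_lit 13113)])))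
(Tr.nd (nat_lit 16847) (Tr.lf (Fc.ed (nat_lit 16846) (nat_lit 3535) Col.b (nat_lit 3535) (Dv.wd (nat_lit 127) [Mv.f (nat_lit 12890), Mv.f (nat_lit 16845), Mv.b (nat_lit 12890)])))
(Tr.lf (Fc.ed (nat_lit 16847) (nat_lit 5937) Col.a (nat_lit 5937) (Dv.wd (nat_lit 155) [Mv.f (nat_lit 15017), Mv.f (nat_lit 9517), Mv.f (nat_lit 16843), Mv.b (nat_lit 9517), Mv.b (nat_lit 15017)])))))))
(Tr.nd (nat_lit 16853) (Tr.nd (nat_lit 16850) (Tr.nd (nat_lit 16849) (Tr.lf (Fc.ed (nat_lit 16848) (nat_lit 5440) Col.b (nat_lit 2697) (Dv.wd (nat_lit 165) [Mv.f (nat_lit 7182), Mv.b (nat_lit 6339), Mv.b (nat_lit 11150), Mv.f (nat_lit 14525), Mv.f (nat_lit 16843), Mv.f (nat_lit 9086), Mv.b (nat_lit 7417), Mv.f (nat_lit 8552), Mv.f (nat_lit 12991), Mv.f (nat_lit 13981)])))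
(Tr.lf (Fc.ed (nat_lit 16849) (nat_lit 2301) Col.c (nat_lit 4926) (Dv.wd (nat_lit 130) [Mv.f (nat_lit 12809), Mv.b (nat_lit 5265), Mv.f (nat_lit 3815), Mv.f (nat_lit 9085), Mv.f (nat_lit 16843), Mv.b (nat_lit 14525), Mv.b (nat_lit 11149), Mv.b (nat_lit 8399), Mv.b (nat_lit 7157), Mv.b (nat_lit 6295)]))))
(Tr.nd (nat_lit 16851) (Tr.lf (Fc.ed (nat_lit 16850) (nat_lit 4196) Col.c (nat_lit 3160) (Dv.wd (nat_lit 115) [Mv.f (nat_lit 14527), Mv.b (nat_lit 8010), Mv.f (nat_lit 5200), Mv.b (nat_lit 6339), Mv.b (nat_lit 11150), Mv.f (nat_lit 14525), Mv.f (nat_lit 16843), Mv.f (nat_lit 9086), Mv.b (nat_lit 7756), Mv.f (nat_lit 10830)])))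
(Tr.nd (nat_lit 16852) (Tr.lf (Fc.ed (nat_lit 16851) (nat_lit 6197) Col.e (nat_lit 4196) (Dv.wd (nat_lit 84) [Mv.f (nat_lit 16850), Mv.f (nat_lit 13851), Mv.f (nat_lit 15516)])))
(Tr.lf (Fc.ed (nat_lit 16852) (nat_lit 3306) Col.c (nat_lit 4482) (Dv.wd (nat_lit 67) [Mv.f (nat_lit 11468), Mv.f (nat_lit 16850), Mv.f (nat_lit 8466)]))))))
(Tr.nd (nat_lit 16855) (Tr.nd (nat_lit 16854) (Tr.lf (Fc.ed (nat_lit 16853) (nat_lit 5402) Col.c (nat_lit 5432) (Dv.wd (nat_lit 115) [Mv.b (nat_lit 13965), Mv.b (nat_lit 9790), Mv.f (nat_lit 7417), Mv.b (nat_lit 7756), Mv.f (nat_lit 10830), Mv.f (nat_lit 16850), Mv.f (nat_lit 14527), Mv.b (nat_lit 8010), Mv.f (nat_lit 7370), Mv.f (nat_lit 13863)])))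
(Tr.lf (Fc.ed (nat_lit 16854) (nat_lit 3571) Col.c (nat_lit 2707) (Dv.wd (nat_lit 94) [Mv.f (nat_lit 7201), Mv.f (nat_lit 3815), Mv.b (nat_lit 5902), Mv.b (nat_lit 10831), Mv.f (nat_lit 16850), Mv.f (nat_lit 14527), Mv.f (nat_lit 8011), Mv.f (nat_lit 7417), Mv.b (nat_lit 7756), Mv.f (nat_lit 9002)]))))
(Tr.nd (nat_lit 16856) (Tr.lf (Fc.ed (nat_lit 16855) (nat_lit 4361) Col.c (nat_lit 5441) (Dv.wd (nat_lit 143) [Mv.b (nat_lit 13982), Mv.f (nat_lit 7201), Mv.f (nat_lit 3815), Mv.b (nat_lit 5902), Mv.b (nat_lit 10831), Mv.f (nat_lit 16850), Mv.f (nat_lit 8176), Mv.b (nat_lit 7846), Mv.b (nat_lit 8364), Mv.b (nat_lit 11186)])))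
(Tr.nd (nat_lit 16857) (Tr.lf (Fc.ed (nat_lit 16856) (nat_lit 5507) Col.b (nat_lit 3228) (Dv.wd (nat_lit 165) [Mv.f (nat_lit 8312), Mv.f (nat_lit 6236), Mv.f (nat_lit 11185), Mv.f (nat_lit 16855), Mv.b (nat_lit 13982), Mv.b (nat_lit 7200), Mv.b (nat_lit 7846), Mv.b (nat_lit 8364), Mv.f (nat_lit 9411), Mv.f (nat_lit 14101)])))
(Tr.lf (Fc.ed (nat_lit 16857) (nat_lit 2301) Col.b (nat_lit 2301) (Dv.wd (nat_lit 106) [Mv.b (nat_lit 6294), Mv.f (nat_lit 4871), Mv.f (nat_lit 6236), Mv.f (nat_lit 11185), Mv.f (nat_lit 16855), Mv.b (nat_lit 13982), Mv.b (nat_lit 7200), Mv.b (nat_lit 8375), Mv.f (nat_lit 12808), Mv.b (nat_lit 16849)]))))))))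
(Tr.nd (nat_lit 16868) (Tr.nd (nat_lit 16863) (Tr.nd (nat_lit 16860) (Tr.nd (nat_lit 16859) (Tr.lf (Fc.al (nat_lit 16858) (nat_lit 4144) (nat_lit 4482) (Dv.wd (nat_lit 115) [Mv.b (nat_lit 16852), Mv.b (nat_lit 14528), Mv.b (nat_lit 13312), Mv.f (nat_lit 7846), Mv.b (nat_lit 8375), Mv.f (nat_lit 12808), Mv.b (nat_lit 16849), Mv.f (nat_lit 16857), Mv.b (nat_lit 6294), Mv.b (nat_lit 6261), Mv.f (nat_lit 10713)])))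
(Tr.lf (Fc.ed (nat_lit 16859) (nat_lit 4144) Col.a (nat_lit 3571) (Dv.wd (nat_lit 29) [Mv.f (nat_lit 11467), Mv.b (nat_lit 16858)]))))
(Tr.nd (nat_lit 16861) (Tr.lf (Fc.ed (nat_lit 16860) (nat_lit 4144) Col.c (nat_lit 3306) (Dv.wd (nat_lit 103) [Mv.f (nat_lit 16852), Mv.b (nat_lit 16858)])))
(Tr.nd (nat_lit 16862) (Tr.lf (Fc.ed (nat_lit 16861) (nat_lit 4144) Col.f (nat_lit 4196) (Dv.wd (nat_lit 30) [Mv.b (nat_lit 11468), Mv.b (nat_lit 16858)])))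
(Tr.lf (Fc.ed (nat_lit 16862) (nat_lit 4196) Col.a (nat_lit 4068) (Dv.wd (nat_lit 23) [Mv.b (nat_lit 9928), Mv.b (nat_lit 10714), Mv.f (nat_lit 16861)]))))))
(Tr.nd (nat_lit 16865) (Tr.nd (nat_lit 16864) (Tr.lf (Fc.ed (nat_lit 16863) (nat_lit 3571) Col.f (nat_lit 4068) (Dv.wd (nat_lit 35) [Mv.b (nat_lit 16862), Mv.b (nat_lit 16861), Mv.f (nat_lit 16859)])))
(Tr.lf (Fc.ed (nat_lit 16864) (nat_lit 4068) Col.c (nat_lit 2697) (Dv.wd (nat_lit 34) [Mv.f (nat_lit 13932), Mv.b (nat_lit 16854), Mv.f (nat_lit 16863)]))))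
(Tr.nd (nat_lit 16866) (Tr.lf (Fc.ed (nat_lit 16865) (nat_lit 5339) Col.c (nat_lit 6135) (Dv.wd (nat_lit 109) [Mv.b (nat_lit 15408), Mv.f (nat_lit 16864), Mv.f (nat_lit 13742)])))
(Tr.nd (nat_lit 16867) (Tr.lf (Fc.ed (nat_lit 16866) (nat_lit 6302) Col.c (nat_lit 5012) (Dv.wd (nat_lit 81) [Mv.f (nat_lit 13211), Mv.b (nat_lit 13214), Mv.b (nat_lit 8369), Mv.b (nat_lit 6797), Mv.f (nat_lit 9928), Mv.f (nat_lit 16864), Mv.b (nat_lit 7721), Mv.f (nat_lit 16791), Mv.b (nat_lit 16789)])))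
(Tr.lf (Fc.ed (nat_lit 16867) (nat_lit 6288) Col.e (nat_lit 6302) (Dv.wd (nat_lit 84) [Mv.f (nat_lit 16866), Mv.f (nat_lit 13027), Mv.f (nat_lit 15755)])))))))
(Tr.nd (nat_lit 16873) (Tr.nd (nat_lit 16870) (Tr.nd (nat_lit 16869) (Tr.lf (Fc.ed (nat_lit 16868) (nat_lit 6019) Col.f (nat_lit 6302) (Dv.wd (nat_lit 64) [Mv.f (nat_lit 16866), Mv.f (nat_lit 13220), Mv.f (nat_lit 15194)])))
(Tr.lf (Fc.ed (nat_lit 16869) (nat_lit 6019) Col.gi (nat_lit 5706) (Dv.wd (nat_lit 78) [Mv.b (nat_lit 14471), Mv.f (nat_lit 13940), Mv.b (nat_lit 13963), Mv.b (nat_lit 13951), Mv.f (nat_lit 15115), Mv.f (nat_lit 15782), Mv.f (nat_lit 16866), Mv.f (nat_lit 13222), Mv.f (nat_lit 15194)]))))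
(Tr.nd (nat_lit 16871) (Tr.lf (Fc.ed (nat_lit 16870) (nat_lit 6091) Col.gi (nat_lit 6019) (Dv.wd (nat_lit 12) [Mv.f (nat_lit 16869), Mv.b (nat_lit 15116), Mv.b (nat_lit 15326)])))
(Tr.nd (nat_lit 16872) (Tr.lf (Fc.ed (nat_lit 16871) (nat_lit 6135) Col.a (nat_lit 6197) (Dv.wd (nat_lit 19) [Mv.b (nat_lit 15516), Mv.b (nat_lit 13959), Mv.f (nat_lit 16865)])))
(Tr.lf (Fc.ed (nat_lit 16872) (nat_lit 5588) Col.e (nat_lit 4144) (Dv.wd (nat_lit 84) [Mv.f (nat_lit 16860), Mv.b (nat_lit 13935), Mv.f (nat_lit 14256)]))))))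
(Tr.nd (nat_lit 16876) (Tr.nd (nat_lit 16874) (Tr.lf (Fc.ed (nat_lit 16873) (nat_lit 5729) Col.d (nat_lit 5588) (Dv.wd (nat_lit 53) [Mv.f (nat_lit 16872), Mv.b (nat_lit 10713), Mv.f (nat_lit 6262), Mv.b (nat_lit 3348), Mv.f (nat_lit 3349), Mv.b (nat_lit 3179), Mv.f (nat_lit 3162), Mv.b (nat_lit 4910), Mv.f (nat_lit 10800), Mv.f (nat_lit 14569)])))
(Tr.nd (nat_lit 16875) (Tr.lf (Fc.ed (nat_lit 16874) (nat_lit 3015) Col.c (nat_lit 3283) (Dv.wd (nat_lit 14) [Mv.b (nat_lit 8419), Mv.f (nat_lit 14105), Mv.b (nat_lit 14570), Mv.f (nat_lit 16873), Mv.b (nat_lit 14256), Mv.f (nat_lit 9059), Mv.f (nat_lit 8439), Mv.f (nat_lit 6808), Mv.f (nat_lit 7860)])))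
(Tr.lf (Fc.ed (nat_lit 16875) (nat_lit 4054) Col.c (nat_lit 4237) (Dv.wd (nat_lit 33) [Mv.f (nat_lit 10907), Mv.f (nat_lit 16874), Mv.f (nat_lit 9893)])))))
(Tr.nd (nat_lit 16877) (Tr.lf (Fc.ed (nat_lit 16876) (nat_lit 5158) Col.c (nat_lit 2856) (Dv.wd (nat_lit 67) [Mv.f (nat_lit 13938), Mv.f (nat_lit 16874), Mv.b (nat_lit 13328)])))
(Tr.nd (nat_lit 16878) (Tr.lf (Fc.ed (nat_lit 16877) (nat_lit 3293) Col.c (nat_lit 3143) (Dv.wd (nat_lit 135) [Mv.f (nat_lit 8145), Mv.b (nat_lit 4909), Mv.b (nat_lit 4873), Mv.b (nat_lit 7861), Mv.f (nat_lit 16874), Mv.b (nat_lit 8419), Mv.b (nat_lit 8091), Mv.f (nat_lit 7571), Mv.b (nat_lit 9001), Mv.f (nat_lit 14531)])))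
(Tr.lf (Fc.ed (nat_lit 16878) (nat_lit 5893) Col.c (nat_lit 5538) (Dv.wd (nat_lit 109) [Mv.b (nat_lit 14159), Mv.f (nat_lit 16877), Mv.f (nat_lit 14908)])))))))))
(Tr.nd (nat_lit 16899) (Tr.nd (nat_lit 16889) (Tr.nd (nat_lit 16884) (Tr.nd (nat_lit 16881) (Tr.nd (nat_lit 16880) (Tr.lf (Fc.ed (nat_lit 16879) (nat_lit 5444) Col.c (nat_lit 5931) (Dv.wd (nat_lit 33) [Mv.b (nat_lit 15004), Mv.f (nat_lit 16878), Mv.f (nat_lit 14160)])))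
(Tr.lf (Fc.ed (nat_lit 16880) (nat_lit 6413) Col.d (nat_lit 4175) (Dv.wd (nat_lit 48) [Mv.f (nat_lit 10793), Mv.b (nat_lit 5180), Mv.f (nat_lit 7589), Mv.b (nat_lit 11802), Mv.f (nat_lit 13989), Mv.f (nat_lit 13987), Mv.f (nat_lit 16879), Mv.f (nat_lit 15850), Mv.f (nat_lit 16654)]))))
(Tr.nd (nat_lit 16882) (Tr.lf (Fc.al (nat_lit 16881) (nat_lit 3485) (nat_lit 5158) (Dv.wd (nat_lit 133) [Mv.b (nat_lit 15005), Mv.f (nat_lit 15850), Mv.f (nat_lit 16654), Mv.f (nat_lit 16880), Mv.f (nat_lit 10793), Mv.f (nat_lit 5181), Mv.f (nat_lit 3616), Mv.f (nat_lit 3618), Mv.b (nat_lit 3075), Mv.f (nat_lit 4986), Mv.f (nat_lit 8831)])))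
(Tr.nd (nat_lit 16883) (Tr.lf (Fc.ed (nat_lit 16882) (nat_lit 3485) Col.c (nat_lit 2856) (Dv.wd (nat_lit 103) [Mv.b (nat_lit 16876), Mv.b (nat_lit 16881)])))
(Tr.lf (Fc.ed (nat_lit 16883) (nat_lit 3485) Col.e (nat_lit 5931) (Dv.wd (nat_lit 117) [Mv.f (nat_lit 15005), Mv.b (nat_lit 16881)]))))))
(Tr.nd (nat_lit 16886) (Tr.nd (nat_lit 16885) (Tr.lf (Fc.al (nat_lit 16884) (nat_lit 3983) (nat_lit 3283) (Dv.wd (nat_lit 30) [Mv.b (nat_lit 13328), Mv.b (nat_lit 16881), Mv.b (nat_lit 9779)])))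
(Tr.lf (Fc.al (nat_lit 16885) (nat_lit 4054) (nat_lit 3366) (Dv.wd (nat_lit 29) [Mv.f (nat_lit 9778), Mv.f (nat_lit 16884), Mv.f (nat_lit 9893)]))))
(Tr.nd (nat_lit 16887) (Tr.lf (Fc.ed (nat_lit 16886) (nat_lit 3366) Col.c (nat_lit 4237) (Dv.wd (nat_lit 103) [Mv.b (nat_lit 16875), Mv.f (nat_lit 16885)])))
(Tr.nd (nat_lit 16888) (Tr.lf (Fc.ed (nat_lit 16887) (nat_lit 3366) Col.f (nat_lit 3143) (Dv.wd (nat_lit 30) [Mv.b (nat_lit 9894), Mv.f (nat_lit 16885)])))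
(Tr.lf (Fc.ed (nat_lit 16888) (nat_lit 5875) Col.e (nat_lit 3366) (Dv.wd (nat_lit 84) [Mv.f (nat_lit 16886), Mv.b (nat_lit 12637), Mv.b (nat_lit 14877)])))))))
(Tr.nd (nat_lit 16894) (Tr.nd (nat_lit 16891) (Tr.nd (nat_lit 16890) (Tr.lf (Fc.al (nat_lit 16889) (nat_lit 4396) (nat_lit 3414) (Dv.wd (nat_lit 100) [Mv.f (nat_lit 8690), Mv.f (nat_lit 5270), Mv.f (nat_lit 5210), Mv.f (nat_lit 8831), Mv.f (nat_lit 16882), Mv.b (nat_lit 7528), Mv.b (nat_lit 7606), Mv.b (nat_lit 8185), Mv.b (nat_lit 8592), Mv.f (nat_lit 16886), Mv.f (nat_lit 14533)])))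
(Tr.lf (Fc.ed (nat_lit 16890) (nat_lit 3414) Col.a (nat_lit 3712) (Dv.wd (nat_lit 29) [Mv.f (nat_lit 11311), Mv.f (nat_lit 16889)]))))
(Tr.nd (nat_lit 16892) (Tr.lf (Fc.ed (nat_lit 16891) (nat_lit 3414) Col.b (nat_lit 4237) (Dv.wd (nat_lit 119) [Mv.f (nat_lit 14533), Mv.f (nat_lit 16889)])))
(Tr.nd (nat_lit 16893) (Tr.lf (Fc.ed (nat_lit 16892) (nat_lit 3535) Col.c (nat_lit 3116) (Dv.wd (nat_lit 142) [Mv.b (nat_lit 8087), Mv.b (nat_lit 7303), Mv.b (nat_lit 7045), Mv.f (nat_lit 8689), Mv.f (nat_lit 16891), Mv.b (nat_lit 16886), Mv.b (nat_lit 8591), Mv.b (nat_lit 5210), Mv.f (nat_lit 8928), Mv.f (nat_lit 16846)])))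
(Tr.lf (Fc.ed (nat_lit 16893) (nat_lit 5448) Col.c (nat_lit 4966) (Dv.wd (nat_lit 109) [Mv.b (nat_lit 12890), Mv.f (nat_lit 16892), Mv.f (nat_lit 13998)]))))))
(Tr.nd (nat_lit 16896) (Tr.nd (nat_lit 16895) (Tr.lf (Fc.ed (nat_lit 16894) (nat_lit 4722) Col.c (nat_lit 4543) (Dv.wd (nat_lit 67) [Mv.b (nat_lit 11576), Mv.f (nat_lit 16892), Mv.f (nat_lit 11913)])))
(Tr.lf (Fc.ed (nat_lit 16895) (nat_lit 3004) Col.c (nat_lit 4579) (Dv.wd (nat_lit 130) [Mv.f (nat_lit 11647), Mv.b (nat_lit 7626), Mv.b (nat_lit 7606), Mv.b (nat_lit 8929), Mv.f (nat_lit 16846), Mv.f (nat_lit 16892), Mv.f (nat_lit 8088), Mv.b (nat_lit 4645), Mv.f (nat_lit 4873), Mv.f (nat_lit 7836)]))))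
(Tr.nd (nat_lit 16897) (Tr.lf (Fc.ed (nat_lit 16896) (nat_lit 3004) Col.b (nat_lit 3004) (Dv.wd (nat_lit 101) [Mv.b (nat_lit 7836), Mv.b (nat_lit 4873), Mv.f (nat_lit 4645), Mv.b (nat_lit 8088), Mv.b (nat_lit 16892), Mv.f (nat_lit 8929), Mv.f (nat_lit 7606), Mv.f (nat_lit 7626), Mv.b (nat_lit 11647), Mv.b (nat_lit 16895)])))
(Tr.nd (nat_lit 16898) (Tr.lf (Fc.ed (nat_lit 16897) (nat_lit 5266) Col.b (nat_lit 5266) (Dv.wd (nat_lit 126) [Mv.b (nat_lit 13565), Mv.f (nat_lit 16896), Mv.f (nat_lit 13565)])))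
(Tr.lf (Fc.ed (nat_lit 16898) (nat_lit 5459) Col.a (nat_lit 5459) (Dv.wd (nat_lit 155) [Mv.b (nat_lit 14018), Mv.f (nat_lit 8200), Mv.f (nat_lit 16896), Mv.b (nat_lit 8200), Mv.f (nat_lit 14018)]))))))))
(Tr.nd (nat_lit 16909) (Tr.nd (nat_lit 16904) (Tr.nd (nat_lit 16901) (Tr.nd (nat_lit 16900) (Tr.lf (Fc.ed (nat_lit 16899) (nat_lit 6489) Col.a (nat_lit 6489) (Dv.wd (nat_lit 76) [Mv.b (nat_lit 16800), Mv.f (nat_lit 16898), Mv.f (nat_lit 16800)])))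
(Tr.lf (Fc.ed (nat_lit 16900) (nat_lit 6096) Col.a (nat_lit 6096) (Dv.wd (nat_lit 54) [Mv.b (nat_lit 15335), Mv.f (nat_lit 16898), Mv.f (nat_lit 15335)]))))
(Tr.nd (nat_lit 16902) (Tr.lf (Fc.ed (nat_lit 16901) (nat_lit 5394) Col.b (nat_lit 5394) (Dv.wd (nat_lit 127) [Mv.b (nat_lit 13849), Mv.f (nat_lit 16897), Mv.f (nat_lit 13849)])))
(Tr.nd (nat_lit 16903) (Tr.lf (Fc.ed (nat_lit 16902) (nat_lit 4780) Col.c (nat_lit 3171) (Dv.wd (nat_lit 33) [Mv.f (nat_lit 8200), Mv.f (nat_lit 16895), Mv.b (nat_lit 12522)])))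
(Tr.lf (Fc.ed (nat_lit 16903) (nat_lit 4968) Col.c (nat_lit 4669) (Dv.wd (nat_lit 67) [Mv.b (nat_lit 11809), Mv.f (nat_lit 16895), Mv.b (nat_lit 12893)]))))))
(Tr.nd (nat_lit 16906) (Tr.nd (nat_lit 16905) (Tr.lf (Fc.ed (nat_lit 16904) (nat_lit 3021) Col.c (nat_lit 3107) (Dv.wd (nat_lit 33) [Mv.f (nat_lit 12892), Mv.f (nat_lit 16903), Mv.f (nat_lit 11810)])))
(Tr.lf (Fc.ed (nat_lit 16905) (nat_lit 4529) Col.c (nat_lit 3051) (Dv.wd (nat_lit 33) [Mv.b (nat_lit 11914), Mv.f (nat_lit 16894), Mv.f (nat_lit 11577)]))))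
(Tr.nd (nat_lit 16907) (Tr.lf (Fc.ed (nat_lit 16906) (nat_lit 3051) Col.e (nat_lit 5765) (Dv.wd (nat_lit 25) [Mv.b (nat_lit 14634), Mv.b (nat_lit 11844), Mv.f (nat_lit 16905)])))
(Tr.nd (nat_lit 16908) (Tr.lf (Fc.ed (nat_lit 16907) (nat_lit 5765) Col.d (nat_lit 6054) (Dv.wd (nat_lit 91) [Mv.b (nat_lit 15254), Mv.f (nat_lit 15032), Mv.f (nat_lit 5640), Mv.b (nat_lit 3477), Mv.b (nat_lit 3707), Mv.b (nat_lit 3756), Mv.b (nat_lit 3752), Mv.b (nat_lit 4646), Mv.b (nat_lit 7945), Mv.f (nat_lit 16906)])))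
(Tr.lf (Fc.ed (nat_lit 16908) (nat_lit 5880) Col.g (nat_lit 5765) (Dv.wd (nat_lit 145) [Mv.f (nat_lit 16907), Mv.b (nat_lit 15254), Mv.f (nat_lit 15032), Mv.f (nat_lit 5639), Mv.b (nat_lit 3933), Mv.f (nat_lit 6998), Mv.f (nat_lit 7915), Mv.b (nat_lit 12773), Mv.f (nat_lit 14887)])))))))
(Tr.nd (nat_lit 16914) (Tr.nd (nat_lit 16911) (Tr.nd (nat_lit 16910) (Tr.lf (Fc.ed (nat_lit 16909) (nat_lit 5640) Col.g (nat_lit 6389) (Dv.wd (nat_lit 63) [Mv.b (nat_lit 15964), Mv.f (nat_lit 15914), Mv.f (nat_lit 16908), Mv.f (nat_lit 16907), Mv.b (nat_lit 15254), Mv.f (nat_lit 15032), Mv.f (nat_lit 5640), Mv.b (nat_lit 3477), Mv.f (nat_lit 5023), Mv.f (nat_lit 14358)])))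
(Tr.lf (Fc.ed (nat_lit 16910) (nat_lit 6348) Col.g (nat_lit 5640) (Dv.wd (nat_lit 17) [Mv.f (nat_lit 16909), Mv.f (nat_lit 15965), Mv.b (nat_lit 15871)]))))
(Tr.nd (nat_lit 16912) (Tr.lf (Fc.ed (nat_lit 16911) (nat_lit 3446) Col.c (nat_lit 4693) (Dv.wd (nat_lit 14) [Mv.b (nat_lit 11855), Mv.f (nat_lit 14358), Mv.f (nat_lit 16909), Mv.b (nat_lit 15964), Mv.b (nat_lit 15912), Mv.f (nat_lit 11802), Mv.b (nat_lit 7589), Mv.b (nat_lit 4509), Mv.b (nat_lit 8758)])))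
(Tr.nd (nat_lit 16913) (Tr.lf (Fc.ed (nat_lit 16912) (nat_lit 4965) Col.g (nat_lit 6348) (Dv.wd (nat_lit 17) [Mv.f (nat_lit 16910), Mv.f (nat_lit 14359), Mv.b (nat_lit 12889)])))
(Tr.lf (Fc.ed (nat_lit 16913) (nat_lit 3507) Col.e (nat_lit 6333) (Dv.wd (nat_lit 47) [Mv.f (nat_lit 15870), Mv.f (nat_lit 16910), Mv.b (nat_lit 14358), Mv.b (nat_lit 5023), Mv.b (nat_lit 3476), Mv.f (nat_lit 3210), Mv.b (nat_lit 3730), Mv.b (nat_lit 3726), Mv.b (nat_lit 5585), Mv.f (nat_lit 8871)]))))))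
(Tr.nd (nat_lit 16917) (Tr.nd (nat_lit 16915) (Tr.lf (Fc.ed (nat_lit 16914) (nat_lit 4991) Col.c (nat_lit 3507) (Dv.wd (nat_lit 109) [Mv.f (nat_lit 16913), Mv.b (nat_lit 15842), Mv.b (nat_lit 13428)])))
(Tr.nd (nat_lit 16916) (Tr.lf (Fc.ed (nat_lit 16915) (nat_lit 4292) Col.c (nat_lit 2715) (Dv.wd (nat_lit 81) [Mv.f (nat_lit 7219), Mv.b (nat_lit 4593), Mv.f (nat_lit 12989), Mv.f (nat_lit 16914), Mv.f (nat_lit 8872), Mv.f (nat_lit 7445), Mv.f (nat_lit 7229), Mv.b (nat_lit 7232), Mv.f (nat_lit 11047)])))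
(Tr.lf (Fc.ed (nat_lit 16916) (nat_lit 2972) Col.b (nat_lit 5702) (Dv.wd (nat_lit 104) [Mv.b (nat_lit 14466), Mv.b (nat_lit 13533), Mv.b (nat_lit 7959), Mv.f (nat_lit 5396), Mv.f (nat_lit 12989), Mv.f (nat_lit 16914), Mv.f (nat_lit 8872), Mv.f (nat_lit 7445), Mv.f (nat_lit 5429), Mv.f (nat_lit 7766)])))))
(Tr.nd (nat_lit 16918) (Tr.lf (Fc.ed (nat_lit 16917) (nat_lit 3271) Col.b (nat_lit 4991) (Dv.wd (nat_lit 168) [Mv.f (nat_lit 16914), Mv.b (nat_lit 8871), Mv.b (nat_lit 5584), Mv.b (nat_lit 7767), Mv.f (nat_lit 16916), Mv.b (nat_lit 14466), Mv.f (nat_lit 13534), Mv.f (nat_lit 11744), Mv.f (nat_lit 8904), Mv.f (nat_lit 8394)])))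
(Tr.nd (nat_lit 16919) (Tr.lf (Fc.ed (nat_lit 16918) (nat_lit 5692) Col.b (nat_lit 4124) (Dv.wd (nat_lit 106) [Mv.b (nat_lit 10618), Mv.f (nat_lit 6068), Mv.f (nat_lit 5584), Mv.f (nat_lit 8871), Mv.b (nat_lit 16914), Mv.b (nat_lit 16917), Mv.b (nat_lit 8394), Mv.b (nat_lit 12570), Mv.b (nat_lit 12643), Mv.f (nat_lit 14449)])))
(Tr.lf (Fc.al (nat_lit 16919) (nat_lit 5691) (nat_lit 4959) (Dv.wd (nat_lit 122) [Mv.b (nat_lit 12876), Mv.f (nat_lit 8904), Mv.b (nat_lit 12570), Mv.b (nat_lit 12643), Mv.f (nat_lit 14449), Mv.f (nat_lit 16918), Mv.b (nat_lit 10618), Mv.b (nat_lit 11093), Mv.b (nat_lit 16648), Mv.b (nat_lit 15348), Mv.f (nat_lit 14448)])))))))))))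
(Tr.nd (nat_lit 17002) (Tr.nd (nat_lit 16961) (Tr.nd (nat_lit 16940) (Tr.nd (nat_lit 16930) (Tr.nd (nat_lit 16925) (Tr.nd (nat_lit 16922) (Tr.nd (nat_lit 16921) (Tr.lf (Fc.ed (nat_lit 16920) (nat_lit 4959) Col.b (nat_lit 4504) (Dv.wd (nat_lit 119) [Mv.f (nat_lit 14448), Mv.f (nat_lit 16919)])))
(Tr.lf (Fc.ed (nat_lit 16921) (nat_lit 5201) Col.b (nat_lit 3394) (Dv.wd (nat_lit 127) [Mv.f (nat_lit 8649), Mv.f (nat_lit 16917), Mv.f (nat_lit 13428)]))))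
(Tr.nd (nat_lit 16923) (Tr.lf (Fc.ed (nat_lit 16922) (nat_lit 3275) Col.b (nat_lit 3278) (Dv.wd (nat_lit 126) [Mv.b (nat_lit 13429), Mv.f (nat_lit 16921), Mv.b (nat_lit 8648)])))
(Tr.nd (nat_lit 16924) (Tr.lf (Fc.ed (nat_lit 16923) (nat_lit 4332) Col.c (nat_lit 4471) (Dv.wd (nat_lit 67) [Mv.b (nat_lit 11448), Mv.f (nat_lit 16915), Mv.b (nat_lit 11122)])))
(Tr.lf (Fc.ed (nat_lit 16924) (nat_lit 2964) Col.c (nat_lit 3026) (Dv.wd (nat_lit 33) [Mv.f (nat_lit 11121), Mv.f (nat_lit 16923), Mv.f (nat_lit 11449)]))))))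
(Tr.nd (nat_lit 16927) (Tr.nd (nat_lit 16926) (Tr.lf (Fc.ed (nat_lit 16925) (nat_lit 3313) Col.c (nat_lit 3409) (Dv.wd (nat_lit 138) [Mv.b (nat_lit 8681), Mv.b (nat_lit 5584), Mv.f (nat_lit 4532), Mv.f (nat_lit 4594), Mv.f (nat_lit 7748), Mv.f (nat_lit 16924), Mv.f (nat_lit 7882), Mv.b (nat_lit 7207), Mv.f (nat_lit 8478)])))
(Tr.lf (Fc.ed (nat_lit 16926) (nat_lit 3026) Col.b (nat_lit 3360) (Dv.wd (nat_lit 101) [Mv.f (nat_lit 8581), Mv.b (nat_lit 7795), Mv.b (nat_lit 11656), Mv.b (nat_lit 11784), Mv.b (nat_lit 16645), Mv.f (nat_lit 8482), Mv.f (nat_lit 4584), Mv.f (nat_lit 4594), Mv.f (nat_lit 7748), Mv.f (nat_lit 16924)]))))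
(Tr.nd (nat_lit 16928) (Tr.lf (Fc.ed (nat_lit 16927) (nat_lit 5793) Col.c (nat_lit 5854) (Dv.wd (nat_lit 143) [Mv.b (nat_lit 14822), Mv.f (nat_lit 8482), Mv.f (nat_lit 4584), Mv.f (nat_lit 4594), Mv.f (nat_lit 7748), Mv.f (nat_lit 16924), Mv.f (nat_lit 7882), Mv.b (nat_lit 8056), Mv.f (nat_lit 9189), Mv.b (nat_lit 14715)])))
(Tr.nd (nat_lit 16929) (Tr.lf (Fc.al (nat_lit 16928) (nat_lit 5718) (nat_lit 3157) (Dv.wd (nat_lit 122) [Mv.f (nat_lit 8171), Mv.f (nat_lit 7249), Mv.b (nat_lit 8486), Mv.f (nat_lit 14714), Mv.f (nat_lit 16927), Mv.b (nat_lit 14822), Mv.b (nat_lit 8481), Mv.b (nat_lit 11656), Mv.b (nat_lit 11725), Mv.b (nat_lit 16642), Mv.f (nat_lit 14549)])))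
(Tr.lf (Fc.al (nat_lit 16929) (nat_lit 5688) (nat_lit 3381) (Dv.wd (nat_lit 119) [Mv.f (nat_lit 14549), Mv.f (nat_lit 16928), Mv.f (nat_lit 14444)])))))))
(Tr.nd (nat_lit 16935) (Tr.nd (nat_lit 16932) (Tr.nd (nat_lit 16931) (Tr.lf (Fc.ed (nat_lit 16930) (nat_lit 3381) Col.b (nat_lit 3157) (Dv.wd (nat_lit 119) [Mv.f (nat_lit 14444), Mv.f (nat_lit 16929)])))
(Tr.lf (Fc.ed (nat_lit 16931) (nat_lit 5918) Col.b (nat_lit 3455) (Dv.wd (nat_lit 126) [Mv.b (nat_lit 8772), Mv.f (nat_lit 16930), Mv.f (nat_lit 14975)]))))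
(Tr.nd (nat_lit 16933) (Tr.lf (Fc.ed (nat_lit 16932) (nat_lit 4825) Col.b (nat_lit 5812) (Dv.wd (nat_lit 107) [Mv.b (nat_lit 14755), Mv.f (nat_lit 16930), Mv.b (nat_lit 12606)])))
(Tr.nd (nat_lit 16934) (Tr.lf (Fc.ed (nat_lit 16933) (nat_lit 3281) Col.c (nat_lit 4411) (Dv.wd (nat_lit 94) [Mv.b (nat_lit 11344), Mv.b (nat_lit 4584), Mv.f (nat_lit 7278), Mv.f (nat_lit 11724), Mv.b (nat_lit 16642), Mv.f (nat_lit 16930), Mv.b (nat_lit 8170), Mv.f (nat_lit 8008), Mv.b (nat_lit 4857), Mv.b (nat_lit 8416)])))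
(Tr.lf (Fc.ed (nat_lit 16934) (nat_lit 3539) Col.b (nat_lit 3247) (Dv.wd (nat_lit 126) [Mv.b (nat_lit 8347), Mv.f (nat_lit 16926), Mv.f (nat_lit 8937)]))))))
(Tr.nd (nat_lit 16937) (Tr.nd (nat_lit 16936) (Tr.lf (Fc.ed (nat_lit 16935) (nat_lit 2884) Col.b (nat_lit 2993) (Dv.wd (nat_lit 127) [Mv.b (nat_lit 8938), Mv.f (nat_lit 16934), Mv.f (nat_lit 8348)])))
(Tr.lf (Fc.ed (nat_lit 16936) (nat_lit 4035) Col.b (nat_lit 5212) (Dv.wd (nat_lit 107) [Mv.f (nat_lit 13453), Mv.f (nat_lit 16935), Mv.f (nat_lit 9864)]))))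
(Tr.nd (nat_lit 16938) (Tr.lf (Fc.ed (nat_lit 16937) (nat_lit 5495) Col.b (nat_lit 4556) (Dv.wd (nat_lit 126) [Mv.b (nat_lit 11602), Mv.f (nat_lit 16936), Mv.f (nat_lit 14083)])))
(Tr.nd (nat_lit 16939) (Tr.lf (Fc.ed (nat_lit 16938) (nat_lit 5172) Col.b (nat_lit 2173) (Dv.wd (nat_lit 159) [Mv.b (nat_lit 9865), Mv.f (nat_lit 16936), Mv.b (nat_lit 13452), Mv.b (nat_lit 16922), Mv.f (nat_lit 13355)])))
(Tr.lf (Fc.ed (nat_lit 16939) (nat_lit 4093) Col.b (nat_lit 5070) (Dv.wd (nat_lit 107) [Mv.b (nat_lit 13356), Mv.f (nat_lit 16938), Mv.b (nat_lit 9968)]))))))))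
(Tr.nd (nat_lit 16950) (Tr.nd (nat_lit 16945) (Tr.nd (nat_lit 16942) (Tr.nd (nat_lit 16941) (Tr.lf (Fc.ed (nat_lit 16940) (nat_lit 5127) Col.b (nat_lit 5024) (Dv.wd (nat_lit 127) [Mv.f (nat_lit 13052), Mv.f (nat_lit 16939), Mv.f (nat_lit 13259)])))
(Tr.lf (Fc.al (nat_lit 16941) (nat_lit 4569) (nat_lit 5913) (Dv.wd (nat_lit 127) [Mv.b (nat_lit 14967), Mv.f (nat_lit 14081), Mv.f (nat_lit 16937), Mv.b (nat_lit 11627)]))))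
(Tr.nd (nat_lit 16943) (Tr.lf (Fc.ed (nat_lit 16942) (nat_lit 4569) Col.b (nat_lit 5409) (Dv.wd (nat_lit 119) [Mv.f (nat_lit 14967), Mv.b (nat_lit 16941)])))
(Tr.nd (nat_lit 16944) (Tr.lf (Fc.ed (nat_lit 16943) (nat_lit 4309) Col.b (nat_lit 2600) (Dv.wd (nat_lit 159) [Mv.f (nat_lit 11626), Mv.f (nat_lit 16942), Mv.f (nat_lit 13878), Mv.b (nat_lit 16917), Mv.b (nat_lit 11081)])))
(Tr.lf (Fc.ed (nat_lit 16944) (nat_lit 3721) Col.b (nat_lit 3907) (Dv.wd (nat_lit 107) [Mv.f (nat_lit 11080), Mv.f (nat_lit 16943), Mv.b (nat_lit 9286)]))))))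
(Tr.nd (nat_lit 16947) (Tr.nd (nat_lit 16946) (Tr.lf (Fc.ed (nat_lit 16945) (nat_lit 4959) Col.c (nat_lit 5067) (Dv.wd (nat_lit 135) [Mv.f (nat_lit 13145), Mv.b (nat_lit 7995), Mv.b (nat_lit 7487), Mv.f (nat_lit 8478), Mv.f (nat_lit 16925), Mv.b (nat_lit 8681), Mv.b (nat_lit 5584), Mv.b (nat_lit 6068), Mv.f (nat_lit 11505), Mv.b (nat_lit 16920)])))
(Tr.lf (Fc.al (nat_lit 16946) (nat_lit 5854) (nat_lit 3518) (Dv.wd (nat_lit 141) [Mv.b (nat_lit 8892), Mv.f (nat_lit 5395), Mv.b (nat_lit 12877), Mv.f (nat_lit 16945), Mv.f (nat_lit 13145), Mv.b (nat_lit 7995), Mv.b (nat_lit 8057), Mv.f (nat_lit 9189), Mv.b (nat_lit 14715), Mv.f (nat_lit 16927)]))))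
(Tr.nd (nat_lit 16948) (Tr.lf (Fc.al (nat_lit 16947) (nat_lit 5780) (nat_lit 3315) (Dv.wd (nat_lit 119) [Mv.f (nat_lit 14822), Mv.f (nat_lit 16946), Mv.f (nat_lit 14687)])))
(Tr.nd (nat_lit 16949) (Tr.lf (Fc.ed (nat_lit 16948) (nat_lit 3518) Col.c (nat_lit 5793) (Dv.wd (nat_lit 103) [Mv.f (nat_lit 16927), Mv.f (nat_lit 16946)])))
(Tr.lf (Fc.ed (nat_lit 16949) (nat_lit 3315) Col.b (nat_lit 3518) (Dv.wd (nat_lit 119) [Mv.f (nat_lit 14687), Mv.f (nat_lit 16947)])))))))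
(Tr.nd (nat_lit 16955) (Tr.nd (nat_lit 16952) (Tr.nd (nat_lit 16951) (Tr.lf (Fc.al (nat_lit 16950) (nat_lit 3945) (nat_lit 5692) (Dv.wd (nat_lit 168) [Mv.f (nat_lit 16918), Mv.b (nat_lit 16644), Mv.b (nat_lit 15150), Mv.f (nat_lit 11322), Mv.b (nat_lit 11506), Mv.b (nat_lit 16920), Mv.f (nat_lit 16945), Mv.b (nat_lit 13144), Mv.b (nat_lit 8939), Mv.b (nat_lit 6882), Mv.b (nat_lit 9713)])))
(Tr.lf (Fc.ed (nat_lit 16951) (nat_lit 3945) Col.b (nat_lit 4124) (Dv.wd (nat_lit 119) [Mv.b (nat_lit 16918), Mv.b (nat_lit 16950)]))))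
(Tr.nd (nat_lit 16953) (Tr.lf (Fc.ed (nat_lit 16952) (nat_lit 3945) Col.c (nat_lit 4844) (Dv.wd (nat_lit 103) [Mv.f (nat_lit 14449), Mv.b (nat_lit 16950)])))
(Tr.nd (nat_lit 16954) (Tr.lf (Fc.ed (nat_lit 16953) (nat_lit 5633) Col.c (nat_lit 3157) (Dv.wd (nat_lit 81) [Mv.b (nat_lit 8170), Mv.f (nat_lit 8134), Mv.f (nat_lit 9712), Mv.f (nat_lit 16952), Mv.b (nat_lit 12642), Mv.f (nat_lit 7059), Mv.b (nat_lit 4960), Mv.b (nat_lit 8718), Mv.b (nat_lit 14347)])))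
(Tr.lf (Fc.ed (nat_lit 16954) (nat_lit 2715) Col.b (nat_lit 4257) (Dv.wd (nat_lit 165) [Mv.b (nat_lit 10951), Mv.f (nat_lit 9950), Mv.f (nat_lit 14346), Mv.f (nat_lit 16953), Mv.b (nat_lit 16930), Mv.b (nat_lit 8622), Mv.f (nat_lit 4584), Mv.f (nat_lit 4594), Mv.b (nat_lit 11048), Mv.f (nat_lit 16915)]))))))
(Tr.nd (nat_lit 16958) (Tr.nd (nat_lit 16956) (Tr.lf (Fc.ed (nat_lit 16955) (nat_lit 4411) Col.b (nat_lit 3022) (Dv.wd (nat_lit 101) [Mv.f (nat_lit 7875), Mv.b (nat_lit 4959), Mv.b (nat_lit 8718), Mv.b (nat_lit 14347), Mv.f (nat_lit 16953), Mv.b (nat_lit 8170), Mv.f (nat_lit 8008), Mv.b (nat_lit 4857), Mv.b (nat_lit 8416), Mv.f (nat_lit 16933)])))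
(Tr.nd (nat_lit 16957) (Tr.lf (Fc.ed (nat_lit 16956) (nat_lit 4339) Col.b (nat_lit 5085) (Dv.wd (nat_lit 107) [Mv.b (nat_lit 13178), Mv.f (nat_lit 16955), Mv.b (nat_lit 11134)])))
(Tr.lf (Fc.ed (nat_lit 16957) (nat_lit 4553) Col.b (nat_lit 5491) (Dv.wd (nat_lit 107) [Mv.b (nat_lit 14074), Mv.f (nat_lit 16951), Mv.b (nat_lit 11594)])))))
(Tr.nd (nat_lit 16959) (Tr.lf (Fc.al (nat_lit 16958) (nat_lit 4309) (nat_lit 5711) (Dv.wd (nat_lit 156) [Mv.b (nat_lit 14477), Mv.b (nat_lit 11772), Mv.b (nat_lit 7503), Mv.b (nat_lit 9713), Mv.f (nat_lit 16951), Mv.b (nat_lit 16644), Mv.b (nat_lit 15150), Mv.f (nat_lit 11322), Mv.f (nat_lit 7320), Mv.f (nat_lit 6966), Mv.b (nat_lit 16943)])))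
(Tr.nd (nat_lit 16960) (Tr.lf (Fc.ed (nat_lit 16959) (nat_lit 4309) Col.c (nat_lit 4650) (Dv.wd (nat_lit 103) [Mv.f (nat_lit 14477), Mv.b (nat_lit 16958)])))
(Tr.lf (Fc.ed (nat_lit 16960) (nat_lit 5236) Col.b (nat_lit 5558) (Dv.wd (nat_lit 65) [Mv.b (nat_lit 14195), Mv.f (nat_lit 16920), Mv.f (nat_lit 11593), Mv.f (nat_lit 16957), Mv.f (nat_lit 14075)])))))))))
(Tr.nd (nat_lit 16981) (Tr.nd (nat_lit 16971) (Tr.nd (nat_lit 16966) (Tr.nd (nat_lit 16963) (Tr.nd (nat_lit 16962) (Tr.lf (Fc.ed (nat_lit 16961) (nat_lit 5963) Col.b (nat_lit 5520) (Dv.wd (nat_lit 126) [Mv.b (nat_lit 14124), Mv.f (nat_lit 16949), Mv.f (nat_lit 15094)])))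
(Tr.lf (Fc.ed (nat_lit 16962) (nat_lit 5774) Col.b (nat_lit 4565) (Dv.wd (nat_lit 65) [Mv.f (nat_lit 12605), Mv.f (nat_lit 16932), Mv.f (nat_lit 14756), Mv.f (nat_lit 16949), Mv.f (nat_lit 14650)]))))
(Tr.nd (nat_lit 16964) (Tr.lf (Fc.ed (nat_lit 16963) (nat_lit 3211) Col.c (nat_lit 3360) (Dv.wd (nat_lit 94) [Mv.f (nat_lit 8581), Mv.b (nat_lit 7795), Mv.b (nat_lit 11656), Mv.b (nat_lit 11784), Mv.b (nat_lit 16645), Mv.f (nat_lit 16949), Mv.b (nat_lit 8892), Mv.b (nat_lit 4500), Mv.b (nat_lit 4692), Mv.f (nat_lit 8281)])))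
(Tr.nd (nat_lit 16965) (Tr.lf (Fc.ed (nat_lit 16964) (nat_lit 5013) Col.b (nat_lit 4234) (Dv.wd (nat_lit 107) [Mv.b (nat_lit 14652), Mv.f (nat_lit 16962), Mv.b (nat_lit 13029)])))
(Tr.lf (Fc.ed (nat_lit 16965) (nat_lit 2797) Col.c (nat_lit 4821) (Dv.wd (nat_lit 14) [Mv.b (nat_lit 12598), Mv.f (nat_lit 12888), Mv.f (nat_lit 16912), Mv.b (nat_lit 15870), Mv.b (nat_lit 15842), Mv.f (nat_lit 13429), Mv.f (nat_lit 8410), Mv.f (nat_lit 7467), Mv.b (nat_lit 7401)]))))))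
(Tr.nd (nat_lit 16968) (Tr.nd (nat_lit 16967) (Tr.lf (Fc.ed (nat_lit 16966) (nat_lit 3530) Col.c (nat_lit 2884) (Dv.wd (nat_lit 81) [Mv.b (nat_lit 7589), Mv.b (nat_lit 4509), Mv.f (nat_lit 7400), Mv.f (nat_lit 16965), Mv.b (nat_lit 12598), Mv.b (nat_lit 6802), Mv.b (nat_lit 9981), Mv.f (nat_lit 6082), Mv.f (nat_lit 8921)])))
(Tr.lf (Fc.ed (nat_lit 16967) (nat_lit 3618) Col.c (nat_lit 4412) (Dv.wd (nat_lit 33) [Mv.b (nat_lit 11346), Mv.f (nat_lit 16966), Mv.f (nat_lit 9082)]))))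
(Tr.nd (nat_lit 16969) (Tr.lf (Fc.ed (nat_lit 16968) (nat_lit 5212) Col.c (nat_lit 4362) (Dv.wd (nat_lit 67) [Mv.b (nat_lit 11187), Mv.f (nat_lit 16966), Mv.b (nat_lit 13453)])))
(Tr.nd (nat_lit 16970) (Tr.lf (Fc.ed (nat_lit 16969) (nat_lit 4297) Col.c (nat_lit 3278) (Dv.wd (nat_lit 33) [Mv.f (nat_lit 13452), Mv.f (nat_lit 16968), Mv.f (nat_lit 11188)])))
(Tr.lf (Fc.ed (nat_lit 16970) (nat_lit 5660) Col.c (nat_lit 5215) (Dv.wd (nat_lit 109) [Mv.b (nat_lit 13456), Mv.f (nat_lit 16967), Mv.f (nat_lit 14398)])))))))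
(Tr.nd (nat_lit 16976) (Tr.nd (nat_lit 16973) (Tr.nd (nat_lit 16972) (Tr.lf (Fc.ed (nat_lit 16971) (nat_lit 4841) Col.b (nat_lit 3425) (Dv.wd (nat_lit 127) [Mv.b (nat_lit 8716), Mv.f (nat_lit 16891), Mv.b (nat_lit 12637)])))
(Tr.lf (Fc.ed (nat_lit 16972) (nat_lit 5634) Col.b (nat_lit 5291) (Dv.wd (nat_lit 107) [Mv.f (nat_lit 13825), Mv.f (nat_lit 16971), Mv.f (nat_lit 14348)]))))
(Tr.nd (nat_lit 16974) (Tr.lf (Fc.ed (nat_lit 16973) (nat_lit 4143) Col.a (nat_lit 3425) (Dv.wd (nat_lit 31) [Mv.b (nat_lit 8716), Mv.f (nat_lit 16890), Mv.f (nat_lit 10711)])))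
(Tr.nd (nat_lit 16975) (Tr.lf (Fc.ed (nat_lit 16974) (nat_lit 3425) Col.d (nat_lit 5183) (Dv.wd (nat_lit 28) [Mv.b (nat_lit 13376), Mv.b (nat_lit 10712), Mv.f (nat_lit 16973)])))
(Tr.lf (Fc.ed (nat_lit 16975) (nat_lit 5183) Col.b (nat_lit 4178) (Dv.wd (nat_lit 37) [Mv.b (nat_lit 12636), Mv.f (nat_lit 16971), Mv.f (nat_lit 16974)]))))))
(Tr.nd (nat_lit 16978) (Tr.nd (nat_lit 16977) (Tr.lf (Fc.ed (nat_lit 16976) (nat_lit 5183) Col.g (nat_lit 1448) (Dv.wd (nat_lit 63) [Mv.b (nat_lit 4918), Mv.b (nat_lit 4915), Mv.b (nat_lit 3838), Mv.f (nat_lit 3794), Mv.f (nat_lit 3258), Mv.f (nat_lit 2153), Mv.f (nat_lit 5269), Mv.b (nat_lit 8690), Mv.f (nat_lit 8716), Mv.f (nat_lit 16974)])))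
(Tr.lf (Fc.ed (nat_lit 16977) (nat_lit 5931) Col.b (nat_lit 6462) (Dv.wd (nat_lit 49) [Mv.b (nat_lit 16745), Mv.b (nat_lit 15578), Mv.f (nat_lit 16883)]))))
(Tr.nd (nat_lit 16979) (Tr.lf (Fc.ed (nat_lit 16978) (nat_lit 5758) Col.d (nat_lit 5507) (Dv.wd (nat_lit 116) [Mv.f (nat_lit 16856), Mv.f (nat_lit 8407), Mv.f (nat_lit 14621)])))
(Tr.nd (nat_lit 16980) (Tr.lf (Fc.ed (nat_lit 16979) (nat_lit 5460) Col.b (nat_lit 6477) (Dv.wd (nat_lit 127) [Mv.b (nat_lit 16778), Mv.f (nat_lit 16856), Mv.b (nat_lit 14020)])))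
(Tr.lf (Fc.ed (nat_lit 16980) (nat_lit 5432) Col.f (nat_lit 5507) (Dv.wd (nat_lit 125) [Mv.f (nat_lit 16856), Mv.f (nat_lit 14520), Mv.f (nat_lit 13965)]))))))))
(Tr.nd (nat_lit 16991) (Tr.nd (nat_lit 16986) (Tr.nd (nat_lit 16983) (Tr.nd (nat_lit 16982) (Tr.lf (Fc.ed (nat_lit 16981) (nat_lit 5440) Col.a (nat_lit 5507) (Dv.wd (nat_lit 167) [Mv.f (nat_lit 16856), Mv.f (nat_lit 14519), Mv.b (nat_lit 14527), Mv.f (nat_lit 13936), Mv.b (nat_lit 16848)])))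
(Tr.lf (Fc.ed (nat_lit 16982) (nat_lit 3402) Col.c (nat_lit 3257) (Dv.wd (nat_lit 94) [Mv.f (nat_lit 8370), Mv.f (nat_lit 4871), Mv.f (nat_lit 6236), Mv.b (nat_lit 9412), Mv.f (nat_lit 14101), Mv.f (nat_lit 16856), Mv.b (nat_lit 8311), Mv.f (nat_lit 7846), Mv.b (nat_lit 8375), Mv.f (nat_lit 8668)]))))
(Tr.nd (nat_lit 16984) (Tr.lf (Fc.ed (nat_lit 16983) (nat_lit 5645) Col.d (nat_lit 5440) (Dv.wd (nat_lit 97) [Mv.f (nat_lit 16981), Mv.b (nat_lit 16978), Mv.f (nat_lit 14622)])))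
(Tr.nd (nat_lit 16985) (Tr.lf (Fc.ed (nat_lit 16984) (nat_lit 5441) Col.f (nat_lit 5440) (Dv.wd (nat_lit 73) [Mv.f (nat_lit 16981), Mv.b (nat_lit 16980), Mv.b (nat_lit 14530)])))
(Tr.lf (Fc.ed (nat_lit 16985) (nat_lit 4993) Col.f (nat_lit 4361) (Dv.wd (nat_lit 26) [Mv.f (nat_lit 16855), Mv.f (nat_lit 16984), Mv.b (nat_lit 13981)]))))))
(Tr.nd (nat_lit 16988) (Tr.nd (nat_lit 16987) (Tr.lf (Fc.ed (nat_lit 16986) (nat_lit 4735) Col.f (nat_lit 6504) Dv.df))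
(Tr.lf (Fc.ed (nat_lit 16987) (nat_lit 6504) Col.a (nat_lit 6361) (Dv.wd (nat_lit 16) [Mv.b (nat_lit 16346), Mv.f (nat_lit 12332), Mv.f (nat_lit 16986)]))))
(Tr.nd (nat_lit 16989) (Tr.lf (Fc.ed (nat_lit 16988) (nat_lit 4122) Col.a (nat_lit 6505) Dv.df))
(Tr.nd (nat_lit 16990) (Tr.lf (Fc.ed (nat_lit 16989) (nat_lit 6505) Col.c (nat_lit 6014) (Dv.wd (nat_lit 33) [Mv.f (nat_lit 15186), Mv.f (nat_lit 11927), Mv.f (nat_lit 16988)])))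
(Tr.lf (Fc.ed (nat_lit 16990) (nat_lit 6505) Col.f (nat_lit 6386) (Dv.wd (nat_lit 35) [Mv.f (nat_lit 15945), Mv.b (nat_lit 10616), Mv.f (nat_lit 16988)])))))))
(Tr.nd (nat_lit 16996) (Tr.nd (nat_lit 16993) (Tr.nd (nat_lit 16992) (Tr.lf (Fc.ed (nat_lit 16991) (nat_lit 6467) Col.d (nat_lit 6506) Dv.df))
(Tr.lf (Fc.ed (nat_lit 16992) (nat_lit 6506) Col.b (nat_lit 6074) (Dv.wd (nat_lit 37) [Mv.b (nat_lit 15612), Mv.f (nat_lit 16756), Mv.f (nat_lit 16991)]))))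
(Tr.nd (nat_lit 16994) (Tr.lf (Fc.ed (nat_lit 16993) (nat_lit 6506) Col.e (nat_lit 2404) (Dv.wd (nat_lit 42) [Mv.f (nat_lit 10424), Mv.b (nat_lit 12154), Mv.b (nat_lit 10198), Mv.b (nat_lit 16757), Mv.f (nat_lit 16991)])))
(Tr.nd (nat_lit 16995) (Tr.lf (Fc.ed (nat_lit 16994) (nat_lit 5302) Col.d (nat_lit 6507) Dv.df))
(Tr.lf (Fc.ed (nat_lit 16995) (nat_lit 5569) Col.d (nat_lit 6508) Dv.df)))))
(Tr.nd (nat_lit 16999) (Tr.nd (nat_lit 16997) (Tr.lf (Fc.ed (nat_lit 16996) (nat_lit 6508) Col.a (nat_lit 5096) (Dv.wd (nat_lit 8) [Mv.f (nat_lit 13203), Mv.b (nat_lit 14221), Mv.f (nat_lit 16995)])))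
(Tr.nd (nat_lit 16998) (Tr.lf (Fc.ed (nat_lit 16997) (nat_lit 6490) Col.c (nat_lit 6509) Dv.df))
(Tr.lf (Fc.ed (nat_lit 16998) (nat_lit 4616) Col.b (nat_lit 6510) Dv.df))))
(Tr.nd (nat_lit 17000) (Tr.lf (Fc.ed (nat_lit 16999) (nat_lit 6510) Col.d (nat_lit 6378) (Dv.wd (nat_lit 58) [Mv.f (nat_lit 15930), Mv.b (nat_lit 11713), Mv.f (nat_lit 16998)])))
(Tr.nd (nat_lit 17001) (Tr.lf (Fc.ed (nat_lit 17000) (nat_lit 6510) Col.f (nat_lit 5586) (Dv.wd (nat_lit 20) [Mv.b (nat_lit 14253), Mv.f (nat_lit 12389), Mv.f (nat_lit 16998)])))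
(Tr.lf (Fc.ed (nat_lit 17001) (nat_lit 6006) Col.f (nat_lit 6511) Dv.df)))))))))
(Tr.nd (nat_lit 17043) (Tr.nd (nat_lit 17022) (Tr.nd (nat_lit 17012) (Tr.nd (nat_lit 17007) (Tr.nd (nat_lit 17004) (Tr.nd (nat_lit 17003) (Tr.lf (Fc.ed (nat_lit 17002) (nat_lit 6511) Col.g (nat_lit 4255) (Dv.wd (nat_lit 17) [Mv.b (nat_lit 16615), Mv.b (nat_lit 15170), Mv.f (nat_lit 17001)])))
(Tr.lf (Fc.ed (nat_lit 17003) (nat_lit 5933) Col.f (nat_lit 6512) Dv.df)))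
(Tr.nd (nat_lit 17005) (Tr.lf (Fc.ed (nat_lit 17004) (nat_lit 6512) Col.e (nat_lit 5006) (Dv.wd (nat_lit 22) [Mv.b (nat_lit 13015), Mv.f (nat_lit 12784), Mv.b (nat_lit 7113), Mv.f (nat_lit 15008), Mv.f (nat_lit 17003)])))
(Tr.nd (nat_lit 17006) (Tr.lf (Fc.ed (nat_lit 17005) (nat_lit 4305) Col.d (nat_lit 6513) Dv.df))
(Tr.lf (Fc.ed (nat_lit 17006) (nat_lit 6513) Col.f (nat_lit 6496) (Dv.wd (nat_lit 11) [Mv.b (nat_lit 16815), Mv.b (nat_lit 16517), Mv.f (nat_lit 17005)]))))))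
(Tr.nd (nat_lit 17009) (Tr.nd (nat_lit 17008) (Tr.lf (Fc.ed (nat_lit 17007) (nat_lit 4326) Col.b (nat_lit 6514) Dv.df))
(Tr.lf (Fc.ed (nat_lit 17008) (nat_lit 6514) Col.f (nat_lit 5818) (Dv.wd (nat_lit 20) [Mv.b (nat_lit 14763), Mv.f (nat_lit 11819), Mv.f (nat_lit 17007)]))))
(Tr.nd (nat_lit 17010) (Tr.lf (Fc.ed (nat_lit 17009) (nat_lit 6514) Col.c (nat_lit 6147) (Dv.wd (nat_lit 142) [Mv.f (nat_lit 15425), Mv.b (nat_lit 15916), Mv.b (nat_lit 15915), Mv.f (nat_lit 14808), Mv.b (nat_lit 14649), Mv.b (nat_lit 14237), Mv.b (nat_lit 14239), Mv.b (nat_lit 13392), Mv.b (nat_lit 11278), Mv.f (nat_lit 17007)])))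
(Tr.nd (nat_lit 17011) (Tr.lf (Fc.ed (nat_lit 17010) (nat_lit 6147) Col.d (nat_lit 4910) (Dv.wd (nat_lit 149) [Mv.f (nat_lit 12775), Mv.f (nat_lit 7971), Mv.b (nat_lit 3631), Mv.f (nat_lit 2107), Mv.b (nat_lit 1246), Mv.f (nat_lit 818), Mv.f (nat_lit 821), Mv.f (nat_lit 1203), Mv.f (nat_lit 1727), Mv.b (nat_lit 1729), Mv.f (nat_lit 879), Mv.f (nat_lit 1106), Mv.f (nat_lit 881), Mv.f (nat_lit 3360), Mv.f (nat_lit 5570), Mv.f (nat_lit 11274), Mv.b (nat_lit 11278), Mv.f (nat_lit 17007), Mv.f (nat_lit 17009)])))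
(Tr.lf (Fc.ed (nat_lit 17011) (nat_lit 6147) Col.f (nat_lit 5754) (Dv.wd (nat_lit 26) [Mv.b (nat_lit 14764), Mv.b (nat_lit 17008), Mv.f (nat_lit 17009)])))))))
(Tr.nd (nat_lit 17017) (Tr.nd (nat_lit 17014) (Tr.nd (nat_lit 17013) (Tr.lf (Fc.ed (nat_lit 17012) (nat_lit 5098) Col.f (nat_lit 4910) (Dv.wd (nat_lit 11) [Mv.b (nat_lit 17010), Mv.f (nat_lit 17011), Mv.b (nat_lit 14613)])))
(Tr.lf (Fc.ed (nat_lit 17013) (nat_lit 5489) Col.a (nat_lit 5098) (Dv.wd (nat_lit 79) [Mv.f (nat_lit 17012), Mv.f (nat_lit 15598), Mv.f (nat_lit 15599)]))))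
(Tr.nd (nat_lit 17015) (Tr.lf (Fc.ed (nat_lit 17014) (nat_lit 3129) Col.gi (nat_lit 6238) (Dv.wd (nat_lit 24) [Mv.f (nat_lit 15599), Mv.f (nat_lit 17013), Mv.b (nat_lit 13206)])))
(Tr.nd (nat_lit 17016) (Tr.lf (Fc.ed (nat_lit 17015) (nat_lit 6238) Col.c (nat_lit 6285) (Dv.wd (nat_lit 143) [Mv.b (nat_lit 15750), Mv.f (nat_lit 15616), Mv.f (nat_lit 6970), Mv.b (nat_lit 3217), Mv.f (nat_lit 2169), Mv.b (nat_lit 3500), Mv.f (nat_lit 3501), Mv.b (nat_lit 8118), Mv.f (nat_lit 8120), Mv.f (nat_lit 17014)])))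
(Tr.lf (Fc.ed (nat_lit 17016) (nat_lit 6285) Col.f (nat_lit 6500) (Dv.wd (nat_lit 26) [Mv.f (nat_lit 16823), Mv.b (nat_lit 15599), Mv.f (nat_lit 17015)]))))))
(Tr.nd (nat_lit 17019) (Tr.nd (nat_lit 17018) (Tr.lf (Fc.ed (nat_lit 17017) (nat_lit 6315) Col.f (nat_lit 6245) (Dv.wd (nat_lit 20) [Mv.f (nat_lit 15750), Mv.f (nat_lit 17016), Mv.b (nat_lit 16822)])))
(Tr.lf (Fc.ed (nat_lit 17018) (nat_lit 5861) Col.a (nat_lit 6315) (Dv.wd (nat_lit 114) [Mv.f (nat_lit 17017), Mv.b (nat_lit 15615), Mv.f (nat_lit 14849)]))))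
(Tr.nd (nat_lit 17020) (Tr.lf (Fc.ed (nat_lit 17019) (nat_lit 5412) Col.d (nat_lit 6515) Dv.df))
(Tr.nd (nat_lit 17021) (Tr.lf (Fc.ed (nat_lit 17020) (nat_lit 6515) Col.gi (nat_lit 5733) (Dv.wd (nat_lit 178) [Mv.b (nat_lit 14576), Mv.b (nat_lit 3407), Mv.b (nat_lit 2350), Mv.b (nat_lit 1610), Mv.f (nat_lit 733), Mv.b (nat_lit 550), Mv.f (nat_lit 206), Mv.b (nat_lit 425), Mv.f (nat_lit 1423), Mv.f (nat_lit 1413), Mv.f (nat_lit 3040), Mv.f (nat_lit 3043), Mv.f (nat_lit 3834), Mv.f (nat_lit 6989), Mv.b (nat_lit 9444), Mv.f (nat_lit 11839), Mv.b (nat_lit 16782), Mv.b (nat_lit 16781), Mv.f (nat_lit 17019)])))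
(Tr.lf (Fc.ed (nat_lit 17021) (nat_lit 6023) Col.gi (nat_lit 6515) (Dv.wd (nat_lit 12) [Mv.f (nat_lit 17020), Mv.b (nat_lit 14684), Mv.b (nat_lit 15202)]))))))))
(Tr.nd (nat_lit 17032) (Tr.nd (nat_lit 17027) (Tr.nd (nat_lit 17024) (Tr.nd (nat_lit 17023) (Tr.lf (Fc.ed (nat_lit 17022) (nat_lit 3494) Col.b (nat_lit 6516) Dv.df))
(Tr.lf (Fc.ed (nat_lit 17023) (nat_lit 6516) Col.c (nat_lit 6378) (Dv.wd (nat_lit 93) [Mv.f (nat_lit 15930), Mv.b (nat_lit 10925), Mv.b (nat_lit 10212), Mv.b (nat_lit 9961), Mv.f (nat_lit 17022)]))))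
(Tr.nd (nat_lit 17025) (Tr.lf (Fc.ed (nat_lit 17024) (nat_lit 6402) Col.c (nat_lit 6517) Dv.df))
(Tr.nd (nat_lit 17026) (Tr.lf (Fc.ed (nat_lit 17025) (nat_lit 6517) Col.e (nat_lit 5518) (Dv.wd (nat_lit 25) [Mv.b (nat_lit 14120), Mv.b (nat_lit 15986), Mv.f (nat_lit 17024)])))
(Tr.lf (Fc.ed (nat_lit 17026) (nat_lit 6369) Col.f (nat_lit 6518) Dv.df)))))
(Tr.nd (nat_lit 17029) (Tr.nd (nat_lit 17028) (Tr.lf (Fc.ed (nat_lit 17027) (nat_lit 6518) Col.a (nat_lit 6333) (Dv.wd (nat_lit 16) [Mv.f (nat_lit 15843), Mv.b (nat_lit 15913), Mv.f (nat_lit 17026)])))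
(Tr.lf (Fc.ed (nat_lit 17028) (nat_lit 6518) Col.c (nat_lit 5495) (Dv.wd (nat_lit 34) [Mv.b (nat_lit 14084), Mv.f (nat_lit 15912), Mv.f (nat_lit 17026)]))))
(Tr.nd (nat_lit 17030) (Tr.lf (Fc.ed (nat_lit 17029) (nat_lit 2578) Col.g (nat_lit 6519) Dv.df))
(Tr.nd (nat_lit 17031) (Tr.lf (Fc.ed (nat_lit 17030) (nat_lit 6519) Col.g (nat_lit 5415) (Dv.wd (nat_lit 9) [Mv.b (nat_lit 13888), Mv.f (nat_lit 8909), Mv.f (nat_lit 17029)])))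
(Tr.lf (Fc.ed (nat_lit 17031) (nat_lit 3481) Col.g (nat_lit 6520) Dv.df))))))
(Tr.nd (nat_lit 17037) (Tr.nd (nat_lit 17034) (Tr.nd (nat_lit 17033) (Tr.lf (Fc.ed (nat_lit 17032) (nat_lit 6520) Col.g (nat_lit 4457) (Dv.wd (nat_lit 9) [Mv.f (nat_lit 11427), Mv.f (nat_lit 9956), Mv.f (nat_lit 17031)])))
(Tr.lf (Fc.ed (nat_lit 17033) (nat_lit 3233) Col.g (nat_lit 6521) Dv.df)))
(Tr.nd (nat_lit 17035) (Tr.lf (Fc.ed (nat_lit 17034) (nat_lit 6447) Col.f (nat_lit 6522) Dv.df))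
(Tr.nd (nat_lit 17036) (Tr.lf (Fc.ed (nat_lit 17035) (nat_lit 6522) Col.a (nat_lit 4832) (Dv.wd (nat_lit 16) [Mv.b (nat_lit 16101), Mv.b (nat_lit 16721), Mv.f (nat_lit 17034)])))
(Tr.lf (Fc.ed (nat_lit 17036) (nat_lit 4831) Col.f (nat_lit 6523) Dv.df)))))
(Tr.nd (nat_lit 17040) (Tr.nd (nat_lit 17038) (Tr.lf (Fc.ed (nat_lit 17037) (nat_lit 6523) Col.b (nat_lit 6365) (Dv.wd (nat_lit 66) [Mv.b (nat_lit 16405), Mv.b (nat_lit 12617), Mv.f (nat_lit 17036)])))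
(Tr.nd (nat_lit 17039) (Tr.lf (Fc.ed (nat_lit 17038) (nat_lit 3428) Col.gi (nat_lit 6524) Dv.df))
(Tr.lf (Fc.ed (nat_lit 17039) (nat_lit 3316) Col.gi (nat_lit 6525) Dv.df))))
(Tr.nd (nat_lit 17041) (Tr.lf (Fc.ed (nat_lit 17040) (nat_lit 6525) Col.e (nat_lit 6486) (Dv.wd (nat_lit 146) [Mv.b (nat_lit 16799), Mv.b (nat_lit 16797), Mv.f (nat_lit 13556), Mv.f (nat_lit 12953), Mv.f (nat_lit 16140), Mv.f (nat_lit 6738), Mv.b (nat_lit 7558), Mv.b (nat_lit 16137), Mv.b (nat_lit 12424), Mv.f (nat_lit 17039)])))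
(Tr.nd (nat_lit 17042) (Tr.lf (Fc.ed (nat_lit 17041) (nat_lit 6124) Col.a (nat_lit 6526) Dv.df))
(Tr.lf (Fc.ed (nat_lit 17042) (nat_lit 6526) Col.f (nat_lit 5467) (Dv.wd (nat_lit 10) [Mv.f (nat_lit 14034), Mv.b (nat_lit 15387), Mv.f (nat_lit 17041)])))))))))
(Tr.nd (nat_lit 17064) (Tr.nd (nat_lit 17053) (Tr.nd (nat_lit 17048) (Tr.nd (nat_lit 17045) (Tr.nd (nat_lit 17044) (Tr.lf (Fc.ed (nat_lit 17043) (nat_lit 6272) Col.c (nat_lit 6527) Dv.df))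
(Tr.lf (Fc.ed (nat_lit 17044) (nat_lit 6527) Col.e (nat_lit 3435) (Dv.wd (nat_lit 25) [Mv.b (nat_lit 8737), Mv.f (nat_lit 16603), Mv.f (nat_lit 17043)]))))
(Tr.nd (nat_lit 17046) (Tr.lf (Fc.ed (nat_lit 17045) (nat_lit 6434) Col.b (nat_lit 6527) (Dv.wd (nat_lit 127) [Mv.f (nat_lit 17044), Mv.f (nat_lit 8738), Mv.f (nat_lit 16693)])))
(Tr.nd (nat_lit 17047) (Tr.lf (Fc.ed (nat_lit 17046) (nat_lit 6459) Col.g (nat_lit 6528) Dv.df))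
(Tr.lf (Fc.ed (nat_lit 17047) (nat_lit 4768) Col.a (nat_lit 6529) Dv.df)))))
(Tr.nd (nat_lit 17050) (Tr.nd (nat_lit 17049) (Tr.lf (Fc.ed (nat_lit 17048) (nat_lit 6529) Col.f (nat_lit 4955) (Dv.wd (nat_lit 35) [Mv.f (nat_lit 14157), Mv.f (nat_lit 14158), Mv.f (nat_lit 17047)])))
(Tr.lf (Fc.ed (nat_lit 17049) (nat_lit 6140) Col.f (nat_lit 6530) Dv.df)))
(Tr.nd (nat_lit 17051) (Tr.lf (Fc.ed (nat_lit 17050) (nat_lit 6518) Col.d (nat_lit 6531) Dv.df))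
(Tr.nd (nat_lit 17052) (Tr.lf (Fc.ed (nat_lit 17051) (nat_lit 6531) Col.a (nat_lit 6348) (Dv.wd (nat_lit 8) [Mv.b (nat_lit 15870), Mv.b (nat_lit 17027), Mv.f (nat_lit 17050)])))
(Tr.lf (Fc.ed (nat_lit 17052) (nat_lit 6531) Col.f (nat_lit 6389) (Dv.wd (nat_lit 11) [Mv.b (nat_lit 15964), Mv.f (nat_lit 17026), Mv.f (nat_lit 17050)])))))))
(Tr.nd (nat_lit 17058) (Tr.nd (nat_lit 17055) (Tr.nd (nat_lit 17054) (Tr.lf (Fc.ed (nat_lit 17053) (nat_lit 6389) Col.g (nat_lit 4965) (Dv.wd (nat_lit 17) [Mv.f (nat_lit 16912), Mv.b (nat_lit 17051), Mv.f (nat_lit 17052)])))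
(Tr.lf (Fc.ed (nat_lit 17054) (nat_lit 3486) Col.gi (nat_lit 6532) Dv.df)))
(Tr.nd (nat_lit 17056) (Tr.lf (Fc.ed (nat_lit 17055) (nat_lit 6532) Col.gi (nat_lit 5683) (Dv.wd (nat_lit 24) [Mv.f (nat_lit 14437), Mv.b (nat_lit 13786), Mv.f (nat_lit 17054)])))
(Tr.nd (nat_lit 17057) (Tr.lf (Fc.ed (nat_lit 17056) (nat_lit 3120) Col.e (nat_lit 6533) Dv.df))
(Tr.lf (Fc.ed (nat_lit 17057) (nat_lit 1805) Col.d (nat_lit 6534) Dv.df)))))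
(Tr.nd (nat_lit 17061) (Tr.nd (nat_lit 17059) (Tr.lf (Fc.ed (nat_lit 17058) (nat_lit 4844) Col.e (nat_lit 6535) Dv.df))
(Tr.nd (nat_lit 17060) (Tr.lf (Fc.ed (nat_lit 17059) (nat_lit 4772) Col.e (nat_lit 6536) Dv.df))
(Tr.lf (Fc.ed (nat_lit 17060) (nat_lit 6536) Col.b (nat_lit 6076) (Dv.wd (nat_lit 49) [Mv.f (nat_lit 16395), Mv.f (nat_lit 12503), Mv.f (nat_lit 17059)])))))
(Tr.nd (nat_lit 17062) (Tr.lf (Fc.ed (nat_lit 17061) (nat_lit 4018) Col.g (nat_lit 6537) Dv.df))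
(Tr.nd (nat_lit 17063) (Tr.lf (Fc.ed (nat_lit 17062) (nat_lit 5966) Col.d (nat_lit 6538) Dv.df))
(Tr.lf (Fc.ed (nat_lit 17063) (nat_lit 6538) Col.b (nat_lit 6299) (Dv.wd (nat_lit 37) [Mv.b (nat_lit 16400), Mv.f (nat_lit 15098), Mv.f (nat_lit 17062)]))))))))
(Tr.nd (nat_lit 17074) (Tr.nd (nat_lit 17069) (Tr.nd (nat_lit 17066) (Tr.nd (nat_lit 17065) (Tr.lf (Fc.ed (nat_lit 17064) (nat_lit 6538) Col.e (nat_lit 2647) (Dv.wd (nat_lit 42) [Mv.f (nat_lit 10452), Mv.b (nat_lit 10544), Mv.f (nat_lit 12053), Mv.b (nat_lit 16404), Mv.f (nat_lit 17062)])))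
(Tr.lf (Fc.ed (nat_lit 17065) (nat_lit 5999) Col.gi (nat_lit 6539) Dv.df)))
(Tr.nd (nat_lit 17067) (Tr.lf (Fc.ed (nat_lit 17066) (nat_lit 6539) Col.gi (nat_lit 6063) (Dv.wd (nat_lit 24) [Mv.f (nat_lit 15270), Mv.b (nat_lit 15158), Mv.f (nat_lit 17065)])))
(Tr.nd (nat_lit 17068) (Tr.lf (Fc.ed (nat_lit 17067) (nat_lit 4045) Col.e (nat_lit 6540) Dv.df))
(Tr.lf (Fc.ed (nat_lit 17068) (nat_lit 6540) Col.f (nat_lit 4078) (Dv.wd (nat_lit 96) [Mv.b (nat_lit 9943), Mv.f (nat_lit 5165), Mv.f (nat_lit 8789), Mv.f (nat_lit 16439), Mv.f (nat_lit 17067)]))))))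
(Tr.nd (nat_lit 17071) (Tr.nd (nat_lit 17070) (Tr.lf (Fc.ed (nat_lit 17069) (nat_lit 4941) Col.c (nat_lit 6541) Dv.df))
(Tr.lf (Fc.ed (nat_lit 17070) (nat_lit 5783) Col.a (nat_lit 6542) Dv.df)))
(Tr.nd (nat_lit 17072) (Tr.lf (Fc.ed (nat_lit 17071) (nat_lit 6542) Col.e (nat_lit 2187) (Dv.wd (nat_lit 56) [Mv.f (nat_lit 16542), Mv.f (nat_lit 14692), Mv.f (nat_lit 17070)])))
(Tr.nd (nat_lit 17073) (Tr.lf (Fc.ed (nat_lit 17072) (nat_lit 4762) Col.c (nat_lit 6543) Dv.df))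
(Tr.lf (Fc.ed (nat_lit 17073) (nat_lit 5518) Col.gi (nat_lit 6544) Dv.df))))))
(Tr.nd (nat_lit 17079) (Tr.nd (nat_lit 17076) (Tr.nd (nat_lit 17075) (Tr.lf (Fc.ed (nat_lit 17074) (nat_lit 6544) Col.gi (nat_lit 3664) (Dv.wd (nat_lit 24) [Mv.f (nat_lit 16605), Mv.b (nat_lit 16600), Mv.f (nat_lit 17073)])))
(Tr.lf (Fc.ed (nat_lit 17075) (nat_lit 4461) Col.b (nat_lit 6545) Dv.df)))
(Tr.nd (nat_lit 17077) (Tr.lf (Fc.ed (nat_lit 17076) (nat_lit 6545) Col.f (nat_lit 6536) (Dv.wd (nat_lit 20) [Mv.f (nat_lit 17060), Mv.b (nat_lit 15294), Mv.f (nat_lit 17075)])))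
(Tr.nd (nat_lit 17078) (Tr.lf (Fc.ed (nat_lit 17077) (nat_lit 6519) Col.b (nat_lit 6546) Dv.df))
(Tr.lf (Fc.ed (nat_lit 17078) (nat_lit 6546) Col.c (nat_lit 6106) (Dv.wd (nat_lit 142) [Mv.f (nat_lit 15352), Mv.b (nat_lit 12552), Mv.f (nat_lit 9576), Mv.b (nat_lit 14578), Mv.b (nat_lit 15444), Mv.b (nat_lit 15443), Mv.f (nat_lit 15218), Mv.b (nat_lit 13889), Mv.b (nat_lit 17030), Mv.f (nat_lit 17077)]))))))
(Tr.nd (nat_lit 17082) (Tr.nd (nat_lit 17080) (Tr.lf (Fc.ed (nat_lit 17079) (nat_lit 4519) Col.f (nat_lit 6547) Dv.df))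
(Tr.nd (nat_lit 17081) (Tr.lf (Fc.ed (nat_lit 17080) (nat_lit 6547) Col.a (nat_lit 5465) (Dv.wd (nat_lit 23) [Mv.f (nat_lit 14031), Mv.f (nat_lit 11529), Mv.f (nat_lit 17079)])))
(Tr.lf (Fc.ed (nat_lit 17081) (nat_lit 6506) Col.c (nat_lit 6548) Dv.df))))
(Tr.nd (nat_lit 17083) (Tr.lf (Fc.ed (nat_lit 17082) (nat_lit 6548) Col.e (nat_lit 2324) (Dv.wd (nat_lit 25) [Mv.b (nat_lit 10423), Mv.b (nat_lit 16993), Mv.f (nat_lit 17081)])))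
(Tr.nd (nat_lit 17084) (Tr.lf (Fc.ed (nat_lit 17083) (nat_lit 5933) Col.b (nat_lit 6549) Dv.df))
(Tr.lf (Fc.ed (nat_lit 17084) (nat_lit 6287) Col.b (nat_lit 6550) Dv.df)))))))))))))
(Tr.nd (nat_lit 17742) (Tr.nd (nat_lit 17413) (Tr.nd (nat_lit 17249) (Tr.nd (nat_lit 17167) (Tr.nd (nat_lit 17126) (Tr.nd (nat_lit 17105) (Tr.nd (nat_lit 17095) (Tr.nd (nat_lit 17090) (Tr.nd (nat_lit 17087) (Tr.nd (nat_lit 17086) (Tr.lf (Fc.ed (nat_lit 17085) (nat_lit 6550) Col.c (nat_lit 6482) (Dv.wd (nat_lit 135) [Mv.f (nat_lit 16786), Mv.b (nat_lit 6825), Mv.f (nat_lit 6688), Mv.b (nat_lit 3477), Mv.f (nat_lit 3478), Mv.b (nat_lit 2401), Mv.f (nat_lit 3341), Mv.b (nat_lit 10895), Mv.b (nat_lit 15754), Mv.f (nat_lit 17084)])))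
(Tr.lf (Fc.ed (nat_lit 17086) (nat_lit 5200) Col.c (nat_lit 6551) Dv.df)))
(Tr.nd (nat_lit 17088) (Tr.lf (Fc.ed (nat_lit 17087) (nat_lit 5144) Col.gi (nat_lit 6552) Dv.df))
(Tr.nd (nat_lit 17089) (Tr.lf (Fc.ed (nat_lit 17088) (nat_lit 6234) Col.a (nat_lit 6553) Dv.df))
(Tr.lf (Fc.ed (nat_lit 17089) (nat_lit 6553) Col.c (nat_lit 2945) (Dv.wd (nat_lit 33) [Mv.b (nat_lit 7974), Mv.f (nat_lit 15589), Mv.f (nat_lit 17088)]))))))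
(Tr.nd (nat_lit 17092) (Tr.nd (nat_lit 17091) (Tr.lf (Fc.ed (nat_lit 17090) (nat_lit 6096) Col.g (nat_lit 6554) Dv.df))
(Tr.lf (Fc.ed (nat_lit 17091) (nat_lit 6534) Col.g (nat_lit 6555) Dv.df)))
(Tr.nd (nat_lit 17093) (Tr.lf (Fc.ed (nat_lit 17092) (nat_lit 6063) Col.a (nat_lit 6556) Dv.df))
(Tr.nd (nat_lit 17094) (Tr.lf (Fc.ed (nat_lit 17093) (nat_lit 6556) Col.c (nat_lit 3460) (Dv.wd (nat_lit 33) [Mv.b (nat_lit 10857), Mv.f (nat_lit 15269), Mv.f (nat_lit 17092)])))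
(Tr.lf (Fc.ed (nat_lit 17094) (nat_lit 6556) Col.f (nat_lit 5999) (Dv.wd (nat_lit 35) [Mv.f (nat_lit 15158), Mv.b (nat_lit 15270), Mv.f (nat_lit 17092)])))))))
(Tr.nd (nat_lit 17100) (Tr.nd (nat_lit 17097) (Tr.nd (nat_lit 17096) (Tr.lf (Fc.ed (nat_lit 17095) (nat_lit 6281) Col.c (nat_lit 6557) Dv.df))
(Tr.lf (Fc.ed (nat_lit 17096) (nat_lit 6557) Col.b (nat_lit 6515) (Dv.wd (nat_lit 106) [Mv.b (nat_lit 17021), Mv.b (nat_lit 15201), Mv.f (nat_lit 14400), Mv.f (nat_lit 14898), Mv.f (nat_lit 15149), Mv.b (nat_lit 15503), Mv.f (nat_lit 15502), Mv.f (nat_lit 15305), Mv.f (nat_lit 15743), Mv.f (nat_lit 17095)]))))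
(Tr.nd (nat_lit 17098) (Tr.lf (Fc.ed (nat_lit 17097) (nat_lit 5915) Col.d (nat_lit 6557) (Dv.wd (nat_lit 116) [Mv.f (nat_lit 17096), Mv.b (nat_lit 17019), Mv.f (nat_lit 14969)])))
(Tr.nd (nat_lit 17099) (Tr.lf (Fc.ed (nat_lit 17098) (nat_lit 6190) Col.d (nat_lit 4795) (Dv.wd (nat_lit 89) [Mv.b (nat_lit 12550), Mv.f (nat_lit 14575), Mv.f (nat_lit 16814), Mv.b (nat_lit 14970), Mv.f (nat_lit 17097), Mv.b (nat_lit 17095), Mv.b (nat_lit 15743), Mv.f (nat_lit 15305), Mv.b (nat_lit 15502)])))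
(Tr.lf (Fc.ed (nat_lit 17099) (nat_lit 5937) Col.e (nat_lit 6558) Dv.df)))))
(Tr.nd (nat_lit 17102) (Tr.nd (nat_lit 17101) (Tr.lf (Fc.ed (nat_lit 17100) (nat_lit 6558) Col.a (nat_lit 6558) (Dv.wd (nat_lit 15) [Mv.b (nat_lit 17099), Mv.f (nat_lit 16847), Mv.f (nat_lit 17099)])))
(Tr.lf (Fc.ed (nat_lit 17101) (nat_lit 6095) Col.gi (nat_lit 6559) Dv.df)))
(Tr.nd (nat_lit 17103) (Tr.lf (Fc.ed (nat_lit 17102) (nat_lit 5299) Col.b (nat_lit 6560) Dv.df))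
(Tr.nd (nat_lit 17104) (Tr.lf (Fc.ed (nat_lit 17103) (nat_lit 6560) Col.f (nat_lit 6254) (Dv.wd (nat_lit 20) [Mv.b (nat_lit 15725), Mv.b (nat_lit 13626), Mv.f (nat_lit 17102)])))
(Tr.lf (Fc.ed (nat_lit 17104) (nat_lit 6560) Col.c (nat_lit 5650) (Dv.wd (nat_lit 142) [Mv.b (nat_lit 14380), Mv.b (nat_lit 14274), Mv.b (nat_lit 14273), Mv.b (nat_lit 14185), Mv.f (nat_lit 14844), Mv.b (nat_lit 13755), Mv.b (nat_lit 13703), Mv.b (nat_lit 12709), Mv.f (nat_lit 13624), Mv.f (nat_lit 17102)]))))))))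
(Tr.nd (nat_lit 17115) (Tr.nd (nat_lit 17110) (Tr.nd (nat_lit 17107) (Tr.nd (nat_lit 17106) (Tr.lf (Fc.ed (nat_lit 17105) (nat_lit 5650) Col.d (nat_lit 6005) (Dv.wd (nat_lit 149) [Mv.b (nat_lit 15167), Mv.b (nat_lit 6022), Mv.f (nat_lit 3478), Mv.f (nat_lit 2380), Mv.b (nat_lit 989), Mv.b (nat_lit 733), Mv.b (nat_lit 732), Mv.f (nat_lit 792), Mv.b (nat_lit 1241), Mv.f (nat_lit 562), Mv.f (nat_lit 846), Mv.f (nat_lit 852), Mv.f (nat_lit 1103), Mv.f (nat_lit 3763), Mv.b (nat_lit 6267), Mv.b (nat_lit 11556), Mv.f (nat_lit 13624), Mv.f (nat_lit 17102), Mv.f (nat_lit 17104)])))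
(Tr.lf (Fc.ed (nat_lit 17106) (nat_lit 5650) Col.f (nat_lit 4795) (Dv.wd (nat_lit 26) [Mv.f (nat_lit 15629), Mv.b (nat_lit 17103), Mv.f (nat_lit 17104)]))))
(Tr.nd (nat_lit 17108) (Tr.lf (Fc.ed (nat_lit 17107) (nat_lit 4795) Col.a (nat_lit 6318) (Dv.wd (nat_lit 16) [Mv.f (nat_lit 16736), Mv.f (nat_lit 16737), Mv.f (nat_lit 17106)])))
(Tr.nd (nat_lit 17109) (Tr.lf (Fc.ed (nat_lit 17108) (nat_lit 6190) Col.f (nat_lit 6005) (Dv.wd (nat_lit 11) [Mv.b (nat_lit 17105), Mv.f (nat_lit 17106), Mv.b (nat_lit 17098)])))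
(Tr.lf (Fc.ed (nat_lit 17109) (nat_lit 4723) Col.g (nat_lit 6456) (Dv.wd (nat_lit 9) [Mv.f (nat_lit 16737), Mv.f (nat_lit 17106), Mv.b (nat_lit 12550)]))))))
(Tr.nd (nat_lit 17112) (Tr.nd (nat_lit 17111) (Tr.lf (Fc.ed (nat_lit 17110) (nat_lit 6005) Col.a (nat_lit 6281) (Dv.wd (nat_lit 23) [Mv.b (nat_lit 15743), Mv.b (nat_lit 15502), Mv.f (nat_lit 17108)])))
(Tr.lf (Fc.ed (nat_lit 17111) (nat_lit 6443) Col.a (nat_lit 6190) (Dv.wd (nat_lit 114) [Mv.f (nat_lit 17108), Mv.f (nat_lit 15168), Mv.b (nat_lit 16713)]))))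
(Tr.nd (nat_lit 17113) (Tr.lf (Fc.ed (nat_lit 17112) (nat_lit 6443) Col.f (nat_lit 6281) (Dv.wd (nat_lit 35) [Mv.b (nat_lit 17110), Mv.b (nat_lit 17108), Mv.b (nat_lit 17111)])))
(Tr.nd (nat_lit 17114) (Tr.lf (Fc.ed (nat_lit 17113) (nat_lit 6318) Col.d (nat_lit 6443) (Dv.wd (nat_lit 97) [Mv.f (nat_lit 17111), Mv.f (nat_lit 17098), Mv.f (nat_lit 17107)])))
(Tr.lf (Fc.ed (nat_lit 17114) (nat_lit 6281) Col.d (nat_lit 6456) (Dv.wd (nat_lit 90) [Mv.b (nat_lit 16736), Mv.f (nat_lit 17113), Mv.f (nat_lit 17112)])))))))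
(Tr.nd (nat_lit 17120) (Tr.nd (nat_lit 17117) (Tr.nd (nat_lit 17116) (Tr.lf (Fc.ed (nat_lit 17115) (nat_lit 6307) Col.f (nat_lit 6561) Dv.df))
(Tr.lf (Fc.ed (nat_lit 17116) (nat_lit 6561) Col.a (nat_lit 5132) (Dv.wd (nat_lit 23) [Mv.b (nat_lit 13278), Mv.f (nat_lit 15789), Mv.f (nat_lit 17115)]))))
(Tr.nd (nat_lit 17118) (Tr.lf (Fc.ed (nat_lit 17117) (nat_lit 6508) Col.b (nat_lit 6562) Dv.df))
(Tr.nd (nat_lit 17119) (Tr.lf (Fc.ed (nat_lit 17118) (nat_lit 6562) Col.d (nat_lit 5571) (Dv.wd (nat_lit 58) [Mv.b (nat_lit 14224), Mv.f (nat_lit 16995), Mv.f (nat_lit 17117)])))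
(Tr.lf (Fc.ed (nat_lit 17119) (nat_lit 6562) Col.a (nat_lit 6494) (Dv.wd (nat_lit 98) [Mv.b (nat_lit 16809), Mv.f (nat_lit 11262), Mv.b (nat_lit 13202), Mv.b (nat_lit 16996), Mv.f (nat_lit 17117)]))))))
(Tr.nd (nat_lit 17123) (Tr.nd (nat_lit 17121) (Tr.lf (Fc.ed (nat_lit 17120) (nat_lit 3012) Col.a (nat_lit 6563) Dv.df))
(Tr.nd (nat_lit 17122) (Tr.lf (Fc.ed (nat_lit 17121) (nat_lit 5768) Col.gi (nat_lit 6564) Dv.df))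
(Tr.lf (Fc.ed (nat_lit 17122) (nat_lit 6182) Col.g (nat_lit 6565) Dv.df))))
(Tr.nd (nat_lit 17124) (Tr.lf (Fc.ed (nat_lit 17123) (nat_lit 6565) Col.d (nat_lit 6388) (Dv.wd (nat_lit 51) [Mv.f (nat_lit 15950), Mv.b (nat_lit 16684), Mv.b (nat_lit 16683), Mv.b (nat_lit 14732), Mv.f (nat_lit 15683), Mv.f (nat_lit 15679), Mv.f (nat_lit 15706), Mv.f (nat_lit 15742), Mv.f (nat_lit 17122)])))
(Tr.nd (nat_lit 17125) (Tr.lf (Fc.ed (nat_lit 17124) (nat_lit 6500) Col.gi (nat_lit 6566) Dv.df))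
(Tr.lf (Fc.ed (nat_lit 17125) (nat_lit 6566) Col.b (nat_lit 6556) (Dv.wd (nat_lit 154) [Mv.f (nat_lit 17093), Mv.f (nat_lit 8780), Mv.f (nat_lit 5886), Mv.f (nat_lit 5887), Mv.b (nat_lit 3633), Mv.b (nat_lit 7971), Mv.f (nat_lit 7972), Mv.f (nat_lit 14072), Mv.b (nat_lit 16823), Mv.f (nat_lit 17124)])))))))))
(Tr.nd (nat_lit 17146) (Tr.nd (nat_lit 17136) (Tr.nd (nat_lit 17131) (Tr.nd (nat_lit 17128) (Tr.nd (nat_lit 17127) (Tr.lf (Fc.ed (nat_lit 17126) (nat_lit 5268) Col.a (nat_lit 6567) Dv.df))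
(Tr.lf (Fc.ed (nat_lit 17127) (nat_lit 6555) Col.g (nat_lit 6568) Dv.df)))
(Tr.nd (nat_lit 17129) (Tr.lf (Fc.ed (nat_lit 17128) (nat_lit 4516) Col.e (nat_lit 6569) Dv.df))
(Tr.nd (nat_lit 17130) (Tr.lf (Fc.ed (nat_lit 17129) (nat_lit 6569) Col.c (nat_lit 4956) (Dv.wd (nat_lit 18) [Mv.f (nat_lit 12873), Mv.f (nat_lit 11990), Mv.f (nat_lit 17128)])))
(Tr.lf (Fc.ed (nat_lit 17130) (nat_lit 5878) Col.b (nat_lit 6570) Dv.df)))))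
(Tr.nd (nat_lit 17133) (Tr.nd (nat_lit 17132) (Tr.lf (Fc.ed (nat_lit 17131) (nat_lit 5798) Col.f (nat_lit 6571) Dv.df))
(Tr.lf (Fc.ed (nat_lit 17132) (nat_lit 6571) Col.a (nat_lit 4476) (Dv.wd (nat_lit 16) [Mv.f (nat_lit 11519), Mv.f (nat_lit 14727), Mv.f (nat_lit 17131)]))))
(Tr.nd (nat_lit 17134) (Tr.lf (Fc.ed (nat_lit 17133) (nat_lit 6299) Col.g (nat_lit 6572) Dv.df))
(Tr.nd (nat_lit 17135) (Tr.lf (Fc.ed (nat_lit 17134) (nat_lit 6568) Col.c (nat_lit 6573) Dv.df))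
(Tr.lf (Fc.ed (nat_lit 17135) (nat_lit 5415) Col.b (nat_lit 6574) Dv.df))))))
(Tr.nd (nat_lit 17141) (Tr.nd (nat_lit 17138) (Tr.nd (nat_lit 17137) (Tr.lf (Fc.ed (nat_lit 17136) (nat_lit 6574) Col.f (nat_lit 6242) (Dv.wd (nat_lit 20) [Mv.b (nat_lit 15609), Mv.b (nat_lit 13890), Mv.f (nat_lit 17135)])))
(Tr.lf (Fc.ed (nat_lit 17137) (nat_lit 6574) Col.a (nat_lit 5831) (Dv.wd (nat_lit 98) [Mv.b (nat_lit 14781), Mv.b (nat_lit 5490), Mv.b (nat_lit 8910), Mv.f (nat_lit 13888), Mv.f (nat_lit 17135)]))))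
(Tr.nd (nat_lit 17139) (Tr.lf (Fc.ed (nat_lit 17138) (nat_lit 6574) Col.c (nat_lit 5753) (Dv.wd (nat_lit 93) [Mv.b (nat_lit 14612), Mv.b (nat_lit 14211), Mv.f (nat_lit 14214), Mv.b (nat_lit 13889), Mv.f (nat_lit 17135)])))
(Tr.nd (nat_lit 17140) (Tr.lf (Fc.ed (nat_lit 17139) (nat_lit 4789) Col.a (nat_lit 6575) Dv.df))
(Tr.lf (Fc.ed (nat_lit 17140) (nat_lit 6575) Col.e (nat_lit 6420) (Dv.wd (nat_lit 56) [Mv.b (nat_lit 16669), Mv.f (nat_lit 13768), Mv.f (nat_lit 17139)]))))))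
(Tr.nd (nat_lit 17143) (Tr.nd (nat_lit 17142) (Tr.lf (Fc.ed (nat_lit 17141) (nat_lit 6575) Col.f (nat_lit 6329) (Dv.wd (nat_lit 35) [Mv.f (nat_lit 15836), Mv.b (nat_lit 12540), Mv.f (nat_lit 17139)])))
(Tr.lf (Fc.ed (nat_lit 17142) (nat_lit 6527) Col.d (nat_lit 6576) Dv.df)))
(Tr.nd (nat_lit 17144) (Tr.lf (Fc.ed (nat_lit 17143) (nat_lit 6576) Col.b (nat_lit 5453) (Dv.wd (nat_lit 37) [Mv.b (nat_lit 16694), Mv.f (nat_lit 17045), Mv.f (nat_lit 17142)])))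
(Tr.nd (nat_lit 17145) (Tr.lf (Fc.ed (nat_lit 17144) (nat_lit 4158) Col.gi (nat_lit 6577) Dv.df))
(Tr.lf (Fc.ed (nat_lit 17145) (nat_lit 6577) Col.gi (nat_lit 6540) (Dv.wd (nat_lit 24) [Mv.f (nat_lit 17068), Mv.f (nat_lit 12452), Mv.f (nat_lit 17144)]))))))))
(Tr.nd (nat_lit 17156) (Tr.nd (nat_lit 17151) (Tr.nd (nat_lit 17148) (Tr.nd (nat_lit 17147) (Tr.lf (Fc.ed (nat_lit 17146) (nat_lit 6073) Col.d (nat_lit 6578) Dv.df))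
(Tr.lf (Fc.ed (nat_lit 17147) (nat_lit 5671) Col.c (nat_lit 6579) Dv.df)))
(Tr.nd (nat_lit 17149) (Tr.lf (Fc.ed (nat_lit 17148) (nat_lit 4061) Col.b (nat_lit 6580) Dv.df))
(Tr.nd (nat_lit 17150) (Tr.lf (Fc.ed (nat_lit 17149) (nat_lit 6580) Col.f (nat_lit 6400) (Dv.wd (nat_lit 20) [Mv.b (nat_lit 15982), Mv.b (nat_lit 10440), Mv.f (nat_lit 17148)])))
(Tr.lf (Fc.ed (nat_lit 17150) (nat_lit 5761) Col.f (nat_lit 6581) Dv.df)))))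
(Tr.nd (nat_lit 17153) (Tr.nd (nat_lit 17152) (Tr.lf (Fc.ed (nat_lit 17151) (nat_lit 6581) Col.a (nat_lit 6266) (Dv.wd (nat_lit 16) [Mv.f (nat_lit 15653), Mv.f (nat_lit 14628), Mv.f (nat_lit 17150)])))
(Tr.lf (Fc.ed (nat_lit 17152) (nat_lit 6581) Col.c (nat_lit 3987) (Dv.wd (nat_lit 34) [Mv.f (nat_lit 13601), Mv.b (nat_lit 14629), Mv.f (nat_lit 17150)]))))
(Tr.nd (nat_lit 17154) (Tr.lf (Fc.ed (nat_lit 17153) (nat_lit 6579) Col.g (nat_lit 6582) Dv.df))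
(Tr.nd (nat_lit 17155) (Tr.lf (Fc.ed (nat_lit 17154) (nat_lit 5896) Col.d (nat_lit 6583) Dv.df))
(Tr.lf (Fc.ed (nat_lit 17155) (nat_lit 6583) Col.g (nat_lit 5886) (Dv.wd (nat_lit 55) [Mv.f (nat_lit 16291), Mv.b (nat_lit 10162), Mv.f (nat_lit 16175), Mv.b (nat_lit 16185), Mv.f (nat_lit 16184), Mv.b (nat_lit 8572), Mv.b (nat_lit 16190), Mv.f (nat_lit 16191), Mv.b (nat_lit 14921), Mv.f (nat_lit 17154)])))))))
(Tr.nd (nat_lit 17161) (Tr.nd (nat_lit 17158) (Tr.nd (nat_lit 17157) (Tr.lf (Fc.ed (nat_lit 17156) (nat_lit 4197) Col.g (nat_lit 6583) (Dv.wd (nat_lit 17) [Mv.f (nat_lit 17155), Mv.f (nat_lit 16290), Mv.f (nat_lit 15175)])))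
(Tr.lf (Fc.ed (nat_lit 17157) (nat_lit 5895) Col.d (nat_lit 6584) Dv.df)))
(Tr.nd (nat_lit 17159) (Tr.lf (Fc.ed (nat_lit 17158) (nat_lit 6584) Col.b (nat_lit 5664) (Dv.wd (nat_lit 37) [Mv.b (nat_lit 15816), Mv.b (nat_lit 14919), Mv.f (nat_lit 17157)])))
(Tr.nd (nat_lit 17160) (Tr.lf (Fc.ed (nat_lit 17159) (nat_lit 6475) Col.c (nat_lit 6584) (Dv.wd (nat_lit 143) [Mv.f (nat_lit 17158), Mv.b (nat_lit 14407), Mv.b (nat_lit 9068), Mv.b (nat_lit 3036), Mv.b (nat_lit 2354), Mv.f (nat_lit 3021), Mv.b (nat_lit 3449), Mv.f (nat_lit 6601), Mv.f (nat_lit 7941), Mv.b (nat_lit 16774)])))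
(Tr.lf (Fc.ed (nat_lit 17160) (nat_lit 5081) Col.c (nat_lit 4768) (Dv.wd (nat_lit 142) [Mv.b (nat_lit 12495), Mv.f (nat_lit 12691), Mv.f (nat_lit 12712), Mv.b (nat_lit 14408), Mv.b (nat_lit 17158), Mv.b (nat_lit 17159), Mv.b (nat_lit 16773), Mv.b (nat_lit 11493), Mv.b (nat_lit 12829), Mv.f (nat_lit 13172)]))))))
(Tr.nd (nat_lit 17164) (Tr.nd (nat_lit 17162) (Tr.lf (Fc.ed (nat_lit 17161) (nat_lit 5709) Col.c (nat_lit 5611) (Dv.wd (nat_lit 142) [Mv.b (nat_lit 14301), Mv.f (nat_lit 12921), Mv.f (nat_lit 11645), Mv.b (nat_lit 12829), Mv.f (nat_lit 13172), Mv.f (nat_lit 17160), Mv.b (nat_lit 12495), Mv.f (nat_lit 12691), Mv.b (nat_lit 13279), Mv.f (nat_lit 14475)])))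
(Tr.nd (nat_lit 17163) (Tr.lf (Fc.ed (nat_lit 17162) (nat_lit 5325) Col.d (nat_lit 4935) (Dv.wd (nat_lit 89) [Mv.f (nat_lit 12829), Mv.f (nat_lit 11493), Mv.f (nat_lit 16773), Mv.f (nat_lit 17159), Mv.b (nat_lit 17157), Mv.b (nat_lit 14918), Mv.b (nat_lit 14891), Mv.b (nat_lit 12763), Mv.f (nat_lit 13715)])))
(Tr.lf (Fc.ed (nat_lit 17163) (nat_lit 6416) Col.d (nat_lit 5541) (Dv.wd (nat_lit 28) [Mv.f (nat_lit 14168), Mv.f (nat_lit 17162), Mv.b (nat_lit 16661)])))))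
(Tr.nd (nat_lit 17165) (Tr.lf (Fc.ed (nat_lit 17164) (nat_lit 4887) Col.d (nat_lit 6372) (Dv.wd (nat_lit 51) [Mv.b (nat_lit 15919), Mv.f (nat_lit 13086), Mv.f (nat_lit 11003), Mv.b (nat_lit 10887), Mv.f (nat_lit 13715), Mv.f (nat_lit 17162), Mv.b (nat_lit 12828), Mv.f (nat_lit 7941), Mv.b (nat_lit 12732)])))
(Tr.nd (nat_lit 17166) (Tr.lf (Fc.ed (nat_lit 17165) (nat_lit 5101) Col.d (nat_lit 5892) (Dv.wd (nat_lit 90) [Mv.f (nat_lit 16660), Mv.f (nat_lit 17163), Mv.b (nat_lit 14167)])))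
(Tr.lf (Fc.ed (nat_lit 17166) (nat_lit 6475) Col.d (nat_lit 5998) (Dv.wd (nat_lit 51) [Mv.b (nat_lit 15156), Mv.f (nat_lit 9441), Mv.b (nat_lit 6735), Mv.b (nat_lit 6857), Mv.f (nat_lit 13209), Mv.f (nat_lit 17165), Mv.b (nat_lit 14906), Mv.f (nat_lit 11493), Mv.f (nat_lit 16773)]))))))))))
(Tr.nd (nat_lit 17208) (Tr.nd (nat_lit 17187) (Tr.nd (nat_lit 17177) (Tr.nd (nat_lit 17172) (Tr.nd (nat_lit 17169) (Tr.nd (nat_lit 17168) (Tr.lf (Fc.ed (nat_lit 17167) (nat_lit 5332) Col.b (nat_lit 6585) Dv.df))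
(Tr.lf (Fc.ed (nat_lit 17168) (nat_lit 6585) Col.c (nat_lit 6452) (Dv.wd (nat_lit 135) [Mv.f (nat_lit 16730), Mv.f (nat_lit 8351), Mv.f (nat_lit 8354), Mv.f (nat_lit 6641), Mv.b (nat_lit 6714), Mv.f (nat_lit 4126), Mv.f (nat_lit 4480), Mv.b (nat_lit 8244), Mv.f (nat_lit 13732), Mv.f (nat_lit 17167)]))))
(Tr.nd (nat_lit 17170) (Tr.lf (Fc.ed (nat_lit 17169) (nat_lit 6408) Col.c (nat_lit 6586) Dv.df))
(Tr.nd (nat_lit 17171) (Tr.lf (Fc.ed (nat_lit 17170) (nat_lit 6586) Col.b (nat_lit 5098) (Dv.wd (nat_lit 101) [Mv.b (nat_lit 13206), Mv.f (nat_lit 8118), Mv.b (nat_lit 3437), Mv.b (nat_lit 2286), Mv.f (nat_lit 3121), Mv.f (nat_lit 3377), Mv.f (nat_lit 7849), Mv.f (nat_lit 8351), Mv.b (nat_lit 16638), Mv.f (nat_lit 17169)])))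
(Tr.lf (Fc.ed (nat_lit 17171) (nat_lit 6449) Col.d (nat_lit 6586) (Dv.wd (nat_lit 116) [Mv.f (nat_lit 17170), Mv.f (nat_lit 14613), Mv.f (nat_lit 16723)]))))))
(Tr.nd (nat_lit 17174) (Tr.nd (nat_lit 17173) (Tr.lf (Fc.ed (nat_lit 17172) (nat_lit 6146) Col.f (nat_lit 6586) (Dv.wd (nat_lit 125) [Mv.f (nat_lit 17170), Mv.f (nat_lit 17012), Mv.f (nat_lit 15422)])))
(Tr.lf (Fc.ed (nat_lit 17173) (nat_lit 6408) Col.f (nat_lit 6101) (Dv.wd (nat_lit 26) [Mv.b (nat_lit 15423), Mv.f (nat_lit 17172), Mv.b (nat_lit 17169)]))))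
(Tr.nd (nat_lit 17175) (Tr.lf (Fc.ed (nat_lit 17174) (nat_lit 6101) Col.a (nat_lit 5982) (Dv.wd (nat_lit 23) [Mv.b (nat_lit 15127), Mv.b (nat_lit 16638), Mv.f (nat_lit 17173)])))
(Tr.nd (nat_lit 17176) (Tr.lf (Fc.ed (nat_lit 17175) (nat_lit 5615) Col.a (nat_lit 6408) (Dv.wd (nat_lit 114) [Mv.f (nat_lit 17173), Mv.f (nat_lit 15344), Mv.b (nat_lit 14309)])))
(Tr.lf (Fc.ed (nat_lit 17176) (nat_lit 5615) Col.f (nat_lit 5982) (Dv.wd (nat_lit 35) [Mv.b (nat_lit 17174), Mv.b (nat_lit 17173), Mv.b (nat_lit 17175)])))))))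
(Tr.nd (nat_lit 17182) (Tr.nd (nat_lit 17179) (Tr.nd (nat_lit 17178) (Tr.lf (Fc.ed (nat_lit 17177) (nat_lit 6522) Col.gi (nat_lit 6587) Dv.df))
(Tr.lf (Fc.ed (nat_lit 17178) (nat_lit 6587) Col.gi (nat_lit 4560) (Dv.wd (nat_lit 24) [Mv.f (nat_lit 16101), Mv.b (nat_lit 17035), Mv.f (nat_lit 17177)]))))
(Tr.nd (nat_lit 17180) (Tr.lf (Fc.ed (nat_lit 17179) (nat_lit 6513) Col.e (nat_lit 6588) Dv.df))
(Tr.nd (nat_lit 17181) (Tr.lf (Fc.ed (nat_lit 17180) (nat_lit 6588) Col.f (nat_lit 6453) (Dv.wd (nat_lit 96) [Mv.f (nat_lit 16732), Mv.f (nat_lit 15674), Mv.b (nat_lit 16816), Mv.b (nat_lit 17006), Mv.f (nat_lit 17179)])))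
(Tr.lf (Fc.ed (nat_lit 17181) (nat_lit 6588) Col.gi (nat_lit 6381) (Dv.wd (nat_lit 132) [Mv.f (nat_lit 15935), Mv.f (nat_lit 12343), Mv.f (nat_lit 10780), Mv.b (nat_lit 12152), Mv.f (nat_lit 12437), Mv.b (nat_lit 9352), Mv.f (nat_lit 12871), Mv.f (nat_lit 16680), Mv.f (nat_lit 17005), Mv.f (nat_lit 17179)]))))))
(Tr.nd (nat_lit 17184) (Tr.nd (nat_lit 17183) (Tr.lf (Fc.ed (nat_lit 17182) (nat_lit 6358) Col.g (nat_lit 6589) Dv.df))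
(Tr.lf (Fc.ed (nat_lit 17183) (nat_lit 6589) Col.g (nat_lit 3903) (Dv.wd (nat_lit 9) [Mv.b (nat_lit 13616), Mv.f (nat_lit 15890), Mv.f (nat_lit 17182)]))))
(Tr.nd (nat_lit 17185) (Tr.lf (Fc.ed (nat_lit 17184) (nat_lit 6537) Col.c (nat_lit 6590) Dv.df))
(Tr.nd (nat_lit 17186) (Tr.lf (Fc.ed (nat_lit 17185) (nat_lit 3609) Col.e (nat_lit 6591) Dv.df))
(Tr.lf (Fc.ed (nat_lit 17186) (nat_lit 6591) Col.c (nat_lit 6467) (Dv.wd (nat_lit 18) [Mv.f (nat_lit 16757), Mv.b (nat_lit 10143), Mv.f (nat_lit 17185)]))))))))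
(Tr.nd (nat_lit 17197) (Tr.nd (nat_lit 17192) (Tr.nd (nat_lit 17189) (Tr.nd (nat_lit 17188) (Tr.lf (Fc.ed (nat_lit 17187) (nat_lit 3239) Col.f (nat_lit 6592) Dv.df))
(Tr.lf (Fc.ed (nat_lit 17188) (nat_lit 6592) Col.d (nat_lit 6540) (Dv.wd (nat_lit 21) [Mv.f (nat_lit 17068), Mv.f (nat_lit 12155), Mv.f (nat_lit 17187)]))))
(Tr.nd (nat_lit 17190) (Tr.lf (Fc.ed (nat_lit 17189) (nat_lit 6592) Col.g (nat_lit 6169) (Dv.wd (nat_lit 17) [Mv.b (nat_lit 15466), Mv.b (nat_lit 8329), Mv.f (nat_lit 17187)])))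
(Tr.nd (nat_lit 17191) (Tr.lf (Fc.ed (nat_lit 17190) (nat_lit 6363) Col.b (nat_lit 6593) Dv.df))
(Tr.lf (Fc.ed (nat_lit 17191) (nat_lit 6593) Col.f (nat_lit 6331) (Dv.wd (nat_lit 20) [Mv.b (nat_lit 15838), Mv.b (nat_lit 15902), Mv.f (nat_lit 17190)]))))))
(Tr.nd (nat_lit 17194) (Tr.nd (nat_lit 17193) (Tr.lf (Fc.ed (nat_lit 17192) (nat_lit 6593) Col.c (nat_lit 2493) (Dv.wd (nat_lit 93) [Mv.f (nat_lit 6722), Mv.f (nat_lit 3754), Mv.f (nat_lit 6624), Mv.f (nat_lit 15901), Mv.f (nat_lit 17190)])))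
(Tr.lf (Fc.ed (nat_lit 17193) (nat_lit 6404) Col.b (nat_lit 6594) Dv.df)))
(Tr.nd (nat_lit 17195) (Tr.lf (Fc.ed (nat_lit 17194) (nat_lit 6015) Col.c (nat_lit 6595) Dv.df))
(Tr.nd (nat_lit 17196) (Tr.lf (Fc.ed (nat_lit 17195) (nat_lit 4312) Col.g (nat_lit 6596) Dv.df))
(Tr.lf (Fc.ed (nat_lit 17196) (nat_lit 4572) Col.a (nat_lit 6597) Dv.df))))))
(Tr.nd (nat_lit 17202) (Tr.nd (nat_lit 17199) (Tr.nd (nat_lit 17198) (Tr.lf (Fc.ed (nat_lit 17197) (nat_lit 2555) Col.gi (nat_lit 6598) Dv.df))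
(Tr.lf (Fc.ed (nat_lit 17198) (nat_lit 6598) Col.e (nat_lit 6583) (Dv.wd (nat_lit 146) [Mv.b (nat_lit 17154), Mv.f (nat_lit 14921), Mv.b (nat_lit 12925), Mv.b (nat_lit 10829), Mv.f (nat_lit 6787), Mv.b (nat_lit 16211), Mv.b (nat_lit 10703), Mv.b (nat_lit 16212), Mv.b (nat_lit 10630), Mv.f (nat_lit 17197)]))))
(Tr.nd (nat_lit 17200) (Tr.lf (Fc.ed (nat_lit 17199) (nat_lit 3760) Col.g (nat_lit 6599) Dv.df))
(Tr.nd (nat_lit 17201) (Tr.lf (Fc.ed (nat_lit 17200) (nat_lit 6599) Col.g (nat_lit 5159) (Dv.wd (nat_lit 9) [Mv.f (nat_lit 13332), Mv.b (nat_lit 9356), Mv.f (nat_lit 17199)])))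
(Tr.lf (Fc.ed (nat_lit 17201) (nat_lit 6201) Col.gi (nat_lit 6600) Dv.df)))))
(Tr.nd (nat_lit 17205) (Tr.nd (nat_lit 17203) (Tr.lf (Fc.ed (nat_lit 17202) (nat_lit 6272) Col.g (nat_lit 6601) Dv.df))
(Tr.nd (nat_lit 17204) (Tr.lf (Fc.ed (nat_lit 17203) (nat_lit 6441) Col.d (nat_lit 6602) Dv.df))
(Tr.lf (Fc.ed (nat_lit 17204) (nat_lit 6451) Col.f (nat_lit 6603) Dv.df))))
(Tr.nd (nat_lit 17206) (Tr.lf (Fc.ed (nat_lit 17205) (nat_lit 6603) Col.b (nat_lit 6314) (Dv.wd (nat_lit 66) [Mv.f (nat_lit 15804), Mv.f (nat_lit 16727), Mv.f (nat_lit 17204)])))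
(Tr.nd (nat_lit 17207) (Tr.lf (Fc.ed (nat_lit 17206) (nat_lit 6603) Col.c (nat_lit 3760) (Dv.wd (nat_lit 34) [Mv.f (nat_lit 9356), Mv.b (nat_lit 16728), Mv.f (nat_lit 17204)])))
(Tr.lf (Fc.ed (nat_lit 17207) (nat_lit 6490) Col.a (nat_lit 6604) Dv.df))))))))
(Tr.nd (nat_lit 17228) (Tr.nd (nat_lit 17218) (Tr.nd (nat_lit 17213) (Tr.nd (nat_lit 17210) (Tr.nd (nat_lit 17209) (Tr.lf (Fc.ed (nat_lit 17208) (nat_lit 6604) Col.f (nat_lit 4718) (Dv.wd (nat_lit 10) [Mv.f (nat_lit 11907), Mv.b (nat_lit 16803), Mv.f (nat_lit 17207)])))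
(Tr.lf (Fc.ed (nat_lit 17209) (nat_lit 5564) Col.gi (nat_lit 6605) Dv.df)))
(Tr.nd (nat_lit 17211) (Tr.lf (Fc.ed (nat_lit 17210) (nat_lit 6573) Col.d (nat_lit 6606) Dv.df))
(Tr.nd (nat_lit 17212) (Tr.lf (Fc.ed (nat_lit 17211) (nat_lit 5486) Col.b (nat_lit 6607) Dv.df))
(Tr.lf (Fc.ed (nat_lit 17212) (nat_lit 6607) Col.f (nat_lit 4486) (Dv.wd (nat_lit 20) [Mv.f (nat_lit 11695), Mv.b (nat_lit 16345), Mv.f (nat_lit 17211)]))))))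
(Tr.nd (nat_lit 17215) (Tr.nd (nat_lit 17214) (Tr.lf (Fc.ed (nat_lit 17213) (nat_lit 5365) Col.c (nat_lit 6608) Dv.df))
(Tr.lf (Fc.ed (nat_lit 17214) (nat_lit 3148) Col.b (nat_lit 6609) Dv.df)))
(Tr.nd (nat_lit 17216) (Tr.lf (Fc.ed (nat_lit 17215) (nat_lit 4312) Col.gi (nat_lit 6610) Dv.df))
(Tr.nd (nat_lit 17217) (Tr.lf (Fc.ed (nat_lit 17216) (nat_lit 6610) Col.gi (nat_lit 6376) (Dv.wd (nat_lit 24) [Mv.b (nat_lit 16235), Mv.b (nat_lit 16242), Mv.f (nat_lit 17215)])))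
(Tr.lf (Fc.ed (nat_lit 17217) (nat_lit 5337) Col.a (nat_lit 6611) Dv.df))))))
(Tr.nd (nat_lit 17223) (Tr.nd (nat_lit 17220) (Tr.nd (nat_lit 17219) (Tr.lf (Fc.ed (nat_lit 17218) (nat_lit 6611) Col.d (nat_lit 4541) (Dv.wd (nat_lit 28) [Mv.b (nat_lit 11572), Mv.f (nat_lit 13739), Mv.f (nat_lit 17217)])))
(Tr.lf (Fc.ed (nat_lit 17219) (nat_lit 6611) Col.f (nat_lit 6597) (Dv.wd (nat_lit 35) [Mv.b (nat_lit 17196), Mv.b (nat_lit 13740), Mv.f (nat_lit 17217)]))))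
(Tr.nd (nat_lit 17221) (Tr.lf (Fc.ed (nat_lit 17220) (nat_lit 6250) Col.f (nat_lit 6612) Dv.df))
(Tr.nd (nat_lit 17222) (Tr.lf (Fc.ed (nat_lit 17221) (nat_lit 6612) Col.a (nat_lit 4389) (Dv.wd (nat_lit 16) [Mv.f (nat_lit 11438), Mv.b (nat_lit 15623), Mv.f (nat_lit 17220)])))
(Tr.lf (Fc.ed (nat_lit 17222) (nat_lit 6612) Col.d (nat_lit 5610) (Dv.wd (nat_lit 21) [Mv.b (nat_lit 14565), Mv.f (nat_lit 15622), Mv.f (nat_lit 17220)]))))))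
(Tr.nd (nat_lit 17225) (Tr.nd (nat_lit 17224) (Tr.lf (Fc.ed (nat_lit 17223) (nat_lit 6036) Col.e (nat_lit 6613) Dv.df))
(Tr.lf (Fc.ed (nat_lit 17224) (nat_lit 6538) Col.c (nat_lit 6614) Dv.df)))
(Tr.nd (nat_lit 17226) (Tr.lf (Fc.ed (nat_lit 17225) (nat_lit 6614) Col.e (nat_lit 5196) (Dv.wd (nat_lit 25) [Mv.f (nat_lit 13422), Mv.b (nat_lit 17064), Mv.f (nat_lit 17224)])))
(Tr.nd (nat_lit 17227) (Tr.lf (Fc.ed (nat_lit 17226) (nat_lit 6582) Col.g (nat_lit 6615) Dv.df))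
(Tr.lf (Fc.ed (nat_lit 17227) (nat_lit 5465) Col.f (nat_lit 6616) Dv.df)))))))
(Tr.nd (nat_lit 17238) (Tr.nd (nat_lit 17233) (Tr.nd (nat_lit 17230) (Tr.nd (nat_lit 17229) (Tr.lf (Fc.ed (nat_lit 17228) (nat_lit 6616) Col.a (nat_lit 4519) (Dv.wd (nat_lit 16) [Mv.f (nat_lit 17079), Mv.f (nat_lit 17080), Mv.f (nat_lit 17227)])))
(Tr.lf (Fc.ed (nat_lit 17229) (nat_lit 6616) Col.c (nat_lit 6203) (Dv.wd (nat_lit 34) [Mv.f (nat_lit 15526), Mv.f (nat_lit 15474), Mv.f (nat_lit 17227)]))))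
(Tr.nd (nat_lit 17231) (Tr.lf (Fc.ed (nat_lit 17230) (nat_lit 6372) Col.a (nat_lit 6617) Dv.df))
(Tr.nd (nat_lit 17232) (Tr.lf (Fc.ed (nat_lit 17231) (nat_lit 6617) Col.f (nat_lit 5998) (Dv.wd (nat_lit 10) [Mv.b (nat_lit 15156), Mv.b (nat_lit 15920), Mv.f (nat_lit 17230)])))
(Tr.lf (Fc.ed (nat_lit 17232) (nat_lit 6549) Col.f (nat_lit 6618) Dv.df)))))
(Tr.nd (nat_lit 17235) (Tr.nd (nat_lit 17234) (Tr.lf (Fc.ed (nat_lit 17233) (nat_lit 6618) Col.b (nat_lit 6512) (Dv.wd (nat_lit 66) [Mv.b (nat_lit 17003), Mv.f (nat_lit 17083), Mv.f (nat_lit 17232)])))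
(Tr.lf (Fc.ed (nat_lit 17234) (nat_lit 5724) Col.e (nat_lit 6618) (Dv.wd (nat_lit 82) [Mv.f (nat_lit 17233), Mv.f (nat_lit 17004), Mv.b (nat_lit 14559)]))))
(Tr.nd (nat_lit 17236) (Tr.lf (Fc.ed (nat_lit 17235) (nat_lit 4690) Col.e (nat_lit 6619) Dv.df))
(Tr.nd (nat_lit 17237) (Tr.lf (Fc.ed (nat_lit 17236) (nat_lit 6619) Col.b (nat_lit 6542) (Dv.wd (nat_lit 49) [Mv.f (nat_lit 17071), Mv.f (nat_lit 11852), Mv.f (nat_lit 17235)])))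
(Tr.lf (Fc.ed (nat_lit 17237) (nat_lit 5963) Col.g (nat_lit 6620) Dv.df))))))
(Tr.nd (nat_lit 17243) (Tr.nd (nat_lit 17240) (Tr.nd (nat_lit 17239) (Tr.lf (Fc.ed (nat_lit 17238) (nat_lit 3756) Col.b (nat_lit 6621) Dv.df))
(Tr.lf (Fc.ed (nat_lit 17239) (nat_lit 6470) Col.g (nat_lit 6622) Dv.df)))
(Tr.nd (nat_lit 17241) (Tr.lf (Fc.ed (nat_lit 17240) (nat_lit 6622) Col.a (nat_lit 4480) (Dv.wd (nat_lit 114) [Mv.b (nat_lit 12534), Mv.b (nat_lit 16763), Mv.f (nat_lit 17239)])))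
(Tr.nd (nat_lit 17242) (Tr.lf (Fc.ed (nat_lit 17241) (nat_lit 4657) Col.c (nat_lit 6622) (Dv.wd (nat_lit 134) [Mv.f (nat_lit 17240), Mv.b (nat_lit 11571), Mv.f (nat_lit 16483)])))
(Tr.lf (Fc.al (nat_lit 17242) (nat_lit 6465) (nat_lit 6016) (Dv.wd (nat_lit 139) [Mv.b (nat_lit 15189), Mv.f (nat_lit 13238), Mv.f (nat_lit 10874), Mv.f (nat_lit 7172), Mv.b (nat_lit 6300), Mv.f (nat_lit 8860), Mv.f (nat_lit 11785), Mv.f (nat_lit 17241), Mv.b (nat_lit 17239), Mv.b (nat_lit 16764)]))))))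
(Tr.nd (nat_lit 17246) (Tr.nd (nat_lit 17244) (Tr.lf (Fc.ed (nat_lit 17243) (nat_lit 6016) Col.d (nat_lit 6470) (Dv.wd (nat_lit 120) [Mv.b (nat_lit 16764), Mv.f (nat_lit 17242)])))
(Tr.nd (nat_lit 17245) (Tr.lf (Fc.ed (nat_lit 17244) (nat_lit 2933) Col.c (nat_lit 6623) Dv.df))
(Tr.lf (Fc.ed (nat_lit 17245) (nat_lit 6623) Col.g (nat_lit 6569) (Dv.wd (nat_lit 105) [Mv.f (nat_lit 17129), Mv.f (nat_lit 12872), Mv.f (nat_lit 16137), Mv.f (nat_lit 7557), Mv.f (nat_lit 4315), Mv.f (nat_lit 4312), Mv.b (nat_lit 3781), Mv.b (nat_lit 4877), Mv.f (nat_lit 7692), Mv.f (nat_lit 17244)])))))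
(Tr.nd (nat_lit 17247) (Tr.lf (Fc.ed (nat_lit 17246) (nat_lit 5651) Col.d (nat_lit 6624) Dv.df))
(Tr.nd (nat_lit 17248) (Tr.lf (Fc.ed (nat_lit 17247) (nat_lit 6624) Col.a (nat_lit 6429) (Dv.wd (nat_lit 8) [Mv.f (nat_lit 16686), Mv.f (nat_lit 14381), Mv.f (nat_lit 17246)])))
(Tr.lf (Fc.ed (nat_lit 17248) (nat_lit 6624) Col.b (nat_lit 5755) (Dv.wd (nat_lit 37) [Mv.f (nat_lit 14615), Mv.b (nat_lit 14383), Mv.f (nat_lit 17246)])))))))))))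
(Tr.nd (nat_lit 17331) (Tr.nd (nat_lit 17290) (Tr.nd (nat_lit 17269) (Tr.nd (nat_lit 17259) (Tr.nd (nat_lit 17254) (Tr.nd (nat_lit 17251) (Tr.nd (nat_lit 17250) (Tr.lf (Fc.ed (nat_lit 17249) (nat_lit 6624) Col.e (nat_lit 4603) (Dv.wd (nat_lit 42) [Mv.b (nat_lit 11690), Mv.b (nat_lit 10520), Mv.f (nat_lit 10101), Mv.b (nat_lit 14382), Mv.f (nat_lit 17246)])))
(Tr.lf (Fc.ed (nat_lit 17250) (nat_lit 4157) Col.d (nat_lit 6625) Dv.df)))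
(Tr.nd (nat_lit 17252) (Tr.lf (Fc.ed (nat_lit 17251) (nat_lit 6625) Col.f (nat_lit 6299) (Dv.wd (nat_lit 11) [Mv.b (nat_lit 16400), Mv.b (nat_lit 16425), Mv.f (nat_lit 17250)])))
(Tr.nd (nat_lit 17253) (Tr.lf (Fc.ed (nat_lit 17252) (nat_lit 6592) Col.e (nat_lit 6625) (Dv.wd (nat_lit 57) [Mv.f (nat_lit 17251), Mv.b (nat_lit 15776), Mv.f (nat_lit 3661), Mv.f (nat_lit 10348), Mv.f (nat_lit 17187)])))
(Tr.lf (Fc.al (nat_lit 17253) (nat_lit 5265) (nat_lit 3868) (Dv.wd (nat_lit 71) [Mv.b (nat_lit 15223), Mv.b (nat_lit 15614), Mv.b (nat_lit 15613), Mv.b (nat_lit 17189), Mv.f (nat_lit 17252), Mv.b (nat_lit 17250), Mv.b (nat_lit 10762), Mv.f (nat_lit 7162), Mv.f (nat_lit 10808), Mv.f (nat_lit 16575), Mv.f (nat_lit 13563)]))))))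
(Tr.nd (nat_lit 17256) (Tr.nd (nat_lit 17255) (Tr.lf (Fc.al (nat_lit 17254) (nat_lit 4125) (nat_lit 3992) (Dv.wd (nat_lit 29) [Mv.b (nat_lit 13564), Mv.f (nat_lit 17253), Mv.f (nat_lit 10620)])))
(Tr.lf (Fc.al (nat_lit 17255) (nat_lit 3055) (nat_lit 5219) (Dv.wd (nat_lit 120) [Mv.f (nat_lit 13563), Mv.f (nat_lit 17253), Mv.b (nat_lit 9546)]))))
(Tr.nd (nat_lit 17257) (Tr.lf (Fc.al (nat_lit 17256) (nat_lit 3472) (nat_lit 2617) (Dv.wd (nat_lit 117) [Mv.b (nat_lit 12145), Mv.f (nat_lit 17254), Mv.b (nat_lit 9789)])))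
(Tr.nd (nat_lit 17258) (Tr.lf (Fc.al (nat_lit 17257) (nat_lit 6076) (nat_lit 4185) (Dv.wd (nat_lit 117) [Mv.f (nat_lit 16575), Mv.b (nat_lit 17255), Mv.b (nat_lit 16395)])))
(Tr.lf (Fc.al (nat_lit 17258) (nat_lit 3713) (nat_lit 3106) (Dv.wd (nat_lit 30) [Mv.b (nat_lit 13465), Mv.b (nat_lit 17255), Mv.f (nat_lit 9268)])))))))
(Tr.nd (nat_lit 17264) (Tr.nd (nat_lit 17261) (Tr.nd (nat_lit 17260) (Tr.lf (Fc.ed (nat_lit 17259) (nat_lit 2617) Col.e (nat_lit 3992) (Dv.wd (nat_lit 117) [Mv.b (nat_lit 9789), Mv.f (nat_lit 17256)])))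
(Tr.lf (Fc.al (nat_lit 17260) (nat_lit 5048) (nat_lit 4243) (Dv.wd (nat_lit 29) [Mv.b (nat_lit 15295), Mv.f (nat_lit 17257), Mv.f (nat_lit 13106)]))))
(Tr.nd (nat_lit 17262) (Tr.lf (Fc.ed (nat_lit 17261) (nat_lit 4185) Col.b (nat_lit 6536) (Dv.wd (nat_lit 119) [Mv.f (nat_lit 17060), Mv.f (nat_lit 17257)])))
(Tr.nd (nat_lit 17263) (Tr.lf (Fc.al (nat_lit 17262) (nat_lit 5649) (nat_lit 3046) (Dv.wd (nat_lit 29) [Mv.b (nat_lit 9269), Mv.f (nat_lit 17258), Mv.f (nat_lit 14377)])))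
(Tr.lf (Fc.al (nat_lit 17263) (nat_lit 5058) (nat_lit 5559) (Dv.wd (nat_lit 119) [Mv.b (nat_lit 14197), Mv.f (nat_lit 17258), Mv.f (nat_lit 13124)]))))))
(Tr.nd (nat_lit 17266) (Tr.nd (nat_lit 17265) (Tr.lf (Fc.al (nat_lit 17264) (nat_lit 3647) (nat_lit 3701) (Dv.wd (nat_lit 117) [Mv.f (nat_lit 9270), Mv.f (nat_lit 17258), Mv.f (nat_lit 9139)])))
(Tr.lf (Fc.ed (nat_lit 17265) (nat_lit 4243) Col.a (nat_lit 4185) (Dv.wd (nat_lit 29) [Mv.f (nat_lit 13106), Mv.f (nat_lit 17260)]))))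
(Tr.nd (nat_lit 17267) (Tr.lf (Fc.ed (nat_lit 17266) (nat_lit 4243) Col.e (nat_lit 3272) (Dv.wd (nat_lit 117) [Mv.f (nat_lit 16414), Mv.f (nat_lit 17260)])))
(Tr.nd (nat_lit 17268) (Tr.lf (Fc.al (nat_lit 17267) (nat_lit 5088) (nat_lit 4623) (Dv.wd (nat_lit 30) [Mv.b (nat_lit 13107), Mv.f (nat_lit 17260), Mv.b (nat_lit 13184)])))
(Tr.lf (Fc.al (nat_lit 17268) (nat_lit 3616) (nat_lit 4080) (Dv.wd (nat_lit 117) [Mv.b (nat_lit 14378), Mv.f (nat_lit 17262), Mv.f (nat_lit 9079)]))))))))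
(Tr.nd (nat_lit 17279) (Tr.nd (nat_lit 17274) (Tr.nd (nat_lit 17271) (Tr.nd (nat_lit 17270) (Tr.lf (Fc.al (nat_lit 17269) (nat_lit 5359) (nat_lit 6392) (Dv.wd (nat_lit 103) [Mv.f (nat_lit 15971), Mv.b (nat_lit 17263), Mv.f (nat_lit 13779)])))
(Tr.lf (Fc.al (nat_lit 17270) (nat_lit 6130) (nat_lit 6036) (Dv.wd (nat_lit 129) [Mv.b (nat_lit 15224), Mv.b (nat_lit 17264), Mv.b (nat_lit 15397)]))))
(Tr.nd (nat_lit 17272) (Tr.lf (Fc.al (nat_lit 17271) (nat_lit 1091) (nat_lit 2703) (Dv.wd (nat_lit 120) [Mv.f (nat_lit 10139), Mv.b (nat_lit 17264), Mv.f (nat_lit 10105)])))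
(Tr.nd (nat_lit 17273) (Tr.lf (Fc.ed (nat_lit 17272) (nat_lit 4623) Col.a (nat_lit 4461) (Dv.wd (nat_lit 29) [Mv.f (nat_lit 13183), Mv.f (nat_lit 17267)])))
(Tr.lf (Fc.al (nat_lit 17273) (nat_lit 4688) (nat_lit 4127) (Dv.wd (nat_lit 117) [Mv.b (nat_lit 16394), Mv.f (nat_lit 17267), Mv.f (nat_lit 16413)]))))))
(Tr.nd (nat_lit 17276) (Tr.nd (nat_lit 17275) (Tr.lf (Fc.ed (nat_lit 17274) (nat_lit 4623) Col.f (nat_lit 4243) (Dv.wd (nat_lit 30) [Mv.b (nat_lit 13184), Mv.f (nat_lit 17267)])))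
(Tr.lf (Fc.ed (nat_lit 17275) (nat_lit 3616) Col.g (nat_lit 6226) (Dv.wd (nat_lit 129) [Mv.b (nat_lit 15577), Mv.b (nat_lit 17268)]))))
(Tr.nd (nat_lit 17277) (Tr.lf (Fc.al (nat_lit 17276) (nat_lit 1395) (nat_lit 2992) (Dv.wd (nat_lit 120) [Mv.f (nat_lit 9947), Mv.b (nat_lit 17268), Mv.f (nat_lit 10138)])))
(Tr.nd (nat_lit 17278) (Tr.lf (Fc.ed (nat_lit 17277) (nat_lit 5359) Col.f (nat_lit 4725) (Dv.wd (nat_lit 30) [Mv.f (nat_lit 15970), Mv.b (nat_lit 17269)])))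
(Tr.lf (Fc.ed (nat_lit 17278) (nat_lit 6036) Col.g (nat_lit 3647) (Dv.wd (nat_lit 129) [Mv.b (nat_lit 15397), Mv.f (nat_lit 17270)])))))))
(Tr.nd (nat_lit 17284) (Tr.nd (nat_lit 17281) (Tr.nd (nat_lit 17280) (Tr.lf (Fc.al (nat_lit 17279) (nat_lit 2667) (nat_lit 2263) (Dv.wd (nat_lit 30) [Mv.b (nat_lit 7192), Mv.b (nat_lit 17271), Mv.f (nat_lit 7113)])))
(Tr.lf (Fc.al (nat_lit 17280) (nat_lit 1854) (nat_lit 2099) (Dv.wd (nat_lit 120) [Mv.b (nat_lit 11849), Mv.f (nat_lit 17273), Mv.b (nat_lit 10623)]))))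
(Tr.nd (nat_lit 17282) (Tr.lf (Fc.ed (nat_lit 17281) (nat_lit 1395) Col.e (nat_lit 6056) (Dv.wd (nat_lit 117) [Mv.f (nat_lit 15257), Mv.b (nat_lit 17276)])))
(Tr.nd (nat_lit 17283) (Tr.lf (Fc.al (nat_lit 17282) (nat_lit 3635) (nat_lit 4914) (Dv.wd (nat_lit 117) [Mv.f (nat_lit 12784), Mv.f (nat_lit 17279), Mv.f (nat_lit 10137)])))
(Tr.lf (Fc.ed (nat_lit 17283) (nat_lit 1854) Col.g (nat_lit 1081) (Dv.wd (nat_lit 129) [Mv.b (nat_lit 5785), Mv.b (nat_lit 17280)]))))))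
(Tr.nd (nat_lit 17287) (Tr.nd (nat_lit 17285) (Tr.lf (Fc.ed (nat_lit 17284) (nat_lit 1854) Col.gi (nat_lit 988) (Dv.wd (nat_lit 128) [Mv.f (nat_lit 5784), Mv.b (nat_lit 17280)])))
(Tr.nd (nat_lit 17286) (Tr.lf (Fc.al (nat_lit 17285) (nat_lit 5577) (nat_lit 3659) (Dv.wd (nat_lit 117) [Mv.b (nat_lit 10114), Mv.b (nat_lit 17280), Mv.b (nat_lit 14236)])))
(Tr.lf (Fc.al (nat_lit 17286) (nat_lit 2941) (nat_lit 4977) (Dv.wd (nat_lit 120) [Mv.b (nat_lit 12908), Mv.b (nat_lit 17282), Mv.b (nat_lit 9115)])))))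
(Tr.nd (nat_lit 17288) (Tr.lf (Fc.al (nat_lit 17287) (nat_lit 4694) (nat_lit 5006) (Dv.wd (nat_lit 30) [Mv.b (nat_lit 13015), Mv.b (nat_lit 17282), Mv.f (nat_lit 11857)])))
(Tr.nd (nat_lit 17289) (Tr.lf (Fc.al (nat_lit 17288) (nat_lit 6228) (nat_lit 5654) (Dv.wd (nat_lit 129) [Mv.b (nat_lit 14387), Mv.f (nat_lit 17285), Mv.f (nat_lit 15579)])))
(Tr.lf (Fc.ed (nat_lit 17289) (nat_lit 3659) Col.e (nat_lit 1854) (Dv.wd (nat_lit 117) [Mv.b (nat_lit 14236), Mv.f (nat_lit 17285)])))))))))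
(Tr.nd (nat_lit 17310) (Tr.nd (nat_lit 17300) (Tr.nd (nat_lit 17295) (Tr.nd (nat_lit 17292) (Tr.nd (nat_lit 17291) (Tr.lf (Fc.al (nat_lit 17290) (nat_lit 4676) (nat_lit 3098) (Dv.wd (nat_lit 30) [Mv.f (nat_lit 12906), Mv.b (nat_lit 17286), Mv.b (nat_lit 11828)])))
(Tr.lf (Fc.ed (nat_lit 17291) (nat_lit 4694) Col.e (nat_lit 6512) (Dv.wd (nat_lit 117) [Mv.f (nat_lit 17004), Mv.b (nat_lit 17287)]))))
(Tr.nd (nat_lit 17293) (Tr.lf (Fc.ed (nat_lit 17292) (nat_lit 5654) Col.g (nat_lit 3659) (Dv.wd (nat_lit 129) [Mv.f (nat_lit 15579), Mv.f (nat_lit 17288)])))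
(Tr.nd (nat_lit 17294) (Tr.lf (Fc.ed (nat_lit 17293) (nat_lit 3098) Col.d (nat_lit 4694) (Dv.wd (nat_lit 120) [Mv.f (nat_lit 11858), Mv.f (nat_lit 17290)])))
(Tr.lf (Fc.ed (nat_lit 17294) (nat_lit 6423) Col.d (nat_lit 6471) (Dv.wd (nat_lit 60) [Mv.b (nat_lit 16766), Mv.f (nat_lit 17292), Mv.b (nat_lit 9159), Mv.b (nat_lit 8201), Mv.b (nat_lit 4209), Mv.f (nat_lit 4210), Mv.b (nat_lit 4620), Mv.f (nat_lit 10764), Mv.f (nat_lit 12451), Mv.f (nat_lit 16673)]))))))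
(Tr.nd (nat_lit 17297) (Tr.nd (nat_lit 17296) (Tr.lf (Fc.al (nat_lit 17295) (nat_lit 5605) (nat_lit 5193) (Dv.wd (nat_lit 42) [Mv.f (nat_lit 16440), Mv.b (nat_lit 13354), Mv.f (nat_lit 9079), Mv.f (nat_lit 10138), Mv.f (nat_lit 17281), Mv.b (nat_lit 16412)])))
(Tr.lf (Fc.ed (nat_lit 17296) (nat_lit 5193) Col.a (nat_lit 4588) (Dv.wd (nat_lit 29) [Mv.f (nat_lit 14289), Mv.f (nat_lit 17295)]))))
(Tr.nd (nat_lit 17298) (Tr.lf (Fc.ed (nat_lit 17297) (nat_lit 5193) Col.d (nat_lit 6056) (Dv.wd (nat_lit 120) [Mv.b (nat_lit 16412), Mv.f (nat_lit 17295)])))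
(Tr.nd (nat_lit 17299) (Tr.lf (Fc.al (nat_lit 17298) (nat_lit 5695) (nat_lit 4687) (Dv.wd (nat_lit 30) [Mv.b (nat_lit 14290), Mv.f (nat_lit 17295), Mv.b (nat_lit 14453)])))
(Tr.lf (Fc.ed (nat_lit 17299) (nat_lit 4687) Col.a (nat_lit 4948) (Dv.wd (nat_lit 29) [Mv.f (nat_lit 14452), Mv.f (nat_lit 17298)])))))))
(Tr.nd (nat_lit 17305) (Tr.nd (nat_lit 17302) (Tr.nd (nat_lit 17301) (Tr.lf (Fc.ed (nat_lit 17300) (nat_lit 4687) Col.f (nat_lit 5193) (Dv.wd (nat_lit 30) [Mv.b (nat_lit 14453), Mv.f (nat_lit 17298)])))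
(Tr.lf (Fc.ed (nat_lit 17301) (nat_lit 4588) Col.f (nat_lit 4948) (Dv.wd (nat_lit 35) [Mv.b (nat_lit 17299), Mv.f (nat_lit 17300), Mv.f (nat_lit 17296)]))))
(Tr.nd (nat_lit 17303) (Tr.lf (Fc.ed (nat_lit 17302) (nat_lit 4948) Col.d (nat_lit 6512) (Dv.wd (nat_lit 21) [Mv.b (nat_lit 17003), Mv.f (nat_lit 16411), Mv.f (nat_lit 17301)])))
(Tr.nd (nat_lit 17304) (Tr.lf (Fc.ed (nat_lit 17303) (nat_lit 6423) Col.g (nat_lit 6592) (Dv.wd (nat_lit 63) [Mv.f (nat_lit 17188), Mv.b (nat_lit 17067), Mv.f (nat_lit 9879), Mv.f (nat_lit 6850), Mv.f (nat_lit 12856), Mv.f (nat_lit 17302), Mv.b (nat_lit 17291), Mv.b (nat_lit 14388), Mv.f (nat_lit 16766), Mv.b (nat_lit 17294)])))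
(Tr.lf (Fc.ed (nat_lit 17304) (nat_lit 4725) Col.a (nat_lit 4602) (Dv.wd (nat_lit 23) [Mv.b (nat_lit 11689), Mv.b (nat_lit 13778), Mv.f (nat_lit 17277)]))))))
(Tr.nd (nat_lit 17307) (Tr.nd (nat_lit 17306) (Tr.lf (Fc.ed (nat_lit 17305) (nat_lit 6226) Col.g (nat_lit 3828) (Dv.wd (nat_lit 9) [Mv.b (nat_lit 10624), Mv.f (nat_lit 10625), Mv.f (nat_lit 17275)])))
(Tr.lf (Fc.ed (nat_lit 17306) (nat_lit 6442) Col.d (nat_lit 4243) (Dv.wd (nat_lit 99) [Mv.f (nat_lit 17266), Mv.f (nat_lit 12050), Mv.b (nat_lit 17259), Mv.f (nat_lit 12891), Mv.f (nat_lit 16711)]))))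
(Tr.nd (nat_lit 17308) (Tr.lf (Fc.ed (nat_lit 17307) (nat_lit 6536) Col.c (nat_lit 6600) (Dv.wd (nat_lit 135) [Mv.b (nat_lit 17201), Mv.b (nat_lit 15523), Mv.f (nat_lit 6226), Mv.f (nat_lit 5828), Mv.f (nat_lit 5161), Mv.b (nat_lit 5832), Mv.f (nat_lit 5839), Mv.f (nat_lit 6764), Mv.b (nat_lit 10809), Mv.f (nat_lit 17261)])))
(Tr.nd (nat_lit 17309) (Tr.lf (Fc.ed (nat_lit 17308) (nat_lit 6600) Col.e (nat_lit 4725) (Dv.wd (nat_lit 25) [Mv.b (nat_lit 12504), Mv.f (nat_lit 17059), Mv.f (nat_lit 17307)])))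
(Tr.lf (Fc.ed (nat_lit 17309) (nat_lit 4010) Col.e (nat_lit 6626) Dv.df)))))))
(Tr.nd (nat_lit 17320) (Tr.nd (nat_lit 17315) (Tr.nd (nat_lit 17312) (Tr.nd (nat_lit 17311) (Tr.lf (Fc.ed (nat_lit 17310) (nat_lit 6626) Col.a (nat_lit 6538) (Dv.wd (nat_lit 15) [Mv.f (nat_lit 17064), Mv.f (nat_lit 12286), Mv.f (nat_lit 17309)])))
(Tr.lf (Fc.ed (nat_lit 17311) (nat_lit 6209) Col.a (nat_lit 6627) Dv.df)))
(Tr.nd (nat_lit 17313) (Tr.lf (Fc.ed (nat_lit 17312) (nat_lit 6627) Col.e (nat_lit 3941) (Dv.wd (nat_lit 56) [Mv.f (nat_lit 12371), Mv.b (nat_lit 15536), Mv.f (nat_lit 17311)])))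
(Tr.nd (nat_lit 17314) (Tr.lf (Fc.ed (nat_lit 17313) (nat_lit 6171) Col.a (nat_lit 6628) Dv.df))
(Tr.lf (Fc.ed (nat_lit 17314) (nat_lit 6628) Col.f (nat_lit 5896) (Dv.wd (nat_lit 10) [Mv.b (nat_lit 14920), Mv.b (nat_lit 15470), Mv.f (nat_lit 17313)]))))))
(Tr.nd (nat_lit 17317) (Tr.nd (nat_lit 17316) (Tr.lf (Fc.ed (nat_lit 17315) (nat_lit 3860) Col.d (nat_lit 6629) Dv.df))
(Tr.lf (Fc.ed (nat_lit 17316) (nat_lit 6629) Col.a (nat_lit 6625) (Dv.wd (nat_lit 8) [Mv.b (nat_lit 17250), Mv.f (nat_lit 16424), Mv.f (nat_lit 17315)]))))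
(Tr.nd (nat_lit 17318) (Tr.lf (Fc.ed (nat_lit 17317) (nat_lit 6629) Col.f (nat_lit 6095) (Dv.wd (nat_lit 11) [Mv.b (nat_lit 16418), Mv.b (nat_lit 16423), Mv.f (nat_lit 17315)])))
(Tr.nd (nat_lit 17319) (Tr.lf (Fc.ed (nat_lit 17318) (nat_lit 6572) Col.g (nat_lit 6629) (Dv.wd (nat_lit 9) [Mv.f (nat_lit 17316), Mv.f (nat_lit 17251), Mv.f (nat_lit 17133)])))
(Tr.lf (Fc.ed (nat_lit 17319) (nat_lit 6571) Col.e (nat_lit 6630) Dv.df))))))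
(Tr.nd (nat_lit 17325) (Tr.nd (nat_lit 17322) (Tr.nd (nat_lit 17321) (Tr.lf (Fc.ed (nat_lit 17320) (nat_lit 6630) Col.a (nat_lit 4960) (Dv.wd (nat_lit 15) [Mv.b (nat_lit 12880), Mv.b (nat_lit 17132), Mv.f (nat_lit 17319)])))
(Tr.lf (Fc.ed (nat_lit 17321) (nat_lit 4472) Col.a (nat_lit 6631) Dv.df)))
(Tr.nd (nat_lit 17323) (Tr.lf (Fc.ed (nat_lit 17322) (nat_lit 6414) Col.d (nat_lit 6632) Dv.df))
(Tr.nd (nat_lit 17324) (Tr.lf (Fc.ed (nat_lit 17323) (nat_lit 3349) Col.e (nat_lit 6633) Dv.df))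
(Tr.lf (Fc.ed (nat_lit 17324) (nat_lit 6471) Col.gi (nat_lit 6634) Dv.df)))))
(Tr.nd (nat_lit 17328) (Tr.nd (nat_lit 17326) (Tr.lf (Fc.ed (nat_lit 17325) (nat_lit 6634) Col.e (nat_lit 1400) (Dv.wd (nat_lit 146) [Mv.f (nat_lit 16415), Mv.b (nat_lit 5664), Mv.f (nat_lit 4154), Mv.b (nat_lit 6272), Mv.b (nat_lit 9879), Mv.f (nat_lit 17067), Mv.b (nat_lit 17188), Mv.b (nat_lit 17303), Mv.f (nat_lit 17294), Mv.f (nat_lit 17324)])))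
(Tr.nd (nat_lit 17327) (Tr.lf (Fc.ed (nat_lit 17326) (nat_lit 5065) Col.f (nat_lit 6635) Dv.df))
(Tr.lf (Fc.ed (nat_lit 17327) (nat_lit 6635) Col.e (nat_lit 6433) (Dv.wd (nat_lit 22) [Mv.b (nat_lit 16692), Mv.f (nat_lit 13532), Mv.f (nat_lit 10542), Mv.b (nat_lit 13140), Mv.f (nat_lit 17326)])))))
(Tr.nd (nat_lit 17329) (Tr.lf (Fc.ed (nat_lit 17328) (nat_lit 6420) Col.gi (nat_lit 6636) Dv.df))
(Tr.nd (nat_lit 17330) (Tr.lf (Fc.ed (nat_lit 17329) (nat_lit 6636) Col.gi (nat_lit 4324) (Dv.wd (nat_lit 24) [Mv.f (nat_lit 13767), Mv.f (nat_lit 16669), Mv.f (nat_lit 17328)])))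
(Tr.lf (Fc.ed (nat_lit 17330) (nat_lit 5779) Col.d (nat_lit 6637) Dv.df)))))))))
(Tr.nd (nat_lit 17372) (Tr.nd (nat_lit 17351) (Tr.nd (nat_lit 17341) (Tr.nd (nat_lit 17336) (Tr.nd (nat_lit 17333) (Tr.nd (nat_lit 17332) (Tr.lf (Fc.ed (nat_lit 17331) (nat_lit 6637) Col.c (nat_lit 6565) (Dv.wd (nat_lit 80) [Mv.f (nat_lit 17123), Mv.b (nat_lit 15949), Mv.b (nat_lit 14839), Mv.f (nat_lit 8173), Mv.b (nat_lit 13502), Mv.f (nat_lit 13503), Mv.f (nat_lit 10083), Mv.f (nat_lit 14686), Mv.f (nat_lit 17330)])))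
(Tr.lf (Fc.ed (nat_lit 17332) (nat_lit 6637) Col.gi (nat_lit 6450) (Dv.wd (nat_lit 111) [Mv.b (nat_lit 16725), Mv.b (nat_lit 12655), Mv.f (nat_lit 13653), Mv.f (nat_lit 13859), Mv.f (nat_lit 13663), Mv.f (nat_lit 10081), Mv.f (nat_lit 9462), Mv.f (nat_lit 14686), Mv.f (nat_lit 17330)]))))
(Tr.nd (nat_lit 17334) (Tr.lf (Fc.ed (nat_lit 17333) (nat_lit 6255) Col.b (nat_lit 6565) (Dv.wd (nat_lit 168) [Mv.b (nat_lit 17331), Mv.f (nat_lit 17332), Mv.f (nat_lit 16726), Mv.b (nat_lit 16671), Mv.b (nat_lit 16665), Mv.b (nat_lit 14270), Mv.b (nat_lit 8073), Mv.b (nat_lit 8208), Mv.f (nat_lit 8411), Mv.f (nat_lit 15630)])))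
(Tr.nd (nat_lit 17335) (Tr.lf (Fc.ed (nat_lit 17334) (nat_lit 6394) Col.d (nat_lit 6255) (Dv.wd (nat_lit 116) [Mv.f (nat_lit 17333), Mv.f (nat_lit 17123), Mv.f (nat_lit 15973)])))
(Tr.lf (Fc.ed (nat_lit 17335) (nat_lit 5202) Col.d (nat_lit 4732) (Dv.wd (nat_lit 51) [Mv.f (nat_lit 11933), Mv.b (nat_lit 6687), Mv.f (nat_lit 8046), Mv.b (nat_lit 13011), Mv.b (nat_lit 15974), Mv.f (nat_lit 17334), Mv.f (nat_lit 15631), Mv.f (nat_lit 13750), Mv.f (nat_lit 13432)]))))))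
(Tr.nd (nat_lit 17338) (Tr.nd (nat_lit 17337) (Tr.lf (Fc.ed (nat_lit 17336) (nat_lit 6482) Col.d (nat_lit 5789) (Dv.wd (nat_lit 51) [Mv.f (nat_lit 14705), Mv.f (nat_lit 8279), Mv.f (nat_lit 6009), Mv.f (nat_lit 6963), Mv.b (nat_lit 13433), Mv.f (nat_lit 17335), Mv.b (nat_lit 11932), Mv.b (nat_lit 12865), Mv.f (nat_lit 16785)])))
(Tr.lf (Fc.ed (nat_lit 17337) (nat_lit 6548) Col.a (nat_lit 6638) Dv.df)))
(Tr.nd (nat_lit 17339) (Tr.lf (Fc.ed (nat_lit 17338) (nat_lit 6638) Col.e (nat_lit 2157) (Dv.wd (nat_lit 56) [Mv.f (nat_lit 6345), Mv.b (nat_lit 17082), Mv.f (nat_lit 17337)])))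
(Tr.nd (nat_lit 17340) (Tr.lf (Fc.ed (nat_lit 17339) (nat_lit 6534) Col.c (nat_lit 6639) Dv.df))
(Tr.lf (Fc.ed (nat_lit 17340) (nat_lit 6045) Col.d (nat_lit 6640) Dv.df))))))
(Tr.nd (nat_lit 17346) (Tr.nd (nat_lit 17343) (Tr.nd (nat_lit 17342) (Tr.lf (Fc.ed (nat_lit 17341) (nat_lit 6034) Col.a (nat_lit 6641) Dv.df))
(Tr.lf (Fc.ed (nat_lit 17342) (nat_lit 6641) Col.e (nat_lit 3452) (Dv.wd (nat_lit 56) [Mv.b (nat_lit 8765), Mv.f (nat_lit 15221), Mv.f (nat_lit 17341)]))))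
(Tr.nd (nat_lit 17344) (Tr.lf (Fc.ed (nat_lit 17343) (nat_lit 4038) Col.c (nat_lit 6641) (Dv.wd (nat_lit 109) [Mv.f (nat_lit 17342), Mv.b (nat_lit 10404), Mv.b (nat_lit 10539)])))
(Tr.nd (nat_lit 17345) (Tr.lf (Fc.ed (nat_lit 17344) (nat_lit 6577) Col.e (nat_lit 6642) Dv.df))
(Tr.lf (Fc.ed (nat_lit 17345) (nat_lit 6642) Col.d (nat_lit 6036) (Dv.wd (nat_lit 27) [Mv.f (nat_lit 15225), Mv.b (nat_lit 10623), Mv.b (nat_lit 17289), Mv.b (nat_lit 17292), Mv.f (nat_lit 16766), Mv.b (nat_lit 17294), Mv.b (nat_lit 16673), Mv.b (nat_lit 12451), Mv.f (nat_lit 17144), Mv.f (nat_lit 17344)]))))))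
(Tr.nd (nat_lit 17348) (Tr.nd (nat_lit 17347) (Tr.lf (Fc.ed (nat_lit 17346) (nat_lit 4469) Col.f (nat_lit 6643) Dv.df))
(Tr.lf (Fc.ed (nat_lit 17347) (nat_lit 6606) Col.gi (nat_lit 6644) Dv.df)))
(Tr.nd (nat_lit 17349) (Tr.lf (Fc.ed (nat_lit 17348) (nat_lit 4450) Col.g (nat_lit 6645) Dv.df))
(Tr.nd (nat_lit 17350) (Tr.lf (Fc.ed (nat_lit 17349) (nat_lit 4718) Col.a (nat_lit 6646) Dv.df))
(Tr.lf (Fc.ed (nat_lit 17350) (nat_lit 6646) Col.f (nat_lit 6490) (Dv.wd (nat_lit 35) [Mv.f (nat_lit 17207), Mv.f (nat_lit 17208), Mv.f (nat_lit 17349)]))))))))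
(Tr.nd (nat_lit 17361) (Tr.nd (nat_lit 17356) (Tr.nd (nat_lit 17353) (Tr.nd (nat_lit 17352) (Tr.lf (Fc.ed (nat_lit 17351) (nat_lit 6056) Col.gi (nat_lit 6647) Dv.df))
(Tr.lf (Fc.ed (nat_lit 17352) (nat_lit 6647) Col.gi (nat_lit 6512) (Dv.wd (nat_lit 24) [Mv.b (nat_lit 17003), Mv.f (nat_lit 15256), Mv.f (nat_lit 17351)]))))
(Tr.nd (nat_lit 17354) (Tr.lf (Fc.ed (nat_lit 17353) (nat_lit 6444) Col.gi (nat_lit 6648) Dv.df))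
(Tr.nd (nat_lit 17355) (Tr.lf (Fc.ed (nat_lit 17354) (nat_lit 6648) Col.gi (nat_lit 6099) (Dv.wd (nat_lit 24) [Mv.b (nat_lit 16659), Mv.b (nat_lit 16715), Mv.f (nat_lit 17353)])))
(Tr.lf (Fc.ed (nat_lit 17355) (nat_lit 5194) Col.gi (nat_lit 6649) Dv.df)))))
(Tr.nd (nat_lit 17358) (Tr.nd (nat_lit 17357) (Tr.lf (Fc.ed (nat_lit 17356) (nat_lit 6649) Col.e (nat_lit 3961) (Dv.wd (nat_lit 133) [Mv.b (nat_lit 9741), Mv.b (nat_lit 9736), Mv.b (nat_lit 9907), Mv.f (nat_lit 12317), Mv.f (nat_lit 16765), Mv.b (nat_lit 17243), Mv.f (nat_lit 16455), Mv.f (nat_lit 11434), Mv.f (nat_lit 13417), Mv.f (nat_lit 17355)])))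
(Tr.lf (Fc.ed (nat_lit 17357) (nat_lit 5989) Col.c (nat_lit 6650) Dv.df)))
(Tr.nd (nat_lit 17359) (Tr.lf (Fc.ed (nat_lit 17358) (nat_lit 5339) Col.b (nat_lit 6651) Dv.df))
(Tr.nd (nat_lit 17360) (Tr.lf (Fc.ed (nat_lit 17359) (nat_lit 6651) Col.e (nat_lit 5440) (Dv.wd (nat_lit 52) [Mv.f (nat_lit 16848), Mv.f (nat_lit 13742), Mv.f (nat_lit 17358)])))
(Tr.lf (Fc.ed (nat_lit 17360) (nat_lit 6651) Col.f (nat_lit 6457) (Dv.wd (nat_lit 20) [Mv.f (nat_lit 16739), Mv.b (nat_lit 13743), Mv.f (nat_lit 17358)])))))))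
(Tr.nd (nat_lit 17366) (Tr.nd (nat_lit 17363) (Tr.nd (nat_lit 17362) (Tr.lf (Fc.ed (nat_lit 17361) (nat_lit 6477) Col.a (nat_lit 6651) (Dv.wd (nat_lit 31) [Mv.f (nat_lit 17359), Mv.f (nat_lit 16981), Mv.f (nat_lit 16778)])))
(Tr.lf (Fc.ed (nat_lit 17362) (nat_lit 4106) Col.c (nat_lit 6652) Dv.df)))
(Tr.nd (nat_lit 17364) (Tr.lf (Fc.ed (nat_lit 17363) (nat_lit 6652) Col.a (nat_lit 5930) (Dv.wd (nat_lit 19) [Mv.f (nat_lit 15003), Mv.f (nat_lit 12051), Mv.f (nat_lit 17362)])))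
(Tr.nd (nat_lit 17365) (Tr.lf (Fc.ed (nat_lit 17364) (nat_lit 5593) Col.c (nat_lit 6653) Dv.df))
(Tr.lf (Fc.ed (nat_lit 17365) (nat_lit 4605) Col.b (nat_lit 6654) Dv.df)))))
(Tr.nd (nat_lit 17369) (Tr.nd (nat_lit 17367) (Tr.lf (Fc.ed (nat_lit 17366) (nat_lit 6654) Col.f (nat_lit 6576) (Dv.wd (nat_lit 20) [Mv.f (nat_lit 17143), Mv.b (nat_lit 16577), Mv.f (nat_lit 17365)])))
(Tr.nd (nat_lit 17368) (Tr.lf (Fc.ed (nat_lit 17367) (nat_lit 4610) Col.g (nat_lit 6655) Dv.df))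
(Tr.lf (Fc.ed (nat_lit 17368) (nat_lit 6655) Col.g (nat_lit 4666) (Dv.wd (nat_lit 9) [Mv.f (nat_lit 11804), Mv.f (nat_lit 11701), Mv.f (nat_lit 17367)])))))
(Tr.nd (nat_lit 17370) (Tr.lf (Fc.ed (nat_lit 17369) (nat_lit 4840) Col.d (nat_lit 6656) Dv.df))
(Tr.nd (nat_lit 17371) (Tr.lf (Fc.ed (nat_lit 17370) (nat_lit 6656) Col.gi (nat_lit 6570) (Dv.wd (nat_lit 178) [Mv.b (nat_lit 17130), Mv.f (nat_lit 14884), Mv.f (nat_lit 10190), Mv.f (nat_lit 7354), Mv.b (nat_lit 3273), Mv.f (nat_lit 2253), Mv.f (nat_lit 230), Mv.f (nat_lit 501), Mv.b (nat_lit 1345), Mv.b (nat_lit 1346), Mv.b (nat_lit 2089), Mv.f (nat_lit 2169), Mv.f (nat_lit 2249), Mv.b (nat_lit 3132), Mv.f (nat_lit 3171), Mv.b (nat_lit 3617), Mv.b (nat_lit 7719), Mv.f (nat_lit 12633), Mv.f (nat_lit 17369)])))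
(Tr.lf (Fc.ed (nat_lit 17371) (nat_lit 4732) Col.f (nat_lit 6657) Dv.df))))))))
(Tr.nd (nat_lit 17392) (Tr.nd (nat_lit 17382) (Tr.nd (nat_lit 17377) (Tr.nd (nat_lit 17374) (Tr.nd (nat_lit 17373) (Tr.lf (Fc.ed (nat_lit 17372) (nat_lit 6657) Col.a (nat_lit 5163) (Dv.wd (nat_lit 23) [Mv.b (nat_lit 13338), Mv.b (nat_lit 11933), Mv.f (nat_lit 17371)])))
(Tr.lf (Fc.ed (nat_lit 17373) (nat_lit 5715) Col.f (nat_lit 6658) Dv.df)))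
(Tr.nd (nat_lit 17375) (Tr.lf (Fc.ed (nat_lit 17374) (nat_lit 6658) Col.d (nat_lit 6335) (Dv.wd (nat_lit 21) [Mv.f (nat_lit 15846), Mv.f (nat_lit 15211), Mv.f (nat_lit 17373)])))
(Tr.nd (nat_lit 17376) (Tr.lf (Fc.ed (nat_lit 17375) (nat_lit 5489) Col.d (nat_lit 6659) Dv.df))
(Tr.lf (Fc.ed (nat_lit 17376) (nat_lit 6659) Col.a (nat_lit 5754) (Dv.wd (nat_lit 8) [Mv.b (nat_lit 14613), Mv.b (nat_lit 17013), Mv.f (nat_lit 17375)]))))))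
(Tr.nd (nat_lit 17379) (Tr.nd (nat_lit 17378) (Tr.lf (Fc.ed (nat_lit 17377) (nat_lit 5616) Col.f (nat_lit 6660) Dv.df))
(Tr.lf (Fc.ed (nat_lit 17378) (nat_lit 6612) Col.b (nat_lit 6661) Dv.df)))
(Tr.nd (nat_lit 17380) (Tr.lf (Fc.ed (nat_lit 17379) (nat_lit 6661) Col.d (nat_lit 5235) (Dv.wd (nat_lit 58) [Mv.f (nat_lit 14298), Mv.b (nat_lit 17222), Mv.f (nat_lit 17378)])))
(Tr.nd (nat_lit 17381) (Tr.lf (Fc.ed (nat_lit 17380) (nat_lit 6661) Col.a (nat_lit 6125) (Dv.wd (nat_lit 98) [Mv.b (nat_lit 15388), Mv.b (nat_lit 6476), Mv.b (nat_lit 11300), Mv.b (nat_lit 17221), Mv.f (nat_lit 17378)])))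
(Tr.lf (Fc.ed (nat_lit 17381) (nat_lit 5830) Col.g (nat_lit 6662) Dv.df))))))
(Tr.nd (nat_lit 17387) (Tr.nd (nat_lit 17384) (Tr.nd (nat_lit 17383) (Tr.lf (Fc.ed (nat_lit 17382) (nat_lit 5351) Col.b (nat_lit 6663) Dv.df))
(Tr.lf (Fc.ed (nat_lit 17383) (nat_lit 6663) Col.c (nat_lit 6372) (Dv.wd (nat_lit 176) [Mv.b (nat_lit 17164), Mv.f (nat_lit 12732), Mv.f (nat_lit 7943), Mv.f (nat_lit 4864), Mv.b (nat_lit 4113), Mv.b (nat_lit 2062), Mv.b (nat_lit 2060), Mv.b (nat_lit 1401), Mv.f (nat_lit 1445), Mv.b (nat_lit 424), Mv.f (nat_lit 304), Mv.f (nat_lit 2256), Mv.b (nat_lit 3078), Mv.b (nat_lit 3168), Mv.f (nat_lit 5154), Mv.f (nat_lit 12917), Mv.b (nat_lit 13018), Mv.f (nat_lit 13762), Mv.f (nat_lit 17382)]))))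
(Tr.nd (nat_lit 17385) (Tr.lf (Fc.ed (nat_lit 17384) (nat_lit 6532) Col.c (nat_lit 6664) Dv.df))
(Tr.nd (nat_lit 17386) (Tr.lf (Fc.ed (nat_lit 17385) (nat_lit 4078) Col.g (nat_lit 6665) Dv.df))
(Tr.lf (Fc.ed (nat_lit 17386) (nat_lit 6665) Col.d (nat_lit 6613) (Dv.wd (nat_lit 60) [Mv.b (nat_lit 17223), Mv.f (nat_lit 17278), Mv.f (nat_lit 10105), Mv.f (nat_lit 3371), Mv.f (nat_lit 3098), Mv.b (nat_lit 3096), Mv.f (nat_lit 10361), Mv.f (nat_lit 10348), Mv.b (nat_lit 12155), Mv.f (nat_lit 17385)]))))))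
(Tr.nd (nat_lit 17389) (Tr.nd (nat_lit 17388) (Tr.lf (Fc.ed (nat_lit 17387) (nat_lit 4443) Col.b (nat_lit 6666) Dv.df))
(Tr.lf (Fc.ed (nat_lit 17388) (nat_lit 6282) Col.gi (nat_lit 6667) Dv.df)))
(Tr.nd (nat_lit 17390) (Tr.lf (Fc.ed (nat_lit 17389) (nat_lit 6217) Col.c (nat_lit 6668) Dv.df))
(Tr.nd (nat_lit 17391) (Tr.lf (Fc.ed (nat_lit 17390) (nat_lit 5315) Col.e (nat_lit 6669) Dv.df))
(Tr.lf (Fc.ed (nat_lit 17391) (nat_lit 6669) Col.f (nat_lit 5168) (Dv.wd (nat_lit 96) [Mv.b (nat_lit 13346), Mv.b (nat_lit 13062), Mv.b (nat_lit 13170), Mv.f (nat_lit 13698), Mv.f (nat_lit 17390)]))))))))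
(Tr.nd (nat_lit 17402) (Tr.nd (nat_lit 17397) (Tr.nd (nat_lit 17394) (Tr.nd (nat_lit 17393) (Tr.lf (Fc.ed (nat_lit 17392) (nat_lit 4535) Col.gi (nat_lit 6670) Dv.df))
(Tr.lf (Fc.ed (nat_lit 17393) (nat_lit 6648) Col.d (nat_lit 6671) Dv.df)))
(Tr.nd (nat_lit 17395) (Tr.lf (Fc.ed (nat_lit 17394) (nat_lit 6671) Col.gi (nat_lit 3316) (Dv.wd (nat_lit 163) [Mv.b (nat_lit 8483), Mv.b (nat_lit 12415), Mv.b (nat_lit 6593), Mv.f (nat_lit 6113), Mv.b (nat_lit 8257), Mv.f (nat_lit 10798), Mv.f (nat_lit 16628), Mv.f (nat_lit 16714), Mv.f (nat_lit 17353), Mv.f (nat_lit 17393)])))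
(Tr.nd (nat_lit 17396) (Tr.lf (Fc.ed (nat_lit 17395) (nat_lit 6648) Col.e (nat_lit 6610) (Dv.wd (nat_lit 70) [Mv.b (nat_lit 17215), Mv.b (nat_lit 11085), Mv.b (nat_lit 16274), Mv.b (nat_lit 13199), Mv.b (nat_lit 14363), Mv.f (nat_lit 14364), Mv.b (nat_lit 16138), Mv.b (nat_lit 12424), Mv.b (nat_lit 17394), Mv.b (nat_lit 17393)])))
(Tr.lf (Fc.ed (nat_lit 17396) (nat_lit 5722) Col.c (nat_lit 6672) Dv.df)))))
(Tr.nd (nat_lit 17399) (Tr.nd (nat_lit 17398) (Tr.lf (Fc.ed (nat_lit 17397) (nat_lit 6672) Col.e (nat_lit 4118) (Dv.wd (nat_lit 25) [Mv.b (nat_lit 14492), Mv.f (nat_lit 14555), Mv.f (nat_lit 17396)])))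
(Tr.lf (Fc.ed (nat_lit 17398) (nat_lit 6044) Col.d (nat_lit 6673) Dv.df)))
(Tr.nd (nat_lit 17400) (Tr.lf (Fc.ed (nat_lit 17399) (nat_lit 6673) Col.gi (nat_lit 3683) (Dv.wd (nat_lit 163) [Mv.b (nat_lit 9203), Mv.f (nat_lit 12148), Mv.f (nat_lit 16389), Mv.f (nat_lit 3874), Mv.b (nat_lit 6413), Mv.b (nat_lit 10918), Mv.f (nat_lit 17266), Mv.f (nat_lit 12050), Mv.b (nat_lit 15239), Mv.f (nat_lit 17398)])))
(Tr.nd (nat_lit 17401) (Tr.lf (Fc.ed (nat_lit 17400) (nat_lit 5962) Col.gi (nat_lit 6674) Dv.df))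
(Tr.lf (Fc.ed (nat_lit 17401) (nat_lit 6674) Col.gi (nat_lit 5872) (Dv.wd (nat_lit 24) [Mv.b (nat_lit 16676), Mv.f (nat_lit 16675), Mv.f (nat_lit 17400)])))))))
(Tr.nd (nat_lit 17407) (Tr.nd (nat_lit 17404) (Tr.nd (nat_lit 17403) (Tr.lf (Fc.ed (nat_lit 17402) (nat_lit 6674) Col.b (nat_lit 5841) (Dv.wd (nat_lit 168) [Mv.b (nat_lit 14796), Mv.f (nat_lit 13625), Mv.b (nat_lit 13257), Mv.b (nat_lit 13702), Mv.f (nat_lit 14842), Mv.b (nat_lit 13744), Mv.f (nat_lit 7324), Mv.f (nat_lit 14832), Mv.b (nat_lit 15093), Mv.f (nat_lit 17400)])))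
(Tr.lf (Fc.ed (nat_lit 17403) (nat_lit 6570) Col.d (nat_lit 6674) (Dv.wd (nat_lit 116) [Mv.f (nat_lit 17402), Mv.f (nat_lit 14883), Mv.f (nat_lit 17130)]))))
(Tr.nd (nat_lit 17405) (Tr.lf (Fc.ed (nat_lit 17404) (nat_lit 5451) Col.d (nat_lit 6325) (Dv.wd (nat_lit 51) [Mv.b (nat_lit 15827), Mv.f (nat_lit 7718), Mv.f (nat_lit 12633), Mv.f (nat_lit 17369), Mv.f (nat_lit 17370), Mv.f (nat_lit 17403), Mv.f (nat_lit 17401), Mv.b (nat_lit 14872), Mv.b (nat_lit 14004)])))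
(Tr.nd (nat_lit 17406) (Tr.lf (Fc.ed (nat_lit 17405) (nat_lit 4650) Col.e (nat_lit 6675) Dv.df))
(Tr.lf (Fc.ed (nat_lit 17406) (nat_lit 3345) Col.c (nat_lit 6676) Dv.df)))))
(Tr.nd (nat_lit 17410) (Tr.nd (nat_lit 17408) (Tr.lf (Fc.ed (nat_lit 17407) (nat_lit 6566) Col.d (nat_lit 6677) Dv.df))
(Tr.nd (nat_lit 17409) (Tr.lf (Fc.ed (nat_lit 17408) (nat_lit 6677) Col.g (nat_lit 5915) (Dv.wd (nat_lit 139) [Mv.f (nat_lit 14970), Mv.b (nat_lit 14772), Mv.b (nat_lit 14598), Mv.f (nat_lit 7970), Mv.f (nat_lit 7972), Mv.f (nat_lit 14072), Mv.b (nat_lit 16823), Mv.f (nat_lit 17124), Mv.f (nat_lit 17407)])))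
(Tr.lf (Fc.ed (nat_lit 17409) (nat_lit 6581) Col.g (nat_lit 6678) Dv.df))))
(Tr.nd (nat_lit 17411) (Tr.lf (Fc.ed (nat_lit 17410) (nat_lit 6678) Col.g (nat_lit 3705) (Dv.wd (nat_lit 9) [Mv.f (nat_lit 14628), Mv.f (nat_lit 17150), Mv.f (nat_lit 17409)])))
(Tr.nd (nat_lit 17412) (Tr.lf (Fc.ed (nat_lit 17411) (nat_lit 6553) Col.e (nat_lit 6679) Dv.df))
(Tr.lf (Fc.ed (nat_lit 17412) (nat_lit 6679) Col.c (nat_lit 4020) (Dv.wd (nat_lit 18) [Mv.b (nat_lit 9837), Mv.b (nat_lit 17089), Mv.f (nat_lit 17411)]))))))))))))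
(Tr.nd (nat_lit 17577) (Tr.nd (nat_lit 17495) (Tr.nd (nat_lit 17454) (Tr.nd (nat_lit 17433) (Tr.nd (nat_lit 17423) (Tr.nd (nat_lit 17418) (Tr.nd (nat_lit 17415) (Tr.nd (nat_lit 17414) (Tr.lf (Fc.ed (nat_lit 17413) (nat_lit 4308) Col.gi (nat_lit 6680) Dv.df))
(Tr.lf (Fc.ed (nat_lit 17414) (nat_lit 6680) Col.gi (nat_lit 6476) (Dv.wd (nat_lit 24) [Mv.b (nat_lit 16775), Mv.b (nat_lit 16703), Mv.f (nat_lit 17413)]))))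
(Tr.nd (nat_lit 17416) (Tr.lf (Fc.ed (nat_lit 17415) (nat_lit 6680) Col.d (nat_lit 6678) (Dv.wd (nat_lit 89) [Mv.f (nat_lit 17410), Mv.f (nat_lit 9255), Mv.b (nat_lit 8806), Mv.f (nat_lit 5812), Mv.b (nat_lit 3573), Mv.f (nat_lit 4795), Mv.b (nat_lit 9588), Mv.f (nat_lit 11078), Mv.f (nat_lit 17413)])))
(Tr.nd (nat_lit 17417) (Tr.lf (Fc.ed (nat_lit 17416) (nat_lit 6607) Col.c (nat_lit 6681) Dv.df))
(Tr.lf (Fc.ed (nat_lit 17417) (nat_lit 6681) Col.f (nat_lit 6090) (Dv.wd (nat_lit 26) [Mv.f (nat_lit 15323), Mv.b (nat_lit 17212), Mv.f (nat_lit 17416)]))))))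
(Tr.nd (nat_lit 17420) (Tr.nd (nat_lit 17419) (Tr.lf (Fc.ed (nat_lit 17418) (nat_lit 6681) Col.g (nat_lit 5986) (Dv.wd (nat_lit 123) [Mv.f (nat_lit 15134), Mv.b (nat_lit 6271), Mv.f (nat_lit 3682), Mv.b (nat_lit 3684), Mv.f (nat_lit 4052), Mv.f (nat_lit 5920), Mv.b (nat_lit 8526), Mv.f (nat_lit 14067), Mv.f (nat_lit 17211), Mv.f (nat_lit 17416)])))
(Tr.lf (Fc.ed (nat_lit 17419) (nat_lit 5986) Col.g (nat_lit 6080) (Dv.wd (nat_lit 9) [Mv.f (nat_lit 15322), Mv.b (nat_lit 17417), Mv.f (nat_lit 17418)]))))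
(Tr.nd (nat_lit 17421) (Tr.lf (Fc.ed (nat_lit 17420) (nat_lit 6080) Col.g (nat_lit 5942) (Dv.wd (nat_lit 9) [Mv.f (nat_lit 15124), Mv.b (nat_lit 15135), Mv.f (nat_lit 17419)])))
(Tr.nd (nat_lit 17422) (Tr.lf (Fc.ed (nat_lit 17421) (nat_lit 3578) Col.b (nat_lit 6682) Dv.df))
(Tr.lf (Fc.ed (nat_lit 17422) (nat_lit 6682) Col.f (nat_lit 6621) (Dv.wd (nat_lit 20) [Mv.b (nat_lit 17238), Mv.f (nat_lit 10443), Mv.f (nat_lit 17421)])))))))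
(Tr.nd (nat_lit 17428) (Tr.nd (nat_lit 17425) (Tr.nd (nat_lit 17424) (Tr.lf (Fc.ed (nat_lit 17423) (nat_lit 6682) Col.c (nat_lit 6609) (Dv.wd (nat_lit 93) [Mv.b (nat_lit 17214), Mv.b (nat_lit 10485), Mv.f (nat_lit 10484), Mv.b (nat_lit 9014), Mv.f (nat_lit 17421)])))
(Tr.lf (Fc.ed (nat_lit 17424) (nat_lit 4536) Col.gi (nat_lit 6683) Dv.df)))
(Tr.nd (nat_lit 17426) (Tr.lf (Fc.ed (nat_lit 17425) (nat_lit 6683) Col.gi (nat_lit 4313) (Dv.wd (nat_lit 24) [Mv.b (nat_lit 11573), Mv.b (nat_lit 11572), Mv.f (nat_lit 17424)])))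
(Tr.nd (nat_lit 17427) (Tr.lf (Fc.ed (nat_lit 17426) (nat_lit 6680) Col.f (nat_lit 6684) Dv.df))
(Tr.lf (Fc.ed (nat_lit 17427) (nat_lit 6420) Col.d (nat_lit 6685) Dv.df)))))
(Tr.nd (nat_lit 17430) (Tr.nd (nat_lit 17429) (Tr.lf (Fc.ed (nat_lit 17428) (nat_lit 4254) Col.c (nat_lit 6686) Dv.df))
(Tr.lf (Fc.ed (nat_lit 17429) (nat_lit 6328) Col.d (nat_lit 6687) Dv.df)))
(Tr.nd (nat_lit 17431) (Tr.lf (Fc.ed (nat_lit 17430) (nat_lit 6044) Col.e (nat_lit 6688) Dv.df))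
(Tr.nd (nat_lit 17432) (Tr.lf (Fc.ed (nat_lit 17431) (nat_lit 3057) Col.d (nat_lit 6689) Dv.df))
(Tr.lf (Fc.ed (nat_lit 17432) (nat_lit 6689) Col.b (nat_lit 6098) (Dv.wd (nat_lit 37) [Mv.b (nat_lit 15339), Mv.f (nat_lit 8770), Mv.f (nat_lit 17431)]))))))))
(Tr.nd (nat_lit 17443) (Tr.nd (nat_lit 17438) (Tr.nd (nat_lit 17435) (Tr.nd (nat_lit 17434) (Tr.lf (Fc.ed (nat_lit 17433) (nat_lit 6689) Col.f (nat_lit 6188) (Dv.wd (nat_lit 11) [Mv.b (nat_lit 15498), Mv.b (nat_lit 10888), Mv.f (nat_lit 17431)])))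
(Tr.lf (Fc.ed (nat_lit 17434) (nat_lit 5139) Col.gi (nat_lit 6690) Dv.df)))
(Tr.nd (nat_lit 17436) (Tr.lf (Fc.ed (nat_lit 17435) (nat_lit 6434) Col.f (nat_lit 6691) Dv.df))
(Tr.nd (nat_lit 17437) (Tr.lf (Fc.ed (nat_lit 17436) (nat_lit 6691) Col.d (nat_lit 4605) (Dv.wd (nat_lit 21) [Mv.f (nat_lit 16577), Mv.b (nat_lit 16694), Mv.f (nat_lit 17435)])))
(Tr.lf (Fc.ed (nat_lit 17437) (nat_lit 4678) Col.f (nat_lit 6692) Dv.df)))))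
(Tr.nd (nat_lit 17440) (Tr.nd (nat_lit 17439) (Tr.lf (Fc.ed (nat_lit 17438) (nat_lit 6692) Col.d (nat_lit 6588) (Dv.wd (nat_lit 21) [Mv.f (nat_lit 17180), Mv.b (nat_lit 16731), Mv.f (nat_lit 17437)])))
(Tr.lf (Fc.ed (nat_lit 17439) (nat_lit 4345) Col.b (nat_lit 6693) Dv.df)))
(Tr.nd (nat_lit 17441) (Tr.lf (Fc.ed (nat_lit 17440) (nat_lit 3939) Col.gi (nat_lit 6694) Dv.df))
(Tr.nd (nat_lit 17442) (Tr.lf (Fc.ed (nat_lit 17441) (nat_lit 6694) Col.c (nat_lit 2941) (Dv.wd (nat_lit 81) [Mv.b (nat_lit 7707), Mv.f (nat_lit 6061), Mv.f (nat_lit 7692), Mv.f (nat_lit 17244), Mv.f (nat_lit 17245), Mv.f (nat_lit 17129), Mv.b (nat_lit 12871), Mv.f (nat_lit 9703), Mv.f (nat_lit 17440)])))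
(Tr.lf (Fc.al (nat_lit 17442) (nat_lit 5468) (nat_lit 6671) (Dv.wd (nat_lit 100) [Mv.f (nat_lit 17394), Mv.f (nat_lit 9351), Mv.f (nat_lit 9703), Mv.f (nat_lit 17440), Mv.f (nat_lit 17441), Mv.b (nat_lit 7707), Mv.f (nat_lit 6060), Mv.b (nat_lit 7588), Mv.f (nat_lit 8102), Mv.f (nat_lit 8103), Mv.f (nat_lit 14035)])))))))
(Tr.nd (nat_lit 17448) (Tr.nd (nat_lit 17445) (Tr.nd (nat_lit 17444) (Tr.lf (Fc.al (nat_lit 17443) (nat_lit 4554) (nat_lit 6648) (Dv.wd (nat_lit 120) [Mv.f (nat_lit 17393), Mv.b (nat_lit 17442), Mv.f (nat_lit 14036)])))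
(Tr.lf (Fc.ed (nat_lit 17444) (nat_lit 4554) Col.gi (nat_lit 6099) (Dv.wd (nat_lit 128) [Mv.b (nat_lit 17354), Mv.b (nat_lit 17443)]))))
(Tr.nd (nat_lit 17446) (Tr.lf (Fc.al (nat_lit 17445) (nat_lit 4472) (nat_lit 6610) (Dv.wd (nat_lit 117) [Mv.b (nat_lit 17395), Mv.b (nat_lit 17443), Mv.f (nat_lit 11596)])))
(Tr.nd (nat_lit 17447) (Tr.lf (Fc.ed (nat_lit 17446) (nat_lit 4472) Col.g (nat_lit 4312) (Dv.wd (nat_lit 129) [Mv.f (nat_lit 17215), Mv.b (nat_lit 17445)])))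
(Tr.lf (Fc.ed (nat_lit 17447) (nat_lit 4472) Col.gi (nat_lit 6376) (Dv.wd (nat_lit 128) [Mv.b (nat_lit 17216), Mv.b (nat_lit 17445)]))))))
(Tr.nd (nat_lit 17451) (Tr.nd (nat_lit 17449) (Tr.lf (Fc.ed (nat_lit 17448) (nat_lit 6596) Col.a (nat_lit 2562) (Dv.wd (nat_lit 114) [Mv.b (nat_lit 11451), Mv.f (nat_lit 17446), Mv.f (nat_lit 17195)])))
(Tr.nd (nat_lit 17450) (Tr.lf (Fc.ed (nat_lit 17449) (nat_lit 6631) Col.f (nat_lit 6596) (Dv.wd (nat_lit 73) [Mv.f (nat_lit 17448), Mv.b (nat_lit 11451), Mv.f (nat_lit 17321)])))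
(Tr.lf (Fc.ed (nat_lit 17450) (nat_lit 6099) Col.gi (nat_lit 6310) (Dv.wd (nat_lit 24) [Mv.f (nat_lit 15795), Mv.b (nat_lit 14568), Mv.f (nat_lit 17444)])))))
(Tr.nd (nat_lit 17452) (Tr.lf (Fc.ed (nat_lit 17451) (nat_lit 5442) Col.gi (nat_lit 5790) (Dv.wd (nat_lit 132) [Mv.f (nat_lit 14707), Mv.f (nat_lit 14036), Mv.f (nat_lit 17444), Mv.b (nat_lit 16622), Mv.b (nat_lit 16625), Mv.f (nat_lit 16211), Mv.f (nat_lit 16209), Mv.f (nat_lit 11479), Mv.b (nat_lit 12122), Mv.f (nat_lit 13983)])))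
(Tr.nd (nat_lit 17453) (Tr.lf (Fc.ed (nat_lit 17452) (nat_lit 5535) Col.a (nat_lit 6446) (Dv.wd (nat_lit 23) [Mv.f (nat_lit 16719), Mv.f (nat_lit 17451), Mv.f (nat_lit 14708)])))
(Tr.lf (Fc.ed (nat_lit 17453) (nat_lit 6368) Col.a (nat_lit 4336) (Dv.wd (nat_lit 31) [Mv.f (nat_lit 14151), Mv.f (nat_lit 17452), Mv.b (nat_lit 16718)])))))))))
(Tr.nd (nat_lit 17474) (Tr.nd (nat_lit 17464) (Tr.nd (nat_lit 17459) (Tr.nd (nat_lit 17456) (Tr.nd (nat_lit 17455) (Tr.lf (Fc.ed (nat_lit 17454) (nat_lit 4336) Col.d (nat_lit 6628) (Dv.wd (nat_lit 28) [Mv.b (nat_lit 17313), Mv.f (nat_lit 16293), Mv.f (nat_lit 17453)])))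
(Tr.lf (Fc.ed (nat_lit 17455) (nat_lit 6497) Col.f (nat_lit 6368) (Dv.wd (nat_lit 73) [Mv.f (nat_lit 17453), Mv.f (nat_lit 11372), Mv.f (nat_lit 16817)]))))
(Tr.nd (nat_lit 17457) (Tr.lf (Fc.al (nat_lit 17456) (nat_lit 4425) (nat_lit 6583) (Dv.wd (nat_lit 17) [Mv.f (nat_lit 17155), Mv.b (nat_lit 15911), Mv.f (nat_lit 17453), Mv.f (nat_lit 11372)])))
(Tr.nd (nat_lit 17458) (Tr.lf (Fc.ed (nat_lit 17457) (nat_lit 4425) Col.gi (nat_lit 4197) (Dv.wd (nat_lit 128) [Mv.f (nat_lit 17156), Mv.b (nat_lit 17456)])))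
(Tr.lf (Fc.ed (nat_lit 17458) (nat_lit 4425) Col.d (nat_lit 5896) (Dv.wd (nat_lit 120) [Mv.f (nat_lit 17154), Mv.b (nat_lit 17456)]))))))
(Tr.nd (nat_lit 17461) (Tr.nd (nat_lit 17460) (Tr.lf (Fc.al (nat_lit 17459) (nat_lit 4823) (nat_lit 6598) (Dv.wd (nat_lit 117) [Mv.f (nat_lit 17198), Mv.b (nat_lit 17456), Mv.f (nat_lit 12602)])))
(Tr.lf (Fc.ed (nat_lit 17460) (nat_lit 4823) Col.g (nat_lit 2555) (Dv.wd (nat_lit 129) [Mv.f (nat_lit 17197), Mv.b (nat_lit 17459)]))))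
(Tr.nd (nat_lit 17462) (Tr.lf (Fc.ed (nat_lit 17461) (nat_lit 6415) Col.g (nat_lit 3031) (Dv.wd (nat_lit 75) [Mv.f (nat_lit 14710), Mv.f (nat_lit 17460), Mv.f (nat_lit 10630), Mv.f (nat_lit 12418), Mv.b (nat_lit 5981), Mv.f (nat_lit 5762), Mv.b (nat_lit 7022), Mv.f (nat_lit 16228), Mv.b (nat_lit 13795), Mv.f (nat_lit 16657)])))
(Tr.nd (nat_lit 17463) (Tr.lf (Fc.al (nat_lit 17462) (nat_lit 5887) (nat_lit 6070) (Dv.wd (nat_lit 114) [Mv.f (nat_lit 16262), Mv.b (nat_lit 16659), Mv.f (nat_lit 17461), Mv.b (nat_lit 14897)])))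
(Tr.lf (Fc.ed (nat_lit 17463) (nat_lit 5887) Col.a (nat_lit 6099) (Dv.wd (nat_lit 29) [Mv.b (nat_lit 16262), Mv.b (nat_lit 17462)])))))))
(Tr.nd (nat_lit 17469) (Tr.nd (nat_lit 17466) (Tr.nd (nat_lit 17465) (Tr.lf (Fc.ed (nat_lit 17464) (nat_lit 5887) Col.f (nat_lit 6444) (Dv.wd (nat_lit 30) [Mv.f (nat_lit 16716), Mv.b (nat_lit 17462)])))
(Tr.lf (Fc.ed (nat_lit 17465) (nat_lit 6444) Col.g (nat_lit 6310) (Dv.wd (nat_lit 17) [Mv.b (nat_lit 17450), Mv.b (nat_lit 17463), Mv.f (nat_lit 17464)]))))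
(Tr.nd (nat_lit 17467) (Tr.lf (Fc.ed (nat_lit 17466) (nat_lit 6310) Col.d (nat_lit 6525) (Dv.wd (nat_lit 60) [Mv.f (nat_lit 17040), Mv.b (nat_lit 16793), Mv.b (nat_lit 16247), Mv.f (nat_lit 8985), Mv.b (nat_lit 6916), Mv.f (nat_lit 6917), Mv.b (nat_lit 10799), Mv.f (nat_lit 16628), Mv.f (nat_lit 16714), Mv.f (nat_lit 17465)])))
(Tr.nd (nat_lit 17468) (Tr.lf (Fc.ed (nat_lit 17467) (nat_lit 6525) Col.a (nat_lit 4823) (Dv.wd (nat_lit 8) [Mv.b (nat_lit 14710), Mv.f (nat_lit 15794), Mv.f (nat_lit 17466)])))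
(Tr.lf (Fc.al (nat_lit 17468) (nat_lit 6497) (nat_lit 6486) (Dv.wd (nat_lit 72) [Mv.b (nat_lit 17040), Mv.f (nat_lit 17467), Mv.b (nat_lit 12602), Mv.f (nat_lit 16817)]))))))
(Tr.nd (nat_lit 17471) (Tr.nd (nat_lit 17470) (Tr.lf (Fc.ed (nat_lit 17469) (nat_lit 6486) Col.f (nat_lit 6368) (Dv.wd (nat_lit 30) [Mv.b (nat_lit 17455), Mv.f (nat_lit 17468)])))
(Tr.lf (Fc.ed (nat_lit 17470) (nat_lit 6171) Col.f (nat_lit 6488) (Dv.wd (nat_lit 11) [Mv.f (nat_lit 16799), Mv.f (nat_lit 17469), Mv.b (nat_lit 16293)]))))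
(Tr.nd (nat_lit 17472) (Tr.lf (Fc.ed (nat_lit 17471) (nat_lit 6488) Col.a (nat_lit 5896) (Dv.wd (nat_lit 16) [Mv.b (nat_lit 17314), Mv.b (nat_lit 17313), Mv.f (nat_lit 17470)])))
(Tr.nd (nat_lit 17473) (Tr.lf (Fc.al (nat_lit 17472) (nat_lit 6022) (nat_lit 6628) (Dv.wd (nat_lit 114) [Mv.b (nat_lit 17313), Mv.f (nat_lit 17470), Mv.f (nat_lit 16798), Mv.b (nat_lit 15200)])))
(Tr.lf (Fc.ed (nat_lit 17473) (nat_lit 6022) Col.d (nat_lit 4336) (Dv.wd (nat_lit 120) [Mv.f (nat_lit 17454), Mv.b (nat_lit 17472)]))))))))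
(Tr.nd (nat_lit 17484) (Tr.nd (nat_lit 17479) (Tr.nd (nat_lit 17476) (Tr.nd (nat_lit 17475) (Tr.lf (Fc.ed (nat_lit 17474) (nat_lit 6022) Col.f (nat_lit 5896) (Dv.wd (nat_lit 30) [Mv.b (nat_lit 17314), Mv.b (nat_lit 17472)])))
(Tr.lf (Fc.ed (nat_lit 17475) (nat_lit 2283) Col.b (nat_lit 6022) (Dv.wd (nat_lit 126) [Mv.f (nat_lit 17473), Mv.b (nat_lit 11127), Mv.b (nat_lit 6354)]))))
(Tr.nd (nat_lit 17477) (Tr.lf (Fc.ed (nat_lit 17476) (nat_lit 5896) Col.b (nat_lit 1698) (Dv.wd (nat_lit 107) [Mv.f (nat_lit 6253), Mv.f (nat_lit 17475), Mv.f (nat_lit 17474)])))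
(Tr.nd (nat_lit 17478) (Tr.lf (Fc.ed (nat_lit 17477) (nat_lit 2991) Col.e (nat_lit 5896) (Dv.wd (nat_lit 82) [Mv.f (nat_lit 17476), Mv.f (nat_lit 5825), Mv.b (nat_lit 7809)])))
(Tr.lf (Fc.ed (nat_lit 17478) (nat_lit 6633) Col.g (nat_lit 6695) Dv.df)))))
(Tr.nd (nat_lit 17481) (Tr.nd (nat_lit 17480) (Tr.lf (Fc.ed (nat_lit 17479) (nat_lit 6695) Col.e (nat_lit 6488) (Dv.wd (nat_lit 47) [Mv.f (nat_lit 16799), Mv.b (nat_lit 16793), Mv.b (nat_lit 16247), Mv.b (nat_lit 10185), Mv.b (nat_lit 16272), Mv.b (nat_lit 8888), Mv.b (nat_lit 16279), Mv.b (nat_lit 9812), Mv.f (nat_lit 17323), Mv.f (nat_lit 17478)])))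
(Tr.lf (Fc.ed (nat_lit 17480) (nat_lit 2991) Col.a (nat_lit 6695) (Dv.wd (nat_lit 31) [Mv.f (nat_lit 17479), Mv.f (nat_lit 17471), Mv.b (nat_lit 17477)]))))
(Tr.nd (nat_lit 17482) (Tr.lf (Fc.ed (nat_lit 17481) (nat_lit 6695) Col.f (nat_lit 6563) (Dv.wd (nat_lit 35) [Mv.b (nat_lit 17120), Mv.b (nat_lit 7854), Mv.f (nat_lit 17480)])))
(Tr.nd (nat_lit 17483) (Tr.lf (Fc.ed (nat_lit 17482) (nat_lit 6633) Col.gi (nat_lit 3012) (Dv.wd (nat_lit 24) [Mv.b (nat_lit 7854), Mv.f (nat_lit 17480), Mv.b (nat_lit 17478)])))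
(Tr.lf (Fc.ed (nat_lit 17483) (nat_lit 5798) Col.e (nat_lit 6696) Dv.df))))))
(Tr.nd (nat_lit 17489) (Tr.nd (nat_lit 17486) (Tr.nd (nat_lit 17485) (Tr.lf (Fc.ed (nat_lit 17484) (nat_lit 4575) Col.d (nat_lit 6697) Dv.df))
(Tr.lf (Fc.ed (nat_lit 17485) (nat_lit 6697) Col.f (nat_lit 4634) (Dv.wd (nat_lit 11) [Mv.b (nat_lit 16351), Mv.b (nat_lit 16553), Mv.f (nat_lit 17484)]))))
(Tr.nd (nat_lit 17487) (Tr.lf (Fc.ed (nat_lit 17486) (nat_lit 6670) Col.gi (nat_lit 6697) (Dv.wd (nat_lit 24) [Mv.f (nat_lit 17485), Mv.b (nat_lit 11748), Mv.f (nat_lit 17392)])))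
(Tr.nd (nat_lit 17488) (Tr.lf (Fc.ed (nat_lit 17487) (nat_lit 6655) Col.d (nat_lit 6698) Dv.df))
(Tr.lf (Fc.ed (nat_lit 17488) (nat_lit 6698) Col.e (nat_lit 5396) (Dv.wd (nat_lit 74) [Mv.b (nat_lit 13852), Mv.f (nat_lit 7329), Mv.b (nat_lit 6046), Mv.b (nat_lit 7099), Mv.f (nat_lit 7098), Mv.f (nat_lit 4827), Mv.b (nat_lit 6016), Mv.f (nat_lit 11803), Mv.b (nat_lit 17368), Mv.f (nat_lit 17487)]))))))
(Tr.nd (nat_lit 17492) (Tr.nd (nat_lit 17490) (Tr.lf (Fc.ed (nat_lit 17489) (nat_lit 2938) Col.d (nat_lit 6699) Dv.df))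
(Tr.nd (nat_lit 17491) (Tr.lf (Fc.ed (nat_lit 17490) (nat_lit 6699) Col.f (nat_lit 6534) (Dv.wd (nat_lit 11) [Mv.b (nat_lit 17057), Mv.b (nat_lit 7700), Mv.f (nat_lit 17489)])))
(Tr.lf (Fc.ed (nat_lit 17491) (nat_lit 6568) Col.a (nat_lit 6699) (Dv.wd (nat_lit 114) [Mv.f (nat_lit 17490), Mv.f (nat_lit 17091), Mv.f (nat_lit 17127)])))))
(Tr.nd (nat_lit 17493) (Tr.lf (Fc.ed (nat_lit 17492) (nat_lit 4930) Col.c (nat_lit 6606) (Dv.wd (nat_lit 179) [Mv.b (nat_lit 17210), Mv.b (nat_lit 17134), Mv.f (nat_lit 17491), Mv.f (nat_lit 17490), Mv.b (nat_lit 17057), Mv.b (nat_lit 5180), Mv.b (nat_lit 4509), Mv.b (nat_lit 6386), Mv.f (nat_lit 12817)])))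
(Tr.nd (nat_lit 17494) (Tr.lf (Fc.ed (nat_lit 17493) (nat_lit 6644) Col.c (nat_lit 6348) (Dv.wd (nat_lit 81) [Mv.b (nat_lit 16912), Mv.b (nat_lit 12888), Mv.b (nat_lit 11856), Mv.b (nat_lit 16911), Mv.f (nat_lit 8758), Mv.b (nat_lit 6386), Mv.f (nat_lit 12817), Mv.f (nat_lit 17492), Mv.f (nat_lit 17347)])))
(Tr.lf (Fc.ed (nat_lit 17494) (nat_lit 2991) Col.g (nat_lit 6700) Dv.df)))))))))
(Tr.nd (nat_lit 17536) (Tr.nd (nat_lit 17515) (Tr.nd (nat_lit 17505) (Tr.nd (nat_lit 17500) (Tr.nd (nat_lit 17497) (Tr.nd (nat_lit 17496) (Tr.lf (Fc.ed (nat_lit 17495) (nat_lit 6700) Col.e (nat_lit 5612) (Dv.wd (nat_lit 47) [Mv.b (nat_lit 14303), Mv.b (nat_lit 8873), Mv.f (nat_lit 8652), Mv.f (nat_lit 8487), Mv.f (nat_lit 9585), Mv.f (nat_lit 10832), Mv.b (nat_lit 17457), Mv.f (nat_lit 17458), Mv.b (nat_lit 17477), Mv.f (nat_lit 17494)])))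
(Tr.lf (Fc.ed (nat_lit 17496) (nat_lit 6700) Col.d (nat_lit 6633) (Dv.wd (nat_lit 60) [Mv.b (nat_lit 17323), Mv.f (nat_lit 8558), Mv.b (nat_lit 7022), Mv.f (nat_lit 16228), Mv.b (nat_lit 13795), Mv.f (nat_lit 16657), Mv.f (nat_lit 17461), Mv.f (nat_lit 7890), Mv.f (nat_lit 7808), Mv.f (nat_lit 17494)]))))
(Tr.nd (nat_lit 17498) (Tr.lf (Fc.ed (nat_lit 17497) (nat_lit 2562) Col.gi (nat_lit 4559) (Dv.wd (nat_lit 132) [Mv.f (nat_lit 16234), Mv.b (nat_lit 13795), Mv.b (nat_lit 16263), Mv.f (nat_lit 16173), Mv.b (nat_lit 16302), Mv.b (nat_lit 17495), Mv.f (nat_lit 17496), Mv.f (nat_lit 17482), Mv.f (nat_lit 7855), Mv.b (nat_lit 6880)])))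
(Tr.nd (nat_lit 17499) (Tr.lf (Fc.ed (nat_lit 17498) (nat_lit 4559) Col.gi (nat_lit 6631) (Dv.wd (nat_lit 24) [Mv.f (nat_lit 17449), Mv.f (nat_lit 17448), Mv.f (nat_lit 17497)])))
(Tr.lf (Fc.ed (nat_lit 17499) (nat_lit 6321) Col.gi (nat_lit 4582) (Dv.wd (nat_lit 132) [Mv.b (nat_lit 11652), Mv.b (nat_lit 11359), Mv.f (nat_lit 17497), Mv.b (nat_lit 16246), Mv.f (nat_lit 16245), Mv.f (nat_lit 8190), Mv.f (nat_lit 8491), Mv.b (nat_lit 8600), Mv.b (nat_lit 16291), Mv.f (nat_lit 16292)]))))))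
(Tr.nd (nat_lit 17502) (Tr.nd (nat_lit 17501) (Tr.lf (Fc.ed (nat_lit 17500) (nat_lit 6633) Col.f (nat_lit 6700) (Dv.wd (nat_lit 61) [Mv.f (nat_lit 17495), Mv.b (nat_lit 16796), Mv.f (nat_lit 16795), Mv.b (nat_lit 13292), Mv.f (nat_lit 17323)])))
(Tr.lf (Fc.ed (nat_lit 17501) (nat_lit 6198) Col.g (nat_lit 6701) Dv.df)))
(Tr.nd (nat_lit 17503) (Tr.lf (Fc.ed (nat_lit 17502) (nat_lit 6701) Col.c (nat_lit 3621) (Dv.wd (nat_lit 124) [Mv.b (nat_lit 9087), Mv.f (nat_lit 6629), Mv.f (nat_lit 4982), Mv.f (nat_lit 5828), Mv.f (nat_lit 5161), Mv.f (nat_lit 7197), Mv.b (nat_lit 16048), Mv.f (nat_lit 15210), Mv.f (nat_lit 15517), Mv.f (nat_lit 17501)])))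
(Tr.nd (nat_lit 17504) (Tr.lf (Fc.ed (nat_lit 17503) (nat_lit 6306) Col.f (nat_lit 6701) (Dv.wd (nat_lit 64) [Mv.f (nat_lit 17502), Mv.f (nat_lit 9089), Mv.f (nat_lit 16280)])))
(Tr.lf (Fc.ed (nat_lit 17504) (nat_lit 6697) Col.e (nat_lit 6702) Dv.df))))))
(Tr.nd (nat_lit 17510) (Tr.nd (nat_lit 17507) (Tr.nd (nat_lit 17506) (Tr.lf (Fc.ed (nat_lit 17505) (nat_lit 6702) Col.f (nat_lit 6067) (Dv.wd (nat_lit 96) [Mv.b (nat_lit 15276), Mv.f (nat_lit 7420), Mv.b (nat_lit 11749), Mv.b (nat_lit 17485), Mv.f (nat_lit 17504)])))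
(Tr.lf (Fc.ed (nat_lit 17506) (nat_lit 5275) Col.b (nat_lit 6703) Dv.df)))
(Tr.nd (nat_lit 17508) (Tr.lf (Fc.ed (nat_lit 17507) (nat_lit 6703) Col.c (nat_lit 6683) (Dv.wd (nat_lit 135) [Mv.b (nat_lit 17424), Mv.f (nat_lit 11565), Mv.f (nat_lit 9687), Mv.f (nat_lit 9476), Mv.f (nat_lit 16836), Mv.f (nat_lit 8109), Mv.b (nat_lit 5689), Mv.b (nat_lit 8373), Mv.f (nat_lit 13579), Mv.f (nat_lit 17506)])))
(Tr.nd (nat_lit 17509) (Tr.lf (Fc.ed (nat_lit 17508) (nat_lit 3012) Col.gi (nat_lit 6704) Dv.df))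
(Tr.lf (Fc.ed (nat_lit 17509) (nat_lit 6704) Col.gi (nat_lit 6695) (Dv.wd (nat_lit 24) [Mv.f (nat_lit 17481), Mv.b (nat_lit 17120), Mv.f (nat_lit 17508)]))))))
(Tr.nd (nat_lit 17512) (Tr.nd (nat_lit 17511) (Tr.lf (Fc.ed (nat_lit 17510) (nat_lit 6704) Col.e (nat_lit 5705) (Dv.wd (nat_lit 133) [Mv.f (nat_lit 16283), Mv.f (nat_lit 9695), Mv.b (nat_lit 7022), Mv.f (nat_lit 9080), Mv.b (nat_lit 16297), Mv.f (nat_lit 16296), Mv.f (nat_lit 17499), Mv.f (nat_lit 11653), Mv.b (nat_lit 8793), Mv.f (nat_lit 17508)])))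
(Tr.lf (Fc.ed (nat_lit 17511) (nat_lit 6700) Col.a (nat_lit 6704) (Dv.wd (nat_lit 23) [Mv.f (nat_lit 17509), Mv.b (nat_lit 17478), Mv.f (nat_lit 17500)]))))
(Tr.nd (nat_lit 17513) (Tr.lf (Fc.al (nat_lit 17512) (nat_lit 6176) (nat_lit 5612) (Dv.wd (nat_lit 72) [Mv.b (nat_lit 17495), Mv.f (nat_lit 17511), Mv.f (nat_lit 17510), Mv.f (nat_lit 16282)])))
(Tr.nd (nat_lit 17514) (Tr.lf (Fc.ed (nat_lit 17513) (nat_lit 5612) Col.a (nat_lit 5705) (Dv.wd (nat_lit 29) [Mv.f (nat_lit 16282), Mv.f (nat_lit 17512)])))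
(Tr.lf (Fc.al (nat_lit 17514) (nat_lit 3508) (nat_lit 5140) (Dv.wd (nat_lit 120) [Mv.f (nat_lit 15477), Mv.f (nat_lit 17512), Mv.b (nat_lit 14303)]))))))))
(Tr.nd (nat_lit 17525) (Tr.nd (nat_lit 17520) (Tr.nd (nat_lit 17517) (Tr.nd (nat_lit 17516) (Tr.lf (Fc.al (nat_lit 17515) (nat_lit 6487) (nat_lit 4004) (Dv.wd (nat_lit 30) [Mv.b (nat_lit 15479), Mv.f (nat_lit 17512), Mv.b (nat_lit 16796)])))
(Tr.lf (Fc.ed (nat_lit 17516) (nat_lit 3508) Col.b (nat_lit 6266) (Dv.wd (nat_lit 119) [Mv.b (nat_lit 15654), Mv.b (nat_lit 17514)]))))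
(Tr.nd (nat_lit 17518) (Tr.lf (Fc.ed (nat_lit 17517) (nat_lit 4004) Col.a (nat_lit 4797) (Dv.wd (nat_lit 29) [Mv.f (nat_lit 16794), Mv.f (nat_lit 17515)])))
(Tr.nd (nat_lit 17519) (Tr.lf (Fc.ed (nat_lit 17518) (nat_lit 4004) Col.f (nat_lit 5612) (Dv.wd (nat_lit 30) [Mv.b (nat_lit 16796), Mv.f (nat_lit 17515)])))
(Tr.lf (Fc.ed (nat_lit 17519) (nat_lit 5705) Col.f (nat_lit 4797) (Dv.wd (nat_lit 35) [Mv.b (nat_lit 17517), Mv.f (nat_lit 17518), Mv.f (nat_lit 17513)]))))))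
(Tr.nd (nat_lit 17522) (Tr.nd (nat_lit 17521) (Tr.lf (Fc.al (nat_lit 17520) (nat_lit 4760) (nat_lit 5082) (Dv.wd (nat_lit 11) [Mv.f (nat_lit 13174), Mv.b (nat_lit 16283), Mv.f (nat_lit 17519), Mv.f (nat_lit 12555)])))
(Tr.lf (Fc.ed (nat_lit 17521) (nat_lit 4760) Col.a (nat_lit 3349) (Dv.wd (nat_lit 29) [Mv.f (nat_lit 13173), Mv.b (nat_lit 17520)]))))
(Tr.nd (nat_lit 17523) (Tr.lf (Fc.ed (nat_lit 17522) (nat_lit 4760) Col.f (nat_lit 3932) (Dv.wd (nat_lit 30) [Mv.b (nat_lit 13174), Mv.b (nat_lit 17520)])))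
(Tr.nd (nat_lit 17524) (Tr.lf (Fc.ed (nat_lit 17523) (nat_lit 6266) Col.e (nat_lit 5298) (Dv.wd (nat_lit 52) [Mv.f (nat_lit 13623), Mv.f (nat_lit 10186), Mv.f (nat_lit 17516)])))
(Tr.lf (Fc.al (nat_lit 17524) (nat_lit 6163) (nat_lit 3619) (Dv.wd (nat_lit 123) [Mv.b (nat_lit 9084), Mv.f (nat_lit 5955), Mv.b (nat_lit 4899), Mv.b (nat_lit 4898), Mv.f (nat_lit 4423), Mv.f (nat_lit 3682), Mv.b (nat_lit 3684), Mv.b (nat_lit 4719), Mv.b (nat_lit 8874), Mv.f (nat_lit 17516), Mv.b (nat_lit 15652)])))))))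
(Tr.nd (nat_lit 17530) (Tr.nd (nat_lit 17527) (Tr.nd (nat_lit 17526) (Tr.lf (Fc.ed (nat_lit 17525) (nat_lit 3619) Col.f (nat_lit 3474) (Dv.wd (nat_lit 30) [Mv.b (nat_lit 15454), Mv.f (nat_lit 17524)])))
(Tr.lf (Fc.ed (nat_lit 17526) (nat_lit 5286) Col.gi (nat_lit 2147) (Dv.wd (nat_lit 12) [Mv.f (nat_lit 9084), Mv.f (nat_lit 17525), Mv.b (nat_lit 13602)]))))
(Tr.nd (nat_lit 17528) (Tr.lf (Fc.ed (nat_lit 17527) (nat_lit 1982) Col.gi (nat_lit 5286) (Dv.wd (nat_lit 12) [Mv.f (nat_lit 17526), Mv.b (nat_lit 5954), Mv.b (nat_lit 5546)])))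
(Tr.nd (nat_lit 17529) (Tr.lf (Fc.ed (nat_lit 17528) (nat_lit 6643) Col.d (nat_lit 6705) Dv.df))
(Tr.lf (Fc.ed (nat_lit 17529) (nat_lit 6705) Col.f (nat_lit 3802) (Dv.wd (nat_lit 11) [Mv.f (nat_lit 11445), Mv.f (nat_lit 17346), Mv.f (nat_lit 17528)]))))))
(Tr.nd (nat_lit 17533) (Tr.nd (nat_lit 17531) (Tr.lf (Fc.ed (nat_lit 17530) (nat_lit 5546) Col.c (nat_lit 6706) Dv.df))
(Tr.nd (nat_lit 17532) (Tr.lf (Fc.ed (nat_lit 17531) (nat_lit 2081) Col.c (nat_lit 6707) Dv.df))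
(Tr.lf (Fc.ed (nat_lit 17532) (nat_lit 5236) Col.d (nat_lit 6708) Dv.df))))
(Tr.nd (nat_lit 17534) (Tr.lf (Fc.ed (nat_lit 17533) (nat_lit 4910) Col.c (nat_lit 6709) Dv.df))
(Tr.nd (nat_lit 17535) (Tr.lf (Fc.ed (nat_lit 17534) (nat_lit 6709) Col.a (nat_lit 6285) (Dv.wd (nat_lit 19) [Mv.b (nat_lit 17015), Mv.b (nat_lit 15598), Mv.f (nat_lit 17533)])))
(Tr.lf (Fc.ed (nat_lit 17535) (nat_lit 6709) Col.g (nat_lit 6566) (Dv.wd (nat_lit 145) [Mv.f (nat_lit 17407), Mv.f (nat_lit 17408), Mv.f (nat_lit 17097), Mv.b (nat_lit 17095), Mv.f (nat_lit 17114), Mv.b (nat_lit 17109), Mv.f (nat_lit 11916), Mv.f (nat_lit 12774), Mv.f (nat_lit 17533)])))))))))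
(Tr.nd (nat_lit 17556) (Tr.nd (nat_lit 17546) (Tr.nd (nat_lit 17541) (Tr.nd (nat_lit 17538) (Tr.nd (nat_lit 17537) (Tr.lf (Fc.ed (nat_lit 17536) (nat_lit 6620) Col.c (nat_lit 6710) Dv.df))
(Tr.lf (Fc.ed (nat_lit 17537) (nat_lit 6441) Col.c (nat_lit 6711) Dv.df)))
(Tr.nd (nat_lit 17539) (Tr.lf (Fc.ed (nat_lit 17538) (nat_lit 6634) Col.d (nat_lit 6712) Dv.df))
(Tr.nd (nat_lit 17540) (Tr.lf (Fc.ed (nat_lit 17539) (nat_lit 6712) Col.gi (nat_lit 6613) (Dv.wd (nat_lit 151) [Mv.b (nat_lit 17386), Mv.b (nat_lit 17385), Mv.b (nat_lit 9943), Mv.f (nat_lit 10132), Mv.f (nat_lit 4432), Mv.b (nat_lit 2961), Mv.b (nat_lit 4182), Mv.f (nat_lit 4244), Mv.b (nat_lit 17325), Mv.f (nat_lit 17538)])))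
(Tr.lf (Fc.ed (nat_lit 17540) (nat_lit 5601) Col.gi (nat_lit 6713) Dv.df)))))
(Tr.nd (nat_lit 17543) (Tr.nd (nat_lit 17542) (Tr.lf (Fc.ed (nat_lit 17541) (nat_lit 6713) Col.d (nat_lit 6649) (Dv.wd (nat_lit 89) [Mv.b (nat_lit 17355), Mv.f (nat_lit 13906), Mv.f (nat_lit 13907), Mv.b (nat_lit 8674), Mv.b (nat_lit 10556), Mv.b (nat_lit 11759), Mv.b (nat_lit 13876), Mv.f (nat_lit 14279), Mv.f (nat_lit 17540)])))
(Tr.lf (Fc.ed (nat_lit 17542) (nat_lit 5520) Col.c (nat_lit 6714) Dv.df)))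
(Tr.nd (nat_lit 17544) (Tr.lf (Fc.ed (nat_lit 17543) (nat_lit 6714) Col.e (nat_lit 6492) (Dv.wd (nat_lit 25) [Mv.b (nat_lit 16805), Mv.f (nat_lit 14479), Mv.f (nat_lit 17542)])))
(Tr.nd (nat_lit 17545) (Tr.lf (Fc.ed (nat_lit 17544) (nat_lit 5209) Col.c (nat_lit 6715) Dv.df))
(Tr.lf (Fc.ed (nat_lit 17545) (nat_lit 6715) Col.a (nat_lit 5485) (Dv.wd (nat_lit 19) [Mv.f (nat_lit 14066), Mv.b (nat_lit 16112), Mv.f (nat_lit 17544)])))))))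
(Tr.nd (nat_lit 17551) (Tr.nd (nat_lit 17548) (Tr.nd (nat_lit 17547) (Tr.lf (Fc.ed (nat_lit 17546) (nat_lit 4404) Col.e (nat_lit 6716) Dv.df))
(Tr.lf (Fc.ed (nat_lit 17547) (nat_lit 6716) Col.c (nat_lit 5207) (Dv.wd (nat_lit 18) [Mv.f (nat_lit 13443), Mv.f (nat_lit 11611), Mv.f (nat_lit 17546)]))))
(Tr.nd (nat_lit 17549) (Tr.lf (Fc.ed (nat_lit 17548) (nat_lit 6111) Col.g (nat_lit 6717) Dv.df))
(Tr.nd (nat_lit 17550) (Tr.lf (Fc.ed (nat_lit 17549) (nat_lit 5525) Col.gi (nat_lit 6718) Dv.df))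
(Tr.lf (Fc.ed (nat_lit 17550) (nat_lit 6718) Col.c (nat_lit 6545) (Dv.wd (nat_lit 143) [Mv.b (nat_lit 17075), Mv.f (nat_lit 11433), Mv.f (nat_lit 6412), Mv.b (nat_lit 5273), Mv.b (nat_lit 6402), Mv.f (nat_lit 6400), Mv.b (nat_lit 6251), Mv.f (nat_lit 7150), Mv.f (nat_lit 14136), Mv.f (nat_lit 17549)]))))))
(Tr.nd (nat_lit 17553) (Tr.nd (nat_lit 17552) (Tr.lf (Fc.ed (nat_lit 17551) (nat_lit 6600) Col.f (nat_lit 6718) (Dv.wd (nat_lit 64) [Mv.f (nat_lit 17550), Mv.f (nat_lit 17076), Mv.f (nat_lit 17307)])))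
(Tr.lf (Fc.ed (nat_lit 17552) (nat_lit 6705) Col.g (nat_lit 6719) Dv.df)))
(Tr.nd (nat_lit 17554) (Tr.lf (Fc.ed (nat_lit 17553) (nat_lit 6719) Col.g (nat_lit 4282) (Dv.wd (nat_lit 9) [Mv.f (nat_lit 11016), Mv.b (nat_lit 17529), Mv.f (nat_lit 17552)])))
(Tr.nd (nat_lit 17555) (Tr.lf (Fc.ed (nat_lit 17554) (nat_lit 5831) Col.d (nat_lit 6720) Dv.df))
(Tr.lf (Fc.ed (nat_lit 17555) (nat_lit 6720) Col.b (nat_lit 2063) (Dv.wd (nat_lit 37) [Mv.f (nat_lit 5708), Mv.f (nat_lit 14781), Mv.f (nat_lit 17554)]))))))))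
(Tr.nd (nat_lit 17566) (Tr.nd (nat_lit 17561) (Tr.nd (nat_lit 17558) (Tr.nd (nat_lit 17557) (Tr.lf (Fc.ed (nat_lit 17556) (nat_lit 6720) Col.f (nat_lit 6330) (Dv.wd (nat_lit 11) [Mv.b (nat_lit 15837), Mv.b (nat_lit 15495), Mv.f (nat_lit 17554)])))
(Tr.lf (Fc.ed (nat_lit 17557) (nat_lit 6330) Col.b (nat_lit 2000) (Dv.wd (nat_lit 66) [Mv.f (nat_lit 6037), Mv.b (nat_lit 17555), Mv.f (nat_lit 17556)]))))
(Tr.nd (nat_lit 17559) (Tr.lf (Fc.ed (nat_lit 17558) (nat_lit 6177) Col.gi (nat_lit 6721) Dv.df))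
(Tr.nd (nat_lit 17560) (Tr.lf (Fc.ed (nat_lit 17559) (nat_lit 6721) Col.gi (nat_lit 6430) (Dv.wd (nat_lit 24) [Mv.f (nat_lit 16688), Mv.f (nat_lit 15575), Mv.f (nat_lit 17558)])))
(Tr.lf (Fc.ed (nat_lit 17560) (nat_lit 6602) Col.c (nat_lit 6722) Dv.df)))))
(Tr.nd (nat_lit 17563) (Tr.nd (nat_lit 17562) (Tr.lf (Fc.ed (nat_lit 17561) (nat_lit 6707) Col.a (nat_lit 6723) Dv.df))
(Tr.lf (Fc.ed (nat_lit 17562) (nat_lit 6723) Col.c (nat_lit 3722) (Dv.wd (nat_lit 33) [Mv.b (nat_lit 9287), Mv.f (nat_lit 17531), Mv.f (nat_lit 17561)]))))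
(Tr.nd (nat_lit 17564) (Tr.lf (Fc.ed (nat_lit 17563) (nat_lit 6029) Col.d (nat_lit 6724) Dv.df))
(Tr.nd (nat_lit 17565) (Tr.lf (Fc.ed (nat_lit 17564) (nat_lit 6688) Col.d (nat_lit 6725) Dv.df))
(Tr.lf (Fc.ed (nat_lit 17565) (nat_lit 6725) Col.gi (nat_lit 6095) (Dv.wd (nat_lit 71) [Mv.b (nat_lit 16418), Mv.f (nat_lit 16419), Mv.b (nat_lit 7082), Mv.b (nat_lit 5012), Mv.b (nat_lit 5011), Mv.b (nat_lit 8397), Mv.f (nat_lit 12050), Mv.b (nat_lit 15239), Mv.f (nat_lit 17430), Mv.f (nat_lit 17564)])))))))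
(Tr.nd (nat_lit 17571) (Tr.nd (nat_lit 17568) (Tr.nd (nat_lit 17567) (Tr.lf (Fc.ed (nat_lit 17566) (nat_lit 6625) Col.gi (nat_lit 6725) (Dv.wd (nat_lit 12) [Mv.f (nat_lit 17565), Mv.b (nat_lit 17317), Mv.f (nat_lit 17316)])))
(Tr.lf (Fc.ed (nat_lit 17567) (nat_lit 5105) Col.d (nat_lit 6726) Dv.df)))
(Tr.nd (nat_lit 17569) (Tr.lf (Fc.ed (nat_lit 17568) (nat_lit 6726) Col.f (nat_lit 5144) (Dv.wd (nat_lit 11) [Mv.f (nat_lit 13301), Mv.b (nat_lit 13217), Mv.f (nat_lit 17567)])))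
(Tr.nd (nat_lit 17570) (Tr.lf (Fc.ed (nat_lit 17569) (nat_lit 4798) Col.g (nat_lit 6727) Dv.df))
(Tr.lf (Fc.ed (nat_lit 17570) (nat_lit 6727) Col.g (nat_lit 5496) (Dv.wd (nat_lit 9) [Mv.f (nat_lit 14086), Mv.f (nat_lit 12556), Mv.f (nat_lit 17569)]))))))
(Tr.nd (nat_lit 17574) (Tr.nd (nat_lit 17572) (Tr.lf (Fc.ed (nat_lit 17571) (nat_lit 5936) Col.e (nat_lit 6728) Dv.df))
(Tr.nd (nat_lit 17573) (Tr.lf (Fc.ed (nat_lit 17572) (nat_lit 6728) Col.b (nat_lit 5567) (Dv.wd (nat_lit 49) [Mv.f (nat_lit 14216), Mv.b (nat_lit 15014), Mv.f (nat_lit 17571)])))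
(Tr.lf (Fc.ed (nat_lit 17573) (nat_lit 6218) Col.gi (nat_lit 6729) Dv.df))))
(Tr.nd (nat_lit 17575) (Tr.lf (Fc.ed (nat_lit 17574) (nat_lit 6729) Col.gi (nat_lit 4879) (Dv.wd (nat_lit 24) [Mv.f (nat_lit 16118), Mv.b (nat_lit 15566), Mv.f (nat_lit 17573)])))
(Tr.nd (nat_lit 17576) (Tr.lf (Fc.ed (nat_lit 17575) (nat_lit 6547) Col.c (nat_lit 6730) Dv.df))
(Tr.lf (Fc.ed (nat_lit 17576) (nat_lit 6730) Col.a (nat_lit 6173) (Dv.wd (nat_lit 19) [Mv.f (nat_lit 15474), Mv.b (nat_lit 17080), Mv.f (nat_lit 17575)])))))))))))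
(Tr.nd (nat_lit 17659) (Tr.nd (nat_lit 17618) (Tr.nd (nat_lit 17597) (Tr.nd (nat_lit 17587) (Tr.nd (nat_lit 17582) (Tr.nd (nat_lit 17579) (Tr.nd (nat_lit 17578) (Tr.lf (Fc.ed (nat_lit 17577) (nat_lit 2075) Col.d (nat_lit 6731) Dv.df))
(Tr.lf (Fc.ed (nat_lit 17578) (nat_lit 6643) Col.g (nat_lit 6732) Dv.df)))
(Tr.nd (nat_lit 17580) (Tr.lf (Fc.ed (nat_lit 17579) (nat_lit 6732) Col.g (nat_lit 4301) (Dv.wd (nat_lit 9) [Mv.b (nat_lit 11446), Mv.f (nat_lit 17346), Mv.f (nat_lit 17578)])))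
(Tr.nd (nat_lit 17581) (Tr.lf (Fc.ed (nat_lit 17580) (nat_lit 6213) Col.b (nat_lit 6733) Dv.df))
(Tr.lf (Fc.ed (nat_lit 17581) (nat_lit 6733) Col.a (nat_lit 6516) (Dv.wd (nat_lit 98) [Mv.b (nat_lit 17022), Mv.f (nat_lit 9129), Mv.b (nat_lit 14095), Mv.b (nat_lit 15542), Mv.f (nat_lit 17580)]))))))
(Tr.nd (nat_lit 17584) (Tr.nd (nat_lit 17583) (Tr.lf (Fc.ed (nat_lit 17582) (nat_lit 5831) Col.g (nat_lit 6734) Dv.df))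
(Tr.lf (Fc.ed (nat_lit 17583) (nat_lit 6734) Col.d (nat_lit 5488) (Dv.wd (nat_lit 51) [Mv.b (nat_lit 14070), Mv.f (nat_lit 13809), Mv.b (nat_lit 13610), Mv.f (nat_lit 13611), Mv.b (nat_lit 13883), Mv.f (nat_lit 17019), Mv.f (nat_lit 17020), Mv.b (nat_lit 14782), Mv.f (nat_lit 17582)]))))
(Tr.nd (nat_lit 17585) (Tr.lf (Fc.ed (nat_lit 17584) (nat_lit 6606) Col.f (nat_lit 6735) Dv.df))
(Tr.nd (nat_lit 17586) (Tr.lf (Fc.ed (nat_lit 17585) (nat_lit 6735) Col.c (nat_lit 4568) (Dv.wd (nat_lit 34) [Mv.b (nat_lit 12818), Mv.f (nat_lit 17492), Mv.f (nat_lit 17584)])))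
(Tr.lf (Fc.ed (nat_lit 17586) (nat_lit 5529) Col.g (nat_lit 6736) Dv.df))))))
(Tr.nd (nat_lit 17592) (Tr.nd (nat_lit 17589) (Tr.nd (nat_lit 17588) (Tr.lf (Fc.ed (nat_lit 17587) (nat_lit 6736) Col.g (nat_lit 3708) (Dv.wd (nat_lit 9) [Mv.b (nat_lit 11797), Mv.b (nat_lit 14143), Mv.f (nat_lit 17586)])))
(Tr.lf (Fc.ed (nat_lit 17588) (nat_lit 6650) Col.g (nat_lit 6737) Dv.df)))
(Tr.nd (nat_lit 17590) (Tr.lf (Fc.ed (nat_lit 17589) (nat_lit 6566) Col.a (nat_lit 6738) Dv.df))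
(Tr.nd (nat_lit 17591) (Tr.lf (Fc.ed (nat_lit 17590) (nat_lit 6738) Col.b (nat_lit 4500) (Dv.wd (nat_lit 65) [Mv.b (nat_lit 15636), Mv.f (nat_lit 15637), Mv.f (nat_lit 17092), Mv.b (nat_lit 17125), Mv.f (nat_lit 17589)])))
(Tr.lf (Fc.ed (nat_lit 17591) (nat_lit 6566) Col.c (nat_lit 6738) (Dv.wd (nat_lit 152) [Mv.f (nat_lit 17590), Mv.b (nat_lit 11637), Mv.b (nat_lit 11636), Mv.b (nat_lit 17093), Mv.b (nat_lit 17125)]))))))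
(Tr.nd (nat_lit 17594) (Tr.nd (nat_lit 17593) (Tr.lf (Fc.ed (nat_lit 17592) (nat_lit 5297) Col.a (nat_lit 6739) Dv.df))
(Tr.lf (Fc.ed (nat_lit 17593) (nat_lit 6739) Col.f (nat_lit 6393) (Dv.wd (nat_lit 10) [Mv.b (nat_lit 15972), Mv.f (nat_lit 13621), Mv.f (nat_lit 17592)]))))
(Tr.nd (nat_lit 17595) (Tr.lf (Fc.ed (nat_lit 17594) (nat_lit 4900) Col.c (nat_lit 6740) Dv.df))
(Tr.nd (nat_lit 17596) (Tr.lf (Fc.ed (nat_lit 17595) (nat_lit 6740) Col.f (nat_lit 6679) (Dv.wd (nat_lit 26) [Mv.f (nat_lit 17412), Mv.b (nat_lit 12756), Mv.f (nat_lit 17594)])))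
(Tr.lf (Fc.ed (nat_lit 17596) (nat_lit 5537) Col.c (nat_lit 6741) Dv.df)))))))
(Tr.nd (nat_lit 17607) (Tr.nd (nat_lit 17602) (Tr.nd (nat_lit 17599) (Tr.nd (nat_lit 17598) (Tr.lf (Fc.ed (nat_lit 17597) (nat_lit 6741) Col.f (nat_lit 5081) (Dv.wd (nat_lit 26) [Mv.f (nat_lit 17160), Mv.b (nat_lit 14158), Mv.f (nat_lit 17596)])))
(Tr.lf (Fc.ed (nat_lit 17598) (nat_lit 6480) Col.g (nat_lit 6742) Dv.df)))
(Tr.nd (nat_lit 17600) (Tr.lf (Fc.ed (nat_lit 17599) (nat_lit 6742) Col.d (nat_lit 6716) (Dv.wd (nat_lit 39) [Mv.b (nat_lit 17546), Mv.f (nat_lit 11330), Mv.b (nat_lit 8645), Mv.b (nat_lit 15798), Mv.b (nat_lit 15800), Mv.f (nat_lit 15355), Mv.f (nat_lit 15356), Mv.f (nat_lit 10593), Mv.f (nat_lit 16783), Mv.f (nat_lit 17598)])))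
(Tr.nd (nat_lit 17601) (Tr.lf (Fc.ed (nat_lit 17600) (nat_lit 6731) Col.gi (nat_lit 6742) (Dv.wd (nat_lit 71) [Mv.f (nat_lit 17599), Mv.b (nat_lit 17546), Mv.b (nat_lit 11329), Mv.f (nat_lit 8406), Mv.b (nat_lit 11534), Mv.b (nat_lit 12850), Mv.f (nat_lit 12851), Mv.f (nat_lit 8782), Mv.b (nat_lit 5731), Mv.f (nat_lit 17577)])))
(Tr.lf (Fc.ed (nat_lit 17601) (nat_lit 6524) Col.f (nat_lit 6743) Dv.df)))))
(Tr.nd (nat_lit 17604) (Tr.nd (nat_lit 17603) (Tr.lf (Fc.ed (nat_lit 17602) (nat_lit 6743) Col.a (nat_lit 5641) (Dv.wd (nat_lit 23) [Mv.f (nat_lit 14361), Mv.f (nat_lit 17038), Mv.f (nat_lit 17601)])))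
(Tr.lf (Fc.ed (nat_lit 17603) (nat_lit 4535) Col.f (nat_lit 6744) Dv.df)))
(Tr.nd (nat_lit 17605) (Tr.lf (Fc.ed (nat_lit 17604) (nat_lit 6744) Col.a (nat_lit 6697) (Dv.wd (nat_lit 16) [Mv.f (nat_lit 17485), Mv.b (nat_lit 11748), Mv.f (nat_lit 17603)])))
(Tr.nd (nat_lit 17606) (Tr.lf (Fc.ed (nat_lit 17605) (nat_lit 6744) Col.d (nat_lit 4680) (Dv.wd (nat_lit 21) [Mv.f (nat_lit 16552), Mv.f (nat_lit 16548), Mv.f (nat_lit 17603)])))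
(Tr.lf (Fc.ed (nat_lit 17606) (nat_lit 4164) Col.gi (nat_lit 6745) Dv.df))))))
(Tr.nd (nat_lit 17612) (Tr.nd (nat_lit 17609) (Tr.nd (nat_lit 17608) (Tr.lf (Fc.ed (nat_lit 17607) (nat_lit 6745) Col.gi (nat_lit 6556) (Dv.wd (nat_lit 24) [Mv.f (nat_lit 17094), Mv.f (nat_lit 15158), Mv.f (nat_lit 17606)])))
(Tr.lf (Fc.ed (nat_lit 17608) (nat_lit 5518) Col.d (nat_lit 6746) Dv.df)))
(Tr.nd (nat_lit 17610) (Tr.lf (Fc.ed (nat_lit 17609) (nat_lit 6746) Col.a (nat_lit 5066) (Dv.wd (nat_lit 8) [Mv.f (nat_lit 13142), Mv.b (nat_lit 16600), Mv.f (nat_lit 17608)])))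
(Tr.nd (nat_lit 17611) (Tr.lf (Fc.ed (nat_lit 17610) (nat_lit 6463) Col.c (nat_lit 6746) (Dv.wd (nat_lit 134) [Mv.f (nat_lit 17609), Mv.b (nat_lit 14935), Mv.b (nat_lit 16747)])))
(Tr.lf (Fc.ed (nat_lit 17611) (nat_lit 6481) Col.g (nat_lit 6463) (Dv.wd (nat_lit 77) [Mv.f (nat_lit 17610), Mv.b (nat_lit 17608), Mv.b (nat_lit 14120), Mv.f (nat_lit 7668), Mv.b (nat_lit 5411), Mv.b (nat_lit 17283), Mv.f (nat_lit 10623), Mv.b (nat_lit 15225), Mv.f (nat_lit 16784)]))))))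
(Tr.nd (nat_lit 17615) (Tr.nd (nat_lit 17613) (Tr.lf (Fc.ed (nat_lit 17612) (nat_lit 6744) Col.e (nat_lit 6747) Dv.df))
(Tr.nd (nat_lit 17614) (Tr.lf (Fc.ed (nat_lit 17613) (nat_lit 6747) Col.a (nat_lit 6702) (Dv.wd (nat_lit 15) [Mv.b (nat_lit 17504), Mv.b (nat_lit 17604), Mv.f (nat_lit 17612)])))
(Tr.lf (Fc.ed (nat_lit 17614) (nat_lit 6747) Col.f (nat_lit 6074) (Dv.wd (nat_lit 96) [Mv.f (nat_lit 15292), Mv.f (nat_lit 10429), Mv.f (nat_lit 11562), Mv.f (nat_lit 17603), Mv.f (nat_lit 17612)])))))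
(Tr.nd (nat_lit 17616) (Tr.lf (Fc.ed (nat_lit 17615) (nat_lit 6714) Col.d (nat_lit 6748) Dv.df))
(Tr.nd (nat_lit 17617) (Tr.lf (Fc.ed (nat_lit 17616) (nat_lit 6748) Col.gi (nat_lit 5817) (Dv.wd (nat_lit 111) [Mv.b (nat_lit 14762), Mv.b (nat_lit 15151), Mv.f (nat_lit 16644), Mv.b (nat_lit 10618), Mv.f (nat_lit 6069), Mv.b (nat_lit 8482), Mv.f (nat_lit 14124), Mv.f (nat_lit 17542), Mv.f (nat_lit 17615)])))
(Tr.lf (Fc.ed (nat_lit 17617) (nat_lit 5935) Col.f (nat_lit 6749) Dv.df))))))))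
(Tr.nd (nat_lit 17638) (Tr.nd (nat_lit 17628) (Tr.nd (nat_lit 17623) (Tr.nd (nat_lit 17620) (Tr.nd (nat_lit 17619) (Tr.lf (Fc.ed (nat_lit 17618) (nat_lit 6749) Col.d (nat_lit 6749) (Dv.wd (nat_lit 21) [Mv.b (nat_lit 17617), Mv.f (nat_lit 15012), Mv.f (nat_lit 17617)])))
(Tr.lf (Fc.ed (nat_lit 17619) (nat_lit 6749) Col.a (nat_lit 6544) (Dv.wd (nat_lit 23) [Mv.f (nat_lit 17074), Mv.f (nat_lit 15010), Mv.f (nat_lit 17617)]))))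
(Tr.nd (nat_lit 17621) (Tr.lf (Fc.ed (nat_lit 17620) (nat_lit 4028) Col.b (nat_lit 6750) Dv.df))
(Tr.nd (nat_lit 17622) (Tr.lf (Fc.ed (nat_lit 17621) (nat_lit 6750) Col.d (nat_lit 6580) (Dv.wd (nat_lit 58) [Mv.b (nat_lit 17148), Mv.b (nat_lit 9905), Mv.f (nat_lit 17620)])))
(Tr.lf (Fc.ed (nat_lit 17622) (nat_lit 6750) Col.f (nat_lit 6466) (Dv.wd (nat_lit 20) [Mv.b (nat_lit 16754), Mv.b (nat_lit 10441), Mv.f (nat_lit 17620)]))))))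
(Tr.nd (nat_lit 17625) (Tr.nd (nat_lit 17624) (Tr.lf (Fc.ed (nat_lit 17623) (nat_lit 6750) Col.gi (nat_lit 6693) (Dv.wd (nat_lit 100) [Mv.b (nat_lit 17439), Mv.b (nat_lit 11984), Mv.f (nat_lit 11983), Mv.f (nat_lit 10463), Mv.f (nat_lit 10467), Mv.f (nat_lit 5487), Mv.f (nat_lit 5781), Mv.b (nat_lit 8843), Mv.f (nat_lit 9854), Mv.f (nat_lit 17620)])))
(Tr.lf (Fc.ed (nat_lit 17624) (nat_lit 6710) Col.g (nat_lit 6751) Dv.df)))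
(Tr.nd (nat_lit 17626) (Tr.lf (Fc.ed (nat_lit 17625) (nat_lit 5807) Col.d (nat_lit 6752) Dv.df))
(Tr.nd (nat_lit 17627) (Tr.lf (Fc.ed (nat_lit 17626) (nat_lit 6752) Col.b (nat_lit 6436) (Dv.wd (nat_lit 37) [Mv.b (nat_lit 16696), Mv.f (nat_lit 14744), Mv.f (nat_lit 17625)])))
(Tr.lf (Fc.ed (nat_lit 17627) (nat_lit 5926) Col.g (nat_lit 6753) Dv.df))))))
(Tr.nd (nat_lit 17633) (Tr.nd (nat_lit 17630) (Tr.nd (nat_lit 17629) (Tr.lf (Fc.ed (nat_lit 17628) (nat_lit 6753) Col.g (nat_lit 4755) (Dv.wd (nat_lit 9) [Mv.b (nat_lit 13362), Mv.b (nat_lit 14992), Mv.f (nat_lit 17627)])))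
(Tr.lf (Fc.ed (nat_lit 17629) (nat_lit 5897) Col.gi (nat_lit 6754) Dv.df)))
(Tr.nd (nat_lit 17631) (Tr.lf (Fc.ed (nat_lit 17630) (nat_lit 6214) Col.gi (nat_lit 6755) Dv.df))
(Tr.nd (nat_lit 17632) (Tr.lf (Fc.ed (nat_lit 17631) (nat_lit 6755) Col.gi (nat_lit 4456) (Dv.wd (nat_lit 24) [Mv.b (nat_lit 11424), Mv.b (nat_lit 15546), Mv.f (nat_lit 17630)])))
(Tr.lf (Fc.ed (nat_lit 17632) (nat_lit 6250) Col.g (nat_lit 6756) Dv.df)))))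
(Tr.nd (nat_lit 17635) (Tr.nd (nat_lit 17634) (Tr.lf (Fc.ed (nat_lit 17633) (nat_lit 6756) Col.g (nat_lit 4389) (Dv.wd (nat_lit 9) [Mv.b (nat_lit 17221), Mv.b (nat_lit 17220), Mv.f (nat_lit 17632)])))
(Tr.lf (Fc.ed (nat_lit 17634) (nat_lit 6129) Col.d (nat_lit 6756) (Dv.wd (nat_lit 51) [Mv.f (nat_lit 17633), Mv.b (nat_lit 11299), Mv.b (nat_lit 8351), Mv.f (nat_lit 7850), Mv.f (nat_lit 14003), Mv.f (nat_lit 17404), Mv.f (nat_lit 15828), Mv.b (nat_lit 14211), Mv.b (nat_lit 15395)]))))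
(Tr.nd (nat_lit 17636) (Tr.lf (Fc.ed (nat_lit 17635) (nat_lit 5926) Col.gi (nat_lit 6757) Dv.df))
(Tr.nd (nat_lit 17637) (Tr.lf (Fc.ed (nat_lit 17636) (nat_lit 6757) Col.gi (nat_lit 4755) (Dv.wd (nat_lit 24) [Mv.f (nat_lit 14165), Mv.b (nat_lit 14991), Mv.f (nat_lit 17635)])))
(Tr.lf (Fc.ed (nat_lit 17637) (nat_lit 6467) Col.a (nat_lit 6758) Dv.df)))))))
(Tr.nd (nat_lit 17648) (Tr.nd (nat_lit 17643) (Tr.nd (nat_lit 17640) (Tr.nd (nat_lit 17639) (Tr.lf (Fc.ed (nat_lit 17638) (nat_lit 6758) Col.e (nat_lit 3792) (Dv.wd (nat_lit 56) [Mv.f (nat_lit 11954), Mv.b (nat_lit 16757), Mv.f (nat_lit 17637)])))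
(Tr.lf (Fc.ed (nat_lit 17639) (nat_lit 6660) Col.d (nat_lit 6759) Dv.df)))
(Tr.nd (nat_lit 17641) (Tr.lf (Fc.ed (nat_lit 17640) (nat_lit 6759) Col.f (nat_lit 5223) (Dv.wd (nat_lit 11) [Mv.b (nat_lit 14311), Mv.f (nat_lit 17377), Mv.f (nat_lit 17639)])))
(Tr.nd (nat_lit 17642) (Tr.lf (Fc.ed (nat_lit 17641) (nat_lit 6635) Col.a (nat_lit 6759) (Dv.wd (nat_lit 79) [Mv.f (nat_lit 17640), Mv.f (nat_lit 13474), Mv.f (nat_lit 17326)])))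
(Tr.lf (Fc.ed (nat_lit 17642) (nat_lit 5686) Col.c (nat_lit 6760) Dv.df)))))
(Tr.nd (nat_lit 17645) (Tr.nd (nat_lit 17644) (Tr.lf (Fc.ed (nat_lit 17643) (nat_lit 4629) Col.gi (nat_lit 6761) Dv.df))
(Tr.lf (Fc.ed (nat_lit 17644) (nat_lit 6761) Col.b (nat_lit 6709) (Dv.wd (nat_lit 154) [Mv.b (nat_lit 17533), Mv.f (nat_lit 12775), Mv.f (nat_lit 7972), Mv.f (nat_lit 7971), Mv.f (nat_lit 3905), Mv.b (nat_lit 6010), Mv.b (nat_lit 6009), Mv.b (nat_lit 11064), Mv.f (nat_lit 11738), Mv.f (nat_lit 17643)]))))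
(Tr.nd (nat_lit 17646) (Tr.lf (Fc.ed (nat_lit 17645) (nat_lit 6728) Col.c (nat_lit 6762) Dv.df))
(Tr.nd (nat_lit 17647) (Tr.lf (Fc.ed (nat_lit 17646) (nat_lit 4833) Col.e (nat_lit 6763) Dv.df))
(Tr.lf (Fc.ed (nat_lit 17647) (nat_lit 6763) Col.c (nat_lit 5966) (Dv.wd (nat_lit 18) [Mv.f (nat_lit 16404), Mv.f (nat_lit 12621), Mv.f (nat_lit 17646)])))))))
(Tr.nd (nat_lit 17653) (Tr.nd (nat_lit 17650) (Tr.nd (nat_lit 17649) (Tr.lf (Fc.ed (nat_lit 17648) (nat_lit 5800) Col.g (nat_lit 6763) (Dv.wd (nat_lit 105) [Mv.f (nat_lit 17647), Mv.b (nat_lit 15098), Mv.f (nat_lit 9414), Mv.b (nat_lit 3975), Mv.f (nat_lit 4576), Mv.f (nat_lit 6213), Mv.f (nat_lit 5878), Mv.b (nat_lit 6915), Mv.b (nat_lit 7870), Mv.b (nat_lit 14730)])))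
(Tr.lf (Fc.ed (nat_lit 17649) (nat_lit 5926) Col.b (nat_lit 6764) Dv.df)))
(Tr.nd (nat_lit 17651) (Tr.lf (Fc.ed (nat_lit 17650) (nat_lit 6764) Col.e (nat_lit 6001) (Dv.wd (nat_lit 52) [Mv.b (nat_lit 15160), Mv.f (nat_lit 15126), Mv.f (nat_lit 17649)])))
(Tr.nd (nat_lit 17652) (Tr.lf (Fc.ed (nat_lit 17651) (nat_lit 6764) Col.c (nat_lit 5637) (Dv.wd (nat_lit 93) [Mv.b (nat_lit 14353), Mv.f (nat_lit 5839), Mv.f (nat_lit 6764), Mv.f (nat_lit 14990), Mv.f (nat_lit 17649)])))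
(Tr.lf (Fc.ed (nat_lit 17652) (nat_lit 4566) Col.gi (nat_lit 6765) Dv.df)))))
(Tr.nd (nat_lit 17656) (Tr.nd (nat_lit 17654) (Tr.lf (Fc.ed (nat_lit 17653) (nat_lit 6765) Col.gi (nat_lit 4739) (Dv.wd (nat_lit 24) [Mv.b (nat_lit 13869), Mv.b (nat_lit 13867), Mv.f (nat_lit 17652)])))
(Tr.nd (nat_lit 17655) (Tr.lf (Fc.ed (nat_lit 17654) (nat_lit 6151) Col.gi (nat_lit 6766) Dv.df))
(Tr.lf (Fc.ed (nat_lit 17655) (nat_lit 6766) Col.gi (nat_lit 6109) (Dv.wd (nat_lit 24) [Mv.f (nat_lit 15358), Mv.f (nat_lit 15429), Mv.f (nat_lit 17654)])))))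
(Tr.nd (nat_lit 17657) (Tr.lf (Fc.ed (nat_lit 17656) (nat_lit 6766) Col.c (nat_lit 6576) (Dv.wd (nat_lit 143) [Mv.f (nat_lit 17143), Mv.b (nat_lit 14007), Mv.f (nat_lit 7753), Mv.f (nat_lit 6918), Mv.b (nat_lit 7455), Mv.b (nat_lit 7454), Mv.f (nat_lit 6922), Mv.b (nat_lit 6851), Mv.b (nat_lit 15430), Mv.f (nat_lit 17654)])))
(Tr.nd (nat_lit 17658) (Tr.lf (Fc.ed (nat_lit 17657) (nat_lit 6684) Col.b (nat_lit 6767) Dv.df))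
(Tr.lf (Fc.ed (nat_lit 17658) (nat_lit 6014) Col.b (nat_lit 6768) Dv.df)))))))))
(Tr.nd (nat_lit 17700) (Tr.nd (nat_lit 17679) (Tr.nd (nat_lit 17669) (Tr.nd (nat_lit 17664) (Tr.nd (nat_lit 17661) (Tr.nd (nat_lit 17660) (Tr.lf (Fc.ed (nat_lit 17659) (nat_lit 6768) Col.e (nat_lit 6165) (Dv.wd (nat_lit 52) [Mv.f (nat_lit 15458), Mv.f (nat_lit 15185), Mv.f (nat_lit 17658)])))
(Tr.lf (Fc.ed (nat_lit 17660) (nat_lit 6768) Col.f (nat_lit 5769) (Dv.wd (nat_lit 20) [Mv.b (nat_lit 14641), Mv.b (nat_lit 15187), Mv.f (nat_lit 17658)]))))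
(Tr.nd (nat_lit 17662) (Tr.lf (Fc.ed (nat_lit 17661) (nat_lit 6768) Col.a (nat_lit 6258) (Dv.wd (nat_lit 98) [Mv.f (nat_lit 15639), Mv.f (nat_lit 12804), Mv.b (nat_lit 11926), Mv.b (nat_lit 15186), Mv.f (nat_lit 17658)])))
(Tr.nd (nat_lit 17663) (Tr.lf (Fc.ed (nat_lit 17662) (nat_lit 5426) Col.c (nat_lit 6769) Dv.df))
(Tr.lf (Fc.ed (nat_lit 17663) (nat_lit 6271) Col.d (nat_lit 6770) Dv.df)))))
(Tr.nd (nat_lit 17666) (Tr.nd (nat_lit 17665) (Tr.lf (Fc.ed (nat_lit 17664) (nat_lit 6770) Col.g (nat_lit 6438) (Dv.wd (nat_lit 139) [Mv.f (nat_lit 16704), Mv.b (nat_lit 9449), Mv.f (nat_lit 6734), Mv.b (nat_lit 4890), Mv.f (nat_lit 5813), Mv.f (nat_lit 17527), Mv.b (nat_lit 14629), Mv.b (nat_lit 15663), Mv.f (nat_lit 17663)])))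
(Tr.lf (Fc.ed (nat_lit 17665) (nat_lit 4931) Col.g (nat_lit 6770) (Dv.wd (nat_lit 17) [Mv.f (nat_lit 17664), Mv.b (nat_lit 16703), Mv.b (nat_lit 16241)]))))
(Tr.nd (nat_lit 17667) (Tr.lf (Fc.ed (nat_lit 17666) (nat_lit 5761) Col.g (nat_lit 6771) Dv.df))
(Tr.nd (nat_lit 17668) (Tr.lf (Fc.ed (nat_lit 17667) (nat_lit 6771) Col.g (nat_lit 6266) (Dv.wd (nat_lit 9) [Mv.b (nat_lit 17151), Mv.b (nat_lit 17150), Mv.f (nat_lit 17666)])))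
(Tr.lf (Fc.ed (nat_lit 17668) (nat_lit 4960) Col.c (nat_lit 6772) Dv.df))))))
(Tr.nd (nat_lit 17674) (Tr.nd (nat_lit 17671) (Tr.nd (nat_lit 17670) (Tr.lf (Fc.ed (nat_lit 17669) (nat_lit 4840) Col.gi (nat_lit 6773) Dv.df))
(Tr.lf (Fc.ed (nat_lit 17670) (nat_lit 5363) Col.a (nat_lit 6774) Dv.df)))
(Tr.nd (nat_lit 17672) (Tr.lf (Fc.ed (nat_lit 17671) (nat_lit 6639) Col.f (nat_lit 6775) Dv.df))
(Tr.nd (nat_lit 17673) (Tr.lf (Fc.ed (nat_lit 17672) (nat_lit 6775) Col.c (nat_lit 6699) (Dv.wd (nat_lit 34) [Mv.f (nat_lit 17490), Mv.f (nat_lit 17339), Mv.f (nat_lit 17671)])))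
(Tr.lf (Fc.ed (nat_lit 17673) (nat_lit 4109) Col.b (nat_lit 6776) Dv.df)))))
(Tr.nd (nat_lit 17676) (Tr.nd (nat_lit 17675) (Tr.lf (Fc.ed (nat_lit 17674) (nat_lit 5829) Col.d (nat_lit 6777) Dv.df))
(Tr.lf (Fc.ed (nat_lit 17675) (nat_lit 6777) Col.f (nat_lit 5905) (Dv.wd (nat_lit 11) [Mv.f (nat_lit 14936), Mv.f (nat_lit 14779), Mv.f (nat_lit 17674)]))))
(Tr.nd (nat_lit 17677) (Tr.lf (Fc.ed (nat_lit 17676) (nat_lit 6406) Col.c (nat_lit 6777) (Dv.wd (nat_lit 67) [Mv.f (nat_lit 17675), Mv.f (nat_lit 14935), Mv.b (nat_lit 16634)])))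
(Tr.nd (nat_lit 17678) (Tr.lf (Fc.ed (nat_lit 17677) (nat_lit 6481) Col.gi (nat_lit 6777) (Dv.wd (nat_lit 24) [Mv.f (nat_lit 17675), Mv.b (nat_lit 16747), Mv.b (nat_lit 17611)])))
(Tr.lf (Fc.al (nat_lit 17678) (nat_lit 5829) (nat_lit 5965) (Dv.wd (nat_lit 111) [Mv.b (nat_lit 15097), Mv.f (nat_lit 10935), Mv.f (nat_lit 7667), Mv.f (nat_lit 14120), Mv.b (nat_lit 15011), Mv.f (nat_lit 15012), Mv.b (nat_lit 15010), Mv.b (nat_lit 16633), Mv.f (nat_lit 17676), Mv.b (nat_lit 17674)]))))))))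
(Tr.nd (nat_lit 17689) (Tr.nd (nat_lit 17684) (Tr.nd (nat_lit 17681) (Tr.nd (nat_lit 17680) (Tr.lf (Fc.ed (nat_lit 17679) (nat_lit 5829) Col.gi (nat_lit 4251) (Dv.wd (nat_lit 128) [Mv.f (nat_lit 15097), Mv.b (nat_lit 17678)])))
(Tr.lf (Fc.ed (nat_lit 17680) (nat_lit 5487) Col.b (nat_lit 6778) Dv.df)))
(Tr.nd (nat_lit 17682) (Tr.lf (Fc.ed (nat_lit 17681) (nat_lit 6778) Col.e (nat_lit 6609) (Dv.wd (nat_lit 52) [Mv.b (nat_lit 17214), Mv.f (nat_lit 14069), Mv.f (nat_lit 17680)])))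
(Tr.nd (nat_lit 17683) (Tr.lf (Fc.ed (nat_lit 17682) (nat_lit 4575) Col.b (nat_lit 6779) Dv.df))
(Tr.lf (Fc.ed (nat_lit 17683) (nat_lit 6779) Col.f (nat_lit 5621) (Dv.wd (nat_lit 20) [Mv.b (nat_lit 16350), Mv.b (nat_lit 16553), Mv.f (nat_lit 17682)]))))))
(Tr.nd (nat_lit 17686) (Tr.nd (nat_lit 17685) (Tr.lf (Fc.ed (nat_lit 17684) (nat_lit 5699) Col.f (nat_lit 6780) Dv.df))
(Tr.lf (Fc.ed (nat_lit 17685) (nat_lit 6780) Col.a (nat_lit 6292) (Dv.wd (nat_lit 23) [Mv.b (nat_lit 15761), Mv.f (nat_lit 14461), Mv.f (nat_lit 17684)]))))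
(Tr.nd (nat_lit 17687) (Tr.lf (Fc.ed (nat_lit 17686) (nat_lit 6776) Col.e (nat_lit 6781) Dv.df))
(Tr.nd (nat_lit 17688) (Tr.lf (Fc.ed (nat_lit 17687) (nat_lit 6781) Col.b (nat_lit 3646) (Dv.wd (nat_lit 49) [Mv.f (nat_lit 10594), Mv.f (nat_lit 17673), Mv.f (nat_lit 17686)])))
(Tr.lf (Fc.ed (nat_lit 17688) (nat_lit 6706) Col.e (nat_lit 6782) Dv.df))))))
(Tr.nd (nat_lit 17694) (Tr.nd (nat_lit 17691) (Tr.nd (nat_lit 17690) (Tr.lf (Fc.ed (nat_lit 17689) (nat_lit 6782) Col.c (nat_lit 2362) (Dv.wd (nat_lit 18) [Mv.b (nat_lit 16128), Mv.f (nat_lit 17530), Mv.f (nat_lit 17688)])))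
(Tr.lf (Fc.ed (nat_lit 17690) (nat_lit 6716) Col.gi (nat_lit 6783) Dv.df)))
(Tr.nd (nat_lit 17692) (Tr.lf (Fc.ed (nat_lit 17691) (nat_lit 6783) Col.c (nat_lit 6631) (Dv.wd (nat_lit 14) [Mv.b (nat_lit 17498), Mv.b (nat_lit 16246), Mv.b (nat_lit 16252), Mv.f (nat_lit 4508), Mv.f (nat_lit 5732), Mv.f (nat_lit 17577), Mv.f (nat_lit 17600), Mv.f (nat_lit 17599), Mv.f (nat_lit 17690)])))
(Tr.nd (nat_lit 17693) (Tr.lf (Fc.ed (nat_lit 17692) (nat_lit 5870) Col.a (nat_lit 6783) (Dv.wd (nat_lit 76) [Mv.f (nat_lit 17691), Mv.b (nat_lit 17321), Mv.f (nat_lit 14869)])))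
(Tr.lf (Fc.ed (nat_lit 17693) (nat_lit 6389) Col.c (nat_lit 6784) Dv.df)))))
(Tr.nd (nat_lit 17697) (Tr.nd (nat_lit 17695) (Tr.lf (Fc.ed (nat_lit 17694) (nat_lit 6784) Col.g (nat_lit 6541) (Dv.wd (nat_lit 77) [Mv.b (nat_lit 17069), Mv.f (nat_lit 12842), Mv.f (nat_lit 7774), Mv.b (nat_lit 7401), Mv.f (nat_lit 16965), Mv.f (nat_lit 12599), Mv.f (nat_lit 14358), Mv.f (nat_lit 16909), Mv.f (nat_lit 17693)])))
(Tr.nd (nat_lit 17696) (Tr.lf (Fc.ed (nat_lit 17695) (nat_lit 6448) Col.a (nat_lit 6785) Dv.df))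
(Tr.lf (Fc.ed (nat_lit 17696) (nat_lit 6785) Col.c (nat_lit 4354) (Dv.wd (nat_lit 33) [Mv.f (nat_lit 13414), Mv.f (nat_lit 16722), Mv.f (nat_lit 17695)])))))
(Tr.nd (nat_lit 17698) (Tr.lf (Fc.ed (nat_lit 17697) (nat_lit 6760) Col.g (nat_lit 6786) Dv.df))
(Tr.nd (nat_lit 17699) (Tr.lf (Fc.ed (nat_lit 17698) (nat_lit 4651) Col.f (nat_lit 6787) Dv.df))
(Tr.lf (Fc.ed (nat_lit 17699) (nat_lit 6787) Col.b (nat_lit 6361) (Dv.wd (nat_lit 66) [Mv.b (nat_lit 16346), Mv.f (nat_lit 12334), Mv.f (nat_lit 17698)])))))))))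
(Tr.nd (nat_lit 17721) (Tr.nd (nat_lit 17710) (Tr.nd (nat_lit 17705) (Tr.nd (nat_lit 17702) (Tr.nd (nat_lit 17701) (Tr.lf (Fc.ed (nat_lit 17700) (nat_lit 6787) Col.d (nat_lit 6607) (Dv.wd (nat_lit 21) [Mv.f (nat_lit 17212), Mv.f (nat_lit 12450), Mv.f (nat_lit 17698)])))
(Tr.lf (Fc.ed (nat_lit 17701) (nat_lit 6705) Col.c (nat_lit 6788) Dv.df)))
(Tr.nd (nat_lit 17703) (Tr.lf (Fc.ed (nat_lit 17702) (nat_lit 6788) Col.f (nat_lit 4191) (Dv.wd (nat_lit 26) [Mv.b (nat_lit 10822), Mv.b (nat_lit 17529), Mv.f (nat_lit 17701)])))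
(Tr.nd (nat_lit 17704) (Tr.lf (Fc.ed (nat_lit 17703) (nat_lit 6654) Col.d (nat_lit 6789) Dv.df))
(Tr.lf (Fc.ed (nat_lit 17704) (nat_lit 6789) Col.b (nat_lit 6691) (Dv.wd (nat_lit 37) [Mv.f (nat_lit 17436), Mv.f (nat_lit 17365), Mv.f (nat_lit 17703)]))))))
(Tr.nd (nat_lit 17707) (Tr.nd (nat_lit 17706) (Tr.lf (Fc.ed (nat_lit 17705) (nat_lit 6789) Col.f (nat_lit 6527) (Dv.wd (nat_lit 11) [Mv.f (nat_lit 17142), Mv.b (nat_lit 17366), Mv.f (nat_lit 17703)])))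
(Tr.lf (Fc.ed (nat_lit 17706) (nat_lit 5543) Col.b (nat_lit 6790) Dv.df)))
(Tr.nd (nat_lit 17708) (Tr.lf (Fc.ed (nat_lit 17707) (nat_lit 4353) Col.c (nat_lit 6791) Dv.df))
(Tr.nd (nat_lit 17709) (Tr.lf (Fc.ed (nat_lit 17708) (nat_lit 6791) Col.f (nat_lit 4629) (Dv.wd (nat_lit 26) [Mv.b (nat_lit 11738), Mv.b (nat_lit 11172), Mv.f (nat_lit 17707)])))
(Tr.lf (Fc.ed (nat_lit 17709) (nat_lit 4512) Col.g (nat_lit 6792) Dv.df))))))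
(Tr.nd (nat_lit 17715) (Tr.nd (nat_lit 17712) (Tr.nd (nat_lit 17711) (Tr.lf (Fc.ed (nat_lit 17710) (nat_lit 6792) Col.g (nat_lit 6571) (Dv.wd (nat_lit 9) [Mv.f (nat_lit 17132), Mv.f (nat_lit 11519), Mv.f (nat_lit 17709)])))
(Tr.lf (Fc.ed (nat_lit 17711) (nat_lit 6510) Col.a (nat_lit 6793) Dv.df)))
(Tr.nd (nat_lit 17713) (Tr.lf (Fc.ed (nat_lit 17712) (nat_lit 6793) Col.gi (nat_lit 4818) (Dv.wd (nat_lit 12) [Mv.b (nat_lit 14254), Mv.b (nat_lit 17000), Mv.f (nat_lit 17711)])))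
(Tr.nd (nat_lit 17714) (Tr.lf (Fc.ed (nat_lit 17713) (nat_lit 5761) Col.b (nat_lit 6794) Dv.df))
(Tr.lf (Fc.ed (nat_lit 17714) (nat_lit 3860) Col.c (nat_lit 6795) Dv.df)))))
(Tr.nd (nat_lit 17718) (Tr.nd (nat_lit 17716) (Tr.lf (Fc.ed (nat_lit 17715) (nat_lit 4157) Col.c (nat_lit 6796) Dv.df))
(Tr.nd (nat_lit 17717) (Tr.lf (Fc.ed (nat_lit 17716) (nat_lit 6796) Col.a (nat_lit 6795) (Dv.wd (nat_lit 19) [Mv.b (nat_lit 17714), Mv.b (nat_lit 16424), Mv.f (nat_lit 17715)])))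
(Tr.lf (Fc.ed (nat_lit 17717) (nat_lit 6796) Col.f (nat_lit 6282) (Dv.wd (nat_lit 26) [Mv.b (nat_lit 16399), Mv.b (nat_lit 16425), Mv.f (nat_lit 17715)])))))
(Tr.nd (nat_lit 17719) (Tr.lf (Fc.ed (nat_lit 17718) (nat_lit 5302) Col.b (nat_lit 6797) Dv.df))
(Tr.nd (nat_lit 17720) (Tr.lf (Fc.ed (nat_lit 17719) (nat_lit 6797) Col.e (nat_lit 5227) (Dv.wd (nat_lit 52) [Mv.b (nat_lit 13480), Mv.b (nat_lit 13634), Mv.f (nat_lit 17718)])))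
(Tr.lf (Fc.ed (nat_lit 17720) (nat_lit 6797) Col.a (nat_lit 6439) (Dv.wd (nat_lit 98) [Mv.f (nat_lit 16706), Mv.b (nat_lit 12951), Mv.f (nat_lit 12952), Mv.f (nat_lit 13633), Mv.f (nat_lit 17718)]))))))))
(Tr.nd (nat_lit 17731) (Tr.nd (nat_lit 17726) (Tr.nd (nat_lit 17723) (Tr.nd (nat_lit 17722) (Tr.lf (Fc.ed (nat_lit 17721) (nat_lit 6624) Col.g (nat_lit 6797) (Dv.wd (nat_lit 38) [Mv.f (nat_lit 17719), Mv.f (nat_lit 13481), Mv.f (nat_lit 12955), Mv.f (nat_lit 15371), Mv.f (nat_lit 16340), Mv.f (nat_lit 12438), Mv.f (nat_lit 12436), Mv.f (nat_lit 10526), Mv.f (nat_lit 11690), Mv.b (nat_lit 17249)])))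
(Tr.lf (Fc.ed (nat_lit 17722) (nat_lit 6596) Col.c (nat_lit 6798) Dv.df)))
(Tr.nd (nat_lit 17724) (Tr.lf (Fc.ed (nat_lit 17723) (nat_lit 6798) Col.f (nat_lit 6783) (Dv.wd (nat_lit 26) [Mv.f (nat_lit 17691), Mv.f (nat_lit 17449), Mv.f (nat_lit 17722)])))
(Tr.nd (nat_lit 17725) (Tr.lf (Fc.ed (nat_lit 17724) (nat_lit 6607) Col.a (nat_lit 6799) Dv.df))
(Tr.lf (Fc.ed (nat_lit 17725) (nat_lit 6799) Col.f (nat_lit 5756) (Dv.wd (nat_lit 35) [Mv.b (nat_lit 14617), Mv.b (nat_lit 17212), Mv.f (nat_lit 17724)]))))))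
(Tr.nd (nat_lit 17728) (Tr.nd (nat_lit 17727) (Tr.lf (Fc.ed (nat_lit 17726) (nat_lit 6511) Col.b (nat_lit 6799) (Dv.wd (nat_lit 107) [Mv.f (nat_lit 17725), Mv.b (nat_lit 15171), Mv.f (nat_lit 17001)])))
(Tr.lf (Fc.ed (nat_lit 17727) (nat_lit 6751) Col.g (nat_lit 6800) Dv.df)))
(Tr.nd (nat_lit 17729) (Tr.lf (Fc.ed (nat_lit 17728) (nat_lit 6498) Col.g (nat_lit 6801) Dv.df))
(Tr.nd (nat_lit 17730) (Tr.lf (Fc.ed (nat_lit 17729) (nat_lit 5032) Col.g (nat_lit 6802) Dv.df))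
(Tr.lf (Fc.ed (nat_lit 17730) (nat_lit 4439) Col.c (nat_lit 6803) Dv.df))))))
(Tr.nd (nat_lit 17736) (Tr.nd (nat_lit 17733) (Tr.nd (nat_lit 17732) (Tr.lf (Fc.ed (nat_lit 17731) (nat_lit 5486) Col.e (nat_lit 6804) Dv.df))
(Tr.lf (Fc.ed (nat_lit 17732) (nat_lit 6804) Col.d (nat_lit 6747) (Dv.wd (nat_lit 59) [Mv.b (nat_lit 17612), Mv.f (nat_lit 17605), Mv.b (nat_lit 15896), Mv.b (nat_lit 15895), Mv.f (nat_lit 17731)]))))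
(Tr.nd (nat_lit 17734) (Tr.lf (Fc.ed (nat_lit 17733) (nat_lit 6237) Col.c (nat_lit 6805) Dv.df))
(Tr.nd (nat_lit 17735) (Tr.lf (Fc.ed (nat_lit 17734) (nat_lit 6805) Col.f (nat_lit 6499) (Dv.wd (nat_lit 26) [Mv.f (nat_lit 16821), Mv.b (nat_lit 15596), Mv.f (nat_lit 17733)])))
(Tr.lf (Fc.ed (nat_lit 17735) (nat_lit 6644) Col.a (nat_lit 6806) Dv.df)))))
(Tr.nd (nat_lit 17739) (Tr.nd (nat_lit 17737) (Tr.lf (Fc.ed (nat_lit 17736) (nat_lit 6806) Col.c (nat_lit 6531) (Dv.wd (nat_lit 33) [Mv.f (nat_lit 17051), Mv.b (nat_lit 17493), Mv.f (nat_lit 17735)])))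
(Tr.nd (nat_lit 17738) (Tr.lf (Fc.ed (nat_lit 17737) (nat_lit 6784) Col.f (nat_lit 6806) (Dv.wd (nat_lit 64) [Mv.f (nat_lit 17736), Mv.f (nat_lit 17052), Mv.f (nat_lit 17693)])))
(Tr.lf (Fc.ed (nat_lit 17738) (nat_lit 6644) Col.gi (nat_lit 6541) (Dv.wd (nat_lit 12) [Mv.b (nat_lit 17694), Mv.f (nat_lit 17737), Mv.b (nat_lit 17735)])))))
(Tr.nd (nat_lit 17740) (Tr.lf (Fc.ed (nat_lit 17739) (nat_lit 6791) Col.g (nat_lit 6807) Dv.df))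
(Tr.nd (nat_lit 17741) (Tr.lf (Fc.ed (nat_lit 17740) (nat_lit 6386) Col.d (nat_lit 6808) Dv.df))
(Tr.lf (Fc.ed (nat_lit 17741) (nat_lit 6808) Col.a (nat_lit 5873) (Dv.wd (nat_lit 8) [Mv.b (nat_lit 14873), Mv.b (nat_lit 15945), Mv.f (nat_lit 17740)])))))))))))))
(Tr.nd (nat_lit 18070) (Tr.nd (nat_lit 17906) (Tr.nd (nat_lit 17824) (Tr.nd (nat_lit 17783) (Tr.nd (nat_lit 17762) (Tr.nd (nat_lit 17752) (Tr.nd (nat_lit 17747) (Tr.nd (nat_lit 17744) (Tr.nd (nat_lit 17743) (Tr.lf (Fc.ed (nat_lit 17742) (nat_lit 5032) Col.d (nat_lit 6809) Dv.df))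
(Tr.lf (Fc.ed (nat_lit 17743) (nat_lit 2766) Col.d (nat_lit 6810) Dv.df)))
(Tr.nd (nat_lit 17745) (Tr.lf (Fc.ed (nat_lit 17744) (nat_lit 6782) Col.g (nat_lit 6811) Dv.df))
(Tr.nd (nat_lit 17746) (Tr.lf (Fc.ed (nat_lit 17745) (nat_lit 5981) Col.g (nat_lit 6812) Dv.df))
(Tr.lf (Fc.ed (nat_lit 17746) (nat_lit 6812) Col.g (nat_lit 6113) (Dv.wd (nat_lit 9) [Mv.f (nat_lit 15367), Mv.f (nat_lit 15135), Mv.f (nat_lit 17745)]))))))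
(Tr.nd (nat_lit 17749) (Tr.nd (nat_lit 17748) (Tr.lf (Fc.ed (nat_lit 17747) (nat_lit 6812) Col.c (nat_lit 6799) (Dv.wd (nat_lit 124) [Mv.b (nat_lit 17726), Mv.f (nat_lit 17002), Mv.f (nat_lit 12981), Mv.b (nat_lit 11771), Mv.f (nat_lit 7326), Mv.f (nat_lit 3946), Mv.f (nat_lit 5592), Mv.b (nat_lit 6768), Mv.b (nat_lit 15125), Mv.f (nat_lit 17745)])))
(Tr.lf (Fc.ed (nat_lit 17748) (nat_lit 6681) Col.a (nat_lit 6812) (Dv.wd (nat_lit 76) [Mv.f (nat_lit 17747), Mv.b (nat_lit 17724), Mv.f (nat_lit 17416)]))))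
(Tr.nd (nat_lit 17750) (Tr.lf (Fc.ed (nat_lit 17749) (nat_lit 6080) Col.f (nat_lit 6812) (Dv.wd (nat_lit 64) [Mv.f (nat_lit 17747), Mv.f (nat_lit 17725), Mv.b (nat_lit 15303)])))
(Tr.nd (nat_lit 17751) (Tr.lf (Fc.ed (nat_lit 17750) (nat_lit 6113) Col.g (nat_lit 6090) (Dv.wd (nat_lit 9) [Mv.b (nat_lit 15322), Mv.f (nat_lit 17749), Mv.f (nat_lit 17746)])))
(Tr.lf (Fc.ed (nat_lit 17751) (nat_lit 6090) Col.g (nat_lit 5981) (Dv.wd (nat_lit 9) [Mv.b (nat_lit 15124), Mv.b (nat_lit 15368), Mv.f (nat_lit 17750)])))))))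
(Tr.nd (nat_lit 17757) (Tr.nd (nat_lit 17754) (Tr.nd (nat_lit 17753) (Tr.lf (Fc.ed (nat_lit 17752) (nat_lit 6618) Col.g (nat_lit 6813) Dv.df))
(Tr.lf (Fc.ed (nat_lit 17753) (nat_lit 5969) Col.g (nat_lit 6814) Dv.df)))
(Tr.nd (nat_lit 17755) (Tr.lf (Fc.ed (nat_lit 17754) (nat_lit 6784) Col.a (nat_lit 6815) Dv.df))
(Tr.nd (nat_lit 17756) (Tr.lf (Fc.ed (nat_lit 17755) (nat_lit 6815) Col.c (nat_lit 6137) (Dv.wd (nat_lit 33) [Mv.b (nat_lit 15965), Mv.f (nat_lit 17693), Mv.f (nat_lit 17754)])))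
(Tr.lf (Fc.ed (nat_lit 17756) (nat_lit 6815) Col.f (nat_lit 6644) (Dv.wd (nat_lit 35) [Mv.f (nat_lit 17735), Mv.b (nat_lit 17737), Mv.f (nat_lit 17754)]))))))
(Tr.nd (nat_lit 17759) (Tr.nd (nat_lit 17758) (Tr.lf (Fc.ed (nat_lit 17757) (nat_lit 2953) Col.gi (nat_lit 6816) Dv.df))
(Tr.lf (Fc.ed (nat_lit 17758) (nat_lit 6816) Col.gi (nat_lit 5661) (Dv.wd (nat_lit 24) [Mv.f (nat_lit 14401), Mv.b (nat_lit 14016), Mv.f (nat_lit 17757)]))))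
(Tr.nd (nat_lit 17760) (Tr.lf (Fc.ed (nat_lit 17759) (nat_lit 6399) Col.f (nat_lit 6817) Dv.df))
(Tr.nd (nat_lit 17761) (Tr.lf (Fc.ed (nat_lit 17760) (nat_lit 6817) Col.g (nat_lit 6761) (Dv.wd (nat_lit 17) [Mv.b (nat_lit 17643), Mv.b (nat_lit 15981), Mv.f (nat_lit 17759)])))
(Tr.lf (Fc.ed (nat_lit 17761) (nat_lit 5314) Col.a (nat_lit 6818) Dv.df)))))))
(Tr.nd (nat_lit 17772) (Tr.nd (nat_lit 17767) (Tr.nd (nat_lit 17764) (Tr.nd (nat_lit 17763) (Tr.lf (Fc.ed (nat_lit 17762) (nat_lit 6818) Col.c (nat_lit 6336) (Dv.wd (nat_lit 33) [Mv.f (nat_lit 15849), Mv.f (nat_lit 13696), Mv.f (nat_lit 17761)])))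
(Tr.lf (Fc.ed (nat_lit 17763) (nat_lit 3059) Col.c (nat_lit 6819) Dv.df)))
(Tr.nd (nat_lit 17765) (Tr.lf (Fc.ed (nat_lit 17764) (nat_lit 6819) Col.g (nat_lit 6614) (Dv.wd (nat_lit 77) [Mv.b (nat_lit 17224), Mv.b (nat_lit 17062), Mv.b (nat_lit 17647), Mv.b (nat_lit 17648), Mv.f (nat_lit 14730), Mv.f (nat_lit 7870), Mv.f (nat_lit 6916), Mv.b (nat_lit 7965), Mv.f (nat_lit 17763)])))
(Tr.nd (nat_lit 17766) (Tr.lf (Fc.al (nat_lit 17765) (nat_lit 6572) (nat_lit 4862) (Dv.wd (nat_lit 104) [Mv.b (nat_lit 12683), Mv.b (nat_lit 6212), Mv.b (nat_lit 6210), Mv.f (nat_lit 5851), Mv.b (nat_lit 5100), Mv.b (nat_lit 7965), Mv.f (nat_lit 17763), Mv.f (nat_lit 17764), Mv.b (nat_lit 17224), Mv.f (nat_lit 17063), Mv.f (nat_lit 17133)])))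
(Tr.lf (Fc.ed (nat_lit 17766) (nat_lit 4862) Col.g (nat_lit 6629) (Dv.wd (nat_lit 129) [Mv.b (nat_lit 17318), Mv.f (nat_lit 17765)]))))))
(Tr.nd (nat_lit 17769) (Tr.nd (nat_lit 17768) (Tr.lf (Fc.ed (nat_lit 17767) (nat_lit 4862) Col.gi (nat_lit 6299) (Dv.wd (nat_lit 128) [Mv.f (nat_lit 17133), Mv.f (nat_lit 17765)])))
(Tr.lf (Fc.ed (nat_lit 17768) (nat_lit 6035) Col.e (nat_lit 5363) (Dv.wd (nat_lit 146) [Mv.f (nat_lit 13785), Mv.f (nat_lit 17767), Mv.b (nat_lit 16400), Mv.f (nat_lit 16401), Mv.f (nat_lit 12045), Mv.b (nat_lit 7057), Mv.f (nat_lit 7056), Mv.b (nat_lit 7956), Mv.f (nat_lit 9546), Mv.b (nat_lit 15223)]))))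
(Tr.nd (nat_lit 17770) (Tr.lf (Fc.al (nat_lit 17769) (nat_lit 6169) (nat_lit 4960) (Dv.wd (nat_lit 53) [Mv.b (nat_lit 12878), Mv.b (nat_lit 12684), Mv.f (nat_lit 17767), Mv.b (nat_lit 15776), Mv.b (nat_lit 10118), Mv.f (nat_lit 5436), Mv.f (nat_lit 4406), Mv.f (nat_lit 4619), Mv.f (nat_lit 10764), Mv.f (nat_lit 12451), Mv.f (nat_lit 15466)])))
(Tr.nd (nat_lit 17771) (Tr.lf (Fc.ed (nat_lit 17770) (nat_lit 4960) Col.gi (nat_lit 6592) (Dv.wd (nat_lit 128) [Mv.f (nat_lit 17189), Mv.f (nat_lit 17769)])))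
(Tr.lf (Fc.al (nat_lit 17771) (nat_lit 4476) (nat_lit 6244) (Dv.wd (nat_lit 117) [Mv.b (nat_lit 15613), Mv.f (nat_lit 17769), Mv.b (nat_lit 12880)])))))))
(Tr.nd (nat_lit 17777) (Tr.nd (nat_lit 17774) (Tr.nd (nat_lit 17773) (Tr.lf (Fc.ed (nat_lit 17772) (nat_lit 4476) Col.d (nat_lit 6035) (Dv.wd (nat_lit 120) [Mv.b (nat_lit 15614), Mv.b (nat_lit 17771)])))
(Tr.lf (Fc.ed (nat_lit 17773) (nat_lit 6423) Col.f (nat_lit 6630) (Dv.wd (nat_lit 13) [Mv.f (nat_lit 17320), Mv.f (nat_lit 17770), Mv.b (nat_lit 17303)]))))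
(Tr.nd (nat_lit 17775) (Tr.lf (Fc.ed (nat_lit 17774) (nat_lit 4705) Col.a (nat_lit 6820) Dv.df))
(Tr.nd (nat_lit 17776) (Tr.lf (Fc.ed (nat_lit 17775) (nat_lit 6820) Col.f (nat_lit 4372) (Dv.wd (nat_lit 35) [Mv.f (nat_lit 15236), Mv.f (nat_lit 15237), Mv.f (nat_lit 17774)])))
(Tr.lf (Fc.ed (nat_lit 17776) (nat_lit 4301) Col.f (nat_lit 6821) Dv.df)))))
(Tr.nd (nat_lit 17780) (Tr.nd (nat_lit 17778) (Tr.lf (Fc.ed (nat_lit 17777) (nat_lit 6821) Col.a (nat_lit 6643) (Dv.wd (nat_lit 16) [Mv.b (nat_lit 17346), Mv.f (nat_lit 11446), Mv.f (nat_lit 17776)])))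
(Tr.nd (nat_lit 17779) (Tr.lf (Fc.ed (nat_lit 17778) (nat_lit 5863) Col.c (nat_lit 6822) Dv.df))
(Tr.lf (Fc.ed (nat_lit 17779) (nat_lit 6722) Col.g (nat_lit 6823) Dv.df))))
(Tr.nd (nat_lit 17781) (Tr.lf (Fc.ed (nat_lit 17780) (nat_lit 6374) Col.c (nat_lit 6824) Dv.df))
(Tr.nd (nat_lit 17782) (Tr.lf (Fc.ed (nat_lit 17781) (nat_lit 6824) Col.e (nat_lit 6711) (Dv.wd (nat_lit 25) [Mv.b (nat_lit 17537), Mv.b (nat_lit 16710), Mv.f (nat_lit 17780)])))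
(Tr.lf (Fc.ed (nat_lit 17782) (nat_lit 6205) Col.a (nat_lit 6825) Dv.df))))))))
(Tr.nd (nat_lit 17803) (Tr.nd (nat_lit 17793) (Tr.nd (nat_lit 17788) (Tr.nd (nat_lit 17785) (Tr.nd (nat_lit 17784) (Tr.lf (Fc.ed (nat_lit 17783) (nat_lit 5951) Col.g (nat_lit 6826) Dv.df))
(Tr.lf (Fc.ed (nat_lit 17784) (nat_lit 6150) Col.d (nat_lit 6827) Dv.df)))
(Tr.nd (nat_lit 17786) (Tr.lf (Fc.ed (nat_lit 17785) (nat_lit 6802) Col.c (nat_lit 6828) Dv.df))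
(Tr.nd (nat_lit 17787) (Tr.lf (Fc.ed (nat_lit 17786) (nat_lit 5785) Col.a (nat_lit 6829) Dv.df))
(Tr.lf (Fc.ed (nat_lit 17787) (nat_lit 6829) Col.f (nat_lit 5285) (Dv.wd (nat_lit 35) [Mv.f (nat_lit 13600), Mv.b (nat_lit 14695), Mv.f (nat_lit 17786)]))))))
(Tr.nd (nat_lit 17790) (Tr.nd (nat_lit 17789) (Tr.lf (Fc.ed (nat_lit 17788) (nat_lit 6798) Col.g (nat_lit 6830) Dv.df))
(Tr.lf (Fc.ed (nat_lit 17789) (nat_lit 6830) Col.g (nat_lit 5870) (Dv.wd (nat_lit 9) [Mv.f (nat_lit 17692), Mv.b (nat_lit 17723), Mv.f (nat_lit 17788)]))))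
(Tr.nd (nat_lit 17791) (Tr.lf (Fc.ed (nat_lit 17790) (nat_lit 6830) Col.c (nat_lit 6269) (Dv.wd (nat_lit 83) [Mv.f (nat_lit 15659), Mv.f (nat_lit 14066), Mv.f (nat_lit 14064), Mv.b (nat_lit 8686), Mv.f (nat_lit 10798), Mv.b (nat_lit 11086), Mv.f (nat_lit 17195), Mv.f (nat_lit 17722), Mv.f (nat_lit 17788)])))
(Tr.nd (nat_lit 17792) (Tr.lf (Fc.ed (nat_lit 17791) (nat_lit 6716) Col.f (nat_lit 6830) (Dv.wd (nat_lit 64) [Mv.f (nat_lit 17790), Mv.b (nat_lit 16109), Mv.b (nat_lit 17547)])))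
(Tr.lf (Fc.ed (nat_lit 17792) (nat_lit 6679) Col.g (nat_lit 6831) Dv.df))))))
(Tr.nd (nat_lit 17798) (Tr.nd (nat_lit 17795) (Tr.nd (nat_lit 17794) (Tr.lf (Fc.ed (nat_lit 17793) (nat_lit 5758) Col.c (nat_lit 6832) Dv.df))
(Tr.lf (Fc.ed (nat_lit 17794) (nat_lit 6832) Col.a (nat_lit 6499) (Dv.wd (nat_lit 19) [Mv.f (nat_lit 16821), Mv.b (nat_lit 14622), Mv.f (nat_lit 17793)]))))
(Tr.nd (nat_lit 17796) (Tr.lf (Fc.ed (nat_lit 17795) (nat_lit 4818) Col.d (nat_lit 6833) Dv.df))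
(Tr.nd (nat_lit 17797) (Tr.lf (Fc.ed (nat_lit 17796) (nat_lit 6833) Col.b (nat_lit 4492) (Dv.wd (nat_lit 37) [Mv.f (nat_lit 11598), Mv.f (nat_lit 12594), Mv.f (nat_lit 17795)])))
(Tr.lf (Fc.ed (nat_lit 17797) (nat_lit 4324) Col.c (nat_lit 6834) Dv.df)))))
(Tr.nd (nat_lit 17800) (Tr.nd (nat_lit 17799) (Tr.lf (Fc.ed (nat_lit 17798) (nat_lit 6834) Col.b (nat_lit 6701) (Dv.wd (nat_lit 87) [Mv.f (nat_lit 17502), Mv.b (nat_lit 9087), Mv.b (nat_lit 6626), Mv.f (nat_lit 11108), Mv.f (nat_lit 17797)])))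
(Tr.lf (Fc.ed (nat_lit 17799) (nat_lit 6548) Col.g (nat_lit 6835) Dv.df)))
(Tr.nd (nat_lit 17801) (Tr.lf (Fc.ed (nat_lit 17800) (nat_lit 6829) Col.g (nat_lit 6836) Dv.df))
(Tr.nd (nat_lit 17802) (Tr.lf (Fc.ed (nat_lit 17801) (nat_lit 6836) Col.g (nat_lit 4820) (Dv.wd (nat_lit 9) [Mv.b (nat_lit 13600), Mv.b (nat_lit 17787), Mv.f (nat_lit 17800)])))
(Tr.lf (Fc.ed (nat_lit 17802) (nat_lit 5315) Col.a (nat_lit 6837) Dv.df)))))))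
(Tr.nd (nat_lit 17813) (Tr.nd (nat_lit 17808) (Tr.nd (nat_lit 17805) (Tr.nd (nat_lit 17804) (Tr.lf (Fc.ed (nat_lit 17803) (nat_lit 6837) Col.f (nat_lit 5807) (Dv.wd (nat_lit 35) [Mv.f (nat_lit 14746), Mv.f (nat_lit 13698), Mv.f (nat_lit 17802)])))
(Tr.lf (Fc.ed (nat_lit 17804) (nat_lit 6795) Col.e (nat_lit 6838) Dv.df)))
(Tr.nd (nat_lit 17806) (Tr.lf (Fc.ed (nat_lit 17805) (nat_lit 6838) Col.c (nat_lit 6365) (Dv.wd (nat_lit 18) [Mv.b (nat_lit 15905), Mv.f (nat_lit 17714), Mv.f (nat_lit 17804)])))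
(Tr.nd (nat_lit 17807) (Tr.lf (Fc.ed (nat_lit 17806) (nat_lit 6652) Col.f (nat_lit 6838) (Dv.wd (nat_lit 64) [Mv.f (nat_lit 17805), Mv.b (nat_lit 16405), Mv.f (nat_lit 17362)])))
(Tr.lf (Fc.ed (nat_lit 17807) (nat_lit 6733) Col.c (nat_lit 6839) Dv.df)))))
(Tr.nd (nat_lit 17810) (Tr.nd (nat_lit 17809) (Tr.lf (Fc.ed (nat_lit 17808) (nat_lit 6839) Col.a (nat_lit 6378) (Dv.wd (nat_lit 19) [Mv.b (nat_lit 17023), Mv.b (nat_lit 17581), Mv.f (nat_lit 17807)])))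
(Tr.lf (Fc.ed (nat_lit 17809) (nat_lit 6793) Col.d (nat_lit 6839) (Dv.wd (nat_lit 97) [Mv.f (nat_lit 17808), Mv.b (nat_lit 16999), Mv.f (nat_lit 17711)]))))
(Tr.nd (nat_lit 17811) (Tr.lf (Fc.ed (nat_lit 17810) (nat_lit 6400) Col.g (nat_lit 6839) (Dv.wd (nat_lit 9) [Mv.f (nat_lit 17808), Mv.b (nat_lit 15929), Mv.b (nat_lit 15983)])))
(Tr.nd (nat_lit 17812) (Tr.lf (Fc.ed (nat_lit 17811) (nat_lit 6047) Col.d (nat_lit 5856) (Dv.wd (nat_lit 180) [Mv.b (nat_lit 14825), Mv.f (nat_lit 14187), Mv.b (nat_lit 11899), Mv.f (nat_lit 11515), Mv.b (nat_lit 10491), Mv.b (nat_lit 9556), Mv.b (nat_lit 5435), Mv.b (nat_lit 2948), Mv.b (nat_lit 5137), Mv.b (nat_lit 5136), Mv.f (nat_lit 7993), Mv.b (nat_lit 10142), Mv.b (nat_lit 11600), Mv.f (nat_lit 12594), Mv.b (nat_lit 17712), Mv.f (nat_lit 17809), Mv.b (nat_lit 17807), Mv.b (nat_lit 17580),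 Mv.f (nat_lit 15544)])))
(Tr.lf (Fc.ed (nat_lit 17812) (nat_lit 5856) Col.gi (nat_lit 5750) (Dv.wd (nat_lit 50) [Mv.b (nat_lit 15726), Mv.f (nat_lit 8799), Mv.b (nat_lit 5652), Mv.b (nat_lit 8006), Mv.b (nat_lit 14739), Mv.b (nat_lit 14959), Mv.f (nat_lit 14960), Mv.f (nat_lit 15242), Mv.f (nat_lit 17811)])))))))
(Tr.nd (nat_lit 17818) (Tr.nd (nat_lit 17815) (Tr.nd (nat_lit 17814) (Tr.lf (Fc.ed (nat_lit 17813) (nat_lit 5041) Col.c (nat_lit 4851) (Dv.wd (nat_lit 143) [Mv.b (nat_lit 12661), Mv.f (nat_lit 11899), Mv.b (nat_lit 14187), Mv.f (nat_lit 14825), Mv.f (nat_lit 17812), Mv.b (nat_lit 15726), Mv.b (nat_lit 8798), Mv.b (nat_lit 8596), Mv.f (nat_lit 13008), Mv.f (nat_lit 13089)])))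
(Tr.lf (Fc.ed (nat_lit 17814) (nat_lit 1579) Col.c (nat_lit 5167) (Dv.wd (nat_lit 138) [Mv.b (nat_lit 13345), Mv.f (nat_lit 17813), Mv.f (nat_lit 12660), Mv.b (nat_lit 10079), Mv.f (nat_lit 10375), Mv.b (nat_lit 2850), Mv.f (nat_lit 5906), Mv.f (nat_lit 8999), Mv.b (nat_lit 10490)]))))
(Tr.nd (nat_lit 17816) (Tr.lf (Fc.ed (nat_lit 17815) (nat_lit 5330) Col.c (nat_lit 3434) (Dv.wd (nat_lit 33) [Mv.f (nat_lit 8736), Mv.f (nat_lit 17814), Mv.f (nat_lit 13728)])))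
(Tr.nd (nat_lit 17817) (Tr.lf (Fc.ed (nat_lit 17816) (nat_lit 5284) Col.c (nat_lit 2808) (Dv.wd (nat_lit 93) [Mv.b (nat_lit 7424), Mv.f (nat_lit 3728), Mv.b (nat_lit 4675), Mv.f (nat_lit 17814), Mv.f (nat_lit 13598)])))
(Tr.lf (Fc.ed (nat_lit 17817) (nat_lit 6595) Col.g (nat_lit 5284) (Dv.wd (nat_lit 123) [Mv.f (nat_lit 17816), Mv.b (nat_lit 7424), Mv.f (nat_lit 3729), Mv.f (nat_lit 3231), Mv.b (nat_lit 2991), Mv.b (nat_lit 2941), Mv.b (nat_lit 7500), Mv.f (nat_lit 14137), Mv.f (nat_lit 15188), Mv.f (nat_lit 17194)]))))))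
(Tr.nd (nat_lit 17821) (Tr.nd (nat_lit 17819) (Tr.lf (Fc.ed (nat_lit 17818) (nat_lit 5503) Col.gi (nat_lit 5330) (Dv.wd (nat_lit 78) [Mv.f (nat_lit 17815), Mv.b (nat_lit 8840), Mv.f (nat_lit 10480), Mv.b (nat_lit 5550), Mv.f (nat_lit 5092), Mv.f (nat_lit 5450), Mv.b (nat_lit 10078), Mv.f (nat_lit 12896), Mv.f (nat_lit 14096)])))
(Tr.nd (nat_lit 17820) (Tr.lf (Fc.ed (nat_lit 17819) (nat_lit 5503) Col.d (nat_lit 5543) (Dv.wd (nat_lit 51) [Mv.b (nat_lit 14171), Mv.f (nat_lit 13287), Mv.f (nat_lit 13266), Mv.f (nat_lit 5909), Mv.f (nat_lit 10385), Mv.b (nat_lit 10477), Mv.f (nat_lit 9114), Mv.b (nat_lit 17815), Mv.b (nat_lit 17818)])))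
(Tr.lf (Fc.ed (nat_lit 17820) (nat_lit 5987) Col.c (nat_lit 2292) (Dv.wd (nat_lit 148) [Mv.f (nat_lit 10428), Mv.b (nat_lit 7900), Mv.b (nat_lit 7899), Mv.b (nat_lit 10078), Mv.f (nat_lit 12896), Mv.f (nat_lit 14096), Mv.f (nat_lit 17819), Mv.f (nat_lit 14905), Mv.f (nat_lit 15136)])))))
(Tr.nd (nat_lit 17822) (Tr.lf (Fc.ed (nat_lit 17821) (nat_lit 6264) Col.b (nat_lit 5987) (Dv.wd (nat_lit 136) [Mv.f (nat_lit 17820), Mv.f (nat_lit 6512), Mv.f (nat_lit 10423), Mv.b (nat_lit 15404), Mv.f (nat_lit 15649)])))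
(Tr.nd (nat_lit 17823) (Tr.lf (Fc.ed (nat_lit 17822) (nat_lit 4240) Col.f (nat_lit 6840) Dv.df))
(Tr.lf (Fc.ed (nat_lit 17823) (nat_lit 6840) Col.a (nat_lit 6788) (Dv.wd (nat_lit 16) [Mv.f (nat_lit 17702), Mv.b (nat_lit 10912), Mv.f (nat_lit 17822)]))))))))))
(Tr.nd (nat_lit 17865) (Tr.nd (nat_lit 17844) (Tr.nd (nat_lit 17834) (Tr.nd (nat_lit 17829) (Tr.nd (nat_lit 17826) (Tr.nd (nat_lit 17825) (Tr.lf (Fc.ed (nat_lit 17824) (nat_lit 6840) Col.e (nat_lit 6705) (Dv.wd (nat_lit 22) [Mv.f (nat_lit 17529), Mv.b (nat_lit 9431), Mv.b (nat_lit 4044), Mv.f (nat_lit 10911), Mv.f (nat_lit 17822)])))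
(Tr.lf (Fc.ed (nat_lit 17825) (nat_lit 5755) Col.gi (nat_lit 6841) Dv.df)))
(Tr.nd (nat_lit 17827) (Tr.lf (Fc.ed (nat_lit 17826) (nat_lit 6841) Col.gi (nat_lit 6779) (Dv.wd (nat_lit 24) [Mv.f (nat_lit 17683), Mv.f (nat_lit 14616), Mv.f (nat_lit 17825)])))
(Tr.nd (nat_lit 17828) (Tr.lf (Fc.ed (nat_lit 17827) (nat_lit 6785) Col.gi (nat_lit 6842) Dv.df))
(Tr.lf (Fc.ed (nat_lit 17828) (nat_lit 6842) Col.b (nat_lit 5489) (Dv.wd (nat_lit 154) [Mv.b (nat_lit 16823), Mv.f (nat_lit 17124), Mv.f (nat_lit 17591), Mv.f (nat_lit 17590), Mv.b (nat_lit 11497), Mv.f (nat_lit 9277), Mv.f (nat_lit 10595), Mv.f (nat_lit 11173), Mv.b (nat_lit 17696), Mv.f (nat_lit 17827)]))))))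
(Tr.nd (nat_lit 17831) (Tr.nd (nat_lit 17830) (Tr.lf (Fc.ed (nat_lit 17829) (nat_lit 3165) Col.g (nat_lit 6843) Dv.df))
(Tr.lf (Fc.ed (nat_lit 17830) (nat_lit 6843) Col.g (nat_lit 5828) (Dv.wd (nat_lit 9) [Mv.f (nat_lit 14778), Mv.f (nat_lit 10981), Mv.f (nat_lit 17829)]))))
(Tr.nd (nat_lit 17832) (Tr.lf (Fc.ed (nat_lit 17831) (nat_lit 5481) Col.b (nat_lit 6844) Dv.df))
(Tr.nd (nat_lit 17833) (Tr.lf (Fc.ed (nat_lit 17832) (nat_lit 6844) Col.g (nat_lit 6451) (Dv.wd (nat_lit 122) [Mv.b (nat_lit 16727), Mv.b (nat_lit 15667), Mv.b (nat_lit 15920), Mv.b (nat_lit 17383), Mv.b (nat_lit 17382), Mv.b (nat_lit 13762), Mv.b (nat_lit 13017), Mv.f (nat_lit 12669), Mv.f (nat_lit 14059), Mv.f (nat_lit 17831)])))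
(Tr.lf (Fc.ed (nat_lit 17833) (nat_lit 6794) Col.a (nat_lit 6845) Dv.df))))))
(Tr.nd (nat_lit 17839) (Tr.nd (nat_lit 17836) (Tr.nd (nat_lit 17835) (Tr.lf (Fc.ed (nat_lit 17834) (nat_lit 6845) Col.b (nat_lit 4760) (Dv.wd (nat_lit 65) [Mv.f (nat_lit 17521), Mv.f (nat_lit 9254), Mv.f (nat_lit 14628), Mv.f (nat_lit 17713), Mv.f (nat_lit 17833)])))
(Tr.lf (Fc.ed (nat_lit 17835) (nat_lit 4929) Col.g (nat_lit 6846) Dv.df)))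
(Tr.nd (nat_lit 17837) (Tr.lf (Fc.ed (nat_lit 17836) (nat_lit 6846) Col.g (nat_lit 2614) (Dv.wd (nat_lit 9) [Mv.b (nat_lit 15321), Mv.b (nat_lit 15320), Mv.f (nat_lit 17835)])))
(Tr.nd (nat_lit 17838) (Tr.lf (Fc.ed (nat_lit 17837) (nat_lit 6268) Col.b (nat_lit 6846) (Dv.wd (nat_lit 106) [Mv.f (nat_lit 17836), Mv.f (nat_lit 6995), Mv.b (nat_lit 6989), Mv.b (nat_lit 9048), Mv.f (nat_lit 13567), Mv.b (nat_lit 14006), Mv.b (nat_lit 14005), Mv.f (nat_lit 14374), Mv.b (nat_lit 15582), Mv.b (nat_lit 15737)])))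
(Tr.lf (Fc.ed (nat_lit 17838) (nat_lit 6846) Col.d (nat_lit 6139) (Dv.wd (nat_lit 58) [Mv.b (nat_lit 15413), Mv.f (nat_lit 15657), Mv.f (nat_lit 17837)]))))))
(Tr.nd (nat_lit 17841) (Tr.nd (nat_lit 17840) (Tr.lf (Fc.ed (nat_lit 17839) (nat_lit 4242) Col.d (nat_lit 5253) (Dv.wd (nat_lit 48) [Mv.b (nat_lit 13535), Mv.b (nat_lit 12816), Mv.f (nat_lit 17835), Mv.f (nat_lit 17838), Mv.f (nat_lit 15740), Mv.f (nat_lit 13205), Mv.f (nat_lit 8413), Mv.b (nat_lit 6963), Mv.b (nat_lit 10916)])))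
(Tr.lf (Fc.ed (nat_lit 17840) (nat_lit 5740) Col.d (nat_lit 4300) (Dv.wd (nat_lit 48) [Mv.b (nat_lit 11063), Mv.b (nat_lit 9376), Mv.f (nat_lit 10915), Mv.f (nat_lit 17839), Mv.f (nat_lit 13536), Mv.b (nat_lit 6602), Mv.f (nat_lit 7941), Mv.f (nat_lit 9205), Mv.f (nat_lit 14588)]))))
(Tr.nd (nat_lit 17842) (Tr.lf (Fc.ed (nat_lit 17841) (nat_lit 4353) Col.d (nat_lit 6353) (Dv.wd (nat_lit 90) [Mv.f (nat_lit 15884), Mv.f (nat_lit 17840), Mv.b (nat_lit 11172)])))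
(Tr.nd (nat_lit 17843) (Tr.lf (Fc.ed (nat_lit 17842) (nat_lit 5454) Col.d (nat_lit 4116) (Dv.wd (nat_lit 28) [Mv.f (nat_lit 11171), Mv.f (nat_lit 17841), Mv.b (nat_lit 15883)])))
(Tr.lf (Fc.ed (nat_lit 17843) (nat_lit 6193) Col.c (nat_lit 6847) Dv.df)))))))
(Tr.nd (nat_lit 17854) (Tr.nd (nat_lit 17849) (Tr.nd (nat_lit 17846) (Tr.nd (nat_lit 17845) (Tr.lf (Fc.ed (nat_lit 17844) (nat_lit 6521) Col.b (nat_lit 6848) Dv.df))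
(Tr.lf (Fc.ed (nat_lit 17845) (nat_lit 6840) Col.c (nat_lit 6849) Dv.df)))
(Tr.nd (nat_lit 17847) (Tr.lf (Fc.ed (nat_lit 17846) (nat_lit 6849) Col.e (nat_lit 6788) (Dv.wd (nat_lit 25) [Mv.b (nat_lit 17701), Mv.b (nat_lit 17824), Mv.f (nat_lit 17845)])))
(Tr.nd (nat_lit 17848) (Tr.lf (Fc.ed (nat_lit 17847) (nat_lit 6849) Col.f (nat_lit 4282) (Dv.wd (nat_lit 26) [Mv.f (nat_lit 11018), Mv.f (nat_lit 17822), Mv.f (nat_lit 17845)])))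
(Tr.lf (Fc.ed (nat_lit 17848) (nat_lit 6788) Col.b (nat_lit 6849) (Dv.wd (nat_lit 107) [Mv.f (nat_lit 17847), Mv.f (nat_lit 11017), Mv.b (nat_lit 17702)]))))))
(Tr.nd (nat_lit 17851) (Tr.nd (nat_lit 17850) (Tr.lf (Fc.ed (nat_lit 17849) (nat_lit 6821) Col.d (nat_lit 6849) (Dv.wd (nat_lit 90) [Mv.f (nat_lit 17847), Mv.b (nat_lit 11066), Mv.f (nat_lit 17776)])))
(Tr.lf (Fc.ed (nat_lit 17850) (nat_lit 5506) Col.b (nat_lit 6850) Dv.df)))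
(Tr.nd (nat_lit 17852) (Tr.lf (Fc.ed (nat_lit 17851) (nat_lit 6850) Col.f (nat_lit 6738) (Dv.wd (nat_lit 20) [Mv.f (nat_lit 17590), Mv.b (nat_lit 14100), Mv.f (nat_lit 17850)])))
(Tr.nd (nat_lit 17853) (Tr.lf (Fc.ed (nat_lit 17852) (nat_lit 6709) Col.gi (nat_lit 6850) (Dv.wd (nat_lit 24) [Mv.f (nat_lit 17851), Mv.b (nat_lit 17589), Mv.b (nat_lit 17535)])))
(Tr.lf (Fc.ed (nat_lit 17853) (nat_lit 5196) Col.b (nat_lit 6851) Dv.df))))))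
(Tr.nd (nat_lit 17859) (Tr.nd (nat_lit 17856) (Tr.nd (nat_lit 17855) (Tr.lf (Fc.ed (nat_lit 17854) (nat_lit 6734) Col.b (nat_lit 6852) Dv.df))
(Tr.lf (Fc.ed (nat_lit 17855) (nat_lit 6852) Col.c (nat_lit 6325) (Dv.wd (nat_lit 135) [Mv.b (nat_lit 15827), Mv.f (nat_lit 7338), Mv.b (nat_lit 7275), Mv.f (nat_lit 5158), Mv.b (nat_lit 5114), Mv.f (nat_lit 5088), Mv.f (nat_lit 4436), Mv.f (nat_lit 14781), Mv.f (nat_lit 17582), Mv.f (nat_lit 17854)]))))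
(Tr.nd (nat_lit 17857) (Tr.lf (Fc.ed (nat_lit 17856) (nat_lit 3827) Col.c (nat_lit 6853) Dv.df))
(Tr.nd (nat_lit 17858) (Tr.lf (Fc.ed (nat_lit 17857) (nat_lit 6853) Col.a (nat_lit 6593) (Dv.wd (nat_lit 19) [Mv.f (nat_lit 17192), Mv.b (nat_lit 9479), Mv.f (nat_lit 17856)])))
(Tr.lf (Fc.ed (nat_lit 17858) (nat_lit 2232) Col.d (nat_lit 6854) Dv.df)))))
(Tr.nd (nat_lit 17862) (Tr.nd (nat_lit 17860) (Tr.lf (Fc.ed (nat_lit 17859) (nat_lit 4955) Col.b (nat_lit 6855) Dv.df))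
(Tr.nd (nat_lit 17861) (Tr.lf (Fc.ed (nat_lit 17860) (nat_lit 6760) Col.gi (nat_lit 6856) Dv.df))
(Tr.lf (Fc.ed (nat_lit 17861) (nat_lit 6028) Col.gi (nat_lit 6857) Dv.df))))
(Tr.nd (nat_lit 17863) (Tr.lf (Fc.ed (nat_lit 17862) (nat_lit 6812) Col.e (nat_lit 6858) Dv.df))
(Tr.nd (nat_lit 17864) (Tr.lf (Fc.ed (nat_lit 17863) (nat_lit 4515) Col.b (nat_lit 6859) Dv.df))
(Tr.lf (Fc.ed (nat_lit 17864) (nat_lit 6632) Col.f (nat_lit 6860) Dv.df))))))))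
(Tr.nd (nat_lit 17885) (Tr.nd (nat_lit 17875) (Tr.nd (nat_lit 17870) (Tr.nd (nat_lit 17867) (Tr.nd (nat_lit 17866) (Tr.lf (Fc.ed (nat_lit 17865) (nat_lit 6860) Col.d (nat_lit 6407) (Dv.wd (nat_lit 21) [Mv.b (nat_lit 16656), Mv.f (nat_lit 17322), Mv.f (nat_lit 17864)])))
(Tr.lf (Fc.ed (nat_lit 17866) (nat_lit 6562) Col.e (nat_lit 6861) Dv.df)))
(Tr.nd (nat_lit 17868) (Tr.lf (Fc.ed (nat_lit 17867) (nat_lit 6861) Col.a (nat_lit 4758) (Dv.wd (nat_lit 15) [Mv.b (nat_lit 16810), Mv.b (nat_lit 17119), Mv.f (nat_lit 17866)])))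
(Tr.nd (nat_lit 17869) (Tr.lf (Fc.ed (nat_lit 17868) (nat_lit 6861) Col.d (nat_lit 5771) (Dv.wd (nat_lit 59) [Mv.f (nat_lit 14646), Mv.b (nat_lit 13281), Mv.b (nat_lit 14225), Mv.b (nat_lit 17118), Mv.f (nat_lit 17866)])))
(Tr.lf (Fc.ed (nat_lit 17869) (nat_lit 6135) Col.b (nat_lit 6862) Dv.df)))))
(Tr.nd (nat_lit 17872) (Tr.nd (nat_lit 17871) (Tr.lf (Fc.ed (nat_lit 17870) (nat_lit 5557) Col.f (nat_lit 6863) Dv.df))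
(Tr.lf (Fc.ed (nat_lit 17871) (nat_lit 6863) Col.e (nat_lit 6692) (Dv.wd (nat_lit 22) [Mv.b (nat_lit 17437), Mv.b (nat_lit 11830), Mv.b (nat_lit 16539), Mv.f (nat_lit 14194), Mv.f (nat_lit 17870)]))))
(Tr.nd (nat_lit 17873) (Tr.lf (Fc.ed (nat_lit 17872) (nat_lit 6856) Col.gi (nat_lit 6864) Dv.df))
(Tr.nd (nat_lit 17874) (Tr.lf (Fc.ed (nat_lit 17873) (nat_lit 2643) Col.d (nat_lit 6865) Dv.df))
(Tr.lf (Fc.ed (nat_lit 17874) (nat_lit 6439) Col.c (nat_lit 6866) Dv.df))))))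
(Tr.nd (nat_lit 17880) (Tr.nd (nat_lit 17877) (Tr.nd (nat_lit 17876) (Tr.lf (Fc.ed (nat_lit 17875) (nat_lit 6845) Col.f (nat_lit 6867) Dv.df))
(Tr.lf (Fc.ed (nat_lit 17876) (nat_lit 6867) Col.b (nat_lit 3932) (Dv.wd (nat_lit 66) [Mv.b (nat_lit 17522), Mv.b (nat_lit 17834), Mv.f (nat_lit 17875)]))))
(Tr.nd (nat_lit 17878) (Tr.lf (Fc.ed (nat_lit 17877) (nat_lit 1308) Col.c (nat_lit 6868) Dv.df))
(Tr.nd (nat_lit 17879) (Tr.lf (Fc.ed (nat_lit 17878) (nat_lit 6866) Col.gi (nat_lit 6869) Dv.df))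
(Tr.lf (Fc.ed (nat_lit 17879) (nat_lit 6869) Col.c (nat_lit 2835) (Dv.wd (nat_lit 94) [Mv.f (nat_lit 7481), Mv.f (nat_lit 6590), Mv.f (nat_lit 6568), Mv.f (nat_lit 6569), Mv.f (nat_lit 5878), Mv.b (nat_lit 6915), Mv.f (nat_lit 12421), Mv.b (nat_lit 16706), Mv.f (nat_lit 17874), Mv.f (nat_lit 17878)]))))))
(Tr.nd (nat_lit 17882) (Tr.nd (nat_lit 17881) (Tr.lf (Fc.ed (nat_lit 17880) (nat_lit 6282) Col.a (nat_lit 6869) (Dv.wd (nat_lit 76) [Mv.f (nat_lit 17879), Mv.b (nat_lit 16421), Mv.f (nat_lit 16399)])))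
(Tr.lf (Fc.ed (nat_lit 17881) (nat_lit 6795) Col.f (nat_lit 6869) (Dv.wd (nat_lit 64) [Mv.f (nat_lit 17879), Mv.b (nat_lit 16423), Mv.f (nat_lit 17714)]))))
(Tr.nd (nat_lit 17883) (Tr.lf (Fc.ed (nat_lit 17882) (nat_lit 6667) Col.gi (nat_lit 6795) (Dv.wd (nat_lit 24) [Mv.f (nat_lit 17881), Mv.b (nat_lit 17880), Mv.f (nat_lit 17388)])))
(Tr.nd (nat_lit 17884) (Tr.lf (Fc.ed (nat_lit 17883) (nat_lit 6866) Col.g (nat_lit 6796) (Dv.wd (nat_lit 9) [Mv.f (nat_lit 17716), Mv.f (nat_lit 17881), Mv.b (nat_lit 17878)])))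
(Tr.lf (Fc.ed (nat_lit 17884) (nat_lit 6468) Col.g (nat_lit 6551) (Dv.wd (nat_lit 118) [Mv.b (nat_lit 17086), Mv.b (nat_lit 13427), Mv.f (nat_lit 10972), Mv.f (nat_lit 7031), Mv.b (nat_lit 12419), Mv.b (nat_lit 16706), Mv.f (nat_lit 17874), Mv.f (nat_lit 17883), Mv.b (nat_lit 17715), Mv.b (nat_lit 16759)]))))))))
(Tr.nd (nat_lit 17895) (Tr.nd (nat_lit 17890) (Tr.nd (nat_lit 17887) (Tr.nd (nat_lit 17886) (Tr.lf (Fc.ed (nat_lit 17885) (nat_lit 6729) Col.d (nat_lit 6468) (Dv.wd (nat_lit 89) [Mv.f (nat_lit 17884), Mv.b (nat_lit 17086), Mv.b (nat_lit 13427), Mv.f (nat_lit 10972), Mv.f (nat_lit 7029), Mv.b (nat_lit 8606), Mv.f (nat_lit 9744), Mv.f (nat_lit 16121), Mv.f (nat_lit 17573)])))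
(Tr.lf (Fc.ed (nat_lit 17886) (nat_lit 6625) Col.b (nat_lit 6729) (Dv.wd (nat_lit 126) [Mv.f (nat_lit 17885), Mv.f (nat_lit 16759), Mv.f (nat_lit 17250)]))))
(Tr.nd (nat_lit 17888) (Tr.lf (Fc.ed (nat_lit 17887) (nat_lit 6538) Col.f (nat_lit 6729) (Dv.wd (nat_lit 86) [Mv.f (nat_lit 17885), Mv.b (nat_lit 16758), Mv.f (nat_lit 17062)])))
(Tr.nd (nat_lit 17889) (Tr.lf (Fc.ed (nat_lit 17888) (nat_lit 6218) Col.g (nat_lit 6626) (Dv.wd (nat_lit 9) [Mv.f (nat_lit 17310), Mv.f (nat_lit 17887), Mv.b (nat_lit 17573)])))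
(Tr.lf (Fc.ed (nat_lit 17889) (nat_lit 5157) Col.g (nat_lit 6870) Dv.df)))))
(Tr.nd (nat_lit 17892) (Tr.nd (nat_lit 17891) (Tr.lf (Fc.ed (nat_lit 17890) (nat_lit 6870) Col.g (nat_lit 4976) (Dv.wd (nat_lit 9) [Mv.f (nat_lit 13326), Mv.b (nat_lit 13324), Mv.f (nat_lit 17889)])))
(Tr.lf (Fc.ed (nat_lit 17891) (nat_lit 6101) Col.b (nat_lit 6871) Dv.df)))
(Tr.nd (nat_lit 17893) (Tr.lf (Fc.ed (nat_lit 17892) (nat_lit 6871) Col.c (nat_lit 6761) (Dv.wd (nat_lit 93) [Mv.f (nat_lit 17644), Mv.b (nat_lit 17533), Mv.f (nat_lit 15422), Mv.f (nat_lit 15423), Mv.f (nat_lit 17891)])))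
(Tr.nd (nat_lit 17894) (Tr.lf (Fc.ed (nat_lit 17893) (nat_lit 6760) Col.f (nat_lit 6872) Dv.df))
(Tr.lf (Fc.ed (nat_lit 17894) (nat_lit 6605) Col.c (nat_lit 6873) Dv.df))))))
(Tr.nd (nat_lit 17900) (Tr.nd (nat_lit 17897) (Tr.nd (nat_lit 17896) (Tr.lf (Fc.ed (nat_lit 17895) (nat_lit 4950) Col.c (nat_lit 6874) Dv.df))
(Tr.lf (Fc.ed (nat_lit 17896) (nat_lit 6874) Col.b (nat_lit 6772) (Dv.wd (nat_lit 87) [Mv.b (nat_lit 17668), Mv.f (nat_lit 12879), Mv.f (nat_lit 5997), Mv.f (nat_lit 12860), Mv.f (nat_lit 17895)]))))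
(Tr.nd (nat_lit 17898) (Tr.lf (Fc.ed (nat_lit 17897) (nat_lit 6712) Col.c (nat_lit 6875) Dv.df))
(Tr.nd (nat_lit 17899) (Tr.lf (Fc.ed (nat_lit 17898) (nat_lit 6797) Col.d (nat_lit 6876) Dv.df))
(Tr.lf (Fc.ed (nat_lit 17899) (nat_lit 6876) Col.a (nat_lit 6208) (Dv.wd (nat_lit 8) [Mv.f (nat_lit 16705), Mv.b (nat_lit 17720), Mv.f (nat_lit 17898)]))))))
(Tr.nd (nat_lit 17903) (Tr.nd (nat_lit 17901) (Tr.lf (Fc.ed (nat_lit 17900) (nat_lit 6876) Col.b (nat_lit 6507) (Dv.wd (nat_lit 37) [Mv.b (nat_lit 16994), Mv.f (nat_lit 17718), Mv.f (nat_lit 17898)])))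
(Tr.nd (nat_lit 17902) (Tr.lf (Fc.ed (nat_lit 17901) (nat_lit 6876) Col.e (nat_lit 6491) (Dv.wd (nat_lit 42) [Mv.b (nat_lit 16804), Mv.b (nat_lit 14250), Mv.b (nat_lit 13481), Mv.b (nat_lit 17719), Mv.f (nat_lit 17898)])))
(Tr.lf (Fc.ed (nat_lit 17902) (nat_lit 5280) Col.d (nat_lit 6877) Dv.df))))
(Tr.nd (nat_lit 17904) (Tr.lf (Fc.ed (nat_lit 17903) (nat_lit 6877) Col.a (nat_lit 6406) (Dv.wd (nat_lit 8) [Mv.f (nat_lit 16633), Mv.b (nat_lit 16607), Mv.f (nat_lit 17902)])))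
(Tr.nd (nat_lit 17905) (Tr.lf (Fc.ed (nat_lit 17904) (nat_lit 6877) Col.f (nat_lit 6746) (Dv.wd (nat_lit 11) [Mv.b (nat_lit 17608), Mv.b (nat_lit 16609), Mv.f (nat_lit 17902)])))
(Tr.lf (Fc.ed (nat_lit 17905) (nat_lit 6587) Col.c (nat_lit 6878) Dv.df))))))))))
(Tr.nd (nat_lit 17988) (Tr.nd (nat_lit 17947) (Tr.nd (nat_lit 17926) (Tr.nd (nat_lit 17916) (Tr.nd (nat_lit 17911) (Tr.nd (nat_lit 17908) (Tr.nd (nat_lit 17907) (Tr.lf (Fc.ed (nat_lit 17906) (nat_lit 3389) Col.b (nat_lit 6879) Dv.df))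
(Tr.lf (Fc.ed (nat_lit 17907) (nat_lit 6879) Col.f (nat_lit 6235) (Dv.wd (nat_lit 20) [Mv.f (nat_lit 15591), Mv.b (nat_lit 16259), Mv.f (nat_lit 17906)]))))
(Tr.nd (nat_lit 17909) (Tr.lf (Fc.ed (nat_lit 17908) (nat_lit 2726) Col.d (nat_lit 6880) Dv.df))
(Tr.nd (nat_lit 17910) (Tr.lf (Fc.ed (nat_lit 17909) (nat_lit 6459) Col.d (nat_lit 6881) Dv.df))
(Tr.lf (Fc.ed (nat_lit 17910) (nat_lit 6696) Col.c (nat_lit 6882) Dv.df)))))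
(Tr.nd (nat_lit 17913) (Tr.nd (nat_lit 17912) (Tr.lf (Fc.ed (nat_lit 17911) (nat_lit 6607) Col.e (nat_lit 6883) Dv.df))
(Tr.lf (Fc.ed (nat_lit 17912) (nat_lit 6883) Col.b (nat_lit 6804) (Dv.wd (nat_lit 49) [Mv.b (nat_lit 17731), Mv.f (nat_lit 17211), Mv.f (nat_lit 17911)]))))
(Tr.nd (nat_lit 17914) (Tr.lf (Fc.ed (nat_lit 17913) (nat_lit 6883) Col.f (nat_lit 6467) (Dv.wd (nat_lit 96) [Mv.f (nat_lit 16757), Mv.f (nat_lit 12190), Mv.f (nat_lit 11474), Mv.b (nat_lit 17212), Mv.f (nat_lit 17911)])))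
(Tr.nd (nat_lit 17915) (Tr.lf (Fc.ed (nat_lit 17914) (nat_lit 5496) Col.b (nat_lit 6884) Dv.df))
(Tr.lf (Fc.ed (nat_lit 17915) (nat_lit 6884) Col.a (nat_lit 6330) (Dv.wd (nat_lit 98) [Mv.f (nat_lit 17557), Mv.b (nat_lit 6038), Mv.f (nat_lit 10849), Mv.b (nat_lit 14086), Mv.f (nat_lit 17914)])))))))
(Tr.nd (nat_lit 17921) (Tr.nd (nat_lit 17918) (Tr.nd (nat_lit 17917) (Tr.lf (Fc.ed (nat_lit 17916) (nat_lit 6867) Col.a (nat_lit 6885) Dv.df))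
(Tr.lf (Fc.ed (nat_lit 17917) (nat_lit 6885) Col.f (nat_lit 6794) (Dv.wd (nat_lit 35) [Mv.f (nat_lit 17833), Mv.f (nat_lit 17875), Mv.f (nat_lit 17916)]))))
(Tr.nd (nat_lit 17919) (Tr.lf (Fc.ed (nat_lit 17918) (nat_lit 6736) Col.f (nat_lit 6886) Dv.df))
(Tr.nd (nat_lit 17920) (Tr.lf (Fc.ed (nat_lit 17919) (nat_lit 6886) Col.a (nat_lit 5862) (Dv.wd (nat_lit 23) [Mv.f (nat_lit 14851), Mv.b (nat_lit 17587), Mv.f (nat_lit 17918)])))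
(Tr.lf (Fc.ed (nat_lit 17920) (nat_lit 3350) Col.b (nat_lit 6887) Dv.df)))))
(Tr.nd (nat_lit 17923) (Tr.nd (nat_lit 17922) (Tr.lf (Fc.ed (nat_lit 17921) (nat_lit 6887) Col.d (nat_lit 6440) (Dv.wd (nat_lit 58) [Mv.f (nat_lit 16709), Mv.b (nat_lit 10468), Mv.f (nat_lit 17920)])))
(Tr.lf (Fc.ed (nat_lit 17922) (nat_lit 4951) Col.c (nat_lit 6888) Dv.df)))
(Tr.nd (nat_lit 17924) (Tr.lf (Fc.ed (nat_lit 17923) (nat_lit 6841) Col.b (nat_lit 6889) Dv.df))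
(Tr.nd (nat_lit 17925) (Tr.lf (Fc.ed (nat_lit 17924) (nat_lit 5081) Col.d (nat_lit 6890) Dv.df))
(Tr.lf (Fc.ed (nat_lit 17925) (nat_lit 6890) Col.b (nat_lit 5325) (Dv.wd (nat_lit 37) [Mv.f (nat_lit 17162), Mv.f (nat_lit 13172), Mv.f (nat_lit 17924)]))))))))
(Tr.nd (nat_lit 17936) (Tr.nd (nat_lit 17931) (Tr.nd (nat_lit 17928) (Tr.nd (nat_lit 17927) (Tr.lf (Fc.ed (nat_lit 17926) (nat_lit 6787) Col.g (nat_lit 6891) Dv.df))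
(Tr.lf (Fc.ed (nat_lit 17927) (nat_lit 6891) Col.g (nat_lit 6058) (Dv.wd (nat_lit 9) [Mv.f (nat_lit 15261), Mv.f (nat_lit 17698), Mv.f (nat_lit 17926)]))))
(Tr.nd (nat_lit 17929) (Tr.lf (Fc.ed (nat_lit 17928) (nat_lit 6745) Col.c (nat_lit 6892) Dv.df))
(Tr.nd (nat_lit 17930) (Tr.lf (Fc.ed (nat_lit 17929) (nat_lit 6676) Col.g (nat_lit 6893) Dv.df))
(Tr.lf (Fc.ed (nat_lit 17930) (nat_lit 5954) Col.gi (nat_lit 6894) Dv.df)))))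
(Tr.nd (nat_lit 17933) (Tr.nd (nat_lit 17932) (Tr.lf (Fc.ed (nat_lit 17931) (nat_lit 6894) Col.c (nat_lit 6748) (Dv.wd (nat_lit 81) [Mv.f (nat_lit 17616), Mv.b (nat_lit 14762), Mv.b (nat_lit 16648), Mv.b (nat_lit 15348), Mv.f (nat_lit 11506), Mv.b (nat_lit 11322), Mv.f (nat_lit 14965), Mv.b (nat_lit 15049), Mv.f (nat_lit 17930)])))
(Tr.lf (Fc.ed (nat_lit 17932) (nat_lit 5658) Col.f (nat_lit 6895) Dv.df)))
(Tr.nd (nat_lit 17934) (Tr.lf (Fc.ed (nat_lit 17933) (nat_lit 6895) Col.a (nat_lit 6520) (Dv.wd (nat_lit 23) [Mv.b (nat_lit 17031), Mv.f (nat_lit 14396), Mv.f (nat_lit 17932)])))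
(Tr.nd (nat_lit 17935) (Tr.lf (Fc.ed (nat_lit 17934) (nat_lit 6779) Col.d (nat_lit 6896) Dv.df))
(Tr.lf (Fc.ed (nat_lit 17935) (nat_lit 6896) Col.b (nat_lit 6697) (Dv.wd (nat_lit 37) [Mv.b (nat_lit 17484), Mv.f (nat_lit 17682), Mv.f (nat_lit 17934)])))))))
(Tr.nd (nat_lit 17941) (Tr.nd (nat_lit 17938) (Tr.nd (nat_lit 17937) (Tr.lf (Fc.ed (nat_lit 17936) (nat_lit 6896) Col.f (nat_lit 4762) (Dv.wd (nat_lit 11) [Mv.f (nat_lit 14321), Mv.b (nat_lit 17683), Mv.f (nat_lit 17934)])))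
(Tr.lf (Fc.ed (nat_lit 17937) (nat_lit 4662) Col.gi (nat_lit 6897) Dv.df)))
(Tr.nd (nat_lit 17939) (Tr.lf (Fc.ed (nat_lit 17938) (nat_lit 6897) Col.gi (nat_lit 3727) (Dv.wd (nat_lit 24) [Mv.f (nat_lit 9299), Mv.b (nat_lit 11797), Mv.f (nat_lit 17937)])))
(Tr.nd (nat_lit 17940) (Tr.lf (Fc.ed (nat_lit 17939) (nat_lit 6653) Col.d (nat_lit 6898) Dv.df))
(Tr.lf (Fc.ed (nat_lit 17940) (nat_lit 6445) Col.c (nat_lit 6899) Dv.df)))))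
(Tr.nd (nat_lit 17944) (Tr.nd (nat_lit 17942) (Tr.lf (Fc.ed (nat_lit 17941) (nat_lit 4779) Col.c (nat_lit 6900) Dv.df))
(Tr.nd (nat_lit 17943) (Tr.lf (Fc.ed (nat_lit 17942) (nat_lit 6358) Col.gi (nat_lit 6901) Dv.df))
(Tr.lf (Fc.ed (nat_lit 17943) (nat_lit 6901) Col.gi (nat_lit 3903) (Dv.wd (nat_lit 24) [Mv.f (nat_lit 15317), Mv.b (nat_lit 15891), Mv.f (nat_lit 17942)])))))
(Tr.nd (nat_lit 17945) (Tr.lf (Fc.ed (nat_lit 17944) (nat_lit 6879) Col.c (nat_lit 6902) Dv.df))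
(Tr.nd (nat_lit 17946) (Tr.lf (Fc.ed (nat_lit 17945) (nat_lit 6902) Col.f (nat_lit 6343) (Dv.wd (nat_lit 26) [Mv.f (nat_lit 15864), Mv.b (nat_lit 17907), Mv.f (nat_lit 17944)])))
(Tr.lf (Fc.ed (nat_lit 17946) (nat_lit 3927) Col.gi (nat_lit 6903) Dv.df))))))))
(Tr.nd (nat_lit 17967) (Tr.nd (nat_lit 17957) (Tr.nd (nat_lit 17952) (Tr.nd (nat_lit 17949) (Tr.nd (nat_lit 17948) (Tr.lf (Fc.ed (nat_lit 17947) (nat_lit 6903) Col.gi (nat_lit 4079) (Dv.wd (nat_lit 24) [Mv.b (nat_lit 11675), Mv.b (nat_lit 11674), Mv.f (nat_lit 17946)])))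
(Tr.lf (Fc.ed (nat_lit 17948) (nat_lit 5099) Col.b (nat_lit 6904) Dv.df)))
(Tr.nd (nat_lit 17950) (Tr.lf (Fc.ed (nat_lit 17949) (nat_lit 4883) Col.d (nat_lit 6905) Dv.df))
(Tr.nd (nat_lit 17951) (Tr.lf (Fc.ed (nat_lit 17950) (nat_lit 6905) Col.f (nat_lit 6125) (Dv.wd (nat_lit 11) [Mv.f (nat_lit 15389), Mv.b (nat_lit 12721), Mv.f (nat_lit 17949)])))
(Tr.lf (Fc.ed (nat_lit 17951) (nat_lit 4663) Col.a (nat_lit 6906) Dv.df)))))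
(Tr.nd (nat_lit 17954) (Tr.nd (nat_lit 17953) (Tr.lf (Fc.ed (nat_lit 17952) (nat_lit 4433) Col.e (nat_lit 6907) Dv.df))
(Tr.lf (Fc.ed (nat_lit 17953) (nat_lit 6907) Col.a (nat_lit 6716) (Dv.wd (nat_lit 15) [Mv.b (nat_lit 17546), Mv.b (nat_lit 16106), Mv.f (nat_lit 17952)]))))
(Tr.nd (nat_lit 17955) (Tr.lf (Fc.ed (nat_lit 17954) (nat_lit 5870) Col.g (nat_lit 6907) (Dv.wd (nat_lit 9) [Mv.f (nat_lit 17953), Mv.f (nat_lit 17791), Mv.f (nat_lit 17789)])))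
(Tr.nd (nat_lit 17956) (Tr.lf (Fc.ed (nat_lit 17955) (nat_lit 4952) Col.g (nat_lit 6908) Dv.df))
(Tr.lf (Fc.ed (nat_lit 17956) (nat_lit 6908) Col.g (nat_lit 5210) (Dv.wd (nat_lit 9) [Mv.f (nat_lit 13719), Mv.f (nat_lit 13721), Mv.f (nat_lit 17955)])))))))
(Tr.nd (nat_lit 17962) (Tr.nd (nat_lit 17959) (Tr.nd (nat_lit 17958) (Tr.lf (Fc.ed (nat_lit 17957) (nat_lit 5897) Col.a (nat_lit 6909) Dv.df))
(Tr.lf (Fc.ed (nat_lit 17958) (nat_lit 6909) Col.f (nat_lit 6876) (Dv.wd (nat_lit 35) [Mv.f (nat_lit 17899), Mv.b (nat_lit 15532), Mv.f (nat_lit 17957)]))))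
(Tr.nd (nat_lit 17960) (Tr.lf (Fc.ed (nat_lit 17959) (nat_lit 6876) Col.g (nat_lit 6754) (Dv.wd (nat_lit 17) [Mv.b (nat_lit 17629), Mv.f (nat_lit 17957), Mv.f (nat_lit 17958)])))
(Tr.nd (nat_lit 17961) (Tr.lf (Fc.ed (nat_lit 17960) (nat_lit 5178) Col.gi (nat_lit 6910) Dv.df))
(Tr.lf (Fc.ed (nat_lit 17961) (nat_lit 6910) Col.gi (nat_lit 4992) (Dv.wd (nat_lit 24) [Mv.f (nat_lit 12993), Mv.b (nat_lit 13367), Mv.f (nat_lit 17960)]))))))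
(Tr.nd (nat_lit 17964) (Tr.nd (nat_lit 17963) (Tr.lf (Fc.ed (nat_lit 17962) (nat_lit 5145) Col.b (nat_lit 6911) Dv.df))
(Tr.lf (Fc.ed (nat_lit 17963) (nat_lit 6911) Col.f (nat_lit 4758) (Dv.wd (nat_lit 20) [Mv.f (nat_lit 12480), Mv.b (nat_lit 13303), Mv.f (nat_lit 17962)]))))
(Tr.nd (nat_lit 17965) (Tr.lf (Fc.ed (nat_lit 17964) (nat_lit 4381) Col.gi (nat_lit 6912) Dv.df))
(Tr.nd (nat_lit 17966) (Tr.lf (Fc.ed (nat_lit 17965) (nat_lit 6912) Col.gi (nat_lit 5257) (Dv.wd (nat_lit 24) [Mv.b (nat_lit 14013), Mv.f (nat_lit 14012), Mv.f (nat_lit 17964)])))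
(Tr.lf (Fc.ed (nat_lit 17966) (nat_lit 6902) Col.a (nat_lit 6912) (Dv.wd (nat_lit 23) [Mv.f (nat_lit 17965), Mv.b (nat_lit 15863), Mv.b (nat_lit 17945)]))))))))
(Tr.nd (nat_lit 17977) (Tr.nd (nat_lit 17972) (Tr.nd (nat_lit 17969) (Tr.nd (nat_lit 17968) (Tr.lf (Fc.ed (nat_lit 17967) (nat_lit 6912) Col.c (nat_lit 6913) Dv.df))
(Tr.lf (Fc.ed (nat_lit 17968) (nat_lit 6913) Col.a (nat_lit 6879) (Dv.wd (nat_lit 19) [Mv.f (nat_lit 17944), Mv.f (nat_lit 17966), Mv.f (nat_lit 17967)]))))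
(Tr.nd (nat_lit 17970) (Tr.lf (Fc.ed (nat_lit 17969) (nat_lit 6913) Col.b (nat_lit 6914) Dv.df))
(Tr.nd (nat_lit 17971) (Tr.lf (Fc.ed (nat_lit 17970) (nat_lit 6914) Col.a (nat_lit 6781) (Dv.wd (nat_lit 98) [Mv.f (nat_lit 17687), Mv.b (nat_lit 16258), Mv.f (nat_lit 17906), Mv.b (nat_lit 17968), Mv.f (nat_lit 17969)])))
(Tr.lf (Fc.ed (nat_lit 17971) (nat_lit 5199) Col.e (nat_lit 6915) Dv.df)))))
(Tr.nd (nat_lit 17974) (Tr.nd (nat_lit 17973) (Tr.lf (Fc.ed (nat_lit 17972) (nat_lit 6803) Col.gi (nat_lit 6916) Dv.df))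
(Tr.lf (Fc.ed (nat_lit 17973) (nat_lit 6543) Col.f (nat_lit 6917) Dv.df)))
(Tr.nd (nat_lit 17975) (Tr.lf (Fc.ed (nat_lit 17974) (nat_lit 6917) Col.c (nat_lit 6896) (Dv.wd (nat_lit 34) [Mv.f (nat_lit 17936), Mv.f (nat_lit 17072), Mv.f (nat_lit 17973)])))
(Tr.nd (nat_lit 17976) (Tr.lf (Fc.ed (nat_lit 17975) (nat_lit 6854) Col.g (nat_lit 6918) Dv.df))
(Tr.lf (Fc.ed (nat_lit 17976) (nat_lit 5922) Col.a (nat_lit 6919) Dv.df))))))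
(Tr.nd (nat_lit 17982) (Tr.nd (nat_lit 17979) (Tr.nd (nat_lit 17978) (Tr.lf (Fc.ed (nat_lit 17977) (nat_lit 6919) Col.e (nat_lit 5496) (Dv.wd (nat_lit 56) [Mv.f (nat_lit 14086), Mv.b (nat_lit 14983), Mv.f (nat_lit 17976)])))
(Tr.lf (Fc.ed (nat_lit 17978) (nat_lit 6014) Col.d (nat_lit 6920) Dv.df)))
(Tr.nd (nat_lit 17980) (Tr.lf (Fc.ed (nat_lit 17979) (nat_lit 6920) Col.a (nat_lit 6417) (Dv.wd (nat_lit 8) [Mv.b (nat_lit 16662), Mv.b (nat_lit 15186), Mv.f (nat_lit 17978)])))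
(Tr.nd (nat_lit 17981) (Tr.lf (Fc.ed (nat_lit 17980) (nat_lit 6909) Col.gi (nat_lit 6921) Dv.df))
(Tr.lf (Fc.ed (nat_lit 17981) (nat_lit 6921) Col.gi (nat_lit 6208) (Dv.wd (nat_lit 24) [Mv.b (nat_lit 15532), Mv.f (nat_lit 17957), Mv.f (nat_lit 17980)]))))))
(Tr.nd (nat_lit 17985) (Tr.nd (nat_lit 17983) (Tr.lf (Fc.ed (nat_lit 17982) (nat_lit 4797) Col.b (nat_lit 6922) Dv.df))
(Tr.nd (nat_lit 17984) (Tr.lf (Fc.ed (nat_lit 17983) (nat_lit 6922) Col.d (nat_lit 6845) (Dv.wd (nat_lit 58) [Mv.f (nat_lit 17834), Mv.b (nat_lit 12555), Mv.f (nat_lit 17982)])))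
(Tr.lf (Fc.ed (nat_lit 17984) (nat_lit 6922) Col.e (nat_lit 6867) (Dv.wd (nat_lit 52) [Mv.f (nat_lit 17876), Mv.f (nat_lit 12554), Mv.f (nat_lit 17982)])))))
(Tr.nd (nat_lit 17986) (Tr.lf (Fc.ed (nat_lit 17985) (nat_lit 5561) Col.e (nat_lit 6923) Dv.df))
(Tr.nd (nat_lit 17987) (Tr.lf (Fc.ed (nat_lit 17986) (nat_lit 6923) Col.b (nat_lit 5377) (Dv.wd (nat_lit 49) [Mv.b (nat_lit 13815), Mv.b (nat_lit 14202), Mv.f (nat_lit 17985)])))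
(Tr.lf (Fc.ed (nat_lit 17987) (nat_lit 6859) Col.d (nat_lit 6924) Dv.df)))))))))
(Tr.nd (nat_lit 18029) (Tr.nd (nat_lit 18008) (Tr.nd (nat_lit 17998) (Tr.nd (nat_lit 17993) (Tr.nd (nat_lit 17990) (Tr.nd (nat_lit 17989) (Tr.lf (Fc.ed (nat_lit 17988) (nat_lit 6924) Col.b (nat_lit 4508) (Dv.wd (nat_lit 37) [Mv.b (nat_lit 11979), Mv.f (nat_lit 17863), Mv.f (nat_lit 17987)])))
(Tr.lf (Fc.ed (nat_lit 17989) (nat_lit 6693) Col.d (nat_lit 6925) Dv.df)))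
(Tr.nd (nat_lit 17991) (Tr.lf (Fc.ed (nat_lit 17990) (nat_lit 6925) Col.b (nat_lit 4474) (Dv.wd (nat_lit 37) [Mv.b (nat_lit 11453), Mv.f (nat_lit 17439), Mv.f (nat_lit 17989)])))
(Tr.nd (nat_lit 17992) (Tr.lf (Fc.ed (nat_lit 17991) (nat_lit 6833) Col.gi (nat_lit 6925) (Dv.wd (nat_lit 100) [Mv.f (nat_lit 17990), Mv.b (nat_lit 12193), Mv.f (nat_lit 12194), Mv.b (nat_lit 9415), Mv.f (nat_lit 8356), Mv.b (nat_lit 5136), Mv.b (nat_lit 5003), Mv.b (nat_lit 4558), Mv.f (nat_lit 11483), Mv.b (nat_lit 17796)])))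
(Tr.lf (Fc.ed (nat_lit 17992) (nat_lit 6867) Col.c (nat_lit 6926) Dv.df)))))
(Tr.nd (nat_lit 17995) (Tr.nd (nat_lit 17994) (Tr.lf (Fc.ed (nat_lit 17993) (nat_lit 4291) Col.a (nat_lit 6927) Dv.df))
(Tr.lf (Fc.ed (nat_lit 17994) (nat_lit 6147) Col.b (nat_lit 6928) Dv.df)))
(Tr.nd (nat_lit 17996) (Tr.lf (Fc.ed (nat_lit 17995) (nat_lit 6928) Col.d (nat_lit 6146) (Dv.wd (nat_lit 58) [Mv.b (nat_lit 15422), Mv.b (nat_lit 17010), Mv.f (nat_lit 17994)])))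
(Tr.nd (nat_lit 17997) (Tr.lf (Fc.ed (nat_lit 17996) (nat_lit 6928) Col.c (nat_lit 6773) (Dv.wd (nat_lit 135) [Mv.b (nat_lit 17669), Mv.b (nat_lit 12633), Mv.f (nat_lit 7719), Mv.f (nat_lit 3617), Mv.f (nat_lit 3173), Mv.b (nat_lit 3077), Mv.f (nat_lit 3706), Mv.f (nat_lit 7193), Mv.b (nat_lit 15425), Mv.f (nat_lit 17994)])))
(Tr.lf (Fc.ed (nat_lit 17997) (nat_lit 6801) Col.d (nat_lit 6929) Dv.df))))))
(Tr.nd (nat_lit 18003) (Tr.nd (nat_lit 18000) (Tr.nd (nat_lit 17999) (Tr.lf (Fc.ed (nat_lit 17998) (nat_lit 6802) Col.a (nat_lit 6930) Dv.df))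
(Tr.lf (Fc.ed (nat_lit 17999) (nat_lit 6890) Col.c (nat_lit 6931) Dv.df)))
(Tr.nd (nat_lit 18001) (Tr.lf (Fc.ed (nat_lit 18000) (nat_lit 6931) Col.gi (nat_lit 6723) (Dv.wd (nat_lit 88) [Mv.f (nat_lit 17562), Mv.b (nat_lit 9308), Mv.f (nat_lit 12465), Mv.b (nat_lit 14919), Mv.b (nat_lit 14918), Mv.b (nat_lit 14891), Mv.b (nat_lit 12763), Mv.f (nat_lit 13715), Mv.b (nat_lit 17925), Mv.f (nat_lit 17999)])))
(Tr.nd (nat_lit 18002) (Tr.lf (Fc.ed (nat_lit 18001) (nat_lit 5132) Col.d (nat_lit 4372) (Dv.wd (nat_lit 89) [Mv.b (nat_lit 11267), Mv.b (nat_lit 17562), Mv.b (nat_lit 18000), Mv.b (nat_lit 17999), Mv.b (nat_lit 17924), Mv.f (nat_lit 17160), Mv.b (nat_lit 12495), Mv.f (nat_lit 12691), Mv.b (nat_lit 13279)])))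
(Tr.lf (Fc.ed (nat_lit 18002) (nat_lit 6043) Col.d (nat_lit 6561) (Dv.wd (nat_lit 28) [Mv.f (nat_lit 17116), Mv.f (nat_lit 18001), Mv.f (nat_lit 15236)]))))))
(Tr.nd (nat_lit 18005) (Tr.nd (nat_lit 18004) (Tr.lf (Fc.ed (nat_lit 18003) (nat_lit 4171) Col.d (nat_lit 4955) (Dv.wd (nat_lit 48) [Mv.f (nat_lit 12870), Mv.f (nat_lit 6133), Mv.f (nat_lit 13278), Mv.f (nat_lit 18001), Mv.b (nat_lit 11267), Mv.f (nat_lit 9288), Mv.f (nat_lit 8997), Mv.f (nat_lit 9478), Mv.b (nat_lit 10787)])))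
(Tr.lf (Fc.ed (nat_lit 18004) (nat_lit 5537) Col.d (nat_lit 5438) (Dv.wd (nat_lit 28) [Mv.b (nat_lit 13978), Mv.f (nat_lit 18003), Mv.f (nat_lit 14157)]))))
(Tr.nd (nat_lit 18006) (Tr.lf (Fc.ed (nat_lit 18005) (nat_lit 6529) Col.d (nat_lit 6181) (Dv.wd (nat_lit 90) [Mv.b (nat_lit 15488), Mv.f (nat_lit 18003), Mv.b (nat_lit 17048)])))
(Tr.nd (nat_lit 18007) (Tr.lf (Fc.ed (nat_lit 18006) (nat_lit 4501) Col.d (nat_lit 4768) (Dv.wd (nat_lit 28) [Mv.f (nat_lit 17047), Mv.f (nat_lit 18005), Mv.f (nat_lit 15489)])))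
(Tr.lf (Fc.ed (nat_lit 18007) (nat_lit 6307) Col.d (nat_lit 4705) (Dv.wd (nat_lit 51) [Mv.f (nat_lit 11882), Mv.b (nat_lit 5597), Mv.f (nat_lit 6169), Mv.b (nat_lit 6777), Mv.b (nat_lit 11500), Mv.f (nat_lit 18006), Mv.b (nat_lit 12495), Mv.f (nat_lit 12691), Mv.b (nat_lit 15790)]))))))))
(Tr.nd (nat_lit 18018) (Tr.nd (nat_lit 18013) (Tr.nd (nat_lit 18010) (Tr.nd (nat_lit 18009) (Tr.lf (Fc.ed (nat_lit 18008) (nat_lit 4935) Col.f (nat_lit 6932) Dv.df))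
(Tr.lf (Fc.ed (nat_lit 18009) (nat_lit 6932) Col.a (nat_lit 5892) (Dv.wd (nat_lit 16) [Mv.f (nat_lit 16660), Mv.f (nat_lit 16661), Mv.f (nat_lit 18008)]))))
(Tr.nd (nat_lit 18011) (Tr.lf (Fc.ed (nat_lit 18010) (nat_lit 6932) Col.b (nat_lit 6741) (Dv.wd (nat_lit 66) [Mv.f (nat_lit 17597), Mv.b (nat_lit 13172), Mv.f (nat_lit 18008)])))
(Tr.nd (nat_lit 18012) (Tr.lf (Fc.ed (nat_lit 18011) (nat_lit 2201) Col.d (nat_lit 6933) Dv.df))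
(Tr.lf (Fc.ed (nat_lit 18012) (nat_lit 6922) Col.a (nat_lit 6934) Dv.df)))))
(Tr.nd (nat_lit 18015) (Tr.nd (nat_lit 18014) (Tr.lf (Fc.ed (nat_lit 18013) (nat_lit 6934) Col.d (nat_lit 6794) (Dv.wd (nat_lit 28) [Mv.f (nat_lit 17833), Mv.b (nat_lit 17983), Mv.f (nat_lit 18012)])))
(Tr.lf (Fc.ed (nat_lit 18014) (nat_lit 6934) Col.e (nat_lit 6885) (Dv.wd (nat_lit 56) [Mv.b (nat_lit 17916), Mv.b (nat_lit 17984), Mv.f (nat_lit 18012)]))))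
(Tr.nd (nat_lit 18016) (Tr.lf (Fc.ed (nat_lit 18015) (nat_lit 5948) Col.d (nat_lit 6935) Dv.df))
(Tr.nd (nat_lit 18017) (Tr.lf (Fc.ed (nat_lit 18016) (nat_lit 5581) Col.d (nat_lit 6936) Dv.df))
(Tr.lf (Fc.ed (nat_lit 18017) (nat_lit 5473) Col.f (nat_lit 6937) Dv.df))))))
(Tr.nd (nat_lit 18023) (Tr.nd (nat_lit 18020) (Tr.nd (nat_lit 18019) (Tr.lf (Fc.ed (nat_lit 18018) (nat_lit 6937) Col.b (nat_lit 4958) (Dv.wd (nat_lit 66) [Mv.b (nat_lit 13023), Mv.b (nat_lit 14045), Mv.f (nat_lit 18017)])))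
(Tr.lf (Fc.ed (nat_lit 18019) (nat_lit 6840) Col.d (nat_lit 6938) Dv.df)))
(Tr.nd (nat_lit 18021) (Tr.lf (Fc.ed (nat_lit 18020) (nat_lit 6938) Col.f (nat_lit 4766) (Dv.wd (nat_lit 11) [Mv.f (nat_lit 12493), Mv.f (nat_lit 17822), Mv.f (nat_lit 18019)])))
(Tr.nd (nat_lit 18022) (Tr.lf (Fc.ed (nat_lit 18021) (nat_lit 4205) Col.c (nat_lit 6939) Dv.df))
(Tr.lf (Fc.ed (nat_lit 18022) (nat_lit 6709) Col.f (nat_lit 6940) Dv.df)))))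
(Tr.nd (nat_lit 18026) (Tr.nd (nat_lit 18024) (Tr.lf (Fc.ed (nat_lit 18023) (nat_lit 6940) Col.a (nat_lit 6500) (Dv.wd (nat_lit 16) [Mv.b (nat_lit 17016), Mv.b (nat_lit 17534), Mv.f (nat_lit 18022)])))
(Tr.nd (nat_lit 18025) (Tr.lf (Fc.ed (nat_lit 18024) (nat_lit 6940) Col.c (nat_lit 5098) (Dv.wd (nat_lit 34) [Mv.f (nat_lit 17012), Mv.f (nat_lit 17533), Mv.f (nat_lit 18022)])))
(Tr.lf (Fc.ed (nat_lit 18025) (nat_lit 6262) Col.c (nat_lit 6941) Dv.df))))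
(Tr.nd (nat_lit 18027) (Tr.lf (Fc.ed (nat_lit 18026) (nat_lit 6834) Col.g (nat_lit 6942) Dv.df))
(Tr.nd (nat_lit 18028) (Tr.lf (Fc.ed (nat_lit 18027) (nat_lit 4574) Col.gi (nat_lit 6943) Dv.df))
(Tr.lf (Fc.ed (nat_lit 18028) (nat_lit 6875) Col.g (nat_lit 6944) Dv.df))))))))
(Tr.nd (nat_lit 18049) (Tr.nd (nat_lit 18039) (Tr.nd (nat_lit 18034) (Tr.nd (nat_lit 18031) (Tr.nd (nat_lit 18030) (Tr.lf (Fc.ed (nat_lit 18029) (nat_lit 5625) Col.c (nat_lit 6945) Dv.df))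
(Tr.lf (Fc.ed (nat_lit 18030) (nat_lit 6474) Col.gi (nat_lit 6946) Dv.df)))
(Tr.nd (nat_lit 18032) (Tr.lf (Fc.ed (nat_lit 18031) (nat_lit 6529) Col.c (nat_lit 6947) Dv.df))
(Tr.nd (nat_lit 18033) (Tr.lf (Fc.ed (nat_lit 18032) (nat_lit 6947) Col.a (nat_lit 5081) (Dv.wd (nat_lit 19) [Mv.f (nat_lit 17160), Mv.f (nat_lit 17047), Mv.f (nat_lit 18031)])))
(Tr.lf (Fc.ed (nat_lit 18033) (nat_lit 6940) Col.b (nat_lit 6948) Dv.df)))))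
(Tr.nd (nat_lit 18036) (Tr.nd (nat_lit 18035) (Tr.lf (Fc.ed (nat_lit 18034) (nat_lit 6948) Col.f (nat_lit 6761) (Dv.wd (nat_lit 20) [Mv.f (nat_lit 17644), Mv.f (nat_lit 18022), Mv.f (nat_lit 18033)])))
(Tr.lf (Fc.ed (nat_lit 18035) (nat_lit 6948) Col.g (nat_lit 6173) (Dv.wd (nat_lit 118) [Mv.f (nat_lit 15474), Mv.b (nat_lit 14030), Mv.b (nat_lit 6735), Mv.f (nat_lit 6285), Mv.b (nat_lit 3786), Mv.b (nat_lit 8118), Mv.f (nat_lit 8120), Mv.f (nat_lit 13206), Mv.b (nat_lit 18024), Mv.f (nat_lit 18033)]))))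
(Tr.nd (nat_lit 18037) (Tr.lf (Fc.ed (nat_lit 18036) (nat_lit 6835) Col.e (nat_lit 6949) Dv.df))
(Tr.nd (nat_lit 18038) (Tr.lf (Fc.ed (nat_lit 18037) (nat_lit 6787) Col.a (nat_lit 6950) Dv.df))
(Tr.lf (Fc.ed (nat_lit 18038) (nat_lit 6950) Col.f (nat_lit 6058) (Dv.wd (nat_lit 35) [Mv.f (nat_lit 15261), Mv.f (nat_lit 17698), Mv.f (nat_lit 18037)])))))))
(Tr.nd (nat_lit 18044) (Tr.nd (nat_lit 18041) (Tr.nd (nat_lit 18040) (Tr.lf (Fc.ed (nat_lit 18039) (nat_lit 3784) Col.gi (nat_lit 6951) Dv.df))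
(Tr.lf (Fc.ed (nat_lit 18040) (nat_lit 6202) Col.c (nat_lit 6952) Dv.df)))
(Tr.nd (nat_lit 18042) (Tr.lf (Fc.ed (nat_lit 18041) (nat_lit 6952) Col.g (nat_lit 6871) (Dv.wd (nat_lit 105) [Mv.f (nat_lit 17892), Mv.f (nat_lit 17644), Mv.f (nat_lit 17535), Mv.f (nat_lit 17125), Mv.f (nat_lit 17093), Mv.b (nat_lit 8779), Mv.b (nat_lit 9448), Mv.b (nat_lit 9765), Mv.f (nat_lit 15524), Mv.f (nat_lit 18040)])))
(Tr.nd (nat_lit 18043) (Tr.lf (Fc.ed (nat_lit 18042) (nat_lit 4762) Col.g (nat_lit 6953) Dv.df))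
(Tr.lf (Fc.ed (nat_lit 18043) (nat_lit 5810) Col.c (nat_lit 6954) Dv.df)))))
(Tr.nd (nat_lit 18046) (Tr.nd (nat_lit 18045) (Tr.lf (Fc.ed (nat_lit 18044) (nat_lit 6954) Col.a (nat_lit 6740) (Dv.wd (nat_lit 19) [Mv.b (nat_lit 17594), Mv.b (nat_lit 14752), Mv.f (nat_lit 18043)])))
(Tr.lf (Fc.ed (nat_lit 18045) (nat_lit 6831) Col.g (nat_lit 6954) (Dv.wd (nat_lit 9) [Mv.f (nat_lit 18044), Mv.f (nat_lit 17595), Mv.f (nat_lit 17792)]))))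
(Tr.nd (nat_lit 18047) (Tr.lf (Fc.ed (nat_lit 18046) (nat_lit 6937) Col.gi (nat_lit 6955) Dv.df))
(Tr.nd (nat_lit 18048) (Tr.lf (Fc.ed (nat_lit 18047) (nat_lit 6955) Col.b (nat_lit 5516) (Dv.wd (nat_lit 168) [Mv.b (nat_lit 14116), Mv.f (nat_lit 12285), Mv.f (nat_lit 10447), Mv.f (nat_lit 8664), Mv.b (nat_lit 6265), Mv.b (nat_lit 5631), Mv.b (nat_lit 5342), Mv.f (nat_lit 12875), Mv.b (nat_lit 18018), Mv.f (nat_lit 18046)])))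
(Tr.lf (Fc.ed (nat_lit 18048) (nat_lit 5719) Col.gi (nat_lit 6956) Dv.df)))))))
(Tr.nd (nat_lit 18059) (Tr.nd (nat_lit 18054) (Tr.nd (nat_lit 18051) (Tr.nd (nat_lit 18050) (Tr.lf (Fc.ed (nat_lit 18049) (nat_lit 6956) Col.gi (nat_lit 6523) (Dv.wd (nat_lit 24) [Mv.b (nat_lit 17036), Mv.b (nat_lit 14551), Mv.f (nat_lit 18048)])))
(Tr.lf (Fc.ed (nat_lit 18050) (nat_lit 6956) Col.d (nat_lit 6813) (Dv.wd (nat_lit 43) [Mv.b (nat_lit 17752), Mv.b (nat_lit 17234), Mv.b (nat_lit 14558), Mv.f (nat_lit 17540), Mv.f (nat_lit 17541), Mv.f (nat_lit 17356), Mv.f (nat_lit 12303), Mv.b (nat_lit 15109), Mv.b (nat_lit 15111), Mv.f (nat_lit 18048)]))))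
(Tr.nd (nat_lit 18052) (Tr.lf (Fc.ed (nat_lit 18051) (nat_lit 6949) Col.gi (nat_lit 6957) Dv.df))
(Tr.nd (nat_lit 18053) (Tr.lf (Fc.ed (nat_lit 18052) (nat_lit 5120) Col.gi (nat_lit 6958) Dv.df))
(Tr.lf (Fc.ed (nat_lit 18053) (nat_lit 6958) Col.gi (nat_lit 4828) (Dv.wd (nat_lit 24) [Mv.b (nat_lit 12799), Mv.b (nat_lit 13247), Mv.f (nat_lit 18052)]))))))
(Tr.nd (nat_lit 18056) (Tr.nd (nat_lit 18055) (Tr.lf (Fc.ed (nat_lit 18054) (nat_lit 4812) Col.a (nat_lit 6959) Dv.df))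
(Tr.lf (Fc.ed (nat_lit 18055) (nat_lit 6959) Col.c (nat_lit 5400) (Dv.wd (nat_lit 33) [Mv.b (nat_lit 13860), Mv.b (nat_lit 12583), Mv.f (nat_lit 18054)]))))
(Tr.nd (nat_lit 18057) (Tr.lf (Fc.ed (nat_lit 18056) (nat_lit 6959) Col.f (nat_lit 6204) (Dv.wd (nat_lit 35) [Mv.f (nat_lit 15528), Mv.f (nat_lit 12634), Mv.f (nat_lit 18054)])))
(Tr.nd (nat_lit 18058) (Tr.lf (Fc.ed (nat_lit 18057) (nat_lit 6204) Col.g (nat_lit 6259) (Dv.wd (nat_lit 17) [Mv.b (nat_lit 15642), Mv.f (nat_lit 18054), Mv.f (nat_lit 18056)])))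
(Tr.lf (Fc.ed (nat_lit 18058) (nat_lit 5700) Col.d (nat_lit 6065) (Dv.wd (nat_lit 89) [Mv.b (nat_lit 15273), Mv.f (nat_lit 15527), Mv.f (nat_lit 18057), Mv.b (nat_lit 16724), Mv.f (nat_lit 17171), Mv.b (nat_lit 17169), Mv.b (nat_lit 16637), Mv.f (nat_lit 14564), Mv.b (nat_lit 14463)])))))))
(Tr.nd (nat_lit 18064) (Tr.nd (nat_lit 18061) (Tr.nd (nat_lit 18060) (Tr.lf (Fc.ed (nat_lit 18059) (nat_lit 6520) Col.d (nat_lit 5982) (Dv.wd (nat_lit 48) [Mv.b (nat_lit 15127), Mv.b (nat_lit 8351), Mv.f (nat_lit 14462), Mv.f (nat_lit 18058), Mv.b (nat_lit 15273), Mv.f (nat_lit 15198), Mv.f (nat_lit 14400), Mv.f (nat_lit 11426), Mv.b (nat_lit 17032)])))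
(Tr.lf (Fc.ed (nat_lit 18060) (nat_lit 6101) Col.d (nat_lit 6895) (Dv.wd (nat_lit 28) [Mv.f (nat_lit 17933), Mv.f (nat_lit 18059), Mv.b (nat_lit 17174)]))))
(Tr.nd (nat_lit 18062) (Tr.lf (Fc.ed (nat_lit 18061) (nat_lit 5658) Col.d (nat_lit 6408) (Dv.wd (nat_lit 90) [Mv.f (nat_lit 17173), Mv.f (nat_lit 18060), Mv.b (nat_lit 17932)])))
(Tr.nd (nat_lit 18063) (Tr.lf (Fc.ed (nat_lit 18062) (nat_lit 6452) Col.d (nat_lit 6294) (Dv.wd (nat_lit 51) [Mv.b (nat_lit 15764), Mv.b (nat_lit 8036), Mv.f (nat_lit 8434), Mv.f (nat_lit 8823), Mv.f (nat_lit 14396), Mv.f (nat_lit 18061), Mv.b (nat_lit 16637), Mv.f (nat_lit 14564), Mv.f (nat_lit 16729)])))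
(Tr.lf (Fc.ed (nat_lit 18063) (nat_lit 6773) Col.gi (nat_lit 6959) (Dv.wd (nat_lit 24) [Mv.f (nat_lit 18056), Mv.f (nat_lit 15528), Mv.f (nat_lit 17669)]))))))
(Tr.nd (nat_lit 18067) (Tr.nd (nat_lit 18065) (Tr.lf (Fc.ed (nat_lit 18064) (nat_lit 3935) Col.d (nat_lit 6010) (Dv.wd (nat_lit 89) [Mv.f (nat_lit 15178), Mv.b (nat_lit 14300), Mv.f (nat_lit 15343), Mv.b (nat_lit 15423), Mv.b (nat_lit 17995), Mv.f (nat_lit 17996), Mv.f (nat_lit 18063), Mv.f (nat_lit 18055), Mv.f (nat_lit 13861)])))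
(Tr.nd (nat_lit 18066) (Tr.lf (Fc.ed (nat_lit 18065) (nat_lit 5615) Col.d (nat_lit 5470) (Dv.wd (nat_lit 51) [Mv.f (nat_lit 14039), Mv.b (nat_lit 14212), Mv.f (nat_lit 14211), Mv.f (nat_lit 14017), Mv.f (nat_lit 13861), Mv.f (nat_lit 18064), Mv.b (nat_lit 15177), Mv.f (nat_lit 7907), Mv.b (nat_lit 14309)])))
(Tr.lf (Fc.ed (nat_lit 18066) (nat_lit 6767) Col.gi (nat_lit 6960) Dv.df))))
(Tr.nd (nat_lit 18068) (Tr.lf (Fc.ed (nat_lit 18067) (nat_lit 3272) Col.c (nat_lit 6961) Dv.df))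
(Tr.nd (nat_lit 18069) (Tr.lf (Fc.ed (nat_lit 18068) (nat_lit 6935) Col.g (nat_lit 6962) Dv.df))
(Tr.lf (Fc.ed (nat_lit 18069) (nat_lit 6506) Col.gi (nat_lit 6963) Dv.df)))))))))))
(Tr.nd (nat_lit 18234) (Tr.nd (nat_lit 18152) (Tr.nd (nat_lit 18111) (Tr.nd (nat_lit 18090) (Tr.nd (nat_lit 18080) (Tr.nd (nat_lit 18075) (Tr.nd (nat_lit 18072) (Tr.nd (nat_lit 18071) (Tr.lf (Fc.ed (nat_lit 18070) (nat_lit 6794) Col.c (nat_lit 6964) Dv.df))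
(Tr.lf (Fc.ed (nat_lit 18071) (nat_lit 6896) Col.g (nat_lit 6965) Dv.df)))
(Tr.nd (nat_lit 18073) (Tr.lf (Fc.ed (nat_lit 18072) (nat_lit 6965) Col.g (nat_lit 5625) (Dv.wd (nat_lit 9) [Mv.f (nat_lit 14329), Mv.b (nat_lit 17936), Mv.f (nat_lit 18071)])))
(Tr.nd (nat_lit 18074) (Tr.lf (Fc.ed (nat_lit 18073) (nat_lit 6813) Col.e (nat_lit 6966) Dv.df))
(Tr.lf (Fc.ed (nat_lit 18074) (nat_lit 6760) Col.b (nat_lit 6967) Dv.df)))))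
(Tr.nd (nat_lit 18077) (Tr.nd (nat_lit 18076) (Tr.lf (Fc.ed (nat_lit 18075) (nat_lit 6967) Col.c (nat_lit 6462) (Dv.wd (nat_lit 93) [Mv.b (nat_lit 16977), Mv.b (nat_lit 16879), Mv.f (nat_lit 14440), Mv.f (nat_lit 17642), Mv.f (nat_lit 18074)])))
(Tr.lf (Fc.ed (nat_lit 18076) (nat_lit 6593) Col.gi (nat_lit 6968) Dv.df)))
(Tr.nd (nat_lit 18078) (Tr.lf (Fc.ed (nat_lit 18077) (nat_lit 6905) Col.a (nat_lit 6969) Dv.df))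
(Tr.nd (nat_lit 18079) (Tr.lf (Fc.ed (nat_lit 18078) (nat_lit 6969) Col.d (nat_lit 5760) (Dv.wd (nat_lit 28) [Mv.b (nat_lit 14624), Mv.f (nat_lit 17949), Mv.f (nat_lit 18077)])))
(Tr.lf (Fc.ed (nat_lit 18079) (nat_lit 6969) Col.f (nat_lit 6661) (Dv.wd (nat_lit 35) [Mv.f (nat_lit 17380), Mv.b (nat_lit 17950), Mv.f (nat_lit 18077)])))))))
(Tr.nd (nat_lit 18085) (Tr.nd (nat_lit 18082) (Tr.nd (nat_lit 18081) (Tr.lf (Fc.ed (nat_lit 18080) (nat_lit 6851) Col.e (nat_lit 6970) Dv.df))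
(Tr.lf (Fc.ed (nat_lit 18081) (nat_lit 6970) Col.b (nat_lit 6614) (Dv.wd (nat_lit 49) [Mv.f (nat_lit 17225), Mv.f (nat_lit 17853), Mv.f (nat_lit 18080)]))))
(Tr.nd (nat_lit 18083) (Tr.lf (Fc.ed (nat_lit 18082) (nat_lit 6133) Col.e (nat_lit 6971) Dv.df))
(Tr.nd (nat_lit 18084) (Tr.lf (Fc.ed (nat_lit 18083) (nat_lit 6971) Col.b (nat_lit 6548) (Dv.wd (nat_lit 49) [Mv.f (nat_lit 17082), Mv.b (nat_lit 15404), Mv.f (nat_lit 18082)])))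
(Tr.lf (Fc.ed (nat_lit 18084) (nat_lit 5317) Col.g (nat_lit 6972) Dv.df)))))
(Tr.nd (nat_lit 18087) (Tr.nd (nat_lit 18086) (Tr.lf (Fc.ed (nat_lit 18085) (nat_lit 6972) Col.g (nat_lit 3087) (Dv.wd (nat_lit 9) [Mv.f (nat_lit 13808), Mv.f (nat_lit 13810), Mv.f (nat_lit 18084)])))
(Tr.lf (Fc.ed (nat_lit 18086) (nat_lit 6624) Col.f (nat_lit 6973) Dv.df)))
(Tr.nd (nat_lit 18088) (Tr.lf (Fc.ed (nat_lit 18087) (nat_lit 6865) Col.gi (nat_lit 6974) Dv.df))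
(Tr.nd (nat_lit 18089) (Tr.lf (Fc.ed (nat_lit 18088) (nat_lit 6836) Col.d (nat_lit 6975) Dv.df))
(Tr.lf (Fc.ed (nat_lit 18089) (nat_lit 6975) Col.e (nat_lit 6903) (Dv.wd (nat_lit 74) [Mv.f (nat_lit 17947), Mv.b (nat_lit 9944), Mv.b (nat_lit 10887), Mv.f (nat_lit 13715), Mv.f (nat_lit 17162), Mv.b (nat_lit 12828), Mv.f (nat_lit 7450), Mv.b (nat_lit 12597), Mv.b (nat_lit 17801), Mv.f (nat_lit 18088)]))))))))
(Tr.nd (nat_lit 18100) (Tr.nd (nat_lit 18095) (Tr.nd (nat_lit 18092) (Tr.nd (nat_lit 18091) (Tr.lf (Fc.ed (nat_lit 18090) (nat_lit 6681) Col.e (nat_lit 6976) Dv.df))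
(Tr.lf (Fc.ed (nat_lit 18091) (nat_lit 6976) Col.a (nat_lit 6858) (Dv.wd (nat_lit 15) [Mv.b (nat_lit 17862), Mv.b (nat_lit 17748), Mv.f (nat_lit 18090)]))))
(Tr.nd (nat_lit 18093) (Tr.lf (Fc.ed (nat_lit 18092) (nat_lit 6976) Col.f (nat_lit 6591) (Dv.wd (nat_lit 96) [Mv.b (nat_lit 17185), Mv.f (nat_lit 11957), Mv.b (nat_lit 15324), Mv.b (nat_lit 17417), Mv.f (nat_lit 18090)])))
(Tr.nd (nat_lit 18094) (Tr.lf (Fc.ed (nat_lit 18093) (nat_lit 6507) Col.g (nat_lit 6977) Dv.df))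
(Tr.lf (Fc.ed (nat_lit 18094) (nat_lit 6567) Col.e (nat_lit 6978) Dv.df)))))
(Tr.nd (nat_lit 18097) (Tr.nd (nat_lit 18096) (Tr.lf (Fc.ed (nat_lit 18095) (nat_lit 6978) Col.a (nat_lit 6028) (Dv.wd (nat_lit 15) [Mv.f (nat_lit 15212), Mv.f (nat_lit 17126), Mv.f (nat_lit 18094)])))
(Tr.lf (Fc.ed (nat_lit 18096) (nat_lit 6753) Col.f (nat_lit 6979) Dv.df)))
(Tr.nd (nat_lit 18098) (Tr.lf (Fc.ed (nat_lit 18097) (nat_lit 6979) Col.a (nat_lit 6757) (Dv.wd (nat_lit 23) [Mv.f (nat_lit 17636), Mv.b (nat_lit 17628), Mv.f (nat_lit 18096)])))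
(Tr.nd (nat_lit 18099) (Tr.lf (Fc.ed (nat_lit 18098) (nat_lit 6861) Col.gi (nat_lit 6980) Dv.df))
(Tr.lf (Fc.ed (nat_lit 18099) (nat_lit 4842) Col.d (nat_lit 6981) Dv.df))))))
(Tr.nd (nat_lit 18105) (Tr.nd (nat_lit 18102) (Tr.nd (nat_lit 18101) (Tr.lf (Fc.ed (nat_lit 18100) (nat_lit 6981) Col.f (nat_lit 6098) (Dv.wd (nat_lit 11) [Mv.b (nat_lit 15339), Mv.b (nat_lit 12639), Mv.f (nat_lit 18099)])))
(Tr.lf (Fc.ed (nat_lit 18101) (nat_lit 6961) Col.e (nat_lit 6982) Dv.df)))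
(Tr.nd (nat_lit 18103) (Tr.lf (Fc.ed (nat_lit 18102) (nat_lit 6982) Col.c (nat_lit 4243) (Dv.wd (nat_lit 18) [Mv.f (nat_lit 17266), Mv.f (nat_lit 18067), Mv.f (nat_lit 18101)])))
(Tr.nd (nat_lit 18104) (Tr.lf (Fc.ed (nat_lit 18103) (nat_lit 6865) Col.f (nat_lit 6983) Dv.df))
(Tr.lf (Fc.ed (nat_lit 18104) (nat_lit 6983) Col.d (nat_lit 3075) (Dv.wd (nat_lit 21) [Mv.f (nat_lit 7996), Mv.f (nat_lit 17873), Mv.f (nat_lit 18103)]))))))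
(Tr.nd (nat_lit 18108) (Tr.nd (nat_lit 18106) (Tr.lf (Fc.ed (nat_lit 18105) (nat_lit 6678) Col.b (nat_lit 6984) Dv.df))
(Tr.nd (nat_lit 18107) (Tr.lf (Fc.ed (nat_lit 18106) (nat_lit 5948) Col.gi (nat_lit 6985) Dv.df))
(Tr.lf (Fc.ed (nat_lit 18107) (nat_lit 5755) Col.f (nat_lit 6986) Dv.df))))
(Tr.nd (nat_lit 18109) (Tr.lf (Fc.ed (nat_lit 18108) (nat_lit 6986) Col.b (nat_lit 6973) (Dv.wd (nat_lit 66) [Mv.b (nat_lit 18086), Mv.f (nat_lit 17248), Mv.f (nat_lit 18107)])))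
(Tr.nd (nat_lit 18110) (Tr.lf (Fc.ed (nat_lit 18109) (nat_lit 6621) Col.d (nat_lit 6987) Dv.df))
(Tr.lf (Fc.ed (nat_lit 18110) (nat_lit 6987) Col.b (nat_lit 3841) (Dv.wd (nat_lit 37) [Mv.b (nat_lit 9502), Mv.f (nat_lit 17238), Mv.f (nat_lit 18109)])))))))))
(Tr.nd (nat_lit 18131) (Tr.nd (nat_lit 18121) (Tr.nd (nat_lit 18116) (Tr.nd (nat_lit 18113) (Tr.nd (nat_lit 18112) (Tr.lf (Fc.ed (nat_lit 18111) (nat_lit 6136) Col.f (nat_lit 6988) Dv.df))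
(Tr.lf (Fc.ed (nat_lit 18112) (nat_lit 6476) Col.d (nat_lit 6989) Dv.df)))
(Tr.nd (nat_lit 18114) (Tr.lf (Fc.ed (nat_lit 18113) (nat_lit 6989) Col.a (nat_lit 6167) (Dv.wd (nat_lit 8) [Mv.b (nat_lit 15462), Mv.b (nat_lit 16776), Mv.f (nat_lit 18112)])))
(Tr.nd (nat_lit 18115) (Tr.lf (Fc.ed (nat_lit 18114) (nat_lit 6406) Col.g (nat_lit 6990) Dv.df))
(Tr.lf (Fc.ed (nat_lit 18115) (nat_lit 6990) Col.g (nat_lit 6746) (Dv.wd (nat_lit 9) [Mv.f (nat_lit 17609), Mv.b (nat_lit 16634), Mv.f (nat_lit 18114)]))))))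
(Tr.nd (nat_lit 18118) (Tr.nd (nat_lit 18117) (Tr.lf (Fc.ed (nat_lit 18116) (nat_lit 3433) Col.c (nat_lit 6991) Dv.df))
(Tr.lf (Fc.ed (nat_lit 18117) (nat_lit 4965) Col.c (nat_lit 6992) Dv.df)))
(Tr.nd (nat_lit 18119) (Tr.lf (Fc.ed (nat_lit 18118) (nat_lit 6640) Col.e (nat_lit 6993) Dv.df))
(Tr.nd (nat_lit 18120) (Tr.lf (Fc.ed (nat_lit 18119) (nat_lit 6943) Col.f (nat_lit 6994) Dv.df))
(Tr.lf (Fc.ed (nat_lit 18120) (nat_lit 6315) Col.c (nat_lit 6995) Dv.df))))))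
(Tr.nd (nat_lit 18126) (Tr.nd (nat_lit 18123) (Tr.nd (nat_lit 18122) (Tr.lf (Fc.ed (nat_lit 18121) (nat_lit 5136) Col.b (nat_lit 6996) Dv.df))
(Tr.lf (Fc.ed (nat_lit 18122) (nat_lit 6996) Col.d (nat_lit 5589) (Dv.wd (nat_lit 58) [Mv.f (nat_lit 14259), Mv.b (nat_lit 13287), Mv.f (nat_lit 18121)]))))
(Tr.nd (nat_lit 18124) (Tr.lf (Fc.ed (nat_lit 18123) (nat_lit 5533) Col.d (nat_lit 6997) Dv.df))
(Tr.nd (nat_lit 18125) (Tr.lf (Fc.ed (nat_lit 18124) (nat_lit 6997) Col.gi (nat_lit 6186) (Dv.wd (nat_lit 50) [Mv.f (nat_lit 15496), Mv.b (nat_lit 15963), Mv.b (nat_lit 15801), Mv.b (nat_lit 13494), Mv.b (nat_lit 13004), Mv.f (nat_lit 13003), Mv.f (nat_lit 13704), Mv.b (nat_lit 14149), Mv.f (nat_lit 18123)])))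
(Tr.lf (Fc.ed (nat_lit 18125) (nat_lit 6574) Col.gi (nat_lit 6997) (Dv.wd (nat_lit 12) [Mv.f (nat_lit 18124), Mv.b (nat_lit 15495), Mv.b (nat_lit 17137)]))))))
(Tr.nd (nat_lit 18128) (Tr.nd (nat_lit 18127) (Tr.lf (Fc.ed (nat_lit 18126) (nat_lit 6367) Col.b (nat_lit 6998) Dv.df))
(Tr.lf (Fc.ed (nat_lit 18127) (nat_lit 6537) Col.a (nat_lit 6999) Dv.df)))
(Tr.nd (nat_lit 18129) (Tr.lf (Fc.ed (nat_lit 18128) (nat_lit 6999) Col.f (nat_lit 4291) (Dv.wd (nat_lit 10) [Mv.f (nat_lit 11046), Mv.f (nat_lit 17061), Mv.f (nat_lit 18127)])))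
(Tr.nd (nat_lit 18130) (Tr.lf (Fc.ed (nat_lit 18129) (nat_lit 6537) Col.f (nat_lit 6927) (Dv.wd (nat_lit 35) [Mv.b (nat_lit 17993), Mv.b (nat_lit 18128), Mv.b (nat_lit 18127)])))
(Tr.lf (Fc.ed (nat_lit 18130) (nat_lit 3906) Col.gi (nat_lit 6537) (Dv.wd (nat_lit 24) [Mv.f (nat_lit 18129), Mv.b (nat_lit 17993), Mv.b (nat_lit 11045)]))))))))
(Tr.nd (nat_lit 18141) (Tr.nd (nat_lit 18136) (Tr.nd (nat_lit 18133) (Tr.nd (nat_lit 18132) (Tr.lf (Fc.ed (nat_lit 18131) (nat_lit 6590) Col.b (nat_lit 5350) (Dv.wd (nat_lit 101) [Mv.f (nat_lit 13761), Mv.f (nat_lit 6955), Mv.f (nat_lit 6179), Mv.b (nat_lit 13948), Mv.f (nat_lit 14484), Mv.f (nat_lit 8891), Mv.f (nat_lit 8531), Mv.b (nat_lit 9606), Mv.f (nat_lit 18130), Mv.f (nat_lit 17184)])))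
(Tr.lf (Fc.ed (nat_lit 18132) (nat_lit 6801) Col.b (nat_lit 7000) Dv.df)))
(Tr.nd (nat_lit 18134) (Tr.lf (Fc.ed (nat_lit 18133) (nat_lit 6991) Col.a (nat_lit 7001) Dv.df))
(Tr.nd (nat_lit 18135) (Tr.lf (Fc.ed (nat_lit 18134) (nat_lit 7001) Col.c (nat_lit 4380) (Dv.wd (nat_lit 33) [Mv.f (nat_lit 16090), Mv.f (nat_lit 18116), Mv.f (nat_lit 18133)])))
(Tr.lf (Fc.ed (nat_lit 18135) (nat_lit 5235) Col.g (nat_lit 7002) Dv.df)))))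
(Tr.nd (nat_lit 18138) (Tr.nd (nat_lit 18137) (Tr.lf (Fc.ed (nat_lit 18136) (nat_lit 7002) Col.g (nat_lit 4883) (Dv.wd (nat_lit 9) [Mv.f (nat_lit 14624), Mv.f (nat_lit 14626), Mv.f (nat_lit 18135)])))
(Tr.lf (Fc.ed (nat_lit 18137) (nat_lit 6968) Col.c (nat_lit 7003) Dv.df)))
(Tr.nd (nat_lit 18139) (Tr.lf (Fc.ed (nat_lit 18138) (nat_lit 7003) Col.b (nat_lit 4372) (Dv.wd (nat_lit 101) [Mv.f (nat_lit 11268), Mv.f (nat_lit 5598), Mv.f (nat_lit 3173), Mv.b (nat_lit 3168), Mv.b (nat_lit 3411), Mv.b (nat_lit 3755), Mv.b (nat_lit 6722), Mv.b (nat_lit 17192), Mv.f (nat_lit 18076), Mv.f (nat_lit 18137)])))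
(Tr.nd (nat_lit 18140) (Tr.lf (Fc.ed (nat_lit 18139) (nat_lit 5709) Col.d (nat_lit 7003) (Dv.wd (nat_lit 116) [Mv.f (nat_lit 18138), Mv.b (nat_lit 18001), Mv.f (nat_lit 14475)])))
(Tr.lf (Fc.ed (nat_lit 18140) (nat_lit 6997) Col.b (nat_lit 7004) Dv.df))))))
(Tr.nd (nat_lit 18146) (Tr.nd (nat_lit 18143) (Tr.nd (nat_lit 18142) (Tr.lf (Fc.ed (nat_lit 18141) (nat_lit 7004) Col.c (nat_lit 6816) (Dv.wd (nat_lit 156) [Mv.f (nat_lit 17758), Mv.f (nat_lit 14400), Mv.b (nat_lit 14578), Mv.b (nat_lit 15444), Mv.b (nat_lit 15443), Mv.f (nat_lit 15218), Mv.b (nat_lit 13889), Mv.f (nat_lit 17135), Mv.f (nat_lit 18125), Mv.f (nat_lit 18140)])))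
(Tr.lf (Fc.ed (nat_lit 18142) (nat_lit 5822) Col.a (nat_lit 7005) Dv.df)))
(Tr.nd (nat_lit 18144) (Tr.lf (Fc.ed (nat_lit 18143) (nat_lit 7005) Col.c (nat_lit 6768) (Dv.wd (nat_lit 33) [Mv.f (nat_lit 17661), Mv.f (nat_lit 15640), Mv.f (nat_lit 18142)])))
(Tr.nd (nat_lit 18145) (Tr.lf (Fc.ed (nat_lit 18144) (nat_lit 7005) Col.e (nat_lit 6358) (Dv.wd (nat_lit 56) [Mv.f (nat_lit 15891), Mv.f (nat_lit 15319), Mv.f (nat_lit 18142)])))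
(Tr.lf (Fc.ed (nat_lit 18145) (nat_lit 7005) Col.f (nat_lit 5648) (Dv.wd (nat_lit 35) [Mv.b (nat_lit 14375), Mv.b (nat_lit 14771), Mv.f (nat_lit 18142)]))))))
(Tr.nd (nat_lit 18149) (Tr.nd (nat_lit 18147) (Tr.lf (Fc.ed (nat_lit 18146) (nat_lit 6720) Col.a (nat_lit 7006) Dv.df))
(Tr.nd (nat_lit 18148) (Tr.lf (Fc.ed (nat_lit 18147) (nat_lit 7006) Col.f (nat_lit 6884) (Dv.wd (nat_lit 35) [Mv.f (nat_lit 17915), Mv.b (nat_lit 17556), Mv.f (nat_lit 18146)])))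
(Tr.lf (Fc.ed (nat_lit 18148) (nat_lit 6423) Col.c (nat_lit 7007) Dv.df))))
(Tr.nd (nat_lit 18150) (Tr.lf (Fc.ed (nat_lit 18149) (nat_lit 4619) Col.b (nat_lit 7008) Dv.df))
(Tr.nd (nat_lit 18151) (Tr.lf (Fc.ed (nat_lit 18150) (nat_lit 6965) Col.b (nat_lit 7009) Dv.df))
(Tr.lf (Fc.ed (nat_lit 18151) (nat_lit 5066) Col.g (nat_lit 7010) Dv.df)))))))))
(Tr.nd (nat_lit 18193) (Tr.nd (nat_lit 18172) (Tr.nd (nat_lit 18162) (Tr.nd (nat_lit 18157) (Tr.nd (nat_lit 18154) (Tr.nd (nat_lit 18153) (Tr.lf (Fc.ed (nat_lit 18152) (nat_lit 7010) Col.g (nat_lit 6877) (Dv.wd (nat_lit 9) [Mv.f (nat_lit 17903), Mv.f (nat_lit 16634), Mv.f (nat_lit 18151)])))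
(Tr.lf (Fc.ed (nat_lit 18153) (nat_lit 6166) Col.d (nat_lit 7011) Dv.df)))
(Tr.nd (nat_lit 18155) (Tr.lf (Fc.ed (nat_lit 18154) (nat_lit 6992) Col.gi (nat_lit 7012) Dv.df))
(Tr.nd (nat_lit 18156) (Tr.lf (Fc.ed (nat_lit 18155) (nat_lit 5982) Col.b (nat_lit 7013) Dv.df))
(Tr.lf (Fc.ed (nat_lit 18156) (nat_lit 7013) Col.c (nat_lit 7002) (Dv.wd (nat_lit 135) [Mv.f (nat_lit 18136), Mv.b (nat_lit 13063), Mv.b (nat_lit 13064), Mv.f (nat_lit 4966), Mv.f (nat_lit 4805), Mv.b (nat_lit 3813), Mv.b (nat_lit 6711), Mv.b (nat_lit 8354), Mv.f (nat_lit 15127), Mv.f (nat_lit 18155)]))))))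
(Tr.nd (nat_lit 18159) (Tr.nd (nat_lit 18158) (Tr.lf (Fc.ed (nat_lit 18157) (nat_lit 6149) Col.a (nat_lit 7014) Dv.df))
(Tr.lf (Fc.ed (nat_lit 18158) (nat_lit 7014) Col.d (nat_lit 6339) (Dv.wd (nat_lit 28) [Mv.b (nat_lit 15854), Mv.b (nat_lit 15818), Mv.f (nat_lit 18157)]))))
(Tr.nd (nat_lit 18160) (Tr.lf (Fc.ed (nat_lit 18159) (nat_lit 7014) Col.f (nat_lit 6263) (Dv.wd (nat_lit 10) [Mv.b (nat_lit 15648), Mv.f (nat_lit 15427), Mv.f (nat_lit 18157)])))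
(Tr.nd (nat_lit 18161) (Tr.lf (Fc.ed (nat_lit 18160) (nat_lit 5625) Col.f (nat_lit 7015) Dv.df))
(Tr.lf (Fc.ed (nat_lit 18161) (nat_lit 7015) Col.a (nat_lit 6896) (Dv.wd (nat_lit 16) [Mv.f (nat_lit 17936), Mv.b (nat_lit 14329), Mv.f (nat_lit 18160)])))))))
(Tr.nd (nat_lit 18167) (Tr.nd (nat_lit 18164) (Tr.nd (nat_lit 18163) (Tr.lf (Fc.ed (nat_lit 18162) (nat_lit 7015) Col.d (nat_lit 6986) (Dv.wd (nat_lit 21) [Mv.b (nat_lit 18107), Mv.f (nat_lit 14615), Mv.f (nat_lit 18160)])))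
(Tr.lf (Fc.ed (nat_lit 18163) (nat_lit 6953) Col.g (nat_lit 7015) (Dv.wd (nat_lit 9) [Mv.f (nat_lit 18161), Mv.f (nat_lit 17936), Mv.f (nat_lit 18042)]))))
(Tr.nd (nat_lit 18165) (Tr.lf (Fc.ed (nat_lit 18164) (nat_lit 6911) Col.a (nat_lit 7016) Dv.df))
(Tr.nd (nat_lit 18166) (Tr.lf (Fc.ed (nat_lit 18165) (nat_lit 7016) Col.f (nat_lit 6861) (Dv.wd (nat_lit 35) [Mv.f (nat_lit 17867), Mv.b (nat_lit 17963), Mv.f (nat_lit 18164)])))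
(Tr.lf (Fc.ed (nat_lit 18166) (nat_lit 3087) Col.e (nat_lit 7017) Dv.df)))))
(Tr.nd (nat_lit 18169) (Tr.nd (nat_lit 18168) (Tr.lf (Fc.ed (nat_lit 18167) (nat_lit 6585) Col.f (nat_lit 7018) Dv.df))
(Tr.lf (Fc.ed (nat_lit 18168) (nat_lit 5930) Col.gi (nat_lit 7019) Dv.df)))
(Tr.nd (nat_lit 18170) (Tr.lf (Fc.ed (nat_lit 18169) (nat_lit 7019) Col.gi (nat_lit 6838) (Dv.wd (nat_lit 24) [Mv.b (nat_lit 17806), Mv.f (nat_lit 17363), Mv.f (nat_lit 18168)])))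
(Tr.nd (nat_lit 18171) (Tr.lf (Fc.ed (nat_lit 18170) (nat_lit 5946) Col.a (nat_lit 7020) Dv.df))
(Tr.lf (Fc.ed (nat_lit 18171) (nat_lit 7020) Col.e (nat_lit 5529) (Dv.wd (nat_lit 56) [Mv.f (nat_lit 14142), Mv.f (nat_lit 15033), Mv.f (nat_lit 18170)]))))))))
(Tr.nd (nat_lit 18182) (Tr.nd (nat_lit 18177) (Tr.nd (nat_lit 18174) (Tr.nd (nat_lit 18173) (Tr.lf (Fc.ed (nat_lit 18172) (nat_lit 6029) Col.a (nat_lit 7021) Dv.df))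
(Tr.lf (Fc.ed (nat_lit 18173) (nat_lit 7021) Col.f (nat_lit 6599) (Dv.wd (nat_lit 10) [Mv.f (nat_lit 17200), Mv.b (nat_lit 15214), Mv.f (nat_lit 18172)]))))
(Tr.nd (nat_lit 18175) (Tr.lf (Fc.ed (nat_lit 18174) (nat_lit 7016) Col.gi (nat_lit 7022) Dv.df))
(Tr.nd (nat_lit 18176) (Tr.lf (Fc.ed (nat_lit 18175) (nat_lit 7022) Col.gi (nat_lit 4758) (Dv.wd (nat_lit 24) [Mv.b (nat_lit 17963), Mv.f (nat_lit 18164), Mv.f (nat_lit 18174)])))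
(Tr.lf (Fc.ed (nat_lit 18176) (nat_lit 5301) Col.f (nat_lit 7023) Dv.df)))))
(Tr.nd (nat_lit 18179) (Tr.nd (nat_lit 18178) (Tr.lf (Fc.ed (nat_lit 18177) (nat_lit 7023) Col.a (nat_lit 5611) (Dv.wd (nat_lit 16) [Mv.b (nat_lit 15096), Mv.b (nat_lit 15095), Mv.f (nat_lit 18176)])))
(Tr.lf (Fc.ed (nat_lit 18178) (nat_lit 6891) Col.d (nat_lit 7024) Dv.df)))
(Tr.nd (nat_lit 18180) (Tr.lf (Fc.ed (nat_lit 18179) (nat_lit 6148) Col.d (nat_lit 7025) Dv.df))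
(Tr.nd (nat_lit 18181) (Tr.lf (Fc.ed (nat_lit 18180) (nat_lit 7025) Col.e (nat_lit 7011) (Dv.wd (nat_lit 42) [Mv.b (nat_lit 18153), Mv.f (nat_lit 15461), Mv.b (nat_lit 10437), Mv.f (nat_lit 15426), Mv.f (nat_lit 18179)])))
(Tr.lf (Fc.ed (nat_lit 18181) (nat_lit 6810) Col.g (nat_lit 7026) Dv.df))))))
(Tr.nd (nat_lit 18187) (Tr.nd (nat_lit 18184) (Tr.nd (nat_lit 18183) (Tr.lf (Fc.ed (nat_lit 18182) (nat_lit 7011) Col.gi (nat_lit 7027) Dv.df))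
(Tr.lf (Fc.ed (nat_lit 18183) (nat_lit 7027) Col.d (nat_lit 5926) (Dv.wd (nat_lit 53) [Mv.b (nat_lit 15126), Mv.b (nat_lit 17751), Mv.f (nat_lit 15324), Mv.f (nat_lit 10546), Mv.f (nat_lit 6656), Mv.f (nat_lit 4045), Mv.b (nat_lit 6109), Mv.b (nat_lit 15461), Mv.f (nat_lit 18153), Mv.f (nat_lit 18182)]))))
(Tr.nd (nat_lit 18185) (Tr.lf (Fc.ed (nat_lit 18184) (nat_lit 6757) Col.e (nat_lit 6777) (Dv.wd (nat_lit 146) [Mv.b (nat_lit 17674), Mv.f (nat_lit 17679), Mv.f (nat_lit 10935), Mv.f (nat_lit 5065), Mv.b (nat_lit 6109), Mv.b (nat_lit 15461), Mv.f (nat_lit 18153), Mv.f (nat_lit 18182), Mv.f (nat_lit 18183), Mv.f (nat_lit 17635)])))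
(Tr.nd (nat_lit 18186) (Tr.lf (Fc.ed (nat_lit 18185) (nat_lit 5275) Col.e (nat_lit 7028) Dv.df))
(Tr.lf (Fc.ed (nat_lit 18186) (nat_lit 7028) Col.d (nat_lit 6980) (Dv.wd (nat_lit 91) [Mv.b (nat_lit 18098), Mv.f (nat_lit 17868), Mv.f (nat_lit 14646), Mv.f (nat_lit 14240), Mv.b (nat_lit 15819), Mv.b (nat_lit 11946), Mv.b (nat_lit 7547), Mv.b (nat_lit 8372), Mv.f (nat_lit 13579), Mv.f (nat_lit 18185)]))))))
(Tr.nd (nat_lit 18190) (Tr.nd (nat_lit 18188) (Tr.lf (Fc.ed (nat_lit 18187) (nat_lit 4197) Col.b (nat_lit 7029) Dv.df))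
(Tr.nd (nat_lit 18189) (Tr.lf (Fc.ed (nat_lit 18188) (nat_lit 5949) Col.e (nat_lit 7030) Dv.df))
(Tr.lf (Fc.ed (nat_lit 18189) (nat_lit 7030) Col.a (nat_lit 6915) (Dv.wd (nat_lit 15) [Mv.b (nat_lit 17971), Mv.f (nat_lit 15037), Mv.f (nat_lit 18188)])))))
(Tr.nd (nat_lit 18191) (Tr.lf (Fc.ed (nat_lit 18190) (nat_lit 5371) Col.f (nat_lit 7031) Dv.df))
(Tr.nd (nat_lit 18192) (Tr.lf (Fc.ed (nat_lit 18191) (nat_lit 7031) Col.b (nat_lit 6744) (Dv.wd (nat_lit 66) [Mv.b (nat_lit 17603), Mv.f (nat_lit 13804), Mv.f (nat_lit 18190)])))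
(Tr.lf (Fc.ed (nat_lit 18192) (nat_lit 4839) Col.f (nat_lit 7032) Dv.df))))))))
(Tr.nd (nat_lit 18213) (Tr.nd (nat_lit 18203) (Tr.nd (nat_lit 18198) (Tr.nd (nat_lit 18195) (Tr.nd (nat_lit 18194) (Tr.lf (Fc.ed (nat_lit 18193) (nat_lit 7032) Col.c (nat_lit 6592) (Dv.wd (nat_lit 34) [Mv.b (nat_lit 17187), Mv.f (nat_lit 12631), Mv.f (nat_lit 18192)])))
(Tr.lf (Fc.ed (nat_lit 18194) (nat_lit 6506) Col.g (nat_lit 7033) Dv.df)))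
(Tr.nd (nat_lit 18196) (Tr.lf (Fc.ed (nat_lit 18195) (nat_lit 7033) Col.e (nat_lit 7024) (Dv.wd (nat_lit 47) [Mv.b (nat_lit 18178), Mv.f (nat_lit 17927), Mv.b (nat_lit 15260), Mv.f (nat_lit 14618), Mv.b (nat_lit 10432), Mv.b (nat_lit 10145), Mv.b (nat_lit 9331), Mv.b (nat_lit 10424), Mv.b (nat_lit 16993), Mv.f (nat_lit 18194)])))
(Tr.nd (nat_lit 18197) (Tr.lf (Fc.ed (nat_lit 18196) (nat_lit 6501) Col.c (nat_lit 7034) Dv.df))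
(Tr.lf (Fc.ed (nat_lit 18197) (nat_lit 3802) Col.g (nat_lit 7035) Dv.df)))))
(Tr.nd (nat_lit 18200) (Tr.nd (nat_lit 18199) (Tr.lf (Fc.ed (nat_lit 18198) (nat_lit 6897) Col.f (nat_lit 7036) Dv.df))
(Tr.lf (Fc.ed (nat_lit 18199) (nat_lit 7036) Col.a (nat_lit 5820) (Dv.wd (nat_lit 23) [Mv.f (nat_lit 14768), Mv.f (nat_lit 17937), Mv.f (nat_lit 18198)]))))
(Tr.nd (nat_lit 18201) (Tr.lf (Fc.ed (nat_lit 18200) (nat_lit 6715) Col.b (nat_lit 7037) Dv.df))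
(Tr.nd (nat_lit 18202) (Tr.lf (Fc.ed (nat_lit 18201) (nat_lit 6995) Col.b (nat_lit 7038) Dv.df))
(Tr.lf (Fc.ed (nat_lit 18202) (nat_lit 7038) Col.c (nat_lit 6842) (Dv.wd (nat_lit 93) [Mv.f (nat_lit 17828), Mv.b (nat_lit 16823), Mv.b (nat_lit 16822), Mv.f (nat_lit 18120), Mv.f (nat_lit 18201)])))))))
(Tr.nd (nat_lit 18208) (Tr.nd (nat_lit 18205) (Tr.nd (nat_lit 18204) (Tr.lf (Fc.ed (nat_lit 18203) (nat_lit 6982) Col.f (nat_lit 7039) Dv.df))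
(Tr.lf (Fc.ed (nat_lit 18204) (nat_lit 7039) Col.c (nat_lit 4623) (Dv.wd (nat_lit 34) [Mv.f (nat_lit 17274), Mv.b (nat_lit 18102), Mv.f (nat_lit 18203)]))))
(Tr.nd (nat_lit 18206) (Tr.lf (Fc.ed (nat_lit 18205) (nat_lit 6998) Col.c (nat_lit 7040) Dv.df))
(Tr.nd (nat_lit 18207) (Tr.lf (Fc.ed (nat_lit 18206) (nat_lit 6983) Col.g (nat_lit 7041) Dv.df))
(Tr.lf (Fc.ed (nat_lit 18207) (nat_lit 2278) Col.gi (nat_lit 7042) Dv.df)))))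
(Tr.nd (nat_lit 18210) (Tr.nd (nat_lit 18209) (Tr.lf (Fc.ed (nat_lit 18208) (nat_lit 7042) Col.f (nat_lit 6659) (Dv.wd (nat_lit 13) [Mv.f (nat_lit 17376), Mv.f (nat_lit 15859), Mv.f (nat_lit 18207)])))
(Tr.lf (Fc.ed (nat_lit 18209) (nat_lit 6238) Col.d (nat_lit 7042) (Dv.wd (nat_lit 90) [Mv.f (nat_lit 18208), Mv.b (nat_lit 17375), Mv.b (nat_lit 15599)]))))
(Tr.nd (nat_lit 18211) (Tr.lf (Fc.ed (nat_lit 18210) (nat_lit 4976) Col.g (nat_lit 7043) Dv.df))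
(Tr.nd (nat_lit 18212) (Tr.lf (Fc.ed (nat_lit 18211) (nat_lit 7043) Col.g (nat_lit 5157) (Dv.wd (nat_lit 9) [Mv.f (nat_lit 13325), Mv.b (nat_lit 13062), Mv.f (nat_lit 18210)])))
(Tr.lf (Fc.ed (nat_lit 18212) (nat_lit 5314) Col.d (nat_lit 7044) Dv.df)))))))
(Tr.nd (nat_lit 18223) (Tr.nd (nat_lit 18218) (Tr.nd (nat_lit 18215) (Tr.nd (nat_lit 18214) (Tr.lf (Fc.ed (nat_lit 18213) (nat_lit 7044) Col.b (nat_lit 5007) (Dv.wd (nat_lit 37) [Mv.f (nat_lit 13018), Mv.b (nat_lit 13697), Mv.f (nat_lit 18212)])))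
(Tr.lf (Fc.ed (nat_lit 18214) (nat_lit 7044) Col.f (nat_lit 6996) (Dv.wd (nat_lit 11) [Mv.f (nat_lit 18122), Mv.f (nat_lit 14258), Mv.f (nat_lit 18212)]))))
(Tr.nd (nat_lit 18216) (Tr.lf (Fc.ed (nat_lit 18215) (nat_lit 5651) Col.f (nat_lit 7045) Dv.df))
(Tr.nd (nat_lit 18217) (Tr.lf (Fc.ed (nat_lit 18216) (nat_lit 7045) Col.a (nat_lit 7031) (Dv.wd (nat_lit 16) [Mv.b (nat_lit 18190), Mv.f (nat_lit 14381), Mv.f (nat_lit 18215)])))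
(Tr.lf (Fc.ed (nat_lit 18217) (nat_lit 7045) Col.b (nat_lit 7015) (Dv.wd (nat_lit 66) [Mv.b (nat_lit 18160), Mv.b (nat_lit 14383), Mv.f (nat_lit 18215)]))))))
(Tr.nd (nat_lit 18220) (Tr.nd (nat_lit 18219) (Tr.lf (Fc.ed (nat_lit 18218) (nat_lit 7045) Col.d (nat_lit 6973) (Dv.wd (nat_lit 21) [Mv.b (nat_lit 18086), Mv.b (nat_lit 17246), Mv.f (nat_lit 18215)])))
(Tr.lf (Fc.ed (nat_lit 18219) (nat_lit 6794) Col.e (nat_lit 7046) Dv.df)))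
(Tr.nd (nat_lit 18221) (Tr.lf (Fc.ed (nat_lit 18220) (nat_lit 6936) Col.c (nat_lit 7047) Dv.df))
(Tr.nd (nat_lit 18222) (Tr.lf (Fc.ed (nat_lit 18221) (nat_lit 5164) Col.b (nat_lit 7048) Dv.df))
(Tr.lf (Fc.ed (nat_lit 18222) (nat_lit 6136) Col.gi (nat_lit 7049) Dv.df))))))
(Tr.nd (nat_lit 18228) (Tr.nd (nat_lit 18225) (Tr.nd (nat_lit 18224) (Tr.lf (Fc.ed (nat_lit 18223) (nat_lit 5785) Col.g (nat_lit 7050) Dv.df))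
(Tr.lf (Fc.ed (nat_lit 18224) (nat_lit 7050) Col.g (nat_lit 5285) (Dv.wd (nat_lit 9) [Mv.f (nat_lit 13600), Mv.b (nat_lit 14695), Mv.f (nat_lit 18223)]))))
(Tr.nd (nat_lit 18226) (Tr.lf (Fc.ed (nat_lit 18225) (nat_lit 6992) Col.g (nat_lit 7051) Dv.df))
(Tr.nd (nat_lit 18227) (Tr.lf (Fc.ed (nat_lit 18226) (nat_lit 5074) Col.c (nat_lit 7052) Dv.df))
(Tr.lf (Fc.ed (nat_lit 18227) (nat_lit 5838) Col.b (nat_lit 7053) Dv.df)))))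
(Tr.nd (nat_lit 18231) (Tr.nd (nat_lit 18229) (Tr.lf (Fc.ed (nat_lit 18228) (nat_lit 6974) Col.gi (nat_lit 7054) Dv.df))
(Tr.nd (nat_lit 18230) (Tr.lf (Fc.ed (nat_lit 18229) (nat_lit 3375) Col.c (nat_lit 7055) Dv.df))
(Tr.lf (Fc.ed (nat_lit 18230) (nat_lit 6865) Col.a (nat_lit 7056) Dv.df))))
(Tr.nd (nat_lit 18232) (Tr.lf (Fc.ed (nat_lit 18231) (nat_lit 7056) Col.d (nat_lit 3540) (Dv.wd (nat_lit 28) [Mv.f (nat_lit 8940), Mv.f (nat_lit 17873), Mv.f (nat_lit 18230)])))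
(Tr.nd (nat_lit 18233) (Tr.lf (Fc.ed (nat_lit 18232) (nat_lit 7056) Col.gi (nat_lit 7041) (Dv.wd (nat_lit 12) [Mv.b (nat_lit 18206), Mv.b (nat_lit 18103), Mv.f (nat_lit 18230)])))
(Tr.lf (Fc.ed (nat_lit 18233) (nat_lit 7056) Col.f (nat_lit 7054) (Dv.wd (nat_lit 10) [Mv.b (nat_lit 18228), Mv.b (nat_lit 18087), Mv.f (nat_lit 18230)])))))))))))
(Tr.nd (nat_lit 18316) (Tr.nd (nat_lit 18275) (Tr.nd (nat_lit 18254) (Tr.nd (nat_lit 18244) (Tr.nd (nat_lit 18239) (Tr.nd (nat_lit 18236) (Tr.nd (nat_lit 18235) (Tr.lf (Fc.ed (nat_lit 18234) (nat_lit 6983) Col.a (nat_lit 7054) (Dv.wd (nat_lit 79) [Mv.b (nat_lit 18233), Mv.b (nat_lit 18230), Mv.f (nat_lit 18103)])))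
(Tr.lf (Fc.ed (nat_lit 18235) (nat_lit 7054) Col.d (nat_lit 4806) (Dv.wd (nat_lit 28) [Mv.b (nat_lit 12569), Mv.b (nat_lit 18104), Mv.f (nat_lit 18234)]))))
(Tr.nd (nat_lit 18237) (Tr.lf (Fc.ed (nat_lit 18236) (nat_lit 7041) Col.d (nat_lit 6915) (Dv.wd (nat_lit 53) [Mv.b (nat_lit 17971), Mv.b (nat_lit 13425), Mv.f (nat_lit 7419), Mv.b (nat_lit 6132), Mv.b (nat_lit 6314), Mv.b (nat_lit 6313), Mv.f (nat_lit 6118), Mv.f (nat_lit 8941), Mv.b (nat_lit 18231), Mv.f (nat_lit 18232)])))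
(Tr.nd (nat_lit 18238) (Tr.lf (Fc.ed (nat_lit 18237) (nat_lit 6915) Col.c (nat_lit 5027) (Dv.wd (nat_lit 110) [Mv.b (nat_lit 13055), Mv.f (nat_lit 10901), Mv.b (nat_lit 8905), Mv.f (nat_lit 12876), Mv.f (nat_lit 16945), Mv.f (nat_lit 13145), Mv.b (nat_lit 18104), Mv.f (nat_lit 18206), Mv.f (nat_lit 18236)])))
(Tr.lf (Fc.ed (nat_lit 18238) (nat_lit 4730) Col.c (nat_lit 5199) (Dv.wd (nat_lit 109) [Mv.f (nat_lit 17971), Mv.f (nat_lit 18237), Mv.f (nat_lit 13056)]))))))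
(Tr.nd (nat_lit 18241) (Tr.nd (nat_lit 18240) (Tr.lf (Fc.ed (nat_lit 18239) (nat_lit 5949) Col.c (nat_lit 5105) (Dv.wd (nat_lit 33) [Mv.b (nat_lit 13216), Mv.f (nat_lit 18238), Mv.f (nat_lit 15037)])))
(Tr.lf (Fc.ed (nat_lit 18240) (nat_lit 3943) Col.c (nat_lit 4997) (Dv.wd (nat_lit 67) [Mv.b (nat_lit 15038), Mv.f (nat_lit 18239), Mv.f (nat_lit 13217)]))))
(Tr.nd (nat_lit 18242) (Tr.lf (Fc.ed (nat_lit 18241) (nat_lit 2993) Col.c (nat_lit 4175) (Dv.wd (nat_lit 135) [Mv.b (nat_lit 10792), Mv.f (nat_lit 8003), Mv.b (nat_lit 8045), Mv.b (nat_lit 9709), Mv.f (nat_lit 18240), Mv.f (nat_lit 12998), Mv.b (nat_lit 7418), Mv.f (nat_lit 5246), Mv.f (nat_lit 7589), Mv.f (nat_lit 16935)])))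
(Tr.nd (nat_lit 18243) (Tr.lf (Fc.ed (nat_lit 18242) (nat_lit 4551) Col.c (nat_lit 4093) (Dv.wd (nat_lit 33) [Mv.b (nat_lit 9967), Mv.f (nat_lit 18241), Mv.f (nat_lit 11589)])))
(Tr.lf (Fc.al (nat_lit 18243) (nat_lit 4801) (nat_lit 5000) (Dv.wd (nat_lit 81) [Mv.f (nat_lit 13006), Mv.b (nat_lit 9973), Mv.f (nat_lit 3236), Mv.b (nat_lit 7813), Mv.f (nat_lit 18241), Mv.b (nat_lit 10792), Mv.f (nat_lit 8003), Mv.f (nat_lit 7467), Mv.b (nat_lit 7774), Mv.b (nat_lit 12562)])))))))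
(Tr.nd (nat_lit 18249) (Tr.nd (nat_lit 18246) (Tr.nd (nat_lit 18245) (Tr.lf (Fc.ed (nat_lit 18244) (nat_lit 4801) Col.a (nat_lit 4792) (Dv.wd (nat_lit 29) [Mv.f (nat_lit 13005), Mv.b (nat_lit 18243)])))
(Tr.lf (Fc.ed (nat_lit 18245) (nat_lit 4801) Col.c (nat_lit 2284) (Dv.wd (nat_lit 103) [Mv.b (nat_lit 13006), Mv.b (nat_lit 18243)]))))
(Tr.nd (nat_lit 18247) (Tr.lf (Fc.ed (nat_lit 18246) (nat_lit 4801) Col.f (nat_lit 5234) (Dv.wd (nat_lit 30) [Mv.b (nat_lit 13695), Mv.b (nat_lit 18243)])))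
(Tr.nd (nat_lit 18248) (Tr.lf (Fc.ed (nat_lit 18247) (nat_lit 3275) Col.c (nat_lit 5696) (Dv.wd (nat_lit 142) [Mv.b (nat_lit 14454), Mv.b (nat_lit 8641), Mv.f (nat_lit 8045), Mv.b (nat_lit 7590), Mv.f (nat_lit 16935), Mv.f (nat_lit 18241), Mv.f (nat_lit 10793), Mv.b (nat_lit 5180), Mv.f (nat_lit 8409), Mv.b (nat_lit 16922)])))
(Tr.lf (Fc.ed (nat_lit 18248) (nat_lit 4730) Col.b (nat_lit 4730) (Dv.wd (nat_lit 154) [Mv.f (nat_lit 18238), Mv.b (nat_lit 13425), Mv.b (nat_lit 7418), Mv.f (nat_lit 5246), Mv.f (nat_lit 8409), Mv.b (nat_lit 16922), Mv.f (nat_lit 18247), Mv.b (nat_lit 14454), Mv.b (nat_lit 8641), Mv.f (nat_lit 11928)]))))))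
(Tr.nd (nat_lit 18251) (Tr.nd (nat_lit 18250) (Tr.lf (Fc.ed (nat_lit 18249) (nat_lit 5027) Col.b (nat_lit 5027) (Dv.wd (nat_lit 127) [Mv.f (nat_lit 13056), Mv.f (nat_lit 18248), Mv.b (nat_lit 13056)])))
(Tr.lf (Fc.ed (nat_lit 18250) (nat_lit 5563) Col.c (nat_lit 4481) (Dv.wd (nat_lit 130) [Mv.b (nat_lit 11465), Mv.f (nat_lit 8629), Mv.b (nat_lit 7644), Mv.b (nat_lit 11929), Mv.f (nat_lit 18248), Mv.f (nat_lit 18238), Mv.f (nat_lit 13426), Mv.f (nat_lit 12473), Mv.b (nat_lit 11355), Mv.f (nat_lit 14206)]))))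
(Tr.nd (nat_lit 18252) (Tr.lf (Fc.ed (nat_lit 18251) (nat_lit 5563) Col.b (nat_lit 5563) (Dv.wd (nat_lit 104) [Mv.f (nat_lit 18250), Mv.b (nat_lit 11465), Mv.f (nat_lit 8629), Mv.b (nat_lit 7644), Mv.b (nat_lit 11929), Mv.f (nat_lit 18238), Mv.f (nat_lit 13426), Mv.f (nat_lit 12473), Mv.b (nat_lit 11355), Mv.f (nat_lit 14206)])))
(Tr.nd (nat_lit 18253) (Tr.lf (Fc.ed (nat_lit 18252) (nat_lit 4551) Col.gi (nat_lit 2051) (Dv.wd (nat_lit 88) [Mv.b (nat_lit 5685), Mv.b (nat_lit 5150), Mv.b (nat_lit 14207), Mv.f (nat_lit 18251), Mv.f (nat_lit 18250), Mv.f (nat_lit 11466), Mv.b (nat_lit 8376), Mv.b (nat_lit 13152), Mv.b (nat_lit 16939), Mv.b (nat_lit 18242)])))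
(Tr.lf (Fc.al (nat_lit 18253) (nat_lit 3763) (nat_lit 4175) (Dv.wd (nat_lit 23) [Mv.f (nat_lit 11589), Mv.f (nat_lit 18252), Mv.f (nat_lit 8454), Mv.f (nat_lit 9359)]))))))))
(Tr.nd (nat_lit 18264) (Tr.nd (nat_lit 18259) (Tr.nd (nat_lit 18256) (Tr.nd (nat_lit 18255) (Tr.lf (Fc.ed (nat_lit 18254) (nat_lit 3763) Col.g (nat_lit 3078) (Dv.wd (nat_lit 129) [Mv.f (nat_lit 10792), Mv.b (nat_lit 18253)])))
(Tr.lf (Fc.ed (nat_lit 18255) (nat_lit 3763) Col.gi (nat_lit 1805) (Dv.wd (nat_lit 128) [Mv.b (nat_lit 10793), Mv.b (nat_lit 18253)]))))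
(Tr.nd (nat_lit 18257) (Tr.lf (Fc.ed (nat_lit 18256) (nat_lit 3763) Col.a (nat_lit 4551) (Dv.wd (nat_lit 29) [Mv.b (nat_lit 11589), Mv.b (nat_lit 18253)])))
(Tr.nd (nat_lit 18258) (Tr.lf (Fc.ed (nat_lit 18257) (nat_lit 3763) Col.c (nat_lit 2993) (Dv.wd (nat_lit 103) [Mv.f (nat_lit 18241), Mv.b (nat_lit 18253)])))
(Tr.lf (Fc.ed (nat_lit 18258) (nat_lit 3763) Col.d (nat_lit 6413) (Dv.wd (nat_lit 120) [Mv.f (nat_lit 16880), Mv.b (nat_lit 18253)]))))))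
(Tr.nd (nat_lit 18261) (Tr.nd (nat_lit 18260) (Tr.lf (Fc.ed (nat_lit 18259) (nat_lit 2938) Col.gi (nat_lit 4551) (Dv.wd (nat_lit 12) [Mv.f (nat_lit 18252), Mv.b (nat_lit 8004), Mv.f (nat_lit 8002)])))
(Tr.lf (Fc.al (nat_lit 18260) (nat_lit 4318) (nat_lit 5346) (Dv.wd (nat_lit 23) [Mv.b (nat_lit 13754), Mv.f (nat_lit 8455), Mv.f (nat_lit 18259), Mv.f (nat_lit 11590)]))))
(Tr.nd (nat_lit 18262) (Tr.lf (Fc.ed (nat_lit 18261) (nat_lit 4318) Col.a (nat_lit 3300) (Dv.wd (nat_lit 29) [Mv.f (nat_lit 13754), Mv.b (nat_lit 18260)])))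
(Tr.nd (nat_lit 18263) (Tr.lf (Fc.ed (nat_lit 18262) (nat_lit 3042) Col.gi (nat_lit 5696) (Dv.wd (nat_lit 102) [Mv.b (nat_lit 18247), Mv.b (nat_lit 8402), Mv.b (nat_lit 7800), Mv.b (nat_lit 7699), Mv.f (nat_lit 18259), Mv.f (nat_lit 18242), Mv.f (nat_lit 16939), Mv.b (nat_lit 13151), Mv.b (nat_lit 7644), Mv.f (nat_lit 7911)])))
(Tr.lf (Fc.ed (nat_lit 18263) (nat_lit 4202) Col.c (nat_lit 5857) (Dv.wd (nat_lit 138) [Mv.b (nat_lit 14826), Mv.b (nat_lit 8266), Mv.b (nat_lit 7645), Mv.f (nat_lit 7911), Mv.f (nat_lit 18262), Mv.b (nat_lit 18247), Mv.b (nat_lit 8402), Mv.b (nat_lit 8263), Mv.f (nat_lit 10842)])))))))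
(Tr.nd (nat_lit 18269) (Tr.nd (nat_lit 18266) (Tr.nd (nat_lit 18265) (Tr.lf (Fc.ed (nat_lit 18264) (nat_lit 3539) Col.c (nat_lit 5816) (Dv.wd (nat_lit 109) [Mv.b (nat_lit 14761), Mv.f (nat_lit 18257), Mv.b (nat_lit 8938)])))
(Tr.lf (Fc.ed (nat_lit 18265) (nat_lit 4035) Col.c (nat_lit 3300) (Dv.wd (nat_lit 67) [Mv.f (nat_lit 9359), Mv.f (nat_lit 18257), Mv.f (nat_lit 9864)]))))
(Tr.nd (nat_lit 18267) (Tr.lf (Fc.ed (nat_lit 18266) (nat_lit 4318) Col.c (nat_lit 2173) (Dv.wd (nat_lit 33) [Mv.b (nat_lit 9865), Mv.f (nat_lit 18265), Mv.b (nat_lit 18261)])))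
(Tr.nd (nat_lit 18268) (Tr.lf (Fc.ed (nat_lit 18267) (nat_lit 1789) Col.gi (nat_lit 5212) (Dv.wd (nat_lit 157) [Mv.b (nat_lit 16936), Mv.f (nat_lit 18265), Mv.f (nat_lit 8455), Mv.f (nat_lit 7699), Mv.f (nat_lit 7800), Mv.b (nat_lit 13152), Mv.b (nat_lit 16939), Mv.b (nat_lit 18242), Mv.f (nat_lit 18252), Mv.b (nat_lit 5685)])))
(Tr.lf (Fc.ed (nat_lit 18268) (nat_lit 5212) Col.gi (nat_lit 2786) (Dv.wd (nat_lit 24) [Mv.b (nat_lit 7373), Mv.f (nat_lit 5153), Mv.f (nat_lit 18267)]))))))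
(Tr.nd (nat_lit 18272) (Tr.nd (nat_lit 18270) (Tr.lf (Fc.al (nat_lit 18269) (nat_lit 3618) (nat_lit 4370) (Dv.wd (nat_lit 12) [Mv.f (nat_lit 11265), Mv.f (nat_lit 18267), Mv.f (nat_lit 13453), Mv.f (nat_lit 9082)])))
(Tr.nd (nat_lit 18271) (Tr.lf (Fc.ed (nat_lit 18270) (nat_lit 3618) Col.g (nat_lit 2786) (Dv.wd (nat_lit 129) [Mv.f (nat_lit 11264), Mv.b (nat_lit 18269)])))
(Tr.lf (Fc.ed (nat_lit 18271) (nat_lit 3618) Col.gi (nat_lit 1789) (Dv.wd (nat_lit 128) [Mv.b (nat_lit 11265), Mv.b (nat_lit 18269)])))))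
(Tr.nd (nat_lit 18273) (Tr.lf (Fc.al (nat_lit 18272) (nat_lit 5215) (nat_lit 4384) (Dv.wd (nat_lit 117) [Mv.f (nat_lit 11293), Mv.b (nat_lit 18269), Mv.f (nat_lit 13456)])))
(Tr.nd (nat_lit 18274) (Tr.lf (Fc.ed (nat_lit 18273) (nat_lit 4384) Col.c (nat_lit 5660) (Dv.wd (nat_lit 103) [Mv.f (nat_lit 16970), Mv.f (nat_lit 18272)])))
(Tr.lf (Fc.al (nat_lit 18274) (nat_lit 2684) (nat_lit 4332) (Dv.wd (nat_lit 120) [Mv.f (nat_lit 13458), Mv.f (nat_lit 18272), Mv.b (nat_lit 11292)])))))))))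
(Tr.nd (nat_lit 18295) (Tr.nd (nat_lit 18285) (Tr.nd (nat_lit 18280) (Tr.nd (nat_lit 18277) (Tr.nd (nat_lit 18276) (Tr.lf (Fc.ed (nat_lit 18275) (nat_lit 4384) Col.e (nat_lit 3618) (Dv.wd (nat_lit 117) [Mv.f (nat_lit 13456), Mv.f (nat_lit 18272)])))
(Tr.lf (Fc.al (nat_lit 18276) (nat_lit 4339) (nat_lit 3026) (Dv.wd (nat_lit 29) [Mv.f (nat_lit 11121), Mv.b (nat_lit 18274), Mv.f (nat_lit 11133)]))))
(Tr.nd (nat_lit 18278) (Tr.lf (Fc.ed (nat_lit 18277) (nat_lit 2684) Col.c (nat_lit 4471) (Dv.wd (nat_lit 103) [Mv.b (nat_lit 16923), Mv.b (nat_lit 18274)])))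
(Tr.nd (nat_lit 18279) (Tr.lf (Fc.al (nat_lit 18278) (nat_lit 3730) (nat_lit 2715) (Dv.wd (nat_lit 30) [Mv.b (nat_lit 11122), Mv.b (nat_lit 18274), Mv.f (nat_lit 9304)])))
(Tr.lf (Fc.al (nat_lit 18279) (nat_lit 3360) (nat_lit 5085) (Dv.wd (nat_lit 119) [Mv.b (nat_lit 16956), Mv.f (nat_lit 18276), Mv.f (nat_lit 16926)]))))))
(Tr.nd (nat_lit 18282) (Tr.nd (nat_lit 18281) (Tr.lf (Fc.ed (nat_lit 18280) (nat_lit 2715) Col.d (nat_lit 4637) (Dv.wd (nat_lit 120) [Mv.b (nat_lit 11753), Mv.f (nat_lit 18278)])))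
(Tr.lf (Fc.al (nat_lit 18281) (nat_lit 5305) (nat_lit 4247) (Dv.wd (nat_lit 29) [Mv.b (nat_lit 13179), Mv.b (nat_lit 18279), Mv.f (nat_lit 13639)]))))
(Tr.nd (nat_lit 18283) (Tr.lf (Fc.al (nat_lit 18282) (nat_lit 3947) (nat_lit 4411) (Dv.wd (nat_lit 30) [Mv.f (nat_lit 13178), Mv.b (nat_lit 18279), Mv.b (nat_lit 9720)])))
(Tr.nd (nat_lit 18284) (Tr.lf (Fc.al (nat_lit 18283) (nat_lit 4295) (nat_lit 5024) (Dv.wd (nat_lit 120) [Mv.b (nat_lit 13640), Mv.f (nat_lit 18281), Mv.b (nat_lit 11053)])))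
(Tr.lf (Fc.ed (nat_lit 18284) (nat_lit 3947) Col.g (nat_lit 2721) (Dv.wd (nat_lit 129) [Mv.b (nat_lit 11345), Mv.b (nat_lit 18282)])))))))
(Tr.nd (nat_lit 18290) (Tr.nd (nat_lit 18287) (Tr.nd (nat_lit 18286) (Tr.lf (Fc.ed (nat_lit 18285) (nat_lit 4295) Col.b (nat_lit 5127) (Dv.wd (nat_lit 119) [Mv.f (nat_lit 16940), Mv.b (nat_lit 18283)])))
(Tr.lf (Fc.al (nat_lit 18286) (nat_lit 3240) (nat_lit 4093) (Dv.wd (nat_lit 117) [Mv.b (nat_lit 13052), Mv.b (nat_lit 18283), Mv.b (nat_lit 11052)]))))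
(Tr.nd (nat_lit 18288) (Tr.lf (Fc.ed (nat_lit 18287) (nat_lit 4295) Col.f (nat_lit 5296) (Dv.wd (nat_lit 30) [Mv.f (nat_lit 13642), Mv.b (nat_lit 18283)])))
(Tr.nd (nat_lit 18289) (Tr.lf (Fc.ed (nat_lit 18288) (nat_lit 3240) Col.a (nat_lit 2993) (Dv.wd (nat_lit 29) [Mv.f (nat_lit 9967), Mv.b (nat_lit 18286)])))
(Tr.lf (Fc.ed (nat_lit 18289) (nat_lit 3240) Col.c (nat_lit 4551) (Dv.wd (nat_lit 103) [Mv.f (nat_lit 18242), Mv.b (nat_lit 18286)]))))))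
(Tr.nd (nat_lit 18292) (Tr.nd (nat_lit 18291) (Tr.lf (Fc.ed (nat_lit 18290) (nat_lit 3240) Col.d (nat_lit 4807) (Dv.wd (nat_lit 120) [Mv.f (nat_lit 12574), Mv.b (nat_lit 18286)])))
(Tr.lf (Fc.ed (nat_lit 18291) (nat_lit 3240) Col.f (nat_lit 2173) (Dv.wd (nat_lit 30) [Mv.b (nat_lit 9968), Mv.b (nat_lit 18286)]))))
(Tr.nd (nat_lit 18293) (Tr.lf (Fc.ed (nat_lit 18292) (nat_lit 5495) Col.gi (nat_lit 5568) (Dv.wd (nat_lit 163) [Mv.f (nat_lit 14219), Mv.b (nat_lit 13343), Mv.b (nat_lit 13933), Mv.f (nat_lit 5168), Mv.f (nat_lit 5169), Mv.f (nat_lit 2440), Mv.f (nat_lit 4746), Mv.b (nat_lit 5151), Mv.f (nat_lit 18267), Mv.f (nat_lit 14083)])))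
(Tr.nd (nat_lit 18294) (Tr.lf (Fc.ed (nat_lit 18293) (nat_lit 5430) Col.gi (nat_lit 5495) (Dv.wd (nat_lit 12) [Mv.f (nat_lit 18292), Mv.f (nat_lit 14218), Mv.b (nat_lit 13919)])))
(Tr.lf (Fc.ed (nat_lit 18294) (nat_lit 4597) Col.gi (nat_lit 5430) (Dv.wd (nat_lit 12) [Mv.f (nat_lit 18293), Mv.b (nat_lit 14084), Mv.b (nat_lit 11801)]))))))))
(Tr.nd (nat_lit 18305) (Tr.nd (nat_lit 18300) (Tr.nd (nat_lit 18297) (Tr.nd (nat_lit 18296) (Tr.lf (Fc.ed (nat_lit 18295) (nat_lit 4807) Col.c (nat_lit 5764) (Dv.wd (nat_lit 32) [Mv.b (nat_lit 14633), Mv.f (nat_lit 14632), Mv.f (nat_lit 18293), Mv.b (nat_lit 14083), Mv.b (nat_lit 18267), Mv.f (nat_lit 5685), Mv.b (nat_lit 18252), Mv.b (nat_lit 18289), Mv.f (nat_lit 18290)])))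
(Tr.lf (Fc.ed (nat_lit 18296) (nat_lit 5764) Col.a (nat_lit 6194) (Dv.wd (nat_lit 19) [Mv.f (nat_lit 15512), Mv.b (nat_lit 12573), Mv.f (nat_lit 18295)]))))
(Tr.nd (nat_lit 18298) (Tr.lf (Fc.ed (nat_lit 18297) (nat_lit 6262) Col.a (nat_lit 5838) (Dv.wd (nat_lit 54) [Mv.b (nat_lit 14791), Mv.f (nat_lit 18296), Mv.f (nat_lit 15647)])))
(Tr.nd (nat_lit 18299) (Tr.lf (Fc.ed (nat_lit 18298) (nat_lit 5838) Col.g (nat_lit 4568) (Dv.wd (nat_lit 69) [Mv.b (nat_lit 11625), Mv.f (nat_lit 7479), Mv.b (nat_lit 7374), Mv.b (nat_lit 18270), Mv.f (nat_lit 11680), Mv.f (nat_lit 18294), Mv.b (nat_lit 14632), Mv.f (nat_lit 14633), Mv.f (nat_lit 14791)])))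
(Tr.lf (Fc.ed (nat_lit 18299) (nat_lit 5142) Col.g (nat_lit 5838) (Dv.wd (nat_lit 17) [Mv.f (nat_lit 18298), Mv.f (nat_lit 12841), Mv.b (nat_lit 13297)]))))))
(Tr.nd (nat_lit 18302) (Tr.nd (nat_lit 18301) (Tr.lf (Fc.ed (nat_lit 18300) (nat_lit 6735) Col.g (nat_lit 6806) (Dv.wd (nat_lit 77) [Mv.f (nat_lit 17736), Mv.b (nat_lit 17050), Mv.f (nat_lit 17028), Mv.f (nat_lit 18292), Mv.b (nat_lit 15774), Mv.b (nat_lit 15775), Mv.f (nat_lit 14791), Mv.f (nat_lit 18298), Mv.b (nat_lit 17585)])))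
(Tr.lf (Fc.ed (nat_lit 18301) (nat_lit 6815) Col.g (nat_lit 6735) (Dv.wd (nat_lit 17) [Mv.f (nat_lit 18300), Mv.b (nat_lit 17735), Mv.b (nat_lit 17756)]))))
(Tr.nd (nat_lit 18303) (Tr.lf (Fc.ed (nat_lit 18302) (nat_lit 5234) Col.g (nat_lit 1637) (Dv.wd (nat_lit 145) [Mv.b (nat_lit 13296), Mv.f (nat_lit 18299), Mv.b (nat_lit 14791), Mv.b (nat_lit 18295), Mv.b (nat_lit 18290), Mv.b (nat_lit 8330), Mv.b (nat_lit 4862), Mv.b (nat_lit 10068), Mv.f (nat_lit 13496)])))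
(Tr.nd (nat_lit 18304) (Tr.lf (Fc.al (nat_lit 18303) (nat_lit 5255) (nat_lit 4792) (Dv.wd (nat_lit 114) [Mv.b (nat_lit 18244), Mv.f (nat_lit 18246), Mv.f (nat_lit 18302), Mv.b (nat_lit 13539)])))
(Tr.lf (Fc.ed (nat_lit 18304) (nat_lit 4792) Col.g (nat_lit 2834) (Dv.wd (nat_lit 129) [Mv.f (nat_lit 13538), Mv.f (nat_lit 18303)])))))))
(Tr.nd (nat_lit 18310) (Tr.nd (nat_lit 18307) (Tr.nd (nat_lit 18306) (Tr.lf (Fc.ed (nat_lit 18305) (nat_lit 4792) Col.gi (nat_lit 1637) (Dv.wd (nat_lit 128) [Mv.b (nat_lit 13539), Mv.f (nat_lit 18303)])))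
(Tr.lf (Fc.ed (nat_lit 18306) (nat_lit 2834) Col.g (nat_lit 5234) (Dv.wd (nat_lit 17) [Mv.f (nat_lit 18302), Mv.f (nat_lit 6385), Mv.f (nat_lit 7478)]))))
(Tr.nd (nat_lit 18308) (Tr.lf (Fc.ed (nat_lit 18307) (nat_lit 4035) Col.gi (nat_lit 1844) (Dv.wd (nat_lit 141) [Mv.f (nat_lit 9981), Mv.f (nat_lit 6119), Mv.f (nat_lit 13496), Mv.f (nat_lit 18302), Mv.b (nat_lit 4796), Mv.b (nat_lit 5151), Mv.f (nat_lit 5685), Mv.f (nat_lit 8454), Mv.b (nat_lit 18265)])))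
(Tr.nd (nat_lit 18309) (Tr.lf (Fc.ed (nat_lit 18308) (nat_lit 1585) Col.gi (nat_lit 4035) (Dv.wd (nat_lit 12) [Mv.f (nat_lit 18307), Mv.b (nat_lit 5259), Mv.b (nat_lit 10056)])))
(Tr.lf (Fc.al (nat_lit 18309) (nat_lit 2935) (nat_lit 4556) (Dv.wd (nat_lit 27) [Mv.b (nat_lit 11602), Mv.f (nat_lit 18307), Mv.f (nat_lit 9981), Mv.b (nat_lit 5471), Mv.b (nat_lit 10058), Mv.f (nat_lit 11052), Mv.f (nat_lit 11053), Mv.f (nat_lit 10924), Mv.b (nat_lit 7229), Mv.f (nat_lit 7507), Mv.f (nat_lit 7694)]))))))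
(Tr.nd (nat_lit 18313) (Tr.nd (nat_lit 18311) (Tr.lf (Fc.al (nat_lit 18310) (nat_lit 4867) (nat_lit 2673) (Dv.wd (nat_lit 29) [Mv.b (nat_lit 11603), Mv.b (nat_lit 18309), Mv.b (nat_lit 12694)])))
(Tr.nd (nat_lit 18312) (Tr.lf (Fc.ed (nat_lit 18311) (nat_lit 2935) Col.b (nat_lit 5495) (Dv.wd (nat_lit 119) [Mv.f (nat_lit 16937), Mv.b (nat_lit 18309)])))
(Tr.lf (Fc.ed (nat_lit 18312) (nat_lit 2935) Col.d (nat_lit 4035) (Dv.wd (nat_lit 120) [Mv.f (nat_lit 11602), Mv.b (nat_lit 18309)])))))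
(Tr.nd (nat_lit 18314) (Tr.lf (Fc.ed (nat_lit 18313) (nat_lit 2673) Col.a (nat_lit 2935) (Dv.wd (nat_lit 29) [Mv.b (nat_lit 12694), Mv.f (nat_lit 18310)])))
(Tr.nd (nat_lit 18315) (Tr.lf (Fc.al (nat_lit 18314) (nat_lit 2600) (nat_lit 4043) (Dv.wd (nat_lit 117) [Mv.f (nat_lit 12693), Mv.f (nat_lit 18310), Mv.b (nat_lit 9970)])))
(Tr.lf (Fc.al (nat_lit 18315) (nat_lit 4807) (nat_lit 5014) (Dv.wd (nat_lit 30) [Mv.f (nat_lit 13031), Mv.f (nat_lit 18310), Mv.f (nat_lit 12572)]))))))))))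
(Tr.nd (nat_lit 18357) (Tr.nd (nat_lit 18336) (Tr.nd (nat_lit 18326) (Tr.nd (nat_lit 18321) (Tr.nd (nat_lit 18318) (Tr.nd (nat_lit 18317) (Tr.lf (Fc.ed (nat_lit 18316) (nat_lit 2600) Col.c (nat_lit 5126) (Dv.wd (nat_lit 103) [Mv.b (nat_lit 13258), Mv.b (nat_lit 18314)])))
(Tr.lf (Fc.al (nat_lit 18317) (nat_lit 3721) (nat_lit 2972) (Dv.wd (nat_lit 30) [Mv.b (nat_lit 9875), Mv.b (nat_lit 18314), Mv.b (nat_lit 9286)]))))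
(Tr.nd (nat_lit 18319) (Tr.lf (Fc.ed (nat_lit 18318) (nat_lit 4807) Col.g (nat_lit 5152) (Dv.wd (nat_lit 129) [Mv.f (nat_lit 13315), Mv.b (nat_lit 18315)])))
(Tr.nd (nat_lit 18320) (Tr.lf (Fc.ed (nat_lit 18319) (nat_lit 4807) Col.gi (nat_lit 5038) (Dv.wd (nat_lit 128) [Mv.b (nat_lit 13084), Mv.b (nat_lit 18315)])))
(Tr.lf (Fc.ed (nat_lit 18320) (nat_lit 4807) Col.e (nat_lit 5323) (Dv.wd (nat_lit 117) [Mv.b (nat_lit 13712), Mv.b (nat_lit 18315)]))))))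
(Tr.nd (nat_lit 18323) (Tr.nd (nat_lit 18322) (Tr.lf (Fc.al (nat_lit 18321) (nat_lit 5702) (nat_lit 3907) (Dv.wd (nat_lit 119) [Mv.b (nat_lit 16944), Mv.f (nat_lit 18317), Mv.f (nat_lit 16916)])))
(Tr.lf (Fc.ed (nat_lit 18322) (nat_lit 3907) Col.b (nat_lit 2972) (Dv.wd (nat_lit 119) [Mv.f (nat_lit 16916), Mv.f (nat_lit 18321)]))))
(Tr.nd (nat_lit 18324) (Tr.lf (Fc.ed (nat_lit 18323) (nat_lit 3907) Col.c (nat_lit 5252) (Dv.wd (nat_lit 103) [Mv.f (nat_lit 14466), Mv.f (nat_lit 18321)])))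
(Tr.nd (nat_lit 18325) (Tr.lf (Fc.ed (nat_lit 18324) (nat_lit 5312) Col.c (nat_lit 4388) (Dv.wd (nat_lit 81) [Mv.f (nat_lit 11298), Mv.f (nat_lit 8964), Mv.b (nat_lit 9609), Mv.f (nat_lit 18323), Mv.b (nat_lit 13533), Mv.b (nat_lit 7959), Mv.b (nat_lit 5395), Mv.f (nat_lit 7433), Mv.f (nat_lit 13671)])))
(Tr.lf (Fc.ed (nat_lit 18325) (nat_lit 5127) Col.c (nat_lit 6751) (Dv.wd (nat_lit 32) [Mv.b (nat_lit 17624), Mv.b (nat_lit 17536), Mv.b (nat_lit 17237), Mv.b (nat_lit 15094), Mv.f (nat_lit 8893), Mv.b (nat_lit 11517), Mv.b (nat_lit 13672), Mv.f (nat_lit 18324), Mv.b (nat_lit 13260)])))))))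
(Tr.nd (nat_lit 18331) (Tr.nd (nat_lit 18328) (Tr.nd (nat_lit 18327) (Tr.lf (Fc.ed (nat_lit 18326) (nat_lit 5414) Col.b (nat_lit 5671) (Dv.wd (nat_lit 127) [Mv.b (nat_lit 14418), Mv.f (nat_lit 18322), Mv.f (nat_lit 13886)])))
(Tr.lf (Fc.ed (nat_lit 18327) (nat_lit 5806) Col.b (nat_lit 5323) (Dv.wd (nat_lit 107) [Mv.b (nat_lit 13887), Mv.f (nat_lit 18326), Mv.f (nat_lit 14743)]))))
(Tr.nd (nat_lit 18329) (Tr.lf (Fc.ed (nat_lit 18328) (nat_lit 5323) Col.a (nat_lit 4764) (Dv.wd (nat_lit 15) [Mv.b (nat_lit 12490), Mv.b (nat_lit 12573), Mv.f (nat_lit 18320)])))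
(Tr.nd (nat_lit 18330) (Tr.lf (Fc.ed (nat_lit 18329) (nat_lit 5103) Col.e (nat_lit 5152) (Dv.wd (nat_lit 131) [Mv.b (nat_lit 13314), Mv.f (nat_lit 18312), Mv.b (nat_lit 18308), Mv.b (nat_lit 4862), Mv.b (nat_lit 4860), Mv.b (nat_lit 2401), Mv.f (nat_lit 4869), Mv.f (nat_lit 4872), Mv.b (nat_lit 8370), Mv.f (nat_lit 13214)])))
(Tr.lf (Fc.ed (nat_lit 18330) (nat_lit 6200) Col.c (nat_lit 5043) (Dv.wd (nat_lit 83) [Mv.b (nat_lit 13092), Mv.f (nat_lit 12545), Mv.f (nat_lit 18305), Mv.b (nat_lit 4796), Mv.f (nat_lit 7573), Mv.f (nat_lit 7896), Mv.b (nat_lit 13990), Mv.f (nat_lit 16879), Mv.f (nat_lit 15522)]))))))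
(Tr.nd (nat_lit 18333) (Tr.nd (nat_lit 18332) (Tr.lf (Fc.ed (nat_lit 18331) (nat_lit 5838) Col.c (nat_lit 7012) (Dv.wd (nat_lit 138) [Mv.b (nat_lit 18154), Mv.b (nat_lit 18117), Mv.b (nat_lit 12888), Mv.b (nat_lit 6802), Mv.b (nat_lit 13678), Mv.f (nat_lit 12545), Mv.f (nat_lit 18305), Mv.b (nat_lit 13296), Mv.f (nat_lit 18299)])))
(Tr.lf (Fc.ed (nat_lit 18332) (nat_lit 5731) Col.d (nat_lit 5016) (Dv.wd (nat_lit 53) [Mv.b (nat_lit 13034), Mv.f (nat_lit 18305), Mv.f (nat_lit 4797), Mv.f (nat_lit 3409), Mv.b (nat_lit 3390), Mv.b (nat_lit 3171), Mv.f (nat_lit 3134), Mv.b (nat_lit 5240), Mv.f (nat_lit 6087), Mv.f (nat_lit 14573)]))))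
(Tr.nd (nat_lit 18334) (Tr.lf (Fc.ed (nat_lit 18333) (nat_lit 4711) Col.c (nat_lit 3743) (Dv.wd (nat_lit 14) [Mv.f (nat_lit 9330), Mv.b (nat_lit 10627), Mv.b (nat_lit 14574), Mv.f (nat_lit 18332), Mv.b (nat_lit 13683), Mv.f (nat_lit 9786), Mv.b (nat_lit 7016), Mv.f (nat_lit 5113), Mv.f (nat_lit 13694)])))
(Tr.nd (nat_lit 18335) (Tr.lf (Fc.ed (nat_lit 18334) (nat_lit 5607) Col.c (nat_lit 2942) (Dv.wd (nat_lit 67) [Mv.f (nat_lit 11893), Mv.f (nat_lit 18333), Mv.f (nat_lit 14293)])))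
(Tr.lf (Fc.ed (nat_lit 18335) (nat_lit 2626) Col.c (nat_lit 4356) (Dv.wd (nat_lit 33) [Mv.b (nat_lit 14294), Mv.f (nat_lit 18334), Mv.f (nat_lit 13690)]))))))))
(Tr.nd (nat_lit 18346) (Tr.nd (nat_lit 18341) (Tr.nd (nat_lit 18338) (Tr.nd (nat_lit 18337) (Tr.lf (Fc.ed (nat_lit 18336) (nat_lit 7012) Col.a (nat_lit 6941) (Dv.wd (nat_lit 19) [Mv.b (nat_lit 18025), Mv.f (nat_lit 18297), Mv.f (nat_lit 18331)])))
(Tr.lf (Fc.ed (nat_lit 18337) (nat_lit 6288) Col.a (nat_lit 6200) (Dv.wd (nat_lit 76) [Mv.f (nat_lit 18330), Mv.f (nat_lit 13093), Mv.f (nat_lit 15755)]))))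
(Tr.nd (nat_lit 18339) (Tr.lf (Fc.ed (nat_lit 18338) (nat_lit 6039) Col.f (nat_lit 6200) (Dv.wd (nat_lit 64) [Mv.f (nat_lit 18330), Mv.f (nat_lit 13094), Mv.f (nat_lit 15231)])))
(Tr.nd (nat_lit 18340) (Tr.lf (Fc.ed (nat_lit 18339) (nat_lit 5931) Col.gi (nat_lit 6153) (Dv.wd (nat_lit 24) [Mv.b (nat_lit 15756), Mv.f (nat_lit 18337), Mv.b (nat_lit 15522)])))
(Tr.lf (Fc.ed (nat_lit 18340) (nat_lit 4202) Col.b (nat_lit 3446) (Dv.wd (nat_lit 104) [Mv.f (nat_lit 16911), Mv.b (nat_lit 11855), Mv.f (nat_lit 5024), Mv.f (nat_lit 4861), Mv.b (nat_lit 13679), Mv.f (nat_lit 12545), Mv.f (nat_lit 18304), Mv.f (nat_lit 7479), Mv.b (nat_lit 8262), Mv.f (nat_lit 10842)]))))))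
(Tr.nd (nat_lit 18343) (Tr.nd (nat_lit 18342) (Tr.lf (Fc.ed (nat_lit 18341) (nat_lit 4944) Col.b (nat_lit 2621) (Dv.wd (nat_lit 104) [Mv.f (nat_lit 12545), Mv.f (nat_lit 18304), Mv.f (nat_lit 7479), Mv.b (nat_lit 8262), Mv.f (nat_lit 10842), Mv.f (nat_lit 18263), Mv.b (nat_lit 14826), Mv.b (nat_lit 8266), Mv.f (nat_lit 7525), Mv.b (nat_lit 12847)])))
(Tr.lf (Fc.ed (nat_lit 18342) (nat_lit 2877) Col.b (nat_lit 2222) (Dv.wd (nat_lit 154) [Mv.f (nat_lit 13496), Mv.b (nat_lit 18306), Mv.f (nat_lit 7479), Mv.b (nat_lit 8262), Mv.f (nat_lit 12846), Mv.f (nat_lit 18341), Mv.f (nat_lit 12545), Mv.f (nat_lit 18305), Mv.b (nat_lit 4796), Mv.f (nat_lit 7573)]))))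
(Tr.nd (nat_lit 18344) (Tr.lf (Fc.ed (nat_lit 18343) (nat_lit 4031) Col.b (nat_lit 3034) (Dv.wd (nat_lit 126) [Mv.b (nat_lit 7896), Mv.f (nat_lit 18342), Mv.f (nat_lit 13687)])))
(Tr.nd (nat_lit 18345) (Tr.lf (Fc.ed (nat_lit 18344) (nat_lit 3155) Col.b (nat_lit 4711) (Dv.wd (nat_lit 127) [Mv.b (nat_lit 11895), Mv.f (nat_lit 18343), Mv.f (nat_lit 8167)])))
(Tr.lf (Fc.ed (nat_lit 18345) (nat_lit 5365) Col.b (nat_lit 4843) (Dv.wd (nat_lit 107) [Mv.b (nat_lit 12640), Mv.f (nat_lit 18343), Mv.b (nat_lit 13790)])))))))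
(Tr.nd (nat_lit 18351) (Tr.nd (nat_lit 18348) (Tr.nd (nat_lit 18347) (Tr.lf (Fc.ed (nat_lit 18346) (nat_lit 3667) Col.b (nat_lit 4767) (Dv.wd (nat_lit 126) [Mv.f (nat_lit 13261), Mv.f (nat_lit 18340), Mv.f (nat_lit 9171)])))
(Tr.lf (Fc.ed (nat_lit 18347) (nat_lit 4498) Col.b (nat_lit 3588) (Dv.wd (nat_lit 127) [Mv.b (nat_lit 9172), Mv.f (nat_lit 18346), Mv.b (nat_lit 12494)]))))
(Tr.nd (nat_lit 18349) (Tr.lf (Fc.ed (nat_lit 18348) (nat_lit 3588) Col.c (nat_lit 4654) (Dv.wd (nat_lit 135) [Mv.b (nat_lit 11779), Mv.f (nat_lit 8227), Mv.f (nat_lit 5112), Mv.f (nat_lit 7016), Mv.f (nat_lit 18335), Mv.f (nat_lit 11177), Mv.b (nat_lit 5239), Mv.f (nat_lit 5703), Mv.f (nat_lit 13262), Mv.f (nat_lit 18347)])))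
(Tr.nd (nat_lit 18350) (Tr.lf (Fc.ed (nat_lit 18349) (nat_lit 6289) Col.c (nat_lit 3667) (Dv.wd (nat_lit 109) [Mv.f (nat_lit 9172), Mv.f (nat_lit 18348), Mv.f (nat_lit 15757)])))
(Tr.lf (Fc.ed (nat_lit 18350) (nat_lit 4551) Col.e (nat_lit 5842) (Dv.wd (nat_lit 25) [Mv.b (nat_lit 14797), Mv.b (nat_lit 11052), Mv.f (nat_lit 18289)]))))))
(Tr.nd (nat_lit 18354) (Tr.nd (nat_lit 18352) (Tr.lf (Fc.ed (nat_lit 18351) (nat_lit 5842) Col.a (nat_lit 5816) (Dv.wd (nat_lit 15) [Mv.b (nat_lit 14761), Mv.f (nat_lit 18256), Mv.f (nat_lit 18350)])))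
(Tr.nd (nat_lit 18353) (Tr.lf (Fc.ed (nat_lit 18352) (nat_lit 5934) Col.gi (nat_lit 5938) (Dv.wd (nat_lit 24) [Mv.b (nat_lit 15019), Mv.f (nat_lit 18351), Mv.f (nat_lit 15009)])))
(Tr.lf (Fc.ed (nat_lit 18353) (nat_lit 5296) Col.c (nat_lit 5938) (Dv.wd (nat_lit 34) [Mv.b (nat_lit 15019), Mv.b (nat_lit 14797), Mv.f (nat_lit 18287)])))))
(Tr.nd (nat_lit 18355) (Tr.lf (Fc.ed (nat_lit 18354) (nat_lit 5324) Col.gi (nat_lit 4838) (Dv.wd (nat_lit 12) [Mv.b (nat_lit 12630), Mv.f (nat_lit 18287), Mv.b (nat_lit 13714)])))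
(Tr.nd (nat_lit 18356) (Tr.lf (Fc.ed (nat_lit 18355) (nat_lit 4838) Col.c (nat_lit 6042) (Dv.wd (nat_lit 14) [Mv.b (nat_lit 15235), Mv.b (nat_lit 14623), Mv.b (nat_lit 13746), Mv.b (nat_lit 10784), Mv.f (nat_lit 7445), Mv.f (nat_lit 7229), Mv.b (nat_lit 18284), Mv.f (nat_lit 13713), Mv.f (nat_lit 18354)])))
(Tr.lf (Fc.ed (nat_lit 18356) (nat_lit 4838) Col.e (nat_lit 2240) (Dv.wd (nat_lit 146) [Mv.f (nat_lit 6200), Mv.f (nat_lit 13673), Mv.f (nat_lit 13691), Mv.b (nat_lit 13477), Mv.b (nat_lit 7016), Mv.f (nat_lit 5427), Mv.f (nat_lit 7229), Mv.b (nat_lit 18284), Mv.f (nat_lit 13713), Mv.f (nat_lit 18354)])))))))))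
(Tr.nd (nat_lit 18378) (Tr.nd (nat_lit 18367) (Tr.nd (nat_lit 18362) (Tr.nd (nat_lit 18359) (Tr.nd (nat_lit 18358) (Tr.lf (Fc.ed (nat_lit 18357) (nat_lit 5071) Col.d (nat_lit 5038) (Dv.wd (nat_lit 68) [Mv.b (nat_lit 18319), Mv.b (nat_lit 18290), Mv.f (nat_lit 11052), Mv.f (nat_lit 12630), Mv.f (nat_lit 18356), Mv.f (nat_lit 6200), Mv.b (nat_lit 13228), Mv.b (nat_lit 13222), Mv.f (nat_lit 13027), Mv.f (nat_lit 13153)])))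
(Tr.lf (Fc.ed (nat_lit 18358) (nat_lit 5893) Col.gi (nat_lit 6039) (Dv.wd (nat_lit 78) [Mv.b (nat_lit 15231), Mv.b (nat_lit 13154), Mv.f (nat_lit 18357), Mv.b (nat_lit 18319), Mv.f (nat_lit 18295), Mv.f (nat_lit 15775), Mv.f (nat_lit 15774), Mv.b (nat_lit 14217), Mv.b (nat_lit 16878)]))))
(Tr.nd (nat_lit 18360) (Tr.lf (Fc.ed (nat_lit 18359) (nat_lit 5038) Col.e (nat_lit 3127) (Dv.wd (nat_lit 70) [Mv.f (nat_lit 8109), Mv.f (nat_lit 4168), Mv.b (nat_lit 2179), Mv.b (nat_lit 1166), Mv.f (nat_lit 2293), Mv.f (nat_lit 3235), Mv.f (nat_lit 9973), Mv.b (nat_lit 12641), Mv.f (nat_lit 13153), Mv.f (nat_lit 18357)])))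
(Tr.nd (nat_lit 18361) (Tr.lf (Fc.ed (nat_lit 18360) (nat_lit 5138) Col.a (nat_lit 5038) (Dv.wd (nat_lit 31) [Mv.f (nat_lit 18359), Mv.f (nat_lit 10908), Mv.f (nat_lit 13290)])))
(Tr.lf (Fc.ed (nat_lit 18361) (nat_lit 5052) Col.f (nat_lit 5038) (Dv.wd (nat_lit 61) [Mv.f (nat_lit 18359), Mv.b (nat_lit 11352), Mv.b (nat_lit 12723), Mv.b (nat_lit 13227), Mv.b (nat_lit 13226)]))))))
(Tr.nd (nat_lit 18364) (Tr.nd (nat_lit 18363) (Tr.lf (Fc.ed (nat_lit 18362) (nat_lit 5071) Col.f (nat_lit 4966) (Dv.wd (nat_lit 11) [Mv.f (nat_lit 13113), Mv.f (nat_lit 18361), Mv.b (nat_lit 18357)])))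
(Tr.lf (Fc.ed (nat_lit 18363) (nat_lit 5138) Col.gi (nat_lit 2673) (Dv.wd (nat_lit 12) [Mv.f (nat_lit 13115), Mv.f (nat_lit 18361), Mv.b (nat_lit 18360)]))))
(Tr.nd (nat_lit 18365) (Tr.lf (Fc.ed (nat_lit 18364) (nat_lit 5152) Col.a (nat_lit 5052) (Dv.wd (nat_lit 114) [Mv.f (nat_lit 18361), Mv.b (nat_lit 18319), Mv.f (nat_lit 18318)])))
(Tr.nd (nat_lit 18366) (Tr.lf (Fc.ed (nat_lit 18365) (nat_lit 5152) Col.f (nat_lit 5138) (Dv.wd (nat_lit 35) [Mv.f (nat_lit 18360), Mv.b (nat_lit 18361), Mv.b (nat_lit 18364)])))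
(Tr.lf (Fc.ed (nat_lit 18366) (nat_lit 5138) Col.g (nat_lit 4736) (Dv.wd (nat_lit 17) [Mv.b (nat_lit 13114), Mv.b (nat_lit 18364), Mv.f (nat_lit 18365)])))))))
(Tr.nd (nat_lit 18372) (Tr.nd (nat_lit 18369) (Tr.nd (nat_lit 18368) (Tr.lf (Fc.al (nat_lit 18367) (nat_lit 3878) (nat_lit 5103) (Dv.wd (nat_lit 57) [Mv.f (nat_lit 18329), Mv.f (nat_lit 18365), Mv.b (nat_lit 13290), Mv.f (nat_lit 10909), Mv.f (nat_lit 6429), Mv.f (nat_lit 9559)])))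
(Tr.lf (Fc.ed (nat_lit 18368) (nat_lit 3878) Col.g (nat_lit 5012) (Dv.wd (nat_lit 129) [Mv.f (nat_lit 13211), Mv.b (nat_lit 18367)]))))
(Tr.nd (nat_lit 18370) (Tr.lf (Fc.al (nat_lit 18369) (nat_lit 5108) (nat_lit 4005) (Dv.wd (nat_lit 29) [Mv.f (nat_lit 13213), Mv.b (nat_lit 18367), Mv.f (nat_lit 13225)])))
(Tr.nd (nat_lit 18371) (Tr.lf (Fc.al (nat_lit 18370) (nat_lit 3851) (nat_lit 3257) (Dv.wd (nat_lit 120) [Mv.f (nat_lit 13214), Mv.b (nat_lit 18367), Mv.f (nat_lit 9560)])))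
(Tr.lf (Fc.ed (nat_lit 18371) (nat_lit 3878) Col.e (nat_lit 5152) (Dv.wd (nat_lit 117) [Mv.b (nat_lit 18329), Mv.b (nat_lit 18367)]))))))
(Tr.nd (nat_lit 18375) (Tr.nd (nat_lit 18373) (Tr.lf (Fc.al (nat_lit 18372) (nat_lit 2260) (nat_lit 4697) (Dv.wd (nat_lit 30) [Mv.b (nat_lit 13212), Mv.b (nat_lit 18367), Mv.b (nat_lit 9559)])))
(Tr.nd (nat_lit 18374) (Tr.lf (Fc.al (nat_lit 18373) (nat_lit 3813) (nat_lit 3620) (Dv.wd (nat_lit 120) [Mv.b (nat_lit 13224), Mv.f (nat_lit 18369), Mv.b (nat_lit 9813)])))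
(Tr.lf (Fc.al (nat_lit 18374) (nat_lit 2904) (nat_lit 4884) (Dv.wd (nat_lit 30) [Mv.b (nat_lit 13227), Mv.f (nat_lit 18369), Mv.f (nat_lit 9814)])))))
(Tr.nd (nat_lit 18376) (Tr.lf (Fc.ed (nat_lit 18375) (nat_lit 3257) Col.b (nat_lit 5937) (Dv.wd (nat_lit 119) [Mv.f (nat_lit 15017), Mv.f (nat_lit 18370)])))
(Tr.nd (nat_lit 18377) (Tr.lf (Fc.ed (nat_lit 18376) (nat_lit 3257) Col.d (nat_lit 3878) (Dv.wd (nat_lit 120) [Mv.f (nat_lit 9560), Mv.f (nat_lit 18370)])))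
(Tr.lf (Fc.al (nat_lit 18377) (nat_lit 3926) (nat_lit 2240) (Dv.wd (nat_lit 30) [Mv.f (nat_lit 9516), Mv.f (nat_lit 18370), Mv.f (nat_lit 9684)]))))))))
(Tr.nd (nat_lit 18388) (Tr.nd (nat_lit 18383) (Tr.nd (nat_lit 18380) (Tr.nd (nat_lit 18379) (Tr.lf (Fc.al (nat_lit 18378) (nat_lit 2358) (nat_lit 3207) (Dv.wd (nat_lit 117) [Mv.f (nat_lit 11868), Mv.b (nat_lit 18372), Mv.b (nat_lit 6429)])))
(Tr.lf (Fc.al (nat_lit 18379) (nat_lit 3675) (nat_lit 4928) (Dv.wd (nat_lit 117) [Mv.b (nat_lit 12814), Mv.f (nat_lit 18373), Mv.b (nat_lit 9188)]))))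
(Tr.nd (nat_lit 18381) (Tr.lf (Fc.al (nat_lit 18380) (nat_lit 2873) (nat_lit 4415) (Dv.wd (nat_lit 117) [Mv.b (nat_lit 12723), Mv.b (nat_lit 18374), Mv.f (nat_lit 7634)])))
(Tr.nd (nat_lit 18382) (Tr.lf (Fc.ed (nat_lit 18381) (nat_lit 2240) Col.f (nat_lit 3257) (Dv.wd (nat_lit 30) [Mv.f (nat_lit 9684), Mv.f (nat_lit 18377)])))
(Tr.lf (Fc.al (nat_lit 18382) (nat_lit 3844) (nat_lit 4520) (Dv.wd (nat_lit 103) [Mv.b (nat_lit 16832), Mv.b (nat_lit 18378), Mv.b (nat_lit 14494)]))))))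
(Tr.nd (nat_lit 18385) (Tr.nd (nat_lit 18384) (Tr.lf (Fc.al (nat_lit 18383) (nat_lit 4238) (nat_lit 2751) (Dv.wd (nat_lit 30) [Mv.f (nat_lit 8274), Mv.b (nat_lit 18378), Mv.b (nat_lit 10909)])))
(Tr.lf (Fc.al (nat_lit 18384) (nat_lit 3535) (nat_lit 4669) (Dv.wd (nat_lit 120) [Mv.f (nat_lit 12812), Mv.b (nat_lit 18379), Mv.b (nat_lit 9187)]))))
(Tr.nd (nat_lit 18386) (Tr.lf (Fc.al (nat_lit 18385) (nat_lit 4528) (nat_lit 3127) (Dv.wd (nat_lit 30) [Mv.b (nat_lit 11352), Mv.b (nat_lit 18380), Mv.b (nat_lit 11549)])))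
(Tr.nd (nat_lit 18387) (Tr.lf (Fc.ed (nat_lit 18386) (nat_lit 3844) Col.a (nat_lit 3751) (Dv.wd (nat_lit 29) [Mv.b (nat_lit 11532), Mv.b (nat_lit 18382)])))
(Tr.lf (Fc.ed (nat_lit 18387) (nat_lit 3844) Col.f (nat_lit 4021) (Dv.wd (nat_lit 30) [Mv.f (nat_lit 11531), Mv.b (nat_lit 18382)])))))))
(Tr.nd (nat_lit 18393) (Tr.nd (nat_lit 18390) (Tr.nd (nat_lit 18389) (Tr.lf (Fc.ed (nat_lit 18388) (nat_lit 2751) Col.b (nat_lit 4621) (Dv.wd (nat_lit 119) [Mv.b (nat_lit 11722), Mv.f (nat_lit 18383)])))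
(Tr.lf (Fc.ed (nat_lit 18389) (nat_lit 2751) Col.e (nat_lit 5138) (Dv.wd (nat_lit 117) [Mv.b (nat_lit 13290), Mv.f (nat_lit 18383)]))))
(Tr.nd (nat_lit 18391) (Tr.lf (Fc.al (nat_lit 18390) (nat_lit 1820) (nat_lit 4682) (Dv.wd (nat_lit 128) [Mv.b (nat_lit 11837), Mv.b (nat_lit 18384), Mv.b (nat_lit 8928)])))
(Tr.nd (nat_lit 18392) (Tr.lf (Fc.al (nat_lit 18391) (nat_lit 3116) (nat_lit 4968) (Dv.wd (nat_lit 103) [Mv.f (nat_lit 16903), Mv.b (nat_lit 18384), Mv.f (nat_lit 16892)])))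
(Tr.lf (Fc.ed (nat_lit 18392) (nat_lit 3127) Col.f (nat_lit 2873) (Dv.wd (nat_lit 30) [Mv.b (nat_lit 11549), Mv.f (nat_lit 18385)]))))))
(Tr.nd (nat_lit 18396) (Tr.nd (nat_lit 18394) (Tr.lf (Fc.al (nat_lit 18393) (nat_lit 4529) (nat_lit 3171) (Dv.wd (nat_lit 128) [Mv.b (nat_lit 11838), Mv.b (nat_lit 18390), Mv.b (nat_lit 11551)])))
(Tr.nd (nat_lit 18395) (Tr.lf (Fc.ed (nat_lit 18394) (nat_lit 3116) Col.a (nat_lit 3107) (Dv.wd (nat_lit 29) [Mv.f (nat_lit 12892), Mv.b (nat_lit 18391)])))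
(Tr.lf (Fc.ed (nat_lit 18395) (nat_lit 3171) Col.g (nat_lit 2892) (Dv.wd (nat_lit 129) [Mv.f (nat_lit 11550), Mv.f (nat_lit 18393)])))))
(Tr.nd (nat_lit 18397) (Tr.lf (Fc.ed (nat_lit 18396) (nat_lit 3171) Col.gi (nat_lit 1820) (Dv.wd (nat_lit 128) [Mv.b (nat_lit 11551), Mv.f (nat_lit 18393)])))
(Tr.nd (nat_lit 18398) (Tr.lf (Fc.al (nat_lit 18397) (nat_lit 4780) (nat_lit 3051) (Dv.wd (nat_lit 103) [Mv.b (nat_lit 16905), Mv.f (nat_lit 18393), Mv.b (nat_lit 16902)])))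
(Tr.lf (Fc.ed (nat_lit 18398) (nat_lit 3171) Col.e (nat_lit 4685) (Dv.wd (nat_lit 117) [Mv.b (nat_lit 11844), Mv.f (nat_lit 18393)])))))))))))))))
end CfsgLib.TCON
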