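import Cfsg.Agent.EqBase
import Cfsg.Agent.LibTCONW
set_option autoImplicit false
set_option linter.all false
set_option maxRecDepth 1000000
set_option maxHeartbeats 0
namespace CfsgLib.TCON
open CfsgLib.TC Cfsg.Spor CfsgLib.TCG_ON
noncomputable def mini2S_7 : Tr (Fc Col) := (Tr.nd (nat_lit 19713) (Tr.nd (nat_lit 19056) (Tr.nd (nat_lit 18727) (Tr.nd (nat_lit 18563) (Tr.nd (nat_lit 18481) (Tr.nd (nat_lit 18440) (Tr.nd (nat_lit 18419) (Tr.nd (nat_lit 18409) (Tr.nd (nat_lit 18404) (Tr.nd (nat_lit 18401) (Tr.nd (nat_lit 18400) (Tr.lf (Fc.ed (nat_lit 18399) (nat_lit 3051) Col.a (nat_lit 4579) (Dv.wd (nat_lit 29) [Mv.b (nat_lit 12522), Mv.f (nat_lit 18397)])))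
(Tr.lf (Fc.ed (nat_lit 18400) (nat_lit 3051) Col.c (nat_lit 3171) (Dv.wd (nat_lit 103) [Mv.b (nat_lit 16902), Mv.f (nat_lit 18397)]))))
(Tr.nd (nat_lit 18402) (Tr.lf (Fc.ed (nat_lit 18401) (nat_lit 5241) Col.e (nat_lit 5204) (Dv.wd (nat_lit 146) [Mv.b (nat_lit 13436), Mv.f (nat_lit 18396), Mv.f (nat_lit 5211), Mv.b (nat_lit 5208), Mv.f (nat_lit 2106), Mv.f (nat_lit 4053), Mv.b (nat_lit 4454), Mv.f (nat_lit 8580), Mv.f (nat_lit 8937), Mv.f (nat_lit 13513)])))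
(Tr.nd (nat_lit 18403) (Tr.lf (Fc.ed (nat_lit 18402) (nat_lit 5394) Col.a (nat_lit 5241) (Dv.wd (nat_lit 31) [Mv.f (nat_lit 18401), Mv.b (nat_lit 13566), Mv.f (nat_lit 13849)])))
(Tr.lf (Fc.ed (nat_lit 18403) (nat_lit 4838) Col.f (nat_lit 5241) (Dv.wd (nat_lit 61) [Mv.f (nat_lit 18401), Mv.f (nat_lit 13437), Mv.b (nat_lit 8387), Mv.b (nat_lit 18381), Mv.b (nat_lit 18356)]))))))
(Tr.nd (nat_lit 18406) (Tr.nd (nat_lit 18405) (Tr.lf (Fc.ed (nat_lit 18404) (nat_lit 5704) Col.f (nat_lit 6042) (Dv.wd (nat_lit 26) [Mv.b (nat_lit 18355), Mv.f (nat_lit 18403), Mv.f (nat_lit 14469)])))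
(Tr.lf (Fc.ed (nat_lit 18405) (nat_lit 5704) Col.a (nat_lit 5762) (Dv.wd (nat_lit 76) [Mv.b (nat_lit 14630), Mv.f (nat_lit 18402), Mv.f (nat_lit 14469)]))))
(Tr.nd (nat_lit 18407) (Tr.lf (Fc.ed (nat_lit 18406) (nat_lit 5762) Col.gi (nat_lit 5759) (Dv.wd (nat_lit 12) [Mv.f (nat_lit 15235), Mv.b (nat_lit 18404), Mv.f (nat_lit 18405)])))
(Tr.nd (nat_lit 18408) (Tr.lf (Fc.ed (nat_lit 18407) (nat_lit 3751) Col.f (nat_lit 3826) (Dv.wd (nat_lit 26) [Mv.f (nat_lit 16836), Mv.f (nat_lit 18392), Mv.b (nat_lit 16834)])))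
(Tr.lf (Fc.ed (nat_lit 18408) (nat_lit 3826) Col.a (nat_lit 4021) (Dv.wd (nat_lit 16) [Mv.b (nat_lit 18387), Mv.f (nat_lit 18386), Mv.f (nat_lit 18407)])))))))
(Tr.nd (nat_lit 18414) (Tr.nd (nat_lit 18411) (Tr.nd (nat_lit 18410) (Tr.lf (Fc.ed (nat_lit 18409) (nat_lit 5694) Col.e (nat_lit 4021) (Dv.wd (nat_lit 25) [Mv.f (nat_lit 16831), Mv.f (nat_lit 18389), Mv.f (nat_lit 14451)])))
(Tr.lf (Fc.ed (nat_lit 18410) (nat_lit 5198) Col.gi (nat_lit 5043) (Dv.wd (nat_lit 151) [Mv.b (nat_lit 13092), Mv.f (nat_lit 13679), Mv.b (nat_lit 4860), Mv.f (nat_lit 2380), Mv.b (nat_lit 989), Mv.b (nat_lit 2247), Mv.f (nat_lit 4330), Mv.f (nat_lit 7297), Mv.f (nat_lit 18389), Mv.f (nat_lit 13424)]))))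
(Tr.nd (nat_lit 18412) (Tr.lf (Fc.ed (nat_lit 18411) (nat_lit 5071) Col.a (nat_lit 5198) (Dv.wd (nat_lit 23) [Mv.f (nat_lit 18410), Mv.f (nat_lit 13693), Mv.b (nat_lit 18362)])))
(Tr.nd (nat_lit 18413) (Tr.lf (Fc.ed (nat_lit 18412) (nat_lit 4031) Col.gi (nat_lit 5198) (Dv.wd (nat_lit 12) [Mv.f (nat_lit 18410), Mv.f (nat_lit 13094), Mv.f (nat_lit 9858)])))
(Tr.lf (Fc.ed (nat_lit 18413) (nat_lit 6355) Col.c (nat_lit 5198) (Dv.wd (nat_lit 81) [Mv.f (nat_lit 18410), Mv.b (nat_lit 13092), Mv.f (nat_lit 13678), Mv.f (nat_lit 6802), Mv.b (nat_lit 11856), Mv.b (nat_lit 16911), Mv.f (nat_lit 9171), Mv.b (nat_lit 18349), Mv.f (nat_lit 15886)]))))))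
(Tr.nd (nat_lit 18416) (Tr.nd (nat_lit 18415) (Tr.lf (Fc.ed (nat_lit 18414) (nat_lit 6194) Col.g (nat_lit 5909) (Dv.wd (nat_lit 77) [Mv.b (nat_lit 14945), Mv.f (nat_lit 13987), Mv.f (nat_lit 16879), Mv.f (nat_lit 18339), Mv.b (nat_lit 15433), Mv.f (nat_lit 18412), Mv.b (nat_lit 13424), Mv.f (nat_lit 18366), Mv.b (nat_lit 15512)])))
(Tr.lf (Fc.ed (nat_lit 18415) (nat_lit 4941) Col.gi (nat_lit 6262) (Dv.wd (nat_lit 141) [Mv.b (nat_lit 15647), Mv.f (nat_lit 18414), Mv.b (nat_lit 14945), Mv.f (nat_lit 13921), Mv.f (nat_lit 15842), Mv.f (nat_lit 15870), Mv.b (nat_lit 17493), Mv.f (nat_lit 17738), Mv.b (nat_lit 17069)]))))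
(Tr.nd (nat_lit 18417) (Tr.lf (Fc.ed (nat_lit 18416) (nat_lit 6262) Col.gi (nat_lit 4930) (Dv.wd (nat_lit 24) [Mv.f (nat_lit 12818), Mv.f (nat_lit 12841), Mv.f (nat_lit 18415)])))
(Tr.nd (nat_lit 18418) (Tr.lf (Fc.ed (nat_lit 18417) (nat_lit 5889) Col.f (nat_lit 5838) (Dv.wd (nat_lit 13) [Mv.b (nat_lit 18297), Mv.f (nat_lit 18416), Mv.b (nat_lit 14901)])))
(Tr.lf (Fc.ed (nat_lit 18418) (nat_lit 5764) Col.f (nat_lit 5834) (Dv.wd (nat_lit 11) [Mv.b (nat_lit 14902), Mv.f (nat_lit 18417), Mv.b (nat_lit 14791)]))))))))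
(Tr.nd (nat_lit 18429) (Tr.nd (nat_lit 18424) (Tr.nd (nat_lit 18421) (Tr.nd (nat_lit 18420) (Tr.lf (Fc.ed (nat_lit 18419) (nat_lit 5834) Col.c (nat_lit 2673) (Dv.wd (nat_lit 34) [Mv.f (nat_lit 12572), Mv.f (nat_lit 18295), Mv.f (nat_lit 18418)])))
(Tr.lf (Fc.al (nat_lit 18420) (nat_lit 5126) (nat_lit 3531) (Dv.wd (nat_lit 84) [Mv.f (nat_lit 14786), Mv.f (nat_lit 18419), Mv.b (nat_lit 9970), Mv.f (nat_lit 18316)]))))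
(Tr.nd (nat_lit 18422) (Tr.lf (Fc.ed (nat_lit 18421) (nat_lit 3531) Col.c (nat_lit 2600) (Dv.wd (nat_lit 103) [Mv.f (nat_lit 18316), Mv.f (nat_lit 18420)])))
(Tr.nd (nat_lit 18423) (Tr.lf (Fc.ed (nat_lit 18422) (nat_lit 3826) Col.e (nat_lit 6251) (Dv.wd (nat_lit 56) [Mv.b (nat_lit 15624), Mv.f (nat_lit 18409), Mv.b (nat_lit 18408)])))
(Tr.lf (Fc.ed (nat_lit 18423) (nat_lit 6251) Col.c (nat_lit 5038) (Dv.wd (nat_lit 18) [Mv.f (nat_lit 18359), Mv.b (nat_lit 16836), Mv.f (nat_lit 18422)]))))))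
(Tr.nd (nat_lit 18426) (Tr.nd (nat_lit 18425) (Tr.lf (Fc.ed (nat_lit 18424) (nat_lit 6369) Col.gi (nat_lit 6251) (Dv.wd (nat_lit 50) [Mv.f (nat_lit 18423), Mv.b (nat_lit 18319), Mv.b (nat_lit 18290), Mv.f (nat_lit 10058), Mv.f (nat_lit 9981), Mv.f (nat_lit 6802), Mv.f (nat_lit 12888), Mv.b (nat_lit 17053), Mv.b (nat_lit 15964)])))
(Tr.lf (Fc.ed (nat_lit 18425) (nat_lit 6251) Col.gi (nat_lit 6333) (Dv.wd (nat_lit 24) [Mv.f (nat_lit 15843), Mv.b (nat_lit 15913), Mv.f (nat_lit 18424)]))))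
(Tr.nd (nat_lit 18427) (Tr.lf (Fc.ed (nat_lit 18426) (nat_lit 4741) Col.a (nat_lit 5224) (Dv.wd (nat_lit 31) [Mv.f (nat_lit 13476), Mv.f (nat_lit 18386), Mv.f (nat_lit 11947)])))
(Tr.nd (nat_lit 18428) (Tr.lf (Fc.ed (nat_lit 18427) (nat_lit 5404) Col.g (nat_lit 5385) (Dv.wd (nat_lit 17) [Mv.b (nat_lit 13830), Mv.f (nat_lit 18426), Mv.f (nat_lit 14524)])))
(Tr.lf (Fc.ed (nat_lit 18428) (nat_lit 6558) Col.b (nat_lit 3267) (Dv.wd (nat_lit 127) [Mv.b (nat_lit 8387), Mv.f (nat_lit 18375), Mv.f (nat_lit 17099)])))))))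
(Tr.nd (nat_lit 18434) (Tr.nd (nat_lit 18431) (Tr.nd (nat_lit 18430) (Tr.lf (Fc.ed (nat_lit 18429) (nat_lit 6156) Col.d (nat_lit 6558) (Dv.wd (nat_lit 116) [Mv.f (nat_lit 18428), Mv.f (nat_lit 8388), Mv.f (nat_lit 15441)])))
(Tr.lf (Fc.ed (nat_lit 18430) (nat_lit 6096) Col.f (nat_lit 6558) (Dv.wd (nat_lit 125) [Mv.f (nat_lit 18428), Mv.b (nat_lit 13437), Mv.b (nat_lit 15336)]))))
(Tr.nd (nat_lit 18432) (Tr.lf (Fc.ed (nat_lit 18431) (nat_lit 6558) Col.gi (nat_lit 6554) (Dv.wd (nat_lit 12) [Mv.b (nat_lit 17090), Mv.f (nat_lit 18430), Mv.f (nat_lit 17100)])))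
(Tr.nd (nat_lit 18433) (Tr.lf (Fc.ed (nat_lit 18432) (nat_lit 6558) Col.g (nat_lit 6501) (Dv.wd (nat_lit 17) [Mv.b (nat_lit 16825), Mv.f (nat_lit 16900), Mv.f (nat_lit 18430)])))
(Tr.lf (Fc.ed (nat_lit 18433) (nat_lit 5169) Col.e (nat_lit 5198) (Dv.wd (nat_lit 133) [Mv.b (nat_lit 13424), Mv.f (nat_lit 18363), Mv.b (nat_lit 7129), Mv.b (nat_lit 6014), Mv.b (nat_lit 5889), Mv.b (nat_lit 9971), Mv.f (nat_lit 7812), Mv.b (nat_lit 11939), Mv.f (nat_lit 12490), Mv.f (nat_lit 13347)]))))))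
(Tr.nd (nat_lit 18437) (Tr.nd (nat_lit 18435) (Tr.lf (Fc.ed (nat_lit 18434) (nat_lit 5071) Col.b (nat_lit 5071) (Dv.wd (nat_lit 107) [Mv.f (nat_lit 18362), Mv.f (nat_lit 16845), Mv.b (nat_lit 18362)])))
(Tr.nd (nat_lit 18436) (Tr.lf (Fc.ed (nat_lit 18435) (nat_lit 6288) Col.gi (nat_lit 5893) (Dv.wd (nat_lit 12) [Mv.f (nat_lit 18358), Mv.f (nat_lit 18338), Mv.b (nat_lit 18337)])))
(Tr.lf (Fc.ed (nat_lit 18436) (nat_lit 5538) Col.gi (nat_lit 3667) (Dv.wd (nat_lit 141) [Mv.b (nat_lit 9171), Mv.f (nat_lit 8758), Mv.b (nat_lit 6386), Mv.f (nat_lit 12561), Mv.f (nat_lit 18245), Mv.b (nat_lit 12641), Mv.f (nat_lit 15755), Mv.f (nat_lit 18435), Mv.f (nat_lit 16878)])))))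
(Tr.nd (nat_lit 18438) (Tr.lf (Fc.ed (nat_lit 18437) (nat_lit 5759) Col.c (nat_lit 4637) (Dv.wd (nat_lit 83) [Mv.b (nat_lit 18280), Mv.b (nat_lit 16915), Mv.f (nat_lit 11048), Mv.b (nat_lit 4594), Mv.f (nat_lit 10923), Mv.b (nat_lit 11053), Mv.f (nat_lit 12630), Mv.f (nat_lit 18355), Mv.b (nat_lit 15235)])))
(Tr.nd (nat_lit 18439) (Tr.lf (Fc.ed (nat_lit 18438) (nat_lit 4637) Col.b (nat_lit 4534) (Dv.wd (nat_lit 37) [Mv.f (nat_lit 11561), Mv.b (nat_lit 16954), Mv.f (nat_lit 18280)])))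
(Tr.lf (Fc.ed (nat_lit 18439) (nat_lit 4637) Col.g (nat_lit 5406) (Dv.wd (nat_lit 55) [Mv.b (nat_lit 13870), Mv.b (nat_lit 13032), Mv.b (nat_lit 13958), Mv.f (nat_lit 4279), Mv.b (nat_lit 2047), Mv.f (nat_lit 1225), Mv.b (nat_lit 1958), Mv.f (nat_lit 4466), Mv.b (nat_lit 7219), Mv.f (nat_lit 18280)])))))))))
(Tr.nd (nat_lit 18460) (Tr.nd (nat_lit 18450) (Tr.nd (nat_lit 18445) (Tr.nd (nat_lit 18442) (Tr.nd (nat_lit 18441) (Tr.lf (Fc.ed (nat_lit 18440) (nat_lit 4637) Col.gi (nat_lit 5339) (Dv.wd (nat_lit 163) [Mv.b (nat_lit 13742), Mv.b (nat_lit 7721), Mv.f (nat_lit 13986), Mv.b (nat_lit 13984), Mv.b (nat_lit 13969), Mv.b (nat_lit 7737), Mv.b (nat_lit 6813), Mv.f (nat_lit 7207), Mv.f (nat_lit 7218), Mv.f (nat_lit 18280)])))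
(Tr.lf (Fc.ed (nat_lit 18441) (nat_lit 5934) Col.c (nat_lit 5406) (Dv.wd (nat_lit 81) [Mv.b (nat_lit 18439), Mv.b (nat_lit 18280), Mv.b (nat_lit 7218), Mv.f (nat_lit 7408), Mv.b (nat_lit 8282), Mv.f (nat_lit 16963), Mv.f (nat_lit 8937), Mv.f (nat_lit 18264), Mv.f (nat_lit 15009)]))))
(Tr.nd (nat_lit 18443) (Tr.lf (Fc.ed (nat_lit 18442) (nat_lit 6197) Col.f (nat_lit 5934) (Dv.wd (nat_lit 64) [Mv.f (nat_lit 18441), Mv.b (nat_lit 13960), Mv.f (nat_lit 15516)])))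
(Tr.nd (nat_lit 18444) (Tr.lf (Fc.ed (nat_lit 18443) (nat_lit 6651) Col.c (nat_lit 6800) (Dv.wd (nat_lit 142) [Mv.b (nat_lit 17727), Mv.b (nat_lit 18325), Mv.b (nat_lit 18285), Mv.b (nat_lit 13850), Mv.f (nat_lit 16901), Mv.f (nat_lit 14630), Mv.f (nat_lit 18406), Mv.f (nat_lit 18437), Mv.f (nat_lit 18440), Mv.f (nat_lit 17358)])))
(Tr.lf (Fc.ed (nat_lit 18444) (nat_lit 6800) Col.e (nat_lit 4993) (Dv.wd (nat_lit 25) [Mv.f (nat_lit 13981), Mv.b (nat_lit 17359), Mv.f (nat_lit 18443)]))))))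
(Tr.nd (nat_lit 18447) (Tr.nd (nat_lit 18446) (Tr.lf (Fc.ed (nat_lit 18445) (nat_lit 5536) Col.b (nat_lit 6620) (Dv.wd (nat_lit 104) [Mv.f (nat_lit 17536), Mv.f (nat_lit 17624), Mv.b (nat_lit 18325), Mv.b (nat_lit 18285), Mv.f (nat_lit 12630), Mv.f (nat_lit 18355), Mv.b (nat_lit 15235), Mv.f (nat_lit 18437), Mv.f (nat_lit 18438), Mv.b (nat_lit 14155)])))
(Tr.lf (Fc.al (nat_lit 18446) (nat_lit 5172) (nat_lit 4861) (Dv.wd (nat_lit 122) [Mv.b (nat_lit 12681), Mv.f (nat_lit 5246), Mv.f (nat_lit 5180), Mv.b (nat_lit 18255), Mv.f (nat_lit 18257), Mv.b (nat_lit 16935), Mv.f (nat_lit 7590), Mv.b (nat_lit 8003), Mv.f (nat_lit 11097), Mv.f (nat_lit 18266), Mv.b (nat_lit 16938)]))))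
(Tr.nd (nat_lit 18448) (Tr.lf (Fc.ed (nat_lit 18447) (nat_lit 4861) Col.a (nat_lit 3275) (Dv.wd (nat_lit 29) [Mv.f (nat_lit 13355), Mv.f (nat_lit 18446)])))
(Tr.nd (nat_lit 18449) (Tr.lf (Fc.ed (nat_lit 18448) (nat_lit 4861) Col.b (nat_lit 2173) (Dv.wd (nat_lit 119) [Mv.b (nat_lit 16938), Mv.f (nat_lit 18446)])))
(Tr.lf (Fc.al (nat_lit 18449) (nat_lit 5087) (nat_lit 5070) (Dv.wd (nat_lit 30) [Mv.b (nat_lit 13356), Mv.f (nat_lit 18446), Mv.f (nat_lit 13181)])))))))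
(Tr.nd (nat_lit 18455) (Tr.nd (nat_lit 18452) (Tr.nd (nat_lit 18451) (Tr.lf (Fc.ed (nat_lit 18450) (nat_lit 5070) Col.a (nat_lit 3836) (Dv.wd (nat_lit 29) [Mv.b (nat_lit 13182), Mv.f (nat_lit 18449)])))
(Tr.lf (Fc.ed (nat_lit 18451) (nat_lit 5070) Col.f (nat_lit 4861) (Dv.wd (nat_lit 30) [Mv.f (nat_lit 13181), Mv.f (nat_lit 18449)]))))
(Tr.nd (nat_lit 18453) (Tr.lf (Fc.ed (nat_lit 18452) (nat_lit 3275) Col.f (nat_lit 3836) (Dv.wd (nat_lit 35) [Mv.b (nat_lit 18450), Mv.f (nat_lit 18451), Mv.f (nat_lit 18447)])))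
(Tr.nd (nat_lit 18454) (Tr.lf (Fc.ed (nat_lit 18453) (nat_lit 3836) Col.b (nat_lit 3618) (Dv.wd (nat_lit 66) [Mv.f (nat_lit 9083), Mv.b (nat_lit 16922), Mv.f (nat_lit 18452)])))
(Tr.lf (Fc.al (nat_lit 18454) (nat_lit 4412) (nat_lit 4146) (Dv.wd (nat_lit 123) [Mv.b (nat_lit 10717), Mv.f (nat_lit 10051), Mv.f (nat_lit 10057), Mv.f (nat_lit 6014), Mv.b (nat_lit 18266), Mv.f (nat_lit 11098), Mv.b (nat_lit 5180), Mv.b (nat_lit 5246), Mv.f (nat_lit 9494), Mv.f (nat_lit 18453), Mv.f (nat_lit 16967)]))))))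
(Tr.nd (nat_lit 18457) (Tr.nd (nat_lit 18456) (Tr.lf (Fc.ed (nat_lit 18455) (nat_lit 4146) Col.a (nat_lit 3530) (Dv.wd (nat_lit 29) [Mv.f (nat_lit 11346), Mv.f (nat_lit 18454)])))
(Tr.lf (Fc.ed (nat_lit 18456) (nat_lit 4146) Col.c (nat_lit 3618) (Dv.wd (nat_lit 103) [Mv.f (nat_lit 16967), Mv.f (nat_lit 18454)]))))
(Tr.nd (nat_lit 18458) (Tr.lf (Fc.ed (nat_lit 18457) (nat_lit 4146) Col.f (nat_lit 4297) (Dv.wd (nat_lit 30) [Mv.b (nat_lit 11347), Mv.f (nat_lit 18454)])))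
(Tr.nd (nat_lit 18459) (Tr.lf (Fc.ed (nat_lit 18458) (nat_lit 4297) Col.b (nat_lit 6217) (Dv.wd (nat_lit 66) [Mv.b (nat_lit 15564), Mv.b (nat_lit 15307), Mv.f (nat_lit 18457)])))
(Tr.lf (Fc.ed (nat_lit 18459) (nat_lit 4362) Col.gi (nat_lit 3407) (Dv.wd (nat_lit 12) [Mv.f (nat_lit 10717), Mv.f (nat_lit 18457), Mv.b (nat_lit 11188)]))))))))
(Tr.nd (nat_lit 18470) (Tr.nd (nat_lit 18465) (Tr.nd (nat_lit 18462) (Tr.nd (nat_lit 18461) (Tr.lf (Fc.ed (nat_lit 18460) (nat_lit 3205) Col.c (nat_lit 3977) (Dv.wd (nat_lit 138) [Mv.b (nat_lit 9769), Mv.b (nat_lit 10048), Mv.b (nat_lit 9971), Mv.b (nat_lit 10051), Mv.f (nat_lit 10717), Mv.f (nat_lit 18456), Mv.f (nat_lit 18271), Mv.f (nat_lit 5151), Mv.f (nat_lit 8271)])))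
(Tr.lf (Fc.ed (nat_lit 18461) (nat_lit 4620) Col.g (nat_lit 6137) (Dv.wd (nat_lit 139) [Mv.b (nat_lit 17755), Mv.f (nat_lit 18301), Mv.f (nat_lit 17585), Mv.b (nat_lit 11625), Mv.f (nat_lit 7479), Mv.b (nat_lit 8272), Mv.f (nat_lit 18460), Mv.b (nat_lit 10050), Mv.b (nat_lit 11721)]))))
(Tr.nd (nat_lit 18463) (Tr.lf (Fc.ed (nat_lit 18462) (nat_lit 2877) Col.c (nat_lit 3437) (Dv.wd (nat_lit 14) [Mv.f (nat_lit 10047), Mv.b (nat_lit 11721), Mv.f (nat_lit 18461), Mv.b (nat_lit 15410), Mv.b (nat_lit 15121), Mv.b (nat_lit 11680), Mv.f (nat_lit 18271), Mv.f (nat_lit 5151), Mv.f (nat_lit 7573)])))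
(Tr.nd (nat_lit 18464) (Tr.lf (Fc.ed (nat_lit 18463) (nat_lit 5944) Col.g (nat_lit 4791) (Dv.wd (nat_lit 105) [Mv.f (nat_lit 12544), Mv.f (nat_lit 9979), Mv.f (nat_lit 6119), Mv.b (nat_lit 18342), Mv.f (nat_lit 18462), Mv.f (nat_lit 10047), Mv.b (nat_lit 5698), Mv.f (nat_lit 4945), Mv.f (nat_lit 7884), Mv.f (nat_lit 15030)])))
(Tr.lf (Fc.ed (nat_lit 18464) (nat_lit 2284) Col.b (nat_lit 2797) (Dv.wd (nat_lit 168) [Mv.f (nat_lit 16965), Mv.f (nat_lit 12599), Mv.f (nat_lit 5024), Mv.b (nat_lit 10068), Mv.b (nat_lit 18342), Mv.f (nat_lit 18462), Mv.b (nat_lit 8741), Mv.b (nat_lit 10048), Mv.f (nat_lit 10053), Mv.f (nat_lit 6255)]))))))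
(Tr.nd (nat_lit 18467) (Tr.nd (nat_lit 18466) (Tr.lf (Fc.ed (nat_lit 18465) (nat_lit 2797) Col.f (nat_lit 2877) (Dv.wd (nat_lit 20) [Mv.f (nat_lit 18342), Mv.f (nat_lit 13688), Mv.f (nat_lit 18464)])))
(Tr.lf (Fc.ed (nat_lit 18466) (nat_lit 3912) Col.c (nat_lit 5903) (Dv.wd (nat_lit 130) [Mv.f (nat_lit 14931), Mv.b (nat_lit 9337), Mv.b (nat_lit 4945), Mv.f (nat_lit 9973), Mv.f (nat_lit 18464), Mv.f (nat_lit 16965), Mv.b (nat_lit 12598), Mv.b (nat_lit 6802), Mv.b (nat_lit 9979), Mv.b (nat_lit 10066)]))))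
(Tr.nd (nat_lit 18468) (Tr.lf (Fc.al (nat_lit 18467) (nat_lit 4542) (nat_lit 3446) (Dv.wd (nat_lit 12) [Mv.b (nat_lit 8757), Mv.b (nat_lit 7401), Mv.f (nat_lit 18465), Mv.f (nat_lit 11574)])))
(Tr.nd (nat_lit 18469) (Tr.lf (Fc.ed (nat_lit 18468) (nat_lit 3446) Col.a (nat_lit 2877) (Dv.wd (nat_lit 29) [Mv.f (nat_lit 11574), Mv.f (nat_lit 18467)])))
(Tr.lf (Fc.al (nat_lit 18469) (nat_lit 3667) (nat_lit 5188) (Dv.wd (nat_lit 120) [Mv.f (nat_lit 13407), Mv.f (nat_lit 18467), Mv.f (nat_lit 9171)])))))))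
(Tr.nd (nat_lit 18475) (Tr.nd (nat_lit 18472) (Tr.nd (nat_lit 18471) (Tr.lf (Fc.ed (nat_lit 18470) (nat_lit 3667) Col.a (nat_lit 3034) (Dv.wd (nat_lit 29) [Mv.f (nat_lit 13406), Mv.b (nat_lit 18469)])))
(Tr.lf (Fc.ed (nat_lit 18471) (nat_lit 3667) Col.f (nat_lit 5189) (Dv.wd (nat_lit 30) [Mv.f (nat_lit 13409), Mv.b (nat_lit 18469)]))))
(Tr.nd (nat_lit 18473) (Tr.lf (Fc.ed (nat_lit 18472) (nat_lit 5824) Col.f (nat_lit 4767) (Dv.wd (nat_lit 20) [Mv.b (nat_lit 18346), Mv.f (nat_lit 18471), Mv.f (nat_lit 14773)])))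
(Tr.nd (nat_lit 18474) (Tr.lf (Fc.ed (nat_lit 18473) (nat_lit 5365) Col.gi (nat_lit 5538) (Dv.wd (nat_lit 12) [Mv.f (nat_lit 18436), Mv.f (nat_lit 18471), Mv.f (nat_lit 13789)])))
(Tr.lf (Fc.ed (nat_lit 18474) (nat_lit 3155) Col.a (nat_lit 3588) (Dv.wd (nat_lit 31) [Mv.b (nat_lit 9172), Mv.f (nat_lit 18470), Mv.f (nat_lit 8167)]))))))
(Tr.nd (nat_lit 18478) (Tr.nd (nat_lit 18476) (Tr.lf (Fc.ed (nat_lit 18475) (nat_lit 5778) Col.a (nat_lit 4767) (Dv.wd (nat_lit 167) [Mv.b (nat_lit 18346), Mv.f (nat_lit 18470), Mv.b (nat_lit 18343), Mv.b (nat_lit 9858), Mv.f (nat_lit 14685)])))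
(Tr.nd (nat_lit 18477) (Tr.lf (Fc.ed (nat_lit 18476) (nat_lit 5710) Col.f (nat_lit 5778) (Dv.wd (nat_lit 13) [Mv.f (nat_lit 18475), Mv.f (nat_lit 14430), Mv.f (nat_lit 14476)])))
(Tr.lf (Fc.ed (nat_lit 18477) (nat_lit 5710) Col.a (nat_lit 5824) (Dv.wd (nat_lit 79) [Mv.f (nat_lit 18472), Mv.b (nat_lit 18475), Mv.b (nat_lit 18476)])))))
(Tr.nd (nat_lit 18479) (Tr.lf (Fc.ed (nat_lit 18478) (nat_lit 5043) Col.b (nat_lit 5710) (Dv.wd (nat_lit 108) [Mv.f (nat_lit 18477), Mv.b (nat_lit 14773), Mv.f (nat_lit 13789), Mv.f (nat_lit 18345), Mv.b (nat_lit 13093)])))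
(Tr.nd (nat_lit 18480) (Tr.lf (Fc.ed (nat_lit 18479) (nat_lit 5710) Col.d (nat_lit 4944) (Dv.wd (nat_lit 58) [Mv.f (nat_lit 18341), Mv.f (nat_lit 13092), Mv.f (nat_lit 18478)])))
(Tr.lf (Fc.ed (nat_lit 18480) (nat_lit 5721) Col.e (nat_lit 5710) (Dv.wd (nat_lit 146) [Mv.f (nat_lit 18479), Mv.f (nat_lit 12847), Mv.b (nat_lit 7560), Mv.f (nat_lit 7561), Mv.b (nat_lit 4200), Mv.f (nat_lit 5198), Mv.f (nat_lit 5201), Mv.f (nat_lit 8010), Mv.b (nat_lit 10991), Mv.b (nat_lit 14554)]))))))))))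
(Tr.nd (nat_lit 18522) (Tr.nd (nat_lit 18501) (Tr.nd (nat_lit 18491) (Tr.nd (nat_lit 18486) (Tr.nd (nat_lit 18483) (Tr.nd (nat_lit 18482) (Tr.lf (Fc.ed (nat_lit 18481) (nat_lit 5863) Col.a (nat_lit 5721) (Dv.wd (nat_lit 31) [Mv.f (nat_lit 18480), Mv.f (nat_lit 18477), Mv.f (nat_lit 14852)])))
(Tr.lf (Fc.ed (nat_lit 18482) (nat_lit 4654) Col.a (nat_lit 5673) (Dv.wd (nat_lit 76) [Mv.b (nat_lit 14420), Mv.f (nat_lit 18474), Mv.f (nat_lit 18348)]))))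
(Tr.nd (nat_lit 18484) (Tr.lf (Fc.ed (nat_lit 18483) (nat_lit 2957) Col.f (nat_lit 3155) (Dv.wd (nat_lit 73) [Mv.f (nat_lit 18474), Mv.f (nat_lit 13310), Mv.f (nat_lit 13311)])))
(Tr.nd (nat_lit 18485) (Tr.lf (Fc.ed (nat_lit 18484) (nat_lit 5150) Col.g (nat_lit 1541) (Dv.wd (nat_lit 17) [Mv.b (nat_lit 8168), Mv.f (nat_lit 18474), Mv.f (nat_lit 13310)])))
(Tr.lf (Fc.ed (nat_lit 18485) (nat_lit 5078) Col.e (nat_lit 5150) (Dv.wd (nat_lit 70) [Mv.f (nat_lit 18484), Mv.b (nat_lit 4585), Mv.f (nat_lit 2212), Mv.f (nat_lit 1388), Mv.b (nat_lit 2929), Mv.f (nat_lit 3814), Mv.b (nat_lit 7201), Mv.f (nat_lit 13924), Mv.f (nat_lit 13629), Mv.b (nat_lit 13963)]))))))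
(Tr.nd (nat_lit 18488) (Tr.nd (nat_lit 18487) (Tr.lf (Fc.ed (nat_lit 18486) (nat_lit 5434) Col.a (nat_lit 5078) (Dv.wd (nat_lit 31) [Mv.f (nat_lit 18485), Mv.f (nat_lit 13311), Mv.f (nat_lit 13969)])))
(Tr.lf (Fc.ed (nat_lit 18487) (nat_lit 5300) Col.f (nat_lit 5078) (Dv.wd (nat_lit 61) [Mv.f (nat_lit 18485), Mv.b (nat_lit 13310), Mv.b (nat_lit 9172), Mv.f (nat_lit 18471), Mv.b (nat_lit 13953)]))))
(Tr.nd (nat_lit 18489) (Tr.lf (Fc.ed (nat_lit 18488) (nat_lit 5434) Col.gi (nat_lit 3512) (Dv.wd (nat_lit 12) [Mv.f (nat_lit 13940), Mv.f (nat_lit 18487), Mv.b (nat_lit 18486)])))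
(Tr.nd (nat_lit 18490) (Tr.lf (Fc.ed (nat_lit 18489) (nat_lit 5443) Col.a (nat_lit 5300) (Dv.wd (nat_lit 114) [Mv.f (nat_lit 18487), Mv.b (nat_lit 13951), Mv.b (nat_lit 13985)])))
(Tr.lf (Fc.ed (nat_lit 18490) (nat_lit 5443) Col.f (nat_lit 5434) (Dv.wd (nat_lit 35) [Mv.f (nat_lit 18486), Mv.b (nat_lit 18487), Mv.b (nat_lit 18489)])))))))
(Tr.nd (nat_lit 18496) (Tr.nd (nat_lit 18493) (Tr.nd (nat_lit 18492) (Tr.lf (Fc.ed (nat_lit 18491) (nat_lit 5434) Col.g (nat_lit 5247) (Dv.wd (nat_lit 17) [Mv.f (nat_lit 13629), Mv.b (nat_lit 18489), Mv.f (nat_lit 18490)])))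
(Tr.lf (Fc.ed (nat_lit 18492) (nat_lit 5365) Col.e (nat_lit 5443) (Dv.wd (nat_lit 57) [Mv.f (nat_lit 18490), Mv.b (nat_lit 13969), Mv.f (nat_lit 18483), Mv.b (nat_lit 8167), Mv.b (nat_lit 13790)]))))
(Tr.nd (nat_lit 18494) (Tr.lf (Fc.ed (nat_lit 18493) (nat_lit 5443) Col.b (nat_lit 5012) (Dv.wd (nat_lit 49) [Mv.f (nat_lit 13027), Mv.b (nat_lit 18345), Mv.f (nat_lit 18492)])))
(Tr.nd (nat_lit 18495) (Tr.lf (Fc.ed (nat_lit 18494) (nat_lit 5107) Col.b (nat_lit 5434) (Dv.wd (nat_lit 126) [Mv.f (nat_lit 13984), Mv.f (nat_lit 18493), Mv.f (nat_lit 13222)])))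
(Tr.lf (Fc.ed (nat_lit 18495) (nat_lit 2957) Col.b (nat_lit 2942) (Dv.wd (nat_lit 127) [Mv.b (nat_lit 13221), Mv.f (nat_lit 18494), Mv.b (nat_lit 13969)]))))))
(Tr.nd (nat_lit 18498) (Tr.nd (nat_lit 18497) (Tr.lf (Fc.ed (nat_lit 18496) (nat_lit 6805) Col.g (nat_lit 6822) (Dv.wd (nat_lit 123) [Mv.b (nat_lit 17778), Mv.f (nat_lit 14853), Mv.b (nat_lit 13940), Mv.f (nat_lit 14471), Mv.b (nat_lit 16869), Mv.b (nat_lit 15194), Mv.f (nat_lit 18494), Mv.f (nat_lit 18491), Mv.f (nat_lit 15594), Mv.f (nat_lit 17733)])))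
(Tr.lf (Fc.ed (nat_lit 18497) (nat_lit 6822) Col.g (nat_lit 6832) (Dv.wd (nat_lit 9) [Mv.f (nat_lit 17794), Mv.b (nat_lit 17734), Mv.f (nat_lit 18496)]))))
(Tr.nd (nat_lit 18499) (Tr.lf (Fc.ed (nat_lit 18498) (nat_lit 5907) Col.g (nat_lit 5863) (Dv.wd (nat_lit 139) [Mv.f (nat_lit 17778), Mv.f (nat_lit 18497), Mv.b (nat_lit 17793), Mv.f (nat_lit 16978), Mv.b (nat_lit 14101), Mv.b (nat_lit 9411), Mv.f (nat_lit 8364), Mv.f (nat_lit 13312), Mv.b (nat_lit 14939)])))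
(Tr.nd (nat_lit 18500) (Tr.lf (Fc.ed (nat_lit 18499) (nat_lit 5863) Col.g (nat_lit 3277) (Dv.wd (nat_lit 9) [Mv.f (nat_lit 14515), Mv.b (nat_lit 14940), Mv.f (nat_lit 18498)])))
(Tr.lf (Fc.ed (nat_lit 18500) (nat_lit 5721) Col.f (nat_lit 5744) (Dv.wd (nat_lit 10) [Mv.b (nat_lit 14941), Mv.f (nat_lit 18498), Mv.f (nat_lit 18481)]))))))))
(Tr.nd (nat_lit 18511) (Tr.nd (nat_lit 18506) (Tr.nd (nat_lit 18503) (Tr.nd (nat_lit 18502) (Tr.lf (Fc.ed (nat_lit 18501) (nat_lit 5989) Col.gi (nat_lit 4272) (Dv.wd (nat_lit 12) [Mv.b (nat_lit 14554), Mv.f (nat_lit 18500), Mv.f (nat_lit 15140)])))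
(Tr.lf (Fc.ed (nat_lit 18502) (nat_lit 5477) Col.gi (nat_lit 5989) (Dv.wd (nat_lit 12) [Mv.f (nat_lit 18501), Mv.b (nat_lit 14940), Mv.b (nat_lit 14938)]))))
(Tr.nd (nat_lit 18504) (Tr.lf (Fc.ed (nat_lit 18503) (nat_lit 5936) Col.c (nat_lit 6737) (Dv.wd (nat_lit 32) [Mv.b (nat_lit 17588), Mv.b (nat_lit 17357), Mv.f (nat_lit 18501), Mv.f (nat_lit 10991), Mv.b (nat_lit 8010), Mv.f (nat_lit 7370), Mv.f (nat_lit 13863), Mv.f (nat_lit 16853), Mv.f (nat_lit 15015)])))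
(Tr.nd (nat_lit 18505) (Tr.lf (Fc.ed (nat_lit 18504) (nat_lit 6737) Col.a (nat_lit 6805) (Dv.wd (nat_lit 19) [Mv.b (nat_lit 17733), Mv.f (nat_lit 15597), Mv.f (nat_lit 18503)])))
(Tr.lf (Fc.ed (nat_lit 18505) (nat_lit 6737) Col.f (nat_lit 6832) (Dv.wd (nat_lit 26) [Mv.b (nat_lit 17793), Mv.f (nat_lit 15013), Mv.f (nat_lit 18503)]))))))
(Tr.nd (nat_lit 18508) (Tr.nd (nat_lit 18507) (Tr.lf (Fc.ed (nat_lit 18506) (nat_lit 6499) Col.g (nat_lit 6650) (Dv.wd (nat_lit 17) [Mv.f (nat_lit 17588), Mv.f (nat_lit 18504), Mv.f (nat_lit 17734)])))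
(Tr.lf (Fc.ed (nat_lit 18507) (nat_lit 5989) Col.b (nat_lit 5078) (Dv.wd (nat_lit 165) [Mv.b (nat_lit 13951), Mv.f (nat_lit 15115), Mv.f (nat_lit 15782), Mv.f (nat_lit 16866), Mv.b (nat_lit 18493), Mv.b (nat_lit 13986), Mv.f (nat_lit 14370), Mv.b (nat_lit 16821), Mv.f (nat_lit 18506), Mv.b (nat_lit 17357)]))))
(Tr.nd (nat_lit 18509) (Tr.lf (Fc.ed (nat_lit 18508) (nat_lit 5863) Col.d (nat_lit 5989) (Dv.wd (nat_lit 116) [Mv.f (nat_lit 18507), Mv.f (nat_lit 13963), Mv.b (nat_lit 14853)])))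
(Tr.nd (nat_lit 18510) (Tr.lf (Fc.ed (nat_lit 18509) (nat_lit 5744) Col.d (nat_lit 5721) (Dv.wd (nat_lit 28) [Mv.b (nat_lit 18481), Mv.f (nat_lit 18508), Mv.b (nat_lit 15140)])))
(Tr.lf (Fc.ed (nat_lit 18510) (nat_lit 4547) Col.d (nat_lit 5824) (Dv.wd (nat_lit 60) [Mv.f (nat_lit 14852), Mv.f (nat_lit 18499), Mv.b (nat_lit 8407), Mv.f (nat_lit 8312), Mv.f (nat_lit 3893), Mv.b (nat_lit 3892), Mv.b (nat_lit 4498), Mv.f (nat_lit 5245), Mv.f (nat_lit 5716), Mv.f (nat_lit 11584)])))))))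
(Tr.nd (nat_lit 18516) (Tr.nd (nat_lit 18513) (Tr.nd (nat_lit 18512) (Tr.lf (Fc.ed (nat_lit 18511) (nat_lit 3205) Col.b (nat_lit 4547) (Dv.wd (nat_lit 126) [Mv.f (nat_lit 18510), Mv.b (nat_lit 14773), Mv.b (nat_lit 13408)])))
(Tr.lf (Fc.ed (nat_lit 18512) (nat_lit 4202) Col.f (nat_lit 4547) (Dv.wd (nat_lit 86) [Mv.f (nat_lit 18510), Mv.f (nat_lit 18472), Mv.f (nat_lit 13261)]))))
(Tr.nd (nat_lit 18514) (Tr.lf (Fc.ed (nat_lit 18513) (nat_lit 4184) Col.a (nat_lit 4202) (Dv.wd (nat_lit 79) [Mv.f (nat_lit 18512), Mv.f (nat_lit 11710), Mv.f (nat_lit 11711)])))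
(Tr.nd (nat_lit 18515) (Tr.lf (Fc.al (nat_lit 18514) (nat_lit 5778) (nat_lit 4337) (Dv.wd (nat_lit 97) [Mv.b (nat_lit 11128), Mv.f (nat_lit 18513), Mv.b (nat_lit 13261), Mv.b (nat_lit 18475)])))
(Tr.lf (Fc.ed (nat_lit 18515) (nat_lit 4337) Col.b (nat_lit 3706) (Dv.wd (nat_lit 119) [Mv.f (nat_lit 14685), Mv.f (nat_lit 18514)]))))))
(Tr.nd (nat_lit 18519) (Tr.nd (nat_lit 18517) (Tr.lf (Fc.ed (nat_lit 18516) (nat_lit 2124) Col.b (nat_lit 4184) (Dv.wd (nat_lit 108) [Mv.f (nat_lit 18513), Mv.f (nat_lit 18340), Mv.f (nat_lit 18468), Mv.f (nat_lit 18342), Mv.f (nat_lit 13686)])))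
(Tr.nd (nat_lit 18518) (Tr.lf (Fc.ed (nat_lit 18517) (nat_lit 4184) Col.c (nat_lit 5791) (Dv.wd (nat_lit 135) [Mv.f (nat_lit 14712), Mv.b (nat_lit 7678), Mv.f (nat_lit 4784), Mv.f (nat_lit 8271), Mv.f (nat_lit 18460), Mv.b (nat_lit 9769), Mv.b (nat_lit 10048), Mv.f (nat_lit 10053), Mv.b (nat_lit 9974), Mv.f (nat_lit 18516)])))
(Tr.lf (Fc.ed (nat_lit 18518) (nat_lit 4547) Col.c (nat_lit 5135) (Dv.wd (nat_lit 142) [Mv.b (nat_lit 13285), Mv.b (nat_lit 7678), Mv.f (nat_lit 4784), Mv.f (nat_lit 7573), Mv.f (nat_lit 18342), Mv.f (nat_lit 13496), Mv.b (nat_lit 18306), Mv.f (nat_lit 7479), Mv.b (nat_lit 8272), Mv.f (nat_lit 18511)])))))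
(Tr.nd (nat_lit 18520) (Tr.lf (Fc.ed (nat_lit 18519) (nat_lit 5005) Col.gi (nat_lit 5135) (Dv.wd (nat_lit 88) [Mv.b (nat_lit 18518), Mv.b (nat_lit 18511), Mv.b (nat_lit 8271), Mv.b (nat_lit 4784), Mv.f (nat_lit 7678), Mv.b (nat_lit 14712), Mv.b (nat_lit 18517), Mv.b (nat_lit 10806), Mv.f (nat_lit 9912), Mv.b (nat_lit 13013)])))
(Tr.nd (nat_lit 18521) (Tr.lf (Fc.ed (nat_lit 18520) (nat_lit 5471) Col.c (nat_lit 5434) (Dv.wd (nat_lit 81) [Mv.f (nat_lit 18488), Mv.f (nat_lit 8882), Mv.b (nat_lit 8175), Mv.f (nat_lit 5265), Mv.b (nat_lit 8669), Mv.f (nat_lit 16982), Mv.f (nat_lit 18376), Mv.f (nat_lit 13866), Mv.f (nat_lit 14040)])))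
(Tr.lf (Fc.ed (nat_lit 18521) (nat_lit 5673) Col.f (nat_lit 3921) (Dv.wd (nat_lit 10) [Mv.f (nat_lit 9631), Mv.b (nat_lit 11780), Mv.f (nat_lit 18482)])))))))))
(Tr.nd (nat_lit 18542) (Tr.nd (nat_lit 18532) (Tr.nd (nat_lit 18527) (Tr.nd (nat_lit 18524) (Tr.nd (nat_lit 18523) (Tr.lf (Fc.ed (nat_lit 18522) (nat_lit 3921) Col.c (nat_lit 2957) (Dv.wd (nat_lit 34) [Mv.f (nat_lit 18483), Mv.f (nat_lit 14420), Mv.f (nat_lit 18521)])))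
(Tr.lf (Fc.ed (nat_lit 18523) (nat_lit 6848) Col.c (nat_lit 6765) (Dv.wd (nat_lit 135) [Mv.b (nat_lit 17652), Mv.f (nat_lit 11622), Mv.b (nat_lit 11620), Mv.f (nat_lit 9630), Mv.f (nat_lit 18522), Mv.f (nat_lit 7738), Mv.b (nat_lit 5517), Mv.f (nat_lit 8319), Mv.f (nat_lit 17033), Mv.f (nat_lit 17844)]))))
(Tr.nd (nat_lit 18525) (Tr.lf (Fc.al (nat_lit 18524) (nat_lit 3777) (nat_lit 5673) (Dv.wd (nat_lit 124) [Mv.b (nat_lit 14420), Mv.f (nat_lit 18344), Mv.b (nat_lit 13694), Mv.b (nat_lit 8227), Mv.f (nat_lit 9630), Mv.f (nat_lit 18522), Mv.f (nat_lit 18495), Mv.b (nat_lit 7709), Mv.f (nat_lit 4821), Mv.f (nat_lit 5386), Mv.f (nat_lit 9387)])))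
(Tr.nd (nat_lit 18526) (Tr.lf (Fc.ed (nat_lit 18525) (nat_lit 3777) Col.c (nat_lit 3155) (Dv.wd (nat_lit 103) [Mv.f (nat_lit 14420), Mv.b (nat_lit 18524)])))
(Tr.lf (Fc.ed (nat_lit 18526) (nat_lit 3034) Col.c (nat_lit 5971) (Dv.wd (nat_lit 109) [Mv.b (nat_lit 15106), Mv.f (nat_lit 18525), Mv.b (nat_lit 8167)]))))))
(Tr.nd (nat_lit 18529) (Tr.nd (nat_lit 18528) (Tr.lf (Fc.ed (nat_lit 18527) (nat_lit 6240) Col.c (nat_lit 5071) (Dv.wd (nat_lit 81) [Mv.b (nat_lit 13153), Mv.f (nat_lit 12641), Mv.b (nat_lit 6255), Mv.f (nat_lit 10048), Mv.f (nat_lit 8741), Mv.b (nat_lit 18462), Mv.f (nat_lit 7896), Mv.f (nat_lit 18526), Mv.f (nat_lit 15603)])))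
(Tr.lf (Fc.ed (nat_lit 18528) (nat_lit 6608) Col.gi (nat_lit 5448) (Dv.wd (nat_lit 102) [Mv.f (nat_lit 16893), Mv.f (nat_lit 13692), Mv.f (nat_lit 18343), Mv.f (nat_lit 18526), Mv.f (nat_lit 15603), Mv.f (nat_lit 18527), Mv.f (nat_lit 18434), Mv.b (nat_lit 13153), Mv.b (nat_lit 18345), Mv.f (nat_lit 17213)]))))
(Tr.nd (nat_lit 18530) (Tr.lf (Fc.ed (nat_lit 18529) (nat_lit 6355) Col.a (nat_lit 6240) (Dv.wd (nat_lit 76) [Mv.f (nat_lit 18527), Mv.f (nat_lit 18411), Mv.b (nat_lit 18413)])))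
(Tr.nd (nat_lit 18531) (Tr.lf (Fc.ed (nat_lit 18530) (nat_lit 5448) Col.f (nat_lit 6240) (Dv.wd (nat_lit 64) [Mv.f (nat_lit 18527), Mv.f (nat_lit 18362), Mv.b (nat_lit 16893)])))
(Tr.lf (Fc.ed (nat_lit 18531) (nat_lit 6355) Col.gi (nat_lit 6608) (Dv.wd (nat_lit 12) [Mv.f (nat_lit 18528), Mv.f (nat_lit 18530), Mv.b (nat_lit 18529)])))))))
(Tr.nd (nat_lit 18537) (Tr.nd (nat_lit 18534) (Tr.nd (nat_lit 18533) (Tr.lf (Fc.ed (nat_lit 18532) (nat_lit 6518) Col.g (nat_lit 5694) (Dv.wd (nat_lit 77) [Mv.b (nat_lit 14451), Mv.f (nat_lit 13424), Mv.b (nat_lit 18413), Mv.f (nat_lit 18531), Mv.b (nat_lit 17213), Mv.f (nat_lit 18473), Mv.f (nat_lit 14217), Mv.b (nat_lit 18292), Mv.b (nat_lit 17028)])))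
(Tr.lf (Fc.ed (nat_lit 18533) (nat_lit 5694) Col.g (nat_lit 5978) (Dv.wd (nat_lit 9) [Mv.b (nat_lit 15913), Mv.f (nat_lit 17026), Mv.f (nat_lit 18532)]))))
(Tr.nd (nat_lit 18535) (Tr.lf (Fc.ed (nat_lit 18534) (nat_lit 3749) Col.g (nat_lit 5944) (Dv.wd (nat_lit 17) [Mv.f (nat_lit 18463), Mv.f (nat_lit 12543), Mv.b (nat_lit 12542)])))
(Tr.nd (nat_lit 18536) (Tr.lf (Fc.ed (nat_lit 18535) (nat_lit 3028) Col.b (nat_lit 5287) (Dv.wd (nat_lit 165) [Mv.b (nat_lit 13603), Mv.b (nat_lit 13013), Mv.f (nat_lit 14711), Mv.b (nat_lit 18517), Mv.b (nat_lit 18516), Mv.b (nat_lit 5903), Mv.f (nat_lit 4945), Mv.f (nat_lit 9337), Mv.f (nat_lit 18534), Mv.b (nat_lit 15030)])))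
(Tr.lf (Fc.ed (nat_lit 18536) (nat_lit 5287) Col.gi (nat_lit 1630) (Dv.wd (nat_lit 100) [Mv.f (nat_lit 4784), Mv.f (nat_lit 4796), Mv.b (nat_lit 18302), Mv.b (nat_lit 13496), Mv.b (nat_lit 6119), Mv.b (nat_lit 9979), Mv.b (nat_lit 12544), Mv.b (nat_lit 18463), Mv.b (nat_lit 15030), Mv.f (nat_lit 18535)]))))))
(Tr.nd (nat_lit 18539) (Tr.nd (nat_lit 18538) (Tr.lf (Fc.ed (nat_lit 18537) (nat_lit 2673) Col.b (nat_lit 4902) (Dv.wd (nat_lit 126) [Mv.b (nat_lit 12759), Mv.f (nat_lit 18448), Mv.f (nat_lit 7129)])))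
(Tr.lf (Fc.ed (nat_lit 18538) (nat_lit 4902) Col.e (nat_lit 4309) (Dv.wd (nat_lit 52) [Mv.f (nat_lit 16943), Mv.f (nat_lit 9970), Mv.f (nat_lit 18537)]))))
(Tr.nd (nat_lit 18540) (Tr.lf (Fc.ed (nat_lit 18539) (nat_lit 4902) Col.a (nat_lit 3394) (Dv.wd (nat_lit 98) [Mv.b (nat_lit 16921), Mv.b (nat_lit 14082), Mv.b (nat_lit 18311), Mv.b (nat_lit 18313), Mv.f (nat_lit 18537)])))
(Tr.nd (nat_lit 18541) (Tr.lf (Fc.ed (nat_lit 18540) (nat_lit 6675) Col.c (nat_lit 4902) (Dv.wd (nat_lit 109) [Mv.f (nat_lit 18538), Mv.f (nat_lit 16959), Mv.f (nat_lit 17405)])))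
(Tr.lf (Fc.ed (nat_lit 18541) (nat_lit 6721) Col.d (nat_lit 6675) (Dv.wd (nat_lit 85) [Mv.f (nat_lit 18540), Mv.b (nat_lit 12759), Mv.f (nat_lit 12682), Mv.b (nat_lit 9913), Mv.b (nat_lit 11585), Mv.f (nat_lit 18518), Mv.b (nat_lit 18519), Mv.f (nat_lit 16687), Mv.b (nat_lit 17559)]))))))))
(Tr.nd (nat_lit 18552) (Tr.nd (nat_lit 18547) (Tr.nd (nat_lit 18544) (Tr.nd (nat_lit 18543) (Tr.lf (Fc.al (nat_lit 18542) (nat_lit 5013) (nat_lit 4234) (Dv.wd (nat_lit 116) [Mv.f (nat_lit 13055), Mv.f (nat_lit 18249), Mv.b (nat_lit 13055), Mv.b (nat_lit 16964)])))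
(Tr.lf (Fc.al (nat_lit 18543) (nat_lit 5597) (nat_lit 3157) (Dv.wd (nat_lit 29) [Mv.f (nat_lit 13028), Mv.f (nat_lit 18542), Mv.b (nat_lit 14272)]))))
(Tr.nd (nat_lit 18545) (Tr.lf (Fc.al (nat_lit 18544) (nat_lit 5774) (nat_lit 4565) (Dv.wd (nat_lit 30) [Mv.b (nat_lit 13029), Mv.f (nat_lit 18542), Mv.b (nat_lit 14652)])))
(Tr.nd (nat_lit 18546) (Tr.lf (Fc.al (nat_lit 18545) (nat_lit 4825) (nat_lit 3518) (Dv.wd (nat_lit 30) [Mv.f (nat_lit 14271), Mv.f (nat_lit 18543), Mv.b (nat_lit 12606)])))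
(Tr.lf (Fc.ed (nat_lit 18546) (nat_lit 4565) Col.e (nat_lit 5242) (Dv.wd (nat_lit 117) [Mv.b (nat_lit 14651), Mv.f (nat_lit 18544)]))))))
(Tr.nd (nat_lit 18549) (Tr.nd (nat_lit 18548) (Tr.lf (Fc.ed (nat_lit 18547) (nat_lit 4565) Col.f (nat_lit 4234) (Dv.wd (nat_lit 30) [Mv.b (nat_lit 14652), Mv.f (nat_lit 18544)])))
(Tr.lf (Fc.ed (nat_lit 18548) (nat_lit 3518) Col.a (nat_lit 4565) (Dv.wd (nat_lit 29) [Mv.f (nat_lit 12605), Mv.f (nat_lit 18545)]))))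
(Tr.nd (nat_lit 18550) (Tr.lf (Fc.al (nat_lit 18549) (nat_lit 3315) (nat_lit 5812) (Dv.wd (nat_lit 119) [Mv.b (nat_lit 16932), Mv.f (nat_lit 18545), Mv.b (nat_lit 16949)])))
(Tr.nd (nat_lit 18551) (Tr.lf (Fc.ed (nat_lit 18550) (nat_lit 3518) Col.f (nat_lit 3157) (Dv.wd (nat_lit 30) [Mv.b (nat_lit 12606), Mv.f (nat_lit 18545)])))
(Tr.lf (Fc.al (nat_lit 18551) (nat_lit 4656) (nat_lit 5480) (Dv.wd (nat_lit 103) [Mv.f (nat_lit 16643), Mv.b (nat_lit 18549), Mv.f (nat_lit 16645)])))))))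
(Tr.nd (nat_lit 18557) (Tr.nd (nat_lit 18554) (Tr.nd (nat_lit 18553) (Tr.lf (Fc.ed (nat_lit 18552) (nat_lit 3315) Col.f (nat_lit 3381) (Dv.wd (nat_lit 30) [Mv.f (nat_lit 14755), Mv.b (nat_lit 18549)])))
(Tr.lf (Fc.ed (nat_lit 18553) (nat_lit 4656) Col.a (nat_lit 4656) (Dv.wd (nat_lit 29) [Mv.f (nat_lit 14057), Mv.b (nat_lit 18551)]))))
(Tr.nd (nat_lit 18555) (Tr.lf (Fc.ed (nat_lit 18554) (nat_lit 4656) Col.f (nat_lit 4622) (Dv.wd (nat_lit 30) [Mv.b (nat_lit 14058), Mv.b (nat_lit 18551)])))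
(Tr.nd (nat_lit 18556) (Tr.lf (Fc.ed (nat_lit 18555) (nat_lit 4622) Col.a (nat_lit 4622) (Dv.wd (nat_lit 16) [Mv.b (nat_lit 18554), Mv.f (nat_lit 18553), Mv.f (nat_lit 18554)])))
(Tr.lf (Fc.ed (nat_lit 18556) (nat_lit 3381) Col.a (nat_lit 3381) (Dv.wd (nat_lit 76) [Mv.f (nat_lit 16642), Mv.f (nat_lit 18555), Mv.b (nat_lit 16642)]))))))
(Tr.nd (nat_lit 18560) (Tr.nd (nat_lit 18558) (Tr.lf (Fc.ed (nat_lit 18557) (nat_lit 3455) Col.a (nat_lit 3455) (Dv.wd (nat_lit 54) [Mv.b (nat_lit 8772), Mv.f (nat_lit 18556), Mv.f (nat_lit 8772)])))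
(Tr.nd (nat_lit 18559) (Tr.lf (Fc.ed (nat_lit 18558) (nat_lit 4689) Col.a (nat_lit 4689) (Dv.wd (nat_lit 31) [Mv.b (nat_lit 11850), Mv.f (nat_lit 18553), Mv.f (nat_lit 11850)])))
(Tr.lf (Fc.ed (nat_lit 18559) (nat_lit 6284) Col.a (nat_lit 6284) (Dv.wd (nat_lit 79) [Mv.f (nat_lit 15749), Mv.f (nat_lit 18558), Mv.b (nat_lit 15749)])))))
(Tr.nd (nat_lit 18561) (Tr.lf (Fc.ed (nat_lit 18560) (nat_lit 4689) Col.gi (nat_lit 6300) (Dv.wd (nat_lit 12) [Mv.b (nat_lit 15778), Mv.f (nat_lit 15749), Mv.f (nat_lit 18558)])))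
(Tr.nd (nat_lit 18562) (Tr.lf (Fc.ed (nat_lit 18561) (nat_lit 6300) Col.c (nat_lit 6373) (Dv.wd (nat_lit 14) [Mv.b (nat_lit 15921), Mv.b (nat_lit 12509), Mv.b (nat_lit 11537), Mv.f (nat_lit 6835), Mv.f (nat_lit 6838), Mv.f (nat_lit 6894), Mv.b (nat_lit 11822), Mv.b (nat_lit 11851), Mv.f (nat_lit 18560)])))
(Tr.lf (Fc.ed (nat_lit 18562) (nat_lit 6300) Col.e (nat_lit 6293) (Dv.wd (nat_lit 146) [Mv.b (nat_lit 15763), Mv.b (nat_lit 11505), Mv.f (nat_lit 6069), Mv.b (nat_lit 4582), Mv.f (nat_lit 4149), Mv.b (nat_lit 6840), Mv.f (nat_lit 6894), Mv.b (nat_lit 11822), Mv.b (nat_lit 11851), Mv.f (nat_lit 18560)])))))))))))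
(Tr.nd (nat_lit 18645) (Tr.nd (nat_lit 18604) (Tr.nd (nat_lit 18583) (Tr.nd (nat_lit 18573) (Tr.nd (nat_lit 18568) (Tr.nd (nat_lit 18565) (Tr.nd (nat_lit 18564) (Tr.lf (Fc.al (nat_lit 18563) (nat_lit 4937) (nat_lit 4782) (Dv.wd (nat_lit 97) [Mv.f (nat_lit 15748), Mv.f (nat_lit 18559), Mv.b (nat_lit 15748), Mv.f (nat_lit 12834)])))
(Tr.lf (Fc.ed (nat_lit 18564) (nat_lit 4782) Col.g (nat_lit 4323) (Dv.wd (nat_lit 129) [Mv.f (nat_lit 12832), Mv.f (nat_lit 18563)]))))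
(Tr.nd (nat_lit 18566) (Tr.lf (Fc.ed (nat_lit 18565) (nat_lit 4782) Col.gi (nat_lit 2570) (Dv.wd (nat_lit 128) [Mv.b (nat_lit 12833), Mv.f (nat_lit 18563)])))
(Tr.nd (nat_lit 18567) (Tr.lf (Fc.ed (nat_lit 18566) (nat_lit 4782) Col.a (nat_lit 4782) (Dv.wd (nat_lit 29) [Mv.f (nat_lit 12834), Mv.f (nat_lit 18563)])))
(Tr.lf (Fc.ed (nat_lit 18567) (nat_lit 6246) Col.a (nat_lit 6246) (Dv.wd (nat_lit 76) [Mv.b (nat_lit 15617), Mv.f (nat_lit 18566), Mv.f (nat_lit 15617)]))))))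
(Tr.nd (nat_lit 18570) (Tr.nd (nat_lit 18569) (Tr.lf (Fc.ed (nat_lit 18568) (nat_lit 6483) Col.a (nat_lit 6483) (Dv.wd (nat_lit 54) [Mv.b (nat_lit 16787), Mv.f (nat_lit 18567), Mv.f (nat_lit 16787)])))
(Tr.lf (Fc.ed (nat_lit 18569) (nat_lit 6025) Col.a (nat_lit 6025) (Dv.wd (nat_lit 79) [Mv.b (nat_lit 15618), Mv.f (nat_lit 18567), Mv.f (nat_lit 15618)]))))
(Tr.nd (nat_lit 18571) (Tr.lf (Fc.ed (nat_lit 18570) (nat_lit 4200) Col.g (nat_lit 6025) (Dv.wd (nat_lit 77) [Mv.b (nat_lit 15205), Mv.b (nat_lit 11851), Mv.f (nat_lit 16646), Mv.f (nat_lit 15921), Mv.b (nat_lit 18561), Mv.b (nat_lit 15778), Mv.b (nat_lit 15748), Mv.f (nat_lit 18564), Mv.f (nat_lit 11107)])))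
(Tr.nd (nat_lit 18572) (Tr.lf (Fc.ed (nat_lit 18571) (nat_lit 4186) Col.g (nat_lit 6246) (Dv.wd (nat_lit 139) [Mv.b (nat_lit 15617), Mv.f (nat_lit 18564), Mv.f (nat_lit 11107), Mv.f (nat_lit 10838), Mv.b (nat_lit 10810), Mv.b (nat_lit 11822), Mv.f (nat_lit 15205), Mv.b (nat_lit 18570), Mv.f (nat_lit 10838)])))
(Tr.lf (Fc.ed (nat_lit 18572) (nat_lit 6246) Col.g (nat_lit 4200) (Dv.wd (nat_lit 9) [Mv.f (nat_lit 10837), Mv.b (nat_lit 10836), Mv.f (nat_lit 18571)])))))))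
(Tr.nd (nat_lit 18578) (Tr.nd (nat_lit 18575) (Tr.nd (nat_lit 18574) (Tr.lf (Fc.ed (nat_lit 18573) (nat_lit 6025) Col.g (nat_lit 4186) (Dv.wd (nat_lit 17) [Mv.f (nat_lit 18571), Mv.f (nat_lit 18567), Mv.f (nat_lit 15618)])))
(Tr.lf (Fc.ed (nat_lit 18574) (nat_lit 6483) Col.c (nat_lit 5130) (Dv.wd (nat_lit 110) [Mv.b (nat_lit 13267), Mv.f (nat_lit 12824), Mv.f (nat_lit 11132), Mv.b (nat_lit 18564), Mv.f (nat_lit 15617), Mv.f (nat_lit 18572), Mv.f (nat_lit 10838), Mv.f (nat_lit 18571), Mv.f (nat_lit 16787)]))))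
(Tr.nd (nat_lit 18576) (Tr.lf (Fc.ed (nat_lit 18575) (nat_lit 5130) Col.a (nat_lit 5130) (Dv.wd (nat_lit 19) [Mv.b (nat_lit 18574), Mv.f (nat_lit 18568), Mv.f (nat_lit 18574)])))
(Tr.nd (nat_lit 18577) (Tr.lf (Fc.al (nat_lit 18576) (nat_lit 5845) (nat_lit 4523) (Dv.wd (nat_lit 95) [Mv.f (nat_lit 12509), Mv.b (nat_lit 16646), Mv.f (nat_lit 11851), Mv.f (nat_lit 12525), Mv.f (nat_lit 18566), Mv.f (nat_lit 15617), Mv.f (nat_lit 16787), Mv.f (nat_lit 18574), Mv.b (nat_lit 13267), Mv.f (nat_lit 14802)])))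
(Tr.lf (Fc.ed (nat_lit 18577) (nat_lit 4523) Col.c (nat_lit 4933) (Dv.wd (nat_lit 103) [Mv.f (nat_lit 14802), Mv.f (nat_lit 18576)]))))))
(Tr.nd (nat_lit 18580) (Tr.nd (nat_lit 18579) (Tr.lf (Fc.ed (nat_lit 18578) (nat_lit 4523) Col.f (nat_lit 5881) (Dv.wd (nat_lit 30) [Mv.b (nat_lit 14888), Mv.f (nat_lit 18576)])))
(Tr.lf (Fc.ed (nat_lit 18579) (nat_lit 4933) Col.a (nat_lit 4933) (Dv.wd (nat_lit 54) [Mv.f (nat_lit 13267), Mv.f (nat_lit 18575), Mv.b (nat_lit 13267)]))))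
(Tr.nd (nat_lit 18581) (Tr.lf (Fc.ed (nat_lit 18580) (nat_lit 5953) Col.f (nat_lit 4933) (Dv.wd (nat_lit 13) [Mv.f (nat_lit 18579), Mv.f (nat_lit 12824), Mv.b (nat_lit 15046)])))
(Tr.nd (nat_lit 18582) (Tr.lf (Fc.ed (nat_lit 18581) (nat_lit 5953) Col.a (nat_lit 5953) (Dv.wd (nat_lit 79) [Mv.f (nat_lit 18580), Mv.f (nat_lit 18579), Mv.b (nat_lit 18580)])))
(Tr.lf (Fc.ed (nat_lit 18582) (nat_lit 5815) Col.a (nat_lit 5815) (Dv.wd (nat_lit 31) [Mv.b (nat_lit 15047), Mv.f (nat_lit 18581), Mv.f (nat_lit 15047)]))))))))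
(Tr.nd (nat_lit 18593) (Tr.nd (nat_lit 18588) (Tr.nd (nat_lit 18585) (Tr.nd (nat_lit 18584) (Tr.lf (Fc.ed (nat_lit 18583) (nat_lit 5881) Col.c (nat_lit 5953) (Dv.wd (nat_lit 67) [Mv.f (nat_lit 18580), Mv.b (nat_lit 18577), Mv.f (nat_lit 18578)])))
(Tr.lf (Fc.ed (nat_lit 18584) (nat_lit 5815) Col.c (nat_lit 5952) (Dv.wd (nat_lit 109) [Mv.b (nat_lit 15044), Mv.f (nat_lit 18583), Mv.f (nat_lit 15047)]))))
(Tr.nd (nat_lit 18586) (Tr.lf (Fc.ed (nat_lit 18585) (nat_lit 4298) Col.gi (nat_lit 5881) (Dv.wd (nat_lit 50) [Mv.f (nat_lit 18583), Mv.f (nat_lit 15046), Mv.f (nat_lit 11132), Mv.f (nat_lit 11821), Mv.b (nat_lit 11851), Mv.f (nat_lit 16646), Mv.b (nat_lit 12509), Mv.f (nat_lit 11538), Mv.f (nat_lit 11058)])))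
(Tr.nd (nat_lit 18587) (Tr.lf (Fc.ed (nat_lit 18586) (nat_lit 5952) Col.d (nat_lit 4124) (Dv.wd (nat_lit 27) [Mv.f (nat_lit 10619), Mv.b (nat_lit 7796), Mv.f (nat_lit 7797), Mv.f (nat_lit 8481), Mv.b (nat_lit 12510), Mv.b (nat_lit 12509), Mv.f (nat_lit 11538), Mv.f (nat_lit 11058), Mv.f (nat_lit 18585), Mv.f (nat_lit 15044)])))
(Tr.lf (Fc.ed (nat_lit 18587) (nat_lit 5952) Col.a (nat_lit 5952) (Dv.wd (nat_lit 19) [Mv.b (nat_lit 18584), Mv.f (nat_lit 18582), Mv.f (nat_lit 18584)]))))))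
(Tr.nd (nat_lit 18590) (Tr.nd (nat_lit 18589) (Tr.lf (Fc.ed (nat_lit 18588) (nat_lit 4124) Col.a (nat_lit 4124) (Dv.wd (nat_lit 54) [Mv.b (nat_lit 18586), Mv.f (nat_lit 18587), Mv.f (nat_lit 18586)])))
(Tr.lf (Fc.al (nat_lit 18589) (nat_lit 4504) (nat_lit 4553) (Dv.wd (nat_lit 73) [Mv.f (nat_lit 11594), Mv.f (nat_lit 18588), Mv.b (nat_lit 11594), Mv.b (nat_lit 11593)]))))
(Tr.nd (nat_lit 18591) (Tr.lf (Fc.al (nat_lit 18590) (nat_lit 4959) (nat_lit 5491) (Dv.wd (nat_lit 119) [Mv.b (nat_lit 16957), Mv.b (nat_lit 18589), Mv.b (nat_lit 16920)])))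
(Tr.nd (nat_lit 18592) (Tr.lf (Fc.ed (nat_lit 18591) (nat_lit 4504) Col.f (nat_lit 4124) (Dv.wd (nat_lit 30) [Mv.b (nat_lit 11594), Mv.b (nat_lit 18589)])))
(Tr.lf (Fc.al (nat_lit 18592) (nat_lit 5558) (nat_lit 5236) (Dv.wd (nat_lit 29) [Mv.b (nat_lit 14075), Mv.b (nat_lit 18590), Mv.f (nat_lit 14195)])))))))
(Tr.nd (nat_lit 18598) (Tr.nd (nat_lit 18595) (Tr.nd (nat_lit 18594) (Tr.lf (Fc.ed (nat_lit 18593) (nat_lit 4959) Col.f (nat_lit 3945) (Dv.wd (nat_lit 30) [Mv.f (nat_lit 14074), Mv.b (nat_lit 18590)])))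
(Tr.lf (Fc.ed (nat_lit 18594) (nat_lit 5236) Col.a (nat_lit 4959) (Dv.wd (nat_lit 29) [Mv.f (nat_lit 14195), Mv.f (nat_lit 18592)]))))
(Tr.nd (nat_lit 18596) (Tr.lf (Fc.ed (nat_lit 18595) (nat_lit 5236) Col.b (nat_lit 5236) (Dv.wd (nat_lit 119) [Mv.f (nat_lit 16960), Mv.f (nat_lit 18592)])))
(Tr.nd (nat_lit 18597) (Tr.lf (Fc.ed (nat_lit 18596) (nat_lit 5236) Col.f (nat_lit 5318) (Dv.wd (nat_lit 30) [Mv.b (nat_lit 14196), Mv.f (nat_lit 18592)])))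
(Tr.lf (Fc.ed (nat_lit 18597) (nat_lit 5318) Col.a (nat_lit 3945) (Dv.wd (nat_lit 16) [Mv.b (nat_lit 18593), Mv.b (nat_lit 18594), Mv.f (nat_lit 18596)]))))))
(Tr.nd (nat_lit 18601) (Tr.nd (nat_lit 18599) (Tr.lf (Fc.ed (nat_lit 18598) (nat_lit 5318) Col.b (nat_lit 5318) (Dv.wd (nat_lit 66) [Mv.b (nat_lit 18596), Mv.f (nat_lit 18595), Mv.f (nat_lit 18596)])))
(Tr.nd (nat_lit 18600) (Tr.lf (Fc.ed (nat_lit 18599) (nat_lit 5320) Col.f (nat_lit 6708) (Dv.wd (nat_lit 11) [Mv.b (nat_lit 17532), Mv.f (nat_lit 18596), Mv.f (nat_lit 13708)])))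
(Tr.lf (Fc.ed (nat_lit 18600) (nat_lit 3945) Col.e (nat_lit 6395) (Dv.wd (nat_lit 56) [Mv.b (nat_lit 15975), Mv.b (nat_lit 15931), Mv.f (nat_lit 18597)])))))
(Tr.nd (nat_lit 18602) (Tr.lf (Fc.ed (nat_lit 18601) (nat_lit 6395) Col.c (nat_lit 6535) (Dv.wd (nat_lit 18) [Mv.b (nat_lit 17058), Mv.b (nat_lit 16952), Mv.f (nat_lit 18600)])))
(Tr.nd (nat_lit 18603) (Tr.lf (Fc.ed (nat_lit 18602) (nat_lit 4844) Col.f (nat_lit 5067) (Dv.wd (nat_lit 26) [Mv.b (nat_lit 16945), Mv.f (nat_lit 18593), Mv.f (nat_lit 16952)])))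
(Tr.lf (Fc.ed (nat_lit 18603) (nat_lit 5067) Col.a (nat_lit 4932) (Dv.wd (nat_lit 23) [Mv.b (nat_lit 12821), Mv.f (nat_lit 12642), Mv.f (nat_lit 18602)])))))))))
(Tr.nd (nat_lit 18624) (Tr.nd (nat_lit 18614) (Tr.nd (nat_lit 18609) (Tr.nd (nat_lit 18606) (Tr.nd (nat_lit 18605) (Tr.lf (Fc.ed (nat_lit 18604) (nat_lit 4494) Col.a (nat_lit 4844) (Dv.wd (nat_lit 114) [Mv.f (nat_lit 18602), Mv.f (nat_lit 13145), Mv.f (nat_lit 11487)])))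
(Tr.lf (Fc.ed (nat_lit 18605) (nat_lit 4494) Col.f (nat_lit 4932) (Dv.wd (nat_lit 35) [Mv.b (nat_lit 18603), Mv.b (nat_lit 18602), Mv.b (nat_lit 18604)]))))
(Tr.nd (nat_lit 18607) (Tr.lf (Fc.ed (nat_lit 18606) (nat_lit 5318) Col.c (nat_lit 4494) (Dv.wd (nat_lit 134) [Mv.f (nat_lit 18604), Mv.b (nat_lit 16952), Mv.b (nat_lit 18597)])))
(Tr.nd (nat_lit 18608) (Tr.lf (Fc.ed (nat_lit 18607) (nat_lit 4932) Col.c (nat_lit 5236) (Dv.wd (nat_lit 67) [Mv.f (nat_lit 18596), Mv.f (nat_lit 18606), Mv.f (nat_lit 18605)])))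
(Tr.lf (Fc.al (nat_lit 18608) (nat_lit 4329) (nat_lit 4309) (Dv.wd (nat_lit 154) [Mv.f (nat_lit 16943), Mv.b (nat_lit 18421), Mv.f (nat_lit 14903), Mv.b (nat_lit 4708), Mv.b (nat_lit 5396), Mv.f (nat_lit 13706), Mv.f (nat_lit 18598), Mv.f (nat_lit 18606), Mv.b (nat_lit 11487), Mv.b (nat_lit 7995), Mv.f (nat_lit 11116)]))))))
(Tr.nd (nat_lit 18611) (Tr.nd (nat_lit 18610) (Tr.lf (Fc.ed (nat_lit 18609) (nat_lit 4309) Col.g (nat_lit 2838) (Dv.wd (nat_lit 129) [Mv.f (nat_lit 11116), Mv.f (nat_lit 18608)])))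
(Tr.lf (Fc.al (nat_lit 18610) (nat_lit 3271) (nat_lit 4824) (Dv.wd (nat_lit 29) [Mv.b (nat_lit 12603), Mv.f (nat_lit 18608), Mv.f (nat_lit 11081)]))))
(Tr.nd (nat_lit 18612) (Tr.lf (Fc.ed (nat_lit 18611) (nat_lit 4309) Col.d (nat_lit 5603) (Dv.wd (nat_lit 120) [Mv.b (nat_lit 14284), Mv.f (nat_lit 18608)])))
(Tr.nd (nat_lit 18613) (Tr.lf (Fc.al (nat_lit 18612) (nat_lit 3907) (nat_lit 4863) (Dv.wd (nat_lit 30) [Mv.b (nat_lit 12685), Mv.f (nat_lit 18608), Mv.b (nat_lit 11080)])))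
(Tr.lf (Fc.ed (nat_lit 18613) (nat_lit 3271) Col.f (nat_lit 3007) (Dv.wd (nat_lit 30) [Mv.b (nat_lit 12604), Mv.b (nat_lit 18610)])))))))
(Tr.nd (nat_lit 18619) (Tr.nd (nat_lit 18616) (Tr.nd (nat_lit 18615) (Tr.lf (Fc.ed (nat_lit 18614) (nat_lit 3907) Col.a (nat_lit 3007) (Dv.wd (nat_lit 29) [Mv.b (nat_lit 12686), Mv.b (nat_lit 18612)])))
(Tr.lf (Fc.al (nat_lit 18615) (nat_lit 5499) (nat_lit 4885) (Dv.wd (nat_lit 120) [Mv.b (nat_lit 12724), Mv.b (nat_lit 18612), Mv.f (nat_lit 14090)]))))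
(Tr.nd (nat_lit 18617) (Tr.lf (Fc.ed (nat_lit 18616) (nat_lit 4885) Col.gi (nat_lit 5165) (Dv.wd (nat_lit 128) [Mv.b (nat_lit 14091), Mv.f (nat_lit 18615)])))
(Tr.nd (nat_lit 18618) (Tr.lf (Fc.ed (nat_lit 18617) (nat_lit 4885) Col.d (nat_lit 3907) (Dv.wd (nat_lit 120) [Mv.f (nat_lit 14090), Mv.f (nat_lit 18615)])))
(Tr.lf (Fc.ed (nat_lit 18618) (nat_lit 4790) Col.f (nat_lit 4083) (Dv.wd (nat_lit 13) [Mv.b (nat_lit 12725), Mv.f (nat_lit 18616), Mv.b (nat_lit 13342)]))))))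
(Tr.nd (nat_lit 18621) (Tr.nd (nat_lit 18620) (Tr.lf (Fc.ed (nat_lit 18619) (nat_lit 5603) Col.a (nat_lit 4790) (Dv.wd (nat_lit 79) [Mv.f (nat_lit 18618), Mv.b (nat_lit 12725), Mv.b (nat_lit 14285)])))
(Tr.lf (Fc.ed (nat_lit 18620) (nat_lit 5148) Col.a (nat_lit 5671) (Dv.wd (nat_lit 31) [Mv.b (nat_lit 14418), Mv.f (nat_lit 18614), Mv.f (nat_lit 13308)]))))
(Tr.nd (nat_lit 18622) (Tr.lf (Fc.ed (nat_lit 18621) (nat_lit 6579) Col.a (nat_lit 6345) (Dv.wd (nat_lit 76) [Mv.b (nat_lit 15866), Mv.f (nat_lit 18620), Mv.f (nat_lit 17147)])))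
(Tr.nd (nat_lit 18623) (Tr.lf (Fc.ed (nat_lit 18622) (nat_lit 5492) Col.e (nat_lit 3081) (Dv.wd (nat_lit 131) [Mv.b (nat_lit 8010), Mv.f (nat_lit 5201), Mv.b (nat_lit 9791), Mv.f (nat_lit 14050), Mv.b (nat_lit 14216), Mv.b (nat_lit 14215), Mv.f (nat_lit 18538), Mv.f (nat_lit 18611), Mv.b (nat_lit 14286), Mv.f (nat_lit 14076)])))
(Tr.lf (Fc.ed (nat_lit 18623) (nat_lit 5460) Col.a (nat_lit 5492) (Dv.wd (nat_lit 31) [Mv.f (nat_lit 18622), Mv.b (nat_lit 14519), Mv.b (nat_lit 14020)]))))))))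
(Tr.nd (nat_lit 18634) (Tr.nd (nat_lit 18629) (Tr.nd (nat_lit 18626) (Tr.nd (nat_lit 18625) (Tr.lf (Fc.ed (nat_lit 18624) (nat_lit 5395) Col.b (nat_lit 5492) (Dv.wd (nat_lit 127) [Mv.f (nat_lit 18622), Mv.b (nat_lit 14527), Mv.f (nat_lit 13851)])))
(Tr.lf (Fc.ed (nat_lit 18625) (nat_lit 4534) Col.gi (nat_lit 5492) (Dv.wd (nat_lit 132) [Mv.f (nat_lit 18622), Mv.b (nat_lit 10991), Mv.b (nat_lit 14554), Mv.b (nat_lit 18509), Mv.b (nat_lit 14595), Mv.f (nat_lit 8408), Mv.b (nat_lit 13435), Mv.f (nat_lit 13833), Mv.b (nat_lit 13831), Mv.f (nat_lit 11560)]))))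
(Tr.nd (nat_lit 18627) (Tr.lf (Fc.ed (nat_lit 18626) (nat_lit 5397) Col.a (nat_lit 5165) (Dv.wd (nat_lit 54) [Mv.f (nat_lit 14019), Mv.f (nat_lit 18623), Mv.b (nat_lit 14076)])))
(Tr.nd (nat_lit 18628) (Tr.lf (Fc.ed (nat_lit 18627) (nat_lit 5492) Col.f (nat_lit 5410) (Dv.wd (nat_lit 10) [Mv.b (nat_lit 13879), Mv.b (nat_lit 14460), Mv.f (nat_lit 18623)])))
(Tr.lf (Fc.ed (nat_lit 18628) (nat_lit 5410) Col.b (nat_lit 5406) (Dv.wd (nat_lit 66) [Mv.b (nat_lit 13960), Mv.f (nat_lit 18624), Mv.f (nat_lit 18627)]))))))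
(Tr.nd (nat_lit 18631) (Tr.nd (nat_lit 18630) (Tr.lf (Fc.ed (nat_lit 18629) (nat_lit 5410) Col.a (nat_lit 5536) (Dv.wd (nat_lit 23) [Mv.f (nat_lit 14155), Mv.f (nat_lit 18625), Mv.f (nat_lit 18627)])))
(Tr.lf (Fc.ed (nat_lit 18630) (nat_lit 5460) Col.f (nat_lit 5536) (Dv.wd (nat_lit 35) [Mv.b (nat_lit 18629), Mv.b (nat_lit 18627), Mv.b (nat_lit 18623)]))))
(Tr.nd (nat_lit 18632) (Tr.lf (Fc.ed (nat_lit 18631) (nat_lit 6620) Col.f (nat_lit 6477) (Dv.wd (nat_lit 20) [Mv.b (nat_lit 16979), Mv.f (nat_lit 18630), Mv.f (nat_lit 18445)])))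
(Tr.nd (nat_lit 18633) (Tr.lf (Fc.ed (nat_lit 18632) (nat_lit 5524) Col.f (nat_lit 5165) (Dv.wd (nat_lit 11) [Mv.f (nat_lit 14019), Mv.f (nat_lit 18630), Mv.b (nat_lit 14153)])))
(Tr.lf (Fc.ed (nat_lit 18633) (nat_lit 5483) Col.gi (nat_lit 5460) (Dv.wd (nat_lit 24) [Mv.f (nat_lit 18630), Mv.b (nat_lit 18629), Mv.f (nat_lit 14062)])))))))
(Tr.nd (nat_lit 18639) (Tr.nd (nat_lit 18636) (Tr.nd (nat_lit 18635) (Tr.lf (Fc.ed (nat_lit 18634) (nat_lit 5603) Col.gi (nat_lit 5524) (Dv.wd (nat_lit 24) [Mv.f (nat_lit 18632), Mv.b (nat_lit 18626), Mv.f (nat_lit 14286)])))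
(Tr.lf (Fc.ed (nat_lit 18635) (nat_lit 4915) Col.e (nat_lit 4105) (Dv.wd (nat_lit 140) [Mv.b (nat_lit 10588), Mv.f (nat_lit 14135), Mv.f (nat_lit 18632), Mv.f (nat_lit 14021), Mv.b (nat_lit 13434)]))))
(Tr.nd (nat_lit 18637) (Tr.lf (Fc.ed (nat_lit 18636) (nat_lit 4105) Col.gi (nat_lit 1448) (Dv.wd (nat_lit 132) [Mv.f (nat_lit 4388), Mv.b (nat_lit 4250), Mv.f (nat_lit 2348), Mv.f (nat_lit 3400), Mv.b (nat_lit 3403), Mv.f (nat_lit 4607), Mv.b (nat_lit 4885), Mv.b (nat_lit 7107), Mv.f (nat_lit 14509), Mv.f (nat_lit 18635)])))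
(Tr.nd (nat_lit 18638) (Tr.lf (Fc.ed (nat_lit 18637) (nat_lit 5524) Col.gi (nat_lit 4083) (Dv.wd (nat_lit 24) [Mv.b (nat_lit 18618), Mv.b (nat_lit 18619), Mv.f (nat_lit 18634)])))
(Tr.lf (Fc.ed (nat_lit 18638) (nat_lit 4143) Col.gi (nat_lit 5720) (Dv.wd (nat_lit 71) [Mv.b (nat_lit 14552), Mv.b (nat_lit 14103), Mv.f (nat_lit 9740), Mv.f (nat_lit 8058), Mv.f (nat_lit 8057), Mv.b (nat_lit 18609), Mv.f (nat_lit 18611), Mv.f (nat_lit 18634), Mv.b (nat_lit 14135), Mv.b (nat_lit 10712)]))))))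
(Tr.nd (nat_lit 18642) (Tr.nd (nat_lit 18640) (Tr.lf (Fc.ed (nat_lit 18639) (nat_lit 5720) Col.gi (nat_lit 5634) (Dv.wd (nat_lit 24) [Mv.b (nat_lit 14348), Mv.b (nat_lit 16973), Mv.f (nat_lit 18638)])))
(Tr.nd (nat_lit 18641) (Tr.lf (Fc.ed (nat_lit 18640) (nat_lit 5736) Col.d (nat_lit 3836) (Dv.wd (nat_lit 27) [Mv.b (nat_lit 9494), Mv.f (nat_lit 5716), Mv.f (nat_lit 5718), Mv.b (nat_lit 4322), Mv.f (nat_lit 4808), Mv.b (nat_lit 5010), Mv.f (nat_lit 7739), Mv.b (nat_lit 10712), Mv.f (nat_lit 18638), Mv.f (nat_lit 14580)])))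
(Tr.lf (Fc.ed (nat_lit 18641) (nat_lit 4597) Col.b (nat_lit 5736) (Dv.wd (nat_lit 126) [Mv.f (nat_lit 18640), Mv.f (nat_lit 18453), Mv.f (nat_lit 11680)])))))
(Tr.nd (nat_lit 18643) (Tr.lf (Fc.ed (nat_lit 18642) (nat_lit 3394) Col.f (nat_lit 5736) (Dv.wd (nat_lit 86) [Mv.f (nat_lit 18640), Mv.b (nat_lit 18452), Mv.f (nat_lit 8648)])))
(Tr.nd (nat_lit 18644) (Tr.lf (Fc.ed (nat_lit 18643) (nat_lit 3836) Col.e (nat_lit 4036) (Dv.wd (nat_lit 42) [Mv.b (nat_lit 9866), Mv.f (nat_lit 14103), Mv.f (nat_lit 14552), Mv.f (nat_lit 14580), Mv.f (nat_lit 18640)])))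
(Tr.lf (Fc.ed (nat_lit 18644) (nat_lit 4036) Col.a (nat_lit 5127) (Dv.wd (nat_lit 15) [Mv.b (nat_lit 13259), Mv.f (nat_lit 18450), Mv.f (nat_lit 18643)]))))))))))
(Tr.nd (nat_lit 18686) (Tr.nd (nat_lit 18665) (Tr.nd (nat_lit 18655) (Tr.nd (nat_lit 18650) (Tr.nd (nat_lit 18647) (Tr.nd (nat_lit 18646) (Tr.lf (Fc.ed (nat_lit 18645) (nat_lit 4036) Col.b (nat_lit 4384) (Dv.wd (nat_lit 49) [Mv.f (nat_lit 18275), Mv.b (nat_lit 18453), Mv.f (nat_lit 18643)])))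
(Tr.lf (Fc.ed (nat_lit 18646) (nat_lit 2684) Col.b (nat_lit 3960) (Dv.wd (nat_lit 126) [Mv.f (nat_lit 9866), Mv.f (nat_lit 18645), Mv.b (nat_lit 11292)]))))
(Tr.nd (nat_lit 18648) (Tr.lf (Fc.ed (nat_lit 18647) (nat_lit 4534) Col.f (nat_lit 4036) (Dv.wd (nat_lit 125) [Mv.f (nat_lit 18645), Mv.b (nat_lit 11754), Mv.f (nat_lit 18438)])))
(Tr.nd (nat_lit 18649) (Tr.lf (Fc.al (nat_lit 18648) (nat_lit 5629) (nat_lit 4257) (Dv.wd (nat_lit 90) [Mv.b (nat_lit 11561), Mv.f (nat_lit 18647), Mv.b (nat_lit 9866), Mv.b (nat_lit 14337)])))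
(Tr.lf (Fc.ed (nat_lit 18649) (nat_lit 4257) Col.a (nat_lit 5023) (Dv.wd (nat_lit 29) [Mv.f (nat_lit 14336), Mv.f (nat_lit 18648)]))))))
(Tr.nd (nat_lit 18652) (Tr.nd (nat_lit 18651) (Tr.lf (Fc.ed (nat_lit 18650) (nat_lit 5483) Col.a (nat_lit 4534) (Dv.wd (nat_lit 114) [Mv.f (nat_lit 18647), Mv.b (nat_lit 14460), Mv.b (nat_lit 18633)])))
(Tr.lf (Fc.ed (nat_lit 18651) (nat_lit 5051) Col.f (nat_lit 4507) (Dv.wd (nat_lit 41) [Mv.f (nat_lit 11560), Mv.f (nat_lit 18647), Mv.b (nat_lit 18643), Mv.b (nat_lit 18452), Mv.f (nat_lit 13112)]))))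
(Tr.nd (nat_lit 18653) (Tr.lf (Fc.ed (nat_lit 18652) (nat_lit 5483) Col.f (nat_lit 5127) (Dv.wd (nat_lit 35) [Mv.b (nat_lit 18644), Mv.b (nat_lit 18647), Mv.b (nat_lit 18650)])))
(Tr.nd (nat_lit 18654) (Tr.lf (Fc.ed (nat_lit 18653) (nat_lit 5296) Col.b (nat_lit 5483) (Dv.wd (nat_lit 107) [Mv.f (nat_lit 18652), Mv.b (nat_lit 18285), Mv.f (nat_lit 18287)])))
(Tr.lf (Fc.ed (nat_lit 18654) (nat_lit 6135) Col.g (nat_lit 5938) (Dv.wd (nat_lit 105) [Mv.b (nat_lit 18353), Mv.f (nat_lit 18653), Mv.b (nat_lit 14062), Mv.f (nat_lit 18628), Mv.b (nat_lit 18441), Mv.b (nat_lit 15009), Mv.b (nat_lit 18264), Mv.f (nat_lit 16934), Mv.f (nat_lit 13962), Mv.f (nat_lit 16865)])))))))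
(Tr.nd (nat_lit 18660) (Tr.nd (nat_lit 18657) (Tr.nd (nat_lit 18656) (Tr.lf (Fc.ed (nat_lit 18655) (nat_lit 5023) Col.d (nat_lit 5483) (Dv.wd (nat_lit 97) [Mv.f (nat_lit 18650), Mv.f (nat_lit 11561), Mv.f (nat_lit 18649)])))
(Tr.lf (Fc.al (nat_lit 18656) (nat_lit 4388) (nat_lit 5220) (Dv.wd (nat_lit 86) [Mv.f (nat_lit 13467), Mv.f (nat_lit 18655), Mv.f (nat_lit 18652), Mv.f (nat_lit 13260)]))))
(Tr.nd (nat_lit 18658) (Tr.lf (Fc.ed (nat_lit 18657) (nat_lit 4388) Col.a (nat_lit 3960) (Dv.wd (nat_lit 29) [Mv.f (nat_lit 13466), Mv.b (nat_lit 18656)])))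
(Tr.nd (nat_lit 18659) (Tr.lf (Fc.ed (nat_lit 18658) (nat_lit 4388) Col.f (nat_lit 5023) (Dv.wd (nat_lit 30) [Mv.b (nat_lit 13467), Mv.b (nat_lit 18656)])))
(Tr.lf (Fc.ed (nat_lit 18659) (nat_lit 5047) Col.gi (nat_lit 5154) (Dv.wd (nat_lit 163) [Mv.b (nat_lit 13318), Mv.f (nat_lit 18655), Mv.f (nat_lit 18633), Mv.b (nat_lit 14019), Mv.f (nat_lit 14021), Mv.f (nat_lit 13833), Mv.f (nat_lit 13832), Mv.b (nat_lit 11020), Mv.f (nat_lit 11469), Mv.b (nat_lit 13105)]))))))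
(Tr.nd (nat_lit 18662) (Tr.nd (nat_lit 18661) (Tr.lf (Fc.ed (nat_lit 18660) (nat_lit 5154) Col.a (nat_lit 4283) (Dv.wd (nat_lit 31) [Mv.b (nat_lit 11019), Mv.f (nat_lit 18649), Mv.f (nat_lit 13318)])))
(Tr.lf (Fc.al (nat_lit 18661) (nat_lit 4770) (nat_lit 4471) (Dv.wd (nat_lit 124) [Mv.b (nat_lit 18277), Mv.f (nat_lit 18646), Mv.b (nat_lit 9739), Mv.b (nat_lit 8486), Mv.f (nat_lit 14714), Mv.b (nat_lit 16948), Mv.b (nat_lit 16949), Mv.b (nat_lit 8481), Mv.f (nat_lit 7795), Mv.b (nat_lit 8542), Mv.b (nat_lit 12500)]))))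
(Tr.nd (nat_lit 18663) (Tr.lf (Fc.al (nat_lit 18662) (nat_lit 5341) (nat_lit 3341) (Dv.wd (nat_lit 129) [Mv.b (nat_lit 12500), Mv.f (nat_lit 18661), Mv.f (nat_lit 13745)])))
(Tr.nd (nat_lit 18664) (Tr.lf (Fc.ed (nat_lit 18663) (nat_lit 3341) Col.g (nat_lit 4471) (Dv.wd (nat_lit 129) [Mv.f (nat_lit 13745), Mv.f (nat_lit 18662)])))
(Tr.lf (Fc.ed (nat_lit 18664) (nat_lit 5660) Col.gi (nat_lit 5704) (Dv.wd (nat_lit 78) [Mv.b (nat_lit 14469), Mv.f (nat_lit 13643), Mv.b (nat_lit 13620), Mv.b (nat_lit 8146), Mv.b (nat_lit 8542), Mv.f (nat_lit 18663), Mv.b (nat_lit 18277), Mv.f (nat_lit 11292), Mv.f (nat_lit 18273)]))))))))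
(Tr.nd (nat_lit 18675) (Tr.nd (nat_lit 18670) (Tr.nd (nat_lit 18667) (Tr.nd (nat_lit 18666) (Tr.lf (Fc.ed (nat_lit 18665) (nat_lit 5736) Col.g (nat_lit 5567) (Dv.wd (nat_lit 17) [Mv.b (nat_lit 14215), Mv.f (nat_lit 18539), Mv.f (nat_lit 18642)])))
(Tr.lf (Fc.ed (nat_lit 18666) (nat_lit 5720) Col.f (nat_lit 5148) (Dv.wd (nat_lit 96) [Mv.b (nat_lit 13308), Mv.b (nat_lit 18613), Mv.b (nat_lit 8649), Mv.f (nat_lit 18642), Mv.b (nat_lit 14580)]))))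
(Tr.nd (nat_lit 18668) (Tr.lf (Fc.ed (nat_lit 18667) (nat_lit 5806) Col.a (nat_lit 5720) (Dv.wd (nat_lit 79) [Mv.f (nat_lit 18666), Mv.f (nat_lit 18620), Mv.f (nat_lit 14743)])))
(Tr.nd (nat_lit 18669) (Tr.lf (Fc.ed (nat_lit 18668) (nat_lit 5671) Col.gi (nat_lit 4143) (Dv.wd (nat_lit 12) [Mv.f (nat_lit 18638), Mv.f (nat_lit 18666), Mv.f (nat_lit 18620)])))
(Tr.lf (Fc.ed (nat_lit 18669) (nat_lit 5510) Col.g (nat_lit 5806) (Dv.wd (nat_lit 9) [Mv.f (nat_lit 18667), Mv.f (nat_lit 18666), Mv.f (nat_lit 14104)]))))))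
(Tr.nd (nat_lit 18672) (Tr.nd (nat_lit 18671) (Tr.lf (Fc.ed (nat_lit 18670) (nat_lit 5509) Col.a (nat_lit 5813) (Dv.wd (nat_lit 54) [Mv.b (nat_lit 14757), Mv.f (nat_lit 18667), Mv.b (nat_lit 14552)])))
(Tr.lf (Fc.ed (nat_lit 18671) (nat_lit 5813) Col.e (nat_lit 4388) (Dv.wd (nat_lit 56) [Mv.f (nat_lit 18657), Mv.f (nat_lit 14103), Mv.f (nat_lit 18670)]))))
(Tr.nd (nat_lit 18673) (Tr.lf (Fc.ed (nat_lit 18672) (nat_lit 4105) Col.d (nat_lit 5510) (Dv.wd (nat_lit 68) [Mv.f (nat_lit 18669), Mv.f (nat_lit 14757), Mv.f (nat_lit 18671), Mv.b (nat_lit 11297), Mv.b (nat_lit 4958), Mv.b (nat_lit 3400), Mv.b (nat_lit 2348), Mv.f (nat_lit 4250), Mv.b (nat_lit 4388), Mv.b (nat_lit 18636)])))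
(Tr.nd (nat_lit 18674) (Tr.lf (Fc.ed (nat_lit 18673) (nat_lit 5510) Col.f (nat_lit 4143) (Dv.wd (nat_lit 11) [Mv.f (nat_lit 10712), Mv.f (nat_lit 10588), Mv.f (nat_lit 18672)])))
(Tr.lf (Fc.ed (nat_lit 18674) (nat_lit 5556) Col.g (nat_lit 4337) (Dv.wd (nat_lit 75) [Mv.b (nat_lit 11128), Mv.f (nat_lit 10807), Mv.b (nat_lit 5716), Mv.b (nat_lit 5245), Mv.b (nat_lit 4497), Mv.f (nat_lit 4915), Mv.f (nat_lit 4918), Mv.b (nat_lit 18636), Mv.f (nat_lit 18672), Mv.f (nat_lit 14193)])))))))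
(Tr.nd (nat_lit 18680) (Tr.nd (nat_lit 18677) (Tr.nd (nat_lit 18676) (Tr.lf (Fc.ed (nat_lit 18675) (nat_lit 5500) Col.f (nat_lit 5666) (Dv.wd (nat_lit 20) [Mv.b (nat_lit 14411), Mv.f (nat_lit 18673), Mv.f (nat_lit 14092)])))
(Tr.lf (Fc.ed (nat_lit 18676) (nat_lit 3425) Col.gi (nat_lit 5806) (Dv.wd (nat_lit 12) [Mv.b (nat_lit 18669), Mv.f (nat_lit 18673), Mv.f (nat_lit 16973)]))))
(Tr.nd (nat_lit 18678) (Tr.lf (Fc.ed (nat_lit 18677) (nat_lit 5148) Col.gi (nat_lit 3425) (Dv.wd (nat_lit 12) [Mv.f (nat_lit 18676), Mv.b (nat_lit 14743), Mv.b (nat_lit 18620)])))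
(Tr.nd (nat_lit 18679) (Tr.lf (Fc.ed (nat_lit 18678) (nat_lit 6762) Col.g (nat_lit 6675) (Dv.wd (nat_lit 123) [Mv.f (nat_lit 18540), Mv.b (nat_lit 18537), Mv.b (nat_lit 18363), Mv.f (nat_lit 14451), Mv.f (nat_lit 18533), Mv.b (nat_lit 15121), Mv.f (nat_lit 18641), Mv.f (nat_lit 18665), Mv.b (nat_lit 17572), Mv.f (nat_lit 17645)])))
(Tr.lf (Fc.ed (nat_lit 18679) (nat_lit 5585) Col.gi (nat_lit 6728) (Dv.wd (nat_lit 50) [Mv.f (nat_lit 17645), Mv.f (nat_lit 18678), Mv.b (nat_lit 18541), Mv.b (nat_lit 17558), Mv.b (nat_lit 15480), Mv.b (nat_lit 7678), Mv.b (nat_lit 5134), Mv.b (nat_lit 14207), Mv.f (nat_lit 14252)]))))))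
(Tr.nd (nat_lit 18683) (Tr.nd (nat_lit 18681) (Tr.lf (Fc.ed (nat_lit 18680) (nat_lit 5432) Col.gi (nat_lit 5110) (Dv.wd (nat_lit 71) [Mv.f (nat_lit 13485), Mv.b (nat_lit 13230), Mv.f (nat_lit 4430), Mv.f (nat_lit 4783), Mv.b (nat_lit 5134), Mv.b (nat_lit 14207), Mv.f (nat_lit 14252), Mv.f (nat_lit 18679), Mv.b (nat_lit 17571), Mv.b (nat_lit 15015)])))
(Tr.nd (nat_lit 18682) (Tr.lf (Fc.ed (nat_lit 18681) (nat_lit 5110) Col.gi (nat_lit 5440) (Dv.wd (nat_lit 24) [Mv.b (nat_lit 16984), Mv.f (nat_lit 14530), Mv.f (nat_lit 18680)])))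
(Tr.lf (Fc.ed (nat_lit 18682) (nat_lit 5151) Col.c (nat_lit 6454) (Dv.wd (nat_lit 156) [Mv.b (nat_lit 16733), Mv.b (nat_lit 15029), Mv.f (nat_lit 18681), Mv.f (nat_lit 16848), Mv.b (nat_lit 16864), Mv.b (nat_lit 9928), Mv.f (nat_lit 6797), Mv.f (nat_lit 7157), Mv.b (nat_lit 13927), Mv.b (nat_lit 14528)])))))
(Tr.nd (nat_lit 18684) (Tr.lf (Fc.al (nat_lit 18683) (nat_lit 5450) (nat_lit 6127) (Dv.wd (nat_lit 132) [Mv.f (nat_lit 15392), Mv.b (nat_lit 7355), Mv.b (nat_lit 4342), Mv.f (nat_lit 3660), Mv.f (nat_lit 4389), Mv.f (nat_lit 4429), Mv.f (nat_lit 13230), Mv.f (nat_lit 13485), Mv.f (nat_lit 18681), Mv.b (nat_lit 16983), Mv.f (nat_lit 14371)])))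
(Tr.nd (nat_lit 18685) (Tr.lf (Fc.al (nat_lit 18684) (nat_lit 5751) (nat_lit 4327) (Dv.wd (nat_lit 128) [Mv.f (nat_lit 15391), Mv.b (nat_lit 18683), Mv.b (nat_lit 14608)])))
(Tr.lf (Fc.ed (nat_lit 18685) (nat_lit 5450) Col.gi (nat_lit 2779) (Dv.wd (nat_lit 128) [Mv.b (nat_lit 15392), Mv.b (nat_lit 18683)])))))))))
(Tr.nd (nat_lit 18706) (Tr.nd (nat_lit 18696) (Tr.nd (nat_lit 18691) (Tr.nd (nat_lit 18688) (Tr.nd (nat_lit 18687) (Tr.lf (Fc.ed (nat_lit 18686) (nat_lit 4327) Col.g (nat_lit 5176) (Dv.wd (nat_lit 129) [Mv.f (nat_lit 14607), Mv.f (nat_lit 18684)])))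
(Tr.lf (Fc.ed (nat_lit 18687) (nat_lit 4327) Col.gi (nat_lit 5450) (Dv.wd (nat_lit 128) [Mv.b (nat_lit 14608), Mv.f (nat_lit 18684)]))))
(Tr.nd (nat_lit 18689) (Tr.lf (Fc.ed (nat_lit 18688) (nat_lit 2612) Col.c (nat_lit 5882) (Dv.wd (nat_lit 156) [Mv.b (nat_lit 14889), Mv.f (nat_lit 14306), Mv.f (nat_lit 18687), Mv.b (nat_lit 14001), Mv.f (nat_lit 14502), Mv.b (nat_lit 13197), Mv.b (nat_lit 5277), Mv.f (nat_lit 4332), Mv.f (nat_lit 4887), Mv.b (nat_lit 14504)])))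
(Tr.nd (nat_lit 18690) (Tr.lf (Fc.al (nat_lit 18689) (nat_lit 4621) (nat_lit 4673) (Dv.wd (nat_lit 142) [Mv.f (nat_lit 15205), Mv.b (nat_lit 18570), Mv.b (nat_lit 11107), Mv.b (nat_lit 11114), Mv.f (nat_lit 18687), Mv.b (nat_lit 14001), Mv.f (nat_lit 14502), Mv.b (nat_lit 13197), Mv.b (nat_lit 5277), Mv.f (nat_lit 7297), Mv.f (nat_lit 18388)])))
(Tr.lf (Fc.ed (nat_lit 18690) (nat_lit 4621) Col.gi (nat_lit 4323) (Dv.wd (nat_lit 128) [Mv.f (nat_lit 11821), Mv.b (nat_lit 18689)]))))))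
(Tr.nd (nat_lit 18693) (Tr.nd (nat_lit 18692) (Tr.lf (Fc.ed (nat_lit 18691) (nat_lit 4621) Col.c (nat_lit 6025) (Dv.wd (nat_lit 103) [Mv.b (nat_lit 15205), Mv.b (nat_lit 18689)])))
(Tr.lf (Fc.ed (nat_lit 18692) (nat_lit 4621) Col.d (nat_lit 4689) (Dv.wd (nat_lit 120) [Mv.f (nat_lit 11851), Mv.b (nat_lit 18689)]))))
(Tr.nd (nat_lit 18694) (Tr.lf (Fc.al (nat_lit 18693) (nat_lit 4495) (nat_lit 4782) (Dv.wd (nat_lit 30) [Mv.b (nat_lit 12525), Mv.b (nat_lit 18689), Mv.f (nat_lit 11723)])))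
(Tr.nd (nat_lit 18695) (Tr.lf (Fc.ed (nat_lit 18694) (nat_lit 4495) Col.gi (nat_lit 2570) (Dv.wd (nat_lit 128) [Mv.b (nat_lit 18565), Mv.b (nat_lit 18693)])))
(Tr.lf (Fc.ed (nat_lit 18695) (nat_lit 4495) Col.c (nat_lit 6246) (Dv.wd (nat_lit 103) [Mv.b (nat_lit 15617), Mv.b (nat_lit 18693)])))))))
(Tr.nd (nat_lit 18701) (Tr.nd (nat_lit 18698) (Tr.nd (nat_lit 18697) (Tr.lf (Fc.ed (nat_lit 18696) (nat_lit 4495) Col.d (nat_lit 6284) (Dv.wd (nat_lit 120) [Mv.b (nat_lit 15748), Mv.b (nat_lit 18693)])))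
(Tr.lf (Fc.ed (nat_lit 18697) (nat_lit 2663) Col.c (nat_lit 5361) (Dv.wd (nat_lit 135) [Mv.b (nat_lit 13781), Mv.b (nat_lit 8742), Mv.f (nat_lit 7340), Mv.b (nat_lit 18694), Mv.f (nat_lit 18695), Mv.f (nat_lit 18572), Mv.b (nat_lit 11107), Mv.b (nat_lit 11114), Mv.f (nat_lit 18686), Mv.b (nat_lit 13363)]))))
(Tr.nd (nat_lit 18699) (Tr.lf (Fc.ed (nat_lit 18698) (nat_lit 2772) Col.gi (nat_lit 5418) (Dv.wd (nat_lit 100) [Mv.b (nat_lit 13897), Mv.f (nat_lit 14484), Mv.f (nat_lit 8891), Mv.b (nat_lit 8150), Mv.b (nat_lit 7139), Mv.f (nat_lit 11489), Mv.f (nat_lit 18695), Mv.b (nat_lit 18571), Mv.b (nat_lit 10810), Mv.b (nat_lit 7340)])))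
(Tr.nd (nat_lit 18700) (Tr.lf (Fc.ed (nat_lit 18699) (nat_lit 5450) Col.a (nat_lit 5582) (Dv.wd (nat_lit 23) [Mv.b (nat_lit 14247), Mv.f (nat_lit 18698), Mv.b (nat_lit 14002)])))
(Tr.lf (Fc.ed (nat_lit 18700) (nat_lit 4189) Col.c (nat_lit 6380) (Dv.wd (nat_lit 156) [Mv.f (nat_lit 15933), Mv.b (nat_lit 8742), Mv.f (nat_lit 18698), Mv.b (nat_lit 13897), Mv.f (nat_lit 14484), Mv.f (nat_lit 8891), Mv.b (nat_lit 8150), Mv.b (nat_lit 7135), Mv.b (nat_lit 13943), Mv.f (nat_lit 14491)]))))))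
(Tr.nd (nat_lit 18703) (Tr.nd (nat_lit 18702) (Tr.lf (Fc.al (nat_lit 18701) (nat_lit 5975) (nat_lit 5758) (Dv.wd (nat_lit 31) [Mv.f (nat_lit 14622), Mv.f (nat_lit 14371), Mv.f (nat_lit 18699), Mv.f (nat_lit 15114)])))
(Tr.lf (Fc.al (nat_lit 18702) (nat_lit 5507) (nat_lit 6191) (Dv.wd (nat_lit 120) [Mv.b (nat_lit 15504), Mv.f (nat_lit 18701), Mv.f (nat_lit 16978)]))))
(Tr.nd (nat_lit 18704) (Tr.lf (Fc.ed (nat_lit 18703) (nat_lit 5758) Col.e (nat_lit 5582) (Dv.wd (nat_lit 117) [Mv.f (nat_lit 15114), Mv.f (nat_lit 18701)])))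
(Tr.nd (nat_lit 18705) (Tr.lf (Fc.ed (nat_lit 18704) (nat_lit 5507) Col.g (nat_lit 5228) (Dv.wd (nat_lit 129) [Mv.b (nat_lit 15505), Mv.b (nat_lit 18702)])))
(Tr.lf (Fc.ed (nat_lit 18705) (nat_lit 5507) Col.gi (nat_lit 4800) (Dv.wd (nat_lit 128) [Mv.f (nat_lit 15506), Mv.b (nat_lit 18702)]))))))))
(Tr.nd (nat_lit 18716) (Tr.nd (nat_lit 18711) (Tr.nd (nat_lit 18708) (Tr.nd (nat_lit 18707) (Tr.lf (Fc.ed (nat_lit 18706) (nat_lit 5582) Col.f (nat_lit 5176) (Dv.wd (nat_lit 35) [Mv.b (nat_lit 14521), Mv.b (nat_lit 14002), Mv.f (nat_lit 18699)])))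
(Tr.lf (Fc.ed (nat_lit 18707) (nat_lit 5176) Col.g (nat_lit 2779) (Dv.wd (nat_lit 17) [Mv.b (nat_lit 18685), Mv.f (nat_lit 18699), Mv.f (nat_lit 18706)]))))
(Tr.nd (nat_lit 18709) (Tr.lf (Fc.ed (nat_lit 18708) (nat_lit 5582) Col.b (nat_lit 3176) (Dv.wd (nat_lit 65) [Mv.f (nat_lit 14512), Mv.b (nat_lit 14491), Mv.f (nat_lit 7843), Mv.f (nat_lit 14001), Mv.f (nat_lit 18699)])))
(Tr.nd (nat_lit 18710) (Tr.lf (Fc.ed (nat_lit 18709) (nat_lit 5055) Col.c (nat_lit 5582) (Dv.wd (nat_lit 115) [Mv.f (nat_lit 18708), Mv.b (nat_lit 8209), Mv.b (nat_lit 7074), Mv.f (nat_lit 8567), Mv.f (nat_lit 14497), Mv.b (nat_lit 13976), Mv.b (nat_lit 14504), Mv.f (nat_lit 6992), Mv.b (nat_lit 7078), Mv.f (nat_lit 13119)])))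
(Tr.lf (Fc.ed (nat_lit 18710) (nat_lit 6832) Col.e (nat_lit 5055) (Dv.wd (nat_lit 84) [Mv.f (nat_lit 18709), Mv.b (nat_lit 18703), Mv.f (nat_lit 17793)]))))))
(Tr.nd (nat_lit 18713) (Tr.nd (nat_lit 18712) (Tr.lf (Fc.ed (nat_lit 18711) (nat_lit 4118) Col.f (nat_lit 5055) (Dv.wd (nat_lit 64) [Mv.f (nat_lit 18709), Mv.f (nat_lit 18706), Mv.f (nat_lit 14492)])))
(Tr.lf (Fc.ed (nat_lit 18712) (nat_lit 4963) Col.c (nat_lit 4114) (Dv.wd (nat_lit 138) [Mv.b (nat_lit 10602), Mv.b (nat_lit 7968), Mv.f (nat_lit 6830), Mv.b (nat_lit 7788), Mv.b (nat_lit 13120), Mv.f (nat_lit 18709), Mv.b (nat_lit 14247), Mv.b (nat_lit 7339), Mv.b (nat_lit 12885)]))))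
(Tr.nd (nat_lit 18714) (Tr.lf (Fc.ed (nat_lit 18713) (nat_lit 6150) Col.c (nat_lit 4971) (Dv.wd (nat_lit 109) [Mv.f (nat_lit 12898), Mv.f (nat_lit 18712), Mv.f (nat_lit 15428)])))
(Tr.nd (nat_lit 18715) (Tr.lf (Fc.ed (nat_lit 18714) (nat_lit 3312) Col.b (nat_lit 4933) (Dv.wd (nat_lit 104) [Mv.b (nat_lit 18577), Mv.b (nat_lit 11537), Mv.f (nat_lit 6838), Mv.b (nat_lit 7295), Mv.b (nat_lit 12885), Mv.f (nat_lit 18712), Mv.b (nat_lit 10602), Mv.b (nat_lit 7968), Mv.f (nat_lit 6829), Mv.f (nat_lit 8476)])))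
(Tr.lf (Fc.ed (nat_lit 18715) (nat_lit 2858) Col.b (nat_lit 4963) (Dv.wd (nat_lit 104) [Mv.f (nat_lit 18712), Mv.b (nat_lit 10602), Mv.b (nat_lit 7968), Mv.f (nat_lit 6829), Mv.f (nat_lit 8476), Mv.f (nat_lit 16833), Mv.b (nat_lit 8727), Mv.b (nat_lit 4318), Mv.f (nat_lit 4297), Mv.b (nat_lit 7533)])))))))
(Tr.nd (nat_lit 18721) (Tr.nd (nat_lit 18718) (Tr.nd (nat_lit 18717) (Tr.lf (Fc.al (nat_lit 18716) (nat_lit 4971) (nat_lit 5462) (Dv.wd (nat_lit 127) [Mv.b (nat_lit 14024), Mv.b (nat_lit 7908), Mv.f (nat_lit 18715), Mv.b (nat_lit 12898)])))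
(Tr.lf (Fc.ed (nat_lit 18717) (nat_lit 4971) Col.b (nat_lit 3040) (Dv.wd (nat_lit 119) [Mv.f (nat_lit 14024), Mv.b (nat_lit 18716)]))))
(Tr.nd (nat_lit 18719) (Tr.lf (Fc.al (nat_lit 18718) (nat_lit 4502) (nat_lit 5389) (Dv.wd (nat_lit 120) [Mv.b (nat_lit 14025), Mv.b (nat_lit 18716), Mv.b (nat_lit 12897)])))
(Tr.nd (nat_lit 18720) (Tr.lf (Fc.ed (nat_lit 18719) (nat_lit 4502) Col.b (nat_lit 3005) (Dv.wd (nat_lit 119) [Mv.f (nat_lit 13837), Mv.b (nat_lit 18718)])))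
(Tr.lf (Fc.ed (nat_lit 18720) (nat_lit 5130) Col.b (nat_lit 3343) (Dv.wd (nat_lit 126) [Mv.f (nat_lit 8546), Mv.f (nat_lit 18714), Mv.f (nat_lit 13267)]))))))
(Tr.nd (nat_lit 18724) (Tr.nd (nat_lit 18722) (Tr.lf (Fc.al (nat_lit 18721) (nat_lit 6092) (nat_lit 5383) (Dv.wd (nat_lit 168) [Mv.f (nat_lit 14500), Mv.b (nat_lit 14501), Mv.f (nat_lit 7540), Mv.f (nat_lit 4341), Mv.b (nat_lit 8477), Mv.f (nat_lit 18714), Mv.b (nat_lit 18577), Mv.f (nat_lit 11538), Mv.b (nat_lit 11131), Mv.b (nat_lit 12729), Mv.b (nat_lit 15329)])))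
(Tr.nd (nat_lit 18723) (Tr.lf (Fc.ed (nat_lit 18722) (nat_lit 5383) Col.gi (nat_lit 2825) (Dv.wd (nat_lit 128) [Mv.f (nat_lit 15328), Mv.f (nat_lit 18721)])))
(Tr.lf (Fc.ed (nat_lit 18723) (nat_lit 5383) Col.e (nat_lit 6265) (Dv.wd (nat_lit 117) [Mv.b (nat_lit 15650), Mv.f (nat_lit 18721)])))))
(Tr.nd (nat_lit 18725) (Tr.lf (Fc.ed (nat_lit 18724) (nat_lit 5403) Col.f (nat_lit 5428) (Dv.wd (nat_lit 13) [Mv.b (nat_lit 13913), Mv.f (nat_lit 18722), Mv.b (nat_lit 13865)])))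
(Tr.nd (nat_lit 18726) (Tr.lf (Fc.ed (nat_lit 18725) (nat_lit 3651) Col.c (nat_lit 5403) (Dv.wd (nat_lit 67) [Mv.f (nat_lit 18724), Mv.f (nat_lit 13914), Mv.b (nat_lit 13253)])))
(Tr.lf (Fc.ed (nat_lit 18726) (nat_lit 5403) Col.b (nat_lit 2816) (Dv.wd (nat_lit 106) [Mv.f (nat_lit 7442), Mv.f (nat_lit 4609), Mv.b (nat_lit 4452), Mv.b (nat_lit 7483), Mv.b (nat_lit 14490), Mv.b (nat_lit 14534), Mv.b (nat_lit 8960), Mv.f (nat_lit 8967), Mv.b (nat_lit 9146), Mv.f (nat_lit 18725)]))))))))))))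
(Tr.nd (nat_lit 18891) (Tr.nd (nat_lit 18809) (Tr.nd (nat_lit 18768) (Tr.nd (nat_lit 18747) (Tr.nd (nat_lit 18737) (Tr.nd (nat_lit 18732) (Tr.nd (nat_lit 18729) (Tr.nd (nat_lit 18728) (Tr.lf (Fc.ed (nat_lit 18727) (nat_lit 5953) Col.b (nat_lit 2550) (Dv.wd (nat_lit 101) [Mv.b (nat_lit 6858), Mv.b (nat_lit 4609), Mv.b (nat_lit 6876), Mv.f (nat_lit 9145), Mv.f (nat_lit 18725), Mv.b (nat_lit 13864), Mv.f (nat_lit 12729), Mv.f (nat_lit 11131), Mv.f (nat_lit 18585), Mv.f (nat_lit 18583)])))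
(Tr.lf (Fc.ed (nat_lit 18728) (nat_lit 5685) Col.d (nat_lit 5953) (Dv.wd (nat_lit 116) [Mv.f (nat_lit 18727), Mv.f (nat_lit 10796), Mv.f (nat_lit 14439)]))))
(Tr.nd (nat_lit 18730) (Tr.lf (Fc.ed (nat_lit 18729) (nat_lit 3310) Col.b (nat_lit 5815) (Dv.wd (nat_lit 127) [Mv.b (nat_lit 15047), Mv.f (nat_lit 18727), Mv.f (nat_lit 8472)])))
(Tr.nd (nat_lit 18731) (Tr.lf (Fc.ed (nat_lit 18730) (nat_lit 2550) Col.f (nat_lit 3312) (Dv.wd (nat_lit 20) [Mv.f (nat_lit 18714), Mv.b (nat_lit 18580), Mv.f (nat_lit 18727)])))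
(Tr.lf (Fc.ed (nat_lit 18731) (nat_lit 3343) Col.f (nat_lit 4177) (Dv.wd (nat_lit 11) [Mv.b (nat_lit 10796), Mv.f (nat_lit 18730), Mv.b (nat_lit 8546)]))))))
(Tr.nd (nat_lit 18734) (Tr.nd (nat_lit 18733) (Tr.lf (Fc.ed (nat_lit 18732) (nat_lit 5685) Col.f (nat_lit 5130) (Dv.wd (nat_lit 20) [Mv.f (nat_lit 18720), Mv.f (nat_lit 18731), Mv.f (nat_lit 14439)])))
(Tr.lf (Fc.ed (nat_lit 18733) (nat_lit 5685) Col.a (nat_lit 5685) (Dv.wd (nat_lit 79) [Mv.f (nat_lit 18732), Mv.f (nat_lit 18575), Mv.b (nat_lit 18732)]))))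
(Tr.nd (nat_lit 18735) (Tr.lf (Fc.ed (nat_lit 18734) (nat_lit 6483) Col.f (nat_lit 6435) (Dv.wd (nat_lit 26) [Mv.b (nat_lit 16695), Mv.f (nat_lit 18732), Mv.b (nat_lit 18574)])))
(Tr.nd (nat_lit 18736) (Tr.lf (Fc.ed (nat_lit 18735) (nat_lit 5712) Col.gi (nat_lit 5685) (Dv.wd (nat_lit 24) [Mv.f (nat_lit 18732), Mv.f (nat_lit 18575), Mv.f (nat_lit 14478)])))
(Tr.lf (Fc.ed (nat_lit 18736) (nat_lit 6025) Col.d (nat_lit 6435) (Dv.wd (nat_lit 181) [Mv.b (nat_lit 16695), Mv.f (nat_lit 18733), Mv.f (nat_lit 18732), Mv.b (nat_lit 13267), Mv.b (nat_lit 18577), Mv.f (nat_lit 12509), Mv.b (nat_lit 16646), Mv.b (nat_lit 18692), Mv.f (nat_lit 18691)])))))))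
(Tr.nd (nat_lit 18742) (Tr.nd (nat_lit 18739) (Tr.nd (nat_lit 18738) (Tr.lf (Fc.ed (nat_lit 18737) (nat_lit 6435) Col.a (nat_lit 6435) (Dv.wd (nat_lit 8) [Mv.b (nat_lit 18736), Mv.f (nat_lit 18569), Mv.f (nat_lit 18736)])))
(Tr.lf (Fc.ed (nat_lit 18738) (nat_lit 6435) Col.g (nat_lit 6492) (Dv.wd (nat_lit 139) [Mv.b (nat_lit 16805), Mv.b (nat_lit 14478), Mv.b (nat_lit 18574), Mv.b (nat_lit 16787), Mv.b (nat_lit 18695), Mv.f (nat_lit 18694), Mv.f (nat_lit 10810), Mv.b (nat_lit 18573), Mv.f (nat_lit 18736)]))))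
(Tr.nd (nat_lit 18740) (Tr.lf (Fc.ed (nat_lit 18739) (nat_lit 6359) Col.a (nat_lit 6359) (Dv.wd (nat_lit 31) [Mv.f (nat_lit 15893), Mv.f (nat_lit 18733), Mv.b (nat_lit 15893)])))
(Tr.nd (nat_lit 18741) (Tr.lf (Fc.ed (nat_lit 18740) (nat_lit 5335) Col.b (nat_lit 3191) (Dv.wd (nat_lit 126) [Mv.b (nat_lit 8473), Mv.f (nat_lit 18729), Mv.b (nat_lit 14760)])))
(Tr.lf (Fc.ed (nat_lit 18741) (nat_lit 3125) Col.gi (nat_lit 6359) (Dv.wd (nat_lit 163) [Mv.f (nat_lit 15893), Mv.f (nat_lit 18728), Mv.b (nat_lit 15045), Mv.f (nat_lit 6894), Mv.f (nat_lit 6896), Mv.b (nat_lit 5555), Mv.b (nat_lit 4867), Mv.f (nat_lit 4866), Mv.f (nat_lit 8095), Mv.f (nat_lit 8104)]))))))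
(Tr.nd (nat_lit 18744) (Tr.nd (nat_lit 18743) (Tr.lf (Fc.ed (nat_lit 18742) (nat_lit 6359) Col.gi (nat_lit 5742) (Dv.wd (nat_lit 24) [Mv.b (nat_lit 14590), Mv.f (nat_lit 12792), Mv.f (nat_lit 18741)])))
(Tr.lf (Fc.ed (nat_lit 18743) (nat_lit 5564) Col.d (nat_lit 5403) (Dv.wd (nat_lit 116) [Mv.f (nat_lit 18726), Mv.b (nat_lit 8550), Mv.b (nat_lit 14539)]))))
(Tr.nd (nat_lit 18745) (Tr.lf (Fc.ed (nat_lit 18744) (nat_lit 4771) Col.b (nat_lit 5428) (Dv.wd (nat_lit 107) [Mv.b (nat_lit 18724), Mv.f (nat_lit 18726), Mv.b (nat_lit 12502)])))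
(Tr.nd (nat_lit 18746) (Tr.lf (Fc.ed (nat_lit 18745) (nat_lit 5428) Col.d (nat_lit 5768) (Dv.wd (nat_lit 58) [Mv.f (nat_lit 14640), Mv.f (nat_lit 13757), Mv.f (nat_lit 18744)])))
(Tr.lf (Fc.al (nat_lit 18746) (nat_lit 2833) (nat_lit 2948) (Dv.wd (nat_lit 155) [Mv.b (nat_lit 7722), Mv.b (nat_lit 14534), Mv.f (nat_lit 12501), Mv.f (nat_lit 18744), Mv.b (nat_lit 13913), Mv.f (nat_lit 14500)]))))))))
(Tr.nd (nat_lit 18757) (Tr.nd (nat_lit 18752) (Tr.nd (nat_lit 18749) (Tr.nd (nat_lit 18748) (Tr.lf (Fc.al (nat_lit 18747) (nat_lit 2978) (nat_lit 2727) (Dv.wd (nat_lit 30) [Mv.b (nat_lit 7723), Mv.b (nat_lit 18746), Mv.b (nat_lit 7780)])))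
(Tr.lf (Fc.al (nat_lit 18748) (nat_lit 4268) (nat_lit 2807) (Dv.wd (nat_lit 29) [Mv.f (nat_lit 7779), Mv.f (nat_lit 18747), Mv.b (nat_lit 10983)]))))
(Tr.nd (nat_lit 18750) (Tr.lf (Fc.al (nat_lit 18749) (nat_lit 3126) (nat_lit 4865) (Dv.wd (nat_lit 119) [Mv.b (nat_lit 14535), Mv.f (nat_lit 18748), Mv.f (nat_lit 14503)])))
(Tr.nd (nat_lit 18751) (Tr.lf (Fc.ed (nat_lit 18750) (nat_lit 2807) Col.d (nat_lit 4907) (Dv.wd (nat_lit 120) [Mv.b (nat_lit 12767), Mv.f (nat_lit 18748)])))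
(Tr.lf (Fc.al (nat_lit 18751) (nat_lit 4303) (nat_lit 2816) (Dv.wd (nat_lit 29) [Mv.b (nat_lit 12690), Mv.b (nat_lit 18749), Mv.f (nat_lit 11068)]))))))
(Tr.nd (nat_lit 18754) (Tr.nd (nat_lit 18753) (Tr.lf (Fc.al (nat_lit 18752) (nat_lit 3352) (nat_lit 5308) (Dv.wd (nat_lit 120) [Mv.b (nat_lit 13664), Mv.b (nat_lit 18749), Mv.b (nat_lit 8564)])))
(Tr.lf (Fc.al (nat_lit 18753) (nat_lit 3709) (nat_lit 3550) (Dv.wd (nat_lit 30) [Mv.f (nat_lit 12689), Mv.b (nat_lit 18749), Mv.f (nat_lit 9262)]))))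
(Tr.nd (nat_lit 18755) (Tr.lf (Fc.al (nat_lit 18754) (nat_lit 3345) (nat_lit 5179) (Dv.wd (nat_lit 120) [Mv.f (nat_lit 13369), Mv.f (nat_lit 18751), Mv.b (nat_lit 8550)])))
(Tr.nd (nat_lit 18756) (Tr.lf (Fc.al (nat_lit 18755) (nat_lit 4771) (nat_lit 2858) (Dv.wd (nat_lit 30) [Mv.b (nat_lit 11069), Mv.f (nat_lit 18751), Mv.b (nat_lit 12502)])))
(Tr.lf (Fc.ed (nat_lit 18756) (nat_lit 3352) Col.gi (nat_lit 5550) (Dv.wd (nat_lit 128) [Mv.f (nat_lit 14182), Mv.b (nat_lit 18752)])))))))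
(Tr.nd (nat_lit 18762) (Tr.nd (nat_lit 18759) (Tr.nd (nat_lit 18758) (Tr.lf (Fc.al (nat_lit 18757) (nat_lit 3290) (nat_lit 4289) (Dv.wd (nat_lit 117) [Mv.f (nat_lit 13666), Mv.b (nat_lit 18752), Mv.b (nat_lit 8563)])))
(Tr.lf (Fc.ed (nat_lit 18758) (nat_lit 3352) Col.f (nat_lit 5358) (Dv.wd (nat_lit 30) [Mv.b (nat_lit 13775), Mv.b (nat_lit 18752)]))))
(Tr.nd (nat_lit 18760) (Tr.lf (Fc.ed (nat_lit 18759) (nat_lit 3550) Col.e (nat_lit 4774) (Dv.wd (nat_lit 117) [Mv.b (nat_lit 12507), Mv.f (nat_lit 18753)])))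
(Tr.nd (nat_lit 18761) (Tr.lf (Fc.al (nat_lit 18760) (nat_lit 3332) (nat_lit 4875) (Dv.wd (nat_lit 117) [Mv.b (nat_lit 13370), Mv.b (nat_lit 18754), Mv.b (nat_lit 8549)])))
(Tr.lf (Fc.al (nat_lit 18761) (nat_lit 4963) (nat_lit 5428) (Dv.wd (nat_lit 119) [Mv.b (nat_lit 18744), Mv.f (nat_lit 18755), Mv.f (nat_lit 18715)]))))))
(Tr.nd (nat_lit 18765) (Tr.nd (nat_lit 18763) (Tr.lf (Fc.ed (nat_lit 18762) (nat_lit 2858) Col.f (nat_lit 2816) (Dv.wd (nat_lit 30) [Mv.b (nat_lit 12502), Mv.f (nat_lit 18755)])))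
(Tr.nd (nat_lit 18764) (Tr.lf (Fc.ed (nat_lit 18763) (nat_lit 3290) Col.b (nat_lit 3782) (Dv.wd (nat_lit 119) [Mv.f (nat_lit 14537), Mv.b (nat_lit 18757)])))
(Tr.lf (Fc.al (nat_lit 18764) (nat_lit 4845) (nat_lit 3355) (Dv.wd (nat_lit 30) [Mv.f (nat_lit 11040), Mv.b (nat_lit 18757), Mv.b (nat_lit 12646)])))))
(Tr.nd (nat_lit 18766) (Tr.lf (Fc.ed (nat_lit 18765) (nat_lit 3332) Col.a (nat_lit 3290) (Dv.wd (nat_lit 29) [Mv.f (nat_lit 12708), Mv.b (nat_lit 18760)])))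
(Tr.nd (nat_lit 18767) (Tr.lf (Fc.al (nat_lit 18766) (nat_lit 5294) (nat_lit 5366) (Dv.wd (nat_lit 120) [Mv.f (nat_lit 13792), Mv.b (nat_lit 18760), Mv.f (nat_lit 13618)])))
(Tr.lf (Fc.ed (nat_lit 18767) (nat_lit 4963) Col.a (nat_lit 5383) (Dv.wd (nat_lit 29) [Mv.f (nat_lit 13913), Mv.b (nat_lit 18761)])))))))))
(Tr.nd (nat_lit 18788) (Tr.nd (nat_lit 18778) (Tr.nd (nat_lit 18773) (Tr.nd (nat_lit 18770) (Tr.nd (nat_lit 18769) (Tr.lf (Fc.ed (nat_lit 18768) (nat_lit 4963) Col.d (nat_lit 5768) (Dv.wd (nat_lit 120) [Mv.b (nat_lit 18745), Mv.b (nat_lit 18761)])))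
(Tr.lf (Fc.ed (nat_lit 18769) (nat_lit 3355) Col.d (nat_lit 4774) (Dv.wd (nat_lit 120) [Mv.b (nat_lit 12645), Mv.f (nat_lit 18764)]))))
(Tr.nd (nat_lit 18771) (Tr.lf (Fc.ed (nat_lit 18770) (nat_lit 3355) Col.f (nat_lit 3290) (Dv.wd (nat_lit 30) [Mv.b (nat_lit 12646), Mv.f (nat_lit 18764)])))
(Tr.nd (nat_lit 18772) (Tr.lf (Fc.ed (nat_lit 18771) (nat_lit 5294) Col.a (nat_lit 4460) (Dv.wd (nat_lit 29) [Mv.f (nat_lit 13791), Mv.b (nat_lit 18766)])))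
(Tr.lf (Fc.al (nat_lit 18772) (nat_lit 5356) (nat_lit 3040) (Dv.wd (nat_lit 30) [Mv.b (nat_lit 13793), Mv.b (nat_lit 18766), Mv.f (nat_lit 13773)]))))))
(Tr.nd (nat_lit 18775) (Tr.nd (nat_lit 18774) (Tr.lf (Fc.ed (nat_lit 18773) (nat_lit 3040) Col.f (nat_lit 5294) (Dv.wd (nat_lit 30) [Mv.f (nat_lit 13773), Mv.f (nat_lit 18772)])))
(Tr.lf (Fc.ed (nat_lit 18774) (nat_lit 6239) Col.f (nat_lit 4971) (Dv.wd (nat_lit 20) [Mv.f (nat_lit 18717), Mv.f (nat_lit 18773), Mv.f (nat_lit 15600)]))))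
(Tr.nd (nat_lit 18776) (Tr.lf (Fc.ed (nat_lit 18775) (nat_lit 5420) Col.f (nat_lit 3937) (Dv.wd (nat_lit 96) [Mv.b (nat_lit 9701), Mv.b (nat_lit 18762), Mv.f (nat_lit 7908), Mv.f (nat_lit 18773), Mv.f (nat_lit 13899)])))
(Tr.nd (nat_lit 18777) (Tr.lf (Fc.ed (nat_lit 18776) (nat_lit 4971) Col.a (nat_lit 5593) (Dv.wd (nat_lit 16) [Mv.b (nat_lit 14265), Mv.f (nat_lit 15602), Mv.f (nat_lit 18774)])))
(Tr.lf (Fc.ed (nat_lit 18777) (nat_lit 6150) Col.f (nat_lit 6459) (Dv.wd (nat_lit 26) [Mv.b (nat_lit 16741), Mv.f (nat_lit 18774), Mv.b (nat_lit 18713)])))))))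
(Tr.nd (nat_lit 18783) (Tr.nd (nat_lit 18780) (Tr.nd (nat_lit 18779) (Tr.lf (Fc.ed (nat_lit 18778) (nat_lit 4502) Col.f (nat_lit 5456) (Dv.wd (nat_lit 11) [Mv.b (nat_lit 15601), Mv.f (nat_lit 18774), Mv.b (nat_lit 12897)])))
(Tr.lf (Fc.ed (nat_lit 18779) (nat_lit 5398) Col.gi (nat_lit 2888) (Dv.wd (nat_lit 12) [Mv.b (nat_lit 11502), Mv.f (nat_lit 18778), Mv.b (nat_lit 14014)]))))
(Tr.nd (nat_lit 18781) (Tr.lf (Fc.ed (nat_lit 18780) (nat_lit 4432) Col.gi (nat_lit 5398) (Dv.wd (nat_lit 12) [Mv.f (nat_lit 18779), Mv.b (nat_lit 12538), Mv.b (nat_lit 12537)])))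
(Tr.nd (nat_lit 18782) (Tr.lf (Fc.ed (nat_lit 18781) (nat_lit 6881) Col.f (nat_lit 6827) (Dv.wd (nat_lit 11) [Mv.b (nat_lit 17784), Mv.f (nat_lit 18777), Mv.f (nat_lit 17909)])))
(Tr.lf (Fc.ed (nat_lit 18782) (nat_lit 6653) Col.a (nat_lit 6150) (Dv.wd (nat_lit 76) [Mv.f (nat_lit 18713), Mv.f (nat_lit 18776), Mv.f (nat_lit 17364)]))))))
(Tr.nd (nat_lit 18785) (Tr.nd (nat_lit 18784) (Tr.lf (Fc.al (nat_lit 18783) (nat_lit 5593) (nat_lit 6265) (Dv.wd (nat_lit 56) [Mv.b (nat_lit 18723), Mv.b (nat_lit 18767), Mv.b (nat_lit 12898), Mv.f (nat_lit 18776)])))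
(Tr.lf (Fc.ed (nat_lit 18784) (nat_lit 5593) Col.gi (nat_lit 6277) (Dv.wd (nat_lit 128) [Mv.b (nat_lit 15673), Mv.b (nat_lit 18783)]))))
(Tr.nd (nat_lit 18786) (Tr.lf (Fc.ed (nat_lit 18785) (nat_lit 5593) Col.d (nat_lit 5069) (Dv.wd (nat_lit 120) [Mv.b (nat_lit 15651), Mv.b (nat_lit 18783)])))
(Tr.nd (nat_lit 18787) (Tr.lf (Fc.ed (nat_lit 18786) (nat_lit 6277) Col.gi (nat_lit 6239) (Dv.wd (nat_lit 24) [Mv.f (nat_lit 18774), Mv.f (nat_lit 18776), Mv.f (nat_lit 18784)])))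
(Tr.lf (Fc.ed (nat_lit 18787) (nat_lit 4502) Col.a (nat_lit 5069) (Dv.wd (nat_lit 54) [Mv.b (nat_lit 18785), Mv.b (nat_lit 18776), Mv.b (nat_lit 12897)]))))))))
(Tr.nd (nat_lit 18798) (Tr.nd (nat_lit 18793) (Tr.nd (nat_lit 18790) (Tr.nd (nat_lit 18789) (Tr.lf (Fc.ed (nat_lit 18788) (nat_lit 5069) Col.f (nat_lit 5398) (Dv.wd (nat_lit 35) [Mv.f (nat_lit 14014), Mv.b (nat_lit 18778), Mv.f (nat_lit 18787)])))
(Tr.lf (Fc.ed (nat_lit 18789) (nat_lit 4788) Col.gi (nat_lit 5456) (Dv.wd (nat_lit 24) [Mv.b (nat_lit 18778), Mv.f (nat_lit 18787), Mv.b (nat_lit 13149)]))))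
(Tr.nd (nat_lit 18791) (Tr.lf (Fc.ed (nat_lit 18790) (nat_lit 5456) Col.gi (nat_lit 2851) (Dv.wd (nat_lit 24) [Mv.f (nat_lit 11384), Mv.f (nat_lit 12537), Mv.f (nat_lit 18789)])))
(Tr.nd (nat_lit 18792) (Tr.lf (Fc.ed (nat_lit 18791) (nat_lit 6379) Col.d (nat_lit 6277) (Dv.wd (nat_lit 162) [Mv.f (nat_lit 18786), Mv.f (nat_lit 15601), Mv.f (nat_lit 18790), Mv.b (nat_lit 7518), Mv.b (nat_lit 4954), Mv.f (nat_lit 4765), Mv.f (nat_lit 4225), Mv.b (nat_lit 5397), Mv.f (nat_lit 13706), Mv.f (nat_lit 15931)])))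
(Tr.lf (Fc.ed (nat_lit 18792) (nat_lit 6605) Col.e (nat_lit 5963) (Dv.wd (nat_lit 133) [Mv.b (nat_lit 15094), Mv.b (nat_lit 8892), Mv.f (nat_lit 5395), Mv.f (nat_lit 13706), Mv.f (nat_lit 15931), Mv.f (nat_lit 18791), Mv.f (nat_lit 18786), Mv.f (nat_lit 15601), Mv.f (nat_lit 14208), Mv.f (nat_lit 17209)]))))))
(Tr.nd (nat_lit 18795) (Tr.nd (nat_lit 18794) (Tr.lf (Fc.ed (nat_lit 18793) (nat_lit 5712) Col.b (nat_lit 6605) (Dv.wd (nat_lit 127) [Mv.f (nat_lit 18792), Mv.f (nat_lit 16961), Mv.b (nat_lit 14479)])))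
(Tr.lf (Fc.ed (nat_lit 18794) (nat_lit 6827) Col.a (nat_lit 6898) (Dv.wd (nat_lit 54) [Mv.b (nat_lit 17939), Mv.f (nat_lit 18782), Mv.f (nat_lit 17784)]))))
(Tr.nd (nat_lit 18796) (Tr.lf (Fc.ed (nat_lit 18795) (nat_lit 6528) Col.g (nat_lit 6653) (Dv.wd (nat_lit 9) [Mv.f (nat_lit 18782), Mv.f (nat_lit 18777), Mv.f (nat_lit 17046)])))
(Tr.nd (nat_lit 18797) (Tr.lf (Fc.ed (nat_lit 18796) (nat_lit 4483) Col.a (nat_lit 5420) (Dv.wd (nat_lit 31) [Mv.b (nat_lit 13899), Mv.f (nat_lit 18771), Mv.b (nat_lit 11470)])))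
(Tr.lf (Fc.ed (nat_lit 18797) (nat_lit 3937) Col.a (nat_lit 5047) (Dv.wd (nat_lit 54) [Mv.f (nat_lit 13105), Mv.f (nat_lit 18796), Mv.f (nat_lit 13900)])))))))
(Tr.nd (nat_lit 18803) (Tr.nd (nat_lit 18800) (Tr.nd (nat_lit 18799) (Tr.lf (Fc.ed (nat_lit 18798) (nat_lit 5508) Col.g (nat_lit 4483) (Dv.wd (nat_lit 9) [Mv.f (nat_lit 18796), Mv.f (nat_lit 18775), Mv.f (nat_lit 14102)])))
(Tr.lf (Fc.ed (nat_lit 18799) (nat_lit 5154) Col.f (nat_lit 5508) (Dv.wd (nat_lit 10) [Mv.f (nat_lit 18798), Mv.b (nat_lit 11469), Mv.b (nat_lit 18660)]))))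
(Tr.nd (nat_lit 18801) (Tr.lf (Fc.ed (nat_lit 18800) (nat_lit 5657) Col.f (nat_lit 5813) (Dv.wd (nat_lit 96) [Mv.f (nat_lit 18671), Mv.f (nat_lit 18658), Mv.f (nat_lit 13318), Mv.f (nat_lit 18799), Mv.f (nat_lit 14395)])))
(Tr.nd (nat_lit 18802) (Tr.lf (Fc.ed (nat_lit 18801) (nat_lit 5671) Col.d (nat_lit 5657) (Dv.wd (nat_lit 90) [Mv.f (nat_lit 18800), Mv.b (nat_lit 14757), Mv.b (nat_lit 14743)])))
(Tr.lf (Fc.ed (nat_lit 18802) (nat_lit 5657) Col.gi (nat_lit 5294) (Dv.wd (nat_lit 71) [Mv.b (nat_lit 13618), Mv.f (nat_lit 8549), Mv.f (nat_lit 11510), Mv.f (nat_lit 11560), Mv.f (nat_lit 11561), Mv.f (nat_lit 10952), Mv.f (nat_lit 4960), Mv.f (nat_lit 9608), Mv.f (nat_lit 14418), Mv.f (nat_lit 18801)]))))))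
(Tr.nd (nat_lit 18806) (Tr.nd (nat_lit 18804) (Tr.lf (Fc.ed (nat_lit 18803) (nat_lit 4774) Col.gi (nat_lit 5657) (Dv.wd (nat_lit 12) [Mv.f (nat_lit 18802), Mv.b (nat_lit 18773), Mv.b (nat_lit 12508)])))
(Tr.nd (nat_lit 18805) (Tr.lf (Fc.ed (nat_lit 18804) (nat_lit 5154) Col.gi (nat_lit 5420) (Dv.wd (nat_lit 24) [Mv.f (nat_lit 18775), Mv.f (nat_lit 18797), Mv.f (nat_lit 18659)])))
(Tr.lf (Fc.ed (nat_lit 18805) (nat_lit 5090) Col.d (nat_lit 5154) (Dv.wd (nat_lit 43) [Mv.f (nat_lit 18804), Mv.b (nat_lit 13899), Mv.b (nat_lit 13618), Mv.b (nat_lit 8518), Mv.f (nat_lit 4918), Mv.f (nat_lit 4388), Mv.b (nat_lit 4254), Mv.f (nat_lit 5131), Mv.f (nat_lit 5132), Mv.b (nat_lit 13187)])))))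
(Tr.nd (nat_lit 18807) (Tr.lf (Fc.ed (nat_lit 18806) (nat_lit 4737) Col.e (nat_lit 4975) (Dv.wd (nat_lit 47) [Mv.b (nat_lit 12904), Mv.b (nat_lit 9902), Mv.f (nat_lit 9482), Mv.f (nat_lit 9483), Mv.f (nat_lit 13186), Mv.f (nat_lit 18805), Mv.b (nat_lit 18659), Mv.f (nat_lit 13105), Mv.f (nat_lit 11470), Mv.b (nat_lit 12648)])))
(Tr.nd (nat_lit 18808) (Tr.lf (Fc.ed (nat_lit 18807) (nat_lit 4083) Col.e (nat_lit 4059) (Dv.wd (nat_lit 131) [Mv.b (nat_lit 9902), Mv.f (nat_lit 9482), Mv.f (nat_lit 13186), Mv.f (nat_lit 18805), Mv.b (nat_lit 13318), Mv.f (nat_lit 13050), Mv.f (nat_lit 8058), Mv.f (nat_lit 8057), Mv.b (nat_lit 7841), Mv.f (nat_lit 9953)])))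
(Tr.lf (Fc.ed (nat_lit 18808) (nat_lit 4737) Col.d (nat_lit 5148) (Dv.wd (nat_lit 36) [Mv.b (nat_lit 13308), Mv.f (nat_lit 9953), Mv.f (nat_lit 18807), Mv.f (nat_lit 12904), Mv.b (nat_lit 18806)]))))))))))
(Tr.nd (nat_lit 18850) (Tr.nd (nat_lit 18829) (Tr.nd (nat_lit 18819) (Tr.nd (nat_lit 18814) (Tr.nd (nat_lit 18811) (Tr.nd (nat_lit 18810) (Tr.lf (Fc.ed (nat_lit 18809) (nat_lit 4975) Col.gi (nat_lit 5047) (Dv.wd (nat_lit 151) [Mv.f (nat_lit 13105), Mv.b (nat_lit 18798), Mv.f (nat_lit 14395), Mv.b (nat_lit 18801), Mv.f (nat_lit 18668), Mv.f (nat_lit 10712), Mv.f (nat_lit 14135), Mv.f (nat_lit 18637), Mv.f (nat_lit 18807), Mv.f (nat_lit 12904)])))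
(Tr.lf (Fc.ed (nat_lit 18810) (nat_lit 5813) Col.g (nat_lit 4460) (Dv.wd (nat_lit 38) [Mv.b (nat_lit 11470), Mv.b (nat_lit 13105), Mv.b (nat_lit 18809), Mv.b (nat_lit 12904), Mv.b (nat_lit 18807), Mv.b (nat_lit 18637), Mv.f (nat_lit 14153), Mv.b (nat_lit 14156), Mv.f (nat_lit 13260), Mv.b (nat_lit 18671)]))))
(Tr.nd (nat_lit 18812) (Tr.lf (Fc.ed (nat_lit 18811) (nat_lit 5483) Col.e (nat_lit 5550) (Dv.wd (nat_lit 70) [Mv.b (nat_lit 18756), Mv.b (nat_lit 8563), Mv.f (nat_lit 11431), Mv.b (nat_lit 12648), Mv.f (nat_lit 18808), Mv.b (nat_lit 13308), Mv.b (nat_lit 7840), Mv.b (nat_lit 6731), Mv.f (nat_lit 13049), Mv.f (nat_lit 18655)])))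
(Tr.nd (nat_lit 18813) (Tr.lf (Fc.ed (nat_lit 18812) (nat_lit 5550) Col.a (nat_lit 4507) (Dv.wd (nat_lit 15) [Mv.f (nat_lit 11560), Mv.b (nat_lit 18650), Mv.f (nat_lit 18811)])))
(Tr.lf (Fc.ed (nat_lit 18813) (nat_lit 5051) Col.g (nat_lit 5348) (Dv.wd (nat_lit 17) [Mv.f (nat_lit 14181), Mv.f (nat_lit 18812), Mv.b (nat_lit 18651)]))))))
(Tr.nd (nat_lit 18816) (Tr.nd (nat_lit 18815) (Tr.lf (Fc.ed (nat_lit 18814) (nat_lit 3352) Col.g (nat_lit 5051) (Dv.wd (nat_lit 17) [Mv.f (nat_lit 18813), Mv.b (nat_lit 13776), Mv.b (nat_lit 18758)])))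
(Tr.lf (Fc.ed (nat_lit 18815) (nat_lit 6205) Col.c (nat_lit 5768) (Dv.wd (nat_lit 83) [Mv.b (nat_lit 18768), Mv.f (nat_lit 18712), Mv.f (nat_lit 10603), Mv.b (nat_lit 5969), Mv.f (nat_lit 8106), Mv.b (nat_lit 8564), Mv.f (nat_lit 18814), Mv.f (nat_lit 14925), Mv.f (nat_lit 15529)]))))
(Tr.nd (nat_lit 18817) (Tr.lf (Fc.ed (nat_lit 18816) (nat_lit 5609) Col.d (nat_lit 5556) (Dv.wd (nat_lit 60) [Mv.b (nat_lit 14193), Mv.f (nat_lit 18669), Mv.f (nat_lit 14757), Mv.f (nat_lit 18810), Mv.b (nat_lit 11431), Mv.f (nat_lit 8563), Mv.f (nat_lit 18814), Mv.b (nat_lit 13112), Mv.f (nat_lit 8648), Mv.f (nat_lit 14297)])))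
(Tr.nd (nat_lit 18818) (Tr.lf (Fc.ed (nat_lit 18817) (nat_lit 2663) Col.e (nat_lit 5609) (Dv.wd (nat_lit 137) [Mv.f (nat_lit 18816), Mv.b (nat_lit 14193), Mv.b (nat_lit 18672), Mv.b (nat_lit 18635), Mv.b (nat_lit 14509)])))
(Tr.lf (Fc.ed (nat_lit 18818) (nat_lit 5609) Col.b (nat_lit 5722) (Dv.wd (nat_lit 49) [Mv.b (nat_lit 14555), Mv.b (nat_lit 13363), Mv.f (nat_lit 18817)])))))))
(Tr.nd (nat_lit 18824) (Tr.nd (nat_lit 18821) (Tr.nd (nat_lit 18820) (Tr.lf (Fc.ed (nat_lit 18819) (nat_lit 5768) Col.a (nat_lit 5501) (Dv.wd (nat_lit 8) [Mv.b (nat_lit 14093), Mv.b (nat_lit 18767), Mv.f (nat_lit 18768)])))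
(Tr.lf (Fc.ed (nat_lit 18820) (nat_lit 5501) Col.c (nat_lit 6825) (Dv.wd (nat_lit 33) [Mv.b (nat_lit 17782), Mv.f (nat_lit 18815), Mv.f (nat_lit 18819)]))))
(Tr.nd (nat_lit 18822) (Tr.lf (Fc.ed (nat_lit 18821) (nat_lit 5501) Col.f (nat_lit 5797) (Dv.wd (nat_lit 35) [Mv.f (nat_lit 14726), Mv.f (nat_lit 14639), Mv.f (nat_lit 18819)])))
(Tr.nd (nat_lit 18823) (Tr.lf (Fc.ed (nat_lit 18822) (nat_lit 5797) Col.g (nat_lit 6564) (Dv.wd (nat_lit 17) [Mv.b (nat_lit 17121), Mv.f (nat_lit 18819), Mv.f (nat_lit 18821)])))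
(Tr.lf (Fc.ed (nat_lit 18823) (nat_lit 6605) Col.gi (nat_lit 5501) (Dv.wd (nat_lit 24) [Mv.f (nat_lit 18821), Mv.f (nat_lit 14726), Mv.f (nat_lit 17209)]))))))
(Tr.nd (nat_lit 18826) (Tr.nd (nat_lit 18825) (Tr.lf (Fc.ed (nat_lit 18824) (nat_lit 4774) Col.b (nat_lit 2937) (Dv.wd (nat_lit 49) [Mv.b (nat_lit 7697), Mv.b (nat_lit 14534), Mv.f (nat_lit 18759)])))
(Tr.lf (Fc.al (nat_lit 18825) (nat_lit 3782) (nat_lit 3552) (Dv.wd (nat_lit 38) [Mv.b (nat_lit 8965), Mv.b (nat_lit 7284), Mv.f (nat_lit 7158), Mv.f (nat_lit 7181), Mv.b (nat_lit 7721), Mv.b (nat_lit 7720), Mv.f (nat_lit 7563), Mv.b (nat_lit 6792), Mv.b (nat_lit 7423), Mv.f (nat_lit 18750), Mv.b (nat_lit 12769)]))))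
(Tr.nd (nat_lit 18827) (Tr.lf (Fc.al (nat_lit 18826) (nat_lit 3944) (nat_lit 2886) (Dv.wd (nat_lit 29) [Mv.f (nat_lit 9395), Mv.f (nat_lit 18825), Mv.f (nat_lit 9710)])))
(Tr.nd (nat_lit 18828) (Tr.lf (Fc.ed (nat_lit 18827) (nat_lit 3552) Col.b (nat_lit 3290) (Dv.wd (nat_lit 119) [Mv.f (nat_lit 18763), Mv.f (nat_lit 18825)])))
(Tr.lf (Fc.ed (nat_lit 18828) (nat_lit 2886) Col.a (nat_lit 3552) (Dv.wd (nat_lit 29) [Mv.f (nat_lit 9710), Mv.f (nat_lit 18826)]))))))))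
(Tr.nd (nat_lit 18839) (Tr.nd (nat_lit 18834) (Tr.nd (nat_lit 18831) (Tr.nd (nat_lit 18830) (Tr.lf (Fc.ed (nat_lit 18829) (nat_lit 2886) Col.f (nat_lit 2831) (Dv.wd (nat_lit 30) [Mv.b (nat_lit 9711), Mv.f (nat_lit 18826)])))
(Tr.lf (Fc.ed (nat_lit 18830) (nat_lit 2831) Col.b (nat_lit 5069) (Dv.wd (nat_lit 66) [Mv.f (nat_lit 18788), Mv.b (nat_lit 13855), Mv.f (nat_lit 18829)]))))
(Tr.nd (nat_lit 18832) (Tr.lf (Fc.ed (nat_lit 18831) (nat_lit 4686) Col.gi (nat_lit 2665) (Dv.wd (nat_lit 12) [Mv.f (nat_lit 7593), Mv.f (nat_lit 18829), Mv.b (nat_lit 11846)])))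
(Tr.nd (nat_lit 18833) (Tr.lf (Fc.ed (nat_lit 18832) (nat_lit 1476) Col.gi (nat_lit 4686) (Dv.wd (nat_lit 12) [Mv.f (nat_lit 18831), Mv.f (nat_lit 7110), Mv.b (nat_lit 4447)])))
(Tr.lf (Fc.al (nat_lit 18833) (nat_lit 4869) (nat_lit 2937) (Dv.wd (nat_lit 74) [Mv.b (nat_lit 7697), Mv.f (nat_lit 7553), Mv.b (nat_lit 4295), Mv.b (nat_lit 1933), Mv.b (nat_lit 1132), Mv.b (nat_lit 2087), Mv.b (nat_lit 2086), Mv.b (nat_lit 4279), Mv.b (nat_lit 4449), Mv.f (nat_lit 18832), Mv.b (nat_lit 12697)]))))))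
(Tr.nd (nat_lit 18836) (Tr.nd (nat_lit 18835) (Tr.lf (Fc.ed (nat_lit 18834) (nat_lit 2937) Col.d (nat_lit 4686) (Dv.wd (nat_lit 120) [Mv.b (nat_lit 12697), Mv.f (nat_lit 18833)])))
(Tr.lf (Fc.ed (nat_lit 18835) (nat_lit 4686) Col.b (nat_lit 3355) (Dv.wd (nat_lit 37) [Mv.f (nat_lit 18769), Mv.f (nat_lit 18824), Mv.f (nat_lit 18834)]))))
(Tr.nd (nat_lit 18837) (Tr.lf (Fc.ed (nat_lit 18836) (nat_lit 6698) Col.c (nat_lit 5564) (Dv.wd (nat_lit 110) [Mv.f (nat_lit 18743), Mv.b (nat_lit 13864), Mv.b (nat_lit 12730), Mv.f (nat_lit 18687), Mv.f (nat_lit 14495), Mv.b (nat_lit 11095), Mv.b (nat_lit 11702), Mv.f (nat_lit 17367), Mv.f (nat_lit 17487)])))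
(Tr.nd (nat_lit 18838) (Tr.lf (Fc.ed (nat_lit 18837) (nat_lit 5456) Col.c (nat_lit 5396) (Dv.wd (nat_lit 109) [Mv.b (nat_lit 17488), Mv.f (nat_lit 18836), Mv.b (nat_lit 14208)])))
(Tr.lf (Fc.ed (nat_lit 18838) (nat_lit 3191) Col.c (nat_lit 3353) (Dv.wd (nat_lit 130) [Mv.f (nat_lit 8566), Mv.f (nat_lit 5639), Mv.b (nat_lit 4917), Mv.f (nat_lit 8518), Mv.f (nat_lit 14538), Mv.f (nat_lit 18837), Mv.f (nat_lit 13853), Mv.b (nat_lit 8728), Mv.b (nat_lit 7821), Mv.b (nat_lit 8241)])))))))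
(Tr.nd (nat_lit 18844) (Tr.nd (nat_lit 18841) (Tr.nd (nat_lit 18840) (Tr.lf (Fc.ed (nat_lit 18839) (nat_lit 5069) Col.c (nat_lit 4580) (Dv.wd (nat_lit 156) [Mv.b (nat_lit 11648), Mv.b (nat_lit 8728), Mv.b (nat_lit 8519), Mv.f (nat_lit 14538), Mv.f (nat_lit 18837), Mv.b (nat_lit 13852), Mv.f (nat_lit 7328), Mv.f (nat_lit 4917), Mv.f (nat_lit 7473), Mv.f (nat_lit 18830)])))
(Tr.lf (Fc.ed (nat_lit 18840) (nat_lit 5657) Col.c (nat_lit 6528) (Dv.wd (nat_lit 138) [Mv.f (nat_lit 18795), Mv.b (nat_lit 17364), Mv.f (nat_lit 18785), Mv.f (nat_lit 18839), Mv.b (nat_lit 11648), Mv.b (nat_lit 8728), Mv.b (nat_lit 8519), Mv.f (nat_lit 13618), Mv.b (nat_lit 18802)]))))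
(Tr.nd (nat_lit 18842) (Tr.lf (Fc.ed (nat_lit 18841) (nat_lit 3552) Col.c (nat_lit 2962) (Dv.wd (nat_lit 130) [Mv.f (nat_lit 7746), Mv.b (nat_lit 6145), Mv.b (nat_lit 7286), Mv.b (nat_lit 7474), Mv.f (nat_lit 18830), Mv.f (nat_lit 18839), Mv.f (nat_lit 11649), Mv.f (nat_lit 7328), Mv.f (nat_lit 4917), Mv.b (nat_lit 8966)])))
(Tr.nd (nat_lit 18843) (Tr.lf (Fc.ed (nat_lit 18842) (nat_lit 3579) Col.c (nat_lit 2886) (Dv.wd (nat_lit 33) [Mv.f (nat_lit 18828), Mv.f (nat_lit 18841), Mv.f (nat_lit 9015)])))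
(Tr.lf (Fc.ed (nat_lit 18843) (nat_lit 4927) Col.c (nat_lit 4686) (Dv.wd (nat_lit 67) [Mv.b (nat_lit 11845), Mv.f (nat_lit 18841), Mv.b (nat_lit 12811)]))))))
(Tr.nd (nat_lit 18847) (Tr.nd (nat_lit 18845) (Tr.lf (Fc.ed (nat_lit 18844) (nat_lit 2831) Col.c (nat_lit 3099) (Dv.wd (nat_lit 130) [Mv.b (nat_lit 8051), Mv.b (nat_lit 4892), Mv.f (nat_lit 4853), Mv.b (nat_lit 8433), Mv.b (nat_lit 18827), Mv.f (nat_lit 18841), Mv.f (nat_lit 7746), Mv.b (nat_lit 6145), Mv.b (nat_lit 7286), Mv.b (nat_lit 7474)])))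
(Tr.nd (nat_lit 18846) (Tr.lf (Fc.ed (nat_lit 18845) (nat_lit 4502) Col.c (nat_lit 4424) (Dv.wd (nat_lit 156) [Mv.b (nat_lit 11370), Mv.b (nat_lit 8516), Mv.f (nat_lit 8432), Mv.b (nat_lit 18827), Mv.f (nat_lit 18841), Mv.b (nat_lit 7745), Mv.b (nat_lit 4892), Mv.f (nat_lit 4853), Mv.b (nat_lit 7838), Mv.b (nat_lit 18719)])))
(Tr.lf (Fc.ed (nat_lit 18846) (nat_lit 5338) Col.c (nat_lit 3495) (Dv.wd (nat_lit 142) [Mv.f (nat_lit 8850), Mv.f (nat_lit 8391), Mv.b (nat_lit 7825), Mv.f (nat_lit 8432), Mv.b (nat_lit 18827), Mv.f (nat_lit 18841), Mv.b (nat_lit 7745), Mv.b (nat_lit 4892), Mv.f (nat_lit 7768), Mv.f (nat_lit 13741)])))))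
(Tr.nd (nat_lit 18848) (Tr.lf (Fc.ed (nat_lit 18847) (nat_lit 5398) Col.c (nat_lit 4443) (Dv.wd (nat_lit 142) [Mv.f (nat_lit 11405), Mv.f (nat_lit 7217), Mv.b (nat_lit 4853), Mv.f (nat_lit 7768), Mv.f (nat_lit 13741), Mv.f (nat_lit 18846), Mv.f (nat_lit 8850), Mv.f (nat_lit 8391), Mv.f (nat_lit 7593), Mv.f (nat_lit 13855)])))
(Tr.nd (nat_lit 18849) (Tr.lf (Fc.al (nat_lit 18848) (nat_lit 4619) (nat_lit 5396) (Dv.wd (nat_lit 33) [Mv.b (nat_lit 18837), Mv.b (nat_lit 14014), Mv.f (nat_lit 18847), Mv.f (nat_lit 11718)])))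
(Tr.lf (Fc.ed (nat_lit 18849) (nat_lit 4619) Col.c (nat_lit 5456) (Dv.wd (nat_lit 103) [Mv.f (nat_lit 18837), Mv.b (nat_lit 18848)])))))))))
(Tr.nd (nat_lit 18870) (Tr.nd (nat_lit 18860) (Tr.nd (nat_lit 18855) (Tr.nd (nat_lit 18852) (Tr.nd (nat_lit 18851) (Tr.lf (Fc.ed (nat_lit 18850) (nat_lit 4898) Col.c (nat_lit 5797) (Dv.wd (nat_lit 109) [Mv.f (nat_lit 14725), Mv.f (nat_lit 18847), Mv.f (nat_lit 12753)])))
(Tr.lf (Fc.ed (nat_lit 18851) (nat_lit 6426) Col.g (nat_lit 4538) (Dv.wd (nat_lit 123) [Mv.b (nat_lit 11568), Mv.f (nat_lit 7599), Mv.b (nat_lit 18779), Mv.f (nat_lit 18847), Mv.b (nat_lit 11404), Mv.b (nat_lit 8516), Mv.f (nat_lit 7825), Mv.b (nat_lit 18831), Mv.f (nat_lit 18835), Mv.f (nat_lit 16681)]))))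
(Tr.nd (nat_lit 18853) (Tr.lf (Fc.al (nat_lit 18852) (nat_lit 5134) (nat_lit 1593) (Dv.wd (nat_lit 115) [Mv.b (nat_lit 4700), Mv.b (nat_lit 4448), Mv.b (nat_lit 7594), Mv.f (nat_lit 13855), Mv.f (nat_lit 18847), Mv.b (nat_lit 11404), Mv.b (nat_lit 8516), Mv.f (nat_lit 7825), Mv.b (nat_lit 18831), Mv.b (nat_lit 18843), Mv.f (nat_lit 13283)])))
(Tr.nd (nat_lit 18854) (Tr.lf (Fc.al (nat_lit 18853) (nat_lit 3865) (nat_lit 3579) (Dv.wd (nat_lit 128) [Mv.b (nat_lit 13284), Mv.f (nat_lit 18852), Mv.b (nat_lit 9542)])))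
(Tr.lf (Fc.ed (nat_lit 18854) (nat_lit 3579) Col.gi (nat_lit 1593) (Dv.wd (nat_lit 128) [Mv.b (nat_lit 9542), Mv.f (nat_lit 18853)]))))))
(Tr.nd (nat_lit 18857) (Tr.nd (nat_lit 18856) (Tr.lf (Fc.ed (nat_lit 18855) (nat_lit 6041) Col.c (nat_lit 6051) (Dv.wd (nat_lit 143) [Mv.b (nat_lit 15250), Mv.b (nat_lit 12909), Mv.b (nat_lit 9499), Mv.f (nat_lit 8391), Mv.f (nat_lit 7593), Mv.b (nat_lit 18842), Mv.f (nat_lit 18854), Mv.f (nat_lit 6457), Mv.f (nat_lit 6531), Mv.b (nat_lit 15234)])))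
(Tr.lf (Fc.ed (nat_lit 18856) (nat_lit 6426) Col.gi (nat_lit 5164) (Dv.wd (nat_lit 102) [Mv.b (nat_lit 13340), Mv.f (nat_lit 18780), Mv.b (nat_lit 13855), Mv.b (nat_lit 18842), Mv.f (nat_lit 18854), Mv.b (nat_lit 4700), Mv.b (nat_lit 4448), Mv.f (nat_lit 18832), Mv.f (nat_lit 18835), Mv.f (nat_lit 16681)]))))
(Tr.nd (nat_lit 18858) (Tr.lf (Fc.ed (nat_lit 18857) (nat_lit 6828) Col.b (nat_lit 6460) (Dv.wd (nat_lit 106) [Mv.f (nat_lit 16743), Mv.b (nat_lit 14368), Mv.b (nat_lit 14610), Mv.f (nat_lit 15233), Mv.f (nat_lit 18855), Mv.b (nat_lit 15250), Mv.f (nat_lit 12910), Mv.b (nat_lit 13071), Mv.f (nat_lit 17729), Mv.f (nat_lit 17785)])))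
(Tr.nd (nat_lit 18859) (Tr.lf (Fc.ed (nat_lit 18858) (nat_lit 6825) Col.f (nat_lit 4898) (Dv.wd (nat_lit 64) [Mv.f (nat_lit 18850), Mv.b (nat_lit 18821), Mv.f (nat_lit 18820)])))
(Tr.lf (Fc.ed (nat_lit 18859) (nat_lit 4737) Col.c (nat_lit 6317) (Dv.wd (nat_lit 138) [Mv.b (nat_lit 15808), Mv.f (nat_lit 18713), Mv.b (nat_lit 12897), Mv.f (nat_lit 18845), Mv.b (nat_lit 11370), Mv.b (nat_lit 8516), Mv.f (nat_lit 8432), Mv.f (nat_lit 11431), Mv.b (nat_lit 12648)])))))))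
(Tr.nd (nat_lit 18865) (Tr.nd (nat_lit 18862) (Tr.nd (nat_lit 18861) (Tr.lf (Fc.ed (nat_lit 18860) (nat_lit 2980) Col.c (nat_lit 4091) (Dv.wd (nat_lit 130) [Mv.b (nat_lit 9964), Mv.f (nat_lit 8391), Mv.b (nat_lit 7825), Mv.f (nat_lit 7837), Mv.b (nat_lit 18719), Mv.f (nat_lit 18845), Mv.f (nat_lit 11371), Mv.f (nat_lit 7217), Mv.b (nat_lit 4853), Mv.f (nat_lit 7783)])))
(Tr.lf (Fc.ed (nat_lit 18861) (nat_lit 6827) Col.g (nat_lit 6854) (Dv.wd (nat_lit 69) [Mv.b (nat_lit 17858), Mv.b (nat_lit 6138), Mv.f (nat_lit 5010), Mv.b (nat_lit 7838), Mv.b (nat_lit 7909), Mv.f (nat_lit 11940), Mv.f (nat_lit 18859), Mv.b (nat_lit 15808), Mv.f (nat_lit 17784)]))))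
(Tr.nd (nat_lit 18863) (Tr.lf (Fc.ed (nat_lit 18862) (nat_lit 6918) Col.a (nat_lit 6881) (Dv.wd (nat_lit 114) [Mv.f (nat_lit 18781), Mv.f (nat_lit 18861), Mv.f (nat_lit 17975)])))
(Tr.nd (nat_lit 18864) (Tr.lf (Fc.ed (nat_lit 18863) (nat_lit 6898) Col.f (nat_lit 6918) (Dv.wd (nat_lit 73) [Mv.f (nat_lit 18862), Mv.f (nat_lit 18781), Mv.f (nat_lit 18794)])))
(Tr.lf (Fc.ed (nat_lit 18864) (nat_lit 3290) Col.c (nat_lit 6432) (Dv.wd (nat_lit 156) [Mv.b (nat_lit 16691), Mv.f (nat_lit 9475), Mv.b (nat_lit 13150), Mv.b (nat_lit 18830), Mv.f (nat_lit 18844), Mv.f (nat_lit 8052), Mv.b (nat_lit 6145), Mv.b (nat_lit 7286), Mv.f (nat_lit 8965), Mv.f (nat_lit 18827)]))))))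
(Tr.nd (nat_lit 18867) (Tr.nd (nat_lit 18866) (Tr.lf (Fc.ed (nat_lit 18865) (nat_lit 6432) Col.f (nat_lit 6426) (Dv.wd (nat_lit 26) [Mv.b (nat_lit 16681), Mv.f (nat_lit 18770), Mv.f (nat_lit 18864)])))
(Tr.lf (Fc.ed (nat_lit 18866) (nat_lit 6898) Col.g (nat_lit 6880) (Dv.wd (nat_lit 69) [Mv.b (nat_lit 17908), Mv.f (nat_lit 7242), Mv.b (nat_lit 4918), Mv.b (nat_lit 8571), Mv.f (nat_lit 18769), Mv.f (nat_lit 18803), Mv.f (nat_lit 18840), Mv.f (nat_lit 18795), Mv.f (nat_lit 17939)]))))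
(Tr.nd (nat_lit 18868) (Tr.lf (Fc.ed (nat_lit 18867) (nat_lit 6880) Col.g (nat_lit 6881) (Dv.wd (nat_lit 9) [Mv.b (nat_lit 18862), Mv.b (nat_lit 18863), Mv.f (nat_lit 18866)])))
(Tr.nd (nat_lit 18869) (Tr.lf (Fc.ed (nat_lit 18868) (nat_lit 2689) Col.gi (nat_lit 5379) (Dv.wd (nat_lit 50) [Mv.b (nat_lit 13818), Mv.b (nat_lit 11358), Mv.f (nat_lit 17908), Mv.f (nat_lit 18867), Mv.b (nat_lit 17909), Mv.b (nat_lit 16741), Mv.f (nat_lit 15601), Mv.f (nat_lit 18790), Mv.f (nat_lit 7519)])))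
(Tr.lf (Fc.ed (nat_lit 18869) (nat_lit 5457) Col.e (nat_lit 5109) (Dv.wd (nat_lit 74) [Mv.b (nat_lit 13229), Mv.b (nat_lit 13041), Mv.b (nat_lit 4125), Mv.f (nat_lit 3915), Mv.f (nat_lit 5093), Mv.f (nat_lit 5097), Mv.f (nat_lit 7518), Mv.f (nat_lit 7519), Mv.f (nat_lit 18868), Mv.f (nat_lit 14015)]))))))))
(Tr.nd (nat_lit 18880) (Tr.nd (nat_lit 18875) (Tr.nd (nat_lit 18872) (Tr.nd (nat_lit 18871) (Tr.lf (Fc.ed (nat_lit 18870) (nat_lit 3332) Col.c (nat_lit 6411) (Dv.wd (nat_lit 130) [Mv.b (nat_lit 16651), Mv.b (nat_lit 13340), Mv.f (nat_lit 12740), Mv.f (nat_lit 13735), Mv.f (nat_lit 18740), Mv.f (nat_lit 18838), Mv.f (nat_lit 8566), Mv.f (nat_lit 5639), Mv.b (nat_lit 4917), Mv.f (nat_lit 8518)])))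
(Tr.lf (Fc.ed (nat_lit 18871) (nat_lit 6411) Col.a (nat_lit 6432) (Dv.wd (nat_lit 19) [Mv.b (nat_lit 18864), Mv.b (nat_lit 18765), Mv.f (nat_lit 18870)]))))
(Tr.nd (nat_lit 18873) (Tr.lf (Fc.ed (nat_lit 18872) (nat_lit 4538) Col.g (nat_lit 6411) (Dv.wd (nat_lit 9) [Mv.f (nat_lit 18871), Mv.f (nat_lit 18865), Mv.f (nat_lit 18851)])))
(Tr.nd (nat_lit 18874) (Tr.lf (Fc.ed (nat_lit 18873) (nat_lit 4800) Col.gi (nat_lit 5441) (Dv.wd (nat_lit 24) [Mv.f (nat_lit 16984), Mv.f (nat_lit 16981), Mv.f (nat_lit 18705)])))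
(Tr.lf (Fc.ed (nat_lit 18874) (nat_lit 5519) Col.gi (nat_lit 5852) (Dv.wd (nat_lit 71) [Mv.f (nat_lit 14818), Mv.f (nat_lit 14820), Mv.b (nat_lit 14248), Mv.b (nat_lit 18703), Mv.f (nat_lit 16978), Mv.f (nat_lit 18705), Mv.f (nat_lit 13486), Mv.f (nat_lit 18873), Mv.f (nat_lit 14028), Mv.b (nat_lit 14123)]))))))
(Tr.nd (nat_lit 18877) (Tr.nd (nat_lit 18876) (Tr.lf (Fc.ed (nat_lit 18875) (nat_lit 4440) Col.gi (nat_lit 5519) (Dv.wd (nat_lit 12) [Mv.f (nat_lit 18874), Mv.b (nat_lit 14816), Mv.f (nat_lit 13042)])))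
(Tr.lf (Fc.ed (nat_lit 18876) (nat_lit 6489) Col.gi (nat_lit 5328) (Dv.wd (nat_lit 88) [Mv.f (nat_lit 13724), Mv.f (nat_lit 13471), Mv.f (nat_lit 18875), Mv.b (nat_lit 14122), Mv.b (nat_lit 16882), Mv.f (nat_lit 8832), Mv.f (nat_lit 8185), Mv.b (nat_lit 18395), Mv.f (nat_lit 14018), Mv.f (nat_lit 16800)]))))
(Tr.nd (nat_lit 18878) (Tr.lf (Fc.ed (nat_lit 18877) (nat_lit 5441) Col.gi (nat_lit 5228) (Dv.wd (nat_lit 132) [Mv.f (nat_lit 13483), Mv.b (nat_lit 5083), Mv.f (nat_lit 3889), Mv.b (nat_lit 4613), Mv.f (nat_lit 4964), Mv.f (nat_lit 11398), Mv.f (nat_lit 11399), Mv.f (nat_lit 18875), Mv.f (nat_lit 14123), Mv.b (nat_lit 14028)])))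
(Tr.nd (nat_lit 18879) (Tr.lf (Fc.ed (nat_lit 18878) (nat_lit 6552) Col.e (nat_lit 6237) (Dv.wd (nat_lit 146) [Mv.f (nat_lit 15595), Mv.f (nat_lit 18877), Mv.f (nat_lit 13484), Mv.f (nat_lit 13483), Mv.b (nat_lit 5098), Mv.b (nat_lit 7335), Mv.b (nat_lit 7645), Mv.f (nat_lit 9708), Mv.b (nat_lit 13301), Mv.f (nat_lit 17087)])))
(Tr.lf (Fc.ed (nat_lit 18879) (nat_lit 5686) Col.d (nat_lit 6552) (Dv.wd (nat_lit 99) [Mv.f (nat_lit 18878), Mv.f (nat_lit 15595), Mv.f (nat_lit 14028), Mv.b (nat_lit 14123), Mv.b (nat_lit 14441)])))))))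
(Tr.nd (nat_lit 18885) (Tr.nd (nat_lit 18882) (Tr.nd (nat_lit 18881) (Tr.lf (Fc.ed (nat_lit 18880) (nat_lit 3943) Col.e (nat_lit 6564) (Dv.wd (nat_lit 131) [Mv.b (nat_lit 17121), Mv.b (nat_lit 18768), Mv.b (nat_lit 12884), Mv.f (nat_lit 11889), Mv.b (nat_lit 14820), Mv.b (nat_lit 18874), Mv.b (nat_lit 14441), Mv.f (nat_lit 18879), Mv.b (nat_lit 17087), Mv.f (nat_lit 13301)])))
(Tr.lf (Fc.ed (nat_lit 18881) (nat_lit 5328) Col.gi (nat_lit 6421) (Dv.wd (nat_lit 24) [Mv.b (nat_lit 16801), Mv.f (nat_lit 16899), Mv.f (nat_lit 18876)]))))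
(Tr.nd (nat_lit 18883) (Tr.lf (Fc.ed (nat_lit 18882) (nat_lit 5580) Col.gi (nat_lit 6489) (Dv.wd (nat_lit 12) [Mv.f (nat_lit 18876), Mv.f (nat_lit 14242), Mv.f (nat_lit 14243)])))
(Tr.nd (nat_lit 18884) (Tr.lf (Fc.ed (nat_lit 18883) (nat_lit 5222) Col.gi (nat_lit 6156) (Dv.wd (nat_lit 157) [Mv.b (nat_lit 15441), Mv.f (nat_lit 16904), Mv.b (nat_lit 8071), Mv.b (nat_lit 7626), Mv.b (nat_lit 7606), Mv.b (nat_lit 18395), Mv.f (nat_lit 14018), Mv.f (nat_lit 16800), Mv.f (nat_lit 18876), Mv.f (nat_lit 13724)])))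
(Tr.lf (Fc.ed (nat_lit 18884) (nat_lit 6156) Col.gi (nat_lit 5786) (Dv.wd (nat_lit 24) [Mv.b (nat_lit 14696), Mv.f (nat_lit 13470), Mv.f (nat_lit 18883)]))))))
(Tr.nd (nat_lit 18888) (Tr.nd (nat_lit 18886) (Tr.lf (Fc.ed (nat_lit 18885) (nat_lit 5459) Col.gi (nat_lit 5222) (Dv.wd (nat_lit 12) [Mv.f (nat_lit 18883), Mv.f (nat_lit 15442), Mv.f (nat_lit 16898)])))
(Tr.nd (nat_lit 18887) (Tr.lf (Fc.ed (nat_lit 18886) (nat_lit 6554) Col.e (nat_lit 5742) (Dv.wd (nat_lit 146) [Mv.f (nat_lit 14592), Mv.f (nat_lit 8512), Mv.f (nat_lit 4866), Mv.f (nat_lit 4867), Mv.f (nat_lit 6195), Mv.f (nat_lit 13469), Mv.f (nat_lit 13472), Mv.f (nat_lit 18883), Mv.f (nat_lit 18429), Mv.f (nat_lit 18431)])))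
(Tr.lf (Fc.ed (nat_lit 18887) (nat_lit 6501) Col.d (nat_lit 6554) (Dv.wd (nat_lit 39) [Mv.f (nat_lit 18886), Mv.b (nat_lit 18742), Mv.f (nat_lit 15893), Mv.f (nat_lit 18728), Mv.f (nat_lit 15046), Mv.f (nat_lit 11132), Mv.b (nat_lit 14700), Mv.b (nat_lit 18884), Mv.f (nat_lit 18429), Mv.f (nat_lit 18432)])))))
(Tr.nd (nat_lit 18889) (Tr.lf (Fc.ed (nat_lit 18888) (nat_lit 3912) Col.e (nat_lit 6501) (Dv.wd (nat_lit 133) [Mv.f (nat_lit 18887), Mv.b (nat_lit 17090), Mv.b (nat_lit 15335), Mv.f (nat_lit 18885), Mv.b (nat_lit 13469), Mv.b (nat_lit 6190), Mv.f (nat_lit 4214), Mv.f (nat_lit 4127), Mv.b (nat_lit 4946), Mv.f (nat_lit 9617)])))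
(Tr.nd (nat_lit 18890) (Tr.lf (Fc.ed (nat_lit 18889) (nat_lit 3912) Col.d (nat_lit 3923) (Dv.wd (nat_lit 36) [Mv.b (nat_lit 9634), Mv.b (nat_lit 14592), Mv.b (nat_lit 18886), Mv.b (nat_lit 18887), Mv.b (nat_lit 18888)])))
(Tr.lf (Fc.ed (nat_lit 18890) (nat_lit 5911) Col.d (nat_lit 4287) (Dv.wd (nat_lit 28) [Mv.f (nat_lit 11037), Mv.f (nat_lit 18889), Mv.f (nat_lit 14963)])))))))))))
(Tr.nd (nat_lit 18973) (Tr.nd (nat_lit 18932) (Tr.nd (nat_lit 18911) (Tr.nd (nat_lit 18901) (Tr.nd (nat_lit 18896) (Tr.nd (nat_lit 18893) (Tr.nd (nat_lit 18892) (Tr.lf (Fc.ed (nat_lit 18891) (nat_lit 6118) Col.d (nat_lit 4890) (Dv.wd (nat_lit 90) [Mv.f (nat_lit 12736), Mv.f (nat_lit 18889), Mv.f (nat_lit 15376)])))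
(Tr.lf (Fc.ed (nat_lit 18892) (nat_lit 6164) Col.e (nat_lit 6390) (Dv.wd (nat_lit 146) [Mv.b (nat_lit 15966), Mv.b (nat_lit 11783), Mv.b (nat_lit 7954), Mv.b (nat_lit 7951), Mv.b (nat_lit 5335), Mv.f (nat_lit 5053), Mv.f (nat_lit 5055), Mv.f (nat_lit 9617), Mv.f (nat_lit 18889), Mv.f (nat_lit 15455)]))))
(Tr.nd (nat_lit 18894) (Tr.lf (Fc.ed (nat_lit 18893) (nat_lit 4621) Col.e (nat_lit 6344) (Dv.wd (nat_lit 40) [Mv.b (nat_lit 15865), Mv.f (nat_lit 18892), Mv.b (nat_lit 15966), Mv.f (nat_lit 11850), Mv.b (nat_lit 18692)])))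
(Tr.nd (nat_lit 18895) (Tr.lf (Fc.ed (nat_lit 18894) (nat_lit 6344) Col.b (nat_lit 5138) (Dv.wd (nat_lit 49) [Mv.b (nat_lit 18389), Mv.f (nat_lit 18388), Mv.f (nat_lit 18893)])))
(Tr.lf (Fc.ed (nat_lit 18895) (nat_lit 5459) Col.g (nat_lit 5786) (Dv.wd (nat_lit 55) [Mv.f (nat_lit 14699), Mv.f (nat_lit 14700), Mv.b (nat_lit 18690), Mv.f (nat_lit 18893), Mv.b (nat_lit 15865), Mv.b (nat_lit 15455), Mv.b (nat_lit 18889), Mv.f (nat_lit 18888), Mv.b (nat_lit 16825), Mv.b (nat_lit 15335)]))))))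
(Tr.nd (nat_lit 18898) (Tr.nd (nat_lit 18897) (Tr.lf (Fc.ed (nat_lit 18896) (nat_lit 5580) Col.g (nat_lit 6421) (Dv.wd (nat_lit 105) [Mv.b (nat_lit 16670), Mv.b (nat_lit 15441), Mv.f (nat_lit 7873), Mv.b (nat_lit 4873), Mv.f (nat_lit 4645), Mv.b (nat_lit 7945), Mv.f (nat_lit 18400), Mv.f (nat_lit 14018), Mv.f (nat_lit 18895), Mv.f (nat_lit 14698)])))
(Tr.lf (Fc.ed (nat_lit 18897) (nat_lit 3015) Col.b (nat_lit 5109) (Dv.wd (nat_lit 106) [Mv.b (nat_lit 14819), Mv.b (nat_lit 14697), Mv.f (nat_lit 14698), Mv.f (nat_lit 18896), Mv.b (nat_lit 16670), Mv.b (nat_lit 15441), Mv.f (nat_lit 7873), Mv.f (nat_lit 4909), Mv.b (nat_lit 8420), Mv.b (nat_lit 16874)]))))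
(Tr.nd (nat_lit 18899) (Tr.lf (Fc.ed (nat_lit 18898) (nat_lit 5457) Col.b (nat_lit 3044) (Dv.wd (nat_lit 127) [Mv.f (nat_lit 7916), Mv.f (nat_lit 18897), Mv.b (nat_lit 18869)])))
(Tr.nd (nat_lit 18900) (Tr.lf (Fc.ed (nat_lit 18899) (nat_lit 5109) Col.a (nat_lit 5701) (Dv.wd (nat_lit 98) [Mv.b (nat_lit 14464), Mv.b (nat_lit 16890), Mv.f (nat_lit 16891), Mv.f (nat_lit 10907), Mv.f (nat_lit 18897)])))
(Tr.lf (Fc.ed (nat_lit 18900) (nat_lit 5109) Col.c (nat_lit 3850) (Dv.wd (nat_lit 135) [Mv.b (nat_lit 9515), Mv.f (nat_lit 8140), Mv.f (nat_lit 7045), Mv.b (nat_lit 8439), Mv.f (nat_lit 16877), Mv.f (nat_lit 8145), Mv.b (nat_lit 4909), Mv.b (nat_lit 4873), Mv.b (nat_lit 7861), Mv.f (nat_lit 18897)])))))))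
(Tr.nd (nat_lit 18906) (Tr.nd (nat_lit 18903) (Tr.nd (nat_lit 18902) (Tr.lf (Fc.ed (nat_lit 18901) (nat_lit 4030) Col.c (nat_lit 5701) (Dv.wd (nat_lit 33) [Mv.b (nat_lit 18899), Mv.f (nat_lit 18900), Mv.f (nat_lit 9857)])))
(Tr.lf (Fc.ed (nat_lit 18902) (nat_lit 6405) Col.c (nat_lit 5457) (Dv.wd (nat_lit 109) [Mv.f (nat_lit 18869), Mv.f (nat_lit 18900), Mv.b (nat_lit 16631)]))))
(Tr.nd (nat_lit 18904) (Tr.lf (Fc.ed (nat_lit 18903) (nat_lit 5500) Col.c (nat_lit 6367) (Dv.wd (nat_lit 109) [Mv.b (nat_lit 15909), Mv.f (nat_lit 18901), Mv.f (nat_lit 14465)])))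
(Tr.nd (nat_lit 18905) (Tr.lf (Fc.ed (nat_lit 18904) (nat_lit 3186) Col.gi (nat_lit 4030) (Dv.wd (nat_lit 88) [Mv.f (nat_lit 18901), Mv.b (nat_lit 14464), Mv.f (nat_lit 9267), Mv.f (nat_lit 5672), Mv.f (nat_lit 5775), Mv.b (nat_lit 8072), Mv.b (nat_lit 16904), Mv.b (nat_lit 7872), Mv.f (nat_lit 7571), Mv.f (nat_lit 8232)])))
(Tr.lf (Fc.ed (nat_lit 18905) (nat_lit 5701) Col.gi (nat_lit 4440) (Dv.wd (nat_lit 157) [Mv.b (nat_lit 13471), Mv.b (nat_lit 13724), Mv.f (nat_lit 18881), Mv.b (nat_lit 16670), Mv.b (nat_lit 15441), Mv.b (nat_lit 7872), Mv.f (nat_lit 7571), Mv.f (nat_lit 8232), Mv.f (nat_lit 18904), Mv.f (nat_lit 18901)]))))))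
(Tr.nd (nat_lit 18908) (Tr.nd (nat_lit 18907) (Tr.lf (Fc.ed (nat_lit 18906) (nat_lit 4431) Col.d (nat_lit 5500) (Dv.wd (nat_lit 53) [Mv.b (nat_lit 14465), Mv.f (nat_lit 18905), Mv.b (nat_lit 11398), Mv.b (nat_lit 4961), Mv.f (nat_lit 3944), Mv.f (nat_lit 3960), Mv.b (nat_lit 5088), Mv.f (nat_lit 7597), Mv.b (nat_lit 7651), Mv.f (nat_lit 11383)])))
(Tr.lf (Fc.ed (nat_lit 18907) (nat_lit 2958) Col.b (nat_lit 4431) (Dv.wd (nat_lit 126) [Mv.f (nat_lit 18906), Mv.b (nat_lit 14092), Mv.f (nat_lit 10712)]))))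
(Tr.nd (nat_lit 18909) (Tr.lf (Fc.ed (nat_lit 18908) (nat_lit 5666) Col.d (nat_lit 5809) (Dv.wd (nat_lit 90) [Mv.b (nat_lit 14749), Mv.f (nat_lit 18906), Mv.f (nat_lit 18675)])))
(Tr.nd (nat_lit 18910) (Tr.lf (Fc.ed (nat_lit 18909) (nat_lit 6111) Col.a (nat_lit 5666) (Dv.wd (nat_lit 54) [Mv.f (nat_lit 18908), Mv.f (nat_lit 14750), Mv.f (nat_lit 15363)])))
(Tr.lf (Fc.ed (nat_lit 18910) (nat_lit 5457) Col.a (nat_lit 5500) (Dv.wd (nat_lit 76) [Mv.f (nat_lit 18903), Mv.f (nat_lit 16630), Mv.f (nat_lit 18902)]))))))))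
(Tr.nd (nat_lit 18921) (Tr.nd (nat_lit 18916) (Tr.nd (nat_lit 18913) (Tr.nd (nat_lit 18912) (Tr.lf (Fc.ed (nat_lit 18911) (nat_lit 7040) Col.b (nat_lit 6484) (Dv.wd (nat_lit 158) [Mv.b (nat_lit 16788), Mv.f (nat_lit 14092), Mv.f (nat_lit 18903), Mv.f (nat_lit 18126), Mv.f (nat_lit 18205)])))
(Tr.lf (Fc.ed (nat_lit 18912) (nat_lit 4431) Col.a (nat_lit 5379) (Dv.wd (nat_lit 54) [Mv.f (nat_lit 14015), Mv.f (nat_lit 18910), Mv.b (nat_lit 18906)]))))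
(Tr.nd (nat_lit 18914) (Tr.lf (Fc.ed (nat_lit 18913) (nat_lit 6111) Col.f (nat_lit 5457) (Dv.wd (nat_lit 73) [Mv.f (nat_lit 18910), Mv.f (nat_lit 18675), Mv.b (nat_lit 18909)])))
(Tr.nd (nat_lit 18915) (Tr.lf (Fc.ed (nat_lit 18914) (nat_lit 5500) Col.gi (nat_lit 6717) (Dv.wd (nat_lit 12) [Mv.b (nat_lit 17548), Mv.f (nat_lit 18913), Mv.f (nat_lit 18910)])))
(Tr.lf (Fc.ed (nat_lit 18915) (nat_lit 5379) Col.f (nat_lit 4803) (Dv.wd (nat_lit 11) [Mv.f (nat_lit 15363), Mv.f (nat_lit 18913), Mv.b (nat_lit 14015)]))))))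
(Tr.nd (nat_lit 18918) (Tr.nd (nat_lit 18917) (Tr.lf (Fc.ed (nat_lit 18916) (nat_lit 6158) Col.f (nat_lit 4417) (Dv.wd (nat_lit 26) [Mv.f (nat_lit 13818), Mv.f (nat_lit 18915), Mv.f (nat_lit 15445)])))
(Tr.lf (Fc.ed (nat_lit 18917) (nat_lit 5809) Col.gi (nat_lit 2689) (Dv.wd (nat_lit 12) [Mv.f (nat_lit 18868), Mv.f (nat_lit 18915), Mv.b (nat_lit 14750)]))))
(Tr.nd (nat_lit 18919) (Tr.lf (Fc.ed (nat_lit 18918) (nat_lit 6031) Col.e (nat_lit 5666) (Dv.wd (nat_lit 146) [Mv.f (nat_lit 18908), Mv.f (nat_lit 18917), Mv.b (nat_lit 7519), Mv.b (nat_lit 7518), Mv.b (nat_lit 4686), Mv.f (nat_lit 5133), Mv.f (nat_lit 5134), Mv.f (nat_lit 10720), Mv.b (nat_lit 11764), Mv.f (nat_lit 15216)])))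
(Tr.nd (nat_lit 18920) (Tr.lf (Fc.ed (nat_lit 18919) (nat_lit 5556) Col.b (nat_lit 6031) (Dv.wd (nat_lit 127) [Mv.f (nat_lit 18918), Mv.b (nat_lit 14411), Mv.f (nat_lit 14193)])))
(Tr.lf (Fc.ed (nat_lit 18920) (nat_lit 6031) Col.d (nat_lit 5722) (Dv.wd (nat_lit 58) [Mv.b (nat_lit 18818), Mv.f (nat_lit 18816), Mv.f (nat_lit 18919)])))))))
(Tr.nd (nat_lit 18926) (Tr.nd (nat_lit 18923) (Tr.nd (nat_lit 18922) (Tr.lf (Fc.ed (nat_lit 18921) (nat_lit 5287) Col.d (nat_lit 6374) (Dv.wd (nat_lit 68) [Mv.b (nat_lit 15922), Mv.f (nat_lit 18920), Mv.b (nat_lit 14555), Mv.f (nat_lit 18707), Mv.b (nat_lit 7355), Mv.b (nat_lit 4342), Mv.b (nat_lit 3659), Mv.f (nat_lit 3960), Mv.f (nat_lit 4783), Mv.b (nat_lit 18536)])))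
(Tr.lf (Fc.ed (nat_lit 18922) (nat_lit 6441) Col.g (nat_lit 5758) (Dv.wd (nat_lit 75) [Mv.f (nat_lit 16978), Mv.f (nat_lit 18704), Mv.f (nat_lit 13484), Mv.f (nat_lit 13483), Mv.f (nat_lit 5086), Mv.f (nat_lit 5133), Mv.f (nat_lit 5134), Mv.b (nat_lit 18536), Mv.f (nat_lit 18921), Mv.f (nat_lit 16710)]))))
(Tr.nd (nat_lit 18924) (Tr.lf (Fc.ed (nat_lit 18923) (nat_lit 6237) Col.g (nat_lit 6441) (Dv.wd (nat_lit 17) [Mv.f (nat_lit 18922), Mv.f (nat_lit 14622), Mv.b (nat_lit 15596)])))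
(Tr.nd (nat_lit 18925) (Tr.lf (Fc.ed (nat_lit 18924) (nat_lit 4643) Col.g (nat_lit 5686) (Dv.wd (nat_lit 55) [Mv.f (nat_lit 18879), Mv.f (nat_lit 18878), Mv.f (nat_lit 18923), Mv.b (nat_lit 16710), Mv.b (nat_lit 18921), Mv.b (nat_lit 13603), Mv.b (nat_lit 11356), Mv.f (nat_lit 11357), Mv.b (nat_lit 10721), Mv.b (nat_lit 11764)])))
(Tr.lf (Fc.ed (nat_lit 18925) (nat_lit 6786) Col.c (nat_lit 5824) (Dv.wd (nat_lit 83) [Mv.b (nat_lit 18510), Mv.f (nat_lit 18518), Mv.b (nat_lit 13285), Mv.b (nat_lit 7678), Mv.f (nat_lit 10720), Mv.b (nat_lit 11764), Mv.f (nat_lit 18924), Mv.f (nat_lit 17642), Mv.f (nat_lit 17697)]))))))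
(Tr.nd (nat_lit 18929) (Tr.nd (nat_lit 18927) (Tr.lf (Fc.ed (nat_lit 18926) (nat_lit 4585) Col.a (nat_lit 6158) (Dv.wd (nat_lit 114) [Mv.f (nat_lit 18916), Mv.b (nat_lit 11358), Mv.b (nat_lit 11659)])))
(Tr.nd (nat_lit 18928) (Tr.lf (Fc.ed (nat_lit 18927) (nat_lit 5809) Col.c (nat_lit 4585) (Dv.wd (nat_lit 134) [Mv.f (nat_lit 18926), Mv.b (nat_lit 15445), Mv.b (nat_lit 14750)])))
(Tr.lf (Fc.ed (nat_lit 18928) (nat_lit 6346) Col.c (nat_lit 5666) (Dv.wd (nat_lit 83) [Mv.f (nat_lit 18908), Mv.f (nat_lit 18927), Mv.f (nat_lit 11659), Mv.f (nat_lit 7242), Mv.b (nat_lit 16976), Mv.b (nat_lit 16974), Mv.b (nat_lit 18677), Mv.f (nat_lit 15866), Mv.f (nat_lit 15867)])))))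
(Tr.nd (nat_lit 18930) (Tr.lf (Fc.ed (nat_lit 18929) (nat_lit 6367) Col.f (nat_lit 6346) (Dv.wd (nat_lit 64) [Mv.f (nat_lit 18928), Mv.b (nat_lit 18675), Mv.f (nat_lit 18903)])))
(Tr.nd (nat_lit 18931) (Tr.lf (Fc.ed (nat_lit 18930) (nat_lit 7026) Col.d (nat_lit 6346) (Dv.wd (nat_lit 85) [Mv.f (nat_lit 18928), Mv.f (nat_lit 18908), Mv.f (nat_lit 18917), Mv.b (nat_lit 7519), Mv.b (nat_lit 13150), Mv.f (nat_lit 18839), Mv.f (nat_lit 11649), Mv.f (nat_lit 17743), Mv.f (nat_lit 18181)])))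
(Tr.lf (Fc.ed (nat_lit 18931) (nat_lit 5323) Col.c (nat_lit 6066) (Dv.wd (nat_lit 135) [Mv.f (nat_lit 15275), Mv.f (nat_lit 14877), Mv.f (nat_lit 16971), Mv.b (nat_lit 18677), Mv.f (nat_lit 15866), Mv.f (nat_lit 15867), Mv.f (nat_lit 18928), Mv.b (nat_lit 14411), Mv.f (nat_lit 18669), Mv.f (nat_lit 18327)])))))))))
(Tr.nd (nat_lit 18952) (Tr.nd (nat_lit 18942) (Tr.nd (nat_lit 18937) (Tr.nd (nat_lit 18934) (Tr.nd (nat_lit 18933) (Tr.lf (Fc.ed (nat_lit 18932) (nat_lit 6066) Col.a (nat_lit 5898) (Dv.wd (nat_lit 19) [Mv.b (nat_lit 14923), Mv.b (nat_lit 18328), Mv.f (nat_lit 18931)])))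
(Tr.lf (Fc.ed (nat_lit 18933) (nat_lit 6066) Col.f (nat_lit 5890) (Dv.wd (nat_lit 26) [Mv.b (nat_lit 14904), Mv.f (nat_lit 13887), Mv.f (nat_lit 18931)]))))
(Tr.nd (nat_lit 18935) (Tr.lf (Fc.ed (nat_lit 18934) (nat_lit 6078) Col.g (nat_lit 5898) (Dv.wd (nat_lit 9) [Mv.b (nat_lit 18932), Mv.f (nat_lit 18933), Mv.f (nat_lit 15299)])))
(Tr.nd (nat_lit 18936) (Tr.lf (Fc.ed (nat_lit 18935) (nat_lit 5379) Col.b (nat_lit 2616) (Dv.wd (nat_lit 65) [Mv.f (nat_lit 10797), Mv.b (nat_lit 16975), Mv.b (nat_lit 13376), Mv.f (nat_lit 18907), Mv.f (nat_lit 18912)])))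
(Tr.lf (Fc.ed (nat_lit 18936) (nat_lit 4696) Col.b (nat_lit 6053) (Dv.wd (nat_lit 127) [Mv.b (nat_lit 15253), Mv.f (nat_lit 18935), Mv.f (nat_lit 11865)]))))))
(Tr.nd (nat_lit 18939) (Tr.nd (nat_lit 18938) (Tr.lf (Fc.ed (nat_lit 18937) (nat_lit 6053) Col.d (nat_lit 6457) (Dv.wd (nat_lit 58) [Mv.f (nat_lit 16739), Mv.b (nat_lit 11883), Mv.f (nat_lit 18936)])))
(Tr.lf (Fc.ed (nat_lit 18938) (nat_lit 5198) Col.b (nat_lit 6164) (Dv.wd (nat_lit 126) [Mv.f (nat_lit 15865), Mv.f (nat_lit 18894), Mv.f (nat_lit 13424)]))))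
(Tr.nd (nat_lit 18940) (Tr.lf (Fc.ed (nat_lit 18939) (nat_lit 7034) Col.e (nat_lit 5903) (Dv.wd (nat_lit 25) [Mv.b (nat_lit 18466), Mv.f (nat_lit 18888), Mv.f (nat_lit 18196)])))
(Tr.nd (nat_lit 18941) (Tr.lf (Fc.ed (nat_lit 18940) (nat_lit 6501) Col.f (nat_lit 6554) (Dv.wd (nat_lit 96) [Mv.f (nat_lit 18886), Mv.b (nat_lit 14590), Mv.b (nat_lit 12791), Mv.f (nat_lit 12736), Mv.f (nat_lit 18888)])))
(Tr.lf (Fc.ed (nat_lit 18941) (nat_lit 6501) Col.a (nat_lit 6501) (Dv.wd (nat_lit 114) [Mv.f (nat_lit 18940), Mv.b (nat_lit 18431), Mv.f (nat_lit 18432)])))))))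
(Tr.nd (nat_lit 18947) (Tr.nd (nat_lit 18944) (Tr.nd (nat_lit 18943) (Tr.lf (Fc.al (nat_lit 18942) (nat_lit 4287) (nat_lit 3912) (Dv.wd (nat_lit 72) [Mv.f (nat_lit 18888), Mv.f (nat_lit 18941), Mv.b (nat_lit 18888), Mv.b (nat_lit 11037)])))
(Tr.lf (Fc.al (nat_lit 18943) (nat_lit 3923) (nat_lit 5911) (Dv.wd (nat_lit 120) [Mv.f (nat_lit 18890), Mv.f (nat_lit 18942), Mv.f (nat_lit 18889)]))))
(Tr.nd (nat_lit 18945) (Tr.lf (Fc.al (nat_lit 18944) (nat_lit 4890) (nat_lit 3028) (Dv.wd (nat_lit 30) [Mv.f (nat_lit 11036), Mv.f (nat_lit 18942), Mv.b (nat_lit 12736)])))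
(Tr.nd (nat_lit 18946) (Tr.lf (Fc.al (nat_lit 18945) (nat_lit 3328) (nat_lit 3420) (Dv.wd (nat_lit 117) [Mv.b (nat_lit 14964), Mv.b (nat_lit 18943), Mv.b (nat_lit 9634)])))
(Tr.lf (Fc.ed (nat_lit 18946) (nat_lit 3028) Col.d (nat_lit 6118) (Dv.wd (nat_lit 120) [Mv.f (nat_lit 18891), Mv.f (nat_lit 18944)]))))))
(Tr.nd (nat_lit 18949) (Tr.nd (nat_lit 18948) (Tr.lf (Fc.al (nat_lit 18947) (nat_lit 3125) (nat_lit 4918) (Dv.wd (nat_lit 117) [Mv.b (nat_lit 12791), Mv.f (nat_lit 18944), Mv.b (nat_lit 8105)])))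
(Tr.lf (Fc.al (nat_lit 18948) (nat_lit 5742) (nat_lit 5512) (Dv.wd (nat_lit 120) [Mv.f (nat_lit 14108), Mv.b (nat_lit 18945), Mv.b (nat_lit 14592)]))))
(Tr.nd (nat_lit 18950) (Tr.lf (Fc.al (nat_lit 18949) (nat_lit 5170) (nat_lit 3120) (Dv.wd (nat_lit 30) [Mv.f (nat_lit 8704), Mv.b (nat_lit 18945), Mv.b (nat_lit 13350)])))
(Tr.nd (nat_lit 18951) (Tr.lf (Fc.ed (nat_lit 18950) (nat_lit 3125) Col.g (nat_lit 5967) (Dv.wd (nat_lit 129) [Mv.f (nat_lit 15100), Mv.b (nat_lit 18947)])))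
(Tr.lf (Fc.ed (nat_lit 18951) (nat_lit 5512) Col.g (nat_lit 6359) (Dv.wd (nat_lit 129) [Mv.f (nat_lit 18742), Mv.f (nat_lit 18948)]))))))))
(Tr.nd (nat_lit 18962) (Tr.nd (nat_lit 18957) (Tr.nd (nat_lit 18954) (Tr.nd (nat_lit 18953) (Tr.lf (Fc.ed (nat_lit 18952) (nat_lit 5512) Col.a (nat_lit 5512) (Dv.wd (nat_lit 29) [Mv.b (nat_lit 14591), Mv.f (nat_lit 18948)])))
(Tr.lf (Fc.ed (nat_lit 18953) (nat_lit 5512) Col.d (nat_lit 3328) (Dv.wd (nat_lit 120) [Mv.b (nat_lit 14592), Mv.f (nat_lit 18948)]))))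
(Tr.nd (nat_lit 18955) (Tr.lf (Fc.ed (nat_lit 18954) (nat_lit 5512) Col.e (nat_lit 6554) (Dv.wd (nat_lit 117) [Mv.f (nat_lit 18886), Mv.f (nat_lit 18948)])))
(Tr.nd (nat_lit 18956) (Tr.lf (Fc.ed (nat_lit 18955) (nat_lit 3120) Col.a (nat_lit 3120) (Dv.wd (nat_lit 29) [Mv.f (nat_lit 13348), Mv.f (nat_lit 18949)])))
(Tr.lf (Fc.ed (nat_lit 18956) (nat_lit 3120) Col.f (nat_lit 3328) (Dv.wd (nat_lit 30) [Mv.b (nat_lit 13350), Mv.f (nat_lit 18949)]))))))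
(Tr.nd (nat_lit 18959) (Tr.nd (nat_lit 18958) (Tr.lf (Fc.ed (nat_lit 18957) (nat_lit 6141) Col.f (nat_lit 6533) (Dv.wd (nat_lit 41) [Mv.b (nat_lit 17056), Mv.f (nat_lit 18956), Mv.f (nat_lit 9634), Mv.f (nat_lit 15376), Mv.f (nat_lit 15415)])))
(Tr.lf (Fc.ed (nat_lit 18958) (nat_lit 6533) Col.a (nat_lit 6533) (Dv.wd (nat_lit 31) [Mv.b (nat_lit 17056), Mv.f (nat_lit 18955), Mv.f (nat_lit 17056)]))))
(Tr.nd (nat_lit 18960) (Tr.lf (Fc.ed (nat_lit 18959) (nat_lit 6141) Col.a (nat_lit 6141) (Dv.wd (nat_lit 79) [Mv.f (nat_lit 18957), Mv.f (nat_lit 18958), Mv.b (nat_lit 18957)])))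
(Tr.nd (nat_lit 18961) (Tr.lf (Fc.ed (nat_lit 18960) (nat_lit 6118) Col.a (nat_lit 6118) (Dv.wd (nat_lit 31) [Mv.f (nat_lit 15415), Mv.f (nat_lit 18959), Mv.b (nat_lit 15415)])))
(Tr.lf (Fc.ed (nat_lit 18961) (nat_lit 6356) Col.gi (nat_lit 3923) (Dv.wd (nat_lit 24) [Mv.f (nat_lit 15376), Mv.f (nat_lit 18960), Mv.f (nat_lit 15887)])))))))
(Tr.nd (nat_lit 18967) (Tr.nd (nat_lit 18964) (Tr.nd (nat_lit 18963) (Tr.lf (Fc.ed (nat_lit 18962) (nat_lit 6375) Col.a (nat_lit 6375) (Dv.wd (nat_lit 76) [Mv.f (nat_lit 15924), Mv.f (nat_lit 18952), Mv.b (nat_lit 15924)])))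
(Tr.lf (Fc.ed (nat_lit 18963) (nat_lit 6308) Col.a (nat_lit 6308) (Dv.wd (nat_lit 79) [Mv.f (nat_lit 15923), Mv.f (nat_lit 18962), Mv.b (nat_lit 15923)]))))
(Tr.nd (nat_lit 18965) (Tr.lf (Fc.ed (nat_lit 18964) (nat_lit 5944) Col.a (nat_lit 5944) (Dv.wd (nat_lit 31) [Mv.b (nat_lit 15792), Mv.f (nat_lit 18963), Mv.f (nat_lit 15792)])))
(Tr.nd (nat_lit 18966) (Tr.lf (Fc.ed (nat_lit 18965) (nat_lit 5903) Col.f (nat_lit 5944) (Dv.wd (nat_lit 13) [Mv.f (nat_lit 18964), Mv.b (nat_lit 18534), Mv.b (nat_lit 14931)])))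
(Tr.lf (Fc.ed (nat_lit 18966) (nat_lit 6359) Col.f (nat_lit 5967) (Dv.wd (nat_lit 10) [Mv.b (nat_lit 15099), Mv.f (nat_lit 18951), Mv.f (nat_lit 18739)]))))))
(Tr.nd (nat_lit 18970) (Tr.nd (nat_lit 18968) (Tr.lf (Fc.ed (nat_lit 18967) (nat_lit 5967) Col.d (nat_lit 6359) (Dv.wd (nat_lit 39) [Mv.f (nat_lit 15893), Mv.b (nat_lit 18735), Mv.f (nat_lit 14479), Mv.b (nat_lit 14124), Mv.b (nat_lit 8481), Mv.f (nat_lit 7796), Mv.b (nat_lit 7365), Mv.b (nat_lit 8096), Mv.f (nat_lit 8104), Mv.f (nat_lit 18950)])))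
(Tr.nd (nat_lit 18969) (Tr.lf (Fc.ed (nat_lit 18968) (nat_lit 4724) Col.b (nat_lit 5967) (Dv.wd (nat_lit 126) [Mv.f (nat_lit 18967), Mv.b (nat_lit 15892), Mv.f (nat_lit 11917)])))
(Tr.lf (Fc.ed (nat_lit 18969) (nat_lit 6156) Col.e (nat_lit 6356) (Dv.wd (nat_lit 74) [Mv.f (nat_lit 18961), Mv.b (nat_lit 9634), Mv.b (nat_lit 18953), Mv.f (nat_lit 15099), Mv.f (nat_lit 18967), Mv.b (nat_lit 18951), Mv.f (nat_lit 18954), Mv.b (nat_lit 18887), Mv.b (nat_lit 18432), Mv.b (nat_lit 18429)])))))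
(Tr.nd (nat_lit 18971) (Tr.lf (Fc.ed (nat_lit 18970) (nat_lit 4264) Col.f (nat_lit 4724) (Dv.wd (nat_lit 125) [Mv.f (nat_lit 18968), Mv.b (nat_lit 18966), Mv.b (nat_lit 15892)])))
(Tr.nd (nat_lit 18972) (Tr.lf (Fc.ed (nat_lit 18971) (nat_lit 3191) Col.f (nat_lit 2980) (Dv.wd (nat_lit 96) [Mv.f (nat_lit 8545), Mv.f (nat_lit 18731), Mv.f (nat_lit 10973), Mv.f (nat_lit 18970), Mv.f (nat_lit 11918)])))
(Tr.lf (Fc.al (nat_lit 18972) (nat_lit 5319) (nat_lit 3353) (Dv.wd (nat_lit 67) [Mv.b (nat_lit 18838), Mv.f (nat_lit 18971), Mv.f (nat_lit 18860), Mv.f (nat_lit 13707)]))))))))))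
(Tr.nd (nat_lit 19014) (Tr.nd (nat_lit 18993) (Tr.nd (nat_lit 18983) (Tr.nd (nat_lit 18978) (Tr.nd (nat_lit 18975) (Tr.nd (nat_lit 18974) (Tr.lf (Fc.al (nat_lit 18973) (nat_lit 5214) (nat_lit 4091) (Dv.wd (nat_lit 30) [Mv.f (nat_lit 13707), Mv.f (nat_lit 18972), Mv.f (nat_lit 13455)])))
(Tr.lf (Fc.ed (nat_lit 18974) (nat_lit 4091) Col.f (nat_lit 3353) (Dv.wd (nat_lit 30) [Mv.f (nat_lit 13455), Mv.f (nat_lit 18973)]))))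
(Tr.nd (nat_lit 18976) (Tr.lf (Fc.ed (nat_lit 18975) (nat_lit 6118) Col.b (nat_lit 6374) (Dv.wd (nat_lit 37) [Mv.b (nat_lit 18921), Mv.b (nat_lit 18535), Mv.f (nat_lit 18946)])))
(Tr.nd (nat_lit 18977) (Tr.lf (Fc.ed (nat_lit 18976) (nat_lit 6141) Col.d (nat_lit 6533) (Dv.wd (nat_lit 36) [Mv.b (nat_lit 17056), Mv.f (nat_lit 8104), Mv.f (nat_lit 8105), Mv.f (nat_lit 18946), Mv.f (nat_lit 15415)])))
(Tr.lf (Fc.ed (nat_lit 18977) (nat_lit 5513) Col.g (nat_lit 6141) (Dv.wd (nat_lit 63) [Mv.f (nat_lit 18976), Mv.b (nat_lit 17056), Mv.b (nat_lit 8095), Mv.f (nat_lit 4866), Mv.b (nat_lit 8512), Mv.b (nat_lit 18953), Mv.f (nat_lit 18954), Mv.b (nat_lit 18431), Mv.b (nat_lit 17099), Mv.f (nat_lit 15018)]))))))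
(Tr.nd (nat_lit 18980) (Tr.nd (nat_lit 18979) (Tr.lf (Fc.ed (nat_lit 18978) (nat_lit 6141) Col.g (nat_lit 4779) (Dv.wd (nat_lit 9) [Mv.f (nat_lit 16840), Mv.b (nat_lit 14110), Mv.f (nat_lit 18977)])))
(Tr.lf (Fc.ed (nat_lit 18979) (nat_lit 6441) Col.b (nat_lit 6141) (Dv.wd (nat_lit 127) [Mv.b (nat_lit 15415), Mv.f (nat_lit 18975), Mv.f (nat_lit 16710)]))))
(Tr.nd (nat_lit 18981) (Tr.lf (Fc.ed (nat_lit 18980) (nat_lit 6533) Col.b (nat_lit 6602) (Dv.wd (nat_lit 126) [Mv.b (nat_lit 17203), Mv.f (nat_lit 18979), Mv.f (nat_lit 18976)])))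
(Tr.nd (nat_lit 18982) (Tr.lf (Fc.ed (nat_lit 18981) (nat_lit 6602) Col.f (nat_lit 6441) (Dv.wd (nat_lit 125) [Mv.f (nat_lit 18979), Mv.f (nat_lit 18957), Mv.f (nat_lit 18980)])))
(Tr.lf (Fc.ed (nat_lit 18982) (nat_lit 6711) Col.f (nat_lit 6722) (Dv.wd (nat_lit 26) [Mv.b (nat_lit 17560), Mv.f (nat_lit 18981), Mv.f (nat_lit 17537)])))))))
(Tr.nd (nat_lit 18988) (Tr.nd (nat_lit 18985) (Tr.nd (nat_lit 18984) (Tr.lf (Fc.ed (nat_lit 18983) (nat_lit 6398) Col.gi (nat_lit 5958) (Dv.wd (nat_lit 102) [Mv.f (nat_lit 15055), Mv.f (nat_lit 18873), Mv.b (nat_lit 13982), Mv.b (nat_lit 16854), Mv.f (nat_lit 9003), Mv.f (nat_lit 5902), Mv.b (nat_lit 3815), Mv.f (nat_lit 8175), Mv.f (nat_lit 14527), Mv.f (nat_lit 15979)])))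
(Tr.lf (Fc.ed (nat_lit 18984) (nat_lit 6457) Col.a (nat_lit 6620) (Dv.wd (nat_lit 79) [Mv.f (nat_lit 18631), Mv.f (nat_lit 17361), Mv.f (nat_lit 17360)]))))
(Tr.nd (nat_lit 18986) (Tr.lf (Fc.ed (nat_lit 18985) (nat_lit 5963) Col.gi (nat_lit 6651) (Dv.wd (nat_lit 24) [Mv.f (nat_lit 17360), Mv.f (nat_lit 18984), Mv.b (nat_lit 17237)])))
(Tr.nd (nat_lit 18987) (Tr.lf (Fc.ed (nat_lit 18986) (nat_lit 6935) Col.gi (nat_lit 6188) (Dv.wd (nat_lit 111) [Mv.b (nat_lit 15498), Mv.b (nat_lit 11773), Mv.b (nat_lit 16959), Mv.f (nat_lit 18609), Mv.b (nat_lit 8057), Mv.b (nat_lit 9740), Mv.f (nat_lit 9866), Mv.f (nat_lit 15036), Mv.f (nat_lit 18015)])))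
(Tr.lf (Fc.ed (nat_lit 18987) (nat_lit 6689) Col.a (nat_lit 6962) (Dv.wd (nat_lit 23) [Mv.b (nat_lit 18068), Mv.f (nat_lit 18986), Mv.b (nat_lit 17433)]))))))
(Tr.nd (nat_lit 18990) (Tr.nd (nat_lit 18989) (Tr.lf (Fc.ed (nat_lit 18988) (nat_lit 6962) Col.d (nat_lit 2846) (Dv.wd (nat_lit 28) [Mv.b (nat_lit 7960), Mv.f (nat_lit 17431), Mv.f (nat_lit 18987)])))
(Tr.lf (Fc.ed (nat_lit 18989) (nat_lit 5639) Col.b (nat_lit 6847) (Dv.wd (nat_lit 104) [Mv.b (nat_lit 17843), Mv.b (nat_lit 15509), Mv.f (nat_lit 8186), Mv.f (nat_lit 8187), Mv.f (nat_lit 12821), Mv.f (nat_lit 18607), Mv.b (nat_lit 13499), Mv.b (nat_lit 10889), Mv.f (nat_lit 12638), Mv.f (nat_lit 14356)]))))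
(Tr.nd (nat_lit 18991) (Tr.lf (Fc.ed (nat_lit 18990) (nat_lit 5995) Col.f (nat_lit 6104) (Dv.wd (nat_lit 26) [Mv.b (nat_lit 15348), Mv.f (nat_lit 18591), Mv.b (nat_lit 16644)])))
(Tr.nd (nat_lit 18992) (Tr.lf (Fc.ed (nat_lit 18991) (nat_lit 5952) Col.f (nat_lit 6293) (Dv.wd (nat_lit 11) [Mv.b (nat_lit 15763), Mv.f (nat_lit 18591), Mv.b (nat_lit 18586)])))
(Tr.lf (Fc.ed (nat_lit 18992) (nat_lit 6293) Col.a (nat_lit 6293) (Dv.wd (nat_lit 16) [Mv.b (nat_lit 18991), Mv.f (nat_lit 18587), Mv.f (nat_lit 18991)]))))))))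
(Tr.nd (nat_lit 19003) (Tr.nd (nat_lit 18998) (Tr.nd (nat_lit 18995) (Tr.nd (nat_lit 18994) (Tr.lf (Fc.ed (nat_lit 18993) (nat_lit 3455) Col.f (nat_lit 5520) (Dv.wd (nat_lit 11) [Mv.b (nat_lit 14124), Mv.f (nat_lit 18552), Mv.f (nat_lit 8772)])))
(Tr.lf (Fc.ed (nat_lit 18994) (nat_lit 5963) Col.f (nat_lit 5918) (Dv.wd (nat_lit 20) [Mv.f (nat_lit 16931), Mv.f (nat_lit 18993), Mv.b (nat_lit 16961)]))))
(Tr.nd (nat_lit 18996) (Tr.lf (Fc.ed (nat_lit 18995) (nat_lit 6161) Col.g (nat_lit 3455) (Dv.wd (nat_lit 9) [Mv.f (nat_lit 18557), Mv.f (nat_lit 18993), Mv.f (nat_lit 15449)])))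
(Tr.nd (nat_lit 18997) (Tr.lf (Fc.ed (nat_lit 18996) (nat_lit 6096) Col.e (nat_lit 6161) (Dv.wd (nat_lit 131) [Mv.f (nat_lit 18995), Mv.b (nat_lit 8772), Mv.b (nat_lit 8622), Mv.b (nat_lit 6069), Mv.b (nat_lit 6066), Mv.b (nat_lit 6194), Mv.f (nat_lit 13469), Mv.f (nat_lit 13472), Mv.b (nat_lit 18885), Mv.f (nat_lit 15335)])))
(Tr.lf (Fc.ed (nat_lit 18997) (nat_lit 6161) Col.b (nat_lit 5241) (Dv.wd (nat_lit 49) [Mv.f (nat_lit 18401), Mv.b (nat_lit 15336), Mv.f (nat_lit 18996)]))))))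
(Tr.nd (nat_lit 19000) (Tr.nd (nat_lit 18999) (Tr.lf (Fc.ed (nat_lit 18998) (nat_lit 6283) Col.gi (nat_lit 5952) (Dv.wd (nat_lit 151) [Mv.f (nat_lit 18586), Mv.f (nat_lit 10619), Mv.b (nat_lit 7365), Mv.f (nat_lit 7364), Mv.f (nat_lit 8511), Mv.b (nat_lit 18953), Mv.f (nat_lit 18954), Mv.b (nat_lit 17090), Mv.f (nat_lit 18996), Mv.b (nat_lit 15747)])))
(Tr.lf (Fc.ed (nat_lit 18999) (nat_lit 6293) Col.gi (nat_lit 6283) (Dv.wd (nat_lit 12) [Mv.f (nat_lit 18998), Mv.f (nat_lit 18991), Mv.f (nat_lit 18992)]))))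
(Tr.nd (nat_lit 19001) (Tr.lf (Fc.ed (nat_lit 19000) (nat_lit 4622) Col.d (nat_lit 6445) (Dv.wd (nat_lit 27) [Mv.b (nat_lit 16717), Mv.f (nat_lit 16640), Mv.b (nat_lit 15826), Mv.f (nat_lit 8623), Mv.f (nat_lit 7797), Mv.f (nat_lit 7796), Mv.b (nat_lit 11506), Mv.f (nat_lit 15763), Mv.f (nat_lit 18999), Mv.b (nat_lit 15746)])))
(Tr.nd (nat_lit 19002) (Tr.lf (Fc.ed (nat_lit 19001) (nat_lit 6445) Col.e (nat_lit 5459) (Dv.wd (nat_lit 42) [Mv.f (nat_lit 15335), Mv.f (nat_lit 18996), Mv.b (nat_lit 15747), Mv.b (nat_lit 15746), Mv.f (nat_lit 19000)])))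
(Tr.lf (Fc.ed (nat_lit 19002) (nat_lit 6899) Col.d (nat_lit 6894) (Dv.wd (nat_lit 44) [Mv.f (nat_lit 17931), Mv.b (nat_lit 17615), Mv.b (nat_lit 17542), Mv.b (nat_lit 14124), Mv.f (nat_lit 18552), Mv.f (nat_lit 18556), Mv.f (nat_lit 16642), Mv.f (nat_lit 19000), Mv.f (nat_lit 17940)])))))))
(Tr.nd (nat_lit 19008) (Tr.nd (nat_lit 19005) (Tr.nd (nat_lit 19004) (Tr.lf (Fc.ed (nat_lit 19003) (nat_lit 6324) Col.gi (nat_lit 5815) (Dv.wd (nat_lit 50) [Mv.f (nat_lit 18584), Mv.b (nat_lit 18998), Mv.f (nat_lit 15747), Mv.f (nat_lit 18995), Mv.b (nat_lit 8772), Mv.f (nat_lit 16642), Mv.f (nat_lit 19000), Mv.b (nat_lit 16717), Mv.f (nat_lit 16640)])))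
(Tr.lf (Fc.ed (nat_lit 19004) (nat_lit 6489) Col.e (nat_lit 6899) (Dv.wd (nat_lit 25) [Mv.b (nat_lit 17940), Mv.f (nat_lit 19001), Mv.f (nat_lit 16800)]))))
(Tr.nd (nat_lit 19006) (Tr.lf (Fc.ed (nat_lit 19005) (nat_lit 6899) Col.a (nat_lit 6899) (Dv.wd (nat_lit 15) [Mv.b (nat_lit 19004), Mv.f (nat_lit 16899), Mv.f (nat_lit 19004)])))
(Tr.nd (nat_lit 19007) (Tr.lf (Fc.ed (nat_lit 19006) (nat_lit 6894) Col.a (nat_lit 6894) (Dv.wd (nat_lit 54) [Mv.b (nat_lit 19002), Mv.f (nat_lit 19005), Mv.f (nat_lit 19002)])))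
(Tr.lf (Fc.ed (nat_lit 19007) (nat_lit 6748) Col.a (nat_lit 6748) (Dv.wd (nat_lit 76) [Mv.b (nat_lit 17931), Mv.f (nat_lit 19006), Mv.f (nat_lit 17931)]))))))
(Tr.nd (nat_lit 19011) (Tr.nd (nat_lit 19009) (Tr.lf (Fc.ed (nat_lit 19008) (nat_lit 6714) Col.a (nat_lit 6714) (Dv.wd (nat_lit 54) [Mv.f (nat_lit 17615), Mv.f (nat_lit 19007), Mv.b (nat_lit 17615)])))
(Tr.nd (nat_lit 19010) (Tr.lf (Fc.ed (nat_lit 19009) (nat_lit 6492) Col.a (nat_lit 6492) (Dv.wd (nat_lit 31) [Mv.b (nat_lit 17543), Mv.f (nat_lit 19008), Mv.f (nat_lit 17543)])))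
(Tr.lf (Fc.ed (nat_lit 19010) (nat_lit 6435) Col.gi (nat_lit 6334) (Dv.wd (nat_lit 24) [Mv.b (nat_lit 16806), Mv.f (nat_lit 19009), Mv.b (nat_lit 18738)])))))
(Tr.nd (nat_lit 19012) (Tr.lf (Fc.ed (nat_lit 19011) (nat_lit 6334) Col.gi (nat_lit 6483) (Dv.wd (nat_lit 24) [Mv.f (nat_lit 18734), Mv.f (nat_lit 18737), Mv.f (nat_lit 19010)])))
(Tr.nd (nat_lit 19013) (Tr.lf (Fc.ed (nat_lit 19012) (nat_lit 6296) Col.g (nat_lit 5685) (Dv.wd (nat_lit 145) [Mv.f (nat_lit 18728), Mv.f (nat_lit 15046), Mv.f (nat_lit 11132), Mv.f (nat_lit 11107), Mv.f (nat_lit 10838), Mv.b (nat_lit 18573), Mv.f (nat_lit 18736), Mv.f (nat_lit 19010), Mv.b (nat_lit 15844)])))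
(Tr.lf (Fc.ed (nat_lit 19013) (nat_lit 6300) Col.d (nat_lit 6296) (Dv.wd (nat_lit 91) [Mv.f (nat_lit 19012), Mv.f (nat_lit 18728), Mv.f (nat_lit 15047), Mv.b (nat_lit 19003), Mv.b (nat_lit 16640), Mv.f (nat_lit 16717), Mv.b (nat_lit 19000), Mv.f (nat_lit 15746), Mv.b (nat_lit 18999), Mv.b (nat_lit 18562)])))))))))
(Tr.nd (nat_lit 19035) (Tr.nd (nat_lit 19024) (Tr.nd (nat_lit 19019) (Tr.nd (nat_lit 19016) (Tr.nd (nat_lit 19015) (Tr.lf (Fc.ed (nat_lit 19014) (nat_lit 6334) Col.d (nat_lit 6334) (Dv.wd (nat_lit 113) [Mv.f (nat_lit 19011), Mv.b (nat_lit 16787), Mv.b (nat_lit 18571), Mv.b (nat_lit 10810), Mv.b (nat_lit 18694), Mv.f (nat_lit 18696), Mv.f (nat_lit 15778), Mv.f (nat_lit 19013), Mv.f (nat_lit 15844)])))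
(Tr.lf (Fc.ed (nat_lit 19015) (nat_lit 6492) Col.d (nat_lit 6492) (Dv.wd (nat_lit 90) [Mv.f (nat_lit 16806), Mv.f (nat_lit 19014), Mv.b (nat_lit 16806)]))))
(Tr.nd (nat_lit 19017) (Tr.lf (Fc.ed (nat_lit 19016) (nat_lit 6748) Col.e (nat_lit 6748) (Dv.wd (nat_lit 40) [Mv.b (nat_lit 17615), Mv.f (nat_lit 17543), Mv.f (nat_lit 19015), Mv.b (nat_lit 17543), Mv.f (nat_lit 17615)])))
(Tr.nd (nat_lit 19018) (Tr.lf (Fc.ed (nat_lit 19017) (nat_lit 6894) Col.e (nat_lit 6894) (Dv.wd (nat_lit 25) [Mv.f (nat_lit 17931), Mv.f (nat_lit 19016), Mv.b (nat_lit 17931)])))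
(Tr.lf (Fc.ed (nat_lit 19018) (nat_lit 6489) Col.d (nat_lit 6489) (Dv.wd (nat_lit 36) [Mv.f (nat_lit 19004), Mv.f (nat_lit 19002), Mv.f (nat_lit 19017), Mv.b (nat_lit 19002), Mv.b (nat_lit 19004)]))))))
(Tr.nd (nat_lit 19021) (Tr.nd (nat_lit 19020) (Tr.lf (Fc.ed (nat_lit 19019) (nat_lit 5580) Col.d (nat_lit 7034) (Dv.wd (nat_lit 85) [Mv.b (nat_lit 18196), Mv.f (nat_lit 18887), Mv.b (nat_lit 17090), Mv.b (nat_lit 15335), Mv.f (nat_lit 18885), Mv.b (nat_lit 13724), Mv.b (nat_lit 18876), Mv.f (nat_lit 19018), Mv.b (nat_lit 18882)])))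
(Tr.lf (Fc.al (nat_lit 19020) (nat_lit 5903) (nat_lit 4279) (Dv.wd (nat_lit 36) [Mv.b (nat_lit 11008), Mv.b (nat_lit 10812), Mv.b (nat_lit 10838), Mv.b (nat_lit 14244), Mv.f (nat_lit 19019), Mv.f (nat_lit 18939)]))))
(Tr.nd (nat_lit 19022) (Tr.lf (Fc.al (nat_lit 19021) (nat_lit 4330) (nat_lit 3749) (Dv.wd (nat_lit 128) [Mv.b (nat_lit 14931), Mv.f (nat_lit 19020), Mv.b (nat_lit 11119)])))
(Tr.nd (nat_lit 19023) (Tr.lf (Fc.al (nat_lit 19022) (nat_lit 4365) (nat_lit 4791) (Dv.wd (nat_lit 129) [Mv.f (nat_lit 14930), Mv.f (nat_lit 19020), Mv.f (nat_lit 11256)])))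
(Tr.lf (Fc.al (nat_lit 19023) (nat_lit 4299) (nat_lit 3912) (Dv.wd (nat_lit 103) [Mv.f (nat_lit 18466), Mv.f (nat_lit 19020), Mv.b (nat_lit 11062)])))))))
(Tr.nd (nat_lit 19029) (Tr.nd (nat_lit 19026) (Tr.nd (nat_lit 19025) (Tr.lf (Fc.al (nat_lit 19024) (nat_lit 3912) (nat_lit 5944) (Dv.wd (nat_lit 30) [Mv.b (nat_lit 18965), Mv.f (nat_lit 19020), Mv.b (nat_lit 11061), Mv.f (nat_lit 19023)])))
(Tr.lf (Fc.al (nat_lit 19025) (nat_lit 1702) (nat_lit 4365) (Dv.wd (nat_lit 103) [Mv.f (nat_lit 11254), Mv.f (nat_lit 19021), Mv.b (nat_lit 9337)]))))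
(Tr.nd (nat_lit 19027) (Tr.lf (Fc.al (nat_lit 19026) (nat_lit 1040) (nat_lit 6455) (Dv.wd (nat_lit 119) [Mv.b (nat_lit 16734), Mv.b (nat_lit 19022), Mv.b (nat_lit 19025), Mv.b (nat_lit 4945)])))
(Tr.nd (nat_lit 19028) (Tr.lf (Fc.al (nat_lit 19027) (nat_lit 3923) (nat_lit 2415) (Dv.wd (nat_lit 120) [Mv.f (nat_lit 11060), Mv.f (nat_lit 19023), Mv.f (nat_lit 18889)])))
(Tr.lf (Fc.al (nat_lit 19028) (nat_lit 6501) (nat_lit 6308) (Dv.wd (nat_lit 117) [Mv.f (nat_lit 15792), Mv.b (nat_lit 19024), Mv.f (nat_lit 18888)]))))))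
(Tr.nd (nat_lit 19032) (Tr.nd (nat_lit 19030) (Tr.lf (Fc.al (nat_lit 19029) (nat_lit 1745) (nat_lit 3308) (Dv.wd (nat_lit 120) [Mv.f (nat_lit 11253), Mv.b (nat_lit 19025), Mv.b (nat_lit 5055)])))
(Tr.nd (nat_lit 19031) (Tr.lf (Fc.al (nat_lit 19030) (nat_lit 2058) (nat_lit 5423) (Dv.wd (nat_lit 103) [Mv.b (nat_lit 16735), Mv.b (nat_lit 19026), Mv.f (nat_lit 5698)])))
(Tr.lf (Fc.al (nat_lit 19031) (nat_lit 2353) (nat_lit 6356) (Dv.wd (nat_lit 128) [Mv.f (nat_lit 18961), Mv.f (nat_lit 19027), Mv.f (nat_lit 6538)])))))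
(Tr.nd (nat_lit 19033) (Tr.lf (Fc.al (nat_lit 19032) (nat_lit 2307) (nat_lit 6164) (Dv.wd (nat_lit 129) [Mv.b (nat_lit 15455), Mv.f (nat_lit 19027), Mv.f (nat_lit 6537)])))
(Tr.nd (nat_lit 19034) (Tr.lf (Fc.al (nat_lit 19033) (nat_lit 5328) (nat_lit 3328) (Dv.wd (nat_lit 117) [Mv.f (nat_lit 9634), Mv.f (nat_lit 19027), Mv.f (nat_lit 13722)])))
(Tr.lf (Fc.al (nat_lit 19034) (nat_lit 2331) (nat_lit 6118) (Dv.wd (nat_lit 30) [Mv.b (nat_lit 15376), Mv.f (nat_lit 19027), Mv.f (nat_lit 6536)]))))))))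
(Tr.nd (nat_lit 19045) (Tr.nd (nat_lit 19040) (Tr.nd (nat_lit 19037) (Tr.nd (nat_lit 19036) (Tr.lf (Fc.ed (nat_lit 19035) (nat_lit 6308) Col.g (nat_lit 6096) (Dv.wd (nat_lit 129) [Mv.f (nat_lit 16825), Mv.f (nat_lit 19028)])))
(Tr.lf (Fc.ed (nat_lit 19036) (nat_lit 6308) Col.d (nat_lit 6554) (Dv.wd (nat_lit 120) [Mv.b (nat_lit 18887), Mv.f (nat_lit 19028)]))))
(Tr.nd (nat_lit 19038) (Tr.lf (Fc.al (nat_lit 19037) (nat_lit 6375) (nat_lit 6554) (Dv.wd (nat_lit 30) [Mv.b (nat_lit 18940), Mv.f (nat_lit 19028), Mv.f (nat_lit 15923)])))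
(Tr.nd (nat_lit 19039) (Tr.lf (Fc.al (nat_lit 19038) (nat_lit 947) (nat_lit 5618) (Dv.wd (nat_lit 119) [Mv.b (nat_lit 14315), Mv.b (nat_lit 19029), Mv.f (nat_lit 5054)])))
(Tr.lf (Fc.al (nat_lit 19039) (nat_lit 5832) (nat_lit 2527) (Dv.wd (nat_lit 119) [Mv.f (nat_lit 13905), Mv.b (nat_lit 19030), Mv.b (nat_lit 14784)]))))))
(Tr.nd (nat_lit 19042) (Tr.nd (nat_lit 19041) (Tr.lf (Fc.al (nat_lit 19040) (nat_lit 3556) (nat_lit 6156) (Dv.wd (nat_lit 117) [Mv.f (nat_lit 18969), Mv.b (nat_lit 19031), Mv.f (nat_lit 8974)])))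
(Tr.lf (Fc.al (nat_lit 19041) (nat_lit 2385) (nat_lit 5198) (Dv.wd (nat_lit 119) [Mv.f (nat_lit 18938), Mv.b (nat_lit 19032), Mv.f (nat_lit 6477)]))))
(Tr.nd (nat_lit 19043) (Tr.lf (Fc.al (nat_lit 19042) (nat_lit 4315) (nat_lit 6390) (Dv.wd (nat_lit 117) [Mv.b (nat_lit 18892), Mv.b (nat_lit 19032), Mv.f (nat_lit 11091)])))
(Tr.nd (nat_lit 19044) (Tr.lf (Fc.al (nat_lit 19043) (nat_lit 3120) (nat_lit 5580) (Dv.wd (nat_lit 30) [Mv.b (nat_lit 14242), Mv.f (nat_lit 19033), Mv.b (nat_lit 18956)])))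
(Tr.lf (Fc.ed (nat_lit 19044) (nat_lit 2331) Col.b (nat_lit 6374) (Dv.wd (nat_lit 119) [Mv.b (nat_lit 18975), Mv.b (nat_lit 19034)])))))))
(Tr.nd (nat_lit 19050) (Tr.nd (nat_lit 19047) (Tr.nd (nat_lit 19046) (Tr.lf (Fc.al (nat_lit 19045) (nat_lit 4186) (nat_lit 6141) (Dv.wd (nat_lit 117) [Mv.b (nat_lit 15415), Mv.b (nat_lit 19034), Mv.b (nat_lit 10812)])))
(Tr.lf (Fc.ed (nat_lit 19046) (nat_lit 6375) Col.gi (nat_lit 6096) (Dv.wd (nat_lit 128) [Mv.f (nat_lit 17090), Mv.b (nat_lit 19037)]))))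
(Tr.nd (nat_lit 19048) (Tr.lf (Fc.ed (nat_lit 19047) (nat_lit 6375) Col.d (nat_lit 6308) (Dv.wd (nat_lit 120) [Mv.f (nat_lit 19036), Mv.b (nat_lit 19037)])))
(Tr.nd (nat_lit 19049) (Tr.lf (Fc.ed (nat_lit 19048) (nat_lit 947) Col.c (nat_lit 4571) (Dv.wd (nat_lit 103) [Mv.b (nat_lit 14316), Mv.b (nat_lit 19038)])))
(Tr.lf (Fc.al (nat_lit 19049) (nat_lit 4965) (nat_lit 6079) (Dv.wd (nat_lit 120) [Mv.b (nat_lit 15300), Mv.f (nat_lit 19039), Mv.f (nat_lit 12888)]))))))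
(Tr.nd (nat_lit 19053) (Tr.nd (nat_lit 19051) (Tr.lf (Fc.al (nat_lit 19050) (nat_lit 2201) (nat_lit 5923) (Dv.wd (nat_lit 117) [Mv.f (nat_lit 14986), Mv.f (nat_lit 19039), Mv.f (nat_lit 6803)])))
(Tr.nd (nat_lit 19052) (Tr.lf (Fc.al (nat_lit 19051) (nat_lit 4244) (nat_lit 5459) (Dv.wd (nat_lit 30) [Mv.b (nat_lit 15442), Mv.b (nat_lit 19040), Mv.b (nat_lit 10920)])))
(Tr.lf (Fc.al (nat_lit 19052) (nat_lit 5770) (nat_lit 4031) (Dv.wd (nat_lit 128) [Mv.f (nat_lit 18412), Mv.b (nat_lit 19041), Mv.b (nat_lit 14644)])))))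
(Tr.nd (nat_lit 19054) (Tr.lf (Fc.al (nat_lit 19053) (nat_lit 6004) (nat_lit 5043) (Dv.wd (nat_lit 129) [Mv.b (nat_lit 18410), Mv.b (nat_lit 19041), Mv.f (nat_lit 15166)])))
(Tr.nd (nat_lit 19055) (Tr.lf (Fc.ed (nat_lit 19054) (nat_lit 2385) Col.c (nat_lit 6355) (Dv.wd (nat_lit 103) [Mv.f (nat_lit 18413), Mv.b (nat_lit 19041)])))
(Tr.lf (Fc.ed (nat_lit 19055) (nat_lit 2385) Col.d (nat_lit 5138) (Dv.wd (nat_lit 120) [Mv.f (nat_lit 13424), Mv.b (nat_lit 19041)])))))))))))))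
(Tr.nd (nat_lit 19384) (Tr.nd (nat_lit 19220) (Tr.nd (nat_lit 19138) (Tr.nd (nat_lit 19097) (Tr.nd (nat_lit 19076) (Tr.nd (nat_lit 19066) (Tr.nd (nat_lit 19061) (Tr.nd (nat_lit 19058) (Tr.nd (nat_lit 19057) (Tr.lf (Fc.al (nat_lit 19056) (nat_lit 4344) (nat_lit 5169) (Dv.wd (nat_lit 117) [Mv.f (nat_lit 18433), Mv.b (nat_lit 19041), Mv.f (nat_lit 11151)])))
(Tr.lf (Fc.al (nat_lit 19057) (nat_lit 5817) (nat_lit 4656) (Dv.wd (nat_lit 120) [Mv.f (nat_lit 15966), Mv.b (nat_lit 19042), Mv.f (nat_lit 14762)]))))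
(Tr.nd (nat_lit 19059) (Tr.lf (Fc.al (nat_lit 19058) (nat_lit 6533) (nat_lit 4200) (Dv.wd (nat_lit 117) [Mv.b (nat_lit 14244), Mv.b (nat_lit 19043), Mv.f (nat_lit 17056)])))
(Tr.nd (nat_lit 19060) (Tr.lf (Fc.al (nat_lit 19059) (nat_lit 6246) (nat_lit 4779) (Dv.wd (nat_lit 128) [Mv.b (nat_lit 18978), Mv.b (nat_lit 19045), Mv.f (nat_lit 18571)])))
(Tr.lf (Fc.al (nat_lit 19060) (nat_lit 6025) (nat_lit 5513) (Dv.wd (nat_lit 129) [Mv.f (nat_lit 18977), Mv.b (nat_lit 19045), Mv.b (nat_lit 18573)]))))))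
(Tr.nd (nat_lit 19063) (Tr.nd (nat_lit 19062) (Tr.lf (Fc.ed (nat_lit 19061) (nat_lit 4965) Col.b (nat_lit 4620) (Dv.wd (nat_lit 119) [Mv.b (nat_lit 15301), Mv.b (nat_lit 19049)])))
(Tr.lf (Fc.ed (nat_lit 19062) (nat_lit 2201) Col.b (nat_lit 1123) (Dv.wd (nat_lit 119) [Mv.f (nat_lit 14984), Mv.b (nat_lit 19050)]))))
(Tr.nd (nat_lit 19064) (Tr.lf (Fc.al (nat_lit 19063) (nat_lit 6933) (nat_lit 4052) (Dv.wd (nat_lit 120) [Mv.b (nat_lit 14985), Mv.b (nat_lit 19050), Mv.f (nat_lit 18011)])))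
(Tr.nd (nat_lit 19065) (Tr.lf (Fc.ed (nat_lit 19064) (nat_lit 4244) Col.d (nat_lit 6096) (Dv.wd (nat_lit 120) [Mv.b (nat_lit 15335), Mv.b (nat_lit 19051)])))
(Tr.lf (Fc.al (nat_lit 19065) (nat_lit 4966) (nat_lit 5626) (Dv.wd (nat_lit 128) [Mv.f (nat_lit 14643), Mv.f (nat_lit 19052), Mv.b (nat_lit 13692)])))))))
(Tr.nd (nat_lit 19071) (Tr.nd (nat_lit 19068) (Tr.nd (nat_lit 19067) (Tr.lf (Fc.ed (nat_lit 19066) (nat_lit 4031) Col.gi (nat_lit 2385) (Dv.wd (nat_lit 128) [Mv.b (nat_lit 14644), Mv.f (nat_lit 19052)])))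
(Tr.lf (Fc.ed (nat_lit 19067) (nat_lit 5043) Col.g (nat_lit 2385) (Dv.wd (nat_lit 129) [Mv.f (nat_lit 15166), Mv.f (nat_lit 19053)]))))
(Tr.nd (nat_lit 19069) (Tr.lf (Fc.ed (nat_lit 19068) (nat_lit 4344) Col.g (nat_lit 4764) (Dv.wd (nat_lit 129) [Mv.f (nat_lit 13347), Mv.b (nat_lit 19056)])))
(Tr.nd (nat_lit 19070) (Tr.lf (Fc.ed (nat_lit 19069) (nat_lit 4656) Col.d (nat_lit 4315) (Dv.wd (nat_lit 120) [Mv.f (nat_lit 14762), Mv.f (nat_lit 19057)])))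
(Tr.lf (Fc.al (nat_lit 19070) (nat_lit 4622) (nat_lit 5912) (Dv.wd (nat_lit 30) [Mv.f (nat_lit 14966), Mv.f (nat_lit 19057), Mv.f (nat_lit 18554)]))))))
(Tr.nd (nat_lit 19073) (Tr.nd (nat_lit 19072) (Tr.lf (Fc.ed (nat_lit 19071) (nat_lit 4200) Col.b (nat_lit 6602) (Dv.wd (nat_lit 119) [Mv.b (nat_lit 18980), Mv.f (nat_lit 19058)])))
(Tr.lf (Fc.al (nat_lit 19072) (nat_lit 6900) (nat_lit 4495) (Dv.wd (nat_lit 103) [Mv.f (nat_lit 18695), Mv.f (nat_lit 19059), Mv.f (nat_lit 17941)]))))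
(Tr.nd (nat_lit 19074) (Tr.lf (Fc.ed (nat_lit 19073) (nat_lit 5513) Col.c (nat_lit 4621) (Dv.wd (nat_lit 103) [Mv.f (nat_lit 18691), Mv.f (nat_lit 19060)])))
(Tr.nd (nat_lit 19075) (Tr.lf (Fc.al (nat_lit 19074) (nat_lit 5937) (nat_lit 6435) (Dv.wd (nat_lit 120) [Mv.b (nat_lit 18736), Mv.f (nat_lit 19060), Mv.b (nat_lit 15018)])))
(Tr.lf (Fc.ed (nat_lit 19075) (nat_lit 4052) Col.d (nat_lit 2201) (Dv.wd (nat_lit 120) [Mv.f (nat_lit 18011), Mv.f (nat_lit 19063)]))))))))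
(Tr.nd (nat_lit 19086) (Tr.nd (nat_lit 19081) (Tr.nd (nat_lit 19078) (Tr.nd (nat_lit 19077) (Tr.lf (Fc.al (nat_lit 19076) (nat_lit 5448) (nat_lit 4601) (Dv.wd (nat_lit 103) [Mv.b (nat_lit 14331), Mv.b (nat_lit 19065), Mv.b (nat_lit 16893)])))
(Tr.lf (Fc.al (nat_lit 19077) (nat_lit 3381) (nat_lit 5954) (Dv.wd (nat_lit 103) [Mv.f (nat_lit 15049), Mv.b (nat_lit 19070), Mv.b (nat_lit 16642)]))))
(Tr.nd (nat_lit 19079) (Tr.lf (Fc.ed (nat_lit 19078) (nat_lit 4495) Col.c (nat_lit 4779) (Dv.wd (nat_lit 103) [Mv.f (nat_lit 17941), Mv.f (nat_lit 19072)])))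
(Tr.nd (nat_lit 19080) (Tr.lf (Fc.ed (nat_lit 19079) (nat_lit 5937) Col.g (nat_lit 6492) (Dv.wd (nat_lit 129) [Mv.b (nat_lit 18738), Mv.b (nat_lit 19074)])))
(Tr.lf (Fc.ed (nat_lit 19080) (nat_lit 5937) Col.gi (nat_lit 6334) (Dv.wd (nat_lit 128) [Mv.b (nat_lit 19010), Mv.b (nat_lit 19074)]))))))
(Tr.nd (nat_lit 19083) (Tr.nd (nat_lit 19082) (Tr.lf (Fc.ed (nat_lit 19081) (nat_lit 5937) Col.c (nat_lit 5685) (Dv.wd (nat_lit 103) [Mv.f (nat_lit 16695), Mv.b (nat_lit 19074)])))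
(Tr.lf (Fc.ed (nat_lit 19082) (nat_lit 4601) Col.g (nat_lit 6608) (Dv.wd (nat_lit 129) [Mv.f (nat_lit 18528), Mv.f (nat_lit 19076)]))))
(Tr.nd (nat_lit 19084) (Tr.lf (Fc.ed (nat_lit 19083) (nat_lit 4601) Col.c (nat_lit 4966) (Dv.wd (nat_lit 103) [Mv.b (nat_lit 16893), Mv.f (nat_lit 19076)])))
(Tr.nd (nat_lit 19085) (Tr.lf (Fc.al (nat_lit 19084) (nat_lit 4699) (nat_lit 3116) (Dv.wd (nat_lit 117) [Mv.f (nat_lit 13998), Mv.f (nat_lit 19076), Mv.f (nat_lit 11872)])))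
(Tr.lf (Fc.al (nat_lit 19085) (nat_lit 3455) (nat_lit 3432) (Dv.wd (nat_lit 120) [Mv.f (nat_lit 15048), Mv.b (nat_lit 19077), Mv.f (nat_lit 8772)])))))))
(Tr.nd (nat_lit 19091) (Tr.nd (nat_lit 19088) (Tr.nd (nat_lit 19087) (Tr.lf (Fc.ed (nat_lit 19086) (nat_lit 3116) Col.e (nat_lit 4601) (Dv.wd (nat_lit 117) [Mv.f (nat_lit 11872), Mv.f (nat_lit 19084)])))
(Tr.lf (Fc.ed (nat_lit 19087) (nat_lit 3432) Col.gi (nat_lit 6161) (Dv.wd (nat_lit 128) [Mv.f (nat_lit 18995), Mv.f (nat_lit 19085)]))))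
(Tr.nd (nat_lit 19089) (Tr.lf (Fc.ed (nat_lit 19088) (nat_lit 3432) Col.b (nat_lit 5918) (Dv.wd (nat_lit 119) [Mv.f (nat_lit 16931), Mv.f (nat_lit 19085)])))
(Tr.nd (nat_lit 19090) (Tr.lf (Fc.ed (nat_lit 19089) (nat_lit 3432) Col.d (nat_lit 3381) (Dv.wd (nat_lit 120) [Mv.f (nat_lit 8772), Mv.f (nat_lit 19085)])))
(Tr.lf (Fc.ed (nat_lit 19090) (nat_lit 5335) Col.c (nat_lit 6161) (Dv.wd (nat_lit 14) [Mv.b (nat_lit 19087), Mv.f (nat_lit 19089), Mv.b (nat_lit 8622), Mv.b (nat_lit 6069), Mv.b (nat_lit 11093), Mv.b (nat_lit 19069), Mv.b (nat_lit 11783), Mv.b (nat_lit 7954), Mv.b (nat_lit 13736)]))))))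
(Tr.nd (nat_lit 19094) (Tr.nd (nat_lit 19092) (Tr.lf (Fc.ed (nat_lit 19091) (nat_lit 5704) Col.b (nat_lit 3353) (Dv.wd (nat_lit 158) [Mv.b (nat_lit 18838), Mv.b (nat_lit 18740), Mv.f (nat_lit 19090), Mv.f (nat_lit 18997), Mv.f (nat_lit 14469)])))
(Tr.nd (nat_lit 19093) (Tr.lf (Fc.ed (nat_lit 19092) (nat_lit 4091) Col.b (nat_lit 6042) (Dv.wd (nat_lit 107) [Mv.b (nat_lit 18404), Mv.f (nat_lit 19091), Mv.b (nat_lit 18974)])))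
(Tr.lf (Fc.ed (nat_lit 19093) (nat_lit 6393) Col.b (nat_lit 6197) (Dv.wd (nat_lit 168) [Mv.b (nat_lit 15516), Mv.f (nat_lit 13961), Mv.f (nat_lit 18273), Mv.f (nat_lit 18664), Mv.f (nat_lit 19091), Mv.b (nat_lit 18838), Mv.f (nat_lit 8241), Mv.b (nat_lit 7713), Mv.f (nat_lit 10844), Mv.f (nat_lit 15972)])))))
(Tr.nd (nat_lit 19095) (Tr.lf (Fc.ed (nat_lit 19094) (nat_lit 5934) Col.b (nat_lit 6739) (Dv.wd (nat_lit 107) [Mv.f (nat_lit 17593), Mv.f (nat_lit 19093), Mv.f (nat_lit 18442)])))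
(Tr.nd (nat_lit 19096) (Tr.lf (Fc.ed (nat_lit 19095) (nat_lit 6739) Col.g (nat_lit 3273) (Dv.wd (nat_lit 122) [Mv.b (nat_lit 8398), Mv.b (nat_lit 4892), Mv.f (nat_lit 7783), Mv.f (nat_lit 18860), Mv.f (nat_lit 19092), Mv.b (nat_lit 15235), Mv.f (nat_lit 18437), Mv.f (nat_lit 18439), Mv.b (nat_lit 18441), Mv.f (nat_lit 19094)])))
(Tr.lf (Fc.ed (nat_lit 19096) (nat_lit 6460) Col.a (nat_lit 6393) (Dv.wd (nat_lit 114) [Mv.b (nat_lit 17593), Mv.f (nat_lit 19095), Mv.f (nat_lit 16742)])))))))))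
(Tr.nd (nat_lit 19117) (Tr.nd (nat_lit 19107) (Tr.nd (nat_lit 19102) (Tr.nd (nat_lit 19099) (Tr.nd (nat_lit 19098) (Tr.lf (Fc.ed (nat_lit 19097) (nat_lit 6862) Col.a (nat_lit 6828) (Dv.wd (nat_lit 167) [Mv.f (nat_lit 18857), Mv.f (nat_lit 19096), Mv.f (nat_lit 19093), Mv.b (nat_lit 16871), Mv.f (nat_lit 17869)])))
(Tr.lf (Fc.ed (nat_lit 19098) (nat_lit 6930) Col.c (nat_lit 6862) (Dv.wd (nat_lit 134) [Mv.f (nat_lit 19097), Mv.b (nat_lit 17785), Mv.f (nat_lit 17998)]))))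
(Tr.nd (nat_lit 19100) (Tr.lf (Fc.ed (nat_lit 19099) (nat_lit 6800) Col.b (nat_lit 6930) (Dv.wd (nat_lit 136) [Mv.f (nat_lit 19098), Mv.b (nat_lit 17869), Mv.b (nat_lit 16865), Mv.f (nat_lit 17358), Mv.f (nat_lit 18443)])))
(Tr.nd (nat_lit 19101) (Tr.lf (Fc.ed (nat_lit 19100) (nat_lit 3784) Col.g (nat_lit 6930) (Dv.wd (nat_lit 123) [Mv.f (nat_lit 19098), Mv.b (nat_lit 17869), Mv.f (nat_lit 18654), Mv.b (nat_lit 18353), Mv.b (nat_lit 13643), Mv.f (nat_lit 14469), Mv.f (nat_lit 19091), Mv.f (nat_lit 8566), Mv.f (nat_lit 8123), Mv.b (nat_lit 9400)])))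
(Tr.lf (Fc.ed (nat_lit 19101) (nat_lit 6802) Col.f (nat_lit 6951) (Dv.wd (nat_lit 10) [Mv.b (nat_lit 18039), Mv.f (nat_lit 19100), Mv.b (nat_lit 17998)]))))))
(Tr.nd (nat_lit 19104) (Tr.nd (nat_lit 19103) (Tr.lf (Fc.ed (nat_lit 19102) (nat_lit 5963) Col.c (nat_lit 7048) (Dv.wd (nat_lit 124) [Mv.b (nat_lit 18221), Mv.b (nat_lit 18856), Mv.b (nat_lit 16681), Mv.f (nat_lit 8571), Mv.b (nat_lit 7328), Mv.f (nat_lit 9398), Mv.f (nat_lit 19100), Mv.b (nat_lit 19099), Mv.b (nat_lit 18443), Mv.b (nat_lit 18985)])))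
(Tr.lf (Fc.ed (nat_lit 19103) (nat_lit 7048) Col.e (nat_lit 6873) (Dv.wd (nat_lit 25) [Mv.b (nat_lit 17894), Mv.f (nat_lit 18792), Mv.f (nat_lit 19102)]))))
(Tr.nd (nat_lit 19105) (Tr.lf (Fc.ed (nat_lit 19104) (nat_lit 6873) Col.b (nat_lit 5958) (Dv.wd (nat_lit 49) [Mv.b (nat_lit 15054), Mv.f (nat_lit 18221), Mv.f (nat_lit 19103)])))
(Tr.nd (nat_lit 19106) (Tr.lf (Fc.ed (nat_lit 19105) (nat_lit 4800) Col.b (nat_lit 6492) (Dv.wd (nat_lit 158) [Mv.b (nat_lit 16805), Mv.f (nat_lit 18793), Mv.f (nat_lit 17894), Mv.f (nat_lit 19104), Mv.f (nat_lit 15055)])))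
(Tr.lf (Fc.ed (nat_lit 19106) (nat_lit 5641) Col.b (nat_lit 6825) (Dv.wd (nat_lit 104) [Mv.b (nat_lit 18820), Mv.b (nat_lit 18823), Mv.f (nat_lit 17894), Mv.f (nat_lit 19104), Mv.b (nat_lit 18983), Mv.b (nat_lit 15979), Mv.b (nat_lit 8010), Mv.f (nat_lit 7370), Mv.f (nat_lit 8722), Mv.b (nat_lit 14361)])))))))
(Tr.nd (nat_lit 19112) (Tr.nd (nat_lit 19109) (Tr.nd (nat_lit 19108) (Tr.lf (Fc.ed (nat_lit 19107) (nat_lit 6334) Col.b (nat_lit 5110) (Dv.wd (nat_lit 107) [Mv.f (nat_lit 13231), Mv.f (nat_lit 19105), Mv.f (nat_lit 16806)])))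
(Tr.lf (Fc.ed (nat_lit 19108) (nat_lit 6387) Col.c (nat_lit 3228) (Dv.wd (nat_lit 143) [Mv.b (nat_lit 16856), Mv.f (nat_lit 18705), Mv.f (nat_lit 19105), Mv.b (nat_lit 16805), Mv.f (nat_lit 18735), Mv.b (nat_lit 19081), Mv.f (nat_lit 19080), Mv.f (nat_lit 19107), Mv.f (nat_lit 15029), Mv.f (nat_lit 15946)]))))
(Tr.nd (nat_lit 19110) (Tr.lf (Fc.ed (nat_lit 19109) (nat_lit 2406) Col.e (nat_lit 3107) (Dv.wd (nat_lit 56) [Mv.b (nat_lit 18394), Mv.f (nat_lit 19086), Mv.f (nat_lit 11688)])))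
(Tr.nd (nat_lit 19111) (Tr.lf (Fc.ed (nat_lit 19110) (nat_lit 3107) Col.b (nat_lit 2131) (Dv.wd (nat_lit 49) [Mv.f (nat_lit 5924), Mv.f (nat_lit 6517), Mv.f (nat_lit 19109)])))
(Tr.lf (Fc.ed (nat_lit 19111) (nat_lit 3021) Col.e (nat_lit 3295) (Dv.wd (nat_lit 25) [Mv.f (nat_lit 8445), Mv.f (nat_lit 19109), Mv.b (nat_lit 16904)]))))))
(Tr.nd (nat_lit 19114) (Tr.nd (nat_lit 19113) (Tr.lf (Fc.ed (nat_lit 19112) (nat_lit 3295) Col.d (nat_lit 5152) (Dv.wd (nat_lit 59) [Mv.b (nat_lit 18371), Mv.b (nat_lit 18376), Mv.f (nat_lit 8387), Mv.f (nat_lit 8388), Mv.f (nat_lit 19111)])))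
(Tr.lf (Fc.ed (nat_lit 19113) (nat_lit 4344) Col.f (nat_lit 4685) (Dv.wd (nat_lit 41) [Mv.b (nat_lit 18398), Mv.b (nat_lit 8199), Mv.f (nat_lit 19111), Mv.f (nat_lit 8444), Mv.f (nat_lit 11151)]))))
(Tr.nd (nat_lit 19115) (Tr.lf (Fc.ed (nat_lit 19114) (nat_lit 5765) Col.f (nat_lit 3363) (Dv.wd (nat_lit 26) [Mv.f (nat_lit 11153), Mv.f (nat_lit 19113), Mv.f (nat_lit 14634)])))
(Tr.nd (nat_lit 19116) (Tr.lf (Fc.ed (nat_lit 19115) (nat_lit 2724) Col.b (nat_lit 5765) (Dv.wd (nat_lit 107) [Mv.f (nat_lit 19114), Mv.b (nat_lit 8587), Mv.b (nat_lit 7237)])))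
(Tr.lf (Fc.ed (nat_lit 19116) (nat_lit 3051) Col.b (nat_lit 2880) (Dv.wd (nat_lit 127) [Mv.f (nat_lit 7582), Mv.f (nat_lit 19115), Mv.b (nat_lit 16906)]))))))))
(Tr.nd (nat_lit 19127) (Tr.nd (nat_lit 19122) (Tr.nd (nat_lit 19119) (Tr.nd (nat_lit 19118) (Tr.lf (Fc.ed (nat_lit 19117) (nat_lit 5405) Col.b (nat_lit 4579) (Dv.wd (nat_lit 159) [Mv.b (nat_lit 18399), Mv.f (nat_lit 19116), Mv.b (nat_lit 8226), Mv.f (nat_lit 11620), Mv.f (nat_lit 13867)])))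
(Tr.lf (Fc.al (nat_lit 19118) (nat_lit 3706) (nat_lit 6172) (Dv.wd (nat_lit 55) [Mv.f (nat_lit 15472), Mv.f (nat_lit 19112), Mv.b (nat_lit 18371), Mv.f (nat_lit 18368), Mv.f (nat_lit 13027), Mv.f (nat_lit 12641), Mv.b (nat_lit 6255), Mv.b (nat_lit 9971), Mv.b (nat_lit 5889), Mv.b (nat_lit 9974), Mv.b (nat_lit 9257)]))))
(Tr.nd (nat_lit 19120) (Tr.lf (Fc.al (nat_lit 19119) (nat_lit 6039) (nat_lit 6040) (Dv.wd (nat_lit 103) [Mv.f (nat_lit 15471), Mv.b (nat_lit 19118), Mv.f (nat_lit 15231)])))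
(Tr.nd (nat_lit 19121) (Tr.lf (Fc.ed (nat_lit 19120) (nat_lit 6039) Col.b (nat_lit 5700) (Dv.wd (nat_lit 119) [Mv.f (nat_lit 15232), Mv.b (nat_lit 19119)])))
(Tr.lf (Fc.ed (nat_lit 19121) (nat_lit 5592) Col.g (nat_lit 6240) (Dv.wd (nat_lit 118) [Mv.f (nat_lit 18527), Mv.f (nat_lit 13154), Mv.f (nat_lit 15231), Mv.f (nat_lit 19120), Mv.f (nat_lit 14463), Mv.b (nat_lit 14111), Mv.f (nat_lit 13003), Mv.b (nat_lit 13902), Mv.b (nat_lit 14648), Mv.b (nat_lit 14647)]))))))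
(Tr.nd (nat_lit 19124) (Tr.nd (nat_lit 19123) (Tr.lf (Fc.ed (nat_lit 19122) (nat_lit 5189) Col.c (nat_lit 5592) (Dv.wd (nat_lit 138) [Mv.f (nat_lit 19121), Mv.f (nat_lit 18527), Mv.f (nat_lit 18357), Mv.b (nat_lit 18423), Mv.f (nat_lit 18425), Mv.b (nat_lit 15842), Mv.b (nat_lit 13921), Mv.f (nat_lit 13987), Mv.b (nat_lit 13991)])))
(Tr.lf (Fc.ed (nat_lit 19123) (nat_lit 4337) Col.c (nat_lit 6856) (Dv.wd (nat_lit 135) [Mv.b (nat_lit 17860), Mv.b (nat_lit 17642), Mv.b (nat_lit 14440), Mv.b (nat_lit 13991), Mv.f (nat_lit 19122), Mv.f (nat_lit 19121), Mv.f (nat_lit 18527), Mv.f (nat_lit 18434), Mv.f (nat_lit 13154), Mv.b (nat_lit 18515)]))))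
(Tr.nd (nat_lit 19125) (Tr.lf (Fc.ed (nat_lit 19124) (nat_lit 6864) Col.c (nat_lit 6031) (Dv.wd (nat_lit 81) [Mv.f (nat_lit 15922), Mv.b (nat_lit 18921), Mv.b (nat_lit 13603), Mv.b (nat_lit 13013), Mv.f (nat_lit 14711), Mv.b (nat_lit 18517), Mv.f (nat_lit 11128), Mv.f (nat_lit 19123), Mv.f (nat_lit 17872)])))
(Tr.nd (nat_lit 19126) (Tr.lf (Fc.ed (nat_lit 19125) (nat_lit 6786) Col.g (nat_lit 6864) (Dv.wd (nat_lit 123) [Mv.f (nat_lit 19124), Mv.b (nat_lit 18919), Mv.f (nat_lit 18674), Mv.f (nat_lit 19123), Mv.b (nat_lit 17860), Mv.b (nat_lit 17642), Mv.b (nat_lit 14440), Mv.b (nat_lit 13991), Mv.f (nat_lit 14773), Mv.b (nat_lit 18925)])))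
(Tr.lf (Fc.ed (nat_lit 19126) (nat_lit 6864) Col.a (nat_lit 6872) (Dv.wd (nat_lit 114) [Mv.b (nat_lit 17893), Mv.f (nat_lit 17697), Mv.f (nat_lit 19125)])))))))
(Tr.nd (nat_lit 19132) (Tr.nd (nat_lit 19129) (Tr.nd (nat_lit 19128) (Tr.lf (Fc.ed (nat_lit 19127) (nat_lit 6346) Col.e (nat_lit 6864) (Dv.wd (nat_lit 84) [Mv.f (nat_lit 19124), Mv.f (nat_lit 18918), Mv.b (nat_lit 18928)])))
(Tr.lf (Fc.al (nat_lit 19128) (nat_lit 5748) (nat_lit 6608) (Dv.wd (nat_lit 33) [Mv.b (nat_lit 17213), Mv.b (nat_lit 13789), Mv.f (nat_lit 19122), Mv.f (nat_lit 14602)]))))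
(Tr.nd (nat_lit 19130) (Tr.lf (Fc.ed (nat_lit 19129) (nat_lit 5748) Col.g (nat_lit 6355) (Dv.wd (nat_lit 129) [Mv.f (nat_lit 18531), Mv.b (nat_lit 19128)])))
(Tr.nd (nat_lit 19131) (Tr.lf (Fc.ed (nat_lit 19130) (nat_lit 5748) Col.gi (nat_lit 4601) (Dv.wd (nat_lit 128) [Mv.f (nat_lit 19082), Mv.b (nat_lit 19128)])))
(Tr.lf (Fc.ed (nat_lit 19131) (nat_lit 5748) Col.c (nat_lit 5365) (Dv.wd (nat_lit 103) [Mv.f (nat_lit 17213), Mv.b (nat_lit 19128)]))))))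
(Tr.nd (nat_lit 19135) (Tr.nd (nat_lit 19133) (Tr.lf (Fc.ed (nat_lit 19132) (nat_lit 5592) Col.e (nat_lit 5385) (Dv.wd (nat_lit 25) [Mv.b (nat_lit 13952), Mv.f (nat_lit 13953), Mv.f (nat_lit 19122)])))
(Tr.nd (nat_lit 19134) (Tr.lf (Fc.ed (nat_lit 19133) (nat_lit 4843) Col.gi (nat_lit 3295) (Dv.wd (nat_lit 100) [Mv.b (nat_lit 8443), Mv.f (nat_lit 6420), Mv.f (nat_lit 6195), Mv.f (nat_lit 6534), Mv.f (nat_lit 6537), Mv.f (nat_lit 6477), Mv.f (nat_lit 19054), Mv.b (nat_lit 19129), Mv.f (nat_lit 19131), Mv.f (nat_lit 18345)])))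
(Tr.lf (Fc.ed (nat_lit 19134) (nat_lit 6745) Col.b (nat_lit 6288) (Dv.wd (nat_lit 154) [Mv.b (nat_lit 15755), Mv.f (nat_lit 19133), Mv.f (nat_lit 8445), Mv.b (nat_lit 6517), Mv.b (nat_lit 3698), Mv.b (nat_lit 5887), Mv.b (nat_lit 5886), Mv.f (nat_lit 9339), Mv.f (nat_lit 10774), Mv.f (nat_lit 17606)])))))
(Tr.nd (nat_lit 19136) (Tr.lf (Fc.ed (nat_lit 19135) (nat_lit 5748) Col.b (nat_lit 6892) (Dv.wd (nat_lit 136) [Mv.b (nat_lit 17928), Mv.f (nat_lit 19134), Mv.b (nat_lit 15755), Mv.b (nat_lit 18345), Mv.b (nat_lit 19131)])))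
(Tr.nd (nat_lit 19137) (Tr.lf (Fc.al (nat_lit 19136) (nat_lit 3750) (nat_lit 5506) (Dv.wd (nat_lit 165) [Mv.f (nat_lit 17850), Mv.b (nat_lit 17852), Mv.b (nat_lit 17533), Mv.b (nat_lit 12774), Mv.f (nat_lit 11669), Mv.f (nat_lit 11687), Mv.b (nat_lit 19130), Mv.f (nat_lit 19135), Mv.b (nat_lit 17928), Mv.b (nat_lit 17606), Mv.b (nat_lit 10774)])))
(Tr.lf (Fc.al (nat_lit 19137) (nat_lit 4164) (nat_lit 6199) (Dv.wd (nat_lit 103) [Mv.b (nat_lit 15521), Mv.b (nat_lit 19136), Mv.f (nat_lit 10774)]))))))))))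
(Tr.nd (nat_lit 19179) (Tr.nd (nat_lit 19158) (Tr.nd (nat_lit 19148) (Tr.nd (nat_lit 19143) (Tr.nd (nat_lit 19140) (Tr.nd (nat_lit 19139) (Tr.lf (Fc.al (nat_lit 19138) (nat_lit 6063) (nat_lit 4574) (Dv.wd (nat_lit 30) [Mv.b (nat_lit 15520), Mv.b (nat_lit 19137), Mv.b (nat_lit 15270)])))
(Tr.lf (Fc.ed (nat_lit 19139) (nat_lit 4574) Col.g (nat_lit 6539) (Dv.wd (nat_lit 129) [Mv.f (nat_lit 17066), Mv.f (nat_lit 19138)]))))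
(Tr.nd (nat_lit 19141) (Tr.lf (Fc.ed (nat_lit 19140) (nat_lit 6943) Col.b (nat_lit 6153) (Dv.wd (nat_lit 168) [Mv.b (nat_lit 15433), Mv.f (nat_lit 19066), Mv.f (nat_lit 19054), Mv.b (nat_lit 19129), Mv.f (nat_lit 19135), Mv.b (nat_lit 17928), Mv.f (nat_lit 17607), Mv.f (nat_lit 17093), Mv.f (nat_lit 11636), Mv.f (nat_lit 18027)])))
(Tr.nd (nat_lit 19142) (Tr.lf (Fc.ed (nat_lit 19141) (nat_lit 1209) Col.b (nat_lit 6355) (Dv.wd (nat_lit 101) [Mv.b (nat_lit 19129), Mv.f (nat_lit 19135), Mv.b (nat_lit 17928), Mv.f (nat_lit 17607), Mv.f (nat_lit 17093), Mv.f (nat_lit 8780), Mv.b (nat_lit 5660), Mv.b (nat_lit 3121), Mv.f (nat_lit 2336), Mv.b (nat_lit 3724)])))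
(Tr.lf (Fc.ed (nat_lit 19142) (nat_lit 6355) Col.d (nat_lit 2808) (Dv.wd (nat_lit 58) [Mv.b (nat_lit 7424), Mv.b (nat_lit 3726), Mv.f (nat_lit 19141)]))))))
(Tr.nd (nat_lit 19145) (Tr.nd (nat_lit 19144) (Tr.lf (Fc.ed (nat_lit 19143) (nat_lit 5893) Col.b (nat_lit 4668) (Dv.wd (nat_lit 106) [Mv.f (nat_lit 11808), Mv.b (nat_lit 6448), Mv.b (nat_lit 3024), Mv.b (nat_lit 2337), Mv.b (nat_lit 3724), Mv.f (nat_lit 19141), Mv.b (nat_lit 15886), Mv.f (nat_lit 18349), Mv.b (nat_lit 18436), Mv.b (nat_lit 16878)])))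
(Tr.lf (Fc.al (nat_lit 19144) (nat_lit 6200) (nat_lit 6083) (Dv.wd (nat_lit 101) [Mv.b (nat_lit 15308), Mv.b (nat_lit 15177), Mv.b (nat_lit 7312), Mv.b (nat_lit 2456), Mv.b (nat_lit 2213), Mv.b (nat_lit 3789), Mv.f (nat_lit 3787), Mv.f (nat_lit 19141), Mv.b (nat_lit 19054), Mv.b (nat_lit 19067), Mv.b (nat_lit 18330)]))))
(Tr.nd (nat_lit 19146) (Tr.lf (Fc.ed (nat_lit 19145) (nat_lit 6083) Col.gi (nat_lit 5931) (Dv.wd (nat_lit 128) [Mv.f (nat_lit 15522), Mv.f (nat_lit 19144)])))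
(Tr.nd (nat_lit 19147) (Tr.lf (Fc.ed (nat_lit 19146) (nat_lit 6083) Col.a (nat_lit 6288) (Dv.wd (nat_lit 29) [Mv.f (nat_lit 18337), Mv.f (nat_lit 19144)])))
(Tr.lf (Fc.ed (nat_lit 19147) (nat_lit 6083) Col.c (nat_lit 5043) (Dv.wd (nat_lit 103) [Mv.b (nat_lit 18330), Mv.f (nat_lit 19144)])))))))
(Tr.nd (nat_lit 19153) (Tr.nd (nat_lit 19150) (Tr.nd (nat_lit 19149) (Tr.lf (Fc.ed (nat_lit 19148) (nat_lit 6083) Col.f (nat_lit 6039) (Dv.wd (nat_lit 30) [Mv.f (nat_lit 18338), Mv.f (nat_lit 19144)])))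
(Tr.lf (Fc.al (nat_lit 19149) (nat_lit 6967) (nat_lit 4519) (Dv.wd (nat_lit 88) [Mv.f (nat_lit 11530), Mv.b (nat_lit 6735), Mv.f (nat_lit 6285), Mv.f (nat_lit 3787), Mv.f (nat_lit 19141), Mv.b (nat_lit 19054), Mv.b (nat_lit 19067), Mv.b (nat_lit 19147), Mv.f (nat_lit 19145), Mv.f (nat_lit 16977), Mv.b (nat_lit 18075)]))))
(Tr.nd (nat_lit 19151) (Tr.lf (Fc.ed (nat_lit 19150) (nat_lit 4519) Col.b (nat_lit 6760) (Dv.wd (nat_lit 119) [Mv.f (nat_lit 18074), Mv.f (nat_lit 19149)])))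
(Tr.nd (nat_lit 19152) (Tr.lf (Fc.ed (nat_lit 19151) (nat_lit 4519) Col.c (nat_lit 6462) (Dv.wd (nat_lit 103) [Mv.b (nat_lit 18075), Mv.f (nat_lit 19149)])))
(Tr.lf (Fc.al (nat_lit 19152) (nat_lit 6430) (nat_lit 6440) (Dv.wd (nat_lit 182) [Mv.f (nat_lit 16709), Mv.b (nat_lit 6148), Mv.f (nat_lit 10211), Mv.b (nat_lit 10333), Mv.b (nat_lit 9616), Mv.b (nat_lit 10255), Mv.f (nat_lit 10302), Mv.f (nat_lit 6174), Mv.f (nat_lit 3630), Mv.b (nat_lit 3766), Mv.b (nat_lit 3788), Mv.f (nat_lit 3787), Mv.f (nat_lit 19141), Mv.b (nat_lit 19054), Mv.f (nat_lit 19055), Mv.f (nat_lit 18363), Mv.f (nat_lit 18537), Mv.b (nat_lit 18540), Mv.b (nat_lit 18541), Mv.f (nat_lit 17559)]))))))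
(Tr.nd (nat_lit 19155) (Tr.nd (nat_lit 19154) (Tr.lf (Fc.al (nat_lit 19153) (nat_lit 5005) (nat_lit 6887) (Dv.wd (nat_lit 120) [Mv.f (nat_lit 17921), Mv.b (nat_lit 19152), Mv.b (nat_lit 16687)])))
(Tr.lf (Fc.al (nat_lit 19154) (nat_lit 6224) (nat_lit 6133) (Dv.wd (nat_lit 30) [Mv.f (nat_lit 16708), Mv.b (nat_lit 19152), Mv.f (nat_lit 16688)]))))
(Tr.nd (nat_lit 19156) (Tr.lf (Fc.al (nat_lit 19155) (nat_lit 5822) (nat_lit 3350) (Dv.wd (nat_lit 119) [Mv.f (nat_lit 17920), Mv.b (nat_lit 19153), Mv.f (nat_lit 14770)])))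
(Tr.nd (nat_lit 19157) (Tr.lf (Fc.al (nat_lit 19156) (nat_lit 6971) (nat_lit 6410) (Dv.wd (nat_lit 117) [Mv.f (nat_lit 16650), Mv.f (nat_lit 19154), Mv.f (nat_lit 18082)])))
(Tr.lf (Fc.al (nat_lit 19157) (nat_lit 3491) (nat_lit 7005) (Dv.wd (nat_lit 29) [Mv.b (nat_lit 18142), Mv.f (nat_lit 19155), Mv.b (nat_lit 10470)]))))))))
(Tr.nd (nat_lit 19168) (Tr.nd (nat_lit 19163) (Tr.nd (nat_lit 19160) (Tr.nd (nat_lit 19159) (Tr.lf (Fc.al (nat_lit 19158) (nat_lit 3841) (nat_lit 6258) (Dv.wd (nat_lit 103) [Mv.f (nat_lit 15640), Mv.f (nat_lit 19155), Mv.f (nat_lit 10469)])))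
(Tr.lf (Fc.al (nat_lit 19159) (nat_lit 6192) (nat_lit 6088) (Dv.wd (nat_lit 117) [Mv.f (nat_lit 15319), Mv.f (nat_lit 19155), Mv.b (nat_lit 15508)]))))
(Tr.nd (nat_lit 19161) (Tr.lf (Fc.al (nat_lit 19160) (nat_lit 3533) (nat_lit 5258) (Dv.wd (nat_lit 30) [Mv.b (nat_lit 14771), Mv.f (nat_lit 19155), Mv.b (nat_lit 10471)])))
(Tr.nd (nat_lit 19162) (Tr.lf (Fc.ed (nat_lit 19161) (nat_lit 6410) Col.b (nat_lit 6548) (Dv.wd (nat_lit 119) [Mv.b (nat_lit 18083), Mv.f (nat_lit 19156)])))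
(Tr.lf (Fc.ed (nat_lit 19162) (nat_lit 6410) Col.e (nat_lit 6133) (Dv.wd (nat_lit 117) [Mv.f (nat_lit 18082), Mv.f (nat_lit 19156)]))))))
(Tr.nd (nat_lit 19165) (Tr.nd (nat_lit 19164) (Tr.lf (Fc.al (nat_lit 19163) (nat_lit 4028) (nat_lit 6768) (Dv.wd (nat_lit 103) [Mv.b (nat_lit 18143), Mv.b (nat_lit 19157), Mv.f (nat_lit 9854)])))
(Tr.lf (Fc.al (nat_lit 19164) (nat_lit 6148) (nat_lit 6358) (Dv.wd (nat_lit 117) [Mv.b (nat_lit 18144), Mv.b (nat_lit 19157), Mv.f (nat_lit 15426)]))))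
(Tr.nd (nat_lit 19166) (Tr.lf (Fc.al (nat_lit 19165) (nat_lit 3636) (nat_lit 5648) (Dv.wd (nat_lit 30) [Mv.b (nat_lit 18145), Mv.b (nat_lit 19157), Mv.f (nat_lit 9116)])))
(Tr.nd (nat_lit 19167) (Tr.lf (Fc.al (nat_lit 19166) (nat_lit 6987) (nat_lit 4924) (Dv.wd (nat_lit 119) [Mv.b (nat_lit 15639), Mv.b (nat_lit 19158), Mv.b (nat_lit 18110)])))
(Tr.lf (Fc.al (nat_lit 19167) (nat_lit 3603) (nat_lit 5239) (Dv.wd (nat_lit 30) [Mv.b (nat_lit 15641), Mv.b (nat_lit 19158), Mv.b (nat_lit 10456)])))))))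
(Tr.nd (nat_lit 19173) (Tr.nd (nat_lit 19170) (Tr.nd (nat_lit 19169) (Tr.lf (Fc.ed (nat_lit 19168) (nat_lit 6088) Col.e (nat_lit 3350) (Dv.wd (nat_lit 117) [Mv.b (nat_lit 15508), Mv.f (nat_lit 19159)])))
(Tr.lf (Fc.ed (nat_lit 19169) (nat_lit 3533) Col.e (nat_lit 3524) (Dv.wd (nat_lit 117) [Mv.b (nat_lit 13546), Mv.b (nat_lit 19160)]))))
(Tr.nd (nat_lit 19171) (Tr.lf (Fc.al (nat_lit 19170) (nat_lit 6750) (nat_lit 6014) (Dv.wd (nat_lit 119) [Mv.f (nat_lit 17658), Mv.b (nat_lit 19163), Mv.f (nat_lit 17620)])))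
(Tr.nd (nat_lit 19172) (Tr.lf (Fc.al (nat_lit 19171) (nat_lit 6159) (nat_lit 6165) (Dv.wd (nat_lit 117) [Mv.b (nat_lit 17659), Mv.b (nat_lit 19163), Mv.b (nat_lit 15447)])))
(Tr.lf (Fc.al (nat_lit 19172) (nat_lit 3816) (nat_lit 5769) (Dv.wd (nat_lit 30) [Mv.b (nat_lit 17660), Mv.b (nat_lit 19163), Mv.f (nat_lit 10441)]))))))
(Tr.nd (nat_lit 19176) (Tr.nd (nat_lit 19174) (Tr.lf (Fc.ed (nat_lit 19173) (nat_lit 6148) Col.g (nat_lit 6589) (Dv.wd (nat_lit 129) [Mv.b (nat_lit 17182), Mv.b (nat_lit 19164)])))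
(Tr.nd (nat_lit 19175) (Tr.lf (Fc.ed (nat_lit 19174) (nat_lit 6148) Col.gi (nat_lit 6901) (Dv.wd (nat_lit 128) [Mv.b (nat_lit 17942), Mv.b (nat_lit 19164)])))
(Tr.lf (Fc.ed (nat_lit 19175) (nat_lit 6148) Col.a (nat_lit 6088) (Dv.wd (nat_lit 29) [Mv.b (nat_lit 15891), Mv.b (nat_lit 19164)])))))
(Tr.nd (nat_lit 19177) (Tr.lf (Fc.ed (nat_lit 19176) (nat_lit 6148) Col.f (nat_lit 5293) (Dv.wd (nat_lit 30) [Mv.f (nat_lit 15890), Mv.b (nat_lit 19164)])))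
(Tr.nd (nat_lit 19178) (Tr.lf (Fc.ed (nat_lit 19177) (nat_lit 3636) Col.e (nat_lit 5415) (Dv.wd (nat_lit 117) [Mv.b (nat_lit 14376), Mv.b (nat_lit 19165)])))
(Tr.lf (Fc.al (nat_lit 19178) (nat_lit 6075) (nat_lit 6621) (Dv.wd (nat_lit 120) [Mv.f (nat_lit 18109), Mv.f (nat_lit 19166), Mv.f (nat_lit 15293)])))))))))
(Tr.nd (nat_lit 19199) (Tr.nd (nat_lit 19189) (Tr.nd (nat_lit 19184) (Tr.nd (nat_lit 19181) (Tr.nd (nat_lit 19180) (Tr.lf (Fc.ed (nat_lit 19179) (nat_lit 3603) Col.e (nat_lit 3386) (Dv.wd (nat_lit 117) [Mv.b (nat_lit 13508), Mv.b (nat_lit 19167)])))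
(Tr.lf (Fc.al (nat_lit 19180) (nat_lit 6253) (nat_lit 6693) (Dv.wd (nat_lit 129) [Mv.b (nat_lit 17623), Mv.f (nat_lit 19170), Mv.b (nat_lit 15628)]))))
(Tr.nd (nat_lit 19182) (Tr.lf (Fc.ed (nat_lit 19181) (nat_lit 6014) Col.b (nat_lit 4028) (Dv.wd (nat_lit 119) [Mv.f (nat_lit 17620), Mv.f (nat_lit 19170)])))
(Tr.nd (nat_lit 19183) (Tr.lf (Fc.al (nat_lit 19182) (nat_lit 6920) (nat_lit 6580) (Dv.wd (nat_lit 120) [Mv.b (nat_lit 17621), Mv.f (nat_lit 19170), Mv.f (nat_lit 17978)])))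
(Tr.lf (Fc.al (nat_lit 19183) (nat_lit 5600) (nat_lit 6466) (Dv.wd (nat_lit 30) [Mv.b (nat_lit 17622), Mv.f (nat_lit 19170), Mv.f (nat_lit 15187)]))))))
(Tr.nd (nat_lit 19186) (Tr.nd (nat_lit 19185) (Tr.lf (Fc.ed (nat_lit 19184) (nat_lit 6159) Col.a (nat_lit 6162) (Dv.wd (nat_lit 29) [Mv.f (nat_lit 15456), Mv.b (nat_lit 19171)])))
(Tr.lf (Fc.ed (nat_lit 19185) (nat_lit 6159) Col.b (nat_lit 5683) (Dv.wd (nat_lit 119) [Mv.b (nat_lit 15458), Mv.b (nat_lit 19171)]))))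
(Tr.nd (nat_lit 19187) (Tr.lf (Fc.ed (nat_lit 19186) (nat_lit 6159) Col.f (nat_lit 4981) (Dv.wd (nat_lit 30) [Mv.b (nat_lit 15457), Mv.b (nat_lit 19171)])))
(Tr.nd (nat_lit 19188) (Tr.lf (Fc.ed (nat_lit 19187) (nat_lit 3816) Col.e (nat_lit 5306) (Dv.wd (nat_lit 117) [Mv.b (nat_lit 14642), Mv.b (nat_lit 19172)])))
(Tr.lf (Fc.ed (nat_lit 19188) (nat_lit 6075) Col.b (nat_lit 3756) (Dv.wd (nat_lit 119) [Mv.f (nat_lit 17238), Mv.b (nat_lit 19178)])))))))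
(Tr.nd (nat_lit 19194) (Tr.nd (nat_lit 19191) (Tr.nd (nat_lit 19190) (Tr.lf (Fc.al (nat_lit 19189) (nat_lit 6241) (nat_lit 6682) (Dv.wd (nat_lit 30) [Mv.f (nat_lit 17422), Mv.b (nat_lit 19178), Mv.b (nat_lit 15606)])))
(Tr.lf (Fc.ed (nat_lit 19190) (nat_lit 6253) Col.d (nat_lit 6925) (Dv.wd (nat_lit 120) [Mv.b (nat_lit 17989), Mv.b (nat_lit 19180)]))))
(Tr.nd (nat_lit 19192) (Tr.lf (Fc.ed (nat_lit 19191) (nat_lit 6580) Col.a (nat_lit 6417) (Dv.wd (nat_lit 29) [Mv.b (nat_lit 17979), Mv.f (nat_lit 19182)])))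
(Tr.nd (nat_lit 19193) (Tr.lf (Fc.ed (nat_lit 19192) (nat_lit 5600) Col.d (nat_lit 6400) (Dv.wd (nat_lit 120) [Mv.b (nat_lit 16755), Mv.b (nat_lit 19183)])))
(Tr.lf (Fc.ed (nat_lit 19193) (nat_lit 6241) Col.b (nat_lit 3578) (Dv.wd (nat_lit 119) [Mv.f (nat_lit 17421), Mv.b (nat_lit 19189)]))))))
(Tr.nd (nat_lit 19196) (Tr.nd (nat_lit 19195) (Tr.lf (Fc.ed (nat_lit 19194) (nat_lit 6241) Col.c (nat_lit 6609) (Dv.wd (nat_lit 103) [Mv.b (nat_lit 17423), Mv.b (nat_lit 19189)])))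
(Tr.lf (Fc.ed (nat_lit 19195) (nat_lit 6778) Col.c (nat_lit 6323) (Dv.wd (nat_lit 109) [Mv.b (nat_lit 15823), Mv.f (nat_lit 19194), Mv.b (nat_lit 17681)]))))
(Tr.nd (nat_lit 19197) (Tr.lf (Fc.ed (nat_lit 19196) (nat_lit 5586) Col.e (nat_lit 6843) (Dv.wd (nat_lit 74) [Mv.b (nat_lit 17829), Mv.b (nat_lit 8352), Mv.f (nat_lit 11299), Mv.b (nat_lit 17633), Mv.b (nat_lit 17634), Mv.f (nat_lit 15395), Mv.b (nat_lit 14278), Mv.f (nat_lit 19192), Mv.f (nat_lit 15983), Mv.f (nat_lit 15656)])))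
(Tr.nd (nat_lit 19198) (Tr.lf (Fc.ed (nat_lit 19197) (nat_lit 6417) Col.gi (nat_lit 6839) (Dv.wd (nat_lit 12) [Mv.b (nat_lit 17810), Mv.b (nat_lit 17149), Mv.f (nat_lit 19191)])))
(Tr.lf (Fc.ed (nat_lit 19198) (nat_lit 6132) Col.d (nat_lit 6548) (Dv.wd (nat_lit 36) [Mv.f (nat_lit 17082), Mv.b (nat_lit 10426), Mv.f (nat_lit 19169), Mv.b (nat_lit 12558), Mv.b (nat_lit 15402)]))))))))
(Tr.nd (nat_lit 19209) (Tr.nd (nat_lit 19204) (Tr.nd (nat_lit 19201) (Tr.nd (nat_lit 19200) (Tr.lf (Fc.ed (nat_lit 19199) (nat_lit 6462) Col.a (nat_lit 6203) (Dv.wd (nat_lit 19) [Mv.b (nat_lit 17229), Mv.f (nat_lit 17228), Mv.f (nat_lit 19151)])))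
(Tr.lf (Fc.ed (nat_lit 19200) (nat_lit 6462) Col.f (nat_lit 6730) (Dv.wd (nat_lit 26) [Mv.b (nat_lit 17575), Mv.b (nat_lit 17079), Mv.f (nat_lit 19151)]))))
(Tr.nd (nat_lit 19202) (Tr.lf (Fc.ed (nat_lit 19201) (nat_lit 6872) Col.b (nat_lit 6547) (Dv.wd (nat_lit 107) [Mv.b (nat_lit 17079), Mv.f (nat_lit 19150), Mv.f (nat_lit 17893)])))
(Tr.nd (nat_lit 19203) (Tr.lf (Fc.ed (nat_lit 19202) (nat_lit 5700) Col.f (nat_lit 6010) (Dv.wd (nat_lit 20) [Mv.f (nat_lit 15308), Mv.f (nat_lit 19148), Mv.f (nat_lit 19120)])))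
(Tr.lf (Fc.al (nat_lit 19203) (nat_lit 6011) (nat_lit 6452) (Dv.wd (nat_lit 12) [Mv.b (nat_lit 16729), Mv.b (nat_lit 14463), Mv.f (nat_lit 19202), Mv.f (nat_lit 15179)]))))))
(Tr.nd (nat_lit 19206) (Tr.nd (nat_lit 19205) (Tr.lf (Fc.ed (nat_lit 19204) (nat_lit 6011) Col.g (nat_lit 3010) (Dv.wd (nat_lit 129) [Mv.b (nat_lit 16730), Mv.b (nat_lit 19203)])))
(Tr.lf (Fc.ed (nat_lit 19205) (nat_lit 6011) Col.c (nat_lit 6585) (Dv.wd (nat_lit 103) [Mv.f (nat_lit 17168), Mv.b (nat_lit 19203)]))))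
(Tr.nd (nat_lit 19207) (Tr.lf (Fc.ed (nat_lit 19206) (nat_lit 6011) Col.d (nat_lit 6294) (Dv.wd (nat_lit 120) [Mv.b (nat_lit 18062), Mv.b (nat_lit 19203)])))
(Tr.nd (nat_lit 19208) (Tr.lf (Fc.al (nat_lit 19207) (nat_lit 7018) (nat_lit 6009) (Dv.wd (nat_lit 67) [Mv.b (nat_lit 15176), Mv.b (nat_lit 15180), Mv.f (nat_lit 19205), Mv.f (nat_lit 18167)])))
(Tr.lf (Fc.ed (nat_lit 19208) (nat_lit 6009) Col.f (nat_lit 6585) (Dv.wd (nat_lit 30) [Mv.f (nat_lit 18167), Mv.f (nat_lit 19207)])))))))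
(Tr.nd (nat_lit 19214) (Tr.nd (nat_lit 19211) (Tr.nd (nat_lit 19210) (Tr.lf (Fc.ed (nat_lit 19209) (nat_lit 6015) Col.gi (nat_lit 6337) (Dv.wd (nat_lit 141) [Mv.b (nat_lit 15850), Mv.b (nat_lit 19145), Mv.f (nat_lit 19147), Mv.f (nat_lit 19067), Mv.f (nat_lit 19054), Mv.f (nat_lit 19142), Mv.b (nat_lit 17816), Mv.b (nat_lit 17817), Mv.b (nat_lit 17194)])))
(Tr.lf (Fc.ed (nat_lit 19210) (nat_lit 4318) Col.d (nat_lit 6015) (Dv.wd (nat_lit 113) [Mv.f (nat_lit 19209), Mv.b (nat_lit 15850), Mv.f (nat_lit 18339), Mv.b (nat_lit 15433), Mv.b (nat_lit 13692), Mv.f (nat_lit 13113), Mv.b (nat_lit 13115), Mv.b (nat_lit 7129), Mv.b (nat_lit 18266)]))))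
(Tr.nd (nat_lit 19212) (Tr.lf (Fc.ed (nat_lit 19211) (nat_lit 6595) Col.d (nat_lit 6941) (Dv.wd (nat_lit 44) [Mv.b (nat_lit 18025), Mv.b (nat_lit 15647), Mv.f (nat_lit 15512), Mv.f (nat_lit 11939), Mv.f (nat_lit 9864), Mv.f (nat_lit 9865), Mv.b (nat_lit 18266), Mv.f (nat_lit 19210), Mv.f (nat_lit 17194)])))
(Tr.nd (nat_lit 19213) (Tr.lf (Fc.ed (nat_lit 19212) (nat_lit 5256) Col.d (nat_lit 4362) (Dv.wd (nat_lit 48) [Mv.f (nat_lit 18459), Mv.f (nat_lit 10051), Mv.f (nat_lit 6014), Mv.f (nat_lit 7129), Mv.b (nat_lit 18363), Mv.b (nat_lit 19055), Mv.f (nat_lit 19054), Mv.f (nat_lit 19142), Mv.f (nat_lit 13540)])))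
(Tr.lf (Fc.al (nat_lit 19213) (nat_lit 6745) (nat_lit 6994) (Dv.wd (nat_lit 125) [Mv.b (nat_lit 18119), Mv.f (nat_lit 19140), Mv.b (nat_lit 15756), Mv.b (nat_lit 19134)]))))))
(Tr.nd (nat_lit 19217) (Tr.nd (nat_lit 19215) (Tr.lf (Fc.ed (nat_lit 19214) (nat_lit 6745) Col.f (nat_lit 6943) (Dv.wd (nat_lit 30) [Mv.f (nat_lit 18119), Mv.b (nat_lit 19213)])))
(Tr.nd (nat_lit 19216) (Tr.lf (Fc.ed (nat_lit 19215) (nat_lit 6539) Col.a (nat_lit 6745) (Dv.wd (nat_lit 114) [Mv.f (nat_lit 19214), Mv.b (nat_lit 18027), Mv.f (nat_lit 19139)])))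
(Tr.lf (Fc.ed (nat_lit 19216) (nat_lit 6011) Col.b (nat_lit 6539) (Dv.wd (nat_lit 108) [Mv.f (nat_lit 19215), Mv.f (nat_lit 19134), Mv.b (nat_lit 19146), Mv.b (nat_lit 15308), Mv.f (nat_lit 15179)])))))
(Tr.nd (nat_lit 19218) (Tr.lf (Fc.ed (nat_lit 19217) (nat_lit 3585) Col.c (nat_lit 6472) (Dv.wd (nat_lit 142) [Mv.f (nat_lit 16768), Mv.f (nat_lit 9178), Mv.b (nat_lit 9046), Mv.b (nat_lit 8072), Mv.f (nat_lit 19110), Mv.f (nat_lit 5923), Mv.b (nat_lit 7017), Mv.f (nat_lit 18335), Mv.b (nat_lit 11176), Mv.b (nat_lit 9028)])))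
(Tr.nd (nat_lit 19219) (Tr.lf (Fc.ed (nat_lit 19218) (nat_lit 5224) Col.b (nat_lit 3844) (Dv.wd (nat_lit 158) [Mv.f (nat_lit 14494), Mv.f (nat_lit 11489), Mv.f (nat_lit 19078), Mv.b (nat_lit 12519), Mv.f (nat_lit 14523)])))
(Tr.lf (Fc.ed (nat_lit 19219) (nat_lit 4021) Col.b (nat_lit 5404) (Dv.wd (nat_lit 107) [Mv.b (nat_lit 14524), Mv.f (nat_lit 19218), Mv.f (nat_lit 18387)])))))))))))
(Tr.nd (nat_lit 19302) (Tr.nd (nat_lit 19261) (Tr.nd (nat_lit 19240) (Tr.nd (nat_lit 19230) (Tr.nd (nat_lit 19225) (Tr.nd (nat_lit 19222) (Tr.nd (nat_lit 19221) (Tr.lf (Fc.ed (nat_lit 19220) (nat_lit 5706) Col.b (nat_lit 5622) (Dv.wd (nat_lit 106) [Mv.b (nat_lit 14323), Mv.b (nat_lit 8987), Mv.b (nat_lit 8567), Mv.b (nat_lit 7298), Mv.b (nat_lit 16831), Mv.f (nat_lit 19219), Mv.f (nat_lit 18427), Mv.b (nat_lit 13952), Mv.b (nat_lit 13940),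 Mv.f (nat_lit 14471)])))
(Tr.lf (Fc.ed (nat_lit 19221) (nat_lit 6992) Col.d (nat_lit 6818) (Dv.wd (nat_lit 181) [Mv.f (nat_lit 17762), Mv.f (nat_lit 15849), Mv.b (nat_lit 11424), Mv.f (nat_lit 19075), Mv.b (nat_lit 6082), Mv.f (nat_lit 9981), Mv.f (nat_lit 6802), Mv.f (nat_lit 12888), Mv.f (nat_lit 18117)]))))
(Tr.nd (nat_lit 19223) (Tr.lf (Fc.ed (nat_lit 19222) (nat_lit 6992) Col.a (nat_lit 7044) (Dv.wd (nat_lit 166) [Mv.f (nat_lit 18214), Mv.f (nat_lit 18122), Mv.b (nat_lit 14257), Mv.f (nat_lit 19075), Mv.b (nat_lit 6082), Mv.f (nat_lit 9981), Mv.f (nat_lit 6802), Mv.f (nat_lit 12888), Mv.f (nat_lit 18117)])))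
(Tr.nd (nat_lit 19224) (Tr.lf (Fc.ed (nat_lit 19223) (nat_lit 6996) Col.g (nat_lit 7012) (Dv.wd (nat_lit 17) [Mv.b (nat_lit 18154), Mv.f (nat_lit 19222), Mv.f (nat_lit 18214)])))
(Tr.lf (Fc.ed (nat_lit 19224) (nat_lit 6027) Col.f (nat_lit 3407) (Dv.wd (nat_lit 112) [Mv.b (nat_lit 10049), Mv.b (nat_lit 6082), Mv.f (nat_lit 9981), Mv.f (nat_lit 6802), Mv.f (nat_lit 12888), Mv.f (nat_lit 18117), Mv.f (nat_lit 19221), Mv.f (nat_lit 17762), Mv.f (nat_lit 15848)]))))))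
(Tr.nd (nat_lit 19227) (Tr.nd (nat_lit 19226) (Tr.lf (Fc.ed (nat_lit 19225) (nat_lit 3407) Col.b (nat_lit 6081) (Dv.wd (nat_lit 66) [Mv.f (nat_lit 15306), Mv.b (nat_lit 15209), Mv.f (nat_lit 19224)])))
(Tr.lf (Fc.ed (nat_lit 19226) (nat_lit 4362) Col.g (nat_lit 4571) (Dv.wd (nat_lit 9) [Mv.f (nat_lit 15208), Mv.f (nat_lit 19224), Mv.b (nat_lit 18459)]))))
(Tr.nd (nat_lit 19228) (Tr.lf (Fc.ed (nat_lit 19227) (nat_lit 957) Col.e (nat_lit 6027) (Dv.wd (nat_lit 57) [Mv.f (nat_lit 19224), Mv.b (nat_lit 8678), Mv.b (nat_lit 8576), Mv.b (nat_lit 5023), Mv.b (nat_lit 9988)])))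
(Tr.nd (nat_lit 19229) (Tr.lf (Fc.ed (nat_lit 19228) (nat_lit 4571) Col.e (nat_lit 1053) (Dv.wd (nat_lit 56) [Mv.f (nat_lit 10044), Mv.f (nat_lit 19227), Mv.b (nat_lit 15208)])))
(Tr.lf (Fc.ed (nat_lit 19229) (nat_lit 5974) Col.e (nat_lit 2049) (Dv.wd (nat_lit 52) [Mv.b (nat_lit 5682), Mv.f (nat_lit 19227), Mv.f (nat_lit 15209)])))))))
(Tr.nd (nat_lit 19235) (Tr.nd (nat_lit 19232) (Tr.nd (nat_lit 19231) (Tr.lf (Fc.ed (nat_lit 19230) (nat_lit 6765) Col.e (nat_lit 4910) (Dv.wd (nat_lit 47) [Mv.b (nat_lit 17010), Mv.b (nat_lit 15424), Mv.f (nat_lit 15112), Mv.f (nat_lit 19229), Mv.f (nat_lit 15501), Mv.f (nat_lit 17098), Mv.b (nat_lit 12550), Mv.f (nat_lit 11916), Mv.b (nat_lit 11944), Mv.b (nat_lit 17653)])))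
(Tr.lf (Fc.ed (nat_lit 19231) (nat_lit 6238) Col.e (nat_lit 5411) (Dv.wd (nat_lit 74) [Mv.f (nat_lit 13881), Mv.b (nat_lit 8679), Mv.b (nat_lit 8117), Mv.b (nat_lit 15810), Mv.f (nat_lit 17113), Mv.f (nat_lit 16713), Mv.f (nat_lit 19229), Mv.b (nat_lit 6241), Mv.f (nat_lit 18207), Mv.b (nat_lit 18209)]))))
(Tr.nd (nat_lit 19233) (Tr.lf (Fc.al (nat_lit 19232) (nat_lit 5738) (nat_lit 6765) (Dv.wd (nat_lit 56) [Mv.f (nat_lit 19230), Mv.f (nat_lit 15598), Mv.f (nat_lit 19231), Mv.b (nat_lit 14584)])))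
(Tr.nd (nat_lit 19234) (Tr.lf (Fc.ed (nat_lit 19233) (nat_lit 5738) Col.c (nat_lit 6848) (Dv.wd (nat_lit 103) [Mv.f (nat_lit 18523), Mv.b (nat_lit 19232)])))
(Tr.lf (Fc.ed (nat_lit 19234) (nat_lit 5738) Col.e (nat_lit 4910) (Dv.wd (nat_lit 117) [Mv.b (nat_lit 19230), Mv.b (nat_lit 19232)]))))))
(Tr.nd (nat_lit 19237) (Tr.nd (nat_lit 19236) (Tr.lf (Fc.ed (nat_lit 19235) (nat_lit 6709) Col.e (nat_lit 6848) (Dv.wd (nat_lit 25) [Mv.b (nat_lit 19233), Mv.f (nat_lit 19234), Mv.f (nat_lit 17533)])))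
(Tr.lf (Fc.ed (nat_lit 19236) (nat_lit 6521) Col.e (nat_lit 6761) (Dv.wd (nat_lit 52) [Mv.f (nat_lit 17644), Mv.f (nat_lit 19235), Mv.b (nat_lit 17844)]))))
(Tr.nd (nat_lit 19238) (Tr.lf (Fc.ed (nat_lit 19237) (nat_lit 5592) Col.d (nat_lit 6755) (Dv.wd (nat_lit 27) [Mv.f (nat_lit 17631), Mv.b (nat_lit 11631), Mv.f (nat_lit 19228), Mv.f (nat_lit 3267), Mv.b (nat_lit 5266), Mv.b (nat_lit 7399), Mv.f (nat_lit 11800), Mv.b (nat_lit 11948), Mv.f (nat_lit 13830), Mv.b (nat_lit 19132)])))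
(Tr.nd (nat_lit 19239) (Tr.lf (Fc.ed (nat_lit 19238) (nat_lit 4571) Col.g (nat_lit 4146) (Dv.wd (nat_lit 9) [Mv.f (nat_lit 18455), Mv.f (nat_lit 11187), Mv.f (nat_lit 19226)])))
(Tr.lf (Fc.ed (nat_lit 19239) (nat_lit 6350) Col.g (nat_lit 4951) (Dv.wd (nat_lit 69) [Mv.b (nat_lit 12861), Mv.f (nat_lit 19083), Mv.f (nat_lit 13113), Mv.f (nat_lit 13114), Mv.f (nat_lit 11939), Mv.f (nat_lit 7813), Mv.f (nat_lit 19048), Mv.f (nat_lit 19238), Mv.f (nat_lit 15874)]))))))))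
(Tr.nd (nat_lit 19250) (Tr.nd (nat_lit 19245) (Tr.nd (nat_lit 19242) (Tr.nd (nat_lit 19241) (Tr.lf (Fc.al (nat_lit 19240) (nat_lit 6319) (nat_lit 4229) (Dv.wd (nat_lit 104) [Mv.f (nat_lit 10895), Mv.b (nat_lit 3341), Mv.b (nat_lit 2434), Mv.f (nat_lit 3268), Mv.f (nat_lit 11630), Mv.f (nat_lit 19238), Mv.f (nat_lit 18456), Mv.f (nat_lit 18270), Mv.b (nat_lit 7699), Mv.f (nat_lit 10776), Mv.b (nat_lit 15812)])))
(Tr.lf (Fc.al (nat_lit 19241) (nat_lit 6287) (nat_lit 5939) (Dv.wd (nat_lit 128) [Mv.f (nat_lit 15811), Mv.f (nat_lit 19240), Mv.b (nat_lit 15754)]))))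
(Tr.nd (nat_lit 19243) (Tr.lf (Fc.ed (nat_lit 19242) (nat_lit 4229) Col.gi (nat_lit 4165) (Dv.wd (nat_lit 128) [Mv.b (nat_lit 15812), Mv.f (nat_lit 19240)])))
(Tr.nd (nat_lit 19244) (Tr.lf (Fc.ed (nat_lit 19243) (nat_lit 5939) Col.g (nat_lit 4773) (Dv.wd (nat_lit 129) [Mv.f (nat_lit 15753), Mv.f (nat_lit 19241)])))
(Tr.lf (Fc.ed (nat_lit 19244) (nat_lit 5939) Col.gi (nat_lit 4229) (Dv.wd (nat_lit 128) [Mv.b (nat_lit 15754), Mv.f (nat_lit 19241)]))))))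
(Tr.nd (nat_lit 19247) (Tr.nd (nat_lit 19246) (Tr.lf (Fc.ed (nat_lit 19245) (nat_lit 5939) Col.b (nat_lit 6550) (Dv.wd (nat_lit 119) [Mv.b (nat_lit 17084), Mv.f (nat_lit 19241)])))
(Tr.lf (Fc.ed (nat_lit 19246) (nat_lit 6550) Col.f (nat_lit 6216) (Dv.wd (nat_lit 20) [Mv.b (nat_lit 15563), Mv.b (nat_lit 15191), Mv.f (nat_lit 19245)]))))
(Tr.nd (nat_lit 19248) (Tr.lf (Fc.al (nat_lit 19247) (nat_lit 6482) (nat_lit 5972) (Dv.wd (nat_lit 158) [Mv.b (nat_lit 15107), Mv.f (nat_lit 13617), Mv.b (nat_lit 13788), Mv.b (nat_lit 15021), Mv.f (nat_lit 19245), Mv.f (nat_lit 17085)])))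
(Tr.nd (nat_lit 19249) (Tr.lf (Fc.ed (nat_lit 19248) (nat_lit 5972) Col.g (nat_lit 2537) (Dv.wd (nat_lit 129) [Mv.b (nat_lit 16786), Mv.f (nat_lit 19247)])))
(Tr.lf (Fc.ed (nat_lit 19249) (nat_lit 5972) Col.gi (nat_lit 4953) (Dv.wd (nat_lit 128) [Mv.f (nat_lit 16785), Mv.f (nat_lit 19247)])))))))
(Tr.nd (nat_lit 19255) (Tr.nd (nat_lit 19252) (Tr.nd (nat_lit 19251) (Tr.lf (Fc.ed (nat_lit 19250) (nat_lit 5972) Col.c (nat_lit 6550) (Dv.wd (nat_lit 103) [Mv.f (nat_lit 17085), Mv.f (nat_lit 19247)])))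
(Tr.lf (Fc.ed (nat_lit 19251) (nat_lit 5972) Col.d (nat_lit 5789) (Dv.wd (nat_lit 120) [Mv.b (nat_lit 17336), Mv.f (nat_lit 19247)]))))
(Tr.nd (nat_lit 19253) (Tr.lf (Fc.ed (nat_lit 19252) (nat_lit 4773) Col.g (nat_lit 4165) (Dv.wd (nat_lit 9) [Mv.b (nat_lit 15192), Mv.b (nat_lit 15191), Mv.f (nat_lit 19243)])))
(Tr.nd (nat_lit 19254) (Tr.lf (Fc.ed (nat_lit 19253) (nat_lit 4362) Col.b (nat_lit 7049) (Dv.wd (nat_lit 165) [Mv.b (nat_lit 18222), Mv.b (nat_lit 15409), Mv.b (nat_lit 11798), Mv.b (nat_lit 12921), Mv.b (nat_lit 12919), Mv.f (nat_lit 19252), Mv.b (nat_lit 10776), Mv.f (nat_lit 7699), Mv.b (nat_lit 18268), Mv.f (nat_lit 16968)])))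
(Tr.lf (Fc.ed (nat_lit 19254) (nat_lit 6888) Col.g (nat_lit 6595) (Dv.wd (nat_lit 77) [Mv.b (nat_lit 17194), Mv.b (nat_lit 19210), Mv.f (nat_lit 18266), Mv.b (nat_lit 6014), Mv.b (nat_lit 10051), Mv.f (nat_lit 10717), Mv.f (nat_lit 15874), Mv.f (nat_lit 19239), Mv.f (nat_lit 17922)]))))))
(Tr.nd (nat_lit 19258) (Tr.nd (nat_lit 19256) (Tr.lf (Fc.ed (nat_lit 19255) (nat_lit 6941) Col.g (nat_lit 7044) (Dv.wd (nat_lit 69) [Mv.b (nat_lit 18212), Mv.b (nat_lit 13696), Mv.b (nat_lit 11631), Mv.b (nat_lit 19226), Mv.b (nat_lit 19212), Mv.f (nat_lit 13541), Mv.f (nat_lit 17922), Mv.f (nat_lit 19254), Mv.f (nat_lit 19211)])))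
(Tr.nd (nat_lit 19257) (Tr.lf (Fc.ed (nat_lit 19256) (nat_lit 6281) Col.b (nat_lit 6664) (Dv.wd (nat_lit 104) [Mv.b (nat_lit 17384), Mv.b (nat_lit 17054), Mv.b (nat_lit 8913), Mv.f (nat_lit 8912), Mv.b (nat_lit 18255), Mv.f (nat_lit 18257), Mv.b (nat_lit 7812), Mv.b (nat_lit 10051), Mv.f (nat_lit 19225), Mv.f (nat_lit 15743)])))
(Tr.lf (Fc.ed (nat_lit 19257) (nat_lit 6152) Col.b (nat_lit 4318) (Dv.wd (nat_lit 154) [Mv.f (nat_lit 18266), Mv.b (nat_lit 6014), Mv.b (nat_lit 10051), Mv.f (nat_lit 19225), Mv.b (nat_lit 15502), Mv.f (nat_lit 15503), Mv.b (nat_lit 15149), Mv.b (nat_lit 14898), Mv.b (nat_lit 14400), Mv.b (nat_lit 15432)])))))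
(Tr.nd (nat_lit 19259) (Tr.lf (Fc.al (nat_lit 19258) (nat_lit 6018) (nat_lit 5664) (Dv.wd (nat_lit 157) [Mv.b (nat_lit 14407), Mv.b (nat_lit 9068), Mv.b (nat_lit 3036), Mv.b (nat_lit 2354), Mv.f (nat_lit 3021), Mv.f (nat_lit 5682), Mv.b (nat_lit 15744), Mv.f (nat_lit 19256), Mv.b (nat_lit 17384), Mv.f (nat_lit 17055), Mv.b (nat_lit 15193)])))
(Tr.nd (nat_lit 19260) (Tr.lf (Fc.al (nat_lit 19259) (nat_lit 4878) (nat_lit 6347) (Dv.wd (nat_lit 128) [Mv.b (nat_lit 15868), Mv.f (nat_lit 19258), Mv.f (nat_lit 14408)])))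
(Tr.lf (Fc.al (nat_lit 19260) (nat_lit 6303) (nat_lit 4165) (Dv.wd (nat_lit 29) [Mv.b (nat_lit 15192), Mv.f (nat_lit 19258), Mv.b (nat_lit 15784)])))))))))
(Tr.nd (nat_lit 19281) (Tr.nd (nat_lit 19271) (Tr.nd (nat_lit 19266) (Tr.nd (nat_lit 19263) (Tr.nd (nat_lit 19262) (Tr.lf (Fc.al (nat_lit 19261) (nat_lit 6584) (nat_lit 6216) (Dv.wd (nat_lit 119) [Mv.b (nat_lit 15563), Mv.f (nat_lit 19258), Mv.b (nat_lit 17158)])))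
(Tr.lf (Fc.ed (nat_lit 19262) (nat_lit 5664) Col.c (nat_lit 5683) (Dv.wd (nat_lit 103) [Mv.b (nat_lit 15193), Mv.f (nat_lit 19258)]))))
(Tr.nd (nat_lit 19264) (Tr.lf (Fc.ed (nat_lit 19263) (nat_lit 5664) Col.f (nat_lit 5939) (Dv.wd (nat_lit 30) [Mv.f (nat_lit 15191), Mv.f (nat_lit 19258)])))
(Tr.nd (nat_lit 19265) (Tr.lf (Fc.al (nat_lit 19264) (nat_lit 5579) (nat_lit 3525) (Dv.wd (nat_lit 128) [Mv.b (nat_lit 15869), Mv.b (nat_lit 19259), Mv.f (nat_lit 14240)])))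
(Tr.lf (Fc.ed (nat_lit 19265) (nat_lit 4165) Col.d (nat_lit 5608) (Dv.wd (nat_lit 120) [Mv.b (nat_lit 15817), Mv.f (nat_lit 19260)]))))))
(Tr.nd (nat_lit 19268) (Tr.nd (nat_lit 19267) (Tr.lf (Fc.ed (nat_lit 19266) (nat_lit 6216) Col.b (nat_lit 5664) (Dv.wd (nat_lit 119) [Mv.b (nat_lit 17158), Mv.f (nat_lit 19261)])))
(Tr.lf (Fc.ed (nat_lit 19267) (nat_lit 6216) Col.c (nat_lit 6475) (Dv.wd (nat_lit 103) [Mv.f (nat_lit 17159), Mv.f (nat_lit 19261)]))))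
(Tr.nd (nat_lit 19269) (Tr.lf (Fc.ed (nat_lit 19268) (nat_lit 3525) Col.gi (nat_lit 4878) (Dv.wd (nat_lit 128) [Mv.f (nat_lit 14240), Mv.f (nat_lit 19264)])))
(Tr.nd (nat_lit 19270) (Tr.lf (Fc.ed (nat_lit 19269) (nat_lit 3525) Col.d (nat_lit 4740) (Dv.wd (nat_lit 120) [Mv.f (nat_lit 15819), Mv.f (nat_lit 19264)])))
(Tr.lf (Fc.ed (nat_lit 19270) (nat_lit 4740) Col.b (nat_lit 6534) (Dv.wd (nat_lit 37) [Mv.b (nat_lit 17057), Mv.b (nat_lit 8912), Mv.f (nat_lit 19269)])))))))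
(Tr.nd (nat_lit 19276) (Tr.nd (nat_lit 19273) (Tr.nd (nat_lit 19272) (Tr.lf (Fc.ed (nat_lit 19271) (nat_lit 6699) Col.b (nat_lit 5608) (Dv.wd (nat_lit 107) [Mv.b (nat_lit 14295), Mv.f (nat_lit 19270), Mv.b (nat_lit 17490)])))
(Tr.lf (Fc.ed (nat_lit 19272) (nat_lit 6475) Col.f (nat_lit 5972) (Dv.wd (nat_lit 26) [Mv.f (nat_lit 19250), Mv.f (nat_lit 19246), Mv.f (nat_lit 19267)]))))
(Tr.nd (nat_lit 19274) (Tr.lf (Fc.ed (nat_lit 19273) (nat_lit 6475) Col.b (nat_lit 6148) (Dv.wd (nat_lit 87) [Mv.f (nat_lit 15446), Mv.f (nat_lit 19185), Mv.b (nat_lit 19262), Mv.b (nat_lit 19266), Mv.f (nat_lit 19267)])))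
(Tr.nd (nat_lit 19275) (Tr.lf (Fc.ed (nat_lit 19274) (nat_lit 7025) Col.b (nat_lit 5998) (Dv.wd (nat_lit 126) [Mv.b (nat_lit 17166), Mv.f (nat_lit 19273), Mv.f (nat_lit 18179)])))
(Tr.lf (Fc.al (nat_lit 19275) (nat_lit 5789) (nat_lit 6617) (Dv.wd (nat_lit 11) [Mv.f (nat_lit 17231), Mv.b (nat_lit 17166), Mv.f (nat_lit 19272), Mv.f (nat_lit 19251)]))))))
(Tr.nd (nat_lit 19278) (Tr.nd (nat_lit 19277) (Tr.lf (Fc.ed (nat_lit 19276) (nat_lit 5789) Col.a (nat_lit 6372) (Dv.wd (nat_lit 29) [Mv.f (nat_lit 17230), Mv.b (nat_lit 19275)])))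
(Tr.lf (Fc.ed (nat_lit 19277) (nat_lit 5789) Col.f (nat_lit 5998) (Dv.wd (nat_lit 30) [Mv.b (nat_lit 17231), Mv.b (nat_lit 19275)]))))
(Tr.nd (nat_lit 19279) (Tr.lf (Fc.ed (nat_lit 19278) (nat_lit 5972) Col.a (nat_lit 4887) (Dv.wd (nat_lit 23) [Mv.f (nat_lit 12732), Mv.b (nat_lit 16774), Mv.f (nat_lit 19272)])))
(Tr.nd (nat_lit 19280) (Tr.lf (Fc.ed (nat_lit 19279) (nat_lit 5182) Col.a (nat_lit 6475) (Dv.wd (nat_lit 114) [Mv.f (nat_lit 19272), Mv.f (nat_lit 19248), Mv.f (nat_lit 13375)])))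
(Tr.lf (Fc.ed (nat_lit 19280) (nat_lit 5182) Col.f (nat_lit 4887) (Dv.wd (nat_lit 35) [Mv.b (nat_lit 19278), Mv.b (nat_lit 19272), Mv.b (nat_lit 19279)]))))))))
(Tr.nd (nat_lit 19291) (Tr.nd (nat_lit 19286) (Tr.nd (nat_lit 19283) (Tr.nd (nat_lit 19282) (Tr.lf (Fc.ed (nat_lit 19281) (nat_lit 4887) Col.e (nat_lit 6186) (Dv.wd (nat_lit 56) [Mv.f (nat_lit 15607), Mv.f (nat_lit 15610), Mv.f (nat_lit 19278)])))
(Tr.lf (Fc.ed (nat_lit 19282) (nat_lit 5160) Col.g (nat_lit 3669) (Dv.wd (nat_lit 38) [Mv.f (nat_lit 9177), Mv.b (nat_lit 9441), Mv.b (nat_lit 15920), Mv.b (nat_lit 17164), Mv.f (nat_lit 19281), Mv.b (nat_lit 18124), Mv.b (nat_lit 18123), Mv.f (nat_lit 14149), Mv.b (nat_lit 13704), Mv.b (nat_lit 13334)]))))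
(Tr.nd (nat_lit 19284) (Tr.lf (Fc.ed (nat_lit 19283) (nat_lit 5479) Col.c (nat_lit 6195) (Dv.wd (nat_lit 124) [Mv.b (nat_lit 15513), Mv.b (nat_lit 14386), Mv.f (nat_lit 13333), Mv.f (nat_lit 19282), Mv.f (nat_lit 9178), Mv.b (nat_lit 9046), Mv.f (nat_lit 11646), Mv.b (nat_lit 19117), Mv.f (nat_lit 13868), Mv.f (nat_lit 14055)])))
(Tr.nd (nat_lit 19285) (Tr.lf (Fc.ed (nat_lit 19284) (nat_lit 6195) Col.f (nat_lit 6848) (Dv.wd (nat_lit 26) [Mv.b (nat_lit 19233), Mv.b (nat_lit 14583), Mv.f (nat_lit 19283)])))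
(Tr.lf (Fc.ed (nat_lit 19285) (nat_lit 6521) Col.f (nat_lit 5653) (Dv.wd (nat_lit 20) [Mv.f (nat_lit 15513), Mv.f (nat_lit 19284), Mv.b (nat_lit 17844)]))))))
(Tr.nd (nat_lit 19288) (Tr.nd (nat_lit 19287) (Tr.lf (Fc.ed (nat_lit 19286) (nat_lit 5998) Col.a (nat_lit 5689) (Dv.wd (nat_lit 23) [Mv.f (nat_lit 14446), Mv.b (nat_lit 14705), Mv.f (nat_lit 19277)])))
(Tr.lf (Fc.ed (nat_lit 19287) (nat_lit 6372) Col.f (nat_lit 5689) (Dv.wd (nat_lit 35) [Mv.b (nat_lit 19286), Mv.b (nat_lit 19277), Mv.f (nat_lit 19276)]))))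
(Tr.nd (nat_lit 19289) (Tr.lf (Fc.ed (nat_lit 19288) (nat_lit 5689) Col.d (nat_lit 5182) (Dv.wd (nat_lit 21) [Mv.f (nat_lit 19280), Mv.f (nat_lit 17164), Mv.f (nat_lit 19287)])))
(Tr.nd (nat_lit 19290) (Tr.lf (Fc.ed (nat_lit 19289) (nat_lit 6790) Col.c (nat_lit 5689) (Dv.wd (nat_lit 176) [Mv.f (nat_lit 19288), Mv.b (nat_lit 13375), Mv.f (nat_lit 6826), Mv.f (nat_lit 5402), Mv.f (nat_lit 3839), Mv.b (nat_lit 1948), Mv.f (nat_lit 1739), Mv.f (nat_lit 1344), Mv.f (nat_lit 1443), Mv.f (nat_lit 377), Mv.f (nat_lit 334), Mv.b (nat_lit 2290), Mv.b (nat_lit 3082), Mv.f (nat_lit 3523), Mv.f (nat_lit 10031), Mv.b (nat_lit 13266), Mv.b (nat_lit 13287), Mv.f (nat_lit 14171), Mv.f (nat_lit 17706)])))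
(Tr.lf (Fc.ed (nat_lit 19290) (nat_lit 6603) Col.gi (nat_lit 6904) (Dv.wd (nat_lit 100) [Mv.b (nat_lit 17948), Mv.b (nat_lit 13207), Mv.f (nat_lit 11382), Mv.f (nat_lit 13286), Mv.f (nat_lit 14171), Mv.f (nat_lit 17706), Mv.f (nat_lit 19289), Mv.f (nat_lit 14446), Mv.b (nat_lit 15803), Mv.b (nat_lit 17205)])))))))
(Tr.nd (nat_lit 19296) (Tr.nd (nat_lit 19293) (Tr.nd (nat_lit 19292) (Tr.lf (Fc.ed (nat_lit 19291) (nat_lit 6159) Col.g (nat_lit 6157) (Dv.wd (nat_lit 118) [Mv.b (nat_lit 15443), Mv.b (nat_lit 15217), Mv.b (nat_lit 7104), Mv.b (nat_lit 6920), Mv.b (nat_lit 4816), Mv.f (nat_lit 9199), Mv.f (nat_lit 9200), Mv.f (nat_lit 14407), Mv.f (nat_lit 19262), Mv.b (nat_lit 19185)])))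
(Tr.lf (Fc.ed (nat_lit 19292) (nat_lit 6157) Col.g (nat_lit 4215) (Dv.wd (nat_lit 9) [Mv.f (nat_lit 12915), Mv.b (nat_lit 19186), Mv.f (nat_lit 19291)]))))
(Tr.nd (nat_lit 19294) (Tr.lf (Fc.ed (nat_lit 19293) (nat_lit 6602) Col.gi (nat_lit 5645) (Dv.wd (nat_lit 100) [Mv.b (nat_lit 14370), Mv.f (nat_lit 16791), Mv.b (nat_lit 16789), Mv.f (nat_lit 16866), Mv.b (nat_lit 18368), Mv.f (nat_lit 14109), Mv.f (nat_lit 19073), Mv.f (nat_lit 18690), Mv.f (nat_lit 11107), Mv.f (nat_lit 19071)])))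
(Tr.nd (nat_lit 19295) (Tr.lf (Fc.ed (nat_lit 19294) (nat_lit 5907) Col.c (nat_lit 6823) (Dv.wd (nat_lit 32) [Mv.b (nat_lit 17779), Mv.b (nat_lit 17560), Mv.f (nat_lit 19293), Mv.f (nat_lit 16983), Mv.b (nat_lit 18681), Mv.f (nat_lit 15029), Mv.f (nat_lit 16733), Mv.b (nat_lit 18682), Mv.b (nat_lit 14939)])))
(Tr.lf (Fc.ed (nat_lit 19295) (nat_lit 6722) Col.b (nat_lit 5614) (Dv.wd (nat_lit 158) [Mv.f (nat_lit 14306), Mv.f (nat_lit 11114), Mv.f (nat_lit 11107), Mv.f (nat_lit 19071), Mv.f (nat_lit 17560)]))))))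
(Tr.nd (nat_lit 19299) (Tr.nd (nat_lit 19297) (Tr.lf (Fc.ed (nat_lit 19296) (nat_lit 3438) Col.b (nat_lit 6711) (Dv.wd (nat_lit 107) [Mv.f (nat_lit 18982), Mv.f (nat_lit 19295), Mv.f (nat_lit 14307)])))
(Tr.nd (nat_lit 19298) (Tr.lf (Fc.ed (nat_lit 19297) (nat_lit 4718) Col.b (nat_lit 6499) (Dv.wd (nat_lit 104) [Mv.f (nat_lit 16821), Mv.b (nat_lit 19293), Mv.f (nat_lit 17560), Mv.f (nat_lit 19295), Mv.f (nat_lit 14889), Mv.b (nat_lit 18688), Mv.f (nat_lit 6992), Mv.b (nat_lit 7078), Mv.f (nat_lit 7383), Mv.f (nat_lit 11906)])))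
(Tr.lf (Fc.ed (nat_lit 19298) (nat_lit 6805) Col.b (nat_lit 6604) (Dv.wd (nat_lit 107) [Mv.f (nat_lit 17208), Mv.f (nat_lit 19297), Mv.b (nat_lit 17734)])))))
(Tr.nd (nat_lit 19300) (Tr.lf (Fc.al (nat_lit 19299) (nat_lit 6604) (nat_lit 6478) (Dv.wd (nat_lit 100) [Mv.f (nat_lit 16780), Mv.f (nat_lit 11564), Mv.f (nat_lit 7676), Mv.b (nat_lit 10819), Mv.f (nat_lit 18700), Mv.f (nat_lit 15933), Mv.f (nat_lit 19296), Mv.b (nat_lit 17537), Mv.b (nat_lit 18923), Mv.f (nat_lit 17733), Mv.f (nat_lit 19298)])))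
(Tr.nd (nat_lit 19301) (Tr.lf (Fc.ed (nat_lit 19300) (nat_lit 6478) Col.a (nat_lit 6490) (Dv.wd (nat_lit 29) [Mv.f (nat_lit 17207), Mv.f (nat_lit 19299)])))
(Tr.lf (Fc.ed (nat_lit 19301) (nat_lit 6478) Col.b (nat_lit 6805) (Dv.wd (nat_lit 119) [Mv.f (nat_lit 19298), Mv.f (nat_lit 19299)]))))))))))
(Tr.nd (nat_lit 19343) (Tr.nd (nat_lit 19322) (Tr.nd (nat_lit 19312) (Tr.nd (nat_lit 19307) (Tr.nd (nat_lit 19304) (Tr.nd (nat_lit 19303) (Tr.lf (Fc.ed (nat_lit 19302) (nat_lit 6478) Col.f (nat_lit 4718) (Dv.wd (nat_lit 30) [Mv.b (nat_lit 17208), Mv.f (nat_lit 19299)])))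
(Tr.lf (Fc.al (nat_lit 19303) (nat_lit 6646) (nat_lit 6683) (Dv.wd (nat_lit 12) [Mv.f (nat_lit 17425), Mv.f (nat_lit 16779), Mv.f (nat_lit 19302), Mv.f (nat_lit 17349)]))))
(Tr.nd (nat_lit 19305) (Tr.lf (Fc.ed (nat_lit 19304) (nat_lit 6646) Col.c (nat_lit 6703) (Dv.wd (nat_lit 103) [Mv.f (nat_lit 17507), Mv.b (nat_lit 19303)])))
(Tr.nd (nat_lit 19306) (Tr.lf (Fc.ed (nat_lit 19305) (nat_lit 6703) Col.f (nat_lit 6509) (Dv.wd (nat_lit 26) [Mv.b (nat_lit 16997), Mv.b (nat_lit 17350), Mv.f (nat_lit 19304)])))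
(Tr.lf (Fc.ed (nat_lit 19306) (nat_lit 6824) Col.b (nat_lit 2477) (Dv.wd (nat_lit 127) [Mv.b (nat_lit 8744), Mv.f (nat_lit 19296), Mv.b (nat_lit 17781)]))))))
(Tr.nd (nat_lit 19309) (Tr.nd (nat_lit 19308) (Tr.lf (Fc.ed (nat_lit 19307) (nat_lit 4124) Col.e (nat_lit 5995) (Dv.wd (nat_lit 74) [Mv.b (nat_lit 15150), Mv.f (nat_lit 11323), Mv.f (nat_lit 19064), Mv.b (nat_lit 19035), Mv.b (nat_lit 19047), Mv.f (nat_lit 19046), Mv.f (nat_lit 18996), Mv.b (nat_lit 15747), Mv.f (nat_lit 18998), Mv.f (nat_lit 18586)])))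
(Tr.lf (Fc.ed (nat_lit 19308) (nat_lit 5995) Col.b (nat_lit 6395) (Dv.wd (nat_lit 49) [Mv.b (nat_lit 18600), Mv.f (nat_lit 16951), Mv.f (nat_lit 19307)]))))
(Tr.nd (nat_lit 19310) (Tr.lf (Fc.ed (nat_lit 19309) (nat_lit 6535) Col.b (nat_lit 4844) (Dv.wd (nat_lit 158) [Mv.b (nat_lit 16952), Mv.f (nat_lit 16951), Mv.b (nat_lit 16644), Mv.f (nat_lit 19308), Mv.f (nat_lit 18601)])))
(Tr.nd (nat_lit 19311) (Tr.lf (Fc.ed (nat_lit 19310) (nat_lit 6252) Col.b (nat_lit 4551) (Dv.wd (nat_lit 104) [Mv.b (nat_lit 18289), Mv.f (nat_lit 10058), Mv.f (nat_lit 6082), Mv.f (nat_lit 19062), Mv.f (nat_lit 3462), Mv.b (nat_lit 3445), Mv.f (nat_lit 2873), Mv.b (nat_lit 3565), Mv.f (nat_lit 7337), Mv.b (nat_lit 15626)])))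
(Tr.lf (Fc.ed (nat_lit 19311) (nat_lit 6186) Col.gi (nat_lit 6668) (Dv.wd (nat_lit 88) [Mv.b (nat_lit 17389), Mv.b (nat_lit 18458), Mv.b (nat_lit 11056), Mv.f (nat_lit 19062), Mv.f (nat_lit 3463), Mv.b (nat_lit 2319), Mv.f (nat_lit 3036), Mv.f (nat_lit 3396), Mv.f (nat_lit 14683), Mv.b (nat_lit 15496)])))))))
(Tr.nd (nat_lit 19317) (Tr.nd (nat_lit 19314) (Tr.nd (nat_lit 19313) (Tr.lf (Fc.ed (nat_lit 19312) (nat_lit 6668) Col.gi (nat_lit 6574) (Dv.wd (nat_lit 24) [Mv.f (nat_lit 17136), Mv.b (nat_lit 15607), Mv.f (nat_lit 19311)])))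
(Tr.lf (Fc.ed (nat_lit 19313) (nat_lit 6152) Col.f (nat_lit 6252) (Dv.wd (nat_lit 125) [Mv.f (nat_lit 19310), Mv.f (nat_lit 11590), Mv.b (nat_lit 19257)]))))
(Tr.nd (nat_lit 19315) (Tr.lf (Fc.ed (nat_lit 19314) (nat_lit 6325) Col.a (nat_lit 6152) (Dv.wd (nat_lit 79) [Mv.f (nat_lit 19313), Mv.f (nat_lit 15903), Mv.f (nat_lit 15904)])))
(Tr.nd (nat_lit 19316) (Tr.lf (Fc.al (nat_lit 19315) (nat_lit 6364) (nat_lit 6816) (Dv.wd (nat_lit 12) [Mv.f (nat_lit 17758), Mv.b (nat_lit 15432), Mv.f (nat_lit 19313), Mv.f (nat_lit 15903)])))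
(Tr.lf (Fc.ed (nat_lit 19316) (nat_lit 6364) Col.c (nat_lit 7004) (Dv.wd (nat_lit 103) [Mv.f (nat_lit 18141), Mv.b (nat_lit 19315)]))))))
(Tr.nd (nat_lit 19319) (Tr.nd (nat_lit 19318) (Tr.lf (Fc.ed (nat_lit 19317) (nat_lit 7004) Col.f (nat_lit 6852) (Dv.wd (nat_lit 26) [Mv.f (nat_lit 17855), Mv.b (nat_lit 15904), Mv.f (nat_lit 19316)])))
(Tr.lf (Fc.ed (nat_lit 19318) (nat_lit 6734) Col.f (nat_lit 6997) (Dv.wd (nat_lit 20) [Mv.f (nat_lit 18140), Mv.f (nat_lit 19317), Mv.b (nat_lit 17854)]))))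
(Tr.nd (nat_lit 19320) (Tr.lf (Fc.ed (nat_lit 19319) (nat_lit 5533) Col.f (nat_lit 5488) (Dv.wd (nat_lit 11) [Mv.b (nat_lit 17583), Mv.f (nat_lit 19318), Mv.b (nat_lit 18123)])))
(Tr.nd (nat_lit 19321) (Tr.lf (Fc.ed (nat_lit 19320) (nat_lit 6668) Col.a (nat_lit 6734) (Dv.wd (nat_lit 114) [Mv.f (nat_lit 19318), Mv.b (nat_lit 18125), Mv.b (nat_lit 19312)])))
(Tr.lf (Fc.ed (nat_lit 19321) (nat_lit 6322) Col.d (nat_lit 6668) (Dv.wd (nat_lit 97) [Mv.f (nat_lit 19320), Mv.f (nat_lit 17583), Mv.b (nat_lit 15822)]))))))))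
(Tr.nd (nat_lit 19332) (Tr.nd (nat_lit 19327) (Tr.nd (nat_lit 19324) (Tr.nd (nat_lit 19323) (Tr.lf (Fc.al (nat_lit 19322) (nat_lit 6322) (nat_lit 6972) (Dv.wd (nat_lit 12) [Mv.b (nat_lit 18084), Mv.b (nat_lit 14149), Mv.f (nat_lit 19319), Mv.b (nat_lit 15822)])))
(Tr.lf (Fc.ed (nat_lit 19323) (nat_lit 6322) Col.g (nat_lit 3087) (Dv.wd (nat_lit 129) [Mv.b (nat_lit 18085), Mv.b (nat_lit 19322)]))))
(Tr.nd (nat_lit 19325) (Tr.lf (Fc.ed (nat_lit 19324) (nat_lit 4939) Col.g (nat_lit 7053) (Dv.wd (nat_lit 122) [Mv.b (nat_lit 18227), Mv.f (nat_lit 18331), Mv.b (nat_lit 18154), Mv.b (nat_lit 18117), Mv.f (nat_lit 19061), Mv.f (nat_lit 18461), Mv.b (nat_lit 17755), Mv.f (nat_lit 18301), Mv.f (nat_lit 17585), Mv.b (nat_lit 12838)])))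
(Tr.nd (nat_lit 19326) (Tr.lf (Fc.ed (nat_lit 19325) (nat_lit 6672) Col.b (nat_lit 2468) (Dv.wd (nat_lit 183) [Mv.b (nat_lit 6655), Mv.f (nat_lit 3937), Mv.b (nat_lit 3590), Mv.b (nat_lit 915), Mv.f (nat_lit 583), Mv.b (nat_lit 580), Mv.b (nat_lit 546), Mv.b (nat_lit 1204), Mv.f (nat_lit 1945), Mv.b (nat_lit 1942), Mv.f (nat_lit 1914), Mv.f (nat_lit 2958), Mv.f (nat_lit 3970), Mv.f (nat_lit 5557), Mv.f (nat_lit 6365), Mv.f (nat_lit 19044), Mv.b (nat_lit 15922), Mv.f (nat_lit 18920), Mv.f (nat_lit 17396)])))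
(Tr.lf (Fc.ed (nat_lit 19326) (nat_lit 6924) Col.c (nat_lit 5609) (Dv.wd (nat_lit 121) [Mv.f (nat_lit 18818), Mv.f (nat_lit 17396), Mv.f (nat_lit 19325), Mv.b (nat_lit 11978), Mv.b (nat_lit 17988)]))))))
(Tr.nd (nat_lit 19329) (Tr.nd (nat_lit 19328) (Tr.lf (Fc.ed (nat_lit 19327) (nat_lit 5361) Col.e (nat_lit 6924) (Dv.wd (nat_lit 84) [Mv.f (nat_lit 19326), Mv.b (nat_lit 18817), Mv.f (nat_lit 18697)])))
(Tr.lf (Fc.ed (nat_lit 19328) (nat_lit 6461) Col.f (nat_lit 6427) (Dv.wd (nat_lit 96) [Mv.b (nat_lit 16682), Mv.f (nat_lit 13770), Mv.b (nat_lit 9472), Mv.f (nat_lit 18550), Mv.f (nat_lit 16744)]))))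
(Tr.nd (nat_lit 19330) (Tr.lf (Fc.ed (nat_lit 19329) (nat_lit 6469) Col.a (nat_lit 5963) (Dv.wd (nat_lit 54) [Mv.b (nat_lit 15094), Mv.f (nat_lit 18548), Mv.f (nat_lit 16760)])))
(Tr.nd (nat_lit 19331) (Tr.lf (Fc.ed (nat_lit 19330) (nat_lit 5027) Col.f (nat_lit 6469) (Dv.wd (nat_lit 11) [Mv.b (nat_lit 16760), Mv.f (nat_lit 18547), Mv.f (nat_lit 13055)])))
(Tr.lf (Fc.ed (nat_lit 19331) (nat_lit 5918) Col.a (nat_lit 5027) (Dv.wd (nat_lit 79) [Mv.f (nat_lit 19330), Mv.f (nat_lit 19329), Mv.f (nat_lit 18994)])))))))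
(Tr.nd (nat_lit 19337) (Tr.nd (nat_lit 19334) (Tr.nd (nat_lit 19333) (Tr.lf (Fc.ed (nat_lit 19332) (nat_lit 6651) Col.gi (nat_lit 5027) (Dv.wd (nat_lit 24) [Mv.f (nat_lit 19330), Mv.f (nat_lit 19329), Mv.f (nat_lit 18985)])))
(Tr.lf (Fc.ed (nat_lit 19333) (nat_lit 7030) Col.c (nat_lit 5918) (Dv.wd (nat_lit 134) [Mv.f (nat_lit 19331), Mv.b (nat_lit 18237), Mv.b (nat_lit 18189)]))))
(Tr.nd (nat_lit 19335) (Tr.lf (Fc.ed (nat_lit 19334) (nat_lit 5105) Col.e (nat_lit 5918) (Dv.wd (nat_lit 72) [Mv.f (nat_lit 19331), Mv.f (nat_lit 13056), Mv.f (nat_lit 13216)])))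
(Tr.nd (nat_lit 19336) (Tr.lf (Fc.ed (nat_lit 19335) (nat_lit 6605) Col.f (nat_lit 6564) (Dv.wd (nat_lit 41) [Mv.b (nat_lit 18880), Mv.b (nat_lit 13217), Mv.f (nat_lit 19334), Mv.b (nat_lit 18994), Mv.b (nat_lit 18792)])))
(Tr.lf (Fc.ed (nat_lit 19336) (nat_lit 6564) Col.b (nat_lit 6296) (Dv.wd (nat_lit 66) [Mv.b (nat_lit 15768), Mv.f (nat_lit 18793), Mv.f (nat_lit 19335)]))))))
(Tr.nd (nat_lit 19340) (Tr.nd (nat_lit 19338) (Tr.lf (Fc.ed (nat_lit 19337) (nat_lit 6893) Col.c (nat_lit 6564) (Dv.wd (nat_lit 124) [Mv.f (nat_lit 19336), Mv.f (nat_lit 19012), Mv.b (nat_lit 19081), Mv.f (nat_lit 19079), Mv.b (nat_lit 16805), Mv.f (nat_lit 18793), Mv.b (nat_lit 17209), Mv.f (nat_lit 14539), Mv.f (nat_lit 17406), Mv.f (nat_lit 17929)])))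
(Tr.nd (nat_lit 19339) (Tr.lf (Fc.ed (nat_lit 19338) (nat_lit 6893) Col.b (nat_lit 5943) (Dv.wd (nat_lit 158) [Mv.b (nat_lit 15029), Mv.b (nat_lit 19107), Mv.b (nat_lit 15844), Mv.b (nat_lit 19336), Mv.b (nat_lit 19337)])))
(Tr.lf (Fc.ed (nat_lit 19339) (nat_lit 6873) Col.f (nat_lit 6893) (Dv.wd (nat_lit 125) [Mv.f (nat_lit 19338), Mv.f (nat_lit 15056), Mv.b (nat_lit 19104)])))))
(Tr.nd (nat_lit 19341) (Tr.lf (Fc.ed (nat_lit 19340) (nat_lit 5668) Col.b (nat_lit 4898) (Dv.wd (nat_lit 104) [Mv.f (nat_lit 18850), Mv.f (nat_lit 18822), Mv.b (nat_lit 19337), Mv.f (nat_lit 19338), Mv.f (nat_lit 16733), Mv.b (nat_lit 18682), Mv.b (nat_lit 13312), Mv.b (nat_lit 8364), Mv.b (nat_lit 12524), Mv.b (nat_lit 14415)])))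
(Tr.nd (nat_lit 19342) (Tr.lf (Fc.ed (nat_lit 19341) (nat_lit 6666) Col.e (nat_lit 5668) (Dv.wd (nat_lit 82) [Mv.f (nat_lit 19340), Mv.b (nat_lit 12753), Mv.f (nat_lit 17387)])))
(Tr.lf (Fc.ed (nat_lit 19342) (nat_lit 5641) Col.f (nat_lit 5668) (Dv.wd (nat_lit 125) [Mv.f (nat_lit 19340), Mv.b (nat_lit 18858), Mv.b (nat_lit 19106)])))))))))
(Tr.nd (nat_lit 19363) (Tr.nd (nat_lit 19353) (Tr.nd (nat_lit 19348) (Tr.nd (nat_lit 19345) (Tr.nd (nat_lit 19344) (Tr.lf (Fc.ed (nat_lit 19343) (nat_lit 5668) Col.a (nat_lit 6524) (Dv.wd (nat_lit 16) [Mv.f (nat_lit 17601), Mv.f (nat_lit 17602), Mv.f (nat_lit 19342)])))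
(Tr.lf (Fc.ed (nat_lit 19344) (nat_lit 4997) Col.e (nat_lit 6893) (Dv.wd (nat_lit 84) [Mv.f (nat_lit 19337), Mv.b (nat_lit 18880), Mv.f (nat_lit 18240)]))))
(Tr.nd (nat_lit 19346) (Tr.lf (Fc.ed (nat_lit 19345) (nat_lit 7048) Col.f (nat_lit 7030) (Dv.wd (nat_lit 41) [Mv.b (nat_lit 18188), Mv.f (nat_lit 15038), Mv.f (nat_lit 19344), Mv.b (nat_lit 19339), Mv.b (nat_lit 19103)])))
(Tr.nd (nat_lit 19347) (Tr.lf (Fc.ed (nat_lit 19346) (nat_lit 7030) Col.b (nat_lit 3825) (Dv.wd (nat_lit 66) [Mv.b (nat_lit 13341), Mv.f (nat_lit 18221), Mv.f (nat_lit 19345)])))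
(Tr.lf (Fc.ed (nat_lit 19347) (nat_lit 1947) Col.b (nat_lit 5949) (Dv.wd (nat_lit 127) [Mv.f (nat_lit 18188), Mv.f (nat_lit 19346), Mv.b (nat_lit 9474)]))))))
(Tr.nd (nat_lit 19350) (Tr.nd (nat_lit 19349) (Tr.lf (Fc.ed (nat_lit 19348) (nat_lit 6974) Col.d (nat_lit 7030) (Dv.wd (nat_lit 85) [Mv.f (nat_lit 19333), Mv.b (nat_lit 14975), Mv.b (nat_lit 8170), Mv.f (nat_lit 8134), Mv.f (nat_lit 13499), Mv.b (nat_lit 18607), Mv.f (nat_lit 12822), Mv.b (nat_lit 18235), Mv.b (nat_lit 18228)])))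
(Tr.lf (Fc.ed (nat_lit 19349) (nat_lit 5949) Col.gi (nat_lit 3384) (Dv.wd (nat_lit 132) [Mv.f (nat_lit 8630), Mv.f (nat_lit 5891), Mv.b (nat_lit 6755), Mv.f (nat_lit 6754), Mv.b (nat_lit 6641), Mv.f (nat_lit 7058), Mv.f (nat_lit 17873), Mv.f (nat_lit 18087), Mv.f (nat_lit 19348), Mv.b (nat_lit 18188)]))))
(Tr.nd (nat_lit 19351) (Tr.lf (Fc.ed (nat_lit 19350) (nat_lit 3260) Col.gi (nat_lit 5949) (Dv.wd (nat_lit 12) [Mv.f (nat_lit 19349), Mv.b (nat_lit 12474), Mv.b (nat_lit 12472)])))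
(Tr.nd (nat_lit 19352) (Tr.lf (Fc.ed (nat_lit 19351) (nat_lit 6589) Col.c (nat_lit 3938) (Dv.wd (nat_lit 94) [Mv.b (nat_lit 9702), Mv.f (nat_lit 8910), Mv.f (nat_lit 5489), Mv.f (nat_lit 5097), Mv.b (nat_lit 5470), Mv.f (nat_lit 19347), Mv.f (nat_lit 19349), Mv.b (nat_lit 10867), Mv.b (nat_lit 10865), Mv.b (nat_lit 17183)])))
(Tr.lf (Fc.al (nat_lit 19352) (nat_lit 5105) (nat_lit 5847) (Dv.wd (nat_lit 157) [Mv.b (nat_lit 14805), Mv.f (nat_lit 5150), Mv.f (nat_lit 5685), Mv.f (nat_lit 8454), Mv.b (nat_lit 18265), Mv.f (nat_lit 16936), Mv.f (nat_lit 18268), Mv.f (nat_lit 7800), Mv.f (nat_lit 8376), Mv.f (nat_lit 19350), Mv.f (nat_lit 18239)])))))))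
(Tr.nd (nat_lit 19358) (Tr.nd (nat_lit 19355) (Tr.nd (nat_lit 19354) (Tr.lf (Fc.ed (nat_lit 19353) (nat_lit 5105) Col.g (nat_lit 4416) (Dv.wd (nat_lit 129) [Mv.b (nat_lit 14806), Mv.b (nat_lit 19352)])))
(Tr.lf (Fc.ed (nat_lit 19354) (nat_lit 5105) Col.gi (nat_lit 1781) (Dv.wd (nat_lit 128) [Mv.f (nat_lit 14805), Mv.b (nat_lit 19352)]))))
(Tr.nd (nat_lit 19356) (Tr.lf (Fc.al (nat_lit 19355) (nat_lit 5563) (nat_lit 4980) (Dv.wd (nat_lit 13) [Mv.b (nat_lit 12913), Mv.f (nat_lit 13216), Mv.f (nat_lit 19354), Mv.b (nat_lit 14207)])))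
(Tr.nd (nat_lit 19357) (Tr.lf (Fc.ed (nat_lit 19356) (nat_lit 4980) Col.gi (nat_lit 4416) (Dv.wd (nat_lit 128) [Mv.f (nat_lit 14206), Mv.f (nat_lit 19355)])))
(Tr.lf (Fc.ed (nat_lit 19357) (nat_lit 4980) Col.d (nat_lit 5585) (Dv.wd (nat_lit 120) [Mv.b (nat_lit 14252), Mv.f (nat_lit 19355)]))))))
(Tr.nd (nat_lit 19360) (Tr.nd (nat_lit 19359) (Tr.lf (Fc.ed (nat_lit 19358) (nat_lit 6717) Col.e (nat_lit 6726) (Dv.wd (nat_lit 146) [Mv.b (nat_lit 17567), Mv.f (nat_lit 19354), Mv.f (nat_lit 5134), Mv.b (nat_lit 4783), Mv.b (nat_lit 5088), Mv.f (nat_lit 7597), Mv.b (nat_lit 7651), Mv.f (nat_lit 11383), Mv.f (nat_lit 18906), Mv.f (nat_lit 18914)])))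
(Tr.lf (Fc.ed (nat_lit 19359) (nat_lit 6461) Col.d (nat_lit 6717) (Dv.wd (nat_lit 99) [Mv.f (nat_lit 19358), Mv.b (nat_lit 17567), Mv.f (nat_lit 19334), Mv.b (nat_lit 14975), Mv.f (nat_lit 16744)]))))
(Tr.nd (nat_lit 19361) (Tr.lf (Fc.ed (nat_lit 19360) (nat_lit 6395) Col.f (nat_lit 6717) (Dv.wd (nat_lit 61) [Mv.f (nat_lit 19358), Mv.f (nat_lit 17568), Mv.b (nat_lit 13300), Mv.f (nat_lit 18593), Mv.f (nat_lit 18600)])))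
(Tr.nd (nat_lit 19362) (Tr.lf (Fc.ed (nat_lit 19361) (nat_lit 6717) Col.b (nat_lit 6104) (Dv.wd (nat_lit 66) [Mv.b (nat_lit 18990), Mv.f (nat_lit 19308), Mv.f (nat_lit 19360)])))
(Tr.lf (Fc.ed (nat_lit 19362) (nat_lit 6427) Col.d (nat_lit 6395) (Dv.wd (nat_lit 90) [Mv.f (nat_lit 19360), Mv.b (nat_lit 19359), Mv.f (nat_lit 19328)]))))))))
(Tr.nd (nat_lit 19373) (Tr.nd (nat_lit 19368) (Tr.nd (nat_lit 19365) (Tr.nd (nat_lit 19364) (Tr.lf (Fc.ed (nat_lit 19363) (nat_lit 6277) Col.a (nat_lit 6427) (Dv.wd (nat_lit 54) [Mv.f (nat_lit 19362), Mv.b (nat_lit 15975), Mv.f (nat_lit 18791)])))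
(Tr.lf (Fc.ed (nat_lit 19364) (nat_lit 6461) Col.g (nat_lit 6239) (Dv.wd (nat_lit 17) [Mv.b (nat_lit 18786), Mv.f (nat_lit 19363), Mv.b (nat_lit 19328)]))))
(Tr.nd (nat_lit 19366) (Tr.lf (Fc.ed (nat_lit 19365) (nat_lit 6579) Col.gi (nat_lit 6367) (Dv.wd (nat_lit 78) [Mv.b (nat_lit 18903), Mv.f (nat_lit 18914), Mv.b (nat_lit 19359), Mv.f (nat_lit 19364), Mv.f (nat_lit 16741), Mv.f (nat_lit 17046), Mv.b (nat_lit 18840), Mv.b (nat_lit 18801), Mv.f (nat_lit 17147)])))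
(Tr.nd (nat_lit 19367) (Tr.lf (Fc.ed (nat_lit 19366) (nat_lit 6346) Col.a (nat_lit 6582) (Dv.wd (nat_lit 23) [Mv.b (nat_lit 17153), Mv.f (nat_lit 19365), Mv.f (nat_lit 18929)])))
(Tr.lf (Fc.ed (nat_lit 19367) (nat_lit 6582) Col.f (nat_lit 6405) (Dv.wd (nat_lit 35) [Mv.b (nat_lit 16630), Mv.f (nat_lit 18929), Mv.f (nat_lit 19366)]))))))
(Tr.nd (nat_lit 19370) (Tr.nd (nat_lit 19369) (Tr.lf (Fc.ed (nat_lit 19368) (nat_lit 6405) Col.g (nat_lit 6345) (Dv.wd (nat_lit 17) [Mv.f (nat_lit 15867), Mv.f (nat_lit 19366), Mv.f (nat_lit 19367)])))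
(Tr.lf (Fc.ed (nat_lit 19369) (nat_lit 6367) Col.gi (nat_lit 6615) (Dv.wd (nat_lit 12) [Mv.b (nat_lit 17226), Mv.f (nat_lit 19367), Mv.b (nat_lit 16630)]))))
(Tr.nd (nat_lit 19371) (Tr.lf (Fc.ed (nat_lit 19370) (nat_lit 6615) Col.f (nat_lit 6345) (Dv.wd (nat_lit 13) [Mv.b (nat_lit 18621), Mv.f (nat_lit 19365), Mv.f (nat_lit 19369)])))
(Tr.nd (nat_lit 19372) (Tr.lf (Fc.ed (nat_lit 19371) (nat_lit 5720) Col.c (nat_lit 6615) (Dv.wd (nat_lit 67) [Mv.f (nat_lit 19370), Mv.b (nat_lit 15866), Mv.b (nat_lit 18666)])))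
(Tr.lf (Fc.ed (nat_lit 19372) (nat_lit 6078) Col.c (nat_lit 5291) (Dv.wd (nat_lit 124) [Mv.b (nat_lit 16972), Mv.b (nat_lit 18639), Mv.f (nat_lit 19371), Mv.b (nat_lit 19369), Mv.b (nat_lit 18903), Mv.b (nat_lit 14092), Mv.b (nat_lit 18668), Mv.b (nat_lit 18326), Mv.f (nat_lit 14904), Mv.f (nat_lit 15299)])))))))
(Tr.nd (nat_lit 19378) (Tr.nd (nat_lit 19375) (Tr.nd (nat_lit 19374) (Tr.lf (Fc.ed (nat_lit 19373) (nat_lit 5875) Col.f (nat_lit 6078) (Dv.wd (nat_lit 64) [Mv.f (nat_lit 19372), Mv.f (nat_lit 13825), Mv.b (nat_lit 14877)])))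
(Tr.lf (Fc.ed (nat_lit 19374) (nat_lit 5898) Col.g (nat_lit 5784) (Dv.wd (nat_lit 9) [Mv.f (nat_lit 14876), Mv.f (nat_lit 19373), Mv.f (nat_lit 18934)]))))
(Tr.nd (nat_lit 19376) (Tr.lf (Fc.ed (nat_lit 19375) (nat_lit 6206) Col.f (nat_lit 5893) (Dv.wd (nat_lit 96) [Mv.b (nat_lit 14908), Mv.b (nat_lit 16887), Mv.b (nat_lit 16888), Mv.f (nat_lit 19373), Mv.f (nat_lit 15530)])))
(Tr.nd (nat_lit 19377) (Tr.lf (Fc.ed (nat_lit 19376) (nat_lit 5074) Col.b (nat_lit 6206) (Dv.wd (nat_lit 107) [Mv.f (nat_lit 19375), Mv.f (nat_lit 19143), Mv.b (nat_lit 13160)])))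
(Tr.lf (Fc.ed (nat_lit 19377) (nat_lit 6153) Col.gi (nat_lit 6206) (Dv.wd (nat_lit 24) [Mv.f (nat_lit 19375), Mv.f (nat_lit 15004), Mv.f (nat_lit 18339)]))))))
(Tr.nd (nat_lit 19381) (Tr.nd (nat_lit 19379) (Tr.lf (Fc.ed (nat_lit 19378) (nat_lit 7052) Col.gi (nat_lit 7038) (Dv.wd (nat_lit 88) [Mv.f (nat_lit 18202), Mv.f (nat_lit 17828), Mv.f (nat_lit 16824), Mv.f (nat_lit 11687), Mv.f (nat_lit 19083), Mv.f (nat_lit 13692), Mv.f (nat_lit 15433), Mv.f (nat_lit 19377), Mv.b (nat_lit 19376), Mv.f (nat_lit 18226)])))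
(Tr.nd (nat_lit 19380) (Tr.lf (Fc.ed (nat_lit 19379) (nat_lit 2374) Col.gi (nat_lit 5074) (Dv.wd (nat_lit 102) [Mv.f (nat_lit 18226), Mv.f (nat_lit 19378), Mv.b (nat_lit 18201), Mv.b (nat_lit 18120), Mv.b (nat_lit 15805), Mv.f (nat_lit 8242), Mv.f (nat_lit 8244), Mv.f (nat_lit 4549), Mv.f (nat_lit 6556), Mv.f (nat_lit 6558)])))
(Tr.lf (Fc.al (nat_lit 19380) (nat_lit 6097) (nat_lit 4270) (Dv.wd (nat_lit 12) [Mv.b (nat_lit 10986), Mv.f (nat_lit 19379), Mv.f (nat_lit 13160), Mv.f (nat_lit 15337)])))))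
(Tr.nd (nat_lit 19382) (Tr.lf (Fc.al (nat_lit 19381) (nat_lit 4629) (nat_lit 6203) (Dv.wd (nat_lit 119) [Mv.b (nat_lit 15525), Mv.f (nat_lit 19380), Mv.b (nat_lit 11739)])))
(Tr.nd (nat_lit 19383) (Tr.lf (Fc.al (nat_lit 19382) (nat_lit 6399) (nat_lit 6462) (Dv.wd (nat_lit 29) [Mv.f (nat_lit 19199), Mv.b (nat_lit 19381), Mv.b (nat_lit 15981)])))
(Tr.lf (Fc.al (nat_lit 19383) (nat_lit 4300) (nat_lit 6616) (Dv.wd (nat_lit 103) [Mv.f (nat_lit 17229), Mv.b (nat_lit 19381), Mv.b (nat_lit 11738)]))))))))))))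
(Tr.nd (nat_lit 19548) (Tr.nd (nat_lit 19466) (Tr.nd (nat_lit 19425) (Tr.nd (nat_lit 19404) (Tr.nd (nat_lit 19394) (Tr.nd (nat_lit 19389) (Tr.nd (nat_lit 19386) (Tr.nd (nat_lit 19385) (Tr.lf (Fc.al (nat_lit 19384) (nat_lit 6791) (nat_lit 6173) (Dv.wd (nat_lit 30) [Mv.b (nat_lit 15526), Mv.b (nat_lit 19381), Mv.b (nat_lit 17708)])))
(Tr.lf (Fc.al (nat_lit 19385) (nat_lit 5993) (nat_lit 4519) (Dv.wd (nat_lit 103) [Mv.f (nat_lit 19151), Mv.b (nat_lit 19382), Mv.b (nat_lit 15980)]))))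
(Tr.nd (nat_lit 19387) (Tr.lf (Fc.al (nat_lit 19386) (nat_lit 6817) (nat_lit 6730) (Dv.wd (nat_lit 30) [Mv.b (nat_lit 19200), Mv.b (nat_lit 19382), Mv.f (nat_lit 17759)])))
(Tr.nd (nat_lit 19388) (Tr.lf (Fc.al (nat_lit 19387) (nat_lit 4353) (nat_lit 5465) (Dv.wd (nat_lit 30) [Mv.f (nat_lit 17227), Mv.b (nat_lit 19383), Mv.b (nat_lit 11172)])))
(Tr.lf (Fc.ed (nat_lit 19388) (nat_lit 6173) Col.g (nat_lit 6807) (Dv.wd (nat_lit 129) [Mv.b (nat_lit 17739), Mv.f (nat_lit 19384)]))))))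
(Tr.nd (nat_lit 19391) (Tr.nd (nat_lit 19390) (Tr.lf (Fc.ed (nat_lit 19389) (nat_lit 6173) Col.f (nat_lit 4629) (Dv.wd (nat_lit 30) [Mv.b (nat_lit 17708), Mv.f (nat_lit 19384)])))
(Tr.lf (Fc.al (nat_lit 19390) (nat_lit 6547) (nat_lit 4116) (Dv.wd (nat_lit 30) [Mv.b (nat_lit 15148), Mv.f (nat_lit 19385), Mv.f (nat_lit 17079)]))))
(Tr.nd (nat_lit 19392) (Tr.lf (Fc.ed (nat_lit 19391) (nat_lit 6730) Col.g (nat_lit 6761) (Dv.wd (nat_lit 129) [Mv.b (nat_lit 17760), Mv.f (nat_lit 19386)])))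
(Tr.nd (nat_lit 19393) (Tr.lf (Fc.ed (nat_lit 19392) (nat_lit 4353) Col.gi (nat_lit 4277) (Dv.wd (nat_lit 128) [Mv.b (nat_lit 14031), Mv.b (nat_lit 19387)])))
(Tr.lf (Fc.ed (nat_lit 19393) (nat_lit 4353) Col.c (nat_lit 6173) (Dv.wd (nat_lit 103) [Mv.f (nat_lit 15474), Mv.b (nat_lit 19387)])))))))
(Tr.nd (nat_lit 19399) (Tr.nd (nat_lit 19396) (Tr.nd (nat_lit 19395) (Tr.lf (Fc.ed (nat_lit 19394) (nat_lit 4116) Col.b (nat_lit 6872) (Dv.wd (nat_lit 119) [Mv.f (nat_lit 19201), Mv.f (nat_lit 19390)])))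
(Tr.lf (Fc.ed (nat_lit 19395) (nat_lit 6807) Col.a (nat_lit 6761) (Dv.wd (nat_lit 114) [Mv.b (nat_lit 18034), Mv.f (nat_lit 18035), Mv.f (nat_lit 19388)]))))
(Tr.nd (nat_lit 19397) (Tr.lf (Fc.ed (nat_lit 19396) (nat_lit 5457) Col.g (nat_lit 6395) (Dv.wd (nat_lit 122) [Mv.b (nat_lit 19308), Mv.f (nat_lit 16644), Mv.b (nat_lit 10618), Mv.b (nat_lit 11093), Mv.b (nat_lit 11152), Mv.f (nat_lit 19068), Mv.f (nat_lit 14923), Mv.f (nat_lit 19374), Mv.b (nat_lit 14693), Mv.b (nat_lit 18898)])))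
(Tr.nd (nat_lit 19398) (Tr.lf (Fc.ed (nat_lit 19397) (nat_lit 6395) Col.g (nat_lit 5666) (Dv.wd (nat_lit 9) [Mv.b (nat_lit 18909), Mv.f (nat_lit 18913), Mv.f (nat_lit 19396)])))
(Tr.lf (Fc.ed (nat_lit 19398) (nat_lit 6535) Col.gi (nat_lit 6484) (Dv.wd (nat_lit 88) [Mv.b (nat_lit 16788), Mv.f (nat_lit 14092), Mv.f (nat_lit 18914), Mv.f (nat_lit 19361), Mv.b (nat_lit 15348), Mv.b (nat_lit 11505), Mv.b (nat_lit 11093), Mv.b (nat_lit 15151), Mv.f (nat_lit 19308), Mv.f (nat_lit 18601)]))))))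
(Tr.nd (nat_lit 19401) (Tr.nd (nat_lit 19400) (Tr.lf (Fc.ed (nat_lit 19399) (nat_lit 5585) Col.e (nat_lit 5236) (Dv.wd (nat_lit 131) [Mv.b (nat_lit 13499), Mv.b (nat_lit 8134), Mv.f (nat_lit 8170), Mv.f (nat_lit 14975), Mv.b (nat_lit 19334), Mv.f (nat_lit 19353), Mv.f (nat_lit 11357), Mv.b (nat_lit 11356), Mv.b (nat_lit 19356), Mv.f (nat_lit 19357)])))
(Tr.lf (Fc.al (nat_lit 19400) (nat_lit 6273) (nat_lit 5766) (Dv.wd (nat_lit 104) [Mv.f (nat_lit 14636), Mv.b (nat_lit 19351), Mv.f (nat_lit 17183), Mv.f (nat_lit 10865), Mv.f (nat_lit 10867), Mv.b (nat_lit 19349), Mv.f (nat_lit 18239), Mv.f (nat_lit 19353), Mv.f (nat_lit 12614), Mv.b (nat_lit 15318), Mv.f (nat_lit 15665)]))))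
(Tr.nd (nat_lit 19402) (Tr.lf (Fc.ed (nat_lit 19401) (nat_lit 5766) Col.g (nat_lit 5293) (Dv.wd (nat_lit 129) [Mv.b (nat_lit 15666), Mv.f (nat_lit 19400)])))
(Tr.nd (nat_lit 19403) (Tr.lf (Fc.ed (nat_lit 19402) (nat_lit 5766) Col.gi (nat_lit 6088) (Dv.wd (nat_lit 128) [Mv.f (nat_lit 15665), Mv.f (nat_lit 19400)])))
(Tr.lf (Fc.ed (nat_lit 19403) (nat_lit 2969) Col.c (nat_lit 4808) (Dv.wd (nat_lit 109) [Mv.b (nat_lit 12575), Mv.f (nat_lit 18245), Mv.f (nat_lit 7761)]))))))))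
(Tr.nd (nat_lit 19414) (Tr.nd (nat_lit 19409) (Tr.nd (nat_lit 19406) (Tr.nd (nat_lit 19405) (Tr.lf (Fc.ed (nat_lit 19404) (nat_lit 4209) Col.c (nat_lit 3692) (Dv.wd (nat_lit 14) [Mv.b (nat_lit 9222), Mv.f (nat_lit 4824), Mv.b (nat_lit 7710), Mv.b (nat_lit 9972), Mv.f (nat_lit 19403), Mv.f (nat_lit 12576), Mv.f (nat_lit 9733), Mv.f (nat_lit 9361), Mv.b (nat_lit 10855)])))
(Tr.lf (Fc.ed (nat_lit 19405) (nat_lit 6102) Col.c (nat_lit 3233) (Dv.wd (nat_lit 124) [Mv.b (nat_lit 8319), Mv.f (nat_lit 10854), Mv.f (nat_lit 19404), Mv.b (nat_lit 9222), Mv.b (nat_lit 7581), Mv.b (nat_lit 19116), Mv.b (nat_lit 7944), Mv.f (nat_lit 9423), Mv.b (nat_lit 11413), Mv.f (nat_lit 15345)]))))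
(Tr.nd (nat_lit 19407) (Tr.lf (Fc.ed (nat_lit 19406) (nat_lit 3192) Col.e (nat_lit 6102) (Dv.wd (nat_lit 84) [Mv.f (nat_lit 19405), Mv.f (nat_lit 8320), Mv.f (nat_lit 8242)])))
(Tr.nd (nat_lit 19408) (Tr.lf (Fc.ed (nat_lit 19407) (nat_lit 6472) Col.f (nat_lit 6102) (Dv.wd (nat_lit 64) [Mv.f (nat_lit 19405), Mv.f (nat_lit 9027), Mv.f (nat_lit 19217)])))
(Tr.lf (Fc.ed (nat_lit 19408) (nat_lit 4842) Col.e (nat_lit 6472) (Dv.wd (nat_lit 57) [Mv.f (nat_lit 19407), Mv.b (nat_lit 19406), Mv.f (nat_lit 8243), Mv.f (nat_lit 8769), Mv.b (nat_lit 12639)]))))))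
(Tr.nd (nat_lit 19411) (Tr.nd (nat_lit 19410) (Tr.lf (Fc.ed (nat_lit 19409) (nat_lit 6809) Col.gi (nat_lit 6981) (Dv.wd (nat_lit 71) [Mv.b (nat_lit 18099), Mv.f (nat_lit 19408), Mv.f (nat_lit 16768), Mv.f (nat_lit 9177), Mv.b (nat_lit 9441), Mv.f (nat_lit 15156), Mv.b (nat_lit 17166), Mv.b (nat_lit 16773), Mv.b (nat_lit 13072), Mv.f (nat_lit 17742)])))
(Tr.lf (Fc.ed (nat_lit 19410) (nat_lit 6436) Col.gi (nat_lit 6809) (Dv.wd (nat_lit 12) [Mv.f (nat_lit 19409), Mv.f (nat_lit 18100), Mv.b (nat_lit 16697)]))))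
(Tr.nd (nat_lit 19412) (Tr.lf (Fc.ed (nat_lit 19411) (nat_lit 5789) Col.b (nat_lit 7057) Dv.df))
(Tr.nd (nat_lit 19413) (Tr.lf (Fc.ed (nat_lit 19412) (nat_lit 7057) Col.d (nat_lit 5293) (Dv.wd (nat_lit 58) [Mv.f (nat_lit 15107), Mv.f (nat_lit 19251), Mv.f (nat_lit 19411)])))
(Tr.lf (Fc.ed (nat_lit 19413) (nat_lit 5352) Col.gi (nat_lit 7058) Dv.df))))))
(Tr.nd (nat_lit 19419) (Tr.nd (nat_lit 19416) (Tr.nd (nat_lit 19415) (Tr.lf (Fc.ed (nat_lit 19414) (nat_lit 6600) Col.a (nat_lit 7059) Dv.df))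
(Tr.lf (Fc.ed (nat_lit 19415) (nat_lit 7059) Col.e (nat_lit 4602) (Dv.wd (nat_lit 56) [Mv.b (nat_lit 17304), Mv.b (nat_lit 17308), Mv.f (nat_lit 19414)]))))
(Tr.nd (nat_lit 19417) (Tr.lf (Fc.ed (nat_lit 19416) (nat_lit 7048) Col.d (nat_lit 7060) Dv.df))
(Tr.nd (nat_lit 19418) (Tr.lf (Fc.ed (nat_lit 19417) (nat_lit 7060) Col.gi (nat_lit 7056) (Dv.wd (nat_lit 111) [Mv.f (nat_lit 18231), Mv.b (nat_lit 11488), Mv.b (nat_lit 18606), Mv.b (nat_lit 13706), Mv.b (nat_lit 5395), Mv.f (nat_lit 8892), Mv.f (nat_lit 15094), Mv.f (nat_lit 19102), Mv.f (nat_lit 19416)])))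
(Tr.lf (Fc.ed (nat_lit 19418) (nat_lit 6983) Col.gi (nat_lit 7060) (Dv.wd (nat_lit 12) [Mv.f (nat_lit 19417), Mv.f (nat_lit 18233), Mv.b (nat_lit 18234)]))))))
(Tr.nd (nat_lit 19422) (Tr.nd (nat_lit 19420) (Tr.lf (Fc.ed (nat_lit 19419) (nat_lit 7045) Col.c (nat_lit 7061) Dv.df))
(Tr.nd (nat_lit 19421) (Tr.lf (Fc.ed (nat_lit 19420) (nat_lit 7061) Col.f (nat_lit 6166) (Dv.wd (nat_lit 26) [Mv.f (nat_lit 15460), Mv.f (nat_lit 18215), Mv.f (nat_lit 19419)])))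
(Tr.lf (Fc.ed (nat_lit 19421) (nat_lit 6330) Col.gi (nat_lit 7062) Dv.df))))
(Tr.nd (nat_lit 19423) (Tr.lf (Fc.ed (nat_lit 19422) (nat_lit 7062) Col.gi (nat_lit 7006) (Dv.wd (nat_lit 24) [Mv.f (nat_lit 18147), Mv.f (nat_lit 17915), Mv.f (nat_lit 19421)])))
(Tr.nd (nat_lit 19424) (Tr.lf (Fc.ed (nat_lit 19423) (nat_lit 7062) Col.d (nat_lit 5077) (Dv.wd (nat_lit 43) [Mv.b (nat_lit 13164), Mv.b (nat_lit 12578), Mv.f (nat_lit 16696), Mv.f (nat_lit 19410), Mv.b (nat_lit 17742), Mv.f (nat_lit 13072), Mv.f (nat_lit 12731), Mv.f (nat_lit 19281), Mv.f (nat_lit 15837), Mv.f (nat_lit 19421)])))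
(Tr.lf (Fc.ed (nat_lit 19424) (nat_lit 6789) Col.gi (nat_lit 7063) Dv.df))))))))
(Tr.nd (nat_lit 19445) (Tr.nd (nat_lit 19435) (Tr.nd (nat_lit 19430) (Tr.nd (nat_lit 19427) (Tr.nd (nat_lit 19426) (Tr.lf (Fc.ed (nat_lit 19425) (nat_lit 4793) Col.a (nat_lit 7064) Dv.df))
(Tr.lf (Fc.ed (nat_lit 19426) (nat_lit 7064) Col.f (nat_lit 5350) (Dv.wd (nat_lit 35) [Mv.f (nat_lit 14823), Mv.f (nat_lit 14824), Mv.f (nat_lit 19425)]))))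
(Tr.nd (nat_lit 19428) (Tr.lf (Fc.ed (nat_lit 19427) (nat_lit 6625) Col.c (nat_lit 7065) Dv.df))
(Tr.nd (nat_lit 19429) (Tr.lf (Fc.ed (nat_lit 19428) (nat_lit 7065) Col.e (nat_lit 7032) (Dv.wd (nat_lit 25) [Mv.f (nat_lit 18193), Mv.f (nat_lit 17252), Mv.f (nat_lit 19427)])))
(Tr.lf (Fc.ed (nat_lit 19429) (nat_lit 7008) Col.c (nat_lit 7066) Dv.df)))))
(Tr.nd (nat_lit 19432) (Tr.nd (nat_lit 19431) (Tr.lf (Fc.ed (nat_lit 19430) (nat_lit 7066) Col.b (nat_lit 6411) (Dv.wd (nat_lit 87) [Mv.b (nat_lit 18870), Mv.f (nat_lit 14538), Mv.b (nat_lit 18849), Mv.f (nat_lit 18149), Mv.f (nat_lit 19429)])))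
(Tr.lf (Fc.ed (nat_lit 19431) (nat_lit 6686) Col.g (nat_lit 7067) Dv.df)))
(Tr.nd (nat_lit 19433) (Tr.lf (Fc.ed (nat_lit 19432) (nat_lit 7067) Col.c (nat_lit 6539) (Dv.wd (nat_lit 115) [Mv.b (nat_lit 19216), Mv.f (nat_lit 19204), Mv.b (nat_lit 7849), Mv.f (nat_lit 3375), Mv.b (nat_lit 2444), Mv.f (nat_lit 3479), Mv.b (nat_lit 5887), Mv.b (nat_lit 10947), Mv.f (nat_lit 17428), Mv.f (nat_lit 19431)])))
(Tr.nd (nat_lit 19434) (Tr.lf (Fc.ed (nat_lit 19433) (nat_lit 6892) Col.a (nat_lit 7067) (Dv.wd (nat_lit 76) [Mv.f (nat_lit 19432), Mv.f (nat_lit 19215), Mv.f (nat_lit 17928)])))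
(Tr.lf (Fc.ed (nat_lit 19434) (nat_lit 6946) Col.e (nat_lit 7068) Dv.df))))))
(Tr.nd (nat_lit 19440) (Tr.nd (nat_lit 19437) (Tr.nd (nat_lit 19436) (Tr.lf (Fc.ed (nat_lit 19435) (nat_lit 6008) Col.b (nat_lit 7069) Dv.df))
(Tr.lf (Fc.ed (nat_lit 19436) (nat_lit 5350) Col.e (nat_lit 7070) Dv.df)))
(Tr.nd (nat_lit 19438) (Tr.lf (Fc.ed (nat_lit 19437) (nat_lit 7070) Col.d (nat_lit 7050) (Dv.wd (nat_lit 91) [Mv.f (nat_lit 18224), Mv.b (nat_lit 13599), Mv.f (nat_lit 11778), Mv.f (nat_lit 11932), Mv.b (nat_lit 17335), Mv.f (nat_lit 13433), Mv.b (nat_lit 6963), Mv.f (nat_lit 6954), Mv.b (nat_lit 13761), Mv.f (nat_lit 19436)])))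
(Tr.nd (nat_lit 19439) (Tr.lf (Fc.ed (nat_lit 19438) (nat_lit 6832) Col.b (nat_lit 7071) Dv.df))
(Tr.lf (Fc.ed (nat_lit 19439) (nat_lit 7051) Col.b (nat_lit 7072) Dv.df)))))
(Tr.nd (nat_lit 19442) (Tr.nd (nat_lit 19441) (Tr.lf (Fc.ed (nat_lit 19440) (nat_lit 6930) Col.e (nat_lit 7073) Dv.df))
(Tr.lf (Fc.ed (nat_lit 19441) (nat_lit 7073) Col.b (nat_lit 4993) (Dv.wd (nat_lit 49) [Mv.b (nat_lit 18444), Mv.f (nat_lit 19099), Mv.f (nat_lit 19440)]))))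
(Tr.nd (nat_lit 19443) (Tr.lf (Fc.ed (nat_lit 19442) (nat_lit 3298) Col.c (nat_lit 7074) Dv.df))
(Tr.nd (nat_lit 19444) (Tr.lf (Fc.ed (nat_lit 19443) (nat_lit 7074) Col.f (nat_lit 7001) (Dv.wd (nat_lit 26) [Mv.f (nat_lit 18134), Mv.b (nat_lit 16093), Mv.f (nat_lit 19442)])))
(Tr.lf (Fc.ed (nat_lit 19444) (nat_lit 5065) Col.c (nat_lit 7075) Dv.df)))))))
(Tr.nd (nat_lit 19455) (Tr.nd (nat_lit 19450) (Tr.nd (nat_lit 19447) (Tr.nd (nat_lit 19446) (Tr.lf (Fc.ed (nat_lit 19445) (nat_lit 5663) Col.d (nat_lit 7076) Dv.df))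
(Tr.lf (Fc.ed (nat_lit 19446) (nat_lit 4424) Col.b (nat_lit 7077) Dv.df)))
(Tr.nd (nat_lit 19448) (Tr.lf (Fc.ed (nat_lit 19447) (nat_lit 7077) Col.f (nat_lit 7008) (Dv.wd (nat_lit 20) [Mv.b (nat_lit 18149), Mv.f (nat_lit 11719), Mv.f (nat_lit 19446)])))
(Tr.nd (nat_lit 19449) (Tr.lf (Fc.ed (nat_lit 19448) (nat_lit 6638) Col.d (nat_lit 7078) Dv.df))
(Tr.lf (Fc.ed (nat_lit 19449) (nat_lit 7078) Col.a (nat_lit 6132) (Dv.wd (nat_lit 8) [Mv.f (nat_lit 19198), Mv.f (nat_lit 17337), Mv.f (nat_lit 19448)]))))))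
(Tr.nd (nat_lit 19452) (Tr.nd (nat_lit 19451) (Tr.lf (Fc.ed (nat_lit 19450) (nat_lit 7078) Col.e (nat_lit 5716) (Dv.wd (nat_lit 42) [Mv.b (nat_lit 14544), Mv.b (nat_lit 19177), Mv.f (nat_lit 10464), Mv.b (nat_lit 17338), Mv.f (nat_lit 19448)])))
(Tr.lf (Fc.ed (nat_lit 19451) (nat_lit 6822) Col.b (nat_lit 7079) Dv.df)))
(Tr.nd (nat_lit 19453) (Tr.lf (Fc.ed (nat_lit 19452) (nat_lit 6703) Col.a (nat_lit 7080) Dv.df))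
(Tr.nd (nat_lit 19454) (Tr.lf (Fc.ed (nat_lit 19453) (nat_lit 7080) Col.c (nat_lit 4718) (Dv.wd (nat_lit 33) [Mv.f (nat_lit 17349), Mv.f (nat_lit 19304), Mv.f (nat_lit 19452)])))
(Tr.lf (Fc.ed (nat_lit 19454) (nat_lit 6485) Col.b (nat_lit 7080) (Dv.wd (nat_lit 136) [Mv.f (nat_lit 19453), Mv.f (nat_lit 19297), Mv.f (nat_lit 16821), Mv.b (nat_lit 14370), Mv.f (nat_lit 16791)])))))))
(Tr.nd (nat_lit 19460) (Tr.nd (nat_lit 19457) (Tr.nd (nat_lit 19456) (Tr.lf (Fc.al (nat_lit 19455) (nat_lit 5275) (nat_lit 6249) (Dv.wd (nat_lit 155) [Mv.b (nat_lit 15621), Mv.b (nat_lit 19220), Mv.b (nat_lit 16790), Mv.f (nat_lit 19454), Mv.b (nat_lit 19452), Mv.b (nat_lit 17506)])))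
(Tr.lf (Fc.ed (nat_lit 19456) (nat_lit 5275) Col.a (nat_lit 5622) (Dv.wd (nat_lit 29) [Mv.f (nat_lit 15621), Mv.b (nat_lit 19455)]))))
(Tr.nd (nat_lit 19458) (Tr.lf (Fc.ed (nat_lit 19457) (nat_lit 6915) Col.gi (nat_lit 7081) Dv.df))
(Tr.nd (nat_lit 19459) (Tr.lf (Fc.ed (nat_lit 19458) (nat_lit 7081) Col.c (nat_lit 5410) (Dv.wd (nat_lit 14) [Mv.b (nat_lit 13879), Mv.b (nat_lit 9866), Mv.b (nat_lit 9739), Mv.f (nat_lit 6731), Mv.f (nat_lit 8939), Mv.b (nat_lit 18231), Mv.f (nat_lit 18232), Mv.f (nat_lit 18236), Mv.f (nat_lit 19457)])))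
(Tr.lf (Fc.ed (nat_lit 19459) (nat_lit 6590) Col.f (nat_lit 7082) Dv.df)))))
(Tr.nd (nat_lit 19463) (Tr.nd (nat_lit 19461) (Tr.lf (Fc.ed (nat_lit 19460) (nat_lit 7082) Col.b (nat_lit 7064) (Dv.wd (nat_lit 66) [Mv.f (nat_lit 19426), Mv.b (nat_lit 18131), Mv.f (nat_lit 19459)])))
(Tr.nd (nat_lit 19462) (Tr.lf (Fc.ed (nat_lit 19461) (nat_lit 7082) Col.c (nat_lit 6927) (Dv.wd (nat_lit 34) [Mv.b (nat_lit 18129), Mv.f (nat_lit 17184), Mv.f (nat_lit 19459)])))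
(Tr.lf (Fc.ed (nat_lit 19462) (nat_lit 5889) Col.c (nat_lit 7083) Dv.df))))
(Tr.nd (nat_lit 19464) (Tr.lf (Fc.ed (nat_lit 19463) (nat_lit 7083) Col.f (nat_lit 7012) (Dv.wd (nat_lit 26) [Mv.b (nat_lit 18331), Mv.b (nat_lit 18417), Mv.f (nat_lit 19462)])))
(Tr.nd (nat_lit 19465) (Tr.lf (Fc.ed (nat_lit 19464) (nat_lit 7051) Col.a (nat_lit 7083) (Dv.wd (nat_lit 114) [Mv.f (nat_lit 19463), Mv.b (nat_lit 18154), Mv.f (nat_lit 18225)])))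
(Tr.lf (Fc.ed (nat_lit 19465) (nat_lit 7051) Col.f (nat_lit 6941) (Dv.wd (nat_lit 35) [Mv.b (nat_lit 18336), Mv.b (nat_lit 19463), Mv.b (nat_lit 19464)]))))))))))
(Tr.nd (nat_lit 19507) (Tr.nd (nat_lit 19486) (Tr.nd (nat_lit 19476) (Tr.nd (nat_lit 19471) (Tr.nd (nat_lit 19468) (Tr.nd (nat_lit 19467) (Tr.lf (Fc.ed (nat_lit 19466) (nat_lit 6996) Col.gi (nat_lit 7051) (Dv.wd (nat_lit 24) [Mv.f (nat_lit 19465), Mv.b (nat_lit 18336), Mv.b (nat_lit 19223)])))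
(Tr.lf (Fc.ed (nat_lit 19467) (nat_lit 7072) Col.c (nat_lit 6599) (Dv.wd (nat_lit 156) [Mv.b (nat_lit 17199), Mv.b (nat_lit 17206), Mv.f (nat_lit 19290), Mv.b (nat_lit 17948), Mv.b (nat_lit 13207), Mv.f (nat_lit 11382), Mv.f (nat_lit 13286), Mv.f (nat_lit 18121), Mv.f (nat_lit 19466), Mv.f (nat_lit 19439)]))))
(Tr.nd (nat_lit 19469) (Tr.lf (Fc.ed (nat_lit 19468) (nat_lit 5460) Col.c (nat_lit 7084) Dv.df))
(Tr.nd (nat_lit 19470) (Tr.lf (Fc.ed (nat_lit 19469) (nat_lit 7084) Col.e (nat_lit 6387) (Dv.wd (nat_lit 25) [Mv.f (nat_lit 19108), Mv.b (nat_lit 14020), Mv.f (nat_lit 19468)])))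
(Tr.lf (Fc.ed (nat_lit 19470) (nat_lit 7084) Col.g (nat_lit 7048) (Dv.wd (nat_lit 145) [Mv.f (nat_lit 19416), Mv.b (nat_lit 19418), Mv.f (nat_lit 18104), Mv.b (nat_lit 7995), Mv.b (nat_lit 8057), Mv.b (nat_lit 13050), Mv.f (nat_lit 18655), Mv.f (nat_lit 18633), Mv.f (nat_lit 19468)]))))))
(Tr.nd (nat_lit 19473) (Tr.nd (nat_lit 19472) (Tr.lf (Fc.ed (nat_lit 19471) (nat_lit 5918) Col.g (nat_lit 6477) (Dv.wd (nat_lit 122) [Mv.b (nat_lit 16979), Mv.f (nat_lit 19468), Mv.f (nat_lit 19470), Mv.b (nat_lit 19102), Mv.f (nat_lit 16961), Mv.f (nat_lit 15449), Mv.b (nat_lit 19090), Mv.f (nat_lit 13736), Mv.f (nat_lit 8731), Mv.f (nat_lit 19088)])))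
(Tr.lf (Fc.ed (nat_lit 19472) (nat_lit 6457) Col.g (nat_lit 5918) (Dv.wd (nat_lit 17) [Mv.f (nat_lit 19471), Mv.f (nat_lit 17361), Mv.f (nat_lit 17360)]))))
(Tr.nd (nat_lit 19474) (Tr.lf (Fc.ed (nat_lit 19473) (nat_lit 6469) Col.g (nat_lit 6457) (Dv.wd (nat_lit 17) [Mv.f (nat_lit 19472), Mv.f (nat_lit 19331), Mv.f (nat_lit 19330)])))
(Tr.nd (nat_lit 19475) (Tr.lf (Fc.ed (nat_lit 19474) (nat_lit 6985) Col.c (nat_lit 6457) (Dv.wd (nat_lit 14) [Mv.f (nat_lit 19472), Mv.b (nat_lit 14975), Mv.f (nat_lit 8171), Mv.f (nat_lit 7248), Mv.f (nat_lit 7503), Mv.b (nat_lit 18988), Mv.b (nat_lit 18068), Mv.b (nat_lit 18015), Mv.f (nat_lit 18106)])))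
(Tr.lf (Fc.ed (nat_lit 19475) (nat_lit 6800) Col.f (nat_lit 6985) (Dv.wd (nat_lit 64) [Mv.f (nat_lit 19474), Mv.b (nat_lit 17360), Mv.f (nat_lit 18443)])))))))
(Tr.nd (nat_lit 19481) (Tr.nd (nat_lit 19478) (Tr.nd (nat_lit 19477) (Tr.lf (Fc.al (nat_lit 19476) (nat_lit 6239) (nat_lit 6351) (Dv.wd (nat_lit 70) [Mv.b (nat_lit 15875), Mv.b (nat_lit 14831), Mv.b (nat_lit 18546), Mv.f (nat_lit 16760), Mv.f (nat_lit 19473), Mv.b (nat_lit 18937), Mv.b (nat_lit 15253), Mv.b (nat_lit 18868), Mv.b (nat_lit 7519), Mv.b (nat_lit 18790), Mv.b (nat_lit 15601)])))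
(Tr.lf (Fc.ed (nat_lit 19477) (nat_lit 6239) Col.e (nat_lit 5859) (Dv.wd (nat_lit 117) [Mv.f (nat_lit 15875), Mv.b (nat_lit 19476)]))))
(Tr.nd (nat_lit 19479) (Tr.lf (Fc.al (nat_lit 19478) (nat_lit 5844) (nat_lit 1750) (Dv.wd (nat_lit 39) [Mv.f (nat_lit 5067), Mv.f (nat_lit 5068), Mv.b (nat_lit 4373), Mv.f (nat_lit 7166), Mv.b (nat_lit 7519), Mv.b (nat_lit 18790), Mv.b (nat_lit 15601), Mv.f (nat_lit 19477), Mv.b (nat_lit 14831), Mv.b (nat_lit 13514), Mv.f (nat_lit 14800)])))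
(Tr.nd (nat_lit 19480) (Tr.lf (Fc.al (nat_lit 19479) (nat_lit 4901) (nat_lit 4491) (Dv.wd (nat_lit 128) [Mv.b (nat_lit 14801), Mv.f (nat_lit 19478), Mv.b (nat_lit 12758)])))
(Tr.lf (Fc.al (nat_lit 19480) (nat_lit 4347) (nat_lit 4949) (Dv.wd (nat_lit 129) [Mv.f (nat_lit 14800), Mv.f (nat_lit 19478), Mv.f (nat_lit 11156)]))))))
(Tr.nd (nat_lit 19483) (Tr.nd (nat_lit 19482) (Tr.lf (Fc.ed (nat_lit 19481) (nat_lit 4491) Col.g (nat_lit 3089) (Dv.wd (nat_lit 129) [Mv.f (nat_lit 12757), Mv.f (nat_lit 19479)])))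
(Tr.lf (Fc.ed (nat_lit 19482) (nat_lit 4491) Col.gi (nat_lit 1750) (Dv.wd (nat_lit 128) [Mv.b (nat_lit 12758), Mv.f (nat_lit 19479)]))))
(Tr.nd (nat_lit 19484) (Tr.lf (Fc.ed (nat_lit 19483) (nat_lit 4491) Col.e (nat_lit 5139) (Dv.wd (nat_lit 117) [Mv.b (nat_lit 13291), Mv.f (nat_lit 19479)])))
(Tr.nd (nat_lit 19485) (Tr.lf (Fc.al (nat_lit 19484) (nat_lit 5018) (nat_lit 5242) (Dv.wd (nat_lit 120) [Mv.b (nat_lit 13514), Mv.b (nat_lit 19480), Mv.f (nat_lit 13039)])))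
(Tr.lf (Fc.ed (nat_lit 19485) (nat_lit 5018) Col.e (nat_lit 4565) (Dv.wd (nat_lit 117) [Mv.f (nat_lit 18546), Mv.b (nat_lit 19484)]))))))))
(Tr.nd (nat_lit 19496) (Tr.nd (nat_lit 19491) (Tr.nd (nat_lit 19488) (Tr.nd (nat_lit 19487) (Tr.lf (Fc.ed (nat_lit 19486) (nat_lit 3945) Col.d (nat_lit 5139) (Dv.wd (nat_lit 60) [Mv.b (nat_lit 19483), Mv.f (nat_lit 19481), Mv.f (nat_lit 8028), Mv.b (nat_lit 11157), Mv.f (nat_lit 13039), Mv.f (nat_lit 19485), Mv.f (nat_lit 11619), Mv.f (nat_lit 8009), Mv.f (nat_lit 8134), Mv.f (nat_lit 9712)])))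
(Tr.lf (Fc.ed (nat_lit 19487) (nat_lit 5139) Col.a (nat_lit 5320) (Dv.wd (nat_lit 8) [Mv.b (nat_lit 13708), Mv.f (nat_lit 18597), Mv.f (nat_lit 19486)]))))
(Tr.nd (nat_lit 19489) (Tr.lf (Fc.ed (nat_lit 19488) (nat_lit 6708) Col.g (nat_lit 6690) (Dv.wd (nat_lit 17) [Mv.b (nat_lit 17434), Mv.f (nat_lit 19487), Mv.f (nat_lit 18599)])))
(Tr.nd (nat_lit 19490) (Tr.lf (Fc.ed (nat_lit 19489) (nat_lit 6690) Col.d (nat_lit 6651) (Dv.wd (nat_lit 60) [Mv.f (nat_lit 17359), Mv.b (nat_lit 18681), Mv.f (nat_lit 13485), Mv.b (nat_lit 18680), Mv.f (nat_lit 15015), Mv.f (nat_lit 17571), Mv.b (nat_lit 18679), Mv.f (nat_lit 19399), Mv.f (nat_lit 17532), Mv.f (nat_lit 19488)])))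
(Tr.lf (Fc.ed (nat_lit 19490) (nat_lit 4971) Col.gi (nat_lit 6427) (Dv.wd (nat_lit 163) [Mv.b (nat_lit 16682), Mv.b (nat_lit 13769), Mv.f (nat_lit 19482), Mv.f (nat_lit 5067), Mv.f (nat_lit 5068), Mv.f (nat_lit 4484), Mv.f (nat_lit 7650), Mv.f (nat_lit 7651), Mv.b (nat_lit 11502), Mv.f (nat_lit 12897)]))))))
(Tr.nd (nat_lit 19493) (Tr.nd (nat_lit 19492) (Tr.lf (Fc.ed (nat_lit 19491) (nat_lit 6427) Col.gi (nat_lit 5474) (Dv.wd (nat_lit 24) [Mv.f (nat_lit 14265), Mv.b (nat_lit 18776), Mv.f (nat_lit 19490)])))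
(Tr.lf (Fc.ed (nat_lit 19492) (nat_lit 5030) Col.gi (nat_lit 7085) Dv.df)))
(Tr.nd (nat_lit 19494) (Tr.lf (Fc.ed (nat_lit 19493) (nat_lit 7085) Col.gi (nat_lit 5019) (Dv.wd (nat_lit 24) [Mv.b (nat_lit 13324), Mv.f (nat_lit 13325), Mv.f (nat_lit 19492)])))
(Tr.nd (nat_lit 19495) (Tr.lf (Fc.ed (nat_lit 19494) (nat_lit 7027) Col.f (nat_lit 7086) Dv.df))
(Tr.lf (Fc.ed (nat_lit 19495) (nat_lit 7086) Col.d (nat_lit 5175) (Dv.wd (nat_lit 21) [Mv.b (nat_lit 14992), Mv.b (nat_lit 18183), Mv.f (nat_lit 19494)])))))))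
(Tr.nd (nat_lit 19501) (Tr.nd (nat_lit 19498) (Tr.nd (nat_lit 19497) (Tr.lf (Fc.ed (nat_lit 19496) (nat_lit 6413) Col.c (nat_lit 7087) Dv.df))
(Tr.lf (Fc.ed (nat_lit 19497) (nat_lit 7087) Col.d (nat_lit 7083) (Dv.wd (nat_lit 44) [Mv.b (nat_lit 19462), Mv.f (nat_lit 14902), Mv.f (nat_lit 18419), Mv.b (nat_lit 7129), Mv.b (nat_lit 18291), Mv.f (nat_lit 18288), Mv.b (nat_lit 18257), Mv.f (nat_lit 18258), Mv.f (nat_lit 19496)]))))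
(Tr.nd (nat_lit 19499) (Tr.lf (Fc.ed (nat_lit 19498) (nat_lit 7087) Col.gi (nat_lit 5284) (Dv.wd (nat_lit 78) [Mv.f (nat_lit 17816), Mv.f (nat_lit 13540), Mv.f (nat_lit 19212), Mv.f (nat_lit 19226), Mv.b (nat_lit 19048), Mv.b (nat_lit 7813), Mv.b (nat_lit 18257), Mv.f (nat_lit 18258), Mv.f (nat_lit 19496)])))
(Tr.nd (nat_lit 19500) (Tr.lf (Fc.ed (nat_lit 19499) (nat_lit 5675) Col.f (nat_lit 7088) Dv.df))
(Tr.lf (Fc.ed (nat_lit 19500) (nat_lit 7088) Col.c (nat_lit 6526) (Dv.wd (nat_lit 34) [Mv.f (nat_lit 17042), Mv.f (nat_lit 14422), Mv.f (nat_lit 19499)]))))))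
(Tr.nd (nat_lit 19504) (Tr.nd (nat_lit 19502) (Tr.lf (Fc.ed (nat_lit 19501) (nat_lit 6853) Col.f (nat_lit 7089) Dv.df))
(Tr.nd (nat_lit 19503) (Tr.lf (Fc.ed (nat_lit 19502) (nat_lit 7089) Col.a (nat_lit 6331) (Dv.wd (nat_lit 16) [Mv.b (nat_lit 17191), Mv.b (nat_lit 17857), Mv.f (nat_lit 19501)])))
(Tr.lf (Fc.ed (nat_lit 19503) (nat_lit 7089) Col.c (nat_lit 4219) (Dv.wd (nat_lit 34) [Mv.f (nat_lit 10877), Mv.f (nat_lit 17856), Mv.f (nat_lit 19501)])))))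
(Tr.nd (nat_lit 19505) (Tr.lf (Fc.ed (nat_lit 19504) (nat_lit 7089) Col.g (nat_lit 6968) (Dv.wd (nat_lit 17) [Mv.b (nat_lit 18076), Mv.b (nat_lit 17857), Mv.f (nat_lit 19501)])))
(Tr.nd (nat_lit 19506) (Tr.lf (Fc.ed (nat_lit 19505) (nat_lit 4663) Col.d (nat_lit 4836) (Dv.wd (nat_lit 89) [Mv.b (nat_lit 12627), Mv.b (nat_lit 19503), Mv.f (nat_lit 19504), Mv.f (nat_lit 18137), Mv.b (nat_lit 18139), Mv.f (nat_lit 17161), Mv.b (nat_lit 14301), Mv.f (nat_lit 12921), Mv.f (nat_lit 11798)])))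
(Tr.lf (Fc.ed (nat_lit 19506) (nat_lit 4151) Col.d (nat_lit 5301) (Dv.wd (nat_lit 48) [Mv.f (nat_lit 13632), Mv.f (nat_lit 6182), Mv.b (nat_lit 11799), Mv.f (nat_lit 19505), Mv.b (nat_lit 12627), Mv.f (nat_lit 10876), Mv.f (nat_lit 9448), Mv.b (nat_lit 9026), Mv.b (nat_lit 10727)])))))))))
(Tr.nd (nat_lit 19527) (Tr.nd (nat_lit 19517) (Tr.nd (nat_lit 19512) (Tr.nd (nat_lit 19509) (Tr.nd (nat_lit 19508) (Tr.lf (Fc.ed (nat_lit 19507) (nat_lit 7023) Col.d (nat_lit 5617) (Dv.wd (nat_lit 90) [Mv.f (nat_lit 14314), Mv.f (nat_lit 19506), Mv.f (nat_lit 18176)])))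
(Tr.lf (Fc.ed (nat_lit 19508) (nat_lit 4451) Col.d (nat_lit 5611) (Dv.wd (nat_lit 28) [Mv.b (nat_lit 18177), Mv.f (nat_lit 19507), Mv.b (nat_lit 14313)]))))
(Tr.nd (nat_lit 19510) (Tr.lf (Fc.ed (nat_lit 19509) (nat_lit 5675) Col.gi (nat_lit 7090) Dv.df))
(Tr.nd (nat_lit 19511) (Tr.lf (Fc.ed (nat_lit 19510) (nat_lit 7090) Col.b (nat_lit 6019) (Dv.wd (nat_lit 154) [Mv.b (nat_lit 15194), Mv.f (nat_lit 13228), Mv.f (nat_lit 14523), Mv.f (nat_lit 19218), Mv.f (nat_lit 9507), Mv.f (nat_lit 6799), Mv.f (nat_lit 6801), Mv.b (nat_lit 14034), Mv.f (nat_lit 14422), Mv.f (nat_lit 19509)])))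
(Tr.lf (Fc.ed (nat_lit 19511) (nat_lit 7033) Col.a (nat_lit 7091) Dv.df)))))
(Tr.nd (nat_lit 19514) (Tr.nd (nat_lit 19513) (Tr.lf (Fc.ed (nat_lit 19512) (nat_lit 7091) Col.f (nat_lit 6963) (Dv.wd (nat_lit 10) [Mv.b (nat_lit 18069), Mv.f (nat_lit 18194), Mv.f (nat_lit 19511)])))
(Tr.lf (Fc.ed (nat_lit 19513) (nat_lit 6647) Col.c (nat_lit 7092) Dv.df)))
(Tr.nd (nat_lit 19515) (Tr.lf (Fc.ed (nat_lit 19514) (nat_lit 7092) Col.g (nat_lit 6272) (Dv.wd (nat_lit 77) [Mv.f (nat_lit 17043), Mv.f (nat_lit 17142), Mv.b (nat_lit 17656), Mv.f (nat_lit 17655), Mv.b (nat_lit 15357), Mv.b (nat_lit 12857), Mv.f (nat_lit 17302), Mv.b (nat_lit 17352), Mv.f (nat_lit 19513)])))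
(Tr.nd (nat_lit 19516) (Tr.lf (Fc.ed (nat_lit 19515) (nat_lit 5808) Col.b (nat_lit 7093) Dv.df))
(Tr.lf (Fc.ed (nat_lit 19516) (nat_lit 7093) Col.e (nat_lit 6125) (Dv.wd (nat_lit 52) [Mv.b (nat_lit 15388), Mv.f (nat_lit 14747), Mv.f (nat_lit 19515)])))))))
(Tr.nd (nat_lit 19522) (Tr.nd (nat_lit 19519) (Tr.nd (nat_lit 19518) (Tr.lf (Fc.ed (nat_lit 19517) (nat_lit 5223) Col.c (nat_lit 7094) Dv.df))
(Tr.lf (Fc.ed (nat_lit 19518) (nat_lit 7094) Col.a (nat_lit 7075) (Dv.wd (nat_lit 19) [Mv.b (nat_lit 19444), Mv.b (nat_lit 13474), Mv.f (nat_lit 19517)]))))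
(Tr.nd (nat_lit 19520) (Tr.lf (Fc.ed (nat_lit 19519) (nat_lit 5948) Col.g (nat_lit 7095) Dv.df))
(Tr.nd (nat_lit 19521) (Tr.lf (Fc.ed (nat_lit 19520) (nat_lit 7095) Col.a (nat_lit 6800) (Dv.wd (nat_lit 114) [Mv.f (nat_lit 19475), Mv.b (nat_lit 18106), Mv.f (nat_lit 19519)])))
(Tr.lf (Fc.ed (nat_lit 19521) (nat_lit 7095) Col.c (nat_lit 6477) (Dv.wd (nat_lit 115) [Mv.b (nat_lit 16979), Mv.b (nat_lit 18633), Mv.b (nat_lit 18653), Mv.f (nat_lit 18353), Mv.b (nat_lit 18352), Mv.f (nat_lit 18441), Mv.b (nat_lit 18628), Mv.b (nat_lit 13879), Mv.f (nat_lit 15036), Mv.f (nat_lit 19519)]))))))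
(Tr.nd (nat_lit 19524) (Tr.nd (nat_lit 19523) (Tr.lf (Fc.ed (nat_lit 19522) (nat_lit 6710) Col.f (nat_lit 7095) (Dv.wd (nat_lit 64) [Mv.f (nat_lit 19521), Mv.b (nat_lit 18631), Mv.f (nat_lit 17536)])))
(Tr.lf (Fc.ed (nat_lit 19523) (nat_lit 5332) Col.c (nat_lit 7096) Dv.df)))
(Tr.nd (nat_lit 19525) (Tr.lf (Fc.ed (nat_lit 19524) (nat_lit 7096) Col.b (nat_lit 7067) (Dv.wd (nat_lit 87) [Mv.f (nat_lit 19432), Mv.b (nat_lit 19216), Mv.f (nat_lit 19205), Mv.b (nat_lit 17167), Mv.f (nat_lit 19523)])))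
(Tr.nd (nat_lit 19526) (Tr.lf (Fc.ed (nat_lit 19525) (nat_lit 5772) Col.a (nat_lit 7096) (Dv.wd (nat_lit 167) [Mv.f (nat_lit 19524), Mv.b (nat_lit 19433), Mv.b (nat_lit 19135), Mv.b (nat_lit 14602), Mv.f (nat_lit 14647)])))
(Tr.lf (Fc.al (nat_lit 19526) (nat_lit 5767) (nat_lit 5421) (Dv.wd (nat_lit 134) [Mv.b (nat_lit 14648), Mv.f (nat_lit 19525), Mv.b (nat_lit 19523), Mv.b (nat_lit 14638)]))))))))
(Tr.nd (nat_lit 19537) (Tr.nd (nat_lit 19532) (Tr.nd (nat_lit 19529) (Tr.nd (nat_lit 19528) (Tr.lf (Fc.ed (nat_lit 19527) (nat_lit 5421) Col.a (nat_lit 5332) (Dv.wd (nat_lit 29) [Mv.b (nat_lit 14638), Mv.f (nat_lit 19526)])))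
(Tr.lf (Fc.al (nat_lit 19528) (nat_lit 6412) (nat_lit 5077) (Dv.wd (nat_lit 30) [Mv.f (nat_lit 14637), Mv.f (nat_lit 19526), Mv.b (nat_lit 16653)]))))
(Tr.nd (nat_lit 19530) (Tr.lf (Fc.ed (nat_lit 19529) (nat_lit 5077) Col.a (nat_lit 5162) (Dv.wd (nat_lit 29) [Mv.f (nat_lit 16652), Mv.f (nat_lit 19528)])))
(Tr.nd (nat_lit 19531) (Tr.lf (Fc.ed (nat_lit 19530) (nat_lit 5077) Col.f (nat_lit 5421) (Dv.wd (nat_lit 30) [Mv.b (nat_lit 16653), Mv.f (nat_lit 19528)])))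
(Tr.lf (Fc.ed (nat_lit 19531) (nat_lit 5332) Col.f (nat_lit 5162) (Dv.wd (nat_lit 35) [Mv.b (nat_lit 19529), Mv.f (nat_lit 19530), Mv.f (nat_lit 19527)]))))))
(Tr.nd (nat_lit 19534) (Tr.nd (nat_lit 19533) (Tr.lf (Fc.ed (nat_lit 19532) (nat_lit 5162) Col.b (nat_lit 6009) (Dv.wd (nat_lit 66) [Mv.f (nat_lit 19208), Mv.b (nat_lit 17167), Mv.f (nat_lit 19531)])))
(Tr.lf (Fc.ed (nat_lit 19533) (nat_lit 6635) Col.c (nat_lit 7097) Dv.df)))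
(Tr.nd (nat_lit 19535) (Tr.lf (Fc.ed (nat_lit 19534) (nat_lit 7097) Col.f (nat_lit 7075) (Dv.wd (nat_lit 26) [Mv.b (nat_lit 19444), Mv.f (nat_lit 17326), Mv.f (nat_lit 19533)])))
(Tr.nd (nat_lit 19536) (Tr.lf (Fc.ed (nat_lit 19535) (nat_lit 6091) Col.b (nat_lit 7098) Dv.df))
(Tr.lf (Fc.ed (nat_lit 19536) (nat_lit 7098) Col.f (nat_lit 7080) (Dv.wd (nat_lit 20) [Mv.b (nat_lit 19454), Mv.b (nat_lit 16792), Mv.f (nat_lit 19535)])))))))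
(Tr.nd (nat_lit 19542) (Tr.nd (nat_lit 19539) (Tr.nd (nat_lit 19538) (Tr.lf (Fc.ed (nat_lit 19537) (nat_lit 7098) Col.c (nat_lit 6478) (Dv.wd (nat_lit 93) [Mv.f (nat_lit 19301), Mv.b (nat_lit 17733), Mv.b (nat_lit 15594), Mv.f (nat_lit 15325), Mv.f (nat_lit 19535)])))
(Tr.lf (Fc.ed (nat_lit 19538) (nat_lit 6509) Col.a (nat_lit 7098) (Dv.wd (nat_lit 76) [Mv.f (nat_lit 19537), Mv.f (nat_lit 19300), Mv.f (nat_lit 16997)]))))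
(Tr.nd (nat_lit 19540) (Tr.lf (Fc.ed (nat_lit 19539) (nat_lit 6162) Col.d (nat_lit 7099) Dv.df))
(Tr.nd (nat_lit 19541) (Tr.lf (Fc.ed (nat_lit 19540) (nat_lit 6669) Col.d (nat_lit 7100) Dv.df))
(Tr.lf (Fc.ed (nat_lit 19541) (nat_lit 7100) Col.f (nat_lit 6055) (Dv.wd (nat_lit 11) [Mv.b (nat_lit 15255), Mv.b (nat_lit 17391), Mv.f (nat_lit 19540)]))))))
(Tr.nd (nat_lit 19545) (Tr.nd (nat_lit 19543) (Tr.lf (Fc.ed (nat_lit 19542) (nat_lit 4270) Col.c (nat_lit 7101) Dv.df))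
(Tr.nd (nat_lit 19544) (Tr.lf (Fc.ed (nat_lit 19543) (nat_lit 7101) Col.g (nat_lit 7038) (Dv.wd (nat_lit 105) [Mv.f (nat_lit 18202), Mv.f (nat_lit 17828), Mv.b (nat_lit 14072), Mv.f (nat_lit 7971), Mv.b (nat_lit 3631), Mv.b (nat_lit 2106), Mv.f (nat_lit 3056), Mv.b (nat_lit 6461), Mv.f (nat_lit 10986), Mv.f (nat_lit 19542)])))
(Tr.lf (Fc.ed (nat_lit 19544) (nat_lit 6767) Col.f (nat_lit 7102) Dv.df))))
(Tr.nd (nat_lit 19546) (Tr.lf (Fc.ed (nat_lit 19545) (nat_lit 7102) Col.b (nat_lit 6680) (Dv.wd (nat_lit 66) [Mv.f (nat_lit 17426), Mv.f (nat_lit 17657), Mv.f (nat_lit 19544)])))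
(Tr.nd (nat_lit 19547) (Tr.lf (Fc.ed (nat_lit 19546) (nat_lit 6984) Col.d (nat_lit 7102) (Dv.wd (nat_lit 116) [Mv.f (nat_lit 19545), Mv.f (nat_lit 17415), Mv.f (nat_lit 18105)])))
(Tr.lf (Fc.ed (nat_lit 19547) (nat_lit 6397) Col.gi (nat_lit 7103) Dv.df))))))))))
(Tr.nd (nat_lit 19630) (Tr.nd (nat_lit 19589) (Tr.nd (nat_lit 19568) (Tr.nd (nat_lit 19558) (Tr.nd (nat_lit 19553) (Tr.nd (nat_lit 19550) (Tr.nd (nat_lit 19549) (Tr.lf (Fc.ed (nat_lit 19548) (nat_lit 6088) Col.gi (nat_lit 7104) Dv.df))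
(Tr.lf (Fc.ed (nat_lit 19549) (nat_lit 7104) Col.gi (nat_lit 5293) (Dv.wd (nat_lit 24) [Mv.b (nat_lit 19176), Mv.f (nat_lit 19175), Mv.f (nat_lit 19548)]))))
(Tr.nd (nat_lit 19551) (Tr.lf (Fc.ed (nat_lit 19550) (nat_lit 4922) Col.gi (nat_lit 7105) Dv.df))
(Tr.nd (nat_lit 19552) (Tr.lf (Fc.ed (nat_lit 19551) (nat_lit 7105) Col.gi (nat_lit 6837) (Dv.wd (nat_lit 24) [Mv.f (nat_lit 17803), Mv.f (nat_lit 14746), Mv.f (nat_lit 19550)])))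
(Tr.lf (Fc.ed (nat_lit 19552) (nat_lit 5471) Col.b (nat_lit 7106) Dv.df)))))
(Tr.nd (nat_lit 19555) (Tr.nd (nat_lit 19554) (Tr.lf (Fc.ed (nat_lit 19553) (nat_lit 7106) Col.c (nat_lit 7090) (Dv.wd (nat_lit 93) [Mv.f (nat_lit 19510), Mv.b (nat_lit 15194), Mv.f (nat_lit 18494), Mv.b (nat_lit 18520), Mv.f (nat_lit 19552)])))
(Tr.lf (Fc.ed (nat_lit 19554) (nat_lit 6590) Col.g (nat_lit 7106) (Dv.wd (nat_lit 105) [Mv.f (nat_lit 19553), Mv.f (nat_lit 19510), Mv.b (nat_lit 16870), Mv.f (nat_lit 19535), Mv.f (nat_lit 19537), Mv.b (nat_lit 16779), Mv.f (nat_lit 11088), Mv.f (nat_lit 9946), Mv.f (nat_lit 17061), Mv.f (nat_lit 17184)]))))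
(Tr.nd (nat_lit 19556) (Tr.lf (Fc.ed (nat_lit 19555) (nat_lit 6885) Col.c (nat_lit 7107) Dv.df))
(Tr.nd (nat_lit 19557) (Tr.lf (Fc.ed (nat_lit 19556) (nat_lit 7107) Col.a (nat_lit 6926) (Dv.wd (nat_lit 19) [Mv.b (nat_lit 17992), Mv.f (nat_lit 17916), Mv.f (nat_lit 19555)])))
(Tr.lf (Fc.ed (nat_lit 19557) (nat_lit 7107) Col.f (nat_lit 6964) (Dv.wd (nat_lit 26) [Mv.b (nat_lit 18070), Mv.b (nat_lit 17917), Mv.f (nat_lit 19555)])))))))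
(Tr.nd (nat_lit 19563) (Tr.nd (nat_lit 19560) (Tr.nd (nat_lit 19559) (Tr.lf (Fc.ed (nat_lit 19558) (nat_lit 5371) Col.g (nat_lit 7108) Dv.df))
(Tr.lf (Fc.ed (nat_lit 19559) (nat_lit 7108) Col.g (nat_lit 7045) (Dv.wd (nat_lit 9) [Mv.f (nat_lit 18216), Mv.b (nat_lit 18190), Mv.f (nat_lit 19558)]))))
(Tr.nd (nat_lit 19561) (Tr.lf (Fc.ed (nat_lit 19560) (nat_lit 5463) Col.c (nat_lit 7109) Dv.df))
(Tr.nd (nat_lit 19562) (Tr.lf (Fc.ed (nat_lit 19561) (nat_lit 7109) Col.b (nat_lit 6941) (Dv.wd (nat_lit 106) [Mv.f (nat_lit 19255), Mv.f (nat_lit 18213), Mv.b (nat_lit 13017), Mv.f (nat_lit 12669), Mv.f (nat_lit 14059), Mv.f (nat_lit 17831), Mv.f (nat_lit 17832), Mv.f (nat_lit 16728), Mv.f (nat_lit 14026), Mv.f (nat_lit 19560)])))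
(Tr.lf (Fc.ed (nat_lit 19562) (nat_lit 7072) Col.f (nat_lit 7109) (Dv.wd (nat_lit 125) [Mv.f (nat_lit 19561), Mv.b (nat_lit 19465), Mv.f (nat_lit 19439)]))))))
(Tr.nd (nat_lit 19565) (Tr.nd (nat_lit 19564) (Tr.lf (Fc.al (nat_lit 19563) (nat_lit 5463) (nat_lit 7021) (Dv.wd (nat_lit 26) [Mv.f (nat_lit 18173), Mv.b (nat_lit 19467), Mv.f (nat_lit 19562), Mv.b (nat_lit 19560)])))
(Tr.lf (Fc.al (nat_lit 19564) (nat_lit 6339) (nat_lit 6029) (Dv.wd (nat_lit 29) [Mv.f (nat_lit 18172), Mv.b (nat_lit 19563), Mv.f (nat_lit 15854)]))))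
(Tr.nd (nat_lit 19566) (Tr.lf (Fc.ed (nat_lit 19565) (nat_lit 5463) Col.f (nat_lit 6599) (Dv.wd (nat_lit 30) [Mv.b (nat_lit 18173), Mv.b (nat_lit 19563)])))
(Tr.nd (nat_lit 19567) (Tr.lf (Fc.al (nat_lit 19566) (nat_lit 6724) (nat_lit 7014) (Dv.wd (nat_lit 120) [Mv.f (nat_lit 18158), Mv.f (nat_lit 19564), Mv.f (nat_lit 17563)])))
(Tr.lf (Fc.ed (nat_lit 19567) (nat_lit 6724) Col.a (nat_lit 6149) (Dv.wd (nat_lit 29) [Mv.f (nat_lit 18157), Mv.b (nat_lit 19566)]))))))))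
(Tr.nd (nat_lit 19578) (Tr.nd (nat_lit 19573) (Tr.nd (nat_lit 19570) (Tr.nd (nat_lit 19569) (Tr.lf (Fc.ed (nat_lit 19568) (nat_lit 6724) Col.f (nat_lit 6263) (Dv.wd (nat_lit 30) [Mv.b (nat_lit 18159), Mv.b (nat_lit 19566)])))
(Tr.lf (Fc.ed (nat_lit 19569) (nat_lit 3530) Col.b (nat_lit 7110) Dv.df)))
(Tr.nd (nat_lit 19571) (Tr.lf (Fc.ed (nat_lit 19570) (nat_lit 7110) Col.f (nat_lit 7049) (Dv.wd (nat_lit 20) [Mv.b (nat_lit 19253), Mv.b (nat_lit 11187), Mv.f (nat_lit 19569)])))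
(Tr.nd (nat_lit 19572) (Tr.lf (Fc.ed (nat_lit 19571) (nat_lit 7009) Col.c (nat_lit 7111) Dv.df))
(Tr.lf (Fc.ed (nat_lit 19572) (nat_lit 4883) Col.g (nat_lit 7112) Dv.df)))))
(Tr.nd (nat_lit 19575) (Tr.nd (nat_lit 19574) (Tr.lf (Fc.ed (nat_lit 19573) (nat_lit 7112) Col.g (nat_lit 5235) (Dv.wd (nat_lit 9) [Mv.b (nat_lit 13497), Mv.b (nat_lit 12721), Mv.f (nat_lit 19572)])))
(Tr.lf (Fc.ed (nat_lit 19574) (nat_lit 5492) Col.c (nat_lit 7113) Dv.df)))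
(Tr.nd (nat_lit 19576) (Tr.lf (Fc.ed (nat_lit 19575) (nat_lit 7113) Col.a (nat_lit 7084) (Dv.wd (nat_lit 19) [Mv.b (nat_lit 19468), Mv.f (nat_lit 18623), Mv.f (nat_lit 19574)])))
(Tr.nd (nat_lit 19577) (Tr.lf (Fc.ed (nat_lit 19576) (nat_lit 7113) Col.f (nat_lit 7081) (Dv.wd (nat_lit 26) [Mv.f (nat_lit 19458), Mv.b (nat_lit 18627), Mv.f (nat_lit 19574)])))
(Tr.lf (Fc.ed (nat_lit 19577) (nat_lit 6915) Col.g (nat_lit 7084) (Dv.wd (nat_lit 9) [Mv.b (nat_lit 19575), Mv.f (nat_lit 19576), Mv.b (nat_lit 19457)])))))))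
(Tr.nd (nat_lit 19583) (Tr.nd (nat_lit 19580) (Tr.nd (nat_lit 19579) (Tr.lf (Fc.ed (nat_lit 19578) (nat_lit 6345) Col.d (nat_lit 7114) Dv.df))
(Tr.lf (Fc.ed (nat_lit 19579) (nat_lit 6960) Col.d (nat_lit 7115) Dv.df)))
(Tr.nd (nat_lit 19581) (Tr.lf (Fc.ed (nat_lit 19580) (nat_lit 6968) Col.d (nat_lit 7116) Dv.df))
(Tr.nd (nat_lit 19582) (Tr.lf (Fc.ed (nat_lit 19581) (nat_lit 7114) Col.g (nat_lit 7117) Dv.df))
(Tr.lf (Fc.ed (nat_lit 19582) (nat_lit 7117) Col.d (nat_lit 4424) (Dv.wd (nat_lit 85) [Mv.b (nat_lit 18845), Mv.f (nat_lit 12897), Mv.f (nat_lit 19490), Mv.f (nat_lit 19362), Mv.b (nat_lit 19396), Mv.b (nat_lit 18902), Mv.f (nat_lit 19368), Mv.f (nat_lit 19578), Mv.f (nat_lit 19581)]))))))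
(Tr.nd (nat_lit 19586) (Tr.nd (nat_lit 19584) (Tr.lf (Fc.ed (nat_lit 19583) (nat_lit 5498) Col.d (nat_lit 7118) Dv.df))
(Tr.nd (nat_lit 19585) (Tr.lf (Fc.ed (nat_lit 19584) (nat_lit 7118) Col.gi (nat_lit 5753) (Dv.wd (nat_lit 50) [Mv.b (nat_lit 17138), Mv.b (nat_lit 19312), Mv.b (nat_lit 19321), Mv.f (nat_lit 19323), Mv.f (nat_lit 8023), Mv.f (nat_lit 6969), Mv.f (nat_lit 7357), Mv.b (nat_lit 14089), Mv.f (nat_lit 19583)])))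
(Tr.lf (Fc.ed (nat_lit 19585) (nat_lit 5352) Col.f (nat_lit 7119) Dv.df))))
(Tr.nd (nat_lit 19587) (Tr.lf (Fc.ed (nat_lit 19586) (nat_lit 7119) Col.a (nat_lit 6938) (Dv.wd (nat_lit 16) [Mv.f (nat_lit 18020), Mv.b (nat_lit 13764), Mv.f (nat_lit 19585)])))
(Tr.nd (nat_lit 19588) (Tr.lf (Fc.ed (nat_lit 19587) (nat_lit 7119) Col.d (nat_lit 6788) (Dv.wd (nat_lit 21) [Mv.f (nat_lit 17702), Mv.b (nat_lit 13766), Mv.f (nat_lit 19585)])))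
(Tr.lf (Fc.ed (nat_lit 19588) (nat_lit 5969) Col.d (nat_lit 7120) Dv.df))))))))
(Tr.nd (nat_lit 19609) (Tr.nd (nat_lit 19599) (Tr.nd (nat_lit 19594) (Tr.nd (nat_lit 19591) (Tr.nd (nat_lit 19590) (Tr.lf (Fc.ed (nat_lit 19589) (nat_lit 7120) Col.a (nat_lit 7011) (Dv.wd (nat_lit 8) [Mv.b (nat_lit 18153), Mv.b (nat_lit 15459), Mv.f (nat_lit 19588)])))
(Tr.lf (Fc.ed (nat_lit 19590) (nat_lit 7031) Col.g (nat_lit 7121) Dv.df)))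
(Tr.nd (nat_lit 19592) (Tr.lf (Fc.ed (nat_lit 19591) (nat_lit 7121) Col.g (nat_lit 5651) (Dv.wd (nat_lit 9) [Mv.b (nat_lit 14381), Mv.f (nat_lit 18190), Mv.f (nat_lit 19590)])))
(Tr.nd (nat_lit 19593) (Tr.lf (Fc.ed (nat_lit 19592) (nat_lit 4768) Col.b (nat_lit 7122) Dv.df))
(Tr.lf (Fc.ed (nat_lit 19593) (nat_lit 6876) Col.c (nat_lit 7123) Dv.df)))))
(Tr.nd (nat_lit 19596) (Tr.nd (nat_lit 19595) (Tr.lf (Fc.ed (nat_lit 19594) (nat_lit 7103) Col.b (nat_lit 7124) Dv.df))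
(Tr.lf (Fc.ed (nat_lit 19595) (nat_lit 7124) Col.c (nat_lit 6755) (Dv.wd (nat_lit 142) [Mv.f (nat_lit 17631), Mv.f (nat_lit 13696), Mv.f (nat_lit 13697), Mv.b (nat_lit 13269), Mv.f (nat_lit 15735), Mv.b (nat_lit 15421), Mv.f (nat_lit 15969), Mv.f (nat_lit 15978), Mv.f (nat_lit 19547), Mv.f (nat_lit 19594)]))))
(Tr.nd (nat_lit 19597) (Tr.lf (Fc.ed (nat_lit 19596) (nat_lit 6775) Col.gi (nat_lit 7124) (Dv.wd (nat_lit 78) [Mv.f (nat_lit 19595), Mv.f (nat_lit 17631), Mv.b (nat_lit 11631), Mv.f (nat_lit 19238), Mv.f (nat_lit 18456), Mv.f (nat_lit 18270), Mv.b (nat_lit 7699), Mv.f (nat_lit 17489), Mv.b (nat_lit 17672)])))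
(Tr.nd (nat_lit 19598) (Tr.lf (Fc.al (nat_lit 19597) (nat_lit 4260) (nat_lit 5608) (Dv.wd (nat_lit 168) [Mv.b (nat_lit 19271), Mv.b (nat_lit 17672), Mv.f (nat_lit 19596), Mv.f (nat_lit 19595), Mv.f (nat_lit 17631), Mv.f (nat_lit 11425), Mv.f (nat_lit 3411), Mv.f (nat_lit 3169), Mv.b (nat_lit 3076), Mv.b (nat_lit 6640), Mv.b (nat_lit 10966)])))
(Tr.lf (Fc.al (nat_lit 19598) (nat_lit 6473) (nat_lit 4749) (Dv.wd (nat_lit 29) [Mv.b (nat_lit 14296), Mv.b (nat_lit 19597), Mv.f (nat_lit 16769)])))))))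
(Tr.nd (nat_lit 19604) (Tr.nd (nat_lit 19601) (Tr.nd (nat_lit 19600) (Tr.lf (Fc.ed (nat_lit 19599) (nat_lit 4260) Col.b (nat_lit 6699) (Dv.wd (nat_lit 119) [Mv.f (nat_lit 19271), Mv.b (nat_lit 19597)])))
(Tr.lf (Fc.ed (nat_lit 19600) (nat_lit 4260) Col.d (nat_lit 4165) (Dv.wd (nat_lit 120) [Mv.f (nat_lit 19265), Mv.b (nat_lit 19597)]))))
(Tr.nd (nat_lit 19602) (Tr.lf (Fc.ed (nat_lit 19601) (nat_lit 4749) Col.f (nat_lit 5232) (Dv.wd (nat_lit 30) [Mv.b (nat_lit 16770), Mv.f (nat_lit 19598)])))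
(Tr.nd (nat_lit 19603) (Tr.lf (Fc.ed (nat_lit 19602) (nat_lit 5232) Col.d (nat_lit 5939) (Dv.wd (nat_lit 21) [Mv.b (nat_lit 19263), Mv.b (nat_lit 15816), Mv.f (nat_lit 19601)])))
(Tr.lf (Fc.ed (nat_lit 19603) (nat_lit 6013) Col.d (nat_lit 6599) (Dv.wd (nat_lit 51) [Mv.f (nat_lit 17200), Mv.f (nat_lit 13330), Mv.f (nat_lit 10872), Mv.b (nat_lit 10759), Mv.f (nat_lit 13493), Mv.f (nat_lit 19602), Mv.f (nat_lit 19244), Mv.b (nat_lit 10893), Mv.b (nat_lit 15184)]))))))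
(Tr.nd (nat_lit 19606) (Tr.nd (nat_lit 19605) (Tr.lf (Fc.ed (nat_lit 19604) (nat_lit 6149) Col.f (nat_lit 6013) (Dv.wd (nat_lit 86) [Mv.f (nat_lit 19603), Mv.b (nat_lit 19565), Mv.b (nat_lit 15818)])))
(Tr.lf (Fc.ed (nat_lit 19605) (nat_lit 6013) Col.a (nat_lit 6263) (Dv.wd (nat_lit 16) [Mv.b (nat_lit 19568), Mv.f (nat_lit 19567), Mv.f (nat_lit 19604)]))))
(Tr.nd (nat_lit 19607) (Tr.lf (Fc.ed (nat_lit 19606) (nat_lit 4558) Col.g (nat_lit 6724) (Dv.wd (nat_lit 9) [Mv.f (nat_lit 19567), Mv.f (nat_lit 19604), Mv.b (nat_lit 15183)])))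
(Tr.nd (nat_lit 19608) (Tr.lf (Fc.ed (nat_lit 19607) (nat_lit 6724) Col.c (nat_lit 6855) (Dv.wd (nat_lit 115) [Mv.b (nat_lit 17859), Mv.b (nat_lit 12869), Mv.b (nat_lit 11527), Mv.b (nat_lit 12865), Mv.b (nat_lit 19249), Mv.f (nat_lit 19250), Mv.b (nat_lit 19245), Mv.f (nat_lit 19243), Mv.f (nat_lit 12506), Mv.f (nat_lit 19606)])))
(Tr.lf (Fc.ed (nat_lit 19608) (nat_lit 6855) Col.f (nat_lit 6340) (Dv.wd (nat_lit 26) [Mv.f (nat_lit 15856), Mv.b (nat_lit 19568), Mv.f (nat_lit 19607)]))))))))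
(Tr.nd (nat_lit 19619) (Tr.nd (nat_lit 19614) (Tr.nd (nat_lit 19611) (Tr.nd (nat_lit 19610) (Tr.lf (Fc.al (nat_lit 19609) (nat_lit 4663) (nat_lit 6529) (Dv.wd (nat_lit 20) [Mv.f (nat_lit 17048), Mv.f (nat_lit 17859), Mv.f (nat_lit 19608), Mv.b (nat_lit 15855)])))
(Tr.lf (Fc.al (nat_lit 19610) (nat_lit 6906) (nat_lit 4768) (Dv.wd (nat_lit 29) [Mv.f (nat_lit 17047), Mv.b (nat_lit 19609), Mv.f (nat_lit 17951)]))))
(Tr.nd (nat_lit 19612) (Tr.lf (Fc.al (nat_lit 19611) (nat_lit 6136) (nat_lit 6947) (Dv.wd (nat_lit 103) [Mv.b (nat_lit 18031), Mv.b (nat_lit 19609), Mv.f (nat_lit 15409)])))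
(Tr.nd (nat_lit 19613) (Tr.lf (Fc.al (nat_lit 19612) (nat_lit 4836) (nat_lit 6181) (Dv.wd (nat_lit 120) [Mv.b (nat_lit 18005), Mv.b (nat_lit 19609), Mv.f (nat_lit 19505)])))
(Tr.lf (Fc.ed (nat_lit 19613) (nat_lit 4768) Col.a (nat_lit 4663) (Dv.wd (nat_lit 29) [Mv.f (nat_lit 17951), Mv.f (nat_lit 19610)]))))))
(Tr.nd (nat_lit 19616) (Tr.nd (nat_lit 19615) (Tr.lf (Fc.ed (nat_lit 19614) (nat_lit 6136) Col.a (nat_lit 5081) (Dv.wd (nat_lit 29) [Mv.b (nat_lit 18032), Mv.b (nat_lit 19611)])))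
(Tr.lf (Fc.ed (nat_lit 19615) (nat_lit 4836) Col.f (nat_lit 4171) (Dv.wd (nat_lit 30) [Mv.f (nat_lit 15488), Mv.b (nat_lit 19612)]))))
(Tr.nd (nat_lit 19617) (Tr.lf (Fc.al (nat_lit 19616) (nat_lit 5438) (nat_lit 5372) (Dv.wd (nat_lit 12) [Mv.b (nat_lit 13806), Mv.f (nat_lit 12627), Mv.f (nat_lit 19615), Mv.f (nat_lit 13978)])))
(Tr.nd (nat_lit 19618) (Tr.lf (Fc.ed (nat_lit 19617) (nat_lit 5372) Col.d (nat_lit 5537) (Dv.wd (nat_lit 120) [Mv.f (nat_lit 18004), Mv.f (nat_lit 19616)])))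
(Tr.lf (Fc.ed (nat_lit 19618) (nat_lit 5537) Col.gi (nat_lit 4578) (Dv.wd (nat_lit 50) [Mv.b (nat_lit 12921), Mv.f (nat_lit 14301), Mv.b (nat_lit 19508), Mv.f (nat_lit 11417), Mv.f (nat_lit 5748), Mv.f (nat_lit 5886), Mv.f (nat_lit 6721), Mv.b (nat_lit 13807), Mv.f (nat_lit 19617)])))))))
(Tr.nd (nat_lit 19624) (Tr.nd (nat_lit 19621) (Tr.nd (nat_lit 19620) (Tr.lf (Fc.ed (nat_lit 19619) (nat_lit 2182) Col.gi (nat_lit 5537) (Dv.wd (nat_lit 12) [Mv.f (nat_lit 19618), Mv.f (nat_lit 11644), Mv.b (nat_lit 11520)])))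
(Tr.lf (Fc.al (nat_lit 19620) (nat_lit 5163) (nat_lit 6932) (Dv.wd (nat_lit 154) [Mv.f (nat_lit 18010), Mv.b (nat_lit 17596), Mv.f (nat_lit 19618), Mv.b (nat_lit 12921), Mv.b (nat_lit 12919), Mv.b (nat_lit 19243), Mv.f (nat_lit 19245), Mv.b (nat_lit 19250), Mv.f (nat_lit 19249), Mv.f (nat_lit 12865), Mv.b (nat_lit 13339)]))))
(Tr.nd (nat_lit 19622) (Tr.lf (Fc.al (nat_lit 19621) (nat_lit 6657) (nat_lit 5892) (Dv.wd (nat_lit 29) [Mv.b (nat_lit 18009), Mv.b (nat_lit 19620), Mv.b (nat_lit 17372)])))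
(Tr.nd (nat_lit 19623) (Tr.lf (Fc.al (nat_lit 19622) (nat_lit 6416) (nat_lit 4732) (Dv.wd (nat_lit 30) [Mv.f (nat_lit 17371), Mv.f (nat_lit 19621), Mv.f (nat_lit 16660)])))
(Tr.lf (Fc.ed (nat_lit 19623) (nat_lit 4732) Col.a (nat_lit 4935) (Dv.wd (nat_lit 29) [Mv.b (nat_lit 16661), Mv.f (nat_lit 19622)]))))))
(Tr.nd (nat_lit 19627) (Tr.nd (nat_lit 19625) (Tr.lf (Fc.ed (nat_lit 19624) (nat_lit 7116) Col.g (nat_lit 6860) (Dv.wd (nat_lit 69) [Mv.f (nat_lit 17865), Mv.f (nat_lit 16636), Mv.f (nat_lit 6048), Mv.f (nat_lit 19619), Mv.b (nat_lit 19617), Mv.b (nat_lit 13806), Mv.b (nat_lit 19503), Mv.f (nat_lit 19504), Mv.f (nat_lit 19580)])))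
(Tr.nd (nat_lit 19626) (Tr.lf (Fc.ed (nat_lit 19625) (nat_lit 6741) Col.a (nat_lit 6988) (Dv.wd (nat_lit 79) [Mv.b (nat_lit 18111), Mv.f (nat_lit 19614), Mv.b (nat_lit 17597)])))
(Tr.lf (Fc.ed (nat_lit 19626) (nat_lit 6988) Col.c (nat_lit 4955) (Dv.wd (nat_lit 33) [Mv.f (nat_lit 14157), Mv.f (nat_lit 17596), Mv.f (nat_lit 19625)])))))
(Tr.nd (nat_lit 19628) (Tr.lf (Fc.ed (nat_lit 19627) (nat_lit 7110) Col.g (nat_lit 6988) (Dv.wd (nat_lit 118) [Mv.f (nat_lit 19626), Mv.b (nat_lit 12869), Mv.f (nat_lit 12691), Mv.f (nat_lit 12712), Mv.b (nat_lit 19268), Mv.f (nat_lit 8912), Mv.b (nat_lit 5180), Mv.f (nat_lit 7589), Mv.b (nat_lit 16966), Mv.f (nat_lit 19569)])))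
(Tr.nd (nat_lit 19629) (Tr.lf (Fc.ed (nat_lit 19628) (nat_lit 5081) Col.g (nat_lit 7110) (Dv.wd (nat_lit 17) [Mv.f (nat_lit 19627), Mv.b (nat_lit 19625), Mv.f (nat_lit 17597)])))
(Tr.lf (Fc.ed (nat_lit 19629) (nat_lit 5668) Col.d (nat_lit 7125) Dv.df)))))))))
(Tr.nd (nat_lit 19671) (Tr.nd (nat_lit 19650) (Tr.nd (nat_lit 19640) (Tr.nd (nat_lit 19635) (Tr.nd (nat_lit 19632) (Tr.nd (nat_lit 19631) (Tr.lf (Fc.ed (nat_lit 19630) (nat_lit 5361) Col.b (nat_lit 7126) Dv.df))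
(Tr.lf (Fc.ed (nat_lit 19631) (nat_lit 7126) Col.e (nat_lit 4508) (Dv.wd (nat_lit 52) [Mv.b (nat_lit 17988), Mv.b (nat_lit 19327), Mv.f (nat_lit 19630)]))))
(Tr.nd (nat_lit 19633) (Tr.lf (Fc.ed (nat_lit 19632) (nat_lit 6843) Col.b (nat_lit 7127) Dv.df))
(Tr.nd (nat_lit 19634) (Tr.lf (Fc.ed (nat_lit 19633) (nat_lit 7127) Col.e (nat_lit 4598) (Dv.wd (nat_lit 52) [Mv.f (nat_lit 14253), Mv.f (nat_lit 19196), Mv.f (nat_lit 19632)])))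
(Tr.lf (Fc.ed (nat_lit 19634) (nat_lit 6857) Col.gi (nat_lit 7128) Dv.df)))))
(Tr.nd (nat_lit 19637) (Tr.nd (nat_lit 19636) (Tr.lf (Fc.ed (nat_lit 19635) (nat_lit 7128) Col.f (nat_lit 6978) (Dv.wd (nat_lit 13) [Mv.f (nat_lit 18095), Mv.f (nat_lit 17861), Mv.f (nat_lit 19634)])))
(Tr.lf (Fc.ed (nat_lit 19636) (nat_lit 6335) Col.a (nat_lit 7128) (Dv.wd (nat_lit 79) [Mv.f (nat_lit 19635), Mv.f (nat_lit 18095), Mv.b (nat_lit 15846)]))))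
(Tr.nd (nat_lit 19638) (Tr.lf (Fc.ed (nat_lit 19637) (nat_lit 2468) Col.e (nat_lit 7129) Dv.df))
(Tr.nd (nat_lit 19639) (Tr.lf (Fc.ed (nat_lit 19638) (nat_lit 7129) Col.b (nat_lit 4118) (Dv.wd (nat_lit 49) [Mv.b (nat_lit 17397), Mv.f (nat_lit 19325), Mv.f (nat_lit 19637)])))
(Tr.lf (Fc.ed (nat_lit 19639) (nat_lit 7129) Col.c (nat_lit 7126) (Dv.wd (nat_lit 18) [Mv.f (nat_lit 19631), Mv.f (nat_lit 11978), Mv.f (nat_lit 19637)])))))))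
(Tr.nd (nat_lit 19645) (Tr.nd (nat_lit 19642) (Tr.nd (nat_lit 19641) (Tr.lf (Fc.ed (nat_lit 19640) (nat_lit 7110) Col.c (nat_lit 7130) Dv.df))
(Tr.lf (Fc.ed (nat_lit 19641) (nat_lit 7130) Col.b (nat_lit 3763) (Dv.wd (nat_lit 87) [Mv.f (nat_lit 18257), Mv.b (nat_lit 16935), Mv.b (nat_lit 16966), Mv.f (nat_lit 19569), Mv.f (nat_lit 19640)]))))
(Tr.nd (nat_lit 19643) (Tr.lf (Fc.ed (nat_lit 19642) (nat_lit 6217) Col.g (nat_lit 7122) (Dv.wd (nat_lit 122) [Mv.b (nat_lit 19592), Mv.b (nat_lit 17160), Mv.f (nat_lit 19628), Mv.f (nat_lit 19640), Mv.f (nat_lit 19641), Mv.f (nat_lit 18254), Mv.f (nat_lit 8003), Mv.b (nat_lit 8410), Mv.b (nat_lit 16969), Mv.f (nat_lit 18458)])))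
(Tr.nd (nat_lit 19644) (Tr.lf (Fc.ed (nat_lit 19643) (nat_lit 5709) Col.gi (nat_lit 7130) (Dv.wd (nat_lit 157) [Mv.f (nat_lit 19641), Mv.f (nat_lit 18257), Mv.f (nat_lit 7813), Mv.f (nat_lit 19048), Mv.b (nat_lit 11630), Mv.f (nat_lit 3267), Mv.f (nat_lit 6039), Mv.b (nat_lit 6182), Mv.b (nat_lit 14302), Mv.b (nat_lit 17161)])))
(Tr.lf (Fc.ed (nat_lit 19644) (nat_lit 6808) Col.f (nat_lit 7131) Dv.df)))))
(Tr.nd (nat_lit 19647) (Tr.nd (nat_lit 19646) (Tr.lf (Fc.ed (nat_lit 19645) (nat_lit 7131) Col.d (nat_lit 6505) (Dv.wd (nat_lit 21) [Mv.f (nat_lit 16990), Mv.f (nat_lit 17740), Mv.f (nat_lit 19644)])))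
(Tr.lf (Fc.ed (nat_lit 19646) (nat_lit 5046) Col.gi (nat_lit 7132) Dv.df)))
(Tr.nd (nat_lit 19648) (Tr.lf (Fc.ed (nat_lit 19647) (nat_lit 7132) Col.gi (nat_lit 7032) (Dv.wd (nat_lit 24) [Mv.b (nat_lit 18192), Mv.b (nat_lit 13102), Mv.f (nat_lit 19646)])))
(Tr.nd (nat_lit 19649) (Tr.lf (Fc.ed (nat_lit 19648) (nat_lit 6323) Col.b (nat_lit 7133) Dv.df))
(Tr.lf (Fc.ed (nat_lit 19649) (nat_lit 7133) Col.d (nat_lit 5946) (Dv.wd (nat_lit 58) [Mv.f (nat_lit 15034), Mv.b (nat_lit 15825), Mv.f (nat_lit 19648)]))))))))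
(Tr.nd (nat_lit 19660) (Tr.nd (nat_lit 19655) (Tr.nd (nat_lit 19652) (Tr.nd (nat_lit 19651) (Tr.lf (Fc.ed (nat_lit 19650) (nat_lit 7133) Col.e (nat_lit 3578) (Dv.wd (nat_lit 52) [Mv.b (nat_lit 19193), Mv.f (nat_lit 15823), Mv.f (nat_lit 19648)])))
(Tr.lf (Fc.ed (nat_lit 19651) (nat_lit 7133) Col.c (nat_lit 6095) (Dv.wd (nat_lit 93) [Mv.f (nat_lit 15334), Mv.b (nat_lit 15164), Mv.f (nat_lit 17680), Mv.f (nat_lit 19195), Mv.f (nat_lit 19648)]))))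
(Tr.nd (nat_lit 19653) (Tr.lf (Fc.ed (nat_lit 19652) (nat_lit 5861) Col.c (nat_lit 7134) Dv.df))
(Tr.nd (nat_lit 19654) (Tr.lf (Fc.ed (nat_lit 19653) (nat_lit 7134) Col.b (nat_lit 7112) (Dv.wd (nat_lit 106) [Mv.f (nat_lit 19573), Mv.f (nat_lit 14298), Mv.f (nat_lit 14300), Mv.f (nat_lit 15104), Mv.f (nat_lit 15176), Mv.b (nat_lit 19532), Mv.b (nat_lit 13336), Mv.b (nat_lit 13003), Mv.f (nat_lit 14849), Mv.f (nat_lit 19652)])))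
(Tr.lf (Fc.ed (nat_lit 19654) (nat_lit 7128) Col.c (nat_lit 7135) Dv.df)))))
(Tr.nd (nat_lit 19657) (Tr.nd (nat_lit 19656) (Tr.lf (Fc.ed (nat_lit 19655) (nat_lit 5516) Col.e (nat_lit 7136) Dv.df))
(Tr.lf (Fc.ed (nat_lit 19656) (nat_lit 7136) Col.c (nat_lit 6626) (Dv.wd (nat_lit 18) [Mv.b (nat_lit 17309), Mv.f (nat_lit 14116), Mv.f (nat_lit 19655)]))))
(Tr.nd (nat_lit 19658) (Tr.lf (Fc.ed (nat_lit 19657) (nat_lit 6332) Col.f (nat_lit 7137) Dv.df))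
(Tr.nd (nat_lit 19659) (Tr.lf (Fc.ed (nat_lit 19658) (nat_lit 7137) Col.b (nat_lit 7023) (Dv.wd (nat_lit 66) [Mv.b (nat_lit 18176), Mv.f (nat_lit 15840), Mv.f (nat_lit 19657)])))
(Tr.lf (Fc.ed (nat_lit 19659) (nat_lit 7137) Col.c (nat_lit 6561) (Dv.wd (nat_lit 34) [Mv.b (nat_lit 17115), Mv.b (nat_lit 15841), Mv.f (nat_lit 19657)])))))))
(Tr.nd (nat_lit 19665) (Tr.nd (nat_lit 19662) (Tr.nd (nat_lit 19661) (Tr.lf (Fc.ed (nat_lit 19660) (nat_lit 6752) Col.a (nat_lit 7138) Dv.df))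
(Tr.lf (Fc.ed (nat_lit 19661) (nat_lit 7138) Col.d (nat_lit 4922) (Dv.wd (nat_lit 28) [Mv.b (nat_lit 14746), Mv.f (nat_lit 17625), Mv.f (nat_lit 19660)]))))
(Tr.nd (nat_lit 19663) (Tr.lf (Fc.ed (nat_lit 19662) (nat_lit 7138) Col.b (nat_lit 6962) (Dv.wd (nat_lit 65) [Mv.b (nat_lit 18987), Mv.f (nat_lit 17432), Mv.b (nat_lit 16697), Mv.b (nat_lit 17626), Mv.f (nat_lit 19660)])))
(Tr.nd (nat_lit 19664) (Tr.lf (Fc.ed (nat_lit 19663) (nat_lit 6966) Col.c (nat_lit 7139) Dv.df))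
(Tr.lf (Fc.ed (nat_lit 19664) (nat_lit 6641) Col.b (nat_lit 7140) Dv.df)))))
(Tr.nd (nat_lit 19668) (Tr.nd (nat_lit 19666) (Tr.lf (Fc.ed (nat_lit 19665) (nat_lit 4818) Col.c (nat_lit 7141) Dv.df))
(Tr.nd (nat_lit 19667) (Tr.lf (Fc.ed (nat_lit 19666) (nat_lit 7120) Col.gi (nat_lit 7142) Dv.df))
(Tr.lf (Fc.ed (nat_lit 19667) (nat_lit 7142) Col.d (nat_lit 5540) (Dv.wd (nat_lit 53) [Mv.f (nat_lit 15027), Mv.b (nat_lit 17420), Mv.b (nat_lit 15302), Mv.b (nat_lit 10142), Mv.f (nat_lit 6693), Mv.b (nat_lit 3873), Mv.b (nat_lit 6149), Mv.f (nat_lit 15102), Mv.f (nat_lit 19588), Mv.f (nat_lit 19666)])))))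
(Tr.nd (nat_lit 19669) (Tr.lf (Fc.ed (nat_lit 19668) (nat_lit 6807) Col.c (nat_lit 7143) Dv.df))
(Tr.nd (nat_lit 19670) (Tr.lf (Fc.ed (nat_lit 19669) (nat_lit 7143) Col.a (nat_lit 6871) (Dv.wd (nat_lit 19) [Mv.f (nat_lit 17892), Mv.b (nat_lit 19395), Mv.f (nat_lit 19668)])))
(Tr.lf (Fc.ed (nat_lit 19670) (nat_lit 7090) Col.gi (nat_lit 7144) Dv.df))))))))
(Tr.nd (nat_lit 19692) (Tr.nd (nat_lit 19681) (Tr.nd (nat_lit 19676) (Tr.nd (nat_lit 19673) (Tr.nd (nat_lit 19672) (Tr.lf (Fc.ed (nat_lit 19671) (nat_lit 7144) Col.c (nat_lit 6124) (Dv.wd (nat_lit 94) [Mv.f (nat_lit 15387), Mv.b (nat_lit 5989), Mv.b (nat_lit 5277), Mv.f (nat_lit 7297), Mv.b (nat_lit 16831), Mv.f (nat_lit 19219), Mv.f (nat_lit 14040), Mv.f (nat_lit 19552), Mv.f (nat_lit 19553), Mv.f (nat_lit 19670)])))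
(Tr.lf (Fc.ed (nat_lit 19672) (nat_lit 7088) Col.a (nat_lit 7144) (Dv.wd (nat_lit 76) [Mv.f (nat_lit 19671), Mv.f (nat_lit 17041), Mv.b (nat_lit 19500)]))))
(Tr.nd (nat_lit 19674) (Tr.lf (Fc.ed (nat_lit 19673) (nat_lit 6982) Col.a (nat_lit 7145) Dv.df))
(Tr.nd (nat_lit 19675) (Tr.lf (Fc.ed (nat_lit 19674) (nat_lit 7145) Col.c (nat_lit 4185) (Dv.wd (nat_lit 33) [Mv.b (nat_lit 17265), Mv.b (nat_lit 18102), Mv.f (nat_lit 19673)])))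
(Tr.lf (Fc.ed (nat_lit 19675) (nat_lit 6132) Col.g (nat_lit 7146) Dv.df)))))
(Tr.nd (nat_lit 19678) (Tr.nd (nat_lit 19677) (Tr.lf (Fc.ed (nat_lit 19676) (nat_lit 5707) Col.d (nat_lit 7147) Dv.df))
(Tr.lf (Fc.ed (nat_lit 19677) (nat_lit 6055) Col.a (nat_lit 7148) Dv.df)))
(Tr.nd (nat_lit 19679) (Tr.lf (Fc.ed (nat_lit 19678) (nat_lit 7148) Col.d (nat_lit 5331) (Dv.wd (nat_lit 28) [Mv.b (nat_lit 13731), Mv.f (nat_lit 15255), Mv.f (nat_lit 19677)])))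
(Tr.nd (nat_lit 19680) (Tr.lf (Fc.ed (nat_lit 19679) (nat_lit 6074) Col.c (nat_lit 7149) Dv.df))
(Tr.lf (Fc.ed (nat_lit 19680) (nat_lit 7149) Col.e (nat_lit 5987) (Dv.wd (nat_lit 25) [Mv.f (nat_lit 17820), Mv.b (nat_lit 15292), Mv.f (nat_lit 19679)])))))))
(Tr.nd (nat_lit 19686) (Tr.nd (nat_lit 19683) (Tr.nd (nat_lit 19682) (Tr.lf (Fc.ed (nat_lit 19681) (nat_lit 3421) Col.c (nat_lit 7150) Dv.df))
(Tr.lf (Fc.ed (nat_lit 19682) (nat_lit 7150) Col.a (nat_lit 7074) (Dv.wd (nat_lit 19) [Mv.b (nat_lit 19442), Mv.f (nat_lit 16092), Mv.f (nat_lit 19681)]))))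
(Tr.nd (nat_lit 19684) (Tr.lf (Fc.ed (nat_lit 19683) (nat_lit 6190) Col.c (nat_lit 7151) Dv.df))
(Tr.nd (nat_lit 19685) (Tr.lf (Fc.ed (nat_lit 19684) (nat_lit 7008) Col.d (nat_lit 7152) Dv.df))
(Tr.lf (Fc.ed (nat_lit 19685) (nat_lit 7150) Col.gi (nat_lit 7153) Dv.df)))))
(Tr.nd (nat_lit 19689) (Tr.nd (nat_lit 19687) (Tr.lf (Fc.ed (nat_lit 19686) (nat_lit 7153) Col.gi (nat_lit 7001) (Dv.wd (nat_lit 24) [Mv.b (nat_lit 19443), Mv.b (nat_lit 19682), Mv.f (nat_lit 19685)])))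
(Tr.nd (nat_lit 19688) (Tr.lf (Fc.ed (nat_lit 19687) (nat_lit 6939) Col.a (nat_lit 7154) Dv.df))
(Tr.lf (Fc.ed (nat_lit 19688) (nat_lit 7154) Col.c (nat_lit 5496) (Dv.wd (nat_lit 33) [Mv.f (nat_lit 14086), Mv.f (nat_lit 18021), Mv.f (nat_lit 19687)])))))
(Tr.nd (nat_lit 19690) (Tr.lf (Fc.ed (nat_lit 19689) (nat_lit 7065) Col.gi (nat_lit 7155) Dv.df))
(Tr.nd (nat_lit 19691) (Tr.lf (Fc.ed (nat_lit 19690) (nat_lit 7155) Col.c (nat_lit 7108) (Dv.wd (nat_lit 81) [Mv.b (nat_lit 19558), Mv.b (nat_lit 16686), Mv.b (nat_lit 16707), Mv.f (nat_lit 17874), Mv.f (nat_lit 17883), Mv.b (nat_lit 17715), Mv.f (nat_lit 17250), Mv.f (nat_lit 19427), Mv.f (nat_lit 19689)])))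
(Tr.lf (Fc.ed (nat_lit 19691) (nat_lit 7108) Col.b (nat_lit 3561) (Dv.wd (nat_lit 101) [Mv.b (nat_lit 8984), Mv.f (nat_lit 5533), Mv.b (nat_lit 8606), Mv.f (nat_lit 9744), Mv.f (nat_lit 16121), Mv.f (nat_lit 17573), Mv.b (nat_lit 17886), Mv.f (nat_lit 19427), Mv.f (nat_lit 19689), Mv.f (nat_lit 19690)]))))))))
(Tr.nd (nat_lit 19702) (Tr.nd (nat_lit 19697) (Tr.nd (nat_lit 19694) (Tr.nd (nat_lit 19693) (Tr.lf (Fc.ed (nat_lit 19692) (nat_lit 7069) Col.d (nat_lit 7108) (Dv.wd (nat_lit 116) [Mv.f (nat_lit 19691), Mv.f (nat_lit 16247), Mv.f (nat_lit 19435)])))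
(Tr.lf (Fc.ed (nat_lit 19693) (nat_lit 4797) Col.c (nat_lit 7156) Dv.df)))
(Tr.nd (nat_lit 19695) (Tr.lf (Fc.ed (nat_lit 19694) (nat_lit 5477) Col.c (nat_lit 7157) Dv.df))
(Tr.nd (nat_lit 19696) (Tr.lf (Fc.ed (nat_lit 19695) (nat_lit 5055) Col.b (nat_lit 7158) Dv.df))
(Tr.lf (Fc.ed (nat_lit 19696) (nat_lit 7158) Col.e (nat_lit 7071) (Dv.wd (nat_lit 52) [Mv.b (nat_lit 19438), Mv.f (nat_lit 18710), Mv.f (nat_lit 19695)]))))))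
(Tr.nd (nat_lit 19699) (Tr.nd (nat_lit 19698) (Tr.lf (Fc.ed (nat_lit 19697) (nat_lit 7158) Col.f (nat_lit 7129) (Dv.wd (nat_lit 20) [Mv.f (nat_lit 19638), Mv.f (nat_lit 18711), Mv.f (nat_lit 19695)])))
(Tr.lf (Fc.ed (nat_lit 19698) (nat_lit 5794) Col.e (nat_lit 7159) Dv.df)))
(Tr.nd (nat_lit 19700) (Tr.lf (Fc.ed (nat_lit 19699) (nat_lit 7159) Col.a (nat_lit 6923) (Dv.wd (nat_lit 15) [Mv.b (nat_lit 17985), Mv.f (nat_lit 14716), Mv.f (nat_lit 19698)])))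
(Tr.nd (nat_lit 19701) (Tr.lf (Fc.ed (nat_lit 19700) (nat_lit 6159) Col.d (nat_lit 7160) Dv.df))
(Tr.lf (Fc.ed (nat_lit 19701) (nat_lit 7160) Col.a (nat_lit 7099) (Dv.wd (nat_lit 8) [Mv.b (nat_lit 19539), Mv.b (nat_lit 19184), Mv.f (nat_lit 19700)])))))))
(Tr.nd (nat_lit 19707) (Tr.nd (nat_lit 19704) (Tr.nd (nat_lit 19703) (Tr.lf (Fc.ed (nat_lit 19702) (nat_lit 4361) Col.b (nat_lit 7161) Dv.df))
(Tr.lf (Fc.ed (nat_lit 19703) (nat_lit 7161) Col.f (nat_lit 7073) (Dv.wd (nat_lit 20) [Mv.f (nat_lit 19441), Mv.f (nat_lit 16985), Mv.f (nat_lit 19702)]))))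
(Tr.nd (nat_lit 19705) (Tr.lf (Fc.ed (nat_lit 19704) (nat_lit 4766) Col.g (nat_lit 7162) Dv.df))
(Tr.nd (nat_lit 19706) (Tr.lf (Fc.ed (nat_lit 19705) (nat_lit 7162) Col.g (nat_lit 7119) (Dv.wd (nat_lit 9) [Mv.f (nat_lit 19586), Mv.f (nat_lit 18020), Mv.f (nat_lit 19704)])))
(Tr.lf (Fc.ed (nat_lit 19706) (nat_lit 7071) Col.f (nat_lit 7163) Dv.df)))))
(Tr.nd (nat_lit 19710) (Tr.nd (nat_lit 19708) (Tr.lf (Fc.ed (nat_lit 19707) (nat_lit 7163) Col.b (nat_lit 6737) (Dv.wd (nat_lit 66) [Mv.f (nat_lit 18505), Mv.f (nat_lit 19438), Mv.f (nat_lit 19706)])))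
(Tr.nd (nat_lit 19709) (Tr.lf (Fc.ed (nat_lit 19708) (nat_lit 7163) Col.e (nat_lit 2767) (Dv.wd (nat_lit 22) [Mv.b (nat_lit 11977), Mv.f (nat_lit 19637), Mv.b (nat_lit 19697), Mv.f (nat_lit 19696), Mv.f (nat_lit 19706)])))
(Tr.lf (Fc.ed (nat_lit 19709) (nat_lit 6874) Col.gi (nat_lit 7164) Dv.df))))
(Tr.nd (nat_lit 19711) (Tr.lf (Fc.ed (nat_lit 19710) (nat_lit 7163) Col.c (nat_lit 7165) Dv.df))
(Tr.nd (nat_lit 19712) (Tr.lf (Fc.ed (nat_lit 19711) (nat_lit 7165) Col.e (nat_lit 4402) (Dv.wd (nat_lit 25) [Mv.b (nat_lit 11326), Mv.b (nat_lit 19708), Mv.f (nat_lit 19710)])))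
(Tr.lf (Fc.ed (nat_lit 19712) (nat_lit 7165) Col.b (nat_lit 7157) (Dv.wd (nat_lit 87) [Mv.b (nat_lit 19694), Mv.b (nat_lit 15014), Mv.f (nat_lit 18503), Mv.b (nat_lit 19707), Mv.f (nat_lit 19710)]))))))))))))))
(Tr.nd (nat_lit 20370) (Tr.nd (nat_lit 20041) (Tr.nd (nat_lit 19877) (Tr.nd (nat_lit 19795) (Tr.nd (nat_lit 19754) (Tr.nd (nat_lit 19733) (Tr.nd (nat_lit 19723) (Tr.nd (nat_lit 19718) (Tr.nd (nat_lit 19715) (Tr.nd (nat_lit 19714) (Tr.lf (Fc.ed (nat_lit 19713) (nat_lit 6331) Col.gi (nat_lit 7166) Dv.df))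
(Tr.lf (Fc.ed (nat_lit 19714) (nat_lit 7166) Col.gi (nat_lit 6853) (Dv.wd (nat_lit 24) [Mv.f (nat_lit 19501), Mv.f (nat_lit 19502), Mv.f (nat_lit 19713)]))))
(Tr.nd (nat_lit 19716) (Tr.lf (Fc.ed (nat_lit 19715) (nat_lit 6503) Col.f (nat_lit 7167) Dv.df))
(Tr.nd (nat_lit 19717) (Tr.lf (Fc.ed (nat_lit 19716) (nat_lit 7167) Col.b (nat_lit 6999) (Dv.wd (nat_lit 66) [Mv.f (nat_lit 18128), Mv.b (nat_lit 16829), Mv.f (nat_lit 19715)])))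
(Tr.lf (Fc.ed (nat_lit 19717) (nat_lit 6952) Col.gi (nat_lit 7168) Dv.df)))))
(Tr.nd (nat_lit 19720) (Tr.nd (nat_lit 19719) (Tr.lf (Fc.ed (nat_lit 19718) (nat_lit 7168) Col.f (nat_lit 7143) (Dv.wd (nat_lit 13) [Mv.f (nat_lit 19669), Mv.b (nat_lit 18041), Mv.f (nat_lit 19717)])))
(Tr.lf (Fc.ed (nat_lit 19719) (nat_lit 7002) Col.f (nat_lit 7169) Dv.df)))
(Tr.nd (nat_lit 19721) (Tr.lf (Fc.ed (nat_lit 19720) (nat_lit 7169) Col.a (nat_lit 7112) (Dv.wd (nat_lit 23) [Mv.b (nat_lit 19572), Mv.b (nat_lit 18136), Mv.f (nat_lit 19719)])))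
(Tr.nd (nat_lit 19722) (Tr.lf (Fc.ed (nat_lit 19721) (nat_lit 7049) Col.c (nat_lit 7170) Dv.df))
(Tr.lf (Fc.ed (nat_lit 19722) (nat_lit 7170) Col.f (nat_lit 7130) (Dv.wd (nat_lit 26) [Mv.b (nat_lit 19640), Mv.f (nat_lit 19570), Mv.f (nat_lit 19721)])))))))
(Tr.nd (nat_lit 19728) (Tr.nd (nat_lit 19725) (Tr.nd (nat_lit 19724) (Tr.lf (Fc.ed (nat_lit 19723) (nat_lit 7170) Col.b (nat_lit 3300) (Dv.wd (nat_lit 87) [Mv.b (nat_lit 18265), Mv.f (nat_lit 16936), Mv.f (nat_lit 16968), Mv.f (nat_lit 19253), Mv.f (nat_lit 19721)])))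
(Tr.lf (Fc.ed (nat_lit 19724) (nat_lit 6332) Col.gi (nat_lit 7170) (Dv.wd (nat_lit 157) [Mv.f (nat_lit 19723), Mv.b (nat_lit 18265), Mv.f (nat_lit 18307), Mv.f (nat_lit 6082), Mv.f (nat_lit 19062), Mv.b (nat_lit 3461), Mv.b (nat_lit 6099), Mv.f (nat_lit 6133), Mv.f (nat_lit 15789), Mv.b (nat_lit 15841)]))))
(Tr.nd (nat_lit 19726) (Tr.lf (Fc.ed (nat_lit 19725) (nat_lit 5030) Col.g (nat_lit 7171) Dv.df))
(Tr.nd (nat_lit 19727) (Tr.lf (Fc.ed (nat_lit 19726) (nat_lit 7171) Col.g (nat_lit 5019) (Dv.wd (nat_lit 9) [Mv.b (nat_lit 13326), Mv.f (nat_lit 13062), Mv.f (nat_lit 19725)])))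
(Tr.lf (Fc.ed (nat_lit 19727) (nat_lit 4196) Col.b (nat_lit 7172) Dv.df)))))
(Tr.nd (nat_lit 19730) (Tr.nd (nat_lit 19729) (Tr.lf (Fc.ed (nat_lit 19728) (nat_lit 7172) Col.e (nat_lit 6393) (Dv.wd (nat_lit 52) [Mv.f (nat_lit 19093), Mv.f (nat_lit 16851), Mv.f (nat_lit 19727)])))
(Tr.lf (Fc.ed (nat_lit 19729) (nat_lit 5532) Col.g (nat_lit 7173) Dv.df)))
(Tr.nd (nat_lit 19731) (Tr.lf (Fc.ed (nat_lit 19730) (nat_lit 7173) Col.g (nat_lit 5727) (Dv.wd (nat_lit 9) [Mv.b (nat_lit 15130), Mv.b (nat_lit 15129), Mv.f (nat_lit 19729)])))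
(Tr.nd (nat_lit 19732) (Tr.lf (Fc.ed (nat_lit 19731) (nat_lit 6811) Col.g (nat_lit 7174) Dv.df))
(Tr.lf (Fc.ed (nat_lit 19732) (nat_lit 7102) Col.c (nat_lit 7175) Dv.df)))))))
(Tr.nd (nat_lit 19743) (Tr.nd (nat_lit 19738) (Tr.nd (nat_lit 19735) (Tr.nd (nat_lit 19734) (Tr.lf (Fc.ed (nat_lit 19733) (nat_lit 7127) Col.c (nat_lit 7176) Dv.df))
(Tr.lf (Fc.ed (nat_lit 19734) (nat_lit 7176) Col.e (nat_lit 4616) (Dv.wd (nat_lit 25) [Mv.b (nat_lit 11712), Mv.b (nat_lit 19633), Mv.f (nat_lit 19733)]))))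
(Tr.nd (nat_lit 19736) (Tr.lf (Fc.ed (nat_lit 19735) (nat_lit 7176) Col.gi (nat_lit 5988) (Dv.wd (nat_lit 88) [Mv.f (nat_lit 15139), Mv.b (nat_lit 14744), Mv.b (nat_lit 14357), Mv.f (nat_lit 18989), Mv.b (nat_lit 17843), Mv.f (nat_lit 15510), Mv.f (nat_lit 15207), Mv.b (nat_lit 17830), Mv.f (nat_lit 19632), Mv.f (nat_lit 19733)])))
(Tr.nd (nat_lit 19737) (Tr.lf (Fc.ed (nat_lit 19736) (nat_lit 5922) Col.d (nat_lit 7177) Dv.df))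
(Tr.lf (Fc.ed (nat_lit 19737) (nat_lit 7177) Col.b (nat_lit 7076) (Dv.wd (nat_lit 37) [Mv.b (nat_lit 19445), Mv.f (nat_lit 14982), Mv.f (nat_lit 19736)]))))))
(Tr.nd (nat_lit 19740) (Tr.nd (nat_lit 19739) (Tr.lf (Fc.ed (nat_lit 19738) (nat_lit 4151) Col.b (nat_lit 7178) Dv.df))
(Tr.lf (Fc.ed (nat_lit 19739) (nat_lit 7178) Col.d (nat_lit 6332) (Dv.wd (nat_lit 58) [Mv.b (nat_lit 15840), Mv.b (nat_lit 19506), Mv.f (nat_lit 19738)]))))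
(Tr.nd (nat_lit 19741) (Tr.lf (Fc.ed (nat_lit 19740) (nat_lit 7178) Col.c (nat_lit 7166) (Dv.wd (nat_lit 135) [Mv.b (nat_lit 19713), Mv.f (nat_lit 15839), Mv.b (nat_lit 6776), Mv.f (nat_lit 3547), Mv.b (nat_lit 3545), Mv.b (nat_lit 3523), Mv.b (nat_lit 3204), Mv.b (nat_lit 5747), Mv.f (nat_lit 10726), Mv.f (nat_lit 19738)])))
(Tr.nd (nat_lit 19742) (Tr.lf (Fc.ed (nat_lit 19741) (nat_lit 3571) Col.b (nat_lit 7179) Dv.df))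
(Tr.lf (Fc.ed (nat_lit 19742) (nat_lit 7179) Col.c (nat_lit 7161) (Dv.wd (nat_lit 93) [Mv.b (nat_lit 19702), Mv.f (nat_lit 16855), Mv.b (nat_lit 13982), Mv.b (nat_lit 16854), Mv.f (nat_lit 19741)])))))))
(Tr.nd (nat_lit 19748) (Tr.nd (nat_lit 19745) (Tr.nd (nat_lit 19744) (Tr.lf (Fc.ed (nat_lit 19743) (nat_lit 7082) Col.a (nat_lit 7180) Dv.df))
(Tr.lf (Fc.ed (nat_lit 19744) (nat_lit 7180) Col.c (nat_lit 4291) (Dv.wd (nat_lit 33) [Mv.f (nat_lit 17993), Mv.b (nat_lit 19461), Mv.f (nat_lit 19743)]))))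
(Tr.nd (nat_lit 19746) (Tr.lf (Fc.ed (nat_lit 19745) (nat_lit 5282) Col.b (nat_lit 7181) Dv.df))
(Tr.nd (nat_lit 19747) (Tr.lf (Fc.ed (nat_lit 19746) (nat_lit 7181) Col.e (nat_lit 5622) (Dv.wd (nat_lit 52) [Mv.b (nat_lit 19220), Mv.f (nat_lit 14489), Mv.f (nat_lit 19745)])))
(Tr.lf (Fc.ed (nat_lit 19747) (nat_lit 7028) Col.a (nat_lit 7181) (Dv.wd (nat_lit 31) [Mv.f (nat_lit 19746), Mv.b (nat_lit 19456), Mv.f (nat_lit 18185)]))))))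
(Tr.nd (nat_lit 19751) (Tr.nd (nat_lit 19749) (Tr.lf (Fc.ed (nat_lit 19748) (nat_lit 6687) Col.e (nat_lit 7182) Dv.df))
(Tr.nd (nat_lit 19750) (Tr.lf (Fc.ed (nat_lit 19749) (nat_lit 5532) Col.c (nat_lit 7183) Dv.df))
(Tr.lf (Fc.ed (nat_lit 19750) (nat_lit 6955) Col.e (nat_lit 7184) Dv.df))))
(Tr.nd (nat_lit 19752) (Tr.lf (Fc.ed (nat_lit 19751) (nat_lit 7184) Col.b (nat_lit 7136) (Dv.wd (nat_lit 49) [Mv.b (nat_lit 19655), Mv.b (nat_lit 18047), Mv.f (nat_lit 19750)])))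
(Tr.nd (nat_lit 19753) (Tr.lf (Fc.ed (nat_lit 19752) (nat_lit 7039) Col.a (nat_lit 7185) Dv.df))
(Tr.lf (Fc.ed (nat_lit 19753) (nat_lit 7185) Col.c (nat_lit 4461) (Dv.wd (nat_lit 33) [Mv.b (nat_lit 17272), Mv.b (nat_lit 18204), Mv.f (nat_lit 19752)])))))))))
(Tr.nd (nat_lit 19774) (Tr.nd (nat_lit 19764) (Tr.nd (nat_lit 19759) (Tr.nd (nat_lit 19756) (Tr.nd (nat_lit 19755) (Tr.lf (Fc.ed (nat_lit 19754) (nat_lit 7185) Col.f (nat_lit 7145) (Dv.wd (nat_lit 35) [Mv.b (nat_lit 19673), Mv.f (nat_lit 18203), Mv.f (nat_lit 19752)])))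
(Tr.lf (Fc.ed (nat_lit 19755) (nat_lit 6730) Col.gi (nat_lit 7186) Dv.df)))
(Tr.nd (nat_lit 19757) (Tr.lf (Fc.ed (nat_lit 19756) (nat_lit 7186) Col.gi (nat_lit 4629) (Dv.wd (nat_lit 24) [Mv.b (nat_lit 19389), Mv.b (nat_lit 17576), Mv.f (nat_lit 19755)])))
(Tr.nd (nat_lit 19758) (Tr.lf (Fc.ed (nat_lit 19757) (nat_lit 7186) Col.f (nat_lit 6807) (Dv.wd (nat_lit 13) [Mv.f (nat_lit 19395), Mv.b (nat_lit 19391), Mv.f (nat_lit 19755)])))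
(Tr.lf (Fc.ed (nat_lit 19758) (nat_lit 6948) Col.a (nat_lit 7186) (Dv.wd (nat_lit 79) [Mv.f (nat_lit 19757), Mv.f (nat_lit 19395), Mv.b (nat_lit 18034)]))))))
(Tr.nd (nat_lit 19761) (Tr.nd (nat_lit 19760) (Tr.lf (Fc.ed (nat_lit 19759) (nat_lit 7168) Col.c (nat_lit 7186) (Dv.wd (nat_lit 67) [Mv.f (nat_lit 19757), Mv.f (nat_lit 19668), Mv.b (nat_lit 19718)])))
(Tr.lf (Fc.ed (nat_lit 19760) (nat_lit 7186) Col.b (nat_lit 5861) (Dv.wd (nat_lit 65) [Mv.f (nat_lit 17018), Mv.f (nat_lit 16822), Mv.b (nat_lit 18023), Mv.f (nat_lit 18033), Mv.f (nat_lit 19758)]))))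
(Tr.nd (nat_lit 19762) (Tr.lf (Fc.ed (nat_lit 19761) (nat_lit 7052) Col.a (nat_lit 7187) Dv.df))
(Tr.nd (nat_lit 19763) (Tr.lf (Fc.ed (nat_lit 19762) (nat_lit 7187) Col.c (nat_lit 3897) (Dv.wd (nat_lit 33) [Mv.f (nat_lit 13159), Mv.f (nat_lit 18226), Mv.f (nat_lit 19761)])))
(Tr.lf (Fc.ed (nat_lit 19763) (nat_lit 5132) Col.c (nat_lit 7188) Dv.df))))))
(Tr.nd (nat_lit 19769) (Tr.nd (nat_lit 19766) (Tr.nd (nat_lit 19765) (Tr.lf (Fc.ed (nat_lit 19764) (nat_lit 7188) Col.a (nat_lit 7137) (Dv.wd (nat_lit 19) [Mv.f (nat_lit 19659), Mv.f (nat_lit 17116), Mv.f (nat_lit 19763)])))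
(Tr.lf (Fc.ed (nat_lit 19765) (nat_lit 5388) Col.c (nat_lit 7189) Dv.df)))
(Tr.nd (nat_lit 19767) (Tr.lf (Fc.ed (nat_lit 19766) (nat_lit 7070) Col.a (nat_lit 7190) Dv.df))
(Tr.nd (nat_lit 19768) (Tr.lf (Fc.ed (nat_lit 19767) (nat_lit 7190) Col.e (nat_lit 5855) (Dv.wd (nat_lit 56) [Mv.b (nat_lit 14823), Mv.f (nat_lit 19436), Mv.f (nat_lit 19766)])))
(Tr.lf (Fc.ed (nat_lit 19768) (nat_lit 4503) Col.b (nat_lit 7191) Dv.df)))))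
(Tr.nd (nat_lit 19771) (Tr.nd (nat_lit 19770) (Tr.lf (Fc.ed (nat_lit 19769) (nat_lit 7191) Col.c (nat_lit 7118) (Dv.wd (nat_lit 142) [Mv.f (nat_lit 19584), Mv.b (nat_lit 17138), Mv.b (nat_lit 17135), Mv.b (nat_lit 17030), Mv.f (nat_lit 17077), Mv.f (nat_lit 17078), Mv.f (nat_lit 15352), Mv.b (nat_lit 12552), Mv.b (nat_lit 11504), Mv.f (nat_lit 19768)])))
(Tr.lf (Fc.ed (nat_lit 19770) (nat_lit 5315) Col.g (nat_lit 7192) Dv.df)))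
(Tr.nd (nat_lit 19772) (Tr.lf (Fc.ed (nat_lit 19771) (nat_lit 7192) Col.g (nat_lit 5807) (Dv.wd (nat_lit 9) [Mv.f (nat_lit 14746), Mv.f (nat_lit 13698), Mv.f (nat_lit 19770)])))
(Tr.nd (nat_lit 19773) (Tr.lf (Fc.ed (nat_lit 19772) (nat_lit 6346) Col.b (nat_lit 7193) Dv.df))
(Tr.lf (Fc.ed (nat_lit 19773) (nat_lit 7043) Col.b (nat_lit 7194) Dv.df)))))))
(Tr.nd (nat_lit 19784) (Tr.nd (nat_lit 19779) (Tr.nd (nat_lit 19776) (Tr.nd (nat_lit 19775) (Tr.lf (Fc.ed (nat_lit 19774) (nat_lit 7194) Col.c (nat_lit 7085) (Dv.wd (nat_lit 156) [Mv.f (nat_lit 19493), Mv.b (nat_lit 13498), Mv.b (nat_lit 19573), Mv.b (nat_lit 19653), Mv.b (nat_lit 19652), Mv.b (nat_lit 14849), Mv.f (nat_lit 13003), Mv.f (nat_lit 13323), Mv.b (nat_lit 18211), Mv.f (nat_lit 19773)])))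
(Tr.lf (Fc.ed (nat_lit 19775) (nat_lit 3938) Col.a (nat_lit 7195) Dv.df)))
(Tr.nd (nat_lit 19777) (Tr.lf (Fc.ed (nat_lit 19776) (nat_lit 7195) Col.f (nat_lit 6106) (Dv.wd (nat_lit 10) [Mv.b (nat_lit 15351), Mv.f (nat_lit 9702), Mv.f (nat_lit 19775)])))
(Tr.nd (nat_lit 19778) (Tr.lf (Fc.ed (nat_lit 19777) (nat_lit 6643) Col.gi (nat_lit 7196) Dv.df))
(Tr.lf (Fc.ed (nat_lit 19778) (nat_lit 7196) Col.gi (nat_lit 4301) (Dv.wd (nat_lit 24) [Mv.f (nat_lit 17776), Mv.f (nat_lit 17777), Mv.f (nat_lit 19777)]))))))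
(Tr.nd (nat_lit 19781) (Tr.nd (nat_lit 19780) (Tr.lf (Fc.ed (nat_lit 19779) (nat_lit 6234) Col.g (nat_lit 7197) Dv.df))
(Tr.lf (Fc.ed (nat_lit 19780) (nat_lit 7188) Col.b (nat_lit 7198) Dv.df)))
(Tr.nd (nat_lit 19782) (Tr.lf (Fc.ed (nat_lit 19781) (nat_lit 5897) Col.c (nat_lit 7199) Dv.df))
(Tr.nd (nat_lit 19783) (Tr.lf (Fc.ed (nat_lit 19782) (nat_lit 7199) Col.gi (nat_lit 7185) (Dv.wd (nat_lit 102) [Mv.f (nat_lit 19753), Mv.f (nat_lit 11433), Mv.f (nat_lit 6412), Mv.b (nat_lit 5273), Mv.b (nat_lit 6402), Mv.f (nat_lit 6400), Mv.f (nat_lit 17475), Mv.f (nat_lit 15200), Mv.f (nat_lit 14922), Mv.f (nat_lit 19781)])))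
(Tr.lf (Fc.ed (nat_lit 19783) (nat_lit 6982) Col.gi (nat_lit 7199) (Dv.wd (nat_lit 12) [Mv.f (nat_lit 19782), Mv.f (nat_lit 19754), Mv.b (nat_lit 19673)])))))))
(Tr.nd (nat_lit 19789) (Tr.nd (nat_lit 19786) (Tr.nd (nat_lit 19785) (Tr.lf (Fc.ed (nat_lit 19784) (nat_lit 4793) Col.b (nat_lit 7200) Dv.df))
(Tr.lf (Fc.ed (nat_lit 19785) (nat_lit 6460) Col.e (nat_lit 7201) Dv.df)))
(Tr.nd (nat_lit 19787) (Tr.lf (Fc.ed (nat_lit 19786) (nat_lit 7201) Col.a (nat_lit 7172) (Dv.wd (nat_lit 15) [Mv.f (nat_lit 19728), Mv.b (nat_lit 19096), Mv.f (nat_lit 19785)])))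
(Tr.nd (nat_lit 19788) (Tr.lf (Fc.ed (nat_lit 19787) (nat_lit 6307) Col.b (nat_lit 7202) Dv.df))
(Tr.lf (Fc.ed (nat_lit 19788) (nat_lit 7202) Col.g (nat_lit 7151) (Dv.wd (nat_lit 118) [Mv.b (nat_lit 19683), Mv.f (nat_lit 15502), Mv.f (nat_lit 15305), Mv.b (nat_lit 19225), Mv.b (nat_lit 18459), Mv.f (nat_lit 19253), Mv.f (nat_lit 19721), Mv.b (nat_lit 19724), Mv.f (nat_lit 15841), Mv.f (nat_lit 19787)]))))))
(Tr.nd (nat_lit 19792) (Tr.nd (nat_lit 19790) (Tr.lf (Fc.ed (nat_lit 19789) (nat_lit 7189) Col.g (nat_lit 7203) Dv.df))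
(Tr.nd (nat_lit 19791) (Tr.lf (Fc.ed (nat_lit 19790) (nat_lit 6725) Col.c (nat_lit 7204) Dv.df))
(Tr.lf (Fc.ed (nat_lit 19791) (nat_lit 7065) Col.f (nat_lit 7205) Dv.df))))
(Tr.nd (nat_lit 19793) (Tr.lf (Fc.ed (nat_lit 19792) (nat_lit 7205) Col.c (nat_lit 6299) (Dv.wd (nat_lit 34) [Mv.b (nat_lit 17251), Mv.f (nat_lit 19427), Mv.f (nat_lit 19791)])))
(Tr.nd (nat_lit 19794) (Tr.lf (Fc.ed (nat_lit 19793) (nat_lit 7205) Col.e (nat_lit 3459) (Dv.wd (nat_lit 22) [Mv.b (nat_lit 10440), Mv.b (nat_lit 12632), Mv.f (nat_lit 18192), Mv.b (nat_lit 19428), Mv.f (nat_lit 19791)])))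
(Tr.lf (Fc.ed (nat_lit 19794) (nat_lit 7133) Col.a (nat_lit 7205) (Dv.wd (nat_lit 31) [Mv.f (nat_lit 19793), Mv.f (nat_lit 9013), Mv.b (nat_lit 19650)]))))))))))
(Tr.nd (nat_lit 19836) (Tr.nd (nat_lit 19815) (Tr.nd (nat_lit 19805) (Tr.nd (nat_lit 19800) (Tr.nd (nat_lit 19797) (Tr.nd (nat_lit 19796) (Tr.lf (Fc.ed (nat_lit 19795) (nat_lit 7020) Col.d (nat_lit 7205) (Dv.wd (nat_lit 99) [Mv.f (nat_lit 19793), Mv.f (nat_lit 9458), Mv.f (nat_lit 19187), Mv.f (nat_lit 14141), Mv.b (nat_lit 18171)])))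
(Tr.lf (Fc.ed (nat_lit 19796) (nat_lit 3938) Col.f (nat_lit 7206) Dv.df)))
(Tr.nd (nat_lit 19798) (Tr.lf (Fc.ed (nat_lit 19797) (nat_lit 7206) Col.a (nat_lit 6106) (Dv.wd (nat_lit 16) [Mv.b (nat_lit 19776), Mv.b (nat_lit 19775), Mv.f (nat_lit 19796)])))
(Tr.nd (nat_lit 19799) (Tr.lf (Fc.ed (nat_lit 19798) (nat_lit 7181) Col.d (nat_lit 7207) Dv.df))
(Tr.lf (Fc.ed (nat_lit 19799) (nat_lit 7207) Col.a (nat_lit 6980) (Dv.wd (nat_lit 8) [Mv.b (nat_lit 18186), Mv.f (nat_lit 19747), Mv.f (nat_lit 19798)]))))))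
(Tr.nd (nat_lit 19802) (Tr.nd (nat_lit 19801) (Tr.lf (Fc.ed (nat_lit 19800) (nat_lit 7207) Col.g (nat_lit 4758) (Dv.wd (nat_lit 63) [Mv.b (nat_lit 12479), Mv.f (nat_lit 11782), Mv.b (nat_lit 19244), Mv.b (nat_lit 19602), Mv.b (nat_lit 13493), Mv.f (nat_lit 10759), Mv.b (nat_lit 8895), Mv.b (nat_lit 14324), Mv.b (nat_lit 19746), Mv.f (nat_lit 19798)])))
(Tr.lf (Fc.ed (nat_lit 19801) (nat_lit 7016) Col.g (nat_lit 7207) (Dv.wd (nat_lit 17) [Mv.f (nat_lit 19800), Mv.b (nat_lit 17867), Mv.b (nat_lit 18165)]))))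
(Tr.nd (nat_lit 19803) (Tr.lf (Fc.ed (nat_lit 19802) (nat_lit 6980) Col.f (nat_lit 7022) (Dv.wd (nat_lit 10) [Mv.b (nat_lit 18174), Mv.f (nat_lit 19801), Mv.f (nat_lit 19799)])))
(Tr.nd (nat_lit 19804) (Tr.lf (Fc.ed (nat_lit 19803) (nat_lit 5615) Col.b (nat_lit 7208) Dv.df))
(Tr.lf (Fc.ed (nat_lit 19804) (nat_lit 7208) Col.f (nat_lit 7013) (Dv.wd (nat_lit 20) [Mv.b (nat_lit 18155), Mv.b (nat_lit 17176), Mv.f (nat_lit 19803)])))))))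
(Tr.nd (nat_lit 19810) (Tr.nd (nat_lit 19807) (Tr.nd (nat_lit 19806) (Tr.lf (Fc.ed (nat_lit 19805) (nat_lit 7169) Col.c (nat_lit 7208) (Dv.wd (nat_lit 67) [Mv.f (nat_lit 19804), Mv.f (nat_lit 18156), Mv.f (nat_lit 19719)])))
(Tr.lf (Fc.ed (nat_lit 19806) (nat_lit 5760) Col.g (nat_lit 7169) (Dv.wd (nat_lit 105) [Mv.f (nat_lit 19805), Mv.b (nat_lit 19803), Mv.b (nat_lit 14308), Mv.b (nat_lit 14298), Mv.f (nat_lit 13498), Mv.b (nat_lit 19493), Mv.b (nat_lit 19774), Mv.b (nat_lit 19773), Mv.f (nat_lit 18211), Mv.b (nat_lit 14625)]))))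
(Tr.nd (nat_lit 19808) (Tr.lf (Fc.ed (nat_lit 19807) (nat_lit 7169) Col.g (nat_lit 4810) (Dv.wd (nat_lit 9) [Mv.f (nat_lit 13497), Mv.b (nat_lit 14626), Mv.f (nat_lit 19806)])))
(Tr.nd (nat_lit 19809) (Tr.lf (Fc.ed (nat_lit 19808) (nat_lit 7112) Col.f (nat_lit 5388) (Dv.wd (nat_lit 10) [Mv.b (nat_lit 14627), Mv.f (nat_lit 19806), Mv.f (nat_lit 19720)])))
(Tr.lf (Fc.ed (nat_lit 19809) (nat_lit 5388) Col.a (nat_lit 7002) (Dv.wd (nat_lit 16) [Mv.f (nat_lit 19719), Mv.f (nat_lit 19720), Mv.f (nat_lit 19808)]))))))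
(Tr.nd (nat_lit 19812) (Tr.nd (nat_lit 19811) (Tr.lf (Fc.ed (nat_lit 19810) (nat_lit 7013) Col.a (nat_lit 7189) (Dv.wd (nat_lit 76) [Mv.b (nat_lit 19765), Mv.f (nat_lit 19809), Mv.b (nat_lit 18156)])))
(Tr.lf (Fc.ed (nat_lit 19811) (nat_lit 7189) Col.b (nat_lit 7143) (Dv.wd (nat_lit 65) [Mv.f (nat_lit 19669), Mv.b (nat_lit 17891), Mv.f (nat_lit 17174), Mv.f (nat_lit 18155), Mv.f (nat_lit 19810)]))))
(Tr.nd (nat_lit 19813) (Tr.lf (Fc.ed (nat_lit 19812) (nat_lit 7101) Col.b (nat_lit 7203) (Dv.wd (nat_lit 101) [Mv.b (nat_lit 19789), Mv.f (nat_lit 19811), Mv.b (nat_lit 19668), Mv.b (nat_lit 19388), Mv.b (nat_lit 19393), Mv.f (nat_lit 19392), Mv.b (nat_lit 11000), Mv.f (nat_lit 10872), Mv.b (nat_lit 10987), Mv.f (nat_lit 19542)])))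
(Tr.nd (nat_lit 19814) (Tr.lf (Fc.ed (nat_lit 19813) (nat_lit 7205) Col.b (nat_lit 7209) Dv.df))
(Tr.lf (Fc.ed (nat_lit 19814) (nat_lit 7209) Col.a (nat_lit 6049) (Dv.wd (nat_lit 98) [Mv.f (nat_lit 15246), Mv.b (nat_lit 15824), Mv.f (nat_lit 19648), Mv.f (nat_lit 19794), Mv.f (nat_lit 19813)]))))))))
(Tr.nd (nat_lit 19825) (Tr.nd (nat_lit 19820) (Tr.nd (nat_lit 19817) (Tr.nd (nat_lit 19816) (Tr.lf (Fc.ed (nat_lit 19815) (nat_lit 7209) Col.c (nat_lit 6970) (Dv.wd (nat_lit 93) [Mv.f (nat_lit 18081), Mv.b (nat_lit 17224), Mv.f (nat_lit 17063), Mv.b (nat_lit 19792), Mv.f (nat_lit 19813)])))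
(Tr.lf (Fc.ed (nat_lit 19816) (nat_lit 6630) Col.c (nat_lit 7210) Dv.df)))
(Tr.nd (nat_lit 19818) (Tr.lf (Fc.ed (nat_lit 19817) (nat_lit 7210) Col.a (nat_lit 6772) (Dv.wd (nat_lit 19) [Mv.b (nat_lit 17668), Mv.b (nat_lit 17320), Mv.f (nat_lit 19816)])))
(Tr.nd (nat_lit 19819) (Tr.lf (Fc.ed (nat_lit 19818) (nat_lit 7210) Col.f (nat_lit 7007) (Dv.wd (nat_lit 26) [Mv.b (nat_lit 18148), Mv.f (nat_lit 17773), Mv.f (nat_lit 19816)])))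
(Tr.lf (Fc.ed (nat_lit 19819) (nat_lit 5807) Col.g (nat_lit 7211) Dv.df)))))
(Tr.nd (nat_lit 19822) (Tr.nd (nat_lit 19821) (Tr.lf (Fc.ed (nat_lit 19820) (nat_lit 7211) Col.g (nat_lit 5315) (Dv.wd (nat_lit 9) [Mv.f (nat_lit 17802), Mv.f (nat_lit 17803), Mv.f (nat_lit 19819)])))
(Tr.lf (Fc.ed (nat_lit 19821) (nat_lit 6862) Col.e (nat_lit 7212) Dv.df)))
(Tr.nd (nat_lit 19823) (Tr.lf (Fc.ed (nat_lit 19822) (nat_lit 7212) Col.b (nat_lit 4068) (Dv.wd (nat_lit 49) [Mv.f (nat_lit 15408), Mv.f (nat_lit 17869), Mv.f (nat_lit 19821)])))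
(Tr.nd (nat_lit 19824) (Tr.lf (Fc.ed (nat_lit 19823) (nat_lit 7212) Col.c (nat_lit 7073) (Dv.wd (nat_lit 18) [Mv.b (nat_lit 19440), Mv.f (nat_lit 19098), Mv.f (nat_lit 19821)])))
(Tr.lf (Fc.ed (nat_lit 19824) (nat_lit 7179) Col.f (nat_lit 7212) (Dv.wd (nat_lit 64) [Mv.f (nat_lit 19823), Mv.b (nat_lit 19703), Mv.b (nat_lit 19742)])))))))
(Tr.nd (nat_lit 19830) (Tr.nd (nat_lit 19827) (Tr.nd (nat_lit 19826) (Tr.lf (Fc.ed (nat_lit 19825) (nat_lit 7201) Col.b (nat_lit 7213) Dv.df))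
(Tr.lf (Fc.ed (nat_lit 19826) (nat_lit 7213) Col.e (nat_lit 6828) (Dv.wd (nat_lit 52) [Mv.f (nat_lit 18857), Mv.f (nat_lit 19785), Mv.f (nat_lit 19825)]))))
(Tr.nd (nat_lit 19828) (Tr.lf (Fc.ed (nat_lit 19827) (nat_lit 7213) Col.a (nat_lit 7212) (Dv.wd (nat_lit 98) [Mv.f (nat_lit 19822), Mv.b (nat_lit 16862), Mv.f (nat_lit 19727), Mv.b (nat_lit 19786), Mv.f (nat_lit 19825)])))
(Tr.nd (nat_lit 19829) (Tr.lf (Fc.ed (nat_lit 19828) (nat_lit 6661) Col.gi (nat_lit 7214) Dv.df))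
(Tr.lf (Fc.ed (nat_lit 19829) (nat_lit 7214) Col.d (nat_lit 4503) (Dv.wd (nat_lit 43) [Mv.b (nat_lit 11503), Mv.b (nat_lit 19179), Mv.b (nat_lit 10431), Mv.b (nat_lit 10926), Mv.b (nat_lit 11713), Mv.b (nat_lit 19734), Mv.f (nat_lit 19735), Mv.f (nat_lit 15138), Mv.b (nat_lit 17379), Mv.f (nat_lit 19828)]))))))
(Tr.nd (nat_lit 19833) (Tr.nd (nat_lit 19831) (Tr.lf (Fc.ed (nat_lit 19830) (nat_lit 7013) Col.gi (nat_lit 7215) Dv.df))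
(Tr.nd (nat_lit 19832) (Tr.lf (Fc.ed (nat_lit 19831) (nat_lit 7215) Col.b (nat_lit 7187) (Dv.wd (nat_lit 154) [Mv.f (nat_lit 19762), Mv.f (nat_lit 9590), Mv.f (nat_lit 6449), Mv.b (nat_lit 4911), Mv.b (nat_lit 4966), Mv.f (nat_lit 13064), Mv.f (nat_lit 13063), Mv.b (nat_lit 18136), Mv.b (nat_lit 18156), Mv.f (nat_lit 19830)])))
(Tr.lf (Fc.ed (nat_lit 19832) (nat_lit 5329) Col.d (nat_lit 7216) Dv.df))))
(Tr.nd (nat_lit 19834) (Tr.lf (Fc.ed (nat_lit 19833) (nat_lit 6207) Col.gi (nat_lit 7217) Dv.df))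
(Tr.nd (nat_lit 19835) (Tr.lf (Fc.ed (nat_lit 19834) (nat_lit 7217) Col.b (nat_lit 6302) (Dv.wd (nat_lit 154) [Mv.f (nat_lit 16866), Mv.b (nat_lit 18368), Mv.f (nat_lit 13866), Mv.b (nat_lit 19219), Mv.b (nat_lit 9838), Mv.b (nat_lit 9605), Mv.f (nat_lit 9606), Mv.b (nat_lit 14933), Mv.f (nat_lit 15531), Mv.f (nat_lit 19833)])))
(Tr.lf (Fc.ed (nat_lit 19835) (nat_lit 6745) Col.e (nat_lit 7217) (Dv.wd (nat_lit 82) [Mv.f (nat_lit 19834), Mv.b (nat_lit 16867), Mv.b (nat_lit 19134)])))))))))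
(Tr.nd (nat_lit 19856) (Tr.nd (nat_lit 19846) (Tr.nd (nat_lit 19841) (Tr.nd (nat_lit 19838) (Tr.nd (nat_lit 19837) (Tr.lf (Fc.ed (nat_lit 19836) (nat_lit 7090) Col.f (nat_lit 7217) (Dv.wd (nat_lit 125) [Mv.f (nat_lit 19834), Mv.b (nat_lit 16868), Mv.b (nat_lit 19510)])))
(Tr.lf (Fc.ed (nat_lit 19837) (nat_lit 4300) Col.b (nat_lit 7218) Dv.df)))
(Tr.nd (nat_lit 19839) (Tr.lf (Fc.ed (nat_lit 19838) (nat_lit 7218) Col.c (nat_lit 7203) (Dv.wd (nat_lit 93) [Mv.b (nat_lit 19812), Mv.b (nat_lit 19542), Mv.b (nat_lit 11739), Mv.b (nat_lit 11738), Mv.f (nat_lit 19837)])))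
(Tr.nd (nat_lit 19840) (Tr.lf (Fc.ed (nat_lit 19839) (nat_lit 7194) Col.g (nat_lit 7218) (Dv.wd (nat_lit 105) [Mv.f (nat_lit 19838), Mv.b (nat_lit 19812), Mv.f (nat_lit 19543), Mv.b (nat_lit 18201), Mv.b (nat_lit 18120), Mv.f (nat_lit 15806), Mv.f (nat_lit 13610), Mv.f (nat_lit 13040), Mv.b (nat_lit 19493), Mv.b (nat_lit 19774)])))
(Tr.lf (Fc.ed (nat_lit 19840) (nat_lit 7112) Col.c (nat_lit 7219) Dv.df)))))
(Tr.nd (nat_lit 19843) (Tr.nd (nat_lit 19842) (Tr.lf (Fc.ed (nat_lit 19841) (nat_lit 7219) Col.b (nat_lit 7168) (Dv.wd (nat_lit 87) [Mv.f (nat_lit 19759), Mv.f (nat_lit 19760), Mv.f (nat_lit 19652), Mv.f (nat_lit 19653), Mv.f (nat_lit 19840)])))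
(Tr.lf (Fc.ed (nat_lit 19842) (nat_lit 7215) Col.gi (nat_lit 7219) (Dv.wd (nat_lit 100) [Mv.f (nat_lit 19841), Mv.f (nat_lit 19759), Mv.f (nat_lit 19756), Mv.b (nat_lit 11738), Mv.b (nat_lit 11063), Mv.b (nat_lit 10597), Mv.b (nat_lit 10595), Mv.f (nat_lit 9589), Mv.b (nat_lit 19762), Mv.b (nat_lit 19831)]))))
(Tr.nd (nat_lit 19844) (Tr.lf (Fc.ed (nat_lit 19843) (nat_lit 7170) Col.a (nat_lit 7220) Dv.df))
(Tr.nd (nat_lit 19845) (Tr.lf (Fc.ed (nat_lit 19844) (nat_lit 7220) Col.gi (nat_lit 5709) (Dv.wd (nat_lit 12) [Mv.f (nat_lit 19643), Mv.b (nat_lit 19722), Mv.f (nat_lit 19843)])))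
(Tr.lf (Fc.ed (nat_lit 19845) (nat_lit 7220) Col.b (nat_lit 6325) (Dv.wd (nat_lit 65) [Mv.f (nat_lit 19314), Mv.f (nat_lit 19257), Mv.f (nat_lit 18261), Mv.b (nat_lit 19723), Mv.f (nat_lit 19843)])))))))
(Tr.nd (nat_lit 19851) (Tr.nd (nat_lit 19848) (Tr.nd (nat_lit 19847) (Tr.lf (Fc.ed (nat_lit 19846) (nat_lit 7218) Col.g (nat_lit 7221) Dv.df))
(Tr.lf (Fc.ed (nat_lit 19847) (nat_lit 7221) Col.c (nat_lit 7171) (Dv.wd (nat_lit 130) [Mv.f (nat_lit 19726), Mv.b (nat_lit 13498), Mv.f (nat_lit 14298), Mv.f (nat_lit 15343), Mv.f (nat_lit 17891), Mv.f (nat_lit 17892), Mv.b (nat_lit 17643), Mv.b (nat_lit 11738), Mv.f (nat_lit 19837), Mv.f (nat_lit 19846)]))))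
(Tr.nd (nat_lit 19849) (Tr.lf (Fc.ed (nat_lit 19848) (nat_lit 5162) Col.d (nat_lit 7222) Dv.df))
(Tr.nd (nat_lit 19850) (Tr.lf (Fc.ed (nat_lit 19849) (nat_lit 7222) Col.a (nat_lit 7062) (Dv.wd (nat_lit 8) [Mv.f (nat_lit 19423), Mv.f (nat_lit 19529), Mv.f (nat_lit 19848)])))
(Tr.lf (Fc.ed (nat_lit 19850) (nat_lit 7198) Col.a (nat_lit 7223) Dv.df)))))
(Tr.nd (nat_lit 19853) (Tr.nd (nat_lit 19852) (Tr.lf (Fc.ed (nat_lit 19851) (nat_lit 7223) Col.b (nat_lit 5611) (Dv.wd (nat_lit 65) [Mv.b (nat_lit 18177), Mv.b (nat_lit 19658), Mv.b (nat_lit 19764), Mv.f (nat_lit 19780), Mv.f (nat_lit 19850)])))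
(Tr.lf (Fc.ed (nat_lit 19852) (nat_lit 7198) Col.c (nat_lit 7223) (Dv.wd (nat_lit 152) [Mv.f (nat_lit 19851), Mv.b (nat_lit 17161), Mv.b (nat_lit 14475), Mv.f (nat_lit 19763), Mv.f (nat_lit 19780)]))))
(Tr.nd (nat_lit 19854) (Tr.lf (Fc.ed (nat_lit 19853) (nat_lit 7151) Col.g (nat_lit 7198) (Dv.wd (nat_lit 105) [Mv.f (nat_lit 19852), Mv.f (nat_lit 19851), Mv.f (nat_lit 14302), Mv.b (nat_lit 6180), Mv.b (nat_lit 3239), Mv.b (nat_lit 2372), Mv.f (nat_lit 3021), Mv.f (nat_lit 5682), Mv.f (nat_lit 15501), Mv.f (nat_lit 19683)])))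
(Tr.nd (nat_lit 19855) (Tr.lf (Fc.ed (nat_lit 19854) (nat_lit 7223) Col.f (nat_lit 7202) (Dv.wd (nat_lit 10) [Mv.f (nat_lit 19788), Mv.f (nat_lit 19853), Mv.f (nat_lit 19850)])))
(Tr.lf (Fc.al (nat_lit 19855) (nat_lit 6561) (nat_lit 5611) (Dv.wd (nat_lit 107) [Mv.b (nat_lit 19851), Mv.f (nat_lit 19854), Mv.b (nat_lit 19787), Mv.f (nat_lit 17115)]))))))))
(Tr.nd (nat_lit 19866) (Tr.nd (nat_lit 19861) (Tr.nd (nat_lit 19858) (Tr.nd (nat_lit 19857) (Tr.lf (Fc.al (nat_lit 19856) (nat_lit 7023) (nat_lit 5132) (Dv.wd (nat_lit 29) [Mv.b (nat_lit 17116), Mv.f (nat_lit 19855), Mv.b (nat_lit 18177)])))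
(Tr.lf (Fc.al (nat_lit 19857) (nat_lit 4451) (nat_lit 6043) (Dv.wd (nat_lit 120) [Mv.f (nat_lit 18002), Mv.f (nat_lit 19855), Mv.b (nat_lit 19508)]))))
(Tr.nd (nat_lit 19859) (Tr.lf (Fc.al (nat_lit 19858) (nat_lit 5964) (nat_lit 6307) (Dv.wd (nat_lit 30) [Mv.f (nat_lit 17115), Mv.f (nat_lit 19855), Mv.b (nat_lit 15096)])))
(Tr.nd (nat_lit 19860) (Tr.lf (Fc.al (nat_lit 19859) (nat_lit 4372) (nat_lit 5617) (Dv.wd (nat_lit 120) [Mv.b (nat_lit 19507), Mv.f (nat_lit 19856), Mv.f (nat_lit 18001)])))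
(Tr.lf (Fc.ed (nat_lit 19860) (nat_lit 4451) Col.f (nat_lit 4705) (Dv.wd (nat_lit 30) [Mv.b (nat_lit 15237), Mv.b (nat_lit 19857)]))))))
(Tr.nd (nat_lit 19863) (Tr.nd (nat_lit 19862) (Tr.lf (Fc.ed (nat_lit 19861) (nat_lit 5964) Col.c (nat_lit 6332) (Dv.wd (nat_lit 103) [Mv.f (nat_lit 15841), Mv.b (nat_lit 19858)])))
(Tr.lf (Fc.ed (nat_lit 19862) (nat_lit 5964) Col.d (nat_lit 4705) (Dv.wd (nat_lit 120) [Mv.b (nat_lit 18007), Mv.b (nat_lit 19858)]))))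
(Tr.nd (nat_lit 19864) (Tr.lf (Fc.ed (nat_lit 19863) (nat_lit 4372) Col.a (nat_lit 4451) (Dv.wd (nat_lit 29) [Mv.f (nat_lit 14313), Mv.b (nat_lit 19859)])))
(Tr.nd (nat_lit 19865) (Tr.lf (Fc.al (nat_lit 19864) (nat_lit 6820) (nat_lit 4151) (Dv.wd (nat_lit 30) [Mv.b (nat_lit 14314), Mv.b (nat_lit 19859), Mv.b (nat_lit 17775)])))
(Tr.lf (Fc.ed (nat_lit 19865) (nat_lit 4151) Col.f (nat_lit 4372) (Dv.wd (nat_lit 30) [Mv.b (nat_lit 17775), Mv.f (nat_lit 19864)])))))))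
(Tr.nd (nat_lit 19871) (Tr.nd (nat_lit 19868) (Tr.nd (nat_lit 19867) (Tr.lf (Fc.ed (nat_lit 19866) (nat_lit 7003) Col.f (nat_lit 7178) (Dv.wd (nat_lit 20) [Mv.b (nat_lit 19738), Mv.f (nat_lit 19865), Mv.b (nat_lit 18138)])))
(Tr.lf (Fc.ed (nat_lit 19867) (nat_lit 7166) Col.f (nat_lit 6968) (Dv.wd (nat_lit 26) [Mv.f (nat_lit 18137), Mv.f (nat_lit 19866), Mv.f (nat_lit 19740)]))))
(Tr.nd (nat_lit 19869) (Tr.lf (Fc.ed (nat_lit 19868) (nat_lit 7145) Col.g (nat_lit 7224) Dv.df))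
(Tr.nd (nat_lit 19870) (Tr.lf (Fc.ed (nat_lit 19869) (nat_lit 7224) Col.c (nat_lit 6208) (Dv.wd (nat_lit 83) [Mv.f (nat_lit 16705), Mv.f (nat_lit 17874), Mv.f (nat_lit 17878), Mv.f (nat_lit 17879), Mv.f (nat_lit 7481), Mv.b (nat_lit 6765), Mv.b (nat_lit 10809), Mv.b (nat_lit 19674), Mv.f (nat_lit 19868)])))
(Tr.lf (Fc.ed (nat_lit 19870) (nat_lit 7123) Col.a (nat_lit 7224) (Dv.wd (nat_lit 76) [Mv.f (nat_lit 19869), Mv.b (nat_lit 17899), Mv.f (nat_lit 19593)]))))))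
(Tr.nd (nat_lit 19874) (Tr.nd (nat_lit 19872) (Tr.lf (Fc.ed (nat_lit 19871) (nat_lit 7199) Col.f (nat_lit 7224) (Dv.wd (nat_lit 64) [Mv.f (nat_lit 19869), Mv.b (nat_lit 15532), Mv.f (nat_lit 19781)])))
(Tr.nd (nat_lit 19873) (Tr.lf (Fc.ed (nat_lit 19872) (nat_lit 7123) Col.gi (nat_lit 6982) (Dv.wd (nat_lit 12) [Mv.f (nat_lit 19783), Mv.f (nat_lit 19871), Mv.b (nat_lit 19870)])))
(Tr.lf (Fc.ed (nat_lit 19873) (nat_lit 7185) Col.gi (nat_lit 7123) (Dv.wd (nat_lit 12) [Mv.f (nat_lit 19872), Mv.f (nat_lit 18203), Mv.f (nat_lit 19752)])))))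
(Tr.nd (nat_lit 19875) (Tr.lf (Fc.ed (nat_lit 19874) (nat_lit 7086) Col.a (nat_lit 7225) Dv.df))
(Tr.nd (nat_lit 19876) (Tr.lf (Fc.ed (nat_lit 19875) (nat_lit 7225) Col.d (nat_lit 4755) (Dv.wd (nat_lit 28) [Mv.b (nat_lit 13362), Mv.b (nat_lit 19495), Mv.f (nat_lit 19874)])))
(Tr.lf (Fc.ed (nat_lit 19876) (nat_lit 7225) Col.gi (nat_lit 7011) (Dv.wd (nat_lit 12) [Mv.f (nat_lit 18182), Mv.f (nat_lit 19494), Mv.f (nat_lit 19874)])))))))))))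
(Tr.nd (nat_lit 19959) (Tr.nd (nat_lit 19918) (Tr.nd (nat_lit 19897) (Tr.nd (nat_lit 19887) (Tr.nd (nat_lit 19882) (Tr.nd (nat_lit 19879) (Tr.nd (nat_lit 19878) (Tr.lf (Fc.ed (nat_lit 19877) (nat_lit 6548) Col.f (nat_lit 7226) Dv.df))
(Tr.lf (Fc.ed (nat_lit 19878) (nat_lit 6747) Col.b (nat_lit 7227) Dv.df)))
(Tr.nd (nat_lit 19880) (Tr.lf (Fc.ed (nat_lit 19879) (nat_lit 7227) Col.d (nat_lit 6883) (Dv.wd (nat_lit 58) [Mv.f (nat_lit 17912), Mv.f (nat_lit 17732), Mv.f (nat_lit 19878)])))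
(Tr.nd (nat_lit 19881) (Tr.lf (Fc.ed (nat_lit 19880) (nat_lit 7227) Col.e (nat_lit 7031) (Dv.wd (nat_lit 52) [Mv.f (nat_lit 18191), Mv.f (nat_lit 17612), Mv.f (nat_lit 19878)])))
(Tr.lf (Fc.ed (nat_lit 19881) (nat_lit 7227) Col.f (nat_lit 6506) (Dv.wd (nat_lit 20) [Mv.f (nat_lit 16992), Mv.b (nat_lit 17614), Mv.f (nat_lit 19878)]))))))
(Tr.nd (nat_lit 19884) (Tr.nd (nat_lit 19883) (Tr.lf (Fc.ed (nat_lit 19882) (nat_lit 7226) Col.c (nat_lit 7227) (Dv.wd (nat_lit 67) [Mv.f (nat_lit 19881), Mv.f (nat_lit 17081), Mv.f (nat_lit 19877)])))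
(Tr.lf (Fc.ed (nat_lit 19883) (nat_lit 2639) Col.d (nat_lit 7228) Dv.df)))
(Tr.nd (nat_lit 19885) (Tr.lf (Fc.ed (nat_lit 19884) (nat_lit 7094) Col.gi (nat_lit 7229) Dv.df))
(Tr.nd (nat_lit 19886) (Tr.lf (Fc.ed (nat_lit 19885) (nat_lit 7229) Col.gi (nat_lit 7097) (Dv.wd (nat_lit 24) [Mv.f (nat_lit 19534), Mv.b (nat_lit 19518), Mv.f (nat_lit 19884)])))
(Tr.lf (Fc.ed (nat_lit 19886) (nat_lit 6002) Col.c (nat_lit 7230) Dv.df))))))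
(Tr.nd (nat_lit 19892) (Tr.nd (nat_lit 19889) (Tr.nd (nat_lit 19888) (Tr.lf (Fc.ed (nat_lit 19887) (nat_lit 7230) Col.a (nat_lit 6778) (Dv.wd (nat_lit 19) [Mv.f (nat_lit 19195), Mv.f (nat_lit 15824), Mv.f (nat_lit 19886)])))
(Tr.lf (Fc.ed (nat_lit 19888) (nat_lit 7220) Col.c (nat_lit 7231) Dv.df)))
(Tr.nd (nat_lit 19890) (Tr.lf (Fc.ed (nat_lit 19889) (nat_lit 7131) Col.gi (nat_lit 7232) Dv.df))
(Tr.nd (nat_lit 19891) (Tr.lf (Fc.ed (nat_lit 19890) (nat_lit 7232) Col.b (nat_lit 5889) (Dv.wd (nat_lit 175) [Mv.f (nat_lit 19462), Mv.b (nat_lit 19497), Mv.f (nat_lit 19498), Mv.b (nat_lit 13598), Mv.b (nat_lit 17814), Mv.b (nat_lit 4674), Mv.f (nat_lit 4015), Mv.f (nat_lit 10210), Mv.f (nat_lit 10209), Mv.b (nat_lit 9457), Mv.f (nat_lit 10326), Mv.b (nat_lit 12192), Mv.f (nat_lit 12193), Mv.b (nat_lit 11453), Mv.b (nat_lit 11154),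 Mv.b (nat_lit 19181), Mv.b (nat_lit 16989), Mv.b (nat_lit 19645), Mv.f (nat_lit 19889)])))
(Tr.lf (Fc.ed (nat_lit 19891) (nat_lit 7053) Col.f (nat_lit 7232) (Dv.wd (nat_lit 125) [Mv.f (nat_lit 19890), Mv.f (nat_lit 18417), Mv.f (nat_lit 18227)]))))))
(Tr.nd (nat_lit 19894) (Tr.nd (nat_lit 19893) (Tr.lf (Fc.ed (nat_lit 19892) (nat_lit 4353) Col.b (nat_lit 7233) Dv.df))
(Tr.lf (Fc.ed (nat_lit 19893) (nat_lit 7233) Col.f (nat_lit 7218) (Dv.wd (nat_lit 20) [Mv.b (nat_lit 19837), Mv.b (nat_lit 11172), Mv.f (nat_lit 19892)]))))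
(Tr.nd (nat_lit 19895) (Tr.lf (Fc.ed (nat_lit 19894) (nat_lit 7233) Col.c (nat_lit 7215) (Dv.wd (nat_lit 93) [Mv.f (nat_lit 19831), Mv.f (nat_lit 19762), Mv.f (nat_lit 15473), Mv.b (nat_lit 19393), Mv.f (nat_lit 19892)])))
(Tr.nd (nat_lit 19896) (Tr.lf (Fc.ed (nat_lit 19895) (nat_lit 4844) Col.d (nat_lit 7234) Dv.df))
(Tr.lf (Fc.ed (nat_lit 19896) (nat_lit 7120) Col.e (nat_lit 7235) Dv.df)))))))
(Tr.nd (nat_lit 19907) (Tr.nd (nat_lit 19902) (Tr.nd (nat_lit 19899) (Tr.nd (nat_lit 19898) (Tr.lf (Fc.ed (nat_lit 19897) (nat_lit 7235) Col.d (nat_lit 6088) (Dv.wd (nat_lit 59) [Mv.f (nat_lit 19168), Mv.f (nat_lit 10468), Mv.f (nat_lit 15102), Mv.f (nat_lit 19588), Mv.f (nat_lit 19896)])))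
(Tr.lf (Fc.ed (nat_lit 19898) (nat_lit 6272) Col.d (nat_lit 7236) Dv.df)))
(Tr.nd (nat_lit 19900) (Tr.lf (Fc.ed (nat_lit 19899) (nat_lit 6821) Col.gi (nat_lit 7237) Dv.df))
(Tr.nd (nat_lit 19901) (Tr.lf (Fc.ed (nat_lit 19900) (nat_lit 7144) Col.gi (nat_lit 7238) Dv.df))
(Tr.lf (Fc.ed (nat_lit 19901) (nat_lit 7238) Col.gi (nat_lit 5675) (Dv.wd (nat_lit 24) [Mv.f (nat_lit 19499), Mv.f (nat_lit 19672), Mv.f (nat_lit 19900)]))))))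
(Tr.nd (nat_lit 19904) (Tr.nd (nat_lit 19903) (Tr.lf (Fc.ed (nat_lit 19902) (nat_lit 7217) Col.a (nat_lit 7238) (Dv.wd (nat_lit 23) [Mv.f (nat_lit 19901), Mv.f (nat_lit 19509), Mv.f (nat_lit 19836)])))
(Tr.lf (Fc.ed (nat_lit 19903) (nat_lit 7238) Col.e (nat_lit 6539) (Dv.wd (nat_lit 56) [Mv.f (nat_lit 19215), Mv.f (nat_lit 19835), Mv.f (nat_lit 19902)]))))
(Tr.nd (nat_lit 19905) (Tr.lf (Fc.ed (nat_lit 19904) (nat_lit 6732) Col.f (nat_lit 7239) Dv.df))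
(Tr.nd (nat_lit 19906) (Tr.lf (Fc.ed (nat_lit 19905) (nat_lit 7239) Col.a (nat_lit 7196) (Dv.wd (nat_lit 23) [Mv.f (nat_lit 19778), Mv.b (nat_lit 17579), Mv.f (nat_lit 19904)])))
(Tr.lf (Fc.ed (nat_lit 19906) (nat_lit 1706) Col.c (nat_lit 7240) Dv.df))))))
(Tr.nd (nat_lit 19912) (Tr.nd (nat_lit 19909) (Tr.nd (nat_lit 19908) (Tr.lf (Fc.ed (nat_lit 19907) (nat_lit 6919) Col.d (nat_lit 7241) Dv.df))
(Tr.lf (Fc.ed (nat_lit 19908) (nat_lit 7241) Col.a (nat_lit 7177) (Dv.wd (nat_lit 8) [Mv.b (nat_lit 19736), Mv.f (nat_lit 17976), Mv.f (nat_lit 19907)]))))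
(Tr.nd (nat_lit 19910) (Tr.lf (Fc.ed (nat_lit 19909) (nat_lit 7241) Col.e (nat_lit 7057) (Dv.wd (nat_lit 42) [Mv.f (nat_lit 19412), Mv.b (nat_lit 13615), Mv.f (nat_lit 14085), Mv.b (nat_lit 17977), Mv.f (nat_lit 19907)])))
(Tr.nd (nat_lit 19911) (Tr.lf (Fc.ed (nat_lit 19910) (nat_lit 7233) Col.g (nat_lit 7242) Dv.df))
(Tr.lf (Fc.ed (nat_lit 19911) (nat_lit 7242) Col.c (nat_lit 7043) (Dv.wd (nat_lit 115) [Mv.f (nat_lit 19773), Mv.f (nat_lit 19839), Mv.b (nat_lit 19837), Mv.f (nat_lit 11738), Mv.b (nat_lit 19756), Mv.b (nat_lit 19759), Mv.b (nat_lit 19841), Mv.b (nat_lit 19842), Mv.b (nat_lit 19894), Mv.f (nat_lit 19910)]))))))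
(Tr.nd (nat_lit 19915) (Tr.nd (nat_lit 19913) (Tr.lf (Fc.ed (nat_lit 19912) (nat_lit 6166) Col.b (nat_lit 7243) Dv.df))
(Tr.nd (nat_lit 19914) (Tr.lf (Fc.ed (nat_lit 19913) (nat_lit 6251) Col.b (nat_lit 7244) Dv.df))
(Tr.lf (Fc.ed (nat_lit 19914) (nat_lit 7133) Col.f (nat_lit 7245) Dv.df))))
(Tr.nd (nat_lit 19916) (Tr.lf (Fc.ed (nat_lit 19915) (nat_lit 7245) Col.a (nat_lit 7065) (Dv.wd (nat_lit 16) [Mv.f (nat_lit 19791), Mv.b (nat_lit 19794), Mv.f (nat_lit 19914)])))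
(Tr.nd (nat_lit 19917) (Tr.lf (Fc.ed (nat_lit 19916) (nat_lit 7245) Col.c (nat_lit 6629) (Dv.wd (nat_lit 34) [Mv.f (nat_lit 17317), Mv.b (nat_lit 19651), Mv.f (nat_lit 19914)])))
(Tr.lf (Fc.ed (nat_lit 19917) (nat_lit 7155) Col.gi (nat_lit 7133) (Dv.wd (nat_lit 24) [Mv.f (nat_lit 19914), Mv.f (nat_lit 19915), Mv.f (nat_lit 19689)])))))))))
(Tr.nd (nat_lit 19938) (Tr.nd (nat_lit 19928) (Tr.nd (nat_lit 19923) (Tr.nd (nat_lit 19920) (Tr.nd (nat_lit 19919) (Tr.lf (Fc.al (nat_lit 19918) (nat_lit 6559) (nat_lit 4950) (Dv.wd (nat_lit 154) [Mv.b (nat_lit 12860), Mv.b (nat_lit 5997), Mv.b (nat_lit 5852), Mv.f (nat_lit 5851), Mv.b (nat_lit 5100), Mv.b (nat_lit 8985), Mv.b (nat_lit 19691), Mv.b (nat_lit 19690), Mv.f (nat_lit 19917), Mv.f (nat_lit 19651), Mv.f (nat_lit 17101)])))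
(Tr.lf (Fc.ed (nat_lit 19919) (nat_lit 4950) Col.g (nat_lit 6095) (Dv.wd (nat_lit 129) [Mv.f (nat_lit 17101), Mv.f (nat_lit 19918)]))))
(Tr.nd (nat_lit 19921) (Tr.lf (Fc.ed (nat_lit 19920) (nat_lit 6166) Col.gi (nat_lit 6874) (Dv.wd (nat_lit 50) [Mv.b (nat_lit 17895), Mv.f (nat_lit 19919), Mv.b (nat_lit 16418), Mv.b (nat_lit 7480), Mv.f (nat_lit 7162), Mv.f (nat_lit 12476), Mv.b (nat_lit 19875), Mv.f (nat_lit 19876), Mv.b (nat_lit 18153)])))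
(Tr.nd (nat_lit 19922) (Tr.lf (Fc.ed (nat_lit 19921) (nat_lit 7164) Col.f (nat_lit 5969) (Dv.wd (nat_lit 13) [Mv.f (nat_lit 15459), Mv.f (nat_lit 19920), Mv.f (nat_lit 19709)])))
(Tr.lf (Fc.ed (nat_lit 19922) (nat_lit 5288) Col.gi (nat_lit 5625) (Dv.wd (nat_lit 157) [Mv.b (nat_lit 14383), Mv.b (nat_lit 15460), Mv.f (nat_lit 19920), Mv.b (nat_lit 17895), Mv.b (nat_lit 12860), Mv.b (nat_lit 5999), Mv.b (nat_lit 5854), Mv.f (nat_lit 8205), Mv.f (nat_lit 13561), Mv.f (nat_lit 13604)]))))))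
(Tr.nd (nat_lit 19925) (Tr.nd (nat_lit 19924) (Tr.lf (Fc.ed (nat_lit 19923) (nat_lit 6896) Col.gi (nat_lit 5288) (Dv.wd (nat_lit 12) [Mv.f (nat_lit 19922), Mv.f (nat_lit 18160), Mv.f (nat_lit 18161)])))
(Tr.lf (Fc.ed (nat_lit 19924) (nat_lit 6338) Col.gi (nat_lit 4308) (Dv.wd (nat_lit 71) [Mv.f (nat_lit 15153), Mv.b (nat_lit 15155), Mv.f (nat_lit 19922), Mv.b (nat_lit 14328), Mv.b (nat_lit 8422), Mv.b (nat_lit 10251), Mv.b (nat_lit 10306), Mv.b (nat_lit 11996), Mv.f (nat_lit 15316), Mv.b (nat_lit 15853)]))))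
(Tr.nd (nat_lit 19926) (Tr.lf (Fc.ed (nat_lit 19925) (nat_lit 6684) Col.a (nat_lit 6338) (Dv.wd (nat_lit 23) [Mv.f (nat_lit 19924), Mv.f (nat_lit 17413), Mv.f (nat_lit 17426)])))
(Tr.nd (nat_lit 19927) (Tr.lf (Fc.ed (nat_lit 19926) (nat_lit 6476) Col.gi (nat_lit 6338) (Dv.wd (nat_lit 12) [Mv.f (nat_lit 19924), Mv.b (nat_lit 16241), Mv.b (nat_lit 16776)])))
(Tr.lf (Fc.ed (nat_lit 19927) (nat_lit 6087) Col.g (nat_lit 6581) (Dv.wd (nat_lit 139) [Mv.f (nat_lit 17152), Mv.b (nat_lit 9783), Mv.f (nat_lit 8515), Mv.b (nat_lit 7125), Mv.f (nat_lit 9325), Mv.f (nat_lit 16260), Mv.b (nat_lit 16777), Mv.f (nat_lit 19926), Mv.f (nat_lit 15853)])))))))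
(Tr.nd (nat_lit 19933) (Tr.nd (nat_lit 19930) (Tr.nd (nat_lit 19929) (Tr.lf (Fc.ed (nat_lit 19928) (nat_lit 3705) Col.g (nat_lit 6087) (Dv.wd (nat_lit 17) [Mv.f (nat_lit 19927), Mv.f (nat_lit 17151), Mv.f (nat_lit 15653)])))
(Tr.lf (Fc.ed (nat_lit 19929) (nat_lit 3967) Col.e (nat_lit 6771) (Dv.wd (nat_lit 70) [Mv.f (nat_lit 17667), Mv.f (nat_lit 17523), Mv.b (nat_lit 13622), Mv.f (nat_lit 19928), Mv.b (nat_lit 15853), Mv.b (nat_lit 15851), Mv.b (nat_lit 10461), Mv.b (nat_lit 10213), Mv.b (nat_lit 9861), Mv.f (nat_lit 9752)]))))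
(Tr.nd (nat_lit 19931) (Tr.lf (Fc.ed (nat_lit 19930) (nat_lit 6771) Col.a (nat_lit 6087) (Dv.wd (nat_lit 15) [Mv.b (nat_lit 15316), Mv.f (nat_lit 10311), Mv.f (nat_lit 19929)])))
(Tr.nd (nat_lit 19932) (Tr.lf (Fc.ed (nat_lit 19931) (nat_lit 6678) Col.f (nat_lit 6771) (Dv.wd (nat_lit 13) [Mv.f (nat_lit 19930), Mv.b (nat_lit 19928), Mv.b (nat_lit 17410)])))
(Tr.lf (Fc.ed (nat_lit 19932) (nat_lit 6087) Col.f (nat_lit 6271) (Dv.wd (nat_lit 10) [Mv.f (nat_lit 15663), Mv.f (nat_lit 17666), Mv.f (nat_lit 19930)]))))))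
(Tr.nd (nat_lit 19935) (Tr.nd (nat_lit 19934) (Tr.lf (Fc.ed (nat_lit 19933) (nat_lit 6678) Col.a (nat_lit 6271) (Dv.wd (nat_lit 79) [Mv.b (nat_lit 19932), Mv.b (nat_lit 19930), Mv.b (nat_lit 19931)])))
(Tr.lf (Fc.ed (nat_lit 19934) (nat_lit 6770) Col.a (nat_lit 6680) (Dv.wd (nat_lit 54) [Mv.f (nat_lit 17415), Mv.f (nat_lit 19933), Mv.f (nat_lit 17663)]))))
(Tr.nd (nat_lit 19936) (Tr.lf (Fc.ed (nat_lit 19935) (nat_lit 6338) Col.f (nat_lit 6770) (Dv.wd (nat_lit 73) [Mv.f (nat_lit 19934), Mv.f (nat_lit 17426), Mv.f (nat_lit 19925)])))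
(Tr.nd (nat_lit 19937) (Tr.lf (Fc.ed (nat_lit 19936) (nat_lit 6684) Col.g (nat_lit 4931) (Dv.wd (nat_lit 17) [Mv.f (nat_lit 17665), Mv.f (nat_lit 19934), Mv.f (nat_lit 17426)])))
(Tr.lf (Fc.ed (nat_lit 19937) (nat_lit 6438) Col.g (nat_lit 6684) (Dv.wd (nat_lit 17) [Mv.f (nat_lit 19936), Mv.b (nat_lit 16776), Mv.b (nat_lit 16775)]))))))))
(Tr.nd (nat_lit 19948) (Tr.nd (nat_lit 19943) (Tr.nd (nat_lit 19940) (Tr.nd (nat_lit 19939) (Tr.lf (Fc.ed (nat_lit 19938) (nat_lit 6770) Col.e (nat_lit 6896) (Dv.wd (nat_lit 22) [Mv.f (nat_lit 17936), Mv.f (nat_lit 12486), Mv.b (nat_lit 9592), Mv.f (nat_lit 15851), Mv.f (nat_lit 19935)])))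
(Tr.lf (Fc.ed (nat_lit 19939) (nat_lit 7015) Col.e (nat_lit 6680) (Dv.wd (nat_lit 56) [Mv.b (nat_lit 19934), Mv.f (nat_lit 19938), Mv.b (nat_lit 18161)]))))
(Tr.nd (nat_lit 19941) (Tr.lf (Fc.ed (nat_lit 19940) (nat_lit 7102) Col.e (nat_lit 7045) (Dv.wd (nat_lit 52) [Mv.f (nat_lit 18217), Mv.f (nat_lit 19939), Mv.b (nat_lit 19545)])))
(Tr.nd (nat_lit 19942) (Tr.lf (Fc.ed (nat_lit 19941) (nat_lit 6684) Col.e (nat_lit 4094) (Dv.wd (nat_lit 140) [Mv.f (nat_lit 12381), Mv.f (nat_lit 14328), Mv.f (nat_lit 18160), Mv.f (nat_lit 19939), Mv.f (nat_lit 17426)])))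
(Tr.lf (Fc.ed (nat_lit 19942) (nat_lit 3735) Col.e (nat_lit 6767) (Dv.wd (nat_lit 52) [Mv.b (nat_lit 17657), Mv.f (nat_lit 19941), Mv.f (nat_lit 12379)]))))))
(Tr.nd (nat_lit 19945) (Tr.nd (nat_lit 19944) (Tr.lf (Fc.ed (nat_lit 19943) (nat_lit 6767) Col.c (nat_lit 6638) (Dv.wd (nat_lit 18) [Mv.f (nat_lit 17338), Mv.f (nat_lit 9315), Mv.f (nat_lit 19942)])))
(Tr.lf (Fc.ed (nat_lit 19944) (nat_lit 6767) Col.d (nat_lit 6758) (Dv.wd (nat_lit 59) [Mv.f (nat_lit 17638), Mv.f (nat_lit 9753), Mv.b (nat_lit 12156), Mv.b (nat_lit 10416), Mv.f (nat_lit 19942)]))))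
(Tr.nd (nat_lit 19946) (Tr.lf (Fc.ed (nat_lit 19945) (nat_lit 6758) Col.f (nat_lit 6984) (Dv.wd (nat_lit 11) [Mv.f (nat_lit 19546), Mv.b (nat_lit 19544), Mv.f (nat_lit 19944)])))
(Tr.nd (nat_lit 19947) (Tr.lf (Fc.ed (nat_lit 19946) (nat_lit 6863) Col.g (nat_lit 7115) (Dv.wd (nat_lit 75) [Mv.b (nat_lit 19579), Mv.b (nat_lit 18066), Mv.f (nat_lit 19944), Mv.f (nat_lit 17638), Mv.b (nat_lit 12194), Mv.f (nat_lit 15159), Mv.f (nat_lit 15934), Mv.b (nat_lit 17181), Mv.b (nat_lit 17438), Mv.b (nat_lit 17871)])))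
(Tr.lf (Fc.ed (nat_lit 19947) (nat_lit 7108) Col.e (nat_lit 7115) (Dv.wd (nat_lit 47) [Mv.b (nat_lit 19579), Mv.b (nat_lit 18066), Mv.f (nat_lit 19944), Mv.f (nat_lit 17638), Mv.b (nat_lit 12194), Mv.b (nat_lit 12191), Mv.f (nat_lit 10333), Mv.b (nat_lit 10211), Mv.b (nat_lit 13805), Mv.f (nat_lit 19558)])))))))
(Tr.nd (nat_lit 19953) (Tr.nd (nat_lit 19950) (Tr.nd (nat_lit 19949) (Tr.lf (Fc.ed (nat_lit 19948) (nat_lit 7115) Col.b (nat_lit 3916) (Dv.wd (nat_lit 49) [Mv.f (nat_lit 10185), Mv.b (nat_lit 19691), Mv.f (nat_lit 19947)])))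
(Tr.lf (Fc.ed (nat_lit 19949) (nat_lit 3375) Col.b (nat_lit 6960) (Dv.wd (nat_lit 126) [Mv.f (nat_lit 19579), Mv.f (nat_lit 19948), Mv.b (nat_lit 9622)]))))
(Tr.nd (nat_lit 19951) (Tr.lf (Fc.ed (nat_lit 19950) (nat_lit 7115) Col.g (nat_lit 5581) (Dv.wd (nat_lit 9) [Mv.f (nat_lit 14246), Mv.f (nat_lit 17870), Mv.f (nat_lit 19946)])))
(Tr.nd (nat_lit 19952) (Tr.lf (Fc.ed (nat_lit 19951) (nat_lit 6984) Col.e (nat_lit 6799) (Dv.wd (nat_lit 22) [Mv.f (nat_lit 17725), Mv.f (nat_lit 14618), Mv.f (nat_lit 11968), Mv.b (nat_lit 17638), Mv.f (nat_lit 19945)])))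
(Tr.lf (Fc.ed (nat_lit 19952) (nat_lit 6511) Col.e (nat_lit 6678) (Dv.wd (nat_lit 52) [Mv.f (nat_lit 18105), Mv.f (nat_lit 19951), Mv.b (nat_lit 17726)]))))))
(Tr.nd (nat_lit 19956) (Tr.nd (nat_lit 19954) (Tr.lf (Fc.ed (nat_lit 19953) (nat_lit 6858) Col.c (nat_lit 6984) (Dv.wd (nat_lit 109) [Mv.f (nat_lit 19951), Mv.b (nat_lit 17747), Mv.f (nat_lit 17862)])))
(Tr.nd (nat_lit 19955) (Tr.lf (Fc.ed (nat_lit 19954) (nat_lit 6001) Col.g (nat_lit 6858) (Dv.wd (nat_lit 123) [Mv.f (nat_lit 19953), Mv.b (nat_lit 18105), Mv.f (nat_lit 17410), Mv.f (nat_lit 9255), Mv.b (nat_lit 8806), Mv.f (nat_lit 5812), Mv.f (nat_lit 3574), Mv.f (nat_lit 5160), Mv.b (nat_lit 14582), Mv.b (nat_lit 15161)])))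
(Tr.lf (Fc.ed (nat_lit 19955) (nat_lit 6591) Col.g (nat_lit 6001) (Dv.wd (nat_lit 17) [Mv.f (nat_lit 19954), Mv.b (nat_lit 18091), Mv.f (nat_lit 18092)])))))
(Tr.nd (nat_lit 19957) (Tr.lf (Fc.ed (nat_lit 19956) (nat_lit 6794) Col.g (nat_lit 6467) (Dv.wd (nat_lit 118) [Mv.b (nat_lit 17186), Mv.f (nat_lit 19955), Mv.f (nat_lit 15161), Mv.f (nat_lit 14582), Mv.f (nat_lit 5837), Mv.f (nat_lit 4899), Mv.b (nat_lit 5955), Mv.b (nat_lit 17526), Mv.b (nat_lit 14629), Mv.f (nat_lit 17713)])))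
(Tr.nd (nat_lit 19958) (Tr.lf (Fc.ed (nat_lit 19957) (nat_lit 6467) Col.g (nat_lit 6867) (Dv.wd (nat_lit 9) [Mv.f (nat_lit 17916), Mv.f (nat_lit 17917), Mv.f (nat_lit 19956)])))
(Tr.lf (Fc.ed (nat_lit 19958) (nat_lit 6984) Col.g (nat_lit 6794) (Dv.wd (nat_lit 17) [Mv.f (nat_lit 19956), Mv.f (nat_lit 17637), Mv.f (nat_lit 19945)]))))))))))
(Tr.nd (nat_lit 20000) (Tr.nd (nat_lit 19979) (Tr.nd (nat_lit 19969) (Tr.nd (nat_lit 19964) (Tr.nd (nat_lit 19961) (Tr.nd (nat_lit 19960) (Tr.lf (Fc.ed (nat_lit 19959) (nat_lit 6845) Col.g (nat_lit 6758) (Dv.wd (nat_lit 63) [Mv.b (nat_lit 19944), Mv.b (nat_lit 19942), Mv.f (nat_lit 9822), Mv.f (nat_lit 9829), Mv.b (nat_lit 10201), Mv.b (nat_lit 10198), Mv.b (nat_lit 16757), Mv.f (nat_lit 19957), Mv.b (nat_lit 17984), Mv.f (nat_lit 17983)])))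
(Tr.lf (Fc.ed (nat_lit 19960) (nat_lit 6883) Col.g (nat_lit 6845) (Dv.wd (nat_lit 17) [Mv.f (nat_lit 19959), Mv.b (nat_lit 17637), Mv.b (nat_lit 17913)]))))
(Tr.nd (nat_lit 19962) (Tr.lf (Fc.ed (nat_lit 19961) (nat_lit 6474) Col.g (nat_lit 6922) (Dv.wd (nat_lit 75) [Mv.f (nat_lit 17983), Mv.f (nat_lit 19959), Mv.b (nat_lit 19944), Mv.b (nat_lit 19942), Mv.f (nat_lit 9822), Mv.b (nat_lit 12448), Mv.b (nat_lit 12136), Mv.b (nat_lit 16312), Mv.b (nat_lit 15263), Mv.f (nat_lit 16771)])))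
(Tr.nd (nat_lit 19963) (Tr.lf (Fc.ed (nat_lit 19962) (nat_lit 6934) Col.f (nat_lit 6946) (Dv.wd (nat_lit 10) [Mv.b (nat_lit 18030), Mv.f (nat_lit 19961), Mv.f (nat_lit 18012)])))
(Tr.lf (Fc.ed (nat_lit 19963) (nat_lit 6946) Col.d (nat_lit 6885) (Dv.wd (nat_lit 21) [Mv.f (nat_lit 17917), Mv.b (nat_lit 18013), Mv.f (nat_lit 19962)]))))))
(Tr.nd (nat_lit 19966) (Tr.nd (nat_lit 19965) (Tr.lf (Fc.ed (nat_lit 19964) (nat_lit 7046) Col.d (nat_lit 7068) (Dv.wd (nat_lit 99) [Mv.b (nat_lit 19434), Mv.f (nat_lit 19963), Mv.b (nat_lit 18014), Mv.f (nat_lit 18013), Mv.f (nat_lit 18219)])))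
(Tr.lf (Fc.ed (nat_lit 19965) (nat_lit 6885) Col.g (nat_lit 6883) (Dv.wd (nat_lit 17) [Mv.f (nat_lit 19960), Mv.b (nat_lit 17833), Mv.b (nat_lit 17917)]))))
(Tr.nd (nat_lit 19967) (Tr.lf (Fc.ed (nat_lit 19966) (nat_lit 7033) Col.g (nat_lit 7102) (Dv.wd (nat_lit 75) [Mv.b (nat_lit 19546), Mv.f (nat_lit 19958), Mv.b (nat_lit 18013), Mv.f (nat_lit 18014), Mv.f (nat_lit 19965), Mv.b (nat_lit 17911), Mv.b (nat_lit 17700), Mv.f (nat_lit 17926), Mv.f (nat_lit 18178), Mv.b (nat_lit 18195)])))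
(Tr.nd (nat_lit 19968) (Tr.lf (Fc.ed (nat_lit 19967) (nat_lit 7227) Col.g (nat_lit 6960) (Dv.wd (nat_lit 55) [Mv.f (nat_lit 19579), Mv.b (nat_lit 19947), Mv.f (nat_lit 19559), Mv.b (nat_lit 19940), Mv.b (nat_lit 19546), Mv.f (nat_lit 19958), Mv.b (nat_lit 18013), Mv.f (nat_lit 18014), Mv.f (nat_lit 19965), Mv.b (nat_lit 19879)])))
(Tr.lf (Fc.ed (nat_lit 19968) (nat_lit 7102) Col.a (nat_lit 7227) (Dv.wd (nat_lit 114) [Mv.f (nat_lit 19881), Mv.f (nat_lit 18194), Mv.f (nat_lit 19966)])))))))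
(Tr.nd (nat_lit 19974) (Tr.nd (nat_lit 19971) (Tr.nd (nat_lit 19970) (Tr.lf (Fc.ed (nat_lit 19969) (nat_lit 7226) Col.a (nat_lit 7175) (Dv.wd (nat_lit 76) [Mv.b (nat_lit 19732), Mv.f (nat_lit 19968), Mv.b (nat_lit 19882)])))
(Tr.lf (Fc.ed (nat_lit 19970) (nat_lit 7175) Col.f (nat_lit 6638) (Dv.wd (nat_lit 35) [Mv.b (nat_lit 17337), Mv.f (nat_lit 19877), Mv.f (nat_lit 19969)]))))
(Tr.nd (nat_lit 19972) (Tr.lf (Fc.ed (nat_lit 19971) (nat_lit 7175) Col.gi (nat_lit 6835) (Dv.wd (nat_lit 12) [Mv.b (nat_lit 17799), Mv.f (nat_lit 19877), Mv.f (nat_lit 19969)])))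
(Tr.nd (nat_lit 19973) (Tr.lf (Fc.ed (nat_lit 19972) (nat_lit 6835) Col.c (nat_lit 4679) (Dv.wd (nat_lit 143) [Mv.f (nat_lit 11832), Mv.f (nat_lit 6211), Mv.b (nat_lit 3572), Mv.f (nat_lit 4795), Mv.b (nat_lit 9588), Mv.f (nat_lit 11078), Mv.f (nat_lit 17413), Mv.b (nat_lit 19545), Mv.f (nat_lit 19732), Mv.f (nat_lit 19971)])))
(Tr.lf (Fc.ed (nat_lit 19973) (nat_lit 4422) Col.c (nat_lit 6949) (Dv.wd (nat_lit 109) [Mv.b (nat_lit 18036), Mv.f (nat_lit 19972), Mv.b (nat_lit 11833)]))))))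
(Tr.nd (nat_lit 19976) (Tr.nd (nat_lit 19975) (Tr.lf (Fc.ed (nat_lit 19974) (nat_lit 6438) Col.b (nat_lit 6963) (Dv.wd (nat_lit 165) [Mv.b (nat_lit 18069), Mv.f (nat_lit 17081), Mv.f (nat_lit 17799), Mv.f (nat_lit 19972), Mv.f (nat_lit 11832), Mv.b (nat_lit 6210), Mv.f (nat_lit 5850), Mv.b (nat_lit 8366), Mv.b (nat_lit 9450), Mv.b (nat_lit 16704)])))
(Tr.lf (Fc.ed (nat_lit 19975) (nat_lit 7091) Col.b (nat_lit 6476) (Dv.wd (nat_lit 107) [Mv.b (nat_lit 16775), Mv.f (nat_lit 19974), Mv.b (nat_lit 19512)]))))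
(Tr.nd (nat_lit 19977) (Tr.lf (Fc.ed (nat_lit 19976) (nat_lit 6963) Col.a (nat_lit 6960) (Dv.wd (nat_lit 98) [Mv.b (nat_lit 19949), Mv.b (nat_lit 16224), Mv.b (nat_lit 11079), Mv.f (nat_lit 16703), Mv.f (nat_lit 19974)])))
(Tr.nd (nat_lit 19978) (Tr.lf (Fc.ed (nat_lit 19977) (nat_lit 6960) Col.f (nat_lit 7033) (Dv.wd (nat_lit 35) [Mv.f (nat_lit 19511), Mv.f (nat_lit 19512), Mv.f (nat_lit 19976)])))
(Tr.lf (Fc.ed (nat_lit 19978) (nat_lit 7227) Col.gi (nat_lit 7091) (Dv.wd (nat_lit 24) [Mv.f (nat_lit 19512), Mv.f (nat_lit 19976), Mv.b (nat_lit 19967)]))))))))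
(Tr.nd (nat_lit 19989) (Tr.nd (nat_lit 19984) (Tr.nd (nat_lit 19981) (Tr.nd (nat_lit 19980) (Tr.lf (Fc.ed (nat_lit 19979) (nat_lit 7102) Col.g (nat_lit 6963) (Dv.wd (nat_lit 9) [Mv.f (nat_lit 19976), Mv.f (nat_lit 19977), Mv.f (nat_lit 19966)])))
(Tr.lf (Fc.ed (nat_lit 19980) (nat_lit 6772) Col.gi (nat_lit 7226) (Dv.wd (nat_lit 102) [Mv.f (nat_lit 19882), Mv.f (nat_lit 19978), Mv.f (nat_lit 19975), Mv.f (nat_lit 16777), Mv.f (nat_lit 16256), Mv.b (nat_lit 4795), Mv.f (nat_lit 3572), Mv.f (nat_lit 5159), Mv.b (nat_lit 12879), Mv.f (nat_lit 17668)]))))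
(Tr.nd (nat_lit 19982) (Tr.lf (Fc.ed (nat_lit 19981) (nat_lit 7226) Col.gi (nat_lit 7007) (Dv.wd (nat_lit 24) [Mv.b (nat_lit 19818), Mv.f (nat_lit 19817), Mv.f (nat_lit 19980)])))
(Tr.nd (nat_lit 19983) (Tr.lf (Fc.ed (nat_lit 19982) (nat_lit 6638) Col.gi (nat_lit 6772) (Dv.wd (nat_lit 12) [Mv.f (nat_lit 19980), Mv.b (nat_lit 19877), Mv.f (nat_lit 17337)])))
(Tr.lf (Fc.ed (nat_lit 19983) (nat_lit 6747) Col.gi (nat_lit 6231) (Dv.wd (nat_lit 100) [Mv.f (nat_lit 15585), Mv.b (nat_lit 6002), Mv.f (nat_lit 4639), Mv.b (nat_lit 2092), Mv.f (nat_lit 5159), Mv.b (nat_lit 12879), Mv.f (nat_lit 17668), Mv.f (nat_lit 19980), Mv.f (nat_lit 19882), Mv.b (nat_lit 19878)]))))))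
(Tr.nd (nat_lit 19986) (Tr.nd (nat_lit 19985) (Tr.lf (Fc.ed (nat_lit 19984) (nat_lit 6231) Col.gi (nat_lit 6067) (Dv.wd (nat_lit 24) [Mv.b (nat_lit 17505), Mv.b (nat_lit 17613), Mv.f (nat_lit 19983)])))
(Tr.lf (Fc.ed (nat_lit 19985) (nat_lit 6142) Col.gi (nat_lit 6542) (Dv.wd (nat_lit 163) [Mv.f (nat_lit 17071), Mv.f (nat_lit 9942), Mv.b (nat_lit 16565), Mv.f (nat_lit 10890), Mv.b (nat_lit 13079), Mv.b (nat_lit 14068), Mv.f (nat_lit 17731), Mv.f (nat_lit 17732), Mv.f (nat_lit 19983), Mv.f (nat_lit 15586)]))))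
(Tr.nd (nat_lit 19987) (Tr.lf (Fc.ed (nat_lit 19986) (nat_lit 6619) Col.c (nat_lit 6831) (Dv.wd (nat_lit 156) [Mv.b (nat_lit 17792), Mv.f (nat_lit 17412), Mv.b (nat_lit 16126), Mv.f (nat_lit 9884), Mv.b (nat_lit 6863), Mv.b (nat_lit 6864), Mv.b (nat_lit 6646), Mv.b (nat_lit 15417), Mv.f (nat_lit 19985), Mv.b (nat_lit 17236)])))
(Tr.nd (nat_lit 19988) (Tr.lf (Fc.ed (nat_lit 19987) (nat_lit 6338) Col.c (nat_lit 6811) (Dv.wd (nat_lit 156) [Mv.b (nat_lit 17744), Mv.f (nat_lit 17689), Mv.b (nat_lit 6436), Mv.b (nat_lit 5850), Mv.f (nat_lit 5851), Mv.f (nat_lit 4638), Mv.f (nat_lit 6002), Mv.b (nat_lit 15585), Mv.f (nat_lit 19984), Mv.b (nat_lit 15852)])))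
(Tr.lf (Fc.ed (nat_lit 19988) (nat_lit 7007) Col.gi (nat_lit 6638) (Dv.wd (nat_lit 24) [Mv.b (nat_lit 19970), Mv.b (nat_lit 19969), Mv.f (nat_lit 19981)])))))))
(Tr.nd (nat_lit 19994) (Tr.nd (nat_lit 19991) (Tr.nd (nat_lit 19990) (Tr.lf (Fc.ed (nat_lit 19989) (nat_lit 7033) Col.b (nat_lit 3703) (Dv.wd (nat_lit 66) [Mv.b (nat_lit 9249), Mv.f (nat_lit 19949), Mv.f (nat_lit 19977)])))
(Tr.lf (Fc.ed (nat_lit 19990) (nat_lit 4559) Col.b (nat_lit 7024) (Dv.wd (nat_lit 127) [Mv.b (nat_lit 18195), Mv.f (nat_lit 19989), Mv.b (nat_lit 16234)]))))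
(Tr.nd (nat_lit 19992) (Tr.lf (Fc.ed (nat_lit 19991) (nat_lit 6891) Col.b (nat_lit 4374) (Dv.wd (nat_lit 126) [Mv.f (nat_lit 16246), Mv.f (nat_lit 19990), Mv.b (nat_lit 18178)])))
(Tr.nd (nat_lit 19993) (Tr.lf (Fc.ed (nat_lit 19992) (nat_lit 6781) Col.f (nat_lit 6891) (Dv.wd (nat_lit 125) [Mv.f (nat_lit 19991), Mv.f (nat_lit 11272), Mv.b (nat_lit 17687)])))
(Tr.lf (Fc.ed (nat_lit 19993) (nat_lit 6058) Col.g (nat_lit 6914) (Dv.wd (nat_lit 9) [Mv.f (nat_lit 17970), Mv.f (nat_lit 19992), Mv.f (nat_lit 17927)]))))))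
(Tr.nd (nat_lit 19997) (Tr.nd (nat_lit 19995) (Tr.lf (Fc.ed (nat_lit 19994) (nat_lit 6914) Col.g (nat_lit 6787) (Dv.wd (nat_lit 9) [Mv.f (nat_lit 18037), Mv.f (nat_lit 18038), Mv.f (nat_lit 19993)])))
(Tr.nd (nat_lit 19996) (Tr.lf (Fc.ed (nat_lit 19995) (nat_lit 6787) Col.c (nat_lit 6916) (Dv.wd (nat_lit 130) [Mv.b (nat_lit 17972), Mv.b (nat_lit 17730), Mv.b (nat_lit 11396), Mv.f (nat_lit 6092), Mv.f (nat_lit 5345), Mv.b (nat_lit 13544), Mv.b (nat_lit 17965), Mv.f (nat_lit 17967), Mv.f (nat_lit 17969), Mv.f (nat_lit 19994)])))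
(Tr.lf (Fc.ed (nat_lit 19996) (nat_lit 5916) Col.g (nat_lit 6361) (Dv.wd (nat_lit 122) [Mv.b (nat_lit 17699), Mv.f (nat_lit 19995), Mv.b (nat_lit 17972), Mv.b (nat_lit 17730), Mv.b (nat_lit 11396), Mv.f (nat_lit 6092), Mv.b (nat_lit 5914), Mv.b (nat_lit 6704), Mv.f (nat_lit 6705), Mv.b (nat_lit 14972)])))))
(Tr.nd (nat_lit 19998) (Tr.lf (Fc.ed (nat_lit 19997) (nat_lit 4735) Col.g (nat_lit 5916) (Dv.wd (nat_lit 17) [Mv.f (nat_lit 19996), Mv.b (nat_lit 16987), Mv.b (nat_lit 16986)])))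
(Tr.nd (nat_lit 19999) (Tr.lf (Fc.ed (nat_lit 19998) (nat_lit 6168) Col.g (nat_lit 6691) (Dv.wd (nat_lit 55) [Mv.f (nat_lit 17436), Mv.b (nat_lit 16560), Mv.f (nat_lit 8854), Mv.b (nat_lit 8520), Mv.b (nat_lit 5538), Mv.f (nat_lit 5540), Mv.b (nat_lit 12330), Mv.f (nat_lit 11937), Mv.f (nat_lit 19997), Mv.f (nat_lit 15464)])))
(Tr.lf (Fc.ed (nat_lit 19999) (nat_lit 6789) Col.c (nat_lit 6957) (Dv.wd (nat_lit 135) [Mv.b (nat_lit 18051), Mv.b (nat_lit 19973), Mv.b (nat_lit 11367), Mv.f (nat_lit 6445), Mv.f (nat_lit 5921), Mv.b (nat_lit 6645), Mv.f (nat_lit 6646), Mv.b (nat_lit 15465), Mv.f (nat_lit 19998), Mv.b (nat_lit 17704)])))))))))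
(Tr.nd (nat_lit 20020) (Tr.nd (nat_lit 20010) (Tr.nd (nat_lit 20005) (Tr.nd (nat_lit 20002) (Tr.nd (nat_lit 20001) (Tr.lf (Fc.ed (nat_lit 20000) (nat_lit 6957) Col.f (nat_lit 6272) (Dv.wd (nat_lit 26) [Mv.f (nat_lit 17043), Mv.b (nat_lit 17705), Mv.f (nat_lit 19999)])))
(Tr.lf (Fc.ed (nat_lit 20001) (nat_lit 6914) Col.d (nat_lit 7063) (Dv.wd (nat_lit 89) [Mv.b (nat_lit 19424), Mv.f (nat_lit 19999), Mv.b (nat_lit 18051), Mv.b (nat_lit 19973), Mv.b (nat_lit 11397), Mv.f (nat_lit 17730), Mv.f (nat_lit 17972), Mv.b (nat_lit 19995), Mv.b (nat_lit 19994)]))))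
(Tr.nd (nat_lit 20003) (Tr.lf (Fc.ed (nat_lit 20002) (nat_lit 6402) Col.gi (nat_lit 6949) (Dv.wd (nat_lit 12) [Mv.f (nat_lit 18051), Mv.f (nat_lit 20000), Mv.f (nat_lit 15985)])))
(Tr.nd (nat_lit 20004) (Tr.lf (Fc.ed (nat_lit 20003) (nat_lit 6989) Col.gi (nat_lit 6619) (Dv.wd (nat_lit 163) [Mv.b (nat_lit 17235), Mv.f (nat_lit 12511), Mv.f (nat_lit 16324), Mv.f (nat_lit 13798), Mv.b (nat_lit 13796), Mv.b (nat_lit 17002), Mv.f (nat_lit 19952), Mv.b (nat_lit 17415), Mv.f (nat_lit 17414), Mv.f (nat_lit 18112)])))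
(Tr.lf (Fc.ed (nat_lit 20004) (nat_lit 6619) Col.gi (nat_lit 5997) (Dv.wd (nat_lit 24) [Mv.b (nat_lit 16249), Mv.b (nat_lit 18113), Mv.f (nat_lit 20003)]))))))
(Tr.nd (nat_lit 20007) (Tr.nd (nat_lit 20006) (Tr.lf (Fc.ed (nat_lit 20005) (nat_lit 7174) Col.c (nat_lit 3691) (Dv.wd (nat_lit 83) [Mv.f (nat_lit 14751), Mv.f (nat_lit 18043), Mv.b (nat_lit 18045), Mv.b (nat_lit 19986), Mv.f (nat_lit 20004), Mv.b (nat_lit 15153), Mv.b (nat_lit 19924), Mv.f (nat_lit 19987), Mv.f (nat_lit 19731)])))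
(Tr.lf (Fc.ed (nat_lit 20006) (nat_lit 5053) Col.a (nat_lit 6965) (Dv.wd (nat_lit 23) [Mv.b (nat_lit 18071), Mv.f (nat_lit 19923), Mv.b (nat_lit 16264)]))))
(Tr.nd (nat_lit 20008) (Tr.lf (Fc.ed (nat_lit 20007) (nat_lit 6965) Col.c (nat_lit 4896) (Dv.wd (nat_lit 33) [Mv.b (nat_lit 16266), Mv.f (nat_lit 13116), Mv.f (nat_lit 20006)])))
(Tr.nd (nat_lit 20009) (Tr.lf (Fc.ed (nat_lit 20008) (nat_lit 6908) Col.c (nat_lit 6841) (Dv.wd (nat_lit 81) [Mv.f (nat_lit 17826), Mv.f (nat_lit 17934), Mv.f (nat_lit 18071), Mv.f (nat_lit 20007), Mv.b (nat_lit 12749), Mv.b (nat_lit 6788), Mv.f (nat_lit 6481), Mv.f (nat_lit 13448), Mv.b (nat_lit 17956)])))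
(Tr.lf (Fc.ed (nat_lit 20009) (nat_lit 7061) Col.a (nat_lit 7164) (Dv.wd (nat_lit 79) [Mv.f (nat_lit 19921), Mv.f (nat_lit 15459), Mv.b (nat_lit 19420)])))))))
(Tr.nd (nat_lit 20015) (Tr.nd (nat_lit 20012) (Tr.nd (nat_lit 20011) (Tr.lf (Fc.ed (nat_lit 20010) (nat_lit 7031) Col.c (nat_lit 7164) (Dv.wd (nat_lit 67) [Mv.f (nat_lit 19921), Mv.f (nat_lit 15103), Mv.f (nat_lit 18190)])))
(Tr.lf (Fc.ed (nat_lit 20011) (nat_lit 6814) Col.g (nat_lit 7061) (Dv.wd (nat_lit 9) [Mv.f (nat_lit 20009), Mv.f (nat_lit 19921), Mv.f (nat_lit 17753)]))))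
(Tr.nd (nat_lit 20013) (Tr.lf (Fc.ed (nat_lit 20012) (nat_lit 7228) Col.g (nat_lit 7246) Dv.df))
(Tr.nd (nat_lit 20014) (Tr.lf (Fc.ed (nat_lit 20013) (nat_lit 7246) Col.d (nat_lit 5523) (Dv.wd (nat_lit 85) [Mv.f (nat_lit 14134), Mv.b (nat_lit 4154), Mv.f (nat_lit 16473), Mv.f (nat_lit 16387), Mv.f (nat_lit 16479), Mv.f (nat_lit 4552), Mv.f (nat_lit 16544), Mv.f (nat_lit 19883), Mv.f (nat_lit 20012)])))
(Tr.lf (Fc.ed (nat_lit 20014) (nat_lit 5416) Col.g (nat_lit 7247) Dv.df)))))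
(Tr.nd (nat_lit 20017) (Tr.nd (nat_lit 20016) (Tr.lf (Fc.ed (nat_lit 20015) (nat_lit 5385) Col.b (nat_lit 7248) Dv.df))
(Tr.lf (Fc.ed (nat_lit 20016) (nat_lit 7248) Col.e (nat_lit 5772) (Dv.wd (nat_lit 52) [Mv.b (nat_lit 14647), Mv.f (nat_lit 19132), Mv.f (nat_lit 20015)]))))
(Tr.nd (nat_lit 20018) (Tr.lf (Fc.ed (nat_lit 20017) (nat_lit 7248) Col.c (nat_lit 7079) (Dv.wd (nat_lit 93) [Mv.b (nat_lit 19451), Mv.b (nat_lit 17778), Mv.f (nat_lit 14853), Mv.f (nat_lit 13952), Mv.f (nat_lit 20015)])))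
(Tr.nd (nat_lit 20019) (Tr.lf (Fc.ed (nat_lit 20018) (nat_lit 7165) Col.a (nat_lit 7249) Dv.df))
(Tr.lf (Fc.ed (nat_lit 20019) (nat_lit 7249) Col.e (nat_lit 4382) (Dv.wd (nat_lit 56) [Mv.b (nat_lit 11363), Mv.b (nat_lit 19711), Mv.f (nat_lit 20018)]))))))))
(Tr.nd (nat_lit 20030) (Tr.nd (nat_lit 20025) (Tr.nd (nat_lit 20022) (Tr.nd (nat_lit 20021) (Tr.lf (Fc.ed (nat_lit 20020) (nat_lit 6755) Col.b (nat_lit 7250) Dv.df))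
(Tr.lf (Fc.ed (nat_lit 20021) (nat_lit 7250) Col.d (nat_lit 5772) (Dv.wd (nat_lit 58) [Mv.b (nat_lit 14647), Mv.f (nat_lit 19237), Mv.f (nat_lit 20020)]))))
(Tr.nd (nat_lit 20023) (Tr.lf (Fc.ed (nat_lit 20022) (nat_lit 5496) Col.g (nat_lit 7251) Dv.df))
(Tr.nd (nat_lit 20024) (Tr.lf (Fc.ed (nat_lit 20023) (nat_lit 7251) Col.g (nat_lit 4798) (Dv.wd (nat_lit 9) [Mv.b (nat_lit 14545), Mv.f (nat_lit 14546), Mv.f (nat_lit 20022)])))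
(Tr.lf (Fc.ed (nat_lit 20024) (nat_lit 7184) Col.g (nat_lit 7252) Dv.df)))))
(Tr.nd (nat_lit 20027) (Tr.nd (nat_lit 20026) (Tr.lf (Fc.ed (nat_lit 20025) (nat_lit 7252) Col.b (nat_lit 7174) (Dv.wd (nat_lit 104) [Mv.f (nat_lit 20005), Mv.f (nat_lit 9221), Mv.b (nat_lit 8366), Mv.b (nat_lit 8643), Mv.b (nat_lit 9745), Mv.f (nat_lit 16121), Mv.f (nat_lit 17888), Mv.b (nat_lit 19656), Mv.b (nat_lit 19751), Mv.f (nat_lit 20024)])))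
(Tr.lf (Fc.ed (nat_lit 20026) (nat_lit 5416) Col.gi (nat_lit 7253) Dv.df)))
(Tr.nd (nat_lit 20028) (Tr.lf (Fc.ed (nat_lit 20027) (nat_lit 7253) Col.d (nat_lit 3938) (Dv.wd (nat_lit 48) [Mv.b (nat_lit 9702), Mv.b (nat_lit 8908), Mv.f (nat_lit 11503), Mv.b (nat_lit 19829), Mv.b (nat_lit 19828), Mv.f (nat_lit 17379), Mv.f (nat_lit 13498), Mv.b (nat_lit 13892), Mv.f (nat_lit 20026)])))
(Tr.nd (nat_lit 20029) (Tr.lf (Fc.al (nat_lit 20028) (nat_lit 4240) (nat_lit 7211) (Dv.wd (nat_lit 132) [Mv.b (nat_lit 19819), Mv.f (nat_lit 14745), Mv.b (nat_lit 13892), Mv.f (nat_lit 20026), Mv.f (nat_lit 20027), Mv.b (nat_lit 9702), Mv.b (nat_lit 19169), Mv.f (nat_lit 10426), Mv.f (nat_lit 10418), Mv.b (nat_lit 4045), Mv.f (nat_lit 10911)])))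
(Tr.lf (Fc.ed (nat_lit 20029) (nat_lit 4240) Col.g (nat_lit 5315) (Dv.wd (nat_lit 129) [Mv.b (nat_lit 19820), Mv.b (nat_lit 20028)])))))))
(Tr.nd (nat_lit 20035) (Tr.nd (nat_lit 20032) (Tr.nd (nat_lit 20031) (Tr.lf (Fc.ed (nat_lit 20030) (nat_lit 4240) Col.gi (nat_lit 5807) (Dv.wd (nat_lit 128) [Mv.f (nat_lit 19819), Mv.b (nat_lit 20028)])))
(Tr.lf (Fc.al (nat_lit 20031) (nat_lit 7192) (nat_lit 6788) (Dv.wd (nat_lit 13) [Mv.f (nat_lit 17702), Mv.b (nat_lit 10912), Mv.f (nat_lit 20030), Mv.b (nat_lit 19771)]))))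
(Tr.nd (nat_lit 20033) (Tr.lf (Fc.ed (nat_lit 20032) (nat_lit 6788) Col.g (nat_lit 5807) (Dv.wd (nat_lit 129) [Mv.b (nat_lit 19771), Mv.f (nat_lit 20031)])))
(Tr.nd (nat_lit 20034) (Tr.lf (Fc.ed (nat_lit 20033) (nat_lit 6788) Col.gi (nat_lit 5315) (Dv.wd (nat_lit 128) [Mv.f (nat_lit 19770), Mv.f (nat_lit 20031)])))
(Tr.lf (Fc.al (nat_lit 20034) (nat_lit 7105) (nat_lit 6840) (Dv.wd (nat_lit 143) [Mv.f (nat_lit 17845), Mv.b (nat_lit 17848), Mv.f (nat_lit 20033), Mv.f (nat_lit 13699), Mv.f (nat_lit 11744), Mv.f (nat_lit 12876), Mv.f (nat_lit 16945), Mv.b (nat_lit 13144), Mv.f (nat_lit 13167), Mv.f (nat_lit 13169), Mv.f (nat_lit 19550)]))))))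
(Tr.nd (nat_lit 20038) (Tr.nd (nat_lit 20036) (Tr.lf (Fc.ed (nat_lit 20035) (nat_lit 6840) Col.g (nat_lit 4922) (Dv.wd (nat_lit 129) [Mv.f (nat_lit 19550), Mv.f (nat_lit 20034)])))
(Tr.nd (nat_lit 20037) (Tr.lf (Fc.ed (nat_lit 20036) (nat_lit 6840) Col.gi (nat_lit 6837) (Dv.wd (nat_lit 128) [Mv.b (nat_lit 19551), Mv.f (nat_lit 20034)])))
(Tr.lf (Fc.ed (nat_lit 20037) (nat_lit 6837) Col.gi (nat_lit 4191) (Dv.wd (nat_lit 24) [Mv.b (nat_lit 17702), Mv.b (nat_lit 17823), Mv.f (nat_lit 20036)])))))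
(Tr.nd (nat_lit 20039) (Tr.lf (Fc.ed (nat_lit 20038) (nat_lit 4191) Col.gi (nat_lit 4922) (Dv.wd (nat_lit 24) [Mv.f (nat_lit 13698), Mv.f (nat_lit 17802), Mv.f (nat_lit 20037)])))
(Tr.nd (nat_lit 20040) (Tr.lf (Fc.al (nat_lit 20039) (nat_lit 6998) (nat_lit 7035) (Dv.wd (nat_lit 102) [Mv.b (nat_lit 18197), Mv.f (nat_lit 10822), Mv.f (nat_lit 20038), Mv.b (nat_lit 12800), Mv.b (nat_lit 7503), Mv.b (nat_lit 9713), Mv.f (nat_lit 16952), Mv.b (nat_lit 19309), Mv.f (nat_lit 19398), Mv.b (nat_lit 18911), Mv.b (nat_lit 18205)])))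
(Tr.lf (Fc.ed (nat_lit 20040) (nat_lit 6998) Col.gi (nat_lit 3802) (Dv.wd (nat_lit 128) [Mv.f (nat_lit 18197), Mv.b (nat_lit 20039)]))))))))))))
(Tr.nd (nat_lit 20205) (Tr.nd (nat_lit 20123) (Tr.nd (nat_lit 20082) (Tr.nd (nat_lit 20061) (Tr.nd (nat_lit 20051) (Tr.nd (nat_lit 20046) (Tr.nd (nat_lit 20043) (Tr.nd (nat_lit 20042) (Tr.lf (Fc.al (nat_lit 20041) (nat_lit 6719) (nat_lit 7193) (Dv.wd (nat_lit 168) [Mv.b (nat_lit 19772), Mv.f (nat_lit 18928), Mv.b (nat_lit 19397), Mv.f (nat_lit 18601), Mv.f (nat_lit 19398), Mv.b (nat_lit 18911), Mv.b (nat_lit 18205), Mv.f (nat_lit 20040), Mv.f (nat_lit 10822), Mv.b (nat_lit 11017), Mv.b (nat_lit 17553)])))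
(Tr.lf (Fc.ed (nat_lit 20042) (nat_lit 6719) Col.b (nat_lit 6346) (Dv.wd (nat_lit 119) [Mv.f (nat_lit 19772), Mv.b (nat_lit 20041)]))))
(Tr.nd (nat_lit 20044) (Tr.lf (Fc.ed (nat_lit 20043) (nat_lit 7100) Col.g (nat_lit 6211) (Dv.wd (nat_lit 63) [Mv.b (nat_lit 15538), Mv.b (nat_lit 15537), Mv.f (nat_lit 8842), Mv.f (nat_lit 10437), Mv.f (nat_lit 6109), Mv.b (nat_lit 4045), Mv.f (nat_lit 10911), Mv.f (nat_lit 20029), Mv.f (nat_lit 17390), Mv.f (nat_lit 19540)])))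
(Tr.nd (nat_lit 20045) (Tr.lf (Fc.ed (nat_lit 20044) (nat_lit 6211) Col.g (nat_lit 7148) (Dv.wd (nat_lit 9) [Mv.b (nat_lit 19677), Mv.b (nat_lit 19541), Mv.f (nat_lit 20043)])))
(Tr.lf (Fc.ed (nat_lit 20045) (nat_lit 6870) Col.d (nat_lit 7251) (Dv.wd (nat_lit 68) [Mv.f (nat_lit 20023), Mv.f (nat_lit 12558), Mv.b (nat_lit 19169), Mv.b (nat_lit 8924), Mv.f (nat_lit 15537), Mv.f (nat_lit 15538), Mv.f (nat_lit 20044), Mv.f (nat_lit 19678), Mv.f (nat_lit 13730), Mv.f (nat_lit 17889)]))))))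
(Tr.nd (nat_lit 20048) (Tr.nd (nat_lit 20047) (Tr.lf (Fc.ed (nat_lit 20046) (nat_lit 5820) Col.d (nat_lit 7169) (Dv.wd (nat_lit 48) [Mv.b (nat_lit 19806), Mv.f (nat_lit 14625), Mv.f (nat_lit 17889), Mv.f (nat_lit 20045), Mv.f (nat_lit 20023), Mv.f (nat_lit 12558), Mv.b (nat_lit 8908), Mv.b (nat_lit 9298), Mv.f (nat_lit 14767)])))
(Tr.lf (Fc.ed (nat_lit 20047) (nat_lit 7112) Col.d (nat_lit 7036) (Dv.wd (nat_lit 28) [Mv.f (nat_lit 18199), Mv.f (nat_lit 20046), Mv.f (nat_lit 19720)]))))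
(Tr.nd (nat_lit 20049) (Tr.lf (Fc.ed (nat_lit 20048) (nat_lit 6897) Col.d (nat_lit 5388) (Dv.wd (nat_lit 90) [Mv.b (nat_lit 19808), Mv.f (nat_lit 20047), Mv.b (nat_lit 18198)])))
(Tr.nd (nat_lit 20050) (Tr.lf (Fc.ed (nat_lit 20049) (nat_lit 7043) Col.d (nat_lit 6727) (Dv.wd (nat_lit 51) [Mv.f (nat_lit 17570), Mv.b (nat_lit 14085), Mv.b (nat_lit 12552), Mv.b (nat_lit 11796), Mv.f (nat_lit 17937), Mv.f (nat_lit 20048), Mv.b (nat_lit 13836), Mv.f (nat_lit 12905), Mv.f (nat_lit 18210)])))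
(Tr.lf (Fc.ed (nat_lit 20050) (nat_lit 7235) Col.g (nat_lit 7254) Dv.df))))))
(Tr.nd (nat_lit 20056) (Tr.nd (nat_lit 20053) (Tr.nd (nat_lit 20052) (Tr.lf (Fc.ed (nat_lit 20051) (nat_lit 7245) Col.g (nat_lit 7255) Dv.df))
(Tr.lf (Fc.ed (nat_lit 20052) (nat_lit 7255) Col.g (nat_lit 7205) (Dv.wd (nat_lit 9) [Mv.b (nat_lit 19794), Mv.f (nat_lit 19914), Mv.f (nat_lit 20051)]))))
(Tr.nd (nat_lit 20054) (Tr.lf (Fc.ed (nat_lit 20053) (nat_lit 7156) Col.gi (nat_lit 7256) Dv.df))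
(Tr.nd (nat_lit 20055) (Tr.lf (Fc.ed (nat_lit 20054) (nat_lit 6632) Col.gi (nat_lit 7257) Dv.df))
(Tr.lf (Fc.ed (nat_lit 20055) (nat_lit 7257) Col.d (nat_lit 7166) (Dv.wd (nat_lit 48) [Mv.f (nat_lit 19714), Mv.b (nat_lit 17856), Mv.f (nat_lit 11499), Mv.f (nat_lit 18006), Mv.f (nat_lit 12496), Mv.b (nat_lit 6374), Mv.f (nat_lit 16655), Mv.f (nat_lit 17322), Mv.f (nat_lit 20054)]))))))
(Tr.nd (nat_lit 20058) (Tr.nd (nat_lit 20057) (Tr.lf (Fc.ed (nat_lit 20056) (nat_lit 7116) Col.f (nat_lit 7257) (Dv.wd (nat_lit 86) [Mv.f (nat_lit 20055), Mv.f (nat_lit 19867), Mv.f (nat_lit 19580)])))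
(Tr.lf (Fc.ed (nat_lit 20057) (nat_lit 6689) Col.c (nat_lit 7258) Dv.df)))
(Tr.nd (nat_lit 20059) (Tr.lf (Fc.ed (nat_lit 20058) (nat_lit 5576) Col.a (nat_lit 7259) Dv.df))
(Tr.nd (nat_lit 20060) (Tr.lf (Fc.ed (nat_lit 20059) (nat_lit 7259) Col.f (nat_lit 6519) (Dv.wd (nat_lit 10) [Mv.f (nat_lit 17030), Mv.b (nat_lit 14234), Mv.f (nat_lit 20058)])))
(Tr.lf (Fc.ed (nat_lit 20060) (nat_lit 4372) Col.c (nat_lit 7260) Dv.df)))))))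
(Tr.nd (nat_lit 20071) (Tr.nd (nat_lit 20066) (Tr.nd (nat_lit 20063) (Tr.nd (nat_lit 20062) (Tr.lf (Fc.ed (nat_lit 20061) (nat_lit 7240) Col.d (nat_lit 7261) Dv.df))
(Tr.lf (Fc.ed (nat_lit 20062) (nat_lit 7261) Col.c (nat_lit 7246) (Dv.wd (nat_lit 150) [Mv.f (nat_lit 20013), Mv.f (nat_lit 14134), Mv.b (nat_lit 4154), Mv.f (nat_lit 3345), Mv.f (nat_lit 4398), Mv.b (nat_lit 4492), Mv.f (nat_lit 4957), Mv.f (nat_lit 19906), Mv.f (nat_lit 20061)]))))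
(Tr.nd (nat_lit 20064) (Tr.lf (Fc.ed (nat_lit 20063) (nat_lit 4718) Col.e (nat_lit 7262) Dv.df))
(Tr.nd (nat_lit 20065) (Tr.lf (Fc.ed (nat_lit 20064) (nat_lit 7262) Col.b (nat_lit 4317) (Dv.wd (nat_lit 49) [Mv.f (nat_lit 16820), Mv.b (nat_lit 19297), Mv.f (nat_lit 20063)])))
(Tr.lf (Fc.ed (nat_lit 20065) (nat_lit 7079) Col.g (nat_lit 7262) (Dv.wd (nat_lit 122) [Mv.f (nat_lit 20064), Mv.b (nat_lit 14495), Mv.b (nat_lit 18687), Mv.b (nat_lit 14306), Mv.b (nat_lit 19295), Mv.f (nat_lit 17779), Mv.b (nat_lit 19294), Mv.f (nat_lit 18498), Mv.f (nat_lit 17778), Mv.f (nat_lit 19451)]))))))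
(Tr.nd (nat_lit 20068) (Tr.nd (nat_lit 20067) (Tr.lf (Fc.ed (nat_lit 20066) (nat_lit 6889) Col.c (nat_lit 7263) Dv.df))
(Tr.lf (Fc.ed (nat_lit 20067) (nat_lit 5951) Col.d (nat_lit 7264) Dv.df)))
(Tr.nd (nat_lit 20069) (Tr.lf (Fc.ed (nat_lit 20068) (nat_lit 6734) Col.c (nat_lit 7265) Dv.df))
(Tr.nd (nat_lit 20070) (Tr.lf (Fc.ed (nat_lit 20069) (nat_lit 7265) Col.b (nat_lit 7231) (Dv.wd (nat_lit 87) [Mv.b (nat_lit 19888), Mv.f (nat_lit 19845), Mv.b (nat_lit 17855), Mv.b (nat_lit 17854), Mv.f (nat_lit 20068)])))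
(Tr.lf (Fc.ed (nat_lit 20070) (nat_lit 5873) Col.gi (nat_lit 7266) Dv.df))))))
(Tr.nd (nat_lit 20076) (Tr.nd (nat_lit 20073) (Tr.nd (nat_lit 20072) (Tr.lf (Fc.ed (nat_lit 20071) (nat_lit 7266) Col.gi (nat_lit 7131) (Dv.wd (nat_lit 24) [Mv.b (nat_lit 19644), Mv.f (nat_lit 17741), Mv.f (nat_lit 20070)])))
(Tr.lf (Fc.ed (nat_lit 20072) (nat_lit 7053) Col.a (nat_lit 7266) (Dv.wd (nat_lit 23) [Mv.f (nat_lit 20071), Mv.f (nat_lit 19889), Mv.b (nat_lit 19891)]))))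
(Tr.nd (nat_lit 20074) (Tr.lf (Fc.ed (nat_lit 20073) (nat_lit 7236) Col.g (nat_lit 7267) Dv.df))
(Tr.nd (nat_lit 20075) (Tr.lf (Fc.ed (nat_lit 20074) (nat_lit 7267) Col.d (nat_lit 5986) (Dv.wd (nat_lit 85) [Mv.f (nat_lit 15134), Mv.f (nat_lit 6850), Mv.b (nat_lit 13416), Mv.f (nat_lit 17297), Mv.f (nat_lit 17351), Mv.f (nat_lit 19513), Mv.f (nat_lit 19514), Mv.f (nat_lit 19898), Mv.f (nat_lit 20073)])))
(Tr.lf (Fc.ed (nat_lit 20075) (nat_lit 4215) Col.d (nat_lit 7268) Dv.df)))))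
(Tr.nd (nat_lit 20079) (Tr.nd (nat_lit 20077) (Tr.lf (Fc.ed (nat_lit 20076) (nat_lit 7268) Col.f (nat_lit 7099) (Dv.wd (nat_lit 11) [Mv.b (nat_lit 19539), Mv.b (nat_lit 15450), Mv.f (nat_lit 20075)])))
(Tr.nd (nat_lit 20078) (Tr.lf (Fc.ed (nat_lit 20077) (nat_lit 7253) Col.b (nat_lit 7269) Dv.df))
(Tr.lf (Fc.ed (nat_lit 20078) (nat_lit 7269) Col.d (nat_lit 5766) (Dv.wd (nat_lit 58) [Mv.f (nat_lit 14636), Mv.b (nat_lit 20027), Mv.f (nat_lit 20077)])))))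
(Tr.nd (nat_lit 20080) (Tr.lf (Fc.ed (nat_lit 20079) (nat_lit 3886) Col.c (nat_lit 7270) Dv.df))
(Tr.nd (nat_lit 20081) (Tr.lf (Fc.ed (nat_lit 20080) (nat_lit 7250) Col.a (nat_lit 7271) Dv.df))
(Tr.lf (Fc.ed (nat_lit 20081) (nat_lit 7271) Col.d (nat_lit 7096) (Dv.wd (nat_lit 28) [Mv.b (nat_lit 19525), Mv.b (nat_lit 20021), Mv.f (nat_lit 20080)])))))))))
(Tr.nd (nat_lit 20102) (Tr.nd (nat_lit 20092) (Tr.nd (nat_lit 20087) (Tr.nd (nat_lit 20084) (Tr.nd (nat_lit 20083) (Tr.lf (Fc.ed (nat_lit 20082) (nat_lit 5855) Col.g (nat_lit 7272) Dv.df))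
(Tr.lf (Fc.ed (nat_lit 20083) (nat_lit 7270) Col.gi (nat_lit 7273) Dv.df)))
(Tr.nd (nat_lit 20085) (Tr.lf (Fc.ed (nat_lit 20084) (nat_lit 7142) Col.gi (nat_lit 7274) Dv.df))
(Tr.nd (nat_lit 20086) (Tr.lf (Fc.ed (nat_lit 20085) (nat_lit 7274) Col.f (nat_lit 7011) (Dv.wd (nat_lit 13) [Mv.b (nat_lit 19589), Mv.f (nat_lit 19666), Mv.f (nat_lit 20084)])))
(Tr.lf (Fc.ed (nat_lit 20086) (nat_lit 7061) Col.d (nat_lit 7274) (Dv.wd (nat_lit 90) [Mv.f (nat_lit 20085), Mv.b (nat_lit 18153), Mv.b (nat_lit 19420)]))))))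
(Tr.nd (nat_lit 20089) (Tr.nd (nat_lit 20088) (Tr.lf (Fc.ed (nat_lit 20087) (nat_lit 4862) Col.c (nat_lit 6814) (Dv.wd (nat_lit 14) [Mv.f (nat_lit 20011), Mv.f (nat_lit 20086), Mv.b (nat_lit 20084), Mv.f (nat_lit 19667), Mv.f (nat_lit 14166), Mv.f (nat_lit 9717), Mv.f (nat_lit 9531), Mv.f (nat_lit 17315), Mv.b (nat_lit 17766)])))
(Tr.lf (Fc.ed (nat_lit 20088) (nat_lit 6814) Col.b (nat_lit 6835) (Dv.wd (nat_lit 87) [Mv.f (nat_lit 19972), Mv.f (nat_lit 11832), Mv.f (nat_lit 6212), Mv.f (nat_lit 12683), Mv.f (nat_lit 20087)]))))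
(Tr.nd (nat_lit 20090) (Tr.lf (Fc.ed (nat_lit 20089) (nat_lit 7015) Col.g (nat_lit 5053) (Dv.wd (nat_lit 122) [Mv.f (nat_lit 13117), Mv.f (nat_lit 17763), Mv.f (nat_lit 17764), Mv.b (nat_lit 17224), Mv.f (nat_lit 17063), Mv.b (nat_lit 17767), Mv.f (nat_lit 20087), Mv.f (nat_lit 20011), Mv.b (nat_lit 19419), Mv.f (nat_lit 18217)])))
(Tr.nd (nat_lit 20091) (Tr.lf (Fc.al (nat_lit 20090) (nat_lit 6670) (nat_lit 5665) (Dv.wd (nat_lit 168) [Mv.f (nat_lit 14410), Mv.b (nat_lit 5628), Mv.f (nat_lit 5508), Mv.f (nat_lit 5855), Mv.b (nat_lit 6187), Mv.f (nat_lit 12683), Mv.f (nat_lit 20087), Mv.b (nat_lit 17753), Mv.f (nat_lit 15103), Mv.b (nat_lit 13804), Mv.f (nat_lit 17392)])))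
(Tr.lf (Fc.ed (nat_lit 20091) (nat_lit 5665) Col.gi (nat_lit 6697) (Dv.wd (nat_lit 128) [Mv.b (nat_lit 17486), Mv.f (nat_lit 20090)])))))))
(Tr.nd (nat_lit 20097) (Tr.nd (nat_lit 20094) (Tr.nd (nat_lit 20093) (Tr.lf (Fc.ed (nat_lit 20092) (nat_lit 5371) Col.gi (nat_lit 7009) (Dv.wd (nat_lit 157) [Mv.b (nat_lit 18150), Mv.f (nat_lit 20007), Mv.f (nat_lit 12750), Mv.b (nat_lit 8205), Mv.f (nat_lit 5854), Mv.b (nat_lit 6187), Mv.f (nat_lit 12683), Mv.f (nat_lit 20087), Mv.b (nat_lit 17753), Mv.f (nat_lit 15103)])))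
(Tr.lf (Fc.ed (nat_lit 20093) (nat_lit 7009) Col.gi (nat_lit 7045) (Dv.wd (nat_lit 24) [Mv.b (nat_lit 18215), Mv.b (nat_lit 14381), Mv.f (nat_lit 20092)]))))
(Tr.nd (nat_lit 20095) (Tr.lf (Fc.ed (nat_lit 20094) (nat_lit 7015) Col.c (nat_lit 7197) (Dv.wd (nat_lit 156) [Mv.b (nat_lit 19779), Mv.b (nat_lit 15589), Mv.f (nat_lit 16114), Mv.f (nat_lit 6480), Mv.f (nat_lit 6788), Mv.f (nat_lit 12749), Mv.b (nat_lit 20007), Mv.f (nat_lit 18150), Mv.f (nat_lit 20093), Mv.f (nat_lit 18217)])))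
(Tr.nd (nat_lit 20096) (Tr.lf (Fc.ed (nat_lit 20095) (nat_lit 7197) Col.a (nat_lit 6917) (Dv.wd (nat_lit 19) [Mv.f (nat_lit 17974), Mv.b (nat_lit 18161), Mv.f (nat_lit 20094)])))
(Tr.lf (Fc.ed (nat_lit 20096) (nat_lit 7197) Col.f (nat_lit 6945) (Dv.wd (nat_lit 26) [Mv.b (nat_lit 18029), Mv.f (nat_lit 18160), Mv.f (nat_lit 20094)]))))))
(Tr.nd (nat_lit 20099) (Tr.nd (nat_lit 20098) (Tr.lf (Fc.ed (nat_lit 20097) (nat_lit 7153) Col.c (nat_lit 6986) (Dv.wd (nat_lit 83) [Mv.b (nat_lit 18162), Mv.f (nat_lit 20094), Mv.b (nat_lit 19779), Mv.b (nat_lit 15589), Mv.f (nat_lit 16114), Mv.f (nat_lit 6481), Mv.f (nat_lit 11286), Mv.b (nat_lit 18134), Mv.b (nat_lit 19686)])))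
(Tr.lf (Fc.ed (nat_lit 20098) (nat_lit 6973) Col.g (nat_lit 6889) (Dv.wd (nat_lit 122) [Mv.b (nat_lit 17923), Mv.b (nat_lit 20008), Mv.f (nat_lit 17956), Mv.b (nat_lit 13448), Mv.f (nat_lit 6467), Mv.f (nat_lit 11286), Mv.b (nat_lit 18134), Mv.b (nat_lit 19686), Mv.f (nat_lit 20097), Mv.f (nat_lit 18108)]))))
(Tr.nd (nat_lit 20100) (Tr.lf (Fc.ed (nat_lit 20099) (nat_lit 6889) Col.g (nat_lit 6429) (Dv.wd (nat_lit 9) [Mv.b (nat_lit 17247), Mv.f (nat_lit 18086), Mv.f (nat_lit 20098)])))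
(Tr.nd (nat_lit 20101) (Tr.lf (Fc.ed (nat_lit 20100) (nat_lit 6797) Col.f (nat_lit 6889) (Dv.wd (nat_lit 10) [Mv.f (nat_lit 20099), Mv.b (nat_lit 16707), Mv.b (nat_lit 17720)])))
(Tr.lf (Fc.ed (nat_lit 20101) (nat_lit 6841) Col.f (nat_lit 5302) (Dv.wd (nat_lit 20) [Mv.f (nat_lit 17718), Mv.f (nat_lit 20100), Mv.b (nat_lit 17923)]))))))))
(Tr.nd (nat_lit 20112) (Tr.nd (nat_lit 20107) (Tr.nd (nat_lit 20104) (Tr.nd (nat_lit 20103) (Tr.lf (Fc.ed (nat_lit 20102) (nat_lit 6889) Col.d (nat_lit 6909) (Dv.wd (nat_lit 21) [Mv.f (nat_lit 17958), Mv.b (nat_lit 17898), Mv.f (nat_lit 20100)])))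
(Tr.lf (Fc.ed (nat_lit 20103) (nat_lit 4961) Col.a (nat_lit 6841) (Dv.wd (nat_lit 79) [Mv.f (nat_lit 20101), Mv.b (nat_lit 13633), Mv.f (nat_lit 12881)]))))
(Tr.nd (nat_lit 20105) (Tr.lf (Fc.ed (nat_lit 20104) (nat_lit 6917) Col.gi (nat_lit 6553) (Dv.wd (nat_lit 102) [Mv.f (nat_lit 17089), Mv.f (nat_lit 7717), Mv.b (nat_lit 3993), Mv.f (nat_lit 3870), Mv.f (nat_lit 5507), Mv.f (nat_lit 5628), Mv.b (nat_lit 14410), Mv.f (nat_lit 20091), Mv.b (nat_lit 17935), Mv.b (nat_lit 17974)])))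
(Tr.nd (nat_lit 20106) (Tr.lf (Fc.ed (nat_lit 20105) (nat_lit 6553) Col.gi (nat_lit 6945) (Dv.wd (nat_lit 24) [Mv.b (nat_lit 20096), Mv.f (nat_lit 20095), Mv.f (nat_lit 20104)])))
(Tr.lf (Fc.ed (nat_lit 20106) (nat_lit 7111) Col.gi (nat_lit 7065) (Dv.wd (nat_lit 88) [Mv.b (nat_lit 19427), Mv.f (nat_lit 17886), Mv.f (nat_lit 17574), Mv.b (nat_lit 12715), Mv.b (nat_lit 17089), Mv.f (nat_lit 20105), Mv.b (nat_lit 18029), Mv.b (nat_lit 18072), Mv.f (nat_lit 18150), Mv.f (nat_lit 19571)]))))))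
(Tr.nd (nat_lit 20109) (Tr.nd (nat_lit 20108) (Tr.lf (Fc.ed (nat_lit 20107) (nat_lit 7133) Col.gi (nat_lit 7111) (Dv.wd (nat_lit 12) [Mv.f (nat_lit 20106), Mv.f (nat_lit 19791), Mv.b (nat_lit 19794)])))
(Tr.lf (Fc.ed (nat_lit 20108) (nat_lit 7263) Col.g (nat_lit 6869) (Dv.wd (nat_lit 77) [Mv.f (nat_lit 17879), Mv.f (nat_lit 16418), Mv.b (nat_lit 19651), Mv.f (nat_lit 20107), Mv.b (nat_lit 19571), Mv.f (nat_lit 20093), Mv.f (nat_lit 18218), Mv.f (nat_lit 20098), Mv.f (nat_lit 20066)]))))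
(Tr.nd (nat_lit 20110) (Tr.lf (Fc.ed (nat_lit 20109) (nat_lit 5053) Col.g (nat_lit 4762) (Dv.wd (nat_lit 9) [Mv.b (nat_lit 14329), Mv.f (nat_lit 18160), Mv.f (nat_lit 20089)])))
(Tr.nd (nat_lit 20111) (Tr.lf (Fc.ed (nat_lit 20110) (nat_lit 6965) Col.f (nat_lit 6953) (Dv.wd (nat_lit 10) [Mv.f (nat_lit 18163), Mv.f (nat_lit 20089), Mv.f (nat_lit 20006)])))
(Tr.lf (Fc.ed (nat_lit 20111) (nat_lit 4961) Col.gi (nat_lit 6986) (Dv.wd (nat_lit 141) [Mv.b (nat_lit 18162), Mv.f (nat_lit 20089), Mv.b (nat_lit 13116), Mv.b (nat_lit 11921), Mv.f (nat_lit 7103), Mv.b (nat_lit 4670), Mv.b (nat_lit 13720), Mv.f (nat_lit 13747), Mv.f (nat_lit 13748)])))))))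
(Tr.nd (nat_lit 20117) (Tr.nd (nat_lit 20114) (Tr.nd (nat_lit 20113) (Tr.lf (Fc.ed (nat_lit 20112) (nat_lit 6986) Col.gi (nat_lit 5302) (Dv.wd (nat_lit 24) [Mv.b (nat_lit 20101), Mv.b (nat_lit 20103), Mv.f (nat_lit 20111)])))
(Tr.lf (Fc.ed (nat_lit 20113) (nat_lit 5621) Col.gi (nat_lit 4961) (Dv.wd (nat_lit 12) [Mv.f (nat_lit 20111), Mv.b (nat_lit 18107), Mv.b (nat_lit 14616)]))))
(Tr.nd (nat_lit 20115) (Tr.lf (Fc.ed (nat_lit 20114) (nat_lit 5302) Col.gi (nat_lit 5621) (Dv.wd (nat_lit 12) [Mv.f (nat_lit 20113), Mv.b (nat_lit 12881), Mv.f (nat_lit 13633)])))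
(Tr.nd (nat_lit 20116) (Tr.lf (Fc.ed (nat_lit 20115) (nat_lit 6977) Col.c (nat_lit 7273) (Dv.wd (nat_lit 138) [Mv.b (nat_lit 20083), Mv.b (nat_lit 20079), Mv.b (nat_lit 9571), Mv.f (nat_lit 19681), Mv.f (nat_lit 19685), Mv.f (nat_lit 20097), Mv.f (nat_lit 20112), Mv.f (nat_lit 16994), Mv.f (nat_lit 18093)])))
(Tr.lf (Fc.ed (nat_lit 20116) (nat_lit 6953) Col.c (nat_lit 4917) (Dv.wd (nat_lit 34) [Mv.f (nat_lit 16268), Mv.b (nat_lit 20007), Mv.f (nat_lit 20110)]))))))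
(Tr.nd (nat_lit 20120) (Tr.nd (nat_lit 20118) (Tr.lf (Fc.ed (nat_lit 20117) (nat_lit 6945) Col.b (nat_lit 7275) Dv.df))
(Tr.nd (nat_lit 20119) (Tr.lf (Fc.ed (nat_lit 20118) (nat_lit 7275) Col.c (nat_lit 7243) (Dv.wd (nat_lit 93) [Mv.b (nat_lit 19912), Mv.f (nat_lit 15460), Mv.f (nat_lit 14383), Mv.f (nat_lit 18029), Mv.f (nat_lit 20117)])))
(Tr.lf (Fc.ed (nat_lit 20119) (nat_lit 6519) Col.d (nat_lit 7276) Dv.df))))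
(Tr.nd (nat_lit 20121) (Tr.lf (Fc.ed (nat_lit 20120) (nat_lit 7057) Col.g (nat_lit 7277) Dv.df))
(Tr.nd (nat_lit 20122) (Tr.lf (Fc.ed (nat_lit 20121) (nat_lit 6013) Col.c (nat_lit 7278) Dv.df))
(Tr.lf (Fc.ed (nat_lit 20122) (nat_lit 7278) Col.a (nat_lit 6340) (Dv.wd (nat_lit 19) [Mv.f (nat_lit 15856), Mv.b (nat_lit 19605), Mv.f (nat_lit 20121)]))))))))))
(Tr.nd (nat_lit 20164) (Tr.nd (nat_lit 20143) (Tr.nd (nat_lit 20133) (Tr.nd (nat_lit 20128) (Tr.nd (nat_lit 20125) (Tr.nd (nat_lit 20124) (Tr.lf (Fc.ed (nat_lit 20123) (nat_lit 7119) Col.g (nat_lit 7279) Dv.df))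
(Tr.lf (Fc.ed (nat_lit 20124) (nat_lit 7279) Col.g (nat_lit 4766) (Dv.wd (nat_lit 9) [Mv.b (nat_lit 13764), Mv.f (nat_lit 19585), Mv.f (nat_lit 20123)]))))
(Tr.nd (nat_lit 20126) (Tr.lf (Fc.ed (nat_lit 20125) (nat_lit 6958) Col.c (nat_lit 7280) Dv.df))
(Tr.nd (nat_lit 20127) (Tr.lf (Fc.ed (nat_lit 20126) (nat_lit 7280) Col.d (nat_lit 7278) (Dv.wd (nat_lit 62) [Mv.b (nat_lit 20121), Mv.f (nat_lit 15184), Mv.f (nat_lit 10893), Mv.f (nat_lit 19242), Mv.b (nat_lit 19600), Mv.f (nat_lit 10966), Mv.f (nat_lit 12611), Mv.b (nat_lit 18053), Mv.f (nat_lit 20125)])))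
(Tr.lf (Fc.ed (nat_lit 20127) (nat_lit 7140) Col.c (nat_lit 7281) Dv.df)))))
(Tr.nd (nat_lit 20130) (Tr.nd (nat_lit 20129) (Tr.lf (Fc.ed (nat_lit 20128) (nat_lit 7281) Col.b (nat_lit 5046) (Dv.wd (nat_lit 87) [Mv.b (nat_lit 13101), Mv.f (nat_lit 9869), Mv.f (nat_lit 17343), Mv.f (nat_lit 19664), Mv.f (nat_lit 20127)])))
(Tr.lf (Fc.ed (nat_lit 20129) (nat_lit 6075) Col.e (nat_lit 7281) (Dv.wd (nat_lit 82) [Mv.f (nat_lit 20128), Mv.f (nat_lit 13103), Mv.b (nat_lit 19188)]))))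
(Tr.nd (nat_lit 20131) (Tr.lf (Fc.ed (nat_lit 20130) (nat_lit 7216) Col.gi (nat_lit 7282) Dv.df))
(Tr.nd (nat_lit 20132) (Tr.lf (Fc.ed (nat_lit 20131) (nat_lit 7282) Col.d (nat_lit 7262) (Dv.wd (nat_lit 53) [Mv.b (nat_lit 20063), Mv.b (nat_lit 11906), Mv.f (nat_lit 7384), Mv.b (nat_lit 8279), Mv.b (nat_lit 14705), Mv.b (nat_lit 19251), Mv.f (nat_lit 19249), Mv.f (nat_lit 13725), Mv.f (nat_lit 19832), Mv.f (nat_lit 20130)])))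
(Tr.lf (Fc.ed (nat_lit 20132) (nat_lit 7070) Col.gi (nat_lit 7248) (Dv.wd (nat_lit 50) [Mv.f (nat_lit 20017), Mv.f (nat_lit 20065), Mv.b (nat_lit 20131), Mv.b (nat_lit 20130), Mv.b (nat_lit 19832), Mv.f (nat_lit 13727), Mv.f (nat_lit 13599), Mv.b (nat_lit 18224), Mv.b (nat_lit 19437)])))))))
(Tr.nd (nat_lit 20138) (Tr.nd (nat_lit 20135) (Tr.nd (nat_lit 20134) (Tr.lf (Fc.ed (nat_lit 20133) (nat_lit 6537) Col.b (nat_lit 7070) (Dv.wd (nat_lit 101) [Mv.f (nat_lit 20132), Mv.b (nat_lit 20015), Mv.b (nat_lit 13952), Mv.b (nat_lit 13629), Mv.f (nat_lit 15325), Mv.f (nat_lit 16870), Mv.b (nat_lit 19510), Mv.b (nat_lit 19553), Mv.b (nat_lit 19554), Mv.b (nat_lit 17184)])))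
(Tr.lf (Fc.ed (nat_lit 20134) (nat_lit 7116) Col.b (nat_lit 7283) Dv.df)))
(Tr.nd (nat_lit 20136) (Tr.lf (Fc.ed (nat_lit 20135) (nat_lit 7283) Col.c (nat_lit 7276) (Dv.wd (nat_lit 176) [Mv.b (nat_lit 20119), Mv.b (nat_lit 17029), Mv.b (nat_lit 6920), Mv.f (nat_lit 4817), Mv.b (nat_lit 4389), Mv.b (nat_lit 3942), Mv.f (nat_lit 4211), Mv.f (nat_lit 4212), Mv.f (nat_lit 6190), Mv.f (nat_lit 6194), Mv.b (nat_lit 3852), Mv.b (nat_lit 3724), Mv.f (nat_lit 3726), Mv.f (nat_lit 3730), Mv.f (nat_lit 6047), Mv.b (nat_lit 16636), Mv.b (nat_lit 17865), Mv.b (nat_lit 19624), Mv.f (nat_lit 20134)])))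
(Tr.nd (nat_lit 20137) (Tr.lf (Fc.ed (nat_lit 20136) (nat_lit 7257) Col.b (nat_lit 7284) Dv.df))
(Tr.lf (Fc.ed (nat_lit 20137) (nat_lit 7284) Col.f (nat_lit 7283) (Dv.wd (nat_lit 20) [Mv.b (nat_lit 20134), Mv.f (nat_lit 20056), Mv.f (nat_lit 20136)]))))))
(Tr.nd (nat_lit 20140) (Tr.nd (nat_lit 20139) (Tr.lf (Fc.ed (nat_lit 20138) (nat_lit 7284) Col.c (nat_lit 7253) (Dv.wd (nat_lit 176) [Mv.f (nat_lit 20027), Mv.b (nat_lit 9702), Mv.f (nat_lit 8910), Mv.f (nat_lit 5489), Mv.b (nat_lit 5093), Mv.f (nat_lit 3735), Mv.b (nat_lit 3971), Mv.f (nat_lit 3972), Mv.f (nat_lit 5557), Mv.b (nat_lit 5555), Mv.f (nat_lit 4815), Mv.f (nat_lit 3700), Mv.f (nat_lit 3710), Mv.b (nat_lit 3713), Mv.b (nat_lit 6373), Mv.f (nat_lit 16655), Mv.f (nat_lit 17322), Mv.f (nat_lit 20054), Mv.f (nat_lit 20136)])))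
(Tr.lf (Fc.ed (nat_lit 20139) (nat_lit 7253) Col.f (nat_lit 7276) (Dv.wd (nat_lit 26) [Mv.b (nat_lit 20135), Mv.b (nat_lit 20137), Mv.f (nat_lit 20138)]))))
(Tr.nd (nat_lit 20141) (Tr.lf (Fc.al (nat_lit 20140) (nat_lit 7259) (nat_lit 3938) (Dv.wd (nat_lit 90) [Mv.b (nat_lit 20027), Mv.f (nat_lit 20139), Mv.b (nat_lit 20119), Mv.b (nat_lit 20059)])))
(Tr.nd (nat_lit 20142) (Tr.lf (Fc.al (nat_lit 20141) (nat_lit 7195) (nat_lit 5576) (Dv.wd (nat_lit 29) [Mv.f (nat_lit 20058), Mv.f (nat_lit 20140), Mv.f (nat_lit 19775)])))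
(Tr.lf (Fc.al (nat_lit 20142) (nat_lit 7206) (nat_lit 6519) (Dv.wd (nat_lit 30) [Mv.b (nat_lit 20059), Mv.f (nat_lit 20140), Mv.f (nat_lit 19796)]))))))))
(Tr.nd (nat_lit 20153) (Tr.nd (nat_lit 20148) (Tr.nd (nat_lit 20145) (Tr.nd (nat_lit 20144) (Tr.lf (Fc.ed (nat_lit 20143) (nat_lit 5576) Col.f (nat_lit 6106) (Dv.wd (nat_lit 30) [Mv.b (nat_lit 19776), Mv.f (nat_lit 20141)])))
(Tr.lf (Fc.ed (nat_lit 20144) (nat_lit 6519) Col.a (nat_lit 6106) (Dv.wd (nat_lit 29) [Mv.b (nat_lit 19797), Mv.f (nat_lit 20142)]))))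
(Tr.nd (nat_lit 20146) (Tr.lf (Fc.ed (nat_lit 20145) (nat_lit 6519) Col.f (nat_lit 3938) (Dv.wd (nat_lit 30) [Mv.f (nat_lit 19796), Mv.f (nat_lit 20142)])))
(Tr.nd (nat_lit 20147) (Tr.lf (Fc.ed (nat_lit 20146) (nat_lit 7276) Col.a (nat_lit 7247) (Dv.wd (nat_lit 23) [Mv.b (nat_lit 20014), Mv.f (nat_lit 20026), Mv.f (nat_lit 20139)])))
(Tr.lf (Fc.ed (nat_lit 20147) (nat_lit 7247) Col.d (nat_lit 6106) (Dv.wd (nat_lit 28) [Mv.b (nat_lit 20144), Mv.f (nat_lit 20119), Mv.f (nat_lit 20146)]))))))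
(Tr.nd (nat_lit 20150) (Tr.nd (nat_lit 20149) (Tr.lf (Fc.ed (nat_lit 20148) (nat_lit 5766) Col.f (nat_lit 6546) (Dv.wd (nat_lit 20) [Mv.b (nat_lit 17077), Mv.f (nat_lit 20145), Mv.b (nat_lit 14636)])))
(Tr.lf (Fc.ed (nat_lit 20149) (nat_lit 6546) Col.a (nat_lit 7104) (Dv.wd (nat_lit 23) [Mv.f (nat_lit 19549), Mv.b (nat_lit 19401), Mv.f (nat_lit 20148)]))))
(Tr.nd (nat_lit 20151) (Tr.lf (Fc.ed (nat_lit 20150) (nat_lit 7104) Col.c (nat_lit 6519) (Dv.wd (nat_lit 33) [Mv.f (nat_lit 20144), Mv.b (nat_lit 17078), Mv.f (nat_lit 20149)])))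
(Tr.nd (nat_lit 20152) (Tr.lf (Fc.al (nat_lit 20151) (nat_lit 6546) (nat_lit 6901) (Dv.wd (nat_lit 100) [Mv.f (nat_lit 17943), Mv.f (nat_lit 9601), Mv.b (nat_lit 7911), Mv.f (nat_lit 9708), Mv.f (nat_lit 18240), Mv.b (nat_lit 12997), Mv.b (nat_lit 15451), Mv.f (nat_lit 15452), Mv.f (nat_lit 19548), Mv.f (nat_lit 20150), Mv.f (nat_lit 17077)])))
(Tr.lf (Fc.ed (nat_lit 20152) (nat_lit 6546) Col.g (nat_lit 6148) (Dv.wd (nat_lit 129) [Mv.f (nat_lit 19174), Mv.b (nat_lit 20151)])))))))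
(Tr.nd (nat_lit 20158) (Tr.nd (nat_lit 20155) (Tr.nd (nat_lit 20154) (Tr.lf (Fc.ed (nat_lit 20153) (nat_lit 6589) Col.a (nat_lit 5766) (Dv.wd (nat_lit 114) [Mv.f (nat_lit 20148), Mv.f (nat_lit 20152), Mv.f (nat_lit 19173)])))
(Tr.lf (Fc.ed (nat_lit 20154) (nat_lit 5470) Col.b (nat_lit 7285) Dv.df)))
(Tr.nd (nat_lit 20156) (Tr.lf (Fc.ed (nat_lit 20155) (nat_lit 7285) Col.d (nat_lit 7208) (Dv.wd (nat_lit 58) [Mv.b (nat_lit 19803), Mv.f (nat_lit 18065), Mv.f (nat_lit 20154)])))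
(Tr.nd (nat_lit 20157) (Tr.lf (Fc.ed (nat_lit 20156) (nat_lit 5984) Col.c (nat_lit 7286) Dv.df))
(Tr.lf (Fc.ed (nat_lit 20157) (nat_lit 7286) Col.f (nat_lit 7183) (Dv.wd (nat_lit 26) [Mv.b (nat_lit 19749), Mv.f (nat_lit 15129), Mv.f (nat_lit 20156)]))))))
(Tr.nd (nat_lit 20161) (Tr.nd (nat_lit 20159) (Tr.lf (Fc.ed (nat_lit 20158) (nat_lit 5104) Col.gi (nat_lit 7287) Dv.df))
(Tr.nd (nat_lit 20160) (Tr.lf (Fc.ed (nat_lit 20159) (nat_lit 7287) Col.d (nat_lit 5576) (Dv.wd (nat_lit 43) [Mv.f (nat_lit 14234), Mv.b (nat_lit 19177), Mv.f (nat_lit 10464), Mv.f (nat_lit 5976), Mv.f (nat_lit 3873), Mv.b (nat_lit 10823), Mv.f (nat_lit 20038), Mv.f (nat_lit 13170), Mv.b (nat_lit 13894), Mv.f (nat_lit 20158)])))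
(Tr.lf (Fc.ed (nat_lit 20160) (nat_lit 7247) Col.f (nat_lit 7287) (Dv.wd (nat_lit 86) [Mv.f (nat_lit 20159), Mv.f (nat_lit 20143), Mv.b (nat_lit 20147)])))))
(Tr.nd (nat_lit 20162) (Tr.lf (Fc.ed (nat_lit 20161) (nat_lit 5104) Col.g (nat_lit 7276) (Dv.wd (nat_lit 9) [Mv.f (nat_lit 20146), Mv.f (nat_lit 20160), Mv.b (nat_lit 20158)])))
(Tr.nd (nat_lit 20163) (Tr.lf (Fc.ed (nat_lit 20162) (nat_lit 7276) Col.g (nat_lit 5794) (Dv.wd (nat_lit 9) [Mv.b (nat_lit 14716), Mv.b (nat_lit 14201), Mv.f (nat_lit 20161)])))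
(Tr.lf (Fc.ed (nat_lit 20163) (nat_lit 5835) Col.d (nat_lit 7288) Dv.df))))))))
(Tr.nd (nat_lit 20184) (Tr.nd (nat_lit 20174) (Tr.nd (nat_lit 20169) (Tr.nd (nat_lit 20166) (Tr.nd (nat_lit 20165) (Tr.lf (Fc.ed (nat_lit 20164) (nat_lit 7288) Col.g (nat_lit 6969) (Dv.wd (nat_lit 69) [Mv.f (nat_lit 18078), Mv.f (nat_lit 14625), Mv.b (nat_lit 14717), Mv.b (nat_lit 20162), Mv.b (nat_lit 20119), Mv.b (nat_lit 17029), Mv.f (nat_lit 7104), Mv.b (nat_lit 14788), Mv.f (nat_lit 20163)])))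
(Tr.lf (Fc.ed (nat_lit 20165) (nat_lit 7047) Col.d (nat_lit 7289) Dv.df)))
(Tr.nd (nat_lit 20167) (Tr.lf (Fc.ed (nat_lit 20166) (nat_lit 7265) Col.g (nat_lit 7290) Dv.df))
(Tr.nd (nat_lit 20168) (Tr.lf (Fc.ed (nat_lit 20167) (nat_lit 7290) Col.b (nat_lit 7278) (Dv.wd (nat_lit 104) [Mv.b (nat_lit 20121), Mv.b (nat_lit 15183), Mv.b (nat_lit 12506), Mv.f (nat_lit 12919), Mv.f (nat_lit 14301), Mv.b (nat_lit 17161), Mv.b (nat_lit 19844), Mv.f (nat_lit 19888), Mv.b (nat_lit 20069), Mv.f (nat_lit 20166)])))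
(Tr.lf (Fc.ed (nat_lit 20168) (nat_lit 7122) Col.a (nat_lit 7290) (Dv.wd (nat_lit 167) [Mv.f (nat_lit 20167), Mv.f (nat_lit 20122), Mv.b (nat_lit 15855), Mv.b (nat_lit 19613), Mv.f (nat_lit 19592)]))))))
(Tr.nd (nat_lit 20171) (Tr.nd (nat_lit 20170) (Tr.lf (Fc.ed (nat_lit 20169) (nat_lit 4818) Col.e (nat_lit 7291) Dv.df))
(Tr.lf (Fc.ed (nat_lit 20170) (nat_lit 6764) Col.d (nat_lit 7292) Dv.df)))
(Tr.nd (nat_lit 20172) (Tr.lf (Fc.ed (nat_lit 20171) (nat_lit 7292) Col.g (nat_lit 7078) (Dv.wd (nat_lit 63) [Mv.b (nat_lit 19448), Mv.f (nat_lit 17338), Mv.b (nat_lit 5975), Mv.f (nat_lit 3926), Mv.f (nat_lit 7330), Mv.f (nat_lit 9069), Mv.f (nat_lit 17185), Mv.f (nat_lit 19955), Mv.b (nat_lit 17650), Mv.f (nat_lit 20170)])))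
(Tr.nd (nat_lit 20173) (Tr.lf (Fc.ed (nat_lit 20172) (nat_lit 2619) Col.c (nat_lit 7293) Dv.df))
(Tr.lf (Fc.ed (nat_lit 20173) (nat_lit 7293) Col.f (nat_lit 7240) (Dv.wd (nat_lit 26) [Mv.b (nat_lit 19906), Mv.b (nat_lit 7004), Mv.f (nat_lit 20172)])))))))
(Tr.nd (nat_lit 20179) (Tr.nd (nat_lit 20176) (Tr.nd (nat_lit 20175) (Tr.lf (Fc.ed (nat_lit 20174) (nat_lit 5727) Col.c (nat_lit 7294) Dv.df))
(Tr.lf (Fc.ed (nat_lit 20175) (nat_lit 7294) Col.a (nat_lit 7286) (Dv.wd (nat_lit 19) [Mv.b (nat_lit 20156), Mv.f (nat_lit 15130), Mv.f (nat_lit 20174)]))))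
(Tr.nd (nat_lit 20177) (Tr.lf (Fc.ed (nat_lit 20176) (nat_lit 5924) Col.f (nat_lit 7295) Dv.df))
(Tr.nd (nat_lit 20178) (Tr.lf (Fc.ed (nat_lit 20177) (nat_lit 7295) Col.c (nat_lit 7119) (Dv.wd (nat_lit 34) [Mv.b (nat_lit 19585), Mv.f (nat_lit 14987), Mv.f (nat_lit 20176)])))
(Tr.lf (Fc.ed (nat_lit 20178) (nat_lit 2660) Col.e (nat_lit 7296) Dv.df)))))
(Tr.nd (nat_lit 20181) (Tr.nd (nat_lit 20180) (Tr.lf (Fc.ed (nat_lit 20179) (nat_lit 7296) Col.b (nat_lit 7017) (Dv.wd (nat_lit 49) [Mv.b (nat_lit 18166), Mv.b (nat_lit 8022), Mv.f (nat_lit 20178)])))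
(Tr.lf (Fc.ed (nat_lit 20180) (nat_lit 7084) Col.d (nat_lit 7297) Dv.df)))
(Tr.nd (nat_lit 20182) (Tr.lf (Fc.ed (nat_lit 20181) (nat_lit 7297) Col.g (nat_lit 7234) (Dv.wd (nat_lit 69) [Mv.b (nat_lit 19895), Mv.b (nat_lit 16952), Mv.f (nat_lit 19486), Mv.f (nat_lit 17434), Mv.f (nat_lit 19489), Mv.f (nat_lit 19332), Mv.b (nat_lit 18237), Mv.f (nat_lit 19577), Mv.f (nat_lit 20180)])))
(Tr.nd (nat_lit 20183) (Tr.lf (Fc.ed (nat_lit 20182) (nat_lit 4465) Col.c (nat_lit 7298) Dv.df))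
(Tr.lf (Fc.ed (nat_lit 20183) (nat_lit 7194) Col.gi (nat_lit 7299) Dv.df)))))))
(Tr.nd (nat_lit 20194) (Tr.nd (nat_lit 20189) (Tr.nd (nat_lit 20186) (Tr.nd (nat_lit 20185) (Tr.lf (Fc.ed (nat_lit 20184) (nat_lit 7299) Col.b (nat_lit 6864) (Dv.wd (nat_lit 154) [Mv.f (nat_lit 19124), Mv.f (nat_lit 15922), Mv.f (nat_lit 17780), Mv.f (nat_lit 19306), Mv.f (nat_lit 6706), Mv.f (nat_lit 12720), Mv.b (nat_lit 13063), Mv.f (nat_lit 19492), Mv.b (nat_lit 19774), Mv.f (nat_lit 20183)])))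
(Tr.lf (Fc.ed (nat_lit 20185) (nat_lit 6719) Col.e (nat_lit 7299) (Dv.wd (nat_lit 82) [Mv.f (nat_lit 20184), Mv.b (nat_lit 19127), Mv.b (nat_lit 20042)]))))
(Tr.nd (nat_lit 20187) (Tr.lf (Fc.ed (nat_lit 20186) (nat_lit 7233) Col.a (nat_lit 7299) (Dv.wd (nat_lit 167) [Mv.f (nat_lit 20184), Mv.f (nat_lit 19126), Mv.b (nat_lit 19394), Mv.f (nat_lit 11171), Mv.f (nat_lit 19892)])))
(Tr.nd (nat_lit 20188) (Tr.lf (Fc.ed (nat_lit 20187) (nat_lit 7299) Col.gi (nat_lit 7221) (Dv.wd (nat_lit 12) [Mv.b (nat_lit 19846), Mv.b (nat_lit 19893), Mv.f (nat_lit 20186)])))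
(Tr.lf (Fc.ed (nat_lit 20188) (nat_lit 6918) Col.c (nat_lit 7300) Dv.df)))))
(Tr.nd (nat_lit 20191) (Tr.nd (nat_lit 20190) (Tr.lf (Fc.ed (nat_lit 20189) (nat_lit 3708) Col.c (nat_lit 7301) Dv.df))
(Tr.lf (Fc.ed (nat_lit 20190) (nat_lit 7126) Col.g (nat_lit 7302) Dv.df)))
(Tr.nd (nat_lit 20192) (Tr.lf (Fc.ed (nat_lit 20191) (nat_lit 7264) Col.gi (nat_lit 7303) Dv.df))
(Tr.nd (nat_lit 20193) (Tr.lf (Fc.ed (nat_lit 20192) (nat_lit 7266) Col.f (nat_lit 7304) Dv.df))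
(Tr.lf (Fc.ed (nat_lit 20193) (nat_lit 7304) Col.g (nat_lit 4939) (Dv.wd (nat_lit 17) [Mv.f (nat_lit 19324), Mv.f (nat_lit 20072), Mv.f (nat_lit 20192)])))))))
(Tr.nd (nat_lit 20199) (Tr.nd (nat_lit 20196) (Tr.nd (nat_lit 20195) (Tr.lf (Fc.ed (nat_lit 20194) (nat_lit 6113) Col.d (nat_lit 7305) Dv.df))
(Tr.lf (Fc.ed (nat_lit 20195) (nat_lit 7305) Col.a (nat_lit 7267) (Dv.wd (nat_lit 8) [Mv.f (nat_lit 20074), Mv.b (nat_lit 15367), Mv.f (nat_lit 20194)]))))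
(Tr.nd (nat_lit 20197) (Tr.lf (Fc.ed (nat_lit 20196) (nat_lit 7281) Col.f (nat_lit 7306) Dv.df))
(Tr.nd (nat_lit 20198) (Tr.lf (Fc.ed (nat_lit 20197) (nat_lit 7183) Col.a (nat_lit 7307) Dv.df))
(Tr.lf (Fc.ed (nat_lit 20198) (nat_lit 7307) Col.f (nat_lit 7294) (Dv.wd (nat_lit 35) [Mv.f (nat_lit 20175), Mv.f (nat_lit 20157), Mv.f (nat_lit 20197)]))))))
(Tr.nd (nat_lit 20202) (Tr.nd (nat_lit 20200) (Tr.lf (Fc.ed (nat_lit 20199) (nat_lit 6292) Col.f (nat_lit 7308) Dv.df))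
(Tr.nd (nat_lit 20201) (Tr.lf (Fc.ed (nat_lit 20200) (nat_lit 7308) Col.a (nat_lit 5699) (Dv.wd (nat_lit 16) [Mv.f (nat_lit 17684), Mv.f (nat_lit 17685), Mv.f (nat_lit 20199)])))
(Tr.lf (Fc.ed (nat_lit 20201) (nat_lit 7308) Col.c (nat_lit 7167) (Dv.wd (nat_lit 34) [Mv.b (nat_lit 19715), Mv.b (nat_lit 16828), Mv.f (nat_lit 20199)])))))
(Tr.nd (nat_lit 20203) (Tr.lf (Fc.ed (nat_lit 20202) (nat_lit 7289) Col.gi (nat_lit 7309) Dv.df))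
(Tr.nd (nat_lit 20204) (Tr.lf (Fc.ed (nat_lit 20203) (nat_lit 7309) Col.d (nat_lit 6772) (Dv.wd (nat_lit 48) [Mv.f (nat_lit 19980), Mv.f (nat_lit 19882), Mv.f (nat_lit 19967), Mv.f (nat_lit 19579), Mv.f (nat_lit 19950), Mv.f (nat_lit 18016), Mv.f (nat_lit 18220), Mv.f (nat_lit 20165), Mv.f (nat_lit 20202)])))
(Tr.lf (Fc.ed (nat_lit 20204) (nat_lit 7141) Col.g (nat_lit 7310) Dv.df))))))))))
(Tr.nd (nat_lit 20287) (Tr.nd (nat_lit 20246) (Tr.nd (nat_lit 20225) (Tr.nd (nat_lit 20215) (Tr.nd (nat_lit 20210) (Tr.nd (nat_lit 20207) (Tr.nd (nat_lit 20206) (Tr.lf (Fc.ed (nat_lit 20205) (nat_lit 7310) Col.d (nat_lit 7304) (Dv.wd (nat_lit 51) [Mv.f (nat_lit 20193), Mv.b (nat_lit 12837), Mv.b (nat_lit 11927), Mv.f (nat_lit 16662), Mv.f (nat_lit 19197), Mv.b (nat_lit 17809), Mv.f (nat_lit 17712), Mv.f (nat_lit 19665), Mv.f (nat_lit 20204)])))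
(Tr.lf (Fc.ed (nat_lit 20206) (nat_lit 7181) Col.gi (nat_lit 7311) Dv.df)))
(Tr.nd (nat_lit 20208) (Tr.lf (Fc.ed (nat_lit 20207) (nat_lit 7311) Col.e (nat_lit 6011) (Dv.wd (nat_lit 146) [Mv.f (nat_lit 19206), Mv.f (nat_lit 15765), Mv.f (nat_lit 15198), Mv.b (nat_lit 15022), Mv.f (nat_lit 19244), Mv.b (nat_lit 11782), Mv.f (nat_lit 12479), Mv.b (nat_lit 19800), Mv.b (nat_lit 19798), Mv.f (nat_lit 20206)])))
(Tr.nd (nat_lit 20209) (Tr.lf (Fc.ed (nat_lit 20208) (nat_lit 7238) Col.b (nat_lit 7311) (Dv.wd (nat_lit 127) [Mv.f (nat_lit 20207), Mv.f (nat_lit 19216), Mv.b (nat_lit 19903)])))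
(Tr.lf (Fc.ed (nat_lit 20209) (nat_lit 5904) Col.b (nat_lit 7312) Dv.df)))))
(Tr.nd (nat_lit 20212) (Tr.nd (nat_lit 20211) (Tr.lf (Fc.ed (nat_lit 20210) (nat_lit 7260) Col.d (nat_lit 7313) Dv.df))
(Tr.lf (Fc.ed (nat_lit 20211) (nat_lit 7313) Col.c (nat_lit 7257) (Dv.wd (nat_lit 80) [Mv.f (nat_lit 20055), Mv.b (nat_lit 19740), Mv.f (nat_lit 19739), Mv.b (nat_lit 19861), Mv.f (nat_lit 19862), Mv.b (nat_lit 19860), Mv.b (nat_lit 19863), Mv.f (nat_lit 20060), Mv.f (nat_lit 20210)]))))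
(Tr.nd (nat_lit 20213) (Tr.lf (Fc.ed (nat_lit 20212) (nat_lit 7022) Col.d (nat_lit 7314) Dv.df))
(Tr.nd (nat_lit 20214) (Tr.lf (Fc.ed (nat_lit 20213) (nat_lit 7314) Col.f (nat_lit 7028) (Dv.wd (nat_lit 11) [Mv.f (nat_lit 18186), Mv.f (nat_lit 19802), Mv.f (nat_lit 20212)])))
(Tr.lf (Fc.ed (nat_lit 20214) (nat_lit 7314) Col.e (nat_lit 7141) (Dv.wd (nat_lit 131) [Mv.f (nat_lit 20204), Mv.f (nat_lit 20205), Mv.f (nat_lit 20193), Mv.b (nat_lit 12837), Mv.b (nat_lit 10777), Mv.b (nat_lit 19242), Mv.b (nat_lit 11782), Mv.f (nat_lit 12479), Mv.b (nat_lit 18175), Mv.f (nat_lit 20212)])))))))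
(Tr.nd (nat_lit 20220) (Tr.nd (nat_lit 20217) (Tr.nd (nat_lit 20216) (Tr.lf (Fc.ed (nat_lit 20215) (nat_lit 7291) Col.c (nat_lit 7314) (Dv.wd (nat_lit 109) [Mv.f (nat_lit 20214), Mv.b (nat_lit 19665), Mv.f (nat_lit 20169)])))
(Tr.lf (Fc.ed (nat_lit 20216) (nat_lit 7222) Col.f (nat_lit 7315) Dv.df)))
(Tr.nd (nat_lit 20218) (Tr.lf (Fc.ed (nat_lit 20217) (nat_lit 7315) Col.d (nat_lit 5332) (Dv.wd (nat_lit 21) [Mv.f (nat_lit 19531), Mv.f (nat_lit 19848), Mv.f (nat_lit 20216)])))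
(Tr.nd (nat_lit 20219) (Tr.lf (Fc.ed (nat_lit 20218) (nat_lit 7315) Col.g (nat_lit 7006) (Dv.wd (nat_lit 17) [Mv.b (nat_lit 19422), Mv.b (nat_lit 19849), Mv.f (nat_lit 20216)])))
(Tr.lf (Fc.ed (nat_lit 20219) (nat_lit 6330) Col.g (nat_lit 7315) (Dv.wd (nat_lit 17) [Mv.f (nat_lit 20218), Mv.b (nat_lit 18146), Mv.f (nat_lit 17556)]))))))
(Tr.nd (nat_lit 20222) (Tr.nd (nat_lit 20221) (Tr.lf (Fc.ed (nat_lit 20220) (nat_lit 7230) Col.b (nat_lit 7316) Dv.df))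
(Tr.lf (Fc.ed (nat_lit 20221) (nat_lit 7252) Col.c (nat_lit 7317) Dv.df)))
(Tr.nd (nat_lit 20223) (Tr.lf (Fc.ed (nat_lit 20222) (nat_lit 6535) Col.d (nat_lit 7318) Dv.df))
(Tr.nd (nat_lit 20224) (Tr.lf (Fc.ed (nat_lit 20223) (nat_lit 7318) Col.b (nat_lit 7234) (Dv.wd (nat_lit 37) [Mv.b (nat_lit 19895), Mv.b (nat_lit 19309), Mv.f (nat_lit 20222)])))
(Tr.lf (Fc.ed (nat_lit 20224) (nat_lit 7200) Col.a (nat_lit 7319) Dv.df)))))))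
(Tr.nd (nat_lit 20235) (Tr.nd (nat_lit 20230) (Tr.nd (nat_lit 20227) (Tr.nd (nat_lit 20226) (Tr.lf (Fc.ed (nat_lit 20225) (nat_lit 7319) Col.b (nat_lit 7180) (Dv.wd (nat_lit 65) [Mv.b (nat_lit 19743), Mv.f (nat_lit 19460), Mv.b (nat_lit 19425), Mv.f (nat_lit 19784), Mv.f (nat_lit 20224)])))
(Tr.lf (Fc.ed (nat_lit 20226) (nat_lit 7280) Col.b (nat_lit 7320) Dv.df)))
(Tr.nd (nat_lit 20228) (Tr.lf (Fc.ed (nat_lit 20227) (nat_lit 7320) Col.d (nat_lit 7290) (Dv.wd (nat_lit 58) [Mv.f (nat_lit 20167), Mv.b (nat_lit 20126), Mv.f (nat_lit 20226)])))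
(Tr.nd (nat_lit 20229) (Tr.lf (Fc.ed (nat_lit 20228) (nat_lit 7320) Col.g (nat_lit 7250) (Dv.wd (nat_lit 122) [Mv.b (nat_lit 20020), Mv.b (nat_lit 19595), Mv.b (nat_lit 19596), Mv.f (nat_lit 17672), Mv.b (nat_lit 19599), Mv.f (nat_lit 10966), Mv.f (nat_lit 12611), Mv.b (nat_lit 18053), Mv.f (nat_lit 20125), Mv.f (nat_lit 20226)])))
(Tr.lf (Fc.ed (nat_lit 20229) (nat_lit 4732) Col.e (nat_lit 7290) (Dv.wd (nat_lit 47) [Mv.b (nat_lit 20227), Mv.f (nat_lit 20228), Mv.f (nat_lit 20021), Mv.b (nat_lit 20016), Mv.b (nat_lit 20132), Mv.f (nat_lit 19437), Mv.f (nat_lit 18224), Mv.b (nat_lit 13599), Mv.f (nat_lit 11778), Mv.f (nat_lit 11932)]))))))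
(Tr.nd (nat_lit 20232) (Tr.nd (nat_lit 20231) (Tr.lf (Fc.ed (nat_lit 20230) (nat_lit 7122) Col.e (nat_lit 4935) (Dv.wd (nat_lit 56) [Mv.b (nat_lit 19623), Mv.f (nat_lit 20229), Mv.b (nat_lit 20168)])))
(Tr.lf (Fc.ed (nat_lit 20231) (nat_lit 7298) Col.b (nat_lit 7321) Dv.df)))
(Tr.nd (nat_lit 20233) (Tr.lf (Fc.ed (nat_lit 20232) (nat_lit 7321) Col.c (nat_lit 5104) (Dv.wd (nat_lit 93) [Mv.b (nat_lit 13215), Mv.b (nat_lit 6685), Mv.b (nat_lit 11439), Mv.f (nat_lit 20182), Mv.f (nat_lit 20231)])))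
(Tr.nd (nat_lit 20234) (Tr.lf (Fc.ed (nat_lit 20233) (nat_lit 7301) Col.gi (nat_lit 7322) Dv.df))
(Tr.lf (Fc.ed (nat_lit 20234) (nat_lit 7322) Col.c (nat_lit 7254) (Dv.wd (nat_lit 81) [Mv.b (nat_lit 20050), Mv.f (nat_lit 19897), Mv.b (nat_lit 19402), Mv.b (nat_lit 14635), Mv.b (nat_lit 14233), Mv.f (nat_lit 7104), Mv.b (nat_lit 9261), Mv.f (nat_lit 20189), Mv.f (nat_lit 20233)])))))))
(Tr.nd (nat_lit 20240) (Tr.nd (nat_lit 20237) (Tr.nd (nat_lit 20236) (Tr.lf (Fc.ed (nat_lit 20235) (nat_lit 7254) Col.b (nat_lit 6727) (Dv.wd (nat_lit 101) [Mv.b (nat_lit 17569), Mv.f (nat_lit 12557), Mv.f (nat_lit 6129), Mv.b (nat_lit 6314), Mv.b (nat_lit 6741), Mv.f (nat_lit 6742), Mv.f (nat_lit 9260), Mv.f (nat_lit 20189), Mv.f (nat_lit 20233), Mv.f (nat_lit 20234)])))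
(Tr.lf (Fc.ed (nat_lit 20236) (nat_lit 7194) Col.d (nat_lit 7254) (Dv.wd (nat_lit 116) [Mv.f (nat_lit 20235), Mv.b (nat_lit 20049), Mv.f (nat_lit 19773)]))))
(Tr.nd (nat_lit 20238) (Tr.lf (Fc.ed (nat_lit 20237) (nat_lit 6275) Col.d (nat_lit 7085) (Dv.wd (nat_lit 85) [Mv.b (nat_lit 19774), Mv.f (nat_lit 20236), Mv.b (nat_lit 20050), Mv.f (nat_lit 19897), Mv.f (nat_lit 19548), Mv.f (nat_lit 20150), Mv.f (nat_lit 17030), Mv.f (nat_lit 14544), Mv.f (nat_lit 15669)])))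
(Tr.nd (nat_lit 20239) (Tr.lf (Fc.ed (nat_lit 20238) (nat_lit 7002) Col.d (nat_lit 6736) (Dv.wd (nat_lit 51) [Mv.f (nat_lit 17587), Mv.f (nat_lit 9261), Mv.b (nat_lit 7104), Mv.b (nat_lit 10850), Mv.b (nat_lit 15670), Mv.f (nat_lit 20237), Mv.f (nat_lit 19493), Mv.b (nat_lit 13498), Mv.f (nat_lit 18135)])))
(Tr.lf (Fc.al (nat_lit 20239) (nat_lit 6886) (nat_lit 5820) (Dv.wd (nat_lit 90) [Mv.f (nat_lit 20046), Mv.b (nat_lit 19719), Mv.f (nat_lit 20238), Mv.f (nat_lit 17918)]))))))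
(Tr.nd (nat_lit 20243) (Tr.nd (nat_lit 20241) (Tr.lf (Fc.al (nat_lit 20240) (nat_lit 7036) (nat_lit 5862) (Dv.wd (nat_lit 29) [Mv.b (nat_lit 17919), Mv.f (nat_lit 20239), Mv.b (nat_lit 18199)])))
(Tr.nd (nat_lit 20242) (Tr.lf (Fc.ed (nat_lit 20241) (nat_lit 5862) Col.d (nat_lit 7112) (Dv.wd (nat_lit 120) [Mv.f (nat_lit 20047), Mv.f (nat_lit 20240)])))
(Tr.lf (Fc.ed (nat_lit 20242) (nat_lit 7171) Col.d (nat_lit 6502) (Dv.wd (nat_lit 51) [Mv.b (nat_lit 16826), Mv.b (nat_lit 14544), Mv.f (nat_lit 13889), Mv.f (nat_lit 14141), Mv.f (nat_lit 14850), Mv.f (nat_lit 20241), Mv.b (nat_lit 19572), Mv.b (nat_lit 13063), Mv.f (nat_lit 19725)])))))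
(Tr.nd (nat_lit 20244) (Tr.lf (Fc.ed (nat_lit 20243) (nat_lit 7112) Col.e (nat_lit 7302) (Dv.wd (nat_lit 74) [Mv.b (nat_lit 20190), Mv.f (nat_lit 19631), Mv.b (nat_lit 11979), Mv.b (nat_lit 11986), Mv.f (nat_lit 11528), Mv.f (nat_lit 11983), Mv.f (nat_lit 19187), Mv.f (nat_lit 14141), Mv.f (nat_lit 14850), Mv.f (nat_lit 20241)])))
(Tr.nd (nat_lit 20245) (Tr.lf (Fc.ed (nat_lit 20244) (nat_lit 7277) Col.d (nat_lit 7221) (Dv.wd (nat_lit 85) [Mv.f (nat_lit 19847), Mv.f (nat_lit 20242), Mv.f (nat_lit 16827), Mv.f (nat_lit 10850), Mv.f (nat_lit 14233), Mv.f (nat_lit 14635), Mv.f (nat_lit 19401), Mv.b (nat_lit 19412), Mv.f (nat_lit 20120)])))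
(Tr.lf (Fc.ed (nat_lit 20245) (nat_lit 7285) Col.c (nat_lit 7323) Dv.df))))))))
(Tr.nd (nat_lit 20266) (Tr.nd (nat_lit 20256) (Tr.nd (nat_lit 20251) (Tr.nd (nat_lit 20248) (Tr.nd (nat_lit 20247) (Tr.lf (Fc.ed (nat_lit 20246) (nat_lit 7323) Col.gi (nat_lit 7154) (Dv.wd (nat_lit 78) [Mv.f (nat_lit 19688), Mv.b (nat_lit 17570), Mv.b (nat_lit 20049), Mv.f (nat_lit 18211), Mv.b (nat_lit 14625), Mv.f (nat_lit 19806), Mv.f (nat_lit 19805), Mv.b (nat_lit 20155), Mv.f (nat_lit 20245)])))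
(Tr.lf (Fc.ed (nat_lit 20247) (nat_lit 7313) Col.b (nat_lit 7324) Dv.df)))
(Tr.nd (nat_lit 20249) (Tr.lf (Fc.ed (nat_lit 20248) (nat_lit 7324) Col.c (nat_lit 7269) (Dv.wd (nat_lit 93) [Mv.b (nat_lit 20077), Mv.b (nat_lit 20138), Mv.b (nat_lit 20136), Mv.b (nat_lit 20211), Mv.f (nat_lit 20247)])))
(Tr.nd (nat_lit 20250) (Tr.lf (Fc.ed (nat_lit 20249) (nat_lit 7300) Col.d (nat_lit 7325) Dv.df))
(Tr.lf (Fc.ed (nat_lit 20250) (nat_lit 7325) Col.c (nat_lit 7117) (Dv.wd (nat_lit 80) [Mv.f (nat_lit 19582), Mv.b (nat_lit 18845), Mv.f (nat_lit 12897), Mv.b (nat_lit 18713), Mv.f (nat_lit 17784), Mv.b (nat_lit 18781), Mv.b (nat_lit 18862), Mv.f (nat_lit 20188), Mv.f (nat_lit 20249)]))))))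
(Tr.nd (nat_lit 20253) (Tr.nd (nat_lit 20252) (Tr.lf (Fc.ed (nat_lit 20251) (nat_lit 7312) Col.c (nat_lit 7326) Dv.df))
(Tr.lf (Fc.ed (nat_lit 20252) (nat_lit 7268) Col.g (nat_lit 7327) Dv.df)))
(Tr.nd (nat_lit 20254) (Tr.lf (Fc.ed (nat_lit 20253) (nat_lit 7327) Col.g (nat_lit 7160) (Dv.wd (nat_lit 9) [Mv.f (nat_lit 19701), Mv.b (nat_lit 20076), Mv.f (nat_lit 20252)])))
(Tr.nd (nat_lit 20255) (Tr.lf (Fc.ed (nat_lit 20254) (nat_lit 7327) Col.d (nat_lit 7219) (Dv.wd (nat_lit 85) [Mv.b (nat_lit 19840), Mv.b (nat_lit 20241), Mv.f (nat_lit 14851), Mv.f (nat_lit 9261), Mv.f (nat_lit 15217), Mv.f (nat_lit 15443), Mv.f (nat_lit 19292), Mv.f (nat_lit 20075), Mv.f (nat_lit 20252)])))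
(Tr.lf (Fc.ed (nat_lit 20255) (nat_lit 7245) Col.d (nat_lit 7328) Dv.df))))))
(Tr.nd (nat_lit 20261) (Tr.nd (nat_lit 20258) (Tr.nd (nat_lit 20257) (Tr.lf (Fc.ed (nat_lit 20256) (nat_lit 7328) Col.f (nat_lit 5946) (Dv.wd (nat_lit 11) [Mv.b (nat_lit 19649), Mv.f (nat_lit 19914), Mv.f (nat_lit 20255)])))
(Tr.lf (Fc.ed (nat_lit 20257) (nat_lit 7291) Col.g (nat_lit 7329) Dv.df)))
(Tr.nd (nat_lit 20259) (Tr.lf (Fc.ed (nat_lit 20258) (nat_lit 7329) Col.e (nat_lit 6408) (Dv.wd (nat_lit 47) [Mv.b (nat_lit 18061), Mv.b (nat_lit 14396), Mv.b (nat_lit 8823), Mv.b (nat_lit 8694), Mv.f (nat_lit 15627), Mv.f (nat_lit 19190), Mv.b (nat_lit 17991), Mv.b (nat_lit 17795), Mv.f (nat_lit 20169), Mv.f (nat_lit 20257)])))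
(Tr.nd (nat_lit 20260) (Tr.lf (Fc.ed (nat_lit 20259) (nat_lit 6546) Col.e (nat_lit 7330) Dv.df))
(Tr.lf (Fc.ed (nat_lit 20260) (nat_lit 7028) Col.c (nat_lit 7331) Dv.df)))))
(Tr.nd (nat_lit 20263) (Tr.nd (nat_lit 20262) (Tr.lf (Fc.ed (nat_lit 20261) (nat_lit 7331) Col.f (nat_lit 7291) (Dv.wd (nat_lit 26) [Mv.f (nat_lit 20215), Mv.f (nat_lit 20213), Mv.f (nat_lit 20260)])))
(Tr.lf (Fc.ed (nat_lit 20262) (nat_lit 6661) Col.e (nat_lit 7332) Dv.df)))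
(Tr.nd (nat_lit 20264) (Tr.lf (Fc.ed (nat_lit 20263) (nat_lit 7332) Col.a (nat_lit 7093) (Dv.wd (nat_lit 15) [Mv.f (nat_lit 19516), Mv.b (nat_lit 17380), Mv.f (nat_lit 20262)])))
(Tr.nd (nat_lit 20265) (Tr.lf (Fc.ed (nat_lit 20264) (nat_lit 6264) Col.e (nat_lit 7333) Dv.df))
(Tr.lf (Fc.ed (nat_lit 20265) (nat_lit 7333) Col.b (nat_lit 7149) (Dv.wd (nat_lit 49) [Mv.f (nat_lit 19680), Mv.b (nat_lit 17821), Mv.f (nat_lit 20264)]))))))))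
(Tr.nd (nat_lit 20276) (Tr.nd (nat_lit 20271) (Tr.nd (nat_lit 20268) (Tr.nd (nat_lit 20267) (Tr.lf (Fc.ed (nat_lit 20266) (nat_lit 7333) Col.c (nat_lit 6410) (Dv.wd (nat_lit 18) [Mv.f (nat_lit 19162), Mv.f (nat_lit 15649), Mv.f (nat_lit 20264)])))
(Tr.lf (Fc.ed (nat_lit 20267) (nat_lit 5996) Col.f (nat_lit 7334) Dv.df)))
(Tr.nd (nat_lit 20269) (Tr.lf (Fc.ed (nat_lit 20268) (nat_lit 7069) Col.c (nat_lit 7335) Dv.df))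
(Tr.nd (nat_lit 20270) (Tr.lf (Fc.ed (nat_lit 20269) (nat_lit 7295) Col.b (nat_lit 7336) Dv.df))
(Tr.lf (Fc.ed (nat_lit 20270) (nat_lit 4501) Col.b (nat_lit 7337) Dv.df)))))
(Tr.nd (nat_lit 20273) (Tr.nd (nat_lit 20272) (Tr.lf (Fc.ed (nat_lit 20271) (nat_lit 7337) Col.d (nat_lit 7122) (Dv.wd (nat_lit 58) [Mv.b (nat_lit 19592), Mv.b (nat_lit 18006), Mv.f (nat_lit 20270)])))
(Tr.lf (Fc.ed (nat_lit 20272) (nat_lit 7271) Col.gi (nat_lit 7337) (Dv.wd (nat_lit 111) [Mv.f (nat_lit 20271), Mv.b (nat_lit 19642), Mv.f (nat_lit 17389), Mv.b (nat_lit 19311), Mv.f (nat_lit 15837), Mv.f (nat_lit 20219), Mv.f (nat_lit 20217), Mv.f (nat_lit 19523), Mv.b (nat_lit 20081)]))))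
(Tr.nd (nat_lit 20274) (Tr.lf (Fc.ed (nat_lit 20273) (nat_lit 3727) Col.c (nat_lit 7338) Dv.df))
(Tr.nd (nat_lit 20275) (Tr.lf (Fc.ed (nat_lit 20274) (nat_lit 6975) Col.b (nat_lit 7339) Dv.df))
(Tr.lf (Fc.ed (nat_lit 20275) (nat_lit 6975) Col.gi (nat_lit 7340) Dv.df))))))
(Tr.nd (nat_lit 20281) (Tr.nd (nat_lit 20278) (Tr.nd (nat_lit 20277) (Tr.lf (Fc.ed (nat_lit 20276) (nat_lit 7340) Col.e (nat_lit 7096) (Dv.wd (nat_lit 146) [Mv.b (nat_lit 20081), Mv.f (nat_lit 20272), Mv.f (nat_lit 20271), Mv.f (nat_lit 20230), Mv.b (nat_lit 12828), Mv.f (nat_lit 7450), Mv.b (nat_lit 12597), Mv.b (nat_lit 17801), Mv.f (nat_lit 18088), Mv.f (nat_lit 20275)])))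
(Tr.lf (Fc.ed (nat_lit 20277) (nat_lit 7261) Col.f (nat_lit 7341) Dv.df)))
(Tr.nd (nat_lit 20279) (Tr.lf (Fc.ed (nat_lit 20278) (nat_lit 7341) Col.d (nat_lit 7293) (Dv.wd (nat_lit 21) [Mv.f (nat_lit 20173), Mv.f (nat_lit 20061), Mv.f (nat_lit 20277)])))
(Tr.nd (nat_lit 20280) (Tr.lf (Fc.ed (nat_lit 20279) (nat_lit 7306) Col.e (nat_lit 7342) Dv.df))
(Tr.lf (Fc.ed (nat_lit 20280) (nat_lit 7342) Col.f (nat_lit 6323) (Dv.wd (nat_lit 96) [Mv.b (nat_lit 15823), Mv.f (nat_lit 15606), Mv.f (nat_lit 20129), Mv.f (nat_lit 20196), Mv.f (nat_lit 20279)]))))))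
(Tr.nd (nat_lit 20284) (Tr.nd (nat_lit 20282) (Tr.lf (Fc.ed (nat_lit 20281) (nat_lit 7341) Col.c (nat_lit 7343) Dv.df))
(Tr.nd (nat_lit 20283) (Tr.lf (Fc.ed (nat_lit 20282) (nat_lit 7343) Col.f (nat_lit 7246) (Dv.wd (nat_lit 26) [Mv.b (nat_lit 20062), Mv.f (nat_lit 20277), Mv.f (nat_lit 20281)])))
(Tr.lf (Fc.ed (nat_lit 20283) (nat_lit 7343) Col.d (nat_lit 5281) (Dv.wd (nat_lit 95) [Mv.b (nat_lit 13593), Mv.b (nat_lit 3874), Mv.b (nat_lit 3345), Mv.f (nat_lit 3962), Mv.b (nat_lit 6065), Mv.f (nat_lit 7003), Mv.f (nat_lit 20172), Mv.b (nat_lit 20278), Mv.f (nat_lit 20281)])))))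
(Tr.nd (nat_lit 20285) (Tr.lf (Fc.ed (nat_lit 20284) (nat_lit 6380) Col.b (nat_lit 7344) Dv.df))
(Tr.nd (nat_lit 20286) (Tr.lf (Fc.ed (nat_lit 20285) (nat_lit 7344) Col.c (nat_lit 7181) (Dv.wd (nat_lit 93) [Mv.b (nat_lit 19745), Mv.f (nat_lit 14488), Mv.f (nat_lit 14491), Mv.f (nat_lit 18700), Mv.f (nat_lit 20284)])))
(Tr.lf (Fc.ed (nat_lit 20286) (nat_lit 7331) Col.a (nat_lit 7344) (Dv.wd (nat_lit 76) [Mv.f (nat_lit 20285), Mv.b (nat_lit 19747), Mv.f (nat_lit 20260)]))))))))))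
(Tr.nd (nat_lit 20328) (Tr.nd (nat_lit 20307) (Tr.nd (nat_lit 20297) (Tr.nd (nat_lit 20292) (Tr.nd (nat_lit 20289) (Tr.nd (nat_lit 20288) (Tr.lf (Fc.ed (nat_lit 20287) (nat_lit 7344) Col.gi (nat_lit 7329) (Dv.wd (nat_lit 12) [Mv.b (nat_lit 20257), Mv.b (nat_lit 20261), Mv.f (nat_lit 20286)])))
(Tr.lf (Fc.ed (nat_lit 20288) (nat_lit 7020) Col.g (nat_lit 7345) Dv.df)))
(Tr.nd (nat_lit 20290) (Tr.lf (Fc.ed (nat_lit 20289) (nat_lit 5946) Col.g (nat_lit 7346) Dv.df))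
(Tr.nd (nat_lit 20291) (Tr.lf (Fc.ed (nat_lit 20290) (nat_lit 7346) Col.d (nat_lit 7224) (Dv.wd (nat_lit 85) [Mv.f (nat_lit 19869), Mv.f (nat_lit 16705), Mv.f (nat_lit 16707), Mv.f (nat_lit 16686), Mv.f (nat_lit 20092), Mv.f (nat_lit 19571), Mv.b (nat_lit 20107), Mv.f (nat_lit 19649), Mv.f (nat_lit 20289)])))
(Tr.lf (Fc.ed (nat_lit 20291) (nat_lit 6611) Col.g (nat_lit 7347) Dv.df)))))
(Tr.nd (nat_lit 20294) (Tr.nd (nat_lit 20293) (Tr.lf (Fc.ed (nat_lit 20292) (nat_lit 7347) Col.g (nat_lit 4572) (Dv.wd (nat_lit 9) [Mv.f (nat_lit 17196), Mv.b (nat_lit 17219), Mv.f (nat_lit 20291)])))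
(Tr.lf (Fc.ed (nat_lit 20293) (nat_lit 6114) Col.d (nat_lit 7348) Dv.df)))
(Tr.nd (nat_lit 20295) (Tr.lf (Fc.ed (nat_lit 20294) (nat_lit 6411) Col.d (nat_lit 7349) Dv.df))
(Tr.nd (nat_lit 20296) (Tr.lf (Fc.ed (nat_lit 20295) (nat_lit 7349) Col.g (nat_lit 7318) (Dv.wd (nat_lit 69) [Mv.b (nat_lit 20222), Mv.b (nat_lit 18601), Mv.b (nat_lit 19362), Mv.f (nat_lit 19491), Mv.b (nat_lit 14046), Mv.f (nat_lit 18779), Mv.f (nat_lit 11568), Mv.f (nat_lit 18872), Mv.f (nat_lit 20294)])))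
(Tr.lf (Fc.ed (nat_lit 20296) (nat_lit 7346) Col.g (nat_lit 7350) Dv.df))))))
(Tr.nd (nat_lit 20302) (Tr.nd (nat_lit 20299) (Tr.nd (nat_lit 20298) (Tr.lf (Fc.ed (nat_lit 20297) (nat_lit 7350) Col.a (nat_lit 7328) (Dv.wd (nat_lit 114) [Mv.f (nat_lit 20256), Mv.f (nat_lit 20289), Mv.f (nat_lit 20296)])))
(Tr.lf (Fc.ed (nat_lit 20298) (nat_lit 7350) Col.d (nat_lit 7065) (Dv.wd (nat_lit 85) [Mv.b (nat_lit 19427), Mv.b (nat_lit 17250), Mv.b (nat_lit 10762), Mv.f (nat_lit 7162), Mv.f (nat_lit 10808), Mv.b (nat_lit 19674), Mv.f (nat_lit 19868), Mv.b (nat_lit 20290), Mv.f (nat_lit 20296)]))))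
(Tr.nd (nat_lit 20300) (Tr.lf (Fc.ed (nat_lit 20299) (nat_lit 7020) Col.f (nat_lit 7350) (Dv.wd (nat_lit 86) [Mv.f (nat_lit 20298), Mv.f (nat_lit 19791), Mv.b (nat_lit 19795)])))
(Tr.nd (nat_lit 20301) (Tr.lf (Fc.ed (nat_lit 20300) (nat_lit 7328) Col.gi (nat_lit 7345) (Dv.wd (nat_lit 12) [Mv.b (nat_lit 20288), Mv.f (nat_lit 20299), Mv.f (nat_lit 20297)])))
(Tr.lf (Fc.ed (nat_lit 20301) (nat_lit 7345) Col.d (nat_lit 7123) (Dv.wd (nat_lit 48) [Mv.f (nat_lit 19872), Mv.f (nat_lit 18102), Mv.f (nat_lit 10918), Mv.b (nat_lit 6411), Mv.b (nat_lit 9532), Mv.f (nat_lit 17315), Mv.b (nat_lit 19916), Mv.f (nat_lit 20255), Mv.f (nat_lit 20300)]))))))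
(Tr.nd (nat_lit 20304) (Tr.nd (nat_lit 20303) (Tr.lf (Fc.ed (nat_lit 20302) (nat_lit 7121) Col.c (nat_lit 7255) (Dv.wd (nat_lit 14) [Mv.f (nat_lit 20052), Mv.b (nat_lit 19795), Mv.f (nat_lit 20288), Mv.f (nat_lit 20301), Mv.b (nat_lit 19593), Mv.b (nat_lit 17898), Mv.b (nat_lit 17721), Mv.b (nat_lit 17246), Mv.b (nat_lit 19591)])))
(Tr.lf (Fc.ed (nat_lit 20303) (nat_lit 3895) Col.b (nat_lit 7121) (Dv.wd (nat_lit 168) [Mv.f (nat_lit 20302), Mv.b (nat_lit 20051), Mv.f (nat_lit 19916), Mv.b (nat_lit 17766), Mv.b (nat_lit 12683), Mv.b (nat_lit 6212), Mv.f (nat_lit 6211), Mv.f (nat_lit 2092), Mv.f (nat_lit 4731), Mv.b (nat_lit 9586)]))))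
(Tr.nd (nat_lit 20305) (Tr.lf (Fc.ed (nat_lit 20304) (nat_lit 7121) Col.d (nat_lit 7029) (Dv.wd (nat_lit 58) [Mv.b (nat_lit 18187), Mv.b (nat_lit 10832), Mv.f (nat_lit 20303)])))
(Tr.nd (nat_lit 20306) (Tr.lf (Fc.ed (nat_lit 20305) (nat_lit 5996) Col.c (nat_lit 7351) Dv.df))
(Tr.lf (Fc.ed (nat_lit 20306) (nat_lit 7242) Col.d (nat_lit 7352) Dv.df)))))))
(Tr.nd (nat_lit 20317) (Tr.nd (nat_lit 20312) (Tr.nd (nat_lit 20309) (Tr.nd (nat_lit 20308) (Tr.lf (Fc.ed (nat_lit 20307) (nat_lit 6938) Col.gi (nat_lit 7353) Dv.df))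
(Tr.lf (Fc.ed (nat_lit 20308) (nat_lit 7353) Col.gi (nat_lit 5352) (Dv.wd (nat_lit 24) [Mv.f (nat_lit 19585), Mv.f (nat_lit 19586), Mv.f (nat_lit 20307)]))))
(Tr.nd (nat_lit 20310) (Tr.lf (Fc.ed (nat_lit 20309) (nat_lit 7303) Col.gi (nat_lit 7354) Dv.df))
(Tr.nd (nat_lit 20311) (Tr.lf (Fc.ed (nat_lit 20310) (nat_lit 7324) Col.gi (nat_lit 7355) Dv.df))
(Tr.lf (Fc.ed (nat_lit 20311) (nat_lit 7355) Col.c (nat_lit 6969) (Dv.wd (nat_lit 81) [Mv.b (nat_lit 20164), Mv.b (nat_lit 20163), Mv.b (nat_lit 14787), Mv.b (nat_lit 13889), Mv.b (nat_lit 14234), Mv.f (nat_lit 14635), Mv.b (nat_lit 20078), Mv.b (nat_lit 20248), Mv.f (nat_lit 20310)]))))))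
(Tr.nd (nat_lit 20314) (Tr.nd (nat_lit 20313) (Tr.lf (Fc.ed (nat_lit 20312) (nat_lit 7352) Col.c (nat_lit 7356) Dv.df))
(Tr.lf (Fc.ed (nat_lit 20313) (nat_lit 7356) Col.gi (nat_lit 7338) (Dv.wd (nat_lit 78) [Mv.b (nat_lit 20273), Mv.f (nat_lit 14767), Mv.f (nat_lit 20046), Mv.f (nat_lit 19807), Mv.f (nat_lit 12905), Mv.f (nat_lit 18210), Mv.b (nat_lit 19911), Mv.f (nat_lit 20306), Mv.f (nat_lit 20312)]))))
(Tr.nd (nat_lit 20315) (Tr.lf (Fc.ed (nat_lit 20314) (nat_lit 7165) Col.g (nat_lit 7357) Dv.df))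
(Tr.nd (nat_lit 20316) (Tr.lf (Fc.ed (nat_lit 20315) (nat_lit 7357) Col.e (nat_lit 7219) (Dv.wd (nat_lit 47) [Mv.b (nat_lit 20254), Mv.f (nat_lit 20253), Mv.b (nat_lit 19700), Mv.f (nat_lit 15447), Mv.f (nat_lit 11154), Mv.f (nat_lit 11453), Mv.f (nat_lit 11454), Mv.b (nat_lit 11360), Mv.b (nat_lit 19711), Mv.f (nat_lit 20314)])))
(Tr.lf (Fc.ed (nat_lit 20316) (nat_lit 7302) Col.c (nat_lit 7357) (Dv.wd (nat_lit 109) [Mv.f (nat_lit 20315), Mv.b (nat_lit 19840), Mv.f (nat_lit 20243)])))))))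
(Tr.nd (nat_lit 20322) (Tr.nd (nat_lit 20319) (Tr.nd (nat_lit 20318) (Tr.lf (Fc.ed (nat_lit 20317) (nat_lit 7296) Col.a (nat_lit 7358) Dv.df))
(Tr.lf (Fc.ed (nat_lit 20318) (nat_lit 7358) Col.e (nat_lit 2481) (Dv.wd (nat_lit 56) [Mv.b (nat_lit 7096), Mv.f (nat_lit 20178), Mv.f (nat_lit 20317)]))))
(Tr.nd (nat_lit 20320) (Tr.lf (Fc.ed (nat_lit 20319) (nat_lit 6546) Col.d (nat_lit 7359) Dv.df))
(Tr.nd (nat_lit 20321) (Tr.lf (Fc.ed (nat_lit 20320) (nat_lit 7359) Col.gi (nat_lit 7360) Dv.df))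
(Tr.lf (Fc.ed (nat_lit 20321) (nat_lit 7360) Col.d (nat_lit 7299) (Dv.wd (nat_lit 48) [Mv.f (nat_lit 20187), Mv.f (nat_lit 19847), Mv.f (nat_lit 19726), Mv.b (nat_lit 13892), Mv.f (nat_lit 20014), Mv.f (nat_lit 20147), Mv.b (nat_lit 17078), Mv.f (nat_lit 20319), Mv.f (nat_lit 20320)]))))))
(Tr.nd (nat_lit 20325) (Tr.nd (nat_lit 20323) (Tr.lf (Fc.ed (nat_lit 20322) (nat_lit 5604) Col.d (nat_lit 7361) Dv.df))
(Tr.nd (nat_lit 20324) (Tr.lf (Fc.ed (nat_lit 20323) (nat_lit 7361) Col.b (nat_lit 7343) (Dv.wd (nat_lit 37) [Mv.f (nat_lit 20283), Mv.b (nat_lit 14288), Mv.f (nat_lit 20322)])))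
(Tr.lf (Fc.ed (nat_lit 20324) (nat_lit 7323) Col.d (nat_lit 7362) Dv.df))))
(Tr.nd (nat_lit 20326) (Tr.lf (Fc.ed (nat_lit 20325) (nat_lit 7237) Col.a (nat_lit 7363) Dv.df))
(Tr.nd (nat_lit 20327) (Tr.lf (Fc.ed (nat_lit 20326) (nat_lit 7362) Col.g (nat_lit 7364) Dv.df))
(Tr.lf (Fc.ed (nat_lit 20327) (nat_lit 7364) Col.d (nat_lit 7321) (Dv.wd (nat_lit 85) [Mv.f (nat_lit 20232), Mv.f (nat_lit 13894), Mv.b (nat_lit 17890), Mv.f (nat_lit 20045), Mv.b (nat_lit 20022), Mv.b (nat_lit 19688), Mv.b (nat_lit 20246), Mv.f (nat_lit 20324), Mv.f (nat_lit 20326)])))))))))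
(Tr.nd (nat_lit 20349) (Tr.nd (nat_lit 20338) (Tr.nd (nat_lit 20333) (Tr.nd (nat_lit 20330) (Tr.nd (nat_lit 20329) (Tr.lf (Fc.ed (nat_lit 20328) (nat_lit 7364) Col.c (nat_lit 7365) Dv.df))
(Tr.lf (Fc.ed (nat_lit 20329) (nat_lit 7365) Col.d (nat_lit 7355) (Dv.wd (nat_lit 44) [Mv.f (nat_lit 20311), Mv.f (nat_lit 18078), Mv.f (nat_lit 14625), Mv.b (nat_lit 14717), Mv.f (nat_lit 14718), Mv.f (nat_lit 13893), Mv.b (nat_lit 20232), Mv.b (nat_lit 20327), Mv.f (nat_lit 20328)]))))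
(Tr.nd (nat_lit 20331) (Tr.lf (Fc.ed (nat_lit 20330) (nat_lit 7318) Col.c (nat_lit 7366) Dv.df))
(Tr.nd (nat_lit 20332) (Tr.lf (Fc.ed (nat_lit 20331) (nat_lit 7366) Col.g (nat_lit 7325) (Dv.wd (nat_lit 77) [Mv.f (nat_lit 20250), Mv.f (nat_lit 19582), Mv.b (nat_lit 18845), Mv.b (nat_lit 11501), Mv.f (nat_lit 13340), Mv.f (nat_lit 16651), Mv.f (nat_lit 20294), Mv.f (nat_lit 20295), Mv.f (nat_lit 20330)])))
(Tr.lf (Fc.ed (nat_lit 20332) (nat_lit 5855) Col.c (nat_lit 7367) Dv.df)))))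
(Tr.nd (nat_lit 20335) (Tr.nd (nat_lit 20334) (Tr.lf (Fc.ed (nat_lit 20333) (nat_lit 6802) Col.e (nat_lit 7368) Dv.df))
(Tr.lf (Fc.ed (nat_lit 20334) (nat_lit 7368) Col.c (nat_lit 7213) (Dv.wd (nat_lit 18) [Mv.f (nat_lit 19826), Mv.b (nat_lit 17785), Mv.f (nat_lit 20333)]))))
(Tr.nd (nat_lit 20336) (Tr.lf (Fc.ed (nat_lit 20335) (nat_lit 7368) Col.d (nat_lit 7347) (Dv.wd (nat_lit 91) [Mv.f (nat_lit 20292), Mv.f (nat_lit 11633), Mv.f (nat_lit 7384), Mv.b (nat_lit 10607), Mv.b (nat_lit 17842), Mv.f (nat_lit 14010), Mv.b (nat_lit 13460), Mv.b (nat_lit 13072), Mv.f (nat_lit 17729), Mv.f (nat_lit 20333)])))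
(Tr.nd (nat_lit 20337) (Tr.lf (Fc.ed (nat_lit 20336) (nat_lit 6589) Col.d (nat_lit 7369) Dv.df))
(Tr.lf (Fc.ed (nat_lit 20337) (nat_lit 7369) Col.g (nat_lit 7360) (Dv.wd (nat_lit 55) [Mv.f (nat_lit 20321), Mv.b (nat_lit 20185), Mv.f (nat_lit 17553), Mv.b (nat_lit 11015), Mv.f (nat_lit 3937), Mv.f (nat_lit 6108), Mv.b (nat_lit 10437), Mv.f (nat_lit 15426), Mv.f (nat_lit 19173), Mv.f (nat_lit 20336)])))))))
(Tr.nd (nat_lit 20343) (Tr.nd (nat_lit 20340) (Tr.nd (nat_lit 20339) (Tr.lf (Fc.ed (nat_lit 20338) (nat_lit 7234) Col.c (nat_lit 7370) Dv.df))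
(Tr.lf (Fc.ed (nat_lit 20339) (nat_lit 4602) Col.b (nat_lit 7371) Dv.df)))
(Tr.nd (nat_lit 20341) (Tr.lf (Fc.ed (nat_lit 20340) (nat_lit 5369) Col.f (nat_lit 7372) Dv.df))
(Tr.nd (nat_lit 20342) (Tr.lf (Fc.ed (nat_lit 20341) (nat_lit 6681) Col.d (nat_lit 7373) Dv.df))
(Tr.lf (Fc.ed (nat_lit 20342) (nat_lit 7180) Col.g (nat_lit 7374) Dv.df)))))
(Tr.nd (nat_lit 20346) (Tr.nd (nat_lit 20344) (Tr.lf (Fc.ed (nat_lit 20343) (nat_lit 7374) Col.c (nat_lit 7238) (Dv.wd (nat_lit 115) [Mv.f (nat_lit 20208), Mv.b (nat_lit 20206), Mv.b (nat_lit 19745), Mv.f (nat_lit 14488), Mv.f (nat_lit 13943), Mv.f (nat_lit 6779), Mv.b (nat_lit 9605), Mv.f (nat_lit 11045), Mv.b (nat_lit 19744), Mv.f (nat_lit 20342)])))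
(Tr.nd (nat_lit 20345) (Tr.lf (Fc.ed (nat_lit 20344) (nat_lit 7067) Col.e (nat_lit 7374) (Dv.wd (nat_lit 84) [Mv.f (nat_lit 20343), Mv.f (nat_lit 19903), Mv.b (nat_lit 19432)])))
(Tr.lf (Fc.ed (nat_lit 20345) (nat_lit 7374) Col.b (nat_lit 7340) (Dv.wd (nat_lit 49) [Mv.f (nat_lit 20276), Mv.f (nat_lit 19524), Mv.f (nat_lit 20344)])))))
(Tr.nd (nat_lit 20347) (Tr.lf (Fc.ed (nat_lit 20346) (nat_lit 7339) Col.c (nat_lit 5699) (Dv.wd (nat_lit 135) [Mv.b (nat_lit 14461), Mv.b (nat_lit 13512), Mv.f (nat_lit 13511), Mv.f (nat_lit 14033), Mv.f (nat_lit 14422), Mv.b (nat_lit 19901), Mv.b (nat_lit 20343), Mv.f (nat_lit 20345), Mv.b (nat_lit 20275), Mv.f (nat_lit 20274)])))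
(Tr.nd (nat_lit 20348) (Tr.lf (Fc.ed (nat_lit 20347) (nat_lit 7167) Col.a (nat_lit 7339) (Dv.wd (nat_lit 76) [Mv.f (nat_lit 20346), Mv.b (nat_lit 20200), Mv.f (nat_lit 20201)])))
(Tr.lf (Fc.al (nat_lit 20348) (nat_lit 6975) (nat_lit 7190) (Dv.wd (nat_lit 155) [Mv.b (nat_lit 19766), Mv.b (nat_lit 20133), Mv.f (nat_lit 18127), Mv.b (nat_lit 19716), Mv.f (nat_lit 20347), Mv.b (nat_lit 20274)]))))))))
(Tr.nd (nat_lit 20359) (Tr.nd (nat_lit 20354) (Tr.nd (nat_lit 20351) (Tr.nd (nat_lit 20350) (Tr.lf (Fc.al (nat_lit 20349) (nat_lit 6903) (nat_lit 5855) (Dv.wd (nat_lit 117) [Mv.b (nat_lit 19767), Mv.b (nat_lit 20348), Mv.f (nat_lit 18089)])))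
(Tr.lf (Fc.al (nat_lit 20350) (nat_lit 7272) (nat_lit 3927) (Dv.wd (nat_lit 128) [Mv.f (nat_lit 17946), Mv.f (nat_lit 20349), Mv.f (nat_lit 20082)]))))
(Tr.nd (nat_lit 20352) (Tr.lf (Fc.ed (nat_lit 20351) (nat_lit 3927) Col.gi (nat_lit 5855) (Dv.wd (nat_lit 128) [Mv.f (nat_lit 20082), Mv.f (nat_lit 20350)])))
(Tr.nd (nat_lit 20353) (Tr.lf (Fc.ed (nat_lit 20352) (nat_lit 7371) Col.e (nat_lit 7375) Dv.df))
(Tr.lf (Fc.ed (nat_lit 20353) (nat_lit 7375) Col.b (nat_lit 7059) (Dv.wd (nat_lit 49) [Mv.f (nat_lit 19415), Mv.f (nat_lit 20339), Mv.f (nat_lit 20352)]))))))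
(Tr.nd (nat_lit 20356) (Tr.nd (nat_lit 20355) (Tr.lf (Fc.ed (nat_lit 20354) (nat_lit 5946) Col.c (nat_lit 7376) Dv.df))
(Tr.lf (Fc.ed (nat_lit 20355) (nat_lit 7376) Col.e (nat_lit 7338) (Dv.wd (nat_lit 25) [Mv.b (nat_lit 20273), Mv.f (nat_lit 15033), Mv.f (nat_lit 20354)]))))
(Tr.nd (nat_lit 20357) (Tr.lf (Fc.ed (nat_lit 20356) (nat_lit 7373) Col.gi (nat_lit 7377) Dv.df))
(Tr.nd (nat_lit 20358) (Tr.lf (Fc.ed (nat_lit 20357) (nat_lit 7377) Col.gi (nat_lit 7378) Dv.df))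
(Tr.lf (Fc.ed (nat_lit 20358) (nat_lit 6926) Col.b (nat_lit 7379) Dv.df))))))
(Tr.nd (nat_lit 20364) (Tr.nd (nat_lit 20361) (Tr.nd (nat_lit 20360) (Tr.lf (Fc.ed (nat_lit 20359) (nat_lit 7358) Col.d (nat_lit 7380) Dv.df))
(Tr.lf (Fc.ed (nat_lit 20360) (nat_lit 7249) Col.d (nat_lit 7381) Dv.df)))
(Tr.nd (nat_lit 20362) (Tr.lf (Fc.ed (nat_lit 20361) (nat_lit 7296) Col.d (nat_lit 7382) Dv.df))
(Tr.nd (nat_lit 20363) (Tr.lf (Fc.ed (nat_lit 20362) (nat_lit 7382) Col.a (nat_lit 7380) (Dv.wd (nat_lit 8) [Mv.b (nat_lit 20359), Mv.b (nat_lit 20317), Mv.f (nat_lit 20361)])))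
(Tr.lf (Fc.ed (nat_lit 20363) (nat_lit 7382) Col.e (nat_lit 6689) (Dv.wd (nat_lit 42) [Mv.b (nat_lit 17431), Mv.f (nat_lit 7961), Mv.b (nat_lit 7098), Mv.f (nat_lit 20178), Mv.f (nat_lit 20361)]))))))
(Tr.nd (nat_lit 20367) (Tr.nd (nat_lit 20365) (Tr.lf (Fc.ed (nat_lit 20364) (nat_lit 6962) Col.e (nat_lit 7380) (Dv.wd (nat_lit 56) [Mv.b (nat_lit 20362), Mv.f (nat_lit 20363), Mv.f (nat_lit 18987)])))
(Tr.nd (nat_lit 20366) (Tr.lf (Fc.ed (nat_lit 20365) (nat_lit 5998) Col.e (nat_lit 7383) Dv.df))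
(Tr.lf (Fc.ed (nat_lit 20366) (nat_lit 7383) Col.b (nat_lit 7011) (Dv.wd (nat_lit 49) [Mv.b (nat_lit 18180), Mv.f (nat_lit 19274), Mv.f (nat_lit 20365)])))))
(Tr.nd (nat_lit 20368) (Tr.lf (Fc.ed (nat_lit 20367) (nat_lit 7243) Col.d (nat_lit 7383) (Dv.wd (nat_lit 116) [Mv.f (nat_lit 20366), Mv.b (nat_lit 18153), Mv.f (nat_lit 19912)])))
(Tr.nd (nat_lit 20369) (Tr.lf (Fc.ed (nat_lit 20368) (nat_lit 7244) Col.e (nat_lit 7384) Dv.df))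
(Tr.lf (Fc.ed (nat_lit 20369) (nat_lit 7384) Col.b (nat_lit 3826) (Dv.wd (nat_lit 49) [Mv.f (nat_lit 18422), Mv.f (nat_lit 19913), Mv.f (nat_lit 20368)])))))))))))))
(Tr.nd (nat_lit 20699) (Tr.nd (nat_lit 20534) (Tr.nd (nat_lit 20452) (Tr.nd (nat_lit 20411) (Tr.nd (nat_lit 20390) (Tr.nd (nat_lit 20380) (Tr.nd (nat_lit 20375) (Tr.nd (nat_lit 20372) (Tr.nd (nat_lit 20371) (Tr.lf (Fc.ed (nat_lit 20370) (nat_lit 7104) Col.e (nat_lit 7385) Dv.df))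
(Tr.lf (Fc.ed (nat_lit 20371) (nat_lit 7385) Col.a (nat_lit 7330) (Dv.wd (nat_lit 15) [Mv.b (nat_lit 20259), Mv.f (nat_lit 20149), Mv.f (nat_lit 20370)]))))
(Tr.nd (nat_lit 20373) (Tr.lf (Fc.ed (nat_lit 20372) (nat_lit 5659) Col.f (nat_lit 7386) Dv.df))
(Tr.nd (nat_lit 20374) (Tr.lf (Fc.ed (nat_lit 20373) (nat_lit 7132) Col.b (nat_lit 7387) Dv.df))
(Tr.lf (Fc.ed (nat_lit 20374) (nat_lit 7383) Col.a (nat_lit 7388) Dv.df)))))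
(Tr.nd (nat_lit 20377) (Tr.nd (nat_lit 20376) (Tr.lf (Fc.ed (nat_lit 20375) (nat_lit 7179) Col.d (nat_lit 7389) Dv.df))
(Tr.lf (Fc.ed (nat_lit 20376) (nat_lit 7378) Col.a (nat_lit 7390) Dv.df)))
(Tr.nd (nat_lit 20378) (Tr.lf (Fc.ed (nat_lit 20377) (nat_lit 7342) Col.a (nat_lit 7391) Dv.df))
(Tr.nd (nat_lit 20379) (Tr.lf (Fc.ed (nat_lit 20378) (nat_lit 7391) Col.f (nat_lit 6002) (Dv.wd (nat_lit 35) [Mv.b (nat_lit 15824), Mv.b (nat_lit 20280), Mv.f (nat_lit 20377)])))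
(Tr.lf (Fc.ed (nat_lit 20379) (nat_lit 7329) Col.c (nat_lit 7392) Dv.df))))))
(Tr.nd (nat_lit 20385) (Tr.nd (nat_lit 20382) (Tr.nd (nat_lit 20381) (Tr.lf (Fc.ed (nat_lit 20380) (nat_lit 7392) Col.e (nat_lit 6586) (Dv.wd (nat_lit 25) [Mv.b (nat_lit 17169), Mv.b (nat_lit 20258), Mv.f (nat_lit 20379)])))
(Tr.lf (Fc.ed (nat_lit 20381) (nat_lit 7392) Col.gi (nat_lit 7319) (Dv.wd (nat_lit 157) [Mv.f (nat_lit 20225), Mv.f (nat_lit 19744), Mv.b (nat_lit 11045), Mv.f (nat_lit 9606), Mv.b (nat_lit 8531), Mv.b (nat_lit 13596), Mv.f (nat_lit 19745), Mv.b (nat_lit 20285), Mv.f (nat_lit 20287), Mv.f (nat_lit 20379)]))))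
(Tr.nd (nat_lit 20383) (Tr.lf (Fc.ed (nat_lit 20382) (nat_lit 5663) Col.f (nat_lit 7393) Dv.df))
(Tr.nd (nat_lit 20384) (Tr.lf (Fc.ed (nat_lit 20383) (nat_lit 7393) Col.c (nat_lit 7372) (Dv.wd (nat_lit 34) [Mv.b (nat_lit 20340), Mv.b (nat_lit 14406), Mv.f (nat_lit 20382)])))
(Tr.lf (Fc.ed (nat_lit 20384) (nat_lit 6970) Col.a (nat_lit 7394) Dv.df)))))
(Tr.nd (nat_lit 20387) (Tr.nd (nat_lit 20386) (Tr.lf (Fc.ed (nat_lit 20385) (nat_lit 7394) Col.c (nat_lit 6049) (Dv.wd (nat_lit 33) [Mv.b (nat_lit 19814), Mv.f (nat_lit 19815), Mv.f (nat_lit 20384)])))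
(Tr.lf (Fc.ed (nat_lit 20386) (nat_lit 7368) Col.b (nat_lit 7395) Dv.df)))
(Tr.nd (nat_lit 20388) (Tr.lf (Fc.ed (nat_lit 20387) (nat_lit 7367) Col.gi (nat_lit 7396) Dv.df))
(Tr.nd (nat_lit 20389) (Tr.lf (Fc.ed (nat_lit 20388) (nat_lit 7396) Col.b (nat_lit 7357) (Dv.wd (nat_lit 154) [Mv.b (nat_lit 20316), Mv.b (nat_lit 20190), Mv.b (nat_lit 19639), Mv.f (nat_lit 19638), Mv.f (nat_lit 10610), Mv.b (nat_lit 11564), Mv.f (nat_lit 11565), Mv.f (nat_lit 20351), Mv.f (nat_lit 20332), Mv.f (nat_lit 20387)])))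
(Tr.lf (Fc.ed (nat_lit 20389) (nat_lit 7168) Col.e (nat_lit 7396) (Dv.wd (nat_lit 82) [Mv.f (nat_lit 20388), Mv.f (nat_lit 20315), Mv.f (nat_lit 19841)]))))))))
(Tr.nd (nat_lit 20400) (Tr.nd (nat_lit 20395) (Tr.nd (nat_lit 20392) (Tr.nd (nat_lit 20391) (Tr.lf (Fc.ed (nat_lit 20390) (nat_lit 6442) Col.c (nat_lit 7397) Dv.df))
(Tr.lf (Fc.ed (nat_lit 20391) (nat_lit 4503) Col.e (nat_lit 7398) Dv.df)))
(Tr.nd (nat_lit 20393) (Tr.lf (Fc.ed (nat_lit 20392) (nat_lit 3812) Col.b (nat_lit 7399) Dv.df))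
(Tr.nd (nat_lit 20394) (Tr.lf (Fc.ed (nat_lit 20393) (nat_lit 5221) Col.f (nat_lit 7400) Dv.df))
(Tr.lf (Fc.ed (nat_lit 20394) (nat_lit 7400) Col.a (nat_lit 7372) (Dv.wd (nat_lit 16) [Mv.b (nat_lit 20340), Mv.f (nat_lit 13801), Mv.f (nat_lit 20393)]))))))
(Tr.nd (nat_lit 20397) (Tr.nd (nat_lit 20396) (Tr.lf (Fc.ed (nat_lit 20395) (nat_lit 7348) Col.gi (nat_lit 7401) Dv.df))
(Tr.lf (Fc.ed (nat_lit 20396) (nat_lit 7384) Col.g (nat_lit 7402) Dv.df)))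
(Tr.nd (nat_lit 20398) (Tr.lf (Fc.ed (nat_lit 20397) (nat_lit 7402) Col.b (nat_lit 7392) (Dv.wd (nat_lit 104) [Mv.b (nat_lit 20379), Mv.b (nat_lit 20287), Mv.f (nat_lit 20285), Mv.b (nat_lit 19745), Mv.f (nat_lit 13596), Mv.b (nat_lit 8150), Mv.f (nat_lit 8108), Mv.b (nat_lit 16836), Mv.b (nat_lit 20369), Mv.f (nat_lit 20396)])))
(Tr.nd (nat_lit 20399) (Tr.lf (Fc.ed (nat_lit 20398) (nat_lit 5098) Col.e (nat_lit 7402) (Dv.wd (nat_lit 82) [Mv.f (nat_lit 20397), Mv.f (nat_lit 20380), Mv.f (nat_lit 17170)])))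
(Tr.lf (Fc.ed (nat_lit 20399) (nat_lit 7372) Col.e (nat_lit 7403) Dv.df))))))
(Tr.nd (nat_lit 20405) (Tr.nd (nat_lit 20402) (Tr.nd (nat_lit 20401) (Tr.lf (Fc.ed (nat_lit 20400) (nat_lit 7403) Col.f (nat_lit 5636) (Dv.wd (nat_lit 96) [Mv.f (nat_lit 14352), Mv.f (nat_lit 6131), Mv.f (nat_lit 13800), Mv.f (nat_lit 20340), Mv.f (nat_lit 20399)])))
(Tr.lf (Fc.ed (nat_lit 20401) (nat_lit 7393) Col.d (nat_lit 7404) Dv.df)))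
(Tr.nd (nat_lit 20403) (Tr.lf (Fc.ed (nat_lit 20402) (nat_lit 7404) Col.f (nat_lit 7076) (Dv.wd (nat_lit 11) [Mv.b (nat_lit 19445), Mv.f (nat_lit 20382), Mv.f (nat_lit 20401)])))
(Tr.nd (nat_lit 20404) (Tr.lf (Fc.ed (nat_lit 20403) (nat_lit 6387) Col.b (nat_lit 7405) Dv.df))
(Tr.lf (Fc.ed (nat_lit 20404) (nat_lit 7326) Col.gi (nat_lit 7406) Dv.df)))))
(Tr.nd (nat_lit 20408) (Tr.nd (nat_lit 20406) (Tr.lf (Fc.ed (nat_lit 20405) (nat_lit 7406) Col.c (nat_lit 7402) (Dv.wd (nat_lit 143) [Mv.f (nat_lit 20397), Mv.f (nat_lit 20381), Mv.f (nat_lit 20225), Mv.f (nat_lit 19744), Mv.b (nat_lit 11045), Mv.f (nat_lit 9606), Mv.b (nat_lit 14933), Mv.f (nat_lit 20209), Mv.f (nat_lit 20251), Mv.f (nat_lit 20404)])))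
(Tr.nd (nat_lit 20407) (Tr.lf (Fc.ed (nat_lit 20406) (nat_lit 6940) Col.e (nat_lit 7406) (Dv.wd (nat_lit 84) [Mv.f (nat_lit 20405), Mv.b (nat_lit 20398), Mv.b (nat_lit 18024)])))
(Tr.lf (Fc.ed (nat_lit 20407) (nat_lit 5252) Col.d (nat_lit 7407) Dv.df))))
(Tr.nd (nat_lit 20409) (Tr.lf (Fc.ed (nat_lit 20408) (nat_lit 6323) Col.g (nat_lit 7408) Dv.df))
(Tr.nd (nat_lit 20410) (Tr.lf (Fc.ed (nat_lit 20409) (nat_lit 7388) Col.d (nat_lit 7409) Dv.df))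
(Tr.lf (Fc.ed (nat_lit 20410) (nat_lit 7409) Col.a (nat_lit 7243) (Dv.wd (nat_lit 8) [Mv.f (nat_lit 20367), Mv.f (nat_lit 20374), Mv.f (nat_lit 20409)])))))))))
(Tr.nd (nat_lit 20431) (Tr.nd (nat_lit 20421) (Tr.nd (nat_lit 20416) (Tr.nd (nat_lit 20413) (Tr.nd (nat_lit 20412) (Tr.lf (Fc.ed (nat_lit 20411) (nat_lit 7381) Col.gi (nat_lit 7410) Dv.df))
(Tr.lf (Fc.ed (nat_lit 20412) (nat_lit 7410) Col.d (nat_lit 7398) (Dv.wd (nat_lit 53) [Mv.b (nat_lit 20391), Mv.b (nat_lit 11503), Mv.b (nat_lit 19179), Mv.b (nat_lit 10431), Mv.b (nat_lit 10926), Mv.b (nat_lit 11713), Mv.b (nat_lit 11981), Mv.b (nat_lit 20019), Mv.f (nat_lit 20360), Mv.f (nat_lit 20411)]))))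
(Tr.nd (nat_lit 20414) (Tr.lf (Fc.ed (nat_lit 20413) (nat_lit 5422) Col.f (nat_lit 7411) Dv.df))
(Tr.nd (nat_lit 20415) (Tr.lf (Fc.ed (nat_lit 20414) (nat_lit 7411) Col.c (nat_lit 7403) (Dv.wd (nat_lit 34) [Mv.f (nat_lit 20400), Mv.b (nat_lit 14351), Mv.f (nat_lit 20413)])))
(Tr.lf (Fc.ed (nat_lit 20415) (nat_lit 6410) Col.f (nat_lit 7412) Dv.df)))))
(Tr.nd (nat_lit 20418) (Tr.nd (nat_lit 20417) (Tr.lf (Fc.ed (nat_lit 20416) (nat_lit 7412) Col.b (nat_lit 7226) (Dv.wd (nat_lit 66) [Mv.b (nat_lit 19877), Mv.b (nat_lit 19161), Mv.f (nat_lit 20415)])))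
(Tr.lf (Fc.ed (nat_lit 20417) (nat_lit 7412) Col.d (nat_lit 7411) (Dv.wd (nat_lit 21) [Mv.b (nat_lit 20413), Mv.f (nat_lit 16649), Mv.f (nat_lit 20415)]))))
(Tr.nd (nat_lit 20419) (Tr.lf (Fc.ed (nat_lit 20418) (nat_lit 7396) Col.c (nat_lit 7413) Dv.df))
(Tr.nd (nat_lit 20420) (Tr.lf (Fc.ed (nat_lit 20419) (nat_lit 7413) Col.e (nat_lit 7186) (Dv.wd (nat_lit 25) [Mv.b (nat_lit 19759), Mv.f (nat_lit 20389), Mv.f (nat_lit 20418)])))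
(Tr.lf (Fc.ed (nat_lit 20420) (nat_lit 7413) Col.g (nat_lit 7080) (Dv.wd (nat_lit 123) [Mv.f (nat_lit 19453), Mv.f (nat_lit 19297), Mv.f (nat_lit 18506), Mv.b (nat_lit 17357), Mv.b (nat_lit 18502), Mv.f (nat_lit 19694), Mv.b (nat_lit 19712), Mv.f (nat_lit 20314), Mv.b (nat_lit 20388), Mv.f (nat_lit 20418)])))))))
(Tr.nd (nat_lit 20426) (Tr.nd (nat_lit 20423) (Tr.nd (nat_lit 20422) (Tr.lf (Fc.ed (nat_lit 20421) (nat_lit 6509) Col.g (nat_lit 7413) (Dv.wd (nat_lit 17) [Mv.f (nat_lit 20420), Mv.b (nat_lit 19452), Mv.f (nat_lit 19305)])))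
(Tr.lf (Fc.ed (nat_lit 20422) (nat_lit 7176) Col.d (nat_lit 7414) Dv.df)))
(Tr.nd (nat_lit 20424) (Tr.lf (Fc.ed (nat_lit 20423) (nat_lit 7407) Col.gi (nat_lit 7415) Dv.df))
(Tr.nd (nat_lit 20425) (Tr.lf (Fc.ed (nat_lit 20424) (nat_lit 7415) Col.d (nat_lit 7095) (Dv.wd (nat_lit 48) [Mv.b (nat_lit 19519), Mv.b (nat_lit 15036), Mv.b (nat_lit 14460), Mv.b (nat_lit 14019), Mv.b (nat_lit 18616), Mv.f (nat_lit 18617), Mv.f (nat_lit 18323), Mv.f (nat_lit 20407), Mv.f (nat_lit 20423)])))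
(Tr.lf (Fc.ed (nat_lit 20425) (nat_lit 7391) Col.c (nat_lit 7416) Dv.df)))))
(Tr.nd (nat_lit 20428) (Tr.nd (nat_lit 20427) (Tr.lf (Fc.ed (nat_lit 20426) (nat_lit 7416) Col.f (nat_lit 7230) (Dv.wd (nat_lit 26) [Mv.b (nat_lit 19886), Mv.b (nat_lit 20378), Mv.f (nat_lit 20425)])))
(Tr.lf (Fc.ed (nat_lit 20427) (nat_lit 7365) Col.gi (nat_lit 7417) Dv.df)))
(Tr.nd (nat_lit 20429) (Tr.lf (Fc.ed (nat_lit 20428) (nat_lit 7417) Col.d (nat_lit 7356) (Dv.wd (nat_lit 48) [Mv.f (nat_lit 20313), Mv.b (nat_lit 20273), Mv.b (nat_lit 17938), Mv.f (nat_lit 20048), Mv.b (nat_lit 14627), Mv.b (nat_lit 18078), Mv.b (nat_lit 20311), Mv.b (nat_lit 20329), Mv.f (nat_lit 20427)])))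
(Tr.nd (nat_lit 20430) (Tr.lf (Fc.ed (nat_lit 20429) (nat_lit 5570) Col.f (nat_lit 7418) Dv.df))
(Tr.lf (Fc.ed (nat_lit 20430) (nat_lit 6752) Col.e (nat_lit 7419) Dv.df)))))))
(Tr.nd (nat_lit 20441) (Tr.nd (nat_lit 20436) (Tr.nd (nat_lit 20433) (Tr.nd (nat_lit 20432) (Tr.lf (Fc.ed (nat_lit 20431) (nat_lit 7406) Col.b (nat_lit 7420) Dv.df))
(Tr.lf (Fc.ed (nat_lit 20432) (nat_lit 7420) Col.e (nat_lit 6948) (Dv.wd (nat_lit 52) [Mv.b (nat_lit 18033), Mv.f (nat_lit 20406), Mv.f (nat_lit 20431)]))))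
(Tr.nd (nat_lit 20434) (Tr.lf (Fc.ed (nat_lit 20433) (nat_lit 7413) Col.a (nat_lit 7420) (Dv.wd (nat_lit 31) [Mv.f (nat_lit 20432), Mv.f (nat_lit 19758), Mv.b (nat_lit 20419)])))
(Tr.nd (nat_lit 20435) (Tr.lf (Fc.ed (nat_lit 20434) (nat_lit 7419) Col.gi (nat_lit 7421) Dv.df))
(Tr.lf (Fc.ed (nat_lit 20435) (nat_lit 7330) Col.b (nat_lit 7422) Dv.df)))))
(Tr.nd (nat_lit 20438) (Tr.nd (nat_lit 20437) (Tr.lf (Fc.ed (nat_lit 20436) (nat_lit 7422) Col.e (nat_lit 6519) (Dv.wd (nat_lit 52) [Mv.f (nat_lit 17077), Mv.f (nat_lit 20259), Mv.f (nat_lit 20435)])))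
(Tr.lf (Fc.ed (nat_lit 20437) (nat_lit 7385) Col.c (nat_lit 7422) (Dv.wd (nat_lit 109) [Mv.f (nat_lit 20436), Mv.b (nat_lit 20150), Mv.f (nat_lit 20370)]))))
(Tr.nd (nat_lit 20439) (Tr.lf (Fc.ed (nat_lit 20438) (nat_lit 7212) Col.d (nat_lit 7423) Dv.df))
(Tr.nd (nat_lit 20440) (Tr.lf (Fc.ed (nat_lit 20439) (nat_lit 7423) Col.f (nat_lit 7389) (Dv.wd (nat_lit 11) [Mv.b (nat_lit 20375), Mv.f (nat_lit 19824), Mv.f (nat_lit 20438)])))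
(Tr.lf (Fc.ed (nat_lit 20440) (nat_lit 7334) Col.b (nat_lit 7424) Dv.df))))))
(Tr.nd (nat_lit 20446) (Tr.nd (nat_lit 20443) (Tr.nd (nat_lit 20442) (Tr.lf (Fc.ed (nat_lit 20441) (nat_lit 7424) Col.f (nat_lit 5707) (Dv.wd (nat_lit 20) [Mv.f (nat_lit 15152), Mv.f (nat_lit 20267), Mv.f (nat_lit 20440)])))
(Tr.lf (Fc.ed (nat_lit 20442) (nat_lit 7403) Col.a (nat_lit 7424) (Dv.wd (nat_lit 79) [Mv.f (nat_lit 20441), Mv.f (nat_lit 14473), Mv.b (nat_lit 20400)]))))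
(Tr.nd (nat_lit 20444) (Tr.lf (Fc.ed (nat_lit 20443) (nat_lit 7358) Col.b (nat_lit 7425) Dv.df))
(Tr.nd (nat_lit 20445) (Tr.lf (Fc.ed (nat_lit 20444) (nat_lit 7425) Col.e (nat_lit 5104) (Dv.wd (nat_lit 52) [Mv.b (nat_lit 13215), Mv.b (nat_lit 20318), Mv.f (nat_lit 20443)])))
(Tr.lf (Fc.ed (nat_lit 20445) (nat_lit 2470) Col.e (nat_lit 7426) Dv.df)))))
(Tr.nd (nat_lit 20449) (Tr.nd (nat_lit 20447) (Tr.lf (Fc.ed (nat_lit 20446) (nat_lit 7426) Col.c (nat_lit 7358) (Dv.wd (nat_lit 18) [Mv.f (nat_lit 20318), Mv.b (nat_lit 6685), Mv.f (nat_lit 20445)])))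
(Tr.nd (nat_lit 20448) (Tr.lf (Fc.ed (nat_lit 20447) (nat_lit 7196) Col.d (nat_lit 7427) Dv.df))
(Tr.lf (Fc.ed (nat_lit 20448) (nat_lit 7427) Col.gi (nat_lit 7422) (Dv.wd (nat_lit 163) [Mv.f (nat_lit 20436), Mv.f (nat_lit 20119), Mv.b (nat_lit 20161), Mv.f (nat_lit 13894), Mv.b (nat_lit 13170), Mv.b (nat_lit 20035), Mv.f (nat_lit 17824), Mv.b (nat_lit 17528), Mv.f (nat_lit 19777), Mv.f (nat_lit 20447)])))))
(Tr.nd (nat_lit 20450) (Tr.lf (Fc.ed (nat_lit 20449) (nat_lit 7419) Col.d (nat_lit 7428) Dv.df))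
(Tr.nd (nat_lit 20451) (Tr.lf (Fc.ed (nat_lit 20450) (nat_lit 7428) Col.e (nat_lit 5416) (Dv.wd (nat_lit 42) [Mv.f (nat_lit 13892), Mv.b (nat_lit 14745), Mv.f (nat_lit 17625), Mv.f (nat_lit 20430), Mv.f (nat_lit 20449)])))
(Tr.lf (Fc.ed (nat_lit 20451) (nat_lit 7125) Col.a (nat_lit 7429) Dv.df)))))))))
(Tr.nd (nat_lit 20493) (Tr.nd (nat_lit 20472) (Tr.nd (nat_lit 20462) (Tr.nd (nat_lit 20457) (Tr.nd (nat_lit 20454) (Tr.nd (nat_lit 20453) (Tr.lf (Fc.ed (nat_lit 20452) (nat_lit 7429) Col.d (nat_lit 6524) (Dv.wd (nat_lit 28) [Mv.b (nat_lit 19343), Mv.f (nat_lit 19629), Mv.f (nat_lit 20451)])))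
(Tr.lf (Fc.ed (nat_lit 20453) (nat_lit 6132) Col.f (nat_lit 7430) Dv.df)))
(Tr.nd (nat_lit 20455) (Tr.lf (Fc.ed (nat_lit 20454) (nat_lit 7430) Col.b (nat_lit 7411) (Dv.wd (nat_lit 66) [Mv.b (nat_lit 20413), Mv.f (nat_lit 15401), Mv.f (nat_lit 20453)])))
(Tr.nd (nat_lit 20456) (Tr.lf (Fc.ed (nat_lit 20455) (nat_lit 7430) Col.d (nat_lit 7226) (Dv.wd (nat_lit 21) [Mv.b (nat_lit 19877), Mv.b (nat_lit 19198), Mv.f (nat_lit 20453)])))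
(Tr.lf (Fc.ed (nat_lit 20456) (nat_lit 7430) Col.g (nat_lit 7292) (Dv.wd (nat_lit 17) [Mv.f (nat_lit 20171), Mv.f (nat_lit 19449), Mv.f (nat_lit 20453)]))))))
(Tr.nd (nat_lit 20459) (Tr.nd (nat_lit 20458) (Tr.lf (Fc.al (nat_lit 20457) (nat_lit 5635) (nat_lit 6577) (Dv.wd (nat_lit 111) [Mv.f (nat_lit 17145), Mv.b (nat_lit 17188), Mv.b (nat_lit 17303), Mv.f (nat_lit 18148), Mv.b (nat_lit 19981), Mv.b (nat_lit 20455), Mv.f (nat_lit 20456), Mv.b (nat_lit 20170), Mv.f (nat_lit 17651), Mv.f (nat_lit 14354)])))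
(Tr.lf (Fc.ed (nat_lit 20458) (nat_lit 5635) Col.g (nat_lit 4158) (Dv.wd (nat_lit 129) [Mv.f (nat_lit 17144), Mv.b (nat_lit 20457)]))))
(Tr.nd (nat_lit 20460) (Tr.lf (Fc.al (nat_lit 20459) (nat_lit 4877) (nat_lit 6642) (Dv.wd (nat_lit 117) [Mv.b (nat_lit 17344), Mv.b (nat_lit 20457), Mv.f (nat_lit 14350)])))
(Tr.nd (nat_lit 20461) (Tr.lf (Fc.al (nat_lit 20460) (nat_lit 4986) (nat_lit 6036) (Dv.wd (nat_lit 120) [Mv.b (nat_lit 17345), Mv.b (nat_lit 20459), Mv.f (nat_lit 12930)])))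
(Tr.lf (Fc.ed (nat_lit 20461) (nat_lit 4986) Col.gi (nat_lit 4127) (Dv.wd (nat_lit 128) [Mv.b (nat_lit 15225), Mv.b (nat_lit 20460)])))))))
(Tr.nd (nat_lit 20467) (Tr.nd (nat_lit 20464) (Tr.nd (nat_lit 20463) (Tr.lf (Fc.al (nat_lit 20462) (nat_lit 5604) (nat_lit 6481) (Dv.wd (nat_lit 103) [Mv.b (nat_lit 16784), Mv.b (nat_lit 20460), Mv.f (nat_lit 14287)])))
(Tr.lf (Fc.ed (nat_lit 20463) (nat_lit 4986) Col.e (nat_lit 6613) (Dv.wd (nat_lit 117) [Mv.b (nat_lit 17223), Mv.b (nat_lit 20460)]))))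
(Tr.nd (nat_lit 20465) (Tr.lf (Fc.ed (nat_lit 20464) (nat_lit 5604) Col.gi (nat_lit 6777) (Dv.wd (nat_lit 128) [Mv.b (nat_lit 17677), Mv.b (nat_lit 20462)])))
(Tr.nd (nat_lit 20466) (Tr.lf (Fc.ed (nat_lit 20465) (nat_lit 7421) Col.e (nat_lit 7361) (Dv.wd (nat_lit 133) [Mv.b (nat_lit 20322), Mv.f (nat_lit 20464), Mv.b (nat_lit 17674), Mv.f (nat_lit 17679), Mv.f (nat_lit 12492), Mv.f (nat_lit 12493), Mv.f (nat_lit 20030), Mv.f (nat_lit 17625), Mv.f (nat_lit 20430), Mv.f (nat_lit 20434)])))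
(Tr.lf (Fc.ed (nat_lit 20466) (nat_lit 6613) Col.b (nat_lit 1850) (Dv.wd (nat_lit 49) [Mv.b (nat_lit 5272), Mv.b (nat_lit 12931), Mv.f (nat_lit 20463)]))))))
(Tr.nd (nat_lit 20469) (Tr.nd (nat_lit 20468) (Tr.lf (Fc.al (nat_lit 20467) (nat_lit 6665) (nat_lit 5737) (Dv.wd (nat_lit 42) [Mv.b (nat_lit 14581), Mv.f (nat_lit 14354), Mv.f (nat_lit 14350), Mv.f (nat_lit 12930), Mv.f (nat_lit 20463), Mv.b (nat_lit 17386)])))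
(Tr.lf (Fc.ed (nat_lit 20468) (nat_lit 5737) Col.gi (nat_lit 4078) (Dv.wd (nat_lit 128) [Mv.f (nat_lit 17385), Mv.f (nat_lit 20467)]))))
(Tr.nd (nat_lit 20470) (Tr.lf (Fc.ed (nat_lit 20469) (nat_lit 3239) Col.g (nat_lit 4679) (Dv.wd (nat_lit 139) [Mv.b (nat_lit 19972), Mv.b (nat_lit 19971), Mv.b (nat_lit 19732), Mv.b (nat_lit 19546), Mv.b (nat_lit 19953), Mv.b (nat_lit 19954), Mv.f (nat_lit 15161), Mv.f (nat_lit 20468), Mv.f (nat_lit 12155)])))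
(Tr.nd (nat_lit 20471) (Tr.lf (Fc.ed (nat_lit 20470) (nat_lit 4439) Col.g (nat_lit 4106) (Dv.wd (nat_lit 63) [Mv.f (nat_lit 10590), Mv.b (nat_lit 9095), Mv.f (nat_lit 4664), Mv.b (nat_lit 4237), Mv.b (nat_lit 5047), Mv.b (nat_lit 10347), Mv.f (nat_lit 10348), Mv.f (nat_lit 20469), Mv.b (nat_lit 11833), Mv.b (nat_lit 11397)])))
(Tr.lf (Fc.ed (nat_lit 20471) (nat_lit 6922) Col.c (nat_lit 6944) (Dv.wd (nat_lit 156) [Mv.b (nat_lit 18028), Mv.b (nat_lit 17897), Mv.f (nat_lit 17539), Mv.f (nat_lit 20466), Mv.f (nat_lit 5273), Mv.b (nat_lit 6584), Mv.f (nat_lit 6626), Mv.f (nat_lit 9087), Mv.f (nat_lit 16298), Mv.f (nat_lit 17982)]))))))))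
(Tr.nd (nat_lit 20482) (Tr.nd (nat_lit 20477) (Tr.nd (nat_lit 20474) (Tr.nd (nat_lit 20473) (Tr.lf (Fc.ed (nat_lit 20472) (nat_lit 6944) Col.e (nat_lit 6926) (Dv.wd (nat_lit 25) [Mv.b (nat_lit 17992), Mv.b (nat_lit 17984), Mv.f (nat_lit 20471)])))
(Tr.lf (Fc.ed (nat_lit 20473) (nat_lit 3188) Col.d (nat_lit 7303) (Dv.wd (nat_lit 51) [Mv.b (nat_lit 20191), Mv.b (nat_lit 20067), Mv.f (nat_lit 15043), Mv.f (nat_lit 12930), Mv.f (nat_lit 20461), Mv.b (nat_lit 10623), Mv.f (nat_lit 17284), Mv.b (nat_lit 5064), Mv.f (nat_lit 16611)]))))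
(Tr.nd (nat_lit 20475) (Tr.lf (Fc.ed (nat_lit 20474) (nat_lit 5003) Col.g (nat_lit 6926) (Dv.wd (nat_lit 105) [Mv.b (nat_lit 17992), Mv.f (nat_lit 17876), Mv.b (nat_lit 9694), Mv.b (nat_lit 5818), Mv.b (nat_lit 5862), Mv.f (nat_lit 5864), Mv.b (nat_lit 4423), Mv.f (nat_lit 14349), Mv.f (nat_lit 20458), Mv.f (nat_lit 13009)])))
(Tr.nd (nat_lit 20476) (Tr.lf (Fc.ed (nat_lit 20475) (nat_lit 6964) Col.g (nat_lit 5003) (Dv.wd (nat_lit 17) [Mv.f (nat_lit 20474), Mv.b (nat_lit 19556), Mv.f (nat_lit 19557)])))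
(Tr.lf (Fc.ed (nat_lit 20476) (nat_lit 7132) Col.c (nat_lit 6963) (Dv.wd (nat_lit 81) [Mv.b (nat_lit 19979), Mv.b (nat_lit 19546), Mv.f (nat_lit 19958), Mv.f (nat_lit 18070), Mv.f (nat_lit 20475), Mv.b (nat_lit 13009), Mv.f (nat_lit 12451), Mv.f (nat_lit 13101), Mv.f (nat_lit 19646)]))))))
(Tr.nd (nat_lit 20479) (Tr.nd (nat_lit 20478) (Tr.lf (Fc.ed (nat_lit 20477) (nat_lit 7399) Col.c (nat_lit 7387) (Dv.wd (nat_lit 121) [Mv.b (nat_lit 20373), Mv.f (nat_lit 20476), Mv.b (nat_lit 19974), Mv.f (nat_lit 16704), Mv.f (nat_lit 20392)])))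
(Tr.lf (Fc.ed (nat_lit 20478) (nat_lit 6423) Col.b (nat_lit 6423) (Dv.wd (nat_lit 165) [Mv.f (nat_lit 17303), Mv.b (nat_lit 18193), Mv.b (nat_lit 19647), Mv.f (nat_lit 20476), Mv.b (nat_lit 19974), Mv.f (nat_lit 19937), Mv.f (nat_lit 17657), Mv.f (nat_lit 19943), Mv.b (nat_lit 19988), Mv.b (nat_lit 18148)]))))
(Tr.nd (nat_lit 20480) (Tr.lf (Fc.ed (nat_lit 20479) (nat_lit 7209) Col.gi (nat_lit 7387) (Dv.wd (nat_lit 100) [Mv.b (nat_lit 20373), Mv.f (nat_lit 20476), Mv.b (nat_lit 19979), Mv.f (nat_lit 19732), Mv.f (nat_lit 19971), Mv.b (nat_lit 20088), Mv.b (nat_lit 20087), Mv.f (nat_lit 17767), Mv.b (nat_lit 19792), Mv.f (nat_lit 19813)])))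
(Tr.nd (nat_lit 20481) (Tr.lf (Fc.ed (nat_lit 20480) (nat_lit 6630) Col.b (nat_lit 6630) (Dv.wd (nat_lit 107) [Mv.b (nat_lit 17773), Mv.f (nat_lit 20478), Mv.f (nat_lit 17773)])))
(Tr.lf (Fc.ed (nat_lit 20481) (nat_lit 1793) Col.a (nat_lit 1793) (Dv.wd (nat_lit 155) [Mv.b (nat_lit 12879), Mv.b (nat_lit 17320), Mv.f (nat_lit 20480), Mv.f (nat_lit 17320), Mv.f (nat_lit 12879)])))))))
(Tr.nd (nat_lit 20487) (Tr.nd (nat_lit 20484) (Tr.nd (nat_lit 20483) (Tr.lf (Fc.ed (nat_lit 20482) (nat_lit 2265) Col.f (nat_lit 1793) (Dv.wd (nat_lit 13) [Mv.f (nat_lit 20481), Mv.b (nat_lit 5852), Mv.f (nat_lit 6210)])))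
(Tr.lf (Fc.ed (nat_lit 20483) (nat_lit 2265) Col.a (nat_lit 2265) (Dv.wd (nat_lit 79) [Mv.f (nat_lit 20482), Mv.f (nat_lit 20481), Mv.b (nat_lit 20482)]))))
(Tr.nd (nat_lit 20485) (Tr.lf (Fc.ed (nat_lit 20484) (nat_lit 2256) Col.a (nat_lit 2256) (Dv.wd (nat_lit 76) [Mv.b (nat_lit 6212), Mv.f (nat_lit 20483), Mv.f (nat_lit 6212)])))
(Tr.nd (nat_lit 20486) (Tr.lf (Fc.ed (nat_lit 20485) (nat_lit 2365) Col.a (nat_lit 2365) (Dv.wd (nat_lit 31) [Mv.b (nat_lit 6443), Mv.f (nat_lit 20483), Mv.f (nat_lit 6443)])))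
(Tr.lf (Fc.ed (nat_lit 20486) (nat_lit 2207) Col.a (nat_lit 2207) (Dv.wd (nat_lit 54) [Mv.b (nat_lit 6446), Mv.f (nat_lit 20485), Mv.f (nat_lit 6446)]))))))
(Tr.nd (nat_lit 20490) (Tr.nd (nat_lit 20488) (Tr.lf (Fc.ed (nat_lit 20487) (nat_lit 2439) Col.f (nat_lit 2207) (Dv.wd (nat_lit 13) [Mv.f (nat_lit 20486), Mv.b (nat_lit 6091), Mv.f (nat_lit 6591)])))
(Tr.nd (nat_lit 20489) (Tr.lf (Fc.ed (nat_lit 20488) (nat_lit 2439) Col.a (nat_lit 2439) (Dv.wd (nat_lit 79) [Mv.f (nat_lit 20487), Mv.f (nat_lit 20486), Mv.b (nat_lit 20487)])))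
(Tr.lf (Fc.ed (nat_lit 20489) (nat_lit 2454) Col.a (nat_lit 2454) (Dv.wd (nat_lit 54) [Mv.b (nat_lit 6621), Mv.f (nat_lit 20488), Mv.f (nat_lit 6621)])))))
(Tr.nd (nat_lit 20491) (Tr.lf (Fc.ed (nat_lit 20490) (nat_lit 2365) Col.f (nat_lit 2454) (Dv.wd (nat_lit 13) [Mv.f (nat_lit 20489), Mv.f (nat_lit 6623), Mv.b (nat_lit 6445)])))
(Tr.nd (nat_lit 20492) (Tr.lf (Fc.ed (nat_lit 20491) (nat_lit 4717) Col.f (nat_lit 4422) (Dv.wd (nat_lit 20) [Mv.b (nat_lit 11367), Mv.f (nat_lit 20490), Mv.f (nat_lit 11905)])))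
(Tr.lf (Fc.ed (nat_lit 20492) (nat_lit 2364) Col.f (nat_lit 2325) (Dv.wd (nat_lit 26) [Mv.b (nat_lit 6444), Mv.f (nat_lit 20490), Mv.f (nat_lit 6622)])))))))))
(Tr.nd (nat_lit 20513) (Tr.nd (nat_lit 20503) (Tr.nd (nat_lit 20498) (Tr.nd (nat_lit 20495) (Tr.nd (nat_lit 20494) (Tr.lf (Fc.ed (nat_lit 20493) (nat_lit 4765) Col.f (nat_lit 4660) (Dv.wd (nat_lit 20) [Mv.b (nat_lit 11791), Mv.f (nat_lit 20492), Mv.f (nat_lit 12491)])))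
(Tr.lf (Fc.ed (nat_lit 20494) (nat_lit 4679) Col.f (nat_lit 4960) (Dv.wd (nat_lit 11) [Mv.b (nat_lit 12878), Mv.f (nat_lit 20493), Mv.f (nat_lit 11831)]))))
(Tr.nd (nat_lit 20496) (Tr.lf (Fc.ed (nat_lit 20495) (nat_lit 6772) Col.f (nat_lit 6835) (Dv.wd (nat_lit 26) [Mv.f (nat_lit 19972), Mv.f (nat_lit 20494), Mv.f (nat_lit 17668)])))
(Tr.nd (nat_lit 20497) (Tr.lf (Fc.ed (nat_lit 20496) (nat_lit 4512) Col.e (nat_lit 4717) (Dv.wd (nat_lit 140) [Mv.f (nat_lit 20491), Mv.f (nat_lit 11833), Mv.f (nat_lit 20494), Mv.b (nat_lit 12880), Mv.f (nat_lit 11519)])))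
(Tr.lf (Fc.ed (nat_lit 20497) (nat_lit 4717) Col.a (nat_lit 6696) (Dv.wd (nat_lit 15) [Mv.b (nat_lit 17483), Mv.b (nat_lit 14727), Mv.f (nat_lit 20496)]))))))
(Tr.nd (nat_lit 20500) (Tr.nd (nat_lit 20499) (Tr.lf (Fc.ed (nat_lit 20498) (nat_lit 6814) Col.f (nat_lit 6874) (Dv.wd (nat_lit 20) [Mv.f (nat_lit 17896), Mv.f (nat_lit 20495), Mv.b (nat_lit 20088)])))
(Tr.lf (Fc.ed (nat_lit 20499) (nat_lit 7175) Col.g (nat_lit 7210) (Dv.wd (nat_lit 9) [Mv.f (nat_lit 19817), Mv.f (nat_lit 20495), Mv.b (nat_lit 19971)]))))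
(Tr.nd (nat_lit 20501) (Tr.lf (Fc.ed (nat_lit 20500) (nat_lit 7210) Col.g (nat_lit 6548) (Dv.wd (nat_lit 9) [Mv.f (nat_lit 17337), Mv.b (nat_lit 19970), Mv.f (nat_lit 20499)])))
(Tr.nd (nat_lit 20502) (Tr.lf (Fc.ed (nat_lit 20501) (nat_lit 4950) Col.f (nat_lit 4862) (Dv.wd (nat_lit 26) [Mv.f (nat_lit 20087), Mv.f (nat_lit 20498), Mv.b (nat_lit 17895)])))
(Tr.lf (Fc.ed (nat_lit 20502) (nat_lit 4862) Col.a (nat_lit 6725) (Dv.wd (nat_lit 23) [Mv.f (nat_lit 17565), Mv.b (nat_lit 19919), Mv.f (nat_lit 20501)])))))))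
(Tr.nd (nat_lit 20508) (Tr.nd (nat_lit 20505) (Tr.nd (nat_lit 20504) (Tr.lf (Fc.al (nat_lit 20503) (nat_lit 6688) (nat_lit 6774) (Dv.wd (nat_lit 54) [Mv.b (nat_lit 17670), Mv.f (nat_lit 13785), Mv.f (nat_lit 20502), Mv.b (nat_lit 17564)])))
(Tr.lf (Fc.ed (nat_lit 20504) (nat_lit 6688) Col.a (nat_lit 5363) (Dv.wd (nat_lit 29) [Mv.f (nat_lit 17670), Mv.b (nat_lit 20503)]))))
(Tr.nd (nat_lit 20506) (Tr.lf (Fc.ed (nat_lit 20505) (nat_lit 6725) Col.b (nat_lit 6725) (Dv.wd (nat_lit 65) [Mv.b (nat_lit 20502), Mv.b (nat_lit 12683), Mv.f (nat_lit 20484), Mv.f (nat_lit 12683), Mv.f (nat_lit 20502)])))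
(Tr.nd (nat_lit 20507) (Tr.lf (Fc.ed (nat_lit 20506) (nat_lit 6166) Col.g (nat_lit 7204) (Dv.wd (nat_lit 123) [Mv.b (nat_lit 19790), Mv.f (nat_lit 20505), Mv.b (nat_lit 17566), Mv.f (nat_lit 19427), Mv.b (nat_lit 20106), Mv.b (nat_lit 19571), Mv.b (nat_lit 18150), Mv.f (nat_lit 18072), Mv.b (nat_lit 14383), Mv.b (nat_lit 15460)])))
(Tr.lf (Fc.ed (nat_lit 20507) (nat_lit 6035) Col.a (nat_lit 6044) (Dv.wd (nat_lit 31) [Mv.f (nat_lit 17430), Mv.f (nat_lit 20504), Mv.b (nat_lit 17768)]))))))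
(Tr.nd (nat_lit 20510) (Tr.nd (nat_lit 20509) (Tr.lf (Fc.al (nat_lit 20508) (nat_lit 6673) (nat_lit 6571) (Dv.wd (nat_lit 54) [Mv.f (nat_lit 17132), Mv.f (nat_lit 17772), Mv.f (nat_lit 20507), Mv.f (nat_lit 17398)])))
(Tr.lf (Fc.al (nat_lit 20509) (nat_lit 6792) (nat_lit 3683) (Dv.wd (nat_lit 129) [Mv.b (nat_lit 17399), Mv.f (nat_lit 20508), Mv.b (nat_lit 17710)]))))
(Tr.nd (nat_lit 20511) (Tr.lf (Fc.ed (nat_lit 20510) (nat_lit 3683) Col.gi (nat_lit 4512) (Dv.wd (nat_lit 128) [Mv.f (nat_lit 17709), Mv.f (nat_lit 20509)])))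
(Tr.nd (nat_lit 20512) (Tr.lf (Fc.al (nat_lit 20511) (nat_lit 5011) (nat_lit 6645) (Dv.wd (nat_lit 151) [Mv.b (nat_lit 17348), Mv.b (nat_lit 12052), Mv.f (nat_lit 16409), Mv.b (nat_lit 8538), Mv.b (nat_lit 5649), Mv.f (nat_lit 16390), Mv.b (nat_lit 12148), Mv.f (nat_lit 9203), Mv.f (nat_lit 20510), Mv.f (nat_lit 20496), Mv.b (nat_lit 13025)])))
(Tr.lf (Fc.ed (nat_lit 20512) (nat_lit 5011) Col.gi (nat_lit 4450) (Dv.wd (nat_lit 128) [Mv.f (nat_lit 17348), Mv.b (nat_lit 20511)]))))))))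
(Tr.nd (nat_lit 20523) (Tr.nd (nat_lit 20518) (Tr.nd (nat_lit 20515) (Tr.nd (nat_lit 20514) (Tr.lf (Fc.ed (nat_lit 20513) (nat_lit 4439) Col.f (nat_lit 5011) (Dv.wd (nat_lit 11) [Mv.f (nat_lit 13025), Mv.f (nat_lit 20491), Mv.b (nat_lit 11397)])))
(Tr.lf (Fc.ed (nat_lit 20514) (nat_lit 5011) Col.a (nat_lit 6530) (Dv.wd (nat_lit 16) [Mv.b (nat_lit 17049), Mv.b (nat_lit 15414), Mv.f (nat_lit 20513)]))))
(Tr.nd (nat_lit 20516) (Tr.lf (Fc.ed (nat_lit 20515) (nat_lit 6530) Col.gi (nat_lit 4106) (Dv.wd (nat_lit 12) [Mv.b (nat_lit 20470), Mv.f (nat_lit 20513), Mv.f (nat_lit 20514)])))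
(Tr.nd (nat_lit 20517) (Tr.lf (Fc.ed (nat_lit 20516) (nat_lit 6530) Col.d (nat_lit 6696) (Dv.wd (nat_lit 28) [Mv.b (nat_lit 20497), Mv.b (nat_lit 13025), Mv.f (nat_lit 20514)])))
(Tr.lf (Fc.ed (nat_lit 20517) (nat_lit 6140) Col.g (nat_lit 4450) (Dv.wd (nat_lit 17) [Mv.b (nat_lit 20512), Mv.f (nat_lit 20514), Mv.b (nat_lit 17049)]))))))
(Tr.nd (nat_lit 20520) (Tr.nd (nat_lit 20519) (Tr.lf (Fc.ed (nat_lit 20518) (nat_lit 6365) Col.g (nat_lit 6140) (Dv.wd (nat_lit 17) [Mv.f (nat_lit 20517), Mv.f (nat_lit 12051), Mv.f (nat_lit 16405)])))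
(Tr.lf (Fc.ed (nat_lit 20519) (nat_lit 6647) Col.d (nat_lit 6140) (Dv.wd (nat_lit 68) [Mv.f (nat_lit 20517), Mv.b (nat_lit 12052), Mv.b (nat_lit 8789), Mv.f (nat_lit 11967), Mv.b (nat_lit 4210), Mv.f (nat_lit 4209), Mv.f (nat_lit 8049), Mv.f (nat_lit 17293), Mv.f (nat_lit 17291), Mv.b (nat_lit 17352)]))))
(Tr.nd (nat_lit 20521) (Tr.lf (Fc.ed (nat_lit 20520) (nat_lit 6423) Col.e (nat_lit 6647) (Dv.wd (nat_lit 47) [Mv.f (nat_lit 20519), Mv.f (nat_lit 20517), Mv.b (nat_lit 12052), Mv.b (nat_lit 8789), Mv.f (nat_lit 11967), Mv.f (nat_lit 2948), Mv.b (nat_lit 10342), Mv.b (nat_lit 10355), Mv.f (nat_lit 10356), Mv.f (nat_lit 16673)])))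
(Tr.nd (nat_lit 20522) (Tr.lf (Fc.ed (nat_lit 20521) (nat_lit 6647) Col.f (nat_lit 6696) (Dv.wd (nat_lit 96) [Mv.b (nat_lit 17483), Mv.f (nat_lit 17131), Mv.f (nat_lit 17319), Mv.b (nat_lit 17773), Mv.f (nat_lit 20520)])))
(Tr.lf (Fc.al (nat_lit 20522) (nat_lit 6226) (nat_lit 4877) (Dv.wd (nat_lit 60) [Mv.f (nat_lit 12930), Mv.f (nat_lit 20463), Mv.b (nat_lit 17539), Mv.b (nat_lit 17538), Mv.b (nat_lit 17324), Mv.b (nat_lit 17294), Mv.f (nat_lit 20520), Mv.b (nat_lit 17351), Mv.b (nat_lit 17281), Mv.b (nat_lit 10138), Mv.f (nat_lit 17275)])))))))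
(Tr.nd (nat_lit 20528) (Tr.nd (nat_lit 20525) (Tr.nd (nat_lit 20524) (Tr.lf (Fc.ed (nat_lit 20523) (nat_lit 4877) Col.g (nat_lit 3828) (Dv.wd (nat_lit 129) [Mv.b (nat_lit 17305), Mv.f (nat_lit 20522)])))
(Tr.lf (Fc.ed (nat_lit 20524) (nat_lit 4877) Col.gi (nat_lit 3616) (Dv.wd (nat_lit 128) [Mv.f (nat_lit 17275), Mv.f (nat_lit 20522)]))))
(Tr.nd (nat_lit 20526) (Tr.lf (Fc.ed (nat_lit 20525) (nat_lit 6877) Col.c (nat_lit 6826) (Dv.wd (nat_lit 32) [Mv.b (nat_lit 17783), Mv.f (nat_lit 15043), Mv.f (nat_lit 20524), Mv.f (nat_lit 10138), Mv.b (nat_lit 4232), Mv.f (nat_lit 3044), Mv.b (nat_lit 6673), Mv.b (nat_lit 13592), Mv.f (nat_lit 17902)])))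
(Tr.nd (nat_lit 20527) (Tr.lf (Fc.ed (nat_lit 20526) (nat_lit 6826) Col.a (nat_lit 6777) (Dv.wd (nat_lit 19) [Mv.b (nat_lit 17676), Mv.b (nat_lit 17903), Mv.f (nat_lit 20525)])))
(Tr.lf (Fc.ed (nat_lit 20527) (nat_lit 6826) Col.f (nat_lit 6463) (Dv.wd (nat_lit 26) [Mv.f (nat_lit 17610), Mv.b (nat_lit 17904), Mv.f (nat_lit 20525)]))))))
(Tr.nd (nat_lit 20531) (Tr.nd (nat_lit 20529) (Tr.lf (Fc.ed (nat_lit 20528) (nat_lit 5920) Col.gi (nat_lit 6826) (Dv.wd (nat_lit 24) [Mv.f (nat_lit 20527), Mv.f (nat_lit 16747), Mv.f (nat_lit 14980)])))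
(Tr.nd (nat_lit 20530) (Tr.lf (Fc.ed (nat_lit 20529) (nat_lit 5604) Col.a (nat_lit 5920) (Dv.wd (nat_lit 23) [Mv.f (nat_lit 20528), Mv.b (nat_lit 17783), Mv.f (nat_lit 15042)])))
(Tr.lf (Fc.ed (nat_lit 20530) (nat_lit 6979) Col.e (nat_lit 6826) (Dv.wd (nat_lit 72) [Mv.f (nat_lit 20526), Mv.b (nat_lit 18184), Mv.b (nat_lit 18097)])))))
(Tr.nd (nat_lit 20532) (Tr.lf (Fc.ed (nat_lit 20531) (nat_lit 5905) Col.g (nat_lit 5951) (Dv.wd (nat_lit 17) [Mv.f (nat_lit 17783), Mv.f (nat_lit 20526), Mv.f (nat_lit 17675)])))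
(Tr.nd (nat_lit 20533) (Tr.lf (Fc.ed (nat_lit 20532) (nat_lit 5825) Col.d (nat_lit 6826) (Dv.wd (nat_lit 48) [Mv.b (nat_lit 17783), Mv.f (nat_lit 15043), Mv.f (nat_lit 20523), Mv.f (nat_lit 10140), Mv.b (nat_lit 6207), Mv.f (nat_lit 4286), Mv.b (nat_lit 5578), Mv.f (nat_lit 8393), Mv.f (nat_lit 14774)])))
(Tr.lf (Fc.ed (nat_lit 20533) (nat_lit 5829) Col.a (nat_lit 5825) (Dv.wd (nat_lit 54) [Mv.f (nat_lit 20532), Mv.f (nat_lit 20526), Mv.b (nat_lit 17674)])))))))))))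
(Tr.nd (nat_lit 20616) (Tr.nd (nat_lit 20575) (Tr.nd (nat_lit 20554) (Tr.nd (nat_lit 20544) (Tr.nd (nat_lit 20539) (Tr.nd (nat_lit 20536) (Tr.nd (nat_lit 20535) (Tr.lf (Fc.ed (nat_lit 20534) (nat_lit 5825) Col.gi (nat_lit 3521) (Dv.wd (nat_lit 12) [Mv.b (nat_lit 14468), Mv.f (nat_lit 14779), Mv.f (nat_lit 20533)])))
(Tr.lf (Fc.ed (nat_lit 20535) (nat_lit 5540) Col.gi (nat_lit 6979) (Dv.wd (nat_lit 163) [Mv.f (nat_lit 20530), Mv.b (nat_lit 20532), Mv.f (nat_lit 20534), Mv.f (nat_lit 8901), Mv.b (nat_lit 3640), Mv.b (nat_lit 6149), Mv.f (nat_lit 15102), Mv.f (nat_lit 19588), Mv.f (nat_lit 19666), Mv.f (nat_lit 19667)]))))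
(Tr.nd (nat_lit 20537) (Tr.lf (Fc.ed (nat_lit 20536) (nat_lit 6979) Col.c (nat_lit 6921) (Dv.wd (nat_lit 14) [Mv.b (nat_lit 17980), Mv.b (nat_lit 20102), Mv.f (nat_lit 20099), Mv.f (nat_lit 16686), Mv.b (nat_lit 15103), Mv.f (nat_lit 19588), Mv.f (nat_lit 19666), Mv.f (nat_lit 19667), Mv.f (nat_lit 20535)])))
(Tr.nd (nat_lit 20538) (Tr.lf (Fc.ed (nat_lit 20537) (nat_lit 6921) Col.b (nat_lit 6977) (Dv.wd (nat_lit 101) [Mv.b (nat_lit 18093), Mv.b (nat_lit 17900), Mv.f (nat_lit 19593), Mv.f (nat_lit 19872), Mv.f (nat_lit 18102), Mv.b (nat_lit 10917), Mv.f (nat_lit 9716), Mv.b (nat_lit 14166), Mv.f (nat_lit 20535), Mv.f (nat_lit 20536)])))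
(Tr.lf (Fc.ed (nat_lit 20538) (nat_lit 6921) Col.e (nat_lit 6877) (Dv.wd (nat_lit 25) [Mv.f (nat_lit 20525), Mv.b (nat_lit 20530), Mv.f (nat_lit 20536)]))))))
(Tr.nd (nat_lit 20541) (Tr.nd (nat_lit 20540) (Tr.lf (Fc.ed (nat_lit 20539) (nat_lit 7182) Col.d (nat_lit 6921) (Dv.wd (nat_lit 99) [Mv.f (nat_lit 20538), Mv.b (nat_lit 17902), Mv.f (nat_lit 16608), Mv.f (nat_lit 17429), Mv.f (nat_lit 19748)])))
(Tr.lf (Fc.ed (nat_lit 20540) (nat_lit 5280) Col.gi (nat_lit 6209) (Dv.wd (nat_lit 71) [Mv.f (nat_lit 15535), Mv.f (nat_lit 15536), Mv.f (nat_lit 9575), Mv.b (nat_lit 13805), Mv.b (nat_lit 16686), Mv.b (nat_lit 20099), Mv.f (nat_lit 20102), Mv.f (nat_lit 17980), Mv.f (nat_lit 20538), Mv.b (nat_lit 17902)]))))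
(Tr.nd (nat_lit 20542) (Tr.lf (Fc.ed (nat_lit 20541) (nat_lit 7068) Col.gi (nat_lit 6877) (Dv.wd (nat_lit 151) [Mv.b (nat_lit 17902), Mv.f (nat_lit 20540), Mv.f (nat_lit 15536), Mv.b (nat_lit 12183), Mv.b (nat_lit 12182), Mv.b (nat_lit 10198), Mv.b (nat_lit 16757), Mv.b (nat_lit 19956), Mv.f (nat_lit 18219), Mv.f (nat_lit 19964)])))
(Tr.nd (nat_lit 20543) (Tr.lf (Fc.ed (nat_lit 20542) (nat_lit 5066) Col.gi (nat_lit 7068) (Dv.wd (nat_lit 12) [Mv.f (nat_lit 20541), Mv.f (nat_lit 17904), Mv.f (nat_lit 17609)])))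
(Tr.lf (Fc.ed (nat_lit 20543) (nat_lit 7182) Col.gi (nat_lit 7029) (Dv.wd (nat_lit 151) [Mv.b (nat_lit 20304), Mv.b (nat_lit 19590), Mv.b (nat_lit 19880), Mv.f (nat_lit 19879), Mv.b (nat_lit 19965), Mv.b (nat_lit 19963), Mv.f (nat_lit 19434), Mv.f (nat_lit 20541), Mv.b (nat_lit 20538), Mv.b (nat_lit 20539)])))))))
(Tr.nd (nat_lit 20549) (Tr.nd (nat_lit 20546) (Tr.nd (nat_lit 20545) (Tr.lf (Fc.ed (nat_lit 20544) (nat_lit 7046) Col.g (nat_lit 6406) (Dv.wd (nat_lit 139) [Mv.f (nat_lit 17676), Mv.b (nat_lit 20464), Mv.b (nat_lit 14287), Mv.b (nat_lit 12930), Mv.b (nat_lit 15043), Mv.b (nat_lit 20531), Mv.f (nat_lit 14935), Mv.f (nat_lit 20542), Mv.b (nat_lit 19964)])))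
(Tr.lf (Fc.ed (nat_lit 20545) (nat_lit 6746) Col.g (nat_lit 7046) (Dv.wd (nat_lit 17) [Mv.f (nat_lit 20544), Mv.b (nat_lit 17903), Mv.f (nat_lit 17904)]))))
(Tr.nd (nat_lit 20547) (Tr.lf (Fc.ed (nat_lit 20546) (nat_lit 7354) Col.d (nat_lit 5920) (Dv.wd (nat_lit 48) [Mv.f (nat_lit 20528), Mv.b (nat_lit 20525), Mv.b (nat_lit 20541), Mv.b (nat_lit 19964), Mv.f (nat_lit 20544), Mv.f (nat_lit 16633), Mv.b (nat_lit 16610), Mv.f (nat_lit 20473), Mv.f (nat_lit 20309)])))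
(Tr.nd (nat_lit 20548) (Tr.lf (Fc.ed (nat_lit 20547) (nat_lit 7361) Col.a (nat_lit 7354) (Dv.wd (nat_lit 54) [Mv.f (nat_lit 20546), Mv.b (nat_lit 20529), Mv.f (nat_lit 20322)])))
(Tr.lf (Fc.al (nat_lit 20548) (nat_lit 6094) (nat_lit 6544) (Dv.wd (nat_lit 75) [Mv.b (nat_lit 17073), Mv.f (nat_lit 17608), Mv.f (nat_lit 20545), Mv.f (nat_lit 19964), Mv.b (nat_lit 19434), Mv.b (nat_lit 18030), Mv.b (nat_lit 16771), Mv.f (nat_lit 15263), Mv.f (nat_lit 16311), Mv.b (nat_lit 16536), Mv.f (nat_lit 16537)]))))))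
(Tr.nd (nat_lit 20551) (Tr.nd (nat_lit 20550) (Tr.lf (Fc.ed (nat_lit 20549) (nat_lit 6094) Col.gi (nat_lit 3664) (Dv.wd (nat_lit 128) [Mv.b (nat_lit 17074), Mv.b (nat_lit 20548)])))
(Tr.lf (Fc.ed (nat_lit 20550) (nat_lit 6094) Col.a (nat_lit 6749) (Dv.wd (nat_lit 29) [Mv.f (nat_lit 17619), Mv.b (nat_lit 20548)]))))
(Tr.nd (nat_lit 20552) (Tr.lf (Fc.ed (nat_lit 20551) (nat_lit 6749) Col.e (nat_lit 5638) (Dv.wd (nat_lit 56) [Mv.f (nat_lit 16570), Mv.f (nat_lit 16537), Mv.f (nat_lit 20550)])))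
(Tr.nd (nat_lit 20553) (Tr.lf (Fc.al (nat_lit 20552) (nat_lit 5935) (nat_lit 6627) (Dv.wd (nat_lit 79) [Mv.b (nat_lit 17311), Mv.b (nat_lit 15534), Mv.f (nat_lit 20550), Mv.b (nat_lit 17617)])))
(Tr.lf (Fc.ed (nat_lit 20553) (nat_lit 5935) Col.e (nat_lit 3941) (Dv.wd (nat_lit 117) [Mv.b (nat_lit 17312), Mv.b (nat_lit 20552)]))))))))
(Tr.nd (nat_lit 20564) (Tr.nd (nat_lit 20559) (Tr.nd (nat_lit 20556) (Tr.nd (nat_lit 20555) (Tr.lf (Fc.ed (nat_lit 20554) (nat_lit 6749) Col.gi (nat_lit 5280) (Dv.wd (nat_lit 12) [Mv.f (nat_lit 20540), Mv.b (nat_lit 15534), Mv.f (nat_lit 20550)])))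
(Tr.lf (Fc.ed (nat_lit 20555) (nat_lit 7010) Col.e (nat_lit 6845) (Dv.wd (nat_lit 146) [Mv.b (nat_lit 17983), Mv.b (nat_lit 19961), Mv.f (nat_lit 16772), Mv.b (nat_lit 14194), Mv.f (nat_lit 14355), Mv.b (nat_lit 20551), Mv.f (nat_lit 17618), Mv.f (nat_lit 20554), Mv.f (nat_lit 17902), Mv.b (nat_lit 18152)]))))
(Tr.nd (nat_lit 20557) (Tr.lf (Fc.ed (nat_lit 20556) (nat_lit 6990) Col.d (nat_lit 7010) (Dv.wd (nat_lit 39) [Mv.f (nat_lit 20555), Mv.f (nat_lit 19959), Mv.f (nat_lit 17638), Mv.f (nat_lit 9753), Mv.f (nat_lit 12185), Mv.f (nat_lit 12184), Mv.b (nat_lit 20553), Mv.b (nat_lit 15010), Mv.b (nat_lit 16633), Mv.f (nat_lit 18114)])))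
(Tr.nd (nat_lit 20558) (Tr.lf (Fc.ed (nat_lit 20557) (nat_lit 7063) Col.gi (nat_lit 6517) (Dv.wd (nat_lit 163) [Mv.f (nat_lit 17025), Mv.f (nat_lit 17608), Mv.b (nat_lit 18115), Mv.f (nat_lit 20556), Mv.f (nat_lit 20555), Mv.b (nat_lit 19960), Mv.b (nat_lit 17911), Mv.b (nat_lit 17700), Mv.b (nat_lit 19994), Mv.f (nat_lit 20001)])))
(Tr.lf (Fc.ed (nat_lit 20558) (nat_lit 6406) Col.e (nat_lit 6754) (Dv.wd (nat_lit 74) [Mv.b (nat_lit 17959), Mv.f (nat_lit 17901), Mv.b (nat_lit 16804), Mv.b (nat_lit 16573), Mv.f (nat_lit 16367), Mv.f (nat_lit 12701), Mv.f (nat_lit 16537), Mv.f (nat_lit 15332), Mv.f (nat_lit 20549), Mv.b (nat_lit 16633)]))))))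
(Tr.nd (nat_lit 20561) (Tr.nd (nat_lit 20560) (Tr.lf (Fc.ed (nat_lit 20559) (nat_lit 6934) Col.gi (nat_lit 6936) (Dv.wd (nat_lit 71) [Mv.b (nat_lit 18016), Mv.b (nat_lit 14245), Mv.f (nat_lit 12701), Mv.f (nat_lit 16537), Mv.f (nat_lit 15332), Mv.f (nat_lit 20549), Mv.b (nat_lit 16633), Mv.b (nat_lit 20544), Mv.b (nat_lit 18219), Mv.b (nat_lit 18013)])))
(Tr.lf (Fc.ed (nat_lit 20560) (nat_lit 6754) Col.b (nat_lit 5883) (Dv.wd (nat_lit 49) [Mv.b (nat_lit 16612), Mv.f (nat_lit 16632), Mv.f (nat_lit 20558)]))))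
(Tr.nd (nat_lit 20562) (Tr.lf (Fc.ed (nat_lit 20561) (nat_lit 6754) Col.c (nat_lit 6757) (Dv.wd (nat_lit 18) [Mv.f (nat_lit 18184), Mv.b (nat_lit 17676), Mv.f (nat_lit 20558)])))
(Tr.nd (nat_lit 20563) (Tr.lf (Fc.ed (nat_lit 20562) (nat_lit 6942) Col.c (nat_lit 6507) (Dv.wd (nat_lit 124) [Mv.b (nat_lit 17900), Mv.f (nat_lit 17959), Mv.f (nat_lit 20561), Mv.b (nat_lit 17635), Mv.b (nat_lit 14990), Mv.b (nat_lit 6764), Mv.f (nat_lit 6583), Mv.f (nat_lit 11108), Mv.f (nat_lit 17797), Mv.f (nat_lit 18026)])))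
(Tr.lf (Fc.ed (nat_lit 20563) (nat_lit 6910) Col.d (nat_lit 6942) (Dv.wd (nat_lit 85) [Mv.f (nat_lit 20562), Mv.b (nat_lit 16994), Mv.f (nat_lit 20114), Mv.b (nat_lit 14321), Mv.b (nat_lit 20109), Mv.b (nat_lit 13116), Mv.b (nat_lit 11921), Mv.f (nat_lit 12990), Mv.b (nat_lit 17961)])))))))
(Tr.nd (nat_lit 20569) (Tr.nd (nat_lit 20566) (Tr.nd (nat_lit 20565) (Tr.lf (Fc.al (nat_lit 20564) (nat_lit 6636) (nat_lit 5830) (Dv.wd (nat_lit 51) [Mv.b (nat_lit 16089), Mv.f (nat_lit 8733), Mv.f (nat_lit 8297), Mv.f (nat_lit 9300), Mv.f (nat_lit 13366), Mv.f (nat_lit 17960), Mv.f (nat_lit 20563), Mv.b (nat_lit 18026), Mv.b (nat_lit 17797), Mv.b (nat_lit 17329)])))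
(Tr.lf (Fc.al (nat_lit 20565) (nat_lit 6662) (nat_lit 6420) (Dv.wd (nat_lit 128) [Mv.f (nat_lit 17328), Mv.f (nat_lit 20564), Mv.f (nat_lit 17381)]))))
(Tr.nd (nat_lit 20567) (Tr.lf (Fc.ed (nat_lit 20566) (nat_lit 6420) Col.gi (nat_lit 5830) (Dv.wd (nat_lit 128) [Mv.f (nat_lit 17381), Mv.f (nat_lit 20565)])))
(Tr.nd (nat_lit 20568) (Tr.lf (Fc.ed (nat_lit 20567) (nat_lit 5669) Col.gi (nat_lit 6685) (Dv.wd (nat_lit 151) [Mv.b (nat_lit 17427), Mv.f (nat_lit 20566), Mv.f (nat_lit 16086), Mv.b (nat_lit 16032), Mv.f (nat_lit 9348), Mv.f (nat_lit 5425), Mv.b (nat_lit 6154), Mv.b (nat_lit 16055), Mv.f (nat_lit 10229), Mv.b (nat_lit 16124)])))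
(Tr.lf (Fc.ed (nat_lit 20568) (nat_lit 6685) Col.gi (nat_lit 4259) (Dv.wd (nat_lit 24) [Mv.f (nat_lit 14571), Mv.f (nat_lit 14572), Mv.f (nat_lit 20567)]))))))
(Tr.nd (nat_lit 20572) (Tr.nd (nat_lit 20570) (Tr.lf (Fc.ed (nat_lit 20569) (nat_lit 6419) Col.gi (nat_lit 6575) (Dv.wd (nat_lit 132) [Mv.f (nat_lit 17140), Mv.f (nat_lit 17427), Mv.f (nat_lit 20568), Mv.b (nat_lit 12441), Mv.b (nat_lit 7656), Mv.f (nat_lit 5432), Mv.f (nat_lit 5866), Mv.f (nat_lit 8682), Mv.f (nat_lit 14556), Mv.b (nat_lit 16667)])))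
(Tr.nd (nat_lit 20571) (Tr.lf (Fc.ed (nat_lit 20570) (nat_lit 3910) Col.gi (nat_lit 6419) (Dv.wd (nat_lit 12) [Mv.f (nat_lit 20569), Mv.f (nat_lit 17141), Mv.f (nat_lit 15836)])))
(Tr.lf (Fc.ed (nat_lit 20571) (nat_lit 6020) Col.gi (nat_lit 3910) (Dv.wd (nat_lit 12) [Mv.f (nat_lit 20570), Mv.b (nat_lit 16668), Mv.f (nat_lit 15265)])))))
(Tr.nd (nat_lit 20573) (Tr.lf (Fc.ed (nat_lit 20572) (nat_lit 6575) Col.gi (nat_lit 6020) (Dv.wd (nat_lit 12) [Mv.f (nat_lit 20571), Mv.b (nat_lit 12540), Mv.f (nat_lit 17139)])))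
(Tr.nd (nat_lit 20574) (Tr.lf (Fc.al (nat_lit 20573) (nat_lit 3262) (nat_lit 1823) (Dv.wd (nat_lit 162) [Mv.f (nat_lit 10674), Mv.f (nat_lit 16048), Mv.f (nat_lit 7198), Mv.b (nat_lit 16055), Mv.f (nat_lit 10229), Mv.b (nat_lit 16124), Mv.f (nat_lit 20567), Mv.b (nat_lit 17427), Mv.b (nat_lit 17140), Mv.f (nat_lit 20572), Mv.b (nat_lit 15195)])))
(Tr.lf (Fc.al (nat_lit 20574) (nat_lit 5715) (nat_lit 6062) (Dv.wd (nat_lit 119) [Mv.f (nat_lit 15268), Mv.f (nat_lit 20573), Mv.b (nat_lit 14543)])))))))))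
(Tr.nd (nat_lit 20595) (Tr.nd (nat_lit 20585) (Tr.nd (nat_lit 20580) (Tr.nd (nat_lit 20577) (Tr.nd (nat_lit 20576) (Tr.lf (Fc.al (nat_lit 20575) (nat_lit 6658) (nat_lit 5268) (Dv.wd (nat_lit 30) [Mv.f (nat_lit 15267), Mv.b (nat_lit 20574), Mv.f (nat_lit 17373)])))
(Tr.lf (Fc.al (nat_lit 20576) (nat_lit 5781) (nat_lit 6335) (Dv.wd (nat_lit 120) [Mv.b (nat_lit 17374), Mv.f (nat_lit 20575), Mv.b (nat_lit 14689)]))))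
(Tr.nd (nat_lit 20578) (Tr.lf (Fc.ed (nat_lit 20577) (nat_lit 5268) Col.f (nat_lit 5715) (Dv.wd (nat_lit 30) [Mv.f (nat_lit 17373), Mv.f (nat_lit 20575)])))
(Tr.nd (nat_lit 20579) (Tr.lf (Fc.ed (nat_lit 20578) (nat_lit 5781) Col.a (nat_lit 7128) (Dv.wd (nat_lit 29) [Mv.b (nat_lit 19636), Mv.b (nat_lit 20576)])))
(Tr.lf (Fc.ed (nat_lit 20579) (nat_lit 5781) Col.f (nat_lit 6028) (Dv.wd (nat_lit 30) [Mv.b (nat_lit 15846), Mv.b (nat_lit 20576)]))))))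
(Tr.nd (nat_lit 20582) (Tr.nd (nat_lit 20581) (Tr.lf (Fc.ed (nat_lit 20580) (nat_lit 7128) Col.d (nat_lit 6567) (Dv.wd (nat_lit 28) [Mv.b (nat_lit 17126), Mv.b (nat_lit 14689), Mv.f (nat_lit 20578)])))
(Tr.lf (Fc.ed (nat_lit 20581) (nat_lit 5572) Col.f (nat_lit 5260) (Dv.wd (nat_lit 26) [Mv.f (nat_lit 13568), Mv.f (nat_lit 20577), Mv.b (nat_lit 14542)]))))
(Tr.nd (nat_lit 20583) (Tr.lf (Fc.ed (nat_lit 20582) (nat_lit 5260) Col.a (nat_lit 4017) (Dv.wd (nat_lit 23) [Mv.f (nat_lit 9831), Mv.b (nat_lit 14227), Mv.f (nat_lit 20581)])))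
(Tr.nd (nat_lit 20584) (Tr.lf (Fc.ed (nat_lit 20583) (nat_lit 5426) Col.a (nat_lit 5572) (Dv.wd (nat_lit 114) [Mv.f (nat_lit 20581), Mv.f (nat_lit 13551), Mv.b (nat_lit 13911)])))
(Tr.lf (Fc.ed (nat_lit 20584) (nat_lit 5426) Col.f (nat_lit 4017) (Dv.wd (nat_lit 35) [Mv.b (nat_lit 20582), Mv.b (nat_lit 20581), Mv.b (nat_lit 20583)])))))))
(Tr.nd (nat_lit 20590) (Tr.nd (nat_lit 20587) (Tr.nd (nat_lit 20586) (Tr.lf (Fc.ed (nat_lit 20585) (nat_lit 5715) Col.a (nat_lit 6769) (Dv.wd (nat_lit 76) [Mv.b (nat_lit 17662), Mv.f (nat_lit 20583), Mv.f (nat_lit 14542)])))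
(Tr.lf (Fc.ed (nat_lit 20586) (nat_lit 6769) Col.d (nat_lit 6978) (Dv.wd (nat_lit 28) [Mv.f (nat_lit 18095), Mv.f (nat_lit 15211), Mv.f (nat_lit 20585)]))))
(Tr.nd (nat_lit 20588) (Tr.lf (Fc.ed (nat_lit 20587) (nat_lit 6769) Col.f (nat_lit 6567) (Dv.wd (nat_lit 35) [Mv.b (nat_lit 17126), Mv.f (nat_lit 20577), Mv.f (nat_lit 20585)])))
(Tr.nd (nat_lit 20589) (Tr.lf (Fc.ed (nat_lit 20588) (nat_lit 6567) Col.c (nat_lit 4017) (Dv.wd (nat_lit 34) [Mv.b (nat_lit 20584), Mv.f (nat_lit 17662), Mv.f (nat_lit 20587)])))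
(Tr.lf (Fc.ed (nat_lit 20589) (nat_lit 6701) Col.g (nat_lit 7135) (Dv.wd (nat_lit 77) [Mv.b (nat_lit 19654), Mv.f (nat_lit 20580), Mv.f (nat_lit 20588), Mv.f (nat_lit 9831), Mv.f (nat_lit 5800), Mv.f (nat_lit 12482), Mv.b (nat_lit 12555), Mv.b (nat_lit 16298), Mv.b (nat_lit 17502)]))))))
(Tr.nd (nat_lit 20592) (Tr.nd (nat_lit 20591) (Tr.lf (Fc.ed (nat_lit 20590) (nat_lit 7135) Col.g (nat_lit 6304) (Dv.wd (nat_lit 9) [Mv.f (nat_lit 16301), Mv.f (nat_lit 17503), Mv.f (nat_lit 20589)])))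
(Tr.lf (Fc.ed (nat_lit 20591) (nat_lit 7135) Col.d (nat_lit 7173) (Dv.wd (nat_lit 51) [Mv.f (nat_lit 19730), Mv.b (nat_lit 14566), Mv.f (nat_lit 10933), Mv.b (nat_lit 8652), Mv.f (nat_lit 8873), Mv.f (nat_lit 14303), Mv.b (nat_lit 16303), Mv.b (nat_lit 17502), Mv.f (nat_lit 20589)]))))
(Tr.nd (nat_lit 20593) (Tr.lf (Fc.ed (nat_lit 20592) (nat_lit 6594) Col.d (nat_lit 6754) (Dv.wd (nat_lit 116) [Mv.f (nat_lit 20560), Mv.f (nat_lit 16629), Mv.f (nat_lit 17193)])))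
(Tr.nd (nat_lit 20594) (Tr.lf (Fc.ed (nat_lit 20593) (nat_lit 7069) Col.gi (nat_lit 6594) (Dv.wd (nat_lit 71) [Mv.f (nat_lit 20592), Mv.b (nat_lit 20558), Mv.b (nat_lit 20544), Mv.b (nat_lit 18219), Mv.b (nat_lit 18013), Mv.f (nat_lit 20559), Mv.b (nat_lit 18016), Mv.b (nat_lit 19950), Mv.b (nat_lit 19947), Mv.b (nat_lit 19692)])))
(Tr.lf (Fc.ed (nat_lit 20594) (nat_lit 7335) Col.g (nat_lit 7397) (Dv.wd (nat_lit 77) [Mv.b (nat_lit 20390), Mv.f (nat_lit 17306), Mv.b (nat_lit 18102), Mv.f (nat_lit 19783), Mv.b (nat_lit 19781), Mv.f (nat_lit 17629), Mv.b (nat_lit 20592), Mv.b (nat_lit 20593), Mv.f (nat_lit 20268)]))))))))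
(Tr.nd (nat_lit 20605) (Tr.nd (nat_lit 20600) (Tr.nd (nat_lit 20597) (Tr.nd (nat_lit 20596) (Tr.lf (Fc.ed (nat_lit 20595) (nat_lit 6882) Col.f (nat_lit 7092) (Dv.wd (nat_lit 26) [Mv.b (nat_lit 19513), Mv.f (nat_lit 20521), Mv.f (nat_lit 17910)])))
(Tr.lf (Fc.ed (nat_lit 20596) (nat_lit 6601) Col.a (nat_lit 6882) (Dv.wd (nat_lit 114) [Mv.f (nat_lit 20595), Mv.f (nat_lit 19514), Mv.f (nat_lit 17202)]))))
(Tr.nd (nat_lit 20598) (Tr.lf (Fc.ed (nat_lit 20597) (nat_lit 4717) Col.c (nat_lit 6601) (Dv.wd (nat_lit 134) [Mv.f (nat_lit 20596), Mv.b (nat_lit 17910), Mv.b (nat_lit 20497)])))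
(Tr.nd (nat_lit 20599) (Tr.lf (Fc.ed (nat_lit 20598) (nat_lit 6601) Col.f (nat_lit 6949) (Dv.wd (nat_lit 26) [Mv.b (nat_lit 19973), Mv.b (nat_lit 20491), Mv.f (nat_lit 20597)])))
(Tr.lf (Fc.ed (nat_lit 20599) (nat_lit 6402) Col.g (nat_lit 6882) (Dv.wd (nat_lit 9) [Mv.b (nat_lit 20596), Mv.f (nat_lit 20598), Mv.b (nat_lit 20002)]))))))
(Tr.nd (nat_lit 20602) (Tr.nd (nat_lit 20601) (Tr.lf (Fc.ed (nat_lit 20600) (nat_lit 6882) Col.d (nat_lit 7377) (Dv.wd (nat_lit 51) [Mv.b (nat_lit 20356), Mv.b (nat_lit 20341), Mv.b (nat_lit 17416), Mv.b (nat_lit 17700), Mv.b (nat_lit 19994), Mv.f (nat_lit 20001), Mv.f (nat_lit 20557), Mv.b (nat_lit 17024), Mv.f (nat_lit 20599)])))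
(Tr.lf (Fc.ed (nat_lit 20601) (nat_lit 7378) Col.d (nat_lit 6080) (Dv.wd (nat_lit 48) [Mv.b (nat_lit 17419), Mv.f (nat_lit 15134), Mv.b (nat_lit 16437), Mv.b (nat_lit 10590), Mv.b (nat_lit 20515), Mv.f (nat_lit 20516), Mv.f (nat_lit 17910), Mv.f (nat_lit 20600), Mv.f (nat_lit 20357)]))))
(Tr.nd (nat_lit 20603) (Tr.lf (Fc.ed (nat_lit 20602) (nat_lit 6090) Col.d (nat_lit 7390) (Dv.wd (nat_lit 28) [Mv.b (nat_lit 20376), Mv.f (nat_lit 20601), Mv.f (nat_lit 15322)])))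
(Tr.nd (nat_lit 20604) (Tr.lf (Fc.ed (nat_lit 20603) (nat_lit 5011) Col.g (nat_lit 6365) (Dv.wd (nat_lit 17) [Mv.f (nat_lit 20518), Mv.b (nat_lit 15414), Mv.f (nat_lit 20513)])))
(Tr.lf (Fc.ed (nat_lit 20604) (nat_lit 7019) Col.c (nat_lit 6891) (Dv.wd (nat_lit 115) [Mv.f (nat_lit 19991), Mv.b (nat_lit 16252), Mv.f (nat_lit 5815), Mv.f (nat_lit 5877), Mv.b (nat_lit 7042), Mv.b (nat_lit 7041), Mv.f (nat_lit 13024), Mv.f (nat_lit 20603), Mv.b (nat_lit 17805), Mv.b (nat_lit 18169)])))))))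
(Tr.nd (nat_lit 20610) (Tr.nd (nat_lit 20607) (Tr.nd (nat_lit 20606) (Tr.lf (Fc.ed (nat_lit 20605) (nat_lit 7037) Col.g (nat_lit 6523) (Dv.wd (nat_lit 122) [Mv.f (nat_lit 17037), Mv.b (nat_lit 17805), Mv.b (nat_lit 18169), Mv.f (nat_lit 20604), Mv.f (nat_lit 19991), Mv.b (nat_lit 16252), Mv.f (nat_lit 8308), Mv.f (nat_lit 13446), Mv.f (nat_lit 17544), Mv.f (nat_lit 18200)])))
(Tr.lf (Fc.ed (nat_lit 20606) (nat_lit 6715) Col.gi (nat_lit 4464) (Dv.wd (nat_lit 157) [Mv.b (nat_lit 11437), Mv.b (nat_lit 15003), Mv.f (nat_lit 18168), Mv.f (nat_lit 20604), Mv.f (nat_lit 19991), Mv.f (nat_lit 16245), Mv.f (nat_lit 8191), Mv.f (nat_lit 11707), Mv.b (nat_lit 13447), Mv.f (nat_lit 17544)]))))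
(Tr.nd (nat_lit 20608) (Tr.lf (Fc.ed (nat_lit 20607) (nat_lit 4464) Col.gi (nat_lit 5195) (Dv.wd (nat_lit 24) [Mv.b (nat_lit 16107), Mv.b (nat_lit 17545), Mv.f (nat_lit 20606)])))
(Tr.nd (nat_lit 20609) (Tr.lf (Fc.ed (nat_lit 20608) (nat_lit 4560) Col.gi (nat_lit 5616) (Dv.wd (nat_lit 132) [Mv.f (nat_lit 14312), Mv.b (nat_lit 10245), Mv.f (nat_lit 9621), Mv.b (nat_lit 10564), Mv.b (nat_lit 10695), Mv.b (nat_lit 13532), Mv.f (nat_lit 13531), Mv.f (nat_lit 20607), Mv.b (nat_lit 13442), Mv.f (nat_lit 13443)])))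
(Tr.lf (Fc.ed (nat_lit 20609) (nat_lit 6660) Col.a (nat_lit 6587) (Dv.wd (nat_lit 23) [Mv.f (nat_lit 17178), Mv.f (nat_lit 20608), Mv.f (nat_lit 17377)]))))))
(Tr.nd (nat_lit 20613) (Tr.nd (nat_lit 20611) (Tr.lf (Fc.ed (nat_lit 20610) (nat_lit 5223) Col.g (nat_lit 5268) (Dv.wd (nat_lit 139) [Mv.b (nat_lit 13568), Mv.f (nat_lit 13551), Mv.f (nat_lit 8025), Mv.b (nat_lit 6521), Mv.b (nat_lit 8524), Mv.b (nat_lit 11330), Mv.b (nat_lit 11611), Mv.f (nat_lit 20608), Mv.f (nat_lit 14311)])))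
(Tr.nd (nat_lit 20612) (Tr.lf (Fc.ed (nat_lit 20611) (nat_lit 5268) Col.g (nat_lit 6635) (Dv.wd (nat_lit 9) [Mv.f (nat_lit 17641), Mv.f (nat_lit 17640), Mv.f (nat_lit 20610)])))
(Tr.lf (Fc.ed (nat_lit 20612) (nat_lit 6769) Col.g (nat_lit 5223) (Dv.wd (nat_lit 17) [Mv.f (nat_lit 20610), Mv.f (nat_lit 17126), Mv.b (nat_lit 20587)])))))
(Tr.nd (nat_lit 20614) (Tr.lf (Fc.ed (nat_lit 20613) (nat_lit 5715) Col.g (nat_lit 5065) (Dv.wd (nat_lit 63) [Mv.b (nat_lit 13139), Mv.b (nat_lit 9698), Mv.f (nat_lit 9549), Mv.b (nat_lit 10450), Mv.f (nat_lit 9214), Mv.f (nat_lit 8317), Mv.f (nat_lit 13473), Mv.f (nat_lit 20610), Mv.b (nat_lit 15212), Mv.f (nat_lit 15211)])))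
(Tr.nd (nat_lit 20615) (Tr.lf (Fc.ed (nat_lit 20614) (nat_lit 6759) Col.g (nat_lit 5715) (Dv.wd (nat_lit 17) [Mv.f (nat_lit 20613), Mv.b (nat_lit 13474), Mv.b (nat_lit 17640)])))
(Tr.lf (Fc.ed (nat_lit 20615) (nat_lit 6447) Col.g (nat_lit 6660) (Dv.wd (nat_lit 145) [Mv.f (nat_lit 17639), Mv.f (nat_lit 20614), Mv.b (nat_lit 15211), Mv.f (nat_lit 15517), Mv.f (nat_lit 15632), Mv.b (nat_lit 15634), Mv.b (nat_lit 14566), Mv.f (nat_lit 11385), Mv.f (nat_lit 16720)]))))))))))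
(Tr.nd (nat_lit 20657) (Tr.nd (nat_lit 20636) (Tr.nd (nat_lit 20626) (Tr.nd (nat_lit 20621) (Tr.nd (nat_lit 20618) (Tr.nd (nat_lit 20617) (Tr.lf (Fc.ed (nat_lit 20616) (nat_lit 4832) Col.gi (nat_lit 6660) (Dv.wd (nat_lit 141) [Mv.f (nat_lit 17639), Mv.f (nat_lit 20614), Mv.b (nat_lit 14542), Mv.f (nat_lit 14227), Mv.f (nat_lit 5800), Mv.f (nat_lit 4720), Mv.f (nat_lit 6541), Mv.b (nat_lit 12601), Mv.b (nat_lit 12620)])))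
(Tr.lf (Fc.ed (nat_lit 20617) (nat_lit 6929) Col.e (nat_lit 6447) (Dv.wd (nat_lit 131) [Mv.f (nat_lit 20615), Mv.f (nat_lit 17639), Mv.f (nat_lit 20614), Mv.b (nat_lit 15211), Mv.f (nat_lit 15212), Mv.f (nat_lit 20611), Mv.f (nat_lit 17327), Mv.b (nat_lit 16819), Mv.f (nat_lit 17728), Mv.f (nat_lit 17997)]))))
(Tr.nd (nat_lit 20619) (Tr.lf (Fc.ed (nat_lit 20618) (nat_lit 6907) Col.c (nat_lit 6929) (Dv.wd (nat_lit 109) [Mv.f (nat_lit 20617), Mv.b (nat_lit 16720), Mv.f (nat_lit 17952)])))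
(Tr.nd (nat_lit 20620) (Tr.lf (Fc.ed (nat_lit 20619) (nat_lit 6801) Col.c (nat_lit 5259) (Dv.wd (nat_lit 32) [Mv.b (nat_lit 13548), Mv.b (nat_lit 11284), Mv.b (nat_lit 9138), Mv.b (nat_lit 15926), Mv.b (nat_lit 17447), Mv.f (nat_lit 14869), Mv.f (nat_lit 17954), Mv.f (nat_lit 20618), Mv.b (nat_lit 17997)])))
(Tr.lf (Fc.ed (nat_lit 20620) (nat_lit 5195) Col.a (nat_lit 6801) (Dv.wd (nat_lit 76) [Mv.f (nat_lit 20619), Mv.f (nat_lit 16110), Mv.f (nat_lit 13419)]))))))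
(Tr.nd (nat_lit 20623) (Tr.nd (nat_lit 20622) (Tr.lf (Fc.ed (nat_lit 20621) (nat_lit 6715) Col.f (nat_lit 6801) (Dv.wd (nat_lit 64) [Mv.f (nat_lit 20619), Mv.b (nat_lit 16113), Mv.f (nat_lit 17544)])))
(Tr.lf (Fc.ed (nat_lit 20622) (nat_lit 7000) Col.f (nat_lit 7037) (Dv.wd (nat_lit 20) [Mv.b (nat_lit 18200), Mv.f (nat_lit 20621), Mv.f (nat_lit 18132)]))))
(Tr.nd (nat_lit 20624) (Tr.lf (Fc.ed (nat_lit 20623) (nat_lit 6956) Col.a (nat_lit 7000) (Dv.wd (nat_lit 114) [Mv.f (nat_lit 20622), Mv.f (nat_lit 20605), Mv.b (nat_lit 18049)])))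
(Tr.nd (nat_lit 20625) (Tr.lf (Fc.ed (nat_lit 20624) (nat_lit 3580) Col.b (nat_lit 6956) (Dv.wd (nat_lit 108) [Mv.f (nat_lit 20623), Mv.b (nat_lit 18132), Mv.b (nat_lit 20620), Mv.f (nat_lit 13420), Mv.f (nat_lit 16104)])))
(Tr.lf (Fc.ed (nat_lit 20625) (nat_lit 6813) Col.b (nat_lit 3972) (Dv.wd (nat_lit 126) [Mv.b (nat_lit 9761), Mv.f (nat_lit 20624), Mv.f (nat_lit 18050)])))))))
(Tr.nd (nat_lit 20631) (Tr.nd (nat_lit 20628) (Tr.nd (nat_lit 20627) (Tr.lf (Fc.ed (nat_lit 20626) (nat_lit 3691) Col.b (nat_lit 6966) (Dv.wd (nat_lit 127) [Mv.b (nat_lit 18073), Mv.f (nat_lit 20625), Mv.f (nat_lit 10673)])))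
(Tr.lf (Fc.ed (nat_lit 20627) (nat_lit 7139) Col.b (nat_lit 7317) (Dv.wd (nat_lit 158) [Mv.b (nat_lit 20221), Mv.f (nat_lit 20025), Mv.f (nat_lit 20005), Mv.f (nat_lit 20626), Mv.f (nat_lit 19663)]))))
(Tr.nd (nat_lit 20629) (Tr.lf (Fc.ed (nat_lit 20628) (nat_lit 7139) Col.gi (nat_lit 7149) (Dv.wd (nat_lit 88) [Mv.b (nat_lit 19679), Mv.b (nat_lit 16992), Mv.f (nat_lit 18069), Mv.b (nat_lit 19974), Mv.f (nat_lit 16704), Mv.f (nat_lit 9450), Mv.f (nat_lit 8366), Mv.b (nat_lit 9221), Mv.f (nat_lit 20626), Mv.f (nat_lit 19663)])))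
(Tr.nd (nat_lit 20630) (Tr.lf (Fc.ed (nat_lit 20629) (nat_lit 3934) Col.gi (nat_lit 4832) (Dv.wd (nat_lit 12) [Mv.f (nat_lit 20616), Mv.b (nat_lit 17377), Mv.b (nat_lit 14310)])))
(Tr.lf (Fc.ed (nat_lit 20630) (nat_lit 6447) Col.gi (nat_lit 3934) (Dv.wd (nat_lit 12) [Mv.f (nat_lit 20629), Mv.b (nat_lit 16101), Mv.b (nat_lit 16721)]))))))
(Tr.nd (nat_lit 20633) (Tr.nd (nat_lit 20632) (Tr.lf (Fc.ed (nat_lit 20631) (nat_lit 3934) Col.f (nat_lit 6587) (Dv.wd (nat_lit 13) [Mv.b (nat_lit 20609), Mv.b (nat_lit 20615), Mv.f (nat_lit 20630)])))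
(Tr.lf (Fc.ed (nat_lit 20632) (nat_lit 6587) Col.b (nat_lit 6592) (Dv.wd (nat_lit 66) [Mv.b (nat_lit 17187), Mv.f (nat_lit 10540), Mv.f (nat_lit 20631)]))))
(Tr.nd (nat_lit 20634) (Tr.lf (Fc.ed (nat_lit 20633) (nat_lit 6878) Col.f (nat_lit 5606) (Dv.wd (nat_lit 26) [Mv.f (nat_lit 14292), Mv.f (nat_lit 20631), Mv.f (nat_lit 17905)])))
(Tr.nd (nat_lit 20635) (Tr.lf (Fc.ed (nat_lit 20634) (nat_lit 7055) Col.gi (nat_lit 6878) (Dv.wd (nat_lit 88) [Mv.b (nat_lit 17905), Mv.f (nat_lit 20632), Mv.b (nat_lit 17303), Mv.f (nat_lit 20478), Mv.f (nat_lit 18148), Mv.f (nat_lit 19988), Mv.b (nat_lit 19943), Mv.f (nat_lit 18066), Mv.b (nat_lit 19949), Mv.f (nat_lit 18229)])))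
(Tr.lf (Fc.ed (nat_lit 20635) (nat_lit 6114) Col.gi (nat_lit 7055) (Dv.wd (nat_lit 12) [Mv.f (nat_lit 20634), Mv.f (nat_lit 20633), Mv.b (nat_lit 15370)]))))))))
(Tr.nd (nat_lit 20646) (Tr.nd (nat_lit 20641) (Tr.nd (nat_lit 20638) (Tr.nd (nat_lit 20637) (Tr.lf (Fc.ed (nat_lit 20636) (nat_lit 4760) Col.c (nat_lit 7229) (Dv.wd (nat_lit 138) [Mv.b (nat_lit 19884), Mv.b (nat_lit 19517), Mv.b (nat_lit 14311), Mv.f (nat_lit 15369), Mv.f (nat_lit 20635), Mv.b (nat_lit 18229), Mv.f (nat_lit 8612), Mv.b (nat_lit 8652), Mv.b (nat_lit 12483)])))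
(Tr.lf (Fc.ed (nat_lit 20637) (nat_lit 6993) Col.g (nat_lit 6978) (Dv.wd (nat_lit 75) [Mv.b (nat_lit 20586), Mv.f (nat_lit 20612), Mv.b (nat_lit 14311), Mv.f (nat_lit 14312), Mv.b (nat_lit 9526), Mv.f (nat_lit 13635), Mv.f (nat_lit 13636), Mv.f (nat_lit 16457), Mv.f (nat_lit 17340), Mv.f (nat_lit 18118)]))))
(Tr.nd (nat_lit 20639) (Tr.lf (Fc.ed (nat_lit 20638) (nat_lit 5781) Col.g (nat_lit 6993) (Dv.wd (nat_lit 17) [Mv.f (nat_lit 20637), Mv.f (nat_lit 18095), Mv.b (nat_lit 20579)])))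
(Tr.nd (nat_lit 20640) (Tr.lf (Fc.ed (nat_lit 20639) (nat_lit 6993) Col.c (nat_lit 7256) (Dv.wd (nat_lit 138) [Mv.b (nat_lit 20053), Mv.b (nat_lit 19693), Mv.f (nat_lit 12555), Mv.f (nat_lit 20636), Mv.f (nat_lit 19885), Mv.b (nat_lit 19533), Mv.b (nat_lit 20611), Mv.b (nat_lit 14689), Mv.f (nat_lit 20638)])))
(Tr.lf (Fc.ed (nat_lit 20640) (nat_lit 7156) Col.d (nat_lit 7401) (Dv.wd (nat_lit 51) [Mv.b (nat_lit 20395), Mv.b (nat_lit 20293), Mv.b (nat_lit 15369), Mv.f (nat_lit 14311), Mv.b (nat_lit 20612), Mv.f (nat_lit 20586), Mv.b (nat_lit 20637), Mv.f (nat_lit 20639), Mv.b (nat_lit 20053)]))))))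
(Tr.nd (nat_lit 20643) (Tr.nd (nat_lit 20642) (Tr.lf (Fc.ed (nat_lit 20641) (nat_lit 2656) Col.e (nat_lit 7431) Dv.df))
(Tr.lf (Fc.ed (nat_lit 20642) (nat_lit 7431) Col.a (nat_lit 7426) (Dv.wd (nat_lit 15) [Mv.b (nat_lit 20445), Mv.f (nat_lit 7087), Mv.f (nat_lit 20641)]))))
(Tr.nd (nat_lit 20644) (Tr.lf (Fc.ed (nat_lit 20643) (nat_lit 7431) Col.c (nat_lit 7296) (Dv.wd (nat_lit 18) [Mv.b (nat_lit 20178), Mv.b (nat_lit 7095), Mv.f (nat_lit 20641)])))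
(Tr.nd (nat_lit 20645) (Tr.lf (Fc.ed (nat_lit 20644) (nat_lit 6524) Col.e (nat_lit 7432) Dv.df))
(Tr.lf (Fc.ed (nat_lit 20645) (nat_lit 7432) Col.a (nat_lit 6666) (Dv.wd (nat_lit 15) [Mv.f (nat_lit 19341), Mv.f (nat_lit 19343), Mv.f (nat_lit 20644)])))))))
(Tr.nd (nat_lit 20651) (Tr.nd (nat_lit 20648) (Tr.nd (nat_lit 20647) (Tr.lf (Fc.ed (nat_lit 20646) (nat_lit 6106) Col.e (nat_lit 7433) Dv.df))
(Tr.lf (Fc.ed (nat_lit 20647) (nat_lit 7433) Col.c (nat_lit 7330) (Dv.wd (nat_lit 18) [Mv.b (nat_lit 20259), Mv.f (nat_lit 17078), Mv.f (nat_lit 20646)]))))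
(Tr.nd (nat_lit 20649) (Tr.lf (Fc.ed (nat_lit 20648) (nat_lit 7433) Col.g (nat_lit 7434) Dv.df))
(Tr.nd (nat_lit 20650) (Tr.lf (Fc.ed (nat_lit 20649) (nat_lit 7434) Col.d (nat_lit 7237) (Dv.wd (nat_lit 68) [Mv.b (nat_lit 19899), Mv.f (nat_lit 17849), Mv.f (nat_lit 17846), Mv.f (nat_lit 20032), Mv.f (nat_lit 14745), Mv.b (nat_lit 13892), Mv.f (nat_lit 20014), Mv.f (nat_lit 20147), Mv.f (nat_lit 20646), Mv.f (nat_lit 20648)])))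
(Tr.lf (Fc.ed (nat_lit 20650) (nat_lit 7175) Col.d (nat_lit 7435) Dv.df)))))
(Tr.nd (nat_lit 20654) (Tr.nd (nat_lit 20652) (Tr.lf (Fc.ed (nat_lit 20651) (nat_lit 7435) Col.a (nat_lit 7430) (Dv.wd (nat_lit 8) [Mv.f (nat_lit 20455), Mv.f (nat_lit 19969), Mv.f (nat_lit 20650)])))
(Tr.nd (nat_lit 20653) (Tr.lf (Fc.ed (nat_lit 20652) (nat_lit 7146) Col.g (nat_lit 7435) (Dv.wd (nat_lit 9) [Mv.f (nat_lit 20651), Mv.b (nat_lit 20453), Mv.f (nat_lit 19675)])))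
(Tr.lf (Fc.ed (nat_lit 20653) (nat_lit 7423) Col.a (nat_lit 7436) Dv.df))))
(Tr.nd (nat_lit 20655) (Tr.lf (Fc.ed (nat_lit 20654) (nat_lit 7436) Col.d (nat_lit 7213) (Dv.wd (nat_lit 28) [Mv.f (nat_lit 19827), Mv.f (nat_lit 20438), Mv.f (nat_lit 20653)])))
(Tr.nd (nat_lit 20656) (Tr.lf (Fc.ed (nat_lit 20655) (nat_lit 7316) Col.c (nat_lit 7437) Dv.df))
(Tr.lf (Fc.ed (nat_lit 20656) (nat_lit 7437) Col.b (nat_lit 7394) (Dv.wd (nat_lit 87) [Mv.f (nat_lit 20385), Mv.f (nat_lit 15246), Mv.f (nat_lit 19886), Mv.f (nat_lit 20220), Mv.f (nat_lit 20655)])))))))))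
(Tr.nd (nat_lit 20678) (Tr.nd (nat_lit 20667) (Tr.nd (nat_lit 20662) (Tr.nd (nat_lit 20659) (Tr.nd (nat_lit 20658) (Tr.lf (Fc.ed (nat_lit 20657) (nat_lit 7191) Col.e (nat_lit 7438) Dv.df))
(Tr.lf (Fc.ed (nat_lit 20658) (nat_lit 7438) Col.b (nat_lit 7398) (Dv.wd (nat_lit 49) [Mv.b (nat_lit 20391), Mv.f (nat_lit 19768), Mv.f (nat_lit 20657)]))))
(Tr.nd (nat_lit 20660) (Tr.lf (Fc.ed (nat_lit 20659) (nat_lit 6710) Col.d (nat_lit 7439) Dv.df))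
(Tr.nd (nat_lit 20661) (Tr.lf (Fc.ed (nat_lit 20660) (nat_lit 7439) Col.f (nat_lit 7415) (Dv.wd (nat_lit 11) [Mv.f (nat_lit 20424), Mv.b (nat_lit 19522), Mv.f (nat_lit 20659)])))
(Tr.lf (Fc.ed (nat_lit 20661) (nat_lit 7412) Col.c (nat_lit 7440) Dv.df)))))
(Tr.nd (nat_lit 20664) (Tr.nd (nat_lit 20663) (Tr.lf (Fc.ed (nat_lit 20662) (nat_lit 7294) Col.g (nat_lit 7441) Dv.df))
(Tr.lf (Fc.ed (nat_lit 20663) (nat_lit 7441) Col.g (nat_lit 7183) (Dv.wd (nat_lit 9) [Mv.f (nat_lit 20197), Mv.f (nat_lit 20198), Mv.f (nat_lit 20662)]))))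
(Tr.nd (nat_lit 20665) (Tr.lf (Fc.ed (nat_lit 20664) (nat_lit 7441) Col.c (nat_lit 7401) (Dv.wd (nat_lit 83) [Mv.b (nat_lit 20640), Mv.b (nat_lit 19693), Mv.f (nat_lit 16299), Mv.f (nat_lit 16300), Mv.b (nat_lit 20590), Mv.f (nat_lit 20591), Mv.f (nat_lit 19730), Mv.f (nat_lit 20174), Mv.f (nat_lit 20662)])))
(Tr.nd (nat_lit 20666) (Tr.lf (Fc.ed (nat_lit 20665) (nat_lit 7225) Col.c (nat_lit 7442) Dv.df))
(Tr.lf (Fc.ed (nat_lit 20666) (nat_lit 7439) Col.c (nat_lit 7443) Dv.df))))))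
(Tr.nd (nat_lit 20672) (Tr.nd (nat_lit 20669) (Tr.nd (nat_lit 20668) (Tr.lf (Fc.ed (nat_lit 20667) (nat_lit 7443) Col.gi (nat_lit 7370) (Dv.wd (nat_lit 78) [Mv.b (nat_lit 20338), Mv.b (nat_lit 20181), Mv.b (nat_lit 20180), Mv.f (nat_lit 19470), Mv.b (nat_lit 19102), Mv.f (nat_lit 17237), Mv.f (nat_lit 17536), Mv.f (nat_lit 20659), Mv.f (nat_lit 20666)])))
(Tr.lf (Fc.ed (nat_lit 20668) (nat_lit 5922) Col.f (nat_lit 7444) Dv.df)))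
(Tr.nd (nat_lit 20670) (Tr.lf (Fc.ed (nat_lit 20669) (nat_lit 7444) Col.b (nat_lit 7393) (Dv.wd (nat_lit 66) [Mv.b (nat_lit 20382), Mv.f (nat_lit 14982), Mv.f (nat_lit 20668)])))
(Tr.nd (nat_lit 20671) (Tr.lf (Fc.ed (nat_lit 20670) (nat_lit 6910) Col.c (nat_lit 7445) Dv.df))
(Tr.lf (Fc.ed (nat_lit 20671) (nat_lit 7386) Col.d (nat_lit 7446) Dv.df)))))
(Tr.nd (nat_lit 20675) (Tr.nd (nat_lit 20673) (Tr.lf (Fc.ed (nat_lit 20672) (nat_lit 7446) Col.f (nat_lit 6049) (Dv.wd (nat_lit 11) [Mv.f (nat_lit 15247), Mv.f (nat_lit 20372), Mv.f (nat_lit 20671)])))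
(Tr.nd (nat_lit 20674) (Tr.lf (Fc.ed (nat_lit 20673) (nat_lit 7387) Col.gi (nat_lit 7446) (Dv.wd (nat_lit 24) [Mv.f (nat_lit 20672), Mv.b (nat_lit 19814), Mv.f (nat_lit 20479)])))
(Tr.lf (Fc.ed (nat_lit 20674) (nat_lit 5653) Col.e (nat_lit 7447) Dv.df))))
(Tr.nd (nat_lit 20676) (Tr.lf (Fc.ed (nat_lit 20675) (nat_lit 7447) Col.f (nat_lit 7420) (Dv.wd (nat_lit 96) [Mv.f (nat_lit 20432), Mv.f (nat_lit 18034), Mv.b (nat_lit 19236), Mv.f (nat_lit 19285), Mv.f (nat_lit 20674)])))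
(Tr.nd (nat_lit 20677) (Tr.lf (Fc.ed (nat_lit 20676) (nat_lit 6509) Col.gi (nat_lit 7447) (Dv.wd (nat_lit 24) [Mv.f (nat_lit 20675), Mv.b (nat_lit 20433), Mv.b (nat_lit 20421)])))
(Tr.lf (Fc.ed (nat_lit 20677) (nat_lit 7447) Col.gi (nat_lit 7080) (Dv.wd (nat_lit 24) [Mv.b (nat_lit 19536), Mv.b (nat_lit 19538), Mv.f (nat_lit 20676)]))))))))
(Tr.nd (nat_lit 20688) (Tr.nd (nat_lit 20683) (Tr.nd (nat_lit 20680) (Tr.nd (nat_lit 20679) (Tr.lf (Fc.ed (nat_lit 20678) (nat_lit 7436) Col.gi (nat_lit 7448) Dv.df))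
(Tr.lf (Fc.ed (nat_lit 20679) (nat_lit 7448) Col.gi (nat_lit 7389) (Dv.wd (nat_lit 24) [Mv.b (nat_lit 20439), Mv.f (nat_lit 20653), Mv.f (nat_lit 20678)]))))
(Tr.nd (nat_lit 20681) (Tr.lf (Fc.ed (nat_lit 20680) (nat_lit 7448) Col.d (nat_lit 7447) (Dv.wd (nat_lit 48) [Mv.f (nat_lit 20677), Mv.f (nat_lit 19453), Mv.f (nat_lit 11907), Mv.b (nat_lit 17218), Mv.f (nat_lit 20291), Mv.b (nat_lit 20335), Mv.f (nat_lit 20334), Mv.b (nat_lit 20654), Mv.f (nat_lit 20678)])))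
(Tr.nd (nat_lit 20682) (Tr.lf (Fc.ed (nat_lit 20681) (nat_lit 6923) Col.g (nat_lit 7449) Dv.df))
(Tr.lf (Fc.ed (nat_lit 20682) (nat_lit 7449) Col.e (nat_lit 7309) (Dv.wd (nat_lit 47) [Mv.f (nat_lit 20203), Mv.b (nat_lit 19982), Mv.f (nat_lit 19448), Mv.f (nat_lit 19450), Mv.f (nat_lit 15669), Mv.f (nat_lit 20237), Mv.b (nat_lit 19492), Mv.b (nat_lit 14203), Mv.f (nat_lit 17985), Mv.f (nat_lit 20681)]))))))
(Tr.nd (nat_lit 20685) (Tr.nd (nat_lit 20684) (Tr.lf (Fc.ed (nat_lit 20683) (nat_lit 7084) Col.b (nat_lit 7450) Dv.df))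
(Tr.lf (Fc.ed (nat_lit 20684) (nat_lit 7450) Col.e (nat_lit 7405) (Dv.wd (nat_lit 52) [Mv.b (nat_lit 20403), Mv.b (nat_lit 19469), Mv.f (nat_lit 20683)]))))
(Tr.nd (nat_lit 20686) (Tr.lf (Fc.ed (nat_lit 20685) (nat_lit 7179) Col.gi (nat_lit 7451) Dv.df))
(Tr.nd (nat_lit 20687) (Tr.lf (Fc.ed (nat_lit 20686) (nat_lit 7451) Col.e (nat_lit 7118) (Dv.wd (nat_lit 146) [Mv.b (nat_lit 19583), Mv.b (nat_lit 14088), Mv.b (nat_lit 13004), Mv.f (nat_lit 13245), Mv.f (nat_lit 14386), Mv.f (nat_lit 20674), Mv.b (nat_lit 20680), Mv.f (nat_lit 20679), Mv.b (nat_lit 20375), Mv.f (nat_lit 20685)])))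
(Tr.lf (Fc.ed (nat_lit 20687) (nat_lit 7438) Col.c (nat_lit 7451) (Dv.wd (nat_lit 109) [Mv.f (nat_lit 20686), Mv.b (nat_lit 19769), Mv.f (nat_lit 20657)])))))))
(Tr.nd (nat_lit 20693) (Tr.nd (nat_lit 20690) (Tr.nd (nat_lit 20689) (Tr.lf (Fc.ed (nat_lit 20688) (nat_lit 7405) Col.g (nat_lit 7398) (Dv.wd (nat_lit 122) [Mv.b (nat_lit 20658), Mv.f (nat_lit 20687), Mv.b (nat_lit 20685), Mv.f (nat_lit 19742), Mv.b (nat_lit 19702), Mv.f (nat_lit 11186), Mv.f (nat_lit 8364), Mv.f (nat_lit 8311), Mv.b (nat_lit 19108), Mv.f (nat_lit 20403)])))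
(Tr.lf (Fc.ed (nat_lit 20689) (nat_lit 7066) Col.d (nat_lit 7452) Dv.df)))
(Tr.nd (nat_lit 20691) (Tr.lf (Fc.ed (nat_lit 20690) (nat_lit 7452) Col.b (nat_lit 7349) (Dv.wd (nat_lit 37) [Mv.b (nat_lit 20294), Mv.b (nat_lit 19430), Mv.f (nat_lit 20689)])))
(Tr.nd (nat_lit 20692) (Tr.lf (Fc.ed (nat_lit 20691) (nat_lit 7008) Col.a (nat_lit 7453) Dv.df))
(Tr.lf (Fc.ed (nat_lit 20692) (nat_lit 7453) Col.b (nat_lit 7432) (Dv.wd (nat_lit 65) [Mv.f (nat_lit 20645), Mv.b (nat_lit 17387), Mv.f (nat_lit 11718), Mv.f (nat_lit 18149), Mv.f (nat_lit 20691)]))))))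
(Tr.nd (nat_lit 20696) (Tr.nd (nat_lit 20694) (Tr.lf (Fc.ed (nat_lit 20693) (nat_lit 7418) Col.e (nat_lit 7454) Dv.df))
(Tr.nd (nat_lit 20695) (Tr.lf (Fc.ed (nat_lit 20694) (nat_lit 7454) Col.f (nat_lit 5357) (Dv.wd (nat_lit 96) [Mv.b (nat_lit 13774), Mv.b (nat_lit 6037), Mv.f (nat_lit 14222), Mv.f (nat_lit 20429), Mv.f (nat_lit 20693)])))
(Tr.lf (Fc.ed (nat_lit 20695) (nat_lit 6874) Col.d (nat_lit 7455) Dv.df))))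
(Tr.nd (nat_lit 20697) (Tr.lf (Fc.ed (nat_lit 20696) (nat_lit 7455) Col.b (nat_lit 7309) (Dv.wd (nat_lit 37) [Mv.f (nat_lit 20203), Mv.b (nat_lit 17896), Mv.f (nat_lit 20695)])))
(Tr.nd (nat_lit 20698) (Tr.lf (Fc.ed (nat_lit 20697) (nat_lit 7395) Col.e (nat_lit 7456) Dv.df))
(Tr.lf (Fc.ed (nat_lit 20698) (nat_lit 7456) Col.b (nat_lit 6802) (Dv.wd (nat_lit 49) [Mv.f (nat_lit 20333), Mv.f (nat_lit 20386), Mv.f (nat_lit 20697)]))))))))))))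
(Tr.nd (nat_lit 20863) (Tr.nd (nat_lit 20781) (Tr.nd (nat_lit 20740) (Tr.nd (nat_lit 20719) (Tr.nd (nat_lit 20709) (Tr.nd (nat_lit 20704) (Tr.nd (nat_lit 20701) (Tr.nd (nat_lit 20700) (Tr.lf (Fc.ed (nat_lit 20699) (nat_lit 6578) Col.f (nat_lit 7457) Dv.df))
(Tr.lf (Fc.ed (nat_lit 20700) (nat_lit 6524) Col.b (nat_lit 7458) Dv.df)))
(Tr.nd (nat_lit 20702) (Tr.lf (Fc.ed (nat_lit 20701) (nat_lit 7458) Col.e (nat_lit 7453) (Dv.wd (nat_lit 52) [Mv.f (nat_lit 20692), Mv.b (nat_lit 20644), Mv.f (nat_lit 20700)])))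
(Tr.nd (nat_lit 20703) (Tr.lf (Fc.ed (nat_lit 20702) (nat_lit 6951) Col.b (nat_lit 7459) Dv.df))
(Tr.lf (Fc.ed (nat_lit 20703) (nat_lit 7459) Col.f (nat_lit 7456) (Dv.wd (nat_lit 20) [Mv.f (nat_lit 20698), Mv.f (nat_lit 19101), Mv.f (nat_lit 20702)]))))))
(Tr.nd (nat_lit 20706) (Tr.nd (nat_lit 20705) (Tr.lf (Fc.ed (nat_lit 20704) (nat_lit 6979) Col.d (nat_lit 7460) Dv.df))
(Tr.lf (Fc.ed (nat_lit 20705) (nat_lit 7460) Col.gi (nat_lit 7455) (Dv.wd (nat_lit 111) [Mv.b (nat_lit 20695), Mv.f (nat_lit 19709), Mv.b (nat_lit 20010), Mv.f (nat_lit 19590), Mv.f (nat_lit 20304), Mv.b (nat_lit 20543), Mv.f (nat_lit 20539), Mv.b (nat_lit 20536), Mv.f (nat_lit 20704)]))))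
(Tr.nd (nat_lit 20707) (Tr.lf (Fc.ed (nat_lit 20706) (nat_lit 7390) Col.e (nat_lit 7461) Dv.df))
(Tr.nd (nat_lit 20708) (Tr.lf (Fc.ed (nat_lit 20707) (nat_lit 7461) Col.d (nat_lit 7129) (Dv.wd (nat_lit 59) [Mv.b (nat_lit 19637), Mv.b (nat_lit 10546), Mv.b (nat_lit 15324), Mv.f (nat_lit 20602), Mv.f (nat_lit 20706)])))
(Tr.lf (Fc.ed (nat_lit 20708) (nat_lit 7336) Col.g (nat_lit 7462) Dv.df))))))
(Tr.nd (nat_lit 20714) (Tr.nd (nat_lit 20711) (Tr.nd (nat_lit 20710) (Tr.lf (Fc.ed (nat_lit 20709) (nat_lit 7462) Col.d (nat_lit 7463) Dv.df))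
(Tr.lf (Fc.ed (nat_lit 20710) (nat_lit 7463) Col.c (nat_lit 7452) (Dv.wd (nat_lit 173) [Mv.f (nat_lit 20690), Mv.f (nat_lit 20295), Mv.b (nat_lit 20222), Mv.b (nat_lit 18601), Mv.b (nat_lit 19308), Mv.f (nat_lit 15151), Mv.b (nat_lit 19069), Mv.b (nat_lit 16645), Mv.f (nat_lit 16949), Mv.f (nat_lit 8893), Mv.b (nat_lit 8905), Mv.b (nat_lit 11744), Mv.b (nat_lit 13699), Mv.b (nat_lit 20033), Mv.b (nat_lit 19587), Mv.b (nat_lit 20177), Mv.f (nat_lit 20269), Mv.f (nat_lit 20708), Mv.f (nat_lit 20709)]))))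
(Tr.nd (nat_lit 20712) (Tr.lf (Fc.ed (nat_lit 20711) (nat_lit 7450) Col.d (nat_lit 7464) Dv.df))
(Tr.nd (nat_lit 20713) (Tr.lf (Fc.ed (nat_lit 20712) (nat_lit 7464) Col.gi (nat_lit 7414) (Dv.wd (nat_lit 71) [Mv.b (nat_lit 20422), Mv.f (nat_lit 19734), Mv.b (nat_lit 11981), Mv.b (nat_lit 20019), Mv.f (nat_lit 20360), Mv.f (nat_lit 20411), Mv.f (nat_lit 20412), Mv.b (nat_lit 20688), Mv.b (nat_lit 20684), Mv.f (nat_lit 20711)])))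
(Tr.lf (Fc.ed (nat_lit 20713) (nat_lit 7457) Col.d (nat_lit 7465) Dv.df)))))
(Tr.nd (nat_lit 20716) (Tr.nd (nat_lit 20715) (Tr.lf (Fc.ed (nat_lit 20714) (nat_lit 7465) Col.f (nat_lit 6073) (Dv.wd (nat_lit 11) [Mv.f (nat_lit 17146), Mv.f (nat_lit 20699), Mv.f (nat_lit 20713)])))
(Tr.lf (Fc.ed (nat_lit 20715) (nat_lit 7017) Col.f (nat_lit 7466) Dv.df)))
(Tr.nd (nat_lit 20717) (Tr.lf (Fc.ed (nat_lit 20716) (nat_lit 7466) Col.e (nat_lit 7465) (Dv.wd (nat_lit 22) [Mv.f (nat_lit 20714), Mv.f (nat_lit 15290), Mv.f (nat_lit 8712), Mv.f (nat_lit 18166), Mv.f (nat_lit 20715)])))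
(Tr.nd (nat_lit 20718) (Tr.lf (Fc.ed (nat_lit 20717) (nat_lit 7095) Col.b (nat_lit 7467) Dv.df))
(Tr.lf (Fc.ed (nat_lit 20718) (nat_lit 7467) Col.a (nat_lit 7456) (Dv.wd (nat_lit 98) [Mv.f (nat_lit 20698), Mv.f (nat_lit 17998), Mv.b (nat_lit 19099), Mv.b (nat_lit 19520), Mv.f (nat_lit 20717)]))))))))
(Tr.nd (nat_lit 20729) (Tr.nd (nat_lit 20724) (Tr.nd (nat_lit 20721) (Tr.nd (nat_lit 20720) (Tr.lf (Fc.ed (nat_lit 20719) (nat_lit 7467) Col.c (nat_lit 7450) (Dv.wd (nat_lit 93) [Mv.b (nat_lit 20683), Mv.b (nat_lit 19468), Mv.f (nat_lit 16979), Mv.b (nat_lit 19521), Mv.f (nat_lit 20717)])))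
(Tr.lf (Fc.ed (nat_lit 20720) (nat_lit 7162) Col.d (nat_lit 7467) (Dv.wd (nat_lit 85) [Mv.f (nat_lit 20719), Mv.f (nat_lit 20711), Mv.f (nat_lit 20712), Mv.b (nat_lit 20422), Mv.f (nat_lit 19735), Mv.f (nat_lit 15139), Mv.b (nat_lit 20030), Mv.b (nat_lit 12493), Mv.f (nat_lit 19704)]))))
(Tr.nd (nat_lit 20722) (Tr.lf (Fc.ed (nat_lit 20721) (nat_lit 7415) Col.b (nat_lit 7162) (Dv.wd (nat_lit 126) [Mv.f (nat_lit 20720), Mv.b (nat_lit 20717), Mv.b (nat_lit 20424)])))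
(Tr.nd (nat_lit 20723) (Tr.lf (Fc.ed (nat_lit 20722) (nat_lit 7467) Col.gi (nat_lit 7385) (Dv.wd (nat_lit 50) [Mv.f (nat_lit 20437), Mv.b (nat_lit 20448), Mv.b (nat_lit 20447), Mv.b (nat_lit 19777), Mv.f (nat_lit 17528), Mv.f (nat_lit 17701), Mv.b (nat_lit 19587), Mv.b (nat_lit 19705), Mv.f (nat_lit 20720)])))
(Tr.lf (Fc.ed (nat_lit 20723) (nat_lit 7385) Col.gi (nat_lit 7459) (Dv.wd (nat_lit 24) [Mv.f (nat_lit 20703), Mv.b (nat_lit 20718), Mv.f (nat_lit 20722)]))))))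
(Tr.nd (nat_lit 20726) (Tr.nd (nat_lit 20725) (Tr.lf (Fc.ed (nat_lit 20724) (nat_lit 7422) Col.gi (nat_lit 7077) (Dv.wd (nat_lit 157) [Mv.b (nat_lit 19446), Mv.b (nat_lit 18845), Mv.b (nat_lit 11501), Mv.f (nat_lit 13340), Mv.f (nat_lit 18221), Mv.b (nat_lit 19470), Mv.f (nat_lit 20683), Mv.b (nat_lit 20719), Mv.f (nat_lit 20722), Mv.f (nat_lit 20437)])))
(Tr.lf (Fc.al (nat_lit 20725) (nat_lit 7453) (nat_lit 7427) (Dv.wd (nat_lit 12) [Mv.f (nat_lit 20448), Mv.f (nat_lit 20724), Mv.f (nat_lit 19447), Mv.f (nat_lit 20691)]))))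
(Tr.nd (nat_lit 20727) (Tr.lf (Fc.ed (nat_lit 20726) (nat_lit 7427) Col.a (nat_lit 7008) (Dv.wd (nat_lit 29) [Mv.f (nat_lit 20691), Mv.f (nat_lit 20725)])))
(Tr.nd (nat_lit 20728) (Tr.lf (Fc.ed (nat_lit 20727) (nat_lit 7427) Col.e (nat_lit 7458) (Dv.wd (nat_lit 117) [Mv.f (nat_lit 20701), Mv.f (nat_lit 20725)])))
(Tr.lf (Fc.al (nat_lit 20728) (nat_lit 7008) (nat_lit 7434) (Dv.wd (nat_lit 88) [Mv.b (nat_lit 20648), Mv.f (nat_lit 20647), Mv.f (nat_lit 20435), Mv.f (nat_lit 20724), Mv.b (nat_lit 19446), Mv.b (nat_lit 18845), Mv.b (nat_lit 11501), Mv.f (nat_lit 13340), Mv.f (nat_lit 16651), Mv.b (nat_lit 19430), Mv.b (nat_lit 19429)])))))))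
(Tr.nd (nat_lit 20734) (Tr.nd (nat_lit 20731) (Tr.nd (nat_lit 20730) (Tr.lf (Fc.al (nat_lit 20729) (nat_lit 7152) (nat_lit 7237) (Dv.wd (nat_lit 120) [Mv.b (nat_lit 20649), Mv.b (nat_lit 20728), Mv.f (nat_lit 19684)])))
(Tr.lf (Fc.ed (nat_lit 20730) (nat_lit 7152) Col.a (nat_lit 7363) (Dv.wd (nat_lit 29) [Mv.b (nat_lit 20325), Mv.b (nat_lit 20729)]))))
(Tr.nd (nat_lit 20732) (Tr.lf (Fc.al (nat_lit 20731) (nat_lit 7363) (nat_lit 7196) (Dv.wd (nat_lit 28) [Mv.f (nat_lit 20447), Mv.f (nat_lit 20726), Mv.f (nat_lit 19684), Mv.f (nat_lit 20730)])))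
(Tr.nd (nat_lit 20733) (Tr.lf (Fc.al (nat_lit 20732) (nat_lit 7239) (nat_lit 7152) (Dv.wd (nat_lit 29) [Mv.f (nat_lit 20730), Mv.f (nat_lit 20731), Mv.b (nat_lit 19905)])))
(Tr.lf (Fc.ed (nat_lit 20733) (nat_lit 7152) Col.f (nat_lit 6732) (Dv.wd (nat_lit 30) [Mv.f (nat_lit 19904), Mv.f (nat_lit 20732)]))))))
(Tr.nd (nat_lit 20737) (Tr.nd (nat_lit 20735) (Tr.lf (Fc.ed (nat_lit 20734) (nat_lit 6732) Col.d (nat_lit 7077) (Dv.wd (nat_lit 21) [Mv.f (nat_lit 19447), Mv.f (nat_lit 19684), Mv.f (nat_lit 20733)])))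
(Tr.nd (nat_lit 20736) (Tr.lf (Fc.ed (nat_lit 20735) (nat_lit 7117) Col.b (nat_lit 6732) (Dv.wd (nat_lit 126) [Mv.f (nat_lit 20734), Mv.b (nat_lit 19446), Mv.b (nat_lit 19582)])))
(Tr.lf (Fc.ed (nat_lit 20736) (nat_lit 5924) Col.g (nat_lit 7463) (Dv.wd (nat_lit 123) [Mv.f (nat_lit 20710), Mv.f (nat_lit 20690), Mv.f (nat_lit 20295), Mv.f (nat_lit 20330), Mv.f (nat_lit 20331), Mv.f (nat_lit 20250), Mv.f (nat_lit 20735), Mv.f (nat_lit 17579), Mv.b (nat_lit 13765), Mv.f (nat_lit 14987)])))))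
(Tr.nd (nat_lit 20738) (Tr.lf (Fc.ed (nat_lit 20737) (nat_lit 7439) Col.b (nat_lit 7058) (Dv.wd (nat_lit 165) [Mv.b (nat_lit 19413), Mv.f (nat_lit 14987), Mv.f (nat_lit 20736), Mv.f (nat_lit 20710), Mv.f (nat_lit 20690), Mv.f (nat_lit 20295), Mv.f (nat_lit 20223), Mv.f (nat_lit 20338), Mv.b (nat_lit 20667), Mv.b (nat_lit 20666)])))
(Tr.nd (nat_lit 20739) (Tr.lf (Fc.ed (nat_lit 20738) (nat_lit 7058) Col.f (nat_lit 7162) (Dv.wd (nat_lit 20) [Mv.b (nat_lit 20721), Mv.b (nat_lit 20660), Mv.f (nat_lit 20737)])))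
(Tr.lf (Fc.ed (nat_lit 20739) (nat_lit 7162) Col.a (nat_lit 7353) (Dv.wd (nat_lit 23) [Mv.f (nat_lit 20308), Mv.f (nat_lit 19413), Mv.f (nat_lit 20738)])))))))))
(Tr.nd (nat_lit 20760) (Tr.nd (nat_lit 20750) (Tr.nd (nat_lit 20745) (Tr.nd (nat_lit 20742) (Tr.nd (nat_lit 20741) (Tr.lf (Fc.ed (nat_lit 20740) (nat_lit 7279) Col.a (nat_lit 7058) (Dv.wd (nat_lit 114) [Mv.f (nat_lit 20738), Mv.f (nat_lit 19705), Mv.f (nat_lit 20123)])))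
(Tr.lf (Fc.ed (nat_lit 20741) (nat_lit 7279) Col.f (nat_lit 7353) (Dv.wd (nat_lit 35) [Mv.b (nat_lit 20739), Mv.b (nat_lit 20738), Mv.b (nat_lit 20740)]))))
(Tr.nd (nat_lit 20743) (Tr.lf (Fc.ed (nat_lit 20742) (nat_lit 7353) Col.d (nat_lit 7456) (Dv.wd (nat_lit 28) [Mv.b (nat_lit 20718), Mv.b (nat_lit 20720), Mv.f (nat_lit 20739)])))
(Tr.nd (nat_lit 20744) (Tr.lf (Fc.ed (nat_lit 20743) (nat_lit 7459) Col.d (nat_lit 7279) (Dv.wd (nat_lit 90) [Mv.f (nat_lit 20741), Mv.f (nat_lit 20742), Mv.b (nat_lit 20703)])))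
(Tr.lf (Fc.ed (nat_lit 20744) (nat_lit 7442) Col.g (nat_lit 7468) Dv.df)))))
(Tr.nd (nat_lit 20747) (Tr.nd (nat_lit 20746) (Tr.lf (Fc.ed (nat_lit 20745) (nat_lit 7468) Col.c (nat_lit 7350) (Dv.wd (nat_lit 83) [Mv.f (nat_lit 20298), Mv.b (nat_lit 19427), Mv.f (nat_lit 17566), Mv.f (nat_lit 19790), Mv.b (nat_lit 20506), Mv.f (nat_lit 18153), Mv.b (nat_lit 19876), Mv.f (nat_lit 20665), Mv.f (nat_lit 20744)])))
(Tr.lf (Fc.ed (nat_lit 20746) (nat_lit 7408) Col.c (nat_lit 7469) Dv.df)))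
(Tr.nd (nat_lit 20748) (Tr.lf (Fc.ed (nat_lit 20747) (nat_lit 7469) Col.g (nat_lit 7440) (Dv.wd (nat_lit 105) [Mv.b (nat_lit 20661), Mv.f (nat_lit 20416), Mv.b (nat_lit 19980), Mv.b (nat_lit 17896), Mv.b (nat_lit 17895), Mv.f (nat_lit 19919), Mv.b (nat_lit 19651), Mv.b (nat_lit 19648), Mv.f (nat_lit 20408), Mv.f (nat_lit 20746)])))
(Tr.nd (nat_lit 20749) (Tr.lf (Fc.ed (nat_lit 20748) (nat_lit 7210) Col.d (nat_lit 7470) Dv.df))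
(Tr.lf (Fc.ed (nat_lit 20749) (nat_lit 7454) Col.d (nat_lit 7471) Dv.df))))))
(Tr.nd (nat_lit 20755) (Tr.nd (nat_lit 20752) (Tr.nd (nat_lit 20751) (Tr.lf (Fc.ed (nat_lit 20750) (nat_lit 7471) Col.f (nat_lit 6431) (Dv.wd (nat_lit 11) [Mv.b (nat_lit 16689), Mv.b (nat_lit 20694), Mv.f (nat_lit 20749)])))
(Tr.lf (Fc.ed (nat_lit 20751) (nat_lit 6667) Col.d (nat_lit 7472) Dv.df)))
(Tr.nd (nat_lit 20753) (Tr.lf (Fc.ed (nat_lit 20752) (nat_lit 7146) Col.e (nat_lit 7473) Dv.df))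
(Tr.nd (nat_lit 20754) (Tr.lf (Fc.ed (nat_lit 20753) (nat_lit 7473) Col.d (nat_lit 7421) (Dv.wd (nat_lit 91) [Mv.b (nat_lit 20434), Mv.f (nat_lit 20449), Mv.f (nat_lit 20450), Mv.f (nat_lit 20014), Mv.f (nat_lit 20147), Mv.b (nat_lit 15351), Mv.b (nat_lit 12558), Mv.b (nat_lit 15402), Mv.f (nat_lit 19675), Mv.f (nat_lit 20752)])))
(Tr.lf (Fc.ed (nat_lit 20754) (nat_lit 7328) Col.c (nat_lit 7474) Dv.df)))))
(Tr.nd (nat_lit 20757) (Tr.nd (nat_lit 20756) (Tr.lf (Fc.ed (nat_lit 20755) (nat_lit 7459) Col.gi (nat_lit 7475) Dv.df))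
(Tr.lf (Fc.ed (nat_lit 20756) (nat_lit 7475) Col.f (nat_lit 7330) (Dv.wd (nat_lit 13) [Mv.b (nat_lit 20371), Mv.f (nat_lit 20723), Mv.f (nat_lit 20755)]))))
(Tr.nd (nat_lit 20758) (Tr.lf (Fc.ed (nat_lit 20757) (nat_lit 7346) Col.c (nat_lit 7476) Dv.df))
(Tr.nd (nat_lit 20759) (Tr.lf (Fc.ed (nat_lit 20758) (nat_lit 6969) Col.e (nat_lit 7477) Dv.df))
(Tr.lf (Fc.ed (nat_lit 20759) (nat_lit 5766) Col.e (nat_lit 7478) Dv.df)))))))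
(Tr.nd (nat_lit 20770) (Tr.nd (nat_lit 20765) (Tr.nd (nat_lit 20762) (Tr.nd (nat_lit 20761) (Tr.lf (Fc.ed (nat_lit 20760) (nat_lit 7026) Col.b (nat_lit 7479) Dv.df))
(Tr.lf (Fc.ed (nat_lit 20761) (nat_lit 7479) Col.d (nat_lit 6719) (Dv.wd (nat_lit 58) [Mv.f (nat_lit 20042), Mv.b (nat_lit 18930), Mv.f (nat_lit 20760)]))))
(Tr.nd (nat_lit 20763) (Tr.lf (Fc.ed (nat_lit 20762) (nat_lit 6282) Col.d (nat_lit 7480) Dv.df))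
(Tr.nd (nat_lit 20764) (Tr.lf (Fc.ed (nat_lit 20763) (nat_lit 6589) Col.e (nat_lit 7481) Dv.df))
(Tr.lf (Fc.ed (nat_lit 20764) (nat_lit 7481) Col.a (nat_lit 7478) (Dv.wd (nat_lit 15) [Mv.b (nat_lit 20759), Mv.b (nat_lit 20153), Mv.f (nat_lit 20763)]))))))
(Tr.nd (nat_lit 20767) (Tr.nd (nat_lit 20766) (Tr.lf (Fc.ed (nat_lit 20765) (nat_lit 7481) Col.gi (nat_lit 7458) (Dv.wd (nat_lit 132) [Mv.b (nat_lit 20727), Mv.b (nat_lit 20447), Mv.f (nat_lit 19778), Mv.f (nat_lit 11066), Mv.b (nat_lit 17553), Mv.f (nat_lit 20185), Mv.b (nat_lit 20321), Mv.b (nat_lit 20337), Mv.b (nat_lit 20336), Mv.f (nat_lit 20763)])))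
(Tr.lf (Fc.ed (nat_lit 20766) (nat_lit 7379) Col.e (nat_lit 7482) Dv.df)))
(Tr.nd (nat_lit 20768) (Tr.lf (Fc.ed (nat_lit 20767) (nat_lit 7482) Col.b (nat_lit 6944) (Dv.wd (nat_lit 49) [Mv.f (nat_lit 20472), Mv.f (nat_lit 20358), Mv.f (nat_lit 20766)])))
(Tr.nd (nat_lit 20769) (Tr.lf (Fc.ed (nat_lit 20768) (nat_lit 7397) Col.d (nat_lit 7483) Dv.df))
(Tr.lf (Fc.ed (nat_lit 20769) (nat_lit 7483) Col.gi (nat_lit 7472) (Dv.wd (nat_lit 111) [Mv.b (nat_lit 20751), Mv.f (nat_lit 17882), Mv.b (nat_lit 17714), Mv.b (nat_lit 9531), Mv.b (nat_lit 9717), Mv.f (nat_lit 10917), Mv.b (nat_lit 17306), Mv.f (nat_lit 20390), Mv.f (nat_lit 20768)])))))))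
(Tr.nd (nat_lit 20775) (Tr.nd (nat_lit 20772) (Tr.nd (nat_lit 20771) (Tr.lf (Fc.ed (nat_lit 20770) (nat_lit 7429) Col.b (nat_lit 7484) Dv.df))
(Tr.lf (Fc.ed (nat_lit 20771) (nat_lit 7484) Col.d (nat_lit 7458) (Dv.wd (nat_lit 58) [Mv.b (nat_lit 20700), Mv.b (nat_lit 20452), Mv.f (nat_lit 20770)]))))
(Tr.nd (nat_lit 20773) (Tr.lf (Fc.ed (nat_lit 20772) (nat_lit 5570) Col.gi (nat_lit 7485) Dv.df))
(Tr.nd (nat_lit 20774) (Tr.lf (Fc.ed (nat_lit 20773) (nat_lit 7485) Col.gi (nat_lit 7393) (Dv.wd (nat_lit 24) [Mv.b (nat_lit 20382), Mv.f (nat_lit 14405), Mv.f (nat_lit 20772)])))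
(Tr.lf (Fc.ed (nat_lit 20774) (nat_lit 7470) Col.e (nat_lit 7486) Dv.df)))))
(Tr.nd (nat_lit 20778) (Tr.nd (nat_lit 20776) (Tr.lf (Fc.ed (nat_lit 20775) (nat_lit 7486) Col.gi (nat_lit 7159) (Dv.wd (nat_lit 132) [Mv.b (nat_lit 19698), Mv.f (nat_lit 14717), Mv.b (nat_lit 18211), Mv.f (nat_lit 20049), Mv.b (nat_lit 17569), Mv.b (nat_lit 15402), Mv.f (nat_lit 19198), Mv.b (nat_lit 20500), Mv.f (nat_lit 20748), Mv.f (nat_lit 20774)])))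
(Tr.nd (nat_lit 20777) (Tr.lf (Fc.ed (nat_lit 20776) (nat_lit 7475) Col.e (nat_lit 7487) Dv.df))
(Tr.lf (Fc.ed (nat_lit 20777) (nat_lit 7487) Col.f (nat_lit 7478) (Dv.wd (nat_lit 96) [Mv.b (nat_lit 20759), Mv.f (nat_lit 20148), Mv.f (nat_lit 20259), Mv.b (nat_lit 20756), Mv.f (nat_lit 20776)])))))
(Tr.nd (nat_lit 20779) (Tr.lf (Fc.ed (nat_lit 20778) (nat_lit 7458) Col.gi (nat_lit 7487) (Dv.wd (nat_lit 24) [Mv.f (nat_lit 20777), Mv.b (nat_lit 20764), Mv.f (nat_lit 20765)])))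
(Tr.nd (nat_lit 20780) (Tr.lf (Fc.ed (nat_lit 20779) (nat_lit 7431) Col.f (nat_lit 7488) Dv.df))
(Tr.lf (Fc.ed (nat_lit 20780) (nat_lit 7197) Col.d (nat_lit 7489) Dv.df)))))))))
(Tr.nd (nat_lit 20822) (Tr.nd (nat_lit 20801) (Tr.nd (nat_lit 20791) (Tr.nd (nat_lit 20786) (Tr.nd (nat_lit 20783) (Tr.nd (nat_lit 20782) (Tr.lf (Fc.ed (nat_lit 20781) (nat_lit 6796) Col.d (nat_lit 7490) Dv.df))
(Tr.lf (Fc.ed (nat_lit 20782) (nat_lit 7490) Col.f (nat_lit 7480) (Dv.wd (nat_lit 11) [Mv.b (nat_lit 20762), Mv.b (nat_lit 17717), Mv.f (nat_lit 20781)]))))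
(Tr.nd (nat_lit 20784) (Tr.lf (Fc.ed (nat_lit 20783) (nat_lit 7474) Col.g (nat_lit 7491) Dv.df))
(Tr.nd (nat_lit 20785) (Tr.lf (Fc.ed (nat_lit 20784) (nat_lit 7491) Col.c (nat_lit 7142) (Dv.wd (nat_lit 83) [Mv.f (nat_lit 19667), Mv.f (nat_lit 14166), Mv.f (nat_lit 11432), Mv.b (nat_lit 19753), Mv.f (nat_lit 19873), Mv.b (nat_lit 20301), Mv.b (nat_lit 20300), Mv.f (nat_lit 20754), Mv.f (nat_lit 20783)])))
(Tr.lf (Fc.ed (nat_lit 20785) (nat_lit 7489) Col.c (nat_lit 7492) Dv.df)))))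
(Tr.nd (nat_lit 20788) (Tr.nd (nat_lit 20787) (Tr.lf (Fc.ed (nat_lit 20786) (nat_lit 7492) Col.gi (nat_lit 7445) (Dv.wd (nat_lit 78) [Mv.b (nat_lit 20670), Mv.f (nat_lit 17961), Mv.b (nat_lit 12990), Mv.b (nat_lit 12790), Mv.b (nat_lit 20116), Mv.f (nat_lit 18163), Mv.f (nat_lit 20094), Mv.f (nat_lit 20780), Mv.f (nat_lit 20785)])))
(Tr.lf (Fc.ed (nat_lit 20787) (nat_lit 7335) Col.d (nat_lit 7493) Dv.df)))
(Tr.nd (nat_lit 20789) (Tr.lf (Fc.ed (nat_lit 20788) (nat_lit 7491) Col.d (nat_lit 7494) Dv.df))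
(Tr.nd (nat_lit 20790) (Tr.lf (Fc.ed (nat_lit 20789) (nat_lit 5808) Col.f (nat_lit 7495) Dv.df))
(Tr.lf (Fc.ed (nat_lit 20790) (nat_lit 7495) Col.e (nat_lit 7488) (Dv.wd (nat_lit 22) [Mv.b (nat_lit 20779), Mv.b (nat_lit 20641), Mv.f (nat_lit 7088), Mv.f (nat_lit 14747), Mv.f (nat_lit 20789)])))))))
(Tr.nd (nat_lit 20796) (Tr.nd (nat_lit 20793) (Tr.nd (nat_lit 20792) (Tr.lf (Fc.ed (nat_lit 20791) (nat_lit 7093) Col.f (nat_lit 7496) Dv.df))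
(Tr.lf (Fc.ed (nat_lit 20792) (nat_lit 7496) Col.b (nat_lit 7495) (Dv.wd (nat_lit 66) [Mv.b (nat_lit 20789), Mv.f (nat_lit 19515), Mv.f (nat_lit 20791)]))))
(Tr.nd (nat_lit 20794) (Tr.lf (Fc.ed (nat_lit 20793) (nat_lit 7394) Col.f (nat_lit 7497) Dv.df))
(Tr.nd (nat_lit 20795) (Tr.lf (Fc.ed (nat_lit 20794) (nat_lit 7497) Col.c (nat_lit 7446) (Dv.wd (nat_lit 34) [Mv.f (nat_lit 20672), Mv.b (nat_lit 20385), Mv.f (nat_lit 20793)])))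
(Tr.lf (Fc.ed (nat_lit 20795) (nat_lit 7376) Col.d (nat_lit 7498) Dv.df)))))
(Tr.nd (nat_lit 20798) (Tr.nd (nat_lit 20797) (Tr.lf (Fc.ed (nat_lit 20796) (nat_lit 7498) Col.c (nat_lit 7490) (Dv.wd (nat_lit 80) [Mv.b (nat_lit 20781), Mv.b (nat_lit 17715), Mv.f (nat_lit 17250), Mv.f (nat_lit 19427), Mv.b (nat_lit 20298), Mv.b (nat_lit 20299), Mv.b (nat_lit 18170), Mv.f (nat_lit 20354), Mv.f (nat_lit 20795)])))
(Tr.lf (Fc.ed (nat_lit 20797) (nat_lit 7497) Col.b (nat_lit 7499) Dv.df)))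
(Tr.nd (nat_lit 20799) (Tr.lf (Fc.ed (nat_lit 20798) (nat_lit 7499) Col.f (nat_lit 7437) (Dv.wd (nat_lit 20) [Mv.f (nat_lit 20656), Mv.f (nat_lit 20793), Mv.f (nat_lit 20797)])))
(Tr.nd (nat_lit 20800) (Tr.lf (Fc.ed (nat_lit 20799) (nat_lit 7499) Col.gi (nat_lit 7252) (Dv.wd (nat_lit 100) [Mv.f (nat_lit 20025), Mv.f (nat_lit 20005), Mv.b (nat_lit 9220), Mv.b (nat_lit 6734), Mv.f (nat_lit 9449), Mv.f (nat_lit 20392), Mv.f (nat_lit 20477), Mv.f (nat_lit 20673), Mv.b (nat_lit 20794), Mv.f (nat_lit 20797)])))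
(Tr.lf (Fc.ed (nat_lit 20800) (nat_lit 6919) Col.gi (nat_lit 7500) Dv.df)))))))
(Tr.nd (nat_lit 20811) (Tr.nd (nat_lit 20806) (Tr.nd (nat_lit 20803) (Tr.nd (nat_lit 20802) (Tr.lf (Fc.ed (nat_lit 20801) (nat_lit 7500) Col.gi (nat_lit 7444) (Dv.wd (nat_lit 24) [Mv.b (nat_lit 20668), Mv.f (nat_lit 17976), Mv.f (nat_lit 20800)])))
(Tr.lf (Fc.ed (nat_lit 20802) (nat_lit 6868) Col.d (nat_lit 7501) Dv.df)))
(Tr.nd (nat_lit 20804) (Tr.lf (Fc.ed (nat_lit 20803) (nat_lit 7501) Col.c (nat_lit 7494) (Dv.wd (nat_lit 80) [Mv.b (nat_lit 20788), Mv.f (nat_lit 20784), Mv.f (nat_lit 19667), Mv.f (nat_lit 14166), Mv.f (nat_lit 9717), Mv.f (nat_lit 6724), Mv.b (nat_lit 6489), Mv.f (nat_lit 17877), Mv.f (nat_lit 20802)])))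
(Tr.nd (nat_lit 20805) (Tr.lf (Fc.ed (nat_lit 20804) (nat_lit 6795) Col.d (nat_lit 7502) Dv.df))
(Tr.lf (Fc.ed (nat_lit 20805) (nat_lit 7502) Col.a (nat_lit 7490) (Dv.wd (nat_lit 8) [Mv.b (nat_lit 20781), Mv.f (nat_lit 17716), Mv.f (nat_lit 20804)]))))))
(Tr.nd (nat_lit 20808) (Tr.nd (nat_lit 20807) (Tr.lf (Fc.ed (nat_lit 20806) (nat_lit 7275) Col.f (nat_lit 7503) Dv.df))
(Tr.lf (Fc.ed (nat_lit 20807) (nat_lit 7503) Col.b (nat_lit 7197) (Dv.wd (nat_lit 66) [Mv.f (nat_lit 20096), Mv.f (nat_lit 20117), Mv.f (nat_lit 20806)]))))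
(Tr.nd (nat_lit 20809) (Tr.lf (Fc.ed (nat_lit 20808) (nat_lit 7494) Col.gi (nat_lit 7504) Dv.df))
(Tr.nd (nat_lit 20810) (Tr.lf (Fc.ed (nat_lit 20809) (nat_lit 7504) Col.c (nat_lit 7483) (Dv.wd (nat_lit 81) [Mv.f (nat_lit 20769), Mv.b (nat_lit 20751), Mv.b (nat_lit 17388), Mv.b (nat_lit 16399), Mv.f (nat_lit 9414), Mv.f (nat_lit 17877), Mv.f (nat_lit 20802), Mv.f (nat_lit 20803), Mv.f (nat_lit 20808)])))
(Tr.lf (Fc.ed (nat_lit 20810) (nat_lit 6493) Col.f (nat_lit 7505) Dv.df))))))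
(Tr.nd (nat_lit 20816) (Tr.nd (nat_lit 20813) (Tr.nd (nat_lit 20812) (Tr.lf (Fc.ed (nat_lit 20811) (nat_lit 7505) Col.c (nat_lit 7465) (Dv.wd (nat_lit 34) [Mv.f (nat_lit 20714), Mv.b (nat_lit 16808), Mv.f (nat_lit 20810)])))
(Tr.lf (Fc.ed (nat_lit 20812) (nat_lit 7020) Col.c (nat_lit 7506) Dv.df)))
(Tr.nd (nat_lit 20814) (Tr.lf (Fc.ed (nat_lit 20813) (nat_lit 7506) Col.f (nat_lit 7468) (Dv.wd (nat_lit 26) [Mv.f (nat_lit 20745), Mv.b (nat_lit 20299), Mv.f (nat_lit 20812)])))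
(Tr.nd (nat_lit 20815) (Tr.lf (Fc.ed (nat_lit 20814) (nat_lit 7502) Col.c (nat_lit 7507) Dv.df))
(Tr.lf (Fc.ed (nat_lit 20815) (nat_lit 7507) Col.a (nat_lit 7498) (Dv.wd (nat_lit 19) [Mv.f (nat_lit 20796), Mv.b (nat_lit 20805), Mv.f (nat_lit 20814)]))))))
(Tr.nd (nat_lit 20819) (Tr.nd (nat_lit 20817) (Tr.lf (Fc.ed (nat_lit 20816) (nat_lit 7507) Col.d (nat_lit 7506) (Dv.wd (nat_lit 147) [Mv.b (nat_lit 20812), Mv.f (nat_lit 19795), Mv.f (nat_lit 19792), Mv.b (nat_lit 16400), Mv.f (nat_lit 16399), Mv.f (nat_lit 20762), Mv.b (nat_lit 20782), Mv.b (nat_lit 20805), Mv.f (nat_lit 20814)])))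
(Tr.nd (nat_lit 20818) (Tr.lf (Fc.ed (nat_lit 20817) (nat_lit 5377) Col.f (nat_lit 7508) Dv.df))
(Tr.lf (Fc.ed (nat_lit 20818) (nat_lit 7461) Col.g (nat_lit 7509) Dv.df))))
(Tr.nd (nat_lit 20820) (Tr.lf (Fc.ed (nat_lit 20819) (nat_lit 7509) Col.d (nat_lit 7487) (Dv.wd (nat_lit 60) [Mv.b (nat_lit 20776), Mv.b (nat_lit 20755), Mv.f (nat_lit 20743), Mv.f (nat_lit 20124), Mv.f (nat_lit 12493), Mv.b (nat_lit 10911), Mv.b (nat_lit 6656), Mv.f (nat_lit 19637), Mv.b (nat_lit 20707), Mv.f (nat_lit 20818)])))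
(Tr.nd (nat_lit 20821) (Tr.lf (Fc.ed (nat_lit 20820) (nat_lit 6869) Col.d (nat_lit 7510) Dv.df))
(Tr.lf (Fc.ed (nat_lit 20821) (nat_lit 7510) Col.g (nat_lit 7493) (Dv.wd (nat_lit 69) [Mv.b (nat_lit 20787), Mv.b (nat_lit 20268), Mv.f (nat_lit 19692), Mv.b (nat_lit 19558), Mv.b (nat_lit 16686), Mv.b (nat_lit 20099), Mv.f (nat_lit 20066), Mv.f (nat_lit 20108), Mv.f (nat_lit 20820)])))))))))
(Tr.nd (nat_lit 20842) (Tr.nd (nat_lit 20832) (Tr.nd (nat_lit 20827) (Tr.nd (nat_lit 20824) (Tr.nd (nat_lit 20823) (Tr.lf (Fc.ed (nat_lit 20822) (nat_lit 7355) Col.e (nat_lit 7511) Dv.df))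
(Tr.lf (Fc.ed (nat_lit 20823) (nat_lit 7511) Col.c (nat_lit 7477) (Dv.wd (nat_lit 18) [Mv.b (nat_lit 20758), Mv.b (nat_lit 20311), Mv.f (nat_lit 20822)]))))
(Tr.nd (nat_lit 20825) (Tr.lf (Fc.ed (nat_lit 20824) (nat_lit 7468) Col.d (nat_lit 7512) Dv.df))
(Tr.nd (nat_lit 20826) (Tr.lf (Fc.ed (nat_lit 20825) (nat_lit 7512) Col.f (nat_lit 7507) (Dv.wd (nat_lit 11) [Mv.f (nat_lit 20816), Mv.f (nat_lit 20813), Mv.f (nat_lit 20824)])))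
(Tr.lf (Fc.ed (nat_lit 20826) (nat_lit 7512) Col.c (nat_lit 7510) (Dv.wd (nat_lit 80) [Mv.b (nat_lit 20820), Mv.f (nat_lit 17879), Mv.f (nat_lit 16418), Mv.b (nat_lit 19651), Mv.f (nat_lit 19649), Mv.b (nat_lit 20256), Mv.b (nat_lit 20297), Mv.b (nat_lit 20745), Mv.f (nat_lit 20824)]))))))
(Tr.nd (nat_lit 20829) (Tr.nd (nat_lit 20828) (Tr.lf (Fc.ed (nat_lit 20827) (nat_lit 7274) Col.c (nat_lit 7513) Dv.df))
(Tr.lf (Fc.ed (nat_lit 20828) (nat_lit 7513) Col.gi (nat_lit 7476) (Dv.wd (nat_lit 78) [Mv.b (nat_lit 20757), Mv.b (nat_lit 20289), Mv.b (nat_lit 19649), Mv.b (nat_lit 19917), Mv.f (nat_lit 19690), Mv.f (nat_lit 19559), Mv.f (nat_lit 19419), Mv.f (nat_lit 20086), Mv.f (nat_lit 20827)]))))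
(Tr.nd (nat_lit 20830) (Tr.lf (Fc.ed (nat_lit 20829) (nat_lit 7404) Col.b (nat_lit 7514) Dv.df))
(Tr.nd (nat_lit 20831) (Tr.lf (Fc.ed (nat_lit 20830) (nat_lit 7514) Col.f (nat_lit 7177) (Dv.wd (nat_lit 20) [Mv.f (nat_lit 19737), Mv.b (nat_lit 20402), Mv.f (nat_lit 20829)])))
(Tr.lf (Fc.ed (nat_lit 20831) (nat_lit 7504) Col.d (nat_lit 7515) Dv.df))))))
(Tr.nd (nat_lit 20837) (Tr.nd (nat_lit 20834) (Tr.nd (nat_lit 20833) (Tr.lf (Fc.ed (nat_lit 20832) (nat_lit 7424) Col.d (nat_lit 7516) Dv.df))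
(Tr.lf (Fc.ed (nat_lit 20833) (nat_lit 7516) Col.f (nat_lit 7147) (Dv.wd (nat_lit 11) [Mv.b (nat_lit 19676), Mv.b (nat_lit 20441), Mv.f (nat_lit 20832)]))))
(Tr.nd (nat_lit 20835) (Tr.lf (Fc.ed (nat_lit 20834) (nat_lit 7383) Col.f (nat_lit 7517) Dv.df))
(Tr.nd (nat_lit 20836) (Tr.lf (Fc.ed (nat_lit 20835) (nat_lit 7517) Col.b (nat_lit 7274) (Dv.wd (nat_lit 66) [Mv.f (nat_lit 20085), Mv.b (nat_lit 20366), Mv.f (nat_lit 20834)])))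
(Tr.lf (Fc.ed (nat_lit 20836) (nat_lit 7508) Col.b (nat_lit 7518) Dv.df)))))
(Tr.nd (nat_lit 20839) (Tr.nd (nat_lit 20838) (Tr.lf (Fc.ed (nat_lit 20837) (nat_lit 7518) Col.f (nat_lit 6923) (Dv.wd (nat_lit 20) [Mv.f (nat_lit 17986), Mv.f (nat_lit 20817), Mv.f (nat_lit 20836)])))
(Tr.lf (Fc.ed (nat_lit 20838) (nat_lit 7482) Col.c (nat_lit 7519) Dv.df)))
(Tr.nd (nat_lit 20840) (Tr.lf (Fc.ed (nat_lit 20839) (nat_lit 7519) Col.b (nat_lit 7156) (Dv.wd (nat_lit 87) [Mv.b (nat_lit 19693), Mv.f (nat_lit 17982), Mv.f (nat_lit 20471), Mv.b (nat_lit 20767), Mv.f (nat_lit 20838)])))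
(Tr.nd (nat_lit 20841) (Tr.lf (Fc.ed (nat_lit 20840) (nat_lit 7258) Col.e (nat_lit 7520) Dv.df))
(Tr.lf (Fc.ed (nat_lit 20841) (nat_lit 7520) Col.c (nat_lit 7382) (Dv.wd (nat_lit 18) [Mv.f (nat_lit 20363), Mv.f (nat_lit 20057), Mv.f (nat_lit 20840)]))))))))
(Tr.nd (nat_lit 20852) (Tr.nd (nat_lit 20847) (Tr.nd (nat_lit 20844) (Tr.nd (nat_lit 20843) (Tr.lf (Fc.ed (nat_lit 20842) (nat_lit 7496) Col.e (nat_lit 7521) Dv.df))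
(Tr.lf (Fc.ed (nat_lit 20843) (nat_lit 7521) Col.b (nat_lit 7488) (Dv.wd (nat_lit 49) [Mv.b (nat_lit 20790), Mv.b (nat_lit 20792), Mv.f (nat_lit 20842)]))))
(Tr.nd (nat_lit 20845) (Tr.lf (Fc.ed (nat_lit 20844) (nat_lit 7296) Col.f (nat_lit 7522) Dv.df))
(Tr.nd (nat_lit 20846) (Tr.lf (Fc.ed (nat_lit 20845) (nat_lit 7522) Col.b (nat_lit 7466) (Dv.wd (nat_lit 66) [Mv.b (nat_lit 20715), Mv.b (nat_lit 20179), Mv.f (nat_lit 20844)])))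
(Tr.lf (Fc.ed (nat_lit 20846) (nat_lit 7522) Col.c (nat_lit 7488) (Dv.wd (nat_lit 34) [Mv.b (nat_lit 20779), Mv.f (nat_lit 20643), Mv.f (nat_lit 20844)]))))))
(Tr.nd (nat_lit 20849) (Tr.nd (nat_lit 20848) (Tr.lf (Fc.ed (nat_lit 20847) (nat_lit 7520) Col.a (nat_lit 7523) Dv.df))
(Tr.lf (Fc.ed (nat_lit 20848) (nat_lit 7523) Col.c (nat_lit 7380) (Dv.wd (nat_lit 33) [Mv.b (nat_lit 20362), Mv.b (nat_lit 20841), Mv.f (nat_lit 20847)]))))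
(Tr.nd (nat_lit 20850) (Tr.lf (Fc.ed (nat_lit 20849) (nat_lit 7518) Col.a (nat_lit 7524) Dv.df))
(Tr.nd (nat_lit 20851) (Tr.lf (Fc.ed (nat_lit 20850) (nat_lit 7524) Col.f (nat_lit 7159) (Dv.wd (nat_lit 35) [Mv.f (nat_lit 19699), Mv.b (nat_lit 20837), Mv.f (nat_lit 20849)])))
(Tr.lf (Fc.ed (nat_lit 20851) (nat_lit 7486) Col.g (nat_lit 7518) (Dv.wd (nat_lit 9) [Mv.f (nat_lit 20849), Mv.f (nat_lit 20850), Mv.b (nat_lit 20775)])))))))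
(Tr.nd (nat_lit 20857) (Tr.nd (nat_lit 20854) (Tr.nd (nat_lit 20853) (Tr.lf (Fc.ed (nat_lit 20852) (nat_lit 7495) Col.d (nat_lit 7525) Dv.df))
(Tr.lf (Fc.ed (nat_lit 20853) (nat_lit 7425) Col.f (nat_lit 7526) Dv.df)))
(Tr.nd (nat_lit 20855) (Tr.lf (Fc.ed (nat_lit 20854) (nat_lit 7526) Col.e (nat_lit 7518) (Dv.wd (nat_lit 22) [Mv.f (nat_lit 20837), Mv.b (nat_lit 17985), Mv.b (nat_lit 14201), Mv.b (nat_lit 20444), Mv.f (nat_lit 20853)])))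
(Tr.nd (nat_lit 20856) (Tr.lf (Fc.ed (nat_lit 20855) (nat_lit 7372) Col.gi (nat_lit 7527) Dv.df))
(Tr.lf (Fc.ed (nat_lit 20856) (nat_lit 7527) Col.gi (nat_lit 5221) (Dv.wd (nat_lit 24) [Mv.f (nat_lit 20393), Mv.f (nat_lit 20394), Mv.f (nat_lit 20855)]))))))
(Tr.nd (nat_lit 20860) (Tr.nd (nat_lit 20858) (Tr.lf (Fc.ed (nat_lit 20857) (nat_lit 7275) Col.a (nat_lit 7528) Dv.df))
(Tr.nd (nat_lit 20859) (Tr.lf (Fc.ed (nat_lit 20858) (nat_lit 7528) Col.c (nat_lit 7409) (Dv.wd (nat_lit 33) [Mv.f (nat_lit 20410), Mv.b (nat_lit 20118), Mv.f (nat_lit 20857)])))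
(Tr.lf (Fc.ed (nat_lit 20859) (nat_lit 7525) Col.b (nat_lit 7529) Dv.df))))
(Tr.nd (nat_lit 20861) (Tr.lf (Fc.ed (nat_lit 20860) (nat_lit 7529) Col.d (nat_lit 7496) (Dv.wd (nat_lit 58) [Mv.f (nat_lit 20792), Mv.f (nat_lit 20852), Mv.f (nat_lit 20859)])))
(Tr.nd (nat_lit 20862) (Tr.lf (Fc.ed (nat_lit 20861) (nat_lit 7515) Col.gi (nat_lit 7530) Dv.df))
(Tr.lf (Fc.ed (nat_lit 20862) (nat_lit 7530) Col.c (nat_lit 7455) (Dv.wd (nat_lit 14) [Mv.b (nat_lit 20705), Mv.b (nat_lit 20704), Mv.b (nat_lit 20535), Mv.b (nat_lit 19667), Mv.b (nat_lit 20784), Mv.f (nat_lit 20788), Mv.f (nat_lit 20808), Mv.f (nat_lit 20831), Mv.f (nat_lit 20861)])))))))))))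
(Tr.nd (nat_lit 20945) (Tr.nd (nat_lit 20904) (Tr.nd (nat_lit 20883) (Tr.nd (nat_lit 20873) (Tr.nd (nat_lit 20868) (Tr.nd (nat_lit 20865) (Tr.nd (nat_lit 20864) (Tr.lf (Fc.ed (nat_lit 20863) (nat_lit 7316) Col.f (nat_lit 7531) Dv.df))
(Tr.lf (Fc.ed (nat_lit 20864) (nat_lit 7531) Col.b (nat_lit 7416) (Dv.wd (nat_lit 66) [Mv.f (nat_lit 20426), Mv.f (nat_lit 20220), Mv.f (nat_lit 20863)]))))
(Tr.nd (nat_lit 20866) (Tr.lf (Fc.ed (nat_lit 20865) (nat_lit 7531) Col.c (nat_lit 7499) (Dv.wd (nat_lit 34) [Mv.f (nat_lit 20798), Mv.b (nat_lit 20655), Mv.f (nat_lit 20863)])))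
(Tr.nd (nat_lit 20867) (Tr.lf (Fc.ed (nat_lit 20866) (nat_lit 7496) Col.c (nat_lit 7532) Dv.df))
(Tr.lf (Fc.ed (nat_lit 20867) (nat_lit 7527) Col.c (nat_lit 7533) Dv.df)))))
(Tr.nd (nat_lit 20870) (Tr.nd (nat_lit 20869) (Tr.lf (Fc.ed (nat_lit 20868) (nat_lit 7533) Col.g (nat_lit 7403) (Dv.wd (nat_lit 77) [Mv.b (nat_lit 20414), Mv.b (nat_lit 20417), Mv.f (nat_lit 20661), Mv.b (nat_lit 20747), Mv.b (nat_lit 20746), Mv.b (nat_lit 20408), Mv.f (nat_lit 15825), Mv.b (nat_lit 20856), Mv.f (nat_lit 20867)])))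
(Tr.lf (Fc.ed (nat_lit 20869) (nat_lit 5707) Col.g (nat_lit 7533) (Dv.wd (nat_lit 17) [Mv.f (nat_lit 20868), Mv.f (nat_lit 20442), Mv.f (nat_lit 20441)]))))
(Tr.nd (nat_lit 20871) (Tr.lf (Fc.ed (nat_lit 20870) (nat_lit 7273) Col.b (nat_lit 7534) Dv.df))
(Tr.nd (nat_lit 20872) (Tr.lf (Fc.ed (nat_lit 20871) (nat_lit 7534) Col.g (nat_lit 7519) (Dv.wd (nat_lit 122) [Mv.f (nat_lit 20839), Mv.b (nat_lit 19693), Mv.b (nat_lit 16298), Mv.b (nat_lit 17502), Mv.b (nat_lit 17798), Mv.f (nat_lit 18026), Mv.f (nat_lit 20562), Mv.f (nat_lit 18093), Mv.f (nat_lit 20115), Mv.f (nat_lit 20870)])))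
(Tr.lf (Fc.ed (nat_lit 20872) (nat_lit 7416) Col.g (nat_lit 7535) Dv.df))))))
(Tr.nd (nat_lit 20878) (Tr.nd (nat_lit 20875) (Tr.nd (nat_lit 20874) (Tr.lf (Fc.ed (nat_lit 20873) (nat_lit 7535) Col.g (nat_lit 6778) (Dv.wd (nat_lit 9) [Mv.b (nat_lit 19887), Mv.b (nat_lit 20426), Mv.f (nat_lit 20872)])))
(Tr.lf (Fc.ed (nat_lit 20874) (nat_lit 6979) Col.b (nat_lit 7536) Dv.df)))
(Tr.nd (nat_lit 20876) (Tr.lf (Fc.ed (nat_lit 20875) (nat_lit 7536) Col.c (nat_lit 7534) (Dv.wd (nat_lit 93) [Mv.b (nat_lit 20870), Mv.b (nat_lit 20115), Mv.b (nat_lit 20537), Mv.b (nat_lit 20536), Mv.f (nat_lit 20874)])))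
(Tr.nd (nat_lit 20877) (Tr.lf (Fc.ed (nat_lit 20876) (nat_lit 7512) Col.g (nat_lit 7537) Dv.df))
(Tr.lf (Fc.ed (nat_lit 20877) (nat_lit 7537) Col.g (nat_lit 7498) (Dv.wd (nat_lit 9) [Mv.b (nat_lit 20815), Mv.b (nat_lit 20825), Mv.f (nat_lit 20876)]))))))
(Tr.nd (nat_lit 20880) (Tr.nd (nat_lit 20879) (Tr.lf (Fc.ed (nat_lit 20878) (nat_lit 7537) Col.d (nat_lit 7530) (Dv.wd (nat_lit 51) [Mv.b (nat_lit 20861), Mv.b (nat_lit 20831), Mv.f (nat_lit 20809), Mv.b (nat_lit 20768), Mv.b (nat_lit 20594), Mv.f (nat_lit 20787), Mv.b (nat_lit 20821), Mv.b (nat_lit 20826), Mv.f (nat_lit 20876)])))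
(Tr.lf (Fc.ed (nat_lit 20879) (nat_lit 7138) Col.e (nat_lit 7538) Dv.df)))
(Tr.nd (nat_lit 20881) (Tr.lf (Fc.ed (nat_lit 20880) (nat_lit 7538) Col.a (nat_lit 7419) (Dv.wd (nat_lit 15) [Mv.b (nat_lit 20430), Mv.f (nat_lit 19660), Mv.f (nat_lit 20879)])))
(Tr.nd (nat_lit 20882) (Tr.lf (Fc.ed (nat_lit 20881) (nat_lit 7538) Col.b (nat_lit 7380) (Dv.wd (nat_lit 49) [Mv.b (nat_lit 20364), Mv.b (nat_lit 19662), Mv.f (nat_lit 20879)])))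
(Tr.lf (Fc.ed (nat_lit 20882) (nat_lit 7516) Col.a (nat_lit 7539) Dv.df)))))))
(Tr.nd (nat_lit 20893) (Tr.nd (nat_lit 20888) (Tr.nd (nat_lit 20885) (Tr.nd (nat_lit 20884) (Tr.lf (Fc.ed (nat_lit 20883) (nat_lit 7539) Col.d (nat_lit 7403) (Dv.wd (nat_lit 28) [Mv.f (nat_lit 20442), Mv.f (nat_lit 20832), Mv.f (nat_lit 20882)])))
(Tr.lf (Fc.ed (nat_lit 20884) (nat_lit 7404) Col.c (nat_lit 7540) Dv.df)))
(Tr.nd (nat_lit 20886) (Tr.lf (Fc.ed (nat_lit 20885) (nat_lit 7505) Col.e (nat_lit 7541) Dv.df))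
(Tr.nd (nat_lit 20887) (Tr.lf (Fc.ed (nat_lit 20886) (nat_lit 7541) Col.c (nat_lit 7466) (Dv.wd (nat_lit 18) [Mv.f (nat_lit 20716), Mv.b (nat_lit 20811), Mv.f (nat_lit 20885)])))
(Tr.lf (Fc.ed (nat_lit 20887) (nat_lit 7275) Col.d (nat_lit 7542) Dv.df)))))
(Tr.nd (nat_lit 20890) (Tr.nd (nat_lit 20889) (Tr.lf (Fc.ed (nat_lit 20888) (nat_lit 7419) Col.f (nat_lit 7543) Dv.df))
(Tr.lf (Fc.ed (nat_lit 20889) (nat_lit 6410) Col.gi (nat_lit 7544) Dv.df)))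
(Tr.nd (nat_lit 20891) (Tr.lf (Fc.ed (nat_lit 20890) (nat_lit 7544) Col.gi (nat_lit 7471) (Dv.wd (nat_lit 24) [Mv.f (nat_lit 20750), Mv.f (nat_lit 16690), Mv.f (nat_lit 20889)])))
(Tr.nd (nat_lit 20892) (Tr.lf (Fc.ed (nat_lit 20891) (nat_lit 7544) Col.c (nat_lit 7535) (Dv.wd (nat_lit 94) [Mv.b (nat_lit 20872), Mv.b (nat_lit 20864), Mv.f (nat_lit 20865), Mv.f (nat_lit 20799), Mv.f (nat_lit 20221), Mv.b (nat_lit 20627), Mv.f (nat_lit 20628), Mv.b (nat_lit 20265), Mv.f (nat_lit 20266), Mv.f (nat_lit 20889)])))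
(Tr.lf (Fc.ed (nat_lit 20892) (nat_lit 7246) Col.e (nat_lit 7545) Dv.df))))))
(Tr.nd (nat_lit 20898) (Tr.nd (nat_lit 20895) (Tr.nd (nat_lit 20894) (Tr.lf (Fc.ed (nat_lit 20893) (nat_lit 7524) Col.e (nat_lit 7546) Dv.df))
(Tr.lf (Fc.ed (nat_lit 20894) (nat_lit 7546) Col.a (nat_lit 7526) (Dv.wd (nat_lit 15) [Mv.f (nat_lit 20854), Mv.f (nat_lit 20849), Mv.f (nat_lit 20893)]))))
(Tr.nd (nat_lit 20896) (Tr.lf (Fc.ed (nat_lit 20895) (nat_lit 7546) Col.f (nat_lit 7428) (Dv.wd (nat_lit 96) [Mv.f (nat_lit 20450), Mv.b (nat_lit 14718), Mv.f (nat_lit 19698), Mv.b (nat_lit 20850), Mv.f (nat_lit 20893)])))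
(Tr.nd (nat_lit 20897) (Tr.lf (Fc.ed (nat_lit 20896) (nat_lit 7543) Col.d (nat_lit 7546) (Dv.wd (nat_lit 90) [Mv.f (nat_lit 20895), Mv.b (nat_lit 20449), Mv.f (nat_lit 20888)])))
(Tr.lf (Fc.ed (nat_lit 20897) (nat_lit 6718) Col.b (nat_lit 7547) Dv.df)))))
(Tr.nd (nat_lit 20901) (Tr.nd (nat_lit 20899) (Tr.lf (Fc.ed (nat_lit 20898) (nat_lit 7525) Col.g (nat_lit 7548) Dv.df))
(Tr.nd (nat_lit 20900) (Tr.lf (Fc.ed (nat_lit 20899) (nat_lit 7360) Col.e (nat_lit 7549) Dv.df))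
(Tr.lf (Fc.ed (nat_lit 20900) (nat_lit 5515) Col.gi (nat_lit 7550) Dv.df))))
(Tr.nd (nat_lit 20902) (Tr.lf (Fc.ed (nat_lit 20901) (nat_lit 7550) Col.gi (nat_lit 7495) (Dv.wd (nat_lit 24) [Mv.b (nat_lit 20789), Mv.f (nat_lit 14748), Mv.f (nat_lit 20900)])))
(Tr.nd (nat_lit 20903) (Tr.lf (Fc.ed (nat_lit 20902) (nat_lit 7514) Col.g (nat_lit 7551) Dv.df))
(Tr.lf (Fc.ed (nat_lit 20903) (nat_lit 7551) Col.g (nat_lit 7241) (Dv.wd (nat_lit 9) [Mv.f (nat_lit 19908), Mv.b (nat_lit 20830), Mv.f (nat_lit 20902)])))))))))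
(Tr.nd (nat_lit 20924) (Tr.nd (nat_lit 20914) (Tr.nd (nat_lit 20909) (Tr.nd (nat_lit 20906) (Tr.nd (nat_lit 20905) (Tr.lf (Fc.ed (nat_lit 20904) (nat_lit 5422) Col.gi (nat_lit 7552) Dv.df))
(Tr.lf (Fc.ed (nat_lit 20905) (nat_lit 7552) Col.gi (nat_lit 7454) (Dv.wd (nat_lit 24) [Mv.f (nat_lit 20694), Mv.f (nat_lit 13903), Mv.f (nat_lit 20904)]))))
(Tr.nd (nat_lit 20907) (Tr.lf (Fc.ed (nat_lit 20906) (nat_lit 7485) Col.c (nat_lit 7552) (Dv.wd (nat_lit 81) [Mv.f (nat_lit 20905), Mv.f (nat_lit 20749), Mv.b (nat_lit 20890), Mv.f (nat_lit 20891), Mv.f (nat_lit 20873), Mv.f (nat_lit 19195), Mv.f (nat_lit 15825), Mv.b (nat_lit 14223), Mv.f (nat_lit 20772)])))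
(Tr.nd (nat_lit 20908) (Tr.lf (Fc.ed (nat_lit 20907) (nat_lit 6600) Col.b (nat_lit 7553) Dv.df))
(Tr.lf (Fc.ed (nat_lit 20908) (nat_lit 7553) Col.f (nat_lit 7547) (Dv.wd (nat_lit 20) [Mv.b (nat_lit 20897), Mv.b (nat_lit 17551), Mv.f (nat_lit 20907)]))))))
(Tr.nd (nat_lit 20911) (Tr.nd (nat_lit 20910) (Tr.lf (Fc.ed (nat_lit 20909) (nat_lit 7503) Col.d (nat_lit 7554) Dv.df))
(Tr.lf (Fc.ed (nat_lit 20910) (nat_lit 7554) Col.b (nat_lit 7489) (Dv.wd (nat_lit 37) [Mv.b (nat_lit 20780), Mv.b (nat_lit 20807), Mv.f (nat_lit 20909)]))))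
(Tr.nd (nat_lit 20912) (Tr.lf (Fc.ed (nat_lit 20911) (nat_lit 7554) Col.f (nat_lit 7542) (Dv.wd (nat_lit 11) [Mv.b (nat_lit 20887), Mv.f (nat_lit 20806), Mv.f (nat_lit 20909)])))
(Tr.nd (nat_lit 20913) (Tr.lf (Fc.ed (nat_lit 20912) (nat_lit 7528) Col.d (nat_lit 7555) Dv.df))
(Tr.lf (Fc.ed (nat_lit 20913) (nat_lit 7555) Col.a (nat_lit 7542) (Dv.wd (nat_lit 8) [Mv.b (nat_lit 20887), Mv.f (nat_lit 20857), Mv.f (nat_lit 20912)])))))))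
(Tr.nd (nat_lit 20919) (Tr.nd (nat_lit 20916) (Tr.nd (nat_lit 20915) (Tr.lf (Fc.ed (nat_lit 20914) (nat_lit 7343) Col.e (nat_lit 7556) Dv.df))
(Tr.lf (Fc.ed (nat_lit 20915) (nat_lit 7556) Col.b (nat_lit 7421) (Dv.wd (nat_lit 49) [Mv.f (nat_lit 20465), Mv.f (nat_lit 20323), Mv.f (nat_lit 20914)]))))
(Tr.nd (nat_lit 20917) (Tr.lf (Fc.ed (nat_lit 20916) (nat_lit 7401) Col.b (nat_lit 7557) Dv.df))
(Tr.nd (nat_lit 20918) (Tr.lf (Fc.ed (nat_lit 20917) (nat_lit 7557) Col.d (nat_lit 7519) (Dv.wd (nat_lit 58) [Mv.f (nat_lit 20839), Mv.f (nat_lit 20640), Mv.f (nat_lit 20916)])))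
(Tr.lf (Fc.ed (nat_lit 20918) (nat_lit 7557) Col.gi (nat_lit 7554) (Dv.wd (nat_lit 100) [Mv.f (nat_lit 20910), Mv.f (nat_lit 20785), Mv.f (nat_lit 20786), Mv.b (nat_lit 20670), Mv.f (nat_lit 17961), Mv.b (nat_lit 14147), Mv.f (nat_lit 19749), Mv.b (nat_lit 20663), Mv.f (nat_lit 20664), Mv.f (nat_lit 20916)]))))))
(Tr.nd (nat_lit 20921) (Tr.nd (nat_lit 20920) (Tr.lf (Fc.ed (nat_lit 20919) (nat_lit 7555) Col.gi (nat_lit 7557) (Dv.wd (nat_lit 12) [Mv.f (nat_lit 20918), Mv.f (nat_lit 20911), Mv.b (nat_lit 20913)])))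
(Tr.lf (Fc.ed (nat_lit 20920) (nat_lit 7553) Col.c (nat_lit 7558) Dv.df)))
(Tr.nd (nat_lit 20922) (Tr.lf (Fc.ed (nat_lit 20921) (nat_lit 7558) Col.b (nat_lit 7145) (Dv.wd (nat_lit 87) [Mv.f (nat_lit 19674), Mv.f (nat_lit 17261), Mv.f (nat_lit 17307), Mv.f (nat_lit 20907), Mv.f (nat_lit 20920)])))
(Tr.nd (nat_lit 20923) (Tr.lf (Fc.ed (nat_lit 20922) (nat_lit 7455) Col.e (nat_lit 7559) Dv.df))
(Tr.lf (Fc.ed (nat_lit 20923) (nat_lit 7559) Col.b (nat_lit 7449) (Dv.wd (nat_lit 49) [Mv.f (nat_lit 20682), Mv.b (nat_lit 20696), Mv.f (nat_lit 20922)]))))))))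
(Tr.nd (nat_lit 20934) (Tr.nd (nat_lit 20929) (Tr.nd (nat_lit 20926) (Tr.nd (nat_lit 20925) (Tr.lf (Fc.ed (nat_lit 20924) (nat_lit 7421) Col.gi (nat_lit 7560) Dv.df))
(Tr.lf (Fc.ed (nat_lit 20925) (nat_lit 7560) Col.f (nat_lit 7538) (Dv.wd (nat_lit 13) [Mv.f (nat_lit 20880), Mv.f (nat_lit 20434), Mv.f (nat_lit 20924)]))))
(Tr.nd (nat_lit 20927) (Tr.lf (Fc.ed (nat_lit 20926) (nat_lit 7560) Col.d (nat_lit 7526) (Dv.wd (nat_lit 53) [Mv.f (nat_lit 20854), Mv.b (nat_lit 20851), Mv.b (nat_lit 20774), Mv.b (nat_lit 20748), Mv.b (nat_lit 20499), Mv.f (nat_lit 20650), Mv.b (nat_lit 20652), Mv.f (nat_lit 20752), Mv.f (nat_lit 20753), Mv.f (nat_lit 20924)])))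
(Tr.nd (nat_lit 20928) (Tr.lf (Fc.ed (nat_lit 20927) (nat_lit 7543) Col.a (nat_lit 7560) (Dv.wd (nat_lit 54) [Mv.f (nat_lit 20926), Mv.b (nat_lit 20894), Mv.b (nat_lit 20896)])))
(Tr.lf (Fc.ed (nat_lit 20928) (nat_lit 7479) Col.e (nat_lit 7561) Dv.df)))))
(Tr.nd (nat_lit 20931) (Tr.nd (nat_lit 20930) (Tr.lf (Fc.ed (nat_lit 20929) (nat_lit 7561) Col.d (nat_lit 7549) (Dv.wd (nat_lit 59) [Mv.b (nat_lit 20899), Mv.f (nat_lit 20321), Mv.b (nat_lit 20185), Mv.b (nat_lit 20761), Mv.f (nat_lit 20928)])))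
(Tr.lf (Fc.ed (nat_lit 20930) (nat_lit 7421) Col.a (nat_lit 7562) Dv.df)))
(Tr.nd (nat_lit 20932) (Tr.lf (Fc.ed (nat_lit 20931) (nat_lit 7562) Col.e (nat_lit 7354) (Dv.wd (nat_lit 56) [Mv.b (nat_lit 20547), Mv.b (nat_lit 20465), Mv.f (nat_lit 20930)])))
(Tr.nd (nat_lit 20933) (Tr.lf (Fc.ed (nat_lit 20932) (nat_lit 7538) Col.gi (nat_lit 7562) (Dv.wd (nat_lit 132) [Mv.f (nat_lit 20931), Mv.f (nat_lit 20546), Mv.f (nat_lit 20528), Mv.b (nat_lit 20532), Mv.f (nat_lit 20534), Mv.f (nat_lit 13763), Mv.f (nat_lit 13766), Mv.f (nat_lit 20038), Mv.b (nat_lit 19661), Mv.f (nat_lit 20879)])))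
(Tr.lf (Fc.ed (nat_lit 20933) (nat_lit 7562) Col.gi (nat_lit 7543) (Dv.wd (nat_lit 24) [Mv.b (nat_lit 20888), Mv.b (nat_lit 20880), Mv.f (nat_lit 20932)])))))))
(Tr.nd (nat_lit 20939) (Tr.nd (nat_lit 20936) (Tr.nd (nat_lit 20935) (Tr.lf (Fc.ed (nat_lit 20934) (nat_lit 7332) Col.f (nat_lit 7563) Dv.df))
(Tr.lf (Fc.ed (nat_lit 20935) (nat_lit 7563) Col.a (nat_lit 7496) (Dv.wd (nat_lit 16) [Mv.b (nat_lit 20791), Mv.b (nat_lit 20263), Mv.f (nat_lit 20934)]))))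
(Tr.nd (nat_lit 20937) (Tr.lf (Fc.ed (nat_lit 20936) (nat_lit 7552) Col.d (nat_lit 7564) Dv.df))
(Tr.nd (nat_lit 20938) (Tr.lf (Fc.ed (nat_lit 20937) (nat_lit 7563) Col.e (nat_lit 7565) Dv.df))
(Tr.lf (Fc.ed (nat_lit 20938) (nat_lit 7565) Col.a (nat_lit 7521) (Dv.wd (nat_lit 15) [Mv.b (nat_lit 20842), Mv.b (nat_lit 20935), Mv.f (nat_lit 20937)]))))))
(Tr.nd (nat_lit 20942) (Tr.nd (nat_lit 20940) (Tr.lf (Fc.ed (nat_lit 20939) (nat_lit 7565) Col.f (nat_lit 7477) (Dv.wd (nat_lit 96) [Mv.b (nat_lit 20758), Mv.f (nat_lit 18079), Mv.f (nat_lit 20262), Mv.f (nat_lit 20934), Mv.f (nat_lit 20937)])))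
(Tr.nd (nat_lit 20941) (Tr.lf (Fc.ed (nat_lit 20940) (nat_lit 7530) Col.e (nat_lit 7566) Dv.df))
(Tr.lf (Fc.ed (nat_lit 20941) (nat_lit 7566) Col.c (nat_lit 7559) (Dv.wd (nat_lit 18) [Mv.b (nat_lit 20922), Mv.b (nat_lit 20862), Mv.f (nat_lit 20940)])))))
(Tr.nd (nat_lit 20943) (Tr.lf (Fc.ed (nat_lit 20942) (nat_lit 7566) Col.gi (nat_lit 7511) (Dv.wd (nat_lit 132) [Mv.b (nat_lit 20822), Mv.b (nat_lit 20329), Mv.f (nat_lit 20427), Mv.f (nat_lit 20428), Mv.f (nat_lit 20313), Mv.b (nat_lit 20355), Mv.f (nat_lit 20795), Mv.b (nat_lit 20877), Mv.f (nat_lit 20878), Mv.f (nat_lit 20940)])))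
(Tr.nd (nat_lit 20944) (Tr.lf (Fc.ed (nat_lit 20943) (nat_lit 7511) Col.f (nat_lit 7567) Dv.df))
(Tr.lf (Fc.ed (nat_lit 20944) (nat_lit 7567) Col.c (nat_lit 7565) (Dv.wd (nat_lit 34) [Mv.f (nat_lit 20939), Mv.b (nat_lit 20823), Mv.f (nat_lit 20943)]))))))))))
(Tr.nd (nat_lit 20986) (Tr.nd (nat_lit 20965) (Tr.nd (nat_lit 20955) (Tr.nd (nat_lit 20950) (Tr.nd (nat_lit 20947) (Tr.nd (nat_lit 20946) (Tr.lf (Fc.ed (nat_lit 20945) (nat_lit 7375) Col.a (nat_lit 7568) Dv.df))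
(Tr.lf (Fc.ed (nat_lit 20946) (nat_lit 7267) Col.e (nat_lit 7569) Dv.df)))
(Tr.nd (nat_lit 20948) (Tr.lf (Fc.ed (nat_lit 20947) (nat_lit 7569) Col.d (nat_lit 7545) (Dv.wd (nat_lit 59) [Mv.b (nat_lit 20892), Mv.f (nat_lit 20013), Mv.f (nat_lit 15133), Mv.b (nat_lit 20074), Mv.f (nat_lit 20946)])))
(Tr.nd (nat_lit 20949) (Tr.lf (Fc.ed (nat_lit 20948) (nat_lit 7517) Col.g (nat_lit 7570) Dv.df))
(Tr.lf (Fc.ed (nat_lit 20949) (nat_lit 7570) Col.g (nat_lit 7388) (Dv.wd (nat_lit 9) [Mv.b (nat_lit 20374), Mv.f (nat_lit 20834), Mv.f (nat_lit 20948)]))))))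
(Tr.nd (nat_lit 20952) (Tr.nd (nat_lit 20951) (Tr.lf (Fc.ed (nat_lit 20950) (nat_lit 7570) Col.b (nat_lit 7552) (Dv.wd (nat_lit 104) [Mv.b (nat_lit 20906), Mv.b (nat_lit 20772), Mv.f (nat_lit 14223), Mv.b (nat_lit 15034), Mv.f (nat_lit 20289), Mv.f (nat_lit 20757), Mv.b (nat_lit 20828), Mv.b (nat_lit 20827), Mv.b (nat_lit 20835), Mv.f (nat_lit 20948)])))
(Tr.lf (Fc.ed (nat_lit 20951) (nat_lit 7570) Col.d (nat_lit 7571) Dv.df)))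
(Tr.nd (nat_lit 20953) (Tr.lf (Fc.ed (nat_lit 20952) (nat_lit 7571) Col.b (nat_lit 7564) (Dv.wd (nat_lit 37) [Mv.b (nat_lit 20936), Mv.b (nat_lit 20950), Mv.f (nat_lit 20951)])))
(Tr.nd (nat_lit 20954) (Tr.lf (Fc.ed (nat_lit 20953) (nat_lit 7571) Col.gi (nat_lit 7536) (Dv.wd (nat_lit 50) [Mv.f (nat_lit 20875), Mv.f (nat_lit 20871), Mv.b (nat_lit 20917), Mv.b (nat_lit 20919), Mv.b (nat_lit 20912), Mv.f (nat_lit 20858), Mv.b (nat_lit 20409), Mv.b (nat_lit 20949), Mv.f (nat_lit 20951)])))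
(Tr.lf (Fc.ed (nat_lit 20954) (nat_lit 7568) Col.b (nat_lit 7572) Dv.df))))))
(Tr.nd (nat_lit 20960) (Tr.nd (nat_lit 20957) (Tr.nd (nat_lit 20956) (Tr.lf (Fc.ed (nat_lit 20955) (nat_lit 7572) Col.a (nat_lit 7553) (Dv.wd (nat_lit 98) [Mv.b (nat_lit 20907), Mv.f (nat_lit 19414), Mv.b (nat_lit 20353), Mv.f (nat_lit 20945), Mv.f (nat_lit 20954)])))
(Tr.lf (Fc.ed (nat_lit 20956) (nat_lit 7553) Col.gi (nat_lit 7573) Dv.df)))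
(Tr.nd (nat_lit 20958) (Tr.lf (Fc.ed (nat_lit 20957) (nat_lit 7573) Col.c (nat_lit 7564) (Dv.wd (nat_lit 143) [Mv.b (nat_lit 20952), Mv.f (nat_lit 20953), Mv.b (nat_lit 20874), Mv.f (nat_lit 20536), Mv.f (nat_lit 17981), Mv.b (nat_lit 19869), Mv.b (nat_lit 19868), Mv.b (nat_lit 20921), Mv.b (nat_lit 20920), Mv.f (nat_lit 20956)])))
(Tr.nd (nat_lit 20959) (Tr.lf (Fc.ed (nat_lit 20958) (nat_lit 7305) Col.e (nat_lit 7574) Dv.df))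
(Tr.lf (Fc.ed (nat_lit 20959) (nat_lit 7574) Col.a (nat_lit 7569) (Dv.wd (nat_lit 15) [Mv.b (nat_lit 20946), Mv.b (nat_lit 20195), Mv.f (nat_lit 20958)]))))))
(Tr.nd (nat_lit 20962) (Tr.nd (nat_lit 20961) (Tr.lf (Fc.ed (nat_lit 20960) (nat_lit 7426) Col.gi (nat_lit 7575) Dv.df))
(Tr.lf (Fc.ed (nat_lit 20961) (nat_lit 7575) Col.gi (nat_lit 7488) (Dv.wd (nat_lit 24) [Mv.b (nat_lit 20779), Mv.f (nat_lit 20642), Mv.f (nat_lit 20960)]))))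
(Tr.nd (nat_lit 20963) (Tr.lf (Fc.ed (nat_lit 20962) (nat_lit 7421) Col.f (nat_lit 7576) Dv.df))
(Tr.nd (nat_lit 20964) (Tr.lf (Fc.ed (nat_lit 20963) (nat_lit 7576) Col.g (nat_lit 7543) (Dv.wd (nat_lit 17) [Mv.b (nat_lit 20933), Mv.b (nat_lit 20930), Mv.f (nat_lit 20962)])))
(Tr.lf (Fc.ed (nat_lit 20964) (nat_lit 7538) Col.g (nat_lit 7576) (Dv.wd (nat_lit 17) [Mv.f (nat_lit 20963), Mv.f (nat_lit 20927), Mv.f (nat_lit 20925)]))))))))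
(Tr.nd (nat_lit 20975) (Tr.nd (nat_lit 20970) (Tr.nd (nat_lit 20967) (Tr.nd (nat_lit 20966) (Tr.lf (Fc.ed (nat_lit 20965) (nat_lit 7484) Col.e (nat_lit 7577) Dv.df))
(Tr.lf (Fc.ed (nat_lit 20966) (nat_lit 7577) Col.g (nat_lit 7574) (Dv.wd (nat_lit 38) [Mv.b (nat_lit 20958), Mv.b (nat_lit 20194), Mv.f (nat_lit 17750), Mv.f (nat_lit 20602), Mv.f (nat_lit 20706), Mv.f (nat_lit 20818), Mv.f (nat_lit 20819), Mv.b (nat_lit 20778), Mv.b (nat_lit 20771), Mv.f (nat_lit 20965)]))))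
(Tr.nd (nat_lit 20968) (Tr.lf (Fc.ed (nat_lit 20967) (nat_lit 7558) Col.g (nat_lit 7578) Dv.df))
(Tr.nd (nat_lit 20969) (Tr.lf (Fc.ed (nat_lit 20968) (nat_lit 7532) Col.gi (nat_lit 7579) Dv.df))
(Tr.lf (Fc.ed (nat_lit 20969) (nat_lit 7425) Col.g (nat_lit 7580) Dv.df)))))
(Tr.nd (nat_lit 20972) (Tr.nd (nat_lit 20971) (Tr.lf (Fc.ed (nat_lit 20970) (nat_lit 7569) Col.f (nat_lit 7581) Dv.df))
(Tr.lf (Fc.ed (nat_lit 20971) (nat_lit 7581) Col.g (nat_lit 7577) (Dv.wd (nat_lit 17) [Mv.f (nat_lit 20966), Mv.f (nat_lit 20959), Mv.f (nat_lit 20970)]))))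
(Tr.nd (nat_lit 20973) (Tr.lf (Fc.ed (nat_lit 20972) (nat_lit 7196) Col.e (nat_lit 7582) Dv.df))
(Tr.nd (nat_lit 20974) (Tr.lf (Fc.ed (nat_lit 20973) (nat_lit 7582) Col.d (nat_lit 7577) (Dv.wd (nat_lit 59) [Mv.b (nat_lit 20965), Mv.f (nat_lit 20771), Mv.b (nat_lit 20727), Mv.b (nat_lit 20447), Mv.f (nat_lit 20972)])))
(Tr.lf (Fc.ed (nat_lit 20974) (nat_lit 7541) Col.b (nat_lit 7583) Dv.df))))))
(Tr.nd (nat_lit 20980) (Tr.nd (nat_lit 20977) (Tr.nd (nat_lit 20976) (Tr.lf (Fc.ed (nat_lit 20975) (nat_lit 7583) Col.c (nat_lit 7521) (Dv.wd (nat_lit 93) [Mv.f (nat_lit 20843), Mv.b (nat_lit 20846), Mv.f (nat_lit 20845), Mv.b (nat_lit 20886), Mv.f (nat_lit 20974)])))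
(Tr.lf (Fc.ed (nat_lit 20976) (nat_lit 7567) Col.a (nat_lit 7583) (Dv.wd (nat_lit 76) [Mv.f (nat_lit 20975), Mv.b (nat_lit 20938), Mv.b (nat_lit 20944)]))))
(Tr.nd (nat_lit 20978) (Tr.lf (Fc.ed (nat_lit 20977) (nat_lit 7583) Col.gi (nat_lit 7566) (Dv.wd (nat_lit 12) [Mv.f (nat_lit 20942), Mv.f (nat_lit 20943), Mv.f (nat_lit 20976)])))
(Tr.nd (nat_lit 20979) (Tr.lf (Fc.ed (nat_lit 20978) (nat_lit 7550) Col.c (nat_lit 7575) (Dv.wd (nat_lit 94) [Mv.f (nat_lit 20961), Mv.b (nat_lit 20843), Mv.b (nat_lit 20975), Mv.f (nat_lit 20977), Mv.f (nat_lit 20941), Mv.f (nat_lit 20923), Mv.b (nat_lit 20681), Mv.f (nat_lit 17986), Mv.b (nat_lit 14115), Mv.f (nat_lit 20900)])))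
(Tr.lf (Fc.ed (nat_lit 20979) (nat_lit 7185) Col.b (nat_lit 7584) Dv.df)))))
(Tr.nd (nat_lit 20983) (Tr.nd (nat_lit 20981) (Tr.lf (Fc.ed (nat_lit 20980) (nat_lit 7584) Col.f (nat_lit 7558) (Dv.wd (nat_lit 20) [Mv.f (nat_lit 20921), Mv.b (nat_lit 19754), Mv.f (nat_lit 20979)])))
(Tr.nd (nat_lit 20982) (Tr.lf (Fc.ed (nat_lit 20981) (nat_lit 7584) Col.c (nat_lit 7547) (Dv.wd (nat_lit 93) [Mv.b (nat_lit 20897), Mv.f (nat_lit 17550), Mv.b (nat_lit 17075), Mv.b (nat_lit 19753), Mv.f (nat_lit 20979)])))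
(Tr.lf (Fc.ed (nat_lit 20982) (nat_lit 7547) Col.a (nat_lit 7585) Dv.df))))
(Tr.nd (nat_lit 20984) (Tr.lf (Fc.ed (nat_lit 20983) (nat_lit 7585) Col.f (nat_lit 7572) (Dv.wd (nat_lit 35) [Mv.f (nat_lit 20955), Mv.f (nat_lit 20908), Mv.f (nat_lit 20982)])))
(Tr.nd (nat_lit 20985) (Tr.lf (Fc.ed (nat_lit 20984) (nat_lit 7573) Col.gi (nat_lit 7585) (Dv.wd (nat_lit 24) [Mv.f (nat_lit 20983), Mv.f (nat_lit 20955), Mv.f (nat_lit 20956)])))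
(Tr.lf (Fc.ed (nat_lit 20985) (nat_lit 7556) Col.f (nat_lit 7586) Dv.df))))))))
(Tr.nd (nat_lit 21007) (Tr.nd (nat_lit 20996) (Tr.nd (nat_lit 20991) (Tr.nd (nat_lit 20988) (Tr.nd (nat_lit 20987) (Tr.lf (Fc.ed (nat_lit 20986) (nat_lit 7586) Col.b (nat_lit 7576) (Dv.wd (nat_lit 66) [Mv.b (nat_lit 20962), Mv.b (nat_lit 20915), Mv.f (nat_lit 20985)])))
(Tr.lf (Fc.ed (nat_lit 20987) (nat_lit 7351) Col.gi (nat_lit 7587) Dv.df)))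
(Tr.nd (nat_lit 20989) (Tr.lf (Fc.ed (nat_lit 20988) (nat_lit 7500) Col.b (nat_lit 7588) Dv.df))
(Tr.nd (nat_lit 20990) (Tr.lf (Fc.ed (nat_lit 20989) (nat_lit 7588) Col.c (nat_lit 7587) (Dv.wd (nat_lit 135) [Mv.b (nat_lit 20987), Mv.b (nat_lit 20305), Mv.b (nat_lit 15152), Mv.f (nat_lit 20869), Mv.b (nat_lit 20867), Mv.b (nat_lit 20855), Mv.b (nat_lit 20383), Mv.b (nat_lit 20669), Mv.b (nat_lit 20801), Mv.f (nat_lit 20988)])))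
(Tr.lf (Fc.ed (nat_lit 20990) (nat_lit 7529) Col.c (nat_lit 7589) Dv.df)))))
(Tr.nd (nat_lit 20993) (Tr.nd (nat_lit 20992) (Tr.lf (Fc.ed (nat_lit 20991) (nat_lit 7580) Col.e (nat_lit 7590) Dv.df))
(Tr.lf (Fc.ed (nat_lit 20992) (nat_lit 7590) Col.d (nat_lit 7551) (Dv.wd (nat_lit 91) [Mv.f (nat_lit 20903), Mv.b (nat_lit 19907), Mv.f (nat_lit 17977), Mv.f (nat_lit 20022), Mv.b (nat_lit 20045), Mv.f (nat_lit 17890), Mv.b (nat_lit 13894), Mv.b (nat_lit 20444), Mv.f (nat_lit 20969), Mv.f (nat_lit 20991)]))))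
(Tr.nd (nat_lit 20994) (Tr.lf (Fc.ed (nat_lit 20993) (nat_lit 7584) Col.a (nat_lit 7591) Dv.df))
(Tr.nd (nat_lit 20995) (Tr.lf (Fc.ed (nat_lit 20994) (nat_lit 7591) Col.c (nat_lit 7585) (Dv.wd (nat_lit 33) [Mv.b (nat_lit 20982), Mv.b (nat_lit 20981), Mv.f (nat_lit 20993)])))
(Tr.lf (Fc.ed (nat_lit 20995) (nat_lit 7591) Col.gi (nat_lit 7578) (Dv.wd (nat_lit 12) [Mv.b (nat_lit 20967), Mv.b (nat_lit 20980), Mv.f (nat_lit 20993)])))))))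
(Tr.nd (nat_lit 21001) (Tr.nd (nat_lit 20998) (Tr.nd (nat_lit 20997) (Tr.lf (Fc.ed (nat_lit 20996) (nat_lit 7578) Col.d (nat_lit 7527) (Dv.wd (nat_lit 89) [Mv.b (nat_lit 20855), Mv.b (nat_lit 20383), Mv.b (nat_lit 20773), Mv.f (nat_lit 20906), Mv.f (nat_lit 20936), Mv.b (nat_lit 20957), Mv.f (nat_lit 20984), Mv.b (nat_lit 20994), Mv.f (nat_lit 20995)])))
(Tr.lf (Fc.ed (nat_lit 20997) (nat_lit 7539) Col.gi (nat_lit 7592) Dv.df)))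
(Tr.nd (nat_lit 20999) (Tr.lf (Fc.ed (nat_lit 20998) (nat_lit 7592) Col.gi (nat_lit 7147) (Dv.wd (nat_lit 24) [Mv.b (nat_lit 20833), Mv.f (nat_lit 20882), Mv.f (nat_lit 20997)])))
(Tr.nd (nat_lit 21000) (Tr.lf (Fc.ed (nat_lit 20999) (nat_lit 7592) Col.c (nat_lit 7593) Dv.df))
(Tr.lf (Fc.ed (nat_lit 21000) (nat_lit 7593) Col.g (nat_lit 7540) (Dv.wd (nat_lit 77) [Mv.b (nat_lit 20884), Mv.b (nat_lit 20401), Mv.f (nat_lit 20383), Mv.f (nat_lit 20855), Mv.f (nat_lit 20867), Mv.b (nat_lit 20869), Mv.f (nat_lit 19676), Mv.b (nat_lit 20998), Mv.f (nat_lit 20999)]))))))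
(Tr.nd (nat_lit 21004) (Tr.nd (nat_lit 21002) (Tr.lf (Fc.ed (nat_lit 21001) (nat_lit 7545) Col.f (nat_lit 7594) Dv.df))
(Tr.nd (nat_lit 21003) (Tr.lf (Fc.ed (nat_lit 21002) (nat_lit 7594) Col.d (nat_lit 7581) (Dv.wd (nat_lit 21) [Mv.b (nat_lit 20970), Mv.f (nat_lit 20947), Mv.f (nat_lit 21001)])))
(Tr.lf (Fc.ed (nat_lit 21003) (nat_lit 7594) Col.e (nat_lit 7586) (Dv.wd (nat_lit 22) [Mv.b (nat_lit 20985), Mv.b (nat_lit 20914), Mv.f (nat_lit 20282), Mv.f (nat_lit 20892), Mv.f (nat_lit 21001)])))))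
(Tr.nd (nat_lit 21005) (Tr.lf (Fc.ed (nat_lit 21004) (nat_lit 7586) Col.gi (nat_lit 7561) (Dv.wd (nat_lit 132) [Mv.b (nat_lit 20928), Mv.f (nat_lit 20761), Mv.b (nat_lit 17552), Mv.b (nat_lit 17528), Mv.f (nat_lit 19777), Mv.f (nat_lit 20972), Mv.f (nat_lit 20973), Mv.b (nat_lit 20971), Mv.b (nat_lit 21002), Mv.f (nat_lit 21003)])))
(Tr.nd (nat_lit 21006) (Tr.lf (Fc.ed (nat_lit 21005) (nat_lit 7579) Col.c (nat_lit 7595) Dv.df))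
(Tr.lf (Fc.ed (nat_lit 21006) (nat_lit 7595) Col.b (nat_lit 7580) (Dv.wd (nat_lit 101) [Mv.b (nat_lit 20969), Mv.b (nat_lit 20443), Mv.b (nat_lit 20446), Mv.f (nat_lit 20960), Mv.b (nat_lit 20978), Mv.f (nat_lit 20901), Mv.b (nat_lit 20792), Mv.f (nat_lit 20866), Mv.f (nat_lit 20968), Mv.f (nat_lit 21005)]))))))))
(Tr.nd (nat_lit 21017) (Tr.nd (nat_lit 21012) (Tr.nd (nat_lit 21009) (Tr.nd (nat_lit 21008) (Tr.lf (Fc.ed (nat_lit 21007) (nat_lit 7548) Col.c (nat_lit 7596) Dv.df))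
(Tr.lf (Fc.ed (nat_lit 21008) (nat_lit 7596) Col.g (nat_lit 7523) (Dv.wd (nat_lit 77) [Mv.f (nat_lit 20848), Mv.b (nat_lit 20359), Mv.b (nat_lit 20446), Mv.f (nat_lit 20960), Mv.b (nat_lit 20978), Mv.f (nat_lit 20901), Mv.f (nat_lit 20852), Mv.f (nat_lit 20898), Mv.f (nat_lit 21007)]))))
(Tr.nd (nat_lit 21010) (Tr.lf (Fc.ed (nat_lit 21009) (nat_lit 7586) Col.c (nat_lit 7597) Dv.df))
(Tr.nd (nat_lit 21011) (Tr.lf (Fc.ed (nat_lit 21010) (nat_lit 7597) Col.g (nat_lit 7589) (Dv.wd (nat_lit 123) [Mv.b (nat_lit 20990), Mv.b (nat_lit 20859), Mv.f (nat_lit 20898), Mv.f (nat_lit 21007), Mv.f (nat_lit 21008), Mv.f (nat_lit 20848), Mv.b (nat_lit 20881), Mv.f (nat_lit 20964), Mv.b (nat_lit 20986), Mv.f (nat_lit 21009)])))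
(Tr.lf (Fc.ed (nat_lit 21011) (nat_lit 7549) Col.g (nat_lit 7595) (Dv.wd (nat_lit 139) [Mv.b (nat_lit 21005), Mv.b (nat_lit 20968), Mv.b (nat_lit 20866), Mv.b (nat_lit 20860), Mv.f (nat_lit 20990), Mv.b (nat_lit 21010), Mv.b (nat_lit 21009), Mv.f (nat_lit 21004), Mv.f (nat_lit 20929)]))))))
(Tr.nd (nat_lit 21014) (Tr.nd (nat_lit 21013) (Tr.lf (Fc.ed (nat_lit 21012) (nat_lit 7595) Col.e (nat_lit 7598) Dv.df))
(Tr.lf (Fc.ed (nat_lit 21013) (nat_lit 7598) Col.b (nat_lit 7590) (Dv.wd (nat_lit 49) [Mv.b (nat_lit 20991), Mv.b (nat_lit 21006), Mv.f (nat_lit 21012)]))))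
(Tr.nd (nat_lit 21015) (Tr.lf (Fc.ed (nat_lit 21014) (nat_lit 7598) Col.d (nat_lit 7500) (Dv.wd (nat_lit 91) [Mv.b (nat_lit 20800), Mv.f (nat_lit 19907), Mv.f (nat_lit 19909), Mv.f (nat_lit 20120), Mv.f (nat_lit 20244), Mv.b (nat_lit 20187), Mv.b (nat_lit 20321), Mv.f (nat_lit 20899), Mv.f (nat_lit 21011), Mv.f (nat_lit 21012)])))
(Tr.nd (nat_lit 21016) (Tr.lf (Fc.al (nat_lit 21015) (nat_lit 7588) (nat_lit 7551) (Dv.wd (nat_lit 58) [Mv.b (nat_lit 20992), Mv.b (nat_lit 21013), Mv.f (nat_lit 21014), Mv.f (nat_lit 20988)])))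
(Tr.lf (Fc.ed (nat_lit 21016) (nat_lit 7551) Col.c (nat_lit 7587) (Dv.wd (nat_lit 103) [Mv.b (nat_lit 20989), Mv.f (nat_lit 21015)])))))))
(Tr.nd (nat_lit 21022) (Tr.nd (nat_lit 21019) (Tr.nd (nat_lit 21018) (Tr.lf (Fc.ed (nat_lit 21017) (nat_lit 7533) Col.b (nat_lit 7592) (Dv.wd (nat_lit 104) [Mv.f (nat_lit 20999), Mv.f (nat_lit 21000), Mv.b (nat_lit 20884), Mv.f (nat_lit 20829), Mv.f (nat_lit 20902), Mv.f (nat_lit 21016), Mv.b (nat_lit 20987), Mv.b (nat_lit 20305), Mv.b (nat_lit 15152), Mv.f (nat_lit 20869)])))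
(Tr.lf (Fc.al (nat_lit 21018) (nat_lit 4179) (nat_lit 4185) (Dv.wd (nat_lit 184) [Mv.b (nat_lit 19674), Mv.b (nat_lit 20921), Mv.f (nat_lit 20967), Mv.f (nat_lit 20996), Mv.f (nat_lit 20867), Mv.f (nat_lit 21017), Mv.b (nat_lit 20997), Mv.f (nat_lit 20883), Mv.b (nat_lit 20414), Mv.b (nat_lit 20454), Mv.f (nat_lit 20456), Mv.b (nat_lit 20170), Mv.f (nat_lit 17651), Mv.b (nat_lit 14353), Mv.b (nat_lit 6401), Mv.b (nat_lit 6667), Mv.b (nat_lit 6863), Mv.f (nat_lit 11450), Mv.f (nat_lit 17446), Mv.f (nat_lit 11086)]))))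
(Tr.nd (nat_lit 21020) (Tr.lf (Fc.al (nat_lit 21019) (nat_lit 3198) (nat_lit 2688) (Dv.wd (nat_lit 128) [Mv.f (nat_lit 10808), Mv.b (nat_lit 21018), Mv.b (nat_lit 10798)])))
(Tr.nd (nat_lit 21021) (Tr.lf (Fc.al (nat_lit 21020) (nat_lit 2350) (nat_lit 1504) (Dv.wd (nat_lit 29) [Mv.b (nat_lit 8254), Mv.f (nat_lit 21019), Mv.f (nat_lit 7163)])))
(Tr.lf (Fc.al (nat_lit 21021) (nat_lit 926) (nat_lit 1269) (Dv.wd (nat_lit 119) [Mv.b (nat_lit 6412), Mv.f (nat_lit 21020), Mv.f (nat_lit 5815)]))))))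
(Tr.nd (nat_lit 21025) (Tr.nd (nat_lit 21023) (Tr.lf (Fc.al (nat_lit 21022) (nat_lit 895) (nat_lit 1212) (Dv.wd (nat_lit 120) [Mv.b (nat_lit 3885), Mv.b (nat_lit 21021), Mv.b (nat_lit 2942)])))
(Tr.nd (nat_lit 21024) (Tr.lf (Fc.al (nat_lit 21023) (nat_lit 359) (nat_lit 632) (Dv.wd (nat_lit 117) [Mv.f (nat_lit 3732), Mv.b (nat_lit 21022), Mv.b (nat_lit 5816)])))
(Tr.lf (Fc.al (nat_lit 21024) (nat_lit 356) (nat_lit 314) (Dv.wd (nat_lit 120) [Mv.f (nat_lit 1742), Mv.b (nat_lit 21023), Mv.b (nat_lit 854)])))))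
(Tr.nd (nat_lit 21026) (Tr.lf (Fc.al (nat_lit 21025) (nat_lit 22) (nat_lit 17) (Dv.wd (nat_lit 103) [Mv.f (nat_lit 848), Mv.f (nat_lit 21024), Mv.f (nat_lit 2586)])))
(Tr.nd (nat_lit 21027) (Tr.lf (Fc.al (nat_lit 21026) (nat_lit 6) (nat_lit 12) (Dv.wd (nat_lit 128) [Mv.f (nat_lit 46), Mv.f (nat_lit 21025), Mv.f (nat_lit 35)])))
(Tr.lf (Fc.ed (nat_lit 21027) (nat_lit 6) Col.c (nat_lit 11) (Dv.wd (nat_lit 103) [Mv.f (nat_lit 28), Mv.b (nat_lit 21026)])))))))))))))))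
end CfsgLib.TCON
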