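import Cfsg.Agent.EqBase
import Cfsg.Agent.LibTC3
set_option autoImplicit false
set_option linter.all false
set_option maxRecDepth 1000000
set_option maxHeartbeats 0
namespace CfsgLib.TCONm
open CfsgLib.TC
inductive Col where
  | yb
  | ybi
  | yc
  | ye
  | yf
noncomputable def idx : Col → ℕ := fun c => Col.rec (motive := fun _ => ℕ) 0 1 2 3 4 c
noncomputable def inv : Col → Col := fun c => Col.rec (motive := fun _ => Col) .ybi .yb .yc .ye .yf c
def dec : ℕ → Col := fun n => if n = 0 then .yb else if n = 1 then .ybi else if n = 2 then .yc else if n = 3 then .ye else .yf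
theorem hdec : ∀ c, dec (idx c) = c := by intro c; cases c <;> rfl
theorem inv_inv : ∀ c, inv (inv c) = c := by intro c; cases c <;> rfl
def cols : List Col := [Col.yb, Col.ybi, Col.yc, Col.ye, Col.yf]
theorem hcols : ∀ c, c ∈ cols := by intro c; cases c <;> simp [cols]
noncomputable def RW : List (List Col) := [[Col.yb, Col.yb, Col.yb],
  [Col.yc, Col.yc],
  [Col.ye, Col.ye],
  [Col.yf, Col.yf],
  [Col.yc, Col.ybi, Col.yc, Col.ybi, Col.yc, Col.ybi],
  [Col.yc, Col.yb, Col.yc, Col.yb, Col.yc, Col.yb],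
  [Col.ye, Col.ybi, Col.ye, Col.ybi],
  [Col.ye, Col.yb, Col.ye, Col.yb],
  [Col.yf, Col.ybi, Col.yf, Col.ybi],
  [Col.yf, Col.yb, Col.yf, Col.yb],
  [Col.ye, Col.yc, Col.ye, Col.yc],
  [Col.yf, Col.yc, Col.yf, Col.yc],
  [Col.yf, Col.ye, Col.yf, Col.ye, Col.yf, Col.ye],
  [Col.yb, Col.ybi],
  [Col.ybi, Col.yb]]
noncomputable def SW0 : List (List Col) := []
end CfsgLib.TCONm
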