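import Cfsg.Agent.EqBase
import Cfsg.Agent.LibTC1
import Cfsg.Agent.LibFPF1
import Cfsg.Agent.LibH6ZasJ
import Cfsg.Agent.LibDade2
/-!
# Groups in which the centralizers of elements are TI-sets II (helper16)
-/
set_option autoImplicit false
set_option linter.all false
open Cfsg MulAction
open scoped Pointwise
namespace CfsgLib.TIC

universe u v

theorem quat_no {n : ℕ} : (QuaternionGroup.a (1 : ZMod (2 * 2 ^ (n + 2))) * QuaternionGroup.xa 0 * (QuaternionGroup.a 1)⁻¹) * QuaternionGroup.xa 0 ≠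
    QuaternionGroup.xa 0 * (QuaternionGroup.a (1 : ZMod (2 * 2 ^ (n + 2))) * QuaternionGroup.xa 0 * (QuaternionGroup.a 1)⁻¹) := by
  intro h
  have h1 : (QuaternionGroup.a (1 : ZMod (2 * 2 ^ (n + 2))))⁻¹ = QuaternionGroup.a (-1) := rfl
  rw [h1] at h
  simp only [QuaternionGroup.a_mul_xa, QuaternionGroup.xa_mul_a, QuaternionGroup.xa_mul_xa] at h
  have h2 := QuaternionGroup.a.inj h
  have h3 : ((4 : ℕ) : ZMod (2 * 2 ^ (n + 2))) = 0 := by
    push_cast
    linear_combination h2
  rw [ZMod.natCast_eq_zero_iff] at h3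
  have h4 := Nat.le_of_dvd (by norm_num) h3
  have h5 : 2 ^ (n + 2) = 4 * 2 ^ n := by rw [pow_add]; ring
  have h6 : 1 ≤ 2 ^ n := Nat.one_le_two_pow
  omega

theorem nil_struct {H : Type u} [Group H] [Finite H] [hn : Group.IsNilpotent H] (hF : CfsgLib.H6Zas.IsFpf H)
    (hc : ∀ y g : H, (g * y * g⁻¹) * y = y * (g * y * g⁻¹)) :
    IsCyclic H ∨ ∃ m : ℕ, Odd m ∧ Nonempty (H ≃* Multiplicative (ZMod m) × QuaternionGroup 2) := by
  classical
  haveI := Fact.mk Nat.prime_two
  obtain ⟨S⟩ : Nonempty (Sylow 2 H) := inferInstance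
  have hSn : (S : Subgroup H).Normal := (CfsgLib.SolvFitting.isNilpotent_of_sylow_normal H).mp hn 2 inferInstance S
  have cyc : IsCyclic (S : Subgroup H) → IsCyclic H := by
    intro hS
    haveI : IsZGroup H := hF.zgroup_of_two (fun P => by
      obtain ⟨g, hg⟩ := MulAction.exists_smul_eq H S P
      have h1 : g • S = S := Sylow.smul_eq_of_normal
      rw [h1] at hg
      rw [← hg]; exact hS)
    infer_instance
  rcases hF.two_sub S S.isPGroup' with hS | ⟨n, ⟨e⟩⟩
  · exact Or.inl (cyc hS)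
  rcases n with _ | _ | n
  · left
    apply cyc
    haveI h1 : IsCyclic (QuaternionGroup (2 ^ 0)) := QuaternionGroup.quaternionGroup_one_isCyclic
    exact isCyclic_of_surjective e.symm.toMonoidHom e.symm.surjective
  · right
    obtain ⟨K, hK⟩ := Subgroup.exists_left_complement'_of_coprime (N := (S : Subgroup H)) S.card_coprime_index
    have hKc : (S : Subgroup H).index = Nat.card K := hK.index_eq_card
    have hKodd : ¬ 2 ∣ Nat.card K := by rw [← hKc]; exact S.not_dvd_index
    obtain ⟨k, hk⟩ := IsPGroup.iff_card.mp S.isPGroup'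
    have hcomm : ∀ (x : K) (s : (S : Subgroup H)), Commute (K.subtype x) ((S : Subgroup H).subtype s) := by
      intro x s
      apply CfsgLib.TransNil.commute_of_coprime
      have h1 : orderOf (K.subtype x) ∣ Nat.card K := by
        have := orderOf_dvd_natCard x
        rwa [← Subgroup.orderOf_coe] at this
      have h2 : orderOf ((S : Subgroup H).subtype s) ∣ 2 ^ k := by
        rw [← hk]
        have := orderOf_dvd_natCard s
        rwa [← Subgroup.orderOf_coe] at this
      apply Nat.Coprime.coprime_dvd_left h1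
      apply Nat.Coprime.coprime_dvd_right h2
      exact (Nat.Coprime.pow_left k ((Nat.Prime.coprime_iff_not_dvd Nat.prime_two).mpr hKodd)).symm
    haveI hKn : Group.IsNilpotent K := inferInstance
    haveI hKz : IsZGroup K := (hF.sub K).zgroup_of_two (fun P => by
      obtain ⟨j, hj⟩ := IsPGroup.iff_card.mp P.isPGroup'
      have h1 : Nat.card (P : Subgroup K) ∣ Nat.card K := Subgroup.card_subgroup_dvd_card _
      have hj0 : j = 0 := by
        by_contra hj0
        apply hKodd
        rw [hj] at h1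
        exact (dvd_pow_self 2 hj0).trans h1
      rw [hj0, pow_zero] at hj
      have h2 : (P : Subgroup K) = ⊥ := Subgroup.card_eq_one.mp hj
      rw [h2]
      infer_instance)
    haveI hKcyc : IsCyclic K := inferInstance
    refine ⟨Nat.card K, ?_, ?_⟩
    · rw [← Nat.not_even_iff_odd, even_iff_two_dvd]
      exact hKodd
    · have e1 : K × (S : Subgroup H) ≃* H := MulEquiv.ofBijective (MonoidHom.noncommCoprod K.subtype (S : Subgroup H).subtype hcomm) hK
      have e2 : (S : Subgroup H) ≃* QuaternionGroup 2 := e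
      exact ⟨e1.symm.trans (MulEquiv.prodCongr (zmodCyclicMulEquiv hKcyc).symm e2)⟩
  · exfalso
    let A : (S : Subgroup H) := e.symm (QuaternionGroup.a (1 : ZMod (2 * 2 ^ (n + 2))))
    let X : (S : Subgroup H) := e.symm (QuaternionGroup.xa (0 : ZMod (2 * 2 ^ (n + 2))))
    have h1 : (A * X * A⁻¹) * X = X * (A * X * A⁻¹) := Subtype.ext (hc X.1 A.1)
    have h2 := congrArg e h1
    simp only [map_mul, map_inv] at h2
    have hA : e A = QuaternionGroup.a (1 : ZMod (2 * 2 ^ (n + 2))) := e.apply_symm_apply _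
    have hX : e X = QuaternionGroup.xa (0 : ZMod (2 * 2 ^ (n + 2))) := e.apply_symm_apply _
    rw [hA, hX] at h2
    exact quat_no h2

theorem Loc.fin {G : Type u} [Group G] [Finite G] {p : ℕ} {M : Subgroup G} {z : G} (L : Loc G p M z)
    (hN : Subgroup.normalizer (M : Set G) ≤ M) (hM : M ≠ ⊤) :
    ∃ H : Subgroup G, Cfsg.IsFrobeniusComplement H ∧
      (IsCyclic H ∨ ∃ m : ℕ, Odd m ∧ Nonempty (H ≃* Multiplicative (ZMod m) × QuaternionGroup 2)) := by
  refine ⟨M, L.frob hN hM, ?_⟩
  haveI := L.nil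
  apply nil_struct (CfsgLib.H6Zas.isFpf_of_complement M (L.frob hN hM))
  intro y g
  exact Subtype.ext (L.comm_conj y.2 g.2)

theorem card_zp {G : Type u} [Group G] {x : G} {p : ℕ} (h : orderOf x = p) : Nat.card (Subgroup.zpowers x) = p := by rw [Nat.card_zpowers, h]

/-- fixed point free: an element of order `r` normalizing a subgroup of order `q` centralizes it -/
theorem fpf_comm {G : Type u} [Group G] [Finite G] {A V : Subgroup G} (h : CfsgLib.FPF1.FPF A V) (hAV : A ≤ Subgroup.normalizer (V : Set G)) (hV : V ≠ ⊥)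
    {r q : ℕ} (hr : r.Prime) (hq : q.Prime) (hrq : r ≠ q) {t x : G} (ht : t ∈ A) (hx : x ∈ A) (hto : orderOf t = r) (hxo : orderOf x = q)
    (hn : t * x * t⁻¹ ∈ Subgroup.zpowers x) : t * x = x * t := by
  have h0 : ∀ k : ℤ, t * x ^ k * t⁻¹ ∈ Subgroup.zpowers x := by
    intro k
    rw [← conj_zpow]
    exact (Subgroup.zpowers x).zpow_mem hn k
  have h1 : ∀ s ∈ Subgroup.zpowers t, ∀ y ∈ Subgroup.zpowers x, s * y * s⁻¹ ∈ Subgroup.zpowers x := by
    have h2 : Subgroup.zpowers t ≤ Subgroup.normalizer ((Subgroup.zpowers x : Subgroup G) : Set G) := by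
      rw [Subgroup.zpowers_le]
      have h3 : (Subgroup.zpowers x).map (MulAut.conj t).toMonoidHom ≤ Subgroup.zpowers x := by
        rw [Subgroup.map_le_iff_le_comap, Subgroup.zpowers_le]
        exact hn
      have h4 : (Subgroup.zpowers x).map (MulAut.conj t).toMonoidHom = Subgroup.zpowers x := by
        apply Subgroup.eq_of_le_of_card_ge h3
        rw [Subgroup.card_map_of_injective (MulAut.conj t).injective]
      rw [Subgroup.mem_normalizer_iff]
      intro y
      constructor
      · intro hy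
        rw [← h4]
        exact ⟨y, hy, rfl⟩
      · intro hy
        rw [← h4] at hy
        obtain ⟨w, hw, hwy⟩ := hy
        have : w = y := (MulAut.conj t).injective hwy
        rw [← this]; exact hw
    intro s hs y hy
    exact (Subgroup.mem_normalizer_iff.mp (h2 hs) y).mp hy
  have hinf : Subgroup.zpowers x ⊓ Subgroup.zpowers t = ⊥ := by
    apply Subgroup.inf_eq_bot_of_coprime
    rw [card_zp hto, card_zp hxo]
    exact (Nat.coprime_primes hq hr).mpr hrq.symm
  have hcard := CfsgLib.Dade.card_sup_disjoint h1 hinf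
  rw [card_zp hto, card_zp hxo] at hcard
  have hle : Subgroup.zpowers x ⊔ Subgroup.zpowers t ≤ A := sup_le (Subgroup.zpowers_le.mpr hx) (Subgroup.zpowers_le.mpr ht)
  haveI hcyc := (h.mono hle).isCyclic_of_card_eq_mul (hle.trans hAV) hV hq hr hcard
  letI := IsCyclic.commGroup (α := (Subgroup.zpowers x ⊔ Subgroup.zpowers t : Subgroup G))
  exact congrArg Subtype.val (mul_comm (⟨t, Subgroup.mem_sup_right (Subgroup.mem_zpowers t)⟩ : (Subgroup.zpowers x ⊔ Subgroup.zpowers t : Subgroup G)) ⟨x, Subgroup.mem_sup_left (Subgroup.mem_zpowers x)⟩)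

/-- fixed point free: commuting elements of order `q` generate the same subgroup -/
theorem fpf_same {G : Type u} [Group G] [Finite G] {A V : Subgroup G} (h : CfsgLib.FPF1.FPF A V) (hAV : A ≤ Subgroup.normalizer (V : Set G)) (hV : V ≠ ⊥)
    {q : ℕ} (hq : q.Prime) {x y : G} (hx : x ∈ A) (hy : y ∈ A) (hxo : orderOf x = q) (hyo : orderOf y = q) (hxy : x * y = y * x) : y ∈ Subgroup.zpowers x := by
  classical
  have hle : Subgroup.closure ({x, y} : Set G) ≤ A := by
    rw [Subgroup.closure_le]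
    rintro w (rfl | rfl)
    · exact hx
    · exact hy
  have hpow : ∀ a ∈ Subgroup.closure ({x, y} : Set G), a ^ q = 1 := by
    apply closure_pow
    · rintro a (rfl | rfl) b (rfl | rfl)
      · rfl
      · exact hxy
      · exact hxy.symm
      · rfl
    · rintro a (rfl | rfl)
      · rw [← hxo, pow_orderOf_eq_one]
      · rw [← hyo, pow_orderOf_eq_one]
  have hB : IsPGroup q (Subgroup.closure ({x, y} : Set G)) := fun a => ⟨1, Subtype.ext (by
    show (a : G) ^ q ^ 1 = 1
    rw [pow_one]; exact hpow a a.2)⟩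
  have hxc : x ∈ Subgroup.closure ({x, y} : Set G) := Subgroup.subset_closure (Or.inl rfl)
  have hyc : y ∈ Subgroup.closure ({x, y} : Set G) := Subgroup.subset_closure (Or.inr rfl)
  have h1 := (h.mono hle).unique_sub (hle.trans hAV) hV hq hB (Subgroup.zpowers ⟨x, hxc⟩) (Subgroup.zpowers ⟨y, hyc⟩)
    (card_zp (by rw [Subgroup.orderOf_mk]; exact hxo)) (card_zp (by rw [Subgroup.orderOf_mk]; exact hyo))
  have h2 : (⟨y, hyc⟩ : Subgroup.closure ({x, y} : Set G)) ∈ Subgroup.zpowers (⟨x, hxc⟩ : Subgroup.closure ({x, y} : Set G)) := by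
    rw [h1]; exact Subgroup.mem_zpowers _
  obtain ⟨k, hk⟩ := Subgroup.mem_zpowers_iff.mp h2
  exact Subgroup.mem_zpowers_iff.mpr ⟨k, congrArg Subtype.val hk⟩

/-- the normal case -/
theorem Loc.normal_case {G : Type u} [Group G] [Finite G] {p : ℕ} {M : Subgroup G} {z : G} (L : Loc G p M z) (hN : M.Normal) (hM : M ≠ ⊤) :
    ∃ (q : ℕ) (M' : Subgroup G) (z' : G), Loc G q M' z' ∧ Subgroup.normalizer (M' : Set G) ≤ M' ∧ M' ≠ ⊤ := by
  classical
  haveI := Fintype.ofFinite G
  have hidx : M.index ≠ 1 := fun h => hM (Subgroup.index_eq_one.mp h)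
  obtain ⟨q, hq, hqi⟩ := Nat.exists_prime_and_dvd hidx
  have hco := CfsgLib.FrobK.coprime hN (fun k hk hk1 y hy => L.hC hk hk1 (Subgroup.mem_centralizer_singleton_iff.mp hy))
  have hqM : ¬ q ∣ Nat.card M := by
    intro h
    have := Nat.dvd_gcd h hqi
    rw [hco] at this
    exact hq.one_lt.ne' (Nat.dvd_one.mp this)
  obtain ⟨M', z', L'⟩ := L.tic.loc hq (hqi.trans M.index_dvd_card)
  have hz'M : z' ∉ M := by
    intro h
    apply hqM
    have := orderOf_dvd_natCard (⟨z', h⟩ : M)
    rwa [Subgroup.orderOf_mk, L'.hzp] at this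
  have hinf : ∀ x ∈ M, x ∈ M' → x = 1 := by
    intro x hx hx'
    by_contra hx1
    exact hz'M (L.hC hx hx1 ((L'.hM x).mp hx').symm)
  have hinf2 : ∀ x ∈ M, x ∈ Subgroup.normalizer (M' : Set G) → x = 1 := by
    intro x hx hx'
    have h1 : x * z' * x⁻¹ * z'⁻¹ ∈ M' := M'.mul_mem ((Subgroup.mem_normalizer_iff.mp hx' z').mp L'.hzM) (M'.inv_mem L'.hzM)
    have h2 : x * z' * x⁻¹ * z'⁻¹ ∈ M := by
      have h3 : x * z' * x⁻¹ * z'⁻¹ = x * (z' * x⁻¹ * z'⁻¹) := by group
      rw [h3]
      exact M.mul_mem hx (hN.conj_mem _ (M.inv_mem hx) z')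
    have h3 := hinf _ h2 h1
    apply hinf x hx
    rw [L'.hM]
    rw [mul_inv_eq_one, mul_inv_eq_iff_eq_mul] at h3
    exact h3
  have hfpf : CfsgLib.FPF1.FPF (Subgroup.normalizer (M' : Set G)) M := by
    intro a ha ha1
    rw [eq_bot_iff]
    rintro y ⟨hy, hya⟩
    rw [Subgroup.mem_bot]
    by_contra hy1
    have h1 : a ∈ M := L.hC hy hy1 (Subgroup.mem_centralizer_singleton_iff.mp hya).symm
    exact ha1 (hinf2 a h1 ha)
  have hAV : Subgroup.normalizer (M' : Set G) ≤ Subgroup.normalizer (M : Set G) := by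
    rw [Subgroup.normalizer_eq_top_iff.mpr hN]; exact le_top
  refine ⟨q, M', z', L', ?_, ?_⟩
  · by_contra hcon
    haveI hn' : (M'.subgroupOf (Subgroup.normalizer (M' : Set G))).Normal := inferInstance
    haveI : Fintype (Subgroup.normalizer (M' : Set G)) := Fintype.ofFinite _
    have hco' := CfsgLib.FrobK.coprime hn' (fun k hk hk1 y hy => by
      have h1 := Subgroup.mem_centralizer_singleton_iff.mp hy
      exact L'.hC (x := (k : G)) hk (fun h => hk1 (Subtype.ext h)) (congrArg Subtype.val h1))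
    have hidx' : (M'.subgroupOf (Subgroup.normalizer (M' : Set G))).index ≠ 1 := by
      intro h
      rw [Subgroup.index_eq_one, Subgroup.subgroupOf_eq_top] at h
      exact hcon h
    obtain ⟨r, hr, hri⟩ := Nat.exists_prime_and_dvd hidx'
    haveI := Fact.mk hr
    obtain ⟨t, ht⟩ := exists_prime_orderOf_dvd_card' (G := Subgroup.normalizer (M' : Set G)) r (hri.trans (Subgroup.index_dvd_card _))
    have hrM : ¬ r ∣ Nat.card M' := by
      intro h
      have h6 : Nat.card (M'.subgroupOf (Subgroup.normalizer (M' : Set G))) = Nat.card M' := Nat.card_congr (Subgroup.subgroupOfEquivOfLe Subgroup.le_normalizer).toEquiv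
      rw [← h6] at h
      have := Nat.dvd_gcd h hri
      rw [hco'] at this
      exact hr.one_lt.ne' (Nat.dvd_one.mp this)
    have hto : orderOf (t : G) = r := by rw [Subgroup.orderOf_coe, ht]
    have htM' : (t : G) ∉ M' := by
      intro h
      apply hrM
      have := orderOf_dvd_natCard (⟨t, h⟩ : M')
      rwa [Subgroup.orderOf_mk, hto] at this
    have hrq : r ≠ q := by
      rintro rfl
      apply hrM
      have := orderOf_dvd_natCard (⟨z', L'.hzM⟩ : M')
      rwa [Subgroup.orderOf_mk, L'.hzp] at this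
    have hw : (t : G) * z' * (t : G)⁻¹ ∈ M' := (Subgroup.mem_normalizer_iff.mp t.2 z').mp L'.hzM
    have hle := Subgroup.le_normalizer (H := M')
    have h7 : (t : G) * z' * (t : G)⁻¹ ∈ Subgroup.zpowers z' := by
      apply fpf_same hfpf hAV L.ne_bot hq (hle L'.hzM) (hle hw) L'.hzp
      · rw [Cfsg.Agent.LibZG1.orderOf_conj, L'.hzp]
      · exact ((L'.hM _).mp hw).symm
    have h8 := fpf_comm hfpf hAV L.ne_bot hr hq hrq t.2 (hle L'.hzM) hto L'.hzp h7
    exact htM' ((L'.hM _).mpr h8)
  · intro h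
    have h1 : z ∈ M' := by rw [h]; exact Subgroup.mem_top z
    exact L.hz1 (hinf z L.hzM h1)

end CfsgLib.TIC
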