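import Cfsg.Agent.EqBase
import Cfsg.Agent.LibTIC2
import Cfsg.Agent.LibDkH29
/-!
# Groups in which the centralizers of elements are TI-sets III (helper16)
-/
set_option autoImplicit false
set_option linter.all false
open Cfsg MulAction
open scoped Pointwise
namespace CfsgLib.TIC

universe u v

theorem normal_le_sylow {G : Type u} [Group G] [Finite G] {p : ℕ} [Fact p.Prime] {N : Subgroup G} (hN : N.Normal) (hp : IsPGroup p N) (Q : Sylow p G) : N ≤ (Q : Subgroup G) := by
  intro x hx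
  obtain ⟨R, hR⟩ := hp.exists_le_sylow
  obtain ⟨g, hg⟩ := MulAction.exists_smul_eq G R Q
  have h4 : g⁻¹ * x * g ∈ (R : Subgroup G) := by
    apply hR
    have := hN.conj_mem x hx g⁻¹
    rwa [inv_inv] at this
  rw [← hg]
  rw [Sylow.coe_subgroup_smul]
  rw [Subgroup.mem_pointwise_smul_iff_inv_smul_mem]
  rw [← MulAut.conj_inv_apply] at h4
  exact h4

open CfsgLib.Zas in
theorem Loc.no_suzuki {G : Type u} {Ω : Type v} [Group G] [MulAction G Ω] [Finite G] [Fintype Ω] {a b : Ω} {M : Subgroup G} {z : G}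
    (L : Loc G 2 M z) (D : DatS G Ω a b M) : False := by
  classical
  have hzz : z * z = 1 := CfsgLib.Invol.mul_self L.hzp
  have hzZ : z ∈ D.Z0 := ⟨hzz, D.hHa L.hzM⟩
  have key : ∀ y ∈ M, ∀ w ∈ M, w * y = y * w := by
    intro y hy
    by_cases hyZ : y ∈ D.Z0
    · intro w hw
      exact (D.Z0_comm hyZ hw).symm
    have hy1 : y ≠ 1 := by rintro rfl; exact hyZ D.Z0.one_mem
    have hstep : ∀ x ∈ EE G a b, (x * y * x⁻¹) * y = y * (x * y * x⁻¹) := by
      intro x hx
      have h1 := L.tic y x z L.hz1 (D.Z0_comm hzZ hy) (D.Z0_comm (D.conj_Z0 hx.1 hzZ) hy) y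
      exact h1.mp rfl
    have hyM : ∀ x ∈ EE G a b, x * y * x⁻¹ ∈ M := by
      intro x hx
      exact L.hC hy hy1 (hstep x hx)
    let f : D.Z0 ⊕ (EE G a b × D.Z0) → (M ⊓ Tor y : Subgroup G) := fun v => match v with
      | Sum.inl z0 => ⟨z0.1, D.Z0_le z0.2, D.Z0_comm z0.2 hy⟩
      | Sum.inr p => ⟨(p.1.1 * y * (p.1.1)⁻¹) * p.2.1, M.mul_mem (hyM _ p.1.2) (D.Z0_le p.2.2),
          (Tor y).mul_mem (hstep _ p.1.2) (D.Z0_comm p.2.2 hy)⟩
    have hback : ∀ x ∈ EE G a b, x * y * x⁻¹ ∈ D.Z0 → False := by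
      intro x hx h
      apply hyZ
      have h1 := D.conj_Z0 (x := x⁻¹) (by rw [inv_smul_eq_iff]; exact hx.1.symm) h
      have h2 : x⁻¹ * (x * y * x⁻¹) * x⁻¹⁻¹ = y := by group
      rwa [h2] at h1
    have hf : Function.Injective f := by
      rintro (⟨z0, hz0⟩ | ⟨⟨x, hx⟩, ⟨z0, hz0⟩⟩) (⟨z1, hz1⟩ | ⟨⟨x', hx'⟩, ⟨z1, hz1⟩⟩) h
      · have h1 : z0 = z1 := congrArg Subtype.val h
        subst h1; rfl
      · exfalso
        have h1 : z0 = (x' * y * x'⁻¹) * z1 := congrArg Subtype.val h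
        apply hback x' hx'
        have h2 : x' * y * x'⁻¹ = z0 * z1⁻¹ := by rw [h1]; group
        rw [h2]
        exact D.Z0.mul_mem hz0 (D.Z0.inv_mem hz1)
      · exfalso
        have h1 : (x * y * x⁻¹) * z0 = z1 := congrArg Subtype.val h
        apply hback x hx
        have h2 : x * y * x⁻¹ = z1 * z0⁻¹ := by rw [← h1]; group
        rw [h2]
        exact D.Z0.mul_mem hz1 (D.Z0.inv_mem hz0)
      · have h1 : (x * y * x⁻¹) * z0 = (x' * y * x'⁻¹) * z1 := congrArg Subtype.val h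
        have h2 : x = x' := by
          by_contra hne
          apply hyZ
          apply D.fq (x := x'⁻¹ * x) ((EE G a b).mul_mem ((EE G a b).inv_mem hx') hx) (fun h3 => hne (inv_mul_eq_one.mp h3).symm) hy
          have h4 : y⁻¹ * ((x'⁻¹ * x) * y * (x'⁻¹ * x)⁻¹) = x'⁻¹ * (z1 * z0⁻¹) * x'⁻¹⁻¹ := by
            have h5 : x * y * x⁻¹ = (x' * y * x'⁻¹) * z1 * z0⁻¹ := by rw [← h1]; group
            calc y⁻¹ * ((x'⁻¹ * x) * y * (x'⁻¹ * x)⁻¹) = y⁻¹ * x'⁻¹ * (x * y * x⁻¹) * x' := by group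
              _ = y⁻¹ * x'⁻¹ * ((x' * y * x'⁻¹) * z1 * z0⁻¹) * x' := by rw [h5]
              _ = x'⁻¹ * (z1 * z0⁻¹) * x'⁻¹⁻¹ := by group
          rw [h4]
          exact D.conj_Z0 (by rw [inv_smul_eq_iff]; exact hx'.1.symm) (D.Z0.mul_mem hz1 (D.Z0.inv_mem hz0))
        subst h2
        have h3 : z0 = z1 := mul_left_cancel h1
        subst h3; rfl
    have hcard := Nat.card_le_card_of_injective f hf
    rw [Nat.card_sum, Nat.card_prod, D.card_Z0] at hcard
    have h1 : (M ⊓ Tor y : Subgroup G) = M := by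
      apply Subgroup.eq_of_le_of_card_ge inf_le_left
      rw [D.order.1]
      nlinarith [hcard]
    intro w hw
    rw [← h1] at hw
    exact hw.2
  obtain ⟨x, y, hxy⟩ := D.hna
  exact hxy (Subtype.ext (key y y.2 x x.2))

theorem Loc.two_case {G : Type u} [Group G] [Finite G] {M : Subgroup G} {z : G} (L : Loc G 2 M z) (hN : Subgroup.normalizer (M : Set G) ≠ ⊤) :
    Subgroup.normalizer (M : Set G) ≤ M ∨
    ∃ (F : Type) (_ : Field F) (_ : Fintype F) (n : ℕ), 2 ≤ n ∧ Fintype.card F = 2 ^ n ∧ Nonempty (G ≃* Matrix.ProjectiveSpecialLinearGroup (Fin 2) F) := by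
  classical
  have hzz : z * z = 1 := CfsgLib.Invol.mul_self L.hzp
  have hz1 := L.hz1
  by_cases huniq : ∀ t ∈ M, t * t = 1 → t ≠ 1 → t = z
  · left
    intro g hg
    have h1 := huniq (g * z * g⁻¹) ((Subgroup.mem_normalizer_iff.mp hg z).mp L.hzM) (by
      calc g * z * g⁻¹ * (g * z * g⁻¹) = g * (z * z) * g⁻¹ := by group
        _ = 1 := by rw [hzz]; group) (by
      intro h
      apply hz1
      have : z = g⁻¹ * (g * z * g⁻¹) * g := by group
      rw [this, h]; group)
    rw [L.hM]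
    calc g * z = (g * z * g⁻¹) * g := by group
      _ = z * g := by rw [h1]
  right
  push Not at huniq
  obtain ⟨t', ht', htt', ht1', hne'⟩ := huniq
  have hinvM : ∀ s ∈ Subgroup.normalizer (M : Set G), s * s = 1 → s ≠ 1 → s ∈ M := by
    intro s hs hss hs1
    exact L.pelt hs ⟨1, by rw [pow_one]; exact CfsgLib.TZ.ord2 hss hs1⟩
  obtain ⟨g, -, hg⟩ := SetLike.exists_of_lt (lt_top_iff_ne_top.mpr hN)
  have hsM : g * z * g⁻¹ ∉ M := fun h => hg (L.ti L.hzM hz1 h)
  obtain ⟨s, hsdef⟩ : ∃ s, s = g * z * g⁻¹ := ⟨_, rfl⟩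
  rw [← hsdef] at hsM
  have hss : s * s = 1 := by
    rw [hsdef]
    calc g * z * g⁻¹ * (g * z * g⁻¹) = g * (z * z) * g⁻¹ := by group
      _ = 1 := by rw [hzz]; group
  have hs1 : s ≠ 1 := by rintro rfl; exact hsM M.one_mem
  have hconj : ∀ t ∈ M, t * t = 1 → t ≠ 1 → ∃ d : G, d * s * d⁻¹ = t := by
    intro t htM ht ht1
    have hso := CfsgLib.TZ.ord2 hss hs1
    have hto := CfsgLib.TZ.ord2 ht ht1
    by_cases hodd : Odd (orderOf (s * t))
    · obtain ⟨d, -, hd⟩ := CfsgLib.Invol.conj_of_odd hso hto hodd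
      exact ⟨d, hd⟩
    exfalso
    rw [Nat.not_odd_iff_even] at hodd
    obtain ⟨m, hm⟩ := hodd
    have hpos : 0 < orderOf (s * t) := orderOf_pos _
    have hm0 : 0 < m := by omega
    obtain ⟨w, hw⟩ : ∃ w, w = (s * t) ^ m := ⟨_, rfl⟩
    have hww : w * w = 1 := by rw [hw, ← pow_add, ← hm, pow_orderOf_eq_one]
    have hw1 : w ≠ 1 := by
      intro h
      rw [hw] at h
      have := orderOf_le_of_pow_eq_one hm0 h
      omega
    have hwi : w⁻¹ = w := inv_eq_of_mul_eq_one_left hww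
    have hsi : s⁻¹ = s := inv_eq_of_mul_eq_one_left hss
    have hti : t⁻¹ = t := inv_eq_of_mul_eq_one_left ht
    have h1 : s * w * s⁻¹ = w⁻¹ := by
      rw [hw, ← conj_pow, ← inv_pow]
      congr 1
      rw [mul_inv_rev, hsi, hti]
      calc s * (s * t) * s = (s * s) * t * s := by group
        _ = t * s := by rw [hss, one_mul]
    have hsw : s * w = w * s := by
      rw [hwi] at h1
      calc s * w = s * w * s⁻¹ * s := by group
        _ = w * s := by rw [h1]
    have h2 : t * w * t⁻¹ = w⁻¹ := by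
      rw [hw, ← conj_pow, ← inv_pow]
      congr 1
      rw [mul_inv_rev, hsi, hti]
      calc t * (s * t) * t = t * s * (t * t) := by group
        _ = t * s := by rw [ht, mul_one]
    have htw : t * w = w * t := by
      rw [hwi] at h2
      calc t * w = t * w * t⁻¹ * t := by group
        _ = w * t := by rw [h2]
    have hwM : w ∈ M := L.hC htM ht1 htw.symm
    exact hsM (L.hC hwM hw1 hsw)
  have hcen : ∀ t ∈ M, t * t = 1 → ∀ x ∈ M, t * x = x * t := by
    intro t ht htt x hx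
    by_cases ht1 : t = 1
    · rw [ht1, one_mul, mul_one]
    obtain ⟨d, hd⟩ := hconj t ht htt ht1
    have hk : (d * g) * z * (d * g)⁻¹ = t := by rw [← hd, hsdef]; group
    have hkn : d * g ∈ Subgroup.normalizer (M : Set G) := L.ti L.hzM hz1 (by rw [hk]; exact ht)
    have h1 : (d * g)⁻¹ * x * (d * g) ∈ M := by
      have h2 := (Subgroup.mem_normalizer_iff.mp hkn ((d * g)⁻¹ * x * (d * g))).mpr
      apply h2
      have h3 : (d * g) * ((d * g)⁻¹ * x * (d * g)) * (d * g)⁻¹ = x := by group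
      rw [h3]; exact hx
    have h2 := (L.hM _).mp h1
    calc t * x = (d * g) * (z * ((d * g)⁻¹ * x * (d * g))) * (d * g)⁻¹ := by rw [← hk]; group
      _ = (d * g) * (((d * g)⁻¹ * x * (d * g)) * z) * (d * g)⁻¹ := by rw [h2]
      _ = x * t := by rw [← hk]; group
  have T := CfsgLib.TZ.of_group (M := M) (fun x hx hx1 y hy => L.hC hx hx1 hy) (fun g x hx hx1 h => L.ti hx hx1 h) hcen
    ⟨z, L.hzM, t', ht', hzz, htt', hz1, ht1', hne'.symm⟩ hN
  haveI : Fintype (G ⧸ Subgroup.normalizer (M : Set G)) := Fintype.ofFinite _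
  by_cases hc : ∀ x ∈ M, ∀ y ∈ M, x * y = y * x
  · exact T.psl hc
  · obtain ⟨b, D⟩ := T.datS hc
    exact (L.no_suzuki D).elim

theorem main {G : Type u} [Group G] [Finite G] (h : TIC G) :
    Group.IsNilpotent G ∨
    (∃ H : Subgroup G, Cfsg.IsFrobeniusComplement H ∧
      (IsCyclic H ∨ ∃ m : ℕ, Odd m ∧ Nonempty (H ≃* Multiplicative (ZMod m) × QuaternionGroup 2))) ∨
    (∃ n : ℕ, 2 ≤ n ∧ Nonempty (G ≃* Matrix.ProjectiveSpecialLinearGroup (Fin 2) (GaloisField 2 n))) := by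
  classical
  by_cases hcen : ∃ z : G, z ≠ 1 ∧ ∀ w : G, w * z = z * w
  · obtain ⟨z, hz1, hz⟩ := hcen
    exact Or.inl (h.nilp hz1 hz)
  have norm : ∀ (p : ℕ) (M : Subgroup G) (z : G), Loc G p M z → M.Normal → (∃ H : Subgroup G, Cfsg.IsFrobeniusComplement H ∧
      (IsCyclic H ∨ ∃ m : ℕ, Odd m ∧ Nonempty (H ≃* Multiplicative (ZMod m) × QuaternionGroup 2))) := by
    intro p M z L hM
    have hMt : M ≠ ⊤ := by
      intro ht
      exact hcen ⟨z, L.hz1, fun w => (L.hM w).mp (ht ▸ Subgroup.mem_top w)⟩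
    obtain ⟨q, M', z', L', hN', hM'⟩ := L.normal_case hM hMt
    exact L'.fin hN' hM'
  by_cases hev : Even (Nat.card G)
  · obtain ⟨M, z, L⟩ := h.loc Nat.prime_two (even_iff_two_dvd.mp hev)
    by_cases hN : Subgroup.normalizer (M : Set G) = ⊤
    · exact Or.inr (Or.inl (norm 2 M z L (Subgroup.normalizer_eq_top_iff.mp hN)))
    · rcases L.two_case hN with h1 | ⟨F, iF, iFF, n, hn, hF, ⟨e⟩⟩
      · refine Or.inr (Or.inl (L.fin h1 ?_))
        rintro rfl
        apply hN
        rw [Subgroup.normalizer_eq_top_iff]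
        infer_instance
      · right; right
        refine ⟨n, hn, ?_⟩
        haveI := Fact.mk Nat.prime_two
        haveI : Fintype (GaloisField 2 n) := Fintype.ofFinite _
        have hcard : Fintype.card F = Fintype.card (GaloisField 2 n) := by
          rw [hF, ← Nat.card_eq_fintype_card, GaloisField.card 2 n (by omega)]
        exact ⟨e.trans (CfsgLib.Dk29.pslCongr (FiniteField.ringEquivOfCardEq hcard))⟩
  · rw [Nat.not_even_iff_odd] at hev
    by_cases hnt : Nontrivial G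
    · have hs : Group.IsSolvable G := CfsgLib.CNOdd.main _ G rfl hev (fun g hg => h.cent hg)
      obtain ⟨p, hp, N, hN, hNb, -, hNp⟩ := CfsgLib.BGPi.exists_normal_elem hs hnt
      haveI := Fact.mk hp
      obtain ⟨⟨x, hx⟩, hx1'⟩ := Subgroup.ne_bot_iff_exists_ne_one.mp hNb
      have hx1 : x ≠ 1 := fun h => hx1' (Subtype.ext h)
      have hxo : orderOf x = p := orderOf_eq_prime (hNp x hx) hx1
      obtain ⟨M, z, L⟩ := h.loc hp (hxo ▸ orderOf_dvd_natCard x)
      have hNM : N ≤ M := by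
        obtain ⟨P, hP⟩ := L.syl
        exact (normal_le_sylow hN (fun a => ⟨1, Subtype.ext (by show (a : G) ^ p ^ 1 = 1; rw [pow_one]; exact hNp a a.2)⟩) P).trans hP
      right; left
      apply norm p M z L
      apply Subgroup.normalizer_eq_top_iff.mp
      rw [eq_top_iff]
      intro g _
      exact L.ti (hNM hx) hx1 (hNM (hN.conj_mem x hx g))
    · left
      rw [not_nontrivial_iff_subsingleton] at hnt
      infer_instance

end CfsgLib.TIC
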