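import Cfsg.Agent.LibPrimPair
import Cfsg.Agent.LibBenderArrow
import Cfsg.Agent.LibLE2
import Cfsg.Agent.LibLE3
import Cfsg.Agent.LibSolvCoprime

set_option autoImplicit false

/-! A form of the Thompson–Wielandt theorem. -/

namespace CfsgLib.TWiel

open Subgroup Cfsg CfsgLib.Comp CfsgLib.Comp2 CfsgLib.Comp3 CfsgLib.PComp CfsgLib.PQ CfsgLib.PQ2
  CfsgLib.PQ3 CfsgLib.PQ4 CfsgLib.BenderMax
open scoped commutatorElement Pointwise

universe u

variable {G : Type u} [Group G] [Finite G] {p : ℕ}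

/-- `O_p(L)` normalizes `O^p(X)` for `X ⊴ A ⊴ L`. -/
theorem normalizes_res [hp : Fact p.Prime] {X A L P : Subgroup G} (hXA : X ≤ A) (hAL : A ≤ L)
    (hAX : A ≤ normalizer (X : Set G)) (hLA : L ≤ normalizer (A : Set G)) (hPL : P ≤ L)
    (hLP : L ≤ normalizer (P : Set G)) (hP : IsPGroup p P) :
    P ≤ normalizer (((pResidual p ↥X).map X.subtype : Subgroup G) : Set G) := by
  have key : ∀ g ∈ P, (pResidual p ↥X).map X.subtype ≤
      ((pResidual p ↥X).map X.subtype).comap (MulAut.conj g).toMonoidHom := by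
    intro g hg
    conv_lhs => rw [CfsgLib.LE.pResidual_map_subtype]
    rw [closure_le]
    rintro y ⟨hy, hyc⟩
    change g * y * g⁻¹ ∈ (pResidual p ↥X).map X.subtype
    rw [CfsgLib.LE.pResidual_map_subtype]
    apply Subgroup.subset_closure
    have hzc : (orderOf (g * y * g⁻¹)).Coprime p := by
      have : orderOf (g * y * g⁻¹) = orderOf y := by
        have h := orderOf_injective (MulAut.conj g).toMonoidHom (MulAut.conj g).injective y
        simpa using h
      rw [this]; exact hyc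
    refine ⟨?_, hzc⟩
    have hyA := hXA hy
    have hzA : g * y * g⁻¹ ∈ A := (mem_normalizer_iff.1 (hLA (hPL hg)) y).1 hyA
    obtain ⟨c, hc⟩ : ∃ c, c = g * y * g⁻¹ * y⁻¹ := ⟨_, rfl⟩
    have hcP : c ∈ P := by
      have h1 : y * g⁻¹ * y⁻¹ ∈ P := (mem_normalizer_iff.1 (hLP (hAL hyA)) g⁻¹).1 (inv_mem hg)
      have h2 : c = g * (y * g⁻¹ * y⁻¹) := by rw [hc]; group
      rw [h2]; exact mul_mem hg h1
    have hcA : c ∈ A := by rw [hc]; exact mul_mem hzA (inv_mem hyA)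
    have hz : g * y * g⁻¹ = c * y := by rw [hc]; group
    haveI hn : (X.subgroupOf A).Normal := (normal_subgroupOf_iff_le_normalizer hXA).2 hAX
    obtain ⟨k, hk⟩ := hP ⟨c, hcP⟩
    have hk' : c ^ p ^ k = 1 := congrArg Subtype.val hk
    obtain ⟨z, hzz⟩ : ∃ z : A, z = ⟨g * y * g⁻¹, hzA⟩ := ⟨_, rfl⟩
    have h1 : ((z : A) : A ⧸ X.subgroupOf A) = ((⟨c, hcA⟩ : A) : A ⧸ X.subgroupOf A) := by
      have h3 : z = ⟨c, hcA⟩ * ⟨y, hyA⟩ := by
        rw [hzz]; exact Subtype.ext hz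
      rw [h3, QuotientGroup.mk_mul, (QuotientGroup.eq_one_iff (⟨y, hyA⟩ : A)).2
        (mem_subgroupOf.2 hy), mul_one]
    have h2 : orderOf ((z : A) : A ⧸ X.subgroupOf A) ∣ p ^ k := by
      apply orderOf_dvd_of_pow_eq_one
      rw [h1, ← QuotientGroup.mk_pow]
      have : (⟨c, hcA⟩ : A) ^ p ^ k = 1 := Subtype.ext hk'
      rw [this, QuotientGroup.mk_one]
    have h3 : orderOf ((z : A) : A ⧸ X.subgroupOf A) ∣ orderOf (g * y * g⁻¹) := by
      refine (orderOf_map_dvd (QuotientGroup.mk' (X.subgroupOf A)) z).trans ?_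
      rw [hzz, Subgroup.orderOf_mk]
    have h4 : ((z : A) : A ⧸ X.subgroupOf A) = 1 := by
      rw [← orderOf_eq_one_iff]
      exact Nat.eq_one_of_dvd_coprimes (Nat.Coprime.pow_right k hzc) h3 h2
    rw [QuotientGroup.eq_one_iff, mem_subgroupOf, hzz] at h4
    exact h4
  intro g hg
  rw [mem_normalizer_iff]
  intro x
  constructor
  · intro hx
    exact key g hg hx
  · intro hx
    have h1 := key g⁻¹ (inv_mem hg) hx
    rw [mem_comap] at h1
    simpa [mul_assoc] using h1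

theorem le_normalizer_closure' {M : Subgroup G} {S : Set G}
    (h : ∀ m ∈ M, ∀ x ∈ S, m * x * m⁻¹ ∈ S) :
    M ≤ normalizer ((Subgroup.closure S : Subgroup G) : Set G) := by
  have h1 : ∀ m ∈ M, Subgroup.closure S ≤ (Subgroup.closure S).comap (MulAut.conj m).toMonoidHom := by
    intro m hm
    rw [closure_le]
    intro x hx
    exact Subgroup.subset_closure (h m hm x hx)
  intro m hm
  rw [mem_normalizer_iff]
  intro x
  constructor
  · intro hx; exact h1 m hm hx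
  · intro hx
    have := h1 m⁻¹ (inv_mem hm) hx
    rw [mem_comap] at this
    simpa [mul_assoc] using this

/-- the data of the situation, one side -/
structure Dat (M₁ M₂ A₁ B₁ A₂ B₂ : Subgroup G) : Prop where
  hM : ∀ Z : Subgroup G, Z ≠ ⊥ → Z ≤ M₁ → M₁ ≤ normalizer (Z : Set G) → normalizer (Z : Set G) ≤ M₁
  hN : ∀ Z : Subgroup G, Z ≠ ⊥ → Z ≤ M₂ → M₂ ≤ normalizer (Z : Set G) → normalizer (Z : Set G) ≤ M₂
  ne : M₁ ≠ M₂
  card : ∀ p : ℕ, Nat.card (pCore p M₁) = Nat.card (pCore p M₂)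
  hA₁ : A₁ ≤ M₁ ⊓ M₂
  nA₁ : M₁ ≤ normalizer (A₁ : Set G)
  mA₁ : ∀ Y : Subgroup G, Y ≤ M₁ ⊓ M₂ → M₁ ≤ normalizer (Y : Set G) → Y ≤ A₁
  hB₁ : B₁ ≤ M₁ ⊓ M₂
  nB₁ : M₂ ≤ normalizer (B₁ : Set G)
  mB₁ : ∀ Y : Subgroup G, Y ≤ M₁ ⊓ M₂ → M₂ ≤ normalizer (Y : Set G) → Y ≤ B₁
  hA₂ : A₂ ≤ A₁ ⊓ B₁
  nA₂ : M₁ ≤ normalizer (A₂ : Set G)
  hB₂ : B₂ ≤ A₁ ⊓ B₁
  nB₂ : M₂ ≤ normalizer (B₂ : Set G)
  A₂ne : A₂ ≠ ⊥
  B₂ne : B₂ ≠ ⊥

variable {M₁ M₂ A₁ B₁ A₂ B₂ : Subgroup G}

theorem Dat.symm (h : Dat M₁ M₂ A₁ B₁ A₂ B₂) : Dat M₂ M₁ B₁ A₁ B₂ A₂ where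
  hM := h.hN
  hN := h.hM
  ne := h.ne.symm
  card := fun p => (h.card p).symm
  hA₁ := by rw [inf_comm]; exact h.hB₁
  nA₁ := h.nB₁
  mA₁ := by rw [inf_comm]; exact h.mB₁
  hB₁ := by rw [inf_comm]; exact h.hA₁
  nB₁ := h.nA₁
  mB₁ := by rw [inf_comm]; exact h.mA₁
  hA₂ := by rw [inf_comm]; exact h.hB₂
  nA₂ := h.nB₂
  hB₂ := by rw [inf_comm]; exact h.hA₂
  nB₂ := h.nA₂
  A₂ne := h.B₂ne
  B₂ne := h.A₂ne

theorem map_ne_bot {M : Subgroup G} {Z : Subgroup M} (h : Z ≠ ⊥) : Z.map M.subtype ≠ ⊥ := by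
  rwa [Ne, Subgroup.map_eq_bot_iff_of_injective _ (subtype_injective M)]

/-- subnormal `p`-subgroups: `P ⊴ A ⊴ M` -/
theorem le_core_of_two [hp : Fact p.Prime] {P A M : Subgroup G} (hPA : P ≤ A) (hAM : A ≤ M)
    (hAP : A ≤ normalizer (P : Set G)) (hMA : M ≤ normalizer (A : Set G)) (hP : IsPGroup p P) :
    P ≤ (pCore p M).map M.subtype := by
  have h1 : (P.subgroupOf M).IsSubnormal := by
    apply isSubnormal_of_subgroupOf (K := A.subgroupOf M) (fun x hx => hPA hx)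
    · exact ((normal_subgroupOf_iff_le_normalizer hAM).2 hMA).isSubnormal
    · apply Normal.isSubnormal
      constructor
      intro n hn g
      rw [mem_subgroupOf, mem_subgroupOf] at hn ⊢
      exact (mem_normalizer_iff.1 (hAP (mem_subgroupOf.1 g.2)) _).1 hn
  have h2 := le_pCore_of_subnormal h1 (hP.comap_of_injective _ (subtype_injective _))
  intro x hx
  exact ⟨⟨x, hAM (hPA hx)⟩, h2 (mem_subgroupOf.2 hx), rfl⟩

theorem Dat.lemB (h : Dat M₁ M₂ A₁ B₁ A₂ B₂) [hp : Fact p.Prime] (hcore : pCore p M₁ ≠ ⊥) :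
    IsPGroup p B₂ := by
  by_contra hB₂p
  obtain ⟨R, hR⟩ : ∃ R, R = (pCore p M₁).map M₁.subtype := ⟨_, rfl⟩
  obtain ⟨S, hS⟩ : ∃ S, S = (pCore p M₂).map M₂.subtype := ⟨_, rfl⟩
  obtain ⟨D, hD⟩ : ∃ D, D = (pResidual p ↥B₂).map B₂.subtype := ⟨_, rfl⟩
  have hRp : IsPGroup p R := hR ▸ (CfsgLib.Cores.pCore_isPGroup (G := M₁) p).map _
  have hSp : IsPGroup p S := hS ▸ (CfsgLib.Cores.pCore_isPGroup (G := M₂) p).map _
  have hRM : R ≤ M₁ := hR ▸ map_subtype_le _
  have hSM : S ≤ M₂ := hS ▸ map_subtype_le _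
  have hMR : M₁ ≤ normalizer (R : Set G) := hR ▸ le_normalizer_map _
  have hMS : M₂ ≤ normalizer (S : Set G) := hS ▸ le_normalizer_map _
  have hRne : R ≠ ⊥ := hR ▸ map_ne_bot hcore
  have hcoreS : pCore p M₂ ≠ ⊥ := by
    intro hb
    apply hcore
    rw [← Subgroup.card_eq_one, h.card p, hb, Subgroup.card_bot]
  have hSne : S ≠ ⊥ := hS ▸ map_ne_bot hcoreS
  have hcard : Nat.card R = Nat.card S := by
    rw [hR, hS, card_map_of_injective (subtype_injective _),
      card_map_of_injective (subtype_injective _)]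
    exact h.card p
  have hRS : R ≠ S := by
    intro he
    apply h.ne
    apply le_antisymm
    · exact hMR.trans (he ▸ h.hN S hSne hSM hMS)
    · exact (he ▸ hMS).trans (h.hM R hRne hRM hMR)
  have hDne : D ≠ ⊥ := by
    intro hb
    exact hB₂p (CfsgLib.LE.isPGroup_of_resOf_eq_bot (hD ▸ hb))
  have hDB : D ≤ B₂ := hD ▸ map_subtype_le _
  have hBD : M₂ ≤ normalizer (D : Set G) := by
    refine h.nB₂.trans ?_
    rw [hD]
    exact CfsgLib.LE.normalizer_le_normalizer_map_of_characteristic _ inferInstance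
  have hB₂M : B₂ ≤ M₂ := h.hB₂.trans (inf_le_left.trans (h.hA₁.trans inf_le_right))
  have hND : normalizer (D : Set G) ≤ M₂ := h.hN D hDne (hDB.trans hB₂M) hBD
  have hB₂A : B₂ ≤ A₁ := h.hB₂.trans inf_le_left
  have hAB₂ : A₁ ≤ normalizer (B₂ : Set G) := (h.hA₁.trans inf_le_right).trans h.nB₂
  -- `R ≤ M₂`
  have hRM₂ : R ≤ M₂ := by
    refine le_trans ?_ hND
    rw [hD]
    exact normalizes_res hB₂A (h.hA₁.trans inf_le_left) hAB₂ h.nA₁ hRM hMR hRp
  -- conjugates of `S ⊓ M₁`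
  have hconj : ∀ x ∈ M₁, ∀ s ∈ S ⊓ M₁, x * s * x⁻¹ ∈ M₂ := by
    intro x hx s hs
    obtain ⟨P, hP⟩ : ∃ P : Subgroup G, P = (S ⊓ M₁).map (MulAut.conj x).toMonoidHom := ⟨_, rfl⟩
    obtain ⟨L, hL⟩ : ∃ L : Subgroup G, L = (M₁ ⊓ M₂).map (MulAut.conj x).toMonoidHom := ⟨_, rfl⟩
    have hAL : A₁ ≤ L := by
      rw [hL]
      have h1 : A₁ = A₁.map (MulAut.conj x).toMonoidHom :=
        (CfsgLib.PSub.map_conj_eq_iff_mem_normalizer.2 (h.nA₁ hx)).symm
      rw [h1]
      exact map_mono h.hA₁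
    have hLA : L ≤ normalizer (A₁ : Set G) := by
      rw [hL]
      refine le_trans ?_ h.nA₁
      rintro _ ⟨y, hy, rfl⟩
      exact mul_mem (mul_mem hx (mem_inf.1 hy).1) (inv_mem hx)
    have hPL : P ≤ L := by
      rw [hP, hL]
      apply map_mono
      exact le_inf inf_le_right (inf_le_left.trans hSM)
    have hLP : L ≤ normalizer (P : Set G) := by
      rw [hP, hL]
      rintro _ ⟨y, hy, rfl⟩
      have hyn : y ∈ normalizer ((S ⊓ M₁ : Subgroup G) : Set G) := by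
        rw [mem_normalizer_iff]
        intro z
        rw [mem_inf, mem_inf]
        exact and_congr (mem_normalizer_iff.1 (hMS (mem_inf.1 hy).2) z)
          (mem_normalizer_iff.1 (le_normalizer (mem_inf.1 hy).1) z)
      rw [← CfsgLib.PSub.map_conj_eq_iff_mem_normalizer] at hyn ⊢
      rw [Subgroup.map_map]
      have e : (MulAut.conj ((MulAut.conj x).toMonoidHom y)).toMonoidHom.comp
          (MulAut.conj x).toMonoidHom =
          (MulAut.conj x).toMonoidHom.comp (MulAut.conj y).toMonoidHom := by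
        ext z
        simp [mul_assoc]
      rw [e, ← Subgroup.map_map, hyn]
    have hPp : IsPGroup p P := hP ▸ (hSp.to_le inf_le_left).map _
    have h3 : P ≤ normalizer (D : Set G) := by
      rw [hD]
      exact normalizes_res hB₂A hAL hAB₂ hLA hPL hLP hPp
    apply hND
    apply h3
    rw [hP]
    exact ⟨s, hs, rfl⟩
  have hSA : S ⊓ M₁ ≤ A₁ := by
    obtain ⟨Y, hY⟩ : ∃ Y : Subgroup G,
      Y = Subgroup.closure {y : G | ∃ x ∈ M₁, ∃ s ∈ S ⊓ M₁, y = x * s * x⁻¹} := ⟨_, rfl⟩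
    have h1 : Y ≤ A₁ := by
      apply h.mA₁
      · rw [hY, closure_le]
        rintro y ⟨x, hx, s, hs, rfl⟩
        exact mem_inf.2 ⟨mul_mem (mul_mem hx (mem_inf.1 hs).2) (inv_mem hx), hconj x hx s hs⟩
      · rw [hY]
        apply le_normalizer_closure'
        rintro m hm y ⟨x, hx, s, hs, rfl⟩
        exact ⟨m * x, mul_mem hm hx, s, hs, by group⟩
    refine le_trans ?_ h1
    intro s hs
    rw [hY]
    exact Subgroup.subset_closure ⟨1, one_mem _, s, hs, by group⟩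
  have hSR : S ⊓ M₁ ≤ R := by
    rw [hR]
    apply le_core_of_two hSA (h.hA₁.trans inf_le_left) _ h.nA₁ (hSp.to_le inf_le_left)
    intro y hy
    rw [mem_normalizer_iff]
    intro z
    rw [mem_inf, mem_inf]
    exact and_congr (mem_normalizer_iff.1 (hMS (mem_inf.1 (h.hA₁ hy)).2) z)
      (mem_normalizer_iff.1 (le_normalizer (mem_inf.1 (h.hA₁ hy)).1) z)
  -- `R ⊔ S`
  have hRSp : IsPGroup p (R ⊔ S : Subgroup G) := by
    have h1 : R ≤ normalizer (S : Set G) := hRM₂.trans hMS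
    exact hRp.to_sup_of_normal_right' hSp h1
  have hSnR : ¬ S ≤ R := by
    intro hle
    exact hRS (Subgroup.eq_of_le_of_card_ge hle hcard.le).symm
  have hlt : R < R ⊔ S := by
    refine lt_of_le_of_ne le_sup_left ?_
    intro he
    exact hSnR (he ▸ le_sup_right)
  have hlt2 := CfsgLib.SolvCoprime.lt_inf_normalizer_of_pgroup hRSp hlt
  apply hlt2.not_ge
  intro g hg
  obtain ⟨hg1, hg2⟩ := mem_inf.1 hg
  have hgM : g ∈ M₁ := h.hM R hRne hRM hMR hg2
  obtain ⟨r, hr, s, hs, rfl⟩ := (CfsgLib.LE.mem_sup_of_le_normalizer (hRM₂.trans hMS)).1 hg1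
  have hsM : s ∈ M₁ := by
    have := mul_mem (inv_mem (hRM hr)) hgM
    simpa using this
  exact mul_mem hr (hSR (mem_inf.2 ⟨hs, hsM⟩))

theorem Dat.pp (h : Dat M₁ M₂ A₁ B₁ A₂ B₂) : CfsgLib.PrimPair.PP M₁ M₂ := fun Z hZ hZle hZn =>
  inf_le_right.trans (h.hM Z hZ (hZle.trans inf_le_left) hZn)

theorem Dat.A₂M₂ (h : Dat M₁ M₂ A₁ B₁ A₂ B₂) : A₂ ≤ M₂ :=
  h.hA₂.trans (inf_le_left.trans (h.hA₁.trans inf_le_right))

theorem Dat.A₂M₁ (h : Dat M₁ M₂ A₁ B₁ A₂ B₂) : A₂ ≤ M₁ :=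
  h.hA₂.trans (inf_le_left.trans (h.hA₁.trans inf_le_left))

theorem subnormal_two {P A M : Subgroup G} (hPA : P ≤ A) (hAM : A ≤ M)
    (hAP : A ≤ normalizer (P : Set G)) (hMA : M ≤ normalizer (A : Set G)) :
    (P.subgroupOf M).IsSubnormal := by
  apply isSubnormal_of_subgroupOf (K := A.subgroupOf M) (fun x hx => hPA hx)
  · exact ((normal_subgroupOf_iff_le_normalizer hAM).2 hMA).isSubnormal
  · apply Normal.isSubnormal
    constructor
    intro n hn g
    rw [mem_subgroupOf, mem_subgroupOf] at hn ⊢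
    exact (mem_normalizer_iff.1 (hAP (mem_subgroupOf.1 g.2)) _).1 hn

theorem Dat.layer_le (h : Dat M₁ M₂ A₁ B₁ A₂ B₂) : (layer M₂).map M₂.subtype ≤ M₁ := by
  have hX : (A₂.subgroupOf M₂).IsSubnormal :=
    subnormal_two (h.hA₂.trans inf_le_right) (h.hB₁.trans inf_le_right)
      ((h.hB₁.trans inf_le_left).trans h.nA₂) h.nB₁
  have h1 : layer M₂ ≤ normalizer ((A₂.subgroupOf M₂ : Subgroup M₂) : Set M₂) := by
    rw [layer]
    apply sSup_le
    intro K hK
    rcases component_le_or_commute hK hX with h2 | h2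
    · exact h2.trans le_normalizer
    · exact (commutator_eq_bot_iff_le_centralizer.1 h2).trans (centralizer_le_normalizer' _)
  rintro _ ⟨x, hx, rfl⟩
  apply h.hM A₂ h.A₂ne h.A₂M₁ h.nA₂
  have h2 := h1 hx
  have hA := h.A₂M₂
  rw [mem_normalizer_iff]
  intro z
  constructor
  · intro hz
    exact mem_subgroupOf.1 ((mem_normalizer_iff.1 h2 ⟨z, hA hz⟩).1 (mem_subgroupOf.2 hz))
  · intro hz
    have hzM : z ∈ M₂ := by
      have := mul_mem (mul_mem (inv_mem x.2) (hA hz)) x.2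
      simpa [mul_assoc] using this
    exact mem_subgroupOf.1 ((mem_normalizer_iff.1 h2 ⟨z, hzM⟩).2 (mem_subgroupOf.2 hz))

theorem Dat.B₂_le (h : Dat M₁ M₂ A₁ B₁ A₂ B₂) [hp : Fact p.Prime] (hB : IsPGroup p B₂) :
    B₂ ≤ (pCore p M₁).map M₁.subtype :=
  le_core_of_two (h.hB₂.trans inf_le_left) (h.hA₁.trans inf_le_left)
    ((h.hA₁.trans inf_le_right).trans h.nB₂) h.nA₁ hB

theorem Dat.leads (h : Dat M₁ M₂ A₁ B₁ A₂ B₂) [hp : Fact p.Prime] (hB : IsPGroup p B₂) :
    leadsTo M₁ M₂ := by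
  refine ⟨B₂, h.B₂ne, (h.B₂_le hB).trans (map_mono (CfsgLib.Cores.pCore_le_fittingSubgroup p)), ?_⟩
  exact inf_le_right.trans (h.hN B₂ h.B₂ne h.symm.A₂M₁ h.nB₂)

theorem Dat.core_bot (h : Dat M₁ M₂ A₁ B₁ A₂ B₂) {q : ℕ} (hq : pCore q M₁ = ⊥) :
    pCore q M₂ = ⊥ := by
  rw [← Subgroup.card_eq_one, ← h.card q, hq, Subgroup.card_bot]

theorem Dat.single (h : Dat M₁ M₂ A₁ B₁ A₂ B₂) [hp : Fact p.Prime] (hpM : pCore p M₁ ≠ ⊥)
    (hone : ∀ r : ℕ, r.Prime → r ≠ p → pCore r M₁ = ⊥) (hE : layer M₁ ≠ ⊥) :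
    (generalizedFittingSubgroup M₂).map M₂.subtype ≤ M₁ ∧ layer M₂ ≠ ⊥ := by
  obtain ⟨S, h1, h2, h3, h4, h5, -⟩ := CfsgLib.BenderArrow.data (h.leads (h.lemB hpM))
  have hm := CfsgLib.PrimPair.main2 h.pp h1 h3 h4 h5 h2 hp.out hpM
  have h1 : ⁅(pCore p M₂).map M₂.subtype, (layer M₁).map M₁.subtype⁆ = ⊥ := by
    rw [eq_bot_iff, ← hm]
    exact commutator_mono le_rfl (map_mono le_sup_left)
  have h2 : (pCore p M₂).map M₂.subtype ≤ M₁ :=
    (commutator_eq_bot_iff_le_centralizer.1 h1).trans ((centralizer_le_normalizer' _).trans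
      (h.hM _ (map_ne_bot hE) (map_subtype_le _) (le_normalizer_map _)))
  have honeN : ∀ r : ℕ, r.Prime → r ≠ p → pCore r M₂ = ⊥ :=
    fun r hr hrp => h.core_bot (hone r hr hrp)
  have hFN : fittingSubgroup M₂ ≤ pCore p M₂ := by
    rw [CfsgLib.Cores.fittingSubgroup_eq_iSup_pCore]
    apply iSup_le
    rintro ⟨r, hr⟩
    by_cases hrp : r = p
    · change pCore r M₂ ≤ _
      rw [hrp]
    · change pCore r M₂ ≤ _
      rw [honeN r hr hrp]; exact bot_le
  constructor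
  · rw [generalizedFittingSubgroup, Subgroup.map_sup]
    exact sup_le h.layer_le ((map_mono hFN).trans h2)
  · intro hEN
    have hEM : (layer M₁).map M₁.subtype ≤ M₂ := h.symm.layer_le
    have h6 : ((layer M₁).map M₁.subtype).subgroupOf M₂ ≤
        centralizer ((generalizedFittingSubgroup M₂ : Subgroup M₂) : Set M₂) := by
      rw [← commutator_eq_bot_iff_le_centralizer, commutator_comm,
        commutator_eq_bot_iff_le_centralizer, generalizedFittingSubgroup, hEN, bot_sup_eq]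
      refine hFN.trans ?_
      rw [← commutator_eq_bot_iff_le_centralizer, commutator_comm]
      apply commutator_eq_bot_of_subgroupOf' hEM
      rw [commutator_comm]; exact h1
    have h7 := h6.trans centralizer_gfitting_le_fitting
    have h8 : Group.IsNilpotent (((layer M₁).map M₁.subtype).subgroupOf M₂) := by
      haveI := CfsgLib.Cores.fittingSubgroup_isNilpotent (G := M₂)
      exact Group.nilpotent_of_mulEquiv (MonoidHom.ofInjective (inclusion_injective h7)).symm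
    haveI h9 : Group.IsSolvable (layer M₁) := by
      haveI := h8
      haveI h8x : Group.IsSolvable (((layer M₁).map M₁.subtype).subgroupOf M₂) := inferInstance
      have e : layer M₁ ≃* ((layer M₁).map M₁.subtype).subgroupOf M₂ :=
        ((layer M₁).equivMapOfInjective _ (subtype_injective M₁)).trans
          (subgroupOfEquivOfLe hEM).symm
      exact solvable_of_solvable_injective (f := e.toMonoidHom) e.injective
    -- perfect and solvable
    apply hE
    have h10 := commutator_layer (G := M₁)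
    by_contra hne
    have h11 : Nontrivial (layer M₁) := (nontrivial_iff_ne_bot _).2 hne
    have h12 := @IsSolvable.commutator_lt_top_of_nontrivial (layer M₁) _ h9 h11
    apply h12.ne
    apply map_injective (subtype_injective (layer M₁))
    rw [map_subtype_commutator, h10, ← MonoidHom.range_eq_map, range_subtype]

theorem pgroup_bot_of_ne {H : Subgroup G} {p q : ℕ} (hp : p.Prime) (hq : q.Prime) (hpq : p ≠ q)
    (h1 : IsPGroup p H) (h2 : IsPGroup q H) : H = ⊥ := by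
  haveI := Fact.mk hp
  haveI := Fact.mk hq
  have h3 := IsPGroup.disjoint_of_ne p q hpq H H h1 h2
  exact disjoint_self.1 h3

theorem gf_le {A : Subgroup G} (hp : p.Prime) (hE : layer A = ⊥)
    (hr : ∀ r : ℕ, r.Prime → r ≠ p → pCore r A = ⊥) :
    generalizedFittingSubgroup A ≤ pCore p A := by
  refine (gfitting_le_uu_sup hp).trans ?_
  apply sup_le _ le_rfl
  unfold uu
  rw [hE, bot_sup_eq]
  apply iSup_le
  intro r
  rw [hr r r.2.1 r.2.2]; exact bot_le

theorem Dat.main (h : Dat M₁ M₂ A₁ B₁ A₂ B₂) : ∃ p : ℕ, p.Prime ∧ IsPGroup p ↥(A₂ ⊔ B₂) ∧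
    IsPGroup p (generalizedFittingSubgroup M₁) ∧ IsPGroup p (generalizedFittingSubgroup M₂) := by
  by_cases hex : ∃ p : ℕ, p.Prime ∧ pCore p M₁ ≠ ⊥
  · obtain ⟨p, hp, hpM⟩ := hex
    haveI := Fact.mk hp
    have hpN : pCore p M₂ ≠ ⊥ := fun hb => hpM (h.symm.core_bot hb)
    have hBp : IsPGroup p B₂ := h.lemB hpM
    have hAp : IsPGroup p A₂ := h.symm.lemB hpN
    have hone : ∀ r : ℕ, r.Prime → r ≠ p → pCore r M₁ = ⊥ := by
      intro r hr hrp
      by_contra hne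
      haveI := Fact.mk hr
      exact h.B₂ne (pgroup_bot_of_ne hr hp hrp (h.lemB hne) hBp)
    have hone2 : ∀ r : ℕ, r.Prime → r ≠ p → pCore r M₂ = ⊥ :=
      fun r hr hrp => h.core_bot (hone r hr hrp)
    have hAB : IsPGroup p ↥(A₂ ⊔ B₂) := by
      have h1 : IsPGroup p ((pCore p M₁).map M₁.subtype) :=
        (CfsgLib.Cores.pCore_isPGroup (G := M₁) p).map _
      apply h1.to_le
      apply sup_le _ (h.B₂_le hBp)
      exact le_core_of_two le_rfl h.A₂M₁ le_normalizer h.nA₂ hAp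
    have hE : layer M₁ = ⊥ ∧ layer M₂ = ⊥ := by
      by_contra hcon
      have hboth : (generalizedFittingSubgroup M₁).map M₁.subtype ≤ M₂ ∧
          (generalizedFittingSubgroup M₂).map M₂.subtype ≤ M₁ ∧ layer M₁ ≠ ⊥ := by
        by_cases hE1 : layer M₁ = ⊥
        · have hE2 : layer M₂ ≠ ⊥ := fun h2 => hcon ⟨hE1, h2⟩
          exact absurd hE1 (h.symm.single hpN hone2 hE2).2
        · obtain ⟨a, b⟩ := h.single hpM hone hE1
          exact ⟨(h.symm.single hpN hone2 b).1, a, hE1⟩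
      obtain ⟨a, b, c⟩ := hboth
      obtain ⟨q, hq, hq1, hq2⟩ := CfsgLib.PrimPair.bender_max h.pp h.symm.pp h.ne a b
      haveI := Fact.mk hq
      exact c (layer_eq_bot_of_gfitting hq1)
    refine ⟨p, hp, hAB, ?_, ?_⟩
    · exact (CfsgLib.Cores.pCore_isPGroup (G := M₁) p).to_le (gf_le hp hE.1 hone)
    · exact (CfsgLib.Cores.pCore_isPGroup (G := M₂) p).to_le (gf_le hp hE.2 hone2)
  · exfalso
    push Not at hex
    have hF : ∀ A : Subgroup G, (∀ r : ℕ, r.Prime → pCore r A = ⊥) →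
        generalizedFittingSubgroup A = layer A := by
      intro A hA
      rw [generalizedFittingSubgroup, CfsgLib.Cores.fittingSubgroup_eq_iSup_pCore]
      apply le_antisymm _ le_sup_left
      apply sup_le le_rfl
      apply iSup_le
      intro r
      rw [hA r r.2]; exact bot_le
    have hex2 : ∀ r : ℕ, r.Prime → pCore r M₂ = ⊥ := fun r hr => h.core_bot (hex r hr)
    obtain ⟨q, hq, hq1, hq2⟩ := CfsgLib.PrimPair.bender_max h.pp h.symm.pp h.ne
      (by rw [hF M₁ hex]; exact h.symm.layer_le) (by rw [hF M₂ hex2]; exact h.layer_le)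
    haveI := Fact.mk hq
    have h3 : generalizedFittingSubgroup M₁ = ⊥ := by
      rw [hF M₁ hex]
      exact layer_eq_bot_of_gfitting hq1
    have h4 := centralizer_gfitting_le (G := M₁)
    rw [h3] at h4
    have h5 : (⊤ : Subgroup M₁) ≤ ⊥ := by
      refine le_trans ?_ h4
      intro x _
      rw [mem_centralizer_iff]
      intro y hy
      rw [SetLike.mem_coe, mem_bot] at hy
      rw [hy, one_mul, mul_one]
    have h6 : M₁ = ⊥ := by
      rw [eq_bot_iff]
      intro x hx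
      have := h5 (mem_top (⟨x, hx⟩ : M₁))
      rw [mem_bot] at this
      exact congrArg Subtype.val this
    apply h.A₂ne
    rw [eq_bot_iff, ← h6]
    exact h.A₂M₁

theorem core_props {M K : Subgroup G} (h : K ≤ M) :
    (K.subgroupOf M).normalCore.map M.subtype ≤ K ∧
    M ≤ normalizer (((K.subgroupOf M).normalCore.map M.subtype : Subgroup G) : Set G) ∧
    ∀ Y : Subgroup G, Y ≤ K → M ≤ normalizer (Y : Set G) →
      Y ≤ (K.subgroupOf M).normalCore.map M.subtype := by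
  refine ⟨?_, le_normalizer_map _, ?_⟩
  · rintro _ ⟨x, hx, rfl⟩
    exact mem_subgroupOf.1 (normalCore_le _ hx)
  · intro Y hY hn
    haveI : (Y.subgroupOf M).Normal := (normal_subgroupOf_iff_le_normalizer (hY.trans h)).2 hn
    have h1 : Y.subgroupOf M ≤ (K.subgroupOf M).normalCore :=
      normal_le_normalCore.2 (fun x hx => hY hx)
    intro y hy
    exact ⟨⟨y, h (hY hy)⟩, h1 (mem_subgroupOf.2 hy), rfl⟩

theorem norm_of_max {M : Subgroup G} (hM : IsCoatom M) (hc : M.normalCore = ⊥) (Z : Subgroup G)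
    (hZ : Z ≠ ⊥) (hZM : Z ≤ M) (hn : M ≤ normalizer (Z : Set G)) : normalizer (Z : Set G) ≤ M := by
  by_contra hcon
  have h2 := hM.2 _ (lt_of_le_not_ge hn hcon)
  haveI h3 : Z.Normal := normalizer_eq_top_iff.1 h2
  apply hZ
  rw [eq_bot_iff, ← hc]
  exact normal_le_normalCore.2 hZM

theorem goal (M₁ M₂ : Subgroup G) (hmax : IsCoatom M₁) (g : G)
    (hconj : M₂ = M₁.map (MulAut.conj g).toMonoidHom) (hne : M₁ ≠ M₂) (hcore : M₁.normalCore = ⊥)
    (A B : ℕ → Subgroup G) (hA0 : A 0 = M₁) (hB0 : B 0 = M₂)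
    (hA : ∀ i, A (i + 1) = ((A i ⊓ B i).subgroupOf M₁).normalCore.map M₁.subtype)
    (hB : ∀ i, B (i + 1) = ((A i ⊓ B i).subgroupOf M₂).normalCore.map M₂.subtype) (hA2 : A 2 ≠ ⊥)
    (hB2 : B 2 ≠ ⊥) :
    ∃ p : ℕ, p.Prime ∧ IsPGroup p ↥(A 2 ⊔ B 2) ∧
      generalizedFittingSubgroup ↥M₁ = pCore p ↥M₁ ∧
      generalizedFittingSubgroup ↥(A 1) = pCore p ↥(A 1) ∧
      generalizedFittingSubgroup ↥M₂ = pCore p ↥M₂ ∧
      generalizedFittingSubgroup ↥(B 1) = pCore p ↥(B 1) := by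
  have hmax2 : IsCoatom M₂ := by
    rw [hconj]
    have : M₁.map (MulAut.conj g).toMonoidHom =
      (MulAut.conj g).mapSubgroup M₁ := rfl
    rw [this]
    exact ((MulAut.conj g).mapSubgroup.isCoatom_iff M₁).2 hmax
  have hcore2 : M₂.normalCore = ⊥ := by
    rw [eq_bot_iff]
    have h1 : M₂.normalCore ≤ M₁.normalCore := by
      apply normal_le_normalCore.2
      intro x hx
      have h2 : g * x * g⁻¹ ∈ M₂.normalCore := (inferInstance : M₂.normalCore.Normal).conj_mem x hx g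
      have h3 := normalCore_le _ h2
      rw [hconj] at h3
      obtain ⟨y, hy, hyx⟩ := h3
      have h4 : y = x := (MulAut.conj g).injective hyx
      rwa [h4] at hy
    rw [← hcore]; exact h1
  have e : M₁ ≃* M₂ := (M₁.equivMapOfInjective _ (MulAut.conj g).injective).trans
    (MulEquiv.subgroupCongr hconj.symm)
  obtain ⟨a1, a2, a3⟩ := core_props (M := M₁) (K := M₁ ⊓ M₂) inf_le_left
  obtain ⟨b1, b2, b3⟩ := core_props (M := M₂) (K := M₁ ⊓ M₂) inf_le_right
  have eA1 : A 1 = ((M₁ ⊓ M₂).subgroupOf M₁).normalCore.map M₁.subtype := by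
    rw [hA 0, hA0, hB0]
  have eB1 : B 1 = ((M₁ ⊓ M₂).subgroupOf M₂).normalCore.map M₂.subtype := by
    rw [hB 0, hA0, hB0]
  rw [← eA1] at a1 a2 a3
  rw [← eB1] at b1 b2 b3
  obtain ⟨c1, c2, -⟩ := core_props (M := M₁) (K := A 1 ⊓ B 1)
    (inf_le_left.trans (a1.trans inf_le_left))
  obtain ⟨d1, d2, -⟩ := core_props (M := M₂) (K := A 1 ⊓ B 1)
    (inf_le_left.trans (a1.trans inf_le_right))
  rw [← hA 1] at c1 c2
  rw [← hB 1] at d1 d2
  have D : Dat M₁ M₂ (A 1) (B 1) (A 2) (B 2) :=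
    { hM := norm_of_max hmax hcore
      hN := norm_of_max hmax2 hcore2
      ne := hne
      card := fun p => by
        rw [← CfsgLib.Cores.map_pCore_equiv p e]
        exact (card_map_of_injective e.injective).symm
      hA₁ := a1
      nA₁ := a2
      mA₁ := a3
      hB₁ := b1
      nB₁ := b2
      mB₁ := b3
      hA₂ := c1
      nA₂ := c2
      hB₂ := d1
      nB₂ := d2
      A₂ne := hA2
      B₂ne := hB2 }
  obtain ⟨p, hp, h1, h2, h3⟩ := D.main
  haveI := Fact.mk hp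
  have key : ∀ (M A : Subgroup G), A ≤ M → M ≤ normalizer (A : Set G) →
      IsPGroup p (generalizedFittingSubgroup M) → generalizedFittingSubgroup A = pCore p A := by
    intro M A hAM hn hM
    apply gfitting_eq_pCore_of_isPGroup
    have h4 : (A.subgroupOf M).IsSubnormal :=
      ((normal_subgroupOf_iff_le_normalizer hAM).2 hn).isSubnormal
    have h5 := map_gfitting_le_of_subnormal h4
    apply gfitting_isPGroup_equiv (subgroupOfEquivOfLe hAM)
    have h6 := hM.to_le h5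
    exact h6.of_injective ((generalizedFittingSubgroup (A.subgroupOf M)).equivMapOfInjective _
      (subtype_injective _)).toMonoidHom (MulEquiv.injective _)
  exact ⟨p, hp, h1, gfitting_eq_pCore_of_isPGroup h2, key M₁ _ (a1.trans inf_le_left) a2 h2,
    gfitting_eq_pCore_of_isPGroup h3, key M₂ _ (b1.trans inf_le_right) b2 h3⟩

end CfsgLib.TWiel
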