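import Cfsg.Agent.LibG2B
import Cfsg.Agent.LibG2C

set_option autoImplicit false

/-! tori of SL_2 and their normalizers (helper1) -/

namespace CfsgLib.Tor

open Finset

/-- class number of a group with an abelian subgroup of index 2 inverted from outside -/
theorem card_cc {N : Type*} [Group N] [Finite N] (T : Subgroup N) (hcomm : ∀ a ∈ T, ∀ b ∈ T, a * b = b * a)
    (hidx : T.index = 2) (hinv : ∀ w, w ∉ T → ∀ t ∈ T, w * t * w⁻¹ = t⁻¹) (z : N) (hz : z ∈ T) (hz1 : z ≠ 1) (hzz : z * z = 1)
    (h2 : ∀ t ∈ T, t * t = 1 → t = 1 ∨ t = z) : 2 * Nat.card (ConjClasses N) = Nat.card T + 6 := by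
  classical
  haveI := Fintype.ofFinite N
  set m := Nat.card T with hm
  have hN : Nat.card N = m * 2 := by rw [hm, ← hidx]; exact (Subgroup.card_mul_index T).symm
  have hmul : ∀ a b : N, a * b ∈ T ↔ (a ∈ T ↔ b ∈ T) := fun a b => Subgroup.mul_mem_iff_of_index_two hidx
  have hf1 : ∀ g : N, (g = 1 ∨ g = z) → (univ.filter fun h => Commute g h).card = m * 2 := by
    intro g hg
    rw [← hN, Nat.card_eq_fintype_card, ← Finset.card_univ]
    congr 1
    apply Finset.filter_true_of_mem
    intro h _
    rcases hg with rfl | rfl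
    · exact Commute.one_left h
    · by_cases hh : h ∈ T
      · exact hcomm _ hz _ hh
      · have e : g⁻¹ = g := inv_eq_of_mul_eq_one_left hzz
        have := hinv h hh g hz
        rw [e] at this
        have h3 : h * g = g * h := by
          rw [mul_inv_eq_iff_eq_mul] at this
          exact this
        exact h3.symm
  have hf2 : ∀ g ∈ T, ¬ (g = 1 ∨ g = z) → (univ.filter fun h => Commute g h).card = m := by
    intro g hgT hg
    have : (univ.filter fun h => Commute g h) = univ.filter (fun h => h ∈ T) := by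
      apply Finset.filter_congr
      intro h _
      constructor
      · intro hc
        by_contra hh
        have h1 := hinv h hh g hgT
        have h3 : h * g * h⁻¹ = g := by rw [← hc.eq, mul_inv_cancel_right]
        rw [h3] at h1
        exact hg (h2 g hgT (by nth_rewrite 2 [h1]; exact mul_inv_cancel g))
      · intro hh
        exact hcomm g hgT h hh
    rw [this, hm, Nat.card_eq_fintype_card, Fintype.card_subtype]
  have hf3 : ∀ g, g ∉ T → (univ.filter fun h => Commute g h).card = 4 := by
    intro g hg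
    have hT1 : ∀ h ∈ T, Commute g h ↔ h = 1 ∨ h = z := by
      intro h hh
      constructor
      · intro hc
        have h1 := hinv g hg h hh
        have h3 : g * h * g⁻¹ = h := by rw [hc.eq, mul_inv_cancel_right]
        rw [h3] at h1
        exact h2 h hh (by nth_rewrite 2 [h1]; exact mul_inv_cancel h)
      · rintro (rfl | rfl)
        · exact Commute.one_right g
        · have e : h⁻¹ = h := inv_eq_of_mul_eq_one_left hzz
          have := hinv g hg h hz
          rw [e, mul_inv_eq_iff_eq_mul] at this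
          exact this
    have : (univ.filter fun h => Commute g h) = {1, z, g, z * g} := by
      ext h
      simp only [mem_filter, mem_univ, true_and, mem_insert, mem_singleton]
      constructor
      · intro hc
        by_cases hh : h ∈ T
        · rcases (hT1 h hh).mp hc with h1 | h1
          · exact Or.inl h1
          · exact Or.inr (Or.inl h1)
        · have hs : h * g⁻¹ ∈ T := by
            rw [hmul]
            exact ⟨fun h' => absurd h' hh, fun h' => absurd (T.inv_mem_iff.mp h') hg⟩
          have hc' : Commute g (h * g⁻¹) := hc.mul_right (Commute.inv_right (Commute.refl g))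
          rcases (hT1 _ hs).mp hc' with h1 | h1
          · exact Or.inr (Or.inr (Or.inl (mul_inv_eq_one.mp h1)))
          · exact Or.inr (Or.inr (Or.inr (mul_inv_eq_iff_eq_mul.mp h1)))
      · have hcz : Commute g z := (hT1 z hz).mpr (Or.inr rfl)
        rintro (rfl | rfl | rfl | rfl)
        · exact Commute.one_right g
        · exact hcz
        · exact Commute.refl _
        · exact hcz.mul_right (Commute.refl g)
    rw [this]
    have hg1 : g ≠ 1 := fun h => hg (h ▸ T.one_mem)
    have hgz : g ≠ z := fun h => hg (h ▸ hz)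
    have hzg1 : z * g ≠ 1 := fun h => hg ((T.mul_mem_cancel_left hz).mp (h ▸ T.one_mem))
    have hzgz : z * g ≠ z := fun h => hg1 (mul_eq_left.mp h)
    have hzgg : z * g ≠ g := fun h => hz1 (mul_eq_right.mp h)
    rw [Finset.card_insert_of_notMem, Finset.card_insert_of_notMem, Finset.card_insert_of_notMem, Finset.card_singleton]
    · simpa using hzgg.symm
    · simp only [mem_insert, mem_singleton, not_or]
      exact ⟨hgz.symm, hzgz.symm⟩
    · simp only [mem_insert, mem_singleton, not_or]
      exact ⟨hz1.symm, hg1.symm, hzg1.symm⟩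
  have hTc : (univ.filter fun g : N => g ∈ T).card = m := by
    rw [hm, Nat.card_eq_fintype_card, Fintype.card_subtype]
  have hTn : (univ.filter fun g : N => g ∉ T).card = m := by
    have := Finset.card_filter_add_card_filter_not (s := (univ : Finset N)) (fun g => g ∈ T)
    rw [hTc, Finset.card_univ, ← Nat.card_eq_fintype_card, hN] at this
    omega
  have hT2 : (univ.filter fun g : N => g ∈ T ∧ (g = 1 ∨ g = z)).card = 2 := by
    have : (univ.filter fun g : N => g ∈ T ∧ (g = 1 ∨ g = z)) = {1, z} := by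
      ext g
      simp only [mem_filter, mem_univ, true_and, mem_insert, mem_singleton]
      constructor
      · exact fun h => h.2
      · rintro (rfl | rfl)
        · exact ⟨T.one_mem, Or.inl rfl⟩
        · exact ⟨hz, Or.inr rfl⟩
    rw [this, Finset.card_pair hz1.symm]
  have hT3 : (univ.filter fun g : N => g ∈ T ∧ ¬ (g = 1 ∨ g = z)).card + 2 = m := by
    have := Finset.card_filter_add_card_filter_not (s := (univ.filter fun g : N => g ∈ T)) (fun g => g = 1 ∨ g = z)
    rw [Finset.filter_filter, Finset.filter_filter, hTc, hT2] at this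
    omega
  have hsum : ∑ g : N, (univ.filter fun h => Commute g h).card = m * 2 * 2 + (m - 2) * m + m * 4 := by
    rw [← Finset.sum_filter_add_sum_filter_not univ (fun g : N => g ∈ T),
      ← Finset.sum_filter_add_sum_filter_not (univ.filter fun g : N => g ∈ T) (fun g => g = 1 ∨ g = z),
      Finset.filter_filter, Finset.filter_filter,
      Finset.sum_congr rfl (g := fun _ => m * 2) (fun g hg => hf1 g (Finset.mem_filter.mp hg).2.2),
      Finset.sum_congr rfl (g := fun _ => m) (fun g hg => hf2 g (Finset.mem_filter.mp hg).2.1 (Finset.mem_filter.mp hg).2.2),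
      Finset.sum_congr rfl (g := fun _ => 4) (fun g hg => hf3 g (Finset.mem_filter.mp hg).2),
      Finset.sum_const, Finset.sum_const, Finset.sum_const, hT2, hTn]
    have : (univ.filter fun g : N => g ∈ T ∧ ¬ (g = 1 ∨ g = z)).card = m - 2 := by omega
    rw [this]
    simp only [smul_eq_mul]
    ring
  have hcm := card_comm_eq_card_conjClasses_mul_card N
  have hcs : Nat.card {p : N × N // Commute p.1 p.2} = ∑ g : N, (univ.filter fun h => Commute g h).card := by
    rw [Nat.card_eq_fintype_card, Fintype.card_subtype, Finset.card_eq_sum_card_fiberwise (f := Prod.fst) (t := univ)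
      (fun _ _ => Finset.mem_coe.mpr (mem_univ _))]
    apply Finset.sum_congr rfl
    intro g _
    rw [Finset.filter_filter]
    refine Finset.card_bij' (fun p _ => p.2) (fun h _ => (g, h)) ?_ ?_ ?_ ?_
    · intro p hp
      simp only [mem_filter, mem_univ, true_and] at hp ⊢
      rw [← hp.2]; exact hp.1
    · intro h hh
      simp only [mem_filter, mem_univ, true_and, and_true] at hh ⊢
      exact hh
    · intro p hp
      simp only [mem_filter, mem_univ, true_and] at hp
      exact Prod.ext hp.2.symm rfl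
    · intro h hh; rfl
  rw [hcs, hsum, hN] at hcm
  have hm2 : 2 ≤ m := by omega
  obtain ⟨k, hk⟩ : ∃ k, m = k + 2 := ⟨m - 2, by omega⟩
  rw [hk] at hcm ⊢
  have e : (k + 2) * 2 * 2 + (k + 2 - 2) * (k + 2) + (k + 2) * 4 = (k + 2) * (k + 8) := by
    rw [Nat.add_sub_cancel]; ring
  rw [e] at hcm
  have : k + 8 = 2 * Nat.card (ConjClasses N) := by
    apply Nat.eq_of_mul_eq_mul_left (show 0 < k + 2 by omega)
    rw [hcm]; ring
  omega

/-! ### commutants of 2x2 matrices -/

section

open Matrix CfsgLib.G2B CfsgLib.G2C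

variable {F : Type*} [Field F]

theorem comm_iff {J : Matrix (Fin 2) (Fin 2) F} (h2 : (2 : F) ≠ 0) (hJt : J 1 1 = - J 0 0) (hJd : J.det ≠ 0)
    {h : Matrix (Fin 2) (Fin 2) F} (hc : h * J = J * h) : ∃ x y : F, h = x • (1 : Matrix (Fin 2) (Fin 2) F) + y • J := by
  have e00 := congrFun (congrFun hc 0) 0
  have e01 := congrFun (congrFun hc 0) 1
  have e10 := congrFun (congrFun hc 1) 0
  simp only [Matrix.mul_apply, Fin.sum_univ_two] at e00 e01 e10
  rw [hJt] at e01 e10
  by_cases hb : J 0 1 = 0
  · by_cases hcc : J 1 0 = 0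
    · have ha : J 0 0 ≠ 0 := by
        intro ha
        apply hJd
        rw [Matrix.det_fin_two, ha, hb]; ring
      rw [hb] at e01 e00
      rw [hcc] at e10 e00
      have q0 : h 0 1 = 0 := by
        have : 2 * (h 0 1 * J 0 0) = 0 := by linear_combination -e01
        rcases mul_eq_zero.mp this with h' | h'
        · exact absurd h' h2
        · exact (mul_eq_zero.mp h').resolve_right ha
      have r0 : h 1 0 = 0 := by
        have : 2 * (h 1 0 * J 0 0) = 0 := by linear_combination e10
        rcases mul_eq_zero.mp this with h' | h'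
        · exact absurd h' h2
        · exact (mul_eq_zero.mp h').resolve_right ha
      refine ⟨(h 0 0 + h 1 1) / 2, (h 0 0 - h 1 1) / (2 * J 0 0), ?_⟩
      apply ext2
      · simp
        field_simp
        ring
      · simp [q0, hb]
      · simp [r0, hcc]
      · simp [hJt]
        field_simp
        ring
    · refine ⟨h 0 0 - h 1 0 / J 1 0 * J 0 0, h 1 0 / J 1 0, ?_⟩
      apply ext2
      · simp
      · simp
        field_simp
        linear_combination e00
      · simp
        field_simp
      · simp [hJt]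
        field_simp
        linear_combination e10
  · refine ⟨h 0 0 - h 0 1 / J 0 1 * J 0 0, h 0 1 / J 0 1, ?_⟩
    apply ext2
    · simp
    · simp
      field_simp
    · simp
      field_simp
      linear_combination -e00
    · simp [hJt]
      field_simp
      linear_combination -e01

theorem anti_trace {J : Matrix (Fin 2) (Fin 2) F} (h2 : (2 : F) ≠ 0) (hJt : J 1 1 = - J 0 0) (hJd : J.det ≠ 0)
    {h : Matrix (Fin 2) (Fin 2) F} (hc : h * J = - (J * h)) : h 0 0 + h 1 1 = 0 := by
  have e00 := congrFun (congrFun hc 0) 0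
  have e01 := congrFun (congrFun hc 0) 1
  have e10 := congrFun (congrFun hc 1) 0
  have e11 := congrFun (congrFun hc 1) 1
  simp only [Matrix.mul_apply, Fin.sum_univ_two, Matrix.neg_apply] at e00 e01 e10 e11
  rw [hJt] at e01 e10 e11
  by_contra hne
  have f0 : J 0 1 * (h 0 0 + h 1 1) = 0 := by linear_combination e01
  have f1 : J 1 0 * (h 0 0 + h 1 1) = 0 := by linear_combination e10
  have f2 : 2 * J 0 0 * (h 0 0 + h 1 1) = 0 := by linear_combination e00 - e11
  have g0 := (mul_eq_zero.mp f0).resolve_right hne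
  have g1 := (mul_eq_zero.mp f1).resolve_right hne
  have g2 := (mul_eq_zero.mp ((mul_eq_zero.mp f2).resolve_right hne)).resolve_left h2
  apply hJd
  rw [Matrix.det_fin_two, g0, g2]; ring

theorem sq_of_trace {h : Matrix (Fin 2) (Fin 2) F} (hd : h.det = 1) (ht : h 0 0 + h 1 1 = 0) : h * h = -1 := by
  rw [Matrix.det_fin_two] at hd
  have : h 1 1 = - h 0 0 := by linear_combination ht
  rw [this] at hd
  apply ext2
  · simp [Matrix.mul_apply, Fin.sum_univ_two]; linear_combination -hd
  · simp [Matrix.mul_apply, Fin.sum_univ_two, this]; ring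
  · simp [Matrix.mul_apply, Fin.sum_univ_two, this]; ring
  · simp [Matrix.mul_apply, Fin.sum_univ_two, this]; linear_combination -hd

theorem inv_eq {J : Matrix (Fin 2) (Fin 2) F} (hJt : J 1 1 = - J 0 0) (x y : F)
    (hd : (x • (1 : Matrix (Fin 2) (Fin 2) F) + y • J).det = 1) :
    (x • (1 : Matrix (Fin 2) (Fin 2) F) + y • J) * (x • (1 : Matrix (Fin 2) (Fin 2) F) - y • J) = 1 := by
  rw [Matrix.det_fin_two] at hd
  simp [hJt] at hd
  apply ext2
  · simp [Matrix.mul_apply, Fin.sum_univ_two]; linear_combination hd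
  · simp [Matrix.mul_apply, Fin.sum_univ_two, hJt]; ring
  · simp [Matrix.mul_apply, Fin.sum_univ_two, hJt]; ring
  · simp [Matrix.mul_apply, Fin.sum_univ_two, hJt]; linear_combination hd

/-- the torus attached to `J` -/
def TJ (J : Matrix (Fin 2) (Fin 2) F) : Subgroup (SpecialLinearGroup (Fin 2) F) where
  carrier := {g | (g : Matrix (Fin 2) (Fin 2) F) * J = J * (g : Matrix (Fin 2) (Fin 2) F)}
  one_mem' := by
    show (1 : Matrix (Fin 2) (Fin 2) F) * J = J * 1
    rw [one_mul, mul_one]
  mul_mem' := by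
    intro a b ha hb
    show ((a : Matrix (Fin 2) (Fin 2) F) * b) * J = J * (a * b)
    have ha' : (a : Matrix (Fin 2) (Fin 2) F) * J = J * a := ha
    have hb' : (b : Matrix (Fin 2) (Fin 2) F) * J = J * b := hb
    rw [mul_assoc, hb', ← mul_assoc, ha', mul_assoc]
  inv_mem' := by
    intro a ha
    have ha' : (a : Matrix (Fin 2) (Fin 2) F) * J = J * a := ha
    show ((a⁻¹ : SpecialLinearGroup (Fin 2) F) : Matrix (Fin 2) (Fin 2) F) * J = J * ((a⁻¹ : SpecialLinearGroup (Fin 2) F) : Matrix (Fin 2) (Fin 2) F)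
    have h1 : ((a⁻¹ : SpecialLinearGroup (Fin 2) F) : Matrix (Fin 2) (Fin 2) F) * (a : Matrix (Fin 2) (Fin 2) F) = 1 := by
      have := congrArg (slMat F) (inv_mul_cancel a)
      rw [map_mul, map_one] at this
      exact this
    have h2 : (a : Matrix (Fin 2) (Fin 2) F) * ((a⁻¹ : SpecialLinearGroup (Fin 2) F) : Matrix (Fin 2) (Fin 2) F) = 1 := by
      have := congrArg (slMat F) (mul_inv_cancel a)
      rw [map_mul, map_one] at this
      exact this
    calc _ = ((a⁻¹ : SpecialLinearGroup (Fin 2) F) : Matrix (Fin 2) (Fin 2) F) * J * ((a : Matrix (Fin 2) (Fin 2) F) * ((a⁻¹ : SpecialLinearGroup (Fin 2) F) : Matrix (Fin 2) (Fin 2) F)) := by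
          rw [h2, mul_one]
      _ = ((a⁻¹ : SpecialLinearGroup (Fin 2) F) : Matrix (Fin 2) (Fin 2) F) * (J * (a : Matrix (Fin 2) (Fin 2) F)) * ((a⁻¹ : SpecialLinearGroup (Fin 2) F) : Matrix (Fin 2) (Fin 2) F) := by noncomm_ring
      _ = (((a⁻¹ : SpecialLinearGroup (Fin 2) F) : Matrix (Fin 2) (Fin 2) F) * (a : Matrix (Fin 2) (Fin 2) F)) * J * ((a⁻¹ : SpecialLinearGroup (Fin 2) F) : Matrix (Fin 2) (Fin 2) F) := by
          rw [← ha']; noncomm_ring
      _ = _ := by rw [h1, one_mul]

theorem mem_TJ {J : Matrix (Fin 2) (Fin 2) F} {g : SpecialLinearGroup (Fin 2) F} :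
    g ∈ TJ J ↔ (g : Matrix (Fin 2) (Fin 2) F) * J = J * (g : Matrix (Fin 2) (Fin 2) F) := Iff.rfl

theorem gi_left (g : SpecialLinearGroup (Fin 2) F) :
    ((g⁻¹ : SpecialLinearGroup (Fin 2) F) : Matrix (Fin 2) (Fin 2) F) * (g : Matrix (Fin 2) (Fin 2) F) = 1 := by
  have := congrArg (slMat F) (inv_mul_cancel g)
  rw [map_mul, map_one] at this
  exact this

theorem gi_right (g : SpecialLinearGroup (Fin 2) F) :
    (g : Matrix (Fin 2) (Fin 2) F) * ((g⁻¹ : SpecialLinearGroup (Fin 2) F) : Matrix (Fin 2) (Fin 2) F) = 1 := by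
  have := congrArg (slMat F) (mul_inv_cancel g)
  rw [map_mul, map_one] at this
  exact this

theorem cond_inv {J : Matrix (Fin 2) (Fin 2) F} {g : SpecialLinearGroup (Fin 2) F}
    (hg : (g : Matrix (Fin 2) (Fin 2) F) * J = J * g ∨ (g : Matrix (Fin 2) (Fin 2) F) * J = -(J * g)) :
    ((g⁻¹ : SpecialLinearGroup (Fin 2) F) : Matrix (Fin 2) (Fin 2) F) * J = J * ((g⁻¹ : SpecialLinearGroup (Fin 2) F) : Matrix (Fin 2) (Fin 2) F) ∨
    ((g⁻¹ : SpecialLinearGroup (Fin 2) F) : Matrix (Fin 2) (Fin 2) F) * J = -(J * ((g⁻¹ : SpecialLinearGroup (Fin 2) F) : Matrix (Fin 2) (Fin 2) F)) := by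
  have hgi := gi_right g
  have hgi' := gi_left g
  set G := (g : Matrix (Fin 2) (Fin 2) F) with hG
  set Gi := ((g⁻¹ : SpecialLinearGroup (Fin 2) F) : Matrix (Fin 2) (Fin 2) F) with hGi
  rcases hg with hg | hg
  · left
    calc Gi * J = Gi * (J * G) * Gi := by rw [mul_assoc, mul_assoc, hgi, mul_one]
      _ = J * Gi := by rw [← hg, ← mul_assoc, hgi', one_mul]
  · right
    calc Gi * J = Gi * (J * G) * Gi := by rw [mul_assoc, mul_assoc, hgi, mul_one]
      _ = Gi * (-(G * J)) * Gi := by rw [hg, neg_neg]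
      _ = -((Gi * G) * J * Gi) := by noncomm_ring
      _ = -(J * Gi) := by rw [hgi', one_mul]

theorem conj_mem {J : Matrix (Fin 2) (Fin 2) F} {g : SpecialLinearGroup (Fin 2) F}
    (hg : (g : Matrix (Fin 2) (Fin 2) F) * J = J * g ∨ (g : Matrix (Fin 2) (Fin 2) F) * J = -(J * g))
    {t : SpecialLinearGroup (Fin 2) F} (ht : t ∈ TJ J) : g * t * g⁻¹ ∈ TJ J := by
  have ht' : (t : Matrix (Fin 2) (Fin 2) F) * J = J * t := ht
  have hci := cond_inv hg
  have hgi := gi_right g
  have hgi' := gi_left g
  show (g : Matrix (Fin 2) (Fin 2) F) * (t : Matrix (Fin 2) (Fin 2) F) * ((g⁻¹ : SpecialLinearGroup (Fin 2) F) : Matrix (Fin 2) (Fin 2) F) * J =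
    J * ((g : Matrix (Fin 2) (Fin 2) F) * (t : Matrix (Fin 2) (Fin 2) F) * ((g⁻¹ : SpecialLinearGroup (Fin 2) F) : Matrix (Fin 2) (Fin 2) F))
  set G := (g : Matrix (Fin 2) (Fin 2) F) with hG
  set Gi := ((g⁻¹ : SpecialLinearGroup (Fin 2) F) : Matrix (Fin 2) (Fin 2) F) with hGi
  rcases hg with hg | hg
  · have hGiJ : Gi * J = J * Gi := by
      calc Gi * J = Gi * (J * G) * Gi := by rw [mul_assoc, mul_assoc, hgi, mul_one]
        _ = J * Gi := by rw [← hg, ← mul_assoc, hgi', one_mul]
    calc G * (t : Matrix (Fin 2) (Fin 2) F) * Gi * J = G * (t * (Gi * J)) := by noncomm_ring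
      _ = G * ((t * J) * Gi) := by rw [hGiJ, mul_assoc]
      _ = (G * J) * t * Gi := by rw [ht']; noncomm_ring
      _ = _ := by rw [hg]; noncomm_ring
  · have hGiJ : Gi * J = -(J * Gi) := by
      calc Gi * J = Gi * (J * G) * Gi := by rw [mul_assoc, mul_assoc, hgi, mul_one]
        _ = Gi * (-(G * J)) * Gi := by rw [hg, neg_neg]
        _ = -((Gi * G) * J * Gi) := by noncomm_ring
        _ = -(J * Gi) := by rw [hgi', one_mul]
    calc G * (t : Matrix (Fin 2) (Fin 2) F) * Gi * J = G * (t * (Gi * J)) := by noncomm_ring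
      _ = -(G * ((t * J) * Gi)) := by rw [hGiJ]; noncomm_ring
      _ = -((G * J) * t * Gi) := by rw [ht']; noncomm_ring
      _ = _ := by rw [hg]; noncomm_ring

variable {J : Matrix (Fin 2) (Fin 2) F} (h2 : (2 : F) ≠ 0) (hJt : J 1 1 = - J 0 0) (hJd : J.det ≠ 0)

include h2 hJt hJd

theorem TJ_form {g : SpecialLinearGroup (Fin 2) F} (hg : g ∈ TJ J) :
    ∃ x y : F, (g : Matrix (Fin 2) (Fin 2) F) = x • (1 : Matrix (Fin 2) (Fin 2) F) + y • J := comm_iff h2 hJt hJd hg

theorem TJ_comm {g h : SpecialLinearGroup (Fin 2) F} (hg : g ∈ TJ J) (hh : h ∈ TJ J) : g * h = h * g := by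
  obtain ⟨x, y, hx⟩ := TJ_form h2 hJt hJd hg
  have hh' : (h : Matrix (Fin 2) (Fin 2) F) * J = J * h := hh
  apply Subtype.ext
  show (g : Matrix (Fin 2) (Fin 2) F) * h = h * g
  rw [hx, add_mul, mul_add, Matrix.smul_mul, Matrix.mul_smul, one_mul, mul_one, Matrix.smul_mul, Matrix.mul_smul, hh']

/-- centralizer of a nonscalar element -/
theorem TJ_cent {g : SpecialLinearGroup (Fin 2) F} (hg : g ∈ TJ J) (hns : ¬ IsSc (g : Matrix (Fin 2) (Fin 2) F)) :
    Subgroup.centralizer ({g} : Set (SpecialLinearGroup (Fin 2) F)) = TJ J := by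
  apply le_antisymm
  · intro h hh
    rw [Subgroup.mem_centralizer_singleton_iff] at hh
    obtain ⟨x, y, hx⟩ := TJ_form h2 hJt hJd hg
    have hy : y ≠ 0 := by
      rintro rfl
      apply hns
      rw [hx, zero_smul, add_zero]
      exact isSc_smul x
    have hh' : (h : Matrix (Fin 2) (Fin 2) F) * g = g * h := congrArg (slMat F) hh
    rw [hx, mul_add, add_mul, Matrix.smul_mul, Matrix.mul_smul, one_mul, mul_one, Matrix.smul_mul, Matrix.mul_smul] at hh'
    have := add_left_cancel hh'
    exact smul_right_injective _ hy this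
  · intro h hh
    rw [Subgroup.mem_centralizer_singleton_iff]
    exact TJ_comm h2 hJt hJd hh hg

theorem mem_norm {t₀ : SpecialLinearGroup (Fin 2) F} (ht₀ : t₀ ∈ TJ J) (hns : ¬ IsSc (t₀ : Matrix (Fin 2) (Fin 2) F))
    (g : SpecialLinearGroup (Fin 2) F) :
    g ∈ Subgroup.normalizer (TJ J : Set (SpecialLinearGroup (Fin 2) F)) ↔
      ((g : Matrix (Fin 2) (Fin 2) F) * J = J * g ∨ (g : Matrix (Fin 2) (Fin 2) F) * J = -(J * g)) := by
  have hgi := gi_right g
  have hgi' := gi_left g
  set G := (g : Matrix (Fin 2) (Fin 2) F) with hG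
  set Gi := ((g⁻¹ : SpecialLinearGroup (Fin 2) F) : Matrix (Fin 2) (Fin 2) F) with hGi
  constructor
  · intro hg
    have h1 : g * t₀ * g⁻¹ ∈ TJ J := (Subgroup.mem_normalizer_iff.mp hg t₀).mp ht₀
    obtain ⟨x, y, hx⟩ := TJ_form h2 hJt hJd ht₀
    have hy : y ≠ 0 := by
      rintro rfl
      apply hns
      rw [hx, zero_smul, add_zero]
      exact isSc_smul x
    have h3 : ((g * t₀ * g⁻¹ : SpecialLinearGroup (Fin 2) F) : Matrix (Fin 2) (Fin 2) F) = x • (1 : Matrix (Fin 2) (Fin 2) F) + y • (G * J * Gi) := by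
      show G * (t₀ : Matrix (Fin 2) (Fin 2) F) * Gi = _
      rw [hx, mul_add, add_mul, Matrix.mul_smul, Matrix.smul_mul, mul_one, hgi, Matrix.mul_smul, Matrix.smul_mul]
    have h4 : (G * J * Gi) * J = J * (G * J * Gi) := by
      have := mem_TJ.mp h1
      rw [h3, mul_add, add_mul, Matrix.smul_mul, Matrix.mul_smul, one_mul, mul_one, Matrix.smul_mul, Matrix.mul_smul] at this
      exact smul_right_injective _ hy (add_left_cancel this)
    obtain ⟨x', y', hx'⟩ := comm_iff h2 hJt hJd h4
    have htr : (G * J * Gi).trace = 0 := by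
      rw [Matrix.trace_mul_comm, ← mul_assoc, hgi', one_mul, Matrix.trace_fin_two, hJt, add_neg_cancel]
    have hdet : (G * J * Gi).det = J.det := by
      rw [Matrix.det_mul, Matrix.det_mul, mul_comm (G.det), mul_assoc, ← Matrix.det_mul, hgi, Matrix.det_one, mul_one]
    rw [hx', Matrix.trace_fin_two] at htr
    simp [hJt] at htr
    have hx0 : x' = 0 := by
      have : 2 * x' = 0 := by linear_combination htr
      exact (mul_eq_zero.mp this).resolve_left h2
    rw [hx', hx0, zero_smul, zero_add, Matrix.det_smul, Fintype.card_fin] at hdet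
    have hy' : y' ^ 2 = 1 := by
      have := mul_right_cancel₀ hJd (hdet.trans (one_mul _).symm)
      exact this
    have hGJ : G * J = (G * J * Gi) * G := by rw [mul_assoc, mul_assoc, hgi', mul_one]
    rcases sq_one_cases hy' with h5 | h5
    · left
      rw [hGJ, hx', hx0, h5, zero_smul, zero_add, one_smul]
    · right
      rw [hGJ, hx', hx0, h5, zero_smul, zero_add, neg_smul, one_smul, neg_mul]
  · intro hg
    rw [Subgroup.mem_normalizer_iff]
    intro t
    refine ⟨fun ht => conj_mem hg ht, fun ht => ?_⟩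
    have := conj_mem (cond_inv hg) ht
    have e : g⁻¹ * (g * t * g⁻¹) * g⁻¹⁻¹ = t := by group
    rwa [e] at this

/-- the main statement on torus normalizers -/
theorem tor_main [Finite F] {t₀ : SpecialLinearGroup (Fin 2) F} (ht₀ : t₀ ∈ TJ J) (hns : ¬ IsSc (t₀ : Matrix (Fin 2) (Fin 2) F))
    {w : SpecialLinearGroup (Fin 2) F} (hw : (w : Matrix (Fin 2) (Fin 2) F) * J = -(J * w)) :
    Nat.card (Subgroup.normalizer (TJ J : Set (SpecialLinearGroup (Fin 2) F))) = 2 * Nat.card (TJ J) ∧
    2 * Nat.card (ConjClasses (Subgroup.normalizer (TJ J : Set (SpecialLinearGroup (Fin 2) F)))) = Nat.card (TJ J) + 6 ∧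
    (∀ g ∈ Subgroup.normalizer (TJ J : Set (SpecialLinearGroup (Fin 2) F)), g ∉ TJ J → (g : Matrix (Fin 2) (Fin 2) F) * g = -1) ∧
    (∀ g ∈ Subgroup.normalizer (TJ J : Set (SpecialLinearGroup (Fin 2) F)), g ∉ TJ J → ∀ t ∈ TJ J, g * t * g⁻¹ = t⁻¹) := by
  set N := Subgroup.normalizer (TJ J : Set (SpecialLinearGroup (Fin 2) F)) with hN
  have hmem := mem_norm h2 hJt hJd ht₀ hns
  have hTN : TJ J ≤ N := Subgroup.le_normalizer
  have hJJ : J ≠ 0 := by
    intro h; apply hJd; rw [h]; simp
  have hwT : w ∉ TJ J := by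
    intro hc
    have hc' : (w : Matrix (Fin 2) (Fin 2) F) * J = J * w := hc
    rw [hc'] at hw
    have h3 : (2 : F) • (J * (w : Matrix (Fin 2) (Fin 2) F)) = 0 := by
      rw [two_smul]; nth_rewrite 1 [hw]; exact neg_add_cancel _
    have h4 : J * (w : Matrix (Fin 2) (Fin 2) F) = 0 := (smul_eq_zero.mp h3).resolve_left h2
    apply hJd
    have := congrArg Matrix.det h4
    rw [Matrix.det_mul, w.2, mul_one] at this
    rw [this]; simp
  have hwN : w ∈ N := (hmem w).mpr (Or.inr hw)
  have hanti : ∀ g ∈ N, g ∉ TJ J → (g : Matrix (Fin 2) (Fin 2) F) * J = -(J * g) := fun g hg hgT =>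
    ((hmem g).mp hg).resolve_left hgT
  have hinv : ∀ g ∈ N, g ∉ TJ J → ∀ t ∈ TJ J, g * t * g⁻¹ = t⁻¹ := by
    intro g hg hgT t ht
    obtain ⟨x, y, hx⟩ := TJ_form h2 hJt hJd ht
    have hgJ := hanti g hg hgT
    rw [eq_inv_iff_mul_eq_one]
    apply Subtype.ext
    show (g : Matrix (Fin 2) (Fin 2) F) * t * ((g⁻¹ : SpecialLinearGroup (Fin 2) F) : Matrix (Fin 2) (Fin 2) F) * t = 1
    have h3 : (g : Matrix (Fin 2) (Fin 2) F) * t = (x • (1 : Matrix (Fin 2) (Fin 2) F) - y • J) * g := by
      rw [hx, mul_add, sub_mul, Matrix.mul_smul, Matrix.mul_smul, mul_one, hgJ, Matrix.smul_mul, Matrix.smul_mul, one_mul, smul_neg,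
        sub_eq_add_neg]
    rw [h3, mul_assoc _ (g : Matrix (Fin 2) (Fin 2) F), gi_right, mul_one, hx]
    have hd : (x • (1 : Matrix (Fin 2) (Fin 2) F) + y • J).det = 1 := by rw [← hx]; exact t.2
    have h5 := inv_eq hJt x y hd
    have h6 : Commute (x • (1 : Matrix (Fin 2) (Fin 2) F) + y • J) (x • (1 : Matrix (Fin 2) (Fin 2) F) - y • J) := by
      have a1 : Commute (x • (1 : Matrix (Fin 2) (Fin 2) F)) (y • J) := by
        have : Commute (1 : Matrix (Fin 2) (Fin 2) F) J := Commute.one_left J
        exact (this.smul_left x).smul_right y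
      exact (Commute.add_left ((Commute.refl _).sub_right a1) (a1.symm.sub_right (Commute.refl _)))
    rw [← h6.eq]; exact h5
  have hidx : ((TJ J).subgroupOf N).index = 2 := by
    rw [Subgroup.index_eq_two_iff]
    refine ⟨⟨w, hwN⟩, fun b => ?_⟩
    rw [Subgroup.mem_subgroupOf, Subgroup.mem_subgroupOf]
    by_cases hb : (b : SpecialLinearGroup (Fin 2) F) ∈ TJ J
    · refine Or.inr ⟨hb, fun hc => hwT ?_⟩
      exact ((TJ J).mul_mem_cancel_left hb).mp hc
    · refine Or.inl ⟨?_, hb⟩
      have hbJ := hanti b b.2 hb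
      show ((b : SpecialLinearGroup (Fin 2) F) : Matrix (Fin 2) (Fin 2) F) * (w : Matrix (Fin 2) (Fin 2) F) * J = J * (_ * _)
      rw [mul_assoc, hw, mul_neg, ← mul_assoc, hbJ, neg_mul, neg_neg, mul_assoc]
  have hcT : Nat.card ((TJ J).subgroupOf N) = Nat.card (TJ J) := Nat.card_congr (Subgroup.subgroupOfEquivOfLe hTN).toEquiv
  have hcN : Nat.card N = 2 * Nat.card (TJ J) := by
    rw [← Subgroup.card_mul_index ((TJ J).subgroupOf N), hidx, hcT, mul_comm]
  have hm1 : (-1 : SpecialLinearGroup (Fin 2) F) ∈ TJ J := by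
    show (-1 : Matrix (Fin 2) (Fin 2) F) * J = J * (-1)
    rw [neg_mul, mul_neg, one_mul, mul_one]
  refine ⟨hcN, ?_, ?_, hinv⟩
  · have h := card_cc ((TJ J).subgroupOf N) (fun a ha b hb => Subtype.ext (TJ_comm h2 hJt hJd ha hb)) hidx
      (fun v hv t ht => Subtype.ext (hinv v v.2 hv t ht)) ⟨-1, hTN hm1⟩ hm1
      (by
        intro h
        have h3 : (-1 : SpecialLinearGroup (Fin 2) F) = 1 := congrArg Subtype.val h
        have h4 := congrFun (congrFun (congrArg (slMat F) h3) 0) 0
        have h5 : (-1 : F) = 1 := h4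
        apply h2
        linear_combination -h5)
      (Subtype.ext (by show (-1 : SpecialLinearGroup (Fin 2) F) * (-1) = 1; rw [neg_mul_neg, one_mul]))
      (by
        intro t ht htt
        have h3 : ((t : SpecialLinearGroup (Fin 2) F) : Matrix (Fin 2) (Fin 2) F) * t = 1 :=
          congrArg (fun z : N => ((z : SpecialLinearGroup (Fin 2) F) : Matrix (Fin 2) (Fin 2) F)) htt
        set A := ((t : SpecialLinearGroup (Fin 2) F) : Matrix (Fin 2) (Fin 2) F) with hA
        have hd : A 0 0 * A 1 1 - A 0 1 * A 1 0 = 1 := by rw [← Matrix.det_fin_two]; exact t.1.2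
        have e00 := congrFun (congrFun h3 0) 0
        have e01 := congrFun (congrFun h3 0) 1
        have e10 := congrFun (congrFun h3 1) 0
        have e11 := congrFun (congrFun h3 1) 1
        simp [Matrix.mul_apply, Fin.sum_univ_two] at e00 e01 e10 e11
        have htr : A 0 0 + A 1 1 ≠ 0 := by
          intro h0
          apply h2
          linear_combination -e00 - hd + A 0 0 * h0
        have f01 : A 0 1 = 0 := by
          have : A 0 1 * (A 0 0 + A 1 1) = 0 := by linear_combination e01
          exact (mul_eq_zero.mp this).resolve_right htr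
        have f10 : A 1 0 = 0 := by
          have : A 1 0 * (A 0 0 + A 1 1) = 0 := by linear_combination e10
          exact (mul_eq_zero.mp this).resolve_right htr
        have f00 : A 0 0 = A 1 1 := by
          have : (A 0 0 - A 1 1) * (A 0 0 + A 1 1) = 0 := by linear_combination e00 - e11
          exact sub_eq_zero.mp ((mul_eq_zero.mp this).resolve_right htr)
        have g00 : A 0 0 ^ 2 = 1 := by rw [f01, zero_mul, add_zero] at e00; rw [sq]; exact e00
        rcases sq_one_cases g00 with h5 | h5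
        · left
          apply Subtype.ext
          apply Subtype.ext
          show A = 1
          apply ext2
          · rw [h5]; simp
          · rw [f01]; simp
          · rw [f10]; simp
          · rw [← f00, h5]; simp
        · right
          apply Subtype.ext
          apply Subtype.ext
          show A = -1
          apply ext2
          · rw [h5]; simp
          · rw [f01]; simp
          · rw [f10]; simp
          · rw [← f00, h5]; simp)
    rw [hcT] at h
    exact h
  · intro g hg hgT
    exact sq_of_trace g.2 (anti_trace h2 hJt hJd (hanti g hg hgT))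

end

end CfsgLib.Tor
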