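import Cfsg.Agent.LibTorC

set_option autoImplicit false

/-! Sylow subgroups for odd primes (helper1) -/

namespace CfsgLib.Tor

open Finset Matrix CfsgLib.G2B CfsgLib.G2C

section

variable {F : Type*} [Field F] [Fintype F]

theorem sylow_tor {ℓ : ℕ} [Fact ℓ.Prime] (hℓ : ℓ ≠ 2) (P : Sylow ℓ (SpecialLinearGroup (Fin 2) F))
    (h2 : (2 : F) ≠ 0) {J : Matrix (Fin 2) (Fin 2) F} (hJt : J 1 1 = - J 0 0) (hJd : J.det ≠ 0)
    (hcyc : IsCyclic (TJ J)) (m m' : ℕ) (hm : Nat.card (TJ J) = m) (hG : Nat.card (SpecialLinearGroup (Fin 2) F) = m * m')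
    (hdvd : ℓ ∣ m) (hnd : ¬ ℓ ∣ m')
    {w : SpecialLinearGroup (Fin 2) F} (hw : (w : Matrix (Fin 2) (Fin 2) F) * J = -(J * w)) :
    Nat.card (Subgroup.centralizer ((P : Subgroup (SpecialLinearGroup (Fin 2) F)) : Set (SpecialLinearGroup (Fin 2) F))) = m ∧
    IsCyclic (Subgroup.centralizer ((P : Subgroup (SpecialLinearGroup (Fin 2) F)) : Set (SpecialLinearGroup (Fin 2) F))) ∧
    Nat.card (Subgroup.normalizer ((P : Subgroup (SpecialLinearGroup (Fin 2) F)) : Set (SpecialLinearGroup (Fin 2) F))) = 2 * m := by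
  classical
  have hℓp : ℓ.Prime := Fact.out
  -- a Sylow subgroup of the torus
  obtain ⟨Q⟩ : Nonempty (Sylow ℓ (TJ J)) := inferInstance
  let Q' : Subgroup (SpecialLinearGroup (Fin 2) F) := (Q : Subgroup (TJ J)).map (TJ J).subtype
  have hQT : Q' ≤ TJ J := Subgroup.map_subtype_le _
  have hQc : Nat.card Q' = Nat.card Q := Nat.card_congr ((Q : Subgroup (TJ J)).equivMapOfInjective _ (TJ J).subtype_injective).symm.toEquiv
  have hQp : IsPGroup ℓ Q' := Q.2.map _
  have hQcard : Nat.card Q = ℓ ^ (Nat.card (TJ J)).factorization ℓ := Q.card_eq_multiplicity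
  have hm0 : m ≠ 0 := by rw [← hm]; exact Nat.card_pos.ne'
  have hm'0 : m' ≠ 0 := by
    rintro rfl
    rw [mul_zero] at hG
    exact Nat.card_pos.ne' hG
  have hfac : (Nat.card (SpecialLinearGroup (Fin 2) F)).factorization ℓ = m.factorization ℓ := by
    rw [hG, Nat.factorization_mul hm0 hm'0, Finsupp.add_apply, Nat.factorization_eq_zero_of_not_dvd hnd, add_zero]
  have hPcard : Nat.card P = ℓ ^ m.factorization ℓ := by rw [P.card_eq_multiplicity, hfac]
  have hQP : Nat.card Q' = Nat.card P := by rw [hQc, hQcard, hm, hPcard]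
  let QS : Sylow ℓ (SpecialLinearGroup (Fin 2) F) := Sylow.ofCard Q' (by rw [hQP, P.card_eq_multiplicity])
  -- nonscalar element
  have hQ1 : 2 < Nat.card Q' := by
    rw [hQP, hPcard]
    have h1 : 0 < m.factorization ℓ := hℓp.factorization_pos_of_dvd hm0 hdvd
    have h3 : 3 ≤ ℓ := by
      have := hℓp.two_le
      omega
    calc 2 < ℓ := by omega
      _ = ℓ ^ 1 := (pow_one _).symm
      _ ≤ _ := Nat.pow_le_pow_right (by omega) h1
  obtain ⟨t₀, ht₀Q, hns⟩ := exists_nonsc hQ1
  have ht₀ : t₀ ∈ TJ J := hQT ht₀Q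
  have hcent : Subgroup.centralizer (Q' : Set (SpecialLinearGroup (Fin 2) F)) = TJ J := by
    apply le_antisymm
    · exact (Subgroup.centralizer_le (Set.singleton_subset_iff.mpr ht₀Q)).trans (TJ_cent h2 hJt hJd ht₀ hns).le
    · intro g hg h hh
      exact TJ_comm h2 hJt hJd (hQT hh) hg
  have hmain := tor_main h2 hJt hJd ht₀ hns hw
  have hnorm : Subgroup.normalizer (Q' : Set (SpecialLinearGroup (Fin 2) F)) = Subgroup.normalizer (TJ J : Set (SpecialLinearGroup (Fin 2) F)) := by
    apply le_antisymm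
    · intro g hg
      rw [Subgroup.mem_normalizer_iff] at hg ⊢
      have key : ∀ g : SpecialLinearGroup (Fin 2) F, (∀ h, h ∈ Q' ↔ g * h * g⁻¹ ∈ Q') → ∀ x ∈ TJ J, g * x * g⁻¹ ∈ TJ J := by
        intro g hg x hx
        rw [← hcent] at hx ⊢
        intro h hh
        have h1 : g⁻¹ * h * g ∈ Q' := by
          rw [hg]
          have : g * (g⁻¹ * h * g) * g⁻¹ = h := by group
          rw [this]; exact hh
        have h3 := hx _ h1
        calc h * (g * x * g⁻¹) = g * ((g⁻¹ * h * g) * x) * g⁻¹ := by group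
          _ = g * (x * (g⁻¹ * h * g)) * g⁻¹ := by rw [h3]
          _ = _ := by group
      intro x
      refine ⟨key g hg x, fun hx => ?_⟩
      have hg' : ∀ h, h ∈ Q' ↔ g⁻¹ * h * g⁻¹⁻¹ ∈ Q' := by
        intro h
        rw [hg (g⁻¹ * h * g⁻¹⁻¹)]
        have : g * (g⁻¹ * h * g⁻¹⁻¹) * g⁻¹ = h := by group
        rw [this]
      have := key g⁻¹ hg' _ hx
      have e : g⁻¹ * (g * x * g⁻¹) * g⁻¹⁻¹ = x := by group
      rwa [e] at this
    · intro g hg
      by_cases hgT : g ∈ TJ J
      · have : g ∈ Subgroup.centralizer (Q' : Set (SpecialLinearGroup (Fin 2) F)) := by rw [hcent]; exact hgT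
        exact Subgroup.centralizer_le_normalizer _ this
      · have hinv := hmain.2.2.2 g hg hgT
        rw [Subgroup.mem_normalizer_iff]
        have hg' : g⁻¹ ∈ Subgroup.normalizer (TJ J : Set (SpecialLinearGroup (Fin 2) F)) := Subgroup.inv_mem _ hg
        have hgT' : g⁻¹ ∉ TJ J := fun h => hgT ((TJ J).inv_mem_iff.mp h)
        have hinv' := hmain.2.2.2 g⁻¹ hg' hgT'
        intro x
        constructor
        · intro hx
          rw [hinv x (hQT hx)]
          exact Q'.inv_mem hx
        · intro hx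
          have h1 := hinv' _ (hQT hx)
          have e : g⁻¹ * (g * x * g⁻¹) * g⁻¹⁻¹ = x := by group
          rw [e] at h1
          rw [h1]
          exact Q'.inv_mem hx
  -- transport
  obtain ⟨c, hc⟩ := MulAction.exists_smul_eq (SpecialLinearGroup (Fin 2) F) P QS
  have hcP : (P : Subgroup (SpecialLinearGroup (Fin 2) F)).map (MulAut.conj c).toMonoidHom = Q' := by
    have := congrArg (fun S : Sylow ℓ _ => (S : Subgroup (SpecialLinearGroup (Fin 2) F))) hc
    exact this
  have hinj : Function.Injective (MulAut.conj c).toMonoidHom := (MulAut.conj c).injective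
  have e1 : (Subgroup.centralizer ((P : Subgroup (SpecialLinearGroup (Fin 2) F)) : Set (SpecialLinearGroup (Fin 2) F))).map (MulAut.conj c).toMonoidHom = TJ J := by
    rw [← hcent, ← hcP]
    ext x
    constructor
    · rintro ⟨y, hy, rfl⟩
      rintro _ ⟨z, hz, rfl⟩
      show c * z * c⁻¹ * (c * y * c⁻¹) = c * y * c⁻¹ * (c * z * c⁻¹)
      have h3 : z * y = y * z := hy z hz
      calc _ = c * (z * y) * c⁻¹ := by group
        _ = _ := by rw [h3]; group
    · intro hx
      refine ⟨c⁻¹ * x * c, ?_, ?_⟩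
      · intro z hz
        have h3 := hx _ ⟨z, hz, rfl⟩
        have h4 : c * z * c⁻¹ * x = x * (c * z * c⁻¹) := h3
        calc z * (c⁻¹ * x * c) = c⁻¹ * (c * z * c⁻¹ * x) * c := by group
          _ = _ := by rw [h4]; group
      · show c * (c⁻¹ * x * c) * c⁻¹ = x
        group
  have e2 : (Subgroup.normalizer ((P : Subgroup (SpecialLinearGroup (Fin 2) F)) : Set (SpecialLinearGroup (Fin 2) F))).map (MulAut.conj c).toMonoidHom =
      Subgroup.normalizer (Q' : Set (SpecialLinearGroup (Fin 2) F)) := by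
    rw [← hcP]
    exact Subgroup.map_equiv_normalizer_eq _ (MulAut.conj c)
  refine ⟨?_, ?_, ?_⟩
  · rw [← hm, ← e1]
    exact Nat.card_congr (Subgroup.equivMapOfInjective _ _ hinj).toEquiv
  · have e := Subgroup.equivMapOfInjective (Subgroup.centralizer ((P : Subgroup (SpecialLinearGroup (Fin 2) F)) : Set (SpecialLinearGroup (Fin 2) F))) _ hinj
    rw [e1] at e
    exact isCyclic_of_surjective e.symm e.symm.surjective
  · rw [← hm, ← hmain.1, ← hnorm, ← e2]
    exact Nat.card_congr (Subgroup.equivMapOfInjective _ _ hinj).toEquiv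

end

end CfsgLib.Tor
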