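import Cfsg.Agent.LibTorD

set_option autoImplicit false

/-! class number of the Borel subgroup of SL_2(q), q odd (helper1) -/

namespace CfsgLib.Tor

open Finset Matrix Cfsg CfsgLib.G2B CfsgLib.G2C

/-- counting classes by centralizers -/
theorem cc_mul {N : Type*} [Group N] [Fintype N] [DecidableEq N] :
    ∑ g : N, (univ.filter fun h => g * h = h * g).card = Nat.card (ConjClasses N) * Nat.card N := by
  classical
  rw [← card_comm_eq_card_conjClasses_mul_card N, Nat.card_eq_fintype_card, Fintype.card_subtype,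
    Finset.card_eq_sum_card_fiberwise (f := Prod.fst) (t := univ)
      (fun _ _ => Finset.mem_coe.mpr (mem_univ _))]
  symm
  apply Finset.sum_congr rfl
  intro g _
  rw [Finset.filter_filter]
  refine Finset.card_bij' (fun p _ => p.2) (fun h _ => (g, h)) ?_ ?_ ?_ ?_
  · intro p hp
    simp only [mem_filter, mem_univ, true_and] at hp ⊢
    rw [← hp.2]; exact hp.1
  · intro h hh
    simp only [mem_filter, mem_univ, true_and, and_true] at hh ⊢
    exact hh
  · intro p hp
    simp only [mem_filter, mem_univ, true_and] at hp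
    exact Prod.ext hp.2.symm rfl
  · intro h hh; rfl

section

variable (F : Type*) [Field F]

/-- the Borel subgroup as pairs -/
@[ext] structure Bor where
  a : Fˣ
  b : F

variable {F}

instance : Mul (Bor F) := ⟨fun x y => ⟨x.a * y.a, x.a * y.b + x.b * ((y.a⁻¹ : Fˣ) : F)⟩⟩

theorem bmul (x y : Bor F) : x * y = ⟨x.a * y.a, x.a * y.b + x.b * ((y.a⁻¹ : Fˣ) : F)⟩ := rfl

/-- commuting in the Borel subgroup -/
theorem bcomm (x y : Bor F) : x * y = y * x ↔
    (x.a : F) * y.b + x.b * ((y.a⁻¹ : Fˣ) : F) = y.a * x.b + y.b * ((x.a⁻¹ : Fˣ) : F) := by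
  rw [bmul, bmul, Bor.mk.injEq]
  constructor
  · exact fun h => h.2
  · exact fun h => ⟨mul_comm _ _, h⟩

noncomputable def borEquiv : Bor F ≃ (upperTriangularGL 2 F).comap Matrix.SpecialLinearGroup.toGL where
  toFun x := ⟨mkSL !![(x.a : F), x.b; 0, ((x.a⁻¹ : Fˣ) : F)] (by rw [Matrix.det_fin_two_of]; simp), by
    rw [mem_upper_sl]; rfl⟩
  invFun g := ⟨⟨(g : SpecialLinearGroup (Fin 2) F).1 0 0, (g : SpecialLinearGroup (Fin 2) F).1 1 1, by
    have h : (g : SpecialLinearGroup (Fin 2) F).1 1 0 = 0 := (mem_upper_sl _).mp g.2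
    have hd := (g : SpecialLinearGroup (Fin 2) F).2
    rw [Matrix.det_fin_two, h, mul_zero, sub_zero] at hd
    exact hd, by
    have h : (g : SpecialLinearGroup (Fin 2) F).1 1 0 = 0 := (mem_upper_sl _).mp g.2
    have hd := (g : SpecialLinearGroup (Fin 2) F).2
    rw [Matrix.det_fin_two, h, mul_zero, sub_zero, mul_comm] at hd
    exact hd⟩, (g : SpecialLinearGroup (Fin 2) F).1 0 1⟩
  left_inv x := by
    apply Bor.ext
    · apply Units.ext; rfl
    · rfl
  right_inv g := by
    apply Subtype.ext
    apply Subtype.ext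
    have h : (g : SpecialLinearGroup (Fin 2) F).1 1 0 = 0 := (mem_upper_sl _).mp g.2
    apply ext2
    · rfl
    · rfl
    · exact h.symm
    · rfl

theorem borEquiv_mul (x y : Bor F) : borEquiv (x * y) = borEquiv x * borEquiv y := by
  apply Subtype.ext
  apply Subtype.ext
  show (!![((x.a * y.a : Fˣ) : F), x.a * y.b + x.b * ((y.a⁻¹ : Fˣ) : F); 0, (((x.a * y.a)⁻¹ : Fˣ) : F)] : Matrix (Fin 2) (Fin 2) F) =
    !![(x.a : F), x.b; 0, ((x.a⁻¹ : Fˣ) : F)] * !![(y.a : F), y.b; 0, ((y.a⁻¹ : Fˣ) : F)]
  apply ext2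
  · simp
  · simp
  · simp
  · simp [mul_comm]

/-- Bor as product -/
def borProd : Bor F ≃ Fˣ × F := ⟨fun x => (x.a, x.b), fun p => ⟨p.1, p.2⟩, fun x => rfl, fun p => rfl⟩

theorem card_bor_classes [Fintype F] (hodd : Odd (Fintype.card F)) :
    Nat.card (ConjClasses ((upperTriangularGL 2 F).comap Matrix.SpecialLinearGroup.toGL)) = Fintype.card F + 3 := by
  classical
  have h2 := two_ne_of_odd hodd
  set q := Fintype.card F with hq
  have hq2 : 2 ≤ q := Fintype.one_lt_card
  haveI : Fintype ((upperTriangularGL 2 F).comap (Matrix.SpecialLinearGroup.toGL : SpecialLinearGroup (Fin 2) F →* GL (Fin 2) F)) :=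
    Fintype.ofEquiv _ (borProd.symm.trans borEquiv)
  haveI : Fintype (Bor F) := Fintype.ofEquiv _ borProd.symm
  have hcardB : Fintype.card (Bor F) = (q - 1) * q := by
    rw [Fintype.card_congr borProd, Fintype.card_prod, Fintype.card_units]
  have hcc := cc_mul (N := (upperTriangularGL 2 F).comap (Matrix.SpecialLinearGroup.toGL : SpecialLinearGroup (Fin 2) F →* GL (Fin 2) F))
  have hsum : ∑ g : (upperTriangularGL 2 F).comap (Matrix.SpecialLinearGroup.toGL : SpecialLinearGroup (Fin 2) F →* GL (Fin 2) F),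
      (univ.filter fun h => g * h = h * g).card = ∑ x : Bor F, (univ.filter fun y : Bor F => x * y = y * x).card := by
    symm
    apply Fintype.sum_equiv borEquiv
    intro x
    refine Finset.card_bij' (fun y _ => borEquiv y) (fun h _ => borEquiv.symm h) ?_ ?_ ?_ ?_
    · intro y hy
      simp only [mem_filter, mem_univ, true_and] at hy ⊢
      rw [← borEquiv_mul, ← borEquiv_mul, hy]
    · intro h hh
      simp only [mem_filter, mem_univ, true_and] at hh ⊢
      apply borEquiv.injective
      rw [borEquiv_mul, borEquiv_mul, Equiv.apply_symm_apply]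
      exact hh
    · intro y _; exact Equiv.symm_apply_apply _ _
    · intro h _; exact Equiv.apply_symm_apply _ _
  have hNc : Nat.card ((upperTriangularGL 2 F).comap (Matrix.SpecialLinearGroup.toGL : SpecialLinearGroup (Fin 2) F →* GL (Fin 2) F)) = (q - 1) * q := by
    rw [← Nat.card_congr borEquiv, Nat.card_eq_fintype_card, hcardB]
  rw [hsum, hNc] at hcc
  -- the two signs
  have hm1 : (-1 : Fˣ) ≠ 1 := by
    intro h
    have h3 : (-1 : F) = 1 := by
      have := congrArg (Units.val) h
      simpa using this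
    apply h2
    linear_combination -h3
  have hsq : ∀ a : Fˣ, (a = 1 ∨ a = -1) ↔ (a : F) = ((a⁻¹ : Fˣ) : F) := by
    intro a
    constructor
    · rintro (rfl | rfl) <;> simp
    · intro h
      have h3 : (a : F) ^ 2 = 1 := by
        rw [sq]; nth_rewrite 2 [h]; simp
      rcases sq_one_cases h3 with h5 | h5
      · left; exact Units.ext h5
      · right; apply Units.ext; rw [h5]; simp
  have hf : ∀ x : Bor F, (univ.filter fun y : Bor F => x * y = y * x).card =
      if x.a = 1 ∨ x.a = -1 then (if x.b = 0 then (q - 1) * q else 2 * q) else (q - 1) := by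
    intro x
    by_cases ha : x.a = 1 ∨ x.a = -1
    · rw [if_pos ha]
      have ha' := (hsq _).mp ha
      by_cases hb : x.b = 0
      · rw [if_pos hb, ← hcardB, ← Finset.card_univ]
        congr 1
        apply Finset.filter_true_of_mem
        intro y _
        rw [bcomm, hb, ← ha']; ring
      · rw [if_neg hb]
        have : (univ.filter fun y : Bor F => x * y = y * x) =
            (({1, -1} : Finset Fˣ) ×ˢ (univ : Finset F)).map borProd.symm.toEmbedding := by
          ext y
          simp only [mem_filter, mem_univ, true_and, mem_map_equiv, mem_product, mem_insert, mem_singleton, and_true]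
          rw [bcomm, ← ha']
          show _ ↔ (y.a = 1 ∨ y.a = -1)
          rw [hsq]
          constructor
          · intro h
            have h3 : x.b * ((y.a : F) - ((y.a⁻¹ : Fˣ) : F)) = 0 := by linear_combination -h
            exact sub_eq_zero.mp ((mul_eq_zero.mp h3).resolve_left hb)
          · intro h
            rw [← h]; ring
        rw [this, card_map, card_product, card_pair hm1.symm, card_univ]
    · rw [if_neg ha]
      have hne : (x.a : F) - ((x.a⁻¹ : Fˣ) : F) ≠ 0 := fun h => ha ((hsq _).mpr (sub_eq_zero.mp h))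
      have : (univ.filter fun y : Bor F => x * y = y * x) =
          (univ : Finset Fˣ).map ⟨fun c => (⟨c, x.b * ((c : F) - ((c⁻¹ : Fˣ) : F)) / ((x.a : F) - ((x.a⁻¹ : Fˣ) : F))⟩ : Bor F),
            fun c d h => congrArg Bor.a h⟩ := by
        ext y
        simp only [mem_filter, mem_univ, true_and, mem_map, Function.Embedding.coeFn_mk]
        rw [bcomm]
        constructor
        · intro h
          refine ⟨y.a, ?_⟩
          apply Bor.ext
          · rfl
          · show x.b * ((y.a : F) - ((y.a⁻¹ : Fˣ) : F)) / ((x.a : F) - ((x.a⁻¹ : Fˣ) : F)) = y.b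
            rw [div_eq_iff hne]
            linear_combination -h
        · rintro ⟨c, rfl⟩
          show (x.a : F) * (x.b * ((c : F) - ((c⁻¹ : Fˣ) : F)) / ((x.a : F) - ((x.a⁻¹ : Fˣ) : F))) + x.b * ((c⁻¹ : Fˣ) : F) =
            c * x.b + (x.b * ((c : F) - ((c⁻¹ : Fˣ) : F)) / ((x.a : F) - ((x.a⁻¹ : Fˣ) : F))) * ((x.a⁻¹ : Fˣ) : F)
          have e : x.b * ((c : F) - ((c⁻¹ : Fˣ) : F)) / ((x.a : F) - ((x.a⁻¹ : Fˣ) : F)) * ((x.a : F) - ((x.a⁻¹ : Fˣ) : F)) =
            x.b * ((c : F) - ((c⁻¹ : Fˣ) : F)) := div_mul_cancel₀ _ hne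
          linear_combination e
      rw [this, card_map, card_univ, Fintype.card_units]
  rw [Finset.sum_congr rfl (fun x _ => hf x), ← Equiv.sum_comp borProd.symm, Fintype.sum_prod_type] at hcc
  have hin : ∀ a : Fˣ, ∑ b : F, (if (borProd.symm (a, b)).a = 1 ∨ (borProd.symm (a, b)).a = -1 then
      (if (borProd.symm (a, b)).b = 0 then (q - 1) * q else 2 * q) else (q - 1)) =
      if a ∈ ({1, -1} : Finset Fˣ) then (q - 1) * q + (q - 1) * (2 * q) else q * (q - 1) := by
    intro a
    show ∑ b : F, (if a = 1 ∨ a = -1 then (if b = 0 then (q - 1) * q else 2 * q) else (q - 1)) = _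
    by_cases ha : a = 1 ∨ a = -1
    · rw [if_pos (by simpa using ha)]
      simp only [ha, if_true]
      rw [← Finset.add_sum_erase _ _ (mem_univ (0 : F)), if_pos rfl]
      congr 1
      rw [Finset.sum_congr rfl (fun b hb => if_neg (Finset.ne_of_mem_erase hb)), Finset.sum_const,
        Finset.card_erase_of_mem (mem_univ _), card_univ, smul_eq_mul]
    · rw [if_neg (by simpa using ha)]
      simp only [ha, if_false]
      rw [Finset.sum_const, card_univ, smul_eq_mul]
  rw [Finset.sum_congr rfl (fun a _ => hin a), Finset.sum_ite, Finset.sum_const, Finset.sum_const] at hcc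
  have hc1 : (univ.filter fun a : Fˣ => a ∈ ({1, -1} : Finset Fˣ)).card = 2 := by
    rw [Finset.filter_mem_eq_inter, Finset.univ_inter, card_pair hm1.symm]
  have hc2 : (univ.filter fun a : Fˣ => a ∉ ({1, -1} : Finset Fˣ)).card + 2 = q - 1 := by
    have := Finset.card_filter_add_card_filter_not (s := (univ : Finset Fˣ)) (fun a => a ∈ ({1, -1} : Finset Fˣ))
    rw [hc1, card_univ, Fintype.card_units] at this
    omega
  rw [hc1] at hcc
  obtain ⟨k, hk⟩ : ∃ k, q = k + 3 := ⟨q - 3, by omega⟩
  have hc3 : (univ.filter fun a : Fˣ => a ∉ ({1, -1} : Finset Fˣ)).card = k := by omega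
  rw [hc3, hk] at hcc
  simp only [smul_eq_mul] at hcc
  have e : k + 3 - 1 = k + 2 := by omega
  rw [e] at hcc
  have hpos : 0 < (k + 2) * (k + 3) := by positivity
  apply Nat.eq_of_mul_eq_mul_right hpos
  rw [← hcc, hk]
  ring

end

end CfsgLib.Tor
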