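import Cfsg.Agent.LibTorE

set_option autoImplicit false

/-! Sylow 2-subgroups of SL_2(q), q odd (helper1) -/

namespace CfsgLib.Tor

open Finset Matrix CfsgLib.G2B CfsgLib.G2C

section

variable {F : Type*} [Field F]

/-- torus data -/
structure TD (T : Subgroup (SpecialLinearGroup (Fin 2) F)) : Prop where
  cent : ∀ g ∈ T, ¬ IsSc (g : Matrix (Fin 2) (Fin 2) F) → Subgroup.centralizer ({g} : Set (SpecialLinearGroup (Fin 2) F)) = T
  comm : ∀ g ∈ T, ∀ h ∈ T, g * h = h * g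
  cyc : IsCyclic T
  cardN : Nat.card (Subgroup.normalizer (T : Set (SpecialLinearGroup (Fin 2) F))) = 2 * Nat.card T
  sq : ∀ g ∈ Subgroup.normalizer (T : Set (SpecialLinearGroup (Fin 2) F)), g ∉ T → g * g = -1
  inv : ∀ g ∈ Subgroup.normalizer (T : Set (SpecialLinearGroup (Fin 2) F)), g ∉ T → ∀ t ∈ T, g * t * g⁻¹ = t⁻¹

theorem mem_TJ_conj {J : Matrix (Fin 2) (Fin 2) F} (c x : SpecialLinearGroup (Fin 2) F) :
    x ∈ TJ ((c : Matrix (Fin 2) (Fin 2) F) * J * ((c⁻¹ : SpecialLinearGroup (Fin 2) F) : Matrix (Fin 2) (Fin 2) F)) ↔ c⁻¹ * x * c ∈ TJ J := by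
  rw [mem_TJ, mem_TJ]
  have e1 := gi_right c
  have e2 := gi_left c
  show _ ↔ ((c⁻¹ : SpecialLinearGroup (Fin 2) F) : Matrix (Fin 2) (Fin 2) F) * (x : Matrix (Fin 2) (Fin 2) F) * (c : Matrix (Fin 2) (Fin 2) F) * J =
    J * (((c⁻¹ : SpecialLinearGroup (Fin 2) F) : Matrix (Fin 2) (Fin 2) F) * (x : Matrix (Fin 2) (Fin 2) F) * (c : Matrix (Fin 2) (Fin 2) F))
  set C := (c : Matrix (Fin 2) (Fin 2) F)
  set D := ((c⁻¹ : SpecialLinearGroup (Fin 2) F) : Matrix (Fin 2) (Fin 2) F)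
  set X := (x : Matrix (Fin 2) (Fin 2) F)
  constructor
  · intro h
    calc D * X * C * J = D * (X * (C * J * D)) * C := by
          have : D * (X * (C * J * D)) * C = D * X * C * J * (D * C) := by noncomm_ring
          rw [this, e2, mul_one]
      _ = D * (C * J * D * X) * C := by rw [h]
      _ = (D * C) * J * (D * X * C) := by noncomm_ring
      _ = _ := by rw [e2, one_mul]
  · intro h
    calc X * (C * J * D) = (C * D) * X * C * J * D := by rw [e1, one_mul]; noncomm_ring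
      _ = C * (D * X * C * J) * D := by noncomm_ring
      _ = C * (J * (D * X * C)) * D := by rw [h]
      _ = C * J * D * X * (C * D) := by noncomm_ring
      _ = _ := by rw [e1, mul_one]

theorem td_conj [Finite F] (h2 : (2 : F) ≠ 0) {J : Matrix (Fin 2) (Fin 2) F} (hJt : J 1 1 = - J 0 0) (hJd : J.det ≠ 0)
    (hcyc : IsCyclic (TJ J)) (h3 : 2 < Nat.card (TJ J)) {w : SpecialLinearGroup (Fin 2) F} (hw : (w : Matrix (Fin 2) (Fin 2) F) * J = -(J * w))
    (c : SpecialLinearGroup (Fin 2) F) :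
    TD (TJ ((c : Matrix (Fin 2) (Fin 2) F) * J * ((c⁻¹ : SpecialLinearGroup (Fin 2) F) : Matrix (Fin 2) (Fin 2) F))) ∧
    Nat.card (TJ ((c : Matrix (Fin 2) (Fin 2) F) * J * ((c⁻¹ : SpecialLinearGroup (Fin 2) F) : Matrix (Fin 2) (Fin 2) F))) = Nat.card (TJ J) := by
  set J' := (c : Matrix (Fin 2) (Fin 2) F) * J * ((c⁻¹ : SpecialLinearGroup (Fin 2) F) : Matrix (Fin 2) (Fin 2) F) with hJ'
  have e1 := gi_right c
  have e2 := gi_left c
  have hJt' : J' 1 1 = - J' 0 0 := by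
    have h : J'.trace = 0 := by
      rw [hJ', Matrix.trace_mul_comm, ← mul_assoc, e2, one_mul, Matrix.trace_fin_two, hJt, add_neg_cancel]
    rw [Matrix.trace_fin_two] at h
    linear_combination h
  have hJd' : J'.det ≠ 0 := by
    rw [hJ', Matrix.det_mul, Matrix.det_mul, c.2, (c⁻¹).2, one_mul, mul_one]
    exact hJd
  let e : TJ J ≃* TJ J' :=
    { toFun := fun x => ⟨c * x * c⁻¹, by
        rw [hJ', mem_TJ_conj]
        have : c⁻¹ * (c * (x : SpecialLinearGroup (Fin 2) F) * c⁻¹) * c = x := by group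
        rw [this]; exact x.2⟩
      invFun := fun x => ⟨c⁻¹ * x * c, (mem_TJ_conj c _).mp (hJ' ▸ x.2)⟩
      left_inv := fun x => Subtype.ext (by show c⁻¹ * (c * (x : SpecialLinearGroup (Fin 2) F) * c⁻¹) * c = x; group)
      right_inv := fun x => Subtype.ext (by show c * (c⁻¹ * (x : SpecialLinearGroup (Fin 2) F) * c) * c⁻¹ = x; group)
      map_mul' := fun x y => Subtype.ext (by show c * ((x : SpecialLinearGroup (Fin 2) F) * y) * c⁻¹ = c * x * c⁻¹ * (c * y * c⁻¹); group) }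
  have hcard : Nat.card (TJ J') = Nat.card (TJ J) := (Nat.card_congr e.toEquiv).symm
  have hcyc' : IsCyclic (TJ J') := isCyclic_of_surjective e e.surjective
  obtain ⟨t₀, ht₀, hns⟩ := exists_nonsc (H := TJ J') (by omega)
  have hw' : ((c * w * c⁻¹ : SpecialLinearGroup (Fin 2) F) : Matrix (Fin 2) (Fin 2) F) * J' = -(J' * (c * w * c⁻¹ : SpecialLinearGroup (Fin 2) F)) := by
    show (c : Matrix (Fin 2) (Fin 2) F) * (w : Matrix (Fin 2) (Fin 2) F) * ((c⁻¹ : SpecialLinearGroup (Fin 2) F) : Matrix (Fin 2) (Fin 2) F) * J' =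
      -(J' * ((c : Matrix (Fin 2) (Fin 2) F) * (w : Matrix (Fin 2) (Fin 2) F) * ((c⁻¹ : SpecialLinearGroup (Fin 2) F) : Matrix (Fin 2) (Fin 2) F)))
    rw [hJ']
    set C := (c : Matrix (Fin 2) (Fin 2) F)
    set D := ((c⁻¹ : SpecialLinearGroup (Fin 2) F) : Matrix (Fin 2) (Fin 2) F)
    set W := (w : Matrix (Fin 2) (Fin 2) F)
    calc C * W * D * (C * J * D) = C * W * (D * C) * J * D := by noncomm_ring
      _ = C * (W * J) * D := by rw [e2]; noncomm_ring
      _ = -(C * J * (W * D)) := by rw [hw]; noncomm_ring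
      _ = -(C * J * (D * C) * (W * D)) := by rw [e2, mul_one]
      _ = _ := by noncomm_ring
  have hmain := tor_main h2 hJt' hJd' ht₀ hns hw'
  refine ⟨⟨fun g hg hgs => TJ_cent h2 hJt' hJd' hg hgs, fun g hg h hh => TJ_comm h2 hJt' hJd' hg hh, hcyc', hmain.1,
    fun g hg hgT => ?_, hmain.2.2.2⟩, hcard⟩
  apply Subtype.ext
  exact hmain.2.2.1 g hg hgT

theorem norm_conj {J : Matrix (Fin 2) (Fin 2) F} (c x : SpecialLinearGroup (Fin 2) F)
    (hx : x ∈ Subgroup.normalizer (TJ J : Set (SpecialLinearGroup (Fin 2) F))) :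
    c * x * c⁻¹ ∈ Subgroup.normalizer (TJ ((c : Matrix (Fin 2) (Fin 2) F) * J * ((c⁻¹ : SpecialLinearGroup (Fin 2) F) : Matrix (Fin 2) (Fin 2) F)) : Set (SpecialLinearGroup (Fin 2) F)) := by
  rw [Subgroup.mem_normalizer_iff] at hx ⊢
  intro h
  rw [SetLike.mem_coe.symm, SetLike.mem_coe, mem_TJ_conj]
  change _ ↔ (c * x * c⁻¹) * h * (c * x * c⁻¹)⁻¹ ∈ TJ _
  rw [mem_TJ_conj]
  have e : c⁻¹ * (c * x * c⁻¹ * h * (c * x * c⁻¹)⁻¹) * c = x * (c⁻¹ * h * c) * x⁻¹ := by group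
  rw [e]
  exact hx _

/-- every Sylow 2-subgroup normalizes a torus of order divisible by 4 -/
theorem sylow_two_torus [Fintype F] (hodd : Odd (Fintype.card F)) (S : Sylow 2 (SpecialLinearGroup (Fin 2) F)) :
    ∃ (T : Subgroup (SpecialLinearGroup (Fin 2) F)) (m' : ℕ), TD T ∧ 4 ∣ Nat.card T ∧
      (Nat.card T = Fintype.card F - 1 ∨ Nat.card T = Fintype.card F + 1) ∧
      Nat.card (SpecialLinearGroup (Fin 2) F) = 2 * Nat.card T * m' ∧ Odd m' ∧
      (S : Subgroup (SpecialLinearGroup (Fin 2) F)) ≤ Subgroup.normalizer (T : Set (SpecialLinearGroup (Fin 2) F)) := by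
  classical
  have h2 := two_ne_of_odd hodd
  obtain ⟨ν, hν⟩ := FiniteField.exists_nonsquare (ringChar_ne_two h2)
  have hν0 : ν ≠ 0 := fun h => hν (h ▸ IsSquare.zero)
  have hq2 : 2 ≤ Fintype.card F := Fintype.one_lt_card
  have hG := card_SL F
  set q := Fintype.card F with hq
  have key : ∃ (J : Matrix (Fin 2) (Fin 2) F) (w : SpecialLinearGroup (Fin 2) F) (m' : ℕ), J 1 1 = - J 0 0 ∧ J.det ≠ 0 ∧ IsCyclic (TJ J) ∧
      (w : Matrix (Fin 2) (Fin 2) F) * J = -(J * w) ∧ 4 ∣ Nat.card (TJ J) ∧ (Nat.card (TJ J) = q - 1 ∨ Nat.card (TJ J) = q + 1) ∧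
      Nat.card (SpecialLinearGroup (Fin 2) F) = 2 * Nat.card (TJ J) * m' ∧ Odd m' := by
    obtain ⟨k, hk⟩ := hodd
    rcases Nat.even_or_odd k with hk2 | hk2
    · obtain ⟨l, hl⟩ := hk2
      refine ⟨JS F, _, q * (2 * l + 1), JS_t, JS_d, cyc_TS h2, w_TS, ?_, Or.inl (card_TS h2), ?_, ?_⟩
      · rw [card_TS h2]; exact ⟨l, by omega⟩
      · rw [hG, card_TS h2, ← hq]
        have e1 : q + 1 = 2 * (2 * l + 1) := by omega
        rw [e1]; ring
      · rw [Nat.odd_mul]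
        exact ⟨⟨k, hk⟩, ⟨l, rfl⟩⟩
    · obtain ⟨l, hl⟩ := hk2
      obtain ⟨w, hw⟩ := w_TN (F := F) ⟨k, hk⟩ hν0
      refine ⟨JN ν, w, q * (2 * l + 1), JN_t ν, JN_d hν0, cyc_TN hν, hw, ?_, Or.inr (card_TN h2 hν), ?_, ?_⟩
      · rw [card_TN h2 hν]; exact ⟨l + 1, by omega⟩
      · rw [hG, card_TN h2 hν, ← hq]
        have e1 : q - 1 = 2 * (2 * l + 1) := by omega
        rw [e1]; ring
      · rw [Nat.odd_mul]
        exact ⟨⟨k, hk⟩, ⟨l, rfl⟩⟩
  obtain ⟨J, w, m', hJt, hJd, hcyc, hw, h4, hm, hGm, hm'⟩ := key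
  have hpos : 0 < Nat.card (TJ J) := Nat.card_pos
  have h3 : 2 < Nat.card (TJ J) := by
    obtain ⟨l, hl⟩ := h4; omega
  obtain ⟨t₀, ht₀, hns⟩ := exists_nonsc h3
  have hmain := tor_main h2 hJt hJd ht₀ hns hw
  set N := Subgroup.normalizer (TJ J : Set (SpecialLinearGroup (Fin 2) F)) with hN
  obtain ⟨R⟩ : Nonempty (Sylow 2 N) := inferInstance
  let R' : Subgroup (SpecialLinearGroup (Fin 2) F) := (R : Subgroup N).map N.subtype
  have hRc : Nat.card R' = Nat.card R := Nat.card_congr ((R : Subgroup N).equivMapOfInjective _ N.subtype_injective).symm.toEquiv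
  have hR : Nat.card R' = 2 ^ (Nat.card (SpecialLinearGroup (Fin 2) F)).factorization 2 := by
    rw [hRc, R.card_eq_multiplicity, hmain.1, hGm]
    congr 1
    have h0 : m' ≠ 0 := by rintro rfl; exact absurd hm' (by decide)
    rw [Nat.factorization_mul (by omega) h0, Finsupp.add_apply,
      Nat.factorization_eq_zero_of_not_dvd (show ¬ 2 ∣ m' from fun h => (Nat.not_even_iff_odd.mpr hm') (even_iff_two_dvd.mpr h)), add_zero]
  let RS : Sylow 2 (SpecialLinearGroup (Fin 2) F) := Sylow.ofCard R' hR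
  obtain ⟨c, hc⟩ := MulAction.exists_smul_eq (SpecialLinearGroup (Fin 2) F) RS S
  have hcS : (R' : Subgroup (SpecialLinearGroup (Fin 2) F)).map (MulAut.conj c).toMonoidHom = S := by
    have := congrArg (fun S : Sylow 2 _ => (S : Subgroup (SpecialLinearGroup (Fin 2) F))) hc
    exact this
  have htd := td_conj h2 hJt hJd hcyc h3 hw c
  refine ⟨_, m', htd.1, ?_, ?_, ?_, hm', ?_⟩
  · rw [htd.2]; exact h4
  · rw [htd.2]; exact hm
  · rw [htd.2]; exact hGm
  · rw [← hcS]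
    rintro _ ⟨x, hx, rfl⟩
    exact norm_conj c x ((Subgroup.map_subtype_le _) hx)

end

end CfsgLib.Tor
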