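import Cfsg.Agent.LibTorF

set_option autoImplicit false

/-! normalizers of Sylow 2-subgroups of SL_2(q), q odd (helper1) -/

namespace CfsgLib.Tor

open Finset Matrix CfsgLib.G2B CfsgLib.G2C

section

variable {F : Type*} [Field F]

theorem sq_one_sc (h2 : (2 : F) ≠ 0) {t : SpecialLinearGroup (Fin 2) F} (htt : t * t = 1) : t = 1 ∨ t = -1 := by
  have h3 : (t : Matrix (Fin 2) (Fin 2) F) * t = 1 := congrArg (slMat F) htt
  set A := (t : Matrix (Fin 2) (Fin 2) F) with hA
  have hd : A 0 0 * A 1 1 - A 0 1 * A 1 0 = 1 := by rw [← Matrix.det_fin_two]; exact t.2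
  have e00 := congrFun (congrFun h3 0) 0
  have e01 := congrFun (congrFun h3 0) 1
  have e10 := congrFun (congrFun h3 1) 0
  have e11 := congrFun (congrFun h3 1) 1
  simp [Matrix.mul_apply, Fin.sum_univ_two] at e00 e01 e10 e11
  have htr : A 0 0 + A 1 1 ≠ 0 := by
    intro h0
    apply h2
    linear_combination -e00 - hd + A 0 0 * h0
  have f01 : A 0 1 = 0 := by
    have : A 0 1 * (A 0 0 + A 1 1) = 0 := by linear_combination e01
    exact (mul_eq_zero.mp this).resolve_right htr
  have f10 : A 1 0 = 0 := by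
    have : A 1 0 * (A 0 0 + A 1 1) = 0 := by linear_combination e10
    exact (mul_eq_zero.mp this).resolve_right htr
  have f00 : A 0 0 = A 1 1 := by
    have : (A 0 0 - A 1 1) * (A 0 0 + A 1 1) = 0 := by linear_combination e00 - e11
    exact sub_eq_zero.mp ((mul_eq_zero.mp this).resolve_right htr)
  rcases sc_cases (g := t) ⟨f01, f10, f00⟩ with h | h
  · left; exact Subtype.ext h
  · right; exact Subtype.ext h

theorem neg_one_ne (h2 : (2 : F) ≠ 0) : (-1 : SpecialLinearGroup (Fin 2) F) ≠ 1 := by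
  intro h3
  have h4 := congrFun (congrFun (congrArg (slMat F) h3) 0) 0
  have h5 : (-1 : F) = 1 := h4
  apply h2
  linear_combination -h5

theorem neg_one_central (g : SpecialLinearGroup (Fin 2) F) : g * (-1) = (-1) * g := by
  rw [mul_neg, neg_mul, one_mul, mul_one]

theorem sc_of (h : SpecialLinearGroup (Fin 2) F) (hh : IsSc (h : Matrix (Fin 2) (Fin 2) F)) : h = 1 ∨ h = -1 := by
  rcases sc_cases hh with h | h
  · left; exact Subtype.ext h
  · right; exact Subtype.ext h

theorem center_mem (h2 : (2 : F) ≠ 0) (g : SpecialLinearGroup (Fin 2) F) :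
    (g = 1 ∨ g = -1) → g ∈ Subgroup.center (SpecialLinearGroup (Fin 2) F) := by
  rintro (rfl | rfl)
  · exact Subgroup.one_mem _
  · rw [Subgroup.mem_center_iff]
    exact neg_one_central

/-- the basic facts on a Sylow 2-subgroup and its torus -/
theorem two_facts [Fintype F] (h2 : (2 : F) ≠ 0) (S : Sylow 2 (SpecialLinearGroup (Fin 2) F)) {T : Subgroup (SpecialLinearGroup (Fin 2) F)} {m' : ℕ}
    (hT : TD T) (h4 : 4 ∣ Nat.card T) (hG : Nat.card (SpecialLinearGroup (Fin 2) F) = 2 * Nat.card T * m') (hm' : Odd m')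
    (hS : (S : Subgroup (SpecialLinearGroup (Fin 2) F)) ≤ Subgroup.normalizer (T : Set (SpecialLinearGroup (Fin 2) F))) :
    (∃ w ∈ (S : Subgroup (SpecialLinearGroup (Fin 2) F)), w ∉ T) ∧
    (∀ a ∈ Subgroup.normalizer (T : Set (SpecialLinearGroup (Fin 2) F)), ∀ b ∈ Subgroup.normalizer (T : Set (SpecialLinearGroup (Fin 2) F)), a ∉ T → b ∉ T → a * b ∈ T) ∧
    Nat.card ((S : Subgroup (SpecialLinearGroup (Fin 2) F)) ⊓ T : Subgroup (SpecialLinearGroup (Fin 2) F)) = 2 ^ (Nat.card T).factorization 2 ∧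
    Nat.card S = 2 * 2 ^ (Nat.card T).factorization 2 ∧
    (∀ t ∈ T, (∃ k : ℕ, t ^ (2 ^ k) = 1) → t ∈ (S : Subgroup (SpecialLinearGroup (Fin 2) F))) := by
  classical
  have hT0 : Nat.card T ≠ 0 := Nat.card_pos.ne'
  have hm0 : m' ≠ 0 := by rintro rfl; exact absurd hm' (by decide)
  have hScard : Nat.card S = 2 * 2 ^ (Nat.card T).factorization 2 := by
    rw [S.card_eq_multiplicity, hG, Nat.factorization_mul (by omega) hm0, Finsupp.add_apply,
      Nat.factorization_eq_zero_of_not_dvd (show ¬ 2 ∣ m' from fun h => (Nat.not_even_iff_odd.mpr hm') (even_iff_two_dvd.mpr h)), add_zero,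
      Nat.factorization_mul two_ne_zero hT0, Finsupp.add_apply, Nat.Prime.factorization_self Nat.prime_two, pow_add, pow_one]
  set N := Subgroup.normalizer (T : Set (SpecialLinearGroup (Fin 2) F)) with hN
  have hTN : T ≤ N := Subgroup.le_normalizer
  have hidx : (T.subgroupOf N).index = 2 := by
    have h1 := Subgroup.card_mul_index (T.subgroupOf N)
    have h3 : Nat.card (T.subgroupOf N) = Nat.card T := Nat.card_congr (Subgroup.subgroupOfEquivOfLe hTN).toEquiv
    rw [h3, hT.cardN] at h1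
    have : Nat.card T * (T.subgroupOf N).index = Nat.card T * 2 := by rw [h1]; ring
    exact Nat.eq_of_mul_eq_mul_left (Nat.pos_of_ne_zero hT0) this
  have hprod : ∀ a ∈ N, ∀ b ∈ N, a ∉ T → b ∉ T → a * b ∈ T := by
    intro a ha b hb haT hbT
    have := (Subgroup.mul_mem_iff_of_index_two hidx (a := ⟨a, ha⟩) (b := ⟨b, hb⟩)).mpr
      ⟨fun h => absurd h haT, fun h => absurd h hbT⟩
    exact this
  have hw : ∃ w ∈ (S : Subgroup (SpecialLinearGroup (Fin 2) F)), w ∉ T := by
    by_contra hc
    push Not at hc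
    have h1 : Nat.card S ∣ Nat.card T := Subgroup.card_dvd_of_le hc
    rw [hScard] at h1
    have h3 : 2 ^ ((Nat.card T).factorization 2 + 1) ∣ Nat.card T := by rw [pow_succ']; exact h1
    exact Nat.pow_succ_factorization_not_dvd hT0 Nat.prime_two h3
  obtain ⟨w, hwS, hwT⟩ := hw
  set A : Subgroup (SpecialLinearGroup (Fin 2) F) := (S : Subgroup (SpecialLinearGroup (Fin 2) F)) ⊓ T with hA
  have hAidx : (A.subgroupOf S).index = 2 := by
    rw [Subgroup.index_eq_two_iff]
    refine ⟨⟨w, hwS⟩, fun b => ?_⟩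
    rw [Subgroup.mem_subgroupOf, Subgroup.mem_subgroupOf]
    by_cases hb : (b : SpecialLinearGroup (Fin 2) F) ∈ T
    · refine Or.inr ⟨Subgroup.mem_inf.mpr ⟨b.2, hb⟩, fun hc => hwT ?_⟩
      exact (T.mul_mem_cancel_left hb).mp (Subgroup.mem_inf.mp hc).2
    · refine Or.inl ⟨Subgroup.mem_inf.mpr ⟨Subgroup.mul_mem _ b.2 hwS, ?_⟩, fun h => hb (Subgroup.mem_inf.mp h).2⟩
      exact hprod _ (hS b.2) _ (hS hwS) hb hwT
  have hAcard : Nat.card A = 2 ^ (Nat.card T).factorization 2 := by
    have h1 := Subgroup.card_mul_index (A.subgroupOf S)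
    have h3 : Nat.card (A.subgroupOf S) = Nat.card A := Nat.card_congr (Subgroup.subgroupOfEquivOfLe inf_le_left).toEquiv
    rw [h3, hAidx, hScard] at h1
    omega
  refine ⟨⟨w, hwS, hwT⟩, hprod, hAcard, hScard, ?_⟩
  rintro t ht ⟨k, hk⟩
  -- Sylow subgroup of T
  have h3 : Nat.card (A.subgroupOf T) = Nat.card A := Nat.card_congr (Subgroup.subgroupOfEquivOfLe inf_le_right).toEquiv
  let Q : Sylow 2 T := Sylow.ofCard (A.subgroupOf T) (by rw [h3, hAcard])
  have hp : IsPGroup 2 (Subgroup.zpowers (⟨t, ht⟩ : T)) := by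
    rintro ⟨x, hx⟩
    obtain ⟨l, rfl⟩ := Subgroup.mem_zpowers_iff.mp hx
    refine ⟨k, ?_⟩
    apply Subtype.ext
    apply Subtype.ext
    show (t ^ l) ^ (2 ^ k) = 1
    rw [← zpow_natCast, zpow_comm, zpow_natCast, hk, _root_.one_zpow]
  obtain ⟨R, hR⟩ := hp.exists_le_sylow
  obtain ⟨c, hc⟩ := MulAction.exists_smul_eq T R Q
  have htR : (⟨t, ht⟩ : T) ∈ (R : Subgroup T) := hR (Subgroup.mem_zpowers _)
  have htQ : c * (⟨t, ht⟩ : T) * c⁻¹ ∈ (Q : Subgroup T) := by
    rw [← hc]
    exact ⟨_, htR, rfl⟩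
  have e : c * (⟨t, ht⟩ : T) * c⁻¹ = ⟨t, ht⟩ := by
    have : c * (⟨t, ht⟩ : T) = ⟨t, ht⟩ * c := Subtype.ext (hT.comm _ c.2 _ ht)
    rw [this, mul_inv_cancel_right]
  rw [e] at htQ
  exact (Subgroup.mem_inf.mp (Subgroup.mem_subgroupOf.mp htQ)).1

theorem sylow_two_cent [Fintype F] (hodd : Odd (Fintype.card F)) (S : Sylow 2 (SpecialLinearGroup (Fin 2) F)) :
    (∀ x : SpecialLinearGroup (Fin 2) F, x ∈ Subgroup.centralizer ((S : Subgroup (SpecialLinearGroup (Fin 2) F)) : Set (SpecialLinearGroup (Fin 2) F)) → x = 1 ∨ x = -1) := by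
  have h2 := two_ne_of_odd hodd
  obtain ⟨T, m', hT, h4, -, hG, hm', hS⟩ := sylow_two_torus hodd S
  obtain ⟨⟨w, hwS, hwT⟩, hprod, hA, hSc, hmem⟩ := two_facts h2 S hT h4 hG hm' hS
  have hT0 : Nat.card T ≠ 0 := Nat.card_pos.ne'
  have hf : 2 ≤ (Nat.card T).factorization 2 := by
    rw [← Nat.Prime.pow_dvd_iff_le_factorization Nat.prime_two hT0]; exact h4
  have h3 : 2 < Nat.card ((S : Subgroup (SpecialLinearGroup (Fin 2) F)) ⊓ T : Subgroup (SpecialLinearGroup (Fin 2) F)) := by
    rw [hA]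
    calc 2 < 2 ^ 2 := by norm_num
      _ ≤ _ := Nat.pow_le_pow_right (by norm_num) hf
  obtain ⟨t₀, ht₀, hns⟩ := exists_nonsc h3
  intro x hx
  have hxT : x ∈ T := by
    rw [← hT.cent t₀ (Subgroup.mem_inf.mp ht₀).2 hns, Subgroup.mem_centralizer_singleton_iff]
    exact (hx t₀ (Subgroup.mem_inf.mp ht₀).1).symm
  apply sq_one_sc h2
  have h5 := hT.inv w (hS hwS) hwT x hxT
  have h6 : w * x = x * w := hx w hwS
  rw [h6, mul_inv_cancel_right] at h5
  nth_rewrite 2 [h5]
  exact mul_inv_cancel x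

/-- large case -/
theorem norm_large [Fintype F] (hodd : Odd (Fintype.card F)) (S : Sylow 2 (SpecialLinearGroup (Fin 2) F))
    (hq : Fintype.card F % 8 = 1 ∨ Fintype.card F % 8 = 7) :
    Subgroup.normalizer ((S : Subgroup (SpecialLinearGroup (Fin 2) F)) : Set (SpecialLinearGroup (Fin 2) F)) = S := by
  classical
  have h2 := two_ne_of_odd hodd
  obtain ⟨T, m', hT, h4, hTc, hG, hm', hS⟩ := sylow_two_torus hodd S
  obtain ⟨⟨w, hwS, hwT⟩, hprod, hA, hSc, hmem⟩ := two_facts h2 S hT h4 hG hm' hS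
  have hT0 : Nat.card T ≠ 0 := Nat.card_pos.ne'
  have h8 : 8 ∣ Nat.card T := by
    have hq2 : 2 ≤ Fintype.card F := Fintype.one_lt_card
    rcases hTc with h | h <;> omega
  have hf : 3 ≤ (Nat.card T).factorization 2 := by
    rw [← Nat.Prime.pow_dvd_iff_le_factorization Nat.prime_two hT0]; exact h8
  -- an element of order at least 8
  haveI : IsCyclic T := hT.cyc
  haveI : IsCyclic ((S : Subgroup (SpecialLinearGroup (Fin 2) F)) ⊓ T : Subgroup (SpecialLinearGroup (Fin 2) F)) :=
    isCyclic_of_injective (Subgroup.inclusion (inf_le_right : (S : Subgroup (SpecialLinearGroup (Fin 2) F)) ⊓ T ≤ T))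
      (Subgroup.inclusion_injective _)
  obtain ⟨a, ha⟩ := IsCyclic.exists_ofOrder_eq_natCard (α := ((S : Subgroup (SpecialLinearGroup (Fin 2) F)) ⊓ T : Subgroup (SpecialLinearGroup (Fin 2) F)))
  have haT : (a : SpecialLinearGroup (Fin 2) F) ∈ T := (Subgroup.mem_inf.mp a.2).2
  have haS : (a : SpecialLinearGroup (Fin 2) F) ∈ (S : Subgroup (SpecialLinearGroup (Fin 2) F)) := (Subgroup.mem_inf.mp a.2).1
  have ho : 8 ≤ orderOf (a : SpecialLinearGroup (Fin 2) F) := by
    rw [Subgroup.orderOf_coe, ha, hA]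
    calc 8 = 2 ^ 3 := by norm_num
      _ ≤ _ := Nat.pow_le_pow_right (by norm_num) hf
  have ha4 : (a : SpecialLinearGroup (Fin 2) F) * a ≠ -1 := by
    intro h
    have h5 : (a : SpecialLinearGroup (Fin 2) F) ^ 4 = 1 := by
      have : (a : SpecialLinearGroup (Fin 2) F) ^ 4 = (a * a) * (a * a) := by
        simp only [pow_succ, pow_zero, one_mul, mul_assoc]
      rw [this, h, neg_mul_neg, one_mul]
    have := orderOf_le_of_pow_eq_one (by norm_num) h5
    omega
  have hns : ¬ IsSc ((a : SpecialLinearGroup (Fin 2) F) : Matrix (Fin 2) (Fin 2) F) := by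
    intro h
    have h5 : (a : SpecialLinearGroup (Fin 2) F) ^ 2 = 1 := by
      rcases sc_of _ h with h' | h' <;> rw [h', sq]
      · rw [one_mul]
      · rw [neg_mul_neg, one_mul]
    have := orderOf_le_of_pow_eq_one (by norm_num) h5
    omega
  have hnorm : ∀ g ∈ Subgroup.normalizer ((S : Subgroup (SpecialLinearGroup (Fin 2) F)) : Set (SpecialLinearGroup (Fin 2) F)), ∀ x ∈ T, g * x * g⁻¹ ∈ T := by
    intro g hg x hx
    have h1 : g * a * g⁻¹ ∈ (S : Subgroup (SpecialLinearGroup (Fin 2) F)) := (Subgroup.mem_normalizer_iff.mp hg _).mp haS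
    have h3 : g * a * g⁻¹ ∈ T := by
      by_contra hc
      have h5 := hT.sq _ (hS h1) hc
      apply ha4
      have h6 : g * (a * a) * g⁻¹ = -1 := by
        rw [← h5]; group
      have h7 : (a : SpecialLinearGroup (Fin 2) F) * a = g⁻¹ * (-1) * g := by rw [← h6]; group
      rw [h7, neg_one_central, mul_assoc, inv_mul_cancel, mul_one]
    have hns' : ¬ IsSc ((g * a * g⁻¹ : SpecialLinearGroup (Fin 2) F) : Matrix (Fin 2) (Fin 2) F) := by
      intro h
      have h5 : g * a * g⁻¹ = a := by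
        have : (a : SpecialLinearGroup (Fin 2) F) = g⁻¹ * (g * a * g⁻¹) * g := by group
        rcases sc_of _ h with h' | h'
        · rw [h', mul_one, inv_mul_cancel] at this
          rw [this]; group
        · rw [h', neg_one_central, mul_assoc, inv_mul_cancel, mul_one] at this
          rw [this, neg_one_central, mul_assoc, mul_inv_cancel, mul_one]
      rw [h5] at h
      exact hns h
    rw [← hT.cent _ h3 hns', Subgroup.mem_centralizer_singleton_iff]
    have h5 := hT.comm x hx a haT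
    calc g * x * g⁻¹ * (g * a * g⁻¹) = g * (x * a) * g⁻¹ := by group
      _ = _ := by rw [h5]; group
  apply le_antisymm _ Subgroup.le_normalizer
  have hkey : ∀ g ∈ Subgroup.normalizer ((S : Subgroup (SpecialLinearGroup (Fin 2) F)) : Set (SpecialLinearGroup (Fin 2) F)), g ∈ T →
      g ∈ (S : Subgroup (SpecialLinearGroup (Fin 2) F)) := by
    intro g hg hgT
    have h1 : g * w * g⁻¹ ∈ (S : Subgroup (SpecialLinearGroup (Fin 2) F)) := (Subgroup.mem_normalizer_iff.mp hg _).mp hwS
    have h3 := hT.inv w (hS hwS) hwT g⁻¹ (Subgroup.inv_mem _ hgT)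
    rw [inv_inv] at h3
    have h5 : g * w * g⁻¹ * w⁻¹ = g * g := by
      calc g * w * g⁻¹ * w⁻¹ = g * (w * g⁻¹ * w⁻¹) := by group
        _ = g * g := by rw [h3]
    have h6 : g * g ∈ (S : Subgroup (SpecialLinearGroup (Fin 2) F)) := by
      rw [← h5]
      exact Subgroup.mul_mem _ h1 (Subgroup.inv_mem _ hwS)
    apply hmem g hgT
    obtain ⟨k, hk⟩ := S.2 ⟨g * g, h6⟩
    refine ⟨k + 1, ?_⟩
    have := congrArg Subtype.val hk
    have h7 : (g * g) ^ (2 ^ k) = 1 := this
    rw [pow_succ', pow_mul, sq]; exact h7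
  intro g hg
  have hgN : g ∈ Subgroup.normalizer (T : Set (SpecialLinearGroup (Fin 2) F)) := by
    rw [Subgroup.mem_normalizer_iff]
    intro x
    refine ⟨hnorm g hg x, fun hx => ?_⟩
    have := hnorm g⁻¹ (Subgroup.inv_mem _ hg) _ hx
    have e : g⁻¹ * (g * x * g⁻¹) * g⁻¹⁻¹ = x := by group
    rwa [e] at this
  by_cases hgT : g ∈ T
  · exact hkey g hg hgT
  · have h1 : g * w ∈ T := hprod _ hgN _ (hS hwS) hgT hwT
    have h3 := hkey (g * w) (Subgroup.mul_mem _ hg (Subgroup.le_normalizer hwS)) h1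
    exact ((S : Subgroup (SpecialLinearGroup (Fin 2) F)).mul_mem_cancel_right hwS).mp h3

/-- small case -/
theorem norm_small [Fintype F] (hodd : Odd (Fintype.card F)) (S : Sylow 2 (SpecialLinearGroup (Fin 2) F))
    (hq : Fintype.card F % 8 = 3 ∨ Fintype.card F % 8 = 5) :
    Nat.card (Subgroup.normalizer ((S : Subgroup (SpecialLinearGroup (Fin 2) F)) : Set (SpecialLinearGroup (Fin 2) F))) = 3 * Nat.card S ∧
    Nat.card S = 8 := by
  classical
  have h2 := two_ne_of_odd hodd
  obtain ⟨T, m', hT, h4, hTc, hG, hm', hS⟩ := sylow_two_torus hodd S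
  obtain ⟨⟨w, hwS, hwT⟩, hprod, hA, hSc, hmem⟩ := two_facts h2 S hT h4 hG hm' hS
  have hcent := sylow_two_cent hodd S
  have hT0 : Nat.card T ≠ 0 := Nat.card_pos.ne'
  have hf : (Nat.card T).factorization 2 = 2 := by
    have h1 : 2 ≤ (Nat.card T).factorization 2 := by
      rw [← Nat.Prime.pow_dvd_iff_le_factorization Nat.prime_two hT0]; exact h4
    have h3 : ¬ 3 ≤ (Nat.card T).factorization 2 := by
      rw [← Nat.Prime.pow_dvd_iff_le_factorization Nat.prime_two hT0]
      have hq2 : 2 ≤ Fintype.card F := Fintype.one_lt_card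
      rcases hTc with h | h <;> omega
    omega
  rw [hf] at hA hSc
  have hS8 : Nat.card S = 8 := by rw [hSc]; norm_num
  refine ⟨?_, hS8⟩
  haveI : IsCyclic T := hT.cyc
  haveI : IsCyclic ((S : Subgroup (SpecialLinearGroup (Fin 2) F)) ⊓ T : Subgroup (SpecialLinearGroup (Fin 2) F)) :=
    isCyclic_of_injective (Subgroup.inclusion (inf_le_right : (S : Subgroup (SpecialLinearGroup (Fin 2) F)) ⊓ T ≤ T))
      (Subgroup.inclusion_injective _)
  obtain ⟨a', ha'⟩ := IsCyclic.exists_generator (α := ((S : Subgroup (SpecialLinearGroup (Fin 2) F)) ⊓ T : Subgroup (SpecialLinearGroup (Fin 2) F)))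
  obtain ⟨a, haA⟩ := a'
  have haT : a ∈ T := (Subgroup.mem_inf.mp haA).2
  have haS : a ∈ (S : Subgroup (SpecialLinearGroup (Fin 2) F)) := (Subgroup.mem_inf.mp haA).1
  have hgen : ∀ x ∈ (S : Subgroup (SpecialLinearGroup (Fin 2) F)), x ∈ T → ∃ k : ℤ, x = a ^ k := by
    intro x hx hxT
    obtain ⟨k, hk⟩ := Subgroup.mem_zpowers_iff.mp (ha' ⟨x, Subgroup.mem_inf.mpr ⟨hx, hxT⟩⟩)
    exact ⟨k, (congrArg Subtype.val hk).symm⟩
  have hoa : orderOf a = 4 := by
    have h1 : orderOf (⟨a, haA⟩ : ((S : Subgroup (SpecialLinearGroup (Fin 2) F)) ⊓ T : Subgroup (SpecialLinearGroup (Fin 2) F))) = 4 := by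
      rw [orderOf_eq_card_of_forall_mem_zpowers ha', hA]; norm_num
    rw [← h1, ← Subgroup.orderOf_coe]
  have haa : a * a = -1 := by
    have h1 : (a * a) * (a * a) = 1 := by
      have : a * a * (a * a) = a ^ 4 := by
        simp only [pow_succ, pow_zero, one_mul, mul_assoc]
      rw [this, ← hoa, pow_orderOf_eq_one]
    rcases sq_one_sc h2 h1 with h | h
    · exfalso
      have : orderOf a ≤ 2 := orderOf_le_of_pow_eq_one (by norm_num) (by rw [sq]; exact h)
      omega
    · exact h
  have hww : w * w = -1 := hT.sq w (hS hwS) hwT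
  have hainv : a⁻¹ = -1 * a := by
    rw [inv_eq_iff_mul_eq_one, ← mul_assoc, neg_one_central, mul_assoc, haa, neg_mul_neg, one_mul]
  have hwa : w * a = -1 * (a * w) := by
    have h1 := hT.inv w (hS hwS) hwT a haT
    rw [hainv, mul_inv_eq_iff_eq_mul] at h1
    rw [h1, mul_assoc]
  -- the element of order 3
  set A := (a : Matrix (Fin 2) (Fin 2) F) with hAm
  set W := (w : Matrix (Fin 2) (Fin 2) F) with hWm
  have mAA : A * A = -1 := congrArg (slMat F) haa
  have mWW : W * W = -1 := congrArg (slMat F) hww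
  have mWA : W * A = -(A * W) := by
    have := congrArg (slMat F) hwa
    have h1 : W * A = (-1 : Matrix (Fin 2) (Fin 2) F) * (A * W) := this
    rw [h1, neg_one_mul]
  have trz : ∀ B : SpecialLinearGroup (Fin 2) F, (B : Matrix (Fin 2) (Fin 2) F) * B = -1 →
      (B : Matrix (Fin 2) (Fin 2) F) 1 1 = - (B : Matrix (Fin 2) (Fin 2) F) 0 0 := by
    intro B hB
    have hd : (B : Matrix (Fin 2) (Fin 2) F) 0 0 * (B : Matrix (Fin 2) (Fin 2) F) 1 1 - (B : Matrix (Fin 2) (Fin 2) F) 0 1 * (B : Matrix (Fin 2) (Fin 2) F) 1 0 = 1 := by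
      rw [← Matrix.det_fin_two]; exact B.2
    have e00 := congrFun (congrFun hB 0) 0
    have e01 := congrFun (congrFun hB 0) 1
    have e10 := congrFun (congrFun hB 1) 0
    have e11 := congrFun (congrFun hB 1) 1
    simp [Matrix.mul_apply, Fin.sum_univ_two] at e00 e01 e10 e11
    by_contra hne
    have hne' : (B : Matrix (Fin 2) (Fin 2) F) 0 0 + (B : Matrix (Fin 2) (Fin 2) F) 1 1 ≠ 0 := fun h => hne (by linear_combination h)
    have f01 : (B : Matrix (Fin 2) (Fin 2) F) 0 1 = 0 := by
      have : (B : Matrix (Fin 2) (Fin 2) F) 0 1 * ((B : Matrix (Fin 2) (Fin 2) F) 0 0 + (B : Matrix (Fin 2) (Fin 2) F) 1 1) = 0 := by linear_combination e01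
      exact (mul_eq_zero.mp this).resolve_right hne'
    rw [f01] at e00 hd
    apply hne'
    have h5 : (B : Matrix (Fin 2) (Fin 2) F) 0 0 ≠ 0 := by
      intro h0
      rw [h0] at hd
      simp at hd
    have : (B : Matrix (Fin 2) (Fin 2) F) 0 0 * ((B : Matrix (Fin 2) (Fin 2) F) 0 0 + (B : Matrix (Fin 2) (Fin 2) F) 1 1) = 0 := by
      linear_combination e00 + hd
    exact (mul_eq_zero.mp this).resolve_left h5
  have tA := trz a mAA
  have tW := trz w mWW
  have dA : A 0 0 * A 1 1 - A 0 1 * A 1 0 = 1 := by rw [← Matrix.det_fin_two]; exact a.2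
  have dW : W 0 0 * W 1 1 - W 0 1 * W 1 0 = 1 := by rw [← Matrix.det_fin_two]; exact w.2
  rw [← hAm] at tA
  rw [← hWm] at tW
  have det1 : ∀ B : Matrix (Fin 2) (Fin 2) F, B 1 1 = - B 0 0 → B 0 0 * B 1 1 - B 0 1 * B 1 0 = 1 → (1 + B).det = 2 := by
    intro B tB dB
    rw [Matrix.det_fin_two]
    simp [tB]
    rw [tB] at dB
    linear_combination dB
  have hud : ((-(1 / 2 : F)) • ((1 + A) * (1 + W))).det = 1 := by
    rw [Matrix.det_smul, Matrix.det_mul, det1 A tA dA, det1 W tW dW, Fintype.card_fin]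
    field_simp
  set u : SpecialLinearGroup (Fin 2) F := mkSL _ hud with hu
  have hua : u * a = w * u := by
    apply Subtype.ext
    show ((-(1 / 2 : F)) • ((1 + A) * (1 + W))) * A = W * ((-(1 / 2 : F)) • ((1 + A) * (1 + W)))
    rw [Matrix.smul_mul, Matrix.mul_smul]
    congr 1
    have e1 : (1 + A) * (1 + W) * A = A + W * A + A * A + A * (W * A) := by noncomm_ring
    have e2 : W * ((1 + A) * (1 + W)) = W + W * W + W * A + (W * A) * W := by noncomm_ring
    rw [e1, e2, mWA, mAA, mWW]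
    have e3 : A * -(A * W) = W := by
      rw [mul_neg, ← mul_assoc, mAA, neg_mul, one_mul, neg_neg]
    have e4 : -(A * W) * W = A := by
      rw [neg_mul, mul_assoc, mWW, mul_neg, mul_one, neg_neg]
    rw [e3, e4]
    abel
  have huw : u * w = a * w * u := by
    apply Subtype.ext
    show ((-(1 / 2 : F)) • ((1 + A) * (1 + W))) * W = A * W * ((-(1 / 2 : F)) • ((1 + A) * (1 + W)))
    rw [Matrix.smul_mul, Matrix.mul_smul]
    congr 1
    have e1 : (1 + A) * (1 + W) * W = W + W * W + A * W + A * (W * W) := by noncomm_ring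
    have e2 : A * W * ((1 + A) * (1 + W)) = A * W + A * (W * W) + A * (W * A) + (A * (W * A)) * W := by noncomm_ring
    rw [e1, e2, mWW, mWA]
    have e3 : A * -(A * W) = W := by
      rw [mul_neg, ← mul_assoc, mAA, neg_mul, one_mul, neg_neg]
    rw [e3, mWW]
    abel
  have huN : u ∈ Subgroup.normalizer ((S : Subgroup (SpecialLinearGroup (Fin 2) F)) : Set (SpecialLinearGroup (Fin 2) F)) := by
    have hle : (S : Subgroup (SpecialLinearGroup (Fin 2) F)).map (MulAut.conj u).toMonoidHom ≤ S := by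
      rintro _ ⟨x, hx, rfl⟩
      show u * x * u⁻¹ ∈ (S : Subgroup (SpecialLinearGroup (Fin 2) F))
      have hpa : ∀ k : ℤ, u * a ^ k * u⁻¹ = w ^ k := by
        intro k
        have h1 : u * a * u⁻¹ = w := by rw [hua, mul_inv_cancel_right]
        rw [← h1, conj_zpow]
      by_cases hxT : x ∈ T
      · obtain ⟨k, rfl⟩ := hgen x hx hxT
        rw [hpa]
        exact Subgroup.zpow_mem _ hwS k
      · have h1 : x * w⁻¹ ∈ T := hprod _ (hS hx) _ (Subgroup.inv_mem _ (hS hwS)) hxT (fun h => hwT (T.inv_mem_iff.mp h))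
        obtain ⟨k, hk⟩ := hgen (x * w⁻¹) (Subgroup.mul_mem _ hx (Subgroup.inv_mem _ hwS)) h1
        have h3 : x = a ^ k * w := by rw [← hk]; group
        have h5 : u * w * u⁻¹ = a * w := by rw [huw, mul_inv_cancel_right]
        have h6 : u * x * u⁻¹ = w ^ k * (a * w) := by
          rw [h3, ← hpa, ← h5]; group
        rw [h6]
        exact Subgroup.mul_mem _ (Subgroup.zpow_mem _ hwS k) (Subgroup.mul_mem _ haS hwS)
    have heq : (S : Subgroup (SpecialLinearGroup (Fin 2) F)).map (MulAut.conj u).toMonoidHom = S := by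
      apply Subgroup.eq_of_le_of_card_ge hle
      exact (Nat.card_congr (Subgroup.equivMapOfInjective (S : Subgroup (SpecialLinearGroup (Fin 2) F)) (MulAut.conj u).toMonoidHom (MulAut.conj u).injective).toEquiv).le
    rw [Subgroup.mem_normalizer_iff]
    intro x
    constructor
    · intro hx
      exact hle ⟨x, hx, rfl⟩
    · intro hx
      have hx' : u * x * u⁻¹ ∈ (S : Subgroup (SpecialLinearGroup (Fin 2) F)).map (MulAut.conj u).toMonoidHom := by
        rw [heq]; exact hx
      obtain ⟨y, hy, he⟩ := hx'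
      have he' : u * y * u⁻¹ = u * x * u⁻¹ := he
      have : y = x := mul_left_cancel (mul_right_cancel he')
      rw [← this]; exact hy
  have hu3 : u ^ 3 = 1 := by
    have hut : (u : Matrix (Fin 2) (Fin 2) F) 0 0 + (u : Matrix (Fin 2) (Fin 2) F) 1 1 = -1 := by
      have hAW : (A * W) 0 0 + (A * W) 1 1 = 0 := by
        have h1 := trz (a * w) (by
          show (A * W) * (A * W) = -1
          have : (A * W) * (A * W) = A * (W * A) * W := by noncomm_ring
          rw [this, mWA, mul_neg, ← mul_assoc, mAA]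
          simp only [neg_mul, one_mul, neg_neg]
          exact mWW)
        have h3 : (A * W) 1 1 = - (A * W) 0 0 := h1
        rw [h3, add_neg_cancel]
      have e1 : (u : Matrix (Fin 2) (Fin 2) F) = (-(1 / 2 : F)) • (1 + A + W + A * W) := by
        show (-(1 / 2 : F)) • ((1 + A) * (1 + W)) = _
        congr 1
        noncomm_ring
      rw [e1]
      simp only [Matrix.smul_apply, Matrix.add_apply, smul_eq_mul, Matrix.one_apply_eq]
      rw [tA, tW]
      field_simp
      linear_combination -hAW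
    have hud' : (u : Matrix (Fin 2) (Fin 2) F) 0 0 * (u : Matrix (Fin 2) (Fin 2) F) 1 1 - (u : Matrix (Fin 2) (Fin 2) F) 0 1 * (u : Matrix (Fin 2) (Fin 2) F) 1 0 = 1 := by
      rw [← Matrix.det_fin_two]; exact u.2
    set U := (u : Matrix (Fin 2) (Fin 2) F) with hU
    have h11 : U 1 1 = -1 - U 0 0 := by linear_combination hut
    rw [h11] at hud'
    have hUU : U * U = -1 - U := by
      apply ext2
      · simp [Matrix.mul_apply, Fin.sum_univ_two]; linear_combination -hud'
      · simp [Matrix.mul_apply, Fin.sum_univ_two, h11]; ring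
      · simp [Matrix.mul_apply, Fin.sum_univ_two, h11]; ring
      · simp [Matrix.mul_apply, Fin.sum_univ_two, h11]; linear_combination -hud'
    apply Subtype.ext
    show ((u ^ 3 : SpecialLinearGroup (Fin 2) F) : Matrix (Fin 2) (Fin 2) F) = 1
    have : (u ^ 3 : SpecialLinearGroup (Fin 2) F) = u * (u * u) := by
      simp only [pow_succ, pow_zero, one_mul, mul_assoc]
    rw [this]
    show U * (U * U) = 1
    rw [hUU, mul_sub, hUU]
    noncomm_ring
  have hu1 : u ≠ 1 := by
    intro h
    rw [h, one_mul, mul_one] at hua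
    exact hwT (hua ▸ haT)
  have hou : orderOf u = 3 := orderOf_eq_prime hu3 hu1
  set NN := Subgroup.normalizer ((S : Subgroup (SpecialLinearGroup (Fin 2) F)) : Set (SpecialLinearGroup (Fin 2) F)) with hNN
  have h3dvd : 3 ∣ Nat.card NN := by
    rw [← hou, ← Subgroup.orderOf_mk u huN]
    exact orderOf_dvd_natCard _
  -- divisibility
  have hSN : (S : Subgroup (SpecialLinearGroup (Fin 2) F)) ≤ NN := Subgroup.le_normalizer
  obtain ⟨k, hk⟩ : Nat.card S ∣ Nat.card NN := Subgroup.card_dvd_of_le hSN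
  have hkodd : ¬ 2 ∣ k := by
    intro h
    obtain ⟨l, hl⟩ := h
    have h1 : Nat.card NN ∣ Nat.card (SpecialLinearGroup (Fin 2) F) := Subgroup.card_subgroup_dvd_card NN
    have h3 : 2 ^ ((Nat.card (SpecialLinearGroup (Fin 2) F)).factorization 2 + 1) ∣ Nat.card (SpecialLinearGroup (Fin 2) F) := by
      refine Dvd.dvd.trans ?_ h1
      rw [hk, S.card_eq_multiplicity, hl, pow_succ]
      exact ⟨l, by ring⟩
    exact Nat.pow_succ_factorization_not_dvd Nat.card_pos.ne' Nat.prime_two h3
  -- upper bound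
  have hm1S : (-1 : SpecialLinearGroup (Fin 2) F) ∈ (S : Subgroup (SpecialLinearGroup (Fin 2) F)) := by
    rw [← haa]; exact Subgroup.mul_mem _ haS haS
  have hbound : Nat.card NN ≤ 60 := by
    haveI : Fintype NN := Fintype.ofFinite _
    let SF : Finset (SpecialLinearGroup (Fin 2) F) := univ.filter fun x => x ∈ (S : Subgroup (SpecialLinearGroup (Fin 2) F)) ∧ x ≠ 1 ∧ x ≠ -1
    have hSF : SF.card = 6 := by
      have h1 : (univ.filter fun x => x ∈ (S : Subgroup (SpecialLinearGroup (Fin 2) F))).card = 8 := by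
        rw [← hS8, Nat.card_eq_fintype_card, Fintype.card_subtype]
      have h3 : SF = ((univ.filter fun x => x ∈ (S : Subgroup (SpecialLinearGroup (Fin 2) F))).erase 1).erase (-1) := by
        ext x
        simp only [SF, mem_filter, mem_univ, true_and, mem_erase]
        tauto
      rw [h3, Finset.card_erase_of_mem, Finset.card_erase_of_mem, h1]
      · simp [Subgroup.one_mem]
      · simp only [mem_erase, mem_filter, mem_univ, true_and]
        exact ⟨neg_one_ne h2, hm1S⟩
    let f : NN → SpecialLinearGroup (Fin 2) F × SpecialLinearGroup (Fin 2) F := fun g => ((g : SpecialLinearGroup (Fin 2) F) * a * (g : SpecialLinearGroup (Fin 2) F)⁻¹,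
      (g : SpecialLinearGroup (Fin 2) F) * w * (g : SpecialLinearGroup (Fin 2) F)⁻¹)
    have hcentral : ∀ g x : SpecialLinearGroup (Fin 2) F, (g * x * g⁻¹ = 1 ∨ g * x * g⁻¹ = -1) → (x = 1 ∨ x = -1) := by
      intro g x h
      have : x = g⁻¹ * (g * x * g⁻¹) * g := by group
      rcases h with h | h
      · left; rw [this, h]; group
      · right; rw [this, h, neg_one_central, mul_assoc, inv_mul_cancel, mul_one]
    have hane : ¬ (a = 1 ∨ a = -1) := by
      rintro (h | h)
      · rw [h, one_mul] at haa; exact neg_one_ne h2 haa.symm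
      · rw [h, neg_mul_neg, one_mul] at haa; exact neg_one_ne h2 haa.symm
    have hwne : ¬ (w = 1 ∨ w = -1) := by
      rintro (h | h)
      · rw [h, one_mul] at hww; exact neg_one_ne h2 hww.symm
      · rw [h, neg_mul_neg, one_mul] at hww; exact neg_one_ne h2 hww.symm
    have himg : Finset.univ.image f ⊆ SF.offDiag := by
      intro p hp
      obtain ⟨g, _, rfl⟩ := Finset.mem_image.mp hp
      rw [Finset.mem_offDiag]
      refine ⟨?_, ?_, ?_⟩
      · rw [Finset.mem_filter]
        refine ⟨mem_univ _, (Subgroup.mem_normalizer_iff.mp g.2 _).mp haS, ?_, ?_⟩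
        · intro h; exact hane (hcentral _ _ (Or.inl h))
        · intro h; exact hane (hcentral _ _ (Or.inr h))
      · rw [Finset.mem_filter]
        refine ⟨mem_univ _, (Subgroup.mem_normalizer_iff.mp g.2 _).mp hwS, ?_, ?_⟩
        · intro h; exact hwne (hcentral _ _ (Or.inl h))
        · intro h; exact hwne (hcentral _ _ (Or.inr h))
      · intro h
        have : a = w := mul_left_cancel (mul_right_cancel h)
        exact hwT (this ▸ haT)
    have hfib : ∀ p ∈ Finset.univ.image f, (Finset.univ.filter fun g => f g = p).card ≤ 2 := by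
      intro p hp
      obtain ⟨g₀, _, rfl⟩ := Finset.mem_image.mp hp
      have hsub : (Finset.univ.filter fun g => f g = f g₀) ⊆ (Finset.univ.image fun b : Bool => if b then g₀ else g₀ * ⟨-1, hSN hm1S⟩) := by
        intro g hg
        rw [Finset.mem_filter] at hg
        have h1 : (g : SpecialLinearGroup (Fin 2) F) * a * (g : SpecialLinearGroup (Fin 2) F)⁻¹ = (g₀ : SpecialLinearGroup (Fin 2) F) * a * (g₀ : SpecialLinearGroup (Fin 2) F)⁻¹ := congrArg Prod.fst hg.2
        have h3 : (g : SpecialLinearGroup (Fin 2) F) * w * (g : SpecialLinearGroup (Fin 2) F)⁻¹ = (g₀ : SpecialLinearGroup (Fin 2) F) * w * (g₀ : SpecialLinearGroup (Fin 2) F)⁻¹ := congrArg Prod.snd hg.2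
        set c : SpecialLinearGroup (Fin 2) F := (g₀ : SpecialLinearGroup (Fin 2) F)⁻¹ * g with hc
        have hca : c * a = a * c := by
          calc c * a = (g₀ : SpecialLinearGroup (Fin 2) F)⁻¹ * (g * a * (g : SpecialLinearGroup (Fin 2) F)⁻¹) * g := by rw [hc]; group
            _ = a * c := by rw [h1, hc]; group
        have hcw : c * w = w * c := by
          calc c * w = (g₀ : SpecialLinearGroup (Fin 2) F)⁻¹ * (g * w * (g : SpecialLinearGroup (Fin 2) F)⁻¹) * g := by rw [hc]; group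
            _ = w * c := by rw [h3, hc]; group
        have hcS : c ∈ Subgroup.centralizer ((S : Subgroup (SpecialLinearGroup (Fin 2) F)) : Set (SpecialLinearGroup (Fin 2) F)) := by
          intro x hx
          have hca' : Commute c a := hca
          by_cases hxT : x ∈ T
          · obtain ⟨k, rfl⟩ := hgen x hx hxT
            exact (hca'.zpow_right k).symm
          · have h1 : x * w⁻¹ ∈ T := hprod _ (hS hx) _ (Subgroup.inv_mem _ (hS hwS)) hxT (fun h => hwT (T.inv_mem_iff.mp h))
            obtain ⟨k, hk⟩ := hgen (x * w⁻¹) (Subgroup.mul_mem _ hx (Subgroup.inv_mem _ hwS)) h1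
            have h3 : x = a ^ k * w := by rw [← hk]; group
            rw [h3]
            exact ((hca'.zpow_right k).mul_right hcw).symm
        rw [Finset.mem_image]
        rcases hcent c hcS with h5 | h5
        · refine ⟨true, mem_univ _, ?_⟩
          rw [if_pos rfl]
          apply Subtype.ext
          rw [hc, inv_mul_eq_one] at h5
          exact h5
        · refine ⟨false, mem_univ _, ?_⟩
          rw [if_neg (by decide)]
          apply Subtype.ext
          show (g₀ : SpecialLinearGroup (Fin 2) F) * (-1) = g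
          rw [← h5, hc]; group
      refine (Finset.card_le_card hsub).trans (Finset.card_image_le.trans ?_)
      simp
    have hcl := Finset.card_le_mul_card_image (f := f) (Finset.univ : Finset NN) 2 hfib
    have h5 := Finset.card_le_card himg
    rw [Finset.offDiag_card, hSF] at h5
    rw [Nat.card_eq_fintype_card, ← Finset.card_univ]
    omega
  rw [hS8] at hk
  have hk3 : 3 ∣ k := by
    rw [hk] at h3dvd
    exact (Nat.Coprime.dvd_mul_left (by norm_num)).mp h3dvd
  rw [hk, hS8]
  obtain ⟨l, rfl⟩ := hk3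
  have : l ≤ 2 := by omega
  interval_cases l
  · simp at hkodd
  · rfl
  · exfalso; exact hkodd ⟨3, rfl⟩

end

end CfsgLib.Tor
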