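import Cfsg.Agent.LibTorG
import Cfsg.Agent.LibSL23
import Cfsg.Agent.LibGlaub2

set_option autoImplicit false

/-! normalizers of Sylow 2-subgroups of SL_2(q), q odd (helper1) -/

namespace CfsgLib.Tor

open Finset Matrix CfsgLib.G2B CfsgLib.G2C

section

variable {F : Type*} [Field F]

theorem norm_small_rel [Fintype F] (hodd : Odd (Fintype.card F)) (S : Sylow 2 (SpecialLinearGroup (Fin 2) F))
    (hq : Fintype.card F % 8 = 3 ∨ Fintype.card F % 8 = 5) :
    ∃ i j g : Subgroup.normalizer ((S : Subgroup (SpecialLinearGroup (Fin 2) F)) : Set (SpecialLinearGroup (Fin 2) F)),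
      CfsgLib.SL23.Rel i j g ∧ i * i ≠ 1 := by
  classical
  have h2 := two_ne_of_odd hodd
  obtain ⟨T, m', hT, h4, hTc, hG, hm', hS⟩ := sylow_two_torus hodd S
  obtain ⟨⟨w, hwS, hwT⟩, hprod, hA, hSc, hmem⟩ := two_facts h2 S hT h4 hG hm' hS
  have hcent := sylow_two_cent hodd S
  have hT0 : Nat.card T ≠ 0 := Nat.card_pos.ne'
  have hf : (Nat.card T).factorization 2 = 2 := by
    have h1 : 2 ≤ (Nat.card T).factorization 2 := by
      rw [← Nat.Prime.pow_dvd_iff_le_factorization Nat.prime_two hT0]; exact h4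
    have h3 : ¬ 3 ≤ (Nat.card T).factorization 2 := by
      rw [← Nat.Prime.pow_dvd_iff_le_factorization Nat.prime_two hT0]
      have hq2 : 2 ≤ Fintype.card F := Fintype.one_lt_card
      rcases hTc with h | h <;> omega
    omega
  rw [hf] at hA hSc
  have hS8 : Nat.card S = 8 := by rw [hSc]; norm_num
  haveI : IsCyclic T := hT.cyc
  haveI : IsCyclic ((S : Subgroup (SpecialLinearGroup (Fin 2) F)) ⊓ T : Subgroup (SpecialLinearGroup (Fin 2) F)) :=
    isCyclic_of_injective (Subgroup.inclusion (inf_le_right : (S : Subgroup (SpecialLinearGroup (Fin 2) F)) ⊓ T ≤ T))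
      (Subgroup.inclusion_injective _)
  obtain ⟨a', ha'⟩ := IsCyclic.exists_generator (α := ((S : Subgroup (SpecialLinearGroup (Fin 2) F)) ⊓ T : Subgroup (SpecialLinearGroup (Fin 2) F)))
  obtain ⟨a, haA⟩ := a'
  have haT : a ∈ T := (Subgroup.mem_inf.mp haA).2
  have haS : a ∈ (S : Subgroup (SpecialLinearGroup (Fin 2) F)) := (Subgroup.mem_inf.mp haA).1
  have hgen : ∀ x ∈ (S : Subgroup (SpecialLinearGroup (Fin 2) F)), x ∈ T → ∃ k : ℤ, x = a ^ k := by
    intro x hx hxT
    obtain ⟨k, hk⟩ := Subgroup.mem_zpowers_iff.mp (ha' ⟨x, Subgroup.mem_inf.mpr ⟨hx, hxT⟩⟩)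
    exact ⟨k, (congrArg Subtype.val hk).symm⟩
  have hoa : orderOf a = 4 := by
    have h1 : orderOf (⟨a, haA⟩ : ((S : Subgroup (SpecialLinearGroup (Fin 2) F)) ⊓ T : Subgroup (SpecialLinearGroup (Fin 2) F))) = 4 := by
      rw [orderOf_eq_card_of_forall_mem_zpowers ha', hA]; norm_num
    rw [← h1, ← Subgroup.orderOf_coe]
  have haa : a * a = -1 := by
    have h1 : (a * a) * (a * a) = 1 := by
      have : a * a * (a * a) = a ^ 4 := by
        simp only [pow_succ, pow_zero, one_mul, mul_assoc]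
      rw [this, ← hoa, pow_orderOf_eq_one]
    rcases sq_one_sc h2 h1 with h | h
    · exfalso
      have : orderOf a ≤ 2 := orderOf_le_of_pow_eq_one (by norm_num) (by rw [sq]; exact h)
      omega
    · exact h
  have hww : w * w = -1 := hT.sq w (hS hwS) hwT
  have hainv : a⁻¹ = -1 * a := by
    rw [inv_eq_iff_mul_eq_one, ← mul_assoc, neg_one_central, mul_assoc, haa, neg_mul_neg, one_mul]
  have hwa : w * a = -1 * (a * w) := by
    have h1 := hT.inv w (hS hwS) hwT a haT
    rw [hainv, mul_inv_eq_iff_eq_mul] at h1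
    rw [h1, mul_assoc]
  -- the element of order 3
  set A := (a : Matrix (Fin 2) (Fin 2) F) with hAm
  set W := (w : Matrix (Fin 2) (Fin 2) F) with hWm
  have mAA : A * A = -1 := congrArg (slMat F) haa
  have mWW : W * W = -1 := congrArg (slMat F) hww
  have mWA : W * A = -(A * W) := by
    have := congrArg (slMat F) hwa
    have h1 : W * A = (-1 : Matrix (Fin 2) (Fin 2) F) * (A * W) := this
    rw [h1, neg_one_mul]
  have trz : ∀ B : SpecialLinearGroup (Fin 2) F, (B : Matrix (Fin 2) (Fin 2) F) * B = -1 →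
      (B : Matrix (Fin 2) (Fin 2) F) 1 1 = - (B : Matrix (Fin 2) (Fin 2) F) 0 0 := by
    intro B hB
    have hd : (B : Matrix (Fin 2) (Fin 2) F) 0 0 * (B : Matrix (Fin 2) (Fin 2) F) 1 1 - (B : Matrix (Fin 2) (Fin 2) F) 0 1 * (B : Matrix (Fin 2) (Fin 2) F) 1 0 = 1 := by
      rw [← Matrix.det_fin_two]; exact B.2
    have e00 := congrFun (congrFun hB 0) 0
    have e01 := congrFun (congrFun hB 0) 1
    have e10 := congrFun (congrFun hB 1) 0
    have e11 := congrFun (congrFun hB 1) 1
    simp [Matrix.mul_apply, Fin.sum_univ_two] at e00 e01 e10 e11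
    by_contra hne
    have hne' : (B : Matrix (Fin 2) (Fin 2) F) 0 0 + (B : Matrix (Fin 2) (Fin 2) F) 1 1 ≠ 0 := fun h => hne (by linear_combination h)
    have f01 : (B : Matrix (Fin 2) (Fin 2) F) 0 1 = 0 := by
      have : (B : Matrix (Fin 2) (Fin 2) F) 0 1 * ((B : Matrix (Fin 2) (Fin 2) F) 0 0 + (B : Matrix (Fin 2) (Fin 2) F) 1 1) = 0 := by linear_combination e01
      exact (mul_eq_zero.mp this).resolve_right hne'
    rw [f01] at e00 hd
    apply hne'
    have h5 : (B : Matrix (Fin 2) (Fin 2) F) 0 0 ≠ 0 := by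
      intro h0
      rw [h0] at hd
      simp at hd
    have : (B : Matrix (Fin 2) (Fin 2) F) 0 0 * ((B : Matrix (Fin 2) (Fin 2) F) 0 0 + (B : Matrix (Fin 2) (Fin 2) F) 1 1) = 0 := by
      linear_combination e00 + hd
    exact (mul_eq_zero.mp this).resolve_left h5
  have tA := trz a mAA
  have tW := trz w mWW
  have dA : A 0 0 * A 1 1 - A 0 1 * A 1 0 = 1 := by rw [← Matrix.det_fin_two]; exact a.2
  have dW : W 0 0 * W 1 1 - W 0 1 * W 1 0 = 1 := by rw [← Matrix.det_fin_two]; exact w.2
  rw [← hAm] at tA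
  rw [← hWm] at tW
  have det1 : ∀ B : Matrix (Fin 2) (Fin 2) F, B 1 1 = - B 0 0 → B 0 0 * B 1 1 - B 0 1 * B 1 0 = 1 → (1 + B).det = 2 := by
    intro B tB dB
    rw [Matrix.det_fin_two]
    simp [tB]
    rw [tB] at dB
    linear_combination dB
  have hud : ((-(1 / 2 : F)) • ((1 + A) * (1 + W))).det = 1 := by
    rw [Matrix.det_smul, Matrix.det_mul, det1 A tA dA, det1 W tW dW, Fintype.card_fin]
    field_simp
  set u : SpecialLinearGroup (Fin 2) F := mkSL _ hud with hu
  have hua : u * a = w * u := by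
    apply Subtype.ext
    show ((-(1 / 2 : F)) • ((1 + A) * (1 + W))) * A = W * ((-(1 / 2 : F)) • ((1 + A) * (1 + W)))
    rw [Matrix.smul_mul, Matrix.mul_smul]
    congr 1
    have e1 : (1 + A) * (1 + W) * A = A + W * A + A * A + A * (W * A) := by noncomm_ring
    have e2 : W * ((1 + A) * (1 + W)) = W + W * W + W * A + (W * A) * W := by noncomm_ring
    rw [e1, e2, mWA, mAA, mWW]
    have e3 : A * -(A * W) = W := by
      rw [mul_neg, ← mul_assoc, mAA, neg_mul, one_mul, neg_neg]
    have e4 : -(A * W) * W = A := by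
      rw [neg_mul, mul_assoc, mWW, mul_neg, mul_one, neg_neg]
    rw [e3, e4]
    abel
  have huw : u * w = a * w * u := by
    apply Subtype.ext
    show ((-(1 / 2 : F)) • ((1 + A) * (1 + W))) * W = A * W * ((-(1 / 2 : F)) • ((1 + A) * (1 + W)))
    rw [Matrix.smul_mul, Matrix.mul_smul]
    congr 1
    have e1 : (1 + A) * (1 + W) * W = W + W * W + A * W + A * (W * W) := by noncomm_ring
    have e2 : A * W * ((1 + A) * (1 + W)) = A * W + A * (W * W) + A * (W * A) + (A * (W * A)) * W := by noncomm_ring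
    rw [e1, e2, mWW, mWA]
    have e3 : A * -(A * W) = W := by
      rw [mul_neg, ← mul_assoc, mAA, neg_mul, one_mul, neg_neg]
    rw [e3, mWW]
    abel
  have huN : u ∈ Subgroup.normalizer ((S : Subgroup (SpecialLinearGroup (Fin 2) F)) : Set (SpecialLinearGroup (Fin 2) F)) := by
    have hle : (S : Subgroup (SpecialLinearGroup (Fin 2) F)).map (MulAut.conj u).toMonoidHom ≤ S := by
      rintro _ ⟨x, hx, rfl⟩
      show u * x * u⁻¹ ∈ (S : Subgroup (SpecialLinearGroup (Fin 2) F))
      have hpa : ∀ k : ℤ, u * a ^ k * u⁻¹ = w ^ k := by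
        intro k
        have h1 : u * a * u⁻¹ = w := by rw [hua, mul_inv_cancel_right]
        rw [← h1, conj_zpow]
      by_cases hxT : x ∈ T
      · obtain ⟨k, rfl⟩ := hgen x hx hxT
        rw [hpa]
        exact Subgroup.zpow_mem _ hwS k
      · have h1 : x * w⁻¹ ∈ T := hprod _ (hS hx) _ (Subgroup.inv_mem _ (hS hwS)) hxT (fun h => hwT (T.inv_mem_iff.mp h))
        obtain ⟨k, hk⟩ := hgen (x * w⁻¹) (Subgroup.mul_mem _ hx (Subgroup.inv_mem _ hwS)) h1
        have h3 : x = a ^ k * w := by rw [← hk]; group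
        have h5 : u * w * u⁻¹ = a * w := by rw [huw, mul_inv_cancel_right]
        have h6 : u * x * u⁻¹ = w ^ k * (a * w) := by
          rw [h3, ← hpa, ← h5]; group
        rw [h6]
        exact Subgroup.mul_mem _ (Subgroup.zpow_mem _ hwS k) (Subgroup.mul_mem _ haS hwS)
    have heq : (S : Subgroup (SpecialLinearGroup (Fin 2) F)).map (MulAut.conj u).toMonoidHom = S := by
      apply Subgroup.eq_of_le_of_card_ge hle
      exact (Nat.card_congr (Subgroup.equivMapOfInjective (S : Subgroup (SpecialLinearGroup (Fin 2) F)) (MulAut.conj u).toMonoidHom (MulAut.conj u).injective).toEquiv).le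
    rw [Subgroup.mem_normalizer_iff]
    intro x
    constructor
    · intro hx
      exact hle ⟨x, hx, rfl⟩
    · intro hx
      have hx' : u * x * u⁻¹ ∈ (S : Subgroup (SpecialLinearGroup (Fin 2) F)).map (MulAut.conj u).toMonoidHom := by
        rw [heq]; exact hx
      obtain ⟨y, hy, he⟩ := hx'
      have he' : u * y * u⁻¹ = u * x * u⁻¹ := he
      have : y = x := mul_left_cancel (mul_right_cancel he')
      rw [← this]; exact hy
  have hu3 : u ^ 3 = 1 := by
    have hut : (u : Matrix (Fin 2) (Fin 2) F) 0 0 + (u : Matrix (Fin 2) (Fin 2) F) 1 1 = -1 := by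
      have hAW : (A * W) 0 0 + (A * W) 1 1 = 0 := by
        have h1 := trz (a * w) (by
          show (A * W) * (A * W) = -1
          have : (A * W) * (A * W) = A * (W * A) * W := by noncomm_ring
          rw [this, mWA, mul_neg, ← mul_assoc, mAA]
          simp only [neg_mul, one_mul, neg_neg]
          exact mWW)
        have h3 : (A * W) 1 1 = - (A * W) 0 0 := h1
        rw [h3, add_neg_cancel]
      have e1 : (u : Matrix (Fin 2) (Fin 2) F) = (-(1 / 2 : F)) • (1 + A + W + A * W) := by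
        show (-(1 / 2 : F)) • ((1 + A) * (1 + W)) = _
        congr 1
        noncomm_ring
      rw [e1]
      simp only [Matrix.smul_apply, Matrix.add_apply, smul_eq_mul, Matrix.one_apply_eq]
      rw [tA, tW]
      field_simp
      linear_combination -hAW
    have hud' : (u : Matrix (Fin 2) (Fin 2) F) 0 0 * (u : Matrix (Fin 2) (Fin 2) F) 1 1 - (u : Matrix (Fin 2) (Fin 2) F) 0 1 * (u : Matrix (Fin 2) (Fin 2) F) 1 0 = 1 := by
      rw [← Matrix.det_fin_two]; exact u.2
    set U := (u : Matrix (Fin 2) (Fin 2) F) with hU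
    have h11 : U 1 1 = -1 - U 0 0 := by linear_combination hut
    rw [h11] at hud'
    have hUU : U * U = -1 - U := by
      apply ext2
      · simp [Matrix.mul_apply, Fin.sum_univ_two]; linear_combination -hud'
      · simp [Matrix.mul_apply, Fin.sum_univ_two, h11]; ring
      · simp [Matrix.mul_apply, Fin.sum_univ_two, h11]; ring
      · simp [Matrix.mul_apply, Fin.sum_univ_two, h11]; linear_combination -hud'
    apply Subtype.ext
    show ((u ^ 3 : SpecialLinearGroup (Fin 2) F) : Matrix (Fin 2) (Fin 2) F) = 1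
    have : (u ^ 3 : SpecialLinearGroup (Fin 2) F) = u * (u * u) := by
      simp only [pow_succ, pow_zero, one_mul, mul_assoc]
    rw [this]
    show U * (U * U) = 1
    rw [hUU, mul_sub, hUU]
    noncomm_ring
  have hu1 : u ≠ 1 := by
    intro h
    rw [h, one_mul, mul_one] at hua
    exact hwT (hua ▸ haT)
  have hSN : (S : Subgroup (SpecialLinearGroup (Fin 2) F)) ≤ Subgroup.normalizer ((S : Subgroup (SpecialLinearGroup (Fin 2) F)) : Set (SpecialLinearGroup (Fin 2) F)) := Subgroup.le_normalizer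
  refine ⟨⟨a, hSN haS⟩, ⟨w, hSN hwS⟩, ⟨u, huN⟩, ⟨?_, ?_, ?_, ?_, ?_, ?_⟩, ?_⟩
  · apply Subtype.ext
    show a * a * a * a = 1
    rw [haa, mul_assoc, haa, neg_mul_neg, one_mul]
  · apply Subtype.ext
    show w * w = a * a
    rw [hww, haa]
  · apply Subtype.ext
    show w * a = a * a * a * w
    rw [hwa, haa, mul_assoc]
  · exact Subtype.ext hua
  · exact Subtype.ext huw
  · apply Subtype.ext
    show u * u * u = 1
    rw [← hu3]
    simp only [pow_succ, pow_zero, one_mul, mul_assoc]
  · intro h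
    have h3 : a * a = 1 := congrArg Subtype.val h
    rw [haa] at h3
    exact neg_one_ne h2 h3

theorem cc_small [Fintype F] (hodd : Odd (Fintype.card F)) (S : Sylow 2 (SpecialLinearGroup (Fin 2) F))
    (hq : Fintype.card F % 8 = 3 ∨ Fintype.card F % 8 = 5) :
    Nat.card (ConjClasses (Subgroup.normalizer ((S : Subgroup (SpecialLinearGroup (Fin 2) F)) : Set (SpecialLinearGroup (Fin 2) F)))) = 7 := by
  classical
  haveI : Fact (Nat.Prime 3) := ⟨by norm_num⟩
  obtain ⟨i, j, g, hr, hi⟩ := norm_small_rel hodd S hq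
  obtain ⟨Ψ, h1, h2, h3⟩ := CfsgLib.SL23.exists_hom hr
  have hinj := CfsgLib.SL23.injective_of Ψ (by rw [h1]; exact hi)
  have hc : Nat.card (SpecialLinearGroup (Fin 2) (ZMod 3)) = Nat.card (Subgroup.normalizer ((S : Subgroup (SpecialLinearGroup (Fin 2) F)) : Set (SpecialLinearGroup (Fin 2) F))) := by
    rw [CfsgLib.G2C.card_SL, (norm_small hodd S hq).1, (norm_small hodd S hq).2, ZMod.card]
  have hbij := (Nat.bijective_iff_injective_and_card Ψ).mpr ⟨hinj, hc⟩
  rw [← CfsgLib.Glaub2.card_conjClasses_congr (MulEquiv.ofBijective Ψ hbij), card_classes_SL_odd (by rw [ZMod.card]; decide), ZMod.card]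

end

end CfsgLib.Tor
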