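import Cfsg.Agent.LibTwE6

set_option autoImplicit false
set_option linter.unusedSectionVars false
set_option linter.unusedVariables false

/-! Orders for 2E6 -/

namespace CfsgLib.Chev.TwE6

open Cfsg.Lie Matrix CfsgLib.Chev

variable {K : Type*} [Field K] [Fintype K] {q : ℕ}

def CME6 : Fin 6 → Fin 6 → ℤ := ![![2, 0, -1, 0, 0, 0], ![0, 2, 0, -1, 0, 0], ![-1, 0, 2, -1, 0, 0], ![0, -1, -1, 2, -1, 0], ![0, 0, 0, -1, 2, -1], ![0, 0, 0, 0, -1, 2]]

theorem CM_eq : ∀ i j : Fin 6, tE6.A i (tE6.sim j) = CME6 i j := by decide +kernel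

theorem nu_iff (a : Fin 6 → Kˣ) : CfsgLib.Tor.nu (M := Kˣ) (l := 6) tE6.CM a = 1 ↔ a 1 = 1 ∧ a 3 = 1 ∧ a 2 = a 0 ^ 2 ∧ a 4 = a 0 ∧ a 5 = a 0 ^ 2 ∧ a 0 ^ 3 = 1 := by
  have e : CfsgLib.Tor.nu (M := Kˣ) (l := 6) tE6.CM a = 1 ↔ ∀ j : Fin 6, ∏ i : Fin 6, a i ^ (CME6 i j) = 1 := by
    rw [funext_iff]
    apply forall_congr'
    intro j
    show (∏ i : Fin 6, a i ^ tE6.A i (tE6.sim j)) = 1 ↔ _
    simp only [CM_eq]
  rw [e]
  constructor
  · intro h
    have h0 := h 0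
    have h1 := h 1
    have h2 := h 2
    have h3 := h 3
    have h4 := h 4
    have h5 := h 5
    simp [Fin.prod_univ_six, CME6] at h0 h1 h2 h3 h4 h5
    have e0 := congrArg Units.val (mul_inv_eq_one.1 h0)
    have e1 := congrArg Units.val (mul_inv_eq_one.1 h1)
    have e2 := congrArg Units.val (mul_inv_eq_one.1 h2)
    have e3 := congrArg Units.val (mul_inv_eq_one.1 h3)
    have e4 := congrArg Units.val (mul_inv_eq_one.1 h4)
    have e5 := congrArg Units.val (inv_mul_eq_one.1 h5)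
    push_cast at e0 e1 e2 e3 e4 e5
    have n0 := (a 0).ne_zero
    have n1 := (a 1).ne_zero
    have n2 := (a 2).ne_zero
    have n3 := (a 3).ne_zero
    have n4 := (a 4).ne_zero
    have n5 := (a 5).ne_zero
    have e2' : (a 2 : K) ^ 2 = a 0 * a 3 := by
      rw [← e2]; field_simp
    have e3' : (a 3 : K) ^ 2 = a 1 * a 2 * a 4 := by
      rw [← e3]; field_simp
    have e4' : (a 4 : K) ^ 2 = a 3 * a 5 := by
      rw [← e4]; field_simp
    rw [← e0, ← e1] at e2'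
    rw [← e0, ← e1, e5] at e3'
    rw [← e1, e5] at e4'
    have c1 : (a 0 : K) ^ 3 = a 1 ^ 2 := by
      apply mul_left_cancel₀ n0
      linear_combination e2'
    have c2 : (a 5 : K) ^ 3 = a 1 ^ 2 := by
      apply mul_left_cancel₀ n5
      linear_combination e4'
    have c3 : (a 1 : K) ^ 3 = a 0 ^ 2 * a 5 ^ 2 := by
      apply mul_left_cancel₀ n1
      linear_combination e3'
    have c4 : (a 1 : K) * a 0 = a 5 ^ 2 := by
      apply mul_left_cancel₀ (pow_ne_zero 2 n0)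
      linear_combination c3 + (a 1 : K) * c1
    have c5 : (a 1 : K) * a 5 = a 0 ^ 2 := by
      apply mul_left_cancel₀ (pow_ne_zero 2 n5)
      linear_combination c3 + (a 1 : K) * c2
    have c6 : (a 1 : K) ^ 2 = a 0 * a 5 := by
      apply mul_left_cancel₀ (mul_ne_zero n0 n5)
      linear_combination (a 1 : K) * a 5 * c4 + a 5 ^ 2 * c5
    have c7 : (a 5 : K) = a 0 ^ 2 := by
      apply mul_left_cancel₀ n0
      linear_combination -c1 - c6
    have c8 : (a 1 : K) = 1 := by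
      apply mul_left_cancel₀ n5
      linear_combination c5 - c7
    have c9 : (a 0 : K) ^ 3 = 1 := by rw [c1, c8, one_pow]
    refine ⟨Units.ext c8, Units.ext ?_, Units.ext ?_, Units.ext ?_, Units.ext ?_, Units.ext ?_⟩
    · rw [← e1, c8]; simp
    · rw [← e0]; simp
    · rw [e5, c7]
      linear_combination (a 0 : K) * c9
    · rw [c7]; simp
    · rw [Units.val_pow_eq_pow_val, c9]; simp
  · rintro ⟨h1, h3, h2, h4, h5, h0⟩ j
    fin_cases j <;> simp [Fin.prod_univ_six, CME6, h1, h2, h3, h4, h5]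
    · rw [← h0]; group
    · calc (a 0 ^ 2)⁻¹ * (a 0)⁻¹ = (a 0 ^ 3)⁻¹ := by group
        _ = 1 := by rw [h0, inv_one]
    · rw [← h0]; group

section
variable {f : K ≃+* K} (hf : ∀ t, f t = t ^ q) (hK : Fintype.card K = q ^ 2)

include hf in
theorem ph_pow {i : ℕ} (hi : i < tE6.l) (c : Kˣ) : (S f).ph (tE6.sim i) c = c ^ q := by
  apply Units.ext
  rw [ph_val hi, hf, Units.val_pow_eq_pow_val]

include hf in
theorem CpU_iff6 (a : Fin 6 → Kˣ) : (S f).CpU (ext1 a) ↔ a 5 = a 0 ^ q ∧ a 1 = a 1 ^ q ∧ a 4 = a 2 ^ q ∧ a 3 = a 3 ^ q ∧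
    a 2 = a 4 ^ q ∧ a 0 = a 5 ^ q := by
  unfold Tw.CpU
  have hl : tE6.l = 6 := rfl
  constructor
  · intro h
    have h0 := h 0 (by decide)
    have h1 := h 1 (by decide)
    have h2 := h 2 (by decide)
    have h3 := h 3 (by decide)
    have h4 := h 4 (by decide)
    have h5 := h 5 (by decide)
    rw [ph_pow hf (by decide)] at h0 h1 h2 h3 h4 h5
    exact ⟨h0, h1, h2, h3, h4, h5⟩
  · rintro ⟨h0, h1, h2, h3, h4, h5⟩ i hi
    rw [ph_pow hf hi]
    rw [hl] at hi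
    interval_cases i
    · exact h0
    · exact h1
    · exact h2
    · exact h3
    · exact h4
    · exact h5

include hf hK in
theorem pow_qq (c : Kˣ) : (c ^ q) ^ q = c := by
  apply Units.ext
  have := ff hf hK (c : K)
  rw [hf, hf] at this
  rw [Units.val_pow_eq_pow_val, Units.val_pow_eq_pow_val]
  exact this

include hf hK in
theorem card_T : Nat.card {a : Fin tE6.l → Kˣ // (S f).CpU (ext1 a)} = (Nat.card {c : Kˣ // c ^ q = c}) ^ 2 * (q ^ 2 - 1) ^ 2 := by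
  have e : {a : Fin tE6.l → Kˣ // (S f).CpU (ext1 a)} ≃ ({c : Kˣ // c ^ q = c} × {c : Kˣ // c ^ q = c}) × (Kˣ × Kˣ) :=
    { toFun := fun a => ((⟨a.1 (1 : Fin 6), ((CpU_iff6 hf a.1).1 a.2).2.1.symm⟩, ⟨a.1 (3 : Fin 6), ((CpU_iff6 hf a.1).1 a.2).2.2.2.1.symm⟩), (a.1 (0 : Fin 6), a.1 (2 : Fin 6)))
      invFun := fun c => ⟨(![c.2.1, c.1.1.1, c.2.2, c.1.2.1, c.2.2 ^ q, c.2.1 ^ q] : Fin 6 → Kˣ), by
        refine (CpU_iff6 hf _).2 ⟨rfl, c.1.1.2.symm, rfl, c.1.2.2.symm, (pow_qq hf hK _).symm, (pow_qq hf hK _).symm⟩⟩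
      left_inv := by
        rintro ⟨a, ha⟩
        have h := (CpU_iff6 hf a).1 ha
        apply Subtype.ext
        funext i
        have : ∀ i : Fin 6, (![a (0 : Fin 6), a (1 : Fin 6), a (2 : Fin 6), a (3 : Fin 6), a (2 : Fin 6) ^ q, a (0 : Fin 6) ^ q] : Fin 6 → Kˣ) i = a i := by
          intro i
          fin_cases i
          · rfl
          · rfl
          · rfl
          · rfl
          · exact h.2.2.1.symm
          · exact h.1.symm
        exact this i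
      right_inv := by
        rintro ⟨⟨c1, c2⟩, c3, c4⟩
        rfl }
  have hK' : Nat.card K = q ^ 2 := by rw [Nat.card_eq_fintype_card, hK]
  rw [Nat.card_congr e, Nat.card_prod, Nat.card_prod, Nat.card_prod, Nat.card_units, hK']
  ring

include hf hK in
theorem card_Z : Nat.card {a : Fin tE6.l → Kˣ // (S f).CpU (ext1 a) ∧ CfsgLib.Tor.nu tE6.CM a = 1} = Nat.gcd 3 (q + 1) := by
  have key : ∀ c : Kˣ, c ^ 3 = 1 → (c ^ 2 = c ^ q ↔ c ^ (q + 1) = 1) := by
    intro c hc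
    rw [pow_succ c q, ← mul_left_inj c, ← pow_succ, hc, eq_comm]
  have e : {a : Fin tE6.l → Kˣ // (S f).CpU (ext1 a) ∧ CfsgLib.Tor.nu tE6.CM a = 1} ≃ {c : Kˣ // c ^ ((Nat.gcd 3 (q + 1) : ℕ) : ℤ) = 1} :=
    { toFun := fun a => ⟨a.1 (0 : Fin 6), by
        obtain ⟨h1, h3, h2, h4, h5, h0⟩ := (nu_iff a.1).1 a.2.2
        have h := ((CpU_iff6 hf a.1).1 a.2.1).1
        rw [h5, key _ h0] at h
        rw [zpow_natCast]
        exact pow_gcd_eq_one.2 ⟨h0, h⟩⟩
      invFun := fun c => ⟨(![c.1, 1, c.1 ^ 2, 1, c.1, c.1 ^ 2] : Fin 6 → Kˣ), by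
        have hc := c.2
        rw [zpow_natCast] at hc
        obtain ⟨h3, h4⟩ := pow_gcd_eq_one.1 hc
        have h5 := (key _ h3).2 h4
        have h6 : c.1 = (c.1 ^ 2) ^ q := by rw [h5, pow_qq hf hK]
        exact ⟨(CpU_iff6 hf _).2 ⟨h5, (one_pow q).symm, h6, (one_pow q).symm, h5, h6⟩, (nu_iff _).2 ⟨rfl, rfl, rfl, rfl, rfl, h3⟩⟩⟩
      left_inv := by
        rintro ⟨a, ha⟩
        obtain ⟨h1, h3, h2, h4, h5, h0⟩ := (nu_iff a).1 ha.2
        apply Subtype.ext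
        funext i
        have : ∀ i : Fin 6, (![a (0 : Fin 6), 1, a (0 : Fin 6) ^ 2, 1, a (0 : Fin 6), a (0 : Fin 6) ^ 2] : Fin 6 → Kˣ) i = a i := by
          intro i
          fin_cases i
          · rfl
          · exact h1.symm
          · exact h2.symm
          · exact h3.symm
          · exact h4.symm
          · exact h5.symm
        exact this i
      right_inv := fun c => rfl }
  rw [Nat.card_congr e, CfsgLib.Tor.card_tors (d := Nat.gcd 3 (q + 1)) (by simp), Nat.card_units, Nat.card_eq_fintype_card, hK]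
  apply Nat.gcd_eq_left
  apply (Nat.gcd_dvd_right 3 (q + 1)).trans
  have : q ^ 2 - 1 = (q + 1) * (q - 1) := by
    have := Nat.sq_sub_sq q 1
    rwa [one_pow] at this
  rw [this]
  exact Nat.dvd_mul_right _ _

include hf hK in
theorem card_H (hq : 1 < q) : Nat.gcd 3 (q + 1) * Nat.card ↥(chevE6.diagonalSubgroup K ⊓ twistedE6 K q) = (q - 1) ^ 4 * (q + 1) ^ 2 := by
  have h := (S f).card_HFx hri (lift hf hK)
  rw [card_Z hf hK, card_T hf hK, card_fix hq hK, ← (R hf hK hq).toTwR.E_eq] at h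
  rw [h]
  have : q ^ 2 - 1 = (q + 1) * (q - 1) := by
    have := Nat.sq_sub_sq q 1
    rwa [one_pow] at this
  rw [this]
  ring

include hf hK in
theorem card_G (hq : 1 < q) : Nat.gcd 3 (q + 1) * Nat.card ↥(twistedE6 K q) =
      q ^ 36 * (q ^ 2 - 1) * (q ^ 5 + 1) * (q ^ 6 - 1) * (q ^ 8 - 1) * (q ^ 9 + 1) * (q ^ 12 - 1) := by
  have RR := R hf hK hq
  obtain ⟨d, hd, hU⟩ := RR.card_UE
  have hd' : d = 36 := by
    have : tE6.n / 2 = 36 := rfl
    omega
  rw [hd'] at hU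
  have h1 := RR.toTwR.card_E
  have h2 := (S f).WqT_formula RR.O ocnn_E6 one_pos tchk_E6 tpol_E6 (q : ℤ)
  have h3 := card_H hf hK hq
  simp only [List.map_cons, List.map_nil, List.prod_cons, List.prod_nil, lpev_M, lpev_P, mul_one] at h2
  have c : ∀ n : ℕ, (((q ^ n - 1 : ℕ)) : ℤ) = (q : ℤ) ^ n - 1 := by
    intro n
    have : 1 ≤ q ^ n := Nat.one_le_pow _ _ (by omega)
    push_cast [Nat.cast_sub this]
    ring
  have c1 : ((q - 1 : ℕ) : ℤ) = (q : ℤ) - 1 := by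
    have := c 1
    rwa [pow_one, pow_one] at this
  apply Nat.cast_injective (R := ℤ)
  have h3' := congrArg (Nat.cast : ℕ → ℤ) h3
  push_cast at h3' ⊢
  rw [c1] at h3'
  rw [h1, hU, c, c, c, c]
  push_cast
  have h4 : ((Nat.gcd 3 (q + 1) : ℕ) : ℤ) * ((q : ℤ) ^ 36 * (Nat.card ↥(chevE6.diagonalSubgroup K ⊓ twistedE6 K q) : ℤ) * (S f).WqT 4 orb 1 Set.univ (q : ℤ)) =
      (q : ℤ) ^ 36 * ((((Nat.gcd 3 (q + 1) : ℕ) : ℤ) * (Nat.card ↥(chevE6.diagonalSubgroup K ⊓ twistedE6 K q) : ℤ)) * (S f).WqT 4 orb 1 Set.univ (q : ℤ)) := by ring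
  rw [h4, h3']
  linear_combination (q : ℤ) ^ 36 * h2

end

end CfsgLib.Chev.TwE6
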