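import Cfsg.Agent.LibTwB2
import Cfsg.Agent.LibChevSL2

set_option autoImplicit false
set_option linter.unusedSectionVars false
set_option linter.unusedVariables false

/-! The twisted groups of type 2F4 -/

namespace CfsgLib.Chev.TwF4

open Cfsg.Lie Matrix CfsgLib.Chev

variable {K : Type*} [Field K] [Fintype K] [CharP K 2]

noncomputable def S (f : K ≃+* K) : Tw good3_F4 K :=
  mkTwp good3_F4 tr_F4 (perf_of_char K 2) gdF4_ok chkInv_F4 chkLp_F4 eps_F4 twW_F4 f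

def orb (k : ℕ) : List ℕ := troF4.getD k []

theorem OO (f : K ≃+* K) : OrbOK tF4 (S f).rs 2 orb := chkO_sound twO_F4

theorem orb0 : orb 0 = [0, 3] := rfl
theorem orb1 : orb 1 = [1, 2, 1, 2] := rfl

theorem hn : tF4.n = 48 := rfl
theorem sim0 : tF4.sim 0 = 33 := rfl
theorem sim1 : tF4.sim 1 = 27 := rfl
theorem sim2 : tF4.sim 2 = 25 := rfl
theorem sim3 : tF4.sim 3 = 24 := rfl

/-- abbreviation -/
noncomputable abbrev X (r : ℕ) (t : K) : GL chevF4.Idx K := good3_F4.X r t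

theorem hp2 : ((2 : ℕ) : K) = 0 := CharP.cast_eq_zero K 2
theorem hp2' : (2 : K) = 0 := by exact_mod_cast hp2 (K := K)

theorem add_self (x : K) : x + x = 0 := by rw [← two_mul, hp2', zero_mul]
theorem neg_self (x : K) : -x = x := by
  rw [neg_eq_iff_add_eq_zero, add_self]

/-! relations in characteristic two -/

noncomputable def cmB (a b : ℕ) : Bool := chkWordsP 2 tF4.acc [(a, [((1, 1, 0) : Mon)]), (b, [(1, 0, 1)])] [(b, [((1, 0, 1) : Mon)]), (a, [(1, 1, 0)])]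

theorem comm_of (a b : ℕ) (h : cmB a b = true) (t u : K) : Commute (X a t) (X b u) := by
  have h1 := good3_F4.wd_eq_of_chk2 (hp2 (K := K)) t u h
  have h2 : X a t * X b u = X b u * X a t := by simpa [Good3.wd, pev, mev] using h1
  exact h2

theorem cm1 : (cmB 27 28 && cmB 27 30 && cmB 25 28 && cmB 25 30 && cmB 28 30) = true := by decide +kernel
theorem cm2 : (cmB 20 19 && cmB 20 17 && cmB 22 19 && cmB 22 17 && cmB 19 17) = true := by decide +kernel

theorem rel_chk : chkWordsP 2 tF4.acc [(25, [((1, 1, 0) : Mon)]), (27, [(1, 0, 1)]), (28, [(1, 1, 1)]), (30, [(1, 1, 2)])]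
    [(27, [((1, 0, 1) : Mon)]), (25, [(1, 1, 0)])] = true := by decide +kernel
theorem reln_chk : chkWordsP 2 tF4.acc [(22, [((1, 1, 0) : Mon)]), (20, [(1, 0, 1)]), (19, [(1, 1, 1)]), (17, [(1, 1, 2)])]
    [(20, [((1, 0, 1) : Mon)]), (22, [(1, 1, 0)])] = true := by decide +kernel

theorem posB : B2R (X (K := K) 27) (X 25) (X 28) (X 30) := by
  have h := cm1
  simp only [Bool.and_eq_true] at h
  obtain ⟨⟨⟨⟨h1, h2⟩, h3⟩, h4⟩, h5⟩ := h
  exact { A_add := good3_F4.X_add 27, B_add := good3_F4.X_add 25, C_add := good3_F4.X_add 28, D_add := good3_F4.X_add 30,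
          AC := comm_of _ _ h1, AD := comm_of _ _ h2, BC := comm_of _ _ h3, BD := comm_of _ _ h4, CD := comm_of _ _ h5,
          rel := fun t T => by
            have h1 := good3_F4.wd_eq_of_chk2 (hp2 (K := K)) t T rel_chk
            simpa [Good3.wd, pev, mev, mul_assoc] using h1 }

theorem negB : B2R (X (K := K) 20) (X 22) (X 19) (X 17) := by
  have h := cm2
  simp only [Bool.and_eq_true] at h
  obtain ⟨⟨⟨⟨h1, h2⟩, h3⟩, h4⟩, h5⟩ := h
  exact { A_add := good3_F4.X_add 20, B_add := good3_F4.X_add 22, C_add := good3_F4.X_add 19, D_add := good3_F4.X_add 17,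
          AC := comm_of _ _ h1, AD := comm_of _ _ h2, BC := comm_of _ _ h3, BD := comm_of _ _ h4, CD := comm_of _ _ h5,
          rel := fun t T => by
            have h1 := good3_F4.wd_eq_of_chk2 (hp2 (K := K)) t T reln_chk
            simpa [Good3.wd, pev, mev, mul_assoc] using h1 }

/-- general element of the class -/
noncomputable abbrev Wp (a b c d : K) : GL chevF4.Idx K := B2R.W (X 27) (X 25) (X 28) (X 30) a b c d
noncomputable abbrev Wn (a b c d : K) : GL chevF4.Idx K := B2R.W (X 20) (X 22) (X 19) (X 17) a b c d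

theorem lam_vals : gdF4.lam 27 = 2 ∧ gdF4.lam 25 = 1 ∧ gdF4.lam 28 = 2 ∧ gdF4.lam 30 = 1 ∧
    gdF4.lam 20 = 2 ∧ gdF4.lam 22 = 1 ∧ gdF4.lam 19 = 2 ∧ gdF4.lam 17 = 1 ∧ gdF4.lam 33 = 2 ∧ gdF4.lam 24 = 1 := by decide +kernel

theorem rho_vals : gdF4.rho 27 = 25 ∧ gdF4.rho 25 = 27 ∧ gdF4.rho 28 = 30 ∧ gdF4.rho 30 = 28 ∧
    gdF4.rho 20 = 22 ∧ gdF4.rho 22 = 20 ∧ gdF4.rho 19 = 17 ∧ gdF4.rho 17 = 19 := by decide +kernel

theorem sX (f : K ≃+* K) {r s k : ℕ} (hr : r < 48) (h1 : gdF4.rho r = s) (h2 : gdF4.lam r = k) (t : K) : (S f).s (X r t) = X s (f t ^ k) := by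
  have := (S f).s_X (r := r) hr t
  rw [show (S f).G = gdF4 from rfl, eps_F4 r hr, Int.cast_one, one_mul, h1, h2] at this
  exact this

theorem X_mem' {r : ℕ} (hr : r < 48) (t : K) : X r t ∈ chevF4.group K := Tw.X_mem (g := good3_F4) hr t

theorem Wp_mem (a b c d : K) : Wp a b c d ∈ chevF4.group K :=
  Subgroup.mul_mem _ (Subgroup.mul_mem _ (X_mem' (by decide) _) (X_mem' (by decide) _)) (Subgroup.mul_mem _ (X_mem' (by decide) _) (X_mem' (by decide) _))
theorem Wn_mem (a b c d : K) : Wn a b c d ∈ chevF4.group K :=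
  Subgroup.mul_mem _ (Subgroup.mul_mem _ (X_mem' (by decide) _) (X_mem' (by decide) _)) (Subgroup.mul_mem _ (X_mem' (by decide) _) (X_mem' (by decide) _))

theorem B2W_s {G : Type*} [Group G] {A B C D : K → G} (h : B2R A B C D) (a b c d : K) :
    B a * A b * (D c * C d) = B2R.W A B C D b a (d + a * b) (c + a * b ^ 2) := by
  have e1 : B a = B2R.W A B C D 0 a 0 0 := by unfold B2R.W; rw [h.A_zero, h.C_zero, h.D_zero]; simp
  have e2 : A b = B2R.W A B C D b 0 0 0 := by unfold B2R.W; rw [h.B_zero, h.C_zero, h.D_zero]; simp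
  have e3 : D c * C d = B2R.W A B C D 0 0 d c := by unfold B2R.W; rw [h.A_zero, h.B_zero, ← (h.CD d c).eq]; simp
  rw [e3, e1, e2, h.W_mul hp2', h.W_mul hp2']
  congr 1 <;> ring

theorem s_Wp (f : K ≃+* K) (a b c d : K) : (S f).s (Wp a b c d) = Wp (f b) (f a ^ 2) (f d + f a ^ 2 * f b) (f c ^ 2 + f a ^ 2 * f b ^ 2) := by
  obtain ⟨l1, l2, l3, l4, _⟩ := lam_vals
  obtain ⟨r1, r2, r3, r4, _⟩ := rho_vals
  have m1 := X_mem' (r := 27) (by decide) a
  have m2 := X_mem' (r := 25) (by decide) b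
  have m3 := X_mem' (r := 28) (by decide) c
  have m4 := X_mem' (r := 30) (by decide) d
  have e := B2W_s posB (f a ^ 2) (f b) (f c ^ 2) (f d)
  unfold Wp at e ⊢
  rw [← e]
  unfold B2R.W
  rw [(S f).s_mul (Subgroup.mul_mem _ m1 m2) (Subgroup.mul_mem _ m3 m4), (S f).s_mul m1 m2, (S f).s_mul m3 m4,
    sX f (by decide) r1 l1, sX f (by decide) r2 l2, sX f (by decide) r3 l3, sX f (by decide) r4 l4, pow_one, pow_one]

theorem s_Wn (f : K ≃+* K) (a b c d : K) : (S f).s (Wn a b c d) = Wn (f b) (f a ^ 2) (f d + f a ^ 2 * f b) (f c ^ 2 + f a ^ 2 * f b ^ 2) := by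
  obtain ⟨_, _, _, _, l1, l2, l3, l4, _⟩ := lam_vals
  obtain ⟨_, _, _, _, r1, r2, r3, r4⟩ := rho_vals
  have m1 := X_mem' (r := 20) (by decide) a
  have m2 := X_mem' (r := 22) (by decide) b
  have m3 := X_mem' (r := 19) (by decide) c
  have m4 := X_mem' (r := 17) (by decide) d
  have e := B2W_s negB (f a ^ 2) (f b) (f c ^ 2) (f d)
  unfold Wn at e ⊢
  rw [← e]
  unfold B2R.W
  rw [(S f).s_mul (Subgroup.mul_mem _ m1 m2) (Subgroup.mul_mem _ m3 m4), (S f).s_mul m1 m2, (S f).s_mul m3 m4,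
    sX f (by decide) r1 l1, sX f (by decide) r2 l2, sX f (by decide) r3 l3, sX f (by decide) r4 l4, pow_one, pow_one]

section
variable {m : ℕ} {f : K ≃+* K} (hf : ∀ t, f t = t ^ (2 ^ m)) (hK : Fintype.card K = 2 ^ (2 * m + 1))

/-- the elements of the twisted group in the class -/
noncomputable def uW (f : K ≃+* K) (t u : K) : GL chevF4.Idx K := Wp (f t) t (t * f t + u) (f u ^ 2)
noncomputable def vW (f : K ≃+* K) (t u : K) : GL chevF4.Idx K := Wn (f t) t (t * f t + u) (f u ^ 2)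

include hf in
theorem uW_eq (t u : K) : uW f t u = good3_F4.wd (b2ClassWord (2 ^ m) f4a f4b f4ab f4aab t u) := by
  unfold uW b2ClassWord
  rw [hf, hf]
  have e1 : t * t ^ 2 ^ m = t ^ (2 ^ m + 1) := by ring
  have e2 : (u ^ 2 ^ m) ^ 2 = u ^ (2 * 2 ^ m) := by rw [← pow_mul]; ring
  rw [e1, e2]
  unfold Wp B2R.W
  simp only [Good3.wd, List.map_cons, List.map_nil, List.prod_cons, List.prod_nil, mul_one, mul_assoc]
  rfl

include hf in
theorem vW_eq (t u : K) : vW f t u = good3_F4.wd (b2ClassWord (2 ^ m) f4ma f4mb f4mab f4maab t u) := by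
  unfold vW b2ClassWord
  rw [hf, hf]
  have e1 : t * t ^ 2 ^ m = t ^ (2 ^ m + 1) := by ring
  have e2 : (u ^ 2 ^ m) ^ 2 = u ^ (2 * 2 ^ m) := by rw [← pow_mul]; ring
  rw [e1, e2]
  unfold Wn B2R.W
  simp only [Good3.wd, List.map_cons, List.map_nil, List.prod_cons, List.prod_nil, mul_one, mul_assoc]
  rfl

include hf in
theorem uW_mem (t u : K) : uW f t u ∈ twistedF4 K (2 ^ m) := by
  rw [uW_eq hf]; exact good3_F4.wd_mem (Or.inr ⟨t, u, Or.inl rfl⟩)
include hf in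
theorem vW_mem (t u : K) : vW f t u ∈ twistedF4 K (2 ^ m) := by
  rw [vW_eq hf]; exact good3_F4.wd_mem (Or.inr ⟨t, u, Or.inr rfl⟩)

include hf hK in
theorem ff2 (t : K) : f (f t) ^ 2 = t := by
  have : 2 ^ m * (2 ^ m * 2) = 2 ^ (2 * m + 1) := by rw [pow_succ, two_mul, pow_add, mul_assoc]
  rw [hf, hf, ← pow_mul, ← pow_mul, this, ← hK, FiniteField.pow_card]

include hf hK in
theorem ff2' (t : K) : f (f t ^ 2) = t := by rw [map_pow, ff2 hf hK]

include hf hK in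
theorem uW_Fx (t u : K) : uW f t u ∈ (S f).Fx := by
  refine ⟨Wp_mem _ _ _ _, ?_⟩
  unfold uW
  rw [s_Wp, ff2 hf hK, ff2' hf hK]
  have e1 : u + t * f t = t * f t + u := add_comm _ _
  have e2 : f (t * f t + u) ^ 2 + t * f t ^ 2 = f u ^ 2 := by
    rw [map_add, map_mul]
    have : (f t * f (f t) + f u) ^ 2 = (f t * f (f t)) ^ 2 + f u ^ 2 := add_pow_char _ _ 2
    rw [this, mul_pow, ff2 hf hK]
    have h := add_self (f t ^ 2 * t)
    linear_combination h
  rw [e1, e2]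

include hf hK in
theorem vW_Fx (t u : K) : vW f t u ∈ (S f).Fx := by
  refine ⟨Wn_mem _ _ _ _, ?_⟩
  unfold vW
  rw [s_Wn, ff2 hf hK, ff2' hf hK]
  have e1 : u + t * f t = t * f t + u := add_comm _ _
  have e2 : f (t * f t + u) ^ 2 + t * f t ^ 2 = f u ^ 2 := by
    rw [map_add, map_mul]
    have : (f t * f (f t) + f u) ^ 2 = (f t * f (f t)) ^ 2 + f u ^ 2 := add_pow_char _ _ 2
    rw [this, mul_pow, ff2 hf hK]
    have h := add_self (f t ^ 2 * t)
    linear_combination h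
  rw [e1, e2]

/-! the orbit of two orthogonal roots -/

theorem or0 : chkOr tF4 (fun i => trsF4.getD i 0) [0, 3] = true := by decide +kernel

theorem O0 (f : K ≃+* K) : Orth tF4 (S f).rs [0, 3] := chkOr_sound or0

include hf hK in
theorem Cp0 {t : ℕ → K} : (S f).Cp [0, 3] t ↔ t 0 = f (t 3) := by
  obtain ⟨_, _, _, _, _, _, _, _, l33, l24⟩ := lam_vals
  unfold Tw.Cp
  have r0 : (S f).rs 0 = 3 := rfl
  have r3 : (S f).rs 3 = 0 := rfl
  have g0 : (S f).G.lam (tF4.sim 0) = 2 := l33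
  have g3 : (S f).G.lam (tF4.sim 3) = 1 := l24
  have hh : ∀ x, (S f).f x = f x := fun x => rfl
  simp only [List.mem_cons, List.not_mem_nil, or_false, forall_eq_or_imp, forall_eq, r0, r3, g0, g3, pow_one, hh]
  constructor
  · exact fun h => h.2
  · intro h
    refine ⟨?_, h⟩
    rw [h, ff2 hf hK]

theorem PJ2 (t : ℕ → K) : (S f).PJ [0, 3] t = X 33 (t 0) * X 24 (t 3) := by simp [Tw.PJ, sim0, sim3]
theorem PK2 (t : ℕ → K) : (S f).PK [0, 3] t = X 14 (t 0) * X 23 (t 3) := by simp [Tw.PK, hn, sim0, sim3]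

include hf hK in
theorem p0 (t : ℕ → K) (ht : (S f).Cp [0, 3] t) : (S f).PJ [0, 3] t ∈ twistedF4 K (2 ^ m) := by
  rw [Cp0 hf hK, hf] at ht
  rw [PJ2, ht]
  have : X 33 (t 3 ^ 2 ^ m) * X 24 (t 3) = good3_F4.wd (f4PairWord (2 ^ m) f4p1 f4p4 (t 3)) := by simp [Good3.wd, f4PairWord, f4p1, f4p4]
  rw [this]
  exact good3_F4.wd_mem (Or.inl ⟨t 3, Or.inl rfl⟩)

include hf hK in
theorem m0 (t : ℕ → K) (ht : (S f).Cp [0, 3] t) : (S f).PK [0, 3] t ∈ twistedF4 K (2 ^ m) := by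
  rw [Cp0 hf hK, hf] at ht
  rw [PK2, ht]
  have : X 14 (t 3 ^ 2 ^ m) * X 23 (t 3) = good3_F4.wd (f4PairWord (2 ^ m) f4m1 f4m4 (t 3)) := by simp [Good3.wd, f4PairWord, f4m1, f4m4]
  rw [this]
  exact good3_F4.wd_mem (Or.inl ⟨t 3, Or.inr rfl⟩)

include hf hK in
theorem hE : twistedF4 K (2 ^ m) ≤ (S f).Fx := by
  apply good3_F4.genSub_le
  rintro w (⟨t, rfl | rfl⟩ | ⟨t, u, rfl | rfl⟩)
  · have h := (S f).PJ_Fx (O0 f) (t := fun i => if i = 0 then f t else t) ((Cp0 hf hK).2 rfl)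
    rw [PJ2] at h
    have : good3_F4.wd (f4PairWord (2 ^ m) f4p1 f4p4 t) = X 33 (f t) * X 24 t := by simp [Good3.wd, f4PairWord, f4p1, f4p4, hf]
    rw [this]
    exact h
  · have h := (S f).PK_Fx (O0 f) (t := fun i => if i = 0 then f t else t) ((Cp0 hf hK).2 rfl)
    rw [PK2] at h
    have : good3_F4.wd (f4PairWord (2 ^ m) f4m1 f4m4 t) = X 14 (f t) * X 23 t := by simp [Good3.wd, f4PairWord, f4m1, f4m4, hf]
    rw [this]
    exact h
  · rw [← uW_eq hf]; exact uW_Fx hf hK t u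
  · rw [← vW_eq hf]; exact vW_Fx hf hK t u

end
end CfsgLib.Chev.TwF4
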