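import Cfsg.Agent.LibTw6
import Cfsg.Agent.LibChevPoinT

set_option autoImplicit false
set_option maxRecDepth 1000000

/-! Combinatorial data of the twisted groups -/

namespace CfsgLib.Chev

open Cfsg.Lie

def troE6 : List (List ℕ) := [[1], [3], [2, 4], [0, 5]]

def trsE6 : List ℕ := [5, 1, 4, 3, 2, 0]

theorem twW_E6 : gdE6.chkW tE6 trsE6 = true := by decide +kernel

theorem twO_E6 : chkO tE6 (fun i => trsE6.getD i 0) troE6 = true := by decide +kernel

def ttE6_0 : OT where
  N := 24
  e0 := 15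
  mr := [47536897193734170364815570807, 47516185504312340058769819767, 41944321368042709605129164952, 37285130353429176814772189577, 41944321368042709605129164952, 47536897193734170364815570807]
  dr := 123850413943085573280693342341459431804883400965260445712
  sr := [467610588301337305670597239547897482309206095144755004676, 492512522768797786422839633211643003522130533961246769411, 565498729259030248151875718939381796316804224947262195456, 122983892516458802822718292667847545760265645277918270226]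

def tqE6_0 : List ℤ := [1, 2, 4, 6, 9, 13, 17, 22, 26, 32, 37, 43, 47, 51, 55, 58, 61, 61, 62, 61, 61, 58, 55, 51, 47, 43, 37, 32, 26, 22, 17, 13, 9, 6, 4, 2, 1]

def ttE6_1 : OT where
  N := 6
  e0 := 4
  mr := [10061943, 11053224, 7903113, 8940168, 7903113, 10061943]
  dr := 7696665544962
  sr := [0, 5514771759360, 3315798638850, 1099562091780]

def tqE6_1 : List ℤ := [1, 1, 2, 3, 3, 5, 4, 5, 5, 4, 5, 3, 3, 2, 1, 1]

def ttE6_2 : OT where
  N := 4
  e0 := 0
  mr := [43416, 43656, 31097, 34472, 31097, 43416]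
  dr := 84083200
  sr := [0, 50397696, 33751041, 0]

def tqE6_2 : List ℤ := [1, 1, 1, 2, 1, 1, 1]

def ttE6_3 : OT where
  N := 2
  e0 := 0
  mr := [136, 152, 152, 121, 152, 136]
  dr := 256
  sr := [0, 1, 0, 0]

def tqE6_3 : List ℤ := [1, 1]

def tchE6 : List (ℕ × OT × List ℤ) := [(0, ttE6_0, tqE6_0), (3, ttE6_1, tqE6_1), (2, ttE6_2, tqE6_2), (1, ttE6_3, tqE6_3)]

theorem tchk_E6 : chkChainT tE6 4 (fun k => troE6.getD k []) 1 (List.range 4) tchE6 = true := by decide +kernel

theorem tpol_E6 : eqLI (lpmul (lpprod [lpM 1, lpM 1, lpM 1, lpM 1, lpP 1, lpP 1]) (headQ tchE6)) (lpprod [lpM 2, lpP 5, lpM 6, lpM 8, lpP 9, lpM 12]) = true := by decide +kernel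

def troD4 : List (List ℕ) := [[1], [0, 2, 3]]

def trsD4 : List ℕ := [2, 1, 3, 0]

theorem twW_D4 : gdD4a.chkW tD4 trsD4 = true := by decide +kernel

theorem twO_D4 : chkO tD4 (fun i => trsD4.getD i 0) troD4 = true := by decide +kernel

def ttD4_0 : OT where
  N := 6
  e0 := 3
  mr := [10061943, 7772073, 10061943, 10061943]
  dr := 1120987055112
  sr := [3302913737730, 1099562091780]

def tqD4_0 : List ℤ := [1, 1, 0, 1, 2, 1, 0, 1, 2, 1, 0, 1, 1]

def ttD4_1 : OT where
  N := 2
  e0 := 1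
  mr := [151, 139, 151, 151]
  dr := 3
  sr := [0, 1]

def tqD4_1 : List ℤ := [1, 0, 0, 1]

def tchD4 : List (ℕ × OT × List ℤ) := [(0, ttD4_0, tqD4_0), (1, ttD4_1, tqD4_1)]

theorem tchk_D4 : chkChainT tD4 2 (fun k => troD4.getD k []) 1 (List.range 2) tchD4 = true := by decide +kernel

theorem tpol_D4 : eqLI (lpmul (lpprod [lpM 1, lpM 3]) (headQ tchD4)) (lpprod [lpM 2, lpM 6, [1, 0, 0, 0, 1, 0, 0, 0, 1]]) = true := by decide +kernel

def troF4 : List (List ℕ) := [[0, 3], [1, 2, 1, 2]]

def trsF4 : List ℕ := [3, 2, 1, 0]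

theorem twW_F4 : gdF4.chkW tF4 trsF4 = true := by decide +kernel

theorem twO_F4 : chkO tF4 (fun i => trsF4.getD i 0) troF4 = true := by decide +kernel

def ttF4_0 : OT where
  N := 8
  e0 := 5
  mr := [3147396949, 1988597929, 2005375129, 2862184294]
  dr := 217861670646187015
  sr := [72060901246895878, 216459754766206468]

def tqF4_0 : List ℤ := [1, 1, 1, 2, 1, 1, 2, 1, 1, 2, 1, 1, 1]

def ttF4_1 : OT where
  N := 2
  e0 := 0
  mr := [200, 121, 121, 184]
  dr := 512
  sr := [0, 1]

def tqF4_1 : List ℤ := [1, 0, 1]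

def tchF4 : List (ℕ × OT × List ℤ) := [(0, ttF4_0, tqF4_0), (1, ttF4_1, tqF4_1)]

theorem tchk_F4 : chkChainT tF4 2 (fun k => troF4.getD k []) 2 (List.range 2) tchF4 = true := by decide +kernel

theorem tpol_F4 : eqLI (lpmul (lpprod [lpM 1, lpM 1]) (headQ tchF4)) (lpprod [lpM 1, lpP 3, lpM 4, lpP 6]) = true := by decide +kernel

def troG2 : List (List ℕ) := [[0, 1, 0, 1, 0, 1]]

def trsG2 : List ℕ := [1, 0]

theorem twW_G2 : gdG2.chkW tG2 trsG2 = true := by decide +kernel

theorem twO_G2 : chkO tG2 (fun i => trsG2.getD i 0) troG2 = true := by decide +kernel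

def ttG2_0 : OT where
  N := 2
  e0 := 1
  mr := [151, 151]
  dr := 3
  sr := [1]

def tqG2_0 : List ℤ := [1, 0, 0, 1]

def tchG2 : List (ℕ × OT × List ℤ) := [(0, ttG2_0, tqG2_0)]

theorem tchk_G2 : chkChainT tG2 1 (fun k => troG2.getD k []) 2 (List.range 1) tchG2 = true := by decide +kernel

theorem tpol_G2 : eqLI (lpmul (lpprod [lpM 1]) (headQ tchG2)) (lpprod [lpM 1, lpP 3]) = true := by decide +kernel

end CfsgLib.Chev
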