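import Cfsg.Agent.LibEvalP

set_option autoImplicit false
set_option linter.unusedSectionVars false
set_option linter.unusedVariables false

/-! The twisted groups of type 2G2 -/

namespace CfsgLib.Chev

open Cfsg.Lie Matrix

theorem exists_frobp (K : Type*) [Field K] [Finite K] (p m : ℕ) [Fact p.Prime] [CharP K p] : ∃ f : K ≃+* K, ∀ t, f t = t ^ (p ^ m) := by
  let f0 : K →+* K := iterateFrobenius K p m
  exact ⟨RingEquiv.ofBijective f0 (Finite.injective_iff_bijective.1 f0.injective), fun t => rfl⟩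

theorem perf_of_char (K : Type*) [Field K] [Finite K] (p : ℕ) [Fact p.Prime] [CharP K p] : ∀ x : K, ∃ y : K, y ^ p = x := by
  obtain ⟨f, hf⟩ := exists_frobp K p 1
  intro x
  refine ⟨f.symm x, ?_⟩
  have := hf (f.symm x)
  rw [pow_one] at this
  rw [← this, f.apply_symm_apply]

theorem charP_of_card {K : Type*} [Field K] [Fintype K] {p n : ℕ} (hp : p.Prime) (hK : Fintype.card K = p ^ n) : CharP K p := by
  rw [CharP.charP_iff_prime_eq_zero hp]
  have h2 : ((Fintype.card K : ℕ) : K) = 0 := Nat.cast_card_eq_zero K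
  rw [hK] at h2
  push_cast at h2
  exact eq_zero_of_pow_eq_zero h2

namespace TwG2

variable {K : Type*} [Field K] [Fintype K] [CharP K 3]

noncomputable def S (f : K ≃+* K) : Tw good3_G2 K :=
  mkTwp good3_G2 tr_G2 (perf_of_char K 3) gdG2_ok chkInv_G2 chkLp_G2 eps_G2 twW_G2 f

def orb (k : ℕ) : List ℕ := troG2.getD k []

theorem OO (f : K ≃+* K) : OrbOK tG2 (S f).rs 1 orb := chkO_sound twO_G2

theorem hn : tG2.n = 12 := rfl
theorem sim0 : tG2.sim 0 = 7 := rfl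
theorem sim1 : tG2.sim 1 = 6 := rfl

/-- abbreviation -/
noncomputable abbrev X (r : ℕ) (t : K) : GL chevG2.Idx K := good3_G2.X r t

theorem hp3 : ((3 : ℕ) : K) = 0 := CharP.cast_eq_zero K 3

/-! relations in characteristic three -/

noncomputable def cmB (a b : ℕ) : Bool := chkWordsP 3 tG2.acc [(a, [((1, 1, 0) : Mon)]), (b, [(1, 0, 1)])] [(b, [((1, 0, 1) : Mon)]), (a, [(1, 1, 0)])]

theorem comm_of (a b : ℕ) (h : cmB a b = true) (t u : K) : Commute (X a t) (X b u) := by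
  have h1 := good3_G2.wd_eq_of_chk2 (hp3 (K := K)) t u h
  have h2 : X a t * X b u = X b u * X a t := by simpa [Good3.wd, pev, mev] using h1
  exact h2

noncomputable def cmL (L : List ℕ) : Bool := L.all fun a => L.all fun b => cmB a b

theorem cm_pos : cmL [8, 9, 10, 11] = true := by decide +kernel
theorem cm_neg : cmL [3, 2, 1, 0] = true := by decide +kernel

theorem comm_pos {a b : ℕ} (ha : a ∈ [8, 9, 10, 11]) (hb : b ∈ [8, 9, 10, 11]) (t u : K) : Commute (X a t) (X b u) := by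
  have := cm_pos
  unfold cmL at this
  rw [List.all_eq_true] at this
  have := this a ha
  rw [List.all_eq_true] at this
  exact comm_of a b (this b hb) t u

theorem comm_neg {a b : ℕ} (ha : a ∈ [3, 2, 1, 0]) (hb : b ∈ [3, 2, 1, 0]) (t u : K) : Commute (X a t) (X b u) := by
  have := cm_neg
  unfold cmL at this
  rw [List.all_eq_true] at this
  have := this a ha
  rw [List.all_eq_true] at this
  exact comm_of a b (this b hb) t u

/-- the basic relation, with variables t and T -/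
theorem rel_chk : chkWordsP 3 tG2.acc [(6, [((1, 1, 0) : Mon)]), (7, [(1, 0, 1)]), (10, [(1, 1, 3)]), (11, [(1, 2, 3)])]
    [(7, [((1, 0, 1) : Mon)]), (6, [(1, 1, 0)]), (8, [(1, 1, 1)]), (9, [(1, 1, 2)])] = true := by decide +kernel

theorem rel (t T : K) : X 6 t * X 7 T * X 10 (t * T ^ 3) * X 11 (t ^ 2 * T ^ 3) = X 7 T * X 6 t * X 8 (t * T) * X 9 (t * T ^ 2) := by
  have h1 := good3_G2.wd_eq_of_chk2 (hp3 (K := K)) t T rel_chk
  simpa [Good3.wd, pev, mev, mul_assoc] using h1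

theorem reln_chk : chkWordsP 3 tG2.acc [(5, [((-1, 1, 0) : Mon)]), (4, [(-1, 0, 1)]), (1, [(-1, 1, 3)]), (0, [(-1, 2, 3)])]
    [(4, [((-1, 0, 1) : Mon)]), (5, [(-1, 1, 0)]), (3, [(-1, 1, 1)]), (2, [(-1, 1, 2)])] = true := by decide +kernel

theorem reln (t T : K) : X 5 (-t) * X 4 (-T) * X 1 (-(t * T ^ 3)) * X 0 (-(t ^ 2 * T ^ 3)) = X 4 (-T) * X 5 (-t) * X 3 (-(t * T)) * X 2 (-(t * T ^ 2)) := by
  have h1 := good3_G2.wd_eq_of_chk2 (hp3 (K := K)) t T reln_chk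
  simpa [Good3.wd, pev, mev, mul_assoc] using h1

/-! the products of the last four root elements -/

/-- elements of the last four root subgroups -/
noncomputable def R8 (a b c d : K) : GL chevG2.Idx K := X 8 a * X 9 b * X 10 c * X 11 d
noncomputable def R8n (a b c d : K) : GL chevG2.Idx K := X 3 a * X 2 b * X 1 c * X 0 d

theorem R8_mul (a b c d a' b' c' d' : K) : R8 a b c d * R8 a' b' c' d' = R8 (a + a') (b + b') (c + c') (d + d') := by
  unfold R8
  have c1 := (comm_pos (a := 11) (b := 8) (by decide) (by decide) d a').eq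
  have c2 := (comm_pos (a := 10) (b := 8) (by decide) (by decide) c a').eq
  have c3 := (comm_pos (a := 9) (b := 8) (by decide) (by decide) b a').eq
  have c4 := (comm_pos (a := 11) (b := 9) (by decide) (by decide) d b').eq
  have c5 := (comm_pos (a := 10) (b := 9) (by decide) (by decide) c b').eq
  have c6 := (comm_pos (a := 11) (b := 10) (by decide) (by decide) d c').eq
  calc X 8 a * X 9 b * X 10 c * X 11 d * (X 8 a' * X 9 b' * X 10 c' * X 11 d')
      = X 8 a * X 9 b * X 10 c * (X 11 d * X 8 a') * X 9 b' * X 10 c' * X 11 d' := by simp only [mul_assoc]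
    _ = X 8 a * X 9 b * (X 10 c * X 8 a') * (X 11 d * X 9 b') * X 10 c' * X 11 d' := by rw [c1]; simp only [mul_assoc]
    _ = X 8 a * (X 9 b * X 8 a') * (X 10 c * X 9 b') * (X 11 d * X 10 c') * X 11 d' := by rw [c2, c4]; simp only [mul_assoc]
    _ = X 8 a * X 8 a' * X 9 b * X 9 b' * X 10 c * X 10 c' * X 11 d * X 11 d' := by rw [c3, c5, c6]; simp only [mul_assoc]
    _ = _ := by
      unfold X
      rw [good3_G2.X_add, good3_G2.X_add, good3_G2.X_add, good3_G2.X_add]; simp only [mul_assoc]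

theorem R8n_mul (a b c d a' b' c' d' : K) : R8n a b c d * R8n a' b' c' d' = R8n (a + a') (b + b') (c + c') (d + d') := by
  unfold R8n
  have c1 := (comm_neg (a := 0) (b := 3) (by decide) (by decide) d a').eq
  have c2 := (comm_neg (a := 1) (b := 3) (by decide) (by decide) c a').eq
  have c3 := (comm_neg (a := 2) (b := 3) (by decide) (by decide) b a').eq
  have c4 := (comm_neg (a := 0) (b := 2) (by decide) (by decide) d b').eq
  have c5 := (comm_neg (a := 1) (b := 2) (by decide) (by decide) c b').eq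
  have c6 := (comm_neg (a := 0) (b := 1) (by decide) (by decide) d c').eq
  calc X 3 a * X 2 b * X 1 c * X 0 d * (X 3 a' * X 2 b' * X 1 c' * X 0 d')
      = X 3 a * X 2 b * X 1 c * (X 0 d * X 3 a') * X 2 b' * X 1 c' * X 0 d' := by simp only [mul_assoc]
    _ = X 3 a * X 2 b * (X 1 c * X 3 a') * (X 0 d * X 2 b') * X 1 c' * X 0 d' := by rw [c1]; simp only [mul_assoc]
    _ = X 3 a * (X 2 b * X 3 a') * (X 1 c * X 2 b') * (X 0 d * X 1 c') * X 0 d' := by rw [c2, c4]; simp only [mul_assoc]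
    _ = X 3 a * X 3 a' * X 2 b * X 2 b' * X 1 c * X 1 c' * X 0 d * X 0 d' := by rw [c3, c5, c6]; simp only [mul_assoc]
    _ = _ := by
      unfold X
      rw [good3_G2.X_add, good3_G2.X_add, good3_G2.X_add, good3_G2.X_add]; simp only [mul_assoc]

theorem R8_zero : R8 (0 : K) 0 0 0 = 1 := by
  unfold R8 X; simp only [good3_G2.X_zero, mul_one]
theorem R8n_zero : R8n (0 : K) 0 0 0 = 1 := by
  unfold R8n X; simp only [good3_G2.X_zero, mul_one]

theorem rel' (t T : K) : X 6 t * X 7 T * R8 0 0 (t * T ^ 3) (t ^ 2 * T ^ 3) = X 7 T * X 6 t * R8 (t * T) (t * T ^ 2) 0 0 := by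
  have := rel t T
  unfold R8
  rw [show X 8 (0 : K) = 1 from good3_G2.X_zero 8, show X 9 (0 : K) = 1 from good3_G2.X_zero 9, show X 10 (0 : K) = 1 from good3_G2.X_zero 10,
    show X 11 (0 : K) = 1 from good3_G2.X_zero 11]
  simpa [mul_assoc] using this

theorem reln' (t T : K) : X 5 (-t) * X 4 (-T) * R8n 0 0 (-(t * T ^ 3)) (-(t ^ 2 * T ^ 3)) = X 4 (-T) * X 5 (-t) * R8n (-(t * T)) (-(t * T ^ 2)) 0 0 := by
  have := reln t T
  unfold R8n
  rw [show X 3 (0 : K) = 1 from good3_G2.X_zero 3, show X 2 (0 : K) = 1 from good3_G2.X_zero 2, show X 1 (0 : K) = 1 from good3_G2.X_zero 1,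
    show X 0 (0 : K) = 1 from good3_G2.X_zero 0]
  simpa [mul_assoc] using this

section
variable {m : ℕ} {f : K ≃+* K} (hf : ∀ t, f t = t ^ (3 ^ m)) (hK : Fintype.card K = 3 ^ (2 * m + 1))

/-- the elements of the twisted group in U -/
noncomputable def uW (f : K ≃+* K) (t u v : K) : GL chevG2.Idx K := X 7 (f t) * X 6 t * R8 (t * f t + f u) (t * f t ^ 2 + f v) u v
noncomputable def vW (f : K ≃+* K) (t u v : K) : GL chevG2.Idx K := X 4 (-f t) * X 5 (-t) * R8n (-(t * f t + f u)) (-(t * f t ^ 2 + f v)) (-u) (-v)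

include hf in
theorem uW_eq (t u v : K) : uW f t u v = good3_G2.wd (reeWordU (3 ^ m) t u v) := by
  unfold uW reeWordU R8
  rw [hf, hf, hf]
  have e1 : t * t ^ 3 ^ m = t ^ (3 ^ m + 1) := by ring
  have e2 : t * (t ^ 3 ^ m) ^ 2 = t ^ (2 * 3 ^ m + 1) := by rw [← pow_mul]; ring
  rw [e1, e2]
  simp only [Good3.wd, List.map_cons, List.map_nil, List.prod_cons, List.prod_nil, mul_one, mul_assoc]
  rfl

include hf in
theorem vW_eq (t u v : K) : vW f t u v = good3_G2.wd (reeWordV (3 ^ m) t u v) := by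
  unfold vW reeWordV ChevalleyDatum.negWord reeWordU R8n
  rw [hf, hf, hf]
  have e1 : t * t ^ 3 ^ m = t ^ (3 ^ m + 1) := by ring
  have e2 : t * (t ^ 3 ^ m) ^ 2 = t ^ (2 * 3 ^ m + 1) := by rw [← pow_mul]; ring
  rw [e1, e2]
  simp only [Good3.wd, List.map_cons, List.map_nil, List.prod_cons, List.prod_nil, mul_one, mul_assoc]
  rfl

include hf in
theorem uW_mem (t u v : K) : uW f t u v ∈ twistedG2 K (3 ^ m) := by
  rw [uW_eq hf]; exact good3_G2.wd_mem ⟨t, u, v, Or.inl rfl⟩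
include hf in
theorem vW_mem (t u v : K) : vW f t u v ∈ twistedG2 K (3 ^ m) := by
  rw [vW_eq hf]; exact good3_G2.wd_mem ⟨t, u, v, Or.inr rfl⟩

include hf hK in
theorem ff3 (t : K) : f (f t) ^ 3 = t := by
  have : 3 ^ m * (3 ^ m * 3) = 3 ^ (2 * m + 1) := by rw [pow_succ, two_mul, pow_add, mul_assoc]
  rw [hf, hf, ← pow_mul, ← pow_mul, this, ← hK, FiniteField.pow_card]

/-! action of the automorphism on root elements -/

theorem lam_vals : gdG2.lam 7 = 3 ∧ gdG2.lam 6 = 1 ∧ gdG2.lam 8 = 3 ∧ gdG2.lam 9 = 3 ∧ gdG2.lam 10 = 1 ∧ gdG2.lam 11 = 1 ∧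
    gdG2.lam 4 = 3 ∧ gdG2.lam 5 = 1 ∧ gdG2.lam 3 = 3 ∧ gdG2.lam 2 = 3 ∧ gdG2.lam 1 = 1 ∧ gdG2.lam 0 = 1 := by decide +kernel

theorem rho_vals : gdG2.rho 7 = 6 ∧ gdG2.rho 6 = 7 ∧ gdG2.rho 8 = 10 ∧ gdG2.rho 9 = 11 ∧ gdG2.rho 10 = 8 ∧ gdG2.rho 11 = 9 ∧
    gdG2.rho 4 = 5 ∧ gdG2.rho 5 = 4 ∧ gdG2.rho 3 = 1 ∧ gdG2.rho 2 = 0 ∧ gdG2.rho 1 = 3 ∧ gdG2.rho 0 = 2 := by decide +kernel

theorem sX {r s k : ℕ} (hr : r < 12) (h1 : gdG2.rho r = s) (h2 : gdG2.lam r = k) (t : K) : (S f).s (X r t) = X s (f t ^ k) := by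
  have := (S f).s_X (r := r) hr t
  rw [show (S f).G = gdG2 from rfl, eps_G2 r hr, Int.cast_one, one_mul, h1, h2] at this
  exact this

theorem X_mem' {r : ℕ} (hr : r < 12) (t : K) : X r t ∈ chevG2.group K := Tw.X_mem (g := good3_G2) hr t

theorem R8_mem (a b c d : K) : R8 a b c d ∈ chevG2.group K :=
  Subgroup.mul_mem _ (Subgroup.mul_mem _ (Subgroup.mul_mem _ (X_mem' (by decide) _) (X_mem' (by decide) _)) (X_mem' (by decide) _)) (X_mem' (by decide) _)
theorem R8n_mem (a b c d : K) : R8n a b c d ∈ chevG2.group K :=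
  Subgroup.mul_mem _ (Subgroup.mul_mem _ (Subgroup.mul_mem _ (X_mem' (by decide) _) (X_mem' (by decide) _)) (X_mem' (by decide) _)) (X_mem' (by decide) _)

theorem s_R8 (a b c d : K) : (S f).s (R8 a b c d) = R8 (f c) (f d) (f a ^ 3) (f b ^ 3) := by
  obtain ⟨l7, l6, l8, l9, l10, l11, _⟩ := lam_vals
  obtain ⟨r7, r6, r8, r9, r10, r11, _⟩ := rho_vals
  have m8 := X_mem' (r := 8) (by decide) a
  have m9 := X_mem' (r := 9) (by decide) b
  have m10 := X_mem' (r := 10) (by decide) c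
  have m11 := X_mem' (r := 11) (by decide) d
  have e : (S f).s (R8 a b c d) = X 10 (f a ^ 3) * X 11 (f b ^ 3) * X 8 (f c) * X 9 (f d) := by
    unfold R8
    rw [(S f).s_mul (Subgroup.mul_mem _ (Subgroup.mul_mem _ m8 m9) m10) m11, (S f).s_mul (Subgroup.mul_mem _ m8 m9) m10, (S f).s_mul m8 m9,
      sX (by decide) r8 l8, sX (by decide) r9 l9, sX (by decide) r10 l10, sX (by decide) r11 l11, pow_one, pow_one]
  rw [e]
  have e1 : X 10 (f a ^ 3) * X 11 (f b ^ 3) = R8 0 0 (f a ^ 3) (f b ^ 3) := by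
    unfold R8 X; simp only [good3_G2.X_zero, one_mul]
  have e2 : X 8 (f c) * X 9 (f d) = R8 (f c) (f d) 0 0 := by
    unfold R8 X; simp only [good3_G2.X_zero, mul_one]
  rw [mul_assoc (X 10 _ * X 11 _), e1, e2, R8_mul]
  simp

theorem s_R8n (a b c d : K) : (S f).s (R8n a b c d) = R8n (f c) (f d) (f a ^ 3) (f b ^ 3) := by
  obtain ⟨_, _, _, _, _, _, l4, l5, l3, l2, l1, l0⟩ := lam_vals
  obtain ⟨_, _, _, _, _, _, r4, r5, r3, r2, r1, r0⟩ := rho_vals
  have m8 := X_mem' (r := 3) (by decide) a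
  have m9 := X_mem' (r := 2) (by decide) b
  have m10 := X_mem' (r := 1) (by decide) c
  have m11 := X_mem' (r := 0) (by decide) d
  have e : (S f).s (R8n a b c d) = X 1 (f a ^ 3) * X 0 (f b ^ 3) * X 3 (f c) * X 2 (f d) := by
    unfold R8n
    rw [(S f).s_mul (Subgroup.mul_mem _ (Subgroup.mul_mem _ m8 m9) m10) m11, (S f).s_mul (Subgroup.mul_mem _ m8 m9) m10, (S f).s_mul m8 m9,
      sX (by decide) r3 l3, sX (by decide) r2 l2, sX (by decide) r1 l1, sX (by decide) r0 l0, pow_one, pow_one]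
  rw [e]
  have e1 : X 1 (f a ^ 3) * X 0 (f b ^ 3) = R8n 0 0 (f a ^ 3) (f b ^ 3) := by
    unfold R8n X; simp only [good3_G2.X_zero, one_mul]
  have e2 : X 3 (f c) * X 2 (f d) = R8n (f c) (f d) 0 0 := by
    unfold R8n X; simp only [good3_G2.X_zero, mul_one]
  rw [mul_assoc (X 1 _ * X 0 _), e1, e2, R8n_mul]
  simp

include hf hK in
theorem uW_Fx (t u v : K) : uW f t u v ∈ (S f).Fx := by
  obtain ⟨l7, l6, _⟩ := lam_vals
  obtain ⟨r7, r6, _⟩ := rho_vals
  have m7 := X_mem' (r := 7) (by decide) (f t)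
  have m6 := X_mem' (r := 6) (by decide) t
  refine ⟨Subgroup.mul_mem _ (Subgroup.mul_mem _ m7 m6) (R8_mem _ _ _ _), ?_⟩
  unfold uW
  rw [(S f).s_mul (Subgroup.mul_mem _ m7 m6) (R8_mem _ _ _ _), (S f).s_mul m7 m6, sX (by decide) r7 l7, sX (by decide) r6 l6, s_R8, ff3 hf hK, pow_one]
  have h := rel' t (f t)
  have e1 : f (t * f t + f u) ^ 3 = t * f t ^ 3 + u := by
    rw [map_add, map_mul]
    have : (f t * f (f t) + f (f u)) ^ 3 = (f t * f (f t)) ^ 3 + (f (f u)) ^ 3 := add_pow_char _ _ 3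
    rw [this, mul_pow, ff3 hf hK, ff3 hf hK]; ring
  have e2 : f (t * f t ^ 2 + f v) ^ 3 = t ^ 2 * f t ^ 3 + v := by
    rw [map_add, map_mul, map_pow]
    have : (f t * f (f t) ^ 2 + f (f v)) ^ 3 = (f t * f (f t) ^ 2) ^ 3 + (f (f v)) ^ 3 := add_pow_char _ _ 3
    rw [this, mul_pow, ff3 hf hK, ← pow_mul, mul_comm 2 3, pow_mul, ff3 hf hK]; ring
  rw [e1, e2]
  have e3 : R8 (f u) (f v) (t * f t ^ 3 + u) (t ^ 2 * f t ^ 3 + v) = R8 0 0 (t * f t ^ 3) (t ^ 2 * f t ^ 3) * R8 (f u) (f v) u v := by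
    rw [R8_mul, zero_add, zero_add]
  have e4 : R8 (t * f t + f u) (t * f t ^ 2 + f v) u v = R8 (t * f t) (t * f t ^ 2) 0 0 * R8 (f u) (f v) u v := by
    rw [R8_mul, zero_add, zero_add]
  rw [e3, e4, ← mul_assoc, h, mul_assoc]

include hf hK in
theorem vW_Fx (t u v : K) : vW f t u v ∈ (S f).Fx := by
  obtain ⟨_, _, _, _, _, _, l4, l5, _⟩ := lam_vals
  obtain ⟨_, _, _, _, _, _, r4, r5, _⟩ := rho_vals
  have m7 := X_mem' (r := 4) (by decide) (-f t)
  have m6 := X_mem' (r := 5) (by decide) (-t)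
  refine ⟨Subgroup.mul_mem _ (Subgroup.mul_mem _ m7 m6) (R8n_mem _ _ _ _), ?_⟩
  unfold vW
  rw [(S f).s_mul (Subgroup.mul_mem _ m7 m6) (R8n_mem _ _ _ _), (S f).s_mul m7 m6, sX (by decide) r4 l4, sX (by decide) r5 l5, s_R8n, pow_one]
  have h := reln' t (f t)
  have o3 : ∀ x : K, (-x) ^ 3 = -(x ^ 3) := fun x => Odd.neg_pow (by decide) x
  rw [map_neg, map_neg, map_neg, map_neg, map_neg, map_neg, o3, o3, o3, ff3 hf hK]
  have e1 : f (t * f t + f u) ^ 3 = t * f t ^ 3 + u := by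
    rw [map_add, map_mul]
    have : (f t * f (f t) + f (f u)) ^ 3 = (f t * f (f t)) ^ 3 + (f (f u)) ^ 3 := add_pow_char _ _ 3
    rw [this, mul_pow, ff3 hf hK, ff3 hf hK]; ring
  have e2 : f (t * f t ^ 2 + f v) ^ 3 = t ^ 2 * f t ^ 3 + v := by
    rw [map_add, map_mul, map_pow]
    have : (f t * f (f t) ^ 2 + f (f v)) ^ 3 = (f t * f (f t) ^ 2) ^ 3 + (f (f v)) ^ 3 := add_pow_char _ _ 3
    rw [this, mul_pow, ff3 hf hK, ← pow_mul, mul_comm 2 3, pow_mul, ff3 hf hK]; ring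
  rw [e1, e2]
  have e3 : R8n (-f u) (-f v) (-(t * f t ^ 3 + u)) (-(t ^ 2 * f t ^ 3 + v)) = R8n 0 0 (-(t * f t ^ 3)) (-(t ^ 2 * f t ^ 3)) * R8n (-f u) (-f v) (-u) (-v) := by
    rw [R8n_mul, zero_add, zero_add]; congr 1 <;> ring
  have e4 : R8n (-(t * f t + f u)) (-(t * f t ^ 2 + f v)) (-u) (-v) = R8n (-(t * f t)) (-(t * f t ^ 2)) 0 0 * R8n (-f u) (-f v) (-u) (-v) := by
    rw [R8n_mul, zero_add, zero_add]; congr 1 <;> ring
  rw [e3, e4, ← mul_assoc, h, mul_assoc]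

include hf hK in
theorem hE : twistedG2 K (3 ^ m) ≤ (S f).Fx := by
  apply good3_G2.genSub_le
  rintro w ⟨t, u, v, rfl | rfl⟩
  · rw [← uW_eq hf]; exact uW_Fx hf hK t u v
  · rw [← vW_eq hf]; exact vW_Fx hf hK t u v

end

end TwG2
end CfsgLib.Chev
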