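import Cfsg.Agent.LibTwG2
import Cfsg.Agent.LibChevSL2

set_option autoImplicit false
set_option linter.unusedSectionVars false
set_option linter.unusedVariables false

/-! The twisted groups of type 2G2: unipotent elements and the torus -/

namespace CfsgLib.Chev.TwG2

open Cfsg.Lie Matrix CfsgLib.Chev

variable {K : Type*} [Field K] [Fintype K] [CharP K 3]

theorem R8_Uge (a b c d : K) : R8 a b c d ∈ good3_G2.Uge (F := K) 8 :=
  Subgroup.mul_mem _ (Subgroup.mul_mem _ (Subgroup.mul_mem _ (good3_G2.X_mem_Uge (by decide) (by decide) _) (good3_G2.X_mem_Uge (by decide) (by decide) _))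
    (good3_G2.X_mem_Uge (by decide) (by decide) _)) (good3_G2.X_mem_Uge (by decide) (by decide) _)

theorem mem_Uge8 {x : GL chevG2.Idx K} (hx : x ∈ good3_G2.Uge (F := K) 8) : ∃ a b c d, x = R8 a b c d := by
  have h12 : good3_G2.Uge (F := K) 12 = ⊥ := good3_G2.Uge_top le_rfl
  obtain ⟨a, y, hy, rfl⟩ := (good3_G2.Uge_decomp (k := 8) (by decide) (by decide)).1 hx
  obtain ⟨b, z, hz, rfl⟩ := (good3_G2.Uge_decomp (k := 9) (by decide) (by decide)).1 hy
  obtain ⟨c, w, hw, rfl⟩ := (good3_G2.Uge_decomp (k := 10) (by decide) (by decide)).1 hz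
  obtain ⟨d, v, hv, rfl⟩ := (good3_G2.Uge_decomp (k := 11) (by decide) (by decide)).1 hw
  rw [h12, Subgroup.mem_bot] at hv
  subst hv
  exact ⟨a, b, c, d, by unfold R8 X; simp only [mul_assoc, mul_one]⟩

theorem R8_inj {a b c d a' b' c' d' : K} (h : R8 a b c d = R8 a' b' c' d') : a = a' ∧ b = b' ∧ c = c' ∧ d = d' := by
  have m9 : ∀ b c d : K, X 9 b * (X 10 c * X 11 d) ∈ good3_G2.Uge (F := K) (8 + 1) := fun b c d =>
    Subgroup.mul_mem _ (good3_G2.X_mem_Uge (by decide) (by decide) _) (Subgroup.mul_mem _ (good3_G2.X_mem_Uge (by decide) (by decide) _)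
    (good3_G2.X_mem_Uge (by decide) (by decide) _))
  have m10 : ∀ c d : K, X 10 c * X 11 d ∈ good3_G2.Uge (F := K) (9 + 1) := fun c d =>
    Subgroup.mul_mem _ (good3_G2.X_mem_Uge (by decide) (by decide) _) (good3_G2.X_mem_Uge (by decide) (by decide) _)
  have m11 : ∀ d : K, X 11 d ∈ good3_G2.Uge (F := K) (10 + 1) := fun d => good3_G2.X_mem_Uge (by decide) (by decide) _
  unfold R8 at h
  simp only [mul_assoc] at h
  obtain ⟨e1, h⟩ := good3_G2.Uge_unique (k := 8) (by decide) (by decide) (m9 _ _ _) (m9 _ _ _) h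
  obtain ⟨e2, h⟩ := good3_G2.Uge_unique (k := 9) (by decide) (by decide) (m10 _ _) (m10 _ _) h
  obtain ⟨e3, h⟩ := good3_G2.Uge_unique (k := 10) (by decide) (by decide) (m11 _) (m11 _) h
  have h' : X 11 d * 1 = X 11 d' * 1 := by rw [mul_one, mul_one]; exact h
  obtain ⟨e4, _⟩ := good3_G2.Uge_unique (k := 11) (by decide) (by decide) (Subgroup.one_mem _) (Subgroup.one_mem _) h'
  exact ⟨e1, e2, e3, e4⟩

theorem Uge8_Up {i : ℕ} (hi : i < tG2.l) {x : GL chevG2.Idx K} (hx : x ∈ good3_G2.Uge (F := K) 8) : x ∈ good3_G2.Up i := by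
  have : good3_G2.Uge (F := K) 8 ≤ good3_G2.Up i := by
    conv_lhs => unfold Good3.Uge
    rw [Subgroup.closure_le]
    rintro x ⟨r, t, h1, h2, rfl⟩
    apply good3_G2.X_mem_Up _ h2
    · have hi' : i < 2 := hi
      interval_cases i
      · rw [sim0]; omega
      · rw [sim1]; omega
    · show 6 ≤ r
      omega
  exact this hx

/-- the coordinates at the fundamental roots -/
theorem crd0 (a b : K) {z : GL chevG2.Idx K} (hz : z ∈ good3_G2.Uge (F := K) 8) :
    ∃ y ∈ good3_G2.Up 0, X 7 a * X 6 b * z = y * good3_G2.X (tG2.sim 0) a := by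
  refine ⟨X 7 a * (X 6 b * z) * (X 7 a)⁻¹, ?_, ?_⟩
  · apply good3_G2.Up_norm (by decide) (Or.inl sim0.symm)
    exact Subgroup.mul_mem _ (good3_G2.X_mem_Up (by decide) (by decide) (by decide) _) (Uge8_Up (by decide) hz)
  · rw [sim0]; unfold X; group

theorem crd1 (a b : K) {z : GL chevG2.Idx K} (hz : z ∈ good3_G2.Uge (F := K) 8) :
    ∃ y ∈ good3_G2.Up 1, X 7 a * X 6 b * z = y * good3_G2.X (tG2.sim 1) b := by
  refine ⟨X 7 a * (X 6 b * z * (X 6 b)⁻¹), ?_, ?_⟩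
  · exact Subgroup.mul_mem _ (good3_G2.X_mem_Up (by decide) (by decide) (by decide) _)
      (good3_G2.Up_norm (by decide) (Or.inl sim1.symm) _ (Uge8_Up (by decide) hz))
  · rw [sim1]; unfold X; group

theorem swap76 (t T : K) : X 6 t * X 7 T = X 7 T * X 6 t * R8 (t * T) (t * T ^ 2) (-(t * T ^ 3)) (-(t ^ 2 * T ^ 3)) := by
  have h := rel' t T
  have e : R8 (t * T) (t * T ^ 2) (-(t * T ^ 3)) (-(t ^ 2 * T ^ 3)) = R8 (t * T) (t * T ^ 2) 0 0 * R8 0 0 (-(t * T ^ 3)) (-(t ^ 2 * T ^ 3)) := by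
    rw [R8_mul]; simp
  have e2 : R8 0 0 (t * T ^ 3) (t ^ 2 * T ^ 3) * R8 0 0 (-(t * T ^ 3)) (-(t ^ 2 * T ^ 3)) = 1 := by
    rw [R8_mul, ← R8_zero]; congr 1 <;> ring
  rw [e, ← mul_assoc, ← h, mul_assoc, e2, mul_one]

theorem mem_U {x : GL chevG2.Idx K} (hx : x ∈ chevG2.posUnipotent K) : ∃ a b, ∃ z ∈ good3_G2.Uge (F := K) 8, x = X 7 a * X 6 b * z := by
  rw [good3_G2.U_eq] at hx
  obtain ⟨b, y, hy, rfl⟩ := (good3_G2.Uge_decomp (k := 6) (by decide) (by decide)).1 hx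
  obtain ⟨a, z, hz, rfl⟩ := (good3_G2.Uge_decomp (k := 7) (by decide) (by decide)).1 hy
  refine ⟨a, b, R8 (b * a) (b * a ^ 2) (-(b * a ^ 3)) (-(b ^ 2 * a ^ 3)) * z, Subgroup.mul_mem _ (R8_Uge _ _ _ _) hz, ?_⟩
  rw [← mul_assoc, ← mul_assoc]
  have := swap76 b a
  unfold X at this ⊢
  rw [this]

section
variable {m : ℕ} {f : K ≃+* K} (hf : ∀ t, f t = t ^ (3 ^ m)) (hK : Fintype.card K = 3 ^ (2 * m + 1))

theorem uW_U (t u v : K) : uW f t u v ∈ chevG2.posUnipotent K := by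
  have hR : R8 (t * f t + f u) (t * f t ^ 2 + f v) u v ∈ chevG2.posUnipotent K := by
    rw [good3_G2.U_eq]; exact good3_G2.Uge_mono (by decide) (R8_Uge _ _ _ _)
  exact Subgroup.mul_mem _ (Subgroup.mul_mem _ (good3_G2.X_mem_U (by decide) (by decide) _) (good3_G2.X_mem_U (by decide) (by decide) _)) hR

include hf hK in
theorem U_Fx {x : GL chevG2.Idx K} (hx : x ∈ chevG2.posUnipotent K ⊓ (S f).Fx) : ∃ t u v, x = uW f t u v := by
  obtain ⟨a, b, z, hz, rfl⟩ := mem_U hx.1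
  obtain ⟨l7, l6, _⟩ := lam_vals
  -- the coordinates
  obtain ⟨y0, hy0, e0⟩ := crd0 a b hz
  obtain ⟨y1, hy1, e1⟩ := crd1 a b hz
  have h1 := (S f).crd_Fx' (i := 1) (by decide) hx.2 hy1 hy0 e1 e0
  have h1' : a = f b := by
    have e : (S f).G.lam (tG2.sim 1) = 1 := l6
    rw [e, pow_one] at h1
    exact h1
  subst h1'
  -- divide by the element with u = v = 0
  have hw := uW_Fx hf hK b 0 0
  set w := uW f b 0 0 with hwd
  have h2 : w⁻¹ * (X 7 (f b) * X 6 b * z) = (R8 (b * f b) (b * f b ^ 2) 0 0)⁻¹ * z := by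
    rw [hwd]
    unfold uW
    rw [map_zero, add_zero, add_zero]
    group
  have h3 : (R8 (b * f b) (b * f b ^ 2) 0 0)⁻¹ * z ∈ (S f).Fx := by
    rw [← h2]
    exact Subgroup.mul_mem _ (Subgroup.inv_mem _ hw) hx.2
  have h4 : (R8 (b * f b) (b * f b ^ 2) 0 0)⁻¹ * z ∈ good3_G2.Uge (F := K) 8 := Subgroup.mul_mem _ (Subgroup.inv_mem _ (R8_Uge _ _ _ _)) hz
  obtain ⟨c1, c2, c3, c4, e2⟩ := mem_Uge8 h4
  rw [e2] at h3
  have h5 := h3.2
  rw [s_R8] at h5
  obtain ⟨d1, d2, _, _⟩ := R8_inj h5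
  refine ⟨b, c3, c4, ?_⟩
  have h6 : z = R8 (b * f b) (b * f b ^ 2) 0 0 * R8 c1 c2 c3 c4 := by
    rw [← e2]; group
  rw [h6, R8_mul]
  unfold uW
  rw [d1, d2, zero_add, zero_add]

theorem uW_inj {t u v t' u' v' : K} (h : uW f t u v = uW f t' u' v') : t = t' ∧ u = u' ∧ v = v' := by
  obtain ⟨y1, hy1, e1⟩ := crd1 (f t) t (R8_Uge (t * f t + f u) (t * f t ^ 2 + f v) u v)
  obtain ⟨y2, hy2, e2⟩ := crd1 (f t') t' (R8_Uge (t' * f t' + f u') (t' * f t' ^ 2 + f v') u' v')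
  have h1 := good3_G2.crd_uniq (i := 1) (by decide) hy1 hy2 (e1.symm.trans (h.trans e2))
  subst h1
  unfold uW at h
  have h2 := mul_left_cancel h
  obtain ⟨_, _, h3, h4⟩ := R8_inj h2
  exact ⟨rfl, h3, h4⟩

theorem orb_long : ∀ r, tG2.n / 2 ≤ r → r < tG2.n → wact tG2 (orb 0) r < tG2.n / 2 := by
  have h : allB 12 (fun r => !Nat.ble 6 r || Nat.ble (wact tG2 (orb 0) r + 1) 6) = true := by decide +kernel
  intro r h1 h2
  have h3 := (allB_iff _ _).1 h r h2
  have h1' : 6 ≤ r := h1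
  simp only [Bool.or_eq_true, Bool.not_eq_true', Nat.ble_eq] at h3
  rcases h3 with h3 | h3
  · rw [Bool.eq_false_iff, Ne, Nat.ble_eq] at h3; omega
  · show _ < 6
    omega

theorem VW0 : VW tG2 (orb 0) := by
  show ∀ i ∈ orb 0, i < 2
  decide

theorem Um0 : good3_G2.Um (F := K) (orb 0) = chevG2.posUnipotent K := by
  apply le_antisymm (good3_G2.Um_le_U _)
  rw [good3_G2.U_eq]
  unfold Good3.Uge
  rw [Subgroup.closure_le]
  rintro z ⟨r, t, h1, h2, rfl⟩
  exact Subgroup.subset_closure ⟨r, t, h1, h2, orb_long r h1 h2, rfl⟩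

include hf hK in
theorem card_U : Nat.card ↥(chevG2.posUnipotent K ⊓ (S f).Fx) = Fintype.card K ^ 3 := by
  rw [← Nat.card_eq_fintype_card]
  have e : Nat.card (K × K × K) = Nat.card K ^ 3 := by
    rw [Nat.card_prod, Nat.card_prod]; ring
  rw [← e]
  symm
  refine Nat.card_eq_of_bijective (fun p => (⟨uW f p.1 p.2.1 p.2.2, uW_U _ _ _, uW_Fx hf hK _ _ _⟩ : ↥(chevG2.posUnipotent K ⊓ (S f).Fx))) ⟨?_, ?_⟩
  · rintro ⟨t, u, v⟩ ⟨t', u', v'⟩ h
    obtain ⟨h1, h2, h3⟩ := uW_inj (congrArg Subtype.val h)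
    subst h1; subst h2; subst h3; rfl
  · rintro ⟨x, hx⟩
    obtain ⟨t, u, v, rfl⟩ := U_Fx hf hK hx
    exact ⟨(t, u, v), rfl⟩

/-! the torus -/

def NG2 : List (List ℤ) := [[2, 3], [1, 2]]

theorem hN : ∀ i j : Fin tG2.l, ∑ k, tG2.CM i k * mOf NG2 k j = if i = j then ((1 : ℕ) : ℤ) else 0 := by
  show ∀ i j : Fin 2, ∑ k : Fin 2, tG2.CM i k * mOf NG2 k j = if i = j then ((1 : ℕ) : ℤ) else 0
  decide +kernel

theorem hri : RI (S f).rs (fun i => trsG2.getD i 0) tG2.l := by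
  refine ⟨?_, ?_, ?_⟩
  · show ∀ i < 2, trsG2.getD i 0 < 2
    decide
  · show ∀ i < 2, trsG2.getD (trsG2.getD i 0) 0 = i
    decide
  · show ∀ i < 2, trsG2.getD (trsG2.getD i 0) 0 = i
    decide

theorem lift : (S f).Lift (fun i => trsG2.getD i 0) := by
  apply (S f).lift1 hri
  intro a ha i hi
  have := good3_G2.ker_exp hN ha i hi
  rwa [pow_one] at this

/-- the field automorphism on units -/
noncomputable def fu (f : K ≃+* K) : Kˣ →* Kˣ := Units.map (f : K →* K)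

theorem fu_val (c : Kˣ) : (fu f c : K) = f (c : K) := rfl

theorem ph_vals (c : Kˣ) : (S f).ph 7 c = fu f c ^ 3 ∧ (S f).ph 6 c = fu f c := by
  obtain ⟨l7, l6, _⟩ := lam_vals
  constructor
  · unfold Tw.ph
    have : (S f).G.lam 7 = 3 := l7
    rw [this]
    rfl
  · unfold Tw.ph
    have : (S f).G.lam 6 = 1 := l6
    rw [this, pow_one]
    rfl

/-- the elements of the twisted torus -/
noncomputable def hG (f : K ≃+* K) (v : Kˣ) : GL chevG2.Idx K := hel chevG2 tG2 (fun i => if i = 0 then fu f v else v)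

theorem hG_mul (v w : Kˣ) : hG f (v * w) = hG f v * hG f w := by
  unfold hG
  rw [← hel_mul']
  apply hel_congr
  intro i _
  by_cases h : i = 0 <;> simp [h]

include hf hK in
theorem fu3 (v : Kˣ) : fu f (fu f v) ^ 3 = v := by
  apply Units.ext
  rw [Units.val_pow_eq_pow_val, fu_val, fu_val, ff3 hf hK]

include hf hK in
theorem CpU_iff (a : ℕ → Kˣ) : (S f).CpU a ↔ a 0 = fu f (a 1) := by
  unfold Tw.CpU
  have hl : tG2.l = 2 := rfl
  constructor
  · intro h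
    have h1 := h 1 (by decide)
    rw [sim1, (ph_vals _).2] at h1
    exact h1
  · intro h i hi
    rw [hl] at hi
    interval_cases i
    · show a 1 = (S f).ph 7 (a 0)
      rw [(ph_vals _).1, h, fu3 hf hK]
    · show a 0 = (S f).ph 6 (a 1)
      rw [(ph_vals _).2, h]

include hf hK in
theorem H_iff {x : GL chevG2.Idx K} : x ∈ chevG2.diagonalSubgroup K ⊓ (S f).Fx ↔ ∃ v : Kˣ, x = hG f v := by
  rw [(S f).H_Fx hri lift]
  constructor
  · rintro ⟨a, ha, rfl⟩
    rw [CpU_iff hf hK] at ha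
    refine ⟨a 1, hel_congr ?_⟩
    intro i hi
    have hi' : i < 2 := hi
    interval_cases i
    · exact ha
    · rfl
  · rintro ⟨v, rfl⟩
    exact ⟨_, (CpU_iff hf hK _).2 rfl, rfl⟩

theorem hG_inj {v w : Kˣ} (h : hG f v = hG f w) : v = w := by
  unfold hG at h
  have h1 := hel_div_one.2 h
  have h2 := good3_G2.ker_exp hN h1 1 (by decide)
  rw [pow_one] at h2
  exact div_eq_one.1 h2

/-! the monomial element and the torus in the group generated -/

theorem oc810 : ocB tG2 8 10 = true := by decide +kernel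

theorem orL : OrL tG2 [8, 10] := by
  refine ⟨?_, ?_⟩
  · intro r hr
    simp only [List.mem_cons, List.not_mem_nil, or_false] at hr
    rcases hr with rfl | rfl <;> decide
  · rw [List.pairwise_cons]
    refine ⟨?_, List.pairwise_singleton _ _⟩
    intro s hs
    rw [List.mem_singleton] at hs
    subst hs
    exact oc810

theorem n_chk : chkWordsP 3 tG2.acc [(8, [((1, 0, 0) : Mon)]), (3, [(-1, 0, 0)]), (8, [(1, 0, 0)]), (10, [((1, 0, 0) : Mon)]), (1, [(-1, 0, 0)]), (10, [(1, 0, 0)])]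
    [(7, [((1, 0, 0) : Mon)]), (4, [(-1, 0, 0)]), (7, [(1, 0, 0)]), (6, [((1, 0, 0) : Mon)]), (5, [(-1, 0, 0)]), (6, [(1, 0, 0)]),
     (7, [((1, 0, 0) : Mon)]), (4, [(-1, 0, 0)]), (7, [(1, 0, 0)]), (6, [((1, 0, 0) : Mon)]), (5, [(-1, 0, 0)]), (6, [(1, 0, 0)]),
     (7, [((1, 0, 0) : Mon)]), (4, [(-1, 0, 0)]), (7, [(1, 0, 0)]), (6, [((1, 0, 0) : Mon)]), (5, [(-1, 0, 0)]), (6, [(1, 0, 0)])] = true := by decide +kernel

theorem nw_orb : good3_G2.nw (F := K) (orb 0) = good3_G2.PN [8, 10] (fun _ => 1) := by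
  have h := good3_G2.wd_eq_of_chk2 (hp3 (K := K)) 1 1 n_chk
  have e1 : good3_G2.nw (F := K) (orb 0) = good3_G2.nn 0 * good3_G2.nn 1 * good3_G2.nn 0 * good3_G2.nn 1 * good3_G2.nn 0 * good3_G2.nn 1 := by
    show good3_G2.nw (F := K) [0, 1, 0, 1, 0, 1] = _
    simp [Good3.nw, mul_assoc]
  rw [e1]
  simp only [Good3.nn, Good3.Ng, sim0, sim1, hn, Good3.PN, List.map_cons, List.map_nil, List.prod_cons, List.prod_nil]
  simp [Good3.wd, pev, mev, mul_assoc] at h
  simp only [inv_one, mul_one, mul_assoc]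
  exact h.symm

include hf in
theorem PR_mem (u : K) : good3_G2.PR [8, 10] (fun r => if r = 8 then f u else u) ∈ twistedG2 K (3 ^ m) := by
  have h := uW_mem hf 0 u 0
  have e : uW f 0 u 0 = good3_G2.PR [8, 10] (fun r => if r = 8 then f u else u) := by
    unfold uW R8 X Good3.PR
    simp [good3_G2.X_zero]
  rw [e] at h
  exact h

include hf in
theorem PM_mem (u : K) : good3_G2.PM [8, 10] (fun r => if r = 8 then -f u else -u) ∈ twistedG2 K (3 ^ m) := by
  have h := vW_mem hf 0 u 0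
  have e : vW f 0 u 0 = good3_G2.PM [8, 10] (fun r => if r = 8 then -f u else -u) := by
    unfold vW R8n X Good3.PM
    simp [good3_G2.X_zero, hn]
  rw [e] at h
  exact h

include hf in
theorem PN_mem (u : Kˣ) : good3_G2.PN [8, 10] (fun r => if r = 8 then f (u : K) else (u : K)) ∈ twistedG2 K (3 ^ m) := by
  rw [good3_G2.PN_eq orL]
  have h1 := PR_mem hf (u : K)
  have h2 := PM_mem hf ((u : K)⁻¹)
  have e : (fun r : ℕ => -(if r = 8 then f (u : K) else (u : K))⁻¹) = (fun r : ℕ => if r = 8 then -f ((u : K)⁻¹) else -(u : K)⁻¹) := by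
    funext r
    by_cases hr : r = 8 <;> simp [hr]
  rw [e]
  exact Subgroup.mul_mem _ (Subgroup.mul_mem _ h1 h2) h1

include hf in
theorem nw_mem : good3_G2.nw (F := K) (orb 0) ∈ twistedG2 K (3 ^ m) := by
  have h := PN_mem hf (1 : Kˣ)
  rw [nw_orb]
  have e : (fun r : ℕ => if r = 8 then f ((1 : Kˣ) : K) else ((1 : Kˣ) : K)) = (fun _ => 1) := by
    funext r
    by_cases hr : r = 8 <;> simp [hr]
  rw [e] at h
  exact h

theorem c_vals : tG2.c 8 0 = 1 ∧ tG2.c 8 1 = 3 ∧ tG2.c 10 0 = 1 ∧ tG2.c 10 1 = 1 := by decide +kernel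

include hf hK in
theorem hG_sq_aux (u : Kˣ) : hG f (fu f u ^ 3 * u) ∈ twistedG2 K (3 ^ m) := by
  have h1 := PN_mem hf u
  have h2 := PN_mem hf (-1 : Kˣ)
  have e2 : (fun r : ℕ => if r = 8 then f ((-1 : Kˣ) : K) else ((-1 : Kˣ) : K)) = (fun _ => -1) := by
    funext r
    by_cases hr : r = 8 <;> simp [hr]
  rw [e2] at h2
  have h3 := good3_G2.hd_PN orL (fun r => if r = 8 then fu f u else u)
  have e3 : (fun r : ℕ => (((if r = 8 then fu f u else u : Kˣ)) : K)) = (fun r : ℕ => if r = 8 then f (u : K) else (u : K)) := by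
    funext r
    by_cases hr : r = 8 <;> simp [hr, fu_val]
  rw [e3] at h3
  have h4 : hG f (fu f u ^ 3 * u) = ([8, 10].map fun r => hd chevG2 tG2 r (if r = 8 then fu f u else u)).prod := by
    obtain ⟨c1, c2, c3, c4⟩ := c_vals
    simp only [List.map_cons, List.map_nil, List.prod_cons, List.prod_nil, mul_one, if_true]
    rw [if_neg (by decide), Good3.hd_hel, Good3.hd_hel, ← hel_mul']
    unfold hG
    apply hel_congr
    intro i hi
    have hi' : i < 2 := hi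
    interval_cases i
    · rw [if_pos rfl, c1, c3, map_mul, map_pow, fu3 hf hK, zpow_one, zpow_one, mul_comm]
    · rw [if_neg (by decide), c2, c4, zpow_one]
      rfl
  rw [h4, h3]
  exact Subgroup.mul_mem _ h1 h2

include hf in
theorem fu_pow (u : Kˣ) : fu f u = u ^ (3 ^ m) := by
  apply Units.ext
  rw [fu_val, hf, Units.val_pow_eq_pow_val]

include hf hK in
theorem pow_q1 (u : Kˣ) : u ^ (3 ^ (2 * m + 1) - 1) = 1 := by
  have h := pow_card_eq_one' (x := u)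
  rw [Nat.card_units, Nat.card_eq_fintype_card, hK] at h
  exact h

include hf hK in
theorem hG_sq (s : Kˣ) : hG f (s ^ 2) ∈ twistedG2 K (3 ^ m) := by
  have h := hG_sq_aux hf hK (s ^ (3 ^ (m + 1) - 1))
  have e : fu f (s ^ (3 ^ (m + 1) - 1)) ^ 3 * s ^ (3 ^ (m + 1) - 1) = s ^ 2 := by
    rw [fu_pow hf, ← pow_mul, ← pow_mul, ← pow_add]
    have h1 : (3 ^ (m + 1) - 1) * (3 ^ m * 3) + (3 ^ (m + 1) - 1) = 2 + 3 * (3 ^ (2 * m + 1) - 1) := by
      have h2 : 1 ≤ 3 ^ m := Nat.one_le_pow _ _ (by norm_num)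
      have h3 : 3 ^ (m + 1) = 3 * 3 ^ m := by ring
      have h4 : 3 ^ (2 * m + 1) = 3 * (3 ^ m * 3 ^ m) := by rw [pow_succ, two_mul, pow_add]; ring
      obtain ⟨k, hk⟩ := Nat.exists_eq_add_of_le h2
      rw [h3, h4, hk]
      have h5 : 3 * (1 + k) - 1 = 3 * k + 2 := by omega
      have h6 : 3 * ((1 + k) * (1 + k)) - 1 = 3 * (k * k) + 6 * k + 2 := by
        have : 3 * ((1 + k) * (1 + k)) = 3 * (k * k) + 6 * k + 3 := by ring
        omega
      rw [h5, h6]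
      ring
    rw [h1, pow_add, mul_comm 3, pow_mul, pow_q1 hf hK, one_pow, mul_one]
  rw [e] at h
  exact h

/-- the word for the central element of the torus over the prime field -/
theorem h_chk : chkWordsP 3 tG2.acc
    [(2, [((-1, 0, 0) : Mon)]), (0, [(-1, 0, 0)]), (8, [(1, 0, 0)]), (9, [(-1, 0, 0)]), (10, [(1, 0, 0)]), (11, [(-1, 0, 0)]),
      (7, [((1, 0, 0) : Mon)]), (4, [(-1, 0, 0)]), (7, [(1, 0, 0)]), (7, [((1, 0, 0) : Mon)]), (4, [(-1, 0, 0)]), (7, [(1, 0, 0)]),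
      (6, [((1, 0, 0) : Mon)]), (5, [(-1, 0, 0)]), (6, [(1, 0, 0)]), (6, [((1, 0, 0) : Mon)]), (5, [(-1, 0, 0)]), (6, [(1, 0, 0)])]
    [(8, [(-1, 0, 0)]), (10, [(-1, 0, 0)]), (4, [(-1, 0, 0)]), (5, [(-1, 0, 0)]), (3, [(-1, 0, 0)]), (2, [(-1, 0, 0)])] = true := by decide +kernel

theorem hG_neg_one_eq : hG f (-1 : Kˣ) = good3_G2.Ng 7 1 * good3_G2.Ng 7 1 * (good3_G2.Ng 6 1 * good3_G2.Ng 6 1) := by
  rw [good3_G2.Ng_sq (r := 7) (by decide), good3_G2.Ng_sq (r := 6) (by decide)]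
  have e7 : hd chevG2 tG2 7 (-1 : Kˣ) = hel chevG2 tG2 (fun i => if i = 0 then -1 else 1) := by
    rw [Good3.hd_hel]
    apply hel_congr
    intro i hi
    have hi' : i < 2 := hi
    have c : tG2.c 7 0 = 1 ∧ tG2.c 7 1 = 0 := by decide +kernel
    interval_cases i
    · rw [c.1]; simp
    · rw [c.2]; simp
  have e6 : hd chevG2 tG2 6 (-1 : Kˣ) = hel chevG2 tG2 (fun i => if i = 0 then 1 else -1) := by
    rw [Good3.hd_hel]
    apply hel_congr
    intro i hi
    have hi' : i < 2 := hi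
    have c : tG2.c 6 0 = 0 ∧ tG2.c 6 1 = 1 := by decide +kernel
    interval_cases i
    · rw [c.1]; simp
    · rw [c.2]; simp
  rw [e7, e6, ← hel_mul']
  unfold hG
  apply hel_congr
  intro i _
  have : fu f (-1 : Kˣ) = -1 := by
    apply Units.ext
    rw [fu_val]
    simp
  by_cases h : i = 0 <;> simp [h, this]

include hf in
theorem hG_neg_one : hG f (-1 : Kˣ) ∈ twistedG2 K (3 ^ m) := by
  have h := good3_G2.wd_eq_of_chk2 (hp3 (K := K)) 1 1 h_chk
  have h1 := uW_mem hf 0 1 (-1)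
  have h2 := vW_mem hf 0 0 1
  have h3 := uW_mem hf 0 (-1) 0
  have h4 := vW_mem hf 1 0 0
  have e : hG f (-1 : Kˣ) = (vW f 0 0 1 * uW f 0 1 (-1))⁻¹ * (uW f 0 (-1) 0 * vW f 1 0 0) := by
    rw [eq_inv_mul_iff_mul_eq, hG_neg_one_eq]
    simp [Good3.wd, pev, mev, mul_assoc] at h
    have e1 : vW f 0 0 1 = X 2 (-1) * X 0 (-1) := by
      unfold vW R8n X
      simp [good3_G2.X_zero]
    have e2 : uW f 0 1 (-1) = X 8 1 * (X 9 (-1) * (X 10 1 * X 11 (-1))) := by
      unfold uW R8 X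
      simp [good3_G2.X_zero, mul_assoc]
    have e3 : uW f 0 (-1) 0 = X 8 (-1) * X 10 (-1) := by
      unfold uW R8 X
      simp [good3_G2.X_zero]
    have e4 : vW f 1 0 0 = X 4 (-1) * (X 5 (-1) * (X 3 (-1) * X 2 (-1))) := by
      unfold vW R8n X
      simp [good3_G2.X_zero, mul_assoc]
    rw [e1, e2, e3, e4]
    unfold X Good3.Ng
    simp only [mul_assoc, inv_one, hn]
    exact h
  rw [e]
  exact Subgroup.mul_mem _ (Subgroup.inv_mem _ (Subgroup.mul_mem _ h2 h1)) (Subgroup.mul_mem _ h3 h4)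

include hf hK in
theorem hG_mem (v : Kˣ) : hG f v ∈ twistedG2 K (3 ^ m) := by
  -- v is plus or minus a square
  have hmod : ∀ k : ℕ, 3 ^ (2 * k + 1) % 4 = 3 := by
    intro k
    induction k with
    | zero => rfl
    | succ k ih =>
      have : 3 ^ (2 * (k + 1) + 1) = 9 * 3 ^ (2 * k + 1) := by ring
      rw [this, Nat.mul_mod, ih]
  have hq := hmod m
  set q := 3 ^ (2 * m + 1) with hqd
  have h1 : (v ^ ((q - 1) / 2)) ^ 2 = 1 := by
    rw [← pow_mul]
    have : (q - 1) / 2 * 2 = q - 1 := by omega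
    rw [this]
    exact pow_q1 hf hK v
  have h2 : v ^ ((q - 1) / 2) = 1 ∨ v ^ ((q - 1) / 2) = -1 := by
    have h3 := congrArg Units.val h1
    rw [Units.val_pow_eq_pow_val, Units.val_one, pow_two] at h3
    rcases mul_self_eq_one_iff.1 h3 with h | h
    · exact Or.inl (Units.ext h)
    · exact Or.inr (Units.ext (by rw [h]; simp))
  have h3 : (v ^ ((q + 1) / 4)) ^ 2 = v * v ^ ((q - 1) / 2) := by
    rw [← pow_mul, ← pow_succ']
    congr 1
    omega
  rcases h2 with h | h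
  · rw [h, mul_one] at h3
    rw [← h3]
    exact hG_sq hf hK _
  · rw [h] at h3
    have h4 : v = -1 * (v ^ ((q + 1) / 4)) ^ 2 := by
      rw [h3]; simp
    rw [h4, hG_mul]
    exact Subgroup.mul_mem _ (hG_neg_one hf) (hG_sq hf hK _)

include hf hK in
theorem hH : chevG2.diagonalSubgroup K ⊓ (S f).Fx ≤ twistedG2 K (3 ^ m) := by
  intro x hx
  obtain ⟨v, rfl⟩ := (H_iff hf hK).1 hx
  exact hG_mem hf hK v

include hf hK in
theorem R : TwR2 (S f) 1 orb (twistedG2 K (3 ^ m)) (Fintype.card K) 2 where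
  O := OO f
  hE := hE hf hK
  hn := by
    intro k hk
    have : k = 0 := by omega
    subst this
    exact ⟨1, Subgroup.one_mem _, by rw [mul_one]; exact nw_mem hf⟩
  hX := by
    intro k hk
    have : k = 0 := by omega
    subst this
    rw [Um0]
    intro x hx
    obtain ⟨t, u, v, rfl⟩ := U_Fx hf hK hx
    exact uW_mem hf t u v
  hH := hH hf hK
  hc := by
    intro k hk
    have : k = 0 := by omega
    subst this
    exact ⟨3, rfl, by rw [Um0]; exact card_U hf hK⟩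
  hδ := two_pos
  hx := by
    intro k hk
    have : k = 0 := by omega
    subst this
    rw [Um0]
    intro i hi
    have hi' : i ∈ [0, 1, 0, 1, 0, 1] := hi
    simp only [List.mem_cons, List.not_mem_nil, or_false] at hi'
    refine ⟨uW f 1 0 0, ⟨uW_U _ _ _, uW_Fx hf hK _ _ _⟩, 1, one_ne_zero, ?_⟩
    have h0 := crd0 (f 1) 1 (R8_Uge (1 * f 1 + f 0) (1 * f 1 ^ 2 + f 0) 0 0)
    have h1 := crd1 (f 1) 1 (R8_Uge (1 * f 1 + f 0) (1 * f 1 ^ 2 + f 0) 0 0)
    rcases hi' with rfl | rfl | rfl | rfl | rfl | rfl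
    · obtain ⟨y, hy, e⟩ := h0
      exact ⟨y, hy, by rw [map_one] at e; unfold uW; rw [map_one]; exact e⟩
    · obtain ⟨y, hy, e⟩ := h1
      exact ⟨y, hy, e⟩
    · obtain ⟨y, hy, e⟩ := h0
      exact ⟨y, hy, by rw [map_one] at e; unfold uW; rw [map_one]; exact e⟩
    · obtain ⟨y, hy, e⟩ := h1
      exact ⟨y, hy, e⟩
    · obtain ⟨y, hy, e⟩ := h0
      exact ⟨y, hy, by rw [map_one] at e; unfold uW; rw [map_one]; exact e⟩
    · obtain ⟨y, hy, e⟩ := h1
      exact ⟨y, hy, e⟩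

end

theorem exists_R {m : ℕ} (hK : Fintype.card K = 3 ^ (2 * m + 1)) : ∃ f : K ≃+* K, (∀ t, f t = t ^ (3 ^ m)) ∧
    TwR2 (S f) 1 orb (twistedG2 K (3 ^ m)) (Fintype.card K) 2 := by
  obtain ⟨f, hf⟩ := exists_frobp K 3 m
  exact ⟨f, hf, R hf hK⟩

end CfsgLib.Chev.TwG2
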