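import Cfsg.Agent.LibTwG
import Cfsg.Agent.LibCox2
import Cfsg.Agent.LibChevCox2

set_option autoImplicit false
set_option linter.unusedSectionVars false
set_option linter.unusedVariables false

/-! The Weyl groups of the twisted groups -/

namespace CfsgLib.Cox

variable {B W : Type*} [Group W]

theorem wp_map_hom {W' : Type*} [Group W'] (ι : W →* W') (s : B → W) (ω : List B) : wp (fun i => ι (s i)) ω = ι (wp s ω) := by
  induction ω with
  | nil => simp
  | cons i ω ih => rw [wp_cons, wp_cons, map_mul, ih]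

theorem wp_reindex {B' : Type*} (e : B' → B) (s : B → W) (ω : List B') : wp (fun i => s (e i)) ω = wp s (ω.map e) := by
  unfold wp
  rw [List.map_map]
  rfl

theorem Exch.map {W' : Type*} [Group W'] {s : B → W} (E : Exch s) (ι : W →* W') (hι : Function.Injective ι) : Exch (fun i => ι (s i)) where
  sq := fun i => by
    show ι (s i) * ι (s i) = 1
    rw [← map_mul, E.sq, map_one]
  ex := by
    have hred : ∀ ω : List B, Red (fun i => ι (s i)) ω ↔ Red s ω := by
      intro ω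
      unfold Red
      apply forall_congr'
      intro ω'
      rw [wp_map_hom, wp_map_hom, hι.eq_iff]
    intro i ω h1 h2
    rw [hred] at h1 h2
    obtain ⟨ω1, j, ω2, h3, h4⟩ := E.ex i ω h1 h2
    refine ⟨ω1, j, ω2, h3, ?_⟩
    rw [wp_map_hom]
    show ι (s i) * ι (wp s ω1) = ι (wp s ω1) * ι (s j)
    rw [← map_mul, ← map_mul, h4]

theorem Exch.reindex {B' : Type*} {s : B → W} (E : Exch s) (e : B' → B) (he : Function.Bijective e) : Exch (fun i => s (e i)) where
  sq := fun i => E.sq _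
  ex := by
    obtain ⟨he1, he2⟩ := he
    have hlift : ∀ ω : List B, ∃ ω' : List B', ω'.map e = ω := by
      intro ω
      induction ω with
      | nil => exact ⟨[], rfl⟩
      | cons a ω ih =>
        obtain ⟨ω', rfl⟩ := ih
        obtain ⟨a', rfl⟩ := he2 a
        exact ⟨a' :: ω', rfl⟩
    have hred : ∀ ω : List B', Red (fun i => s (e i)) ω ↔ Red s (ω.map e) := by
      intro ω
      unfold Red
      constructor
      · intro h v hv
        obtain ⟨v', rfl⟩ := hlift v
        have := h v' (by rw [wp_reindex e s v', wp_reindex e s ω, hv])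
        rwa [List.length_map, List.length_map]
      · intro h v hv
        rw [wp_reindex e s v, wp_reindex e s ω] at hv
        have := h _ hv
        rwa [List.length_map, List.length_map] at this
    intro i ω h1 h2
    rw [hred] at h1 h2
    obtain ⟨ω1, j, ω2, h3, h4⟩ := E.ex (e i) (ω.map e) h1 h2
    rw [List.map_eq_append_iff] at h3
    obtain ⟨ν1, ν', rfl, h5, h6⟩ := h3
    rw [List.map_eq_cons_iff] at h6
    obtain ⟨j', ν2, rfl, h7, h8⟩ := h6
    refine ⟨ν1, j', ν2, rfl, ?_⟩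
    rw [wp_reindex e s ν1, h5, h7]
    exact h4

end CfsgLib.Cox

namespace CfsgLib.Chev

open Cfsg.Lie Matrix CfsgLib.Cox CfsgLib.BN

namespace TwR2

variable {D : ChevalleyDatum} {T : Tb} {g : Good3 D T} {K : Type*} [Field K] [Fintype K] {S : Tw g K} {m : ℕ} {orb : ℕ → List ℕ}
  {E : Subgroup (GL D.Idx K)} {q δ : ℕ} (R : TwR2 S m orb E q δ)
include R

/-- the action of N¹ on the roots -/
theorem exists_thE : ∃ θ : ↥(D.monomialSubgroup K ⊓ E) →* Equiv.Perm (Fin T.n),
    (∀ (x : ↥(D.monomialSubgroup K ⊓ E)) (w : List ℕ), VW T w → ∀ h ∈ D.diagonalSubgroup K, (x : GL D.Idx K) = g.nw w * h →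
      θ x = g.pw w) ∧ θ.ker = (D.diagonalSubgroup K ⊓ E).subgroupOf (D.monomialSubgroup K ⊓ E) ∧ θ.range = S.Wt m orb Set.univ := by
  obtain ⟨θ0, h1, h2, h3⟩ := g.exists_thN (F := K)
  let ι : ↥(D.monomialSubgroup K ⊓ E) →* ↥(D.monomialSubgroup K) := Subgroup.inclusion inf_le_left
  have hval : ∀ (x : ↥(D.monomialSubgroup K ⊓ E)) (w : List ℕ), VW T w → ∀ h ∈ D.diagonalSubgroup K, (x : GL D.Idx K) = g.nw w * h →
      θ0 (ι x) = g.pw w := fun x w hw h hh e => h1 (ι x) w hw h hh e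
  refine ⟨θ0.comp ι, hval, ?_, ?_⟩
  · ext x
    rw [MonoidHom.mem_ker, Subgroup.mem_subgroupOf]
    have h4 : θ0 (ι x) = 1 ↔ (ι x) ∈ θ0.ker := MonoidHom.mem_ker.symm
    show θ0 (ι x) = 1 ↔ _
    rw [h4, h2, Subgroup.mem_subgroupOf]
    exact ⟨fun h => ⟨h, x.2.2⟩, fun h => h.1⟩
  · ext τ
    rw [S.Wt_iff R.O]
    constructor
    · rintro ⟨x, rfl⟩
      obtain ⟨w, hw, h, hh, e⟩ := S.N_Fx x.2.1 (R.hE x.2.2)
      exact ⟨w, hw, hval x w hw.1 h hh e⟩
    · rintro ⟨w, hw, rfl⟩
      obtain ⟨h, hh, hm⟩ := R.toTwR.exists_rep hw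
      have hN : g.nw w * h ∈ D.monomialSubgroup K := Subgroup.mul_mem _ (g.nw_mem_N hw.1) (Good3.H_le_N hh)
      exact ⟨⟨g.nw w * h, hN, hm⟩, hval _ w hw.1 h hh rfl⟩

/-- exchange condition for the twisted Weyl group -/
theorem exch : Exch (fun k : Fin m => g.pw (orb k)) := by
  obtain ⟨nk, hnk⟩ := R.exists_reps
  obtain ⟨P, hB, hN, hS⟩ := R.exists_BN hnk
  obtain ⟨θ, h1, h2, h3⟩ := R.exists_thE
  -- the injective homomorphism from N/(B ∩ N)
  have hPN : ∀ x : ↥E, x ∈ P.N ↔ (x : GL D.Idx K) ∈ D.monomialSubgroup K := by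
    intro x
    rw [hN, Subgroup.mem_subgroupOf]
    exact ⟨fun h => h.1, fun h => ⟨h, x.2⟩⟩
  have hPB : ∀ x : ↥E, x ∈ P.B ↔ (x : GL D.Idx K) ∈ D.borelSubgroup K := by
    intro x
    rw [hB, Subgroup.mem_subgroupOf]
    exact ⟨fun h => h.1, fun h => ⟨h, x.2⟩⟩
  let α : ↥P.N →* ↥(D.monomialSubgroup K ⊓ E) :=
    { toFun := fun x => ⟨((x : ↥E) : GL D.Idx K), (hPN x).1 x.2, (x : ↥E).2⟩
      map_one' := rfl
      map_mul' := fun x y => rfl }
  have hker : ∀ x : ↥P.N, θ (α x) = 1 ↔ x ∈ (P.B ⊓ P.N).subgroupOf P.N := by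
    intro x
    have h4 : θ (α x) = 1 ↔ α x ∈ θ.ker := MonoidHom.mem_ker.symm
    rw [h4, h2, Subgroup.mem_subgroupOf, Subgroup.mem_subgroupOf]
    constructor
    · intro h
      refine ⟨(hPB _).2 (Good3.H_le_B h.1), x.2⟩
    · intro h
      have h5 : ((x : ↥E) : GL D.Idx K) ∈ D.borelSubgroup K ⊓ D.monomialSubgroup K := ⟨(hPB _).1 h.1, (hPN _).1 h.2⟩
      rw [g.B_inf_N] at h5
      exact ⟨h5, (x : ↥E).2⟩
  have hNorm : ((P.B ⊓ P.N).subgroupOf P.N).Normal := by
    constructor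
    intro x hx n
    rw [Subgroup.mem_subgroupOf] at hx ⊢
    exact ⟨P.conj_mem _ n.2 _ hx, (n * x * n⁻¹).2⟩
  let β : ↥P.N ⧸ (P.B ⊓ P.N).subgroupOf P.N →* Equiv.Perm (Fin T.n) :=
    QuotientGroup.lift _ (θ.comp α) (fun x hx => (hker x).2 hx)
  have hβ : Function.Injective β := by
    rw [injective_iff_map_eq_one]
    intro a
    induction a using QuotientGroup.induction_on with
    | H x =>
      intro h
      rw [QuotientGroup.eq_one_iff]
      exact (hker x).1 h
  have hnkE : ∀ k : Fin m, nk k ∈ E := fun k => (hnk k k.2).1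
  let e : Fin m → P.S := fun k => ⟨⟨nk k, hnkE k⟩, by rw [hS]; exact ⟨k, k.2, rfl⟩⟩
  have hs : ∀ k : Fin m, β (sW P (e k)) = g.pw (orb k) := by
    intro k
    obtain ⟨_, h, hh, e1⟩ := hnk k k.2
    exact h1 _ (orb k) (S.VW_orb R.O k.2) h hh e1
  have he : Function.Bijective e := by
    constructor
    · intro a b hab
      have h4 := congrArg (fun s => β (sW P s)) hab
      simp only [hs] at h4
      exact Fin.ext (S.pw_orb_inj R.O a.2 b.2 h4)
    · rintro ⟨s, hs'⟩
      have hs'' := hs'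
      rw [hS] at hs''
      obtain ⟨k, hk, e1⟩ := hs''
      exact ⟨⟨k, hk⟩, Subtype.ext (Subtype.ext e1.symm)⟩
  have h5 := ((BN.exch P).map β hβ).reindex e he
  have h6 : (fun i => β (sW P (e i))) = fun k : Fin m => g.pw (orb k) := by
    funext k
    exact hs k
  rw [← h6]
  exact h5

theorem wp_fl (ω : List (Fin m)) : wp (fun k : Fin m => g.pw (orb k)) ω = g.pw (Tw.fl orb (ω.map Fin.val)) := by
  induction ω with
  | nil => rfl
  | cons k ω ih => rw [wp_cons, ih, List.map_cons, Tw.fl_cons, Good3.pw_append]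

/-- the Weyl group of the twisted group as a Coxeter group -/
theorem exists_NW {M : CoxeterMatrix (Fin m)} (hM : ∀ i j : Fin m, chkOrd T (orb i ++ orb j) (M i j) = true) :
    ∃ φ : ↥(D.monomialSubgroup K ⊓ E) →* M.Group, Function.Surjective φ ∧
      φ.ker = (D.diagonalSubgroup K ⊓ E).subgroupOf (D.monomialSubgroup K ⊓ E) := by
  obtain ⟨θ, h1, h2, h3⟩ := R.exists_thE
  have hM' : ∀ i j : Fin m, M i j = orderOf (g.pw (orb i) * g.pw (orb j)) := by
    intro i j
    rw [← g.orderOf_pw (hM i j), Good3.pw_append]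
  obtain ⟨ψ, hψ⟩ := exists_hom (M := M) (s := fun k : Fin m => g.pw (orb k)) (fun i j => by rw [hM']; exact pow_orderOf_eq_one _)
  have hinj := lift_injective R.exch hM' ψ hψ
  have hψw : ∀ ω : List (Fin m), ψ (wp M.simple ω) = wp (fun k : Fin m => g.pw (orb k)) ω := by
    intro ω
    induction ω with
    | nil => simp
    | cons i ω ih => rw [wp_cons, wp_cons, map_mul, hψ, ih]
  have hr : ψ.range = S.Wt m orb Set.univ := by
    ext τ
    rw [S.mem_Wt R.O]
    constructor
    · rintro ⟨c, rfl⟩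
      obtain ⟨ω, hω⟩ := M.toCoxeterSystem.wordProd_surjective c
      have hω' : wp M.simple ω = c := by
        rw [← hω]
        unfold wp CoxeterSystem.wordProd
        rw [CoxeterMatrix.toCoxeterSystem_simple]
      refine ⟨ω.map Fin.val, ?_, by rw [← hω', hψw, R.wp_fl]⟩
      intro k hk
      rw [List.mem_map] at hk
      obtain ⟨j, _, rfl⟩ := hk
      exact ⟨Set.mem_univ _, j.2⟩
    · rintro ⟨ks, hks, rfl⟩
      have : ∃ ω : List (Fin m), ω.map Fin.val = ks := by
        clear hψw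
        induction ks with
        | nil => exact ⟨[], rfl⟩
        | cons a ks ih =>
          obtain ⟨ω, rfl⟩ := ih (fun k hk => hks k (List.mem_cons_of_mem _ hk))
          exact ⟨⟨a, (hks a List.mem_cons_self).2⟩ :: ω, rfl⟩
      obtain ⟨ω, rfl⟩ := this
      exact ⟨wp M.simple ω, by rw [hψw, R.wp_fl]⟩
  have hmem : ∀ x, θ x ∈ ψ.range := by
    intro x
    rw [hr, ← h3]
    exact ⟨x, rfl⟩
  let e := MonoidHom.ofInjective hinj
  let φ : ↥(D.monomialSubgroup K ⊓ E) →* M.Group := e.symm.toMonoidHom.comp (θ.codRestrict ψ.range hmem)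
  have hφ : ∀ x, ψ (φ x) = θ x := by
    intro x
    show ((e (e.symm (θ.codRestrict ψ.range hmem x)) : ψ.range) : Equiv.Perm (Fin T.n)) = θ x
    rw [e.apply_symm_apply]
    rfl
  refine ⟨φ, ?_, ?_⟩
  · intro c
    have : ψ c ∈ θ.range := by rw [h3, ← hr]; exact ⟨c, rfl⟩
    obtain ⟨x, hx⟩ := this
    exact ⟨x, hinj (by rw [hφ, hx])⟩
  · rw [← h2]
    ext x
    rw [MonoidHom.mem_ker, MonoidHom.mem_ker, ← hφ]
    constructor
    · intro h; rw [h, map_one]
    · intro h; exact hinj (by rw [h, map_one])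

end TwR2
end CfsgLib.Chev
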