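import Cfsg.Agent.LibTwG2b
import Cfsg.Agent.LibTwN

set_option autoImplicit false
set_option linter.unusedSectionVars false
set_option linter.unusedVariables false

/-! The twisted groups of type 2G2: orders and the Weyl group -/

namespace CfsgLib.Chev.TwG2

open Cfsg.Lie Matrix CfsgLib.Chev

variable {K : Type*} [Field K] [Fintype K] [CharP K 3]

section
variable {m : ℕ} {f : K ≃+* K} (hf : ∀ t, f t = t ^ (3 ^ m)) (hK : Fintype.card K = 3 ^ (2 * m + 1))

/-- the torus as a homomorphism -/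
noncomputable def hGh (f : K ≃+* K) : Kˣ →* GL chevG2.Idx K where
  toFun := hG f
  map_one' := by
    have := hG_mul (f := f) (1 : Kˣ) 1
    rw [mul_one] at this
    exact left_eq_mul.1 this
  map_mul' := hG_mul

include hf hK in
theorem hGh_range : (hGh f).range = chevG2.diagonalSubgroup K ⊓ twistedG2 K (3 ^ m) := by
  ext x
  constructor
  · rintro ⟨v, rfl⟩
    exact ⟨((H_iff hf hK).2 ⟨v, rfl⟩).1, hG_mem hf hK v⟩
  · rintro ⟨h1, h2⟩
    obtain ⟨v, hv⟩ := (H_iff hf hK).1 ⟨h1, hE hf hK h2⟩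
    exact ⟨v, hv.symm⟩

theorem hGh_inj : Function.Injective (hGh f) := fun v w h => hG_inj h

include hf hK in
theorem card_H : Nat.card ↥(chevG2.diagonalSubgroup K ⊓ twistedG2 K (3 ^ m)) = 3 ^ (2 * m + 1) - 1 := by
  rw [← hGh_range hf hK, ← Nat.card_congr (MonoidHom.ofInjective (hGh_inj (f := f))).toEquiv, Nat.card_units, Nat.card_eq_fintype_card, hK]

include hf hK in
theorem cyc_H : IsCyclic ↥(chevG2.diagonalSubgroup K ⊓ twistedG2 K (3 ^ m)) := by
  rw [← hGh_range hf hK]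
  exact isCyclic_of_surjective (MonoidHom.ofInjective (hGh_inj (f := f))) (MonoidHom.ofInjective (hGh_inj (f := f))).surjective

include hf hK in
theorem card_G : Nat.card ↥(twistedG2 K (3 ^ m)) = (3 ^ (2 * m + 1)) ^ 3 * (3 ^ (2 * m + 1) - 1) * ((3 ^ (2 * m + 1)) ^ 3 + 1) := by
  have RR := R hf hK
  obtain ⟨d, hd, hU⟩ := RR.card_UE
  have hd' : d = 3 := by
    have : tG2.n / 2 = 6 := rfl
    omega
  rw [hd', hK] at hU
  have h1 := RR.toTwR.card_E
  have h2 := (S f).WqT_formula RR.O ocnn_G2 two_pos tchk_G2 tpol_G2 ((Fintype.card K : ℕ) : ℤ)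
  have h3 := card_H hf hK
  simp only [List.map_cons, List.map_nil, List.prod_cons, List.prod_nil, lpev_M, lpev_P, mul_one] at h2
  rw [hK] at h1 h2
  set q : ℕ := 3 ^ (2 * m + 1) with hqd
  have hq1 : 1 < q := by rw [hqd]; exact Nat.one_lt_pow (by omega) (by norm_num)
  have c1 : ((q - 1 : ℕ) : ℤ) = (q : ℤ) - 1 := by
    push_cast [Nat.cast_sub hq1.le]; ring
  apply Nat.cast_injective (R := ℤ)
  push_cast
  rw [h1, hU, h3, c1]
  push_cast
  rw [pow_one] at h2
  have h4 : (S f).WqT 1 orb 2 Set.univ (q : ℤ) = (q : ℤ) ^ 3 + 1 := by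
    have hne : (q : ℤ) - 1 ≠ 0 := by
      have : (1 : ℤ) < q := by exact_mod_cast hq1
      omega
    exact mul_left_cancel₀ hne h2
  rw [h4]

include hf hK in
theorem IW_cases {w : List ℕ} (hw : (S f).IW w) : good3_G2.pw w = 1 ∨ good3_G2.pw w = good3_G2.pw (orb 0) := by
  refine (S f).IW_ind (OO f) (P := fun w => good3_G2.pw w = 1 ∨ good3_G2.pw w = good3_G2.pw (orb 0)) ?_ ?_ w hw
  · intro w hw h; exact Or.inl h
  · intro w hw k hk hpos ih w' hw' e
    have hk0 : k = 0 := by omega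
    subst hk0
    rw [e, Good3.pw_append]
    rcases ih with h | h
    · right; rw [h, one_mul]
    · left; rw [h, (S f).orb_sq (OO f) (by decide)]

theorem pw_orb_ne : good3_G2.pw (orb 0) ≠ 1 := by
  intro h
  have h1 := orb_long 6 (by decide) (by decide)
  rw [← good3_G2.pw_val VW0 ⟨6, by decide⟩, h] at h1
  exact absurd h1 (by decide)

include hf hK in
theorem NH : ∃ φ : ↥(chevG2.monomialSubgroup K ⊓ twistedG2 K (3 ^ m)) →* Multiplicative (ZMod 2), Function.Surjective φ ∧
      φ.ker = (chevG2.diagonalSubgroup K ⊓ twistedG2 K (3 ^ m)).subgroupOf (chevG2.monomialSubgroup K ⊓ twistedG2 K (3 ^ m)) := by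
  classical
  have RR := R hf hK
  obtain ⟨θ, h1, h2, h3⟩ := RR.exists_thE
  have hθ : ∀ x, θ x = 1 ∨ θ x = good3_G2.pw (orb 0) := by
    intro x
    have : θ x ∈ θ.range := ⟨x, rfl⟩
    rw [h3, (S f).Wt_iff RR.O] at this
    obtain ⟨w, hw, e⟩ := this
    rw [e]
    exact IW_cases hf hK hw
  have hsq : good3_G2.pw (orb 0) * good3_G2.pw (orb 0) = 1 := (S f).orb_sq (OO f) (by decide)
  have hne := pw_orb_ne
  let φ : ↥(chevG2.monomialSubgroup K ⊓ twistedG2 K (3 ^ m)) →* Multiplicative (ZMod 2) := MonoidHom.mk'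
    (fun x => if θ x = 1 then 1 else Multiplicative.ofAdd 1) (by
    intro x y
    rw [map_mul]
    rcases hθ x with hx | hx <;> rcases hθ y with hy | hy <;> rw [hx, hy]
    · simp
    · simp
    · simp
    · rw [hsq, if_pos rfl, if_neg hne]
      rfl)
  have hφ : ∀ x, φ x = if θ x = 1 then 1 else Multiplicative.ofAdd 1 := fun x => rfl
  refine ⟨φ, ?_, ?_⟩
  · intro c
    have hc : c = 1 ∨ c = Multiplicative.ofAdd 1 := by
      revert c; decide
    rcases hc with rfl | rfl
    · exact ⟨1, map_one _⟩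
    · have h4 : good3_G2.pw (orb 0) ∈ θ.range := by
        rw [h3, (S f).Wt_iff RR.O]
        exact ⟨orb 0, (S f).IW_orb (OO f) (by decide), rfl⟩
      obtain ⟨x, hx⟩ := h4
      exact ⟨x, by rw [hφ, hx, if_neg hne]⟩
  · rw [← h2]
    ext x
    rw [MonoidHom.mem_ker, MonoidHom.mem_ker, hφ]
    constructor
    · intro h
      by_contra hcon
      rw [if_neg hcon] at h
      exact absurd h (by decide)
    · intro h; rw [if_pos h]

end
end CfsgLib.Chev.TwG2
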