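import Cfsg.Agent.LibTwH2
import Cfsg.Agent.LibTwG
import Cfsg.Agent.LibTwN
import Cfsg.Agent.LibChevS
import Cfsg.Agent.LibChevSL2

set_option autoImplicit false
set_option linter.unusedSectionVars false
set_option linter.unusedVariables false

/-! Perfectness and simplicity of the twisted groups -/

namespace CfsgLib.Chev

open Cfsg.Lie Matrix
open scoped commutatorElement

section
variable {G : Type*} [Group G]

theorem comm_top_of_le {E : Subgroup G} (h : E ≤ ⁅E, E⁆) : commutator ↥E = ⊤ := by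
  rw [eq_top_iff]
  intro x _
  have h1 := h x.2
  have h2 : (commutator ↥E).map E.subtype = ⁅E, E⁆ := by
    rw [commutator_def, Subgroup.map_commutator, ← MonoidHom.range_eq_map, Subgroup.range_subtype]
  rw [← h2] at h1
  obtain ⟨y, hy, e⟩ := h1
  have : y = x := Subtype.ext e
  rw [← this]; exact hy

theorem comm_le_self (E : Subgroup G) : ⁅E, E⁆ ≤ E := by
  rw [Subgroup.commutator_le]
  intro a ha b hb
  exact Subgroup.mul_mem _ (Subgroup.mul_mem _ (Subgroup.mul_mem _ ha hb) (Subgroup.inv_mem _ ha)) (Subgroup.inv_mem _ hb)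

theorem comm_conj {E : Subgroup G} {x y : G} (hx : x ∈ E) (hy : y ∈ ⁅E, E⁆) : x * y * x⁻¹ ∈ ⁅E, E⁆ := by
  have e : x * y * x⁻¹ = ⁅x, y⁆ * y := by rw [commutatorElement_def]; group
  rw [e]
  exact Subgroup.mul_mem _ (Subgroup.commutator_mem_commutator hx (comm_le_self E hy)) hy

theorem comm_conj_iff {E : Subgroup G} {x y : G} (hx : x ∈ E) (hy : x * y * x⁻¹ ∈ ⁅E, E⁆) : y ∈ ⁅E, E⁆ := by
  have h := comm_conj (Subgroup.inv_mem _ hx) hy
  have e : x⁻¹ * (x * y * x⁻¹) * x⁻¹⁻¹ = y := by group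
  rwa [e] at h

end

section
variable {D : ChevalleyDatum} {T : Tb} (g : Good3 D T) {F : Type*} [Field F]
include g

/-- the opposite of the group attached to w -/
def Good3.Vm (w : List ℕ) : Subgroup (GL D.Idx F) :=
  Subgroup.closure {x | ∃ (r : ℕ) (t : F), r < T.n / 2 ∧ T.n / 2 ≤ wact T w r ∧ x = g.X r t}

theorem Good3.Vm_conj {w : List ℕ} (hw : VW T w) (h2 : g.pw w * g.pw w = 1) {x : GL D.Idx F} (hx : x ∈ g.Vm w) :
    g.nw w * x * (g.nw w)⁻¹ ∈ g.Um w := by
  have hev := g.even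
  have : g.Vm w ≤ (g.Um w).comap (MulAut.conj (g.nw (F := F) w)).toMonoidHom := by
    conv_lhs => unfold Good3.Vm
    rw [Subgroup.closure_le]
    rintro y ⟨r, t, h1, h3, rfl⟩
    show g.nw w * g.X r t * (g.nw w)⁻¹ ∈ g.Um w
    have hr : r < T.n := by omega
    rw [g.nw_X hw hr]
    refine Subgroup.subset_closure ⟨_, _, h3, g.wact_lt hw hr, ?_, rfl⟩
    have h4 := g.pw_val hw ⟨wact T w r, g.wact_lt hw hr⟩
    have h5 := g.pw_val hw ⟨r, hr⟩
    have h6 : (⟨wact T w r, g.wact_lt hw hr⟩ : Fin T.n) = g.pw w ⟨r, hr⟩ := Fin.ext h5.symm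
    rw [h6, ← Equiv.Perm.mul_apply, h2] at h4
    have h7 : ((g.pw w ⟨r, hr⟩ : Fin T.n) : ℕ) = wact T w r := h5
    show wact T w (wact T w r) < T.n / 2
    have h8 : r = wact T w (wact T w r) := by
      conv_rhs => rw [← h7]
      exact h4
    omega
  exact this hx

theorem Good3.X_mem_Vm {w : List ℕ} {r : ℕ} (h1 : r < T.n / 2) (h2 : T.n / 2 ≤ wact T w r) (t : F) : g.X r t ∈ g.Vm w :=
  Subgroup.subset_closure ⟨r, t, h1, h2, rfl⟩

theorem Good3.X_mem_Um {w : List ℕ} {r : ℕ} (h1 : T.n / 2 ≤ r) (hr : r < T.n) (h2 : wact T w r < T.n / 2) (t : F) : g.X r t ∈ g.Um w :=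
  Subgroup.subset_closure ⟨r, t, h1, hr, h2, rfl⟩

/-- conjugation of a root element by a product of elements of the torus -/
theorem Good3.hdl_X (L : List ℕ) (c : ℕ → Fˣ) {s : ℕ} (hs : s < T.n) (t : F) :
    (L.map fun i => hd D T (T.sim i) (c i)).prod * g.X s t * ((L.map fun i => hd D T (T.sim i) (c i)).prod)⁻¹ =
      g.X s (((L.map fun i => c i ^ T.pair (T.sim i) s).prod : Fˣ) * t) := by
  induction L with
  | nil => simp
  | cons i L ih =>
    rw [List.map_cons, List.prod_cons, List.map_cons, List.prod_cons, Units.val_mul, mul_assoc ((c i ^ T.pair (T.sim i) s : Fˣ) : F),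
      ← g.hd_X (T.sim i) hs, ← ih]
    group

end

namespace TwR

variable {D : ChevalleyDatum} {T : Tb} {g : Good3 D T} {K : Type*} [Field K] {S : Tw g K} {m : ℕ} {orb : ℕ → List ℕ}
  {E : Subgroup (GL D.Idx K)} {q δ : ℕ} (R : TwR S m orb E q δ)
include R

theorem Vm_mem (hpos : ∀ k < m, g.Um (orb k) ⊓ S.Fx ≤ ⁅E, E⁆) {k : ℕ} (hk : k < m) {x : GL D.Idx K} (hx : x ∈ E) (hV : x ∈ g.Vm (orb k)) :
    x ∈ ⁅E, E⁆ := by
  obtain ⟨h', hh', hm'⟩ := R.hn k hk
  have hok := S.VW_orb R.O hk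
  apply comm_conj_iff hm'
  apply hpos k hk
  refine ⟨?_, R.hE (Subgroup.mul_mem _ (Subgroup.mul_mem _ hm' hx) (Subgroup.inv_mem _ hm'))⟩
  have h1 := g.Vm_conj hok (S.orb_sq R.O hk) hV
  have h2 : g.nw (orb k) * h' * (g.nw (orb k))⁻¹ ∈ D.diagonalSubgroup K := g.N_H (g.nw_mem_N hok) hh'
  have h3 := g.Um_H h2 h1
  have e : g.nw (orb k) * h' * x * (g.nw (orb k) * h')⁻¹ =
    g.nw (orb k) * h' * (g.nw (orb k))⁻¹ * (g.nw (orb k) * x * (g.nw (orb k))⁻¹) * (g.nw (orb k) * h' * (g.nw (orb k))⁻¹)⁻¹ := by group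
  rw [e]
  exact h3

end TwR

namespace Tw

variable {D : ChevalleyDatum} {T : Tb} {g : Good3 D T} {K : Type*} [Field K] (S : Tw g K)

/-- check of orthogonality of the pairing -/
def _root_.CfsgLib.Chev.PrOK (T : Tb) (J : List ℕ) : Prop := ∀ i ∈ J, ∀ j ∈ J, T.pair (T.sim i) (T.sim j) = if i = j then 2 else 0

variable {J : List ℕ} (O : Orth T S.rs J)
include O

theorem PJ_conj (hpr : PrOK T J) (c : ℕ → Kˣ) (t : ℕ → K) : (J.map fun i => hd D T (T.sim i) (c i)).prod * S.PJ J t *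
    ((J.map fun i => hd D T (T.sim i) (c i)).prod)⁻¹ = S.PJ J (fun j => (c j : K) ^ 2 * t j) := by
  set h := (J.map fun i => hd D T (T.sim i) (c i)).prod with hh
  have key : ∀ L : List ℕ, (∀ j ∈ L, j ∈ J) → h * S.PJ L t * h⁻¹ = S.PJ L (fun j => (c j : K) ^ 2 * t j) := by
    intro L
    induction L with
    | nil => intro _; simp [PJ]
    | cons j L ih =>
      intro hL
      have h1 := ih (fun j hj => hL j (List.mem_cons_of_mem _ hj))
      have hj := hL j List.mem_cons_self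
      have h2 := g.hdl_X J c (g.sim_lt (O.lt j hj)) (t j)
      have h3 : (J.map fun i => c i ^ T.pair (T.sim i) (T.sim j)).prod = c j ^ 2 := by
        have e : (J.map fun i => c i ^ T.pair (T.sim i) (T.sim j)) = J.map fun i => if i = j then c j ^ 2 else 1 := by
          apply List.map_congr_left
          intro i hi
          rw [hpr i hi j hj]
          by_cases hij : i = j
          · rw [if_pos hij, if_pos hij, hij]; rfl
          · rw [if_neg hij, if_neg hij, zpow_zero]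
        rw [e]
        have hp : J.Perm (j :: J.erase j) := List.perm_cons_erase hj
        rw [(hp.map _).prod_eq, List.map_cons, List.prod_cons, if_pos rfl]
        have h5 : ((J.erase j).map fun i => if i = j then c j ^ 2 else 1).prod = 1 := by
          apply List.prod_eq_one
          intro x hx
          rw [List.mem_map] at hx
          obtain ⟨i, hi, rfl⟩ := hx
          have hne : i ≠ j := by
            rintro rfl
            exact (List.Nodup.not_mem_erase O.nd) hi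
          rw [if_neg hne]
        rw [h5, mul_one]
      rw [h3, ← hh] at h2
      have e1 : ∀ t : ℕ → K, S.PJ (j :: L) t = g.X (T.sim j) (t j) * S.PJ L t := fun t => by simp [PJ]
      rw [e1, e1, ← h1]
      have h4 : g.X (T.sim j) ((c j : K) ^ 2 * t j) = h * g.X (T.sim j) (t j) * h⁻¹ := by
        rw [h2, Units.val_pow_eq_pow_val]
      rw [h4]; group
  exact key J (fun j hj => hj)

/-- the torus method -/
theorem orth_perf {E : Subgroup (GL D.Idx K)} (hp : ∀ t, S.Cp J t → S.PJ J t ∈ E) (hm : ∀ t, S.Cp J t → S.PK J t ∈ E)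
    (hpr : PrOK T J) {c : ℕ → Kˣ} (hc : S.Cp J (fun i => (c i : K))) (hc2 : ∀ i ∈ J, (c i : K) ^ 2 ≠ 1) : g.Um J ⊓ S.Fx ≤ ⁅E, E⁆ := by
  intro x hx
  obtain ⟨t, ht, rfl⟩ := (S.Um_Fx_iff O).1 hx
  have hne : ∀ i ∈ J, (c i : K) ^ 2 - 1 ≠ 0 := fun i hi => sub_ne_zero.2 (hc2 i hi)
  set s : ℕ → K := fun i => t i / ((c i : K) ^ 2 - 1) with hs
  have hsC : S.Cp J s := by
    intro i hi
    rw [hs]
    show t (S.rs i) / ((c (S.rs i) : K) ^ 2 - 1) = S.f (t i / ((c i : K) ^ 2 - 1)) ^ S.G.lam (T.sim i)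
    rw [ht i hi, map_div₀, div_pow]
    congr 1
    have h1 := hc i hi
    have h1' : (c (S.rs i) : K) = S.f (c i : K) ^ S.G.lam (T.sim i) := h1
    have hsl := g.sim_lt (O.lt i hi)
    have h2 := g.lam_neg_one S.ok S.hp S.hadd hsl
    have h3 := S.hadd (T.sim i) hsl (S.f (c i : K) ^ 2) (-1)
    rw [h1', map_sub, map_pow, map_one, sub_eq_add_neg, sub_eq_add_neg, h3, ← pow_mul, ← pow_mul, mul_comm 2]
    congr 1
    have h4 := h2 (1 : K)
    rw [h4, one_pow]
  have h1 := S.orth_hd O hp hm hc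
  have h2 := S.PJ_conj O hpr c s
  have h3 : S.PJ J t = ⁅(J.map fun i => hd D T (T.sim i) (c i)).prod, S.PJ J s⁆ := by
    rw [commutatorElement_def, h2]
    have h4 : (S.PJ J s)⁻¹ = S.PJ J (fun i => -s i) := by
      rw [inv_eq_iff_mul_eq_one, S.PJ_mul O]
      unfold PJ
      apply List.prod_eq_one
      intro x hx
      rw [List.mem_map] at hx
      obtain ⟨i, hi, rfl⟩ := hx
      show g.X (T.sim i) (s i + -s i) = 1
      rw [add_neg_cancel]
      exact g.X_zero _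
    rw [h4, S.PJ_mul O]
    unfold PJ
    congr 1
    apply List.map_congr_left
    intro i hi
    congr 1
    rw [hs]
    have := hne i hi
    field_simp
    ring
  rw [h3]
  exact Subgroup.commutator_mem_commutator h1 (hp s hsC)

omit O in
/-- commutators of fixed root elements -/
theorem fixed_perf {E : Subgroup (GL D.Idx K)} (hE : S.Fx ≤ E) {i s1 s2 : ℕ} (hi : i < T.l) (h : T.isComm (T.sim i) s1 s2 = true)
    (h1 : S.G.rho s1 = s1 ∧ S.G.eps s1 = 1 ∧ S.G.lam s1 = 1) (h2 : S.G.rho s2 = s2 ∧ S.G.eps s2 = 1 ∧ S.G.lam s2 = 1)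
    {t : K} (ht : S.f t = t) : g.X (T.sim i) t ∈ ⁅E, E⁆ := by
  unfold Tb.isComm at h
  simp only [Bool.and_eq_true, Nat.ble_eq, Bool.not_eq_true'] at h
  obtain ⟨hh1, hh2, h3', h4', h5⟩ := h
  have h3 : s2 ≠ s1 := Nat.ne_of_beq_eq_false h3'
  have h4 : s2 ≠ T.n - 1 - s1 := Nat.ne_of_beq_eq_false h4'
  have hs1 : s1 < T.n := hh1
  have hs2 : s2 < T.n := hh2
  have hfx : ∀ {s : ℕ}, s < T.n → S.G.rho s = s ∧ S.G.eps s = 1 ∧ S.G.lam s = 1 → ∀ {u : K}, S.f u = u → g.X s u ∈ E := by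
    intro s hs hh u hu
    apply hE
    refine ⟨X_mem hs u, ?_⟩
    rw [S.s_X hs, hh.1, hh.2.1, hh.2.2, Int.cast_one, one_mul, pow_one, hu]
  generalize hL : Tb.commT T.ent s1 s2 = L at h5
  match L, h5 with
  | [c], h5 =>
    simp only [Bool.and_eq_true, Nat.beq_eq, decide_eq_true_eq] at h5
    obtain ⟨h6, h7, h8, h9⟩ := h5
    have key : ∀ u : K, S.f u = u → g.X (T.sim i) ((c.2.1 : K) * u) ∈ ⁅E, E⁆ := by
      intro u hu
      have h10 := g.X_comm (F := K) hs1 hs2 h3 h4 (-1) u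
      rw [hL] at h10
      simp only [List.map_cons, List.map_nil, List.prod_cons, List.prod_nil, mul_one, h6, h8, h9, pow_one, neg_neg, mul_one] at h10
      have h11 : g.X (T.sim i) ((c.2.1 : K) * u) = ⁅(g.X s2 u)⁻¹, (g.X s1 (-1))⁻¹⁆ := by
        rw [commutatorElement_def]
        have : g.X (T.sim i) ((c.2.1 : K) * u) = (g.X s1 (-1) * g.X s2 u)⁻¹ * (g.X s2 u * g.X s1 (-1)) := by rw [h10]; group
        rw [this]; group
      rw [h11]
      exact Subgroup.commutator_mem_commutator (Subgroup.inv_mem _ (hfx hs2 h2 hu)) (Subgroup.inv_mem _ (hfx hs1 h1 (by rw [map_neg, map_one])))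
    rcases h7 with h7 | h7
    · have := key t ht
      rw [h7] at this
      simpa using this
    · have := key (-t) (by rw [map_neg, ht])
      rw [h7] at this
      simpa using this

end Tw

namespace TwR2

variable {D : ChevalleyDatum} {T : Tb} {g : Good3 D T} {K : Type*} [Field K] [Fintype K] {S : Tw g K} {m : ℕ} {orb : ℕ → List ℕ}
  {E : Subgroup (GL D.Idx K)} {q δ : ℕ} (R : TwR2 S m orb E q δ)
include R

theorem simple_of_perf (hperf : commutator ↥E = ⊤) (hm : 0 < m)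
    (hconn : ∀ k, k + 1 < m → g.pw (orb k) * g.pw (orb (k + 1)) ≠ g.pw (orb (k + 1)) * g.pw (orb k)) :
    IsSimpleGroup ↥E ∧ ¬ IsMulCommutative ↥E := by
  have hev := g.even
  obtain ⟨nk, hnk⟩ := R.exists_reps
  obtain ⟨P, hB, hN, hS⟩ := R.exists_BN hnk
  have hnt : ∃ x : ↥E, x ≠ 1 := by
    obtain ⟨i, hi⟩ := List.exists_mem_of_ne_nil _ (R.O.ne 0 hm)
    obtain ⟨x, hx, t, ht, y, hy, e⟩ := R.hx 0 hm i hi
    refine ⟨⟨x, R.hX 0 hm hx⟩, ?_⟩
    intro h
    have h1 : x = 1 := congrArg Subtype.val h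
    apply ht
    refine g.crd_uniq (R.O.lt 0 hm i hi) hy (Subgroup.one_mem (g.Up i)) ?_
    rw [← e, h1, g.X_zero, mul_one]
  have : Nontrivial ↥E := by
    obtain ⟨x, hx⟩ := hnt
    exact ⟨x, 1, hx⟩
  have hirr : P.Irreducible := by
    intro J hJ hne hne'
    by_contra hcon
    push Not at hcon
    set Q : ℕ → Prop := fun k => ∃ s ∈ J, (s : GL D.Idx K) = nk k with hQ
    obtain ⟨θ, ht1, ht2, ht3⟩ := R.exists_thE
    -- the representatives as elements of N¹
    have hnN : ∀ k < m, nk k ∈ D.monomialSubgroup K ⊓ E := by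
      intro k hk
      obtain ⟨h1, h, hh, e⟩ := hnk k hk
      refine ⟨?_, h1⟩
      rw [e]
      exact Subgroup.mul_mem _ (g.nw_mem_N (S.VW_orb R.O hk)) (Good3.H_le_N hh)
    have hθ : ∀ (k : ℕ) (hk : k < m), θ ⟨nk k, hnN k hk⟩ = g.pw (orb k) := by
      intro k hk
      obtain ⟨h1, h, hh, e⟩ := hnk k hk
      exact ht1 _ _ (S.VW_orb R.O hk) h hh e
    have hcomm : ∀ i j (hi : i < m) (hj : j < m), (⟨nk i, (hnk i hi).1⟩ * ⟨nk j, (hnk j hj).1⟩ * (⟨nk i, (hnk i hi).1⟩)⁻¹ * (⟨nk j, (hnk j hj).1⟩)⁻¹ : ↥E) ∈ P.B →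
        g.pw (orb i) * g.pw (orb j) = g.pw (orb j) * g.pw (orb i) := by
      intro i j hi hj h
      rw [hB, Subgroup.mem_subgroupOf] at h
      have hb : nk i * nk j * (nk i)⁻¹ * (nk j)⁻¹ ∈ D.borelSubgroup K := h.1
      have hN' := Subgroup.mul_mem _ (Subgroup.mul_mem _ (Subgroup.mul_mem _ (hnN i hi) (hnN j hj)) (Subgroup.inv_mem _ (hnN i hi))) (Subgroup.inv_mem _ (hnN j hj))
      have hH := g.BN_inter hb hN'.1
      have hk : (⟨nk i, hnN i hi⟩ * ⟨nk j, hnN j hj⟩ * (⟨nk i, hnN i hi⟩)⁻¹ * (⟨nk j, hnN j hj⟩)⁻¹ : ↥(D.monomialSubgroup K ⊓ E)) ∈ θ.ker := by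
        rw [ht2, Subgroup.mem_subgroupOf]
        exact ⟨hH, hN'.2⟩
      rw [MonoidHom.mem_ker, map_mul, map_mul, map_mul, map_inv, map_inv, hθ i hi, hθ j hj, mul_inv_eq_one, mul_inv_eq_iff_eq_mul] at hk
      exact hk
    have hmemS : ∀ (k : ℕ) (hk : k < m), (⟨nk k, (hnk k hk).1⟩ : ↥E) ∈ P.S := by
      intro k hk; rw [hS]; exact ⟨k, hk, rfl⟩
    have hQm : ∀ (k : ℕ) (hk : k < m), Q k ↔ (⟨nk k, (hnk k hk).1⟩ : ↥E) ∈ J := by
      intro k hk
      constructor
      · rintro ⟨s, hs, e⟩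
        have : s = ⟨nk k, (hnk k hk).1⟩ := Subtype.ext e
        rw [← this]; exact hs
      · intro h; exact ⟨_, h, rfl⟩
    have hQ1 : ∀ k, k + 1 < m → (Q k ↔ Q (k + 1)) := by
      intro k hk
      rw [hQm k (by omega), hQm (k + 1) hk]
      constructor
      · intro h1
        by_contra h2
        exact hconn k hk (hcomm k (k + 1) (by omega) hk (hcon _ h1 _ ⟨hmemS _ hk, h2⟩))
      · intro h1
        by_contra h2
        exact hconn k hk (hcomm (k + 1) k hk (by omega) (hcon _ h1 _ ⟨hmemS _ (by omega), h2⟩)).symm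
    have hQ2 : ∀ k, k < m → (Q 0 ↔ Q k) := by
      intro k
      induction k with
      | zero => intro _; exact Iff.rfl
      | succ k ih => intro hk; exact (ih (by omega)).trans (hQ1 k hk)
    obtain ⟨s, hs⟩ := hne
    obtain ⟨s', hs', hs''⟩ := hne'
    have h1 := hJ hs
    rw [hS] at h1 hs'
    obtain ⟨i, hi, hsi⟩ := h1
    obtain ⟨j, hj, hsj⟩ := hs'
    have h3 : Q j := (hQ2 j hj).1 ((hQ2 i hi).2 ⟨s, hs, hsi⟩)
    obtain ⟨s2, hs2, e2⟩ := h3
    have : s2 = s' := Subtype.ext (e2.trans hsj.symm)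
    rw [this] at hs2
    exact hs'' hs2
  constructor
  · apply CfsgLib.BN.simple_criterion P hirr _ hperf
    · rw [hB]; exact R.core_eq
    · rw [hB]
      have : Group.IsSolvable (D.borelSubgroup K) := g.B_solv
      exact Group.isSolvable_of_isSolvable_injective
        (f := (Subgroup.inclusion (inf_le_left : D.borelSubgroup K ⊓ E ≤ D.borelSubgroup K)).comp (Subgroup.subgroupOfEquivOfLe (inf_le_right : D.borelSubgroup K ⊓ E ≤ E)).toMonoidHom)
        ((Subgroup.inclusion_injective (inf_le_left : D.borelSubgroup K ⊓ E ≤ D.borelSubgroup K)).comp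
          (Subgroup.subgroupOfEquivOfLe (inf_le_right : D.borelSubgroup K ⊓ E ≤ E)).injective)
  · intro hcomm
    have : commutator ↥E = ⊥ := by
      rw [commutator_def, Subgroup.commutator_eq_bot_iff_le_centralizer]
      intro x _
      rw [Subgroup.mem_centralizer_iff]
      intro y _
      exact hcomm.is_comm.comm y x
    rw [hperf] at this
    obtain ⟨x, hx⟩ := hnt
    apply hx
    have h2 : x ∈ (⊤ : Subgroup ↥E) := trivial
    rw [this, Subgroup.mem_bot] at h2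
    exact h2

end TwR2
end CfsgLib.Chev
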