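import Cfsg.Agent.LibTwP
import Cfsg.Agent.LibTwE6b
import Cfsg.Agent.LibTwD4

set_option autoImplicit false
set_option linter.unusedSectionVars false
set_option linter.unusedVariables false

/-! Perfectness and simplicity of the groups 2E6 and 3D4 -/

namespace CfsgLib.Chev

open Cfsg.Lie Matrix
open scoped commutatorElement

theorem TwR.perf_gen {D : ChevalleyDatum} {T : Tb} {g : Good3 D T} {K : Type*} [Field K] {S : Tw g K} {m : ℕ} {orb : ℕ → List ℕ}
    {E : Subgroup (GL D.Idx K)} {q δ : ℕ} (R : TwR S m orb E q δ) (hpos : ∀ k < m, g.Um (orb k) ⊓ S.Fx ≤ ⁅E, E⁆)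
    {W : Set (List (ℕ × K))} (hEW : E = D.genSubgroup K W) (hW : ∀ w ∈ W, ∃ k < m, g.wd w ∈ g.Um (orb k) ∨ g.wd w ∈ g.Vm (orb k)) :
    commutator ↥E = ⊤ := by
  apply comm_top_of_le
  have h1 : D.genSubgroup K W ≤ ⁅E, E⁆ := by
    apply g.genSub_le
    intro w hw
    obtain ⟨k, hk, h⟩ := hW w hw
    have hE : g.wd w ∈ E := by rw [hEW]; exact g.wd_mem hw
    rcases h with h | h
    · exact hpos k hk ⟨h, R.hE hE⟩
    · exact R.Vm_mem hpos hk hE h
  rw [← hEW] at h1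
  exact h1

theorem exists_pow_ne_one (K : Type*) [Field K] [Fintype K] {n : ℕ} (h0 : 0 < n) (h : n < Fintype.card K - 1) : ∃ c : Kˣ, c ^ n ≠ 1 := by
  obtain ⟨c, hc⟩ := IsCyclic.exists_ofOrder_eq_natCard (α := Kˣ)
  refine ⟨c, ?_⟩
  intro h1
  have h2 := orderOf_dvd_of_pow_eq_one h1
  rw [hc, Nat.card_units, Nat.card_eq_fintype_card] at h2
  exact absurd (Nat.le_of_dvd h0 h2) (by omega)

namespace TwE6

variable {K : Type*} [Field K] [Fintype K] {q : ℕ}

theorem pr2 : PrOK tE6 [2, 4] := by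
  unfold PrOK
  decide +kernel
theorem pr3 : PrOK tE6 [0, 5] := by
  unfold PrOK
  decide +kernel

theorem ic0 : tE6.isComm (tE6.sim 1) 47 32 = true := by decide +kernel
theorem ic1 : tE6.isComm (tE6.sim 3) 47 25 = true := by decide +kernel
theorem fx_vals : (gdE6.rho 47 = 47 ∧ gdE6.eps 47 = 1 ∧ gdE6.lam 47 = 1) ∧ (gdE6.rho 32 = 32 ∧ gdE6.eps 32 = 1 ∧ gdE6.lam 32 = 1) ∧
    (gdE6.rho 25 = 25 ∧ gdE6.eps 25 = 1 ∧ gdE6.lam 25 = 1) := by decide +kernel

theorem um_vals : ∀ p ∈ [(0, 46), (1, 39), (2, 42), (2, 37), (3, 56), (3, 36)], 36 ≤ p.2 ∧ p.2 < 72 ∧ wact tE6 (orb p.1) p.2 < 36 ∧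
    36 ≤ wact tE6 (orb p.1) (71 - p.2) := by decide +kernel

theorem X_um {k r : ℕ} (h : (k, r) ∈ [(0, 46), (1, 39), (2, 42), (2, 37), (3, 56), (3, 36)]) (t : K) : good3_E6.X r t ∈ good3_E6.Um (orb k) := by
  obtain ⟨h1, h2, h3, h4⟩ := um_vals (k, r) h
  exact good3_E6.X_mem_Um h1 h2 h3 t

theorem X_vm {k r r' : ℕ} (h : (k, r) ∈ [(0, 46), (1, 39), (2, 42), (2, 37), (3, 56), (3, 36)]) (hr : r' = 71 - r) (t : K) : good3_E6.X r' t ∈ good3_E6.Vm (orb k) := by
  obtain ⟨h1, h2, h3, h4⟩ := um_vals (k, r) h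
  rw [hr]
  simp only at h1 h2 h4
  refine good3_E6.X_mem_Vm ?_ h4 t
  show 71 - r < 36
  omega

section
variable {f : K ≃+* K} (hf : ∀ t, f t = t ^ q) (hK : Fintype.card K = q ^ 2)

include hf hK in
theorem hpos (hq : 1 < q) : ∀ k < 4, good3_E6.Um (orb k) ⊓ (S f).Fx ≤ ⁅twistedE6 K q, twistedE6 K q⁆ := by
  have hE := (R hf hK hq).toTwR.E_eq
  obtain ⟨c, hc⟩ := exists_pow_ne_one K (n := 2) two_pos (by
    rw [hK]
    have : 2 * 2 ≤ q * q := Nat.mul_le_mul hq hq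
    have h2 : q ^ 2 = q * q := pow_two q
    omega)
  have hcv : (c : K) ^ 2 ≠ 1 := by
    intro h; apply hc; apply Units.ext; rw [Units.val_pow_eq_pow_val, h]; rfl
  have hfc : (f (c : K)) ^ 2 ≠ 1 := by
    rw [← map_pow]
    intro h
    apply hcv
    apply f.injective
    rw [h, map_one]
  let fc : Kˣ := Units.mk0 (f (c : K)) (by
    intro h
    exact c.ne_zero (f.injective (by rw [h, map_zero])))
  obtain ⟨f47, f32, f25⟩ := fx_vals
  apply cases4
  · rw [orb0]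
    intro x hx
    obtain ⟨t, ht, rfl⟩ := ((S f).Um_Fx_iff (O0 f)).1 hx
    rw [Cp_sing (by decide) rfl] at ht
    rw [PJ1]
    exact (S f).fixed_perf hE.ge (by decide) ic0 f47 f32 ht
  · rw [orb1]
    intro x hx
    obtain ⟨t, ht, rfl⟩ := ((S f).Um_Fx_iff (O1 f)).1 hx
    rw [Cp_sing (by decide) rfl] at ht
    rw [PJ1]
    exact (S f).fixed_perf hE.ge (by decide) ic1 f47 f25 ht
  · rw [orb2]
    refine (S f).orth_perf (O2 f) (p2 hf) (m2 hf) pr2 (c := fun i => if i = 2 then c else fc) ?_ ?_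
    · exact (Cp_pair (i := 2) (j := 4) (by decide) (by decide) rfl rfl).2 ⟨rfl, (ff hf hK _).symm⟩
    · intro i hi
      simp only [List.mem_cons, List.not_mem_nil, or_false] at hi
      rcases hi with rfl | rfl
      · exact hcv
      · exact hfc
  · rw [orb3]
    refine (S f).orth_perf (O3 f) (p3 hf) (m3 hf) pr3 (c := fun i => if i = 0 then c else fc) ?_ ?_
    · exact (Cp_pair (i := 0) (j := 5) (by decide) (by decide) rfl rfl).2 ⟨rfl, (ff hf hK _).symm⟩
    · intro i hi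
      simp only [List.mem_cons, List.not_mem_nil, or_false] at hi
      rcases hi with rfl | rfl
      · exact hcv
      · exact hfc

include hf hK in
theorem perf (hq : 1 < q) : commutator ↥(twistedE6 K q) = ⊤ := by
  refine (R hf hK hq).toTwR.perf_gen (hpos hf hK hq) rfl ?_
  rintro w (⟨t, ht, r, hr, rfl⟩ | ⟨t, rs, hrs, rfl⟩)
  · have e : good3_E6.wd [(r, t)] = good3_E6.X r t := by simp [Good3.wd]
    rw [e]
    simp only [List.mem_cons, List.not_mem_nil, or_false] at hr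
    rcases hr with rfl | rfl | rfl | rfl
    · exact ⟨0, by decide, Or.inl (X_um (by decide) _)⟩
    · exact ⟨0, by decide, Or.inr (X_vm (r := 46) (by decide) rfl _)⟩
    · exact ⟨1, by decide, Or.inl (X_um (by decide) _)⟩
    · exact ⟨1, by decide, Or.inr (X_vm (r := 39) (by decide) rfl _)⟩
  · have e : good3_E6.wd [(rs.1, t), (rs.2, t ^ q)] = good3_E6.X rs.1 t * good3_E6.X rs.2 (t ^ q) := by simp [Good3.wd]
    rw [e]
    simp only [List.mem_cons, List.not_mem_nil, or_false] at hrs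
    rcases hrs with rfl | rfl | rfl | rfl
    · exact ⟨3, by decide, Or.inl (Subgroup.mul_mem _ (X_um (by decide) _) (X_um (by decide) _))⟩
    · exact ⟨3, by decide, Or.inr (Subgroup.mul_mem _ (X_vm (r := 56) (by decide) rfl _) (X_vm (r := 36) (by decide) rfl _))⟩
    · exact ⟨2, by decide, Or.inl (Subgroup.mul_mem _ (X_um (by decide) _) (X_um (by decide) _))⟩
    · exact ⟨2, by decide, Or.inr (Subgroup.mul_mem _ (X_vm (r := 42) (by decide) rfl _) (X_vm (r := 37) (by decide) rfl _))⟩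

theorem nc : ∀ k : Fin 3, ∃ r : Fin 72, wact tE6 (orb k ++ orb (k + 1)) r ≠ wact tE6 (orb (k + 1) ++ orb k) r := by decide +kernel

include hf hK in
theorem simple (hq : 1 < q) : IsSimpleGroup ↥(twistedE6 K q) ∧ ¬ IsMulCommutative ↥(twistedE6 K q) := by
  have RR := R hf hK hq
  refine RR.simple_of_perf (perf hf hK hq) (by decide) ?_
  intro k hk h
  obtain ⟨r, hr⟩ := nc ⟨k, by omega⟩
  have h1 := (S f).VW_orb RR.O (show k < 4 by omega)
  have h2 := (S f).VW_orb RR.O hk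
  rw [← Good3.pw_append, ← Good3.pw_append] at h
  apply hr
  have := congrArg (fun τ : Equiv.Perm (Fin tE6.n) => ((τ r : Fin tE6.n) : ℕ)) h
  have e1 := good3_E6.pw_val (good3_E6.VW_append h1 h2) r
  have e2 := good3_E6.pw_val (good3_E6.VW_append h2 h1) r
  exact e1.symm.trans (this.trans e2)

end
end TwE6

namespace TwD4

variable {K : Type*} [Field K] [Fintype K] {q : ℕ}

theorem pr1 : PrOK tD4 [0, 2, 3] := by
  unfold PrOK
  decide +kernel

theorem ic0 : tD4.isComm (tD4.sim 1) 23 1 = true := by decide +kernel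
theorem fx_vals : (gdD4a.rho 23 = 23 ∧ gdD4a.eps 23 = 1 ∧ gdD4a.lam 23 = 1) ∧ (gdD4a.rho 1 = 1 ∧ gdD4a.eps 1 = 1 ∧ gdD4a.lam 1 = 1) := by decide +kernel

theorem orb0 : orb 0 = [1] := rfl
theorem orb1 : orb 1 = [0, 2, 3] := rfl

theorem um_vals : ∀ p ∈ [(0, 14), (1, 18), (1, 13), (1, 12)], 12 ≤ p.2 ∧ p.2 < 24 ∧ wact tD4 (orb p.1) p.2 < 12 ∧
    12 ≤ wact tD4 (orb p.1) (23 - p.2) := by decide +kernel

theorem X_um {k r : ℕ} (h : (k, r) ∈ [(0, 14), (1, 18), (1, 13), (1, 12)]) (t : K) : good3_D4.X r t ∈ good3_D4.Um (orb k) := by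
  obtain ⟨h1, h2, h3, h4⟩ := um_vals (k, r) h
  exact good3_D4.X_mem_Um h1 h2 h3 t

theorem X_vm {k r r' : ℕ} (h : (k, r) ∈ [(0, 14), (1, 18), (1, 13), (1, 12)]) (hr : r' = 23 - r) (t : K) : good3_D4.X r' t ∈ good3_D4.Vm (orb k) := by
  obtain ⟨h1, h2, h3, h4⟩ := um_vals (k, r) h
  rw [hr]
  simp only at h1 h2 h4
  refine good3_D4.X_mem_Vm ?_ h4 t
  show 23 - r < 12
  omega

section
variable {f : K ≃+* K} (hf : ∀ t, f t = t ^ q) (hK : Fintype.card K = q ^ 3)

include hf hK in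
theorem hpos (hq : 1 < q) : ∀ k < 2, good3_D4.Um (orb k) ⊓ (S f).Fx ≤ ⁅twistedD4 K q, twistedD4 K q⁆ := by
  have hE := (R hf hK hq).toTwR.E_eq
  obtain ⟨c, hc⟩ := exists_pow_ne_one K (n := 2) two_pos (by
    rw [hK]
    have : 2 ^ 3 ≤ q ^ 3 := Nat.pow_le_pow_left hq 3
    omega)
  have hcv : (c : K) ^ 2 ≠ 1 := by
    intro h; apply hc; apply Units.ext; rw [Units.val_pow_eq_pow_val, h]; rfl
  have hf2 : ∀ c : Kˣ, (c : K) ^ 2 ≠ 1 → (f (c : K)) ^ 2 ≠ 1 := by
    intro c hcv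
    rw [← map_pow]
    intro h
    apply hcv
    apply f.injective
    rw [h, map_one]
  let fu : Kˣ → Kˣ := fun c => Units.mk0 (f (c : K)) (by
    intro h
    exact c.ne_zero (f.injective (by rw [h, map_zero])))
  obtain ⟨f23, f1⟩ := fx_vals
  apply cases2
  · rw [orb0]
    intro x hx
    obtain ⟨t, ht, rfl⟩ := ((S f).Um_Fx_iff (O0 f)).1 hx
    rw [Cp_sing (by decide) rfl] at ht
    rw [PJ1]
    exact (S f).fixed_perf hE.ge (by decide) ic0 f23 f1 ht
  · rw [orb1]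
    refine (S f).orth_perf (O1 f) (p1 hf) (m1 hf) pr1 (c := fun i => if i = 0 then c else if i = 2 then fu c else fu (fu c)) ?_ ?_
    · exact Cp_triple.2 ⟨rfl, rfl, (fff hf hK _).symm⟩
    · intro i hi
      simp only [List.mem_cons, List.not_mem_nil, or_false] at hi
      rcases hi with rfl | rfl | rfl
      · exact hcv
      · exact hf2 c hcv
      · exact hf2 (fu c) (hf2 c hcv)

include hf hK in
theorem perf (hq : 1 < q) : commutator ↥(twistedD4 K q) = ⊤ := by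
  refine (R hf hK hq).toTwR.perf_gen (hpos hf hK hq) rfl ?_
  rintro w (⟨t, ht, r, hr, rfl⟩ | ⟨t, rs, hrs, rfl⟩)
  · have e : good3_D4.wd [(r, t)] = good3_D4.X r t := by simp [Good3.wd]
    rw [e]
    simp only [List.mem_cons, List.not_mem_nil, or_false] at hr
    rcases hr with rfl | rfl
    · exact ⟨0, by decide, Or.inl (X_um (by decide) _)⟩
    · exact ⟨0, by decide, Or.inr (X_vm (r := 14) (by decide) rfl _)⟩
  · have e : good3_D4.wd [(rs.1, t), (rs.2.1, t ^ q), (rs.2.2, t ^ (q ^ 2))] = good3_D4.X rs.1 t * (good3_D4.X rs.2.1 (t ^ q) * good3_D4.X rs.2.2 (t ^ (q ^ 2))) := by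
      simp [Good3.wd]
    rw [e]
    simp only [List.mem_cons, List.not_mem_nil, or_false] at hrs
    rcases hrs with rfl | rfl
    · exact ⟨1, by decide, Or.inl (Subgroup.mul_mem _ (X_um (by decide) _) (Subgroup.mul_mem _ (X_um (by decide) _) (X_um (by decide) _)))⟩
    · exact ⟨1, by decide, Or.inr (Subgroup.mul_mem _ (X_vm (r := 18) (by decide) rfl _) (Subgroup.mul_mem _ (X_vm (r := 13) (by decide) rfl _)
        (X_vm (r := 12) (by decide) rfl _)))⟩

theorem nc : ∃ r : Fin 24, wact tD4 (orb 0 ++ orb 1) r ≠ wact tD4 (orb 1 ++ orb 0) r := by decide +kernel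

include hf hK in
theorem simple (hq : 1 < q) : IsSimpleGroup ↥(twistedD4 K q) ∧ ¬ IsMulCommutative ↥(twistedD4 K q) := by
  have RR := R hf hK hq
  refine RR.simple_of_perf (perf hf hK hq) (by decide) ?_
  intro k hk h
  have hk0 : k = 0 := by omega
  subst hk0
  obtain ⟨r, hr⟩ := nc
  have h1 := (S f).VW_orb RR.O (show 0 < 2 by omega)
  have h2 := (S f).VW_orb RR.O (show 1 < 2 by omega)
  rw [← Good3.pw_append, ← Good3.pw_append] at h
  apply hr
  have := congrArg (fun τ : Equiv.Perm (Fin tD4.n) => ((τ r : Fin tD4.n) : ℕ)) h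
  have e1 := good3_D4.pw_val (good3_D4.VW_append h1 h2) r
  have e2 := good3_D4.pw_val (good3_D4.VW_append h2 h1) r
  exact e1.symm.trans (this.trans e2)

end
end TwD4
end CfsgLib.Chev
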