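import Cfsg.Agent.LibTwP2
import Cfsg.Agent.LibTwG2c

set_option autoImplicit false
set_option linter.unusedSectionVars false
set_option linter.unusedVariables false

/-! Perfectness and simplicity of the groups 2G2 -/

namespace CfsgLib.Chev.TwG2

open Cfsg.Lie Matrix CfsgLib.Chev
open scoped commutatorElement

variable {K : Type*} [Field K] [Fintype K] [CharP K 3]

theorem vm_vals : ∀ r < 6, 6 ≤ wact tG2 (orb 0) r := by
  have h : allB 6 (fun r => Nat.ble 6 (wact tG2 (orb 0) r)) = true := by decide +kernel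
  intro r hr
  have := (allB_iff _ _).1 h r hr
  rwa [Nat.ble_eq] at this

theorem X_vm {r : ℕ} (h : r < 6) (t : K) : X r t ∈ good3_G2.Vm (orb 0) := good3_G2.X_mem_Vm h (vm_vals r h) t

section
variable {m : ℕ} {f : K ≃+* K} (hf : ∀ t, f t = t ^ (3 ^ m)) (hK : Fintype.card K = 3 ^ (2 * m + 1))

theorem hG_eq (s : Kˣ) : hG f s = ([0, 1].map fun i => hd chevG2 tG2 (tG2.sim i) (if i = 0 then fu f s else s)).prod := by
  unfold hG
  rw [← good3_G2.hel_range]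
  rfl

theorem hG_X (s : Kˣ) {r : ℕ} (hr : r < 12) (t : K) : hG f s * X r t * (hG f s)⁻¹ = X r (((fu f s ^ tG2.pair 7 r * s ^ tG2.pair 6 r : Kˣ) : K) * t) := by
  rw [hG_eq]
  have h := good3_G2.hdl_X [0, 1] (fun i => if i = 0 then fu f s else s) (s := r) hr t
  rw [h]
  simp [sim0, sim1]

theorem pair_vals : (tG2.pair 7 7 = 2 ∧ tG2.pair 6 7 = -1) ∧ (tG2.pair 7 6 = -3 ∧ tG2.pair 6 6 = 2) ∧ (tG2.pair 7 8 = -1 ∧ tG2.pair 6 8 = 1) ∧
    (tG2.pair 7 9 = 1 ∧ tG2.pair 6 9 = 0) ∧ (tG2.pair 7 10 = 3 ∧ tG2.pair 6 10 = -1) ∧ (tG2.pair 7 11 = 0 ∧ tG2.pair 6 11 = 1) := by decide +kernel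

/-- the character at the root 3a+b -/
noncomputable def psi (f : K ≃+* K) (s : Kˣ) : Kˣ := fu f s ^ (3 : ℤ) * s ^ (-1 : ℤ)
/-- the character at the root b -/
noncomputable def chi0 (f : K ≃+* K) (s : Kˣ) : Kˣ := fu f s ^ (-3 : ℤ) * s ^ (2 : ℤ)

include hf hK in
theorem fu_zpow3 (s : Kˣ) : fu f (fu f s) ^ (3 : ℤ) = s := fu3 hf hK s

include hf hK in
theorem fu_psi (s : Kˣ) : fu f (psi f s) = fu f s ^ (-1 : ℤ) * s ^ (1 : ℤ) := by
  unfold psi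
  rw [map_mul, map_zpow, map_zpow, fu_zpow3 hf hK, zpow_one, mul_comm]

include hf hK in
theorem fu_chi (s : Kˣ) : fu f (chi0 f s) = fu f s ^ (2 : ℤ) * s ^ (-1 : ℤ) := by
  unfold chi0
  have h : fu f (fu f s) ^ (-3 : ℤ) = s ^ (-1 : ℤ) := by
    rw [_root_.zpow_neg, _root_.zpow_neg, zpow_one]
    congr 1
    exact fu_zpow3 hf hK s
  rw [map_mul, map_zpow, map_zpow, h, mul_comm]

include hf hK in
theorem hG_R8 (s : Kˣ) (u v : K) : hG f s * R8 (f u) (f v) u v * (hG f s)⁻¹ = R8 (f (psi f s * u)) (f (s * v)) (psi f s * u) (s * v) := by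
  obtain ⟨_, _, p8, p9, p10, p11⟩ := pair_vals
  unfold R8
  have e : hG f s * (X 8 (f u) * X 9 (f v) * X 10 u * X 11 v) * (hG f s)⁻¹ = (hG f s * X 8 (f u) * (hG f s)⁻¹) * (hG f s * X 9 (f v) * (hG f s)⁻¹) *
      (hG f s * X 10 u * (hG f s)⁻¹) * (hG f s * X 11 v * (hG f s)⁻¹) := by group
  rw [e, hG_X s (by decide), hG_X s (by decide), hG_X s (by decide), hG_X s (by decide), p8.1, p8.2, p9.1, p9.2, p10.1, p10.2, p11.1, p11.2]
  have e1 : f (psi f s * u) = ((fu f s ^ (-1 : ℤ) * s ^ (1 : ℤ) : Kˣ) : K) * f u := by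
    rw [map_mul, ← fu_psi hf hK]; rfl
  have e2 : f ((s : K) * v) = ((fu f s ^ (1 : ℤ) * s ^ (0 : ℤ) : Kˣ) : K) * f v := by
    rw [map_mul, zpow_one, zpow_zero, mul_one]; rfl
  have e3 : ((fu f s ^ (0 : ℤ) * s ^ (1 : ℤ) : Kˣ) : K) = s := by rw [zpow_zero, one_mul, zpow_one]
  rw [e1, e2, e3]
  rfl

theorem uW0 (u v : K) : uW f 0 u v = R8 (f u) (f v) u v := by
  unfold uW X
  rw [map_zero, good3_G2.X_zero, good3_G2.X_zero]
  simp

theorem uW_split (t u v u' v' : K) : uW f t u v = uW f t u' v' * uW f 0 (u - u') (v - v') := by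
  rw [uW0]
  unfold uW
  rw [mul_assoc (X 7 (f t) * X 6 t), R8_mul]
  congr 2
  · rw [map_sub]; ring
  · rw [map_sub]; ring
  · ring
  · ring

theorem R8_inv (a b c d : K) : (R8 a b c d)⁻¹ = R8 (-a) (-b) (-c) (-d) := by
  rw [inv_eq_iff_mul_eq_one, R8_mul, ← R8_zero]
  congr 1 <;> ring

include hf hK in
theorem comm_z (s : Kˣ) (u v : K) : ⁅hG f s, uW f 0 u v⁆ = uW f 0 ((psi f s - 1) * u) ((s - 1) * v) := by
  rw [commutatorElement_def, uW0, uW0, hG_R8 hf hK, R8_inv, R8_mul]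
  congr 1
  · rw [sub_mul, one_mul, map_sub]; ring
  · rw [sub_mul, one_mul, map_sub]; ring
  · ring
  · ring

/-- quotients of elements with given coordinate -/
theorem crd_div {i : ℕ} (hi : i < tG2.l) {x x' y y' : GL chevG2.Idx K} {t t' : K} (hy : y ∈ good3_G2.Up i) (hy' : y' ∈ good3_G2.Up i)
    (e : x = y * good3_G2.X (tG2.sim i) t) (e' : x' = y' * good3_G2.X (tG2.sim i) t') :
    ∃ z ∈ good3_G2.Up i, x * x'⁻¹ = z * good3_G2.X (tG2.sim i) (t - t') := by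
  refine ⟨y * (good3_G2.X (tG2.sim i) (t - t') * y'⁻¹ * (good3_G2.X (tG2.sim i) (t - t'))⁻¹), Subgroup.mul_mem _ hy
    (good3_G2.Up_norm hi (Or.inl rfl) _ (Subgroup.inv_mem _ hy')), ?_⟩
  rw [e, e', sub_eq_add_neg, good3_G2.X_add, good3_G2.X_neg]
  group

include hf hK in
theorem uW_comm (s : Kˣ) (t : K) : ∃ u v, ⁅hG f s, uW f t 0 0⁆ = uW f ((chi0 f s - 1) * t) u v := by
  obtain ⟨p7, p6, _⟩ := pair_vals
  have hF := uW_Fx hf hK t 0 0
  have hU := uW_U (f := f) t 0 0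
  have hh := ((H_iff hf hK).2 ⟨s, rfl⟩ : hG f s ∈ _)
  have h1 : hG f s * uW f t 0 0 * (hG f s)⁻¹ ∈ chevG2.posUnipotent K ⊓ (S f).Fx := by
    refine ⟨?_, Subgroup.mul_mem _ (Subgroup.mul_mem _ hh.2 hF) (Subgroup.inv_mem _ hh.2)⟩
    rw [← Um0]
    rw [← Um0] at hU
    exact good3_G2.Um_H hh.1 hU
  have h2 : ⁅hG f s, uW f t 0 0⁆ ∈ chevG2.posUnipotent K ⊓ (S f).Fx := by
    rw [commutatorElement_def]
    exact Subgroup.mul_mem _ h1 (Subgroup.inv_mem _ ⟨hU, hF⟩)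
  obtain ⟨t1, u1, v1, e1⟩ := U_Fx hf hK h2
  refine ⟨u1, v1, ?_⟩
  rw [e1]
  congr 1
  -- coordinates
  obtain ⟨y1, hy1, c1⟩ := crd1 (f t1) t1 (R8_Uge (t1 * f t1 + f u1) (t1 * f t1 ^ 2 + f v1) u1 v1)
  obtain ⟨y2, hy2, c2⟩ := crd1 (f t) t (R8_Uge (t * f t + f 0) (t * f t ^ 2 + f 0) 0 0)
  have c3 : hG f s * uW f t 0 0 * (hG f s)⁻¹ = (hG f s * y2 * (hG f s)⁻¹) * good3_G2.X (tG2.sim 1) ((chi0 f s : K) * t) := by
    have h3 := hG_X (f := f) s (r := 6) (by decide) t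
    rw [p6.1, p6.2] at h3
    have h4 : good3_G2.X (tG2.sim 1) ((chi0 f s : K) * t) = hG f s * X 6 t * (hG f s)⁻¹ := h3.symm
    have c2' : uW f t 0 0 = y2 * X 6 t := c2
    rw [h4, c2']; group
  have hy3 : hG f s * y2 * (hG f s)⁻¹ ∈ good3_G2.Up 1 := good3_G2.Up_H hh.1 hy2
  obtain ⟨z, hz, c4⟩ := crd_div (i := 1) (by decide) hy3 hy2 c3 c2
  have c5 : ⁅hG f s, uW f t 0 0⁆ = z * good3_G2.X (tG2.sim 1) ((chi0 f s : K) * t - t) := by
    rw [commutatorElement_def]; exact c4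
  have h6 := good3_G2.crd_uniq (i := 1) (by decide) hy1 hz (c1.symm.trans (e1.symm.trans c5))
  rw [h6]; ring

include hK in
theorem exists_s (hm : 1 ≤ m) : ∃ s : Kˣ, s ≠ 1 ∧ s ^ (3 ^ (m + 1) - 1) ≠ 1 ∧ s ^ (3 ^ (m + 1) - 2) ≠ 1 := by
  obtain ⟨c, hc⟩ := IsCyclic.exists_ofOrder_eq_natCard (α := Kˣ)
  have hlt : 3 ^ (m + 1) < 3 ^ (2 * m + 1) := Nat.pow_lt_pow_right (by norm_num) (by omega)
  have h9 : 3 ^ 2 ≤ 3 ^ (m + 1) := Nat.pow_le_pow_right (by norm_num) (by omega)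
  have key : ∀ n, 0 < n → n < 3 ^ (2 * m + 1) - 1 → c ^ n ≠ 1 := by
    intro n h0 h1 h
    have h2 := orderOf_dvd_of_pow_eq_one h
    rw [hc, Nat.card_units, Nat.card_eq_fintype_card, hK] at h2
    exact absurd (Nat.le_of_dvd h0 h2) (by omega)
  refine ⟨c, ?_, key _ (by omega) (by omega), key _ (by omega) (by omega)⟩
  have := key 1 one_pos (by omega)
  rwa [pow_one] at this

include hf in
theorem psi_ne {s : Kˣ} (h : s ^ (3 ^ (m + 1) - 1) ≠ 1) : (psi f s : K) - 1 ≠ 0 := by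
  intro h0
  apply h
  have h1 : psi f s = 1 := Units.ext (sub_eq_zero.1 h0)
  unfold psi at h1
  rw [_root_.zpow_neg, zpow_one, mul_inv_eq_one] at h1
  have h2 : fu f s ^ (3 : ℤ) = s ^ (3 ^ (m + 1)) := by
    rw [show fu f s ^ (3 : ℤ) = fu f s ^ 3 from rfl, fu_pow hf, ← pow_mul, pow_succ]
  rw [h2] at h1
  have h3 : 1 ≤ 3 ^ (m + 1) := Nat.one_le_pow _ _ (by norm_num)
  have h4 : s ^ (3 ^ (m + 1) - 1) * s = s := by rw [← pow_succ, Nat.sub_add_cancel h3, h1]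
  exact mul_eq_right.1 h4

include hf in
theorem chi_ne {s : Kˣ} (h : s ^ (3 ^ (m + 1) - 2) ≠ 1) : (chi0 f s : K) - 1 ≠ 0 := by
  intro h0
  apply h
  have h1 : chi0 f s = 1 := Units.ext (sub_eq_zero.1 h0)
  unfold chi0 at h1
  rw [_root_.zpow_neg, inv_mul_eq_one] at h1
  have h2 : fu f s ^ (3 : ℤ) = s ^ (3 ^ (m + 1)) := by
    rw [show fu f s ^ (3 : ℤ) = fu f s ^ 3 from rfl, fu_pow hf, ← pow_mul, pow_succ]
  rw [h2] at h1
  have h3 : 2 ≤ 3 ^ (m + 1) := by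
    have : 1 ≤ 3 ^ m := Nat.one_le_pow _ _ (by norm_num)
    rw [pow_succ]; omega
  have h1' : s ^ 3 ^ (m + 1) = s ^ 2 := h1
  have h4 : s ^ (3 ^ (m + 1) - 2) * s ^ 2 = s ^ 2 := by rw [← pow_add, Nat.sub_add_cancel h3, h1']
  exact mul_eq_right.1 h4

include hf hK in
theorem uW_DG (hm : 1 ≤ m) (t u v : K) : uW f t u v ∈ ⁅twistedG2 K (3 ^ m), twistedG2 K (3 ^ m)⁆ := by
  obtain ⟨s, h1, h2, h3⟩ := exists_s hK hm
  have hs : (s : K) - 1 ≠ 0 := by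
    intro h; apply h1; exact Units.ext (sub_eq_zero.1 h)
  have hp := psi_ne hf h2
  have hc := chi_ne hf h3
  have hsG := hG_mem hf hK s
  have hz : ∀ u v, uW f 0 u v ∈ ⁅twistedG2 K (3 ^ m), twistedG2 K (3 ^ m)⁆ := by
    intro u v
    have e : uW f 0 u v = ⁅hG f s, uW f 0 (u / ((psi f s : K) - 1)) (v / ((s : K) - 1))⁆ := by
      rw [comm_z hf hK]
      congr 1 <;> field_simp
    rw [e]
    exact Subgroup.commutator_mem_commutator hsG (uW_mem hf _ _ _)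
  obtain ⟨u', v', e⟩ := uW_comm hf hK s (t / ((chi0 f s : K) - 1))
  have h4 : ((chi0 f s : K) - 1) * (t / ((chi0 f s : K) - 1)) = t := by field_simp
  rw [h4] at e
  rw [uW_split t u v u' v', ← e]
  exact Subgroup.mul_mem _ (Subgroup.commutator_mem_commutator hsG (uW_mem hf _ _ _)) (hz _ _)

include hf hK in
theorem hpos (hm : 1 ≤ m) : ∀ k < 1, good3_G2.Um (orb k) ⊓ (S f).Fx ≤ ⁅twistedG2 K (3 ^ m), twistedG2 K (3 ^ m)⁆ := by
  intro k hk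
  have hk0 : k = 0 := by omega
  subst hk0
  rw [Um0]
  intro x hx
  obtain ⟨t, u, v, rfl⟩ := U_Fx hf hK hx
  exact uW_DG hf hK hm t u v

include hf hK in
theorem perf (hm : 1 ≤ m) : commutator ↥(twistedG2 K (3 ^ m)) = ⊤ := by
  refine (R hf hK).toTwR.perf_gen (hpos hf hK hm) rfl ?_
  rintro w ⟨t, u, v, rfl | rfl⟩
  · refine ⟨0, by decide, Or.inl ?_⟩
    rw [← uW_eq hf, Um0]
    exact uW_U _ _ _
  · refine ⟨0, by decide, Or.inr ?_⟩
    rw [← vW_eq hf]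
    unfold vW R8n
    exact Subgroup.mul_mem _ (Subgroup.mul_mem _ (X_vm (by decide) _) (X_vm (by decide) _)) (Subgroup.mul_mem _ (Subgroup.mul_mem _
      (Subgroup.mul_mem _ (X_vm (by decide) _) (X_vm (by decide) _)) (X_vm (by decide) _)) (X_vm (by decide) _))

include hf hK in
theorem simple (hm : 1 ≤ m) : IsSimpleGroup ↥(twistedG2 K (3 ^ m)) ∧ ¬ IsMulCommutative ↥(twistedG2 K (3 ^ m)) := by
  refine (R hf hK).simple_of_perf (perf hf hK hm) (by decide) ?_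
  intro k hk h
  omega

end
end CfsgLib.Chev.TwG2
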