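import Mathlib

set_option autoImplicit false

/-! `PSL₂(7)` inside `PSU₃(3)`, I: arithmetic with codes (seat helper26). -/

namespace CfsgLib.U37

/-- addition of codes `x + 3 y` for `x + y i` -/
def addN (c d : ℕ) : ℕ := (c % 3 + d % 3) % 3 + 3 * ((c / 3 % 3 + d / 3 % 3) % 3)
/-- multiplication of codes -/
def mulN (c d : ℕ) : ℕ := ((c % 3) * (d % 3) + 2 * ((c / 3 % 3) * (d / 3 % 3))) % 3 + 3 * (((c % 3) * (d / 3 % 3) + (c / 3 % 3) * (d % 3)) % 3)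

/-- list access -/
def gl (l : List ℕ) (k : ℕ) : ℕ := l.getD k 0
/-- entry of a product -/
def en (l m : List ℕ) (r c : ℕ) : ℕ :=
  addN (addN (mulN (gl l (3 * r)) (gl m c)) (mulN (gl l (3 * r + 1)) (gl m (3 + c)))) (mulN (gl l (3 * r + 2)) (gl m (6 + c)))
/-- matrix product on codes -/
def mulL (l m : List ℕ) : List ℕ := [en l m 0 0, en l m 0 1, en l m 0 2, en l m 1 0, en l m 1 1, en l m 1 2, en l m 2 0, en l m 2 1, en l m 2 2]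

/-- first generator -/
def Ac : List ℕ := [1,1,5,1,1,7,8,4,0]
/-- second generator -/
def Bc : List ℕ := [0,0,1,1,0,0,0,1,0]
/-- identity -/
def Oc : List ℕ := [1,0,0,0,1,0,0,0,1]

/-- the 168 elements -/
def T : List (List ℕ) := [[1,0,0,0,1,0,0,0,1], [1,1,5,1,1,7,8,4,0], [0,0,1,1,0,0,0,1,0], [1,5,1,1,7,1,4,0,8], [8,4,0,1,1,5,1,1,7], [0,1,0,0,0,1,1,0,0], [2,7,2,4,0,8,1,7,1], [5,1,1,7,1,1,0,8,4], [4,0,8,1,5,1,1,7,1], [1,1,7,8,4,0,1,1,5], [7,2,2,0,8,4,7,1,1], [2,7,1,4,0,4,2,5,1], [1,7,1,2,7,2,4,0,8], [0,8,4,5,1,1,7,1,1], [1,7,1,4,0,8,1,5,1], [1,5,2,2,5,1,4,0,4], [2,2,7,8,4,0,1,1,7], [7,1,2,0,4,4,5,1,2], [7,1,1,7,2,2,0,8,4], [2,5,1,2,7,1,4,0,4], [4,0,8,1,7,1,2,7,2], [7,1,1,0,8,4,5,1,1], [5,2,1,5,1,2,0,4,4], [2,0,0,0,0,1,0,1,0], [0,4,4,7,1,2,7,2,1], [1,2,7,4,4,0,1,2,5], [4,0,4,1,5,2,2,5,1], [1,1,7,2,2,7,8,4,0],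 [5,1,2,7,1,2,0,4,4], [0,8,4,7,1,1,7,2,2], [4,0,4,2,5,1,2,7,1], [0,8,8,7,2,1,7,1,2], [2,1,5,1,2,5,4,4,0], [0,0,2,0,1,0,1,0,0], [4,4,0,1,2,7,2,1,7], [1,2,7,8,8,0,2,1,7], [0,4,4,5,2,1,5,1,2], [0,1,0,2,0,0,0,0,1], [7,2,1,0,4,4,7,1,2], [1,2,5,1,2,7,4,4,0], [2,5,1,4,0,4,1,5,2], [8,4,0,1,1,7,2,2,7], [0,4,4,5,1,2,7,1,2], [8,8,0,2,1,7,1,2,7], [2,1,5,2,1,7,8,8,0], [4,8,0,1,1,7,1,1,5], [0,2,0,1,0,0,0,0,1], [8,8,0,1,2,7,1,2,5], [4,0,4,2,7,1,1,7,2], [2,7,1,8,0,8,1,7,2], [7,1,2,0,8,8,7,2,1], [4,4,0,2,1,5,1,2,5], [1,0,0,0,0,2,0,1,0], [2,1,7,4,4,0,1,2,7], [2,1,7,1,2,7,8,8,0], [5,1,2,0,4,4,5,2,1], [0,0,1,0,1,0,2,0,0], [7,1,2,7,2,1,0,4,4], [4,4,0,1,2,5,1,2,7], [8,0,8,1,7,2,2,7,1], [1,5,2,1,7,2,8,0,8], [8,0,4,1,7,1,1,5,1], [2,2,5,1,1,5,8,4,0], [8,0,8,2,7,1,2,5,1], [7,1,1,5,1,1,0,4,8], [5,1,1,5,2,2,0,4,8], [8,8,0,2,1,5,2,1,7],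 [1,1,5,4,8,0,1,1,7], [0,0,1,0,2,0,1,0,0], [1,2,5,8,8,0,1,2,7], [1,7,2,4,0,4,2,7,1], [1,7,2,2,7,1,8,0,8], [7,2,1,7,1,2,0,8,8], [1,2,5,4,4,0,2,1,5], [0,1,0,1,0,0,0,0,2], [1,2,7,2,1,7,4,4,0], [5,2,2,0,4,8,5,1,1], [7,2,2,0,4,8,5,2,2], [5,2,1,7,2,1,0,8,8], [2,5,2,4,0,8,2,7,2], [0,4,8,7,1,1,5,1,1], [2,5,2,1,5,1,4,0,8], [5,2,2,5,1,1,0,8,4], [0,8,8,7,1,2,5,1,2], [1,1,7,1,1,5,4,8,0], [1,1,5,2,2,5,4,8,0], [8,0,8,1,5,2,1,7,2], [1,5,1,8,0,4,1,7,1], [8,4,0,2,2,5,1,1,5], [2,5,1,8,0,8,2,7,1], [0,4,8,5,1,1,5,2,2], [2,1,7,8,8,0,2,1,5], [1,0,0,0,0,1,0,2,0], [1,2,7,1,2,5,8,8,0], [2,7,1,1,7,2,4,0,4], [2,2,5,4,8,0,1,1,5], [2,2,7,4,8,0,2,2,5], [0,8,8,5,1,2,5,2,1], [5,2,2,0,8,4,7,2,2], [8,0,4,2,7,2,1,7,1], [5,2,1,0,4,4,7,2,1], [1,7,1,1,5,1,8,0,4], [1,0,0,0,2,0,0,0,2], [1,5,1,2,5,2,8,0,4], [5,2,2,7,2,2,0,4,8], [0,8,8,5,2,1,7,2,1],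 [2,7,2,2,5,2,4,0,8], [5,1,1,0,4,8,7,1,1], [4,0,8,2,5,2,1,5,1], [0,8,4,5,2,2,5,1,1], [5,1,2,0,8,8,7,1,2], [4,8,0,1,1,5,2,2,5], [1,7,2,8,0,8,1,5,2], [1,1,5,8,4,0,2,2,5], [2,7,1,2,5,1,8,0,8], [0,2,0,0,0,2,1,0,0], [2,5,2,8,0,4,1,5,1], [2,0,0,0,0,2,0,2,0], [2,7,2,8,0,4,2,5,2], [8,8,0,1,2,5,2,1,5], [8,0,8,2,5,1,1,5,2], [2,2,5,8,4,0,2,2,7], [0,4,8,7,2,2,7,1,1], [2,1,5,4,4,0,2,1,7], [4,0,8,2,7,2,2,5,2], [0,0,1,2,0,0,0,2,0], [2,2,5,2,2,7,4,8,0], [5,2,1,0,8,8,5,1,2], [7,2,2,5,2,2,0,8,4], [1,7,1,8,0,4,2,7,2], [7,2,1,5,2,1,0,4,4], [0,0,2,1,0,0,0,2,0], [8,0,4,1,5,1,2,5,2], [0,4,8,5,2,2,7,2,2], [7,2,1,0,8,8,5,2,1], [1,5,1,4,0,8,2,5,2], [5,1,1,0,8,4,5,2,2], [7,1,2,5,1,2,0,8,8], [2,0,0,0,2,0,0,0,1], [8,0,4,2,5,2,2,7,2], [0,0,2,0,2,0,2,0,0], [4,4,0,2,1,7,2,1,5], [0,2,0,0,0,1,2,0,0], [1,7,2,1,5,2,4,0,4], [4,8,0,2,2,7,1,1,7],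 [2,1,5,8,8,0,1,2,5], [1,5,2,4,0,4,1,7,2], [0,8,4,7,2,2,5,2,2], [8,4,0,2,2,7,2,2,5], [0,1,0,0,0,2,2,0,0], [0,2,0,2,0,0,0,0,2], [2,5,2,2,7,2,8,0,4], [1,5,2,8,0,8,2,5,1], [2,2,7,2,2,5,8,4,0], [7,1,1,0,4,8,7,2,2], [2,1,7,2,1,5,4,4,0], [4,8,0,2,2,5,2,2,7], [5,1,2,5,2,1,0,8,8], [2,7,2,1,7,1,8,0,4], [0,4,4,7,2,1,5,2,1], [0,0,2,2,0,0,0,1,0], [4,0,4,1,7,2,1,5,2], [2,0,0,0,1,0,0,0,2], [7,2,2,7,1,1,0,4,8], [2,5,1,1,5,2,8,0,8], [1,1,7,4,8,0,2,2,7], [1,2,5,2,1,5,8,8,0], [2,2,7,1,1,7,4,8,0]]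

/-- right multiplication by the first generator -/
def NA : List ℕ := [1, 0, 4, 6, 2, 9, 3, 11, 12, 5, 15, 7, 8, 19, 20, 10, 23, 24, 26, 13, 14, 30, 31, 16, 17, 35, 18, 37, 38, 40, 21, 22, 44, 45, 47, 25, 50, 27, 28, 54, 29, 56, 57, 58, 32, 33, 62, 34, 64, 65, 36, 66, 67, 69, 39, 72, 41, 42, 43, 76, 77, 79, 46, 82, 48, 49, 51, 52, 88, 53, 80, 90, 55, 91, 84, 93, 59, 60, 97, 61, 70, 99, 63, 100, 74, 102, 104, 106, 68, 109, 71, 73, 113, 75, 107, 115, 117, 78, 120, 81, 83, 124, 85, 118, 86, 127, 87, 94, 129, 89, 130, 131, 133, 92, 136, 95, 139, 96, 103, 141, 98, 142, 143, 145, 101, 148, 150, 105, 152, 108, 110, 111, 151, 112, 157, 158, 114, 159, 153, 116, 156, 119, 121, 122, 160, 123, 163, 164, 125, 165, 126, 132, 128, 138, 161, 166, 140, 134, 135, 137, 144, 154, 167, 146, 147, 149, 155, 162]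

/-- right multiplication by the second generator -/
def NB : List ℕ := [2, 3, 5, 7, 8, 0, 10, 1, 13, 14, 16, 17, 18, 4, 21, 22, 6, 25, 27, 28, 29, 9, 32, 33, 34, 11, 36, 12, 39, 41, 42, 43, 15, 46, 48, 49, 51, 52, 53, 19, 55, 20, 58, 59, 60, 61, 23, 63, 24, 50, 35, 26, 68, 70, 71, 73, 74, 75, 30, 31, 78, 80, 81, 83, 84, 85, 86, 87, 37, 89, 38, 72, 54, 40, 92, 94, 95, 96, 44, 98, 45, 82, 62, 47, 101, 103, 105, 107, 108, 110, 111, 112, 56, 114, 57, 116, 118, 119, 121, 122, 123, 64, 125, 65, 126, 66, 128, 67, 109, 88, 69, 132, 134, 135, 137, 138, 76, 140, 77, 120, 97, 79, 144, 146, 147, 149, 151, 145, 153, 154, 155, 142, 90, 156, 91, 136, 113, 93, 160, 133, 150, 161, 162, 130, 99, 152, 100, 148, 124, 102, 117, 104, 127, 106, 165, 143, 139, 166, 163, 141, 115, 159, 131, 167, 157, 129, 164, 158]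

theorem chk : (List.range 168).all (fun k => (mulL (T.getD k []) Ac == T.getD (NA.getD k 0) []) && (mulL (T.getD k []) Bc == T.getD (NB.getD k 0) []) &&
    (NA.getD k 0 < 168) && (NB.getD k 0 < 168)) = true := by decide +kernel

theorem chk0 : T.getD 0 [] = Oc := by decide +kernel

section F

variable {F : Type*} [Field F]

/-- the value of a code -/
def vl (i : F) (c : ℕ) : F := ((c % 3 : ℕ) : F) + ((c / 3 % 3 : ℕ) : F) * i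

theorem castmod (h3 : (3 : F) = 0) (n : ℕ) : ((n % 3 : ℕ) : F) = (n : F) := by
  have h : (n : F) = ((3 * (n / 3) + n % 3 : ℕ) : F) := by rw [Nat.div_add_mod]
  rw [h]
  push_cast
  rw [h3, zero_mul, zero_add]

theorem vl_add (h3 : (3 : F) = 0) (i : F) (c d : ℕ) : vl i (addN c d) = vl i c + vl i d := by
  have h1 : addN c d % 3 = (c % 3 + d % 3) % 3 := by unfold addN; omega
  have h2 : addN c d / 3 % 3 = (c / 3 % 3 + d / 3 % 3) % 3 := by unfold addN; omega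
  unfold vl
  rw [h1, h2, castmod h3, castmod h3]
  push_cast
  ring

theorem vl_mul (h3 : (3 : F) = 0) (i : F) (hi : i * i = -1) (c d : ℕ) : vl i (mulN c d) = vl i c * vl i d := by
  have h1 : mulN c d % 3 = ((c % 3) * (d % 3) + 2 * ((c / 3 % 3) * (d / 3 % 3))) % 3 := by
    unfold mulN
    generalize ((c % 3) * (d % 3) + 2 * ((c / 3 % 3) * (d / 3 % 3))) = P
    generalize ((c % 3) * (d / 3 % 3) + (c / 3 % 3) * (d % 3)) = R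
    omega
  have h2 : mulN c d / 3 % 3 = ((c % 3) * (d / 3 % 3) + (c / 3 % 3) * (d % 3)) % 3 := by
    unfold mulN
    generalize ((c % 3) * (d % 3) + 2 * ((c / 3 % 3) * (d / 3 % 3))) = P
    generalize ((c % 3) * (d / 3 % 3) + (c / 3 % 3) * (d % 3)) = R
    omega
  unfold vl
  rw [h1, h2, castmod h3, castmod h3]
  generalize c % 3 = x
  generalize c / 3 % 3 = y
  generalize d % 3 = u
  generalize d / 3 % 3 = v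
  push_cast
  linear_combination (-(y : F) * v) * hi + ((y : F) * v) * h3

/-- the matrix of a list of codes -/
def mt (i : F) (l : List ℕ) : Matrix (Fin 3) (Fin 3) F := fun r c => vl i (gl l (3 * (r : ℕ) + c))

theorem mt_mul (h3 : (3 : F) = 0) (i : F) (hi : i * i = -1) (l m : List ℕ) : mt i (mulL l m) = mt i l * mt i m := by
  have key : ∀ r c : ℕ, vl i (en l m r c) = vl i (gl l (3 * r)) * vl i (gl m c) + vl i (gl l (3 * r + 1)) * vl i (gl m (3 + c)) +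
      vl i (gl l (3 * r + 2)) * vl i (gl m (6 + c)) := by
    intro r c
    unfold en
    rw [vl_add h3, vl_add h3, vl_mul h3 i hi, vl_mul h3 i hi, vl_mul h3 i hi]
  ext r c
  rw [Matrix.mul_apply, Fin.sum_univ_three]
  fin_cases r <;> fin_cases c
  · exact key 0 0
  · exact key 0 1
  · exact key 0 2
  · exact key 1 0
  · exact key 1 1
  · exact key 1 2
  · exact key 2 0
  · exact key 2 1
  · exact key 2 2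

theorem mt_one (i : F) : mt i Oc = 1 := by
  ext r c
  fin_cases r <;> fin_cases c <;> simp [mt, vl, gl, Oc]

end F

end CfsgLib.U37
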