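import Cfsg.Agent.EqBase
import Cfsg.Agent.LibGS8
import Cfsg.Agent.LibMB5
import Cfsg.Agent.LibH22HermS

/-! The Sylow `2`-subgroup of `SU(3,2^n)` and `PSU(3,2^n)` (helper8). -/

set_option autoImplicit false

namespace CfsgLib.US8

open Subgroup Cfsg
open scoped commutatorElement

/-- a field of characteristic two with an involution -/
structure Dat (F : Type*) [Field F] where
  s : F →+* F
  inv : ∀ x, s (s x) = x
  two : (2 : F) = 0
  ex : ∃ x, s x ≠ x

variable {F : Type*} [Field F]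

namespace Dat

theorem add_self (D : Dat F) (x : F) : x + x = 0 := by linear_combination x * D.two

theorem eq_of_add (D : Dat F) {x y : F} (h : x + y = 0) : x = y := by linear_combination h - y * D.two

theorem tr_fix (D : Dat F) (x : F) : D.s (x + D.s x) = x + D.s x := by rw [map_add, D.inv]; ring

theorem nm_fix (D : Dat F) (x : F) : D.s (x * D.s x) = x * D.s x := by rw [map_mul, D.inv]; ring

theorem tr_surj (D : Dat F) {b : F} (hb : D.s b = b) : ∃ t, t + D.s t = b := by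
  obtain ⟨θ, hθ⟩ := D.ex
  have hw : θ + D.s θ ≠ 0 := fun h => hθ (D.eq_of_add h).symm
  refine ⟨b * (θ + D.s θ)⁻¹ * θ, ?_⟩
  rw [map_mul, map_mul, map_inv₀, D.tr_fix, hb]
  field_simp

theorem nm_eq_zero (D : Dat F) {x : F} (h : x * D.s x = 0) : x = 0 := by
  rcases mul_eq_zero.1 h with h | h
  · exact h
  · exact (map_eq_zero D.s).1 h

end Dat

/-- pairs `(a,t)` with `t + σ t = a σ a` -/
@[ext] structure UU (D : Dat F) where
  a : F
  t : F
  h : t + D.s t = a * D.s a

variable {D : Dat F}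

instance : Mul (UU D) := ⟨fun p q => ⟨p.a + q.a, p.t + q.t + D.s p.a * q.a, by
  rw [map_add, map_add, map_add, map_mul, D.inv]
  linear_combination p.h + q.h⟩⟩

instance : One (UU D) := ⟨⟨0, 0, by simp⟩⟩

instance : Inv (UU D) := ⟨fun p => ⟨p.a, p.t + p.a * D.s p.a, by
  rw [map_add, map_mul, D.inv]
  linear_combination p.h + p.a * D.s p.a * D.two⟩⟩

theorem mul_a (p q : UU D) : (p * q).a = p.a + q.a := rfl
theorem mul_t (p q : UU D) : (p * q).t = p.t + q.t + D.s p.a * q.a := rfl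
theorem one_a : (1 : UU D).a = 0 := rfl
theorem one_t : (1 : UU D).t = 0 := rfl
theorem inv_a (p : UU D) : (p⁻¹).a = p.a := rfl
theorem inv_t (p : UU D) : (p⁻¹).t = p.t + p.a * D.s p.a := rfl

instance : Group (UU D) := Group.ofLeftAxioms
  (by
    intro p q r
    ext
    · simp only [mul_a]; ring
    · simp only [mul_a, mul_t, map_add]; ring)
  (by
    intro p
    ext
    · simp only [mul_a, one_a]; ring
    · simp only [mul_t, one_a, one_t, map_zero]; ring)
  (by
    intro p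
    ext
    · simp only [mul_a, one_a, inv_a]; exact D.add_self _
    · simp only [mul_t, one_t, inv_a, inv_t]; linear_combination (p.t + p.a * D.s p.a) * D.two)

instance [Finite F] : Finite (UU D) := Finite.of_injective (fun p => (p.a, p.t)) (fun p q h => UU.ext (congrArg Prod.fst h) (congrArg Prod.snd h))

/-- first coordinate -/
def pr : UU D →* Multiplicative F where
  toFun p := Multiplicative.ofAdd p.a
  map_one' := rfl
  map_mul' := fun _ _ => rfl

theorem exists_lift (a : F) : ∃ p : UU D, p.a = a := by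
  obtain ⟨t, ht⟩ := D.tr_surj (D.nm_fix a)
  exact ⟨⟨a, t, ht⟩, rfl⟩

theorem pr_surj : Function.Surjective (pr : UU D →* _) := by
  intro a
  obtain ⟨p, hp⟩ := exists_lift (D := D) (Multiplicative.toAdd a)
  exact ⟨p, by show Multiplicative.ofAdd p.a = a; rw [hp]; rfl⟩

theorem mem_kerpr (p : UU D) : p ∈ (pr : UU D →* _).ker ↔ p.a = 0 := by
  rw [MonoidHom.mem_ker]; exact Iff.rfl

/-- the fixed field, as additive group -/
def Fx (D : Dat F) : AddSubgroup F where
  carrier := {x | D.s x = x}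
  zero_mem' := map_zero _
  add_mem' := fun {x y} hx hy => by show D.s (x + y) = x + y; rw [map_add, hx, hy]
  neg_mem' := fun {x} hx => by show D.s (-x) = -x; rw [map_neg, hx]

theorem mem_Fx {x : F} : x ∈ Fx D ↔ D.s x = x := Iff.rfl

/-- the central element -/
def zz (t : Fx D) : UU D := ⟨0, t, by rw [mem_Fx.1 t.2]; simp [D.add_self]⟩

theorem zz_a (t : Fx D) : (zz t).a = 0 := rfl
theorem zz_t (t : Fx D) : (zz t).t = t := rfl

theorem t_mem {p : UU D} (h : p.a = 0) : p.t ∈ Fx D := by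
  have := p.h
  rw [h, zero_mul] at this
  exact (D.eq_of_add this).symm

theorem eq_zz {p : UU D} (h : p.a = 0) : p = zz ⟨p.t, t_mem h⟩ := UU.ext h rfl

theorem sq (p : UU D) : p * p = zz ⟨p.a * D.s p.a, D.nm_fix _⟩ := by
  ext
  · rw [mul_a, zz_a, D.add_self]
  · rw [mul_t, zz_t, D.add_self]; ring

theorem sq_one_iff (p : UU D) : p * p = 1 ↔ p.a = 0 := by
  constructor
  · intro h
    rw [sq] at h
    exact D.nm_eq_zero (congrArg UU.t h)
  · intro h
    rw [sq]
    ext
    · rfl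
    · show p.a * D.s p.a = 0
      rw [h, zero_mul]

theorem mul_zz (p : UU D) (t : Fx D) : p * zz t = ⟨p.a, p.t + t, by rw [map_add, mem_Fx.1 t.2]; linear_combination p.h + t * D.two⟩ := by
  ext
  · rw [mul_a, zz_a, add_zero]
  · rw [mul_t, zz_t, zz_a]; ring

theorem zz_comm (p : UU D) (t : Fx D) : p * zz t = zz t * p := by
  ext
  · rw [mul_a, mul_a]; ring
  · rw [mul_t, mul_t, zz_a, map_zero]; ring

/-- commutation in terms of the form -/
theorem comm_eq (p q : UU D) : p * q = q * p * zz ⟨D.s p.a * q.a + p.a * D.s q.a, by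
    show D.s _ = _
    rw [map_add, map_mul, map_mul, D.inv, D.inv]; ring⟩ := by
  ext
  · rw [mul_a, mul_a, mul_a, zz_a]; ring
  · simp only [mul_t, zz_a, zz_t]
    linear_combination (- D.s q.a * p.a) * D.two

theorem comm_iff (p q : UU D) : p * q = q * p ↔ D.s p.a * q.a = p.a * D.s q.a := by
  constructor
  · intro h
    have h1 := congrArg UU.t h
    rw [mul_t, mul_t] at h1
    linear_combination h1
  · intro h
    ext
    · rw [mul_a, mul_a]; ring
    · rw [mul_t, mul_t]; linear_combination h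

theorem center_eq : center (UU D) = (pr : UU D →* _).ker := by
  ext p
  rw [mem_center_iff, mem_kerpr]
  constructor
  · intro h
    by_contra ha
    obtain ⟨x, hx⟩ := D.ex
    obtain ⟨q, hq⟩ := exists_lift (D := D) (p.a * x)
    have h1 := (comm_iff p q).1 (h q).symm
    rw [hq, map_mul] at h1
    apply hx
    have h2 : p.a * D.s p.a * (D.s x - x) = 0 := by linear_combination -h1
    rcases mul_eq_zero.1 h2 with h3 | h3
    · exact absurd (D.nm_eq_zero h3) ha
    · exact sub_eq_zero.1 h3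
  · intro h q
    rw [eq_zz h]
    exact zz_comm q _

theorem mem_center_iff' (p : UU D) : p ∈ center (UU D) ↔ p.a = 0 := by
  rw [center_eq, mem_kerpr]

theorem card_Fx_sq [Finite F] : Nat.card (Fx D) * Nat.card (Fx D) = Nat.card F := by
  let tr : F →+ F := { toFun := fun t => t + D.s t, map_zero' := by simp, map_add' := fun x y => by rw [map_add]; ring }
  have hk : tr.ker = Fx D := by
    ext x
    rw [AddMonoidHom.mem_ker, mem_Fx]
    exact ⟨fun h => (D.eq_of_add h).symm, fun h => by show x + D.s x = 0; rw [h, D.add_self]⟩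
  have hr : tr.range = Fx D := by
    ext x
    rw [mem_Fx]
    constructor
    · rintro ⟨t, rfl⟩; exact D.tr_fix t
    · intro h
      obtain ⟨t, ht⟩ := D.tr_surj h
      exact ⟨t, ht⟩
  have h5 := tr.ker.card_mul_index
  rw [AddSubgroup.index_ker, hk, hr] at h5
  exact h5

theorem card_kerpr : Nat.card (pr : UU D →* _).ker = Nat.card (Fx D) := by
  apply Nat.card_congr
  refine ⟨fun p => ⟨p.1.t, t_mem ((mem_kerpr _).1 p.2)⟩, fun t => ⟨zz t, (mem_kerpr _).2 rfl⟩, ?_, ?_⟩
  · intro p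
    apply Subtype.ext
    exact (eq_zz ((mem_kerpr _).1 p.2)).symm
  · intro t; rfl

theorem card_UU [Finite F] {q : ℕ} (hF : Nat.card F = q ^ 2) : Nat.card (Fx D) = q ∧ Nat.card (UU D) = q ^ 3 := by
  have h0 : Nat.card (Fx D) = q := by
    have h1 := card_Fx_sq (D := D)
    rw [hF, ← pow_two] at h1
    exact Nat.pow_left_injective (n := 2) (by norm_num) h1
  refine ⟨h0, ?_⟩
  have h1 := (pr : UU D →* _).ker.card_mul_index
  rw [Subgroup.index_ker, card_kerpr, MonoidHom.range_eq_top.2 pr_surj, Subgroup.card_top] at h1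
  have h2 : Nat.card (Multiplicative F) = q ^ 2 := hF
  rw [h2, h0] at h1
  rw [← h1]; ring

theorem isPGroup [Finite F] {n : ℕ} (hF : Nat.card F = (2 ^ n) ^ 2) : IsPGroup 2 (UU D) := by
  apply IsPGroup.of_card (n := n * 3)
  rw [(card_UU hF).2, ← pow_mul]

/-! ### automorphisms -/

/-- scaling -/
def sc (l : F) (p : UU D) : UU D := ⟨l * p.a, l * D.s l * p.t, by
  rw [map_mul, D.nm_fix, map_mul]; linear_combination (l * D.s l) * p.h⟩

theorem sc_a (l : F) (p : UU D) : (sc l p).a = l * p.a := rfl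
theorem sc_t (l : F) (p : UU D) : (sc l p).t = l * D.s l * p.t := rfl

theorem sc_mul (l : F) (p q : UU D) : sc l (p * q) = sc l p * sc l q := by
  ext
  · rw [mul_a, sc_a, sc_a, sc_a, mul_a]; ring
  · rw [mul_t, sc_t, sc_t, sc_t, mul_t, sc_a, sc_a, map_mul]; ring

theorem sc_sc (l m : F) (p : UU D) : sc l (sc m p) = sc (l * m) p := by
  ext
  · rw [sc_a, sc_a, sc_a]; ring
  · rw [sc_t, sc_t, sc_t, map_mul]; ring

theorem sc_one (p : UU D) : sc 1 p = p := by
  ext
  · rw [sc_a]; ring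
  · rw [sc_t, map_one]; ring

/-- the scaling automorphisms -/
def scA : Fˣ →* MulAut (UU D) where
  toFun l := { toFun := sc (l : F)
               invFun := sc ((l⁻¹ : Fˣ) : F)
               left_inv := fun p => by rw [sc_sc, Units.inv_mul, sc_one]
               right_inv := fun p => by rw [sc_sc, Units.mul_inv, sc_one]
               map_mul' := sc_mul _ }
  map_one' := by
    apply MulEquiv.ext; intro p; exact sc_one p
  map_mul' := fun l m => by
    apply MulEquiv.ext; intro p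
    show sc ((l * m : Fˣ) : F) p = sc (l : F) (sc (m : F) p)
    rw [sc_sc, Units.val_mul]

theorem suzuki [Finite F] {n : ℕ} (hn : 2 ≤ n) (hF : Nat.card F = (2 ^ n) ^ 2) : IsSuzukiTwoGroup (UU D) := by
  classical
  haveI : Fintype F := Fintype.ofFinite F
  haveI : CharP F 2 := by
    apply CharTwo.of_one_ne_zero_of_two_eq_zero one_ne_zero D.two
  obtain ⟨hFx, hU⟩ := card_UU (D := D) hF
  have hinv : ∀ x : UU D, x ≠ 1 → x * x = 1 → x.a = 0 ∧ x.t ≠ 0 ∧ D.s x.t = x.t := by
    intro x hx1 hx2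
    have h1 := (sq_one_iff x).1 hx2
    refine ⟨h1, fun h => hx1 (UU.ext h1 h), t_mem h1⟩
  refine ⟨inferInstance, isPGroup hF, ?_, ?_, ?_⟩
  · obtain ⟨x, hx⟩ := D.ex
    obtain ⟨p, hp⟩ := exists_lift (D := D) 1
    obtain ⟨r, hr⟩ := exists_lift (D := D) x
    refine ⟨p, r, fun h => hx ?_⟩
    rw [comm_iff, hp, hr, map_one, one_mul, one_mul] at h
    exact h.symm
  · have h1 : 2 < Nat.card (Fx D) := by
      rw [hFx]
      calc 2 < 2 ^ 2 := by norm_num
        _ ≤ 2 ^ n := Nat.pow_le_pow_right (by norm_num) hn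
    obtain ⟨x, y, hxy, hx, hy⟩ : ∃ x y : Fx D, x ≠ y ∧ x ≠ 0 ∧ y ≠ 0 := by
      haveI : Fintype (Fx D) := Fintype.ofFinite _
      rw [Nat.card_eq_fintype_card] at h1
      obtain ⟨a, b, c, hab, hac, hbc⟩ := Fintype.two_lt_card_iff.1 h1
      by_cases ha : a = 0
      · exact ⟨b, c, hbc, fun h => hab (ha.trans h.symm), fun h => hac (ha.trans h.symm)⟩
      · by_cases hb : b = 0
        · exact ⟨a, c, hac, ha, fun h => hbc (hb.trans h.symm)⟩
        · exact ⟨a, b, hab, ha, hb⟩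
    have hz : ∀ z : Fx D, z ≠ 0 → zz z ≠ 1 := by
      intro z hz h
      exact hz (Subtype.ext (congrArg UU.t h))
    refine ⟨zz x, zz y, fun h => hxy (Subtype.ext (congrArg UU.t h)), hz x hx, (sq_one_iff _).2 rfl, hz y hy, (sq_one_iff _).2 rfl⟩
  · let E : Subgroup Fˣ :=
      { carrier := {l | D.s (l : F) = l}
        one_mem' := map_one _
        mul_mem' := fun {a b} ha hb => by show D.s ((a * b : Fˣ) : F) = _; rw [Units.val_mul, map_mul, ha, hb]
        inv_mem' := fun {a} ha => by show D.s ((a⁻¹ : Fˣ) : F) = _; rw [Units.val_inv_eq_inv_val, map_inv₀, ha] }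
    have hE : ∀ l : Fˣ, l ∈ E ↔ D.s (l : F) = l := fun l => Iff.rfl
    refine ⟨E.map scA, ?_, ?_⟩
    · haveI : IsCyclic E := inferInstance
      exact isCyclic_of_surjective (scA.subgroupMap E) (scA.subgroupMap_surjective E)
    · intro x y hx1 hx2 hy1 hy2
      obtain ⟨hxa, hxt, hxf⟩ := hinv x hx1 hx2
      obtain ⟨hya, hyt, hyf⟩ := hinv y hy1 hy2
      obtain ⟨l, hl⟩ : ∃ l : F, l ^ 2 = y.t / x.t := by
        obtain ⟨l, hl⟩ := (frobeniusEquiv F 2).surjective (y.t / x.t)
        exact ⟨l, hl⟩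
      have hl0 : l ≠ 0 := by
        rintro rfl
        rw [zero_pow (by norm_num)] at hl
        exact (div_ne_zero hyt hxt) hl.symm
      have hsq : ∀ u v : F, u ^ 2 = v ^ 2 → u = v := fun u v h => (frobeniusEquiv F 2).injective h
      have hls : D.s l = l := by
        apply hsq
        rw [← map_pow, hl, map_div₀, hxf, hyf]
      have hval : ∀ u : F, D.s u = u → (sc u x = y ↔ u ^ 2 = y.t / x.t) := by
        intro u hu
        rw [eq_div_iff hxt]
        constructor
        · intro h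
          have := congrArg UU.t h
          rw [sc_t, hu] at this
          rw [← this]; ring
        · intro h
          ext
          · rw [sc_a, hxa, hya, mul_zero]
          · rw [sc_t, hu, ← h]; ring
      refine ⟨⟨scA (Units.mk0 l hl0), ⟨Units.mk0 l hl0, (hE _).2 hls, rfl⟩⟩, (hval l hls).2 hl, ?_⟩
      rintro ⟨_, ⟨m, hm, rfl⟩⟩ hmx
      have h1 : (m : F) ^ 2 = y.t / x.t := (hval m ((hE m).1 hm)).1 hmx
      have h2 : m = Units.mk0 l hl0 := Units.ext (hsq _ _ (h1.trans hl.symm))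
      apply Subtype.ext
      show scA m = scA (Units.mk0 l hl0)
      rw [h2]

/-! ### the embedding into `SU(3,q)` -/

/-- the matrix -/
def Mt (p : UU D) : Matrix (Fin 3) (Fin 3) F :=
  !![1 + p.t, p.t, D.s p.a; p.t, 1 + p.t, D.s p.a; p.a, p.a, 1]

theorem Mt_mul (p q : UU D) : Mt (p * q) = Mt p * Mt q := by
  have h2 := D.two
  unfold Mt
  rw [Matrix.mul_fin_three]
  simp only [mul_a, mul_t, map_add]
  congr 1
  ext i j
  fin_cases i <;> fin_cases j
  · show 1 + (p.t + q.t + D.s p.a * q.a) = (1 + p.t) * (1 + q.t) + p.t * q.t + D.s p.a * q.a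
    linear_combination -(p.t * q.t) * h2
  · show (p.t + q.t + D.s p.a * q.a) = (1 + p.t) * q.t + p.t * (1 + q.t) + D.s p.a * q.a
    linear_combination -(p.t * q.t) * h2
  · show D.s p.a + D.s q.a = (1 + p.t) * D.s q.a + p.t * D.s q.a + D.s p.a * 1
    linear_combination -(p.t * D.s q.a) * h2
  · show (p.t + q.t + D.s p.a * q.a) = p.t * (1 + q.t) + (1 + p.t) * q.t + D.s p.a * q.a
    linear_combination -(p.t * q.t) * h2
  · show 1 + (p.t + q.t + D.s p.a * q.a) = p.t * q.t + (1 + p.t) * (1 + q.t) + D.s p.a * q.a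
    linear_combination -(p.t * q.t) * h2
  · show D.s p.a + D.s q.a = p.t * D.s q.a + (1 + p.t) * D.s q.a + D.s p.a * 1
    linear_combination -(p.t * D.s q.a) * h2
  · show p.a + q.a = p.a * (1 + q.t) + p.a * q.t + 1 * q.a
    linear_combination -(p.a * q.t) * h2
  · show p.a + q.a = p.a * q.t + p.a * (1 + q.t) + 1 * q.a
    linear_combination -(p.a * q.t) * h2
  · show (1 : F) = p.a * D.s q.a + p.a * D.s q.a + 1 * 1
    linear_combination -(p.a * D.s q.a) * h2

theorem Mt_det (p : UU D) : (Mt p).det = 1 := by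
  have h2 := D.two
  unfold Mt
  rw [Matrix.det_fin_three]
  show (1 + p.t) * (1 + p.t) * 1 - (1 + p.t) * D.s p.a * p.a - p.t * p.t * 1 + p.t * D.s p.a * p.a + D.s p.a * p.t * p.a - D.s p.a * (1 + p.t) * p.a = 1
  linear_combination (p.t - p.a * D.s p.a) * h2

theorem Mt_one : Mt (1 : UU D) = 1 := by
  unfold Mt
  rw [Matrix.one_fin_three]
  simp only [one_a, one_t, map_zero]
  norm_num

theorem Mt_su {q : ℕ} (hq : ∀ x, D.s x = x ^ q) (p : UU D) (u v : Fin 3 → F) :
    hermForm 3 F q (Matrix.mulVec (Mt p) u) (Matrix.mulVec (Mt p) v) = hermForm 3 F q u v := by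
  have h2 := D.two
  unfold hermForm
  have e0 : ∀ w : Fin 3 → F, Matrix.mulVec (Mt p) w 0 = w 0 + p.t * (w 0 + w 1) + D.s p.a * w 2 := by
    intro w
    unfold Mt Matrix.mulVec dotProduct
    rw [Fin.sum_univ_three]
    show (1 + p.t) * w 0 + p.t * w 1 + D.s p.a * w 2 = _
    ring
  have e1 : ∀ w : Fin 3 → F, Matrix.mulVec (Mt p) w 1 = w 1 + p.t * (w 0 + w 1) + D.s p.a * w 2 := by
    intro w
    unfold Mt Matrix.mulVec dotProduct
    rw [Fin.sum_univ_three]
    show p.t * w 0 + (1 + p.t) * w 1 + D.s p.a * w 2 = _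
    ring
  have e2 : ∀ w : Fin 3 → F, Matrix.mulVec (Mt p) w 2 = w 2 + p.a * (w 0 + w 1) := by
    intro w
    unfold Mt Matrix.mulVec dotProduct
    rw [Fin.sum_univ_three]
    show p.a * w 0 + p.a * w 1 + 1 * w 2 = _
    ring
  rw [Fin.sum_univ_three, Fin.sum_univ_three, e0, e0, e1, e1, e2, e2]
  rw [← hq, ← hq, ← hq, ← hq, ← hq, ← hq]
  simp only [map_add, map_mul, D.inv]
  obtain ⟨T, hT⟩ : ∃ T, T = D.s p.t := ⟨_, rfl⟩
  obtain ⟨A, hA⟩ : ∃ A, A = D.s p.a := ⟨_, rfl⟩
  have hh : p.t + T = A * p.a := by rw [hT, hA, p.h]; ring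
  rw [← hT, ← hA]
  linear_combination ((u 0 + u 1) * (D.s (v 0) + D.s (v 1))) * hh +
    (A * p.a * (u 0 + u 1) * (D.s (v 0) + D.s (v 1)) + A * u 2 * (D.s (v 0) + D.s (v 1)) + p.a * (D.s (v 2)) * (u 0 + u 1) +
      (p.t * (u 0 + u 1) + A * u 2) * (T * (D.s (v 0) + D.s (v 1)) + p.a * D.s (v 2))) * h2

/-- the embedding -/
def emb {q : ℕ} (hq : ∀ x, D.s x = x ^ q) : UU D →* Cfsg.SU 3 F q where
  toFun p := ⟨⟨Mt p, Mt_det p⟩, fun u v => Mt_su hq p u v⟩
  map_one' := Subtype.ext (Subtype.ext Mt_one)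
  map_mul' := fun p q => Subtype.ext (Subtype.ext (Mt_mul p q))

theorem emb_inj {q : ℕ} (hq : ∀ x, D.s x = x ^ q) : Function.Injective (emb hq : UU D →* _) := by
  intro p r h
  have h1 : Mt p = Mt r := congrArg (fun g : Cfsg.SU 3 F q => ((g : Matrix.SpecialLinearGroup (Fin 3) F) : Matrix (Fin 3) (Fin 3) F)) h
  have h2 : Mt p 2 0 = Mt r 2 0 := by rw [h1]
  have h3 : Mt p 0 1 = Mt r 0 1 := by rw [h1]
  exact UU.ext h2 h3

theorem card_su [Fintype F] {n : ℕ} (hF : Fintype.card F = (2 ^ n) ^ 2) :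
    ∃ m : ℕ, (1 ≤ n → Odd m) ∧ Nat.card (Cfsg.SU 3 F (2 ^ n)) = 2 ^ (n * 3) * m := by
  have h1 := Cfsg.Agent.H22.card_SU (n := 3) hF (by norm_num)
  rw [Finset.prod_range_succ, Finset.prod_range_succ, Finset.prod_range_one] at h1
  have e0 : Even 0 := by decide
  have e1 : ¬ Even 1 := by decide
  have e2 : Even 2 := by decide
  rw [if_pos e0, if_neg e1, if_pos e2] at h1
  have hq0 : 0 < 2 ^ n := by positivity
  refine ⟨((2 ^ n) ^ (1 + 1) - 1) * ((2 ^ n) ^ (2 + 1) + 1), ?_, ?_⟩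
  · intro hn
    have he : ∀ k, 1 ≤ k → Even ((2 ^ n) ^ k) := by
      intro k hk
      rw [← pow_mul]
      exact (Nat.even_pow.2 ⟨even_two, by positivity⟩)
    apply Odd.mul
    · have h3 := he (1 + 1) (by norm_num)
      have h4 : 1 ≤ (2 ^ n) ^ (1 + 1) := Nat.one_le_pow _ _ hq0
      exact Nat.Even.sub_odd h4 h3 odd_one
    · exact (he (2 + 1) (by norm_num)).add_one
  · have h2 : 0 < 2 ^ n + 1 := by positivity
    apply Nat.eq_of_mul_eq_mul_left h2
    rw [h1]
    have e3 : 3 * (3 - 1) / 2 = 3 := by norm_num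
    rw [e3, pow_mul]
    ring

theorem exists_dat [Fintype F] {n : ℕ} (hn : 1 ≤ n) (hF : Fintype.card F = (2 ^ n) ^ 2) :
    ∃ D : Dat F, ∀ x, D.s x = x ^ (2 ^ n) := by
  have h2 : (2 : F) = 0 := by
    have h1 : ((Fintype.card F : ℕ) : F) = 0 := Nat.cast_card_eq_zero F
    rw [hF, ← pow_mul, Nat.cast_pow] at h1
    exact (pow_eq_zero_iff (by omega)).1 h1
  haveI : CharP F 2 := CharTwo.of_one_ne_zero_of_two_eq_zero one_ne_zero h2
  refine ⟨⟨iterateFrobenius F 2 n, ?_, h2, ?_⟩, fun x => iterateFrobenius_def (R := F) 2 n x⟩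
  · intro x
    rw [iterateFrobenius_def, iterateFrobenius_def, ← pow_mul, ← pow_two, ← hF]
    exact FiniteField.pow_card x
  · by_contra hcon
    push Not at hcon
    have h3 : Fintype.card F ≤ 2 ^ n := by
      classical
      have hne : (Polynomial.X ^ (2 ^ n) - Polynomial.X : Polynomial F) ≠ 0 :=
        FiniteField.X_pow_card_sub_X_ne_zero F (Nat.one_lt_two_pow (by omega))
      have hdeg : (Polynomial.X ^ (2 ^ n) - Polynomial.X : Polynomial F).natDegree = 2 ^ n :=
        FiniteField.X_pow_card_sub_X_natDegree_eq F (Nat.one_lt_two_pow (by omega))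
      have h4 : (Finset.univ : Finset F) ⊆ (Polynomial.X ^ (2 ^ n) - Polynomial.X : Polynomial F).roots.toFinset := by
        intro b _
        have hb := hcon b
        rw [iterateFrobenius_def] at hb
        rw [Multiset.mem_toFinset, Polynomial.mem_roots hne, Polynomial.IsRoot, Polynomial.eval_sub, Polynomial.eval_pow, Polynomial.eval_X, hb, sub_self]
      rw [← Finset.card_univ]
      refine (Finset.card_le_card h4).trans ((Multiset.toFinset_card_le _).trans ?_)
      exact (Polynomial.card_roots' _).trans hdeg.le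
    rw [hF] at h3
    have h5 : 1 < 2 ^ n := Nat.one_lt_two_pow (by omega)
    nlinarith

theorem su_equiv [Fintype F] {n : ℕ} (hn : 1 ≤ n) (hF : Fintype.card F = (2 ^ n) ^ 2) {D : Dat F} (hq : ∀ x, D.s x = x ^ (2 ^ n))
    (P : Sylow 2 (Cfsg.SU 3 F (2 ^ n))) : Nonempty (UU D ≃* (P : Subgroup (Cfsg.SU 3 F (2 ^ n)))) := by
  obtain ⟨m, hm, hc⟩ := card_su hF
  have h1 : Nat.card (emb hq : UU D →* _).range = 2 ^ (n * 3) := by
    rw [Nat.card_congr (MonoidHom.ofInjective (emb_inj hq)).toEquiv.symm, (card_UU (by rw [Nat.card_eq_fintype_card]; exact hF)).2, pow_mul]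
  obtain ⟨f⟩ := CfsgLib.GS8.sylow_equiv_of_card P h1 hc (hm hn)
  exact ⟨(MonoidHom.ofInjective (emb_inj hq)).trans f⟩

theorem psu_equiv [Fintype F] {n : ℕ} (hn : 1 ≤ n) (hF : Fintype.card F = (2 ^ n) ^ 2) {D : Dat F} (hq : ∀ x, D.s x = x ^ (2 ^ n))
    (P : Sylow 2 (Cfsg.PSU 3 F (2 ^ n))) : Nonempty (UU D ≃* (P : Subgroup (Cfsg.PSU 3 F (2 ^ n)))) := by
  obtain ⟨m, hm, hc⟩ := card_su hF
  have hm := hm hn
  have hcU : Nat.card (UU D) = 2 ^ (n * 3) := by
    rw [(card_UU (by rw [Nat.card_eq_fintype_card]; exact hF)).2, pow_mul]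
  have hcZ := Cfsg.Agent.H22.card_center_SU (F := F) (n := 3) hF (by norm_num)
  have hZodd : Odd (Nat.card (center (Cfsg.SU 3 F (2 ^ n)))) := by
    rw [hcZ]
    apply Odd.of_dvd_nat (n := 3) (by decide) (Nat.gcd_dvd_left _ _)
  let e : Cfsg.SU 3 F (2 ^ n) →* Cfsg.PSU 3 F (2 ^ n) := QuotientGroup.mk' _
  have hj : Function.Injective (e.comp (emb hq : UU D →* _)) := by
    rw [injective_iff_map_eq_one]
    intro x hx
    have h1 : emb hq x ∈ center (Cfsg.SU 3 F (2 ^ n)) := (QuotientGroup.eq_one_iff _).1 hx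
    have h2 : orderOf (emb hq x) ∣ Nat.card (center (Cfsg.SU 3 F (2 ^ n))) := by
      have := orderOf_dvd_natCard (⟨_, h1⟩ : center (Cfsg.SU 3 F (2 ^ n)))
      rwa [Subgroup.orderOf_mk] at this
    rw [orderOf_injective _ (emb_inj hq)] at h2
    have h3 : orderOf x ∣ 2 ^ (n * 3) := hcU ▸ orderOf_dvd_natCard x
    have h4 : Nat.Coprime (2 ^ (n * 3)) (Nat.card (center (Cfsg.SU 3 F (2 ^ n)))) := by
      apply Nat.Coprime.pow_left
      exact Nat.coprime_two_left.2 hZodd
    exact orderOf_eq_one_iff.1 (Nat.eq_one_of_dvd_coprimes h4 h3 h2)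
  have h1 : Nat.card (e.comp (emb hq : UU D →* _)).range = 2 ^ (n * 3) := by
    rw [Nat.card_congr (MonoidHom.ofInjective hj).toEquiv.symm, hcU]
  have h2 := Subgroup.card_eq_card_quotient_mul_card_subgroup (center (Cfsg.SU 3 F (2 ^ n)))
  rw [hc] at h2
  have h3 : 2 ^ (n * 3) ∣ Nat.card (Cfsg.PSU 3 F (2 ^ n)) := by
    refine Nat.Coprime.dvd_of_dvd_mul_right (n := Nat.card (center (Cfsg.SU 3 F (2 ^ n)))) ?_ ?_
    · apply Nat.Coprime.pow_left
      exact Nat.coprime_two_left.2 hZodd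
    · exact Dvd.intro _ h2
  obtain ⟨k, hk⟩ := h3
  have h4 : Odd k := by
    have h5 : Nat.card (Cfsg.SU 3 F (2 ^ n) ⧸ center (Cfsg.SU 3 F (2 ^ n))) = 2 ^ (n * 3) * k := hk
    rw [h5, mul_assoc] at h2
    have h6 : m = k * Nat.card (center (Cfsg.SU 3 F (2 ^ n))) := Nat.eq_of_mul_eq_mul_left (by positivity) h2
    rw [h6] at hm
    exact (Nat.odd_mul.1 hm).1
  obtain ⟨f⟩ := CfsgLib.GS8.sylow_equiv_of_card P h1 hk h4
  exact ⟨(MonoidHom.ofInjective hj).trans f⟩

theorem suzuki_equiv {P Q : Type*} [Group P] [Group Q] (e : P ≃* Q) (h : IsSuzukiTwoGroup P) : IsSuzukiTwoGroup Q := by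
  obtain ⟨h1, h2, ⟨x, y, hxy⟩, ⟨u, v, huv, hu1, hu2, hv1, hv2⟩, K, hK, hreg⟩ := h
  refine ⟨Finite.of_equiv _ e.toEquiv, h2.of_equiv e, ⟨e x, e y, ?_⟩, ⟨e u, e v, ?_, ?_, ?_, ?_, ?_⟩, K.map (MulAut.congr e).toMonoidHom, ?_, ?_⟩
  · rw [← map_mul, ← map_mul]; exact fun h => hxy (e.injective h)
  · exact fun h => huv (e.injective h)
  · exact fun h => hu1 (e.injective (h.trans (map_one e).symm))
  · rw [← map_mul, hu2, map_one]
  · exact fun h => hv1 (e.injective (h.trans (map_one e).symm))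
  · rw [← map_mul, hv2, map_one]
  · exact isCyclic_of_surjective ((MulAut.congr e).toMonoidHom.subgroupMap K) ((MulAut.congr e).toMonoidHom.subgroupMap_surjective K)
  · intro a b ha1 ha2 hb1 hb2
    have hs : ∀ a : Q, a ≠ 1 → a * a = 1 → e.symm a ≠ 1 ∧ e.symm a * e.symm a = 1 := by
      intro a h1 h2
      refine ⟨fun h => h1 ?_, ?_⟩
      · rw [← e.apply_symm_apply a, h, map_one]
      · rw [← map_mul, h2, map_one]
    obtain ⟨k, hk, huniq⟩ := hreg (e.symm a) (e.symm b) (hs a ha1 ha2).1 (hs a ha1 ha2).2 (hs b hb1 hb2).1 (hs b hb1 hb2).2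
    refine ⟨⟨MulAut.congr e k, ⟨k, k.2, rfl⟩⟩, ?_, ?_⟩
    · show e ((k : MulAut P) (e.symm a)) = b
      rw [hk, e.apply_symm_apply]
    · rintro ⟨_, ⟨m, hm, rfl⟩⟩ hmx
      have h3 : e (m (e.symm a)) = b := hmx
      have h4 := huniq ⟨m, hm⟩ (by show m (e.symm a) = e.symm b; rw [← h3, e.symm_apply_apply])
      apply Subtype.ext
      show MulAut.congr e m = MulAut.congr e k
      rw [← h4]

end CfsgLib.US8
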