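import Cfsg.Agent.LibUS8

/-! Automorphisms of the Sylow `2`-subgroup of `SU(3,2^n)` (helper8). -/

set_option autoImplicit false

namespace CfsgLib.US8

open Subgroup Cfsg

variable {F : Type*} [Field F] {D : Dat F}

/-- Artin–Schreier elements from a subfield of index two -/
theorem artin {L : Type*} [Field L] [Finite L] (E : Dat L) {δ : L} (hδ : E.s δ = δ) : ∃ X : L, X ^ 2 + X = δ := by
  obtain ⟨θ, hθ⟩ := E.ex
  have hw : θ + E.s θ ≠ 0 := fun h => hθ (E.eq_of_add h).symm
  obtain ⟨η, hη⟩ : ∃ η, η + E.s η = 1 := E.tr_surj (map_one _)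
  have hη' : E.s η = η + 1 := by linear_combination hη - η * E.two
  let wp : Fx E →+ Fx E :=
    { toFun := fun x => ⟨(x : L) ^ 2 + x, by show E.s _ = _; rw [map_add, map_pow, mem_Fx.1 x.2]⟩
      map_zero' := Subtype.ext (by show (0 : L) ^ 2 + 0 = 0; ring)
      map_add' := fun x y => Subtype.ext (by
        show ((x : L) + y) ^ 2 + (x + y) = ((x : L) ^ 2 + x) + (y ^ 2 + y)
        linear_combination (x : L) * y * E.two) }
  have hker : Nat.card wp.ker = 2 := by
    have h1 : ∀ x : Fx E, x ∈ wp.ker ↔ (x = 0 ∨ x = ⟨1, map_one _⟩) := by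
      intro x
      rw [AddMonoidHom.mem_ker]
      constructor
      · intro h
        have h2 : (x : L) ^ 2 + x = 0 := congrArg Subtype.val h
        have h3 : (x : L) * (x + 1) = 0 := by rw [← h2]; ring
        rcases mul_eq_zero.1 h3 with h4 | h4
        · exact Or.inl (Subtype.ext h4)
        · exact Or.inr (Subtype.ext (E.eq_of_add h4))
      · rintro (rfl | rfl)
        · exact map_zero _
        · exact Subtype.ext (by show (1 : L) ^ 2 + 1 = 0; linear_combination E.two)
    have h2 : (wp.ker : Set (Fx E)) = {0, ⟨1, map_one _⟩} := by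
      ext x
      rw [SetLike.mem_coe, h1]; rfl
    have h3 : Nat.card wp.ker = (wp.ker : Set (Fx E)).ncard := rfl
    rw [h3, h2, Set.ncard_pair]
    intro h
    exact zero_ne_one (congrArg Subtype.val h)
  have hidx : wp.range.index = 2 := by
    have h1 := wp.ker.card_mul_index
    rw [AddSubgroup.index_ker, hker] at h1
    have h2 := wp.range.card_mul_index
    have h3 : 0 < Nat.card wp.range := Nat.card_pos
    have h4 : Nat.card wp.range * wp.range.index = Nat.card wp.range * 2 := by rw [h2, ← h1, mul_comm]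
    exact Nat.eq_of_mul_eq_mul_left h3 h4
  let κ : Fx E := ⟨η ^ 2 + η, by show E.s _ = _; rw [map_add, map_pow, hη']; linear_combination (η + 1) * E.two⟩
  have hκ : κ ∉ wp.range := by
    rintro ⟨x, hx⟩
    have h1 : (x : L) ^ 2 + x = η ^ 2 + η := congrArg Subtype.val hx
    have h2 : ((x : L) + η) * (x + η + 1) = 0 := by
      have : ((x : L) + η) * (x + η + 1) = ((x : L) ^ 2 + x) - (η ^ 2 + η) + (x * η + η ^ 2 + η) * 2 := by ring
      rw [this, h1, E.two]; ring
    have hx2 := mem_Fx.1 x.2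
    rcases mul_eq_zero.1 h2 with h3 | h3
    · have h4 : (x : L) = η := E.eq_of_add h3
      rw [h4, hη'] at hx2
      have : (1 : L) = 0 := by linear_combination hx2
      exact one_ne_zero this
    · have h4 : (x : L) = η + 1 := E.eq_of_add (by rw [← h3]; ring)
      rw [h4, map_add, map_one, hη'] at hx2
      have : (1 : L) = 0 := by linear_combination hx2
      exact one_ne_zero this
  by_cases hd : (⟨δ, hδ⟩ : Fx E) ∈ wp.range
  · obtain ⟨x, hx⟩ := hd
    exact ⟨x, congrArg Subtype.val hx⟩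
  · have h1 : (⟨δ, hδ⟩ : Fx E) + κ ∈ wp.range := by
      rw [AddSubgroup.add_mem_iff_of_index_two hidx]
      exact iff_of_false hd hκ
    obtain ⟨x, hx⟩ := h1
    have h2 : (x : L) ^ 2 + x = δ + (η ^ 2 + η) := congrArg Subtype.val hx
    refine ⟨x + η, ?_⟩
    linear_combination h2 + (η ^ 2 + η + x * η) * E.two

/-- the action on the first coordinate -/
theorem exists_alpha (τ : MulAut (UU D)) : ∃ α : F →+ F, ∀ p : UU D, (τ p).a = α p.a := by
  have hc : ∀ p : UU D, p.a = 0 → (τ p).a = 0 := by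
    intro p hp
    rw [← sq_one_iff] at hp ⊢
    rw [← map_mul, hp, map_one]
  have hsame : ∀ p r : UU D, p.a = r.a → (τ p).a = (τ r).a := by
    intro p r h
    have h1 : (p * r⁻¹).a = 0 := by rw [mul_a, inv_a, h, D.add_self]
    have h2 := hc _ h1
    rw [map_mul, map_inv, mul_a, inv_a] at h2
    exact D.eq_of_add h2
  choose l hl using fun a : F => exists_lift (D := D) a
  refine ⟨{ toFun := fun a => (τ (l a)).a, map_zero' := ?_, map_add' := ?_ }, ?_⟩
  · exact hc _ (hl 0)
  · intro a b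
    rw [← mul_a, ← map_mul]
    apply hsame
    rw [mul_a, hl, hl, hl]
  · intro p
    exact hsame _ _ (hl _).symm

theorem exists_beta (τ : MulAut (UU D)) : ∃ β : Fx D → Fx D, ∀ t : Fx D, τ (zz t) = zz (β t) := by
  have h : ∀ t : Fx D, ∃ s : Fx D, τ (zz t) = zz s := by
    intro t
    have h1 : (τ (zz t)).a = 0 := by
      rw [← sq_one_iff, ← map_mul, (sq_one_iff _).2 (zz_a t), map_one]
    exact ⟨_, eq_zz h1⟩
  choose β hβ using h
  exact ⟨β, hβ⟩

theorem zz_inj {s t : Fx D} (h : zz s = zz t) : s = t := Subtype.ext (congrArg UU.t h)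

/-- key statement: 2-automorphisms act trivially on the centre -/
theorem fix_center [Finite F] {q : ℕ} (hF : Nat.card F = q ^ 2) (τ : MulAut (UU D)) (h1 : ∀ p, (τ (τ p)).a = p.a) (t : Fx D) :
    τ (zz t) = zz t := by
  classical
  obtain ⟨α, hα⟩ := exists_alpha τ
  obtain ⟨β, hβ⟩ := exists_beta τ
  rw [hβ]
  by_contra hne
  have hbt : β t ≠ t := fun h => hne (by rw [h])
  -- relations
  have hαα : ∀ a, α (α a) = a := by
    intro a
    obtain ⟨p, hp⟩ := exists_lift (D := D) a
    rw [← hp, ← hα, ← hα, h1]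
  have hN : ∀ a : F, α a * D.s (α a) = (β ⟨a * D.s a, D.nm_fix a⟩ : F) := by
    intro a
    obtain ⟨p, hp⟩ := exists_lift (D := D) a
    subst hp
    have h2 := congrArg τ (sq p)
    rw [map_mul, sq, hβ] at h2
    have h3 := congrArg UU.t h2
    rw [zz_t, zz_t] at h3
    rw [← hα]; exact h3
  have hBm : ∀ a b : F, D.s (D.s a * b + a * D.s b) = D.s a * b + a * D.s b := by
    intro a b
    rw [map_add, map_mul, map_mul, D.inv, D.inv]; ring
  have hB : ∀ a b : F, D.s (α a) * α b + α a * D.s (α b) = (β ⟨D.s a * b + a * D.s b, hBm a b⟩ : F) := by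
    intro a b
    obtain ⟨p, hp⟩ := exists_lift (D := D) a
    obtain ⟨r, hr⟩ := exists_lift (D := D) b
    subst hp hr
    have h2 := congrArg τ (comm_eq p r)
    rw [map_mul, map_mul, map_mul, hβ, comm_eq, ← hα, ← hα] at *
    have h3 := mul_left_cancel h2
    have h4 := congrArg UU.t h3
    rw [zz_t, zz_t] at h4
    exact h4
  have hβ0 : β 0 = 0 := by
    apply zz_inj
    rw [← hβ]
    have : (zz (0 : Fx D)) = 1 := rfl
    rw [this, map_one]
  have hFx : Nat.card (Fx D) = q := (card_UU hF).1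
  have hq2 : 2 ≤ q := by
    have h3 : 1 < Nat.card F := Finite.one_lt_card
    rw [hF] at h3
    by_contra h4
    have h5 : q ≤ 1 := by omega
    have : q ^ 2 ≤ 1 := by nlinarith
    omega
  -- fixed vectors
  let W : AddSubgroup F := (α + AddMonoidHom.id F).ker
  have hW : ∀ a, a ∈ W ↔ α a = a := by
    intro a
    rw [AddMonoidHom.mem_ker]
    constructor
    · intro h; exact D.eq_of_add h
    · intro h; show α a + a = 0; rw [h, D.add_self]
  have hWc : q ≤ Nat.card W := by
    have h5 := W.card_mul_index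
    rw [AddSubgroup.index_ker, hF] at h5
    have h6 : Nat.card (α + AddMonoidHom.id F).range ≤ Nat.card W := by
      apply AddSubgroup.card_le_of_le
      rintro _ ⟨a, rfl⟩
      rw [hW]
      show α (α a + a) = α a + a
      rw [map_add, hαα]; ring
    by_contra h7
    push Not at h7
    have h8 : Nat.card W * Nat.card (α + AddMonoidHom.id F).range < q ^ 2 := by nlinarith
    omega
  obtain ⟨u, hu, hu0⟩ : ∃ u, α u = u ∧ u ≠ 0 := by
    haveI : Nontrivial W := Finite.one_lt_card_iff_nontrivial.1 (by omega)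
    obtain ⟨x, hx⟩ := exists_ne (0 : W)
    exact ⟨x, (hW _).1 x.2, fun h => hx (Subtype.ext h)⟩
  have hsu0 : ∀ {u : F}, u ≠ 0 → D.s u ≠ 0 := fun h h' => h ((map_eq_zero D.s).1 h')
  have hline : ∀ u : F, α u = u → u ≠ 0 → ∀ f, D.s f = f → D.s (α (u * f) / u) = α (u * f) / u := by
    intro u hu hu0 f hf
    have h3 := hB u (u * f)
    have h4 : (⟨D.s u * (u * f) + u * D.s (u * f), hBm _ _⟩ : Fx D) = 0 := by
      apply Subtype.ext
      show D.s u * (u * f) + u * D.s (u * f) = 0
      rw [map_mul, hf]; linear_combination (u * D.s u * f) * D.two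
    rw [h4, hβ0, hu] at h3
    have h5 : D.s u * α (u * f) = u * D.s (α (u * f)) := D.eq_of_add h3
    rw [map_div₀, div_eq_div_iff (hsu0 hu0) hu0]
    linear_combination -h5
  obtain ⟨w, hw, hwu⟩ : ∃ w, α w = w ∧ ∀ f, D.s f = f → w ≠ u * f := by
    by_contra hcon
    push Not at hcon
    have h3 : Nat.card W ≤ Nat.card {s : Fx D // β s = s} := by
      refine Nat.card_le_card_of_injective (fun w : W => ⟨⟨(w : F) * D.s w, D.nm_fix _⟩, ?_⟩) ?_
      · apply Subtype.ext
        rw [← hN, (hW _).1 w.2]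
      · intro x y hxy
        have h4 : (x : F) * D.s x = y * D.s y := congrArg (fun z : {s : Fx D // β s = s} => ((z : Fx D) : F)) hxy
        obtain ⟨f, hf, hxf⟩ := hcon x ((hW _).1 x.2)
        obtain ⟨g, hg, hyg⟩ := hcon y ((hW _).1 y.2)
        apply Subtype.ext
        rw [hxf, hyg] at h4 ⊢
        rw [map_mul, map_mul, hf, hg] at h4
        have h5 : (u * D.s u) * (f + g) ^ 2 = 0 := by
          linear_combination h4 + (u * D.s u * (g ^ 2 + f * g)) * D.two
        have h6 : (f + g) ^ 2 = 0 := (mul_eq_zero.1 h5).resolve_left (mul_ne_zero hu0 (hsu0 hu0))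
        rw [D.eq_of_add ((pow_eq_zero_iff (by norm_num)).1 h6)]
    have h4 : Nat.card {s : Fx D // β s = s} < Nat.card (Fx D) := Finite.card_subtype_lt hbt
    omega
  have hw0 : w ≠ 0 := fun h => hwu 0 (map_zero _) (by rw [h, mul_zero])
  obtain ⟨c, hc⟩ : ∃ c, c = D.s u * w + u * D.s w := ⟨_, rfl⟩
  have hcs : D.s c = c := by rw [hc]; exact hBm u w
  have hc0 : c ≠ 0 := by
    intro h
    rw [hc] at h
    have h5 : D.s u * w = u * D.s w := D.eq_of_add h
    refine hwu (w / u) ?_ ?_
    · rw [map_div₀, div_eq_div_iff (hsu0 hu0) hu0]; linear_combination -h5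
    · field_simp
  have hmulf : ∀ {f g : F}, D.s f = f → D.s g = g → D.s (f * g) = f * g := fun hf hg => by rw [map_mul, hf, hg]
  have hcff : ∀ f g (hf : D.s f = f) (hg : D.s g = g),
      (β ⟨c * (f * g), hmulf hcs (hmulf hf hg)⟩ : F) = c * ((α (u * f) / u) * (α (w * g) / w)) := by
    intro f g hf hg
    have h3 := hB (u * f) (w * g)
    have h4 : (⟨D.s (u * f) * (w * g) + (u * f) * D.s (w * g), hBm _ _⟩ : Fx D) = ⟨c * (f * g), hmulf hcs (hmulf hf hg)⟩ := by
      apply Subtype.ext
      show D.s (u * f) * (w * g) + (u * f) * D.s (w * g) = c * (f * g)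
      rw [map_mul, map_mul, hf, hg, hc]; ring
    rw [h4] at h3
    rw [← h3]
    have h5 := hline u hu hu0 f hf
    have h6 := hline w hw hw0 g hg
    obtain ⟨x, hx⟩ : ∃ x, x = α (u * f) / u := ⟨_, rfl⟩
    obtain ⟨y, hy⟩ : ∃ y, y = α (w * g) / w := ⟨_, rfl⟩
    rw [← hx] at h5 ⊢
    rw [← hy] at h6 ⊢
    have hx' : α (u * f) = u * x := by rw [hx]; field_simp
    have hy' : α (w * g) = w * y := by rw [hy]; field_simp
    rw [hx', hy', map_mul, map_mul, h5, h6, hc]; ring
  have hone : ∀ u : F, α u = u → u ≠ 0 → α (u * 1) / u = 1 := by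
    intro u hu hu0
    rw [mul_one, hu, div_self hu0]
  have hcf : ∀ f (hf : D.s f = f), (β ⟨c * f, hmulf hcs hf⟩ : F) = c * (α (u * f) / u) := by
    intro f hf
    have h3 := hcff f 1 hf (map_one _)
    have h4 : (⟨c * f, hmulf hcs hf⟩ : Fx D) = ⟨c * (f * 1), hmulf hcs (hmulf hf (map_one _))⟩ := Subtype.ext (by show c * f = c * (f * 1); rw [mul_one])
    rw [h4, h3, hone w hw hw0, mul_one]
  have hcg : ∀ f (hf : D.s f = f), (β ⟨c * f, hmulf hcs hf⟩ : F) = c * (α (w * f) / w) := by
    intro f hf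
    have h3 := hcff 1 f (map_one _) hf
    have h4 : (⟨c * f, hmulf hcs hf⟩ : Fx D) = ⟨c * (1 * f), hmulf hcs (hmulf (map_one _) hf)⟩ := Subtype.ext (by show c * f = c * (1 * f); rw [one_mul])
    rw [h4, h3, hone u hu hu0, one_mul]
  have hgh : ∀ f (hf : D.s f = f), α (w * f) / w = α (u * f) / u := by
    intro f hf
    have h3 := hcf f hf
    rw [hcg f hf] at h3
    exact mul_left_cancel₀ hc0 h3
  -- the field automorphism
  let L : Subfield F := RingHom.eqLocusField D.s (RingHom.id F)
  have hL : ∀ x, x ∈ L ↔ D.s x = x := fun x => Iff.rfl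
  let γ : L →+* L :=
    { toFun := fun f => ⟨α (u * f) / u, (hL _).2 (hline u hu hu0 f ((hL _).1 f.2))⟩
      map_one' := Subtype.ext (hone u hu hu0)
      map_mul' := fun f g => by
        apply Subtype.ext
        show α (u * (f * g : F)) / u = (α (u * f) / u) * (α (u * g) / u)
        have hf := (hL _).1 f.2
        have hg := (hL _).1 g.2
        apply mul_left_cancel₀ hc0
        rw [← hcf _ (hmulf hf hg), hcff _ _ hf hg, hgh _ hg]
      map_zero' := Subtype.ext (by show α (u * 0) / u = 0; rw [mul_zero, map_zero, zero_div])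
      map_add' := fun f g => Subtype.ext (by
        show α (u * (f + g : F)) / u = α (u * f) / u + α (u * g) / u
        rw [mul_add, map_add, add_div]) }
  have hγ : ∀ f : L, ((γ f : L) : F) = α (u * f) / u := fun f => rfl
  have htc : D.s ((t : F) / c) = (t : F) / c := by rw [map_div₀, mem_Fx.1 t.2, hcs]
  let E : Dat L :=
    { s := γ
      inv := fun f => by
        apply Subtype.ext
        rw [hγ, hγ]
        have : u * (α (u * f) / u) = α (u * f) := by field_simp
        rw [this, hαα]; field_simp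
      two := Subtype.ext D.two
      ex := ⟨⟨(t : F) / c, (hL _).2 htc⟩, fun h => by
        have h3 : α (u * ((t : F) / c)) / u = (t : F) / c := congrArg Subtype.val h
        have h4 := hcf _ htc
        rw [h3] at h4
        apply hbt
        apply Subtype.ext
        have h5 : (⟨c * ((t : F) / c), hmulf hcs htc⟩ : Fx D) = t := Subtype.ext (by show c * ((t : F) / c) = t; field_simp)
        rw [h5] at h4
        rw [h4]; field_simp⟩ }
  have hfixN : ∀ v : F, α v = v → ∃ hv : D.s ((v * D.s v) / c) = (v * D.s v) / c, γ ⟨(v * D.s v) / c, (hL _).2 hv⟩ = ⟨(v * D.s v) / c, (hL _).2 hv⟩ := by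
    intro v hv
    have h3 : D.s ((v * D.s v) / c) = (v * D.s v) / c := by rw [map_div₀, D.nm_fix, hcs]
    refine ⟨h3, ?_⟩
    apply Subtype.ext
    rw [hγ]
    apply mul_left_cancel₀ hc0
    show c * (α (u * ((v * D.s v) / c)) / u) = c * ((v * D.s v) / c)
    rw [← hcf _ h3]
    have h5 : (⟨c * ((v * D.s v) / c), hmulf hcs h3⟩ : Fx D) = ⟨v * D.s v, D.nm_fix v⟩ := Subtype.ext (by show c * ((v * D.s v) / c) = v * D.s v; field_simp)
    rw [h5, ← hN, hv]; field_simp
  obtain ⟨hA, hA'⟩ := hfixN u hu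
  obtain ⟨hB1, hB1'⟩ := hfixN w hw
  obtain ⟨X, hX⟩ := artin E (δ := ⟨(u * D.s u) / c, (hL _).2 hA⟩ * ⟨(w * D.s w) / c, (hL _).2 hB1⟩) (by
    show γ _ = _
    rw [map_mul, hA', hB1'])
  have hX' : (X : F) ^ 2 + X = (u * D.s u) / c * ((w * D.s w) / c) := congrArg Subtype.val hX
  have hXs : D.s (X : F) = X := (hL _).1 X.2
  have hnu : u * D.s u ≠ 0 := mul_ne_zero hu0 (hsu0 hu0)
  obtain ⟨f, hf⟩ : ∃ f, f = (X : F) * c / (u * D.s u) := ⟨_, rfl⟩
  have hfs : D.s f = f := by rw [hf, map_div₀, map_mul, D.nm_fix, hXs, hcs]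
  apply hwu f hfs
  have h7 : (w + u * f) * D.s (w + u * f) = 0 := by
    rw [map_add, map_mul, hfs]
    have hXf : (X : F) = f * (u * D.s u) / c := by
      rw [hf, div_mul_cancel₀ _ hnu, mul_div_cancel_right₀ _ hc0]
    rw [hXf] at hX'
    have h8 : (u * D.s u) * ((u * D.s u) * f ^ 2 + c * f + w * D.s w) = 0 := by
      have h9 : (f * (u * D.s u)) ^ 2 + c * (f * (u * D.s u)) = (u * D.s u) * (w * D.s w) := by
        obtain ⟨N1, hN1⟩ : ∃ N1, N1 = u * D.s u := ⟨_, rfl⟩
        obtain ⟨N2, hN2⟩ : ∃ N2, N2 = w * D.s w := ⟨_, rfl⟩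
        rw [← hN1, ← hN2] at hX' ⊢
        calc (f * N1) ^ 2 + c * (f * N1) = ((f * N1 / c) ^ 2 + f * N1 / c) * c ^ 2 := by field_simp
          _ = (N1 / c * (N2 / c)) * c ^ 2 := by rw [hX']
          _ = N1 * N2 := by field_simp
      linear_combination h9 + (u * D.s u * (w * D.s w)) * D.two
    have h10 := (mul_eq_zero.1 h8).resolve_left hnu
    rw [hc] at h10
    linear_combination h10
  exact D.eq_of_add (D.nm_eq_zero h7)


/-- S3315 -/
theorem center_le {R : Type*} [Group R] (S : Subgroup R) (hidx : S.index = 2) [Finite F] {q : ℕ} (hF : Nat.card F = q ^ 2) (e : UU D ≃* S) :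
    (center S).map S.subtype ≤ center R := by
  haveI : S.Normal := normal_of_index_eq_two hidx
  rintro _ ⟨z, hz, rfl⟩
  rw [mem_center_iff]
  intro g
  have hzc : e.symm z ∈ center (UU D) := by
    rw [mem_center_iff]
    intro p
    apply e.injective
    rw [map_mul, map_mul, e.apply_symm_apply]
    exact mem_center_iff.1 hz _
  rw [mem_center_iff'] at hzc
  -- conjugation by g
  let τ : MulAut (UU D) := (MulAut.congr e.symm) (MulAut.conjNormal g)
  have hτ : ∀ p, ((e (τ p) : S) : R) = g * (e p : R) * g⁻¹ := by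
    intro p
    show ((e (e.symm (MulAut.conjNormal g (e p))) : S) : R) = _
    rw [e.apply_symm_apply]
    exact MulAut.conjNormal_apply _ _
  have hg2 : g * g ∈ S := by
    have := Subgroup.sq_mem_of_index_two hidx g
    rwa [pow_two] at this
  have h1 : ∀ p, (τ (τ p)).a = p.a := by
    intro p
    obtain ⟨r, hr⟩ := e.surjective ⟨g * g, hg2⟩
    have h2 : τ (τ p) = r * p * r⁻¹ := by
      apply e.injective
      apply Subtype.ext
      rw [hτ, hτ, map_mul, map_mul, map_inv, hr]
      show g * (g * (e p : R) * g⁻¹) * g⁻¹ = g * g * (e p : R) * (g * g)⁻¹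
      group
    rw [h2, mul_a, mul_a, inv_a]
    linear_combination r.a * D.two
  have h3 := fix_center hF τ h1 ⟨_, t_mem hzc⟩
  rw [← eq_zz hzc] at h3
  have h4 := hτ (e.symm z)
  rw [h3, e.apply_symm_apply] at h4
  show g * (z : R) = z * g
  exact (mul_inv_eq_iff_eq_mul.1 h4.symm)

end CfsgLib.US8
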