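import Cfsg.Agent.LibFus21J7
import Cfsg.Agent.LibQdF9C
import Cfsg.Agent.LibFus21Thm

set_option autoImplicit false

/-! Weakly closed central elements: the group version of Glauberman's theorem. -/

namespace CfsgLib.WC

open Cfsg Cfsg.FusionSystem CfsgLib.Fus21

universe u

variable {G : Type u} [Group G] [Finite G] {p : ℕ} [Fact p.Prime]

theorem normSys_conj {S : Subgroup G} {J : Subgroup G} {hJ : J ≤ S} {P : Subgroup G} {φ : P →* G}
    (hφ : φ ∈ (normSys (groupFusionSystem S) J hJ).Hom P) :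
    ∃ g ∈ Subgroup.normalizer (J : Set G), ∀ x : P, φ x = g * (x : G) * g⁻¹ := by
  obtain ⟨ψ, ⟨-, -, g, hg⟩, h1, κ, h2⟩ := normSys_ext hφ
  have hgN : g ∈ Subgroup.normalizer (J : Set G) := by
    refine mem_normalizer_of_maps fun x hx => ?_
    rw [← hg ⟨x, Subgroup.mem_sup_right hx⟩, h2 x hx]
    exact (κ _).2
  refine ⟨g, hgN, fun x => ?_⟩
  rw [← hg ⟨x, Subgroup.mem_sup_left x.2⟩, h1 x x.2]

theorem s2799 (S : Sylow p G) (x : G) (hxS : x ∈ (S : Subgroup G))
    (hxZ : x ∈ (Subgroup.center ↥(Subgroup.normalizer ((Cfsg.thompsonSubgroupAOf (S : Subgroup G)) : Set G))).map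
      (Subgroup.normalizer ((Cfsg.thompsonSubgroupAOf (S : Subgroup G)) : Set G)).subtype)
    (h : p ≠ 2 ∨ (∃ z ∈ (S : Subgroup G) ⊓ Subgroup.centralizer ((S : Subgroup G) : Set G), z ^ p = x) ∨
      ¬ Cfsg.Involves (Equiv.Perm (Fin 4)) G) (g : G) (hg : g * x * g⁻¹ ∈ (S : Subgroup G)) : g * x * g⁻¹ = x := by
  have hS : IsPGroup p (S : Subgroup G) := S.2
  have hF := group_saturated S
  set F := groupFusionSystem (S : Subgroup G) with hFdef
  set J := thompsonSubgroupAOf (S : Subgroup G) with hJ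
  have hJS : J ≤ (S : Subgroup G) := Subgroup.map_subtype_le _
  have hJn := J_normalizer hS F
  have hSJ : (S : Subgroup G) ≤ Subgroup.normalizer (J : Set G) := by
    intro s hs
    rw [← hJn] at hs
    exact hs.2
  haveI : Finite (normalizerIn (S : Subgroup G) J) := finite_of_le (normalizerIn_le _ _)
  have hxN : x ∈ (normSys F J hJS).center := by
    have hle : (S : Subgroup G) ⊓ (Subgroup.center ↥(Subgroup.normalizer (J : Set G))).map
        (Subgroup.normalizer (J : Set G)).subtype ≤ (normSys F J hJS).center := by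
      refine le_center_of_fix (hS.to_le (normalizerIn_le _ _)) (normSys_saturated hS hF (J_fn hS F)) ?_ ?_
      · intro s hs
        exact ⟨hs.1, hSJ hs.1⟩
      · intro P φ hφ y hy hyQ
        obtain ⟨n, hn, hφn⟩ := normSys_conj hφ
        obtain ⟨-, ⟨z, hz, rfl⟩⟩ := hyQ
        rw [hφn]
        have h1 := Subgroup.mem_center_iff.1 hz ⟨n, hn⟩
        have h2 := congrArg Subtype.val h1
        change n * (z : G) = z * n at h2
        show n * (z : G) * n⁻¹ = z
        rw [h2, mul_inv_cancel_right]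
    exact hle ⟨hxS, hxZ⟩
  have hxF : x ∈ F.center := by
    rcases h with h | ⟨z, hz, hzx⟩ | h
    · rw [← J_center_eq hS hF (Or.inl h)]; exact hxN
    · have h1 := J_power_control (p := p) p (Or.inr dvd_rfl) (fun S : Subgroup G => Subgroup.closure ((fun z : G => z ^ p) ''
        ((S ⊓ Subgroup.centralizer (S : Set G) : Subgroup G) : Set G))) (fun S x hx => mem_powClosure hx)
        (fun S T hT hZ => powClosure_mono p S T hT hZ) S F inferInstance hS hF
      exact h1 ⟨Subgroup.subset_closure ⟨z, hz, hzx⟩, hxN⟩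
    · by_cases hp2 : p = 2
      · rw [← J_center_eq hS hF (Or.inr (CfsgLib.QdF9.sectionFree_group S h))]; exact hxN
      · rw [← J_center_eq hS hF (Or.inl hp2)]; exact hxN
  have hφ : conjHom (Subgroup.zpowers x) g ∈ F.Hom (Subgroup.zpowers x) := by
    refine ⟨by rw [Subgroup.zpowers_le]; exact hxS, ?_, g, fun y => rfl⟩
    rintro ⟨y, hy⟩
    obtain ⟨k, rfl⟩ := Subgroup.mem_zpowers_iff.1 hy
    show g * x ^ k * g⁻¹ ∈ (S : Subgroup G)
    rw [← conj_zpow]
    exact Subgroup.zpow_mem _ hg k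
  exact central_fixed (isCentral_center F) hφ (Subgroup.mem_zpowers x) hxF

end CfsgLib.WC
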