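import Cfsg.Agent.LibWC1
import Cfsg.Agent.LibTransPC

set_option autoImplicit false

/-! Normal complements from local ones (abelian version of the Thompson subgroup). -/

namespace CfsgLib.WC

open Cfsg Cfsg.FusionSystem CfsgLib.Fus21

universe u

variable {G : Type u} [Group G] [Finite G] {p : ℕ} [Fact p.Prime]

/-- fusion in a subgroup with a normal complement -/
theorem conj_eq_of_npc (S : Sylow p G) {H : Subgroup G} (hSH : (S : Subgroup G) ≤ H) (hH : HasNormalPComplement p H)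
    {g : G} (hg : g ∈ H) : ∃ s ∈ (S : Subgroup G), ∀ x ∈ (S : Subgroup G), g * x * g⁻¹ ∈ (S : Subgroup G) →
      g * x * g⁻¹ = s * x * s⁻¹ := by
  obtain ⟨N, hN⟩ := (CfsgLib.TransPC.hasNPC_iff p).1 hH
  have hNn := hN.1
  have hc := hN.isComplement' (S.subtype hSH)
  obtain ⟨⟨⟨n, hn⟩, ⟨t, ht⟩⟩, hnt⟩ := hc.2 ⟨g, hg⟩
  simp only at hnt
  have htS : (t : G) ∈ (S : Subgroup G) := ht
  refine ⟨t, htS, fun x hx hgx => ?_⟩
  have hgn : g = n * t := congrArg Subtype.val hnt.symm
  set y : H := t * ⟨x, hSH hx⟩ * t⁻¹ with hy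
  have hyS : (y : G) ∈ (S : Subgroup G) := by
    show (t : G) * x * (t : G)⁻¹ ∈ (S : Subgroup G)
    exact mul_mem (mul_mem htS hx) (inv_mem htS)
  have h1 : n * y * n⁻¹ * y⁻¹ ∈ N ⊓ ((S.subtype hSH : Sylow p H) : Subgroup H) := by
    refine ⟨?_, ?_⟩
    · have e : n * y * n⁻¹ * y⁻¹ = n * (y * n⁻¹ * y⁻¹) := by group
      rw [e]
      exact N.mul_mem hn (hNn.conj_mem _ (N.inv_mem hn) y)
    · show ((n * y * n⁻¹ * y⁻¹ : H) : G) ∈ (S : Subgroup G)
      have e : ((n * y * n⁻¹ * y⁻¹ : H) : G) = (g * x * g⁻¹) * (y : G)⁻¹ := by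
        rw [hgn, hy]
        push_cast
        group
      rw [e]
      exact mul_mem hgx (inv_mem hyS)
  rw [hc.disjoint.eq_bot, Subgroup.mem_bot] at h1
  have h2 : n * y * n⁻¹ = y := mul_inv_eq_one.1 h1
  have h3 := congrArg Subtype.val h2
  rw [hgn]
  calc (n : G) * t * x * ((n : G) * t)⁻¹ = n * (t * x * (t : G)⁻¹) * (n : G)⁻¹ := by group
    _ = _ := h3

theorem s2800 (S : Sylow p G) (h : p ≠ 2 ∨ ¬ Cfsg.Involves (Equiv.Perm (Fin 4)) G)
    (hC : Cfsg.HasNormalPComplement p ↥(Subgroup.centralizer (((S : Subgroup G) ⊓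
      Subgroup.centralizer ((S : Subgroup G) : Set G) : Subgroup G) : Set G)))
    (hN : Cfsg.HasNormalPComplement p ↥(Subgroup.normalizer ((Cfsg.thompsonSubgroupAOf (S : Subgroup G)) : Set G))) :
    Cfsg.HasNormalPComplement p G := by
  have hS : IsPGroup p (S : Subgroup G) := S.2
  have hF := group_saturated S
  have hinner : ∀ P, (groupFusionSystem (S : Subgroup G)).Hom P = (innerFusionSystem (S : Subgroup G)).Hom P := by
    refine thompson_inner hS hF ?_ ?_ ?_
    · rcases h with h | h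
      · exact Or.inl h
      · by_cases hp2 : p = 2
        · exact Or.inr (CfsgLib.QdF9.sectionFree_group S h)
        · exact Or.inl hp2
    · rintro P φ ⟨hφ, hP, hφP, ψ, ⟨-, -, g, hg⟩, h1, h2⟩
      have hgC : g ∈ Subgroup.centralizer (((S : Subgroup G) ⊓
          Subgroup.centralizer ((S : Subgroup G) : Set G) : Subgroup G) : Set G) := by
        rw [Subgroup.mem_centralizer_iff]
        intro z hz
        have h3 := h2 ⟨z, hz⟩
        rw [hg] at h3
        exact (mul_inv_eq_iff_eq_mul.1 h3).symm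
      have hSC : (S : Subgroup G) ≤ Subgroup.centralizer (((S : Subgroup G) ⊓
          Subgroup.centralizer ((S : Subgroup G) : Set G) : Subgroup G) : Set G) := by
        intro s hs
        rw [Subgroup.mem_centralizer_iff]
        intro z hz
        exact (Subgroup.mem_centralizer_iff.1 hz.2 s hs).symm
      obtain ⟨s, hs, hsx⟩ := conj_eq_of_npc S hSC hC hgC
      have hPS : P ≤ (S : Subgroup G) := hP.trans (centralizerIn_le _ _)
      have hφg : ∀ x : P, φ x = g * (x : G) * g⁻¹ := fun x => by rw [← h1 x, hg]; rfl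
      refine ⟨hPS, s, hs, fun x => ?_⟩
      rw [hφg x]
      apply hsx x (hPS x.2)
      rw [← hφg x]
      exact centralizerIn_le _ _ (hφP x)
    · intro P φ hφ
      obtain ⟨g, hg, hφg⟩ := normSys_conj hφ
      have hJn := J_normalizer hS (groupFusionSystem (S : Subgroup G))
      have hSJ : (S : Subgroup G) ≤ Subgroup.normalizer (thompsonSubgroupAOf (S : Subgroup G) : Set G) := by
        intro s hs
        rw [← hJn] at hs
        exact hs.2
      obtain ⟨s, hs, hsx⟩ := conj_eq_of_npc S hSJ hN hg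
      have hφF := normSys_le hφ
      refine ⟨hφF.1, s, hs, fun x => ?_⟩
      rw [hφg x]
      apply hsx x (hφF.1 x.2)
      rw [← hφg x]
      exact hφF.2.1 x
  rw [CfsgLib.TransPC.hasNPC_iff, CfsgLib.TransPC.frobenius_iff S]
  intro Q hQ g hg ho
  have hφ : conjHom Q g ∈ (groupFusionSystem (S : Subgroup G)).Hom Q := by
    refine ⟨hQ, fun x => hQ ((Subgroup.mem_normalizer_iff.1 hg x).1 x.2), g, fun y => rfl⟩
  rw [hinner Q] at hφ
  obtain ⟨-, s, hs, hsx⟩ := hφ
  have hsx' : ∀ x ∈ Q, g * x * g⁻¹ = s * x * s⁻¹ := fun x hx => hsx ⟨x, hx⟩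
  have hpow : ∀ n : ℕ, ∀ x ∈ Q, g ^ n * x * (g ^ n)⁻¹ = s ^ n * x * (s ^ n)⁻¹ := by
    intro n
    induction n with
    | zero => intro x hx; simp
    | succ n ih =>
      intro x hx
      have hx' : g * x * g⁻¹ ∈ Q := (Subgroup.mem_normalizer_iff.1 hg x).1 hx
      calc g ^ (n + 1) * x * (g ^ (n + 1))⁻¹ = g ^ n * (g * x * g⁻¹) * (g ^ n)⁻¹ := by rw [pow_succ]; group
        _ = s ^ n * (g * x * g⁻¹) * (s ^ n)⁻¹ := ih _ hx'
        _ = s ^ n * (s * x * s⁻¹) * (s ^ n)⁻¹ := by rw [hsx' x hx]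
        _ = _ := by rw [pow_succ]; group
  obtain ⟨k, hk⟩ := hS ⟨s, hs⟩
  have hsk : s ^ p ^ k = 1 := congrArg Subtype.val hk
  have hgk : g ^ p ^ k ∈ Subgroup.centralizer (Q : Set G) := by
    rw [Subgroup.mem_centralizer_iff]
    intro x hx
    have h1 := hpow (p ^ k) x hx
    rw [hsk, one_mul, inv_one, mul_one] at h1
    exact (mul_inv_eq_iff_eq_mul.1 h1).symm
  have hcop : Nat.Coprime (orderOf g) (p ^ k) := Nat.Coprime.pow_right k ho
  obtain ⟨m, hm⟩ := exists_pow_eq_self_of_coprime hcop.symm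
  rw [← hm]
  exact Subgroup.pow_mem _ hgk m

end CfsgLib.WC
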