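import Cfsg.Agent.LibLE12
import Cfsg.Agent.LibLE13
import Cfsg.Agent.LibLE15
import Cfsg.Agent.LibLEQ
import Cfsg.Agent.LibLEM

/-! Commuting factors of the normal closure of a weakly closed subgroup. (helper8) -/

set_option autoImplicit false
set_option linter.all false

namespace CfsgLib.Wc8

open Cfsg Subgroup CfsgLib.LE
open scoped Pointwise

variable {G : Type*} [Group G] {p : ℕ}

/-- the hypothesis, for the ordered pair `H₁, H₂` -/
structure Hyp (p : ℕ) (Q Hc H₁ H₂ : Subgroup G) : Prop where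
  hwc : IsWeaklyClosedSubgroup p Q
  hHc : Hc = weakClosure Q ⊤
  l1 : H₁ ≤ Hc
  l2 : H₂ ≤ Hc
  n1 : Hc ≤ normalizer (H₁ : Set G)
  n2 : Hc ≤ normalizer (H₂ : Set G)
  hprod : H₁ ⊔ H₂ = Hc
  hcomm : ⁅H₁, H₂⁆ ≤ normalizer (Q : Set G)

/-- the group `K₁` -/
def KK (p : ℕ) (Q H₁ : Subgroup G) : Subgroup G :=
  (pResidual p ↥(weakClosure Q (H₁ ⊔ Q))).map (weakClosure Q (H₁ ⊔ Q)).subtype

namespace Hyp

variable {Q Hc H₁ H₂ : Subgroup G}

theorem symm (h : Hyp p Q Hc H₁ H₂) : Hyp p Q Hc H₂ H₁ where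
  hwc := h.hwc
  hHc := h.hHc
  l1 := h.l2
  l2 := h.l1
  n1 := h.n2
  n2 := h.n1
  hprod := by rw [sup_comm]; exact h.hprod
  hcomm := by rw [Subgroup.commutator_comm]; exact h.hcomm

theorem Q_le (h : Hyp p Q Hc H₁ H₂) : Q ≤ Hc := by
  rw [h.hHc]; exact le_weakClosure le_top

theorem nN (h : Hyp p Q Hc H₁ H₂) : Hc ≤ normalizer ((⁅H₁, H₂⁆ : Subgroup G) : Set G) := le_normalizer_commutator h.n1 h.n2

theorem N_le (h : Hyp p Q Hc H₁ H₂) : ⁅H₁, H₂⁆ ≤ Hc := by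
  rw [Subgroup.commutator_le]
  intro a ha b hb
  exact Hc.mul_mem (Hc.mul_mem (Hc.mul_mem (h.l1 ha) (h.l2 hb)) (Hc.inv_mem (h.l1 ha))) (Hc.inv_mem (h.l2 hb))

theorem nP (h : Hyp p Q Hc H₁ H₂) : Hc ≤ normalizer (pCoreOf p Hc : Set G) := le_normalizer_pCoreOf p Hc

variable [Finite G] [hp : Fact p.Prime]

/-- a subgroup containing `Q`, normalized by `Hc` contains `Hc` -/
theorem le_of_normalized (h : Hyp p Q Hc H₁ H₂) {Y : Subgroup G} (hQY : Q ≤ Y) (hn : Hc ≤ normalizer (Y : Set G)) :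
    Hc ≤ Y := by
  conv_lhs => rw [h.hHc]
  apply iSup_le
  rintro ⟨g, -⟩
  have h1 : Q.map (MulAut.conj g).toMonoidHom ≤ Hc := by
    rw [h.hHc]; exact le_weakClosure_of_conj le_top
  obtain ⟨k, hk, h2⟩ := wc_exists_conj h.hwc h.Q_le h1
  show Q.map (MulAut.conj g).toMonoidHom ≤ Y
  rw [h2]
  have h3 := mem_normalizer_iff_map_conj.1 (hn hk)
  rw [← h3]
  exact Subgroup.map_mono hQY

/-- Step 1 -/
theorem step1 (h : Hyp p Q Hc H₁ H₂) : ⁅⁅H₁, H₂⁆, Hc⁆ ≤ pCoreOf p Hc := by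
  have key : Hc ≤ csec ⁅H₁, H₂⁆ (pCoreOf p Hc) := by
    apply h.le_of_normalized
    · apply le_csec (h.Q_le.trans h.nN) (h.Q_le.trans h.nP)
      have h1 : ⁅⁅H₁, H₂⁆, Q⁆ ≤ Q := by
        rw [Subgroup.commutator_comm]
        exact le_normalizer_iff_commutator_le_left.1 h.hcomm
      have h2 : ⁅⁅H₁, H₂⁆, Q⁆ ≤ ⁅H₁, H₂⁆ := by
        exact le_normalizer_iff_commutator_le_left.1 (h.Q_le.trans h.nN)
      have h3 : ⁅H₁, H₂⁆ ⊓ Q ≤ pCoreOf p ⁅H₁, H₂⁆ := by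
        apply le_pCoreOf inf_le_left
        · exact le_normalizer_inf Subgroup.le_normalizer h.hcomm
        · exact (wc_isPGroup h.hwc).to_le inf_le_right
      exact (le_inf h2 h1).trans (h3.trans (pCoreOf_le_pCoreOf_of_normal h.N_le h.nN))
    · exact le_normalizer_csec h.nN h.nP
  exact (Subgroup.commutator_mono le_rfl key).trans (commutator_csec_le _ _)

/-- Step 2 -/
theorem step2 (h : Hyp p Q Hc H₁ H₂) : pCoreOf p Hc ≤ normalizer (Q : Set G) := by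
  have h1 : IsPGroup p ↥(Q ⊔ pCoreOf p Hc) :=
    (wc_isPGroup h.hwc).to_sup_of_normal_right' (pCoreOf_isPGroup p Hc) (h.Q_le.trans h.nP)
  exact (le_sup_right.trans Subgroup.le_normalizer).trans
    (wc_normalizer_le (wc_isPGroup h.hwc) h.hwc h1 le_sup_left)

theorem W_le (h : Hyp p Q Hc H₁ H₂) : weakClosure Q (H₁ ⊔ Q) ≤ H₁ ⊔ Q := weakClosure_le _ _

theorem Q_le_W (h : Hyp p Q Hc H₁ H₂) : Q ≤ weakClosure Q (H₁ ⊔ Q) := le_weakClosure le_sup_right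

theorem K_le_W (h : Hyp p Q Hc H₁ H₂) : KK p Q H₁ ≤ weakClosure Q (H₁ ⊔ Q) := resOf_le _

theorem W_le_of (h : Hyp p Q Hc H₁ H₂) {Y : Subgroup G} (hQY : Q ≤ Y) (hn : KK p Q H₁ ≤ normalizer (Y : Set G)) :
    weakClosure Q (H₁ ⊔ Q) ≤ Y := by
  have hwQ := wc_isPGroup h.hwc
  obtain ⟨S, hS, hQS⟩ := exists_isSyl_of_le h.Q_le_W hwQ
  have hSn : S ≤ normalizer (Q : Set G) :=
    Subgroup.le_normalizer.trans (wc_normalizer_le hwQ h.hwc hS.isPGroup hQS)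
  have hsup := hS.resOf_sup
  conv_lhs => rw [weakClosure]
  apply iSup_le
  rintro ⟨g, hg⟩
  have h1 : Q.map (MulAut.conj g).toMonoidHom ≤ weakClosure Q (H₁ ⊔ Q) := le_weakClosure_of_conj hg
  obtain ⟨k, hk, h2⟩ := wc_exists_conj h.hwc h.Q_le_W h1
  show Q.map (MulAut.conj g).toMonoidHom ≤ Y
  rw [h2]
  rw [← hsup] at hk
  have hSK : S ≤ normalizer ((pResidual p ↥(weakClosure Q (H₁ ⊔ Q))).map (weakClosure Q (H₁ ⊔ Q)).subtype : Set G) :=
    hS.le.trans (le_normalizer_resOf _)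
  obtain ⟨x, hx, s, hs, rfl⟩ := (mem_sup_of_le_normalizer' hSK).1 hk
  rw [← map_conj_mul, mem_normalizer_iff_map_conj.1 (hSn hs)]
  rw [← mem_normalizer_iff_map_conj.1 (hn hx)]
  exact Subgroup.map_mono hQY

theorem W_eq (h : Hyp p Q Hc H₁ H₂) : weakClosure Q (H₁ ⊔ Q) = KK p Q H₁ ⊔ Q := by
  apply le_antisymm
  · apply h.W_le_of le_sup_right
    exact le_sup_left.trans Subgroup.le_normalizer
  · exact sup_le h.K_le_W h.Q_le_W

theorem commKQ (h : Hyp p Q Hc H₁ H₂) : ⁅KK p Q H₁, Q⁆ = KK p Q H₁ := by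
  have hQK : Q ≤ normalizer (KK p Q H₁ : Set G) := h.Q_le_W.trans (le_normalizer_resOf _)
  apply le_antisymm
  · exact le_normalizer_iff_commutator_le_left.1 hQK
  · have hnQ : Q ≤ normalizer ((⁅KK p Q H₁, Q⁆ : Subgroup G) : Set G) := normalizer_commutator_ge_right _ _
    have hnK : KK p Q H₁ ≤ normalizer ((⁅KK p Q H₁, Q⁆ : Subgroup G) : Set G) := normalizer_commutator_ge_left _ _
    have h1 : weakClosure Q (H₁ ⊔ Q) ≤ ⁅KK p Q H₁, Q⁆ ⊔ Q := by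
      apply h.W_le_of le_sup_right
      rw [le_normalizer_iff_commutator_le_right]
      refine le_trans (commutator_sup_le ?_ le_rfl Subgroup.le_normalizer hnQ) le_sup_left
      exact le_normalizer_iff_commutator_le_right.1 hnK
    apply resOf_le_of_pow_mem
    intro x hx
    exact pow_mem_of_mem_sup (wc_isPGroup h.hwc) hnQ (h1 hx)

theorem K_le_H (h : Hyp p Q Hc H₁ H₂) : KK p Q H₁ ≤ H₁ := by
  apply resOf_le_of_pow_mem
  intro x hx
  exact pow_mem_of_mem_sup (wc_isPGroup h.hwc) (h.Q_le.trans h.n1) (h.W_le hx)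

/-- `[H₁, Hc] ≤ [H₁, H₁][H₁, H₂]` -/
theorem comm_H1_Hc (h : Hyp p Q Hc H₁ H₂) : ⁅H₁, Hc⁆ ≤ ⁅H₁, H₁⁆ ⊔ ⁅H₁, H₂⁆ := by
  have hn : Hc ≤ normalizer ((⁅H₁, H₁⁆ ⊔ ⁅H₁, H₂⁆ : Subgroup G) : Set G) :=
    le_normalizer_sup (le_normalizer_commutator h.n1 h.n1) (le_normalizer_commutator h.n1 h.n2)
  conv_lhs => rw [← h.hprod]
  exact commutator_sup_le le_sup_left le_sup_right (h.l1.trans hn) (h.l2.trans hn)

theorem commKH2 (h : Hyp p Q Hc H₁ H₂) : ⁅KK p Q H₁, H₂⁆ ≤ pCoreOf p Hc := by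
  have h1 : ⁅⁅H₁, H₁⁆, H₂⁆ ≤ pCoreOf p Hc := by
    apply three_subgroups_mod (h.l1.trans h.nP) (h.l1.trans h.nP) (h.l2.trans h.nP)
    · exact (Subgroup.commutator_mono le_rfl h.l1).trans h.step1
    · rw [Subgroup.commutator_comm H₂ H₁]
      exact (Subgroup.commutator_mono le_rfl h.l1).trans h.step1
  have h2 : ⁅H₂, ⁅H₁, H₁⁆ ⊔ ⁅H₁, H₂⁆⁆ ≤ pCoreOf p Hc := by
    apply commutator_sup_le
    · rw [Subgroup.commutator_comm]; exact h1
    · rw [Subgroup.commutator_comm]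
      exact (Subgroup.commutator_mono le_rfl h.l2).trans h.step1
    · refine le_trans ?_ h.nP
      rw [Subgroup.commutator_le]
      intro a ha b hb
      exact Hc.mul_mem (Hc.mul_mem (Hc.mul_mem (h.l1 ha) (h.l1 hb)) (Hc.inv_mem (h.l1 ha))) (Hc.inv_mem (h.l1 hb))
    · exact h.N_le.trans h.nP
  have h3 : KK p Q H₁ ≤ ⁅H₁, H₁⁆ ⊔ ⁅H₁, H₂⁆ := by
    rw [← h.commKQ]
    exact (Subgroup.commutator_mono h.K_le_H h.Q_le).trans h.comm_H1_Hc
  rw [Subgroup.commutator_comm]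
  exact (Subgroup.commutator_mono le_rfl h3).trans h2

theorem normK_of (h : Hyp p Q Hc H₁ H₂) {A : Subgroup G} (hA1 : A ≤ normalizer ((H₁ ⊔ Q : Subgroup G) : Set G)) :
    A ≤ normalizer (KK p Q H₁ : Set G) :=
  hA1.trans ((normalizer_le_normalizer_weakClosure Q (H₁ ⊔ Q)).trans (normalizer_le_normalizer_resOf _))

theorem H1_normK (h : Hyp p Q Hc H₁ H₂) : H₁ ≤ normalizer (KK p Q H₁ : Set G) :=
  h.normK_of (le_sup_left.trans Subgroup.le_normalizer)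

theorem P_normK (h : Hyp p Q Hc H₁ H₂) : pCoreOf p Hc ≤ normalizer (KK p Q H₁ : Set G) :=
  h.normK_of (le_normalizer_sup ((pCoreOf_le p Hc).trans h.n1) h.step2)

theorem K_le_Hc (h : Hyp p Q Hc H₁ H₂) : KK p Q H₁ ≤ Hc := h.K_le_H.trans h.l1

theorem resK (h : Hyp p Q Hc H₁ H₂) : (pResidual p ↥(KK p Q H₁)).map (KK p Q H₁).subtype = KK p Q H₁ :=
  resOf_resOf _

theorem H2_normK (h : Hyp p Q Hc H₁ H₂) : H₂ ≤ normalizer (KK p Q H₁ : Set G) := by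
  have h1 : H₂ ≤ normalizer ((KK p Q H₁ ⊔ pCoreOf p Hc : Subgroup G) : Set G) := by
    rw [le_normalizer_iff_commutator_le_right]
    refine le_trans (commutator_sup_le (D := pCoreOf p Hc) ?_ ?_ (h.K_le_Hc.trans h.nP) Subgroup.le_normalizer)
      le_sup_right
    · rw [Subgroup.commutator_comm]; exact h.commKH2
    · exact le_normalizer_iff_commutator_le_right.1 (h.l2.trans h.nP)
  have h2 : ((KK p Q H₁).subgroupOf (KK p Q H₁ ⊔ pCoreOf p Hc)).IsSubnormal := by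
    have : ((KK p Q H₁).subgroupOf (KK p Q H₁ ⊔ pCoreOf p Hc)).Normal :=
      subgroupOf_normal_of_le_normalizer (sup_le Subgroup.le_normalizer h.P_normK)
    exact this.isSubnormal
  have h3 := resOf_sup_of_isPGroup (p := p) h2 (pCoreOf_isPGroup p Hc) (h.K_le_Hc.trans h.nP)
  rw [h.resK] at h3
  have h4 := h1.trans (normalizer_le_normalizer_resOf (p := p) _)
  rwa [h3] at h4

theorem Hc_normK (h : Hyp p Q Hc H₁ H₂) : Hc ≤ normalizer (KK p Q H₁ : Set G) := by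
  conv_lhs => rw [← h.hprod]
  exact sup_le h.H1_normK h.H2_normK

theorem commKH1 (h : Hyp p Q Hc H₁ H₂) : ⁅KK p Q H₁, H₁⁆ = KK p Q H₁ := by
  apply le_antisymm
  · exact le_normalizer_iff_commutator_le_left.1 h.H1_normK
  have hn : Hc ≤ normalizer ((⁅KK p Q H₁, H₁⁆ : Subgroup G) : Set G) := le_normalizer_commutator h.Hc_normK h.n1
  have h1 : KK p Q H₁ ≤ ⁅KK p Q H₁, H₁⁆ ⊔ pCoreOf p Hc := by
    conv_lhs => rw [← h.commKQ]
    refine (Subgroup.commutator_mono le_rfl h.Q_le).trans ?_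
    rw [← h.hprod]
    rw [h.hprod]
    have hn2 : Hc ≤ normalizer ((⁅KK p Q H₁, H₁⁆ ⊔ pCoreOf p Hc : Subgroup G) : Set G) := le_normalizer_sup hn h.nP
    have h5 := commutator_sup_le (V := KK p Q H₁) (A := H₁) (B := H₂) (D := ⁅KK p Q H₁, H₁⁆ ⊔ pCoreOf p Hc)
      le_sup_left (h.commKH2.trans le_sup_right) (h.l1.trans hn2) (h.l2.trans hn2)
    rwa [h.hprod] at h5
  conv_lhs => rw [← h.resK]
  apply resOf_le_of_pow_mem
  intro x hx
  exact pow_mem_of_mem_sup (pCoreOf_isPGroup p Hc) ((pCoreOf_le p Hc).trans hn) (h1 hx)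

theorem K_le_comm (h : Hyp p Q Hc H₁ H₂) : KK p Q H₁ ≤ ⁅H₁, H₁⁆ := by
  conv_lhs => rw [← h.commKH1]
  exact Subgroup.commutator_mono h.K_le_H le_rfl

theorem supK (h : Hyp p Q Hc H₁ H₂) : KK p Q H₁ ⊔ KK p Q H₂ = (pResidual p ↥Hc).map Hc.subtype := by
  apply le_antisymm
  · apply sup_le
    · exact resOf_mono (h.W_le.trans (sup_le h.l1 h.Q_le))
    · exact resOf_mono (h.symm.W_le.trans (sup_le h.l2 h.Q_le))
  · have h1 : Hc ≤ KK p Q H₁ ⊔ KK p Q H₂ ⊔ Q := by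
      apply h.le_of_normalized le_sup_right
      conv_lhs => rw [← h.hprod]
      apply sup_le
      · have e : KK p Q H₁ ⊔ KK p Q H₂ ⊔ Q = (KK p Q H₁ ⊔ Q) ⊔ KK p Q H₂ := by
          rw [sup_assoc, sup_comm (KK p Q H₂) Q, ← sup_assoc]
        rw [e, ← h.W_eq]
        apply le_normalizer_sup
        · exact le_sup_left.trans (le_normalizer_weakClosure Q (H₁ ⊔ Q))
        · exact h.l1.trans h.symm.Hc_normK
      · rw [sup_assoc, ← h.symm.W_eq]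
        apply le_normalizer_sup
        · exact h.l2.trans h.Hc_normK
        · exact le_sup_left.trans (le_normalizer_weakClosure Q (H₂ ⊔ Q))
    apply resOf_le_of_pow_mem
    intro x hx
    exact pow_mem_of_mem_sup (wc_isPGroup h.hwc)
      (h.Q_le.trans (le_normalizer_sup h.Hc_normK h.symm.Hc_normK)) (h1 hx)

theorem commKK (h : Hyp p Q Hc H₁ H₂) : ⁅KK p Q H₁, KK p Q H₂⁆ ≤ pCoreOf p Hc :=
  (Subgroup.commutator_mono le_rfl h.symm.K_le_H).trans h.commKH2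

end Hyp

end CfsgLib.Wc8
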