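import Cfsg.Agent.EqBase
import Cfsg.Agent.LibZCor
import Cfsg.Prelude.Def_TwoFusion

set_option autoImplicit false

/-! Strongly closed 2-subgroups and Glauberman's `Z*`-theorem (seat helper8). -/

namespace CfsgLib.ZCor

open Subgroup Cfsg CfsgLib.Isolated
open scoped commutatorElement Pointwise

universe u
variable {G : Type u} [Group G] [Finite G]

/-- strong closure does not depend on the Sylow subgroup -/
theorem stronglyClosed_of_le {p : ℕ} [Fact p.Prime] {S S' : Sylow p G} {A : Subgroup G}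
    (hA : IsStronglyClosed A (S : Subgroup G)) (hAS' : A ≤ S') :
    IsStronglyClosed A (S' : Subgroup G) := by
  obtain ⟨w, rfl⟩ := MulAction.exists_smul_eq G S S'
  refine ⟨hAS', ?_⟩
  have hmem : ∀ y : G, y ∈ ((w • S : Sylow p G) : Subgroup G) ↔ w⁻¹ * y * w ∈ (S : Subgroup G) :=
    fun y => mem_smul_sylow w S y
  have h1 : ∀ a ∈ A, w⁻¹ * a * w ∈ A := by
    intro a ha
    have := hA.2 a ha w⁻¹ (by rw [inv_inv]; exact (hmem a).1 (hAS' ha))
    rwa [inv_inv] at this
  have h2 : ∀ a ∈ A, w * a * w⁻¹ ∈ A := by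
    have h3 : A.map (MulAut.conj w⁻¹).toMonoidHom = A := by
      apply eq_of_le_of_card_ge
      · rintro _ ⟨a, ha, rfl⟩
        have := h1 a ha
        change w⁻¹ * a * w⁻¹⁻¹ ∈ A
        rwa [inv_inv]
      · rw [card_map_of_injective (MulAut.conj w⁻¹).injective]
    intro a ha
    rw [← h3] at ha
    obtain ⟨b, hb, hba⟩ := ha
    have : w * a * w⁻¹ = b := by
      rw [← hba]
      change w * (w⁻¹ * b * w⁻¹⁻¹) * w⁻¹ = b
      group
    rw [this]; exact hb
  intro a ha g hg
  have h3 := hA.2 a ha (w⁻¹ * g) (by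
    have := (hmem _).1 hg
    have e : w⁻¹ * g * a * (w⁻¹ * g)⁻¹ = w⁻¹ * (g * a * g⁻¹) * w := by group
    rwa [e])
  have h4 := h2 _ h3
  have e : w * (w⁻¹ * g * a * (w⁻¹ * g)⁻¹) * w⁻¹ = g * a * g⁻¹ := by group
  rwa [e] at h4

/-- the involutory case: an involutory automorphism of `H`, isolated in the semidirect product -/
theorem aut_eq_one {H : Type u} [Group H] [Finite H] (hO : oddCore H = ⊥) (σ : MulAut H)
    (hσ : ∀ h, σ (σ h) = h) (hiso : ∀ h : H, σ (h * σ h⁻¹) = h * σ h⁻¹ → h * σ h⁻¹ = 1) :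
    σ = 1 := by
  by_contra hne
  haveI : Fact (Nat.Prime 2) := ⟨Nat.prime_two⟩
  have hσ2 : orderOf σ = 2 := orderOf_eq_prime (by
    ext h
    rw [pow_two, MulAut.mul_apply, hσ, MulAut.one_apply]) hne
  obtain ⟨K, hK⟩ : ∃ K : Subgroup (MulAut H), K = zpowers σ := ⟨_, rfl⟩
  have hσK : σ ∈ K := by rw [hK]; exact mem_zpowers σ
  have hcomm : ∀ c : K, c * ⟨σ, hσK⟩ = ⟨σ, hσK⟩ * c := by
    intro c
    have h1 : (c : MulAut H) ∈ zpowers σ := hK ▸ c.2
    obtain ⟨k, hk⟩ := mem_zpowers_iff.1 h1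
    apply Subtype.ext
    change (c : MulAut H) * σ = σ * c
    rw [← hk]
    exact ((Commute.refl σ).zpow_left k).eq
  haveI : Finite (H ⋊[K.subtype] K) := Finite.of_equiv _ SemidirectProduct.equivProd.symm
  obtain ⟨t, ht⟩ : ∃ t : H ⋊[K.subtype] K, t = SemidirectProduct.inr ⟨σ, hσK⟩ := ⟨_, rfl⟩
  have ht2 : orderOf t = 2 := by
    rw [ht, orderOf_injective _ SemidirectProduct.inr_injective, orderOf_mk, hσ2]
  have hinl : ∀ h : H, t * SemidirectProduct.inl h * t⁻¹ = SemidirectProduct.inl (σ h) := by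
    intro h
    have := (SemidirectProduct.inl_aut (φ := K.subtype) ⟨σ, hσK⟩ h).symm
    rw [map_inv, ← ht] at this
    exact this
  have hconj : ∀ g : H ⋊[K.subtype] K, ∃ h : H, g * t * g⁻¹ = SemidirectProduct.inl (h * σ h⁻¹) * t ∧
      t * g * t⁻¹ * g⁻¹ = SemidirectProduct.inl (σ h * h⁻¹) := by
    intro g
    obtain ⟨h, c, rfl⟩ : ∃ (h : H) (c : K), g = SemidirectProduct.inl h * SemidirectProduct.inr c :=
      ⟨g.left, g.right, (SemidirectProduct.inl_left_mul_inr_right g).symm⟩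
    have hc : Commute (SemidirectProduct.inr c : H ⋊[K.subtype] K) t := by
      rw [ht]
      exact ((show Commute c ⟨σ, hσK⟩ from hcomm c).map SemidirectProduct.inr)
    refine ⟨h, ?_, ?_⟩
    · have h1 := hinl h⁻¹
      calc SemidirectProduct.inl h * SemidirectProduct.inr c * t *
            (SemidirectProduct.inl h * SemidirectProduct.inr c)⁻¹
          = SemidirectProduct.inl h * (SemidirectProduct.inr c * t * (SemidirectProduct.inr c)⁻¹) *
              (SemidirectProduct.inl h)⁻¹ := by group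
      _ = SemidirectProduct.inl h * t * (SemidirectProduct.inl h)⁻¹ := by
          rw [hc.eq, mul_inv_cancel_right]
      _ = SemidirectProduct.inl h * (t * SemidirectProduct.inl h⁻¹ * t⁻¹) * t := by
          rw [map_inv]; group
      _ = _ := by rw [h1, ← map_mul]
    · have h1 := hinl h
      calc t * (SemidirectProduct.inl h * SemidirectProduct.inr c) * t⁻¹ *
            (SemidirectProduct.inl h * SemidirectProduct.inr c)⁻¹
          = (t * SemidirectProduct.inl h * t⁻¹) * (t * SemidirectProduct.inr c * t⁻¹) *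
              (SemidirectProduct.inr c)⁻¹ * (SemidirectProduct.inl h)⁻¹ := by group
      _ = (t * SemidirectProduct.inl h * t⁻¹) * (SemidirectProduct.inl h)⁻¹ := by
          rw [← hc.eq, mul_inv_cancel_right, mul_inv_cancel_right]
      _ = _ := by rw [h1, ← map_inv, ← map_mul]
  have hisot : IsIsolatedInvolution t := by
    refine ⟨ht2, fun g hg => ?_⟩
    obtain ⟨h, h1, -⟩ := hconj g
    rw [h1] at hg ⊢
    have h2 : t * SemidirectProduct.inl (h * σ h⁻¹) * t⁻¹ =
        (SemidirectProduct.inl (h * σ h⁻¹) : H ⋊[K.subtype] K) := by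
      have h3 := hg.eq
      rw [← mul_assoc] at h3
      rw [mul_inv_eq_iff_eq_mul]
      exact mul_right_cancel h3
    rw [hinl] at h2
    rw [hiso h (SemidirectProduct.inl_injective h2), map_one, one_mul]
  apply hne
  ext h
  rw [MulAut.one_apply]
  have h1 := CfsgLib.ZStar.zstar hisot (SemidirectProduct.inl h)
  have h2 : t * SemidirectProduct.inl h * t⁻¹ * (SemidirectProduct.inl h)⁻¹ =
      (SemidirectProduct.inl (σ h * h⁻¹) : H ⋊[K.subtype] K) := by
    rw [hinl, ← map_inv, ← map_mul]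
  rw [h2] at h1
  have h3 : σ h * h⁻¹ ∈ (oddCore (H ⋊[K.subtype] K)).comap (SemidirectProduct.inl (φ := K.subtype)) := h1
  have h4 : (oddCore (H ⋊[K.subtype] K)).comap (SemidirectProduct.inl (φ := K.subtype)) ≤ oddCore H := by
    haveI : ((oddCore (H ⋊[K.subtype] K)).comap (SemidirectProduct.inl (φ := K.subtype))).Normal :=
      inferInstance
    apply CfsgLib.ZStar.mem_oddCore_of_normal
    have h5 := card_comap_dvd_of_injective (oddCore (H ⋊[K.subtype] K))
      (SemidirectProduct.inl (φ := K.subtype)) SemidirectProduct.inl_injective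
    exact Odd.of_dvd_nat CfsgLib.ZStar.oddCore_odd h5
  have h5 := h4 h3
  rw [hO, mem_bot, mul_inv_eq_one] at h5
  exact h5

/-- **S1251** -/
theorem strongly_closed_centralizes (S : Sylow 2 G) (A : Subgroup G)
    (hA : IsStronglyClosed A (S : Subgroup G)) (H : Subgroup G)
    (hAH : A ≤ normalizer (H : Set G)) (hO : oddCore ↥H = ⊥) (hdisj : A ⊓ H = ⊥) :
    A ≤ centralizer (H : Set G) := by
  classical
  haveI : Fact (Nat.Prime 2) := ⟨Nat.prime_two⟩
  have hAp : IsPGroup 2 A := S.isPGroup'.to_le hA.1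
  -- the basic claim
  have claim : ∀ a ∈ A, ∀ h ∈ H, ∀ Q : Subgroup G, Q ≤ H ⊔ A → IsPGroup 2 Q → a ∈ Q →
      h * a * h⁻¹ ∈ Q → h * a * h⁻¹ = a := by
    obtain ⟨X, hX⟩ : ∃ X : Subgroup G, X = H ⊔ A := ⟨_, rfl⟩
    rw [← hX]
    have hHX : H ≤ X := by rw [hX]; exact le_sup_left
    have hAX : A ≤ X := by rw [hX]; exact le_sup_right
    obtain ⟨T0, hT0⟩ := (hAp.comap_subtype (K := X)).exists_le_sylow
    obtain ⟨S', hS'⟩ := (T0.isPGroup'.map X.subtype).exists_le_sylow
    have hAS' : A ≤ S' := by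
      intro a ha
      exact hS' ⟨⟨a, hAX ha⟩, hT0 ha, rfl⟩
    have hA' := stronglyClosed_of_le hA hAS'
    have hmod : ∀ a ∈ A, ∀ h ∈ H, h * a * h⁻¹ ∈ A → h * a * h⁻¹ = a := by
      intro a ha h hh hha
      have h1 : (h * a * h⁻¹) * a⁻¹ ∈ A ⊓ H := by
        refine mem_inf.2 ⟨mul_mem hha (inv_mem ha), ?_⟩
        have h2 := ((mem_normalizer_iff.1 (hAH ha)) h⁻¹).1 (inv_mem hh)
        have e : h * a * h⁻¹ * a⁻¹ = h * (a * h⁻¹ * a⁻¹) := by group
        rw [e]
        exact mul_mem hh h2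
      rw [hdisj, mem_bot, mul_inv_eq_one] at h1
      exact h1
    intro a ha h hh Q hQX hQ haQ hhaQ
    obtain ⟨R, hR⟩ := (hQ.comap_subtype (K := X)).exists_le_sylow
    obtain ⟨w, rfl⟩ := MulAction.exists_smul_eq X T0 R
    obtain ⟨h', hh', b, hb, hwb⟩ : ∃ h' ∈ H, ∃ b ∈ A, h' * b = (w : G) := by
      have h1 : (w : G) ∈ ((H ⊔ A : Subgroup G) : Set G) := hX.le w.2
      rw [coe_mul_of_right_le_normalizer_left H A hAH] at h1
      exact Set.mem_mul.1 h1
    have key : ∀ y ∈ Q, (w : G)⁻¹ * y * w ∈ (S' : Subgroup G) := by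
      intro y hy
      have h1 : (⟨y, hQX hy⟩ : X) ∈ (w • T0 : Sylow 2 X) := hR hy
      rw [mem_smul_sylow] at h1
      exact hS' ⟨_, h1, rfl⟩
    have key2 : ∀ c ∈ H, c * a * c⁻¹ ∈ Q → c * a * c⁻¹ = h' * a * h'⁻¹ := by
      intro c hc hcQ
      have h1 := key _ hcQ
      have e1 : (w : G)⁻¹ * (c * a * c⁻¹) * w = ((w : G)⁻¹ * c) * a * ((w : G)⁻¹ * c)⁻¹ := by group
      rw [e1] at h1
      have h2 := hA'.2 a ha _ h1
      have e2 : ((w : G)⁻¹ * c) * a * ((w : G)⁻¹ * c)⁻¹ =
          b⁻¹ * ((h'⁻¹ * c) * a * (h'⁻¹ * c)⁻¹) * b := by rw [← hwb]; group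
      rw [e2] at h2
      have h3 : (h'⁻¹ * c) * a * (h'⁻¹ * c)⁻¹ ∈ A := by
        have := mul_mem (mul_mem hb h2) (inv_mem hb)
        have e3 : b * (b⁻¹ * ((h'⁻¹ * c) * a * (h'⁻¹ * c)⁻¹) * b) * b⁻¹ =
          (h'⁻¹ * c) * a * (h'⁻¹ * c)⁻¹ := by group
        rwa [e3] at this
      have h4 := hmod a ha _ (mul_mem (inv_mem hh') hc) h3
      calc c * a * c⁻¹ = h' * ((h'⁻¹ * c) * a * (h'⁻¹ * c)⁻¹) * h'⁻¹ := by group
      _ = h' * a * h'⁻¹ := by rw [h4]
    have k1 := key2 h hh hhaQ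
    have k2 := key2 1 (one_mem _) (by rw [one_mul, inv_one, mul_one]; exact haQ)
    rw [k1, ← k2, one_mul, inv_one, mul_one]
  -- minimal counterexample
  by_contra hne
  obtain ⟨a₀, ha₀, ha₀'⟩ := SetLike.not_le_iff_exists.1 hne
  obtain ⟨n, hn⟩ : ∃ n, n = orderOf a₀ := ⟨_, rfl⟩
  induction n using Nat.strong_induction_on generalizing a₀ with
  | _ n ih =>
    have ha1 : a₀ ≠ 1 := by rintro rfl; exact ha₀' (one_mem _)
    -- the square centralizes `H`
    have hsq : a₀ * a₀ ∈ centralizer (H : Set G) := by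
      by_contra hsq
      obtain ⟨k, hk⟩ := (IsPGroup.iff_orderOf.1 hAp) ⟨a₀, ha₀⟩
      rw [orderOf_mk] at hk
      have hk0 : k ≠ 0 := by
        rintro rfl
        rw [pow_zero, orderOf_eq_one_iff] at hk
        exact ha1 hk
      refine ih (orderOf (a₀ * a₀)) ?_ (a₀ * a₀) (mul_mem ha₀ ha₀) hsq rfl
      rw [← pow_two, orderOf_pow, hn, hk]
      have : Nat.gcd (2 ^ k) 2 = 2 := by
        apply Nat.gcd_eq_right
        exact dvd_pow_self 2 hk0
      rw [this]
      exact Nat.div_lt_self (pow_pos (by norm_num) k) (by norm_num)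
    apply ha₀'
    have hN := hAH ha₀
    obtain ⟨σ, hσ⟩ : ∃ σ : MulAut H, σ = H.normalizerMonoidHom ⟨a₀, hN⟩ := ⟨_, rfl⟩
    have hσa : ∀ h : H, ((σ h : H) : G) = a₀ * h * a₀⁻¹ := by
      intro h; rw [hσ]; rfl
    have h1 := aut_eq_one hO σ (by
      intro h
      apply Subtype.ext
      rw [hσa, hσa]
      have h2 := (mem_centralizer_iff.1 hsq) h h.2
      calc a₀ * (a₀ * (h : G) * a₀⁻¹) * a₀⁻¹ = (a₀ * a₀) * h * (a₀ * a₀)⁻¹ := by group
      _ = h := by rw [← h2, mul_inv_cancel_right]) (by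
      intro h hh
      have hu : a₀ * ((h * σ h⁻¹ : H) : G) * a₀⁻¹ = ((h * σ h⁻¹ : H) : G) := by
        rw [← hσa, hh]
      have hu2 : ((h * σ h⁻¹ : H) : G) = (h : G) * a₀ * (h : G)⁻¹ * a₀⁻¹ := by
        push_cast
        rw [hσa]
        push_cast
        group
      obtain ⟨v, hv⟩ : ∃ v, v = (h : G) * a₀ * (h : G)⁻¹ := ⟨_, rfl⟩
      have hcomm : Commute a₀ v := by
        rw [hu2] at hu
        have : a₀ * v * a₀⁻¹ = v := by
          rw [hv]
          have h3 := congrArg (· * a₀) hu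
          simpa [mul_assoc] using h3
        exact (mul_inv_eq_iff_eq_mul.1 this)
      -- the abelian 2-group generated by `a₀`, `v`
      have h5 : v = a₀ := by
        obtain ⟨k, hk⟩ := (IsPGroup.iff_orderOf.1 hAp) ⟨a₀, ha₀⟩
        rw [orderOf_mk] at hk
        have hvk : v ^ 2 ^ k = 1 := by
          rw [← hk, hv, conj_pow, pow_orderOf_eq_one]; group
        have hak : a₀ ^ 2 ^ k = 1 := by rw [← hk, pow_orderOf_eq_one]
        have hQ : IsPGroup 2 (zpowers a₀ ⊔ zpowers v : Subgroup G) := by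
          have hp1 : IsPGroup 2 (zpowers a₀) := IsPGroup.of_card (n := k) (by rw [Nat.card_zpowers, hk])
          have hp2 : IsPGroup 2 (zpowers v) := IsPGroup.of_card (n := k) (by
            rw [Nat.card_zpowers, hv, CfsgLib.Invol.orderOf_conj, hk])
          apply hp1.to_sup_of_normal_right' hp2
          rw [zpowers_le, mem_normalizer_iff]
          intro y
          constructor
          · intro hy
            obtain ⟨j, rfl⟩ := mem_zpowers_iff.1 hy
            rw [(hcomm.zpow_right j).eq, mul_inv_cancel_right]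
            exact hy
          · intro hy
            obtain ⟨j, hj⟩ := mem_zpowers_iff.1 hy
            have : y = v ^ j := by
              have h6 : y = a₀⁻¹ * (a₀ * y * a₀⁻¹) * a₀ := by group
              rw [h6, ← hj, ← (hcomm.inv_left.zpow_right j).symm.eq, inv_mul_cancel_right]
            rw [this]; exact zpow_mem (mem_zpowers v) j
        have hvX : v ∈ H ⊔ A := by
          rw [hv]
          exact mul_mem (mul_mem (mem_sup_left h.2) (mem_sup_right ha₀)) (inv_mem (mem_sup_left h.2))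
        rw [hv]
        apply claim a₀ ha₀ h h.2 (zpowers a₀ ⊔ zpowers v) _ hQ (mem_sup_left (mem_zpowers _))
        · rw [← hv]; exact mem_sup_right (mem_zpowers _)
        · rw [sup_le_iff, zpowers_le, zpowers_le]
          exact ⟨mem_sup_right ha₀, hvX⟩
      apply Subtype.ext
      rw [hu2, ← hv, h5]
      simp)
    rw [mem_centralizer_iff]
    intro h hh
    have h2 := hσa ⟨h, hh⟩
    rw [h1, MulAut.one_apply] at h2
    have h3 : h = a₀ * h * a₀⁻¹ := h2
    have h4 := eq_mul_inv_iff_mul_eq.1 h3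
    exact h4

end CfsgLib.ZCor
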