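import Cfsg.Agent.LibDFus9
import Cfsg.Agent.LibQd9C
import Cfsg.Agent.LibDZJ9
/-! Fusion generated by normalizers of subgroups containing the center of a Sylow subgroup. Seat helper9. -/
set_option autoImplicit false
set_option maxHeartbeats 400000
set_option linter.unusedSectionVars false

namespace CfsgLib.ZJSL9

open Cfsg Subgroup CfsgLib.FusionH12 CfsgLib.FusionH12b CfsgLib.FusionH12c CfsgLib.SecH12
open CfsgLib.FusionH12d CfsgLib.FusionH12e CfsgLib.FusionH12f CfsgLib.DZJ9 CfsgLib.DFus9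

universe u

section

variable {G : Type*} [Group G]

/-- steps: normalizers of members of `𝓕`, or centralizing elements -/
def CStep (S : Subgroup G) (𝓕 : Set (Subgroup G)) (D : Subgroup G) (x : G) : Prop :=
  (∃ U ∈ 𝓕, D ≤ U ∧ x ∈ normalizer (U : Set G)) ∨ (D ≤ S ∧ x ∈ centralizer (D : Set G))

theorem CStep.anti {S : Subgroup G} {𝓕 : Set (Subgroup G)} (D E : Subgroup G) (x : G) (h : E ≤ D)
    (hx : CStep S 𝓕 D x) : CStep S 𝓕 E x := by
  rcases hx with ⟨U, hU, hD, hx⟩ | ⟨h1, h2⟩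
  · exact Or.inl ⟨U, hU, h.trans hD, hx⟩
  · exact Or.inr ⟨h.trans h1, centralizer_le h h2⟩

theorem CStep.inv {S : Subgroup G} {𝓕 : Set (Subgroup G)} (D : Subgroup G) (x : G)
    (hx : CStep S 𝓕 D x) : CStep S 𝓕 (cj x D) x⁻¹ := by
  rcases hx with ⟨U, hU, hD, hx⟩ | ⟨h1, h2⟩
  · exact Or.inl ⟨U, hU, by rw [← cj_of_mem_nrm hx]; exact cj_mono hD, inv_mem hx⟩
  · rw [cj_of_mem_centralizer h2]
    exact Or.inr ⟨h1, inv_mem h2⟩

theorem CStep.card [Finite G] {S : Subgroup G} {𝓕 : Set (Subgroup G)} {D : Subgroup G} {g : G}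
    (h : Reach (CStep S 𝓕) D g) :
    Reach (CStep S {U | U ∈ 𝓕 ∧ Nat.card D ≤ Nat.card U}) D g := by
  induction h with
  | refl D => exact Reach.refl D
  | @cons D x y hx _ ih =>
    refine Reach.cons ?_ ?_
    · rcases hx with ⟨U, hU, hD, hx⟩ | h
      · exact Or.inl ⟨U, ⟨hU, Subgroup.card_le_of_le hD⟩, hD, hx⟩
      · exact Or.inr h
    · simpa only [card_cj] using ih

/-- subgroups containing `Z` with Sylow normalizer in `S` -/
def ZFam (p : ℕ) (S Z : Subgroup G) : Set (Subgroup G) :=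
  {U | Z ≤ U ∧ U ≤ S ∧ SylIn p (S ⊓ normalizer (U : Set G)) (normalizer (U : Set G))}

variable [Finite G] {p : ℕ} [hp : Fact p.Prime]

theorem alperinZ {S Z : Subgroup G} (hS : SylIn p S ⊤) (hZS : Z ≤ S) (hZ : Z ≤ centralizer (S : Set G)) :
    ∀ (n : ℕ) (D : Subgroup G) (g : G), Nat.card S - Nat.card D ≤ n → D ≤ S → cj g D ≤ S →
      Reach (CStep S (ZFam p S Z)) D g := by
  intro n
  induction n with
  | zero =>
    intro D g hn hD hg
    have hDS : D = S := Subgroup.eq_of_le_of_card_ge hD (by omega)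
    subst hDS
    refine Reach.single (Or.inl ⟨D, ⟨hZS, le_rfl, ?_⟩, le_rfl, mem_nrm.2 ?_⟩)
    · rw [inf_of_le_left Subgroup.le_normalizer]
      exact hS.mono Subgroup.le_normalizer le_top
    · exact Subgroup.eq_of_le_of_card_ge hg (by rw [card_cj])
  | succ n ih =>
    intro D g hn hD hg
    obtain ⟨U, hU, ⟨a, ha⟩, hUS⟩ := allFam hS D hD
    rcases eq_or_lt_of_le hD with hDS | hDS
    · exact ih D g (by rw [hDS]; simp) hD hg
    have hUc : Nat.card U = Nat.card D := by rw [← ha, card_cj]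
    have key : ∀ E : Subgroup G, E ≤ S → Nat.card E = Nat.card D → (∃ b, cj b E = U) →
        ∃ c, cj c E = U ∧ Reach (CStep S (ZFam p S Z)) E c := by
      intro E hE hcard ⟨b, hb⟩
      have hES : E < S := lt_of_le_of_ne hE (by
        rintro rfl
        have := Subgroup.card_le_of_le hD
        exact absurd (Subgroup.eq_of_le_of_card_ge hD (by omega)) hDS.ne)
      have h1 := lt_nrm_inf hS.pg hES
      have h2 : cj b (S ⊓ normalizer (E : Set G)) ≤ normalizer (U : Set G) := by
        rw [← hb, ← cj_normalizer]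
        exact cj_mono inf_le_right
      obtain ⟨m, hm, hm'⟩ := hUS.exists_conj_le (isPGroup_cj (hS.pg.to_le inf_le_left)) h2
      refine ⟨m * b, ?_, ?_⟩
      · rw [cj_mul, hb, cj_of_mem_nrm hm]
      · have h3 : Reach (CStep S (ZFam p S Z)) (S ⊓ normalizer (E : Set G)) (m * b) := by
          refine ih _ _ ?_ inf_le_left ?_
          · have h4 : Nat.card E < Nat.card ↥(S ⊓ normalizer (E : Set G)) := card_lt_of_lt h1
            have h5 := Subgroup.card_le_of_le (inf_le_left : S ⊓ normalizer (E : Set G) ≤ S)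
            omega
          · rw [cj_mul]; exact hm'.trans inf_le_left
        exact h3.anti CStep.anti h1.le
    obtain ⟨c, hc, hcR⟩ := key D hD rfl ⟨a, ha⟩
    obtain ⟨d, hd, hdR⟩ := key (cj g D) hg (card_cj _ _) ⟨a * g⁻¹, by
      rw [cj_mul, cj_inv_cj]; exact ha⟩
    have hdR' := hdR.inv CStep.inv
    rw [hd] at hdR'
    have hxU : cj (d * g * c⁻¹) U = U := by
      conv_lhs => rw [← hc]
      rw [cj_mul, cj_inv_cj, cj_mul, hd]
    have hmid : Reach (CStep S (ZFam p S Z)) U (d * g * c⁻¹) := by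
      by_cases hZU : Z ≤ U
      · exact Reach.single (Or.inl ⟨U, ⟨hZU, hU, hUS⟩, le_rfl, mem_nrm.2 hxU⟩)
      set x := d * g * c⁻¹ with hx
      set C := centralizer (U : Set G) with hC
      have hCN : C ≤ normalizer (U : Set G) := centralizer_le_normalizer _
      have hNC : normalizer (U : Set G) ≤ normalizer (C : Set G) := by
        intro n hn
        rw [mem_nrm, hC, cj_centralizer, cj_of_mem_nrm hn]
      set R := S ⊓ normalizer (U : Set G) ⊓ C with hR
      have hRs : SylIn p R C := hUS.inf_normal hCN hNC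
      have hxC : cj x C = C := by rw [hC, cj_centralizer, hxU]
      have hRs' : SylIn p (cj x R) C := by
        have := hRs.cj x
        rwa [hxC] at this
      obtain ⟨e, heC, he⟩ := hRs.exists_conj hRs'
      -- `e * x` normalizes `R` and `U`
      have heU : cj e U = U := cj_of_mem_centralizer heC
      have hZR : Z ≤ R := by
        have hZC : Z ≤ C := hZ.trans (centralizer_le hU)
        exact le_inf (le_inf hZS (hZC.trans hCN)) hZC
      have hn1 : cj (e * x) (U ⊔ R) = U ⊔ R := by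
        rw [cj_mul, cj_sup, cj_sup, hxU, heU, he]
      have hUR : U < U ⊔ R := lt_of_le_of_ne le_sup_left (by
        intro h
        apply hZU
        rw [h]
        exact hZR.trans le_sup_right)
      have hURS : U ⊔ R ≤ S := sup_le hU (inf_le_left.trans inf_le_left)
      have h1 : Reach (CStep S (ZFam p S Z)) (U ⊔ R) (e * x) := by
        refine ih _ _ ?_ hURS (by rw [hn1]; exact hURS)
        have h4 := card_lt_of_lt hUR
        have h5 := Subgroup.card_le_of_le hURS
        omega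
      have h2 : Reach (CStep S (ZFam p S Z)) U (e * x) := h1.anti CStep.anti hUR.le
      have h3 : cj (e * x) U = U := by rw [cj_mul, hxU, heU]
      have h4 := h2.trans (y := e⁻¹) (by
        rw [h3]
        exact Reach.single (Or.inr ⟨hU, inv_mem heC⟩))
      rwa [inv_mul_cancel_left] at h4
    have h6 : Reach (CStep S (ZFam p S Z)) U (d⁻¹ * (d * g * c⁻¹)) := by
      refine hmid.trans ?_
      rwa [hxU]
    have h7 : Reach (CStep S (ZFam p S Z)) D (d⁻¹ * (d * g * c⁻¹) * c) := hcR.trans (by rwa [hc])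
    have : d⁻¹ * (d * g * c⁻¹) * c = g := by group
    rwa [this] at h7

theorem claimZ {S Z : Subgroup G} (hS : SylIn p S ⊤) (hZS : Z ≤ S) (hZ : Z ≤ centralizer (S : Set G))
    {W : Subgroup G → Subgroup G} (hW : IsConjugacyFunctor p W)
    (hWZ : ∀ T : Subgroup G, IsPGroup p T → T ⊓ centralizer (T : Set G) ≤ W T)
    (hloc : ∀ U ∈ ZFam p S Z, FusIn (S ⊓ normalizer (U : Set G)) (normalizer (U : Set G))
      {normalizer (U : Set G) ⊓ normalizer ((W (S ⊓ normalizer (U : Set G)) : Subgroup G) : Set G)}) :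
    ∀ (n : ℕ) (U : Subgroup G), U ∈ ZFam p S Z →
      Nat.card S - Nat.card ↥(S ⊓ normalizer (U : Set G)) ≤ n →
      ∀ (D : Subgroup G) (x : G), D ≤ S ⊓ normalizer (U : Set G) → x ∈ normalizer (U : Set G) →
        cj x D ≤ S ⊓ normalizer (U : Set G) → Reach (FStep S {normalizer ((W S : Subgroup G) : Set G)}) D x := by
  intro n
  induction n using Nat.strong_induction_on with
  | _ n ih =>
  intro U hU hn D x hD hx hxD
  refine (hloc U hU D x hD hx hxD).bind ?_
  clear hD hx hxD D x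
  rintro D y ⟨hD, hyD, hy⟩
  rcases hy with ⟨N, hN, hy⟩ | hy
  swap
  · exact Reach.single ⟨hD.trans inf_le_left, hyD.trans inf_le_left, Or.inr hy⟩
  rw [Set.mem_singleton_iff] at hN
  subst hN
  have hRp : IsPGroup p ↥(S ⊓ normalizer (U : Set G)) := hS.pg.to_le inf_le_left
  by_cases hRS : S ⊓ normalizer (U : Set G) = S
  · rw [hRS] at hy
    exact Reach.single ⟨hD.trans inf_le_left, hyD.trans inf_le_left, Or.inl ⟨_, rfl, hy.2⟩⟩
  set R := S ⊓ normalizer (U : Set G) with hR
  have hRsyl : SylIn p R (normalizer (U : Set G)) := hU.2.2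
  have hRlt : R < S := lt_of_le_of_ne inf_le_left hRS
  have hgrow : R < S ⊓ normalizer ((W R : Subgroup G) : Set G) :=
    lt_of_lt_of_le (lt_nrm_inf hS.pg hRlt) (inf_le_inf le_rfl (nrm_le_nrm_W hW hRp))
  have hWR : W R ≤ R := W_le hW hRp
  obtain ⟨U₁, a, hU₁, haU, hUS, haN⟩ := exists_move hS.pg (allFam hS) (hWR.trans hRlt.le)
  set N₁ := S ⊓ normalizer ((W R : Subgroup G) : Set G) with hN₁
  have hcard : Nat.card R < Nat.card N₁ := card_lt_of_lt hgrow
  have hcardS : Nat.card N₁ ≤ Nat.card S := Subgroup.card_le_of_le inf_le_left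
  -- `U₁` is in the family
  have hUR : U ≤ R := le_inf hU.2.1 Subgroup.le_normalizer
  have haRS : cj a R ≤ S := ((cj_mono hgrow.le).trans haN).trans inf_le_left
  have hZa : Z ≤ cj a R := by
    have h1 : SylIn p (cj a R) (normalizer ((cj a U : Subgroup G) : Set G)) := by
      have := hRsyl.cj a
      rwa [cj_normalizer] at this
    have h2 : Z ≤ normalizer ((cj a U : Subgroup G) : Set G) :=
      (hZ.trans (centralizer_le ((cj_mono hUR).trans haRS))).trans (centralizer_le_normalizer _)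
    have h3 := h1.eq_of_le (P := cj a R ⊔ Z) (hS.pg.to_le (sup_le haRS hZS)) (sup_le h1.le h2) le_sup_left
    rw [← h3]; exact le_sup_right
  have hU₁F : U₁ ∈ ZFam p S Z := by
    refine ⟨?_, hU₁, hUS⟩
    rw [← haU, ← W_cj hW hRp]
    exact (le_inf hZa (hZ.trans (centralizer_le haRS))).trans (hWZ _ (isPGroup_cj hRp))
  have haR : Reach (FStep S {normalizer ((W S : Subgroup G) : Set G)}) N₁ a := by
    refine (CStep.card (alperinZ hS hZS hZ _ N₁ a le_rfl inf_le_left (haN.trans inf_le_left))).bind ?_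
    rintro E z (⟨V, ⟨hV, hVc⟩, hEV, hz⟩ | ⟨h1, h2⟩)
    · have hVS : V ≤ S ⊓ normalizer (V : Set G) := le_inf hV.2.1 Subgroup.le_normalizer
      have hVc' : Nat.card N₁ ≤ Nat.card ↥(S ⊓ normalizer (V : Set G)) :=
        hVc.trans (Subgroup.card_le_of_le hVS)
      refine ih (Nat.card S - Nat.card ↥(S ⊓ normalizer (V : Set G))) (by omega) V hV le_rfl E z
        (hEV.trans hVS) hz ?_
      refine le_trans ?_ hVS
      rw [← cj_of_mem_nrm hz]; exact cj_mono hEV
    · exact Reach.single ⟨h1, by rw [cj_of_mem_centralizer h2]; exact h1, Or.inr h2⟩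
  have hDN : D ≤ N₁ := hD.trans hgrow.le
  have hyDN : cj y D ≤ N₁ := hyD.trans hgrow.le
  have h1 : Reach (FStep S {normalizer ((W S : Subgroup G) : Set G)}) D a := haR.anti FStep.anti hDN
  have h2 : Reach (FStep S {normalizer ((W S : Subgroup G) : Set G)}) (cj a (cj y D)) a⁻¹ :=
    (haR.anti FStep.anti hyDN).inv FStep.inv
  have hc2 : Nat.card N₁ ≤ Nat.card ↥(S ⊓ normalizer (U₁ : Set G)) := by
    have := Subgroup.card_le_of_le haN
    rwa [card_cj] at this
  have e : cj (a * y * a⁻¹) (cj a D) = cj a (cj y D) := by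
    rw [cj_mul, cj_inv_cj, cj_mul]
  have h3 : Reach (FStep S {normalizer ((W S : Subgroup G) : Set G)}) (cj a D) (a * y * a⁻¹) := by
    refine ih (Nat.card S - Nat.card ↥(S ⊓ normalizer (U₁ : Set G))) (by omega) U₁ hU₁F le_rfl
      _ _ ((cj_mono hDN).trans haN) ?_ ?_
    · rw [← haU, ← cj_normalizer]
      exact conj_mem_cj hy.2
    · rw [e]; exact (cj_mono hyDN).trans haN
  have h4 := (h1.trans h3).trans (y := a⁻¹) (by
    rw [cj_mul, e]; exact h2)
  have : a⁻¹ * (a * y * a⁻¹ * a) = y := by group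
  rwa [this] at h4

/-- local-to-global for the family of subgroups containing `Z ≤ Z(S)` -/
theorem fusZ {S Z : Subgroup G} (hS : SylIn p S ⊤) (hZS : Z ≤ S) (hZ : Z ≤ centralizer (S : Set G))
    {W : Subgroup G → Subgroup G} (hW : IsConjugacyFunctor p W)
    (hWZ : ∀ T : Subgroup G, IsPGroup p T → T ⊓ centralizer (T : Set G) ≤ W T)
    (hloc : ∀ U ∈ ZFam p S Z, FusIn (S ⊓ normalizer (U : Set G)) (normalizer (U : Set G))
      {normalizer (U : Set G) ⊓ normalizer ((W (S ⊓ normalizer (U : Set G)) : Subgroup G) : Set G)}) :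
    FusIn S ⊤ {normalizer ((W S : Subgroup G) : Set G)} := by
  intro D g hD _ hgD
  refine (alperinZ hS hZS hZ _ D g le_rfl hD hgD).bind ?_
  rintro E z (⟨V, hV, hEV, hz⟩ | ⟨h1, h2⟩)
  · have hVS : V ≤ S ⊓ normalizer (V : Set G) := le_inf hV.2.1 Subgroup.le_normalizer
    refine claimZ hS hZS hZ hW hWZ hloc _ V hV le_rfl E z (hEV.trans hVS) hz ?_
    refine le_trans ?_ hVS
    rw [← cj_of_mem_nrm hz]; exact cj_mono hEV
  · exact Reach.single ⟨h1, by rw [cj_of_mem_centralizer h2]; exact h1, Or.inr h2⟩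

end

/-- `Z(T) ≤ Z(J(T))` -/
theorem center_le_zj {G : Type*} [Group G] [Finite G] (T : Subgroup G) :
    T ⊓ centralizer (T : Set G) ≤ centerThompsonAOf T := by
  intro x hx
  obtain ⟨hxT, hxc⟩ := mem_inf.1 hx
  rw [CfsgLib.H2ZJ.centerThompsonAOf_eq, CfsgLib.H2ZJ.IQ, mem_sInf]
  intro A hA
  have hAT : A ≤ T := hA.1
  have h2 : zpowers x ≤ A := by
    apply CfsgLib.H2ZJ.le_of_comm_maxIn hA (CfsgLib.H2ZJ.comm_zpowers _)
    · rw [zpowers_le]; exact hxT
    · rw [zpowers_le, mem_centralizer_iff]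
      intro y hy
      exact mem_centralizer_iff.1 hxc y (hAT hy)
  exact h2 (mem_zpowers _)

end CfsgLib.ZJSL9
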