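import Cfsg.Agent.LibSolvBasic
import Cfsg.Agent.LibH2Subn
import Cfsg.Agent.LibCores
import Cfsg.Agent.LibThompson
import Cfsg.Prelude.Def_Solvable

/-! Wielandt's zipper lemma and subnormality criteria -/

set_option autoImplicit false

namespace CfsgLib.Zipper

open Subgroup Pointwise Cfsg CfsgLib.SolvBasic

universe u

variable {G : Type u} [Group G]

/-- a subnormal non-normal subgroup has a nontrivial conjugate normalising it -/
theorem exists_conj (A : Subgroup G) (hA : A.IsSubnormal) (hn : ¬ A.Normal) :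
    ∃ x, x ∉ normalizer (A : Set G) ∧ ∀ a ∈ A, x * a * x⁻¹ ∈ normalizer (A : Set G) := by
  have key : ∀ B : Subgroup G, B.IsSubnormal → A ≤ B → B ≤ normalizer (A : Set G) →
      ∃ x, x ∉ normalizer (A : Set G) ∧ ∀ a ∈ A, x * a * x⁻¹ ∈ normalizer (A : Set G) := by
    intro B hB
    induction hB with
    | top =>
      intro _ h
      exact absurd (normalizer_eq_top_iff.mp (top_le_iff.mp h)) hn
    | step B B' hle hB' hN ih =>
      intro h1 h2
      by_cases h3 : B' ≤ normalizer (A : Set G)
      · exact ih (h1.trans hle) h3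
      · obtain ⟨x, hx, hxn⟩ := Set.not_subset.mp h3
        refine ⟨x, hxn, ?_⟩
        intro a ha
        apply h2
        have h4 := (normal_subgroupOf_iff_le_normalizer hle).mp hN hx
        exact (mem_normalizer_iff.mp h4 a).mp (h1 ha)
  exact key A hA le_rfl le_normalizer

theorem subnormal_conj_subgroupOf {A L : Subgroup G} (x : G)
    (h : (A.subgroupOf (MulAut.conj x⁻¹ • L)).IsSubnormal) :
    ((MulAut.conj x • A).subgroupOf L).IsSubnormal := by
  have h1 : ∀ l : L, ((MulAut.conj x⁻¹).toMonoidHom.comp L.subtype) l ∈ MulAut.conj x⁻¹ • L := by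
    intro l
    rw [mem_conj_smul]
    have : (x⁻¹)⁻¹ * ((MulAut.conj x⁻¹).toMonoidHom.comp L.subtype) l * x⁻¹ = l := by
      change (x⁻¹)⁻¹ * (x⁻¹ * (l : G) * (x⁻¹)⁻¹) * x⁻¹ = l
      group
    rw [this]; exact l.2
  have h2 := h.comap (((MulAut.conj x⁻¹).toMonoidHom.comp L.subtype).codRestrict _ h1)
  have h3 : (A.subgroupOf (MulAut.conj x⁻¹ • L)).comap
      (((MulAut.conj x⁻¹).toMonoidHom.comp L.subtype).codRestrict _ h1) = (MulAut.conj x • A).subgroupOf L := by
    ext l
    rw [mem_comap, mem_subgroupOf, mem_subgroupOf, mem_conj_smul]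
    change x⁻¹ * (l : G) * (x⁻¹)⁻¹ ∈ A ↔ _
    rw [inv_inv]
  rw [← h3]; exact h2

/-- Wielandt's zipper lemma -/
theorem zipper [Finite G] (n : ℕ) : ∀ A : Subgroup G, Nat.card G < Nat.card A + n → ¬ A.IsSubnormal →
    (∀ K, A ≤ K → K ≠ ⊤ → (A.subgroupOf K).IsSubnormal) → ∃ M : Subgroup G, M ≠ ⊤ ∧ ∀ K, A ≤ K → K ≠ ⊤ → K ≤ M := by
  induction n with
  | zero =>
    intro A h
    have := card_le_card_group A
    omega
  | succ n ih =>
    intro A hc hA hK
    have hNA : normalizer (A : Set G) ≠ ⊤ := fun h => hA (normalizer_eq_top_iff.mp h).isSubnormal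
    obtain ⟨M, hM, hNM⟩ : ∃ M, IsCoatom M ∧ normalizer (A : Set G) ≤ M :=
      (eq_top_or_exists_le_coatom _).resolve_left hNA
    refine ⟨M, hM.1, ?_⟩
    intro K hAK hKt
    by_cases hKN : K ≤ normalizer (A : Set G)
    · exact hKN.trans hNM
    have hA' : ¬ (A.subgroupOf K).Normal := fun h => hKN ((normal_subgroupOf_iff_le_normalizer hAK).mp h)
    obtain ⟨x, hx, hxA⟩ := exists_conj _ (hK K hAK hKt) hA'
    rw [← subgroupOf_normalizer_eq hAK, mem_subgroupOf] at hx
    have hT1 : MulAut.conj (x : G) • A ≤ normalizer (A : Set G) := by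
      intro y hy
      rw [mem_conj_smul] at hy
      have h1 := hxA ⟨(x : G)⁻¹ * y * x, hAK hy⟩ hy
      rw [← subgroupOf_normalizer_eq hAK, mem_subgroupOf] at h1
      have h2 : (x : G) * ((x : G)⁻¹ * y * x) * (x : G)⁻¹ = y := by group
      have h3 : ((x * (⟨(x : G)⁻¹ * y * x, hAK hy⟩ : K) * x⁻¹ : K) : G) = y := h2
      rwa [h3] at h1
    have hT2 : MulAut.conj (x : G) • A ≤ K := by
      intro y hy
      rw [mem_conj_smul] at hy
      have h2 : (x : G) * ((x : G)⁻¹ * y * x) * (x : G)⁻¹ = y := by group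
      rw [← h2]
      exact mul_mem (mul_mem x.2 (hAK hy)) (inv_mem x.2)
    have hlt : A < A ⊔ MulAut.conj (x : G) • A := by
      refine lt_of_le_of_ne le_sup_left ?_
      intro h
      apply hx
      rw [mem_normalizer_iff_conj_smul]
      have h1 : MulAut.conj (x : G) • A ≤ A := by
        conv_rhs => rw [h]
        exact le_sup_right
      exact eq_of_le_of_card_ge h1 (by rw [card_conj_smul])
    have hcard := card_lt_of_lt hlt
    obtain ⟨MT, hMT, hMT'⟩ := ih (A ⊔ MulAut.conj (x : G) • A) (by omega) (by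
      intro h
      apply hA
      refine IsSubnormal.trans hlt.le ?_ h
      apply Normal.isSubnormal
      rw [normal_subgroupOf_iff_le_normalizer hlt.le]
      exact sup_le le_normalizer hT1) (by
      intro L hL hLt
      rw [subgroupOf_sup (le_sup_left.trans hL) (le_sup_right.trans hL)]
      apply CfsgLib.H2Subn.sup
      · exact hK L (le_sup_left.trans hL) hLt
      · apply subnormal_conj_subgroupOf
        apply hK
        · intro a ha
          rw [mem_conj_smul, inv_inv]
          apply hL
          apply mem_sup_right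
          rw [mem_conj_smul]
          have : (x : G)⁻¹ * ((x : G) * a * (x : G)⁻¹) * x = a := by group
          rwa [this]
        · intro h
          apply hLt
          apply eq_top_of_card_ge
          rw [← card_conj_smul (x : G)⁻¹ L, h, card_top])
    have h1 : M ≤ MT := hMT' M ((sup_le le_normalizer hT1).trans hNM) hM.1
    have h2 : M = MT := by
      by_contra h3
      exact hMT (hM.2 _ (lt_of_le_of_ne h1 h3))
    rw [h2]
    exact hMT' K (sup_le hAK hT2) hKt

theorem subgroupOf_subnormal_aux {A K : Subgroup G} (hAK : A ≤ K) (g : K)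
    (h : (A.subgroupOf (A ⊔ MulAut.conj (g : G) • A)).IsSubnormal) :
    ((A.subgroupOf K).subgroupOf (A.subgroupOf K ⊔ MulAut.conj g • A.subgroupOf K)).IsSubnormal := by
  have h0 : (A.subgroupOf K ⊔ MulAut.conj g • A.subgroupOf K) ≤ (A ⊔ MulAut.conj (g : G) • A).comap K.subtype := by
    apply sup_le
    · intro a ha
      exact mem_sup_left (mem_subgroupOf.mp ha)
    · intro a ha
      rw [mem_conj_smul] at ha
      rw [mem_comap]
      apply mem_sup_right
      rw [mem_conj_smul]
      exact mem_subgroupOf.mp ha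
  have h1 : ∀ l : (A.subgroupOf K ⊔ MulAut.conj g • A.subgroupOf K : Subgroup K),
      (K.subtype.comp (A.subgroupOf K ⊔ MulAut.conj g • A.subgroupOf K).subtype) l ∈ A ⊔ MulAut.conj (g : G) • A :=
    fun l => h0 l.2
  exact h.comap ((K.subtype.comp (A.subgroupOf K ⊔ MulAut.conj g • A.subgroupOf K).subtype).codRestrict _ h1)

theorem wielandt (n : ℕ) : ∀ (G : Type u) [Group G] [Finite G], Nat.card G ≤ n → ∀ A : Subgroup G,
    (∀ g : G, (A.subgroupOf (A ⊔ MulAut.conj g • A)).IsSubnormal) → A.IsSubnormal := by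
  induction n with
  | zero => intro G _ _ h; exact absurd h (by have := Nat.card_pos (α := G); omega)
  | succ n ih =>
    intro G _ _ hcard A h
    by_contra hA
    have hK : ∀ K, A ≤ K → K ≠ ⊤ → (A.subgroupOf K).IsSubnormal := by
      intro K hAK hKt
      have h1 := card_lt_of_ne_top hKt
      exact ih K (by omega) _ fun g => subgroupOf_subnormal_aux hAK g (h g)
    obtain ⟨M, hM, hMK⟩ := zipper (Nat.card G + 1) A (by omega) hA hK
    have h1 : ∀ g : G, MulAut.conj g • A ≤ M := by
      intro g
      refine le_sup_right.trans (hMK (A ⊔ MulAut.conj g • A) le_sup_left ?_)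
      intro ht
      apply hA
      refine IsSubnormal.trans (le_sup_left : A ≤ A ⊔ MulAut.conj g • A) (h g) ?_
      rw [ht]; exact IsSubnormal.top
    have h2 : normalClosure (A : Set G) ≤ M := by
      rw [normalClosure, closure_le]
      intro y hy
      rw [Group.mem_conjugatesOfSet_iff] at hy
      obtain ⟨a, ha, hay⟩ := hy
      obtain ⟨c, hc⟩ := isConj_iff.mp hay
      apply h1 c
      rw [mem_conj_smul, ← hc]
      have : c⁻¹ * (c * a * c⁻¹) * c = a := by group
      rw [this]; exact ha
    have h3 : normalClosure (A : Set G) ≠ ⊤ := fun h4 => hM (top_le_iff.mp (h4 ▸ h2))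
    apply hA
    exact IsSubnormal.trans subset_normalClosure (hK _ subset_normalClosure h3)
      (normalClosure_normal).isSubnormal

theorem normalizer_le_of_char (B : Subgroup G) (K : Subgroup B) (hK : K.Characteristic) :
    normalizer (B : Set G) ≤ normalizer ((K.map B.subtype : Subgroup G) : Set G) := by
  intro b hb
  have hinv : ∀ k, MulAut.conj b k ∈ B ↔ k ∈ B := fun k => (mem_normalizer_iff.mp hb k).symm
  have h1 := CfsgLib.Thompson.char_invariant hK (CfsgLib.Thompson.resAut (MulAut.conj b) B hinv)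
  rw [mem_normalizer_iff]
  intro x
  constructor
  · rintro ⟨y, hy, rfl⟩
    exact ⟨CfsgLib.Thompson.resAut (MulAut.conj b) B hinv y, (h1 y).mpr hy, rfl⟩
  · rintro ⟨y, hy, hyx⟩
    have hx : x ∈ B := (mem_normalizer_iff.mp hb x).mpr (hyx ▸ y.2)
    refine ⟨⟨x, hx⟩, ?_, rfl⟩
    apply (h1 ⟨x, hx⟩).mp
    have : CfsgLib.Thompson.resAut (MulAut.conj b) B hinv ⟨x, hx⟩ = y := Subtype.ext hyx.symm
    rw [this]; exact hy

/-- subnormal nilpotent subgroups lie in the Fitting subgroup -/
theorem le_fitting [Finite G] {A : Subgroup G} (hA : A.IsSubnormal) (hn : Group.IsNilpotent A) :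
    A ≤ fittingSubgroup G := by
  have key : ∀ B : Subgroup G, B.IsSubnormal → ∀ N ≤ B, B ≤ normalizer (N : Set G) → Group.IsNilpotent N →
      N ≤ fittingSubgroup G := by
    intro B hB
    induction hB with
    | top =>
      intro N _ h1 h2
      exact CfsgLib.Cores.le_fittingSubgroup (normalizer_eq_top_iff.mp (top_le_iff.mp h1)) h2
    | step B B' hle hB' hN ih =>
      intro N hNB h1 h2
      have h3 : (N.subgroupOf B).Normal := (normal_subgroupOf_iff_le_normalizer hNB).mpr h1
      haveI : Group.IsNilpotent (N.subgroupOf B) :=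
        (Group.isNilpotent_congr (subgroupOfEquivOfLe hNB)).mpr h2
      have h4 : N.subgroupOf B ≤ fittingSubgroup B := CfsgLib.Cores.le_fittingSubgroup h3 inferInstance
      have h5 : N ≤ (fittingSubgroup B).map B.subtype := by
        intro x hx
        exact ⟨⟨x, hNB hx⟩, h4 hx, rfl⟩
      refine h5.trans (ih _ ((map_subtype_le _).trans hle) ?_ ?_)
      · exact ((normal_subgroupOf_iff_le_normalizer hle).mp hN).trans
          (normalizer_le_of_char B _ CfsgLib.Cores.fittingSubgroup_characteristic)
      · haveI : Group.IsNilpotent (fittingSubgroup B) := CfsgLib.Cores.fittingSubgroup_isNilpotent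
        let e := (fittingSubgroup B).equivMapOfInjective B.subtype B.subtype_injective
        exact (Group.isNilpotent_congr e).mp inferInstance
  exact key A hA A le_rfl le_normalizer hn

end CfsgLib.Zipper
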