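import Cfsg.Statements.S0109
import Cfsg.Agent.LibH2SL3c

set_option autoImplicit false
open Cfsg

namespace Cfsg.Agent.S0109

open Subgroup Cfsg CfsgLib.Cores CfsgLib.H2SL3b CfsgLib.H2SL3c CfsgLib.PSolv19 CfsgLib.H2PSt CfsgLib.H2PSt2
open scoped Pointwise commutatorElement
universe uu



/-- The Thompson factorization Theorem for solvable groups states that, with p odd (and abelian Sylow 2-subgroups when p = 3) and no nontrivial normal subgroup of order prime to p, every element of G is a product of an element normalizing J(P) and an element centralizing the elements of order dividing p in the centre of P. -/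
theorem result {G : Type*} [Group G] [Finite G] {p : ℕ} [Fact p.Prime] (hp : p ≠ 2) (hs : Group.IsSolvable G) (h3 : p = 3 → ∀ T : Sylow 2 G, IsMulCommutative T) (hF : ∀ N : Subgroup G, N.Normal → Nat.Coprime (Nat.card N) p → N = ⊥) (P : Sylow p G) (g : G) : ∃ a ∈ Subgroup.normalizer (Cfsg.thompsonSubgroupOf p (P : Subgroup G) : Set G), ∃ c ∈ Subgroup.centralizer {x : G | x ∈ (P : Subgroup G) ∧ (∀ y ∈ (P : Subgroup G), x * y = y * x) ∧ x ^ p = 1}, g = a * c := by
  have hpp : p.Prime := Fact.out
  have hps : IsPSolvable p G := psolv_of_solvable _ rfl hs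
  have hO : pPrimeCore p G = ⊥ := hF _ inferInstance (pPrimeCore_coprime p)
  have hc := hall_higman hps hO
  have hNQ : ∀ H : Subgroup G, NoQuad p H := by
    by_cases h : p = 3
    · exact noQuad_all_of_sylAb hp (h3 h)
    · have h5 : 5 ≤ p := by
        have h2 := hpp.two_le
        by_contra hcon
        have : p = 4 := by omega
        rw [this] at hpp
        exact absurd hpp (by decide)
      exact noQuad_all_of_psolv h5 hps
  obtain ⟨x, hx, c, hcc, n, hn, e⟩ := thompson_fact hO hc hNQ P g⁻¹
  have hx1 : x = 1 := by rw [hO] at hx; exact mem_bot.mp hx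
  refine ⟨n⁻¹, inv_mem hn, c⁻¹, ?_, ?_⟩
  · apply inv_mem
    apply mem_centralizer_iff.mpr
    intro y hy
    apply mem_centralizer_iff.mp hcc
    apply Subgroup.subset_closure
    refine ⟨⟨hy.1, ?_⟩, hy.2.2⟩
    exact mem_centralizer_iff.mpr fun z hz => (hy.2.1 z hz).symm
  · rw [← inv_inv g, e, hx1, one_mul, mul_inv_rev]

end Cfsg.Agent.S0109
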