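import Cfsg.Statements.S0157
import Cfsg.Agent.LibCharIndA
import Cfsg.Agent.LibCharNorm

set_option autoImplicit false
set_option linter.all false
open Cfsg

namespace Cfsg.Agent.S0157

open CfsgLib.CharBasic

theorem inner_perm {G X : Type*} [Group G] [Fintype G] [MulAction G X] [Finite X] :
    classInner (fun g : G => (Nat.card (MulAction.fixedBy X g) : ℂ)) (fun _ => 1) =
      (Nat.card (MulAction.orbitRel.Quotient G X) : ℂ) := by
  classical
  haveI := Fintype.ofFinite X
  haveI : Fintype (MulAction.orbitRel.Quotient G X) := Fintype.ofFinite _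
  have h := MulAction.sum_card_fixedBy_eq_card_orbits_mul_card_group G X
  rw [inner_one_right]
  have hG : (Nat.card G : ℂ) ≠ 0 := by exact_mod_cast Nat.card_pos.ne'
  have h2 : ∑ g : G, (Nat.card (MulAction.fixedBy X g) : ℂ) = (Nat.card (MulAction.orbitRel.Quotient G X) : ℂ) * Nat.card G := by
    rw [Nat.card_eq_fintype_card (α := G), Nat.card_eq_fintype_card (α := MulAction.orbitRel.Quotient G X)]
    have : ∑ g : G, (Nat.card (MulAction.fixedBy X g)) = Fintype.card (MulAction.orbitRel.Quotient G X) * Fintype.card G := by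
      rw [← h]
      exact Finset.sum_congr rfl fun g _ => Nat.card_eq_fintype_card
    exact_mod_cast this
  rw [h2]; field_simp

theorem inner_perm_self {G X : Type*} [Group G] [Fintype G] [MulAction G X] [Finite X] :
    classInner (fun g : G => (Nat.card (MulAction.fixedBy X g) : ℂ)) (fun g : G => (Nat.card (MulAction.fixedBy X g) : ℂ)) =
      (Nat.card (MulAction.orbitRel.Quotient G (X × X)) : ℂ) := by
  rw [← inner_perm]
  simp only [classInner]
  congr 1
  refine Finset.sum_congr rfl fun g _ => ?_
  rw [Complex.conj_natCast, map_one, mul_one, ← Nat.cast_mul, ← Nat.card_prod]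
  congr 1
  apply Nat.card_congr
  refine ⟨fun p => ⟨(p.1.1, p.2.1), ?_⟩, fun p => (⟨p.1.1, ?_⟩, ⟨p.1.2, ?_⟩), fun p => rfl, fun p => rfl⟩
  · have h1 := p.1.2; have h2 := p.2.2
    rw [MulAction.mem_fixedBy] at h1 h2 ⊢
    exact Prod.ext h1 h2
  · have h := p.2
    rw [MulAction.mem_fixedBy] at h ⊢
    exact congrArg Prod.fst h
  · have h := p.2
    rw [MulAction.mem_fixedBy] at h ⊢
    exact congrArg Prod.snd h

/-- For a transitive action of a finite group on a finite set with at least two points: the action is 2-transitive if and only if the function sending g to (number of fixed points of g) − 1 is an irreducible character. -/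
theorem result {G : Type*} [Group G] [Finite G] (X : Type*) [MulAction G X] [Finite X] [MulAction.IsPretransitive G X] (hX : 2 ≤ Nat.card X) : Cfsg.IsIrrCharacter G (fun g => (Nat.card (MulAction.fixedBy X g) : ℂ) - 1) ↔ MulAction.IsMultiplyPretransitive G X 2 := by
  classical
  haveI := Fintype.ofFinite G
  haveI := Fintype.ofFinite X
  set π : G → ℂ := fun g => (Nat.card (MulAction.fixedBy X g) : ℂ) with hπ
  have hπc : IsCharacter G π := isCharacter_perm
  have h1 : classInner π (fun _ => 1) = 1 := by
    rw [inner_perm]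
    have : Subsingleton (MulAction.orbitRel.Quotient G X) := by
      exact (MulAction.pretransitive_iff_subsingleton_quotient G X).mp inferInstance
    have hne : Nonempty (MulAction.orbitRel.Quotient G X) := by
      have : 0 < Nat.card X := by omega
      obtain ⟨x⟩ := (Nat.card_pos_iff.mp this).1
      exact ⟨Quotient.mk _ x⟩
    rw [Nat.card_unique]; simp
  have h11 : classInner (fun _ : G => (1:ℂ)) (fun _ => 1) = 1 := irr_inner_self isIrrCharacter_one
  have h1' : classInner (fun _ => 1) π = 1 := by
    rw [← CfsgLib.CharBasic.inner_conj_symm, h1, map_one]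
  have hsub : (fun g => (Nat.card (MulAction.fixedBy X g) : ℂ) - 1) = π - (fun _ => 1) := rfl
  have hchar : IsCharacter G (π - (fun _ => 1)) := by
    rw [isCharacter_iff]
    refine ⟨classFun_sub (char_classFun hπc) (char_classFun isCharacter_one), fun ψ hψ => ?_⟩
    rw [CfsgLib.CharNorm.ci_sub_l]
    by_cases h : ψ = fun _ => 1
    · rw [h, h1, h11]; exact ⟨0, by simp⟩
    · rw [irr_inner_ne isIrrCharacter_one hψ (fun h2 => h h2.symm), sub_zero]
      exact char_mult hπc (irr_isCharacter hψ)
  have hnorm : classInner (π - (fun _ => 1)) (π - (fun _ => 1)) = (Nat.card (MulAction.orbitRel.Quotient G (X × X)) : ℂ) - 1 := by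
    rw [CfsgLib.CharNorm.ci_sub_l, CfsgLib.CharNorm.ci_sub_r, CfsgLib.CharNorm.ci_sub_r, h1, h1', h11, inner_perm_self]
    ring
  rw [hsub, irr_iff_norm_one, hnorm]
  have h2 : ((Nat.card (MulAction.orbitRel.Quotient G (X × X)) : ℂ) - 1 = 1) ↔ Nat.card (MulAction.orbitRel.Quotient G (X × X)) = 2 := by
    constructor
    · intro h
      have : (Nat.card (MulAction.orbitRel.Quotient G (X × X)) : ℂ) = 2 := by linear_combination h
      exact_mod_cast this
    · intro h; rw [h]; norm_num
  rw [h2]
  obtain ⟨x0, y0, hxy0⟩ : ∃ x y : X, x ≠ y := by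
    have : 1 < Nat.card X := by omega
    haveI := Finite.one_lt_card_iff_nontrivial.mp this
    exact exists_pair_ne X
  rw [MulAction.is_two_pretransitive_iff]
  constructor
  · rintro ⟨-, hc⟩
    intro a b c d hab hcd
    by_contra hcon
    -- three different orbits
    have hcard : Nat.card (Fin 3) ≤ Nat.card (MulAction.orbitRel.Quotient G (X × X)) := by
      refine Nat.card_le_card_of_injective (fun i : Fin 3 => (![Quotient.mk _ (a, b), Quotient.mk _ (c, d), Quotient.mk _ (a, a)] i : MulAction.orbitRel.Quotient G (X × X))) ?_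
      have key : ∀ p q : X × X, (Quotient.mk _ p : MulAction.orbitRel.Quotient G (X × X)) = Quotient.mk _ q → ∃ g : G, g • q = p := by
        intro p q h
        exact MulAction.orbitRel_apply.mp (Quotient.exact h)
      have n1 : (Quotient.mk _ (a, b) : MulAction.orbitRel.Quotient G (X × X)) ≠ Quotient.mk _ (c, d) := by
        intro h
        obtain ⟨g, hg⟩ := key _ _ h.symm
        exact hcon ⟨g, congrArg Prod.fst hg, congrArg Prod.snd hg⟩
      have n2 : (Quotient.mk _ (a, b) : MulAction.orbitRel.Quotient G (X × X)) ≠ Quotient.mk _ (a, a) := by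
        intro h
        obtain ⟨g, hg⟩ := key _ _ h
        exact hab ((congrArg Prod.fst hg).symm.trans (congrArg Prod.snd hg))
      have n3 : (Quotient.mk _ (c, d) : MulAction.orbitRel.Quotient G (X × X)) ≠ Quotient.mk _ (a, a) := by
        intro h
        obtain ⟨g, hg⟩ := key _ _ h
        exact hcd ((congrArg Prod.fst hg).symm.trans (congrArg Prod.snd hg))
      intro i j hij
      fin_cases i <;> fin_cases j <;> simp_all
    rw [hc] at hcard
    simp at hcard
  · intro h2t
    refine ⟨hchar, ?_⟩
    have hall : ∀ q : MulAction.orbitRel.Quotient G (X × X), q = Quotient.mk _ (x0, x0) ∨ q = Quotient.mk _ (x0, y0) := by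
      intro q
      obtain ⟨⟨a, b⟩, rfl⟩ := Quotient.exists_rep q
      by_cases hab : a = b
      · left
        apply Quotient.sound
        obtain ⟨g, hg⟩ := MulAction.exists_smul_eq G x0 a
        exact MulAction.orbitRel_apply.mpr ⟨g, Prod.ext hg (hab ▸ hg)⟩
      · right
        apply Quotient.sound
        obtain ⟨g, hg1, hg2⟩ := h2t hxy0 hab
        exact MulAction.orbitRel_apply.mpr ⟨g, Prod.ext hg1 hg2⟩
    have hne : (Quotient.mk _ (x0, x0) : MulAction.orbitRel.Quotient G (X × X)) ≠ Quotient.mk _ (x0, y0) := by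
      intro h
      obtain ⟨g, hg⟩ := MulAction.orbitRel_apply.mp (Quotient.exact h)
      have h3 : g • x0 = x0 := congrArg Prod.fst hg
      have h4 : g • y0 = x0 := congrArg Prod.snd hg
      exact hxy0 (smul_left_cancel g (h3.trans h4.symm))
    rw [Nat.card_eq_two_iff]
    exact ⟨_, _, hne, Set.eq_univ_of_forall fun q => by
      rcases hall q with h | h <;> simp [h]⟩

end Cfsg.Agent.S0157
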