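import Cfsg.Statements.S0214
import Cfsg.Agent.LibGamma8

set_option autoImplicit false
open Cfsg

namespace Cfsg.Agent.S0214


/-- Let H be a proper subgroup of the finite group G and P a nontrivial Sylow 2-subgroup of H. Then H is strongly embedded in G if and only if N_G(X) ≤ H for every nontrivial subgroup X of P. -/
theorem result {G : Type*} [Group G] [Finite G] (H : Subgroup G) (hH : H ≠ ⊤) (P : Sylow 2 ↥H) (hP : (P : Subgroup ↥H) ≠ ⊥) : Cfsg.IsStronglyEmbedded H ↔ (∀ X : Subgroup ↥H, X ≤ (P : Subgroup ↥H) → X ≠ ⊥ → Subgroup.normalizer ((X.map H.subtype : Subgroup G) : Set G) ≤ H) := by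
  have h1 := CfsgLib.FusionH12.SylIn.ofSylowIn P
  have h2 : ((P : Subgroup ↥H).map H.subtype) ≠ ⊥ := by
    intro h
    apply hP
    rwa [Subgroup.map_eq_bot_iff_of_injective _ H.subtype_injective] at h
  rw [CfsgLib.Gamma8.stronglyEmbedded_iff hH h1 h2]
  constructor
  · intro h X hX hX1
    apply h _ (Subgroup.map_mono hX)
    intro h3
    apply hX1
    rwa [Subgroup.map_eq_bot_iff_of_injective _ H.subtype_injective] at h3
  · intro h X hX hX1
    have hXH : X ≤ H := hX.trans h1.le
    have h3 : (X.subgroupOf H).map H.subtype = X := by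
      rw [Subgroup.subgroupOf_map_subtype, inf_of_le_left hXH]
    have h4 := h (X.subgroupOf H) ?_ ?_
    · rwa [h3] at h4
    · intro x hx
      have h5 : (x : G) ∈ (P : Subgroup ↥H).map H.subtype := hX hx
      obtain ⟨y, hy, hyx⟩ := h5
      have : y = x := Subtype.ext hyx
      rwa [← this]
    · intro h5
      apply hX1
      rw [← h3, h5, Subgroup.map_bot]
end Cfsg.Agent.S0214
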