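import Cfsg.Statements.S0221
import Cfsg.Agent.LibRank8

set_option autoImplicit false
open Cfsg

namespace Cfsg.Agent.S0221


/-- Let G be a finite group with no subgroup of index 2 whose 2-rank is at least 3 (it contains an elementary abelian subgroup of order 8). Then the centralizer of every involution of G also contains an elementary abelian subgroup of order 8. -/
theorem result {G : Type*} [Group G] [Finite G] (hno : ∀ H : Subgroup G, H.index ≠ 2) (hrank : ∃ E : Subgroup G, Nat.card E = 8 ∧ ∀ e ∈ E, e ^ 2 = 1) (x : G) (hx : orderOf x = 2) : ∃ E : Subgroup G, E ≤ Subgroup.centralizer ({x} : Set G) ∧ Nat.card E = 8 ∧ ∀ e ∈ E, e ^ 2 = 1 := by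
  have hp := Nat.prime_two
  haveI : Fact (Nat.Prime 2) := ⟨hp⟩
  have hcomm : ∀ E : Subgroup G, (∀ e ∈ E, e ^ 2 = 1) → Cfsg.IsElementaryAbelian 2 E := by
    intro E hE
    refine ⟨⟨⟨fun a b => Subtype.ext ?_⟩⟩, hE⟩
    change (a : G) * b = b * a
    have ha := hE a a.2
    have hb := hE b b.2
    have hab := hE (a * b) (mul_mem a.2 b.2)
    rw [pow_two] at ha hb hab
    have ha' : (a : G)⁻¹ = a := inv_eq_of_mul_eq_one_right ha
    have hb' : (b : G)⁻¹ = b := inv_eq_of_mul_eq_one_right hb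
    calc (a : G) * b = (a * b : G)⁻¹ := (inv_eq_of_mul_eq_one_right hab).symm
      _ = b * a := by rw [mul_inv_rev, ha', hb']
  obtain ⟨E, hEc, hE⟩ := hrank
  have hr : ¬ Cfsg.PRankLE 2 2 (⊤ : Subgroup G) := by
    rw [CfsgLib.BGPi.not_rank_iff hp]
    exact ⟨E, le_top, hcomm E hE, by rw [hEc]; norm_num⟩
  have h1 := CfsgLib.Rank8.rank_three_centralizers hno hr x hx
  obtain ⟨A, hA, hAe, hAc⟩ := (CfsgLib.BGPi.not_rank_iff hp).1 h1
  exact ⟨A, hA, by rw [hAc]; norm_num, hAe.2⟩
end Cfsg.Agent.S0221
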