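import Cfsg.Statements.S0223
import Mathlib
import Cfsg.Agent.LibInvol

set_option autoImplicit false
open Cfsg

namespace Cfsg.Agent.S0223


/-- Let H be a proper subgroup of even order of the finite group G. Then H is strongly embedded if and only if (i) C_G(t) ≤ H for every involution t of H and (ii) H controls fusion of its involutions: involutions of H conjugate in G are conjugate in H. -/
theorem result {G : Type*} [Group G] [Finite G] (H : Subgroup G) (hH : H ≠ ⊤) (heven : Even (Nat.card H)) : Cfsg.IsStronglyEmbedded H ↔ ((∀ t ∈ H, orderOf t = 2 → Subgroup.centralizer ({t} : Set G) ≤ H) ∧ (∀ t ∈ H, ∀ s ∈ H, orderOf t = 2 → orderOf s = 2 → IsConj t s → ∃ h ∈ H, h * t * h⁻¹ = s)) := by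
  constructor
  · rintro ⟨-, -, h3⟩
    have key : ∀ t ∈ H, orderOf t = 2 → ∀ g : G, g⁻¹ * t * g ∈ H → g ∈ H := by
      intro t ht ht2 g hg
      by_contra hgH
      have h4 := h3 g hgH
      have hg' : t ∈ H.map (MulAut.conj g).toMonoidHom := ⟨g⁻¹ * t * g, hg, by simp [mul_assoc]⟩
      exact CfsgLib.Invol.not_odd_card_of_mem (Subgroup.mem_inf.2 ⟨ht, hg'⟩) ht2 h4
    refine ⟨?_, ?_⟩
    · intro t ht ht2 c hc
      rw [Subgroup.mem_centralizer_singleton_iff] at hc
      apply key t ht ht2
      rw [mul_assoc, ← hc, inv_mul_cancel_left]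
      exact ht
    · intro t ht s hs ht2 hs2 hts
      obtain ⟨c, hc⟩ := isConj_iff.1 hts
      refine ⟨c, ?_, hc⟩
      apply key s hs hs2
      rw [← hc]
      simpa [mul_assoc] using ht
  · rintro ⟨h1, h2⟩
    refine ⟨hH, heven, ?_⟩
    intro g hg
    apply CfsgLib.Invol.odd_card_of_forall
    intro t htt ht2
    obtain ⟨ht, htg⟩ := Subgroup.mem_inf.1 htt
    obtain ⟨s, hs, hst⟩ := htg
    have hst' : g * s * g⁻¹ = t := by simpa using hst
    have hs2 : orderOf s = 2 := by rw [← ht2, ← hst', CfsgLib.Invol.orderOf_conj]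
    obtain ⟨h, hh, hhs⟩ := h2 s hs t ht hs2 ht2 (isConj_iff.2 ⟨g, hst'⟩)
    have hc : g⁻¹ * h ∈ Subgroup.centralizer ({s} : Set G) := by
      rw [Subgroup.mem_centralizer_singleton_iff]
      have h5 : h * s = g * s * g⁻¹ * h := by
        rw [hst']; exact mul_inv_eq_iff_eq_mul.1 hhs
      rw [mul_assoc, h5]; group
    have := h1 s hs hs2 hc
    apply hg
    have h6 := H.mul_mem hh (H.inv_mem this)
    simpa using h6
end Cfsg.Agent.S0223
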