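import Cfsg.Statements.S0224
import Mathlib
import Cfsg.Agent.LibInvol

set_option autoImplicit false
open Cfsg

namespace Cfsg.Agent.S0224

/-- `t • gH = gH ↔ t ∈ gHg⁻¹`. -/
theorem smul_mk_eq_iff {G : Type*} [Group G] (H : Subgroup G) (t g : G) :
    t • (QuotientGroup.mk g : G ⧸ H) = QuotientGroup.mk g ↔ t ∈ H.map (MulAut.conj g).toMonoidHom := by
  rw [MulAction.Quotient.smul_mk, eq_comm, QuotientGroup.eq, Subgroup.mem_map]
  constructor
  · intro h
    refine ⟨g⁻¹ * t * g, by simpa [mul_assoc] using h, ?_⟩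
    simp [mul_assoc]
  · rintro ⟨h, hh, rfl⟩
    simpa [mul_assoc] using hh


/-- Let H be a proper subgroup of even order of the finite group G. Then H is strongly embedded if and only if each involution of H fixes exactly one point (namely the coset H) in the action of G on the cosets of H. -/
theorem result {G : Type*} [Group G] [Finite G] (H : Subgroup G) (hH : H ≠ ⊤) (heven : Even (Nat.card H)) : Cfsg.IsStronglyEmbedded H ↔ ∀ t ∈ H, orderOf t = 2 → Nat.card {c : G ⧸ H // t • c = c} = 1 := by
  classical
  have hcard : ∀ t ∈ H, orderOf t = 2 → (Nat.card {c : G ⧸ H // t • c = c} = 1 ↔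
      ∀ g : G, t ∈ H.map (MulAut.conj g).toMonoidHom → g ∈ H) := by
    intro t ht ht2
    have h1 : t • (QuotientGroup.mk 1 : G ⧸ H) = QuotientGroup.mk 1 := by
      rw [smul_mk_eq_iff]
      exact ⟨t, ht, by simp⟩
    rw [Nat.card_eq_one_iff_unique]
    constructor
    · rintro ⟨hs, -⟩ g hg
      rw [← smul_mk_eq_iff] at hg
      have := congrArg Subtype.val (hs.elim ⟨_, h1⟩ ⟨_, hg⟩)
      simp only at this
      rw [QuotientGroup.eq] at this
      simpa using this
    · intro h
      refine ⟨⟨?_⟩, ⟨⟨_, h1⟩⟩⟩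
      have key : ∀ c : G ⧸ H, t • c = c → c = QuotientGroup.mk 1 := by
        intro c
        induction c using QuotientGroup.induction_on with
        | H g =>
          intro hc
          rw [smul_mk_eq_iff] at hc
          have := h g hc
          rw [eq_comm, QuotientGroup.eq]
          simpa using this
      rintro ⟨a, ha⟩ ⟨b, hb⟩
      apply Subtype.ext
      simp only
      rw [key a ha, key b hb]
  constructor
  · rintro ⟨-, -, h3⟩ t ht ht2
    rw [hcard t ht ht2]
    intro g hg
    by_contra hgH
    have h4 := h3 g hgH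
    exact CfsgLib.Invol.not_odd_card_of_mem (Subgroup.mem_inf.2 ⟨ht, hg⟩) ht2 h4
  · intro h
    refine ⟨hH, heven, ?_⟩
    intro g hg
    apply CfsgLib.Invol.odd_card_of_forall
    intro t htt ht2
    obtain ⟨ht, htg⟩ := Subgroup.mem_inf.1 htt
    exact hg ((hcard t ht ht2).1 (h t ht ht2) g htg)
end Cfsg.Agent.S0224
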