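import Cfsg.Statements.S0344
import Mathlib
import Cfsg.Agent.LibZas11e

set_option autoImplicit false
set_option linter.all false
open Cfsg

namespace Cfsg.Agent.S0344

/-- A finite simple Zassenhaus group with a two-point stabiliser of even order is isomorphic to `PSL₂(F)` for a finite
field `F` with more than three elements. -/
theorem result {G Ω : Type*} [Group G] [Finite G] [MulAction G Ω] [Finite Ω]
    (hZ : Cfsg.IsZassenhausGroup G Ω) [IsSimpleGroup G]
    {a b : Ω} (hab : a ≠ b) (heven : Even (Nat.card ↥(MulAction.stabilizer G a ⊓ MulAction.stabilizer G b))) :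
    ∃ (F : Type) (_ : Field F) (_ : Fintype F), 3 < Fintype.card F ∧ Nonempty (G ≃* Matrix.ProjectiveSpecialLinearGroup (Fin 2) F) := by
  classical
  haveI := Fintype.ofFinite Ω
  haveI := Fintype.ofFinite G
  obtain ⟨H, h1, h2, h3⟩ := CfsgLib.Zas.exists_H hZ (a := a)
  have D : CfsgLib.Zas.Dat G Ω a b H := ⟨hZ, hab, h1, h2, h3⟩
  have h4 := Cfsg.Agent.S0741.result hZ hab heven
  have h5 : Nat.card (CfsgLib.Zas.EE G a b) = Nat.card ↥(MulAction.stabilizer G a ⊓ MulAction.stabilizer G b) := rfl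
  have h6 := D.two_le_EE
  have h8 := D.two_le_H
  have h9 := D.EE_lt
  have h7 : 2 * Nat.card (CfsgLib.Zas.EE G a b) + 1 = Nat.card H := by
    obtain ⟨k, hk⟩ := D.card_EE_dvd
    have hk0 : k ≠ 0 := by rintro rfl; omega
    have hk1 : k ≠ 1 := by
      rintro rfl
      exact D.not_simple_of_sharp (by omega) heven inferInstance
    have h10 : Nat.card (CfsgLib.Zas.EE G a b) * 2 ≤ Nat.card (CfsgLib.Zas.EE G a b) * k := Nat.mul_le_mul_left _ (by omega)
    rw [← h5] at h4
    omega
  obtain ⟨F, i1, i2, hF, e⟩ := CfsgLib.Zas11.psl_half D h7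
  exact ⟨F, i1, i2, by omega, e⟩

end Cfsg.Agent.S0344
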