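import Cfsg.Statements.S0346
import Cfsg.Agent.LibZas11

set_option autoImplicit false
set_option linter.all false
open Cfsg

namespace Cfsg.Agent.S0346

/-- The number of points of a finite simple Zassenhaus group is `p^k + 1` for some prime power `p^k` (the regular normal
subgroup of a point stabiliser is a `p`-group). -/
theorem result {G Ω : Type*} [Group G] [Finite G] [MulAction G Ω] [Fintype Ω]
    (hZ : Cfsg.IsZassenhausGroup G Ω) [IsSimpleGroup G] :
    IsPrimePow (Fintype.card Ω - 1) := by
  obtain ⟨g, hg, a, b, hab, -⟩ := hZ.2.2.2.1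
  obtain ⟨H, h1, h2, h3⟩ := CfsgLib.Zas.exists_H hZ (a := a)
  have D : CfsgLib.Zas.Dat G Ω a b H := ⟨hZ, hab, h1, h2, h3⟩
  have h4 := D.isPrimePow
  rw [← h2, Nat.add_sub_cancel]
  exact h4

end Cfsg.Agent.S0346
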