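import Cfsg.Statements.S0518
import Cfsg.Agent.LibH2JE4

set_option autoImplicit false
open Cfsg

namespace Cfsg.Agent.S0518

open Subgroup Cfsg CfsgLib.H2JC CfsgLib.H2Thomp CfsgLib.Coprime
open scoped Pointwise commutatorElement


/-- Let G be a finite group of characteristic 2 type with trivial 2-core in which every 2-local subgroup is solvable
and, for every Sylow 2-subgroup S, the centralizer of the set of central involutions of S lies in the normalizer of S.
Then either G has a strongly embedded subgroup, or the subgroup generated by the elements of odd order has two distinct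
maximal 2-local subgroups, each isomorphic to the symmetric group of degree 4, whose intersection has order 8. -/
theorem result {G : Type*} [Group G] [Finite G]
    (hL : Cfsg.IsCharacteristicTwoType G) (hO : Cfsg.pCore 2 G = ⊥)
    (hN : ∀ N : Subgroup G, Cfsg.IsTwoLocal N → Group.IsSolvable N)
    (hZ : ∀ S : Sylow 2 G,
      Subgroup.centralizer {z : G | z ∈ (S : Subgroup G) ∧ z ^ 2 = 1 ∧ ∀ s ∈ (S : Subgroup G), s * z = z * s} ≤
        Subgroup.normalizer ((S : Subgroup G) : Set G))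
    (H : Subgroup G) (hH : H = Subgroup.closure {g : G | Odd (orderOf g)}) :
    (∃ K : Subgroup G, Cfsg.IsStronglyEmbedded K) ∨
      ∃ M₁ M₂ : Subgroup H, M₁ ≠ M₂ ∧ Cfsg.IsMaximalTwoLocal M₁ ∧ Cfsg.IsMaximalTwoLocal M₂ ∧
        Nonempty (M₁ ≃* Equiv.Perm (Fin 4)) ∧ Nonempty (M₂ ≃* Equiv.Perm (Fin 4)) ∧ Nat.card ↥(M₁ ⊓ M₂) = 8 := by
  haveI : Fact (Nat.Prime 2) := ⟨Nat.prime_two⟩
  have hyp : Hyp G := by
    refine ⟨hL, hN, fun S => ?_⟩
    have e : ((omegaCenterOf (S : Subgroup G) : Subgroup G) : Set G) =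
        {z : G | z ∈ (S : Subgroup G) ∧ z ^ 2 = 1 ∧ ∀ s ∈ (S : Subgroup G), s * z = z * s} := by
      ext z
      rw [SetLike.mem_coe, mem_omegaCenterOf, mem_centralizer_iff]
      exact ⟨fun h => ⟨h.1, h.2.2, h.2.1⟩, fun h => ⟨h.1, h.2.2, h.2.1⟩⟩
    rw [e]
    exact hZ S
  obtain ⟨S⟩ : Nonempty (Sylow 2 G) := inferInstance
  have hS1 : (S : Subgroup G) ≠ ⊥ := by
    intro h
    have h1 : 2 ∣ Nat.card G := even_iff_two_dvd.mp hL.1
    have h2 := S.dvd_card_of_dvd_card h1
    rw [h, card_bot] at h2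
    omega
  have hJ1 : Je 2 (S : Subgroup G) ≠ ⊥ := J_ne_bot S.isPGroup' hS1
  have hM : IsTwoLocal (normalizer (Je 2 (S : Subgroup G) : Set G)) :=
    ⟨Je 2 (S : Subgroup G), S.isPGroup'.to_le (JQ_le _ _), hJ1, rfl⟩
  by_cases hst : straddlingTwoSubgroups (normalizer (Je 2 (S : Subgroup G) : Set G)) = ∅
  · left
    exact ⟨_, (strong_iff hO S _ hM (by rw [thompsonSubgroupOf_eq])).mpr hst⟩
  · right
    obtain ⟨T, hT⟩ := exists_maxStr hst
    have g : Gl (S : Subgroup G) (normalizer (Je 2 (S : Subgroup G) : Set G)) := ⟨hyp, hO, ⟨S, rfl⟩, hM, le_rfl⟩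
    obtain ⟨S', K1, K2, w, f⟩ := fd_of g hT
    have hH' : H = Od G := hH
    subst hH'
    exact main_518 f

end Cfsg.Agent.S0518
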