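import Cfsg.Statements.S1480
import Mathlib
import Cfsg.Agent.LibH7Tr3
open scoped commutatorElement
set_option autoImplicit false
open Cfsg

namespace Cfsg.Agent.S1480


/-- Let G be a finite group and p a prime such that the normalizer of every nontrivial p-subgroup of G is p-constrained; if p = 2 assume also that the Sylow 2-subgroups of G have nilpotency class at most 2. Let E be an abelian p-subgroup containing an elementary abelian subgroup of order p ^ 3 and containing every element of p-power order of C_G(E). Then for every prime q ≠ p, any two maximal E-invariant q-subgroups of G are conjugate by an element of O_{p'}(C_G(E)). -/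
theorem result {G : Type*} [Group G] [Finite G] (p : ℕ) [Fact p.Prime]
    (hloc : ∀ T : Subgroup G, IsPGroup p T → T ≠ ⊥ → Cfsg.IsPConstrained p ↥(Subgroup.normalizer (T : Set G)))
    (h2 : p = 2 → ∀ S : Sylow p G, Group.IsNilpotent (S : Subgroup G) ∧ Group.nilpotencyClass (S : Subgroup G) ≤ 2)
    (E : Subgroup G) (hEp : IsPGroup p E) (hEc : IsMulCommutative E) (hE3 : ¬ Cfsg.PRankLE p 2 E)
    (hEfull : ∀ x ∈ Subgroup.centralizer (E : Set G), IsPGroup p (Subgroup.zpowers x) → x ∈ E)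
    (q : ℕ) [Fact q.Prime] (hqp : q ≠ p) :
    ∀ Q₁ ∈ Cfsg.maxInvSubgroups ⊤ E {q}, ∀ Q₂ ∈ Cfsg.maxInvSubgroups ⊤ E {q},
        ∃ k ∈ Cfsg.piCoreOf (Cfsg.primesNotDvd p) (Subgroup.centralizer (E : Set G)), Q₂ = Q₁.map (MulAut.conj k).toMonoidHom := by
  have hcl : p = 2 → ∀ S : Subgroup G, IsPGroup p S → ⁅⁅S, S⁆, S⁆ = ⊥ := by
    intro hp2 S hS
    obtain ⟨T, hT⟩ := hS.exists_le_sylow
    obtain ⟨hn, hc⟩ := h2 hp2 T
    haveI := hn
    have h1 : Subgroup.lowerCentralSeries (⊤ : Subgroup (T : Subgroup G)) 2 = ⊥ :=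
      Subgroup.lowerCentralSeries_eq_bot_iff_nilpotencyClass_le.mpr hc
    have h3 : ⁅⁅(⊤ : Subgroup (T : Subgroup G)), ⊤⁆, ⊤⁆ = ⊥ := h1
    have h4 : ⁅⁅(T : Subgroup G), (T : Subgroup G)⁆, (T : Subgroup G)⁆ = ⊥ := by
      have h5 := congrArg (Subgroup.map (T : Subgroup G).subtype) h3
      rw [Subgroup.map_commutator, Subgroup.map_commutator, ← MonoidHom.range_eq_map, Subgroup.range_subtype,
        Subgroup.map_bot] at h5
      exact h5
    rw [eq_bot_iff, ← h4]
    exact Subgroup.commutator_mono (Subgroup.commutator_mono hT hT) hT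
  obtain ⟨B, hB1, hB2, hB3⟩ := (CfsgLib.BGPi.not_rank_iff (Fact.out : p.Prime)).1 hE3
  intro Q₁ h₁ Q₂ h₂
  exact CfsgLib.H7Tr.main_step p hloc hcl E hEp hEc B hB1 hB2 hB3 hEfull q hqp _ Q₁ h₁ Q₂ h₂ rfl

end Cfsg.Agent.S1480
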