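import Cfsg.Statements.S0522
import Cfsg.Agent.S1480
import Cfsg.Agent.S0629
import Cfsg.Agent.LibPSolv19
import Cfsg.Agent.LibFusionH12

set_option autoImplicit false
open Cfsg

namespace Cfsg.Agent.S0522

/-- Transitivity Theorem (odd-order setting). Let X be a finite group of odd order in which the normalizer of every
nontrivial p-subgroup is solvable, P a Sylow p-subgroup, and B an abelian subgroup of P, normalized by P, with
C_P(B) = B and containing an elementary abelian subgroup of order p^3. Then for every prime q ≠ p, any two q-subgroups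
that are maximal among the q-subgroups normalized by B are conjugate by an element of the centralizer of B. -/
theorem result {X : Type*} [Group X] [Finite X] (hX : Odd (Nat.card X)) (p : ℕ)
    [Fact p.Prime] (hloc : ∀ T : Subgroup X, IsPGroup p T → T ≠ ⊥ → Group.IsSolvable (Subgroup.normalizer (T : Set X)))
    (P : Sylow p X) (B : Subgroup X) (hBP : B ≤ (P : Subgroup X))
    (hBn : ∀ x ∈ (P : Subgroup X), ∀ b ∈ B, x * b * x⁻¹ ∈ B) (hBa : IsMulCommutative B)
    (hBc : (P : Subgroup X) ⊓ Subgroup.centralizer (B : Set X) = B)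
    (hB3 : ∃ E : Subgroup X, E ≤ B ∧ (∀ e ∈ E, e ^ p = 1) ∧ p ^ 3 ≤ Nat.card E)
    (q : ℕ) [Fact q.Prime] (hqp : q ≠ p) (Q₁ Q₂ : Subgroup X)
    (h₁ : IsPGroup q Q₁ ∧ B ≤ Subgroup.normalizer (Q₁ : Set X) ∧
      ∀ R : Subgroup X, IsPGroup q R → B ≤ Subgroup.normalizer (R : Set X) → Q₁ ≤ R → R = Q₁)
    (h₂ : IsPGroup q Q₂ ∧ B ≤ Subgroup.normalizer (Q₂ : Set X) ∧
      ∀ R : Subgroup X, IsPGroup q R → B ≤ Subgroup.normalizer (R : Set X) → Q₂ ≤ R → R = Q₂) :
    ∃ c ∈ Subgroup.centralizer (B : Set X), Q₂ = Q₁.map (MulAut.conj c).toMonoidHom := by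
  classical
  have hpp : p.Prime := Fact.out
  have hqq : q.Prime := Fact.out
  have hsub : ∀ C : Subgroup X, Odd (Nat.card C) := fun C =>
    Odd.of_dvd_nat hX (Subgroup.card_subgroup_dvd_card C)
  have hBp : IsPGroup p B := P.2.to_le hBP
  have hBN : (P : Subgroup X) ≤ Subgroup.normalizer (B : Set X) := by
    intro x hx
    rw [Subgroup.mem_normalizer_iff]
    intro b
    constructor
    · exact hBn x hx b
    · intro h
      have := hBn x⁻¹ (inv_mem hx) _ h
      have e : x⁻¹ * (x * b * x⁻¹) * x⁻¹⁻¹ = b := by group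
      rwa [e] at this
  -- p-elements of the centralizer
  have hfull : ∀ x ∈ Subgroup.centralizer (B : Set X), IsPGroup p (Subgroup.zpowers x) → x ∈ B := by
    have hS := CfsgLib.FusionH12.SylIn.ofSylow P
    have h1 : CfsgLib.FusionH12.SylIn p ((P : Subgroup X) ⊓ Subgroup.centralizer (B : Set X)) (Subgroup.centralizer (B : Set X)) :=
      (hS.mono hBN le_top).inf_normal (Subgroup.centralizer_le_normalizer _)
        (by
          intro n hn
          rw [CfsgLib.FusionH12.mem_nrm, CfsgLib.FusionH12.cj_centralizer, CfsgLib.FusionH12.cj_of_mem_nrm hn])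
    rw [hBc] at h1
    intro x hx hxp
    obtain ⟨a, ha, hle⟩ := h1.exists_conj_le hxp (by rwa [Subgroup.zpowers_le])
    have h2 : a * x * a⁻¹ ∈ B := hle (CfsgLib.FusionH12.conj_mem_cj (Subgroup.mem_zpowers x))
    have h3 : a⁻¹ * (a * x * a⁻¹) * a = a * x * a⁻¹ := by
      have := Subgroup.mem_centralizer_iff.1 ha _ h2
      calc a⁻¹ * (a * x * a⁻¹) * a = a⁻¹ * ((a * x * a⁻¹) * a) := by group
        _ = a⁻¹ * (a * (a * x * a⁻¹)) := by rw [this]
        _ = a * x * a⁻¹ := by group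
    have h4 : x = a * x * a⁻¹ := by
      rw [← h3]; group
    rw [h4]; exact h2
  have hloc' : ∀ T : Subgroup X, IsPGroup p T → T ≠ ⊥ → Cfsg.IsPConstrained p ↥(Subgroup.normalizer (T : Set X)) := by
    intro T hT hT1
    haveI := hloc T hT hT1
    intro R
    refine Cfsg.Agent.S0629.result R ?_ R
    exact CfsgLib.PSolv19.psolv_of_solvable _ rfl inferInstance
  have hE3 : ¬ Cfsg.PRankLE p 2 B := by
    intro h
    obtain ⟨E, hEB, hE, hc⟩ := hB3
    have h1 := h (E.subgroupOf B) (by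
      refine ⟨⟨?_⟩⟩
      rintro ⟨x, hx⟩ ⟨y, hy⟩
      have := hBa.is_comm.comm x y
      exact Subtype.ext this) (by
      rintro ⟨a, haB⟩ ha
      exact Subtype.ext (hE a (Subgroup.mem_subgroupOf.1 ha)))
    rw [Nat.card_congr (Subgroup.subgroupOfEquivOfLe hEB).toEquiv] at h1
    have h2 : p ^ 2 < p ^ 3 := Nat.pow_lt_pow_right hpp.one_lt (by norm_num)
    omega
  have h2 : p = 2 → ∀ S : Sylow p X, Group.IsNilpotent (S : Subgroup X) ∧ Group.nilpotencyClass (S : Subgroup X) ≤ 2 := by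
    rintro rfl
    exfalso
    obtain ⟨E, hEB, hE, hc⟩ := hB3
    obtain ⟨n, hn⟩ := IsPGroup.iff_card.1 (hBp.to_le hEB)
    have h3 := hsub E
    rw [hn] at h3
    rcases Nat.eq_zero_or_pos n with h0 | h0
    · rw [hn, h0] at hc; norm_num at hc
    · have : Even (2 ^ n) := (even_iff_two_dvd.2 (dvd_pow_self 2 h0.ne'))
      exact (Nat.not_odd_iff_even.2 this) h3
  have hmax : ∀ Q : Subgroup X, (IsPGroup q Q ∧ B ≤ Subgroup.normalizer (Q : Set X) ∧
      ∀ R : Subgroup X, IsPGroup q R → B ≤ Subgroup.normalizer (R : Set X) → Q ≤ R → R = Q) →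
      Q ∈ Cfsg.maxInvSubgroups ⊤ B {q} := by
    rintro Q ⟨h1, h2, h3⟩
    have key : ∀ R : Subgroup X, IsPGroup q R → ∀ r : ℕ, r.Prime → r ∣ Nat.card R → r ∈ ({q} : Set ℕ) := by
      intro R hR r hr hd
      obtain ⟨n, hn⟩ := IsPGroup.iff_card.1 hR
      rw [hn] at hd
      exact (Nat.prime_dvd_prime_iff_eq hr hqq).1 (hr.dvd_of_dvd_pow hd)
    refine ⟨⟨le_top, key Q h1, h2⟩, ?_⟩
    rintro R ⟨_, hR1, hR2⟩ hQR
    refine h3 R ?_ hR2 hQR
    exact IsPGroup.of_card (Nat.eq_prime_pow_of_unique_prime_dvd (Nat.card_pos.ne') (fun {d} hd hdd => hR1 d hd hdd))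
  obtain ⟨k, hk, hkQ⟩ := Cfsg.Agent.S1480.result p hloc' h2 B hBp hBa hE3 hfull q hqp Q₁ (hmax Q₁ h₁) Q₂ (hmax Q₂ h₂)
  refine ⟨k, ?_, hkQ⟩
  obtain ⟨k', _, rfl⟩ := hk
  exact k'.2

end Cfsg.Agent.S0522
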