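import Cfsg.Statements.S0537
import Cfsg.Agent.LibH2Schm
import Cfsg.Agent.LibH2Wst
import Cfsg.Agent.LibSolvCoprime3

set_option autoImplicit false
open Cfsg

namespace Cfsg.Agent.S0537

open Subgroup Cfsg CfsgLib.Cores CfsgLib.Coprime CfsgLib.H2Schm CfsgLib.H2Thomp CfsgLib.H2Quad CfsgLib.H2Wst CfsgLib.H2PSt CfsgLib.H2Misc
open scoped Pointwise commutatorElement
universe uu



/-- A finite non-abelian group in which every proper subgroup is abelian is either of prime-power order, or is generated by a cyclic Sylow p-subgroup and a normal Sylow q-subgroup that is elementary abelian, for distinct primes p and q. -/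
theorem result {G : Type*} [Group G] [Finite G] (hna : ¬ IsMulCommutative G) (h : ∀ H : Subgroup G, H ≠ ⊤ → IsMulCommutative H) : (∃ p : ℕ, p.Prime ∧ IsPGroup p G) ∨ ∃ p q : ℕ, p.Prime ∧ q.Prime ∧ p ≠ q ∧ ∃ (P : Sylow p G) (Q : Sylow q G), IsCyclic P ∧ (Q : Subgroup G).Normal ∧ Cfsg.IsElementaryAbelian q (Q : Subgroup G) ∧ (P : Subgroup G) ⊔ Q = ⊤ := by
  by_cases hnil : Group.IsNilpotent G
  · left
    by_contra hcon
    push Not at hcon
    apply hna
    have hfin := comm_of_sylow_comm hnil (by
      intro p hp P
      apply h
      intro hP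
      apply hcon p Fact.out
      intro x
      obtain ⟨k, hk⟩ := P.isPGroup' ⟨x, by rw [hP]; trivial⟩
      exact ⟨k, congrArg Subtype.val hk⟩)
    exact ⟨⟨hfin⟩⟩
  · right
    have hG : IsMinimalNonNilpotent G := by
      refine ⟨hnil, fun H hH => ?_⟩
      have := h H hH
      letI : CommGroup H := { (inferInstance : Group H) with mul_comm := this.is_comm.comm }
      infer_instance
    obtain ⟨p, q, hp, hq, hpq, Q, g, hQ, hQn, hg, hgc, htop⟩ := schmidt_struct hG
    haveI : Fact p.Prime := ⟨hp⟩
    haveI : Fact q.Prime := ⟨hq⟩
    haveI := hQn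
    have hP : IsPGroup p (zpowers g) := by
      obtain ⟨k, hk⟩ := hg
      exact IsPGroup.of_card (n := k) (by rw [Nat.card_zpowers, hk])
    have hQne : Q ≠ ⊤ := by
      intro h1
      apply hnil
      have h2 : IsPGroup q G := by
        intro x
        obtain ⟨k, hk⟩ := hQ ⟨x, by rw [h1]; trivial⟩
        exact ⟨k, congrArg Subtype.val hk⟩
      exact h2.isNilpotent
    haveI hQab : IsMulCommutative Q := h Q hQne
    have hQc : ∀ x ∈ Q, ∀ y ∈ Q, x * y = y * x := comm_of_mulComm hQab
    have hcard := card_eq hp hq hpq hQ hQn hg htop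
    have hcop : (Nat.card (zpowers g)).Coprime (Nat.card Q) := by
      obtain ⟨k, hk⟩ := hg
      obtain ⟨l, hl⟩ := IsPGroup.iff_card.mp hQ
      rw [Nat.card_zpowers, hk, hl]
      exact Nat.Coprime.pow _ _ ((Nat.coprime_primes hp hq).mpr hpq)
    have hnorm : zpowers g ≤ normalizer (Q : Set G) := by rw [normalizer_eq_top]; exact le_top
    have hsolv : Group.IsSolvable (zpowers g) ∨ Group.IsSolvable Q := Or.inl inferInstance
    have full : ∀ X : Subgroup G, X ≤ Q → X.Normal → (∀ x ∈ X, x * g = g * x) ∨ X = Q := by
      intro X hXQ hXn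
      by_cases h1 : X ⊔ zpowers g = ⊤
      · right
        have h2 := card_eq hp hq hpq (hQ.to_le hXQ) hXn hg h1
        have h3 : Nat.card X = Nat.card Q := by
          rw [hcard] at h2
          exact (Nat.eq_of_mul_eq_mul_left (orderOf_pos g) h2).symm
        exact eq_of_le_of_card_ge hXQ h3.ge
      · left
        intro x hx
        have h2 := h _ h1
        have h3 := comm_of_mulComm h2 x ((le_sup_left : X ≤ _) hx) g ((le_sup_right : zpowers g ≤ _) (mem_zpowers g))
        exact h3
    have hQ1 : ⁅Q, zpowers g⁆ = Q := by
      have hXQ : ⁅Q, zpowers g⁆ ≤ Q := commutator_le_of_le_normalizer hnorm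
      have hXn : (⁅Q, zpowers g⁆ : Subgroup G).Normal := by
        rw [← normalizer_eq_top_iff, eq_top_iff, ← htop]
        apply sup_le
        · intro x hx
          rw [mem_normalizer_iff]
          intro y
          constructor
          · intro hy
            have : x * y * x⁻¹ = y := by rw [hQc x hx y (hXQ hy), mul_inv_cancel_right]
            rw [this]; exact hy
          · intro hy
            have h2 : x⁻¹ * (x * y * x⁻¹) * x = x * y * x⁻¹ := by
              have h3 := hQc x⁻¹ (inv_mem hx) (x * y * x⁻¹) (hXQ hy)
              rw [h3, inv_mul_cancel_right]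
            have h3 : y = x⁻¹ * (x * y * x⁻¹) * x := by group
            rw [h3, h2]; exact hy
        · apply zpowers_le.mpr
          apply mem_normalizer_of_conj_smul_eq
          have e1 : Q.map (MulAut.conj g).toMonoidHom = Q :=
            conj_smul_eq_of_mem_normalizer (hnorm (mem_zpowers g))
          have e2 : (zpowers g).map (MulAut.conj g).toMonoidHom = zpowers g :=
            conj_smul_eq_of_mem_normalizer (le_normalizer (mem_zpowers g))
          change (⁅Q, zpowers g⁆).map (MulAut.conj g).toMonoidHom = _
          rw [map_commutator, e1, e2]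
      rcases full _ hXQ hXn with h1 | h1
      · exfalso
        apply hgc
        have h2 : ⁅⁅Q, zpowers g⁆, zpowers g⁆ = ⊥ := by
          rw [commutator_eq_bot_iff_le_centralizer]
          intro x hx
          rw [mem_centralizer_iff]
          intro y hy
          obtain ⟨k, rfl⟩ := mem_zpowers_iff.mp hy
          exact ((show Commute x g from h1 x hx).zpow_right k).eq.symm
        have h3 := commutator_eq_bot_of_commutator_commutator hnorm hcop hsolv h2
        rw [commutator_comm, commutator_eq_bot_iff_le_centralizer] at h3
        exact h3 (mem_zpowers g)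
      · exact h1
    have hC : Q ⊓ centralizer (zpowers g : Set G) = ⊥ := by
      have h1 := CfsgLib.SolvCoprime.centralizer_inf_commutator (zpowers g) Q hnorm hcop
      rw [hQ1] at h1
      rw [← h1]
      apply le_antisymm
      · exact le_inf le_rfl inf_le_left
      · exact inf_le_left
    have hQbot : Q ≠ ⊥ := by
      intro h1
      apply hgc
      rw [h1, mem_centralizer_iff]
      intro y hy
      rw [SetLike.mem_coe, mem_bot] at hy
      rw [hy, one_mul, mul_one]
    have hΩ : omegaOne q Q = Q := by
      haveI : (omegaOne q Q).Normal := omegaOne_normal q Q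
      rcases full _ (omegaOne_le q Q) inferInstance with h1 | h1
      · exfalso
        have h2 : omegaOne q Q ≤ Q ⊓ centralizer (zpowers g : Set G) := by
          refine le_inf (omegaOne_le q Q) ?_
          intro x hx
          rw [mem_centralizer_iff]
          intro y hy
          obtain ⟨k, rfl⟩ := mem_zpowers_iff.mp hy
          exact ((show Commute x g from h1 x hx).zpow_right k).eq.symm
        rw [hC] at h2
        haveI : Nontrivial Q := (nontrivial_iff_ne_bot Q).mpr hQbot
        obtain ⟨x, hx⟩ := exists_prime_orderOf_dvd_card' (G := Q) q (by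
          obtain ⟨n, hn⟩ := IsPGroup.iff_card.mp hQ
          rw [hn]
          apply dvd_pow_self
          rintro rfl
          rw [pow_zero] at hn
          exact hQbot (card_eq_one.mp hn))
        have h3 : (x : G) ∈ omegaOne q Q := by
          apply Subgroup.subset_closure
          refine ⟨x.2, ?_⟩
          have : x ^ q = 1 := by rw [← hx]; exact pow_orderOf_eq_one x
          exact congrArg Subtype.val this
        have h4 := h2 h3
        rw [mem_bot] at h4
        have h5 : x = 1 := Subtype.ext h4
        rw [h5, orderOf_one] at hx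
        exact hq.one_lt.ne hx
      · exact h1
    have hel : IsElementaryAbelian q Q := by
      rw [← hΩ]; exact omegaOne_elab hQc
    refine ⟨p, q, hp, hq, hpq, hP.toSylow (index_P hp hq hpq hQ hQn hg htop),
      hQ.toSylow (index_Q hp hq hpq hQ hQn hg htop), ?_, hQn, hel, ?_⟩
    · change IsCyclic (zpowers g)
      infer_instance
    · change zpowers g ⊔ Q = ⊤
      rw [sup_comm]; exact htop

end Cfsg.Agent.S0537
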