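import Cfsg.Statements.S0577
import Cfsg.Agent.LibH2Schm
import Cfsg.Agent.LibH2Wst

set_option autoImplicit false
open Cfsg

namespace Cfsg.Agent.S0577

open Subgroup Cfsg CfsgLib.Cores CfsgLib.Coprime CfsgLib.H2Schm CfsgLib.H2Thomp CfsgLib.H2Quad CfsgLib.H2Wst CfsgLib.H2PSt CfsgLib.H2Misc
open scoped Pointwise commutatorElement
universe uu



/-- Let G be a finite minimal non-nilpotent group and Q a normal Sylow q-subgroup of G, and let D be the commutator subgroup of Q regarded in G (a normal subgroup). Then G modulo D is non-abelian and all its proper subgroups are abelian. -/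
theorem result {G : Type*} [Group G] [Finite G] (hG : Cfsg.IsMinimalNonNilpotent G) (q : ℕ) [Fact q.Prime] (hq : q ∣ Nat.card G) (Q : Sylow q G) (hQ : (Q : Subgroup G).Normal) (D : Subgroup G) [D.Normal] (hD : D = (commutator ↥(Q : Subgroup G)).map (Q : Subgroup G).subtype) : ¬ IsMulCommutative (G ⧸ D) ∧ ∀ K : Subgroup (G ⧸ D), K ≠ ⊤ → IsMulCommutative K := by
  obtain ⟨p, g, hp, hpq, hg, hgc, htop⟩ := not_mem_normal hG q hq Q hQ
  haveI := hQ
  have hqp : q.Prime := Fact.out
  have hgcop : (Nat.card (zpowers g)).Coprime q := by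
    obtain ⟨k, hk⟩ := hg
    rw [Nat.card_zpowers, hk]
    exact Nat.Coprime.pow_left k ((Nat.coprime_primes hp hqp).mpr hpq)
  have hDQ : D ≤ Q := by rw [hD]; exact map_subtype_le _
  have hcomm : ∀ x y : G, ⁅x, y⁆ ∈ (Q : Subgroup G) := by
    intro x y
    have key : ∀ z : G, ∃ i : ℤ, QuotientGroup.mk' (Q : Subgroup G) z = QuotientGroup.mk' (Q : Subgroup G) g ^ i := by
      intro z
      have hz : z ∈ (Q : Subgroup G) ⊔ zpowers g := by rw [htop]; trivial
      rw [mem_sup_of_normal_left] at hz
      obtain ⟨a, ha, b, hb, rfl⟩ := hz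
      obtain ⟨i, rfl⟩ := mem_zpowers_iff.mp hb
      refine ⟨i, ?_⟩
      have ha' : QuotientGroup.mk' (Q : Subgroup G) a = 1 := (QuotientGroup.eq_one_iff a).mpr ha
      rw [map_mul, ha', one_mul, map_zpow]
    obtain ⟨i, hi⟩ := key x
    obtain ⟨j, hj⟩ := key y
    have h1 : QuotientGroup.mk' (Q : Subgroup G) ⁅x, y⁆ = 1 := by
      rw [map_commutatorElement, hi, hj, commutatorElement_eq_one_iff_mul_comm, ← zpow_add, ← zpow_add, add_comm]
    exact (QuotientGroup.eq_one_iff _).mp h1
  constructor
  · intro hab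
    apply hgc
    have h1 : zpowers g ≤ centralizer ((Q : Subgroup G) : Set G) := by
      apply le_centralizer_of_frattini Q.isPGroup' hgcop (by rw [normalizer_eq_top]; exact le_top)
      have h2 : ⁅(Q : Subgroup G), zpowers g⁆ ≤ D := by
        rw [commutator_le]
        intro x _ y _
        have h3 : QuotientGroup.mk' D ⁅x, y⁆ = 1 := by
          rw [map_commutatorElement, commutatorElement_eq_one_iff_mul_comm]
          exact hab.is_comm.comm _ _
        exact (QuotientGroup.eq_one_iff _).mp h3
      refine h2.trans ?_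
      rw [hD]
      exact Subgroup.map_mono (CfsgLib.SolvFrat.commutator_le_frattini hqp Q.isPGroup')
    exact h1 (mem_zpowers g)
  · intro K hK
    set π := QuotientGroup.mk' D with hπ
    have hπs : Function.Surjective π := QuotientGroup.mk'_surjective D
    have hK₁ : K.comap π ≠ ⊤ := by
      intro h
      apply hK
      rw [← map_comap_eq_self_of_surjective hπs K, h, map_top_of_surjective _ hπs]
    haveI hKn : Group.IsNilpotent (K.comap π) := hG.2 _ hK₁
    haveI : Group.IsNilpotent K := by
      have hs : Function.Surjective (π.subgroupComap K) := by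
        rintro ⟨y, hy⟩
        obtain ⟨x, rfl⟩ := hπs y
        exact ⟨⟨x, hy⟩, rfl⟩
      exact Group.nilpotent_of_surjective (π.subgroupComap K) hs
    set Q' := (Q : Subgroup G).map π with hQ'
    haveI hQ'n : Q'.Normal := hQ.map π hπs
    have hQ'p : IsPGroup q Q' := Q.isPGroup'.map _
    have hQ'c : ∀ x ∈ Q', ∀ y ∈ Q', x * y = y * x := by
      rintro _ ⟨x, hx, rfl⟩ _ ⟨y, hy, rfl⟩
      rw [← commutatorElement_eq_one_iff_mul_comm, ← map_commutatorElement]
      apply (QuotientGroup.eq_one_iff _).mpr
      rw [hD]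
      exact ⟨⁅(⟨x, hx⟩ : (Q : Subgroup G)), ⟨y, hy⟩⁆, commutator_mem_commutator (mem_top _) (mem_top _), rfl⟩
    have hQ'i : ¬ q ∣ Q'.index := by
      have h1 : Q'.index ∣ (Q : Subgroup G).index := index_map_dvd _ hπs
      intro h
      exact Q.not_dvd_index (h.trans h1)
    have hcomm' : ∀ x y : G ⧸ D, ⁅x, y⁆ ∈ Q' := by
      intro x y
      obtain ⟨x, rfl⟩ := hπs x
      obtain ⟨y, rfl⟩ := hπs y
      rw [← map_commutatorElement]
      exact mem_map_of_mem _ (hcomm x y)
    have hfin := comm_of_sylow_comm (G := K) inferInstance (by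
      intro r hr R
      have hRr : IsPGroup r ((R : Subgroup K).map K.subtype) := R.isPGroup'.map _
      have hRc : ∀ x ∈ (R : Subgroup K).map K.subtype, ∀ y ∈ (R : Subgroup K).map K.subtype, x * y = y * x := by
        by_cases hrq : r = q
        · subst hrq
          have h3 : IsPGroup r ↥((R : Subgroup K).map K.subtype ⊔ Q') := hRr.to_sup_of_normal_right hQ'p
          have h4 : (R : Subgroup K).map K.subtype ⊔ Q' = Q' :=
            (hQ'p.toSylow hQ'i).3 h3 (show Q' ≤ _ from le_sup_right)
          have h5 : (R : Subgroup K).map K.subtype ≤ Q' := by rw [← h4]; exact le_sup_left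
          intro x hx y hy
          exact hQ'c x (h5 hx) y (h5 hy)
        · intro x hx y hy
          have hdisj : (R : Subgroup K).map K.subtype ⊓ Q' = ⊥ := by
            rw [← disjoint_iff]
            exact IsPGroup.disjoint_of_ne r q hrq _ _ hRr hQ'p
          have h6 : ⁅x, y⁆ ∈ (R : Subgroup K).map K.subtype ⊓ Q' := by
            refine ⟨?_, hcomm' x y⟩
            rw [commutatorElement_def]
            exact ((R : Subgroup K).map K.subtype).mul_mem (((R : Subgroup K).map K.subtype).mul_mem
              (((R : Subgroup K).map K.subtype).mul_mem hx hy) (((R : Subgroup K).map K.subtype).inv_mem hx))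
              (((R : Subgroup K).map K.subtype).inv_mem hy)
          rw [hdisj, mem_bot, commutatorElement_eq_one_iff_mul_comm] at h6
          exact h6
      apply mulComm_of_comm
      intro x hx y hy
      exact Subtype.ext (hRc x ⟨x, hx, rfl⟩ y ⟨y, hy, rfl⟩))
    exact ⟨⟨hfin⟩⟩

end Cfsg.Agent.S0577
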