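import Cfsg.Statements.S0594
import Cfsg.Agent.LibQd9E

set_option autoImplicit false
open Cfsg

namespace Cfsg.Agent.S0594

open CfsgLib.Qd9 CfsgLib.SecH12

/-- For odd p, two quadratic generators of a faithful group that is not a p-group, one of which acts nontrivially on a normal subgroup of order prime to p, force p = 3 and a section isomorphic to SL(2,3). -/
theorem result {G : Type*} [Group G] [Finite G] {p : ℕ} [Fact p.Prime] (hp : p ≠ 2) (V H : Subgroup G) (hV : Cfsg.IsElementaryAbelian p V) (hHV : H ≤ Subgroup.normalizer (V : Set G)) (hf : H ⊓ Subgroup.centralizer (V : Set G) = ⊥) (a b : G) (hab : H = Subgroup.closure {a, b}) (ha : ⁅⁅V, Subgroup.zpowers a⁆, Subgroup.zpowers a⁆ = ⊥) (hb : ⁅⁅V, Subgroup.zpowers b⁆, Subgroup.zpowers b⁆ = ⊥) (hnp : ¬ IsPGroup p H) (Q : Subgroup G) (hQH : Q ≤ H) (hQn : H ≤ Subgroup.normalizer (Q : Set G)) (hQ : (Nat.card Q).Coprime p) (hQa : ⁅Q, Subgroup.zpowers a⁆ ≠ ⊥) : p = 3 ∧ ∃ (K L : Subgroup G) (hL : (L.subgroupOf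 K).Normal), K ≤ H ∧ Nonempty ((K ⧸ L.subgroupOf K) ≃* Matrix.SpecialLinearGroup (Fin 2) (ZMod 3)) := by
  classical
  have haH : a ∈ H := by rw [hab]; exact Subgroup.subset_closure (by simp)
  -- an element of `Q` not commuting with `a`
  obtain ⟨x, hx, hxa⟩ : ∃ x ∈ Q, x * a * x⁻¹ * a⁻¹ ≠ 1 := by
    by_contra hcon
    push Not at hcon
    apply hQa
    rw [Subgroup.commutator_eq_bot_iff_le_centralizer]
    intro x hx
    rw [Subgroup.mem_centralizer_iff]
    intro z hz
    have h1 : x * a = a * x := by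
      have := hcon x hx
      rwa [mul_inv_eq_one, mul_inv_eq_iff_eq_mul] at this
    obtain ⟨n, rfl⟩ := Subgroup.mem_zpowers_iff.1 hz
    exact ((show Commute x a from h1).zpow_right n).eq.symm
  have hxH : x ∈ H := hQH hx
  set b' := x * a * x⁻¹ with hb'
  have hb'H : b' ∈ H := H.mul_mem (H.mul_mem hxH haH) (H.inv_mem hxH)
  have hk := hHV hxH
  have hconj : ⁅⁅V, Subgroup.zpowers b'⁆, Subgroup.zpowers b'⁆ = ⊥ := by
    have h1 : Subgroup.zpowers b' = (Subgroup.zpowers a).map (MulAut.conj x).toMonoidHom := by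
      rw [MonoidHom.map_zpowers]; rfl
    have h2 : V.map (MulAut.conj x).toMonoidHom = V := by
      apply le_antisymm
      · rintro _ ⟨v, hv, rfl⟩
        exact (Subgroup.mem_normalizer_iff.1 hk v).1 hv
      · intro v hv
        refine ⟨x⁻¹ * v * x, ?_, ?_⟩
        · have := (Subgroup.mem_normalizer_iff.1 (inv_mem hk) v).1 hv
          rwa [inv_inv] at this
        · change x * (x⁻¹ * v * x) * x⁻¹ = v
          group
    rw [h1]
    nth_rewrite 1 [← h2]
    rw [← Subgroup.map_commutator, ← Subgroup.map_commutator, ha, Subgroup.map_bot]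
  have hyQ : b' * a⁻¹ ∈ Q := by
    have h1 : b' * a⁻¹ = x * (a * x⁻¹ * a⁻¹) := by rw [hb']; group
    rw [h1]
    exact Q.mul_mem hx ((Subgroup.mem_normalizer_iff.1 (hQn haH) x⁻¹).1 (Q.inv_mem hx))
  have hyc : (orderOf (b' * a⁻¹)).Coprime p :=
    Nat.Coprime.coprime_dvd_left (by
      have := orderOf_dvd_natCard (⟨_, hyQ⟩ : ↥Q)
      rwa [Subgroup.orderOf_mk] at this) hQ
  have hs := sec_pair hp hV (hHV haH) (hHV hb'H) ha hconj (y := b' * a⁻¹)
    (Subgroup.mul_mem _ (Subgroup.subset_closure (by simp)) (Subgroup.inv_mem _ (Subgroup.subset_closure (by simp))))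
    hyc (by
      intro hc
      apply hxa
      have h1 : b' * a⁻¹ ∈ H ⊓ Subgroup.centralizer (V : Set G) := ⟨H.mul_mem hb'H (H.inv_mem haH), hc⟩
      rwa [hf, Subgroup.mem_bot] at h1)
  -- the group `E = Q⟨a⟩`
  set E := Q ⊔ Subgroup.zpowers a with hE
  have hEH : E ≤ H := sup_le hQH (by rwa [Subgroup.zpowers_le])
  have haE : a ∈ E := Subgroup.mem_sup_right (Subgroup.mem_zpowers a)
  have hxE : x ∈ E := Subgroup.mem_sup_left hx
  have hclE : Subgroup.closure {a, b'} ≤ E := by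
    rw [Subgroup.closure_le]
    rintro z (rfl | hz)
    · exact haE
    · rw [Set.mem_singleton_iff] at hz
      rw [hz]
      exact E.mul_mem (E.mul_mem hxE haE) (E.inv_mem hxE)
  have hsE : IsSec (Matrix.SpecialLinearGroup (Fin 2) (ZMod p)) ↥E :=
    hs.trans (IsSec.of_inj_surj (Subgroup.inclusion hclE) (Subgroup.inclusion_injective hclE) (MonoidHom.id _) (fun x => ⟨x, rfl⟩))
  have hsH : IsSec (Matrix.SpecialLinearGroup (Fin 2) (ZMod p)) ↥H :=
    hsE.trans (IsSec.of_inj_surj (Subgroup.inclusion hEH) (Subgroup.inclusion_injective hEH) (MonoidHom.id _) (fun x => ⟨x, rfl⟩))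
  haveI hQE : (Q.subgroupOf E).Normal := Subgroup.normal_subgroupOf_of_le_normalizer (hEH.trans hQn)
  have hps : Cfsg.IsPSolvable p ↥E := by
    apply CfsgLib.PSolv19.psolv_of_extension (N := Q.subgroupOf E)
    · right
      rw [Nat.card_congr (Subgroup.subgroupOfEquivOfLe (le_sup_left : Q ≤ E)).toEquiv]
      exact hQ
    · apply CfsgLib.PSolv19.psolv_of_solvable _ rfl
      have hcyc : IsCyclic (↥E ⧸ Q.subgroupOf E) := by
        refine ⟨QuotientGroup.mk' _ ⟨a, haE⟩, ?_⟩
        intro z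
        obtain ⟨⟨z, hz⟩, rfl⟩ := QuotientGroup.mk'_surjective _ z
        have h1 : E.subgroupOf E ≤ (Q.subgroupOf E) ⊔ (Subgroup.zpowers a).subgroupOf E := by
          rw [← Subgroup.subgroupOf_sup le_sup_left le_sup_right]
        have h2 : (⟨z, hz⟩ : ↥E) ∈ (Q.subgroupOf E) ⊔ (Subgroup.zpowers a).subgroupOf E := h1 hz
        rw [Subgroup.mem_sup_of_normal_left] at h2
        obtain ⟨q, hq, w, hw, e⟩ := h2
        obtain ⟨n, hn⟩ := Subgroup.mem_zpowers_iff.1 (show (w : G) ∈ Subgroup.zpowers a from hw)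
        have hq1 : QuotientGroup.mk' (Q.subgroupOf E) q = 1 := (QuotientGroup.eq_one_iff q).2 hq
        rw [← e, map_mul, hq1, one_mul]
        refine ⟨n, ?_⟩
        change (QuotientGroup.mk' _ _) ^ n = _
        rw [← map_zpow]
        congr 1
        exact Subtype.ext hn
      have hcm : IsMulCommutative (↥E ⧸ Q.subgroupOf E) := inferInstance
      exact Group.isSolvable_of_comm (fun a b => hcm.is_comm.comm a b)
  have h3 := eq_three_of_psolv hp hps hsE
  subst h3
  exact ⟨rfl, CfsgLib.Qd9.IsSec.exists_quot_le hsH⟩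

end Cfsg.Agent.S0594
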