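import Cfsg.Statements.S0596
import Cfsg.Agent.LibQd9E

set_option autoImplicit false
open Cfsg

namespace Cfsg.Agent.S0596

open CfsgLib.Qd9 CfsgLib.SecH12

/-- For odd p, a p-separable group with a faithful action on an elementary abelian p-group that is not p-stable has p = 3 and involves SL(2,3). -/
theorem result {G : Type*} [Group G] [Finite G] {p : ℕ} [Fact p.Prime] (hp : p ≠ 2) (V H : Subgroup G) (hV : Cfsg.IsElementaryAbelian p V) (hHV : H ≤ Subgroup.normalizer (V : Set G)) (hf : H ⊓ Subgroup.centralizer (V : Set G) = ⊥) (hsep : Cfsg.IsPSolvable p H) (a : G) (haH : a ∈ H) (hq : ⁅⁅V, Subgroup.zpowers a⁆, Subgroup.zpowers a⁆ = ⊥) (hna : a ∉ (Cfsg.pCore p H).map H.subtype) : p = 3 ∧ ∃ (K L : Subgroup G) (hL : (L.subgroupOf K).Normal), K ≤ H ∧ Nonempty ((K ⧸ L.subgroupOf K) ≃* Matrix.SpecialLinearGroup (Fin 2) (ZMod 3)) := by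
  classical
  have hna' : (⟨a, haH⟩ : ↥H) ∉ Cfsg.pCore p ↥H := fun h => hna ⟨_, h, rfl⟩
  obtain ⟨h, hh⟩ : ∃ h : ↥H, ¬ IsPGroup p ↥(Subgroup.closure {(⟨a, haH⟩ : ↥H), h * ⟨a, haH⟩ * h⁻¹}) := by
    by_contra hcon
    push Not at hcon
    exact hna' (CfsgLib.H2Baer.baer_suzuki_elt hcon)
  obtain ⟨y, hy, hyc, hy1⟩ : ∃ y ∈ Subgroup.closure {(⟨a, haH⟩ : ↥H), h * ⟨a, haH⟩ * h⁻¹}, (orderOf y).Coprime p ∧ y ≠ 1 := by
    by_contra hcon
    push Not at hcon
    exact hh (CfsgLib.Chief9.isPGroup_of_no_coprime hcon)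
  have hcl : (Subgroup.closure {(⟨a, haH⟩ : ↥H), h * ⟨a, haH⟩ * h⁻¹}).map H.subtype = Subgroup.closure {a, (h : G) * a * (h : G)⁻¹} := by
    rw [MonoidHom.map_closure, Set.image_pair]
    rfl
  have hclH : Subgroup.closure {a, (h : G) * a * (h : G)⁻¹} ≤ H := by
    rw [← hcl]; exact Subgroup.map_subtype_le _
  have hk := hHV h.2
  have hconj : ⁅⁅V, Subgroup.zpowers ((h : G) * a * (h : G)⁻¹)⁆, Subgroup.zpowers ((h : G) * a * (h : G)⁻¹)⁆ = ⊥ := by
    have h1 : Subgroup.zpowers ((h : G) * a * (h : G)⁻¹) = (Subgroup.zpowers a).map (MulAut.conj (h : G)).toMonoidHom := by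
      rw [MonoidHom.map_zpowers]; rfl
    have h2 : V.map (MulAut.conj (h : G)).toMonoidHom = V := by
      apply le_antisymm
      · rintro _ ⟨v, hv, rfl⟩
        exact (Subgroup.mem_normalizer_iff.1 hk v).1 hv
      · intro v hv
        refine ⟨(h : G)⁻¹ * v * h, ?_, ?_⟩
        · have := (Subgroup.mem_normalizer_iff.1 (inv_mem hk) v).1 hv
          rwa [inv_inv] at this
        · change (h : G) * ((h : G)⁻¹ * v * h) * (h : G)⁻¹ = v
          group
    rw [h1]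
    nth_rewrite 1 [← h2]
    rw [← Subgroup.map_commutator, ← Subgroup.map_commutator, hq, Subgroup.map_bot]
  have hs := sec_pair hp hV (hHV haH) (hHV (H.mul_mem (H.mul_mem h.2 haH) (H.inv_mem h.2))) hq hconj
    (y := (y : G)) (by rw [← hcl]; exact ⟨y, hy, rfl⟩) (by rwa [Subgroup.orderOf_coe]) (by
      intro hc
      apply hy1
      have h1 : (y : G) ∈ H ⊓ Subgroup.centralizer (V : Set G) := ⟨y.2, hc⟩
      rw [hf, Subgroup.mem_bot] at h1
      exact Subtype.ext h1)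
  have hsH : IsSec (Matrix.SpecialLinearGroup (Fin 2) (ZMod p)) ↥H :=
    hs.trans (IsSec.of_inj_surj (Subgroup.inclusion hclH) (Subgroup.inclusion_injective hclH) (MonoidHom.id _) (fun x => ⟨x, rfl⟩))
  have h3 := eq_three_of_psolv hp hsep hsH
  subst h3
  exact ⟨rfl, CfsgLib.Qd9.IsSec.exists_quot_le hsH⟩

end Cfsg.Agent.S0596
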