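import Cfsg.Statements.S0615
import Cfsg.Agent.LibH2FF16

set_option autoImplicit false
open Cfsg

namespace Cfsg.Agent.S0615

open Subgroup CfsgLib.H2FF
open scoped Pointwise


/-- Two subnormal subgroups acting irreducibly on their incomparable commutator modules, in a faithful group with trivial largest normal p-subgroup, generate their direct product, and the commutator module splits accordingly. -/
theorem result {G : Type*} [Group G] [Finite G] {p : ℕ} [Fact p.Prime] (V E E₁ E₂ : Subgroup G) (hV : Cfsg.IsElementaryAbelian p V) (hEV : E ≤ Subgroup.normalizer (V : Set G)) (hf : E ⊓ Subgroup.centralizer (V : Set G) = ⊥) (hgen : E = E₁ ⊔ E₂) (hs₁ : (E₁.subgroupOf E).IsSubnormal) (hs₂ : (E₂.subgroupOf E).IsSubnormal) (hOp : Cfsg.pCore p ↥E = ⊥) (hirr₁ : (∀ U : Subgroup G, U ≤ ⁅V, E₁⁆ → E₁ ≤ Subgroup.normalizer (U : Set G) → U = ⊥ ∨ U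 = ⁅V, E₁⁆)) (hirr₂ : (∀ U : Subgroup G, U ≤ ⁅V, E₂⁆ → E₂ ≤ Subgroup.normalizer (U : Set G) → U = ⊥ ∨ U = ⁅V, E₂⁆)) (h12 : ¬ ⁅V, E₁⁆ ≤ ⁅V, E₂⁆) (h21 : ¬ ⁅V, E₂⁆ ≤ ⁅V, E₁⁆) (hc₁ : 2 < Nat.card E₁) (hc₂ : 2 < Nat.card E₂) : ⁅E₁, E₂⁆ = ⊥ ∧ E₁ ⊓ E₂ = ⊥ ∧ ⁅V, E₁⁆ ⊓ ⁅V, E₂⁆ = ⊥ ∧ ⁅V, E⁆ = ⁅V, E₁⁆ ⊔ ⁅V, E₂⁆ := by
  subst hgen
  have np : ∀ F : Subgroup G, F ≤ E₁ ⊔ E₂ → (F.subgroupOf (E₁ ⊔ E₂)).IsSubnormal → ∀ P : Subgroup G, P ≤ F → IsPGroup p P →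
      F ≤ normalizer (P : Set G) → P = ⊥ := by
    intro F hF hFs P hPF hPp hn
    have h1 : ((P.subgroupOf (E₁ ⊔ E₂)).subgroupOf (F.subgroupOf (E₁ ⊔ E₂))).Normal := by
      constructor
      rintro ⟨x, hx⟩ hxP ⟨y, hy⟩
      exact (mem_normalizer_iff.mp (hn hy) _).mp hxP
    have h2 : (P.subgroupOf (E₁ ⊔ E₂)).IsSubnormal := Subgroup.IsSubnormal.trans
      (K := F.subgroupOf (E₁ ⊔ E₂)) (fun x hx => hPF hx) h1.isSubnormal hFs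
    have h3 := CfsgLib.H2Misc.subnormal_isPGroup_le_pCore h2 (hPp.comap_subtype)
    rw [hOp, le_bot_iff, subgroupOf_eq_bot, disjoint_iff, inf_eq_left.mpr (hPF.trans hF)] at h3
    exact h3
  have hff : ∀ F : Subgroup G, F ≤ E₁ ⊔ E₂ → F ⊓ centralizer (V : Set G) = ⊥ := by
    intro F hF
    rw [eq_bot_iff, ← hf]
    exact inf_le_inf_right _ hF
  have D1 : Dt p V E₁ := ⟨le_sup_left.trans hEV, hff _ le_sup_left, np _ le_sup_left hs₁, hirr₁, hc₁⟩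
  have D2 : Dt p V E₂ := ⟨le_sup_right.trans hEV, hff _ le_sup_right, np _ le_sup_right hs₂, hirr₂, hc₂⟩
  obtain ⟨h1, h2⟩ := ind hV _ E₁ E₂ le_rfl D1 D2 hf ⟨le_sup_left, hs₁⟩ ⟨le_sup_right, hs₂⟩ h12 h21
  refine ⟨h1, ?_, h2, comm_sup (le_sup_left.trans hEV) (le_sup_right.trans hEV)⟩
  have h3 : ⁅V, E₁ ⊓ E₂⁆ = ⊥ := by
    rw [eq_bot_iff, ← h2]
    exact le_inf (commutator_mono le_rfl inf_le_left) (commutator_mono le_rfl inf_le_right)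
  rw [commutator_comm, commutator_eq_bot_iff_le_centralizer] at h3
  rw [← hff (E₁ ⊓ E₂) (inf_le_left.trans le_sup_left)]
  exact (inf_eq_left.mpr h3).symm

end Cfsg.Agent.S0615
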