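import Cfsg.Statements.S0620
import Cfsg.Agent.LibH2FF15

set_option autoImplicit false
open Cfsg

namespace Cfsg.Agent.S0620

open Subgroup CfsgLib.H2FF
open scoped Pointwise


/-- Under coprime action of an elementary abelian q-group X on a p-separable group K with trivial p'-core, K is generated by the normalizer of J(S), the centralizer of Ω₁(Z(S)) and the fixed points of X. -/
theorem result {G : Type*} [Group G] [Finite G] {p : ℕ} [Fact p.Prime] {q : ℕ} [Fact q.Prime] (K X : Subgroup G) (hXK : X ≤ Subgroup.normalizer (K : Set G)) (hX : Cfsg.IsElementaryAbelian q X) (hq : ¬ q ∣ Nat.card K) (hsep : Cfsg.IsPSolvable p ↥K) (hO : Cfsg.pPrimeCore p ↥K = ⊥) (S : Sylow p ↥K) : (Subgroup.normalizer (Cfsg.thompsonSubgroupOf p (S : Subgroup ↥K) : Set ↥K) ⊔ Subgroup.centralizer (Cfsg.omegaOne p ((S : Subgroup ↥K) ⊓ Subgroup.centralizer ((S : Subgroup ↥K) : Set ↥K)) : Set ↥K) ⊔ (Subgroup.centralizer (X : Set G)).subgroupOf K) = ⊤ := by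
  obtain ⟨Xm, _, _, ψ, ι, St, h1, h2, h3, h4⟩ := exists_setup' K X hXK hX hq hsep hO
  have C := St.ctx
  have g := St.gen
  have D := St.y
  have hlift := fun h hh => St.lift (h := h) h3 h4 hh
  rw [← h2] at C g D hlift
  apply gen_top h1 C g D S
  · exact le_sup_left.trans le_sup_left
  · exact le_sup_right.trans le_sup_left
  · intro h hh
    obtain ⟨d, hd, rfl⟩ := hlift h hh
    refine ⟨⟨d, hd.1⟩, mem_sup_right ?_, rfl⟩
    change (d : G) ∈ centralizer (X : Set G)
    refine mem_centralizer_iff.mpr ?_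
    intro x hx
    exact congrArg Subtype.val (mem_centralizer_iff.mp hd.2 ⟨x, hXK hx⟩ hx)

end Cfsg.Agent.S0620
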