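import Cfsg.Statements.S0621
import Cfsg.Agent.LibH2FF15

set_option autoImplicit false
open Cfsg

namespace Cfsg.Agent.S0621

open Subgroup CfsgLib.H2FF
open scoped Pointwise


/-- Let K be p-separable with O_p'(K) = 1, normalized by an elementary abelian q-group X for a prime q not dividing the order of K. If the Thompson factorization fails in K, then p is 2 or 3 and the fixed points of X contain a plane W of order p² and a subgroup inducing SL(2, p) on it. -/
theorem result {G : Type*} [Group G] [Finite G] {p : ℕ} [Fact p.Prime] {q : ℕ} [Fact q.Prime] (K X : Subgroup G) (hXK : X ≤ Subgroup.normalizer (K : Set G)) (hX : Cfsg.IsElementaryAbelian q X) (hq : ¬ q ∣ Nat.card K) (hsep : Cfsg.IsPSolvable p ↥K) (hO : Cfsg.pPrimeCore p ↥K = ⊥) (hnf : ¬ Cfsg.IsThompsonFactorizable p ↥K) : (p = 2 ∨ p = 3) ∧ ∃ W D : Subgroup G, W ≤ K ⊓ Subgroup.centralizer (X : Set G) ∧ D ≤ K ⊓ Subgroup.centralizer (X : Set G) ∧ Cfsg.IsElementaryAbelian p W ∧ Nat.card W = p ^ 2 ∧ D ≤ Subgroup.normalizer (W : Set G) ∧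 ∃ hn : ((Subgroup.centralizer (W : Set G)).subgroupOf D).Normal, Nonempty ((↥D ⧸ (Subgroup.centralizer (W : Set G)).subgroupOf D) ≃* Matrix.SpecialLinearGroup (Fin 2) (ZMod p)) := by
  obtain ⟨Xm, _, _, ψ, ι, St, h1, h2, h3, h4⟩ := exists_setup' K X hXK hX hq hsep hO
  have hne : ∃ B : Subgroup Xm, B ≤ (CfsgLib.H2Thomp.Je p (K.subgroupOf (normalizer (K : Set G)))).map ψ ∧ Mn p ι.range B := by
    by_contra hcon
    push Not at hcon
    have h5 := le_of_Mn St.ctx St.gen (X := ⊥) (fun B hB mB => absurd mB (hcon B hB))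
    rw [← h2, le_bot_iff, Subgroup.map_eq_bot_iff, h1] at h5
    exact hnf (factorizable h5)
  obtain ⟨B, hB, mB⟩ := hne
  haveI : (K.subgroupOf (normalizer (K : Set G))).Normal := normal_subgroupOf_of_le_normalizer le_rfl
  obtain ⟨h5, W, D, hW, hD, hWe, hWc, hDn, f, hf, hfk⟩ := St.exists_WD h3 h4 hB mB
  refine ⟨h5, W.map (normalizer (K : Set G)).subtype, D.map (normalizer (K : Set G)).subtype, ?_, ?_, ?_, ?_, ?_, ?_⟩
  · rintro _ ⟨w, hw, rfl⟩
    refine ⟨(hW hw).1, ?_⟩
    refine mem_centralizer_iff.mpr ?_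
    intro x hx
    exact congrArg Subtype.val (mem_centralizer_iff.mp (hW hw).2 ⟨x, hXK hx⟩ hx)
  · rintro _ ⟨w, hw, rfl⟩
    refine ⟨(hD hw).1, ?_⟩
    refine mem_centralizer_iff.mpr ?_
    intro x hx
    exact congrArg Subtype.val (mem_centralizer_iff.mp (hD hw).2 ⟨x, hXK hx⟩ hx)
  · exact CfsgLib.H2Quad.elab_map _ hWe
  · rw [card_map_of_injective (subtype_injective _), hWc]
  · apply CfsgLib.H2Misc.le_normalizer_of_conj
    rintro _ ⟨d, hd, rfl⟩ _ ⟨w, hw, rfl⟩
    exact ⟨d * w * d⁻¹, (mem_normalizer_iff.mp (hDn hd) w).mp hw, rfl⟩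
  · let e := D.equivMapOfInjective (normalizer (K : Set G)).subtype (subtype_injective _)
    let F : ↥(D.map (normalizer (K : Set G)).subtype) →* Matrix.SpecialLinearGroup (Fin 2) (ZMod p) := f.comp e.symm.toMonoidHom
    have hF : Function.Surjective F := hf.comp e.symm.surjective
    have hk : F.ker = (Subgroup.centralizer ((W.map (normalizer (K : Set G)).subtype : Subgroup G) : Set G)).subgroupOf
        (D.map (normalizer (K : Set G)).subtype) := by
      ext x
      rw [MonoidHom.mem_ker, mem_subgroupOf]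
      change f (e.symm x) = 1 ↔ _
      rw [hfk]
      have hx : (x : G) = ((e.symm x : D) : ↥(normalizer (K : Set G))) := by
        conv_lhs => rw [← e.apply_symm_apply x]
        rfl
      rw [hx]
      constructor
      · intro h
        refine mem_centralizer_iff.mpr ?_
        rintro _ ⟨w, hw, rfl⟩
        exact congrArg Subtype.val (mem_centralizer_iff.mp h w hw)
      · intro h
        refine mem_centralizer_iff.mpr ?_
        intro w hw
        apply Subtype.ext
        exact mem_centralizer_iff.mp h w ⟨w, hw, rfl⟩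
    have hn : ((Subgroup.centralizer ((W.map (normalizer (K : Set G)).subtype : Subgroup G) : Set G)).subgroupOf
        (D.map (normalizer (K : Set G)).subtype)).Normal := by
      rw [← hk]; infer_instance
    refine ⟨hn, ⟨?_⟩⟩
    exact (QuotientGroup.quotientMulEquivOfEq hk.symm).trans (QuotientGroup.quotientKerEquivOfSurjective F hF)

end Cfsg.Agent.S0621
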