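import Cfsg.Statements.S0647
import Cfsg.Agent.LibH2Lift

set_option autoImplicit false
open Cfsg

namespace Cfsg.Agent.S0647

open Subgroup Cfsg MulAction CfsgLib.Cores CfsgLib.Coprime CfsgLib.H2Misc CfsgLib.H2Solv CfsgLib.H2Subn CfsgLib.H2Quad CfsgLib.H2Gen CfsgLib.H2Gen2 CfsgLib.H2Thomp CfsgLib.H2Lift
open scoped Pointwise commutatorElement
universe uu



/-- For a nonempty family of maximal abelian subgroups of a finite group, the intersection of the family is the centre of the subgroup it generates, which is also the full centralizer of that subgroup. -/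
theorem result {S : Type*} [Group S] [Finite S] (𝒜 : Set (Subgroup S)) (hne : 𝒜.Nonempty) (hab : ∀ A ∈ 𝒜, IsMulCommutative A) (hmax : ∀ A ∈ 𝒜, ∀ B : Subgroup S, IsMulCommutative B → A ≤ B → B = A) : sInf 𝒜 = sSup 𝒜 ⊓ Subgroup.centralizer ((sSup 𝒜 : Subgroup S) : Set S) ∧ sInf 𝒜 = Subgroup.centralizer ((sSup 𝒜 : Subgroup S) : Set S) := by
  have hC : ∀ A ∈ 𝒜, centralizer (A : Set S) = A := by
    intro A hA
    apply le_antisymm _ (isMulCommutative_iff_le_centralizer.mp (hab A hA))
    intro x hx
    have hle : A ≤ centralizer ((zpowers x : Subgroup S) : Set S) := by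
      intro a ha
      rw [mem_centralizer_iff]
      rintro _ ⟨m, rfl⟩
      exact ((show Commute a x from mem_centralizer_iff.mp hx a ha).symm.zpow_left m).eq
    have hmem : ∀ y ∈ A ⊔ zpowers x, ∃ a ∈ A, ∃ m : ℤ, y = a * x ^ m := by
      intro y hy
      rw [← SetLike.mem_coe, coe_mul_of_left_le_normalizer_right A (zpowers x) (hle.trans (centralizer_le_normalizer _))] at hy
      obtain ⟨a, ha, z, ⟨m, rfl⟩, rfl⟩ := hy
      exact ⟨a, ha, m, rfl⟩
    have h1 : IsMulCommutative ↥(A ⊔ zpowers x) := by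
      apply mulComm_of_comm
      intro y hy z hz
      obtain ⟨a, ha, m, rfl⟩ := hmem y hy
      obtain ⟨b, hb, n, rfl⟩ := hmem z hz
      have c1 : Commute a x := mem_centralizer_iff.mp hx a ha
      have c2 : Commute b x := mem_centralizer_iff.mp hx b hb
      have c3 : Commute a b := comm_of_mulComm (hab A hA) a ha b hb
      exact ((c3.mul_right (c1.zpow_right n)).mul_left ((c2.symm.zpow_left m).mul_right ((Commute.refl x).zpow_zpow m n))).eq
    rw [← hmax A hA _ h1 le_sup_left]
    exact mem_sup_right (mem_zpowers x)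
  have h2 : sInf 𝒜 = centralizer ((sSup 𝒜 : Subgroup S) : Set S) := by
    rw [centralizer_eq_of_sSup, sInf_eq_iInf]
    exact iInf_congr fun A => iInf_congr fun hA => (hC A hA).symm
  refine ⟨?_, h2⟩
  rw [← h2]
  obtain ⟨A, hA⟩ := hne
  exact (inf_eq_right.mpr ((sInf_le hA).trans (le_sSup hA))).symm

end Cfsg.Agent.S0647
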