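import Cfsg.Statements.S0653
import Cfsg.Agent.LibH2ZJ

set_option autoImplicit false
open Cfsg

namespace Cfsg.Agent.S0653

open Subgroup Cfsg MulAction CfsgLib.Cores CfsgLib.Coprime CfsgLib.H2Misc CfsgLib.H2Solv CfsgLib.H2Subn CfsgLib.H2Quad CfsgLib.H2Gen CfsgLib.H2Gen2 CfsgLib.H2Thomp CfsgLib.H2Lift CfsgLib.H2PG CfsgLib.H2Repl CfsgLib.H2Glaub CfsgLib.H2ZJ
open scoped Pointwise commutatorElement
universe uu



/-- Glauberman's ZJ-Theorem: for odd p, if the largest normal p-subgroup of G contains its centralizer and G acts p-stably on every normal p-subgroup, then the centre of the abelian-version Thompson subgroup of a Sylow p-subgroup is a characteristic subgroup of G. -/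
theorem result {G : Type*} [Group G] [Finite G] {p : ℕ} [Fact p.Prime] (hp : p ≠ 2) (hc : Subgroup.centralizer (Cfsg.pCore p G : Set G) ≤ Cfsg.pCore p G) (hst : ∀ (P : Subgroup G) [P.Normal], IsPGroup p P → Cfsg.IsPStableOn p P) (S : Sylow p G) : (Cfsg.centerThompsonAOf ((S : Subgroup G))).Characteristic := by
  rw [centerThompsonAOf_eq]
  refine characteristic_of_normal (IQ fun A => IsMulCommutative A)
    (fun e P => IQ_mapAut (fun e A => comm_aut e A) e P) S ?_
  refine IQ_normal S hc hst (fun A hA => hA) (fun g A => comm_aut _ A) comm_bot ?_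
  intro B hB hBS hBc hU
  exact rep_comm hp S.isPGroup' B hBS (by rw [normalizer_eq_top]; exact le_top) hBc hU

end Cfsg.Agent.S0653
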