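import Cfsg.Statements.S0654
import Cfsg.Agent.LibH2ZJ

set_option autoImplicit false
open Cfsg

namespace Cfsg.Agent.S0654

open Subgroup Cfsg MulAction CfsgLib.Cores CfsgLib.Coprime CfsgLib.H2Misc CfsgLib.H2Solv CfsgLib.H2Subn CfsgLib.H2Quad CfsgLib.H2Gen CfsgLib.H2Gen2 CfsgLib.H2Thomp CfsgLib.H2Lift CfsgLib.H2PG CfsgLib.H2Repl CfsgLib.H2Glaub CfsgLib.H2ZJ
open scoped Pointwise commutatorElement
universe uu



/-- The ZJ-Theorem for the elementary-abelian Thompson subgroup: for an odd prime p, a finite group G with C_G(O_p(G)) ≤ O_p(G) acting p-stably on its normal p-subgroups, and a Sylow p-subgroup S of G, the subgroup generated by the elements of order dividing p in Z(J_e(S)) is characteristic in G. -/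
theorem result {G : Type*} [Group G] [Finite G] {p : ℕ} [Fact p.Prime] (hp : p ≠ 2) (hc : Subgroup.centralizer (Cfsg.pCore p G : Set G) ≤ Cfsg.pCore p G) (hst : ∀ (P : Subgroup G) [P.Normal], IsPGroup p P → Cfsg.IsPStableOn p P) (S : Sylow p G) : ((Cfsg.omegaCenterThompson p ↥(S : Subgroup G)).map (S : Subgroup G).subtype).Characteristic := by
  rw [omegaCenterThompson_map_eq S.isPGroup']
  refine characteristic_of_normal (IQ (IsElementaryAbelian p))
    (fun e P => IQ_mapAut (fun e A => elab_aut e A) e P) S ?_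
  refine IQ_normal S hc hst (fun A hA => hA.1) (fun g A => elab_aut _ A) (elab_bot p) ?_
  intro B hB hBS hBc hU
  exact rep_elab hp S.isPGroup' B hBS (by rw [normalizer_eq_top]; exact le_top) hBc hU

end Cfsg.Agent.S0654
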