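import Cfsg.Statements.S0656
import Cfsg.Agent.LibQd9B

set_option autoImplicit false
open Cfsg

namespace Cfsg.Agent.S0656

open CfsgLib.Qd9 CfsgLib.Stab9 CfsgLib.SecH12

/-- For odd p, a faithful group on an elementary abelian p-group with no nontrivial normal p-subgroup in which some nontrivial p-element acts quadratically has a section isomorphic to SL(2, p). -/
theorem result {G : Type*} [Group G] [Finite G] {p : ℕ} [Fact p.Prime] (hp : p ≠ 2) (V H : Subgroup G) (hV : Cfsg.IsElementaryAbelian p V) (hHV : H ≤ Subgroup.normalizer (V : Set G)) (hf : H ⊓ Subgroup.centralizer (V : Set G) = ⊥) (hO : Cfsg.pCore p ↥H = ⊥) (x : G) (hxH : x ∈ H) (hx1 : x ≠ 1) (hxp : ∃ k : ℕ, orderOf x = p ^ k) (hq : ⁅⁅V, Subgroup.zpowers x⁆, Subgroup.zpowers x⁆ = ⊥) : ∃ (K L : Subgroup G) (hL : (L.subgroupOf K).Normal), K ≤ H ∧ Nonempty ((K ⧸ L.subgroupOf K) ≃* Matrix.SpecialLinearGroup (Fin 2) (ZMod p)) := by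
  classical
  apply IsSec.exists_quot_le
  have hxO : (⟨x, hxH⟩ : ↥H) ∉ Cfsg.pCore p ↥H := by
    rw [hO, Subgroup.mem_bot]
    intro h
    exact hx1 (congrArg Subtype.val h)
  -- a conjugate generating a non-p-group
  obtain ⟨h, hh⟩ : ∃ h : ↥H, ¬ IsPGroup p ↥(Subgroup.closure {(⟨x, hxH⟩ : ↥H), h * ⟨x, hxH⟩ * h⁻¹}) := by
    by_contra hcon
    push Not at hcon
    exact hxO (CfsgLib.H2Baer.baer_suzuki_elt hcon)
  obtain ⟨y, hy, hyc, hy1⟩ : ∃ y ∈ Subgroup.closure {(⟨x, hxH⟩ : ↥H), h * ⟨x, hxH⟩ * h⁻¹}, (orderOf y).Coprime p ∧ y ≠ 1 := by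
    by_contra hcon
    push Not at hcon
    exact hh (CfsgLib.Chief9.isPGroup_of_no_coprime hcon)
  set N := Subgroup.normalizer (V : Set G) with hN
  have hVN : V ≤ N := Subgroup.le_normalizer
  haveI hVn : (V.subgroupOf N).Normal := by rw [hN]; infer_instance
  have hE : Elem p (V.subgroupOf N) := by
    constructor
    · intro a ha b hb
      apply Subtype.ext
      have := hV.1.is_comm.comm (⟨a, ha⟩ : ↥V) ⟨b, hb⟩
      change (a : G) * b = b * a
      exact congrArg V.subtype this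
    · intro a ha
      apply Subtype.ext
      exact hV.2 a ha
  let x' : ↥N := ⟨x, hHV hxH⟩
  let h' : ↥N := ⟨h, hHV h.2⟩
  have hconj : ∀ (k : G) (hk : k ∈ N), ⁅⁅V, Subgroup.zpowers (k * x * k⁻¹)⁆, Subgroup.zpowers (k * x * k⁻¹)⁆ = ⊥ := by
    intro k hk
    have h1 : Subgroup.zpowers (k * x * k⁻¹) = (Subgroup.zpowers x).map (MulAut.conj k).toMonoidHom := by
      rw [MonoidHom.map_zpowers]; rfl
    have h2 : V.map (MulAut.conj k).toMonoidHom = V := by
      apply le_antisymm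
      · rintro _ ⟨v, hv, rfl⟩
        exact (Subgroup.mem_normalizer_iff.1 hk v).1 hv
      · intro v hv
        refine ⟨k⁻¹ * v * k, ?_, ?_⟩
        · have := (Subgroup.mem_normalizer_iff.1 (inv_mem hk) v).1 hv
          rwa [inv_inv] at this
        · change k * (k⁻¹ * v * k) * k⁻¹ = v
          group
    rw [h1]
    nth_rewrite 1 [← h2]
    rw [← Subgroup.map_commutator, ← Subgroup.map_commutator, hq, Subgroup.map_bot]
  have hsub : ∀ z : ↥N, ⁅⁅V, Subgroup.zpowers (z : G)⁆, Subgroup.zpowers (z : G)⁆ = ⊥ →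
      ⁅⁅V.subgroupOf N, Subgroup.zpowers z⁆, Subgroup.zpowers z⁆ = ⊥ := by
    intro z hz
    apply Subgroup.map_injective N.subtype_injective
    have h1 : (Subgroup.zpowers z).map N.subtype = Subgroup.zpowers (z : G) := by
      rw [MonoidHom.map_zpowers]; rfl
    rw [Subgroup.map_commutator, Subgroup.map_commutator, h1, Subgroup.map_bot,
      Subgroup.map_subgroupOf_eq_of_le hVN, hz]
  -- transport to N
  let ι : ↥H →* ↥N := Subgroup.inclusion hHV
  have hιx : ι ⟨x, hxH⟩ = x' := rfl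
  have hιc : (Subgroup.closure {(⟨x, hxH⟩ : ↥H), h * ⟨x, hxH⟩ * h⁻¹}).map ι = Subgroup.closure {x', h' * x' * h'⁻¹} := by
    rw [MonoidHom.map_closure, Set.image_pair, map_mul, map_mul, map_inv]
    rfl
  have hιy : ι y ∈ Subgroup.closure {x', h' * x' * h'⁻¹} := by
    rw [← hιc]; exact ⟨y, hy, rfl⟩
  have hιo : (orderOf (ι y)).Coprime p := by
    rw [orderOf_injective ι (Subgroup.inclusion_injective hHV)]; exact hyc
  have hιV : ι y ∉ Subgroup.centralizer ((V.subgroupOf N : Subgroup ↥N) : Set ↥N) := by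
    intro hc
    apply hy1
    have h1 : (y : G) ∈ H ⊓ Subgroup.centralizer (V : Set G) := by
      refine ⟨y.2, ?_⟩
      rw [Subgroup.mem_centralizer_iff] at hc
      change (y : G) ∈ Subgroup.centralizer (V : Set G)
      rw [Subgroup.mem_centralizer_iff]
      intro v hv
      have := hc ⟨v, hVN hv⟩ hv
      exact congrArg N.subtype this
    rw [hf, Subgroup.mem_bot] at h1
    exact Subtype.ext h1
  obtain ⟨g, hg, g', hg', v, w, e1, e2, e3, e4, e5⟩ := exists_vec hp hE (hsub x' hq)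
    (hsub (h' * x' * h'⁻¹) (hconj h (hHV h.2))) hιy hιo hιV
  have S : Std hE g g' v w := ⟨e1, e2, e3, e4, e5⟩
  have hcl : Subgroup.closure {x', h' * x' * h'⁻¹} ≤ H.subgroupOf N := by
    rw [Subgroup.closure_le]
    rintro z (rfl | hz)
    · exact hxH
    · rw [Set.mem_singleton_iff] at hz
      rw [hz]
      exact H.mul_mem (H.mul_mem h.2 hxH) (H.inv_mem h.2)
  have hs := S.isSec_SL2 (hcl hg) (hcl hg')
  exact hs.trans (IsSec.of_equiv (Subgroup.subgroupOfEquivOfLe hHV).symm)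

end Cfsg.Agent.S0656
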