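import Cfsg.Statements.S0657
import Cfsg.Agent.LibQd9B

set_option autoImplicit false
open Cfsg

namespace Cfsg.Agent.S0657

open CfsgLib.Qd9 CfsgLib.Stab9 CfsgLib.SecH12

/-- For odd p, a group that fails to be p-stable modulo its largest normal subgroup of order prime to p, and whose upper p-series does not stop there, has a section isomorphic to SL(2, p). -/
theorem result {G : Type*} [Group G] [Finite G] {p : ℕ} [Fact p.Prime] (hp : p ≠ 2) (hO : Cfsg.pPrimeCore p G < Cfsg.pPrimePCore p G) (hns : ¬ Cfsg.IsPStable p (G ⧸ Cfsg.pPrimeCore p G)) : ∃ (K L : Subgroup G) (hL : (L.subgroupOf K).Normal), K ≤ ⊤ ∧ Nonempty ((K ⧸ L.subgroupOf K) ≃* Matrix.SpecialLinearGroup (Fin 2) (ZMod p)) := by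
  classical
  have hsec : IsSec (Matrix.SpecialLinearGroup (Fin 2) (ZMod p)) (G ⧸ Cfsg.pPrimeCore p G) := by
    by_contra hno
    apply hns
    have hst : Stab p (G ⧸ Cfsg.pPrimeCore p G) :=
      stab_of_SL2_free hp fun P _ _ h => hno (h.trans (IsSec.subgroup _))
    refine ⟨(Fact.out : p.Prime).odd_of_ne_two hp, ?_, ?_⟩
    · intro hb
      apply hO.ne
      rw [Cfsg.pPrimePCore, hb, MonoidHom.comap_bot, QuotientGroup.ker_mk']
    · intro A P hA hP hAP _ _ hc
      rintro _ ⟨⟨a, haN⟩, haA, rfl⟩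
      have haA' : a ∈ A := haA
      refine stab_iff.2 hst P hP a haN ?_
      rw [eq_bot_iff, ← hc]
      have h1 : Subgroup.zpowers a ≤ A := by rwa [Subgroup.zpowers_le]
      exact Subgroup.commutator_mono (Subgroup.commutator_mono le_rfl h1) h1
  obtain ⟨K, L, hL, he⟩ := (hsec.trans (IsSec.quotient _)).exists_quot
  exact ⟨K, L, hL, le_top, he⟩

end Cfsg.Agent.S0657
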