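import Cfsg.Statements.S0667
import Cfsg.Agent.LibH2Stab
import Cfsg.Agent.S0653

set_option autoImplicit false
open Cfsg

namespace Cfsg.Agent.S0667

open Subgroup Cfsg MulAction CfsgLib.Cores CfsgLib.Coprime CfsgLib.H2Misc CfsgLib.H2Solv CfsgLib.H2Subn CfsgLib.H2Quad CfsgLib.H2Gen CfsgLib.H2Gen2 CfsgLib.H2Thomp CfsgLib.H2Lift CfsgLib.H2PG CfsgLib.H2Repl CfsgLib.H2Glaub CfsgLib.H2ZJ CfsgLib.H2Stab
open scoped Pointwise commutatorElement
universe uu



/-- Glauberman's Theorem in the p-constrained, p-stable vocabulary: for odd p such a group is the product of its largest normal subgroup of order prime to p with the normalizer of Z(J(P)), and Z(J(P)) is normal when that p'-subgroup is trivial. -/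
theorem result {G : Type*} [Group G] [Finite G] {p : ℕ} [Fact p.Prime] (hp : p ≠ 2) (hc : Cfsg.IsPConstrained p G) (hs : Cfsg.IsPStable p G) (P : Sylow p G) : Cfsg.pPrimeCore p G ⊔ Subgroup.normalizer (Cfsg.centerThompsonAOf ((P : Subgroup G)) : Set G) = ⊤ ∧ (Cfsg.pPrimeCore p G = ⊥ → (Cfsg.centerThompsonAOf ((P : Subgroup G))).Normal) := by
  have h1 : pPrimeCore p G ⊔ normalizer (centerThompsonAOf (P : Subgroup G) : Set G) = ⊤ := by
    have hNc : (Nat.card (pPrimeCore p G)).Coprime p := pPrimeCore_coprime p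
    obtain ⟨Q, hQ⟩ := exists_sylow_map P (pPrimeCore p G)
    have h2 := Cfsg.Agent.S0653.result hp (centralizer_pCore_of_isPConstrained hc)
      (fun V _ hV => stableOn_of_isPStable hs V hV) Q
    have hinj : Set.InjOn (QuotientGroup.mk' (pPrimeCore p G)) (P : Subgroup G) :=
      injOn_of_inf_eq_bot (inf_eq_bot_of_isPGroup P.isPGroup' hNc)
    rw [hQ, centerThompsonAOf_map _ hinj] at h2
    have hZp : IsPGroup p (centerThompsonAOf (P : Subgroup G)) := by
      rw [centerThompsonAOf_eq]
      obtain ⟨A, hA⟩ := exists_maxIn (Q := fun A : Subgroup G => IsMulCommutative A) (P := (P : Subgroup G)) bot_le comm_bot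
      exact P.isPGroup'.to_le ((IQ_le_of_mem hA).trans hA.1)
    have h3 := normalizer_map_eq hZp hNc
    haveI := h2
    rw [normalizer_eq_top] at h3
    have h4 : (normalizer (centerThompsonAOf (P : Subgroup G) : Set G)).map (QuotientGroup.mk' (pPrimeCore p G)) = ⊤ := h3.symm
    have h5 := congrArg (Subgroup.comap (QuotientGroup.mk' (pPrimeCore p G))) h4
    rw [comap_map_eq, QuotientGroup.ker_mk', comap_top, sup_comm] at h5
    exact h5
  refine ⟨h1, fun h => ?_⟩
  rw [h, bot_sup_eq] at h1
  exact normalizer_eq_top_iff.mp h1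

end Cfsg.Agent.S0667
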