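import Cfsg.Statements.S0658
import Cfsg.Agent.LibH2Loc
import Cfsg.Agent.S0667

set_option autoImplicit false
open Cfsg

namespace Cfsg.Agent.S0658

open Subgroup Cfsg MulAction CfsgLib.Cores CfsgLib.Coprime CfsgLib.H2Misc CfsgLib.H2Solv CfsgLib.H2Subn CfsgLib.H2Quad CfsgLib.H2Gen CfsgLib.H2Gen2 CfsgLib.H2Thomp CfsgLib.H2Lift CfsgLib.H2PG CfsgLib.H2Repl CfsgLib.H2Glaub CfsgLib.H2ZJ CfsgLib.H2Stab CfsgLib.H2Loc
open CfsgLib.FusionH12 (cj SylIn)
open scoped Pointwise commutatorElement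
universe uu



/-- In a group of characteristic p type all of whose p-locals are p-stable (p odd), the normalizer of Z(J(P)) contains the normalizer of every nontrivial subgroup of the Sylow p-subgroup P. -/
theorem result {G : Type*} [Group G] [Finite G] {p : ℕ} [Fact p.Prime] (hp : p ≠ 2) (hloc : ∀ Q : Subgroup G, IsPGroup p Q → Q ≠ ⊥ → Cfsg.pPrimeCore p ↥(Subgroup.normalizer (Q : Set G)) = ⊥ ∧ Cfsg.IsPConstrained p ↥(Subgroup.normalizer (Q : Set G)) ∧ Cfsg.IsPStable p ↥(Subgroup.normalizer (Q : Set G))) (P : Sylow p G) (Q : Subgroup G) (hQP : Q ≤ (P : Subgroup G)) (hQ1 : Q ≠ ⊥) : Subgroup.normalizer (Q : Set G) ≤ Subgroup.normalizer (Cfsg.centerThompsonAOf ((P : Subgroup G)) : Set G) := by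
  refine local_control (p := p) (fun T => centerThompsonAOf T) centerThompsonAOf_le
    (fun T hT h => centerThompsonAOf_ne_bot hT h) (fun g T => centerThompsonAOf_cj g T) ?_
    (SylIn.ofSylow P) (Nat.card (P : Subgroup G) + 1) Q hQP hQ1 (by omega)
  intro R hR hR1 S hS
  obtain ⟨h1, h2, h3⟩ := hloc R hR hR1
  obtain ⟨T, hT⟩ := sylIn_sylow hS
  have h4 := (Cfsg.Agent.S0667.result hp h2 h3 T).2 h1
  have h5 := le_normalizer_of_map_normal h4
  rw [← centerThompsonAOf_map _ (subtype_injective _).injOn, hT] at h5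
  exact h5

end Cfsg.Agent.S0658
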