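import Cfsg.Statements.S0686
import Mathlib
import Cfsg.Agent.LibH6ZasT

set_option autoImplicit false
open Cfsg

namespace Cfsg.Agent.S0686

/-- In a linear group over the prime field that is regular on non-zero vectors and has no irreducible cyclic normal subgroup, let `A` be a maximal normal abelian subgroup and `N` a normal subgroup centralising `A` that is minimal among non-abelian normal subgroups centralising `A`. Then `N` is quaternion of order 8 or isomorphic to `SL(2,5)`. -/
theorem result {p : ℕ} [Fact p.Prime] {V : Type*} [AddCommGroup V] [Module (ZMod p) V] [Finite V] (H : Subgroup (V ≃ₗ[ZMod p] V)) (hreg : ∀ v w : V, v ≠ 0 → w ≠ 0 → ∃! h : H, (h : V ≃ₗ[ZMod p] V) v = w) (hI : ∀ A : Subgroup H, A.Normal → IsCyclic A → ∃ W : Submodule (ZMod p) V, W ≠ ⊥ ∧ W ≠ ⊤ ∧ ∀ a ∈ A, ∀ v ∈ W, ((a : H) : V ≃ₗ[ZMod p] V) v ∈ W) (A : Subgroup H) (hAn : A.Normal) (hAc : IsMulCommutative A) (hAmax : ∀ B : Subgroup H, B.Normal → IsMulCommutative B → A ≤ B → B = A) (N : Subgroup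 H) (hNn : N.Normal) (hNle : N ≤ Subgroup.centralizer (A : Set H)) (hNna : ¬ IsMulCommutative N) (hNmin : ∀ M : Subgroup H, M.Normal → M ≤ N → ¬ IsMulCommutative M → M = N) : Nonempty (N ≃* QuaternionGroup 2) ∨ Nonempty (N ≃* Matrix.SpecialLinearGroup (Fin 2) (ZMod 5)) := by
  haveI : Finite (V ≃ₗ[ZMod p] V) := Finite.of_injective (fun f : V ≃ₗ[ZMod p] V => (f : V → V)) DFunLike.coe_injective
  by_cases hV : Nontrivial V
  · have hfree : ∀ (h : H) (v : V), v ≠ 0 → (h : V ≃ₗ[ZMod p] V) v = v → h = 1 := by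
      intro h v hv hh
      obtain ⟨c, hc, hu⟩ := hreg v v hv hv
      rw [hu h hh, hu 1 rfl]
    have hF : CfsgLib.H6Zas.IsFpf H := by
      refine CfsgLib.H6Zas.isFpf_of_mod p (fun (h : H) v => (h : V ≃ₗ[ZMod p] V) v) (fun g x y => map_add _ _ _)
        (fun x => rfl) (fun a b x => rfl) ?_
      intro g hg w hw
      by_contra hw0
      exact hg (hfree g w hw0 hw)
    exact CfsgLib.H6Zas.min_nonab hF A hAn hAc hAmax N hNn hNle hNna hNmin
  · exfalso
    rw [not_nontrivial_iff_subsingleton] at hV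
    apply hNna
    refine ⟨⟨fun a b => ?_⟩⟩
    apply Subtype.ext
    apply Subtype.ext
    ext v
    exact Subsingleton.elim _ _

end Cfsg.Agent.S0686
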