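import Cfsg.Statements.S0687
import Mathlib
import Cfsg.Agent.S0685
import Cfsg.Agent.S0688
import Cfsg.Agent.LibH6ZasS

set_option autoImplicit false
open Cfsg

namespace Cfsg.Agent.S0687

section
variable {p : ℕ} [hp : Fact p.Prime] {V : Type*} [AddCommGroup V] [Module (ZMod p) V] [Finite V]

theorem card_sq (h : Nat.card V = 25 ∨ Nat.card V = 49 ∨ Nat.card V = 121 ∨ Nat.card V = 529 ∨ Nat.card V = 841 ∨
    Nat.card V = 3481) : Module.finrank (ZMod p) V = 2 := by
  have h1 : Nat.card V = p ^ Module.finrank (ZMod p) V := by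
    rw [Module.natCard_eq_pow_finrank (K := ZMod p), Nat.card_zmod]
  have key : ∀ q : ℕ, q.Prime → p ^ Module.finrank (ZMod p) V = q ^ 2 → Module.finrank (ZMod p) V = 2 := by
    intro q hq h2
    have hpq : p = q := by
      have h3 : q ∣ p ^ Module.finrank (ZMod p) V := by
        rw [h2]; exact dvd_pow_self q (by norm_num)
      exact ((Nat.prime_dvd_prime_iff_eq hq hp.out).mp (hq.dvd_of_dvd_pow h3)).symm
    rw [← hpq] at h2
    exact Nat.pow_right_injective hp.out.two_le h2
  rw [h1] at h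
  rcases h with h | h | h | h | h | h
  · exact key 5 (by norm_num) (by rw [h]; norm_num)
  · exact key 7 (by norm_num) (by rw [h]; norm_num)
  · exact key 11 (by norm_num) (by rw [h]; norm_num)
  · exact key 23 (by norm_num) (by rw [h]; norm_num)
  · exact key 29 (by norm_num) (by rw [h]; norm_num)
  · exact key 59 (by norm_num) (by rw [h]; norm_num)

theorem irr {H : Type*} [Group H] (ρ : H →* (V ≃ₗ[ZMod p] V))
    (hfree : ∀ (h : H) (v : V), v ≠ 0 → ρ h v = v → h = 1)
    (h2 : Module.finrank (ZMod p) V = 2) (N : Subgroup H) (hNna : ¬ IsMulCommutative N)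
    (W : Submodule (ZMod p) V) (hW : ∀ n ∈ N, ∀ v ∈ W, ρ n v ∈ W) : W = ⊥ ∨ W = ⊤ := by
  have : FiniteDimensional (ZMod p) V := Module.finite_of_finrank_pos (by omega)
  have hle : Module.finrank (ZMod p) W ≤ 2 := by rw [← h2]; exact Submodule.finrank_le W
  have hc : Module.finrank (ZMod p) W = 0 ∨ Module.finrank (ZMod p) W = 1 ∨ Module.finrank (ZMod p) W = 2 := by omega
  rcases hc with hc | hc | hc
  · left
    exact Submodule.finrank_eq_zero.mp hc
  · exfalso
    apply hNna
    obtain ⟨w, hw0, hw⟩ := finrank_eq_one_iff'.mp hc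
    have hw0' : (w : V) ≠ 0 := fun h => hw0 (Subtype.ext h)
    have hsc : ∀ n ∈ N, ∃ c : ZMod p, ρ n (w : V) = c • (w : V) := by
      intro n hn
      obtain ⟨c, hc⟩ := hw ⟨ρ n w, hW n hn w w.2⟩
      exact ⟨c, (congrArg Subtype.val hc).symm⟩
    refine ⟨⟨fun a b => Subtype.ext ?_⟩⟩
    obtain ⟨c, hc⟩ := hsc a a.2
    obtain ⟨d, hd⟩ := hsc b b.2
    have h3 : ρ ((a : H) * b) (w : V) = ρ ((b : H) * a) (w : V) := by
      rw [map_mul, map_mul, LinearEquiv.mul_apply, LinearEquiv.mul_apply, hd, hc, map_smul, map_smul, hc, hd,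
        smul_comm]
    have h4 : ρ (((b : H) * a)⁻¹ * ((a : H) * b)) (w : V) = w := by
      rw [map_mul, LinearEquiv.mul_apply, h3, ← LinearEquiv.mul_apply, ← map_mul, inv_mul_cancel, map_one]
      rfl
    have h5 := hfree _ _ hw0' h4
    exact (inv_mul_eq_one.mp h5).symm
  · right
    exact Submodule.eq_top_of_finrank_eq (by rw [hc, h2])

theorem cent_comm {H : Type*} [Group H] (ρ : H →* (V ≃ₗ[ZMod p] V))
    (hfree : ∀ (h : H) (v : V), v ≠ 0 → ρ h v = v → h = 1)
    (h2 : Module.finrank (ZMod p) V = 2) (N : Subgroup H) (hNna : ¬ IsMulCommutative N) :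
    IsMulCommutative (Subgroup.centralizer (N : Set H)) := by
  have : FiniteDimensional (ZMod p) V := Module.finite_of_finrank_pos (by omega)
  have : Nontrivial V := Module.nontrivial_of_finrank_pos (R := ZMod p) (by omega)
  have heq : ∀ (a b : H) (w : V), w ≠ 0 → ρ (a * b) w = ρ (b * a) w → a * b = b * a := by
    intro a b w hw h3
    have h4 : ρ ((b * a)⁻¹ * (a * b)) (w : V) = w := by
      rw [map_mul, LinearEquiv.mul_apply, h3, ← LinearEquiv.mul_apply, ← map_mul, inv_mul_cancel, map_one]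
      rfl
    have h5 := hfree _ _ hw h4
    exact (inv_mul_eq_one.mp h5).symm
  have hsc : ∀ x ∈ Subgroup.centralizer (N : Set H), ∀ v : V, ∃ c : ZMod p, ρ x v = c • v := by
    intro x hx v
    by_contra hcon
    push Not at hcon
    have hxn : ∀ n ∈ N, ∀ u : V, ρ n (ρ x u) = ρ x (ρ n u) := by
      intro n hn u
      rw [← LinearEquiv.mul_apply, ← LinearEquiv.mul_apply, ← map_mul, ← map_mul, (Subgroup.mem_centralizer_iff.mp hx) n hn]
    have hv : v ≠ 0 := by
      rintro rfl
      exact hcon 0 (by rw [map_zero, smul_zero])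
    have hli : LinearIndependent (ZMod p) ![v, ρ x v] := by
      rw [LinearIndependent.pair_iff' hv]
      intro a ha
      exact hcon a ha.symm
    have hspan : ∀ u : V, ∃ a b : ZMod p, u = a • v + b • ρ x v := by
      intro u
      have htop : Submodule.span (ZMod p) (Set.range ![v, ρ x v]) = ⊤ :=
        hli.span_eq_top_of_card_eq_finrank' (by rw [h2]; simp)
      have hu : u ∈ Submodule.span (ZMod p) (Set.range ![v, ρ x v]) := by rw [htop]; exact Submodule.mem_top
      rw [Matrix.range_cons, Matrix.range_cons, Matrix.range_empty, Set.union_empty, Set.singleton_union,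
        Submodule.mem_span_pair] at hu
      obtain ⟨a, b, h⟩ := hu
      exact ⟨a, b, h.symm⟩
    apply hNna
    refine ⟨⟨fun m n => Subtype.ext ?_⟩⟩
    apply heq (m : H) (n : H) v hv
    obtain ⟨a, b, hm⟩ := hspan (ρ m v)
    obtain ⟨c, d, hn⟩ := hspan (ρ n v)
    rw [map_mul, map_mul, LinearEquiv.mul_apply, LinearEquiv.mul_apply, hm, hn, map_add, map_add, map_smul, map_smul,
      map_smul, map_smul, hxn m m.2, hxn n n.2, hm, hn, map_add, map_add, map_smul, map_smul, map_smul, map_smul]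
    simp only [smul_add, smul_smul]
    rw [mul_comm c a, mul_comm c b, mul_comm d a, mul_comm d b]
    abel
  obtain ⟨v, hv⟩ := exists_ne (0 : V)
  refine ⟨⟨fun x y => Subtype.ext ?_⟩⟩
  apply heq (x : H) (y : H) v hv
  obtain ⟨c, hc⟩ := hsc x x.2 v
  obtain ⟨d, hd⟩ := hsc y y.2 v
  rw [map_mul, map_mul, LinearEquiv.mul_apply, LinearEquiv.mul_apply, hd, hc, map_smul, map_smul, hc, hd,
    smul_comm]

end

/-- In a linear group over the prime field that is regular on non-zero vectors and has no irreducible cyclic normal subgroup, a normal subgroup `N` minimal among the non-abelian normal subgroups centralising a maximal normal abelian subgroup `A` is irreducible on `V`, and its centraliser is `A`. -/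
theorem result {p : ℕ} [Fact p.Prime] {V : Type*} [AddCommGroup V] [Module (ZMod p) V] [Finite V] (H : Subgroup (V ≃ₗ[ZMod p] V)) (hreg : ∀ v w : V, v ≠ 0 → w ≠ 0 → ∃! h : H, (h : V ≃ₗ[ZMod p] V) v = w) (hI : ∀ A : Subgroup H, A.Normal → IsCyclic A → ∃ W : Submodule (ZMod p) V, W ≠ ⊥ ∧ W ≠ ⊤ ∧ ∀ a ∈ A, ∀ v ∈ W, ((a : H) : V ≃ₗ[ZMod p] V) v ∈ W) (A : Subgroup H) (hAn : A.Normal) (hAc : IsMulCommutative A) (hAmax : ∀ B : Subgroup H, B.Normal → IsMulCommutative B → A ≤ B → B = A) (N : Subgroup H) (hNn : N.Normal) (hNle : N ≤ Subgroup.centralizer (A : Set H)) (hNna : ¬ IsMulCommutative N) (hNmin : ∀ M : Subgroup H, M.Normal → M ≤ N → ¬ IsMulCommutative M → M = N) : (∀ W : Submodule (ZMod p) V, (∀ n ∈ N, ∀ v ∈ W, ((n : H) : V ≃ₗ[ZMod p] V) v ∈ W) → W = ⊥ ∨ W = ⊤) ∧ Subgroup.centralizer (N : Set H) = A := by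
  have hfree : ∀ (h : H) (v : V), v ≠ 0 → H.subtype h v = v → h = 1 := by
    intro a v hv h
    obtain ⟨_, _, huniq⟩ := hreg v v hv hv
    rw [huniq a h, huniq 1 rfl]
  have : Finite (V ≃ₗ[ZMod p] V) := Finite.of_injective (fun f : V ≃ₗ[ZMod p] V => (f : V → V)) DFunLike.coe_injective
  have hcard : Nat.card V = 25 ∨ Nat.card V = 49 ∨ Nat.card V = 121 ∨ Nat.card V = 529 ∨ Nat.card V = 841 ∨
      Nat.card V = 3481 := by
    by_cases hsolv : Group.IsSolvable H
    · rcases Cfsg.Agent.S0688.result H hreg hI hsolv with h | h | h | h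
      · exact Or.inl h
      · exact Or.inr (Or.inl h)
      · exact Or.inr (Or.inr (Or.inl h))
      · exact Or.inr (Or.inr (Or.inr (Or.inl h)))
    · rcases CfsgLib.H6Zas.sharp_nonsolv H.subtype H.subtype_injective hreg hsolv with h | h | h
      · exact Or.inr (Or.inr (Or.inl h.1))
      · exact Or.inr (Or.inr (Or.inr (Or.inr (Or.inl h.1))))
      · exact Or.inr (Or.inr (Or.inr (Or.inr (Or.inr h.1))))
  have h2 := card_sq (p := p) hcard
  have := hNn
  refine ⟨fun W hW => irr H.subtype hfree h2 N hNna W hW, ?_⟩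
  apply hAmax
  · infer_instance
  · exact cent_comm H.subtype hfree h2 N hNna
  · exact Subgroup.le_centralizer_iff.mp hNle

end Cfsg.Agent.S0687
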