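import Cfsg.Statements.S0693
import Mathlib
import Cfsg.Agent.LibGL2List
-- import your own Cfsg.Agent.* helpers here

set_option autoImplicit false
open Cfsg

namespace Cfsg.Agent.S0693

open CfsgLib.GL2List Matrix

def gens : List Q := [(0, 58, 1, 0), (9, 15, 49, 49)]

def W : List (List ℕ) := [[], [0], [1], [0, 0], [0, 1], [1, 0], [1, 1], [0, 0, 0], [0, 0, 1], [0, 1, 0], [0, 1, 1], [1, 0, 1], [1, 1, 0], [0, 0, 0, 1], [0, 0, 1, 0], [0, 0, 1, 1], [0, 1, 0, 1], [0, 1, 1, 0], [1, 0, 1, 0], [1, 0, 1, 1], [1, 1, 0, 1], [0, 0, 0, 1, 0], [0, 0, 0, 1, 1], [0, 0, 1, 0, 1], [0, 0, 1, 1, 0], [0, 1, 0, 1, 0], [0, 1, 0, 1, 1], [0, 1, 1, 0, 1], [1, 0, 1, 0, 1], [1, 0, 1, 1, 0], [1, 1, 0, 1, 0], [1, 1, 0, 1, 1], [0, 0, 0, 1, 0, 1], [0, 0, 0, 1, 1, 0], [0, 0, 1, 0, 1, 0], [0, 0, 1, 0, 1, 1], [0, 0, 1, 1, 0, 1], [0, 1, 0, 1, 0, 1], [0, 1, 0, 1, 1, 0], [0,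 1, 1, 0, 1, 0], [0, 1, 1, 0, 1, 1], [1, 0, 1, 0, 1, 1], [1, 0, 1, 1, 0, 1], [1, 1, 0, 1, 0, 1], [0, 0, 0, 1, 0, 1, 0], [0, 0, 0, 1, 0, 1, 1], [0, 0, 0, 1, 1, 0, 1], [0, 0, 1, 0, 1, 0, 1], [0, 0, 1, 0, 1, 1, 0], [0, 0, 1, 1, 0, 1, 0], [0, 0, 1, 1, 0, 1, 1], [0, 1, 0, 1, 0, 1, 1], [0, 1, 0, 1, 1, 0, 1], [0, 1, 1, 0, 1, 0, 1], [1, 0, 1, 0, 1, 1, 0], [1, 0, 1, 1, 0, 1, 0], [1, 0, 1, 1, 0, 1, 1], [1, 1, 0, 1, 0, 1, 1], [0, 0, 0, 1, 0, 1, 0, 1], [0, 0, 0, 1, 0, 1, 1, 0], [0, 0, 0, 1, 1, 0, 1, 0], [0, 0, 0, 1, 1, 0, 1, 1], [0, 0, 1, 0, 1, 0, 1, 1], [0, 0, 1, 0, 1, 1, 0, 1], [0, 0, 1, 1, 0, 1, 0, 1], [0, 1, 0, 1, 0, 1, 1, 0], [0, 1, 0, 1, 1, 0, 1, 0], [0, 1, 0, 1, 1, 0, 1, 1], [0, 1, 1, 0, 1, 0, 1, 1], [1, 0, 1, 0, 1, 1, 0, 1], [1, 0, 1, 1, 0, 1, 0, 1], [1, 1, 0, 1, 0, 1, 1, 0], [0, 0, 0, 1, 0, 1, 0, 1, 1], [0, 0, 0, 1, 0, 1, 1, 0, 1], [0, 0, 0,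 1, 1, 0, 1, 0, 1], [0, 0, 1, 0, 1, 0, 1, 1, 0], [0, 0, 1, 0, 1, 1, 0, 1, 0], [0, 0, 1, 0, 1, 1, 0, 1, 1], [0, 0, 1, 1, 0, 1, 0, 1, 1], [0, 1, 0, 1, 0, 1, 1, 0, 1], [0, 1, 0, 1, 1, 0, 1, 0, 1], [0, 1, 1, 0, 1, 0, 1, 1, 0], [1, 0, 1, 0, 1, 1, 0, 1, 0], [1, 0, 1, 0, 1, 1, 0, 1, 1], [1, 0, 1, 1, 0, 1, 0, 1, 1], [1, 1, 0, 1, 0, 1, 1, 0, 1], [0, 0, 0, 1, 0, 1, 0, 1, 1, 0], [0, 0, 0, 1, 0, 1, 1, 0, 1, 0], [0, 0, 0, 1, 0, 1, 1, 0, 1, 1], [0, 0, 0, 1, 1, 0, 1, 0, 1, 1], [0, 0, 1, 0, 1, 0, 1, 1, 0, 1], [0, 0, 1, 0, 1, 1, 0, 1, 0, 1], [0, 0, 1, 1, 0, 1, 0, 1, 1, 0], [0, 1, 0, 1, 0, 1, 1, 0, 1, 0], [0, 1, 0, 1, 0, 1, 1, 0, 1, 1], [0, 1, 0, 1, 1, 0, 1, 0, 1, 1], [0, 1, 1, 0, 1, 0, 1, 1, 0, 1], [1, 0, 1, 0, 1, 1, 0, 1, 0, 1], [1, 0, 1, 1, 0, 1, 0, 1, 1, 0], [1, 1, 0, 1, 0, 1, 1, 0, 1, 0], [0, 0, 0, 1, 0, 1, 0, 1, 1, 0, 1], [0, 0, 0, 1, 0, 1, 1, 0, 1,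 0, 1], [0, 0, 1, 0, 1, 0, 1, 1, 0, 1, 0], [0, 0, 1, 0, 1, 0, 1, 1, 0, 1, 1], [0, 0, 1, 0, 1, 1, 0, 1, 0, 1, 1], [0, 0, 1, 1, 0, 1, 0, 1, 1, 0, 1], [0, 1, 0, 1, 1, 0, 1, 0, 1, 1, 0], [0, 1, 1, 0, 1, 0, 1, 1, 0, 1, 0], [1, 0, 1, 0, 1, 1, 0, 1, 0, 1, 1], [1, 0, 1, 1, 0, 1, 0, 1, 1, 0, 1], [1, 1, 0, 1, 0, 1, 1, 0, 1, 0, 1], [0, 0, 0, 1, 0, 1, 0, 1, 1, 0, 1, 0], [0, 0, 0, 1, 0, 1, 0, 1, 1, 0, 1, 1], [0, 0, 0, 1, 0, 1, 1, 0, 1, 0, 1, 1], [0, 0, 1, 1, 0, 1, 0, 1, 1, 0, 1, 0], [0, 1, 0, 1, 1, 0, 1, 0, 1, 1, 0, 1], [0, 1, 1, 0, 1, 0, 1, 1, 0, 1, 0, 1], [1, 0, 1, 0, 1, 1, 0, 1, 0, 1, 1, 0], [1, 0, 1, 1, 0, 1, 0, 1, 1, 0, 1, 0], [1, 1, 0, 1, 0, 1, 1, 0, 1, 0, 1, 1]]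

instance : Fact (Nat.Prime 59) := ⟨by norm_num⟩

theorem one_mem' : (1, 0, 0, 1) ∈ W.map (eval 59 gens) := by decide +kernel

theorem red' : ∀ x ∈ W.map (eval 59 gens), isRed 59 x = true := by decide +kernel

theorem mul' : ∀ x ∈ W.map (eval 59 gens), ∀ y ∈ gens, mul 59 x y ∈ W.map (eval 59 gens) := by decide +kernel

theorem nodup' : (W.map (eval 59 gens)).Nodup := by decide +kernel

theorem free' : ∀ x ∈ W.map (eval 59 gens), ∀ i < 29, (i ≠ 0 ∨ x ≠ (1, 0, 0, 1)) →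
    (4 ^ i * x.1 * (4 ^ i * x.2.2.2) + 1) % 59 ≠ (4 ^ i * x.2.1 * (4 ^ i * x.2.2.1) + 4 ^ i * x.1 + 4 ^ i * x.2.2.2) % 59 := by
  decide +kernel

/-- An exceptional sharply doubly transitive group of degree 59^2: the listed matrices generate a subgroup of GL(2,59) of order 3480 acting regularly on the non-zero vectors. -/
theorem result (A : Matrix.GeneralLinearGroup (Fin 2) (ZMod 59)) (B : Matrix.GeneralLinearGroup (Fin 2) (ZMod 59)) (C : Matrix.GeneralLinearGroup (Fin 2) (ZMod 59)) (hA : (A : Matrix (Fin 2) (Fin 2) (ZMod 59)) = !![0, -1; 1, 0]) (hB : (B : Matrix (Fin 2) (Fin 2) (ZMod 59)) = !![9, 15; -10, -10]) (hC : (C : Matrix (Fin 2) (Fin 2) (ZMod 59)) = !![4, 0; 0, 4]) : Nat.card (Subgroup.closure ({A, B, C} : Set (Matrix.GeneralLinearGroup (Fin 2) (ZMod 59)))) = 3480 ∧ ∀ v w : Fin 2 → ZMod 59, v ≠ 0 → w ≠ 0 → ∃! h : Subgroup.closure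 ({A, B, C} : Set (Matrix.GeneralLinearGroup (Fin 2) (ZMod 59))), Matrix.mulVec ((h : Matrix.GeneralLinearGroup (Fin 2) (ZMod 59)) : Matrix (Fin 2) (Fin 2) (ZMod 59)) v = w := by
  have hgA : (A : Matrix (Fin 2) (Fin 2) (ZMod 59)) = toM 59 (0, 58, 1, 0) := by rw [hA]; decide +kernel
  have hgB : (B : Matrix (Fin 2) (Fin 2) (ZMod 59)) = toM 59 (9, 15, 49, 49) := by rw [hB]; decide +kernel
  have hS : ∀ s ∈ ({A, B} : Set (Matrix.GeneralLinearGroup (Fin 2) (ZMod 59))), ∃ x ∈ gens, (s : Matrix (Fin 2) (Fin 2) (ZMod 59)) = toM 59 x := by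
    rintro s (rfl | rfl)
    · exact ⟨_, by simp [gens], hgA⟩
    · exact ⟨_, by simp [gens], hgB⟩
  have hS' : ∀ x ∈ gens, ∃ s ∈ ({A, B} : Set (Matrix.GeneralLinearGroup (Fin 2) (ZMod 59))), (s : Matrix (Fin 2) (Fin 2) (ZMod 59)) = toM 59 x := by
    intro x hx
    simp only [gens, List.mem_cons, List.not_mem_nil, or_false] at hx
    rcases hx with rfl | rfl
    · exact ⟨A, by simp, hgA⟩
    · exact ⟨B, by simp, hgB⟩
  have hcard := card_closure ({A, B} : Set (Matrix.GeneralLinearGroup (Fin 2) (ZMod 59))) gens W hS hS' one_mem' red' mul' nodup'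
  have hW : W.length = 120 := by decide +kernel
  rw [hW] at hcard
  have hCm : (C : Matrix (Fin 2) (Fin 2) (ZMod 59)) = (4 : ZMod 59) • (1 : Matrix (Fin 2) (Fin 2) (ZMod 59)) := by
    rw [hC]; ext i j; fin_cases i <;> fin_cases j <;> simp
  have hCpow : ∀ i : ℕ, ((C ^ i : Matrix.GeneralLinearGroup (Fin 2) (ZMod 59)) : Matrix (Fin 2) (Fin 2) (ZMod 59)) = ((4 : ZMod 59) ^ i) • (1 : Matrix (Fin 2) (Fin 2) (ZMod 59)) := by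
    intro i
    rw [Units.val_pow_eq_pow_val, hCm, smul_pow, one_pow]
  have hC29 : C ^ 29 = 1 := by
    apply Units.ext
    rw [hCpow, show (4 : ZMod 59) ^ 29 = 1 by decide +kernel, one_smul]; rfl
  have hCne : C ≠ 1 := by
    intro h
    have h1 := congrArg (fun g : Matrix.GeneralLinearGroup (Fin 2) (ZMod 59) => (g : Matrix (Fin 2) (Fin 2) (ZMod 59)) 0 0) h
    simp only [hC] at h1
    revert h1; decide +kernel
  have hord : orderOf C = 29 := orderOf_eq_prime (hp := ⟨by norm_num⟩) hC29 hCne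
  have hCcomm : ∀ g : Matrix.GeneralLinearGroup (Fin 2) (ZMod 59), g * C = C * g := by
    intro g
    apply Units.ext
    rw [Units.val_mul, Units.val_mul, hCm, Matrix.mul_smul, Matrix.smul_mul, mul_one, one_mul]
  have hZn : (Subgroup.zpowers C).Normal := by
    constructor
    intro z hz g
    obtain ⟨k, rfl⟩ := hz
    have : g * C ^ k * g⁻¹ = C ^ k := by
      have h1 : Commute g C := hCcomm g
      rw [(h1.zpow_right k).eq, mul_inv_cancel_right]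
    simp only at this ⊢
    rw [this]
    exact ⟨k, rfl⟩
  have hK : Subgroup.closure ({A, B, C} : Set (Matrix.GeneralLinearGroup (Fin 2) (ZMod 59))) = Subgroup.closure {A, B} ⊔ Subgroup.zpowers C := by
    rw [Subgroup.zpowers_eq_closure, ← Subgroup.closure_union]
    congr 1
    ext x
    simp only [Set.mem_insert_iff, Set.mem_singleton_iff, Set.mem_union]
    tauto
  -- every element
  have hmem : ∀ g ∈ Subgroup.closure ({A, B, C} : Set (Matrix.GeneralLinearGroup (Fin 2) (ZMod 59))), ∃ h ∈ Subgroup.closure ({A, B} : Set (Matrix.GeneralLinearGroup (Fin 2) (ZMod 59))), ∃ i < 29, g = h * C ^ i := by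
    intro g hg
    rw [hK] at hg
    obtain ⟨h, hh, z, hz, rfl⟩ := Subgroup.mem_sup_of_normal_right.mp hg
    have hz' : z ∈ Submonoid.powers C := (isOfFinOrder_of_finite C).mem_powers_iff_mem_zpowers.mpr hz
    obtain ⟨k, rfl⟩ := hz'
    refine ⟨h, hh, k % 29, Nat.mod_lt _ (by norm_num), ?_⟩
    have := pow_mod_orderOf C k
    rw [hord] at this
    rw [this]
  have hcardK : Nat.card (Subgroup.closure ({A, B, C} : Set (Matrix.GeneralLinearGroup (Fin 2) (ZMod 59)))) = 3480 := by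
    apply le_antisymm
    · have hle : Nat.card (Subgroup.closure ({A, B, C} : Set (Matrix.GeneralLinearGroup (Fin 2) (ZMod 59)))) ≤ Nat.card (Subgroup.closure ({A, B} : Set (Matrix.GeneralLinearGroup (Fin 2) (ZMod 59))) × Fin 29) := by
        choose f hf i hi hfi using (fun g : Subgroup.closure ({A, B, C} : Set (Matrix.GeneralLinearGroup (Fin 2) (ZMod 59))) => hmem g g.2)
        apply Nat.card_le_card_of_injective (fun g => ((⟨f g, hf g⟩ : Subgroup.closure ({A, B} : Set (Matrix.GeneralLinearGroup (Fin 2) (ZMod 59)))), (⟨i g, hi g⟩ : Fin 29)))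
        intro g g' hgg
        simp only [Prod.mk.injEq, Subtype.mk.injEq, Fin.mk.injEq] at hgg
        apply Subtype.ext
        rw [hfi g, hfi g', hgg.1, hgg.2]
      rw [Nat.card_prod, hcard, Nat.card_fin] at hle
      exact hle
    · apply Nat.le_of_dvd Nat.card_pos
      have h1 : 120 ∣ Nat.card (Subgroup.closure ({A, B, C} : Set (Matrix.GeneralLinearGroup (Fin 2) (ZMod 59)))) := by
        rw [← hcard, hK]
        exact Subgroup.card_dvd_of_le le_sup_left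
      have h2 : 29 ∣ Nat.card (Subgroup.closure ({A, B, C} : Set (Matrix.GeneralLinearGroup (Fin 2) (ZMod 59)))) := by
        rw [← hord, ← Nat.card_zpowers, hK]
        exact Subgroup.card_dvd_of_le le_sup_right
      exact Nat.Coprime.mul_dvd_of_dvd_of_dvd (by norm_num) h1 h2
  refine ⟨hcardK, fun v w hv hw => ?_⟩
  apply regular_of_free _ _ (by rw [hcardK]; norm_num) v w hv hw
  intro g hg u hu hgu
  obtain ⟨h, hh, i, hi, rfl⟩ := hmem g hg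
  obtain ⟨x, hx, hhx⟩ := closure_sub _ gens _ hS one_mem' red' mul' h hh
  by_cases hx1 : i = 0 ∧ x = (1, 0, 0, 1)
  · apply Units.ext
    rw [hx1.1, pow_zero, mul_one, hhx, hx1.2, toM_one]; rfl
  · exfalso
    have h1 := fixed_det hu hgu
    rw [Units.val_mul, hCpow, hhx, Matrix.mul_smul, mul_one] at h1
    simp only [toM, Matrix.smul_apply, smul_eq_mul, Matrix.of_apply, Matrix.cons_val', Matrix.cons_val_zero, Matrix.cons_val_one, Matrix.cons_val_fin_one] at h1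
    apply free' x hx i hi (by tauto)
    have h2 : ((4 ^ i * x.1 * (4 ^ i * x.2.2.2) + 1 : ℕ) : ZMod 59) = ((4 ^ i * x.2.1 * (4 ^ i * x.2.2.1) + 4 ^ i * x.1 + 4 ^ i * x.2.2.2 : ℕ) : ZMod 59) := by
      push_cast; exact h1
    exact (ZMod.natCast_eq_natCast_iff' _ _ _).mp h2

end Cfsg.Agent.S0693
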