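import Cfsg.Statements.S0721
import Mathlib
import Cfsg.Agent.LibH14MinNorm
-- import your own Cfsg.Agent.* helpers here

set_option autoImplicit false
open Cfsg

namespace Cfsg.Agent.S0721

open CfsgLib.SolvMin CfsgLib.H14MinNorm Pointwise

/-- the isomorphism `(Fin k → T) × T ≃* (Fin (k+1) → T)`. -/
def consEquiv (T : Type*) [Group T] (k : ℕ) : ((Fin k → T) × T) ≃* (Fin (k + 1) → T) where
  toFun p := Fin.cons p.2 p.1
  invFun f := (fun i => f i.succ, f 0)
  left_inv p := by
    ext <;> simp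
  right_inv f := by
    funext i
    refine Fin.cases ?_ (fun j => ?_) i
    · simp
    · simp
  map_mul' p q := by
    funext i
    refine Fin.cases ?_ (fun j => ?_) i
    · simp
    · simp

theorem prod_iso {G : Type*} [Group G] (L S : Subgroup G) (hcomm : ∀ x ∈ L, ∀ y ∈ S, x * y = y * x)
    (hdisj : L ⊓ S = ⊥) : Nonempty (L × S ≃* (L ⊔ S : Subgroup G)) := by
  have hc : ∀ (m : L) (n : S), Commute (L.subtype m) (S.subtype n) :=
    fun m n => hcomm m m.2 n n.2
  have hinj : Function.Injective (MonoidHom.noncommCoprod L.subtype S.subtype hc) := by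
    rw [MonoidHom.noncommCoprod_injective]
    refine ⟨L.subtype_injective, S.subtype_injective, ?_⟩
    rw [Subgroup.range_subtype, Subgroup.range_subtype]
    exact disjoint_iff.mpr hdisj
  have hr : (MonoidHom.noncommCoprod L.subtype S.subtype hc).range = L ⊔ S := by
    rw [MonoidHom.noncommCoprod_range, Subgroup.range_subtype, Subgroup.range_subtype]
  exact ⟨(MonoidHom.ofInjective hinj).trans (MulEquiv.subgroupCongr hr)⟩

theorem main {H : Type*} [Group H] [Finite H] {N T : Subgroup H} (hN : IsMinNormal N)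
    (hT : IsFactor N T) : ∃ k, Nonempty (N ≃* (Fin k → T)) := by
  have hfin : ({L : Subgroup H | L ≤ N ∧ (∀ n ∈ N, ∀ l ∈ L, n * l * n⁻¹ ∈ L) ∧
    ∃ k, Nonempty (L ≃* (Fin k → T))}).Finite := Set.toFinite _
  have hne : ({L : Subgroup H | L ≤ N ∧ (∀ n ∈ N, ∀ l ∈ L, n * l * n⁻¹ ∈ L) ∧
    ∃ k, Nonempty (L ≃* (Fin k → T))}).Nonempty := by
    refine ⟨⊥, bot_le, ?_, 0, ?_⟩
    · intro n _ l hl
      rw [Subgroup.mem_bot] at hl ⊢
      rw [hl]; group
    · exact ⟨MulEquiv.ofUnique⟩
  obtain ⟨L, hL⟩ := hfin.exists_maximal hne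
  obtain ⟨⟨hLN, hLinv, k, ⟨e⟩⟩, hmax⟩ := hL
  have hall : ∀ g : H, MulAut.conj g • T ≤ L := by
    intro g
    by_contra hgL
    have hS := hT.conj hN.1 g
    have hdisj : L ⊓ (MulAut.conj g • T) = ⊥ := by
      by_contra hc
      have := hS.min (L ⊓ (MulAut.conj g • T)) inf_le_right hc
        (fun n hn x hx => ⟨hLinv n hn x hx.1, hS.inv n hn x hx.2⟩)
      apply hgL
      rw [← this]
      exact inf_le_left
    have hcomm : ∀ x ∈ L, ∀ y ∈ MulAut.conj g • T, x * y = y * x := by
      intro x hx y hy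
      have h1 : x * y * x⁻¹ * y⁻¹ ∈ L ⊓ (MulAut.conj g • T) := by
        constructor
        · have h2 : x * y * x⁻¹ * y⁻¹ = x * (y * x⁻¹ * y⁻¹) := by group
          rw [h2]
          exact L.mul_mem hx (hLinv y (hS.le hy) _ (L.inv_mem hx))
        · exact (MulAut.conj g • T).mul_mem (hS.inv x (hLN hx) y hy)
            ((MulAut.conj g • T).inv_mem hy)
      rw [hdisj, Subgroup.mem_bot, mul_inv_eq_one, mul_inv_eq_iff_eq_mul] at h1
      exact h1
    obtain ⟨f⟩ := prod_iso L (MulAut.conj g • T) hcomm hdisj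
    have eT : (MulAut.conj g • T : Subgroup H) ≃* T := (Subgroup.equivSMul (MulAut.conj g) T).symm
    have hmem : (L ⊔ (MulAut.conj g • T)) ∈ {L : Subgroup H | L ≤ N ∧
        (∀ n ∈ N, ∀ l ∈ L, n * l * n⁻¹ ∈ L) ∧ ∃ k, Nonempty (L ≃* (Fin k → T))} := by
      refine ⟨sup_le hLN hS.le, ?_, k + 1, ⟨f.symm.trans ((MulEquiv.prodCongr e eT).trans
        (consEquiv T k))⟩⟩
      intro n hn l hl
      have hnl : MulAut.conj n • (L ⊔ (MulAut.conj g • T)) ≤ L ⊔ (MulAut.conj g • T) := by
        rw [Subgroup.smul_sup]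
        apply sup_le_sup
        · intro x hx
          rw [mem_conj] at hx
          have := hLinv n hn _ hx
          have h2 : n * (n⁻¹ * x * n) * n⁻¹ = x := by group
          rwa [h2] at this
        · intro x hx
          rw [mem_conj] at hx
          have := hS.inv n hn _ hx
          have h2 : n * (n⁻¹ * x * n) * n⁻¹ = x := by group
          rwa [h2] at this
      apply hnl
      rw [mem_conj]
      have h2 : n⁻¹ * (n * l * n⁻¹) * n = l := by group
      rwa [h2]
    exact hgL (le_sup_right.trans (hmax hmem le_sup_left))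
  have hLN' : L = N := by
    apply le_antisymm hLN
    refine (le_sup_cofactor hN hT).trans (sup_le ?_ (iSup_le fun g => hall g))
    have := hall 1
    rwa [map_one, one_smul] at this
  subst hLN'
  exact ⟨k, ⟨e⟩⟩

/-- A minimal normal subgroup of a finite group is isomorphic to a direct power `T ^ m` of a simple group `T` (possibly of prime order). -/
theorem result {H : Type*} [Group H] [Finite H] (N : Subgroup H) [N.Normal] (hN : N ≠ ⊥) (hmin : ∀ M : Subgroup H, M.Normal → M ≤ N → M = ⊥ ∨ M = N) : ∃ (T : Type) (_ : Group T) (m : ℕ), IsSimpleGroup T ∧ 0 < m ∧ Nonempty (N ≃* (Fin m → T)) := by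
  have hN' : CfsgLib.SolvMin.IsMinNormal N := ⟨inferInstance, hN, fun M' h1 h2 => hmin M' h1 h2⟩
  obtain ⟨T, hT⟩ := CfsgLib.H14MinNorm.exists_factor N hN
  have hs := CfsgLib.H14MinNorm.factor_simple hN' hT
  obtain ⟨k, ⟨e⟩⟩ := main hN' hT
  let E : Shrink.{0} T ≃* T := Shrink.mulEquiv
  refine ⟨Shrink.{0} T, inferInstance, k, ?_, ?_, ?_⟩
  · exact IsSimpleGroup.isSimpleGroup_of_surjective E.symm.toMonoidHom E.symm.surjective
  · rcases Nat.eq_zero_or_pos k with h | h
    · exfalso
      apply hN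
      subst h
      have : Subsingleton N := e.toEquiv.subsingleton
      rw [eq_bot_iff]
      intro x hx
      rw [Subgroup.mem_bot]
      exact congrArg Subtype.val (Subsingleton.elim (⟨x, hx⟩ : N) 1)
    · exact h
  · exact ⟨e.trans (MulEquiv.piCongrRight (fun _ => E.symm))⟩

end Cfsg.Agent.S0721
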