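import Cfsg.Statements.S0730
import Cfsg.Agent.LibSharp20b

set_option autoImplicit false
set_option linter.all false
open Cfsg

namespace Cfsg.Agent.S0730

/-- A sharply triply transitive group of degree `p^f + 1`, `p` an odd prime and `f` odd, is isomorphic to the projective general linear group of degree 2 over the field with `p^f` elements (for even `f` there is a second, twisted, group). -/
theorem result {α : Type*} [Fintype α] [DecidableEq α] {p f : ℕ} (hp : p.Prime) (hp2 : p ≠ 2) (hfo : Odd f) (hα : Fintype.card α = p ^ f + 1) (G : Subgroup (Equiv.Perm α)) (h3 : MulAction.IsMultiplyPretransitive G α 3) (hsharp : ∀ x : Fin 3 ↪ α, MulAction.stabilizer G x = ⊥) : ∃ (F : Type) (_ : Field F) (_ : Fintype F), Fintype.card F = p ^ f ∧ Nonempty (G ≃* Matrix.ProjGenLinGroup (Fin 2) F) := by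
  classical
  haveI : Finite G := inferInstance
  have hp3 : 3 ≤ p := by
    have h1 := hp.two_le
    omega
  have S := CfsgLib.Sharp20.Sharp.of h3 hsharp
  by_cases hf1 : f = 1
  · subst hf1
    rw [pow_one] at hα
    haveI := Fact.mk hp
    haveI : Nonempty α := Fintype.card_pos_iff.mp (by omega)
    obtain ⟨a⟩ : Nonempty α := inferInstance
    obtain ⟨b, hab, -⟩ := S.exists_third (by omega) a a
    haveI : MulAction.IsPretransitive G α := ⟨fun x y => by
      obtain ⟨x', hx, -⟩ := S.exists_third (by omega) x x
      obtain ⟨y', hy, -⟩ := S.exists_third (by omega) y y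
      obtain ⟨g, hg, -⟩ := S.two (by omega) hx hy
      exact ⟨g, hg⟩⟩
    have hE := S.card_E (by omega) hab
    -- order
    have hst : Nat.card (MulAction.stabilizer G a) = p * (p - 1) := by
      have h1 := (MulAction.stabilizer (MulAction.stabilizer G a) b).index_mul_card
      rw [MulAction.index_stabilizer] at h1
      have h2 : MulAction.orbit (MulAction.stabilizer G a) b = Set.univ \ {a} := by
        apply Set.eq_of_subset_of_subset
        · rintro x ⟨v, rfl⟩
          refine ⟨trivial, ?_⟩
          intro h4
          apply hab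
          have h5 : (v : G) • b = a := h4
          have h6 : (v : G) • a = a := v.2
          exact MulAction.injective (v : G) (h6.trans h5.symm)
        · rintro x ⟨-, hx⟩
          obtain ⟨g, hg1, hg2⟩ := S.two (by omega) hab (Ne.symm (show x ≠ a from hx))
          exact ⟨⟨g, hg1⟩, hg2⟩
      rw [h2, Set.ncard_sdiff (Set.subset_univ _) (Set.toFinite _), Set.ncard_univ, Nat.card_eq_fintype_card, hα, Set.ncard_singleton,
        Nat.add_sub_cancel] at h1
      have h3 : Nat.card (MulAction.stabilizer (MulAction.stabilizer G a) b) = Nat.card (CfsgLib.Zas.EE G a b) := by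
        refine Nat.card_congr ⟨fun g => ⟨((g : MulAction.stabilizer G a) : G), (g : MulAction.stabilizer G a).2, g.2⟩,
          fun g => ⟨⟨(g : G), g.2.1⟩, g.2.2⟩, fun g => rfl, fun g => rfl⟩
      rw [h3] at h1
      rw [← h1]
      congr 1
      omega
    have hG : Nat.card G = (p + 1) * p * (p - 1) := by
      have h1 := (MulAction.stabilizer G a).index_mul_card
      rw [MulAction.index_stabilizer_of_transitive, Nat.card_eq_fintype_card, hα, hst, ← mul_assoc] at h1
      exact h1.symm
    obtain ⟨P, PD⟩ := CfsgLib.PpOne20.exists_PD hp hα hG (by omega) a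
    obtain ⟨z, hz, hz1⟩ : ∃ z ∈ P, z ≠ 1 := by
      by_contra hcon
      push Not at hcon
      have h1 : P = ⊥ := by rw [eq_bot_iff]; intro u hu; exact Subgroup.mem_bot.mpr (hcon u hu)
      have h2 := PD.hPc
      rw [h1, Subgroup.card_bot] at h2
      omega
    exact ⟨ZMod p, inferInstance, inferInstance, by rw [ZMod.card, pow_one], PD.pgl hab.symm hz hz1 hα hst⟩
  · have h5 : 5 ≤ Fintype.card α := by
      rw [hα]
      have hf2 : 2 ≤ f := by
        obtain ⟨k, hk⟩ := hfo
        omega
      have h1 : p ^ 2 ≤ p ^ f := Nat.pow_le_pow_right (by omega) hf2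
      nlinarith
    exact CfsgLib.Sharp20.main_odd S hp hp2 hfo hα h5

end Cfsg.Agent.S0730
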