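import Cfsg.Statements.S0742
import Mathlib
import Cfsg.Agent.LibZas11e

set_option autoImplicit false
set_option linter.all false
open Cfsg

namespace Cfsg.Agent.S0742

/-- A finite Zassenhaus group of degree `n + 1` with two-point stabilisers of even order `d` satisfying `2d ≤ n - 1` has `n = p^f` for an odd prime `p` and is isomorphic to `PSL(2, p^f)`. -/
theorem result {G Ω : Type*} [Group G] [Finite G] [MulAction G Ω] [Fintype Ω] (hZ : Cfsg.IsZassenhausGroup G Ω) {a b : Ω} (hab : a ≠ b) (heven : Even (Nat.card ↥(MulAction.stabilizer G a ⊓ MulAction.stabilizer G b))) (hd : 2 * Nat.card ↥(MulAction.stabilizer G a ⊓ MulAction.stabilizer G b) ≤ Fintype.card Ω - 2) : ∃ (p f : ℕ) (K : Type) (_ : Field K) (_ : Fintype K), p.Prime ∧ p ≠ 2 ∧ Fintype.card K = p ^ f ∧ Fintype.card Ω = p ^ f + 1 ∧ Nonempty (G ≃* Matrix.ProjectiveSpecialLinearGroup (Fin 2) K) := by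
  classical
  obtain ⟨H, h1, h2, h3⟩ := CfsgLib.Zas.exists_H hZ (a := a)
  have D : CfsgLib.Zas.Dat G Ω a b H := ⟨hZ, hab, h1, h2, h3⟩
  have h4 := Cfsg.Agent.S0741.result hZ hab heven
  have h5 : Nat.card (CfsgLib.Zas.EE G a b) = Nat.card ↥(MulAction.stabilizer G a ⊓ MulAction.stabilizer G b) := rfl
  have h6 := D.two_le_EE
  have h7 : 2 * Nat.card (CfsgLib.Zas.EE G a b) + 1 = Nat.card H := by
    rw [h5] at h6 ⊢; omega
  obtain ⟨-, p, f, hp, -, hf⟩ := D.big_elem (by omega)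
  obtain ⟨F, i1, i2, hF, e⟩ := CfsgLib.Zas11.psl_half D h7
  refine ⟨p, f, F, i1, i2, hp, ?_, by rw [hF, hf], by rw [← h2, hf], e⟩
  rintro rfl
  have hf0 : f ≠ 0 := by
    rintro rfl
    rw [pow_zero] at hf; omega
  have : 2 ∣ Nat.card H := by rw [hf]; exact dvd_pow_self 2 hf0
  omega

end Cfsg.Agent.S0742
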