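import Cfsg.Statements.S0979
import Cfsg.Agent.LibBR11q
-- import your own Cfsg.Agent.* helpers here

set_option autoImplicit false
open Cfsg

namespace Cfsg.Agent.S0979

/-- No finite simple group has order 5472 = 2^5 * 3^2 * 19. -/
theorem result {G : Type*} [Group G] [Finite G] [IsSimpleGroup G] : Nat.card G ≠ 5472 := by
  intro h
  have hnc : ¬ IsCyclic G := by
    intro hc
    letI := IsCyclic.commGroup (α := G)
    have h1 : (Nat.card G).Prime := IsSimpleGroup.prime_card
    rw [h] at h1
    norm_num at h1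
  rcases CfsgLib.BR11.s0999 hnc (p := 19) (by norm_num) (by rw [h]; norm_num) (by rw [h]; norm_num) with
    ⟨F', iF, iFt, hFc, -, ⟨φ⟩⟩ | ⟨m, F', iF, iFt, hFc, hm, -, ⟨φ⟩⟩
  · have h1 := CfsgLib.BR11.card_psl_odd hFc (by norm_num) (by norm_num)
    rw [← Nat.card_congr φ.toEquiv, h] at h1
    norm_num at h1
  · have h1 : 2 ^ m = 18 := by omega
    have h3 : m < 5 := by
      by_contra hge
      have : 2 ^ 5 ≤ 2 ^ m := Nat.pow_le_pow_right (by norm_num) (by omega)
      omega
    interval_cases m <;> omega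


end Cfsg.Agent.S0979
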