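import Cfsg.Statements.S0981
import Cfsg.Agent.LibBR11q
-- import your own Cfsg.Agent.* helpers here

set_option autoImplicit false
open Cfsg

namespace Cfsg.Agent.S0981

/-- A simple group of order 4080 is isomorphic to the projective special linear group of dimension 2 over the field with 16 elements. -/
theorem result {G : Type*} [Group G] [Finite G] [IsSimpleGroup G] (h : Nat.card G = 4080) {F : Type*} [Field F] [Fintype F] (hF : Fintype.card F = 16) : Nonempty (G ≃* Matrix.ProjectiveSpecialLinearGroup (Fin 2) F) := by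
  have hnc : ¬ IsCyclic G := by
    intro hc
    letI := IsCyclic.commGroup (α := G)
    have h1 : (Nat.card G).Prime := IsSimpleGroup.prime_card
    rw [h] at h1
    norm_num at h1
  rcases CfsgLib.BR11.s0999 hnc (p := 17) (by norm_num) (by rw [h]; norm_num) (by rw [h]; norm_num) with
    ⟨F', iF, iFt, hFc, -, ⟨φ⟩⟩ | ⟨m, F', iF, iFt, hFc, hm, -, ⟨φ⟩⟩
  · exfalso
    have h1 := CfsgLib.BR11.card_psl_odd hFc (by norm_num) (by norm_num)
    rw [← Nat.card_congr φ.toEquiv, h] at h1
    norm_num at h1
  · have h1 : Fintype.card F' = Fintype.card F := by rw [hFc, hF]; omega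
    obtain ⟨e⟩ : Nonempty (F' ≃+* F) := ⟨FiniteField.ringEquivOfCardEq h1⟩
    exact ⟨φ.trans (CfsgLib.Dk29.pslCongr e)⟩


end Cfsg.Agent.S0981
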