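import Cfsg.Statements.S1135
import Mathlib
import Cfsg.Agent.LibRank1H12c

set_option autoImplicit false
open Cfsg

namespace Cfsg.Agent.S1135

open Cfsg Subgroup CfsgLib.Invol CfsgLib.FusionH12 CfsgLib.StrongH12 CfsgLib.Rank1H12


/-- In the rank-one set-up (`G` finite and doubly transitive on `Ω`, `t` an involution moving `a`, `Q` normal in `G_a` with `G_a = Q D`, `Q ⊓ D = 1` for the two-point stabiliser `D = G_a ⊓ G_{t • a}`, `|Q|` even, `|D|` odd), with the action faithful and `G` containing two distinct commuting involutions: if `x = u v` with `u, v` involutions and `x² ≠ 1`, then `x` is conjugate to `u' t` for some involution `u'` of `G_a`, and `|C_G(x)|` is odd. -/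
theorem result {G Ω : Type*} [Group G] [Finite G] [MulAction G Ω] [FaithfulSMul G Ω] {a : Ω} {t : G} {Q : Subgroup G}
    (hS : Cfsg.IsRankOneSetup G Ω a t Q)
    (h2 : ∃ x y : G, x ≠ 1 ∧ y ≠ 1 ∧ x ≠ y ∧ x * x = 1 ∧ y * y = 1 ∧ x * y = y * x)
    (u v : G) (hu1 : u ≠ 1) (hu2 : u * u = 1) (hv1 : v ≠ 1) (hv2 : v * v = 1) (hx : (u * v) * (u * v) ≠ 1) :
    (∃ g : G, ∃ u' ∈ Cfsg.involutionsIn (MulAction.stabilizer G a : Set G), g * (u * v) * g⁻¹ = u' * t) ∧
      Odd (Nat.card ↥(Subgroup.centralizer {u * v})) := by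
  have hu : orderOf u = 2 := orderOf_eq_two hu1 hu2
  have hv : orderOf v = 2 := orderOf_eq_two hv1 hv2
  have ht := t_order hS
  obtain ⟨zu, hzu, -⟩ := unique_fix' hS hu
  obtain ⟨zv, hzv, -⟩ := unique_fix' hS hv
  obtain ⟨b, hb, -⟩ := unique_fix' hS ht
  have hzu' : u • zu = zu := hzu
  have hzv' : v • zv = zv := hzv
  have hb' : t • b = b := hb
  have hne : zu ≠ zv := by
    rintro rfl
    obtain ⟨g, hg⟩ := trans hS zu a
    have h1 : g * u * g⁻¹ ∈ MulAction.stabilizer G a := by
      rw [MulAction.mem_stabilizer_iff, mul_smul, mul_smul, ← hg, inv_smul_smul, hzu']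
    have h3 : g * v * g⁻¹ ∈ MulAction.stabilizer G a := by
      rw [MulAction.mem_stabilizer_iff, mul_smul, mul_smul, ← hg, inv_smul_smul, hzv']
    have h4 := prod_invol hS h2 h1 (by rw [orderOf_conj, hu]) h3 (by rw [orderOf_conj, hv])
    apply hx
    calc (u * v) * (u * v) = g⁻¹ * (g * u * g⁻¹ * (g * v * g⁻¹) * (g * u * g⁻¹ * (g * v * g⁻¹))) * g := by group
      _ = 1 := by rw [h4]; group
  refine ⟨?_, ?_⟩
  · have hab : a ≠ b := by
      rintro rfl
      exact ta_ne hS hb'
    obtain ⟨g, h1, h3⟩ := two_trans hS hne hab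
    obtain ⟨w, hw, hwb⟩ : ∃ w : G, orderOf w = 2 ∧ w • b = a := by
      obtain ⟨k, hk1, hk2⟩ := two_trans hS (ta_ne hS).symm hab.symm
      refine ⟨k * t * k⁻¹, by rw [orderOf_conj, ht], ?_⟩
      rw [mul_smul, mul_smul, ← hk1, inv_smul_smul, hk2]
    obtain ⟨R, hR⟩ := exists_setup hS b hw (by rw [hwb]; exact hab)
    have h4 : g * v * g⁻¹ ∈ MulAction.stabilizer G b := by
      rw [MulAction.mem_stabilizer_iff, mul_smul, mul_smul, ← h3, inv_smul_smul, hzv']
    obtain ⟨d, hd, hdv⟩ := conj_transitive (strong hR) hw hR.not_mem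
      (by rw [orderOf_conj, hv] : orderOf (g * v * g⁻¹) = 2) h4 ht (MulAction.mem_stabilizer_iff.2 hb')
    obtain ⟨hd1, hd2⟩ := mem_inf.1 hd
    change d ∈ cj w _ at hd2
    rw [← stab_smul, hwb] at hd2
    refine ⟨d * g, d * (g * u * g⁻¹) * d⁻¹, ?_, ?_⟩
    · rw [mem_involutionsIn]
      refine ⟨mul_mem (mul_mem hd2 ?_) (inv_mem hd2), by rw [orderOf_conj, orderOf_conj, hu]⟩
      rw [MulAction.mem_stabilizer_iff, mul_smul, mul_smul, ← h1, inv_smul_smul, hzu']
    · rw [← hdv]; group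
  · apply odd_card_of_forall
    intro w hw hw2
    rw [mem_centralizer_singleton_iff] at hw
    obtain ⟨z, hz, -⟩ := unique_fix' hS hw2
    have hz' : w • z = z := hz
    have hxz : (u * v) • z = z := fix_of_comm hS hw2 hz' (Commute.symm hw)
    have hvz : v • z = u • z := by
      rw [mul_smul] at hxz
      calc v • z = u • u • v • z := by rw [smul_smul u u, hu2, one_smul]
        _ = u • z := by rw [hxz]
    have huz : u • z ≠ z := by
      intro h
      apply hne
      have e1 := fix_unique hS hu hzu' h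
      have e2 := fix_unique hS hv hzv' (hvz.trans h)
      rw [e1, e2]
    obtain ⟨R, hR⟩ := exists_setup hS z hu huz
    have hxy : (u * v) • (u • z) = u • z := by
      rw [← hvz, mul_smul, smul_smul v v, hv2, one_smul, hvz]
    have hK : u * v ∈ invertedBy (D2 z u) u := by
      refine ⟨mem_inf.2 ⟨MulAction.mem_stabilizer_iff.2 hxz, MulAction.mem_stabilizer_iff.2 hxy⟩, ?_⟩
      exact left_inverts hu hv
    have hK1 : u * v ≠ 1 := by
      intro h; apply hx; rw [h, one_mul]
    have h5 : (u * v) • (w • u • z) = w • u • z := by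
      rw [smul_smul, ← hw, mul_smul, hxy]
    rcases K_fix hR hK hK1 h5 with h6 | h6
    · exact huz (smul_left_cancel w (h6.trans hz'.symm))
    · exact huz (fix_unique hS hw2 h6 hz')

end Cfsg.Agent.S1135
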