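import Cfsg.Statements.S1154
import Cfsg.Agent.LibRee2

set_option autoImplicit false
open Cfsg

namespace Cfsg.Agent.S1154

open CfsgLib.Chev CfsgLib.Rank1

/-- In the small Ree group ²G₂(q), q = 3^(2m+1) with m ≥ 1, realised as G¹ inside the Chevalley group G₂ over the field with q elements (θ the 3^m-th power map), with `U¹ = G¹ ∩ U` (U the positive unipotent subgroup of the ambient G₂): `U¹` has exactly `q² - 1` elements of order 3. -/
theorem result {K : Type*} [Field K] [Fintype K] {m : ℕ} (hm : 1 ≤ m) (hK : Fintype.card K = 3 ^ (2 * m + 1)) :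
    Nat.card {u : ↥(Cfsg.Lie.chevG2.posUnipotent K ⊓ Cfsg.Lie.twistedG2 K (3 ^ m)) // orderOf u = 3} = (3 ^ (2 * m + 1)) ^ 2 - 1 := by
  have : Fact (Nat.Prime 3) := ⟨Nat.prime_three⟩
  have : CharP K 3 := charP_of_card Nat.prime_three hK
  obtain ⟨f, hf⟩ := exists_frobp K 3 m
  have hFx : Cfsg.Lie.twistedG2 K (3 ^ m) = (TwG2.S f).Fx := (TwG2.R hf hK).toTwR.E_eq
  have hU : Cfsg.Lie.chevG2.posUnipotent K ⊓ Cfsg.Lie.twistedG2 K (3 ^ m) = Cfsg.Lie.chevG2.posUnipotent K ⊓ (TwG2.S f).Fx := by rw [hFx]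
  have h3 : Fact (Nat.Prime 3) := ⟨Nat.prime_three⟩
  have e : Nat.card {p : K × K // ¬ p = (0, 0)} = (3 ^ (2 * m + 1)) ^ 2 - 1 := by
    classical
    rw [Nat.card_eq_fintype_card, Fintype.card_subtype_compl, Fintype.card_subtype_eq, Fintype.card_prod, hK, pow_two]
  rw [← e]
  symm
  have hmem : ∀ p : K × K, TwG2.uW f 0 p.1 p.2 ∈ Cfsg.Lie.chevG2.posUnipotent K ⊓ Cfsg.Lie.twistedG2 K (3 ^ m) := fun p =>
    ⟨TwG2.uW_U _ _ _, TwG2.uW_mem hf _ _ _⟩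
  refine Nat.card_eq_of_bijective (fun p => ⟨⟨TwG2.uW f 0 p.1.1 p.1.2, hmem p.1⟩, ?_⟩) ⟨?_, ?_⟩
  · rw [orderOf_eq_prime_iff]
    constructor
    · apply Subtype.ext
      show (TwG2.uW f 0 p.1.1 p.1.2) ^ 3 = 1
      exact TwG2.uW_cube_one.2 rfl
    · intro h
      apply p.2
      have h1 : TwG2.uW f 0 p.1.1 p.1.2 = 1 := congrArg Subtype.val h
      obtain ⟨_, h2, h3⟩ := TwG2.uW_eq_one.1 h1
      exact Prod.ext h2 h3
  · intro p p' h
    have h1 := congrArg (fun x => ((x.1 : ↥(Cfsg.Lie.chevG2.posUnipotent K ⊓ Cfsg.Lie.twistedG2 K (3 ^ m))) : GL Cfsg.Lie.chevG2.Idx K)) h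
    obtain ⟨_, h2, h3⟩ := TwG2.uW_inj h1
    exact Subtype.ext (Prod.ext h2 h3)
  · rintro ⟨⟨x, hx⟩, ho⟩
    have hx' := hx
    rw [hU] at hx'
    obtain ⟨t, u, v, rfl⟩ := TwG2.U_Fx hf hK hx'
    rw [orderOf_eq_prime_iff] at ho
    have h1 : (TwG2.uW f t u v) ^ 3 = 1 := congrArg Subtype.val ho.1
    have h2 := TwG2.uW_cube_one.1 h1
    subst h2
    refine ⟨⟨(u, v), ?_⟩, rfl⟩
    intro h
    apply ho.2
    apply Subtype.ext
    show TwG2.uW f 0 u v = 1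
    exact TwG2.uW_eq_one.2 ⟨rfl, congrArg Prod.fst h, congrArg Prod.snd h⟩

end Cfsg.Agent.S1154
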