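import Cfsg.Statements.S1155
import Cfsg.Agent.LibRee2

set_option autoImplicit false
open Cfsg

namespace Cfsg.Agent.S1155

open CfsgLib.Chev CfsgLib.Rank1

/-- In the small Ree group ²G₂(q), q = 3^(2m+1) with m ≥ 1, realised as G¹ inside the Chevalley group G₂ over the field with q elements (θ the 3^m-th power map): distinct Sylow 3-subgroups of `G¹` meet trivially. -/
theorem result {K : Type*} [Field K] [Fintype K] {m : ℕ} (hm : 1 ≤ m) (hK : Fintype.card K = 3 ^ (2 * m + 1))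
    (P Q : Sylow 3 ↥(Cfsg.Lie.twistedG2 K (3 ^ m))) (hPQ : P ≠ Q) : (P : Subgroup ↥(Cfsg.Lie.twistedG2 K (3 ^ m))) ⊓ (Q : Subgroup ↥(Cfsg.Lie.twistedG2 K (3 ^ m))) = ⊥ := by
  have : Fact (Nat.Prime 3) := ⟨Nat.prime_three⟩
  have : CharP K 3 := charP_of_card Nat.prime_three hK
  obtain ⟨f, hf⟩ := exists_frobp K 3 m
  have hFx : Cfsg.Lie.twistedG2 K (3 ^ m) = (TwG2.S f).Fx := (TwG2.R hf hK).toTwR.E_eq
  have h3 : Fact (Nat.Prime 3) := ⟨Nat.prime_three⟩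
  have hfin : Finite ↥(Cfsg.Lie.twistedG2 K (3 ^ m)) := inferInstance
  set U' := (Cfsg.Lie.chevG2.posUnipotent K ⊓ Cfsg.Lie.twistedG2 K (3 ^ m)).subgroupOf (Cfsg.Lie.twistedG2 K (3 ^ m)) with hU'
  have hcU : Nat.card U' = (3 ^ (2 * m + 1)) ^ 3 := by
    rw [hU', Nat.card_congr (Subgroup.subgroupOfEquivOfLe (inf_le_right : Cfsg.Lie.chevG2.posUnipotent K ⊓ Cfsg.Lie.twistedG2 K (3 ^ m) ≤ _)).toEquiv]
    have hU : Cfsg.Lie.chevG2.posUnipotent K ⊓ Cfsg.Lie.twistedG2 K (3 ^ m) = Cfsg.Lie.chevG2.posUnipotent K ⊓ (TwG2.S f).Fx := by rw [hFx]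
    rw [hU, TwG2.card_U hf hK, hK]
  have hcG := TwG2.card_G hf hK
  have hfac : (Nat.card ↥(Cfsg.Lie.twistedG2 K (3 ^ m))).factorization 3 = (2 * m + 1) * 3 := by
    have hq1 : 3 ≤ 3 ^ (2 * m + 1) := by
      calc 3 = 3 ^ 1 := rfl
        _ ≤ 3 ^ (2 * m + 1) := Nat.pow_le_pow_right (by norm_num) (by omega)
    have hd : 3 ∣ 3 ^ (2 * m + 1) := dvd_pow_self 3 (by omega)
    have hn1 : ¬ 3 ∣ 3 ^ (2 * m + 1) - 1 := by
      intro h; omega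
    have hn2 : ¬ 3 ∣ (3 ^ (2 * m + 1)) ^ 3 + 1 := by
      intro h
      have : 3 ∣ (3 ^ (2 * m + 1)) ^ 3 := dvd_pow hd (by norm_num)
      omega
    rw [hcG, Nat.factorization_mul (by
        have : (3 ^ (2 * m + 1)) ^ 3 ≠ 0 := by positivity
        exact Nat.mul_ne_zero this (by omega)) (by positivity), Nat.factorization_mul (by positivity) (by omega)]
    rw [Finsupp.add_apply, Finsupp.add_apply, Nat.factorization_eq_zero_of_not_dvd hn1, Nat.factorization_eq_zero_of_not_dvd hn2, ← pow_mul,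
      Nat.Prime.factorization_pow Nat.prime_three]
    simp
  have hcU' : Nat.card U' = 3 ^ (Nat.card ↥(Cfsg.Lie.twistedG2 K (3 ^ m))).factorization 3 := by
    rw [hcU, hfac, ← pow_mul]
  let S0 : Sylow 3 ↥(Cfsg.Lie.twistedG2 K (3 ^ m)) := Sylow.ofCard U' hcU'
  have hS0 : (S0 : Subgroup ↥(Cfsg.Lie.twistedG2 K (3 ^ m))) = U' := rfl
  obtain ⟨a, rfl⟩ := MulAction.exists_smul_eq (↥(Cfsg.Lie.twistedG2 K (3 ^ m))) S0 P
  obtain ⟨b, rfl⟩ := MulAction.exists_smul_eq (↥(Cfsg.Lie.twistedG2 K (3 ^ m))) S0 Q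
  rw [eq_bot_iff]
  rintro x ⟨hx1, hx2⟩
  rw [Subgroup.mem_bot]
  by_contra hx
  have hx1' : a⁻¹ * x * a ∈ U' := by
    have h1 : x ∈ ((a • S0 : Sylow 3 ↥(Cfsg.Lie.twistedG2 K (3 ^ m))) : Subgroup ↥(Cfsg.Lie.twistedG2 K (3 ^ m))) := hx1
    rw [Sylow.coe_subgroup_smul, Subgroup.mem_pointwise_smul_iff_inv_smul_mem] at h1
    have e : (MulAut.conj a)⁻¹ • x = a⁻¹ * x * a := by
      rw [← map_inv]; show a⁻¹ * x * a⁻¹⁻¹ = _; group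
    rw [e] at h1; exact h1
  have hx2' : b⁻¹ * x * b ∈ U' := by
    have h1 : x ∈ ((b • S0 : Sylow 3 ↥(Cfsg.Lie.twistedG2 K (3 ^ m))) : Subgroup ↥(Cfsg.Lie.twistedG2 K (3 ^ m))) := hx2
    rw [Sylow.coe_subgroup_smul, Subgroup.mem_pointwise_smul_iff_inv_smul_mem] at h1
    have e : (MulAut.conj b)⁻¹ • x = b⁻¹ * x * b := by
      rw [← map_inv]; show b⁻¹ * x * b⁻¹⁻¹ = _; group
    rw [e] at h1; exact h1
  have hB : ((b⁻¹ * a : ↥(Cfsg.Lie.twistedG2 K (3 ^ m))) : GL Cfsg.Lie.chevG2.Idx K) ∈ Cfsg.Lie.chevG2.borelSubgroup K := by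
    refine TwG2.ti hf hK (b⁻¹ * a).2 (y := ((a⁻¹ * x * a : ↥(Cfsg.Lie.twistedG2 K (3 ^ m))) : GL Cfsg.Lie.chevG2.Idx K)) hx1'.1 ?_ ?_
    · have e : ((b⁻¹ * a : ↥(Cfsg.Lie.twistedG2 K (3 ^ m))) : GL Cfsg.Lie.chevG2.Idx K) * ((a⁻¹ * x * a : ↥(Cfsg.Lie.twistedG2 K (3 ^ m))) : GL Cfsg.Lie.chevG2.Idx K) *
        ((b⁻¹ * a : ↥(Cfsg.Lie.twistedG2 K (3 ^ m))) : GL Cfsg.Lie.chevG2.Idx K)⁻¹ = ((b⁻¹ * x * b : ↥(Cfsg.Lie.twistedG2 K (3 ^ m))) : GL Cfsg.Lie.chevG2.Idx K) := by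
        rw [← Subgroup.coe_mul, ← Subgroup.coe_inv, ← Subgroup.coe_mul]
        congr 1
        group
      rw [e]; exact hx2'.1
    · intro h
      apply hx
      have h1 : a⁻¹ * x * a = 1 := Subtype.ext h
      calc x = a * (a⁻¹ * x * a) * a⁻¹ := by group
        _ = 1 := by rw [h1]; group
  -- elements of B normalise U
  apply hPQ
  have hnorm : (b⁻¹ * a) • S0 = S0 := by
    obtain ⟨u, hu, h, hh, e⟩ := TwG2.mem_B1 hf hK (b⁻¹ * a).2 hB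
    rw [Sylow.smul_eq_iff_mem_normalizer]
    show (b⁻¹ * a) ∈ Subgroup.normalizer (U' : Set ↥(Cfsg.Lie.twistedG2 K (3 ^ m)))
    rw [Subgroup.mem_normalizer_iff]
    have key : ∀ y : ↥(Cfsg.Lie.twistedG2 K (3 ^ m)), y ∈ U' → (b⁻¹ * a) * y * (b⁻¹ * a)⁻¹ ∈ U' := by
      intro y hy
      refine ⟨?_, ((b⁻¹ * a) * y * (b⁻¹ * a)⁻¹).2⟩
      show ((b⁻¹ * a : ↥(Cfsg.Lie.twistedG2 K (3 ^ m))) : GL Cfsg.Lie.chevG2.Idx K) * y * ((b⁻¹ * a : ↥(Cfsg.Lie.twistedG2 K (3 ^ m))) : GL Cfsg.Lie.chevG2.Idx K)⁻¹ ∈ _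
      rw [e]
      have h1 := good3_G2.H_norm_U hh.1 hy.1
      have e2 : u * h * (y : GL Cfsg.Lie.chevG2.Idx K) * (u * h)⁻¹ = u * (h * y * h⁻¹) * u⁻¹ := by group
      rw [e2]
      exact Subgroup.mul_mem _ (Subgroup.mul_mem _ hu.1 h1) (Subgroup.inv_mem _ hu.1)
    have key2 : ∀ y : ↥(Cfsg.Lie.twistedG2 K (3 ^ m)), y ∈ U' → (b⁻¹ * a)⁻¹ * y * (b⁻¹ * a) ∈ U' := by
      intro y hy
      refine ⟨?_, ((b⁻¹ * a)⁻¹ * y * (b⁻¹ * a)).2⟩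
      show ((b⁻¹ * a : ↥(Cfsg.Lie.twistedG2 K (3 ^ m))) : GL Cfsg.Lie.chevG2.Idx K)⁻¹ * y * ((b⁻¹ * a : ↥(Cfsg.Lie.twistedG2 K (3 ^ m))) : GL Cfsg.Lie.chevG2.Idx K) ∈ _
      rw [e]
      have h1 := good3_G2.H_norm_U (Subgroup.inv_mem _ hh.1) (Subgroup.mul_mem _ (Subgroup.mul_mem _ (Subgroup.inv_mem _ hu.1) hy.1) hu.1)
      have e2 : (u * h)⁻¹ * (y : GL Cfsg.Lie.chevG2.Idx K) * (u * h) = h⁻¹ * (u⁻¹ * y * u) * h⁻¹⁻¹ := by group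
      rw [e2]
      exact h1
    intro y
    constructor
    · exact key y
    · intro hy
      have := key2 _ hy
      have e3 : (b⁻¹ * a)⁻¹ * ((b⁻¹ * a) * y * (b⁻¹ * a)⁻¹) * (b⁻¹ * a) = y := by group
      rw [e3] at this
      exact this
  calc a • S0 = b • ((b⁻¹ * a) • S0) := by rw [smul_smul]; congr 1; group
    _ = b • S0 := by rw [hnorm]

end Cfsg.Agent.S1155
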