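import Cfsg.Statements.S1167
import Cfsg.Agent.LibZas15

set_option autoImplicit false
set_option linter.all false
open Cfsg

namespace Cfsg.Agent.S1167

/-- Let `G` be a finite simple Zassenhaus group on `Ω`, `U` a normal subgroup of `G_a` regular on `Ω` minus `a` which is an abelian 2-group, and `v` an involution with `v • a ≠ a`. Then there is a unique `u₀ ∈ U`, `u₀ ≠ 1`, with `v u₀ v = u₀ v u₀`. -/
theorem result {G Ω : Type*} [Group G] [Finite G] [MulAction G Ω] [Finite Ω]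
    (hZ : Cfsg.IsZassenhausGroup G Ω) [IsSimpleGroup G] {a : Ω}
    (U : Subgroup G) (hUle : U ≤ MulAction.stabilizer G a)
    (hUn : ∀ h ∈ MulAction.stabilizer G a, ∀ u ∈ U, h * u * h⁻¹ ∈ U)
    (hreg : ∀ c d : Ω, c ≠ a → d ≠ a → ∃! u : U, (u : G) • c = d)
    (hU2 : IsPGroup 2 U) (hUab : ∀ u ∈ U, ∀ u' ∈ U, u * u' = u' * u)
    (v : G) (hv1 : v ≠ 1) (hv2 : v * v = 1) (hva : v • a ≠ a) :
    ∃! u₀ : G, u₀ ∈ U ∧ u₀ ≠ 1 ∧ v * u₀ * v = u₀ * v * u₀ := by
  classical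
  haveI := Fintype.ofFinite Ω
  have D := CfsgLib.Zas.Dat.of_reg hZ (Ne.symm hva) hUle (fun y z hy hz => hreg y z hy hz)
  have hsq := D.exp_two hUab hU2
  have hvv : ∀ x : Ω, v • v • x = x := fun x => by rw [← mul_smul, hv2, one_smul]
  have hvo : orderOf v = 2 := orderOf_eq_prime (by rw [pow_two]; exact hv2) hv1
  haveI := Fact.mk Nat.prime_two
  have hodd : Odd (Fintype.card Ω) := by
    rw [← D.hcard]
    obtain ⟨k, hk⟩ := IsPGroup.iff_card.mp hU2
    have h3 := D.two_le_H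
    have hk0 : k ≠ 0 := by
      rintro rfl
      rw [hk, pow_zero] at h3
      omega
    rw [hk]
    exact (Nat.even_pow.mpr ⟨even_two, hk0⟩).add_one
  have hfix1 := ((Cfsg.Agent.S0740.result hZ (Ne.symm hva)).2.1 v hvo rfl (hvv a)).1 hodd
  obtain ⟨⟨⟨c, hc⟩, -⟩, huniq⟩ : (∃ x : MulAction.fixedBy Ω v, True) ∧ ∀ x y : Ω, v • x = x → v • y = y → x = y := by
    rw [Nat.card_eq_one_iff_unique] at hfix1
    obtain ⟨h1, ⟨x⟩⟩ := hfix1
    refine ⟨⟨x, trivial⟩, fun y z hy hz => ?_⟩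
    exact congrArg Subtype.val (h1.elim ⟨y, hy⟩ ⟨z, hz⟩)
  have hc' : v • c = c := hc
  have hca : c ≠ a := by rintro rfl; exact hva hc'
  have hcb : c ≠ v • a := by
    rintro rfl
    rw [hvv] at hc'
    exact hva hc'.symm
  obtain ⟨⟨u₀, hu₀⟩, hub, huu⟩ := hreg (v • a) c hva hca
  have hub' : u₀ • v • a = c := hub
  have hua : u₀ • a = a := hUle hu₀
  have huu₀ : u₀ * u₀ = 1 := hsq u₀ hu₀
  have huc : u₀ • c = v • a := by rw [← hub', ← mul_smul, huu₀, one_smul]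
  refine ⟨u₀, ⟨hu₀, ?_, ?_⟩, ?_⟩
  · rintro rfl
    rw [one_smul] at hub'
    exact hcb hub'.symm
  · have h1 : (u₀ * v) * ((u₀ * v) * (u₀ * v)) = 1 := by
      apply CfsgLib.Zas.three hZ (a := a) (b := v • a) (c := c) (Ne.symm hva) (Ne.symm hcb) (Ne.symm hca)
      · simp only [mul_smul]
        rw [hub', hc', huc, hvv, hua]
      · simp only [mul_smul]
        rw [hvv, hua, hub', hc', huc]
      · simp only [mul_smul]
        rw [hc', huc, hvv, hua, hub']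
    have h2 : u₀⁻¹ = u₀ := inv_eq_of_mul_eq_one_left huu₀
    have h3 : v⁻¹ = v := inv_eq_of_mul_eq_one_left hv2
    calc v * u₀ * v = u₀⁻¹ * ((u₀ * v) * ((u₀ * v) * (u₀ * v))) * v⁻¹ * u₀⁻¹ := by group
      _ = u₀⁻¹ * v⁻¹ * u₀⁻¹ := by rw [h1, mul_one]
      _ = _ := by rw [h2, h3]
  · rintro w ⟨hw, hw1, hwv⟩
    have h1 := congrArg (fun g : G => g • a) hwv
    simp only [mul_smul] at h1
    rw [show w • a = a from hUle hw] at h1
    have h2 : w • v • a = c := huniq _ _ h1 hc'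
    exact congrArg Subtype.val (huu ⟨w, hw⟩ h2)

end Cfsg.Agent.S1167
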