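import Cfsg.Statements.S1244
import Cfsg.Agent.LibRank8

set_option autoImplicit false
open Cfsg

namespace Cfsg.Agent.S1244


/-- Let G be a finite group with no subgroup of index 2 whose Sylow 2-subgroup S is commutative, and let R ≤ S be a subgroup whose 2-rank is exactly one less than the 2-rank r of S. Then every involution of S is conjugate, by an element of N_G(S), to an element of R. -/
theorem result {G : Type*} [Group G] [Finite G] (hG : ∀ H : Subgroup G, H.index ≠ 2) (S : Sylow 2 G) (hS : IsMulCommutative (S : Subgroup G)) (r : ℕ) (hr1 : 1 ≤ r) (hSr : Cfsg.PRankLE 2 r (S : Subgroup G) ∧ ¬ Cfsg.PRankLE 2 (r - 1) (S : Subgroup G)) (R : Subgroup G) (hRS : R ≤ S) (hRr : Cfsg.PRankLE 2 (r - 1) R ∧ (r = 1 ∨ ¬ Cfsg.PRankLE 2 (r - 2) R)) (t : G) (ht : orderOf t = 2) (htS : t ∈ S) : ∃ n ∈ Subgroup.normalizer ((S : Subgroup G) : Set G), n * t * n⁻¹ ∈ R := by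
  have hp := Nat.prime_two
  haveI : Fact (Nat.Prime 2) := ⟨hp⟩
  obtain ⟨W, hWS, hNW, hWe, hW⟩ := CfsgLib.Kconn8.exists_omega (p := 2)
    (P := Subgroup.normalizer ((S : Subgroup G) : Set G)) (A := (S : Subgroup G)) le_rfl hS
  have htW : t ∈ W := hW t htS (by rw [← ht, pow_orderOf_eq_one])
  have hWc : Nat.card W = 2 ^ r := by
    apply le_antisymm
    · exact CfsgLib.BGPi.rank_iff.1 hSr.1 W hWS hWe
    · obtain ⟨A, hA, hAe, hAc⟩ := (CfsgLib.BGPi.not_rank_iff hp).1 hSr.2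
      have h1 : A ≤ W := fun a ha => hW a (hA ha) (hAe.2 a ha)
      have h2 := Subgroup.card_le_of_le h1
      rw [hAc, Nat.sub_add_cancel hr1] at h2
      exact h2
  have hHc : Nat.card ↥(R ⊓ W) = 2 ^ (r - 1) := by
    apply le_antisymm
    · exact CfsgLib.BGPi.rank_iff.1 hRr.1 _ inf_le_left (CfsgLib.BGPi.elab_mono inf_le_right hWe)
    · rcases hRr.2 with h | h
      · rw [h]
        have : 0 < Nat.card ↥(R ⊓ W) := Nat.card_pos
        have h2 : 2 ^ (1 - 1) = 1 := rfl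
        omega
      · obtain ⟨A, hA, hAe, hAc⟩ := (CfsgLib.BGPi.not_rank_iff hp).1 h
        have h1 : A ≤ R ⊓ W := fun a ha => Subgroup.mem_inf.2 ⟨hA ha, hW a (hRS (hA ha)) (hAe.2 a ha)⟩
        have h2 := Subgroup.card_le_of_le h1
        rw [hAc] at h2
        exact (Nat.pow_le_pow_right (by norm_num) (by omega)).trans h2
  obtain ⟨n, hn, hn'⟩ := CfsgLib.Rank8.conj_into hG hS hWS hNW (inf_le_right : R ⊓ W ≤ W) (by
    rw [hWc, hHc, ← pow_succ', Nat.sub_add_cancel hr1]) htW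
  exact ⟨n, hn, hn'.1⟩
end Cfsg.Agent.S1244
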