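import Cfsg.Statements.S1250
import Cfsg.Agent.LibIsolated

set_option autoImplicit false
open Cfsg

namespace Cfsg.Agent.S1250


/-- Let S be a Sylow p-subgroup of the finite group G, A ≤ S strongly closed in S, and N a normal subgroup. Then the image of A in G ⧸ N is strongly closed in the image of S (which is a Sylow p-subgroup of G ⧸ N). -/
theorem result {G : Type*} [Group G] [Finite G] {p : ℕ} [Fact p.Prime] (S : Sylow p G) (A : Subgroup G) (hA : Cfsg.IsStronglyClosed A (S : Subgroup G)) (N : Subgroup G) [N.Normal] : Cfsg.IsStronglyClosed (A.map (QuotientGroup.mk' N)) ((S : Subgroup G).map (QuotientGroup.mk' N)) := by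
  obtain ⟨h1, h2⟩ := hA
  refine ⟨Subgroup.map_mono h1, ?_⟩
  rintro _ ⟨a, ha, rfl⟩ gb hgb
  obtain ⟨g, rfl⟩ := QuotientGroup.mk'_surjective N gb
  obtain ⟨s, hs, hsg⟩ := hgb
  -- `g a g⁻¹ ∈ S N`
  obtain ⟨X, hX⟩ : ∃ X : Subgroup G, X = (S : Subgroup G) ⊔ N := ⟨_, rfl⟩
  have hSX : (S : Subgroup G) ≤ X := by rw [hX]; exact le_sup_left
  have hNX : N ≤ X := by rw [hX]; exact le_sup_right
  obtain ⟨v, hv⟩ : ∃ v, v = g * a * g⁻¹ := ⟨_, rfl⟩
  have hvX : v ∈ X := by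
    have h3 : s⁻¹ * v ∈ N := by
      rw [← QuotientGroup.eq_one_iff]
      have h4 : (QuotientGroup.mk' N) (s⁻¹ * v) = 1 := by
        rw [map_mul, map_inv, hsg, hv, map_mul, map_mul, map_inv]
        group
      exact h4
    have : v = s * (s⁻¹ * v) := by group
    rw [this]
    exact mul_mem (hSX hs) (hNX h3)
  have hap : IsPGroup p (Subgroup.zpowers (⟨v, hvX⟩ : X)) := by
    have h3 : IsPGroup p (Subgroup.zpowers a) := S.isPGroup'.to_le (by
      rw [Subgroup.zpowers_le]; exact h1 ha)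
    obtain ⟨k, hk⟩ := h3.exists_card_eq
    refine IsPGroup.of_card (n := k) ?_
    rw [Nat.card_zpowers, Subgroup.orderOf_mk, hv, CfsgLib.Invol.orderOf_conj, ← Nat.card_zpowers, hk]
  obtain ⟨Q, hQ⟩ := hap.exists_le_sylow
  obtain ⟨w, hw⟩ := MulAction.exists_smul_eq X Q (S.subtype hSX)
  have hvS : (w : G) * v * (w : G)⁻¹ ∈ (S : Subgroup G) := by
    have h3 : (⟨v, hvX⟩ : X) ∈ Q := hQ (Subgroup.mem_zpowers _)
    have h4 : w * ⟨v, hvX⟩ * w⁻¹ ∈ (w • Q : Sylow p X) := by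
      rw [CfsgLib.Isolated.mem_smul_sylow]
      have e : w⁻¹ * (w * ⟨v, hvX⟩ * w⁻¹) * w = ⟨v, hvX⟩ := by group
      rwa [e]
    rw [hw] at h4
    exact h4
  obtain ⟨y, hy, n, hn, hyn⟩ : ∃ y ∈ (S : Subgroup G), ∃ n ∈ N, y * n = w := by
    exact (Subgroup.mem_sup_of_normal_right.1 (hX.le w.2))
  have h5 : (n * g) * a * (n * g)⁻¹ ∈ (S : Subgroup G) := by
    have e : (n * g) * a * (n * g)⁻¹ = y⁻¹ * ((w : G) * v * (w : G)⁻¹) * y := by
      rw [← hyn, hv]; group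
    rw [e]
    exact mul_mem (mul_mem (inv_mem hy) hvS) hy
  have h6 := h2 a ha (n * g) h5
  refine ⟨_, h6, ?_⟩
  have h7 : (QuotientGroup.mk' N) n = 1 := (QuotientGroup.eq_one_iff n).2 hn
  rw [map_mul, map_mul, map_inv, map_mul, h7, one_mul]
end Cfsg.Agent.S1250
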