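import Cfsg.Statements.S1292
import Cfsg.Agent.LibPQ

set_option autoImplicit false
open Cfsg

namespace Cfsg.Agent.S1292


/-- Let G be a finite group such that F*(C_G(t)) = O_2(C_G(t)) for every involution t. Then F*(N_G(T)) = O_2(N_G(T)) for every nontrivial 2-subgroup T of G. -/
theorem result {G : Type*} [Group G] [Finite G] (h : ∀ t : G, orderOf t = 2 → Cfsg.generalizedFittingSubgroup ↥(Subgroup.centralizer ({t} : Set G)) = Cfsg.pCore 2 ↥(Subgroup.centralizer ({t} : Set G))) (T : Subgroup G) (hT : IsPGroup 2 ↥T) (hT1 : T ≠ ⊥) : Cfsg.generalizedFittingSubgroup ↥(Subgroup.normalizer (T : Set G)) = Cfsg.pCore 2 ↥(Subgroup.normalizer (T : Set G)) := by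
  haveI : Fact (Nat.Prime 2) := ⟨Nat.prime_two⟩
  obtain ⟨x, hx⟩ : ∃ x : T, orderOf x = 2 := by
    have h1 : Nat.card T ≠ 1 := by
      rw [Ne, Subgroup.card_eq_one]; exact hT1
    obtain ⟨k, hk⟩ := IsPGroup.iff_card.1 hT
    apply exists_prime_orderOf_dvd_card' 2
    rw [hk]
    apply dvd_pow_self
    rintro rfl
    exact h1 (by rw [hk, pow_zero])
  have hx2 : orderOf (x : G) = 2 := by rw [Subgroup.orderOf_coe]; exact hx
  apply CfsgLib.PQ.gfitting_normalizer_of_centralizer hT
  apply CfsgLib.PQ.gfitting_centralizer_mono hT _ (Subgroup.zpowers (x : G)) rfl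
  · rw [Subgroup.zpowers_le]; exact x.2
  · have h1 : Subgroup.centralizer ((Subgroup.zpowers (x : G) : Subgroup G) : Set G) =
        Subgroup.centralizer ({(x : G)} : Set G) := by
      rw [Subgroup.zpowers_eq_closure, Subgroup.centralizer_closure]
    rw [h1, h _ hx2]
    exact CfsgLib.Cores.pCore_isPGroup 2
end Cfsg.Agent.S1292
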