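import Cfsg.Statements.S1323
import Cfsg.Agent.LibComp

set_option autoImplicit false
open Cfsg

namespace Cfsg.Agent.S1323

open Equiv Subgroup

variable {α : Type*} [Fintype α] [DecidableEq α]

/-- pointwise stabilizer of `B` in the alternating group -/
def PS (B : Finset α) : Subgroup (alternatingGroup α) where
  carrier := {g | ∀ x ∈ B, (g : Perm α) x = x}
  one_mem' := fun x _ => rfl
  mul_mem' := by
    intro a b ha hb x hx
    rw [Subgroup.coe_mul, Perm.mul_apply, hb x hx, ha x hx]
  inv_mem' := by
    intro a ha x hx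
    rw [Subgroup.coe_inv, Perm.inv_eq_iff_eq, ha x hx]

theorem mem_PS {B : Finset α} {g : alternatingGroup α} : g ∈ PS B ↔ ∀ x ∈ B, (g : Perm α) x = x := Iff.rfl

/-- the three cycle `a ↦ b ↦ c` -/
theorem exists_c3 {a b c : α} (hab : a ≠ b) (hac : a ≠ c) (hbc : b ≠ c) : ∃ g : alternatingGroup α,
    (g : Perm α) a = b ∧ (g : Perm α) b = c ∧ (g : Perm α) c = a ∧ ∀ x, x ≠ a → x ≠ b → x ≠ c → (g : Perm α) x = x := by
  refine ⟨⟨swap a b * swap b c, ?_⟩, ?_, ?_, ?_, ?_⟩
  · rw [Perm.mem_alternatingGroup, map_mul, Perm.sign_swap hab, Perm.sign_swap hbc]; rfl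
  · show swap a b (swap b c a) = b
    rw [swap_apply_of_ne_of_ne hab hac, swap_apply_left]
  · show swap a b (swap b c b) = c
    rw [swap_apply_left, swap_apply_of_ne_of_ne hac.symm hbc.symm]
  · show swap a b (swap b c c) = a
    rw [swap_apply_right, swap_apply_right]
  · intro x h1 h2 h3
    show swap a b (swap b c x) = x
    rw [swap_apply_of_ne_of_ne h2 h3, swap_apply_of_ne_of_ne h1 h2]

theorem le_iff {X Y : Finset α} (hX : 3 ≤ (Xᶜ).card) : PS X ≤ PS Y ↔ Y ⊆ X := by
  constructor
  · intro h y hy
    by_contra hyX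
    have h1 : y ∈ Xᶜ := Finset.mem_compl.2 hyX
    have h2 : 2 ≤ ((Xᶜ).erase y).card := by rw [Finset.card_erase_of_mem h1]; omega
    obtain ⟨a, ha, b, hb, hab⟩ := Finset.one_lt_card.1 h2
    rw [Finset.mem_erase, Finset.mem_compl] at ha hb
    obtain ⟨g, hg1, -, -, hg⟩ := exists_c3 ha.1.symm hb.1.symm hab
    have h3 : g ∈ PS X := by
      intro x hx
      exact hg x (fun hh => hyX (hh ▸ hx)) (fun hh => ha.2 (hh ▸ hx)) (fun hh => hb.2 (hh ▸ hx))
    have h4 := h h3 y hy
    rw [hg1] at h4
    exact ha.1 h4
  · intro h g hg x hx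
    exact hg x (h hx)

theorem eq_iff {X Y : Finset α} (hX : 3 ≤ (Xᶜ).card) (hY : 3 ≤ (Yᶜ).card) : PS X = PS Y ↔ X = Y := by
  constructor
  · intro h
    exact Finset.Subset.antisymm ((le_iff hY).1 h.ge) ((le_iff hX).1 h.le)
  · rintro rfl; rfl

theorem map_PS (B : Finset α) (g : alternatingGroup α) :
    (PS B).map (MulAut.conj g).toMonoidHom = PS (B.map (g : Perm α).toEmbedding) := by
  ext x
  rw [Subgroup.mem_map]
  constructor
  · rintro ⟨y, hy, rfl⟩
    intro b hb
    rw [Finset.mem_map] at hb
    obtain ⟨c, hc, rfl⟩ := hb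
    show ((g : Perm α) * (y : Perm α) * (g : Perm α)⁻¹) ((g : Perm α) c) = (g : Perm α) c
    rw [Perm.mul_apply, Perm.mul_apply, Perm.inv_def, Equiv.symm_apply_apply, hy c hc]
  · intro hx
    refine ⟨g⁻¹ * x * g, ?_, ?_⟩
    · intro c hc
      have h1 : (x : Perm α) ((g : Perm α) c) = (g : Perm α) c :=
        hx _ (Finset.mem_map.2 ⟨c, hc, rfl⟩)
      show ((g : Perm α)⁻¹ * (x : Perm α) * (g : Perm α)) c = c
      rw [Perm.mul_apply, Perm.mul_apply, h1, Perm.inv_def, Equiv.symm_apply_apply]
    · show g * (g⁻¹ * x * g) * g⁻¹ = x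
      group

theorem card_map_perm (B : Finset α) (g : Perm α) : (B.map g.toEmbedding).card = B.card := Finset.card_map _

theorem compl_map (B : Finset α) (g : Perm α) : (B.map g.toEmbedding)ᶜ = (Bᶜ).map g.toEmbedding := by
  ext x
  simp only [Finset.mem_compl, Finset.mem_map_equiv]

theorem mem_norm {B : Finset α} (hB : 3 ≤ (Bᶜ).card) {g : alternatingGroup α} :
    g ∈ normalizer ((PS B : Subgroup (alternatingGroup α)) : Set (alternatingGroup α)) ↔ B.map (g : Perm α).toEmbedding = B := by
  rw [← eq_iff (by rw [compl_map, card_map_perm]; exact hB) hB, ← map_PS]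
  constructor
  · intro h
    apply le_antisymm
    · rw [Subgroup.map_le_iff_le_comap]
      intro x hx
      exact (Subgroup.mem_normalizer_iff.1 h x).1 hx
    · intro x hx
      refine ⟨g⁻¹ * x * g, ?_, ?_⟩
      · have := (Subgroup.mem_normalizer_iff.1 (inv_mem h) x).1 hx
        rwa [inv_inv] at this
      · show g * (g⁻¹ * x * g) * g⁻¹ = x
        group
  · intro h
    rw [Subgroup.mem_normalizer_iff]
    intro x
    constructor
    · intro hx
      rw [← h]
      exact ⟨x, hx, rfl⟩
    · intro hx
      rw [← h] at hx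
      obtain ⟨y, hy, hyx⟩ := hx
      have : y = x := by
        have h2 : g * y * g⁻¹ = g * x * g⁻¹ := hyx
        have h3 := mul_right_cancel h2
        exact mul_left_cancel h3
      rw [← this]; exact hy

theorem centr {B : Finset α} (hB : 5 ≤ (Bᶜ).card) :
    centralizer ((PS B : Subgroup (alternatingGroup α)) : Set (alternatingGroup α)) = PS (Bᶜ) := by
  ext g
  constructor
  · intro hg x hx
    rw [mem_centralizer_iff] at hg
    by_contra hne
    -- for all y z in the complement, g x ∈ {x,y,z}
    have key : ∀ y z : α, y ∈ Bᶜ → z ∈ Bᶜ → x ≠ y → x ≠ z → y ≠ z → (g : Perm α) x = y ∨ (g : Perm α) x = z := by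
      intro y z hy hz hxy hxz hyz
      obtain ⟨c, hc1, hc2, hc3, hc⟩ := exists_c3 hxy hxz hyz
      have hcB : c ∈ PS B := by
        intro b hb
        exact hc b (fun hh => Finset.mem_compl.1 hx (hh ▸ hb)) (fun hh => Finset.mem_compl.1 hy (hh ▸ hb))
          (fun hh => Finset.mem_compl.1 hz (hh ▸ hb))
      have h1 := hg c hcB
      by_contra hcon
      push Not at hcon
      have h2 : (c : Perm α) ((g : Perm α) x) = (g : Perm α) x := hc _ hne hcon.1 hcon.2
      have h3 : (c : Perm α) ((g : Perm α) x) = (g : Perm α) ((c : Perm α) x) := by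
        have := congrArg (fun t : alternatingGroup α => (t : Perm α) x) h1
        exact this
      rw [h2, hc1] at h3
      exact hxy ((g : Perm α).injective h3)
    have h4 : 4 ≤ ((Bᶜ).erase x).card := by rw [Finset.card_erase_of_mem hx]; omega
    obtain ⟨T, hT, hTc⟩ := Finset.exists_subset_card_eq h4
    have hTm : ∀ y ∈ T, y ∈ Bᶜ ∧ x ≠ y := fun y hy => by
      have := Finset.mem_erase.1 (hT hy)
      exact ⟨this.2, this.1.symm⟩
    obtain ⟨a, b, c, d, hab, hac, had, hbc, hbd, hcd, rfl⟩ := Finset.card_eq_four.1 hTc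
    have ha := hTm a (by simp)
    have hb := hTm b (by simp)
    have hc := hTm c (by simp)
    have hd := hTm d (by simp)
    have k1 := key a b ha.1 hb.1 ha.2 hb.2 hab
    have k2 := key c d hc.1 hd.1 hc.2 hd.2 hcd
    rcases k1 with k1 | k1 <;> rcases k2 with k2 | k2
    · exact hac (k1.symm.trans k2)
    · exact had (k1.symm.trans k2)
    · exact hbc (k1.symm.trans k2)
    · exact hbd (k1.symm.trans k2)
  · intro hg
    rw [mem_centralizer_iff]
    intro c hc
    apply Subtype.ext
    show (c : Perm α) * (g : Perm α) = (g : Perm α) * (c : Perm α)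
    ext x
    rw [Perm.mul_apply, Perm.mul_apply]
    by_cases hx : x ∈ B
    · rw [hc x hx]
      by_cases h2 : (g : Perm α) x ∈ B
      · exact hc _ h2
      · have := hg _ (Finset.mem_compl.2 h2)
        have h3 := (g : Perm α).injective this
        exact absurd (h3.symm ▸ hx) h2
    · have hx' := Finset.mem_compl.2 hx
      rw [hg x hx']
      by_cases h2 : (c : Perm α) x ∈ B
      · have := hc _ h2
        have h3 := (c : Perm α).injective this
        rw [h3] at h2
        exact absurd h2 hx
      · exact (hg _ (Finset.mem_compl.2 h2)).symm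

theorem odd_small {X : Finset α} (hX : (Xᶜ).card ≤ 3) : Odd (Nat.card (PS X)) := by
  rw [← Nat.not_even_iff_odd, even_iff_two_dvd]
  intro h2
  haveI : Fact (Nat.Prime 2) := ⟨Nat.prime_two⟩
  obtain ⟨s, hs⟩ := exists_prime_orderOf_dvd_card' 2 h2
  have h3 : orderOf ((s : alternatingGroup α) : Perm α) = 2 := by
    rw [Subgroup.orderOf_coe, Subgroup.orderOf_coe]; exact hs
  have h4 : ((s : alternatingGroup α) : Perm α) ^ 2 = 1 := by rw [← h3]; exact pow_orderOf_eq_one _
  have h5 := Equiv.Perm.two_dvd_card_support h4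
  have h6 : ((s : alternatingGroup α) : Perm α).support ⊆ Xᶜ := by
    intro x hx
    rw [Finset.mem_compl]
    intro hxX
    exact Perm.mem_support.1 hx (s.2 x hxX)
  have h7 := (Finset.card_le_card h6).trans hX
  have h8 : ((s : alternatingGroup α) : Perm α).support.card ≠ 0 := by
    intro h
    rw [Finset.card_eq_zero, Perm.support_eq_empty_iff] at h
    rw [h, orderOf_one] at h3
    omega
  have h9 : ((s : alternatingGroup α) : Perm α).support.card = 2 := by omega
  rw [Perm.card_support_eq_two] at h9
  have h10 := h9.sign_eq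
  have h11 := (Perm.mem_alternatingGroup).1 (s : alternatingGroup α).2
  rw [h11] at h10
  exact absurd h10 (by decide)

theorem even_four {X : Finset α} (hX : 4 ≤ (Xᶜ).card) : Even (Nat.card (PS X)) := by
  obtain ⟨T, hT, hTc⟩ := Finset.exists_subset_card_eq hX
  obtain ⟨a, b, c, d, hab, hac, had, hbc, hbd, hcd, rfl⟩ := Finset.card_eq_four.1 hTc
  have hn : ∀ y ∈ ({a, b, c, d} : Finset α), y ∉ X := fun y hy => Finset.mem_compl.1 (hT hy)
  let g : alternatingGroup α := ⟨swap a b * swap c d, by
    rw [Perm.mem_alternatingGroup, map_mul, Perm.sign_swap hab, Perm.sign_swap hcd]; rfl⟩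
  have hg : g ∈ PS X := by
    intro x hx
    show swap a b (swap c d x) = x
    have hxa : ∀ y ∈ ({a, b, c, d} : Finset α), x ≠ y := fun y hy h => hn y hy (h ▸ hx)
    rw [swap_apply_of_ne_of_ne (hxa c (by simp)) (hxa d (by simp)),
      swap_apply_of_ne_of_ne (hxa a (by simp)) (hxa b (by simp))]
  have h1 : orderOf (⟨g, hg⟩ : PS X) = 2 := by
    rw [Subgroup.orderOf_mk]
    rw [orderOf_eq_prime_iff]
    constructor
    · apply Subtype.ext
      show (swap a b * swap c d) ^ 2 = 1
      have h2 : swap a b * swap c d = swap c d * swap a b := by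
        ext x
        simp only [Perm.mul_apply]
        by_cases h1 : x = a
        · subst h1; rw [swap_apply_of_ne_of_ne hac had, swap_apply_left, swap_apply_of_ne_of_ne hbc hbd]
        by_cases h2 : x = b
        · subst h2; rw [swap_apply_of_ne_of_ne hbc hbd, swap_apply_right, swap_apply_of_ne_of_ne hac had]
        by_cases h3 : x = c
        · subst h3; rw [swap_apply_left, swap_apply_of_ne_of_ne had.symm hbd.symm, swap_apply_of_ne_of_ne hac.symm hbc.symm, swap_apply_left]
        by_cases h4 : x = d
        · subst h4; rw [swap_apply_right, swap_apply_of_ne_of_ne hac.symm hbc.symm, swap_apply_of_ne_of_ne had.symm hbd.symm, swap_apply_right]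
        rw [swap_apply_of_ne_of_ne h3 h4, swap_apply_of_ne_of_ne h1 h2, swap_apply_of_ne_of_ne h3 h4]
      rw [pow_two]
      nth_rw 2 [h2]
      rw [mul_assoc, ← mul_assoc (swap c d), swap_mul_self, one_mul, swap_mul_self]
    · intro h
      have h2 := congrArg (fun t : alternatingGroup α => (t : Perm α) a) h
      have h3 : swap a b (swap c d a) = a := h2
      rw [swap_apply_of_ne_of_ne hac had, swap_apply_left] at h3
      exact hab h3.symm
  rw [even_iff_two_dvd, ← h1]
  exact orderOf_dvd_natCard _

/-- the pointwise stabilizer is the alternating group on the remaining points -/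
theorem exists_iso (B : Finset α) : Nonempty (alternatingGroup {x : α // x ∉ B} ≃* PS B) := by
  have hs : ∀ s : Perm {x : α // x ∉ B}, Perm.sign (Perm.ofSubtype s) = Perm.sign s :=
    fun s => Perm.sign_ofSubtype s
  let f : alternatingGroup {x : α // x ∉ B} →* PS B :=
    { toFun := fun s => ⟨⟨Perm.ofSubtype (s : Perm {x : α // x ∉ B}), by
        rw [Perm.mem_alternatingGroup, hs (s : Perm {x : α // x ∉ B})]; exact Perm.mem_alternatingGroup.1 s.2⟩, by
        intro x hx
        exact Perm.ofSubtype_apply_of_not_mem _ (not_not.2 hx)⟩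
      map_one' := by
        apply Subtype.ext
        apply Subtype.ext
        show Perm.ofSubtype ((1 : alternatingGroup {x : α // x ∉ B}) : Perm {x : α // x ∉ B}) = (1 : Perm α)
        rw [Subgroup.coe_one, map_one]
      map_mul' := by
        intro s t
        apply Subtype.ext
        apply Subtype.ext
        show Perm.ofSubtype ((s * t : alternatingGroup {x : α // x ∉ B}) : Perm {x : α // x ∉ B}) =
          Perm.ofSubtype (s : Perm {x : α // x ∉ B}) * Perm.ofSubtype (t : Perm {x : α // x ∉ B})
        rw [Subgroup.coe_mul, map_mul] }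
  refine ⟨MulEquiv.ofBijective f ⟨?_, ?_⟩⟩
  · intro s t h
    have h1 : Perm.ofSubtype (s : Perm {x : α // x ∉ B}) = Perm.ofSubtype (t : Perm {x : α // x ∉ B}) :=
      congrArg (fun u : PS B => ((u : alternatingGroup α) : Perm α)) h
    exact Subtype.ext (Perm.ofSubtype_injective h1)
  · intro u
    have hu : ∀ x, x ∉ B ↔ (((u : alternatingGroup α) : Perm α)) x ∉ B := by
      intro x
      constructor
      · intro hx hh
        have := u.2 _ hh
        have h3 := ((u : alternatingGroup α) : Perm α).injective this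
        rw [h3] at hh; exact hx hh
      · intro hx hh
        rw [u.2 x hh] at hx
        exact hx hh
    let s : Perm {x : α // x ∉ B} := ((u : alternatingGroup α) : Perm α).subtypePerm (fun x => (hu x).symm)
    have h1 : Perm.ofSubtype s = ((u : alternatingGroup α) : Perm α) := by
      apply Perm.ofSubtype_subtypePerm
      intro x hx hxB
      exact hx (u.2 x hxB)
    refine ⟨⟨s, ?_⟩, ?_⟩
    · rw [Perm.mem_alternatingGroup, ← hs, h1]
      exact Perm.mem_alternatingGroup.1 (u : alternatingGroup α).2
    · apply Subtype.ext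
      apply Subtype.ext
      exact h1

theorem quasi {B : Finset α} (hB : 5 ≤ (Bᶜ).card) : IsQuasisimple (PS B) := by
  obtain ⟨e⟩ := exists_iso B
  apply CfsgLib.Comp.quasisimple_equiv e
  have hc : 5 ≤ Nat.card {x : α // x ∉ B} := by
    rw [Nat.card_eq_fintype_card, Fintype.card_subtype]
    convert hB using 2
    ext x; simp
  haveI hs : IsSimpleGroup (alternatingGroup {x : α // x ∉ B}) := alternatingGroup.isSimpleGroup hc
  have hp : Group.IsPerfect (alternatingGroup {x : α // x ∉ B}) := by
    apply CfsgLib.Comp.simple_nonabelian_perfect hs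
    intro hcomm
    haveI := hcomm
    have h4 : 5 ≤ (Finset.univ : Finset {x : α // x ∉ B}).card := by
      rw [Finset.card_univ, ← Nat.card_eq_fintype_card]; exact hc
    obtain ⟨T, -, hTc⟩ := Finset.exists_subset_card_eq (le_trans (by norm_num : 4 ≤ 5) h4)
    obtain ⟨a, b, c, d, hab, hac, had, hbc, hbd, hcd, rfl⟩ := Finset.card_eq_four.1 hTc
    obtain ⟨g, hg1, hg2, hg3, hg4⟩ := exists_c3 hab hac hbc
    obtain ⟨k, hk1, hk2, hk3, hk4⟩ := exists_c3 hab had hbd
    have h5 : g * k = k * g := Std.Commutative.comm (op := (· * ·)) g k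
    have h6 : (g : Perm _) ((k : Perm _) a) = (k : Perm _) ((g : Perm _) a) :=
      congrArg (fun t : alternatingGroup {x : α // x ∉ B} => (t : Perm _) a) h5
    rw [hk1, hg1, hg2, hk2] at h6
    exact hcd h6
  exact CfsgLib.Comp.quasisimple_of_surjective (MonoidHom.id _) Function.surjective_id (by
    rw [MonoidHom.ker_id]; exact bot_le) hs hp

theorem main {B : Finset α} (h4 : B.card = 4) (h9 : 9 ≤ Fintype.card α) : IsStandardSubgroup (PS B) := by
  have hBc : (Bᶜ).card = Fintype.card α - 4 := by rw [Finset.card_compl, h4]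
  have hB5 : 5 ≤ (Bᶜ).card := by omega
  have hcc : (Bᶜ)ᶜ = B := compl_compl B
  have hnn : ∀ g : alternatingGroup α, g ∈ normalizer ((PS B : Subgroup (alternatingGroup α)) : Set (alternatingGroup α)) ↔
      g ∈ normalizer ((PS Bᶜ : Subgroup (alternatingGroup α)) : Set (alternatingGroup α)) := by
    intro g
    rw [mem_norm (by omega), mem_norm (by rw [hcc]; omega), ← compl_map]
    exact compl_inj_iff.symm
  refine ⟨quasi hB5, ?_, ?_, ?_⟩
  · rw [centr hB5]
    refine ⟨even_four (by rw [hcc]; omega), ?_⟩
    intro g hg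
    rw [map_PS]
    have h1 : PS Bᶜ ⊓ PS ((Bᶜ).map (g : Perm α).toEmbedding) = PS (Bᶜ ∪ (Bᶜ).map (g : Perm α).toEmbedding) := by
      ext x
      rw [Subgroup.mem_inf]
      constructor
      · rintro ⟨h1, h2⟩ y hy
        rcases Finset.mem_union.1 hy with h | h
        · exact h1 y h
        · exact h2 y h
      · intro h
        exact ⟨fun y hy => h y (Finset.mem_union_left _ hy), fun y hy => h y (Finset.mem_union_right _ hy)⟩
    rw [h1]
    apply odd_small
    rw [Finset.compl_union, compl_map, hcc]
    rw [← hnn, mem_norm (by omega)] at hg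
    by_contra hcon
    apply hg
    have h2 : (B ∩ B.map (g : Perm α).toEmbedding) = B := by
      apply Finset.eq_of_subset_of_card_le Finset.inter_subset_left
      omega
    have h3 : B ⊆ B.map (g : Perm α).toEmbedding := by
      rw [← Finset.inter_eq_left]; exact h2
    exact (Finset.eq_of_subset_of_card_le h3 (by rw [card_map_perm])).symm
  · intro g hg hcom
    rw [map_PS] at hg hcom
    rw [Subgroup.commutator_comm, Subgroup.commutator_eq_bot_iff_le_centralizer, centr hB5] at hcom
    rw [le_iff (by rw [compl_map, card_map_perm]; omega)] at hcom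
    have := Finset.card_le_card hcom
    rw [card_map_perm] at this
    omega
  · rw [centr hB5]
    ext g
    exact hnn g

/-- For n ≥ 9, the subgroup of the alternating group on Fin n fixing each of the points 0, 1, 2, 3 is a standard subgroup. -/
theorem result (n : ℕ) (h4 : 4 ≤ n) (hn : 9 ≤ n) : Cfsg.IsStandardSubgroup (⨅ i : Fin 4, MulAction.stabilizer ↥(alternatingGroup (Fin n)) (Fin.castLE h4 i : Fin n)) := by
  have hinf : (⨅ i : Fin 4, MulAction.stabilizer ↥(alternatingGroup (Fin n)) (Fin.castLE h4 i : Fin n)) =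
      PS (Finset.univ.image (fun i : Fin 4 => Fin.castLE h4 i)) := by
    ext g
    rw [Subgroup.mem_iInf]
    constructor
    · intro h x hx
      rw [Finset.mem_image] at hx
      obtain ⟨i, -, rfl⟩ := hx
      exact h i
    · intro h i
      exact h _ (Finset.mem_image.2 ⟨i, Finset.mem_univ _, rfl⟩)
  rw [hinf]
  apply main
  · rw [Finset.card_image_of_injective _ (Fin.castLE_injective h4), Finset.card_univ, Fintype.card_fin]
  · rw [Fintype.card_fin]; exact hn
end Cfsg.Agent.S1323
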