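import Cfsg.Statements.S1338
import Cfsg.Agent.LibKconn8c

set_option autoImplicit false
open Cfsg

namespace Cfsg.Agent.S1338


/-- A finite 3-group of 3-rank at least 4 is 2-connected for the prime 3: its commuting graph on elementary abelian subgroups of order ≥ 9 is connected. -/
theorem result {P : Type*} [Group P] [Finite P] (hP : IsPGroup 3 P) (hrk : ¬ Cfsg.PRankLE 3 3 P) : Cfsg.IsKConnected 3 2 P := by
  have hp := Nat.prime_three
  have hP' : IsPGroup 3 (⊤ : Subgroup P) := hP.to_subgroup ⊤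
  have hr3 : ¬ Cfsg.PRankLE 3 3 (⊤ : Subgroup P) := by
    intro h
    apply hrk
    rw [CfsgLib.BGPi.rank_top_iff]
    rw [CfsgLib.BGPi.rank_iff] at h
    exact fun A hA => h A le_top hA
  have hr : ¬ Cfsg.PRankLE 3 2 (⊤ : Subgroup P) := fun h =>
    hr3 (CfsgLib.BGPi.rank_le hp (by norm_num) h)
  obtain ⟨U, h1, h2, h3, h4⟩ := CfsgLib.Kconn8.component hp hP' hr
  have key : ∀ X : Subgroup P, Cfsg.IsElementaryAbelian 3 X → 3 ^ 2 ≤ Nat.card X →
      Relation.ReflTransGen (CfsgLib.Kconn8.Ed 3) X U := by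
    intro X hX hXc
    rw [h4 X hX hXc]
    intro h
    exact hr3 (CfsgLib.Kconn8.rank_three hP hX hXc h)
  have hsymm : ∀ X : Subgroup P, Relation.ReflTransGen (CfsgLib.Kconn8.Ed 3) X U →
      Relation.ReflTransGen (CfsgLib.Kconn8.Ed 3) U X := by
    intro X h
    induction h using Relation.ReflTransGen.head_induction_on with
    | refl => exact Relation.ReflTransGen.refl
    | head h _ ih =>
      exact Relation.ReflTransGen.tail ih ⟨h.2.2.1, h.2.2.2.1, h.1, h.2.1,
        fun a ha b hb => (h.2.2.2.2 b hb a ha).symm⟩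
  intro E E' hE hEc hE' hEc'
  exact (key E hE hEc).trans (hsymm E' (key E' hE' hEc'))
end Cfsg.Agent.S1338
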