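import Cfsg.Statements.S1339
import Cfsg.Agent.LibLEP

set_option autoImplicit false
open Cfsg

namespace Cfsg.Agent.S1339

open Subgroup

section
variable {F : Type*} [Field F] {n : ℕ}

theorem comm_entries {g : Matrix (Fin n) (Fin n) F} {i k : Fin n} 
    (h : g * Matrix.transvection i k 1 = Matrix.transvection i k 1 * g) :
    (∀ a, a ≠ i → g a i = 0) ∧ (∀ b, b ≠ k → g k b = 0) ∧ g i i = g k k := by
  have h1 : g * Matrix.single i k 1 = Matrix.single i k 1 * g := by
    rw [Matrix.transvection, mul_add, add_mul, mul_one, one_mul] at h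
    exact add_left_cancel h
  refine ⟨?_, ?_, ?_⟩
  · intro a ha
    have := congrFun (congrFun h1 a) k
    rw [Matrix.mul_single_apply_same, Matrix.single_mul_apply_of_ne (h := ha), mul_one] at this
    exact this
  · intro b hb
    have := congrFun (congrFun h1 i) b
    rw [Matrix.single_mul_apply_same, Matrix.mul_single_apply_of_ne (hbj := hb), one_mul] at this
    exact this.symm
  · have := congrFun (congrFun h1 i) k
    rw [Matrix.mul_single_apply_same, Matrix.single_mul_apply_same, mul_one, one_mul] at this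
    exact this

theorem two_el [Fintype F] [DecidableEq F] (hF : Fintype.card F = 2) (x : F) (hx : x ≠ 0) : x = 1 := by
  have h1 := FiniteField.pow_card_sub_one_eq_one x hx
  rw [hF] at h1
  simpa using h1

theorem add_self [Fintype F] [DecidableEq F] (hF : Fintype.card F = 2) (x : F) : x + x = 0 := by
  by_cases hx : x = 0
  · rw [hx, add_zero]
  · by_contra h
    have h1 := two_el hF x hx
    have h2 := two_el hF _ h
    rw [h1] at h2
    have : (1 : F) = 0 := by linear_combination h2
    exact one_ne_zero this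

variable {i j : Fin n} {t : Matrix.SpecialLinearGroup (Fin n) F}

theorem cent_entries (ht : (t : Matrix (Fin n) (Fin n) F) = Matrix.transvection i j 1)
    (g : centralizer ({t} : Set (Matrix.SpecialLinearGroup (Fin n) F))) :
    (∀ a, a ≠ i → (g : Matrix.SpecialLinearGroup (Fin n) F) a i = 0) ∧
    (∀ b, b ≠ j → (g : Matrix.SpecialLinearGroup (Fin n) F) j b = 0) ∧
    (g : Matrix.SpecialLinearGroup (Fin n) F) i i = (g : Matrix.SpecialLinearGroup (Fin n) F) j j := by
  apply comm_entries
  have h1 := mem_centralizer_singleton_iff.1 g.2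
  have h2 := congrArg (fun u : Matrix.SpecialLinearGroup (Fin n) F => (u : Matrix (Fin n) (Fin n) F)) h1
  simp only [Matrix.SpecialLinearGroup.coe_mul, ht] at h2
  exact h2

/-- restriction to the middle -/
def mid (hij : i ≠ j) (ht : (t : Matrix (Fin n) (Fin n) F) = Matrix.transvection i j 1) :
    centralizer ({t} : Set (Matrix.SpecialLinearGroup (Fin n) F)) →*
      Matrix {a : Fin n // a ≠ i ∧ a ≠ j} {a : Fin n // a ≠ i ∧ a ≠ j} F where
  toFun g := ((g : Matrix.SpecialLinearGroup (Fin n) F) : Matrix (Fin n) (Fin n) F).submatrix Subtype.val Subtype.val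
  map_one' := by
    ext a b
    simp only [Subgroup.coe_one, Matrix.SpecialLinearGroup.coe_one, Matrix.submatrix_apply, Matrix.one_apply, Subtype.ext_iff]
  map_mul' := by
    intro g h
    ext a b
    rw [Matrix.submatrix_apply, Subgroup.coe_mul, Matrix.SpecialLinearGroup.coe_mul, Matrix.mul_apply, Matrix.mul_apply]
    have hg := cent_entries ht g
    have hh := cent_entries ht h
    simp only [Matrix.submatrix_apply]
    have h1 : ∀ c : Fin n, ¬ (c ≠ i ∧ c ≠ j) → (g : Matrix.SpecialLinearGroup (Fin n) F) a c * (h : Matrix.SpecialLinearGroup (Fin n) F) c b = 0 := by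
      intro c hc
      by_cases hci : c = i
      · rw [hci, hg.1 a a.2.1, zero_mul]
      · have hcj : c = j := by
          by_contra hh; exact hc ⟨hci, hh⟩
        rw [hcj, hh.2.1 b b.2.2, mul_zero]
    symm
    apply Finset.sum_of_injOn (e := Subtype.val)
    · exact fun x _ y _ h => Subtype.ext h
    · exact fun x _ => Finset.mem_coe.2 (Finset.mem_univ _)
    · intro c _ hc
      apply h1
      intro hcc
      exact hc ⟨⟨c, hcc⟩, Finset.mem_coe.2 (Finset.mem_univ _), rfl⟩
    · intro c _; rfl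

theorem mid_apply (hij : i ≠ j) (ht : (t : Matrix (Fin n) (Fin n) F) = Matrix.transvection i j 1)
    (g : centralizer ({t} : Set (Matrix.SpecialLinearGroup (Fin n) F))) (a b : {a : Fin n // a ≠ i ∧ a ≠ j}) :
    mid hij ht g a b = (g : Matrix.SpecialLinearGroup (Fin n) F) a b := rfl

theorem mem_ker (hij : i ≠ j) (ht : (t : Matrix (Fin n) (Fin n) F) = Matrix.transvection i j 1)
    {g : centralizer ({t} : Set (Matrix.SpecialLinearGroup (Fin n) F))} :
    g ∈ (mid hij ht).ker ↔ ∀ a b : Fin n, a ≠ i → a ≠ j → b ≠ i → b ≠ j →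
      (g : Matrix.SpecialLinearGroup (Fin n) F) a b = (1 : Matrix (Fin n) (Fin n) F) a b := by
  rw [MonoidHom.mem_ker]
  constructor
  · intro h a b h1 h2 h3 h4
    have := congrFun (congrFun h ⟨a, h1, h2⟩) ⟨b, h3, h4⟩
    rw [mid_apply] at this
    rw [this, Matrix.one_apply, Matrix.one_apply]
    simp only [Subtype.mk.injEq]
  · intro h
    ext a b
    rw [mid_apply, h a b a.2.1 a.2.2 b.2.1 b.2.2, Matrix.one_apply, Matrix.one_apply]
    simp only [Subtype.ext_iff]

variable [Fintype F] [DecidableEq F]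

theorem diag_one (hF : Fintype.card F = 2) (hij : i ≠ j) (ht : (t : Matrix (Fin n) (Fin n) F) = Matrix.transvection i j 1)
    (g : centralizer ({t} : Set (Matrix.SpecialLinearGroup (Fin n) F))) :
    (g : Matrix.SpecialLinearGroup (Fin n) F) i i = 1 ∧ (g : Matrix.SpecialLinearGroup (Fin n) F) j j = 1 := by
  have hg := cent_entries ht g
  have h1 : (g : Matrix.SpecialLinearGroup (Fin n) F) i i ≠ 0 := by
    intro h0
    have h20 : (g : Matrix.SpecialLinearGroup (Fin n) F)⁻¹ * (g : Matrix.SpecialLinearGroup (Fin n) F) = 1 := inv_mul_cancel _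
    have h21 := congrArg (fun u : Matrix.SpecialLinearGroup (Fin n) F => (u : Matrix (Fin n) (Fin n) F)) h20
    have h22 : (((g : Matrix.SpecialLinearGroup (Fin n) F)⁻¹ : Matrix.SpecialLinearGroup (Fin n) F) : Matrix (Fin n) (Fin n) F) * ((g : Matrix.SpecialLinearGroup (Fin n) F) : Matrix (Fin n) (Fin n) F) = 1 := h21
    have h2 : ((((g : Matrix.SpecialLinearGroup (Fin n) F)⁻¹ : Matrix.SpecialLinearGroup (Fin n) F) : Matrix (Fin n) (Fin n) F) * ((g : Matrix.SpecialLinearGroup (Fin n) F) : Matrix (Fin n) (Fin n) F)) i i = 1 := by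
      rw [h22, Matrix.one_apply_eq]
    rw [Matrix.mul_apply] at h2
    rw [Finset.sum_eq_zero] at h2
    · exact zero_ne_one h2
    · intro c _
      by_cases hc : c = i
      · rw [hc]
        have : ((g : Matrix.SpecialLinearGroup (Fin n) F) : Matrix (Fin n) (Fin n) F) i i = 0 := h0
        rw [this, mul_zero]
      · have : ((g : Matrix.SpecialLinearGroup (Fin n) F) : Matrix (Fin n) (Fin n) F) c i = 0 := hg.1 c hc
        rw [this, mul_zero]
  have h2 := two_el hF _ h1
  exact ⟨h2, hg.2.2 ▸ h2⟩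

theorem ker_pgroup (hF : Fintype.card F = 2) (hij : i ≠ j) (ht : (t : Matrix (Fin n) (Fin n) F) = Matrix.transvection i j 1) :
    IsPGroup 2 (mid hij ht).ker := by
  intro g
  refine ⟨2, ?_⟩
  have hg := cent_entries ht g.1
  have hk := (mem_ker hij ht).1 g.2
  have hd := diag_one hF hij ht g.1
  obtain ⟨M, hM⟩ : ∃ M : Matrix (Fin n) (Fin n) F, M = ((g.1 : Matrix.SpecialLinearGroup (Fin n) F) : Matrix (Fin n) (Fin n) F) := ⟨_, rfl⟩
  have hg1 : ∀ a, a ≠ i → M a i = 0 := by rw [hM]; exact hg.1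
  have hg2 : ∀ b, b ≠ j → M j b = 0 := by rw [hM]; exact hg.2.1
  have hk' : ∀ a b : Fin n, a ≠ i → a ≠ j → b ≠ i → b ≠ j → M a b = (1 : Matrix (Fin n) (Fin n) F) a b := by rw [hM]; exact hk
  have hd1 : M i i = 1 := by rw [hM]; exact hd.1
  have hd2 : M j j = 1 := by rw [hM]; exact hd.2
  have hN : ∀ a b, (M - 1) a b ≠ 0 → (a = i ∧ b ≠ i) ∨ (b = j ∧ a ≠ j) := by
    intro a b hab
    rw [Matrix.sub_apply] at hab
    by_cases ha : a = i
    · left
      refine ⟨ha, ?_⟩
      intro hb
      rw [ha, hb, hd1, Matrix.one_apply_eq, sub_self] at hab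
      exact hab rfl
    · by_cases hb : b = j
      · right
        refine ⟨hb, ?_⟩
        intro hc
        rw [hb, hc, hd2, Matrix.one_apply_eq, sub_self] at hab
        exact hab rfl
      · exfalso
        apply hab
        by_cases haj : a = j
        · rw [haj, hg2 b hb, Matrix.one_apply_ne (Ne.symm hb), sub_zero]
        · by_cases hbi : b = i
          · rw [hbi, hg1 a ha, Matrix.one_apply_ne ha, sub_zero]
          · rw [hk' a b ha haj hbi hb, sub_self]
  obtain ⟨N, hNd⟩ : ∃ N : Matrix (Fin n) (Fin n) F, N = M - 1 := ⟨_, rfl⟩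
  rw [← hNd] at hN
  have hN2 : ∀ a b, (N * N) a b ≠ 0 → a = i ∧ b = j := by
    intro a b hab
    rw [Matrix.mul_apply] at hab
    obtain ⟨c, -, hc⟩ := Finset.exists_ne_zero_of_sum_ne_zero hab
    have h1 := hN a c (left_ne_zero_of_mul hc)
    have h2 := hN c b (right_ne_zero_of_mul hc)
    rcases h1 with ⟨h1, h1'⟩ | ⟨h1, h1'⟩
    · rcases h2 with ⟨h2, h2'⟩ | ⟨h2, h2'⟩
      · exact absurd h2 h1'
      · exact ⟨h1, h2⟩
    · rcases h2 with ⟨h2, h2'⟩ | ⟨h2, h2'⟩
      · exact absurd (h2.symm.trans h1) hij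
      · exact absurd h1 h2'
  have hN4 : (N * N) * (N * N) = 0 := by
    ext a b
    rw [Matrix.zero_apply, Matrix.mul_apply]
    apply Finset.sum_eq_zero
    intro c _
    by_contra hc
    have h1 := hN2 a c (left_ne_zero_of_mul hc)
    have h2 := hN2 c b (right_ne_zero_of_mul hc)
    exact hij (h2.1.symm.trans h1.2)
  have hself : ∀ A : Matrix (Fin n) (Fin n) F, A + A = 0 := by
    intro A
    ext a b
    exact add_self hF _
  have hMM : M * M = 1 + N * N := by
    have h1 : M = 1 + N := by rw [hNd]; abel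
    rw [h1]
    calc (1 + N) * (1 + N) = 1 + N * N + (N + N) := by noncomm_ring
      _ = 1 + N * N := by rw [hself, add_zero]
  have hM4 : (M * M) * (M * M) = 1 := by
    rw [hMM]
    calc (1 + N * N) * (1 + N * N) = 1 + (N * N) * (N * N) + (N * N + N * N) := by noncomm_ring
      _ = 1 := by rw [hself, hN4, add_zero, add_zero]
  apply Subtype.ext
  apply Subtype.ext
  apply Subtype.ext
  show ((((g.1 : Matrix.SpecialLinearGroup (Fin n) F)) ^ (2 ^ 2) : Matrix.SpecialLinearGroup (Fin n) F) : Matrix (Fin n) (Fin n) F) = 1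
  rw [Matrix.SpecialLinearGroup.coe_pow, ← hM]
  calc M ^ (2 ^ 2) = (M * M) * (M * M) := by
        rw [show (2 ^ 2 : ℕ) = 2 * 2 from rfl, pow_mul, pow_two, pow_two]
    _ = 1 := hM4

/-- the transvection `1 + E_ik` as an element of the centralizer -/
theorem exists_tv (hij : i ≠ j) (ht : (t : Matrix (Fin n) (Fin n) F) = Matrix.transvection i j 1)
    {a b : Fin n} (hab : a ≠ b) (h1 : (a = i ∧ b ≠ j) ∨ (b = j ∧ a ≠ i)) : 
    ∃ g : (mid hij ht).ker, ((g.1 : Matrix.SpecialLinearGroup (Fin n) F) : Matrix (Fin n) (Fin n) F) = Matrix.transvection a b 1 := by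
  let s : Matrix.SpecialLinearGroup (Fin n) F := ⟨Matrix.transvection a b 1, Matrix.det_transvection_of_ne a b hab 1⟩
  have hs : s ∈ centralizer ({t} : Set (Matrix.SpecialLinearGroup (Fin n) F)) := by
    rw [mem_centralizer_singleton_iff]
    apply Subtype.ext
    show Matrix.transvection a b 1 * (t : Matrix (Fin n) (Fin n) F) = (t : Matrix (Fin n) (Fin n) F) * Matrix.transvection a b 1
    rw [ht, Matrix.transvection, Matrix.transvection]
    have h2 : Matrix.single a b (1 : F) * Matrix.single i j (1 : F) = 0 := by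
      apply Matrix.single_mul_single_of_ne
      rcases h1 with ⟨h1, h1'⟩ | ⟨h1, h1'⟩
      · intro h; exact hab (h1.trans h.symm)
      · intro h; exact hij (h.symm.trans h1)
    have h3 : Matrix.single i j (1 : F) * Matrix.single a b (1 : F) = 0 := by
      apply Matrix.single_mul_single_of_ne
      rcases h1 with ⟨h1, h1'⟩ | ⟨h1, h1'⟩
      · intro h; exact hij (h1.symm.trans h.symm)
      · intro h; exact hab (h.symm.trans h1.symm)
    simp only [add_mul, mul_add, mul_one, one_mul, h2, h3]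
    abel
  refine ⟨⟨⟨s, hs⟩, ?_⟩, rfl⟩
  rw [mem_ker]
  intro c d h2 h3 h4 h5
  show Matrix.transvection a b 1 c d = (1 : Matrix (Fin n) (Fin n) F) c d
  rw [Matrix.transvection, Matrix.add_apply, Matrix.single_apply_of_ne, add_zero]
  rintro ⟨h6, h7⟩
  rcases h1 with ⟨h1, h1'⟩ | ⟨h1, h1'⟩
  · exact h2 (h6.symm.trans h1)
  · exact h5 (h7.symm.trans h1)

theorem cent_ker (hF : Fintype.card F = 2) (hij : i ≠ j) (ht : (t : Matrix (Fin n) (Fin n) F) = Matrix.transvection i j 1) :
    centralizer (((mid hij ht).ker : Subgroup _) : Set (centralizer ({t} : Set (Matrix.SpecialLinearGroup (Fin n) F)))) ≤ (mid hij ht).ker := by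
  intro g hg
  rw [mem_ker]
  intro a b h1 h2 h3 h4
  obtain ⟨u, hu⟩ := exists_tv hij ht (Ne.symm h1) (Or.inl ⟨rfl, h2⟩)
  have h5 := (mem_centralizer_iff.1 hg) u.1 u.2
  have h6 : ((g : Matrix.SpecialLinearGroup (Fin n) F) : Matrix (Fin n) (Fin n) F) * Matrix.transvection i a 1 =
      Matrix.transvection i a 1 * ((g : Matrix.SpecialLinearGroup (Fin n) F) : Matrix (Fin n) (Fin n) F) := by
    rw [← hu]
    have := congrArg (fun v : centralizer ({t} : Set (Matrix.SpecialLinearGroup (Fin n) F)) =>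
      ((v : Matrix.SpecialLinearGroup (Fin n) F) : Matrix (Fin n) (Fin n) F)) h5
    exact this.symm
  obtain ⟨-, k2, k3⟩ := comm_entries h6
  by_cases hab : b = a
  · rw [hab, Matrix.one_apply_eq]
    show ((g : Matrix.SpecialLinearGroup (Fin n) F) : Matrix (Fin n) (Fin n) F) a a = 1
    rw [← k3]
    exact (diag_one hF hij ht g).1
  · rw [Matrix.one_apply_ne (Ne.symm hab)]
    exact k2 b hab
end

/-- Let F be a field with 2 elements, n ≥ 3, and t ∈ SL(n, F) a transvection (t = 1 + E_{ij}, i ≠ j). Then the generalized Fitting subgroup of C(t) is O_2(C(t)). -/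
theorem result {F : Type*} [Field F] [Fintype F] [DecidableEq F] (hF : Fintype.card F = 2) (n : ℕ) (hn : 3 ≤ n) (i j : Fin n) (hij : i ≠ j) (t : Matrix.SpecialLinearGroup (Fin n) F) (ht : (t : Matrix (Fin n) (Fin n) F) = Matrix.transvection i j 1) : Cfsg.generalizedFittingSubgroup ↥(Subgroup.centralizer ({t} : Set (Matrix.SpecialLinearGroup (Fin n) F))) = Cfsg.pCore 2 ↥(Subgroup.centralizer ({t} : Set (Matrix.SpecialLinearGroup (Fin n) F))) := by
  classical
  haveI : Fact (Nat.Prime 2) := ⟨Nat.prime_two⟩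
  rw [CfsgLib.LE.gfit_eq_pCore_iff]
  have h1 : (mid hij ht).ker ≤ Cfsg.pCore 2 ↥(Subgroup.centralizer ({t} : Set (Matrix.SpecialLinearGroup (Fin n) F))) :=
    CfsgLib.Cores.le_pCore inferInstance (ker_pgroup hF hij ht)
  exact (Subgroup.centralizer_le h1).trans ((cent_ker hF hij ht).trans h1)
end Cfsg.Agent.S1339
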