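import Cfsg.Statements.S1340
import Cfsg.Agent.LibSLE8

set_option autoImplicit false
open Cfsg

namespace Cfsg.Agent.S1340

open Subgroup


/-- Let F be a finite field of odd order and n ≥ 3 with (n, |F|) ≠ (3, 3). Then GL(n, F) has a non-central involution t such that C(t) / O(C(t)) has a component. -/
theorem result {F : Type*} [Field F] [Fintype F] [DecidableEq F] (hF : Odd (Fintype.card F)) (n : ℕ) (hn : 3 ≤ n) (h33 : ¬ (n = 3 ∧ Fintype.card F = 3)) : ∃ t : Matrix.GeneralLinearGroup (Fin n) F, orderOf t = 2 ∧ t ∉ Subgroup.center (Matrix.GeneralLinearGroup (Fin n) F) ∧ Cfsg.HasComponent (↥(Subgroup.centralizer ({t} : Set (Matrix.GeneralLinearGroup (Fin n) F))) ⧸ Cfsg.oddCore ↥(Subgroup.centralizer ({t} : Set (Matrix.GeneralLinearGroup (Fin n) F)))) := by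
  classical
  obtain ⟨m, rfl⟩ : ∃ m, n = m + 1 := ⟨n - 1, by omega⟩
  have h2 : (2 : F) ≠ 0 := CfsgLib.SLE8.two_ne_zero_of_odd hF
  have hdet : IsUnit (CfsgLib.SLE8.tm F m).det := by
    rw [CfsgLib.SLE8.det_tm]
    exact (isUnit_one.neg).pow m
  let t : Matrix.GeneralLinearGroup (Fin (m+1)) F := Matrix.GeneralLinearGroup.mk'' (CfsgLib.SLE8.tm F m) hdet
  have ht : (t : Matrix (Fin (m+1)) (Fin (m+1)) F) = CfsgLib.SLE8.tm F m := rfl
  have ht1 : t ≠ 1 := by
    intro h
    exact CfsgLib.SLE8.tm_ne_one h2 (by omega) (congrArg (fun u : Matrix.GeneralLinearGroup (Fin (m+1)) F => (u : Matrix (Fin (m+1)) (Fin (m+1)) F)) h)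
  have htt : t * t = 1 := Units.ext CfsgLib.SLE8.tm_sq
  refine ⟨t, ?_, ?_, ?_⟩
  · exact orderOf_eq_prime_iff.2 ⟨(pow_two t).trans htt, ht1⟩
  · intro hc
    rw [Subgroup.mem_center_iff] at hc
    -- all matrices are block diagonal
    have hij : (Fin.castSucc (⟨0, by omega⟩ : Fin m)) ≠ Fin.last m := (Fin.castSucc_lt_last _).ne
    let u : Matrix.GeneralLinearGroup (Fin (m+1)) F :=
      Matrix.SpecialLinearGroup.toGL ⟨Matrix.transvection (Fin.castSucc (⟨0, by omega⟩ : Fin m)) (Fin.last m) 1,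
        Matrix.det_transvection_of_ne _ _ hij 1⟩
    have h3 := hc u
    have h4 : u ∈ centralizer ({t} : Set (Matrix.GeneralLinearGroup (Fin (m+1)) F)) :=
      mem_centralizer_singleton_iff.2 h3
    rw [CfsgLib.SLE8.gl_Bd h2 ht] at h4
    have h5 := (h4 ⟨0, by omega⟩).1
    have h6 : Matrix.transvection (Fin.castSucc (⟨0, by omega⟩ : Fin m)) (Fin.last m) (1 : F) (Fin.castSucc (⟨0, by omega⟩ : Fin m)) (Fin.last m) = 0 := h5
    rw [Matrix.transvection, Matrix.add_apply, Matrix.one_apply_ne hij, Matrix.single_apply_same, zero_add] at h6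
    exact one_ne_zero h6
  · have hq : Cfsg.IsQuasisimple (Matrix.SpecialLinearGroup (Fin m) F) := by
      apply CfsgLib.KS3.isQuasisimple_SL m (by omega)
      rintro ⟨h7, h8⟩
      apply h33
      have h9 : 2 ≤ Fintype.card F := Fintype.one_lt_card
      obtain ⟨k, hk⟩ := hF
      exact ⟨by omega, by omega⟩
    have hcomp := CfsgLib.SLE8.component_range (CfsgLib.SLE8.glC h2 ht) (CfsgLib.SLE8.glC_inj h2 ht) (CfsgLib.SLE8.glC_normal h2 ht) hq
    have hK := CfsgLib.PComp.component_map (QuotientGroup.mk' (Cfsg.oddCore ↥(Subgroup.centralizer ({t} : Set (Matrix.GeneralLinearGroup (Fin (m+1)) F)))))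
      (QuotientGroup.mk'_surjective _) hcomp (by
        intro h
        rw [Subgroup.map_eq_bot_iff, QuotientGroup.ker_mk'] at h
        obtain ⟨s, hs⟩ := CfsgLib.SLE8.exists_inv_sl (F := F) h2 (show 2 ≤ m by omega)
        have h3 : (CfsgLib.SLE8.glC h2 ht) s ∈ Cfsg.oddCore ↥(Subgroup.centralizer ({t} : Set (Matrix.GeneralLinearGroup (Fin (m+1)) F))) := h ⟨s, rfl⟩
        have h4 : orderOf ((CfsgLib.SLE8.glC h2 ht) s) = 2 := by
          rw [orderOf_injective _ (CfsgLib.SLE8.glC_inj h2 ht)]; exact hs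
        have h5 : orderOf (⟨_, h3⟩ : Cfsg.oddCore ↥(Subgroup.centralizer ({t} : Set (Matrix.GeneralLinearGroup (Fin (m+1)) F)))) = 2 := by
          rw [Subgroup.orderOf_mk]; exact h4
        have h6 := orderOf_dvd_natCard (⟨_, h3⟩ : Cfsg.oddCore ↥(Subgroup.centralizer ({t} : Set (Matrix.GeneralLinearGroup (Fin (m+1)) F))))
        rw [h5] at h6
        have h7 := CfsgLib.SLE8.oddCore_odd (G := ↥(Subgroup.centralizer ({t} : Set (Matrix.GeneralLinearGroup (Fin (m+1)) F))))
        exact (Nat.not_even_iff_odd.2 h7) (even_iff_two_dvd.2 h6))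
    exact ⟨_, hK.1, hK.2⟩
end Cfsg.Agent.S1340
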