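import Cfsg.Statements.S1359
import Cfsg.Agent.LibBG17h

set_option autoImplicit false
open Cfsg

namespace Cfsg.Agent.S1359
open CfsgLib.BGPi

/-- Let G be a minimal simple group of odd order and M a maximal subgroup with standard factorisation M = K U M_σ. Then the subgroup generated by those elements of U which centralize some non-identity element of M_σ is abelian. -/
theorem result {G : Type*} [Group G] [Finite G] (hG : Cfsg.IsMinSimpleOddOrder G)
    (M : Subgroup G) (hM : IsCoatom M) (K U : Subgroup G) (hKU : Cfsg.IsSigmaDecomposition M K U) :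
    IsMulCommutative (Subgroup.closure ((U : Set G) ∩ Cfsg.sigmaHat M)) := by
  obtain ⟨hE, hUE, hKE, -⟩ := dec_facts hG hM hKU
  have key : ∀ A : Subgroup G, A ≤ Subgroup.centralizer (A : Set G) →
      (U : Set G) ∩ Cfsg.sigmaHat M ⊆ A →
      IsMulCommutative (Subgroup.closure ((U : Set G) ∩ Cfsg.sigmaHat M)) := by
    intro A hA h
    have h1 : Subgroup.closure ((U : Set G) ∩ Cfsg.sigmaHat M) ≤ A :=
      (Subgroup.closure_le A).2 h
    exact comm_iff_le_cz.2 ((h1.trans hA).trans (cz_anti h1))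
  by_cases hK1 : K = ⊥
  · have hκ := kappa_empty_of hG hM hKU.hall hK1
    have hE' : Cfsg.IsPiHallOf (Cfsg.sigma M)ᶜ U M := by
      rw [hK1, sup_bot_eq] at hE
      exact hE
    obtain ⟨⟨A₀, h1, h2, h3, h4⟩, -⟩ := s1421 hG hM hE' (h13_of_kappa hG hM hE' hκ)
    refine key A₀ h3 ?_
    rintro u ⟨hu, -, x, hx, hx1, hux⟩
    exact h4 x hx hx1 ⟨hu, Subgroup.mem_centralizer_singleton_iff.2 hux⟩
  · exact key U (dec_U_ab hG hM hKU hK1) Set.inter_subset_left


end Cfsg.Agent.S1359
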