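import Cfsg.Statements.S1360
import Cfsg.Agent.LibBG17h

set_option autoImplicit false
open Cfsg

namespace Cfsg.Agent.S1360
open CfsgLib.BGPi

/-- Let G be a minimal simple group of odd order and M a maximal subgroup with standard factorisation M = K U M_σ. Then U contains a subgroup U₀ with the same exponent as U such that no non-identity element of U₀ centralizes a non-identity element of M_σ. -/
theorem result {G : Type*} [Group G] [Finite G] (hG : Cfsg.IsMinSimpleOddOrder G)
    (M : Subgroup G) (hM : IsCoatom M) (K U : Subgroup G) (hKU : Cfsg.IsSigmaDecomposition M K U) :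
    ∃ U₀ : Subgroup G, U₀ ≤ U ∧ Monoid.exponent U₀ = Monoid.exponent U ∧ ∀ u ∈ U₀, u ∈ Cfsg.sigmaHat M → u = 1 := by
  obtain ⟨U₀, h1, h2, h3⟩ := s1360 hG hM hKU
  refine ⟨U₀, h1, h2, ?_⟩
  rintro u hu ⟨-, x, hx, hx1, hux⟩
  by_contra hu1
  have h4 : x ∈ Cfsg.sigmaCore M ⊓ Subgroup.centralizer ({u} : Set G) :=
    ⟨hx, Subgroup.mem_centralizer_singleton_iff.2 hux.symm⟩
  rw [h3 u hu hu1] at h4
  exact hx1 (Subgroup.mem_bot.1 h4)


end Cfsg.Agent.S1360
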