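import Cfsg.Statements.S1390
import Cfsg.Agent.LibBG17j

set_option autoImplicit false
open Cfsg

namespace Cfsg.Agent.S1390
open CfsgLib.BGPi

/-- Let G be a minimal simple group of odd order, M a maximal subgroup and H = M_F; suppose M is of Type I and U is a complement to H in M, or M is of Type II and U is a complement to H in M'. Then every Sylow subgroup of U is abelian with no elementary abelian subgroup of order p ^ 3; for every nonempty set X of non-identity elements of U centralizing a non-identity element of H, C_G(X) ≤ M and M is the unique maximal subgroup containing C_G(X); and A(M) with A₁(M) removed is a TI-subset of G. -/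
theorem result {G : Type*} [Group G] [Finite G] (hG : Cfsg.IsMinSimpleOddOrder G)
    (M : Subgroup G) (hM : IsCoatom M) (U : Subgroup G)
    (hU : (Cfsg.IsOfTypeI M ∧ Cfsg.IsComplIn (Cfsg.fittingHallOf M) U M) ∨ (Cfsg.IsOfTypeII M ∧ Cfsg.IsComplIn (Cfsg.fittingHallOf M) U ⁅M, M⁆)) :
    (∀ (p : ℕ), p.Prime → ∀ P : Sylow p U, IsMulCommutative (P : Subgroup U) ∧ Cfsg.PRankLE p 2 (P : Subgroup U)) ∧
      (∀ X : Set G, X ⊆ (U : Set G) \ {1} → X.Nonempty → Cfsg.fittingHallOf M ⊓ Subgroup.centralizer X ≠ ⊥ →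
        Subgroup.centralizer X ≤ M ∧ ∀ L : Subgroup G, IsCoatom L → Subgroup.centralizer X ≤ L → L = M) ∧
      Cfsg.IsTISubset (Cfsg.typeA M \ Cfsg.typeA1 M) := by
  classical
  obtain ⟨K, hKU, hF, hcase⟩ := type12_dec hG hM hU
  refine ⟨Cfsg.Agent.S1358.result hG M hM K U hKU, ?_, ?_⟩
  · intro X hX hXne hXc
    have hcl : Subgroup.closure X ≤ U := (Subgroup.closure_le U).2 (fun x hx => (hX hx).1)
    have hcl1 : Subgroup.closure X ≠ ⊥ := by
      intro h
      obtain ⟨x, hx⟩ := hXne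
      have h1 : x ∈ Subgroup.closure X := Subgroup.subset_closure hx
      rw [h] at h1
      exact (hX hx).2 (Subgroup.mem_bot.1 h1)
    have hcz : Subgroup.centralizer ((Subgroup.closure X : Subgroup G) : Set G)
        = Subgroup.centralizer X := Subgroup.centralizer_closure X
    have h := Cfsg.Agent.S1361.result hG M hM K U hKU (Subgroup.closure X) hcl hcl1
      (by rw [hcz, ← hF]; exact hXc)
    rw [hcz] at h
    exact h
  · have hdec := Cfsg.Agent.S1362.result hG M hM K U hKU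
    have hset : Cfsg.typeA M \ Cfsg.typeA1 M
        = Cfsg.sigmaA M U \ (Cfsg.sigmaCore M : Set G) := by
      have hcore : Cfsg.typeCore M = Cfsg.sigmaCore M := by
        rw [Cfsg.typeCore, if_neg, hF]
        intro h34
        exact (type34_fwd hG hM hKU h34).2.2 hF
      rcases hcase with ⟨h1, hK1, hs⟩ | ⟨h2, hK1, hU1, hs⟩
      · ext a
        rw [Cfsg.typeA, if_pos h1, Cfsg.typeA1, hcore, hF, Cfsg.sigmaA, hs, Cfsg.sigmaHat]
        constructor
        · rintro ⟨⟨ha, ha1, x, hx, hx1, hax⟩, hn⟩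
          exact ⟨⟨⟨ha, x, hx, hx1, hax⟩, ha⟩, fun h => hn ⟨h, ha1⟩⟩
        · rintro ⟨⟨⟨ha, x, hx, hx1, hax⟩, -⟩, hn⟩
          have ha1 : a ≠ 1 := fun h => hn (by rw [h]; exact (Cfsg.sigmaCore M).one_mem)
          exact ⟨⟨ha, ha1, x, hx, hx1, hax⟩, fun h => hn h.1⟩
      · have hnI : ¬ Cfsg.IsOfTypeI M := fun h => hK1 (typeF_kappa hG hM hKU h.1)
        ext a
        rw [Cfsg.typeA, if_neg hnI, Cfsg.typeA1, hcore, ← hs, Cfsg.sigmaA, Cfsg.sigmaHat]
        constructor
        · rintro ⟨⟨ha, ha1, x, hx, hx1, hax⟩, hn⟩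
          refine ⟨⟨⟨?_, x, hx, hx1, hax⟩, ha⟩, fun h => hn ⟨h, ha1⟩⟩
          rw [hs] at ha
          exact comm_self_le M ha
        · rintro ⟨⟨⟨ha, x, hx, hx1, hax⟩, ha'⟩, hn⟩
          have ha1 : a ≠ 1 := fun h => hn (by rw [h]; exact (Cfsg.sigmaCore M).one_mem)
          exact ⟨⟨ha', ha1, x, hx, hx1, hax⟩, fun h => hn h.1⟩
    rw [hset]
    exact hdec


end Cfsg.Agent.S1390
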