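import Cfsg.Statements.S1412
import Cfsg.Agent.LibBGOm6
import Cfsg.Agent.LibBG10e

set_option autoImplicit false
open Cfsg

namespace Cfsg.Agent.S1412
open CfsgLib.BGPi

/-- Let G be a minimal simple group of odd order, p a prime and P a Sylow p-subgroup of G with no elementary abelian subgroup of order p ^ 3. Then either P is abelian, or P is generated by two elementwise-commuting subgroups P₁, P₂ with P₁ nonabelian of order p ^ 3 and exponent p, P₂ cyclic, and the elements of P₂ of order dividing p generating exactly the centre of P₁. -/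
theorem result {G : Type*} [Group G] [Finite G] (hG : Cfsg.IsMinSimpleOddOrder G) (p : ℕ) [Fact p.Prime] (P : Sylow p G) (hr : Cfsg.PRankLE p 2 (P : Subgroup G)) :
    IsMulCommutative (P : Subgroup G) ∨ ∃ P₁ P₂ : Subgroup G, P₁ ⊔ P₂ = (P : Subgroup G) ∧ (∀ a ∈ P₁, ∀ b ∈ P₂, a * b = b * a) ∧
        ¬ IsMulCommutative P₁ ∧ Nat.card P₁ = p ^ 3 ∧ Monoid.exponent P₁ = p ∧ IsCyclic P₂ ∧
        Subgroup.closure {x : G | x ∈ P₂ ∧ x ^ p = 1} = P₁ ⊓ Subgroup.centralizer (P₁ : Set G) := by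
  have hp : p.Prime := Fact.out
  have hP := hall_of_sylow P
  by_cases hP1 : (P : Subgroup G) = ⊥
  · left
    rw [hP1]
    exact ⟨⟨fun a b => Subsingleton.elim _ _⟩⟩
  have hPp := P.isPGroup'
  have hPt := ms_p_ne_top hG hp hPp
  have hNt := ms_nz_ne_top hG hP1 hPt
  have hNs := ms_sol hG hNt
  have hp2 : p ≠ 2 := by
    rintro rfl
    have h1 := pgroup_dvd_card hp hPp hP1
    have h2 := ms_odd hG (P : Subgroup G)
    rw [Nat.odd_iff] at h2
    omega
  obtain ⟨V, hV, -⟩ := hall_exists_aux (π := {p}ᶜ) hNs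
  have hPN := hall_le_of_le hP Subgroup.le_normalizer le_top
  have hsup := hall_sup_compl hPN hV
  have hVN := hall_le hV
  have hcop : (Nat.card V).Coprime p := (isPi_compl_singleton' hp).1 (hall_isPi hV)
  have hPV : ⁅(P : Subgroup G), V⁆ = P := by
    refine eq_comm_of_le_der hVN ?_ ?_ ?_
    · exact IsPi.inf_eq_bot (hall_isPi hP) (hall_isPi hV)
    · exact solvable_of_isPGroup hp hPp
    · rw [hsup]; exact bg10_7foc hG hp hP
  obtain ⟨h3, h⟩ := rank2_struct' hp hp2 hPp hP1 hr hVN hcop (ms_odd hG V) hPV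
  refine h.imp id ?_
  rintro ⟨R₁, R₂, h1, h2, h3, h4, h5, h6, h7, h8⟩
  exact ⟨R₁, R₂, h1, h2, h3, h4, h5, h6, h7.trans h8⟩


end Cfsg.Agent.S1412
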