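import Cfsg.Statements.S1413
import Cfsg.Agent.LibBG10e

set_option autoImplicit false
open Cfsg

namespace Cfsg.Agent.S1413
open CfsgLib.BGPi

/-- Let G be a minimal simple group of odd order, p a prime and P a Sylow p-subgroup. (c) If Q ≤ P and xQx⁻¹ ≤ P then xQx⁻¹ = yQy⁻¹ for some y ∈ N_G(P). (d) For every Q ≤ P, p does not divide the index of N_P(Q) in N_G(Q). (e) If R is a p-subgroup and Q ≤ P ∩ R is normal in N_G(P), then Q is normal in N_G(R). -/
theorem result {G : Type*} [Group G] [Finite G] (hG : Cfsg.IsMinSimpleOddOrder G) (p : ℕ) [Fact p.Prime] (P : Sylow p G) :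
    (∀ (Q : Subgroup G) (x : G), Q ≤ (P : Subgroup G) → Q.map (MulAut.conj x).toMonoidHom ≤ (P : Subgroup G) →
        ∃ y ∈ Subgroup.normalizer ((P : Subgroup G) : Set G), Q.map (MulAut.conj x).toMonoidHom = Q.map (MulAut.conj y).toMonoidHom) ∧
      (∀ Q : Subgroup G, Q ≤ (P : Subgroup G) →
        ¬ p ∣ ((P : Subgroup G) ⊓ Subgroup.normalizer (Q : Set G)).relIndex (Subgroup.normalizer (Q : Set G))) ∧
      (∀ (R Q : Subgroup G), IsPGroup p R → Q ≤ (P : Subgroup G) ⊓ R →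
        Subgroup.normalizer ((P : Subgroup G) : Set G) ≤ Subgroup.normalizer (Q : Set G) →
        Subgroup.normalizer (R : Set G) ≤ Subgroup.normalizer (Q : Set G)) := by
  have hp : p.Prime := Fact.out
  have hP := hall_of_sylow P
  have key : ∀ (Q : Subgroup G) (x : G), Q ≤ (P : Subgroup G) → Q ^ᵍ x ≤ (P : Subgroup G) →
      ∃ y ∈ Subgroup.normalizer ((P : Subgroup G) : Set G), Q ^ᵍ x = Q ^ᵍ y := by
    intro Q x hQ hx
    obtain ⟨y, hy, c, hc, rfl⟩ := bg10_7fus hG hp hP hQ hx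
    refine ⟨y, hy, ?_⟩
    rw [cj_mul, mem_nz.1 (cz_le_nz Q hc)]
  refine ⟨key, fun Q hQ => ?_, fun R Q hR hQ hn => ?_⟩
  · exact (hall_iff.1 (bg10_7syl hG hp hP hQ)).2.2 p hp rfl
  · obtain ⟨g, -, hg⟩ := syl_subj hp hP (isPi_of_isPGroup hp hR) le_top
    have hQP : Q ≤ (P : Subgroup G) := hQ.trans inf_le_left
    have hQR : Q ≤ R := hQ.trans inf_le_right
    -- every conjugate of `Q` inside `P` is `Q`
    have h1 : ∀ x : G, Q ^ᵍ x ≤ (P : Subgroup G) → Q ^ᵍ x = Q := by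
      intro x hx
      obtain ⟨y, hy, he⟩ := key Q x hQP hx
      rw [he]
      exact mem_nz.1 (hn hy)
    intro n hnR
    have h2 := h1 g ((cj_mono hQR g).trans hg)
    have h3 : Q ^ᵍ (g * n) ≤ (P : Subgroup G) := by
      refine le_trans ?_ hg
      rw [cj_mul]
      refine cj_mono ?_ g
      rw [← mem_nz.1 hnR]
      exact cj_mono hQR n
    have h4 := h1 _ h3
    rw [mem_nz]
    rw [cj_mul] at h4
    exact cj_inj.1 (h4.trans h2.symm)


end Cfsg.Agent.S1413
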