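import Cfsg.Statements.S1416
import Cfsg.Agent.LibBG12b

set_option autoImplicit false
open Cfsg

namespace Cfsg.Agent.S1416
open CfsgLib.BGPi

/-- Let G be a minimal simple group of odd order, M a maximal subgroup, p a prime and A ≤ M elementary abelian of order p ^ 2. Then C_G(A) ≤ M. If moreover for every subgroup A₀ of A of order p, M is not the unique maximal subgroup containing N_G(A₀), then p ∈ σ(M), M_α = 1 and M_σ is nilpotent. -/
theorem result {G : Type*} [Group G] [Finite G] (hG : Cfsg.IsMinSimpleOddOrder G)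
    (M : Subgroup G) (hM : IsCoatom M) (p : ℕ) [Fact p.Prime] (A : Subgroup G) (hA : (A ≤ M ∧ Cfsg.IsElementaryAbelian p A ∧ Nat.card A = p ^ 2)) :
    Subgroup.centralizer (A : Set G) ≤ M ∧
      ((∀ A₀ : Subgroup G, A₀ ≤ A → Nat.card A₀ = p →
          ¬ (Subgroup.normalizer (A₀ : Set G) ≤ M ∧ ∀ L : Subgroup G, IsCoatom L → Subgroup.normalizer (A₀ : Set G) ≤ L → L = M)) →
        p ∈ Cfsg.sigma M ∧ Cfsg.alphaCore M = ⊥ ∧ Group.IsNilpotent (Cfsg.sigmaCore M)) := by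
  have hp : p.Prime := Fact.out
  obtain ⟨hAM, hAe, hAc⟩ := hA
  refine ⟨bg12_4a hG hM hp hAM hAe hAc, fun h => bg12_4b hG hM hp hAM hAe hAc ?_⟩
  intro A₀ hA0 hA0c
  have h1 := h A₀ hA0 hA0c
  by_cases h2 : Subgroup.normalizer (A₀ : Set G) ≤ M
  · have h3 : ∃ L : Subgroup G, IsCoatom L ∧ Subgroup.normalizer (A₀ : Set G) ≤ L ∧ L ≠ M := by
      by_contra hcon
      push Not at hcon
      exact h1 ⟨h2, hcon⟩
    obtain ⟨L, hL, hNL, hne⟩ := h3
    exact ⟨L, hL, hne, hNL⟩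
  · obtain ⟨H, hH, hN⟩ := exists_max hG (nz_line_ne_top hG hp hA0c)
    refine ⟨H, hH, ?_, hN⟩
    rintro rfl
    exact h2 hN


end Cfsg.Agent.S1416
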