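import Cfsg.Statements.S1421
import Cfsg.Agent.LibBG17h

set_option autoImplicit false
open Cfsg

namespace Cfsg.Agent.S1421
open CfsgLib.BGPi

/-- Let G be a minimal simple group of odd order, M a maximal subgroup and E a complement to M_σ in M. Suppose that every non-identity element e of E all of whose order's prime divisors lie in τ₁(M) ∪ τ₃(M) has M_σ ∩ C_G(e) = 1. Then E has an abelian normal subgroup A₀ with E ∩ C_G(x) ≤ A₀ for every non-identity x ∈ M_σ, and E has a subgroup E₀ of the same exponent as E such that no non-identity element of E₀ centralizes a non-identity element of M_σ. -/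
theorem result {G : Type*} [Group G] [Finite G] (hG : Cfsg.IsMinSimpleOddOrder G)
    (M : Subgroup G) (hM : IsCoatom M) (E : Subgroup G) (hE : Cfsg.IsComplIn E (Cfsg.sigmaCore M) M)
    (h : ∀ e ∈ E, e ≠ 1 → (∀ p : ℕ, p.Prime → p ∣ orderOf e → p ∈ Cfsg.tau1 M ∪ Cfsg.tau3 M) →
      Cfsg.sigmaCore M ⊓ Subgroup.centralizer ({e} : Set G) = ⊥) :
    (∃ A₀ : Subgroup G, A₀ ≤ E ∧ E ≤ Subgroup.normalizer (A₀ : Set G) ∧ IsMulCommutative A₀ ∧
        ∀ x ∈ Cfsg.sigmaCore M, x ≠ 1 → E ⊓ Subgroup.centralizer ({x} : Set G) ≤ A₀) ∧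
      ∃ E₀ : Subgroup G, E₀ ≤ E ∧ Monoid.exponent E₀ = Monoid.exponent E ∧
        ∀ e ∈ E₀, e ≠ 1 → Cfsg.sigmaCore M ⊓ Subgroup.centralizer ({e} : Set G) = ⊥ := by
  have hH := compl_hall hG hM hE
  have h13 : ∀ (q : ℕ) (K : Subgroup G), q.Prime → K ≤ E → Nat.card K = q →
        q ∈ Cfsg.tau1 M ∪ Cfsg.tau3 M →
        Cfsg.sigmaCore M ⊓ Subgroup.centralizer (K : Set G) = ⊥ := by
    intro q K hq hK hKc hq13
    obtain ⟨z, hz, hz1⟩ := (Subgroup.ne_bot_iff_exists_ne_one).1 (ne_bot_of_card_prime hq hKc)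
      |> fun ⟨z, hz⟩ => (⟨z.1, z.2, fun h => hz (Subtype.ext h)⟩ : ∃ z : G, z ∈ K ∧ z ≠ 1)
    have h1 := zpowers_eq_of_prime hq hKc hz hz1
    have h2 := h z (hK hz) hz1 (by
      intro p hp hpd
      rw [← Nat.card_zpowers, h1, hKc] at hpd
      rw [(Nat.prime_dvd_prime_iff_eq hp hq).1 hpd]
      exact hq13)
    rwa [cz1_eq, h1] at h2
  obtain ⟨⟨A₀, h1, h2, h3, h4⟩, h5⟩ := s1421 hG hM hH h13
  exact ⟨⟨A₀, h1, h2, comm_iff_le_cz.2 h3, h4⟩, h5⟩


end Cfsg.Agent.S1421
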