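import Cfsg.Statements.S1437
import Cfsg.Agent.LibBG15j

set_option autoImplicit false
open Cfsg

namespace Cfsg.Agent.S1437
open CfsgLib.BGPi

/-- Let G be a minimal simple group of odd order and M a maximal subgroup with standard factorisation M = K U M_σ such that M_F ≠ M_σ; put K* = M_σ ∩ C_G(K), p = #K, q = #K*. Then U = 1 and M_σ = M'; p and q are prime, q divides #M_F and q ∈ β(M); M_σ has a Sylow q-subgroup Q normal in M and contained in M_F; every complement D of Q in M_σ is nilpotent, and Q₀ = Q ∩ C_G(D) is normal in M; Q₀ < Q with #Q = #Q₀ · q ^ p, every element of Q has its q-th power and all its commutators with Q in Q₀, and every subgroup strictly between Q₀ and Q fails to be normal in M. -/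
theorem result {G : Type*} [Group G] [Finite G] (hG : Cfsg.IsMinSimpleOddOrder G)
    (M : Subgroup G) (hM : IsCoatom M) (K U : Subgroup G) (hKU : Cfsg.IsSigmaDecomposition M K U) (hne : Cfsg.fittingHallOf M ≠ Cfsg.sigmaCore M) :
    U = ⊥ ∧ Cfsg.sigmaCore M = ⁅M, M⁆ ∧ (Nat.card K).Prime ∧ (Nat.card ↥(Cfsg.sigmaCore M ⊓ Subgroup.centralizer (K : Set G))).Prime ∧
      Nat.card ↥(Cfsg.sigmaCore M ⊓ Subgroup.centralizer (K : Set G)) ∣ Nat.card (Cfsg.fittingHallOf M) ∧ Nat.card ↥(Cfsg.sigmaCore M ⊓ Subgroup.centralizer (K : Set G)) ∈ Cfsg.beta M ∧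
      ∃ Q : Subgroup G, Q ≤ Cfsg.fittingHallOf M ∧ M ≤ Subgroup.normalizer (Q : Set G) ∧ IsPGroup (Nat.card ↥(Cfsg.sigmaCore M ⊓ Subgroup.centralizer (K : Set G))) Q ∧
        ¬ Nat.card ↥(Cfsg.sigmaCore M ⊓ Subgroup.centralizer (K : Set G)) ∣ Q.relIndex (Cfsg.sigmaCore M) ∧
        ∀ D : Subgroup G, Cfsg.IsComplIn Q D (Cfsg.sigmaCore M) →
          Group.IsNilpotent D ∧ M ≤ Subgroup.normalizer ((Q ⊓ Subgroup.centralizer (D : Set G) : Subgroup G) : Set G) ∧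
          Q ⊓ Subgroup.centralizer (D : Set G) < Q ∧
          Nat.card Q = Nat.card ↥(Q ⊓ Subgroup.centralizer (D : Set G)) * Nat.card ↥(Cfsg.sigmaCore M ⊓ Subgroup.centralizer (K : Set G)) ^ Nat.card K ∧
          (∀ a ∈ Q, ∀ b ∈ Q, a ^ Nat.card ↥(Cfsg.sigmaCore M ⊓ Subgroup.centralizer (K : Set G)) ∈ Q ⊓ Subgroup.centralizer (D : Set G) ∧
            a * b * a⁻¹ * b⁻¹ ∈ Q ⊓ Subgroup.centralizer (D : Set G)) ∧
          ∀ N : Subgroup G, Q ⊓ Subgroup.centralizer (D : Set G) < N → N < Q → ¬ M ≤ Subgroup.normalizer (N : Set G) := by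
  have hn : ¬ Group.IsNilpotent (Cfsg.sigmaCore M) :=
    fun h => hne (sigmaCore_eq_fittingHallOf hG hM h).symm
  obtain ⟨hU, hK1, K₁, D₀, q, c⟩ := exists_NF hG hM hKU hn
  have hQh := (c.Qhall hG).1
  have hQM : Cfsg.piCoreOf {q} (Cfsg.sigmaCore M) ≤ Cfsg.sigmaCore M := piCoreOf_le _ _
  rw [c.star]
  refine ⟨hU, (c.der hG).symm, c.Kp hG, c.qp, ?_, c.qβ hG,
    Cfsg.piCoreOf {q} (Cfsg.sigmaCore M), c.QMF hG, c.Qn hG, (isPi_piCoreOf _ _).isPGroup c.qp,
    hQh.2.2 q c.qp rfl, ?_⟩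
  · rw [← c.star]
    exact Subgroup.card_dvd_of_le (c.starMF hG)
  · intro D hD
    obtain ⟨hDn, hDQ⟩ := c.D0c hG (hall_of_compl hQh hD)
    rw [hDQ]
    refine ⟨hDn, c.Q0M hG, lt_of_le_of_ne inf_le_left (c.Q0ne hG), c.cardQ hG, ?_, ?_⟩
    · intro a ha b hb
      refine ⟨c.phi_le' hG (pow_mem_phi ha), ?_⟩
      exact c.phi_le' hG (comm_le_phi _ _ (Subgroup.commutator_mem_commutator ha hb))
    · intro N h1 h2 h3
      rcases c.irr hG h2.le h1.le h3 with h4 | h4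
      · exact h1.ne h4.symm
      · exact h2.ne h4


end Cfsg.Agent.S1437
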