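import Cfsg.Statements.S1444
import Cfsg.Agent.LibBGThm36h

set_option autoImplicit false
open Cfsg

namespace Cfsg.Agent.S1444
open CfsgLib.BGPi

/-- Let G be a solvable group of odd order, H a normal subgroup of order coprime to its index, R a complement to H in G, and R₀ ≤ R a subgroup of prime order such that every Sylow subgroup of H ∩ C_G(R₀) is cyclic. Then for every prime p the commutator subgroup [H, R] satisfies [H,R] = O_{p',p,p'}([H,R]). -/
theorem result {G : Type*} [Group G] [Finite G] [Group.IsSolvable G] (hodd : Odd (Nat.card G)) (H R R₀ : Subgroup G) [H.Normal] (hHall : (Nat.card H).Coprime H.index)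
    (hR : Subgroup.IsComplement' H R) (hR₀ : R₀ ≤ R) (hR₀p : (Nat.card R₀).Prime) (hZ : IsZGroup ↥(H ⊓ Subgroup.centralizer (R₀ : Set G)))
    (p : ℕ) [Fact p.Prime] :
    Cfsg.PLengthLE p 1 ↥⁅H, R⁆ := by

  have hp : p.Prime := Fact.out
  have hRc : Nat.card R = H.index := by
    have h1 := hR.card_mul
    have h2 := H.card_mul_index
    exact Nat.eq_of_mul_eq_mul_left Nat.card_pos (h1.trans h2.symm)
  have c : C36 H R R₀ :=
    { sol := inferInstance
      odd := Odd.of_dvd_nat hodd (Subgroup.card_subgroup_dvd_card H)
      oddR := Odd.of_dvd_nat hodd (Subgroup.card_subgroup_dvd_card R)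
      nz := by rw [Subgroup.normalizer_eq_top_iff.2 inferInstance]; exact le_top
      cop := by rw [hRc]; exact hHall.symm
      le := hR₀
      pr := hR₀p
      zg := hZ }
  exact (thm36 hp _ G H R R₀ rfl c).plen_sub hp


end Cfsg.Agent.S1444
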