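import Cfsg.Statements.S1445
import Cfsg.Agent.LibBG38

set_option autoImplicit false
open Cfsg

namespace Cfsg.Agent.S1445
open CfsgLib.BGPi

/-- Let G be a solvable group of odd order, K a normal subgroup and R a subgroup with G = KR and the orders of K and R coprime. Suppose K ∩ C_G(x) = K ∩ C_G(R) for every non-identity x ∈ R, and F(K) ∩ C_G(R) = 1. Then [K, R] is contained in the Fitting subgroup of K. -/
theorem result {G : Type*} [Group G] [Finite G] [Group.IsSolvable G] (hodd : Odd (Nat.card G)) (K R : Subgroup G) [K.Normal] (hKR : K ⊔ R = ⊤) (hcop : (Nat.card K).Coprime (Nat.card R))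
    (hprime : ∀ x ∈ R, x ≠ 1 → K ⊓ Subgroup.centralizer ({x} : Set G) = (K ⊓ Subgroup.centralizer (R : Set G)))
    (hF : Cfsg.fittingOf K ⊓ Subgroup.centralizer (R : Set G) = ⊥) :
    ⁅K, R⁆ ≤ Cfsg.fittingOf K := by

  have hRK : R ≤ 𝓝(K) := by rw [Subgroup.normalizer_eq_top_iff.2 inferInstance]; exact le_top
  have hKs : Group.IsSolvable K := inferInstance
  have hKodd : Odd (Nat.card K) := Odd.of_dvd_nat hodd (Subgroup.card_subgroup_dvd_card K)
  have hFn : R ≤ 𝓝(Cfsg.fittingOf K) := hRK.trans (nz_le_nz_fittingOf K)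
  by_cases hR1 : R = ⊥
  · rw [hR1, Subgroup.commutator_bot_right]; exact bot_le
  obtain ⟨r, hr, hrd⟩ := Nat.exists_prime_and_dvd (n := Nat.card R)
    (fun h => hR1 (Subgroup.card_eq_one.1 h))
  haveI : Fact r.Prime := ⟨hr⟩
  obtain ⟨⟨x, hx⟩, hxo⟩ := exists_prime_orderOf_dvd_card' r hrd
  have hxo' : orderOf x = r := by rw [← hxo]; exact (Subgroup.orderOf_mk _ _).symm
  have hx1 : x ≠ 1 := by
    rintro rfl
    rw [orderOf_one] at hxo'
    exact hr.one_lt.ne hxo'
  have hzx : Subgroup.zpowers x ≤ R := Subgroup.zpowers_le.2 hx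
  have hczx := cz_zpowers x
  have h1 := hprime x hx hx1
  have hr2 : r ≠ 2 := by
    rintro rfl
    exact (Nat.not_even_iff_odd.2 (Odd.of_dvd_nat hodd (Subgroup.card_subgroup_dvd_card R)))
      (even_iff_two_dvd.2 hrd)
  have hcop' : (Nat.card (Subgroup.zpowers x)).Coprime (Nat.card K) :=
    Nat.Coprime.coprime_dvd_left (Subgroup.card_dvd_of_le hzx) hcop.symm
  have hfix : Cfsg.fittingOf K ⊓ 𝓒(Subgroup.zpowers x) = ⊥ := by
    rw [← hF, hczx]
    apply le_antisymm
    · refine le_inf inf_le_left ?_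
      have h2 : Cfsg.fittingOf K ⊓ Subgroup.centralizer ({x} : Set G) ≤
          K ⊓ Subgroup.centralizer ({x} : Set G) := inf_le_inf_right _ (fittingOf_le K)
      exact h2.trans (h1.le.trans inf_le_right)
    · rw [← hczx]
      exact inf_le_inf_left _ (cz_anti hzx)
  have h2 := bg38 hKs hKodd (hzx.trans hRK) hcop' (by rw [Nat.card_zpowers, hxo']; exact hr)
    (by rw [Nat.card_zpowers, hxo']; exact hr2) hfix
  have h3 := cop_quot_cz (hzx.trans hRK) hcop' hKs (fittingOf_le K) (hzx.trans hFn) le_rfl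
    (le_nz_fittingOf K) h2
  rw [hczx, h1] at h3
  refine (Subgroup.commutator_mono h3 le_rfl).trans ?_
  refine (comm_sup_le_left (inf_le_left.trans (le_nz_fittingOf K)) hFn).trans (sup_le le_rfl ?_)
  rw [comm_eq_bot_iff.2 inf_le_right]; exact bot_le


end Cfsg.Agent.S1445
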