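import Cfsg.Statements.S1451
import Cfsg.Agent.LibBGRk2c

set_option autoImplicit false
open Cfsg

namespace Cfsg.Agent.S1451
open CfsgLib.BGPi
open scoped CfsgLib.BGPi commutatorElement

/-- Let G be a solvable group of odd order such that G, or its Fitting subgroup, has no elementary abelian subgroup of order q ^ 3 for any prime q. Then G' is nilpotent; for every Sylow subgroup S of G, every characteristic subgroup T of S with T ≤ [S, S] is normal in G; and for every prime p, G has a characteristic subgroup that is a Hall subgroup for the set of primes greater than p. -/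
theorem result {G : Type*} [Group G] [Finite G] [Group.IsSolvable G] (hodd : Odd (Nat.card G)) (hr : Cfsg.RankLE 2 G ∨ Cfsg.RankLE 2 (Cfsg.fittingSubgroup G)) :
    Group.IsNilpotent ↥(commutator G) ∧
      (∀ (q : ℕ) [Fact q.Prime] (S : Sylow q G) (T : Subgroup ↥(S : Subgroup G)), T.Characteristic → T.map (S : Subgroup G).subtype ≤ ⁅(S : Subgroup G), (S : Subgroup G)⁆ →
        (T.map (S : Subgroup G).subtype).Normal) ∧
      ∀ p : ℕ, ∃ N : Subgroup G, N.Characteristic ∧ Cfsg.IsPiHall {q | q.Prime ∧ p < q} N := by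
  have htop : Group.IsSolvable (⊤ : Subgroup G) := solvable_of_le_top
  have hto : Odd (Nat.card (⊤ : Subgroup G)) := by rwa [Subgroup.card_top]
  have hF : ∀ p : ℕ, p.Prime → Cfsg.PRankLE p 2 ↥(Cfsg.piCoreOf {p} (⊤ : Subgroup G)) := by
    intro p hp
    rcases hr with h | h
    · exact rank_of_top (h p hp)
    · have h1 := h p hp
      rw [← fitting_top] at h1
      exact rank_mono (pcore_le_fittingOf hp ⊤) h1
  have hder : commutator G ≤ Cfsg.fittingOf (⊤ : Subgroup G) := der_le_fitting htop hto hF
  have hnil : Group.IsNilpotent ↥(commutator G) := nilpotent_sub hder (fittingOf_nilpotent ⊤)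
  refine ⟨hnil, ?_, ?_⟩
  · intro q hq S T hT hTS
    have hqp := hq.out
    set D := commutator G with hD
    set T' := T.map (S : Subgroup G).subtype with hT'
    have hTS' : T' ≤ (S : Subgroup G) := Subgroup.map_subtype_le _
    have hSpi : IsPi {q} (S : Subgroup G) := isPi_of_isPGroup hqp S.2
    have hTD : T' ≤ D := hTS.trans (Subgroup.commutator_mono le_top le_top)
    have hTP : T' ≤ Cfsg.piCoreOf {q} D := nilpotent_le_piCoreOf hnil hTD (hSpi.le hTS')
    have hcomm : Cfsg.piCoreOf {q} D ≤ Subgroup.centralizer ((Cfsg.piCoreOf {q}ᶜ D : Subgroup G) : Set G) :=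
      nilpotent_commute hnil (piCoreOf_le _ _) (piCoreOf_le _ _) (isPi_piCoreOf _ _) (isPi_piCoreOf _ _)
    have h1 : Cfsg.piCoreOf {q}ᶜ D ≤ Subgroup.normalizer (T' : Set G) :=
      (le_cz_comm.1 (hTP.trans hcomm)).trans (cz_le_nz T')
    have h2 : Subgroup.normalizer ((S : Subgroup G) : Set G) ≤ Subgroup.normalizer (T' : Set G) := char_nz T
    have hDtop : (⊤ : Subgroup G) ≤ Subgroup.normalizer (D : Set G) := by rw [Subgroup.normalizer_eq_top]
    have hDS : Cfsg.piCoreOf {q} D ≤ (S : Subgroup G) := by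
      have h3 : Cfsg.piCoreOf {q} D ≤ Cfsg.piCoreOf {q} (⊤ : Subgroup G) := by
        rw [piCoreOf_of_normal le_top hDtop]; exact inf_le_right
      exact h3.trans (piCoreOf_le_hall (hall_of_sylow S))
    have hN : (⊤ : Subgroup G) ≤ Subgroup.normalizer (((S : Subgroup G) ⊔ D : Subgroup G) : Set G) := by
      rw [le_nz]
      intro g _ x hx
      have h3 : g * x * g⁻¹ = ⁅g, x⁆ * x := by rw [commutatorElement_def]; group
      rw [h3]
      exact mul_mem (Subgroup.mem_sup_right (Subgroup.commutator_mem_commutator (Subgroup.mem_top g)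
        (Subgroup.mem_top x))) hx
    have hfr := frattini_syl hqp (le_top : (S : Subgroup G) ⊔ D ≤ ⊤) hN
      (hall_le_of_le (hall_of_sylow S) le_sup_left le_top)
    rw [top_inf_eq] at hfr
    rw [← Subgroup.normalizer_eq_top_iff, eq_top_iff, ← hfr]
    refine sup_le (sup_le (Subgroup.le_normalizer.trans h2) ?_) h2
    rw [← nilpotent_sup_piCoreOf (π := {q}) hnil]
    exact sup_le ((hDS.trans Subgroup.le_normalizer).trans h2) h1
  · intro p
    obtain ⟨L, hL⟩ := hall_exists (π := {q | q.Prime ∧ p < q}) htop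
    have h1 := hall_large_le htop hto hF p hL
    have h2 := piCoreOf_eq_of_hall hL h1
    rw [piCoreOf_top] at h2
    refine ⟨Cfsg.piCore {q | q.Prime ∧ p < q} G, piCore_char' _, ?_⟩
    rw [h2, ← hall_top]
    exact hL

end Cfsg.Agent.S1451
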