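import Cfsg.Statements.S1452
import Cfsg.Agent.LibBGAlp

set_option autoImplicit false
open Cfsg

namespace Cfsg.Agent.S1452
open CfsgLib.BGPi
open scoped CfsgLib.BGPi commutatorElement

/-- Let p be an odd prime and R a finite p-group containing an elementary abelian subgroup of order p ^ 3. If E is a normal elementary abelian subgroup of R of order p ^ 2, then E ≤ A for some normal subgroup A of R with C_R(A) = A that contains an elementary abelian subgroup of order p ^ 3. -/
theorem result {R : Type*} [Group R] [Finite R] (p : ℕ) [Fact p.Prime] (hp : p ≠ 2) (hR : IsPGroup p R) (hr : ¬ Cfsg.PRankLE p 2 R)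
    (E : Subgroup R) [E.Normal] (hE : Cfsg.IsElementaryAbelian p E) (hE2 : Nat.card E = p ^ 2) :
    ∃ A : Subgroup R, E ≤ A ∧ A.Normal ∧ Subgroup.centralizer (A : Set R) = A ∧ ¬ Cfsg.PRankLE p 2 A := by
  have hpp : p.Prime := Fact.out
  have htop : ¬ Cfsg.PRankLE p 2 (⊤ : Subgroup R) := by
    intro h
    apply hr
    rw [rank_top_iff]
    rw [rank_iff] at h
    exact fun A hA => h A le_top hA
  obtain ⟨A, hEA, ⟨h1, h2, h3⟩, h4⟩ := exists_scn3 hpp hp (hR.to_subgroup ⊤) htop (le_top : E ≤ ⊤)
    (by rw [Subgroup.normalizer_eq_top]) hE hE2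
  refine ⟨A, hEA, Subgroup.normalizer_eq_top_iff.1 (top_le_iff.1 h2), ?_, h4⟩
  rw [top_inf_eq] at h3
  exact h3

end Cfsg.Agent.S1452
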