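import Cfsg.Statements.S1454
import Cfsg.Agent.LibBGOm7

set_option autoImplicit false
open Cfsg

namespace Cfsg.Agent.S1454
open CfsgLib.BGPi

/-- Let G be a finite group, p an odd prime, R a narrow p-subgroup and A a solvable subgroup of odd order normalizing R with A ∩ C_G(R) = 1. Then [A, A] ≤ O_p(A) and the index of O_p(A) in A is coprime to p; if R has an elementary abelian subgroup of order p ^ 3 then the order of every element of A of order coprime to p divides p − 1; and if the order of A is a prime not dividing p(p − 1), then 2·#A divides p + 1, and if in addition [R, A] = R and R is non-abelian then #R = p ^ 3. -/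
theorem result {G : Type*} [Group G] [Finite G] (p : ℕ) [Fact p.Prime] (hp : p ≠ 2) (R A : Subgroup G) (hR : IsPGroup p R) (hRn : Cfsg.IsNarrow p R)
    (hA : (A ≤ Subgroup.normalizer (R : Set G))) (hAs : Group.IsSolvable A) (hAodd : Odd (Nat.card A)) (hfaith : A ⊓ Subgroup.centralizer (R : Set G) = ⊥) :
    (commutator ↥A ≤ Cfsg.pCore p ↥A ∧ ((Cfsg.pCore p ↥A).index).Coprime p) ∧
      (¬ Cfsg.PRankLE p 2 R → ∀ a ∈ A, (orderOf a).Coprime p → orderOf a ∣ p - 1) ∧
      ((Nat.card A).Prime → ¬ Nat.card A ∣ p * (p - 1) →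
        2 * Nat.card A ∣ p + 1 ∧ (⁅R, A⁆ = R → ¬ IsMulCommutative R → Nat.card R = p ^ 3)) := by
  have hpp : p.Prime := Fact.out
  have hfx : ∀ a ∈ A, a ∈ Subgroup.centralizer (R : Set G) → a = 1 := by
    intro a ha hac
    have h1 : a ∈ A ⊓ Subgroup.centralizer (R : Set G) := Subgroup.mem_inf.2 ⟨ha, hac⟩
    rw [hfaith, Subgroup.mem_bot] at h1
    exact h1
  have hord : ∀ a ∈ A, orderOf a ∣ Nat.card A := by
    intro a ha
    have := orderOf_dvd_natCard (⟨a, ha⟩ : A)
    rwa [Subgroup.orderOf_mk] at this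
  have h2 : ¬ Cfsg.PRankLE p 2 R → ∀ a ∈ A, (orderOf a).Coprime p → orderOf a ∣ p - 1 := by
    intro hr a ha hap
    obtain ⟨E, c⟩ := narE_of_isNarrow' hpp hp hR hr hRn
    exact orderOf_dvd_of_pow_eq_one (hfx _ (pow_mem ha _) (c.pow (hA ha) hap))
  have hder : IsPGroup p ↥⁅A, A⁆ := by
    apply isPGroup_of_elements hpp
    intro q hq hqp x hx hxo
    have hcop : (orderOf x).Coprime p := by
      rw [hxo]; exact (Nat.coprime_primes hq hpp).2 hqp
    have hxA : x ∈ A := by
      have : ⁅A, A⁆ ≤ A := by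
        rw [Subgroup.commutator_le]
        intro a ha b hb
        exact mul_mem (mul_mem (mul_mem ha hb) (inv_mem ha)) (inv_mem hb)
      exact this hx
    have hxc : x ∈ Subgroup.centralizer (R : Set G) := by
      by_cases hr : Cfsg.PRankLE p 2 R
      · exact rk2_der hpp hp hR hr hA hAodd hx hcop
      · obtain ⟨E, c⟩ := narE_of_isNarrow' hpp hp hR hr hRn
        exact c.der hA hx hcop
    have := hfx x hxA hxc
    rw [this, orderOf_one] at hxo
    exact hq.ne_one hxo.symm
  have hder' : IsPGroup p ↥(commutator ↥A) := by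
    have h3 : (commutator ↥A).map A.subtype = ⁅A, A⁆ := by
      rw [commutator_def, Subgroup.map_commutator, ← MonoidHom.range_eq_map, Subgroup.range_subtype]
    rw [← h3] at hder
    exact hder.of_equiv ((commutator ↥A).equivMapOfInjective A.subtype A.subtype_injective).symm
  refine ⟨pcore_of_der hpp hder', h2, ?_⟩
  intro hq hqn
  have hqp : (Nat.card A).Coprime p := by
    rw [Nat.Prime.coprime_iff_not_dvd hq]
    exact fun h => hqn (h.mul_right _)
  have hqp1 : (Nat.card A).Coprime (p - 1) := by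
    rw [Nat.Prime.coprime_iff_not_dvd hq]
    exact fun h => hqn (h.mul_left _)
  have hA1 : A ≠ ⊥ := by
    intro h
    rw [h, Subgroup.card_bot] at hq
    exact Nat.not_prime_one hq
  obtain ⟨⟨a, ha⟩, ha1'⟩ := Subgroup.ne_bot_iff_exists_ne_one.1 hA1
  have ha1 : a ≠ 1 := fun h => ha1' (Subtype.ext h)
  have hao : orderOf (a : G) = Nat.card A := by
    rcases (Nat.dvd_prime hq).1 (hord a ha) with h | h
    · exact absurd (orderOf_eq_one_iff.1 h) ha1
    · exact h
  have hr : Cfsg.PRankLE p 2 R := by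
    by_contra hr
    have h3 := h2 hr a ha (by rw [hao]; exact hqp)
    rw [hao] at h3
    exact hqn (h3.mul_left _)
  refine ⟨?_, fun hRA hn => narrow_p3 hpp hp hR hr hA hAodd hqp hqp1 hRA hn⟩
  have h4 : Nat.card A ∣ p + 1 := by
    by_contra h5
    have h6 : (Nat.card A).Coprime (p + 1) := (Nat.Prime.coprime_iff_not_dvd hq).2 h5
    exact ha1 (hfx a ha (rk2_primes hpp hp hR hr hA ha (by rw [hao]; exact hqp)
      (by rw [hao]; exact hqp1) (by rw [hao]; exact h6)))
  refine Nat.Coprime.mul_dvd_of_dvd_of_dvd (Nat.coprime_two_left.2 hAodd) ?_ h4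
  have h5 := hpp.odd_of_ne_two hp
  rw [← even_iff_two_dvd]
  exact h5.add_one


end Cfsg.Agent.S1454
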