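import Cfsg.Statements.S1456
import Cfsg.Agent.LibBG10f

set_option autoImplicit false
open Cfsg

namespace Cfsg.Agent.S1456
open CfsgLib.BGPi

/-- Let G be a solvable group of odd order, p a prime, and E an elementary abelian p-subgroup of the Fitting subgroup F(G) such that F(G) ∩ C_G(E) has no elementary abelian subgroup of order q ^ 3 for any prime q. Then the derived subgroup of G is contained in F(G). -/
theorem result {G : Type*} [Group G] [Finite G] [Group.IsSolvable G] (hodd : Odd (Nat.card G)) (p : ℕ) [Fact p.Prime] (E : Subgroup G) (hE : E ≤ Cfsg.fittingSubgroup G) (hEe : Cfsg.IsElementaryAbelian p E)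
    (hr : Cfsg.RankLE 2 ↥(Cfsg.fittingSubgroup G ⊓ Subgroup.centralizer (E : Set G))) :
    commutator G ≤ Cfsg.fittingSubgroup G := by
  have hrank := hr
  have hF : Cfsg.fittingOf (⊤ : Subgroup G) = Cfsg.fittingSubgroup G := fitting_top
  have hcoe : (⊤ : Subgroup G) ≤ Subgroup.normalizer ((⊤ : Subgroup G) : Set G) := Subgroup.le_normalizer
  have key := der_le_fitting' (H := (⊤ : Subgroup G)) solvable_of_le_top ?_
  · rw [hF] at key
    exact key
  intro r hr x hx hxo
  by_cases hr2 : r = 2
  · subst hr2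
    have h1 : Cfsg.piCoreOf {2} (⊤ : Subgroup G) = ⊥ := by
      by_contra hne
      have h2 := isPi_pcore_dvd hne
      rw [Subgroup.card_top] at h2
      exact Nat.not_even_iff_odd.2 hodd (even_iff_two_dvd.2 h2)
    rw [h1, cz_bot]; trivial
  set R := Cfsg.piCoreOf {r} (⊤ : Subgroup G) with hR
  have hRp : IsPGroup r R := (isPi_piCoreOf _ _).isPGroup hr
  have hRn : (⊤ : Subgroup G) ≤ Subgroup.normalizer (R : Set G) := le_nz_piCoreOf _ _
  have hRF : R ≤ Cfsg.fittingSubgroup G := by
    rw [← hF]; exact pcore_le_fittingOf hr _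
  have hodd' : Odd (Nat.card (⊤ : Subgroup G)) := by rwa [Subgroup.card_top]
  by_cases hrk : Cfsg.PRankLE r 2 R
  · exact rk2_der hr hr2 hRp hrk hRn hodd' hx hxo
  -- `E` and `R`
  have hFn : Group.IsNilpotent (Cfsg.fittingSubgroup G) := by rw [← hF]; exact fittingOf_nilpotent _
  by_cases hrp : r = p
  swap
  · exfalso
    apply hrk
    have h1 : R ≤ Subgroup.centralizer (E : Set G) := by
      by_cases hpp : p.Prime
      swap
      · exact absurd Fact.out hpp
      refine nilpotent_commute (π := {r}) hFn hRF hE (isPi_piCoreOf _ _) ?_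
      refine (elab_isPi hpp hEe).mono ?_
      intro q hq h
      rw [Set.mem_singleton_iff] at hq h
      exact hrp (h ▸ hq)
    exact rank_mono (le_inf hRF h1) (hrank r hr)
  subst hrp
  have hER : E ≤ R := by
    have h1 := nilpotent_le_piCoreOf (π := {r}) hFn hE (elab_isPi hr hEe)
    have h2 : Cfsg.piCoreOf {r} (Cfsg.fittingSubgroup G) = R := by
      rw [← hF, piCoreOf_fittingOf hr]
    rwa [h2] at h1
  obtain ⟨E₁, hEE₁, hE₁R, hE₁, hmax⟩ := exists_max_elab hER hEe
  have h1 : Nat.card E₁ ≤ r ^ 2 := by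
    refine rank_iff.1 (hrank r hr) E₁ (le_inf (hE₁R.trans hRF) ?_) hE₁
    exact (comm_iff_le_cz.1 hE₁.1).trans (cz_anti hEE₁)
  exact (narE_of_max hr hr2 hRp hrk hE₁R hE₁ hmax h1).der hRn hx hxo


end Cfsg.Agent.S1456
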