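import Cfsg.Statements.S1458
import Cfsg.Agent.LibQd9C
import Cfsg.Agent.LibH2Npc
import Cfsg.Agent.LibCores
import Cfsg.Agent.LibBGThm36h

set_option autoImplicit false
open Cfsg

namespace Cfsg.Agent.S1458

/-- Let G be a solvable group of odd order, p a prime and S a Sylow p-subgroup of G. Then the subgroup generated by the centre of the Thompson subgroup of S and O_{p'}(G) is normal in G. -/
theorem result {G : Type*} [Group G] [Finite G] [Group.IsSolvable G] (hodd : Odd (Nat.card G)) (p : ℕ) [Fact p.Prime] (S : Sylow p G) :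
    (Cfsg.centerThompsonOf p (S : Subgroup G) ⊔ Cfsg.pPrimeCore p G).Normal := by
  classical
  haveI : (Cfsg.pPrimeCore p G).Normal := inferInstance
  by_cases hp2 : p = 2
  · subst hp2
    have hS : (S : Subgroup G) = ⊥ := by
      rw [← Subgroup.card_eq_one]
      obtain ⟨n, hn⟩ := IsPGroup.iff_card.1 S.isPGroup'
      rcases Nat.eq_zero_or_pos n with h0 | h0
      · rw [hn, h0, pow_zero]
      · exfalso
        have h1 : 2 ∣ Nat.card (S : Subgroup G) := by rw [hn]; exact dvd_pow_self 2 (by omega)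
        have h2 := h1.trans (Subgroup.card_subgroup_dvd_card (S : Subgroup G))
        rw [Nat.odd_iff] at hodd
        omega
    have h1 : Cfsg.centerThompsonOf 2 (S : Subgroup G) = ⊥ :=
      le_bot_iff.1 ((CfsgLib.H2Npc.centerThompsonOf_le 2 (S : Subgroup G)).trans hS.le)
    rw [h1, bot_sup_eq]
    infer_instance
  set N := Cfsg.pPrimeCore p G with hN
  set f := QuotientGroup.mk' N with hf
  have hfs : Function.Surjective f := QuotientGroup.mk'_surjective N
  have hodd' : Odd (Nat.card (G ⧸ N)) := by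
    have h1 : Nat.card (G ⧸ N) ∣ Nat.card G := Subgroup.card_quotient_dvd_card N
    exact Odd.of_dvd_nat hodd h1
  have hSL : ¬ CfsgLib.SecH12.IsSec (Matrix.SpecialLinearGroup (Fin 2) (ZMod p)) (G ⧸ N) := by
    rintro ⟨L, g, hg⟩
    have h1 : Nat.card (Matrix.SpecialLinearGroup (Fin 2) (ZMod p)) ∣ Nat.card L :=
      Subgroup.card_dvd_of_surjective g hg
    have h2 := h1.trans (Subgroup.card_subgroup_dvd_card L)
    have h3 : orderOf (-1 : Matrix.SpecialLinearGroup (Fin 2) (ZMod p)) = 2 := by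
      refine orderOf_eq_prime (by simp) ?_
      intro h
      have h4 := congrArg (fun m : Matrix.SpecialLinearGroup (Fin 2) (ZMod p) =>
        (m : Matrix (Fin 2) (Fin 2) (ZMod p)) 0 0) h
      have h5 : (-1 : ZMod p) = 1 := by simpa using h4
      haveI : Fact (2 < p) := ⟨by
        have := (Fact.out : p.Prime).two_le
        omega⟩
      exact ZMod.neg_one_ne_one h5
    have h4 : 2 ∣ Nat.card (G ⧸ N) := by
      have h5 : orderOf (-1 : Matrix.SpecialLinearGroup (Fin 2) (ZMod p))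
          ∣ Nat.card (Matrix.SpecialLinearGroup (Fin 2) (ZMod p)) := orderOf_dvd_natCard _
      rw [h3] at h5
      exact h5.trans h2
    rw [Nat.odd_iff] at hodd'
    omega
  have hc : Subgroup.centralizer ((Cfsg.pCore p (G ⧸ N) : Subgroup (G ⧸ N)) : Set (G ⧸ N))
      ≤ Cfsg.pCore p (G ⧸ N) := by
    have hp : p.Prime := Fact.out
    have h1 : Cfsg.pPrimeCore p (G ⧸ N) = ⊥ := CfsgLib.Cores.pPrimeCore_quotient_pPrimeCore p
    have h2 : Cfsg.piCoreOf {p}ᶜ (⊤ : Subgroup (G ⧸ N)) = ⊥ := by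
      rw [CfsgLib.BGPi.piCoreOf_top, ← CfsgLib.BGPi.pPrimeCore_eq_piCore hp, h1]
    have h3 := CfsgLib.BGPi.fitting_eq_pcore hp h2
    have hs : Group.IsSolvable (⊤ : Subgroup (G ⧸ N)) := inferInstance
    have h4 := CfsgLib.BGPi.cz_fittingOf_le hs
    rw [h3, CfsgLib.BGPi.piCoreOf_top, ← CfsgLib.BGPi.pCore_eq_piCore hp, top_inf_eq] at h4
    exact h4
  let T : Sylow p (G ⧸ N) := S.mapSurjective hfs
  have hT : (T : Subgroup (G ⧸ N)) = (S : Subgroup G).map f := rfl
  have h2 := CfsgLib.H2ZJe.center_Je_normal hp2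
    (fun K => CfsgLib.Qd9.noQuad_sub_of_SL2_free hp2 hSL K) hc T
  rw [← CfsgLib.H2Npc.centerThompsonOf_eq, hT, CfsgLib.H2Npc.centerThompsonOf_map] at h2
  · have h3 := h2.comap f
    rw [Subgroup.comap_map_eq, QuotientGroup.ker_mk'] at h3
    exact h3
  · have h5 : (S : Subgroup G) ⊓ N = ⊥ := by
      have hp : p.Prime := Fact.out
      have h6 : CfsgLib.BGPi.IsPi {p} (S : Subgroup G) :=
        CfsgLib.BGPi.isPi_of_isPGroup hp S.isPGroup'
      have h7 : CfsgLib.BGPi.IsPi {p}ᶜ N := by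
        rw [hN, CfsgLib.BGPi.pPrimeCore_eq_piCore hp]
        exact CfsgLib.BGPi.isPi_piCore _
      exact CfsgLib.BGPi.IsPi.inf_eq_bot h6 h7
    exact CfsgLib.H2Lift.injOn_of_inf_eq_bot h5


end Cfsg.Agent.S1458
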