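import Cfsg.Statements.S1534
import Cfsg.Agent.LibCoh23

set_option autoImplicit false
set_option linter.all false
open Cfsg

namespace Cfsg.Agent.S1534

theorem tif_of {G : Type*} [Group G] [Finite G] {K : Subgroup G} (hK1 : K ≠ ⊥) (hTI : Cfsg.IsTISubset (K : Set G)) (hlt : K < Subgroup.normalizer (K : Set G)) (hC : ∀ k ∈ K, k ≠ 1 → Subgroup.centralizer ({k} : Set G) ≤ K) : CfsgLib.Coh.TIF K (Subgroup.normalizer (K : Set G)) where
  hHL := hlt
  hH1 := hK1
  hHn := fun x hx h hh => (Subgroup.mem_normalizer_iff.mp hx h).mp hh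
  hC := fun h hh hh1 x _ hxh => hC h hh hh1 (Subgroup.mem_centralizer_singleton_iff.mpr hxh)
  hTI := fun g hg h hh hgh => hTI g hg h hh hgh

theorem relIndex_eq {G : Type*} [Group G] {K N : Subgroup G} (h : K ≤ N) : (⁅K.subgroupOf N, K.subgroupOf N⁆ : Subgroup N).relIndex (K.subgroupOf N) = (⁅K, K⁆ : Subgroup G).relIndex K := by
  rw [← Subgroup.relIndex_map_map_of_injective _ _ N.subtype_injective, Subgroup.map_commutator, Subgroup.map_subgroupOf_eq_of_le h]

/-- Let G be a finite group and K a nontrivial nilpotent subgroup whose underlying set is a TI-subset of G, properly contained in its set normaliser N, with C_G(k) ≤ K for every non-identity k ∈ K; let e be the index of K in N and S the set of irreducible characters χ of N with χ k ≠ χ 1 for some k ∈ K. Then one of: S has exactly one member, Nat.card K = e + 1 and K is an elementary abelian p-group for some prime p; or K is a Sylow 2-subgroup of G (Nat.card K is the largest power of 2 dividing Nat.card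 G) and [K : [K,K]] < 4e²; or (S, N minus 1, induction to G) is coherent. -/
theorem result {G : Type*} [Group G] [Fintype G] (K : Subgroup G) (hK1 : K ≠ ⊥) (hnil : Group.IsNilpotent K) (hTI : Cfsg.IsTISubset (K : Set G)) (hlt : K < Subgroup.normalizer (K : Set G)) (hC : ∀ k ∈ K, k ≠ 1 → Subgroup.centralizer ({k} : Set G) ≤ K) [Fintype ↥(Subgroup.normalizer (K : Set G))] : (Nat.card {χ : ↥(Subgroup.normalizer (K : Set G)) → ℂ // Cfsg.IsIrrCharacter ↥(Subgroup.normalizer (K : Set G)) χ ∧ ∃ k : ↥(Subgroup.normalizer (K : Set G)), (k : G) ∈ K ∧ χ k ≠ χ 1} = 1 ∧ Nat.card K = (K.subgroupOf (Subgroup.normalizer (K : Set G))).index + 1 ∧ ∃ p : ℕ, p.Prime ∧ Cfsg.IsElementaryAbelian p K) ∨ (Nat.card K = 2 ^ (Nat.card G).factorization 2 ∧ (⁅K, K⁆.subgroupOf K).index < 4 * (K.subgroupOf (Subgroup.normalizer (K : Set G))).index ^ 2) ∨ Cfsg.IsCoherent {χ : ↥(Subgroup.normalizer (K : Set G)) → ℂ | Cfsg.IsIrrCharacter ↥(Subgroup.normalizer (K : Set G)) χ ∧ ∃ k : ↥(Subgroup.normalizer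 (K : Set G)), (k : G) ∈ K ∧ χ k ≠ χ 1} {1}ᶜ (fun α => Cfsg.indFun (Subgroup.normalizer (K : Set G)) α) := by
  classical
  have D := tif_of hK1 hTI hlt hC
  have hS : {χ : ↥(Subgroup.normalizer (K : Set G)) → ℂ | Cfsg.IsIrrCharacter ↥(Subgroup.normalizer (K : Set G)) χ ∧ ∃ k : ↥(Subgroup.normalizer (K : Set G)), (k : G) ∈ K ∧ χ k ≠ χ 1} = inducedIrrAbove (K.subgroupOf (Subgroup.normalizer (K : Set G))) ⊥ := D.fro.S_eq
  by_cases he : Nat.card (K.subgroupOf (Subgroup.normalizer (K : Set G))) = (K.subgroupOf (Subgroup.normalizer (K : Set G))).index + 1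
  · left
    refine ⟨?_, by rw [← D.card_eq]; exact he, ?_⟩
    · have h1 := D.fro.card_one he
      rw [← hS] at h1
      exact h1
    · obtain ⟨h1, p, hp, h2⟩ := D.fro.elem he
      refine ⟨p, hp, ⟨⟨?_⟩⟩, ?_⟩
      · rintro ⟨a, ha⟩ ⟨b, hb⟩
        have h5 : a * b = b * a := congrArg Subtype.val (h1 ⟨a, hlt.le ha⟩ ha ⟨b, hlt.le hb⟩ hb)
        exact Subtype.ext h5
      · intro a ha
        exact congrArg Subtype.val (h2 ⟨a, hlt.le ha⟩ ha)
  · rcases D.main he with ⟨h1, h2⟩ | h
    · refine Or.inr (Or.inl ⟨h1, ?_⟩)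
      rw [relIndex_eq hlt.le] at h2
      exact h2
    · rw [hS]
      exact Or.inr (Or.inr h)

end Cfsg.Agent.S1534
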