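import Cfsg.Statements.S1533
import Cfsg.Agent.LibCoh23
import Cfsg.Agent.S1534

set_option autoImplicit false
set_option linter.all false
open Cfsg

namespace Cfsg.Agent.S1533

/-- Let G be a finite group, p an odd prime, and P a nontrivial Sylow p-subgroup whose underlying set is a TI-subset of G, with P properly contained in its set normaliser N and C_G(x) ≤ P for every non-identity x ∈ P. Let S be the set of irreducible characters χ of N with χ x ≠ χ 1 for some x ∈ P. Then either S has exactly one member, P is elementary abelian and Nat.card P = [N:P] + 1; or (S, N minus 1, induction to G) is coherent. -/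
theorem result {G : Type*} [Group G] [Fintype G] (p : ℕ) [Fact p.Prime] (hp : p ≠ 2) (P : Sylow p G) (hP1 : (P : Subgroup G) ≠ ⊥) (hTI : Cfsg.IsTISubset ((P : Subgroup G) : Set G)) (hlt : (P : Subgroup G) < Subgroup.normalizer ((P : Subgroup G) : Set G)) (hC : ∀ k ∈ (P : Subgroup G), k ≠ 1 → Subgroup.centralizer ({k} : Set G) ≤ (P : Subgroup G)) [Fintype ↥(Subgroup.normalizer ((P : Subgroup G) : Set G))] : (Nat.card {χ : ↥(Subgroup.normalizer ((P : Subgroup G) : Set G)) → ℂ // Cfsg.IsIrrCharacter ↥(Subgroup.normalizer ((P : Subgroup G) : Set G)) χ ∧ ∃ x : ↥(Subgroup.normalizer ((P : Subgroup G) : Set G)), (x : G) ∈ (P : Subgroup G) ∧ χ x ≠ χ 1} = 1 ∧ Cfsg.IsElementaryAbelian p (P : Subgroup G) ∧ Nat.card (P : Subgroup G) = ((P : Subgroup G).subgroupOf (Subgroup.normalizer ((P : Subgroup G) : Set G))).index + 1) ∨ Cfsg.IsCoherent {χ : ↥(Subgroup.normalizer ((P : Subgroup G) : Set G)) → ℂ | Cfsg.IsIrrCharacter ↥(Subgroup.normalizer ((P : Subgroup G) : Set G)) χ ∧ ∃ x : ↥(Subgroup.normalizer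 ((P : Subgroup G) : Set G)), (x : G) ∈ (P : Subgroup G) ∧ χ x ≠ χ 1} {1}ᶜ (fun α => Cfsg.indFun (Subgroup.normalizer ((P : Subgroup G) : Set G)) α) := by
  have hnil : Group.IsNilpotent (P : Subgroup G) := P.isPGroup'.isNilpotent
  rcases Cfsg.Agent.S1534.result (P : Subgroup G) hP1 hnil hTI hlt hC with ⟨h1, h2, q, hq, h3, h4⟩ | ⟨h1, -⟩ | h
  · refine Or.inl ⟨h1, ⟨h3, ?_⟩, h2⟩
    obtain ⟨x, hx, hx1⟩ := (Subgroup.bot_or_exists_ne_one (P : Subgroup G)).resolve_left hP1
    have h5 : q = p := by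
      have h6 : orderOf x = q := (Nat.dvd_prime hq).mp (orderOf_dvd_of_pow_eq_one (h4 x hx)) |>.resolve_left (fun h => hx1 (orderOf_eq_one_iff.mp h))
      obtain ⟨n, hn⟩ := P.isPGroup' ⟨x, hx⟩
      have h7 : x ^ p ^ n = 1 := congrArg Subtype.val hn
      have h8 := orderOf_dvd_of_pow_eq_one h7
      rw [h6] at h8
      exact (Nat.prime_dvd_prime_iff_eq hq Fact.out).mp (hq.dvd_of_dvd_pow h8)
    intro a ha
    have h6 := h4 a ha
    rw [h5] at h6
    exact h6
  · exfalso
    have h2 := P.card_eq_multiplicity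
    rw [h1] at h2
    have h3 : (Nat.card G).factorization p ≠ 0 := by
      intro h4
      rw [h4, pow_zero] at h2
      rw [← h1] at h2
      exact hP1 (Subgroup.card_eq_one.mp h2)
    have h5 : p ∣ 2 ^ (Nat.card G).factorization 2 := by rw [h2]; exact dvd_pow_self p h3
    exact hp ((Nat.prime_dvd_prime_iff_eq Fact.out Nat.prime_two).mp ((Fact.out : p.Prime).dvd_of_dvd_pow h5))
  · exact Or.inr h

end Cfsg.Agent.S1533
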