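import Cfsg.Statements.S1532
import Cfsg.Agent.LibCoh23
import Cfsg.Agent.S1533
import Cfsg.Agent.S1534

set_option autoImplicit false
set_option linter.all false
open Cfsg

namespace Cfsg.Agent.S1532

open CfsgLib.Coh CfsgLib.CharBasic CfsgLib.CharIndA CfsgLib.CharNorm in
theorem aux {G : Type*} [Group G] [Fintype G] (p : ℕ) [Fact p.Prime] (hp : p ≠ 2) (P : Sylow p G) (hna : ¬ IsMulCommutative (P : Subgroup G)) (N : Subgroup G) (D : TIF (P : Subgroup G) N) [Fintype ↥N] (Z : Subgroup G) (hZ1 : Z ≠ ⊥) (hZP : ∀ z ∈ Z, z ∈ (P : Subgroup G) ∧ ∀ y ∈ (P : Subgroup G), z * y = y * z) (hcoh : Cfsg.IsCoherent {χ : ↥N → ℂ | Cfsg.IsIrrCharacter ↥N χ ∧ ∃ z : ↥N, (z : G) ∈ (P : Subgroup G) ∧ χ z ≠ χ 1} {1}ᶜ (fun α => Cfsg.indFun N α)) : Cfsg.IsCoherent {χ : ↥N → ℂ | Cfsg.IsIrrCharacter ↥N χ ∧ ∃ z : ↥N, (z : G) ∈ Z ∧ χ z ≠ χ 1} {1}ᶜ (fun α => Cfsg.indFun N α) := by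
  classical
  have hlt := D.hHL
  obtain ⟨-, τ₁, hτ₁, hext⟩ := hcoh
  -- `|N|` is odd
  have hodd : Odd (Nat.card N) := by
    by_contra hcon
    rw [Nat.not_odd_iff_even, even_iff_two_dvd] at hcon
    apply hna
    have h2 : 2 ∣ ((P : Subgroup G).subgroupOf N).index := by
      rw [← Subgroup.card_mul_index ((P : Subgroup G).subgroupOf N)] at hcon
      rcases (Nat.Prime.dvd_mul Nat.prime_two).mp hcon with h | h
      · exfalso
        rw [D.card_eq, P.card_eq_multiplicity] at h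
        exact hp ((Nat.prime_dvd_prime_iff_eq Nat.prime_two Fact.out).mp (Nat.prime_two.dvd_of_dvd_pow h)).symm
      · exact h
    have h3 := D.fro.comm_of_even h2
    refine ⟨⟨?_⟩⟩
    rintro ⟨a, ha⟩ ⟨b, hb⟩
    have h5 : a * b = b * a := congrArg Subtype.val (h3 ⟨a, hlt.le ha⟩ ha ⟨b, hlt.le hb⟩ hb)
    exact Subtype.ext h5
  have O := D.odd hodd
  have hsub : {χ : ↥N → ℂ | Cfsg.IsIrrCharacter ↥N χ ∧ ∃ z : ↥N, (z : G) ∈ Z ∧ χ z ≠ χ 1} ⊆ {χ : ↥N → ℂ | Cfsg.IsIrrCharacter ↥N χ ∧ ∃ x : ↥N, (x : G) ∈ (P : Subgroup G) ∧ χ x ≠ χ 1} := by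
    rintro χ ⟨h1, z, hz, h2⟩
    exact ⟨h1, z, (hZP z hz).1, h2⟩
  refine ⟨?_, τ₁, iso_mono hτ₁ (z_mono hsub), fun α hα => hext α (z1_mono hsub hα)⟩
  obtain ⟨z, hz, hz1⟩ := (Subgroup.bot_or_exists_ne_one Z).resolve_left hZ1
  have hzN : z ∈ N := hlt.le (hZP z hz).1
  obtain ⟨χ, hχ, hχz⟩ : ∃ χ : ↥N → ℂ, IsIrrCharacter ↥N χ ∧ χ ⟨z, hzN⟩ ≠ χ 1 := by
    by_contra hcon
    push Not at hcon
    have h1 := sum_degree_mul (G := ↥N) ⟨z, hzN⟩ (fun h => hz1 (congrArg Subtype.val h))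
    have h2 := sum_sq_degree (G := ↥N)
    have h3 : ∑ χ : IrrCharacter ↥N, (χ : ↥N → ℂ) 1 ^ 2 = ∑ χ : IrrCharacter ↥N, (χ : ↥N → ℂ) 1 * (χ : ↥N → ℂ) ⟨z, hzN⟩ :=
      Finset.sum_congr rfl fun χ _ => by rw [hcon χ χ.2, ← pow_two]
    rw [h3, h1] at h2
    have : (Nat.card ↥N : ℂ) ≠ 0 := by exact_mod_cast Nat.card_pos.ne'
    exact this h2.symm
  have hmem : χ ∈ inducedIrrAbove ((P : Subgroup G).subgroupOf N) ⊥ := D.fro.mem_S hχ ⟨⟨z, hzN⟩, (hZP z hz).1, hχz⟩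
  refine ⟨χ - conjFun χ, ?_, ?_⟩
  · rw [mem_z1]
    refine ⟨z_minus (z_sub ⟨hχ, ⟨z, hzN⟩, hz, hχz⟩) (z_sub ⟨isIrrCharacter_conj hχ, ⟨z, hzN⟩, hz, ?_⟩), ?_⟩
    · intro h
      exact hχz ((starRingEnd ℂ).injective h)
    · rw [Pi.sub_apply, conj_one (irr_isCharacter hχ), sub_self]
  · rw [sub_ne_zero]
    exact (O.conj_ne χ hmem).symm

/-- Let G be a finite group, p an odd prime and P a Sylow p-subgroup that is non-abelian, whose underlying set is a TI-subset of G, with P properly contained in its set normaliser N and C_G(x) ≤ P for every non-identity x ∈ P. Let Z be a nontrivial subgroup of the centre of P normalised by N. Then the set of irreducible characters χ of N with χ z ≠ χ 1 for some z ∈ Z is coherent for the map induced by induction from N to G. -/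
theorem result {G : Type*} [Group G] [Fintype G] (p : ℕ) [Fact p.Prime] (hp : p ≠ 2) (P : Sylow p G) (hna : ¬ IsMulCommutative (P : Subgroup G)) (hTI : Cfsg.IsTISubset ((P : Subgroup G) : Set G)) (hlt : (P : Subgroup G) < Subgroup.normalizer ((P : Subgroup G) : Set G)) (hC : ∀ k ∈ (P : Subgroup G), k ≠ 1 → Subgroup.centralizer ({k} : Set G) ≤ (P : Subgroup G)) [Fintype ↥(Subgroup.normalizer ((P : Subgroup G) : Set G))] (Z : Subgroup G) (hZ1 : Z ≠ ⊥) (hZP : ∀ z ∈ Z, z ∈ (P : Subgroup G) ∧ ∀ y ∈ (P : Subgroup G), z * y = y * z) (hZn : ∀ x ∈ Subgroup.normalizer ((P : Subgroup G) : Set G), ∀ z ∈ Z, x * z * x⁻¹ ∈ Z) : Cfsg.IsCoherent {χ : ↥(Subgroup.normalizer ((P : Subgroup G) : Set G)) → ℂ | Cfsg.IsIrrCharacter ↥(Subgroup.normalizer ((P : Subgroup G) : Set G)) χ ∧ ∃ z : ↥(Subgroup.normalizer ((P : Subgroup G) : Set G)), (z : G) ∈ Z ∧ χ z ≠ χ 1} {1}ᶜ (fun α => Cfsg.indFun (Subgroup.normalizer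 ((P : Subgroup G) : Set G)) α) := by
  have hP1 : (P : Subgroup G) ≠ ⊥ := by
    intro h
    apply hna
    rw [h]
    infer_instance
  have D := Cfsg.Agent.S1534.tif_of hP1 hTI hlt hC
  rcases Cfsg.Agent.S1533.result p hp P hP1 hTI hlt hC with ⟨-, ⟨h, -⟩, -⟩ | h
  · exact absurd h hna
  · exact aux p hp P hna _ D Z hZ1 hZP h

end Cfsg.Agent.S1532
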