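import Cfsg.Statements.S1910
import Mathlib
import Cfsg.Agent.LibH7Tight
set_option autoImplicit false
open Cfsg

namespace Cfsg.Agent.S1910


/-- Let Q be a tightly embedded subgroup of a finite group G, g an element outside N_G(Q), T a nontrivial Sylow 2-subgroup of Q^g ∩ N_G(Q), and S a Sylow 2-subgroup of QT containing T. Then T ∩ Q = 1, and N_S(T) is the direct product of T and N_S(T) ∩ Q, with N_S(T) ∩ Q isomorphic to T. -/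
theorem result {G : Type*} [Group G] [Finite G] (Q : Subgroup G) (hQ : Cfsg.IsTightlyEmbedded Q)
    (g : G) (hg : g ∉ Subgroup.normalizer (Q : Set G))
    (T : Subgroup G) (hT1 : T ≠ ⊥) (hT : T ≤ Q.map (MulAut.conj g).toMonoidHom ⊓ Subgroup.normalizer (Q : Set G))
    (hTsyl : IsPGroup 2 T ∧ ¬ 2 ∣ T.relIndex (Q.map (MulAut.conj g).toMonoidHom ⊓ Subgroup.normalizer (Q : Set G)))
    (S : Subgroup G) (hTS : T ≤ S) (hS : S ≤ Q ⊔ T) (hSsyl : IsPGroup 2 S ∧ ¬ 2 ∣ S.relIndex (Q ⊔ T)) :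
    T ⊓ Q = ⊥ ∧
      T ⊓ (S ⊓ Subgroup.normalizer (T : Set G) ⊓ Q) = ⊥ ∧
      ⁅T, S ⊓ Subgroup.normalizer (T : Set G) ⊓ Q⁆ = ⊥ ∧
      T ⊔ (S ⊓ Subgroup.normalizer (T : Set G) ⊓ Q) = S ⊓ Subgroup.normalizer (T : Set G) ∧
      Nonempty (↥(S ⊓ Subgroup.normalizer (T : Set G) ⊓ Q) ≃* T) := by
  have hT' : CfsgLib.FusionH12.SylIn 2 T
      (CfsgLib.FusionH12.cj g Q ⊓ Subgroup.normalizer (Q : Set G)) := ⟨hT, hTsyl.1, hTsyl.2⟩
  obtain ⟨h1, h2⟩ := CfsgLib.H7Tight.s1910 Q hQ g hg T hT1 hT' S hTS ⟨hS, hSsyl.1, hSsyl.2⟩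
  obtain ⟨h3, h4, h5⟩ := CfsgLib.H7Tight.decomp (hT.trans inf_le_right) hTS hS h1
  exact ⟨h1, h3, h4, h5, h2⟩

end Cfsg.Agent.S1910
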