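import Cfsg.Statements.S1921
import Mathlib
import Cfsg.Agent.LibComp
import Cfsg.Agent.LibCentricH12

set_option autoImplicit false
open Cfsg

namespace Cfsg.Agent.S1921

/-- Let a be an involution of a finite group H and L a component of H with a L a⁻¹ ≠ L; put M = ⟨L, aLa⁻¹⟩ and let J be the subgroup generated by the elements x · a x a⁻¹ with x ∈ L (the diagonal). Then every element of M outside J·Z(M) generates M together with J. -/
theorem result {H : Type*} [Group H] [Finite H] (a : H) (ha : orderOf a = 2) (L : Subgroup H) (hL : Cfsg.IsComponent L)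
    (hLa : L.map (MulAut.conj a).toMonoidHom ≠ L) (x : H) (hxM : x ∈ L ⊔ L.map (MulAut.conj a).toMonoidHom)
    (hxJ : x ∉ Subgroup.closure {y : H | ∃ l ∈ L, y = l * (a * l * a⁻¹)} ⊔
      ((L ⊔ L.map (MulAut.conj a).toMonoidHom) ⊓ Subgroup.centralizer ((L ⊔ L.map (MulAut.conj a).toMonoidHom : Subgroup H) : Set H))) :
    Subgroup.closure {y : H | ∃ l ∈ L, y = l * (a * l * a⁻¹)} ⊔ Subgroup.zpowers x = L ⊔ L.map (MulAut.conj a).toMonoidHom := by
  set L' := L.map (MulAut.conj a).toMonoidHom with hL'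
  have hL'c : IsComponent L' := CfsgLib.Comp.isComponent_map_equiv (MulAut.conj a) hL
  have hcomm := CfsgLib.Comp.components_commute hL hL'c (Ne.symm hLa)
  have hLL : ∀ l ∈ L, ∀ m ∈ L', l * m = m * l := by
    intro l hl m hm
    rw [Subgroup.commutator_eq_bot_iff_le_centralizer] at hcomm
    exact (Subgroup.mem_centralizer_iff.1 (hcomm hl) m hm).symm
  have hmem' : ∀ l ∈ L, a * l * a⁻¹ ∈ L' := fun l hl => ⟨l, hl, rfl⟩
  set J := Subgroup.closure {y : H | ∃ l ∈ L, y = l * (a * l * a⁻¹)} with hJ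
  have hJmem : ∀ l ∈ L, l * (a * l * a⁻¹) ∈ J := fun l hl => Subgroup.subset_closure ⟨l, hl, rfl⟩
  have hx : ∃ l1 ∈ L, ∃ l2 ∈ L, x = l1 * (a * l2 * a⁻¹) := by
    have h1 : L' ≤ Subgroup.normalizer (L : Set H) := by
      intro m hm
      rw [Subgroup.mem_normalizer_iff]
      have key : ∀ m ∈ L', ∀ y ∈ L, m * y * m⁻¹ = y := fun m hm y hy => by rw [← hLL y hy m hm, mul_inv_cancel_right]
      intro y
      constructor
      · intro hy; rw [key m hm y hy]; exact hy
      · intro hy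
        have h2 := key m⁻¹ (inv_mem hm) _ hy
        have h3 : m⁻¹ * (m * y * m⁻¹) * m⁻¹⁻¹ = y := by group
        rw [h3] at h2
        rw [h2]; exact hy
    obtain ⟨l1, hl1, m, hm, rfl⟩ := (CfsgLib.CentricH12.mem_sup_of_le_normalizer h1).1 hxM
    obtain ⟨l2, hl2, rfl⟩ := hm
    exact ⟨l1, hl1, l2, hl2, rfl⟩
  obtain ⟨l1, hl1, l2, hl2, hx⟩ := hx
  set W := J ⊔ Subgroup.zpowers x with hW
  have hJW : J ≤ W := le_sup_left
  have hxW : x ∈ W := Subgroup.mem_sup_right (Subgroup.mem_zpowers x)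
  have hy : l1 * l2⁻¹ ∈ W := by
    have h1 := mul_mem hxW (inv_mem (hJW (hJmem l2 hl2)))
    have e : x * (l2 * (a * l2 * a⁻¹))⁻¹ = l1 * l2⁻¹ := by rw [hx]; group
    rwa [e] at h1
  have hyL : l1 * l2⁻¹ ∈ L := mul_mem hl1 (inv_mem hl2)
  haveI hNn : (W.subgroupOf L).Normal := by
    constructor
    intro n hn g
    rw [Subgroup.mem_subgroupOf] at hn ⊢
    have h1 : ((g * n * g⁻¹ : L) : H) = (g * (a * g * a⁻¹)) * n * ((g : H) * (a * g * a⁻¹))⁻¹ := by
      have h2 := hLL n n.2 _ (hmem' g g.2)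
      push_cast
      calc (g : H) * n * (g : H)⁻¹ = g * (n * (a * g * a⁻¹)) * (a * g * a⁻¹)⁻¹ * (g : H)⁻¹ := by group
        _ = g * ((a * g * a⁻¹) * n) * (a * g * a⁻¹)⁻¹ * (g : H)⁻¹ := by rw [h2]
        _ = _ := by group
    rw [h1]
    exact mul_mem (mul_mem (hJW (hJmem g g.2)) hn) (inv_mem (hJW (hJmem g g.2)))
  have hLW : L ≤ W := by
    rcases CfsgLib.Comp.quasisimple_normal hL.2 (W.subgroupOf L) with h | h
    · exact Subgroup.subgroupOf_eq_top.1 h
    · exfalso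
      apply hxJ
      have h1 : (⟨l1 * l2⁻¹, hyL⟩ : L) ∈ Subgroup.center L := h (Subgroup.mem_subgroupOf.2 hy)
      have h2 : ∀ l ∈ L, l * (l1 * l2⁻¹) = (l1 * l2⁻¹) * l := fun l hl =>
        congrArg Subtype.val (Subgroup.mem_center_iff.1 h1 ⟨l, hl⟩)
      have h3 : l1 * l2⁻¹ ∈ (L ⊔ L') ⊓ Subgroup.centralizer ((L ⊔ L' : Subgroup H) : Set H) := by
        refine Subgroup.mem_inf.2 ⟨Subgroup.mem_sup_left hyL, ?_⟩
        have h4 : L ⊔ L' ≤ Subgroup.centralizer ({l1 * l2⁻¹} : Set H) := by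
          refine sup_le (fun l hl => ?_) (fun m hm => ?_)
          · rw [Subgroup.mem_centralizer_singleton_iff]; exact h2 l hl
          · rw [Subgroup.mem_centralizer_singleton_iff]; exact (hLL _ hyL m hm).symm
        rw [Subgroup.mem_centralizer_iff]
        intro m hm
        exact Subgroup.mem_centralizer_singleton_iff.1 (h4 hm)
      have h5 : x = (l1 * l2⁻¹) * (l2 * (a * l2 * a⁻¹)) := by rw [hx]; group
      rw [h5]
      exact mul_mem (Subgroup.mem_sup_right h3) (Subgroup.mem_sup_left (hJmem l2 hl2))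
  apply le_antisymm
  · refine sup_le ?_ ?_
    · rw [hJ, Subgroup.closure_le]
      rintro _ ⟨l, hl, rfl⟩
      exact mul_mem (Subgroup.mem_sup_left hl) (Subgroup.mem_sup_right (hmem' l hl))
    · rw [Subgroup.zpowers_le]; exact hxM
  · refine sup_le hLW ?_
    rintro _ ⟨l, hl, rfl⟩
    have h1 := mul_mem (inv_mem (hLW hl)) (hJW (hJmem l hl))
    have e : l⁻¹ * (l * (a * l * a⁻¹)) = a * l * a⁻¹ := by group
    rw [e] at h1
    exact h1

end Cfsg.Agent.S1921
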