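import Cfsg.Statements.S1922
import Cfsg.Agent.LibFus9

set_option autoImplicit false
open Cfsg

namespace Cfsg.Agent.S1922

open CfsgLib.BGPi CfsgLib.Fus9
open scoped CfsgLib.BGPi commutatorElement

/-- an involution of a finite type with exactly one fixed point -/
theorem odd_card_of_involutive {α : Type*} [Finite α] (f : α → α) (hf : Function.Involutive f)
    (a : α) (ha : ∀ b, f b = b ↔ b = a) : Odd (Nat.card α) := by
  classical
  haveI := Fintype.ofFinite α
  rw [Nat.card_eq_fintype_card]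
  let f' : Function.End α := f
  have h1 : f' ^ 2 ^ 1 = 1 := by
    funext x
    show f (f x) = x
    exact hf x
  haveI : Fact (Nat.Prime 2) := ⟨Nat.prime_two⟩
  have h2 := Equiv.Perm.card_fixedPoints_modEq (f := f') (p := 2) (n := 1) h1
  have h3 : Fintype.card (Function.fixedPoints f) = 1 := by
    rw [Fintype.card_eq_one_iff]
    refine ⟨⟨a, (ha a).2 rfl⟩, fun b => Subtype.ext ((ha b).1 b.2)⟩
  rw [Nat.odd_iff]
  have h4 : Fintype.card α % 2 = Fintype.card (Function.fixedPoints f) % 2 := h2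
  rw [h4, h3]

section
variable {G : Type*} [Group G] [Finite G]

/-- in a product of two involutions of even order there is an involution commuting with both -/
theorem mul_self_of_orderOf_two {a : G} (h : orderOf a = 2) : a * a = 1 := by
  rw [← pow_two, ← h]; exact pow_orderOf_eq_one a

theorem inv_of_two {a : G} (h : a * a = 1) : a⁻¹ = a := inv_eq_of_mul_eq_one_left h

theorem dih_pow {a b : G} (ha : a * a = 1) (hb : b * b = 1) (n : ℕ) :
    a * (a * b) ^ n = ((a * b) ^ n)⁻¹ * a := by
  have h1 : a * (a * b) = (a * b)⁻¹ * a := by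
    rw [mul_inv_rev, inv_of_two ha, inv_of_two hb, ← mul_assoc, ha, mul_assoc, ha]
    simp
  induction n with
  | zero => simp
  | succ n ih =>
    calc a * (a * b) ^ (n + 1) = (a * (a * b) ^ n) * (a * b) := by rw [pow_succ, mul_assoc]
      _ = ((a * b) ^ n)⁻¹ * (a * (a * b)) := by rw [ih, mul_assoc]
      _ = ((a * b) ^ n)⁻¹ * ((a * b)⁻¹ * a) := by rw [h1]
      _ = _ := by
        generalize a * b = w
        rw [pow_succ', mul_inv_rev, mul_assoc]

theorem isConj_mul_pow {a b : G} (ha : a * a = 1) (hb : b * b = 1) (n : ℕ) :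
    IsConj a (a * (a * b) ^ n) ∨ IsConj b (a * (a * b) ^ n) := by
  rcases Nat.even_or_odd' n with ⟨j, rfl | rfl⟩
  · left
    rw [isConj_iff]
    refine ⟨((a * b) ^ j)⁻¹, ?_⟩
    rw [inv_inv]
    calc ((a * b) ^ j)⁻¹ * a * (a * b) ^ j = (a * (a * b) ^ j) * (a * b) ^ j := by rw [dih_pow ha hb]
      _ = a * (a * b) ^ (2 * j) := by rw [mul_assoc, ← pow_add, two_mul]
  · right
    rw [isConj_iff]
    refine ⟨((a * b) ^ j)⁻¹, ?_⟩
    rw [inv_inv]
    have e : b = a * (a * b) := by rw [← mul_assoc, ha, one_mul]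
    calc ((a * b) ^ j)⁻¹ * b * (a * b) ^ j = ((a * b) ^ j)⁻¹ * (a * (a * b)) * (a * b) ^ j := by
          rw [← e]
      _ = (((a * b) ^ j)⁻¹ * a) * ((a * b) * (a * b) ^ j) := by
          generalize a * b = w
          group
      _ = (a * (a * b) ^ j) * ((a * b) * (a * b) ^ j) := by rw [dih_pow ha hb]
      _ = a * ((a * b) ^ j * (a * b) ^ (j + 1)) := by rw [← pow_succ', mul_assoc]
      _ = a * (a * b) ^ (2 * j + 1) := by rw [← pow_add]; congr 2; ring

variable (z : G) (hz : z * z = 1) (hz1 : z ≠ 1) (H : Subgroup G)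
  (h0 : ∀ g : G, g⁻¹ * z * g ∈ H ↔ g ∈ H)
include h0

theorem zmem : z ∈ H := by
  have := (h0 1).2 (one_mem H)
  simpa using this

theorem cent_le : Subgroup.centralizer ({z} : Set G) ≤ H := by
  intro c hc
  rw [← h0]
  rw [Subgroup.mem_centralizer_singleton_iff] at hc
  have : c⁻¹ * z * c = z := by rw [mul_assoc, ← hc]; group
  rw [this]; exact zmem z H h0

/-- conjugates of `z`: the fixed point -/
theorem fix_iff (k x : G) : x⁻¹ * (k * z * k⁻¹) * x ∈ H ↔ k⁻¹ * x ∈ H := by
  rw [← h0 (k⁻¹ * x)]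
  have : (k⁻¹ * x)⁻¹ * z * (k⁻¹ * x) = x⁻¹ * (k * z * k⁻¹) * x := by group
  rw [this]

theorem conj_mem_iff (k : G) : k * z * k⁻¹ ∈ H ↔ k ∈ H := by
  have := fix_iff z H h0 k 1
  simp only [inv_one, one_mul, mul_one] at this
  rw [this, inv_mem_iff]

variable (h1 : ∀ t : G, IsConj z t → t ≠ z → t * z = z * t → ∀ g : G, g⁻¹ * (z * t) * g ∈ H ↔ g ∈ H)
include h1

theorem prod_fix (k t x : G) (ht : IsConj z t) (hne : t ≠ k * z * k⁻¹)
    (hc : t * (k * z * k⁻¹) = (k * z * k⁻¹) * t) :
    x⁻¹ * ((k * z * k⁻¹) * t) * x ∈ H ↔ k⁻¹ * x ∈ H := by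
  obtain ⟨m, rfl⟩ := isConj_iff.1 ht
  rw [← h1 (k⁻¹ * (m * z * m⁻¹) * k) ?_ ?_ ?_ (k⁻¹ * x)]
  · have : (k⁻¹ * x)⁻¹ * (z * (k⁻¹ * (m * z * m⁻¹) * k)) * (k⁻¹ * x) =
        x⁻¹ * (k * z * k⁻¹ * (m * z * m⁻¹)) * x := by group
    rw [this]
  · rw [isConj_iff]; exact ⟨k⁻¹ * m, by group⟩
  · intro h
    apply hne
    calc m * z * m⁻¹ = k * (k⁻¹ * (m * z * m⁻¹) * k) * k⁻¹ := by group
      _ = k * z * k⁻¹ := by rw [h]
  · calc k⁻¹ * (m * z * m⁻¹) * k * z = k⁻¹ * (m * z * m⁻¹ * (k * z * k⁻¹)) * k := by group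
      _ = k⁻¹ * ((k * z * k⁻¹) * (m * z * m⁻¹)) * k := by rw [hc]
      _ = _ := by group

include hz hz1

/-- F1 -/
theorem odd_order (c : G) (hc : IsConj z c) (hcH : c ∉ H) : Odd (orderOf (z * c)) := by
  by_contra heven
  rw [Nat.not_odd_iff_even] at heven
  obtain ⟨m, hm⟩ := heven
  obtain ⟨k, hk⟩ := isConj_iff.1 hc
  have hcc : c * c = 1 := by
    rw [← hk]
    calc k * z * k⁻¹ * (k * z * k⁻¹) = k * (z * z) * k⁻¹ := by group
      _ = 1 := by rw [hz]; group
  set v := (z * c) ^ m with hv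
  have hpos : 0 < orderOf (z * c) := orderOf_pos _
  have hm0 : m ≠ 0 := by rintro rfl; omega
  have hv1 : v ≠ 1 := by
    intro h
    have := orderOf_dvd_of_pow_eq_one h
    have := Nat.le_of_dvd (Nat.pos_of_ne_zero hm0) this
    omega
  have hvv : v * v = 1 := by rw [hv, ← pow_add, ← hm, pow_orderOf_eq_one]
  have hzv : z * v = v * z := by
    rw [hv, dih_pow hz hcc, ← hv, inv_of_two hvv]
  have hcv : c * v = v * c := by
    have e : c = z * (z * c) := by rw [← mul_assoc, hz, one_mul]
    have e2 : (z * c) * v = v * (z * c) := by rw [hv]; exact (Commute.self_pow (z * c) m).eq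
    calc c * v = z * (z * c) * v := by rw [← e]
      _ = z * ((z * c) * v) := by group
      _ = (z * v) * (z * c) := by rw [e2]; group
      _ = v * (z * (z * c)) := by rw [hzv]; group
      _ = v * c := by rw [← e]
  have ht : IsConj z (z * v) := by
    rcases isConj_mul_pow hz hcc m with h | h
    · exact h
    · exact hc.trans h
  have h2 := prod_fix z H h0 h1 1 (z * v) k ht (by
    simp only [one_mul, inv_one, mul_one]
    intro h
    exact hv1 (mul_left_cancel (h.trans (mul_one z).symm))) (by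
    simp only [one_mul, inv_one, mul_one]
    rw [mul_assoc, hzv])
  simp only [one_mul, inv_one, mul_one] at h2
  have ez : z * (z * v) = v := by rw [← mul_assoc, hz, one_mul]
  rw [ez] at h2
  -- v commutes with c, so fixes the point of c
  have h3 : k⁻¹ * v * k ∈ H := by
    apply cent_le z H h0
    rw [Subgroup.mem_centralizer_singleton_iff]
    have e : z = k⁻¹ * c * k := by rw [← hk]; group
    rw [e]
    calc k⁻¹ * v * k * (k⁻¹ * c * k) = k⁻¹ * (v * c) * k := by group
      _ = k⁻¹ * (c * v) * k := by rw [hcv]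
      _ = _ := by group
  have h4 := h2.1 h3
  apply hcH
  rw [← hk]
  exact (conj_mem_iff z H h0 k).2 h4

theorem odd_relIndex (hH : H ≠ ⊤) : Odd ((Subgroup.centralizer ({z} : Set G)).relIndex H) := by
  classical
  obtain ⟨g, hg⟩ : ∃ g : G, g ∉ H := by
    by_contra hcon
    push Not at hcon
    exact hH (eq_top_iff.2 fun x _ => hcon x)
  -- the sets
  let Iα := {a : G // IsConj z a ∧ a ∈ H}
  let Iβ := {b : G // IsConj z b ∧ g⁻¹ * b * g ∈ H}
  let J := {c : G // IsConj z c ∧ g⁻¹ * c ∈ H}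
  have hconj_sq : ∀ c : G, IsConj z c → c * c = 1 := by
    intro c hc
    obtain ⟨k, hk⟩ := isConj_iff.1 hc
    rw [← hk]
    calc k * z * k⁻¹ * (k * z * k⁻¹) = k * (z * z) * k⁻¹ := by group
      _ = 1 := by rw [hz]; group
  have hJH : ∀ c : G, g⁻¹ * c ∈ H → c ∉ H := by
    intro c hc hcH
    apply hg
    have := H.mul_mem hcH (H.inv_mem hc)
    have e : c * (g⁻¹ * c)⁻¹ = g := by group
    rwa [e] at this
  -- card Iα = relIndex
  have e1 : Nat.card Iα = (Subgroup.centralizer ({z} : Set G)).relIndex H := by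
    set C := (Subgroup.centralizer ({z} : Set G)).subgroupOf H with hC
    let f : (↥H ⧸ C) → Iα := Quotient.lift (fun h : H => (⟨h * z * (h : G)⁻¹,
        isConj_iff.2 ⟨h, rfl⟩, H.mul_mem (H.mul_mem h.2 (zmem z H h0)) (H.inv_mem h.2)⟩ : Iα)) (by
      intro a b hab
      apply Subtype.ext
      have h2 : a⁻¹ * b ∈ C := QuotientGroup.leftRel_apply.1 hab
      have h3 : ((a : G)⁻¹ * b) * z = z * ((a : G)⁻¹ * b) :=
        Subgroup.mem_centralizer_singleton_iff.1 h2
      show (a : G) * z * (a : G)⁻¹ = b * z * (b : G)⁻¹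
      calc (a : G) * z * (a : G)⁻¹ = a * (z * ((a : G)⁻¹ * b)) * (b : G)⁻¹ := by group
        _ = a * (((a : G)⁻¹ * b) * z) * (b : G)⁻¹ := by rw [h3]
        _ = b * z * (b : G)⁻¹ := by group)
    have hf : Function.Bijective f := by
      constructor
      · intro x y
        obtain ⟨a, rfl⟩ := QuotientGroup.mk_surjective x
        obtain ⟨b, rfl⟩ := QuotientGroup.mk_surjective y
        intro h
        rw [QuotientGroup.eq]
        have h2 : (a : G) * z * (a : G)⁻¹ = b * z * (b : G)⁻¹ := congrArg Subtype.val h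
        show (a⁻¹ * b : H) ∈ C
        rw [hC, Subgroup.mem_subgroupOf, Subgroup.mem_centralizer_singleton_iff]
        show ((a : G)⁻¹ * b) * z = z * ((a : G)⁻¹ * b)
        calc ((a : G)⁻¹ * b) * z = (a : G)⁻¹ * (b * z * (b : G)⁻¹) * b := by group
          _ = (a : G)⁻¹ * (a * z * (a : G)⁻¹) * b := by rw [h2]
          _ = _ := by group
      · rintro ⟨a, ha, haH⟩
        obtain ⟨k, rfl⟩ := isConj_iff.1 ha
        have hk := (conj_mem_iff z H h0 k).1 haH
        exact ⟨QuotientGroup.mk ⟨k, hk⟩, rfl⟩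
    rw [← Nat.card_congr (Equiv.ofBijective f hf)]
    rfl
  -- card Iα = card Iβ
  have e2 : Nat.card Iα = Nat.card Iβ := by
    refine Nat.card_congr
      { toFun := fun a => ⟨g * a * g⁻¹, a.2.1.trans (isConj_iff.2 ⟨g, rfl⟩), by
          have e : g⁻¹ * (g * (a : G) * g⁻¹) * g = a := by group
          rw [e]; exact a.2.2⟩
        invFun := fun b => ⟨g⁻¹ * b * g, b.2.1.trans (isConj_iff.2 ⟨g⁻¹, by group⟩), b.2.2⟩
        left_inv := fun a => Subtype.ext (by
          show g⁻¹ * (g * (a : G) * g⁻¹) * g = a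
          group)
        right_inv := fun b => Subtype.ext (by
          show g * (g⁻¹ * (b : G) * g) * g⁻¹ = b
          group) }
  -- card J = card Iβ
  have e3 : Nat.card J = Nat.card Iβ := by
    let f : J → Iβ := fun c => ⟨(c : G) * z * (c : G)⁻¹, isConj_iff.2 ⟨c, rfl⟩, by
      have e : g⁻¹ * ((c : G) * z * (c : G)⁻¹) * g = (g⁻¹ * c) * z * (g⁻¹ * c)⁻¹ := by group
      rw [e]
      exact H.mul_mem (H.mul_mem c.2.2 (zmem z H h0)) (H.inv_mem c.2.2)⟩
    refine Nat.card_congr (Equiv.ofBijective f ⟨?_, ?_⟩)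
    · rintro ⟨c, hc, hcg⟩ ⟨c', hc', hcg'⟩ h
      have h2 : c * z * c⁻¹ = c' * z * c'⁻¹ := congrArg Subtype.val h
      rw [inv_of_two (hconj_sq c hc), inv_of_two (hconj_sq c' hc')] at h2
      have o1 := odd_order z hz hz1 H h0 h1 c hc (hJH c hcg)
      have o2 := odd_order z hz hz1 H h0 h1 c' hc' (hJH c' hcg')
      have h3 : (z * c) ^ 2 = (z * c') ^ 2 := by
        rw [pow_two, pow_two]
        calc z * c * (z * c) = z * (c * z * c) := by group
          _ = z * (c' * z * c') := by rw [h2]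
          _ = _ := by group
      obtain ⟨i, hi⟩ := Odd.mul o1 o2
      have h4 : (z * c) ^ (2 * (i + 1)) = z * c := by
        have : 2 * (i + 1) = orderOf (z * c) * orderOf (z * c') + 1 := by rw [hi]; ring
        rw [this, pow_succ, pow_mul, pow_orderOf_eq_one, one_pow, one_mul]
      have h5 : (z * c') ^ (2 * (i + 1)) = z * c' := by
        have : 2 * (i + 1) = orderOf (z * c') * orderOf (z * c) + 1 := by
          rw [mul_comm (orderOf (z * c')), hi]; ring
        rw [this, pow_succ, pow_mul, pow_orderOf_eq_one, one_pow, one_mul]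
      rw [pow_mul, h3, ← pow_mul, h5] at h4
      exact Subtype.ext (mul_left_cancel h4).symm
    · rintro ⟨b, hb, hbg⟩
      have hbH : b ∉ H := by
        intro hbH
        obtain ⟨k, rfl⟩ := isConj_iff.1 hb
        have h2 := (conj_mem_iff z H h0 k).1 hbH
        have h3 := (fix_iff z H h0 k g).1 hbg
        apply hg
        have := H.mul_mem h2 h3
        have e : k * (k⁻¹ * g) = g := by group
        rwa [e] at this
      obtain ⟨i, hi⟩ := odd_order z hz hz1 H h0 h1 b hb hbH
      set x := z * b with hx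
      have hbb := hconj_sq b hb
      have hxo : x ^ (2 * i + 1) = 1 := by rw [← hi]; exact pow_orderOf_eq_one x
      set c := z * x ^ (i + 1) with hc
      have hdp : ∀ n, z * x ^ n = (x ^ n)⁻¹ * z := dih_pow hz hbb
      -- c conj to z: x^(i+1) is an even power
      have hcz : IsConj z c := by
        rcases Nat.even_or_odd' (i + 1) with ⟨j, hj | hj⟩
        · rw [isConj_iff]
          refine ⟨(x ^ j)⁻¹, ?_⟩
          rw [inv_inv, ← hdp, hc, hj, mul_assoc, ← pow_add, two_mul]
        · -- i + 1 = 2 j + 1, use x^(i+1) = x^(i+1 + 2i+1)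
          have h2 : x ^ (i + 1) = x ^ (2 * (j + i + 1)) := by
            have : 2 * (j + i + 1) = (2 * i + 1) + (i + 1) := by omega
            rw [this, pow_add x (2 * i + 1) (i + 1), hxo, one_mul]
          rw [isConj_iff]
          refine ⟨(x ^ (j + i + 1))⁻¹, ?_⟩
          rw [inv_inv, ← hdp, hc, h2, mul_assoc, ← pow_add, two_mul]
      have hcc := hconj_sq c hcz
      have hcb : c * z * c⁻¹ = b := by
        rw [inv_of_two hcc, hc]
        calc z * x ^ (i + 1) * z * (z * x ^ (i + 1)) = z * x ^ (i + 1) * (z * z) * x ^ (i + 1) := by group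
          _ = z * (x ^ (i + 1) * x ^ (i + 1)) := by rw [hz]; group
          _ = z * (x ^ (2 * i + 1) * x) := by
              rw [← pow_add, ← pow_succ]
              have : i + 1 + (i + 1) = 2 * i + 1 + 1 := by ring
              rw [this]
          _ = b := by rw [hxo, one_mul, hx, ← mul_assoc, hz, one_mul]
      refine ⟨⟨c, hcz, ?_⟩, Subtype.ext hcb⟩
      have h3 := fix_iff z H h0 c g
      rw [hcb] at h3
      have h4 := h3.1 hbg
      have := H.inv_mem h4
      have e : (c⁻¹ * g)⁻¹ = g⁻¹ * c := by group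
      rwa [e] at this
  rw [← e1, e2, ← e3]
  -- J nonempty
  have hne : Nonempty J := by
    have : 0 < Nat.card J := by
      rw [e3, ← e2]
      haveI : Nonempty Iα := ⟨⟨z, IsConj.refl z, zmem z H h0⟩⟩
      exact Nat.card_pos
    exact (Nat.card_pos_iff.1 this).1
  obtain ⟨⟨c, hc, hcg⟩⟩ := hne
  have hcc := hconj_sq c hc
  have hci := inv_of_two hcc
  refine odd_card_of_involutive (fun c' : J => (⟨c * c' * c⁻¹, c'.2.1.trans (isConj_iff.2 ⟨c, rfl⟩), by
      have h5 : (g⁻¹ * (c' : G))⁻¹ * (g⁻¹ * c) ∈ H := H.mul_mem (H.inv_mem c'.2.2) hcg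
      have h6 := H.mul_mem hcg h5
      have e : g⁻¹ * c * ((g⁻¹ * (c' : G))⁻¹ * (g⁻¹ * c)) = g⁻¹ * (c * (c' : G)⁻¹ * c) := by group
      rw [e, inv_of_two (hconj_sq _ c'.2.1)] at h6
      rw [hci]; exact h6⟩ : J)) ?_ ⟨c, hc, hcg⟩ ?_
  · intro c'
    apply Subtype.ext
    show c * (c * (c' : G) * c⁻¹) * c⁻¹ = c'
    calc c * (c * (c' : G) * c⁻¹) * c⁻¹ = (c * c) * c' * (c * c)⁻¹ := by group
      _ = c' := by rw [hcc]; group
  · rintro ⟨c', hc', hcg'⟩
    constructor
    · intro h
      have h2 : c * c' * c⁻¹ = c' := congrArg Subtype.val h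
      apply Subtype.ext
      show c' = c
      by_contra hne
      have h3 : c' * c = c * c' := by
        calc c' * c = (c * c' * c⁻¹) * c := by rw [h2]
          _ = c * c' := by group
      obtain ⟨k, rfl⟩ := isConj_iff.1 hc
      have h4 := prod_fix z H h0 h1 k c' 1 hc' hne h3
      simp only [inv_one, one_mul, mul_one] at h4
      have h5 : (g⁻¹ * (k * z * k⁻¹))⁻¹ * (g⁻¹ * c') ∈ H := H.mul_mem (H.inv_mem hcg) hcg'
      have e : (g⁻¹ * (k * z * k⁻¹))⁻¹ * (g⁻¹ * c') = (k * z * k⁻¹)⁻¹ * c' := by group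
      rw [e, hci] at h5
      have h6 := h4.1 h5
      apply hJH _ hcg
      rw [conj_mem_iff z H h0]
      simpa using H.inv_mem h6
    · intro h
      have h2 : c' = c := congrArg Subtype.val h
      apply Subtype.ext
      show c * c' * c⁻¹ = c'
      rw [h2]; group

omit hz hz1 h1 in
theorem odd_index (hz : orderOf z = 2) : Odd H.index := by
  classical
  -- left multiplication by z on G/H
  refine odd_card_of_involutive (fun x : G ⧸ H => z • x) ?_ (QuotientGroup.mk 1) ?_
  · intro x
    show z • z • x = x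
    rw [← mul_smul, mul_self_of_orderOf_two hz, one_smul]
  · intro x
    obtain ⟨g, rfl⟩ := QuotientGroup.mk_surjective x
    show (QuotientGroup.mk (z * g) : G ⧸ H) = QuotientGroup.mk g ↔ _
    rw [QuotientGroup.eq, QuotientGroup.eq]
    have e : (z * g)⁻¹ * g = (g⁻¹ * z * g)⁻¹ := by group
    rw [e, inv_mem_iff, h0, mul_one, inv_mem_iff]

end

/-- Let z be an involution of a finite group G and H a proper subgroup such that z lies in gHg⁻¹ exactly when g ∈ H. Then the following are equivalent: (1) for every conjugate t ≠ z of z commuting with z, the product zt lies in gHg⁻¹ exactly when g ∈ H; (2) z lies in the centre of some Sylow 2-subgroup of G, and for every conjugate t ≠ z of z commuting with z, the centralizer of zt is contained in H. -/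
theorem result {G : Type*} [Group G] [Finite G] (z : G) (hz : orderOf z = 2) (H : Subgroup G) (hH : H ≠ ⊤)
    (h0 : ∀ g : G, z ∈ H.map (MulAut.conj g).toMonoidHom ↔ g ∈ H) :
    (∀ t : G, IsConj z t → t ≠ z → t * z = z * t → ∀ g : G, z * t ∈ H.map (MulAut.conj g).toMonoidHom ↔ g ∈ H) ↔
      ((∃ P : Sylow 2 G, z ∈ (Subgroup.center ↥(P : Subgroup G)).map (P : Subgroup G).subtype) ∧
        ∀ t : G, IsConj z t → t ≠ z → t * z = z * t → Subgroup.centralizer ({z * t} : Set G) ≤ H) := by
  have hcj : ∀ (x g : G), x ∈ H.map (MulAut.conj g).toMonoidHom ↔ g⁻¹ * x * g ∈ H :=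
    fun x g => mem_cj
  simp only [hcj] at h0 ⊢
  have hzz := mul_self_of_orderOf_two hz
  have hz1 : z ≠ 1 := fun h => by rw [h, orderOf_one] at hz; omega
  constructor
  · intro h1
    constructor
    · have o1 := odd_relIndex z hzz hz1 H h0 h1 hH
      have o2 := odd_index z H h0 hz
      have hle := cent_le z H h0
      haveI : Fact (Nat.Prime 2) := ⟨Nat.prime_two⟩
      obtain ⟨P, hP⟩ := exists_syl Nat.prime_two (Subgroup.centralizer ({z} : Set G))
      have hP2 : IsPiHallOf {2} P ⊤ := by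
        refine ⟨le_top, hP.2.1, fun q hq hqi hd => ?_⟩
        rw [Set.mem_singleton_iff] at hqi
        rw [hqi] at hd
        rw [← Subgroup.relIndex_mul_relIndex P _ ⊤ hP.1 le_top, Nat.prime_two.dvd_mul] at hd
        rcases hd with hd | hd
        · exact hP.2.2 2 Nat.prime_two rfl hd
        · rw [Subgroup.relIndex_top_right, ← Subgroup.relIndex_mul_index hle,
            Nat.prime_two.dvd_mul] at hd
          rcases hd with hd | hd
          · exact (Nat.not_even_iff_odd.2 o1) (even_iff_two_dvd.2 hd)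
          · exact (Nat.not_even_iff_odd.2 o2) (even_iff_two_dvd.2 hd)
      obtain ⟨S, hS⟩ := exists_sylow_of_hall_top hP2
      have hzP : z ∈ P := by
        have h3 : IsPiHallOf {2} P (P ⊔ Subgroup.zpowers z) :=
          hall_le_of_le hP2 le_sup_left le_top
        have hcomm : Subgroup.zpowers z ≤ Subgroup.centralizer (P : Set G) := by
          rw [Subgroup.zpowers_le, Subgroup.mem_centralizer_iff]
          intro x hx
          exact Subgroup.mem_centralizer_singleton_iff.1 (hP.1 hx)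
        have h4 := le_hall_of_normal h3 (sup_le Subgroup.le_normalizer
          (hcomm.trans (cz_le_nz P))) (K := Subgroup.zpowers z)
          (isPi_of_isPGroup Nat.prime_two (zpowers_isPGroup ⟨1, by rw [hz, pow_one]⟩)) le_sup_right
        exact h4 (Subgroup.mem_zpowers z)
      refine ⟨S, ?_⟩
      have hzS : z ∈ (S : Subgroup G) := by rw [hS]; exact hzP
      refine ⟨⟨z, hzS⟩, ?_, rfl⟩
      show (⟨z, hzS⟩ : ↥(S : Subgroup G)) ∈ Subgroup.center ↥(S : Subgroup G)
      rw [Subgroup.mem_center_iff]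
      intro x
      apply Subtype.ext
      have hx : (x : G) ∈ P := by rw [← hS]; exact x.2
      exact Subgroup.mem_centralizer_singleton_iff.1 (hP.1 hx)
    · intro t ht hne hc c hcc
      rw [Subgroup.mem_centralizer_singleton_iff] at hcc
      rw [← h1 t ht hne hc c]
      have : c⁻¹ * (z * t) * c = z * t := by
        calc c⁻¹ * (z * t) * c = c⁻¹ * ((z * t) * c) := by group
          _ = c⁻¹ * (c * (z * t)) := by rw [hcc]
          _ = _ := by group
      rw [this]
      have := (h1 t ht hne hc 1).2 (one_mem H)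
      simpa using this
  · rintro ⟨⟨P, hzP⟩, h2⟩ t ht hne hc g
    haveI : Fact (Nat.Prime 2) := ⟨Nat.prime_two⟩
    obtain ⟨z', hz', hzz'⟩ := hzP
    have hzP : z ∈ (P : Subgroup G) := by rw [← hzz']; exact z'.2
    have hzcen : ∀ x ∈ (P : Subgroup G), x * z = z * x := by
      intro x hx
      have := Subgroup.mem_center_iff.1 hz' ⟨x, hx⟩
      have := congrArg Subtype.val this
      simpa [← hzz'] using this
    have hle := cent_le z H h0
    have hPH : (P : Subgroup G) ≤ H := fun x hx =>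
      hle (Subgroup.mem_centralizer_singleton_iff.2 (hzcen x hx))
    have hzt : z * t ∈ H := h2 t ht hne hc (Subgroup.mem_centralizer_singleton_iff.2 rfl)
    constructor
    · intro hg
      have htt : t * t = 1 := by
        obtain ⟨k, hk⟩ := isConj_iff.1 ht
        rw [← hk]
        calc k * z * k⁻¹ * (k * z * k⁻¹) = k * (z * z) * k⁻¹ := by group
          _ = 1 := by rw [hzz]; group
      have hsq : (z * t) * (z * t) = 1 := by
        calc (z * t) * (z * t) = z * (t * z) * t := by group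
          _ = (z * z) * (t * t) := by rw [hc]; group
          _ = 1 := by rw [hzz, htt, one_mul]
      have hord : IsPGroup 2 (Subgroup.zpowers (g⁻¹ * (z * t) * g)) := by
        have h3 : IsPGroup 2 (Subgroup.zpowers (z * t)) := by
          apply zpowers_isPGroup
          have : orderOf (z * t) ∣ 2 := orderOf_dvd_of_pow_eq_one (by rw [pow_two]; exact hsq)
          obtain ⟨k, _, hk⟩ := (Nat.dvd_prime_pow Nat.prime_two).1 (by simpa using this : _ ∣ 2 ^ 1)
          exact ⟨k, hk⟩
        have := zpowers_conj_isPGroup h3 g⁻¹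
        rwa [inv_inv] at this
      obtain ⟨m, hm, hmP⟩ := elem_subj P hPH hord hg
      have h3 := hzcen _ hmP
      -- k = g m⁻¹
      have h4 : (g * m⁻¹) * z * (g * m⁻¹)⁻¹ ∈ H := by
        apply h2 t ht hne hc
        rw [Subgroup.mem_centralizer_singleton_iff]
        calc (g * m⁻¹) * z * (g * m⁻¹)⁻¹ * (z * t) =
              (g * m⁻¹) * (z * (m * (g⁻¹ * (z * t) * g) * m⁻¹)) * (g * m⁻¹)⁻¹ := by group
          _ = (g * m⁻¹) * ((m * (g⁻¹ * (z * t) * g) * m⁻¹) * z) * (g * m⁻¹)⁻¹ := by rw [h3]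
          _ = _ := by group
      have h5 := (conj_mem_iff z H h0 _).1 h4
      have := H.mul_mem h5 hm
      have e : g * m⁻¹ * m = g := by group
      rwa [e] at this
    · intro hg
      exact H.mul_mem (H.mul_mem (H.inv_mem hg) hzt) hg

end Cfsg.Agent.S1922
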