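import Cfsg.Statements.S3803
import Cfsg.Agent.LibBGPi
import Cfsg.Agent.LibBGCop
import Cfsg.Agent.LibHHMin

set_option autoImplicit false
open Cfsg

namespace Cfsg.Agent.S3803



open Subgroup Cfsg CfsgLib.BGPi
open scoped commutatorElement

variable {X : Type*} [Group X] [Finite X]

theorem exists_between (p : ℕ) [Fact p.Prime] {H K : Subgroup X} (hHK : H ≤ K) {n m r : ℕ}
    (hH : Nat.card H = p ^ n) (hK : Nat.card K = p ^ r) (h1 : n ≤ m) (h2 : m ≤ r) :
    ∃ L : Subgroup X, H ≤ L ∧ L ≤ K ∧ Nat.card L = p ^ m := by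
  have hd : p ^ m ∣ Nat.card K := by rw [hK]; exact pow_dvd_pow p h2
  have hH' : Nat.card (H.subgroupOf K) = p ^ n := by
    rw [← hH]; exact Nat.card_congr (Subgroup.subgroupOfEquivOfLe hHK).toEquiv
  obtain ⟨L, hL1, hL2⟩ := Sylow.exists_subgroup_card_pow_prime_le p hd (H.subgroupOf K) hH' h1
  refine ⟨L.map K.subtype, ?_, Subgroup.map_subtype_le L, ?_⟩
  · intro x hx
    exact ⟨⟨x, hHK hx⟩, hL2 (Subgroup.mem_subgroupOf.mpr hx), rfl⟩
  · rw [← hL1]
    exact Subgroup.card_map_of_injective K.subtype_injective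

theorem idx2 {E M : Subgroup X} (hM : M ≤ E) (hc : Nat.card M * 2 = Nat.card E) {x y : X}
    (hx : x ∈ E) (hy : y ∈ E) (h : x ∈ M ↔ y ∈ M) : x * y ∈ M := by
  have hi : (M.subgroupOf E).index = 2 := by
    have h1 := Subgroup.card_mul_index (M.subgroupOf E)
    have h2 : Nat.card (M.subgroupOf E) = Nat.card M :=
      Nat.card_congr (Subgroup.subgroupOfEquivOfLe hM).toEquiv
    rw [h2, ← hc] at h1
    have h3 : 0 < Nat.card M := Nat.card_pos
    exact Nat.eq_of_mul_eq_mul_left h3 h1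
  have h4 := Subgroup.mul_mem_iff_of_index_two hi (a := ⟨x, hx⟩) (b := ⟨y, hy⟩)
  have h5 : (⟨x, hx⟩ : E) * ⟨y, hy⟩ ∈ M.subgroupOf E := by
    rw [h4]
    simpa [Subgroup.mem_subgroupOf] using h
  simpa [Subgroup.mem_subgroupOf] using h5

theorem maxcent {P A : Subgroup X} (hP : IsPGroup 2 P) (hA : Odd (Nat.card A)) (hAP : A ≤ 𝓝(P))
    (hmax : ∀ M : Subgroup X, M ≤ P → Nat.card M * 2 = Nat.card P → A ≤ 𝓝(M)) : A ≤ 𝓒(P) := by
  haveI : Fact (Nat.Prime 2) := ⟨Nat.prime_two⟩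
  have hc : (Nat.card A).Coprime (Nat.card P) :=
    coprime_card_of_pgroup Nat.prime_two hP (Nat.coprime_two_right.mpr hA)
  have hs := solvable_of_isPGroup Nat.prime_two hP
  by_contra hcon
  have hlt : P ⊓ 𝓒(A) < P := by
    refine lt_of_le_of_ne inf_le_left (fun h => hcon ?_)
    have h1 : P ≤ 𝓒(A) := by rw [← h]; exact inf_le_right
    exact le_cz_comm.1 h1
  obtain ⟨r, hr⟩ := IsPGroup.iff_card.mp hP
  obtain ⟨n, hn⟩ := IsPGroup.iff_card.mp (hP.to_le inf_le_left : IsPGroup 2 (P ⊓ 𝓒(A) : Subgroup X))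
  have hnr : n < r := by
    have h1 : Nat.card (P ⊓ 𝓒(A) : Subgroup X) < Nat.card P := by
      refine lt_of_le_of_ne (Subgroup.card_le_of_le hlt.le) (fun h => hlt.ne ?_)
      exact eq_of_card_le hlt.le h.ge
    rw [hn, hr] at h1
    exact (Nat.pow_lt_pow_iff_right (by norm_num)).mp h1
  obtain ⟨M, h1, h2, h3⟩ := exists_between 2 hlt.le hn hr (show n ≤ r - 1 by omega) (by omega)
  have h4 : Nat.card M * 2 = Nat.card P := by
    rw [h3, hr, ← pow_succ]; congr 1; omega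
  have h5 := hmax M h2 h4
  have h6 : ⁅P, A⁆ ≤ M := by
    rw [Subgroup.commutator_le]
    intro x hx a ha
    have h7 : a * x⁻¹ * a⁻¹ ∈ P := (Subgroup.mem_normalizer_iff.mp (hAP ha) x⁻¹).1 (inv_mem hx)
    have h8 : x ∈ M ↔ a * x⁻¹ * a⁻¹ ∈ M := by
      rw [← Subgroup.mem_normalizer_iff.mp (h5 ha) x⁻¹, inv_mem_iff]
    have h9 := idx2 h2 h4 hx h7 h8
    rwa [show ⁅x, a⁆ = x * (a * x⁻¹ * a⁻¹) by rw [commutatorElement_def]; group]
  have h7 : P ≤ M := by
    rw [← cop_comm_sup hAP hc hs]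
    exact sup_le h6 h1
  have h8 := Subgroup.card_le_of_le h7
  have h9 : 0 < Nat.card M := Nat.card_pos
  omega

theorem cyc_max {E M : Subgroup X} {e : X} (he : E = Subgroup.zpowers e) (hM : M ≤ E)
    (hc : Nat.card M * 2 = Nat.card E) : M = Subgroup.zpowers (e ^ 2) := by
  have heE : e ∈ E := by rw [he]; exact Subgroup.mem_zpowers e
  have h1 : e ^ 2 ∈ M := by
    rw [pow_two]; exact idx2 hM hc heE heE Iff.rfl
  have h2 : Subgroup.zpowers (e ^ 2) ≤ M := by
    rw [Subgroup.zpowers_le]; exact h1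
  symm
  apply eq_of_card_le h2
  have h3 : Nat.card E = orderOf e := by rw [he, Nat.card_zpowers]
  rw [Nat.card_zpowers, orderOf_pow]
  have h4 : Nat.gcd (orderOf e) 2 ≤ 2 := Nat.le_of_dvd (by norm_num) (Nat.gcd_dvd_right _ _)
  have h5 : Nat.gcd (orderOf e) 2 ∣ orderOf e := Nat.gcd_dvd_left _ _
  have h6 := Nat.div_mul_cancel h5
  rw [← h3] at h6
  rw [← h3]
  have h7 := Nat.mul_le_mul_left (Nat.card E / Nat.gcd (Nat.card E) 2) (h3 ▸ h4)
  omega

theorem cyc_cent {E A : Subgroup X} (hP : IsPGroup 2 E) (hA : Odd (Nat.card A)) (hAP : A ≤ 𝓝(E))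
    {e : X} (he : E = Subgroup.zpowers e) : A ≤ 𝓒(E) := by
  apply maxcent hP hA hAP
  intro M hM hc
  rw [cyc_max he hM hc]
  refine le_nz.2 ?_
  intro a ha x hx
  obtain ⟨i, rfl⟩ := Subgroup.mem_zpowers_iff.mp hx
  have h1 : a * e * a⁻¹ ∈ E := (Subgroup.mem_normalizer_iff.mp (hAP ha) e).1 (by rw [he]; exact Subgroup.mem_zpowers e)
  rw [he] at h1
  obtain ⟨j, hj⟩ := Subgroup.mem_zpowers_iff.mp h1
  rw [← conj_zpow, ← conj_pow, ← hj]
  refine Subgroup.zpow_mem _ ?_ i
  refine Subgroup.mem_zpowers_iff.mpr ⟨j, ?_⟩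
  rw [← zpow_natCast, ← zpow_natCast, ← zpow_mul, ← zpow_mul, mul_comm]

theorem omega2 {P A : Subgroup X} (hP : IsPGroup 2 P) (hA : Odd (Nat.card A)) (hAP : A ≤ 𝓝(P))
    (hfix : ∀ x ∈ P, x ^ 4 = 1 → ∀ a ∈ A, a * x = x * a) : A ≤ 𝓒(P) := by
  induction hn : Nat.card P using Nat.strong_induction_on generalizing P with
  | _ n ih =>
  subst hn
  by_contra hcon
  have hnt : ⁅P, A⁆ ≠ ⊥ := by
    intro h
    rw [comm_eq_bot_iff] at h
    exact hcon (le_cz_comm.1 h)
  have hred := CfsgLib.HHMin.reduction Nat.prime_two A A P hP hAP le_rfl Subgroup.le_normalizer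
    (Nat.coprime_two_right.mpr hA) hnt (by
      intro U hU hAU
      rw [comm_eq_bot_iff]
      refine le_cz_comm.1 (ih (Nat.card U) ?_ (hP.to_le hU.le) hAU ?_ rfl)
      · refine lt_of_le_of_ne (Subgroup.card_le_of_le hU.le) (fun h => hU.ne ?_)
        exact eq_of_card_le hU.le h.ge
      · intro x hx
        exact hfix x (hU.le hx))
  obtain ⟨-, h2, -, -⟩ := hred
  apply hcon
  intro a ha
  rw [mem_cz]
  intro x hx
  have hx4 : x ^ 4 = 1 := by
    rcases h2 with h2 | ⟨-, -, h3⟩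
    · have h4 := h2.2 x hx
      have h5 : x ^ 2 = 1 := h4
      rw [show 4 = 2 * 2 from rfl, pow_mul, h5, one_pow]
    · have h4 := h3 (x ^ 2) (pow_mem_phi hx)
      rw [show 4 = 2 * 2 from rfl, pow_mul, h4]
  exact (hfix x hx hx4 a ha).symm

/-- Let P be a 2-subgroup and A a subgroup of odd order of a finite group, with A normalizing P. Let D ≤ P with 1 < |D| < |P|. If every subgroup of P of order |D|, and also every subgroup of P of order 4 in case |D| = 2, is normalized by A, then A centralizes P. -/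
theorem result {X : Type*} [Group X] [Finite X] (P A D : Subgroup X) (hP : IsPGroup 2 P) (hA : Odd (Nat.card A))
    (hAP : A ≤ Subgroup.normalizer (P : Set X)) (hDP : D ≤ P) (hD1 : 1 < Nat.card D) (hD2 : Nat.card D < Nat.card P)
    (hinv : ∀ E : Subgroup X, E ≤ P → (Nat.card E = Nat.card D ∨ (Nat.card D = 2 ∧ Nat.card E = 4)) → A ≤ Subgroup.normalizer (E : Set X)) :
    A ≤ Subgroup.centralizer (P : Set X) := by
  haveI : Fact (Nat.Prime 2) := ⟨Nat.prime_two⟩
  apply omega2 hP hA hAP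
  intro x hx hx4
  obtain ⟨n, hn⟩ := IsPGroup.iff_card.mp hP
  obtain ⟨k, hk⟩ := IsPGroup.iff_card.mp (hP.to_le hDP)
  have hk1 : 1 ≤ k := by
    rcases Nat.eq_zero_or_pos k with h | h
    · rw [h, pow_zero] at hk; omega
    · exact h
  have hkn : k < n := by
    rw [hk, hn] at hD2
    exact (Nat.pow_lt_pow_iff_right (by norm_num)).mp hD2
  have hox : orderOf x ∣ 2 ^ 2 := orderOf_dvd_of_pow_eq_one (by norm_num; exact hx4)
  obtain ⟨t, ht2, ht⟩ := (Nat.dvd_prime_pow Nat.prime_two).mp hox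
  have hzc : Nat.card (Subgroup.zpowers x) = 2 ^ t := by rw [Nat.card_zpowers, ht]
  have hzP : Subgroup.zpowers x ≤ P := by rw [Subgroup.zpowers_le]; exact hx
  obtain ⟨E, hE1, hE2, hE3⟩ := exists_between 2 hzP hzc hn (show t ≤ k + 1 by omega) (by omega)
  have hxE : x ∈ E := hE1 (Subgroup.mem_zpowers x)
  have hEp : IsPGroup 2 E := hP.to_le hE2
  suffices hmain : ∃ F : Subgroup X, x ∈ F ∧ A ≤ 𝓒(F) by
    obtain ⟨F, hF1, hF2⟩ := hmain
    intro a ha
    exact (mem_cz.1 (hF2 ha) x hF1).symm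
  have hcE : ∀ M : Subgroup X, M ≤ E → Nat.card M * 2 = Nat.card E → A ≤ 𝓝(M) := by
    intro M hM hc
    apply hinv M (hM.trans hE2)
    left
    rw [hE3, pow_succ] at hc
    rw [hk]
    omega
  obtain ⟨F, -, hF2, hF3⟩ := exists_between 2 (bot_le : (⊥ : Subgroup X) ≤ E)
    (n := 0) (by simp) hE3 (show 0 ≤ k by omega) (by omega)
  by_cases huniq : ∃ M : Subgroup X, M ≤ E ∧ Nat.card M = 2 ^ k ∧ M ≠ F
  · obtain ⟨M, hM1, hM2, hM3⟩ := huniq
    have hsup : M ⊔ F = E := by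
      have h1 : M ⊔ F ≤ E := sup_le hM1 hF2
      have h2 : F < M ⊔ F := by
        refine lt_of_le_of_ne le_sup_right (fun h => hM3 ?_)
        have h3 : M ≤ F := by rw [h]; exact le_sup_left
        exact eq_of_card_le h3 (by rw [hM2, hF3])
      apply eq_of_card_le h1
      obtain ⟨s, hs⟩ := IsPGroup.iff_card.mp (hEp.to_le h1)
      have h3 : Nat.card F < Nat.card (M ⊔ F : Subgroup X) := by
        refine lt_of_le_of_ne (Subgroup.card_le_of_le h2.le) (fun h => h2.ne ?_)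
        exact eq_of_card_le h2.le h.ge
      rw [hs, hF3] at h3
      have h4 := (Nat.pow_lt_pow_iff_right (by norm_num)).mp h3
      rw [hs, hE3]
      exact Nat.pow_le_pow_right (by norm_num) h4
    refine ⟨E, hxE, maxcent hEp hA ?_ hcE⟩
    rw [← hsup]
    exact le_nz_sup (hcE M hM1 (by rw [hM2, hE3, pow_succ])) (hcE F hF2 (by rw [hF3, hE3, pow_succ]))
  · push Not at huniq
    have hsm : ∀ y ∈ E, y ∉ F → Subgroup.zpowers y = E := by
      intro y hy hyF
      have h1 : Subgroup.zpowers y ≤ E := by rw [Subgroup.zpowers_le]; exact hy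
      obtain ⟨s, hs⟩ := IsPGroup.iff_card.mp (hEp.to_le h1)
      by_contra hne
      have h2 : Nat.card (Subgroup.zpowers y) < Nat.card E := by
        refine lt_of_le_of_ne (Subgroup.card_le_of_le h1) (fun h => hne ?_)
        exact eq_of_card_le h1 h.ge
      rw [hs, hE3] at h2
      have h3 := (Nat.pow_lt_pow_iff_right (by norm_num)).mp h2
      obtain ⟨L, hL1, hL2, hL3⟩ := exists_between 2 h1 hs hE3 (show s ≤ k by omega) (by omega)
      have h4 := huniq L hL2 hL3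
      apply hyF
      rw [← h4]
      exact hL1 (Subgroup.mem_zpowers y)
    by_cases hxF : x ∈ F
    · refine ⟨F, hxF, ?_⟩
      obtain ⟨e, he, heF⟩ : ∃ e ∈ E, e ∉ F := by
        by_contra hcon
        push Not at hcon
        have h1 : E ≤ F := hcon
        have h2 := Subgroup.card_le_of_le h1
        rw [hE3, hF3] at h2
        have h3 : 2 ^ k < 2 ^ (k + 1) := Nat.pow_lt_pow_right (by norm_num) (by omega)
        omega
      have h1 := hsm e he heF
      have h2 := cyc_max h1.symm hF2 (by rw [hF3, hE3, pow_succ])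
      exact cyc_cent (hEp.to_le hF2) hA (hcE F hF2 (by rw [hF3, hE3, pow_succ])) h2
    · have h1 := hsm x hxE hxF
      refine ⟨E, hxE, cyc_cent hEp hA ?_ h1.symm⟩
      apply hinv E hE2
      right
      have h2 : 2 ^ t = 2 ^ (k + 1) := by rw [← hzc, h1, hE3]
      have h3 := Nat.pow_right_injective (le_refl 2) h2
      have h4 : k = 1 := by
        have : t = k + 1 := h3
        omega
      rw [hk, hE3, h4]
      norm_num


end Cfsg.Agent.S3803
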