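import Cfsg.Statements.S1946
import Cfsg.Agent.S3803
import Cfsg.Agent.LibBGCop
import Cfsg.Agent.LibNpc9
import Cfsg.Agent.S0071

set_option autoImplicit false
open Cfsg

namespace Cfsg.Agent.S1946



open Subgroup CfsgLib.BGPi
open scoped commutatorElement

variable {G : Type*} [Group G] [Finite G] {p : ℕ} [hp : Fact p.Prime]

/-- small elements -/
def Sm (p : ℕ) (a : G) : Prop := a ^ p = 1 ∨ (p = 2 ∧ a ^ 4 = 1)

theorem fix_small {P A : Subgroup G} (hP : IsPGroup p P) (hA : A ≤ 𝓝(P))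
    (hcop : (Nat.card A).Coprime p) (h : ∀ x ∈ P, Sm p x → ∀ a ∈ A, a * x = x * a) : A ≤ 𝓒(P) := by
  by_cases hp2 : p = 2
  · subst hp2
    have hodd : Odd (Nat.card A) := by
      exact Nat.Coprime.odd_of_right hcop
    exact Cfsg.Agent.S3803.omega2 hP hodd hA (fun x hx hx4 => h x hx (Or.inr ⟨rfl, hx4⟩))
  · exact cop_omega hp.out hp2 hP hA hcop (fun x hx hxp => h x hx (Or.inl hxp))

theorem key (P : Subgroup G) (hP : IsPGroup p P)
    (h : ∀ a ∈ P, Sm p a → ∀ g : G, g * a * g⁻¹ ∈ P → ∃ x ∈ P, g * a * g⁻¹ = x * a * x⁻¹)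
    {Q A : Subgroup G} (hQP : Q ≤ P) (hA : A ≤ 𝓝(Q)) (hcop : (Nat.card A).Coprime p) :
    A ≤ 𝓒(Q) := by
  by_contra hcon
  obtain ⟨R, hR, hmin⟩ := (Set.toFinite {R : Subgroup G | R ≤ Q ∧ A ≤ 𝓝(R) ∧ ¬ A ≤ 𝓒(R)}).exists_minimal
    ⟨Q, le_rfl, hA, hcon⟩
  obtain ⟨hRQ, hAR, hRC⟩ := hR
  have hRP : R ≤ P := hRQ.trans hQP
  have hRp : IsPGroup p R := hP.to_le hRP
  have hsR := solvable_of_isPGroup hp.out hRp
  have hcR := coprime_card_of_pgroup hp.out hRp hcop
  have hmin' : ∀ T : Subgroup G, T ≤ R → A ≤ 𝓝(T) → ¬ A ≤ 𝓒(T) → T = R := by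
    intro T hT h1 h2
    exact le_antisymm hT (hmin ⟨hT.trans hRQ, h1, h2⟩ hT)
  have hRA : ⁅R, A⁆ = R := by
    apply hmin' _ (comm_le_left hAR)
    · exact le_nz_comm hAR Subgroup.le_normalizer
    · intro h1
      exact hRC (cop_le_cz hAR hcR hsR h1)
  -- generation by small elements
  set S : Set G := {x | x ∈ R ∧ Sm p x} with hS
  have hSR : Subgroup.closure S = R := by
    apply hmin'
    · rw [Subgroup.closure_le]; exact fun x hx => hx.1
    · rw [le_nz]
      intro a ha x hx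
      induction hx using Subgroup.closure_induction with
      | mem x hx =>
        apply Subgroup.subset_closure
        refine ⟨le_nz.1 hAR a ha x hx.1, ?_⟩
        rcases hx.2 with h1 | ⟨h1, h2⟩
        · left; rw [conj_pow, h1]; group
        · right; refine ⟨h1, ?_⟩; rw [conj_pow, h2]; group
      | one => simp
      | mul x y _ _ h1 h2 =>
        have e : a * (x * y) * a⁻¹ = (a * x * a⁻¹) * (a * y * a⁻¹) := by group
        rw [e]; exact mul_mem h1 h2
      | inv x _ h1 =>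
        have e : a * x⁻¹ * a⁻¹ = (a * x * a⁻¹)⁻¹ := by group
        rw [e]; exact inv_mem h1
    · intro h1
      apply hRC
      refine fix_small hRp hAR hcop fun x hx hsx a ha => ?_
      have := h1 ha
      rw [mem_cz] at this
      exact (this x (Subgroup.subset_closure ⟨hx, hsx⟩)).symm
  -- normal closure in P
  set N : Subgroup G := Subgroup.closure {y | ∃ u ∈ P, ∃ q ∈ R, y = u * q * u⁻¹} with hN
  have hRN : R ≤ N := fun q hq => Subgroup.subset_closure ⟨1, P.one_mem, q, hq, by simp⟩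
  have hNP : N ≤ P := by
    rw [hN, Subgroup.closure_le]
    rintro _ ⟨u, hu, q, hq, rfl⟩
    exact P.mul_mem (P.mul_mem hu (hRP hq)) (P.inv_mem hu)
  have hPN : P ≤ 𝓝(N) := by
    rw [le_nz]
    intro a ha x hx
    induction hx using Subgroup.closure_induction with
    | mem x hx =>
      obtain ⟨u, hu, q, hq, rfl⟩ := hx
      exact Subgroup.subset_closure ⟨a * u, P.mul_mem ha hu, q, hq, by group⟩
    | one => simp
    | mul x y _ _ h1 h2 =>
      have e : a * (x * y) * a⁻¹ = (a * x * a⁻¹) * (a * y * a⁻¹) := by group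
      rw [e]; exact mul_mem h1 h2
    | inv x _ h1 =>
      have e : a * x⁻¹ * a⁻¹ = (a * x * a⁻¹)⁻¹ := by group
      rw [e]; exact inv_mem h1
  set M := ⁅N, P⁆ with hM
  have hPM : P ≤ 𝓝(M) := by rw [hM]; exact right_le_nz_comm N P
  have hMc := le_nz.1 hPM
  let T : Subgroup G :=
    { carrier := {q | q ∈ R ∧ ∀ a ∈ A, a * q * a⁻¹ * q⁻¹ ∈ M}
      one_mem' := ⟨R.one_mem, fun a _ => by simp⟩
      mul_mem' := by
        rintro q q' ⟨hq, h1⟩ ⟨hq', h2⟩
        refine ⟨R.mul_mem hq hq', fun a ha => ?_⟩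
        have e : a * (q * q') * a⁻¹ * (q * q')⁻¹ = (a * q * a⁻¹ * q⁻¹) * (q * (a * q' * a⁻¹ * q'⁻¹) * q⁻¹) := by
          group
        rw [e]
        exact M.mul_mem (h1 a ha) (hMc q (hRP hq) _ (h2 a ha))
      inv_mem' := by
        rintro q ⟨hq, h1⟩
        refine ⟨R.inv_mem hq, fun a ha => ?_⟩
        have e : a * q⁻¹ * a⁻¹ * q⁻¹⁻¹ = q⁻¹ * (a * q * a⁻¹ * q⁻¹)⁻¹ * q⁻¹⁻¹ := by group
        rw [e]
        exact hMc q⁻¹ (P.inv_mem (hRP hq)) _ (M.inv_mem (h1 a ha)) }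
  have hRT : R ≤ T := by
    rw [← hSR, Subgroup.closure_le]
    rintro q ⟨hq, hsq⟩
    refine ⟨hq, fun a ha => ?_⟩
    obtain ⟨u, hu, huq⟩ := h q (hRP hq) hsq a (hRP (le_nz.1 hAR a ha q hq))
    rw [huq]
    have h1 := M.inv_mem (Subgroup.commutator_mem_commutator (hRN hq) hu)
    rw [commutatorElement_def] at h1
    have e : (q * u * q⁻¹ * u⁻¹)⁻¹ = u * q * u⁻¹ * q⁻¹ := by group
    rwa [e] at h1
  have hRM : R ≤ M := by
    rw [← hRA, Subgroup.commutator_le]
    intro q hq a ha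
    have h1 := M.inv_mem ((hRT hq).2 a ha)
    rw [commutatorElement_def]
    have e : (a * q * a⁻¹ * q⁻¹)⁻¹ = q * a * q⁻¹ * a⁻¹ := by group
    rwa [e] at h1
  have hNM : N ≤ M := by
    rw [hN, Subgroup.closure_le]
    rintro _ ⟨u, hu, q, hq, rfl⟩
    exact hMc u hu q (hRM hq)
  have hN0 : N ≠ ⊥ := by
    intro h1
    apply hRC
    rw [h1, le_bot_iff] at hRN
    rw [hRN]
    intro a _
    rw [mem_cz]
    intro x hx
    rw [Subgroup.mem_bot.1 hx, one_mul, mul_one]
  exact absurd hNM (not_le_of_gt (CfsgLib.SolvCoprime.commutator_lt_of_pgroup (hP.to_le hNP) hP hPN hN0))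

theorem main (P : Sylow p G)
    (h : ∀ a ∈ (P : Subgroup G), Sm p a → ∀ g : G, g * a * g⁻¹ ∈ (P : Subgroup G) →
      ∃ x ∈ (P : Subgroup G), g * a * g⁻¹ = x * a * x⁻¹) : HasNormalPComplement p G := by
  have h1 := (Cfsg.Agent.S0071.result P).2 (by
    intro Q hQ g hg hco
    have hA : Subgroup.zpowers g ≤ 𝓝(Q) := by rwa [Subgroup.zpowers_le]
    have := key (P : Subgroup G) P.2 h hQ hA (by rwa [Nat.card_zpowers])
    exact this (Subgroup.mem_zpowers g))
  obtain ⟨N, hN, hc⟩ := h1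
  exact ⟨P, N, hN, hc⟩

/-- Let P be a Sylow p-subgroup of the finite group G. Then G has a normal p-complement if and only if P controls the fusion of its elements of order dividing p (dividing 4 when p = 2): whenever such an element a of P has a G-conjugate g a g⁻¹ in P, that conjugate is already x a x⁻¹ for some x in P. -/
theorem result {G : Type*} [Group G] [Finite G] {p : ℕ} [Fact p.Prime] (P : Sylow p G) :
    Cfsg.HasNormalPComplement p G ↔
      ∀ a ∈ (P : Subgroup G), (a ^ p = 1 ∨ (p = 2 ∧ a ^ 4 = 1)) → ∀ g : G, g * a * g⁻¹ ∈ (P : Subgroup G) →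
        ∃ x ∈ (P : Subgroup G), g * a * g⁻¹ = x * a * x⁻¹ := by
  constructor
  · intro h
    have h0 := CfsgLib.Npc9.hnpc_iff.1 h
    obtain ⟨N, hN, hco, k, hk⟩ := h0
    intro a ha _ g hg
    -- g = n x
    have hNP : N ⊔ (P : Subgroup G) = ⊤ := by
      rw [← Subgroup.index_eq_one]
      have h1 : (N ⊔ (P : Subgroup G)).index ∣ p ^ k := hk ▸ Subgroup.index_dvd_of_le le_sup_left
      have h2 : (N ⊔ (P : Subgroup G)).index ∣ (P : Subgroup G).index := Subgroup.index_dvd_of_le le_sup_right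
      have h3 : Nat.Coprime (p ^ k) (P : Subgroup G).index :=
        Nat.Coprime.pow_left k ((Nat.Prime.coprime_iff_not_dvd Fact.out).2 P.not_dvd_index)
      exact Nat.eq_one_of_dvd_coprimes h3 h1 h2
    have hgt : g ∈ N ⊔ (P : Subgroup G) := by rw [hNP]; exact Subgroup.mem_top g
    obtain ⟨n, hn, x, hx, rfl⟩ := Subgroup.mem_sup_of_normal_left.1 hgt
    refine ⟨x, hx, ?_⟩
    have hb : x * a * x⁻¹ ∈ (P : Subgroup G) := mul_mem (mul_mem hx ha) (inv_mem hx)
    have h4 : n * (x * a * x⁻¹) * n⁻¹ * (x * a * x⁻¹)⁻¹ ∈ N ⊓ (P : Subgroup G) := by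
      refine ⟨?_, ?_⟩
      · have e : n * (x * a * x⁻¹) * n⁻¹ * (x * a * x⁻¹)⁻¹ = n * ((x * a * x⁻¹) * n⁻¹ * (x * a * x⁻¹)⁻¹) := by group
        rw [e]
        exact N.mul_mem hn (hN.conj_mem _ (N.inv_mem hn) _)
      · have e : n * (x * a * x⁻¹) * n⁻¹ = n * x * a * (n * x)⁻¹ := by group
        rw [e]
        exact (P : Subgroup G).mul_mem hg ((P : Subgroup G).inv_mem hb)
    have h5 : N ⊓ (P : Subgroup G) = ⊥ := by
      obtain ⟨m, hm⟩ := IsPGroup.iff_card.1 P.2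
      exact CfsgLib.BGPi.cop_inf (by
        have : Nat.card (P : Subgroup G) = p ^ m := hm
        rw [this]; exact Nat.Coprime.pow_right m hco)
    rw [h5, Subgroup.mem_bot, mul_inv_eq_one] at h4
    rw [← h4]; group
  · intro h
    exact main P h

end Cfsg.Agent.S1946
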