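import Cfsg.Statements.S1947
import Cfsg.Agent.S1946

set_option autoImplicit false
open Cfsg

namespace Cfsg.Agent.S1947

open Subgroup CfsgLib.BGPi
open scoped commutatorElement

/-- Let G be a finite group and p a prime. If every element of G of order dividing p (dividing 4 when p = 2) lies in some fixed term Z_n(G) of the upper central series, then G has a normal p-complement. -/
theorem result {G : Type*} [Group G] [Finite G] {p : ℕ} [Fact p.Prime] (n : ℕ)
    (h : ∀ a : G, (a ^ p = 1 ∨ (p = 2 ∧ a ^ 4 = 1)) → a ∈ Subgroup.upperCentralSeries G n) : Cfsg.HasNormalPComplement p G := by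
  obtain ⟨P⟩ : Nonempty (Sylow p G) := inferInstance
  have h1 := (Cfsg.Agent.S0071.result P).2 (by
    intro Q hQ g hg hco
    have hQp : IsPGroup p Q := P.2.to_le hQ
    have hA : Subgroup.zpowers g ≤ 𝓝(Q) := by rwa [Subgroup.zpowers_le]
    have hcA : (Nat.card (Subgroup.zpowers g)).Coprime p := by rwa [Nat.card_zpowers]
    have := Cfsg.Agent.S1946.fix_small (p := p) hQp hA hcA (by
      intro x hx hsx a ha
      -- Z_i ⊓ Q is centralized by zpowers g
      have hZ : ∀ i, Subgroup.zpowers g ≤ 𝓒(Subgroup.upperCentralSeries G i ⊓ Q) := by
        intro i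
        induction i with
        | zero =>
          rw [Subgroup.upperCentralSeries_zero, bot_inf_eq]
          intro y _
          rw [mem_cz]
          intro z hz
          rw [Subgroup.mem_bot.1 hz, one_mul, mul_one]
        | succ i ih =>
          set W := Subgroup.upperCentralSeries G (i + 1) ⊓ Q with hW
          have hWp : IsPGroup p W := hQp.to_le inf_le_right
          have hAW : Subgroup.zpowers g ≤ 𝓝(W) := by
            refine le_nz_inf ?_ hA
            rw [Subgroup.normalizer_eq_top]; exact le_top
          refine cop_le_cz hAW (coprime_card_of_pgroup Fact.out hWp hcA)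
            (solvable_of_isPGroup Fact.out hWp) ?_
          refine ih.trans (Subgroup.centralizer_le (SetLike.coe_subset_coe.2 ?_))
          refine le_inf ?_ ((comm_le_left hAW).trans inf_le_right)
          rw [Subgroup.commutator_le]
          intro w hw b _
          exact (Subgroup.mem_upperCentralSeries_succ_iff).1 hw.1 b
      have h2 := hZ n ha
      rw [mem_cz] at h2
      exact (h2 x ⟨h x hsx, hx⟩).symm)
    exact this (Subgroup.mem_zpowers g))
  obtain ⟨N, hN, hc⟩ := h1
  exact ⟨P, N, hN, hc⟩

end Cfsg.Agent.S1947
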