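import Cfsg.Statements.S1948
import Mathlib
import Cfsg.Agent.LibCtH12c
import Cfsg.Agent.LibH2Con
import Cfsg.Agent.LibPSolv17

set_option autoImplicit false
open Cfsg

namespace Cfsg.Agent.S1948

open CfsgLib.CtH12 CfsgLib.Cores in
theorem fwd {G : Type*} [Group G] [Finite G] {p : ℕ} [hp : Fact p.Prime] (S : Sylow p G)
    (h : Subgroup.normalizer ((S : Subgroup G) : Set G) ⊔ pPrimeCore p G = ⊤) : IsPConstrained p G := by
  rw [CfsgLib.H2Con.isPConstrained_iff]
  unfold CfsgLib.H2Con.CP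
  set D := pPrimeCore p G with hD
  have hf := QuotientGroup.mk'_surjective D
  have hSn : ((S.mapSurjective hf : Sylow p (G ⧸ D)) : Subgroup (G ⧸ D)).Normal := by
    rw [← Subgroup.normalizer_eq_top_iff, eq_top_iff, Sylow.coe_mapSurjective]
    have h1 : (Subgroup.normalizer ((S : Subgroup G) : Set G) ⊔ D).map (QuotientGroup.mk' D) = ⊤ := by
      rw [h]; exact Subgroup.map_top_of_surjective _ hf
    rw [Subgroup.map_sup, QuotientGroup.map_mk'_self, sup_bot_eq] at h1
    rw [← h1]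
    exact Subgroup.le_normalizer_map _
  have h2 := sylow_eq_pCore_of_normal _ hSn
  rw [← h2]
  haveI := hSn
  set T := ((S.mapSurjective hf : Sylow p (G ⧸ D)) : Subgroup (G ⧸ D)) with hT
  have h3 := CfsgLib.PSolv17.eq_of_central (p := p) (K := Subgroup.centralizer (T : Set (G ⧸ D)))
    (L := T ⊓ Subgroup.centralizer (T : Set (G ⧸ D))) inf_le_right ((S.mapSurjective hf).isPGroup'.to_le inf_le_left)
    (fun x hx y hy => Subgroup.mem_centralizer_iff.1 hy x (Subgroup.mem_inf.1 hx).1) (by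
      rw [Subgroup.inf_relIndex_right]
      have h4 : ¬ p ∣ T.index := (S.mapSurjective hf).not_dvd_index
      have h5 : T.relIndex (Subgroup.centralizer (T : Set (G ⧸ D))) ∣ T.index := Subgroup.relIndex_dvd_index_of_normal _ _
      exact ((Nat.Prime.coprime_iff_not_dvd hp.out).2 (fun h => h4 (h.trans h5))).symm)
    (pPrimeCore_quotient_pPrimeCore p)
  exact h3.trans inf_le_left

open CfsgLib.CtH12 CfsgLib.Cores in
theorem fwd2 {G : Type*} [Group G] [Finite G] {p : ℕ} [hp : Fact p.Prime] (S : Sylow p G)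
    (h : Subgroup.normalizer ((S : Subgroup G) : Set G) ⊔ pPrimeCore p G = ⊤)
    (Q : Subgroup G) (hQ : Q ≤ (S : Subgroup G)) (g : G) (hg : Q.map (MulAut.conj g).toMonoidHom ≤ (S : Subgroup G)) :
    ∃ n ∈ Subgroup.normalizer ((S : Subgroup G) : Set G), ∃ c ∈ Subgroup.centralizer (Q : Set G), g = n * c := by
  have h1 : g ∈ Subgroup.normalizer ((S : Subgroup G) : Set G) ⊔ pPrimeCore p G := by rw [h]; exact Subgroup.mem_top _
  obtain ⟨n, hn, d, hd, hnd⟩ := Subgroup.mem_sup_of_normal_right.1 h1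
  refine ⟨n, hn, d, Subgroup.mem_centralizer_iff.2 fun q hq => ?_, hnd.symm⟩
  have h2 : g * q * g⁻¹ ∈ (S : Subgroup G) := hg ⟨q, hq, rfl⟩
  have h3 : d * q * d⁻¹ ∈ (S : Subgroup G) := by
    have := (Subgroup.mem_normalizer_iff.1 (inv_mem hn) _).1 h2
    rw [← hnd] at this
    have e : n⁻¹ * (n * d * q * (n * d)⁻¹) * n⁻¹⁻¹ = d * q * d⁻¹ := by group
    rwa [e] at this
  have h4 : d * q * d⁻¹ * q⁻¹ ∈ (S : Subgroup G) ⊓ pPrimeCore p G := by
    refine Subgroup.mem_inf.2 ⟨mul_mem h3 (inv_mem (hQ hq)), ?_⟩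
    have h5 := (inferInstance : (pPrimeCore p G).Normal).conj_mem d⁻¹ (inv_mem hd) q
    have h6 := mul_mem hd h5
    have e : d * (q * d⁻¹ * q⁻¹) = d * q * d⁻¹ * q⁻¹ := by group
    rwa [e] at h6
  rw [inf_eq_bot_of_cop (cop_of_pgroup S.isPGroup' pPrimeCore_not_dvd)] at h4
  have h5 := Subgroup.mem_bot.1 h4
  rw [mul_inv_eq_one] at h5
  exact (mul_inv_eq_iff_eq_mul.1 h5).symm

open CfsgLib.CtH12 CfsgLib.Cores in
theorem cent_le {G : Type*} [Group G] [Finite G] {p : ℕ} [hp : Fact p.Prime] (S : Sylow p G) (h : IsPConstrained p G) :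
    Subgroup.centralizer (((S : Subgroup G) ⊓ pPrimePCore p G : Subgroup G) : Set G) ≤ pPrimePCore p G := by
  intro c hc
  have h1 := CfsgLib.H2Stab.centralizer_pCore_of_isPConstrained h
  change QuotientGroup.mk' (pPrimeCore p G) c ∈ pCore p (G ⧸ pPrimeCore p G)
  apply h1
  rw [Subgroup.mem_centralizer_iff]
  intro y hy
  have h2 : y ∈ (pPrimePCore p G).map (QuotientGroup.mk' (pPrimeCore p G)) := by
    unfold pPrimePCore
    rw [Subgroup.map_comap_eq_self_of_surjective (QuotientGroup.mk'_surjective _)]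
    exact hy
  rw [← ppc_eq S, Subgroup.map_sup, QuotientGroup.map_mk'_self, bot_sup_eq] at h2
  obtain ⟨x, hx, rfl⟩ := h2
  rw [← map_mul, ← map_mul, Subgroup.mem_centralizer_iff.1 hc x hx]


/-- Let S be a Sylow p-subgroup of the finite group G. Then G = N_G(S)·O_{p'}(G) if and only if G is p-constrained and N_G(S) controls fusion in S, in the sense that whenever a subgroup Q of S has a conjugate g Q g⁻¹ inside S, the element g is a product n c with n normalizing S and c centralizing Q. -/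
theorem result {G : Type*} [Group G] [Finite G] {p : ℕ} [Fact p.Prime] (S : Sylow p G) :
    Subgroup.normalizer ((S : Subgroup G) : Set G) ⊔ Cfsg.pPrimeCore p G = ⊤ ↔
      (Cfsg.IsPConstrained p G ∧
        ∀ Q : Subgroup G, Q ≤ (S : Subgroup G) → ∀ g : G, Q.map (MulAut.conj g).toMonoidHom ≤ (S : Subgroup G) →
          ∃ n ∈ Subgroup.normalizer ((S : Subgroup G) : Set G), ∃ c ∈ Subgroup.centralizer (Q : Set G), g = n * c) := by
  refine ⟨fun h => ⟨fwd S h, fun Q hQ g hg => fwd2 S h Q hQ g hg⟩, ?_⟩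
  rintro ⟨hc, hctrl⟩
  rw [eq_top_iff, ← CfsgLib.CtH12.frattini_ppc S]
  refine sup_le le_sup_right ?_
  intro g hg
  have h1 : ((S : Subgroup G) ⊓ pPrimePCore p G).map (MulAut.conj g).toMonoidHom ≤ (S : Subgroup G) := by
    rintro _ ⟨x, hx, rfl⟩
    exact (Subgroup.mem_inf.1 ((Subgroup.mem_normalizer_iff.1 hg x).1 hx)).1
  obtain ⟨n, hn, c, hc', rfl⟩ := hctrl _ inf_le_left g h1
  have h2 := cent_le S hc hc'
  rw [← CfsgLib.CtH12.ppc_eq S] at h2
  have h3 : pPrimeCore p G ⊔ ((S : Subgroup G) ⊓ pPrimePCore p G) ≤ Subgroup.normalizer ((S : Subgroup G) : Set G) ⊔ pPrimeCore p G :=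
    sup_le le_sup_right (inf_le_left.trans (Subgroup.le_normalizer.trans le_sup_left))
  exact mul_mem (Subgroup.mem_sup_left hn) (h3 h2)

end Cfsg.Agent.S1948
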