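import Cfsg.Statements.S1953
import Cfsg.Agent.LibStP9F

set_option autoImplicit false
open Cfsg

namespace Cfsg.Agent.S1953

open Subgroup CfsgLib.Stab9 CfsgLib.FusionH12 CfsgLib.FusionH12b CfsgLib.FusionH12c CfsgLib.FusionH12e CfsgLib.FusionH12f CfsgLib.DFus9 CfsgLib.StP9 CfsgLib.Bad9 CfsgLib.Dick9
open scoped commutatorElement

theorem stab_of_free {G : Type*} [Group G] [Finite G] {p : ℕ} [Fact p.Prime] (hp : p ≠ 2)
    (hfree : ∀ Q : Subgroup G, IsPGroup p ↥Q → ¬ ∃ (H K : Subgroup G) (_ : (K.subgroupOf H).Normal),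
      Subgroup.centralizer (Q : Set G) ≤ K ∧ K ≤ H ∧ H ≤ Subgroup.normalizer (Q : Set G) ∧
      Nonempty ((↥H ⧸ K.subgroupOf H) ≃* Matrix.SpecialLinearGroup (Fin 2) (ZMod p))) : Stab p G := by
  classical
  by_contra hns
  obtain ⟨R, L, φ, ψ, h⟩ := exists_badO hp hns
  apply hfree R h.pg
  -- elements acting trivially
  have htriv : ∀ k ∈ L, (∀ r ∈ R, k * r * k⁻¹ = r) → φ k = 1 := by
    intro k hk hkr
    obtain ⟨a, ha, hav⟩ := h.gs (1, 0)
    obtain ⟨b, hb, hbv⟩ := h.gs (0, 1)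
    have e1 := h.eqv k hk a ha
    have e2 := h.eqv k hk b hb
    rw [hkr a ha, hav] at e1
    rw [hkr b hb, hbv] at e2
    unfold CfsgLib.Bad9.act at e1 e2
    have f1 := congrArg Prod.fst e1
    have f2 := congrArg Prod.snd e1
    have f3 := congrArg Prod.fst e2
    have f4 := congrArg Prod.snd e2
    simp only [mul_one, mul_zero, add_zero, zero_add] at f1 f2 f3 f4
    apply ext2
    · rw [one00]; exact f1.symm
    · rw [one01]; exact f3.symm
    · rw [one10]; exact f2.symm
    · rw [one11]; exact f4.symm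
  have hsame : ∀ l ∈ L, ∀ l' ∈ L, (∀ r ∈ R, l * r * l⁻¹ = l' * r * l'⁻¹) → φ l = φ l' := by
    intro l hl l' hl' hll
    have h1 : φ (l'⁻¹ * l) = 1 := by
      apply htriv _ (mul_mem (inv_mem hl') hl)
      intro r hr
      have := hll r hr
      calc l'⁻¹ * l * r * (l'⁻¹ * l)⁻¹ = l'⁻¹ * (l * r * l⁻¹) * l' := by group
        _ = r := by rw [this]; group
    rw [h.fm _ (inv_mem hl') _ hl, f_inv h.fm hl', inv_mul_eq_one] at h1
    exact h1.symm
  let H : Subgroup G :=
    { carrier := {x | ∃ l ∈ L, ∀ r ∈ R, x * r * x⁻¹ = l * r * l⁻¹}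
      mul_mem' := by
        rintro a b ⟨l, hl, hal⟩ ⟨m, hm, hbm⟩
        refine ⟨l * m, mul_mem hl hm, fun r hr => ?_⟩
        calc a * b * r * (a * b)⁻¹ = a * (b * r * b⁻¹) * a⁻¹ := by group
          _ = l * (m * r * m⁻¹) * l⁻¹ := by rw [hbm r hr, hal _ (h.nrm m hm r hr)]
          _ = _ := by group
      one_mem' := ⟨1, one_mem _, fun r hr => rfl⟩
      inv_mem' := by
        rintro a ⟨l, hl, hal⟩
        refine ⟨l⁻¹, inv_mem hl, fun r hr => ?_⟩
        have h1 := h.nrm _ (inv_mem hl) r hr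
        have h2 := hal _ h1
        calc a⁻¹ * r * a⁻¹⁻¹ = a⁻¹ * (l * (l⁻¹ * r * l⁻¹⁻¹) * l⁻¹) * a := by group
          _ = l⁻¹ * r * l⁻¹⁻¹ := by rw [← h2]; group }
  have hLH : L ≤ H := fun l hl => ⟨l, hl, fun r hr => rfl⟩
  obtain ⟨θ, hθ⟩ : ∃ θ : G → Matrix.SpecialLinearGroup (Fin 2) (ZMod p), ∀ x ∈ H, ∀ l ∈ L,
      (∀ r ∈ R, x * r * x⁻¹ = l * r * l⁻¹) → θ x = φ l := by
    have : ∀ x : G, ∃ m : Matrix.SpecialLinearGroup (Fin 2) (ZMod p), x ∈ H → ∀ l ∈ L,
      (∀ r ∈ R, x * r * x⁻¹ = l * r * l⁻¹) → m = φ l := by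
      intro x
      by_cases hx : x ∈ H
      · obtain ⟨l, hl, hxl⟩ := hx
        exact ⟨φ l, fun _ l' hl' hxl' => hsame l hl l' hl' fun r hr => (hxl r hr).symm.trans (hxl' r hr)⟩
      · exact ⟨1, fun h => absurd h hx⟩
    choose θ hθ using this
    exact ⟨θ, hθ⟩
  have fm : ∀ x ∈ H, ∀ y ∈ H, θ (x * y) = θ x * θ y := by
    rintro x ⟨l, hl, hxl⟩ y ⟨m, hm, hym⟩
    rw [hθ x ⟨l, hl, hxl⟩ l hl hxl, hθ y ⟨m, hm, hym⟩ m hm hym, ← h.fm l hl m hm]
    apply hθ _ (H.mul_mem ⟨l, hl, hxl⟩ ⟨m, hm, hym⟩) _ (mul_mem hl hm)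
    intro r hr
    calc x * y * r * (x * y)⁻¹ = x * (y * r * y⁻¹) * x⁻¹ := by group
      _ = l * (m * r * m⁻¹) * l⁻¹ := by rw [hym r hr, hxl _ (h.nrm m hm r hr)]
      _ = _ := by group
  let f := hom H θ fm
  have hf : Function.Surjective f := by
    intro m
    obtain ⟨l, hl, hm⟩ := h.fs m
    exact ⟨⟨l, hLH hl⟩, (hθ l (hLH hl) l hl fun r hr => rfl).trans hm⟩
  have hK : (f.ker.map H.subtype).subgroupOf H = f.ker := by
    rw [Subgroup.subgroupOf, Subgroup.comap_map_eq_self_of_injective H.subtype_injective]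
  haveI hKn : ((f.ker.map H.subtype).subgroupOf H).Normal := by rw [hK]; infer_instance
  refine ⟨H, f.ker.map H.subtype, hKn, ?_, Subgroup.map_subtype_le _, ?_, ?_⟩
  · intro c hc
    have h1 : ∀ r ∈ R, c * r * c⁻¹ = (1 : G) * r * (1 : G)⁻¹ := by
      intro r hr
      rw [mem_centralizer_iff] at hc
      rw [← hc r hr]; group
    have hcH : c ∈ H := ⟨1, one_mem _, h1⟩
    refine ⟨⟨c, hcH⟩, ?_, rfl⟩
    rw [SetLike.mem_coe, MonoidHom.mem_ker]
    change θ c = 1
    rw [hθ c hcH 1 (one_mem _) h1, f_one h.fm]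
  · rw [le_normalizer_iff]
    rintro x ⟨l, hl, hxl⟩ r hr
    rw [hxl r hr]
    exact h.nrm l hl r hr
  · exact ⟨(QuotientGroup.quotientMulEquivOfEq hK).trans (QuotientGroup.quotientKerEquivOfSurjective f hf)⟩

theorem mem_sup_of_nrm {G : Type*} [Group G] {T K : Subgroup G} (h : T ≤ Subgroup.normalizer (K : Set G)) {x : G}
    (hx : x ∈ T ⊔ K) : ∃ k ∈ K, ∃ t ∈ T, x = k * t := by
  have hc : ∀ t ∈ T, ∀ k ∈ K, t * k * t⁻¹ ∈ K := fun t ht k hk => (mem_normalizer_iff.1 (h ht) k).1 hk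
  let S : Subgroup G :=
    { carrier := {x | ∃ k ∈ K, ∃ t ∈ T, x = k * t}
      mul_mem' := by
        rintro _ _ ⟨k, hk, t, ht, rfl⟩ ⟨l, hl, u, hu, rfl⟩
        exact ⟨k * (t * l * t⁻¹), mul_mem hk (hc t ht l hl), t * u, mul_mem ht hu, by group⟩
      one_mem' := ⟨1, one_mem _, 1, one_mem _, by simp⟩
      inv_mem' := by
        rintro _ ⟨k, hk, t, ht, rfl⟩
        refine ⟨t⁻¹ * k⁻¹ * t⁻¹⁻¹, hc _ (inv_mem ht) _ (inv_mem hk), t⁻¹, inv_mem ht, by group⟩ }
  have h1 : T ⊔ K ≤ S := sup_le (fun t ht => ⟨1, one_mem _, t, ht, by simp⟩) (fun k hk => ⟨k, hk, 1, one_mem _, by simp⟩)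
  exact h1 hx

/-- central Sylow subgroup: normal complement -/
theorem exists_compl {G : Type*} [Group G] [Finite G] {p : ℕ} [Fact p.Prime] (P : Sylow p G)
    (hP : ∀ x ∈ (P : Subgroup G), ∀ y : G, x * y = y * x) : (P : Subgroup G) ⊔ Cfsg.pPrimeCore p G = ⊤ := by
  have hNP : normalizer ((P : Subgroup G) : Set G) ≤ centralizer ((P : Subgroup G) : Set G) := by
    intro y _
    rw [mem_centralizer_iff]
    intro x hx
    exact hP x hx y
  have h4 := MonoidHom.ker_transferSylow_isComplement' P hNP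
  have h5 := MonoidHom.not_dvd_card_ker_transferSylow P hNP
  have h6 : (MonoidHom.transferSylow P hNP).ker ≤ Cfsg.pPrimeCore p G :=
    CfsgLib.Cores.le_pPrimeCore inferInstance
      ((Nat.Prime.coprime_iff_not_dvd (Fact.out : p.Prime)).2 h5).symm
  have h7 := h4.sup_eq_top
  rw [eq_top_iff, ← h7]
  exact sup_le (h6.trans le_sup_right) le_sup_left

/-- Let p be an odd prime and P a Sylow p-subgroup of the finite group G, and suppose that for no p-subgroup Q of G does N_G(Q)/C_G(Q) have a section isomorphic to SL₂(p). Call a subgroup Q of P centric-radical when Z(Q) is a Sylow p-subgroup of C_G(Q) and the only normal subgroup X of N_G(Q) containing Q·C_G(Q) such that the index of Q·C_G(Q) in X is a power of p is Q·C_G(Q) itself (that is, N_G(Q)/Q·C_G(Q) has no nontrivial normal p-subgroup). Then there is a centric-radical subgroup Q of P contained in every centric-radical subgroup of P; it is normal in P, and N_G(Q) controls strong fusion in P: whenever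 a subgroup A of P has g A g⁻¹ ≤ P, the element g is a product h c with h in N_G(Q) and c centralizing A. -/
theorem result {G : Type*} [Group G] [Finite G] {p : ℕ} [Fact p.Prime] (hp : p ≠ 2) (P : Sylow p G)
    (hfree : ∀ Q : Subgroup G, IsPGroup p ↥Q → ¬ ∃ (H K : Subgroup G) (_ : (K.subgroupOf H).Normal),
      Subgroup.centralizer (Q : Set G) ≤ K ∧ K ≤ H ∧ H ≤ Subgroup.normalizer (Q : Set G) ∧
      Nonempty ((↥H ⧸ K.subgroupOf H) ≃* Matrix.SpecialLinearGroup (Fin 2) (ZMod p)))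
    (cr : Subgroup G → Prop)
    (hcr : ∀ Q : Subgroup G, cr Q ↔ (Q ≤ (P : Subgroup G) ∧
      (∃ R : Sylow p ↥(Subgroup.centralizer (Q : Set G)),
        (R : Subgroup ↥(Subgroup.centralizer (Q : Set G))).map (Subgroup.centralizer (Q : Set G)).subtype = Q ⊓ Subgroup.centralizer (Q : Set G)) ∧
      ∀ X : Subgroup G, X ≤ Subgroup.normalizer (Q : Set G) →
        (∀ n ∈ Subgroup.normalizer (Q : Set G), X.map (MulAut.conj n).toMonoidHom = X) →
        Q ⊔ Subgroup.centralizer (Q : Set G) ≤ X → (∃ k : ℕ, (Q ⊔ Subgroup.centralizer (Q : Set G)).relIndex X = p ^ k) →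
        X = Q ⊔ Subgroup.centralizer (Q : Set G))) :
    ∃ Q : Subgroup G, cr Q ∧ (∀ R : Subgroup G, cr R → Q ≤ R) ∧ (∀ x ∈ (P : Subgroup G), Q.map (MulAut.conj x).toMonoidHom = Q) ∧
      ∀ A : Subgroup G, A ≤ (P : Subgroup G) → ∀ g : G, A.map (MulAut.conj g).toMonoidHom ≤ (P : Subgroup G) →
        ∃ h ∈ Subgroup.normalizer (Q : Set G), ∃ c ∈ Subgroup.centralizer (A : Set G), g = h * c := by
  have hst := stab_of_free hp hfree
  obtain ⟨Q, hQP, hPQ, hfus, hCQ, hmax⟩ := stab_constrained hp hst P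
  have hfus' := fusIn_iff_single.1 hfus
  have hP := SylIn.ofSylow P
  obtain ⟨C, hC⟩ : ∃ C, C = Subgroup.centralizer (Q : Set G) := ⟨_, rfl⟩
  obtain ⟨N, hN⟩ : ∃ N, N = Subgroup.normalizer (Q : Set G) := ⟨_, rfl⟩
  have hQC : Q ⊔ C ≤ N := by
    rw [hC, hN]; exact sup_le le_normalizer (Subgroup.centralizer_le_normalizer _)
  have hCN : C ≤ N := le_sup_right.trans hQC
  have hPN : (P : Subgroup G) ≤ N := by rw [hN]; exact hPQ
  have hPsN : SylIn p (P : Subgroup G) N := hP.mono hPN le_top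
  have hNC : N ≤ Subgroup.normalizer (C : Set G) := by
    intro n hn
    rw [mem_nrm, hC, cj_centralizer]
    rw [hN] at hn
    rw [cj_of_mem_nrm hn]
  have hPC : SylIn p ((P : Subgroup G) ⊓ C) C := hPsN.inf_normal hCN hNC
  have hPCQ : (P : Subgroup G) ⊓ C = Q ⊓ C := by
    apply le_antisymm
    · refine le_inf ?_ inf_le_right
      rw [hC]; exact hCQ
    · exact inf_le_inf_right _ hQP
  have hcrQ : cr Q := by
    rw [hcr]
    refine ⟨hQP, ?_, ?_⟩
    · rw [← hC]
      obtain ⟨T, hT⟩ := hPC.toSylow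
      refine ⟨T, ?_⟩
      rw [hT, map_subgroupOf_eq_of_le inf_le_right, hPCQ]
    · intro X hXN hXn hQCX hidx
      rw [← hC] at hQCX hidx ⊢
      rw [← hN] at hXN hXn
      have hNX : N ≤ Subgroup.normalizer (X : Set G) := by
        intro n hn
        rw [mem_nrm]
        exact hXn n hn
      obtain ⟨T, hT⟩ : ∃ T, T = (P : Subgroup G) ⊓ X := ⟨_, rfl⟩
      have hTX : SylIn p T X := by rw [hT]; exact hPsN.inf_normal hXN hNX
      have hQT : Q ≤ T := by rw [hT]; exact le_inf hQP (le_sup_left.trans hQCX)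
      have hTP : T ≤ (P : Subgroup G) := by rw [hT]; exact inf_le_left
      have hPT : (P : Subgroup G) ≤ Subgroup.normalizer (T : Set G) := by
        intro x hx
        rw [mem_nrm, hT, cj_inf, cj_of_mem hx, cj_of_mem_nrm (hNX (hPN hx))]
      -- X = T C
      have hXTC : X ≤ T ⊔ (Q ⊔ C) := by
        obtain ⟨k, hk⟩ := hidx
        have h1 : (T ⊔ (Q ⊔ C)).relIndex X ∣ p ^ k := by
          rw [← hk]; exact relIndex_dvd_of_le_left _ le_sup_right
        have h2 : (T ⊔ (Q ⊔ C)).relIndex X ∣ T.relIndex X := relIndex_dvd_of_le_left _ le_sup_left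
        rw [← relIndex_eq_one]
        obtain ⟨j, -, hj⟩ := (Nat.dvd_prime_pow (Fact.out : p.Prime)).1 h1
        rcases Nat.eq_zero_or_pos j with h0 | h0
        · rw [hj, h0, pow_zero]
        · exfalso
          apply hTX.idx
          refine Dvd.dvd.trans ?_ h2
          rw [hj]; exact dvd_pow_self p h0.ne'
      -- the complement in `C`
      obtain ⟨TC, hTC⟩ := hPC.toSylow
      have hcentral : ∀ x ∈ (TC : Subgroup C), ∀ y : C, x * y = y * x := by
        intro x hx y
        rw [hTC] at hx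
        have h1 : (x : G) ∈ (P : Subgroup G) ⊓ C := hx
        rw [hPCQ] at h1
        have h2 : (y : G) ∈ Subgroup.centralizer (Q : Set G) := by rw [← hC]; exact y.2
        rw [mem_centralizer_iff] at h2
        exact Subtype.ext (h2 x h1.1)
      have hcomp := exists_compl TC hcentral
      obtain ⟨K, hK⟩ : ∃ K, K = (Cfsg.pPrimeCore p C).map C.subtype := ⟨_, rfl⟩
      have hCK : C ≤ Q ⊔ K := by
        have h1 := congrArg (Subgroup.map C.subtype) hcomp
        rw [Subgroup.map_sup, hTC, map_subgroupOf_eq_of_le inf_le_right, ← MonoidHom.range_eq_map, range_subtype, ← hK,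
          hPCQ] at h1
        rw [← h1]
        exact sup_le (inf_le_left.trans le_sup_left) le_sup_right
      have hKC : K ≤ C := by rw [hK]; exact Subgroup.map_subtype_le _
      have hNK : N ≤ Subgroup.normalizer (K : Set G) := by
        refine hNC.trans (le_nrm_of_char ?_ hKC)
        have : K.subgroupOf C = Cfsg.pPrimeCore p C := by
          rw [hK, Subgroup.subgroupOf, Subgroup.comap_map_eq_self_of_injective C.subtype_injective]
        rw [this]
        exact CfsgLib.Cores.pPrimeCore_characteristic p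
      have hKcop : (Nat.card K).Coprime p := by
        rw [hK, Subgroup.card_map_of_injective C.subtype_injective]
        exact CfsgLib.Cores.pPrimeCore_coprime p
      have hPK : (P : Subgroup G) ⊓ K = ⊥ := inf_eq_bot_of_pprime P.2 hKcop
      have hfus2 : FusIn (P : Subgroup G) N {Subgroup.normalizer (T : Set G)} := by
        intro D g hD hg hgD
        have h1 : SylIn p (cj g T) X := by
          have := hTX.cj g
          rwa [cj_of_mem_nrm (hNX hg)] at this
        obtain ⟨x, hx, hx'⟩ := hTX.exists_conj h1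
        rw [← cj_mul] at hx'
        have hxg : x * g ∈ Subgroup.normalizer (T : Set G) := mem_nrm.2 hx'
        have hTK : X ≤ T ⊔ K := hXTC.trans (sup_le le_sup_left (sup_le (hQT.trans le_sup_left)
          (hCK.trans (sup_le (hQT.trans le_sup_left) le_sup_right))))
        obtain ⟨k, hk, t, ht, hkt⟩ := mem_sup_of_nrm ((hTP.trans hPN).trans hNK) (hTK (inv_mem hx))
        obtain ⟨n, hn⟩ : ∃ n, n = t * (x * g) := ⟨_, rfl⟩
        have hgn : g = k * n := by rw [hn, ← mul_assoc, ← hkt]; group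
        have hnT : n ∈ Subgroup.normalizer (T : Set G) := by
          rw [hn]; exact mul_mem (le_normalizer ht) hxg
        have hPKN : (P : Subgroup G) ⊔ K ≤ N := sup_le hPN (hKC.trans hCN)
        have hnN : n ∈ N := by
          have : n = k⁻¹ * g := by rw [hgn]; group
          rw [this]
          exact mul_mem (inv_mem (hKC.trans hCN hk)) hg
        have h2 : cj n D ≤ ((P : Subgroup G) ⊔ K) ⊓ Subgroup.normalizer (T : Set G) := by
          refine le_inf ?_ ?_
          · have e : cj n D = cj k⁻¹ (cj g D) := by rw [hgn, cj_mul, cj_inv_cj]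
            rw [e]
            refine (cj_mono (hgD.trans (le_sup_left (b := K)))).trans ?_
            rw [cj_of_mem ((le_sup_right (a := (P : Subgroup G))) (inv_mem hk))]
          · refine (cj_mono (hD.trans hPT)).trans ?_
            rw [cj_of_mem hnT]
        have h3 : SylIn p (P : Subgroup G) (((P : Subgroup G) ⊔ K) ⊓ Subgroup.normalizer (T : Set G)) :=
          hP.mono (le_inf le_sup_left hPT) le_top
        obtain ⟨m, hm, hm'⟩ := h3.exists_conj_le (isPGroup_cj (P.2.to_le hD)) h2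
        rw [← cj_mul] at hm'
        -- k m⁻¹ = k' s
        have h4 : k * m⁻¹ ∈ (P : Subgroup G) ⊔ K := mul_mem ((le_sup_right (a := (P : Subgroup G))) hk) (inv_mem hm.1)
        obtain ⟨k', hk', s, hs, hks⟩ := mem_sup_of_nrm (hPN.trans hNK) h4
        have hy : s * m * n ∈ Subgroup.normalizer (T : Set G) := mul_mem (mul_mem (hPT hs) hm.2) hnT
        have hgy : g = k' * (s * m * n) := by
          rw [hgn]
          calc k * n = (k * m⁻¹) * (m * n) := by group
            _ = _ := by rw [hks]; group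
        have hyP : cj (s * m * n) D ≤ (P : Subgroup G) := by
          rw [mul_assoc, cj_mul]
          refine (cj_mono hm').trans ?_
          rw [cj_of_mem hs]
        refine reach_centralizing hD (Reach.single (P := FStep _ _) ⟨hD, hyP, Or.inl ⟨_, rfl, hy⟩⟩) ?_
        rw [← agree_iff]
        intro d hd
        obtain ⟨e, he⟩ : ∃ e, e = (s * m * n) * d * (s * m * n)⁻¹ := ⟨_, rfl⟩
        have heP : e ∈ (P : Subgroup G) := by rw [he]; exact hyP (conj_mem_cj hd)
        have h5 : k' * e * k'⁻¹ ∈ (P : Subgroup G) := by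
          have : k' * e * k'⁻¹ = g * d * g⁻¹ := by rw [he, hgy]; group
          rw [this]; exact hgD (conj_mem_cj hd)
        have h6 : k' * (e * k'⁻¹ * e⁻¹) ∈ (P : Subgroup G) ⊓ K := by
          refine ⟨?_, mul_mem hk' ((mem_normalizer_iff.1 (hNK (hPN heP)) _).1 (inv_mem hk'))⟩
          have : k' * (e * k'⁻¹ * e⁻¹) = k' * e * k'⁻¹ * e⁻¹ := by group
          rw [this]
          exact (P : Subgroup G).mul_mem h5 ((P : Subgroup G).inv_mem heP)
        rw [hPK, mem_bot] at h6
        have h7 : k' * e * k'⁻¹ = e := by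
          calc k' * e * k'⁻¹ = k' * (e * k'⁻¹ * e⁻¹) * e := by group
            _ = e := by rw [h6, one_mul]
        rw [← he, ← h7, he, hgy]
        group
      have hT2 : T = Q := by
        refine hmax T hQT hTP hPT ?_
        refine FusIn.bind hfus ?_
        rintro M hM
        rw [Set.mem_singleton_iff] at hM
        rw [hM, ← hN]
        exact hfus2
      apply le_antisymm _ hQCX
      rw [hT2] at hXTC
      exact hXTC.trans (sup_le le_sup_left le_rfl)
  refine ⟨Q, hcrQ, ?_, ?_, ?_⟩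
  · intro R hR
    rw [hcr] at hR
    obtain ⟨hRP, ⟨T, hT⟩, hRad⟩ := hR
    obtain ⟨CR, hCR⟩ : ∃ CR, CR = Subgroup.centralizer (R : Set G) := ⟨_, rfl⟩
    obtain ⟨NR, hNR⟩ : ∃ NR, NR = Subgroup.normalizer (R : Set G) := ⟨_, rfl⟩
    have hTs : SylIn p (R ⊓ CR) CR := by
      rw [hCR, ← hT]
      exact SylIn.ofSylowIn T
    have hPCR : (P : Subgroup G) ⊓ CR ≤ R := by
      have h1 := hTs.eq_of_le (P.2.to_le inf_le_left) inf_le_right (inf_le_inf_right CR hRP)
      rw [h1]; exact inf_le_left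
    have hRCN : R ⊔ CR ≤ NR := by
      rw [hCR, hNR]; exact sup_le le_normalizer (Subgroup.centralizer_le_normalizer _)
    obtain ⟨Q₀, hQ₀⟩ : ∃ Q₀, Q₀ = Q ⊓ NR := ⟨_, rfl⟩
    obtain ⟨X, hX⟩ : ∃ X, X = Q₀ ⊔ (R ⊔ CR) := ⟨_, rfl⟩
    have hXN : X ≤ NR := by rw [hX, hQ₀]; exact sup_le inf_le_right hRCN
    have hRn : ∀ n ∈ NR, cj n R = R := by
      intro n hn
      rw [hNR] at hn
      exact cj_of_mem_nrm hn
    have hCRn : ∀ n ∈ NR, cj n CR = CR := by
      intro n hn
      rw [hCR, cj_centralizer, hRn n hn]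
    have hXn : ∀ n ∈ NR, cj n X = X := by
      intro n hn
      obtain ⟨h, hh, hhn⟩ := hfus' (R : Set G) n (mem_top _) hRP (by
        rintro _ ⟨a, ha, rfl⟩
        have := hRn n hn
        apply hRP
        rw [← this]
        exact conj_mem_cj ha)
      have hcn : h⁻¹ * n ∈ CR := by
        rw [hCR]
        exact agree_iff.1 hhn
      have hhR : h ∈ NR := by
        have h1 : h = n * (h⁻¹ * n)⁻¹ := by group
        rw [h1]
        exact mul_mem hn (inv_mem (hRCN (le_sup_right (a := R) hcn)))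
      have h2 : cj h X = X := by
        rw [hX, hQ₀, cj_sup, cj_sup, cj_inf, cj_of_mem_nrm hh, cj_of_mem hhR, hRn h hhR, hCRn h hhR]
      have h3 : cj (h⁻¹ * n) X = X := cj_of_mem (by
        rw [hX]; exact (le_sup_right (a := Q₀)) ((le_sup_right (a := R)) hcn))
      have h4 : n = h * (h⁻¹ * n) := by group
      rw [h4, cj_mul, h3, h2]
    have hNRC : NR ≤ Subgroup.normalizer ((R ⊔ CR : Subgroup G) : Set G) := by
      intro n hn
      rw [mem_nrm, cj_sup, hRn n hn, hCRn n hn]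
    have hidx : ∃ k : ℕ, (R ⊔ CR).relIndex X = p ^ k := by
      have hle : R ⊔ CR ≤ X := by rw [hX]; exact le_sup_right
      haveI hn : ((R ⊔ CR).subgroupOf X).Normal := by
        rw [normal_subgroupOf_iff_le_normalizer hle]
        exact hXN.trans hNRC
      have hpg : IsPGroup p (X ⧸ (R ⊔ CR).subgroupOf X) := by
        intro y
        obtain ⟨y, rfl⟩ := QuotientGroup.mk'_surjective _ y
        obtain ⟨y, hy⟩ := y
        have hy' := hy
        rw [hX] at hy'
        obtain ⟨c, hc, q, hq, hcq⟩ := mem_sup_of_nrm (T := Q₀) (K := R ⊔ CR)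
          ((by rw [hQ₀]; exact inf_le_right : Q₀ ≤ NR).trans hNRC) hy'
        have hqQ : q ∈ Q := by rw [hQ₀] at hq; exact hq.1
        obtain ⟨j, hj⟩ := P.2 ⟨q, hQP hqQ⟩
        have hj' : q ^ p ^ j = 1 := congrArg Subtype.val hj
        refine ⟨j, ?_⟩
        have hqX : q ∈ X := by rw [hX]; exact (le_sup_left (b := R ⊔ CR)) hq
        have hcX : c ∈ X := hle hc
        have e1 : (⟨y, hy⟩ : X) = ⟨c, hcX⟩ * ⟨q, hqX⟩ := Subtype.ext hcq
        have e2 : QuotientGroup.mk' ((R ⊔ CR).subgroupOf X) (⟨c, hcX⟩ : X) = 1 :=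
          (QuotientGroup.eq_one_iff _).2 hc
        have e3 : (⟨q, hqX⟩ : X) ^ p ^ j = 1 := Subtype.ext hj'
        rw [e1, map_mul, e2, one_mul, ← map_pow, e3, map_one]
      obtain ⟨k, hk⟩ := IsPGroup.iff_card.1 hpg
      exact ⟨k, hk⟩
    have hXeq := hRad X (by rw [← hNR]; exact hXN) (by
      intro n hn
      rw [← hNR] at hn
      exact hXn n hn) (by rw [← hCR, hX]; exact le_sup_right) (by rw [← hCR]; exact hidx)
    rw [← hCR] at hXeq
    have hQ₀R : Q₀ ≤ R := by
      intro q hq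
      have h1 : q ∈ R ⊔ CR := by
        rw [← hXeq, hX]
        exact (le_sup_left (b := R ⊔ CR)) hq
      have hqP : q ∈ (P : Subgroup G) := by rw [hQ₀] at hq; exact hQP hq.1
      have hRCR : R ≤ Subgroup.normalizer (CR : Set G) := by
        intro r hr
        rw [mem_nrm]
        apply hCRn
        rw [hNR]; exact le_normalizer hr
      obtain ⟨c, hc, r, hr, hcr'⟩ := mem_sup_of_nrm hRCR h1
      have hcP : c ∈ (P : Subgroup G) := by
        have : c = q * r⁻¹ := by rw [hcr']; group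
        rw [this]
        exact mul_mem hqP (inv_mem (hRP hr))
      rw [hcr']
      exact mul_mem (hPCR ⟨hcP, hc⟩) hr
    by_contra hQR
    have hlt : R < R ⊔ Q := by
      refine lt_of_le_of_ne le_sup_left fun h => hQR ?_
      rw [h]; exact le_sup_right
    have h1 := lt_nrm_inf (P.2.to_le (sup_le hRP hQP)) hlt
    obtain ⟨y, ⟨hy1, hy2⟩, hyR⟩ := SetLike.exists_of_lt h1
    have hRQ : R ≤ Subgroup.normalizer (Q : Set G) := hRP.trans hPQ
    obtain ⟨q, hq, r, hr, hqr⟩ := mem_sup_of_nrm hRQ hy1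
    apply hyR
    have hqN : q ∈ NR := by
      have : q = y * r⁻¹ := by rw [hqr]; group
      rw [this, hNR]
      exact mul_mem hy2 (inv_mem (le_normalizer hr))
    rw [hqr]
    refine mul_mem (hQ₀R ?_) hr
    rw [hQ₀]
    exact ⟨hq, hqN⟩
  · intro x hx
    have := mem_nrm.1 (hPQ hx)
    exact this
  · intro A hA g hg
    obtain ⟨x, hx, hxa⟩ := hfus' (A : Set G) g (mem_top _) hA (by
      rintro _ ⟨a, ha, rfl⟩
      exact hg ⟨a, ha, rfl⟩)
    refine ⟨x, hx, x⁻¹ * g, ?_, by group⟩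
    rw [mem_centralizer_iff]
    intro a ha
    have := hxa a ha
    calc a * (x⁻¹ * g) = x⁻¹ * (x * a * x⁻¹) * g := by group
      _ = (x⁻¹ * g) * a := by rw [this]; group

end Cfsg.Agent.S1953
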