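import Cfsg.Statements.S1989
import Cfsg.Agent.LibQd9D

set_option autoImplicit false
universe u
open Cfsg

namespace Cfsg.Agent.S1989

open CfsgLib.Qd9 CfsgLib.Stab9 CfsgLib.SecH12

/-- Let p be an odd prime and G a finite group. Then Qd(p) (the natural semidirect product of an elementary abelian group of order p² by SL₂(p)) is not involved in G if and only if, in every section K/R of G and for every Sylow p-subgroup T of K/R, the lower K-infinity subgroup of T controls strong fusion in K/R. -/
theorem result {G : Type u} [Group G] [Finite G] {p : ℕ} [Fact p.Prime] (hp : p ≠ 2) : ¬ Cfsg.Involves ↥(Cfsg.qd p) G ↔ ∀ (K R : Subgroup G) [hR : (R.subgroupOf K).Normal], ∀ T : Sylow p (↥K ⧸ R.subgroupOf K), Cfsg.ControlsStrongFusion p (Cfsg.inducedFunctor (G := (↥K ⧸ R.subgroupOf K)) Cfsg.kInfLower (T : Subgroup (↥K ⧸ R.subgroupOf K))) := by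
  rw [involves_iff]
  constructor
  · intro h K R hR T
    refine CfsgLib.Kfun9.K_controls (Or.inl rfl) (fun K' R' _ => ?_) T
    rw [stab_iff]
    apply stab_of_qd_free hp
    intro h1
    exact h (h1.trans (((IsSec.quotient _).trans (IsSec.subgroup _)).trans
      ((IsSec.quotient _).trans (IsSec.subgroup _))))
  · intro h h1
    obtain ⟨K, R, hR, ⟨e⟩⟩ := involves_iff.2 h1
    obtain ⟨T, hT⟩ := exists_S0 e
    have h2 := h K R T
    rw [hT, kInf_S0] at h2
    exact top_fail e h2

end Cfsg.Agent.S1989
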