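import Cfsg.Statements.S1999
import Cfsg.Agent.LibNO9L

set_option autoImplicit false
open Cfsg

namespace Cfsg.Agent.S1999

/-- Let G be a finite group. The symmetric group of degree 4 is not involved in G if and only if, in every section K/R of G, the pair of conjugacy functors {Z, J_e} controls strong fusion (for the prime 2): here Z(P) is the centre and J_e(P) the subgroup generated by the elementary abelian subgroups of P of largest order, and control by the pair means that 2-fusion of tuples inside a Sylow 2-subgroup T of the section is generated, staying inside T, by conjugation inside N(Z(T)) and N(J_e(T)). -/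
theorem result {G : Type*} [Group G] [Finite G] : ¬ Cfsg.Involves (Equiv.Perm (Fin 4)) G ↔ ∀ (K R : Subgroup G) [hR : (R.subgroupOf K).Normal], Cfsg.FamilyControlsStrongFusionIn 2 ({fun P : Subgroup (↥K ⧸ R.subgroupOf K) => P ⊓ Subgroup.centralizer ((P : Subgroup (↥K ⧸ R.subgroupOf K)) : Set (↥K ⧸ R.subgroupOf K)), fun P : Subgroup (↥K ⧸ R.subgroupOf K) => Cfsg.thompsonSubgroupOf 2 P} : Set (Subgroup (↥K ⧸ R.subgroupOf K) → Subgroup (↥K ⧸ R.subgroupOf K))) ⊤ := by
  have hset : ∀ (H : Type _) [Group H], ({fun P : Subgroup H => P ⊓ Subgroup.centralizer ((P : Subgroup H) : Set H), fun P : Subgroup H => Cfsg.thompsonSubgroupOf 2 P} : Set (Subgroup H → Subgroup H)) = CfsgLib.SecH12.indSet CfsgLib.NO9.fam2 H := by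
    intro H _
    ext f
    constructor
    · rintro (rfl | rfl)
      · exact ⟨@CfsgLib.NO9.fZ, Or.inl rfl, by ext1 P; exact CfsgLib.NO9.induced_fZ P⟩
      · exact ⟨@CfsgLib.NO9.fJ, Or.inr rfl, rfl⟩
    · rintro ⟨W, rfl | rfl, rfl⟩
      · left; ext1 P; exact CfsgLib.NO9.induced_fZ P
      · right; rfl
  constructor
  · intro h K R hR
    rw [hset]
    apply CfsgLib.NO9.fam_s4
    intro h1
    rw [CfsgLib.Qd9.involves_iff] at h h1
    exact h (h1.trans ((CfsgLib.SecH12.IsSec.quotient _).trans (CfsgLib.SecH12.IsSec.subgroup _)))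
  · intro h h1
    obtain ⟨K, R, hR, ⟨e⟩⟩ := h1
    obtain ⟨e2⟩ := CfsgLib.KQd.s2761
    have h2 := h K R
    rw [hset] at h2
    exact CfsgLib.NO9.fam_fail (e.trans e2.symm) CfsgLib.NO9.fam2_char h2

end Cfsg.Agent.S1999
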