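import Cfsg.Statements.S2794
import Cfsg.Agent.LibQd9D
import Cfsg.Agent.S0653

set_option autoImplicit false
open Cfsg

namespace Cfsg.Agent.S2794

open CfsgLib.Qd9 CfsgLib.Stab9 CfsgLib.SecH12

/-- For an odd prime p and a finite group G, the group Qd(p) is not involved in G if and only if in every section K/R of G, for every Sylow p-subgroup S* of K/R, the centre of J(S*) (J generated by the abelian subgroups of largest order) controls strong fusion in K/R. -/
theorem result {G : Type*} [Group G] [Finite G] {p : ℕ} [Fact p.Prime] (hp : p ≠ 2) : ¬ Cfsg.Involves ↥(Cfsg.qd p) G ↔ ∀ (K R : Subgroup G) [hR : (R.subgroupOf K).Normal], ∀ T : Sylow p (K ⧸ R.subgroupOf K), Cfsg.ControlsStrongFusion p (Cfsg.centerThompsonAOf (T : Subgroup (K ⧸ R.subgroupOf K))) := by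
  rw [involves_iff]
  constructor
  · intro h K R hR T
    rw [← induced_ZJ]
    refine CfsgLib.Kfun9.ctl_of_sections ZJ_char (fun H _ _ hH hc T => ?_) T
    rw [induced_ZJ]
    have hst : Stab p H := stab_of_qd_free hp fun h1 =>
      h (h1.trans (hH.trans ((IsSec.quotient _).trans (IsSec.subgroup _))))
    haveI := Cfsg.Agent.S0653.result hp hc (fun P _ hP => stab_normal hst P hP) T
    infer_instance
  · intro h h1
    obtain ⟨K, R, hR, ⟨e⟩⟩ := involves_iff.2 h1
    obtain ⟨T, hT⟩ := exists_S0 e
    have h2 := h K R T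
    rw [hT] at h2
    exact zj_fail e h2

end Cfsg.Agent.S2794
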