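import Cfsg.Statements.S2000
import Cfsg.Agent.LibNO9L
import Cfsg.Agent.S2794
import Cfsg.Agent.S0653

set_option autoImplicit false
universe u
open Cfsg

namespace Cfsg.Agent.S2000

/-- Let p be a prime and G a finite group. Then Qd(p) (the natural semidirect product of an elementary abelian group of order p² by SL₂(p)) is not involved in G if and only if there is a set 𝓦 of isomorphism-invariant p-group functors (each nontrivial on nontrivial finite p-groups and carried onto W(R) by every isomorphism from a finite p-group Q onto R, hence with characteristic values on finite p-groups) whose induced conjugacy functors control strong fusion in every section of G. -/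
theorem result {G : Type u} [Group G] [Finite G] {p : ℕ} [Fact p.Prime] : ¬ Cfsg.Involves ↥(Cfsg.qd p) G ↔ ∃ 𝓦 : Set (∀ (Q : Type u) [Group Q], Subgroup Q), (∀ W ∈ 𝓦, Cfsg.IsCharPFunctor.{u} p W) ∧ ∀ (K R : Subgroup G) [hR : (R.subgroupOf K).Normal], Cfsg.FamilyControlsStrongFusionIn p ((fun W => Cfsg.inducedFunctor (G := (↥K ⧸ R.subgroupOf K)) W) '' 𝓦) ⊤ := by
  constructor
  · intro h
    by_cases hp : p = 2
    · subst hp
      refine ⟨CfsgLib.NO9.fam2, CfsgLib.NO9.fam2_char, fun K R hR => ?_⟩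
      apply CfsgLib.NO9.fam_s4
      intro h1
      apply h
      obtain ⟨e2⟩ := CfsgLib.KQd.s2761
      have h2 := CfsgLib.Fus21.involves_equiv e2.symm h1
      rw [CfsgLib.Qd9.involves_iff] at h2 ⊢
      exact h2.trans ((CfsgLib.SecH12.IsSec.quotient _).trans (CfsgLib.SecH12.IsSec.subgroup _))
    · have h𝓦 : ∀ W' ∈ ({@CfsgLib.Qd9.ZJ.{u}} : Set (∀ (Q : Type u) [Group Q], Subgroup Q)), Cfsg.IsCharPFunctor.{u} p W' := by
        rintro W' rfl; exact CfsgLib.Qd9.ZJ_char
      refine ⟨_, h𝓦, fun K R hR => ?_⟩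
      refine CfsgLib.FusionH12f.main_fusion h𝓦 _ (↥K ⧸ R.subgroupOf K) le_rfl (fun H _ hH hc => ?_)
      haveI := hH.finite
      obtain ⟨T⟩ : Nonempty (Sylow p H) := inferInstance
      have hT := CfsgLib.FusionH12.SylIn.ofSylow T
      rw [CfsgLib.FusionH12c.famFusion_iff' (CfsgLib.SecH12.indSet_isConj h𝓦 _) hT]
      intro D g hD _ hgD
      refine CfsgLib.FusionH12.Reach.single
        ⟨hD, hgD, Or.inl ⟨_, ⟨_, ⟨@CfsgLib.Qd9.ZJ.{u}, rfl, rfl⟩, rfl⟩, Subgroup.mem_top _, ?_⟩⟩
      have hst : CfsgLib.Stab9.Stab p H := CfsgLib.Qd9.stab_of_qd_free hp fun h1 => by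
        rw [CfsgLib.Qd9.involves_iff] at h
        exact h (h1.trans (hH.trans ((CfsgLib.SecH12.IsSec.quotient _).trans (CfsgLib.SecH12.IsSec.subgroup _))))
      have h5 := Cfsg.Agent.S0653.result hp hc (fun P _ hP => CfsgLib.Qd9.stab_normal hst P hP) T
      have h6 : (Cfsg.centerThompsonAOf (T : Subgroup H)).Normal := by infer_instance
      rw [← CfsgLib.Qd9.induced_ZJ] at h6
      rw [Subgroup.normalizer_eq_top]
      exact Subgroup.mem_top _
  · rintro ⟨𝓦, h𝓦, h⟩ h1
    obtain ⟨K, R, hR, ⟨e⟩⟩ := h1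
    exact CfsgLib.NO9.fam_fail e h𝓦 (h K R)

end Cfsg.Agent.S2000
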