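import Cfsg.Statements.S2004
import Cfsg.Agent.LibQd9B

set_option autoImplicit false
open Cfsg

namespace Cfsg.Agent.S2004

open CfsgLib.Qd9 CfsgLib.Stab9 CfsgLib.SecH12

/-- Let p be an odd prime and G a finite group such that SL₂(p) is not involved in N_G(P) for any nonidentity p-subgroup P of G. Then every section of G is p-stable in the normalizer form: in each section, whenever an element of the normalizer of a p-subgroup Q acts quadratically on Q, its image in N(Q)/C(Q) lies in O_p(N(Q)/C(Q)). -/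
theorem result {G : Type*} [Group G] [Finite G] {p : ℕ} [Fact p.Prime] (hp : p ≠ 2) (h : ∀ P : Subgroup G, IsPGroup p ↥P → P ≠ ⊥ → ¬ Cfsg.Involves (Matrix.SpecialLinearGroup (Fin 2) (ZMod p)) ↥(Subgroup.normalizer ((P : Subgroup G) : Set G))) : ∀ (K R : Subgroup G) [hR : (R.subgroupOf K).Normal], Cfsg.IsNormalizerPStable p (↥K ⧸ R.subgroupOf K) := by
  intro K R _
  rw [stab_iff]
  apply stab_of_SL2_free hp
  intro P' hP' hPb hsec
  obtain ⟨P, h1, h2, h3⟩ := exists_lift (QuotientGroup.mk' (R.subgroupOf K)) (QuotientGroup.mk'_surjective _) hP'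
  have hPne : P.map K.subtype ≠ ⊥ := by
    intro h
    rw [Subgroup.map_eq_bot_iff_of_injective _ K.subtype_injective] at h
    rw [h, Subgroup.map_bot] at h2
    exact hPb h2.symm
  refine h (P.map K.subtype) (h1.map _) hPne ?_
  rw [involves_iff]
  refine hsec.trans ?_
  -- the normalizer in the section is a section of the normalizer
  let N := Subgroup.normalizer (P : Set ↥K)
  let N' := Subgroup.normalizer (P' : Set (↥K ⧸ R.subgroupOf K))
  let f := QuotientGroup.mk' (R.subgroupOf K)
  let M : Subgroup ↥K := N ⊓ N'.comap f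
  let α : M →* N' := (f.comp M.subtype).codRestrict N' fun x => x.2.2
  have hα : Function.Surjective α := by
    rintro ⟨y, hy⟩
    obtain ⟨x, hx, rfl⟩ := h3 hy
    exact ⟨⟨x, hx, hy⟩, rfl⟩
  let β : M →* ↥(Subgroup.normalizer ((P.map K.subtype : Subgroup G) : Set G)) :=
    (K.subtype.comp M.subtype).codRestrict _ fun x => by
      have hx : (x : ↥K) ∈ N := x.2.1
      change ((x : ↥K) : G) ∈ _
      rw [Subgroup.mem_normalizer_iff]
      intro g
      have hx' := Subgroup.mem_normalizer_iff.1 hx
      constructor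
      · rintro ⟨y, hy, rfl⟩
        exact ⟨x * y * (x : ↥K)⁻¹, (hx' y).1 hy, rfl⟩
      · rintro ⟨y, hy, hyg⟩
        have : g = (((x : ↥K)⁻¹ * y * (x : ↥K) : ↥K) : G) := by
          have h4 : (y : G) = (x : ↥K) * g * ((x : ↥K) : G)⁻¹ := hyg
          rw [Subgroup.coe_mul, Subgroup.coe_mul, h4, Subgroup.coe_inv]; group
        refine ⟨(x : ↥K)⁻¹ * y * (x : ↥K), ?_, this.symm⟩
        rw [SetLike.mem_coe, hx']
        have : (x : ↥K) * ((x : ↥K)⁻¹ * y * (x : ↥K)) * (x : ↥K)⁻¹ = y := by group
        rw [this]; exact hy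
  have hβ : Function.Injective β := by
    intro a b hab
    have h4 : ((a : ↥K) : G) = ((b : ↥K) : G) :=
      congrArg (Subgroup.subtype (Subgroup.normalizer ((P.map K.subtype : Subgroup G) : Set G))) hab
    exact Subtype.ext (Subtype.ext h4)
  exact IsSec.of_inj_surj β hβ α hα

end Cfsg.Agent.S2004
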