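import Cfsg.Statements.S2202
import Mathlib
import Cfsg.Agent.LibH6CaI

set_option autoImplicit false
open Cfsg

namespace Cfsg.Agent.S2202

/-- Finite groups in which the centralizer of every involution is abelian. Let G be a finite group of even order in which the centralizer of every element of order 2 is abelian. Then the Sylow 2-subgroups of G are cyclic, or a Sylow 2-subgroup of G is normal, or G is isomorphic to the direct product of SL₂(F) for a finite field F of characteristic two and an abelian group of odd order. -/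
theorem result {G : Type*} [Group G] [Finite G] (heven : Even (Nat.card G)) (h : ∀ t : G, orderOf t = 2 → IsMulCommutative ↥(Subgroup.centralizer ({t} : Set G))) :
    (∀ P : Sylow 2 G, IsCyclic ↥P) ∨ (∀ P : Sylow 2 G, (P : Subgroup G).Normal) ∨
    (∃ (F : Type) (_ : Field F) (_ : Fintype F) (A : Type) (_ : CommGroup A) (_ : Finite A), CharP F 2 ∧ Odd (Nat.card A) ∧ Nonempty (G ≃* Matrix.SpecialLinearGroup (Fin 2) F × A)) := by
  classical
  haveI : Fact (Nat.Prime 2) := ⟨Nat.prime_two⟩
  by_cases hcyc : ∀ P : Sylow 2 G, IsCyclic ↥P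
  · exact Or.inl hcyc
  by_cases hnor : ∀ P : Sylow 2 G, (P : Subgroup G).Normal
  · exact Or.inr (Or.inl hnor)
  right; right
  push Not at hcyc hnor
  obtain ⟨P, hP⟩ := hcyc
  obtain ⟨Q, hQ⟩ := hnor
  have X : CfsgLib.H6Ca.Ctx G := by
    refine ⟨?_, ?_, ?_⟩
    · intro t ht a b ha hb
      have h1 := (h t ht).is_comm.comm ⟨a, Subgroup.mem_centralizer_singleton_iff.2 ha⟩
        ⟨b, Subgroup.mem_centralizer_singleton_iff.2 hb⟩
      exact congrArg Subtype.val h1
    · intro R hR
      apply hP
      have e : ↥R ≃* ↥P := Sylow.equiv R P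
      exact isCyclic_of_surjective e e.surjective
    · intro R hR
      apply hQ
      obtain ⟨g, hg⟩ := MulAction.exists_smul_eq G R Q
      have h1 : g • R = R := CfsgLib.H6Ca.smul_eq.2 (by
        change g ∈ Subgroup.normalizer ((R : Subgroup G) : Set G)
        rw [Subgroup.normalizer_eq_top_iff.2 hR]; trivial)
      rw [← hg, h1]; exact hR
  obtain ⟨F, iF, iFF, h2, h4, ⟨e⟩, hodd⟩ := CfsgLib.H6Ca.split X
  haveI : Finite (Abelianization G) := inferInstanceAs (Finite (G ⧸ commutator G))
  obtain ⟨ι, iι, n, hn, ⟨e2⟩⟩ := CommGroup.equiv_prod_multiplicative_zmod_of_finite (Abelianization G)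
  haveI : Finite ((i : ι) → Multiplicative (ZMod (n i))) := Finite.of_equiv _ e2.toEquiv
  refine ⟨F, iF, iFF, (i : ι) → Multiplicative (ZMod (n i)), inferInstance, inferInstance, CfsgLib.H6Ca.charP_two h2, ?_, ⟨e.trans ((MulEquiv.refl _).prodCongr e2)⟩⟩
  rw [← Nat.card_congr e2.toEquiv]; exact hodd

end Cfsg.Agent.S2202
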