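import Cfsg.Statements.S2231
import Cfsg.Agent.LibPCl26C

set_option autoImplicit false
open Cfsg

namespace Cfsg.Agent.S2231

open CfsgLib.PCl

/-- Let p be an odd prime and K a finite field of characteristic p. Then Qd(p) (the natural semidirect product of an elementary abelian group of order p² by SL₂(p)) is not involved in the projective special linear group PSL₂(K). -/
theorem result {p : ℕ} [Fact p.Prime] (hp : p ≠ 2) {K : Type*} [Field K] [Fintype K] [CharP K p] : ¬ Cfsg.Involves ↥(Cfsg.qd p) (Matrix.ProjectiveSpecialLinearGroup (Fin 2) K) := by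
  intro h
  have h1 : Cfsg.Involves ↥(Cfsg.qd p) (Matrix.SpecialLinearGroup (Fin 2) K) :=
    CfsgLib.Fus21.involves_of_surjective (QuotientGroup.mk' _) (QuotientGroup.mk'_surjective _) h
  haveI : Finite (Matrix.SpecialLinearGroup (Fin 2) K) := inferInstance
  have hF : Frm (K := K) (n := 2) (fun u v => u 0 * v 1 - u 1 * v 0) := by
    refine ⟨?_, ?_, ?_, ?_, ?_, ?_⟩
    · intro u v w; simp; ring
    · intro a u v; simp; ring
    · intro u v w; simp; ring
    · intro a; exact ⟨a, fun u v => by simp; ring⟩
    · intro u v huv
      linear_combination -huv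
    · intro v hv
      ext i
      fin_cases i
      · have := hv (Pi.single 1 1)
        simpa using this
      · have := hv (Pi.single 0 1)
        simpa using this
  refine not_pcl_qd hp ?_
  refine rank_one (K := K) (n := 2) hF (slToMat 2 K) (by norm_num) ?_ ?_ (trans p) trans_normal trans_ne_bot
    trans_isPGroup h1
  · intro a b hab
    exact Subtype.ext hab
  · intro g u v
    have hg : g.1 0 0 * g.1 1 1 - g.1 0 1 * g.1 1 0 = 1 := by
      rw [← Matrix.det_fin_two]; exact g.2
    change (g.1.mulVec u) 0 * (g.1.mulVec v) 1 - (g.1.mulVec u) 1 * (g.1.mulVec v) 0 = u 0 * v 1 - u 1 * v 0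
    simp only [Matrix.mulVec, dotProduct, Fin.sum_univ_two]
    linear_combination (u 0 * v 1 - u 1 * v 0) * hg

end Cfsg.Agent.S2231
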