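import Cfsg.Statements.S2232
import Cfsg.Agent.LibPCl26C

set_option autoImplicit false
open Cfsg

namespace Cfsg.Agent.S2232

open CfsgLib.PCl

/-- Let p be an odd prime, q a power of p and K a finite field with q² elements. Then Qd(p) (the natural semidirect product of an elementary abelian group of order p² by SL₂(p)) is not involved in the projective special unitary group PSU₃(q) realised over K. -/
theorem result {p : ℕ} [Fact p.Prime] (hp : p ≠ 2) {K : Type*} [Field K] [Fintype K] [CharP K p] (n : ℕ) (hn : 1 ≤ n) (hK : Fintype.card K = (p ^ n) ^ 2) : ¬ Cfsg.Involves ↥(Cfsg.qd p) (Cfsg.PSU 3 K (p ^ n)) := by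
  intro h
  have h1 : Cfsg.Involves ↥(Cfsg.qd p) (Cfsg.SU 3 K (p ^ n)) :=
    CfsgLib.Fus21.involves_of_surjective (QuotientGroup.mk' _) (QuotientGroup.mk'_surjective _) h
  have hK2 : ∀ x : K, (x ^ p ^ n) ^ p ^ n = x := by
    intro x
    rw [← pow_mul, ← pow_two, ← hK, FiniteField.pow_card]
  have hp0 : p ^ n ≠ 0 := pow_ne_zero _ (Fact.out (p := p.Prime)).ne_zero
  have hsymm : ∀ u v : Fin 3 → K, hermForm 3 K (p ^ n) v u = (hermForm 3 K (p ^ n) u v) ^ p ^ n := by
    intro u v
    unfold hermForm
    rw [sum_pow_char_pow]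
    refine Finset.sum_congr rfl fun i _ => ?_
    rw [mul_pow, hK2, mul_comm]
  have hF : Frm (K := K) (n := 3) (hermForm 3 K (p ^ n)) := by
    refine ⟨?_, ?_, ?_, ?_, ?_, ?_⟩
    · intro u v w
      simp only [hermForm, Pi.add_apply, add_mul, Finset.sum_add_distrib]
    · intro a u v
      simp only [hermForm, Pi.smul_apply, smul_eq_mul, Finset.mul_sum, mul_assoc]
    · intro u v w
      simp only [hermForm, Pi.sub_apply, sub_pow_char_pow, mul_sub, Finset.sum_sub_distrib]
    · intro a
      refine ⟨a ^ p ^ n, fun u v => ?_⟩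
      simp only [hermForm, Pi.smul_apply, smul_eq_mul, Finset.mul_sum, mul_pow, hK2]
      exact Finset.sum_congr rfl fun i _ => by ring
    · intro u v huv
      rw [hsymm, huv, zero_pow hp0]
    · intro v hv
      ext i
      have := hv (Pi.single i 1)
      simp only [hermForm] at this
      rw [Finset.sum_eq_single i (by
        intro j _ hj
        rw [Pi.single_eq_of_ne hj, zero_mul]) (by simp)] at this
      rw [Pi.single_eq_same, one_mul] at this
      exact (pow_eq_zero_iff hp0).1 this
  refine not_pcl_qd hp ?_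
  refine rank_one (K := K) (n := 3) hF ((slToMat 3 K).comp (SU 3 K (p ^ n)).subtype) le_rfl ?_ ?_ (trans p)
    trans_normal trans_ne_bot trans_isPGroup h1
  · intro a b hab
    exact Subtype.ext (Subtype.ext hab)
  · intro g u v
    exact g.2 u v

end Cfsg.Agent.S2232
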