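import Cfsg.Statements.S2247
import Mathlib
import Cfsg.Agent.LibSuz7
-- import your own Cfsg.Agent.* helpers here

set_option autoImplicit false
open Cfsg

namespace Cfsg.Agent.S2247

open Cfsg.Agent.Suz
open CfsgLib.TIConj
open scoped Pointwise

/-- In the Suzuki group with q = 2^(2m+1), m ≥ 1 (realised as the stabiliser in SL₄ of the Suzuki–Tits ovoid), the normalizer of a Sylow 2-subgroup P is a maximal subgroup and is the only maximal subgroup containing P. -/
theorem result {F : Type*} [Field F] [Fintype F] {m : ℕ} (hm : 1 ≤ m) (hF : Fintype.card F = 2 ^ (2 * m + 1)) (P : Sylow 2 ↥(Cfsg.Sz F m)) :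
    IsCoatom (Subgroup.normalizer ((P : Subgroup ↥(Cfsg.Sz F m)) : Set ↥(Cfsg.Sz F m))) ∧
    ∀ M : Subgroup ↥(Cfsg.Sz F m), IsCoatom M → (P : Subgroup ↥(Cfsg.Sz F m)) ≤ M → M = Subgroup.normalizer ((P : Subgroup ↥(Cfsg.Sz F m)) : Set ↥(Cfsg.Sz F m)) := by
  have D := Cfsg.Agent.Suz.data hm hF
  obtain ⟨k, hk⟩ := D.sylow_conj P
  -- the key statement, transported
  have key : ∀ M : Subgroup (Cfsg.Sz F m), (P : Subgroup (Cfsg.Sz F m)) ≤ M →
      M ≤ Subgroup.normalizer ((P : Subgroup (Cfsg.Sz F m)) : Set (Cfsg.Sz F m)) ∨ M = ⊤ := by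
    intro M hPM
    by_cases h : M ≤ Subgroup.normalizer ((P : Subgroup (Cfsg.Sz F m)) : Set (Cfsg.Sz F m))
    · exact Or.inl h
    · right
      obtain ⟨g, hgM, hgn⟩ := Set.not_subset.mp h
      let M' : Subgroup (Cfsg.Sz F m) := M.map (MulAut.conj k⁻¹).toMonoidHom
      have hM'U : D.Us ≤ M' := by
        intro x hx
        rw [mem_conj]
        apply hPM
        rw [hk, mem_conj]
        have e : k⁻¹ * (k⁻¹⁻¹ * x * k⁻¹) * k = x := by group
        rw [e]
        exact hx
      have hM'top : M' = ⊤ := by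
        apply D.gen_U M' hM'U (g := k⁻¹ * g * k)
        · rw [mem_conj]
          have e : k⁻¹⁻¹ * (k⁻¹ * g * k) * k⁻¹ = g := by group
          rw [e]
          exact hgM
        · intro hfix
          apply hgn
          have h1 : k⁻¹ * g * k ∈ Subgroup.normalizer (D.Us : Set (Cfsg.Sz F m)) := by
            rw [D.normalizer_Us]
            exact hfix
          change g ∈ Subgroup.normalizer ((P : Subgroup (Cfsg.Sz F m)) : Set (Cfsg.Sz F m))
          rw [← conj_eq_iff] at h1 ⊢
          rw [hk, conj_conj]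
          have e : g * k = k * (k⁻¹ * g * k) := by group
          rw [e, ← conj_conj, h1]
      rw [eq_top_iff]
      intro x _
      have h2 : k⁻¹ * x * k ∈ M' := by rw [hM'top]; exact Subgroup.mem_top _
      rw [mem_conj] at h2
      have e : k⁻¹⁻¹ * (k⁻¹ * x * k) * k⁻¹ = x := by group
      rwa [e] at h2
  have hne : Subgroup.normalizer ((P : Subgroup (Cfsg.Sz F m)) : Set (Cfsg.Sz F m)) ≠ ⊤ := by
    intro h
    have hn := Subgroup.normalizer_eq_top_iff.mp h
    have hs := D.simple
    rcases hs.eq_bot_or_eq_top_of_normal _ hn with h1 | h1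
    · rw [hk, Subgroup.map_eq_bot_iff_of_injective _ (MulAut.conj k).injective] at h1
      exact D.Us_ne_bot h1
    · have h2 : Nat.card (P : Subgroup (Cfsg.Sz F m)) = Nat.card D.Us := by rw [hk]; exact card_conj _ _
      rw [h1, D.card_Us] at h2
      have h3 : Nat.card (⊤ : Subgroup (Cfsg.Sz F m)) = Nat.card (Gp (Cfsg.suzukiOvoid F m)) := Nat.card_congr (Equiv.Set.univ _)
      rw [h3, D.card_G] at h2
      have h4 := D.q_ge
      have h5 : (2 ^ (2 * m + 1)) ^ 2 * 1 < (2 ^ (2 * m + 1)) ^ 2 * (((2 ^ (2 * m + 1)) ^ 2 + 1) * (2 ^ (2 * m + 1) - 1)) := by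
        apply Nat.mul_lt_mul_of_pos_left _ (by positivity)
        have : 1 < 2 ^ (2 * m + 1) - 1 := by omega
        nlinarith
      rw [mul_one, ← mul_assoc, h2] at h5
      exact lt_irrefl _ h5
  have hPN : (P : Subgroup (Cfsg.Sz F m)) ≤ Subgroup.normalizer ((P : Subgroup (Cfsg.Sz F m)) : Set (Cfsg.Sz F m)) :=
    Subgroup.le_normalizer
  refine ⟨⟨hne, ?_⟩, ?_⟩
  · intro M hM
    rcases key M (hPN.trans hM.le) with h | h
    · exact absurd (lt_of_lt_of_le hM h) (lt_irrefl _)
    · exact h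
  · intro M hM hPM
    rcases key M hPM with h | h
    · rcases hM.le_iff.mp h with h1 | h1
      · exact absurd h1 hne
      · exact h1.symm
    · exact absurd h hM.1

end Cfsg.Agent.S2247
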