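import Mathlib
-- Template for statement S2271 (row 2271; see /opt/grader/pristine/manifest.json for weights).
-- Copy to Cfsg/Agent/S2271.lean and replace the sorry. The statement below is byte-identical to the frozen
-- statement Cfsg.CfsgFrozen.S2271 (Cfsg/Statements/S2271.lean; the theorem Cfsg.class_product_fixed_points_not_constant_symmetric);
-- the grader kernel-checks Cfsg.Agent.S2271.result against that frozen type. Keep the theorem IN THIS FILE
-- (a `result` declared elsewhere and merely imported here is not credited); helpers may live anywhere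
-- under Cfsg/Agent/.
import Cfsg.Statements.S2271
-- import your own Cfsg.Agent.* helpers here

set_option autoImplicit false
open Cfsg

namespace Cfsg.Agent.S2271

open Equiv Finset

/-- 0/1 matrix of a permutation. -/
def MM {n : ℕ} (a : Perm (Fin n)) (x y : Fin n) : ℤ := if a x = y then 1 else 0

/-- number of agreements. -/
def FF {n : ℕ} (a b : Perm (Fin n)) : ℤ := ∑ x, ∑ y, MM a x y * MM b x y

theorem MM_conj {n : ℕ} (g a : Perm (Fin n)) (x y : Fin n) :
    MM (g * a * g⁻¹) x y = MM a (g⁻¹ x) (g⁻¹ y) := by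
  unfold MM
  congr 1
  apply propext
  simp only [Perm.mul_apply]
  constructor
  · intro h
    rw [← h]
    simp
  · intro h
    rw [h]
    simp

theorem MM_nonneg {n : ℕ} (a : Perm (Fin n)) (x y : Fin n) : 0 ≤ MM a x y := by
  unfold MM; split_ifs <;> norm_num

theorem card_fix {n : ℕ} (a b : Perm (Fin n)) :
    (Nat.card (Function.fixedPoints ⇑(a * b)) : ℤ) = FF a⁻¹ b := by
  classical
  have h1 : Nat.card (Function.fixedPoints ⇑(a * b)) =
      (Finset.univ.filter (fun x => a⁻¹ x = b x)).card := by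
    rw [← Fintype.card_subtype, ← Nat.card_eq_fintype_card]
    apply Nat.card_congr
    apply Equiv.subtypeEquivRight
    intro x
    show (a * b) x = x ↔ _
    rw [Perm.mul_apply, Perm.inv_eq_iff_eq]
    exact eq_comm
  rw [h1, Finset.card_filter]
  push_cast
  unfold FF MM
  apply Finset.sum_congr rfl
  intro x _
  rw [Finset.sum_eq_single (a⁻¹ x)]
  · by_cases h : a⁻¹ x = b x
    · rw [if_pos h, if_pos rfl, if_pos h.symm, mul_one]
    · have h' : ¬ b x = a⁻¹ x := fun h' => h h'.symm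
      rw [if_neg h, if_pos rfl, if_neg h', mul_zero]
  · intro y _ hy
    have : ¬ a⁻¹ x = y := fun h => hy h.symm
    rw [if_neg this, zero_mul]
  · intro h
    exact absurd (Finset.mem_univ _) h

theorem norm_id (a b c x y z : ℤ)
    (h1 : (a - c) * x + (b - a) * y + (c - b) * z = 0)
    (h2 : (c - b) * x + (a - c) * y + (b - a) * z = 0) :
    (a = b ∧ b = c) ∨ (x = y ∧ y = z) := by
  have h3 : (a ^ 2 + b ^ 2 + c ^ 2 - a * b - b * c - c * a) *
      (x ^ 2 + y ^ 2 + z ^ 2 - x * y - y * z - z * x) = 0 := by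
    have e : (a ^ 2 + b ^ 2 + c ^ 2 - a * b - b * c - c * a) *
      (x ^ 2 + y ^ 2 + z ^ 2 - x * y - y * z - z * x) =
      ((a - c) * x + (b - a) * y + (c - b) * z) ^ 2 +
      ((c - b) * x + (a - c) * y + (b - a) * z) ^ 2 +
      ((a - c) * x + (b - a) * y + (c - b) * z) *
      ((c - b) * x + (a - c) * y + (b - a) * z) := by ring
    rw [e, h1, h2]; ring
  rcases mul_eq_zero.mp h3 with h | h
  · left
    have : (a - b) ^ 2 + (b - c) ^ 2 + (c - a) ^ 2 = 0 := by linarith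
    constructor
    · nlinarith [sq_nonneg (a - b), sq_nonneg (b - c), sq_nonneg (c - a)]
    · nlinarith [sq_nonneg (a - b), sq_nonneg (b - c), sq_nonneg (c - a)]
  · right
    have : (x - y) ^ 2 + (y - z) ^ 2 + (z - x) ^ 2 = 0 := by linarith
    constructor
    · nlinarith [sq_nonneg (x - y), sq_nonneg (y - z), sq_nonneg (z - x)]
    · nlinarith [sq_nonneg (x - y), sq_nonneg (y - z), sq_nonneg (z - x)]

theorem keyL {n : ℕ} (P Q : Fin n → Fin n → ℤ) (i j k l : Fin n)
    (hij : i ≠ j) (hik : i ≠ k) (hil : i ≠ l) (hjk : j ≠ k) (hjl : j ≠ l) (hkl : k ≠ l)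
    (V1 V2 V3 R : Fin n → Fin n)
    (a1 : V1 i = j) (a2 : V1 j = i) (a3 : V1 k = l) (a4 : V1 l = k)
    (a5 : ∀ x, x ≠ i → x ≠ j → x ≠ k → x ≠ l → V1 x = x)
    (b1 : V2 i = k) (b2 : V2 j = l) (b3 : V2 k = i) (b4 : V2 l = j)
    (b5 : ∀ x, x ≠ i → x ≠ j → x ≠ k → x ≠ l → V2 x = x)
    (c1 : V3 i = l) (c2 : V3 j = k) (c3 : V3 k = j) (c4 : V3 l = i)
    (c5 : ∀ x, x ≠ i → x ≠ j → x ≠ k → x ≠ l → V3 x = x)
    (d1 : R i = i) (d2 : R j = l) (d3 : R k = j) (d4 : R l = k)
    (d5 : ∀ x, x ≠ i → x ≠ j → x ≠ k → x ≠ l → R x = x) :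
    ((∑ x, ∑ y, P x y * Q x y) + (∑ x, ∑ y, P (V1 x) (V1 y) * Q x y) +
      (∑ x, ∑ y, P (V2 x) (V2 y) * Q x y) + (∑ x, ∑ y, P (V3 x) (V3 y) * Q x y)) -
    ((∑ x, ∑ y, P (R x) (R y) * Q x y) + (∑ x, ∑ y, P (R (V1 x)) (R (V1 y)) * Q x y) +
      (∑ x, ∑ y, P (R (V2 x)) (R (V2 y)) * Q x y) +
      (∑ x, ∑ y, P (R (V3 x)) (R (V3 y)) * Q x y)) =
    ((P i j + P j i + P k l + P l k) - (P i l + P l i + P j k + P k j)) *
      (Q i j + Q j i + Q k l + Q l k) +
    ((P i k + P k i + P j l + P l j) - (P i j + P j i + P k l + P l k)) *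
      (Q i k + Q k i + Q j l + Q l j) +
    ((P i l + P l i + P j k + P k j) - (P i k + P k i + P j l + P l j)) *
      (Q i l + Q l i + Q j k + Q k j) := by
  classical
  set E : Fin n → Fin n → ℤ := fun x y =>
    (P x y + P (V1 x) (V1 y) + P (V2 x) (V2 y) + P (V3 x) (V3 y)) -
    (P (R x) (R y) + P (R (V1 x)) (R (V1 y)) + P (R (V2 x)) (R (V2 y)) +
      P (R (V3 x)) (R (V3 y))) with hE
  have e0 : ((∑ x, ∑ y, P x y * Q x y) + (∑ x, ∑ y, P (V1 x) (V1 y) * Q x y) +
      (∑ x, ∑ y, P (V2 x) (V2 y) * Q x y) + (∑ x, ∑ y, P (V3 x) (V3 y) * Q x y)) -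
    ((∑ x, ∑ y, P (R x) (R y) * Q x y) + (∑ x, ∑ y, P (R (V1 x)) (R (V1 y)) * Q x y) +
      (∑ x, ∑ y, P (R (V2 x)) (R (V2 y)) * Q x y) +
      (∑ x, ∑ y, P (R (V3 x)) (R (V3 y)) * Q x y)) = ∑ x, ∑ y, E x y * Q x y := by
    simp only [← Finset.sum_add_distrib, ← Finset.sum_sub_distrib]
    apply Finset.sum_congr rfl
    intro x _
    apply Finset.sum_congr rfl
    intro y _
    rw [hE]
    ring
  have hx : ∀ x y, (x ≠ i ∧ x ≠ j ∧ x ≠ k ∧ x ≠ l) → E x y = 0 := by
    rintro x y ⟨h1, h2, h3, h4⟩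
    rw [hE]
    simp only [a5 x h1 h2 h3 h4, b5 x h1 h2 h3 h4, c5 x h1 h2 h3 h4, d5 x h1 h2 h3 h4]
    by_cases y1 : y = i
    · subst y1; simp only [a1, b1, c1, d1, d2, d3, d4]; ring
    by_cases y2 : y = j
    · subst y2; simp only [a2, b2, c2, d1, d2, d3, d4]; ring
    by_cases y3 : y = k
    · subst y3; simp only [a3, b3, c3, d1, d2, d3, d4]; ring
    by_cases y4 : y = l
    · subst y4; simp only [a4, b4, c4, d1, d2, d3, d4]; ring
    simp only [a5 y y1 y2 y3 y4, b5 y y1 y2 y3 y4, c5 y y1 y2 y3 y4, d5 y y1 y2 y3 y4]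
    ring
  have hy : ∀ x y, (y ≠ i ∧ y ≠ j ∧ y ≠ k ∧ y ≠ l) → E x y = 0 := by
    rintro y x ⟨h1, h2, h3, h4⟩
    rw [hE]
    simp only [a5 x h1 h2 h3 h4, b5 x h1 h2 h3 h4, c5 x h1 h2 h3 h4, d5 x h1 h2 h3 h4]
    by_cases y1 : y = i
    · subst y1; simp only [a1, b1, c1, d1, d2, d3, d4]; ring
    by_cases y2 : y = j
    · subst y2; simp only [a2, b2, c2, d1, d2, d3, d4]; ring
    by_cases y3 : y = k
    · subst y3; simp only [a3, b3, c3, d1, d2, d3, d4]; ring
    by_cases y4 : y = l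
    · subst y4; simp only [a4, b4, c4, d1, d2, d3, d4]; ring
    simp only [a5 y y1 y2 y3 y4, b5 y y1 y2 y3 y4, c5 y y1 y2 y3 y4, d5 y y1 y2 y3 y4]
    ring
  rw [e0]
  have e1 : ∑ x, ∑ y, E x y * Q x y =
      ∑ x ∈ ({i, j, k, l} : Finset (Fin n)), ∑ y ∈ ({i, j, k, l} : Finset (Fin n)), E x y * Q x y := by
    symm
    rw [← Finset.sum_subset (Finset.subset_univ ({i, j, k, l} : Finset (Fin n)))]
    · apply Finset.sum_congr rfl
      intro x _
      apply Finset.sum_subset (Finset.subset_univ _)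
      intro y _ h
      simp only [Finset.mem_insert, Finset.mem_singleton, not_or] at h
      rw [hy x y h, zero_mul]
    · intro x _ h
      simp only [Finset.mem_insert, Finset.mem_singleton, not_or] at h
      apply Finset.sum_eq_zero
      intro y _
      rw [hx x y h, zero_mul]
  rw [e1]
  have e2 : ∀ f : Fin n → ℤ, ∑ y ∈ ({i, j, k, l} : Finset (Fin n)), f y = f i + (f j + (f k + f l)) := by
    intro f
    rw [Finset.sum_insert (by simp [hij, hik, hil]), Finset.sum_insert (by simp [hjk, hjl]),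
      Finset.sum_insert (by simp [hkl]), Finset.sum_singleton]
  simp only [e2]
  simp only [hE, a1, a2, a3, a4, b1, b2, b3, b4, c1, c2, c3, c4, d1, d2, d3, d4]
  ring

/-- class sum -/
def WW {n : ℕ} (a : Perm (Fin n)) (i j k l : Fin n) : ℤ :=
  MM a i j + MM a j i + MM a k l + MM a l k

theorem step {n : ℕ} (α β : Perm (Fin n)) (c : ℤ)
    (hc : ∀ g : Perm (Fin n), g ∈ alternatingGroup (Fin n) → FF (g * α * g⁻¹) β = c)
    (i j k l : Fin n)
    (hij : i ≠ j) (hik : i ≠ k) (hil : i ≠ l) (hjk : j ≠ k) (hjl : j ≠ l) (hkl : k ≠ l) :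
    (WW α i j k l - WW α i l j k) * WW β i j k l + (WW α i k j l - WW α i j k l) * WW β i k j l
      + (WW α i l j k - WW α i k j l) * WW β i l j k = 0 := by
  classical
  have hev : ∀ x y z w : Fin n, x ≠ y → z ≠ w → swap x y * swap z w ∈ alternatingGroup (Fin n) := by
    intro x y z w h1 h2
    rw [Perm.mem_alternatingGroup, map_mul, Perm.sign_swap h1, Perm.sign_swap h2]
    rfl
  have hS : ∀ g : Perm (Fin n), FF (g * α * g⁻¹) β =
      ∑ x, ∑ y, MM α (g⁻¹ x) (g⁻¹ y) * MM β x y := by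
    intro g
    unfold FF
    simp only [MM_conj]
  set V1 : Perm (Fin n) := swap i j * swap k l with hV1
  set V2 : Perm (Fin n) := swap i k * swap j l with hV2
  set V3 : Perm (Fin n) := swap i l * swap j k with hV3
  set R : Perm (Fin n) := swap j k * swap k l with hR
  have m1 := hev i j k l hij hkl
  have m2 := hev i k j l hik hjl
  have m3 := hev i l j k hil hjk
  have mR := hev j k k l hjk hkl
  rw [← hV1] at m1
  rw [← hV2] at m2
  rw [← hV3] at m3
  rw [← hR] at mR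
  have k0 := hc 1 (Subgroup.one_mem _)
  have k1 := hc V1⁻¹ (Subgroup.inv_mem _ m1)
  have k2 := hc V2⁻¹ (Subgroup.inv_mem _ m2)
  have k3 := hc V3⁻¹ (Subgroup.inv_mem _ m3)
  have k4 := hc R mR
  have k5 := hc (V1⁻¹ * R) (Subgroup.mul_mem _ (Subgroup.inv_mem _ m1) mR)
  have k6 := hc (V2⁻¹ * R) (Subgroup.mul_mem _ (Subgroup.inv_mem _ m2) mR)
  have k7 := hc (V3⁻¹ * R) (Subgroup.mul_mem _ (Subgroup.inv_mem _ m3) mR)
  rw [hS] at k0 k1 k2 k3 k4 k5 k6 k7
  simp only [inv_one, Perm.one_apply, inv_inv, mul_inv_rev, Perm.mul_apply] at k0 k1 k2 k3 k4 k5 k6 k7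
  have key := keyL (MM α) (MM β) i j k l hij hik hil hjk hjl hkl V1 V2 V3 (R⁻¹ : Perm (Fin n))
    (by simp [hV1, swap_apply_def, hij, hik, hil, hjk, hjl, hkl, hij.symm, hik.symm, hil.symm, hjk.symm, hjl.symm, hkl.symm])
    (by simp [hV1, swap_apply_def, hij, hik, hil, hjk, hjl, hkl, hij.symm, hik.symm, hil.symm, hjk.symm, hjl.symm, hkl.symm])
    (by simp [hV1, swap_apply_def, hij, hik, hil, hjk, hjl, hkl, hij.symm, hik.symm, hil.symm, hjk.symm, hjl.symm, hkl.symm])
    (by simp [hV1, swap_apply_def, hij, hik, hil, hjk, hjl, hkl, hij.symm, hik.symm, hil.symm, hjk.symm, hjl.symm, hkl.symm])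
    (by intro x h1 h2 h3 h4; simp [hV1, swap_apply_def, h1, h2, h3, h4])
    (by simp [hV2, swap_apply_def, hij, hik, hil, hjk, hjl, hkl, hij.symm, hik.symm, hil.symm, hjk.symm, hjl.symm, hkl.symm])
    (by simp [hV2, swap_apply_def, hij, hik, hil, hjk, hjl, hkl, hij.symm, hik.symm, hil.symm, hjk.symm, hjl.symm, hkl.symm])
    (by simp [hV2, swap_apply_def, hij, hik, hil, hjk, hjl, hkl, hij.symm, hik.symm, hil.symm, hjk.symm, hjl.symm, hkl.symm])
    (by simp [hV2, swap_apply_def, hij, hik, hil, hjk, hjl, hkl, hij.symm, hik.symm, hil.symm, hjk.symm, hjl.symm, hkl.symm])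
    (by intro x h1 h2 h3 h4; simp [hV2, swap_apply_def, h1, h2, h3, h4])
    (by simp [hV3, swap_apply_def, hij, hik, hil, hjk, hjl, hkl, hij.symm, hik.symm, hil.symm, hjk.symm, hjl.symm, hkl.symm])
    (by simp [hV3, swap_apply_def, hij, hik, hil, hjk, hjl, hkl, hij.symm, hik.symm, hil.symm, hjk.symm, hjl.symm, hkl.symm])
    (by simp [hV3, swap_apply_def, hij, hik, hil, hjk, hjl, hkl, hij.symm, hik.symm, hil.symm, hjk.symm, hjl.symm, hkl.symm])
    (by simp [hV3, swap_apply_def, hij, hik, hil, hjk, hjl, hkl, hij.symm, hik.symm, hil.symm, hjk.symm, hjl.symm, hkl.symm])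
    (by intro x h1 h2 h3 h4; simp [hV3, swap_apply_def, h1, h2, h3, h4])
    (by rw [Perm.inv_eq_iff_eq]; simp [hR, swap_apply_def, hij, hik, hil, hjk, hjl, hkl, hij.symm, hik.symm, hil.symm, hjk.symm, hjl.symm, hkl.symm])
    (by rw [Perm.inv_eq_iff_eq]; simp [hR, swap_apply_def, hij, hik, hil, hjk, hjl, hkl, hij.symm, hik.symm, hil.symm, hjk.symm, hjl.symm, hkl.symm])
    (by rw [Perm.inv_eq_iff_eq]; simp [hR, swap_apply_def, hij, hik, hil, hjk, hjl, hkl, hij.symm, hik.symm, hil.symm, hjk.symm, hjl.symm, hkl.symm])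
    (by rw [Perm.inv_eq_iff_eq]; simp [hR, swap_apply_def, hij, hik, hil, hjk, hjl, hkl, hij.symm, hik.symm, hil.symm, hjk.symm, hjl.symm, hkl.symm])
    (by intro x h1 h2 h3 h4; rw [Perm.inv_eq_iff_eq]; simp [hR, swap_apply_def, h1, h2, h3, h4])
  rw [k0, k1, k2, k3, k4, k5, k6, k7] at key
  unfold WW
  linarith

theorem two_eq {n : ℕ} (α β : Perm (Fin n)) (c : ℤ)
    (hc : ∀ g : Perm (Fin n), g ∈ alternatingGroup (Fin n) → FF (g * α * g⁻¹) β = c)
    (i j k l : Fin n)
    (hij : i ≠ j) (hik : i ≠ k) (hil : i ≠ l) (hjk : j ≠ k) (hjl : j ≠ l) (hkl : k ≠ l) :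
    (WW α i j k l = WW α i k j l ∧ WW α i k j l = WW α i l j k) ∨
      (WW β i j k l = WW β i k j l ∧ WW β i k j l = WW β i l j k) := by
  classical
  have s1 := step α β c hc i j k l hij hik hil hjk hjl hkl
  set R : Perm (Fin n) := swap j k * swap k l with hR
  have mR : R ∈ alternatingGroup (Fin n) := by
    rw [Perm.mem_alternatingGroup, map_mul, Perm.sign_swap hjk, Perm.sign_swap hkl]
    rfl
  have s2 := step (R * α * R⁻¹) β c (by
    intro g hg
    have := hc (g * R) (Subgroup.mul_mem _ hg mR)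
    have e : g * (R * α * R⁻¹) * g⁻¹ = g * R * α * (g * R)⁻¹ := by group
    rw [e]
    exact this) i j k l hij hik hil hjk hjl hkl
  have r1 : R⁻¹ i = i := by
    rw [Perm.inv_eq_iff_eq]; simp [hR, swap_apply_def, hij, hik, hil, hjk, hjl, hkl, hij.symm, hik.symm, hil.symm, hjk.symm, hjl.symm, hkl.symm]
  have r2 : R⁻¹ j = l := by
    rw [Perm.inv_eq_iff_eq]; simp [hR, swap_apply_def, hij, hik, hil, hjk, hjl, hkl, hij.symm, hik.symm, hil.symm, hjk.symm, hjl.symm, hkl.symm]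
  have r3 : R⁻¹ k = j := by
    rw [Perm.inv_eq_iff_eq]; simp [hR, swap_apply_def, hij, hik, hil, hjk, hjl, hkl, hij.symm, hik.symm, hil.symm, hjk.symm, hjl.symm, hkl.symm]
  have r4 : R⁻¹ l = k := by
    rw [Perm.inv_eq_iff_eq]; simp [hR, swap_apply_def, hij, hik, hil, hjk, hjl, hkl, hij.symm, hik.symm, hil.symm, hjk.symm, hjl.symm, hkl.symm]
  have w1 : WW (R * α * R⁻¹) i j k l = WW α i l j k := by
    unfold WW; simp only [MM_conj, r1, r2, r3, r4]
  have w2 : WW (R * α * R⁻¹) i k j l = WW α i j k l := by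
    unfold WW; simp only [MM_conj, r1, r2, r3, r4]; ring
  have w3 : WW (R * α * R⁻¹) i l j k = WW α i k j l := by
    unfold WW; simp only [MM_conj, r1, r2, r3, r4]; ring
  rw [w1, w2, w3] at s2
  apply norm_id (WW α i j k l) (WW α i k j l) (WW α i l j k) (WW β i j k l) (WW β i k j l)
    (WW β i l j k)
  · linarith
  · linarith

theorem exists_four {n : ℕ} (hn : 5 ≤ n) (α : Perm (Fin n)) (hα : α ≠ 1) :
    ∃ i j k l : Fin n, i ≠ j ∧ i ≠ k ∧ i ≠ l ∧ j ≠ k ∧ j ≠ l ∧ k ≠ l ∧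
      1 ≤ WW α i j k l ∧ WW α i k j l = 0 := by
  classical
  have h1 : ∃ i, α i ≠ i := by
    by_contra h
    push Not at h
    exact hα (Perm.ext h)
  obtain ⟨i, hi⟩ := h1
  have pick : ∀ s : Finset (Fin n), s.card < n → ∃ x, x ∉ s := by
    intro s hs
    by_contra h
    push Not at h
    have : s = Finset.univ := Finset.eq_univ_iff_forall.mpr h
    rw [this, Finset.card_univ, Fintype.card_fin] at hs
    omega
  obtain ⟨k, hk⟩ := pick {i, α i, α⁻¹ i} (lt_of_le_of_lt (Finset.card_le_three) (by omega))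
  obtain ⟨l, hl⟩ := pick {i, α i, α (α i), k} (lt_of_le_of_lt (Finset.card_le_four) (by omega))
  simp only [Finset.mem_insert, Finset.mem_singleton, not_or] at hk hl
  obtain ⟨k1, k2, k3⟩ := hk
  obtain ⟨l1, l2, l3, l4⟩ := hl
  refine ⟨i, α i, k, l, fun h => hi h.symm, fun h => k1 h.symm, fun h => l1 h.symm,
    fun h => k2 h.symm, fun h => l2 h.symm, fun h => l4 h.symm, ?_, ?_⟩
  · have e : MM α i (α i) = 1 := by unfold MM; rw [if_pos rfl]
    unfold WW
    have := MM_nonneg α (α i) i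
    have := MM_nonneg α k l
    have := MM_nonneg α l k
    linarith
  · unfold WW
    have e1 : MM α i k = 0 := by unfold MM; rw [if_neg (fun h => k2 h.symm)]
    have e2 : MM α k i = 0 := by
      unfold MM; rw [if_neg]; intro h; apply k3; rw [← h]; simp
    have e3 : MM α (α i) l = 0 := by unfold MM; rw [if_neg (fun h => l3 h.symm)]
    have e4 : MM α l (α i) = 0 := by
      unfold MM; rw [if_neg]; intro h; exact l1 (α.injective h)
    rw [e1, e2, e3, e4]; norm_num

theorem inj4 {n : ℕ} (p q r s : Fin n) (h1 : p ≠ q) (h2 : p ≠ r) (h3 : p ≠ s) (h4 : q ≠ r)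
    (h5 : q ≠ s) (h6 : r ≠ s) :
    Function.Injective (![p, q, r, s] : Fin 4 → Fin n) := by
  intro x y hxy
  fin_cases x <;> fin_cases y <;> (first | rfl | exact absurd hxy h1 | exact absurd hxy h2 | exact absurd hxy h3 | exact absurd hxy h4 | exact absurd hxy h5 | exact absurd hxy h6 | exact absurd hxy h1.symm | exact absurd hxy h2.symm | exact absurd hxy h3.symm | exact absurd hxy h4.symm | exact absurd hxy h5.symm | exact absurd hxy h6.symm)


/-- Let n ≥ 5 and let a, b be non-identity permutations in the symmetric group S_n. Then the number of fixed points is not constant on the set of products a′b′ with a′ conjugate to a and b′ conjugate to b under the alternating group: there are even permutations g₁, h₁, g₂, h₂ such that (g₁ a g₁⁻¹)(h₁ b h₁⁻¹) and (g₂ a g₂⁻¹)(h₂ b h₂⁻¹) have different numbers of fixed points. -/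
theorem result (n : ℕ) (hn : 5 ≤ n) (a b : Equiv.Perm (Fin n)) (ha : a ≠ 1) (hb : b ≠ 1) :
    ∃ g₁ h₁ g₂ h₂ : Equiv.Perm (Fin n), g₁ ∈ alternatingGroup (Fin n) ∧ h₁ ∈ alternatingGroup (Fin n) ∧ g₂ ∈ alternatingGroup (Fin n) ∧ h₂ ∈ alternatingGroup (Fin n) ∧
      Nat.card (Function.fixedPoints ⇑(g₁ * a * g₁⁻¹ * (h₁ * b * h₁⁻¹))) ≠
        Nat.card (Function.fixedPoints ⇑(g₂ * a * g₂⁻¹ * (h₂ * b * h₂⁻¹))) := by
  classical
  by_contra hcon
  push Not at hcon
  have hc : ∀ g h : Equiv.Perm (Fin n), g ∈ alternatingGroup (Fin n) → h ∈ alternatingGroup (Fin n) →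
      FF (g * a⁻¹ * g⁻¹) (h * b * h⁻¹) = FF a⁻¹ b := by
    intro g h hg hh
    have := hcon g h 1 1 hg hh (Subgroup.one_mem _) (Subgroup.one_mem _)
    simp only [one_mul, inv_one, mul_one] at this
    have e1 := card_fix (g * a * g⁻¹) (h * b * h⁻¹)
    have e2 := card_fix a b
    rw [this, e2] at e1
    have e3 : g * a⁻¹ * g⁻¹ = (g * a * g⁻¹)⁻¹ := by group
    rw [e3]
    exact e1.symm
  have ha' : a⁻¹ ≠ 1 := fun h => ha (inv_eq_one.mp h)
  obtain ⟨i, j, k, l, hij, hik, hil, hjk, hjl, hkl, hA1, hA2⟩ := exists_four hn a⁻¹ ha'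
  obtain ⟨i', j', k', l', hij', hik', hil', hjk', hjl', hkl', hB1, hB2⟩ := exists_four hn b hb
  haveI := Equiv.Perm.isMultiplyPretransitive (Fin n) 4
  obtain ⟨h, hh⟩ := MulAction.exists_smul_eq (Equiv.Perm (Fin n))
    (⟨![i', j', k', l'], inj4 i' j' k' l' hij' hik' hil' hjk' hjl' hkl'⟩ : Fin 4 ↪ Fin n)
    ⟨![i, j, k, l], inj4 i j k l hij hik hil hjk hjl hkl⟩
  have hi : h i' = i := by
    have := DFunLike.congr_fun hh 0
    simpa using this
  have hj : h j' = j := by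
    have := DFunLike.congr_fun hh 1
    simpa using this
  have hk : h k' = k := by
    have := DFunLike.congr_fun hh 2
    simpa using this
  have hl : h l' = l := by
    have := DFunLike.congr_fun hh 3
    simpa using this
  have hi2 : h⁻¹ i = i' := by rw [Equiv.Perm.inv_eq_iff_eq]; exact hi.symm
  have hj2 : h⁻¹ j = j' := by rw [Equiv.Perm.inv_eq_iff_eq]; exact hj.symm
  have hk2 : h⁻¹ k = k' := by rw [Equiv.Perm.inv_eq_iff_eq]; exact hk.symm
  have hl2 : h⁻¹ l = l' := by rw [Equiv.Perm.inv_eq_iff_eq]; exact hl.symm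
  by_cases hev : h ∈ alternatingGroup (Fin n)
  · have := two_eq a⁻¹ (h * b * h⁻¹) _ (fun g hg => hc g h hg hev) i j k l hij hik hil hjk hjl hkl
    have w1 : WW (h * b * h⁻¹) i j k l = WW b i' j' k' l' := by
      unfold WW; simp only [MM_conj, hi2, hj2, hk2, hl2]
    have w2 : WW (h * b * h⁻¹) i k j l = WW b i' k' j' l' := by
      unfold WW; simp only [MM_conj, hi2, hj2, hk2, hl2]
    rw [w1, w2] at this
    rcases this with ⟨h1, h2⟩ | ⟨h1, h2⟩
    · linarith
    · linarith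
  · set h' : Equiv.Perm (Fin n) := swap k l * h with hh'
    have hev' : h' ∈ alternatingGroup (Fin n) := by
      rw [Equiv.Perm.mem_alternatingGroup] at hev ⊢
      rw [hh', map_mul, Equiv.Perm.sign_swap hkl]
      rcases Int.units_eq_one_or (Equiv.Perm.sign h) with e | e
      · exact absurd e hev
      · rw [e]; rfl
    have hi3 : h'⁻¹ i = i' := by
      rw [Equiv.Perm.inv_eq_iff_eq, hh', Equiv.Perm.mul_apply, hi, Equiv.swap_apply_of_ne_of_ne hik hil]
    have hj3 : h'⁻¹ j = j' := by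
      rw [Equiv.Perm.inv_eq_iff_eq, hh', Equiv.Perm.mul_apply, hj, Equiv.swap_apply_of_ne_of_ne hjk hjl]
    have hk3 : h'⁻¹ k = l' := by
      rw [Equiv.Perm.inv_eq_iff_eq, hh', Equiv.Perm.mul_apply, hl, Equiv.swap_apply_right]
    have hl3 : h'⁻¹ l = k' := by
      rw [Equiv.Perm.inv_eq_iff_eq, hh', Equiv.Perm.mul_apply, hk, Equiv.swap_apply_left]
    have := two_eq a⁻¹ (h' * b * h'⁻¹) _ (fun g hg => hc g h' hg hev') i j k l hij hik hil hjk hjl hkl
    have w1 : WW (h' * b * h'⁻¹) i j k l = WW b i' j' k' l' := by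
      unfold WW; simp only [MM_conj, hi3, hj3, hk3, hl3]; try ring
    have w2 : WW (h' * b * h'⁻¹) i l j k = WW b i' k' j' l' := by
      unfold WW; simp only [MM_conj, hi3, hj3, hk3, hl3]; try ring
    rw [w1, w2] at this
    rcases this with ⟨h1, h2⟩ | ⟨h1, h2⟩
    · linarith
    · linarith

end Cfsg.Agent.S2271
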