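import Cfsg.Statements.S2272
import Cfsg.Agent.LibAh2

set_option autoImplicit false
open Cfsg

namespace Cfsg.Agent.S2272

/-- Let F be a finite field and d ≥ 3, and let a, b be non-identity elements of PSL_d(F). Then the product of the conjugacy classes of a and b is not a single conjugacy class: there are conjugates a′ of a and b′ of b such that a′b′ is not conjugate to ab. -/
theorem result {F : Type*} [Field F] [Fintype F] (d : ℕ) (hd : 3 ≤ d)
    (a b : Matrix.ProjectiveSpecialLinearGroup (Fin d) F) (ha : a ≠ 1) (hb : b ≠ 1) :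
    ∃ g h : Matrix.ProjectiveSpecialLinearGroup (Fin d) F, ¬ IsConj (a * b) (g * a * g⁻¹ * (h * b * h⁻¹)) := by
  by_contra hcon
  push Not at hcon
  obtain ⟨A, rfl⟩ := QuotientGroup.mk'_surjective (Subgroup.center (Matrix.SpecialLinearGroup (Fin d) F)) a
  obtain ⟨B, rfl⟩ := QuotientGroup.mk'_surjective (Subgroup.center (Matrix.SpecialLinearGroup (Fin d) F)) b
  have hns : ∀ X : Matrix.SpecialLinearGroup (Fin d) F, QuotientGroup.mk' (Subgroup.center (Matrix.SpecialLinearGroup (Fin d) F)) X ≠ 1 →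
      ∀ c : F, (X : Matrix (Fin d) (Fin d) F) ≠ c • 1 := by
    intro X hX c hc
    apply hX
    rw [QuotientGroup.mk'_apply, QuotientGroup.eq_one_iff, Subgroup.mem_center_iff]
    intro g
    apply Subtype.ext
    change (g : Matrix (Fin d) (Fin d) F) * (X : Matrix (Fin d) (Fin d) F) = (X : Matrix (Fin d) (Fin d) F) * (g : Matrix (Fin d) (Fin d) F)
    rw [hc]
    simp
  apply CfsgLib.Ah.main hd A B (hns A ha) (hns B hb)
  intro g
  have h1 := hcon (QuotientGroup.mk' _ g) 1
  rw [one_mul, inv_one, mul_one, ← map_mul, ← map_inv, ← map_mul, ← map_mul, ← map_mul, isConj_iff] at h1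
  obtain ⟨c, hc⟩ := h1
  obtain ⟨C, rfl⟩ := QuotientGroup.mk'_surjective (Subgroup.center (Matrix.SpecialLinearGroup (Fin d) F)) c
  rw [← map_inv, ← map_mul, ← map_mul, QuotientGroup.mk'_apply, QuotientGroup.mk'_apply, QuotientGroup.eq,
    Matrix.SpecialLinearGroup.mem_center_iff] at hc
  obtain ⟨r, hr, hz⟩ := hc
  have hr0 : r ≠ 0 := by
    rintro rfl
    rw [Fintype.card_fin, zero_pow (by omega)] at hr
    exact zero_ne_one hr
  have e : ((g * A * g⁻¹ * B : Matrix.SpecialLinearGroup (Fin d) F) : Matrix (Fin d) (Fin d) F) =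
      ((C * (A * B) * C⁻¹ : Matrix.SpecialLinearGroup (Fin d) F) : Matrix (Fin d) (Fin d) F) * Matrix.scalar (Fin d) r := by
    rw [hz, ← CfsgLib.Pm.cm, mul_inv_cancel_left]
  have e2 : ((g * A * g⁻¹ * B : Matrix.SpecialLinearGroup (Fin d) F) : Matrix (Fin d) (Fin d) F).trace =
      r * ((A * B : Matrix.SpecialLinearGroup (Fin d) F) : Matrix (Fin d) (Fin d) F).trace := by
    rw [e, Matrix.scalar_apply, ← Matrix.smul_one_eq_diagonal, Matrix.mul_smul, mul_one, Matrix.trace_smul, CfsgLib.Pm.cm, CfsgLib.Pm.cm,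
      Matrix.trace_mul_comm, ← mul_assoc, ← CfsgLib.Pm.cm C⁻¹ C, inv_mul_cancel, smul_eq_mul]
    congr 2
    exact one_mul _
  rw [e2]
  constructor
  · intro h
    exact (mul_eq_zero.1 h).resolve_left hr0
  · intro h
    rw [h, mul_zero]

end Cfsg.Agent.S2272
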