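import Cfsg.Statements.S2468
import Cfsg.Agent.LibFlg6H13

set_option autoImplicit false
open Cfsg

namespace Cfsg.Agent.S2468

open Module

theorem exists_sl {F : Type*} [Field F] [Fintype F] {m d r : ℕ} (hd : 0 < d) (hdm : d ≤ m) (hr : 1 < r) (hrd : r ∣ Fintype.card F ^ d - 1)
    (hc : Nat.Coprime r (Fintype.card F - 1)) : ∃ A : Matrix.SpecialLinearGroup (Fin m) F, orderOf A = r := by
  classical
  haveI : NeZero r := ⟨by omega⟩
  obtain ⟨f, hf⟩ := CfsgLib.Hc.torus_gl (F := F) (n := m) (d := d) (a := 1) (m := r) hd (by omega) hrd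
  have hcard : Nat.card (Fin 1 → Multiplicative (ZMod r)) = r := by
    rw [Nat.card_fun, Nat.card_eq_fintype_card (α := Fin 1), Fintype.card_fin, pow_one]
    exact Nat.card_zmod r
  haveI : Finite (Multiplicative (ZMod r)) := inferInstance
  obtain ⟨g, hg⟩ := CfsgLib.Hc.lift_sl f hf (by rw [hcard]; exact hc)
  refine ⟨g (fun _ => Multiplicative.ofAdd 1), ?_⟩
  rw [orderOf_injective g hg]
  apply Nat.dvd_antisymm
  · exact (orderOf_dvd_natCard (G := Fin 1 → Multiplicative (ZMod r)) _).trans hcard.dvd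
  · set x : Fin 1 → Multiplicative (ZMod r) := fun _ => Multiplicative.ofAdd 1 with hx
    have h1 : x ^ orderOf x = 1 := pow_orderOf_eq_one x
    have h2 := congrFun h1 0
    rw [Pi.pow_apply] at h2
    have h3 : Multiplicative.toAdd ((Multiplicative.ofAdd (1 : ZMod r)) ^ orderOf x) = 0 := by
      show Multiplicative.toAdd (x 0 ^ orderOf x) = 0
      rw [h2]
      rfl
    rw [toAdd_pow, toAdd_ofAdd, nsmul_eq_mul, mul_one, ZMod.natCast_eq_zero_iff] at h3
    exact h3

/-- Adjacency of two odd primes in the prime graph of PSL(n,q): let F be a finite field of characteristic p with q elements, n ≥ 2 with PSL(n,F) simple, and let r ≠ s be odd primes different from p dividing the order of PSL(n,F). Let k and l be the multiplicative orders of q modulo r and modulo s, and suppose 2 ≤ k ≤ l. Then PSL(n,F) has NO element of order r·s if and only if k + l > n and k does not divide l. -/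
theorem result {F : Type*} [Field F] [Fintype F] (p : ℕ) [Fact p.Prime] [CharP F p] (n : ℕ) (hn : 2 ≤ n) (hsmall : n = 2 → 4 ≤ Fintype.card F)
    (r s : ℕ) (hr : r.Prime) (hs : s.Prime) (hr2 : r ≠ 2) (hs2 : s ≠ 2) (hrp : r ≠ p) (hsp : s ≠ p) (hrs : r ≠ s)
    (hrG : r ∣ Nat.card (Matrix.ProjectiveSpecialLinearGroup (Fin n) F)) (hsG : s ∣ Nat.card (Matrix.ProjectiveSpecialLinearGroup (Fin n) F))
    (k l : ℕ) (hk : k = orderOf ((Fintype.card F : ℕ) : ZMod r)) (hl : l = orderOf ((Fintype.card F : ℕ) : ZMod s))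
    (h2k : 2 ≤ k) (hkl : k ≤ l) :
    (r * s ∉ Set.range (orderOf : Matrix.ProjectiveSpecialLinearGroup (Fin n) F → ℕ)) ↔ (n < k + l ∧ ¬ k ∣ l) := by
  classical
  haveI : Fact r.Prime := ⟨hr⟩
  haveI : Fact s.Prime := ⟨hs⟩
  have hq1 : 1 < Fintype.card F := Fintype.one_lt_card
  have hnq : ∀ t : ℕ, t.Prime → t ≠ p → ¬ t ∣ Fintype.card F := by
    intro t ht htp
    obtain ⟨k, _, hk⟩ := FiniteField.card F p
    rw [hk]
    intro h
    exact htp ((Nat.prime_dvd_prime_iff_eq ht (Fact.out)).mp (ht.dvd_of_dvd_pow h))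
  have hdvd : ∀ t : ℕ, ∀ j, t ∣ Fintype.card F ^ j - 1 ↔ orderOf ((Fintype.card F : ℕ) : ZMod t) ∣ j := by
    intro t j
    rw [orderOf_dvd_iff_pow_eq_one, ← ZMod.natCast_eq_zero_iff, Nat.cast_sub (Nat.one_le_pow _ _ (by omega)), Nat.cast_pow, Nat.cast_one, sub_eq_zero]
  have hdr : ∀ j, r ∣ Fintype.card F ^ j - 1 ↔ k ∣ j := fun j => by rw [hk]; exact hdvd r j
  have hds : ∀ j, s ∣ Fintype.card F ^ j - 1 ↔ l ∣ j := fun j => by rw [hl]; exact hdvd s j
  have hr1 : ¬ r ∣ Fintype.card F - 1 := by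
    intro h
    have h1 := (hdr 1).mp (by rwa [pow_one])
    have := Nat.le_of_dvd (by norm_num) h1
    omega
  have hs1 : ¬ s ∣ Fintype.card F - 1 := by
    intro h
    have h1 := (hds 1).mp (by rwa [pow_one])
    have := Nat.le_of_dvd (by norm_num) h1
    omega
  have hcr : Nat.Coprime r (Fintype.card F - 1) := (Nat.Prime.coprime_iff_not_dvd hr).mpr hr1
  have hcs : Nat.Coprime s (Fintype.card F - 1) := (Nat.Prime.coprime_iff_not_dvd hs).mpr hs1
  have hcrs : Nat.Coprime (r * s) (Fintype.card F - 1) := Nat.Coprime.mul_left hcr hcs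
  have hln : l ≤ n := by
    obtain ⟨j, hj1, hj2, hj3⟩ := CfsgLib.Flg.exists_dvd_of_card hs (hnq s hs hsp) hsG
    exact (Nat.le_of_dvd (by omega) ((hds j).mp hj3)).trans hj2
  have hcop : Nat.Coprime r s := (Nat.coprime_primes hr hs).mpr hrs
  constructor
  · intro hcon
    by_contra hne
    apply hcon
    by_cases h1 : k + l ≤ n
    · obtain ⟨A, hA⟩ := exists_sl (F := F) (m := k) (d := k) (r := r) (by omega) le_rfl hr.one_lt ((hdr k).mpr dvd_rfl) hcr
      obtain ⟨m, hm⟩ := Nat.exists_eq_add_of_le (show k ≤ n by omega)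
      obtain ⟨B, hB⟩ := exists_sl (F := F) (m := m) (d := l) (r := s) (by omega) (by omega) hs.one_lt ((hds l).mpr dvd_rfl) hcs
      subst hm
      have hinj : Function.Injective ((CfsgLib.Flg.rei (F := F) (finSumFinEquiv (m := k) (n := m))).comp (CfsgLib.Flg.blk k m)) := by
        intro x y hxy
        have h2 : (Matrix.reindexAlgEquiv F F (finSumFinEquiv (m := k) (n := m))) (CfsgLib.Flg.blk k m x).1 = (Matrix.reindexAlgEquiv F F (finSumFinEquiv (m := k) (n := m))) (CfsgLib.Flg.blk k m y).1 := congrArg Subtype.val hxy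
        have h3 : Matrix.fromBlocks x.1.1 0 0 x.2.1 = Matrix.fromBlocks y.1.1 0 0 y.2.1 := (Matrix.reindexAlgEquiv F F (finSumFinEquiv (m := k) (n := m))).injective h2
        rw [Matrix.fromBlocks_inj] at h3
        exact Prod.ext (Subtype.ext h3.1) (Subtype.ext h3.2.2.2)
      refine ⟨QuotientGroup.mk (((CfsgLib.Flg.rei (F := F) (finSumFinEquiv (m := k) (n := m))).comp (CfsgLib.Flg.blk k m)) (A, B)), ?_⟩
      have ho : orderOf (((CfsgLib.Flg.rei (F := F) (finSumFinEquiv (m := k) (n := m))).comp (CfsgLib.Flg.blk k m)) (A, B)) = r * s := by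
        rw [orderOf_injective _ hinj, Prod.orderOf_mk, hA, hB]
        exact hcop.lcm_eq_mul
      rw [CfsgLib.Flg.order_psl _ (by rw [ho]; exact hcrs), ho]
    · have h2 : k ∣ l := by
        by_contra h3
        exact hne ⟨by omega, h3⟩
      obtain ⟨A, hA⟩ := exists_sl (F := F) (m := n) (d := l) (r := r * s) (by omega) hln (Nat.lt_of_lt_of_le hr.one_lt (Nat.le_mul_of_pos_right r hs.pos))
        (hcop.mul_dvd_of_dvd_of_dvd ((hdr l).mpr h2) ((hds l).mpr dvd_rfl)) hcrs
      exact ⟨QuotientGroup.mk A, by rw [CfsgLib.Flg.order_psl _ (by rw [hA]; exact hcrs), hA]⟩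
  · rintro ⟨hn1, hkl'⟩ ⟨g, hg⟩
    have hrs1 : 1 < r * s := Nat.lt_of_lt_of_le hr.one_lt (Nat.le_mul_of_pos_right r hs.pos)
    obtain ⟨G, rfl, hG⟩ := CfsgLib.Flg.exists_lift' hrs1 hcrs.symm g (by rw [← hg]; exact pow_orderOf_eq_one g)
    have hGr : (G ^ s) ^ r = 1 := by rw [← pow_mul, mul_comm, hG]
    have hGs : (G ^ r) ^ s = 1 := by rw [← pow_mul, hG]
    have hne : ∀ t : ℕ, 0 < t → t < r * s → G ^ t ≠ 1 := by
      intro t ht1 ht2 h
      have h1 : (QuotientGroup.mk G : Matrix.ProjectiveSpecialLinearGroup (Fin n) F) ^ t = 1 := by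
        rw [← QuotientGroup.mk_pow, h]; rfl
      have h2 := Nat.le_of_dvd ht1 (orderOf_dvd_of_pow_eq_one h1)
      rw [hg] at h2
      omega
    have hG1 : G ^ s ≠ 1 := hne s hs.pos (by have := hr.one_lt; have := hs.pos; nlinarith)
    have hG2 : G ^ r ≠ 1 := hne r hr.pos (by have := hs.one_lt; have := hr.pos; nlinarith)
    let f : Matrix (Fin n) (Fin n) F ≃ₐ[F] Module.End F (Fin n → F) := Matrix.toLinAlgEquiv'
    have hfr : finrank F (Fin n → F) = n := by rw [Module.finrank_pi, Fintype.card_fin]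
    have hpow : ∀ (A : Matrix.SpecialLinearGroup (Fin n) F) (t : ℕ), A ^ t = 1 → f A.1 ^ t = 1 := by
      intro A t h
      rw [← map_pow, ← Matrix.SpecialLinearGroup.coe_pow, h, Matrix.SpecialLinearGroup.coe_one, map_one]
    have hnone : ∀ (A : Matrix.SpecialLinearGroup (Fin n) F), A ≠ 1 → f A.1 ≠ 1 := by
      intro A h h1
      apply h
      apply Subtype.ext
      apply f.injective
      rw [h1]
      exact (map_one f).symm
    have hcomm : Commute (f (G ^ s).1) (f (G ^ r).1) := by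
      have h1 : Commute (G ^ s) (G ^ r) := (Commute.refl G).pow_pow s r
      have h2 : Commute (G ^ s).1 (G ^ r).1 := congrArg Subtype.val h1
      exact h2.map f
    rcases CfsgLib.Flg.two_primes hr hs (CfsgLib.Flg.cast_ne (p := p) hr hrp) (CfsgLib.Flg.cast_ne (p := p) hs hsp) _ _ (hpow _ _ hGr) (hpow _ _ hGs) (hnone _ hG1) (hnone _ hG2) hcomm with h | h
    · rw [← hk, ← hl, hfr] at h
      omega
    · rw [← hk, ← hl, hfr] at h
      obtain ⟨c, hc⟩ := Nat.dvd_lcm_right k l
      have hpos : 0 < Nat.lcm k l := Nat.lcm_pos (by omega) (by omega)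
      have hc0 : c ≠ 0 := by rintro rfl; rw [mul_zero] at hc; omega
      have hc1 : c ≠ 1 := by
        rintro rfl
        rw [mul_one] at hc
        exact hkl' (hc ▸ Nat.dvd_lcm_left k l)
      have hc2 : 2 ≤ c := by omega
      have h3 : l * 2 ≤ l * c := Nat.mul_le_mul_left l hc2
      omega

end Cfsg.Agent.S2468
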