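import Cfsg.Statements.S2470
import Cfsg.Agent.LibFlg5H13

set_option autoImplicit false
open Cfsg

namespace Cfsg.Agent.S2470

theorem eq_inv_iff_mul_eq_one₀' {F : Type*} [Field F] {a b : F} (hb : b ≠ 0) : a = b⁻¹ ↔ a * b = 1 := by
  constructor
  · rintro rfl
    exact inv_mul_cancel₀ hb
  · intro h
    exact eq_inv_of_mul_eq_one_left h

theorem exists_order3 {F : Type*} [Field F] [Fintype F] {p : ℕ} [hp : Fact p.Prime] [CharP F p] {r : ℕ} (hr : r.Prime) (hrp : r ≠ p)
    (s : F) (hs0 : s ≠ 0) (hs : orderOf (s ^ 3) = r) :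
    ∃ g : Matrix.ProjectiveSpecialLinearGroup (Fin 3) F, orderOf g = r * p := by
  classical
  let M : Matrix.SpecialLinearGroup (Fin 3) F := ⟨!![s, s, 0; 0, s, 0; 0, 0, (s ^ 2)⁻¹], by
    rw [Matrix.det_fin_three]
    simp only [Matrix.of_apply, Matrix.cons_val', Matrix.cons_val_zero, Matrix.cons_val_one, Matrix.cons_val]
    field_simp
    ring⟩
  have hM : ∀ k : ℕ, (M ^ k).1 = !![s ^ k, (k : F) * s ^ k, 0; 0, s ^ k, 0; 0, 0, ((s ^ 2)⁻¹) ^ k] := by
    intro k
    induction k with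
    | zero =>
      rw [pow_zero, Matrix.SpecialLinearGroup.coe_one, Nat.cast_zero]
      ext i j
      fin_cases i <;> fin_cases j <;> simp
    | succ k ih =>
      rw [pow_succ, Matrix.SpecialLinearGroup.coe_mul, ih]
      show !![s ^ k, (k : F) * s ^ k, 0; 0, s ^ k, 0; 0, 0, ((s ^ 2)⁻¹) ^ k] * !![s, s, 0; 0, s, 0; 0, 0, (s ^ 2)⁻¹] = _
      ext i j
      rw [Matrix.mul_apply, Fin.sum_univ_three]
      fin_cases i <;> fin_cases j <;> simp [pow_succ] <;> ring
  refine ⟨QuotientGroup.mk M, ?_⟩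
  have key : ∀ k : ℕ, (QuotientGroup.mk M : Matrix.ProjectiveSpecialLinearGroup (Fin 3) F) ^ k = 1 ↔ r * p ∣ k := by
    intro k
    rw [← QuotientGroup.mk_pow, QuotientGroup.eq_one_iff, Matrix.SpecialLinearGroup.mem_center_iff]
    have hsk : s ^ k = ((s ^ 2)⁻¹) ^ k ↔ r ∣ k := by
      rw [← hs, orderOf_dvd_iff_pow_eq_one, ← pow_mul, mul_comm 3 k, pow_mul, inv_pow, eq_inv_iff_mul_eq_one₀' (pow_ne_zero _ (pow_ne_zero _ hs0)), ← pow_mul, ← pow_add, ← pow_mul]
      rw [show k + 2 * k = k * 3 by ring]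
    constructor
    · rintro ⟨c, hc, hcM⟩
      rw [hM] at hcM
      have h1 := congrFun (congrFun hcM 0) 1
      have h2 := congrFun (congrFun hcM 0) 0
      have h3 := congrFun (congrFun hcM 2) 2
      simp [Matrix.scalar_apply] at h1 h2 h3
      have h4 : (k : F) = 0 := by
        rcases h1 with h1 | h1
        · exact h1
        · exact absurd h1.1 hs0
      have h5 : r ∣ k := by
        rw [← hsk]
        rw [← h2, h3]
        simp
      exact Nat.Coprime.mul_dvd_of_dvd_of_dvd ((Nat.coprime_primes hr hp.out).mpr hrp) h5 ((CharP.cast_eq_zero_iff F p k).mp h4)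
    · intro h
      have h6 : p ∣ k := dvd_trans (Dvd.intro_left _ rfl) h
      have h8 : r ∣ k := dvd_trans (Dvd.intro _ rfl) h
      have h9 : (k : F) = 0 := (CharP.cast_eq_zero_iff F p k).mpr h6
      have h10 := hsk.mpr h8
      refine ⟨s ^ k, ?_, ?_⟩
      · rw [Fintype.card_fin, ← pow_mul, mul_comm, pow_mul, ← orderOf_dvd_iff_pow_eq_one, hs]
        exact h8
      · rw [hM, h9, ← h10]
        ext i j
        fin_cases i <;> fin_cases j <;> simp [Matrix.scalar_apply]
  exact Nat.dvd_antisymm (orderOf_dvd_of_pow_eq_one ((key _).mpr dvd_rfl)) ((key _).mp (pow_orderOf_eq_one _))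

theorem exists_unit {F : Type*} [Field F] [Fintype F] {d : ℕ} (hd : d ∣ Fintype.card F - 1) : ∃ s : F, s ≠ 0 ∧ orderOf s = d := by
  classical
  obtain ⟨g, hg⟩ := IsCyclic.exists_ofOrder_eq_natCard (α := Fˣ)
  have h1 : Nat.card Fˣ = Fintype.card F - 1 := by rw [Nat.card_eq_fintype_card, Fintype.card_units]
  refine ⟨((g ^ (orderOf g / d) : Fˣ) : F), Units.ne_zero _, ?_⟩
  rw [orderOf_units]
  exact orderOf_pow_orderOf_div (orderOf_pos g).ne' (by rw [hg, h1]; exact hd)

/-- Adjacency of an odd prime and the characteristic in the prime graph of PSL(n,q): let F be a finite field of characteristic p with q elements, n ≥ 2 with PSL(n,F) simple, and let r ≠ p be an odd prime dividing the order of PSL(n,F), with k the multiplicative order of q modulo r. Then PSL(n,F) has NO element of order r·p if and only if either k > n − 2, or n = 3, r = 3 and 3 divides q − 1 exactly once. -/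
theorem result {F : Type*} [Field F] [Fintype F] (p : ℕ) [Fact p.Prime] [CharP F p] (n : ℕ) (hn : 2 ≤ n) (hsmall : n = 2 → 4 ≤ Fintype.card F)
    (r : ℕ) (hr : r.Prime) (hr2 : r ≠ 2) (hrp : r ≠ p) (hrG : r ∣ Nat.card (Matrix.ProjectiveSpecialLinearGroup (Fin n) F))
    (k : ℕ) (hk : k = orderOf ((Fintype.card F : ℕ) : ZMod r)) :
    (r * p ∉ Set.range (orderOf : Matrix.ProjectiveSpecialLinearGroup (Fin n) F → ℕ)) ↔
      (n - 2 < k ∨ (n = 3 ∧ r = 3 ∧ 3 ∣ Fintype.card F - 1 ∧ ¬ 9 ∣ Fintype.card F - 1)) := by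
  classical
  haveI : Fact r.Prime := ⟨hr⟩
  have hq1 : 1 < Fintype.card F := Fintype.one_lt_card
  have hrq : ¬ r ∣ Fintype.card F := by
    obtain ⟨k, _, hk⟩ := FiniteField.card F p
    rw [hk]
    intro h
    exact hrp ((Nat.prime_dvd_prime_iff_eq hr (Fact.out)).mp (hr.dvd_of_dvd_pow h))
  have hq0 : ((Fintype.card F : ℕ) : ZMod r) ≠ 0 := by rwa [Ne, ZMod.natCast_eq_zero_iff]
  have hk0 : 0 < k := by
    have h1 := orderOf_pos (Units.mk0 ((Fintype.card F : ℕ) : ZMod r) hq0)
    rw [← orderOf_units, Units.val_mk0] at h1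
    rw [hk]
    exact h1
  have hdvd : ∀ j, r ∣ Fintype.card F ^ j - 1 ↔ k ∣ j := by
    intro j
    rw [hk, orderOf_dvd_iff_pow_eq_one, ← ZMod.natCast_eq_zero_iff, Nat.cast_sub (Nat.one_le_pow _ _ (by omega)), Nat.cast_pow, Nat.cast_one, sub_eq_zero]
  constructor
  · intro hcon
    by_contra hne
    push Not at hne
    obtain ⟨h1, h2⟩ := hne
    apply hcon
    by_cases hn4 : 4 ≤ n
    · have h3 : r ∣ Nat.card (Matrix.SpecialLinearGroup (Fin (n - 2)) F) :=
        CfsgLib.Flg.dvd_card_SL (p := p) (by omega) (Or.inr ⟨k, hk0, h1, (hdvd k).mpr dvd_rfl⟩)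
      obtain ⟨A, hA⟩ := exists_prime_orderOf_dvd_card' r h3
      obtain ⟨m, rfl⟩ := Nat.exists_eq_add_of_le' hn
      exact CfsgLib.Flg.exists_order hr hrp (by omega) A hA
    · have hn3 : n = 3 := by omega
      subst hn3
      have hk1 : k = 1 := by omega
      have h3 : r ∣ Fintype.card F - 1 := by
        have := (hdvd 1).mpr (by rw [hk1])
        rwa [pow_one] at this
      by_cases hr3 : r = 3
      · subst hr3
        have h4 := h2 rfl rfl h3
        obtain ⟨s, hs0, hs⟩ := exists_unit h4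
        apply exists_order3 hr hrp s hs0
        rw [orderOf_pow_of_dvd (by norm_num) (by rw [hs]; norm_num), hs]
      · obtain ⟨s, hs0, hs⟩ := exists_unit h3
        apply exists_order3 hr hrp s hs0
        rw [Nat.Coprime.orderOf_pow, hs]
        rw [hs]
        exact (Nat.coprime_primes hr Nat.prime_three).mpr hr3
  · rintro hcase ⟨g, hg⟩
    have ha : (g ^ r) ^ p = 1 := by rw [← pow_mul, ← hg]; exact pow_orderOf_eq_one g
    have hb : (g ^ p) ^ r = 1 := by rw [← pow_mul, mul_comm, ← hg]; exact pow_orderOf_eq_one g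
    have hp2 := (Fact.out : p.Prime).two_le
    have hr2' := hr.two_le
    have ha1 : g ^ r ≠ 1 := by
      intro h
      have h1 := Nat.le_of_dvd (by omega) (orderOf_dvd_of_pow_eq_one h)
      rw [hg] at h1
      nlinarith
    have hb1 : g ^ p ≠ 1 := by
      intro h
      have h1 := Nat.le_of_dvd (by omega) (orderOf_dvd_of_pow_eq_one h)
      rw [hg] at h1
      nlinarith
    have hab : Commute (g ^ r) (g ^ p) := (Commute.refl g).pow_pow r p
    apply hb1
    rcases hcase with hcase | ⟨rfl, rfl, h3, h9⟩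
    · rcases Nat.lt_or_ge n 3 with hn3 | hn3
      · have hn2 : n = 2 := by omega
        subst hn2
        exact CfsgLib.Flg.two_psl hr hr2 hrp _ _ ha ha1 hb hab
      · apply CfsgLib.Flg.flag_psl hr hrp hn3 ?_ _ _ ha ha1 hb hab
        intro j hj1 hj2 hj3
        rw [hdvd] at hj3
        have := Nat.le_of_dvd (by omega) hj3
        omega
    · exact CfsgLib.Flg.three_psl h9 hrp _ _ ha ha1 hb hab

end Cfsg.Agent.S2470
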