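import Cfsg.Statements.S2756
import Cfsg.Agent.LibFail9K

set_option autoImplicit false
open Cfsg

namespace Cfsg.Agent.S2756

open CfsgLib.DZJ9 CfsgLib.Qd9 CfsgLib.FusionH12 CfsgLib.FusionH12b CfsgLib.FusionH12c CfsgLib.SecH12 CfsgLib.FusionH12d CfsgLib.FusionH12e CfsgLib.FusionH12f CfsgLib.Fail9

theorem not_inverted {G : Type*} [Group G] [Finite G] (h : ∀ P : Sylow 2 G, (P : Subgroup G).Normal) {q : ℕ}
    [hq : Fact q.Prime] (hq2 : q ≠ 2) {x g : G} (hx : ∃ k, x ^ q ^ k = 1) (hx1 : x ≠ 1) : g * x * g⁻¹ ≠ x⁻¹ := by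
  haveI : Fact (Nat.Prime 2) := ⟨Nat.prime_two⟩
  intro hg
  set a := (orderOf g).factorization 2 with ha
  set m := orderOf g / 2 ^ a with hm
  have hmo : Odd m := by
    have h1 := Nat.coprime_ordCompl Nat.prime_two (orderOf_pos g).ne'
    exact Nat.coprime_two_left.1 h1
  have hg' : g * x⁻¹ * g⁻¹ = x := by rw [← conj_inv, hg, inv_inv]
  have key : ∀ n : ℕ, g ^ (2 * n + 1) * x * (g ^ (2 * n + 1))⁻¹ = x⁻¹ := by
    intro n
    induction n with
    | zero => simpa using hg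
    | succ n ih =>
      calc g ^ (2 * (n + 1) + 1) * x * (g ^ (2 * (n + 1) + 1))⁻¹
          = g * (g * (g ^ (2 * n + 1) * x * (g ^ (2 * n + 1))⁻¹) * g⁻¹) * g⁻¹ := by
            have : g ^ (2 * (n + 1) + 1) = g * g * g ^ (2 * n + 1) := by
              rw [show 2 * (n + 1) + 1 = 2 + (2 * n + 1) from by ring, pow_add, pow_two]
            rw [this]; group
        _ = x⁻¹ := by rw [ih, hg', hg]
  obtain ⟨n, hn⟩ := hmo
  have h1 := key n
  rw [← hn] at h1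
  have h2 : (g ^ m) ^ 2 ^ a = 1 := by
    rw [← pow_mul, hm, Nat.div_mul_cancel (Nat.ordProj_dvd _ _), pow_orderOf_eq_one]
  have h3 : IsPGroup 2 (Subgroup.zpowers (g ^ m)) := by
    rintro ⟨_, k, rfl⟩
    refine ⟨a, Subtype.ext ?_⟩
    change ((g ^ m) ^ k) ^ 2 ^ a = 1
    rw [← zpow_natCast, ← zpow_mul, mul_comm, zpow_mul, zpow_natCast, h2, one_zpow]
  obtain ⟨P, hP⟩ := h3.exists_le_sylow
  haveI := h P
  have h4 : g ^ m ∈ (P : Subgroup G) := hP (Subgroup.mem_zpowers _)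
  have h5 : g ^ m * (x * (g ^ m)⁻¹ * x⁻¹) ∈ (P : Subgroup G) :=
    (P : Subgroup G).mul_mem h4 ((h P).conj_mem _ ((P : Subgroup G).inv_mem h4) x)
  have h6 : g ^ m * (x * (g ^ m)⁻¹ * x⁻¹) = (x ^ 2)⁻¹ := by
    have : g ^ m * (x * (g ^ m)⁻¹ * x⁻¹) = (g ^ m * x * (g ^ m)⁻¹) * x⁻¹ := by group
    rw [this, h1]; group
  rw [h6] at h5
  obtain ⟨j, hj⟩ := P.2 ⟨_, (P : Subgroup G).inv_mem h5⟩
  have hj' : ((x ^ 2)⁻¹⁻¹) ^ 2 ^ j = 1 := congrArg Subtype.val hj
  rw [inv_inv, ← pow_mul, ← pow_succ'] at hj'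
  obtain ⟨k, hk⟩ := hx
  have h8 : orderOf x ∣ 1 := by
    have := Nat.dvd_gcd (orderOf_dvd_of_pow_eq_one hj') (orderOf_dvd_of_pow_eq_one hk)
    rwa [Nat.Coprime.gcd_eq_one (Nat.Coprime.pow _ _ ((Nat.coprime_primes Nat.prime_two hq.out).2 (Ne.symm hq2)))] at this
  exact hx1 (orderOf_eq_one_iff.1 (Nat.dvd_one.1 h8))

theorem closed_subgroup {G : Type*} [Group G] [Finite G] (h : ∀ P : Sylow 2 G, (P : Subgroup G).Normal) (H : Subgroup G) :
    ∀ P : Sylow 2 H, (P : Subgroup H).Normal := by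
  by_contra hcon
  obtain ⟨q, hq, hq2, x, hx, g, hg⟩ := exists_inverted hcon
  haveI : Fact q.Prime := ⟨hq⟩
  refine not_inverted h hq2 (x := (x : G)) (g := (g : G)) ⟨1, ?_⟩ ?_ ?_
  · rw [pow_one, ← hx]
    exact congrArg Subtype.val (pow_orderOf_eq_one x)
  · intro h0
    rw [show x = 1 from Subtype.ext h0, orderOf_one] at hx
    exact hq.one_lt.ne hx
  · exact congrArg Subtype.val hg

theorem exists_bad {G : Type*} [Group G] [Finite G] (h : ¬ ∀ P : Sylow 2 G, (P : Subgroup G).Normal) :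
    ∃ (q : ℕ) (_ : Fact q.Prime), q ≠ 2 ∧ q ∣ Nat.card G ∧ ∃ T : Sylow q G, ∃ w ∈ (T : Subgroup G), w ≠ 1 ∧
      ∃ g ∈ Subgroup.normalizer (Cfsg.centerThompsonAOf (T : Subgroup G) : Set G), g * w * g⁻¹ = w⁻¹ := by
  obtain ⟨q, hq, hq2, x, hx, g, hg⟩ := exists_inverted h
  haveI : Fact q.Prime := ⟨hq⟩
  have hx1 : x ≠ 1 := by
    rintro rfl
    rw [orderOf_one] at hx
    exact hq.one_lt.ne hx
  have hT : IsPGroup q (Subgroup.zpowers x) := by
    rw [IsPGroup.iff_card]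
    exact ⟨1, by rw [Nat.card_zpowers, hx, pow_one]⟩
  obtain ⟨T, hxT⟩ := hT.exists_le_sylow
  refine ⟨q, ⟨hq⟩, hq2, hx ▸ orderOf_dvd_natCard x, T, ?_⟩
  have hts : (((-1) * (-1) : ℤ) : ZMod q) = 1 := by norm_num
  have hTT : Cfsg.IsStronglyClosed (T : Subgroup G) (T : Subgroup G) := ⟨le_rfl, fun _ _ _ h => h⟩
  rcases main_ZJ hq2 hts T hTT with h1 | h1
  · obtain ⟨y, hy, hag⟩ := fusIn_elt h1 (g := g) hxT (by
      rw [cj_le']
      rintro _ ⟨n, rfl⟩
      apply hxT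
      change g * x ^ n * g⁻¹ ∈ Subgroup.zpowers x
      rw [← conj_zpow, hg, inv_zpow]
      exact inv_mem (zpow_mem (Subgroup.mem_zpowers x) n))
    exact ⟨x, hxT (Subgroup.mem_zpowers x), hx1, y, hy, by rw [hag x (Subgroup.mem_zpowers x), hg]⟩
  · obtain ⟨y, hy, w, hw, hw1, hyw⟩ := h1
    have h2 := W_le (induced_isConj ZJ_char G) T.2
    rw [induced_ZJ] at h2
    exact ⟨w, h2 hw, hw1, y, hy, by rw [hyw]; exact zpow_neg_one w⟩

/-- For a finite group G the following are equivalent: (a) G has a normal Sylow 2-subgroup; (b) for every odd prime q dividing the order of G and every Sylow q-subgroup T, the normalizer of Z(J(T)) has a normal Sylow 2-subgroup; (c) for every odd prime q and every Sylow q-subgroup T, no nonidentity element of T is inverted by an element of the normalizer of Z(J(T)). Here J(T) is the Thompson subgroup generated by the abelian subgroups of T of largest order. Stated as the two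 equivalences (a) ⇔ (b) and (a) ⇔ (c). -/
theorem result {G : Type*} [Group G] [Finite G] : ((∀ P : Sylow 2 G, (P : Subgroup G).Normal) ↔ ∀ (q : ℕ) [Fact q.Prime], q ≠ 2 → q ∣ Nat.card G → ∀ T : Sylow q G, ∀ P : Sylow 2 ↥(Subgroup.normalizer (Cfsg.centerThompsonAOf (T : Subgroup G) : Set G)), (P : Subgroup ↥(Subgroup.normalizer (Cfsg.centerThompsonAOf (T : Subgroup G) : Set G))).Normal) ∧ ((∀ P : Sylow 2 G, (P : Subgroup G).Normal) ↔ ∀ (q : ℕ) [Fact q.Prime], q ≠ 2 → ∀ T : Sylow q G, ∀ x ∈ (T : Subgroup G), x ≠ 1 → ∀ g ∈ Subgroup.normalizer (Cfsg.centerThompsonAOf (T : Subgroup G) : Set G), g * x * g⁻¹ ≠ x⁻¹) := by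
  refine ⟨⟨fun h q _ _ _ T => closed_subgroup h _, fun h => ?_⟩, ⟨fun h q _ hq2 T x hx hx1 g hg => ?_, fun h => ?_⟩⟩
  · by_contra hcon
    obtain ⟨q, hq, hq2, hqG, T, w, hw, hw1, g, hg, hgw⟩ := exists_bad hcon
    haveI := hq
    have h1 := h q hq2 hqG T
    have hTZ : (T : Subgroup G) ≤ Subgroup.normalizer (Cfsg.centerThompsonAOf (T : Subgroup G) : Set G) := by
      have h2 := nrm_le_nrm_W (induced_isConj ZJ_char G) T.2
      rw [induced_ZJ] at h2
      exact Subgroup.le_normalizer.trans h2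
    obtain ⟨k, hk⟩ := T.2 ⟨w, hw⟩
    refine not_inverted h1 hq2 (x := ⟨w, hTZ hw⟩) (g := ⟨g, hg⟩) ⟨k, Subtype.ext (show w ^ q ^ k = 1 from congrArg Subtype.val hk)⟩
      (fun h0 => hw1 (congrArg Subtype.val h0)) (Subtype.ext hgw)
  · obtain ⟨k, hk⟩ := T.2 ⟨x, hx⟩
    exact not_inverted h hq2 ⟨k, congrArg Subtype.val hk⟩ hx1
  · by_contra hcon
    obtain ⟨q, hq, hq2, hqG, T, w, hw, hw1, g, hg, hgw⟩ := exists_bad hcon
    haveI := hq
    exact h q hq2 T w hw hw1 g hg hgw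

end Cfsg.Agent.S2756
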