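import Cfsg.Statements.S2793
import Cfsg.Agent.LibFail9R

set_option autoImplicit false
open Cfsg

namespace Cfsg.Agent.S2793

open CfsgLib.DZJ9 CfsgLib.Qd9 CfsgLib.FusionH12 CfsgLib.FusionH12b CfsgLib.FusionH12c CfsgLib.SecH12 CfsgLib.FusionH12d CfsgLib.FusionH12e CfsgLib.FusionH12f CfsgLib.DFus9 CfsgLib.Fail9

theorem relIndex_aux {G : Type*} [Group G] [Finite G] {p : ℕ} [hp : Fact p.Prime] {H : Subgroup G} {c h : G}
    (hc : orderOf c = p) (hh : h ∈ H) {t : ℤ} (hhc : h * c * h⁻¹ = c ^ t) {g : (ZMod p)ˣ} (hg : ∀ x, x ∈ Subgroup.zpowers g)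
    (ht : ((t : ℤ) : ZMod p) = g) :
    (H ⊓ Subgroup.centralizer ((Subgroup.zpowers c : Subgroup G) : Set G)).relIndex
      (H ⊓ Subgroup.normalizer ((Subgroup.zpowers c : Subgroup G) : Set G)) = p - 1 := by
  set C := Subgroup.zpowers c with hC
  set A := H ⊓ Subgroup.normalizer (C : Set G) with hA
  have hAN : A ≤ Subgroup.normalizer (C : Set G) := inf_le_right
  let ψ : A →* MulAut C := (C.normalizerMonoidHom).comp (Subgroup.inclusion hAN)
  have hψ : ψ.ker = (H ⊓ Subgroup.centralizer (C : Set G)).subgroupOf A := by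
    ext x
    rw [MonoidHom.mem_ker, Subgroup.mem_subgroupOf]
    have h1 : ψ x = 1 ↔ Subgroup.inclusion hAN x ∈ (C.normalizerMonoidHom).ker := Iff.rfl
    rw [h1, Subgroup.normalizerMonoidHom_ker, Subgroup.mem_subgroupOf]
    exact ⟨fun h2 => ⟨x.2.1, h2⟩, fun h2 => h2.2⟩
  rw [Subgroup.relIndex, ← hψ, Subgroup.index_ker]
  have hCp : Nat.card C = p := by rw [hC, Nat.card_zpowers, hc]
  have hcardA : Nat.card (MulAut C) = p - 1 := by
    rw [IsCyclic.card_mulAut, hCp, Nat.totient_prime hp.out]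
  haveI : Finite (MulAut C) := Nat.finite_of_card_ne_zero (by
    rw [hcardA]
    have := hp.out.two_le
    omega)
  apply Nat.dvd_antisymm
  · rw [← hcardA]
    exact Subgroup.card_subgroup_dvd_card _
  · -- the order of the image of `h`
    have hhN : h ∈ Subgroup.normalizer (C : Set G) := by
      rw [mem_nrm]
      refine Subgroup.eq_of_le_of_card_ge ?_ (by rw [card_cj])
      rw [cj_le']
      rintro _ ⟨n, rfl⟩
      change h * c ^ n * h⁻¹ ∈ C
      rw [← conj_zpow, hhc]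
      exact zpow_mem (zpow_mem (Subgroup.mem_zpowers c) t) n
    set x : A := ⟨h, ⟨hh, hhN⟩⟩ with hx
    have hxn : ∀ n : ℕ, ((ψ x ^ n) ⟨c, Subgroup.mem_zpowers c⟩ : G) = c ^ (t ^ n) := by
      intro n
      induction n with
      | zero => simp
      | succ n ih =>
        rw [pow_succ']
        change (ψ x ((ψ x ^ n) ⟨c, Subgroup.mem_zpowers c⟩) : G) = _
        have h2 : ((ψ x ((ψ x ^ n) ⟨c, Subgroup.mem_zpowers c⟩) : C) : G) =
            h * ((ψ x ^ n) ⟨c, Subgroup.mem_zpowers c⟩ : G) * h⁻¹ := rfl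
        rw [h2, ih, ← conj_zpow, hhc, ← zpow_mul, pow_succ, mul_comm]
    have hord : orderOf (ψ x) = p - 1 := by
      have hgo : orderOf g = p - 1 := by
        rw [orderOf_eq_card_of_forall_mem_zpowers hg, Nat.card_eq_fintype_card, ZMod.card_units]
      rw [← hgo]
      apply Nat.dvd_antisymm
      · apply orderOf_dvd_of_pow_eq_one
        apply MulEquiv.ext
        rintro ⟨y, m, rfl⟩
        have h3 := hxn (orderOf g)
        have h4 : ((ψ x ^ orderOf g) ⟨c, Subgroup.mem_zpowers c⟩) = ⟨c, Subgroup.mem_zpowers c⟩ := by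
          apply Subtype.ext
          rw [h3]
          change c ^ (t ^ orderOf g) = c
          have h5 : ((t ^ orderOf g : ℤ) : ZMod p) = ((1 : ℤ) : ZMod p) := by
            push_cast
            rw [ht, ← Units.val_pow_eq_pow_val, pow_orderOf_eq_one]
            rfl
          conv_rhs => rw [← zpow_one c]
          rw [← sub_eq_zero, ← Int.cast_sub, ZMod.intCast_zmod_eq_zero_iff_dvd] at h5
          rw [← mul_inv_eq_one, ← zpow_sub, ← orderOf_dvd_iff_zpow_eq_one, hc]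
          exact h5
        have h6 : (⟨(fun i : ℤ => c ^ i) m, ⟨m, rfl⟩⟩ : C) = (⟨c, Subgroup.mem_zpowers c⟩ : C) ^ m := Subtype.ext rfl
        rw [h6, map_zpow, h4]
        rfl
      · rw [orderOf_dvd_iff_pow_eq_one]
        have h3 := hxn (orderOf (ψ x))
        rw [pow_orderOf_eq_one] at h3
        have h4 : c = c ^ (t ^ orderOf (ψ x)) := h3
        have h5 : ((t ^ orderOf (ψ x) : ℤ) : ZMod p) = ((1 : ℤ) : ZMod p) := by
          rw [← sub_eq_zero, ← Int.cast_sub, ZMod.intCast_zmod_eq_zero_iff_dvd, ← hc, orderOf_dvd_iff_zpow_eq_one,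
            zpow_sub, zpow_one, ← h4, mul_inv_cancel]
        apply Units.ext
        rw [Units.val_pow_eq_pow_val, ← ht]
        push_cast at h5 ⊢
        rw [h5]
    rw [← hord]
    have hxr : ψ x ∈ ψ.range := ⟨x, rfl⟩
    have h7 : orderOf (⟨ψ x, hxr⟩ : ψ.range) ∣ Nat.card ψ.range := orderOf_dvd_natCard _
    rwa [Subgroup.orderOf_mk] at h7

/-- Let p be an odd prime, S a Sylow p-subgroup of the finite group G, J(S) the subgroup generated by the abelian subgroups of S of largest order, and suppose Z(J(S)) does not control strong fusion in G. Put H = N_G(Z(J(S))). Then the group F(p) of upper triangular 3 × 3 matrices (a b c; 0 a⁻¹ d; 0 0 1) over the field with p elements is involved in H, and Z(J(S)) contains a subgroup C of order p with |N_H(C) : C_H(C)| = p − 1. -/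
theorem result {G : Type*} [Group G] [Finite G] {p : ℕ} [Fact p.Prime] (hp : p ≠ 2) (S : Sylow p G) (h : ¬ Cfsg.ControlsStrongFusion p (Cfsg.centerThompsonAOf (S : Subgroup G))) (H : Subgroup G) (hH : H = Subgroup.normalizer ((Cfsg.centerThompsonAOf (S : Subgroup G)) : Set G)) : Cfsg.Involves ↥(Cfsg.fOver (ZMod p)) ↥H ∧ ∃ C : Subgroup G, C ≤ (Cfsg.centerThompsonAOf (S : Subgroup G)) ∧ Nat.card C = p ∧ (H ⊓ Subgroup.centralizer (C : Set G)).relIndex (H ⊓ Subgroup.normalizer (C : Set G)) = p - 1 := by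
  subst hH
  obtain ⟨g, hg⟩ := IsCyclic.exists_generator (α := (ZMod p)ˣ)
  obtain ⟨t, ht⟩ : ∃ t : ℤ, ((t : ℤ) : ZMod p) = g := ⟨((g : ZMod p).val : ℤ), by simp⟩
  obtain ⟨s, hs⟩ : ∃ s : ℤ, ((s : ℤ) : ZMod p) = (g⁻¹ : (ZMod p)ˣ) := ⟨(((g⁻¹ : (ZMod p)ˣ) : ZMod p).val : ℤ), by
    rw [Int.cast_natCast, ZMod.natCast_zmod_val]⟩
  have hts' : ((t : ℤ) : ZMod p) * ((s : ℤ) : ZMod p) = 1 := by rw [ht, hs]; exact g.mul_inv
  have hts : ((t * s : ℤ) : ZMod p) = 1 := by push_cast; exact hts'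
  have hpw : ∀ x : (ZMod p)ˣ, ∃ k : ℕ, g ^ k = x := by
    intro x
    obtain ⟨k, hk⟩ := mem_powers_iff_mem_zpowers.2 (hg x)
    exact ⟨k, hk⟩
  obtain ⟨k₀, hk₀⟩ := hpw (-1)
  have hk₀' : ((t ^ k₀ : ℤ) : ZMod p) = -1 := by
    push_cast
    rw [ht, ← Units.val_pow_eq_pow_val, hk₀]
    rfl
  have hSS : Cfsg.IsStronglyClosed (S : Subgroup G) (S : Subgroup G) := ⟨le_rfl, fun _ _ _ h => h⟩
  have hWS : Cfsg.centerThompsonAOf (S : Subgroup G) ≤ (S : Subgroup G) := by
    have h2 := W_le (induced_isConj ZJ_char G) S.2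
    rwa [induced_ZJ] at h2
  have hnf : ¬ FusIn (S : Subgroup G) ⊤ {Subgroup.normalizer (Cfsg.centerThompsonAOf (S : Subgroup G) : Set G)} := by
    intro hf
    apply h
    refine ⟨S, hWS, ?_⟩
    intro A hA
    rw [fusIn_iff_single] at hf
    refine ⟨hA, fun g hg => ?_⟩
    obtain ⟨x, hx, hxa⟩ := hf A g (Subgroup.mem_top _) hA hg
    exact ⟨x, hx, fun a ha => (hxa a ha).symm⟩
  have hFD := (main_ZJ_fd hp hts' hk₀' S hSS).resolve_left hnf
  obtain ⟨x, hx, w, hw, hw1, hxw⟩ := (main_ZJ hp hts S hSS).resolve_left hnf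
  refine ⟨involves_of_fd hts' ?_ hFD, ?_⟩
  · intro x hx
    obtain ⟨k, hk⟩ := hpw (Units.mk0 x hx)
    refine ⟨k, ?_⟩
    rw [ht, ← Units.val_pow_eq_pow_val, hk]
    rfl
  · obtain ⟨k, hk⟩ := IsPGroup.iff_orderOf.1 S.2 ⟨w, hWS hw⟩
    rw [Subgroup.orderOf_mk] at hk
    have hk0 : k ≠ 0 := by
      rintro rfl
      rw [pow_zero, orderOf_eq_one_iff] at hk
      exact hw1 hk
    set c := w ^ p ^ (k - 1) with hc
    have hco : orderOf c = p := by
      rw [hc, orderOf_pow_of_dvd (pow_ne_zero _ (Fact.out : p.Prime).ne_zero), hk]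
      · rw [Nat.pow_div (Nat.sub_le k 1) (Fact.out : p.Prime).pos, Nat.sub_sub_self (Nat.pos_of_ne_zero hk0), pow_one]
      · rw [hk]; exact pow_dvd_pow p (Nat.sub_le k 1)
    have hxc : x * c * x⁻¹ = c ^ t := by
      rw [hc, ← conj_pow, hxw, ← zpow_natCast, ← zpow_natCast, ← zpow_mul, ← zpow_mul, mul_comm]
    refine ⟨Subgroup.zpowers c, ?_, ?_, relIndex_aux hco hx hxc hg ht⟩
    · rw [Subgroup.zpowers_le]
      exact pow_mem hw _
    · rw [Nat.card_zpowers, hco]

end Cfsg.Agent.S2793
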