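import Cfsg.Statements.S2803
import Cfsg.Agent.LibLE9

set_option autoImplicit false
open Cfsg

namespace Cfsg.Agent.S2803




/-- Let L be a finite group and p a prime with C_L(O_p(L)) ≤ O_p(L), T a Sylow p-subgroup, and Y the largest p-reduced normal subgroup of L. Put T_L = C_T(Y) and L_T = N_L(T_L). Then L = L_T · C_L(Y) (elementwise), T_L = O_p(L_T), and Y = Ω₁(Z(T_L)). -/
theorem result {L : Type*} [Group L] [Finite L] {p : ℕ} [Fact p.Prime] (hchar : Subgroup.centralizer (Cfsg.pCore p L : Set L) ≤ Cfsg.pCore p L) (T : Sylow p L) (Y : Subgroup L) (hY : (Cfsg.IsPReducedNormal p Y ∧ ∀ V : Subgroup L, Cfsg.IsPReducedNormal p V → V ≤ Y)) (TL : Subgroup L) (hTL : TL = (T : Subgroup L) ⊓ Subgroup.centralizer (Y : Set L)) : (∀ g : L, ∃ a ∈ Subgroup.normalizer (TL : Set L), ∃ c ∈ Subgroup.centralizer (Y : Set L), g = a * c) ∧ (Cfsg.pCore p ↥(Subgroup.normalizer (TL : Set L))).map (Subgroup.normalizer (TL : Set L)).subtype = TL ∧ Y = Cfsg.omegaOne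 p (TL ⊓ Subgroup.centralizer (TL : Set L)) := by
  obtain ⟨hY1, hY2⟩ := hY
  have hYr := CfsgLib.LE.pRed_top_iff.2 hY1
  have hYn : Y.Normal := hY1.1
  have hCn : (Subgroup.centralizer (Y : Set L)).Normal := inferInstance
  have hOT : Cfsg.pCore p L ≤ T := CfsgLib.LE.pCore_le_sylow T
  have hOc : Cfsg.pCore p L ≤ Subgroup.centralizer (Y : Set L) := by
    have := hYr.pCoreOf_le_centralizer
    rwa [CfsgLib.LE.pCoreOf_top] at this
  have hYO : Y ≤ Cfsg.pCore p L := by
    have := hYr.le_pCoreOf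
    rwa [CfsgLib.LE.pCoreOf_top] at this
  have hTLs : CfsgLib.LE.IsSyl p TL (Subgroup.centralizer (Y : Set L)) := by
    rw [hTL]; exact CfsgLib.LE.sylow_inf_normal' T _
  set LT := Subgroup.normalizer (TL : Set L) with hLT
  have hOTL : Cfsg.pCore p L ≤ TL := by rw [hTL]; exact le_inf hOT hOc
  have h1 : ∀ g : L, ∃ a ∈ LT, ∃ c ∈ Subgroup.centralizer (Y : Set L), g = a * c := by
    intro g
    have h2 : CfsgLib.LE.IsSyl p (TL.map (MulAut.conj g⁻¹).toMonoidHom) (Subgroup.centralizer (Y : Set L)) := by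
      have h3 := hTLs.map_conj g⁻¹
      have h4 : (Subgroup.centralizer (Y : Set L)).map (MulAut.conj g⁻¹).toMonoidHom =
        Subgroup.centralizer (Y : Set L) := CfsgLib.LE.map_conj_of_normal _ _
      rwa [h4] at h3
    obtain ⟨c, hc, hc2⟩ := hTLs.conj_of_isSyl h2
    refine ⟨g * c, ?_, c⁻¹, Subgroup.inv_mem _ hc, by group⟩
    rw [CfsgLib.LE.mem_normalizer_iff_map_conj, ← CfsgLib.LE.map_conj_mul, hc2, CfsgLib.LE.map_conj_mul,
      mul_inv_cancel, CfsgLib.LE.map_conj_one]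
  have h1' : (⊤ : Subgroup L) ≤ LT ⊔ ((⊤ : Subgroup L) ⊓ Subgroup.centralizer (Y : Set L)) := by
    intro g _
    obtain ⟨a, ha, c, hc, rfl⟩ := h1 g
    exact Subgroup.mul_mem_sup ha ⟨trivial, hc⟩
  have hpow : ∀ K : Subgroup L, IsPGroup p ↥K → ∀ x ∈ K, ∃ n : ℕ, x ^ (p ^ n) ∈ Subgroup.centralizer (Y : Set L) := by
    intro K hK x hx
    obtain ⟨n, hn⟩ := hK ⟨x, hx⟩
    refine ⟨n, ?_⟩
    have h2 : x ^ p ^ n = 1 := congrArg Subtype.val hn
    rw [h2]; exact Subgroup.one_mem _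
  have h2 : (Cfsg.pCore p ↥LT).map LT.subtype = TL := by
    apply le_antisymm
    · change Cfsg.pCoreOf p LT ≤ TL
      have h3 : Cfsg.pCoreOf p LT ≤ Subgroup.centralizer (Y : Set L) := by
        refine hYr.le_centralizer_of_factor le_top h1' (CfsgLib.LE.le_normalizer_pCoreOf p LT) le_top ?_
        exact hpow _ (CfsgLib.LE.pCoreOf_isPGroup p LT)
      have h4 : CfsgLib.LE.IsSyl p TL (LT ⊓ Subgroup.centralizer (Y : Set L)) :=
        hTLs.mono (le_inf Subgroup.le_normalizer hTLs.le) inf_le_right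
      apply h4.le_of_normal (le_inf (CfsgLib.LE.pCoreOf_le p LT) h3)
        (inf_le_left.trans (CfsgLib.LE.le_normalizer_pCoreOf p LT)) (CfsgLib.LE.pCoreOf_isPGroup p LT)
    · exact CfsgLib.LE.le_pCoreOf Subgroup.le_normalizer le_rfl hTLs.isPGroup
  refine ⟨h1, h2, ?_⟩
  set X := Cfsg.omegaOne p (TL ⊓ Subgroup.centralizer (TL : Set L)) with hX
  have hYX : Y ≤ X := by
    intro y hy
    refine CfsgLib.LE.mem_omegaOne (Subgroup.mem_inf.2 ⟨hOTL (hYO hy), ?_⟩) (hY1.2.1.2 y hy)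
    rw [Subgroup.mem_centralizer_iff]
    intro t ht
    exact ((Subgroup.mem_centralizer_iff.1 (hTLs.le ht)) y hy).symm
  apply le_antisymm hYX
  have hcomm : ∀ x ∈ (TL ⊓ Subgroup.centralizer (TL : Set L)), ∀ y ∈ (TL ⊓ Subgroup.centralizer (TL : Set L)),
      x * y = y * x := fun x hx y hy => (Subgroup.mem_centralizer_iff.1 hy.2 x hx.1)
  have hXle : X ≤ TL := (CfsgLib.LE.omegaOne_le p _).trans inf_le_left
  have hXr : CfsgLib.LE.PRed p X LT := by
    refine ⟨hXle.trans Subgroup.le_normalizer, ?_, ?_, ?_⟩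
    · refine le_trans ?_ (CfsgLib.LE.normalizer_le_normalizer_omegaOne p _)
      exact CfsgLib.LE.le_normalizer_inf le_rfl (CfsgLib.LE.le_normalizer_centralizer le_rfl)
    · rw [CfsgLib.LE.isElementaryAbelian_iff]
      refine ⟨fun x hx y hy => hcomm x (CfsgLib.LE.omegaOne_le p _ hx) y (CfsgLib.LE.omegaOne_le p _ hy), ?_⟩
      intro x hx
      exact ((CfsgLib.LE.mem_omegaOne_iff hcomm).1 hx).2
    · intro K hK hKn hKx
      have h3 : K ≤ Subgroup.centralizer (Y : Set L) := by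
        refine hYr.le_centralizer_of_factor le_top h1' hKn le_top ?_
        intro x hx
        obtain ⟨n, hn⟩ := hKx x hx
        exact ⟨n, Subgroup.centralizer_le hYX hn⟩
      have h4 : CfsgLib.LE.IsSyl p TL (LT ⊓ Subgroup.centralizer (Y : Set L)) :=
        hTLs.mono (le_inf Subgroup.le_normalizer hTLs.le) inf_le_right
      have h5 := h4.inf (M := K) (le_inf hK h3) (inf_le_left.trans hKn)
      apply h5.le_of_pow_mem hKx
      refine inf_le_left.trans ?_
      rw [Subgroup.le_centralizer_iff]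
      intro x hx
      exact (CfsgLib.LE.omegaOne_le p _ hx).2
  have hTLT : (T : Subgroup L) ≤ LT := by
    have : (T : Subgroup L) ≤ Subgroup.normalizer ((T : Subgroup L) ⊓ Subgroup.centralizer (Y : Set L) : Subgroup L) :=
      CfsgLib.LE.le_normalizer_inf Subgroup.le_normalizer (by rw [Subgroup.normalizer_eq_top]; exact le_top)
    rw [hLT, hTL]
    exact this
  exact Subgroup.subset_normalClosure.trans (hY2 _ (CfsgLib.LE.isPReducedNormal_normalClosure hchar T hTLT hXr))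

end Cfsg.Agent.S2803
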