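import Cfsg.Statements.S2810
import Cfsg.Agent.LibLE9

set_option autoImplicit false
open Cfsg

namespace Cfsg.Agent.S2810

theorem aux {H : Type*} [Group H] (A B M : Subgroup H) [hB : B.Normal] :
    ⁅A, M⁆ ≤ B ↔ M ≤ (Subgroup.centralizer ((A.map (QuotientGroup.mk' B) : Subgroup (H ⧸ B)) : Set (H ⧸ B))).comap (QuotientGroup.mk' B) := by
  rw [← Subgroup.map_le_iff_le_comap, ← Subgroup.commutator_eq_bot_iff_le_centralizer, Subgroup.commutator_comm,
    ← Subgroup.map_commutator, Subgroup.map_eq_bot_iff, QuotientGroup.ker_mk']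


/-- Let H be a finite group of characteristic p and L a subgroup of H centralizing every factor of some H-invariant chain 1 = A₀ ≤ A₁ ≤ … ≤ Aₙ = O_p(H) of normal subgroups (that is, [A_{i+1}, L] ≤ Aᵢ for each i). Then L ≤ O_p(H). -/
theorem result {H : Type*} [Group H] [Finite H] {p : ℕ} [Fact p.Prime] (hchar : Subgroup.centralizer (Cfsg.pCore p H : Set H) ≤ Cfsg.pCore p H) (L : Subgroup H) (n : ℕ) (A : Fin (n + 1) → Subgroup H) (h0 : A 0 = ⊥) (hn : A (Fin.last n) = Cfsg.pCore p H) (hmono : Monotone A) (hnorm : ∀ i, (A i).Normal) (hcent : ∀ i : Fin n, ⁅A i.succ, L⁆ ≤ A i.castSucc) : L ≤ Cfsg.pCore p H := by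
  let M : Subgroup H := ⨅ i : Fin n, (Subgroup.centralizer (((A i.succ).map (QuotientGroup.mk' (A i.castSucc)) : Subgroup (H ⧸ A i.castSucc)) : Set (H ⧸ A i.castSucc))).comap (QuotientGroup.mk' (A i.castSucc))
  have hLM : L ≤ M := le_iInf fun i => (aux _ _ _).1 (hcent i)
  have hMn : M.Normal := by
    apply Subgroup.normal_iInf_normal
    intro i
    have := hnorm i.succ
    have h2 : ((A i.succ).map (QuotientGroup.mk' (A i.castSucc))).Normal := Subgroup.Normal.map this _ (QuotientGroup.mk'_surjective _)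
    infer_instance
  have hMc : ∀ i : Fin n, ⁅A i.succ, M⁆ ≤ A i.castSucc := fun i => (aux _ _ _).2 (iInf_le _ i)
  -- the iterated commutators of the p-core with M vanish
  have h1 : ∀ i : ℕ, ∀ j : Fin (n + 1), (j : ℕ) + i = n →
      Cfsg.iterCommutator (Cfsg.pCore p H) M i ≤ A j := by
    intro i
    induction i with
    | zero =>
      intro j hj
      have : j = Fin.last n := Fin.ext (by simpa using hj)
      rw [this, hn]; exact le_rfl
    | succ i ih =>
      intro j hj
      have hj' : (j : ℕ) < n := by omega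
      have h2 := ih ((⟨j, hj'⟩ : Fin n).succ) (by simp; omega)
      change ⁅Cfsg.iterCommutator (Cfsg.pCore p H) M i, M⁆ ≤ A j
      refine (Subgroup.commutator_mono h2 le_rfl).trans ((hMc ⟨j, hj'⟩).trans (le_of_eq ?_))
      congr 1
  have h2 : Cfsg.iterCommutator (Cfsg.pCore p H) M n = ⊥ := by
    rw [eq_bot_iff, ← h0]
    exact h1 n 0 (by simp)
  have hMp : IsPGroup p ↥M := by
    apply CfsgLib.LE.isPGroup_of_forall_coprime
    intro x hx hco
    have h1 := CfsgLib.LE.commute_of_iterCommutator (CfsgLib.LE.pCore_isPGroup p H)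
      (by rw [Subgroup.normalizer_eq_top]; exact le_top) h2 hx hco
    have h2 : x ∈ Cfsg.pCore p H := by
      apply hchar
      rw [Subgroup.mem_centralizer_iff]
      intro y hy
      have := h1 y hy
      calc y * x = (x * y * x⁻¹) * x := by rw [this]
        _ = x * y := by group
    exact CfsgLib.LE.eq_one_of_coprime_of_isPGroup (CfsgLib.LE.pCore_isPGroup p H) h2 hco
  exact hLM.trans (CfsgLib.LE.le_pCore hMn hMp)

end Cfsg.Agent.S2810
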