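import Cfsg.Statements.S2813
import Cfsg.Agent.LibLE11

set_option autoImplicit false
open Cfsg

namespace Cfsg.Agent.S2813




/-- Let K be a subgroup of the finite group H with O_p(K) = 1 and Y a p-subgroup of N_H(K) with [K, Y, Y] = 1. Then [K, Y] = 1. -/
theorem result {H : Type*} [Group H] [Finite H] {p : ℕ} [Fact p.Prime] (K : Subgroup H) (hO : Cfsg.pCore p ↥K = ⊥) (Y : Subgroup H) (hY : IsPGroup p ↥Y) (hYK : Y ≤ Subgroup.normalizer (K : Set H)) (hq : ⁅⁅K, Y⁆, Y⁆ = ⊥) : ⁅K, Y⁆ = ⊥ := by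
  set N := ⁅K, Y⁆ with hN
  have hNK : N ≤ K := by
    rw [hN]; exact Subgroup.le_normalizer_iff_commutator_le_left.1 hYK
  have hKN : K ≤ Subgroup.normalizer (N : Set H) := Subgroup.normalizer_commutator_ge_left K Y
  have hNY : N ≤ Subgroup.normalizer (Y : Set H) := by
    have h1 : N ≤ Subgroup.centralizer (Y : Set H) := by
      rwa [← Subgroup.commutator_eq_bot_iff_le_centralizer]
    exact h1.trans (Subgroup.centralizer_le_normalizer _)
  set A := Cfsg.pCoreOf p (N ⊔ Y) with hA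
  have hYA : Y ≤ A := CfsgLib.LE.le_pCoreOf le_sup_right (sup_le hNY Subgroup.le_normalizer) hY
  have hKNY : K ≤ Subgroup.normalizer ((N ⊔ Y : Subgroup H) : Set H) := by
    rw [CfsgLib.LE.le_normalizer_iff]
    intro k hk x hx
    rw [CfsgLib.LE.mem_sup_of_le_normalizer hNY] at hx
    obtain ⟨n, hn, y, hy, rfl⟩ := hx
    have h1 : k * n * k⁻¹ ∈ N := (Subgroup.mem_normalizer_iff.1 (hKN hk) n).1 hn
    have h2 : k * y * k⁻¹ * y⁻¹ ∈ N := Subgroup.commutator_mem_commutator hk hy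
    have h3 : k * (n * y) * k⁻¹ = (k * n * k⁻¹) * (k * y * k⁻¹ * y⁻¹) * y := by group
    rw [h3]
    exact Subgroup.mul_mem_sup (N.mul_mem h1 h2) hy
  have hKA : K ≤ Subgroup.normalizer (A : Set H) := hKNY.trans (CfsgLib.LE.normalizer_le_normalizer_pCoreOf p _)
  have hNA : N ≤ A := by
    calc N ≤ ⁅K, A⁆ := Subgroup.commutator_mono le_rfl hYA
      _ ≤ A := by rw [Subgroup.commutator_comm]; exact Subgroup.le_normalizer_iff_commutator_le_left.1 hKA
  have h1 : N ≤ Cfsg.pCoreOf p K :=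
    CfsgLib.LE.le_pCoreOf hNK hKN ((CfsgLib.LE.pCoreOf_isPGroup p _).to_le hNA)
  have h2 : Cfsg.pCoreOf p K = ⊥ := by
    unfold Cfsg.pCoreOf
    rw [hO, Subgroup.map_bot]
  rw [h2] at h1
  exact le_bot_iff.1 h1

end Cfsg.Agent.S2813
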