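import Cfsg.Statements.S2814
import Cfsg.Agent.LibLEM3

set_option autoImplicit false
open Cfsg

namespace Cfsg.Agent.S2814

open Cfsg Subgroup in
theorem sInf_isSubnormal {G : Type*} [Group G] [Finite G] (𝒮 : Set (Subgroup G)) (h : ∀ K ∈ 𝒮, K.IsSubnormal) :
    (sInf 𝒮).IsSubnormal := by
  have hf : 𝒮.Finite := Set.toFinite _
  induction 𝒮, hf using Set.Finite.induction_on with
  | empty => rw [sInf_empty]; exact Subgroup.IsSubnormal.top
  | insert _ _ ih =>
    rw [sInf_insert]
    exact (h _ (Set.mem_insert _ _)).inf (ih (fun K hK => h K (Set.mem_insert_of_mem _ hK)))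


/-- Let A be a subgroup of the finite group H and K the subnormal closure of A (intersection of the subnormal subgroups containing A). Then K is the normal closure of A inside K and N_H(A) ≤ N_H(K); K = A·O^p(K), O^p(K) being generated by the elements of K of order prime to p; and if A is a p-group, O^p(K) = [O^p(K), A]. -/
theorem result {H : Type*} [Group H] [Finite H] {p : ℕ} [Fact p.Prime] (A : Subgroup H) (K : Subgroup H) (hK : K = Cfsg.subnormalClosure A) : (Subgroup.normalClosure ((A.subgroupOf K : Subgroup ↥K) : Set ↥K)).map K.subtype = K ∧ Subgroup.normalizer (A : Set H) ≤ Subgroup.normalizer (K : Set H) ∧ A ⊔ (Cfsg.pResidual p ↥K).map K.subtype = K ∧ (IsPGroup p ↥A → ⁅(Cfsg.pResidual p ↥K).map K.subtype, A⁆ = (Cfsg.pResidual p ↥K).map K.subtype) := by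
  have hAK : A ≤ K := by
    rw [hK]; exact le_sInf fun K' hK' => hK'.1
  have hKsn : K.IsSubnormal := by
    rw [hK]; exact sInf_isSubnormal _ (fun K' hK' => hK'.2)
  have hmin : ∀ K' : Subgroup H, A ≤ K' → K'.IsSubnormal → K ≤ K' := by
    intro K' h1 h2
    rw [hK]; exact sInf_le ⟨h1, h2⟩
  have hncl : CfsgLib.LE.nclOf A K = K := by
    apply le_antisymm (CfsgLib.LE.nclOf_le A K)
    apply hmin _ (CfsgLib.LE.le_nclOf hAK)
    have h1 : (Subgroup.normalClosure ((A.subgroupOf K : Subgroup ↥K) : Set ↥K)).IsSubnormal :=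
      (inferInstance : (Subgroup.normalClosure ((A.subgroupOf K : Subgroup ↥K) : Set ↥K)).Normal).isSubnormal
    exact h1.trans' hKsn
  have hsup := CfsgLib.LE.sup_resOf_eq_of_nclOf (p := p) hAK hncl
  refine ⟨hncl, ?_, by rw [sup_comm]; exact hsup, ?_⟩
  · intro g hg
    have h1 : K ≤ K.map (MulAut.conj g⁻¹).toMonoidHom := by
      apply hmin
      · have := Subgroup.map_mono (f := (MulAut.conj g⁻¹).toMonoidHom) hAK
        rwa [CfsgLib.LE.mem_normalizer_iff_map_conj.1 (Subgroup.inv_mem _ hg)] at this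
      · exact hKsn.map (MulAut.conj g⁻¹).surjective
    rw [CfsgLib.LE.mem_normalizer_iff_map_conj]
    have h2 := Subgroup.map_mono (f := (MulAut.conj g).toMonoidHom) h1
    rw [CfsgLib.LE.map_conj_mul, mul_inv_cancel, CfsgLib.LE.map_conj_one] at h2
    exact Subgroup.eq_of_le_of_card_ge h2 (by rw [CfsgLib.LE.card_map_conj])
  · intro hAp
    set R := (pResidual p ↥K).map K.subtype with hR
    have hKR : K ≤ Subgroup.normalizer (R : Set H) := CfsgLib.LE.le_normalizer_resOf K
    have hRK : R ≤ K := CfsgLib.LE.resOf_le K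
    set R₁ := ⁅R, A⁆ with hR₁
    have hR₁R : R₁ ≤ R := Subgroup.le_normalizer_iff_commutator_le_left.1 (hAK.trans hKR)
    have hRR₁ : R ≤ Subgroup.normalizer (R₁ : Set H) := Subgroup.normalizer_commutator_ge_left _ _
    have hAR₁ : A ≤ Subgroup.normalizer (R₁ : Set H) := Subgroup.normalizer_commutator_ge_right _ _
    have hKR₁ : K ≤ Subgroup.normalizer (R₁ : Set H) := by rw [← hsup]; exact sup_le hRR₁ hAR₁
    have h1 : K ≤ Subgroup.normalizer ((R₁ ⊔ A : Subgroup H) : Set H) := by
      rw [← hsup]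
      refine sup_le ?_ (le_sup_right.trans Subgroup.le_normalizer)
      rw [Subgroup.le_normalizer_iff_commutator_le_right]
      refine CfsgLib.LE.commutator_sup_le ?_ ?_ ?_ ?_
      · exact (Subgroup.le_normalizer_iff_commutator_le_right.1 hRR₁).trans le_sup_left
      · exact le_sup_left
      · exact le_sup_left.trans Subgroup.le_normalizer
      · exact le_sup_right.trans Subgroup.le_normalizer
    have h2 : K ≤ R₁ ⊔ A := by
      conv_lhs => rw [← hncl]
      exact CfsgLib.LE.nclOf_le_of_normal le_sup_right h1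
    apply le_antisymm hR₁R
    apply CfsgLib.LE.resOf_le_of_pow_mem
    intro x hx
    exact CfsgLib.LE.pow_mem_of_mem_sup hAp hAR₁ (h2 hx)

end Cfsg.Agent.S2814
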