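import Cfsg.Statements.S2815
import Cfsg.Agent.LibLEF2

set_option autoImplicit false
open Cfsg

namespace Cfsg.Agent.S2815




/-- Let H be a finite group and p a prime dividing its order with O_p(H) = 1, and suppose K = O^p(H) (generated by the elements of order prime to p) is quasisimple. Then K = F*(H); for every nontrivial p-subgroup Y of H, K = [K, Y] and K lies in the subgroup generated by the K-conjugates of Y; every normal subgroup of H not containing K has order prime to p; and H is p-irreducible. -/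
theorem result {H : Type*} [Group H] [Finite H] {p : ℕ} [Fact p.Prime] (hp : p ∣ Nat.card H) (hO : Cfsg.pCore p H = ⊥) (hq : Cfsg.IsQuasisimple ↥(Cfsg.pResidual p H)) : Cfsg.pResidual p H = Cfsg.generalizedFittingSubgroup H ∧ (∀ Y : Subgroup H, IsPGroup p ↥Y → Y ≠ ⊥ → ⁅Cfsg.pResidual p H, Y⁆ = Cfsg.pResidual p H ∧ Cfsg.pResidual p H ≤ ⨆ k : ↥(Cfsg.pResidual p H), Y.map (MulAut.conj (k : H)).toMonoidHom) ∧ (∀ C : Subgroup H, C.Normal → ¬ Cfsg.pResidual p H ≤ C → (Nat.card ↥C).Coprime p) ∧ Cfsg.IsPIrreducible p H := by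
  have hp' : Fact p.Prime := inferInstance
  set K := pResidual p H with hK
  have hKn : K.Normal := inferInstance
  have hperf : ⁅K, K⁆ = K := CfsgLib.Comp.quasisimple_commutator hq
  have hcomp : IsComponent K := ⟨hKn.isSubnormal, hq⟩
  have hidx : ∃ k, K.index ∣ p ^ k := by
    obtain ⟨k, hk⟩ := IsPGroup.iff_card.1 (CfsgLib.LE.isPGroup_quotient_pResidual (p := p) (G := H))
    exact ⟨k, by rw [Subgroup.index, hk]⟩
  obtain ⟨k, hk⟩ := hidx
  have hlay : layer H ≤ K := CfsgLib.PQ4.layer_le_of_index (p := p) hk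
  have hfit : fittingSubgroup H ≤ K := by
    intro x hx
    apply CfsgLib.LE.mem_pResidual_of_coprime
    exact Nat.Coprime.coprime_dvd_left (Subgroup.orderOf_dvd_natCard _ hx) (CfsgLib.LE.coprime_card_fitting hO)
  have hKF : K = generalizedFittingSubgroup H := by
    apply le_antisymm
    · exact (CfsgLib.Comp.component_le_layer hcomp).trans CfsgLib.Comp.layer_le_gfitting
    · exact sup_le hlay hfit
  have hCK : ∀ C : Subgroup H, ⁅K, C⁆ ≤ Subgroup.centralizer (K : Set H) → C ≤ Subgroup.centralizer (K : Set H) := by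
    intro C hC
    have h1 : ⁅⁅K, C⁆, K⁆ = ⊥ := Subgroup.commutator_eq_bot_iff_le_centralizer.2 hC
    have h2 : ⁅⁅C, K⁆, K⁆ = ⊥ := by rw [Subgroup.commutator_comm C K]; exact h1
    have h3 : ⁅⁅K, K⁆, C⁆ = ⊥ := CfsgLib.LE.three_subgroups h1 h2
    rw [hperf, Subgroup.commutator_comm] at h3
    exact Subgroup.commutator_eq_bot_iff_le_centralizer.1 h3
  have hnormal : ∀ N : Subgroup H, N ≤ K → K ≤ Subgroup.normalizer (N : Set H) → N = K ∨ N ≤ Subgroup.centralizer (K : Set H) := by
    intro N hN hn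
    have hn' : (N.subgroupOf K).Normal := CfsgLib.LE.subgroupOf_normal_of_le_normalizer hn
    rcases CfsgLib.Comp.quasisimple_normal hq (N.subgroupOf K) with h1 | h1
    · exact Or.inl (le_antisymm hN (Subgroup.subgroupOf_eq_top.1 h1))
    · right
      intro x hx
      rw [Subgroup.mem_centralizer_iff]
      intro y hy
      have h2 := h1 (show (⟨x, hN hx⟩ : ↥K) ∈ N.subgroupOf K from Subgroup.mem_subgroupOf.2 hx)
      exact congrArg Subtype.val (Subgroup.mem_center_iff.1 h2 ⟨y, hy⟩)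
  have hY : ∀ Y : Subgroup H, IsPGroup p ↥Y → Y ≠ ⊥ → ⁅K, Y⁆ = K := by
    intro Y hYp hY1
    have h1 : ⁅K, Y⁆ ≤ K := Subgroup.commutator_le_left K Y
    rcases hnormal _ h1 (Subgroup.normalizer_commutator_ge_left _ _) with h2 | h2
    · exact h2
    · exfalso
      have h3 := hCK Y h2
      rw [hKF] at h3
      exact hY1 (CfsgLib.LE.eq_bot_of_le_centralizer_gF hO hYp h3)
  have hC : ∀ C : Subgroup H, C.Normal → ¬ K ≤ C → (Nat.card ↥C).Coprime p := by
    intro C hCn hKC
    have h1 : ⁅K, C⁆ ≤ Subgroup.centralizer (K : Set H) := by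
      rcases hnormal (K ⊓ C) inf_le_left
        (CfsgLib.LE.le_normalizer_inf Subgroup.le_normalizer (by rw [Subgroup.normalizer_eq_top]; exact le_top)) with h2 | h2
      · exact absurd (h2.ge.trans inf_le_right) hKC
      · exact (Subgroup.commutator_le_inf K C).trans h2
    have h2 := hCK C h1
    by_contra hcop
    rw [CfsgLib.LE.coprime_iff_not_dvd', not_not] at hcop
    obtain ⟨S, hS⟩ := CfsgLib.LE.exists_isSyl p C
    have hS1 : S ≠ ⊥ := by
      rintro rfl
      have := hS.card_eq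
      rw [Subgroup.card_bot] at this
      have h3 : (Nat.card ↥C).factorization p = 0 := by
        by_contra h4
        have := Nat.one_lt_pow h4 (Fact.out : p.Prime).one_lt
        omega
      have h4 := (Fact.out : p.Prime).factorization_pos_of_dvd (Nat.card_pos.ne') hcop
      omega
    rw [hKF] at h2
    exact hS1 (CfsgLib.LE.eq_bot_of_le_centralizer_gF hO hS.isPGroup (hS.le.trans h2))
  refine ⟨hKF, fun Y hYp hY1 => ⟨hY Y hYp hY1, ?_⟩, hC, ?_, ?_⟩
  · have h1 := hY Y hYp hY1
    conv_lhs => rw [← h1]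
    rw [Subgroup.commutator_le]
    intro k hk y hy
    have h2 : ∀ k ∈ K, Y.map (MulAut.conj k).toMonoidHom ≤ ⨆ k : ↥K, Y.map (MulAut.conj (k : H)).toMonoidHom :=
      fun k hk => le_iSup (fun k : ↥K => Y.map (MulAut.conj (k : H)).toMonoidHom) ⟨k, hk⟩
    have h3 : k * y * k⁻¹ ∈ ⨆ k : ↥K, Y.map (MulAut.conj (k : H)).toMonoidHom := h2 k hk ⟨y, hy, rfl⟩
    have h4 : y ∈ ⨆ k : ↥K, Y.map (MulAut.conj (k : H)).toMonoidHom := h2 1 K.one_mem ⟨y, hy, by simp⟩
    rw [commutatorElement_def]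

    exact Subgroup.mul_mem _ h3 (Subgroup.inv_mem _ h4)
  · intro hcl
    obtain ⟨P⟩ : Nonempty (Sylow p H) := inferInstance
    have h1 := CfsgLib.LE.le_pCore (hcl P) P.isPGroup'
    rw [hO, le_bot_iff] at h1
    exact (Sylow.ne_bot_of_dvd_card P hp) h1
  · intro N hN hNc
    by_contra hcon
    apply hNc
    have h1 := hC N hN hcon
    have h2 : CfsgLib.LE.IsSyl p (⊥ : Subgroup H) N := by
      apply CfsgLib.LE.isSyl_of_max bot_le IsPGroup.of_bot
      intro Q hQN hQp _
      by_contra hQ1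
      have h3 := CfsgLib.LE.dvd_card_of_isPGroup_ne_bot hQp hQ1
      exact (CfsgLib.LE.coprime_iff_not_dvd'.1 h1) (h3.trans (Subgroup.card_dvd_of_le hQN))
    exact CfsgLib.LE.isPClosed_of_normal_sylow h2 (by rw [Subgroup.normalizer_eq_top]; exact le_top)

end Cfsg.Agent.S2815
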