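import Cfsg.Statements.S2816
import Cfsg.Agent.LibLEF2

set_option autoImplicit false
open Cfsg

namespace Cfsg.Agent.S2816




/-- Let H be a finite group and p a prime with O_p(H) = 1, and Y a p-subgroup of H. Then for every subnormal subgroup K of H containing Y, [F*(H), Y] = [F*(K), Y] = [F*(K), Y, Y]; and if Y₀ ≤ Y with [F*(H), Y, Y₀] = 1 then Y₀ = 1 (in particular [F*(H), Y] = 1 forces Y = 1). -/
theorem result {H : Type*} [Group H] [Finite H] {p : ℕ} [Fact p.Prime] (hO : Cfsg.pCore p H = ⊥) (Y : Subgroup H) (hY : IsPGroup p ↥Y) : (∀ K : Subgroup H, K.IsSubnormal → Y ≤ K → ⁅Cfsg.generalizedFittingSubgroup H, Y⁆ = ⁅(Cfsg.generalizedFittingSubgroup ↥K).map K.subtype, Y⁆ ∧ ⁅(Cfsg.generalizedFittingSubgroup ↥K).map K.subtype, Y⁆ = ⁅⁅(Cfsg.generalizedFittingSubgroup ↥K).map K.subtype, Y⁆, Y⁆) ∧ (∀ Y₀ : Subgroup H, Y₀ ≤ Y → ⁅⁅Cfsg.generalizedFittingSubgroup H, Y⁆, Y₀⁆ = ⊥ → Y₀ = ⊥) := by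
  refine ⟨fun K hK hYK => ?_, fun Y₀ hle h => CfsgLib.LE.gF_eq_bot hO hY hle h⟩
  have h1 := CfsgLib.Comp3.gfitting_inf_subnormal hK
  rw [← h1]
  have h2 := CfsgLib.LE.gF_comm_comm hO le_rfl CfsgLib.LE.gF_subnormal hY (CfsgLib.LE.le_normalizer_gF Y)
  have h3 : ⁅generalizedFittingSubgroup H, Y⁆ ≤ generalizedFittingSubgroup H ⊓ K :=
    le_inf (Subgroup.le_normalizer_iff_commutator_le_left.1 (CfsgLib.LE.le_normalizer_gF Y))
      (CfsgLib.LE.gF_comm_le hO hY hYK hK)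
  have h4 : ⁅generalizedFittingSubgroup H, Y⁆ = ⁅generalizedFittingSubgroup H ⊓ K, Y⁆ := by
    apply le_antisymm
    · conv_lhs => rw [h2]
      exact Subgroup.commutator_mono h3 le_rfl
    · exact Subgroup.commutator_mono inf_le_left le_rfl
  refine ⟨h4, ?_⟩
  rw [← h4]
  exact h2

end Cfsg.Agent.S2816
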