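import Cfsg.Statements.S2817
import Cfsg.Agent.LibLEF2
import Cfsg.Agent.LibCoprime2

set_option autoImplicit false
open Cfsg

namespace Cfsg.Agent.S2817

open Cfsg Subgroup in
theorem center_inf_commutator_le_frattini {X : Type*} [Group X] [Finite X] {z : X} (hz : z ∈ Subgroup.center X)
    (hc : z ∈ _root_.commutator X) : z ∈ frattini X := by
  rw [frattini, Order.radical, Subgroup.mem_iInf]
  intro M
  rw [Subgroup.mem_iInf]
  intro hM
  by_contra hzM
  have h1 : M ⊔ Subgroup.zpowers z = ⊤ := by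
    apply hM.2
    refine lt_of_le_of_ne le_sup_left ?_
    intro h
    apply hzM
    rw [h]
    exact Subgroup.mem_sup_right (Subgroup.mem_zpowers z)
  have hzn : Subgroup.zpowers z ≤ Subgroup.normalizer (M : Set X) := by
    rw [Subgroup.zpowers_le, Subgroup.mem_normalizer_iff]
    intro m
    rw [← Subgroup.mem_center_iff.1 hz m, mul_inv_cancel_right]
  apply hzM
  have h2 : _root_.commutator X ≤ M := by
    rw [commutator_def, Subgroup.commutator_le]
    intro g _ h _
    have hg : g ∈ M ⊔ Subgroup.zpowers z := by rw [h1]; trivial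
    have hh : h ∈ M ⊔ Subgroup.zpowers z := by rw [h1]; trivial
    obtain ⟨m, hm, a, ha, rfl⟩ := (CfsgLib.LE.mem_sup_of_le_normalizer' hzn).1 hg
    obtain ⟨n, hn, b, hb, rfl⟩ := (CfsgLib.LE.mem_sup_of_le_normalizer' hzn).1 hh
    have hac : a ∈ Subgroup.center X := (Subgroup.zpowers_le.2 hz) ha
    have hbc : b ∈ Subgroup.center X := (Subgroup.zpowers_le.2 hz) hb
    have h3 : m * a * (n * b) * (m * a)⁻¹ * (n * b)⁻¹ = m * n * m⁻¹ * n⁻¹ := by
      have e1 := Subgroup.mem_center_iff.1 hac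
      have e2 := Subgroup.mem_center_iff.1 hbc
      calc m * a * (n * b) * (m * a)⁻¹ * (n * b)⁻¹ = m * (a * n) * b * a⁻¹ * m⁻¹ * b⁻¹ * n⁻¹ := by group
        _ = m * (n * a) * b * a⁻¹ * m⁻¹ * b⁻¹ * n⁻¹ := by rw [e1 n]
        _ = m * n * (a * b) * a⁻¹ * m⁻¹ * b⁻¹ * n⁻¹ := by group
        _ = m * n * (b * a) * a⁻¹ * m⁻¹ * b⁻¹ * n⁻¹ := by rw [← e1 b]
        _ = m * n * (b * m⁻¹) * b⁻¹ * n⁻¹ := by group
        _ = m * n * (m⁻¹ * b) * b⁻¹ * n⁻¹ := by rw [e2 m⁻¹]
        _ = m * n * m⁻¹ * n⁻¹ := by group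
    rw [commutatorElement_def, h3]
    exact M.mul_mem (M.mul_mem (M.mul_mem hm hn) (M.inv_mem hm)) (M.inv_mem hn)
  exact h2 hc

open Cfsg Subgroup in
/-- `L = [L,Q]`, `L = F(L)E(L)`, `F(L)` a `p'`-group: elements of `L` centralized by `Q` are in `L'`. -/
theorem mem_commutator_of_fixed {G : Type*} [Group G] [Finite G] {p : ℕ} [Fact p.Prime] {L Q : Subgroup G}
    (hstr : Cfsg.fittingSubgroup ↥L ⊔ Cfsg.layer ↥L = ⊤) (hcop : (Nat.card ↥(Cfsg.fittingSubgroup ↥L)).Coprime p)
    (hQ : IsPGroup p ↥Q) (hQL : Q ≤ Subgroup.normalizer (L : Set G)) (hLQ : ⁅L, Q⁆ = L) {x : G} (hx : x ∈ L)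
    (hxQ : x ∈ Subgroup.centralizer (Q : Set G)) : x ∈ ⁅L, L⁆ := by
  set X := L ⊔ Q with hX
  set D := ⁅L, L⁆ with hD
  have hLX : L ≤ X := le_sup_left
  have hQX : Q ≤ X := le_sup_right
  have hXL : X ≤ Subgroup.normalizer (L : Set G) := sup_le Subgroup.le_normalizer hQL
  have hXD : X ≤ Subgroup.normalizer (D : Set G) := CfsgLib.LE.le_normalizer_commutator hXL hXL
  have hDL : D ≤ L := Subgroup.le_normalizer_iff_commutator_le_left.1 Subgroup.le_normalizer
  have hn : (D.subgroupOf X).Normal := CfsgLib.LE.subgroupOf_normal_of_le_normalizer hXD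
  set π := QuotientGroup.mk' (D.subgroupOf X) with hπ
  set V := (L.subgroupOf X).map π with hV
  set A := (Q.subgroupOf X).map π with hA
  have hπ1 : ∀ g : ↥X, π g = 1 ↔ (g : G) ∈ D := fun g => by
    rw [hπ, ← Subgroup.mem_subgroupOf]
    exact QuotientGroup.eq_one_iff g
  have hVc : IsMulCommutative ↥V := by
    rw [CfsgLib.LE.isMulCommutative_iff]
    rintro _ ⟨a, ha, rfl⟩ _ ⟨b, hb, rfl⟩
    rw [← mul_inv_eq_one, mul_inv_rev, ← map_mul, ← map_inv, ← map_inv, ← map_mul, ← map_mul, hπ1]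
    have h1 := Subgroup.commutator_mem_commutator (Subgroup.mem_subgroupOf.1 ha) (Subgroup.mem_subgroupOf.1 hb)
    have h2 : ((a * b * (a⁻¹ * b⁻¹) : ↥X) : G) = (a : G) * b * (a : G)⁻¹ * (b : G)⁻¹ := by simp [mul_assoc]
    rw [h2]
    rwa [commutatorElement_def] at h1
  have hAV : A ≤ Subgroup.normalizer (V : Set _) := by
    rw [CfsgLib.LE.le_normalizer_iff]
    rintro _ ⟨a, ha, rfl⟩ _ ⟨b, hb, rfl⟩
    refine ⟨a * b * a⁻¹, ?_, by simp⟩
    rw [SetLike.mem_coe, Subgroup.mem_subgroupOf]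
    exact (Subgroup.mem_normalizer_iff.1 (hQL (Subgroup.mem_subgroupOf.1 ha)) b).1 (Subgroup.mem_subgroupOf.1 hb)
  have hcomm : ⁅V, A⁆ = V := by
    rw [hV, hA, ← Subgroup.map_commutator]
    congr 1
    apply Subgroup.map_injective X.subtype_injective
    rw [Subgroup.map_commutator, CfsgLib.LE.map_subtype_subgroupOf hLX, CfsgLib.LE.map_subtype_subgroupOf hQX, hLQ]
  have hAp : IsPGroup p ↥A := (CfsgLib.LE.isPGroup_subgroupOf X hQ).map π
  have hVcop : (Nat.card ↥V).Coprime p := by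
    -- `V` is the image of the Fitting subgroup
    set F := (Cfsg.fittingSubgroup ↥L).map L.subtype with hF
    set E := (Cfsg.layer ↥L).map L.subtype with hE
    have hFE : F ⊔ E = L := by
      rw [hF, hE, ← Subgroup.map_sup, hstr, ← MonoidHom.range_eq_map, Subgroup.range_subtype]
    have hED : E ≤ D := by
      have h1 : ⁅E, E⁆ = E := by
        rw [hE, ← Subgroup.map_commutator, CfsgLib.Comp.commutator_layer]
      rw [← h1]
      exact Subgroup.commutator_mono (le_sup_right.trans hFE.le) (le_sup_right.trans hFE.le)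
    have hFX : F ≤ X := (le_sup_left.trans hFE.le).trans hLX
    have h1 : V ≤ (F.subgroupOf X).map π := by
      rintro _ ⟨a, ha, rfl⟩
      have h2 : (a : G) ∈ F ⊔ D := by
        have h3 : (a : G) ∈ F ⊔ E := by rw [hFE]; exact Subgroup.mem_subgroupOf.1 ha
        exact (sup_le_sup_left hED F) h3
      have hFD : F ≤ Subgroup.normalizer (D : Set G) := hFX.trans hXD
      obtain ⟨f, hf, d, hd, hfd⟩ := (CfsgLib.LE.mem_sup_of_le_normalizer hFD).1 h2
      refine ⟨⟨f, hFX hf⟩, Subgroup.mem_subgroupOf.2 hf, ?_⟩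
      rw [← inv_mul_eq_one, ← map_inv, ← map_mul, hπ1]
      have : ((⟨f, hFX hf⟩⁻¹ * a : ↥X) : G) = d := by
        simp [← hfd]
      rw [this]; exact hd
    have h2 : Nat.card ↥((F.subgroupOf X).map π) ∣ Nat.card ↥(F.subgroupOf X) := Subgroup.card_map_dvd _ _
    have h3 : Nat.card ↥(F.subgroupOf X) = Nat.card ↥(Cfsg.fittingSubgroup ↥L) := by
      rw [← Subgroup.card_map_of_injective X.subtype_injective, CfsgLib.LE.map_subtype_subgroupOf hFX, hF,
        Subgroup.card_map_of_injective L.subtype_injective]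
    exact Nat.Coprime.coprime_dvd_left ((Subgroup.card_dvd_of_le h1).trans (h2.trans h3.dvd)) hcop
  have hcop2 : (Nat.card ↥A).Coprime (Nat.card ↥V) := by
    obtain ⟨k, hk⟩ := IsPGroup.iff_card.1 hAp
    rw [hk]
    exact Nat.Coprime.pow_left k hVcop.symm
  have h1 := CfsgLib.Coprime2.commutator_inf_centralizer hAV hcop2
  rw [hcomm] at h1
  have h2 : π ⟨x, hLX hx⟩ ∈ V ⊓ Subgroup.centralizer (A : Set _) := by
    refine Subgroup.mem_inf.2 ⟨⟨_, Subgroup.mem_subgroupOf.2 hx, rfl⟩, ?_⟩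
    rw [Subgroup.mem_centralizer_iff]
    rintro _ ⟨a, ha, rfl⟩
    rw [← map_mul, ← map_mul]
    congr 1
    exact Subtype.ext (Subgroup.mem_centralizer_iff.1 hxQ a (Subgroup.mem_subgroupOf.1 ha))
  rw [h1, Subgroup.mem_bot] at h2
  exact (hπ1 _).1 h2


/-- Let H be a finite group and p a prime with O_p(H) = 1, Q a p-subgroup of H, L = [F*(H), Q], and F the largest normal subgroup of F*(H) centralized by Q (a normal subgroup of F*(H) centralized by Q and containing every such). Then F = C_{F*(H)}(LQ); L = [L, Q]; L ∩ F ≤ Φ(L); every p-subgroup B of N_H(Q) with [L, B] ≤ F satisfies [L, B] = 1; and C_H(FL) has order prime to p. -/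
theorem result {H : Type*} [Group H] [Finite H] {p : ℕ} [Fact p.Prime] (hO : Cfsg.pCore p H = ⊥) (Q : Subgroup H) (hQ : IsPGroup p ↥Q) (L : Subgroup H) (hL : L = ⁅Cfsg.generalizedFittingSubgroup H, Q⁆) (F : Subgroup H) (hF : F ≤ Cfsg.generalizedFittingSubgroup H ∧ Cfsg.generalizedFittingSubgroup H ≤ Subgroup.normalizer (F : Set H) ∧ Q ≤ Subgroup.centralizer (F : Set H) ∧ ∀ N : Subgroup H, N ≤ Cfsg.generalizedFittingSubgroup H → Cfsg.generalizedFittingSubgroup H ≤ Subgroup.normalizer (N : Set H) → Q ≤ Subgroup.centralizer (N : Set H) → N ≤ F) : F = Cfsg.generalizedFittingSubgroup H ⊓ Subgroup.centralizer ((L ⊔ Q : Subgroup H) : Set H) ∧ ⁅L, Q⁆ = L ∧ L ⊓ F ≤ (frattini ↥L).map L.subtype ∧ (∀ B : Subgroup H, IsPGroup p ↥B → B ≤ Subgroup.normalizer (Q : Set H) → ⁅L, B⁆ ≤ F → ⁅L, B⁆ = ⊥) ∧ (Nat.card ↥(Subgroup.centralizer ((F ⊔ L : Subgroup H) : Set H))).Coprime p := by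
  set E := generalizedFittingSubgroup H with hE
  obtain ⟨hFE, hEF, hQF, hFmax⟩ := hF
  have hQE : Q ≤ Subgroup.normalizer (E : Set H) := CfsgLib.LE.le_normalizer_gF Q
  have hsplit : ⁅E, Q⁆ ⊔ (E ⊓ Subgroup.centralizer (Q : Set H)) = E :=
    CfsgLib.LE.gF_split_top hO le_rfl CfsgLib.LE.gF_subnormal hQ hQE
  have hLE : L ≤ E := by rw [hL]; exact Subgroup.le_normalizer_iff_commutator_le_left.1 hQE
  have hEL : E ≤ Subgroup.normalizer (L : Set H) := by rw [hL]; exact Subgroup.normalizer_commutator_ge_left _ _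
  have hQL : Q ≤ Subgroup.normalizer (L : Set H) := by rw [hL]; exact Subgroup.normalizer_commutator_ge_right _ _
  rw [← hL] at hsplit
  have hLsn : L.IsSubnormal := by
    have h1 : (L.subgroupOf E).Normal := CfsgLib.LE.subgroupOf_normal_of_le_normalizer hEL
    exact h1.isSubnormal.trans hLE CfsgLib.LE.gF_subnormal
  have hLQ : ⁅L, Q⁆ = L := by
    conv_rhs => rw [hL, CfsgLib.LE.gF_comm_comm hO le_rfl CfsgLib.LE.gF_subnormal hQ hQE]
    rw [hL]
  -- (i)
  have hcen : ∀ X : Subgroup H, X ≤ Subgroup.centralizer ((L ⊔ Q : Subgroup H) : Set H) ↔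
      X ≤ Subgroup.centralizer (L : Set H) ∧ X ≤ Subgroup.centralizer (Q : Set H) := by
    intro X
    rw [Subgroup.le_centralizer_iff, sup_le_iff, Subgroup.le_centralizer_iff, Subgroup.le_centralizer_iff (H := Q)]
  have hFL : F ≤ Subgroup.centralizer (L : Set H) := by
    have h1 : ⁅⁅Q, F⁆, E⁆ = ⊥ := by
      rw [Subgroup.commutator_eq_bot_iff_le_centralizer.2 hQF, Subgroup.commutator_bot_left]
    have h2 : ⁅⁅F, E⁆, Q⁆ = ⊥ := by
      rw [eq_bot_iff]
      have h3 : ⁅F, Q⁆ = ⊥ := by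
        rw [Subgroup.commutator_comm]; exact Subgroup.commutator_eq_bot_iff_le_centralizer.2 hQF
      rw [← h3]
      exact Subgroup.commutator_mono (Subgroup.le_normalizer_iff_commutator_le_left.1 hEF) le_rfl
    have h3 : ⁅⁅E, Q⁆, F⁆ = ⊥ := CfsgLib.LE.three_subgroups h1 h2
    rw [← hL, Subgroup.commutator_comm] at h3
    exact Subgroup.commutator_eq_bot_iff_le_centralizer.1 h3
  have hFQ : F ≤ Subgroup.centralizer (Q : Set H) := Subgroup.le_centralizer_iff.1 hQF
  set F₁ := E ⊓ Subgroup.centralizer ((L ⊔ Q : Subgroup H) : Set H) with hF₁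
  have hF₁F : F₁ ≤ F := by
    have h1 := (hcen F₁).1 inf_le_right
    apply hFmax F₁ inf_le_left ?_ (Subgroup.le_centralizer_iff.1 h1.2)
    rw [← hsplit]
    apply sup_le
    · exact (Subgroup.le_centralizer_iff.1 h1.1).trans (Subgroup.centralizer_le_normalizer _)
    · apply CfsgLib.LE.le_normalizer_inf (inf_le_left.trans Subgroup.le_normalizer)
      apply CfsgLib.LE.le_normalizer_centralizer
      exact CfsgLib.LE.le_normalizer_sup (inf_le_left.trans hEL)
        (inf_le_right.trans (Subgroup.centralizer_le_normalizer _))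
  have hFeq : F = F₁ := le_antisymm (le_inf hFE ((hcen F).2 ⟨hFL, hFQ⟩)) hF₁F
  -- (iii)
  obtain ⟨hstr, hcop⟩ := CfsgLib.LE.gF_subnormal_structure (CfsgLib.LE.pCore_top_eq_bot hO) (L := L)
    (by rw [CfsgLib.LE.gF_map_top]; exact hLE) hLsn.subgroupOf
  have hΦ : L ⊓ F ≤ (frattini ↥L).map L.subtype := by
    rintro x ⟨hxL, hxF⟩
    have h1 : x ∈ ⁅L, L⁆ := mem_commutator_of_fixed hstr hcop hQ hQL hLQ hxL (hFQ hxF)
    refine ⟨⟨x, hxL⟩, ?_, rfl⟩
    apply center_inf_commutator_le_frattini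
    · rw [Subgroup.mem_center_iff]
      intro y
      exact Subtype.ext (Subgroup.mem_centralizer_iff.1 (hFL hxF) y y.2)
    · have h2 : (_root_.commutator ↥L).map L.subtype = ⁅L, L⁆ := by
        rw [commutator_def, Subgroup.map_commutator, ← MonoidHom.range_eq_map, Subgroup.range_subtype]
      rw [← h2] at h1
      obtain ⟨y, hy, hyx⟩ := h1
      rwa [← (Subtype.ext hyx : y = ⟨x, hxL⟩)]
  refine ⟨hFeq, hLQ, hΦ, ?_, ?_⟩
  · intro B hB hBQ hBF
    have hBL : B ≤ Subgroup.normalizer (L : Set H) := by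
      rw [hL]; exact CfsgLib.LE.le_normalizer_commutator (CfsgLib.LE.le_normalizer_gF B) hBQ
    have h1 := CfsgLib.LE.gF_split_top hO hLE hLsn hB hBL
    have h2 : (L ⊓ Subgroup.centralizer (B : Set H)).subgroupOf L = ⊤ := by
      apply frattini_nongenerating
      rw [eq_top_iff]
      intro x _
      have h3 : (x : H) ∈ (L ⊓ Subgroup.centralizer (B : Set H)) ⊔ (L ⊓ F) := by
        have h4 : L ≤ (L ⊓ Subgroup.centralizer (B : Set H)) ⊔ (L ⊓ F) := by
          conv_lhs => rw [← h1]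
          refine sup_le (le_trans ?_ le_sup_right) le_sup_left
          exact le_inf (Subgroup.le_normalizer_iff_commutator_le_left.1 hBL) hBF
        exact h4 x.2
      have hn : L ⊓ Subgroup.centralizer (B : Set H) ≤ Subgroup.normalizer ((L ⊓ F : Subgroup H) : Set H) :=
        CfsgLib.LE.le_normalizer_inf (inf_le_left.trans Subgroup.le_normalizer) (inf_le_left.trans (hLE.trans hEF))
      obtain ⟨c, hc, f, hf, hcf⟩ := (CfsgLib.LE.mem_sup_of_le_normalizer hn).1 h3
      obtain ⟨f', hf', rfl⟩ := hΦ hf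
      have : x = (⟨c, hc.1⟩ : ↥L) * f' := Subtype.ext hcf.symm
      rw [this]
      exact Subgroup.mul_mem_sup (Subgroup.mem_subgroupOf.2 hc) hf'
    have h3 : L ≤ Subgroup.centralizer (B : Set H) := (Subgroup.subgroupOf_eq_top.1 h2).trans inf_le_right
    exact Subgroup.commutator_eq_bot_iff_le_centralizer.2 h3
  · set C := Subgroup.centralizer ((F ⊔ L : Subgroup H) : Set H) with hC
    have hCF : C ≤ Subgroup.centralizer (F : Set H) := Subgroup.centralizer_le (by exact_mod_cast le_sup_left)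
    have hCL : C ≤ Subgroup.centralizer (L : Set H) := Subgroup.centralizer_le (by exact_mod_cast le_sup_right)
    have hQC : Q ≤ Subgroup.normalizer (C : Set H) := CfsgLib.LE.le_normalizer_centralizer
      (CfsgLib.LE.le_normalizer_sup (hQF.trans (Subgroup.centralizer_le_normalizer _)) hQL)
    have hEC : E ≤ Subgroup.normalizer (C : Set H) := CfsgLib.LE.le_normalizer_centralizer
      (CfsgLib.LE.le_normalizer_sup hEF hEL)
    by_contra hcon
    rw [CfsgLib.LE.coprime_iff_not_dvd', not_not] at hcon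
    obtain ⟨P, hP, hQP⟩ := CfsgLib.LE.exists_isSyl_of_le (le_sup_right : Q ≤ C ⊔ Q) hQ
    have hPC : CfsgLib.LE.IsSyl p (P ⊓ C) C :=
      hP.inf le_sup_left (sup_le Subgroup.le_normalizer hQC)
    have hne : P ⊓ C ≠ ⊥ := by
      intro h0
      have := hPC.card_eq
      rw [h0, Subgroup.card_bot] at this
      have h4 := (Fact.out : p.Prime).factorization_pos_of_dvd (Nat.card_pos.ne') hcon
      have := Nat.one_lt_pow h4.ne' (Fact.out : p.Prime).one_lt
      omega
    have hQPC : Q ≤ Subgroup.normalizer ((P ⊓ C : Subgroup H) : Set H) :=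
      CfsgLib.LE.le_normalizer_inf (hQP.trans Subgroup.le_normalizer) hQC
    have h1 := CfsgLib.LE.inf_centralizer_ne_bot_of_isPGroup hQ hPC.isPGroup hne hQPC
    set B := (P ⊓ C) ⊓ Subgroup.centralizer (Q : Set H) with hB
    have hBC : B ≤ C := inf_le_left.trans inf_le_right
    have hBQ : B ≤ Subgroup.centralizer (Q : Set H) := inf_le_right
    have hBp : IsPGroup p ↥B := hPC.isPGroup.to_le inf_le_left
    have h2 : ⁅B, E⁆ ≤ F := by
      rw [← hsplit]
      refine CfsgLib.LE.commutator_sup_le ?_ ?_ (hLE.trans hEF) (inf_le_left.trans hEF)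
      · rw [Subgroup.commutator_eq_bot_iff_le_centralizer.2 (hBC.trans hCL)]; exact bot_le
      · rw [hFeq]
        have h3 : ⁅B, E ⊓ Subgroup.centralizer (Q : Set H)⁆ ≤ Subgroup.centralizer (L : Set H) := by
          have h4 : E ⊓ Subgroup.centralizer (Q : Set H) ≤ Subgroup.normalizer ((Subgroup.centralizer (L : Set H) : Subgroup H) : Set H) :=
            CfsgLib.LE.le_normalizer_centralizer (inf_le_left.trans hEL)
          exact (Subgroup.commutator_mono (hBC.trans hCL) le_rfl).trans (Subgroup.le_normalizer_iff_commutator_le_left.1 h4)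
        have h4 : ⁅B, E ⊓ Subgroup.centralizer (Q : Set H)⁆ ≤ Subgroup.centralizer (Q : Set H) :=
          (Subgroup.commutator_mono hBQ inf_le_right).trans
            (Subgroup.le_normalizer_iff_commutator_le_left.1 Subgroup.le_normalizer)
        refine le_inf ?_ ((hcen _).2 ⟨h3, h4⟩)
        exact (Subgroup.commutator_mono le_rfl inf_le_left).trans
          (Subgroup.le_normalizer_iff_commutator_le_right.1 (CfsgLib.LE.le_normalizer_gF B))
    have h3 : ⁅⁅E, B⁆, B⁆ = ⊥ := by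
      rw [eq_bot_iff]
      have h4 : ⁅F, B⁆ = ⊥ := by
        rw [Subgroup.commutator_comm]
        exact Subgroup.commutator_eq_bot_iff_le_centralizer.2 (hBC.trans hCF)
      rw [← h4, Subgroup.commutator_comm E B]
      exact Subgroup.commutator_mono h2 le_rfl
    exact h1 (CfsgLib.LE.gF_eq_bot hO hBp le_rfl h3)

end Cfsg.Agent.S2817
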