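import Cfsg.Statements.S2818
import Cfsg.Agent.LibLE10

set_option autoImplicit false
open Cfsg

namespace Cfsg.Agent.S2818

open scoped commutatorElement


/-- Let P be a finite p-subgroup of a group G and H a subgroup of N_G(P) with [P, H] ≤ Ω₁(Z(P)) (the elements of order dividing p in the centre of P). Then H centralizes the Frattini subgroup of P. -/
theorem result {G : Type*} [Group G] [Finite G] {p : ℕ} [Fact p.Prime] (P : Subgroup G) (hP : IsPGroup p ↥P) (H : Subgroup G) (hH : H ≤ Subgroup.normalizer (P : Set G)) (h : ⁅P, H⁆ ≤ Cfsg.omegaOne p (P ⊓ Subgroup.centralizer (P : Set G))) : ⁅(frattini ↥P).map P.subtype, H⁆ = ⊥ := by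
  have hz : ∀ x ∈ P, ∀ k ∈ H, ∃ z : G, z ^ p = 1 ∧ (∀ y ∈ P, y * z = z * y) ∧ k * x * k⁻¹ = z * x := by
    intro x hx k hk
    have h1 : ⁅x, k⁆ ∈ Cfsg.omegaOne p (P ⊓ Subgroup.centralizer (P : Set G)) :=
      h (Subgroup.commutator_mem_commutator hx hk)
    have hcomm : ∀ x ∈ (P ⊓ Subgroup.centralizer (P : Set G)), ∀ y ∈ (P ⊓ Subgroup.centralizer (P : Set G)),
      x * y = y * x := fun x hx y hy => (Subgroup.mem_centralizer_iff.1 hy.2 x hx.1)
    rw [CfsgLib.LE.mem_omegaOne_iff hcomm] at h1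
    obtain ⟨⟨h2, h3⟩, h4⟩ := h1
    refine ⟨⁅x, k⁆⁻¹, by rw [inv_pow, h4, inv_one], ?_, ?_⟩
    · intro y hy
      exact Subgroup.mem_centralizer_iff.1 (Subgroup.inv_mem _ h3) y hy
    · rw [commutatorElement_def]; group
  rw [Subgroup.commutator_eq_bot_iff_le_centralizer]
  apply CfsgLib.LE.frat_le_of (p := p)
  · rw [Subgroup.commutator_le]
    intro a ha b hb
    rw [Subgroup.mem_centralizer_iff]
    intro k hk
    obtain ⟨z, hz1, hz2, hz3⟩ := hz a ha k hk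
    obtain ⟨w, hw1, hw2, hw3⟩ := hz b hb k hk
    have hzP : Commute z a := (hz2 a ha).symm
    have e1 : k * ⁅a, b⁆ * k⁻¹ = ⁅k * a * k⁻¹, k * b * k⁻¹⁆ := by
      simp only [commutatorElement_def]; group
    have hzw : z * w = w * z := by
      have h1 : z = (k * a * k⁻¹) * a⁻¹ := by rw [hz3]; group
      have h2 : z ∈ P := by
        rw [h1]; exact P.mul_mem ((Subgroup.mem_normalizer_iff.1 (hH hk) a).1 ha) (P.inv_mem ha)
      exact hw2 z h2
    have c1 : Commute z a := (hz2 a ha).symm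
    have c2 : Commute z b := (hz2 b hb).symm
    have c3 : Commute w a := (hw2 a ha).symm
    have c4 : Commute w b := (hw2 b hb).symm
    have c5 : Commute z w := hzw
    have e2 : ⁅z * a, w * b⁆ = ⁅a, b⁆ := by
      rw [commutatorElement_def, commutatorElement_def]
      calc z * a * (w * b) * (z * a)⁻¹ * (w * b)⁻¹ = z * (a * w) * b * (a⁻¹ * z⁻¹) * (b⁻¹ * w⁻¹) := by group
        _ = z * (w * a) * b * (z⁻¹ * a⁻¹) * (w⁻¹ * b⁻¹) := by
            rw [c3.eq, (c1.inv_inv).eq, (c4.inv_inv).eq]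
        _ = (z * w) * a * (b * z⁻¹) * (a⁻¹ * w⁻¹) * b⁻¹ := by group
        _ = (z * w) * a * (z⁻¹ * b) * (w⁻¹ * a⁻¹) * b⁻¹ := by
            rw [(c2.inv_left).eq, (c3.inv_inv).eq]
        _ = (z * w) * (a * z⁻¹) * (b * w⁻¹) * a⁻¹ * b⁻¹ := by group
        _ = (w * z) * (z⁻¹ * a) * (w⁻¹ * b) * a⁻¹ * b⁻¹ := by
            rw [(c1.inv_left).eq, (c4.inv_left).eq, c5.eq]
        _ = w * (a * w⁻¹) * b * a⁻¹ * b⁻¹ := by group
        _ = w * (w⁻¹ * a) * b * a⁻¹ * b⁻¹ := by rw [(c3.inv_left).eq]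
        _ = a * b * a⁻¹ * b⁻¹ := by group
    rw [hz3, hw3, e2] at e1
    calc k * ⁅a, b⁆ = (k * ⁅a, b⁆ * k⁻¹) * k := by group
      _ = ⁅a, b⁆ * k := by rw [e1]
  · intro x hx
    rw [Subgroup.mem_centralizer_iff]
    intro k hk
    obtain ⟨z, hz1, hz2, hz3⟩ := hz x hx k hk
    have c1 : Commute z x := (hz2 x hx).symm
    have e1 : k * x ^ p * k⁻¹ = x ^ p := by
      calc k * x ^ p * k⁻¹ = (k * x * k⁻¹) ^ p := by rw [conj_pow]
        _ = x ^ p := by rw [hz3, c1.mul_pow, hz1, one_mul]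
    calc k * x ^ p = (k * x ^ p * k⁻¹) * k := by group
      _ = x ^ p * k := by rw [e1]

end Cfsg.Agent.S2818
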