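import Cfsg.Statements.S2819
import Cfsg.Agent.LibLE10

set_option autoImplicit false
open Cfsg

namespace Cfsg.Agent.S2819




/-- Let P be a finite p-subgroup of a group G, H a subgroup of N_G(P), and Y a subgroup of H centralizing the derived subgroup P' such that [P, Y] is elementary abelian. Then O^p(⟨Y^H⟩), the subgroup of the normal closure of Y in H generated by its elements of order prime to p, centralizes the Frattini subgroup of P. -/
theorem result {G : Type*} [Group G] [Finite G] {p : ℕ} [Fact p.Prime] (P : Subgroup G) (hP : IsPGroup p ↥P) (H : Subgroup G) (hH : H ≤ Subgroup.normalizer (P : Set G)) (Y : Subgroup G) (hYH : Y ≤ H) (hYc : Y ≤ Subgroup.centralizer ((⁅P, P⁆ : Subgroup G) : Set G)) (hel : Cfsg.IsElementaryAbelian p ⁅P, Y⁆) (NY : Subgroup G) (hNY : NY = (Subgroup.normalClosure ((Y.subgroupOf H : Subgroup ↥H) : Set ↥H)).map H.subtype) : (Cfsg.pResidual p ↥NY).map NY.subtype ≤ Subgroup.centralizer (((frattini ↥P).map P.subtype : Subgroup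 G) : Set G) := by
  have hnP : Subgroup.normalizer (P : Set G) ≤ Subgroup.normalizer ((⁅P, P⁆ : Subgroup G) : Set G) :=
    CfsgLib.LE.le_normalizer_commutator le_rfl le_rfl
  have hnP' : ∀ g ∈ Subgroup.normalizer (P : Set G), ∀ x ∈ ⁅P, P⁆, g * x * g⁻¹ ∈ ⁅P, P⁆ :=
    fun g hg x hx => (Subgroup.mem_normalizer_iff.1 (hnP hg) x).1 hx
  have hPn : P ≤ Subgroup.normalizer (P : Set G) := Subgroup.le_normalizer
  let S : Subgroup G :=
    { carrier := {n | n ∈ Subgroup.normalizer (P : Set G) ∧ ∀ x ∈ P, n * x ^ p * n⁻¹ * (x ^ p)⁻¹ ∈ ⁅P, P⁆}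
      one_mem' := ⟨Subgroup.one_mem _, fun x _ => by simp⟩
      mul_mem' := by
        rintro a b ⟨ha, ha2⟩ ⟨hb, hb2⟩
        refine ⟨Subgroup.mul_mem _ ha hb, fun x hx => ?_⟩
        have := Subgroup.mul_mem _ (hnP' a ha _ (hb2 x hx)) (ha2 x hx)
        convert this using 1; group
      inv_mem' := by
        rintro a ⟨ha, ha2⟩
        refine ⟨Subgroup.inv_mem _ ha, fun x hx => ?_⟩
        have := hnP' a⁻¹ (Subgroup.inv_mem _ ha) _ (Subgroup.inv_mem _ (ha2 x hx))
        convert this using 1; group }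
  have hS : ∀ n, n ∈ S ↔ n ∈ Subgroup.normalizer (P : Set G) ∧ ∀ x ∈ P, n * x ^ p * n⁻¹ * (x ^ p)⁻¹ ∈ ⁅P, P⁆ :=
    fun n => Iff.rfl
  have hYS : Y ≤ S := by
    intro y hy
    rw [hS]
    refine ⟨hH (hYH hy), fun x hx => ?_⟩
    have hyx : y * x * y⁻¹ ∈ P := (Subgroup.mem_normalizer_iff.1 (hH (hYH hy)) x).1 hx
    let X : ↥P := ⟨x, hx⟩
    let X' : ↥P := ⟨y * x * y⁻¹, hyx⟩
    have h1 : (X' * X⁻¹) ^ p = 1 := by
      apply Subtype.ext
      change (y * x * y⁻¹ * x⁻¹) ^ p = 1
      apply hel.2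
      rw [Subgroup.commutator_comm]
      exact Subgroup.commutator_mem_commutator hy hx
    have h2 : X' ^ p * (X ^ p)⁻¹ ∈ commutator ↥P := by
      rw [← Abelianization.ker_of, MonoidHom.mem_ker, map_mul, map_inv, map_pow, map_pow]
      have h3 := congrArg (Abelianization.of (G := ↥P)) h1
      rw [map_pow, map_mul, map_inv, map_one, mul_pow, inv_pow] at h3
      exact h3
    have h4 := Subgroup.mem_map_of_mem P.subtype h2
    rw [commutator_def, Subgroup.map_commutator, ← MonoidHom.range_eq_map, Subgroup.range_subtype] at h4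
    have h5 : P.subtype (X' ^ p * (X ^ p)⁻¹) = y * x ^ p * y⁻¹ * (x ^ p)⁻¹ := by
      change (y * x * y⁻¹) ^ p * (x ^ p)⁻¹ = _
      rw [conj_pow]
    rwa [h5] at h4
  have hHS : H ≤ Subgroup.normalizer (S : Set G) := by
    rw [CfsgLib.LE.le_normalizer_iff]
    intro k hk n hn
    rw [hS] at hn ⊢
    have hkN := hH hk
    refine ⟨Subgroup.mul_mem _ (Subgroup.mul_mem _ hkN hn.1) (Subgroup.inv_mem _ hkN), fun x hx => ?_⟩
    have h1 : k⁻¹ * x * k ∈ P := (Subgroup.mem_normalizer_iff''.1 hkN x).1 hx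
    have h2 := hnP' k hkN _ (hn.2 _ h1)
    have h3 : (k⁻¹ * x * k) ^ p = k⁻¹ * x ^ p * k := by
      have := conj_pow (a := k⁻¹) (b := x) (i := p)
      simpa using this
    rw [h3] at h2
    convert h2 using 1; group
  have hcl : ∀ A : Subgroup G, Y ≤ A → H ≤ Subgroup.normalizer (A : Set G) → NY ≤ A := by
    intro A hYA hHA
    rw [hNY, Subgroup.map_le_iff_le_comap]
    have : (A.subgroupOf H).Normal := CfsgLib.LE.subgroupOf_normal_of_le_normalizer hHA
    change Subgroup.normalClosure _ ≤ A.subgroupOf H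
    apply Subgroup.normalClosure_le_normal
    intro y hy
    exact hYA hy
  have hNS : NY ≤ S := hcl S hYS hHS
  have hNC : NY ≤ Subgroup.centralizer ((⁅P, P⁆ : Subgroup G) : Set G) :=
    hcl _ hYc (CfsgLib.LE.le_normalizer_centralizer (hH.trans hnP))
  let D : Subgroup G :=
    { carrier := {x | x ∈ P ∧ ∀ n ∈ S, n * x * n⁻¹ * x⁻¹ ∈ ⁅P, P⁆}
      one_mem' := ⟨Subgroup.one_mem _, fun x _ => by simp⟩
      mul_mem' := by
        rintro a b ⟨ha, ha2⟩ ⟨hb, hb2⟩
        refine ⟨Subgroup.mul_mem _ ha hb, fun x hx => ?_⟩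
        have := Subgroup.mul_mem _ (ha2 x hx) (hnP' a (hPn ha) _ (hb2 x hx))
        convert this using 1; group
      inv_mem' := by
        rintro a ⟨ha, ha2⟩
        refine ⟨Subgroup.inv_mem _ ha, fun x hx => ?_⟩
        have := hnP' a⁻¹ (Subgroup.inv_mem _ (hPn ha)) _ (Subgroup.inv_mem _ (ha2 x hx))
        convert this using 1; group }
  have hfD : (frattini ↥P).map P.subtype ≤ D := by
    apply CfsgLib.LE.frat_le_of (p := p)
    · intro x hx
      refine ⟨?_, fun n hn => ?_⟩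
      · exact (Subgroup.commutator_le_self P) hx
      · exact Subgroup.mul_mem _ (hnP' n hn.1 x hx) (Subgroup.inv_mem _ hx)
    · intro x hx
      exact ⟨P.pow_mem hx p, fun n hn => hn.2 x hx⟩
  have hP' : IsPGroup p ↥(⁅P, P⁆ : Subgroup G) := hP.to_le (Subgroup.commutator_le_self P)
  rw [CfsgLib.LE.pResidual_map_subtype, Subgroup.closure_le]
  rintro a ⟨ha, hac⟩
  rw [SetLike.mem_coe, Subgroup.mem_centralizer_iff]
  intro x hx
  have h1 := CfsgLib.LE.commute_of_stab hP' hac ((hfD hx).2 a (hNS ha)) (by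
    intro n hn
    have := Subgroup.mem_centralizer_iff.1 (hNC ha) n hn
    rw [← this]; group)
  calc x * a = (a * x * a⁻¹) * a := by rw [h1]
    _ = a * x := by group

end Cfsg.Agent.S2819
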