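import Cfsg.Statements.S2820
import Cfsg.Agent.LibLE12

set_option autoImplicit false
open Cfsg

namespace Cfsg.Agent.S2820




/-- Let A and B be subnormal subgroups of the finite group H with A a p-group and B = O^p(B) (B generated by its elements of order prime to p). Then A normalizes B and B = O^p(AB), the subgroup of ⟨A, B⟩ generated by its elements of order prime to p. -/
theorem result {H : Type*} [Group H] [Finite H] {p : ℕ} [Fact p.Prime] (A B : Subgroup H) (hA : A.IsSubnormal) (hB : B.IsSubnormal) (hAp : IsPGroup p ↥A) (hBres : (Cfsg.pResidual p ↥B).map B.subtype = B) : A ≤ Subgroup.normalizer (B : Set H) ∧ (Cfsg.pResidual p ↥(A ⊔ B)).map (A ⊔ B).subtype = B := by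
  have hAQ : A ≤ Cfsg.pCore p H := CfsgLib.LE.le_pCore_of_isSubnormal hA hAp
  set Q := Cfsg.pCore p H with hQ
  have hQp : IsPGroup p ↥Q := CfsgLib.LE.pCore_isPGroup p H
  have h1 : (Cfsg.pResidual p ↥(B ⊔ Q)).map (B ⊔ Q).subtype = B := by
    rw [CfsgLib.LE.resOf_sup_of_isPGroup hB.subgroupOf hQp (by rw [Subgroup.normalizer_eq_top]; exact le_top), hBres]
  constructor
  · refine (hAQ.trans (le_sup_right : Q ≤ B ⊔ Q)).trans ?_
    have h2 := CfsgLib.LE.le_normalizer_resOf (p := p) (B ⊔ Q)
    rwa [h1] at h2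
  · apply le_antisymm
    · rw [sup_comm]
      exact (CfsgLib.LE.resOf_mono (sup_le_sup_left hAQ B)).trans h1.le
    · conv_lhs => rw [← hBres]
      exact CfsgLib.LE.resOf_mono le_sup_right

end Cfsg.Agent.S2820
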