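import Cfsg.Statements.S2821
import Cfsg.Agent.LibLE17

set_option autoImplicit false
open Cfsg

namespace Cfsg.Agent.S2821




/-- Let H be a finite group, p a prime, T a Sylow p-subgroup and L a subgroup of characteristic p containing T; let Y_L be the largest p-reduced normal subgroup of L (the join of the normal elementary abelian p-subgroups V of L with O_p(L/C_L(V)) = 1). Then T₀ := C_T(Y_L) is a Sylow p-subgroup of C_H(Y_L); moreover O_p(L) ≤ T₀ ≤ C_L(Y_L) and Ω₁(Z(T)) ≤ Z_L ≤ Y_L ≤ Ω₁(Z(O_p(L))), where Z_L is generated by the Ω₁(Z(S)) over the Sylow p-subgroups S of L. -/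
theorem result {H : Type*} [Group H] [Finite H] {p : ℕ} [Fact p.Prime] (T : Sylow p H) (L : Subgroup H) (hTL : (T : Subgroup H) ≤ L) (hL : Subgroup.centralizer (Cfsg.pCore p ↥L : Set ↥L) ≤ Cfsg.pCore p ↥L) (T₀ : Subgroup H) (hT₀ : T₀ = (T : Subgroup H) ⊓ Subgroup.centralizer (((Cfsg.largestPReducedOf p L) : Subgroup H) : Set H)) : (∃ P : Sylow p ↥(Subgroup.centralizer (((Cfsg.largestPReducedOf p L) : Subgroup H) : Set H)), (P : Subgroup ↥(Subgroup.centralizer (((Cfsg.largestPReducedOf p L) : Subgroup H) : Set H))) = T₀.subgroupOf (Subgroup.centralizer (((Cfsg.largestPReducedOf p L) : Subgroup H) : Set H))) ∧ (Cfsg.pCoreOf p L) ≤ T₀ ∧ T₀ ≤ L ⊓ Subgroup.centralizer (((Cfsg.largestPReducedOf p L) : Subgroup H) : Set H) ∧ (Cfsg.omegaOne p ((T : Subgroup H) ⊓ Subgroup.centralizer (((T : Subgroup H) : Subgroup H) : Set H))) ≤ Cfsg.sylowCenterClosure p L ∧ Cfsg.sylowCenterClosure p L ≤ (Cfsg.largestPReducedOf p L) ∧ (Cfsg.largestPReducedOf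 p L) ≤ (Cfsg.omegaOne p ((Cfsg.pCoreOf p L) ⊓ Subgroup.centralizer (((Cfsg.pCoreOf p L) : Subgroup H) : Set H))) := by
  have hL' : CfsgLib.LE.CharPOf p L := (CfsgLib.LE.charPOf_iff_type L).2 hL
  have hTS : CfsgLib.LE.IsSyl p (T : Subgroup H) L := CfsgLib.LE.isSyl_sylow T hTL
  set Y := Cfsg.largestPReducedOf p L with hY
  have hYr : CfsgLib.LE.PRed p Y L := CfsgLib.LE.pRed_largestPReducedOf p L
  have hTN : (T : Subgroup H) ≤ Subgroup.normalizer (Y : Set H) := hTL.trans hYr.2.1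
  refine ⟨?_, ?_, ?_, CfsgLib.LECG.omega_le_scc hTS, CfsgLib.LE.scc_le_largest hL', hYr.le_omega⟩
  · have h1 : CfsgLib.LE.IsSyl p (T : Subgroup H) (Subgroup.normalizer (Y : Set H)) := CfsgLib.LE.isSyl_sylow T hTN
    have h2 := CfsgLib.LE.isSyl_inf_centralizer h1 (le_refl (Subgroup.normalizer (Y : Set H)))
    rw [← hT₀, inf_eq_right.2 (Subgroup.centralizer_le_normalizer _)] at h2
    exact CfsgLib.LE.sylow_eq_subgroupOf h2
  · rw [hT₀]; exact le_inf hTS.pCoreOf_le hYr.pCoreOf_le_centralizer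
  · rw [hT₀]; exact inf_le_inf_right _ hTL

end Cfsg.Agent.S2821
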