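import Cfsg.Statements.S2824
import Cfsg.Agent.LibLE18

set_option autoImplicit false
open Cfsg

namespace Cfsg.Agent.S2824




/-- Let H be a finite group, p a prime, T a Sylow p-subgroup, L and M subgroups of characteristic p containing T, Y_L the largest p-reduced normal subgroup of L and T₀ = C_T(Y_L). If M·C_H(Y_L) = L·C_H(Y_L), then L* := N_M(T₀) has Y_{L*} = Y_L and L·C_H(Y_L) = L*·C_H(Y_L). -/
theorem result {H : Type*} [Group H] [Finite H] {p : ℕ} [Fact p.Prime] (T : Sylow p H) (L M : Subgroup H) (hTL : (T : Subgroup H) ≤ L) (hTM : (T : Subgroup H) ≤ M) (hL : Subgroup.centralizer (Cfsg.pCore p ↥L : Set ↥L) ≤ Cfsg.pCore p ↥L) (hM : Subgroup.centralizer (Cfsg.pCore p ↥M : Set ↥M) ≤ Cfsg.pCore p ↥M) (T₀ : Subgroup H) (hT₀ : T₀ = (T : Subgroup H) ⊓ Subgroup.centralizer (((Cfsg.largestPReducedOf p L) : Subgroup H) : Set H)) (hfac : M ⊔ Subgroup.centralizer (((Cfsg.largestPReducedOf p L) : Subgroup H) : Set H) = L ⊔ Subgroup.centralizer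 (((Cfsg.largestPReducedOf p L) : Subgroup H) : Set H)) (Ls : Subgroup H) (hLs : Ls = M ⊓ Subgroup.normalizer ((T₀ : Subgroup H) : Set H)) : (Cfsg.largestPReducedOf p Ls) = (Cfsg.largestPReducedOf p L) ∧ L ⊔ Subgroup.centralizer (((Cfsg.largestPReducedOf p L) : Subgroup H) : Set H) = Ls ⊔ Subgroup.centralizer (((Cfsg.largestPReducedOf p L) : Subgroup H) : Set H) := by
  have hL' : CfsgLib.LE.CharPOf p L := (CfsgLib.LE.charPOf_iff_type L).2 hL
  have hTS : CfsgLib.LE.IsSyl p (T : Subgroup H) L := CfsgLib.LE.isSyl_sylow T hTL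
  have hTM' : CfsgLib.LE.IsSyl p (T : Subgroup H) M := CfsgLib.LE.isSyl_sylow T hTM
  set Y := Cfsg.largestPReducedOf p L with hY
  set C := Subgroup.centralizer (Y : Set H) with hC
  have hYr : CfsgLib.LE.PRed p Y L := CfsgLib.LE.pRed_largestPReducedOf p L
  obtain ⟨h1, h2, h3⟩ := CfsgLib.LE.largest_structure hL' hTS hT₀
  have hYM : Y ≤ M := hYr.le_pCoreOf.trans (hTS.pCoreOf_le.trans hTM)
  have hYrM : CfsgLib.LE.PRed p Y M := hYr.of_sup_eq hYM hfac
  have hYT0 : Y ≤ T₀ := by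
    rw [hT₀]
    exact le_inf (hYr.le_pCoreOf.trans hTS.pCoreOf_le)
      (CfsgLib.LE.le_centralizer_of_comm ((CfsgLib.LE.isElementaryAbelian_iff.1 hYr.2.2.1).1))
  have hT0s : CfsgLib.LE.IsSyl p T₀ (M ⊓ C) := by rw [hT₀]; exact CfsgLib.LE.isSyl_inf_centralizer hTM' hYrM.2.1
  have hMn : M ≤ Subgroup.normalizer ((M ⊓ C : Subgroup H) : Set H) :=
    CfsgLib.LE.le_normalizer_inf Subgroup.le_normalizer (CfsgLib.LE.le_normalizer_centralizer hYrM.2.1)
  have hfr := hT0s.frattini inf_le_left hMn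
  rw [← hLs] at hfr
  have hLsC : Ls ⊔ C = M ⊔ C := by
    apply le_antisymm (sup_le_sup_right (by rw [hLs]; exact inf_le_left) C)
    refine sup_le ?_ le_sup_right
    conv_lhs => rw [← hfr]
    exact sup_le (inf_le_right.trans le_sup_right) le_sup_left
  have hT0Ls : T₀ ≤ Ls := by
    rw [hLs]; exact le_inf (hT0s.le.trans inf_le_left) Subgroup.le_normalizer
  have hYrLs : CfsgLib.LE.PRed p Y Ls := hYr.of_sup_eq (hYT0.trans hT0Ls) (hLsC.trans hfac)
  have hTLs : (T : Subgroup H) ≤ Ls := by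
    rw [hLs]
    refine le_inf hTM ?_
    rw [hT₀]
    exact CfsgLib.LE.le_normalizer_inf Subgroup.le_normalizer (hTL.trans (CfsgLib.LE.le_normalizer_centralizer hYr.2.1))
  have hTLs' : CfsgLib.LE.IsSyl p (T : Subgroup H) Ls := CfsgLib.LE.isSyl_sylow T hTLs
  refine ⟨?_, by rw [hLsC, hfac]⟩
  apply le_antisymm _ hYrLs.le_largest
  have h4 := (CfsgLib.LE.pRed_largestPReducedOf p Ls).le_omega
  have h5 : Cfsg.pCoreOf p Ls = T₀ := by
    apply le_antisymm
    · rw [hT₀]; exact le_inf hTLs'.pCoreOf_le hYrLs.pCoreOf_le_centralizer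
    · exact CfsgLib.LE.le_pCoreOf hT0Ls (by rw [hLs]; exact inf_le_right) hT0s.isPGroup
  rwa [h5, ← h3] at h4

end Cfsg.Agent.S2824
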