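import Cfsg.Statements.S2825
import Cfsg.Agent.LibLER

set_option autoImplicit false
open Cfsg

namespace Cfsg.Agent.S2825

open Cfsg Subgroup in
theorem chain_step {H : Type*} [Group H] [Finite H] {p : ℕ} [Fact p.Prime] {L : Subgroup H} (hL : L.IsSubnormal) :
    L ⊓ Subgroup.centralizer (Cfsg.largestPReduced p H : Set H) ≤
      Subgroup.centralizer ((Cfsg.largestPReducedOf p L : Subgroup H) : Set H) := by
  induction hL with
  | top =>
    rw [CfsgLib.LE.largestPReducedOf_top]
    exact inf_le_right
  | step A B hAB hB hn ih =>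
    have h1 := CfsgLib.LE.centralizer_largest_step (p := p) hAB (CfsgLib.LE.le_normalizer_of_subgroupOf_normal hAB hn)
    refine le_trans (le_inf inf_le_left ?_) h1
    exact (inf_le_inf_right _ hAB).trans ih


/-- Let L be a subnormal subgroup of the finite group H, p a prime, Y_H and Y_L the largest p-reduced normal subgroups. Then Y_H ∩ L = Y_H ∩ Y_L and this subgroup is a p-reduced normal subgroup of L; C_L(Y_L) = C_L(Y_H) = C_L(Y_H ∩ L); and if O^p(H) ≤ L, then [Y_L, L] = 1 if and only if [Y_H, H] = 1. -/
theorem result {H : Type*} [Group H] [Finite H] {p : ℕ} [Fact p.Prime] (L : Subgroup H) (hL : L.IsSubnormal) : Cfsg.largestPReduced p H ⊓ L = Cfsg.largestPReduced p H ⊓ (Cfsg.largestPReducedOf p L) ∧ Cfsg.IsPReducedNormal p ((Cfsg.largestPReduced p H ⊓ L).subgroupOf L) ∧ L ⊓ Subgroup.centralizer ((Cfsg.largestPReducedOf p L : Subgroup H) : Set H) = L ⊓ Subgroup.centralizer (Cfsg.largestPReduced p H : Set H) ∧ L ⊓ Subgroup.centralizer (Cfsg.largestPReduced p H : Set H) = L ⊓ Subgroup.centralizer ((Cfsg.largestPReduced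 p H ⊓ L : Subgroup H) : Set H) ∧ (Cfsg.pResidual p H ≤ L → (⁅(Cfsg.largestPReducedOf p L), L⁆ = ⊥ ↔ ⁅Cfsg.largestPReduced p H, (⊤ : Subgroup H)⁆ = ⊥)) := by
  have hYH := CfsgLib.LE.isPReducedNormal_largest p H
  obtain ⟨h1, h2⟩ := CfsgLib.LE.pRed_inf_subnormal hYH hL
  have h3 : largestPReduced p H ⊓ L ≤ largestPReducedOf p L := h1.le_largest
  have h4 : largestPReducedOf p L ≤ L := Subgroup.map_subtype_le _
  have h5 := chain_step (p := p) hL
  have h6 : L ⊓ Subgroup.centralizer ((largestPReduced p H ⊓ L : Subgroup H) : Set H) ≤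
      Subgroup.centralizer (largestPReduced p H : Set H) := by
    apply h2 _ inf_le_left
    · have hn : ((L ⊓ Subgroup.centralizer ((largestPReduced p H ⊓ L : Subgroup H) : Set H)).subgroupOf L).Normal := by
        apply CfsgLib.LE.subgroupOf_normal_of_le_normalizer
        exact CfsgLib.LE.le_normalizer_inf Subgroup.le_normalizer (CfsgLib.LE.le_normalizer_centralizer h1.2.1)
      exact hn.isSubnormal.trans inf_le_left hL
    · intro x hx
      exact ⟨0, by simpa using (Subgroup.mem_inf.1 hx).2⟩
  have h7 : L ⊓ Subgroup.centralizer ((largestPReducedOf p L : Subgroup H) : Set H) =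
      L ⊓ Subgroup.centralizer (largestPReduced p H : Set H) := by
    apply le_antisymm
    · refine le_inf inf_le_left (le_trans ?_ h6)
      exact inf_le_inf_left _ (Subgroup.centralizer_le h3)
    · exact le_inf inf_le_left h5
  refine ⟨?_, (CfsgLib.LE.pRed_subgroupOf_iff h1.1).2 h1, h7, ?_, ?_⟩
  · exact le_antisymm (le_inf inf_le_left h3) (inf_le_inf_left _ h4)
  · exact le_antisymm (inf_le_inf_left _ (Subgroup.centralizer_le inf_le_left)) (le_inf inf_le_left h6)
  · intro hR
    rw [Subgroup.commutator_comm, Subgroup.commutator_eq_bot_iff_le_centralizer,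
      Subgroup.commutator_comm (largestPReduced p H), Subgroup.commutator_eq_bot_iff_le_centralizer]
    constructor
    · intro hc
      have h8 : L ≤ Subgroup.centralizer (largestPReduced p H : Set H) := by
        have : L ≤ L ⊓ Subgroup.centralizer ((largestPReducedOf p L : Subgroup H) : Set H) := le_inf le_rfl hc
        rw [h7] at this
        exact this.trans inf_le_right
      apply CfsgLib.LE.le_centralizer_of_subnormal hYH Subgroup.IsSubnormal.top
      intro x _
      obtain ⟨k, hk⟩ := CfsgLib.LE.pow_mem_pResidual (p := p) x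
      exact ⟨k, h8 (hR hk)⟩
    · intro hc
      have : L ≤ L ⊓ Subgroup.centralizer (largestPReduced p H : Set H) := le_inf le_rfl (le_top.trans hc)
      rw [← h7] at this
      exact this.trans inf_le_right

end Cfsg.Agent.S2825
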