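import Cfsg.Statements.S2826
import Cfsg.Agent.LibLE18

set_option autoImplicit false
open Cfsg

namespace Cfsg.Agent.S2826




/-- Let H be a finite group of characteristic p, T a Sylow p-subgroup, and V a normal elementary abelian p-subgroup of H containing Ω₁(Z(T)). Then C_H(Ω₁(Z(T))) = C_H([V, O^p(H)] ∩ Ω₁(Z(T))), O^p(H) being generated by the elements of order prime to p. -/
theorem result {H : Type*} [Group H] [Finite H] {p : ℕ} [Fact p.Prime] (hH : Subgroup.centralizer (Cfsg.pCore p H : Set H) ≤ Cfsg.pCore p H) (T : Sylow p H) (V : Subgroup H) [V.Normal] (hV : Cfsg.IsElementaryAbelian p V) (hZV : (Cfsg.omegaOne p ((T : Subgroup H) ⊓ Subgroup.centralizer (((T : Subgroup H) : Subgroup H) : Set H))) ≤ V) : Subgroup.centralizer ((Cfsg.omegaOne p ((T : Subgroup H) ⊓ Subgroup.centralizer (((T : Subgroup H) : Subgroup H) : Set H))) : Set H) = Subgroup.centralizer (((⁅V, Cfsg.pResidual p H⁆ ⊓ (Cfsg.omegaOne p ((T : Subgroup H) ⊓ Subgroup.centralizer (((T :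 Subgroup H) : Subgroup H) : Set H)))) : Subgroup H) : Set H) := by
  set Z := Cfsg.omegaOne p ((T : Subgroup H) ⊓ Subgroup.centralizer ((T : Subgroup H) : Set H)) with hZ
  have hH' := CfsgLib.LE.charPOf_top_iff.2 hH
  have hTS : CfsgLib.LE.IsSyl p (T : Subgroup H) ⊤ := CfsgLib.LE.isSyl_sylow T le_top
  obtain ⟨h1, h2⟩ := CfsgLib.LE.scc_decomp hH'
  rw [CfsgLib.LE.resOf_top] at h1
  set ZH := Cfsg.sylowCenterClosure p (⊤ : Subgroup H) with hZH
  set W := ⁅V, Cfsg.pResidual p H⁆ with hW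
  set Zc := Cfsg.omegaOne p ((⊤ : Subgroup H) ⊓ Subgroup.centralizer ((⊤ : Subgroup H) : Set H)) with hZc
  have hZHV : ZH ≤ V := CfsgLib.LE.scc_gen hTS V hZV (by rw [Subgroup.normalizer_eq_top])
  have hZZH : Z ≤ ZH := CfsgLib.LECG.omega_le_scc hTS
  have hZcc : Zc ≤ Subgroup.centralizer ((⊤ : Subgroup H) : Set H) := (CfsgLib.LE.omegaOne_le p _).trans inf_le_right
  have hZcZ : Zc ≤ Z := by
    have h3 : (⊤ : Subgroup H) ⊓ Subgroup.centralizer ((⊤ : Subgroup H) : Set H) ≤ Cfsg.pCoreOf p (⊤ : Subgroup H) :=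
      (inf_le_inf_left _ (Subgroup.centralizer_le (CfsgLib.LE.pCoreOf_le p _))).trans hH'
    exact CfsgLib.LE.omegaOne_mono (le_inf (h3.trans hTS.pCoreOf_le) (inf_le_right.trans (Subgroup.centralizer_le le_top)))
  have h3 : Z ≤ Zc ⊔ (W ⊓ Z) := by
    have h4 : Z ≤ Zc ⊔ W := by
      refine hZZH.trans ?_
      conv_lhs => rw [h1]
      exact sup_le_sup_left (Subgroup.commutator_mono hZHV le_rfl) _
    rw [CfsgLib.LE.sup_inf_of_le_normalizer hZcZ]
    · exact le_inf h4 le_rfl
    · intro w _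
      apply Subgroup.centralizer_le_normalizer
      rw [Subgroup.mem_centralizer_iff]
      intro z hz
      exact (Subgroup.mem_centralizer_iff.1 (hZcc hz) w trivial).symm
  apply le_antisymm
  · exact Subgroup.centralizer_le inf_le_right
  · rw [Subgroup.le_centralizer_iff]
    refine h3.trans (sup_le ?_ ?_)
    · exact hZcc.trans (Subgroup.centralizer_le le_top)
    · rw [Subgroup.le_centralizer_iff]

end Cfsg.Agent.S2826
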