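import Cfsg.Statements.S2827
import Cfsg.Agent.LibLE18

set_option autoImplicit false
open Cfsg

namespace Cfsg.Agent.S2827




/-- Let H be a finite p-irreducible group (not p-closed, and O^p(H) lies in every normal subgroup that is not p-closed) and T a Sylow p-subgroup. Then H is generated by the conjugates of T and H = H'·T; O^p(H) ≤ H'; and for every normal subgroup Y of T not contained in O_p(H), O^p(H) = [O^p(H), Y] and O^p(H) is contained in the normal closure of Y in H. -/
theorem result {H : Type*} [Group H] [Finite H] {p : ℕ} [Fact p.Prime] (hH : Cfsg.IsPIrreducible p H) (T : Sylow p H) : Subgroup.normalClosure ((T : Subgroup H) : Set H) = ⊤ ∧ commutator H ⊔ (T : Subgroup H) = ⊤ ∧ Cfsg.pResidual p H ≤ commutator H ∧ ∀ Y : Subgroup H, Y ≤ (T : Subgroup H) → (T : Subgroup H) ≤ Subgroup.normalizer (Y : Set H) → ¬ Y ≤ Cfsg.pCore p H → ⁅Cfsg.pResidual p H, Y⁆ = Cfsg.pResidual p H ∧ Cfsg.pResidual p H ≤ Subgroup.normalClosure (Y : Set H) := by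
  obtain ⟨hnc, hirr⟩ := hH
  have hTS : CfsgLib.LE.IsSyl p (T : Subgroup H) ⊤ := CfsgLib.LE.isSyl_sylow T le_top
  have hRT : Cfsg.pResidual p H ⊔ (T : Subgroup H) = ⊤ := by
    have := hTS.resOf_sup
    rwa [CfsgLib.LE.resOf_top] at this
  have hgen : Subgroup.normalClosure ((T : Subgroup H) : Set H) = ⊤ := by
    set N := Subgroup.normalClosure ((T : Subgroup H) : Set H) with hN
    have hTN : (T : Subgroup H) ≤ N := Subgroup.subset_normalClosure
    have h1 : ¬ Cfsg.IsPClosed p ↥N := by
      intro h
      apply hnc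
      rw [CfsgLib.LE.isPClosed_iff_le_pCore]
      intro Q hQ
      have hNn : N.Normal := Subgroup.normalClosure_normal
      have h2 := CfsgLib.LE.isPClosed_iff.1 h (T : Subgroup H) hTN T.2
      have h3 : Cfsg.pCoreOf p N ≤ Cfsg.pCore p H := by
        rw [CfsgLib.LE.pCoreOf_eq_inf_of_normal]; exact inf_le_right
      have h4 : (T : Subgroup H) = Cfsg.pCore p H := le_antisymm (h2.trans h3) (CfsgLib.LE.pCore_le_sylow T)
      have h5 : ((T : Subgroup H)).Normal := by rw [h4]; infer_instance
      obtain ⟨P, hP⟩ := hQ.exists_le_sylow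
      obtain ⟨g, hg⟩ := MulAction.exists_smul_eq H T P
      have h6 : (P : Subgroup H) = (T : Subgroup H).map (MulAut.conj g).toMonoidHom := by rw [← hg]; rfl
      rw [CfsgLib.LE.map_conj_of_normal] at h6
      rw [← h4, ← h6]; exact hP
    rw [eq_top_iff, ← hRT]
    exact sup_le (hirr N Subgroup.normalClosure_normal h1) hTN
  have hcT : commutator H ⊔ (T : Subgroup H) = ⊤ := by
    have hn : (commutator H ⊔ (T : Subgroup H)).Normal := by
      rw [← Subgroup.normalizer_eq_top_iff, eq_top_iff, Subgroup.le_normalizer_iff_commutator_le_left]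
      refine (Subgroup.commutator_mono le_top le_rfl).trans ?_
      rw [← commutator_def]; exact le_sup_left
    rw [eq_top_iff, ← hgen]
    have h1 : (T : Subgroup H) ≤ commutator H ⊔ (T : Subgroup H) := le_sup_right
    exact Subgroup.normalClosure_le_normal h1
  refine ⟨hgen, hcT, ?_, ?_⟩
  · apply CfsgLib.LE.pResidual_le_of_pow_mem
    intro x
    apply CfsgLib.LE.pow_mem_of_mem_sup T.2 (by rw [Subgroup.normalizer_eq_top]; exact le_top)
    rw [hcT]; trivial
  · intro Y hYT hTY hYO
    set N := Subgroup.normalClosure (Y : Set H) with hN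
    have hNn : N.Normal := Subgroup.normalClosure_normal
    have hYN : Y ≤ N := Subgroup.subset_normalClosure
    have hRN : Cfsg.pResidual p H ≤ N := by
      apply hirr N hNn
      intro h
      apply hYO
      have h2 := CfsgLib.LE.isPClosed_iff.1 h Y hYN (T.2.to_le hYT)
      refine h2.trans ?_
      rw [CfsgLib.LE.pCoreOf_eq_inf_of_normal]; exact inf_le_right
    refine ⟨?_, hRN⟩
    set R := Cfsg.pResidual p H with hR
    set M := ⁅R, Y⁆ with hM
    have hRM : R ≤ Subgroup.normalizer (M : Set H) := Subgroup.normalizer_commutator_ge_left R Y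
    have hTM : (T : Subgroup H) ≤ Subgroup.normalizer (M : Set H) :=
      CfsgLib.LE.le_normalizer_commutator (by rw [Subgroup.normalizer_eq_top]; exact le_top) hTY
    have hMn : M.Normal := by
      rw [← Subgroup.normalizer_eq_top_iff, eq_top_iff, ← hRT]
      exact sup_le hRM hTM
    have hMR : M ≤ R := by
      rw [hM]; exact Subgroup.le_normalizer_iff_commutator_le_left.1 (by rw [Subgroup.normalizer_eq_top]; exact le_top)
    apply le_antisymm hMR
    -- `N ≤ M Y`
    have hMYn : (M ⊔ Y).Normal := by
      rw [← Subgroup.normalizer_eq_top_iff, eq_top_iff, ← hRT]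
      apply sup_le
      · rw [Subgroup.le_normalizer_iff_commutator_le_left, Subgroup.commutator_comm]
        refine (CfsgLib.LE.commutator_sup_le (D := M) ?_ le_rfl Subgroup.le_normalizer ?_).trans le_sup_left
        · exact (by rw [Subgroup.commutator_comm]; exact Subgroup.le_normalizer_iff_commutator_le_left.1 hRM)
        · exact hYT.trans hTM
      · exact CfsgLib.LE.le_normalizer_sup hTM hTY
    have hYMY : Y ≤ M ⊔ Y := le_sup_right
    have hNMY : N ≤ M ⊔ Y := Subgroup.normalClosure_le_normal hYMY
    have hRMY : R ≤ M ⊔ Y := hRN.trans hNMY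
    have hRR : (Cfsg.pResidual p ↥R).map R.subtype = R := by
      have := CfsgLib.LE.resOf_resOf (p := p) (⊤ : Subgroup H)
      rwa [CfsgLib.LE.resOf_top] at this
    exact CfsgLib.LE.le_of_resOf_eq hRR hRMY fun x hx =>
      CfsgLib.LE.pow_mem_of_mem_sup (T.2.to_le hYT) (hYT.trans hTM) hx

end Cfsg.Agent.S2827
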