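import Cfsg.Statements.S2828
import Cfsg.Agent.LibLE18

set_option autoImplicit false
open Cfsg

namespace Cfsg.Agent.S2828




/-- Let H be a finite group, p a prime and D a normal p-subgroup of H. Then H is p-irreducible if and only if H/D is p-irreducible, and H is strongly p-irreducible if and only if H/D is strongly p-irreducible. -/
theorem result {H : Type*} [Group H] [Finite H] {p : ℕ} [Fact p.Prime] (D : Subgroup H) [D.Normal] (hD : IsPGroup p ↥D) : (Cfsg.IsPIrreducible p H ↔ Cfsg.IsPIrreducible p (H ⧸ D)) ∧ (Cfsg.IsStronglyPIrreducible p H ↔ Cfsg.IsStronglyPIrreducible p (H ⧸ D)) := by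
  set f := QuotientGroup.mk' D with hf
  have hsurj : Function.Surjective f := QuotientGroup.mk'_surjective D
  have hker : IsPGroup p ↥f.ker := by rw [hf, QuotientGroup.ker_mk']; exact hD
  have hpc : Cfsg.IsPClosed p H ↔ Cfsg.IsPClosed p (H ⧸ D) := CfsgLib.LE.isPClosed_iff_of_ker f hsurj hker
  have hres : (Cfsg.pResidual p H).map f = Cfsg.pResidual p (H ⧸ D) := CfsgLib.LE.map_pResidual_of_surjective f hsurj
  have hcore : (Cfsg.pCore p (H ⧸ D)).comap f = Cfsg.pCore p H := CfsgLib.LE.comap_pCore_of_ker f hsurj hker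
  have hDcore : D ≤ Cfsg.pCore p H := CfsgLib.LE.le_pCore inferInstance hD
  -- from the quotient: if `O^p(H/D) ≤ N D / D` then `O^p(H) ≤ N`
  have hback : ∀ N : Subgroup H, N.Normal → Cfsg.pResidual p (H ⧸ D) ≤ N.map f → Cfsg.pResidual p H ≤ N := by
    intro N hN h
    rw [← hres, Subgroup.map_le_iff_le_comap, Subgroup.comap_map_eq, hf, QuotientGroup.ker_mk'] at h
    have hRR : (Cfsg.pResidual p ↥(Cfsg.pResidual p H)).map (Cfsg.pResidual p H).subtype = Cfsg.pResidual p H := by
      have := CfsgLib.LE.resOf_resOf (p := p) (⊤ : Subgroup H)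
      rwa [CfsgLib.LE.resOf_top] at this
    exact CfsgLib.LE.le_of_resOf_eq hRR h fun x hx =>
      CfsgLib.LE.pow_mem_of_mem_sup hD (by rw [Subgroup.normalizer_eq_top]; exact le_top) hx
  constructor
  · constructor
    · rintro ⟨h1, h2⟩
      refine ⟨fun h => h1 (hpc.2 h), fun N hN hNc => ?_⟩
      have h3 := h2 (N.comap f) inferInstance (by
        intro h
        apply hNc
        have h4 := (CfsgLib.LE.isPClosed_map_iff f hker (N.comap f)).1 h
        rwa [Subgroup.map_comap_eq_self_of_surjective hsurj] at h4)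
      rw [← hres, Subgroup.map_le_iff_le_comap]
      exact h3
    · rintro ⟨h1, h2⟩
      refine ⟨fun h => h1 (hpc.1 h), fun N hN hNc => ?_⟩
      apply hback N hN
      apply h2 _ (Subgroup.Normal.map hN f hsurj)
      intro h
      exact hNc ((CfsgLib.LE.isPClosed_map_iff f hker N).2 h)
  · constructor
    · rintro ⟨h1, h2⟩
      refine ⟨fun h => h1 (hpc.2 h), fun N hN hNc => ?_⟩
      have h3 := h2 (N.comap f) inferInstance (by
        intro h
        apply hNc
        have h4 := Subgroup.map_mono (f := f) h
        rw [Subgroup.map_commutator, Subgroup.map_comap_eq_self_of_surjective hsurj,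
          Subgroup.map_top_of_surjective f hsurj, ← hcore, Subgroup.map_comap_eq_self_of_surjective hsurj] at h4
        exact h4)
      rw [← hres, Subgroup.map_le_iff_le_comap]
      exact h3
    · rintro ⟨h1, h2⟩
      refine ⟨fun h => h1 (hpc.1 h), fun N hN hNc => ?_⟩
      apply hback N hN
      apply h2 _ (Subgroup.Normal.map hN f hsurj)
      intro h
      apply hNc
      rw [← hcore, ← Subgroup.map_le_iff_le_comap, Subgroup.map_commutator, Subgroup.map_top_of_surjective f hsurj]
      exact h

end Cfsg.Agent.S2828
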