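import Cfsg.Statements.S2829
import Cfsg.Agent.LibLE11

set_option autoImplicit false
open Cfsg

namespace Cfsg.Agent.S2829




/-- Every strongly p-irreducible finite group is p-irreducible. -/
theorem result {H : Type*} [Group H] [Finite H] {p : ℕ} [Fact p.Prime] (hH : Cfsg.IsStronglyPIrreducible p H) : Cfsg.IsPIrreducible p H := by
  refine ⟨hH.1, fun N hN hNc => hH.2 N hN ?_⟩
  intro hle
  apply hNc
  rw [CfsgLib.LE.isPClosed_iff]
  intro Q hQ hQp
  -- every Sylow subgroup of N contains [N, N]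
  obtain ⟨S, hS, hQS⟩ := CfsgLib.LE.exists_isSyl_of_le hQ hQp
  have h1 : ⁅N, N⁆ ≤ Cfsg.pCoreOf p N := by
    rw [CfsgLib.LE.pCoreOf_eq_inf_of_normal]
    exact le_inf (Subgroup.commutator_le_self N) ((Subgroup.commutator_mono le_rfl le_top).trans hle)
  have h2 : ⁅N, N⁆ ≤ S := h1.trans hS.pCoreOf_le
  have h3 : N ≤ Subgroup.normalizer (S : Set H) := by
    rw [Subgroup.le_normalizer_iff_commutator_le_left]
    exact (Subgroup.commutator_mono hS.le le_rfl).trans h2
  exact hQS.trans (CfsgLib.LE.le_pCoreOf hS.le h3 hS.isPGroup)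

end Cfsg.Agent.S2829
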