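import Cfsg.Statements.S2830
import Cfsg.Agent.LibLE18

set_option autoImplicit false
open Cfsg

namespace Cfsg.Agent.S2830




/-- Let H act by conjugation on the elementary abelian p-subgroup V of a finite group G (H ≤ N(V)), with H p-irreducible and O^p(H) not centralizing V. Then C_H(V) is p-closed and C_T(V) ≤ O_p(H) for every p-subgroup T of H. If in addition O_p(H) centralizes V, then C_T(V) = T ∩ O_p(H) for every p-subgroup T of H, and V is p-reduced for H: O_p(H/C_H(V)) = 1. -/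
theorem result {G : Type*} [Group G] [Finite G] {p : ℕ} [Fact p.Prime] (V H : Subgroup G) (hV : Cfsg.IsElementaryAbelian p V) (hHV : H ≤ Subgroup.normalizer (V : Set G)) (hH : Cfsg.IsPIrreducible p ↥H) (hnc : ¬ (Cfsg.pResidual p ↥H).map H.subtype ≤ Subgroup.centralizer (V : Set G)) [hn : ((Subgroup.centralizer (V : Set G)).subgroupOf H).Normal] : Cfsg.IsPClosed p ↥(H ⊓ Subgroup.centralizer (V : Set G)) ∧ (∀ T : Subgroup G, T ≤ H → IsPGroup p ↥T → T ⊓ Subgroup.centralizer (V : Set G) ≤ Cfsg.pCoreOf p H) ∧ (Cfsg.pCoreOf p H ≤ Subgroup.centralizer (V : Set G) → (∀ T : Subgroup G, T ≤ H → IsPGroup p ↥T → T ⊓ Subgroup.centralizer (V : Set G) = T ⊓ Cfsg.pCoreOf p H) ∧ Cfsg.pCore p (↥H ⧸ (Subgroup.centralizer (V : Set G)).subgroupOf H) = ⊥) := by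
  obtain ⟨hnc', hirr⟩ := hH
  set C := Subgroup.centralizer (V : Set G) with hC
  have hHC : H ≤ Subgroup.normalizer (C : Set G) := CfsgLib.LE.le_normalizer_centralizer hHV
  have hHHC : H ≤ Subgroup.normalizer ((H ⊓ C : Subgroup G) : Set G) :=
    CfsgLib.LE.le_normalizer_inf Subgroup.le_normalizer hHC
  have hkey : ∀ N : Subgroup G, N ≤ H → H ≤ Subgroup.normalizer (N : Set G) → ¬ Cfsg.IsPClosed p ↥N →
      (Cfsg.pResidual p ↥H).map H.subtype ≤ N := by
    intro N hNH hHN hNc
    have h1 := hirr (N.subgroupOf H) (CfsgLib.LE.subgroupOf_normal_of_le_normalizer hHN) (by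
      intro h
      apply hNc
      exact CfsgLib.LE.isPClosed_of_equiv (Subgroup.subgroupOfEquivOfLe hNH) h)
    have h2 := Subgroup.map_mono (f := H.subtype) h1
    rwa [CfsgLib.LE.map_subtype_subgroupOf hNH] at h2
  have h1 : Cfsg.IsPClosed p ↥(H ⊓ C) := by
    by_contra h
    exact hnc ((hkey _ inf_le_left hHHC h).trans inf_le_right)
  have h2 : ∀ T : Subgroup G, T ≤ H → IsPGroup p ↥T → T ⊓ C ≤ Cfsg.pCoreOf p H := by
    intro T hT hTp
    have h3 := CfsgLib.LE.isPClosed_iff.1 h1 (T ⊓ C) (inf_le_inf_right C hT) (hTp.to_le inf_le_left)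
    exact h3.trans (CfsgLib.LE.pCoreOf_le_pCoreOf_of_normal inf_le_left hHHC)
  refine ⟨h1, h2, fun hOC => ⟨fun T hT hTp => ?_, ?_⟩⟩
  · apply le_antisymm (le_inf inf_le_left (h2 T hT hTp))
    exact le_inf inf_le_left (inf_le_right.trans hOC)
  · -- the preimage of `O_p(H / C_H(V))`
    set f := QuotientGroup.mk' (C.subgroupOf H) with hf
    have hsurj : Function.Surjective f := QuotientGroup.mk'_surjective _
    set K := (Cfsg.pCore p (↥H ⧸ C.subgroupOf H)).comap f with hK
    have hKp : ∀ x ∈ K, ∃ n : ℕ, x ^ (p ^ n) ∈ C.subgroupOf H := by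
      intro x hx
      obtain ⟨n, hn⟩ := CfsgLib.LE.pCore_isPGroup p (↥H ⧸ C.subgroupOf H) ⟨f x, hx⟩
      refine ⟨n, ?_⟩
      have h3 : f (x ^ p ^ n) = 1 := by
        rw [map_pow]; exact congrArg Subtype.val hn
      exact (QuotientGroup.eq_one_iff _).1 h3
    have hKcl : Cfsg.IsPClosed p ↥K := by
      by_contra h
      have h3 := hirr K inferInstance h
      apply hnc
      have h4 : (Cfsg.pResidual p ↥H) ≤ C.subgroupOf H := by
        have hRR : (Cfsg.pResidual p ↥(Cfsg.pResidual p ↥H)).map (Cfsg.pResidual p ↥H).subtype = Cfsg.pResidual p ↥H := by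
          have := CfsgLib.LE.resOf_resOf (p := p) (⊤ : Subgroup ↥H)
          rwa [CfsgLib.LE.resOf_top] at this
        exact CfsgLib.LE.le_of_resOf_eq hRR h3 hKp
      have h5 := Subgroup.map_mono (f := H.subtype) h4
      exact h5.trans (by rw [Subgroup.subgroupOf_map_subtype]; exact inf_le_left)
    have hKC : K ≤ C.subgroupOf H := by
      have h3 := CfsgLib.LE.IsPClosed.isSyl hKcl
      apply h3.le_of_pow_mem hKp
      have h4 : Cfsg.pCoreOf p K ≤ Cfsg.pCore p ↥H := by
        rw [CfsgLib.LE.pCoreOf_eq_inf_of_normal]; exact inf_le_right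
      refine h4.trans ?_
      intro x hx
      exact hOC ⟨x, hx, rfl⟩
    rw [eq_bot_iff]
    intro x hx
    obtain ⟨y, rfl⟩ := hsurj x
    rw [Subgroup.mem_bot]
    exact (QuotientGroup.eq_one_iff y).2 (hKC hx)

end Cfsg.Agent.S2830
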