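import Cfsg.Statements.S2831
import Cfsg.Agent.LibLE12

set_option autoImplicit false
open Cfsg

namespace Cfsg.Agent.S2831




/-- Let H be a finite group with Sylow p-subgroup T such that H is T-minimal (H is generated by the conjugates of T and T lies in exactly one maximal subgroup of H). Then H is p-irreducible: H is not p-closed and O^p(H) lies in every normal subgroup of H that is not p-closed. -/
theorem result {H : Type*} [Group H] [Finite H] {p : ℕ} [Fact p.Prime] (T : Sylow p H) (hmin : Cfsg.IsMinimalOver (T : Subgroup H)) : Cfsg.IsPIrreducible p H := by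
  obtain ⟨hgen, M, ⟨hM, hTM⟩, huniq⟩ := hmin
  have hmax : ∀ X : Subgroup H, (T : Subgroup H) ≤ X → X ≠ ⊤ → X ≤ M := by
    intro X hTX hX
    obtain ⟨M', hM', hXM'⟩ := (eq_top_or_exists_le_coatom X).resolve_left hX
    rwa [huniq M' ⟨hM', hTX.trans hXM'⟩] at hXM'
  refine ⟨?_, ?_⟩
  · intro h
    have h1 := h T
    have h2 : Subgroup.normalClosure ((T : Subgroup H) : Set H) ≤ T := Subgroup.normalClosure_le_normal le_rfl
    rw [hgen] at h2
    exact hM.1 (top_le_iff.1 (h2.trans hTM))
  · intro N hN hNc
    have hS := CfsgLib.LE.sylow_inf_normal' T N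
    have hT : (T : Subgroup H) ≤ Subgroup.normalizer (((T : Subgroup H) ⊓ N : Subgroup H) : Set H) :=
      CfsgLib.LE.le_normalizer_inf Subgroup.le_normalizer (by rw [Subgroup.normalizer_eq_top]; exact le_top)
    have hne : Subgroup.normalizer (((T : Subgroup H) ⊓ N : Subgroup H) : Set H) ≠ ⊤ := by
      intro h
      apply hNc
      exact CfsgLib.LE.isPClosed_of_normal_sylow hS (by rw [h]; exact le_top)
    have h1 := hmax _ hT hne
    have h2 : N ⊔ (T : Subgroup H) = ⊤ := by
      by_contra hcon
      have h3 := hmax _ le_sup_right hcon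
      have h4 := hS.frattini (N := ⊤) le_top (by rw [Subgroup.normalizer_eq_top])
      apply hM.1
      rw [eq_top_iff, ← h4]
      exact sup_le (le_sup_left.trans h3) (inf_le_right.trans h1)
    apply CfsgLib.LE.pResidual_le_of_pow_mem
    intro x
    apply CfsgLib.LE.pow_mem_of_mem_sup T.2 (by rw [Subgroup.normalizer_eq_top]; exact le_top)
    rw [h2]; trivial

end Cfsg.Agent.S2831
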