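import Cfsg.Statements.S2832
import Cfsg.Agent.LibLE12

set_option autoImplicit false
open Cfsg

namespace Cfsg.Agent.S2832




/-- Let H be a finite group with Sylow p-subgroup T such that H is T-minimal (generated by the conjugates of T, with T in exactly one maximal subgroup), and let N be a normal subgroup of H. Then either H/N is a p-group or H/N is minimal over the image of T in the same sense. -/
theorem result {H : Type*} [Group H] [Finite H] {p : ℕ} [Fact p.Prime] (T : Sylow p H) (hmin : Cfsg.IsMinimalOver (T : Subgroup H)) (N : Subgroup H) [N.Normal] : IsPGroup p (H ⧸ N) ∨ Cfsg.IsMinimalOver ((T : Subgroup H).map (QuotientGroup.mk' N)) := by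
  obtain ⟨hgen, M, ⟨hM, hTM⟩, huniq⟩ := hmin
  have hmax : ∀ X : Subgroup H, (T : Subgroup H) ≤ X → X ≠ ⊤ → X ≤ M := by
    intro X hTX hX
    obtain ⟨M', hM', hXM'⟩ := (eq_top_or_exists_le_coatom X).resolve_left hX
    rwa [huniq M' ⟨hM', hTX.trans hXM'⟩] at hXM'
  have hsurj := QuotientGroup.mk'_surjective N
  by_cases h : N ⊔ (T : Subgroup H) = ⊤
  · left
    intro x
    obtain ⟨y, rfl⟩ := hsurj x
    obtain ⟨k, hk⟩ := CfsgLib.LE.pow_mem_of_mem_sup (N := N) T.2 (by rw [Subgroup.normalizer_eq_top]; exact le_top)
      (x := y) (by rw [h]; trivial)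
    refine ⟨k, ?_⟩
    rw [← map_pow]
    exact (QuotientGroup.eq_one_iff _).2 hk
  · right
    have hNM : N ≤ M := le_sup_left.trans (hmax _ le_sup_right h)
    have hcm : (M.map (QuotientGroup.mk' N)).comap (QuotientGroup.mk' N) = M := by
      rw [Subgroup.comap_map_eq, QuotientGroup.ker_mk', sup_eq_left]
      exact hNM
    refine ⟨?_, M.map (QuotientGroup.mk' N), ⟨⟨?_, ?_⟩, Subgroup.map_mono hTM⟩, ?_⟩
    · have h1 := Subgroup.map_normalClosure ((T : Subgroup H) : Set H) (QuotientGroup.mk' N) hsurj
      rw [Subgroup.coe_map, ← h1, hgen]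
      exact Subgroup.map_top_of_surjective _ hsurj
    · intro h1
      apply hM.1
      rw [← hcm, h1, Subgroup.comap_top]
    · intro K hK
      have h2 : M < K.comap (QuotientGroup.mk' N) := by
        rw [← hcm]
        refine lt_of_le_of_ne (Subgroup.comap_mono hK.le) ?_
        intro h3
        exact hK.ne (Subgroup.comap_injective hsurj h3)
      have h3 := hM.2 _ h2
      rw [← Subgroup.map_comap_eq_self_of_surjective hsurj K, h3]
      exact Subgroup.map_top_of_surjective _ hsurj
    · rintro K ⟨hK, hTK⟩
      have h1 : (T : Subgroup H) ≤ K.comap (QuotientGroup.mk' N) := Subgroup.map_le_iff_le_comap.1 hTK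
      have h2 : K.comap (QuotientGroup.mk' N) ≠ ⊤ := by
        intro h3
        apply hK.1
        rw [← Subgroup.map_comap_eq_self_of_surjective hsurj K, h3]
        exact Subgroup.map_top_of_surjective _ hsurj
      have h3 := Subgroup.map_mono (f := QuotientGroup.mk' N) (hmax _ h1 h2)
      rw [Subgroup.map_comap_eq_self_of_surjective hsurj] at h3
      by_contra hne
      have h4 := hK.2 _ (lt_of_le_of_ne h3 hne)
      apply hM.1
      rw [← hcm, h4, Subgroup.comap_top]

end Cfsg.Agent.S2832
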