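import Cfsg.Statements.S2833
import Cfsg.Agent.LibLE12

set_option autoImplicit false
open Cfsg

namespace Cfsg.Agent.S2833




/-- Let V be a subgroup of a finite group G normalized by the subgroup L, let X ≤ L and g ∈ L with [V, X, X] = 1 and L generated by X and gXg⁻¹. Put W = [V, L]. Then W = [V, X]·[V, gXg⁻¹], C_W(X) = [V, X], and C_W(L) = [V, X] ∩ [V, gXg⁻¹]. -/
theorem result {G : Type*} [Group G] [Finite G] (V L : Subgroup G) (hLV : L ≤ Subgroup.normalizer (V : Set G)) (X : Subgroup G) (hX : X ≤ L) (g : G) (hg : g ∈ L) (hq : ⁅⁅V, X⁆, X⁆ = ⊥) (hgen : X ⊔ X.map (MulAut.conj g).toMonoidHom = L) (W : Subgroup G) (hW : W = ⁅V, L⁆) : ⁅V, X⁆ ⊔ ⁅V, X.map (MulAut.conj g).toMonoidHom⁆ = W ∧ W ⊓ Subgroup.centralizer (X : Set G) = ⁅V, X⁆ ∧ W ⊓ Subgroup.centralizer (L : Set G) = ⁅V, X⁆ ⊓ ⁅V, X.map (MulAut.conj g).toMonoidHom⁆ := by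
  have hXV : X ≤ Subgroup.normalizer (V : Set G) := hX.trans hLV
  set X' := X.map (MulAut.conj g).toMonoidHom with hX'
  have hX'L : X' ≤ L := by rw [← hgen]; exact le_sup_right
  have hVg : V.map (MulAut.conj g).toMonoidHom = V := CfsgLib.LE.mem_normalizer_iff_map_conj.1 (hLV hg)
  have hVX : ⁅V, X⁆ ≤ V := Subgroup.le_normalizer_iff_commutator_le_left.1 hXV
  have hVX' : ⁅V, X'⁆ ≤ V := Subgroup.le_normalizer_iff_commutator_le_left.1 (hX'L.trans hLV)
  have hconj : (⁅V, X⁆ : Subgroup G).map (MulAut.conj g).toMonoidHom = ⁅V, X'⁆ := by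
    rw [Subgroup.map_commutator, hVg]
  set D := ⁅V, X⁆ ⊔ ⁅V, X'⁆ with hD
  have hn1 : V ≤ Subgroup.normalizer (⁅V, X⁆ : Subgroup G) := Subgroup.normalizer_commutator_ge_left V X
  have hn2 : X ≤ Subgroup.normalizer (⁅V, X⁆ : Subgroup G) := Subgroup.normalizer_commutator_ge_right V X
  have hn3 : V ≤ Subgroup.normalizer (⁅V, X'⁆ : Subgroup G) := Subgroup.normalizer_commutator_ge_left V X'
  have hn4 : X' ≤ Subgroup.normalizer (⁅V, X'⁆ : Subgroup G) := Subgroup.normalizer_commutator_ge_right V X'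
  have hXD : X ≤ Subgroup.normalizer (D : Set G) := by
    rw [Subgroup.le_normalizer_iff_commutator_le_left]
    exact (Subgroup.commutator_mono (sup_le hVX hVX') le_rfl).trans le_sup_left
  have hX'D : X' ≤ Subgroup.normalizer (D : Set G) := by
    rw [Subgroup.le_normalizer_iff_commutator_le_left]
    exact (Subgroup.commutator_mono (sup_le hVX hVX') le_rfl).trans le_sup_right
  have hDW : D = W := by
    apply le_antisymm
    · rw [hW]
      exact sup_le (Subgroup.commutator_mono le_rfl hX) (Subgroup.commutator_mono le_rfl hX'L)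
    · rw [hW, ← hgen]
      exact CfsgLib.LE.commutator_sup_le le_sup_left le_sup_right hXD hX'D
  have hcX : ⁅V, X⁆ ≤ Subgroup.centralizer (X : Set G) := by
    rwa [← Subgroup.commutator_eq_bot_iff_le_centralizer]
  have hcX' : ⁅V, X'⁆ ≤ Subgroup.centralizer (X' : Set G) := by
    rw [← hconj, hX', CfsgLib.LE.centralizer_map_conj]
    exact Subgroup.map_mono hcX
  have hgen' : Subgroup.centralizer (X : Set G) ⊓ Subgroup.centralizer (X' : Set G) ≤ Subgroup.centralizer (L : Set G) := by
    rw [← hgen, Subgroup.le_centralizer_iff]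
    apply sup_le
    · rw [Subgroup.le_centralizer_iff]; exact inf_le_left
    · rw [Subgroup.le_centralizer_iff]; exact inf_le_right
  have hCX : W ⊓ Subgroup.centralizer (X : Set G) = ⁅V, X⁆ := by
    apply le_antisymm
    · rintro w ⟨hw, hwX⟩
      rw [← hDW, hD] at hw
      obtain ⟨a, ha, b, hb, rfl⟩ := (CfsgLib.LE.mem_sup_of_le_normalizer (hVX.trans hn3)).1 hw
      have hbX : b ∈ Subgroup.centralizer (X : Set G) := by
        have := Subgroup.mul_mem _ (Subgroup.inv_mem _ (hcX ha)) hwX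
        simpa using this
      have hbL := hgen' (Subgroup.mem_inf.2 ⟨hbX, hcX' hb⟩)
      rw [← hconj, CfsgLib.LE.map_conj_mem] at hb
      have h1 : g⁻¹ * b * g = b := by
        have := Subgroup.mem_centralizer_iff.1 hbL g hg
        rw [mul_assoc, ← this]; group
      rw [h1] at hb
      exact Subgroup.mul_mem _ ha hb
    · refine le_inf ?_ hcX
      rw [← hDW]; exact le_sup_left
  have hWg : W.map (MulAut.conj g).toMonoidHom = W := by
    rw [← CfsgLib.LE.mem_normalizer_iff_map_conj, hW]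
    exact Subgroup.normalizer_commutator_ge_right V L hg
  have hCX' : W ⊓ Subgroup.centralizer (X' : Set G) = ⁅V, X'⁆ := by
    rw [← hconj, ← hCX, Subgroup.map_inf_eq _ _ _ (MulAut.conj g).injective, hWg, hX', CfsgLib.LE.centralizer_map_conj]
  refine ⟨hDW, hCX, ?_⟩
  rw [← hCX, ← hCX']
  apply le_antisymm
  · refine le_inf (le_inf inf_le_left (inf_le_right.trans (Subgroup.centralizer_le hX)))
      (le_inf inf_le_left (inf_le_right.trans (Subgroup.centralizer_le hX'L)))
  · refine le_inf (inf_le_left.trans inf_le_left) (le_trans ?_ hgen')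
    exact le_inf (inf_le_left.trans inf_le_right) (inf_le_right.trans inf_le_right)

end Cfsg.Agent.S2833
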