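import Cfsg.Statements.S2834
import Cfsg.Agent.LibLELem

set_option autoImplicit false
open Cfsg

namespace Cfsg.Agent.S2834




/-- The L-Lemma: let H be a finite group with Sylow p-subgroup T such that H is T-minimal (generated by the conjugates of T, T in exactly one maximal subgroup M), and let A ≤ T with A not contained in O_p(H). Then there is a subgroup L of H containing A·O_p(H) such that (a) A·O_p(L) lies in exactly one maximal subgroup L₀ of L, and L₀ = L ∩ gMg⁻¹ for some g ∈ H; (b) L = ⟨A, xAx⁻¹⟩·O_p(L) for every x ∈ L outside L₀. -/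
theorem result {H : Type*} [Group H] [Finite H] {p : ℕ} [Fact p.Prime] (T : Sylow p H) (hmin : Cfsg.IsMinimalOver (T : Subgroup H)) (M : Subgroup H) (hM : IsCoatom M ∧ (T : Subgroup H) ≤ M) (A : Subgroup H) (hAT : A ≤ (T : Subgroup H)) (hA : ¬ A ≤ Cfsg.pCore p H) : ∃ L : Subgroup H, A ⊔ Cfsg.pCore p H ≤ L ∧ ∃ L₀ : Subgroup H, A ⊔ (Cfsg.pCoreOf p L) ≤ L₀ ∧ L₀ < L ∧ (∀ X : Subgroup H, A ⊔ (Cfsg.pCoreOf p L) ≤ X → X < L → X ≤ L₀) ∧ (∃ g : H, L₀ = L ⊓ ((M : Subgroup H).map (MulAut.conj (g : H)).toMonoidHom)) ∧ ∀ x ∈ L, x ∉ L₀ → (A ⊔ ((A : Subgroup H).map (MulAut.conj (x : H)).toMonoidHom)) ⊔ (Cfsg.pCoreOf p L) = L := by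
  have hpT : pCoreOf p (⊤ : Subgroup H) = pCore p H := CfsgLib.LE.pCoreOf_top p H
  have hTsyl : CfsgLib.LE.IsSyl p (T : Subgroup H) ⊤ := CfsgLib.LE.isSyl_sylow T le_top
  have hMP : CfsgLib.LE.MinPar p (⊤ : Subgroup H) (T : Subgroup H) M := by
    refine ⟨hTsyl, lt_top_iff_ne_top.2 hM.1.1, hM.2, ?_, ?_⟩
    · intro X hX hXt
      exact CfsgLib.LE.minOver_le hM.1 hM.2 hmin X hX hXt.ne
    · intro K _ hK hTK
      have hKn : K.Normal := Subgroup.normalizer_eq_top_iff.1 (top_le_iff.1 hK)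
      exact CfsgLib.LE.minOver_not_normal hmin hTK hKn
  obtain ⟨L, h1, h2, L₀, h3, h4, h5, ⟨g, -, h6⟩, h7⟩ := CfsgLib.LE.l_lemma (Nat.card ↥(⊤ : Subgroup H)) ⊤
    (T : Subgroup H) M A le_rfl hMP le_top (T.isPGroup'.to_le hAT) (by rw [hpT]; exact hA)
  rw [hpT] at h1
  exact ⟨L, h1, L₀, h3, h4, h5, ⟨g, h6⟩, h7⟩

end Cfsg.Agent.S2834
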