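import Cfsg.Statements.S2835
import Cfsg.Agent.LibLE19

set_option autoImplicit false
open Cfsg

namespace Cfsg.Agent.S2835




/-- Let L be a finite group, L₀ a maximal subgroup, T a Sylow p-subgroup of L₀ and Y ≤ T, and suppose L is Y-minimal (generated by the conjugates of Y, with Y in exactly one maximal subgroup, necessarily L₀). Then N_L(T) ≤ L₀, O_p(L) ≤ L₀ and T is a Sylow p-subgroup of L; N_L(L₀) = L₀; L = ⟨Y, gYg⁻¹⟩ for each g ∈ L outside L₀; and if Y is abelian then Y ∩ gYg⁻¹ = C_Y(L) for each such g. -/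
theorem result {L : Type*} [Group L] [Finite L] {p : ℕ} [Fact p.Prime] (L₀ : Subgroup L) (hL₀ : IsCoatom L₀) (T : Sylow p ↥L₀) (Y : Subgroup L) (hYT : Y ≤ (T : Subgroup ↥L₀).map L₀.subtype) (hmin : Cfsg.IsMinimalOver Y) : Subgroup.normalizer (((T : Subgroup ↥L₀).map L₀.subtype : Subgroup L) : Set L) ≤ L₀ ∧ Cfsg.pCore p L ≤ L₀ ∧ (∃ P : Sylow p L, (P : Subgroup L) = (T : Subgroup ↥L₀).map L₀.subtype) ∧ Subgroup.normalizer (L₀ : Set L) = L₀ ∧ (∀ g : L, g ∉ L₀ → Y ⊔ Y.map (MulAut.conj g).toMonoidHom = ⊤) ∧ (IsMulCommutative ↥Y → ∀ g : L, g ∉ L₀ → Y ⊓ Y.map (MulAut.conj g).toMonoidHom = Y ⊓ Subgroup.center L) := by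
  have hTs : CfsgLib.LE.IsSyl p ((T : Subgroup ↥L₀).map L₀.subtype) L₀ := ⟨T, rfl⟩
  have hYL : Y ≤ L₀ := hYT.trans hTs.le
  have hYp : IsPGroup p ↥Y := hTs.isPGroup.to_le hYT
  obtain ⟨h1, h2⟩ := CfsgLib.LE.minOver_sylow hL₀ hTs hYT hmin
  refine ⟨h1, CfsgLib.LE.minOver_pCore_le hYp hL₀ hYL hmin, CfsgLib.LE.isSyl_top_iff.1 h2,
    CfsgLib.LE.minOver_normalizer_eq hL₀ hYL hmin, fun g hg => CfsgLib.LE.minOver_sup_conj hL₀ hYL hmin hg,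
    fun hc g hg => CfsgLib.LE.minOver_inf_conj hL₀ hYL hmin (CfsgLib.LE.isMulCommutative_iff.1 hc) hg⟩

end Cfsg.Agent.S2835
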