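import Cfsg.Statements.S2836
import Cfsg.Agent.LibLE19

set_option autoImplicit false
open Cfsg

namespace Cfsg.Agent.S2836




/-- Let L be a finite group, L₀ a maximal subgroup, T a Sylow p-subgroup of L₀, Y ≤ T, and suppose L is Y-minimal. Let D be the intersection of the conjugates of L₀ (the core of L₀). Then D contains O_p(L) and D/O_p(L) is the Frattini subgroup of L/O_p(L), so D is p-closed; and every normal subgroup N of L contained in L₀ is p-closed with N/O_p(N) a nilpotent group of order prime to p. -/
theorem result {L : Type*} [Group L] [Finite L] {p : ℕ} [Fact p.Prime] (L₀ : Subgroup L) (hL₀ : IsCoatom L₀) (T : Sylow p ↥L₀) (Y : Subgroup L) (hYT : Y ≤ (T : Subgroup ↥L₀).map L₀.subtype) (hmin : Cfsg.IsMinimalOver Y) : (Cfsg.pCore p L ≤ L₀.normalCore ∧ (L₀.normalCore).map (QuotientGroup.mk' (Cfsg.pCore p L)) = frattini (L ⧸ Cfsg.pCore p L) ∧ Cfsg.IsPClosed p ↥(L₀.normalCore)) ∧ ∀ (N : Subgroup L) [N.Normal], N ≤ L₀ → Cfsg.IsPClosed p ↥N ∧ Group.IsNilpotent (↥N ⧸ Cfsg.pCore p ↥N) ∧ (Nat.card (↥N ⧸ Cfsg.pCore p ↥N)).Coprime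 p := by
  have hTs : CfsgLib.LE.IsSyl p ((T : Subgroup ↥L₀).map L₀.subtype) L₀ := ⟨T, rfl⟩
  have hYL : Y ≤ L₀ := hYT.trans hTs.le
  have hYp : IsPGroup p ↥Y := hTs.isPGroup.to_le hYT
  obtain ⟨h1, h2⟩ := CfsgLib.LE.minOver_sylow hL₀ hTs hYT hmin
  have hOL := CfsgLib.LE.minOver_pCore_le hYp hL₀ hYL hmin
  have hnt : ∀ (N : Subgroup L) [N.Normal], ∀ A : Subgroup L, A ≤ Subgroup.normalizer (N : Set L) := by
    intro N hN A; rw [Subgroup.normalizer_eq_top]; exact le_top
  set O := Cfsg.pCore p L with hO
  set D := L₀.normalCore with hD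
  have hDn : D.Normal := Subgroup.normalCore_normal L₀
  have hDL : D ≤ L₀ := Subgroup.normalCore_le L₀
  have hOD : O ≤ D := Subgroup.normal_le_normalCore.2 hOL
  obtain ⟨hDc, hDs, hDO⟩ := CfsgLib.LE.minOver_normal_pclosed hL₀ hTs hYT hmin (N := D) hDL
  have hDO' : Cfsg.pCoreOf p D = O := by
    apply le_antisymm hDO
    rw [CfsgLib.LE.pCoreOf_eq_inf_of_normal]; exact le_inf hOD le_rfl
  set f := QuotientGroup.mk' O with hf
  have hsurj : Function.Surjective f := QuotientGroup.mk'_surjective O
  have hfr : D.map f = frattini (L ⧸ O) := by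
    apply le_antisymm
    · -- every maximal subgroup of `L / O` contains the image of `D`
      unfold frattini Order.radical
      refine le_iInf fun Mb => le_iInf fun hMb => ?_
      set M := Mb.comap f with hM
      have hMc : IsCoatom M := by
        refine ⟨?_, fun K hK => ?_⟩
        · intro h
          apply hMb.1
          rw [← Subgroup.map_comap_eq_self_of_surjective hsurj Mb, ← hM, h, Subgroup.map_top_of_surjective f hsurj]
        · have hKO : O ≤ K := by
            refine le_trans ?_ hK.le
            rw [hM]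
            conv_lhs => rw [← QuotientGroup.ker_mk' O]
            exact Subgroup.ker_le_comap _ _
          have h3 : Mb < K.map f := by
            have h4 : Mb ≤ K.map f := by
              rw [← Subgroup.map_comap_eq_self_of_surjective hsurj Mb]
              exact Subgroup.map_mono hK.le
            refine lt_of_le_of_ne h4 ?_
            intro h5
            apply hK.ne
            rw [hM, h5, Subgroup.comap_map_eq, hf, QuotientGroup.ker_mk', sup_eq_left]
            exact hKO
          have h4 := hMb.2 _ h3
          have h5 := congrArg (Subgroup.comap f) h4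
          rw [Subgroup.comap_map_eq, hf, QuotientGroup.ker_mk', Subgroup.comap_top, sup_eq_left.2 hKO] at h5
          exact h5
      have hOM : O ≤ M := by
        rw [hM]
        conv_lhs => rw [← QuotientGroup.ker_mk' O]
        exact Subgroup.ker_le_comap _ _
      rw [Subgroup.map_le_iff_le_comap]
      by_contra hcon
      -- `L = D M`, so `M` contains a Sylow `p`-subgroup of `L`
      have h3 : D ⊔ M = ⊤ := by
        apply hMc.2
        refine lt_of_le_of_ne le_sup_right ?_
        intro h
        exact hcon (le_sup_left.trans h.ge)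
      obtain ⟨S, hS⟩ := CfsgLib.LE.exists_isSyl p M
      have h4 : CfsgLib.LE.IsSyl p S ⊤ := by
        apply CfsgLib.LE.isSyl_of_not_dvd le_top hS.isPGroup
        have h5 : S.relIndex ⊤ = S.relIndex M * M.relIndex ⊤ := (Subgroup.relIndex_mul_relIndex S M ⊤ hS.le le_top).symm
        rw [h5]
        have h6 : M.relIndex ⊤ = M.relIndex D := by
          have h7 := CfsgLib.LE.card_sup_mul_card_inf (H := M) (K := D) (hnt D M)
          rw [sup_comm, h3] at h7
          have h8 := CfsgLib.LE.card_mul_relIndex (H := M) (K := ⊤) le_top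
          have h9 := CfsgLib.LE.card_mul_relIndex (H := M ⊓ D) (K := D) inf_le_right
          rw [Subgroup.inf_relIndex_right] at h9
          have h10 : Nat.card ↥M * M.relIndex ⊤ * Nat.card ↥(M ⊓ D) =
              Nat.card ↥M * (Nat.card ↥(M ⊓ D) * M.relIndex D) := by rw [h8, h7, h9]
          have h11 : (Nat.card ↥M * Nat.card ↥(M ⊓ D)) * M.relIndex ⊤ =
              (Nat.card ↥M * Nat.card ↥(M ⊓ D)) * M.relIndex D := by
            rw [← mul_assoc] at h10
            rw [← h10]; ring
          exact Nat.eq_of_mul_eq_mul_left (Nat.mul_pos Nat.card_pos Nat.card_pos) h11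
        rw [h6]
        have h7 : M.relIndex D ∣ O.relIndex D := Subgroup.relIndex_dvd_of_le_left D hOM
        have h8 := hDs.not_dvd_relIndex
        rw [hDO'] at h8
        have hp := (Fact.out : p.Prime)
        intro h9
        rcases (Nat.Prime.dvd_mul hp).1 h9 with h10 | h10
        · exact hS.not_dvd_relIndex h10
        · exact h8 (h10.trans h7)
      obtain ⟨n, -, h5⟩ := h4.conj_of_isSyl h2
      -- `Y ≤ T = S ^ n ≤ M ^ n`
      have h6 : Y ≤ M.map (MulAut.conj n).toMonoidHom := by
        refine hYT.trans ?_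
        rw [← h5]; exact Subgroup.map_mono hS.le
      have h7 : M.map (MulAut.conj n).toMonoidHom ≠ ⊤ := by
        intro h
        apply hMc.1
        have := congrArg (Subgroup.map (MulAut.conj n⁻¹).toMonoidHom) h
        rw [CfsgLib.LE.map_conj_mul, inv_mul_cancel, CfsgLib.LE.map_conj_one,
          Subgroup.map_top_of_surjective _ (MulAut.conj n⁻¹).surjective] at this
        exact this
      have h8 := CfsgLib.LE.minOver_le hL₀ hYL hmin _ h6 h7
      -- `M ^ n = L₀ ≥ D`
      have h9 : M ≤ L₀.map (MulAut.conj n⁻¹).toMonoidHom := by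
        have := Subgroup.map_mono (f := (MulAut.conj n⁻¹).toMonoidHom) h8
        rwa [CfsgLib.LE.map_conj_mul, inv_mul_cancel, CfsgLib.LE.map_conj_one] at this
      have h10 : L₀.map (MulAut.conj n⁻¹).toMonoidHom ≠ ⊤ := by
        intro h
        apply hL₀.1
        have := congrArg (Subgroup.map (MulAut.conj n).toMonoidHom) h
        rw [CfsgLib.LE.map_conj_mul, mul_inv_cancel, CfsgLib.LE.map_conj_one,
          Subgroup.map_top_of_surjective _ (MulAut.conj n).surjective] at this
        exact this
      have h11 : M = L₀.map (MulAut.conj n⁻¹).toMonoidHom := by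
        rcases eq_or_lt_of_le h9 with h | h
        · exact h
        · exact absurd (hMc.2 _ h) h10
      apply hcon
      rw [← hM, h11, ← CfsgLib.LE.map_conj_of_normal D n⁻¹]
      exact Subgroup.map_mono hDL
    · -- the image of `L₀` is maximal
      have hL₀m : IsCoatom (L₀.map f) := by
        refine ⟨?_, fun K hK => ?_⟩
        · intro h
          apply hL₀.1
          have h5 := congrArg (Subgroup.comap f) h
          rw [Subgroup.comap_map_eq, hf, QuotientGroup.ker_mk', Subgroup.comap_top, sup_eq_left.2 hOL] at h5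
          exact h5
        · have h3 : L₀ < K.comap f := by
            have h4 : L₀ ≤ K.comap f := Subgroup.map_le_iff_le_comap.1 hK.le
            refine lt_of_le_of_ne h4 ?_
            intro h5
            apply hK.ne
            rw [h5, Subgroup.map_comap_eq_self_of_surjective hsurj]
          have h4 := hL₀.2 _ h3
          rw [← Subgroup.map_comap_eq_self_of_surjective hsurj K, h4, Subgroup.map_top_of_surjective f hsurj]
      have h3 : frattini (L ⧸ O) ≤ L₀.map f := frattini_le_coatom hL₀m
      have h4 : (frattini (L ⧸ O)).comap f ≤ L₀ := by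
        have h5 := Subgroup.comap_mono (f := f) h3
        rwa [Subgroup.comap_map_eq, hf, QuotientGroup.ker_mk', sup_eq_left.2 hOL] at h5
      have h5 : (frattini (L ⧸ O)).comap f ≤ D := by
        have : ((frattini (L ⧸ O)).comap f).Normal := inferInstance
        exact Subgroup.normal_le_normalCore.2 h4
      rw [← Subgroup.map_comap_eq_self_of_surjective hsurj (frattini (L ⧸ O))]
      exact Subgroup.map_mono h5
  refine ⟨⟨hOD, hfr, hDc⟩, ?_⟩
  intro N hN hNL
  obtain ⟨hNc, hNs, hNO⟩ := CfsgLib.LE.minOver_normal_pclosed hL₀ hTs hYT hmin (N := N) hNL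
  have hND : N ≤ D := Subgroup.normal_le_normalCore.2 hNL
  refine ⟨hNc, ?_, ?_⟩
  · -- embed in the Frattini subgroup
    have hker : (f.comp N.subtype).ker = Cfsg.pCore p ↥N := by
      ext x
      rw [MonoidHom.mem_ker]
      have h3 : (f.comp N.subtype) x = 1 ↔ (x : L) ∈ O := QuotientGroup.eq_one_iff (x : L)
      rw [h3, ← CfsgLib.LE.pCoreOf_subgroupOf (p := p) (H := N), CfsgLib.LE.pCoreOf_eq_inf_of_normal, Subgroup.mem_subgroupOf]
      exact ⟨fun h => Subgroup.mem_inf.2 ⟨x.2, h⟩, fun h => (Subgroup.mem_inf.1 h).2⟩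
    have hle : (f.comp N.subtype).range ≤ frattini (L ⧸ O) := by
      rw [← hfr]
      rintro _ ⟨x, rfl⟩
      exact ⟨x, hND x.2, rfl⟩
    have hnil : Group.IsNilpotent ↥(frattini (L ⧸ O)) := frattini_nilpotent
    have hnil2 : Group.IsNilpotent ↥(f.comp N.subtype).range := by
      have h3 : Group.IsNilpotent ↥((f.comp N.subtype).range.subgroupOf (frattini (L ⧸ O))) := inferInstance
      exact (Group.isNilpotent_congr (Subgroup.subgroupOfEquivOfLe hle)).1 h3
    exact (Group.isNilpotent_congr ((QuotientGroup.quotientMulEquivOfEq hker.symm).trans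
      (QuotientGroup.quotientKerEquivRange (f.comp N.subtype)))).2 hnil2
  · have h3 : Nat.card (↥N ⧸ Cfsg.pCore p ↥N) = (Cfsg.pCoreOf p N).relIndex N := by
      rw [Subgroup.relIndex, CfsgLib.LE.pCoreOf_subgroupOf]; rfl
    rw [h3]
    exact ((Nat.Prime.coprime_iff_not_dvd Fact.out).2 hNs.not_dvd_relIndex).symm

end Cfsg.Agent.S2836
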