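import Cfsg.Statements.S2837
import Cfsg.Agent.LibLE19

set_option autoImplicit false
open Cfsg

namespace Cfsg.Agent.S2837




/-- Let L be a finite group of characteristic p, L₀ a maximal subgroup, Y an elementary abelian p-subgroup of L₀ with L Y-minimal and O_p(L) ≤ N_L(Y). Put A = the normal closure of O_p(L) ∩ Y in L. Then for every g ∈ L outside L₀: Φ(A) = A' = [A ∩ Y, A] = [A ∩ Y, A ∩ gYg⁻¹] ≤ C_Y(L), and Y ∩ gYg⁻¹ = (A ∩ Y) ∩ (A ∩ gYg⁻¹) = C_Y(L) = C_A(L). -/
theorem result {L : Type*} [Group L] [Finite L] {p : ℕ} [Fact p.Prime] (hchar : Subgroup.centralizer (Cfsg.pCore p L : Set L) ≤ Cfsg.pCore p L) (L₀ : Subgroup L) (hL₀ : IsCoatom L₀) (Y : Subgroup L) (hYL₀ : Y ≤ L₀) (hYel : Cfsg.IsElementaryAbelian p Y) (hmin : Cfsg.IsMinimalOver Y) (hOY : Cfsg.pCore p L ≤ Subgroup.normalizer (Y : Set L)) (A : Subgroup L) (hA : A = Subgroup.normalClosure (((Cfsg.pCore p L ⊓ Y : Subgroup L)) : Set L)) (g : L) (hg : g ∉ L₀) : (frattini ↥A).map A.subtype = ⁅A, A⁆ ∧ ⁅A, A⁆ = ⁅A ⊓ Y, A⁆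 ∧ ⁅A ⊓ Y, A⁆ = ⁅A ⊓ Y, A ⊓ Y.map (MulAut.conj g).toMonoidHom⁆ ∧ ⁅A ⊓ Y, A⁆ ≤ Y ⊓ Subgroup.center L ∧ Y ⊓ Y.map (MulAut.conj g).toMonoidHom = Y ⊓ Subgroup.center L ∧ (A ⊓ Y) ⊓ (A ⊓ Y.map (MulAut.conj g).toMonoidHom) = Y ⊓ Subgroup.center L ∧ A ⊓ Subgroup.center L = Y ⊓ Subgroup.center L := by
  set O := Cfsg.pCore p L with hO
  have hYc := (CfsgLib.LE.isElementaryAbelian_iff.1 hYel).1
  have hYp := CfsgLib.LE.isPGroup_of_elementaryAbelian hYel
  have hOp : IsPGroup p ↥O := CfsgLib.LE.pCore_isPGroup p L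
  have hnO : ∀ A : Subgroup L, A ≤ Subgroup.normalizer (O : Set L) := by
    intro A; rw [Subgroup.normalizer_eq_top]; exact le_top
  set Yg := Y.map (MulAut.conj g).toMonoidHom with hYg
  have hgen : Y ⊔ Yg = ⊤ := CfsgLib.LE.minOver_sup_conj hL₀ hYL₀ hmin hg
  have hinf : Y ⊓ Yg = Y ⊓ Subgroup.center L := CfsgLib.LE.minOver_inf_conj hL₀ hYL₀ hmin hYc hg
  have hOg : O.map (MulAut.conj g).toMonoidHom = O := CfsgLib.LE.map_conj_of_normal O g
  have hOYg : O ≤ Subgroup.normalizer (Yg : Set L) := by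
    rw [hYg, CfsgLib.LE.normalizer_map_conj, ← hOg]; exact Subgroup.map_mono hOY
  set X := O ⊓ Y with hX
  set Xg := O ⊓ Yg with hXg
  have hXgX : X.map (MulAut.conj g).toMonoidHom = Xg := by
    rw [hX, Subgroup.map_inf_eq _ _ _ (MulAut.conj g).injective, hOg]
  have hOX : O ≤ Subgroup.normalizer (X : Set L) := CfsgLib.LE.le_normalizer_inf Subgroup.le_normalizer hOY
  have hOXg : O ≤ Subgroup.normalizer (Xg : Set L) := CfsgLib.LE.le_normalizer_inf Subgroup.le_normalizer hOYg
  have hOYX : ⁅O, Y⁆ ≤ X := by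
    refine le_inf (Subgroup.le_normalizer_iff_commutator_le_left.1 (hnO Y)) ?_
    rw [Subgroup.commutator_comm]; exact Subgroup.le_normalizer_iff_commutator_le_left.1 hOY
  have hOYXg : ⁅O, Yg⁆ ≤ Xg := by
    refine le_inf (Subgroup.le_normalizer_iff_commutator_le_left.1 (hnO Yg)) ?_
    rw [Subgroup.commutator_comm]; exact Subgroup.le_normalizer_iff_commutator_le_left.1 hOYg
  have hXXgO : X ⊔ Xg ≤ O := sup_le inf_le_left inf_le_left
  have hXXgn : (X ⊔ Xg).Normal := by
    rw [← Subgroup.normalizer_eq_top_iff, eq_top_iff, ← hgen]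
    apply sup_le
    · rw [Subgroup.le_normalizer_iff_commutator_le_left]
      exact ((Subgroup.commutator_mono hXXgO le_rfl).trans hOYX).trans le_sup_left
    · rw [Subgroup.le_normalizer_iff_commutator_le_left]
      exact ((Subgroup.commutator_mono hXXgO le_rfl).trans hOYXg).trans le_sup_right
  have hAeq : A = X ⊔ Xg := by
    rw [hA]
    apply le_antisymm
    · have h1 : X ≤ X ⊔ Xg := le_sup_left
      exact Subgroup.normalClosure_le_normal h1
    · have h1 : X ≤ Subgroup.normalClosure (X : Set L) := Subgroup.subset_normalClosure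
      refine sup_le h1 ?_
      have h2 : (Subgroup.normalClosure (X : Set L)).Normal := Subgroup.normalClosure_normal
      rw [← hXgX, ← CfsgLib.LE.map_conj_of_normal (Subgroup.normalClosure (X : Set L)) g]
      exact Subgroup.map_mono h1
  have hAO : A ≤ O := by rw [hAeq]; exact hXXgO
  have hAY : A ⊓ Y = X := by
    apply le_antisymm (inf_le_inf_right Y hAO)
    refine le_inf ?_ inf_le_right
    rw [hAeq]; exact le_sup_left
  have hAYg : A ⊓ Yg = Xg := by
    apply le_antisymm (inf_le_inf_right Yg hAO)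
    refine le_inf ?_ inf_le_right
    rw [hAeq]; exact le_sup_right
  have hYgc : Yg ≤ Subgroup.centralizer (Yg : Set L) := by
    rw [hYg, CfsgLib.LE.centralizer_map_conj]
    exact Subgroup.map_mono (CfsgLib.LE.le_centralizer_of_comm hYc)
  have hYcc : Y ≤ Subgroup.centralizer (Y : Set L) := CfsgLib.LE.le_centralizer_of_comm hYc
  have hAp : IsPGroup p ↥A := hOp.to_le hAO
  set K := ⁅X, Xg⁆ with hK
  have hKX : K ≤ X := by
    rw [hK, Subgroup.commutator_comm]
    rw [Subgroup.commutator_comm]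
    exact Subgroup.le_normalizer_iff_commutator_le_left.1 ((inf_le_left : Xg ≤ O).trans hOX)
  have hKXg : K ≤ Xg := by
    rw [hK, Subgroup.commutator_comm]
    exact Subgroup.le_normalizer_iff_commutator_le_left.1 ((inf_le_left : X ≤ O).trans hOXg)
  have hKZ : K ≤ Y ⊓ Subgroup.center L := by
    rw [← hinf]; exact le_inf (hKX.trans inf_le_right) (hKXg.trans inf_le_right)
  have hcn : ∀ B : Subgroup L, B ≤ Subgroup.normalizer (K : Set L) := by
    intro B
    have h1 : (⊤ : Subgroup L) ≤ Subgroup.centralizer (K : Set L) :=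
      CfsgLib.LE.top_le_centralizer_of_le_center (hKZ.trans inf_le_right)
    exact le_top.trans (h1.trans (Subgroup.centralizer_le_normalizer _))
  have h1 : ⁅X, A⁆ = K := by
    rw [hAeq]
    apply le_antisymm
    · apply CfsgLib.LE.commutator_sup_le _ le_rfl (hcn _) (hcn _)
      have : ⁅X, X⁆ = ⊥ := by
        rw [Subgroup.commutator_eq_bot_iff_le_centralizer]
        exact (inf_le_right.trans hYcc).trans (Subgroup.centralizer_le inf_le_right)
      rw [this]; exact bot_le
    · exact Subgroup.commutator_mono le_rfl le_sup_right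
  have h2 : ⁅A, A⁆ = K := by
    apply le_antisymm
    · conv_lhs => rw [Subgroup.commutator_comm]; arg 2; rw [hAeq]
      apply CfsgLib.LE.commutator_sup_le _ _ (hcn _) (hcn _)
      · rw [Subgroup.commutator_comm, h1]
      · rw [Subgroup.commutator_comm, hAeq]
        apply CfsgLib.LE.commutator_sup_le _ _ (hcn _) (hcn _)
        · rw [Subgroup.commutator_comm]
        · have : ⁅Xg, Xg⁆ = ⊥ := by
            rw [Subgroup.commutator_eq_bot_iff_le_centralizer]
            exact (inf_le_right.trans hYgc).trans (Subgroup.centralizer_le inf_le_right)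
          rw [this]; exact bot_le
    · rw [← h1, ← hAY]; exact Subgroup.commutator_mono inf_le_left le_rfl
  have hYgel : ∀ y ∈ Yg, y ^ p = 1 := by
    rintro _ ⟨y, hy, rfl⟩
    change (MulAut.conj g y) ^ p = 1
    rw [← map_pow, hYel.2 y hy, map_one]
  have h3 : (frattini ↥A).map A.subtype = ⁅A, A⁆ := by
    apply le_antisymm _ (CfsgLib.LE.commutator_le_frat hAp)
    apply CfsgLib.LE.frat_le_of (p := p) le_rfl
    intro a ha
    -- in the abelianization `a` is a product of elements of order `p`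
    have ha' := ha
    rw [hAeq, CfsgLib.LE.mem_sup_of_le_normalizer (inf_le_left.trans hOXg)] at ha'
    obtain ⟨x, hx, y, hy, rfl⟩ := ha'
    have hxA : x ∈ A := by rw [hAeq]; exact Subgroup.mem_sup_left hx
    have hyA : y ∈ A := by rw [hAeq]; exact Subgroup.mem_sup_right hy
    let x' : ↥A := ⟨x, hxA⟩
    let y' : ↥A := ⟨y, hyA⟩
    have h4 : (x' * y') ^ p ∈ commutator ↥A := by
      rw [← Abelianization.ker_of, MonoidHom.mem_ker, map_pow, map_mul, mul_pow, ← map_pow, ← map_pow]
      have h5 : x' ^ p = 1 := Subtype.ext (hYel.2 x hx.2)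
      have h6 : y' ^ p = 1 := Subtype.ext (hYgel y hy.2)
      rw [h5, h6, map_one, mul_one]
    have h5 := Subgroup.mem_map_of_mem A.subtype h4
    rw [commutator_def, Subgroup.map_commutator, ← MonoidHom.range_eq_map, Subgroup.range_subtype] at h5
    exact h5
  have hZX : Y ⊓ Subgroup.center L ≤ X := by
    refine le_inf ?_ inf_le_left
    apply CfsgLib.LE.le_pCore
    · have h5 : (⊤ : Subgroup L) ≤ Subgroup.centralizer ((Y ⊓ Subgroup.center L : Subgroup L) : Set L) :=
        CfsgLib.LE.top_le_centralizer_of_le_center inf_le_right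
      rw [← Subgroup.normalizer_eq_top_iff, eq_top_iff]
      exact h5.trans (Subgroup.centralizer_le_normalizer _)
    · exact hYp.to_le inf_le_left
  have hZYg : Y ⊓ Subgroup.center L ≤ Yg := by rw [← hinf]; exact inf_le_right
  have h6 : X ⊓ Xg = Y ⊓ Subgroup.center L := by
    apply le_antisymm
    · rw [← hinf]; exact inf_le_inf inf_le_right inf_le_right
    · exact le_inf hZX (le_inf (hZX.trans inf_le_left) hZYg)
  refine ⟨h3, ?_, ?_, ?_, hinf, ?_, ?_⟩
  · rw [hAY, h1, h2]
  · rw [hAY, hAYg, h1]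
  · rw [hAY, h1]; exact hKZ
  · rw [hAY, hAYg]; exact h6
  · apply le_antisymm
    · intro a ha0
      obtain ⟨haA, haZ⟩ := Subgroup.mem_inf.1 ha0
      have haA' := haA
      rw [hAeq, CfsgLib.LE.mem_sup_of_le_normalizer (inf_le_left.trans hOXg)] at haA'
      obtain ⟨x, hx, y, hy, rfl⟩ := haA'
      have hZc : ∀ B : Subgroup L, x * y ∈ Subgroup.centralizer (B : Set L) := by
        intro B
        rw [Subgroup.mem_centralizer_iff]
        intro b _
        exact Subgroup.mem_center_iff.1 haZ b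
      have hyc : y ∈ Subgroup.center L := by
        have h7 : y ∈ Subgroup.centralizer (Y : Set L) := by
          have := Subgroup.mul_mem _ (Subgroup.inv_mem _ (hYcc hx.2)) (hZc Y)
          simpa using this
        have h8 : y ∈ Subgroup.centralizer (Yg : Set L) := hYgc hy.2
        have h9 : Subgroup.zpowers y ≤ Subgroup.center L := by
          apply CfsgLib.LE.le_center_of_top_le
          rw [← hgen]
          apply sup_le
          · rw [Subgroup.le_centralizer_iff, Subgroup.zpowers_le]; exact h7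
          · rw [Subgroup.le_centralizer_iff, Subgroup.zpowers_le]; exact h8
        exact h9 (Subgroup.mem_zpowers y)
      have hxc : x ∈ Subgroup.center L := by
        have := Subgroup.mul_mem _ haZ (Subgroup.inv_mem _ hyc)
        simpa using this
      refine Subgroup.mem_inf.2 ⟨Subgroup.mul_mem _ hx.2 ?_, haZ⟩
      have h7 : y ∈ Yg := hy.2
      rw [hYg, CfsgLib.LE.map_conj_mem] at h7
      have h8 : g⁻¹ * y * g = y := by
        have := Subgroup.mem_center_iff.1 hyc g⁻¹
        rw [this]; group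
      rwa [h8] at h7
    · exact le_inf (hZX.trans (by rw [hAeq]; exact le_sup_left)) inf_le_right

end Cfsg.Agent.S2837
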