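import Cfsg.Statements.S2838
import Cfsg.Agent.LibLE14

set_option autoImplicit false
open Cfsg

namespace Cfsg.Agent.S2838




/-- For a nontrivial p-subgroup Q of a finite group H the following are equivalent: Q is a weakly closed subgroup (it is the only H-conjugate of itself inside some Sylow p-subgroup containing it); Q = P for every conjugate P of Q with [Q, P] ≤ Q ∩ P; Q is normal in N_H(R) for every p-subgroup R of H containing Q. -/
theorem result {H : Type*} [Group H] [Finite H] {p : ℕ} [Fact p.Prime] (Q : Subgroup H) (hQp : IsPGroup p ↥Q) (hQ1 : Q ≠ ⊥) : (Cfsg.IsWeaklyClosedSubgroup p Q ↔ ∀ g : H, ⁅Q, ((Q : Subgroup H).map (MulAut.conj (g : H)).toMonoidHom)⁆ ≤ Q ⊓ ((Q : Subgroup H).map (MulAut.conj (g : H)).toMonoidHom) → ((Q : Subgroup H).map (MulAut.conj (g : H)).toMonoidHom) = Q) ∧ (Cfsg.IsWeaklyClosedSubgroup p Q ↔ ∀ R : Subgroup H, IsPGroup p ↥R → Q ≤ R → Subgroup.normalizer ((R : Subgroup H) : Set H) ≤ Subgroup.normalizer ((Q : Subgroup H) : Set H)) := by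
  have h1 := CfsgLib.LE.wc_iff_normalizer hQp
  refine ⟨⟨fun hwc g hg => ?_, fun hb => ?_⟩, h1⟩
  · set Qg := Q.map (MulAut.conj g).toMonoidHom with hQg
    have h2 : Qg ≤ Subgroup.normalizer (Q : Set H) := by
      rw [Subgroup.le_normalizer_iff_commutator_le_left]
      exact hg.trans inf_le_left
    have h3 : IsPGroup p ↥(Q ⊔ Qg) := hQp.to_sup_of_normal_left' (CfsgLib.LE.isPGroup_map_conj hQp g) h2
    exact CfsgLib.LE.wc_conj_eq hwc h3 le_sup_left le_sup_right
  · rw [h1]
    intro R hR hQR
    have hcond : ∀ x : H, Q.map (MulAut.conj x).toMonoidHom ≤ Subgroup.normalizer (Q : Set H) →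
        Q ≤ Subgroup.normalizer (Q.map (MulAut.conj x).toMonoidHom : Set H) → x ∈ Subgroup.normalizer (Q : Set H) := by
      intro x hx1 hx2
      rw [CfsgLib.LE.mem_normalizer_iff_map_conj]
      apply hb x
      refine le_inf ?_ ?_
      · exact Subgroup.le_normalizer_iff_commutator_le_left.1 hx1
      · rw [Subgroup.commutator_comm]
        exact Subgroup.le_normalizer_iff_commutator_le_left.1 hx2
    -- `Q` is normal in `R`
    have hQn : R ≤ Subgroup.normalizer (Q : Set H) := by
      by_contra hcon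
      set N := R ⊓ Subgroup.normalizer (Q : Set H) with hN
      have hNR : N < R := lt_of_le_of_ne inf_le_left (fun h => hcon (by rw [← h]; exact inf_le_right))
      have h2 := CfsgLib.LE.lt_inf_normalizer_of_isPGroup hR hNR
      obtain ⟨x, hx, hxN⟩ := Set.exists_of_ssubset h2
      apply hxN
      obtain ⟨hxR, hxn⟩ := Subgroup.mem_inf.1 hx
      refine Subgroup.mem_inf.2 ⟨hxR, ?_⟩
      have hNx : N.map (MulAut.conj x).toMonoidHom = N := CfsgLib.LE.mem_normalizer_iff_map_conj.1 hxn
      have hQN : Q ≤ N := le_inf hQR Subgroup.le_normalizer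
      apply hcond x
      · exact ((Subgroup.map_mono hQN).trans hNx.le).trans inf_le_right
      · rw [CfsgLib.LE.normalizer_map_conj]
        refine hQN.trans (hNx.ge.trans (Subgroup.map_mono inf_le_right))
    intro x hx
    have hRx : R.map (MulAut.conj x).toMonoidHom = R := CfsgLib.LE.mem_normalizer_iff_map_conj.1 hx
    apply hcond x
    · exact ((Subgroup.map_mono hQR).trans hRx.le).trans hQn
    · rw [CfsgLib.LE.normalizer_map_conj]
      exact hQR.trans (hRx.ge.trans (Subgroup.map_mono hQn))

end Cfsg.Agent.S2838
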