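import Cfsg.Statements.S2839
import Cfsg.Agent.LibLE14

set_option autoImplicit false
open Cfsg

namespace Cfsg.Agent.S2839




/-- Let Q be a nontrivial p-subgroup of the finite group H that is a weakly closed subgroup, K a subgroup containing Q and N a normal subgroup of H. Then Q is a weakly closed subgroup of K; every H-conjugate of Q contained in K is a K-conjugate of Q; N_K(Q) contains a Sylow p-subgroup of K; N = N_N(Q)·O^p(N); and QN/N is a weakly closed subgroup of H/N. -/
theorem result {H : Type*} [Group H] [Finite H] {p : ℕ} [Fact p.Prime] (Q : Subgroup H) (hQp : IsPGroup p ↥Q) (hQ1 : Q ≠ ⊥) (hwc : Cfsg.IsWeaklyClosedSubgroup p Q) (K : Subgroup H) (hQK : Q ≤ K) (N' : Subgroup H) [N'.Normal] : Cfsg.IsWeaklyClosedSubgroup p (Q.subgroupOf K) ∧ (∀ g : H, ((Q : Subgroup H).map (MulAut.conj (g : H)).toMonoidHom) ≤ K → ∃ k ∈ K, ((Q : Subgroup H).map (MulAut.conj (g : H)).toMonoidHom) = ((Q : Subgroup H).map (MulAut.conj (k : H)).toMonoidHom)) ∧ Cfsg.IsParabolic p ((Subgroup.normalizer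 ((Q : Subgroup H) : Set H)).subgroupOf K) ∧ (N' ⊓ Subgroup.normalizer ((Q : Subgroup H) : Set H)) ⊔ (Cfsg.pResidual p ↥N').map N'.subtype = N' ∧ Cfsg.IsWeaklyClosedSubgroup p (Q.map (QuotientGroup.mk' N')) := by
  have hnt : (⊤ : Subgroup H) ≤ Subgroup.normalizer (N' : Set H) := by rw [Subgroup.normalizer_eq_top]
  refine ⟨CfsgLib.LE.wc_subgroupOf hwc hQK, fun g hg => CfsgLib.LE.wc_exists_conj hwc hQK hg, ?_, ?_, ?_⟩
  · obtain ⟨S, hS, hQS⟩ := CfsgLib.LE.exists_isSyl_of_le hQK hQp
    have h1 : S ≤ Subgroup.normalizer (Q : Set H) :=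
      Subgroup.le_normalizer.trans (CfsgLib.LE.wc_normalizer_le hQp hwc hS.isPGroup hQS)
    obtain ⟨T, hT⟩ := hS
    refine ⟨T, ?_⟩
    intro x hx
    apply h1
    rw [← hT]
    exact ⟨x, hx, rfl⟩
  · obtain ⟨S, hS, hQS⟩ := CfsgLib.LE.exists_isSyl_of_le (le_sup_right : Q ≤ N' ⊔ Q) hQp
    have h1 : S ≤ Subgroup.normalizer (Q : Set H) :=
      Subgroup.le_normalizer.trans (CfsgLib.LE.wc_normalizer_le hQp hwc hS.isPGroup hQS)
    have h2 : CfsgLib.LE.IsSyl p (S ⊓ N') N' := hS.inf le_sup_left (by rw [Subgroup.normalizer_eq_top]; exact le_top)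
    apply le_antisymm (sup_le inf_le_left (Subgroup.map_subtype_le _))
    rw [← h2.resOf_sup]
    conv_rhs => rw [sup_comm]
    apply sup_le_sup
    · rw [h2.resOf_sup]
    · rw [h2.resOf_sup]; exact le_inf inf_le_right (inf_le_left.trans h1)
  · apply (CfsgLib.LE.wc_iff_normalizer (hQp.map _)).2
    intro R hR hQR
    intro n hn
    obtain ⟨m, rfl⟩ := QuotientGroup.mk'_surjective N' n
    set f := QuotientGroup.mk' N' with hf
    have hsurj : Function.Surjective f := QuotientGroup.mk'_surjective N'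
    set K := R.comap f with hK
    have hQK' : Q ≤ K := by rw [hK, ← Subgroup.map_le_iff_le_comap]; exact hQR
    have hNK : N' ≤ K := by
      intro x hx
      have : f x = 1 := (QuotientGroup.eq_one_iff x).2 hx
      change f x ∈ R
      rw [this]; exact R.one_mem
    obtain ⟨S, hS, hQS⟩ := CfsgLib.LE.exists_isSyl_of_le hQK' hQp
    have hmK : K.map (MulAut.conj m).toMonoidHom = K := by
      rw [← CfsgLib.LE.mem_normalizer_iff_map_conj]
      rw [Subgroup.mem_normalizer_iff] at hn ⊢
      intro x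
      have := hn (f x)
      simpa [hK, Subgroup.mem_comap] using this
    have h1 : CfsgLib.LE.IsSyl p (S.map (MulAut.conj m).toMonoidHom) K := by
      have := hS.map_conj m
      rwa [hmK] at this
    -- `K = N' S`
    have hKS : N' ⊔ S = K := by
      apply le_antisymm (sup_le hNK hS.le)
      have h2 : (Cfsg.pResidual p ↥K).map K.subtype ≤ N' := by
        apply CfsgLib.LE.resOf_le_of_pow_mem
        intro x hx
        obtain ⟨k, hk⟩ := hR ⟨f x, hx⟩
        refine ⟨k, ?_⟩
        rw [← QuotientGroup.eq_one_iff]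
        have h3 := congrArg Subtype.val hk
        exact h3
      conv_lhs => rw [← hS.resOf_sup]
      exact sup_le_sup_right h2 S
    obtain ⟨r, hr, hr2⟩ := h1.conj_of_isSyl hS
    rw [← hKS, sup_comm, CfsgLib.LE.mem_sup_of_le_normalizer (le_top.trans hnt)] at hr
    obtain ⟨s, hs, a, ha, rfl⟩ := hr
    have h4 : S.map (MulAut.conj (a * m)).toMonoidHom = S := by
      rw [CfsgLib.LE.map_conj_mul] at hr2
      have h5 := congrArg (Subgroup.map (MulAut.conj s⁻¹).toMonoidHom) hr2
      rw [CfsgLib.LE.map_conj_mul, CfsgLib.LE.mem_normalizer_iff_map_conj.1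
        (Subgroup.le_normalizer (S.inv_mem hs))] at h5
      have h6 : s⁻¹ * (s * a * m) = a * m := by group
      rwa [h6] at h5
    have h5 : a * m ∈ Subgroup.normalizer (Q : Set H) :=
      CfsgLib.LE.wc_normalizer_le hQp hwc hS.isPGroup hQS (CfsgLib.LE.mem_normalizer_iff_map_conj.2 h4)
    have h6 : f m = f (a * m) := by
      have h7 : f a = 1 := (QuotientGroup.eq_one_iff a).2 ha
      rw [map_mul, h7, one_mul]
    rw [h6]
    have h7 : (Q.map f).map (MulAut.conj (f (a * m))).toMonoidHom = Q.map f := by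
      have h8 : (MulAut.conj (f (a * m))).toMonoidHom.comp f = f.comp (MulAut.conj (a * m)).toMonoidHom := by
        ext x; simp
      rw [Subgroup.map_map, h8, ← Subgroup.map_map, CfsgLib.LE.mem_normalizer_iff_map_conj.1 h5]
    exact CfsgLib.LE.mem_normalizer_iff_map_conj.2 h7

end Cfsg.Agent.S2839
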