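import Cfsg.Statements.S2840
import Cfsg.Agent.LibLE14

set_option autoImplicit false
open Cfsg

namespace Cfsg.Agent.S2840




/-- Let Q be a nontrivial p-subgroup of the finite group H that is a weakly closed subgroup and K a subgroup containing Q; let K° be the weak closure of Q in K (generated by the H-conjugates of Q inside K). Then K° is generated by the K-conjugates of Q, and K° is the subnormal closure of Q in K. -/
theorem result {H : Type*} [Group H] [Finite H] {p : ℕ} [Fact p.Prime] (Q : Subgroup H) (hQp : IsPGroup p ↥Q) (hQ1 : Q ≠ ⊥) (hwc : Cfsg.IsWeaklyClosedSubgroup p Q) (K : Subgroup H) (hQK : Q ≤ K) (Kc : Subgroup H) (hKc : Kc = Cfsg.weakClosure Q K) : Kc = ⨆ k : ↥K, ((Q : Subgroup H).map (MulAut.conj ((k : H) : H)).toMonoidHom) ∧ Kc = (Cfsg.subnormalClosure (Q.subgroupOf K)).map K.subtype := by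
  have h1 : Kc = ⨆ k : ↥K, ((Q : Subgroup H).map (MulAut.conj ((k : H) : H)).toMonoidHom) := by
    rw [hKc]; exact CfsgLib.LE.weakClosure_eq_iSup hwc hQK
  refine ⟨h1, ?_⟩
  have hKcK : Kc ≤ K := by rw [hKc]; exact CfsgLib.LE.weakClosure_le Q K
  have hQKc : Q ≤ Kc := by rw [hKc]; exact CfsgLib.LE.le_weakClosure hQK
  apply le_antisymm
  · -- every subnormal subgroup of `K` containing `Q` contains all conjugates
    have key : ∀ E : Subgroup ↥K, E.IsSubnormal → Q ≤ E.map K.subtype →
        ∀ k ∈ K, Q.map (MulAut.conj k).toMonoidHom ≤ E.map K.subtype := by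
      intro E hE
      induction hE with
      | top =>
        intro _ k hk
        rw [← MonoidHom.range_eq_map, Subgroup.range_subtype]
        exact CfsgLib.LE.map_conj_le_of_mem hQK hk
      | step E E1 hle hsub hn ih =>
        intro hQE k hk
        have hQE1 : Q ≤ E1.map K.subtype := hQE.trans (Subgroup.map_mono hle)
        have h2 := ih hQE1 k hk
        obtain ⟨e, he, h3⟩ := CfsgLib.LE.wc_exists_conj hwc hQE1 h2
        rw [h3]
        obtain ⟨e', he', rfl⟩ := he
        have h4 : E1 ≤ Subgroup.normalizer (E : Set ↥K) :=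
          CfsgLib.LE.le_normalizer_of_subgroupOf_normal hle hn
        intro x hx
        rw [CfsgLib.LE.map_conj_mem] at hx
        obtain ⟨y, hy, h5⟩ := hQE hx
        refine ⟨e' * y * e'⁻¹, (Subgroup.mem_normalizer_iff.1 (h4 he') y).1 hy, ?_⟩
        change (e' : H) * (y : H) * (e' : H)⁻¹ = x
        change (y : H) = (e' : H)⁻¹ * x * (e' : H) at h5
        rw [h5]; group
    rw [h1]
    apply iSup_le
    intro k
    -- the subnormal closure
    have h2 : (Cfsg.subnormalClosure (Q.subgroupOf K)).map K.subtype =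
        (Cfsg.subnormalClosure (Q.subgroupOf K)).map K.subtype := rfl
    intro x hx
    have hxK : x ∈ K := CfsgLib.LE.map_conj_le_of_mem hQK k.2 hx
    refine ⟨⟨x, hxK⟩, ?_, rfl⟩
    unfold Cfsg.subnormalClosure
    rw [SetLike.mem_coe, Subgroup.mem_sInf]
    rintro E ⟨hQE, hE⟩
    have h3 : Q ≤ E.map K.subtype := by
      have := Subgroup.map_mono (f := K.subtype) hQE
      rwa [CfsgLib.LE.map_subtype_subgroupOf hQK] at this
    obtain ⟨y, hy, h4⟩ := key E hE h3 k k.2 hx
    have : y = ⟨x, hxK⟩ := Subtype.ext h4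
    rwa [← this]
  · have h2 : Cfsg.subnormalClosure (Q.subgroupOf K) ≤ Kc.subgroupOf K := by
      unfold Cfsg.subnormalClosure
      apply sInf_le
      refine ⟨Subgroup.comap_mono hQKc, ?_⟩
      have : (Kc.subgroupOf K).Normal := CfsgLib.LE.subgroupOf_normal_of_le_normalizer (by
        rw [hKc]; exact CfsgLib.LE.le_normalizer_weakClosure Q K)
      exact this.isSubnormal
    have h3 := Subgroup.map_mono (f := K.subtype) h2
    rwa [CfsgLib.LE.map_subtype_subgroupOf hKcK] at h3

end Cfsg.Agent.S2840
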