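import Cfsg.Statements.S2841
import Cfsg.Agent.LibLE14

set_option autoImplicit false
open Cfsg

namespace Cfsg.Agent.S2841




/-- Let Q be a nontrivial p-subgroup of the finite group H that is a weakly closed subgroup and N a normal subgroup of H. Then N = N_N(Q)·[N, Q] and [N, Q] = (Q ∩ [N, Q])·[N, Q, Q]. -/
theorem result {H : Type*} [Group H] [Finite H] {p : ℕ} [Fact p.Prime] (Q : Subgroup H) (hQp : IsPGroup p ↥Q) (hQ1 : Q ≠ ⊥) (hwc : Cfsg.IsWeaklyClosedSubgroup p Q) (N' : Subgroup H) [N'.Normal] : (∀ n : H, n ∈ N' → ∃ a ∈ N' ⊓ Subgroup.normalizer ((Q : Subgroup H) : Set H), ∃ b ∈ ⁅N', Q⁆, n = a * b) ∧ (∀ c : H, c ∈ ⁅N', Q⁆ → ∃ a ∈ Q ⊓ ⁅N', Q⁆, ∃ b ∈ ⁅⁅N', Q⁆, Q⁆, c = a * b) := by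
  have hnt : ∀ A : Subgroup H, A ≤ Subgroup.normalizer (N' : Set H) := by
    intro A; rw [Subgroup.normalizer_eq_top]; exact le_top
  set D := ⁅N', Q⁆ with hD
  have hDN : D ≤ N' := Subgroup.le_normalizer_iff_commutator_le_left.1 (hnt Q)
  have hND : N' ≤ Subgroup.normalizer (D : Set H) := Subgroup.normalizer_commutator_ge_left N' Q
  have hQD : Q ≤ Subgroup.normalizer (D : Set H) := Subgroup.normalizer_commutator_ge_right N' Q
  have hNQD : N' ⊔ Q ≤ Subgroup.normalizer ((D ⊔ Q : Subgroup H) : Set H) := by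
    apply sup_le
    · rw [CfsgLib.LE.le_normalizer_iff]
      intro n hn x hx
      rw [CfsgLib.LE.mem_sup_of_le_normalizer' hQD] at hx
      obtain ⟨d, hd, q, hq, rfl⟩ := hx
      have h1 : n * d * n⁻¹ ∈ D := (Subgroup.mem_normalizer_iff.1 (hND hn) d).1 hd
      have h2 : n * q * n⁻¹ * q⁻¹ ∈ D := Subgroup.commutator_mem_commutator hn hq
      have h3 : n * (d * q) * n⁻¹ = (n * d * n⁻¹) * (n * q * n⁻¹ * q⁻¹) * q := by group
      rw [h3]
      exact Subgroup.mul_mem_sup (D.mul_mem h1 h2) hq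
    · exact le_sup_right.trans Subgroup.le_normalizer
  obtain ⟨S, hS, hQS⟩ := CfsgLib.LE.exists_isSyl_of_le (le_sup_right : Q ≤ D ⊔ Q) hQp
  have hSn : Subgroup.normalizer (S : Set H) ≤ Subgroup.normalizer (Q : Set H) :=
    CfsgLib.LE.wc_normalizer_le hQp hwc hS.isPGroup hQS
  have hfr := hS.frattini (N := N' ⊔ Q) (sup_le_sup_right hDN Q) hNQD
  have hpart1 : ∀ n : H, n ∈ N' → ∃ a ∈ N' ⊓ Subgroup.normalizer (Q : Set H), ∃ b ∈ D, n = a * b := by
    intro n hn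
    have h1 : n ∈ (D ⊔ Q) ⊔ ((N' ⊔ Q) ⊓ Subgroup.normalizer (S : Set H)) := by
      rw [hfr]; exact Subgroup.mem_sup_left hn
    have h2 : (D ⊔ Q) ⊔ ((N' ⊔ Q) ⊓ Subgroup.normalizer (S : Set H)) ≤ D ⊔ ((N' ⊔ Q) ⊓ Subgroup.normalizer (Q : Set H)) := by
      apply sup_le
      · exact sup_le_sup_left (le_inf le_sup_right Subgroup.le_normalizer) D
      · exact le_sup_of_le_right (inf_le_inf_left _ hSn)
    have h3 := h2 h1
    have h4 : (N' ⊔ Q) ⊓ Subgroup.normalizer (Q : Set H) ≤ Subgroup.normalizer (D : Set H) :=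
      inf_le_left.trans (sup_le hND hQD)
    rw [sup_comm, CfsgLib.LE.mem_sup_of_le_normalizer h4] at h3
    obtain ⟨a, ha, b, hb, rfl⟩ := h3
    refine ⟨a, Subgroup.mem_inf.2 ⟨?_, (Subgroup.mem_inf.1 ha).2⟩, b, hb, rfl⟩
    have := N'.mul_mem hn (N'.inv_mem (hDN hb))
    simpa using this
  refine ⟨hpart1, ?_⟩
  set E := ⁅D, Q⁆ with hE
  have hED : E ≤ D := Subgroup.le_normalizer_iff_commutator_le_left.1 hQD
  have hQE : Q ≤ Subgroup.normalizer (E : Set H) := Subgroup.normalizer_commutator_ge_right D Q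
  have hle : D ≤ (Q ⊓ D) ⊔ E := by
    conv_lhs => rw [hD]
    rw [Subgroup.commutator_le]
    intro n hn q hq
    obtain ⟨a, ha, b, hb, rfl⟩ := hpart1 n hn
    obtain ⟨haN, haQ⟩ := Subgroup.mem_inf.1 ha
    have hND' : N' ⊓ Subgroup.normalizer (Q : Set H) ≤ Subgroup.normalizer (E : Set H) :=
      CfsgLib.LE.le_normalizer_commutator (inf_le_left.trans hND) inf_le_right
    have e1 : a * b * q * (a * b)⁻¹ * q⁻¹ = (a * (b * q * b⁻¹ * q⁻¹) * a⁻¹) * (a * q * a⁻¹ * q⁻¹) := by group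
    have h1 : a * (b * q * b⁻¹ * q⁻¹) * a⁻¹ ∈ E :=
      (Subgroup.mem_normalizer_iff.1 (hND' ha) _).1 (Subgroup.commutator_mem_commutator hb hq)
    have h2 : a * q * a⁻¹ * q⁻¹ ∈ Q ⊓ D := by
      refine Subgroup.mem_inf.2 ⟨?_, Subgroup.commutator_mem_commutator haN hq⟩
      exact Q.mul_mem ((Subgroup.mem_normalizer_iff.1 haQ q).1 hq) (Q.inv_mem hq)
    change a * b * q * (a * b)⁻¹ * q⁻¹ ∈ _
    rw [e1]
    exact Subgroup.mul_mem _ (Subgroup.mem_sup_right h1) (Subgroup.mem_sup_left h2)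
  intro c hc
  have h3 := hle hc
  rw [CfsgLib.LE.mem_sup_of_le_normalizer (inf_le_left.trans hQE)] at h3
  obtain ⟨a, ha, b, hb, rfl⟩ := h3
  exact ⟨a, ha, b, hb, rfl⟩

end Cfsg.Agent.S2841
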