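import Cfsg.Statements.S2843
import Cfsg.Agent.LibLE16

set_option autoImplicit false
open Cfsg

namespace Cfsg.Agent.S2843




/-- Let Q be a nontrivial large p-subgroup of the finite group H, Q ≤ L ≤ H, and Y a nontrivial p-subgroup of H normalized by L. Let L° be the weak closure of Q in L (generated by the conjugates of Q inside L). Then L° equals the weak closure of Q in L·C_H(Y), and [L°, C_H(Y)] ≤ O_p(L°); in particular C_H(Y) normalizes L°. -/
theorem result {H : Type*} [Group H] [Finite H] {p : ℕ} [Fact p.Prime] (Q : Subgroup H) (hQp : IsPGroup p ↥Q) (hQ1 : Q ≠ ⊥) (hL : Cfsg.IsLarge Q) (L : Subgroup H) (hQL : Q ≤ L) (Y : Subgroup H) (hYp : IsPGroup p ↥Y) (hY1 : Y ≠ ⊥) (hLY : L ≤ Subgroup.normalizer ((Y : Subgroup H) : Set H)) : Cfsg.weakClosure Q L = Cfsg.weakClosure Q (L ⊔ Subgroup.centralizer ((Y : Subgroup H) : Set H)) ∧ ⁅Cfsg.weakClosure Q L, Subgroup.centralizer ((Y : Subgroup H) : Set H)⁆ ≤ (Cfsg.pCoreOf p (Cfsg.weakClosure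 Q L)) ∧ Subgroup.centralizer ((Y : Subgroup H) : Set H) ≤ Subgroup.normalizer (((Cfsg.weakClosure Q L) : Subgroup H) : Set H) := by
  have hwc := CfsgLib.LE.IsLarge.wc hQp hQ1 hL
  set D := Subgroup.centralizer (Y : Set H) with hD
  set W := Cfsg.weakClosure Q L with hW
  have hDQ : D ≤ Subgroup.normalizer (Q : Set H) :=
    CfsgLib.LE.IsLarge.centralizer_le_normalizer hQp hL hYp hY1 (hQL.trans hLY)
  have hLD : L ≤ Subgroup.normalizer (D : Set H) := CfsgLib.LE.le_normalizer_centralizer hLY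
  have hWL : W ≤ L := CfsgLib.LE.weakClosure_le Q L
  have hDl : ∀ l ∈ L, D ≤ Subgroup.normalizer (Q.map (MulAut.conj l).toMonoidHom : Set H) := by
    intro l hl
    rw [CfsgLib.LE.normalizer_map_conj]
    conv_lhs => rw [← CfsgLib.LE.mem_normalizer_iff_map_conj.1 (hLD hl)]
    exact Subgroup.map_mono hDQ
  have hWeq : W = ⨆ k : ↥L, Q.map (MulAut.conj (k : H)).toMonoidHom := CfsgLib.LE.weakClosure_eq_iSup hwc hQL
  have h1 : W = Cfsg.weakClosure Q (L ⊔ D) := by
    apply le_antisymm (CfsgLib.LE.weakClosure_mono le_sup_left)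
    rw [CfsgLib.LE.weakClosure_eq_iSup hwc (hQL.trans le_sup_left)]
    apply iSup_le
    rintro ⟨k, hk⟩
    obtain ⟨l, hl, d, hd, rfl⟩ := (CfsgLib.LE.mem_sup_of_le_normalizer hLD).1 hk
    change Q.map (MulAut.conj (l * d)).toMonoidHom ≤ W
    rw [← CfsgLib.LE.map_conj_mul, CfsgLib.LE.mem_normalizer_iff_map_conj.1 (hDQ hd)]
    exact CfsgLib.LE.le_weakClosure_of_conj (CfsgLib.LE.map_conj_le_of_mem hQL hl)
  have hDW : D ≤ Subgroup.normalizer (W : Set H) := by
    rw [h1]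
    exact le_sup_right.trans (CfsgLib.LE.le_normalizer_weakClosure Q _)
  refine ⟨h1, ?_, hDW⟩
  -- `[W, D] ≤ O_p(D)`
  set O := Cfsg.pCoreOf p D with hO
  have hLO : L ≤ Subgroup.normalizer (O : Set H) := hLD.trans (CfsgLib.LE.normalizer_le_normalizer_pCoreOf p D)
  have hDO : D ≤ Subgroup.normalizer (O : Set H) := CfsgLib.LE.le_normalizer_pCoreOf p D
  have hql : ∀ l ∈ L, ⁅D, Q.map (MulAut.conj l).toMonoidHom⁆ ≤ O := by
    intro l hl
    set R := Q.map (MulAut.conj l).toMonoidHom with hR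
    have hRL : R ≤ L := CfsgLib.LE.map_conj_le_of_mem hQL hl
    have h2 : ⁅D, R⁆ ≤ R ⊓ D := by
      refine le_inf ?_ ?_
      · rw [Subgroup.commutator_comm]; exact Subgroup.le_normalizer_iff_commutator_le_left.1 (hDl l hl)
      · exact Subgroup.le_normalizer_iff_commutator_le_left.1 (hRL.trans hLD)
    refine h2.trans ?_
    apply CfsgLib.LE.le_pCoreOf inf_le_right
    · exact CfsgLib.LE.le_normalizer_inf (hDl l hl) Subgroup.le_normalizer
    · exact (CfsgLib.LE.isPGroup_map_conj hQp l).to_le inf_le_left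
  have hWO : W ≤ CfsgLib.LE.csec D O := by
    rw [hWeq]
    apply iSup_le
    rintro ⟨l, hl⟩
    have hRL : Q.map (MulAut.conj l).toMonoidHom ≤ L := CfsgLib.LE.map_conj_le_of_mem hQL hl
    exact CfsgLib.LE.le_csec (hRL.trans hLD) (hRL.trans hLO) (hql l hl)
  have h2 : ⁅W, D⁆ ≤ O := by
    rw [Subgroup.commutator_comm]
    exact (Subgroup.commutator_mono le_rfl hWO).trans (CfsgLib.LE.commutator_csec_le D O)
  have h3 : ⁅W, D⁆ ≤ W := Subgroup.le_normalizer_iff_commutator_le_left.1 hDW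
  refine (le_inf h3 h2).trans ?_
  apply CfsgLib.LE.le_pCoreOf inf_le_left
  · exact CfsgLib.LE.le_normalizer_inf Subgroup.le_normalizer (hWL.trans hLO)
  · exact (CfsgLib.LE.pCoreOf_isPGroup p D).to_le inf_le_right

end Cfsg.Agent.S2843
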