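import Cfsg.Statements.S2844
import Cfsg.Agent.LibLE15

set_option autoImplicit false
open Cfsg

namespace Cfsg.Agent.S2844




/-- Let Q be a nontrivial large p-subgroup of the finite group H and Q• = O_p(N_H(Q)). Then for every g ∈ H outside N_H(Q): C_H(Q) ∩ C_H(gQg⁻¹) = 1, C_H(Q•) ∩ C_H(gQ•g⁻¹) = 1, Z(Q) ∩ Z(gQg⁻¹) = 1 and Z(Q•) ∩ Z(gQ•g⁻¹) = 1; moreover N_H(Q) = N_H(Q•) and Q• is large in H. -/
theorem result {H : Type*} [Group H] [Finite H] {p : ℕ} [Fact p.Prime] (Q : Subgroup H) (hQp : IsPGroup p ↥Q) (hQ1 : Q ≠ ⊥) (hL : Cfsg.IsLarge Q) (Qb : Subgroup H) (hQb : Qb = Cfsg.largeBullet p Q) : (∀ g : H, g ∉ Subgroup.normalizer ((Q : Subgroup H) : Set H) → Subgroup.centralizer ((Q : Subgroup H) : Set H) ⊓ Subgroup.centralizer ((((Q : Subgroup H).map (MulAut.conj (g : H)).toMonoidHom) : Subgroup H) : Set H) = ⊥ ∧ Subgroup.centralizer ((Qb : Subgroup H) : Set H) ⊓ Subgroup.centralizer ((((Qb : Subgroup H).map (MulAut.conj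 (g : H)).toMonoidHom) : Subgroup H) : Set H) = ⊥ ∧ (Q ⊓ Subgroup.centralizer ((Q : Subgroup H) : Set H)) ⊓ (((Q : Subgroup H).map (MulAut.conj (g : H)).toMonoidHom) ⊓ Subgroup.centralizer ((((Q : Subgroup H).map (MulAut.conj (g : H)).toMonoidHom) : Subgroup H) : Set H)) = ⊥ ∧ (Qb ⊓ Subgroup.centralizer ((Qb : Subgroup H) : Set H)) ⊓ (((Qb : Subgroup H).map (MulAut.conj (g : H)).toMonoidHom) ⊓ Subgroup.centralizer ((((Qb : Subgroup H).map (MulAut.conj (g : H)).toMonoidHom) : Subgroup H) : Set H)) = ⊥) ∧ Subgroup.normalizer ((Q : Subgroup H) : Set H) = Subgroup.normalizer ((Qb : Subgroup H) : Set H) ∧ Cfsg.IsLarge Qb := by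
  have hQn : Q ≤ Qb := by
    rw [hQb]
    exact CfsgLib.LE.le_pCoreOf Subgroup.le_normalizer le_rfl hQp
  have hcQb : Subgroup.centralizer (Qb : Set H) ≤ Subgroup.centralizer (Q : Set H) := Subgroup.centralizer_le hQn
  have hQbp : IsPGroup p ↥Qb := by rw [hQb]; exact CfsgLib.LE.pCoreOf_isPGroup p _
  have hQb1 : Qb ≠ ⊥ := by rintro h; exact hQ1 (le_bot_iff.1 (h ▸ hQn))
  have hN : Subgroup.normalizer (Q : Set H) = Subgroup.normalizer (Qb : Set H) := by
    apply le_antisymm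
    · rw [hQb]; exact CfsgLib.LE.le_normalizer_pCoreOf p _
    · have hZ := CfsgLib.LE.inf_centralizer_ne_bot hQbp hQb1
      refine le_trans ?_ (hL.2 (Qb ⊓ Subgroup.centralizer (Qb : Set H)) (inf_le_right.trans hcQb) hZ)
      exact CfsgLib.LE.le_normalizer_inf le_rfl (CfsgLib.LE.le_normalizer_centralizer le_rfl)
  refine ⟨fun g hg => ?_, hN, ?_⟩
  · have hne : Q.map (MulAut.conj g).toMonoidHom ≠ Q := fun h => hg (CfsgLib.LE.mem_normalizer_iff_map_conj.2 h)
    have h1 := CfsgLib.LE.IsLarge.centralizer_inf hQp hQ1 hL hne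
    have h2 : Subgroup.centralizer ((Qb.map (MulAut.conj g).toMonoidHom : Subgroup H) : Set H) ≤
        Subgroup.centralizer ((Q.map (MulAut.conj g).toMonoidHom : Subgroup H) : Set H) :=
      Subgroup.centralizer_le (Subgroup.map_mono hQn)
    have h3 : Subgroup.centralizer (Qb : Set H) ⊓
        Subgroup.centralizer ((Qb.map (MulAut.conj g).toMonoidHom : Subgroup H) : Set H) = ⊥ := by
      rw [eq_bot_iff, ← h1]; exact inf_le_inf hcQb h2
    refine ⟨h1, h3, ?_, ?_⟩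
    · rw [eq_bot_iff, ← h1]; exact inf_le_inf inf_le_right inf_le_right
    · rw [eq_bot_iff, ← h3]; exact inf_le_inf inf_le_right inf_le_right
  · refine ⟨hcQb.trans (hL.1.trans hQn), fun U hU hU1 => ?_⟩
    rw [← hN]
    exact hL.2 U (hU.trans hcQb) hU1

end Cfsg.Agent.S2844
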