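import Cfsg.Statements.S2845
import Cfsg.Agent.LibLE16

set_option autoImplicit false
open Cfsg

namespace Cfsg.Agent.S2845

open CfsgLib.LE Subgroup in
theorem part3 {H : Type*} [Group H] [Finite H] {p : ℕ} [Fact p.Prime] {Q : Subgroup H} (hQp : IsPGroup p ↥Q)
    (hQ1 : Q ≠ ⊥) (hL : Cfsg.IsLarge Q) (R : Subgroup H) (hR : Cfsg.IsParabolic p R) (hO : Cfsg.pCoreOf p R ≠ ⊥) :
    centralizer (Cfsg.pCoreOf p R : Set H) ≤ Cfsg.pCoreOf p R := by
  obtain ⟨T, hT⟩ := hR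
  obtain ⟨T', hT'⟩ := hQp.exists_le_sylow
  obtain ⟨g, hg⟩ := MulAction.exists_smul_eq H T' T
  have h1 : (T' : Subgroup H).map (MulAut.conj g).toMonoidHom = (T : Subgroup H) := by
    rw [← hg]; rfl
  have h2 : Q.map (MulAut.conj g).toMonoidHom ≤ R := by
    refine le_trans ?_ hT
    rw [← h1]; exact Subgroup.map_mono hT'
  obtain ⟨h3, h4⟩ := IsLarge.charPOf (isPGroup_map_conj hQp g) (ne_bot_map_conj hQ1 g) (IsLarge.map_conj hL g) h2 hO
  set C := centralizer (Cfsg.pCoreOf p R : Set H) with hC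
  have hRC : R ≤ normalizer (C : Set H) := le_normalizer_centralizer (le_normalizer_pCoreOf p R)
  have hCR : C ≤ R := by
    have h5 : IsPGroup p ↥((T : Subgroup H) ⊔ C) := T.2.to_sup_of_normal_right' h3 (hT.trans hRC)
    have h6 := T.3 h5 le_sup_left
    have h7 : C ≤ (T : Subgroup H) := by rw [← h6]; exact le_sup_right
    exact h7.trans hT
  exact le_pCoreOf hCR hRC h3


/-- Let Q be a nontrivial large p-subgroup of the finite group H. Then for every subgroup L ≥ Q with O_p(L) ≠ 1, C_H(O_p(L)) is a p-group and L has characteristic p, and either the weak closure L° of Q in L equals Q or C_H(L°) = 1; for every subgroup R of H containing a Sylow p-subgroup of H with O_p(R) ≠ 1, C_H(O_p(R)) ≤ O_p(R); and H has parabolic characteristic p. -/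
theorem result {H : Type*} [Group H] [Finite H] {p : ℕ} [Fact p.Prime] (Q : Subgroup H) (hQp : IsPGroup p ↥Q) (hQ1 : Q ≠ ⊥) (hL : Cfsg.IsLarge Q) : (∀ L : Subgroup H, Q ≤ L → Cfsg.pCore p ↥L ≠ ⊥ → IsPGroup p ↥(Subgroup.centralizer (((Cfsg.pCoreOf p L) : Subgroup H) : Set H)) ∧ Subgroup.centralizer (Cfsg.pCore p ↥L : Set ↥L) ≤ Cfsg.pCore p ↥L ∧ (Cfsg.weakClosure Q L = Q ∨ Subgroup.centralizer (((Cfsg.weakClosure Q L) : Subgroup H) : Set H) = ⊥)) ∧ (∀ R : Subgroup H, Cfsg.IsParabolic p R → Cfsg.pCore p ↥R ≠ ⊥ → Subgroup.centralizer (((Cfsg.pCoreOf p R) : Subgroup H) : Set H) ≤ (Cfsg.pCoreOf p R)) ∧ Cfsg.IsOfParabolicCharacteristic p H := by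
  refine ⟨fun L hQL hO => ?_, fun R hR hO => ?_, fun R hRp hR1 hRP => ?_⟩
  · obtain ⟨h1, h2⟩ := CfsgLib.LE.IsLarge.charPOf hQp hQ1 hL hQL (CfsgLib.LE.pCoreOf_ne_bot_iff.2 hO)
    refine ⟨h1, (CfsgLib.LE.charPOf_iff_type _).1 h2, ?_⟩
    by_cases h : Cfsg.weakClosure Q L = Q
    · exact Or.inl h
    · right
      have h3 : ∃ g : H, Q.map (MulAut.conj g).toMonoidHom ≤ L ∧ Q.map (MulAut.conj g).toMonoidHom ≠ Q := by
        by_contra hcon
        push Not at hcon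
        apply h
        apply le_antisymm _ (CfsgLib.LE.le_weakClosure hQL)
        exact iSup_le fun g => (hcon g g.2).le
      obtain ⟨g, hg, hg2⟩ := h3
      rw [eq_bot_iff, ← CfsgLib.LE.IsLarge.centralizer_inf hQp hQ1 hL hg2]
      exact le_inf (Subgroup.centralizer_le (CfsgLib.LE.le_weakClosure hQL))
        (Subgroup.centralizer_le (CfsgLib.LE.le_weakClosure_of_conj hg))
  · exact part3 hQp hQ1 hL R hR (CfsgLib.LE.pCoreOf_ne_bot_iff.2 hO)
  · rw [← CfsgLib.LE.charPOf_iff_type]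
    have hO : Cfsg.pCoreOf p (Subgroup.normalizer (R : Set H)) ≠ ⊥ := by
      intro h
      exact hR1 (le_bot_iff.1 (h ▸ CfsgLib.LE.le_pCoreOf Subgroup.le_normalizer le_rfl hRp))
    exact inf_le_right.trans (part3 hQp hQ1 hL _ hRP hO)

end Cfsg.Agent.S2845
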