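import Cfsg.Statements.S2846
import Cfsg.Agent.LibLM8

set_option autoImplicit false
open Cfsg

namespace Cfsg.Agent.S2846


/-- Let Q be a nontrivial large p-subgroup of the finite group H, S a Sylow p-subgroup containing Q, and L a subgroup containing S with O_p(L) ≠ 1 and C_H(O_p(L)) ≤ O_p(L). Then there are a subgroup M containing S having the basic property (M ∈ 𝔐_H, writing Y_X for the largest p-reduced normal subgroup of X and 𝓛_H for the set of subgroups X with O_p(X) ≠ 1 and C_H(O_p(X)) ≤ O_p(X): M ∈ 𝓛_H, M·C_H(Y_M) is the only maximal member of 𝓛_H containing M and its largest p-reduced normal subgroup is again Y_M, C_M(Y_M) is p-closed, and the image of C_M(Y_M) in M/O_p(M) lies in the Frattini subgroup of M/O_p(M)) and a subgroup L* with S ≤ L* ≤ M, O_p(L*) ≠ 1, C_H(O_p(L*)) ≤ O_p(L*), such that L·C_H(Y_L) = L*·C_H(Y_L), the weak closures of Q in L and in L* agree and lie in that of M, and Y_L = Y_{L*} ≤ Y_M. If moreover Q is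 not normal in L, then Q is normal in neither L* nor M. -/
theorem result {H : Type*} [Group H] [Finite H] {p : ℕ} [Fact p.Prime] (Q : Subgroup H) (hQp : IsPGroup p ↥Q) (hQ1 : Q ≠ ⊥) (hLg : Cfsg.IsLarge Q) (S : Sylow p H) (hQS : Q ≤ (S : Subgroup H)) (L : Subgroup H) (hSL : (S : Subgroup H) ≤ L) (hL : L ∈ Cfsg.charPSubgroups p H) : ∃ M Ls : Subgroup H, (S : Subgroup H) ≤ M ∧ Cfsg.IsInFrakM p M ∧ (S : Subgroup H) ≤ Ls ∧ Ls ≤ M ∧ Ls ∈ Cfsg.charPSubgroups p H ∧ L ⊔ Subgroup.centralizer (((Cfsg.largestPReducedOf p L) : Subgroup H) : Set H) = Ls ⊔ Subgroup.centralizer (((Cfsg.largestPReducedOf p L) : Subgroup H) : Set H) ∧ Cfsg.weakClosure Q L = Cfsg.weakClosure Q Ls ∧ Cfsg.weakClosure Q Ls ≤ Cfsg.weakClosure Q M ∧ (Cfsg.largestPReducedOf p L) = (Cfsg.largestPReducedOf p Ls) ∧ (Cfsg.largestPReducedOf p Ls) ≤ (Cfsg.largestPReducedOf p M) ∧ (¬ L ≤ Subgroup.normalizer ((Q : Subgroup H) : Set H) → ¬ Ls ≤ Subgroup.normalizer ((Q : Subgroup H) : Set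 H) ∧ ¬ M ≤ Subgroup.normalizer ((Q : Subgroup H) : Set H)) := by
  have hP : CfsgLib.LM8.Par p (S : Subgroup H) := fun X hSX hX =>
    CfsgLib.LE.large_mem_charP hQp hQ1 hQS hLg hSX hX
  obtain ⟨M, Ls, h1, h2, h3, h4, h5, h6, h7, h8⟩ := CfsgLib.LM8.main hP hSL hL
  set Y := Cfsg.largestPReducedOf p L with hY
  have hYr : CfsgLib.LE.PRed p Y L := CfsgLib.LE.pRed_largestPReducedOf p L
  have hYp := hYr.isPGroup
  have hY1 : Y ≠ ⊥ := CfsgLib.LM8.Y_ne_bot hSL hL
  have hLn : L ≤ Subgroup.normalizer (Y : Set H) := hYr.2.1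
  have hLsn : Ls ≤ Subgroup.normalizer (Y : Set H) := by rw [h6]; exact CfsgLib.LE.le_normalizer_largest p Ls
  have hCQ : Subgroup.centralizer (Y : Set H) ≤ Subgroup.normalizer (Q : Set H) :=
    CfsgLib.LM8.centralizer_le_normalizer_large hQp hLg hYp hY1 ((hQS.trans hSL).trans hLn)
  refine ⟨M, Ls, h1, h2, h3, h4, h5, h8, ?_, ?_, h6, ?_, ?_⟩
  · apply le_antisymm
    · apply CfsgLib.LM8.weakClosure_mono_of
      intro g hg
      apply CfsgLib.LM8.conj_le hQp hLg hYp hY1 h3 hLsn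
      rw [← h8]
      exact hg.trans le_sup_left
    · apply CfsgLib.LM8.weakClosure_mono_of
      intro g hg
      apply CfsgLib.LM8.conj_le hQp hLg hYp hY1 hSL hLn
      rw [h8]
      exact hg.trans le_sup_left
  · exact CfsgLib.LM8.weakClosure_mono_of fun g hg => hg.trans h4
  · rw [← h6]; exact h7
  · intro hn
    have hLs : ¬ Ls ≤ Subgroup.normalizer (Q : Set H) := by
      intro h
      apply hn
      exact (le_sup_left.trans h8.le).trans (sup_le h hCQ)
    exact ⟨hLs, fun h => hLs (h4.trans h)⟩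
end Cfsg.Agent.S2846
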