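import Cfsg.Statements.S2848
import Cfsg.Agent.LibLEM2

set_option autoImplicit false
open Cfsg

namespace Cfsg.Agent.S2848




/-- Standing hypotheses: G a finite group, S a Sylow p-subgroup, Q a nontrivial large p-subgroup of G contained in S (C_G(Q) ≤ Q and N_G(U) ≤ N_G(Q) for all nontrivial U ≤ C_G(Q)), and M a subgroup containing S with the basic property (M ∈ 𝔐_G(S)); Y_M denotes the largest p-reduced normal subgroup of M and M† = M·C_G(Y_M). Then O_p(M) is a weakly closed subgroup of M† (for p): it is the only M†-conjugate of itself inside some Sylow p-subgroup of M† containing it. -/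
theorem result {G : Type*} [Group G] [Finite G] {p : ℕ} [Fact p.Prime] (S : Sylow p G) (Q : Subgroup G) (hQp : IsPGroup p ↥Q) (hQ1 : Q ≠ ⊥) (hQS : Q ≤ (S : Subgroup G)) (hQ : Cfsg.IsLarge Q) (M : Subgroup G) (hSM : (S : Subgroup G) ≤ M) (hM : Cfsg.IsInFrakM p M) : Cfsg.IsWeaklyClosedSubgroup p (((Cfsg.pCoreOf p M)).subgroupOf (M ⊔ Subgroup.centralizer (((Cfsg.largestPReducedOf p M) : Subgroup G) : Set G))) := by
  have h : CfsgLib.LE.StdM p S Q M := ⟨hQp, hQ1, hQS, hQ, hSM, hM⟩
  set A := pCoreOf p M with hA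
  set Y := largestPReducedOf p M with hY
  rw [← h.normalizer_Y]
  set N := Subgroup.normalizer (Y : Set G) with hN
  have hSN : (S : Subgroup G) ≤ N := h.hSM.trans (CfsgLib.LE.le_normalizer_largest p M)
  refine ⟨S.subtype hSN, ?_, ?_⟩
  · intro x hx
    exact h.A_le_S (Subgroup.mem_subgroupOf.1 hx)
  · intro g hg
    have hAN : A ≤ N := h.A_le_S.trans hSN
    have h1 : A.map (MulAut.conj (g : G)).toMonoidHom ≤ (S : Subgroup G) := by
      rintro _ ⟨a, ha, rfl⟩
      have h2 : g * ⟨a, hAN ha⟩ * g⁻¹ ∈ (A.subgroupOf N).map (MulAut.conj g).toMonoidHom :=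
        ⟨⟨a, hAN ha⟩, Subgroup.mem_subgroupOf.2 ha, rfl⟩
      exact hg h2
    have h2 : A.map (MulAut.conj (g : G)).toMonoidHom = A := h.A_conj_eq g.2 h1
    ext x
    constructor
    · rintro ⟨a, ha, rfl⟩
      rw [Subgroup.mem_subgroupOf]
      have : ((MulAut.conj g).toMonoidHom a : G) ∈ A.map (MulAut.conj (g : G)).toMonoidHom :=
        ⟨a, Subgroup.mem_subgroupOf.1 ha, rfl⟩
      rwa [h2] at this
    · intro hx
      rw [Subgroup.mem_subgroupOf] at hx
      rw [← h2] at hx
      obtain ⟨a, ha, hax⟩ := hx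
      exact ⟨⟨a, hAN ha⟩, Subgroup.mem_subgroupOf.2 ha, Subtype.ext hax⟩

end Cfsg.Agent.S2848
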