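import Cfsg.Statements.S2851
import Cfsg.Agent.LibLEM2
import Cfsg.Agent.LibComp

set_option autoImplicit false
open Cfsg

namespace Cfsg.Agent.S2851

open Cfsg Subgroup in
theorem aux_gF {X : Type*} [Group X] [Finite X] {p : ℕ} [Fact p.Prime] {U : Subgroup X}
    (hO : Cfsg.pCore p X = ⊥) (hU : IsPGroup p ↥U)
    (hn : Cfsg.generalizedFittingSubgroup X ≤ Subgroup.normalizer (U : Set X)) : U = ⊥ := by
  set F := Cfsg.generalizedFittingSubgroup X with hF
  have hFn : F.Normal := inferInstance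
  have h1 : U ⊓ F ≤ ⊥ := by
    have h2 : U ⊓ F ≤ Cfsg.pCoreOf p F :=
      CfsgLib.LE.le_pCoreOf inf_le_right (CfsgLib.LE.le_normalizer_inf hn Subgroup.le_normalizer) (hU.to_le inf_le_left)
    have h3 : Cfsg.pCoreOf p F ≤ Cfsg.pCore p X := by
      rw [← CfsgLib.LE.pCoreOf_top]
      exact CfsgLib.LE.pCoreOf_le_pCoreOf_of_normal le_top (by rw [Subgroup.normalizer_eq_top])
    exact (h2.trans h3).trans hO.le
  have h4 : ⁅U, F⁆ ≤ ⊥ := by
    refine le_trans (le_inf ?_ ?_) h1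
    · exact Subgroup.le_normalizer_iff_commutator_le_left.1 hn
    · exact Subgroup.commutator_le_right U F
  have h5 : U ≤ Subgroup.centralizer (F : Set X) :=
    Subgroup.commutator_eq_bot_iff_le_centralizer.1 (le_bot_iff.1 h4)
  exact le_bot_iff.1 ((le_inf le_rfl (h5.trans CfsgLib.Comp.centralizer_gfitting_le)).trans h1)


/-- Standing hypotheses: G a finite group, S a Sylow p-subgroup, Q a nontrivial large p-subgroup of G contained in S, M a subgroup containing S with the basic property (M ∈ 𝔐_G(S)); Y_M the largest p-reduced normal subgroup of M and M† = M·C_G(Y_M). Let F be the preimage in M† of the generalized Fitting subgroup of M†/C_{M†}(Y_M). If Y_M is asymmetric in G and H is a subgroup of characteristic p containing F, then Y_M ≤ Y_H. -/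
theorem result {G : Type*} [Group G] [Finite G] {p : ℕ} [Fact p.Prime] (S : Sylow p G) (Q : Subgroup G) (hQp : IsPGroup p ↥Q) (hQ1 : Q ≠ ⊥) (hQS : Q ≤ (S : Subgroup G)) (hQ : Cfsg.IsLarge Q) (M : Subgroup G) (hSM : (S : Subgroup G) ≤ M) (hM : Cfsg.IsInFrakM p M) (hasym : ¬ Cfsg.IsSymmetricIn (Cfsg.largestPReducedOf p M)) [hn : ((Subgroup.centralizer (((Cfsg.largestPReducedOf p M) : Subgroup G) : Set G)).subgroupOf (M ⊔ Subgroup.centralizer (((Cfsg.largestPReducedOf p M) : Subgroup G) : Set G))).Normal] (F : Subgroup G) (hF : F = ((Cfsg.generalizedFittingSubgroup (↥(M ⊔ Subgroup.centralizer (((Cfsg.largestPReducedOf p M) : Subgroup G) : Set G)) ⧸ (Subgroup.centralizer (((Cfsg.largestPReducedOf p M) : Subgroup G) : Set G)).subgroupOf (M ⊔ Subgroup.centralizer (((Cfsg.largestPReducedOf p M) : Subgroup G) : Set G)))).comap (QuotientGroup.mk' ((Subgroup.centralizer (((Cfsg.largestPReducedOf p M) : Subgroup G) : Set G)).subgroupOf (M ⊔ Subgroup.centralizer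 (((Cfsg.largestPReducedOf p M) : Subgroup G) : Set G))))).map ((M ⊔ Subgroup.centralizer (((Cfsg.largestPReducedOf p M) : Subgroup G) : Set G))).subtype) (H : Subgroup G) (hFH : F ≤ H) (hH : Subgroup.centralizer (Cfsg.pCore p ↥H : Set ↥H) ≤ Cfsg.pCore p ↥H) : (Cfsg.largestPReducedOf p M) ≤ Cfsg.largestPReducedOf p H := by
  have h : CfsgLib.LE.StdM p S Q M := ⟨hQp, hQ1, hQS, hQ, hSM, hM⟩
  set A := pCoreOf p M with hA
  set Y := largestPReducedOf p M with hY
  set C := Subgroup.centralizer (Y : Set G) with hC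
  set Md := M ⊔ C with hMd
  set Cs := C.subgroupOf Md with hCs
  have hCMd : C ≤ Md := le_sup_right
  have hPR : CfsgLib.LE.PRed p Y Md := by
    have := CfsgLib.LE.pRed_largestPReducedOf p Md
    rwa [← hM.2.2.2.1] at this
  have hpow : ∀ x : ↥Md ⧸ Cs, ∀ n, (∃ g : ↥Md, QuotientGroup.mk' Cs g = x ∧ (g : G) ^ (p ^ n) ∈ C) → x ^ p ^ n = 1 := by
    rintro x n ⟨g, rfl, hg⟩
    rw [← map_pow]
    apply (QuotientGroup.eq_one_iff _).2
    rw [hCs, Subgroup.mem_subgroupOf]
    simpa using hg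
  have hO : pCore p (↥Md ⧸ Cs) = ⊥ := by
    set K := ((pCore p (↥Md ⧸ Cs)).comap (QuotientGroup.mk' Cs)).map Md.subtype with hK
    have h1 : K ≤ C := by
      apply hPR.2.2.2 K (Subgroup.map_subtype_le _)
      · haveI : ((pCore p (↥Md ⧸ Cs)).comap (QuotientGroup.mk' Cs)).Normal := Subgroup.Normal.comap inferInstance _
        exact CfsgLib.LE.le_normalizer_map_subtype _
      · rintro _ ⟨g, hg, rfl⟩
        obtain ⟨n, hn⟩ := CfsgLib.LE.pCore_isPGroup p (↥Md ⧸ Cs) ⟨_, hg⟩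
        refine ⟨n, ?_⟩
        have h2 : (QuotientGroup.mk' Cs g) ^ p ^ n = 1 := by
          have := congrArg Subtype.val hn
          simpa using this
        rw [← map_pow] at h2
        have h3 := (QuotientGroup.eq_one_iff _).1 h2
        rw [hCs, Subgroup.mem_subgroupOf] at h3
        simpa using h3
    rw [eq_bot_iff]
    intro x hx
    obtain ⟨g, rfl⟩ := QuotientGroup.mk'_surjective Cs x
    have h2 : (g : G) ∈ K := ⟨g, hx, rfl⟩
    rw [Subgroup.mem_bot]
    apply (QuotientGroup.eq_one_iff _).2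
    rw [hCs, Subgroup.mem_subgroupOf]
    exact h1 h2
  have hCF : C ≤ F := by
    intro c hc
    rw [hF]
    refine ⟨⟨c, hCMd hc⟩, ?_, rfl⟩
    have h1 : QuotientGroup.mk' Cs ⟨c, hCMd hc⟩ = 1 := (QuotientGroup.eq_one_iff _).2 (by rw [hCs, Subgroup.mem_subgroupOf]; exact hc)
    rw [SetLike.mem_coe, Subgroup.mem_comap, h1]
    exact Subgroup.one_mem _
  have hFMd : F ≤ Md := by rw [hF]; exact Subgroup.map_subtype_le _
  have hclaim : ∀ U : Subgroup G, U ≤ Md → F ≤ Subgroup.normalizer (U : Set G) →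
      (∀ x ∈ U, ∃ n : ℕ, x ^ (p ^ n) ∈ C) → U ≤ C := by
    intro U hU hFU hx
    have h1 : (U.subgroupOf Md).map (QuotientGroup.mk' Cs) = ⊥ := by
      apply aux_gF hO
      · rintro ⟨_, g, hg, rfl⟩
        obtain ⟨n, hn⟩ := hx g (Subgroup.mem_subgroupOf.1 hg)
        refine ⟨n, Subtype.ext ?_⟩
        exact hpow _ n ⟨g, rfl, hn⟩
      · intro x hxF
        obtain ⟨g, rfl⟩ := QuotientGroup.mk'_surjective Cs x
        have h2 : (g : G) ∈ F := by rw [hF]; exact ⟨g, hxF, rfl⟩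
        have h3 := hFU h2
        rw [CfsgLib.LE.mem_normalizer_iff_map_conj]
        apply le_antisymm
        · rintro _ ⟨_, ⟨u, hu, rfl⟩, rfl⟩
          refine ⟨g * u * g⁻¹, ?_, by simp⟩
          rw [SetLike.mem_coe, Subgroup.mem_subgroupOf]
          exact (Subgroup.mem_normalizer_iff.1 h3 u).1 (Subgroup.mem_subgroupOf.1 hu)
        · rintro _ ⟨u, hu, rfl⟩
          refine ⟨QuotientGroup.mk' Cs (g⁻¹ * u * g), ⟨_, ?_, rfl⟩, by simp [mul_assoc]⟩
          rw [SetLike.mem_coe, Subgroup.mem_subgroupOf]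
          exact (Subgroup.mem_normalizer_iff''.1 h3 u).1 (Subgroup.mem_subgroupOf.1 hu)
    intro u hu
    have h2 : QuotientGroup.mk' Cs ⟨u, hU hu⟩ ∈ (U.subgroupOf Md).map (QuotientGroup.mk' Cs) :=
      ⟨_, Subgroup.mem_subgroupOf.2 hu, rfl⟩
    rw [h1, Subgroup.mem_bot] at h2
    have h3 := (QuotientGroup.eq_one_iff _).1 h2
    rwa [hCs, Subgroup.mem_subgroupOf] at h3
  have hAH : A ≤ H := h.A_le_centralizer.trans (hCF.trans hFH)
  obtain ⟨T, hT, hAT, hTA⟩ := h.exists_syl hasym hAH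
  have hTMd : T ≤ Md := hTA.trans h.normalizer_A_le
  have hPR2 : CfsgLib.LE.PRed p Y (H ⊓ Md) := by
    refine ⟨le_inf (h.Y_le_A.trans hAH) (h.Y_le_M.trans le_sup_left), inf_le_right.trans hPR.2.1, h.Y_elem, ?_⟩
    intro K hK hKn hx
    exact hclaim K (hK.trans inf_le_right) ((le_inf hFH hFMd).trans hKn) hx
  exact CfsgLib.LE.PRed.le_largest_of_parabolic ((CfsgLib.LE.charPOf_iff_type H).2 hH) hT (le_inf hT.le hTMd) inf_le_left hPR2

end Cfsg.Agent.S2851
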