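import Cfsg.Statements.S2852
import Cfsg.Agent.LibLEM3

set_option autoImplicit false
open Cfsg

namespace Cfsg.Agent.S2852




/-- Standing hypotheses: G a finite group, S a Sylow p-subgroup, Q a nontrivial large p-subgroup of G contained in S, M a subgroup containing S with the basic property (M ∈ 𝔐_G(S)); Y_M the largest p-reduced normal subgroup of M. If Y_M is char-p-tall and asymmetric in G, then some subgroup H of G lies in ℌ_G(O_p(M)): H has characteristic p, O_p(M) ≤ H, Y_M ≰ O_p(H), and Y_M ≤ O_p(P) for every proper subgroup P of H containing O_p(M). -/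
theorem result {G : Type*} [Group G] [Finite G] {p : ℕ} [Fact p.Prime] (S : Sylow p G) (Q : Subgroup G) (hQp : IsPGroup p ↥Q) (hQ1 : Q ≠ ⊥) (hQS : Q ≤ (S : Subgroup G)) (hQ : Cfsg.IsLarge Q) (M : Subgroup G) (hSM : (S : Subgroup G) ≤ M) (hM : Cfsg.IsInFrakM p M) (htall : Cfsg.IsCharPTall p (Cfsg.largestPReducedOf p M)) (hasym : ¬ Cfsg.IsSymmetricIn (Cfsg.largestPReducedOf p M)) : ∃ H : Subgroup G, Cfsg.IsInFrakH p M H := by
  have h : CfsgLib.LE.StdM p S Q M := ⟨hQp, hQ1, hQS, hQ, hSM, hM⟩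
  set A := pCoreOf p M with hA
  set Y := largestPReducedOf p M with hY
  obtain ⟨T, L, hTL, hLch, hYL⟩ := htall
  have hT : CfsgLib.LE.IsSyl p _ (Subgroup.centralizer (Y : Set G)) := ⟨T, rfl⟩
  obtain ⟨c, hc, hcT⟩ := hT.conj_of_isSyl h.A_isSyl_centralizer
  set L' := L.map (MulAut.conj c).toMonoidHom with hL'
  have hAL' : A ≤ L' := by
    rw [hA, ← hcT]; exact Subgroup.map_mono hTL
  have hcY : Y.map (MulAut.conj c).toMonoidHom = Y :=
    CfsgLib.LE.mem_normalizer_iff_map_conj.1 (Subgroup.centralizer_le_normalizer _ hc)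
  have hcL : CfsgLib.LE.CharPOf p L' := by
    have h1 := (CfsgLib.LE.charPOf_iff_type L).2 hLch
    have h2 := Subgroup.map_mono (f := (MulAut.conj c).toMonoidHom) h1
    rw [Subgroup.map_inf_eq _ _ _ (MulAut.conj c).injective, ← CfsgLib.LE.centralizer_map_conj,
      ← CfsgLib.LE.pCoreOf_map_conj] at h2
    exact h2
  have hYL' : ¬ Y ≤ pCoreOf p L' := by
    intro h1
    apply hYL
    have h2 := Subgroup.map_mono (f := (MulAut.conj c⁻¹).toMonoidHom) h1
    rw [CfsgLib.LE.mem_normalizer_iff_map_conj.1 (Subgroup.inv_mem _ (Subgroup.centralizer_le_normalizer _ hc)),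
      ← CfsgLib.LE.pCoreOf_map_conj, hL', CfsgLib.LE.map_conj_mul, inv_mul_cancel, CfsgLib.LE.map_conj_one] at h2
    exact h2
  obtain ⟨H, hHmin⟩ := (Set.toFinite {H : Subgroup G | A ≤ H ∧ H ≤ L' ∧ ¬ Y ≤ pCoreOf p H}).exists_minimal
    ⟨L', hAL', le_rfl, hYL'⟩
  obtain ⟨hAH, hHL, hYH⟩ := hHmin.1
  have hmin : ∀ P : Subgroup G, A ≤ P → P < H → Y ≤ pCoreOf p P := by
    intro P hAP hPH
    by_contra hcon
    exact hPH.not_ge (hHmin.2 ⟨hAP, hPH.le.trans hHL, hcon⟩ hPH.le)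
  refine ⟨H, ?_, hAH, hYH, hmin⟩
  rw [← CfsgLib.LE.charPOf_iff_type]
  have hncl := CfsgLib.LE.nclOf_eq_self_of_minimal hAH hYH hmin
  set O := pCoreOf p L' with hO
  have hOA : O ≤ Subgroup.normalizer (A : Set G) := h.pCoreOf_le_normalizer_A hasym hAL'
  set X := O ⊓ H with hX
  have hHO : H ≤ Subgroup.normalizer (O : Set G) := hHL.trans (CfsgLib.LE.le_normalizer_pCoreOf p L')
  have hHX : H ≤ Subgroup.normalizer (X : Set G) := CfsgLib.LE.le_normalizer_inf hHO Subgroup.le_normalizer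
  have h1 : ⁅O, A⁆ ≤ X := le_inf (Subgroup.le_normalizer_iff_commutator_le_left.1 (hAH.trans hHO))
    ((Subgroup.le_normalizer_iff_commutator_le_right.1 hOA).trans hAH)
  have h2 : A ≤ CfsgLib.LE.csec O X := CfsgLib.LE.le_csec (hAH.trans hHO) (hAH.trans hHX) h1
  have h3 : H ≤ CfsgLib.LE.csec O X := by
    rw [← hncl]
    exact CfsgLib.LE.nclOf_le_of_normal h2 (CfsgLib.LE.le_normalizer_csec hHO hHX)
  have hXp : IsPGroup p ↥X := (CfsgLib.LE.pCoreOf_isPGroup p L').to_le inf_le_left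
  have hXH : X ≤ pCoreOf p H := CfsgLib.LE.le_pCoreOf inf_le_right hHX hXp
  apply CfsgLib.LE.charPOf_of_forall
  intro g hg hco hgc
  have h4 : g ∈ Subgroup.centralizer (O : Set G) :=
    CfsgLib.LE.mem_centralizer_of_csec hXp (h3 hg) (Subgroup.centralizer_le hXH hgc) hco
  exact hcL.eq_one (hHL hg) hco h4

end Cfsg.Agent.S2852
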