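import Cfsg.Statements.S2853
import Cfsg.Agent.LibLEM3

set_option autoImplicit false
open Cfsg

namespace Cfsg.Agent.S2853

open Cfsg Subgroup in
theorem aux_syl {G : Type*} [Group G] [Finite G] {p : ℕ} [Fact p.Prime] {T₀ K H : Subgroup G}
    (hT₀ : CfsgLib.LE.IsSyl p T₀ H) (hTK : T₀ ≤ K) (hKH : K ≤ H) (T : Sylow p ↥K) :
    ∃ P : Sylow p ↥H, ((P : Subgroup ↥H).map H.subtype) = (T : Subgroup ↥K).map K.subtype := by
  have h1 : CfsgLib.LE.IsSyl p _ K := ⟨T, rfl⟩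
  have h2 : CfsgLib.LE.IsSyl p T₀ K := hT₀.mono hTK hKH
  obtain ⟨k, hk, hkT⟩ := h2.conj_of_isSyl h1
  have h3 : CfsgLib.LE.IsSyl p (T₀.map (MulAut.conj k).toMonoidHom) H := by
    have h4 := hT₀.map_conj' k
    rwa [CfsgLib.LE.mem_normalizer_iff_map_conj.1 (Subgroup.le_normalizer (hKH hk))] at h4
  rw [hkT] at h3
  exact h3


/-- Standing hypotheses: G a finite group, S a Sylow p-subgroup, Q a nontrivial large p-subgroup of G contained in S, M a subgroup containing S with the basic property (M ∈ 𝔐_G(S)); Y_M the largest p-reduced normal subgroup of M and M† = M·C_G(Y_M). Suppose Y_M is char-p-tall and asymmetric in G and H ∈ ℌ_G(O_p(M)). Then every Sylow p-subgroup of H ∩ M† is a Sylow p-subgroup of H; O_p(H) normalizes O_p(M) and Y_M; O^p(H) = [O^p(H), Y_M] and H = O^p(H)·O_p(M); O^p(H)·Y_M is the normal closure of Y_M in H; and H is the normal closure of O_p(M) in H. Here O^p(H) is the subgroup generated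 by the elements of H of order prime to p. -/
theorem result {G : Type*} [Group G] [Finite G] {p : ℕ} [Fact p.Prime] (S : Sylow p G) (Q : Subgroup G) (hQp : IsPGroup p ↥Q) (hQ1 : Q ≠ ⊥) (hQS : Q ≤ (S : Subgroup G)) (hQ : Cfsg.IsLarge Q) (M : Subgroup G) (hSM : (S : Subgroup G) ≤ M) (hM : Cfsg.IsInFrakM p M) (htall : Cfsg.IsCharPTall p (Cfsg.largestPReducedOf p M)) (hasym : ¬ Cfsg.IsSymmetricIn (Cfsg.largestPReducedOf p M)) (H : Subgroup G) (hH : Cfsg.IsInFrakH p M H) (R : Subgroup G) (hR : R = (Cfsg.pResidual p ↥H).map H.subtype) : (∀ T : Sylow p ↥(H ⊓ (M ⊔ Subgroup.centralizer (((Cfsg.largestPReducedOf p M) : Subgroup G) : Set G))), ∃ P : Sylow p ↥H, ((P : Subgroup ↥H).map H.subtype) = (T : Subgroup ↥(H ⊓ (M ⊔ Subgroup.centralizer (((Cfsg.largestPReducedOf p M) : Subgroup G) : Set G)))).map (H ⊓ (M ⊔ Subgroup.centralizer (((Cfsg.largestPReducedOf p M) : Subgroup G) : Set G))).subtype) ∧ Cfsg.pCoreOf p H ≤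 Subgroup.normalizer (((Cfsg.pCoreOf p M) : Subgroup G) : Set G) ⊓ Subgroup.normalizer (((Cfsg.largestPReducedOf p M) : Subgroup G) : Set G) ∧ ⁅R, (Cfsg.largestPReducedOf p M)⁆ = R ∧ R ⊔ (Cfsg.pCoreOf p M) = H ∧ R ⊔ (Cfsg.largestPReducedOf p M) = (Subgroup.normalClosure ((((Cfsg.largestPReducedOf p M)).subgroupOf H : Subgroup ↥H) : Set ↥H)).map H.subtype ∧ (Subgroup.normalClosure ((((Cfsg.pCoreOf p M)).subgroupOf H : Subgroup ↥H) : Set ↥H)).map H.subtype = H := by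
  have h : CfsgLib.LE.StdM p S Q M := ⟨hQp, hQ1, hQS, hQ, hSM, hM⟩
  subst hR
  obtain ⟨T₀, hT₀, hAT, hTA⟩ := h.exists_syl hasym hH.2.1
  refine ⟨?_, ?_, h.H_comm hH, CfsgLib.LE.StdM.H_sup hH, h.H_ncl_Y hH, CfsgLib.LE.StdM.H_ncl hH⟩
  · intro T
    exact aux_syl hT₀ (le_inf hT₀.le (hTA.trans h.normalizer_A_le)) inf_le_left T
  · have h1 := h.pCoreOf_le_normalizer_A hasym hH.2.1
    exact le_inf h1 (h1.trans h.normalizer_A_le_Y)

end Cfsg.Agent.S2853
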