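import Cfsg.Statements.S2854
import Cfsg.Agent.LibLEM3
import Cfsg.Agent.S2828

set_option autoImplicit false
open Cfsg

namespace Cfsg.Agent.S2854

open Cfsg Subgroup in
theorem irred_of_ambient {G : Type*} [Group G] [Finite G] {p : ℕ} [Fact p.Prime] {K : Subgroup G}
    (h1 : ¬ Cfsg.IsPClosed p ↥K)
    (h2 : ∀ N : Subgroup G, N ≤ K → K ≤ Subgroup.normalizer (N : Set G) →
      (Cfsg.pResidual p ↥K).map K.subtype ≤ N ∨ Cfsg.IsPClosed p ↥N) : Cfsg.IsPIrreducible p ↥K := by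
  refine ⟨h1, fun N hN hNc => ?_⟩
  have h3 := h2 (N.map K.subtype) (Subgroup.map_subtype_le _) (CfsgLib.LE.le_normalizer_map_subtype N)
  rcases h3 with h3 | h3
  · intro x hx
    obtain ⟨y, hy, hyx⟩ := h3 ⟨x, hx, rfl⟩
    rwa [← (Subtype.ext hyx : y = x)]
  · exfalso
    apply hNc
    have e : ↥N ≃* ↥(N.map K.subtype) := Subgroup.equivMapOfInjective N K.subtype K.subtype_injective
    exact (CfsgLib.LE.isPClosed_equiv_iff e).2 h3


/-- Standing hypotheses: G a finite group, S a Sylow p-subgroup, Q a nontrivial large p-subgroup of G contained in S, M a subgroup containing S with the basic property (M ∈ 𝔐_G(S)); Y_M the largest p-reduced normal subgroup of M and M† = M·C_G(Y_M). Suppose Y_M is asymmetric in G, H ∈ ℌ_G(O_p(M)), and H ≤ N_G(gQg⁻¹) for some g ∈ G. Then gQg⁻¹ ≤ O_p(H·gQg⁻¹) ≤ N_G(O_p(M)) ≤ N_G(Y_M) = M†; H is normal in H·gQg⁻¹ with O^p(H) = O^p(H·gQg⁻¹); and H·gQg⁻¹ is p-irreducible. -/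
theorem result {G : Type*} [Group G] [Finite G] {p : ℕ} [Fact p.Prime] (S : Sylow p G) (Q : Subgroup G) (hQp : IsPGroup p ↥Q) (hQ1 : Q ≠ ⊥) (hQS : Q ≤ (S : Subgroup G)) (hQ : Cfsg.IsLarge Q) (M : Subgroup G) (hSM : (S : Subgroup G) ≤ M) (hM : Cfsg.IsInFrakM p M) (hasym : ¬ Cfsg.IsSymmetricIn (Cfsg.largestPReducedOf p M)) (H : Subgroup G) (hH : Cfsg.IsInFrakH p M H) (g : G) (hHQ : H ≤ Subgroup.normalizer ((((Q : Subgroup G).map (MulAut.conj (g : G)).toMonoidHom) : Subgroup G) : Set G)) : ((Q : Subgroup G).map (MulAut.conj (g : G)).toMonoidHom) ≤ Cfsg.pCoreOf p (H ⊔ ((Q : Subgroup G).map (MulAut.conj (g : G)).toMonoidHom)) ∧ Cfsg.pCoreOf p (H ⊔ ((Q : Subgroup G).map (MulAut.conj (g : G)).toMonoidHom)) ≤ Subgroup.normalizer (((Cfsg.pCoreOf p M) : Subgroup G) : Set G) ∧ Subgroup.normalizer (((Cfsg.pCoreOf p M) : Subgroup G) : Set G) ≤ Subgroup.normalizer (((Cfsg.largestPReducedOf p M) : Subgroup G) : Set G) ∧ Subgroup.normalizer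 (((Cfsg.largestPReducedOf p M) : Subgroup G) : Set G) = (M ⊔ Subgroup.centralizer (((Cfsg.largestPReducedOf p M) : Subgroup G) : Set G)) ∧ (H.subgroupOf (H ⊔ ((Q : Subgroup G).map (MulAut.conj (g : G)).toMonoidHom))).Normal ∧ (Cfsg.pResidual p ↥H).map H.subtype = (Cfsg.pResidual p ↥(H ⊔ ((Q : Subgroup G).map (MulAut.conj (g : G)).toMonoidHom))).map (H ⊔ ((Q : Subgroup G).map (MulAut.conj (g : G)).toMonoidHom)).subtype ∧ Cfsg.IsPIrreducible p ↥(H ⊔ ((Q : Subgroup G).map (MulAut.conj (g : G)).toMonoidHom)) := by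
  have h : CfsgLib.LE.StdM p S Q M := ⟨hQp, hQ1, hQS, hQ, hSM, hM⟩
  set A := pCoreOf p M with hA
  set Y := largestPReducedOf p M with hY
  set Qg := (Q : Subgroup G).map (MulAut.conj g).toMonoidHom with hQg
  set K := H ⊔ Qg with hK
  have hQgp : IsPGroup p ↥Qg := CfsgLib.LE.isPGroup_map_conj hQp g
  have hQgK : Qg ≤ K := le_sup_right
  have hHK : H ≤ K := le_sup_left
  have hKQ : K ≤ Subgroup.normalizer (Qg : Set G) := sup_le hHQ Subgroup.le_normalizer
  have h1 : Qg ≤ pCoreOf p K := CfsgLib.LE.le_pCoreOf hQgK hKQ hQgp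
  have hAK : A ≤ K := hH.2.1.trans hHK
  have h2 : pCoreOf p K ≤ Subgroup.normalizer (A : Set G) := h.pCoreOf_le_normalizer_A hasym hAK
  have hQA : Qg ≤ Subgroup.normalizer (A : Set G) := h1.trans h2
  have hncl : CfsgLib.LE.nclOf A H = H := CfsgLib.LE.StdM.H_ncl hH
  have hQH : Qg ≤ Subgroup.normalizer (H : Set G) := by
    intro q hq
    have h3 : ∀ q' ∈ Qg, H.map (MulAut.conj q').toMonoidHom ≤ H := by
      intro q' hq'
      have h4 : H ≤ H.map (MulAut.conj q'⁻¹).toMonoidHom := by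
        conv_lhs => rw [← hncl]
        apply CfsgLib.LE.nclOf_le_of
        intro x hx
        have h5 : A.map (MulAut.conj (q' * x)).toMonoidHom ≤ H := by
          have h6 : q' * x = x * (x⁻¹ * q' * x) := by group
          have h7 : x⁻¹ * q' * x ∈ Qg := (Subgroup.mem_normalizer_iff''.1 (hHQ hx) q').1 hq'
          rw [h6, ← CfsgLib.LE.map_conj_mul, CfsgLib.LE.mem_normalizer_iff_map_conj.1 (hQA h7)]
          exact CfsgLib.LE.map_conj_le_of_mem hH.2.1 hx
        have h6 := Subgroup.map_mono (f := (MulAut.conj q'⁻¹).toMonoidHom) h5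
        rwa [CfsgLib.LE.map_conj_mul, inv_mul_cancel_left] at h6
      have h5 := Subgroup.map_mono (f := (MulAut.conj q').toMonoidHom) h4
      rwa [CfsgLib.LE.map_conj_mul, mul_inv_cancel, CfsgLib.LE.map_conj_one] at h5
    rw [CfsgLib.LE.mem_normalizer_iff_map_conj]
    exact Subgroup.eq_of_le_of_card_ge (h3 q hq) (by rw [CfsgLib.LE.card_map_conj])
  have hKH : K ≤ Subgroup.normalizer (H : Set G) := sup_le Subgroup.le_normalizer hQH
  have hHKn : (H.subgroupOf K).Normal := CfsgLib.LE.subgroupOf_normal_of_le_normalizer hKH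
  have hres : (pResidual p ↥K).map K.subtype = (pResidual p ↥H).map H.subtype :=
    CfsgLib.LE.resOf_sup_of_isPGroup hHKn.isSubnormal hQgp hHQ
  have hYH : ¬ Y ≤ pCoreOf p H := hH.2.2.1
  have hnc : ∀ K' : Subgroup G, H ≤ K' → ¬ IsPClosed p ↥K' := by
    intro K' hHK' hcl
    have h3 := CfsgLib.LE.isPClosed_iff.1 hcl Y (h.Y_le_A.trans (hH.2.1.trans hHK')) h.Y_isPGroup
    exact hYH ((le_inf (h.Y_le_A.trans hH.2.1) h3).trans (CfsgLib.LE.inf_pCoreOf_le hHK'))
  refine ⟨h1, h2, h.normalizer_A_le_Y, h.normalizer_Y, hHKn, hres.symm, ?_⟩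
  -- `H` is `p`-irreducible
  set P := pCoreOf p K with hP
  apply irred_of_ambient (hnc K hHK)
  intro N hNK hKN
  by_contra hcon
  push Not at hcon
  obtain ⟨hc1, hc2⟩ := hcon
  have hPn : K ≤ Subgroup.normalizer (P : Set G) := CfsgLib.LE.le_normalizer_pCoreOf p K
  have hPK : P ≤ K := CfsgLib.LE.pCoreOf_le p K
  set N₂ := (N ⊔ P) ⊓ H with hN₂
  have hKNP : K ≤ Subgroup.normalizer ((N ⊔ P : Subgroup G) : Set G) := CfsgLib.LE.le_normalizer_sup hKN hPn
  have hKN₂ : K ≤ Subgroup.normalizer (N₂ : Set G) := CfsgLib.LE.le_normalizer_inf hKNP hKH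
  rcases h.H_irred hH (inf_le_right : N₂ ≤ H) (hHK.trans hKN₂) with h3 | h3
  · apply hc1
    rw [hres]
    apply CfsgLib.LE.le_of_resOf_eq (C := N ⊔ P) (CfsgLib.LE.resOf_resOf H) (h3.trans inf_le_left)
    intro x hx
    exact CfsgLib.LE.pow_mem_of_mem_sup (CfsgLib.LE.pCoreOf_isPGroup p K) (hPK.trans hKN) hx
  · apply hc2
    -- `N P = N₂ P`
    have hHP : H ⊔ P = K := le_antisymm (sup_le hHK hPK) (sup_le_sup_left h1 H)
    have h4 : N₂ ⊔ P = N ⊔ P := by
      have h5 := CfsgLib.LE.sup_inf_of_le_normalizer (A := P) (B := H) (C := N ⊔ P) le_sup_right (hHK.trans hPn)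
      rw [sup_comm P H, hHP, inf_eq_right.2 (sup_le hNK hPK)] at h5
      rw [hN₂, inf_comm (N ⊔ P) H, sup_comm, h5]
    have h5 : IsPClosed p ↥(N ⊔ P : Subgroup G) := by
      rw [← h4]
      -- all `p`-subgroups of `N₂ P` lie in `P`
      have hPsyl : CfsgLib.LE.IsSyl p P (N₂ ⊔ P) := by
        apply CfsgLib.LE.isSyl_of_max le_sup_right (CfsgLib.LE.pCoreOf_isPGroup p K)
        intro T hT hTp hPT
        apply le_antisymm _ hPT
        have hN₂O : pCoreOf p N₂ ≤ P := by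
          have h6 : N₂ ≤ K := inf_le_right.trans hHK
          exact CfsgLib.LE.pCoreOf_le_pCoreOf_of_normal h6 hKN₂
        intro t ht
        have h6 := hT ht
        have hN₂P : N₂ ≤ Subgroup.normalizer (P : Set G) := inf_le_right.trans (hHK.trans hPn)
        obtain ⟨n, hn, y, hy, hny⟩ := (CfsgLib.LE.mem_sup_of_le_normalizer hN₂P).1 h6
        have h7 : n ∈ T := by
          have : n = t * y⁻¹ := by rw [← hny]; group
          rw [this]; exact T.mul_mem ht (T.inv_mem (hPT hy))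
        have h8 : n ∈ pCoreOf p N₂ :=
          CfsgLib.LE.isPClosed_iff.1 h3 (N₂ ⊓ T) inf_le_left (hTp.to_le inf_le_right) ⟨hn, h7⟩
        rw [← hny]
        exact P.mul_mem (hN₂O h8) hy
      apply CfsgLib.LE.isPClosed_of_normal_sylow hPsyl
      exact (sup_le (inf_le_right.trans hHK) hPK).trans hPn
    exact CfsgLib.LE.IsPClosed.mono h5 le_sup_left

end Cfsg.Agent.S2854
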