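import Cfsg.Statements.S2861
import Cfsg.Agent.LibFrL8

set_option autoImplicit false
open Cfsg

namespace Cfsg.Agent.S2861

/-- Standing hypotheses: G a finite group, S a Sylow p-subgroup, Q a nontrivial large p-subgroup of G contained in S, M a subgroup containing S with the basic property (M ∈ 𝔐_G(S)); Y_M the largest p-reduced normal subgroup of M and M† = M·C_G(Y_M). Let L ∈ 𝔏_G(Y_M) (L ∈ 𝔏_G(Y_M): Y_M ≤ L; O_p(L) is the normal closure in L of Y_M ∩ O_p(L) and normalizes Y_M; L is Y_M-minimal of characteristic p with N_L(Y_M) its unique maximal subgroup over Y_M; and L/O_p(L) ≅ SL₂(q) with q = |Y_M : Y_M ∩ O_p(L)|, or p = 2 and L/O_p(L) is a Suzuki group Sz(q) or dihedral of order 2r, r an odd prime) and A = O_p(L). Then Y_M·A/A is the unique nontrivial elementary abelian normal p-subgroup of N_L(Y_M)/A. -/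
theorem result {G : Type*} [Group G] [Finite G] {p : ℕ} [Fact p.Prime] (S : Sylow p G) (Q : Subgroup G) (hQp : IsPGroup p ↥Q) (hQ1 : Q ≠ ⊥) (hQS : Q ≤ (S : Subgroup G)) (hQ : Cfsg.IsLarge Q) (M : Subgroup G) (hSM : (S : Subgroup G) ≤ M) (hM : Cfsg.IsInFrakM p M) (L : Subgroup G) (hL : Cfsg.IsInFrakL p M L) (NL : Subgroup G) (hNL : NL = L ⊓ Subgroup.normalizer (((Cfsg.largestPReducedOf p M) : Subgroup G) : Set G)) [hn : (((Cfsg.pCoreOf p L)).subgroupOf NL).Normal] : let Ybar : Subgroup (↥NL ⧸ ((Cfsg.pCoreOf p L)).subgroupOf NL) := (((Cfsg.largestPReducedOf p M)).subgroupOf NL).map (QuotientGroup.mk' (((Cfsg.pCoreOf p L)).subgroupOf NL)); Ybar ≠ ⊥ ∧ Ybar.Normal ∧ Cfsg.IsElementaryAbelian p Ybar ∧ ∀ (V : Subgroup (↥NL ⧸ ((Cfsg.pCoreOf p L)).subgroupOf NL)), V.Normal → Cfsg.IsElementaryAbelian p V → V ≠ ⊥ → V = Ybar := by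
  have hF := CfsgLib.FrL.toFL hL
  have hYL : Cfsg.largestPReducedOf p M ≤ L := hL.1
  have hAN : Cfsg.pCoreOf p L ≤ Subgroup.normalizer (Cfsg.largestPReducedOf p M : Set G) := hL.2.2.1
  have hel : Cfsg.IsElementaryAbelian p (Cfsg.largestPReducedOf p M) := (CfsgLib.LE.pRed_largestPReducedOf p M).2.2.1
  have hAL : Cfsg.pCoreOf p L ≤ L := by
    rintro _ ⟨y, -, rfl⟩
    exact y.2
  have mcore := CfsgLib.FrL.mem_core_iff (p := p) L
  have eqW := fun W => CfsgLib.FrL.eqW_all (W := W) hL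
  generalize hY : Cfsg.largestPReducedOf p M = Y at *
  have hYN : Y ≤ NL := by
    rw [hNL]
    exact le_inf hYL Subgroup.le_normalizer
  have hNLL : NL ≤ L := by rw [hNL]; exact inf_le_left
  have hNLN : NL ≤ Subgroup.normalizer (Y : Set G) := by rw [hNL]; exact inf_le_right
  have hANL : Cfsg.pCoreOf p L ≤ NL := by rw [hNL]; exact le_inf hAL hAN
  intro Ybar
  have mk1 : ∀ x : ↥NL, QuotientGroup.mk' ((Cfsg.pCoreOf p L).subgroupOf NL) x = 1 ↔ (x : G) ∈ Cfsg.pCoreOf p L := by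
    intro x
    rw [← MonoidHom.mem_ker, QuotientGroup.ker_mk', Subgroup.mem_subgroupOf]
  refine ⟨?_, ?_, ?_, ?_⟩
  · intro h0
    apply hF.not_le
    intro y hy
    have hy' : (y : G) ∈ Y := hy
    have h1 : QuotientGroup.mk' ((Cfsg.pCoreOf p L).subgroupOf NL) ⟨(y : G), hYN hy'⟩ ∈ Ybar := ⟨⟨(y : G), hYN hy'⟩, hy', rfl⟩
    rw [h0, Subgroup.mem_bot, mk1] at h1
    exact (mcore y).1 h1
  · have h1 : (Y.subgroupOf NL).Normal := by
      refine ⟨fun y hy n => ?_⟩
      have h2 := (Subgroup.mem_normalizer_iff.1 (hNLN n.2)) (y : G)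
      exact h2.1 hy
    exact h1.map _ (QuotientGroup.mk'_surjective _)
  · refine ⟨⟨⟨?_⟩⟩, ?_⟩
    · rintro ⟨_, ⟨a, ha, rfl⟩⟩ ⟨_, ⟨b, hb, rfl⟩⟩
      apply Subtype.ext
      have h2 := hel.1.is_comm.comm ⟨(a : G), ha⟩ ⟨(b : G), hb⟩
      have h3 : (a : G) * (b : G) = (b : G) * (a : G) := congrArg Subtype.val h2
      have h4 : a * b = b * a := Subtype.ext h3
      have h5 := congrArg (QuotientGroup.mk' ((Cfsg.pCoreOf p L).subgroupOf NL)) h4
      rw [map_mul, map_mul] at h5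
      exact h5
    · rintro _ ⟨a, ha, rfl⟩
      have h2 := hel.2 (a : G) ha
      have h4 : a ^ p = 1 := Subtype.ext h2
      rw [← map_pow, h4, map_one]
  · intro V hV hVe hV1
    set W : Subgroup ↥L := ((V.comap (QuotientGroup.mk' ((Cfsg.pCoreOf p L).subgroupOf NL))).map NL.subtype).subgroupOf L with hW
    have memW : ∀ x : ↥L, x ∈ W ↔ ∃ h : (x : G) ∈ NL, QuotientGroup.mk' ((Cfsg.pCoreOf p L).subgroupOf NL) ⟨(x : G), h⟩ ∈ V := by
      intro x
      rw [hW, Subgroup.mem_subgroupOf]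
      constructor
      · rintro ⟨y, hy, e⟩
        have hx : (x : G) ∈ NL := by rw [← e]; exact y.2
        refine ⟨hx, ?_⟩
        have : (⟨(x : G), hx⟩ : ↥NL) = y := Subtype.ext e.symm
        rw [this]
        exact hy
      · rintro ⟨h, h'⟩
        exact ⟨⟨(x : G), h⟩, h', rfl⟩
    have nNL : ∀ n : ↥L, n ∈ Subgroup.normalizer ((Y.subgroupOf L : Subgroup ↥L) : Set ↥L) → (n : G) ∈ NL := by
      intro n hn'
      rw [CfsgLib.FrL.norm_iff hYL] at hn'
      rw [hNL]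
      exact ⟨n.2, hn'⟩
    have w : CfsgLib.FrL.WD p (Cfsg.pCore p ↥L) (Y.subgroupOf L) W := by
      refine ⟨?_, ?_, ?_, ?_, ?_⟩
      · intro a ha
        have h1 : (a : G) ∈ Cfsg.pCoreOf p L := (mcore a).2 ha
        rw [memW]
        refine ⟨hANL h1, ?_⟩
        rw [(mk1 ⟨(a : G), hANL h1⟩).2 h1]
        exact V.one_mem
      · intro x hx
        obtain ⟨h, -⟩ := (memW x).1 hx
        rw [CfsgLib.FrL.norm_iff hYL]
        exact hNLN h
      · intro n hn' x hx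
        obtain ⟨h, h'⟩ := (memW x).1 hx
        have hnN := nNL n hn'
        rw [memW]
        refine ⟨NL.mul_mem (NL.mul_mem hnN h) (NL.inv_mem hnN), ?_⟩
        have h3 := hV.conj_mem _ h' (QuotientGroup.mk' ((Cfsg.pCoreOf p L).subgroupOf NL) ⟨(n : G), hnN⟩)
        rw [← map_inv, ← map_mul, ← map_mul] at h3
        exact h3
      · intro x hx
        obtain ⟨h, h'⟩ := (memW x).1 hx
        have h3 := hVe.2 _ h'
        rw [← map_pow, mk1] at h3
        exact (mcore (x ^ p)).1 h3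
      · intro hWA
        apply hV1
        rw [eq_bot_iff]
        intro v hv
        obtain ⟨n, rfl⟩ := QuotientGroup.mk'_surjective _ v
        have h3 : (⟨(n : G), hNLL n.2⟩ : ↥L) ∈ W := (memW _).2 ⟨n.2, hv⟩
        rw [hWA] at h3
        rw [Subgroup.mem_bot, mk1]
        exact (mcore _).2 h3
    have hWeq := eqW W w
    apply le_antisymm
    · intro v hv
      obtain ⟨n, rfl⟩ := QuotientGroup.mk'_surjective _ v
      have h3 : (⟨(n : G), hNLL n.2⟩ : ↥L) ∈ W := (memW _).2 ⟨n.2, hv⟩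
      rw [hWeq] at h3
      have h4 := (Subgroup.mem_sup_of_normal_right).1 h3
      obtain ⟨y, hy, a, ha, e⟩ := h4
      have hy' : (y : G) ∈ Y := hy
      have ha' : (a : G) ∈ Cfsg.pCoreOf p L := (mcore a).2 ha
      have e' : (y : G) * (a : G) = (n : G) := congrArg Subtype.val e
      have h5 : n = ⟨(y : G), hYN hy'⟩ * ⟨(a : G), hANL ha'⟩ := Subtype.ext e'.symm
      rw [h5, map_mul, (mk1 ⟨(a : G), hANL ha'⟩).2 ha', mul_one]
      exact ⟨⟨(y : G), hYN hy'⟩, hy', rfl⟩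
    · rintro _ ⟨y, hy, rfl⟩
      have hy' : (⟨(y : G), hNLL y.2⟩ : ↥L) ∈ Y.subgroupOf L := hy
      have h3 : (⟨(y : G), hNLL y.2⟩ : ↥L) ∈ W := by
        rw [hWeq]
        exact (le_sup_left : Y.subgroupOf L ≤ _) hy'
      obtain ⟨_, h4⟩ := (memW _).1 h3
      exact h4

end Cfsg.Agent.S2861
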