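import Cfsg.Statements.S2864
import Cfsg.Agent.LibLEM3

set_option autoImplicit false
open Cfsg

namespace Cfsg.Agent.S2864




/-- Standing hypotheses: G a finite group, S a Sylow p-subgroup, Q a nontrivial large p-subgroup of G contained in S, M a subgroup containing S with the basic property (M ∈ 𝔐_G(S)); Y_M the largest p-reduced normal subgroup of M and M† = M·C_G(Y_M). Let I be a nontrivial normal p-subgroup of M and Y ≤ O_p(M†); let L be a subgroup of G containing Y and A a normal p-subgroup of L with I ≤ A ≤ M. If [Y, A] ≤ [I, A], then Y ≤ O_p(L). -/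
theorem result {G : Type*} [Group G] [Finite G] {p : ℕ} [Fact p.Prime] (S : Sylow p G) (Q : Subgroup G) (hQp : IsPGroup p ↥Q) (hQ1 : Q ≠ ⊥) (hQS : Q ≤ (S : Subgroup G)) (hQ : Cfsg.IsLarge Q) (M : Subgroup G) (hSM : (S : Subgroup G) ≤ M) (hM : Cfsg.IsInFrakM p M) (I : Subgroup G) (hI1 : I ≠ ⊥) (hIp : IsPGroup p ↥I) (hIM : I ≤ M ∧ M ≤ Subgroup.normalizer ((I : Subgroup G) : Set G)) (Y : Subgroup G) (hY : Y ≤ (Cfsg.pCoreOf p (M ⊔ Subgroup.centralizer (((Cfsg.largestPReducedOf p M) : Subgroup G) : Set G)))) (L : Subgroup G) (hYL : Y ≤ L) (A : Subgroup G) (hAp : IsPGroup p ↥A) (hAL : A ≤ L ∧ L ≤ Subgroup.normalizer ((A : Subgroup G) : Set G)) (hIA : I ≤ A) (hAM : A ≤ M) (hc : ⁅Y, A⁆ ≤ ⁅I, A⁆) : Y ≤ (Cfsg.pCoreOf p L) := by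
  have h : CfsgLib.LE.StdM p S Q M := ⟨hQp, hQ1, hQS, hQ, hSM, hM⟩
  set Md := M ⊔ Subgroup.centralizer ((largestPReducedOf p M : Subgroup G) : Set G) with hMd
  have hYp : IsPGroup p ↥Y := (CfsgLib.LE.pCoreOf_isPGroup p Md).to_le hY
  -- the centralizer of `A` in `L`
  set C := L ⊓ Subgroup.centralizer (A : Set G) with hC
  have hCI : C ≤ Md := by
    have h1 : C ≤ Subgroup.normalizer (I : Set G) :=
      inf_le_right.trans ((Subgroup.centralizer_le hIA).trans (Subgroup.centralizer_le_normalizer _))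
    refine h1.trans (h.le_Md_of_normal hIM.2 Subgroup.le_normalizer le_rfl hIp hI1)
  have hLC : L ≤ Subgroup.normalizer (C : Set G) :=
    CfsgLib.LE.le_normalizer_inf Subgroup.le_normalizer (CfsgLib.LE.le_normalizer_centralizer hAL.2)
  set P := pCoreOf p C with hP
  have hLP : L ≤ Subgroup.normalizer (P : Set G) := hLC.trans (CfsgLib.LE.normalizer_le_normalizer_pCoreOf p C)
  have hCY : ⁅C, Y⁆ ≤ P := by
    set O := pCoreOf p Md with hO
    have h1 : ⁅C, Y⁆ ≤ C ⊓ O := by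
      refine le_inf (Subgroup.le_normalizer_iff_commutator_le_left.1 (hYL.trans hLC)) ?_
      exact (Subgroup.commutator_mono le_rfl hY).trans
        (Subgroup.le_normalizer_iff_commutator_le_right.1 (hCI.trans (CfsgLib.LE.le_normalizer_pCoreOf p Md)))
    refine h1.trans (CfsgLib.LE.le_pCoreOf inf_le_left ?_ ((CfsgLib.LE.pCoreOf_isPGroup p Md).to_le inf_le_right))
    exact CfsgLib.LE.le_normalizer_inf Subgroup.le_normalizer (hCI.trans (CfsgLib.LE.le_normalizer_pCoreOf p Md))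
  set N := CfsgLib.LE.nclOf Y L with hN
  have hNL : N ≤ L := CfsgLib.LE.nclOf_le Y L
  have hNC : N ≤ CfsgLib.LE.csec C P :=
    CfsgLib.LE.nclOf_le_of_normal (CfsgLib.LE.le_csec (hYL.trans hLC) (hYL.trans hLP) hCY)
      (CfsgLib.LE.le_normalizer_csec hLC hLP)
  -- `Y` centralizes `A / Φ(A)`
  set F := (frattini ↥A).map A.subtype with hF
  have hLF : L ≤ Subgroup.normalizer (F : Set G) := hAL.2.trans (CfsgLib.LE.normalizer_le_normalizer_frat A)
  have hAY : ⁅A, Y⁆ ≤ F := by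
    rw [Subgroup.commutator_comm]
    exact hc.trans ((Subgroup.commutator_mono hIA le_rfl).trans (CfsgLib.LE.commutator_le_frat hAp))
  have hNF : N ≤ CfsgLib.LE.csec A F :=
    CfsgLib.LE.nclOf_le_of_normal (CfsgLib.LE.le_csec (hYL.trans hAL.2) (hYL.trans hLF) hAY)
      (CfsgLib.LE.le_normalizer_csec hAL.2 hLF)
  have hresC : (pResidual p ↥N).map N.subtype ≤ C := by
    apply CfsgLib.LE.resOf_le_of_pow_mem
    intro x hx
    obtain ⟨k, hk⟩ := CfsgLib.LE.exists_pow_coprime (p := p) x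
    refine ⟨k, Subgroup.mem_inf.2 ⟨L.pow_mem (hNL hx) _, ?_⟩⟩
    exact CfsgLib.LE.mem_centralizer_of_frat hAp (Subgroup.pow_mem _ (hNF hx) _) hk
  -- `N` is `p`-closed
  obtain ⟨T, hT⟩ := CfsgLib.LE.exists_isSyl p N
  have hTn : N ≤ Subgroup.normalizer (T : Set G) := by
    have h5 := hT.resOf_sup
    conv_lhs => rw [← h5]
    refine sup_le ?_ Subgroup.le_normalizer
    rw [Subgroup.le_normalizer_iff_commutator_le_left]
    have h6 : ⁅T, (pResidual p ↥N).map N.subtype⁆ ≤ N ⊓ P := by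
      refine le_inf ?_ ?_
      · exact (Subgroup.commutator_mono hT.le (CfsgLib.LE.resOf_le N)).trans
          (Subgroup.le_normalizer_iff_commutator_le_left.1 Subgroup.le_normalizer)
      · rw [Subgroup.commutator_comm]
        exact (Subgroup.commutator_mono hresC (hT.le.trans hNC)).trans (CfsgLib.LE.commutator_csec_le C P)
    refine h6.trans (hT.le_of_normal inf_le_left ?_ ((CfsgLib.LE.pCoreOf_isPGroup p C).to_le inf_le_right))
    exact CfsgLib.LE.le_normalizer_inf Subgroup.le_normalizer (hNL.trans hLP)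
  have hcl := CfsgLib.LE.isPClosed_of_normal_sylow hT hTn
  have h6 : Y ≤ pCoreOf p N := CfsgLib.LE.isPClosed_iff.1 hcl Y (CfsgLib.LE.le_nclOf hYL) hYp
  exact h6.trans (CfsgLib.LE.pCoreOf_le_pCoreOf_of_normal hNL (CfsgLib.LE.le_normalizer_nclOf Y L))

end Cfsg.Agent.S2864
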