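import Cfsg.Statements.S2872
import Cfsg.Agent.LibLETf

set_option autoImplicit false
open Cfsg

namespace Cfsg.Agent.S2872




/-- Let S be a Sylow 2-subgroup of the finite group G. Then G has a proper normal subgroup of 2-power index (O²(G) ≠ G), or Ω₁(Z(S)) is contained in the Frattini subgroup of S, or N_G(S) acts nontrivially on Ω₁(Z(S)) by conjugation. -/
theorem result {G : Type*} [Group G] [Finite G] (S : Sylow 2 G) : Cfsg.pResidual 2 G ≠ ⊤ ∨ Cfsg.omegaOne 2 ((S : Subgroup G) ⊓ Subgroup.centralizer ((S : Subgroup G) : Set G)) ≤ (frattini ↥(S : Subgroup G)).map (S : Subgroup G).subtype ∨ ∃ g ∈ Subgroup.normalizer ((S : Subgroup G) : Set G), ∃ z ∈ Cfsg.omegaOne 2 ((S : Subgroup G) ⊓ Subgroup.centralizer ((S : Subgroup G) : Set G)), g * z * g⁻¹ ≠ z := by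
  haveI : Fact (Nat.Prime 2) := ⟨Nat.prime_two⟩
  by_contra hcon
  push Not at hcon
  obtain ⟨h1, h2, h3⟩ := hcon
  obtain ⟨z, hz, hzΦ⟩ := SetLike.not_le_iff_exists.1 h2
  obtain ⟨hzZ, hz2⟩ := (CfsgLib.LE.mem_omegaOne_iff CfsgLib.LE.comm_of_le_center).1 hz
  -- a maximal subgroup of `S` not containing `z`
  obtain ⟨M, hM, hzM⟩ : ∃ M : Subgroup ↥(S : Subgroup G), IsCoatom M ∧ (⟨z, hzZ.1⟩ : ↥(S : Subgroup G)) ∉ M := by
    by_contra hno
    push Not at hno
    apply hzΦ
    refine ⟨⟨z, hzZ.1⟩, ?_, rfl⟩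
    rw [SetLike.mem_coe, frattini, Order.radical]
    simp only [Subgroup.mem_iInf]
    intro K hK
    exact hno K hK
  have hMi := CfsgLib.LE.coatom_normal_index (p := 2) S.2 hM
  have hrel : (M.map (S : Subgroup G).subtype).relIndex (S : Subgroup G) = 2 := by
    rw [Subgroup.relIndex, Subgroup.subgroupOf, Subgroup.comap_map_eq_self_of_injective (Subgroup.subtype_injective _)]
    exact hMi.2
  have hno : ∀ H : Subgroup G, H.index ≠ 2 := by
    intro H hH
    haveI : H.Normal := Subgroup.normal_of_index_eq_two hH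
    have h4 : Cfsg.pResidual 2 G ≤ H := by
      apply CfsgLib.LE.pResidual_le_of_isPGroup
      exact IsPGroup.of_card (n := 1) (by rw [← Subgroup.index_eq_card, hH, pow_one])
    rw [h1, top_le_iff] at h4
    rw [h4, Subgroup.index_top] at hH
    exact absurd hH (by norm_num)
  obtain ⟨g, hg, hgM⟩ := CfsgLib.LE.central_transfer S _ (Subgroup.map_subtype_le _) hrel z hz2 hzZ.2 hno
  have h4 := h3 g⁻¹ (Subgroup.inv_mem _ hg) z hz
  rw [inv_inv] at h4
  rw [h4] at hgM
  obtain ⟨m, hm, hmz⟩ := hgM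
  apply hzM
  have : (⟨z, hzZ.1⟩ : ↥(S : Subgroup G)) = m := Subtype.ext hmz.symm
  rw [this]; exact hm

end Cfsg.Agent.S2872
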