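import Cfsg.Statements.S2873
import Cfsg.Agent.LibLEP3

set_option autoImplicit false
open Cfsg

namespace Cfsg.Agent.S2873

theorem inv_conj {G : Type*} [Group G] {u v : G} (hu : u ^ 2 = 1) (hv : v ^ 2 = 1) :
    u * (u * v) * u⁻¹ = (u * v)⁻¹ ∧ v * (u * v) * v⁻¹ = (u * v)⁻¹ := by
  have hu' : u⁻¹ = u := inv_eq_of_mul_eq_one_left (by rw [← sq]; exact hu)
  have hv' : v⁻¹ = v := inv_eq_of_mul_eq_one_left (by rw [← sq]; exact hv)
  rw [mul_inv_rev, hu', hv']
  constructor
  · rw [← mul_assoc, ← sq, hu, one_mul]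
  · rw [mul_assoc, mul_assoc, ← sq, hv, mul_one]

open Cfsg Subgroup in
theorem conj_of_odd {G : Type*} [Group G] {r : ℕ} (hr : r % 2 = 1) {u v : G} (hu : u ^ 2 = 1) (hv : v ^ 2 = 1)
    (h : (u * v) ^ r = 1) : ∃ j : ℕ, (u * v) ^ j * v * ((u * v) ^ j)⁻¹ = u := by
  have hu' : u⁻¹ = u := inv_eq_of_mul_eq_one_left (by rw [← sq]; exact hu)
  have hv' : v⁻¹ = v := inv_eq_of_mul_eq_one_left (by rw [← sq]; exact hv)
  have h1 : ∀ j : ℕ, v * ((u * v) ^ j)⁻¹ = (u * v) ^ j * v := by
    intro j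
    induction j with
    | zero => simp
    | succ j ih =>
      rw [pow_succ', mul_inv_rev, ← mul_assoc, ih, mul_inv_rev, hu', hv']
      have h2 : u * v * (u * v) ^ j = (u * v) ^ j * (u * v) := by rw [← pow_succ', ← pow_succ]
      rw [h2]
      calc (u * v) ^ j * v * (v * u) = (u * v) ^ j * (v ^ 2) * u := by rw [sq]; group
        _ = (u * v) ^ j * u := by rw [hv, mul_one]
        _ = (u * v) ^ j * u * (v ^ 2) := by rw [hv, mul_one]
        _ = (u * v) ^ j * (u * v) * v := by rw [sq]; group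
  refine ⟨(r + 1) / 2, ?_⟩
  rw [mul_assoc, h1, ← mul_assoc, ← pow_add]
  have h2 : (r + 1) / 2 + (r + 1) / 2 = r + 1 := by omega
  rw [h2, pow_succ, h, one_mul]
  calc u * v * v = u * v ^ 2 := by rw [sq]; group
    _ = u := by rw [hv, mul_one]

open Cfsg Subgroup in
theorem dih_inv {r : ℕ} (hr : r ≠ 0) (hodd : r % 2 = 1) (x : DihedralGroup r) (hx : x ^ 2 = 1) (hx1 : x ≠ 1) :
    ∃ i : ZMod r, x = DihedralGroup.sr i := by
  cases x with
  | sr i => exact ⟨i, rfl⟩
  | r i =>
    exfalso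
    apply hx1
    have h1 : DihedralGroup.r (i + i) = (DihedralGroup.r 0 : DihedralGroup r) := by
      rw [sq, DihedralGroup.r_mul_r] at hx
      exact hx
    have h2 : i + i = 0 := by
      injection h1
    have h3 : i = 0 := by
      haveI : NeZero r := ⟨hr⟩
      have h4 : ((2 : ℕ) : ZMod r) * i = 0 := by push_cast; rw [two_mul]; exact h2
      have h5 : IsUnit ((2 : ℕ) : ZMod r) := by
        rw [ZMod.isUnit_iff_coprime, Nat.coprime_two_left]
        exact Nat.odd_iff.2 hodd
      exact (h5.mul_right_eq_zero).1 h4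
    rw [h3]; rfl


/-- Let G be a finite group and r an odd prime such that G ⧸ O₂(G) is dihedral of order 2r, and let R be a Sylow r-subgroup of G with C_{O₂(G)}(R) = 1. Then N_G(R) is dihedral of order 2r; for any involution a of N_G(R), every involution of G outside O₂(G) is conjugate to a; and |C_{O₂(G)}(a)|² = |O₂(G)|. -/
theorem result {G : Type*} [Group G] [Finite G] {r : ℕ} [Fact r.Prime] (hr : r ≠ 2) [hN : (Cfsg.pCore 2 G).Normal] (hquot : Nonempty (G ⧸ Cfsg.pCore 2 G ≃* DihedralGroup r)) (R : Sylow r G) (hC : Cfsg.pCore 2 G ⊓ Subgroup.centralizer ((R : Subgroup G) : Set G) = ⊥) : Nonempty (↥(Subgroup.normalizer ((R : Subgroup G) : Set G)) ≃* DihedralGroup r) ∧ ∀ a : G, a ∈ Subgroup.normalizer ((R : Subgroup G) : Set G) → orderOf a = 2 → (∀ b : G, orderOf b = 2 → b ∉ Cfsg.pCore 2 G → ∃ g : G, g * a * g⁻¹ = b) ∧ Nat.card ↥(Cfsg.pCore 2 G ⊓ Subgroup.centralizer ({a} : Set G)) ^ 2 = Nat.card ↥(Cfsg.pCore 2 G) := by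
  classical
  set O := Cfsg.pCore 2 G with hO
  obtain ⟨e⟩ := hquot
  have hrp : r.Prime := Fact.out
  haveI : Fact (Nat.Prime 2) := ⟨Nat.prime_two⟩
  have hodd : r % 2 = 1 := by
    rcases hrp.eq_two_or_odd with h | h
    · exact absurd h hr
    · exact h
  haveI : NeZero r := ⟨hrp.ne_zero⟩
  have hO2 : IsPGroup 2 ↥O := CfsgLib.LE.pCore_isPGroup 2 G
  have hcardQ : Nat.card (G ⧸ O) = 2 * r := by
    rw [Nat.card_congr e.toEquiv, DihedralGroup.nat_card]
  obtain ⟨k, hk⟩ := IsPGroup.iff_card.1 hO2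
  have hcardG : Nat.card G = 2 * r * 2 ^ k := by
    rw [Subgroup.card_eq_card_quotient_mul_card_subgroup O, hcardQ, hk]
  -- `|R| = r`
  have hRcard : ∀ R' : Sylow r G, Nat.card ↥(R' : Subgroup G) = r := by
    intro R'
    rw [R'.card_eq_multiplicity, hcardG]
    have h1 : (2 * r * 2 ^ k).factorization r = 1 := by
      have e1 : 2 * r * 2 ^ k = r * 2 ^ (k + 1) := by rw [pow_succ]; ring
      rw [e1, Nat.factorization_mul hrp.ne_zero (by positivity)]
      simp only [Finsupp.coe_add, Pi.add_apply, Nat.factorization_pow, Finsupp.smul_apply]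
      rw [hrp.factorization_self, Nat.prime_two.factorization]
      rw [Finsupp.single_apply, if_neg (fun h => hr h.symm)]
      simp
    rw [h1, pow_one]
  -- every Sylow `r`-subgroup has trivial centralizer in `O`
  have hCall : ∀ R' : Sylow r G, O ⊓ Subgroup.centralizer ((R' : Subgroup G) : Set G) = ⊥ := by
    intro R'
    obtain ⟨g, hg⟩ := MulAction.exists_smul_eq G R R'
    have h1 : (R' : Subgroup G) = (R : Subgroup G).map (MulAut.conj g).toMonoidHom := by rw [← hg]; rfl
    have h2 : O ⊓ Subgroup.centralizer ((R' : Subgroup G) : Set G) =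
        (O ⊓ Subgroup.centralizer ((R : Subgroup G) : Set G)).map (MulAut.conj g).toMonoidHom := by
      rw [Subgroup.map_inf _ _ _ (MulAut.conj g).injective, CfsgLib.LE.map_conj_of_normal O g, h1,
        CfsgLib.LE.centralizer_map_conj]
    rw [h2, hC, Subgroup.map_bot]
  have hNO : ∀ x ∈ Subgroup.normalizer ((R : Subgroup G) : Set G), x ∈ O → x = 1 := by
    intro x hx hxO
    have h1 : x ∈ O ⊓ Subgroup.centralizer ((R : Subgroup G) : Set G) := by
      refine Subgroup.mem_inf.2 ⟨hxO, ?_⟩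
      rw [Subgroup.mem_centralizer_iff]
      intro y hy
      have h2 : x * y * x⁻¹ * y⁻¹ ∈ (R : Subgroup G) :=
        Subgroup.mul_mem _ ((Subgroup.mem_normalizer_iff.1 hx y).1 hy) (Subgroup.inv_mem _ hy)
      have h3 : x * y * x⁻¹ * y⁻¹ ∈ O := by
        have e1 : x * y * x⁻¹ * y⁻¹ = x * (y * x⁻¹ * y⁻¹) := by group
        rw [e1]
        exact Subgroup.mul_mem _ hxO (hN.conj_mem _ (Subgroup.inv_mem _ hxO) y)
      have h4 : x * y * x⁻¹ * y⁻¹ = 1 := by
        have h5 : (orderOf (x * y * x⁻¹ * y⁻¹)) ∣ r := by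
          have := orderOf_dvd_natCard (⟨_, h2⟩ : ↥(R : Subgroup G))
          rwa [← Subgroup.orderOf_coe, hRcard R] at this
        have h6 : (orderOf (x * y * x⁻¹ * y⁻¹)) ∣ 2 ^ k := by
          have := orderOf_dvd_natCard (⟨_, h3⟩ : ↥O)
          rwa [← Subgroup.orderOf_coe, hk] at this
        have h7 : Nat.Coprime r (2 ^ k) := Nat.Coprime.pow_right _ ((Nat.coprime_primes hrp Nat.prime_two).2 hr)
        have h8 := Nat.eq_one_of_dvd_coprimes h7 h5 h6
        exact orderOf_eq_one_iff.1 h8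
      calc y * x = (x * y * x⁻¹ * y⁻¹)⁻¹ * (x * y) := by group
        _ = x * y := by rw [h4]; group
    rw [hC, Subgroup.mem_bot] at h1
    exact h1
  -- Frattini
  have hRO : (O ⊔ (R : Subgroup G)).index = 2 := by
    have h1 := (O ⊔ (R : Subgroup G)).card_mul_index
    have h2 := CfsgLib.LE.card_sup_mul_card_inf (H := (R : Subgroup G)) (K := O) (by rw [Subgroup.normalizer_eq_top O]; exact le_top)
    have h3 : (R : Subgroup G) ⊓ O = ⊥ := by
      rw [eq_bot_iff]
      intro x hx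
      exact hNO x (Subgroup.le_normalizer hx.1) hx.2
    rw [h3, Subgroup.card_bot, mul_one, hRcard R, hk, sup_comm] at h2
    rw [h2, hcardG] at h1
    have h4 : r * 2 ^ k * (O ⊔ (R : Subgroup G)).index = r * 2 ^ k * 2 := by rw [h1]; ring
    exact Nat.eq_of_mul_eq_mul_left (Nat.mul_pos hrp.pos (by positivity)) h4
  haveI hROn : (O ⊔ (R : Subgroup G)).Normal := Subgroup.normal_of_index_eq_two hRO
  have hfr : ∀ g : G, ∃ x ∈ O, ∃ n ∈ Subgroup.normalizer ((R : Subgroup G) : Set G), g = x * n := by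
    intro g
    have hs : CfsgLib.LE.IsSyl r (R : Subgroup G) (O ⊔ (R : Subgroup G)) := CfsgLib.LE.isSyl_sylow R le_sup_right
    obtain ⟨m, hm, n, hn, hg⟩ := hs.exists_mul_of_frattini (N := ⊤) le_top (by rw [Subgroup.normalizer_eq_top]) (g := g) trivial
    obtain ⟨x, hx, s, hs', rfl⟩ := (CfsgLib.LE.mem_sup_of_le_normalizer' (H := O) (K := (R : Subgroup G))
      (by rw [Subgroup.normalizer_eq_top O]; exact le_top)).1 hm
    exact ⟨x, hx, s * n, Subgroup.mul_mem _ (Subgroup.le_normalizer hs') hn.2, by rw [hg, mul_assoc]⟩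
  -- the isomorphism
  let f : ↥(Subgroup.normalizer ((R : Subgroup G) : Set G)) →* G ⧸ O := (QuotientGroup.mk' O).comp (Subgroup.subtype _)
  have hfb : Function.Bijective f := by
    constructor
    · rw [← MonoidHom.ker_eq_bot_iff, eq_bot_iff]
      intro x hx
      have h1 : (x : G) ∈ O := (QuotientGroup.eq_one_iff _).1 hx
      exact Subtype.ext (hNO x x.2 h1)
    · intro q
      obtain ⟨g, rfl⟩ := QuotientGroup.mk_surjective q
      obtain ⟨x, hx, n, hn, rfl⟩ := hfr g
      refine ⟨⟨n, hn⟩, ?_⟩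
      show ((n : G) : G ⧸ O) = ((x * n : G) : G ⧸ O)
      rw [QuotientGroup.eq]
      have : n⁻¹ * (x * n) = n⁻¹ * x * n⁻¹⁻¹ := by group
      rw [this]; exact hN.conj_mem x hx _
  let eN := (MulEquiv.ofBijective f hfb).trans e
  refine ⟨⟨eN⟩, ?_⟩
  intro a haN ha2
  have ha2' : a ^ 2 = 1 := by rw [← ha2]; exact pow_orderOf_eq_one a
  -- images in the dihedral group
  let d : G →* DihedralGroup r := e.toMonoidHom.comp (QuotientGroup.mk' O)
  have hd1 : ∀ g : G, d g = 1 ↔ g ∈ O := by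
    intro g
    constructor
    · intro h
      have h1 : e (QuotientGroup.mk' O g) = 1 := h
      rw [map_eq_one_iff e e.injective] at h1
      exact (QuotientGroup.eq_one_iff _).1 h1
    · intro h
      have h1 : QuotientGroup.mk' O g = 1 := (QuotientGroup.eq_one_iff _).2 h
      show e (QuotientGroup.mk' O g) = 1
      rw [h1, map_one]
  have hrot : ∀ u v : G, u ^ 2 = 1 → v ^ 2 = 1 → u ∉ O → v ∉ O → ∃ i : ZMod r, d (u * v) = DihedralGroup.r i := by
    intro u v hu hv hu' hv'
    obtain ⟨i, hi⟩ := dih_inv hrp.ne_zero hodd (d u) (by rw [← map_pow, hu, map_one]) (fun h => hu' ((hd1 u).1 h))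
    obtain ⟨j, hj⟩ := dih_inv hrp.ne_zero hodd (d v) (by rw [← map_pow, hv, map_one]) (fun h => hv' ((hd1 v).1 h))
    exact ⟨j - i, by rw [map_mul, hi, hj, DihedralGroup.sr_mul_sr]⟩
  have hpowr : ∀ y : G, (∃ i : ZMod r, d y = DihedralGroup.r i) → y ^ r ∈ O := by
    rintro y ⟨i, hi⟩
    rw [← hd1, map_pow, hi, DihedralGroup.r_pow]
    simp
  have hord : ∀ u v : G, u ^ 2 = 1 → v ^ 2 = 1 → u ∉ O → v ∉ O → d u ≠ d v → (u * v) ^ r = 1 ∧
      ∃ R' : Sylow r G, (R' : Subgroup G) = Subgroup.zpowers (u * v) := by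
    intro u v hu hv hu' hv' hne
    set y := u * v with hy
    have hyr := hpowr y (hrot u v hu hv hu' hv')
    have hyO : y ∉ O := by
      intro h
      rw [← hd1, hy, map_mul] at h
      apply hne
      have h1 : d v * d v = 1 := by rw [← map_mul, ← sq, hv, map_one]
      rw [eq_inv_of_mul_eq_one_left h]
      exact inv_eq_of_mul_eq_one_left h1
    have hdy : orderOf (d y) = r := by
      have h1 : (d y) ^ r = 1 := by rw [← map_pow]; exact (hd1 _).2 hyr
      rcases (Nat.dvd_prime hrp).1 (orderOf_dvd_of_pow_eq_one h1) with h2 | h2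
      · exact absurd ((hd1 y).1 (orderOf_eq_one_iff.1 h2)) hyO
      · exact h2
    have hrdvd : r ∣ orderOf y := by rw [← hdy]; exact orderOf_map_dvd d y
    obtain ⟨m, hm⟩ := hrdvd
    have hm0 : 0 < m := by
      rcases Nat.eq_zero_or_pos m with h | h
      · rw [h, mul_zero] at hm
        exact absurd hm (orderOf_pos y).ne'
      · exact h
    have hy₁ : orderOf (y ^ m) = r := by
      rw [orderOf_pow, hm, Nat.gcd_eq_right (Dvd.intro_left r rfl)]
      exact Nat.mul_div_cancel _ hm0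
    have hcy : Nat.card ↥(Subgroup.zpowers (y ^ m)) = r := by rw [Nat.card_zpowers, hy₁]
    obtain ⟨R', hR'⟩ := (IsPGroup.of_card (n := 1) (by rw [hcy, pow_one]) : IsPGroup r ↥(Subgroup.zpowers (y ^ m))).exists_le_sylow
    have hR'eq : Subgroup.zpowers (y ^ m) = (R' : Subgroup G) :=
      Subgroup.eq_of_le_of_card_ge hR' (by rw [hRcard R', hcy])
    have hyr1 : y ^ r = 1 := by
      have h1 : y ^ r ∈ O ⊓ Subgroup.centralizer ((R' : Subgroup G) : Set G) := by
        refine Subgroup.mem_inf.2 ⟨hyr, ?_⟩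
        rw [← hR'eq, Subgroup.mem_centralizer_iff]
        intro z hz
        obtain ⟨i, rfl⟩ := Subgroup.mem_zpowers_iff.1 hz
        exact (((Commute.refl y).pow_pow m r).zpow_left i).eq
      rw [hCall R', Subgroup.mem_bot] at h1
      exact h1
    refine ⟨hyr1, R', ?_⟩
    rw [← hR'eq]
    have h2 : m = 1 := by
      have h3 := orderOf_dvd_of_pow_eq_one hyr1
      rw [hm] at h3
      have h4 := Nat.le_of_dvd hrp.pos h3
      nlinarith [hrp.pos]
    rw [h2, pow_one]
  have hinO : ∀ u : G, orderOf u = 2 → u ∈ Subgroup.normalizer ((R : Subgroup G) : Set G) → u ∉ O := by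
    intro u hu huN huO
    have := hNO u huN huO
    rw [this, orderOf_one] at hu
    exact absurd hu (by norm_num)
  have haO := hinO a ha2 haN
  -- second involution of `N` with image different from a given one
  have hother : ∀ q : DihedralGroup r, ∃ a' ∈ Subgroup.normalizer ((R : Subgroup G) : Set G), orderOf a' = 2 ∧ d a' ≠ q := by
    intro q
    obtain ⟨i, hi⟩ : ∃ i : ZMod r, (DihedralGroup.sr i : DihedralGroup r) ≠ q := by
      by_cases h : (DihedralGroup.sr 0 : DihedralGroup r) = q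
      · refine ⟨1, ?_⟩
        rw [← h]
        intro h'
        have h1 : (1 : ZMod r) = 0 := by injection h'
        haveI : Fact (1 < r) := ⟨hrp.one_lt⟩
        exact one_ne_zero h1
      · exact ⟨0, h⟩
    refine ⟨(eN.symm (DihedralGroup.sr i) : ↥(Subgroup.normalizer ((R : Subgroup G) : Set G))), Subtype.mem _, ?_, ?_⟩
    · rw [Subgroup.orderOf_coe]
      have := orderOf_injective eN.symm.toMonoidHom eN.symm.injective (DihedralGroup.sr i)
      rw [DihedralGroup.orderOf_sr] at this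
      exact this
    · have h1 : d ((eN.symm (DihedralGroup.sr i) : ↥(Subgroup.normalizer ((R : Subgroup G) : Set G))) : G) =
        eN (eN.symm (DihedralGroup.sr i)) := rfl
      rw [h1, MulEquiv.apply_symm_apply]
      exact hi
  have hsq : ∀ u : G, orderOf u = 2 → u ^ 2 = 1 := fun u hu => by rw [← hu]; exact pow_orderOf_eq_one u
  -- involutions of `N` are conjugate in `N`
  have hconjN : ∀ u v : G, orderOf u = 2 → orderOf v = 2 → u ∈ Subgroup.normalizer ((R : Subgroup G) : Set G) →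
      v ∈ Subgroup.normalizer ((R : Subgroup G) : Set G) → ∃ g : G, g * v * g⁻¹ = u := by
    intro u v hu hv huN hvN
    have h1 := hpowr (u * v) (hrot u v (hsq u hu) (hsq v hv) (hinO u hu huN) (hinO v hv hvN))
    have h2 := hNO _ (Subgroup.pow_mem _ (Subgroup.mul_mem _ huN hvN) r) h1
    obtain ⟨j, hj⟩ := conj_of_odd hodd (hsq u hu) (hsq v hv) h2
    exact ⟨_, hj⟩
  constructor
  · intro b hb2 hbO
    obtain ⟨a', ha'N, ha'2, ha'd⟩ := hother (d b)
    have h1 := (hord b a' (hsq b hb2) (hsq a' ha'2) hbO (hinO a' ha'2 ha'N) (Ne.symm ha'd)).1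
    obtain ⟨j, hj⟩ := conj_of_odd hodd (hsq b hb2) (hsq a' ha'2) h1
    obtain ⟨g, hg⟩ := hconjN a' a ha'2 ha2 ha'N haN
    refine ⟨(b * a') ^ j * g, ?_⟩
    calc (b * a') ^ j * g * a * ((b * a') ^ j * g)⁻¹ = (b * a') ^ j * (g * a * g⁻¹) * ((b * a') ^ j)⁻¹ := by group
      _ = b := by rw [hg, hj]
  · obtain ⟨a', ha'N, ha'2, ha'd⟩ := hother (d a)
    have ha'O := hinO a' ha'2 ha'N
    -- `|C_O(a)| = |C_O(a')|`
    obtain ⟨g₀, hg₀⟩ := hconjN a' a ha'2 ha2 ha'N haN
    have hceq : Nat.card ↥(O ⊓ Subgroup.centralizer ({a'} : Set G)) = Nat.card ↥(O ⊓ Subgroup.centralizer ({a} : Set G)) := by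
      have h1 : O ⊓ Subgroup.centralizer ({a'} : Set G) = (O ⊓ Subgroup.centralizer ({a} : Set G)).map (MulAut.conj g₀).toMonoidHom := by
        rw [Subgroup.map_inf _ _ _ (MulAut.conj g₀).injective, CfsgLib.LE.map_conj_of_normal O g₀,
          ← CfsgLib.LE.centralizer_singleton_map_conj, hg₀]
      rw [h1, CfsgLib.LE.card_map_conj]
    set H₁ : Subgroup ↥O := (Subgroup.centralizer ({a} : Set G)).subgroupOf O with hH₁
    set H₂ : Subgroup ↥O := (Subgroup.centralizer ({a'} : Set G)).subgroupOf O with hH₂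
    have hc1 : Nat.card ↥H₁ = Nat.card ↥(O ⊓ Subgroup.centralizer ({a} : Set G)) := by
      rw [hH₁, ← Subgroup.card_map_of_injective (Subgroup.subtype_injective O), Subgroup.subgroupOf_map_subtype, inf_comm]
    have hc2 : Nat.card ↥H₂ = Nat.card ↥(O ⊓ Subgroup.centralizer ({a'} : Set G)) := by
      rw [hH₂, ← Subgroup.card_map_of_injective (Subgroup.subtype_injective O), Subgroup.subgroupOf_map_subtype, inf_comm]
    obtain ⟨hyr, R₀, hR₀⟩ := hord a a' ha2' (hsq a' ha'2) haO ha'O (Ne.symm ha'd)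
    -- uniqueness of involutions of `N` in a coset
    have huq : ∀ u v : G, u ∈ Subgroup.normalizer ((R : Subgroup G) : Set G) → v ∈ Subgroup.normalizer ((R : Subgroup G) : Set G) →
        d u = d v → u = v := by
      intro u v hu hv huv
      have h1 : d (u * v⁻¹) = 1 := by rw [map_mul, map_inv, huv, mul_inv_cancel]
      have h2 := hNO _ (Subgroup.mul_mem _ hu (Subgroup.inv_mem _ hv)) ((hd1 _).1 h1)
      exact mul_inv_eq_one.1 h2
    have hdO : ∀ x ∈ O, ∀ u : G, d (x * u * x⁻¹) = d u := by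
      intro x hx u
      rw [map_mul, map_mul, map_inv, (hd1 x).2 hx]; group
    have hbij : Function.Bijective (fun x : ↥O => ((x : ↥O ⧸ H₁), (x : ↥O ⧸ H₂))) := by
      constructor
      · intro x y hxy
        have h1 := congrArg Prod.fst hxy
        have h2 := congrArg Prod.snd hxy
        simp only [QuotientGroup.eq] at h1 h2
        have h3 : ((x⁻¹ * y : ↥O) : G) ∈ O ⊓ Subgroup.centralizer ((R₀ : Subgroup G) : Set G) := by
          refine Subgroup.mem_inf.2 ⟨Subtype.mem _, ?_⟩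
          rw [hR₀, CfsgLib.LE.zpowers_centralizer, Subgroup.mem_centralizer_singleton_iff]
          have h4 : ((x⁻¹ * y : ↥O) : G) * a = a * ((x⁻¹ * y : ↥O) : G) := Subgroup.mem_centralizer_singleton_iff.1 h1
          have h5 : ((x⁻¹ * y : ↥O) : G) * a' = a' * ((x⁻¹ * y : ↥O) : G) := Subgroup.mem_centralizer_singleton_iff.1 h2
          rw [← mul_assoc, h4, mul_assoc, h5, mul_assoc]
        rw [hCall R₀, Subgroup.mem_bot] at h3
        have h4 : x⁻¹ * y = 1 := Subtype.ext h3
        exact (inv_mul_eq_one.1 h4)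
      · rintro ⟨q₁, q₂⟩
        obtain ⟨x₁, rfl⟩ := QuotientGroup.mk_surjective q₁
        obtain ⟨x₂, rfl⟩ := QuotientGroup.mk_surjective q₂
        set b : G := x₁ * a * (x₁ : G)⁻¹ with hb
        set b' : G := x₂ * a' * (x₂ : G)⁻¹ with hb'
        have hdb : d b = d a := hdO _ x₁.2 a
        have hdb' : d b' = d a' := hdO _ x₂.2 a'
        have hb2 : b ^ 2 = 1 := by rw [hb, conj_pow, ha2']; group
        have hb'2 : b' ^ 2 = 1 := by rw [hb', conj_pow, hsq a' ha'2]; group
        have hbO : b ∉ O := fun h => haO ((hd1 a).1 (by rw [← hdb]; exact (hd1 b).2 h))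
        have hb'O : b' ∉ O := fun h => ha'O ((hd1 a').1 (by rw [← hdb']; exact (hd1 b').2 h))
        obtain ⟨hyr', R₁, hR₁⟩ := hord b b' hb2 hb'2 hbO hb'O (by rw [hdb, hdb']; exact Ne.symm ha'd)
        obtain ⟨g, hg⟩ := MulAction.exists_smul_eq G R R₁
        obtain ⟨x, hx, n, hn, rfl⟩ := hfr g
        have h1 : (R₁ : Subgroup G) = (R : Subgroup G).map (MulAut.conj x).toMonoidHom := by
          have h2 : (R₁ : Subgroup G) = (R : Subgroup G).map (MulAut.conj (x * n)).toMonoidHom := by rw [← hg]; rfl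
          rw [h2, ← CfsgLib.LE.map_conj_mul, CfsgLib.LE.mem_normalizer_iff_map_conj.1 hn]
        -- `b`, `b'` normalize `R₁`
        have hnb : ∀ u : G, u * (b * b') * u⁻¹ ∈ (R₁ : Subgroup G) → u ∈ Subgroup.normalizer ((R₁ : Subgroup G) : Set G) := by
          intro u hu
          rw [CfsgLib.LE.mem_normalizer_iff_map_conj]
          apply Subgroup.eq_of_le_of_card_ge
          · rw [CfsgLib.LE.map_conj_le_iff]
            intro z hz
            rw [hR₁] at hz
            obtain ⟨i, rfl⟩ := Subgroup.mem_zpowers_iff.1 hz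
            rw [← conj_zpow]
            exact Subgroup.zpow_mem _ hu i
          · rw [CfsgLib.LE.card_map_conj]
        have hinvm : (b * b')⁻¹ ∈ (R₁ : Subgroup G) := by
          rw [hR₁]; exact Subgroup.inv_mem _ (Subgroup.mem_zpowers _)
        have hbn : b ∈ Subgroup.normalizer ((R₁ : Subgroup G) : Set G) := by
          apply hnb
          rw [(inv_conj hb2 hb'2).1]; exact hinvm
        have hbn' : b' ∈ Subgroup.normalizer ((R₁ : Subgroup G) : Set G) := by
          apply hnb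
          rw [(inv_conj hb2 hb'2).2]; exact hinvm
        rw [h1, CfsgLib.LE.normalizer_map_conj, CfsgLib.LE.map_conj_mem] at hbn hbn'
        have h3 : x⁻¹ * b * x = a := by
          apply huq _ _ hbn haN
          have := hdO x⁻¹ (Subgroup.inv_mem _ hx) b
          rw [inv_inv] at this
          rw [this, hdb]
        have h4 : x⁻¹ * b' * x = a' := by
          apply huq _ _ hbn' ha'N
          have := hdO x⁻¹ (Subgroup.inv_mem _ hx) b'
          rw [inv_inv] at this
          rw [this, hdb']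
        refine ⟨⟨x, hx⟩, ?_⟩
        apply Prod.ext
        · show ((⟨x, hx⟩ : ↥O) : ↥O ⧸ H₁) = (x₁ : ↥O ⧸ H₁)
          rw [QuotientGroup.eq]
          show (x⁻¹ * (x₁ : G)) ∈ Subgroup.centralizer ({a} : Set G)
          rw [Subgroup.mem_centralizer_singleton_iff]
          calc x⁻¹ * (x₁ : G) * a = x⁻¹ * b * x₁ := by rw [hb]; group
            _ = (x⁻¹ * b * x) * (x⁻¹ * x₁) := by group
            _ = a * (x⁻¹ * x₁) := by rw [h3]
        · show ((⟨x, hx⟩ : ↥O) : ↥O ⧸ H₂) = (x₂ : ↥O ⧸ H₂)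
          rw [QuotientGroup.eq]
          show (x⁻¹ * (x₂ : G)) ∈ Subgroup.centralizer ({a'} : Set G)
          rw [Subgroup.mem_centralizer_singleton_iff]
          calc x⁻¹ * (x₂ : G) * a' = x⁻¹ * b' * x₂ := by rw [hb']; group
            _ = (x⁻¹ * b' * x) * (x⁻¹ * x₂) := by group
            _ = a' * (x⁻¹ * x₂) := by rw [h4]
    have hcard := Nat.card_congr (Equiv.ofBijective _ hbij)
    rw [Nat.card_prod, ← Subgroup.index_eq_card, ← Subgroup.index_eq_card] at hcard
    have hi1 := H₁.card_mul_index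
    have hi2 := H₂.card_mul_index
    rw [hc1] at hi1
    rw [hc2, hceq] at hi2
    set c := Nat.card ↥(O ⊓ Subgroup.centralizer ({a} : Set G)) with hcdef
    have hOpos : 0 < Nat.card ↥O := Nat.card_pos
    have h1 : c ^ 2 * Nat.card ↥O = Nat.card ↥O * Nat.card ↥O := by
      nth_rewrite 1 [hcard]
      calc c ^ 2 * (H₁.index * H₂.index) = (c * H₁.index) * (c * H₂.index) := by ring
        _ = _ := by rw [hi1, hi2]
    exact Nat.eq_of_mul_eq_mul_right hOpos h1

end Cfsg.Agent.S2873
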