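import Cfsg.Statements.S2874
import Cfsg.Agent.LibLEA4

set_option autoImplicit false
open Cfsg

namespace Cfsg.Agent.S2874




/-- For k ≥ 2, any two subgroups of GL₂(ℤ/2ᵏℤ) (the automorphism group of the homocyclic group ℤ/2ᵏ × ℤ/2ᵏ) that are isomorphic to the alternating group of degree 4 are conjugate. -/
theorem result (k : ℕ) (hk : 2 ≤ k) (H₁ H₂ : Subgroup (GL (Fin 2) (ZMod (2 ^ k)))) (h₁ : Nonempty (↥H₁ ≃* ↥(alternatingGroup (Fin 4)))) (h₂ : Nonempty (↥H₂ ≃* ↥(alternatingGroup (Fin 4)))) : ∃ g : GL (Fin 2) (ZMod (2 ^ k)), H₂ = H₁.map (MulAut.conj g).toMonoidHom := by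
  obtain ⟨hh1, hh2⟩ := CfsgLib.LEA4.h_facts hk
  have hsq := CfsgLib.LEA4.Mb_sq _ hh1 hh2
  let T : GL (Fin 2) (ZMod (2 ^ k)) := ⟨CfsgLib.LEA4.Mb _ 0, CfsgLib.LEA4.Mb _ 0, hsq, hsq⟩
  obtain ⟨g₁, hg₁⟩ := CfsgLib.LEA4.normal_form hk T rfl H₁ h₁
  obtain ⟨g₂, hg₂⟩ := CfsgLib.LEA4.normal_form hk T rfl H₂ h₂
  have hm : ∀ (K : Subgroup (GL (Fin 2) (ZMod (2 ^ k)))) (a b : GL (Fin 2) (ZMod (2 ^ k))),
      (K.map (MulAut.conj b).toMonoidHom).map (MulAut.conj a).toMonoidHom = K.map (MulAut.conj (a * b)).toMonoidHom := by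
    intro K a b
    rw [Subgroup.map_map]
    congr 1
    ext x
    simp
  refine ⟨g₂⁻¹ * g₁, ?_⟩
  rw [← hm, hg₁, ← hg₂, hm, inv_mul_cancel]
  ext x
  simp

end Cfsg.Agent.S2874
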