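import Cfsg.Statements.S2880
import Cfsg.Agent.LibExForm4

set_option autoImplicit false
open Cfsg

namespace Cfsg.Agent.S2880

/-- Let E be an extraspecial 2-group of order 2^(2m+1) of plus type, that is, containing an elementary abelian subgroup of order 2^(m+1) (equivalently, a central product of m dihedral groups of order 8). Then E has exactly 2^(2m) − 2^m elements of order 4. -/
theorem result {E : Type*} [Group E] [Finite E] (m : ℕ) (hm : 1 ≤ m) (hE : Cfsg.IsExtraspecial 2 E) (hcard : Nat.card E = 2 ^ (2 * m + 1)) (hplus : ∃ A : Subgroup E, Cfsg.IsElementaryAbelian 2 A ∧ Nat.card A = 2 ^ (m + 1)) : Nat.card {x : E // orderOf x = 4} = 2 ^ (2 * m) - 2 ^ m := by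
  obtain ⟨m', t, hm', hc, ht⟩ := CfsgLib.ExForm.exists_hasType hE
  have hmm : m' = m := by
    rw [hcard] at hc
    have := Nat.pow_right_injective (le_refl 2) hc
    omega
  subst hmm
  have h0 := (ht.eq_zero_iff hm).mpr hplus
  have h1 := ht.card_sq_one hm
  rw [h0, CfsgLib.QuadF2.χ_zero, one_mul] at h1
  have h2 : Nat.card {x : E // x ^ 2 = 1} = 2 ^ (2 * m') + 2 ^ m' := by exact_mod_cast h1
  have h3 : ∀ x : E, orderOf x = 4 ↔ ¬ x ^ 2 = 1 := by
    intro x
    constructor
    · intro h4 h5
      have := orderOf_dvd_of_pow_eq_one h5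
      rw [h4] at this
      norm_num at this
    · intro h4
      have h5 : x ^ 4 = 1 := by
        have h6 := CfsgLib.ExtraH28.pow_mem_center hE x
        have h7 : orderOf (⟨_, h6⟩ : Subgroup.center E) ∣ 2 := by
          have h8 := orderOf_dvd_natCard (⟨_, h6⟩ : Subgroup.center E)
          rwa [hE.2] at h8
        rw [Subgroup.orderOf_mk] at h7
        have h9 := orderOf_dvd_iff_pow_eq_one.mp h7
        rw [← pow_mul] at h9
        exact h9
      have h6 : orderOf x ∣ 2 ^ 2 := orderOf_dvd_of_pow_eq_one h5
      obtain ⟨k, hk, hk'⟩ := (Nat.dvd_prime_pow Nat.prime_two).mp h6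
      rw [hk']
      interval_cases k
      · exfalso
        rw [pow_zero, orderOf_eq_one_iff] at hk'
        exact h4 (by rw [hk', one_pow])
      · exfalso
        rw [pow_one] at hk'
        exact h4 (by rw [← hk']; exact pow_orderOf_eq_one x)
      · norm_num
  have h4 : Nat.card {x : E // orderOf x = 4} + Nat.card {x : E // x ^ 2 = 1} = Nat.card E := by
    classical
    letI := Fintype.ofFinite E
    have h5 : Nat.card {x : E // orderOf x = 4} = Nat.card {x : E // ¬ x ^ 2 = 1} :=
      Nat.card_congr (Equiv.subtypeEquivRight h3)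
    rw [h5, Nat.card_eq_fintype_card, Nat.card_eq_fintype_card, Nat.card_eq_fintype_card,
      Fintype.card_subtype_compl]
    have := Fintype.card_subtype_le (fun x : E => x ^ 2 = 1)
    omega
  rw [h2, hcard, pow_succ] at h4
  have hle : 2 ^ m' ≤ 2 ^ (2 * m') := Nat.pow_le_pow_right (by norm_num) (by omega)
  omega

end Cfsg.Agent.S2880
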