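import Cfsg.Statements.S2881
import Cfsg.Agent.S2880

set_option autoImplicit false
open Cfsg

namespace Cfsg.Agent.S2881




/-- Let E be an extraspecial 2-group of order 2^(2m+1) of plus type (containing an elementary abelian subgroup of order 2^(m+1)), and let ω be an automorphism of E of order 5 whose fixed points are exactly the centre of E. Then m is divisible by 4. -/
theorem result {E : Type*} [Group E] [Finite E] (m : ℕ) (hm : 1 ≤ m) (hE : Cfsg.IsExtraspecial 2 E) (hcard : Nat.card E = 2 ^ (2 * m + 1)) (hplus : ∃ A : Subgroup E, Cfsg.IsElementaryAbelian 2 A ∧ Nat.card A = 2 ^ (m + 1)) (ω : E ≃* E) (hω : orderOf ω = 5) (hfix : ∀ x : E, ω x = x ↔ x ∈ Subgroup.center E) : 4 ∣ m := by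
  classical
  have hcount := Cfsg.Agent.S2880.result m hm hE hcard hplus
  haveI : Fact (Nat.Prime 5) := ⟨by norm_num⟩
  -- `ω` acts on the elements of order four
  let W : Subgroup (MulAut E) := Subgroup.zpowers (ω : MulAut E)
  have hWcard : Nat.card ↥W = 5 := by
    rw [Nat.card_zpowers]; exact hω
  have hWp : IsPGroup 5 ↥W := IsPGroup.of_card (n := 1) (by rw [hWcard, pow_one])
  letI : MulAction ↥W {x : E // orderOf x = 4} :=
    { smul := fun f x => ⟨(f : MulAut E) x.1, by
        have := orderOf_injective ((f : MulAut E) : E ≃* E).toMonoidHom ((f : MulAut E) : E ≃* E).injective x.1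
        exact this.trans x.2⟩
      one_smul := fun x => Subtype.ext rfl
      mul_smul := fun f g x => Subtype.ext rfl }
  have hsm : ∀ (f : ↥W) (x : {x : E // orderOf x = 4}), ((f • x : {x : E // orderOf x = 4}) : E) = (f : MulAut E) x.1 :=
    fun f x => rfl
  have h1 := hWp.card_modEq_card_fixedPoints {x : E // orderOf x = 4}
  have h2 : Nat.card ↥(MulAction.fixedPoints ↥W {x : E // orderOf x = 4}) = 0 := by
    rw [Nat.card_eq_zero]
    left
    constructor
    rintro ⟨⟨x, hx⟩, hfix'⟩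
    have h3 := congrArg Subtype.val (hfix' ⟨ω, Subgroup.mem_zpowers _⟩)
    rw [hsm] at h3
    have h4 : x ∈ Subgroup.center E := (hfix x).1 h3
    have h5 : (⟨x, h4⟩ : ↥(Subgroup.center E)) ^ Nat.card ↥(Subgroup.center E) = 1 := pow_card_eq_one'
    rw [hE.2] at h5
    have h6 : x ^ 2 = 1 := congrArg Subtype.val h5
    have h7 := orderOf_dvd_of_pow_eq_one h6
    rw [hx] at h7
    exact absurd h7 (by norm_num)
  rw [h2, hcount] at h1
  have h3 : 5 ∣ 2 ^ (2 * m) - 2 ^ m := (Nat.modEq_zero_iff_dvd).1 h1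
  have h4 : 2 ^ (2 * m) - 2 ^ m = 2 ^ m * (2 ^ m - 1) := by
    rw [Nat.mul_sub, mul_one, two_mul, pow_add]
  rw [h4] at h3
  have h5 : 5 ∣ 2 ^ m - 1 := by
    rcases (Nat.Prime.dvd_mul (by norm_num : Nat.Prime 5)).1 h3 with h | h
    · have := (by norm_num : Nat.Prime 5).dvd_of_dvd_pow h
      exact absurd this (by norm_num)
    · exact h
  have h6 : 2 ^ m % 5 = 1 := by
    have : 1 ≤ 2 ^ m := Nat.one_le_two_pow
    omega
  obtain ⟨q, s, hs, rfl⟩ : ∃ q s, s < 4 ∧ m = 4 * q + s := ⟨m / 4, m % 4, Nat.mod_lt _ (by norm_num), by omega⟩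
  have h7 : 2 ^ (4 * q + s) % 5 = 2 ^ s % 5 := by
    rw [pow_add, pow_mul, Nat.mul_mod, Nat.pow_mod]
    norm_num
  rw [h7] at h6
  interval_cases s
  · exact ⟨q, by ring⟩
  · norm_num at h6
  · norm_num at h6
  · norm_num at h6

end Cfsg.Agent.S2881
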