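import Cfsg.Statements.S2882
import Cfsg.Agent.LibM24d
import Cfsg.Agent.LibSylAlt2
import Cfsg.Agent.LibLEP3

set_option autoImplicit false
open Cfsg

namespace Cfsg.Agent.S2882

open Cfsg CfsgLib.Golay CfsgLib.M24 Subgroup
open scoped Pointwise

theorem fixE_all (g : Equiv.Perm GolayPt) (hg : g ∈ fixL [23, 0, 1, 2, 3, 5]) (p : GolayPt) (hp : p ∈ fset 8536111) :
    g p = p := by
  obtain ⟨Q, hQ, rfl⟩ := fixL6_eq hg
  have hQ2 := isM24_of_mem_trans6 Q hQ
  apply idx_injective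
  rw [idx_mkPerm (valid_of_isM24 hQ2.1)]
  rw [mem_fset] at hp
  have hall : ((trans.getD 6 []).all fun Q => (List.range 24).all fun i => or (not (Nat.testBit 8536111 i)) (Nat.beq (Q.getD i 0) i)) = true := by
    decide +kernel
  rw [List.all_eq_true] at hall
  have h1 := hall Q hQ
  rw [List.all_eq_true] at h1
  have h2 := h1 (idx p) (List.mem_range.2 (idx_lt p))
  rw [hp, Bool.not_true, Bool.false_or] at h2
  exact beq_iff.1 h2

abbrev oo : Finset GolayPt := fset 8536111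

abbrev HH : Subgroup ↥M24 := MulAction.stabilizer ↥M24 oo

theorem mem_HH {g : ↥M24} : g ∈ HH ↔ (g : Equiv.Perm GolayPt) • oo = oo := Iff.rfl

theorem mem_oo {g : ↥M24} (hg : g ∈ HH) (p : GolayPt) : p ∈ oo ↔ (g : Equiv.Perm GolayPt) p ∈ oo :=
  (mem_of_smul_eq (mem_HH.1 hg) p).symm

/-- action on the octad -/
noncomputable def ff : ↥HH →* Equiv.Perm ↥oo where
  toFun g := ((g : ↥M24) : Equiv.Perm GolayPt).subtypePerm (fun p => (mem_oo g.2 p).symm)
  map_one' := by ext x; rfl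
  map_mul' a b := by ext x; rfl

theorem ff_apply (g : ↥HH) (x : ↥oo) : ((ff g x : ↥oo) : GolayPt) = ((g : ↥M24) : Equiv.Perm GolayPt) x := rfl

theorem ker_ff (g : ↥HH) : g ∈ ff.ker ↔ ((g : ↥M24) : Equiv.Perm GolayPt) ∈ fixL [23, 0, 1, 2, 3, 5] := by
  constructor
  · intro h
    refine ⟨(g : ↥M24).2, fun i hi => ?_⟩
    have h1 : pt i ∈ oo := by
      revert i; decide +kernel
    have h2 := congrArg (fun f : Equiv.Perm ↥oo => ((f ⟨pt i, h1⟩ : ↥oo) : GolayPt)) (MonoidHom.mem_ker.1 h)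
    exact h2
  · intro h
    rw [MonoidHom.mem_ker]
    apply Equiv.ext
    intro x
    apply Subtype.ext
    rw [ff_apply]
    exact fixE_all _ h x x.2

theorem card_ker_ff : Nat.card ↥ff.ker = 16 := by
  rw [← card6]
  refine Nat.card_congr ⟨fun g => ⟨(((g : ↥HH) : ↥M24) : Equiv.Perm GolayPt), (ker_ff _).1 g.2⟩,
    fun g => ⟨⟨⟨(g : Equiv.Perm GolayPt), g.2.1⟩, ?_⟩, ?_⟩, fun g => rfl, fun g => rfl⟩
  · exact smul_base_octad (l := [5]) g.2
  · exact (ker_ff _).2 g.2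

theorem card_oo : Fintype.card ↥oo = 8 := by
  rw [Fintype.card_coe, card_fset]; decide +kernel

theorem range_ff : ff.range = alternatingGroup ↥oo := by
  have h1 := ff.ker.card_mul_index
  rw [card_ker_ff, Subgroup.index_ker, card_stab_octad base_octad] at h1
  have h2 : Nat.card ↥ff.range = 20160 := by omega
  apply Equiv.Perm.eq_alternatingGroup_of_index_eq_two
  have h3 := ff.range.card_mul_index
  rw [h2, Nat.card_perm, Nat.card_eq_fintype_card, card_oo] at h3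
  have h4 : Nat.factorial 8 = 40320 := by decide
  rw [h4] at h3
  omega

noncomputable def fA : ↥HH →* ↥(alternatingGroup ↥oo) :=
  ff.codRestrict _ (fun g => by rw [← range_ff]; exact ⟨g, rfl⟩)

theorem fA_apply (g : ↥HH) : ((fA g : ↥(alternatingGroup ↥oo)) : Equiv.Perm ↥oo) = ff g := rfl

theorem fA_surj : Function.Surjective fA := by
  rintro ⟨σ, hσ⟩
  rw [← range_ff] at hσ
  obtain ⟨g, hg⟩ := hσ
  exact ⟨g, Subtype.ext hg⟩

theorem main_aux (S : Sylow 2 ↥M24) (hS : (S : Subgroup ↥M24) ≤ HH) :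
    Subgroup.normalizer ((S : Subgroup ↥M24) : Set ↥M24) = (S : Subgroup ↥M24) := by
  classical
  haveI : Fact (Nat.Prime 2) := ⟨Nat.prime_two⟩
  -- the kernel lies in `S`
  let S' : Sylow 2 ↥HH := S.subtype hS
  have hker2 : IsPGroup 2 ↥ff.ker := IsPGroup.of_card (n := 4) (by rw [card_ker_ff]; norm_num)
  have hkS : ff.ker ≤ (S' : Subgroup ↥HH) :=
    (CfsgLib.LE.le_pCore inferInstance hker2).trans (CfsgLib.LE.pCore_le_sylow S')
  have hmemS' : ∀ g : ↥HH, g ∈ (S' : Subgroup ↥HH) ↔ (g : ↥M24) ∈ (S : Subgroup ↥M24) := fun g => Iff.rfl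
  apply CfsgLib.SylAlt2.normalizer_eq
  intro g hodd hg
  have hconj : ∀ s ∈ (S : Subgroup ↥M24), g * s * g⁻¹ ∈ (S : Subgroup ↥M24) := fun s hs =>
    (Subgroup.mem_normalizer_iff.1 hg s).1 hs
  have hconj' : ∀ s ∈ (S : Subgroup ↥M24), g⁻¹ * s * g ∈ (S : Subgroup ↥M24) := fun s hs => by
    have := (Subgroup.mem_normalizer_iff.1 (Subgroup.inv_mem _ hg) s).1 hs
    rwa [inv_inv] at this
  -- `g` stabilizes the octad
  have hgH : g ∈ HH := by
    rw [mem_HH]
    set o' : Finset GolayPt := (g : Equiv.Perm GolayPt) • oo with ho'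
    by_contra hne
    have hcard' : o'.card = oo.card := by rw [ho', Finset.card_smul_finset]
    obtain ⟨p, hp, hpo⟩ : ∃ p ∈ o', p ∉ oo := by
      by_contra hcon
      push Not at hcon
      apply hne
      exact Finset.eq_of_subset_of_card_le hcon (by rw [hcard'])
    have hinv : ∀ e : Equiv.Perm GolayPt, e ∈ fixL [23, 0, 1, 2, 3, 5] → e • o' = o' := by
      intro e he
      have heH : (⟨e, he.1⟩ : ↥M24) ∈ HH := smul_base_octad (l := [5]) he
      have heS : (⟨e, he.1⟩ : ↥M24) ∈ (S : Subgroup ↥M24) := by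
        have h1 : (⟨⟨e, he.1⟩, heH⟩ : ↥HH) ∈ ff.ker := (ker_ff _).2 he
        exact (hmemS' _).1 (hkS h1)
      have h2 := hS (hconj' _ heS)
      have h3 : ((g⁻¹ * ⟨e, he.1⟩ * g : ↥M24) : Equiv.Perm GolayPt) • oo = oo := h2
      rw [ho', smul_smul]
      have h4 : e * (g : Equiv.Perm GolayPt) = (g : Equiv.Perm GolayPt) * ((g⁻¹ * ⟨e, he.1⟩ * g : ↥M24) : Equiv.Perm GolayPt) := by
        push_cast
        group
      rw [h4, ← smul_smul, h3]
    have hcompl : ∀ q : GolayPt, q ∉ oo → q ∈ fset 8241104 := by decide +kernel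
    have hsub : fset 8241104 ⊆ o' := by
      intro q hq
      obtain ⟨e₁, he₁, h1⟩ := lev6 p (hcompl p hpo)
      obtain ⟨e₂, he₂, h2⟩ := lev6 q hq
      have h3 := hinv _ (Subgroup.mul_mem _ he₂ (Subgroup.inv_mem _ he₁))
      rw [← h3, Finset.mem_smul_finset]
      refine ⟨p, hp, ?_⟩
      have h5 : e₁⁻¹ (e₁ (pt 4)) = pt 4 := e₁.symm_apply_apply _
      rw [Equiv.Perm.smul_def, Equiv.Perm.mul_apply, ← h1, h5, h2]
    have h4 := Finset.card_le_card hsub
    rw [hcard', card_fset, card_fset] at h4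
    exact absurd h4 (by decide +kernel)
  -- image in the alternating group
  let T : Sylow 2 ↥(alternatingGroup ↥oo) := S'.mapSurjective fA_surj
  have hT : ∀ t, t ∈ T ↔ ∃ s ∈ (S' : Subgroup ↥HH), fA s = t := fun t => Iff.rfl
  have hodd' : Odd (orderOf (ff ⟨g, hgH⟩)) := by
    have h1 : orderOf (ff ⟨g, hgH⟩) ∣ orderOf (⟨g, hgH⟩ : ↥HH) := orderOf_map_dvd _ _
    rw [← Subgroup.orderOf_coe] at h1
    exact hodd.of_dvd_nat h1
  have h1 := CfsgLib.SylAlt2.alt_aux ↥oo (by rw [card_oo]; norm_num) T (ff ⟨g, hgH⟩) hodd' (by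
    intro h
    rw [hT, hT]
    constructor
    · rintro ⟨s, hs, hsh⟩
      refine ⟨⟨g, hgH⟩⁻¹ * s * ⟨g, hgH⟩, hconj' _ hs, ?_⟩
      apply Subtype.ext
      rw [fA_apply, map_mul, map_mul, map_inv]
      have h2 := congrArg Subtype.val hsh
      rw [fA_apply] at h2
      rw [h2]
      simp only
      group
    · rintro ⟨s, hs, hsh⟩
      refine ⟨⟨g, hgH⟩ * s * ⟨g, hgH⟩⁻¹, hconj _ hs, ?_⟩
      apply Subtype.ext
      rw [fA_apply, map_mul, map_mul, map_inv]
      have h2 := congrArg Subtype.val hsh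
      rw [fA_apply] at h2
      rw [h2])
  have h2 : (⟨g, hgH⟩ : ↥HH) ∈ ff.ker := h1
  obtain ⟨k, hk⟩ := hker2 ⟨_, h2⟩
  have h3 : g ^ 2 ^ k = 1 := by
    have := congrArg (fun x : ↥ff.ker => ((x : ↥HH) : ↥M24)) hk
    simpa using this
  have h4 := orderOf_dvd_of_pow_eq_one h3
  have h5 : (orderOf g).Coprime (2 ^ k) := Nat.Coprime.pow_right _ (Nat.coprime_two_right.2 hodd)
  exact orderOf_eq_one_iff.1 (Nat.eq_one_of_dvd_coprimes h5 dvd_rfl h4)


/-- In the Mathieu group of degree 24 (realised as the automorphism group of the extended binary Golay code) every Sylow 2-subgroup is self-normalizing. -/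
theorem result (S : Sylow 2 ↥Cfsg.M24) : Subgroup.normalizer ((S : Subgroup ↥Cfsg.M24) : Set ↥Cfsg.M24) = (S : Subgroup ↥Cfsg.M24) := by
  classical
  haveI : Fact (Nat.Prime 2) := ⟨Nat.prime_two⟩
  -- some conjugate of `S` lies in `HH`
  obtain ⟨P, hP⟩ := CfsgLib.LE.exists_isSyl 2 HH
  obtain ⟨S₁, hS₁⟩ := hP.isPGroup.exists_le_sylow
  have hidx : ¬ 2 ∣ (HH : Subgroup ↥Cfsg.M24).index := by
    have h1 := (HH : Subgroup ↥Cfsg.M24).card_mul_index
    rw [CfsgLib.M24.card_stab_octad CfsgLib.M24.base_octad, CfsgLib.M24.card_M24] at h1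
    have : (HH : Subgroup ↥Cfsg.M24).index = 759 := by omega
    rw [this]; norm_num
  have hPS : P = (S₁ : Subgroup ↥Cfsg.M24) := by
    apply Subgroup.eq_of_le_of_card_ge hS₁
    have h1 := hP.not_dvd_relIndex
    have h2 : ¬ 2 ∣ P.index := by
      rw [← Subgroup.relIndex_mul_index hP.le]
      intro h
      rcases (Nat.Prime.dvd_mul Nat.prime_two).1 h with h3 | h3
      · exact h1 h3
      · exact hidx h3
    have h3 := CfsgLib.LE.isSyl_of_not_dvd (N := ⊤) le_top hP.isPGroup (by rwa [Subgroup.relIndex_top_right])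
    exact h3.card_le le_top S₁.2
  have hS₁H : (S₁ : Subgroup ↥Cfsg.M24) ≤ HH := by rw [← hPS]; exact hP.le
  have h1 := main_aux S₁ hS₁H
  obtain ⟨g, hg⟩ := MulAction.exists_smul_eq ↥Cfsg.M24 S₁ S
  have h2 : (S : Subgroup ↥Cfsg.M24) = (S₁ : Subgroup ↥Cfsg.M24).map (MulAut.conj g).toMonoidHom := by rw [← hg]; rfl
  rw [h2, CfsgLib.LE.normalizer_map_conj, h1]

end Cfsg.Agent.S2882
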