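import Cfsg.Statements.S2912
import Cfsg.Agent.LibLEXr2
import Cfsg.Agent.LibLE8

set_option autoImplicit false
open Cfsg

namespace Cfsg.Agent.S2912




/-- Let p and r be distinct primes, let E be an extraspecial subgroup of order p^(2w+1) of a finite group, and let A be an elementary abelian r-subgroup normalized by E on which E acts faithfully (C_E(A) = 1). If n ≥ 1 is least with p dividing rⁿ − 1 (the smallest dimension of a faithful representation of a group of order p over the field with r elements), then the order of A is at least r^(n·p^w). -/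
theorem result {G : Type*} [Group G] [Finite G] {p r : ℕ} [Fact p.Prime] [hr : Fact r.Prime] (hpr : p ≠ r) (E A : Subgroup G) (w : ℕ) (hE : Cfsg.IsExtraspecial p ↥E) (hEcard : Nat.card ↥E = p ^ (2 * w + 1)) (hA : Cfsg.IsElementaryAbelian r A) (hnorm : E ≤ Subgroup.normalizer (A : Set G)) (hfaith : E ⊓ Subgroup.centralizer (A : Set G) = ⊥) (n : ℕ) (hn : 1 ≤ n) (hdiv : p ∣ r ^ n - 1) (hmin : ∀ k : ℕ, 1 ≤ k → p ∣ r ^ k - 1 → n ≤ k) : r ^ (n * p ^ w) ≤ Nat.card ↥A := by
  have hAc := CfsgLib.LE.isElementaryAbelian_iff.1 hA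
  letI : CommGroup ↥A := { (inferInstance : Group ↥A) with
    mul_comm := fun x y => Subtype.ext (hAc.1 x x.2 y y.2) }
  have hAr : IsPGroup r ↥A := CfsgLib.LE.isPGroup_of_elementaryAbelian hA
  obtain ⟨a, ha⟩ := IsPGroup.iff_card.1 hAr
  obtain ⟨φ, hφ⟩ := CfsgLib.ExtH13.exists_GL_hom (A := ↥A) r a (fun x => Subtype.ext (by
    have := hAc.2 x x.2
    simpa using this)) ha
  let ρ : ↥E →* MulAut ↥A := (Subgroup.normalizerMonoidHom A).comp (Subgroup.inclusion hnorm)
  have hρ : Function.Injective ρ := by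
    rw [injective_iff_map_eq_one]
    intro x hx
    have h1 : (x : G) ∈ E ⊓ Subgroup.centralizer (A : Set G) := by
      refine Subgroup.mem_inf.2 ⟨x.2, ?_⟩
      rw [Subgroup.mem_centralizer_iff]
      intro y hy
      have h2 := congrArg (fun f => ((f ⟨y, hy⟩ : ↥A) : G)) hx
      have h3 : (x : G) * y * (x : G)⁻¹ = y := h2
      calc y * (x : G) = ((x : G) * y * (x : G)⁻¹) * x := by rw [h3]
        _ = x * y := by group
    rw [hfaith, Subgroup.mem_bot] at h1
    exact Subtype.ext h1
  have hb := CfsgLib.LEXr.main_bound hpr hE w hEcard a (φ.comp ρ) (hφ.comp hρ) n hmin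
  rw [ha]
  exact Nat.pow_le_pow_right hr.out.pos hb

end Cfsg.Agent.S2912
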