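import Cfsg.Statements.S2959
import Mathlib
import Cfsg.Agent.LibLE11Basic

set_option autoImplicit false
set_option linter.all false
open Cfsg

namespace Cfsg.Agent.S2959

open CfsgLib.LE11Basic in
theorem aux {G : Type*} [Group G] [Finite G] {p : ℕ} [Fact p.Prime] (hG : Subgroup.centralizer (Cfsg.pCore p G : Set G) ≤ Cfsg.pCore p G) (L : Subgroup G) (hL : Cfsg.pCore p G ≤ Subgroup.normalizer (L : Set G)) : Subgroup.centralizer (Cfsg.pCore p ↥L : Set ↥L) ≤ Cfsg.pCore p ↥L := by
  rw [centralizer_pCore_iff]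
  haveI := pCore_normal p G
  set Q := Cfsg.pCore p G with hQ
  set W := (Cfsg.pCore p ↥L).map L.subtype with hW
  have hWL : W ≤ L := map_pCore_le L
  have hLW : L ≤ Subgroup.normalizer (W : Set G) := le_normalizer_map_pCore L
  have hQL : Q ⊓ L ≤ W := by
    apply le_map_pCore L _ inf_le_right
    · intro l hl
      rw [Subgroup.mem_normalizer_iff]
      intro x
      constructor
      · rintro ⟨h1, h2⟩
        exact ⟨(pCore_normal p G).conj_mem _ h1 l, L.mul_mem (L.mul_mem hl h2) (L.inv_mem hl)⟩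
      · rintro ⟨h1, h2⟩
        have a1 := (pCore_normal p G).conj_mem _ h1 l⁻¹
        have a2 := L.mul_mem (L.mul_mem (L.inv_mem hl) h2) hl
        have e : l⁻¹ * (l * x * l⁻¹) * l = x := by group
        have e' : l⁻¹ * (l * x * l⁻¹) * l⁻¹⁻¹ = x := by group
        rw [e'] at a1; rw [e] at a2
        exact ⟨a1, a2⟩
    · exact (isPGroup_pCore p G).to_le inf_le_left
  apply le_map_pCore L _ inf_le_left
  · intro l hl
    have hlW := hLW hl
    rw [Subgroup.mem_normalizer_iff]
    intro x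
    have key : ∀ m ∈ L, ∀ y ∈ L ⊓ Subgroup.centralizer (W : Set G), m * y * m⁻¹ ∈ L ⊓ Subgroup.centralizer (W : Set G) := by
      intro m hm y hy
      obtain ⟨hy1, hy2⟩ := Subgroup.mem_inf.mp hy
      refine Subgroup.mem_inf.mpr ⟨L.mul_mem (L.mul_mem hm hy1) (L.inv_mem hm), ?_⟩
      rw [Subgroup.mem_centralizer_iff] at hy2 ⊢
      intro w hw
      have h3 : m⁻¹ * w * m ∈ W := by
        have := (Subgroup.mem_normalizer_iff.mp (hLW (L.inv_mem hm)) w).mp hw
        simpa using this
      have h4 := hy2 _ h3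
      calc w * (m * y * m⁻¹) = m * ((m⁻¹ * w * m) * y) * m⁻¹ := by group
        _ = m * (y * (m⁻¹ * w * m)) * m⁻¹ := by rw [h4]
        _ = m * y * m⁻¹ * w := by group
    constructor
    · exact key l hl x
    · intro hx
      have := key l⁻¹ (L.inv_mem hl) _ hx
      have e' : l⁻¹ * (l * x * l⁻¹) * l⁻¹⁻¹ = x := by group
      rwa [e'] at this
  · rintro ⟨c, hc⟩
    obtain ⟨hcL, hcW⟩ := Subgroup.mem_inf.mp hc
    have hcomm : ∀ w ∈ W, c * w = w * c := fun w hw => (Subgroup.mem_centralizer_iff.mp hcW w hw).symm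
    obtain ⟨m, hm⟩ := exists_pow_eq_one c W (isPGroup_map_pCore L) hcomm (Q : Set G) (by
      intro x hx
      apply hQL
      have hx' : x ∈ Q := hx
      refine Subgroup.mem_inf.mpr ⟨Q.mul_mem ((pCore_normal p G).conj_mem _ hx' c) (Q.inv_mem hx'), ?_⟩
      have h5 := (Subgroup.mem_normalizer_iff.mp (hL hx') c⁻¹).mp (L.inv_mem hcL)
      have e : c * x * c⁻¹ * x⁻¹ = c * (x * c⁻¹ * x⁻¹) := by group
      rw [e]
      exact L.mul_mem hcL h5) Q (isPGroup_pCore p G) hG
    exact ⟨m, Subtype.ext hm⟩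

/-- Let G be a finite group of characteristic p, that is C_G(O_p(G)) ≤ O_p(G), with p prime, and let L be a subgroup of G normalized by O_p(G). Then L has characteristic p: C_L(O_p(L)) ≤ O_p(L). -/
theorem result {G : Type*} [Group G] [Finite G] {p : ℕ} [Fact p.Prime] (hG : Subgroup.centralizer (Cfsg.pCore p G : Set G) ≤ Cfsg.pCore p G) (L : Subgroup G) (hL : Cfsg.pCore p G ≤ Subgroup.normalizer (L : Set G)) : Subgroup.centralizer (Cfsg.pCore p ↥L : Set ↥L) ≤ Cfsg.pCore p ↥L := by
  exact aux hG L hL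

end Cfsg.Agent.S2959
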