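import Cfsg.Statements.S2943
import Cfsg.Agent.LibH2JC7

set_option autoImplicit false
open Cfsg

namespace Cfsg.Agent.S2943

open Subgroup Cfsg CfsgLib.H2JC CfsgLib.H2Thomp CfsgLib.Coprime
open scoped Pointwise commutatorElement


/-- Let G be a finite group of characteristic 2 type in which every 2-local subgroup is solvable and the centralizer of Ω₁(Z(S)) lies in N_G(S) for every Sylow 2-subgroup S, and let T be a nontrivial 2-subgroup (below, J is the Thompson subgroup generated by the elementary abelian 2-subgroups of largest order), L a subgroup in which T is a Sylow 2-subgroup with J(T) not contained in O₂(L) and C_G(O₂(L)) ≤ O₂(L), and K a J(T)-component contained in L. If Z(T) meets W_K = [Ω₁(Z(O₂(K))), K] nontrivially, then T normalizes K. -/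
theorem result {G : Type*} [Group G] [Finite G] (hL : Cfsg.IsCharacteristicTwoType G) (hN : ∀ N : Subgroup G, Cfsg.IsTwoLocal N → Group.IsSolvable ↥N)
    (hZ : ∀ S : Sylow 2 G, Subgroup.centralizer (Cfsg.omegaCenterOf (S : Subgroup G) : Set G) ≤ Subgroup.normalizer ((S : Subgroup G) : Set G)) (T : Subgroup G) (hT : IsPGroup 2 ↥T) (hT1 : T ≠ ⊥) (L : Subgroup G) (hLT : L ∈ Cfsg.jOvergroups T)
    (K : Subgroup G) (hK : Cfsg.IsJComponent T K) (hKL : K ≤ L)
    (hZW : T ⊓ Subgroup.centralizer (T : Set G) ⊓ Cfsg.wOf K ≠ ⊥) : T ≤ Subgroup.normalizer (K : Set G) := by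
  have hyp : Hyp G := ⟨hL, hN, hZ⟩
  have B := bs hyp hT1 (sylowTwo_iff.mp hLT.1) hLT.2.2
  obtain ⟨I, t, A, D⟩ := B.ls
  have c := cp_of hT hK
  obtain ⟨i, hi, -⟩ := comp_in B D c hKL
  have hW := wOf_eq hK hi (D.cV i)
  obtain ⟨z, hz1⟩ := ne_bot_iff_exists_ne_one.mp hZW
  intro g hg
  have hzz := z.2
  have h1 : g * (z : G) * g⁻¹ = z := by
    rw [mem_centralizer_iff.mp hzz.1.2 g hg, mul_inv_cancel_right]
  have hz' : (z : G) ∈ ⁅Vo L, A i⁆ := by rw [← hW]; exact hzz.2
  have h2 := D.norm_A B (B.syl.le hg) hz' (by rw [h1]; exact hz') (fun h => hz1 (Subtype.ext h))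
  rw [← hi.AK] at h2
  exact c.norm_of hi.CK B.CJ h2 (normalizer_le_Je 2 T (le_normalizer hg))

end Cfsg.Agent.S2943
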