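import Cfsg.Statements.S2946
import Cfsg.Agent.LibH2JC11

set_option autoImplicit false
open Cfsg

namespace Cfsg.Agent.S2946

open Subgroup Cfsg CfsgLib.H2JC CfsgLib.H2Thomp CfsgLib.Coprime
open scoped Pointwise commutatorElement


/-- Let G be a finite group of characteristic 2 type in which every 2-local subgroup is solvable and the centralizer of Ω₁(Z(S)) lies in N_G(S) for every Sylow 2-subgroup S, and let T be a nontrivial 2-subgroup (below, J is the Thompson subgroup generated by the elementary abelian 2-subgroups of largest order), K a J(T)-component and Z₀ = Ω₁(Z(J(T))). Then Z₀ meets W_K = [Ω₁(Z(O₂(K))), K] in a subgroup of order 2, and Z₀ is the product of Z₀ ∩ Z(⟨K, J(T)⟩) and Z₀ ∩ W_K. -/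
theorem result {G : Type*} [Group G] [Finite G] (hL : Cfsg.IsCharacteristicTwoType G) (hN : ∀ N : Subgroup G, Cfsg.IsTwoLocal N → Group.IsSolvable ↥N)
    (hZ : ∀ S : Sylow 2 G, Subgroup.centralizer (Cfsg.omegaCenterOf (S : Subgroup G) : Set G) ≤ Subgroup.normalizer ((S : Subgroup G) : Set G)) (T : Subgroup G) (hT : IsPGroup 2 ↥T) (hT1 : T ≠ ⊥) (K : Subgroup G) (hK : Cfsg.IsJComponent T K)
    (Z₀ : Subgroup G) (hZ₀ : Z₀ = Cfsg.omegaCenterOf (Cfsg.thompsonSubgroupOf 2 T)) :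
    Nat.card ↥(Z₀ ⊓ Cfsg.wOf K) = 2 ∧
      (Z₀ ⊓ ((K ⊔ Cfsg.thompsonSubgroupOf 2 T) ⊓ Subgroup.centralizer ((K ⊔ Cfsg.thompsonSubgroupOf 2 T) : Set G))) ⊔ (Z₀ ⊓ Cfsg.wOf K) = Z₀ := by
  obtain ⟨S, E, hS, hJS⟩ := ks hT hK
  subst hZ₀
  rw [thompsonSubgroupOf_eq]
  have hSJ : S ≤ normalizer (Je 2 T : Set G) := by
    have h1 := (le_normalizer (H := S)).trans (normalizer_le_Je 2 S)
    rwa [E.JS] at h1
  have hZW : omegaCenterOf (Je 2 T) ⊓ wOf K = wOf K ⊓ centralizer (Je 2 T : Set G) := by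
    ext w
    constructor
    · rintro ⟨h1, h2⟩
      exact ⟨h2, (mem_omegaCenterOf.mp h1).2.1⟩
    · rintro ⟨h1, h2⟩
      exact ⟨mem_omegaCenterOf.mpr ⟨E.WJ h1, h2, E.D.el.2 w h1⟩, h1⟩
  refine ⟨?_, ?_⟩
  · rw [hZW]; exact E.card_two
  · apply le_antisymm (sup_le inf_le_left inf_le_left)
    intro z hz
    obtain ⟨a, ha, b, hb, rfl⟩ := E.decompZ hSJ hz
    have hle : ((K : Set G) ⊔ (Je 2 T : Set G)) ⊆ ((K ⊔ Je 2 T : Subgroup G) : Set G) := by
      rintro x (hx | hx)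
      · exact (le_sup_left : K ≤ K ⊔ Je 2 T) hx
      · exact (le_sup_right : Je 2 T ≤ K ⊔ Je 2 T) hx
    exact mul_mem (mem_sup_left ⟨ha.1, ha.2.1, centralizer_le hle ha.2.2⟩) (mem_sup_right hb)

end Cfsg.Agent.S2946
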