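import Cfsg.Statements.S2968
import Mathlib
import Cfsg.Agent.LibLE11Iso

set_option autoImplicit false
set_option linter.all false
open Cfsg

namespace Cfsg.Agent.S2968

open CfsgLib.LE11Iso

/-- Let G be a finite group, p a prime, P a Sylow p-subgroup of G and x ∈ P an element of p-power order which is isolated in G (the only conjugate of x commuting with x is x itself). Then x lies in the centre of P, and the subgroup generated by x is both strongly closed and weakly closed in P with respect to G. -/
theorem result {G : Type*} [Group G] [Finite G] {p : ℕ} [Fact p.Prime] (P : Sylow p G) (x : G) (hxP : x ∈ (P : Subgroup G)) (hx : ∃ k : ℕ, orderOf x = p ^ k) (hiso : Cfsg.IsIsolated x) : x ∈ (P : Subgroup G) ⊓ Subgroup.centralizer ((P : Subgroup G) : Set G) ∧ Cfsg.IsStronglyClosed (Subgroup.zpowers x) (P : Subgroup G) ∧ Cfsg.IsWeaklyClosed (Subgroup.zpowers x) (P : Subgroup G) := by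
  haveI : Group.IsNilpotent (P : Subgroup G) := P.isPGroup'.isNilpotent
  have hc := iso_central hiso (P : Subgroup G) hxP
  have hsc : Cfsg.IsStronglyClosed (Subgroup.zpowers x) (P : Subgroup G) := by
    refine ⟨by rwa [Subgroup.zpowers_le], fun y hy g hg => ?_⟩
    rw [iso_zpow hx hiso P.isPGroup' hxP hy hg]; exact hy
  refine ⟨⟨hxP, ?_⟩, hsc, hsc.1, fun g hg => ?_⟩
  · show x ∈ Subgroup.centralizer ((P : Subgroup G) : Set G)
    rw [Subgroup.mem_centralizer_iff]
    intro y hy
    have := hc hy
    rw [Subgroup.mem_centralizer_singleton_iff] at this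
    exact this
  · ext y
    constructor
    · rintro ⟨z, hz, rfl⟩
      exact hsc.2 z hz g (hg ⟨z, hz, rfl⟩)
    · intro hy
      have h1 := iso_zpow hx hiso P.isPGroup' hxP (g := g) hy
      refine ⟨y, hy, ?_⟩
      exact h1 (hg ⟨y, hy, rfl⟩)

end Cfsg.Agent.S2968
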