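import Cfsg.Statements.S2970
import Mathlib
import Cfsg.Agent.LibLE11Iso

set_option autoImplicit false
set_option linter.all false
open Cfsg

namespace Cfsg.Agent.S2970

open CfsgLib.LE11Iso

theorem burnside_cyclic {G : Type*} [Group G] [Finite G] {p : ℕ} [Fact p.Prime] (x : G) (hx1 : x ≠ 1) (P : Sylow p G) (hxP : x ∈ (P : Subgroup G))
    (hcyc : IsCyclic ↥(P : Subgroup G)) (hn : Subgroup.normalizer ((P : Subgroup G) : Set G) ≤ Subgroup.centralizer ({x} : Set G)) :
    Subgroup.normalizer ((P : Subgroup G) : Set G) ≤ Subgroup.centralizer ((P : Subgroup G) : Set G) := by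
  obtain ⟨⟨u, hu⟩, hgen⟩ := hcyc.exists_generator
  have hgen' : ∀ y ∈ (P : Subgroup G), ∃ k : ℕ, u ^ k = y := by
    intro y hy
    have := hgen ⟨y, hy⟩
    rw [← mem_powers_iff_mem_zpowers, Submonoid.mem_powers_iff] at this
    obtain ⟨k, hk⟩ := this
    exact ⟨k, congrArg Subtype.val hk⟩
  have hPab : (P : Subgroup G) ≤ Subgroup.centralizer ((P : Subgroup G) : Set G) := by
    intro a ha
    rw [Subgroup.mem_centralizer_iff]
    intro b hb
    obtain ⟨i, rfl⟩ := hgen' a ha
    obtain ⟨j, rfl⟩ := hgen' b hb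
    exact (Commute.refl u).pow_pow j i
  obtain ⟨m, hm⟩ := P.isPGroup'.exists_card_eq
  have hu_ord : orderOf u = p ^ m := by
    rw [← hm, ← Nat.card_zpowers]
    congr 1
    have : Subgroup.zpowers u = (P : Subgroup G) := by
      apply le_antisymm
      · rwa [Subgroup.zpowers_le]
      · intro y hy
        obtain ⟨k, rfl⟩ := hgen' y hy
        exact Subgroup.pow_mem _ (Subgroup.mem_zpowers u) k
    rw [this]
  intro n hn'
  have h1 : n * u * n⁻¹ ∈ (P : Subgroup G) := (Subgroup.mem_normalizer_iff.mp hn' u).mp hu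
  obtain ⟨k, hk⟩ := hgen' _ h1
  obtain ⟨j, hj⟩ := hgen' x hxP
  have hconj : ∀ i : ℕ, n * u ^ i * n⁻¹ = u ^ (k * i) := by
    intro i
    rw [pow_mul, hk, conj_pow]
  have h2 : u ^ (k * j) = u ^ j := by
    rw [← hconj, hj]
    have := hn hn'
    rwa [conj_eq_iff_mem]
  have hpk : (p : ℤ) ∣ (k : ℤ) - 1 := by
    have h3 : ((p : ℤ) ^ m) ∣ ((k : ℤ) - 1) * j := by
      have h4 : u ^ ((((k : ℤ) - 1) * j)) = 1 := by
        rw [sub_mul, zpow_sub, one_mul]
        have : u ^ ((k : ℤ) * (j : ℤ)) = u ^ (k * j) := by rw [← zpow_natCast]; push_cast; rfl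
        rw [this, h2]; simp
      have := orderOf_dvd_iff_zpow_eq_one.mpr h4
      rw [hu_ord] at this
      push_cast at this
      exact this
    by_contra hcon
    have hcop : IsCoprime ((p : ℤ) ^ m) ((k : ℤ) - 1) := by
      apply IsCoprime.pow_left
      rw [Int.isCoprime_iff_gcd_eq_one]
      have hp := (Fact.out : p.Prime)
      have := (Nat.Prime.coprime_iff_not_dvd hp).mpr (fun h => hcon (Int.natCast_dvd.mpr h))
      exact this
    have h5 : ((p : ℤ) ^ m) ∣ (j : ℤ) := hcop.dvd_of_dvd_mul_left h3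
    have h6 : orderOf u ∣ j := by
      rw [hu_ord]
      exact_mod_cast h5
    rw [orderOf_dvd_iff_pow_eq_one, hj] at h6
    exact hx1 h6
  have hpkm : ((p : ℤ) ^ m) ∣ (k : ℤ) ^ (p ^ m) - 1 := by
    have h3 := dvd_sub_pow_of_dvd_sub (R := ℤ) (p := p) hpk m
    rw [one_pow] at h3
    exact (pow_dvd_pow _ (Nat.le_succ m)).trans h3
  have hpow : ∀ s : ℕ, n ^ s * u * (n ^ s)⁻¹ = u ^ (k ^ s) := by
    intro s
    induction s with
    | zero => simp
    | succ s ih =>
      have e : n ^ (s + 1) * u * (n ^ (s + 1))⁻¹ = n * (n ^ s * u * (n ^ s)⁻¹) * n⁻¹ := by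
        rw [pow_succ']; group
      rw [e, ih, hconj, pow_succ']
  have hc1 : n ^ (p ^ m) ∈ Subgroup.centralizer ((P : Subgroup G) : Set G) := by
    have h3 : n ^ (p ^ m) * u * (n ^ (p ^ m))⁻¹ = u := by
      rw [hpow]
      have h4 : u ^ ((k : ℤ) ^ (p ^ m) - 1) = 1 := by
        rw [← orderOf_dvd_iff_zpow_eq_one, hu_ord]
        push_cast
        exact hpkm
      rw [zpow_sub, zpow_one] at h4
      have h5 : u ^ ((k : ℤ) ^ (p ^ m)) = u := by
        have := mul_inv_eq_one.mp h4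
        exact this
      rw [← zpow_natCast]
      push_cast
      exact h5
    rw [Subgroup.mem_centralizer_iff]
    intro y hy
    obtain ⟨i, rfl⟩ := hgen' y hy
    have h4 : Commute (n ^ (p ^ m)) u := by
      show n ^ (p ^ m) * u = u * n ^ (p ^ m)
      calc n ^ (p ^ m) * u = (n ^ (p ^ m) * u * (n ^ (p ^ m))⁻¹) * n ^ (p ^ m) := by group
        _ = _ := by rw [h3]
    exact (h4.pow_right i).eq.symm
  -- p'-part
  obtain ⟨s, t, hst, hpt⟩ : ∃ s t : ℕ, orderOf n = p ^ s * t ∧ Nat.Coprime t p := by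
    have hpos : orderOf n ≠ 0 := (orderOf_pos n).ne'
    obtain ⟨s, t, ht, hst⟩ := Nat.exists_eq_pow_mul_and_not_dvd hpos p (Fact.out : p.Prime).ne_one
    exact ⟨s, t, hst, ((Nat.Prime.coprime_iff_not_dvd (Fact.out : p.Prime)).mpr ht).symm⟩
  have hc2 : n ^ t ∈ Subgroup.centralizer ((P : Subgroup G) : Set G) := by
    apply hPab
    have hpg : IsPGroup p (Subgroup.zpowers (n ^ t)) := by
      apply isPGroup_zpowers
      refine ⟨s, ?_⟩
      have htpos : 0 < t := by
        rcases Nat.eq_zero_or_pos t with h | h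
        · rw [h, mul_zero] at hst
          exact absurd hst (orderOf_pos n).ne'
        · exact h
      rw [orderOf_pow_of_dvd htpos.ne' ⟨p ^ s, by rw [hst, mul_comm]⟩, hst, Nat.mul_div_cancel _ htpos]
    have h3 := hpg.inf_normalizer_sylow P
    have h4 : n ^ t ∈ Subgroup.zpowers (n ^ t) ⊓ Subgroup.normalizer ((P : Subgroup G) : Set G) :=
      ⟨Subgroup.mem_zpowers _, Subgroup.pow_mem _ hn' t⟩
    exact (h3.le h4).2
  have hcop : Nat.Coprime t (p ^ m) := Nat.Coprime.pow_right m hpt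
  have hbez : (1 : ℤ) = (t : ℤ) * Nat.gcdA t (p ^ m) + ((p ^ m : ℕ) : ℤ) * Nat.gcdB t (p ^ m) := by
    rw [← Nat.gcd_eq_gcd_ab, hcop]; rfl
  have : n = (n ^ t) ^ (Nat.gcdA t (p ^ m)) * (n ^ (p ^ m)) ^ (Nat.gcdB t (p ^ m)) := by
    conv_lhs => rw [← zpow_one n, hbez]
    rw [zpow_add, zpow_mul, zpow_mul, zpow_natCast, zpow_natCast]
  rw [this]
  exact Subgroup.mul_mem _ (Subgroup.zpow_mem _ hc2 _) (Subgroup.zpow_mem _ hc1 _)

/-- Let G be a finite group, p a prime and x ∈ G an element of p-power order which is isolated in G. Then the image of x in any quotient G ⧸ N is isolated in G ⧸ N; and if x ≠ 1 and the Sylow p-subgroups of G are cyclic, then G has a normal p-complement. -/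
theorem result {G : Type*} [Group G] [Finite G] {p : ℕ} [Fact p.Prime] (x : G) (hx : ∃ k : ℕ, orderOf x = p ^ k) (hiso : Cfsg.IsIsolated x) : (∀ (N : Subgroup G) [N.Normal], Cfsg.IsIsolated (QuotientGroup.mk x : G ⧸ N)) ∧ (x ≠ 1 → (∀ P : Sylow p G, IsCyclic ↥(P : Subgroup G)) → Cfsg.HasNormalPComplement p G) := by
  refine ⟨fun N hN => ?_, fun hx1 hcyc => ?_⟩
  · intro g' hcomm
    obtain ⟨g, rfl⟩ := QuotientGroup.mk_surjective g'
    set y : G ⧸ N := (QuotientGroup.mk g : G ⧸ N) * QuotientGroup.mk x * (QuotientGroup.mk g)⁻¹ with hy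
    set A : Subgroup (G ⧸ N) := Subgroup.closure {(QuotientGroup.mk x : G ⧸ N), y} with hA
    have hAy : A ≤ Subgroup.centralizer ({y} : Set (G ⧸ N)) := by
      rw [hA, Subgroup.closure_le]
      rintro z (rfl | rfl)
      · show _ ∈ Subgroup.centralizer ({y} : Set (G ⧸ N))
        rw [Subgroup.mem_centralizer_singleton_iff]; exact hcomm
      · show _ ∈ Subgroup.centralizer ({y} : Set (G ⧸ N))
        rw [Subgroup.mem_centralizer_singleton_iff]
    have hxH : x ∈ A.comap (QuotientGroup.mk' N) := Subgroup.subset_closure (Or.inl rfl)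
    have hyH : g * x * g⁻¹ ∈ A.comap (QuotientGroup.mk' N) := Subgroup.subset_closure (Or.inr rfl)
    obtain ⟨h, hh, hc⟩ := iso_conj hx hiso hxH hyH
    have h1 : (QuotientGroup.mk h : G ⧸ N) ∈ A := hh
    have h2 := hAy h1
    rw [← conj_eq_iff_mem] at h2 hc
    have h3 : (QuotientGroup.mk (h * g * x * (h * g)⁻¹) : G ⧸ N) = QuotientGroup.mk x := by rw [hc]
    have h4 : (QuotientGroup.mk (h * g * x * (h * g)⁻¹) : G ⧸ N) = QuotientGroup.mk h * y * (QuotientGroup.mk h)⁻¹ := by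
      rw [hy, mul_inv_rev]
      simp only [QuotientGroup.mk_mul, QuotientGroup.mk_inv, mul_assoc]
    rw [← h3, h4, h2]
  · have hp1 : IsPGroup p (Subgroup.zpowers x) := isPGroup_zpowers hx
    obtain ⟨P, hP⟩ := hp1.exists_le_sylow
    have hxP : x ∈ (P : Subgroup G) := hP (Subgroup.mem_zpowers x)
    have hn := burnside_cyclic x hx1 P hxP (hcyc P) (iso_normalizer hiso P.isPGroup' hxP)
    exact ⟨P, (MonoidHom.transferSylow P hn).ker, inferInstance, MonoidHom.ker_transferSylow_isComplement' P hn⟩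

end Cfsg.Agent.S2970
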