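import Cfsg.Statements.S2971
import Mathlib
import Cfsg.Agent.LibLE11Iso
import Cfsg.Agent.LibH6CycSyl
import Cfsg.Agent.LibPCyc
import Cfsg.Agent.LibCores

set_option autoImplicit false
set_option linter.all false
open Cfsg

namespace Cfsg.Agent.S2971

/-- Let G be a finite group and p an odd prime such that G has p-rank at most 1 (no elementary abelian subgroup of order p²). If x ∈ G is an isolated element of order p, then x is central modulo the largest normal subgroup of G of order prime to p. -/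
theorem result {G : Type*} [Group G] [Finite G] {p : ℕ} [Fact p.Prime] (hp : p ≠ 2) (hrk : Cfsg.PRankLE p 1 G) (x : G) (hx : orderOf x = p) (hiso : Cfsg.IsIsolated x) : Cfsg.InZStar p x := by
  classical
  have hpp : p.Prime := Fact.out
  have hxp : IsPGroup p (Subgroup.zpowers x) := CfsgLib.LE11Iso.isPGroup_zpowers ⟨1, by rw [hx, pow_one]⟩
  obtain ⟨P, hP⟩ := hxp.exists_le_sylow
  have hxP : x ∈ (P : Subgroup G) := hP (Subgroup.mem_zpowers x)
  have hcyc : IsCyclic (P : Subgroup G) := by
    by_contra hnc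
    obtain ⟨A, -, hAc, hAe, hA⟩ := CfsgLib.PCyc.exists_normal_elem hpp hp P.isPGroup' hnc
    have h1 := hrk (A.map (P : Subgroup G).subtype) (by
      refine ⟨⟨?_⟩⟩
      rintro ⟨_, ⟨a, ha, rfl⟩⟩ ⟨_, ⟨b, hb, rfl⟩⟩
      apply Subtype.ext
      have := hAc.is_comm.comm (⟨a, ha⟩ : A) ⟨b, hb⟩
      exact congrArg (fun z : A => (((z : (P : Subgroup G))) : G)) this) (by
      rintro _ ⟨a, ha, rfl⟩
      rw [← map_pow, hAe a ha, map_one])
    have h2 : Nat.card (A.map (P : Subgroup G).subtype) = Nat.card A :=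
      Nat.card_congr (A.equivMapOfInjective _ (P : Subgroup G).subtype_injective).toEquiv.symm
    rw [h2, hA, pow_one] at h1
    have h3 : p < p ^ 2 := by
      rw [pow_two]
      nlinarith [hpp.two_le]
    omega
  have hx1 : x ≠ 1 := by
    intro h
    rw [h, orderOf_one] at hx
    exact hpp.one_lt.ne hx
  have hNC := CfsgLib.LE11Iso.iso_normalizer (p := p) hiso P.isPGroup' hxP
  obtain ⟨N, hN⟩ : ∃ N, N = Subgroup.normalizer ((P : Subgroup G) : Set G) := ⟨_, rfl⟩
  have hPN : (P : Subgroup G) ≤ N := by rw [hN]; exact Subgroup.le_normalizer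
  have hP'c : IsCyclic ((P.subtype hPN : Sylow p N) : Subgroup N) := by
    have e : ((P.subtype hPN : Sylow p N) : Subgroup N) ≃* (P : Subgroup G) := Subgroup.subgroupOfEquivOfLe hPN
    exact isCyclic_of_injective e.toMonoidHom e.injective
  have hb := CfsgLib.H6.burnside_central p (P.subtype hPN) hP'c (⟨x, hPN hxP⟩ : N) (fun h => hx1 (congrArg Subtype.val h))
    (Subgroup.mem_subgroupOf.2 hxP) (by
      intro g
      apply Subtype.ext
      have h1 := hNC (by rw [← hN]; exact g.2 : (g : G) ∈ _)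
      rw [Subgroup.mem_centralizer_singleton_iff] at h1
      exact h1)
  have hNP : Subgroup.normalizer ((P : Subgroup G) : Set G) ≤ Subgroup.centralizer ((P : Subgroup G) : Set G) := by
    intro n hn
    have hn' : n ∈ N := by rw [hN]; exact hn
    have h1 : (⟨n, hn'⟩ : N) ∈ Subgroup.normalizer (((P.subtype hPN : Sylow p N) : Subgroup N) : Set N) := by
      rw [Subgroup.mem_normalizer_iff]
      intro y
      have h2 := Subgroup.mem_normalizer_iff.1 hn (y : G)
      exact h2
    have h2 := hb h1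
    rw [Subgroup.mem_centralizer_iff] at h2 ⊢
    intro y hy
    exact congrArg Subtype.val (h2 ⟨y, hPN hy⟩ (Subgroup.mem_subgroupOf.2 hy))
  obtain ⟨K, hKn, hK⟩ := CfsgLib.H6.hasCompl_of_burnside p P hNP
  have hKp : K ≤ Cfsg.pPrimeCore p G := by
    apply CfsgLib.Cores.le_pPrimeCore hKn
    have h1 := hK.symm.index_eq_card
    have h2 := hK.card_mul_card
    obtain ⟨k, hk⟩ := IsPGroup.iff_card.1 P.isPGroup'
    have h3 : Nat.card K = (P : Subgroup G).index := by
      have h4 := (P : Subgroup G).card_mul_index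
      rw [← h2, mul_comm] at h4
      exact (Nat.eq_of_mul_eq_mul_right Nat.card_pos h4).symm
    rw [h3]
    exact ((Nat.Prime.coprime_iff_not_dvd hpp).2 P.not_dvd_index).symm
  intro g
  apply hKp
  obtain ⟨⟨⟨k, hk⟩, ⟨u, hu⟩⟩, hku⟩ := hK.2 g
  have hku' : k * u = g := hku
  have hux : u * x = x * u := by
    let _ := hcyc.commGroup
    exact congrArg Subtype.val (mul_comm (⟨u, hu⟩ : (P : Subgroup G)) ⟨x, hxP⟩)
  have e : g * x * g⁻¹ * x⁻¹ = k * (x * k⁻¹ * x⁻¹) := by
    rw [← hku']
    calc k * u * x * (k * u)⁻¹ * x⁻¹ = k * (u * x) * u⁻¹ * k⁻¹ * x⁻¹ := by group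
      _ = k * (x * u) * u⁻¹ * k⁻¹ * x⁻¹ := by rw [hux]
      _ = _ := by group
  rw [e]
  exact K.mul_mem hk (hKn.conj_mem _ (K.inv_mem hk) x)

end Cfsg.Agent.S2971
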