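import Cfsg.Statements.S2972
import Mathlib
import Cfsg.Agent.LibLE11Iso
import Cfsg.Agent.LibLE11Syl
import Cfsg.Agent.LibLE11Act
import Cfsg.Agent.LibCoprime
import Cfsg.Agent.LibCores

set_option autoImplicit false
set_option linter.all false
open Cfsg

namespace Cfsg.Agent.S2972

open Subgroup Cfsg
open scoped Pointwise commutatorElement

theorem fitting_le_pCore {G : Type*} [Group G] [Finite G] {p : ℕ} [Fact p.Prime] (hO : pPrimeCore p G = ⊥) :
    fittingSubgroup G ≤ pCore p G := by
  rw [CfsgLib.Cores.fittingSubgroup_eq_iSup_pCore]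
  apply iSup_le
  intro q
  have : Fact (Nat.Prime (q : ℕ)) := ⟨q.2⟩
  by_cases hq : (q : ℕ) = p
  · rw [hq]
  · have : pCore (q : ℕ) G ≤ pPrimeCore p G := by
      apply CfsgLib.Cores.le_pPrimeCore inferInstance
      obtain ⟨k, hk⟩ := IsPGroup.iff_card.1 (CfsgLib.Cores.pCore_isPGroup (G := G) (q : ℕ))
      rw [hk]
      apply Nat.Coprime.pow_left
      exact (Nat.coprime_primes q.2 Fact.out).2 hq
    exact this.trans (hO.le.trans bot_le)

theorem comm_isPGroup {G : Type*} [Group G] [Finite G] {p : ℕ} [Fact p.Prime] (hO : pPrimeCore p G = ⊥)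
    {N : Subgroup G} (hN : N.Normal) (hc : IsMulCommutative N) : IsPGroup p N := by
  have h1 : Group.IsNilpotent N := by
    letI : CommGroup N := { (inferInstance : Group N) with mul_comm := hc.is_comm.comm }
    exact CommGroup.isNilpotent
  exact (CfsgLib.Cores.pCore_isPGroup (G := G) p).to_le
    ((CfsgLib.Cores.le_fittingSubgroup hN h1).trans (fitting_le_pCore hO))

theorem quot_center_core {G : Type*} [Group G] [Finite G] {p : ℕ} [hp : Fact p.Prime] (hO : pPrimeCore p G = ⊥)
    (Z : Subgroup G) [hZn : Z.Normal] (hZ : Z ≤ center G) : pPrimeCore p (G ⧸ Z) = ⊥ := by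
  have hZp : IsPGroup p Z := comm_isPGroup hO hZn ⟨⟨fun a b => Subtype.ext (by
    exact (mem_center_iff.1 (hZ b.2) a))⟩⟩
  obtain ⟨K, hK⟩ : ∃ K, K = (pPrimeCore p (G ⧸ Z)).comap (QuotientGroup.mk' Z) := ⟨_, rfl⟩
  have hKn : K.Normal := by rw [hK]; infer_instance
  have hZK : Z ≤ K := by
    rw [hK]
    intro z hz
    rw [mem_comap, QuotientGroup.mk'_apply, (QuotientGroup.eq_one_iff z).2 hz]
    exact one_mem _
  have hcK : Z.relIndex K = Nat.card (pPrimeCore p (G ⧸ Z)) := by
    have h1 := CfsgLib.Coprime.card_mul_relIndex hZK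
    have h2 : Nat.card K = Nat.card (pPrimeCore p (G ⧸ Z)) * Nat.card Z ∨ Nat.card K = Nat.card Z * Nat.card (pPrimeCore p (G ⧸ Z)) := by
      rw [hK]
      first
        | exact Or.inl (CfsgLib.Cores.card_comap_mk _ _)
        | exact Or.inr (CfsgLib.Cores.card_comap_mk _ _)
    have h3 : 0 < Nat.card Z := Nat.card_pos
    rcases h2 with h2 | h2
    · rw [h2, mul_comm] at h1
      exact Nat.eq_of_mul_eq_mul_right h3 h1
    · rw [h2] at h1
      exact Nat.eq_of_mul_eq_mul_left h3 h1
  obtain ⟨B, hBK, hBc, hB1, hB2⟩ := CfsgLib.Coprime.sz_exists hZK (by rw [normalizer_eq_top]; exact le_top) (by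
    rw [hcK]
    obtain ⟨k, hk⟩ := IsPGroup.iff_card.1 hZp
    rw [hk]
    exact Nat.Coprime.pow_left _ (CfsgLib.Cores.pPrimeCore_coprime p).symm)
  have hBn : (B.subgroupOf K).Normal := by
    rw [normal_subgroupOf_iff_le_normalizer hBK, ← hB2]
    refine sup_le ?_ le_normalizer
    intro z hz
    rw [mem_normalizer_iff]
    intro y
    have h1 : z * y * z⁻¹ = y := by
      have h2 := mem_center_iff.1 (hZ hz) y
      rw [← h2]; group
    rw [h1]
  have hBp : B.subgroupOf K ≤ pPrimeCore p K := by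
    apply CfsgLib.Cores.le_pPrimeCore hBn
    rw [Nat.card_congr (subgroupOfEquivOfLe hBK).toEquiv, hBc, hcK]
    exact CfsgLib.Cores.pPrimeCore_coprime p
  have hB0 : B = ⊥ := by
    have h1 := map_mono (f := K.subtype) hBp
    rw [CfsgLib.Cores.map_pPrimeCore_of_normal, hO, bot_inf_eq, subgroupOf_map_subtype, inf_eq_left.2 hBK] at h1
    exact le_bot_iff.1 h1
  rw [hB0, sup_bot_eq] at hB2
  rw [eq_bot_iff]
  intro y hy
  obtain ⟨g, rfl⟩ := QuotientGroup.mk'_surjective Z y
  have h1 : g ∈ K := by rw [hK]; exact hy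
  rw [← hB2] at h1
  rw [mem_bot]
  exact (QuotientGroup.eq_one_iff g).2 h1

/-- Let G be a finite group, p a prime and x ∈ G an isolated element of order p (the only conjugate of x commuting with x is x) which is not central modulo the largest normal subgroup of order prime to p, while x is central modulo the largest normal subgroup of order prime to p in every proper subgroup containing x, and the image of x is so in every quotient of G by a nontrivial normal subgroup (a minimal counterexample to the Z*_p statement). Then the derived subgroup G' is a non-abelian simple group and G = G'⟨x⟩. -/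
theorem result {G : Type*} [Group G] [Finite G] {p : ℕ} [Fact p.Prime] (x : G) (hx : orderOf x = p) (hiso : Cfsg.IsIsolated x) (hnz : ¬ Cfsg.InZStar p x) (hmin : ∀ (H : Subgroup G) (hxH : x ∈ H), H ≠ ⊤ → Cfsg.InZStar p (⟨x, hxH⟩ : ↥H)) (hquot : ∀ (N : Subgroup G) [N.Normal], N ≠ ⊥ → Cfsg.InZStar p (QuotientGroup.mk x : G ⧸ N)) : IsSimpleGroup ↥(commutator G) ∧ ¬ IsMulCommutative ↥(commutator G) ∧ commutator G ⊔ Subgroup.zpowers x = ⊤ := by
  classical
  have hpp : p.Prime := Fact.out
  have hxk : ∃ k : ℕ, orderOf x = p ^ k := ⟨1, by rw [hx, pow_one]⟩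
  -- the core is trivial
  have hcore : pPrimeCore p G = ⊥ := by
    by_contra hne
    apply hnz
    have h1 := hquot (pPrimeCore p G) hne
    intro g
    have h2 := h1 (QuotientGroup.mk g)
    rw [CfsgLib.Cores.pPrimeCore_quotient_pPrimeCore, Subgroup.mem_bot] at h2
    exact (QuotientGroup.eq_one_iff _).1 h2
  have hncen : ¬ ∀ g : G, g * x * g⁻¹ = x := by
    intro h
    apply hnz
    intro g
    rw [h g, mul_inv_cancel]; exact one_mem _
  -- (c)
  have hc : ∀ N : Subgroup G, N.Normal → N ⊔ zpowers x ≠ ⊤ → ∀ n ∈ N, n * x * n⁻¹ * x⁻¹ = 1 := by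
    intro N hN hne n hn
    obtain ⟨H, hH⟩ : ∃ H, H = N ⊔ zpowers x := ⟨_, rfl⟩
    rw [← hH] at hne
    have hxH : x ∈ H := by rw [hH]; exact mem_sup_right (mem_zpowers x)
    have hNH : N ≤ H := by rw [hH]; exact le_sup_left
    have h1 := hmin H hxH hne ⟨n, hNH hn⟩
    -- the intersection
    have h2 : (pPrimeCore p H).map H.subtype ⊓ N ≤ pPrimeCore p G := by
      obtain ⟨D, hD⟩ : ∃ D, D = (pPrimeCore p H).map H.subtype ⊓ N := ⟨_, rfl⟩
      have hDN : D ≤ N := by rw [hD]; exact inf_le_right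
      have hDn : (D.subgroupOf N).Normal := by
        rw [normal_subgroupOf_iff_le_normalizer hDN]
        intro m hm
        apply CfsgLib.LE11Act.mem_normalizer_of_forall
        intro d hd
        rw [hD] at hd ⊢
        obtain ⟨⟨d', hd', rfl⟩, hd2⟩ := hd
        refine ⟨⟨⟨m, hNH hm⟩ * d' * ⟨m, hNH hm⟩⁻¹, ?_, rfl⟩, hN.conj_mem _ hd2 m⟩
        exact (inferInstance : (pPrimeCore p H).Normal).conj_mem _ hd' _
      have hDp : D.subgroupOf N ≤ pPrimeCore p N := by
        apply CfsgLib.Cores.le_pPrimeCore hDn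
        rw [Nat.card_congr (subgroupOfEquivOfLe hDN).toEquiv]
        have h3 : Nat.card D ∣ Nat.card ((pPrimeCore p H).map H.subtype) := by
          rw [hD]; exact card_dvd_of_le inf_le_left
        refine Nat.Coprime.of_dvd_left h3 ?_
        rw [Nat.card_congr ((pPrimeCore p H).equivMapOfInjective _ H.subtype_injective).toEquiv.symm]
        exact CfsgLib.Cores.pPrimeCore_coprime p
      have h3 := map_mono (f := N.subtype) hDp
      rw [CfsgLib.Cores.map_pPrimeCore_of_normal, subgroupOf_map_subtype, inf_eq_left.2 hDN] at h3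
      rw [← hD]
      exact h3.trans inf_le_left
    rw [hcore] at h2
    have h3 : n * x * n⁻¹ * x⁻¹ ∈ (pPrimeCore p H).map H.subtype ⊓ N := by
      refine ⟨⟨_, h1, rfl⟩, ?_⟩
      have e : n * x * n⁻¹ * x⁻¹ = n * (x * n⁻¹ * x⁻¹) := by group
      rw [e]
      exact N.mul_mem hn (hN.conj_mem _ (N.inv_mem hn) x)
    exact mem_bot.1 (h2 h3)
  -- (d)
  have hd : ∀ N : Subgroup G, N.Normal → N ⊔ zpowers x ≠ ⊤ → N ≤ center G := by
    intro N hN hne
    have h1 := hc N hN hne
    have hCn : (centralizer (N : Set G)).Normal := by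
      have := hN
      infer_instance
    have hxC : x ∈ centralizer (N : Set G) := by
      rw [mem_centralizer_iff]
      intro n hn
      have h2 := h1 n hn
      rw [mul_inv_eq_one, mul_inv_eq_iff_eq_mul] at h2
      exact h2
    have hCt : centralizer (N : Set G) = ⊤ := by
      by_contra hCne
      have h2 := hc _ hCn (by rwa [sup_eq_left.2 (zpowers_le.2 hxC)])
      apply hncen
      intro g
      have h3 := hCn.conj_mem x hxC g
      apply hiso
      have h4 := h2 _ h3
      rw [mul_inv_eq_one, mul_inv_eq_iff_eq_mul] at h4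
      exact h4.symm
    rw [centralizer_eq_top_iff_subset] at hCt
    exact hCt
  -- (e)
  have hZ : center G = ⊥ := by
    by_contra hne
    apply hncen
    have h1 := hquot (center G) hne
    intro g
    have h2 := h1 (QuotientGroup.mk g)
    rw [quot_center_core hcore _ le_rfl, mem_bot] at h2
    have h3 : g * x * g⁻¹ * x⁻¹ ∈ center G := (QuotientGroup.eq_one_iff _).1 h2
    apply hiso
    have h4 := mem_center_iff.1 h3 x
    have h5 : g * x * g⁻¹ = (g * x * g⁻¹ * x⁻¹) * x := by group
    rw [h5]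
    show x * _ = _ * x
    rw [← mul_assoc, h4]
  -- (f)
  have hf : ∀ N : Subgroup G, N.Normal → N ≠ ⊥ → N ⊔ zpowers x = ⊤ := by
    intro N hN hne
    by_contra h
    apply hne
    rw [eq_bot_iff, ← hZ]
    exact hd N hN h
  have hh : ∀ N : Subgroup G, N.Normal → N ≠ ⊥ → commutator G ≤ N := by
    intro N hN hne
    have h1 := hf N hN hne
    have h2 : ⁅(⊤ : Subgroup G), ⊤⁆ ≤ N := by
      rw [← QuotientGroup.ker_mk' N, ← Subgroup.map_eq_bot_iff, map_commutator, ← h1, Subgroup.map_sup]
      have h3 : N.map (QuotientGroup.mk' N) = ⊥ := by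
        rw [Subgroup.map_eq_bot_iff, QuotientGroup.ker_mk']
      rw [h3, bot_sup_eq, commutator_eq_bot_iff_le_centralizer, MonoidHom.map_zpowers, zpowers_le,
        mem_centralizer_iff]
      rintro _ ⟨k, rfl⟩
      exact ((Commute.refl _).zpow_left k).eq
    exact h2
  have hGne : commutator G ≠ ⊥ := by
    intro h
    apply hncen
    intro g
    have h1 : g * x * g⁻¹ * x⁻¹ ∈ commutator G := by
      have := commutator_mem_commutator (mem_top g) (mem_top x)
      rwa [commutatorElement_def] at this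
    rw [h, mem_bot, mul_inv_eq_one] at h1
    exact h1
  have hG' : (commutator G).Normal := inferInstance
  have hna : ¬ IsMulCommutative ↥(commutator G) := by
    intro hab
    have h1 := comm_isPGroup hcore hG' hab
    have h2 : IsPGroup p (⊤ : Subgroup G) := by
      rw [← hf _ hG' hGne, sup_comm]
      exact IsPGroup.to_sup_of_normal_right' (CfsgLib.LE11Iso.isPGroup_zpowers hxk) h1 (by
        rw [normalizer_eq_top]; exact le_top)
    have : Group.IsNilpotent (⊤ : Subgroup G) := h2.isNilpotent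
    have h3 := CfsgLib.LE11Iso.iso_central hiso (⊤ : Subgroup G) (mem_top x)
    apply hncen
    intro g
    have h4 := h3 (mem_top g)
    rw [mem_centralizer_singleton_iff] at h4
    rw [h4]; group
  refine ⟨?_, hna, hf _ hG' hGne⟩
  -- simplicity
  obtain ⟨N, hN⟩ : ∃ N, N = commutator G := ⟨_, rfl⟩
  rw [← hN] at hG' hGne hna ⊢
  -- minimal normal subgroups of N are N
  have hminN : ∀ K : Subgroup G, K ≤ N → K ≠ ⊥ → N ≤ normalizer (K : Set G) →
      (∀ L : Subgroup G, L ≤ K → L ≠ ⊥ → N ≤ normalizer (L : Set G) → L = K) → K = N := by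
    intro K hKN hKne hKn hKmin
    obtain ⟨P, hP⟩ := (CfsgLib.LE11Iso.isPGroup_zpowers (p := p) hxk).exists_le_sylow
    have hxP : x ∈ (P : Subgroup G) := hP (mem_zpowers x)
    have hnil : Group.IsNilpotent (P : Subgroup G) := P.isPGroup'.isNilpotent
    have hPc := CfsgLib.LE11Iso.iso_central hiso (P : Subgroup G) hxP
    have hs1 := (CfsgLib.LE11Syl.isSyl_top P).inf_of_normal (N := N) le_top (by rw [normalizer_eq_top])
    have hs2 := hs1.inf_of_normal (N := K) hKN hKn
    have hpK : p ∣ Nat.card K := by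
      by_contra hnd
      apply hKne
      have h1 : K.subgroupOf N ≤ pPrimeCore p N := by
        apply CfsgLib.Cores.le_pPrimeCore ((normal_subgroupOf_iff_le_normalizer hKN).2 hKn)
        rw [Nat.card_congr (subgroupOfEquivOfLe hKN).toEquiv]
        exact ((Nat.Prime.coprime_iff_not_dvd hpp).2 hnd).symm
      have h3 := map_mono (f := N.subtype) h1
      rw [CfsgLib.Cores.map_pPrimeCore_of_normal, hcore, bot_inf_eq, subgroupOf_map_subtype, inf_eq_left.2 hKN] at h3
      exact le_bot_iff.1 h3
    have hne := hs2.ne_bot hpK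
    obtain ⟨c, hcm, hc1⟩ : ∃ c ∈ (P : Subgroup G) ⊓ N ⊓ K, c ≠ 1 := by
      by_contra hno
      push Not at hno
      exact hne (eq_bot_iff.2 fun y hy => mem_bot.2 (hno y hy))
    have hcx : x * c * x⁻¹ = c := by
      have h1 := hPc hcm.1.1
      rw [mem_centralizer_singleton_iff] at h1
      rw [← h1]; group
    -- the conjugate of K
    have hconjn : ∀ K : Subgroup G, N ≤ normalizer (K : Set G) → N ≤ normalizer ((MulAut.conj x • K : Subgroup G) : Set G) := by
      intro K hKn n hn
      rw [← CfsgLib.LE11Syl.conj_smul_eq_iff]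
      have h1 : x⁻¹ * n * x⁻¹⁻¹ ∈ N := hG'.conj_mem n hn x⁻¹
      have h2 := CfsgLib.LE11Syl.conj_smul_eq_iff.2 (hKn h1)
      have e : MulAut.conj n * MulAut.conj x = MulAut.conj x * MulAut.conj (x⁻¹ * n * x⁻¹⁻¹) := by
        rw [← map_mul, ← map_mul]; congr 1; group
      rw [← mul_smul, e, mul_smul, h2]
    have h4 : K ⊓ MulAut.conj x • K = K := by
      apply hKmin _ inf_le_left
      · intro h
        apply hc1
        have h5 : c ∈ K ⊓ MulAut.conj x • K := by
          refine mem_inf.2 ⟨hcm.2, ?_⟩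
          rw [CfsgLib.LE11Syl.mem_conj_smul]
          have : x⁻¹ * c * x = c := by
            calc x⁻¹ * c * x = x⁻¹ * (x * c * x⁻¹) * x := by rw [hcx]
              _ = c := by group
          rw [this]; exact hcm.2
        rw [h, mem_bot] at h5
        exact h5
      · intro n hn
        have h5 := hKn hn
        have h6 := hconjn K hKn hn
        apply CfsgLib.LE11Act.mem_normalizer_of_forall
        rintro y ⟨hy1, hy2⟩
        exact ⟨(mem_normalizer_iff.1 h5 y).1 hy1, (mem_normalizer_iff.1 h6 y).1 hy2⟩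
    have h5 : MulAut.conj x • K = K := by
      symm
      apply Subgroup.eq_of_le_of_card_ge (inf_eq_left.1 h4)
      exact (CfsgLib.LE11Syl.card_conj x K).le
    have hxK := CfsgLib.LE11Syl.conj_smul_eq_iff.1 h5
    have hKnorm : K.Normal := by
      rw [← normalizer_eq_top_iff, eq_top_iff, ← hf N hG' hGne]
      exact sup_le hKn (zpowers_le.2 hxK)
    apply le_antisymm hKN
    rw [hN]
    exact hh K hKnorm hKne
  have hnt : Nontrivial N := (nontrivial_iff_ne_bot N).2 hGne
  refine ⟨fun M hM => ?_⟩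
  by_cases hMb : M = ⊥
  · exact Or.inl hMb
  right
  let S : Set (Subgroup G) := {K | K ≤ M.map N.subtype ∧ K ≠ ⊥ ∧ N ≤ normalizer (K : Set G)}
  have hSne : S.Nonempty := by
    refine ⟨M.map N.subtype, le_rfl, ?_, ?_⟩
    · rw [Ne, map_eq_bot_iff_of_injective _ N.subtype_injective]; exact hMb
    · intro n hn
      apply CfsgLib.LE11Act.mem_normalizer_of_forall
      rintro _ ⟨m, hm, rfl⟩
      exact ⟨_, hM.conj_mem m hm ⟨n, hn⟩, rfl⟩
  obtain ⟨K, ⟨hK1, hK2, hK3⟩, hKmin⟩ := Set.exists_min_image S (fun K => Nat.card K) (Set.toFinite _) hSne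
  have h1 := hminN K (hK1.trans (map_subtype_le M)) hK2 hK3 (by
    intro L hL1 hL2 hL3
    exact Subgroup.eq_of_le_of_card_ge hL1 (hKmin L ⟨hL1.trans hK1, hL2, hL3⟩))
  rw [h1] at hK1
  rw [eq_top_iff]
  intro n _
  obtain ⟨m, hm, hmn⟩ := hK1 n.2
  have : m = n := Subtype.ext hmn
  rw [← this]; exact hm

end Cfsg.Agent.S2972
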