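import Cfsg.Statements.S2975
import Mathlib
import Cfsg.Agent.LibLE11Iso
import Cfsg.Agent.LibLE11Syl
import Cfsg.Agent.LibLE11Act
import Cfsg.Agent.LibCoprime
import Cfsg.Agent.LibCores

set_option autoImplicit false
set_option linter.all false
open Cfsg

namespace Cfsg.Agent.S2975

open Subgroup Cfsg
open scoped Pointwise

theorem exists_inv_sylow {N : Type*} [Group N] [Finite N] {p q : ℕ} [hp : Fact p.Prime] [hq : Fact q.Prime]
    (hpq : q ≠ p) {x : N} (hx : orderOf x = p) (hz : InZStar p x) {U : Subgroup N} [hUn : U.Normal]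
    (hU : IsPGroup q U) : ∃ R : Sylow q N, U ≤ (R : Subgroup N) ∧ x ∈ normalizer ((R : Subgroup N) : Set N) := by
  obtain ⟨R0, hR0⟩ := hU.exists_le_sylow
  obtain ⟨L, hL⟩ : ∃ L, L = (R0 : Subgroup N) ⊔ pPrimeCore p N := ⟨_, rfl⟩
  have hn : (pPrimeCore p N).Normal := inferInstance
  have hR0L : (R0 : Subgroup N) ≤ L := by rw [hL]; exact le_sup_left
  have hcop : (Nat.card L).Coprime p := by
    have h1 := CfsgLib.Cores.card_sup_dvd_of_normal (R0 : Subgroup N) (pPrimeCore p N)
    rw [← hL] at h1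
    refine Nat.Coprime.of_dvd_left h1 (Nat.Coprime.mul_left ?_ (CfsgLib.Cores.pPrimeCore_coprime p))
    obtain ⟨k, hk⟩ := IsPGroup.iff_card.1 R0.isPGroup'
    rw [hk]
    exact Nat.Coprime.pow_left _ ((Nat.coprime_primes hq.out hp.out).2 hpq)
  have hxL : x ∈ normalizer (L : Set N) := by
    apply CfsgLib.LE11Act.mem_normalizer_of_forall
    intro l hl
    have e : x * l * x⁻¹ = (l * x * l⁻¹ * x⁻¹)⁻¹ * l := by group
    rw [e]
    refine L.mul_mem (L.inv_mem ?_) hl
    rw [hL]
    exact mem_sup_right (hz l)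
  have hzL : zpowers x ≤ normalizer (L : Set N) := zpowers_le.2 hxL
  obtain ⟨P, hUP, hP⟩ := CfsgLib.Coprime.exists_invariant_sylow_ge (A := zpowers x) (K := L) hzL
    (by rw [Nat.card_zpowers, hx]; exact hcop.symm) (Or.inl inferInstance) q U (hR0.trans hR0L) hU
    (fun y _ => by rw [normalizer_eq_top]; trivial)
  have hcard : Nat.card ((P : Subgroup L).map L.subtype) = Nat.card (R0 : Subgroup N) := by
    have h1 := (CfsgLib.LE11Syl.isSyl_map P)
    have h2 := (CfsgLib.LE11Syl.isSyl_top R0).mono hR0L le_top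
    exact h1.card_eq h2
  obtain ⟨R, hR⟩ : ∃ R : Sylow q N, (R : Subgroup N) = (P : Subgroup L).map L.subtype := by
    exact ⟨Sylow.ofCard ((P : Subgroup L).map L.subtype) (by rw [hcard]; exact R0.card_eq_multiplicity), rfl⟩
  refine ⟨R, by rw [hR]; exact hUP, ?_⟩
  rw [hR]
  exact hP (mem_zpowers x)

/-- Let G be a finite group, p a prime and x ∈ G an isolated element of order p (the only conjugate of x commuting with x is x) which is not central modulo the largest normal subgroup of order prime to p, while x is central modulo the largest normal subgroup of order prime to p in every proper subgroup containing x, and the image of x is so in every quotient of G by a nontrivial normal subgroup (a minimal counterexample to the Z*_p statement). Then for every prime q, every q-subgroup of G that is normalized by x and maximal among the q-subgroups normalized by x is either trivial or a Sylow q-subgroup of G; and C_G(x) permutes the x-invariant Sylow q-subgroups of G transitively by conjugation.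 -/
theorem result {G : Type*} [Group G] [Finite G] {p : ℕ} [Fact p.Prime] (x : G) (hx : orderOf x = p) (hiso : Cfsg.IsIsolated x) (hnz : ¬ Cfsg.InZStar p x) (hmin : ∀ (H : Subgroup G) (hxH : x ∈ H), H ≠ ⊤ → Cfsg.InZStar p (⟨x, hxH⟩ : ↥H)) (hquot : ∀ (N : Subgroup G) [N.Normal], N ≠ ⊥ → Cfsg.InZStar p (QuotientGroup.mk x : G ⧸ N)) (q : ℕ) [Fact q.Prime] : (∀ Q : Subgroup G, IsPGroup q ↥Q → x ∈ Subgroup.normalizer (Q : Set G) → (∀ R : Subgroup G, IsPGroup q ↥R → x ∈ Subgroup.normalizer (R : Set G) → Q ≤ R → R = Q) → Q = ⊥ ∨ ∃ S : Sylow q G, (S : Subgroup G) = Q) ∧ (∀ S₁ S₂ : Sylow q G, x ∈ Subgroup.normalizer ((S₁ : Subgroup G) : Set G) → x ∈ Subgroup.normalizer ((S₂ : Subgroup G) : Set G) → ∃ c ∈ Subgroup.centralizer ({x} : Set G), (S₁ : Subgroup G).map (MulAut.conj c).toMonoidHom = (S₂ : Subgroup G)) := by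
  classical
  have hpp : p.Prime := Fact.out
  have hqq : q.Prime := Fact.out
  have hxk : ∃ k : ℕ, orderOf x = p ^ k := ⟨1, by rw [hx, pow_one]⟩
  -- the core is trivial
  have hcore : pPrimeCore p G = ⊥ := by
    by_contra hne
    apply hnz
    have h1 := hquot (pPrimeCore p G) hne
    intro g
    have h2 := h1 (QuotientGroup.mk g)
    rw [CfsgLib.Cores.pPrimeCore_quotient_pPrimeCore, Subgroup.mem_bot] at h2
    exact (QuotientGroup.eq_one_iff _).1 h2
  refine ⟨?_, ?_⟩
  · intro Q hQ hxQ hmax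
    by_cases hqp : q = p
    · right
      subst hqp
      have hzp := CfsgLib.LE11Iso.isPGroup_zpowers (p := q) hxk
      have hxQ' : x ∈ Q := by
        have h1 : IsPGroup q ↥(zpowers x ⊔ Q) := IsPGroup.to_sup_of_normal_right' hzp hQ (zpowers_le.2 hxQ)
        have h2 := hmax _ h1 ((zpowers x ⊔ Q).le_normalizer (mem_sup_left (mem_zpowers x))) le_sup_right
        rw [← h2]; exact mem_sup_left (mem_zpowers x)
      obtain ⟨P, hP⟩ := hQ.exists_le_sylow
      refine ⟨P, ?_⟩
      exact hmax P P.isPGroup' (Subgroup.le_normalizer (hP hxQ')) hP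
    · by_cases hbot : Q = ⊥
      · exact Or.inl hbot
      right
      obtain ⟨N, hN⟩ : ∃ N, N = normalizer (Q : Set G) := ⟨_, rfl⟩
      have hQN : Q ≤ N := by rw [hN]; exact Subgroup.le_normalizer
      have hxN : x ∈ N := by rw [hN]; exact hxQ
      have hNt : N ≠ ⊤ := by
        intro h
        rw [hN, normalizer_eq_top_iff] at h
        apply hbot
        rw [eq_bot_iff, ← hcore]
        apply CfsgLib.Cores.le_pPrimeCore h
        obtain ⟨k, hk⟩ := IsPGroup.iff_card.1 hQ
        rw [hk]
        exact Nat.Coprime.pow_left _ ((Nat.coprime_primes hqq hpp).2 hqp)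
      have hz := hmin N hxN hNt
      have hQn : (Q.subgroupOf N).Normal := by
        rw [hN]; exact normal_in_normalizer
      have hQ' : IsPGroup q (Q.subgroupOf N) := hQ.of_equiv (subgroupOfEquivOfLe hQN).symm
      obtain ⟨R, hQR, hxR⟩ := exists_inv_sylow hqp (x := (⟨x, hxN⟩ : N)) (by rw [Subgroup.orderOf_mk, hx]) hz hQ'
      have h1 : (R : Subgroup N).map N.subtype = Q := by
        apply hmax
        · exact R.isPGroup'.map _
        · rw [Subgroup.mem_normalizer_iff]
          intro y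
          constructor
          · rintro ⟨r, hr, rfl⟩
            exact ⟨_, (mem_normalizer_iff.1 hxR r).1 hr, rfl⟩
          · rintro ⟨r, hr, hry⟩
            have h2 : y = x⁻¹ * r * x := by
              have h3 : (r : G) = x * y * x⁻¹ := hry
              rw [h3]; group
            have h3 := (mem_normalizer_iff.1 (inv_mem hxR) r).1 hr
            refine ⟨_, h3, ?_⟩
            rw [h2, inv_inv]; rfl
        · intro y hy
          exact ⟨⟨y, hQN hy⟩, hQR (mem_subgroupOf.2 hy), rfl⟩
      have hsyl : CfsgLib.LE11Syl.IsSyl q Q N := by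
        have := CfsgLib.LE11Syl.isSyl_map R
        rwa [h1] at this
      have h2 := hsyl.of_normalizer_le (K := ⊤) le_top (by rw [top_inf_eq, hN])
      exact h2.sylow_of_top
  · intro S1 S2 h1 h2
    obtain ⟨g, hg⟩ := MulAction.exists_smul_eq G S1 S2
    have hg' : MulAut.conj g • (S1 : Subgroup G) = (S2 : Subgroup G) := by
      rw [← hg]; rfl
    -- g⁻¹ x g normalizes S1
    have hy : g⁻¹ * x * g⁻¹⁻¹ ∈ normalizer ((S1 : Subgroup G) : Set G) := by
      apply CfsgLib.LE11Act.mem_normalizer_of_forall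
      intro s hs
      have h3 : g * s * g⁻¹ ∈ (S2 : Subgroup G) := by
        rw [← hg']
        exact ⟨s, hs, rfl⟩
      have h4 := (mem_normalizer_iff.1 h2 _).1 h3
      rw [← hg', CfsgLib.LE11Syl.mem_conj_smul] at h4
      have e : g⁻¹ * (x * (g * s * g⁻¹) * x⁻¹) * g = g⁻¹ * x * g⁻¹⁻¹ * s * (g⁻¹ * x * g⁻¹⁻¹)⁻¹ := by group
      rwa [e] at h4
    obtain ⟨h, hh, hc⟩ := CfsgLib.LE11Iso.iso_conj hxk hiso h1 hy
    refine ⟨(h * g⁻¹)⁻¹, inv_mem hc, ?_⟩
    rw [CfsgLib.LE11Syl.map_conj_eq_smul]
    have e : (h * g⁻¹)⁻¹ = g * h⁻¹ := by group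
    rw [e, map_mul, mul_smul]
    have h5 : MulAut.conj h⁻¹ • (S1 : Subgroup G) = S1 := CfsgLib.LE11Syl.conj_smul_eq_iff.2 (inv_mem hh)
    rw [h5, hg']

end Cfsg.Agent.S2975
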