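import Cfsg.Statements.S3011
import Mathlib
import Cfsg.Agent.S0200
import Cfsg.Agent.S3013
import Cfsg.Agent.LibCores

set_option autoImplicit false
set_option linter.all false
open Cfsg

namespace Cfsg.Agent.S3011

open Subgroup Cfsg

theorem odd_sq {G : Type*} [Group G] {h : G} (ho : Odd (orderOf h)) (h2 : h * h = 1) : h = 1 := by
  rw [← orderOf_eq_one_iff]
  have h3 : orderOf h ∣ 2 := orderOf_dvd_of_pow_eq_one (by rw [pow_two]; exact h2)
  rcases (Nat.dvd_prime Nat.prime_two).1 h3 with h4 | h4
  · exact h4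
  · rw [h4] at ho; exact absurd ho (by decide)

/-- the commuting argument -/
theorem comm_pair {G : Type*} [Group G] [Finite G] {v w h u : G} (hvw : v * w = w * v) (hv2 : v * v = 1) (hw2 : w * w = 1)
    (hho : Odd (orderOf h)) (huo : Odd (orderOf u)) (hh1 : h ≠ 1) (hvh : v * h * v⁻¹ = h⁻¹) (hwh : w * h = h * w)
    (hvu : v * u = u * v) (hwu : w * u * w⁻¹ = u⁻¹)
    (hcase : w * (u * h * u⁻¹) = (u * h * u⁻¹) * w ∨ (v * w) * (u * h * u⁻¹) = (u * h * u⁻¹) * (v * w)) :
    h * u = u * h := by
  have hvi : v⁻¹ = v := inv_eq_of_mul_eq_one_left hv2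
  have hwi : w⁻¹ = w := inv_eq_of_mul_eq_one_left hw2
  have e1 : w * u = u⁻¹ * w := by
    rw [← hwu]; group
  -- u⁻¹ w u = w u u
  have e2 : u⁻¹ * w * u = w * (u * u) := by rw [← e1, mul_assoc]
  rcases hcase with hc | hc
  · -- w u² commutes with h
    have h1 : (w * (u * u)) * h = h * (w * (u * u)) := by
      rw [← e2]
      calc u⁻¹ * w * u * h = u⁻¹ * (w * (u * h * u⁻¹)) * u := by group
        _ = u⁻¹ * ((u * h * u⁻¹) * w) * u := by rw [hc]
        _ = _ := by group
    have h2 : h * (u * u) = u * u * h := by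
      have h3 : w * (u * u * h) = w * (h * (u * u)) := by
        calc w * (u * u * h) = (w * (u * u)) * h := by group
          _ = h * (w * (u * u)) := h1
          _ = (h * w) * (u * u) := by group
          _ = (w * h) * (u * u) := by rw [hwh]
          _ = _ := by group
      exact (mul_left_cancel h3).symm
    exact Cfsg.Agent.S3013.comm_of_sq huo h2
  · exfalso
    have e3 : u⁻¹ * (v * w) * u = (v * w) * (u * u) := by
      calc u⁻¹ * (v * w) * u = u⁻¹ * v * w * u := by group
        _ = (v * u⁻¹) * w * u := by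
          have : u⁻¹ * v = v * u⁻¹ := by
            rw [inv_mul_eq_iff_eq_mul, ← mul_assoc, ← hvu]; group
          rw [this]
        _ = v * (u⁻¹ * w * u) := by group
        _ = v * (w * (u * u)) := by rw [e2]
        _ = _ := by group
    have h1 : ((v * w) * (u * u)) * h = h * ((v * w) * (u * u)) := by
      rw [← e3]
      calc u⁻¹ * (v * w) * u * h = u⁻¹ * ((v * w) * (u * h * u⁻¹)) * u := by group
        _ = u⁻¹ * ((u * h * u⁻¹) * (v * w)) * u := by rw [hc]
        _ = _ := by group
    -- v w inverts h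
    have h2 : h * (v * w) = (v * w) * h⁻¹ := by
      have h3 : h * v = v * h⁻¹ := by
        calc h * v = (v * v) * h * v := by rw [hv2, one_mul]
          _ = v * (v * h * v⁻¹) := by rw [hvi]; group
          _ = v * h⁻¹ := by rw [hvh]
      have h4 : h⁻¹ * w = w * h⁻¹ := by
        rw [inv_mul_eq_iff_eq_mul, ← mul_assoc, ← hwh]; group
      calc h * (v * w) = (h * v) * w := by group
        _ = v * (h⁻¹ * w) := by rw [h3]; group
        _ = v * (w * h⁻¹) := by rw [h4]
        _ = _ := by group
    have h3 : (u * u) * h = h⁻¹ * (u * u) := by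
      have h4 : (v * w) * ((u * u) * h) = (v * w) * (h⁻¹ * (u * u)) := by
        calc (v * w) * ((u * u) * h) = ((v * w) * (u * u)) * h := by group
          _ = h * ((v * w) * (u * u)) := h1
          _ = (h * (v * w)) * (u * u) := by group
          _ = ((v * w) * h⁻¹) * (u * u) := by rw [h2]
          _ = _ := by group
      exact mul_left_cancel h4
    -- (u u) inverts h, so its square commutes with h
    have h5 : (u * u) * (u * u) * h = h * ((u * u) * (u * u)) := by
      calc (u * u) * (u * u) * h = (u * u) * ((u * u) * h) := by group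
        _ = (u * u) * (h⁻¹ * (u * u)) := by rw [h3]
        _ = ((u * u) * h⁻¹) * (u * u) := by group
        _ = (h * (u * u)) * (u * u) := by
          have : (u * u) * h⁻¹ = h * (u * u) := by
            rw [mul_inv_eq_iff_eq_mul]
            calc u * u = h * (h⁻¹ * (u * u)) := by group
              _ = h * ((u * u) * h) := by rw [h3]
              _ = _ := by group
          rw [this]
        _ = _ := by group
    have huuo : Odd (orderOf (u * u)) := by
      rw [← pow_two]
      exact Odd.of_dvd_nat huo (orderOf_pow_dvd 2)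
    have h6 := Cfsg.Agent.S3013.comm_of_sq huuo h5.symm
    have h7 := Cfsg.Agent.S3013.comm_of_sq huo h6
    -- now h = h⁻¹
    apply hh1
    apply odd_sq hho
    have h8 : (u * u) * h = h * (u * u) := h6.symm
    rw [h3] at h8
    have h9 : h⁻¹ = h := mul_right_cancel h8
    calc h * h = h⁻¹ * h := by rw [h9]
      _ = 1 := inv_mul_cancel h

/-- Let G be a finite group and V a nontrivial elementary abelian 2-subgroup of G of order at most 4 such that, whenever an element of V inverts an element h of G of odd order, some nontrivial element of V commutes with h. Then V meets O₂(G) nontrivially. (The case of order at most 4 has a short argument from the Baer–Suzuki theorem.) -/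
theorem result {G : Type*} [Group G] [Finite G] (V : Subgroup G) (hV : Cfsg.IsElementaryAbelian 2 V) (hV1 : V ≠ ⊥) (hS : Cfsg.IsSidkiPair V) (h4 : Nat.card V ≤ 4) : V ⊓ Cfsg.pCore 2 G ≠ ⊥ := by
  classical
  obtain ⟨hVab, hV2⟩ := hV
  have hVc : ∀ a ∈ V, ∀ b ∈ V, a * b = b * a := fun a ha b hb => congrArg Subtype.val (hVab.is_comm.comm (⟨a, ha⟩ : V) ⟨b, hb⟩)
  have hV2' : ∀ a ∈ V, a * a = 1 := fun a ha => by rw [← pow_two]; exact hV2 a ha
  intro hbot
  -- each nontrivial element inverts something
  have hex : ∀ v ∈ V, v ≠ 1 → ∃ h : G, h ≠ 1 ∧ Odd (orderOf h) ∧ v * h * v⁻¹ = h⁻¹ := by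
    intro v hv hv1
    apply Cfsg.Agent.S0200.result v (orderOf_eq_prime (hV2 v hv) hv1)
    intro N hN hNp hvN
    apply hv1
    have h1 : v ∈ V ⊓ pCore 2 G := ⟨hv, CfsgLib.Cores.le_pCore hN hNp hvN⟩
    rw [hbot, mem_bot] at h1
    exact h1
  have hinvne : ∀ v ∈ V, ∀ h : G, h ≠ 1 → Odd (orderOf h) → v * h * v⁻¹ = h⁻¹ → v * h ≠ h * v := by
    intro v hv h hh1 hho hvh hc
    apply hh1
    apply odd_sq hho
    rw [hc, mul_inv_cancel_right] at hvh
    calc h * h = h⁻¹ * h := by rw [← hvh]
      _ = 1 := inv_mul_cancel h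
  obtain ⟨v0, hv0, hv01⟩ : ∃ v ∈ V, v ≠ 1 := by
    by_contra hno
    push Not at hno
    exact hV1 (eq_bot_iff.2 fun y hy => mem_bot.2 (hno y hy))
  obtain ⟨h, hh1, hho, hv0h⟩ := hex v0 hv0 hv01
  obtain ⟨w, hw, hw1, hwh⟩ := hS h v0 hv0 hho hv0h
  have hv0w : v0 ≠ w := by
    rintro rfl
    exact hinvne v0 hv0 h hh1 hho hv0h hwh
  obtain ⟨u, hu1, huo, hwu⟩ := hex w hw hw1
  obtain ⟨v, hv, hv1, hvu⟩ := hS u w hw huo hwu
  have hvw : v ≠ w := by
    rintro rfl
    exact hinvne v hw u hu1 huo hwu hvu
  -- elements of V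
  have hfour : ∀ a ∈ V, ∀ b ∈ V, a ≠ 1 → b ≠ 1 → a ≠ b → ∀ y ∈ V, y = 1 ∨ y = a ∨ y = b ∨ y = a * b := by
    intro a ha b hb ha1 hb1 hab y hy
    by_contra hno
    push Not at hno
    obtain ⟨n1, n2, n3, n4⟩ := hno
    have hs : ({1, a, b, a * b, y} : Finset G).card = 5 := by
      have k1 : a * b ≠ 1 := by
        intro h
        apply hab
        have : a = b⁻¹ := eq_inv_of_mul_eq_one_left h
        rw [this]; exact inv_eq_of_mul_eq_one_left (hV2' b hb)
      have k2 : a ≠ a * b := by
        intro h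
        have h' : a * 1 = a * b := by rw [mul_one]; exact h
        exact hb1 (mul_left_cancel h').symm
      have k3 : b ≠ a * b := by
        intro h
        have h' : 1 * b = a * b := by rw [one_mul]; exact h
        exact ha1 (mul_right_cancel h').symm
      rw [Finset.card_insert_of_notMem, Finset.card_insert_of_notMem, Finset.card_insert_of_notMem,
        Finset.card_insert_of_notMem, Finset.card_singleton]
      · simpa using n4.symm
      · simp only [Finset.mem_insert, Finset.mem_singleton, not_or]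
        exact ⟨k3, n3.symm⟩
      · simp only [Finset.mem_insert, Finset.mem_singleton, not_or]
        exact ⟨hab, k2, n2.symm⟩
      · simp only [Finset.mem_insert, Finset.mem_singleton, not_or]
        exact ⟨ha1.symm, hb1.symm, k1.symm, n1.symm⟩
    have hsub : (({1, a, b, a * b, y} : Finset G) : Set G) ⊆ (V : Set G) := by
      intro z hz
      simp only [Finset.coe_insert, Finset.coe_singleton, Set.mem_insert_iff, Set.mem_singleton_iff] at hz
      rcases hz with rfl | rfl | rfl | rfl | rfl
      · exact V.one_mem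
      · exact ha
      · exact hb
      · exact V.mul_mem ha hb
      · exact hy
    have h5 := Set.ncard_le_ncard hsub (Set.toFinite _)
    rw [Set.ncard_coe_finset, hs] at h5
    have h6 : (V : Set G).ncard = Nat.card V := rfl
    omega
  -- v inverts h
  have hvh : v * h * v⁻¹ = h⁻¹ := by
    rcases hfour v0 hv0 w hw hv01 hw1 hv0w v hv with h1 | h1 | h1 | h1
    · exact absurd h1 hv1
    · rw [h1]; exact hv0h
    · exact absurd h1 hvw
    · rw [h1]
      calc v0 * w * h * (v0 * w)⁻¹ = v0 * (w * h) * w⁻¹ * v0⁻¹ := by group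
        _ = v0 * (h * w) * w⁻¹ * v0⁻¹ := by rw [hwh]
        _ = v0 * h * v0⁻¹ := by group
        _ = _ := hv0h
  -- u h u⁻¹ is inverted by v
  have huh : v * (u * h * u⁻¹) * v⁻¹ = (u * h * u⁻¹)⁻¹ := by
    have e : v * u⁻¹ = u⁻¹ * v := by
      rw [eq_inv_mul_iff_mul_eq, ← mul_assoc, ← hvu]; group
    calc v * (u * h * u⁻¹) * v⁻¹ = (v * u) * h * (v * u)⁻¹ := by group
      _ = (u * v) * h * (u * v)⁻¹ := by rw [hvu]
      _ = u * (v * h * v⁻¹) * u⁻¹ := by group
      _ = u * h⁻¹ * u⁻¹ := by rw [hvh]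
      _ = _ := by group
  have huho : Odd (orderOf (u * h * u⁻¹)) := by
    have : orderOf (u * h * u⁻¹) = orderOf h := MulEquiv.orderOf_eq (MulAut.conj u) h
    rw [this]; exact hho
  have huh1 : u * h * u⁻¹ ≠ 1 := by
    intro h1
    apply hh1
    calc h = u⁻¹ * (u * h * u⁻¹) * u := by group
      _ = 1 := by rw [h1]; group
  have hcomm : h * u = u * h := by
    apply comm_pair (hVc v hv w hw) (hV2' v hv) (hV2' w hw) hho huo hh1 hvh hwh hvu hwu
    obtain ⟨w', hw', hw'1, hw'c⟩ := hS _ v hv huho huh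
    rcases hfour v hv w hw hv1 hw1 hvw w' hw' with h1 | h1 | h1 | h1
    · exact absurd h1 hw'1
    · rw [h1] at hw'c
      exact absurd hw'c (hinvne v hv _ huh1 huho huh)
    · left; rw [← h1]; exact hw'c
    · right; rw [← h1]; exact hw'c
  have hhuo : Odd (orderOf (h * u)) :=
    Odd.of_dvd_nat (hho.mul huo) ((show Commute h u from hcomm).orderOf_mul_dvd_mul_orderOf)
  have hvm : v * w ∈ V := V.mul_mem hv hw
  have hch : (v * w) * h * (v * w)⁻¹ = h⁻¹ := by
    calc v * w * h * (v * w)⁻¹ = v * (w * h) * w⁻¹ * v⁻¹ := by group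
      _ = v * (h * w) * w⁻¹ * v⁻¹ := by rw [hwh]
      _ = v * h * v⁻¹ := by group
      _ = _ := hvh
  have hcu : (v * w) * u * (v * w)⁻¹ = u⁻¹ := by
    rw [hVc v hv w hw]
    calc w * v * u * (w * v)⁻¹ = w * (v * u) * v⁻¹ * w⁻¹ := by group
      _ = w * (u * v) * v⁻¹ * w⁻¹ := by rw [hvu]
      _ = w * u * w⁻¹ := by group
      _ = _ := hwu
  have hinv : (v * w) * (h * u) * (v * w)⁻¹ = (h * u)⁻¹ := by
    calc (v * w) * (h * u) * (v * w)⁻¹ = ((v * w) * h * (v * w)⁻¹) * ((v * w) * u * (v * w)⁻¹) := by group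
      _ = h⁻¹ * u⁻¹ := by rw [hch, hcu]
      _ = (u * h)⁻¹ := by group
      _ = _ := by rw [hcomm]
  obtain ⟨w', hw', hw'1, hw'c⟩ := hS _ _ hvm hhuo hinv
  rcases hfour v hv w hw hv1 hw1 hvw w' hw' with h1 | h1 | h1 | h1
  · exact hw'1 h1
  · rw [h1] at hw'c
    -- v h = h v
    apply hinvne v hv h hh1 hho hvh
    have h2 : v * h * u = h * v * u := by
      calc v * h * u = v * (h * u) := by group
        _ = h * u * v := hw'c
        _ = h * (v * u) := by rw [hvu]; group
        _ = _ := by group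
    exact mul_right_cancel h2
  · rw [h1] at hw'c
    apply hinvne w hw u hu1 huo hwu
    have h2 : h * (w * u) = h * (u * w) := by
      calc h * (w * u) = (h * w) * u := by group
        _ = (w * h) * u := by rw [hwh]
        _ = w * (h * u) := by group
        _ = _ := by rw [hw'c]; group
    exact mul_left_cancel h2
  · rw [h1] at hw'c
    have h2 : h * u = 1 := by
      by_contra hne
      exact hinvne _ hvm _ hne hhuo hinv hw'c
    have h3 : u = h⁻¹ := (inv_eq_of_mul_eq_one_right h2).symm
    apply hinvne w hw u hu1 huo hwu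
    rw [h3, eq_inv_mul_iff_mul_eq, ← mul_assoc, ← hwh]; group

end Cfsg.Agent.S3011
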