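import Cfsg.Statements.S3049
import Mathlib
import Cfsg.Agent.LibLE11Iso
import Cfsg.Agent.LibLE11Syl
import Cfsg.Agent.LibLE11Act
import Cfsg.Agent.LibLE11CD
import Cfsg.Agent.LibComp
import Cfsg.Agent.LibPComp
import Cfsg.Agent.LibCores
import Cfsg.Agent.LibFus21Cen
import Cfsg.Agent.LibTransNil
import Cfsg.Agent.LibBGCop
import Cfsg.Agent.S2972

set_option autoImplicit false
set_option linter.all false
open Cfsg

namespace Cfsg.Agent.S3049

open Subgroup Cfsg CfsgLib.LE11Syl CfsgLib.LE11Iso
open scoped Pointwise commutatorElement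

theorem syl_subnormal {G : Type*} [Group G] [Finite G] {p : ℕ} [Fact p.Prime] (P : Sylow p G) {K : Subgroup G}
    (hK : K.IsSubnormal) : IsSyl p ((P : Subgroup G) ⊓ K) K := by
  induction hK with
  | top => rw [inf_top_eq]; exact isSyl_top P
  | step H K hHK hK hn ih =>
    have h1 := ih.inf_of_normal hHK ((normal_subgroupOf_iff_le_normalizer hHK).1 hn)
    rwa [inf_assoc, inf_eq_right.2 hHK] at h1

theorem iso_of_conj {G : Type*} [Group G] {x : G} (h : IsIsolated x) (n : G) : IsIsolated (n * x * n⁻¹) := by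
  intro g hg
  have h1 : Commute x ((n⁻¹ * g * n) * x * (n⁻¹ * g * n)⁻¹) := by
    have h2 := hg.map (MulAut.conj n⁻¹).toMonoidHom
    have e1 : (MulAut.conj n⁻¹).toMonoidHom (n * x * n⁻¹) = x := by
      show n⁻¹ * (n * x * n⁻¹) * n⁻¹⁻¹ = x
      group
    have e2 : (MulAut.conj n⁻¹).toMonoidHom (g * (n * x * n⁻¹) * g⁻¹) = (n⁻¹ * g * n) * x * (n⁻¹ * g * n)⁻¹ := by
      show n⁻¹ * (g * (n * x * n⁻¹) * g⁻¹) * n⁻¹⁻¹ = _
      group
    rwa [e1, e2] at h2
  have h3 := h _ h1
  calc g * (n * x * n⁻¹) * g⁻¹ = n * ((n⁻¹ * g * n) * x * (n⁻¹ * g * n)⁻¹) * n⁻¹ := by group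
    _ = n * x * n⁻¹ := by rw [h3]

/-- rank two -/
theorem rank_three {G : Type*} [Group G] [Finite G] {p : ℕ} [hp : Fact p.Prime] (hrank : PRankLE p 2 G) {c x u : G}
    (hcx : c * x = x * c) (hcu : c * u = u * c) (hxu : x * u = u * x) (hc : orderOf c = p) (hx : orderOf x = p)
    (hu : u ^ p = 1) (hn : x ∉ zpowers c) : ∃ i j : ℤ, u = c ^ i * x ^ j := by
  obtain ⟨B, hB⟩ : ∃ B, B = closure ({c, x, u} : Set G) := ⟨_, rfl⟩
  have hcomm : ∀ a ∈ ({c, x, u} : Set G), ∀ b ∈ ({c, x, u} : Set G), a * b = b * a := by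
    intro a ha b hb
    simp only [Set.mem_insert_iff, Set.mem_singleton_iff] at ha hb
    rcases ha with rfl | rfl | rfl <;> rcases hb with rfl | rfl | rfl <;>
      first | rfl | assumption | (symm; assumption)
  have hBc : IsMulCommutative B := by
    rw [hB]; exact isMulCommutative_closure hcomm
  have hBcomm : ∀ a ∈ B, ∀ b ∈ B, a * b = b * a := by
    intro a ha b hb
    exact congrArg Subtype.val (hBc.is_comm.comm (⟨a, ha⟩ : B) ⟨b, hb⟩)
  have hBe : ∀ a ∈ B, a ^ p = 1 := by
    intro a ha
    rw [hB] at ha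
    refine closure_induction (p := fun a _ => a ^ p = 1) ?_ (one_pow p) ?_ ?_ ha
    · intro b hb
      simp only [Set.mem_insert_iff, Set.mem_singleton_iff] at hb
      rcases hb with rfl | rfl | rfl
      · rw [← hc]; exact pow_orderOf_eq_one _
      · rw [← hx]; exact pow_orderOf_eq_one _
      · exact hu
    · intro a b ha hb ha' hb'
      have h1 : Commute a b := hBcomm a (by rw [hB]; exact ha) b (by rw [hB]; exact hb)
      rw [h1.mul_pow, ha', hb', one_mul]
    · intro a _ ha'
      rw [inv_pow, ha', inv_one]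
  have hBcard := hrank B hBc hBe
  have hcB : c ∈ B := by rw [hB]; exact subset_closure (by simp)
  have hxB : x ∈ B := by rw [hB]; exact subset_closure (by simp)
  have huB : u ∈ B := by rw [hB]; exact subset_closure (by simp)
  have hEset : ((zpowers c ⊔ zpowers x : Subgroup G) : Set G) = (zpowers c : Set G) * (zpowers x : Set G) := by
    apply Subgroup.coe_mul_of_left_le_normalizer_right
    rw [zpowers_le]
    apply CfsgLib.LE11Act.mem_normalizer_of_forall
    rintro _ ⟨k, rfl⟩
    have h3 : Commute c (x ^ k) := (show Commute c x from hcx).zpow_right k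
    have h4 : c * x ^ k * c⁻¹ = x ^ k := by rw [h3.eq, mul_inv_cancel_right]
    exact ⟨k, h4.symm⟩
  have hinf : zpowers c ⊓ zpowers x = ⊥ := by
    have h1 : Nat.card (zpowers c ⊓ zpowers x : Subgroup G) ∣ p := by
      rw [← hx, ← Nat.card_zpowers]; exact card_dvd_of_le inf_le_right
    rcases (Nat.dvd_prime hp.out).1 h1 with h2 | h2
    · exact card_eq_one.1 h2
    · exfalso
      apply hn
      have h3 : zpowers c ⊓ zpowers x = zpowers x := by
        apply Subgroup.eq_of_le_of_card_ge inf_le_right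
        rw [h2, Nat.card_zpowers, hx]
      have h4 : x ∈ zpowers c ⊓ zpowers x := by rw [h3]; exact mem_zpowers x
      exact h4.1
  have hEcard : Nat.card (zpowers c ⊔ zpowers x : Subgroup G) = p ^ 2 := by
    have h1 := CfsgLib.LE11CD.card_mul_card_inf (zpowers c) (zpowers x)
    rw [← hEset] at h1
    rw [hinf, card_bot, mul_one, Nat.card_zpowers, Nat.card_zpowers, hx, hc] at h1
    rw [pow_two]; exact h1
  have hEB : zpowers c ⊔ zpowers x = B :=
    Subgroup.eq_of_le_of_card_ge (sup_le (zpowers_le.2 hcB) (zpowers_le.2 hxB)) (by rw [hEcard]; exact hBcard)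
  have h1 : u ∈ ((zpowers c ⊔ zpowers x : Subgroup G) : Set G) := by rw [hEB]; exact huB
  rw [hEset] at h1
  obtain ⟨_, ⟨i, rfl⟩, _, ⟨j, rfl⟩, h2⟩ := h1
  exact ⟨i, j, h2.symm⟩

theorem no_npc {G : Type*} [Group G] [Finite G] {p : ℕ} [Fact p.Prime] (hq : IsQuasisimple G) (hdiv : p ∣ Nat.card G)
    (hN : HasNormalPComplement p G) : False := by
  have hpp : p.Prime := Fact.out
  obtain ⟨hperf, hsimp⟩ := hq
  obtain ⟨P', N, hNn, hcompl⟩ := hN
  have h1 : IsPGroup p (G ⧸ N) := by
    have h2 : IsPGroup p ↥(P' : Subgroup G) := P'.2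
    have h3 := hcompl.symm.QuotientMulEquiv
    exact h2.of_equiv h3.symm
  have h2 : N = ⊤ := by
    by_contra hne
    haveI : Nontrivial (G ⧸ N) := QuotientGroup.nontrivial_iff.2 hne
    have h3 : Group.IsSolvable (G ⧸ N) := by
      haveI := h1.isNilpotent
      infer_instance
    have h4 := Group.IsSolvable.commutator_lt_top_of_nontrivial (G ⧸ N)
    have h5 : commutator (G ⧸ N) = ⊤ := by
      have h6 : commutator G = ⊤ := hperf.commutator_eq_top
      have h7 := Subgroup.map_commutator (⊤ : Subgroup G) ⊤ (QuotientGroup.mk' N)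
      rw [← commutator_def, h6, Subgroup.map_top_of_surjective _ (QuotientGroup.mk'_surjective N)] at h7
      rw [commutator_def, ← h7]
    exact h4.ne h5
  have h3 : (P' : Subgroup G) = ⊥ := by
    have h4 := hcompl.disjoint
    rw [h2] at h4
    exact disjoint_top.1 h4.symm
  have h4 := P'.card_eq_multiplicity
  rw [h3, Subgroup.card_bot] at h4
  have h2' : (Nat.card G).factorization p ≠ 0 := by
    intro h3
    rcases (Nat.factorization_eq_zero_iff _ _).1 h3 with h4 | h4 | h4
    · exact h4 hpp
    · exact h4 hdiv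
    · exact Nat.card_pos.ne' h4
  have h3 := Nat.one_lt_pow h2' hpp.one_lt
  omega

/-- Let G be a finite group and p an odd prime with O_{p'}(G) = 1. Suppose that G has p-rank at most 2 (no elementary abelian subgroup of order p³) and that some element x of order p is isolated in G (no G-conjugate of x other than x commutes with x) and not central. Then the generalized Fitting subgroup F*(G) is a non-abelian simple group. Since O_{p'}(G) = 1, such an x is not central modulo O_{p'}(G): the hypotheses describe a counterexample to the Z*_p statement in p-rank at most 2. -/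
theorem result {G : Type*} [Group G] [Finite G] {p : ℕ} [Fact p.Prime] (hp : p ≠ 2) (hcore : Cfsg.pPrimeCore p G = ⊥)
    (hrank : Cfsg.PRankLE p 2 G) (x : G) (hx : orderOf x = p) (hiso : Cfsg.IsIsolated x) (hnc : x ∉ Subgroup.center G) :
    IsSimpleGroup ↥(Cfsg.generalizedFittingSubgroup G) ∧ ¬ IsMulCommutative ↥(Cfsg.generalizedFittingSubgroup G) := by
  classical
  have hpp : p.Prime := Fact.out
  have hxk : ∃ k : ℕ, orderOf x = p ^ k := ⟨1, by rw [hx, pow_one]⟩
  obtain ⟨P, hP⟩ := (isPGroup_zpowers hxk).exists_le_sylow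
  have hxP : x ∈ (P : Subgroup G) := hP (mem_zpowers x)
  have hnil : Group.IsNilpotent (P : Subgroup G) := P.isPGroup'.isNilpotent
  have hPc := iso_central hiso (P : Subgroup G) hxP
  have hFR : fittingSubgroup G ≤ pCore p G := Cfsg.Agent.S2972.fitting_le_pCore hcore
  have hRP : pCore p G ≤ (P : Subgroup G) := CfsgLib.Cores.pCore_le_sylow P
  have hxR : x ∉ pCore p G := by
    intro h
    apply hnc
    rw [mem_center_iff]
    intro g
    have h1 := iso_eq hiso P.isPGroup' hxP (hRP ((inferInstance : (pCore p G).Normal).conj_mem x h g))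
    calc g * x = (g * x * g⁻¹) * g := by group
      _ = x * g := by rw [h1]
  obtain ⟨K, hK, hKx⟩ : ∃ K : Subgroup G, IsComponent K ∧ ¬ ∀ k ∈ K, k * x = x * k := by
    by_contra hno
    push Not at hno
    apply hxR
    have h1 : layer G ≤ centralizer ({x} : Set G) := by
      apply sSup_le
      intro K hK k hk
      rw [mem_centralizer_singleton_iff]
      exact hno K hK k hk
    have h2 : generalizedFittingSubgroup G ≤ centralizer ({x} : Set G) := by
      rw [generalizedFittingSubgroup]
      first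
        | exact sup_le h1 (hFR.trans (hRP.trans hPc))
        | exact sup_le (hFR.trans (hRP.trans hPc)) h1
    obtain ⟨C, hC⟩ : ∃ C, C = centralizer (generalizedFittingSubgroup G : Set G) := ⟨_, rfl⟩
    have hxC : x ∈ C := by
      rw [hC, mem_centralizer_iff]
      intro y hy
      have := h2 hy
      rw [mem_centralizer_singleton_iff] at this
      exact this
    have hCn : C.Normal := by rw [hC]; infer_instance
    have hCc : IsMulCommutative C := by
      refine ⟨⟨fun a b => Subtype.ext ?_⟩⟩
      have ha : (a : G) ∈ generalizedFittingSubgroup G := by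
        apply CfsgLib.Comp.centralizer_gfitting_le
        rw [← hC]; exact a.2
      have hb := mem_centralizer_iff.1 (hC.le b.2)
      exact hb a ha
    exact CfsgLib.Cores.le_pCore hCn (Cfsg.Agent.S2972.comm_isPGroup hcore hCn hCc) hxC
  have hpcomp : ∀ L : Subgroup G, IsComponent L → p ∣ Nat.card L := by
    intro L hL
    by_contra hnd
    have h1 := CfsgLib.Comp.le_pPrimeCore_of_subnormal hL.1 (p := p) ((Nat.Prime.coprime_iff_not_dvd hpp).2 hnd).symm
    rw [hcore, le_bot_iff] at h1
    exact CfsgLib.Comp.component_ne_bot hL h1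
  have hpK := hpcomp K hK
  have hxN : x ∈ normalizer (K : Set G) := by
    by_contra hxN
    have hne : K ≠ K.map (MulAut.conj x).toMonoidHom := by
      intro h
      apply hxN
      rw [← conj_smul_eq_iff]
      exact h.symm
    have hcc := CfsgLib.Comp.components_commute hK (CfsgLib.Comp.isComponent_map_equiv (MulAut.conj x) hK) hne
    rw [commutator_eq_bot_iff_le_centralizer] at hcc
    apply CfsgLib.PComp.component_not_coprime hcore hK
    obtain ⟨Q, hQ⟩ := (syl_subnormal P hK.1).exists_sylow
    have hQc : (Q : Subgroup K) ≤ center K := by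
      intro q hq
      have h1 : (q : G) ∈ (P : Subgroup G) ⊓ K := by rw [← hQ]; exact ⟨q, hq, rfl⟩
      have h2 := hPc h1.1
      rw [mem_centralizer_singleton_iff] at h2
      have h3 : (q : G) ∈ K.map (MulAut.conj x).toMonoidHom := by
        refine ⟨q, q.2, ?_⟩
        show x * q * x⁻¹ = q
        rw [← h2]; group
      rw [mem_center_iff]
      intro k
      apply Subtype.ext
      have h4 := mem_centralizer_iff.1 (hcc k.2) _ h3
      exact h4.symm
    have h5 : (center K).index ∣ (Q : Subgroup K).index := index_dvd_of_le hQc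
    exact Nat.Coprime.coprime_dvd_left h5 ((Nat.Prime.coprime_iff_not_dvd hpp).2 Q.not_dvd_index).symm
  -- the centralizer is a p'-group
  obtain ⟨C, hC⟩ : ∃ C, C = centralizer (K : Set G) := ⟨_, rfl⟩
  have hCN : normalizer (K : Set G) ≤ normalizer (C : Set G) := by
    intro n hn
    apply CfsgLib.LE11Act.mem_normalizer_of_forall
    intro c hc
    rw [hC, mem_centralizer_iff] at hc ⊢
    intro k hk
    have h1 := hc _ ((mem_normalizer_iff.1 (inv_mem hn) k).1 hk)
    calc k * (n * c * n⁻¹) = n * ((n⁻¹ * k * n⁻¹⁻¹) * c) * n⁻¹ := by group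
      _ = n * (c * (n⁻¹ * k * n⁻¹⁻¹)) * n⁻¹ := by rw [h1]
      _ = _ := by group
  have hCleN : C ≤ normalizer (K : Set G) := by
    intro c hc
    rw [hC, mem_centralizer_iff] at hc
    apply CfsgLib.LE11Act.mem_normalizer_of_forall
    intro k hk
    rw [← hc k hk, mul_inv_cancel_right]; exact hk
  have hCp : ¬ p ∣ Nat.card C := by
    intro hd
    apply no_npc hK.2 hpK
    by_contra hno
    obtain ⟨U, g, hU, hg, ho, hgc⟩ := CfsgLib.TransNil.exists_of_not_hasNPC hno
    apply hgc
    have hz : zpowers g ≤ normalizer (U : Set K) := zpowers_le.2 hg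
    refine CfsgLib.BGPi.cop_omega hpp hp hU hz (by rw [Nat.card_zpowers]; exact ho) ?_ (mem_zpowers g)
    intro u hu hup a ha
    -- ambient
    obtain ⟨U', hU'⟩ : ∃ U', U' = U.map K.subtype := ⟨_, rfl⟩
    have hU'p : IsPGroup p U' := by rw [hU']; exact hU.map _
    have hU'K : U' ≤ K := by rw [hU']; exact map_subtype_le U
    have hmemU : ∀ v ∈ U, (v : G) ∈ U' := by intro v hv; rw [hU']; exact ⟨v, hv, rfl⟩
    obtain ⟨T, hT, hUT⟩ := exists_isSyl_ge (hU'K.trans le_normalizer) hU'p
    obtain ⟨n, hn, hxT⟩ := hT.conj_le (zpowers_le.2 hxN) (isPGroup_zpowers hxk)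
    have hx'T : n * x * n⁻¹ ∈ T := hxT ⟨x, mem_zpowers x, rfl⟩
    have hiso' := iso_of_conj hiso n
    have hx'o : orderOf (n * x * n⁻¹) = p := by
      rw [← hx]; exact MulEquiv.orderOf_eq (MulAut.conj n) x
    have hx'C : n * x * n⁻¹ ∉ C := by
      intro h
      apply hKx
      intro k hk
      rw [hC, mem_centralizer_iff] at h
      have h1 := h _ ((mem_normalizer_iff.1 hn k).1 hk)
      have h2 : n * (k * x) * n⁻¹ = n * (x * k) * n⁻¹ := by
        calc n * (k * x) * n⁻¹ = (n * k * n⁻¹) * (n * x * n⁻¹) := by group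
          _ = (n * x * n⁻¹) * (n * k * n⁻¹) := h1
          _ = _ := by group
      exact mul_left_cancel (mul_right_cancel h2)
    generalize n * x * n⁻¹ = x' at hx'T hiso' hx'o hx'C
    have hTnil : Group.IsNilpotent T := hT.2.1.isNilpotent
    have hTc := iso_central hiso' T hx'T
    have hTC := hT.inf_of_normal hCleN hCN
    obtain ⟨c0, hc0, hc01, hc0c⟩ := CfsgLib.Fus21.exists_central_mem hT.2.1 (inf_le_left : T ⊓ C ≤ T) (by
      intro t ht c hc
      exact ⟨T.mul_mem (T.mul_mem ht hc.1) (T.inv_mem ht), (mem_normalizer_iff.1 (hCN (hT.1 ht)) c).1 hc.2⟩)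
      (hTC.ne_bot hd)
    have hdz : p ∣ Nat.card (zpowers c0) := by
      apply dvd_card_of_ne_bot
      · exact (hT.2.1.to_le inf_le_left).to_le (zpowers_le.2 hc0)
      · rw [Ne, zpowers_eq_bot]; exact hc01
    obtain ⟨c', hc'⟩ := exists_prime_orderOf_dvd_card' p hdz
    obtain ⟨c, hc⟩ : ∃ c : G, c = (c' : G) := ⟨_, rfl⟩
    have hco : orderOf c = p := by rw [hc, Subgroup.orderOf_coe, hc']
    obtain ⟨m, hm⟩ := mem_zpowers_iff.1 c'.2
    rw [← hc] at hm
    have hcTC : c ∈ T ⊓ C := by rw [← hm]; exact (T ⊓ C).zpow_mem hc0 m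
    have hcc : ∀ t ∈ T, t * c = c * t := by
      intro t ht
      rw [← hm]
      exact ((show Commute t c0 from hc0c t ht).zpow_right m).eq
    have hx'z : x' ∉ zpowers c := by
      intro h
      apply hx'C
      exact (zpowers_le.2 hcTC.2) h
    have key : ∀ w ∈ U', w ^ p = 1 → ∀ y ∈ K, y * w * y⁻¹ ∈ U' → y * w * y⁻¹ = w := by
      intro w hw hwp y hy hyw
      have hwT := hUT hw
      have h1 := hTc hwT
      rw [mem_centralizer_singleton_iff] at h1
      obtain ⟨i, j, hij⟩ := rank_three hrank (hcc x' hx'T).symm (hcc w hwT).symm h1.symm hco hx'o hwp hx'z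
      have hyc : Commute y (c ^ i) := by
        have h2 : c ∈ C := hcTC.2
        rw [hC, mem_centralizer_iff] at h2
        exact (show Commute y c from h2 y hy).zpow_right i
      have h3 : y * w * y⁻¹ = c ^ i * (y * x' ^ j * y⁻¹) := by
        rw [hij]
        calc y * (c ^ i * x' ^ j) * y⁻¹ = (y * c ^ i) * x' ^ j * y⁻¹ := by group
          _ = (c ^ i * y) * x' ^ j * y⁻¹ := by rw [hyc.eq]
          _ = _ := by group
      have h4 : y * x' ^ j * y⁻¹ ∈ T := by
        have h5 : y * x' ^ j * y⁻¹ = (c ^ i)⁻¹ * (y * w * y⁻¹) := by rw [h3]; group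
        rw [h5]
        exact T.mul_mem (T.inv_mem (T.zpow_mem hcTC.1 i)) (hUT hyw)
      have h5 := iso_zpow ⟨1, by rw [hx'o, pow_one]⟩ hiso' hT.2.1 hx'T ⟨j, rfl⟩ h4
      have h5' : y * x' ^ j * y⁻¹ = x' ^ j := h5
      rw [h3, h5', hij]
    have haN := hz ha
    have h6 : (a : G) * (u : G) * (a : G)⁻¹ = u := by
      apply key (u : G) (hmemU u hu) (by
        have := congrArg Subtype.val hup
        exact this) (a : G) a.2
      exact hmemU _ ((mem_normalizer_iff.1 haN u).1 hu)
    apply Subtype.ext
    show (a : G) * (u : G) = u * a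
    calc (a : G) * (u : G) = ((a : G) * (u : G) * (a : G)⁻¹) * a := by group
      _ = u * a := by rw [h6]
  -- conclusion
  have hFC : fittingSubgroup G ≤ C := by
    have h1 := CfsgLib.Comp.component_commute_fitting hK
    rw [commutator_comm, commutator_eq_bot_iff_le_centralizer] at h1
    rw [hC]; exact h1
  have hpb : pCore p G = ⊥ := by
    by_contra hne
    apply hCp
    exact (dvd_card_of_ne_bot (CfsgLib.Cores.pCore_isPGroup p) hne).trans
      (card_dvd_of_le ((CfsgLib.Cores.pCore_le_fittingSubgroup p).trans hFC))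
  have hFb : fittingSubgroup G = ⊥ := by
    rw [eq_bot_iff, ← hpb]; exact hFR
  have hlayer : layer G = K := by
    apply le_antisymm
    · apply sSup_le
      intro L hL
      by_cases hLK : L = K
      · rw [hLK]
      · exfalso
        apply hCp
        have h1 := CfsgLib.Comp.components_commute hL hK hLK
        rw [commutator_eq_bot_iff_le_centralizer] at h1
        rw [hC]
        exact (hpcomp L hL).trans (card_dvd_of_le h1)
    · exact CfsgLib.Comp.component_le_layer hK
  have hgf : generalizedFittingSubgroup G = K := by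
    rw [generalizedFittingSubgroup, hlayer, hFb]
    first
      | rw [sup_bot_eq]
      | rw [bot_sup_eq]
  have hZb : center K = ⊥ := by
    have h1 : ((center K).map K.subtype).IsSubnormal := by
      apply IsSubnormal.trans' _ hK.1
      exact Normal.isSubnormal inferInstance
    have h2 : (center K).map K.subtype ≤ C := by
      rintro _ ⟨z, hz, rfl⟩
      rw [hC, mem_centralizer_iff]
      intro k hk
      exact congrArg Subtype.val (mem_center_iff.1 hz ⟨k, hk⟩)
    have h3 := CfsgLib.Comp.le_pPrimeCore_of_subnormal h1 (p := p) (by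
      apply Nat.Coprime.symm
      rw [Nat.Prime.coprime_iff_not_dvd hpp]
      intro h
      exact hCp (h.trans (card_dvd_of_le h2)))
    rw [hcore, le_bot_iff, map_eq_bot_iff_of_injective _ K.subtype_injective] at h3
    exact h3
  rw [hgf]
  refine ⟨?_, ?_⟩
  · have h1 := hK.2.2
    have e : (K ⧸ center K) ≃* K := (QuotientGroup.quotientMulEquivOfEq hZb).trans QuotientGroup.quotientBot
    exact e.symm.isSimpleGroup
  · intro h
    apply CfsgLib.Comp.quasisimple_center_ne_top hK.2
    rw [eq_top_iff]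
    intro a _
    rw [mem_center_iff]
    intro b
    exact h.is_comm.comm b a

end Cfsg.Agent.S3049
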