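import Cfsg.Statements.S3062
import Mathlib
import Cfsg.Agent.LibLE11Repl
import Cfsg.Agent.S3061

set_option autoImplicit false
set_option linter.all false
open Cfsg

namespace Cfsg.Agent.S3062

open CfsgLib.LE11Repl CfsgLib.LE11CD CfsgLib.LE11CD2 CfsgLib.LE11CD3
open scoped commutatorElement Pointwise

/-- if `B` is abelian and `x` normalizes `B` with `[B,x] ≤ C_B(x)`, the group `B⟨x⟩` has class two -/
theorem class_two {S : Type*} [Group S] {B : Subgroup S} (hab : ∀ a ∈ B, ∀ b ∈ B, a * b = b * a) (x : S)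
    (hx : ∀ b ∈ B, x * b * x⁻¹ * b⁻¹ ∈ B ∧ (x * b * x⁻¹ * b⁻¹) * x = x * (x * b * x⁻¹ * b⁻¹)) :
    ⁅⁅B ⊔ Subgroup.zpowers x, B ⊔ Subgroup.zpowers x⁆, B ⊔ Subgroup.zpowers x⁆ = ⊥ := by
  set T := B ⊔ Subgroup.zpowers x with hT
  set Z := T ⊓ Subgroup.centralizer (T : Set S) with hZ
  have hcz : ∀ z ∈ B, z * x = x * z → z ∈ Z := by
    intro z hz hzx
    refine ⟨Subgroup.mem_sup_left hz, ?_⟩
    have hle : T ≤ Subgroup.centralizer ({z} : Set S) := by
      rw [hT]
      apply sup_le
      · intro b hb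
        rw [Subgroup.mem_centralizer_singleton_iff]; exact hab b hb z hz
      · rw [Subgroup.zpowers_le, Subgroup.mem_centralizer_singleton_iff]; exact hzx.symm
    show z ∈ Subgroup.centralizer (T : Set S)
    rw [Subgroup.mem_centralizer_iff]
    intro t ht
    exact Subgroup.mem_centralizer_singleton_iff.mp (hle ht)
  have hZc : ∀ z ∈ Z, ∀ t ∈ T, z * t = t * z := fun z hz t ht => (Subgroup.mem_centralizer_iff.mp hz.2 t ht).symm
  -- commutators of generators are in Z
  have hgen : ∀ u ∈ (B : Set S) ∪ {x}, ∀ v ∈ (B : Set S) ∪ {x}, ⁅u, v⁆ ∈ Z := by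
    have h1 : ∀ b ∈ B, ⁅x, b⁆ ∈ Z := by
      intro b hb
      rw [commutatorElement_def]
      exact hcz _ (hx b hb).1 (hx b hb).2
    rintro u (hu | hu) v (hv | hv)
    · have : ⁅u, v⁆ = 1 := commutatorElement_eq_one_iff_mul_comm.mpr (hab u hu v hv)
      rw [this]; exact Z.one_mem
    · rw [Set.mem_singleton_iff] at hv; subst hv
      rw [← commutatorElement_inv]; exact Z.inv_mem (h1 u hu)
    · rw [Set.mem_singleton_iff] at hu; subst hu
      exact h1 v hv
    · rw [Set.mem_singleton_iff] at hu hv; subst hu; subst hv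
      rw [commutatorElement_self]; exact Z.one_mem
  have hTcl : T = Subgroup.closure ((B : Set S) ∪ {x}) := by
    rw [hT, Subgroup.closure_union, Subgroup.closure_eq, Subgroup.zpowers_eq_closure]
  -- for fixed u, {v ∈ T | ⁅u,v⁆ ∈ Z} is a subgroup
  have hmul : ∀ u ∈ T, ∀ v ∈ T, ∀ w ∈ T, ⁅u, v⁆ ∈ Z → ⁅u, w⁆ ∈ Z → ⁅u, v * w⁆ ∈ Z := by
    intro u hu v hv w hw h1 h2
    have e : ⁅u, v * w⁆ = ⁅u, v⁆ * (v * ⁅u, w⁆ * v⁻¹) := by simp only [commutatorElement_def]; group
    rw [e]
    have e2 : v * ⁅u, w⁆ * v⁻¹ = ⁅u, w⁆ := by rw [← hZc _ h2 v hv]; group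
    rw [e2]; exact Z.mul_mem h1 h2
  have hinv : ∀ u ∈ T, ∀ v ∈ T, ⁅u, v⁆ ∈ Z → ⁅u, v⁻¹⁆ ∈ Z := by
    intro u hu v hv h1
    have e : ⁅u, v⁻¹⁆ = v⁻¹ * ⁅u, v⁆⁻¹ * v := by simp only [commutatorElement_def]; group
    rw [e]
    have h2 := Z.inv_mem h1
    have e2 : v⁻¹ * ⁅u, v⁆⁻¹ * v = ⁅u, v⁆⁻¹ := by
      rw [mul_assoc, hZc _ h2 v hv]; group
    rw [e2]; exact h2
  have step1 : ∀ u ∈ (B : Set S) ∪ {x}, ∀ v ∈ T, ⁅u, v⁆ ∈ Z := by
    intro u hu v hv
    have huT : u ∈ T := by rw [hTcl]; exact Subgroup.subset_closure hu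
    rw [hTcl] at hv
    induction hv using Subgroup.closure_induction with
    | mem v hv => exact hgen u hu v hv
    | one => rw [commutatorElement_one_right]; exact Z.one_mem
    | mul v w hv hw h1 h2 =>
      exact hmul u huT v (by rw [hTcl]; exact hv) w (by rw [hTcl]; exact hw) h1 h2
    | inv v hv h1 => exact hinv u huT v (by rw [hTcl]; exact hv) h1
  have step2 : ∀ u ∈ T, ∀ v ∈ T, ⁅u, v⁆ ∈ Z := by
    intro v hv u hu
    rw [← commutatorElement_inv]
    apply Z.inv_mem
    -- ⁅u, v⁆ with v in closure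
    have key : ∀ v ∈ T, ⁅u, v⁆ ∈ Z := by
      intro v hv
      rw [hTcl] at hv
      induction hv using Subgroup.closure_induction with
      | mem v hv =>
        rw [← commutatorElement_inv]
        exact Z.inv_mem (step1 v hv u hu)
      | one => rw [commutatorElement_one_right]; exact Z.one_mem
      | mul v w hv hw h1 h2 =>
        exact hmul u hu v (by rw [hTcl]; exact hv) w (by rw [hTcl]; exact hw) h1 h2
      | inv v hv h1 => exact hinv u hu v (by rw [hTcl]; exact hv) h1
    exact key v hv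
  rw [eq_bot_iff]
  have h1 : ⁅T, T⁆ ≤ Z := by rw [Subgroup.commutator_le]; exact step2
  have h2 : ⁅⁅T, T⁆, T⁆ ≤ ⁅Z, T⁆ := Subgroup.commutator_mono h1 le_rfl
  refine h2.trans ?_
  rw [Subgroup.commutator_le]
  intro z hz t ht
  rw [Subgroup.mem_bot]
  exact commutatorElement_eq_one_iff_mul_comm.mpr (hZc z hz t ht)

theorem fam_conj {S : Type*} [Group S] : ∀ (A : Subgroup S), A ∈ Cfsg.dStarFamily S → ∀ g : S, A.map (MulAut.conj g).toMonoidHom ∈ Cfsg.dStarFamily S := by
  intro A hA g
  refine ⟨?_, ?_⟩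
  · refine ⟨⟨?_⟩⟩
    rintro ⟨_, x, hx, rfl⟩ ⟨_, y, hy, rfl⟩
    apply Subtype.ext
    have := congrArg Subtype.val (hA.1.is_comm.comm (⟨x, hx⟩ : A) ⟨y, hy⟩)
    show (MulAut.conj g) x * (MulAut.conj g) y = (MulAut.conj g) y * (MulAut.conj g) x
    rw [← map_mul, ← map_mul]
    exact congrArg _ this
  · rintro x hx _ ⟨a, ha, rfl⟩
    have h1 := hA.2 ((MulAut.conj g).symm x) (by
      have e : (A ⊔ Subgroup.zpowers ((MulAut.conj g).symm x)).map (MulAut.conj g).toMonoidHom = A.map (MulAut.conj g).toMonoidHom ⊔ Subgroup.zpowers x := by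
        rw [Subgroup.map_sup, MonoidHom.map_zpowers]
        congr 2
        exact (MulAut.conj g).apply_symm_apply x
      rw [← e, ← Subgroup.map_commutator, ← Subgroup.map_commutator] at hx
      rwa [Subgroup.map_eq_bot_iff_of_injective _ (MulAut.conj g).injective] at hx) a ha
    show (MulAut.conj g) a * x = x * (MulAut.conj g) a
    have h2 := congrArg (MulAut.conj g) h1
    rw [map_mul, map_mul, (MulAut.conj g).apply_symm_apply] at h2
    exact h2

/-- Let S be a finite p-group, J(S) the subgroup generated by the abelian subgroups of S of largest order and Z(J(S)) its centre. Then Z(S) ≤ D*(S) ≤ Z(J(S)), and every maximal normal abelian subgroup of S contains D*(S). -/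
theorem result {S : Type*} [Group S] [Finite S] {p : ℕ} [Fact p.Prime]
    (hS : IsPGroup p S) :
    Subgroup.center S ≤ Cfsg.dStar S ∧
    Cfsg.dStar S ≤ Cfsg.thompsonSubgroupA S ⊓ Subgroup.centralizer (Cfsg.thompsonSubgroupA S : Set S) ∧
    ∀ A : Subgroup S, A.Normal → IsMulCommutative A →
      (∀ B : Subgroup S, B.Normal → IsMulCommutative B → A ≤ B → B = A) → Cfsg.dStar S ≤ A := by
  classical
  haveI : Group.IsNilpotent S := hS.isNilpotent
  have hD := Cfsg.Agent.S3061.result hS
  set D := Cfsg.dStar S with hDdef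
  have hDab : ∀ a ∈ D, ∀ b ∈ D, a * b = b * a := fun a ha b hb => congrArg Subtype.val (hD.1.is_comm.comm (⟨a, ha⟩ : D) ⟨b, hb⟩)
  have hDn : D.Normal := by
    have hle : ∀ g : S, D.map (MulAut.conj g).toMonoidHom ≤ D := by
      intro g
      rw [Subgroup.map_le_iff_le_comap, hDdef]
      apply sSup_le
      intro A hA
      rw [← Subgroup.map_le_iff_le_comap]
      exact le_sSup (fam_conj A hA g)
    exact ⟨fun n hn g => hle g ⟨n, hn, rfl⟩⟩
  -- main tool
  have htool : ∀ a : S, (∀ b ∈ D, (a * b * a⁻¹ * b⁻¹) * a = a * (a * b * a⁻¹ * b⁻¹)) → ∀ b ∈ D, b * a = a * b := by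
    intro a ha
    apply hD.2
    apply class_two hDab
    intro b hb
    exact ⟨D.mul_mem (hDn.conj_mem b hb a) (D.inv_mem hb), ha b hb⟩
  refine ⟨?_, ?_, ?_⟩
  · apply le_sSup
    refine ⟨⟨⟨fun a b => Subtype.ext ((Subgroup.mem_center_iff.mp b.2 a))⟩⟩, fun x _ a ha => (Subgroup.mem_center_iff.mp ha x).symm⟩
  · have hmain : ∀ A ∈ Cfsg.maxAbelianSubgroups S, ∀ b ∈ D, ∀ a ∈ A, b * a = a * b := by
      by_contra hcon
      push Not at hcon
      obtain ⟨A0, hA0, hA0c⟩ := hcon
      obtain ⟨A, ⟨hA, hAc⟩, hmax⟩ := Set.Finite.exists_maximalFor (fun X : Subgroup S => Nat.card (X ⊓ D : Subgroup S))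
        {X : Subgroup S | X ∈ Cfsg.maxAbelianSubgroups S ∧ ∃ b ∈ D, ∃ a ∈ X, b * a ≠ a * b} (Set.toFinite _) ⟨A0, hA0, hA0c⟩
      have hcomm : ∀ a ∈ A, ∀ b ∈ A, a * b = b * a := fun a ha b hb => congrArg Subtype.val (hA.1.is_comm.comm (⟨a, ha⟩ : A) ⟨b, hb⟩)
      by_cases hDA : D ≤ Subgroup.normalizer (A : Set S)
      · obtain ⟨b0, hb0, a, ha, hne⟩ := hAc
        apply hne
        apply htool a _ b0 hb0
        intro b hb
        apply hcomm _ _ _ ha
        have h1 := (Subgroup.mem_normalizer_iff.mp (hDA hb) a⁻¹).mp (A.inv_mem ha)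
        have e : a * b * a⁻¹ * b⁻¹ = a * (b * a⁻¹ * b⁻¹) := by group
        rw [e]; exact A.mul_mem ha h1
      · set N := D ⊓ Subgroup.normalizer (A : Set S) with hN
        have hDN : ¬ D ≤ N := fun h => hDA (h.trans inf_le_right)
        obtain ⟨y, hyD, hyN, hy⟩ := exists_fixed (N := A) hDN (by rw [Subgroup.normalizer_eq_top D]; exact le_top)
        have hNA : ∀ a ∈ A, ∀ n ∈ N, a⁻¹ * n * a ∈ N := by
          intro a ha n hn
          refine ⟨?_, ?_⟩
          · have := hDn.conj_mem n hn.1 a⁻¹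
            rwa [inv_inv] at this
          · exact Subgroup.mul_mem _ (Subgroup.mul_mem _ (Subgroup.inv_mem _ (Subgroup.le_normalizer ha)) hn.2) (Subgroup.le_normalizer ha)
        set M := Subgroup.closure {m | ∃ a ∈ A, m = (y⁻¹)⁻¹ * a⁻¹ * y⁻¹ * a} with hM
        have hMN : M ≤ N := by
          rw [hM, Subgroup.closure_le]
          rintro _ ⟨a, ha, rfl⟩
          have e : (y⁻¹)⁻¹ * a⁻¹ * y⁻¹ * a = a⁻¹ * (a * y * a⁻¹ * y⁻¹) * a := by group
          rw [SetLike.mem_coe, e]
          exact hNA a ha _ (hy a ha)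
        have hMD : M ≤ D := hMN.trans inf_le_left
        have hDD : D ≤ Subgroup.centralizer (D : Set S) := by
          intro a ha
          rw [Subgroup.mem_centralizer_iff]
          intro b hb
          exact hDab b hb a ha
        have hMab : M ≤ Subgroup.centralizer (M : Set S) :=
          (hMD.trans hDD).trans (Subgroup.centralizer_le (SetLike.coe_subset_coe.mpr hMD))
        have hrep := replace hA y⁻¹ M hM hMab
        set A' := M ⊔ (A ⊓ Subgroup.centralizer (M : Set S)) with hA'
        have hle1 : A ⊓ D ≤ A' ⊓ D := by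
          apply le_inf _ inf_le_right
          refine le_trans ?_ le_sup_right
          apply le_inf inf_le_left
          exact (inf_le_right.trans hDD).trans (Subgroup.centralizer_le (SetLike.coe_subset_coe.mpr hMD))
        have hA'N : A' ≤ Subgroup.normalizer (A : Set S) :=
          sup_le (hMN.trans inf_le_right) (inf_le_left.trans Subgroup.le_normalizer)
        by_cases hMA : M ≤ A
        · -- y normalizes A
          apply hyN
          refine ⟨hyD, ?_⟩
          apply mem_normalizer_of_conj_smul_eq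
          apply Subgroup.eq_of_le_of_card_ge _ (by rw [card_smul])
          intro z hz
          rw [Subgroup.mem_pointwise_smul_iff_inv_smul_mem, ← map_inv, MulAut.smul_def, MulAut.conj_apply, inv_inv] at hz
          -- a = y⁻¹ z y ∈ A, z = y a y⁻¹
          have h5 : (y⁻¹)⁻¹ * (y⁻¹ * z * y)⁻¹ * y⁻¹ * (y⁻¹ * z * y) ∈ A := hMA (by rw [hM]; exact Subgroup.subset_closure ⟨_, hz, rfl⟩)
          have h6 := A.mul_mem h5 (A.inv_mem hz)
          have e : (y⁻¹)⁻¹ * (y⁻¹ * z * y)⁻¹ * y⁻¹ * (y⁻¹ * z * y) * (y⁻¹ * z * y)⁻¹ = z⁻¹ := by group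
          rw [e] at h6
          simpa using A.inv_mem h6
        · -- larger intersection
          have hlt : Nat.card (A ⊓ D : Subgroup S) < Nat.card (A' ⊓ D : Subgroup S) := by
            by_contra hc
            push Not at hc
            have h7 := Subgroup.eq_of_le_of_card_ge hle1 hc
            apply hMA
            have : M ≤ A' ⊓ D := le_inf le_sup_left hMD
            rw [← h7] at this
            exact this.trans inf_le_left
          by_cases hc : ∃ b ∈ D, ∃ a ∈ A', b * a ≠ a * b
          · exact absurd (hmax (j := A') ⟨hrep, hc⟩ hlt.le) (not_le.mpr hlt)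
          · push Not at hc
            apply hDA
            have h8 : D ≤ A' := by
              rw [← maxAbelian_centralizer hrep]
              intro b hb
              rw [Subgroup.mem_centralizer_iff]
              intro a ha
              exact (hc b hb a ha).symm
            exact h8.trans hA'N
    apply le_inf
    · obtain ⟨A, hA⟩ := exists_maxAbelian (G := S)
      refine le_trans ?_ (le_sSup hA)
      intro b hb
      have h1 : b ∈ Subgroup.centralizer (A : Set S) := by
        rw [Subgroup.mem_centralizer_iff]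
        intro a ha
        exact (hmain A hA b hb a ha).symm
      rwa [maxAbelian_centralizer hA] at h1
    · intro b hb
      have hle : Cfsg.thompsonSubgroupA S ≤ Subgroup.centralizer ({b} : Set S) := by
        apply sSup_le
        intro A hA a ha
        rw [Subgroup.mem_centralizer_singleton_iff]
        exact (hmain A hA b hb a ha).symm
      rw [Subgroup.mem_centralizer_iff]
      intro y hy
      exact Subgroup.mem_centralizer_singleton_iff.mp (hle hy)
  · intro A hAn hAab hAmax
    have hcomm : ∀ a ∈ A, ∀ b ∈ A, a * b = b * a := fun a ha b hb => congrArg Subtype.val (hAab.is_comm.comm (⟨a, ha⟩ : A) ⟨b, hb⟩)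
    have h1 : ∀ a ∈ A, ∀ b ∈ D, b * a = a * b := by
      intro a ha
      apply htool
      intro b hb
      apply hcomm _ _ _ ha
      have e : a * b * a⁻¹ * b⁻¹ = a * (b * a⁻¹ * b⁻¹) := by group
      rw [e]; exact A.mul_mem ha (hAn.conj_mem _ (A.inv_mem ha) b)
    have h2 := hAmax (A ⊔ D) inferInstance (by
      rw [comm_iff_le_centralizer, centralizer_sup]
      apply sup_le
      · apply le_inf (comm_iff_le_centralizer.mp hAab)
        intro a ha
        rw [Subgroup.mem_centralizer_iff]
        intro b hb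
        exact h1 a ha b hb
      · apply le_inf
        · intro b hb
          rw [Subgroup.mem_centralizer_iff]
          intro a ha
          exact (h1 a ha b hb).symm
        · intro a ha
          rw [Subgroup.mem_centralizer_iff]
          intro b hb
          exact hDab b hb a ha) le_sup_left
    rw [← h2]; exact le_sup_right

end Cfsg.Agent.S3062
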