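import Cfsg.Statements.S3060
import Cfsg.Agent.LibDZJ9
import Cfsg.Agent.S3062

set_option autoImplicit false
open Cfsg

namespace Cfsg.Agent.S3060

open Subgroup Cfsg MulAction CfsgLib.Cores CfsgLib.Coprime CfsgLib.H2Misc CfsgLib.H2Solv CfsgLib.H2Subn CfsgLib.H2Quad CfsgLib.H2Gen CfsgLib.H2Gen2 CfsgLib.H2Thomp CfsgLib.H2Lift CfsgLib.H2PG CfsgLib.H2Repl CfsgLib.H2Glaub CfsgLib.H2ZJ
open CfsgLib.FusionH12 (cj mem_cj conj_mem_cj cj_mono cj_of_mem cj_of_normal cj_normalizer cj_le')
open scoped Pointwise commutatorElement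

/-- the class two condition -/
def cls {G : Type*} [Group G] (A : Subgroup G) (x : G) : Prop :=
  ⁅⁅A ⊔ zpowers x, A ⊔ zpowers x⁆, A ⊔ zpowers x⁆ = ⊥

theorem cls_mono {G : Type*} [Group G] {A B : Subgroup G} (h : A ≤ B) {x : G} (hx : cls B x) : cls A x := by
  rw [cls, eq_bot_iff, ← hx]
  have h1 : A ⊔ zpowers x ≤ B ⊔ zpowers x := sup_le_sup_right h _
  exact commutator_mono (commutator_mono h1 h1) h1

theorem cls_map {G H : Type*} [Group G] [Group H] (f : G →* H) (hf : Function.Injective f) {A : Subgroup G} {x : G} :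
    cls (A.map f) (f x) ↔ cls A x := by
  have e : A.map f ⊔ zpowers (f x) = (A ⊔ zpowers x).map f := by
    rw [Subgroup.map_sup, MonoidHom.map_zpowers]
  rw [cls, cls, e, ← map_commutator, ← map_commutator, Subgroup.map_eq_bot_iff_of_injective _ hf]

/-- The D*-Theorem. For a finite p-group S let D*(S) be the subgroup generated by the abelian subgroups A of S such that every x ∈ S with ⟨A, x⟩ of nilpotency class at most two centralizes A. Let p be an odd prime and H a finite p-stable group with Sylow p-subgroup S. Here H is p-stable in the following sense: the largest normal p-subgroup O_p(H) contains its centralizer in H, and for every normal p-subgroup P of H, every element acting quadratically on P has image in O_p(H/C_H(P)). Then D*(S) is a normal subgroup of H. -/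
theorem result {G : Type*} [Group G] [Finite G] {p : ℕ} [Fact p.Prime] (hp : p ≠ 2)
    (hc : Subgroup.centralizer (Cfsg.pCore p G : Set G) ≤ Cfsg.pCore p G)
    (hst : ∀ (P : Subgroup G) [P.Normal], IsPGroup p P → Cfsg.IsPStableOn p P) (S : Sylow p G) :
    (Cfsg.dStarOf (S : Subgroup G)).Normal := by
  set SG : Subgroup G := (S : Subgroup G) with hSG
  have hfam := Cfsg.Agent.S3061.result S.isPGroup'
  set D := dStarOf SG with hD
  have hDS : D ≤ SG := map_subtype_le _
  have hab : ∀ a ∈ D, ∀ b ∈ D, a * b = b * a := by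
    rintro _ ⟨a, ha, rfl⟩ _ ⟨b, hb, rfl⟩
    exact congrArg (fun z : (dStar SG) => ((z : SG) : G)) (hfam.1.is_comm.comm (⟨a, ha⟩ : dStar SG) ⟨b, hb⟩)
  have hx : ∀ x ∈ SG, cls D x → ∀ a ∈ D, a * x = x * a := by
    rintro x hx hc _ ⟨a, ha, rfl⟩
    have h1 : cls (dStar SG) (⟨x, hx⟩ : SG) := (cls_map SG.subtype SG.subtype_injective).1 hc
    exact congrArg SG.subtype (hfam.2 _ h1 a ha)
  have hmax : ∀ A : Subgroup G, A ≤ SG → IsMulCommutative A → (∀ x ∈ SG, cls A x → ∀ a ∈ A, a * x = x * a) → A ≤ D := by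
    intro A hA hAc hAx a ha
    have h1 : A.subgroupOf SG ∈ dStarFamily SG := by
      refine ⟨CfsgLib.Qd9.comm_subgroupOf hAc SG, ?_⟩
      intro x hc b hb
      have h2 : cls ((A.subgroupOf SG).map SG.subtype) (SG.subtype x) := (cls_map SG.subtype SG.subtype_injective).2 hc
      rw [subgroupOf_map_subtype, inf_eq_left.2 hA] at h2
      exact Subtype.ext (hAx x x.2 h2 b hb)
    exact ⟨⟨a, hA ha⟩, (le_sSup h1 : A.subgroupOf SG ≤ dStar SG) ha, rfl⟩
  have hSD1 : ∀ s ∈ SG, cj s D ≤ D := by
    intro s hs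
    refine hmax _ ?_ ?_ ?_
    · rw [← cj_of_mem hs]; exact cj_mono hDS
    · refine ⟨⟨?_⟩⟩
      rintro ⟨_, x, hx, rfl⟩ ⟨_, y, hy, rfl⟩
      apply Subtype.ext
      change (MulAut.conj s) x * (MulAut.conj s) y = (MulAut.conj s) y * (MulAut.conj s) x
      rw [← map_mul, ← map_mul, hab x hx y hy]
    · rintro x hxS hc _ ⟨a, ha, rfl⟩
      have e : x = (MulAut.conj s).toMonoidHom (s⁻¹ * x * s) := by
        change x = s * (s⁻¹ * x * s) * s⁻¹
        group
      rw [e] at hc
      have h1 := (cls_map (MulAut.conj s).toMonoidHom (MulAut.conj s).injective).1 hc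
      have h2 := hx _ (SG.mul_mem (SG.mul_mem (SG.inv_mem hs) hxS) hs) h1 a ha
      change s * a * s⁻¹ * x = x * (s * a * s⁻¹)
      calc s * a * s⁻¹ * x = s * (a * (s⁻¹ * x * s)) * s⁻¹ := by group
        _ = s * ((s⁻¹ * x * s) * a) * s⁻¹ := by rw [h2]
        _ = _ := by group
  have hSD : SG ≤ normalizer (D : Set G) := by
    intro s hs
    rw [mem_normalizer_iff]
    intro x
    refine ⟨fun h => hSD1 s hs (conj_mem_cj h), fun h => ?_⟩
    have h1 := hSD1 s⁻¹ (SG.inv_mem hs) (conj_mem_cj h)
    have e : s⁻¹ * (s * x * s⁻¹) * s⁻¹⁻¹ = x := by group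
    rwa [e] at h1
  set T := pCore p G with hT
  have hTS : T ≤ SG := pCore_le_sylow S
  have hTn : T.Normal := by rw [hT]; infer_instance
  have hDT : D ≤ T := by
    intro z hz
    have hzD : zpowers z ≤ D := zpowers_le.mpr hz
    have h2 : ⁅⁅T, zpowers z⁆, zpowers z⁆ = ⊥ := by
      rw [commutator_eq_bot_iff_le_centralizer]
      have h3 : ⁅T, zpowers z⁆ ≤ D := by
        rw [commutator_comm]
        exact (commutator_mono hzD hTS).trans (le_normalizer_iff_commutator_le_left.mp hSD)
      exact h3.trans ((le_centralizer_of_comm hab).trans (centralizer_le hzD))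
    have h4 := hst (pCore p G) (pCore_isPGroup p) z h2
    have h5 : (pCore p (G ⧸ centralizer (pCore p G : Set G))).comap (QuotientGroup.mk' _) ≤ pCore p G := by
      apply le_pCore ((inferInstance : (pCore p (G ⧸ centralizer (pCore p G : Set G))).Normal).comap _)
      exact comap_mk_isPGroup _ ((pCore_isPGroup p).to_le hc) _ (pCore_isPGroup p)
    exact h5 h4
  -- conjugates of `D` centralize `D`
  have hconj : ∀ g : G, ∀ b ∈ cj g D, ∀ a ∈ D, a * b = b * a := by
    intro g b hb
    have hTg : T ≤ normalizer ((cj g D : Subgroup G) : Set G) := by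
      rw [← cj_normalizer, ← cj_of_normal g T]
      exact cj_mono (hTS.trans hSD)
    have hbT : b ∈ T := by
      rw [← cj_of_normal g T]; exact cj_mono hDT hb
    apply hx b (hTS hbT)
    apply Cfsg.Agent.S3062.class_two hab
    intro a ha
    have h1 : b * a * b⁻¹ * a⁻¹ ∈ D := D.mul_mem ((mem_normalizer_iff.1 (hSD (hTS hbT)) a).1 ha) (D.inv_mem ha)
    refine ⟨h1, ?_⟩
    have h2 : b * a * b⁻¹ * a⁻¹ ∈ cj g D := by
      have h3 : a * b⁻¹ * a⁻¹ ∈ cj g D :=
        (mem_normalizer_iff.1 (hTg (hDT ha)) _).1 ((cj g D).inv_mem hb)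
      have e : b * a * b⁻¹ * a⁻¹ = b * (a * b⁻¹ * a⁻¹) := by group
      rw [e]; exact (cj g D).mul_mem hb h3
    obtain ⟨u, hu, hu'⟩ := h2
    obtain ⟨v, hv, hv'⟩ := hb
    rw [← hu', ← hv']
    rw [← map_mul, ← map_mul, hab u hu v hv]
  set A := normalClosure (D : Set G) with hA
  have hDA : D ≤ A := subset_normalClosure
  have hAT : A ≤ T := normalClosure_le_normal (SetLike.coe_subset_coe.mpr hDT)
  have hAD : A ≤ centralizer (D : Set G) := by
    apply normalClosure_le_of
    intro g b hb
    rw [mem_centralizer_iff]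
    intro a ha
    exact hconj g b hb a ha
  have hAn : A.Normal := by rw [hA]; infer_instance
  have hAA : A ≤ centralizer (A : Set G) := by
    have h1 : D ≤ centralizer (A : Set G) := by rwa [le_centralizer_iff]
    have h2 : (centralizer (A : Set G)).Normal := inferInstance
    nth_rewrite 1 [hA]
    exact normalClosure_le_normal (SetLike.coe_subset_coe.mpr h1)
  have hAc : IsMulCommutative A := isMulCommutative_iff_le_centralizer.mpr hAA
  have hAp : IsPGroup p A := (pCore_isPGroup p).to_le hAT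
  have hAle : A ≤ D := by
    refine hmax A (hAT.trans hTS) hAc ?_
    intro x hxS hcx
    set C := centralizer (A : Set G) with hC
    haveI hCn : C.Normal := inferInstance
    set L := (pCore p (G ⧸ C)).comap (QuotientGroup.mk' C) with hL
    haveI : L.Normal := (inferInstance : (pCore p (G ⧸ C)).Normal).comap _
    have hCL : C ≤ L := by
      intro x hx
      rw [hL, mem_comap, QuotientGroup.mk'_apply, (QuotientGroup.eq_one_iff x).mpr hx]
      exact one_mem _
    have hxL : x ∈ L := by
      refine hst A hAp x ?_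
      rw [eq_bot_iff, ← hcx]
      exact commutator_mono (commutator_mono le_sup_left le_sup_right) le_sup_right
    set R := SG ⊓ L with hR
    have hLT : L = C ⊔ R := eq_sup_sylow_inf S hCL (relIndex_comap_pCore C)
    obtain ⟨R', hR'⟩ := exists_sylow_inf_normal S L
    have h1 := Sylow.normalizer_sup_eq_top (N := L) R'
    have h2 : (R' : Subgroup L).map L.subtype = R := by rw [hR', subgroupOf_map_subtype]
    rw [h2] at h1
    have h3 : C ⊔ normalizer (R : Set G) = ⊤ := by
      rw [eq_top_iff, ← h1, hLT]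
      exact sup_le le_sup_right (sup_le le_sup_left (le_normalizer.trans le_sup_right))
    have hkey : ∀ m ∈ normalizer (R : Set G), ∀ a ∈ D, a * (m * x * m⁻¹) = (m * x * m⁻¹) * a := by
      intro m hm
      have h4 : m * x * m⁻¹ ∈ R := (mem_normalizer_iff.1 hm x).1 ⟨hxS, hxL⟩
      refine hx _ h4.1 (cls_mono hDA ?_)
      have h5 := (cls_map (MulAut.conj m).toMonoidHom (MulAut.conj m).injective).2 hcx
      have h6 : A.map (MulAut.conj m).toMonoidHom = A := cj_of_normal m A
      rw [h6] at h5
      exact h5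
    have hxA : A ≤ centralizer ({x} : Set G) := by
      apply normalClosure_le_of
      intro g
      have hg : g ∈ C ⊔ normalizer (R : Set G) := by rw [h3]; trivial
      rw [sup_comm, ← SetLike.mem_coe, Subgroup.mul_normal] at hg
      obtain ⟨m, hm, c, hc, rfl⟩ := hg
      rintro _ ⟨d, hd, rfl⟩
      change (m * c) * d * (m * c)⁻¹ ∈ _
      have h4 : d * c = c * d := mem_centralizer_iff.mp hc d (hDA hd)
      have h5 : (m * c) * d * (m * c)⁻¹ = m * d * m⁻¹ := by
        calc (m * c) * d * (m * c)⁻¹ = m * (c * d) * c⁻¹ * m⁻¹ := by group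
          _ = m * (d * c) * c⁻¹ * m⁻¹ := by rw [h4]
          _ = m * d * m⁻¹ := by group
      rw [h5, mem_centralizer_singleton_iff]
      have h6 := hkey m⁻¹ (inv_mem hm) d hd
      calc m * d * m⁻¹ * x = m * (d * (m⁻¹ * x * m⁻¹⁻¹)) * m⁻¹ := by group
        _ = m * ((m⁻¹ * x * m⁻¹⁻¹) * d) * m⁻¹ := by rw [h6]
        _ = x * (m * d * m⁻¹) := by group
    intro a ha
    exact mem_centralizer_singleton_iff.1 (hxA ha)
  have : D = A := le_antisymm hDA hAle
  rw [this]
  exact hAn

end Cfsg.Agent.S3060
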