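import Cfsg.Statements.S3063
import Mathlib
import Cfsg.Agent.LibLE11Repl

set_option autoImplicit false
set_option linter.all false
open Cfsg

namespace Cfsg.Agent.S3063

open CfsgLib.LE11Repl CfsgLib.LE11CD CfsgLib.LE11CD2
open scoped commutatorElement Pointwise

/-- A weak replacement Theorem for metabelian p-groups: let S be a finite p-group whose derived subgroup is abelian and A an abelian subgroup of S of largest possible order. Then the normal closure of A in S contains an abelian subgroup B of the same order as A that is normal in S. -/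
theorem result {S : Type*} [Group S] [Finite S] {p : ℕ} [Fact p.Prime]
    (hS : IsPGroup p S) (hmeta : IsMulCommutative ↥(commutator S))
    (A : Subgroup S) (hA : A ∈ Cfsg.maxAbelianSubgroups S) :
    ∃ B ∈ Cfsg.maxAbelianSubgroups S, B.Normal ∧ B ≤ Subgroup.normalClosure (A : Set S) := by
  classical
  have hSab : commutator S ≤ Subgroup.centralizer ((commutator S : Subgroup S) : Set S) := comm_iff_le_centralizer.mp hmeta
  obtain ⟨B, ⟨hB1, hB2⟩, hmax⟩ := Set.Finite.exists_maximalFor (fun X : Subgroup S => Nat.card (X ⊓ commutator S : Subgroup S))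
    {X : Subgroup S | X ∈ Cfsg.maxAbelianSubgroups S ∧ X ≤ Subgroup.normalClosure (A : Set S)} (Set.toFinite _)
    ⟨A, hA, Subgroup.le_normalClosure⟩
  refine ⟨B, hB1, ⟨fun b hb x => ?_⟩, hB2⟩
  set M := Subgroup.closure {m | ∃ a ∈ B, m = x⁻¹ * a⁻¹ * x * a} with hM
  have hMS : M ≤ commutator S := by
    rw [hM, Subgroup.closure_le]
    rintro _ ⟨a, ha, rfl⟩
    have e : x⁻¹ * a⁻¹ * x * a = ⁅x⁻¹, a⁻¹⁆ := by rw [commutatorElement_def]; group
    rw [e]
    exact Subgroup.commutator_mem_commutator (Subgroup.mem_top _) (Subgroup.mem_top _)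
  have hMab : M ≤ Subgroup.centralizer (M : Set S) :=
    (hMS.trans hSab).trans (Subgroup.centralizer_le (SetLike.coe_subset_coe.mpr hMS))
  have hrep := replace hB1 x M hM hMab
  have hMN : M ≤ Subgroup.normalClosure (A : Set S) := by
    rw [hM, Subgroup.closure_le]
    rintro _ ⟨a, ha, rfl⟩
    have e : x⁻¹ * a⁻¹ * x * a = (x⁻¹ * a⁻¹ * (x⁻¹)⁻¹) * a := by group
    rw [SetLike.mem_coe, e]
    exact Subgroup.mul_mem _ (Subgroup.normalClosure_normal.conj_mem _ (Subgroup.inv_mem _ (hB2 ha)) _) (hB2 ha)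
  have h1 := hmax (j := M ⊔ (B ⊓ Subgroup.centralizer (M : Set S))) ⟨hrep, sup_le hMN (inf_le_left.trans hB2)⟩
  have hle : B ⊓ commutator S ≤ (M ⊔ (B ⊓ Subgroup.centralizer (M : Set S))) ⊓ commutator S := by
    apply le_inf _ inf_le_right
    refine le_trans ?_ le_sup_right
    apply le_inf inf_le_left
    exact (inf_le_right.trans hSab).trans (Subgroup.centralizer_le (SetLike.coe_subset_coe.mpr hMS))
  have h2 := h1 (Subgroup.card_le_of_le hle)
  have h3 := Subgroup.eq_of_le_of_card_ge hle h2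
  have hMB : M ≤ B := by
    have : M ≤ B ⊓ commutator S := by rw [h3]; exact le_inf le_sup_left hMS
    exact this.trans inf_le_left
  -- conj by x
  have hle4 : (MulAut.conj x⁻¹ • B : Subgroup S) ≤ B := by
    intro z hz
    rw [Subgroup.mem_pointwise_smul_iff_inv_smul_mem, ← map_inv, inv_inv, MulAut.smul_def, MulAut.conj_apply] at hz
    -- z' = x z x⁻¹ ∈ B, z = x⁻¹ z' x
    have h5 : x⁻¹ * (x * z * x⁻¹)⁻¹ * x * (x * z * x⁻¹) ∈ B := hMB (by rw [hM]; exact Subgroup.subset_closure ⟨_, hz, rfl⟩)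
    have h6 := B.mul_mem h5 (B.inv_mem hz)
    have e : x⁻¹ * (x * z * x⁻¹)⁻¹ * x * (x * z * x⁻¹) * (x * z * x⁻¹)⁻¹ = z⁻¹ := by group
    rw [e] at h6
    simpa using B.inv_mem h6
  have h5 : (MulAut.conj x⁻¹ • B : Subgroup S) = B := Subgroup.eq_of_le_of_card_ge hle4 (by rw [CfsgLib.LE11CD3.card_smul])
  rw [← h5] at hb
  rw [Subgroup.mem_pointwise_smul_iff_inv_smul_mem, ← map_inv, inv_inv, MulAut.smul_def, MulAut.conj_apply] at hb
  exact hb

end Cfsg.Agent.S3063
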