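import Cfsg.Statements.S3071
import Cfsg.Agent.LibZJSL9

set_option autoImplicit false
open Cfsg

namespace Cfsg.Agent.S3071

open Cfsg Subgroup CfsgLib.FusionH12 CfsgLib.FusionH12b CfsgLib.FusionH12c CfsgLib.SecH12
open CfsgLib.FusionH12d CfsgLib.FusionH12e CfsgLib.FusionH12f CfsgLib.DZJ9 CfsgLib.DFus9 CfsgLib.Qd9 CfsgLib.Stab9 CfsgLib.ZJSL9

/-- Let p be an odd prime and S a Sylow p-subgroup of the finite group G such that, for every subgroup P with Z(S) ≤ P ≤ S, the normalizer N_G(P) has no section isomorphic to SL₂(p). Let J(S) be the subgroup generated by the abelian subgroups of S of largest order. Then two elements of S are conjugate in G if and only if they are conjugate in N_G(Z(J(S))). -/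
theorem result {G : Type*} [Group G] [Finite G] {p : ℕ} [Fact p.Prime]
    (hp : p ≠ 2) (S : Sylow p G)
    (hfree : ∀ P : Subgroup G, (S : Subgroup G) ⊓ Subgroup.centralizer ((S : Subgroup G) : Set G) ≤ P → P ≤ S →
      ¬ ∃ (H K : Subgroup G) (hK : (K.subgroupOf H).Normal), H ≤ Subgroup.normalizer (P : Set G) ∧
        Nonempty ((H ⧸ K.subgroupOf H) ≃* Matrix.SpecialLinearGroup (Fin 2) (ZMod p))) :
    ∀ x ∈ S, ∀ y ∈ S, (∃ g : G, g * x * g⁻¹ = y) ↔
      ∃ n ∈ Subgroup.normalizer (Cfsg.centerThompsonAOf (S : Subgroup G) : Set G), n * x * n⁻¹ = y := by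
  intro x hx y hy
  constructor
  swap
  · rintro ⟨n, _, h⟩; exact ⟨n, h⟩
  rintro ⟨g, hg⟩
  have hS := SylIn.ofSylow S
  set Z := (S : Subgroup G) ⊓ centralizer ((S : Subgroup G) : Set G) with hZ
  have hW : IsConjugacyFunctor p (inducedFunctor (G := G) ZJ) := induced_isConj ZJ_char G
  have hSS : IsStronglyClosed (S : Subgroup G) (S : Subgroup G) := by
    refine ⟨le_rfl, ?_⟩
    intro a g _ h
    exact h
  have hfus : FusIn (S : Subgroup G) ⊤ {normalizer ((inducedFunctor (G := G) ZJ (S : Subgroup G) : Subgroup G) : Set G)} := by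
    refine fusZ (Z := Z) hS inf_le_left inf_le_right hW ?_ ?_
    · intro T _
      rw [induced_ZJ]
      exact center_le_zj T
    · intro U hU
      have h1 := fusIn_sub (p := p) ZJ_char S.2 hSS (K := normalizer (U : Set G)) hU.2.2 inf_le_left ?_
      · rw [inf_eq_right.2 (inf_le_left : (S : Subgroup G) ⊓ normalizer (U : Set G) ≤ S)] at h1
        exact h1
      · intro T' D' hD'
        refine main_pair ZJ_char _ _ le_rfl (fun H _ _ hH hc T E hE => ?_) T' D' hD'
        rw [induced_ZJ]
        have hst : Stab p H := by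
          apply stab_of_SL2_free hp
          intro P _ _ hP
          have h2 : IsSec (Matrix.SpecialLinearGroup (Fin 2) (ZMod p)) ↥(normalizer (U : Set G)) :=
            (hP.trans (IsSec.subgroup _)).trans hH
          obtain ⟨K, L, hL, hK, he⟩ := IsSec.exists_quot_le h2
          exact hfree U hU.1 hU.2.1 ⟨K, L, hL, hK, he⟩
        exact zj_normal_D hp T hE hc (fun V _ hV => stab_normal hst V hV)
  rw [fusIn_iff_single] at hfus
  obtain ⟨n, hn, hna⟩ := hfus {x} g (mem_top _) (by simpa using hx) (by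
    rintro _ ⟨a, ha, rfl⟩
    rw [Set.mem_singleton_iff] at ha
    subst ha
    change g * a * g⁻¹ ∈ (S : Subgroup G)
    rw [hg]; exact hy)
  rw [induced_ZJ] at hn
  exact ⟨n, hn, by rw [hna x rfl, hg]⟩

end Cfsg.Agent.S3071
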