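import Cfsg.Statements.S3080
import Cfsg.Agent.LibDFus9

set_option autoImplicit false
open Cfsg

namespace Cfsg.Agent.S3080

open CfsgLib.DZJ9 CfsgLib.Qd9 CfsgLib.Stab9 CfsgLib.SecH12 CfsgLib.DFus9 CfsgLib.FusionH12 CfsgLib.FusionH12b CfsgLib.FusionH12c CfsgLib.FusionH12e CfsgLib.FusionH12f

universe w
theorem local_fus {p : ℕ} [Fact p.Prime] (hp : p ≠ 2) {W : ∀ (Q : Type w) [Group Q], Subgroup Q}
    (hW : Cfsg.IsCharPFunctor.{w} p W)
    (hn : ∀ (H : Type w) [Group H] [Finite H], Subgroup.centralizer (Cfsg.pCore p H : Set H) ≤ Cfsg.pCore p H →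
      (∀ (V : Subgroup H) [V.Normal], IsPGroup p V → Cfsg.IsPStableOn p V) →
      ∀ (T : Sylow p H) (E : Subgroup H), Cfsg.IsStronglyClosed E (T : Subgroup H) →
        (Cfsg.inducedFunctor (G := H) W E).Normal)
    {N : Type w} [Group N] [Finite N] (hst : Cfsg.IsNormalizerPStable p N) (hc : Cfsg.IsPConstrained p N)
    (T : Sylow p N) (E : Subgroup N) (hE : Cfsg.IsStronglyClosed E (T : Subgroup N)) :
    FusIn (T : Subgroup N) ⊤ {Subgroup.normalizer ((Cfsg.inducedFunctor (G := N) W E : Subgroup N) : Set N)} := by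
  have hcop := CfsgLib.Cores.pPrimeCore_coprime (G := N) p
  have hc' := CfsgLib.H2Stab.centralizer_pCore_of_isPConstrained hc
  have hEp : IsPGroup p E := T.2.to_le hE.1
  have hWc := induced_isConj hW N
  have hst' : ∀ (V : Subgroup (N ⧸ Cfsg.pPrimeCore p N)) [V.Normal], IsPGroup p V → Cfsg.IsPStableOn p V := by
    intro V _ hV
    refine CfsgLib.H2Stab.stableOn_aux (Cfsg.pPrimeCore p N) hcop ?_ V hV
    intro A P hA hP hAP _ _ hq
    rintro _ ⟨⟨a, haN⟩, haA, rfl⟩
    have haA' : a ∈ A := haA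
    refine hst P hP a haN ?_
    rw [eq_bot_iff, ← hq]
    have h1 : Subgroup.zpowers a ≤ A := by rwa [Subgroup.zpowers_le]
    exact Subgroup.commutator_mono (Subgroup.commutator_mono le_rfl h1) h1
  have h1 := hn _ hc' hst' (T.mapSurjective (QuotientGroup.mk'_surjective _)) _ (sc_map T hE _)
  have e1 := induced_map hW (QuotientGroup.mk' (Cfsg.pPrimeCore p N)) E hEp
    ((injOn_mk (inf_eq_bot_of_pprime T.2 hcop)).mono hE.1)
  rw [e1] at h1
  refine fusIn_of_pprime T ((W_le hWc hEp).trans hE.1) ((sc_le_normalizer hE).trans (nrm_le_nrm_W hWc hEp))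
    _ hcop ?_
  apply fusIn_top
  rw [Subgroup.normalizer_eq_top]

theorem glob_fus {p : ℕ} [Fact p.Prime] (hp : p ≠ 2) {W : ∀ (Q : Type w) [Group Q], Subgroup Q}
    (hW : Cfsg.IsCharPFunctor.{w} p W)
    (hn : ∀ (H : Type w) [Group H] [Finite H], Subgroup.centralizer (Cfsg.pCore p H : Set H) ≤ Cfsg.pCore p H →
      (∀ (V : Subgroup H) [V.Normal], IsPGroup p V → Cfsg.IsPStableOn p V) →
      ∀ (T : Sylow p H) (E : Subgroup H), Cfsg.IsStronglyClosed E (T : Subgroup H) →
        (Cfsg.inducedFunctor (G := H) W E).Normal)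
    {G : Type w} [Group G] [Finite G] (P : Sylow p G) (D : Subgroup G) (hD : Cfsg.IsStronglyClosed D (P : Subgroup G)) (hst : Cfsg.IsNormalizerPStable p G)
    (hc : ∀ U : Subgroup G, U ≤ (P : Subgroup G) → U ≠ ⊥ → Cfsg.IsPConstrained p ↥(Subgroup.normalizer (U : Set G))) :
    FusIn (P : Subgroup G) ⊤ {Subgroup.normalizer ((Cfsg.inducedFunctor (G := G) W D : Subgroup G) : Set G)} := by
  have hWc := induced_isConj hW G
  have hS := SylIn.ofSylow P
  have hSD := sc_le_normalizer hD
  have hDp : IsPGroup p D := P.2.to_le hD.1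
  by_cases hD1 : D = ⊥
  · apply fusIn_top
    have h1 : Cfsg.inducedFunctor (G := G) W D = ⊥ := by
      rw [eq_bot_iff]
      exact (W_le hWc hDp).trans hD1.le
    rw [h1, Subgroup.normalizer_eq_top]
  have hWD := WD_conj (p := p) hW D
  have h1 := lg_fusion hS (𝓦 := {WD W D}) (by rintro _ rfl; exact hWD) (𝓕 := {T | T ≤ (P : Subgroup G)})
    (fun U hU => hU) (allFam hS) (by
      intro U hU hU1 hsyl
      rw [famFusion_iff' (by rintro _ rfl; exact hWD) hsyl]
      have h2 := fusIn_sub hW P.2 hD hsyl inf_le_left (fun T' D' hD' =>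
        local_fus hp hW hn (stab_iff.2 (stab_subgroup (stab_iff.1 hst) _)) (hc U hU hU1) T' D' hD')
      have h3 : nset {WD W D} (Subgroup.normalizer (U : Set G)) ((P : Subgroup G) ⊓ Subgroup.normalizer (U : Set G)) =
          {Subgroup.normalizer (U : Set G) ⊓ Subgroup.normalizer ((Cfsg.inducedFunctor (G := G) W
            (D ⊓ ((P : Subgroup G) ⊓ Subgroup.normalizer (U : Set G))) : Subgroup G) : Set G)} := by
        rw [nset, Set.image_singleton, WD_of_ne hD inf_le_left (inf_nrm_ne_bot P.2 hD.1 hSD hD1 hU)]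
      rw [h3]
      exact h2)
  rw [famFusion_iff' (by rintro _ rfl; exact hWD) hS, nset, Set.image_singleton,
    WD_of_ne hD le_rfl (by rwa [inf_eq_left.2 hD.1]), inf_eq_left.2 hD.1, top_inf_eq] at h1
  exact h1

/-- Let p be an odd prime, G a finite group that is p-stable in the normalizer form, P a Sylow p-subgroup such that N_G(U) is p-constrained for every nontrivial subgroup U of P, and D a subgroup of P strongly closed in P with respect to G. Then N_G(Z(J(D))) controls strong G-fusion in P (for every subset A of P and every g ∈ G with gAg⁻¹ ⊆ P, some element of that normalizer acts on A exactly as g does; J(D) is generated by the abelian subgroups of D of largest order), and so does N_G(Ω₁(Z(J_e(D)))) (J_e(D) generated by the elementary abelian subgroups of largest order). -/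
theorem result {G : Type*} [Group G] [Finite G] {p : ℕ} [Fact p.Prime] (hp : p ≠ 2) (P : Sylow p G) (D : Subgroup G) (hD : Cfsg.IsStronglyClosed D (P : Subgroup G)) (hst : Cfsg.IsNormalizerPStable p G) (hc : ∀ U : Subgroup G, U ≤ (P : Subgroup G) → U ≠ ⊥ → Cfsg.IsPConstrained p ↥(Subgroup.normalizer (U : Set G))) : (∀ A : Set G, A ⊆ (P : Subgroup G) → Cfsg.ControlsStrongFusionOf (Subgroup.normalizer ((Cfsg.centerThompsonAOf D) : Set G)) (P : Subgroup G) A) ∧ (∀ A : Set G, A ⊆ (P : Subgroup G) → Cfsg.ControlsStrongFusionOf (Subgroup.normalizer ((Cfsg.omegaOne p (Cfsg.centerThompsonOf p D)) : Set G)) (P : Subgroup G) A) := by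
  have conv : ∀ V : Subgroup G, FusIn (P : Subgroup G) ⊤ {Subgroup.normalizer (V : Set G)} →
      ∀ A : Set G, A ⊆ (P : Subgroup G) →
        Cfsg.ControlsStrongFusionOf (Subgroup.normalizer (V : Set G)) (P : Subgroup G) A := by
    intro V h A hA
    rw [fusIn_iff_single] at h
    refine ⟨hA, fun g hg => ?_⟩
    obtain ⟨x, hx, hxa⟩ := h A g (Subgroup.mem_top _) hA hg
    exact ⟨x, hx, fun a ha => (hxa a ha).symm⟩
  constructor
  · apply conv
    rw [← induced_ZJ]
    refine glob_fus hp ZJ_char (fun H _ _ hc hst T E hE => ?_) P D hD hst hc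
    rw [induced_ZJ]
    exact zj_normal_D hp T hE hc hst
  · apply conv
    rw [← induced_ZE]
    refine glob_fus hp ZE_char (fun H _ _ hc hst T E hE => ?_) P D hD hst hc
    rw [induced_ZE]
    exact ze_normal_D hp T hE hc hst

end Cfsg.Agent.S3080
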