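import Cfsg.Statements.S3081
import Cfsg.Agent.LibDFus9

set_option autoImplicit false
open Cfsg

namespace Cfsg.Agent.S3081

open CfsgLib.DZJ9 CfsgLib.Qd9 CfsgLib.Stab9 CfsgLib.SecH12 CfsgLib.DFus9 CfsgLib.FusionH12c

/-- Let p be an odd prime, G a finite group in which Qd(p) (the natural semidirect product of an elementary abelian group of order p² by SL₂(p)) is not involved, P a Sylow p-subgroup and D a subgroup of P strongly closed in P with respect to G. Then N_G(Z(J(D))) controls strong G-fusion in P (for every subset A of P and every g ∈ G with gAg⁻¹ ⊆ P, some element of that normalizer acts on A exactly as g does; J(D) is generated by the abelian subgroups of D of largest order), and so does N_G(Ω₁(Z(J_e(D)))) (J_e(D) generated by the elementary abelian subgroups of largest order). -/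
theorem result {G : Type*} [Group G] [Finite G] {p : ℕ} [Fact p.Prime] (hp : p ≠ 2) (P : Sylow p G) (D : Subgroup G) (hD : Cfsg.IsStronglyClosed D (P : Subgroup G)) (hqd : ¬ Cfsg.Involves ↥(Cfsg.qd p) G) : (∀ A : Set G, A ⊆ (P : Subgroup G) → Cfsg.ControlsStrongFusionOf (Subgroup.normalizer ((Cfsg.centerThompsonAOf D) : Set G)) (P : Subgroup G) A) ∧ (∀ A : Set G, A ⊆ (P : Subgroup G) → Cfsg.ControlsStrongFusionOf (Subgroup.normalizer ((Cfsg.omegaOne p (Cfsg.centerThompsonOf p D)) : Set G)) (P : Subgroup G) A) := by
  rw [involves_iff] at hqd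
  have key : ∀ (H : Type _) [Group H] [Finite H], IsSec H G →
      ∀ (V : Subgroup H) [V.Normal], IsPGroup p V → Cfsg.IsPStableOn p V := by
    intro H _ _ hH V _ hV
    exact stab_normal (stab_of_qd_free hp fun h => hqd (h.trans hH)) V hV
  have conv : ∀ V : Subgroup G, FusIn (P : Subgroup G) ⊤ {Subgroup.normalizer (V : Set G)} →
      ∀ A : Set G, A ⊆ (P : Subgroup G) →
        Cfsg.ControlsStrongFusionOf (Subgroup.normalizer (V : Set G)) (P : Subgroup G) A := by
    intro V h A hA
    rw [fusIn_iff_single] at h
    refine ⟨hA, fun g hg => ?_⟩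
    obtain ⟨x, hx, hxa⟩ := h A g (Subgroup.mem_top _) hA hg
    exact ⟨x, hx, fun a ha => (hxa a ha).symm⟩
  constructor
  · apply conv
    rw [← induced_ZJ]
    refine main_pair ZJ_char _ G le_rfl (fun H _ _ hH hc T E hE => ?_) P D hD
    rw [induced_ZJ]
    exact zj_normal_D hp T hE hc (key H hH)
  · apply conv
    rw [← induced_ZE]
    refine main_pair ZE_char _ G le_rfl (fun H _ _ hH hc T E hE => ?_) P D hD
    rw [induced_ZE]
    exact ze_normal_D hp T hE hc (key H hH)

end Cfsg.Agent.S3081
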