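import Cfsg.Statements.S3082
import Cfsg.Agent.LibFail9K

set_option autoImplicit false
open Cfsg

namespace Cfsg.Agent.S3082

open CfsgLib.DZJ9 CfsgLib.Qd9 CfsgLib.FusionH12 CfsgLib.FusionH12b CfsgLib.FusionH12c CfsgLib.SecH12 CfsgLib.FusionH12d CfsgLib.FusionH12e CfsgLib.FusionH12f CfsgLib.Fail9

/-- The Glauberman–Thompson normal p-complement criterion for strongly closed subgroups, p odd. Let G be a finite group, P a Sylow p-subgroup and D a subgroup of P strongly closed in P with respect to G. If N_G(Z(J(D))) has a normal p-complement (J(D) generated by the abelian subgroups of D of largest order), or N_G(Ω₁(Z(J_e(D)))) has one (J_e(D) generated by the elementary abelian subgroups of largest order), then G has a normal p-complement. -/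
theorem result {G : Type*} [Group G] [Finite G] {p : ℕ} [Fact p.Prime] (hp : p ≠ 2) (P : Sylow p G) (D : Subgroup G) (hD : Cfsg.IsStronglyClosed D (P : Subgroup G)) (h : Cfsg.HasNormalPComplement p ↥(Subgroup.normalizer ((Cfsg.centerThompsonAOf D) : Set G)) ∨ Cfsg.HasNormalPComplement p ↥(Subgroup.normalizer ((Cfsg.omegaOne p (Cfsg.centerThompsonOf p D)) : Set G))) : Cfsg.HasNormalPComplement p G := by
  have hts : (((-1) * (-1) : ℤ) : ZMod p) = 1 := by norm_num
  have hDp : IsPGroup p D := P.2.to_le hD.1
  rcases h with h | h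
  · have h1 := nrm_le_nrm_W (induced_isConj ZJ_char G) hDp
    have h2 := W_le (induced_isConj ZJ_char G) hDp
    rw [induced_ZJ] at h1 h2
    exact npc_of_alt hp P ((sc_le_normalizer hD).trans h1) (hDp.to_le h2) h (main_ZJ hp hts P hD)
  · have h1 := nrm_le_nrm_W (induced_isConj ZE_char G) hDp
    have h2 := W_le (induced_isConj ZE_char G) hDp
    rw [induced_ZE] at h1 h2
    exact npc_of_alt hp P ((sc_le_normalizer hD).trans h1) (hDp.to_le h2) h (main_ZE hp hts P hD)

end Cfsg.Agent.S3082
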