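import Cfsg.Statements.S3103
import Cfsg.Agent.LibFgPhi
import Cfsg.Agent.LibPConH12
import Cfsg.Agent.LibH2Con
import Cfsg.Agent.LibFusionH12f
import Cfsg.Agent.LibCores

set_option autoImplicit false
open Cfsg

namespace Cfsg.Agent.S3103

set_option linter.style.haveILetI false
set_option linter.unusedSectionVars false
set_option linter.unusedVariables false

open Subgroup CfsgLib CfsgLib.FgPhi

/-- Let X be a finite 2-constrained group with no nontrivial normal subgroup of odd order such that O₂(X) has sectional 2-rank at most 4. Then X/O₂(X) is isomorphic to a subgroup of the alternating group of degree 8. -/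
theorem result {X : Type*} [Group X] [Finite X] (hc : Cfsg.IsPConstrained 2 X) (hO : Cfsg.oddCore X = ⊥)
    (h4 : Cfsg.SectionalPRankLE 2 4 ↥(Cfsg.pCore 2 X)) :
    ∃ f : X ⧸ Cfsg.pCore 2 X →* ↥(alternatingGroup (Fin 8)), Function.Injective f := by
  have : Fact (Nat.Prime 2) := ⟨Nat.prime_two⟩
  have hC : centralizer (Cfsg.pCore 2 X : Set X) ≤ Cfsg.pCore 2 X := by
    have h2 := CfsgLib.H2Con.isPConstrained_iff.1 hc
    have e : X ≃* (X ⧸ Cfsg.pPrimeCore 2 X) :=
      (QuotientGroup.quotientBot.symm).trans (QuotientGroup.quotientMulEquivOfEq hO.symm)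
    exact CfsgLib.FusionH12f.charP_equiv e h2
  have hQ : IsPGroup 2 (Cfsg.pCore 2 X) := CfsgLib.Cores.pCore_isPGroup 2
  have hker : (act (Cfsg.pCore 2 X)).ker = Cfsg.pCore 2 X := by
    apply le_antisymm
    · exact CfsgLib.Cores.le_pCore inferInstance (ker_act _ hQ hC)
    · intro x hx
      rw [MonoidHom.mem_ker]
      ext q
      obtain ⟨q, rfl⟩ := QuotientGroup.mk_surjective q
      rw [act_mk, MulAut.one_apply]
      symm
      rw [QuotientGroup.eq]
      have h := CfsgLib.ExtraH28.comm_mem_frattini hQ (q⁻¹) ⟨x, hx⟩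
      convert h using 1
      apply Subtype.ext
      simp [mul_assoc]
  obtain ⟨φ, hφ⟩ := to_alt8 (A := ↥(Cfsg.pCore 2 X) ⧸ frattini ↥(Cfsg.pCore 2 X))
    (by
      intro a b
      obtain ⟨a, rfl⟩ := QuotientGroup.mk_surjective a
      obtain ⟨b, rfl⟩ := QuotientGroup.mk_surjective b
      rw [← QuotientGroup.mk_mul, ← QuotientGroup.mk_mul, QuotientGroup.eq]
      have h := CfsgLib.ExtraH28.comm_mem_frattini hQ (b⁻¹) (a⁻¹)
      convert h using 1
      group)
    (by
      intro a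
      obtain ⟨a, rfl⟩ := QuotientGroup.mk_surjective a
      rw [← QuotientGroup.mk_pow, QuotientGroup.eq_one_iff]
      exact CfsgLib.ExtraH28.pow_mem_frattini hQ a)
    (by
      have hc1 : ∀ a b : ↥(Cfsg.pCore 2 X), a⁻¹ * b⁻¹ * a * b ∈ frattini ↥(Cfsg.pCore 2 X) := by
        intro a b
        have h := CfsgLib.ExtraH28.comm_mem_frattini hQ (a⁻¹) (b⁻¹)
        simpa using h
      have h := h4 ⊤ ((frattini ↥(Cfsg.pCore 2 X)).subgroupOf ⊤) ⊤ ?_ ?_
      · rw [Nat.card_congr (Subgroup.topEquiv (G := _)).toEquiv] at h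
        have h2 : Nat.card (↥(⊤ : Subgroup ↥(Cfsg.pCore 2 X)) ⧸ (frattini ↥(Cfsg.pCore 2 X)).subgroupOf ⊤) =
            (frattini ↥(Cfsg.pCore 2 X)).relIndex ⊤ := rfl
        rw [h2, relIndex_top_right] at h
        exact h
      · refine ⟨⟨fun a b => Subtype.ext ?_⟩⟩
        obtain ⟨⟨a, ha⟩, ha'⟩ := QuotientGroup.mk_surjective (a : ↥(⊤ : Subgroup ↥(Cfsg.pCore 2 X)) ⧸ (frattini ↥(Cfsg.pCore 2 X)).subgroupOf ⊤)
        obtain ⟨⟨b, hb⟩, hb'⟩ := QuotientGroup.mk_surjective (b : ↥(⊤ : Subgroup ↥(Cfsg.pCore 2 X)) ⧸ (frattini ↥(Cfsg.pCore 2 X)).subgroupOf ⊤)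
        rw [coe_mul, coe_mul, ← ha', ← hb', ← QuotientGroup.mk_mul, ← QuotientGroup.mk_mul, QuotientGroup.eq, mem_subgroupOf]
        have h := hc1 b a
        convert h using 1
        simp [mul_assoc]
      · intro a _
        obtain ⟨⟨a, ha⟩, rfl⟩ := QuotientGroup.mk_surjective a
        rw [← QuotientGroup.mk_pow, QuotientGroup.eq_one_iff, mem_subgroupOf]
        exact CfsgLib.ExtraH28.pow_mem_frattini hQ a)
  have hk2 : (φ.comp (act (Cfsg.pCore 2 X))).ker = Cfsg.pCore 2 X := by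
    refine Eq.trans ?_ hker
    ext x
    rw [MonoidHom.mem_ker, MonoidHom.comp_apply, MonoidHom.mem_ker]
    constructor
    · intro h; exact hφ (h.trans (map_one φ).symm)
    · intro h; rw [h, map_one]
  refine ⟨QuotientGroup.lift (Cfsg.pCore 2 X) (φ.comp (act (Cfsg.pCore 2 X))) (fun x hx => ?_), ?_⟩
  · rw [← hk2] at hx; exact hx
  · rw [injective_iff_map_eq_one]
    intro x
    obtain ⟨x, rfl⟩ := QuotientGroup.mk_surjective x
    intro h
    rw [QuotientGroup.eq_one_iff, ← hk2]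
    exact h

end Cfsg.Agent.S3103
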