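import Cfsg.Statements.S3196
import Mathlib
import Cfsg.Agent.LibH7Fis
import Cfsg.Agent.LibComp2
set_option autoImplicit false
open Cfsg

namespace Cfsg.Agent.S3196

open Cfsg Subgroup CfsgLib.H7Fis in
private theorem zpow_eq {G : Type*} [Group G] [Finite G] {p : ℕ} (hp : p.Prime) {W : Subgroup G} (hW : Nat.card W = p)
    {w : G} (hw : w ∈ W) (hw1 : w ≠ 1) : zpowers w = W := by
  have h1 : zpowers w ≤ W := zpowers_le.mpr hw
  apply Subgroup.eq_of_le_of_card_ge h1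
  have h2 := Subgroup.card_dvd_of_le h1
  rw [hW] at h2
  rcases (Nat.dvd_prime hp).mp h2 with h3 | h3
  · exfalso
    apply hw1
    rw [Subgroup.card_eq_one] at h3
    have := h3 ▸ mem_zpowers w
    exact mem_bot.mp this
  · rw [hW, h3]

open Cfsg Subgroup CfsgLib.H7Fis in
private theorem sys {G : Type*} [Group G] [Finite G]
    {p : ℕ} (hp : p.Prime) (K : Set (Subgroup G)) (hK : ∀ X ∈ K, Nat.card ↥X = p)
    (hKc : ∀ X ∈ K, ∀ g : G, X.map (MulAut.conj g).toMonoidHom ∈ K)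
    (ha : ∀ X ∈ K, ∀ Y ∈ K, X ≠ Y → (∀ x ∈ X, ∀ y ∈ Y, x * y = y * x) →
      ∀ Z : Subgroup G, Z ≤ X ⊔ Y → Nat.card ↥Z = p → Z ∈ K)
    (hb : ∀ X ∈ K, ∀ Y ∈ K, X ≠ Y → (∀ x ∈ X, ∀ y ∈ Y, x * y = y * x) →
      ∀ W ∈ K, (X ⊔ Y) ⊓ Subgroup.centralizer (W : Set G) ≠ ⊥) :
    Sys p {g : G | g ≠ 1 ∧ zpowers g ∈ K} := by
  have hord : ∀ x ∈ {g : G | g ≠ 1 ∧ zpowers g ∈ K}, orderOf x = p := by
    rintro x ⟨hx, hxK⟩
    have := hK _ hxK
    rwa [Nat.card_zpowers] at this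
  have hcomm : ∀ x y : G, Commute x y → ∀ a ∈ zpowers x, ∀ b ∈ zpowers y, a * b = b * a := by
    rintro x y hxy _ ⟨i, rfl⟩ _ ⟨j, rfl⟩
    exact ((hxy.zpow_left i).zpow_right j).eq
  have hne : ∀ x y : G, y ∉ zpowers x → zpowers x ≠ zpowers y := by
    intro x y h1 h2
    apply h1
    rw [h2]; exact mem_zpowers y
  refine ⟨hp, hord, ?_, ?_, ?_, ?_⟩
  · rintro x ⟨hx, hxK⟩ i hi
    refine ⟨hi, ?_⟩
    have h1 := mem_zpowers_zpow hp (hord x ⟨hx, hxK⟩) hi
    have h2 : zpowers (x ^ i) = zpowers x :=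
      le_antisymm (zpowers_le.mpr (zpow_mem (mem_zpowers x) i)) (zpowers_le.mpr h1)
    rw [h2]; exact hxK
  · rintro x ⟨hx, hxK⟩ g
    refine ⟨?_, ?_⟩
    · intro h1
      apply hx
      rwa [mul_inv_eq_one, mul_eq_left] at h1
    · have := hKc _ hxK g
      rw [MonoidHom.map_zpowers] at this
      exact this
  · rintro x ⟨hx, hxK⟩ y ⟨hy, hyK⟩ hxy hyx
    have hxy1 : x * y ≠ 1 := by
      intro h1
      apply hyx
      rw [eq_inv_of_mul_eq_one_right h1]
      exact inv_mem (mem_zpowers x)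
    refine ⟨hxy1, ?_⟩
    apply ha _ hxK _ hyK (hne x y hyx) (hcomm x y hxy)
    · rw [zpowers_le]
      exact mul_mem (mem_sup_left (mem_zpowers x)) (mem_sup_right (mem_zpowers y))
    · rw [Nat.card_zpowers]
      haveI : Fact p.Prime := ⟨hp⟩
      apply orderOf_eq_prime
      · rw [hxy.mul_pow]
        have h1 := pow_orderOf_eq_one x
        have h2 := pow_orderOf_eq_one y
        rw [hord x ⟨hx, hxK⟩] at h1
        rw [hord y ⟨hy, hyK⟩] at h2
        rw [h1, h2, one_mul]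
      · exact hxy1
  · rintro x ⟨hx, hxK⟩ y ⟨hy, hyK⟩ hxy hyx w ⟨hw, hwK⟩
    have h1 := hb _ hxK _ hyK (hne x y hyx) (hcomm x y hxy) _ hwK
    obtain ⟨⟨t, ht1, ht2⟩, ht⟩ := Subgroup.ne_bot_iff_exists_ne_one.mp h1
    have ht3 : t ≠ 1 := fun h => ht (Subtype.ext h)
    have h2 : zpowers y ≤ normalizer ((zpowers x : Subgroup G) : Set G) := by
      rw [zpowers_le]
      apply Subgroup.centralizer_le_normalizer
      rw [mem_centralizer_iff]
      rintro _ ⟨i, rfl⟩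
      exact (hxy.zpow_left i).eq
    have ht1' : t ∈ zpowers y ⊔ zpowers x := by rw [sup_comm]; exact ht1
    obtain ⟨_, ⟨j, rfl⟩, _, ⟨i, rfl⟩, h3⟩ := CfsgLib.Comp2.exists_mul_of_mem_sup h2 ht1'
    have h4 : t = x ^ i * y ^ j := by
      rw [((hxy.zpow_left i).zpow_right j).eq]; exact h3
    refine ⟨i, j, ?_, ?_⟩
    · rw [← h4]; exact ht3
    · rw [← h4]
      exact mem_centralizer_iff.mp ht2 w (mem_zpowers w)

/-- Let p be a prime and K a set of subgroups of order p of a finite group G, closed under conjugation, such that at least two distinct members of K commute elementwise, and whenever two distinct members X, Y of K commute: every subgroup of order p of the group XY they generate belongs to K, and every member W of K has centralizer meeting XY nontrivially. Then some member V of K commutes elementwise with every member of K and lies in O_p(G); in particular G is not simple. -/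
theorem result {G : Type*} [Group G] [Finite G]
    {p : ℕ} (hp : p.Prime) (K : Set (Subgroup G)) (hK : ∀ X ∈ K, Nat.card ↥X = p)
    (hKc : ∀ X ∈ K, ∀ g : G, X.map (MulAut.conj g).toMonoidHom ∈ K)
    (hex : ∃ X ∈ K, ∃ Y ∈ K, X ≠ Y ∧ ∀ x ∈ X, ∀ y ∈ Y, x * y = y * x)
    (ha : ∀ X ∈ K, ∀ Y ∈ K, X ≠ Y → (∀ x ∈ X, ∀ y ∈ Y, x * y = y * x) →
      ∀ Z : Subgroup G, Z ≤ X ⊔ Y → Nat.card ↥Z = p → Z ∈ K)
    (hb : ∀ X ∈ K, ∀ Y ∈ K, X ≠ Y → (∀ x ∈ X, ∀ y ∈ Y, x * y = y * x) →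
      ∀ W ∈ K, (X ⊔ Y) ⊓ Subgroup.centralizer (W : Set G) ≠ ⊥) :
    (∃ V ∈ K, (∀ W ∈ K, ∀ v ∈ V, ∀ w ∈ W, v * w = w * v) ∧ V ≤ Cfsg.pCore p G) ∧ ¬ IsSimpleGroup G := by
  classical
  have hS := sys hp K hK hKc ha hb
  have hgen : ∀ W ∈ K, ∀ w ∈ W, w ≠ 1 → w ∈ {g : G | g ≠ 1 ∧ Subgroup.zpowers g ∈ K} := by
    intro W hW w hw hw1
    refine ⟨hw1, ?_⟩
    rw [zpow_eq hp (hK W hW) hw hw1]; exact hW
  have hnt : ∀ W ∈ K, ∃ w ∈ W, w ≠ 1 := by
    intro W hW
    have h1 : W ≠ ⊥ := by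
      intro h2
      have h3 := hK W hW
      rw [h2, Subgroup.card_bot] at h3
      exact hp.one_lt.ne h3
    obtain ⟨w, hw⟩ := Subgroup.ne_bot_iff_exists_ne_one.mp h1
    exact ⟨w.1, w.2, fun h => hw (Subtype.ext h)⟩
  obtain ⟨X, hX, Y, hY, hXY, hXYc⟩ := hex
  obtain ⟨x, hxX, hx1⟩ := hnt X hX
  obtain ⟨y, hyY, hy1⟩ := hnt Y hY
  obtain ⟨v, hv, hvc, hvp⟩ := hS.s3196 ⟨x, hgen X hX x hxX hx1, y, hgen Y hY y hyY hy1,
    hXYc x hxX y hyY, by
      rw [zpow_eq hp (hK X hX) hxX hx1]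
      intro h1
      apply hXY
      rw [← zpow_eq hp (hK X hX) h1 hy1, zpow_eq hp (hK Y hY) hyY hy1]⟩
  refine ⟨⟨Subgroup.zpowers v, hv.2, ?_, ?_⟩, ?_⟩
  · rintro W hW _ ⟨i, rfl⟩ w hw
    by_cases hw1 : w = 1
    · rw [hw1, mul_one, one_mul]
    · exact ((hvc w (hgen W hW w hw hw1)).zpow_left i).eq
  · rw [Subgroup.zpowers_le]; exact hvp
  · intro hs
    haveI : Fact p.Prime := ⟨hp⟩
    have h1 : Cfsg.pCore p G = ⊤ := by
      rcases (inferInstance : (Cfsg.pCore p G).Normal).eq_bot_or_eq_top with h2 | h2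
      · exfalso
        rw [h2, Subgroup.mem_bot] at hvp
        exact hv.1 hvp
      · exact h2
    have h2 : IsPGroup p G := by
      have h3 := CfsgLib.Cores.pCore_isPGroup p (G := G)
      rw [h1] at h3
      exact h3.of_equiv Subgroup.topEquiv
    haveI h3 := h2.isNilpotent
    haveI : Nontrivial G := hs.toNontrivial
    have h4 : Subgroup.center G = ⊤ := by
      rcases (inferInstance : (Subgroup.center G).Normal).eq_bot_or_eq_top with h5 | h5
      · exfalso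
        have h6 := h2.center_nontrivial
        rw [h5] at h6
        exact (not_nontrivial (⊥ : Subgroup G)) h6
      · exact h5
    have h5 : ∀ Z : Subgroup G, Z.Normal := fun Z => by
      refine ⟨fun n hn g => ?_⟩
      have h6 : g ∈ Subgroup.center G := by rw [h4]; exact Subgroup.mem_top g
      have h7 : n * g = g * n := Subgroup.mem_center_iff.mp h6 n
      rw [← h7, mul_inv_cancel_right]; exact hn
    have h6 : ∀ Z ∈ K, Z = ⊤ := by
      intro Z hZ
      rcases (h5 Z).eq_bot_or_eq_top with h7 | h7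
      · exfalso
        have h8 := hK Z hZ
        rw [h7, Subgroup.card_bot] at h8
        exact hp.one_lt.ne h8
      · exact h7
    exact hXY ((h6 X hX).trans (h6 Y hY).symm)

end Cfsg.Agent.S3196
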