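import Cfsg.Statements.S3222
import Cfsg.Agent.LibSX11f
import Cfsg.Agent.S4337
-- import your own Cfsg.Agent.* helpers here

set_option autoImplicit false
open Cfsg

namespace Cfsg.Agent.S3222

/-- Let G be a finite group of even order such that (1) some involution t lying in the centre of a Sylow 2-subgroup of G has C_G(t) ≅ Z₂ × S₄, and (2) every Sylow 2-subgroup S of G satisfies C_G(S′) = S, where S′ is the derived subgroup of S. Then G = C_G(t) if G is solvable, and G ≅ S₆ otherwise. -/
theorem result {G : Type*} [Group G] [Finite G] (hev : Even (Nat.card G))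
    (t : G) (ht : orderOf t = 2) (T : Sylow 2 G) (htT : t ∈ (T : Subgroup G)) (htc : ∀ s ∈ (T : Subgroup G), s * t = t * s)
    (e : ↥(Subgroup.centralizer ({t} : Set G)) ≃* (Multiplicative (ZMod 2) × Equiv.Perm (Fin 4)))
    (h2 : ∀ S : Sylow 2 G, Subgroup.centralizer ((⁅(S : Subgroup G), (S : Subgroup G)⁆ : Subgroup G) : Set G) = (S : Subgroup G)) :
    (Group.IsSolvable G → Subgroup.centralizer ({t} : Set G) = ⊤) ∧
      (¬ Group.IsSolvable G → Nonempty (G ≃* Equiv.Perm (Fin 6))) := by
  classical
  have h := CfsgLib.SX11.Cf.of_hyp t ht T htc e h2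
  refine ⟨?_, ?_⟩
  · intro hs
    rw [Subgroup.eq_top_iff']
    intro g
    rw [Subgroup.mem_centralizer_singleton_iff]
    exact h.solv hs g
  · intro hns
    apply h.sym6
    intro hall
    apply hns
    have hsurj : Function.Surjective ((Subgroup.centralizer ({t} : Set G)).subtype.comp e.symm.toMonoidHom) := by
      intro g
      obtain ⟨x, hx⟩ := (h.rng g).mp (hall g)
      exact ⟨x, hx⟩
    haveI : Group.IsSolvable (Equiv.Perm (Fin 4)) := by
      first
      | exact Cfsg.Agent.S4337.perm4_solvable
      | infer_instance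
    haveI : Group.IsSolvable (Multiplicative (ZMod 2) × Equiv.Perm (Fin 4)) := by
      infer_instance
    exact Group.isSolvable_of_surjective hsurj


end Cfsg.Agent.S3222
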