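import Cfsg.Statements.S3246
import Mathlib
import Cfsg.Agent.LibPConH12
import Cfsg.Agent.LibBGRank

set_option autoImplicit false
open Cfsg

namespace Cfsg.Agent.S3246

/-- Let G be a finite group whose Sylow 2-subgroup S has a self-centralizing normal subgroup of rank at least 3. Suppose that either every maximal 2-local subgroup of G is 2-constrained with no nontrivial normal subgroup of odd order, or the centralizer of every involution of G is 2-constrained with no nontrivial normal subgroup of odd order. Then S normalizes no nontrivial subgroup of G of odd order and every 2-local subgroup of G is 2-constrained. -/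
theorem result {G : Type*} [Group G] [Finite G]
    (S : Sylow 2 G) (A : Subgroup G) (hA : Cfsg.IsSCN (S : Subgroup G) A) (hA3 : ¬ Cfsg.PRankLE 2 2 ↥A)
    (h : (∀ M : Subgroup G, Cfsg.IsMaximalTwoLocal M → Cfsg.IsPConstrained 2 ↥M ∧ Cfsg.oddCore ↥M = ⊥) ∨
      (∀ t : G, orderOf t = 2 → Cfsg.IsPConstrained 2 ↥(Subgroup.centralizer ({t} : Set G)) ∧
        Cfsg.oddCore ↥(Subgroup.centralizer ({t} : Set G)) = ⊥)) :
    (∀ X : Subgroup G, Odd (Nat.card ↥X) → (S : Subgroup G) ≤ Subgroup.normalizer (X : Set G) → X = ⊥) ∧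
      (∀ T : Subgroup G, IsPGroup 2 ↥T → T ≠ ⊥ → Cfsg.IsPConstrained 2 ↥(Subgroup.normalizer (T : Set G))) := by
  classical
  haveI : Fact (Nat.Prime 2) := ⟨Nat.prime_two⟩
  constructor
  · intro X hX hSX
    have hSr : ¬ Cfsg.PRankLE 2 2 ↥(S : Subgroup G) := fun h => hA3 (CfsgLib.BGPi.rank_mono hA.1 h)
    obtain ⟨U, hUS, hSU, hUe, hUc⟩ := CfsgLib.Kconn8.exists_normal_four S.isPGroup' hSr
    haveI := hUe.1
    have hUcyc : ¬ IsCyclic U := by
      intro hc
      obtain ⟨g, hg⟩ := hc.exists_generator
      have h1 := orderOf_eq_card_of_forall_mem_zpowers hg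
      have h2 : g ^ 2 = 1 := Subtype.ext (hUe.2 g g.2)
      have h3 := orderOf_dvd_of_pow_eq_one h2
      rw [h1, hUc] at h3
      exact absurd (Nat.le_of_dvd (by norm_num) h3) (by norm_num)
    have hcop : (Nat.card U).Coprime (Nat.card X) := by
      rw [hUc]
      exact Nat.Coprime.pow_left 2 (Nat.coprime_two_left.2 hX)
    have hgen := CfsgLib.Coprime2.generation_noncyclic hUcyc (K := X) (hUS.trans hSX) hcop
    rw [← hgen]
    rw [eq_bot_iff]
    apply iSup₂_le
    rintro t ⟨htU, ht1⟩
    -- a subgroup of characteristic two above the centraliser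
    obtain ⟨M, hCM, hM⟩ : ∃ M : Subgroup G, Subgroup.centralizer ({t} : Set G) ≤ M ∧
        Subgroup.centralizer (pCore 2 M : Set M) ≤ pCore 2 M := by
      have ht2 : orderOf t = 2 := by
        rw [orderOf_eq_prime_iff]
        exact ⟨hUe.2 t htU, ht1⟩
      rcases h with h | h
      · obtain ⟨M, hM1, hM2⟩ := CfsgLib.PConH12.exists_maximal (T := Subgroup.zpowers t) (by
          rw [IsPGroup.iff_card]; exact ⟨1, by rw [Nat.card_zpowers, ht2, pow_one]⟩) (by
          rw [Ne, Subgroup.zpowers_eq_bot]; exact ht1)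
        refine ⟨M, ?_, CfsgLib.PConH12.char_of (h M hM1).1 (h M hM1).2⟩
        refine le_trans ?_ hM2
        rw [← Subgroup.centralizer_closure, ← Subgroup.zpowers_eq_closure]
        exact Subgroup.centralizer_le_normalizer _
      · exact ⟨_, le_rfl, CfsgLib.PConH12.char_of (h t ht2).1 (h t ht2).2⟩
    have hYM : X ⊓ Subgroup.centralizer {t} ≤ M := inf_le_right.trans hCM
    have hTM : (S : Subgroup G) ⊓ Subgroup.centralizer {t} ≤ M := inf_le_right.trans hCM
    have h1 : (X ⊓ Subgroup.centralizer {t}).subgroupOf M = ⊥ := by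
      apply CfsgLib.PConH12.core_half hM (T := ((S : Subgroup G) ⊓ Subgroup.centralizer {t}).subgroupOf M)
      · rw [Nat.card_congr (Subgroup.subgroupOfEquivOfLe hYM).toEquiv]
        exact Odd.of_dvd_nat hX (Subgroup.card_dvd_of_le inf_le_left)
      · exact (S.isPGroup'.to_le inf_le_left).comap_of_injective _ (Subgroup.subtype_injective _)
      · intro x hx
        have hx' := Subgroup.mem_subgroupOf.1 hx
        rw [Subgroup.mem_normalizer_iff]
        intro y
        show (y : G) ∈ X ⊓ Subgroup.centralizer {t} ↔ (x : G) * y * (x : G)⁻¹ ∈ X ⊓ Subgroup.centralizer {t}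
        rw [Subgroup.mem_inf, Subgroup.mem_inf, ← Subgroup.mem_normalizer_iff.1 (hSX hx'.1) y]
        have hcx : (x : G) ∈ Subgroup.normalizer (Subgroup.centralizer ({t} : Set G) : Set G) := Subgroup.le_normalizer hx'.2
        rw [← Subgroup.mem_normalizer_iff.1 hcx y]
      · intro Q
        have h2 : Nat.card Q ≤ Nat.card S := by
          have h3 : IsPGroup 2 ((Q : Subgroup M).map M.subtype) := Q.isPGroup'.map _
          have h4 := CfsgLib.PConH12.card_le_sylow S h3
          rwa [Nat.card_congr ((Q : Subgroup M).equivMapOfInjective _ (Subgroup.subtype_injective _)).toEquiv]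
        have h5 := CfsgLib.Kconn8.relIndex_cent Nat.prime_two S.isPGroup' hUS hSU hUe hUc
        have h6 := CfsgLib.PConH12.card_rel (inf_le_left : (S : Subgroup G) ⊓ Subgroup.centralizer (U : Set G) ≤ S)
        rw [Subgroup.inf_relIndex_left] at h6
        have h7 : Nat.card ((S : Subgroup G) ⊓ Subgroup.centralizer (U : Set G) : Subgroup G) ≤ 
            Nat.card ((S : Subgroup G) ⊓ Subgroup.centralizer {t} : Subgroup G) :=
          Subgroup.card_le_of_le (inf_le_inf_left _ (Subgroup.centralizer_le (by simpa using htU)))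
        rw [Nat.card_congr (Subgroup.subgroupOfEquivOfLe hTM).toEquiv]
        calc Nat.card Q ≤ Nat.card S := h2
          _ = _ := h6.symm
          _ ≤ Nat.card ((S : Subgroup G) ⊓ Subgroup.centralizer {t} : Subgroup G) * 2 := Nat.mul_le_mul h7 h5
          _ = _ := by ring
    intro y hy
    have h2 : (⟨y, hYM hy⟩ : M) ∈ (X ⊓ Subgroup.centralizer {t}).subgroupOf M := hy
    rw [h1, Subgroup.mem_bot] at h2
    rw [Subgroup.mem_bot]
    exact congrArg Subtype.val h2
  · intro T hT hT1
    rcases h with h | h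
    · obtain ⟨M, hM1, hM2⟩ := CfsgLib.PConH12.exists_maximal hT hT1
      exact CfsgLib.PConH12.local_of_le (h M hM1).1 hT ((Subgroup.le_normalizer (H := T)).trans hM2) hM2
    · exact CfsgLib.PConH12.local_of_cent hT hT1 (fun t ht => (h t ht).1)

end Cfsg.Agent.S3246
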