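import Cfsg.Statements.S3279
import Cfsg.Agent.LibZStar3

set_option autoImplicit false
open Cfsg

namespace Cfsg.Agent.S3279
variable {G : Type*} [Group G] [Finite G]

lemma zst (P : Sylow 2 G) (u : G) (hu : orderOf u = 2) (huP : u ∈ P) (hiso : ∀ g : G, g * u * g⁻¹ ∈ P → g * u * g⁻¹ = u) : ∃ N : Subgroup G, N.Normal ∧ Odd (Nat.card N) ∧ ∀ g : G, (u * g * u⁻¹ * g⁻¹) ∈ N := by
  refine ⟨Cfsg.oddCore G, inferInstance, CfsgLib.ZStar.oddCore_odd, ?_⟩
  exact CfsgLib.ZStar.zstar ((CfsgLib.Isolated.isolated_iff_sylow P hu huP).2 hiso)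

lemma comm_inv {a b : G} (ha : orderOf a = 2) (hb : orderOf b = 2) (hn : ¬ IsConj a b) :
    ∃ t : G, orderOf t = 2 ∧ Commute t a ∧ Commute t b := by
  have ha2 : a * a = 1 := by have := pow_orderOf_eq_one a; rw [ha, pow_two] at this; exact this
  have hb2 : b * b = 1 := by have := pow_orderOf_eq_one b; rw [hb, pow_two] at this; exact this
  have ha' : a⁻¹ = a := inv_eq_of_mul_eq_one_left ha2
  have hb' : b⁻¹ = b := inv_eq_of_mul_eq_one_left hb2
  have hr : (a * b)⁻¹ = b * a := by rw [mul_inv_rev, ha', hb']
  have hinvj : ∀ j : ℕ, a * (a * b) ^ j * a⁻¹ = ((a * b) ^ j)⁻¹ := by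
    intro j
    rw [← conj_pow, ← inv_pow, hr, ha', ← mul_assoc, ha2, one_mul]
  have hinvb : ∀ j : ℕ, b * (a * b) ^ j * b⁻¹ = ((a * b) ^ j)⁻¹ := by
    intro j
    rw [← conj_pow, ← inv_pow, hr, mul_assoc, mul_assoc, mul_inv_cancel, mul_one]
  rcases Nat.even_or_odd (orderOf (a * b)) with he | ho
  · obtain ⟨k, hk⟩ := he
    have hpos : 0 < orderOf (a * b) := orderOf_pos _
    have hk0 : 0 < k := by omega
    have ht : orderOf ((a * b) ^ k) = 2 := by
      rw [orderOf_pow, hk]
      have : Nat.gcd (k + k) k = k := by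
        rw [← two_mul]; simp
      rw [this, ← two_mul, Nat.mul_div_cancel _ hk0]
    have htt : ((a * b) ^ k)⁻¹ = (a * b) ^ k := by
      apply inv_eq_of_mul_eq_one_left
      have := pow_orderOf_eq_one ((a * b) ^ k)
      rw [ht, pow_two] at this; exact this
    refine ⟨(a * b) ^ k, ht, ?_, ?_⟩
    · have h1 := hinvj k
      rw [htt] at h1
      have : a * (a * b) ^ k = (a * b) ^ k * a := by
        rw [mul_inv_eq_iff_eq_mul] at h1; exact h1
      exact this.symm
    · have h1 := hinvb k
      rw [htt] at h1
      have : b * (a * b) ^ k = (a * b) ^ k * b := by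
        rw [mul_inv_eq_iff_eq_mul] at h1; exact h1
      exact this.symm
  · exfalso
    apply hn
    obtain ⟨k, hk⟩ := ho
    rw [isConj_iff]
    refine ⟨(a * b) ^ k, ?_⟩
    have h1 := hinvj k
    have h2 : (a * b) ^ (2 * k + 1) = 1 := by rw [← hk]; exact pow_orderOf_eq_one _
    have h3 : a * ((a * b) ^ k)⁻¹ = (a * b) ^ k * a := by
      have h4 : a * (a * b) ^ k = ((a * b) ^ k)⁻¹ * a := by
        rw [mul_inv_eq_iff_eq_mul] at h1; exact h1
      calc a * ((a * b) ^ k)⁻¹ = (a * b) ^ k * (((a * b) ^ k)⁻¹ * a) * ((a * b) ^ k)⁻¹ := by group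
        _ = (a * b) ^ k * (a * (a * b) ^ k) * ((a * b) ^ k)⁻¹ := by rw [h4]
        _ = _ := by group
    rw [mul_assoc, h3, ← mul_assoc, ← pow_add, ← two_mul]
    have h5 : (a * b) ^ (2 * k) = (a * b)⁻¹ := by
      rw [eq_inv_iff_mul_eq_one, ← pow_succ, h2]
    rw [h5, hr, mul_assoc, ha2, mul_one]

/-- if `c` commutes with all its conjugates in a simple group then the group is commutative -/
lemma comm_of_conj [IsSimpleGroup G] {c : G} (hc : c ≠ 1) (h : ∀ g : G, Commute (g * c * g⁻¹) c) :
    ∀ a b : G, a * b = b * a := by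
  have hn : Subgroup.normalClosure ({c} : Set G) = ⊤ := by
    rcases (Subgroup.normalClosure_normal (s := ({c} : Set G))).eq_bot_or_eq_top with h1 | h1
    · exfalso
      apply hc
      have : c ∈ Subgroup.normalClosure ({c} : Set G) := Subgroup.subset_normalClosure (Set.mem_singleton c)
      rw [h1] at this; exact Subgroup.mem_bot.1 this
    · exact h1
  have hz : c ∈ Subgroup.center G := by
    rw [Subgroup.mem_center_iff]
    intro g
    have hle : Subgroup.normalClosure ({c} : Set G) ≤ Subgroup.centralizer ({c} : Set G) := by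
      rw [Subgroup.normalClosure, Subgroup.closure_le]
      intro y hy
      obtain ⟨z, hz, hy'⟩ := Group.mem_conjugatesOfSet_iff.1 hy
      rw [Set.mem_singleton_iff] at hz
      subst hz
      obtain ⟨g, rfl⟩ := isConj_iff.1 hy'
      rw [SetLike.mem_coe, Subgroup.mem_centralizer_singleton_iff]
      exact (h g).eq
    have : g ∈ Subgroup.centralizer ({c} : Set G) := hle (hn ▸ Subgroup.mem_top g)
    rw [Subgroup.mem_centralizer_singleton_iff] at this
    exact this
  rcases (inferInstance : (Subgroup.center G).Normal).eq_bot_or_eq_top with h1 | h1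
  · exfalso; apply hc; rw [h1] at hz; exact Subgroup.mem_bot.1 hz
  · intro a b
    have : b ∈ Subgroup.center G := h1 ▸ Subgroup.mem_top b
    exact (Subgroup.mem_center_iff.1 this a)

lemma mul_ord_two {a b : G} (ha : orderOf a = 2) (hb : orderOf b = 2) (hab : Commute a b) (hne : a ≠ b) :
    orderOf (a * b) = 2 := by
  have ha2 : a * a = 1 := by have := pow_orderOf_eq_one a; rw [ha, pow_two] at this; exact this
  have hb2 : b * b = 1 := by have := pow_orderOf_eq_one b; rw [hb, pow_two] at this; exact this
  apply orderOf_eq_prime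
  · rw [pow_two]
    calc a * b * (a * b) = a * (b * a) * b := by group
      _ = a * (a * b) * b := by rw [hab.eq]
      _ = (a * a) * (b * b) := by group
      _ = 1 := by rw [ha2, hb2, one_mul]
  · intro h
    apply hne
    calc a = a * (b * b) := by rw [hb2, mul_one]
      _ = (a * b) * b := by group
      _ = b := by rw [h, one_mul]

lemma tri {x : G} (hx : orderOf x = 2)
    (h3 : Nat.card {u : ↥(Subgroup.centralizer ({x} : Set G)) // orderOf u = 2} ≤ 3) {u : G} (hu : orderOf u = 2)
    (hux : Commute u x) (hne : u ≠ x) {v : G} (hv : orderOf v = 2) (hvx : Commute v x) :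
    v = x ∨ v = u ∨ v = x * u := by
  classical
  by_contra hcon
  push Not at hcon
  obtain ⟨h1, h2, h4⟩ := hcon
  have hx1 : x ≠ 1 := by intro h; rw [h, orderOf_one] at hx; omega
  have hu1 : u ≠ 1 := by intro h; rw [h, orderOf_one] at hu; omega
  have hxu : orderOf (x * u) = 2 := mul_ord_two hx hu hux.symm (Ne.symm hne)
  have key : ∀ w : G, orderOf w = 2 → Commute w x → ∃ W : {u : ↥(Subgroup.centralizer ({x} : Set G)) // orderOf u = 2}, ((W : ↥(Subgroup.centralizer ({x} : Set G))) : G) = w := by
    intro w hw hwx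
    refine ⟨⟨⟨w, ?_⟩, ?_⟩, rfl⟩
    · rw [Subgroup.mem_centralizer_singleton_iff]; exact hwx.eq
    · rw [← hw, ← Subgroup.orderOf_coe]
  obtain ⟨X, hX⟩ := key x hx (Commute.refl x)
  obtain ⟨U, hU⟩ := key u hu hux
  obtain ⟨W, hW⟩ := key (x * u) hxu ((Commute.refl x).mul_left hux)
  obtain ⟨V, hV⟩ := key v hv hvx
  have hcard : ({X, U, W, V} : Finset {u : ↥(Subgroup.centralizer ({x} : Set G)) // orderOf u = 2}).card = 4 := by
    let f : {u : ↥(Subgroup.centralizer ({x} : Set G)) // orderOf u = 2} → G := fun W => ((W : ↥(Subgroup.centralizer ({x} : Set G))) : G)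
    have fX : f X = x := hX
    have fU : f U = u := hU
    have fW : f W = x * u := hW
    have fV : f V = v := hV
    have e1 : X ≠ U := by
      intro h; exact hne (fU.symm.trans ((congrArg f h.symm).trans fX))
    have e2 : X ≠ W := by
      intro h; apply hu1
      have : x = x * u := fX.symm.trans ((congrArg f h).trans fW)
      simpa using this.symm
    have e3 : X ≠ V := by
      intro h; exact h1 (fV.symm.trans ((congrArg f h.symm).trans fX))
    have e4 : U ≠ W := by
      intro h; apply hx1
      have : u = x * u := fU.symm.trans ((congrArg f h).trans fW)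
      simpa using this.symm
    have e5 : U ≠ V := by
      intro h; exact h2 (fV.symm.trans ((congrArg f h.symm).trans fU))
    have e6 : W ≠ V := by
      intro h; exact h4 (fV.symm.trans ((congrArg f h.symm).trans fW))
    rw [Finset.card_insert_of_notMem, Finset.card_insert_of_notMem, Finset.card_insert_of_notMem, Finset.card_singleton]
    · simpa using e6
    · simp [e4, e5]
    · simp [e1, e2, e3]
  have hfin : Fintype {u : ↥(Subgroup.centralizer ({x} : Set G)) // orderOf u = 2} := Fintype.ofFinite _
  have := Finset.card_le_univ ({X, U, W, V} : Finset {u : ↥(Subgroup.centralizer ({x} : Set G)) // orderOf u = 2})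
  rw [hcard, ← Nat.card_eq_fintype_card] at this
  omega

/-- the trichotomy transports to conjugates -/
lemma tri_conj {x u : G} (hT : ∀ v : G, orderOf v = 2 → Commute v x → v = x ∨ v = u ∨ v = x * u) (g : G) {v : G}
    (hv : orderOf v = 2) (hvx : Commute v (g * x * g⁻¹)) :
    v = g * x * g⁻¹ ∨ v = g * u * g⁻¹ ∨ v = g * (x * u) * g⁻¹ := by
  have hv' : orderOf (g⁻¹ * v * g) = 2 := by
    have := orderOf_injective (MulAut.conj g⁻¹).toMonoidHom (MulAut.conj g⁻¹).injective v
    simp only [MulEquiv.toMonoidHom_eq_coe, MonoidHom.coe_coe, MulAut.conj_apply, inv_inv] at this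
    rw [this, hv]
  have hc' : Commute (g⁻¹ * v * g) x := by
    have h1 : g⁻¹ * v * g * x = g⁻¹ * (v * (g * x * g⁻¹)) * g := by group
    have h2 : x * (g⁻¹ * v * g) = g⁻¹ * ((g * x * g⁻¹) * v) * g := by group
    show g⁻¹ * v * g * x = x * (g⁻¹ * v * g)
    rw [h1, h2, hvx.eq]
  rcases hT _ hv' hc' with h | h | h
  · left; rw [← h]; group
  · right; left; rw [← h]; group
  · right; right; rw [← h]; group

lemma conj_ord (g : G) {v : G} (hv : orderOf v = 2) : orderOf (g * v * g⁻¹) = 2 := by
  have := orderOf_injective (MulAut.conj g).toMonoidHom (MulAut.conj g).injective v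
  simp only [MulEquiv.toMonoidHom_eq_coe, MonoidHom.coe_coe, MulAut.conj_apply] at this
  rw [this, hv]

/-- key: `x ~ u`, then `x ~ x u` (G not commutative) -/
lemma third [IsSimpleGroup G] {x u : G} (hx : orderOf x = 2) (hu : orderOf u = 2) (hux : Commute u x) (hne : u ≠ x)
    (hT : ∀ v : G, orderOf v = 2 → Commute v x → v = x ∨ v = u ∨ v = x * u) (hc : IsConj x u) :
    IsConj x (x * u) := by
  by_contra hno
  have hxu : orderOf (x * u) = 2 := mul_ord_two hx hu hux.symm (Ne.symm hne)
  -- trichotomy for u
  have hTu : ∀ v : G, orderOf v = 2 → Commute v u → v = x ∨ v = u ∨ v = x * u := by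
    obtain ⟨g, hg⟩ := isConj_iff.1 hc
    -- the set of involutions of C(u) is conj of {x,u,xu}; contains x,u,xu
    have key : ∀ v : G, orderOf v = 2 → Commute v u → v = g * x * g⁻¹ ∨ v = g * u * g⁻¹ ∨ v = g * (x * u) * g⁻¹ := by
      intro v hv hvu
      exact tri_conj hT g hv (by rw [hg]; exact hvu)
    have hx1 : x ≠ 1 := by intro h; rw [h, orderOf_one] at hx; omega
    have hu1 : u ≠ 1 := by intro h; rw [h, orderOf_one] at hu; omega
    have e4 : x * u ≠ x := by intro h; apply hu1; simpa using h
    have e5 : x * u ≠ u := by intro h; apply hx1; simpa using h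
    have k1 := key x hx hux.symm
    have k2 := key u hu (Commute.refl u)
    have k3 := key (x * u) hxu (hux.symm.mul_left (Commute.refl u))
    intro v hv hvu
    rcases key v hv hvu with h | h | h
    · rw [hg] at h; right; left; exact h
    · rcases k1 with a | a | a <;> rcases k3 with b | b | b <;>
        first
        | (left; rw [h, ← a]; done)
        | (right; right; rw [h, ← b]; done)
        | (exfalso; rw [hg] at a; exact hne a.symm)
        | (exfalso; rw [hg] at b; exact e5 b)
        | (exfalso; exact e4 (b.trans a.symm))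
    · rcases k1 with a | a | a <;> rcases k3 with b | b | b <;>
        first
        | (left; rw [h, ← a]; done)
        | (right; right; rw [h, ← b]; done)
        | (exfalso; rw [hg] at a; exact hne a.symm)
        | (exfalso; rw [hg] at b; exact e5 b)
        | (exfalso; exact e4 (b.trans a.symm))
  have hcomm : ∀ g : G, Commute (g * (x * u) * g⁻¹) (x * u) := by
    intro g
    by_contra hnc
    -- take x' = x, w = g (xu) g⁻¹
    have hnoc : ¬ IsConj x (g * (x * u) * g⁻¹) := by
      intro h
      apply hno
      exact h.trans (isConj_iff.2 ⟨g⁻¹, by group⟩)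
    obtain ⟨t, ht, htx, htw⟩ := comm_inv hx (conj_ord g hxu) hnoc
    rcases hT t ht htx with h | h | h
    · subst h
      rcases hT _ (conj_ord g hxu) htw.symm with h' | h' | h'
      · exact hnoc (by rw [h'])
      · exact hnoc (by rw [h']; exact hc)
      · exact hnc (by rw [h'])
    · subst h
      rcases hTu _ (conj_ord g hxu) htw.symm with h' | h' | h'
      · exact hnoc (by rw [h'])
      · exact hnoc (by rw [h']; exact hc)
      · exact hnc (by rw [h'])
    · rw [h] at htw
      exact hnc htw.symm
  have hab := comm_of_conj (by intro h; rw [h, orderOf_one] at hxu; omega) hcomm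
  obtain ⟨g, hg⟩ := isConj_iff.1 hc
  apply hne
  rw [← hg, hab g x, mul_assoc, mul_inv_cancel, mul_one]

lemma one_class [IsSimpleGroup G] {x : G} (hx : orderOf x = 2)
    (h3 : Nat.card {u : ↥(Subgroup.centralizer ({x} : Set G)) // orderOf u = 2} ≤ 3) (S : Sylow 2 G)
    (hS : (S : Subgroup G) ≤ Subgroup.centralizer ({x} : Set G)) (v : G) (hv : orderOf v = 2) : IsConj x v := by
  -- x ∈ S
  have hxS : x ∈ S := by
    by_contra hxS
    -- S ⟨x⟩ is a 2-group
    have hP : IsPGroup 2 (Subgroup.zpowers x) := by
      apply IsPGroup.of_card (n := 1)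
      rw [Nat.card_zpowers, hx, pow_one]
    have hle : Subgroup.zpowers x ≤ Subgroup.normalizer ((S : Subgroup G) : Set G) := by
      rw [Subgroup.zpowers_le]
      rw [Subgroup.mem_normalizer_iff]
      intro h
      have : ∀ s ∈ S, x * s * x⁻¹ = s := by
        intro s hs
        have := hS hs
        rw [Subgroup.mem_centralizer_singleton_iff] at this
        rw [← this, mul_assoc, mul_inv_cancel, mul_one]
      constructor
      · intro hh
        rw [this h hh]; exact hh
      · intro hh
        have h1 := this _ hh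
        have h2 : x * h * x⁻¹ = h := by
          have : x * (x * h * x⁻¹) * x⁻¹ = x * h * x⁻¹ := h1
          have h4 : x * h * x⁻¹ = x⁻¹ * (x * (x * h * x⁻¹) * x⁻¹) * x := by group
          rw [this] at h4
          rw [h4]; group
        rw [h2] at hh; exact hh
    have hsup : IsPGroup 2 ↥((S : Subgroup G) ⊔ Subgroup.zpowers x) :=
      IsPGroup.to_sup_of_normal_left' S.isPGroup' hP hle
    have := S.is_maximal' hsup le_sup_left
    apply hxS
    rw [← SetLike.mem_coe, ← Sylow.coe_coe, SetLike.mem_coe, ← this]
    exact Subgroup.mem_sup_right (Subgroup.mem_zpowers x)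
  -- v is conjugate into S
  have hconj : ∀ v : G, orderOf v = 2 → ∃ g : G, g * v * g⁻¹ ∈ S := by
    intro v hv
    have hP : IsPGroup 2 (Subgroup.zpowers v) := by
      apply IsPGroup.of_card (n := 1)
      rw [Nat.card_zpowers, hv, pow_one]
    obtain ⟨Q, hQ⟩ := hP.exists_le_sylow
    obtain ⟨g, hg⟩ := MulAction.exists_smul_eq G Q S
    refine ⟨g, ?_⟩
    rw [← hg]
    show g * v * g⁻¹ ∈ ((g • Q : Sylow 2 G) : Subgroup G)
    rw [Sylow.coe_subgroup_smul, Subgroup.mem_pointwise_smul_iff_inv_smul_mem]
    simp only [MulAut.smul_def, ← map_inv, MulAut.conj_apply, inv_inv]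
    have : g⁻¹ * (g * v * g⁻¹) * g = v := by group
    rw [this]
    exact hQ (Subgroup.mem_zpowers v)
  have hSx : ∀ w ∈ S, Commute w x := by
    intro w hw
    have := hS hw
    rw [Subgroup.mem_centralizer_singleton_iff] at this
    exact this
  by_cases hone : ∀ u : G, orderOf u = 2 → Commute u x → u = x
  · obtain ⟨g, hg⟩ := hconj v hv
    have := hone _ (conj_ord g hv) (hSx _ hg)
    exact (isConj_iff.2 ⟨g, this⟩ : IsConj v x).symm
  · push Not at hone
    obtain ⟨u, hu, hux, hne⟩ := hone
    have hT : ∀ v : G, orderOf v = 2 → Commute v x → v = x ∨ v = u ∨ v = x * u :=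
      fun v hv hvx => tri hx h3 hu hux hne hv hvx
    have hxu : orderOf (x * u) = 2 := mul_ord_two hx hu hux.symm (Ne.symm hne)
    have hx1 : x ≠ 1 := by intro h; rw [h, orderOf_one] at hx; omega
    have hu1 : u ≠ 1 := by intro h; rw [h, orderOf_one] at hu; omega
    have hx2 : x * x = 1 := by have := pow_orderOf_eq_one x; rw [hx, pow_two] at this; exact this
    have hall : IsConj x u ∧ IsConj x (x * u) := by
      by_cases hc1 : IsConj x u
      · exact ⟨hc1, third hx hu hux hne hT hc1⟩
      · by_cases hc2 : IsConj x (x * u)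
        · have hxx : x * (x * u) = u := by rw [← mul_assoc, hx2, one_mul]
          have := third hx hxu ((Commute.refl x).mul_left hux) (by intro h; apply hu1; simpa using h)
            (by
              intro v hv hvx
              rw [hxx]
              rcases hT v hv hvx with h | h | h
              · left; exact h
              · right; right; exact h
              · right; left; exact h) hc2
          rw [hxx] at this
          exact ⟨this, hc2⟩
        · exfalso
          obtain ⟨N, hN, hNodd, hNc⟩ := zst S x hx hxS (by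
            intro g hg
            rcases hT _ (conj_ord g hx) (hSx _ hg) with h | h | h
            · exact h
            · exact absurd (isConj_iff.2 ⟨g, h⟩) hc1
            · exact absurd (isConj_iff.2 ⟨g, h⟩) hc2)
          have hNb : N = ⊥ := by
            rcases hN.eq_bot_or_eq_top with h | h
            · exact h
            · exfalso
              rw [h, Subgroup.card_top] at hNodd
              have : 2 ∣ Nat.card G := hx ▸ orderOf_dvd_natCard x
              rw [← Nat.not_even_iff_odd] at hNodd
              exact hNodd (even_iff_two_dvd.2 this)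
          have hcx : ∀ g : G, x * g = g * x := by
            intro g
            have := hNc g
            rw [hNb, Subgroup.mem_bot] at this
            have h5 : x * g * x⁻¹ = g := by rwa [mul_inv_eq_one] at this
            rw [mul_inv_eq_iff_eq_mul] at h5
            exact h5
          have hab := comm_of_conj hx1 (fun g => by
            show g * x * g⁻¹ * x = x * (g * x * g⁻¹)
            rw [hcx (g * x * g⁻¹)])
          -- all Sylow conj in abelian simple group: use that zpowers x = ⊤
          have hz : (Subgroup.zpowers x).Normal := ⟨by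
            intro n hn g
            have : g * n * g⁻¹ = n := by rw [hab g n, mul_assoc, mul_inv_cancel, mul_one]
            rw [this]; exact hn⟩
          rcases hz.eq_bot_or_eq_top with h | h
          · apply hx1
            have : x ∈ Subgroup.zpowers x := Subgroup.mem_zpowers x
            rw [h, Subgroup.mem_bot] at this; exact this
          · have hcG : Nat.card G = 2 := by
              rw [← Subgroup.card_top (G := G), ← h, Nat.card_zpowers, hx]
            have h2 : u ∈ Subgroup.zpowers x := h ▸ Subgroup.mem_top u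
            obtain ⟨k, hk⟩ := Subgroup.mem_zpowers_iff.1 h2
            rcases Int.even_or_odd' k with ⟨j, hj | hj⟩
            · apply hu1
              rw [← hk, hj, zpow_mul, zpow_ofNat, pow_two, hx2, one_zpow]
            · apply hne
              rw [← hk, hj, zpow_add, zpow_mul, zpow_ofNat, pow_two, hx2, one_zpow, one_mul, zpow_one]
    obtain ⟨g, hg⟩ := hconj v hv
    have hvg : IsConj (g * v * g⁻¹) v := isConj_iff.2 ⟨g⁻¹, by group⟩
    rcases hT _ (conj_ord g hv) (hSx _ hg) with h | h | h
    · rw [h] at hvg; exact hvg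
    · rw [h] at hvg; exact hall.1.trans hvg
    · rw [h] at hvg; exact hall.2.trans hvg

/-- x is 2-central -/
lemma two_central [IsSimpleGroup G] {x : G} (hx : orderOf x = 2)
    (h3 : Nat.card {u : ↥(Subgroup.centralizer ({x} : Set G)) // orderOf u = 2} ≤ 3) :
    ∃ S : Sylow 2 G, (S : Subgroup G) ≤ Subgroup.centralizer ({x} : Set G) := by
  have hP : IsPGroup 2 (Subgroup.zpowers x) := by
    apply IsPGroup.of_card (n := 1)
    rw [Nat.card_zpowers, hx, pow_one]
  obtain ⟨S, hS⟩ := hP.exists_le_sylow
  have hxS : x ∈ S := hS (Subgroup.mem_zpowers x)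
  have hx1 : x ≠ 1 := by intro h; rw [h, orderOf_one] at hx; omega
  haveI : Nontrivial ↥(S : Subgroup G) := ⟨⟨⟨x, hxS⟩, 1, by
    intro h; apply hx1; exact congrArg Subtype.val h⟩⟩
  haveI := S.isPGroup'.center_nontrivial
  -- an involution z in the center
  have hzex : ∃ z : G, orderOf z = 2 ∧ z ∈ S ∧ ∀ s ∈ S, Commute s z := by
    have hPc : IsPGroup 2 ↥(Subgroup.center ↥(S : Subgroup G)) := S.isPGroup'.to_subgroup _
    obtain ⟨n, hn⟩ := IsPGroup.iff_card.1 hPc
    have hdvd : 2 ∣ Nat.card ↥(Subgroup.center ↥(S : Subgroup G)) := by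
      have h1 : 1 < Nat.card ↥(Subgroup.center ↥(S : Subgroup G)) := Finite.one_lt_card
      rcases n with _ | n
      · rw [hn] at h1; simp at h1
      · rw [hn, pow_succ]; exact Dvd.intro_left _ rfl
    obtain ⟨z, hz⟩ := exists_prime_orderOf_dvd_card' 2 hdvd
    refine ⟨((z : ↥(S : Subgroup G)) : G), ?_, (z : ↥(S : Subgroup G)).2, ?_⟩
    · rw [Subgroup.orderOf_coe, Subgroup.orderOf_coe, hz]
    · intro s hs
      have := Subgroup.mem_center_iff.1 z.2 ⟨s, hs⟩
      exact congrArg Subtype.val this
  obtain ⟨z, hz, hzS, hzc⟩ := hzex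
  by_contra hno
  push Not at hno
  have hzx : Commute z x := (hzc x hxS).symm
  have hSz : (S : Subgroup G) ≤ Subgroup.centralizer ({z} : Set G) := by
    intro s hs
    rw [Subgroup.mem_centralizer_singleton_iff]
    exact (hzc s hs).eq
  have hzne : z ≠ x := by
    intro h
    rw [h] at hSz
    exact hno S hSz
  have hT : ∀ v : G, orderOf v = 2 → Commute v x → v = x ∨ v = z ∨ v = x * z :=
    fun v hv hvx => tri hx h3 hz hzx hzne hv hvx
  -- x not conj to z
  have hnc : ¬ IsConj x z := by
    intro hc
    obtain ⟨g, hg⟩ := isConj_iff.1 hc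
    apply hno (g⁻¹ • S)
    intro s hs
    rw [Subgroup.mem_centralizer_singleton_iff]
    rw [Sylow.coe_subgroup_smul, Subgroup.mem_pointwise_smul_iff_inv_smul_mem] at hs
    simp only [MulAut.smul_def, ← map_inv, MulAut.conj_apply, inv_inv] at hs
    have h1 := (hzc _ hs).eq
    rw [← hg] at h1
    have h2 : g⁻¹ * (g * s * g⁻¹ * (g * x * g⁻¹)) * g = g⁻¹ * (g * x * g⁻¹ * (g * s * g⁻¹)) * g := by rw [h1]
    have h3 : g⁻¹ * (g * s * g⁻¹ * (g * x * g⁻¹)) * g = s * x := by group
    have h4 : g⁻¹ * (g * x * g⁻¹ * (g * s * g⁻¹)) * g = x * s := by group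
    rw [h3, h4] at h2
    exact h2
  have hz1 : z ≠ 1 := by intro h; rw [h, orderOf_one] at hz; omega
  -- x ~ x z by an element normalizing C_S(x)
  have hcxz : IsConj x (x * z) ∧ ∃ g : G, g * x * g⁻¹ = x * z := by
    let T : Subgroup ↥(S : Subgroup G) := Subgroup.centralizer {(⟨x, hxS⟩ : ↥(S : Subgroup G))}
    have hTne : T ≠ ⊤ := by
      intro hT
      apply hno S
      intro s hs
      rw [Subgroup.mem_centralizer_singleton_iff]
      have : (⟨s, hs⟩ : ↥(S : Subgroup G)) ∈ T := hT ▸ Subgroup.mem_top _
      rw [Subgroup.mem_centralizer_singleton_iff] at this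
      exact congrArg Subtype.val this
    haveI := S.isPGroup'.isNilpotent
    have hlt : T < Subgroup.normalizer (T : Set ↥(S : Subgroup G)) :=
      Group.normalizerCondition_of_isNilpotent T (lt_top_iff_ne_top.2 hTne)
    obtain ⟨s, hs, hsT⟩ := SetLike.exists_of_lt hlt
    have hsx : (s : G) * x * (s : G)⁻¹ ≠ x := by
      intro h
      apply hsT
      rw [Subgroup.mem_centralizer_singleton_iff]
      apply Subtype.ext
      show (s : G) * x = x * (s : G)
      rw [mul_inv_eq_iff_eq_mul] at h; exact h
    have hsx2 : Commute ((s : G) * x * (s : G)⁻¹) x := by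
      have hxT : (⟨x, hxS⟩ : ↥(S : Subgroup G)) ∈ T := by
        rw [Subgroup.mem_centralizer_singleton_iff]
      have := (Subgroup.mem_normalizer_iff.1 hs ⟨x, hxS⟩).1 hxT
      rw [Subgroup.mem_centralizer_singleton_iff] at this
      exact congrArg Subtype.val this
    have hsc : IsConj x ((s : G) * x * (s : G)⁻¹) := isConj_iff.2 ⟨s, rfl⟩
    rcases hT _ (conj_ord (s : G) hx) hsx2 with h | h | h
    · exact absurd h hsx
    · rw [h] at hsc; exact absurd hsc hnc
    · rw [h] at hsc; exact ⟨hsc, s, h⟩
  obtain ⟨hcxz, s, hs⟩ := hcxz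
  have hxz : orderOf (x * z) = 2 := mul_ord_two hx hz hzx.symm (Ne.symm hzne)
  -- trichotomy for x z
  have hTxz : ∀ v : G, orderOf v = 2 → Commute v (x * z) → v = x ∨ v = z ∨ v = x * z := by
    have hx1 : x ≠ 1 := by intro h; rw [h, orderOf_one] at hx; omega
    have key : ∀ v : G, orderOf v = 2 → Commute v (x * z) → v = s * x * s⁻¹ ∨ v = s * z * s⁻¹ ∨ v = s * (x * z) * s⁻¹ := by
      intro v hv hvu
      exact tri_conj hT s hv (by rw [hs]; exact hvu)
    have e4 : x * z ≠ x := by intro h; apply hz1; simpa using h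
    have e5 : x * z ≠ z := by intro h; apply hx1; simpa using h
    have k1 := key x hx ((Commute.refl x).mul_right hzx.symm)
    have k2 := key z hz (hzx.mul_right (Commute.refl z))
    intro v hv hvu
    rcases key v hv hvu with h | h | h
    · rw [hs] at h; right; right; exact h
    · rcases k1 with a | a | a <;> rcases k2 with b | b | b <;>
        first
        | (left; rw [h, ← a]; done)
        | (right; left; rw [h, ← b]; done)
        | (exfalso; rw [hs] at a; exact e4 a.symm)
        | (exfalso; rw [hs] at b; exact e5 b.symm)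
        | (exfalso; exact hzne (b.trans a.symm))
    · rcases k1 with a | a | a <;> rcases k2 with b | b | b <;>
        first
        | (left; rw [h, ← a]; done)
        | (right; left; rw [h, ← b]; done)
        | (exfalso; rw [hs] at a; exact e4 a.symm)
        | (exfalso; rw [hs] at b; exact e5 b.symm)
        | (exfalso; exact hzne (b.trans a.symm))
  have hcomm : ∀ g : G, Commute (g * z * g⁻¹) z := by
    intro g
    by_contra hncm
    have hnoc : ¬ IsConj x (g * z * g⁻¹) := by
      intro h
      apply hnc
      exact h.trans (isConj_iff.2 ⟨g⁻¹, by group⟩)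
    obtain ⟨t, ht, htx, htw⟩ := comm_inv hx (conj_ord g hz) hnoc
    rcases hT t ht htx with h | h | h
    · subst h
      rcases hT _ (conj_ord g hz) htw.symm with h' | h' | h'
      · exact hnoc (by rw [h'])
      · exact hncm (by rw [h'])
      · exact hnoc (by rw [h']; exact hcxz)
    · rw [h] at htw
      exact hncm htw.symm
    · subst h
      rcases hTxz _ (conj_ord g hz) htw.symm with h' | h' | h'
      · exact hnoc (by rw [h'])
      · exact hncm (by rw [h'])
      · exact hnoc (by rw [h']; exact hcxz)
  have hab := comm_of_conj hz1 hcomm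
  apply hz1
  have : x * z = x := by rw [← hs, hab s x, mul_assoc, mul_inv_cancel, mul_one]
  simpa using this

/-- Let G be a finite simple group and x an involution of G whose centralizer contains at most three involutions. Then C_G(x) contains a Sylow 2-subgroup of G, and all involutions of G are conjugate. -/
theorem result {G : Type*} [Group G] [Finite G] [IsSimpleGroup G] (x : G) (hx : orderOf x = 2)
    (h3 : Nat.card {u : ↥(Subgroup.centralizer ({x} : Set G)) // orderOf u = 2} ≤ 3) :
    (∃ S : Sylow 2 G, (S : Subgroup G) ≤ Subgroup.centralizer ({x} : Set G)) ∧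
      ∀ u v : G, orderOf u = 2 → orderOf v = 2 → IsConj u v := by
  obtain ⟨S, hS⟩ := two_central hx h3
  refine ⟨⟨S, hS⟩, ?_⟩
  intro u v hu hv
  exact (one_class hx h3 S hS u hu).symm.trans (one_class hx h3 S hS v hv)

end Cfsg.Agent.S3279
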