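import Cfsg.Statements.S3269
import Mathlib
import Cfsg.Agent.EqBase
import Cfsg.Agent.S3279
import Cfsg.Agent.LibKF11c

set_option autoImplicit false
set_option linter.all false
open Cfsg

namespace Cfsg.Agent.S3269

open Subgroup CfsgLib.BW11 CfsgLib.KF11

universe u

theorem quat_sq_one (n : ℕ) (q : QuaternionGroup (2 ^ n)) (h : q * q = 1) :
    q = 1 ∨ q = QuaternionGroup.a (((2 ^ n : ℕ)) : ZMod (2 * 2 ^ n)) := by
  haveI : NeZero (2 * 2 ^ n) := ⟨by positivity⟩
  cases q with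
  | a i =>
    rw [QuaternionGroup.a_mul_a, QuaternionGroup.one_def] at h
    have h1 : i + i = 0 := by injection h
    have h2 : ((i.val + i.val : ℕ) : ZMod (2 * 2 ^ n)) = 0 := by
      rw [Nat.cast_add, ZMod.natCast_zmod_val, h1]
    rw [ZMod.natCast_eq_zero_iff] at h2
    have h3 := ZMod.val_lt i
    obtain ⟨c, hc⟩ := h2
    have h4 : i.val = 2 ^ n * c := by
      have : 2 * i.val = 2 * (2 ^ n * c) := by rw [← mul_assoc, ← hc]; ring
      omega
    have hc2 : c < 2 := by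
      by_contra hcon
      have h5 : 2 ^ n * 2 ≤ 2 ^ n * c := Nat.mul_le_mul_left _ (by omega)
      omega
    interval_cases c
    · left
      rw [QuaternionGroup.one_def]
      congr 1
      rw [← ZMod.natCast_zmod_val i, h4]; simp
    · right
      congr 1
      rw [← ZMod.natCast_zmod_val i, h4, mul_one]
  | xa i =>
    rw [QuaternionGroup.xa_mul_xa, QuaternionGroup.one_def] at h
    have h1 : (((2 ^ n : ℕ)) : ZMod (2 * 2 ^ n)) + i - i = 0 := by injection h
    rw [add_sub_cancel_right, ZMod.natCast_eq_zero_iff] at h1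
    have h2 := Nat.le_of_dvd (by positivity) h1
    have : 0 < 2 ^ n := by positivity
    omega

/-- data of a quaternion group -/
theorem quat_data {G : Type u} [Group G] (Q : Subgroup G) (n : ℕ) (hn : 1 ≤ n) (eQ : ↥Q ≃* QuaternionGroup (2 ^ n)) :
    ∃ z ∈ Q, z * z = 1 ∧ z ≠ 1 ∧ (∀ q ∈ Q, q * q = 1 → q = 1 ∨ q = z) ∧
      ∃ f : Fin 3 → G, Function.Injective f ∧ (∀ i, f i ∈ Q) ∧ (∀ i, f i * f i = z) := by
  haveI : NeZero (2 * 2 ^ n) := ⟨by positivity⟩
  obtain ⟨z', hz'⟩ : ∃ z' : QuaternionGroup (2 ^ n), z' = QuaternionGroup.a (((2 ^ n : ℕ)) : ZMod (2 * 2 ^ n)) := ⟨_, rfl⟩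
  have hz'2 : z' * z' = 1 := by
    rw [hz', QuaternionGroup.a_mul_a, QuaternionGroup.one_def]
    congr 1
    rw [← Nat.cast_add, ZMod.natCast_eq_zero_iff]
    exact ⟨1, by ring⟩
  have hz'1 : z' ≠ 1 := by
    intro h0
    rw [hz', QuaternionGroup.one_def] at h0
    have h1 : (((2 ^ n : ℕ)) : ZMod (2 * 2 ^ n)) = 0 := by injection h0
    rw [ZMod.natCast_eq_zero_iff] at h1
    have h2 := Nat.le_of_dvd (by positivity) h1
    have : 0 < 2 ^ n := by positivity
    omega
  refine ⟨(eQ.symm z' : G), (eQ.symm z').2, ?_, ?_, ?_, ?_⟩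
  · have : (eQ.symm z') * (eQ.symm z') = 1 := by rw [← map_mul, hz'2, map_one]
    exact congrArg Subtype.val this
  · intro h0
    apply hz'1
    have h1 : eQ.symm z' = 1 := Subtype.ext h0
    rw [← eQ.apply_symm_apply z', h1, map_one]
  · intro q hq hqq
    have h1 : (eQ ⟨q, hq⟩) * (eQ ⟨q, hq⟩) = 1 := by
      rw [← map_mul]
      have : (⟨q, hq⟩ : Q) * ⟨q, hq⟩ = 1 := Subtype.ext hqq
      rw [this, map_one]
    rcases quat_sq_one n _ h1 with h2 | h2
    · left
      have h3 : (⟨q, hq⟩ : Q) = 1 := eQ.injective (by rw [h2, map_one])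
      exact congrArg Subtype.val h3
    · right
      have h3 : (⟨q, hq⟩ : Q) = eQ.symm z' := by rw [hz', ← h2, eQ.symm_apply_apply]
      exact congrArg Subtype.val h3
  · refine ⟨fun i => (eQ.symm (QuaternionGroup.xa ((i.val : ℕ) : ZMod (2 * 2 ^ n))) : G), ?_, fun i => (eQ.symm _).2, ?_⟩
    · intro i j hij
      have h1 := eQ.symm.injective (Subtype.ext hij)
      have h2 : ((i.val : ℕ) : ZMod (2 * 2 ^ n)) = ((j.val : ℕ) : ZMod (2 * 2 ^ n)) := by injection h1
      have h4 : 4 ≤ 2 * 2 ^ n := by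
        have : 2 ^ 1 ≤ 2 ^ n := Nat.pow_le_pow_right (by norm_num) hn
        omega
      rw [ZMod.natCast_eq_natCast_iff', Nat.mod_eq_of_lt (by omega), Nat.mod_eq_of_lt (by omega)] at h2
      exact Fin.ext h2
    · intro i
      have : (eQ.symm (QuaternionGroup.xa ((i.val : ℕ) : ZMod (2 * 2 ^ n)))) * (eQ.symm (QuaternionGroup.xa ((i.val : ℕ) : ZMod (2 * 2 ^ n)))) =
          eQ.symm z' := by
        rw [← map_mul, QuaternionGroup.xa_mul_xa, hz', add_sub_cancel_right]
      exact congrArg Subtype.val this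

theorem dec {G : Type u} [Group G] {Q R : Subgroup G} (hcomm : ∀ a ∈ Q, ∀ b ∈ R, a * b = b * a) :
    ∀ s ∈ Q ⊔ R, ∃ q ∈ Q, ∃ r ∈ R, q * r = s := by
  let H : Subgroup G :=
    { carrier := {s | ∃ q ∈ Q, ∃ r ∈ R, q * r = s}
      one_mem' := ⟨1, Q.one_mem, 1, R.one_mem, one_mul 1⟩
      mul_mem' := by
        rintro _ _ ⟨q, hq, r, hr, rfl⟩ ⟨q', hq', r', hr', rfl⟩
        refine ⟨q * q', Q.mul_mem hq hq', r * r', R.mul_mem hr hr', ?_⟩
        calc q * q' * (r * r') = q * (q' * r) * r' := by group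
          _ = q * r * (q' * r') := by rw [hcomm q' hq' r hr]; group
      inv_mem' := by
        rintro _ ⟨q, hq, r, hr, rfl⟩
        refine ⟨q⁻¹, Q.inv_mem hq, r⁻¹, R.inv_mem hr, ?_⟩
        rw [mul_inv_rev, hcomm _ (Q.inv_mem hq) _ (R.inv_mem hr)] }
  have h1 : Q ≤ H := fun q hq => ⟨q, hq, 1, R.one_mem, mul_one q⟩
  have h2 : R ≤ H := fun r hr => ⟨1, Q.one_mem, r, hr, one_mul r⟩
  intro s hs
  exact (sup_le h1 h2) hs

theorem uniq {G : Type u} [Group G] {Q R : Subgroup G} (hinf : Q ⊓ R = ⊥) : ∀ q ∈ Q, ∀ r ∈ R, ∀ q' ∈ Q, ∀ r' ∈ R, q * r = q' * r' → q = q' ∧ r = r' := by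
  intro q hq r hr q' hq' r' hr' h
  have h1 : q'⁻¹ * q = r' * r⁻¹ := by
    calc q'⁻¹ * q = q'⁻¹ * (q * r) * r⁻¹ := by group
      _ = r' * r⁻¹ := by rw [h]; group
  have h2 : q'⁻¹ * q ∈ Q ⊓ R := ⟨Q.mul_mem (Q.inv_mem hq') hq, by rw [h1]; exact R.mul_mem hr' (R.inv_mem hr)⟩
  rw [hinf, Subgroup.mem_bot] at h2
  have h3 : q = q' := by rw [inv_mul_eq_one] at h2; exact h2.symm
  subst h3
  exact ⟨rfl, mul_left_cancel h⟩

open Classical in
/-- number of square roots -/
noncomputable def sq {G : Type u} [Group G] [Fintype G] (S : Subgroup G) (e : G) : ℕ := (Finset.univ.filter (fun s : G => s ∈ S ∧ s * s = e)).card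

theorem sq_lt {G : Type u} [Group G] [Fintype G] {Q R S : Subgroup G} (hQS : Q ≤ S) (hRS : R ≤ S) (hcomm : ∀ a ∈ Q, ∀ b ∈ R, a * b = b * a)
    (hinf : Q ⊓ R = ⊥) (hsup : Q ⊔ R = S) {z : G} (hzQ : z ∈ Q) (hQ1 : ∀ q ∈ Q, q * q = 1 → q = 1 ∨ q = z)
    {f : Fin 3 → G} (hf : Function.Injective f) (hfQ : ∀ i, f i ∈ Q) (hfz : ∀ i, f i * f i = z) {r : G} (hr : r ∈ R)
    (hpos : 0 < sq S r) : sq S r < sq S (z * r) := by
  classical
  obtain ⟨Y, hY⟩ : ∃ Y : Finset G, Y = Finset.univ.filter (fun y : G => y ∈ R ∧ y * y = r) := ⟨_, rfl⟩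
  have hYm : ∀ y, y ∈ Y ↔ y ∈ R ∧ y * y = r := fun y => by rw [hY, Finset.mem_filter]; simp
  have hmul : ∀ a ∈ Q, ∀ b ∈ R, (a * b) * (a * b) = (a * a) * (b * b) := by
    intro a ha b hb
    calc (a * b) * (a * b) = a * (b * a) * b := by group
      _ = (a * a) * (b * b) := by rw [← hcomm a ha b hb]; group
  have h1 : sq S r ≤ 2 * Y.card := by
    unfold sq
    have hsub : Finset.univ.filter (fun s : G => s ∈ S ∧ s * s = r) ⊆ (({1, z} : Finset G) ×ˢ Y).image (fun p => p.1 * p.2) := by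
      intro s hs
      rw [Finset.mem_filter] at hs
      obtain ⟨q, hq, y, hy, rfl⟩ := dec hcomm s (by rw [hsup]; exact hs.2.1)
      have h2 := hs.2.2
      rw [hmul q hq y hy] at h2
      obtain ⟨h3, h4⟩ := uniq hinf (q * q) (Q.mul_mem hq hq) (y * y) (R.mul_mem hy hy) 1 Q.one_mem r hr (by rw [h2, one_mul])
      rw [Finset.mem_image]
      refine ⟨(q, y), ?_, rfl⟩
      rw [Finset.mem_product, hYm]
      refine ⟨?_, hy, h4⟩
      rw [Finset.mem_insert, Finset.mem_singleton]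
      exact hQ1 q hq h3
    refine (Finset.card_le_card hsub).trans (Finset.card_image_le.trans ?_)
    rw [Finset.card_product]
    exact Nat.mul_le_mul_right _ Finset.card_le_two
  have h2 : 3 * Y.card ≤ sq S (z * r) := by
    unfold sq
    have h3 : ((Finset.univ : Finset (Fin 3)) ×ˢ Y).card = 3 * Y.card := by
      rw [Finset.card_product, Finset.card_univ, Fintype.card_fin]
    rw [← h3]
    apply Finset.card_le_card_of_injOn (fun p : Fin 3 × G => f p.1 * p.2)
    · rintro ⟨i, y⟩ hp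
      rw [Finset.mem_coe, Finset.mem_product, hYm] at hp
      rw [Finset.mem_coe, Finset.mem_filter]
      refine ⟨Finset.mem_univ _, S.mul_mem (hQS (hfQ i)) (hRS hp.2.1), ?_⟩
      rw [hmul _ (hfQ i) _ hp.2.1, hfz, hp.2.2]
    · rintro ⟨i, y⟩ hp ⟨j, y'⟩ hp' he
      rw [Finset.mem_coe, Finset.mem_product, hYm] at hp hp'
      obtain ⟨h5, h6⟩ := uniq hinf _ (hfQ i) _ hp.2.1 _ (hfQ j) _ hp'.2.1 he
      have h5' : i = j := hf h5
      rw [h5']
      exact Prod.ext rfl h6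
  omega

theorem sq_conj {G : Type u} [Group G] [Fintype G] {S : Subgroup G} {n : G} (hn : n ∈ normalizer (S : Set G)) (e : G) : sq S (n * e * n⁻¹) = sq S e := by
  classical
  unfold sq
  symm
  apply Finset.card_bij (fun s _ => n * s * n⁻¹)
  · intro s hs
    rw [Finset.mem_filter] at hs ⊢
    refine ⟨Finset.mem_univ _, (mem_normalizer_iff.1 hn s).1 hs.2.1, ?_⟩
    rw [← hs.2.2]; group
  · intro a _ b _ h
    simpa using h
  · intro s hs
    rw [Finset.mem_filter] at hs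
    refine ⟨n⁻¹ * s * n, ?_, by group⟩
    rw [Finset.mem_filter]
    refine ⟨Finset.mem_univ _, ?_, ?_⟩
    · rw [mem_normalizer_iff.1 hn]
      have : n * (n⁻¹ * s * n) * n⁻¹ = s := by group
      rw [this]; exact hs.2.1
    · calc n⁻¹ * s * n * (n⁻¹ * s * n) = n⁻¹ * (s * s) * n := by group
        _ = e := by rw [hs.2.2]; group

/-- the main step: an involution of `Z(S)` fixed by the normaliser -/
theorem exists_fixed {G : Type u} [Group G] [Finite G] (S : Sylow 2 G) (Q R : Subgroup G) (hQR : Cfsg.IsInternalDirectProduct Q R (S : Subgroup G))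
    (n : ℕ) (hn : 1 ≤ n) (eQ : ↥Q ≃* QuaternionGroup (2 ^ n))
    (hR : ∀ r ∈ R, orderOf r = 2 → ∀ s ∈ R, r * s = s * r) :
    (∀ e ∈ (S : Subgroup G), e * e = 1 → ∀ s ∈ (S : Subgroup G), e * s = s * e) ∧
    ∃ z₀ ∈ (S : Subgroup G), z₀ * z₀ = 1 ∧ z₀ ≠ 1 ∧ ∀ n ∈ normalizer ((S : Subgroup G) : Set G), n * z₀ * n⁻¹ = z₀ := by
  classical
  letI : Fintype G := Fintype.ofFinite G
  haveI : Fact (Nat.Prime 2) := ⟨Nat.prime_two⟩
  obtain ⟨hQS, hRS, hcomm, hinf, hsup⟩ := hQR
  obtain ⟨z, hzQ, hz2, hz1, hQ1, f, hf, hfQ, hfz⟩ := quat_data Q n hn eQ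
  have hmul : ∀ a ∈ Q, ∀ b ∈ R, (a * b) * (a * b) = (a * a) * (b * b) := by
    intro a ha b hb
    calc (a * b) * (a * b) = a * (b * a) * b := by group
      _ = (a * a) * (b * b) := by rw [← hcomm a ha b hb]; group
  have hzc : ∀ q ∈ Q, z * q = q * z := by
    intro q hq
    have h1 : (q * z * q⁻¹) * (q * z * q⁻¹) = 1 := by
      calc (q * z * q⁻¹) * (q * z * q⁻¹) = q * (z * z) * q⁻¹ := by group
        _ = 1 := by rw [hz2]; group
    rcases hQ1 _ (Q.mul_mem (Q.mul_mem hq hzQ) (Q.inv_mem hq)) h1 with h2 | h2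
    · exact absurd h2 (conj_ne_one hz1)
    · rw [mul_inv_eq_iff_eq_mul] at h2; exact h2.symm
  -- involutions of `S`
  have hinv : ∀ e ∈ (S : Subgroup G), e * e = 1 → ∃ q ∈ Q, ∃ r ∈ R, q * r = e ∧ (q = 1 ∨ q = z) ∧ r * r = 1 := by
    intro e he hee
    obtain ⟨q, hq, r, hr, rfl⟩ := dec hcomm e (by rw [hsup]; exact he)
    rw [hmul q hq r hr] at hee
    obtain ⟨h3, h4⟩ := uniq hinf (q * q) (Q.mul_mem hq hq) (r * r) (R.mul_mem hr hr) 1 Q.one_mem 1 R.one_mem (by rw [hee, one_mul])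
    exact ⟨q, hq, r, hr, rfl, hQ1 q hq h3, h4⟩
  have hcen : ∀ e ∈ (S : Subgroup G), e * e = 1 → ∀ s ∈ (S : Subgroup G), e * s = s * e := by
    intro e he hee s hs
    obtain ⟨q, hq, r, hr, rfl, h1, h2⟩ := hinv e he hee
    obtain ⟨q', hq', r', hr', rfl⟩ := dec hcomm s (by rw [hsup]; exact hs)
    have h3 : q * q' = q' * q := by
      rcases h1 with rfl | rfl
      · rw [one_mul, mul_one]
      · exact hzc q' hq'
    have h4 : r * r' = r' * r := by
      by_cases hr1 : r = 1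
      · rw [hr1, one_mul, mul_one]
      · exact hR r hr (two_ord h2 hr1) r' hr'
    calc q * r * (q' * r') = q * (r * q') * r' := by group
      _ = (q * q') * (r * r') := by rw [← hcomm q' hq' r hr]; group
      _ = (q' * q) * (r' * r) := by rw [h3, h4]
      _ = q' * (q * r') * r := by group
      _ = q' * r' * (q * r) := by rw [hcomm q hq r' hr']; group
  refine ⟨hcen, ?_⟩
  let E : Subgroup G :=
    { carrier := {e | e ∈ (S : Subgroup G) ∧ e * e = 1}
      one_mem' := ⟨(S : Subgroup G).one_mem, one_mul 1⟩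
      mul_mem' := by
        rintro a b ⟨ha, haa⟩ ⟨hb, hbb⟩
        refine ⟨(S : Subgroup G).mul_mem ha hb, ?_⟩
        have h1 := hcen a ha haa b hb
        calc a * b * (a * b) = a * (b * a) * b := by group
          _ = (a * a) * (b * b) := by rw [← h1]; group
          _ = 1 := by rw [haa, hbb, one_mul]
      inv_mem' := by
        rintro a ⟨ha, haa⟩
        refine ⟨(S : Subgroup G).inv_mem ha, ?_⟩
        rw [← mul_inv_rev, haa, inv_one] }
  have hEm : ∀ e, e ∈ E ↔ e ∈ (S : Subgroup G) ∧ e * e = 1 := fun e => Iff.rfl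
  letI : CommGroup E := { (inferInstance : Group E) with mul_comm := fun a b => Subtype.ext (hcen a a.2.1 a.2.2 b b.2.1) }
  have hzE : z ∈ E := ⟨hQS hzQ, hz2⟩
  -- maximal number of square roots
  obtain ⟨m0, hm0⟩ := Finite.exists_max (fun e : E => sq (S : Subgroup G) (e : G))
  have hmax : 0 < sq (S : Subgroup G) (m0 : G) := by
    refine lt_of_lt_of_le ?_ (hm0 1)
    unfold sq
    rw [Finset.card_pos]
    refine ⟨1, ?_⟩
    rw [Finset.mem_filter]
    exact ⟨Finset.mem_univ _, (S : Subgroup G).one_mem, by rw [one_mul, OneMemClass.coe_one]⟩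
  have hmaxR : ∀ e : E, sq (S : Subgroup G) (e : G) = sq (S : Subgroup G) (m0 : G) → z * (e : G) ∈ R := by
    intro e he
    obtain ⟨q, hq, r, hr, h1, h2, h3⟩ := hinv e e.2.1 e.2.2
    rcases h2 with rfl | rfl
    · exfalso
      rw [one_mul] at h1
      have h4 := sq_lt hQS hRS hcomm hinf hsup hzQ hQ1 hf hfQ hfz (r := r) hr (by rw [h1, he]; exact hmax)
      have h5 := hm0 (⟨z, hzE⟩ * e)
      have h6 : ((⟨z, hzE⟩ * e : E) : G) = z * r := by rw [h1]; rfl
      simp only [h6] at h5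
      rw [h1, he] at h4
      rw [h1] at h5
      exact absurd h5 (not_le.2 h4)
    · rw [← h1, ← mul_assoc, hz2, one_mul]; exact hr
  -- the orbit
  obtain ⟨O, hO⟩ : ∃ O : Finset E, O = Finset.univ.filter (fun e : E => ∃ n ∈ normalizer ((S : Subgroup G) : Set G), n * (m0 : G) * n⁻¹ = e) := ⟨_, rfl⟩
  have hOm : ∀ e, e ∈ O ↔ ∃ n ∈ normalizer ((S : Subgroup G) : Set G), n * (m0 : G) * n⁻¹ = e := fun e => by rw [hO, Finset.mem_filter]; simp
  have hOodd : ¬ 2 ∣ O.card := by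
    letI : MulAction (normalizer ((S : Subgroup G) : Set G)) G := MulAction.compHom G (MulAut.conj.comp (normalizer ((S : Subgroup G) : Set G)).subtype)
    have hsm : ∀ (n : normalizer ((S : Subgroup G) : Set G)) (g : G), n • g = (n : G) * g * (n : G)⁻¹ := fun n g => rfl
    have h1 := MulAction.index_stabilizer (normalizer ((S : Subgroup G) : Set G)) (m0 : G)
    have h2 : (MulAction.orbit (normalizer ((S : Subgroup G) : Set G)) (m0 : G)).ncard = O.card := by
      rw [← Set.ncard_coe_finset, ← Set.ncard_image_of_injective (O : Set E) Subtype.val_injective]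
      congr 1
      ext g
      rw [MulAction.mem_orbit_iff, Set.mem_image]
      constructor
      · rintro ⟨n, rfl⟩
        rw [hsm]
        have hmem : (n : G) * (m0 : G) * (n : G)⁻¹ ∈ E := by
          refine ⟨(mem_normalizer_iff.1 n.2 _).1 m0.2.1, ?_⟩
          calc (n : G) * (m0 : G) * (n : G)⁻¹ * ((n : G) * (m0 : G) * (n : G)⁻¹) = n * (m0 * m0) * (n : G)⁻¹ := by group
            _ = 1 := by rw [m0.2.2]; group
        refine ⟨⟨_, hmem⟩, ?_, rfl⟩
        rw [Finset.mem_coe, hOm]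
        exact ⟨n, n.2, rfl⟩
      · rintro ⟨e, he, rfl⟩
        rw [Finset.mem_coe, hOm] at he
        obtain ⟨n, hn, he⟩ := he
        exact ⟨⟨n, hn⟩, he⟩
    rw [← h2, ← h1]
    intro h3
    have h4 : (S : Subgroup G).subgroupOf (normalizer ((S : Subgroup G) : Set G)) ≤ MulAction.stabilizer (normalizer ((S : Subgroup G) : Set G)) (m0 : G) := by
      intro s hs
      rw [MulAction.mem_stabilizer_iff, hsm, mul_inv_eq_iff_eq_mul]
      exact (hcen m0 m0.2.1 m0.2.2 s hs).symm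
    have h5 := h3.trans (Subgroup.index_dvd_of_le h4)
    apply S.not_dvd_index
    rw [← Subgroup.relIndex_mul_index (H := (S : Subgroup G)) (K := normalizer ((S : Subgroup G) : Set G)) le_normalizer]
    exact Dvd.dvd.mul_right h5 _
  have hOmax : ∀ e ∈ O, z * (e : G) ∈ R := by
    intro e he
    obtain ⟨n, hn, h1⟩ := (hOm e).1 he
    apply hmaxR
    rw [← h1, sq_conj hn]
  refine ⟨((∏ e ∈ O, e : E) : G), (∏ e ∈ O, e : E).2.1, (∏ e ∈ O, e : E).2.2, ?_, ?_⟩
  · intro h0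
    have h1 : (∏ e ∈ O, e : E) = 1 := Subtype.ext h0
    have h2 : (∏ e ∈ O, (⟨z, hzE⟩ * e) : E) ∈ R.subgroupOf E := by
      apply Subgroup.prod_mem
      intro e he
      exact hOmax e he
    rw [Finset.prod_mul_distrib, h1, mul_one, Finset.prod_const] at h2
    obtain ⟨c, hc⟩ : ∃ c, O.card = 2 * c + 1 := ⟨O.card / 2, by omega⟩
    have h3 : (⟨z, hzE⟩ : E) ^ 2 = 1 := by rw [pow_two]; exact Subtype.ext hz2
    rw [hc, pow_succ, pow_mul, h3, one_pow, one_mul] at h2
    have h4 : z ∈ Q ⊓ R := ⟨hzQ, h2⟩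
    rw [hinf, Subgroup.mem_bot] at h4
    exact hz1 h4
  · intro n hn
    have hconj : ∀ e : E, n * (e : G) * n⁻¹ ∈ E := by
      intro e
      refine ⟨(mem_normalizer_iff.1 hn _).1 e.2.1, ?_⟩
      calc n * (e : G) * n⁻¹ * (n * (e : G) * n⁻¹) = n * (e * e) * n⁻¹ := by group
        _ = 1 := by rw [e.2.2]; group
    let φ : E →* E :=
      { toFun := fun e => ⟨n * (e : G) * n⁻¹, hconj e⟩
        map_one' := Subtype.ext (by show n * ((1 : E) : G) * n⁻¹ = 1; rw [OneMemClass.coe_one]; group)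
        map_mul' := fun a b => Subtype.ext (by show n * ((a * b : E) : G) * n⁻¹ = n * (a : G) * n⁻¹ * (n * b * n⁻¹); rw [Subgroup.coe_mul]; group) }
    have hφ : ∀ e : E, (φ e : G) = n * (e : G) * n⁻¹ := fun e => rfl
    rw [← hφ, map_prod]
    congr 1
    apply Finset.prod_bij (fun e _ => φ e)
    · intro e he
      rw [hOm] at he ⊢
      obtain ⟨k, hk, h1⟩ := he
      refine ⟨n * k, mul_mem hn hk, ?_⟩
      rw [hφ, ← h1]; group
    · intro a _ b _ h
      have h1 : n * (a : G) * n⁻¹ = n * b * n⁻¹ := by rw [← hφ, ← hφ, h]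
      exact Subtype.ext (by simpa using h1)
    · intro e he
      obtain ⟨k, hk, h1⟩ := (hOm e).1 he
      have hmem : n⁻¹ * (e : G) * n ∈ E := by
        have h2 : n⁻¹ ∈ normalizer ((S : Subgroup G) : Set G) := inv_mem hn
        refine ⟨?_, ?_⟩
        · have h3 := (mem_normalizer_iff.1 h2 (e : G)).1 e.2.1
          rwa [inv_inv] at h3
        · calc n⁻¹ * (e : G) * n * (n⁻¹ * (e : G) * n) = n⁻¹ * (e * e) * n := by group
            _ = 1 := by rw [e.2.2]; group
      refine ⟨⟨_, hmem⟩, ?_, ?_⟩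
      · rw [hOm]
        refine ⟨n⁻¹ * k, mul_mem (inv_mem hn) hk, ?_⟩
        show n⁻¹ * k * (m0 : G) * (n⁻¹ * k)⁻¹ = n⁻¹ * (e : G) * n
        rw [← h1]; group
      · apply Subtype.ext
        rw [hφ]
        show n * (n⁻¹ * (e : G) * n) * n⁻¹ = e
        group
    · intro e _; rfl

/-- Let G be a finite group whose Sylow 2-subgroup S is an internal direct product Q × R with Q generalized quaternion (of order at least 8) and R a subgroup all of whose involutions are central in R. Then G is not simple. In particular no finite simple group has a Sylow 2-subgroup that is a direct product of one or more generalized quaternion groups. -/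
theorem result {G : Type*} [Group G] [Finite G]
    (S : Sylow 2 G) (Q R : Subgroup G) (hQR : Cfsg.IsInternalDirectProduct Q R (S : Subgroup G))
    (n : ℕ) (hn : 1 ≤ n) (eQ : ↥Q ≃* QuaternionGroup (2 ^ n))
    (hR : ∀ r ∈ R, orderOf r = 2 → ∀ s ∈ R, r * s = s * r) :
    ¬ IsSimpleGroup G := by
  intro hsimp
  haveI : Fact (Nat.Prime 2) := ⟨Nat.prime_two⟩
  obtain ⟨hcen, z₀, hzS, hz2, hz1, hzN⟩ := exists_fixed S Q R hQR n hn eQ hR
  have hiso : ∀ g : G, g * z₀ * g⁻¹ ∈ S → g * z₀ * g⁻¹ = z₀ := by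
    intro g hg
    have h1 : (g * z₀ * g⁻¹) * (g * z₀ * g⁻¹) = 1 := by
      calc (g * z₀ * g⁻¹) * (g * z₀ * g⁻¹) = g * (z₀ * z₀) * g⁻¹ := by group
        _ = 1 := by rw [hz2]; group
    obtain ⟨m, hm, h2⟩ := Sylow.conj_eq_normalizer_conj_of_mem_centralizer S z₀ g⁻¹
      (by rw [mem_centralizer_iff]; intro s hs; exact (hcen z₀ hzS hz2 s hs).symm)
      (by rw [inv_inv, mem_centralizer_iff]; intro s hs; exact (hcen _ hg h1 s hs).symm)
    rw [inv_inv] at h2
    rw [h2]
    have h3 := hzN m⁻¹ (inv_mem hm)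
    rwa [inv_inv] at h3
  obtain ⟨N, hN, hodd, hcomm⟩ := Cfsg.Agent.S3279.zst S z₀ (two_ord hz2 hz1) hzS hiso
  rcases hN.eq_bot_or_eq_top with h1 | h1
  · -- `z₀` is central
    have hzc : ∀ g : G, g * z₀ = z₀ * g := by
      intro g
      have h2 := hcomm g
      rw [h1, Subgroup.mem_bot] at h2
      calc g * z₀ = (z₀ * g * z₀⁻¹ * g⁻¹)⁻¹ * (z₀ * g) := by group
        _ = z₀ * g := by rw [h2]; group
    have h2 : (zpowers z₀).Normal := by
      refine ⟨fun y hy g => ?_⟩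
      obtain ⟨k, rfl⟩ := Subgroup.mem_zpowers_iff.1 hy
      have h4 : g * z₀ ^ k * g⁻¹ = z₀ ^ k := by
        rw [← conj_zpow]
        congr 1
        rw [hzc, mul_inv_cancel_right]
      rw [h4]; exact hy
    rcases h2.eq_bot_or_eq_top with h3 | h3
    · have h4 : z₀ ∈ zpowers z₀ := mem_zpowers z₀
      rw [h3, Subgroup.mem_bot] at h4
      exact hz1 h4
    · have h4 : Nat.card G = 2 := by
        rw [← Subgroup.card_top (G := G), ← h3, Nat.card_zpowers]
        exact two_ord hz2 hz1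
      have h5 := Subgroup.card_subgroup_dvd_card Q
      rw [Nat.card_congr eQ.toEquiv, Nat.card_eq_fintype_card, QuaternionGroup.card, h4] at h5
      have h6 := Nat.le_of_dvd (by norm_num) h5
      have h7 : 0 < 2 ^ n := by positivity
      omega
  · rw [h1, Subgroup.card_top] at hodd
    have h2 : orderOf z₀ ∣ Nat.card G := orderOf_dvd_natCard z₀
    rw [two_ord hz2 hz1] at h2
    exact (Nat.not_even_iff_odd.2 hodd) (even_iff_two_dvd.2 h2)

end Cfsg.Agent.S3269
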