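import Cfsg.Statements.S3277
import Mathlib
import Cfsg.Agent.EqBase
import Cfsg.Agent.LibKF11f

set_option autoImplicit false
set_option linter.all false
open Cfsg

namespace Cfsg.Agent.S3277

/-- Let G be a finite group containing an involution whose centralizer is elementary abelian of order 4. If G has no normal 2-complement and no normal elementary abelian 2-subgroup of order 2 or 4, then G is isomorphic to the alternating group of degree 5 (that is, to PSL(2, 5)). -/
theorem result {G : Type*} [Group G] [Finite G] (x : G) (hx : orderOf x = 2)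
    (hC4 : Nat.card ↥(Subgroup.centralizer ({x} : Set G)) = 4) (hCe : ∀ c ∈ Subgroup.centralizer ({x} : Set G), c ^ 2 = 1)
    (hnc : ¬ Cfsg.HasNormalPComplement 2 G)
    (hne : ∀ E : Subgroup G, E.Normal → Cfsg.IsElementaryAbelian 2 E → Nat.card ↥E ≠ 2 ∧ Nat.card ↥E ≠ 4) :
    Nonempty (G ≃* ↥(alternatingGroup (Fin 5))) := by
  obtain ⟨hx2, hx1⟩ := CfsgLib.KF11.ord_two hx
  have hCe' : ∀ c, c * x = x * c → c * c = 1 := fun c hc => by
    rw [← pow_two]; exact hCe c (Subgroup.mem_centralizer_singleton_iff.2 hc)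
  by_cases h2 : 2 ∣ (Subgroup.centralizer ({x} : Set G)).index
  · exact (CfsgLib.KF11.caseB hx2 hx1 hC4 hCe' h2 hnc hne).elim
  · exact CfsgLib.KF11.caseA hx2 hx1 hC4 hCe' h2 hnc hne

end Cfsg.Agent.S3277
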