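import Cfsg.Statements.S3278
import Mathlib
import Cfsg.Agent.EqBase
import Cfsg.Agent.LibKG11e
import Cfsg.Agent.S3279

set_option autoImplicit false
set_option linter.all false
open Cfsg

namespace Cfsg.Agent.S3278

open Subgroup CfsgLib.BW11 CfsgLib.KF11 CfsgLib.KG11

theorem exists_KS {G : Type*} [Group G] [Finite G] [IsSimpleGroup G] (x : G) (hx : orderOf x = 2)
    (V : Subgroup G) (hle : V ≤ Subgroup.centralizer ({x} : Set G)) (hK : IsKleinFour ↥V)
    (hodd : ¬ 2 ∣ V.relIndex (Subgroup.centralizer ({x} : Set G))) (hn : (V.subgroupOf (Subgroup.centralizer ({x} : Set G))).Normal) :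
    ∃ K : Subgroup G, KS x V K := by
  classical
  haveI : Fact (Nat.Prime 2) := ⟨Nat.prime_two⟩
  obtain ⟨hx2, hx1⟩ := ord_two hx
  have hV4 : Nat.card V = 4 := hK.card_four
  have hsq : ∀ v ∈ V, v * v = 1 := by
    intro v hv
    have h1 : (⟨v, hv⟩ : V) ^ Monoid.exponent V = 1 := Monoid.pow_exponent_eq_one _
    rw [hK.exponent_two, pow_two] at h1
    exact congrArg Subtype.val h1
  have hab : ∀ a ∈ V, ∀ b ∈ V, a * b = b * a := by
    intro a ha b hb
    have h1 : a⁻¹ = a := inv_eq_of_mul_eq_one_left (hsq a ha)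
    have h2 : b⁻¹ = b := inv_eq_of_mul_eq_one_left (hsq b hb)
    have h3 := inv_eq_of_mul_eq_one_left (hsq (a * b) (V.mul_mem ha hb))
    rw [← h3, mul_inv_rev, h1, h2]
  obtain ⟨m, hm⟩ : ∃ m, m = (V.subgroupOf (centralizer ({x} : Set G))).index := ⟨_, rfl⟩
  have hmodd : ¬ 2 ∣ m := by rw [hm]; exact hodd
  have hpow : ∀ c, c * x = x * c → c ^ m ∈ V := by
    intro c hc
    have h1 : (⟨c, mem_centralizer_singleton_iff.2 hc⟩ : centralizer ({x} : Set G)) ^ m ∈ V.subgroupOf (centralizer ({x} : Set G)) := by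
      rw [hm]; exact Subgroup.pow_index_mem _ _
    exact h1
  have hcop : Nat.Coprime 2 m := (Nat.Prime.coprime_iff_not_dvd Nat.prime_two).2 hmodd
  have hinvV : ∀ c, c * x = x * c → c * c = 1 → c ∈ V := by
    intro c hc hcc
    exact mem_of_coprime hcop (by rw [pow_two, hcc]; exact V.one_mem) (hpow c hc)
  have hxV : x ∈ V := hinvV x rfl hx2
  have hVC : ∀ v ∈ V, v * x = x * v := fun v hv => hab v hv x hxV
  -- V is central in C(x)
  have hcen : ∀ c, c * x = x * c → ∀ v ∈ V, c * v = v * c := by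
    intro c hc v hv
    by_cases hv1 : v = 1
    · rw [hv1, mul_one, one_mul]
    by_cases hvx : v = x
    · rw [hvx]; exact hc
    have h4 := eq_four hV4 hxV hv hx2 (hsq v hv) (hVC v hv).symm hx1 hv1 (fun h0 => hvx h0.symm)
    have hmem : c * v * c⁻¹ ∈ V :=
      hn.conj_mem (⟨v, hle hv⟩ : centralizer ({x} : Set G)) hv ⟨c, mem_centralizer_singleton_iff.2 hc⟩
    have h2 : c ^ 2 ∈ centralizer ({v} : Set G) := by
      rw [mem_centralizer_singleton_iff]
      rcases h4 _ hmem with h5 | h5 | h5 | h5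
      · exact absurd h5 (conj_ne_one hv1)
      · exfalso
        apply hvx
        calc v = c⁻¹ * (c * v * c⁻¹) * c := by group
          _ = c⁻¹ * (x * c) := by rw [h5]; group
          _ = x := by rw [← hc]; group
      · have h6 : c * v = v * c := by rwa [mul_inv_eq_iff_eq_mul] at h5
        rw [pow_two, mul_assoc, h6, ← mul_assoc, h6, mul_assoc]
      · have h6 : c * v = x * v * c := by rwa [mul_inv_eq_iff_eq_mul] at h5
        rw [pow_two]
        calc c * c * v = c * (c * v) := by rw [mul_assoc]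
          _ = (c * x) * v * c := by rw [h6]; simp only [mul_assoc]
          _ = x * (c * v) * c := by rw [hc]; simp only [mul_assoc]
          _ = (x * x) * v * (c * c) := by rw [h6]; simp only [mul_assoc]
          _ = v * (c * c) := by rw [hx2, one_mul]
    have h3 : c ^ m ∈ centralizer ({v} : Set G) := by
      rw [mem_centralizer_singleton_iff]
      exact hab _ (hpow c hc) v hv
    exact mem_centralizer_singleton_iff.1 (mem_of_coprime hcop h2 h3)
  -- the complement
  obtain ⟨K', hK'⟩ : ∃ K' : Subgroup (centralizer ({x} : Set G)), IsComplement' (V.subgroupOf (centralizer ({x} : Set G))) K' := by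
    apply exists_right_complement'_of_coprime
    rw [Nat.card_congr (Subgroup.subgroupOfEquivOfLe hle).toEquiv, hV4, ← hm, show (4 : ℕ) = 2 ^ 2 by norm_num]
    exact Nat.Coprime.pow_left 2 hcop
  have hK'c : Nat.card K' = m := by
    have h1 := hK'.card_mul
    rw [← (V.subgroupOf (centralizer ({x} : Set G))).card_mul_index, ← hm] at h1
    exact Nat.eq_of_mul_eq_mul_left Nat.card_pos h1
  have hKc : Nat.card (K'.map (centralizer ({x} : Set G)).subtype) = m := by
    rw [← hK'c]
    exact (Nat.card_congr (K'.equivMapOfInjective _ (Subgroup.subtype_injective _)).toEquiv).symm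
  have hKx : ∀ k ∈ K'.map (centralizer ({x} : Set G)).subtype, k * x = x * k := by
    rintro _ ⟨k, -, rfl⟩
    exact mem_centralizer_singleton_iff.1 k.2
  -- the Sylow subgroup
  have hs3 := Cfsg.Agent.S3279.result x hx (by
    have h1 : Nat.card {v : V // v ≠ 1} = 3 := by
      letI : Fintype V := Fintype.ofFinite _
      have h2 : Fintype.card V = 4 := by rw [← Nat.card_eq_fintype_card]; exact hV4
      rw [Nat.card_eq_fintype_card, Fintype.card_subtype_compl, h2, Fintype.card_subtype_eq]
    rw [← h1]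
    have h2 : ∀ u : {u : ↥(Subgroup.centralizer ({x} : Set G)) // orderOf u = 2}, ((u : centralizer ({x} : Set G)) : G) ∈ V ∧
        ((u : centralizer ({x} : Set G)) : G) ≠ 1 := by
      intro u
      have h3 := u.2
      rw [← Subgroup.orderOf_coe] at h3
      obtain ⟨h4, h5⟩ := ord_two h3
      exact ⟨hinvV _ (mem_centralizer_singleton_iff.1 u.1.2) h4, h5⟩
    apply Nat.card_le_card_of_injective (fun u => (⟨⟨u.1.1, (h2 u).1⟩, fun h0 => (h2 u).2 (congrArg Subtype.val h0)⟩ : {v : V // v ≠ 1}))
    intro a b hab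
    have h3 : ((a : centralizer ({x} : Set G)) : G) = ((b : centralizer ({x} : Set G)) : G) := congrArg (fun v : {v : V // v ≠ 1} => (v.1 : G)) hab
    exact Subtype.ext (Subtype.ext h3))
  obtain ⟨⟨S, hS⟩, hcj⟩ := hs3
  have hsyl : ¬ 2 ∣ V.index := by
    have h1 : ¬ 2 ∣ (centralizer ({x} : Set G)).index := by
      intro h2
      exact S.not_dvd_index (h2.trans (Subgroup.index_dvd_of_le hS))
    rw [← Subgroup.relIndex_mul_index hle]
    intro h2
    rcases (Nat.Prime.dvd_mul Nat.prime_two).1 h2 with h3 | h3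
    · exact hodd h3
    · exact h1 h3
  refine ⟨K'.map (centralizer ({x} : Set G)).subtype,
    { x2 := hx2, x1 := hx1, xV := hxV, V4 := hV4, Vsq := hsq
      VK := fun v hv k hk => (hcen k (hKx k hk) v hv).symm
      odd := by rw [hKc]; exact hmodd
      cent := ?_
      cj := fun y hy hy1 => hcj x y hx (two_ord hy hy1)
      syl := hsyl }⟩
  intro g
  constructor
  · intro hg
    obtain ⟨p, hp, -⟩ := (isComplement_iff_existsUnique.1 hK') ⟨g, mem_centralizer_singleton_iff.2 hg⟩
    refine ⟨p.1.1, p.1.2, p.2.1, ⟨p.2.1, p.2.2, rfl⟩, ?_⟩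
    exact congrArg Subtype.val hp
  · rintro ⟨v, hv, k, hk, rfl⟩
    rw [mul_assoc, hKx k hk, ← mul_assoc, hVC v hv, mul_assoc]

/-- Let G be a finite simple group with an involution x such that a Sylow 2-subgroup of C_G(x) is a Klein four-group which is normal in C_G(x). Then G is isomorphic to the alternating group of degree 5 (that is, to PSL(2, 5)). -/
theorem result {G : Type*} [Group G] [Finite G] [IsSimpleGroup G] (x : G) (hx : orderOf x = 2)
    (S₀ : Subgroup G) (hle : S₀ ≤ Subgroup.centralizer ({x} : Set G)) (hK : IsKleinFour ↥S₀)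
    (hodd : ¬ 2 ∣ S₀.relIndex (Subgroup.centralizer ({x} : Set G))) (hn : (S₀.subgroupOf (Subgroup.centralizer ({x} : Set G))).Normal) :
    Nonempty (G ≃* ↥(alternatingGroup (Fin 5))) := by
  obtain ⟨K, hKS⟩ := exists_KS x hx S₀ hle hK hodd hn
  exact hKS.a5

end Cfsg.Agent.S3278
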