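import Cfsg.Statements.S3358
import Mathlib
import Cfsg.Agent.LibH6ZasY

set_option autoImplicit false
open Cfsg

namespace Cfsg.Agent.S3358

/-- Structure of solvable Frobenius complements. Let G be a finite solvable group that occurs as a Frobenius complement. Then G has a normal subgroup G₀ such that G/G₀ is isomorphic to a subgroup of Sym(4) (G₀ is the kernel of a homomorphism to Sym(4)), all Sylow subgroups of G₀ are cyclic, and G₀ has a presentation ⟨x, y | x^n = 1, y^m = 1, x⁻¹ y x = y^r⟩ with n, m ≥ 1, gcd(r − 1, m) = gcd(n, m) = 1 and r^(n/n′) ≡ 1 (mod m), where n′ is the product of the distinct primes dividing n. -/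
theorem result {G : Type*} [Group G] [Finite G] (hsol : Group.IsSolvable G)
    (hFC : ∃ (L : Type) (_ : Group L) (_ : Finite L) (H : Subgroup L), Cfsg.IsFrobeniusComplement H ∧ Nonempty (G ≃* H)) :
    ∃ G₀ : Subgroup G, G₀.Normal ∧
      (∃ f : G →* Equiv.Perm (Fin 4), f.ker = G₀) ∧
      (∀ (p : ℕ) [Fact p.Prime] (P : Sylow p G₀), IsCyclic P) ∧
      ∃ n m r : ℕ, 0 < n ∧ 0 < m ∧ Nat.Coprime (r - 1) m ∧ Nat.Coprime n m ∧ 1 ≤ r ∧
        r ^ (n / ∏ p ∈ n.primeFactors, p) % m = 1 % m ∧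
        Nonempty (G₀ ≃* PresentedGroup
          ({FreeGroup.of (0 : Fin 2) ^ n, FreeGroup.of (1 : Fin 2) ^ m,
            (FreeGroup.of (0 : Fin 2))⁻¹ * FreeGroup.of 1 * FreeGroup.of 0 * (FreeGroup.of (1 : Fin 2) ^ r)⁻¹} :
            Set (FreeGroup (Fin 2)))) := by
  have hF := CfsgLib.H6Zas.isFpf_of_FC hFC
  obtain ⟨N, hN, hZ, hq⟩ := hF.ex_solvable
  haveI := hZ
  obtain ⟨n, m, r, h1, h2, h3, h4, h5, h6, h7⟩ := (hF.sub N).zgroup_pres
  refine ⟨N, hN, ?_, fun p hp P => hZ.isZGroup p hp.out P, n, m, r, h1, h2, h3, h4, h5, h6, h7⟩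
  rcases hq with h | ⟨f, -, hf⟩ | ⟨Θ, hΘ, -⟩
  · exact ⟨1, by rw [h]; exact MonoidHom.ker_one⟩
  · -- the Klein four-group embeds in the symmetric group of degree four
    let g : DihedralGroup 2 → Equiv.Perm (Fin 4) := fun x => match x with
      | DihedralGroup.r i => if (i : ZMod 2) = 0 then 1 else Equiv.swap 0 1 * Equiv.swap 2 3
      | DihedralGroup.sr i => if (i : ZMod 2) = 0 then Equiv.swap 0 2 * Equiv.swap 1 3 else Equiv.swap 0 3 * Equiv.swap 1 2
    have hg : ∀ x y, g (x * y) = g x * g y := by decide +kernel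
    have hgi : ∀ x, g x = 1 → x = 1 := by decide +kernel
    let G' : DihedralGroup 2 →* Equiv.Perm (Fin 4) := MonoidHom.mk' g hg
    refine ⟨G'.comp f, ?_⟩
    rw [← hf]
    ext x
    rw [MonoidHom.mem_ker, MonoidHom.mem_ker]
    constructor
    · intro h; exact hgi _ h
    · intro h
      show G' (f x) = 1
      rw [h, map_one]
  · exact ⟨Θ, hΘ⟩

end Cfsg.Agent.S3358
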