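import Cfsg.Statements.S3361
import Cfsg.Agent.LibRL5
import Cfsg.Agent.S0685
import Cfsg.Agent.S0688

set_option autoImplicit false
set_option linter.all false
open Cfsg

namespace Cfsg.Agent.S3361

/-- Let q be a prime and V a non-trivial finite vector space over the field with q elements, and let G be a finite solvable group acting faithfully and linearly on V and regularly on the non-zero vectors (transitively, with only the identity fixing a non-zero vector). Then either V can be identified with the additive group of a finite field F so that every element of G acts as x ↦ a·σ(x) (a ∈ F, σ a field automorphism), or V has 5^2, 7^2, 11^2 or 23^2 elements. Moreover, if q ≠ 2 then G has a normal subgroup of index 2, except that when V has 25 elements G may be isomorphic to SL(2,3) and when V has 121 elements G may be isomorphic to SL(2,3) × C₅. -/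
theorem result
    (q : ℕ) [Fact q.Prime] {V : Type*} [AddCommGroup V] [Module (ZMod q) V] [Finite V] [Nontrivial V]
    {G : Type*} [Group G] [Finite G] (hsol : Group.IsSolvable G)
    (ρ : G →* (V ≃ₗ[ZMod q] V)) (hρ : Function.Injective ρ)
    (htrans : ∀ v w : V, v ≠ 0 → w ≠ 0 → ∃ g : G, ρ g v = w)
    (hreg : ∀ v : V, v ≠ 0 → ∀ g : G, ρ g v = v → g = 1) :
    ((∃ (F : Type) (_ : Field F) (_ : Fintype F) (e : V ≃+ F),
        ∀ g : G, ∃ (a : F) (σ : F ≃+* F), ∀ v : V, e (ρ g v) = a * σ (e v)) ∨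
      Nat.card V ∈ ({25, 49, 121, 529} : Set ℕ)) ∧
    (q ≠ 2 → (∃ N : Subgroup G, N.Normal ∧ N.index = 2) ∨
      (Nat.card V = 25 ∧ Nonempty (G ≃* Matrix.SpecialLinearGroup (Fin 2) (ZMod 3))) ∨
      (Nat.card V = 121 ∧ Nonempty (G ≃* Matrix.SpecialLinearGroup (Fin 2) (ZMod 3) × Multiplicative (ZMod 5)))) := by
  classical
  have hq : q.Prime := Fact.out
  have hreg' : ∀ v w : V, v ≠ 0 → w ≠ 0 → ∃! g : G, ρ g v = w := by
    intro v w hv hw
    obtain ⟨g, hg⟩ := htrans v w hv hw
    refine ⟨g, hg, ?_⟩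
    intro h hh
    have h1 : ρ (g⁻¹ * h) v = v := by
      rw [map_mul, map_inv]
      show (ρ g)⁻¹ (ρ h v) = v
      have hh' : ρ h v = w := hh
      rw [hh', ← hg]
      exact (ρ g).symm_apply_apply v
    have h2 := hreg v hv _ h1
    exact (inv_mul_eq_one.mp h2).symm
  have hcard : Nat.card G = Nat.card V - 1 := Cfsg.Agent.S0685.card_H ρ hreg' inferInstance
  have hV1 : 1 < Nat.card V := Finite.one_lt_card
  let H : Subgroup (V ≃ₗ[ZMod q] V) := ρ.range
  let ρ' : G →* H := ρ.rangeRestrict
  have hρ' : Function.Surjective ρ' := ρ.rangeRestrict_surjective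
  have hregH : ∀ v w : V, v ≠ 0 → w ≠ 0 → ∃! h : H, (h : V ≃ₗ[ZMod q] V) v = w := by
    intro v w hv hw
    obtain ⟨g, hg, hu⟩ := hreg' v w hv hw
    refine ⟨ρ' g, hg, ?_⟩
    intro h hh
    obtain ⟨k, rfl⟩ := hρ' h
    rw [hu k hh]
  have hsolH : Group.IsSolvable H := by
    haveI := hsol
    exact Group.isSolvable_of_surjective hρ'
  by_cases hI : ∀ A : Subgroup H, A.Normal → IsCyclic A → ∃ W : Submodule (ZMod q) V, W ≠ ⊥ ∧ W ≠ ⊤ ∧ ∀ a ∈ A, ∀ v ∈ W, ((a : H) : V ≃ₗ[ZMod q] V) v ∈ W
  · have h1 := Cfsg.Agent.S0688.result H hregH hI hsolH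
    refine ⟨Or.inr ?_, ?_⟩
    · simp only [Set.mem_insert_iff, Set.mem_singleton_iff]
      exact h1
    · intro _
      by_cases hno : ∃ N : Subgroup G, N.Normal ∧ N.index = 2
      · exact Or.inl hno
      · right
        have hF : CfsgLib.H6Zas.IsFpf G := by
          refine CfsgLib.H6Zas.isFpf_of_mod q (fun g v => ρ g v) (fun g x y => map_add _ _ _) (fun x => ?_) (fun a b x => ?_) ?_
          · show ρ 1 x = x
            rw [map_one]; rfl
          · show ρ (a * b) x = ρ a (ρ b x)
            rw [map_mul]; rfl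
          · intro g hg w hw
            by_contra hw0
            exact hg (hreg w hw0 g hw)
        rcases CfsgLib.RL.noidx hF hsol hno (by omega) with ⟨h2, h3⟩ | ⟨h2, h3⟩
        · exact Or.inl ⟨by omega, h3⟩
        · exact Or.inr ⟨by omega, h3⟩
  · push Not at hI
    obtain ⟨A, hA, hAc, hirr⟩ := hI
    obtain ⟨v₀, hv₀⟩ := exists_ne (0 : V)
    haveI := hA
    haveI := hAc
    have hc : ∀ x y : A, x * y = y * x := by
      letI := IsCyclic.commGroup (α := A)
      intro x y
      exact mul_comm x y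
    let α : A →* AddMonoid.End V :=
      { toFun := fun a => (((a : H) : V ≃ₗ[ZMod q] V) : V →ₗ[ZMod q] V).toAddMonoidHom
        map_one' := rfl
        map_mul' := fun a b => rfl }
    have hα : ∀ (a : A) (v : V), α a v = ((a : H) : V ≃ₗ[ZMod q] V) v := fun a v => rfl
    have hirr' : ∀ B : AddSubgroup V, (∀ x : A, ∀ u ∈ B, α x u ∈ B) → B = ⊥ ∨ B = ⊤ := by
      intro B hB
      by_contra hcon
      push Not at hcon
      let W : Submodule (ZMod q) V := AddSubgroup.toZModSubmodule q B
      have hW1 : W ≠ ⊥ := by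
        intro h
        apply hcon.1
        rw [eq_bot_iff]
        intro x hx
        have h2 : x ∈ W := hx
        rw [h] at h2
        exact (Submodule.mem_bot _).mp h2
      have hW2 : W ≠ ⊤ := by
        intro h
        apply hcon.2
        rw [eq_top_iff]
        intro x _
        have h2 : x ∈ W := by rw [h]; trivial
        exact h2
      obtain ⟨a, ha, v, hv, hav⟩ := hirr W hW1 hW2
      exact hav (hB ⟨a, ha⟩ v hv)
    obtain ⟨F, iF, iFt, e, he⟩ := CfsgLib.RL.semilin α hc hirr' v₀ hv₀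
    have hsl : ∀ g : G, ∃ (a : F) (σ : F ≃+* F), ∀ v : V, e (ρ g v) = a * σ (e v) := by
      intro g
      refine he (ρ g).toAddEquiv (fun x => ⟨ρ' g * x * (ρ' g)⁻¹, hA.conj_mem x x.2 (ρ' g)⟩) ?_
      intro x u
      show ρ g (((x : H) : V ≃ₗ[ZMod q] V) u) = ((ρ' g * x * (ρ' g)⁻¹ : H) : V ≃ₗ[ZMod q] V) (ρ g u)
      rw [Subgroup.coe_mul, Subgroup.coe_mul, Subgroup.coe_inv]
      show _ = ρ g (((x : H) : V ≃ₗ[ZMod q] V) ((ρ g)⁻¹ (ρ g u)))
      congr 2
      exact ((ρ g).symm_apply_apply u).symm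
    refine ⟨Or.inl ⟨F, iF, iFt, e, hsl⟩, ?_⟩
    intro hq2
    left
    haveI : Finite F := Finite.of_fintype F
    have hodd : Odd (Nat.card V) := by
      haveI : Module.Finite (ZMod q) V := Module.Finite.of_finite
      rw [Module.natCard_eq_pow_finrank (K := ZMod q) (V := V), Nat.card_zmod]
      exact (hq.odd_of_ne_two hq2).pow
    have hev : 2 ∣ Nat.card G := by
      obtain ⟨k, hk⟩ := hodd
      rw [hcard, hk]
      exact ⟨k, by omega⟩
    refine CfsgLib.RL.semi_idx2 hev e (fun g v => ρ g v) ?_ ?_ ?_ hsl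
    · intro g h v
      show ρ (g * h) v = ρ g (ρ h v)
      rw [map_mul]; rfl
    · intro v
      show ρ 1 v = v
      rw [map_one]; rfl
    · intro g hg
      exact hreg v₀ hv₀ g (hg v₀)

end Cfsg.Agent.S3361
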