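import Cfsg.Statements.S3493
import Mathlib
import Cfsg.Agent.LibH13
import Cfsg.Agent.LibPrimH13
import Cfsg.Agent.LibHalfH13
import Cfsg.Agent.LibDiagH13
import Cfsg.Agent.LibCores
import Cfsg.Agent.S3494
import Cfsg.Agent.S3495

set_option autoImplicit false
open Cfsg

namespace Cfsg.Agent.S3493

open MulAction Subgroup Pointwise CfsgLib.H13 CfsgLib.PrimH13 CfsgLib.HalfH13

theorem noncommProd_eq_of_eq {α : Type*} [Monoid α] {s s' : Multiset α} (h : s = s') (hs hs') :
    s.noncommProd hs = s'.noncommProd hs' := by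
  subst h; rfl

/-- the diagonal element -/
theorem exists_diag {G : Type*} [Group G] [Finite G] (H T N : Subgroup G) (t : G) (ht : t ∈ T) (ht1 : t ≠ 1)
    (hcomm : ∀ g ∈ H, g * t * g⁻¹ = t ∨ g * t * g⁻¹ ∈ centralizer (T : Set G))
    (hTcent : ∀ z ∈ T, z ∈ centralizer (T : Set G) → z = 1) (hN : ∀ g ∈ H, g * t * g⁻¹ ∈ N) :
    ∃ d : G, d ≠ 1 ∧ (∀ g ∈ H, g * d * g⁻¹ = d) ∧ d ∈ N := by
  classical
  have := Fintype.ofFinite H
  let S : Finset G := Finset.univ.image (fun g : H => (g : G) * t * (g : G)⁻¹)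
  have hSmem : ∀ x, x ∈ S ↔ ∃ g ∈ H, g * t * g⁻¹ = x := by
    intro x
    simp [S]
  have hcomm2 : ∀ g ∈ H, Commute t (g * t * g⁻¹) := by
    intro g hg
    rcases hcomm g hg with h | h
    · rw [h]
    · exact (mem_centralizer_iff.mp h t ht)
  have hSc : {x | x ∈ S.val}.Pairwise Commute := by
    intro x hx y hy _
    obtain ⟨g, hg, rfl⟩ := (hSmem x).mp hx
    obtain ⟨g', hg', rfl⟩ := (hSmem y).mp hy
    have h1 := hcomm2 (g⁻¹ * g') (H.mul_mem (H.inv_mem hg) hg')
    have h2 := h1.map (MulAut.conj g)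
    simp only [MulAut.conj_apply] at h2
    have e : g * (g⁻¹ * g' * t * (g⁻¹ * g')⁻¹) * g⁻¹ = g' * t * g'⁻¹ := by group
    rwa [e] at h2
  have htS : t ∈ S.val := (hSmem t).mpr ⟨1, H.one_mem, by simp⟩
  refine ⟨S.val.noncommProd hSc, ?_, ?_, ?_⟩
  · intro h1
    have h2 := Multiset.mul_noncommProd_erase S.val htS hSc
    rw [h1] at h2
    apply ht1
    apply hTcent t ht
    rw [← inv_mem_iff, ← eq_inv_of_mul_eq_one_right h2, mem_centralizer_iff]
    intro y hy
    apply Multiset.noncommProd_commute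
    intro x hx
    have hxt : x ≠ t := by
      rintro rfl
      exact (S.nodup.notMem_erase) hx
    obtain ⟨g, hg, hgx⟩ := (hSmem x).mp (Multiset.mem_of_mem_erase hx)
    rcases hcomm g hg with h | h
    · exact absurd (hgx.symm.trans h) hxt
    · rw [hgx] at h
      exact mem_centralizer_iff.mp h y hy
  · intro g hg
    have h1 := Multiset.map_noncommProd S.val hSc (MulAut.conj g)
    rw [MulAut.conj_apply] at h1
    rw [h1]
    apply noncommProd_eq_of_eq
    have h2 : S.image (MulAut.conj g) = S := by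
      ext x
      rw [Finset.mem_image, hSmem]
      constructor
      · rintro ⟨y, hy, rfl⟩
        obtain ⟨g', hg', rfl⟩ := (hSmem y).mp hy
        exact ⟨g * g', H.mul_mem hg hg', by rw [MulAut.conj_apply]; group⟩
      · rintro ⟨g', hg', rfl⟩
        refine ⟨g⁻¹ * g' * t * (g⁻¹ * g')⁻¹, (hSmem _).mpr ⟨g⁻¹ * g', H.mul_mem (H.inv_mem hg) hg', rfl⟩, ?_⟩
        rw [MulAut.conj_apply]; group
    have h3 := congrArg Finset.val h2
    rwa [Finset.image_val_of_injOn (MulAut.conj g).injective.injOn] at h3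
  · apply Subgroup.multiset_noncommProd_mem
    intro x hx
    obtain ⟨g, hg, rfl⟩ := (hSmem x).mp hx
    exact hN g hg

section
variable {G : Type*} [Group G] [Finite G] {Ω : Type*} [Fintype Ω] [MulAction G Ω] [FaithfulSMul G Ω]

/-- two commuting regular simple subgroups swapped by `G`: impossible in an extremely primitive group. -/
theorem diag_contra (hprim : MulAction.IsPreprimitive G Ω) (hH : ∀ α : Ω, MulAction.stabilizer G α ≠ ⊥)
    (hep : ∀ (α : Ω) (ω : Ω), MulAction.IsPreprimitive (MulAction.stabilizer G α) (MulAction.orbit (MulAction.stabilizer G α) ω))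
    (T C : Subgroup G) (hTs : IsSimpleGroup T) (hTna : ∃ a b : T, a * b ≠ b * a)
    (hTC : T ≤ centralizer (C : Set G)) (hTt : IsPretransitive T Ω) (hCt : IsPretransitive C Ω)
    (α : Ω) (hswap : ∀ g ∈ stabilizer G α, ((∀ x ∈ T, g * x * g⁻¹ ∈ T)) ∨
      ((∀ x ∈ T, g * x * g⁻¹ ∈ C))) : False := by
  classical
  have hcomm : ∀ t ∈ T, ∀ c ∈ C, t * c = c * t := fun t ht c hc => (mem_centralizer_iff.mp (hTC ht) c hc).symm
  have hsemi : ∀ t ∈ T, ∀ x : Ω, t • x = x → t = 1 := fun t ht x hx => semiregular_of_commute hCt hTC ht hx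
  have hinj : ∀ t ∈ T, ∀ t' ∈ T, t • α = t' • α → t = t' := by
    intro t ht t' ht' h
    have h3 := hsemi (t'⁻¹ * t) (T.mul_mem (T.inv_mem ht') ht) α (by rw [mul_smul, h, inv_smul_smul])
    exact (inv_mul_eq_one.mp h3).symm
  let e : T ≃ Ω := Equiv.ofBijective (fun t : T => (t : G) • α) ⟨by
    intro t t' h
    exact Subtype.ext (hinj t t.2 t' t'.2 h), by
    intro x
    obtain ⟨t, ht⟩ := exists_smul_eq T α x
    exact ⟨t, ht⟩⟩
  have he : ∀ t : T, e t = (t : G) • α := fun t => rfl
  letI : MulAction (stabilizer G α) T := e.mulAction (stabilizer G α)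
  have hsm : ∀ (h : stabilizer G α) (t : T), ((h • t : T) : G) • α = (h : G) • (t : G) • α := by
    intro h t
    have : e (h • t) = h • e t := e.apply_symm_apply _
    exact this
  have hfix : ∀ h : stabilizer G α, (h : G) • α = α := fun h => h.2
  have hsm2 : ∀ (h : stabilizer G α) (t : T), ((h • t : T) : G) • α = ((h : G) * t * (h : G)⁻¹) • α := by
    intro h t
    rw [hsm, mul_smul, mul_smul]
    congr 2
    rw [eq_inv_smul_iff]
    exact hfix h
  have haut : ∀ h : stabilizer G α, (∀ s t : T, h • (s * t) = (h • s) * (h • t)) ∨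
      (∀ s t : T, h • (s * t) = (h • t) * (h • s)) := by
    intro h
    rcases hswap h h.2 with h1 | h1
    · left
      have h2 : ∀ s : T, ((h • s : T) : G) = (h : G) * s * (h : G)⁻¹ := by
        intro s
        exact hinj _ (h • s : T).2 _ (h1 s s.2) (hsm2 h s)
      intro s t
      apply Subtype.ext
      rw [coe_mul, h2, h2, h2, coe_mul]
      group
    · right
      intro s t
      apply Subtype.ext
      apply hinj _ (h • (s * t) : T).2 _ ((h • t) * (h • s) : T).2
      rw [hsm2, coe_mul, coe_mul]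
      have e1 : (h : G) * (s * t) * (h : G)⁻¹ = ((h : G) * s * (h : G)⁻¹) * ((h : G) * t * (h : G)⁻¹) := by group
      rw [e1, mul_smul, ← hsm2 h t, smul_smul, ← hcomm _ (h • t : T).2 _ (h1 s s.2), mul_smul, ← hsm2 h s, smul_smul]
  have hinn : ∀ x : T, ∃ h : stabilizer G α, ∀ t : T, h • t = x * t * x⁻¹ := by
    intro x
    obtain ⟨⟨c, hc⟩, hcx⟩ := exists_smul_eq C ((x : G) • α) α
    have hcx' : c • (x : G) • α = α := hcx
    have hmem : c * x ∈ stabilizer G α := by rw [mem_stabilizer_iff, mul_smul]; exact hcx'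
    refine ⟨⟨c * x, hmem⟩, fun t => ?_⟩
    apply Subtype.ext
    apply hinj _ (_ : T).2 _ (x * t * x⁻¹ : T).2
    rw [hsm]
    change (c * (x : G)) • (t : G) • α = ((x : G) * t * (x : G)⁻¹) • α
    have e1 : (c * (x : G)) • (t : G) • α = (((x : G) * t * (x : G)⁻¹) * c * x) • α := by
      rw [smul_smul]
      congr 1
      have h3 := hcomm ((x : G) * t * (x : G)⁻¹) (T.mul_mem (T.mul_mem x.2 t.2) (T.inv_mem x.2)) c hc
      rw [h3]; group
    rw [e1, mul_smul, mul_smul, hcx']
  have hmax : ∀ t : T, t ≠ 1 → IsCoatom (stabilizer (stabilizer G α) t) := by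
    intro t ht
    have h1 : stabilizer (stabilizer G α) t = stabilizer (stabilizer G α)
        (⟨(t : G) • α, mem_orbit_self _⟩ : orbit (stabilizer G α) ((t : G) • α)) := by
      ext h
      rw [mem_stabilizer_iff, mem_stabilizer_iff]
      constructor
      · intro h2
        apply Subtype.ext
        change (h : G) • (t : G) • α = (t : G) • α
        rw [← hsm, h2]
      · intro h2
        have h3 := congrArg Subtype.val h2
        apply Subtype.ext
        apply hinj _ (h • t : T).2 _ t.2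
        rw [hsm]
        exact h3
    rw [h1]
    have hnt : Nontrivial (orbit (stabilizer G α) ((t : G) • α)) := by
      by_contra hcon
      rw [not_nontrivial_iff_subsingleton] at hcon
      have h2 : stabilizer G α ≤ stabilizer G ((t : G) • α) := by
        intro h hh
        have h3 : (⟨(t : G) • α, mem_orbit_self _⟩ : orbit (stabilizer G α) ((t : G) • α)) =
          ⟨h • (t : G) • α, ⟨⟨h, hh⟩, rfl⟩⟩ := Subsingleton.elim _ _
        have h4 := congrArg Subtype.val h3
        exact h4.symm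
      have hΩ : Nontrivial Ω := ⟨(t : G) • α, α, fun h3 => ht (Subtype.ext (hsemi t t.2 α h3))⟩
      have h3 : stabilizer G ((t : G) • α) = stabilizer G α := by
        rcases (isPreprimitive.isCoatom (G := G) α).le_iff.mp h2 with h4 | h4
        · exact absurd h4 (isPreprimitive.isCoatom (G := G) ((t : G) • α)).1
        · exact h4
      have h4 := stabilizer_injective hH h3
      exact ht (Subtype.ext (hsemi t t.2 α h4))
    have := hep α ((t : G) • α)
    exact IsPreprimitive.isCoatom_stabilizer_of_isPreprimitive _ _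
  exact CfsgLib.DiagH13.diag_false haut hinn hmax hTna

omit [Finite G] [Fintype Ω] [MulAction G Ω] [FaithfulSMul G Ω] in
theorem conj_cases [Finite G] (N T : Subgroup G) (hN : N.Normal) (hTN : T ≤ N) (hTn : N ≤ normalizer (T : Set G))
    (hTmin : ∀ K : Subgroup G, K ≤ T → N ≤ normalizer (K : Set G) → K = ⊥ ∨ K = T) (g : G) :
    MulAut.conj g • T = T ∨ (T ⊓ MulAut.conj g • T = ⊥ ∧ MulAut.conj g • T ≤ centralizer (T : Set G)) := by
  have hTgN : MulAut.conj g • T ≤ N := by
    intro y hy
    rw [mem_conj_smul] at hy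
    have := hN.conj_mem _ (hTN hy) g
    have e : g * (g⁻¹ * y * g) * g⁻¹ = y := by group
    rwa [e] at this
  have hTgn : N ≤ normalizer ((MulAut.conj g • T : Subgroup G) : Set G) := by
    intro m hm
    rw [mem_normalizer_iff]
    intro y
    rw [mem_conj_smul, mem_conj_smul]
    have hm' : g⁻¹ * m * g ∈ N := by
      have := hN.conj_mem m hm g⁻¹
      simpa using this
    have h3 := hTn hm'
    rw [mem_normalizer_iff] at h3
    have e : g⁻¹ * m * g * (g⁻¹ * y * g) * (g⁻¹ * m * g)⁻¹ = g⁻¹ * (m * y * m⁻¹) * g := by group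
    have h4 := h3 (g⁻¹ * y * g)
    rw [e] at h4
    exact h4
  have hinf : N ≤ normalizer ((T ⊓ MulAut.conj g • T : Subgroup G) : Set G) := by
    intro m hm
    have h3 := hTn hm
    have h4 := hTgn hm
    rw [mem_normalizer_iff] at h3 h4 ⊢
    intro y
    rw [mem_inf, mem_inf, h3 y, h4 y]
  rcases hTmin (T ⊓ MulAut.conj g • T) inf_le_left hinf with h3 | h3
  · right
    refine ⟨h3, ?_⟩
    have h4 : MulAut.conj g • T ⊓ T = ⊥ := by rw [inf_comm]; exact h3
    exact commute_of_inf_eq_bot h4 (hTgN.trans hTn) (hTN.trans hTgn)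
  · left
    symm
    have h4 : T ≤ MulAut.conj g • T := by
      have h5 : T ⊓ MulAut.conj g • T ≤ MulAut.conj g • T := inf_le_right
      rwa [h3] at h5
    apply Subgroup.eq_of_le_of_card_ge h4
    exact le_of_eq (card_conj_smul g T)

/-- regular case -/
theorem case_regular (hprim : MulAction.IsPreprimitive G Ω) (hH : ∀ α : Ω, MulAction.stabilizer G α ≠ ⊥)
    (hep : ∀ (α : Ω) (ω : Ω), MulAction.IsPreprimitive (MulAction.stabilizer G α) (MulAction.orbit (MulAction.stabilizer G α) ω))
    (N T : Subgroup G) (hN : N.Normal) (hTN : T ≤ N) (hT1 : T ≠ ⊥)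
    (hcases : ∀ g : G, MulAut.conj g • T = T ∨ (T ⊓ MulAut.conj g • T = ⊥ ∧ MulAut.conj g • T ≤ centralizer (T : Set G)))
    (hTcent : ∀ z ∈ T, z ∈ centralizer (T : Set G) → z = 1) (α : Ω)
    (hreg : ∀ x ∈ N, x • α = α → x = 1) (hne : ∃ g ∈ stabilizer G α, MulAut.conj g • T ≠ T) : False := by
  classical
  have hinj : ∀ t ∈ N, ∀ t' ∈ N, t • α = t' • α → t = t' := by
    intro t ht t' ht' h
    have h3 := hreg (t'⁻¹ * t) (N.mul_mem (N.inv_mem ht') ht) (by rw [mul_smul, h, inv_smul_smul])
    exact (inv_mul_eq_one.mp h3).symm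
  obtain ⟨⟨t, ht⟩, ht0⟩ := Subgroup.ne_bot_iff_exists_ne_one.mp hT1
  have ht1 : t ≠ 1 := fun h => ht0 (Subtype.ext h)
  have hconjN : ∀ g : G, ∀ x ∈ T, g * x * g⁻¹ ∈ N := fun g x hx => hN.conj_mem x (hTN hx) g
  have hsm : ∀ g ∈ stabilizer G α, ∀ x : G, g • x • α = (g * x * g⁻¹) • α := by
    intro g hg x
    rw [mul_smul, mul_smul]
    congr 2
    rw [eq_inv_smul_iff]; exact hg
  have hneqα : t • α ≠ α := fun h => ht1 (hreg t (hTN ht) h)
  -- if two conjugates of `T` share a nontrivial element they are equal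
  have hshare : ∀ g g' : G, ∀ x ∈ T, ∀ y ∈ T, x ≠ 1 → g * x * g⁻¹ = g' * y * g'⁻¹ → MulAut.conj g • T = MulAut.conj g' • T := by
    intro g g' x hx y hy hx1 hxy
    rcases hcases (g⁻¹ * g') with h | ⟨h, -⟩
    · have h2 : MulAut.conj g' • T = MulAut.conj g • MulAut.conj (g⁻¹ * g') • T := by
        rw [smul_smul, ← map_mul, mul_inv_cancel_left]
      rw [h2, h]
    · exfalso
      apply hx1
      have h3 : x ∈ T ⊓ MulAut.conj (g⁻¹ * g') • T := by
        refine mem_inf.mpr ⟨hx, ?_⟩
        rw [mem_conj_smul]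
        have h4 : x = g⁻¹ * (g' * y * g'⁻¹) * g := by rw [← hxy]; group
        have h5 : (g⁻¹ * g')⁻¹ * x * (g⁻¹ * g') = y := by rw [h4]; group
        rw [h5]; exact hy
      rw [h, mem_bot] at h3
      exact h3
  have hβ : ∀ x : orbit (stabilizer G α) (t • α), (x : Ω) ≠ α := by
    rintro ⟨_, ⟨g, hg⟩, rfl⟩ h
    have h' : g • t • α = α := h
    apply hneqα
    have hg' : g • α = α := hg
    exact smul_left_cancel g (h'.trans hg'.symm)
  -- the relation on the orbit
  have hprimO := hep α (t • α)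
  have hr := congr_trivial (G := stabilizer G α) (Ω := orbit (stabilizer G α) (t • α))
    (fun x y => ∃ g ∈ stabilizer G α, (∃ u ∈ T, (g * u * g⁻¹) • α = (x : Ω)) ∧ (∃ v ∈ T, (g * v * g⁻¹) • α = (y : Ω)))
    ⟨by
      rintro ⟨_, ⟨g, hg⟩, rfl⟩
      exact ⟨g, hg, ⟨t, ht, (hsm g hg t).symm⟩, ⟨t, ht, (hsm g hg t).symm⟩⟩, by
      rintro x y ⟨g, hg, h1, h2⟩
      exact ⟨g, hg, h2, h1⟩, by
      rintro x y z ⟨g, hg, ⟨u, hu, hux⟩, ⟨v, hv, hvy⟩⟩ ⟨g', hg', ⟨u', hu', huy'⟩, ⟨v', hv', hvz'⟩⟩
      refine ⟨g, hg, ⟨u, hu, hux⟩, ?_⟩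
      have h1 : g * v * g⁻¹ = g' * u' * g'⁻¹ :=
        hinj _ (hconjN g v hv) _ (hconjN g' u' hu') (hvy.trans huy'.symm)
      have hv1 : v ≠ 1 := by
        rintro rfl
        apply hβ y
        rw [← hvy]; simp
      have h2 := hshare g g' v hv u' hu' hv1 h1
      have h3 : g' * v' * g'⁻¹ ∈ MulAut.conj g • T := by
        rw [h2, mem_conj_smul]
        have e : g'⁻¹ * (g' * v' * g'⁻¹) * g' = v' := by group
        rw [e]; exact hv'
      rw [mem_conj_smul] at h3
      refine ⟨_, h3, ?_⟩
      rw [← hvz']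
      congr 1
      group⟩ (by
      rintro ⟨k, hk⟩ x y ⟨g, hg, ⟨u, hu, hux⟩, ⟨v, hv, hvy⟩⟩
      refine ⟨k * g, mul_mem hk hg, ⟨u, hu, ?_⟩, ⟨v, hv, ?_⟩⟩
      · change _ = k • (x : Ω)
        rw [← hux, hsm k hk]
        congr 1; group
      · change _ = k • (y : Ω)
        rw [← hvy, hsm k hk]
        congr 1; group)
  have hcent1 : ∀ g ∈ stabilizer G α, MulAut.conj g • T = T → g * t * g⁻¹ = t := by
    rcases hr with h1 | h1
    · intro g hg hgT
      have h2 := h1 ⟨t • α, mem_orbit_self _⟩ ⟨g • t • α, ⟨⟨g, hg⟩, rfl⟩⟩ ⟨1, one_mem _, ⟨t, ht, by simp⟩,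
        ⟨g * t * g⁻¹, by
          rw [← hgT, mem_conj_smul]
          have e : g⁻¹ * (g * t * g⁻¹) * g = t := by group
          rw [e]; exact ht, by
          change _ = g • t • α
          rw [hsm g hg, one_mul, inv_one, mul_one]⟩⟩
      have h3 : t • α = g • t • α := congrArg Subtype.val h2
      rw [hsm g hg] at h3
      exact (hinj _ (hTN ht) _ (hconjN g t ht) h3).symm
    · exfalso
      obtain ⟨g, hg, hgT⟩ := hne
      apply hgT
      obtain ⟨k, hk, ⟨u, hu, hu2⟩, ⟨v, hv, hv2⟩⟩ := h1 ⟨t • α, mem_orbit_self _⟩ ⟨g • t • α, ⟨⟨g, hg⟩, rfl⟩⟩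
      have hu3 : (k * u * k⁻¹) • α = t • α := hu2
      have hv3 : (k * v * k⁻¹) • α = g • t • α := hv2
      rw [hsm g hg] at hv3
      have h2 := hinj _ (hconjN k u hu) _ (hTN ht) hu3
      have h3 := hinj _ (hconjN k v hv) _ (hconjN g t ht) hv3
      have h4 := hshare 1 k t ht u hu ht1 (by rw [h2]; group)
      have h5 := hshare g k t ht v hv ht1 h3.symm
      rw [h5, ← h4]; simp
  obtain ⟨d, hd1, hd2, hdN⟩ := exists_diag (stabilizer G α) T N t ht ht1 (by
    intro g hg
    rcases hcases g with h | ⟨-, h⟩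
    · left; exact hcent1 g hg h
    · right
      apply h
      rw [mem_conj_smul]
      have e : g⁻¹ * (g * t * g⁻¹) * g = t := by group
      rw [e]; exact ht) hTcent (fun g _ => hconjN g t ht)
  have h2 : stabilizer G α ≤ stabilizer G (d • α) := by
    intro g hg
    rw [mem_stabilizer_iff, hsm g hg, hd2 g hg]
  have hnt : Nontrivial Ω := ⟨t • α, α, hneqα⟩
  have h3 : stabilizer G (d • α) = stabilizer G α := by
    rcases (isPreprimitive.isCoatom (G := G) α).le_iff.mp h2 with h4 | h4
    · exact absurd h4 (isPreprimitive.isCoatom (G := G) (d • α)).1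
    · exact h4
  exact hd1 (hreg d hdN (stabilizer_injective hH h3))

/-- product action case -/
theorem case_prod (hprim : MulAction.IsPreprimitive G Ω) (hH : ∀ α : Ω, MulAction.stabilizer G α ≠ ⊥)
    (hep : ∀ (α : Ω) (ω : Ω), MulAction.IsPreprimitive (MulAction.stabilizer G α) (MulAction.orbit (MulAction.stabilizer G α) ω))
    (T : Subgroup G)
    (hcases : ∀ g : G, MulAut.conj g • T = T ∨ (T ⊓ MulAut.conj g • T = ⊥ ∧ MulAut.conj g • T ≤ centralizer (T : Set G)))
    (α : Ω) (hTα : ∃ t ∈ T, t • α ≠ α) (hTH : T ⊓ stabilizer G α ≠ ⊥)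
    (hne : ∃ g ∈ stabilizer G α, MulAut.conj g • T ≠ T) : False := by
  classical
  obtain ⟨t, ht, htα⟩ := hTα
  obtain ⟨R, hR⟩ : ∃ R : Subgroup G, R = ⨆ g : stabilizer G α, MulAut.conj (g : G) • (T ⊓ stabilizer G α) := ⟨_, rfl⟩
  have hRle : R ≤ stabilizer G α := by
    rw [hR]
    apply iSup_le
    rintro ⟨g, hg⟩ x hx
    rw [mem_conj_smul] at hx
    have h1 := mul_mem (mul_mem hg (mem_inf.mp hx).2) (inv_mem hg)
    have e : g * (g⁻¹ * x * g) * g⁻¹ = x := by group
    rwa [e] at h1
  have hRge : T ⊓ stabilizer G α ≤ R := by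
    rw [hR]
    refine le_trans ?_ (le_iSup _ (1 : stabilizer G α))
    simp
  have hRne : R ≠ ⊥ := by
    intro h
    rw [h] at hRge
    exact hTH (le_bot_iff.mp hRge)
  have hRn : stabilizer G α ≤ normalizer (R : Set G) := by
    have key : ∀ g ∈ stabilizer G α, MulAut.conj g • R ≤ R := by
      intro g hg
      have h1 : MulAut.conj g • R = ⨆ k : stabilizer G α, MulAut.conj g • MulAut.conj (k : G) • (T ⊓ stabilizer G α) := by
        rw [hR]
        exact Subgroup.map_iSup _ _
      rw [h1]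
      apply iSup_le
      intro k
      rw [hR, smul_smul, ← map_mul]
      exact le_iSup (fun k : stabilizer G α => MulAut.conj (k : G) • (T ⊓ stabilizer G α)) (⟨g, hg⟩ * k)
    intro g hg
    rw [mem_normalizer_iff]
    intro x
    constructor
    · intro hx
      apply key g hg
      rw [mem_conj_smul]
      have e : g⁻¹ * (g * x * g⁻¹) * g = x := by group
      rw [e]; exact hx
    · intro hx
      apply key g⁻¹ (inv_mem hg)
      rw [mem_conj_smul, inv_inv]
      exact hx
  have horb := Cfsg.Agent.S3495.orbit_eq hprim hH hep α R hRne hRle hRn (t • α)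
  -- the elements of a different conjugate fix everything in `B`
  have hother : ∀ g : G, MulAut.conj g • T ≠ T → ∀ y ∈ MulAut.conj g • T, y • α = α → ∀ x ∈ T, y • x • α = x • α := by
    intro g hg y hy hyα x hx
    rcases hcases g with h | ⟨-, h⟩
    · exact absurd h hg
    · have h1 := mem_centralizer_iff.mp (h hy) x hx
      rw [smul_smul, ← h1, mul_smul, hyα]
  have hB : ∀ r ∈ R, ∀ x ∈ T, x • α ∈ {z : Ω | ∃ y ∈ T ⊓ stabilizer G α, z = y • t • α} →
      r • x • α ∈ {z : Ω | ∃ y ∈ T ⊓ stabilizer G α, z = y • t • α} := by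
    intro r hr
    rw [hR] at hr
    induction hr using Subgroup.iSup_induction' with
    | hp k r hr =>
      intro x hx hxB
      rw [mem_conj_smul] at hr
      by_cases hk : MulAut.conj (k : G) • T = T
      · have hrT : r ∈ T ⊓ stabilizer G α := by
          refine mem_inf.mpr ⟨?_, ?_⟩
          · rw [← hk, mem_conj_smul]; exact (mem_inf.mp hr).1
          · have h1 := mul_mem (mul_mem k.2 (mem_inf.mp hr).2) (inv_mem k.2)
            have e : (k : G) * ((k : G)⁻¹ * r * k) * (k : G)⁻¹ = r := by group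
            rwa [e] at h1
        obtain ⟨y, hy, hy2⟩ := hxB
        exact ⟨r * y, mul_mem hrT hy, by rw [hy2, mul_smul]⟩
      · rw [hother k hk r (by rw [mem_conj_smul]; exact (mem_inf.mp hr).1) (by
          have h1 := mul_mem (mul_mem k.2 (mem_inf.mp hr).2) (inv_mem k.2)
          have e : (k : G) * ((k : G)⁻¹ * r * k) * (k : G)⁻¹ = r := by group
          rw [e] at h1
          exact h1) x hx]
        exact hxB
    | h1 => intro x hx hxB; rwa [one_smul]
    | hmul r s hr hs ihr ihs =>
      intro x hx hxB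
      obtain ⟨y, hy, hy2⟩ := ihs x hx hxB
      rw [mul_smul, hy2, smul_smul y t]
      apply ihr (y * t) (mul_mem (mem_inf.mp hy).1 ht)
      exact ⟨y, hy, by rw [mul_smul]⟩
  have horbB : ∀ z ∈ orbit (stabilizer G α) (t • α), ∃ y ∈ T ⊓ stabilizer G α, z = y • t • α := by
    intro z hz
    rw [← horb] at hz
    obtain ⟨⟨r, hr⟩, rfl⟩ := hz
    exact hB r hr t ht ⟨1, one_mem _, by rw [one_smul]⟩
  obtain ⟨g, hg, hgT⟩ := hne
  obtain ⟨⟨y, hy⟩, hy0⟩ := Subgroup.ne_bot_iff_exists_ne_one.mp hTH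
  have hy1 : y ≠ 1 := fun h => hy0 (Subtype.ext h)
  have hgy : g * y * g⁻¹ ∈ stabilizer G α := mul_mem (mul_mem hg (mem_inf.mp hy).2) (inv_mem hg)
  have h5 := Cfsg.Agent.S3494.result hprim hH hep α (t • α) htα ⟨g * y * g⁻¹, hgy⟩ (by
    intro z hz
    obtain ⟨u, hu, rfl⟩ := horbB z hz
    change (g * y * g⁻¹) • u • t • α = u • t • α
    rw [smul_smul u t]
    apply hother g hgT _ _ hgy _ (mul_mem (mem_inf.mp hu).1 ht)
    rw [mem_conj_smul]
    have e : g⁻¹ * (g * y * g⁻¹) * g = y := by group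
    rw [e]; exact (mem_inf.mp hy).1)
  apply hy1
  have h6 : g * y * g⁻¹ = 1 := congrArg Subtype.val h5
  rw [mul_inv_eq_one, mul_eq_left] at h6
  exact h6

/-- diagonal case -/
theorem case_diag (hprim : MulAction.IsPreprimitive G Ω) (hH : ∀ α : Ω, MulAction.stabilizer G α ≠ ⊥)
    (hep : ∀ (α : Ω) (ω : Ω), MulAction.IsPreprimitive (MulAction.stabilizer G α) (MulAction.orbit (MulAction.stabilizer G α) ω))
    (N T : Subgroup G) (hN : N.Normal) (hTN : T ≤ N) (hTn : N ≤ normalizer (T : Set G))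
    (hTs : IsSimpleGroup T) (hTna : ∃ a b : T, a * b ≠ b * a) (hNt : IsPretransitive N Ω)
    (hcases : ∀ g : G, MulAut.conj g • T = T ∨ (T ⊓ MulAut.conj g • T = ⊥ ∧ MulAut.conj g • T ≤ centralizer (T : Set G)))
    (hgen : ∀ K : Subgroup G, (∀ g : G, MulAut.conj g • T ≤ K) → N ≤ K)
    (α : Ω) (hTH : T ⊓ stabilizer G α = ⊥) (hM : N ⊓ stabilizer G α ≠ ⊥)
    (hne : ∃ g ∈ stabilizer G α, MulAut.conj g • T ≠ T) : False := by
  classical
  have hMn : stabilizer G α ≤ normalizer ((N ⊓ stabilizer G α : Subgroup G) : Set G) := by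
    intro g hg
    rw [mem_normalizer_iff]
    intro x
    rw [mem_inf, mem_inf]
    refine ⟨fun ⟨h1, h2⟩ => ⟨hN.conj_mem x h1 g, mul_mem (mul_mem hg h2) (inv_mem hg)⟩, fun ⟨h1, h2⟩ => ⟨?_, ?_⟩⟩
    · have h3 := hN.conj_mem _ h1 g⁻¹
      have e : g⁻¹ * (g * x * g⁻¹) * g⁻¹⁻¹ = x := by group
      rwa [e] at h3
    · have h3 := mul_mem (mul_mem (inv_mem hg) h2) hg
      have e : g⁻¹ * (g * x * g⁻¹) * g = x := by group
      rwa [e] at h3
  have horb := fun ω => Cfsg.Agent.S3495.orbit_eq hprim hH hep α (N ⊓ stabilizer G α) hM inf_le_right hMn ω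
  have hTconj : ∀ n ∈ N, ∀ t ∈ T, n * t * n⁻¹ ∈ T := by
    intro n hn t ht
    have := hTn hn
    rw [mem_normalizer_iff] at this
    exact (this t).mp ht
  -- Δ is H-invariant
  have hΔ : ∀ g ∈ stabilizer G α, ∀ t ∈ T, ∃ t' ∈ T, g • t • α = t' • α := by
    intro g hg t ht
    have h1 : g • t • α ∈ orbit (stabilizer G α) (t • α) := ⟨⟨g, hg⟩, rfl⟩
    rw [← horb] at h1
    obtain ⟨⟨m, hm⟩, hm2⟩ := h1
    refine ⟨m * t * m⁻¹, hTconj m (mem_inf.mp hm).1 t ht, ?_⟩
    have hm3 : m • t • α = g • t • α := hm2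
    rw [← hm3, mul_smul, mul_smul]
    congr 2
    rw [eq_inv_smul_iff]
    exact (mem_inf.mp hm).2
  have hNH : ∀ g : G, ∃ n ∈ N, ∃ h ∈ stabilizer G α, g = n * h := by
    intro g
    obtain ⟨⟨n, hn⟩, hn2⟩ := exists_smul_eq N α (g • α)
    have hn3 : n • α = g • α := hn2
    refine ⟨n, hn, n⁻¹ * g, ?_, by group⟩
    rw [mem_stabilizer_iff, mul_smul, ← hn3, inv_smul_smul]
  have hconjN : ∀ n ∈ N, MulAut.conj n • T = T := by
    intro n hn
    ext x
    rw [mem_conj_smul]
    have := hTn (N.inv_mem hn)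
    rw [mem_normalizer_iff] at this
    rw [this x, inv_inv]
  have hconjeq : ∀ g : G, ∃ h ∈ stabilizer G α, MulAut.conj g • T = MulAut.conj h • T := by
    intro g
    obtain ⟨n, hn, h, hh, hg⟩ := hNH g⁻¹
    refine ⟨h⁻¹, inv_mem hh, ?_⟩
    have e : g = h⁻¹ * n⁻¹ := by rw [← mul_inv_rev, ← hg, inv_inv]
    rw [e, map_mul, mul_smul, hconjN n⁻¹ (N.inv_mem hn)]
  have hkey : ∀ g : G, ∀ y ∈ MulAut.conj g • T, ∀ t ∈ T, ∃ t' ∈ T, y • t • α = t' • α := by
    intro g y hy t ht
    obtain ⟨h, hh, hg⟩ := hconjeq g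
    rw [hg] at hy
    rcases hcases h with h1 | ⟨-, h1⟩
    · rw [h1] at hy
      exact ⟨y * t, T.mul_mem hy ht, by rw [mul_smul]⟩
    · have h2 := mem_centralizer_iff.mp (h1 hy) t ht
      rw [mem_conj_smul] at hy
      obtain ⟨t', ht', h3⟩ := hΔ h hh _ hy
      have h4 : h • (h⁻¹ * y * h) • α = y • α := by
        rw [mul_smul, mul_smul, smul_inv_smul]
        congr 1
      rw [h4] at h3
      refine ⟨t * t', T.mul_mem ht ht', ?_⟩
      rw [smul_smul, ← h2, mul_smul, h3, mul_smul]
  have hΔN : ∀ n ∈ N, ∃ t' ∈ T, n • α = t' • α := by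
    let K : Subgroup G :=
      { carrier := {g | (∀ t ∈ T, ∃ t' ∈ T, g • t • α = t' • α) ∧ (∀ t ∈ T, ∃ t' ∈ T, g⁻¹ • t • α = t' • α)}
        one_mem' := ⟨fun t ht => ⟨t, ht, by rw [one_smul]⟩, fun t ht => ⟨t, ht, by rw [inv_one, one_smul]⟩⟩
        mul_mem' := by
          rintro a b ⟨ha, ha'⟩ ⟨hb, hb'⟩
          refine ⟨fun t ht => ?_, fun t ht => ?_⟩
          · obtain ⟨t', ht', h1⟩ := hb t ht
            obtain ⟨t'', ht'', h2⟩ := ha t' ht'
            exact ⟨t'', ht'', by rw [mul_smul, h1, h2]⟩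
          · obtain ⟨t', ht', h1⟩ := ha' t ht
            obtain ⟨t'', ht'', h2⟩ := hb' t' ht'
            exact ⟨t'', ht'', by rw [mul_inv_rev, mul_smul, h1, h2]⟩
        inv_mem' := by
          rintro a ⟨ha, ha'⟩
          refine ⟨ha', ?_⟩
          rw [inv_inv]; exact ha }
    have hNK : N ≤ K := hgen K (fun g y hy => ⟨hkey g y hy, hkey g y⁻¹ (inv_mem hy)⟩)
    intro n hn
    obtain ⟨t', ht', h1⟩ := (hNK hn).1 1 T.one_mem
    rw [one_smul] at h1
    exact ⟨t', ht', h1⟩
  have hTα : ∀ x : Ω, ∃ t ∈ T, x = t • α := by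
    intro x
    obtain ⟨⟨n, hn⟩, rfl⟩ := exists_smul_eq N α x
    obtain ⟨t, ht, h1⟩ := hΔN n hn
    exact ⟨t, ht, h1⟩
  have hTt : IsPretransitive T Ω := by
    refine ⟨fun x y => ?_⟩
    obtain ⟨t, ht, rfl⟩ := hTα x
    obtain ⟨t', ht', rfl⟩ := hTα y
    refine ⟨⟨t' * t⁻¹, T.mul_mem ht' (T.inv_mem ht)⟩, ?_⟩
    change (t' * t⁻¹) • t • α = t' • α
    rw [mul_smul, inv_smul_smul]
  obtain ⟨g₀, hg₀, hg₀T⟩ := hne
  have hC : T ⊓ MulAut.conj g₀ • T = ⊥ ∧ MulAut.conj g₀ • T ≤ centralizer (T : Set G) := (hcases g₀).resolve_left hg₀T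
  have hCα : ∀ x : Ω, ∃ t ∈ MulAut.conj g₀ • T, x = t • α := by
    intro x
    obtain ⟨t, ht, h1⟩ := hTα (g₀⁻¹ • x)
    refine ⟨g₀ * t * g₀⁻¹, ?_, ?_⟩
    · rw [mem_conj_smul]
      have e : g₀⁻¹ * (g₀ * t * g₀⁻¹) * g₀ = t := by group
      rw [e]; exact ht
    · rw [inv_smul_eq_iff] at h1
      rw [h1, mul_smul, mul_smul]
      congr 2
      rw [eq_inv_smul_iff]; exact hg₀
  have hCt : IsPretransitive (MulAut.conj g₀ • T : Subgroup G) Ω := by
    refine ⟨fun x y => ?_⟩
    obtain ⟨t, ht, rfl⟩ := hCα x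
    obtain ⟨t', ht', rfl⟩ := hCα y
    refine ⟨⟨t' * t⁻¹, mul_mem ht' (inv_mem ht)⟩, ?_⟩
    change (t' * t⁻¹) • t • α = t' • α
    rw [mul_smul, inv_smul_smul]
  apply diag_contra hprim hH hep T (MulAut.conj g₀ • T) hTs hTna ?_ hTt hCt α ?_
  · intro t ht
    rw [mem_centralizer_iff]
    intro c hc
    exact (mem_centralizer_iff.mp (hC.2 hc) t ht).symm
  · intro g hg
    rcases hcases g with h1 | ⟨-, h1⟩
    · left
      intro x hx
      rw [← h1, mem_conj_smul]
      have e : g⁻¹ * (g * x * g⁻¹) * g = x := by group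
      rw [e]; exact hx
    · right
      intro x hx
      have hy : g * x * g⁻¹ ∈ centralizer (T : Set G) := by
        apply h1
        rw [mem_conj_smul]
        have e : g⁻¹ * (g * x * g⁻¹) * g = x := by group
        rw [e]; exact hx
      obtain ⟨t₂, ht₂, h2⟩ := hCα ((g * x * g⁻¹) • α)
      have h3 : t₂⁻¹ * (g * x * g⁻¹) = 1 := by
        apply semiregular_of_commute (A := T) (B := centralizer (T : Set G)) hTt (le_refl _)
          (mul_mem (inv_mem (hC.2 ht₂)) hy) (x := α)
        rw [mul_smul, h2, inv_smul_smul]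
      rw [inv_mul_eq_one] at h3
      rw [← h3]; exact ht₂

end

/-- An extremely primitive permutation group is of affine type or almost simple. Let a finite group G act faithfully and primitively on a finite set Ω with at least two points, in such a way that every point stabilizer acts primitively on each of its own orbits in Ω (an orbit of size one counts as primitive). Then either G has a non-trivial abelian normal subgroup whose elements other than the identity fix no point (affine type), or G has a non-abelian simple normal subgroup with trivial centralizer (almost simple). -/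
theorem result {G : Type*} [Group G] [Finite G] {Ω : Type*} [Fintype Ω] [MulAction G Ω] [FaithfulSMul G Ω] (hΩ : 2 ≤ Fintype.card Ω) (hprim : MulAction.IsPreprimitive G Ω) (hep : ∀ (α : Ω) (ω : Ω), MulAction.IsPreprimitive (MulAction.stabilizer G α) (MulAction.orbit (MulAction.stabilizer G α) ω)) :
    (∃ N : Subgroup G, N.Normal ∧ N ≠ ⊥ ∧ IsMulCommutative N ∧ ∀ ω : Ω, MulAction.stabilizer N ω = ⊥) ∨ (∃ T : Subgroup G, T.Normal ∧ IsSimpleGroup T ∧ ¬ IsMulCommutative T ∧ Subgroup.centralizer (T : Set G) = ⊥) := by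
  classical
  have hnt : Nontrivial Ω := by rw [← Fintype.one_lt_card_iff_nontrivial]; omega
  obtain ⟨α, β, hαβ⟩ := exists_pair_ne Ω
  by_cases haff : ∃ N : Subgroup G, N.Normal ∧ N ≠ ⊥ ∧ IsMulCommutative N
  · left
    obtain ⟨N, hN, hN1, hNc⟩ := haff
    refine ⟨N, hN, hN1, hNc, fun ω => ?_⟩
    have htr := transitive_of_normal (Ω := Ω) N hN hN1
    rw [eq_bot_iff]
    rintro ⟨n, hn⟩ h
    rw [mem_bot]
    apply Subtype.ext
    apply semiregular_of_commute (A := N) (B := N) htr _ hn (x := ω)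
    · exact h
    · intro x hx
      rw [mem_centralizer_iff]
      intro y hy
      exact congrArg Subtype.val (hNc.is_comm.comm (⟨y, hy⟩ : N) ⟨x, hx⟩)
  right
  push Not at haff
  have hH : ∀ α : Ω, stabilizer G α ≠ ⊥ := by
    intro α hbot
    have hco := isPreprimitive.isCoatom (G := G) α
    rw [hbot] at hco
    obtain ⟨x, hx⟩ : ∃ x : G, x ≠ 1 := by
      by_contra hcon
      push Not at hcon
      apply hco.1
      rw [eq_comm, eq_bot_iff]
      intro y _
      rw [mem_bot]; exact hcon y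
    have hz : zpowers x ≠ ⊥ := by rw [Ne, zpowers_eq_bot]; exact hx
    have hzt : zpowers x = ⊤ := hco.2 _ (bot_lt_iff_ne_bot.mpr hz)
    have h1 : IsMulCommutative (zpowers x) := inferInstance
    rw [hzt] at h1
    exact haff ⊤ inferInstance (by rw [← hzt]; exact hz) h1
  have hG : (⊤ : Subgroup G) ≠ ⊥ := by
    intro h
    apply hH α
    rw [eq_bot_iff, ← h]
    exact le_top
  obtain ⟨N, hN, -, hN1, hmin⟩ := CfsgLib.Cores.exists_minimal_normal (⊤ : Subgroup G) hG
  have hNt := transitive_of_normal (Ω := Ω) N hN hN1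
  obtain ⟨T, hTN, hT1, hTn, hTmin⟩ := exists_min_normal_in N hN1
  have hsup := eq_sup_centralizer N hmin T hTN hT1 hTn hTmin
  have hcases := conj_cases N T hN hTN hTn hTmin
  have hTcent : T ⊓ centralizer (T : Set G) = ⊥ := by
    have hn1 : N ≤ normalizer ((T ⊓ centralizer (T : Set G) : Subgroup G) : Set G) := by
      intro m hm
      have h3 := hTn hm
      rw [mem_normalizer_iff] at h3 ⊢
      intro x
      rw [mem_inf, mem_inf, mem_centralizer_iff, mem_centralizer_iff, h3 x]
      refine and_congr_right fun _ => ⟨fun h t ht => ?_, fun h t ht => ?_⟩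
      · have h4 : m⁻¹ * t * m ∈ T := by
          apply (h3 _).mpr
          have e : m * (m⁻¹ * t * m) * m⁻¹ = t := by group
          rw [e]; exact ht
        have h5 := h _ h4
        calc t * (m * x * m⁻¹) = m * ((m⁻¹ * t * m) * x) * m⁻¹ := by group
          _ = m * (x * (m⁻¹ * t * m)) * m⁻¹ := by rw [h5]
          _ = m * x * m⁻¹ * t := by group
      · have h5 := h _ ((h3 t).mp ht)
        calc t * x = m⁻¹ * ((m * t * m⁻¹) * (m * x * m⁻¹)) * m := by group
          _ = m⁻¹ * ((m * x * m⁻¹) * (m * t * m⁻¹)) * m := by rw [h5]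
          _ = x * t := by group
    rcases hTmin _ inf_le_left hn1 with h | h
    · exact h
    · exfalso
      -- `T` is central in `N`
      have hTle : T ≤ centralizer (T : Set G) := by
        have h6 : T ⊓ centralizer (T : Set G) ≤ centralizer (T : Set G) := inf_le_right
        exact (le_of_eq h.symm).trans h6
      have h3 : N ≤ centralizer (T : Set G) := by
        rw [hsup]
        exact sup_le hTle inf_le_right
      have h4 : T ≤ N ⊓ centralizer (N : Set G) := by
        refine le_inf hTN ?_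
        intro t ht
        rw [mem_centralizer_iff]
        intro n hn
        exact (mem_centralizer_iff.mp (h3 hn) t ht).symm
      apply haff (N ⊓ centralizer (N : Set G)) inferInstance
      · intro h5
        rw [h5] at h4
        exact hT1 (le_bot_iff.mp h4)
      · refine ⟨⟨fun a b => ?_⟩⟩
        apply Subtype.ext
        have ha := (mem_inf.mp a.2).1
        have hb := (mem_inf.mp b.2).2
        exact mem_centralizer_iff.mp hb a ha
  have hTs : IsSimpleGroup T := by
    apply isSimpleGroup_of T hT1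
    intro K hK hKn
    apply hTmin K hK
    rw [hsup]
    apply sup_le hKn
    intro x hx
    rw [mem_normalizer_iff]
    intro y
    have h1 : ∀ y ∈ K, x * y * x⁻¹ = y := by
      intro y hy
      have := mem_centralizer_iff.mp (mem_inf.mp hx).2 y (hK hy)
      rw [← this, mul_inv_cancel_right]
    constructor
    · intro hy; rw [h1 y hy]; exact hy
    · intro hy
      have h2 := h1 _ hy
      have h3 : x * y * x⁻¹ = y := by
        have := mul_right_cancel (mul_left_cancel ((mul_assoc x _ _).symm.trans (h2.trans (mul_assoc x _ _))))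
        exact this
      rw [← h3]; exact hy
  have hTcent' : ∀ z ∈ T, z ∈ centralizer (T : Set G) → z = 1 := by
    intro z hz hz2
    have : z ∈ T ⊓ centralizer (T : Set G) := mem_inf.mpr ⟨hz, hz2⟩
    rwa [hTcent, mem_bot] at this
  have hTna : ∃ a b : T, a * b ≠ b * a := by
    by_contra hcon
    push Not at hcon
    apply hT1
    rw [eq_bot_iff]
    intro z hz
    rw [mem_bot]
    apply hTcent' z hz
    rw [mem_centralizer_iff]
    intro y hy
    exact congrArg Subtype.val (hcon ⟨y, hy⟩ ⟨z, hz⟩)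
  by_cases hTeq : T = N
  · subst hTeq
    refine ⟨T, hN, hTs, ?_, ?_⟩
    · intro h
      obtain ⟨a, b, hab⟩ := hTna
      exact hab (h.is_comm.comm a b)
    · by_contra hC
      have hCn : (centralizer (T : Set G)).Normal := inferInstance
      have hCt := transitive_of_normal (Ω := Ω) _ hCn hC
      apply diag_contra hprim hH hep T (centralizer (T : Set G)) hTs hTna ?_ hNt hCt α ?_
      · intro t ht
        rw [mem_centralizer_iff]
        intro c hc
        exact (mem_centralizer_iff.mp hc t ht).symm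
      · intro g _
        left
        intro x hx
        exact hN.conj_mem x hx g
  · exfalso
    have hne : ∃ g ∈ stabilizer G α, MulAut.conj g • T ≠ T := by
      by_contra hcon
      push Not at hcon
      have h1 : stabilizer G α ≤ normalizer (T : Set G) := by
        intro g hg
        rw [mem_normalizer_iff]
        intro x
        have h2 := hcon g hg
        constructor
        · intro hx
          rw [← h2, mem_conj_smul]
          have e : g⁻¹ * (g * x * g⁻¹) * g = x := by group
          rw [e]; exact hx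
        · intro hx
          rw [← h2, mem_conj_smul] at hx
          have e : g⁻¹ * (g * x * g⁻¹) * g = x := by group
          rwa [e] at hx
      have h2 : stabilizer G α ⊔ N = ⊤ := by
        apply (isPreprimitive.isCoatom (G := G) α).2
        refine lt_of_le_of_ne le_sup_left ?_
        intro h3
        have h4 : N ≤ stabilizer G α := by rw [h3]; exact le_sup_right
        obtain ⟨⟨n, hn⟩, hn2⟩ := exists_smul_eq N α β
        have hn3 : n • α = β := hn2
        have hn4 : n • α = α := h4 hn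
        exact hαβ (hn4.symm.trans hn3)
      have h3 : normalizer (T : Set G) = ⊤ := by
        rw [eq_top_iff, ← h2]
        exact sup_le h1 hTn
      have h4 : T.Normal := normalizer_eq_top_iff.mp h3
      rcases hmin T h4 hTN with h5 | h5
      · exact hT1 h5
      · exact hTeq h5
    by_cases hM : N ⊓ stabilizer G α = ⊥
    · apply case_regular hprim hH hep N T hN hTN hT1 hcases hTcent' α _ hne
      intro x hx hxα
      have : x ∈ N ⊓ stabilizer G α := mem_inf.mpr ⟨hx, hxα⟩
      rwa [hM, mem_bot] at this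
    · by_cases hTH : T ⊓ stabilizer G α = ⊥
      · apply case_diag hprim hH hep N T hN hTN hTn hTs hTna hNt hcases _ α hTH hM hne
        intro K hK
        have h1 : normalClosure (T : Set G) = N := by
          rcases hmin (normalClosure (T : Set G)) inferInstance (normalClosure_le_normal hTN) with h | h
          · exfalso
            apply hT1
            rw [eq_bot_iff, ← h]
            exact subset_normalClosure
          · exact h
        rw [← h1, normalClosure, closure_le]
        intro x hx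
        rw [Group.mem_conjugatesOfSet_iff] at hx
        obtain ⟨t, ht, hx⟩ := hx
        obtain ⟨g, rfl⟩ := isConj_iff.mp hx
        apply hK g
        rw [mem_conj_smul]
        have e : g⁻¹ * (g * t * g⁻¹) * g = t := by group
        rw [e]; exact ht
      · apply case_prod hprim hH hep T hcases α _ hTH hne
        by_contra hcon
        push Not at hcon
        apply hT1
        rw [eq_bot_iff]
        intro k hk
        rw [mem_bot]
        apply FaithfulSMul.eq_of_smul_eq_smul (α := Ω)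
        intro x
        rw [one_smul]
        obtain ⟨⟨m, hm⟩, rfl⟩ := exists_smul_eq N α x
        have h3 := hTn (N.inv_mem hm)
        rw [mem_normalizer_iff] at h3
        have h4 := hcon _ ((h3 k).mp hk)
        rw [inv_inv, mul_smul, mul_smul, inv_smul_eq_iff] at h4
        exact h4

end Cfsg.Agent.S3493
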