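import Cfsg.Statements.S3496
import Mathlib
import Cfsg.Agent.LibExtH13
import Cfsg.Agent.LibIrrH13
import Cfsg.Agent.LibCores

set_option autoImplicit false
open Cfsg

namespace Cfsg.Agent.S3496

open MulAction Subgroup Pointwise CfsgLib.H13 CfsgLib.HalfH13 CfsgLib.ExtH13

/-- A group `H` acting faithfully on an elementary abelian `p`-group `V` of order `p^d`, with a normal abelian
irreducible self-centralizing subgroup `T` of exponent `q`. -/
theorem key {H : Type*} [Group H] [Finite H] {V : Type*} [AddCommGroup V] [Finite V] [Nontrivial V]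
    (p d q : ℕ) [hp : Fact p.Prime] [hq : Fact q.Prime] (hV : ∀ v : V, p • v = 0) (hcard : Nat.card V = p ^ d)
    (C : H →* AddMonoid.End V) (T : Subgroup H) [hT : T.Normal] (hC : Function.Injective C)
    (hab : ∀ a ∈ T, ∀ b ∈ T, a * b = b * a) (hself : ∀ c : H, (∀ a ∈ T, a * c = c * a) → c ∈ T)
    (hexp : ∀ a ∈ T, a ^ q = 1) (hT1 : T ≠ ⊥)
    (hirr : ∀ W : AddSubgroup V, (∀ a ∈ T, ∀ w ∈ W, C a w ∈ W) → W = ⊥ ∨ W = ⊤) :
    Nat.card T = q ∧ (∀ i : ℕ, 0 < i → i < d → ¬ q ∣ p ^ i - 1) ∧ (∃ h : H, ⊤ = T ⊔ zpowers h) ∧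
      Nat.card H ∣ q * d := by
  let S : Set (AddMonoid.End V) := {s | ∃ a ∈ T, C a = s}
  have hirr' : ∀ W : AddSubgroup V, (∀ s ∈ S, ∀ w ∈ W, s w ∈ W) → W = ⊥ ∨ W = ⊤ := by
    intro W hW
    apply hirr W
    intro a ha w hw
    exact hW (C a) ⟨a, ha, rfl⟩ w hw
  have hcomm : ∀ s ∈ S, ∀ t ∈ S, s * t = t * s := by
    rintro _ ⟨a, ha, rfl⟩ _ ⟨b, hb, rfl⟩
    rw [← map_mul, ← map_mul, hab a ha b hb]
  have hf := CfsgLib.IrrH13.isField S hirr'
  have hfin := CfsgLib.IrrH13.finite_E S hirr'
  have hcE := CfsgLib.IrrH13.card_E S hirr' hcomm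
  let inst : Field (Subring.centralizer S) := hf.toField
  have hTE : ∀ a ∈ T, C a ∈ Subring.centralizer S := fun a ha =>
    Subring.mem_centralizer_iff.mpr (fun t ht => hcomm t ht _ ⟨a, ha, rfl⟩)
  -- T is cyclic of order q
  have hTq : Nat.card T = q := by
    let ι : T →* Subring.centralizer S :=
      { toFun := fun a => ⟨C a, hTE a a.2⟩
        map_one' := Subtype.ext (map_one C)
        map_mul' := fun a b => Subtype.ext (map_mul C _ _) }
    have hι : Function.Injective ι := by
      intro a b h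
      exact Subtype.ext (hC (congrArg Subtype.val h))
    have hcyc : IsCyclic T := isCyclic_of_injective_ringHom ι hι
    obtain ⟨g, hg⟩ := hcyc.exists_generator
    have h1 : orderOf g = Nat.card T := orderOf_eq_card_of_forall_mem_zpowers hg
    have h2 : orderOf g ∣ q := orderOf_dvd_of_pow_eq_one (Subtype.ext (hexp g g.2))
    rw [h1] at h2
    rcases (Nat.dvd_prime hq.out).mp h2 with h3 | h3
    · exact absurd (card_eq_one.mp h3) hT1
    · exact h3
  -- the action on the field
  have hconjE : ∀ (h : H) (e : AddMonoid.End V), e ∈ Subring.centralizer S → C h * e * C h⁻¹ ∈ Subring.centralizer S := by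
    intro h e he
    rw [Subring.mem_centralizer_iff]
    rintro _ ⟨a, ha, rfl⟩
    have h1 : h⁻¹ * a * h ∈ T := by
      have := hT.conj_mem a ha h⁻¹
      simpa using this
    have h2 := Subring.mem_centralizer_iff.mp he (C (h⁻¹ * a * h)) ⟨_, h1, rfl⟩
    calc C a * (C h * e * C h⁻¹) = C h * (C (h⁻¹ * a * h) * e) * C h⁻¹ := by
          have : C a * C h = C h * C (h⁻¹ * a * h) := by
            rw [← map_mul, ← map_mul]; congr 1; group
          rw [← mul_assoc, ← mul_assoc, this, mul_assoc (C h)]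
      _ = C h * (e * C (h⁻¹ * a * h)) * C h⁻¹ := by rw [h2]
      _ = C h * e * C h⁻¹ * C a := by
          have : C (h⁻¹ * a * h) * C h⁻¹ = C h⁻¹ * C a := by
            rw [← map_mul, ← map_mul]; congr 1; group
          rw [mul_assoc, mul_assoc e, this, ← mul_assoc, ← mul_assoc]
  have hcancel : ∀ h : H, C h⁻¹ * C h = 1 := fun h => by rw [← map_mul, inv_mul_cancel, map_one]
  have hcancel' : ∀ h : H, C h * C h⁻¹ = 1 := fun h => by rw [← map_mul, mul_inv_cancel, map_one]
  let Ψ0 : H → (Subring.centralizer S ≃+* Subring.centralizer S) := fun h =>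
    { toFun := fun e => ⟨C h * e * C h⁻¹, hconjE h e e.2⟩
      invFun := fun e => ⟨C h⁻¹ * e * C h, by
        have := hconjE h⁻¹ e e.2
        rwa [inv_inv] at this⟩
      left_inv := by
        intro e
        apply Subtype.ext
        change C h⁻¹ * (C h * (e : AddMonoid.End V) * C h⁻¹) * C h = e
        rw [mul_assoc, mul_assoc, hcancel, mul_one, ← mul_assoc, hcancel, one_mul]
      right_inv := by
        intro e
        apply Subtype.ext
        change C h * (C h⁻¹ * (e : AddMonoid.End V) * C h) * C h⁻¹ = e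
        rw [mul_assoc, mul_assoc, hcancel', mul_one, ← mul_assoc, hcancel', one_mul]
      map_mul' := by
        intro e f
        apply Subtype.ext
        change C h * ((e : AddMonoid.End V) * f) * C h⁻¹ = (C h * e * C h⁻¹) * (C h * f * C h⁻¹)
        calc C h * ((e : AddMonoid.End V) * f) * C h⁻¹ = C h * e * 1 * f * C h⁻¹ := by
              rw [mul_one]; simp only [mul_assoc]
          _ = _ := by rw [← hcancel h]; simp only [mul_assoc]
      map_add' := by
        intro e f
        apply Subtype.ext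
        change C h * ((e : AddMonoid.End V) + f) * C h⁻¹ = C h * e * C h⁻¹ + C h * f * C h⁻¹
        rw [mul_add, add_mul] }
  let Ψ : H →* (Subring.centralizer S ≃+* Subring.centralizer S) :=
    { toFun := Ψ0
      map_one' := by
        ext e : 1
        apply Subtype.ext
        change C 1 * (e : AddMonoid.End V) * C 1⁻¹ = e
        rw [inv_one, map_one, one_mul, mul_one]
      map_mul' := by
        intro g h
        ext e : 1
        apply Subtype.ext
        change C (g * h) * (e : AddMonoid.End V) * C (g * h)⁻¹ = C g * (C h * e * C h⁻¹) * C g⁻¹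
        rw [mul_inv_rev, map_mul, map_mul]
        simp only [mul_assoc] }
  have hker : Ψ.ker = T := by
    ext h
    rw [MonoidHom.mem_ker]
    constructor
    · intro h1
      apply hself
      intro a ha
      have h2 := congrArg (fun σ : Subring.centralizer S ≃+* Subring.centralizer S => ((σ ⟨C a, hTE a ha⟩ : Subring.centralizer S) : AddMonoid.End V)) h1
      have h3 : C h * C a * C h⁻¹ = C a := h2
      rw [← map_mul, ← map_mul] at h3
      have h4 := hC h3
      rw [mul_inv_eq_iff_eq_mul] at h4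
      exact h4.symm
    · intro hh
      ext e : 1
      apply Subtype.ext
      change C h * (e : AddMonoid.End V) * C h⁻¹ = e
      have h2 := Subring.mem_centralizer_iff.mp e.2 (C h) ⟨h, hh, rfl⟩
      rw [h2, mul_assoc, hcancel', mul_one]
  obtain ⟨hcyc, hcardR⟩ := CfsgLib.IrrH13.ringEquiv_card p d (Subring.centralizer S) (by rw [hcE, hcard])
  refine ⟨hTq, ?_, ?_, ?_⟩
  · intro i hi hid hdvd
    have h1 := CfsgLib.IrrH13.card_le_of_pow S hirr' p i hi hV hcomm (by
      rintro _ ⟨a, ha, rfl⟩
      rw [← map_pow]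
      congr 1
      obtain ⟨c, hc⟩ := hdvd
      have h2 : p ^ i = q * c + 1 := by
        have : 1 ≤ p ^ i := Nat.one_le_pow _ _ hp.out.pos
        omega
      rw [h2, pow_succ, pow_mul, hexp a ha, one_pow, one_mul])
    rw [hcard] at h1
    exact absurd h1 (not_le.mpr (Nat.pow_lt_pow_right hp.out.one_lt hid))
  · have hcr : IsCyclic Ψ.range := inferInstance
    obtain ⟨⟨_, ⟨h, rfl⟩⟩, hg⟩ := hcr.exists_generator
    refine ⟨h, ?_⟩
    symm
    rw [eq_top_iff]
    intro x _
    obtain ⟨k, hk⟩ := mem_zpowers_iff.mp (hg ⟨Ψ x, ⟨x, rfl⟩⟩)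
    have hk' : (Ψ h) ^ k = Ψ x := congrArg Subtype.val hk
    have h2 : x * (h ^ k)⁻¹ ∈ T := by
      rw [← hker, MonoidHom.mem_ker, map_mul, map_inv, map_zpow, hk', mul_inv_cancel]
    have h3 : x = x * (h ^ k)⁻¹ * h ^ k := by group
    rw [h3]
    exact mul_mem (SetLike.le_def.mp le_sup_left h2) (SetLike.le_def.mp le_sup_right (zpow_mem (mem_zpowers h) k))
  · have h1 := T.card_mul_index
    rw [← h1, hTq]
    apply Nat.mul_dvd_mul_left
    rw [← hker, index_ker, ← hcardR]
    exact card_subgroup_dvd_card _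

/-- The soluble extremely primitive groups. Let a finite solvable group G act faithfully and primitively on a finite set Ω with p ^ d points (p prime), with non-trivial point stabilizers each acting primitively on every one of its orbits. Then there is a prime q such that every orbit of a point stabilizer G_α other than {α} has exactly q points, q divides p ^ d − 1 but no p ^ i − 1 with 0 < i < d, and G_α has a normal subgroup T of order q with G_α generated by T and one further element and the order of G_α dividing q·d (so G_α is cyclic of order q, or an extension of T by a cyclic group of order dividing d). -/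
theorem result {G : Type*} [Group G] [Finite G] {Ω : Type*} [Fintype Ω] [MulAction G Ω] [FaithfulSMul G Ω] [Group.IsSolvable G] (p d : ℕ) (hp : p.Prime) (hcard : Fintype.card Ω = p ^ d)
    (hprim : MulAction.IsPreprimitive G Ω) (hH : ∀ α : Ω, MulAction.stabilizer G α ≠ ⊥) (hep : ∀ (α : Ω) (ω : Ω), MulAction.IsPreprimitive (MulAction.stabilizer G α) (MulAction.orbit (MulAction.stabilizer G α) ω)) (α : Ω) :
    ∃ q : ℕ, q.Prime ∧ (∀ ω : Ω, ω ≠ α → Nat.card (MulAction.orbit (MulAction.stabilizer G α) ω) = q) ∧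
      q ∣ p ^ d - 1 ∧ (∀ i : ℕ, 0 < i → i < d → ¬ q ∣ p ^ i - 1) ∧
      ∃ T : Subgroup G, T ≤ MulAction.stabilizer G α ∧ MulAction.stabilizer G α ≤ Subgroup.normalizer (T : Set G) ∧ Nat.card T = q ∧
        (∃ h : G, MulAction.stabilizer G α = T ⊔ Subgroup.zpowers h) ∧ Nat.card (MulAction.stabilizer G α) ∣ q * d := by
  classical
  have hFp : Fact p.Prime := ⟨hp⟩
  obtain ⟨ω0, hω0⟩ := exists_ne_pt hH α
  have hG1 : (⊤ : Subgroup G) ≠ ⊥ := by
    intro h
    apply hH α
    rw [eq_bot_iff, ← h]; exact le_top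
  obtain ⟨N, hN, -, hN1, hNmin⟩ := CfsgLib.Cores.exists_minimal_normal (⊤ : Subgroup G) hG1
  obtain ⟨r, hr, hNc, hNr, hNpg⟩ := CfsgLib.Cores.minimal_normal_elementary N hN1 hNmin inferInstance
  have hNt : IsPretransitive N Ω := transitive_of_normal (Ω := Ω) N hN hN1
  have hNab : ∀ a ∈ N, ∀ b ∈ N, a * b = b * a := by
    intro a ha b hb
    exact congrArg Subtype.val (hNc.is_comm.comm (⟨a, ha⟩ : N) ⟨b, hb⟩)
  have hcentN : ∀ c : G, (∀ a ∈ N, a * c = c * a) → ∀ x : Ω, c • x = x → c = 1 := by
    intro c hc x hx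
    apply semiregular_of_commute (A := N) (B := centralizer (N : Set G)) hNt (le_refl _) _ hx
    rw [mem_centralizer_iff]
    exact hc
  have hNreg : ∀ ω : Ω, stabilizer N ω = ⊥ := by
    intro ω
    rw [eq_bot_iff]
    rintro ⟨n, hn⟩ h
    rw [mem_bot]
    exact Subtype.ext (hcentN n (fun a ha => hNab a ha n hn) ω h)
  have hinj : ∀ a ∈ N, ∀ b ∈ N, a • α = b • α → a = b := by
    intro a ha b hb hab
    have h3 := hcentN (b⁻¹ * a) (fun c hc => hNab c hc _ (N.mul_mem (N.inv_mem hb) ha)) α (by rw [mul_smul, hab, inv_smul_smul])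
    exact (inv_mul_eq_one.mp h3).symm
  have hcardN : Nat.card N = p ^ d := by
    rw [← hcard, ← Nat.card_eq_fintype_card]
    apply Nat.card_congr
    exact Equiv.ofBijective (fun n : N => (n : G) • α) ⟨fun a b hab => Subtype.ext (hinj a a.2 b b.2 hab), by
      intro x
      obtain ⟨n, hn⟩ := exists_smul_eq N α x
      exact ⟨n, hn⟩⟩
  have hrp : r = p := by
    have hFr : Fact r.Prime := ⟨hr⟩
    have hNnt : Nontrivial N := (nontrivial_iff_ne_bot _).mpr hN1
    obtain ⟨k, hk⟩ := (IsPGroup.iff_card (p := r)).mp hNpg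
    rw [hcardN] at hk
    have hd0 : d ≠ 0 := by
      rintro rfl
      rw [pow_zero] at hcardN
      exact (Finite.one_lt_card (α := N)).ne hcardN.symm
    have h1 : p ∣ r ^ k := by rw [← hk]; exact dvd_pow_self p hd0
    exact ((Nat.prime_dvd_prime_iff_eq hp hr).mp (hp.dvd_of_dvd_pow h1)).symm
  subst hrp
  -- the minimal normal subgroup of `H`
  have hHnt : (⊤ : Subgroup (stabilizer G α)) ≠ ⊥ := by
    rw [Ne, ← card_eq_one, card_top, card_eq_one]
    exact hH α
  obtain ⟨T, hTn, -, hT1, hTmin⟩ := CfsgLib.Cores.exists_minimal_normal (⊤ : Subgroup (stabilizer G α)) hHnt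
  obtain ⟨q0, hq0, hTc, -, -⟩ := CfsgLib.Cores.minimal_normal_elementary T hT1 hTmin inferInstance
  have hTab : ∀ a ∈ T, ∀ b ∈ T, a * b = b * a := by
    intro a ha b hb
    exact congrArg Subtype.val (hTc.is_comm.comm (⟨a, ha⟩ : T) ⟨b, hb⟩)
  obtain ⟨q, e, hq, he, hTcard, hTexp⟩ := elementary hprim hH hep α T hTab hT1
  have hFq : Fact q.Prime := ⟨hq⟩
  let inst : CommGroup N := { (inferInstance : Group N) with mul_comm := fun a b => Subtype.ext (hNab a a.2 b b.2) }
  have hfin : Finite (Additive N) := inferInstanceAs (Finite N)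
  have hNnt : Nontrivial N := (nontrivial_iff_ne_bot _).mpr hN1
  have hnt : Nontrivial (Additive N) := inferInstanceAs (Nontrivial N)
  let C : stabilizer G α →* AddMonoid.End (Additive N) :=
    { toFun := fun h => MonoidHom.toAdditive ((MulAut.conjNormal (h : G) : MulAut N) : N →* N)
      map_one' := by
        apply AddMonoidHom.ext
        intro x
        change Additive.ofMul ((MulAut.conjNormal ((1 : stabilizer G α) : G) : MulAut N) (Additive.toMul x)) = x
        rw [coe_one, map_one]; rfl
      map_mul' := by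
        intro a b
        apply AddMonoidHom.ext
        intro x
        change Additive.ofMul ((MulAut.conjNormal ((a * b : stabilizer G α) : G) : MulAut N) (Additive.toMul x)) = _
        rw [coe_mul, map_mul]; rfl }
  have hCapp : ∀ (h : stabilizer G α) (n : N), C h (Additive.ofMul n) = Additive.ofMul ((MulAut.conjNormal (h : G) : MulAut N) n) :=
    fun h n => rfl
  have hCinj : Function.Injective C := by
    intro a b hab
    have h1 : a⁻¹ * b = 1 := by
      apply Subtype.ext
      apply hcentN _ _ α (a⁻¹ * b).2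
      intro n hn
      have h2 := congrArg (fun f : AddMonoid.End (Additive N) => ((Additive.toMul (f (Additive.ofMul ⟨n, hn⟩)) : N) : G)) hab
      have h3 : (a : G) * n * (a : G)⁻¹ = (b : G) * n * (b : G)⁻¹ := h2
      change n * ((a : G)⁻¹ * b) = (a : G)⁻¹ * b * n
      calc n * ((a : G)⁻¹ * b) = (a : G)⁻¹ * ((a : G) * n * (a : G)⁻¹) * b := by group
        _ = (a : G)⁻¹ * ((b : G) * n * (b : G)⁻¹) * b := by rw [h3]
        _ = (a : G)⁻¹ * b * n := by group
    exact inv_mul_eq_one.mp h1
  have hTG1 : T.map (stabilizer G α).subtype ≠ ⊥ := by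
    rwa [Ne, map_eq_bot_iff_of_injective _ (subtype_injective _)]
  have hTGn : stabilizer G α ≤ normalizer ((T.map (stabilizer G α).subtype : Subgroup G) : Set G) := by
    intro g hg
    rw [mem_normalizer_iff]
    intro x
    constructor
    · rintro ⟨y, hy, rfl⟩
      exact ⟨⟨g, hg⟩ * y * ⟨g, hg⟩⁻¹, hTn.conj_mem y hy _, rfl⟩
    · rintro ⟨y, hy, hyx⟩
      refine ⟨⟨g, hg⟩⁻¹ * y * ⟨g, hg⟩, ?_, ?_⟩
      · have := hTn.conj_mem y hy (⟨g, hg⟩⁻¹)
        simpa using this
      · have hyx' : (y : G) = g * x * g⁻¹ := hyx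
        change g⁻¹ * (y : G) * g = x
        rw [hyx']; group
  obtain ⟨-, hirr⟩ := Cfsg.Agent.S3495.result hprim hH hep N hNc r hr hNr hNt hNreg α
    (T.map (stabilizer G α).subtype) hTG1 (map_subtype_le _) hTGn
  have hirr' : ∀ W : AddSubgroup (Additive N), (∀ a ∈ T, ∀ w ∈ W, C a w ∈ W) → W = ⊥ ∨ W = ⊤ := by
    intro W hW
    let L : Subgroup G :=
      { carrier := {g | ∃ h : g ∈ N, Additive.ofMul (⟨g, h⟩ : N) ∈ W}
        one_mem' := ⟨N.one_mem, W.zero_mem⟩
        mul_mem' := by
          rintro a b ⟨ha, ha'⟩ ⟨hb, hb'⟩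
          exact ⟨N.mul_mem ha hb, W.add_mem ha' hb'⟩
        inv_mem' := by
          rintro a ⟨ha, ha'⟩
          exact ⟨N.inv_mem ha, W.neg_mem ha'⟩ }
    have hLN : L ≤ N := fun x hx => hx.1
    have key : ∀ a ∈ T, ∀ x ∈ L, (a : G) * x * (a : G)⁻¹ ∈ L := by
      rintro a ha x ⟨hx, hx'⟩
      exact ⟨hN.conj_mem x hx _, hW a ha _ hx'⟩
    have hLn : T.map (stabilizer G α).subtype ≤ normalizer (L : Set G) := by
      rintro _ ⟨a, ha, rfl⟩
      rw [mem_normalizer_iff]
      intro x
      constructor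
      · intro hx; exact key a ha x hx
      · intro hx
        have h1 := key a⁻¹ (T.inv_mem ha) _ hx
        have e : ((a⁻¹ : stabilizer G α) : G) * ((stabilizer G α).subtype a * x * ((stabilizer G α).subtype a)⁻¹) * ((a⁻¹ : stabilizer G α) : G)⁻¹ = x := by
          rw [coe_inv]
          change (a : G)⁻¹ * ((a : G) * x * (a : G)⁻¹) * (a : G)⁻¹⁻¹ = x
          group
        rwa [e] at h1
    rcases hirr L hLN hLn with h | h
    · left
      rw [eq_bot_iff]
      intro w hw
      have h1 : ((Additive.toMul w : N) : G) ∈ L := ⟨(Additive.toMul w : N).2, hw⟩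
      rw [h, mem_bot] at h1
      rw [AddSubgroup.mem_bot]
      have h2 : (Additive.toMul w : N) = 1 := Subtype.ext h1
      exact congrArg Additive.ofMul h2
    · right
      rw [eq_top_iff]
      intro w _
      have h1 : ((Additive.toMul w : N) : G) ∈ L := by rw [h]; exact (Additive.toMul w : N).2
      exact h1.2
  obtain ⟨h1, h2, ⟨h, h3⟩, h4⟩ := key r d q (V := Additive N) (by
    intro x
    exact congrArg Additive.ofMul (Subtype.ext (hNr (Additive.toMul x : N) (Additive.toMul x : N).2) : (Additive.toMul x : N) ^ r = 1))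
    hcardN C T hCinj hTab (fun c hc => mem_of_commute hprim hH hep α T hTab hT1 c hc) hTexp hT1 hirr'
  have horb : ∀ ω : Ω, ω ≠ α → Nat.card (orbit (stabilizer G α) ω) = q := by
    intro ω hω
    rw [← h1]
    exact (card_eq_orbit hprim hH hep α T hTab hT1 ω hω).symm
  refine ⟨q, hq, horb, ?_, h2, T.map (stabilizer G α).subtype, map_subtype_le _, hTGn, ?_, ⟨h, ?_⟩, h4⟩
  · have h5 := dvd_ncard_of_orbits (stabilizer G α) q ({α}ᶜ : Set Ω) (by
      intro s hs x hx hc
      apply hx
      rw [Set.mem_singleton_iff] at hc ⊢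
      have hs' : s • α = α := hs
      rw [← hs'] at hc
      exact smul_left_cancel s hc) (by
      intro x hx
      rw [← Nat.card_coe_set_eq]
      exact horb x hx)
    rwa [Set.ncard_compl, Set.ncard_singleton, Nat.card_eq_fintype_card (α := Ω), hcard] at h5
  · rw [← h1]
    exact (Nat.card_congr (T.equivMapOfInjective _ (subtype_injective _)).toEquiv).symm
  · have h5 := congrArg (fun K : Subgroup (stabilizer G α) => K.map (stabilizer G α).subtype) h3
    simp only [Subgroup.map_sup] at h5
    rw [MonoidHom.map_zpowers] at h5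
    rw [← MonoidHom.range_eq_map, range_subtype] at h5
    exact h5

end Cfsg.Agent.S3496
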