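import Cfsg.Statements.S3497
import Mathlib
import Cfsg.Agent.LibExtH13
import Cfsg.Agent.LibCores

set_option autoImplicit false
open Cfsg

namespace Cfsg.Agent.S3497

open MulAction Subgroup Pointwise CfsgLib.H13 CfsgLib.HalfH13 CfsgLib.ExtH13

/-- Restrictions on the point stabilizer of an extremely primitive group. Let a finite group G act faithfully and primitively on a finite set Ω with point stabilizers H = G_α whose order is neither 1 nor a prime, each acting primitively on every one of its orbits. Then H has trivial center, the Fitting subgroup F(H) is an elementary abelian p-group for some prime p, and if F(H) ≠ 1 has order p ^ e then p ^ e divides the number of points minus one and H / F(H) embeds in GL_e(p) (there is a homomorphism from H to GL_e(p) with kernel exactly F(H)). -/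
theorem result {G : Type*} [Group G] [Finite G] {Ω : Type*} [Fintype Ω] [MulAction G Ω] [FaithfulSMul G Ω] (hprim : MulAction.IsPreprimitive G Ω) (hep : ∀ (α : Ω) (ω : Ω), MulAction.IsPreprimitive (MulAction.stabilizer G α) (MulAction.orbit (MulAction.stabilizer G α) ω)) (α : Ω)
    (hH1 : MulAction.stabilizer G α ≠ ⊥) (hHp : ¬ (Nat.card (MulAction.stabilizer G α)).Prime) :
    Subgroup.center (MulAction.stabilizer G α) = ⊥ ∧
    IsMulCommutative (Cfsg.fittingSubgroup (MulAction.stabilizer G α)) ∧
    ∃ p e : ℕ, p.Prime ∧ Nat.card (Cfsg.fittingSubgroup (MulAction.stabilizer G α)) = p ^ e ∧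
      (∀ x ∈ Cfsg.fittingSubgroup (MulAction.stabilizer G α), x ^ p = 1) ∧
      (Cfsg.fittingSubgroup (MulAction.stabilizer G α) ≠ ⊥ →
        p ^ e ∣ Fintype.card Ω - 1 ∧
        ∃ φ : MulAction.stabilizer G α →* GL (Fin e) (ZMod p), φ.ker = Cfsg.fittingSubgroup (MulAction.stabilizer G α)) := by
  classical
  have hpre := hprim
  have hH : ∀ β : Ω, stabilizer G β ≠ ⊥ := by
    intro β hβ
    apply hH1
    have h1 := card_stabilizer_eq (G := G) α β
    rw [hβ, card_bot] at h1
    exact card_eq_one.mp h1
  have hHnt : Nontrivial (stabilizer G α) := (nontrivial_iff_ne_bot _).mpr hH1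
  -- the centre is trivial
  have hnotab : ¬ ∀ a b : stabilizer G α, a * b = b * a := by
    intro hab
    apply hHp
    have hcard1 : Nat.card (stabilizer G α) ≠ 1 := by rwa [Ne, card_eq_one]
    obtain ⟨q, hq, hqd⟩ := Nat.exists_prime_and_dvd hcard1
    have hF : Fact q.Prime := ⟨hq⟩
    obtain ⟨x, hx⟩ := exists_prime_orderOf_dvd_card' q hqd
    have hn : ∀ K : Subgroup (stabilizer G α), K.Normal := fun K => ⟨fun n hn g => by
      rw [hab g n, mul_inv_cancel_right]; exact hn⟩
    have := hn (zpowers x)
    have hx1 : x ≠ 1 := by rintro rfl; rw [orderOf_one] at hx; exact hq.one_lt.ne hx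
    have h1 := minimal hprim hH hep α ⊤ (zpowers x) (fun a _ b _ => hab a b) le_top (by rwa [Ne, zpowers_eq_bot])
    have h2 : Nat.card (stabilizer G α) = q := by
      rw [← card_top, ← h1, Nat.card_zpowers, hx]
    rw [h2]; exact hq
  have hcenter : Subgroup.center (stabilizer G α) = ⊥ := by
    by_contra hZ
    apply hnotab
    intro a b
    have hcomm : ∀ x ∈ center (stabilizer G α), ∀ y : stabilizer G α, x * y = y * x :=
      fun x hx y => (mem_center_iff.mp hx y).symm
    have h1 : ∀ y : stabilizer G α, y ∈ center (stabilizer G α) := fun y =>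
      mem_of_commute hprim hH hep α (center (stabilizer G α)) (fun a ha b _ => hcomm a ha b) hZ y
        (fun a ha => hcomm a ha y)
    exact hcomm a (h1 a) b
  refine ⟨hcenter, ?_⟩
  by_cases hF1 : fittingSubgroup (stabilizer G α) = ⊥
  · refine ⟨?_, 2, 0, Nat.prime_two, ?_, ?_, ?_⟩
    · rw [hF1]; infer_instance
    · rw [hF1, card_bot, pow_zero]
    · intro x hx
      rw [hF1, mem_bot] at hx
      rw [hx, one_pow]
    · intro h; exact absurd hF1 h
  -- `F(H)` is abelian
  have hFnil : Group.IsNilpotent (fittingSubgroup (stabilizer G α)) := CfsgLib.Cores.fittingSubgroup_isNilpotent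
  have hFnt : Nontrivial (fittingSubgroup (stabilizer G α)) := (nontrivial_iff_ne_bot _).mpr hF1
  have hFn : (fittingSubgroup (stabilizer G α)).Normal := inferInstance
  let Z : Subgroup (stabilizer G α) := (center (fittingSubgroup (stabilizer G α))).map (fittingSubgroup (stabilizer G α)).subtype
  have hZn : Z.Normal := inferInstance
  have hZ1 : Z ≠ ⊥ := by
    rw [Ne, map_eq_bot_iff_of_injective _ (subtype_injective _)]
    exact Group.IsNilpotent.center_ne_bot _
  have hZc : ∀ z ∈ Z, ∀ y ∈ fittingSubgroup (stabilizer G α), z * y = y * z := by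
    rintro _ ⟨z, hz, rfl⟩ y hy
    exact (congrArg Subtype.val (mem_center_iff.mp hz ⟨y, hy⟩)).symm
  have hZle : Z ≤ fittingSubgroup (stabilizer G α) := map_subtype_le _
  have hFle : fittingSubgroup (stabilizer G α) ≤ Z := by
    intro y hy
    apply mem_of_commute hprim hH hep α Z (fun a ha b hb => hZc a ha b (hZle hb)) hZ1
    intro a ha
    exact hZc a ha y hy
  have hFab : ∀ a ∈ fittingSubgroup (stabilizer G α), ∀ b ∈ fittingSubgroup (stabilizer G α), a * b = b * a :=
    fun a ha b hb => hZc a (hFle ha) b hb
  refine ⟨⟨⟨fun a b => Subtype.ext (hFab a a.2 b b.2)⟩⟩, ?_⟩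
  obtain ⟨p, e, hp, he, hcard, hexp⟩ := elementary hprim hH hep α _ hFab hF1
  refine ⟨p, e, hp, hcard, hexp, fun _ => ⟨?_, ?_⟩⟩
  · rw [← hcard]
    have h1 := dvd_ncard_of_orbits (stabilizer G α) (Nat.card (fittingSubgroup (stabilizer G α))) ({α}ᶜ : Set Ω) (by
      intro s hs x hx hc
      apply hx
      rw [Set.mem_singleton_iff] at hc ⊢
      have hs' : s • α = α := hs
      rw [← hs'] at hc
      exact smul_left_cancel s hc) (by
      intro x hx
      rw [← Nat.card_coe_set_eq]
      exact (card_eq_orbit hprim hH hep α _ hFab hF1 x hx).symm)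
    rwa [Set.ncard_compl, Set.ncard_singleton, Nat.card_eq_fintype_card (α := Ω)] at h1
  · have hFp : Fact p.Prime := ⟨hp⟩
    let inst : CommGroup (fittingSubgroup (stabilizer G α)) :=
      { (inferInstance : Group (fittingSubgroup (stabilizer G α))) with
        mul_comm := fun a b => Subtype.ext (hFab a a.2 b b.2) }
    obtain ⟨ψ, hψ⟩ := exists_GL_hom (A := fittingSubgroup (stabilizer G α)) p e
      (fun a => Subtype.ext (hexp a a.2)) hcard
    refine ⟨ψ.comp (MulAut.conjNormal : stabilizer G α →* MulAut (fittingSubgroup (stabilizer G α))), ?_⟩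
    ext c
    rw [MonoidHom.mem_ker, MonoidHom.comp_apply, ← map_one ψ, hψ.eq_iff]
    constructor
    · intro h
      apply mem_of_commute hprim hH hep α _ hFab hF1
      intro a ha
      have h1 := congrArg (fun σ : MulAut (fittingSubgroup (stabilizer G α)) => ((σ ⟨a, ha⟩ : fittingSubgroup (stabilizer G α)) : stabilizer G α)) h
      simp only [MulAut.conjNormal_apply, MulAut.one_apply] at h1
      rw [mul_inv_eq_iff_eq_mul] at h1
      exact h1.symm
    · intro h
      ext a : 2
      rw [MulAut.conjNormal_apply, MulAut.one_apply, hFab c h a a.2, mul_inv_cancel_right]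

end Cfsg.Agent.S3497
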