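import Cfsg.Statements.S3501
import Mathlib
import Cfsg.Agent.LibH6Dr
import Cfsg.Agent.LibCores

set_option autoImplicit false
open Cfsg

namespace Cfsg.Agent.S3501


open MulAction CfsgLib.H6Dr

universe u v

/-- transitivity of normal subgroups -/
theorem tr_of_normal {X : Type u} [Group X] [Finite X] {Ω : Type v} [MulAction X Ω] [Finite Ω] [FaithfulSMul X Ω]
    (hprim : IsPreprimitive X Ω) (N : Subgroup X) (hNn : N.Normal) (hN : N ≠ ⊥) (a b : Ω) : ∃ m ∈ N, m • a = b := by
  haveI := hNn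
  have h1 : fixedPoints N Ω ≠ Set.univ := by
    intro h2
    apply hN
    rw [Subgroup.eq_bot_iff_forall]
    intro n hn
    apply FaithfulSMul.eq_of_smul_eq_smul (α := Ω)
    intro y
    rw [one_smul]
    have : y ∈ fixedPoints N Ω := by rw [h2]; trivial
    exact this ⟨n, hn⟩
  haveI : IsPretransitive N Ω := IsQuasiPreprimitive.isPretransitive_of_normal h1
  obtain ⟨m, hm⟩ := MulAction.exists_smul_eq N a b
  exact ⟨m, m.2, hm⟩

theorem forward {G : Type u} [Group G] [Finite G] {Ω : Type v} [Finite Ω] [MulAction G Ω] [FaithfulSMul G Ω] (hΩ : 2 ≤ Nat.card Ω)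
    (hprim : IsPreprimitive G Ω) (hnas : ¬ ∃ T : Subgroup G, T.Normal ∧ IsSimpleGroup T ∧ ¬ IsMulCommutative T ∧ Subgroup.centralizer (T : Set G) = ⊥)
    (hc : ∀ x y : G, (∀ ω : Ω, x • ω ≠ ω) → (∀ ω : Ω, y • ω ≠ ω) → IsConj x y) :
    MulAction.IsMultiplyPretransitive G Ω 2 ∧ ∀ g : G, g ≠ 1 → ∀ a b : Ω, a ≠ b → g • a = a → g • b ≠ b := by
  classical
  haveI := Fintype.ofFinite G
  haveI := hprim.toIsPretransitive
  haveI : Nonempty Ω := (Nat.card_pos_iff.1 (by omega : 0 < Nat.card Ω)).1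
  have hGtop : (⊤ : Subgroup G) ≠ ⊥ := by
    intro h
    obtain ⟨x, hx⟩ := jordan (X := G) (Δ := Ω) hΩ
    have h1 : x ∈ (⊤ : Subgroup G) := trivial
    rw [h, Subgroup.mem_bot] at h1
    obtain ⟨ω⟩ := (inferInstance : Nonempty Ω)
    exact hx ω (by rw [h1, one_smul])
  obtain ⟨N, hN, -, hNb, hmin⟩ := CfsgLib.Cores.exists_minimal_normal (⊤ : Subgroup G) hGtop
  have hmin' : ∀ M : Subgroup G, M.Normal → M ≤ N → M ≠ ⊥ → M = N := fun M h1 h2 h3 => (hmin M h1 h2).resolve_left h3
  have htr := fun M h1 h2 => tr_of_normal (Ω := Ω) hprim M h1 h2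
  have hab : ∀ x ∈ N, ∀ y ∈ N, x * y = y * x := by
    by_contra hnab
    obtain ⟨x, y, hx, hy, hxy⟩ := nonab hΩ htr hnas N hN hNb hmin' hnab
    exact hxy (hc x y hx hy)
  have hNt := htr N hN hNb
  have hNfree : ∀ x ∈ N, ∀ ω : Ω, x • ω = ω → x = 1 := by
    intro x hx a ha
    apply FaithfulSMul.eq_of_smul_eq_smul (M := G) (α := Ω)
    intro b
    obtain ⟨c, hc, rfl⟩ := hNt a b
    rw [one_smul, ← mul_smul, hab x hx c hc, mul_smul, ha]
  obtain ⟨x0, hx0, hx01⟩ : ∃ x ∈ N, x ≠ 1 := by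
    by_contra hcon
    push Not at hcon
    exact hNb ((Subgroup.eq_bot_iff_forall N).2 hcon)
  have hD : ∀ d : G, (∀ ω : Ω, d • ω ≠ ω) → d ∈ N := by
    intro d hd
    have h1 := hc x0 d (fun ω hω => hx01 (hNfree x0 hx0 ω hω)) hd
    obtain ⟨k, hk⟩ := isConj_iff.1 h1
    rw [← hk]
    exact hN.conj_mem x0 hx0 k
  obtain ⟨a0⟩ := (inferInstance : Nonempty Ω)
  have hNc : Nat.card N = Nat.card Ω := by
    apply Nat.card_congr
    refine Equiv.ofBijective (fun x : N => (x : G) • a0) ⟨?_, ?_⟩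
    · intro x y hxy
      have h1 : ((y : G)⁻¹ * x) • a0 = a0 := by
        rw [mul_smul, inv_smul_eq_iff]; exact hxy
      have h2 := hNfree _ (N.mul_mem (N.inv_mem y.2) x.2) a0 h1
      exact Subtype.ext (inv_mul_eq_one.1 h2).symm
    · intro b
      obtain ⟨n, hn, hnb⟩ := hNt a0 b
      exact ⟨⟨n, hn⟩, hnb⟩
  -- counting
  have hone : ∀ g : G, g ≠ 1 → Nat.card (fixedBy Ω g) ≤ 1 := by
    have hsum := sum_one (G := G) (Ω := Ω) ⟨a0⟩
    obtain ⟨F, hF⟩ : ∃ F : G → ℕ, ∀ g, F g = if g = 1 then Nat.card Ω else if g ∈ N then 0 else 1 := ⟨_, fun g => rfl⟩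
    have hle : ∀ g, F g ≤ Nat.card (fixedBy Ω g) := by
      intro g
      rw [hF]
      by_cases h1 : g = 1
      · rw [if_pos h1, h1, card_fixed_one]
      · rw [if_neg h1]
        by_cases h2 : g ∈ N
        · rw [if_pos h2]; exact Nat.zero_le _
        · rw [if_neg h2, ← card_fixed_pos]
          by_contra hcon
          push Not at hcon
          exact h2 (hD g hcon)
    have hFs : ∑ g : G, F g = Nat.card G := by
      have e1 : ∀ g : G, F g + (if g ∈ N then 1 else 0) = 1 + (if g = 1 then Nat.card Ω else 0) := by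
        intro g
        rw [hF]
        by_cases h1 : g = 1
        · rw [if_pos h1, if_pos h1, h1, if_pos N.one_mem]; omega
        · rw [if_neg h1, if_neg h1]
          by_cases h2 : g ∈ N
          · rw [if_pos h2, if_pos h2]
          · rw [if_neg h2, if_neg h2]
      have e2 : ∑ g : G, (F g + (if g ∈ N then 1 else 0)) = ∑ g : G, (1 + (if g = 1 then Nat.card Ω else 0)) :=
        Finset.sum_congr rfl fun g _ => e1 g
      rw [Finset.sum_add_distrib, Finset.sum_add_distrib, Finset.sum_boole, Finset.sum_ite_eq' Finset.univ (1 : G), if_pos (Finset.mem_univ _),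
        Finset.sum_const, Finset.card_univ, smul_eq_mul, mul_one, Nat.cast_id] at e2
      have e3 : (Finset.univ.filter fun g : G => g ∈ N).card = Nat.card Ω := by
        rw [← hNc, Nat.card_eq_fintype_card, Fintype.card_subtype]
      rw [e3] at e2
      rw [Nat.card_eq_fintype_card (α := G)]
      omega
    have heq : ∀ g ∈ (Finset.univ : Finset G), F g = Nat.card (fixedBy Ω g) :=
      (Finset.sum_eq_sum_iff_of_le fun g _ => hle g).1 (hFs.trans hsum.symm)
    intro g hg
    rw [← heq g (Finset.mem_univ _), hF, if_neg hg]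
    split_ifs <;> omega
  refine ⟨?_, ?_⟩
  · rw [is_two_pretransitive_iff]
    have hst : ∀ a b c : Ω, b ≠ a → c ≠ a → ∃ h : G, h • a = a ∧ h • b = c := by
      intro a b c hb hc'
      obtain ⟨x, hx, hxb⟩ := hNt a b
      obtain ⟨y, hy, hyc⟩ := hNt a c
      have hx1 : ∀ ω : Ω, x • ω ≠ ω := by
        intro ω hω
        apply hb
        rw [← hxb, hNfree x hx ω hω, one_smul]
      have hy1 : ∀ ω : Ω, y • ω ≠ ω := by
        intro ω hω
        apply hc'
        rw [← hyc, hNfree y hy ω hω, one_smul]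
      obtain ⟨k, hk⟩ := isConj_iff.1 (hc x y hx1 hy1)
      obtain ⟨n, hn, hna⟩ := hNt a (k • a)
      refine ⟨n⁻¹ * k, ?_, ?_⟩
      · rw [mul_smul, ← hna, inv_smul_smul]
      · rw [← hxb, ← mul_smul]
        have h1 : n⁻¹ * k * x = y * (n⁻¹ * k) := by
          calc n⁻¹ * k * x = n⁻¹ * (k * x * k⁻¹) * k := by group
            _ = n⁻¹ * y * k := by rw [hk]
            _ = y * n⁻¹ * k := by rw [hab n⁻¹ (N.inv_mem hn) y hy]
            _ = y * (n⁻¹ * k) := by group
        rw [h1, mul_smul, mul_smul, ← hna, inv_smul_smul, hyc]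
    intro a b c d hab' hcd
    obtain ⟨g, hg⟩ := MulAction.exists_smul_eq G a c
    obtain ⟨h, hh1, hh2⟩ := hst c (g • b) d (by
      intro h; apply hab'; rw [← hg] at h; exact (smul_left_cancel g h).symm) (Ne.symm hcd)
    exact ⟨h * g, by rw [mul_smul, hg, hh1], by rw [mul_smul, hh2]⟩
  · intro g hg a b hab' ha hb
    have h1 := hone g hg
    have h3 : ({a, b} : Set Ω) ⊆ fixedBy Ω g := by
      intro x hx
      rcases hx with h | h
      · rw [h]; exact ha
      · rw [Set.mem_singleton_iff.1 h]; exact hb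
    have h4 := Set.ncard_le_ncard h3 (Set.toFinite _)
    rw [Set.ncard_pair hab', ← Nat.card_coe_set_eq] at h4
    omega

theorem backward {G : Type u} [Group G] [Finite G] {Ω : Type v} [Finite Ω] [MulAction G Ω] [FaithfulSMul G Ω] (hΩ : 2 ≤ Nat.card Ω)
    (h2 : ∀ a b c d : Ω, a ≠ b → c ≠ d → ∃ g : G, g • a = c ∧ g • b = d)
    (hs : ∀ g : G, g ≠ 1 → ∀ a b : Ω, a ≠ b → g • a = a → g • b ≠ b) :
    (∃ d : G, ∀ ω : Ω, d • ω ≠ ω) ∧ ∀ x y : G, (∀ ω : Ω, x • ω ≠ ω) → (∀ ω : Ω, y • ω ≠ ω) → IsConj x y := by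
  classical
  haveI := Fintype.ofFinite G
  haveI := Fintype.ofFinite Ω
  haveI : Nontrivial Ω := Finite.one_lt_card_iff_nontrivial.1 hΩ
  haveI htr : IsPretransitive G Ω := ⟨fun x y => by
    by_cases h : x = y
    · exact ⟨1, by rw [one_smul, h]⟩
    · obtain ⟨g, hg, -⟩ := h2 x y y x h (Ne.symm h)
      exact ⟨g, hg⟩⟩
  refine ⟨jordan hΩ, ?_⟩
  intro x y hx hy
  obtain ⟨a⟩ := (inferInstance : Nonempty Ω)
  have hfix : ∀ g : G, g ≠ 1 → Nat.card (fixedBy Ω g) ≤ 1 := by
    intro g hg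
    rw [Finite.card_le_one_iff_subsingleton]
    refine ⟨fun b c => ?_⟩
    by_contra hne
    exact hs g hg b c (fun h => hne (Subtype.ext h)) b.2 c.2
  -- the set of derangements
  obtain ⟨D, hD⟩ : ∃ D : Finset G, D = Finset.univ.filter fun g => ∀ ω : Ω, g • ω ≠ ω := ⟨_, rfl⟩
  have hDc : D.card + 1 = Nat.card Ω := by
    have hsum := sum_one (G := G) (Ω := Ω) ⟨a⟩
    have e1 : ∀ g : G, Nat.card (fixedBy Ω g) + (if g ∈ D then 1 else 0) + (if g = 1 then 1 else 0) = 1 + (if g = 1 then Nat.card Ω else 0) := by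
      intro g
      by_cases h1 : g = 1
      · have h3 : g ∉ D := by
          rw [hD, Finset.mem_filter]
          rintro ⟨-, h⟩
          exact h a (by rw [h1, one_smul])
        rw [if_neg h3, if_pos h1, if_pos h1, h1, card_fixed_one]; omega
      · rw [if_neg h1, if_neg h1]
        by_cases h3 : g ∈ D
        · rw [if_pos h3]
          have h4 : Nat.card (fixedBy Ω g) = 0 := by
            by_contra h5
            obtain ⟨ω, hω⟩ := card_fixed_pos.2 (Nat.one_le_iff_ne_zero.2 h5)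
            rw [hD, Finset.mem_filter] at h3
            exact h3.2 ω hω
          rw [h4]
        · rw [if_neg h3]
          have h4 : 1 ≤ Nat.card (fixedBy Ω g) := by
            rw [← card_fixed_pos]
            by_contra hcon
            push Not at hcon
            apply h3
            rw [hD, Finset.mem_filter]
            exact ⟨Finset.mem_univ _, hcon⟩
          have := hfix g h1
          omega
    have e2 : ∑ g : G, (Nat.card (fixedBy Ω g) + (if g ∈ D then 1 else 0) + (if g = 1 then 1 else 0)) = ∑ g : G, (1 + (if g = 1 then Nat.card Ω else 0)) :=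
      Finset.sum_congr rfl fun g _ => e1 g
    rw [Finset.sum_add_distrib, Finset.sum_add_distrib, Finset.sum_add_distrib, hsum, Finset.sum_ite_eq' Finset.univ (1 : G), if_pos (Finset.mem_univ _),
      Finset.sum_ite_eq' Finset.univ (1 : G), if_pos (Finset.mem_univ _), Finset.sum_const, Finset.card_univ, smul_eq_mul, mul_one,
      ← Nat.card_eq_fintype_card, Finset.sum_boole, Nat.cast_id] at e2
    have e3 : (Finset.univ.filter fun g : G => g ∈ D) = D := by ext; simp
    rw [e3] at e2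
    omega
  have hstab : Nat.card Ω ≤ Nat.card (stabilizer G a) + 1 := by
    obtain ⟨b, hb⟩ := exists_ne a
    have h3 : Nat.card {c : Ω // c ≠ a} ≤ Nat.card (stabilizer G a) := by
      have h4 : ∀ c : {c : Ω // c ≠ a}, ∃ g : stabilizer G a, (g : G) • b = c := by
        intro c
        obtain ⟨g, hg1, hg2⟩ := h2 a b a c (Ne.symm hb) (Ne.symm c.2)
        exact ⟨⟨g, hg1⟩, hg2⟩
      choose f hf using h4
      apply Nat.card_le_card_of_injective f
      intro c c' h
      apply Subtype.ext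
      rw [← hf c, ← hf c', h]
    have h4 : Nat.card {c : Ω // c ≠ a} + 1 = Nat.card Ω := by
      rw [Nat.card_eq_fintype_card, Nat.card_eq_fintype_card, Fintype.card_subtype_compl, Fintype.card_subtype_eq]
      have : 1 ≤ Fintype.card Ω := Fintype.card_pos
      omega
    omega
  -- the map
  have hmap : ∀ h : stabilizer G a, (h : G) * x * (h : G)⁻¹ ∈ D := by
    intro h
    rw [hD, Finset.mem_filter]
    refine ⟨Finset.mem_univ _, fun ω hω => hx ((h : G)⁻¹ • ω) ?_⟩
    rw [mul_smul, mul_smul] at hω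
    rw [eq_inv_smul_iff]; exact hω
  have hinj : Set.InjOn (fun h : stabilizer G a => (h : G) * x * (h : G)⁻¹) (Finset.univ : Finset (stabilizer G a)) := by
    intro h _ h' _ heq
    have heq' : (h : G) * x * (h : G)⁻¹ = (h' : G) * x * (h' : G)⁻¹ := heq
    by_contra hne
    have hk : (h' : G)⁻¹ * h ≠ 1 := fun hk => hne (Subtype.ext (inv_mul_eq_one.1 hk).symm)
    have hkx : ((h' : G)⁻¹ * h) * x = x * ((h' : G)⁻¹ * h) := by
      calc ((h' : G)⁻¹ * h) * x = (h' : G)⁻¹ * (h * x * (h : G)⁻¹) * h := by group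
        _ = (h' : G)⁻¹ * (h' * x * (h' : G)⁻¹) * h := by rw [heq']
        _ = x * ((h' : G)⁻¹ * h) := by group
    have hka : ((h' : G)⁻¹ * h) • a = a := ((stabilizer G a).mul_mem ((stabilizer G a).inv_mem h'.2) h.2)
    apply hs _ hk a (x • a) (Ne.symm (hx a)) hka
    rw [← mul_smul, hkx, mul_smul, hka]
  have hsurj := Finset.surj_on_of_inj_on_of_card_le (s := (Finset.univ : Finset (stabilizer G a))) (t := D)
    (fun h _ => (h : G) * x * (h : G)⁻¹) (fun h _ => hmap h) (fun h h' hh hh' heq => hinj hh hh' heq) (by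
      rw [Finset.card_univ, ← Nat.card_eq_fintype_card]; omega)
  have hyD : y ∈ D := by rw [hD, Finset.mem_filter]; exact ⟨Finset.mem_univ _, hy⟩
  obtain ⟨h, -, hh⟩ := hsurj y hyD
  exact isConj_iff.2 ⟨h, hh.symm⟩

/-- Let a finite group G act faithfully and primitively on a finite set Ω with at least two points, and suppose G is not almost simple (it has no non-abelian simple normal subgroup with trivial centralizer). Then the derangements of G form a single conjugacy class if and only if G is sharply 2-transitive (2-transitive, and no non-identity element fixes two points). -/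
theorem result {G : Type*} [Group G] [Finite G] {Ω : Type*} [Fintype Ω] [MulAction G Ω] [FaithfulSMul G Ω] (hΩ : 2 ≤ Fintype.card Ω) (hprim : MulAction.IsPreprimitive G Ω) (hnas : ¬ ∃ T : Subgroup G, T.Normal ∧ IsSimpleGroup T ∧ ¬ IsMulCommutative T ∧ Subgroup.centralizer (T : Set G) = ⊥) :
    Nat.card {c : ConjClasses G // ∃ g : G, ConjClasses.mk g = c ∧ ∀ ω : Ω, g • ω ≠ ω} = 1 ↔ (MulAction.IsMultiplyPretransitive G Ω 2 ∧ ∀ g : G, g ≠ 1 → ∀ a b : Ω, a ≠ b → g • a = a → g • b ≠ b) := by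
  classical
  have hΩ' : 2 ≤ Nat.card Ω := by rw [Nat.card_eq_fintype_card]; exact hΩ
  constructor
  · intro h
    apply forward hΩ' hprim hnas
    intro x y hx hy
    rw [Nat.card_eq_one_iff_unique] at h
    obtain ⟨hsub, -⟩ := h
    have h1 : (⟨ConjClasses.mk x, x, rfl, hx⟩ : {c : ConjClasses G // ∃ g : G, ConjClasses.mk g = c ∧ ∀ ω : Ω, g • ω ≠ ω}) =
      ⟨ConjClasses.mk y, y, rfl, hy⟩ := Subsingleton.elim _ _
    exact ConjClasses.mk_eq_mk_iff_isConj.1 (congrArg Subtype.val h1)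
  · rintro ⟨h2, hs⟩
    rw [MulAction.is_two_pretransitive_iff] at h2
    obtain ⟨⟨d, hd⟩, hc⟩ := backward hΩ' (fun a b c d h3 h4 => h2 h3 h4) hs
    rw [Nat.card_eq_one_iff_unique]
    refine ⟨⟨?_⟩, ⟨⟨ConjClasses.mk d, d, rfl, hd⟩⟩⟩
    rintro ⟨_, x, rfl, hx⟩ ⟨_, y, rfl, hy⟩
    apply Subtype.ext
    exact ConjClasses.mk_eq_mk_iff_isConj.2 (hc x y hx hy)

end Cfsg.Agent.S3501
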