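import Cfsg.Statements.S3520
import Mathlib
import Cfsg.Agent.LibH14Prim
import Cfsg.Agent.LibFgOrd2
-- import your own Cfsg.Agent.* helpers here

set_option autoImplicit false
open Cfsg

namespace Cfsg.Agent.S3520

open MulAction CfsgLib.SolvMin CfsgLib.H14MinNorm CfsgLib.H14Prim
open scoped Pointwise

section
variable {G Ω : Type*} [Group G] [MulAction G Ω]

/-- centraliser count inside N -/
noncomputable def cn (N : Subgroup G) (x : G) : ℕ := Nat.card {n : G // n ∈ N ∧ n * x = x * n}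

theorem cn_conj (N : Subgroup G) [hN : N.Normal] {x y : G} (h : IsConj x y) : cn N x = cn N y := by
  obtain ⟨g, hg⟩ := isConj_iff.mp h
  subst hg
  refine Nat.card_congr ⟨fun n => ⟨g * n.1 * g⁻¹, hN.conj_mem _ n.2.1 g, ?_⟩,
    fun n => ⟨g⁻¹ * n.1 * g, by simpa using hN.conj_mem _ n.2.1 g⁻¹, ?_⟩, ?_, ?_⟩
  · have := n.2.2
    calc g * n.1 * g⁻¹ * (g * x * g⁻¹) = g * (n.1 * x) * g⁻¹ := by group
      _ = g * (x * n.1) * g⁻¹ := by rw [this]
      _ = g * x * g⁻¹ * (g * n.1 * g⁻¹) := by group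
  · have := n.2.2
    calc g⁻¹ * n.1 * g * x = g⁻¹ * (n.1 * (g * x * g⁻¹)) * g := by group
      _ = g⁻¹ * (g * x * g⁻¹ * n.1) * g := by rw [this]
      _ = x * (g⁻¹ * n.1 * g) := by group
  · intro n; ext; simp [mul_assoc]
  · intro n; ext; simp [mul_assoc]

theorem orderOf_conj' {x y : G} (h : IsConj x y) : orderOf x = orderOf y := by
  obtain ⟨g, hg⟩ := isConj_iff.mp h
  rw [← hg, ← MulAut.conj_apply]
  exact (orderOf_injective (MulAut.conj g).toMonoidHom (MulAut.conj g).injective x).symm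

/-- if all nontrivial elements of a group with trivial centre have centralisers of the same order, it is trivial -/
theorem exists_two_cent {C : Type*} [Group C] [Finite C] [Nontrivial C] (hZ : Subgroup.center C = ⊥) :
    ∃ x y : C, x ≠ 1 ∧ y ≠ 1 ∧ Nat.card (Subgroup.centralizer ({x} : Set C)) ≠ Nat.card (Subgroup.centralizer ({y} : Set C)) := by
  classical
  have := Fintype.ofFinite C
  by_contra hcon
  push Not at hcon
  obtain ⟨x0, hx0⟩ := exists_ne (1 : C)
  set m := Nat.card (Subgroup.centralizer ({x0} : Set C)) with hm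
  have hall : ∀ x : C, x ≠ 1 → Nat.card (Subgroup.centralizer ({x} : Set C)) = m := fun x hx => hcon x x0 hx hx0
  have h1 := Group.nat_card_center_add_sum_card_noncenter_eq_card C
  obtain ⟨s, hs⟩ : m ∣ Nat.card C := by rw [hm]; exact Subgroup.card_subgroup_dvd_card _
  have hm0 : 0 < m := Nat.card_pos
  have hcls : ∀ c ∈ ConjClasses.noncenter C, Nat.card c.carrier = s := by
    intro c hc
    obtain ⟨x, rfl⟩ := ConjClasses.mk_surjective c
    have hx : x ≠ 1 := by
      rintro rfl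
      rw [ConjClasses.mem_noncenter] at hc
      have : (ConjClasses.mk (1 : C)).carrier = {1} := by
        ext y
        rw [ConjClasses.mem_carrier_iff_mk_eq, Set.mem_singleton_iff, ConjClasses.mk_eq_mk_iff_isConj, isConj_comm, isConj_one_right]
      rw [this] at hc
      exact Set.not_nontrivial_singleton hc
    have h3 := hall x hx
    have h4 : Nat.card (ConjClasses.mk x).carrier * Nat.card (Subgroup.centralizer ({x} : Set C)) = Nat.card C := by
      have h5 : (ConjClasses.mk x).carrier.ncard = (Subgroup.centralizer ({x} : Set C)).index := by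
        rw [← ConjAct.orbit_eq_carrier_conjClasses, ← MulAction.index_stabilizer]
        exact congrArg Subgroup.index (ConjAct.stabilizer_eq_centralizer x)
      rw [← Nat.card_coe_set_eq] at h5
      rw [h5, mul_comm]
      exact Subgroup.card_mul_index _
    rw [h3, hs] at h4
    exact Nat.eq_of_mul_eq_mul_right hm0 (by rw [h4]; ring)
  have h2 : s ∣ ∑ᶠ x ∈ ConjClasses.noncenter C, Nat.card x.carrier := by
    rw [finsum_mem_eq_finite_toFinset_sum _ (Set.toFinite _)]
    apply Finset.dvd_sum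
    intro c hc
    rw [hcls c ((Set.Finite.mem_toFinset _).mp hc)]
  have h3 : s ∣ 1 := by
    have h4 : s ∣ Nat.card C := ⟨m, by rw [hs]; ring⟩
    rw [hZ] at h1
    rw [← h1] at h4
    have h5 : Nat.card (⊥ : Subgroup C) = 1 := Subgroup.card_bot
    rw [h5] at h4
    exact (Nat.dvd_add_left h2).mp h4
  have h4 : s = 1 := Nat.dvd_one.mp h3
  apply hx0
  have h5 : Nat.card (Subgroup.centralizer ({x0} : Set C)) = Nat.card C := by rw [← hm, hs, h4, mul_one]
  have h6 : Subgroup.centralizer ({x0} : Set C) = ⊤ := Subgroup.eq_top_of_card_eq _ h5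
  have h7 : x0 ∈ Subgroup.center C := by
    rw [Subgroup.mem_center_iff]
    intro g
    have : g ∈ Subgroup.centralizer ({x0} : Set C) := by rw [h6]; trivial
    rw [Subgroup.mem_centralizer_singleton_iff] at this
    exact this
  rw [hZ, Subgroup.mem_bot] at h7
  exact h7

variable (Ω) in
/-- three pairwise non-conjugate derangements -/
def Three (G Ω : Type*) [Group G] [MulAction G Ω] : Prop :=
  ∃ a b c : G, (∀ ω : Ω, a • ω ≠ ω) ∧ (∀ ω : Ω, b • ω ≠ ω) ∧ (∀ ω : Ω, c • ω ≠ ω) ∧
    ¬ IsConj a b ∧ ¬ IsConj a c ∧ ¬ IsConj b c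

theorem three_of_semireg [Finite G] {T : Subgroup G} (hT : IsSimpleGroup T) (hna : ¬ IsMulCommutative T)
    (hsemi : ∀ t ∈ T, t ≠ 1 → ∀ ω : Ω, t • ω ≠ ω) : Three G Ω := by
  have hns : ¬ Group.IsSolvable T := by
    intro h
    apply hna
    exact ⟨⟨IsSimpleGroup.comm_iff_isSolvable.mpr h⟩⟩
  have h3 : 2 < (Nat.card T).primeFactors.card := by
    by_contra hcon
    exact hns (CfsgLib.FgOrd.solvable_of_two (not_lt.mp hcon))
  obtain ⟨p, hp, q, hq, r, hr, hpq, hpr, hqr⟩ := Finset.two_lt_card.mp h3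
  have key : ∀ s ∈ (Nat.card T).primeFactors, ∃ a : G, (∀ ω : Ω, a • ω ≠ ω) ∧ orderOf a = s := by
    intro s hs
    have hsp := Nat.prime_of_mem_primeFactors hs
    have : Fact s.Prime := ⟨hsp⟩
    obtain ⟨x, hx⟩ := exists_prime_orderOf_dvd_card' (G := T) s (Nat.dvd_of_mem_primeFactors hs)
    have hx' : orderOf (x : G) = s := by rw [← hx]; exact Subgroup.orderOf_coe x
    refine ⟨x, hsemi x x.2 ?_, hx'⟩
    intro h1
    rw [h1, orderOf_one] at hx'
    exact hsp.one_lt.ne hx'
  obtain ⟨a, ha, ha'⟩ := key p hp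
  obtain ⟨b, hb, hb'⟩ := key q hq
  obtain ⟨c, hc, hc'⟩ := key r hr
  refine ⟨a, b, c, ha, hb, hc, ?_, ?_, ?_⟩
  · intro h; exact hpq (by rw [← ha', ← hb', orderOf_conj' h])
  · intro h; exact hpr (by rw [← ha', ← hc', orderOf_conj' h])
  · intro h; exact hqr (by rw [← hb', ← hc', orderOf_conj' h])

theorem nonab [Finite G] [FaithfulSMul G Ω] (hprim : IsPreprimitive G Ω) (α : Ω) (N : Subgroup G) (hN : IsMinNormal N)
    (hna : ¬ IsMulCommutative N)
    (hnas : ¬ ∃ T : Subgroup G, T.Normal ∧ IsSimpleGroup T ∧ ¬ IsMulCommutative T ∧ Subgroup.centralizer (T : Set G) = ⊥) :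
    Three G Ω := by
  classical
  have hNn := hN.1
  obtain ⟨T, hT⟩ := exists_factor N hN.2.1
  have hTs := factor_simple hN hT
  have hTc := factor_not_comm hN hna hT
  have hdis := factor_disjoint hN hna hT
  have hcom := commute_cofactor hN.1 hT
  have hmul := exists_mul hN hT
  set C := cofactor T with hC
  have hCN : C ≤ N := cofactor_le hN.1 hT
  by_cases hsemi : ∀ t ∈ T, t ≠ 1 → ∀ ω : Ω, t • ω ≠ ω
  · exact three_of_semireg hTs hTc hsemi
  push Not at hsemi
  obtain ⟨t1, ht1, ht11, ω1, hω1⟩ := hsemi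
  have htrN := normal_transitive hprim N hN.2.1
  -- C nontrivial
  have hCne : C ≠ ⊥ := by
    intro hCb
    have hTN : T = N := by
      apply le_antisymm hT.le
      intro n hn
      obtain ⟨t, ht, m, hm, rfl⟩ := hmul n hn
      rw [hCb, Subgroup.mem_bot] at hm
      rw [hm, mul_one]; exact ht
    apply hnas
    refine ⟨T, hTN ▸ hNn, hTs, hTc, ?_⟩
    by_contra hcb
    have hcn : (Subgroup.centralizer (T : Set G)).Normal := by
      have : T.Normal := hTN ▸ hNn
      infer_instance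
    have htrC := normal_transitive hprim (Subgroup.centralizer (T : Set G)) hcb
    exact ht11 (semiregular_of_commute (Subgroup.centralizer (T : Set G)) T htrC
      (fun c hc n hn => (Subgroup.mem_centralizer_iff.mp hc n hn).symm) t1 ht1 ω1 hω1)
  -- trivial centre of C
  have hZC : Subgroup.center C = ⊥ := by
    rw [eq_bot_iff]
    intro z hz
    rw [Subgroup.mem_bot]
    have hzN : ∀ n ∈ N, n * (z : G) = z * n := by
      intro n hn
      obtain ⟨t, ht, m, hm, rfl⟩ := hmul n hn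
      have h1 := hcom t ht z z.2
      have h2 := congrArg Subtype.val ((Subgroup.mem_center_iff.mp hz) ⟨m, hm⟩)
      change m * (z : G) = z * m at h2
      rw [mul_assoc, h2, ← mul_assoc, h1, mul_assoc]
    by_contra hz1
    have hmin := hN.2.2 (N ⊓ Subgroup.centralizer (N : Set G)) inferInstance inf_le_left
    rcases hmin with h | h
    · have : (z : G) ∈ N ⊓ Subgroup.centralizer (N : Set G) := ⟨hCN z.2, Subgroup.mem_centralizer_iff.mpr hzN⟩
      rw [h, Subgroup.mem_bot] at this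
      exact hz1 (Subtype.ext this)
    · apply hna
      refine ⟨⟨fun a b => Subtype.ext ?_⟩⟩
      have hb : (b : G) ∈ N ⊓ Subgroup.centralizer (N : Set G) := by rw [h]; exact b.2
      exact Subgroup.mem_centralizer_iff.mp hb.2 a a.2
  -- the projection of a point stabiliser
  let R : Subgroup T :=
    { carrier := {t | ∃ c ∈ C, ((t : G) * c) • α = α}
      one_mem' := ⟨1, C.one_mem, by simp⟩
      mul_mem' := by
        rintro a b ⟨c, hc, hca⟩ ⟨d, hd, hdb⟩
        refine ⟨c * d, C.mul_mem hc hd, ?_⟩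
        have : ((a * b : T) : G) * (c * d) = (a : G) * c * ((b : G) * d) := by
          rw [Subgroup.coe_mul, mul_assoc, mul_assoc, ← mul_assoc (b : G) c d, hcom b b.2 c hc, mul_assoc]
        rw [this, mul_smul, hdb, hca]
      inv_mem' := by
        rintro a ⟨c, hc, hca⟩
        refine ⟨c⁻¹, C.inv_mem hc, ?_⟩
        have : ((a⁻¹ : T) : G) * c⁻¹ = ((a : G) * c)⁻¹ := by
          rw [mul_inv_rev, Subgroup.coe_inv]
          exact hcom _ (T.inv_mem a.2) _ (C.inv_mem hc)
        rw [this, inv_smul_eq_iff, hca] }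
  have hRne : R ≠ ⊤ := by
    intro hR
    -- the stabiliser in T is normalised by T and centralised by C
    have hall : ∀ s ∈ T, s • α = α → ∀ n ∈ N, (n * s * n⁻¹) • α = α := by
      intro s hs hsα n hn
      obtain ⟨t, ht, m, hm, rfl⟩ := hmul n hn
      have h1 : (⟨t, ht⟩ : T) ∈ R := by rw [hR]; trivial
      obtain ⟨c, hc, hca⟩ := h1
      change (t * c) • α = α at hca
      have h2 : t * m * s * (t * m)⁻¹ = (t * c) * s * (t * c)⁻¹ := by
        have e1 : m * s = s * m := (hcom s hs m hm).symm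
        have e2 : c * s = s * c := (hcom s hs c hc).symm
        calc t * m * s * (t * m)⁻¹ = t * (m * s) * (m⁻¹ * t⁻¹) := by group
          _ = t * (s * m) * (m⁻¹ * t⁻¹) := by rw [e1]
          _ = t * s * t⁻¹ := by group
          _ = t * (s * c) * (c⁻¹ * t⁻¹) := by group
          _ = t * (c * s) * (c⁻¹ * t⁻¹) := by rw [e2]
          _ = (t * c) * s * (t * c)⁻¹ := by group
      have h3 : (t * c)⁻¹ • α = α := by rw [inv_smul_eq_iff, hca]
      rw [h2, mul_smul, mul_smul, h3, hsα, hca]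
    -- t1 conjugated to fix α
    obtain ⟨n, hn⟩ := htrN.exists_smul_eq ω1 α
    have hn' : (n : G) • ω1 = α := hn
    have h1 : ((n : G) * t1 * (n : G)⁻¹) • α = α := by
      have : (n : G)⁻¹ • α = ω1 := by rw [inv_smul_eq_iff, hn']
      rw [mul_smul, mul_smul, this, hω1, hn']
    have h2 : (n : G) * t1 * (n : G)⁻¹ ∈ T := hT.inv n n.2 t1 ht1
    have h3 : ∀ ω : Ω, ((n : G) * t1 * (n : G)⁻¹) • ω = ω := by
      intro ω
      obtain ⟨k, hk⟩ := htrN.exists_smul_eq α ω
      have hk' : (k : G) • α = ω := hk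
      have h4 := hall _ h2 h1 (k : G)⁻¹ (N.inv_mem k.2)
      rw [inv_inv, mul_smul, mul_smul, inv_smul_eq_iff, hk'] at h4
      exact h4
    have h4 : (n : G) * t1 * (n : G)⁻¹ = 1 := by
      apply eq_of_smul_eq_smul (α := Ω)
      intro ω
      rw [h3, one_smul]
    apply ht11
    rw [mul_inv_eq_one] at h4
    exact mul_left_cancel (h4.trans (mul_one _).symm)
  obtain ⟨t0, ht0⟩ := exists_not_conj R hRne
  have hder : ∀ c ∈ C, ∀ ω : Ω, ((t0 : G) * c) • ω ≠ ω := by
    intro c hc ω hω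
    obtain ⟨n, hn⟩ := htrN.exists_smul_eq α ω
    have hn' : (n : G) • α = ω := hn
    obtain ⟨t, ht, m, hm, hnm⟩ := hmul n n.2
    apply ht0 ⟨t, ht⟩
    refine ⟨m⁻¹ * c * m, C.mul_mem (C.mul_mem (C.inv_mem hm) hc) hm, ?_⟩
    have e : (((⟨t, ht⟩ : T)⁻¹ * t0 * ⟨t, ht⟩ : T) : G) * (m⁻¹ * c * m) = (t * m)⁻¹ * ((t0 : G) * c) * (t * m) := by
      change t⁻¹ * (t0 : G) * t * (m⁻¹ * c * m) = _
      have e0 : t⁻¹ * (t0 : G) * t ∈ T := T.mul_mem (T.mul_mem (T.inv_mem ht) t0.2) ht
      have e1 := hcom _ e0 (m⁻¹) (C.inv_mem hm)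
      have e2 := hcom t ht c hc
      calc t⁻¹ * (t0 : G) * t * (m⁻¹ * c * m) = (t⁻¹ * (t0 : G) * t * m⁻¹) * c * m := by group
        _ = (m⁻¹ * (t⁻¹ * (t0 : G) * t)) * c * m := by rw [e1]
        _ = m⁻¹ * t⁻¹ * (t0 : G) * (t * c) * m := by group
        _ = m⁻¹ * t⁻¹ * (t0 : G) * (c * t) * m := by rw [e2]
        _ = (t * m)⁻¹ * ((t0 : G) * c) * (t * m) := by group
    rw [e, ← hnm, mul_smul, mul_smul, hn', hω, inv_smul_eq_iff, hn']
  -- counting centralisers
  have hcnt : ∀ c : C, cn N ((t0 : G) * c) = Nat.card {t : G // t ∈ T ∧ t * t0 = t0 * t} *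
      Nat.card (Subgroup.centralizer ({c} : Set C)) := by
    intro c
    rw [← Nat.card_prod]
    symm
    refine Nat.card_congr (Equiv.ofBijective (fun x : {t : G // t ∈ T ∧ t * t0 = t0 * t} × (Subgroup.centralizer ({c} : Set C)) =>
      (⟨x.1.1 * ((x.2.1 : C) : G), N.mul_mem (hT.le x.1.2.1) (hCN x.2.1.2), ?_⟩ : {n : G // n ∈ N ∧ n * ((t0 : G) * c) = (t0 : G) * c * n})) ⟨?_, ?_⟩)
    · have h1 := x.1.2.2
      have h2 : ((x.2.1 : C) : G) * (c : G) = (c : G) * ((x.2.1 : C) : G) :=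
        congrArg Subtype.val (Subgroup.mem_centralizer_singleton_iff.mp x.2.2)
      have h3 := hcom (t0 : G) t0.2 ((x.2.1 : C) : G) x.2.1.2
      have h4 := hcom x.1.1 x.1.2.1 (c : G) c.2
      calc x.1.1 * ((x.2.1 : C) : G) * ((t0 : G) * c) = x.1.1 * (((x.2.1 : C) : G) * t0) * c := by group
        _ = x.1.1 * (t0 * ((x.2.1 : C) : G)) * c := by rw [h3]
        _ = (x.1.1 * t0) * (((x.2.1 : C) : G) * c) := by group
        _ = (t0 * x.1.1) * (c * ((x.2.1 : C) : G)) := by rw [h1, h2]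
        _ = t0 * (x.1.1 * c) * ((x.2.1 : C) : G) := by group
        _ = t0 * (c * x.1.1) * ((x.2.1 : C) : G) := by rw [h4]
        _ = _ := by group
    · intro x y hxy
      have h1 : x.1.1 * ((x.2.1 : C) : G) = y.1.1 * ((y.2.1 : C) : G) := congrArg Subtype.val hxy
      have h2 : y.1.1⁻¹ * x.1.1 = ((y.2.1 : C) : G) * ((x.2.1 : C) : G)⁻¹ := by
        rw [inv_mul_eq_iff_eq_mul, ← mul_assoc, eq_mul_inv_iff_mul_eq, h1]
      have h3 : y.1.1⁻¹ * x.1.1 ∈ T ⊓ C := ⟨T.mul_mem (T.inv_mem y.1.2.1) x.1.2.1, by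
        rw [h2]; exact C.mul_mem y.2.1.2 (C.inv_mem x.2.1.2)⟩
      rw [hdis, Subgroup.mem_bot] at h3
      have h4 : x.1.1 = y.1.1 := by rw [inv_mul_eq_one] at h3; exact h3.symm
      rw [h4] at h1
      have h5 := mul_left_cancel h1
      exact Prod.ext (Subtype.ext h4) (Subtype.ext (Subtype.ext h5))
    · rintro ⟨n, hn, hnc⟩
      obtain ⟨t, ht, m, hm, rfl⟩ := hmul n hn
      -- [t,t0] = [m,c] trivial
      have h3 := hcom (t0 : G) t0.2 m hm
      have h4 := hcom t ht (c : G) c.2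
      have h5 : t * t0 * (m * c) = t0 * t * (c * m) := by
        calc t * t0 * (m * c) = t * (t0 * m) * c := by group
          _ = t * (m * t0) * c := by rw [h3]
          _ = t * m * (t0 * c) := by group
          _ = t0 * c * (t * m) := hnc
          _ = t0 * (c * t) * m := by group
          _ = t0 * (t * c) * m := by rw [h4]
          _ = _ := by group
      have h6 : (t0 * t : G)⁻¹ * (t * t0) = (c * m) * (m * c)⁻¹ := by
        rw [inv_mul_eq_iff_eq_mul, ← mul_assoc, eq_mul_inv_iff_mul_eq, h5]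
      have h7 : (t0 * t : G)⁻¹ * (t * t0) ∈ T ⊓ C := ⟨T.mul_mem (T.inv_mem (T.mul_mem t0.2 ht)) (T.mul_mem ht t0.2), by
        rw [h6]; exact C.mul_mem (C.mul_mem c.2 hm) (C.inv_mem (C.mul_mem hm c.2))⟩
      rw [hdis, Subgroup.mem_bot] at h7
      have h8 : t * t0 = t0 * t := by rw [inv_mul_eq_one] at h7; exact h7.symm
      have h9 : m * c = c * m := by
        rw [h7] at h6
        exact (mul_inv_eq_one.mp h6.symm).symm
      refine ⟨(⟨t, ht, h8⟩, ⟨⟨m, hm⟩, Subgroup.mem_centralizer_singleton_iff.mpr (Subtype.ext h9)⟩), rfl⟩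
  have hCnt : Nontrivial C := (Subgroup.nontrivial_iff_ne_bot C).mpr hCne
  obtain ⟨x, y, hx, hy, hxy⟩ := exists_two_cent hZC
  have hpos : 0 < Nat.card {t : G // t ∈ T ∧ t * t0 = t0 * t} := by
    have : Nonempty {t : G // t ∈ T ∧ t * t0 = t0 * t} := ⟨⟨1, T.one_mem, by simp⟩⟩
    exact Nat.card_pos
  have hne1 : ∀ x : C, x ≠ 1 → Nat.card (Subgroup.centralizer ({(1 : C)} : Set C)) ≠ Nat.card (Subgroup.centralizer ({x} : Set C)) := by
    intro x hx h
    apply hx
    have h1 : Subgroup.centralizer ({(1 : C)} : Set C) = ⊤ := by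
      rw [eq_top_iff]
      intro g _
      rw [Subgroup.mem_centralizer_singleton_iff, mul_one, one_mul]
    rw [h1, Subgroup.card_top] at h
    have h6 : Subgroup.centralizer ({x} : Set C) = ⊤ := Subgroup.eq_top_of_card_eq _ h.symm
    have h7 : x ∈ Subgroup.center C := by
      rw [Subgroup.mem_center_iff]
      intro g
      have : g ∈ Subgroup.centralizer ({x} : Set C) := by rw [h6]; trivial
      rw [Subgroup.mem_centralizer_singleton_iff] at this
      exact this
    rw [hZC, Subgroup.mem_bot] at h7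
    exact h7
  have hfin : ∀ c d : C, Nat.card (Subgroup.centralizer ({c} : Set C)) ≠ Nat.card (Subgroup.centralizer ({d} : Set C)) →
      ¬ IsConj ((t0 : G) * c) ((t0 : G) * d) := by
    intro c d hcd hconj
    apply hcd
    have h1 := cn_conj N hconj
    rw [hcnt, hcnt] at h1
    exact Nat.eq_of_mul_eq_mul_left hpos h1
  exact ⟨(t0 : G) * (1 : C), (t0 : G) * x, (t0 : G) * y, hder _ (1 : C).2, hder _ x.2, hder _ y.2,
    hfin 1 x (hne1 x hx), hfin 1 y (hne1 y hy), hfin x y hxy⟩

end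

/-- Let a finite group G act faithfully and primitively on a finite set Ω with at least two points, suppose G is not almost simple (no non-abelian simple normal subgroup with trivial centralizer), and suppose the derangements of G form exactly two conjugacy classes. Then either Ω has 3 points and G has order 3; or G has a non-trivial abelian normal subgroup N acting regularly, every non-identity element of G fixes at most one point (so, when n > 3, G is a Frobenius group with kernel N), the number n of points is odd and a point stabilizer has order (n − 1)/2; or G is 2-transitive with a non-trivial abelian regular normal subgroup and some non-identity element fixes at least two points (a non-Frobenius 2-transitive affine group). -/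
theorem result {G : Type*} [Group G] [Finite G] {Ω : Type*} [Fintype Ω] [MulAction G Ω] [FaithfulSMul G Ω] (hΩ : 2 ≤ Fintype.card Ω) (hprim : MulAction.IsPreprimitive G Ω) (hnas : ¬ ∃ T : Subgroup G, T.Normal ∧ IsSimpleGroup T ∧ ¬ IsMulCommutative T ∧ Subgroup.centralizer (T : Set G) = ⊥)
    (hκ : Nat.card {c : ConjClasses G // ∃ g : G, ConjClasses.mk g = c ∧ ∀ ω : Ω, g • ω ≠ ω} = 2) (α : Ω) :
    (Fintype.card Ω = 3 ∧ Nat.card G = 3) ∨
    ((∃ N : Subgroup G, N.Normal ∧ N ≠ ⊥ ∧ IsMulCommutative N ∧ ∀ ω : Ω, MulAction.stabilizer N ω = ⊥) ∧ (∀ g : G, g ≠ 1 → Nat.card (MulAction.fixedBy Ω g) ≤ 1) ∧ ¬ 2 ∣ Fintype.card Ω ∧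
        2 * Nat.card (MulAction.stabilizer G α) = Fintype.card Ω - 1) ∨
    ((∃ N : Subgroup G, N.Normal ∧ N ≠ ⊥ ∧ IsMulCommutative N ∧ ∀ ω : Ω, MulAction.stabilizer N ω = ⊥) ∧ MulAction.IsMultiplyPretransitive G Ω 2 ∧ ∃ g : G, g ≠ 1 ∧ 2 ≤ Nat.card (MulAction.fixedBy Ω g)) := by
  classical
  have hG : Nontrivial G := by
    by_contra hcon
    rw [not_nontrivial_iff_subsingleton] at hcon
    obtain ⟨a, b, hab⟩ := Fintype.exists_pair_of_one_lt_card (show 1 < Fintype.card Ω by omega)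
    obtain ⟨g, hg⟩ := hprim.toIsPretransitive.exists_smul_eq a b
    apply hab
    rw [← hg, Subsingleton.elim g 1, one_smul]
  obtain ⟨N, hN⟩ := exists_isMinNormal (G := G)
  have hNn := hN.1
  -- lemma three
  have hthree : ¬ Three G Ω := by
    rintro ⟨a, b, c, ha, hb, hc, hab, hac, hbc⟩
    obtain ⟨x, y, hxy, huniv⟩ := Nat.card_eq_two_iff.mp hκ
    let A : {c : ConjClasses G // ∃ g : G, ConjClasses.mk g = c ∧ ∀ ω : Ω, g • ω ≠ ω} := ⟨ConjClasses.mk a, a, rfl, ha⟩
    let B : {c : ConjClasses G // ∃ g : G, ConjClasses.mk g = c ∧ ∀ ω : Ω, g • ω ≠ ω} := ⟨ConjClasses.mk b, b, rfl, hb⟩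
    let D : {c : ConjClasses G // ∃ g : G, ConjClasses.mk g = c ∧ ∀ ω : Ω, g • ω ≠ ω} := ⟨ConjClasses.mk c, c, rfl, hc⟩
    have hAB : A ≠ B := fun h => hab (ConjClasses.mk_eq_mk_iff_isConj.mp (congrArg Subtype.val h))
    have hAD : A ≠ D := fun h => hac (ConjClasses.mk_eq_mk_iff_isConj.mp (congrArg Subtype.val h))
    have hBD : B ≠ D := fun h => hbc (ConjClasses.mk_eq_mk_iff_isConj.mp (congrArg Subtype.val h))
    have h1 : A ∈ ({x, y} : Set _) := by rw [huniv]; trivial
    have h2 : B ∈ ({x, y} : Set _) := by rw [huniv]; trivial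
    have h3 : D ∈ ({x, y} : Set _) := by rw [huniv]; trivial
    rcases h1 with h1 | h1 <;> rcases h2 with h2 | h2 <;> rcases h3 with h3 | h3 <;>
      first
      | exact hAB (h1.trans h2.symm)
      | exact hAD (h1.trans h3.symm)
      | exact hBD (h2.trans h3.symm)
  have htwo : ∃ a b : G, (∀ ω : Ω, a • ω ≠ ω) ∧ (∀ ω : Ω, b • ω ≠ ω) ∧ ¬ IsConj a b := by
    obtain ⟨⟨_, a, rfl, ha⟩, ⟨_, b, rfl, hb⟩, hxy, -⟩ := Nat.card_eq_two_iff.mp hκ
    refine ⟨a, b, ha, hb, fun h => hxy ?_⟩
    exact Subtype.ext (ConjClasses.mk_eq_mk_iff_isConj.mpr h)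
  by_cases hab : IsMulCommutative N
  swap
  · exact absurd (nonab hprim α N hN hab hnas) hthree
  obtain ⟨-, htrN, hreg⟩ := abelian_case hprim N hN hab
  have hcommN : ∀ a ∈ N, ∀ b ∈ N, a * b = b * a := fun a ha b hb =>
    congrArg Subtype.val (hab.is_comm.comm (⟨a, ha⟩ : N) ⟨b, hb⟩)
  have hregN : ∀ n ∈ N, ∀ ω : Ω, n • ω = ω → n = 1 := fun n hn ω => (stabilizer_eq_bot_iff N ω).mp (hreg ω) n hn
  have hopt : ∃ N : Subgroup G, N.Normal ∧ N ≠ ⊥ ∧ IsMulCommutative N ∧ ∀ ω : Ω, MulAction.stabilizer N ω = ⊥ :=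
    ⟨N, hNn, hN.2.1, hab, hreg⟩
  -- decomposition g = n h
  have hdec : ∀ g : G, ∃ n ∈ N, ∃ h : G, h • α = α ∧ g = n * h := by
    intro g
    obtain ⟨n, hn⟩ := htrN.exists_smul_eq α (g • α)
    have hn' : (n : G) • α = g • α := hn
    refine ⟨n, n.2, (n : G)⁻¹ * g, ?_, by group⟩
    rw [mul_smul, ← hn', inv_smul_smul]
  -- fixed points of n h
  have hfix : ∀ h : G, h • α = α → ∀ n ∈ N, (∃ ω : Ω, (n * h) • ω = ω) → ∃ x ∈ N, x * (h * x⁻¹ * h⁻¹) = n := by
    rintro h hh n hn ⟨ω, hω⟩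
    obtain ⟨x, hx⟩ := htrN.exists_smul_eq α ω
    have hx' : (x : G) • α = ω := hx
    refine ⟨x, x.2, ?_⟩
    have hm : (x : G)⁻¹ * n * (h * x * h⁻¹) ∈ N := N.mul_mem (N.mul_mem (N.inv_mem x.2) hn) (hNn.conj_mem _ x.2 h)
    have h1 : ((x : G)⁻¹ * n * (h * x * h⁻¹)) • α = α := by
      have e : (x : G)⁻¹ * n * (h * x * h⁻¹) = (x : G)⁻¹ * ((n * h) * (x * h⁻¹)) := by group
      have e2 : h⁻¹ • α = α := by rw [inv_smul_eq_iff, hh]
      rw [e, mul_smul, mul_smul, mul_smul (x : G), e2, hx', hω, ← hx', inv_smul_smul]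
    have h2 := hregN _ hm α h1
    have h3 : n = x * (h * x * h⁻¹)⁻¹ := by
      have h4 := mul_eq_one_iff_eq_inv.mp h2
      exact inv_mul_eq_iff_eq_mul.mp h4
    rw [h3]; group
  have hfix' : ∀ h : G, h • α = α → ∀ x ∈ N, (x * (h * x⁻¹ * h⁻¹) * h) • (x • α) = x • α := by
    intro h hh x hx
    rw [← mul_smul]
    have e : x * (h * x⁻¹ * h⁻¹) * h * x = x * h := by group
    rw [e, mul_smul, hh]
  -- the map φ_h
  have hφ : ∀ h : G, h • α = α → ((∀ n ∈ N, ∃ x ∈ N, x * (h * x⁻¹ * h⁻¹) = n) ↔ (∀ x ∈ N, h * x = x * h → x = 1)) := by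
    intro h hh
    let φ : N → N := fun x => ⟨x * (h * (x : G)⁻¹ * h⁻¹), N.mul_mem x.2 (hNn.conj_mem _ (N.inv_mem x.2) h)⟩
    have hinj : Function.Injective φ ↔ (∀ x ∈ N, h * x = x * h → x = 1) := by
      constructor
      · intro hi x hx hc
        have : (⟨x, hx⟩ : N) = 1 := by
          apply hi
          apply Subtype.ext
          change x * (h * x⁻¹ * h⁻¹) = (1 : G) * (h * (1 : G)⁻¹ * h⁻¹)
          have h2 : x⁻¹ * h⁻¹ = h⁻¹ * x⁻¹ := by rw [← mul_inv_rev, ← mul_inv_rev, hc]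
          rw [mul_assoc h, h2]; group
        exact congrArg Subtype.val this
      · intro hc x y hxy
        have h1 : (x : G) * (h * (x : G)⁻¹ * h⁻¹) = (y : G) * (h * (y : G)⁻¹ * h⁻¹) := congrArg Subtype.val hxy
        have h2 : (y : G)⁻¹ * x = 1 := by
          apply hc _ (N.mul_mem (N.inv_mem y.2) x.2)
          have h3 : (y : G)⁻¹ * x = (h * (y : G)⁻¹ * h⁻¹) * (h * (x : G)⁻¹ * h⁻¹)⁻¹ := by
            rw [inv_mul_eq_iff_eq_mul, ← mul_assoc, eq_mul_inv_iff_mul_eq, h1]
          have h4 : (h * (y : G)⁻¹ * h⁻¹) * (h * (x : G)⁻¹ * h⁻¹)⁻¹ = h * ((y : G)⁻¹ * x) * h⁻¹ := by group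
          rw [h4] at h3
          calc h * ((y : G)⁻¹ * x) = h * ((y : G)⁻¹ * x) * h⁻¹ * h := by group
            _ = (y : G)⁻¹ * x * h := by rw [← h3]
        apply Subtype.ext
        rw [inv_mul_eq_one] at h2
        exact h2.symm
    rw [← hinj, Finite.injective_iff_surjective]
    constructor
    · intro hs n
      obtain ⟨x, hx, hxn⟩ := hs n n.2
      exact ⟨⟨x, hx⟩, Subtype.ext hxn⟩
    · intro hs n hn
      obtain ⟨x, hx⟩ := hs ⟨n, hn⟩
      exact ⟨x, x.2, congrArg Subtype.val hx⟩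
  have hderN : ∀ n ∈ N, n ≠ 1 → ∀ ω : Ω, n • ω ≠ ω := fun n hn hn1 ω hω => hn1 (hregN n hn ω hω)
  -- conj of N elements by the stabiliser
  have hconjH : ∀ n ∈ N, ∀ m ∈ N, IsConj n m → ∃ h : G, h • α = α ∧ h * n * h⁻¹ = m := by
    intro n hn m hm hc
    obtain ⟨g, hg⟩ := isConj_iff.mp hc
    obtain ⟨x, hx, h, hh, rfl⟩ := hdec g
    refine ⟨h, hh, ?_⟩
    have h1 := hcommN x hx _ (hNn.conj_mem n hn h)
    rw [← hg]
    calc h * n * h⁻¹ = h * n * h⁻¹ * x * x⁻¹ := by group
      _ = x * (h * n * h⁻¹) * x⁻¹ := by rw [h1]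
      _ = _ := by group
  have hsemi_fix : (∀ h : G, h • α = α → h ≠ 1 → ∀ x ∈ N, h * x = x * h → x = 1) →
      ∀ g : G, g ≠ 1 → Nat.card (MulAction.fixedBy Ω g) ≤ 1 := by
    intro hH g hg
    rw [Finite.card_le_one_iff_subsingleton]
    refine ⟨fun a b => ?_⟩
    obtain ⟨k, hk⟩ := htrN.exists_smul_eq (a : Ω) α
    have hk' : (k : G) • (a : Ω) = α := hk
    obtain ⟨x, hx⟩ := htrN.exists_smul_eq α ((k : G) • (b : Ω))
    have hx' : (x : G) • α = (k : G) • (b : Ω) := hx
    have hkg : ((k : G) * g * (k : G)⁻¹) • α = α := by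
      rw [mul_smul, mul_smul, ← hk', inv_smul_smul, a.2]
    have hkg' : ((k : G) * g * (k : G)⁻¹) • ((x : G) • α) = (x : G) • α := by
      rw [hx', mul_smul, mul_smul, inv_smul_smul, b.2]
    have hne : (k : G) * g * (k : G)⁻¹ ≠ 1 := by
      intro h
      apply hg
      have := congrArg (fun z => (k : G)⁻¹ * z * k) h
      simpa [mul_assoc] using this
    have h1 : (x : G) = 1 := by
      apply hH _ hkg hne x x.2
      set h := (k : G) * g * (k : G)⁻¹ with hh
      have h2 : (x : G)⁻¹ * (h * x * h⁻¹) = 1 := by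
        apply hregN _ (N.mul_mem (N.inv_mem x.2) (hNn.conj_mem _ x.2 h)) α
        have e2 : h⁻¹ • α = α := by rw [inv_smul_eq_iff, hkg]
        rw [mul_smul, mul_smul, mul_smul, e2, hkg', inv_smul_smul]
      rw [inv_mul_eq_one, eq_mul_inv_iff_mul_eq] at h2
      exact h2.symm
    rw [h1, one_smul, ← hk'] at hx'
    exact Subtype.ext (MulAction.injective _ hx')
  by_cases hA1 : ∀ n ∈ N, ∀ m ∈ N, n ≠ 1 → m ≠ 1 → IsConj n m
  · -- 2-transitive
    right; right
    refine ⟨hopt, ?_, ?_⟩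
    · rw [MulAction.is_two_pretransitive_iff]
      have hα : ∀ b d : Ω, b ≠ α → d ≠ α → ∃ h : G, h • α = α ∧ h • b = d := by
        intro b d hb hd
        obtain ⟨n, hn⟩ := htrN.exists_smul_eq α b
        obtain ⟨m, hm⟩ := htrN.exists_smul_eq α d
        have hn' : (n : G) • α = b := hn
        have hm' : (m : G) • α = d := hm
        have hn1 : (n : G) ≠ 1 := by intro h; apply hb; rw [← hn', h, one_smul]
        have hm1 : (m : G) ≠ 1 := by intro h; apply hd; rw [← hm', h, one_smul]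
        obtain ⟨h, hh, hhm⟩ := hconjH n n.2 m m.2 (hA1 n n.2 m m.2 hn1 hm1)
        refine ⟨h, hh, ?_⟩
        have e2 : h⁻¹ • α = α := by rw [inv_smul_eq_iff, hh]
        rw [← hm', ← hhm, mul_smul, mul_smul, e2, hn']
      intro a b c d hab' hcd
      obtain ⟨x, hx⟩ := hprim.toIsPretransitive.exists_smul_eq a α
      obtain ⟨y, hy⟩ := hprim.toIsPretransitive.exists_smul_eq c α
      obtain ⟨h, hh, hh2⟩ := hα (x • b) (y • d) (by rw [← hx]; exact fun h => hab' (MulAction.injective x h).symm)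
        (by rw [← hy]; exact fun h => hcd (MulAction.injective y h).symm)
      refine ⟨y⁻¹ * h * x, ?_, ?_⟩
      · rw [mul_smul, mul_smul, hx, hh, ← hy, inv_smul_smul]
      · rw [mul_smul, mul_smul, hh2, inv_smul_smul]
    · by_contra hcon
      push Not at hcon
      have hH : ∀ h : G, h • α = α → h ≠ 1 → ∀ x ∈ N, h * x = x * h → x = 1 := by
        intro h hh hh1 x hx hc
        by_contra hx1
        have h2 := hcon h hh1
        have h3 : Nat.card (MulAction.fixedBy Ω h) ≤ 1 := by omega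
        rw [Finite.card_le_one_iff_subsingleton] at h3
        have h4 : (⟨α, hh⟩ : MulAction.fixedBy Ω h) = ⟨x • α, by
          rw [MulAction.mem_fixedBy, ← mul_smul, hc, mul_smul, hh]⟩ := Subsingleton.elim _ _
        exact hderN x hx hx1 α (congrArg Subtype.val h4).symm
      have hder : ∀ g : G, (∀ ω : Ω, g • ω ≠ ω) → g ∈ N ∧ g ≠ 1 := by
        intro g hg
        obtain ⟨n, hn, h, hh, rfl⟩ := hdec g
        by_cases hh1 : h = 1
        · rw [hh1, mul_one] at hg ⊢
          exact ⟨hn, fun hn1 => hg α (by rw [hn1, one_smul])⟩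
        · exfalso
          obtain ⟨x, hx, hxn⟩ := (hφ h hh).mpr (hH h hh hh1) n hn
          apply hg (x • α)
          rw [← hxn]
          exact hfix' h hh x hx
      obtain ⟨a, b, ha, hb, hnc⟩ := htwo
      exact hnc (hA1 a (hder a ha).1 b (hder b hb).1 (hder a ha).2 (hder b hb).2)
  · right; left
    push Not at hA1
    obtain ⟨n1, hn1, n2, hn2, hn11, hn21, hnc⟩ := hA1
    have hderN' : ∀ g : G, (∀ ω : Ω, g • ω ≠ ω) → g ∈ N := by
      intro g hg
      by_contra hgN
      apply hthree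
      refine ⟨n1, n2, g, hderN n1 hn1 hn11, hderN n2 hn2 hn21, hg, hnc, ?_, ?_⟩
      · intro h
        obtain ⟨k, hk⟩ := isConj_iff.mp h
        apply hgN
        rw [← hk]; exact hNn.conj_mem _ hn1 k
      · intro h
        obtain ⟨k, hk⟩ := isConj_iff.mp h
        apply hgN
        rw [← hk]; exact hNn.conj_mem _ hn2 k
    have hH : ∀ h : G, h • α = α → h ≠ 1 → ∀ x ∈ N, h * x = x * h → x = 1 := by
      intro h hh hh1
      rw [← hφ h hh]
      intro n hn
      apply hfix h hh n hn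
      by_contra hcon
      push Not at hcon
      have h1 := hderN' (n * h) hcon
      have h2 : h ∈ N := by
        have := N.mul_mem (N.inv_mem hn) h1
        rwa [inv_mul_cancel_left] at this
      exact hh1 (hregN h h2 α hh)
    have hfixle := hsemi_fix hH
    have hcardN : Nat.card N = Fintype.card Ω := by
      rw [← Nat.card_eq_fintype_card]
      refine Nat.card_congr (Equiv.ofBijective (fun n : N => (n : G) • α) ⟨?_, ?_⟩)
      · intro a b hab'
        have h1 : ((b : G)⁻¹ * a) • α = α := by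
          rw [mul_smul, inv_smul_eq_iff]; exact hab'
        have h2 := hregN _ (N.mul_mem (N.inv_mem b.2) a.2) α h1
        rw [inv_mul_eq_one] at h2
        exact Subtype.ext h2.symm
      · intro ω
        obtain ⟨n, hn⟩ := htrN.exists_smul_eq α ω
        exact ⟨n, hn⟩
    -- counting N \ {1}
    have hcount : Nat.card N = 1 + 2 * Nat.card (MulAction.stabilizer G α) := by
      let f : G → MulAction.stabilizer G α → G := fun n h => (h : G) * n * (h : G)⁻¹
      have hinj : ∀ n ∈ N, n ≠ 1 → Function.Injective (f n) := by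
        intro n hn hn1 h k hhk
        have h1 : (h : G) * n * (h : G)⁻¹ = (k : G) * n * (k : G)⁻¹ := hhk
        by_contra hne
        apply hn1
        refine hH ((k : G)⁻¹ * h) ?_ ?_ n hn ?_
        · exact (MulAction.stabilizer G α).mul_mem ((MulAction.stabilizer G α).inv_mem k.2) h.2
        · intro h2
          rw [inv_mul_eq_one] at h2
          exact hne (Subtype.ext h2.symm)
        · calc (k : G)⁻¹ * h * n = (k : G)⁻¹ * ((h : G) * n * (h : G)⁻¹) * h := by group
            _ = (k : G)⁻¹ * ((k : G) * n * (k : G)⁻¹) * h := by rw [h1]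
            _ = n * ((k : G)⁻¹ * h) := by group
      have hset : (N : Set G) = {1} ∪ (Set.range (f n1) ∪ Set.range (f n2)) := by
        ext n
        constructor
        · intro hn
          by_cases hn0 : n = 1
          · left; exact hn0
          right
          by_cases h1 : IsConj n1 n
          · left
            obtain ⟨h, hh, hhn⟩ := hconjH n1 hn1 n hn h1
            exact ⟨⟨h, hh⟩, hhn⟩
          by_cases h2 : IsConj n2 n
          · right
            obtain ⟨h, hh, hhn⟩ := hconjH n2 hn2 n hn h2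
            exact ⟨⟨h, hh⟩, hhn⟩
          exact absurd ⟨n1, n2, n, hderN n1 hn1 hn11, hderN n2 hn2 hn21, hderN n hn hn0, hnc, h1, h2⟩ hthree
        · rintro (h | ⟨h, rfl⟩ | ⟨h, rfl⟩)
          · rw [Set.mem_singleton_iff.mp h]; exact N.one_mem
          · exact hNn.conj_mem _ hn1 _
          · exact hNn.conj_mem _ hn2 _
      have hr : ∀ n ∈ N, n ≠ 1 → (Set.range (f n)).ncard = Nat.card (MulAction.stabilizer G α) := by
        intro n hn hn0
        rw [← Set.image_univ, Set.ncard_image_of_injective _ (hinj n hn hn0), Set.ncard_univ]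
      have hd1 : Disjoint (Set.range (f n1)) (Set.range (f n2)) := by
        rw [Set.disjoint_left]
        rintro _ ⟨h, rfl⟩ ⟨k, hk⟩
        apply hnc
        have h1 : IsConj n1 (f n1 h) := isConj_iff.mpr ⟨h, rfl⟩
        have h2 : IsConj n2 (f n2 k) := isConj_iff.mpr ⟨k, rfl⟩
        rw [hk] at h2
        exact h1.trans h2.symm
      have hd2 : Disjoint ({1} : Set G) (Set.range (f n1) ∪ Set.range (f n2)) := by
        rw [Set.disjoint_left]
        rintro _ h1 h2
        rw [Set.mem_singleton_iff] at h1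
        subst h1
        have hn' : ∀ (n : G) (h : MulAction.stabilizer G α), f n h = 1 → n = 1 := by
          intro n h h3
          have h3' : (h : G) * n * (h : G)⁻¹ = 1 := h3
          rw [mul_inv_eq_one] at h3'
          exact mul_left_cancel (h3'.trans (mul_one _).symm)
        rcases h2 with ⟨h, hh⟩ | ⟨h, hh⟩
        · exact hn11 (hn' _ _ hh)
        · exact hn21 (hn' _ _ hh)
      have h1 : Nat.card N = (N : Set G).ncard := (Nat.card_coe_set_eq _)
      rw [h1, hset, Set.ncard_union_eq hd2 (Set.toFinite _) (Set.toFinite _), Set.ncard_union_eq hd1 (Set.toFinite _) (Set.toFinite _),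
        Set.ncard_singleton, hr n1 hn1 hn11, hr n2 hn2 hn21]
      ring
    refine ⟨hopt, hfixle, ?_, ?_⟩
    · rw [← hcardN, hcount]; omega
    · rw [← hcardN, hcount]; omega

end Cfsg.Agent.S3520
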