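import Cfsg.Statements.S3554
-- import your own Cfsg.Agent.* helpers here

set_option autoImplicit false
open Cfsg

namespace Cfsg.Agent.S3554

/-- Let G act faithfully and transitively on a finite set and suppose G has a non-trivial cyclic normal subgroup. Then some element of G of prime order fixes no point. -/
theorem result {G Ω : Type*} [Group G] [Finite G] [MulAction G Ω] [FaithfulSMul G Ω] [Finite Ω]
    (htrans : MulAction.IsPretransitive G Ω) (C : Subgroup G) (hC : C.Normal) (hC1 : C ≠ ⊥) (hcyc : IsCyclic ↥C) :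
    ∃ g : G, (orderOf g).Prime ∧ ∀ ω : Ω, g • ω ≠ ω := by
  classical
  have hC2 : Nat.card C ≠ 1 := by
    intro h
    exact hC1 (Subgroup.card_eq_one.mp h)
  set p := (Nat.card C).minFac with hp
  have hpp : p.Prime := Nat.minFac_prime hC2
  haveI : Fact p.Prime := ⟨hpp⟩
  obtain ⟨x, hx⟩ := exists_prime_orderOf_dvd_card' (G := C) p (Nat.minFac_dvd _)
  refine ⟨(x : G), ?_, ?_⟩
  · rw [Subgroup.orderOf_coe, hx]; exact hpp
  · intro ω hω
    have hall : ∀ y : Ω, (x : G) • y = y := by
      intro y
      obtain ⟨g, hg⟩ := htrans.exists_smul_eq ω y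
      obtain ⟨m, hm⟩ := MonoidHom.map_cyclic (MulAut.conjNormal (g⁻¹) : C ≃* C).toMonoidHom
      have h1 := congrArg (Subtype.val) (hm x)
      simp only [MulEquiv.toMonoidHom_eq_coe, MonoidHom.coe_coe, MulAut.conjNormal_apply,
        inv_inv, Subgroup.coe_zpow] at h1
      have h2 : ((x : G) ^ m) • ω = ω := by
        have : (x : G) ∈ MulAction.stabilizer G ω := hω
        exact (MulAction.stabilizer G ω).zpow_mem this m
      rw [← h1] at h2
      rw [← hg]
      have : (g⁻¹ * (x : G) * g) • ω = g⁻¹ • ((x : G) • (g • ω)) := by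
        simp [mul_smul]
      rw [this] at h2
      exact inv_smul_eq_iff.mp h2
    have : (x : G) = 1 := by
      apply eq_of_smul_eq_smul (α := Ω)
      intro y; rw [hall y, one_smul]
    have h1 : orderOf x = 1 := by
      rw [← Subgroup.orderOf_coe, this, orderOf_one]
    rw [hx] at h1
    exact hpp.one_lt.ne' h1

end Cfsg.Agent.S3554
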