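import Cfsg.Statements.S3555
import Mathlib
import Cfsg.Agent.LibFrob6

set_option autoImplicit false
open Cfsg

namespace Cfsg.Agent.S3555


open MulAction
open scoped Pointwise

universe u v

section Count
variable {G : Type u} [Group G] [Fintype G] {Ω : Type v} [MulAction G Ω] [Fintype Ω]

theorem sum_fixed (X : Type v) [MulAction G X] [Finite X] :
    ∑ g : G, Nat.card (fixedBy X g) = Nat.card (orbitRel.Quotient G X) * Nat.card G := by
  classical
  haveI := Fintype.ofFinite X
  haveI : Finite (orbitRel.Quotient G X) := inferInstance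
  haveI : Fintype (orbitRel.Quotient G X) := Fintype.ofFinite _
  have h := MulAction.sum_card_fixedBy_eq_card_orbits_mul_card_group (G := G) (X := X)
  rw [Nat.card_eq_fintype_card, Nat.card_eq_fintype_card, ← h]
  exact Finset.sum_congr rfl fun g _ => Nat.card_eq_fintype_card

theorem card_quot_one (X : Type v) [MulAction G X] [IsPretransitive G X] [Nonempty X] : Nat.card (orbitRel.Quotient G X) = 1 := by
  rw [Nat.card_eq_one_iff_unique]
  constructor
  · rw [← pretransitive_iff_subsingleton_quotient]; infer_instance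
  · obtain ⟨y⟩ := (inferInstance : Nonempty X)
    exact ⟨Quotient.mk'' y⟩

theorem sum_one (hne : Nonempty Ω) [IsPretransitive G Ω] : ∑ g : G, Nat.card (fixedBy Ω g) = Nat.card G := by
  classical
  have h1 := sum_fixed (G := G) Ω
  haveI := hne
  rw [card_quot_one, one_mul] at h1
  exact h1

theorem sum_sq_le : ∑ g : G, Nat.card (fixedBy Ω (g * g)) ≤ ∑ g : G, Nat.card (fixedBy Ω g) * Nat.card (fixedBy Ω g) := by
  classical
  have h1 : ∀ g : G, Nat.card (fixedBy Ω (g * g)) = ∑ x : Ω × Ω, if g • x.1 = x.2 ∧ g • x.2 = x.1 then 1 else 0 := by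
    intro g
    rw [Finset.sum_boole, Nat.cast_id, ← Fintype.card_subtype, Nat.card_eq_fintype_card]
    refine Fintype.card_congr ⟨fun a => ⟨(a, g • (a : Ω)), rfl, ?_⟩, fun x => ⟨x.1.1, ?_⟩, fun a => rfl, ?_⟩
    · have := a.2
      rw [mem_fixedBy, mul_smul] at this
      exact this
    · rw [mem_fixedBy, mul_smul, x.2.1, x.2.2]
    · intro x
      apply Subtype.ext
      exact Prod.ext rfl x.2.1
  have h2 : ∀ g : G, Nat.card (fixedBy Ω g) * Nat.card (fixedBy Ω g) = ∑ x : Ω × Ω, if g • x.1 = x.1 ∧ g • x.2 = x.2 then 1 else 0 := by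
    intro g
    rw [Finset.sum_boole, Nat.cast_id, ← Fintype.card_subtype, ← Nat.card_prod, Nat.card_eq_fintype_card]
    exact Fintype.card_congr ⟨fun a => ⟨(a.1, a.2), a.1.2, a.2.2⟩, fun x => (⟨x.1.1, x.2.1⟩, ⟨x.1.2, x.2.2⟩), fun a => rfl, fun x => rfl⟩
  rw [Finset.sum_congr rfl (fun g _ => h1 g), Finset.sum_congr rfl (fun g _ => h2 g), Finset.sum_comm]
  rw [Finset.sum_comm (f := fun (g : G) (x : Ω × Ω) => if g • x.1 = x.1 ∧ g • x.2 = x.2 then 1 else 0)]
  apply Finset.sum_le_sum
  rintro ⟨a, b⟩ _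
  by_cases hex : ∃ h : G, h • a = b ∧ h • b = a
  · obtain ⟨h, h3, h4⟩ := hex
    apply le_of_eq
    refine Fintype.sum_equiv (Equiv.mulLeft h) _ _ ?_
    intro g
    show (if g • a = b ∧ g • b = a then 1 else 0) = if (h * g) • a = a ∧ (h * g) • b = b then 1 else 0
    have e1 : (h * g) • a = a ↔ g • a = b := by
      rw [mul_smul]
      constructor
      · intro h5
        have : h • g • a = h • b := by rw [h5, h4]
        exact smul_left_cancel h this
      · intro h5; rw [h5, h4]
    have e2 : (h * g) • b = b ↔ g • b = a := by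
      rw [mul_smul]
      constructor
      · intro h5
        have : h • g • b = h • a := by rw [h5, h3]
        exact smul_left_cancel h this
      · intro h5; rw [h5, h3]
    simp only [e1, e2]
  · rw [Finset.sum_eq_zero]
    · exact Nat.zero_le _
    · intro g _
      rw [if_neg]
      rintro ⟨h5, h6⟩
      exact hex ⟨g, h5, h6⟩

end Count

theorem key {G : Type u} [Group G] [Finite G] {Ω : Type v} [MulAction G Ω] [FaithfulSMul G Ω] [Finite Ω] (hne : Nonempty Ω)
    (htrans : IsPretransitive G Ω) (hinv : ∀ g : G, (∀ ω : Ω, g • ω ≠ ω) → orderOf g = 2) {g : G} {a b : Ω} (hab : a ≠ b)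
    (ha : g • a = a) (hb : g • b = b) : g = 1 := by
  classical
  haveI := Fintype.ofFinite G
  haveI := Fintype.ofFinite Ω
  obtain ⟨n, hn⟩ : ∃ n : ℕ, n = Nat.card Ω := ⟨_, rfl⟩
  have hn1 : 1 ≤ n := by rw [hn]; exact Nat.card_pos
  obtain ⟨f, hf⟩ : ∃ f : G → ℕ, ∀ g, f g = Nat.card (fixedBy Ω g) := ⟨_, fun g => rfl⟩
  have hfn : ∀ g, f g ≤ n := by
    intro g
    rw [hf, hn]
    exact Nat.card_le_card_of_injective _ Subtype.val_injective
  have hf1 : f 1 = n := by
    rw [hf, hn]
    apply Nat.card_congr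
    refine (Equiv.setCongr ?_).trans (Equiv.Set.univ Ω)
    ext x; simp
  have hf0 : ∀ g, f g = 0 → g * g = 1 := by
    intro g hg
    rw [hf, Nat.card_eq_zero] at hg
    have h1 : ∀ ω : Ω, g • ω ≠ ω := by
      intro ω hω
      rcases hg with h | h
      · exact h.false ⟨ω, hω⟩
      · exact h.not_finite (inferInstance)
    have h2 := hinv g h1
    rw [← pow_two, ← h2]; exact pow_orderOf_eq_one g
  have hfsq : ∀ g, f g ≤ f (g * g) := by
    intro g
    rw [hf, hf]
    have h1 : fixedBy Ω g ⊆ fixedBy Ω (g * g) := by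
      intro ω hω
      rw [mem_fixedBy] at hω ⊢
      rw [mul_smul, hω, hω]
    rw [Nat.card_coe_set_eq, Nat.card_coe_set_eq]
    exact Set.ncard_le_ncard h1 (Set.toFinite _)
  have hs1 : ∑ g : G, (f g : ℤ) = Nat.card G := by
    have h1 := sum_one (G := G) hne
    simp only [← hf] at h1
    exact_mod_cast h1
  have hs2 : ∑ g : G, (f (g * g) : ℤ) ≤ ∑ g : G, (f g : ℤ) * f g := by
    have h1 := sum_sq_le (G := G) (Ω := Ω)
    simp only [← hf] at h1
    exact_mod_cast h1
  -- the pointwise inequality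
  obtain ⟨F, hF⟩ : ∃ F : G → ℤ, ∀ g, F g = ((f g : ℤ) - 1) * (f g - n) - (if f g = 0 then (n : ℤ) else 0) := ⟨_, fun g => rfl⟩
  have hF0 : ∀ g, F g ≤ 0 := by
    intro g
    rw [hF]
    by_cases h : f g = 0
    · rw [if_pos h, h]; push_cast; nlinarith
    · rw [if_neg h, sub_zero]
      have h1 : (1 : ℤ) ≤ f g := by exact_mod_cast Nat.one_le_iff_ne_zero.2 h
      have h2 : (f g : ℤ) ≤ n := by exact_mod_cast hfn g
      nlinarith [mul_nonneg (sub_nonneg.2 h1) (sub_nonneg.2 h2)]
  have hFs : 0 ≤ ∑ g : G, F g := by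
    have h1 : ∑ g : G, F g = ∑ g : G, (f g : ℤ) * f g - ((n : ℤ) + 1) * ∑ g : G, (f g : ℤ) + n * Nat.card G - ∑ g : G, (if f g = 0 then (n : ℤ) else 0) := by
      have h2 : (n : ℤ) * Nat.card G = ∑ g : G, (n : ℤ) := by
        rw [Finset.sum_const, Finset.card_univ, nsmul_eq_mul, Nat.card_eq_fintype_card]; ring
      rw [h2, Finset.mul_sum, ← Finset.sum_sub_distrib, ← Finset.sum_add_distrib, ← Finset.sum_sub_distrib]
      apply Finset.sum_congr rfl
      intro g _
      rw [hF]; ring
    have h2 : ∑ g : G, (f g : ℤ) + ∑ g : G, (if f g = 0 then (n : ℤ) else 0) ≤ ∑ g : G, (f (g * g) : ℤ) := by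
      rw [← Finset.sum_add_distrib]
      apply Finset.sum_le_sum
      intro g _
      by_cases h : f g = 0
      · rw [if_pos h, h, hf0 g h, hf1]; simp
      · rw [if_neg h, add_zero]
        exact_mod_cast hfsq g
    rw [h1, hs1]
    rw [hs1] at h2
    linarith
  have hFz : ∀ g, F g = 0 := by
    have h1 : ∑ g : G, F g = 0 := le_antisymm (Finset.sum_nonpos fun g _ => hF0 g) hFs
    intro g
    exact (Finset.sum_eq_zero_iff_of_nonpos (fun g _ => hF0 g)).1 h1 g (Finset.mem_univ g)
  -- conclusion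
  have h2f : 2 ≤ f g := by
    rw [hf]
    have h3 : ({a, b} : Set Ω) ⊆ fixedBy Ω g := by
      intro x hx
      rcases hx with h | h
      · rw [h]; exact ha
      · rw [Set.mem_singleton_iff.1 h]; exact hb
    have h4 := Set.ncard_le_ncard h3 (Set.toFinite _)
    rw [Set.ncard_pair hab] at h4
    rw [Nat.card_coe_set_eq]; exact h4
  have h5 := hFz g
  rw [hF, if_neg (by omega), sub_zero] at h5
  have h6 : f g = n := by
    rcases mul_eq_zero.1 h5 with h | h <;> omega
  apply FaithfulSMul.eq_of_smul_eq_smul (M := G) (α := Ω)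
  intro ω
  rw [one_smul]
  have h7 : fixedBy Ω g = Set.univ := by
    apply Set.eq_of_subset_of_ncard_le (Set.subset_univ _)
    rw [Set.ncard_univ, ← Nat.card_coe_set_eq, ← hf, h6, hn]
  have h8 : ω ∈ fixedBy Ω g := by rw [h7]; trivial
  exact h8

theorem comm_of_sq {G : Type u} [Group G] {x y : G} (hx : x ^ 2 = 1) (hy : y ^ 2 = 1) (hxy : (x * y) ^ 2 = 1) : x * y = y * x := by
  have h1 : x⁻¹ = x := by rw [inv_eq_iff_mul_eq_one, ← pow_two, hx]
  have h2 : y⁻¹ = y := by rw [inv_eq_iff_mul_eq_one, ← pow_two, hy]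
  have h3 : (x * y)⁻¹ = x * y := by rw [inv_eq_iff_mul_eq_one, ← pow_two, hxy]
  rw [mul_inv_rev, h1, h2] at h3
  exact h3.symm

/-- Let G act faithfully and transitively on a finite set and suppose every element of G fixing no point is an involution. Then either G is an elementary abelian 2-group, or G is a Frobenius group whose Frobenius kernel is an elementary abelian 2-group: G has a Frobenius complement H, and the elements lying in no conjugate of H, together with the identity, pairwise commute and square to the identity. -/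
theorem result {G Ω : Type*} [Group G] [Finite G] [MulAction G Ω] [FaithfulSMul G Ω] [Finite Ω]
    (htrans : MulAction.IsPretransitive G Ω) (hinv : ∀ g : G, (∀ ω : Ω, g • ω ≠ ω) → orderOf g = 2) :
    (IsMulCommutative G ∧ ∀ g : G, g ^ 2 = 1) ∨
    (∃ H : Subgroup G, Cfsg.IsFrobeniusComplement H ∧
      (∀ x ∈ Cfsg.frobeniusKernel H, x ^ 2 = 1) ∧
      ∀ x ∈ Cfsg.frobeniusKernel H, ∀ y ∈ Cfsg.frobeniusKernel H, x * y = y * x) := by
  classical
  have htriv : Subsingleton G → (IsMulCommutative G ∧ ∀ g : G, g ^ 2 = 1) := by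
    intro hs
    exact ⟨⟨⟨fun a b => Subsingleton.elim _ _⟩⟩, fun g => Subsingleton.elim _ _⟩
  by_cases hne : Nonempty Ω
  swap
  · left
    apply htriv
    rw [not_nonempty_iff] at hne
    exact ⟨fun a b => FaithfulSMul.eq_of_smul_eq_smul (M := G) (α := Ω) (fun ω => (hne.false ω).elim)⟩
  obtain ⟨a⟩ := hne
  have hne : Nonempty Ω := ⟨a⟩
  have hord : ∀ g : G, (∀ ω : Ω, g • ω ≠ ω) → g ^ 2 = 1 := by
    intro g hg
    rw [← hinv g hg]; exact pow_orderOf_eq_one g
  by_cases h1 : stabilizer G a = ⊥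
  · left
    have hsq : ∀ g : G, g ^ 2 = 1 := by
      intro g
      by_cases hg : g = 1
      · rw [hg, one_pow]
      · apply hord
        intro ω hω
        apply hg
        obtain ⟨k, hk⟩ := MulAction.exists_smul_eq G a ω
        have h2 : k⁻¹ * g * k ∈ stabilizer G a := by
          rw [mem_stabilizer_iff, mul_smul, mul_smul, hk, hω, ← hk, inv_smul_smul]
        rw [h1, Subgroup.mem_bot] at h2
        have : g = k * (k⁻¹ * g * k) * k⁻¹ := by group
        rw [this, h2]; group
    exact ⟨⟨⟨fun x y => comm_of_sq (hsq x) (hsq y) (hsq _)⟩⟩, hsq⟩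
  by_cases h2 : stabilizer G a = ⊤
  · left
    apply htriv
    have h3 : ∀ ω : Ω, ω = a := by
      intro ω
      obtain ⟨k, hk⟩ := MulAction.exists_smul_eq G a ω
      rw [← hk]
      have : k ∈ stabilizer G a := by rw [h2]; trivial
      exact this
    exact ⟨fun x y => FaithfulSMul.eq_of_smul_eq_smul (M := G) (α := Ω) (fun ω => by rw [h3 (x • ω), h3 (y • ω)])⟩
  right
  have hF : Cfsg.IsFrobeniusComplement (stabilizer G a) := by
    refine ⟨h1, h2, ?_⟩
    intro g hg
    rw [eq_bot_iff]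
    rintro x ⟨hx1, hx2⟩
    rw [Subgroup.mem_bot]
    have hx2' : x ∈ MulAut.conj g • stabilizer G a := hx2
    rw [Subgroup.mem_pointwise_smul_iff_inv_smul_mem, ← map_inv] at hx2'
    have h3 : g⁻¹ * x * g⁻¹⁻¹ ∈ stabilizer G a := hx2'
    rw [inv_inv, mem_stabilizer_iff, mul_smul, mul_smul, inv_smul_eq_iff] at h3
    exact key hne htrans hinv (fun h => hg h.symm) hx1 h3
  have hK : ∀ x ∈ Cfsg.frobeniusKernel (stabilizer G a), x ^ 2 = 1 := by
    intro x hx
    rcases hx with h | h
    · rw [h, one_pow]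
    · apply hord
      intro ω hω
      obtain ⟨k, hk⟩ := MulAction.exists_smul_eq G a ω
      apply h k
      rw [Subgroup.mem_pointwise_smul_iff_inv_smul_mem, ← map_inv]
      show k⁻¹ * x * k⁻¹⁻¹ ∈ stabilizer G a
      rw [inv_inv, mem_stabilizer_iff, mul_smul, mul_smul, hk, hω, ← hk, inv_smul_smul]
  refine ⟨stabilizer G a, hF, hK, ?_⟩
  obtain ⟨K, hKe, -, -⟩ := CfsgLib.Frob6.frobenius_kernel (stabilizer G a) hF.2.2
  intro x hx y hy
  apply comm_of_sq (hK x hx) (hK y hy)
  apply hK
  rw [← hKe] at hx hy ⊢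
  exact mul_mem hx hy

end Cfsg.Agent.S3555
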