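import Cfsg.Statements.S3556
import Cfsg.Agent.LibH14Prim


set_option autoImplicit false
open Cfsg

namespace Cfsg.Agent.S3556

open MulAction CfsgLib.SolvMin CfsgLib.H14MinNorm CfsgLib.H14Prim

theorem pgroup_of {G Ω : Type*} [Group G] [Finite G] [MulAction G Ω] (p : ℕ)
    (hder : ∀ g : G, (∀ ω : Ω, g • ω ≠ ω) → ∃ k : ℕ, orderOf g = p ^ k) (T : Subgroup G)
    (h : ∀ t ∈ T, t ≠ 1 → ∀ ω : Ω, t • ω ≠ ω) : IsPGroup p T := by
  intro t
  by_cases ht : t = 1
  · exact ⟨0, by rw [ht, one_pow]⟩
  · obtain ⟨k, hk⟩ := hder t (h t t.2 (fun hc => ht (Subtype.ext hc)))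
    refine ⟨k, ?_⟩
    rw [Subgroup.orderOf_coe] at hk
    rw [← hk, pow_orderOf_eq_one]


/-- Let G act faithfully and primitively on a finite set with at least two points, and suppose that for some fixed prime p every element of G fixing no point has order a power of p. Then G is of affine type (it has a regular normal subgroup that is an elementary abelian r-group for some prime r) or almost simple (it has a non-abelian simple normal subgroup with trivial centralizer). -/
theorem result {G Ω : Type*} [Group G] [Finite G] [MulAction G Ω] [FaithfulSMul G Ω] [Finite Ω]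
    (hprim : MulAction.IsPreprimitive G Ω) (hΩ : 2 ≤ Nat.card Ω) (p : ℕ) (hp : p.Prime)
    (hder : ∀ g : G, (∀ ω : Ω, g • ω ≠ ω) → ∃ k : ℕ, orderOf g = p ^ k) :
    (∃ (N : Subgroup G) (r : ℕ), r.Prime ∧ N.Normal ∧ Cfsg.IsElementaryAbelian r N ∧
      MulAction.IsPretransitive N Ω ∧ ∀ a : Ω, MulAction.stabilizer N a = ⊥) ∨
    (∃ T : Subgroup G, T.Normal ∧ IsSimpleGroup ↥T ∧ ¬ IsMulCommutative ↥T ∧
      Subgroup.centralizer (T : Set G) = ⊥) := by
  open Pointwise in
  classical
  have hfp : Fact p.Prime := ⟨hp⟩
  have hntO : Nontrivial Ω := Finite.one_lt_card_iff_nontrivial.mp (by omega)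
  have hntG : Nontrivial G := by
    by_contra hc
    rw [not_nontrivial_iff_subsingleton] at hc
    obtain ⟨x, y, hxy⟩ := exists_pair_ne Ω
    obtain ⟨g, hg⟩ := hprim.exists_smul_eq x y
    rw [Subsingleton.elim g 1, one_smul] at hg
    exact hxy hg
  obtain ⟨N, hN⟩ := exists_isMinNormal (G := G)
  have hNn := hN.1
  by_cases hab : IsMulCommutative N
  · obtain ⟨⟨r, hr, hr2⟩, h1, h2⟩ := abelian_case hprim N hN hab
    exact Or.inl ⟨N, r, hr, hNn, ⟨hab, hr2⟩, h1, h2⟩
  · right
    have htr := normal_transitive hprim N hN.2.1
    obtain ⟨T, hT⟩ := exists_factor N hN.2.1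
    have hTs := factor_simple hN hT
    have hTna := factor_not_comm hN hab hT
    have hTp := not_pgroup_of_simple (S := T) hTna p
    -- centralizer trivial
    have hcent : Subgroup.centralizer (N : Set G) = ⊥ := by
      by_contra hc
      have hCt := normal_transitive hprim (Subgroup.centralizer (N : Set G)) hc
      have hsr := semiregular_of_commute (Subgroup.centralizer (N : Set G)) N hCt
        (fun c hc n hn => (Subgroup.mem_centralizer_iff.mp hc n hn).symm)
      apply hTp
      apply pgroup_of p hder T
      intro t ht ht1 ω hω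
      exact ht1 (hsr t (hT.le ht) ω hω)
    by_cases hTN : T = N
    · subst hTN
      exact ⟨T, hNn, hTs, hab, hcent⟩
    · exfalso
      obtain ⟨ω⟩ : Nonempty Ω := inferInstance
      -- the cofactor contains a conjugate of T
      have hM : ∃ g : G, MulAut.conj g • T ≠ T := by
        by_contra hc
        push Not at hc
        apply hTN
        apply le_antisymm hT.le
        refine (le_sup_cofactor hN hT).trans (sup_le le_rfl ?_)
        rw [cofactor, iSup_le_iff]
        rintro ⟨g, hg⟩
        exact absurd (hc g) hg
      obtain ⟨g₀, hg₀⟩ := hM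
      have hle₀ : MulAut.conj g₀ • T ≤ cofactor T :=
        le_iSup (fun g : {g : G // MulAut.conj g • T ≠ T} => MulAut.conj (g : G) • T) ⟨g₀, hg₀⟩
      -- projection of the stabilizer to T
      let R : Subgroup T :=
        { carrier := {t | ∃ m ∈ cofactor T, ((t : G) * m) • ω = ω}
          one_mem' := ⟨1, Subgroup.one_mem _, by simp⟩
          mul_mem' := by
            rintro a b ⟨m, hm, h1⟩ ⟨m', hm', h2⟩
            refine ⟨m * m', Subgroup.mul_mem _ hm hm', ?_⟩
            have hcm := commute_cofactor hNn hT b b.2 m hm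
            have : ((a * b : T) : G) * (m * m') = ((a : G) * m) * ((b : G) * m') := by
              rw [Subgroup.coe_mul, mul_assoc, mul_assoc, ← mul_assoc (b : G) m, hcm, mul_assoc]
            rw [this, mul_smul, h2, h1]
          inv_mem' := by
            rintro a ⟨m, hm, h1⟩
            refine ⟨m⁻¹, Subgroup.inv_mem _ hm, ?_⟩
            have hcm := commute_cofactor hNn hT a a.2 m hm
            have : ((a⁻¹ : T) : G) * m⁻¹ = ((a : G) * m)⁻¹ := by
              rw [hcm, mul_inv_rev, Subgroup.coe_inv]
            rw [this, inv_smul_eq_iff, h1] }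
      by_cases hR : R = ⊤
      · -- T acts semiregularly or trivially
        have hnorm : ∀ t : T, ∀ a ∈ stabilizer T ω, t * a * t⁻¹ ∈ stabilizer T ω := by
          intro t a ha
          have ht : t ∈ R := hR ▸ Subgroup.mem_top t
          obtain ⟨m, hm, h1⟩ := ht
          have hcm := commute_cofactor hNn hT a a.2 m hm
          have ha' : (a : G) • ω = ω := ha
          change ((t * a * t⁻¹ : T) : G) • ω = ω
          have : ((t * a * t⁻¹ : T) : G) = ((t : G) * m) * (a : G) * ((t : G) * m)⁻¹ := by
            have : (m : G) * a * m⁻¹ = a := by rw [← hcm]; group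
            have h3 : ((t : G) * m) * (a : G) * ((t : G) * m)⁻¹ = t * (m * a * m⁻¹) * (t : G)⁻¹ := by group
            rw [h3, this]; rfl
          rw [this, mul_smul, mul_smul, inv_smul_eq_iff.mpr h1.symm, ha', h1]
        have hSn : (stabilizer T ω).Normal := ⟨fun a ha t => hnorm t a ha⟩
        have hall : ∀ y : Ω, ∀ t ∈ T, t • y = y → ∃ s : T, s ∈ stabilizer T ω ∧ (t = 1 ↔ s = 1) := by
          intro y t ht hty
          obtain ⟨n, hn⟩ := htr.exists_smul_eq ω y
          have hn' : (n : G) • ω = y := hn
          refine ⟨⟨(n : G)⁻¹ * t * n, ?_⟩, ?_, ?_⟩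
          · have := hT.inv (n : G)⁻¹ (N.inv_mem n.2) t ht
            simpa using this
          · change ((n : G)⁻¹ * t * n) • ω = ω
            rw [mul_smul, mul_smul, hn', hty, inv_smul_eq_iff, hn']
          · constructor
            · intro h; apply Subtype.ext; simp [h]
            · intro h
              have h' : (n : G)⁻¹ * t * n = 1 := congrArg Subtype.val h
              have : t = n * ((n : G)⁻¹ * t * n) * (n : G)⁻¹ := by group
              rw [this, h']; group
        rcases hTs.eq_bot_or_eq_top_of_normal _ hSn with h | h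
        · apply hTp
          apply pgroup_of p hder T
          intro t ht ht1 y hy
          obtain ⟨s, hs, hs1⟩ := hall y t ht hy
          rw [h, Subgroup.mem_bot] at hs
          exact ht1 (hs1.mpr hs)
        · apply hT.ne
          rw [eq_bot_iff]
          intro t ht
          rw [Subgroup.mem_bot]
          apply eq_of_smul_eq_smul (α := Ω)
          intro y
          rw [one_smul]
          obtain ⟨n, hn⟩ := htr.exists_smul_eq ω y
          have hn' : (n : G) • ω = y := hn
          have h1 : (n : G)⁻¹ * t * n ∈ T := by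
            have := hT.inv (n : G)⁻¹ (N.inv_mem n.2) t ht
            simpa using this
          have h2 : (⟨(n : G)⁻¹ * t * n, h1⟩ : T) ∈ stabilizer T ω := h ▸ Subgroup.mem_top _
          have h3 : ((n : G)⁻¹ * t * n) • ω = ω := h2
          rw [mul_smul, mul_smul, inv_smul_eq_iff, hn'] at h3
          exact h3
      · -- product action type
        obtain ⟨t, ht⟩ := exists_not_conj R hR
        have hder2 : ∀ m ∈ cofactor T, ∀ y : Ω, ((t : G) * m) • y ≠ y := by
          intro m hm y hy
          obtain ⟨n, hn⟩ := htr.exists_smul_eq ω y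
          have hn' : (n : G) • ω = y := hn
          obtain ⟨x, hx, m', hm', hnm⟩ := exists_mul hN hT (n : G) n.2
          apply ht ⟨x, hx⟩
          refine ⟨m'⁻¹ * m * m', Subgroup.mul_mem _ (Subgroup.mul_mem _ (Subgroup.inv_mem _ hm') hm) hm', ?_⟩
          have h1 : ((n : G)⁻¹ * ((t : G) * m) * n) • ω = ω := by
            rw [mul_smul, mul_smul, hn', hy, inv_smul_eq_iff, hn']
          have h2 : (n : G)⁻¹ * ((t : G) * m) * n = x⁻¹ * t * x * (m'⁻¹ * m * m') := by
            rw [hnm]
            have e1 : m' * x = x * m' := (commute_cofactor hNn hT x hx m' hm').symm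
            have e2 : ∀ k ∈ cofactor T, k * (t : G) = t * k := fun k hk =>
              (commute_cofactor hNn hT t t.2 k hk).symm
            have e3 : ∀ k ∈ cofactor T, k * x = x * k := fun k hk =>
              (commute_cofactor hNn hT x hx k hk).symm
            have e4 : ∀ k ∈ cofactor T, k * x⁻¹ = x⁻¹ * k := fun k hk =>
              (commute_cofactor hNn hT x⁻¹ (T.inv_mem hx) k hk).symm
            calc (x * m')⁻¹ * ((t : G) * m) * (x * m')
                = (m'⁻¹ * x⁻¹) * t * (m * x) * m' := by group
              _ = (x⁻¹ * m'⁻¹) * t * (x * m) * m' := by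
                    rw [e4 _ (Subgroup.inv_mem _ hm'), e3 _ hm]
              _ = x⁻¹ * (m'⁻¹ * t) * x * m * m' := by group
              _ = x⁻¹ * (t * m'⁻¹) * x * m * m' := by rw [e2 _ (Subgroup.inv_mem _ hm')]
              _ = x⁻¹ * t * (m'⁻¹ * x) * m * m' := by group
              _ = x⁻¹ * t * (x * m'⁻¹) * m * m' := by rw [e3 _ (Subgroup.inv_mem _ hm')]
              _ = x⁻¹ * t * x * (m'⁻¹ * m * m') := by group
          rw [h2] at h1
          exact h1
        -- t has p-power order
        obtain ⟨k, hk⟩ := hder t (by
          have := hder2 1 (Subgroup.one_mem _)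
          simpa using this)
        -- an element of another prime order in the cofactor
        have hM' : ¬ IsPGroup p (cofactor T) := by
          intro hpM
          have h1 : IsPGroup p (MulAut.conj g₀ • T : Subgroup G) := hpM.to_le hle₀
          apply hTp
          exact h1.of_equiv (Subgroup.equivSMul (MulAut.conj g₀) T).symm
        obtain ⟨m, hmc⟩ : ∃ m : cofactor T, ∀ j : ℕ, m ^ p ^ j ≠ 1 := by
          by_contra hc
          push Not at hc
          exact hM' (fun m => hc m)
        have hco := hder2 m m.2
        obtain ⟨l, hl⟩ := hder ((t : G) * m) hco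
        have hcomm : Commute (t : G) (m : G) := commute_cofactor hNn hT t t.2 m m.2
        apply hmc (l + k)
        apply Subtype.ext
        have h1 : ((t : G) * m) ^ p ^ (l + k) = 1 := by
          rw [pow_add, pow_mul, ← hl, pow_orderOf_eq_one, one_pow]
        rw [hcomm.mul_pow] at h1
        have h2 : (t : G) ^ p ^ (l + k) = 1 := by
          rw [add_comm, pow_add, pow_mul, ← hk, pow_orderOf_eq_one, one_pow]
        rw [h2, one_mul] at h1
        exact h1

end Cfsg.Agent.S3556
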