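import Cfsg.Statements.S3634
import Cfsg.Agent.LibH14Avg


set_option autoImplicit false
open Cfsg

namespace Cfsg.Agent.S3634


open Subgroup CfsgLib.H14Avg

theorem exists_pow_prime {G : Type*} [Group G] {p : ℕ} (hp : p.Prime) {a : G} (ha : a ≠ 1) (hap : ∃ n, a ^ p ^ n = 1) :
    ∃ k : ℕ, orderOf (a ^ k) = p := by
  obtain ⟨n, hn⟩ := hap
  haveI := Fact.mk hp
  obtain ⟨j, hj⟩ := (Nat.dvd_prime_pow hp).mp (orderOf_dvd_of_pow_eq_one hn)
  obtain ⟨hj1, hj2⟩ := hj
  rcases Nat.eq_zero_or_pos j with h0 | h0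
  · rw [h0, pow_zero, orderOf_eq_one_iff] at hj2
    exact absurd hj2 ha
  · refine ⟨p ^ (j - 1), ?_⟩
    apply orderOf_eq_prime
    · rw [← pow_mul, ← pow_succ, Nat.sub_add_cancel h0, ← hj2, pow_orderOf_eq_one]
    · intro h
      have := orderOf_dvd_of_pow_eq_one h
      rw [hj2] at this
      have h3 := Nat.le_of_dvd (pow_pos hp.pos _) this
      have h4 : p ^ (j - 1) < p ^ j := Nat.pow_lt_pow_right hp.one_lt (by omega)
      omega

theorem edge {G : Type*} [Group G] {p q : ℕ} (hp : p.Prime) (hq : q.Prime) (hpq : p ≠ q) {a b : G} (ha : a ≠ 1) (hb : b ≠ 1)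
    (hap : ∃ n, a ^ p ^ n = 1) (hbq : ∃ n, b ^ q ^ n = 1) (hc : a * b = b * a) : ∃ z : G, orderOf z = p * q := by
  obtain ⟨k, hk⟩ := exists_pow_prime hp ha hap
  obtain ⟨l, hl⟩ := exists_pow_prime hq hb hbq
  refine ⟨a ^ k * b ^ l, ?_⟩
  have hc' : Commute (a ^ k) (b ^ l) := Commute.pow_pow hc k l
  rw [hc'.orderOf_mul_eq_mul_orderOf_of_coprime, hk, hl]
  rw [hk, hl]
  exact (Nat.coprime_primes hp hq).mpr hpq

theorem of_pgroup {G : Type*} [Group G] {p : ℕ} {A : Subgroup G} (hA : IsPGroup p A) {a : G} (ha : a ∈ A) : ∃ n, a ^ p ^ n = 1 := by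
  obtain ⟨n, hn⟩ := hA ⟨a, ha⟩
  exact ⟨n, by simpa using congrArg Subtype.val hn⟩

/-- three subgroups configuration -/
theorem config {G : Type*} [Group G] [Finite G] {p q r : ℕ} (hp : p.Prime) (hq : q.Prime) (hr : r.Prime) (hpq : p ≠ q) (hpr : p ≠ r)
    (hqr : q ≠ r) (P Q : Subgroup G) (hP : IsPGroup p P) (hQ : IsPGroup q Q) (hP1 : P ≠ ⊥) (hQ1 : Q ≠ ⊥) (hQP : Q ≤ Subgroup.normalizer (P : Set G))
    {x : G} (hx : orderOf x = r) (hxP : x ∈ Subgroup.normalizer (P : Set G)) (hxQ : x ∈ Subgroup.normalizer (Q : Set G)) :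
    (∃ x : G, orderOf x = p * q) ∨ (∃ x : G, orderOf x = p * r) ∨ (∃ x : G, orderOf x = q * r) := by
  haveI := Fact.mk hp
  haveI := Fact.mk hq
  haveI := Fact.mk hr
  by_contra hcon
  push Not at hcon
  obtain ⟨h1, h2, h3⟩ := hcon
  set V : Subgroup G := (Subgroup.center P).map P.subtype with hV
  have hVP : V ≤ P := by rw [hV]; exact map_subtype_le _
  have hV1 : V ≠ ⊥ := by
    have : Nontrivial (Subgroup.center P) := by
      haveI : Nontrivial P := (Subgroup.nontrivial_iff_ne_bot P).mpr hP1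
      exact hP.center_nontrivial
    intro h
    rw [hV, Subgroup.map_eq_bot_iff_of_injective _ P.subtype_injective] at h
    exact (Subgroup.nontrivial_iff_ne_bot _).mp this h
  have hVab : ∀ a b : V, a * b = b * a := by
    rintro ⟨_, ⟨a, ha, rfl⟩⟩ ⟨_, ⟨b, hb, rfl⟩⟩
    apply Subtype.ext
    show (a : G) * b = b * a
    have := Subgroup.mem_center_iff.mp ha b
    exact (congrArg Subtype.val this).symm
  have hVn : Subgroup.normalizer (P : Set G) ≤ Subgroup.normalizer (V : Set G) := by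
    intro g hg
    have key2 : ∀ g ∈ Subgroup.normalizer (P : Set G), ∀ v ∈ V, g * v * g⁻¹ ∈ V := by
      rintro g hg _ ⟨a, ha, rfl⟩
      have hga : g * (a : G) * g⁻¹ ∈ P := (Subgroup.mem_normalizer_iff.mp hg a).mp a.2
      refine ⟨⟨_, hga⟩, ?_, rfl⟩
      rw [SetLike.mem_coe, Subgroup.mem_center_iff]
      intro b
      have hgb : g⁻¹ * (b : G) * g ∈ P := by
        have := (Subgroup.mem_normalizer_iff.mp (inv_mem hg) b).mp b.2
        rwa [inv_inv] at this
      have h4 := congrArg Subtype.val (Subgroup.mem_center_iff.mp ha ⟨_, hgb⟩)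
      have h5 : g⁻¹ * (b : G) * g * a = a * (g⁻¹ * b * g) := h4
      apply Subtype.ext
      show (b : G) * (g * a * g⁻¹) = g * a * g⁻¹ * b
      calc (b : G) * (g * a * g⁻¹) = g * (g⁻¹ * b * g * a) * g⁻¹ := by group
        _ = g * (a * (g⁻¹ * b * g)) * g⁻¹ := by rw [h5]
        _ = g * a * g⁻¹ * b := by group
    rw [Subgroup.mem_normalizer_iff]
    intro v
    refine ⟨key2 g hg v, fun h => ?_⟩
    have := key2 g⁻¹ (inv_mem hg) _ h
    have e : g⁻¹ * (g * v * g⁻¹) * g⁻¹⁻¹ = v := by group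
    rwa [e] at this
  have hVp : IsPGroup p V := hP.to_le hVP
  letI : CommGroup V := { (inferInstance : Group V) with mul_comm := hVab }
  set F : Subgroup G := Subgroup.normalizer (V : Set G) with hF
  have hF2 : ∀ g : F, ∀ v : V, (g : G) * v * (g : G)⁻¹ ∈ V := fun g v => (Subgroup.mem_normalizer_iff.mp g.2 v).mp v.2
  let ρ : F →* Monoid.End V :=
    { toFun := fun g => { toFun := fun v => ⟨(g : G) * v * (g : G)⁻¹, hF2 g v⟩
                          map_one' := by apply Subtype.ext; simp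
                          map_mul' := by intro a b; apply Subtype.ext; simp [mul_assoc] }
      map_one' := by
        apply MonoidHom.ext; intro v; apply Subtype.ext
        show ((1 : F) : G) * v * ((1 : F) : G)⁻¹ = v
        simp
      map_mul' := by
        intro a b; apply MonoidHom.ext; intro v; apply Subtype.ext
        show ((a * b : F) : G) * v * ((a * b : F) : G)⁻¹ = a * (b * v * (b : G)⁻¹) * (a : G)⁻¹
        simp [mul_assoc] }
  have hρ : ∀ (g : F) (v : V), ((ρ g v : V) : G) = (g : G) * v * (g : G)⁻¹ := fun g v => rfl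
  have hρf : ∀ (g : F) (v : V), ρ g v = v → (v : G) * g = g * v := by
    intro g v h
    have := congrArg Subtype.val h
    rw [hρ] at this
    exact (mul_inv_eq_iff_eq_mul.mp this).symm
  have hQF : Q ≤ F := hQP.trans hVn
  let Q' : Subgroup F := Q.subgroupOf F
  let x' : F := ⟨x, hVn hxP⟩
  -- element of Q
  obtain ⟨b, hb, hb1⟩ : ∃ b ∈ Q, b ≠ 1 := by
    by_contra hcon
    push Not at hcon
    exact hQ1 ((Subgroup.eq_bot_iff_forall Q).mpr hcon)
  have hx1 : x ≠ 1 := by
    intro h; rw [h, orderOf_one] at hx; exact hr.one_lt.ne hx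
  have hxr : ∃ n, x ^ r ^ n = 1 := ⟨1, by rw [pow_one, ← hx, pow_orderOf_eq_one]⟩
  have n1 : ∀ v : V, ∏ᶠ y : Q', ρ y v = 1 := by
    intro v
    by_contra hne
    have hfx := norm_fixed ρ Q' v ⟨b, hQF hb⟩ hb
    have := hρf _ _ hfx
    have hne' : ((∏ᶠ y : Q', ρ y v : V) : G) ≠ 1 := fun h => hne (Subtype.ext h)
    obtain ⟨z, hz⟩ := edge hp hq hpq hne' hb1 (of_pgroup hVp (∏ᶠ y : Q', ρ y v : V).2) (of_pgroup hQ hb) this
    exact h1 z hz
  have n2 : ∀ v : V, ∏ i ∈ Finset.range r, ρ (x' ^ i) v = 1 := by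
    intro v
    by_contra hne
    have hxr' : x' ^ r = 1 := Subtype.ext (by show x ^ r = 1; rw [← hx, pow_orderOf_eq_one])
    have hfx := pow_norm_fixed ρ x' r (by rw [hxr', map_one]) v
    have := hρf _ _ hfx
    have hne' : ((∏ i ∈ Finset.range r, ρ (x' ^ i) v : V) : G) ≠ 1 := fun h => hne (Subtype.ext h)
    obtain ⟨z, hz⟩ := edge hp hr hpr hne' hx1 (of_pgroup hVp (∏ i ∈ Finset.range r, ρ (x' ^ i) v : V).2) hxr this
    exact h2 z hz
  have hxQ' : x' ∈ Subgroup.normalizer (Q' : Set F) := by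
    rw [Subgroup.mem_normalizer_iff]
    intro g
    exact Subgroup.mem_normalizer_iff.mp hxQ g
  have hfix : ∀ i, 0 < i → i < r → ∀ y ∈ Q', x' ^ i * y = y * x' ^ i → y = 1 := by
    intro i hi0 hir y hy hc
    by_contra hne
    have hne' : (y : G) ≠ 1 := fun h => hne (Subtype.ext h)
    have hc' : (y : G) * x ^ i = x ^ i * y := (congrArg Subtype.val hc).symm
    have hxi : x ^ i ≠ 1 := by
      intro h
      have := orderOf_dvd_of_pow_eq_one h
      rw [hx] at this
      exact absurd (Nat.le_of_dvd hi0 this) (by omega)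
    obtain ⟨n, hn⟩ := hxr
    obtain ⟨z, hz⟩ := edge hq hr hqr hne' hxi (of_pgroup hQ hy) ⟨n, by rw [← pow_mul, mul_comm, pow_mul, hn, one_pow]⟩ hc'
    exact h3 z hz
  have hfin := avg ρ Q' x' r hr.pos hxQ' hfix n1 n2
  have hQc : Nat.card Q' = Nat.card Q := by
    exact Nat.card_congr (Subgroup.subgroupOfEquivOfLe hQF).toEquiv
  apply hV1
  rw [Subgroup.eq_bot_iff_forall]
  intro v hv
  obtain ⟨m, hm⟩ := (IsPGroup.iff_card).mp hQ
  obtain ⟨n, hn⟩ := of_pgroup hVp hv
  have h4 := congrArg Subtype.val (hfin ⟨v, hv⟩)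
  rw [hQc, hm] at h4
  have h5 : v ^ q ^ m = 1 := by simpa using h4
  have h6 : orderOf v ∣ 1 := by
    have h7 : Nat.Coprime (p ^ n) (q ^ m) := Nat.Coprime.pow _ _ ((Nat.coprime_primes hp hq).mpr hpq)
    rw [← h7]
    exact Nat.dvd_gcd (orderOf_dvd_of_pow_eq_one hn) (orderOf_dvd_of_pow_eq_one h5)
  exact orderOf_eq_one_iff.mp (Nat.dvd_one.mp h6)



/-- Let G be a finite group with normal subgroups K ≤ M, and let p, q, r be distinct primes with p dividing the order of K, q dividing the order of M/K and r dividing the order of G/M. Then p, q, r are not pairwise non-adjacent in the prime graph of G: G has an element of order pq, pr or qr. -/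
theorem result {G : Type*} [Group G] [Finite G] (K M : Subgroup G) [K.Normal] [M.Normal] (hKM : K ≤ M)
    (p q r : ℕ) (hp : p.Prime) (hq : q.Prime) (hr : r.Prime) (hpq : p ≠ q) (hpr : p ≠ r) (hqr : q ≠ r)
    (hpK : p ∣ Nat.card ↥K) (hqM : q ∣ Nat.card ↥M / Nat.card ↥K) (hrG : r ∣ Nat.card G / Nat.card ↥M) :
    (∃ x : G, orderOf x = p * q) ∨ (∃ x : G, orderOf x = p * r) ∨ (∃ x : G, orderOf x = q * r) := by
  haveI := Fact.mk hp
  haveI := Fact.mk hq
  haveI := Fact.mk hr
  obtain ⟨P0⟩ : Nonempty (Sylow p K) := inferInstance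
  set P : Subgroup G := P0.map K.subtype with hPdef
  have hPp : IsPGroup p P := P0.2.map _
  have hP1 : P ≠ ⊥ := by
    intro h
    rw [hPdef, Subgroup.map_eq_bot_iff_of_injective _ K.subtype_injective] at h
    exact P0.ne_bot_of_dvd_card hpK h
  set L : Subgroup G := Subgroup.normalizer (P : Set G) with hL
  have hLK : L ⊔ K = ⊤ := P0.normalizer_sup_eq_top
  have hLM : L ⊔ M = ⊤ := by
    rw [eq_top_iff, ← hLK]
    exact sup_le_sup_left hKM L
  have hqLM : q ∣ Nat.card (M.subgroupOf L) := by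
    have e1 : (L ⊓ M) ⊔ K = M := by
      apply le_antisymm (sup_le inf_le_right hKM)
      intro m hm
      have hm1 : m ∈ L ⊔ K := by rw [hLK]; exact mem_top m
      obtain ⟨l, hl, k, hk, rfl⟩ := Subgroup.mem_sup_of_normal_right.mp hm1
      refine mul_mem (mem_sup_left ⟨hl, ?_⟩) (mem_sup_right hk)
      have := M.mul_mem hm (M.inv_mem (hKM hk))
      simpa using this
    have e2 : K.relIndex M = K.relIndex (L ⊓ M) := by
      conv_lhs => rw [← e1]
      exact Subgroup.relIndex_sup_right _ _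
    have e3 : Nat.card M / Nat.card K = K.relIndex M := by
      have : K.relIndex M * Nat.card K = Nat.card M := by
        have := Subgroup.card_mul_index (K.subgroupOf M)
        rw [Nat.card_congr (Subgroup.subgroupOfEquivOfLe hKM).toEquiv] at this
        rw [mul_comm]; exact this
      rw [← this, Nat.mul_div_cancel _ Nat.card_pos]
    rw [e3, e2] at hqM
    have e4 := hqM.trans (Subgroup.relIndex_dvd_card K (L ⊓ M))
    have e5 : Nat.card (L ⊓ M : Subgroup G) = Nat.card (M.subgroupOf L) := by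
      rw [inf_comm, ← Subgroup.subgroupOf_map_subtype]
      exact (Nat.card_congr (Subgroup.equivMapOfInjective _ L.subtype L.subtype_injective).toEquiv).symm
    rwa [e5] at e4
  haveI : (M.subgroupOf L).Normal := inferInstance
  obtain ⟨Q0⟩ : Nonempty (Sylow q (M.subgroupOf L)) := inferInstance
  set Q1 : Subgroup L := Q0.map (M.subgroupOf L).subtype with hQ1def
  have hQ1p : IsPGroup q Q1 := Q0.2.map _
  have hQ1 : Q1 ≠ ⊥ := by
    intro h
    rw [hQ1def, Subgroup.map_eq_bot_iff_of_injective _ (M.subgroupOf L).subtype_injective] at h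
    exact Q0.ne_bot_of_dvd_card hqLM h
  set T : Subgroup L := Subgroup.normalizer (Q1 : Set L) with hT
  have hTM : T ⊔ M.subgroupOf L = ⊤ := Q0.normalizer_sup_eq_top
  have hrT : r ∣ Nat.card T := by
    have e1 : (M.subgroupOf L).index = (M.subgroupOf L).relIndex T := by
      rw [← Subgroup.relIndex_top_right, ← hTM, Subgroup.relIndex_sup_right]
    have e2 : (M.subgroupOf L).index = M.index := by
      show M.relIndex L = M.index
      rw [← Subgroup.relIndex_top_right M, ← hLM, Subgroup.relIndex_sup_right]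
    have e3 : Nat.card G / Nat.card M = M.index := by
      rw [← Subgroup.index_mul_card M, Nat.mul_div_cancel _ Nat.card_pos]
    rw [e3, ← e2, e1] at hrG
    exact hrG.trans (Subgroup.relIndex_dvd_card _ _)
  obtain ⟨x, hx⟩ := exists_prime_orderOf_dvd_card' r hrT
  have hxr : orderOf ((x : L) : G) = r := by
    rw [← hx, Subgroup.orderOf_coe, Subgroup.orderOf_coe]
  refine config hp hq hr hpq hpr hqr P (Q1.map L.subtype) hPp (hQ1p.map _) hP1 ?_ ?_ hxr x.1.2 ?_
  · intro h
    rw [Subgroup.map_eq_bot_iff_of_injective _ L.subtype_injective] at h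
    exact hQ1 h
  · exact Subgroup.map_subtype_le _
  · rw [Subgroup.mem_normalizer_iff]
    intro g
    have hx2 := Subgroup.mem_normalizer_iff.mp x.2
    constructor
    · rintro ⟨y, hy, rfl⟩
      exact ⟨_, (hx2 y).mp hy, rfl⟩
    · rintro ⟨y, hy, hyg⟩
      have hy' : ((x : L)⁻¹ * y * (x : L)) ∈ Q1 := by
        rw [hx2]
        have : (x : L) * ((x : L)⁻¹ * y * (x : L)) * (x : L)⁻¹ = y := by group
        rw [this]; exact hy
      refine ⟨_, hy', ?_⟩
      have hyg' : (y : G) = x * g * (x : G)⁻¹ := hyg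
      show ((x : L) : G)⁻¹ * y * x = g
      rw [hyg']; group

end Cfsg.Agent.S3634
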