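import Cfsg.Statements.S3633
import Cfsg.Agent.S3634
import Cfsg.Agent.LibSolvMin


set_option autoImplicit false
open Cfsg

namespace Cfsg.Agent.S3633


open Subgroup

/-- among three pairwise nonadjacent primes at most one divides the order of a solvable normal subgroup -/
theorem main {G : Type*} [Group G] [Finite G] {r s u : ℕ} (hr : r.Prime) (hs : s.Prime) (hu : u.Prime) (hrs : r ≠ s) (hru : r ≠ u)
    (hsu : s ≠ u) (hrG : r ∣ Nat.card G) (hsG : s ∣ Nat.card G) (huG : u ∣ Nat.card G)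
    (h1 : ¬ ∃ x : G, orderOf x = r * s) (h2 : ¬ ∃ x : G, orderOf x = r * u) (h3 : ¬ ∃ x : G, orderOf x = s * u)
    (K : Subgroup G) [K.Normal] (hK : Group.IsSolvable ↥K) : ¬ (r ∣ Nat.card K ∧ s ∣ Nat.card K) := by
  rintro ⟨hrK, hsK⟩
  -- the three-set
  set T : Finset ℕ := {r, s, u} with hT
  have hTp : ∀ t ∈ T, t.Prime := by
    intro t ht
    simp only [hT, Finset.mem_insert, Finset.mem_singleton] at ht
    rcases ht with rfl | rfl | rfl <;> assumption
  have hTG : ∀ t ∈ T, t ∣ Nat.card G := by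
    intro t ht
    simp only [hT, Finset.mem_insert, Finset.mem_singleton] at ht
    rcases ht with rfl | rfl | rfl <;> assumption
  have hTe : ∀ t ∈ T, ∀ t' ∈ T, t ≠ t' → ¬ ∃ x : G, orderOf x = t * t' := by
    intro t ht t' ht' hne
    simp only [hT, Finset.mem_insert, Finset.mem_singleton] at ht ht'
    rcases ht with rfl | rfl | rfl <;> rcases ht' with rfl | rfl | rfl <;>
      first
        | exact absurd rfl hne
        | assumption
        | (rw [mul_comm]; assumption)
  have hT3 : ∀ t ∈ T, ∀ t' ∈ T, t ≠ t' → ∃ t'' ∈ T, t'' ≠ t ∧ t'' ≠ t' := by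
    intro t ht t' ht' hne
    simp only [hT, Finset.mem_insert, Finset.mem_singleton] at ht ht'
    rcases ht with rfl | rfl | rfl <;> rcases ht' with rfl | rfl | rfl
    · exact absurd rfl hne
    · exact ⟨u, by simp [hT], hru.symm, hsu.symm⟩
    · exact ⟨s, by simp [hT], hrs.symm, hsu⟩
    · exact ⟨u, by simp [hT], hsu.symm, hru.symm⟩
    · exact absurd rfl hne
    · exact ⟨r, by simp [hT], hrs, hru⟩
    · exact ⟨s, by simp [hT], hsu, hrs.symm⟩
    · exact ⟨r, by simp [hT], hru, hrs⟩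
    · exact absurd rfl hne
  -- maximal A
  let S : Set (Subgroup G) := {A | A.Normal ∧ A ≤ K ∧ ∀ t ∈ T, ∀ t' ∈ T, t ∣ Nat.card A → t' ∣ Nat.card A → t = t'}
  have hSne : S.Nonempty := by
    refine ⟨⊥, inferInstance, bot_le, ?_⟩
    intro t ht t' _ htd _
    rw [Subgroup.card_bot] at htd
    exact absurd (Nat.dvd_one.mp htd) (hTp t ht).one_lt.ne'
  obtain ⟨A, hA⟩ := (Set.toFinite S).exists_maximal hSne
  obtain ⟨⟨hAn, hAK, hAT⟩, hAmax⟩ := hA
  have hAneK : A ≠ K := by
    intro h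
    rw [h] at hAT
    exact hrs (hAT r (by simp [hT]) s (by simp [hT]) hrK hsK)
  have hKs : Group.IsSolvable (K.map (QuotientGroup.mk' A)) :=
    Group.isSolvable_of_surjective (f := (QuotientGroup.mk' A).subgroupMap K) (MonoidHom.subgroupMap_surjective _ _)
  have hKne : K.map (QuotientGroup.mk' A) ≠ ⊥ := by
    intro h
    rw [Subgroup.map_eq_bot_iff, QuotientGroup.ker_mk'] at h
    exact hAneK (le_antisymm hAK h)
  haveI : (K.map (QuotientGroup.mk' A)).Normal := Subgroup.Normal.map inferInstance _ (QuotientGroup.mk'_surjective A)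
  obtain ⟨Mb, q, hq, hMb, hMbK, -, -, hMbp⟩ := CfsgLib.SolvMin.exists_minNormal_pgroup_of_solvable' (K.map (QuotientGroup.mk' A)) hKne
  haveI := Fact.mk hq
  haveI := hMb.1
  set B : Subgroup G := Mb.comap (QuotientGroup.mk' A) with hB
  have hAB : A ≤ B := by
    rw [hB]; intro x hx
    rw [Subgroup.mem_comap, (QuotientGroup.eq_one_iff x).mpr hx |> fun h => (show QuotientGroup.mk' A x = 1 from h)]
    exact one_mem _
  have hBK : B ≤ K := by
    rw [hB]
    refine (Subgroup.comap_mono hMbK).trans ?_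
    rw [Subgroup.comap_map_eq, QuotientGroup.ker_mk']
    exact sup_le le_rfl hAK
  have hcardB : Nat.card B = Nat.card Mb * Nat.card A := by
    have := CfsgLib.SolvBasic.card_map_mk'_mul_card_of_le A B hAB
    rw [← this, hB, Subgroup.map_comap_eq_self_of_surjective (QuotientGroup.mk'_surjective A)]
  have hBS : B ∉ S := by
    intro h
    have := hAmax h hAB
    have hBA : B = A := le_antisymm this hAB
    rw [hBA] at hcardB
    have h1 : Nat.card Mb = 1 := by
      have := Nat.card_pos (α := A)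
      exact (Nat.eq_of_mul_eq_mul_right this (by rw [one_mul]; exact hcardB)).symm
    exact hMb.2.1 (Subgroup.card_eq_one.mp h1)
  have hBn : B.Normal := by rw [hB]; infer_instance
  have hex : ∃ t ∈ T, ∃ t' ∈ T, t ∣ Nat.card B ∧ t' ∣ Nat.card B ∧ t ≠ t' := by
    by_contra hcon
    push Not at hcon
    exact hBS ⟨hBn, hBK, fun t ht t' ht' hd hd' => hcon t ht t' ht' hd hd'⟩
  obtain ⟨k, hk⟩ := (IsPGroup.iff_card).mp hMbp
  have hdiv : ∀ t ∈ T, t ∣ Nat.card B → t = q ∨ t ∣ Nat.card A := by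
    intro t ht hd
    rw [hcardB, hk] at hd
    rcases (hTp t ht).dvd_mul.mp hd with h | h
    · left
      exact (Nat.prime_dvd_prime_iff_eq (hTp t ht) hq).mp ((hTp t ht).dvd_of_dvd_pow h)
    · exact Or.inr h
  -- p | A, q
  have hpq : ∃ p ∈ T, p ∣ Nat.card A ∧ p ≠ q ∧ q ∈ T := by
    obtain ⟨t, ht, t', ht', hd, hd', hne⟩ := hex
    rcases hdiv t ht hd with h | h <;> rcases hdiv t' ht' hd' with h' | h'
    · exact absurd (h.trans h'.symm) hne
    · exact ⟨t', ht', h', fun hh => hne (h.trans hh.symm), h ▸ ht⟩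
    · exact ⟨t, ht, h, fun hh => hne (hh.trans h'.symm), h' ▸ ht'⟩
    · exact absurd (hAT t ht t' ht' h h') hne
  obtain ⟨p, hpT, hpA, hpq, hqT⟩ := hpq
  obtain ⟨c, hcT, hcp, hcq⟩ := hT3 p hpT q hqT hpq
  have hcB : ¬ c ∣ Nat.card B := by
    intro h
    rcases hdiv c hcT h with h' | h'
    · exact hcq h'
    · exact hcp (hAT c hcT p hpT h' hpA)
  have hcG : c ∣ Nat.card G / Nat.card B := by
    have h4 := hTG c hcT
    have h5 : Nat.card G / Nat.card B = B.index := by
      rw [← Subgroup.index_mul_card B, Nat.mul_div_cancel _ Nat.card_pos]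
    rw [h5]
    rw [← Subgroup.index_mul_card B] at h4
    exact ((hTp c hcT).dvd_mul.mp h4).resolve_right hcB
  have hqB : q ∣ Nat.card B / Nat.card A := by
    rw [hcardB, Nat.mul_div_cancel _ Nat.card_pos, hk]
    apply dvd_pow_self
    rintro rfl
    rw [pow_zero] at hk
    exact hMb.2.1 (Subgroup.card_eq_one.mp hk)
  rcases Cfsg.Agent.S3634.result A B hAB p q c (hTp p hpT) hq (hTp c hcT) hpq hcp.symm hcq.symm hpA hqB hcG with h | h | h
  · exact hTe p hpT q hqT hpq h
  · exact hTe p hpT c hcT hcp.symm h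
  · exact hTe q hqT c hcT hcq.symm h



/-- Let G be a finite group and ρ a set of at least three prime divisors of the order of G that are pairwise non-adjacent in the prime graph (no element of order rs for distinct r, s ∈ ρ). Then at most one prime of ρ divides the order of any given solvable normal subgroup of G; in particular G is not solvable. -/
theorem result {G : Type*} [Group G] [Finite G] (ρ : Finset ℕ) (hρ : 3 ≤ ρ.card) (hc : ((∀ r ∈ ρ, r.Prime ∧ r ∣ Nat.card G) ∧ (∀ r ∈ ρ, ∀ s ∈ ρ, r ≠ s → ¬ ∃ x : G, orderOf x = r * s)))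
    (K : Subgroup G) [K.Normal] (hK : Group.IsSolvable ↥K) :
    (∀ r ∈ ρ, ∀ s ∈ ρ, r ∣ Nat.card ↥K → s ∣ Nat.card ↥K → r = s) ∧ ¬ Group.IsSolvable G := by
  obtain ⟨hρ1, hρ2⟩ := hc
  have key : ∀ (K : Subgroup G) [K.Normal], Group.IsSolvable K → ∀ r ∈ ρ, ∀ s ∈ ρ, r ∣ Nat.card ↥K → s ∣ Nat.card ↥K → r = s := by
    intro K _ hK r hr s hs hrK hsK
    by_contra hne
    obtain ⟨u, hu, hur, hus⟩ : ∃ u ∈ ρ, u ≠ r ∧ u ≠ s := by
      by_contra hcon
      push Not at hcon
      have : ρ ⊆ {r, s} := by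
        intro u hu
        rw [Finset.mem_insert, Finset.mem_singleton]
        by_cases h : u = r
        · exact Or.inl h
        · exact Or.inr (hcon u hu h)
      have h2 := Finset.card_le_card this
      have h3 : ({r, s} : Finset ℕ).card ≤ 2 := Finset.card_le_two
      omega
    exact main (hρ1 r hr).1 (hρ1 s hs).1 (hρ1 u hu).1 hne hur.symm hus.symm (hρ1 r hr).2 (hρ1 s hs).2 (hρ1 u hu).2
      (hρ2 r hr s hs hne) (hρ2 r hr u hu hur.symm) (hρ2 s hs u hu hus.symm) K hK ⟨hrK, hsK⟩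
  refine ⟨key K hK, ?_⟩
  intro hG
  obtain ⟨r, hr, s, hs, hne⟩ : ∃ r ∈ ρ, ∃ s ∈ ρ, r ≠ s := by
    have : 1 < ρ.card := by omega
    obtain ⟨r, hr, s, hs, h⟩ := Finset.one_lt_card.mp this
    exact ⟨r, hr, s, hs, h⟩
  have htop : Group.IsSolvable (⊤ : Subgroup G) := inferInstance
  refine hne (key ⊤ htop r hr s hs ?_ ?_)
  · rw [Subgroup.card_top]; exact (hρ1 r hr).2
  · rw [Subgroup.card_top]; exact (hρ1 s hs).2

end Cfsg.Agent.S3633
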