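import Cfsg.Statements.S4345
import Mathlib
import Cfsg.Agent.LibH7Hall
import Cfsg.Agent.LibSolvMin

set_option autoImplicit false
open Cfsg

namespace Cfsg.Agent.S4345

open Subgroup CfsgLib.H7Hall

universe v

theorem aux (p : ℕ) [Fact p.Prime] : ∀ (n : ℕ) (G : Type v) [Group G] [Finite G], Nat.card G = n →
    Group.IsSolvable G → ∀ ℓ : ℕ, ℓ.Prime →
    ℓ ^ (Nat.card (Sylow p G)).factorization ℓ ≡ 1 [MOD p] := by
  intro n
  induction n using Nat.strong_induction_on with
  | _ n ih =>
    intro G _ _ hn hG ℓ hℓ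
    have hp : p.Prime := Fact.out
    rcases subsingleton_or_nontrivial G with hs | hnt
    · haveI : Subsingleton (Sylow p G) := ⟨fun a b => Sylow.ext (Subsingleton.elim _ _)⟩
      have h1 : Nat.card (Sylow p G) = 1 := by
        rw [Nat.card_eq_one_iff_unique]
        exact ⟨inferInstance, inferInstance⟩
      rw [h1, Nat.factorization_one]
      simp only [Finsupp.coe_zero, Pi.zero_apply, pow_zero]
      exact Nat.ModEq.refl 1
    obtain ⟨K, q, hq, hKmin, -, -, -, hKq⟩ :=
      CfsgLib.SolvMin.exists_minNormal_pgroup_of_solvable (⊤ : Subgroup G) top_ne_bot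
    haveI := hKmin.1
    haveI : Fact q.Prime := ⟨hq⟩
    obtain ⟨P⟩ := (inferInstance : Nonempty (Sylow p G))
    rw [card_sylow_step K P]
    -- the second factor is a power of `q`
    have h2 : ∃ a, Nat.card (Sylow p ((P : Subgroup G) ⊔ K : Subgroup G)) = q ^ a := by
      have h3 := (isSyl_of_sylow P (le_sup_left : (P : Subgroup G) ≤ (P : Subgroup G) ⊔ K)).card
      have h4 : (normalizer ((P : Subgroup G) : Set G)).relIndex ((P : Subgroup G) ⊔ K) ∣
          (P : Subgroup G).relIndex ((P : Subgroup G) ⊔ K) := by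
        apply Subgroup.relIndex_dvd_of_le_left
        exact le_normalizer
      rw [relIndex_sup_of_normal, ← h3] at h4
      have h5 : (P : Subgroup G).relIndex K ∣ Nat.card K := Subgroup.relIndex_dvd_card _ _
      obtain ⟨k, hk⟩ := IsPGroup.iff_card.mp hKq
      rw [hk] at h5
      obtain ⟨a, -, ha⟩ := (Nat.dvd_prime_pow hq).mp (h4.trans h5)
      exact ⟨a, ha⟩
    obtain ⟨a, ha⟩ := h2
    have hmod : q ^ a ≡ 1 [MOD p] := by
      rw [← ha]; exact card_sylow_modEq_one p _
    have hne1 : Nat.card (Sylow p (G ⧸ K)) ≠ 0 := Nat.card_pos.ne'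
    have hne2 : q ^ a ≠ 0 := pow_ne_zero _ hq.ne_zero
    rw [ha, Nat.factorization_mul hne1 hne2, Finsupp.add_apply, pow_add]
    have hlt : Nat.card (G ⧸ K) < n := by
      have h6 : Nat.card K * Nat.card (G ⧸ K) = Nat.card G := K.card_mul_index
      have h7 : 1 < Nat.card K := K.one_lt_card_iff_ne_bot.mpr hKmin.2.1
      have h8 : 0 < Nat.card (G ⧸ K) := Nat.card_pos
      rw [← hn, ← h6]
      nlinarith
    have h9 := ih _ hlt (G ⧸ K) rfl inferInstance ℓ hℓ
    have h10 : ℓ ^ (q ^ a).factorization ℓ ≡ 1 [MOD p] := by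
      rw [hq.factorization_pow]
      by_cases hql : q = ℓ
      · subst hql
        rw [Finsupp.single_eq_same]; exact hmod
      · rw [Finsupp.single_eq_of_ne (Ne.symm hql), pow_zero]
    exact (h9.mul h10).trans (by rw [mul_one])

/-- Let G be a finite solvable group and p, ℓ primes. Then the largest power of ℓ dividing the number of Sylow p-subgroups of G is congruent to 1 modulo p. -/
theorem result {G : Type*} [Group G] [Finite G]
    (hG : Group.IsSolvable G) (p ℓ : ℕ) [Fact p.Prime] (hℓ : ℓ.Prime) :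
    ℓ ^ (Nat.card (Sylow p G)).factorization ℓ ≡ 1 [MOD p] := by
  exact aux p _ G rfl hG ℓ hℓ

end Cfsg.Agent.S4345
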