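import Cfsg.Statements.S3669
import Cfsg.Agent.S0157
import Cfsg.Agent.S4345
import Cfsg.Agent.S0494
import Cfsg.Agent.LibH6ZasV
import Cfsg.Agent.LibH6ZasG
import Cfsg.Agent.LibCharMore


set_option autoImplicit false
open Cfsg

namespace Cfsg.Agent.S3669


open MulAction Subgroup
open scoped Pointwise

theorem n5 {G : Type*} [Group G] [Finite G] (h60 : Nat.card G = 60) [Fact (Nat.Prime 5)] : Nat.card (Sylow 5 G) = 1 ∨ Nat.card (Sylow 5 G) = 6 := by
  obtain ⟨P⟩ : Nonempty (Sylow 5 G) := inferInstance
  have hP : Nat.card P = 5 := by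
    rw [P.card_eq_multiplicity, h60]
    have : (60 : ℕ).factorization 5 = 1 := by
      have h : (60 : ℕ) = 12 * 5 := by norm_num
      rw [h, Nat.factorization_mul (by norm_num) (by norm_num), Finsupp.add_apply, Nat.factorization_eq_zero_of_not_dvd (by norm_num),
        Nat.Prime.factorization_self Nat.prime_five]
    rw [this]; norm_num
  have h1 := Sylow.card_dvd_index P
  have h2 := card_sylow_modEq_one 5 G
  have h3 : P.index = 12 := by
    have := Subgroup.card_mul_index (P : Subgroup G)
    rw [h60, show Nat.card (P : Subgroup G) = 5 from hP] at this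
    omega
  rw [h3] at h1
  have h4 : Nat.card (Sylow 5 G) ≤ 12 := Nat.le_of_dvd (by norm_num) h1
  have h5 : Nat.card (Sylow 5 G) % 5 = 1 := h2
  have : Nat.card (Sylow 5 G) = 1 ∨ Nat.card (Sylow 5 G) = 6 ∨ Nat.card (Sylow 5 G) = 11 := by omega
  rcases this with h | h | h
  · exact Or.inl h
  · exact Or.inr h
  · rw [h] at h1; norm_num at h1

theorem syl5 {G : Type*} [Group G] [Finite G] (h60 : Nat.card G = 60) [Fact (Nat.Prime 5)] (P : Sylow 5 G) : Nat.card (P : Subgroup G) = 5 := by
  show Nat.card P = 5
  rw [P.card_eq_multiplicity, h60]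
  have : (60 : ℕ).factorization 5 = 1 := by
    have h : (60 : ℕ) = 12 * 5 := by norm_num
    rw [h, Nat.factorization_mul (by norm_num) (by norm_num), Finsupp.add_apply, Nat.factorization_eq_zero_of_not_dvd (by norm_num),
      Nat.Prime.factorization_self Nat.prime_five]
  rw [this]; norm_num

/-- a group of order 60 with 5 among its degree primes has six Sylow 5-subgroups -/
theorem six_of_mem {G : Type*} [Group G] [Finite G] (h60 : Nat.card G = 60) [Fact (Nat.Prime 5)] (h5 : 5 ∈ Cfsg.degreePrimes G) :
    Nat.card (Sylow 5 G) = 6 := by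
  rcases n5 h60 with h | h
  · exfalso
    obtain ⟨P⟩ : Nonempty (Sylow 5 G) := inferInstance
    have hn : (P : Subgroup G).Normal := by
      have : Subsingleton (Sylow 5 G) := (Nat.card_eq_one_iff_unique.mp h).1
      exact Sylow.normal_of_subsingleton P
    obtain ⟨_, d, ⟨χ, rfl⟩, hd⟩ := h5
    have h1 := CfsgLib.CharMore.ito χ.2 (P : Subgroup G) (by
      have hc : IsCyclic (P : Subgroup G) := isCyclic_of_prime_card (syl5 h60 P)
      intro a ha b hb
      obtain ⟨g, hg⟩ := hc.exists_generator
      obtain ⟨i, hi⟩ := Subgroup.mem_zpowers_iff.mp (hg ⟨a, ha⟩)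
      obtain ⟨j, hj⟩ := Subgroup.mem_zpowers_iff.mp (hg ⟨b, hb⟩)
      have : (⟨a, ha⟩ : (P : Subgroup G)) * ⟨b, hb⟩ = ⟨b, hb⟩ * ⟨a, ha⟩ := by
        rw [← hi, ← hj, ← zpow_add, ← zpow_add, add_comm]
      exact congrArg Subtype.val this)
    have h2 := hd.trans h1
    have h3 := Subgroup.card_mul_index (P : Subgroup G)
    rw [h60, syl5 h60 P] at h3
    omega
  · exact h

theorem mem_of_six {G : Type*} [Group G] [Finite G] (h60 : Nat.card G = 60) [Fact (Nat.Prime 5)] (h6 : Nat.card (Sylow 5 G) = 6) :
    5 ∈ Cfsg.degreePrimes G := by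
  classical
  have h2t : IsMultiplyPretransitive G (Sylow 5 G) 2 := by
    rw [is_two_pretransitive_iff]
    intro A B C D hAB hCD
    obtain ⟨g1, hg1⟩ := exists_smul_eq G A C
    have hne : g1 • B ≠ C := by
      intro h; apply hAB
      exact smul_left_cancel g1 (hg1.trans h.symm)
    -- the orbit of g1 • B under C
    have horb : ∀ Q : Sylow 5 G, Q ≠ C → (orbit (C : Subgroup G) Q) = {C}ᶜ := by
      intro Q hQ
      have hsub : orbit (C : Subgroup G) Q ⊆ {C}ᶜ := by
        rintro _ ⟨c, rfl⟩ h
        have h' : (c : G) • Q = C := h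
        apply hQ
        have hcC : (c : G) • C = C := by
          rw [Sylow.smul_eq_iff_mem_normalizer]
          exact le_normalizer c.2
        exact smul_left_cancel (c : G) (h'.trans hcC.symm)
      apply Set.eq_of_subset_of_ncard_le hsub _ (Set.toFinite _)
      have hc1 : ({C}ᶜ : Set (Sylow 5 G)).ncard = 5 := by
        rw [Set.ncard_compl, h6, Set.ncard_singleton]
      rw [hc1]
      have h3 := Subgroup.index_dvd_card (stabilizer (C : Subgroup G) Q)
      rw [MulAction.index_stabilizer, syl5 h60 C] at h3
      rcases (Nat.dvd_prime Nat.prime_five).mp h3 with h | h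
      · exfalso
        rw [Set.ncard_eq_one] at h
        obtain ⟨R, hR⟩ := h
        have hfix : ∀ c : (C : Subgroup G), c • Q = Q := by
          intro c
          have h4 : c • Q ∈ orbit (C : Subgroup G) Q := mem_orbit _ _
          have h5 : Q ∈ orbit (C : Subgroup G) Q := mem_orbit_self _
          rw [hR] at h4 h5
          exact h4.trans h5.symm
        have hle : (C : Subgroup G) ≤ normalizer (Q : Set G) := by
          intro c hc
          rw [← Sylow.smul_eq_iff_mem_normalizer]
          exact hfix ⟨c, hc⟩
        have h4 := IsPGroup.inf_normalizer_sylow C.2 Q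
        have h5 : (C : Subgroup G) ⊓ normalizer (Q : Set G) = C := inf_eq_left.mpr hle
        rw [h5] at h4
        have h6 : (C : Subgroup G) ≤ Q := by rw [h4]; exact inf_le_right
        apply hQ
        apply Sylow.ext
        exact (Subgroup.eq_of_le_of_card_ge h6 (by rw [syl5 h60, syl5 h60])).symm
      · exact h.ge
    have h1 : D ∈ orbit (C : Subgroup G) (g1 • B) := by
      rw [horb _ hne]; exact hCD.symm
    obtain ⟨c, hc⟩ := h1
    refine ⟨(c : G) * g1, ?_, ?_⟩
    · rw [mul_smul, hg1, Sylow.smul_eq_iff_mem_normalizer]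
      exact le_normalizer c.2
    · rw [mul_smul]; exact hc
  have hirr := (Cfsg.Agent.S0157.result (G := G) (Sylow 5 G) (by rw [h6]; norm_num)).mpr h2t
  refine ⟨Nat.prime_five, 5, ⟨⟨_, hirr⟩, ?_⟩, dvd_rfl⟩
  have h1 := CfsgLib.CharInt.irr_one_eq_charDegree hirr
  have h2 : fixedBy (Sylow 5 G) (1 : G) = Set.univ := by
    ext x; simp
  simp only [h2] at h1
  rw [Nat.card_univ, h6] at h1
  have h3 : ((5 : ℕ) : ℂ) = ((charDegree (fun g : G => (Nat.card (fixedBy (Sylow 5 G) g) : ℂ) - 1) : ℕ) : ℂ) := by
    rw [← h1]; norm_num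
  exact_mod_cast h3.symm



/-- The character degree graph of a finite group has as vertices the primes dividing some irreducible complex character degree, two distinct primes being joined when their product divides some irreducible character degree; two groups have the same character degree graph when they have the same vertices and the same joined pairs. A finite group of order 60 with the same character degree graph as the alternating group A₅ (whose character degrees are 1, 3, 4, 5, so the graph has vertices 2, 3, 5 and no edges) is isomorphic to A₅. -/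
theorem result {G : Type*} [Group G] [Finite G] (hcard : Nat.card G = 60)
    (hΓ : Cfsg.degreePrimes G = Cfsg.degreePrimes (alternatingGroup (Fin 5)) ∧ Cfsg.degreeGraph G = Cfsg.degreeGraph (alternatingGroup (Fin 5))) : Nonempty (G ≃* alternatingGroup (Fin 5)) := by
  haveI : Fact (Nat.Prime 5) := ⟨Nat.prime_five⟩
  haveI : Fact (5 ≤ 5) := ⟨le_rfl⟩
  have hA : Nat.card (alternatingGroup (Fin 5)) = 60 := CfsgLib.H6Zas.c5
  have h5A : 5 ∈ Cfsg.degreePrimes (alternatingGroup (Fin 5)) := by
    apply mem_of_six hA
    refine (n5 hA).resolve_left ?_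
    intro h
    obtain ⟨P⟩ : Nonempty (Sylow 5 (alternatingGroup (Fin 5))) := inferInstance
    have hn : (P : Subgroup (alternatingGroup (Fin 5))).Normal := by
      have : Subsingleton (Sylow 5 (alternatingGroup (Fin 5))) := (Nat.card_eq_one_iff_unique.mp h).1
      exact Sylow.normal_of_subsingleton P
    haveI : IsSimpleGroup (alternatingGroup (Fin 5)) := inferInstance
    rcases hn.eq_bot_or_eq_top with h1 | h1
    · have h2 := syl5 hA P
      rw [h1, Subgroup.card_bot] at h2
      omega
    · have h2 := syl5 hA P
      rw [h1, Subgroup.card_top, hA] at h2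
      omega
  rw [← hΓ.1] at h5A
  have h6 := six_of_mem hcard h5A
  have hns : ¬ Group.IsSolvable G := by
    intro hs
    have h1 := Cfsg.Agent.S4345.result hs 5 2 Nat.prime_two
    have h2 : (Nat.card (Sylow 5 G)).factorization 2 = 1 := by
      rw [h6]
      have h : (6 : ℕ) = 3 * 2 := by norm_num
      rw [h, Nat.factorization_mul (by norm_num) (by norm_num), Finsupp.add_apply, Nat.factorization_eq_zero_of_not_dvd (by norm_num),
        Nat.Prime.factorization_self Nat.prime_two]
    rw [h2, Nat.ModEq] at h1
    omega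
  haveI := CfsgLib.H6Zas.simple_of_60 hcard hns
  exact Cfsg.Agent.S0494.result hcard

end Cfsg.Agent.S3669
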