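import Cfsg.Statements.S3738
import Cfsg.Agent.LibH2JF3

set_option autoImplicit false
open Cfsg

namespace Cfsg.Agent.S3738

open Subgroup Cfsg CfsgLib.H2JF
open scoped Pointwise commutatorElement

section
variable {G : Type*} [Group G] [Finite G]

theorem four_mem {Q : Subgroup G} (hno : ∀ E : Subgroup G, E ≤ Q → IsElementaryAbelian 2 E → Nat.card E ≤ 4)
    {W : Subgroup G} (hWQ : W ≤ Q) (hW : IsElementaryAbelian 2 W) (hW4 : Nat.card W = 4) {c : G} (hcQ : c ∈ Q)
    (hc2 : c * c = 1) (hc : ∀ w ∈ W, c * w = w * c) : c ∈ W := by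
  by_contra hcW
  have hWc : ∀ a ∈ W, ∀ b ∈ W, a * b = b * a := fun a ha b hb =>
    congrArg Subtype.val (hW.1.is_comm.comm ⟨a, ha⟩ ⟨b, hb⟩)
  have hW2 : ∀ a ∈ W, a * a = 1 := fun a ha => by rw [← pow_two]; exact hW.2 a ha
  let E : Subgroup G :=
    { carrier := {g | ∃ w ∈ W, g = w ∨ g = w * c}
      one_mem' := ⟨1, one_mem _, Or.inl rfl⟩
      mul_mem' := by
        rintro a b ⟨w, hw, rfl | rfl⟩ ⟨w', hw', rfl | rfl⟩
        · exact ⟨_, mul_mem hw hw', Or.inl rfl⟩
        · exact ⟨_, mul_mem hw hw', Or.inr (by rw [mul_assoc])⟩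
        · exact ⟨_, mul_mem hw hw', Or.inr (by rw [mul_assoc, hc _ hw', mul_assoc])⟩
        · refine ⟨_, mul_mem hw hw', Or.inl ?_⟩
          calc w * c * (w' * c) = w * (c * w') * c := by group
            _ = w * (w' * c) * c := by rw [hc _ hw']
            _ = w * w' * (c * c) := by group
            _ = w * w' := by rw [hc2, mul_one]
      inv_mem' := by
        rintro a ⟨w, hw, rfl | rfl⟩
        · exact ⟨_, inv_mem hw, Or.inl rfl⟩
        · refine ⟨_, inv_mem hw, Or.inr ?_⟩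
          have : c⁻¹ = c := (eq_inv_of_mul_eq_one_left hc2).symm
          rw [mul_inv_rev, this, hc _ (inv_mem hw)] }
  have hWE : W ≤ E := fun w hw => ⟨w, hw, Or.inl rfl⟩
  have hcE : c ∈ E := ⟨1, one_mem _, Or.inr (one_mul c).symm⟩
  have hEQ : E ≤ Q := by
    rintro g ⟨w, hw, h | h⟩
    · rw [h]; exact hWQ hw
    · rw [h]; exact mul_mem (hWQ hw) hcQ
  have hE : IsElementaryAbelian 2 E := by
    refine ⟨⟨⟨?_⟩⟩, ?_⟩
    · rintro ⟨g, w, hw, h1⟩ ⟨g', w', hw', h2⟩
      apply Subtype.ext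
      show g * g' = g' * g
      have k1 : Commute w w' := hWc _ hw _ hw'
      have k2 : Commute c w := hc _ hw
      have k3 : Commute c w' := hc _ hw'
      rcases h1 with h1 | h1 <;> rcases h2 with h2 | h2 <;> rw [h1, h2]
      · exact k1
      · exact k1.mul_right k2.symm
      · exact k1.mul_left k3
      · exact (k1.mul_left k3).mul_right (k2.symm.mul_left (Commute.refl c))
    · rintro _ ⟨w, hw, rfl | rfl⟩
      · exact hW.2 _ hw
      · rw [pow_two]
        calc w * c * (w * c) = w * (c * w) * c := by group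
          _ = w * (w * c) * c := by rw [hc _ hw]
          _ = (w * w) * (c * c) := by group
          _ = 1 := by rw [hc2, mul_one, hW2 _ hw]
  have h2 : W = E := eq_of_le_of_card_ge hWE (by rw [hW4]; exact hno E hEQ hE)
  apply hcW
  rw [h2]; exact hcE

theorem two_elt {K : Subgroup G} (h : Nat.card K = 2) {x y : G} (hx : x ∈ K) (hy : y ∈ K) (hx1 : x ≠ 1) (hy1 : y ≠ 1) :
    x = y := by
  obtain ⟨z, -, hz⟩ := (Nat.card_eq_two_iff' (1 : K)).mp h
  have e1 := hz ⟨x, hx⟩ (fun h => hx1 (congrArg Subtype.val h))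
  have e2 := hz ⟨y, hy⟩ (fun h => hy1 (congrArg Subtype.val h))
  exact congrArg Subtype.val (e1.trans e2.symm)

end

theorem core {G : Type*} [Group G] [Finite G] {Q : Subgroup G} [hQn : Q.Normal] (hQ : IsPGroup 2 Q) (d : G) (n : ℕ)
    (hdn : d ^ (3 ^ n) = 1) (hn : 2 ≤ n) (hfpf : ∀ x ∈ Q, d * x = x * d → x = 1)
    (hno : ∀ E : Subgroup G, E ≤ Q → IsElementaryAbelian 2 E → Nat.card E ≤ 4)
    (hf : ¬ ∀ x ∈ Q, d ^ (3 ^ (n - 1)) * x = x * d ^ (3 ^ (n - 1))) : False := by
  haveI f2 : Fact (Nat.Prime 2) := ⟨Nat.prime_two⟩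
  have hQ1 : Q ≠ ⊥ := by
    rintro rfl
    apply hf
    intro x hx
    rw [mem_bot] at hx
    rw [hx]; simp
  set Z0 := Q ⊓ centralizer (Q : Set G) with hZ0
  haveI : Z0.Normal := by rw [hZ0]; infer_instance
  have hZ01 : Z0 ≠ ⊥ := CfsgLib.H2Prod.inf_cen hQ hQ1 hQ
  have hZ0p : IsPGroup 2 Z0 := hQ.to_le inf_le_left
  have hZc : ∀ a ∈ Z0, ∀ b ∈ Z0, a * b = b * a := fun a ha b hb => (mem_centralizer_iff.mp ha.2 b hb.1).symm
  let W : Subgroup G :=
    { carrier := {x | x ∈ Z0 ∧ x * x = 1}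
      one_mem' := ⟨one_mem _, by simp⟩
      mul_mem' := by
        rintro a b ⟨ha, ha2⟩ ⟨hb, hb2⟩
        refine ⟨mul_mem ha hb, ?_⟩
        calc a * b * (a * b) = a * (b * a) * b := by group
          _ = a * (a * b) * b := by rw [hZc _ hb _ ha]
          _ = (a * a) * (b * b) := by group
          _ = 1 := by rw [ha2, hb2, one_mul]
      inv_mem' := by
        rintro a ⟨ha, ha2⟩
        refine ⟨inv_mem ha, ?_⟩
        rw [← mul_inv_rev, ha2, inv_one] }
  have hWmem : ∀ x, x ∈ W ↔ x ∈ Z0 ∧ x * x = 1 := fun x => Iff.rfl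
  have hWZ : W ≤ Z0 := fun x hx => hx.1
  have hWQ : W ≤ Q := hWZ.trans inf_le_left
  have hW2 : ∀ a ∈ W, a * a = 1 := fun a ha => ha.2
  have hWc : ∀ a ∈ W, ∀ b ∈ W, a * b = b * a := fun a ha b hb => hZc a ha.1 b hb.1
  have hW : IsElementaryAbelian 2 W :=
    ⟨⟨⟨fun a b => Subtype.ext (hWc a a.2 b b.2)⟩⟩, fun a ha => by rw [pow_two]; exact hW2 a ha⟩
  have hWn : W.Normal := by
    refine ⟨fun w hw g => ?_⟩
    refine ⟨Normal.conj_mem inferInstance w hw.1 g, ?_⟩
    calc g * w * g⁻¹ * (g * w * g⁻¹) = g * (w * w) * g⁻¹ := by group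
      _ = 1 := by rw [hw.2]; group
  have hWp : IsPGroup 2 W := hQ.to_le hWQ
  have hW1 : W ≠ ⊥ := by
    obtain ⟨m, hm⟩ := hZ0p.exists_card_eq
    have h2 : 2 ∣ Nat.card Z0 := by
      rcases m with _ | m
      · rw [pow_zero, card_eq_one] at hm
        exact absurd hm hZ01
      · rw [hm]; exact dvd_pow_self _ (Nat.succ_ne_zero _)
    obtain ⟨⟨z, hz⟩, hzo⟩ := exists_prime_orderOf_dvd_card' 2 h2
    rw [orderOf_mk] at hzo
    have hz2 : z * z = 1 := by rw [← pow_two, ← hzo, pow_orderOf_eq_one]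
    intro h
    have : z ∈ W := ⟨hz, hz2⟩
    rw [h, mem_bot] at this
    rw [this, orderOf_one] at hzo
    omega
  have hconj : ∀ {g x : G}, g * x * g⁻¹ = x → g * x = x * g := fun h => mul_inv_eq_iff_eq_mul.mp h
  have hconj1 : ∀ {g x : G}, x ≠ 1 → g * x * g⁻¹ ≠ 1 := by
    intro g x hx h
    apply hx
    rw [mul_inv_eq_one] at h
    exact mul_eq_left.mp h
  have hdW : ∀ w ∈ W, d * w = w * d → w = 1 := fun w hw => hfpf w (hWQ hw)
  have hW4 : Nat.card W = 4 := by
    obtain ⟨m, hm⟩ := hWp.exists_card_eq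
    have h1 := hno W hWQ hW
    obtain ⟨⟨w, hw⟩, hw1⟩ := Subgroup.ne_bot_iff_exists_ne_one.mp hW1
    have hw1' : w ≠ 1 := fun h => hw1 (Subtype.ext h)
    have hm2 : m ≤ 2 := by
      by_contra h
      have : 2 ^ 3 ≤ 2 ^ m := Nat.pow_le_pow_right (by norm_num) (by omega)
      omega
    interval_cases m
    · rw [pow_zero, card_eq_one] at hm
      exact absurd hm hW1
    · exfalso
      rw [pow_one] at hm
      have := two_elt hm (hWn.conj_mem w hw d) hw (hconj1 hw1') hw1'
      exact hw1' (hdW w hw (hconj this))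
    · rw [hm]; norm_num
  have hcen : ∀ w ∈ W, ∀ x ∈ Q, w * x = x * w := fun w hw x hx => (mem_centralizer_iff.mp (hWZ hw).2 x hx).symm
  have hinv : ∀ x ∈ Q, x * x = 1 → x ∈ W := fun x hx h =>
    four_mem hno hWQ hW hW4 hx h (fun w hw => (hcen w hw x hx).symm)
  -- d ^ 3 centralizes W
  have hd3 : ∀ w ∈ W, d ^ 3 * w = w * d ^ 3 := by
    intro a ha
    by_cases ha1 : a = 1
    · rw [ha1]; simp
    set b := d * a * d⁻¹ with hb
    have hbW : b ∈ W := hWn.conj_mem a ha d
    have hb1 : b ≠ 1 := hconj1 ha1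
    have hab : a ≠ b := fun h => ha1 (hdW a ha (hconj (by rw [← hb]; exact h.symm)))
    have hc : d * b * d⁻¹ = a * b := by
      rcases CfsgLib.H2JC.four_cases hW4 hW ha hbW ha1 hb1 hab (hWn.conj_mem b hbW d) with h | h | h | h
      · exact absurd h (hconj1 hb1)
      · exfalso
        have e : d * (a * b) * d⁻¹ = a * b := by
          calc d * (a * b) * d⁻¹ = (d * a * d⁻¹) * (d * b * d⁻¹) := by group
            _ = b * a := by rw [h, ← hb]
            _ = a * b := hWc _ hbW _ ha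
        have h3 := hdW _ (mul_mem ha hbW) (hconj e)
        apply hab
        calc a = b⁻¹ := eq_inv_of_mul_eq_one_left h3
          _ = b := (eq_inv_of_mul_eq_one_left (hW2 b hbW)).symm
      · exact absurd (hdW b hbW (hconj h)) hb1
      · exact h
    have e3 : d ^ 3 * a * (d ^ 3)⁻¹ = a := by
      calc d ^ 3 * a * (d ^ 3)⁻¹ = d * (d * (d * a * d⁻¹) * d⁻¹) * d⁻¹ := by
            simp only [pow_succ, pow_zero, one_mul, mul_inv_rev, mul_assoc]
        _ = d * (a * b) * d⁻¹ := by rw [← hb, hc]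
        _ = (d * a * d⁻¹) * (d * b * d⁻¹) := by group
        _ = b * (a * b) := by rw [hc, ← hb]
        _ = a * (b * b) := by rw [← mul_assoc, hWc _ hbW _ ha, mul_assoc]
        _ = a := by rw [hW2 b hbW, mul_one]
    exact hconj e3
  set s := d ^ (3 ^ (n - 1)) with hs
  have hs3 : s ^ 3 = 1 := by
    rw [hs, ← pow_mul, ← pow_succ, Nat.sub_add_cancel (by omega)]
    exact hdn
  have hsd : s * d = d * s := by rw [hs]; exact (Commute.self_pow d _).symm
  have hsW : ∀ w ∈ W, s * w = w * s := by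
    intro w hw
    have e : s = (d ^ 3) ^ (3 ^ (n - 2)) := by
      rw [hs, ← pow_mul, ← pow_succ']
      congr 2
      omega
    rw [e]
    exact (show Commute (d ^ 3) w from hd3 w hw).pow_left _
  exact step4 (G := G) (Q := Q) (W := W) (s := s) (d := d) (n := n) hQ hWn hWQ hW4 hcen hW2 hinv hs3 hsd hdn hsW hdW
    (by rw [normalizer_eq_top]; trivial) (by rw [normalizer_eq_top]; trivial) hf


/-- Let d be a non-identity 3-element of a finite group and P a 2-subgroup normalized by d on which ⟨d⟩ acts faithfully (no non-identity power of d centralizes P) and without non-identity fixed points (C_P(d) = 1). If every abelian subgroup of P has 2-rank at most 2, then d has order 3. -/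
theorem result {X : Type*} [Group X] [Finite X] (d : X) (n : ℕ) (hn : 1 ≤ n) (hd : orderOf d = 3 ^ n) (P : Subgroup X) (hP : IsPGroup 2 P) (hdP : d ∈ Subgroup.normalizer (P : Set X)) (hfaith : Subgroup.zpowers d ⊓ Subgroup.centralizer (P : Set X) = ⊥) (hfpf : P ⊓ Subgroup.centralizer {d} = ⊥) (hrank : ∀ V : Subgroup X, V ≤ P → IsMulCommutative V → Cfsg.PRankLE 2 2 V) : orderOf d = 3 := by
  haveI f2 : Fact (Nat.Prime 2) := ⟨Nat.prime_two⟩
  by_contra hne
  have hn2 : 2 ≤ n := by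
    by_contra h
    have : n = 1 := by omega
    rw [this, pow_one] at hd
    exact hne hd
  set H := P ⊔ Subgroup.zpowers d with hH
  have hPH : P ≤ H := le_sup_left
  have hdH : d ∈ H := (le_sup_right : Subgroup.zpowers d ≤ H) (mem_zpowers d)
  have hHN : H ≤ normalizer (P : Set X) := sup_le le_normalizer (by rw [zpowers_le]; exact hdP)
  haveI hQn : (P.subgroupOf H).Normal := (normal_subgroupOf_iff_le_normalizer hPH).mpr hHN
  refine core (G := H) (Q := P.subgroupOf H) ?_ ⟨d, hdH⟩ n ?_ hn2 ?_ ?_ ?_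
  · exact hP.comap_subtype
  · apply Subtype.ext
    show d ^ (3 ^ n) = 1
    rw [← hd, pow_orderOf_eq_one]
  · rintro ⟨x, hxH⟩ hx h
    apply Subtype.ext
    have h1 : d * x = x * d := congrArg Subtype.val h
    have : x ∈ P ⊓ centralizer {d} := mem_inf.mpr ⟨hx, mem_centralizer_singleton_iff.mpr h1.symm⟩
    rw [hfpf, mem_bot] at this
    exact this
  · intro E hE hEe
    have h1 : E.map H.subtype ≤ P := by
      rintro _ ⟨x, hx, rfl⟩
      exact hE hx
    have h2 : IsMulCommutative ↥(E.map H.subtype) := by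
      refine ⟨⟨?_⟩⟩
      rintro ⟨_, a, ha, rfl⟩ ⟨_, b, hb, rfl⟩
      apply Subtype.ext
      have h5 := hEe.1.is_comm.comm ⟨a, ha⟩ ⟨b, hb⟩
      have h6 : a * b = b * a := congrArg Subtype.val h5
      show (a : X) * (b : X) = (b : X) * (a : X)
      exact congrArg Subtype.val h6
    have h3 := hrank _ h1 h2 ⊤ ⟨⟨fun a b => Subtype.ext (h2.is_comm.comm a.1 b.1)⟩⟩ (by
      rintro ⟨_, a, ha, rfl⟩ -
      apply Subtype.ext
      have h6 : a ^ 2 = 1 := hEe.2 a ha
      show (a : X) ^ 2 = 1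
      exact congrArg Subtype.val h6)
    rw [card_top, card_map_of_injective H.subtype_injective] at h3
    exact h3
  · intro h
    have h1 : d ^ (3 ^ (n - 1)) ∈ Subgroup.zpowers d ⊓ centralizer (P : Set X) := by
      refine mem_inf.mpr ⟨pow_mem (mem_zpowers d) _, mem_centralizer_iff.mpr ?_⟩
      intro x hx
      exact (congrArg Subtype.val (h ⟨x, hPH hx⟩ hx)).symm
    rw [hfaith, mem_bot] at h1
    have h2 := orderOf_dvd_of_pow_eq_one h1
    rw [hd] at h2
    have h3 := (Nat.pow_dvd_pow_iff_le_right (by norm_num : 1 < 3)).mp h2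
    omega

end Cfsg.Agent.S3738
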