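import Cfsg.Statements.S3739
import Cfsg.Agent.LibH2JF3
import Cfsg.Agent.LibLE11Basic

set_option autoImplicit false
open Cfsg

namespace Cfsg.Agent.S3739

open Subgroup Cfsg CfsgLib.H2JF
open scoped Pointwise commutatorElement

section
variable {G : Type*} [Group G] [Finite G]

theorem small_aux (hno : ∀ E : Subgroup G, IsElementaryAbelian 2 E → Nat.card E ≠ 8) {E : Subgroup G}
    (hE : IsElementaryAbelian 2 E) : Nat.card E ≤ 4 := by
  haveI : Fact (Nat.Prime 2) := ⟨Nat.prime_two⟩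
  have hEp : IsPGroup 2 E := fun a => ⟨1, Subtype.ext (by rw [pow_one]; exact hE.2 a a.2)⟩
  obtain ⟨m, hm⟩ := hEp.exists_card_eq
  by_contra hlt
  have h3 : 3 ≤ m := by
    by_contra h
    have : m ≤ 2 := by omega
    have : 2 ^ m ≤ 2 ^ 2 := Nat.pow_le_pow_right (by norm_num) this
    omega
  obtain ⟨K, hK⟩ := Sylow.exists_subgroup_card_pow_prime (G := E) 2 (n := 3) (by rw [hm]; exact pow_dvd_pow _ h3)
  apply hno (K.map E.subtype)
  · refine ⟨⟨⟨?_⟩⟩, ?_⟩
    · rintro ⟨_, a, ha, rfl⟩ ⟨_, b, hb, rfl⟩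
      apply Subtype.ext
      have := hE.1.is_comm.comm a b
      show (a : G) * b = b * a
      exact congrArg Subtype.val this
    · rintro _ ⟨a, ha, rfl⟩
      exact hE.2 a a.2
  · rw [card_map_of_injective E.subtype_injective, hK]; norm_num

theorem four_mem (hno : ∀ E : Subgroup G, IsElementaryAbelian 2 E → Nat.card E ≠ 8) {W : Subgroup G}
    (hW : IsElementaryAbelian 2 W) (hW4 : Nat.card W = 4) {c : G} (hc2 : c * c = 1) (hc : ∀ w ∈ W, c * w = w * c) :
    c ∈ W := by
  by_contra hcW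
  have hWc : ∀ a ∈ W, ∀ b ∈ W, a * b = b * a := fun a ha b hb =>
    congrArg Subtype.val (hW.1.is_comm.comm ⟨a, ha⟩ ⟨b, hb⟩)
  have hW2 : ∀ a ∈ W, a * a = 1 := fun a ha => by rw [← pow_two]; exact hW.2 a ha
  let E : Subgroup G :=
    { carrier := {g | ∃ w ∈ W, g = w ∨ g = w * c}
      one_mem' := ⟨1, one_mem _, Or.inl rfl⟩
      mul_mem' := by
        rintro a b ⟨w, hw, rfl | rfl⟩ ⟨w', hw', rfl | rfl⟩
        · exact ⟨_, mul_mem hw hw', Or.inl rfl⟩
        · exact ⟨_, mul_mem hw hw', Or.inr (by rw [mul_assoc])⟩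
        · exact ⟨_, mul_mem hw hw', Or.inr (by rw [mul_assoc, hc _ hw', mul_assoc])⟩
        · refine ⟨_, mul_mem hw hw', Or.inl ?_⟩
          calc w * c * (w' * c) = w * (c * w') * c := by group
            _ = w * (w' * c) * c := by rw [hc _ hw']
            _ = w * w' * (c * c) := by group
            _ = w * w' := by rw [hc2, mul_one]
      inv_mem' := by
        rintro a ⟨w, hw, rfl | rfl⟩
        · exact ⟨_, inv_mem hw, Or.inl rfl⟩
        · refine ⟨_, inv_mem hw, Or.inr ?_⟩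
          have : c⁻¹ = c := (eq_inv_of_mul_eq_one_left hc2).symm
          rw [mul_inv_rev, this, hc _ (inv_mem hw)] }
  have hWE : W ≤ E := fun w hw => ⟨w, hw, Or.inl rfl⟩
  have hcE : c ∈ E := ⟨1, one_mem _, Or.inr (one_mul c).symm⟩
  have hE : IsElementaryAbelian 2 E := by
    refine ⟨⟨⟨?_⟩⟩, ?_⟩
    · rintro ⟨g, w, hw, h1⟩ ⟨g', w', hw', h2⟩
      apply Subtype.ext
      show g * g' = g' * g
      have k1 : Commute w w' := hWc _ hw _ hw'
      have k2 : Commute c w := hc _ hw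
      have k3 : Commute c w' := hc _ hw'
      rcases h1 with h1 | h1 <;> rcases h2 with h2 | h2 <;> rw [h1, h2]
      · exact k1
      · exact k1.mul_right k2.symm
      · exact k1.mul_left k3
      · exact (k1.mul_left k3).mul_right (k2.symm.mul_left (Commute.refl c))
    · rintro _ ⟨w, hw, rfl | rfl⟩
      · exact hW.2 _ hw
      · rw [pow_two]
        calc w * c * (w * c) = w * (c * w) * c := by group
          _ = w * (w * c) * c := by rw [hc _ hw]
          _ = (w * w) * (c * c) := by group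
          _ = 1 := by rw [hc2, mul_one, hW2 _ hw]
  have h1 := small_aux hno hE
  have h2 : W = E := eq_of_le_of_card_ge hWE (by rw [hW4]; exact h1)
  apply hcW
  rw [h2]; exact hcE

theorem two_elt {K : Subgroup G} (h : Nat.card K = 2) {x y : G} (hx : x ∈ K) (hy : y ∈ K) (hx1 : x ≠ 1) (hy1 : y ≠ 1) :
    x = y := by
  obtain ⟨z, -, hz⟩ := (Nat.card_eq_two_iff' (1 : K)).mp h
  have e1 := hz ⟨x, hx⟩ (fun h => hx1 (congrArg Subtype.val h))
  have e2 := hz ⟨y, hy⟩ (fun h => hy1 (congrArg Subtype.val h))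
  exact congrArg Subtype.val (e1.trans e2.symm)

end


/-- Let G be a finite group with C_G(O₂(G)) ≤ O₂(G) containing an element of order 6, and let d be a non-identity 3-element of G normalizing a nontrivial elementary abelian 2-subgroup W with C_W(d) = 1. Then G has an elementary abelian subgroup of order 8. -/
theorem result {G : Type*} [Group G] [Finite G] (hchar : Subgroup.centralizer (Cfsg.pCore 2 G : Set G) ≤ Cfsg.pCore 2 G) (hsix : ∃ g : G, orderOf g = 6) (d : G) (hd1 : d ≠ 1) (hd : IsPGroup 3 ↥(Subgroup.zpowers d)) (W : Subgroup G) (hW : Cfsg.IsElementaryAbelian 2 W) (hW1 : W ≠ ⊥) (hdW : d ∈ Subgroup.normalizer (W : Set G)) (hfpf : W ⊓ Subgroup.centralizer {d} = ⊥) : ∃ E : Subgroup G, Cfsg.IsElementaryAbelian 2 E ∧ Nat.card E = 8 := by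
  haveI f2 : Fact (Nat.Prime 2) := ⟨Nat.prime_two⟩
  haveI f3 : Fact (Nat.Prime 3) := ⟨Nat.prime_three⟩
  by_contra hno'
  have hno : ∀ E : Subgroup G, IsElementaryAbelian 2 E → Nat.card E ≠ 8 := fun E hE h => hno' ⟨E, hE, h⟩
  set Q := pCore 2 G with hQdef
  have hQ : IsPGroup 2 Q := CfsgLib.LE11Basic.isPGroup_pCore 2 G
  have hWc : ∀ a ∈ W, ∀ b ∈ W, a * b = b * a := fun a ha b hb =>
    congrArg Subtype.val (hW.1.is_comm.comm ⟨a, ha⟩ ⟨b, hb⟩)
  have hW2 : ∀ a ∈ W, a * a = 1 := fun a ha => by rw [← pow_two]; exact hW.2 a ha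
  have hWinv : ∀ a ∈ W, a⁻¹ = a := fun a ha => (eq_inv_of_mul_eq_one_left (hW2 a ha)).symm
  have hdW : ∀ w ∈ W, d * w = w * d → w = 1 := by
    intro w hw h
    have : w ∈ W ⊓ centralizer {d} := mem_inf.mpr ⟨hw, mem_centralizer_singleton_iff.mpr h.symm⟩
    rw [hfpf, mem_bot] at this
    exact this
  have hWp : IsPGroup 2 W := fun a => ⟨1, Subtype.ext (by rw [pow_one]; exact hW.2 a a.2)⟩
  have hconj : ∀ {g x : G}, g * x * g⁻¹ = x → g * x = x * g := fun h => mul_inv_eq_iff_eq_mul.mp h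
  have hconj1 : ∀ {g x : G}, x ≠ 1 → g * x * g⁻¹ ≠ 1 := by
    intro g x hx h
    apply hx
    rw [mul_inv_eq_one] at h
    exact mul_eq_left.mp h
  have hdW0 : d ∈ normalizer (W : Set G) := ‹d ∈ normalizer (W : Set G)›
  -- |W| = 4
  have hW4 : Nat.card W = 4 := by
    obtain ⟨m, hm⟩ := hWp.exists_card_eq
    have h1 := small_aux hno hW
    obtain ⟨⟨w, hw⟩, hw1⟩ := Subgroup.ne_bot_iff_exists_ne_one.mp hW1
    have hw1' : w ≠ 1 := fun h => hw1 (Subtype.ext h)
    have hm2 : m ≤ 2 := by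
      by_contra h
      have : 2 ^ 3 ≤ 2 ^ m := Nat.pow_le_pow_right (by norm_num) (by omega)
      omega
    interval_cases m
    · rw [pow_zero, card_eq_one] at hm
      exact absurd hm hW1
    · exfalso
      rw [pow_one] at hm
      have := two_elt hm (conj_mem hdW0 hw) hw (hconj1 hw1') hw1'
      exact hw1' (hdW w hw (hconj this))
    · rw [hm]; norm_num
  have hQ1 : Q ≠ ⊥ := by
    intro h
    rw [h] at hchar
    apply hd1
    have : d ∈ centralizer (((⊥ : Subgroup G) : Subgroup G) : Set G) := by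
      rw [mem_centralizer_iff]
      intro x hx
      rw [SetLike.mem_coe, mem_bot] at hx
      rw [hx]; simp
    have := hchar this
    rwa [mem_bot] at this
  haveI hQn : Q.Normal := Cfsg.pCore_normal 2 G
  set Z0 := Q ⊓ centralizer (Q : Set G) with hZ0
  haveI : Z0.Normal := by rw [hZ0]; infer_instance
  have hZ01 : Z0 ≠ ⊥ := CfsgLib.H2Prod.inf_cen hQ hQ1 hQ
  have hZ0p : IsPGroup 2 Z0 := hQ.to_le inf_le_left
  have hT1 := CfsgLib.H2Prod.inf_cen hZ0p hZ01 hWp
  obtain ⟨z, hzZ, hzW, hz1, hz2⟩ : ∃ z ∈ Z0, z ∈ W ∧ z ≠ 1 ∧ z * z = 1 := by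
    have hTp : IsPGroup 2 ↥(Z0 ⊓ centralizer (W : Set G)) := hZ0p.to_le inf_le_left
    obtain ⟨m, hm⟩ := hTp.exists_card_eq
    have h2 : 2 ∣ Nat.card ↥(Z0 ⊓ centralizer (W : Set G)) := by
      rcases m with _ | m
      · rw [pow_zero, card_eq_one] at hm
        exact absurd hm hT1
      · rw [hm]; exact dvd_pow_self _ (Nat.succ_ne_zero _)
    obtain ⟨⟨z, hz⟩, hzo⟩ := exists_prime_orderOf_dvd_card' 2 h2
    rw [orderOf_mk] at hzo
    have hz2 : z * z = 1 := by rw [← pow_two, ← hzo, pow_orderOf_eq_one]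
    refine ⟨z, hz.1, ?_, ?_, hz2⟩
    · apply four_mem hno hW hW4 hz2
      intro w hw
      exact (mem_centralizer_iff.mp hz.2 w hw).symm
    · rintro rfl
      rw [orderOf_one] at hzo
      omega
  have hWZ : W ≤ Z0 := by
    have h1 : Nat.card ↥(W ⊓ Z0) ∣ 2 ^ 2 := by
      have := card_dvd_of_le (inf_le_left : W ⊓ Z0 ≤ W)
      rw [hW4] at this
      exact this
    obtain ⟨i, hi, hi'⟩ := (Nat.dvd_prime_pow Nat.prime_two).mp h1
    interval_cases i
    · rw [pow_zero, card_eq_one] at hi'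
      exfalso
      apply hz1
      rw [← mem_bot, ← hi']
      exact mem_inf.mpr ⟨hzW, hzZ⟩
    · exfalso
      rw [pow_one] at hi'
      have h3 : d * z * d⁻¹ ∈ W ⊓ Z0 := mem_inf.mpr ⟨conj_mem hdW0 hzW, Normal.conj_mem inferInstance z hzZ d⟩
      have := two_elt hi' h3 (mem_inf.mpr ⟨hzW, hzZ⟩) (hconj1 hz1) hz1
      exact hz1 (hdW z hzW (hconj this))
    · have : W ⊓ Z0 = W := eq_of_le_of_card_ge inf_le_left (by rw [hi', hW4]; norm_num)
      exact inf_eq_left.mp this
  have hWQ : W ≤ Q := hWZ.trans inf_le_left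
  have hcen : ∀ w ∈ W, ∀ x ∈ Q, w * x = x * w := fun w hw x hx => (mem_centralizer_iff.mp (hWZ hw).2 x hx).symm
  have hinv : ∀ x ∈ Q, x * x = 1 → x ∈ W := fun x hx h =>
    four_mem hno hW hW4 h (fun w hw => (hcen w hw x hx).symm)
  have hWn : W.Normal := by
    refine ⟨fun w hw g => ?_⟩
    apply hinv _ (hQn.conj_mem w (hWQ hw) g)
    calc g * w * g⁻¹ * (g * w * g⁻¹) = g * (w * w) * g⁻¹ := by group
      _ = 1 := by rw [hW2 w hw]; group
  -- an element of order 3 centralizing W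
  obtain ⟨s0, hs03, hs01, hs0W⟩ : ∃ s0 : G, s0 ^ 3 = 1 ∧ s0 ≠ 1 ∧ ∀ w ∈ W, s0 * w = w * s0 := by
    obtain ⟨g, hg⟩ := hsix
    have hg6 : g ^ 6 = 1 := by rw [← hg, pow_orderOf_eq_one]
    have hs03 : (g ^ 2) ^ 3 = 1 := by rw [← pow_mul]; exact hg6
    have ht2 : g ^ 3 * g ^ 3 = 1 := by rw [← pow_add]; exact hg6
    have hst : g ^ 2 * g ^ 3 = g ^ 3 * g ^ 2 := by rw [← pow_add, ← pow_add]
    have hs01 : g ^ 2 ≠ 1 := by
      intro h
      have := orderOf_dvd_of_pow_eq_one h
      rw [hg] at this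
      have := Nat.le_of_dvd (by norm_num) this
      omega
    have ht1 : g ^ 3 ≠ 1 := by
      intro h
      have := orderOf_dvd_of_pow_eq_one h
      rw [hg] at this
      have := Nat.le_of_dvd (by norm_num) this
      omega
    set s0 := g ^ 2 with hs0
    set t := g ^ 3 with ht
    refine ⟨s0, hs03, hs01, ?_⟩
    obtain ⟨z, hzW, hz1, hz⟩ : ∃ z ∈ W, z ≠ 1 ∧ s0 * z = z * s0 := by
      by_cases htW : t ∈ W
      · exact ⟨t, htW, ht1, hst⟩
      obtain ⟨w, hw, hwt⟩ : ∃ w ∈ W, t * w ≠ w * t := by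
        by_contra hcon
        push Not at hcon
        exact htW (four_mem hno hW hW4 ht2 hcon)
      have ht' : t * w * t⁻¹ ∈ W := hWn.conj_mem w hw t
      have hz : t * (w * (t * w * t⁻¹)) = (w * (t * w * t⁻¹)) * t := by
        have e : t * (w * (t * w * t⁻¹)) = (t * w * t⁻¹) * ((t * t) * w) * t⁻¹ := by group
        have e2 : t⁻¹ = t := (eq_inv_of_mul_eq_one_left ht2).symm
        rw [e, ht2, one_mul, hWc _ ht' _ hw, e2]
      have hz1 : w * (t * w * t⁻¹) ≠ 1 := by
        intro h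
        apply hwt
        apply hconj
        have := eq_inv_of_mul_eq_one_right h
        rw [this, hWinv w hw]
      have hzW : w * (t * w * t⁻¹) ∈ W := mul_mem hw ht'
      set z := w * (t * w * t⁻¹) with hzd
      refine ⟨z, hzW, hz1, ?_⟩
      have hz'W : s0 * z * s0⁻¹ ∈ W := hWn.conj_mem z hzW s0
      have hz't : t * (s0 * z * s0⁻¹) = (s0 * z * s0⁻¹) * t := by
        have c1 : t * s0 = s0 * t := hst.symm
        have c2 : t * s0⁻¹ = s0⁻¹ * t := by
          rw [eq_inv_mul_iff_mul_eq, ← mul_assoc, hst, mul_assoc, mul_inv_cancel, mul_one]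
        calc t * (s0 * z * s0⁻¹) = (t * s0) * z * s0⁻¹ := by group
          _ = s0 * (t * z) * s0⁻¹ := by rw [c1]; group
          _ = s0 * z * (t * s0⁻¹) := by rw [hz]; group
          _ = (s0 * z * s0⁻¹) * t := by rw [c2]; group
      apply hconj
      by_contra hne
      rcases CfsgLib.H2JC.four_cases hW4 hW hzW hz'W hz1 (hconj1 hz1) (Ne.symm hne) hw with h | h | h | h
      · apply hwt; rw [h]; simp
      · apply hwt; rw [h]; exact hz
      · apply hwt; rw [h]; exact hz't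
      · apply hwt
        rw [h]
        exact (show Commute t z from hz).mul_right (show Commute t _ from hz't)
    intro w hw
    by_contra hne
    have hw1 : w ≠ 1 := by rintro rfl; exact hne (by simp)
    have hwz : z ≠ w := by rintro rfl; exact hne hz
    have hw' : s0 * w * s0⁻¹ ∈ W := hWn.conj_mem w hw s0
    rcases CfsgLib.H2JC.four_cases hW4 hW hzW hw hz1 hw1 hwz hw' with h | h | h | h
    · exact hconj1 hw1 h
    · apply hwz
      have h3 : w = s0⁻¹ * z * s0 := by rw [← h]; group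
      rw [h3, mul_assoc, ← hz]; group
    · exact hne (hconj h)
    · have h3 : s0 * w = z * w * s0 := by rw [← h]; group
      have h4 : (s0 * s0) * w = w * (s0 * s0) := by
        calc (s0 * s0) * w = s0 * (s0 * w) := by group
          _ = (s0 * z) * w * s0 := by rw [h3]; group
          _ = z * (s0 * w) * s0 := by rw [hz]; group
          _ = (z * z) * w * (s0 * s0) := by rw [h3]; group
          _ = w * (s0 * s0) := by rw [hW2 z hzW, one_mul]
      have h5 : s0 = (s0 * s0) * (s0 * s0) := by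
        have : (s0 * s0) * (s0 * s0) = s0 * s0 ^ 3 := by
          simp only [pow_succ, pow_zero, one_mul, mul_assoc]
        rw [this, hs03, mul_one]
      apply hne
      have h6 : Commute (s0 * s0) w := h4
      have h7 : Commute ((s0 * s0) * (s0 * s0)) w := h6.mul_left h6
      rw [← h5] at h7
      exact h7
  -- a Sylow 3-subgroup
  obtain ⟨P, hP⟩ := hd.exists_le_sylow
  have hdP : d ∈ P := hP (mem_zpowers d)
  have hs0p : IsPGroup 3 (zpowers s0) := IsPGroup.of_card (n := 1) (by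
    rw [Nat.card_zpowers, pow_one]
    exact orderOf_eq_prime hs03 hs01)
  obtain ⟨P', hP'⟩ := hs0p.exists_le_sylow
  obtain ⟨g, hg⟩ := MulAction.exists_smul_eq G P' P
  have hs0P' : s0 ∈ P' := hP' (mem_zpowers s0)
  have hs1P : g * s0 * g⁻¹ ∈ P := by
    rw [← hg]
    exact Subgroup.mem_smul_pointwise_iff_exists _ _ _ |>.mpr ⟨s0, hs0P', rfl⟩
  set C := centralizer (W : Set G) with hC
  haveI : C.Normal := by rw [hC]; haveI := hWn; infer_instance
  have hs0C : s0 ∈ C := mem_centralizer_iff.mpr (fun w hw => (hs0W w hw).symm)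
  have hs1C : g * s0 * g⁻¹ ∈ C := Normal.conj_mem inferInstance s0 hs0C g
  have hne : C.subgroupOf (P : Subgroup G) ≠ ⊥ := by
    intro h
    have : (⟨g * s0 * g⁻¹, hs1P⟩ : P) ∈ C.subgroupOf (P : Subgroup G) := hs1C
    rw [h, mem_bot] at this
    exact hconj1 hs01 (congrArg Subtype.val this)
  haveI := P.isPGroup'.isNilpotent
  have hcenP := CfsgLib.SolvNilp.inf_center_ne_bot (C.subgroupOf (P : Subgroup G)) hne
  obtain ⟨s, hsC, hsP, hs3, hs1⟩ : ∃ s : G, s ∈ C ∧ (∀ x ∈ P, x * s = s * x) ∧ s ^ 3 = 1 ∧ s ≠ 1 := by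
    have hTp : IsPGroup 3 ↥(C.subgroupOf (P : Subgroup G) ⊓ center P) := P.isPGroup'.to_subgroup _
    obtain ⟨m, hm⟩ := hTp.exists_card_eq
    have h2 : 3 ∣ Nat.card ↥(C.subgroupOf (P : Subgroup G) ⊓ center P) := by
      rcases m with _ | m
      · rw [pow_zero, card_eq_one] at hm
        exact absurd hm hcenP
      · rw [hm]; exact dvd_pow_self _ (Nat.succ_ne_zero _)
    obtain ⟨⟨⟨s, hsP⟩, hs⟩, hso⟩ := exists_prime_orderOf_dvd_card' 3 h2
    rw [orderOf_mk, orderOf_mk] at hso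
    refine ⟨s, hs.1, ?_, by rw [← hso, pow_orderOf_eq_one], ?_⟩
    · intro x hx
      exact congrArg Subtype.val (mem_center_iff.mp hs.2 ⟨x, hx⟩)
    · rintro rfl
      rw [orderOf_one] at hso
      omega
  obtain ⟨n, hn⟩ := hd ⟨d, mem_zpowers d⟩
  have hdn : d ^ (3 ^ n) = 1 := congrArg Subtype.val hn
  refine step4 (G := G) (Q := Q) (W := W) (s := s) (d := d) (n := n) hQ hWn hWQ hW4 hcen hW2 hinv hs3 (hsP d hdP).symm hdn
    (fun w hw => (mem_centralizer_iff.mp hsC w hw).symm) hdW ?_ ?_ ?_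
  · rw [normalizer_eq_top]; trivial
  · rw [normalizer_eq_top]; trivial
  · intro h
    have hsQ : s ∈ Q := hchar (mem_centralizer_iff.mpr (fun x hx => (h x hx).symm))
    apply hs1
    apply cube_one hQ hsQ
    rw [← hs3, pow_succ, pow_two]

end Cfsg.Agent.S3739
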