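import Cfsg.Statements.S3770
import Cfsg.Agent.LibSGApp
import Cfsg.Agent.LibCores
import Cfsg.Agent.LibFgFOT2
import Cfsg.Agent.S0042

set_option autoImplicit false
open Cfsg

namespace Cfsg.Agent.S3770

open scoped commutatorElement

/-- Let G and V be subgroups of a finite group with G a Frobenius group with complement R of prime order and kernel K, G normalizing V, and V an elementary abelian ℓ-group for a prime ℓ not dividing the order of G. If C_V(R) has order ℓ, then the derived subgroup of K centralizes V. -/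
theorem result {X : Type*} [Group X] [Finite X] (G : Subgroup X) (V : Subgroup X) {ℓ : ℕ} (hℓ : ℓ.Prime) (hV : Cfsg.IsElementaryAbelian ℓ V) (hℓG : ¬ ℓ ∣ Nat.card G) (hGV : G ≤ Subgroup.normalizer (V : Set X)) (R : Subgroup ↥G) (hR : Cfsg.IsFrobeniusComplement R) (hRp : (Nat.card R).Prime) (hCV : Nat.card ↥(V ⊓ Subgroup.centralizer ((R.map G.subtype : Subgroup X) : Set X)) = ℓ) : ⁅Subgroup.closure (Subtype.val '' Cfsg.frobeniusKernel R), Subgroup.closure (Subtype.val '' Cfsg.frobeniusKernel R)⁆ ≤ Subgroup.centralizer (V : Set X) := by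

  classical
  obtain ⟨K, hK, hf⟩ := CfsgLib.FgFOT.Frob.of_compl hR
  obtain ⟨N, hN, _, hNn⟩ := Cfsg.Agent.S0042.result R hR
  have hKN : N = K := SetLike.coe_injective (hN.trans hK.symm)
  subst hKN
  haveI := hNn
  haveI := hf.normal
  haveI : Fact ℓ.Prime := ⟨hℓ⟩
  set r := Nat.card R with hr
  haveI : Fact r.Prime := ⟨hRp⟩
  obtain ⟨x, hx⟩ := exists_prime_orderOf_dvd_card' (G := R) r dvd_rfl
  have hx1 : (x : G) ≠ 1 := by
    intro h
    have h2 : x = 1 := Subtype.ext h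
    rw [h2, orderOf_one] at hx
    exact hRp.one_lt.ne hx
  have hxr : ((x : G) : X) ^ r = 1 := by
    have h1 := pow_orderOf_eq_one x
    rw [hx] at h1
    exact congrArg (fun y : R => ((y : G) : X)) h1
  have hgen : ∀ y ∈ R.map G.subtype, ∃ k : ℤ, ((x : G) : X) ^ k = y := by
    rintro _ ⟨y, hy, rfl⟩
    have h1 : Subgroup.zpowers x = ⊤ := by
      apply Subgroup.eq_top_of_card_eq
      rw [Nat.card_zpowers, hx, hr]
    have h2 : (⟨y, hy⟩ : R) ∈ Subgroup.zpowers x := h1 ▸ Subgroup.mem_top _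
    obtain ⟨k, hk⟩ := Subgroup.mem_zpowers_iff.1 h2
    exact ⟨k, congrArg (fun y : R => ((y : G) : X)) hk⟩
  have hVc : ∀ v ∈ V, ∀ w ∈ V, v * w = w * v := fun v hv w hw =>
    congrArg Subtype.val (hV.1.is_comm.comm ⟨v, hv⟩ ⟨w, hw⟩)
  letI : CommGroup V := { (inferInstance : Group V) with mul_comm := fun a b => Subtype.ext (hVc a a.2 b b.2) }
  obtain ⟨F, i1, i2, i3, W, i4, i5, i6, ρ₀, hinj, _, hker⟩ := CfsgLib.SGLz2.linearize2 (r := ℓ) (V := V) (fun x => Subtype.ext (hV.2 x x.2))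
  have hxV : ((x : G) : X) ∈ Subgroup.normalizer (V : Set X) := hGV (x : G).2
  set t := CfsgLib.SGApp.cnj V ⟨((x : G) : X), hxV⟩ with ht
  have hdim : Module.finrank F (LinearMap.ker (ρ₀ t - 1)) ≤ 1 := by
    apply le_of_eq
    apply hker
    rw [pow_one, ← hCV]
    apply Nat.card_congr
    refine ⟨fun v => ⟨((v : V) : X), ?_⟩, fun v => ⟨⟨(v : X), ?_⟩, ?_⟩, fun v => rfl, fun v => rfl⟩
    · refine Subgroup.mem_inf.2 ⟨(v : V).2, ?_⟩
      rw [Subgroup.mem_centralizer_iff]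
      intro y hy
      obtain ⟨k, rfl⟩ := hgen y hy
      have h1 : ((x : G) : X) * ((v : V) : X) * ((x : G) : X)⁻¹ = ((v : V) : X) := congrArg Subtype.val v.2
      exact ((show Commute ((x : G) : X) ((v : V) : X) from mul_inv_eq_iff_eq_mul.1 h1).zpow_left k).eq
    · exact (Subgroup.mem_inf.1 v.2).1
    · apply Subtype.ext
      show ((x : G) : X) * (v : X) * ((x : G) : X)⁻¹ = (v : X)
      rw [mul_inv_eq_iff_eq_mul]
      exact Subgroup.mem_centralizer_iff.1 (Subgroup.mem_inf.1 v.2).2 _ ⟨_, x.2, rfl⟩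
  have hTr : (ρ₀ t) ^ r = 1 := by
    rw [← map_pow, ht, ← map_pow]
    have h1 : (⟨((x : G) : X), hxV⟩ : Subgroup.normalizer (V : Set X)) ^ r = 1 := Subtype.ext hxr
    rw [h1, map_one, map_one]
  -- the cores of the kernel
  have hGVm : ∀ g : G, (g : X) ∈ Subgroup.normalizer (V : Set X) := fun g => hGV g.2
  have hsame : ∀ q : ℕ, q.Prime → ∀ a ∈ Cfsg.pCore q N, ∀ b ∈ Cfsg.pCore q N, (((⁅a, b⁆ : N) : G) : X) ∈ Subgroup.centralizer (V : Set X) := by
    intro q hq a ha b hb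
    haveI : Fact q.Prime := ⟨hq⟩
    have hQp := CfsgLib.Cores.pCore_isPGroup (G := N) q
    by_cases hqℓ : q = ℓ
    · have ha1 : a = 1 := by
        obtain ⟨l, hl⟩ := hQp ⟨a, ha⟩
        have h1 : a ^ q ^ l = 1 := congrArg Subtype.val hl
        rw [← orderOf_eq_one_iff]
        have h2 : q.Coprime (Nat.card N) := by
          rw [Nat.Prime.coprime_iff_not_dvd hq, hqℓ]
          exact fun h => hℓG (h.trans (Subgroup.card_subgroup_dvd_card N))
        exact Nat.eq_one_of_dvd_coprimes (h2.pow_left l) (orderOf_dvd_of_pow_eq_one h1) (orderOf_dvd_natCard a)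
      rw [ha1, commutatorElement_one_left]
      exact one_mem _
    have hqF : (q : F) ≠ 0 := by
      intro h
      rw [CharP.cast_eq_zero_iff F ℓ] at h
      exact hqℓ ((Nat.prime_dvd_prime_iff_eq hℓ hq).1 h).symm
    -- the automorphism
    let c : MulAut N := MulAut.conjNormal (x : G)
    have hc : ∀ y : N, ((c y : N) : G) = x * y * (x : G)⁻¹ := fun y => MulAut.conjNormal_apply _ _
    have hQσ : ∀ y, c y ∈ Cfsg.pCore q N ↔ y ∈ Cfsg.pCore q N := by
      apply CfsgLib.SGProp1.inv_iff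
      intro y hy
      exact Subgroup.characteristic_iff_map_le.1 (CfsgLib.Cores.pCore_characteristic (G := N) q) c ⟨_, hy, rfl⟩
    let ρ : Cfsg.pCore q N →* Module.End F W :=
      { toFun := fun y => ρ₀ (CfsgLib.SGApp.cnj V ⟨(((y : N) : G) : X), hGVm _⟩)
        map_one' := by
          rw [show (⟨((((1 : Cfsg.pCore q N) : N) : G) : X), hGVm _⟩ : Subgroup.normalizer (V : Set X)) = 1 from rfl, map_one, map_one]
        map_mul' := by
          intro y z
          rw [← map_mul, ← map_mul]; rfl }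
    have hρ : ∀ y : Cfsg.pCore q N, ρ y = ρ₀ (CfsgLib.SGApp.cnj V ⟨(((y : N) : G) : X), hGVm _⟩) := fun y => rfl
    have key := CfsgLib.SGApp.one_dim (F := F) (p := r) hqF hQp (CfsgLib.SGProp1.rs c _ hQσ) (by
      intro y hy
      have h1 : c (y : N) = y := congrArg Subtype.val hy
      have h2 : (x : G) * ((y : N) : G) * (x : G)⁻¹ = ((y : N) : G) := by rw [← hc, h1]
      rcases hf.fpf (x : G) x.2 ((y : N) : G) (y : N).2 (mul_inv_eq_iff_eq_mul.1 h2) with h3 | h3
      · exact absurd h3 hx1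
      · exact Subtype.ext (Subtype.ext h3)) _ W le_rfl ρ (ρ₀ t) (by
      intro y
      rw [hρ, hρ, ← map_mul, ← map_mul, ht, ← map_mul, ← map_mul]
      congr 2
      apply Subtype.ext
      show ((x : G) : X) * (((y : N) : G) : X) = ((((CfsgLib.SGProp1.rs c _ hQσ y : Cfsg.pCore q N) : N) : G) : X) * ((x : G) : X)
      rw [CfsgLib.SGProp1.rs_apply, hc]
      show _ = (((x : G) * ((y : N) : G) * (x : G)⁻¹ : G) : X) * ((x : G) : X)
      rw [← Subgroup.coe_mul, ← Subgroup.coe_mul, inv_mul_cancel_right]) hTr hdim ⟨a, ha⟩ ⟨b, hb⟩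
    rw [hρ, ← map_one ρ₀] at key
    have h1 := hinj key
    rw [← map_one (CfsgLib.SGApp.cnj V), CfsgLib.SGApp.cnj_eq_iff] at h1
    rw [Subgroup.mem_centralizer_iff]
    intro v hv
    have h2 := h1 v hv
    have h3 : (((⁅a, b⁆ : N) : G) : X) * v * (((⁅a, b⁆ : N) : G) : X)⁻¹ = v := by
      refine h2.trans ?_
      show (1 : X) * v * (1 : X)⁻¹ = v
      group
    exact (mul_inv_eq_iff_eq_mul.1 h3).symm
  have hdiff : ∀ q q₁ : ℕ, q.Prime → q₁.Prime → q ≠ q₁ → ∀ a ∈ Cfsg.pCore q N, ∀ b ∈ Cfsg.pCore q₁ N, ⁅a, b⁆ = 1 := by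
    intro q q₁ hq hq₁ hne a ha b hb
    haveI : Fact q.Prime := ⟨hq⟩
    haveI : Fact q₁.Prime := ⟨hq₁⟩
    have h1 : Disjoint (Cfsg.pCore q N) (Cfsg.pCore q₁ N) :=
      IsPGroup.disjoint_of_ne q q₁ hne _ _ (CfsgLib.Cores.pCore_isPGroup (G := N) q) (CfsgLib.Cores.pCore_isPGroup (G := N) q₁)
    have h2 := Subgroup.commute_of_normal_of_disjoint (Cfsg.pCore q N) (Cfsg.pCore q₁ N) inferInstance inferInstance h1 a b ha hb
    rw [commutatorElement_eq_one_iff_mul_comm]
    exact h2.eq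
  -- the centre modulo the centralizer
  set C := Subgroup.centralizer (V : Set X) with hC
  have hconj : ∀ g : G, ∀ c ∈ C, (g : X) * c * (g : X)⁻¹ ∈ C := by
    intro g c hc
    rw [hC, Subgroup.mem_centralizer_iff] at hc ⊢
    intro v hv
    have h1 : (g : X)⁻¹ * v * g ∈ V := by
      have h2 := (Subgroup.mem_normalizer_iff.1 (inv_mem (hGVm g)) v).1 hv
      rwa [inv_inv] at h2
    have h2 := hc _ h1
    calc v * ((g : X) * c * (g : X)⁻¹) = g * (((g : X)⁻¹ * v * g) * c) * (g : X)⁻¹ := by group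
      _ = g * (c * ((g : X)⁻¹ * v * g)) * (g : X)⁻¹ := by rw [h2]
      _ = _ := by group
  let P : N → N → Prop := fun a b => (((⁅a, b⁆ : N) : G) : X) ∈ C
  have hPr : ∀ a b b' : N, P a b → P a b' → P a (b * b') := by
    intro a b b' h1 h2
    have h3 : ⁅a, b * b'⁆ = ⁅a, b⁆ * (b * ⁅a, b'⁆ * b⁻¹) := by simp only [commutatorElement_def]; group
    show (((⁅a, b * b'⁆ : N) : G) : X) ∈ C
    rw [h3]
    exact mul_mem h1 (hconj (b : G) _ h2)
  have hPri : ∀ a b : N, P a b → P a b⁻¹ := by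
    intro a b h1
    have h3 : ⁅a, b⁻¹⁆ = b⁻¹ * ⁅a, b⁆⁻¹ * b⁻¹⁻¹ := by simp only [commutatorElement_def]; group
    show (((⁅a, b⁻¹⁆ : N) : G) : X) ∈ C
    rw [h3]
    exact hconj ((b⁻¹ : N) : G) _ (inv_mem h1)
  have hPsymm : ∀ a b : N, P a b → P b a := by
    intro a b h1
    have h3 : ⁅b, a⁆ = ⁅a, b⁆⁻¹ := (commutatorElement_inv a b).symm
    show (((⁅b, a⁆ : N) : G) : X) ∈ C
    rw [h3]
    exact inv_mem h1
  let D : N → Subgroup N := fun a =>
    { carrier := {b | P a b}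
      mul_mem' := fun {b b'} h1 h2 => hPr a b b' h1 h2
      one_mem' := by
        show (((⁅a, 1⁆ : N) : G) : X) ∈ C
        rw [commutatorElement_one_right]; exact one_mem _
      inv_mem' := fun {b} h1 => hPri a b h1 }
  have hFt : (⨆ q : Nat.Primes, Cfsg.pCore (q : ℕ) N) = ⊤ := by
    rw [← CfsgLib.Cores.fittingSubgroup_eq_iSup_pCore, eq_top_iff]
    apply CfsgLib.Cores.le_fittingSubgroup inferInstance
    exact Group.isNilpotent_top.2 hNn
  have hstep : ∀ q : Nat.Primes, ∀ a ∈ Cfsg.pCore (q : ℕ) N, ∀ b, P a b := by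
    intro q a ha b
    have h1 : (⊤ : Subgroup N) ≤ D a := by
      rw [← hFt]
      refine iSup_le fun q₁ => fun b hb => ?_
      show (((⁅a, b⁆ : N) : G) : X) ∈ C
      by_cases hqq : (q : ℕ) = q₁
      · rw [← hqq] at hb
        exact hsame q q.2 a ha b hb
      · rw [hdiff q q₁ q.2 q₁.2 hqq a ha b hb]; exact one_mem _
    exact h1 (Subgroup.mem_top b)
  have hall : ∀ a b : N, P a b := by
    intro a b
    apply hPsymm
    have h1 : (⊤ : Subgroup N) ≤ D b := by
      rw [← hFt]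
      refine iSup_le fun q => fun a ha => ?_
      exact hPsymm _ _ (hstep q a ha b)
    exact h1 (Subgroup.mem_top a)
  have hcl : Subgroup.closure (Subtype.val '' Cfsg.frobeniusKernel R) ≤ N.map G.subtype := by
    rw [Subgroup.closure_le, ← hK]
    rintro _ ⟨y, hy, rfl⟩
    exact ⟨y, hy, rfl⟩
  refine (Subgroup.commutator_mono hcl hcl).trans ?_
  rw [Subgroup.commutator_le]
  rintro _ ⟨a, ha, rfl⟩ _ ⟨b, hb, rfl⟩
  exact hall ⟨a, ha⟩ ⟨b, hb⟩


end Cfsg.Agent.S3770
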