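import Cfsg.Statements.S3779
import Cfsg.Agent.LibHKK
import Cfsg.Agent.S0033

set_option autoImplicit false
open Cfsg

namespace Cfsg.Agent.S3779

/-- Let G be a finite group with an automorphism of prime order p fixing only the identity. Then G is nilpotent; if p = 2 then G is abelian, if p = 3 then G has class at most 2, and in general the class of G is at most ξ = 1 + (p−1) + (p−1)² + ⋯ + (p−1)^(n−1) with n = 2^(p−1) − 1 (the Higman–Kreknin–Kostrikin bound). -/
theorem result {G : Type*} [Group G] [Finite G] {p : ℕ} (hp : p.Prime) (α : MulAut G) (hα : orderOf α = p) (hfpf : ∀ g : G, α g = g → g = 1) : (p = 2 → (⊤ : Subgroup G).lowerCentralSeries 1 = ⊥) ∧ (p = 3 → (⊤ : Subgroup G).lowerCentralSeries 2 = ⊥) ∧ (⊤ : Subgroup G).lowerCentralSeries (Finset.sum (Finset.range (2 ^ (p - 1) - 1)) (fun i => (p - 1) ^ i)) = ⊥ := by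
  haveI : Fact p.Prime := ⟨hp⟩
  have hit : ∀ g, (α.toMonoidHom)^[p] g = g := by
    have key : ∀ m g, (α.toMonoidHom)^[m] g = (α ^ m) g := by
      intro m
      induction m with
      | zero => intro g; rfl
      | succ m ih =>
        intro g
        rw [Function.iterate_succ_apply', ih, pow_succ']
        rfl
    intro g
    rw [key, ← hα, pow_orderOf_eq_one]
    rfl
  have hcop : Nat.Coprime p (Nat.card G) := by
    rw [Nat.Prime.coprime_iff_not_dvd hp]
    intro hdvd
    have hZ : IsPGroup p (Subgroup.zpowers α) := IsPGroup.of_card (n := 1) (by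
      rw [Nat.card_zpowers, hα, pow_one])
    have h1 := hZ.card_modEq_card_fixedPoints G
    have h2 : MulAction.fixedPoints (Subgroup.zpowers α) G = {1} := by
      ext g
      rw [Set.mem_singleton_iff, MulAction.mem_fixedPoints]
      constructor
      · intro h
        exact hfpf g (h ⟨α, Subgroup.mem_zpowers α⟩)
      · rintro rfl m
        exact smul_one m
    rw [h2] at h1
    have h5 : Nat.card ({1} : Set G) = 1 := Nat.card_unique
    rw [h5] at h1
    have h3 := (Nat.modEq_zero_iff_dvd.2 hdvd).symm.trans h1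
    have h4 := (Nat.modEq_zero_iff_dvd.1 h3.symm)
    exact hp.one_lt.ne' (Nat.dvd_one.1 h4)
  have hnil : Group.IsNilpotent G := Cfsg.Agent.S0033.result α hfpf p hp hα
  have hb := fun (m : ℕ) hm => CfsgLib.HKK.class_bound (p := p) (α.toMonoidHom) hit hfpf hcop hnil m hm
  refine ⟨?_, ?_, ?_⟩
  · rintro rfl
    exact hb 1 (fun T hT i => by
      have := CfsgLib.Kreknin.hkk hT i
      have e : CfsgLib.Kreknin.hf 2 (2 ^ (2 - 1) - 1) = 1 := by decide
      rw [e] at this
      exact this)
  · rintro rfl
    exact hb 2 (fun T hT i => CfsgLib.HKK.three hT i)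
  · exact hb _ (fun T hT i => by
      rw [← CfsgLib.Kreknin.hf_eq]
      exact CfsgLib.Kreknin.hkk hT i)

end Cfsg.Agent.S3779
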