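import Cfsg.Statements.S3785
import Cfsg.Agent.LibFpf
import Cfsg.Agent.LibBGCop
import Cfsg.Agent.S3766
import Cfsg.Agent.LibBGRk2c

set_option autoImplicit false
open Cfsg

namespace Cfsg.Agent.S3785

open Cfsg CfsgLib.BGPi CfsgLib.SolvFitting
open scoped commutatorElement

universe u

theorem commutator_lt {G : Type u} [Group G] [Finite G] {p : ℕ} (hp : p.Prime) {R K : Subgroup G}
    (hR : IsPGroup p R) (hne : R ≠ ⊥) (hKR : K ≤ 𝓝(R))
    (h : ∀ c ∈ K, (orderOf c).Coprime p → c ∈ 𝓒(R)) : ⁅R, K⁆ < R := by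
  haveI : Fact p.Prime := ⟨hp⟩
  obtain ⟨S, hS⟩ := CfsgLib.SolvCoprime.IsSylowIn.exists_isSylowIn (p := p) K
  have hKC : K ≤ 𝓝(K ⊓ 𝓒(R)) := le_nz_inf Subgroup.le_normalizer (le_nz_cz hKR)
  have hK : K ≤ S ⊔ (K ⊓ 𝓒(R)) := by
    apply CfsgLib.Fpf.le_of_forall_sylow (sup_le hS.le inf_le_left)
    intro q hq
    by_cases hqp : q = p
    · subst hqp
      exact ⟨S, hS, le_sup_left⟩
    · obtain ⟨T, hT⟩ := CfsgLib.SolvCoprime.IsSylowIn.exists_isSylowIn (p := q) K
      refine ⟨T, hT, le_sup_of_le_right (le_inf hT.le ?_)⟩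
      intro t ht
      apply h t (hT.le ht)
      obtain ⟨k, hk⟩ := hT.isPGroup ⟨t, ht⟩
      have h1 : t ^ q ^ k = 1 := congrArg Subtype.val hk
      exact Nat.Coprime.coprime_dvd_left (orderOf_dvd_of_pow_eq_one h1)
        (Nat.Coprime.pow_left k ((Nat.coprime_primes hq.out hp).2 hqp))
  have hle : ⁅R, K⁆ ≤ ⁅R, S⁆ := by
    rw [Subgroup.commutator_le]
    intro r hr k hk
    obtain ⟨s, hs, c, hc, rfl⟩ := (mem_sup_of_nz (hS.le.trans hKC)).1 (hK hk)
    have h1 : c * r⁻¹ * c⁻¹ = r⁻¹ := by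
      have : r⁻¹ * c = c * r⁻¹ := mem_cz.1 hc.2 _ (inv_mem hr)
      rw [← this, mul_inv_cancel_right]
    have e : ⁅r, s * c⁆ = r * s * (c * r⁻¹ * c⁻¹) * s⁻¹ := by
      simp only [commutatorElement_def]; group
    rw [e, h1]
    have := Subgroup.commutator_mem_commutator hr hs
    rwa [commutatorElement_def] at this
  exact lt_of_le_of_lt hle (CfsgLib.SolvCoprime.commutator_lt_of_pgroup hR hS.isPGroup (hS.le.trans hKR) hne)

/-- Let G be a finite solvable group whose Fitting subgroup F(G) has odd order. If an element g of G commutes with every element of prime order of F(G), then g ∈ F(G). -/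
theorem result {G : Type*} [Group G] [Finite G] (hG : Group.IsSolvable G) (hodd : Odd (Nat.card (Cfsg.fittingSubgroup G))) (g : G) (hg : ∀ x ∈ Cfsg.fittingSubgroup G, (orderOf x).Prime → g * x = x * g) : g ∈ Cfsg.fittingSubgroup G := by
  classical
  set F := Cfsg.fittingSubgroup G with hF
  haveI hFn : F.Normal := fitting_normal
  have htop : (Cfsg.fittingSubgroup ↥(⊤ : Subgroup G)).map (⊤ : Subgroup G).subtype = F := fitting_top
  let C : Subgroup G := Subgroup.centralizer {x | x ∈ F ∧ (orderOf x).Prime}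
  have hgC : g ∈ C := by
    rw [Subgroup.mem_centralizer_iff]
    rintro x ⟨hx, hxp⟩
    exact (hg x hx hxp).symm
  haveI hCn : C.Normal := by
    constructor
    intro c hc y
    rw [Subgroup.mem_centralizer_iff] at hc ⊢
    rintro x ⟨hx, hxp⟩
    have h1 : y⁻¹ * x * y ∈ F := by simpa using hFn.conj_mem x hx y⁻¹
    have h2 : (orderOf (y⁻¹ * x * y)).Prime := by
      have : orderOf ((MulAut.conj y⁻¹) x) = orderOf x := MulEquiv.orderOf_eq _ x
      rw [MulAut.conj_apply, inv_inv] at this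
      rw [this]; exact hxp
    have h3 := hc _ ⟨h1, h2⟩
    calc x * (y * c * y⁻¹) = y * ((y⁻¹ * x * y) * c) * y⁻¹ := by group
      _ = y * (c * (y⁻¹ * x * y)) * y⁻¹ := by rw [h3]
      _ = _ := by group
  have hmain := ((Cfsg.Agent.S3766.result hG (⊤ : Subgroup G) g).2).2
  rw [htop] at hmain
  apply hmain
  refine ⟨Subgroup.mem_top g, ?_⟩
  rintro U V ⟨hU, hV, hVU, hch⟩ hUF
  haveI := hU
  haveI := hV
  have hFnil : Group.IsNilpotent F := fitting_isNilpotent
  have hUnil : Group.IsNilpotent U := by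
    haveI := hFnil
    exact Group.nilpotent_of_mulEquiv (Subgroup.subgroupOfEquivOfLe hUF)
  have hUV : ⁅U, C⁆ ≤ V := by
    -- a p-subgroup R
    have hex : ∃ R : Subgroup G, R.Normal ∧ R ≤ U ∧ (∃ p : ℕ, p.Prime ∧ IsPGroup p R) ∧ ¬ R ≤ V := by
      by_contra hcon
      push Not at hcon
      have h1 : (⊤ : Subgroup U) ≤ V.subgroupOf U := by
        refine (le_iSup_pCore (G := U) (N := ⊤) inferInstance ?_).trans ?_
        · haveI := hUnil
          exact Group.nilpotent_of_mulEquiv (Subgroup.topEquiv (G := U)).symm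
        · apply iSup_le
          intro p
          haveI : Fact (p : ℕ).Prime := ⟨p.2⟩
          have h2 := hcon ((Cfsg.pCore (p : ℕ) U).map U.subtype) inferInstance
            (Subgroup.map_subtype_le _) ⟨(p : ℕ), p.2, ((CfsgLib.SolvFitting.pCore_isPGroup (p : ℕ)).map _)⟩
          rwa [Subgroup.map_le_iff_le_comap] at h2
      exact not_le_of_gt hVU (Subgroup.subgroupOf_eq_top.1 (top_le_iff.1 h1))
    obtain ⟨R, hR⟩ := Set.Finite.exists_minimal
      (s := {R : Subgroup G | R.Normal ∧ R ≤ U ∧ (∃ p : ℕ, p.Prime ∧ IsPGroup p R) ∧ ¬ R ≤ V})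
      (Set.toFinite _) hex
    obtain ⟨⟨hRn, hRU, ⟨p, hp, hRp⟩, hRV⟩, hmin⟩ := hR
    haveI : Fact p.Prime := ⟨hp⟩
    haveI := hRn
    have hRne : R ≠ ⊥ := by rintro rfl; exact hRV bot_le
    have hp2 : p ≠ 2 := by
      rintro rfl
      have h1 : 2 ∣ Nat.card R := by
        obtain ⟨n, hn⟩ := IsPGroup.iff_card.1 hRp
        rw [hn]
        rcases Nat.eq_zero_or_pos n with h0 | h0
        · exfalso; apply hRne; rw [h0, pow_zero] at hn
          exact Subgroup.card_eq_one.1 hn
        · exact dvd_pow_self _ h0.ne'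
      have h2 : 2 ∣ Nat.card F := h1.trans (Subgroup.card_dvd_of_le (hRU.trans hUF))
      exact (Nat.not_even_iff_odd.2 hodd) (even_iff_two_dvd.2 h2)
    have hfix : ∀ c ∈ C, (orderOf c).Coprime p → c ∈ 𝓒(R) := by
      intro c hc hco
      have h1 : Subgroup.zpowers c ≤ 𝓒(R) := by
        apply cop_omega hp hp2 hRp Subgroup.le_normalizer_of_normal
        · rwa [Nat.card_zpowers]
        · intro x hx hxp a ha
          by_cases hx1 : x = 1
          · rw [hx1]; simp
          · have h2 : orderOf x = p := orderOf_eq_prime hxp hx1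
            have h3 : x * c = c * x := Subgroup.mem_centralizer_iff.1 hc x ⟨hUF (hRU hx), by rw [h2]; exact hp⟩
            obtain ⟨i, rfl⟩ := ha
            have h4 : Commute x c := h3
            exact (h4.zpow_right i).eq.symm
      exact h1 (Subgroup.mem_zpowers c)
    have hlt := commutator_lt hp hRp hRne (Subgroup.le_normalizer_of_normal) hfix
    have h5 : ⁅R, C⁆ ≤ V := by
      by_contra h6
      exact not_le_of_gt hlt (hmin ⟨inferInstance, hlt.le.trans hRU, ⟨p, hp, hRp.to_le hlt.le⟩, h6⟩ hlt.le)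
    have h7 : V ⊔ R = U := by
      rcases hch (V ⊔ R) inferInstance le_sup_left (sup_le hVU.le hRU) with h | h
      · exfalso; apply hRV; rw [← h]; exact le_sup_right
      · exact h
    rw [Subgroup.commutator_le]
    intro u hu c hc
    rw [← h7] at hu
    obtain ⟨v, hv, r, hr, rfl⟩ := Subgroup.mem_sup_of_normal_right.1 hu
    have e : ⁅v * r, c⁆ = (v * ⁅r, c⁆ * v⁻¹) * ⁅v, c⁆ := by
      simp only [commutatorElement_def]; group
    rw [e]
    refine mul_mem (hV.conj_mem _ (h5 (Subgroup.commutator_mem_commutator hr hc)) v) ?_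
    exact Subgroup.commutator_le_left V C (Subgroup.commutator_mem_commutator hv hc)
  intro u hu
  exact hUV (Subgroup.commutator_mem_commutator hu hgC)


end Cfsg.Agent.S3785
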