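import Cfsg.Statements.S3866
import Cfsg.Agent.EqBase

set_option autoImplicit false
open Cfsg

namespace Cfsg.Agent.S3866

/-- Let A be a commutative normal subgroup of the finite group G with G generated by A and an element x. Then a ↦ x a x⁻¹ a⁻¹ is a surjective homomorphism from A onto the commutator subgroup of G whose kernel is the centralizer of x in A; in particular the commutator subgroup has order equal to the index in A of that centralizer. -/
theorem result {G : Type*} [Group G] [Finite G] (A : Subgroup G) [A.Normal] (hA : IsMulCommutative A) (x : G) (hgen : A ⊔ Subgroup.zpowers x = ⊤) : (∀ a ∈ A, x * a * x⁻¹ * a⁻¹ ∈ commutator G) ∧ (∀ c ∈ commutator G, ∃ a ∈ A, x * a * x⁻¹ * a⁻¹ = c) ∧ (∀ a ∈ A, ∀ b ∈ A, x * (a * b) * x⁻¹ * (a * b)⁻¹ = (x * a * x⁻¹ * a⁻¹) * (x * b * x⁻¹ * b⁻¹)) ∧ Nat.card (commutator G) * Nat.card ↥(A ⊓ Subgroup.centralizer ({x} : Set G)) = Nat.card A := by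
  have hab : ∀ a ∈ A, ∀ b ∈ A, a * b = b * a := fun a ha b hb =>
    congrArg Subtype.val (hA.is_comm.comm (⟨a, ha⟩ : A) ⟨b, hb⟩)
  have hn : A.Normal := inferInstance
  have hcj : ∀ g : G, ∀ a ∈ A, g * a * g⁻¹ ∈ A := fun g a ha => hn.conj_mem a ha g
  have hmul : ∀ a ∈ A, ∀ b ∈ A, x * (a * b) * x⁻¹ * (a * b)⁻¹ = (x * a * x⁻¹ * a⁻¹) * (x * b * x⁻¹ * b⁻¹) := by
    intro a ha b hb
    have h1 := hab (x * b * x⁻¹ * b⁻¹) (A.mul_mem (hcj x b hb) (A.inv_mem hb)) a⁻¹ (A.inv_mem ha)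
    have h2 := hab a ha b hb
    calc x * (a * b) * x⁻¹ * (a * b)⁻¹ = x * a * x⁻¹ * (x * b * x⁻¹ * b⁻¹) * a⁻¹ := by group
      _ = x * a * x⁻¹ * ((x * b * x⁻¹ * b⁻¹) * a⁻¹) := by rw [mul_assoc]
      _ = (x * a * x⁻¹ * a⁻¹) * (x * b * x⁻¹ * b⁻¹) := by rw [h1]; group
  let φ : A →* G :=
    { toFun := fun a => x * a * x⁻¹ * (a : G)⁻¹
      map_one' := by simp
      map_mul' := fun a b => by simpa using hmul a a.2 b b.2 }
  have hφA : ∀ a : A, φ a ∈ A := fun a => A.mul_mem (hcj x a a.2) (A.inv_mem a.2)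
  have hmem : ∀ a ∈ A, x * a * x⁻¹ * a⁻¹ ∈ commutator G := by
    intro a _
    exact Subgroup.commutator_mem_commutator (Subgroup.mem_top x) (Subgroup.mem_top a)
  -- the range is normal
  set K := φ.range with hK
  have hKA : K ≤ A := by rintro _ ⟨a, rfl⟩; exact hφA a
  have hKn : K.Normal := by
    have h1 : (⊤ : Subgroup G) ≤ Subgroup.normalizer (K : Set G) := by
      rw [← hgen]
      refine sup_le ?_ ?_
      · intro a ha
        rw [Subgroup.mem_normalizer_iff]
        intro k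
        constructor
        · intro hk
          rw [hab a ha k (hKA hk), mul_inv_cancel_right]; exact hk
        · intro hk
          have : k = a⁻¹ * (a * k * a⁻¹) * a := by group
          rw [this, hab a⁻¹ (A.inv_mem ha) _ (hKA hk), inv_mul_cancel_right]; exact hk
      · rw [Subgroup.zpowers_le]
        have key : ∀ k ∈ K, x * k * x⁻¹ ∈ K := by
          rintro _ ⟨a, rfl⟩
          refine ⟨⟨x * a * x⁻¹, hcj x a a.2⟩, ?_⟩
          show x * (x * a * x⁻¹) * x⁻¹ * (x * a * x⁻¹)⁻¹ = x * (x * a * x⁻¹ * (a : G)⁻¹) * x⁻¹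
          group
        have key' : ∀ k ∈ K, x⁻¹ * k * x ∈ K := by
          rintro _ ⟨a, rfl⟩
          refine ⟨⟨x⁻¹ * a * x, by simpa using hcj x⁻¹ a a.2⟩, ?_⟩
          show x * (x⁻¹ * a * x) * x⁻¹ * (x⁻¹ * a * x)⁻¹ = x⁻¹ * (x * a * x⁻¹ * (a : G)⁻¹) * x
          group
        rw [Subgroup.mem_normalizer_iff]
        intro k
        refine ⟨key k, fun hk => ?_⟩
        have := key' _ hk
        have e : x⁻¹ * (x * k * x⁻¹) * x = k := by group
        rwa [e] at this
    rw [← Subgroup.normalizer_eq_top_iff]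
    exact top_le_iff.1 h1
  have cen : ∀ s : G, (∀ a ∈ A, s * a * s⁻¹ * a⁻¹ ∈ K) → s * x * s⁻¹ * x⁻¹ ∈ K →
      ∀ g, s * g * s⁻¹ * g⁻¹ ∈ K := by
    intro s h1 h2 g
    let π := QuotientGroup.mk' K
    have hπ : ∀ g : G, π s * π g = π g * π s ↔ s * g * s⁻¹ * g⁻¹ ∈ K := by
      intro g
      rw [← QuotientGroup.eq_one_iff]
      show _ ↔ π (s * g * s⁻¹ * g⁻¹) = 1
      rw [map_mul, map_mul, map_mul, map_inv, map_inv, mul_inv_eq_one, mul_inv_eq_iff_eq_mul]
    have h3 : (⊤ : Subgroup G) ≤ (Subgroup.centralizer ({π s} : Set (G ⧸ K))).comap π := by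
      rw [← hgen]
      refine sup_le ?_ ?_
      · intro a ha
        rw [Subgroup.mem_comap, Subgroup.mem_centralizer_singleton_iff]
        exact ((hπ a).2 (h1 a ha)).symm
      · rw [Subgroup.zpowers_le, Subgroup.mem_comap, Subgroup.mem_centralizer_singleton_iff]
        exact ((hπ x).2 h2).symm
    have h4 := h3 (Subgroup.mem_top g)
    rw [Subgroup.mem_comap, Subgroup.mem_centralizer_singleton_iff] at h4
    exact (hπ g).1 h4.symm
  have hx : ∀ g, x * g * x⁻¹ * g⁻¹ ∈ K := by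
    refine cen x (fun a ha => ⟨⟨a, ha⟩, rfl⟩) ?_
    have : x * x * x⁻¹ * x⁻¹ = 1 := by group
    rw [this]; exact K.one_mem
  have ha : ∀ a ∈ A, ∀ g, a * g * a⁻¹ * g⁻¹ ∈ K := by
    intro a haA
    refine cen a (fun b hb => ?_) ?_
    · rw [hab a haA b hb, mul_inv_cancel_right, mul_inv_cancel]; exact K.one_mem
    · have := K.inv_mem (hx a)
      have e : (x * a * x⁻¹ * a⁻¹)⁻¹ = a * x * a⁻¹ * x⁻¹ := by group
      rwa [e] at this
  have hle : commutator G ≤ K := by
    rw [commutator_def, Subgroup.commutator_le]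
    intro g _ h _
    refine cen g (fun a haA => ?_) ?_ h
    · have := K.inv_mem (ha a haA g)
      have e : (a * g * a⁻¹ * g⁻¹)⁻¹ = g * a * g⁻¹ * a⁻¹ := by group
      rwa [e] at this
    · have := K.inv_mem (hx g)
      have e : (x * g * x⁻¹ * g⁻¹)⁻¹ = g * x * g⁻¹ * x⁻¹ := by group
      rwa [e] at this
  refine ⟨hmem, ?_, hmul, ?_⟩
  · intro c hc
    obtain ⟨a, ha⟩ := hle hc
    exact ⟨a, a.2, ha⟩
  · have hKe : commutator G = K := by
      apply le_antisymm hle
      rintro _ ⟨a, rfl⟩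
      exact hmem a a.2
    have h1 : Nat.card (A ⊓ Subgroup.centralizer ({x} : Set G) : Subgroup G) = Nat.card φ.ker := by
      have : φ.ker = (A ⊓ Subgroup.centralizer ({x} : Set G)).subgroupOf A := by
        ext a
        rw [MonoidHom.mem_ker, Subgroup.mem_subgroupOf]
        show x * a * x⁻¹ * (a : G)⁻¹ = 1 ↔ _
        rw [mul_inv_eq_one, mul_inv_eq_iff_eq_mul]
        constructor
        · intro h
          exact ⟨a.2, Subgroup.mem_centralizer_singleton_iff.2 h.symm⟩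
        · intro h
          exact (Subgroup.mem_centralizer_singleton_iff.1 h.2).symm
      rw [this]
      exact (Nat.card_congr (Subgroup.subgroupOfEquivOfLe inf_le_left).toEquiv).symm
    rw [h1, hKe, mul_comm, ← Subgroup.index_ker]
    exact Subgroup.card_mul_index _

end Cfsg.Agent.S3866
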