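import Cfsg.Statements.S3807
import Cfsg.Agent.S3866
import Cfsg.Agent.LibH2Max

set_option autoImplicit false
open Cfsg

namespace Cfsg.Agent.S3807



open Subgroup

variable {S : Type*} [Group S] [Finite S] {p : ℕ} [hp : Fact p.Prime]

omit [Finite S] hp in
theorem comm_of_sup {A : Subgroup S} (hA : ∀ a ∈ A, ∀ b ∈ A, a * b = b * a) {B : Subgroup S}
    (h : A ⊔ B = ⊤) {z : S} (h1 : ∀ a ∈ A, a * z = z * a) (h2 : ∀ b ∈ B, b * z = z * b) :
    z ∈ Subgroup.center S := by
  rw [Subgroup.mem_center_iff]
  have h3 : (⊤ : Subgroup S) ≤ Subgroup.centralizer ({z} : Set S) := by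
    rw [← h]
    refine sup_le ?_ ?_
    · intro a ha; rw [Subgroup.mem_centralizer_singleton_iff]; exact h1 a ha
    · intro b hb; rw [Subgroup.mem_centralizer_singleton_iff]; exact h2 b hb
  intro g
  exact Subgroup.mem_centralizer_singleton_iff.1 (h3 (Subgroup.mem_top g))

theorem sup_top {A : Subgroup S} (hAi : A.index = p) {B : Subgroup S} (hB : ¬ B ≤ A) : A ⊔ B = ⊤ := by
  rw [← Subgroup.index_eq_one]
  have h1 : (A ⊔ B).index ∣ p := hAi ▸ Subgroup.index_dvd_of_le le_sup_left
  rcases (Nat.dvd_prime hp.out).1 h1 with h2 | h2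
  · exact h2
  · exfalso
    apply hB
    have h3 : A = A ⊔ B := by
      apply Subgroup.eq_of_le_of_card_ge le_sup_left
      have e1 := A.card_mul_index
      have e2 := (A ⊔ B).card_mul_index
      rw [hAi] at e1
      rw [h2] at e2
      exact (Nat.eq_of_mul_eq_mul_right hp.out.pos (e2.trans e1.symm)).le
    rw [h3]; exact le_sup_right

omit [Finite S] hp in
theorem abelian_of {A : Subgroup S} (hA : ∀ a ∈ A, ∀ b ∈ A, a * b = b * a)
    (h : A ⊔ Subgroup.center S = ⊤) : IsMulCommutative S := by
  have h1 : ∀ a ∈ A, a ∈ Subgroup.center S := by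
    intro a ha
    exact comm_of_sup hA h (fun b hb => hA b hb a ha) (fun b hb => (Subgroup.mem_center_iff.1 hb a).symm)
  have h2 : Subgroup.center S = ⊤ := by rw [← h]; exact (sup_eq_right.2 h1).symm
  exact ⟨⟨fun a b => (Subgroup.mem_center_iff.1 (h2 ▸ Subgroup.mem_top b) a)⟩⟩

theorem normal_of_index {A : Subgroup S} (hS : IsPGroup p S) (hAi : A.index = p) : A.Normal := by
  apply Subgroup.normal_of_index_eq_minFac_card
  rw [hAi]
  obtain ⟨k, hk⟩ := IsPGroup.iff_card.1 hS
  rw [hk]
  have hk0 : k ≠ 0 := by
    rintro rfl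
    have := A.index_dvd_card
    rw [hAi, hk, pow_zero, Nat.dvd_one] at this
    exact hp.out.one_lt.ne' this
  exact (Nat.Prime.pow_minFac hp.out hk0).symm

theorem center_index (hS : IsPGroup p S) (hna : ¬ IsMulCommutative S)
    (A : Subgroup S) (hA : IsMulCommutative ↥A) (hAi : A.index = p) :
    (Subgroup.center S).index = p * Nat.card (commutator S) := by
  have hab : ∀ a ∈ A, ∀ b ∈ A, a * b = b * a := fun a ha b hb =>
    congrArg Subtype.val (hA.is_comm.comm (⟨a, ha⟩ : A) ⟨b, hb⟩)
  haveI hAn : A.Normal := normal_of_index hS hAi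
  have hZA : Subgroup.center S ≤ A := by
    by_contra h
    exact hna (abelian_of hab (sup_top hAi h))
  have hAt : A ≠ ⊤ := by
    rintro rfl
    rw [Subgroup.index_top] at hAi
    exact hp.out.one_lt.ne hAi
  obtain ⟨x, _, hx⟩ := SetLike.exists_of_lt (lt_top_iff_ne_top.2 hAt)
  have hgen : A ⊔ Subgroup.zpowers x = ⊤ := sup_top hAi (fun h => hx (h (Subgroup.mem_zpowers x)))
  obtain ⟨_, _, _, hc⟩ := Cfsg.Agent.S3866.result A hA x hgen
  have hZ : A ⊓ Subgroup.centralizer ({x} : Set S) = Subgroup.center S := by
    apply le_antisymm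
    · intro z hz
      refine comm_of_sup hab hgen (fun a ha => hab a ha z hz.1) ?_
      intro b hb
      have h1 : Subgroup.zpowers x ≤ Subgroup.centralizer ({z} : Set S) := by
        rw [Subgroup.zpowers_le, Subgroup.mem_centralizer_singleton_iff]
        exact (Subgroup.mem_centralizer_singleton_iff.1 hz.2).symm
      exact Subgroup.mem_centralizer_singleton_iff.1 (h1 hb)
    · intro z hz
      exact ⟨hZA hz, Subgroup.mem_centralizer_singleton_iff.2 (Subgroup.mem_center_iff.1 hz x).symm⟩
  rw [hZ] at hc
  have h1 := (Subgroup.center S).card_mul_index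
  have h2 := A.card_mul_index
  rw [hAi, ← hc, ← h1] at h2
  have h3 : 0 < Nat.card (Subgroup.center S) := Nat.card_pos
  apply Nat.eq_of_mul_eq_mul_left h3
  rw [← h2]; ring

/-- Let S be a non-abelian finite p-group with an abelian subgroup A of index p. Then [S : Z(S)] = p·#[S,S], and either [S,S] has order p, S/Z(S) is elementary abelian of order p², and S has exactly p + 1 abelian subgroups of index p; or [S,S] has order at least p² and A is the only abelian subgroup of index p in S. -/
theorem result {S : Type*} [Group S] [Finite S] (p : ℕ) [Fact p.Prime] (hS : IsPGroup p S) (hna : ¬ IsMulCommutative S)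
    (A : Subgroup S) (hA : IsMulCommutative ↥A) (hAi : A.index = p) :
    (Subgroup.center S).index = p * Nat.card (commutator S) ∧
      ((Nat.card (commutator S) = p ∧ Cfsg.IsElementaryAbelian p (⊤ : Subgroup (S ⧸ Subgroup.center S)) ∧
          Nat.card (S ⧸ Subgroup.center S) = p ^ 2 ∧
          Nat.card {B : Subgroup S // IsMulCommutative ↥B ∧ B.index = p} = p + 1) ∨
        (p ^ 2 ≤ Nat.card (commutator S) ∧ ∀ B : Subgroup S, IsMulCommutative ↥B → B.index = p → B = A)) := by
  have hp := (Fact.out : p.Prime)
  have hab : ∀ a ∈ A, ∀ b ∈ A, a * b = b * a := fun a ha b hb =>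
    congrArg Subtype.val (hA.is_comm.comm (⟨a, ha⟩ : A) ⟨b, hb⟩)
  have hci := center_index hS hna A hA hAi
  refine ⟨hci, ?_⟩
  obtain ⟨k, hk⟩ := IsPGroup.iff_card.1 (hS.to_subgroup (commutator S))
  have hk0 : k ≠ 0 := by
    rintro rfl
    rw [pow_zero, Subgroup.card_eq_one, commutator_eq_bot_iff_center_eq_top] at hk
    apply hna
    exact ⟨⟨fun a b => (Subgroup.mem_center_iff.1 (hk ▸ Subgroup.mem_top b) a)⟩⟩
  have hZle : ∀ B : Subgroup S, IsMulCommutative B → B.index = p → Subgroup.center S ≤ B := by
    intro B hB hBi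
    by_contra h
    exact hna (abelian_of (fun a ha b hb =>
      congrArg Subtype.val (hB.is_comm.comm (⟨a, ha⟩ : B) ⟨b, hb⟩)) (sup_top hBi h))
  have hZpos : 0 < Nat.card (Subgroup.center S) := Nat.card_pos
  by_cases hk1 : k = 1
  · left
    subst hk1
    rw [pow_one] at hk
    have hc2 : Nat.card (S ⧸ Subgroup.center S) = p ^ 2 := by
      have : Nat.card (S ⧸ Subgroup.center S) = (Subgroup.center S).index := rfl
      rw [this, hci, hk]; ring
    have hnc : ¬ IsCyclic (S ⧸ Subgroup.center S) := by
      intro hc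
      apply hna
      have := commutative_of_cyclic_center_quotient (QuotientGroup.mk' (Subgroup.center S)) (by
        rw [QuotientGroup.ker_mk'])
      exact ⟨⟨this⟩⟩
    have hcomm : ∀ a b : S ⧸ Subgroup.center S, a * b = b * a :=
      (IsPGroup.commutative_of_card_eq_prime_sq hc2)
    refine ⟨hk, ⟨⟨⟨fun a b => Subtype.ext (hcomm a b)⟩⟩, ?_⟩, hc2, ?_⟩
    · intro a _
      have h1 : orderOf a ∣ p ^ 2 := hc2 ▸ orderOf_dvd_natCard a
      obtain ⟨j, hj, hj'⟩ := (Nat.dvd_prime_pow hp).1 h1
      rw [← orderOf_dvd_iff_pow_eq_one, hj']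
      interval_cases j
      · simp
      · simp
      · exfalso
        apply hnc
        exact isCyclic_of_orderOf_eq_card a (by rw [hj', hc2])
    · rw [← CfsgLib.H2Max.card_subgroups hc2 hnc]
      set π := QuotientGroup.mk' (Subgroup.center S) with hπ
      have hπs : Function.Surjective π := QuotientGroup.mk'_surjective _
      have hcard : ∀ B : Subgroup S, Subgroup.center S ≤ B → (B.index = p ↔ Nat.card (B.map π) = p) := by
        intro B hB
        have h1 : (B.map π).index = B.index := by
          rw [Subgroup.index_map, hπ, QuotientGroup.ker_mk', sup_eq_left.2 hB,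
            MonoidHom.range_eq_top.2 (QuotientGroup.mk'_surjective _), Subgroup.index_top, mul_one]
        have h2 := (B.map π).card_mul_index
        rw [h1, hc2] at h2
        constructor
        · intro h
          rw [h, pow_two] at h2
          exact Nat.eq_of_mul_eq_mul_right hp.pos h2
        · intro h
          rw [h, pow_two] at h2
          exact Nat.eq_of_mul_eq_mul_left hp.pos h2
      refine Nat.card_congr
        { toFun := fun B => ⟨B.1.map π, (hcard B.1 (hZle B.1 B.2.1 B.2.2)).1 B.2.2⟩
          invFun := fun T => ⟨T.1.comap π, ?_⟩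
          left_inv := ?_
          right_inv := ?_ }
      · have hle : Subgroup.center S ≤ T.1.comap π := by
          intro z hz
          rw [Subgroup.mem_comap]
          have : π z = 1 := (QuotientGroup.eq_one_iff z).2 hz
          rw [this]; exact one_mem _
        refine ⟨?_, ?_⟩
        · have hT : IsCyclic T.1 := isCyclic_of_prime_card (p := p) T.2
          let f : T.1.comap π →* T.1 := (π.comp (T.1.comap π).subtype).codRestrict T.1 (fun x => x.2)
          have hf : f.ker ≤ Subgroup.center (T.1.comap π) := by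
            intro x hx
            rw [MonoidHom.mem_ker] at hx
            have h1 : π (x : S) = 1 := congrArg Subtype.val hx
            have h2 : (x : S) ∈ Subgroup.center S := (QuotientGroup.eq_one_iff _).1 h1
            rw [Subgroup.mem_center_iff]
            intro g
            exact Subtype.ext (Subgroup.mem_center_iff.1 h2 g)
          exact ⟨⟨commutative_of_cyclic_center_quotient f hf⟩⟩
        · rw [hcard _ hle, Subgroup.map_comap_eq_self_of_surjective hπs]
          exact T.2
      · intro B
        apply Subtype.ext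
        show (B.1.map π).comap π = B.1
        rw [Subgroup.comap_map_eq, hπ, QuotientGroup.ker_mk', sup_eq_left.2 (hZle B.1 B.2.1 B.2.2)]
      · intro T
        apply Subtype.ext
        exact Subgroup.map_comap_eq_self_of_surjective hπs _
  · right
    refine ⟨by rw [hk]; exact Nat.pow_le_pow_right hp.pos (by omega), ?_⟩
    intro B hB hBi
    by_contra hne
    have hBab : ∀ a ∈ B, ∀ b ∈ B, a * b = b * a := fun a ha b hb =>
      congrArg Subtype.val (hB.is_comm.comm (⟨a, ha⟩ : B) ⟨b, hb⟩)
    have hnle : ¬ B ≤ A := by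
      intro h
      apply hne
      apply Subgroup.eq_of_le_of_card_ge h
      have e1 := A.card_mul_index
      have e2 := B.card_mul_index
      rw [hAi] at e1
      rw [hBi] at e2
      exact (Nat.eq_of_mul_eq_mul_right hp.pos (e1.trans e2.symm)).le
    have h1 : A ⊓ B ≤ Subgroup.center S := fun z hz =>
      comm_of_sup hab (sup_top hAi hnle) (fun a ha => hab a ha z hz.1) (fun b hb => hBab b hb z hz.2)
    have h2 := Subgroup.index_inf_le (H := A) (K := B)
    have h3 : (Subgroup.center S).index ≤ (A ⊓ B).index :=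
      Nat.le_of_dvd (Nat.pos_of_ne_zero Subgroup.index_ne_zero_of_finite) (Subgroup.index_dvd_of_le h1)
    rw [hci, hk] at h3
    rw [hAi, hBi] at h2
    have h4 : p * p ^ 2 ≤ p * p ^ k := Nat.mul_le_mul_left p (Nat.pow_le_pow_right hp.pos (by omega))
    have h5 : p * p < p * p ^ 2 := by
      apply Nat.mul_lt_mul_of_pos_left _ hp.pos
      have := hp.one_lt
      nlinarith
    omega

end Cfsg.Agent.S3807
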