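import Cfsg.Statements.S3808
import Cfsg.Agent.S3807
import Cfsg.Agent.LibBGCop

set_option autoImplicit false
open Cfsg

namespace Cfsg.Agent.S3808



open Subgroup

variable {S : Type*} [Group S] [Finite S] {p : ℕ} [hp : Fact p.Prime]

theorem centerQ_le (hS : IsPGroup p S) {Q : Subgroup S} (hQ : Cfsg.IsExtraspecial p Q)
    (hQi : Q.index = p) : (Subgroup.center ↥Q).map Q.subtype ≤ Subgroup.center S := by
  haveI : Q.Normal := Cfsg.Agent.S3807.normal_of_index hS hQi
  set Z := (Subgroup.center ↥Q).map Q.subtype with hZ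
  have hZc : Nat.card Z = p := by
    rw [hZ, Subgroup.card_map_of_injective Q.subtype_injective]; exact hQ.2
  haveI hZn : Z.Normal := by rw [hZ]; infer_instance
  have h1 : ⁅Z, (⊤ : Subgroup S)⁆ < Z := CfsgLib.SolvCoprime.commutator_lt_of_pgroup (hS.to_subgroup Z)
    (hS.to_subgroup ⊤) (by rw [Subgroup.normalizer_eq_top]) (by
      intro h
      rw [h, Subgroup.card_bot] at hZc
      exact hp.out.one_lt.ne hZc)
  have h2 : ⁅Z, (⊤ : Subgroup S)⁆ = ⊥ := by
    have h3 := Subgroup.card_dvd_of_le h1.le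
    rw [hZc] at h3
    rcases (Nat.dvd_prime hp.out).1 h3 with h4 | h4
    · exact Subgroup.card_eq_one.1 h4
    · exact absurd (Subgroup.eq_of_le_of_card_ge h1.le (by rw [h4, hZc])) h1.ne
  rw [CfsgLib.BGPi.comm_eq_bot_iff] at h2
  intro z hz
  rw [Subgroup.mem_center_iff]
  intro g
  exact Subgroup.mem_centralizer_iff.1 (h2 hz) g (Subgroup.mem_top g)

theorem center_inf {Q : Subgroup S} : Subgroup.center S ⊓ Q ≤ (Subgroup.center ↥Q).map Q.subtype := by
  intro z hz
  refine ⟨⟨z, hz.2⟩, ?_, rfl⟩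
  rw [SetLike.mem_coe, Subgroup.mem_center_iff]
  intro g
  exact Subtype.ext (Subgroup.mem_center_iff.1 hz.1 g)

/-- Let S be a finite p-group with an extraspecial subgroup Q of index p. Then either Z(S) = Z(Q), or S = Q·Z(S) and Z(S) has order p². -/
theorem result {S : Type*} [Group S] [Finite S] (p : ℕ) [Fact p.Prime] (hS : IsPGroup p S) (Q : Subgroup S) (hQ : Cfsg.IsExtraspecial p ↥Q) (hQi : Q.index = p) :
    Subgroup.center S = (Subgroup.center ↥Q).map Q.subtype ∨
      (Q ⊔ Subgroup.center S = ⊤ ∧ Nat.card (Subgroup.center S) = p ^ 2) := by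
  have h1 := centerQ_le hS hQ hQi
  have hZc : Nat.card ((Subgroup.center ↥Q).map Q.subtype) = p := by
    rw [Subgroup.card_map_of_injective Q.subtype_injective]; exact hQ.2
  by_cases h : Subgroup.center S ≤ Q
  · left
    apply le_antisymm _ h1
    exact (le_inf le_rfl h).trans center_inf
  · right
    have hsup := Cfsg.Agent.S3807.sup_top hQi h
    refine ⟨hsup, ?_⟩
    haveI : Q.Normal := Cfsg.Agent.S3807.normal_of_index hS hQi
    have hinf : Subgroup.center S ⊓ Q = (Subgroup.center ↥Q).map Q.subtype :=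
      le_antisymm center_inf (le_inf h1 (Subgroup.map_subtype_le _))
    have h2 := CfsgLib.BGPi.card_sup_mul_card_inf (H := Subgroup.center S) (K := Q) (by
      rw [Subgroup.normalizer_eq_top]; exact le_top)
    rw [hinf, hZc, sup_comm, hsup, Subgroup.card_top] at h2
    have h3 := Q.card_mul_index
    rw [hQi] at h3
    have h4 : 0 < Nat.card Q := Nat.card_pos
    rw [← h3] at h2
    have h5 : Nat.card (Subgroup.center S) * Nat.card Q = p ^ 2 * Nat.card Q := by
      rw [← h2]; ring
    exact Nat.eq_of_mul_eq_mul_right h4 h5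

end Cfsg.Agent.S3808
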