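import Cfsg.Statements.S3809
import Cfsg.Agent.S3807
import Cfsg.Agent.S0095
import Cfsg.Agent.LibSolvFrat
import Cfsg.Agent.LibBGCop

set_option autoImplicit false
open Cfsg

namespace Cfsg.Agent.S3809



theorem nonab {p : ℕ} [hp : Fact p.Prime] {Q : Type*} [Group Q] [Finite Q] (hQ : Cfsg.IsExtraspecial p Q) :
    ¬ IsMulCommutative Q := by
  intro h
  have h1 : commutator Q = ⊥ := by
    rw [commutator_eq_bot_iff_center_eq_top, Subgroup.eq_top_iff']
    intro x
    rw [Subgroup.mem_center_iff]
    exact fun g => h.is_comm.comm g x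
  have h2 := hQ.2
  rw [← hQ.1.2.2, h1, Subgroup.card_bot] at h2
  exact hp.out.one_lt.ne h2

/-- Let S be a finite p-group with an extraspecial subgroup of index p. Then S has order p^(2+2n) for some n ≥ 1, derived length at most 3, and exponent dividing p³. -/
theorem result {S : Type*} [Group S] [Finite S] (p : ℕ) [Fact p.Prime] (hS : IsPGroup p S) (Q : Subgroup S) (hQ : Cfsg.IsExtraspecial p ↥Q) (hQi : Q.index = p) :
    (∃ n : ℕ, 1 ≤ n ∧ Nat.card S = p ^ (2 + 2 * n)) ∧ derivedSeries S 3 = ⊥ ∧ ∀ x : S, x ^ (p ^ 3) = 1 := by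
  have hp := (Fact.out : p.Prime)
  haveI hQn : Q.Normal := Cfsg.Agent.S3807.normal_of_index hS hQi
  have hZc : Nat.card ((Subgroup.center ↥Q).map Q.subtype) = p := by
    rw [Subgroup.card_map_of_injective Q.subtype_injective]; exact hQ.2
  refine ⟨?_, ?_, ?_⟩
  · obtain ⟨n, hn, hc⟩ := Cfsg.Agent.S0095.result hQ
    refine ⟨n, hn, ?_⟩
    have h3 := Q.card_mul_index
    rw [hQi, hc] at h3
    rw [← h3]; ring
  · have hcyc : IsCyclic (S ⧸ Q) := isCyclic_of_prime_card (p := p) hQi
    have h1 : commutator S ≤ Q := by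
      letI : CommGroup (S ⧸ Q) := IsCyclic.commGroup
      have := Abelianization.commutator_subset_ker (QuotientGroup.mk' Q)
      rwa [QuotientGroup.ker_mk'] at this
    have h2 : derivedSeries S 1 ≤ Q := by rw [derivedSeries_one]; exact h1
    have h3 : derivedSeries S 2 ≤ (Subgroup.center ↥Q).map Q.subtype := by
      have : derivedSeries S 2 = ⁅derivedSeries S 1, derivedSeries S 1⁆ := rfl
      rw [this, ← hQ.1.2.2]
      refine (Subgroup.commutator_mono h2 h2).trans ?_
      rw [commutator_def, Subgroup.map_commutator, ← MonoidHom.range_eq_map, Subgroup.range_subtype]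
    rw [eq_bot_iff]
    have : derivedSeries S 3 = ⁅derivedSeries S 2, derivedSeries S 2⁆ := rfl
    rw [this]
    refine (Subgroup.commutator_mono h3 h3).trans ?_
    rw [← Subgroup.map_commutator]
    have h6 : ⁅Subgroup.center Q, Subgroup.center Q⁆ = ⊥ := by
      rw [CfsgLib.BGPi.comm_eq_bot_iff]
      intro z _
      rw [Subgroup.mem_centralizer_iff]
      intro w hw
      exact (Subgroup.mem_center_iff.1 hw z).symm
    rw [h6, Subgroup.map_bot]
  · intro x
    have h1 : x ^ p ∈ Q := by
      have := Q.pow_index_mem x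
      rwa [hQi] at this
    have h2 : (⟨x ^ p, h1⟩ : Q) ^ p ∈ frattini Q := CfsgLib.SolvFrat.pow_mem_frattini hp (hS.to_subgroup Q) _
    rw [hQ.1.2.1] at h2
    have h3 : ((⟨x ^ p, h1⟩ : Q) ^ p) ^ p = 1 := by
      have h4 := pow_card_eq_one' (x := (⟨_, h2⟩ : Subgroup.center Q))
      rw [hQ.2] at h4
      exact congrArg Subtype.val h4
    have h5 := congrArg Subtype.val h3
    have e : p ^ 3 = p * p * p := by ring
    rw [e, pow_mul, pow_mul]
    exact h5

end Cfsg.Agent.S3809
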