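import Cfsg.Statements.S3810
import Cfsg.Agent.S3807
import Cfsg.Agent.S3809
import Cfsg.Agent.LibScnSmall

set_option autoImplicit false
open Cfsg

namespace Cfsg.Agent.S3810

/-- Let S be a finite p-group with an extraspecial subgroup of index p. Then S has an abelian subgroup of index p if and only if S has order p⁴. -/
theorem result {S : Type*} [Group S] [Finite S] (p : ℕ) [Fact p.Prime] (hS : IsPGroup p S) (Q : Subgroup S) (hQ : Cfsg.IsExtraspecial p ↥Q) (hQi : Q.index = p) :
    (∃ A : Subgroup S, IsMulCommutative ↥A ∧ A.index = p) ↔ Nat.card S = p ^ 4 := by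
  have hp := (Fact.out : p.Prime)
  have hQna := Cfsg.Agent.S3809.nonab hQ
  constructor
  · rintro ⟨A, hA, hAi⟩
    have hab : ∀ a ∈ A, ∀ b ∈ A, a * b = b * a := fun a ha b hb =>
      congrArg Subtype.val (hA.is_comm.comm (⟨a, ha⟩ : A) ⟨b, hb⟩)
    have hBab : IsMulCommutative (A.subgroupOf Q) :=
      ⟨⟨fun a b => Subtype.ext (Subtype.ext (hab _ a.2 _ b.2))⟩⟩
    have hBi : (A.subgroupOf Q).index = p := by
      haveI := Cfsg.Agent.S3807.normal_of_index hS hAi
      have h1 : (A.subgroupOf Q).index ∣ A.index := Subgroup.relIndex_dvd_index_of_normal _ _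
      rw [hAi] at h1
      rcases (Nat.dvd_prime hp).1 h1 with h2 | h2
      · exfalso
        rw [Subgroup.index_eq_one] at h2
        apply hQna
        refine ⟨⟨fun a b => ?_⟩⟩
        have ha : a ∈ A.subgroupOf Q := by rw [h2]; exact Subgroup.mem_top a
        have hb : b ∈ A.subgroupOf Q := by rw [h2]; exact Subgroup.mem_top b
        exact Subtype.ext (hab _ ha _ hb)
      · exact h2
    have h1 := Cfsg.Agent.S3807.center_index (hS.to_subgroup Q) hQna (A.subgroupOf Q) hBab hBi
    rw [hQ.1.2.2, hQ.2] at h1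
    have h2 := (Subgroup.center Q).card_mul_index
    rw [h1, hQ.2] at h2
    have h3 := Q.card_mul_index
    rw [hQi, ← h2] at h3
    rw [← h3]; ring
  · intro hc
    have hcomm0 : IsMulCommutative (⊥ : Subgroup S) := ⟨⟨fun a b => Subsingleton.elim _ _⟩⟩
    obtain ⟨A, _, hA⟩ := CfsgLib.BGPi.exists_scn (G := S) hp (P := ⊤) (B := ⊥)
      (hS.to_subgroup ⊤) bot_le (by rw [Subgroup.normalizer_eq_top]) hcomm0
    refine ⟨A, CfsgLib.BGPi.scn_comm hA, ?_⟩
    obtain ⟨k, hk⟩ := IsPGroup.iff_card.1 (hS.to_subgroup A)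
    have h1 : 3 ≤ k := by
      by_contra h
      have h2 := CfsgLib.ScnSmall.card_le_cube hS hA (by rw [hk]; exact Nat.pow_le_pow_right hp.pos (by omega))
      rw [hc, Nat.pow_le_pow_iff_right hp.one_lt] at h2
      omega
    have h2 : k ≤ 4 := by
      have h3 := Subgroup.card_le_card_group A
      rw [hk, hc, Nat.pow_le_pow_iff_right hp.one_lt] at h3
      exact h3
    have h3 : k ≠ 4 := by
      rintro rfl
      have h4 : A = ⊤ := Subgroup.eq_top_of_card_eq A (by rw [hk, hc])
      have h5 := CfsgLib.BGPi.scn_comm hA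
      apply hQna
      refine ⟨⟨fun a b => ?_⟩⟩
      have h6 := h5.is_comm.comm (⟨a, h4 ▸ Subgroup.mem_top _⟩ : A) ⟨b, h4 ▸ Subgroup.mem_top _⟩
      have h7 : (a : S) * b = b * a := congrArg Subtype.val h6
      exact Subtype.ext h7
    have h4 : k = 3 := by omega
    have h5 := A.card_mul_index
    rw [hk, hc, h4, pow_succ p 3] at h5
    exact Nat.eq_of_mul_eq_mul_left (pow_pos hp.pos 3) h5

end Cfsg.Agent.S3810
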