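import Cfsg.Statements.S3811
import Cfsg.Agent.LibSoft2

set_option autoImplicit false
open Cfsg

namespace Cfsg.Agent.S3811

open scoped commutatorElement

/-- Let P be a finite p-group and E an abelian subgroup of P that contains its centralizer, has index p in its normalizer, and has index at least p² in P. Then the subgroups of P containing E are totally ordered by inclusion, each proper one has index p in its normalizer (so they form the normalizer tower of E, with all steps of index p), and the i-th member of the tower above E has nilpotency class i + 1 whenever it is a proper subgroup of P. -/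
theorem result {P : Type*} [Group P] [Finite P] (p : ℕ) [Fact p.Prime] (hP : IsPGroup p P)
    (E : Subgroup P) (hEab : IsMulCommutative ↥E) (hC : Subgroup.centralizer (E : Set P) ≤ E)
    (hN : (E.subgroupOf (Subgroup.normalizer (E : Set P))).index = p) (hidx : p ^ 2 ≤ E.index) :
    (∀ K L : Subgroup P, E ≤ K → E ≤ L → K ≤ L ∨ L ≤ K) ∧
      (∀ K : Subgroup P, E ≤ K → K ≠ ⊤ → (K.subgroupOf (Subgroup.normalizer (K : Set P))).index = p) ∧
      ∀ (i : ℕ) (K : Subgroup P) [Group.IsNilpotent ↥K], E ≤ K → K ≠ ⊤ → K.index * p ^ i = E.index →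
        Group.nilpotencyClass ↥K = i + 1 := by

  classical
  have hp := (Fact.out : p.Prime)
  have hsoft : CfsgLib.Soft.IsSoft p E := by
    refine ⟨?_, hC, hN⟩
    intro a ha b hb
    have := hEab.is_comm.comm (⟨a, ha⟩ : E) ⟨b, hb⟩
    exact congrArg Subtype.val this
  have hgood := CfsgLib.Soft.main p _ P rfl hP E hsoft
  refine ⟨hgood.tot, hgood.step, ?_⟩
  intro i K hKnil hEK hKt hKi
  have hindex : ∀ L : Subgroup P, E ≤ L → L ≠ ⊤ → L.index = p * (Subgroup.normalizer (L : Set P)).index := by
    intro L hL hLt
    have h1 := Subgroup.relIndex_mul_index (Subgroup.le_normalizer : L ≤ Subgroup.normalizer (L : Set P))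
    rw [hgood.step L hL hLt] at h1
    exact h1.symm
  -- upper bound
  have hupper : K.lowerCentralSeries (i + 1) = ⊥ := by
    set Q := Subgroup.normalizer (K : Set P) with hQ
    have hKQ : K ≤ Q := Subgroup.le_normalizer
    have hEQ : E ≤ Q := hEK.trans hKQ
    have hNQ : Subgroup.normalizer (E : Set P) ≤ Q := by
      rcases hgood.tot K (Subgroup.normalizer (E : Set P)) hEK Subgroup.le_normalizer with h | h
      · -- `K ≤ N(E)`
        rcases CfsgLib.Soft.eq_of_prime (p := p) hEK h hsoft.idx with h1 | h1
        · rw [hQ, h1]
        · rw [← h1]; exact hKQ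
      · exact h.trans hKQ
    have hsoftQ : CfsgLib.Soft.IsSoft p (E.subgroupOf Q) := by
      refine ⟨?_, ?_, ?_⟩
      · intro a ha b hb
        exact Subtype.ext (hsoft.ab _ (Subgroup.mem_subgroupOf.1 ha) _ (Subgroup.mem_subgroupOf.1 hb))
      · intro x hx
        rw [Subgroup.mem_subgroupOf]
        apply hC
        rw [Subgroup.mem_centralizer_iff]
        intro e he
        have h1 := Subgroup.mem_centralizer_iff.1 hx (⟨e, hEQ he⟩ : Q) (Subgroup.mem_subgroupOf.2 he)
        exact congrArg Subtype.val h1
      · have h1 : Subgroup.normalizer ((E.subgroupOf Q : Subgroup Q) : Set Q) =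
            (Subgroup.normalizer (E : Set P)).subgroupOf Q := by
          ext x
          rw [Subgroup.mem_subgroupOf, Subgroup.mem_normalizer_iff, Subgroup.mem_normalizer_iff]
          constructor
          · intro h y
            constructor
            · intro hy
              exact Subgroup.mem_subgroupOf.1 ((h ⟨y, hEQ hy⟩).1 (Subgroup.mem_subgroupOf.2 hy))
            · intro hy
              have hyQ : y ∈ Q := by
                have : y = (x : P)⁻¹ * ((x : P) * y * (x : P)⁻¹) * x := by group
                rw [this]
                exact Q.mul_mem (Q.mul_mem (Q.inv_mem x.2) (hEQ hy)) x.2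
              exact Subgroup.mem_subgroupOf.1 ((h ⟨y, hyQ⟩).2 (Subgroup.mem_subgroupOf.2 hy))
          · intro h y
            rw [Subgroup.mem_subgroupOf, Subgroup.mem_subgroupOf]
            exact h y
        rw [h1, Subgroup.relIndex_subgroupOf hNQ]
        exact hsoft.idx
    have hgoodQ := CfsgLib.Soft.main p _ Q rfl (hP.to_subgroup Q) _ hsoftQ
    have hKi' : (K.subgroupOf Q).index = p := hgood.step K hEK hKt
    have hEi' : (E.subgroupOf Q).index = p ^ (i + 1) := by
      have h1 : E.relIndex Q = E.relIndex K * K.relIndex Q := (Subgroup.relIndex_mul_relIndex E K Q hEK hKQ).symm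
      have h2 : E.relIndex K = p ^ i := by
        have h3 := Subgroup.relIndex_mul_index hEK
        rw [← hKi, mul_comm] at h3
        exact Nat.eq_of_mul_eq_mul_left (Nat.pos_of_ne_zero Subgroup.index_ne_zero_of_finite) h3
      show E.relIndex Q = _
      rw [h1, h2, pow_succ]
      congr 1
    have h1 := hgoodQ.cls (K.subgroupOf Q) (i + 1) (Subgroup.comap_mono hEK) hKi' hEi'
    have h2 : ((K.subgroupOf Q).lowerCentralSeries (i + 1)).map Q.subtype = K.lowerCentralSeries (i + 1) := by
      rw [Subgroup.map_lowerCentralSeries, Subgroup.subgroupOf_map_subtype, inf_eq_left.2 hKQ]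
    rw [← h2, h1, Subgroup.map_bot]
  have htoK : ∀ m, K.lowerCentralSeries m = ⊥ ↔ Group.nilpotencyClass K ≤ m := by
    intro m
    rw [← lowerCentralSeries_eq_bot_iff_nilpotencyClass_le, ← Subgroup.top_subtype_lowerCentralSeries,
      Subgroup.map_eq_bot_iff_of_injective _ K.subtype_injective]
  have h1 := (htoK (i + 1)).1 hupper
  refine le_antisymm h1 ?_
  by_contra hlt
  push Not at hlt
  have hcl : K.lowerCentralSeries i = ⊥ := (htoK i).2 (by omega)
  rcases Nat.eq_zero_or_pos i with h0 | h0
  · -- `K = E = 1`
    subst h0
    rw [Subgroup.lowerCentralSeries_zero] at hcl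
    have hE0 : E = ⊥ := le_bot_iff.1 (hcl ▸ hEK)
    have h2 : (⊤ : Subgroup P) ≤ E := by
      intro x _
      apply hC
      rw [Subgroup.mem_centralizer_iff]
      intro e he
      rw [hE0] at he
      have : e = 1 := he
      rw [this, one_mul, mul_one]
    have h3 : E.index = 1 := Subgroup.index_eq_one.2 (top_le_iff.1 h2)
    rw [h3] at hidx
    have := hp.one_lt
    nlinarith
  · -- the descending argument
    have hclaim : ∀ j, j + 1 ≤ i → ∃ L : Subgroup P, E ≤ L ∧ L ≤ K ∧ L.index * p ^ j = E.index ∧
        K.lowerCentralSeries (i - 1 - j) ≤ L := by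
      intro j
      induction j with
      | zero =>
        intro _
        refine ⟨E, le_rfl, hEK, by rw [pow_zero, mul_one], ?_⟩
        intro x hx
        apply hC
        rw [Subgroup.mem_centralizer_iff]
        intro e he
        have h2 : ⁅x, e⁆ ∈ K.lowerCentralSeries i := by
          have h3 : i = i - 1 - 0 + 1 := by omega
          rw [h3, Subgroup.lowerCentralSeries_succ]
          exact Subgroup.commutator_mem_commutator hx (hEK he)
        rw [hcl, Subgroup.mem_bot, commutatorElement_eq_one_iff_mul_comm] at h2
        exact h2.symm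
      | succ j ihj =>
        intro hj
        obtain ⟨L, hEL, hLK, hLi, hLc⟩ := ihj (by omega)
        have hLt : L ≠ ⊤ := fun h => hKt (top_le_iff.1 (h ▸ hLK))
        have hLi2 := hindex L hEL hLt
        set L' := Subgroup.normalizer (L : Set P) with hL'
        have hLi' : L'.index * p ^ (j + 1) = E.index := by
          rw [← hLi, hLi2, pow_succ]; ring
        have hEL' : E ≤ L' := hEL.trans Subgroup.le_normalizer
        have hL'K : L' ≤ K := by
          rcases hgood.tot L' K hEL' hEK with h | h
          · exact h
          · exfalso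
            have h2 : L'.index ≤ K.index := Nat.le_of_dvd (Nat.pos_of_ne_zero Subgroup.index_ne_zero_of_finite)
              (Subgroup.index_dvd_of_le h)
            have h3 : p ^ (j + 1) < p ^ i := Nat.pow_lt_pow_right hp.one_lt (by omega)
            have h4 : 0 < K.index := Nat.pos_of_ne_zero Subgroup.index_ne_zero_of_finite
            have h5 : L'.index * p ^ (j + 1) < K.index * p ^ i :=
              calc L'.index * p ^ (j + 1) ≤ K.index * p ^ (j + 1) := Nat.mul_le_mul_right _ h2
                _ < K.index * p ^ i := Nat.mul_lt_mul_of_pos_left h3 h4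
            rw [hLi', hKi] at h5
            exact lt_irrefl _ h5
        refine ⟨L', hEL', hL'K, hLi', ?_⟩
        -- the next term normalizes `L`
        have hcomm : ∀ x ∈ K.lowerCentralSeries (i - 1 - (j + 1)), ∀ l ∈ L, x * l * x⁻¹ ∈ L := by
          intro x hx l hl
          have h2 : ⁅x, l⁆ ∈ K.lowerCentralSeries (i - 1 - j) := by
            have h3 : i - 1 - j = i - 1 - (j + 1) + 1 := by omega
            rw [h3, Subgroup.lowerCentralSeries_succ]
            exact Subgroup.commutator_mem_commutator hx (hLK hl)
          have h4 : x * l * x⁻¹ = ⁅x, l⁆ * l := by rw [commutatorElement_def]; group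
          rw [h4]
          exact L.mul_mem (hLc h2) hl
        intro x hx
        rw [hL', Subgroup.mem_normalizer_iff]
        intro l
        constructor
        · exact hcomm x hx l
        · intro hl
          have h2 := hcomm x⁻¹ (Subgroup.inv_mem _ hx) _ hl
          have h3 : x⁻¹ * (x * l * x⁻¹) * x⁻¹⁻¹ = l := by group
          rwa [h3] at h2
    obtain ⟨L, hEL, hLK, hLi, hLc⟩ := hclaim (i - 1) (by omega)
    rw [Nat.sub_self, Subgroup.lowerCentralSeries_zero] at hLc
    have hLK' : L = K := le_antisymm hLK hLc
    rw [hLK', ← hKi] at hLi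
    have h4 : 0 < K.index := Nat.pos_of_ne_zero Subgroup.index_ne_zero_of_finite
    have h5 := Nat.eq_of_mul_eq_mul_left h4 hLi
    have h6 := Nat.pow_right_injective hp.two_le h5
    omega


end Cfsg.Agent.S3811
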