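import Cfsg.Statements.S3824
import Cfsg.Agent.S0143
import Cfsg.Agent.LibBGPi

set_option autoImplicit false
open Cfsg

namespace Cfsg.Agent.S3824

universe u


theorem rel_dvd {G : Type u} [Group G] [Finite G] (A N : Subgroup G) [N.Normal] :
    (A.subgroupOf N).index ∣ A.index := by
  have h1 : A.relIndex N * Nat.card (A ⊓ N : Subgroup G) = Nat.card N := by
    rw [← Subgroup.inf_relIndex_right, mul_comm]
    exact CfsgLib.BGPi.card_mul_relIndex inf_le_right
  have h2 : N.relIndex A * Nat.card (A ⊓ N : Subgroup G) = Nat.card A := by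
    rw [← Subgroup.inf_relIndex_left, mul_comm]
    exact CfsgLib.BGPi.card_mul_relIndex inf_le_left
  have h3 : Nat.card N * N.index = Nat.card G := Subgroup.card_mul_index N
  have h4 : Nat.card A * A.index = Nat.card G := Subgroup.card_mul_index A
  obtain ⟨t, ht⟩ := Subgroup.relIndex_dvd_index_of_normal N A
  refine ⟨t, ?_⟩
  show A.index = A.relIndex N * t
  have hc : 0 < Nat.card (A ⊓ N : Subgroup G) := Nat.card_pos
  have hA : 0 < Nat.card A := Nat.card_pos
  have hr : 0 < N.relIndex A := by
    rcases Nat.eq_zero_or_pos (N.relIndex A) with h | h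
    · rw [h, zero_mul] at h2; omega
    · exact h
  apply Nat.eq_of_mul_eq_mul_left hA
  rw [h4, ← h3, ht, ← h1, ← h2]
  ring
theorem aux : ∀ (n : ℕ) (G : Type u) [Group G] [Finite G], Nat.card G = n →
    ∀ (A : Subgroup G), IsMulCommutative A → (∃ k : ℕ, A.index = 2 ^ k) → Group.IsSolvable G := by
  intro n
  induction n using Nat.strong_induction_on with
  | _ n ih =>
    intro G _ _ hn A hA hidx
    obtain ⟨k, hk⟩ := hidx
    by_cases hA1 : A = ⊥
    · have h1 : Nat.card G = 2 ^ k := by rw [← hk, hA1, Subgroup.index_bot]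
      haveI : Fact (Nat.Prime 2) := ⟨Nat.prime_two⟩
      have h2 : IsPGroup 2 G := IsPGroup.of_card h1
      haveI := h2.isNilpotent
      infer_instance
    obtain ⟨a', ha'⟩ := Subgroup.ne_bot_iff_exists_ne_one.mp hA1
    obtain ⟨a, haA, ha1⟩ : ∃ a : G, a ∈ A ∧ a ≠ 1 := ⟨a'.1, a'.2, fun h => ha' (Subtype.ext h)⟩
    have hAc : A ≤ Subgroup.centralizer ({a} : Set G) := by
      intro x hx
      rw [Subgroup.mem_centralizer_iff]
      intro y hy
      rw [Set.mem_singleton_iff] at hy
      subst hy
      exact congrArg Subtype.val (hA.is_comm.comm (⟨y, haA⟩ : A) ⟨x, hx⟩)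
    have hdv : (Subgroup.centralizer ({a} : Set G)).index ∣ 2 ^ k := by
      rw [← hk]; exact Subgroup.index_dvd_of_le hAc
    obtain ⟨j, -, hj⟩ := (Nat.dvd_prime_pow Nat.prime_two).mp hdv
    haveI : Nontrivial G := ⟨⟨a, 1, ha1⟩⟩
    by_cases hs : IsSimpleGroup G
    · have h3 := Cfsg.Agent.S0143.result 2 j Nat.prime_two a ha1 hj
      haveI : Fact (Nat.card G).Prime := ⟨h3⟩
      haveI := isCyclic_of_prime_card (α := G) (p := Nat.card G) rfl
      haveI : IsMulCommutative G := inferInstance
      exact Group.isSolvable_of_comm (fun x y => (IsMulCommutative.is_comm (M := G)).comm x y)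
    · have h4 : ∃ N : Subgroup G, N.Normal ∧ N ≠ ⊥ ∧ N ≠ ⊤ := by
        by_contra hcon
        push Not at hcon
        apply hs
        refine ⟨fun H hH => ?_⟩
        by_cases h5 : H = ⊥
        · exact Or.inl h5
        · exact Or.inr (hcon H hH h5)
      obtain ⟨N, hN, hN1, hNt⟩ := h4
      have hcN : Nat.card N < n := by
        rw [← hn]
        refine lt_of_le_of_ne (Subgroup.card_le_card_group N) (fun h => hNt ?_)
        exact Subgroup.eq_top_of_card_eq N h
      have hcq : Nat.card (G ⧸ N) < n := by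
        have h6 := Subgroup.card_eq_card_quotient_mul_card_subgroup N
        have h7 : 1 < Nat.card N := Subgroup.one_lt_card_iff_ne_bot N |>.mpr hN1
        have h8 : 0 < Nat.card (G ⧸ N) := Nat.card_pos
        rw [← hn, h6]
        nlinarith
      have hNsol : Group.IsSolvable N := by
        refine ih _ hcN N rfl (A.subgroupOf N) ?_ ?_
        · refine ⟨⟨fun x y => ?_⟩⟩
          apply Subtype.ext
          apply Subtype.ext
          have h10 := congrArg Subtype.val (hA.is_comm.comm (⟨x.1.1, x.2⟩ : A) ⟨y.1.1, y.2⟩)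
          exact h10
        · have h9 : (A.subgroupOf N).index ∣ 2 ^ k := by
            rw [← hk]
            exact rel_dvd A N
          obtain ⟨i, -, hi⟩ := (Nat.dvd_prime_pow Nat.prime_two).mp h9
          exact ⟨i, hi⟩
      have hQsol : Group.IsSolvable (G ⧸ N) := by
        refine ih _ hcq (G ⧸ N) rfl (A.map (QuotientGroup.mk' N)) ?_ ?_
        · refine ⟨⟨?_⟩⟩
          rintro ⟨x, u, hu, rfl⟩ ⟨y, v, hv, rfl⟩
          apply Subtype.ext
          show QuotientGroup.mk' N u * QuotientGroup.mk' N v = QuotientGroup.mk' N v * QuotientGroup.mk' N u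
          rw [← map_mul, ← map_mul]
          congr 1
          exact congrArg Subtype.val (hA.is_comm.comm (⟨u, hu⟩ : A) ⟨v, hv⟩)
        · have h9 : (A.map (QuotientGroup.mk' N)).index ∣ 2 ^ k := by
            rw [← hk]
            exact Subgroup.index_map_dvd _ (QuotientGroup.mk'_surjective N)
          obtain ⟨i, -, hi⟩ := (Nat.dvd_prime_pow Nat.prime_two).mp h9
          exact ⟨i, hi⟩
      exact (Group.isSolvable_iff_subgroup_quotient N).mpr ⟨hNsol, hQsol⟩

/-- Every finite group having an abelian subgroup whose index is a power of 2 is solvable. -/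
theorem result {G : Type*} [Group G] [Finite G]
    (A : Subgroup G) (hA : IsMulCommutative A) (hidx : ∃ k : ℕ, A.index = 2 ^ k) : Group.IsSolvable G := by
  exact aux _ G rfl A hA hidx

end Cfsg.Agent.S3824
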