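import Cfsg.Statements.S3861
import Cfsg.Agent.LibReal4
import Cfsg.Agent.S0200
import Cfsg.Agent.LibBGCop
import Cfsg.Agent.LibCores

set_option autoImplicit false
open Cfsg

namespace Cfsg.Agent.S3861

open Cfsg CfsgLib.Real4 CfsgLib.BGPi

universe u

theorem lift_real {G : Type u} [Group G] [Finite G] {N : Subgroup G} [N.Normal] (hN : IsPGroup 2 N)
    {y : G ⧸ N} (hy1 : y ≠ 1) (hyo : Odd (orderOf y)) (hyr : IsConj y y⁻¹) :
    ∃ x : G, x ≠ 1 ∧ Odd (orderOf x) ∧ IsConj x x⁻¹ := by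
  obtain ⟨h₀, rfl⟩ := QuotientGroup.mk_surjective y
  obtain ⟨g', hg⟩ := isConj_iff.1 hyr
  obtain ⟨g, rfl⟩ := QuotientGroup.mk_surjective g'
  -- odd order lift
  obtain ⟨n, m, hm, hx⟩ := Nat.exists_eq_pow_mul_and_not_dvd (orderOf_pos h₀).ne' 2 (by norm_num)
  have hmo : Odd m := by rw [← Nat.not_even_iff_odd, even_iff_two_dvd]; exact hm
  have hcop : (orderOf (h₀ : G ⧸ N)).Coprime (2 ^ n) := Nat.Coprime.pow_right n (Nat.coprime_two_right.2 hyo)
  obtain ⟨k, hk1, hk2⟩ := Nat.chineseRemainder hcop 1 0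
  set x := h₀ ^ k with hxdef
  have hxy : (x : G ⧸ N) = (h₀ : G ⧸ N) := by
    rw [hxdef, QuotientGroup.mk_pow]
    conv_rhs => rw [← pow_one (h₀ : G ⧸ N)]
    rw [pow_eq_pow_iff_modEq]
    exact hk1
  have hxo : Odd (orderOf x) := by
    have h1 : x ^ m = 1 := by
      rw [hxdef, ← pow_mul]
      have h2 : 2 ^ n ∣ k := (Nat.modEq_zero_iff_dvd).1 hk2
      obtain ⟨c, hc⟩ := h2
      rw [hc, mul_assoc, mul_comm c m, ← mul_assoc, ← hx, pow_mul, pow_orderOf_eq_one, one_pow]
    exact Odd.of_dvd_nat hmo (orderOf_dvd_of_pow_eq_one h1)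
  have hx1 : x ≠ 1 := by
    intro h
    apply hy1
    rw [← hxy, h]; rfl
  refine ⟨x, hx1, hxo, ?_⟩
  set H := Subgroup.zpowers x with hH
  set M := H ⊔ N with hM
  have hnz : ∀ K : Subgroup G, K ≤ 𝓝(N) := fun K => Subgroup.le_normalizer_of_normal
  have hN2 : IsPi {2} N := isPi_of_isPGroup Nat.prime_two hN
  have hHpi : IsPi {2}ᶜ H := by
    rw [isPi_compl_singleton' Nat.prime_two, hH, Nat.card_zpowers]
    exact Nat.coprime_two_right.2 hxo
  have hHN : H ⊓ N = ⊥ := IsPi.inf_eq_bot hHpi (by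
    intro q hq hd
    have := hN2 q hq hd
    rw [Set.mem_singleton_iff] at this
    simp [this])
  have hMs : Group.IsSolvable M := by
    apply solvable_sup (hnz H)
    · haveI : IsCyclic H := inferInstance
      letI := IsCyclic.commGroup (α := H)
      infer_instance
    · exact solvable_of_isPGroup Nat.prime_two hN
  have hHall : ∀ K : Subgroup G, K ≤ M → Nat.card K = Nat.card H → IsPi {2}ᶜ K → IsPiHallOf {2}ᶜ K M := by
    intro K hKM hK hKpi
    refine ⟨hKM, hKpi, ?_⟩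
    intro q hq hq2 hd
    have h1 := card_mul_relIndex hKM
    rw [hK, hM, card_sup_of_disjoint (hnz H) hHN] at h1
    have h2 := Nat.eq_of_mul_eq_mul_left (card_pos' H) h1
    rw [h2] at hd
    exact hq2 (hN2 q hq hd)
  have hgx : g * x * g⁻¹ * x ∈ N := by
    rw [← QuotientGroup.eq_one_iff]
    have : ((g * x * g⁻¹ * x : G) : G ⧸ N) = (g : G ⧸ N) * x * (g : G ⧸ N)⁻¹ * x := rfl
    rw [this, hxy, hg, inv_mul_cancel]
  have hHg : H ^ᵍ g ≤ M := by
    rw [hH, MonoidHom.map_zpowers, Subgroup.zpowers_le]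
    change g * x * g⁻¹ ∈ M
    have : g * x * g⁻¹ = (g * x * g⁻¹ * x) * x⁻¹ := by group
    rw [this]
    exact mul_mem (Subgroup.mem_sup_right hgx) (Subgroup.mem_sup_left (inv_mem (Subgroup.mem_zpowers x)))
  obtain ⟨m', hm', e⟩ := hall_conj hMs (hHall _ hHg (card_cj H g) (hHpi.cj g)) (hHall H le_sup_left rfl hHpi)
  rw [← cj_mul] at e
  have h3 : (m' * g) * x * (m' * g)⁻¹ ∈ H := by
    rw [← e]; exact conj_mem_cj (Subgroup.mem_zpowers x)
  -- m' acts trivially mod N on x
  obtain ⟨a, ha, b, hb, hab⟩ := (mem_sup_of_nz (hnz H)).1 hm'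
  have h4 : (m' * g) * x * (m' * g)⁻¹ * x ∈ N := by
    rw [← QuotientGroup.eq_one_iff]
    have hb1 : (b : G ⧸ N) = 1 := (QuotientGroup.eq_one_iff b).2 hb
    have hax : (a : G ⧸ N) * (x : G ⧸ N) = (x : G ⧸ N) * (a : G ⧸ N) := by
      obtain ⟨i, rfl⟩ := ha
      have : Commute (x ^ i) x := Commute.zpow_self x i
      exact congrArg (QuotientGroup.mk (s := N)) this.eq
    have hm1 : (m' : G ⧸ N) = a := by rw [← hab, QuotientGroup.mk_mul, hb1, mul_one]
    have : (((m' * g) * x * (m' * g)⁻¹ * x : G) : G ⧸ N) =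
        (m' : G ⧸ N) * ((g : G ⧸ N) * x * (g : G ⧸ N)⁻¹) * (m' : G ⧸ N)⁻¹ * x := by
      rw [QuotientGroup.mk_mul, QuotientGroup.mk_mul, QuotientGroup.mk_mul, QuotientGroup.mk_inv, QuotientGroup.mk_mul]
      group
    rw [this, hxy, hg, hm1, ← hxy]
    have h5 : (a : G ⧸ N) * (x : G ⧸ N)⁻¹ = (x : G ⧸ N)⁻¹ * a := by
      rw [mul_inv_eq_iff_eq_mul, mul_assoc, hax, inv_mul_cancel_left]
    rw [h5]; group
  have h5 : (m' * g) * x * (m' * g)⁻¹ * x ∈ H ⊓ N := ⟨mul_mem h3 (Subgroup.mem_zpowers x), h4⟩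
  rw [hHN, Subgroup.mem_bot] at h5
  rw [isConj_iff]
  exact ⟨m' * g, eq_inv_of_mul_eq_one_left h5⟩

/-- A finite group G has no non-identity element of odd order that is conjugate to its inverse if and only if the Sylow 2-subgroups of G are normal. -/
theorem result {G : Type*} [Group G] [Finite G] (P : Sylow 2 G) : (∀ x : G, x ≠ 1 → Odd (orderOf x) → ¬ IsConj x x⁻¹) ↔ (P : Subgroup G).Normal := by
  constructor
  · intro h
    have hO : (P : Subgroup G) ≤ Cfsg.pCore 2 G := by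
      by_contra hcon
      set O := Cfsg.pCore 2 G with hOdef
      have hOp : IsPGroup 2 O := CfsgLib.Cores.pCore_isPGroup 2
      set π := QuotientGroup.mk' O with hπ
      have hPm : (P : Subgroup G).map π ≠ ⊥ := by
        intro h0
        rw [Subgroup.map_eq_bot_iff, QuotientGroup.ker_mk'] at h0
        exact hcon h0
      have hPp : IsPGroup 2 ((P : Subgroup G).map π) := P.isPGroup'.map _
      have h2 : 2 ∣ Nat.card ((P : Subgroup G).map π) := by
        obtain ⟨n, hn⟩ := IsPGroup.iff_card.1 hPp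
        rw [hn]
        rcases Nat.eq_zero_or_pos n with h0 | h0
        · exfalso; apply hPm; rw [h0, pow_zero] at hn
          exact Subgroup.card_eq_one.1 hn
        · exact dvd_pow_self _ h0.ne'
      obtain ⟨t, ht⟩ := exists_prime_orderOf_dvd_card' 2 h2
      have ht' : orderOf (t : G ⧸ O) = 2 := (Subgroup.orderOf_coe t).trans ht
      obtain ⟨y, hy1, hyodd, hty⟩ := Cfsg.Agent.S0200.result (t : G ⧸ O) ht' (by
        intro N hN hNp htN
        have h3 : N ≤ ⊥ := by
          have h4 : N.comap π ≤ O := by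
            apply CfsgLib.Cores.le_pCore (hN.comap π)
            have h5 : IsPGroup 2 (N.comap π) := by
              apply IsPGroup.comap_of_ker_isPGroup hNp
              rw [QuotientGroup.ker_mk']
              exact hOp
            exact h5
          have h6 := Subgroup.map_mono (f := π) h4
          rw [Subgroup.map_comap_eq_self_of_surjective (QuotientGroup.mk'_surjective O)] at h6
          refine h6.trans ?_
          rw [le_bot_iff, Subgroup.map_eq_bot_iff, QuotientGroup.ker_mk']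
        have h7 := h3 htN
        rw [Subgroup.mem_bot] at h7
        rw [h7, orderOf_one] at ht'
        norm_num at ht')
      obtain ⟨x, hx1, hxo, hxr⟩ := lift_real hOp hy1 hyodd (isConj_iff.2 ⟨_, hty⟩)
      exact h x hx1 hxo hxr
    have : (P : Subgroup G) = Cfsg.pCore 2 G :=
      le_antisymm hO (CfsgLib.Cores.pCore_le_sylow P)
    rw [this]; infer_instance
  · intro hP x hx1 hxo hxr
    obtain ⟨t, ⟨j, hj⟩, ht⟩ := exists_two_element hxr
    have htP : t ∈ (P : Subgroup G) := by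
      have hz : IsPGroup 2 (Subgroup.zpowers t) := by
        rw [IsPGroup.iff_card]
        exact ⟨j, by rw [Nat.card_zpowers, hj]⟩
      obtain ⟨Q, hQ⟩ := hz.exists_le_sylow
      haveI := hP
      letI := Sylow.unique_of_normal P hP
      rw [Subsingleton.elim P Q]
      exact hQ (Subgroup.mem_zpowers t)
    have h2 : x⁻¹ * x⁻¹ ∈ (P : Subgroup G) := by
      have h3 := mul_mem htP (hP.conj_mem _ (inv_mem htP) x)
      have e : t * (x * t⁻¹ * x⁻¹) = x⁻¹ * x⁻¹ := by
        have : t * (x * t⁻¹ * x⁻¹) = (t * x * t⁻¹) * x⁻¹ := by group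
        rw [this, ht]
      rwa [e] at h3
    obtain ⟨k, hk⟩ := P.isPGroup' ⟨_, h2⟩
    have h4 : (x⁻¹ * x⁻¹) ^ 2 ^ k = 1 := congrArg Subtype.val hk
    have h5 : x ^ (2 ^ (k + 1)) = 1 := by
      have e : (x⁻¹ * x⁻¹) ^ 2 ^ k = (x ^ (2 ^ (k + 1)))⁻¹ := by
        rw [← pow_two, ← pow_mul, inv_pow, pow_succ 2 k, mul_comm 2]
      rw [e, inv_eq_one] at h4
      exact h4
    have h6 : orderOf x ∣ 1 := by
      have := Nat.dvd_gcd (orderOf_dvd_of_pow_eq_one h5) (dvd_refl (orderOf x))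
      rwa [Nat.Coprime.gcd_eq_one (Nat.Coprime.pow_left _ (Nat.coprime_two_left.2 hxo))] at this
    exact hx1 (orderOf_eq_one_iff.1 (Nat.dvd_one.1 h6))


end Cfsg.Agent.S3861
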