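import Cfsg.Statements.S3864
import Cfsg.Agent.LibFgDi

set_option autoImplicit false
open Cfsg

namespace Cfsg.Agent.S3864

set_option linter.style.haveILetI false
set_option linter.unusedSectionVars false
set_option linter.unusedVariables false

/-- Let G be a finite group whose Sylow 2-subgroups are dihedral of order 2 ^ n with n ≥ 3, and count the conjugacy classes of involutions of G. Then exactly one of the following holds: there is one class of involutions and no normal subgroup of index 2; there are two classes of involutions, a normal subgroup of index 2 and none of index 4; there are three classes of involutions and G has a normal 2-complement. -/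
theorem result {G : Type*} [Group G] [Finite G] (P : Sylow 2 G) (n : ℕ) (hn : 3 ≤ n) (hdih : Nonempty (↥(P : Subgroup G) ≃* DihedralGroup (2 ^ (n - 1)))) : (Nat.card {C : ConjClasses G // ∃ g : G, ConjClasses.mk g = C ∧ orderOf g = 2} = 1 ∧ ∀ N : Subgroup G, N.Normal → N.index ≠ 2) ∨ (Nat.card {C : ConjClasses G // ∃ g : G, ConjClasses.mk g = C ∧ orderOf g = 2} = 2 ∧ (∃ N : Subgroup G, N.Normal ∧ N.index = 2) ∧ ∀ N : Subgroup G, N.Normal → N.index ≠ 4) ∨ (Nat.card {C : ConjClasses G // ∃ g : G, ConjClasses.mk g = C ∧ orderOf g = 2} = 3 ∧ Cfsg.HasNormalPComplement 2 G) := by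
  obtain ⟨e⟩ := hdih
  obtain ⟨φ, hφ, hr⟩ : ∃ φ : DihedralGroup (2 ^ (n - 1)) →* G, Function.Injective φ ∧ φ.range = (P : Subgroup G) := by
    refine ⟨(P : Subgroup G).subtype.comp e.symm.toMonoidHom, (P : Subgroup G).subtype_injective.comp e.symm.injective, ?_⟩
    rw [MonoidHom.range_comp]
    have : e.symm.toMonoidHom.range = ⊤ := MonoidHom.range_eq_top.mpr e.symm.surjective
    rw [this, ← MonoidHom.range_eq_map, Subgroup.range_subtype]
  have hm : 2 ≤ n - 1 := by omega
  have hcl := CfsgLib.FgDi.classes hm P φ hφ hr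
  have hcard : Nat.card {C : ConjClasses G // ∃ g : G, ConjClasses.mk g = C ∧ orderOf g = 2} =
      Set.ncard ({ConjClasses.mk (φ (CfsgLib.FgDi.Z (n - 1))), ConjClasses.mk (φ (DihedralGroup.sr 0)), ConjClasses.mk (φ (DihedralGroup.sr 1))} : Set (ConjClasses G)) := by
    rw [← hcl, ← Nat.card_coe_set_eq]
    rfl
  rw [hcard]
  by_cases h0 : IsConj (φ (CfsgLib.FgDi.Z (n - 1))) (φ (DihedralGroup.sr 0))
  · have h0' := ConjClasses.mk_eq_mk_iff_isConj.mpr h0
    by_cases h1 : IsConj (φ (CfsgLib.FgDi.Z (n - 1))) (φ (DihedralGroup.sr 1))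
    · left
      have h1' := ConjClasses.mk_eq_mk_iff_isConj.mpr h1
      refine ⟨?_, CfsgLib.FgDi.no_index_two hm P φ hφ hr h0 h1⟩
      rw [← h0', ← h1']
      simp
    · right; left
      have h1' : ConjClasses.mk (φ (CfsgLib.FgDi.Z (n - 1))) ≠ ConjClasses.mk (φ (DihedralGroup.sr 1)) :=
        fun h => h1 (ConjClasses.mk_eq_mk_iff_isConj.mp h)
      refine ⟨?_, ?_, CfsgLib.FgDi.no_index_four hm P φ hφ hr h0⟩
      · rw [← h0', Set.insert_eq_of_mem (by simp), Set.ncard_pair h1']
      · apply CfsgLib.FgDi.exists_index_two hm P φ hφ hr (t := 0) (t' := 1) _ h0 h1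
        intro i
        obtain ⟨j, hj | hj⟩ := CfsgLib.FgDi.half (n - 1) i
        · exact Or.inl ⟨j, by rw [hj]; ring⟩
        · exact Or.inr ⟨j, by rw [hj]; ring⟩
  · have h0' : ConjClasses.mk (φ (CfsgLib.FgDi.Z (n - 1))) ≠ ConjClasses.mk (φ (DihedralGroup.sr 0)) :=
      fun h => h0 (ConjClasses.mk_eq_mk_iff_isConj.mp h)
    by_cases h1 : IsConj (φ (CfsgLib.FgDi.Z (n - 1))) (φ (DihedralGroup.sr 1))
    · right; left
      have h1' := ConjClasses.mk_eq_mk_iff_isConj.mpr h1
      refine ⟨?_, ?_, CfsgLib.FgDi.no_index_four hm P φ hφ hr h1⟩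
      · rw [← h1', Set.insert_eq_of_mem (by simp), Set.pair_comm, Set.ncard_pair h0']
      · apply CfsgLib.FgDi.exists_index_two hm P φ hφ hr (t := 1) (t' := 0) _ h1 h0
        intro i
        obtain ⟨j, hj | hj⟩ := CfsgLib.FgDi.half (n - 1) i
        · exact Or.inr ⟨j, by rw [hj]; ring⟩
        · exact Or.inl ⟨j, by rw [hj]; ring⟩
    · right; right
      have h1' : ConjClasses.mk (φ (CfsgLib.FgDi.Z (n - 1))) ≠ ConjClasses.mk (φ (DihedralGroup.sr 1)) :=
        fun h => h1 (ConjClasses.mk_eq_mk_iff_isConj.mp h)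
      obtain ⟨h2, h3⟩ := CfsgLib.FgDi.complement hm P φ hφ hr h0 h1
      have h3' : ConjClasses.mk (φ (DihedralGroup.sr 0)) ≠ ConjClasses.mk (φ (DihedralGroup.sr 1)) :=
        fun h => h3 (ConjClasses.mk_eq_mk_iff_isConj.mp h)
      refine ⟨?_, h2⟩
      exact Set.ncard_eq_three.mpr ⟨_, _, _, h0', h1', h3', rfl⟩

end Cfsg.Agent.S3864
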