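import Cfsg.Statements.S3868
import Cfsg.Agent.LibMinNonPC
import Cfsg.Agent.LibCores
import Cfsg.Agent.LibFpf
import Cfsg.Agent.LibSolvCoprime
import Cfsg.Agent.LibBGPi
import Cfsg.Agent.LibBGCop

set_option autoImplicit false
open Cfsg

namespace Cfsg.Agent.S3868



open Subgroup Cfsg CfsgLib.MinNonPC CfsgLib.BGPi CfsgLib.SolvCoprime

theorem pc_of_quot {G : Type*} [Group G] [Finite G] {p : ℕ} [Fact p.Prime] (N : Subgroup G) [N.Normal]
    (hN : IsPGroup p N) (h : IsPClosed p (G ⧸ N)) : IsPClosed p G := by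
  obtain ⟨Q⟩ : Nonempty (Sylow p (G ⧸ N)) := inferInstance
  haveI := h Q
  have h1 : IsPGroup p ((Q : Subgroup (G ⧸ N)).comap (QuotientGroup.mk' N)) :=
    Q.isPGroup'.comap_of_ker_isPGroup _ (by rw [QuotientGroup.ker_mk']; exact hN)
  apply isPClosed_of_normal _ h1
  rw [Subgroup.index_comap_of_surjective _ (QuotientGroup.mk'_surjective N)]
  exact Q.not_dvd_index

/-- in a `p`-closed normal subgroup the Sylow subgroup is normal in the whole group -/
theorem exists_normal_sylow {G : Type*} [Group G] [Finite G] {p : ℕ} [Fact p.Prime] (K : Subgroup G)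
    [K.Normal] (h : IsPClosed p K) : ∃ R : Subgroup G, R.Normal ∧ R ≤ K ∧ IsPGroup p R ∧ ¬ p ∣ R.relIndex K := by
  obtain ⟨Q⟩ : Nonempty (Sylow p K) := inferInstance
  haveI := Sylow.characteristic_of_normal Q (h Q)
  refine ⟨(Q : Subgroup K).map K.subtype, inferInstance, Subgroup.map_subtype_le _, ?_, ?_⟩
  · exact Q.isPGroup'.map _
  · have h2 : ((Q : Subgroup K).map K.subtype).relIndex K = (Q : Subgroup K).index := by
      rw [Subgroup.relIndex, Subgroup.subgroupOf, Subgroup.comap_map_eq_self_of_injective K.subtype_injective]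
    rw [h2]
    exact Q.not_dvd_index

/-- Structure of the non-simple minimal non-p-closed groups. Call a finite group p-closed when its Sylow p-subgroups are normal, and minimal non-p-closed when it is not p-closed but every proper subgroup and every proper quotient is. If such a group G is not simple, then there is a prime q ≠ p such that G has order p · q^e, where e is the multiplicative order of q modulo p, and G has a normal subgroup A of order q^e that is elementary abelian and is a minimal normal subgroup of G (so G is the semidirect product of A by a group of order p acting irreducibly). -/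
theorem result {G : Type*} [Group G] [Finite G] {p : ℕ} [Fact p.Prime]
    (hnc : ¬ Cfsg.IsPClosed p G) (hsub : ∀ H : Subgroup G, H ≠ ⊤ → Cfsg.IsPClosed p ↥H)
    (hquo : ∀ (N : Subgroup G) [N.Normal], N ≠ ⊥ → Cfsg.IsPClosed p (G ⧸ N)) (hns : ¬ IsSimpleGroup G) :
    ∃ q : ℕ, q.Prime ∧ q ≠ p ∧ Nat.card G = p * q ^ orderOf (q : ZMod p) ∧
      ∃ A : Subgroup G, A.Normal ∧ Nat.card ↥A = q ^ orderOf (q : ZMod p) ∧ Cfsg.IsElementaryAbelian q A ∧
        ∀ B : Subgroup G, B.Normal → B ≤ A → B = ⊥ ∨ B = A := by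
  classical
  have hp : p.Prime := Fact.out
  haveI : Nontrivial G := by
    by_contra hcon
    rw [not_nontrivial_iff_subsingleton] at hcon
    apply hnc
    apply isPClosed_of_not_dvd
    rw [Nat.card_eq_one_iff_unique.mpr ⟨hcon, inferInstance⟩]
    exact hp.one_lt.ne' ∘ Nat.dvd_one.mp
  obtain ⟨M, hM, hM1, hMt⟩ : ∃ N : Subgroup G, N.Normal ∧ N ≠ ⊥ ∧ N ≠ ⊤ := by
    by_contra hcon
    push Not at hcon
    apply hns
    refine ⟨fun H hH => ?_⟩
    by_cases h5 : H = ⊥
    · exact Or.inl h5
    · exact Or.inr (hcon H hH h5)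
  obtain ⟨N, hN, hNM, hN1, hmin⟩ := CfsgLib.Cores.exists_minimal_normal M hM1
  have hNt : N ≠ ⊤ := by
    rintro rfl
    exact hMt (top_le_iff.mp hNM)
  -- `N` is a `p'`-group
  have hNp : ¬ p ∣ Nat.card N := by
    intro hdvd
    obtain ⟨R, hR, hRN, hRp, hRi⟩ := exists_normal_sylow N (hsub N hNt)
    rcases hmin R hR hRN with h | h
    · rw [h, Subgroup.relIndex_bot_left] at hRi
      exact hRi hdvd
    · rw [h] at hRp
      exact hnc (pc_of_quot N hRp (hquo N hN1))
  -- a proper normal subgroup of index prime to `p` does not exist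
  have hquot : IsPGroup p (G ⧸ N) := by
    obtain ⟨Q⟩ : Nonempty (Sylow p (G ⧸ N)) := inferInstance
    haveI := hquo N hN1 Q
    let K := (Q : Subgroup (G ⧸ N)).comap (QuotientGroup.mk' N)
    have hKi : ¬ p ∣ K.index := by
      rw [Subgroup.index_comap_of_surjective _ (QuotientGroup.mk'_surjective N)]
      exact Q.not_dvd_index
    by_cases hK : K = ⊤
    · have h1 : (Q : Subgroup (G ⧸ N)) = ⊤ := by
        apply Subgroup.comap_injective (QuotientGroup.mk'_surjective N)
        rw [Subgroup.comap_top]; exact hK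
      have h2 := Q.isPGroup'
      rw [h1] at h2
      exact h2.of_equiv Subgroup.topEquiv
    · exfalso
      obtain ⟨R, hR, hRK, hRp, hRi⟩ := exists_normal_sylow K (hsub K hK)
      apply hnc
      apply isPClosed_of_normal R hRp
      rw [← Subgroup.relIndex_mul_index hRK]
      intro h
      rcases (Nat.Prime.dvd_mul hp).mp h with h | h
      · exact hRi h
      · exact hKi h
  -- the index is `p`
  obtain ⟨n, hn⟩ := IsPGroup.iff_card.mp hquot
  have hn0 : n ≠ 0 := by
    rintro rfl
    rw [pow_zero, ← Subgroup.index_eq_card, Subgroup.index_eq_one] at hn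
    exact hNt hn
  have hidx : N.index = p := by
    haveI : Nontrivial (G ⧸ N) := by
      rw [← Finite.one_lt_card_iff_nontrivial, hn]
      exact Nat.one_lt_pow hn0 hp.one_lt
    by_contra hne
    have hn2 : 2 ≤ n := by
      by_contra hcon
      have h1 : n = 1 := by omega
      apply hne
      rw [Subgroup.index_eq_card, hn, h1, pow_one]
    haveI := hquot.center_nontrivial
    obtain ⟨k, hk⟩ := IsPGroup.iff_card.mp (hquot.to_subgroup (center (G ⧸ N)))
    have hk0 : k ≠ 0 := by
      rintro rfl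
      rw [pow_zero] at hk
      have h1 : 1 < Nat.card (center (G ⧸ N)) := Finite.one_lt_card
      omega
    obtain ⟨z, hz⟩ := exists_prime_orderOf_dvd_card' (G := center (G ⧸ N)) p
      (by rw [hk]; exact dvd_pow_self p hk0)
    have hzc := z.2
    have hzo : orderOf (z : G ⧸ N) = p := by rw [Subgroup.orderOf_coe, hz]
    haveI hzn : (zpowers (z : G ⧸ N)).Normal := by
      refine ⟨fun b hb g => ?_⟩
      have h1 : b ∈ center (G ⧸ N) := (Subgroup.zpowers_le.mpr hzc) hb
      rw [mem_center_iff.mp h1 g]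
      simpa using hb
    let K := (zpowers (z : G ⧸ N)).comap (QuotientGroup.mk' N)
    have hKi : K.index = p ^ (n - 1) := by
      have h1 : K.index = (zpowers (z : G ⧸ N)).index :=
        Subgroup.index_comap_of_surjective _ (QuotientGroup.mk'_surjective N)
      have h2 := Subgroup.card_mul_index (zpowers (z : G ⧸ N))
      rw [Nat.card_zpowers, hzo, hn] at h2
      rw [h1]
      apply Nat.eq_of_mul_eq_mul_left hp.pos
      rw [h2, ← pow_succ']
      congr 1
      omega
    have hK : K ≠ ⊤ := by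
      intro h
      rw [h, Subgroup.index_top] at hKi
      have : 1 < p ^ (n - 1) := Nat.one_lt_pow (by omega) hp.one_lt
      omega
    obtain ⟨R, hR, hRK, hRp, hRi⟩ := exists_normal_sylow K (hsub K hK)
    by_cases hR1 : R = ⊥
    · rw [hR1, Subgroup.relIndex_bot_left] at hRi
      apply hRi
      have hNK : N ≤ K := by
        intro x hx
        have : (QuotientGroup.mk' N) x = 1 := (QuotientGroup.eq_one_iff x).mpr hx
        show (QuotientGroup.mk' N) x ∈ zpowers (z : G ⧸ N)
        rw [this]; exact one_mem _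
      have h3 := Subgroup.card_mul_index K
      have h4 := Subgroup.card_mul_index N
      rw [Subgroup.index_eq_card, hn] at h4
      rw [hKi, ← h4] at h3
      have h5 : p ^ n = p * p ^ (n - 1) := by rw [← pow_succ']; congr 1; omega
      rw [h5, ← mul_assoc] at h3
      have h6 := Nat.eq_of_mul_eq_mul_right (pow_pos hp.pos _) h3
      rw [h6]; exact Dvd.intro_left _ rfl
    · haveI := hR
      exact hnc (pc_of_quot R hRp (hquo R hR1))
  have hcG : Nat.card G = p * Nat.card N := by
    rw [← Subgroup.card_mul_index N, hidx, mul_comm]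
  obtain ⟨x, hx⟩ := exists_prime_orderOf_dvd_card' (G := G) p (by rw [hcG]; exact Dvd.intro _ rfl)
  have hcx : Nat.card (zpowers x) = p := by rw [Nat.card_zpowers, hx]
  have hxp : IsPGroup p (zpowers x) := IsPGroup.of_card (n := 1) (by rw [hcx, pow_one])
  have hcop : (Nat.card (zpowers x)).Coprime (Nat.card N) := by
    rw [hcx]; exact (hp.coprime_iff_not_dvd).mpr hNp
  have hxN : x ∉ N := by
    intro h
    apply hNp
    rw [← hcx]
    exact Subgroup.card_dvd_of_le (Subgroup.zpowers_le.mpr h)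
  have hnN : (⊤ : Subgroup G) ≤ 𝓝(N) := by rw [Subgroup.normalizer_eq_top]
  have hxsolv : Group.IsSolvable (zpowers x) := solvable_of_isPGroup hp hxp
  have hxx : IsPGroup p (zpowers x) → ¬ (zpowers x).Normal := by
    intro _ hnorm
    apply hnc
    haveI := hnorm
    apply isPClosed_of_normal (zpowers x) hxp
    intro h
    have h1 := Subgroup.card_mul_index (zpowers x)
    rw [hcx, hcG] at h1
    have h2 := Nat.eq_of_mul_eq_mul_left hp.pos h1
    rw [h2] at h
    exact hNp h
  have hx1 : ∃ a ∈ N, x * a * x⁻¹ ≠ a := by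
    by_contra hcon
    push Not at hcon
    apply hxx hxp
    refine ⟨?_⟩
    intro b hb g
    obtain ⟨i, a, ha, rfl⟩ := gen hidx hxN g
    obtain ⟨j, rfl⟩ := mem_zpowers_iff.mp hb
    have h1 : Commute x a := by
      have := hcon a ha
      show x * a = a * x
      calc x * a = (x * a * x⁻¹) * x := by group
        _ = a * x := by rw [this]
    have h2 : a * x ^ i * x ^ j * (a * x ^ i)⁻¹ = x ^ j := by
      have h3 : a * x ^ j = x ^ j * a := (h1.symm.zpow_right j).eq
      have h4 : x ^ i * x ^ j = x ^ j * x ^ i := ((Commute.refl x).pow_left i).zpow_right j |>.eq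
      calc a * x ^ i * x ^ j * (a * x ^ i)⁻¹ = a * (x ^ i * x ^ j) * (x ^ i)⁻¹ * a⁻¹ := by group
        _ = a * x ^ j * a⁻¹ := by rw [h4]; group
        _ = x ^ j := by rw [h3]; group
    rw [h2]
    exact hb
  -- some Sylow subgroup of `N` with `x` generates everything
  obtain ⟨q, hq, Q, hQ, hxQ, hgen⟩ : ∃ (q : ℕ) (_ : Fact q.Prime) (Q : Subgroup G), IsSylowIn q Q N ∧
      zpowers x ≤ 𝓝(Q) ∧ zpowers x ⊔ Q = ⊤ := by
    by_contra hcon
    push Not at hcon
    have hle : N ≤ 𝓒(zpowers x) ⊓ N := by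
      apply CfsgLib.Fpf.le_of_forall_sylow inf_le_right
      intro q hq
      obtain ⟨Q, hQ, hxQ⟩ := exists_invariant_sylow (zpowers x) N (le_top.trans hnN) hcop (Or.inl hxsolv) q
      refine ⟨Q, hQ, le_inf ?_ hQ.1⟩
      have h1 := hcon q hq Q hQ hxQ
      have h2 := hsub _ h1
      -- the Sylow subgroup of `⟨x⟩Q`
      obtain ⟨S, hS⟩ := (hxp.of_equiv (Subgroup.subgroupOfEquivOfLe
        (le_sup_left : zpowers x ≤ zpowers x ⊔ Q)).symm).exists_le_sylow
      have hSn := h2 S
      intro a ha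
      rw [mem_cz]
      intro y hy
      obtain ⟨j, rfl⟩ := mem_zpowers_iff.mp hy
      have hxS : (⟨x, (le_sup_left : zpowers x ≤ zpowers x ⊔ Q) (mem_zpowers x)⟩ : (zpowers x ⊔ Q : Subgroup G)) ∈ (S : Subgroup _) :=
        hS (Subgroup.mem_subgroupOf.mpr (mem_zpowers x))
      have hxS' := Subgroup.inv_mem _ hxS
      have haS := hSn.conj_mem _ hxS' ⟨a, (le_sup_right : Q ≤ zpowers x ⊔ Q) ha⟩
      have h3 := Subgroup.mul_mem _ hxS haS
      obtain ⟨k, hk⟩ := S.isPGroup' ⟨_, h3⟩
      have h4 : (x * (a * x⁻¹ * a⁻¹)) ^ p ^ k = 1 := congrArg (fun t => ((t : (zpowers x ⊔ Q : Subgroup G)) : G)) (congrArg Subtype.val hk)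
      have h5 : x * (a * x⁻¹ * a⁻¹) ∈ Q := by
        have h6 : x * a * x⁻¹ ∈ Q := (Subgroup.mem_normalizer_iff.mp (hxQ (mem_zpowers x)) a).1 ha
        have h7 : x * (a * x⁻¹ * a⁻¹) = (x * a * x⁻¹) * a⁻¹ := by group
        rw [h7]; exact Q.mul_mem h6 (Q.inv_mem ha)
      have h8 : x * (a * x⁻¹ * a⁻¹) = 1 := by
        have h9 := orderOf_dvd_of_pow_eq_one h4
        have h10 : orderOf (x * (a * x⁻¹ * a⁻¹)) ∣ Nat.card N := by
          rw [← Subgroup.orderOf_mk _ (hQ.1 h5)]
          exact orderOf_dvd_natCard _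
        have h11 : Nat.Coprime (p ^ k) (Nat.card N) := Nat.Coprime.pow_left k ((hp.coprime_iff_not_dvd).mpr hNp)
        exact orderOf_eq_one_iff.mp (Nat.eq_one_of_dvd_coprimes h11 h9 h10)
      have h12 : Commute x a := by
        show x * a = a * x
        calc x * a = x * (a * x⁻¹ * a⁻¹) * (a * x) := by group
          _ = a * x := by rw [h8, one_mul]
      exact (h12.zpow_left j).eq
    obtain ⟨a, ha, hne⟩ := hx1
    apply hne
    have h1 := (mem_cz.1 (hle ha).1) x (mem_zpowers x)
    rw [h1]; group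
  -- so `N = Q`
  have hcard1 : Nat.card (zpowers x ⊔ Q : Subgroup G) * Nat.card (zpowers x ⊓ Q : Subgroup G) =
      Nat.card (zpowers x) * Nat.card Q := card_sup_mul_card_inf hxQ
  have hinf : zpowers x ⊓ Q = ⊥ := by
    apply cop_inf
    exact cop_le hcop le_rfl hQ.1
  rw [hgen, hinf, Subgroup.card_bot, mul_one, Subgroup.card_top, hcx, hcG] at hcard1
  have hNQ : N = Q := (eq_of_card_le hQ.1 (Nat.eq_of_mul_eq_mul_left hp.pos hcard1).le).symm
  have hNq : IsPGroup q N := by rw [hNQ]; exact hQ.2.1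
  have hqp : q.Prime := hq.out
  have hNs : Group.IsSolvable N := solvable_of_isPGroup hqp hNq
  obtain ⟨q', hq', hNc, hNe, hNq'⟩ := CfsgLib.Cores.minimal_normal_elementary N hN1 hmin hNs
  have hNne : 1 < Nat.card N := by
    rw [Subgroup.one_lt_card_iff_ne_bot]; exact hN1
  have hqq : q' = q := by
    haveI : Fact q'.Prime := ⟨hq'⟩
    obtain ⟨a, ha⟩ := IsPGroup.iff_card.mp hNq
    obtain ⟨b, hb⟩ := IsPGroup.iff_card.mp hNq'
    have ha0 : a ≠ 0 := by rintro rfl; rw [pow_zero] at ha; omega
    have h1 : q ∣ q' ^ b := by rw [← hb, ha]; exact dvd_pow_self q ha0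
    exact ((Nat.prime_dvd_prime_iff_eq hqp hq').mp (hqp.dvd_of_dvd_pow h1)).symm
  subst hqq
  have hqnp : q' ≠ p := by
    rintro rfl
    apply hNp
    obtain ⟨a, ha⟩ := IsPGroup.iff_card.mp hNq
    have ha0 : a ≠ 0 := by rintro rfl; rw [pow_zero] at ha; omega
    rw [ha]; exact dvd_pow_self _ ha0
  have hNcomm : ∀ a ∈ N, ∀ b ∈ N, a * b = b * a :=
    fun a ha b hb => congrArg Subtype.val (hNc.is_comm.comm ⟨a, ha⟩ ⟨b, hb⟩)
  have hcard := CfsgLib.IrrCard.irr_card_group hqp hqnp N hN1 hNcomm hNe x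
    (fun a ha => Subgroup.Normal.conj_mem inferInstance a ha x)
    (by
      intro a _
      rw [← hx, pow_orderOf_eq_one]; simp) hx1 (by
      intro B hBA hB
      exact hmin B (normal_of_inv hidx hxN hNcomm hBA hB) hBA)
  refine ⟨q', hqp, hqnp, by rw [hcG, hcard], N, hN, hcard, ⟨hNc, hNe⟩, hmin⟩


end Cfsg.Agent.S3868
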