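import Cfsg.Statements.S3869
import Cfsg.Agent.LibMinNonPC

set_option autoImplicit false
open Cfsg

namespace Cfsg.Agent.S3869



open Subgroup Cfsg CfsgLib.MinNonPC

/-- Let p and q be distinct primes and G a finite non-abelian group with a normal elementary abelian q-subgroup A that is a minimal normal subgroup of G and has index p. Then A has order q^e with e the multiplicative order of q modulo p, and G is minimal non-p-closed: its Sylow p-subgroups are not normal, while in every proper subgroup and in every proper quotient of G the Sylow p-subgroups are normal. -/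
theorem result {G : Type*} [Group G] [Finite G] {p q : ℕ} [Fact p.Prime] (hq : q.Prime) (hpq : q ≠ p)
    (hna : ¬ IsMulCommutative G) (A : Subgroup G) [A.Normal] (hA : Cfsg.IsElementaryAbelian q A) (hidx : A.index = p)
    (hmin : ∀ B : Subgroup G, B.Normal → B ≤ A → B = ⊥ ∨ B = A) :
    Nat.card ↥A = q ^ orderOf (q : ZMod p) ∧ ¬ Cfsg.IsPClosed p G ∧ (∀ H : Subgroup G, H ≠ ⊤ → Cfsg.IsPClosed p ↥H) ∧
      ∀ (N : Subgroup G) [N.Normal], N ≠ ⊥ → Cfsg.IsPClosed p (G ⧸ N) := by
  classical
  have hAc : ∀ a ∈ A, ∀ b ∈ A, a * b = b * a := fun a ha b hb => congrArg Subtype.val (hA.1.is_comm.comm ⟨a, ha⟩ ⟨b, hb⟩)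
  have hAq : ∀ a ∈ A, a ^ q = 1 := fun a ha => hA.2 a ha
  have hpG : p ∣ Nat.card G := by rw [← hidx]; exact Subgroup.index_dvd_card A
  obtain ⟨x, hx⟩ := exists_prime_orderOf_dvd_card' p hpG
  have hnotA : ∀ y : G, (∃ k : ℕ, y ^ p ^ k = 1) → y ∈ A → y = 1 := by
    rintro y ⟨k, hk⟩ hyA
    have h1 := orderOf_dvd_of_pow_eq_one hk
    have h2 := orderOf_dvd_of_pow_eq_one (hAq y hyA)
    have h3 : Nat.Coprime (p ^ k) q :=
      Nat.Coprime.pow_left k ((Nat.coprime_primes (Fact.out) hq).mpr hpq.symm)
    exact orderOf_eq_one_iff.mp (Nat.eq_one_of_dvd_coprimes h3 h1 h2)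
  have hxA : x ∉ A := by
    intro h
    have := hnotA x ⟨1, by rw [pow_one, ← hx, pow_orderOf_eq_one]⟩ h
    rw [this, orderOf_one] at hx
    exact (Fact.out : p.Prime).one_lt.ne hx
  have habel : ∀ y : G, y ∉ A → (∀ a ∈ A, y * a * y⁻¹ = a) → False := by
    intro y hy hc
    apply hna
    have hyc : ∀ (i : ℕ) a, a ∈ A → y ^ i * a = a * y ^ i := by
      intro i a ha
      have h1 : Commute y a := by
        have := hc a ha
        show y * a = a * y
        calc y * a = (y * a * y⁻¹) * y := by group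
          _ = a * y := by rw [this]
      exact (h1.pow_left i).eq
    refine ⟨⟨fun u v => ?_⟩⟩
    obtain ⟨i, a, ha, rfl⟩ := gen hidx hy u
    obtain ⟨j, b, hb, rfl⟩ := gen hidx hy v
    calc a * y ^ i * (b * y ^ j) = a * (y ^ i * b) * y ^ j := by group
      _ = a * b * (y ^ i * y ^ j) := by rw [hyc i b hb]; group
      _ = b * a * (y ^ j * y ^ i) := by rw [hAc a ha b hb, ← pow_add, ← pow_add, add_comm]
      _ = b * (a * y ^ j) * y ^ i := by group
      _ = b * (y ^ j * a) * y ^ i := by rw [hyc j a ha]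
      _ = b * y ^ j * (a * y ^ i) := by group
  have hA1 : A ≠ ⊥ := by
    intro h
    apply habel x hxA
    intro a ha
    rw [h, Subgroup.mem_bot] at ha
    subst ha; simp
  have hx1 : ∃ a ∈ A, x * a * x⁻¹ ≠ a := by
    by_contra hcon
    push Not at hcon
    exact habel x hxA hcon
  have hcardA := CfsgLib.IrrCard.irr_card_group hq hpq A hA1 hAc hAq x
    (fun a ha => Subgroup.Normal.conj_mem inferInstance a ha x)
    (by
      intro a _
      rw [← hx, pow_orderOf_eq_one]; simp) hx1 (by
      intro B hBA hB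
      exact hmin B (normal_of_inv hidx hxA hAc hBA hB) hBA)
  have hnc : ¬ IsPClosed p G := by
    intro hcl
    obtain ⟨P, hP⟩ := (IsPGroup.of_card (p := p) (n := 1) (G := Subgroup.zpowers x)
      (by rw [Nat.card_zpowers, hx, pow_one])).exists_le_sylow
    have hPn := hcl P
    obtain ⟨a, ha, hne⟩ := hx1
    apply hne
    have hxP : x ∈ (P : Subgroup G) := hP (Subgroup.mem_zpowers x)
    have h1 : x * a * x⁻¹ * a⁻¹ ∈ A :=
      A.mul_mem (Subgroup.Normal.conj_mem inferInstance a ha x) (A.inv_mem ha)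
    have h2 : x * a * x⁻¹ * a⁻¹ ∈ (P : Subgroup G) := by
      have h3 : x * a * x⁻¹ * a⁻¹ = x * (a * x⁻¹ * a⁻¹) := by group
      rw [h3]
      exact (P : Subgroup G).mul_mem hxP (hPn.conj_mem _ ((P : Subgroup G).inv_mem hxP) a)
    have h4 : x * a * x⁻¹ * a⁻¹ = 1 := by
      apply hnotA _ _ h1
      obtain ⟨k, hk⟩ := P.isPGroup' ⟨_, h2⟩
      exact ⟨k, congrArg Subtype.val hk⟩
    exact mul_inv_eq_one.mp h4
  -- a subgroup meeting `A` trivially has order dividing `p`
  have hsmall : ∀ H : Subgroup G, H ⊓ A = ⊥ → Nat.card H ∣ p := by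
    intro H hH
    have h1 : A.relIndex H ∣ p := by rw [← hidx]; exact Subgroup.relIndex_dvd_index_of_normal A H
    have h2 : A.relIndex H = Nat.card H := by
      rw [← Subgroup.inf_relIndex_left, hH, Subgroup.relIndex_bot_left]
    rwa [h2] at h1
  refine ⟨hcardA, hnc, ?_, ?_⟩
  · intro H hH
    by_cases hpH : p ∣ Nat.card H
    · obtain ⟨y, hy⟩ := exists_prime_orderOf_dvd_card' p hpH
      have hyp : (y : G) ^ p = 1 := by
        have := pow_orderOf_eq_one y
        rw [hy] at this
        exact congrArg Subtype.val this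
      have hyA : (y : G) ∉ A := by
        intro h
        have h1 := hnotA y ⟨1, by rw [pow_one]; exact hyp⟩ h
        have h2 : y = 1 := Subtype.ext h1
        rw [h2, orderOf_one] at hy
        exact (Fact.out : p.Prime).one_lt.ne hy
      have h1 : (H ⊓ A).Normal := by
        apply normal_of_inv hidx hyA hAc inf_le_right
        rintro b ⟨hb1, hb2⟩
        exact ⟨H.mul_mem (H.mul_mem y.2 hb1) (H.inv_mem y.2),
          Subgroup.Normal.conj_mem inferInstance b hb2 y⟩
      rcases hmin _ h1 inf_le_right with h2 | h2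
      · have h3 := hsmall H h2
        have h4 : Nat.card H = p := Nat.dvd_antisymm h3 hpH
        exact isPClosed_of_pgroup (IsPGroup.of_card (n := 1) (by rw [h4, pow_one]))
      · exfalso
        apply hH
        rw [eq_top_iff]
        intro g _
        obtain ⟨i, a, ha, rfl⟩ := gen hidx hyA g
        have h3 : A ≤ H := by rw [← h2]; exact inf_le_left
        exact H.mul_mem (h3 ha) (H.pow_mem y.2 i)
    · exact isPClosed_of_not_dvd hpH
  · intro N _ hN
    have h1 : (N ⊓ A).Normal := inferInstance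
    rcases hmin _ h1 inf_le_right with h2 | h2
    · exfalso
      obtain ⟨y', hy'⟩ := Subgroup.ne_bot_iff_exists_ne_one.mp hN
      have hyA : (y' : G) ∉ A := by
        intro h
        have h3 : (y' : G) ∈ N ⊓ A := ⟨y'.2, h⟩
        rw [h2, Subgroup.mem_bot] at h3
        exact hy' (Subtype.ext h3)
      apply habel y' hyA
      intro a ha
      have h3 : (y' : G) * a * (y' : G)⁻¹ * a⁻¹ ∈ N ⊓ A := by
        constructor
        · have h4 : (y' : G) * a * (y' : G)⁻¹ * a⁻¹ = (y' : G) * (a * (y' : G)⁻¹ * a⁻¹) := by group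
          show (y' : G) * a * (y' : G)⁻¹ * a⁻¹ ∈ N
          rw [h4]
          exact N.mul_mem y'.2 (Subgroup.Normal.conj_mem inferInstance _ (N.inv_mem y'.2) a)
        · exact A.mul_mem (Subgroup.Normal.conj_mem inferInstance a ha y') (A.inv_mem ha)
      rw [h2, Subgroup.mem_bot] at h3
      exact mul_inv_eq_one.mp h3
    · have h3 : A ≤ N := by rw [← h2]; exact inf_le_left
      have h4 : Nat.card (G ⧸ N) ∣ p := by
        rw [← Subgroup.index_eq_card, ← hidx]
        exact Subgroup.index_dvd_of_le h3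
      apply isPClosed_of_pgroup
      rcases (Nat.dvd_prime (Fact.out : p.Prime)).mp h4 with h5 | h5
      · exact IsPGroup.of_card (n := 0) (by rw [h5, pow_zero])
      · exact IsPGroup.of_card (n := 1) (by rw [h5, pow_one])


end Cfsg.Agent.S3869
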