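import Cfsg.Statements.S3870
import Cfsg.Agent.LibFusionH12

set_option autoImplicit false
open Cfsg

namespace Cfsg.Agent.S3870

/-- Let G be a finite simple group whose Sylow p-subgroups are not normal but such that every proper subgroup of G has a normal Sylow p-subgroup. Then any two distinct Sylow p-subgroups of G intersect trivially, and for every Sylow p-subgroup P the normalizer of every non-identity subgroup of P lies in the normalizer of P. -/
theorem result {G : Type*} [Group G] [Finite G] [IsSimpleGroup G] {p : ℕ} [Fact p.Prime]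
    (hnc : ¬ Cfsg.IsPClosed p G) (hsub : ∀ H : Subgroup G, H ≠ ⊤ → Cfsg.IsPClosed p ↥H) :
    (∀ P Q : Sylow p G, P ≠ Q → (P : Subgroup G) ⊓ (Q : Subgroup G) = ⊥) ∧
      ∀ (P : Sylow p G) (R : Subgroup G), R ≤ P → R ≠ ⊥ →
        Subgroup.normalizer (R : Set G) ≤ Subgroup.normalizer ((P : Subgroup G) : Set G) := by
  have hTI : ∀ P Q : Sylow p G, P ≠ Q → (P : Subgroup G) ⊓ (Q : Subgroup G) = ⊥ := by
    by_contra hcon
    push Not at hcon
    -- choose a pair with largest intersection
    let S : Set (Sylow p G × Sylow p G) := {x | x.1 ≠ x.2}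
    have hSf : S.Finite := Set.toFinite S
    obtain ⟨P0, Q0, hPQ0, hne0⟩ := hcon
    obtain ⟨⟨P, Q⟩, hPQ, hmax⟩ := hSf.exists_maximalFor (fun x => Nat.card ↥((x.1 : Subgroup G) ⊓ (x.2 : Subgroup G)))
      _ ⟨(P0, Q0), hPQ0⟩
    have hPQ' : P ≠ Q := hPQ
    set D := (P : Subgroup G) ⊓ (Q : Subgroup G) with hD
    have hmax' : ∀ P' Q' : Sylow p G, P' ≠ Q' → Nat.card ↥((P' : Subgroup G) ⊓ (Q' : Subgroup G)) ≤ Nat.card D := by
      intro P' Q' hne
      rcases le_total (Nat.card ↥((P' : Subgroup G) ⊓ (Q' : Subgroup G))) (Nat.card D) with h | h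
      · exact h
      · exact hmax (j := (P', Q')) hne h
    have hD1 : D ≠ ⊥ := by
      intro h
      have h1 := hmax' P0 Q0 hPQ0
      rw [h, Subgroup.card_bot] at h1
      exact hne0 (Subgroup.card_eq_one.1 (le_antisymm h1 Nat.card_pos))
    have hDP : D < P := by
      refine lt_of_le_of_ne inf_le_left fun h => hPQ' ?_
      have h1 : (P : Subgroup G) ≤ Q := by rw [← h]; exact inf_le_right
      exact Sylow.ext (P.3 Q.2 h1).symm
    have hDQ : D < Q := by
      refine lt_of_le_of_ne inf_le_right fun h => hPQ' ?_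
      have h1 : (Q : Subgroup G) ≤ P := by rw [← h]; exact inf_le_left
      exact Sylow.ext (Q.3 P.2 h1)
    set N := Subgroup.normalizer (D : Set G) with hN
    have hNt : N ≠ ⊤ := by
      intro h
      have hDn : D.Normal := Subgroup.normalizer_eq_top_iff.1 h
      rcases hDn.eq_bot_or_eq_top with h1 | h1
      · exact hD1 h1
      · have : (P : Subgroup G) = ⊤ := top_le_iff.1 (h1 ▸ hDP.le)
        rw [h1] at hDP
        exact absurd le_top (not_le_of_gt hDP)
    obtain ⟨T⟩ : Nonempty (Sylow p N) := inferInstance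
    have hTn := hsub N hNt T
    have hle : ∀ R : Subgroup G, IsPGroup p R → R ≤ N → R ≤ (T : Subgroup N).map N.subtype := by
      intro R hR hRN
      have h1 : IsPGroup p (R.subgroupOf N) := hR.comap_subtype
      obtain ⟨T', hT'⟩ := h1.exists_le_sylow
      haveI := hTn
      haveI : Unique (Sylow p N) := Sylow.unique_of_normal T hTn
      have h2 : T' = T := Subsingleton.elim _ _
      rw [h2] at hT'
      have h3 := Subgroup.map_mono (f := N.subtype) hT'
      rwa [Subgroup.subgroupOf_map_subtype, inf_of_le_left hRN] at h3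
    have hTp : IsPGroup p ((T : Subgroup N).map N.subtype) := T.2.map _
    obtain ⟨R, hR⟩ := hTp.exists_le_sylow
    have hcl : ∀ S : Sylow p G, D < S → S = R := by
      intro S hDS
      by_contra hne
      have h1 := CfsgLib.FusionH12.lt_nrm_inf S.2 hDS
      have h2 : (S : Subgroup G) ⊓ N ≤ (S : Subgroup G) ⊓ R := le_inf inf_le_left
        ((hle _ (S.2.to_le inf_le_left) inf_le_right).trans hR)
      have h3 := hmax' S R hne
      have h4 : D < (S : Subgroup G) ⊓ R := lt_of_lt_of_le h1 h2
      exact absurd (Subgroup.eq_of_le_of_card_ge h4.le h3) h4.ne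
    exact hPQ' ((hcl P hDP).trans (hcl Q hDQ).symm)
  refine ⟨hTI, ?_⟩
  intro P R hRP hR1 g hg
  by_contra hgP
  have hne : g • P ≠ P := by
    intro h
    apply hgP
    exact Sylow.smul_eq_iff_mem_normalizer.1 h
  have h1 := hTI (g • P) P hne
  apply hR1
  rw [eq_bot_iff, ← h1]
  refine le_inf ?_ hRP
  intro r hr
  rw [Sylow.coe_subgroup_smul, Subgroup.mem_pointwise_smul_iff_inv_smul_mem]
  have := (Subgroup.mem_normalizer_iff.1 (inv_mem hg) r).1 hr
  have e : (MulAut.conj g)⁻¹ • r = g⁻¹ * r * g⁻¹⁻¹ := by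
    rw [← map_inv, MulAut.smul_def, MulAut.conj_apply]
  rw [e]
  exact hRP this

end Cfsg.Agent.S3870
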