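import Cfsg.Statements.S4209
import Cfsg.Agent.LibPSeq

set_option autoImplicit false
open Cfsg

namespace Cfsg.Agent.S4209

/-- A finite `p`-group of nilpotency class less than `p` (the term of index `p - 1` of the lower central series of the whole group, indexed from `0`, is trivial) is a regular `p`-group. -/
theorem result {G : Type*} [Group G] [Finite G] {p : ℕ} [Fact p.Prime] (hG : IsPGroup p G) (hcl : (⊤ : Subgroup G).lowerCentralSeries (p - 1) = ⊥) : Cfsg.IsRegularPGroup p G := by

  classical
  have hp := (Fact.out : p.Prime)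
  refine ⟨hG, ?_⟩
  intro a b n
  set H := Subgroup.closure ({a, b} : Set G) with hH
  have haH : a ∈ H := Subgroup.subset_closure (by simp)
  have hbH : b ∈ H := Subgroup.subset_closure (by simp)
  set a' : H := ⟨a, haH⟩ with ha'
  set b' : H := ⟨b, hbH⟩ with hb'
  have hclH : (⊤ : Subgroup H).lowerCentralSeries (p - 1) = ⊥ := by
    have h1 : H.lowerCentralSeries (p - 1) = ⊥ := by
      rw [eq_bot_iff, ← hcl]
      exact Subgroup.lowerCentralSeries_mono (p - 1) le_top
    rw [← Subgroup.top_subtype_lowerCentralSeries] at h1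
    exact (Subgroup.map_eq_bot_iff_of_injective _ H.subtype_injective).1 h1
  have hN : 1 ≤ p ^ n := Nat.one_le_pow _ _ hp.pos
  obtain ⟨g, hg, hg0, hg1, hgN⟩ := CfsgLib.PSeq.hall_petrescu a' b' (p ^ n) hN
  set K : Subgroup G := powerClosure p n ⁅H, H⁆ with hK
  -- each factor is in `K`
  have hfac : ∀ i ≤ p ^ n, 2 ≤ i → (((g i ^ ((p ^ n).choose i) : H)) : G) ∈ K := by
    intro i hi hi2
    have h1 := hg i hi (by omega)
    by_cases hip : i < p
    · -- divisibility
      have h2 : p ^ n ∣ (p ^ n).choose i := by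
        have h3 : (p ^ n).choose i * i = p ^ n * (p ^ n - 1).choose (i - 1) := by
          obtain ⟨j, rfl⟩ : ∃ j, i = j + 1 := ⟨i - 1, by omega⟩
          obtain ⟨N, hN'⟩ : ∃ N, p ^ n = N + 1 := ⟨p ^ n - 1, by omega⟩
          rw [hN', Nat.add_sub_cancel, Nat.add_sub_cancel]
          exact (Nat.add_one_mul_choose_eq N j).symm
        have h4 : (p ^ n).Coprime i := by
          apply Nat.Coprime.pow_left
          rw [Nat.Prime.coprime_iff_not_dvd hp]
          intro hd
          exact absurd (Nat.le_of_dvd (by omega) hd) (by omega)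
        exact h4.dvd_of_dvd_mul_right (h3 ▸ Dvd.intro _ rfl)
      obtain ⟨m, hm⟩ := h2
      rw [hm, mul_comm, pow_mul]
      apply Subgroup.subset_closure
      refine ⟨((g i ^ m : H) : G), ?_, rfl⟩
      have h5 : g i ∈ (⊤ : Subgroup H).lowerCentralSeries 1 :=
        (⊤ : Subgroup H).lowerCentralSeries_antitone (by omega) h1
      have h6 : ((⊤ : Subgroup H).lowerCentralSeries 1).map H.subtype = ⁅H, H⁆ := by
        rw [Subgroup.top_subtype_lowerCentralSeries]
        rfl
      rw [← h6]
      exact ⟨g i ^ m, Subgroup.pow_mem _ h5 m, rfl⟩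
    · have h2 : g i = 1 := by
        rw [← Subgroup.mem_bot, ← hclH]
        exact (⊤ : Subgroup H).lowerCentralSeries_antitone (by omega) h1
      rw [h2, one_pow]
      exact one_mem K
  -- split the product
  have hsplit : ∀ m, m + 1 ≤ p ^ n → ∃ w : H, (w : G) ∈ K ∧
      ((List.range (m + 2)).map (fun i => g i ^ ((p ^ n).choose i))).prod = (a' * b') ^ (p ^ n) * w := by
    intro m
    induction m with
    | zero =>
      intro _
      refine ⟨1, one_mem K, ?_⟩
      rw [show 0 + 2 = 2 from rfl, List.range_succ, List.range_succ]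
      simp [hg0, hg1]
    | succ m ih =>
      intro hm
      obtain ⟨w, hw, hprod⟩ := ih (by omega)
      refine ⟨w * g (m + 2) ^ ((p ^ n).choose (m + 2)), ?_, ?_⟩
      · exact K.mul_mem hw (hfac (m + 2) (by omega) (by omega))
      · rw [List.range_succ, List.map_append, List.prod_append, hprod]
        simp [mul_assoc]
  obtain ⟨m, hm⟩ : ∃ m, p ^ n = m + 1 := ⟨p ^ n - 1, by omega⟩
  obtain ⟨w, hw, hprod⟩ := hsplit m (by omega)
  rw [show m + 2 = p ^ n + 1 by omega, ← hgN] at hprod
  refine ⟨(w : G)⁻¹, K.inv_mem hw, ?_⟩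
  have h7 := congrArg (Subtype.val : H → G) hprod
  have h8 : a ^ p ^ n * b ^ p ^ n = (a * b) ^ p ^ n * w := h7
  rw [h8, mul_inv_cancel_right]


end Cfsg.Agent.S4209
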