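import Cfsg.Statements.S3872
import Cfsg.Agent.LibPSeq
import Cfsg.Agent.S4209
import Cfsg.Agent.S4225
import Cfsg.Agent.LibSolvMisc

set_option autoImplicit false
open Cfsg

namespace Cfsg.Agent.S3872


theorem cyc_aux {Z : Type*} [Group Z] [Finite Z] (hab : ∀ a b : Z, a * b = b * a) {p : ℕ} (hp : p.Prime) (hZ : IsPGroup p Z) (w : Z)
    (hw : ∀ z : Z, z ^ p = 1 → z ∈ Subgroup.zpowers w) (hwp : w ^ p = 1) : IsCyclic Z := by
  classical
  haveI := Fintype.ofFinite Z
  haveI : Fact p.Prime := ⟨hp⟩
  have h1 : ∀ k : ℕ, (Finset.univ.filter (fun a : Z => a ^ p ^ k = 1)).card ≤ p ^ k := by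
    intro k
    induction k with
    | zero =>
      rw [pow_zero, Finset.card_le_one]
      intro a ha b hb
      rw [Finset.mem_filter] at ha hb
      simp only [pow_one] at ha hb
      rw [ha.2, hb.2]
    | succ k ih =>
      refine le_trans (le_trans (Finset.card_le_mul_card_image_of_maps_to (f := fun a : Z => a ^ p)
        (t := Finset.univ.filter (fun a : Z => a ^ p ^ k = 1)) ?_ p ?_) (Nat.mul_le_mul_left p ih)) (le_of_eq (pow_succ' p k).symm)
      · intro a ha
        rw [Finset.mem_filter] at ha ⊢
        refine ⟨Finset.mem_univ _, ?_⟩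
        rw [← pow_mul, ← pow_succ']
        exact ha.2
      · intro b _
        by_cases hb : ∃ a₀ : Z, a₀ ^ p = b
        · obtain ⟨a₀, ha₀⟩ := hb
          calc _ ≤ ((Finset.range p).image (fun i => a₀ * w ^ i)).card := by
                apply Finset.card_le_card
                intro a ha
                rw [Finset.mem_filter] at ha
                have h2 : (a₀⁻¹ * a) ^ p = 1 := by
                  rw [Commute.mul_pow (hab _ _), inv_pow, ha₀, ha.2, inv_mul_cancel]
                have h3 := hw _ h2
                rw [mem_zpowers_iff_mem_range_orderOf, Finset.mem_image] at h3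
                obtain ⟨i, hi, hi'⟩ := h3
                rw [Finset.mem_image]
                refine ⟨i, ?_, ?_⟩
                · rw [Finset.mem_range] at hi ⊢
                  exact hi.trans_le (Nat.le_of_dvd hp.pos (orderOf_dvd_of_pow_eq_one hwp))
                · rw [hi', mul_inv_cancel_left]
            _ ≤ (Finset.range p).card := Finset.card_image_le
            _ = p := Finset.card_range p
        · have : (Finset.univ.filter (fun a : Z => a ^ p ^ (k + 1) = 1)).filter (fun a => a ^ p = b) = ∅ := by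
            rw [Finset.filter_eq_empty_iff]
            intro a _ ha
            exact hb ⟨a, ha⟩
          rw [this]
          simp
  apply isCyclic_of_card_pow_eq_one_le
  intro n hn
  obtain ⟨m, hm⟩ := IsPGroup.iff_card.1 hZ
  obtain ⟨j, -, hj⟩ := (Nat.dvd_prime_pow hp).1 (Nat.gcd_dvd_right n (p ^ m))
  calc _ ≤ (Finset.univ.filter (fun a : Z => a ^ p ^ j = 1)).card := by
        apply Finset.card_le_card
        intro a ha
        rw [Finset.mem_filter] at ha ⊢
        refine ⟨Finset.mem_univ _, ?_⟩
        rw [← hj]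
        have h2 : a ^ p ^ m = 1 := by rw [← hm]; exact pow_card_eq_one'
        exact orderOf_dvd_iff_pow_eq_one.1 (Nat.dvd_gcd (orderOf_dvd_of_pow_eq_one ha.2) (orderOf_dvd_of_pow_eq_one h2))
    _ ≤ p ^ j := h1 j
    _ ≤ n := by
      rw [← hj]
      exact Nat.gcd_le_left _ hn


/-- Say that a finite group is p-exponent closed when its elements of order dividing p form a subgroup. Let G be a finite p-group that is not p-exponent closed, but all of whose proper subgroups and proper quotients are. Then G is generated by two elements, has nilpotency class at least p, has exponent p², has cyclic center, and has order at least p^(p+1). -/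
theorem result {G : Type*} [Group G] [Finite G] {p : ℕ} [Fact p.Prime] (hG : IsPGroup p G)
    (hnc : ¬ (∃ H : Subgroup G, (H : Set G) = {g : G | g ^ p = 1})) (hsub : ∀ K : Subgroup G, K ≠ ⊤ → (∃ H : Subgroup ↥K, (H : Set ↥K) = {g : ↥K | g ^ p = 1}))
    (hquo : ∀ (N : Subgroup G) [N.Normal], N ≠ ⊥ → (∃ H : Subgroup (G ⧸ N), (H : Set (G ⧸ N)) = {g : (G ⧸ N) | g ^ p = 1})) :
    (∃ x y : G, Subgroup.closure ({x, y} : Set G) = ⊤) ∧ (⊤ : Subgroup G).lowerCentralSeries (p - 1) ≠ ⊥ ∧
      Monoid.exponent G = p ^ 2 ∧ IsCyclic ↥(Subgroup.center G) ∧ p ^ (p + 1) ≤ Nat.card G := by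

  classical
  have hp := (Fact.out : p.Prime)
  -- two elements of order `p` whose product has larger order
  obtain ⟨x, y, hx, hy, hxy⟩ : ∃ x y : G, x ^ p = 1 ∧ y ^ p = 1 ∧ (x * y) ^ p ≠ 1 := by
    by_contra hcon
    push Not at hcon
    apply hnc
    exact ⟨{ carrier := {g : G | g ^ p = 1}
             mul_mem' := fun {a b} ha hb => hcon a b ha hb
             one_mem' := one_pow p
             inv_mem' := fun {a} (ha : a ^ p = 1) => by
               show a⁻¹ ^ p = 1
               rw [inv_pow, ha, inv_one] }, rfl⟩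
  have hgen : Subgroup.closure ({x, y} : Set G) = ⊤ := by
    by_contra hne
    obtain ⟨H, hH⟩ := hsub _ hne
    have hx' : x ∈ Subgroup.closure ({x, y} : Set G) := Subgroup.subset_closure (by simp)
    have hy' : y ∈ Subgroup.closure ({x, y} : Set G) := Subgroup.subset_closure (by simp)
    have h1 : (⟨x, hx'⟩ : Subgroup.closure ({x, y} : Set G)) ∈ (H : Set _) := by
      rw [hH]; exact Subtype.ext hx
    have h2 : (⟨y, hy'⟩ : Subgroup.closure ({x, y} : Set G)) ∈ (H : Set _) := by
      rw [hH]; exact Subtype.ext hy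
    have h3 := H.mul_mem h1 h2
    have h4 : (⟨x, hx'⟩ * ⟨y, hy'⟩ : Subgroup.closure ({x, y} : Set G)) ∈ (H : Set _) := h3
    rw [hH] at h4
    exact hxy (congrArg Subtype.val h4)
  have hclass : (⊤ : Subgroup G).lowerCentralSeries (p - 1) ≠ ⊥ := by
    intro hcl
    have hreg := Cfsg.Agent.S4209.result hG hcl
    obtain ⟨H, -, hH⟩ := Cfsg.Agent.S4225.result hreg 1
    rw [pow_one] at hH
    exact hnc ⟨H, hH⟩
  -- central subgroups of order `p`
  have hquot : ∀ z ∈ Subgroup.center G, z ≠ 1 → z ^ p = 1 → ∀ g : G, g ^ p ∈ Subgroup.zpowers z := by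
    intro z hz hz1 hzp
    set N := Subgroup.zpowers z with hN
    have hNc : N ≤ Subgroup.center G := by rw [hN, Subgroup.zpowers_le]; exact hz
    haveI : N.Normal := by
      refine ⟨fun w hw g => ?_⟩
      rw [Subgroup.mem_center_iff.1 (hNc hw) g, mul_inv_cancel_right]
      exact hw
    have hN0 : N ≠ ⊥ := by
      intro h0
      apply hz1
      rw [← Subgroup.mem_bot, ← h0]
      exact Subgroup.mem_zpowers z
    obtain ⟨H, hH⟩ := hquo N hN0
    have hmem : ∀ g : G, g ^ p = 1 → (QuotientGroup.mk' N g) ∈ H := by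
      intro g hg
      have : QuotientGroup.mk' N g ∈ (H : Set _) := by
        rw [hH]
        show QuotientGroup.mk' N g ^ p = 1
        rw [← map_pow, hg, map_one]
      exact this
    have htop : (⊤ : Subgroup G) ≤ H.comap (QuotientGroup.mk' N) := by
      rw [← hgen, Subgroup.closure_le]
      intro g hg
      rcases hg with rfl | hg
      · exact hmem _ hx
      · rw [Set.mem_singleton_iff] at hg
        rw [hg]
        exact hmem _ hy
    intro g
    have h1 : QuotientGroup.mk' N g ∈ (H : Set _) := htop (Subgroup.mem_top g)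
    rw [hH] at h1
    have h2 : QuotientGroup.mk' N (g ^ p) = 1 := by rw [map_pow]; exact h1
    exact (QuotientGroup.eq_one_iff _).1 h2
  haveI hnt : Nontrivial G := by
    refine ⟨⟨(x * y) ^ p, 1, hxy⟩⟩
  haveI : Nontrivial (Subgroup.center G) := hG.center_nontrivial
  have hZp : IsPGroup p (Subgroup.center G) := hG.to_subgroup _
  obtain ⟨z, hzc, hz1, hzp⟩ : ∃ z ∈ Subgroup.center G, z ≠ 1 ∧ z ^ p = 1 := by
    obtain ⟨z, hz⟩ := exists_prime_orderOf_dvd_card' (G := Subgroup.center G) p (by
      obtain ⟨m, hm⟩ := IsPGroup.iff_card.1 hZp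
      rw [hm]
      apply dvd_pow_self
      rintro rfl
      rw [pow_zero] at hm
      exact Finite.one_lt_card.ne' hm)
    refine ⟨z, z.2, fun h => ?_, ?_⟩
    · have : z = 1 := Subtype.ext h
      rw [this, orderOf_one] at hz
      exact hp.one_lt.ne hz
    · have := pow_orderOf_eq_one z
      rw [hz] at this
      exact congrArg Subtype.val this
  set w := (x * y) ^ p with hw
  have hwz := hquot z hzc hz1 hzp (x * y)
  have hwc : w ∈ Subgroup.center G := (Subgroup.zpowers_le.2 hzc) hwz
  have hwp : w ^ p = 1 := by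
    obtain ⟨k, hk⟩ := Subgroup.mem_zpowers_iff.1 hwz
    rw [hw, ← hk, ← zpow_natCast, ← zpow_mul, mul_comm, zpow_mul, zpow_natCast, hzp, one_zpow]
  have hcard : 2 ≤ Nat.card G ∧ ∃ n, Nat.card G = p ^ n ∧ p + 1 ≤ n := by
    refine ⟨Finite.one_lt_card, ?_⟩
    obtain ⟨n, hn⟩ := IsPGroup.iff_card.1 hG
    refine ⟨n, hn, ?_⟩
    by_contra hlt
    push Not at hlt
    apply hclass
    rcases Nat.lt_or_ge 1 n with h1 | h1
    · haveI := hG.isNilpotent
      have h2 := CfsgLib.SolvMisc.class_le p hp n G hn h1
      exact lowerCentralSeries_eq_bot_iff_nilpotencyClass_le.2 (h2.trans (by omega))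
    · -- cyclic
      have hcyc : IsCyclic G := by
        have : n = 0 ∨ n = 1 := by omega
        rcases this with rfl | rfl
        · rw [pow_zero] at hn
          exact absurd hn Finite.one_lt_card.ne'
        · exact isCyclic_of_prime_card (p := p) (by rw [hn, pow_one])
      have h3 : (⊤ : Subgroup G).lowerCentralSeries 1 = ⊥ := by
        rw [Subgroup.top_lowerCentralSeries_one, commutator_eq_bot_iff_center_eq_top]
        exact Subgroup.center_eq_top_iff.2 ⟨⟨fun a b => by
          letI := hcyc.commGroup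
          exact mul_comm a b⟩⟩
      have h4 := (⊤ : Subgroup G).lowerCentralSeries_antitone (show 1 ≤ p - 1 by have := hp.two_le; omega)
      rw [h3] at h4
      exact le_bot_iff.1 h4
  obtain ⟨-, n, hn, hpn⟩ := hcard
  refine ⟨⟨x, y, hgen⟩, hclass, ?_, ?_, ?_⟩
  · -- exponent
    have h1 : ∀ g : G, g ^ p ^ 2 = 1 := by
      intro g
      obtain ⟨k, hk⟩ := Subgroup.mem_zpowers_iff.1 (hquot z hzc hz1 hzp g)
      rw [pow_two, pow_mul, ← hk, ← zpow_natCast, ← zpow_mul, mul_comm, zpow_mul, zpow_natCast, hzp, one_zpow]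
    have h2 : Monoid.exponent G ∣ p ^ 2 := Monoid.exponent_dvd_of_forall_pow_eq_one h1
    obtain ⟨j, hj, hj'⟩ := (Nat.dvd_prime_pow hp).1 h2
    rw [hj']
    congr 1
    by_contra hne
    have h3 : Monoid.exponent G ∣ p := by
      rw [hj']
      calc p ^ j ∣ p ^ 1 := pow_dvd_pow p (by omega)
        _ = p := pow_one p
    exact hxy (Monoid.exponent_dvd_iff_forall_pow_eq_one.1 h3 (x * y))
  · -- cyclic center
    apply cyc_aux (fun a b => Subtype.ext ((Subgroup.mem_center_iff.1 b.2 (a : G)))) hp hZp (⟨w, hwc⟩ : Subgroup.center G)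
    · rintro ⟨u, huc⟩ hu
      have hup : u ^ p = 1 := congrArg Subtype.val hu
      by_cases hu1 : u = 1
      · have : (⟨u, huc⟩ : Subgroup.center G) = 1 := Subtype.ext hu1
        rw [this]
        exact one_mem _
      · have h1 := hquot u huc hu1 hup (x * y)
        -- `⟨w⟩ = ⟨u⟩`
        have hou : orderOf u = p := by
          rcases (Nat.dvd_prime hp).1 (orderOf_dvd_of_pow_eq_one hup) with h2 | h2
          · exact absurd (orderOf_eq_one_iff.1 h2) hu1
          · exact h2
        have how : orderOf w = p := by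
          rcases (Nat.dvd_prime hp).1 (orderOf_dvd_of_pow_eq_one hwp) with h2 | h2
          · exact absurd (orderOf_eq_one_iff.1 h2) hxy
          · exact h2
        have h2 : Subgroup.zpowers w ≤ Subgroup.zpowers u := by rw [Subgroup.zpowers_le]; exact h1
        have h3 : Subgroup.zpowers w = Subgroup.zpowers u := Subgroup.eq_of_le_of_card_ge h2 (by
          rw [Nat.card_zpowers, Nat.card_zpowers, hou, how])
        have h4 : u ∈ Subgroup.zpowers w := by rw [h3]; exact Subgroup.mem_zpowers u
        obtain ⟨k, hk⟩ := Subgroup.mem_zpowers_iff.1 h4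
        exact Subgroup.mem_zpowers_iff.2 ⟨k, Subtype.ext hk⟩
    · exact Subtype.ext hwp
  · rw [hn]
    exact Nat.pow_le_pow_right hp.pos hpn


end Cfsg.Agent.S3872
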