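import Cfsg.Statements.S3873
import Cfsg.Agent.LibMinNonPC
import Cfsg.Agent.LibCores
import Cfsg.Agent.LibBGPi
import Cfsg.Agent.S3868

set_option autoImplicit false
open Cfsg

namespace Cfsg.Agent.S3873



open Subgroup Cfsg CfsgLib.MinNonPC CfsgLib.BGPi

theorem exp_normal {H : Type*} [Group H] {p : ℕ} (T : Subgroup H) (hT : (T : Set H) = {g : H | g ^ p = 1}) :
    T.Normal := by
  have hm : ∀ x, x ∈ T ↔ x ^ p = 1 := by
    intro x
    have : x ∈ (T : Set H) ↔ x ∈ {g : H | g ^ p = 1} := by rw [hT]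
    exact this
  refine ⟨fun x hx g => ?_⟩
  rw [hm] at hx ⊢
  rw [conj_pow, hx, mul_one, mul_inv_cancel]

theorem exp_pc {H : Type*} [Group H] [Finite H] {p : ℕ} [hp : Fact p.Prime]
    (h : ∃ T : Subgroup H, (T : Set H) = {g : H | g ^ p = 1}) (hc : ¬ p ^ 2 ∣ Nat.card H) : IsPClosed p H := by
  obtain ⟨T, hT⟩ := h
  have hm : ∀ x, x ∈ T ↔ x ^ p = 1 := by
    intro x
    have : x ∈ (T : Set H) ↔ x ∈ {g : H | g ^ p = 1} := by rw [hT]
    exact this
  haveI := exp_normal T hT
  apply isPClosed_of_normal T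
  · rw [isPGroup_iff_pow_pow_eq_one]
    intro g
    exact ⟨1, Subtype.ext (by rw [pow_one]; exact (hm g).1 g.2)⟩
  · obtain ⟨P⟩ : Nonempty (Sylow p H) := inferInstance
    have hPT : (P : Subgroup H) ≤ T := by
      intro x hx
      rw [hm]
      obtain ⟨k, hk⟩ := IsPGroup.iff_card.mp P.isPGroup'
      have hk1 : k ≤ 1 := by
        by_contra hcon
        apply hc
        refine (pow_dvd_pow p (show 2 ≤ k by omega)).trans ?_
        rw [← hk]; exact Subgroup.card_subgroup_dvd_card _
      have h1 : (⟨x, hx⟩ : (P : Subgroup H)) ^ (p ^ k) = 1 := by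
        have h0 : (⟨x, hx⟩ : (P : Subgroup H)) ^ (Nat.card (P : Subgroup H)) = 1 := pow_card_eq_one'
        rw [hk] at h0; exact h0
      have h2 : x ^ (p ^ k) = 1 := congrArg Subtype.val h1
      have h3 : p ^ k ∣ p := by
        have := pow_dvd_pow p hk1
        rwa [pow_one] at this
      obtain ⟨t, ht⟩ := h3
      rw [ht, pow_mul, h2, one_pow]
    intro h
    exact P.not_dvd_index (h.trans (Subgroup.index_dvd_of_le hPT))

/-- Say that a finite group is p-exponent closed when its elements of order dividing p form a subgroup. Let G be a finite group that is not p-exponent closed, but all of whose proper subgroups and proper quotients are, and suppose G is neither simple nor a p-group. Then there is a prime q ≠ p such that G has order p · q^e, where e is the multiplicative order of q modulo p, and G has a normal elementary abelian subgroup of order q^e that is a minimal normal subgroup of G. -/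
theorem result {G : Type*} [Group G] [Finite G] {p : ℕ} [Fact p.Prime]
    (hnc : ¬ (∃ H : Subgroup G, (H : Set G) = {g : G | g ^ p = 1})) (hsub : ∀ K : Subgroup G, K ≠ ⊤ → (∃ H : Subgroup ↥K, (H : Set ↥K) = {g : ↥K | g ^ p = 1}))
    (hquo : ∀ (N : Subgroup G) [N.Normal], N ≠ ⊥ → (∃ H : Subgroup (G ⧸ N), (H : Set (G ⧸ N)) = {g : (G ⧸ N) | g ^ p = 1}))
    (hns : ¬ IsSimpleGroup G) (hnp : ¬ IsPGroup p G) :
    ∃ q : ℕ, q.Prime ∧ q ≠ p ∧ Nat.card G = p * q ^ orderOf (q : ZMod p) ∧
      ∃ A : Subgroup G, A.Normal ∧ Nat.card ↥A = q ^ orderOf (q : ZMod p) ∧ Cfsg.IsElementaryAbelian q A ∧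
        ∀ B : Subgroup G, B.Normal → B ≤ A → B = ⊥ ∨ B = A := by
  classical
  have hp : p.Prime := Fact.out
  -- two elements
  obtain ⟨a, b, ha, hb, hab⟩ : ∃ a b : G, a ^ p = 1 ∧ b ^ p = 1 ∧ (a * b) ^ p ≠ 1 := by
    by_contra hcon
    push Not at hcon
    apply hnc
    exact ⟨{ carrier := {g : G | g ^ p = 1}
             one_mem' := one_pow p
             mul_mem' := fun {x y} hx hy => hcon x y hx hy
             inv_mem' := by
               intro x hx
               show (x⁻¹) ^ p = 1
               rw [inv_pow, show x ^ p = 1 from hx, inv_one] }, rfl⟩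
  have hgen : Subgroup.closure ({a, b} : Set G) = ⊤ := by
    by_contra hne
    obtain ⟨T, hT⟩ := hsub _ hne
    have hm : ∀ x, x ∈ T ↔ x ^ p = 1 := by
      intro x
      have : x ∈ (T : Set _) ↔ x ∈ {g : Subgroup.closure ({a, b} : Set G) | g ^ p = 1} := by rw [hT]
      exact this
    have haC : a ∈ Subgroup.closure ({a, b} : Set G) := Subgroup.subset_closure (by simp)
    have hbC : b ∈ Subgroup.closure ({a, b} : Set G) := Subgroup.subset_closure (by simp)
    have h1 : (⟨a, haC⟩ : Subgroup.closure ({a, b} : Set G)) ∈ T := (hm _).2 (Subtype.ext ha)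
    have h2 : (⟨b, hbC⟩ : Subgroup.closure ({a, b} : Set G)) ∈ T := (hm _).2 (Subtype.ext hb)
    have h3 := (hm _).1 (T.mul_mem h1 h2)
    exact hab (congrArg Subtype.val h3)
  have hquoE : ∀ (N : Subgroup G) [N.Normal], N ≠ ⊥ → ∀ g : G, g ^ p ∈ N := by
    intro N _ hN g
    obtain ⟨T, hT⟩ := hquo N hN
    have hm : ∀ x, x ∈ T ↔ x ^ p = 1 := by
      intro x
      have : x ∈ (T : Set _) ↔ x ∈ {g : G ⧸ N | g ^ p = 1} := by rw [hT]
      exact this
    have h1 : T.comap (QuotientGroup.mk' N) = ⊤ := by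
      rw [← top_le_iff, ← hgen, Subgroup.closure_le]
      intro x hx
      rw [SetLike.mem_coe, Subgroup.mem_comap, hm, ← map_pow]
      rcases hx with rfl | hx
      · rw [ha, map_one]
      · rw [Set.mem_singleton_iff] at hx
        rw [hx, hb, map_one]
    have h2 : g ∈ T.comap (QuotientGroup.mk' N) := by rw [h1]; trivial
    rw [Subgroup.mem_comap, hm, ← map_pow] at h2
    exact (QuotientGroup.eq_one_iff _).mp h2
  haveI : Nontrivial G := ⟨⟨a * b, 1, fun h => hab (by rw [h, one_pow])⟩⟩
  obtain ⟨M, hM, hM1, hMt⟩ : ∃ N : Subgroup G, N.Normal ∧ N ≠ ⊥ ∧ N ≠ ⊤ := by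
    by_contra hcon
    push Not at hcon
    apply hns
    refine ⟨fun H hH => ?_⟩
    by_cases h5 : H = ⊥
    · exact Or.inl h5
    · exact Or.inr (hcon H hH h5)
  obtain ⟨N, hN, hNM, hN1, hmin⟩ := CfsgLib.Cores.exists_minimal_normal M hM1
  have hNt : N ≠ ⊤ := by
    rintro rfl
    exact hMt (top_le_iff.mp hNM)
  have hNE := hquoE N hN1
  -- `N` is a `p'`-group
  have hNp : ¬ p ∣ Nat.card N := by
    obtain ⟨T, hT⟩ := hsub N hNt
    have hm : ∀ x, x ∈ T ↔ x ^ p = 1 := by
      intro x
      have : x ∈ (T : Set _) ↔ x ∈ {g : N | g ^ p = 1} := by rw [hT]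
      exact this
    have hTn : (T.map N.subtype).Normal := by
      refine ⟨?_⟩
      rintro _ ⟨t, ht, rfl⟩ g
      refine ⟨⟨g * t * g⁻¹, Subgroup.Normal.conj_mem inferInstance _ t.2 g⟩, ?_, rfl⟩
      rw [SetLike.mem_coe, hm]
      apply Subtype.ext
      have h1 : (t : G) ^ p = 1 := congrArg Subtype.val ((hm t).1 ht)
      show (g * (t : G) * g⁻¹) ^ p = 1
      rw [conj_pow, h1, mul_one, mul_inv_cancel]
    rcases hmin _ hTn (Subgroup.map_subtype_le T) with h | h
    · intro hdvd
      obtain ⟨y, hy⟩ := exists_prime_orderOf_dvd_card' p hdvd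
      have h1 : y ∈ T := by rw [hm, ← hy, pow_orderOf_eq_one]
      rw [Subgroup.map_eq_bot_iff_of_injective _ N.subtype_injective] at h
      rw [h, Subgroup.mem_bot] at h1
      rw [h1, orderOf_one] at hy
      exact hp.one_lt.ne hy
    · exfalso
      apply hnp
      rw [isPGroup_iff_pow_pow_eq_one]
      intro g
      refine ⟨2, ?_⟩
      have h1 := hNE g
      rw [← h] at h1
      obtain ⟨t, ht, hte⟩ := h1
      have h2 : (t : G) ^ p = 1 := congrArg Subtype.val ((hm t).1 ht)
      rw [pow_two, pow_mul, ← hte]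
      exact h2
  have hquot : IsPGroup p (G ⧸ N) := by
    rw [isPGroup_iff_pow_pow_eq_one]
    intro g
    obtain ⟨g, rfl⟩ := QuotientGroup.mk'_surjective N g
    refine ⟨1, ?_⟩
    rw [pow_one, ← map_pow]
    exact (QuotientGroup.eq_one_iff _).mpr (hNE g)
  obtain ⟨n, hn⟩ := IsPGroup.iff_card.mp hquot
  have hn0 : n ≠ 0 := by
    rintro rfl
    rw [pow_zero, ← Subgroup.index_eq_card, Subgroup.index_eq_one] at hn
    exact hNt hn
  have hidxn : N.index = p ^ n := by rw [Subgroup.index_eq_card, hn]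
  -- if every Sylow subgroup were normal ...
  have hPn : ∀ P : Sylow p G, ¬ (P : Subgroup G).Normal := by
    intro P hPn
    have hin : ∀ x : G, x ^ p = 1 → x ∈ (P : Subgroup G) := by
      intro x hx
      have h1 : IsPGroup p (zpowers x) := by
        rw [isPGroup_iff_pow_pow_eq_one]
        rintro ⟨y, hy⟩
        obtain ⟨i, rfl⟩ := mem_zpowers_iff.mp hy
        refine ⟨1, Subtype.ext ?_⟩
        show (x ^ i) ^ p ^ 1 = 1
        rw [pow_one, ← zpow_natCast, ← zpow_mul, mul_comm, zpow_mul, zpow_natCast, hx, one_zpow]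
      have h2 : IsPGroup p (zpowers x ⊔ (P : Subgroup G) : Subgroup G) :=
        h1.to_sup_of_normal_right P.isPGroup'
      have h3 := P.is_maximal' h2 le_sup_right
      rw [← h3]
      exact (le_sup_left : zpowers x ≤ _) (mem_zpowers x)
    have h1 := (P : Subgroup G).mul_mem (hin a ha) (hin b hb)
    have h2 : (a * b) ^ p ∈ N := hNE _
    have h3 : (a * b) ^ p ∈ (P : Subgroup G) := Subgroup.pow_mem _ h1 p
    apply hab
    obtain ⟨k, hk⟩ := P.isPGroup' ⟨_, h3⟩
    have h4 : ((a * b) ^ p) ^ p ^ k = 1 := congrArg Subtype.val hk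
    have h9 := orderOf_dvd_of_pow_eq_one h4
    have h10 : orderOf ((a * b) ^ p) ∣ Nat.card N := by
      rw [← Subgroup.orderOf_mk _ h2]
      exact orderOf_dvd_natCard _
    have h11 : Nat.Coprime (p ^ k) (Nat.card N) := Nat.Coprime.pow_left k ((hp.coprime_iff_not_dvd).mpr hNp)
    exact orderOf_eq_one_iff.mp (Nat.eq_one_of_dvd_coprimes h11 h9 h10)
  have hidx : N.index = p := by
    by_contra hne
    have hn2 : 2 ≤ n := by
      by_contra hcon
      have h1 : n = 1 := by omega
      apply hne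
      rw [hidxn, h1, pow_one]
    -- every element of order `p` centralises `N`
    have hcen : ∀ x : G, x ^ p = 1 → ∀ y ∈ N, x * y = y * x := by
      intro x hx y hy
      have hxN : zpowers x ≤ 𝓝(N) := by
        rw [Subgroup.normalizer_eq_top]; exact le_top
      have h1 : Nat.card (zpowers x ⊔ N : Subgroup G) ≤ p * Nat.card N := by
        have h2 := card_sup_mul_card_inf hxN
        have h3 : 0 < Nat.card (zpowers x ⊓ N : Subgroup G) := Nat.card_pos
        have h4 : Nat.card (zpowers x) ≤ p := by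
          rw [Nat.card_zpowers]
          exact Nat.le_of_dvd hp.pos (orderOf_dvd_of_pow_eq_one hx)
        calc Nat.card (zpowers x ⊔ N : Subgroup G) ≤
            Nat.card (zpowers x ⊔ N : Subgroup G) * Nat.card (zpowers x ⊓ N : Subgroup G) :=
              Nat.le_mul_of_pos_right _ h3
          _ = Nat.card (zpowers x) * Nat.card N := h2
          _ ≤ p * Nat.card N := Nat.mul_le_mul_right _ h4
      have h2 : zpowers x ⊔ N ≠ ⊤ := by
        intro h
        rw [h, Subgroup.card_top, ← Subgroup.card_mul_index N, hidxn, mul_comm] at h1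
        have h3 := Nat.le_of_mul_le_mul_right h1 (Nat.card_pos (α := N))
        have h4 : p ^ 1 < p ^ n := Nat.pow_lt_pow_right hp.one_lt (by omega)
        rw [pow_one] at h4
        omega
      obtain ⟨T, hT⟩ := hsub _ h2
      have hm : ∀ x, x ∈ T ↔ x ^ p = 1 := by
        intro z
        have : z ∈ (T : Set _) ↔ z ∈ {g : (zpowers x ⊔ N : Subgroup G) | g ^ p = 1} := by rw [hT]
        exact this
      have hTn := exp_normal T hT
      have hxT : (⟨x, (le_sup_left : zpowers x ≤ zpowers x ⊔ N) (mem_zpowers x)⟩ : (zpowers x ⊔ N : Subgroup G)) ∈ T :=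
        (hm _).2 (Subtype.ext hx)
      have hxT' := Subgroup.inv_mem _ hxT
      have hyT := hTn.conj_mem _ hxT' ⟨y, (le_sup_right : N ≤ zpowers x ⊔ N) hy⟩
      have h3 := (hm _).1 (Subgroup.mul_mem _ hxT hyT)
      have h4 : (x * (y * x⁻¹ * y⁻¹)) ^ p = 1 := congrArg Subtype.val h3
      have h5 : x * (y * x⁻¹ * y⁻¹) ∈ N := by
        have h6 : x * y * x⁻¹ ∈ N := Subgroup.Normal.conj_mem inferInstance y hy x
        have h7 : x * (y * x⁻¹ * y⁻¹) = (x * y * x⁻¹) * y⁻¹ := by group
        rw [h7]; exact N.mul_mem h6 (N.inv_mem hy)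
      have h8 : x * (y * x⁻¹ * y⁻¹) = 1 := by
        have h9 := orderOf_dvd_of_pow_eq_one h4
        have h10 : orderOf (x * (y * x⁻¹ * y⁻¹)) ∣ Nat.card N := by
          rw [← Subgroup.orderOf_mk _ h5]
          exact orderOf_dvd_natCard _
        have h11 : Nat.Coprime p (Nat.card N) := (hp.coprime_iff_not_dvd).mpr hNp
        exact orderOf_eq_one_iff.mp (Nat.eq_one_of_dvd_coprimes h11 h9 h10)
      calc x * y = x * (y * x⁻¹ * y⁻¹) * (y * x) := by group
        _ = y * x := by rw [h8, one_mul]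
    have hNc : N ≤ center G := by
      intro y hy
      rw [mem_center_iff]
      intro g
      have h1 : Subgroup.closure ({a, b} : Set G) ≤ Subgroup.centralizer {y} := by
        rw [Subgroup.closure_le]
        intro x hx
        rw [SetLike.mem_coe, Subgroup.mem_centralizer_singleton_iff]
        rcases hx with rfl | hx
        · exact hcen x ha y hy
        · rw [Set.mem_singleton_iff] at hx
          subst hx
          exact hcen x hb y hy
      rw [hgen] at h1
      exact Subgroup.mem_centralizer_singleton_iff.mp (h1 (mem_top g))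
    obtain ⟨P⟩ : Nonempty (Sylow p G) := inferInstance
    apply hPn P
    -- `G = P N`
    have hPN : (P : Subgroup G) ⊔ N = ⊤ := by
      have h1 : (((P : Subgroup G) ⊔ N).index) ∣ p ^ n := by
        rw [← hidxn]; exact Subgroup.index_dvd_of_le le_sup_right
      have h2 : (((P : Subgroup G) ⊔ N).index) ∣ (P : Subgroup G).index := Subgroup.index_dvd_of_le le_sup_left
      rw [← Subgroup.index_eq_one]
      have h3 : Nat.Coprime (p ^ n) (P : Subgroup G).index :=
        Nat.Coprime.pow_left n ((hp.coprime_iff_not_dvd).mpr P.not_dvd_index)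
      exact Nat.eq_one_of_dvd_coprimes h3 h1 h2
    refine ⟨fun u hu g => ?_⟩
    have hg : g ∈ (P : Subgroup G) ⊔ N := by rw [hPN]; trivial
    obtain ⟨v, hv, m, hmN, rfl⟩ := Subgroup.mem_sup_of_normal_right.mp hg
    have h1 := mem_center_iff.mp (hNc hmN) u
    have h2 : v * m * u * (v * m)⁻¹ = v * u * v⁻¹ := by
      have : v * m * u * (v * m)⁻¹ = v * (m * u) * m⁻¹ * v⁻¹ := by group
      rw [this, ← h1]; group
    rw [h2]
    exact Subgroup.mul_mem _ (Subgroup.mul_mem _ hv hu) (Subgroup.inv_mem _ hv)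
  have hcG : Nat.card G = p * Nat.card N := by
    rw [← Subgroup.card_mul_index N, hidx, mul_comm]
  have hp2 : ¬ p ^ 2 ∣ Nat.card G := by
    intro h
    rw [hcG, pow_two] at h
    exact hNp (Nat.dvd_of_mul_dvd_mul_left hp.pos h)
  apply Cfsg.Agent.S3868.result (p := p) ?_ ?_ ?_ hns
  · intro h
    obtain ⟨P⟩ : Nonempty (Sylow p G) := inferInstance
    exact hPn P (h P)
  · intro H hH
    exact exp_pc (hsub H hH) (fun h => hp2 (h.trans (Subgroup.card_subgroup_dvd_card H)))
  · intro K _ hK
    exact exp_pc (hquo K hK) (fun h => hp2 (h.trans (Subgroup.card_quotient_dvd_card K)))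


end Cfsg.Agent.S3873
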