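import Cfsg.Statements.S3889
import Cfsg.Agent.EqBase

set_option autoImplicit false
open Cfsg

namespace Cfsg.Agent.S3889

/-- A finite abelian group that is the union of a family of proper subgroups any two of which intersect trivially is elementary abelian: its exponent is a prime. -/
theorem result {G : Type*} [CommGroup G] [Finite G] (𝓑 : Set (Subgroup G)) (hprop : ∀ B ∈ 𝓑, B ≠ ⊤)
    (hcov : ∀ g : G, ∃ B ∈ 𝓑, g ∈ B) (hdisj : ∀ B ∈ 𝓑, ∀ C ∈ 𝓑, B ≠ C → B ⊓ C = ⊥) :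
    (Monoid.exponent G).Prime := by
  have hnt : ∃ B ∈ 𝓑, B ≠ ⊤ := by
    obtain ⟨B, hB, _⟩ := hcov 1
    exact ⟨B, hB, hprop B hB⟩
  obtain ⟨B0, hB0, hB0t⟩ := hnt
  have hkey : ∀ B ∈ 𝓑, ∀ x ∈ B, x ≠ 1 → ∀ y, y ∉ B → y ^ orderOf x = 1 := by
    intro B hB x hx hx1 y hy
    obtain ⟨D, hD, hyD⟩ := hcov y
    obtain ⟨C, hC, hxy⟩ := hcov (x * y)
    have h1 : (x * y) ^ orderOf x ∈ C := C.pow_mem hxy _
    rw [mul_pow, pow_orderOf_eq_one, one_mul] at h1
    have h2 : y ^ orderOf x ∈ D := D.pow_mem hyD _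
    by_cases hCD : C = D
    · exfalso
      subst hCD
      have h3 : x ∈ C := by
        have := C.mul_mem hxy (C.inv_mem hyD)
        rwa [mul_inv_cancel_right] at this
      have hBC : B ≠ C := fun h => hy (h ▸ hyD)
      have h4 : x ∈ B ⊓ C := ⟨hx, h3⟩
      rw [hdisj B hB C hC hBC, Subgroup.mem_bot] at h4
      exact hx1 h4
    · have h4 : y ^ orderOf x ∈ C ⊓ D := ⟨h1, h2⟩
      rwa [hdisj C hC D hD hCD, Subgroup.mem_bot] at h4
  have hout : ∀ B ∈ 𝓑, ∃ y, y ∉ B := by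
    intro B hB
    by_contra h
    push Not at h
    exact hprop B hB (eq_top_iff.2 fun y _ => h y)
  have hsame' : ∀ B ∈ 𝓑, ∀ x ∈ B, x ≠ 1 → ∀ y, y ∉ B → orderOf x = orderOf y := by
    intro B hB x hx hx1 y hy
    have h1 := orderOf_dvd_of_pow_eq_one (hkey B hB x hx hx1 y hy)
    obtain ⟨D, hD, hyD⟩ := hcov y
    have hy1 : y ≠ 1 := fun h => hy (h ▸ B.one_mem)
    have hxD : x ∉ D := by
      intro hxD
      have hBD : B ≠ D := fun h => hy (h ▸ hyD)
      have h4 : x ∈ B ⊓ D := ⟨hx, hxD⟩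
      rw [hdisj B hB D hD hBD, Subgroup.mem_bot] at h4
      exact hx1 h4
    have h2 := orderOf_dvd_of_pow_eq_one (hkey D hD y hyD hy1 x hxD)
    exact Nat.dvd_antisymm h2 h1
  have hsame : ∀ x y : G, x ≠ 1 → y ≠ 1 → orderOf x = orderOf y := by
    intro x y hx1 hy1
    obtain ⟨B, hB, hx⟩ := hcov x
    by_cases hy : y ∈ B
    · obtain ⟨z, hz⟩ := hout B hB
      rw [hsame' B hB x hx hx1 z hz, hsame' B hB y hy hy1 z hz]
    · exact hsame' B hB x hx hx1 y hy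
  obtain ⟨z, hz⟩ := hout B0 hB0
  have hz1 : z ≠ 1 := fun h => hz (h ▸ B0.one_mem)
  haveI : Nontrivial G := ⟨z, 1, hz1⟩
  obtain ⟨q, hq, hqd⟩ := Nat.exists_prime_and_dvd (n := Nat.card G) (Finite.one_lt_card).ne'
  haveI : Fact q.Prime := ⟨hq⟩
  obtain ⟨w, hw⟩ := exists_prime_orderOf_dvd_card' q hqd
  have hw1 : w ≠ 1 := by
    rintro rfl
    rw [orderOf_one] at hw
    exact hq.one_lt.ne hw
  have hexp : Monoid.exponent G = q := by
    apply Nat.dvd_antisymm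
    · rw [Monoid.exponent_dvd]
      intro g
      by_cases hg : g = 1
      · rw [hg, orderOf_one]; exact one_dvd q
      · rw [hsame g w hg hw1, hw]
    · rw [← hw]; exact Monoid.order_dvd_exponent w
  rw [hexp]
  exact hq

end Cfsg.Agent.S3889
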