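import Cfsg.Agent.LibAutAn27
import Mathlib
-- Template for statement S3892 (row 3892; see /opt/grader/pristine/manifest.json for weights).
-- Copy to Cfsg/Agent/S3892.lean and replace the sorry. The statement below is byte-identical to the frozen
-- statement Cfsg.CfsgFrozen.S3892 (Cfsg/Statements/S3892.lean; the theorem Cfsg.fg3_alternating_and_symmetric_groups_have_no_nilpotent_minimal_cover);
-- the grader kernel-checks Cfsg.Agent.S3892.result against that frozen type. Keep the theorem IN THIS FILE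
-- (a `result` declared elsewhere and merely imported here is not credited); helpers may live anywhere
-- under Cfsg/Agent/.
import Cfsg.Statements.S3892
-- import your own Cfsg.Agent.* helpers here

set_option autoImplicit false
open Cfsg

namespace Cfsg.Agent.S3892

open Equiv Equiv.Perm CfsgLib.AutAn27

theorem uniq {G : Type*} [Group G] {𝓐 : Finset (Subgroup G)}
    (h1 : (∀ A ∈ 𝓐, A ≠ ⊤) ∧ (∀ g : G, ∃ A ∈ 𝓐, g ∈ A))
    (h2 : ∀ 𝓑 : Finset (Subgroup G), (∀ A ∈ 𝓑, A ≠ ⊤) ∧ (∀ g : G, ∃ A ∈ 𝓑, g ∈ A) → 𝓐.card ≤ 𝓑.card)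
    {A A' B : Subgroup G} (hA : A ∈ 𝓐) (hA' : A' ∈ 𝓐) (hB : B ≠ ⊤) (h3 : A ≤ B) (h4 : A' ≤ B) : A = A' := by
  classical
  by_contra hne
  have h5 := h2 (insert B ((𝓐.erase A).erase A')) ⟨?_, ?_⟩
  · have e1 : A' ∈ 𝓐.erase A := Finset.mem_erase.mpr ⟨fun h => hne h.symm, hA'⟩
    have e2 := Finset.card_erase_of_mem e1
    have e3 := Finset.card_erase_of_mem hA
    have e4 := Finset.card_insert_le B ((𝓐.erase A).erase A')
    have e5 : 0 < (𝓐.erase A).card := Finset.card_pos.mpr ⟨A', e1⟩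
    have e6 : 0 < 𝓐.card := Finset.card_pos.mpr ⟨A, hA⟩
    omega
  · intro K hK
    rw [Finset.mem_insert] at hK
    rcases hK with rfl | hK
    · exact hB
    · exact h1.1 K (Finset.mem_of_mem_erase (Finset.mem_of_mem_erase hK))
  · intro g
    obtain ⟨K, hK, hg⟩ := h1.2 g
    by_cases e1 : K = A
    · exact ⟨B, Finset.mem_insert_self _ _, h3 (e1 ▸ hg)⟩
    by_cases e2 : K = A'
    · exact ⟨B, Finset.mem_insert_self _ _, h4 (e2 ▸ hg)⟩
    · exact ⟨K, Finset.mem_insert_of_mem (Finset.mem_erase.mpr ⟨e2, Finset.mem_erase.mpr ⟨e1, hK⟩⟩), hg⟩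

theorem pres {G : Type*} [Group G] [Finite G] {n : ℕ} (ι : G →* Perm (Fin n)) (A : Subgroup G)
    (hA : Group.IsNilpotent ↥A) {c : G} (hc : c ∈ A) (hcyc : IsCycle (ι c))
    (hbig : n < 2 * (ι c).support.card) : ∀ a ∈ A, ∀ z, z ∈ (ι c).support ↔ ι a z ∈ (ι c).support := by
  classical
  set K : Subgroup ↥A :=
    { carrier := {a | ∀ z, z ∈ (ι c).support ↔ ι a.1 z ∈ (ι c).support}
      mul_mem' := by
        intro a b ha hb z
        show _ ↔ ι (a.1 * b.1) z ∈ _
        rw [map_mul, Perm.mul_apply, hb z, ha]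
      one_mem' := by
        intro z
        show _ ↔ ι 1 z ∈ _
        rw [map_one, Perm.one_apply]
      inv_mem' := by
        intro a ha z
        show _ ↔ ι (a.1⁻¹) z ∈ _
        have := ha ((ι a.1)⁻¹ z)
        rw [← Perm.mul_apply, mul_inv_cancel, Perm.one_apply] at this
        rw [map_inv]
        exact this.symm } with hK
  have hcK : (⟨c, hc⟩ : ↥A) ∈ K := by
    intro z
    show _ ↔ ι c z ∈ _
    rw [apply_mem_support]
  have hmemK : ∀ a : ↥A, a ∈ K ↔ ∀ z, z ∈ (ι c).support ↔ ι a.1 z ∈ (ι c).support := fun a => Iff.rfl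
  have htop : K = ⊤ := by
    by_contra hne
    haveI := hA
    have hlt := Group.normalizerCondition_of_isNilpotent (G := ↥A) K (lt_top_iff_ne_top.mpr hne)
    obtain ⟨g, hg1, hg2⟩ := SetLike.exists_of_lt hlt
    apply hg2
    rw [Subgroup.mem_normalizer_iff] at hg1
    have h1 := (hg1 ⟨c, hc⟩).mp hcK
    rw [hmemK] at h1
    -- `c` preserves `S = g⁻¹ Δ`
    have h2 : ∀ z, ι g.1 z ∈ (ι c).support → ι g.1 (ι c z) ∈ (ι c).support := by
      intro z hz
      have := (h1 (ι g.1 z)).mp hz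
      show ι g.1 (ι c z) ∈ _
      have e : ι (g * ⟨c, hc⟩ * g⁻¹ : ↥A).1 (ι g.1 z) = ι g.1 (ι c z) := by
        show ι (g.1 * c * g.1⁻¹) (ι g.1 z) = _
        have e' : (ι g.1)⁻¹ (ι g.1 z) = z := by rw [← Perm.mul_apply, inv_mul_cancel, Perm.one_apply]
        rw [map_mul, map_mul, map_inv, Perm.mul_apply, Perm.mul_apply, e']
      rw [e] at this
      exact this
    have h3 : ∀ k : ℕ, ∀ z, ι g.1 z ∈ (ι c).support → ι g.1 (((ι c) ^ k) z) ∈ (ι c).support := by
      intro k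
      induction k with
      | zero => intro z hz; simpa using hz
      | succ k ih =>
        intro z hz
        rw [pow_succ', Perm.mul_apply]
        exact h2 _ (ih z hz)
    -- the set S
    set S : Finset (Fin n) := (ι c).support.image ((ι g.1)⁻¹ : Perm (Fin n)) with hS
    have hSc : S.card = (ι c).support.card := Finset.card_image_of_injective _ ((ι g.1)⁻¹ : Perm (Fin n)).injective
    have hSm : ∀ z, z ∈ S ↔ ι g.1 z ∈ (ι c).support := by
      intro z
      rw [hS, Finset.mem_image]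
      constructor
      · rintro ⟨w, hw, rfl⟩
        rw [← Perm.mul_apply, mul_inv_cancel, Perm.one_apply]; exact hw
      · intro h
        exact ⟨_, h, by rw [← Perm.mul_apply, inv_mul_cancel, Perm.one_apply]⟩
    have hint : ∃ s, s ∈ S ∧ s ∈ (ι c).support := by
      by_contra hno
      push Not at hno
      have hd : Disjoint S (ι c).support := Finset.disjoint_left.mpr (fun s h1 h2 => hno s h1 h2)
      have := Finset.card_union_of_disjoint hd
      have h4 := Finset.card_le_univ (S ∪ (ι c).support)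
      rw [Fintype.card_fin] at h4
      omega
    obtain ⟨s, hs1, hs2⟩ := hint
    have hsub : (ι c).support ⊆ S := by
      intro d hd
      obtain ⟨k, hk⟩ := hcyc.exists_pow_eq (mem_support.mp hs2) (mem_support.mp hd)
      rw [hSm, ← hk]
      exact h3 k s ((hSm s).mp hs1)
    have heq : (ι c).support = S := Finset.eq_of_subset_of_card_le hsub (by rw [hSc])
    rw [hmemK]
    intro z
    rw [← hSm z, ← heq]
  intro a ha
  have : (⟨a, ha⟩ : ↥A) ∈ K := by rw [htop]; trivial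
  exact this

theorem prod3 {N : Type*} [Group N] [Finite N] (hN : Group.IsNilpotent N) {u v : N} (hu : u ^ 3 = 1)
    (hv : v ^ 3 = 1) (huv : (u * v) ^ 2 = 1) : u * v = 1 := by
  haveI : Fact (Nat.Prime 3) := ⟨Nat.prime_three⟩
  have hn := ((Group.isNilpotent_of_finite_tfae (G := N)).out 0 3).mp hN
  have hz : ∀ w : N, w ^ 3 = 1 → ∃ P : Sylow 3 N, w ∈ (P : Subgroup N) := by
    intro w hw
    have hp : IsPGroup 3 ↥(Subgroup.zpowers w) := by
      rintro ⟨y, hy⟩
      obtain ⟨k, rfl⟩ := hy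
      refine ⟨1, ?_⟩
      apply Subtype.ext
      show (w ^ k) ^ (3 ^ 1) = 1
      rw [pow_one, ← zpow_natCast, ← zpow_mul, mul_comm, zpow_mul, zpow_natCast, hw, one_zpow]
    obtain ⟨P, hP⟩ := hp.exists_le_sylow
    exact ⟨P, hP (Subgroup.mem_zpowers w)⟩
  obtain ⟨P, hP⟩ := hz u hu
  obtain ⟨Q, hQ⟩ := hz v hv
  haveI hPn : (P : Subgroup N).Normal := hn 3 inferInstance P
  have hPQ : Q = P := by
    haveI := Sylow.unique_of_normal P hPn
    exact Subsingleton.elim _ _
  rw [hPQ] at hQ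
  obtain ⟨k, hk⟩ := P.isPGroup' ⟨u * v, Subgroup.mul_mem _ hP hQ⟩
  have hk' : (u * v) ^ (3 ^ k) = 1 := congrArg Subtype.val hk
  have d1 := orderOf_dvd_of_pow_eq_one hk'
  have d2 := orderOf_dvd_of_pow_eq_one huv
  have hcop : Nat.Coprime (3 ^ k) 2 := Nat.Coprime.pow_left k (by norm_num)
  have := Nat.eq_one_of_dvd_coprimes hcop d1 d2
  exact orderOf_eq_one_iff.mp this

open scoped commutatorElement in
theorem lcs {N : Type*} [Group N] (hN : Group.IsNilpotent N) {x a : N} (hx : x ^ 3 = 1)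
    (hxa : a * x * a⁻¹ = x⁻¹) : x = 1 := by
  obtain ⟨k, hk⟩ := Subgroup.nilpotent_iff_lowerCentralSeries.mp hN
  have h : ∀ k, x ∈ Subgroup.lowerCentralSeries (⊤ : Subgroup N) k := by
    intro k
    induction k with
    | zero => trivial
    | succ k ih =>
      have h1 : ⁅x, a⁆ ∈ Subgroup.lowerCentralSeries (⊤ : Subgroup N) (k + 1) := by
        rw [Subgroup.lowerCentralSeries_succ]
        exact Subgroup.commutator_mem_commutator ih (Subgroup.mem_top a)
      have h2 : ⁅x, a⁆ = x⁻¹ := by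
        rw [commutatorElement_def]
        have e : x * a * x⁻¹ * a⁻¹ = x * (a * x * a⁻¹)⁻¹ := by group
        rw [e, hxa, inv_inv]
        rw [eq_inv_iff_mul_eq_one]
        rw [pow_succ, pow_two] at hx; exact hx
      rw [h2] at h1
      exact (Subgroup.inv_mem_iff _).mp h1
  have := h k
  rw [hk, Subgroup.mem_bot] at this
  exact this

theorem prodT {X : Type*} [Fintype X] [DecidableEq X] {a b c d : X} (ab : a ≠ b) (ac : a ≠ c) (ad : a ≠ d)
    (bc : b ≠ c) (bd : b ≠ d) (cd : c ≠ d) : (T a b c * T b c d) ^ 2 = 1 ∧ T a b c * T b c d ≠ 1 := by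
  have qb : (T a b c * T b c d) b = c ∨ True := Or.inr trivial
  have q1 : (T a b c * T b c d) b = a := by rw [Perm.mul_apply, T_a bc bd, T_c]
  have q2 : (T a b c * T b c d) c = d := by
    rw [Perm.mul_apply, T_b bd cd, T_else ad.symm bd.symm cd.symm]
  have q3 : (T a b c * T b c d) d = c := by rw [Perm.mul_apply, T_c, T_b ac bc]
  have q4 : (T a b c * T b c d) a = b := by rw [Perm.mul_apply, T_else ab ac ad, T_a ab ac]
  constructor
  · apply Equiv.ext
    intro x
    rw [pow_two, Perm.mul_apply, Perm.one_apply]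
    by_cases e1 : x = a
    · rw [e1, q4, q1]
    by_cases e2 : x = b
    · rw [e2, q1, q4]
    by_cases e3 : x = c
    · rw [e3, q2, q3]
    by_cases e4 : x = d
    · rw [e4, q3, q2]
    have : (T a b c * T b c d) x = x := by rw [Perm.mul_apply, T_else e2 e3 e4, T_else e1 e2 e3]
    rw [this, this]
  · intro h
    rw [h, Perm.one_apply] at q2
    exact cd q2

theorem core {G : Type*} [Group G] [Finite G] {n m : ℕ} (hm : 4 ≤ m) (hmn : m < n) (hbig : n < 2 * m)
    (ι : G →* Perm (Fin n)) (hinj : Function.Injective ι)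
    (hx : ∀ t : Perm (Fin n), t * Fin.cycleRange ⟨m - 1, by omega⟩ * t⁻¹ ∈ ι.range)
    (halt : alternatingGroup (Fin n) ≤ ι.range)
    (𝓐 : Finset (Subgroup G)) (h1 : (∀ A ∈ 𝓐, A ≠ ⊤) ∧ (∀ g : G, ∃ A ∈ 𝓐, g ∈ A))
    (h2 : ∀ 𝓑 : Finset (Subgroup G), (∀ A ∈ 𝓑, A ≠ ⊤) ∧ (∀ g : G, ∃ A ∈ 𝓑, g ∈ A) → 𝓐.card ≤ 𝓑.card)
    (h3 : ∀ A ∈ 𝓐, Group.IsNilpotent ↥A) : False := by
  classical
  haveI : NeZero n := ⟨by omega⟩
  set pj : Fin n := ⟨m - 1, by omega⟩ with hpj
  set x0 : Perm (Fin n) := Fin.cycleRange pj with hx0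
  have hj0 : pj ≠ 0 := by
    intro h
    have := congrArg Fin.val h
    simp [hpj] at this
    omega
  have hcyc0 : IsCycle x0 := Fin.isCycle_cycleRange hj0
  have hcard0 : x0.support.card = m := by
    rw [← sum_cycleType, hx0, Fin.cycleType_cycleRange hj0, Multiset.sum_singleton]
    show m - 1 + 1 = m
    omega
  set p0 : Fin n := ⟨0, by omega⟩ with hp0
  set p1 : Fin n := ⟨1, by omega⟩ with hp1
  set p2 : Fin n := ⟨2, by omega⟩ with hp2
  set pm : Fin n := ⟨m, hmn⟩ with hpm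
  have v0 : x0 p0 = p1 := by
    apply Fin.ext
    rw [hx0, Fin.coe_cycleRange_of_lt (by rw [Fin.lt_def]; show 0 < m - 1; omega)]
  have v1 : x0 p1 = p2 := by
    apply Fin.ext
    rw [hx0, Fin.coe_cycleRange_of_lt (by rw [Fin.lt_def]; show 1 < m - 1; omega)]
  have vj : x0 pj = p0 := by
    rw [hx0, Fin.cycleRange_self]; rfl
  have vm : x0 pm = pm := by
    rw [hx0, Fin.cycleRange_of_gt]
    rw [Fin.lt_def]; show m - 1 < m; omega
  have n01 : p0 ≠ p1 := by intro h; have := congrArg Fin.val h; simp [hp0, hp1] at this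
  have n02 : p0 ≠ p2 := by intro h; have := congrArg Fin.val h; simp [hp0, hp2] at this
  have n12 : p1 ≠ p2 := by intro h; have := congrArg Fin.val h; simp [hp1, hp2] at this
  have nj0 : pj ≠ p0 := by intro h; have := congrArg Fin.val h; simp [hp0, hpj] at this; omega
  have nj1 : pj ≠ p1 := by intro h; have := congrArg Fin.val h; simp [hp1, hpj] at this; omega
  have nj2 : pj ≠ p2 := by intro h; have := congrArg Fin.val h; simp [hp2, hpj] at this; omega
  have nm0 : pm ≠ p0 := by intro h; have := congrArg Fin.val h; simp [hp0, hpm] at this; omega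
  have nm1 : pm ≠ p1 := by intro h; have := congrArg Fin.val h; simp [hp1, hpm] at this; omega
  obtain ⟨c0, hc0⟩ : x0 ∈ ι.range := by
    have := hx 1
    simpa using this
  set t : Perm (Fin n) := swap p0 p1 with ht
  obtain ⟨c1, hc1⟩ : t * x0 * t⁻¹ ∈ ι.range := hx t
  obtain ⟨A, hA, hcA⟩ := h1.2 c0
  obtain ⟨A', hA', hcA'⟩ := h1.2 c1
  have s0 : p0 ∈ x0.support := by rw [mem_support, v0]; exact n01.symm
  have s1 : p1 ∈ x0.support := by rw [mem_support, v1]; exact n12.symm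
  have hsupp : (t * x0 * t⁻¹).support = x0.support := by
    rw [support_conj]
    ext z
    rw [Finset.mem_map]
    constructor
    · rintro ⟨w, hw, rfl⟩
      show t w ∈ _
      by_cases e0 : w = p0
      · rw [e0, ht, swap_apply_left]; exact s1
      by_cases e1 : w = p1
      · rw [e1, ht, swap_apply_right]; exact s0
      rw [ht, swap_apply_of_ne_of_ne e0 e1]; exact hw
    · intro hz
      refine ⟨t z, ?_, ?_⟩
      · by_cases e0 : z = p0
        · rw [e0, ht, swap_apply_left]; exact s1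
        by_cases e1 : z = p1
        · rw [e1, ht, swap_apply_right]; exact s0
        rw [ht, swap_apply_of_ne_of_ne e0 e1]; exact hz
      · show t (t z) = z
        rw [ht, swap_apply_self]
  set B : Subgroup G :=
    { carrier := {a | ∀ z, z ∈ x0.support ↔ ι a z ∈ x0.support}
      mul_mem' := by
        intro a b ha hb z
        show _ ↔ ι (a * b) z ∈ _
        rw [map_mul, Perm.mul_apply, hb z, ha]
      one_mem' := by
        intro z
        show _ ↔ ι 1 z ∈ _
        rw [map_one, Perm.one_apply]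
      inv_mem' := by
        intro a ha z
        show _ ↔ ι (a⁻¹) z ∈ _
        have := ha ((ι a)⁻¹ z)
        rw [← Perm.mul_apply, mul_inv_cancel, Perm.one_apply] at this
        rw [map_inv]
        exact this.symm } with hB
  have hBtop : B ≠ ⊤ := by
    intro h
    obtain ⟨b, hb⟩ := halt (T_isThree nm0.symm n01 nm1).mem_alternatingGroup
    have hb' : b ∈ B := by rw [h]; trivial
    have := (hb' p0).mp s0
    rw [hb, T_a nm0.symm n01, mem_support] at this
    exact this vm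
  have hAB : A ≤ B := by
    intro a ha
    have := pres ι A (h3 A hA) hcA (by rw [hc0]; exact hcyc0) (by rw [hc0, hcard0]; exact hbig) a ha
    rw [hc0] at this
    exact this
  have hAB' : A' ≤ B := by
    intro a ha
    have := pres ι A' (h3 A' hA') hcA' (by rw [hc1]; exact hcyc0.conj) (by rw [hc1, hsupp, hcard0]; exact hbig) a ha
    rw [hc1, hsupp] at this
    exact this
  have hAA := uniq h1 h2 hA hA' hBtop hAB hAB'
  rw [← hAA] at hcA'
  have hu1 : ι (c0⁻¹ * c1) = T pj p0 p1 := by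
    have e1 : x0⁻¹ p0 = pj := by rw [Perm.inv_eq_iff_eq]; exact vj.symm
    have e2 : x0⁻¹ p1 = p0 := by rw [Perm.inv_eq_iff_eq]; exact v0.symm
    rw [map_mul, map_inv, hc0, hc1]
    have e3 : x0⁻¹ * (t * x0 * t⁻¹) = (x0⁻¹ * t * x0⁻¹⁻¹) * t⁻¹ := by group
    rw [e3, ht, ← swap_apply_apply, e1, e2, swap_inv]
    rfl
  have hu2 : ι (c0 * (c0⁻¹ * c1) * c0⁻¹) = T p0 p1 p2 := by
    rw [map_mul, map_mul, hu1, map_inv, hc0, T_conj, vj, v0, v1]
  obtain ⟨q1, q2⟩ := prodT nj0 nj1 nj2 n01 n02 n12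
  have hN := h3 A hA
  have m1 : c0⁻¹ * c1 ∈ A := A.mul_mem (A.inv_mem hcA) hcA'
  have m2 : c0 * (c0⁻¹ * c1) * c0⁻¹ ∈ A := A.mul_mem (A.mul_mem hcA m1) (A.inv_mem hcA)
  have k1 : (⟨_, m1⟩ : ↥A) ^ 3 = 1 := by
    apply Subtype.ext
    apply hinj
    show ι ((c0⁻¹ * c1) ^ 3) = ι 1
    rw [map_pow, hu1, map_one]
    exact orderOf_dvd_iff_pow_eq_one.mp (dvd_of_eq (T_isThree nj0 nj1 n01).orderOf)
  have k2 : (⟨_, m2⟩ : ↥A) ^ 3 = 1 := by
    apply Subtype.ext
    apply hinj
    show ι ((c0 * (c0⁻¹ * c1) * c0⁻¹) ^ 3) = ι 1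
    rw [map_pow, hu2, map_one]
    exact orderOf_dvd_iff_pow_eq_one.mp (dvd_of_eq (T_isThree n01 n02 n12).orderOf)
  have k3 : ((⟨_, m1⟩ : ↥A) * ⟨_, m2⟩) ^ 2 = 1 := by
    apply Subtype.ext
    apply hinj
    show ι (((c0⁻¹ * c1) * (c0 * (c0⁻¹ * c1) * c0⁻¹)) ^ 2) = ι 1
    rw [map_pow, map_mul, hu1, hu2, map_one, q1]
  have k4 := prod3 hN k1 k2 k3
  apply q2
  have k5 := congrArg (fun z : ↥A => ι z.1) k4
  have k6 : ι ((c0⁻¹ * c1) * (c0 * (c0⁻¹ * c1) * c0⁻¹)) = ι 1 := k5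
  rw [map_mul, hu1, hu2, map_one] at k6
  exact k6

theorem small {G : Type*} [Group G] [Finite G] {n : ℕ}
    (ι : G →* Perm (Fin n)) (hinj : Function.Injective ι) (s1 s2 : Perm (Fin n))
    (hs1 : s1 ∈ ι.range) (hs2 : s2 ∈ ι.range) (c1 : IsCycle s1) (c2 : IsCycle s2)
    (b1 : n < 2 * s1.support.card) (b2 : n < 2 * s2.support.card) (o1 : s1 ^ 3 = 1) (o2 : s2 ^ 3 = 1)
    (o3 : (s1 * s2) ^ 2 = 1) (o4 : s1 * s2 ≠ 1) (B : Subgroup G) (hB : B ≠ ⊤)
    (hc1 : ∀ a : G, (∀ z, z ∈ s1.support ↔ ι a z ∈ s1.support) → ι a * s1 * (ι a)⁻¹ ≠ s1⁻¹ → a ∈ B)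
    (hc2 : ∀ a : G, (∀ z, z ∈ s2.support ↔ ι a z ∈ s2.support) → ι a * s2 * (ι a)⁻¹ ≠ s2⁻¹ → a ∈ B)
    (𝓐 : Finset (Subgroup G)) (h1 : (∀ A ∈ 𝓐, A ≠ ⊤) ∧ (∀ g : G, ∃ A ∈ 𝓐, g ∈ A))
    (h2 : ∀ 𝓑 : Finset (Subgroup G), (∀ A ∈ 𝓑, A ≠ ⊤) ∧ (∀ g : G, ∃ A ∈ 𝓑, g ∈ A) → 𝓐.card ≤ 𝓑.card)
    (h3 : ∀ A ∈ 𝓐, Group.IsNilpotent ↥A) : False := by
  obtain ⟨x1, hx1⟩ := hs1
  obtain ⟨x2, hx2⟩ := hs2
  obtain ⟨A1, hA1, m1⟩ := h1.2 x1
  obtain ⟨A2, hA2, m2⟩ := h1.2 x2
  have key : ∀ (s : Perm (Fin n)) (x : G) (A : Subgroup G), ι x = s → x ∈ A → A ∈ 𝓐 → IsCycle s →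
      n < 2 * s.support.card → s ^ 3 = 1 →
      (∀ a : G, (∀ z, z ∈ s.support ↔ ι a z ∈ s.support) → ι a * s * (ι a)⁻¹ ≠ s⁻¹ → a ∈ B) → A ≤ B := by
    intro s x A hx hxA hA hcy hbig ho hcc a ha
    apply hcc
    · have := pres ι A (h3 A hA) hxA (by rw [hx]; exact hcy) (by rw [hx]; exact hbig) a ha
      rw [hx] at this
      exact this
    · intro h
      have e1 : (⟨a, ha⟩ : ↥A) * ⟨x, hxA⟩ * (⟨a, ha⟩ : ↥A)⁻¹ = (⟨x, hxA⟩ : ↥A)⁻¹ := by
        apply Subtype.ext
        apply hinj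
        show ι (a * x * a⁻¹) = ι (x⁻¹)
        rw [map_mul, map_mul, map_inv, map_inv, hx, h]
      have e2 : (⟨x, hxA⟩ : ↥A) ^ 3 = 1 := by
        apply Subtype.ext
        apply hinj
        show ι (x ^ 3) = ι 1
        rw [map_pow, hx, ho, map_one]
      have e3 := lcs (h3 A hA) e2 e1
      have e4 : x = 1 := congrArg Subtype.val e3
      rw [e4, map_one] at hx
      rw [← hx] at hcy
      exact hcy.ne_one rfl
  have l1 := key s1 x1 A1 hx1 m1 hA1 c1 b1 o1 hc1
  have l2 := key s2 x2 A2 hx2 m2 hA2 c2 b2 o2 hc2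
  have hAA := uniq h1 h2 hA1 hA2 hB l1 l2
  rw [← hAA] at m2
  have k4 := prod3 (h3 A1 hA1) (u := ⟨x1, m1⟩) (v := ⟨x2, m2⟩) (by
      apply Subtype.ext
      apply hinj
      show ι (x1 ^ 3) = ι 1
      rw [map_pow, hx1, o1, map_one]) (by
      apply Subtype.ext
      apply hinj
      show ι (x2 ^ 3) = ι 1
      rw [map_pow, hx2, o2, map_one]) (by
      apply Subtype.ext
      apply hinj
      show ι ((x1 * x2) ^ 2) = ι 1
      rw [map_pow, map_mul, hx1, hx2, o3, map_one])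
  apply o4
  have k6 : ι (x1 * x2) = ι 1 := congrArg (fun z : ↥A1 => ι z.1) k4
  rw [map_mul, hx1, hx2, map_one] at k6
  exact k6

set_option maxRecDepth 100000 in
theorem dec4a : ∀ a : Perm (Fin 4), (∀ z, z ∈ (T 0 1 2 : Perm (Fin 4)).support ↔ a z ∈ (T 0 1 2 : Perm (Fin 4)).support) →
    a * T 0 1 2 * a⁻¹ ≠ (T 0 1 2)⁻¹ → sign a = 1 := by
  decide +kernel

set_option maxRecDepth 100000 in
theorem dec4b : ∀ a : Perm (Fin 4), (∀ z, z ∈ (T 0 1 3 : Perm (Fin 4)).support ↔ a z ∈ (T 0 1 3 : Perm (Fin 4)).support) →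
    a * T 0 1 3 * a⁻¹ ≠ (T 0 1 3)⁻¹ → sign a = 1 := by
  decide +kernel

set_option maxRecDepth 100000 in
theorem dec5a : ∀ a : Perm (Fin 5), sign a = 1 → (∀ z, z ∈ (T 0 1 2 : Perm (Fin 5)).support ↔ a z ∈ (T 0 1 2 : Perm (Fin 5)).support) →
    a * T 0 1 2 * a⁻¹ ≠ (T 0 1 2)⁻¹ → a 4 = 4 := by
  decide +kernel

set_option maxRecDepth 100000 in
theorem dec5b : ∀ a : Perm (Fin 5), sign a = 1 → (∀ z, z ∈ (T 0 1 3 : Perm (Fin 5)).support ↔ a z ∈ (T 0 1 3 : Perm (Fin 5)).support) →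
    a * T 0 1 3 * a⁻¹ ≠ (T 0 1 3)⁻¹ → a 4 = 4 := by
  decide +kernel


/-- A cover of a group is a finite set of proper subgroups whose union is the whole group; it is minimal when no cover has fewer members, and nilpotent when all its members are nilpotent. The alternating groups of degree at least 5 and the symmetric groups of degree at least 4 have no nilpotent minimal cover. -/
theorem result (n : ℕ) :
    (5 ≤ n → ¬ ∃ 𝓐 : Finset (Subgroup ↥(alternatingGroup (Fin n))), ((∀ A ∈ 𝓐, A ≠ ⊤) ∧ (∀ g : ↥(alternatingGroup (Fin n)), ∃ A ∈ 𝓐, g ∈ A)) ∧ (∀ 𝓑 : Finset (Subgroup ↥(alternatingGroup (Fin n))), (∀ A ∈ 𝓑, A ≠ ⊤) ∧ (∀ g : ↥(alternatingGroup (Fin n)), ∃ A ∈ 𝓑, g ∈ A) → 𝓐.card ≤ 𝓑.card) ∧ (∀ A ∈ 𝓐, Group.IsNilpotent ↥A)) ∧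
    (4 ≤ n → ¬ ∃ 𝓐 : Finset (Subgroup (Equiv.Perm (Fin n))), ((∀ A ∈ 𝓐, A ≠ ⊤) ∧ (∀ g : (Equiv.Perm (Fin n)), ∃ A ∈ 𝓐, g ∈ A)) ∧ (∀ 𝓑 : Finset (Subgroup (Equiv.Perm (Fin n))), (∀ A ∈ 𝓑, A ≠ ⊤) ∧ (∀ g : (Equiv.Perm (Fin n)), ∃ A ∈ 𝓑, g ∈ A) → 𝓐.card ≤ 𝓑.card) ∧ (∀ A ∈ 𝓐, Group.IsNilpotent ↥A)) := by
  classical
  refine ⟨fun hn => ?_, fun hn => ?_⟩
  · rintro ⟨𝓐, h1, h2, h3⟩
    have hr : (alternatingGroup (Fin n)).subtype.range = alternatingGroup (Fin n) := Subgroup.range_subtype _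
    by_cases h5 : n = 5
    · subst h5
      refine small (alternatingGroup (Fin 5)).subtype (Subgroup.subtype_injective _) (T 0 1 2) (T 0 1 3)
        (by rw [hr]; exact (T_isThree (by decide) (by decide) (by decide)).mem_alternatingGroup)
        (by rw [hr]; exact (T_isThree (by decide) (by decide) (by decide)).mem_alternatingGroup)
        (T_isThree (by decide) (by decide) (by decide)).isCycle
        (T_isThree (by decide) (by decide) (by decide)).isCycle
        (by rw [(T_isThree (by decide) (by decide) (by decide) : IsThreeCycle (T 0 1 2 : Perm (Fin 5))).card_support]; norm_num)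
        (by rw [(T_isThree (by decide) (by decide) (by decide) : IsThreeCycle (T 0 1 3 : Perm (Fin 5))).card_support]; norm_num)
        (by decide +kernel) (by decide +kernel) (by decide +kernel) (by decide +kernel)
        { carrier := {a | (a : Perm (Fin 5)) 4 = 4}
          mul_mem' := by
            intro a b ha hb
            show (a : Perm (Fin 5)) ((b : Perm (Fin 5)) 4) = 4
            rw [hb, ha]
          one_mem' := rfl
          inv_mem' := by
            intro a ha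
            show (a : Perm (Fin 5))⁻¹ 4 = 4
            rw [Perm.inv_eq_iff_eq]; exact ha.symm } ?_ ?_ ?_ 𝓐 h1 h2 h3
      · intro h
        have h4 : (⟨T 0 4 1, (T_isThree (by decide) (by decide) (by decide)).mem_alternatingGroup⟩ : alternatingGroup (Fin 5)) ∈
          (⊤ : Subgroup (alternatingGroup (Fin 5))) := trivial
        rw [← h] at h4
        have h5 : (T 0 4 1 : Perm (Fin 5)) 4 = 4 := h4
        revert h5
        decide +kernel
      · intro a ha hb
        exact dec5a a.1 a.2 ha hb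
      · intro a ha hb
        exact dec5b a.1 a.2 ha hb
    · by_cases he : Even n
      · refine core (m := n - 1) (by omega) (by omega) (by omega) (alternatingGroup (Fin n)).subtype
          (Subgroup.subtype_injective _) ?_ (le_of_eq hr.symm) 𝓐 h1 h2 h3
        intro t
        rw [hr, mem_alternatingGroup, map_mul, map_mul, Fin.sign_cycleRange]
        obtain ⟨k, hk⟩ := he
        have e1 : ((-1 : ℤˣ)) ^ (n - 1 - 1) = 1 := Even.neg_one_pow ⟨k - 1, by omega⟩
        show sign t * (-1) ^ (n - 1 - 1) * sign t⁻¹ = 1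
        rw [e1, mul_one, ← map_mul, mul_inv_cancel, map_one]
      · refine core (m := n - 2) (by have := Nat.not_even_iff_odd.mp he; obtain ⟨k, hk⟩ := this; omega) (by omega) (by omega) (alternatingGroup (Fin n)).subtype
          (Subgroup.subtype_injective _) ?_ (le_of_eq hr.symm) 𝓐 h1 h2 h3
        intro t
        rw [hr, mem_alternatingGroup, map_mul, map_mul, Fin.sign_cycleRange]
        obtain ⟨k, hk⟩ := Nat.not_even_iff_odd.mp he
        have e1 : ((-1 : ℤˣ)) ^ (n - 2 - 1) = 1 := Even.neg_one_pow ⟨k - 1, by omega⟩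
        show sign t * (-1) ^ (n - 2 - 1) * sign t⁻¹ = 1
        rw [e1, mul_one, ← map_mul, mul_inv_cancel, map_one]
  · rintro ⟨𝓐, h1, h2, h3⟩
    have hr : (MonoidHom.id (Perm (Fin n))).range = ⊤ := MonoidHom.range_eq_top.mpr (fun x => ⟨x, rfl⟩)
    by_cases h4 : n = 4
    · subst h4
      refine small (MonoidHom.id (Perm (Fin 4))) (fun _ _ h => h) (T 0 1 2) (T 0 1 3)
        (by rw [hr]; trivial) (by rw [hr]; trivial)
        (T_isThree (by decide) (by decide) (by decide)).isCycle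
        (T_isThree (by decide) (by decide) (by decide)).isCycle
        (by rw [(T_isThree (by decide) (by decide) (by decide) : IsThreeCycle (T 0 1 2 : Perm (Fin 4))).card_support]; norm_num)
        (by rw [(T_isThree (by decide) (by decide) (by decide) : IsThreeCycle (T 0 1 3 : Perm (Fin 4))).card_support]; norm_num)
        (by decide +kernel) (by decide +kernel) (by decide +kernel) (by decide +kernel)
        (alternatingGroup (Fin 4)) ?_ ?_ ?_ 𝓐 h1 h2 h3
      · intro h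
        have h5 : (swap 0 1 : Perm (Fin 4)) ∈ (⊤ : Subgroup (Perm (Fin 4))) := trivial
        rw [← h, mem_alternatingGroup] at h5
        revert h5
        decide
      · intro a ha hb
        exact dec4a a ha hb
      · intro a ha hb
        exact dec4b a ha hb
    · exact core (m := n - 1) (by omega) (by omega) (by omega) (MonoidHom.id (Perm (Fin n)))
        (fun _ _ h => h) (fun t => by rw [hr]; trivial) (by rw [hr]; exact le_top) 𝓐 h1 h2 h3

end Cfsg.Agent.S3892
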