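import Cfsg.Statements.S3893
import Cfsg.Agent.LibSzMat
import Cfsg.Agent.LibNilCover

set_option autoImplicit false
set_option linter.style.haveILetI false
open Cfsg

namespace Cfsg.Agent.S3893

open CfsgLib.SzMat Cfsg.Lie Matrix
open scoped MatrixGroups

variable {F : Type*} [Field F]

def tM (e : ℕ) (b : F) : Matrix (Fin 4) (Fin 4) F := Matrix.diagonal ![b ^ (e + 1), b, b⁻¹, (b ^ (e + 1))⁻¹]

def zM (e : ℕ) (y : F) : Matrix (Fin 4) (Fin 4) F := !![1,0,y,y^e;0,1,0,y;0,0,1,0;0,0,0,1]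

theorem tM_inSz {e : ℕ} (he : e ≠ 0) {b : F} (hb : b ≠ 0) (hbe : b ^ (e * e) = b ^ 2) : InSz e (tM e b) := by
  have h1 : b ^ (e + 1) ≠ 0 := pow_ne_zero _ hb
  refine ⟨?_, ?_⟩
  · intro i j
    fin_cases i <;> fin_cases j <;> simp [tM, hb]
  · have key : b ^ (e + 1) * b = (b ^ (e + 1)) ^ e := by
      rw [← pow_succ, ← pow_mul, add_mul, one_mul, pow_add b (e * e), hbe, ← pow_add]
      ring
    ext p r
    simp only [star4, Matrix.of_apply, Matrix.map_apply, tM, Matrix.diagonal_apply]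
    fin_cases p <;> fin_cases r <;> simp [pairOf, he]
    · exact key
    · rw [pow_succ]; field_simp
    · rw [pow_succ]; field_simp
    · rw [← key, mul_inv, mul_comm]

theorem zM_inSz [CharP F 2] {e : ℕ} (he : e ≠ 0) {y : F} (hbe : (y ^ e) ^ e = y ^ 2) : InSz e (zM e y) := by
  have h2 : (2 : F) = 0 := CharTwo.two_eq_zero
  have hneg : ∀ x : F, -x = x := fun x => CharTwo.neg_eq x
  have hadd : ∀ x : F, x + x = 0 := fun x => CharTwo.add_self_eq_zero x
  refine ⟨?_, ?_⟩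
  · intro i j
    fin_cases i <;> fin_cases j <;> simp [zM, hadd]
  · ext p r
    simp only [star4, Matrix.of_apply, Matrix.map_apply, zM]
    fin_cases p <;> fin_cases r <;> simp [pairOf, he, hneg]
    rw [hbe]; ring

theorem J_inSz [CharP F 2] {e : ℕ} (he : e ≠ 0) : InSz e (Jmat : Matrix (Fin 4) (Fin 4) F) := by
  have hneg : ∀ x : F, -x = x := fun x => CharTwo.neg_eq x
  refine ⟨?_, ?_⟩
  · intro i j
    fin_cases i <;> fin_cases j <;> simp [Jmat]
  · ext p r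
    simp only [star4, Matrix.of_apply, Matrix.map_apply, Jmat]
    fin_cases p <;> fin_cases r <;> simp [pairOf, he, hneg]

/-- Units -/
def tU (e : ℕ) (b : F) (hb : b ≠ 0) : GL (Fin 4) F :=
  ⟨tM e b, Matrix.diagonal ![(b ^ (e + 1))⁻¹, b⁻¹, b, b ^ (e + 1)], by
    have h1 : b ^ (e + 1) ≠ 0 := pow_ne_zero _ hb
    rw [tM, Matrix.diagonal_mul_diagonal, ← Matrix.diagonal_one]
    congr 1; funext i; fin_cases i <;> simp [hb], by
    have h1 : b ^ (e + 1) ≠ 0 := pow_ne_zero _ hb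
    rw [tM, Matrix.diagonal_mul_diagonal, ← Matrix.diagonal_one]
    congr 1; funext i; fin_cases i <;> simp [hb]⟩

theorem zM_mul_self [CharP F 2] (e : ℕ) (y : F) : zM e y * zM e y = 1 := by
  have hadd : ∀ x : F, x + x = 0 := fun x => CharTwo.add_self_eq_zero x
  ext i j
  fin_cases i <;> fin_cases j <;> simp [zM, Matrix.mul_apply, Fin.sum_univ_four, hadd]

def zU [CharP F 2] (e : ℕ) (y : F) : GL (Fin 4) F := ⟨zM e y, zM e y, zM_mul_self e y, zM_mul_self e y⟩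

def JU : GL (Fin 4) F := ⟨Jmat, Jmat, Jmat_mul, Jmat_mul⟩

/-- distinct diagonal entries -/
theorem distinct [Fintype F] [CharP F 2] {m : ℕ} (hF : Fintype.card F = 2 ^ (2 * m + 1)) {b : F} (hb : b ≠ 0) (hb1 : b ≠ 1) :
    b ^ (2 ^ (m + 1) + 1) ≠ b ∧ b ^ (2 ^ (m + 1) + 1) ≠ b⁻¹ ∧ b ^ (2 ^ (m + 1) + 1) ≠ (b ^ (2 ^ (m + 1) + 1))⁻¹ ∧ b ≠ b⁻¹ ∧
      b ≠ (b ^ (2 ^ (m + 1) + 1))⁻¹ ∧ b⁻¹ ≠ (b ^ (2 ^ (m + 1) + 1))⁻¹ := by
  have hq : b ^ (2 ^ (2 * m + 1)) = b := by rw [← hF]; exact FiniteField.pow_card b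
  have hinj : ∀ (k : ℕ) (x : F), x ^ (2 ^ k) = 1 → x = 1 := by
    intro k x hx
    have := iterateFrobenius_inj F 2 k
    apply this
    rw [iterateFrobenius_def, iterateFrobenius_def, hx, one_pow]
  -- b^(2^k+1) = 1 with suitable k gives b = 1
  have hA : b ^ (2 ^ (m + 1) + 1) ≠ 1 := by
    intro h
    have h1 : b ^ (2 ^ (m + 1)) = b⁻¹ := by
      rw [pow_succ] at h
      exact eq_inv_of_mul_eq_one_left h
    have h2 : b ^ (2 ^ (2 * m + 2)) = b := by
      have : 2 ^ (2 * m + 2) = 2 ^ (m + 1) * 2 ^ (m + 1) := by rw [← pow_add]; congr 1; ring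
      rw [this, pow_mul, h1, inv_pow, h1, inv_inv]
    have h3 : b ^ (2 ^ (2 * m + 2)) = b ^ 2 := by
      rw [pow_succ 2 (2 * m + 1), pow_mul, hq]
    rw [h3, pow_two] at h2
    exact hb1 (mul_left_cancel₀ hb (by rw [h2, mul_one]))
  have hB : b ^ (2 ^ m + 1) ≠ 1 := by
    intro h
    have h1 : b ^ (2 ^ m) = b⁻¹ := by
      rw [pow_succ] at h
      exact eq_inv_of_mul_eq_one_left h
    have h2 : b ^ (2 ^ (2 * m)) = b := by
      have : 2 ^ (2 * m) = 2 ^ m * 2 ^ m := by rw [← pow_add]; congr 1; ring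
      rw [this, pow_mul, h1, inv_pow, h1, inv_inv]
    have h3 : b ^ (2 ^ (2 * m + 1)) = b ^ 2 := by
      rw [pow_succ, pow_mul, h2]
    rw [hq, pow_two] at h3
    exact hb1 (mul_left_cancel₀ hb (by rw [← h3, mul_one]))
  have c1 : b ^ (2 ^ (m + 1) + 1) ≠ b := by
    intro h
    rw [pow_succ] at h
    have h1 : b ^ (2 ^ (m + 1)) = 1 := mul_right_cancel₀ hb (by rw [h, one_mul])
    exact hb1 (hinj _ _ h1)
  have c2 : b ^ (2 ^ (m + 1) + 1) ≠ b⁻¹ := by
    intro h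
    have h1 : b ^ (2 ^ (m + 1) + 1) * b = 1 := by rw [h, inv_mul_cancel₀ hb]
    have h2 : (b ^ (2 ^ m + 1)) ^ (2 ^ 1) = 1 := by
      rw [← pow_mul, ← h1, ← pow_succ]
      congr 1; ring
    exact hB (hinj _ _ h2)
  have c3 : b ^ (2 ^ (m + 1) + 1) ≠ (b ^ (2 ^ (m + 1) + 1))⁻¹ := by
    intro h
    have h1 : (b ^ (2 ^ (m + 1) + 1)) ^ (2 ^ 1) = 1 := by
      rw [pow_one, pow_two]
      nth_rewrite 2 [h]
      exact mul_inv_cancel₀ (pow_ne_zero _ hb)
    exact hA (hinj _ _ h1)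
  have c4 : b ≠ b⁻¹ := by
    intro h
    have h1 : b ^ (2 ^ 1) = 1 := by
      rw [pow_one, pow_two]
      nth_rewrite 2 [h]
      exact mul_inv_cancel₀ hb
    exact hb1 (hinj _ _ h1)
  refine ⟨c1, c2, c3, c4, ?_, ?_⟩
  · intro h
    apply c2
    rw [h, inv_inv]
    rw [← h]
  · intro h
    apply c1
    exact (inv_injective h).symm


theorem diag_of_comm {d : Fin 4 → F} (hd : Function.Injective d) {g : Matrix (Fin 4) (Fin 4) F}
    (h : g * Matrix.diagonal d = Matrix.diagonal d * g) : ∀ i j, i ≠ j → g i j = 0 := by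
  intro i j hij
  have h1 := congrFun (congrFun h i) j
  rw [Matrix.mul_diagonal, Matrix.diagonal_mul] at h1
  have h2 : g i j * (d j - d i) = 0 := by rw [mul_sub, h1]; ring
  rcases mul_eq_zero.1 h2 with h3 | h3
  · exact h3
  · exact absurd (hd (sub_eq_zero.1 h3)).symm hij

theorem tM_of_diag {e : ℕ} {g : Matrix (Fin 4) (Fin 4) F} (hg : InSz e g) (hd : ∀ i j, i ≠ j → g i j = 0) :
    g 1 1 ≠ 0 ∧ g = tM e (g 1 1) := by
  have h1 := hg.1 0 3
  have h2 := hg.1 1 2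
  have h3 := congrFun (congrFun hg.2 1) 1
  simp [hd 2 0 (by decide), hd 1 0 (by decide), hd 3 0 (by decide)] at h1
  simp [hd 0 1 (by decide), hd 2 1 (by decide), hd 3 1 (by decide)] at h2
  have h4 := congrFun (congrFun hg.2 1) 1
  simp [star4, pairOf, hd 2 0 (by decide)] at h4
  have hne : g 1 1 ≠ 0 := by
    intro h; rw [h] at h2; simp at h2
  have e22 : g 2 2 = (g 1 1)⁻¹ := eq_inv_of_mul_eq_one_right h2
  have e00 : g 0 0 = (g 1 1) ^ (e + 1) := by
    rw [pow_succ, ← h4, e22, mul_assoc, inv_mul_cancel₀ hne, mul_one]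
  have e33 : g 3 3 = ((g 1 1) ^ (e + 1))⁻¹ := by
    rw [← e00]; exact eq_inv_of_mul_eq_one_right h1
  refine ⟨hne, ?_⟩
  ext i j
  by_cases hij : i = j
  · subst hij
    fin_cases i
    · simpa [tM] using e00
    · simp [tM]
    · simpa [tM] using e22
    · simpa [tM] using e33
  · rw [hd i j hij, tM, Matrix.diagonal_apply_ne _ hij]

theorem inj_diag [Fintype F] [CharP F 2] {m : ℕ} (hF : Fintype.card F = 2 ^ (2 * m + 1)) {b : F} (hb : b ≠ 0) (hb1 : b ≠ 1) :
    Function.Injective (![b ^ (2 ^ (m + 1) + 1), b, b⁻¹, (b ^ (2 ^ (m + 1) + 1))⁻¹] : Fin 4 → F) := by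
  obtain ⟨h1, h2, h3, h4, h5, h6⟩ := distinct hF hb hb1
  intro i j hij
  fin_cases i <;> fin_cases j <;> simp only [Fin.zero_eta, Fin.isValue, Fin.mk_one, Fin.reduceFinMk, Matrix.cons_val] at hij ⊢
  · exact absurd hij h1
  · exact absurd hij h2
  · exact absurd hij h3
  · exact absurd hij.symm h1
  · exact absurd hij h4
  · exact absurd hij h5
  · exact absurd hij.symm h2
  · exact absurd hij.symm h4
  · exact absurd hij h6
  · exact absurd hij.symm h3
  · exact absurd hij.symm h5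
  · exact absurd hij.symm h6

theorem ne_one_diag [Fintype F] [CharP F 2] {m : ℕ} (hF : Fintype.card F = 2 ^ (2 * m + 1)) {b : F} (hb : b ≠ 0)
    (j : Fin 4) (hj : (![b ^ (2 ^ (m + 1) + 1), b, b⁻¹, (b ^ (2 ^ (m + 1) + 1))⁻¹] : Fin 4 → F) j = 1) : b = 1 := by
  by_contra hb1
  obtain ⟨h1, h2, h3, h4, h5, h6⟩ := distinct hF hb hb1
  fin_cases j <;> simp only [Fin.zero_eta, Fin.isValue, Fin.mk_one, Fin.reduceFinMk, Matrix.cons_val] at hj
  · exact h3 (by rw [hj, inv_one])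
  · exact hb1 hj
  · exact hb1 (inv_eq_one.1 hj)
  · exact h3 (by rw [inv_eq_one.1 hj, inv_one])

/-- the matrix of an element -/
def mt {e : ℕ} (g : ↥(Sz F e)) : Matrix (Fin 4) (Fin 4) F := ((g : GL (Fin 4) F) : Matrix (Fin 4) (Fin 4) F)

theorem mt_mul {e : ℕ} (g h : ↥(Sz F e)) : mt (g * h) = mt g * mt h := rfl
theorem mt_one {e : ℕ} : mt (1 : ↥(Sz F e)) = 1 := rfl
theorem mt_inj {e : ℕ} {g h : ↥(Sz F e)} (hgh : mt g = mt h) : g = h := Subtype.ext (Units.ext hgh)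

/-- stabiliser of a line -/
def Bor (e : ℕ) : Subgroup ↥(Sz F e) where
  carrier := {g | mt g 1 0 = 0 ∧ mt g 2 0 = 0 ∧ mt g 3 0 = 0}
  mul_mem' := by
    rintro g h ⟨h1, h2, h3⟩ ⟨k1, k2, k3⟩
    simp [mt_mul, Matrix.mul_apply, Fin.sum_univ_four, h1, h2, h3, k1, k2, k3]
  one_mem' := by simp [mt_one]
  inv_mem' := by
    rintro g ⟨h1, h2, h3⟩
    have h : mt g⁻¹ * mt g = 1 := by rw [← mt_mul, inv_mul_cancel, mt_one]
    have e0 := congrFun (congrFun h 0) 0
    have e1 := congrFun (congrFun h 1) 0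
    have e2 := congrFun (congrFun h 2) 0
    have e3 := congrFun (congrFun h 3) 0
    simp [Matrix.mul_apply, Fin.sum_univ_four, h1, h2, h3] at e0 e1 e2 e3
    have hne : mt g 0 0 ≠ 0 := by
      intro h; rw [h] at e0; simp at e0
    refine ⟨e1.resolve_right hne, e2.resolve_right hne, e3.resolve_right hne⟩

/-- A cover of a group is a finite set of proper subgroups whose union is the whole group; it is minimal when no cover has fewer members, and nilpotent when all its members are nilpotent. The Suzuki groups Sz(q), q = 2^(2m+1) with m ≥ 1, have no nilpotent minimal cover. -/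
theorem result {F : Type*} [Field F] [Fintype F] (m : ℕ) (hm : 1 ≤ m) (hF : Fintype.card F = 2 ^ (2 * m + 1)) :
    ¬ ∃ 𝓐 : Finset (Subgroup ↥(Cfsg.Lie.Sz F (2 ^ (m + 1)))), ((∀ A ∈ 𝓐, A ≠ ⊤) ∧ (∀ g : ↥(Cfsg.Lie.Sz F (2 ^ (m + 1))), ∃ A ∈ 𝓐, g ∈ A)) ∧ (∀ 𝓑 : Finset (Subgroup ↥(Cfsg.Lie.Sz F (2 ^ (m + 1)))), (∀ A ∈ 𝓑, A ≠ ⊤) ∧ (∀ g : ↥(Cfsg.Lie.Sz F (2 ^ (m + 1))), ∃ A ∈ 𝓑, g ∈ A) → 𝓐.card ≤ 𝓑.card) ∧ (∀ A ∈ 𝓐, Group.IsNilpotent ↥A) := by
  classical
  haveI hch : CharP F 2 := by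
    haveI : Fact (Nat.Prime 2) := ⟨Nat.prime_two⟩
    exact charP_of_card_eq_prime_pow hF
  have he : (2 ^ (m + 1) : ℕ) ≠ 0 := by positivity
  have hee : ∀ b : F, b ^ (2 ^ (m + 1) * 2 ^ (m + 1)) = b ^ 2 := by
    intro b
    have h1 : 2 ^ (m + 1) * 2 ^ (m + 1) = 2 ^ (2 * m + 1) * 2 := by ring
    rw [h1, pow_mul, ← hF, FiniteField.pow_card]
  have hq : 8 ≤ Fintype.card F := by
    rw [hF]
    calc 8 = 2 ^ 3 := by norm_num
      _ ≤ 2 ^ (2 * m + 1) := Nat.pow_le_pow_right (by norm_num) (by omega)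
  have hmem : ∀ g : ↥(Sz F (2 ^ (m + 1))), InSz (2 ^ (m + 1)) (mt g) := fun g => (mem_Sz_iff _).1 g.2
  -- elements
  have htmem : ∀ (b : F) (hb : b ≠ 0), tU (2 ^ (m + 1)) b hb ∈ Sz F (2 ^ (m + 1)) := fun b hb =>
    (mem_Sz_iff _).2 (tM_inSz he hb (hee b))
  have hzmem : ∀ y : F, zU (2 ^ (m + 1)) y ∈ Sz F (2 ^ (m + 1)) := fun y =>
    (mem_Sz_iff _).2 (zM_inSz he (by rw [← pow_mul]; exact hee y))
  have hJmem : (JU : GL (Fin 4) F) ∈ Sz F (2 ^ (m + 1)) := (mem_Sz_iff _).2 (J_inSz he)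
  let T : ∀ (b : F) (_ : b ≠ 0), ↥(Sz F (2 ^ (m + 1))) := fun b hb => ⟨tU (2 ^ (m + 1)) b hb, htmem b hb⟩
  have hTm : ∀ (b : F) (hb : b ≠ 0), mt (T b hb) = Matrix.diagonal ![b ^ (2 ^ (m + 1) + 1), b, b⁻¹, (b ^ (2 ^ (m + 1) + 1))⁻¹] := fun b hb => rfl
  obtain ⟨b0, hb00, hb01⟩ : ∃ b0 : F, b0 ≠ 0 ∧ b0 ≠ 1 := by
    by_contra hcon
    push Not at hcon
    have : Fintype.card F ≤ 2 := by
      rw [← Finset.card_univ]
      calc (Finset.univ : Finset F).card ≤ ({0, 1} : Finset F).card := by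
            apply Finset.card_le_card
            intro x _
            by_cases hx : x = 0
            · simp [hx]
            · simp [hcon x hx]
        _ ≤ 2 := Finset.card_le_two
    omega
  let t0 := T b0 hb00
  let L : Subgroup ↥(Sz F (2 ^ (m + 1))) := Subgroup.centralizer {t0}
  have hLiff : ∀ x, x ∈ L ↔ ∀ i j, i ≠ j → mt x i j = 0 := by
    intro x
    rw [Subgroup.mem_centralizer_singleton_iff]
    constructor
    · intro h
      apply diag_of_comm (inj_diag hF hb00 hb01)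
      rw [← hTm b0 hb00, ← mt_mul, ← mt_mul]
      exact congrArg mt h
    · intro h
      obtain ⟨h1, h2⟩ := tM_of_diag (hmem x) h
      apply mt_inj
      rw [mt_mul, mt_mul, h2, hTm, tM, Matrix.diagonal_mul_diagonal, Matrix.diagonal_mul_diagonal]
      congr 1; funext i; ring
  -- diagonal nontrivial elements
  have hdiag : ∀ x, x ∈ L → x ≠ 1 → ∃ (b : F) (hb : b ≠ 0), b ≠ 1 ∧ x = T b hb := by
    intro x hx hx1
    obtain ⟨h1, h2⟩ := tM_of_diag (hmem x) ((hLiff x).1 hx)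
    refine ⟨mt x 1 1, h1, ?_, mt_inj h2⟩
    intro h3
    apply hx1
    apply mt_inj
    rw [h2, h3, mt_one, tM, ← Matrix.diagonal_one]
    congr 1; funext i; fin_cases i <;> simp
  have hcomm : ∀ x z, z ∈ L → z ≠ 1 → x * z = z * x → x ∈ L := by
    intro x z hz hz1 hxz
    obtain ⟨b, hb, hb1, rfl⟩ := hdiag z hz hz1
    rw [hLiff]
    apply diag_of_comm (inj_diag hF hb hb1)
    rw [← hTm b hb, ← mt_mul, ← mt_mul]
    exact congrArg mt hxz
  have ht01 : t0 ≠ 1 := by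
    intro h
    have h1 := congrFun (congrFun (congrArg mt h) 1) 1
    rw [hTm, mt_one] at h1
    simp at h1
    exact hb01 h1
  have hLcomm : ∀ x y, x ∈ L → y ∈ L → x * y = y * x := by
    intro x y hx hy
    obtain ⟨_, h2⟩ := tM_of_diag (hmem x) ((hLiff x).1 hx)
    obtain ⟨_, h3⟩ := tM_of_diag (hmem y) ((hLiff y).1 hy)
    apply mt_inj
    rw [mt_mul, mt_mul, h2, h3, tM, tM, Matrix.diagonal_mul_diagonal, Matrix.diagonal_mul_diagonal]
    congr 1; funext i; ring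
  have hsub : ∀ g : ↥(Sz F (2 ^ (m + 1))), g * t0 * g⁻¹ ∈ L → g ∈ Subgroup.normalizer (L : Set ↥(Sz F (2 ^ (m + 1)))) := by
    intro g hg
    rw [Subgroup.mem_normalizer_iff]
    have hg1 : g * t0 * g⁻¹ ≠ 1 := by
      intro h
      apply ht01
      have := congrArg (fun x => g⁻¹ * x * g) h
      simpa [mul_assoc] using this
    intro x
    constructor
    · intro hx
      apply hcomm _ _ hg hg1
      have hx' : x * t0 = t0 * x := Subgroup.mem_centralizer_singleton_iff.1 hx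
      calc g * x * g⁻¹ * (g * t0 * g⁻¹) = g * (x * t0) * g⁻¹ := by group
        _ = g * t0 * g⁻¹ * (g * x * g⁻¹) := by rw [hx']; group
    · intro hx
      have := hLcomm _ _ hx hg
      rw [Subgroup.mem_centralizer_singleton_iff]
      have h2 := congrArg (fun y => g⁻¹ * y * g) this
      simpa [mul_assoc] using h2
  have hsub' : ∀ g : ↥(Sz F (2 ^ (m + 1))), g ∈ Subgroup.normalizer (L : Set ↥(Sz F (2 ^ (m + 1)))) → g * t0 * g⁻¹ ∈ L := by
    intro g hg
    rw [Subgroup.mem_normalizer_iff] at hg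
    exact (hg t0).1 (Subgroup.mem_centralizer_singleton_iff.2 rfl)
  apply CfsgLib.NilCover.no_nilpotent_minimal_cover t0 L (Subgroup.normalizer (L : Set ↥(Sz F (2 ^ (m + 1))))) (Bor (2 ^ (m + 1)))
  · intro x hx
    have := (hLiff x).1 hx
    exact ⟨this 1 0 (by decide), this 2 0 (by decide), this 3 0 (by decide)⟩
  · intro htop
    have : (⟨JU, hJmem⟩ : ↥(Sz F (2 ^ (m + 1)))) ∈ Bor (F := F) (2 ^ (m + 1)) := by rw [htop]; trivial
    have h3 : mt (⟨JU, hJmem⟩ : ↥(Sz F (2 ^ (m + 1)))) 3 0 = 0 := this.2.2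
    have h4 : mt (⟨JU, hJmem⟩ : ↥(Sz F (2 ^ (m + 1)))) 3 0 = 1 := by
      change (Jmat : Matrix (Fin 4) (Fin 4) F) 3 0 = 1
      simp [Jmat]
    rw [h3] at h4
    exact zero_ne_one h4
  · intro A hAn htA
    obtain ⟨z, hzA, hz1, hzc⟩ := CfsgLib.NilCover.exists_central hAn htA ht01
    have hzL : z ∈ L := Subgroup.mem_centralizer_singleton_iff.2 (hzc t0 htA)
    intro a ha
    exact hcomm a z hzL hz1 (hzc a ha).symm
  · exact hsub
  · -- cardinalities
    have h1 : Nat.card ↥(Subgroup.normalizer (L : Set ↥(Sz F (2 ^ (m + 1))))) ≤ 4 * (Fintype.card F - 1) := by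
      -- for g in the normaliser, pick j with g 1 j ≠ 0
      have hrow : ∀ g : ↥(Subgroup.normalizer (L : Set ↥(Sz F (2 ^ (m + 1))))), ∃ j, mt g.1 1 j ≠ 0 := by
        intro g
        by_contra hcon
        push Not at hcon
        have h : mt g.1 * mt g.1⁻¹ = 1 := by rw [← mt_mul, mul_inv_cancel, mt_one]
        have e1 := congrFun (congrFun h 1) 1
        simp [Matrix.mul_apply, hcon] at e1
      choose j hj using hrow
      have hval : ∀ g : ↥(Subgroup.normalizer (L : Set ↥(Sz F (2 ^ (m + 1))))),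
          ∃ (b : F) (hb : b ≠ 0), g.1 * t0 * g.1⁻¹ = T b hb ∧
            b = (![b0 ^ (2 ^ (m + 1) + 1), b0, b0⁻¹, (b0 ^ (2 ^ (m + 1) + 1))⁻¹] : Fin 4 → F) (j g) := by
        intro g
        have hg := hsub' g.1 g.2
        have hg1 : g.1 * t0 * g.1⁻¹ ≠ 1 := by
          intro h
          apply ht01
          have := congrArg (fun x => g.1⁻¹ * x * g.1) h
          simpa [mul_assoc] using this
        obtain ⟨b, hb, hb1, hgb⟩ := hdiag _ hg hg1
        refine ⟨b, hb, hgb, ?_⟩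
        have h5 : g.1 * t0 = T b hb * g.1 := by rw [← hgb]; group
        have h6 := congrFun (congrFun (congrArg mt h5) 1) (j g)
        rw [mt_mul, mt_mul, hTm, hTm, Matrix.mul_diagonal, Matrix.diagonal_mul] at h6
        have h7 : (![b ^ (2 ^ (m + 1) + 1), b, b⁻¹, (b ^ (2 ^ (m + 1) + 1))⁻¹] : Fin 4 → F) 1 = b := rfl
        rw [h7, mul_comm] at h6
        exact (mul_right_cancel₀ (hj g) h6).symm
      let f : ↥(Subgroup.normalizer (L : Set ↥(Sz F (2 ^ (m + 1))))) → Fin 4 × Fˣ := fun g => (j g, Units.mk0 _ (hj g))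
      have hf : Function.Injective f := by
        intro g h hgh
        have e1 : j g = j h := congrArg Prod.fst hgh
        have e2 : mt g.1 1 (j g) = mt h.1 1 (j h) := congrArg (fun x : Fin 4 × Fˣ => (x.2 : F)) hgh
        obtain ⟨b, hb, hgb, hbj⟩ := hval g
        obtain ⟨c, hc, hhc, hcj⟩ := hval h
        have hbc : b = c := by rw [hbj, hcj, e1]
        subst hbc
        have h8 : g.1 * t0 * g.1⁻¹ = h.1 * t0 * h.1⁻¹ := by rw [hgb, hhc]
        have h9 : h.1⁻¹ * g.1 ∈ L := by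
          rw [Subgroup.mem_centralizer_singleton_iff]
          have := congrArg (fun x => h.1⁻¹ * x * g.1) h8
          simpa [mul_assoc] using this
        obtain ⟨hd1, hd2⟩ := tM_of_diag (hmem _) ((hLiff _).1 h9)
        set w := mt (h.1⁻¹ * g.1) 1 1 with hw
        have h10 : mt g.1 = mt h.1 * tM (2 ^ (m + 1)) w := by
          rw [← hd2, ← mt_mul, mul_inv_cancel_left]
        have h11 := congrFun (congrFun h10 1) (j g)
        rw [tM, Matrix.mul_diagonal, e2, e1] at h11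
        have h12 : (![w ^ (2 ^ (m + 1) + 1), w, w⁻¹, (w ^ (2 ^ (m + 1) + 1))⁻¹] : Fin 4 → F) (j h) = 1 := by
          have := hj h
          exact (mul_left_cancel₀ this (by rw [mul_one]; exact h11)).symm
        have h13 := ne_one_diag hF hd1 (j h) h12
        apply Subtype.ext
        apply mt_inj
        rw [h10, h13, tM]
        have : (Matrix.diagonal ![(1:F) ^ (2 ^ (m + 1) + 1), 1, 1⁻¹, (1 ^ (2 ^ (m + 1) + 1))⁻¹]) = (1 : Matrix (Fin 4) (Fin 4) F) := by
          rw [← Matrix.diagonal_one]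
          congr 1; funext i; fin_cases i <;> simp
        rw [this, mul_one]
      have := Nat.card_le_card_of_injective f hf
      rwa [Nat.card_prod, Nat.card_eq_fintype_card (α := Fin 4), Fintype.card_fin, Nat.card_eq_fintype_card (α := Fˣ), Fintype.card_units] at this
    have h2 : Fintype.card F * (Fintype.card F - 1) ≤ Nat.card ↥(Bor (F := F) (2 ^ (m + 1))) := by
      have hent : ∀ (y b : F) (hb : b ≠ 0), mt ((⟨zU (2 ^ (m + 1)) y, hzmem y⟩ : ↥(Sz F (2 ^ (m + 1)))) * T b hb) =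
          zM (2 ^ (m + 1)) y * tM (2 ^ (m + 1)) b := fun y b hb => rfl
      have hB : ∀ (y b : F) (hb : b ≠ 0), ((⟨zU (2 ^ (m + 1)) y, hzmem y⟩ : ↥(Sz F (2 ^ (m + 1)))) * T b hb) ∈ Bor (F := F) (2 ^ (m + 1)) := by
        intro y b hb
        refine ⟨?_, ?_, ?_⟩ <;>
        · rw [hent, tM, Matrix.mul_diagonal]
          simp [zM]
      let f : F × Fˣ → ↥(Bor (F := F) (2 ^ (m + 1))) := fun p => ⟨_, hB p.1 p.2 p.2.ne_zero⟩
      have hf : Function.Injective f := by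
        rintro ⟨y, b⟩ ⟨y', b'⟩ h
        have h1 : zM (2 ^ (m + 1)) y * tM (2 ^ (m + 1)) (b : F) = zM (2 ^ (m + 1)) y' * tM (2 ^ (m + 1)) (b' : F) :=
          congrArg (fun x => mt (Subtype.val x)) h
        have e1 := congrFun (congrFun h1 1) 1
        have e2 := congrFun (congrFun h1 0) 2
        rw [tM, tM, Matrix.mul_diagonal, Matrix.mul_diagonal] at e1 e2
        simp [zM] at e1 e2
        have hbb : b = b' := Units.ext e1
        subst hbb
        simp at e2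
        rw [e2]
      have := Nat.card_le_card_of_injective f hf
      rwa [Nat.card_prod, Nat.card_eq_fintype_card (α := F), Nat.card_eq_fintype_card (α := Fˣ), Fintype.card_units] at this
    have h3 : 4 * (Fintype.card F - 1) < Fintype.card F * (Fintype.card F - 1) :=
      Nat.mul_lt_mul_of_pos_right (by omega) (by omega)
    omega

end Cfsg.Agent.S3893
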