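import Cfsg.Statements.S4399
import Mathlib
import Cfsg.Agent.LibMaxClass3
import Cfsg.Agent.LibMaxClassH12
import Cfsg.Agent.LibPCyc2
import Cfsg.Agent.LibH7Basic
import Cfsg.Agent.EqBase
set_option autoImplicit false
open Cfsg

namespace Cfsg.Agent.S4399

theorem inv_unique {C : Type*} [Group C] [Finite C] [IsCyclic C] {h k : C} (hh : h ^ 2 = 1) (hk : k ^ 2 = 1)
    (h1 : h ≠ 1) (k1 : k ≠ 1) : h = k := by
  classical
  haveI := Fintype.ofFinite C
  by_contra hne
  have h3 := IsCyclic.card_pow_eq_one_le (α := C) (n := 2) (by norm_num)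
  have h4 : ({1, h, k} : Finset C) ⊆ Finset.univ.filter (fun a : C => a ^ 2 = 1) := by
    intro y hy
    rw [Finset.mem_filter]
    refine ⟨Finset.mem_univ _, ?_⟩
    simp only [Finset.mem_insert, Finset.mem_singleton] at hy
    rcases hy with rfl | rfl | rfl
    · exact one_pow 2
    · exact hh
    · exact hk
  have h5 := Finset.card_le_card h4
  rw [Finset.card_insert_of_notMem (by simp [Ne.symm h1, Ne.symm k1]), Finset.card_insert_of_notMem (by simpa using hne),
    Finset.card_singleton] at h5
  omega

/-- Let S be a finite 2-group whose commutator quotient S/[S,S] is a Klein four-group (order 4 and exponent 2). Then S itself has order 4, or S is dihedral of order at least 8, semidihedral of order at least 16 (order 2^(k+4) with an element a of order 2^(k+3) and an involution b with b a b⁻¹ = a^(2^(k+2)−1)), or generalized quaternion of order at least 8. -/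
theorem result {S : Type*} [Group S] [Finite S] (h2 : IsPGroup 2 S) (hab : Nat.card (Abelianization S) = 4)
    (hexp : ∀ x : Abelianization S, x ^ 2 = 1) :
    Nat.card S = 4 ∨
    ((∃ k : ℕ, Nonempty (S ≃* DihedralGroup (2 ^ (k + 2)))) ∨
      (∃ k : ℕ, Nat.card S = 2 ^ (k + 4) ∧ ∃ a b : S, orderOf a = 2 ^ (k + 3) ∧ orderOf b = 2 ∧ b * a * b⁻¹ = a ^ (2 ^ (k + 2) - 1)) ∨
      (∃ k : ℕ, Nonempty (S ≃* QuaternionGroup (2 ^ (k + 1))))) := by
  classical
  haveI : Fact (Nat.Prime 2) := ⟨Nat.prime_two⟩
  have hi : (commutator S).index = 4 := hab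
  obtain ⟨n, hn⟩ := IsPGroup.iff_card.mp h2
  have h4 : 4 ∣ 2 ^ n := by
    rw [← hn, ← hi]; exact Subgroup.index_dvd_card _
  have hn2 : 2 ≤ n := by
    by_contra hlt
    have : n = 0 ∨ n = 1 := by omega
    rcases this with rfl | rfl <;> norm_num at h4
  rcases Nat.eq_or_lt_of_le hn2 with h | h3
  · left
    rw [hn, ← h]; norm_num
  right
  obtain ⟨c, hc⟩ := CfsgLib.MaxClass.exists_cyclic n S hn h3 hi
  have hcard := (Subgroup.zpowers c).card_mul_index
  rw [hc, Nat.card_zpowers, hn] at hcard
  haveI hCn : (Subgroup.zpowers c).Normal := Subgroup.normal_of_index_eq_two hc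
  by_cases hx : ∃ x : S, orderOf x = 2 ∧ x ∉ Subgroup.zpowers c
  · obtain ⟨x, hx2, hxc⟩ := hx
    have hge := CfsgLib.MaxClassH12.four_le_card_centralizer h2 (by rw [hn]; exact Nat.le_of_dvd (by positivity) h4) x
    have hsup := CfsgLib.MaxClass.sup_zpowers_of_index_two hc hxc
    have hZ := CfsgLib.MaxClass.card_center h3 hn hi
    have hle : Subgroup.centralizer ({x} : Set S) ⊓ Subgroup.zpowers c ≤ Subgroup.center S := by
      rintro y ⟨hy1, hy2⟩
      replace hy1 := Subgroup.mem_centralizer_singleton_iff.mp hy1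
      have h5 : Subgroup.zpowers c ⊔ Subgroup.zpowers x ≤ Subgroup.centralizer ({y} : Set S) := by
        apply sup_le
        · intro z hz
          rw [Subgroup.mem_centralizer_singleton_iff]
          exact CfsgLib.MaxClass.zpowers_comm c z hz y hy2
        · rw [Subgroup.zpowers_le, Subgroup.mem_centralizer_singleton_iff]
          exact hy1.symm
      rw [hsup] at h5
      rw [Subgroup.mem_center_iff]
      intro z
      have := h5 (Subgroup.mem_top z)
      rwa [Subgroup.mem_centralizer_singleton_iff] at this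
    have hC4 : Nat.card ↥(Subgroup.centralizer ({x} : Set S)) = 4 := by
      apply le_antisymm _ hge
      have h5 : Nat.card ↥(Subgroup.centralizer ({x} : Set S) ⊓ Subgroup.zpowers c : Subgroup S) ≤ 2 := by
        rw [← hZ]
        exact Nat.le_of_dvd Nat.card_pos (Subgroup.card_dvd_of_le hle)
      have h6 : (Subgroup.zpowers c).relIndex (Subgroup.centralizer ({x} : Set S)) ∣ 2 := by
        rw [← hc]; exact Subgroup.relIndex_dvd_index_of_normal _ _
      have h7 := CfsgLib.H7.card_mul_relIndex (inf_le_left : Subgroup.centralizer ({x} : Set S) ⊓ Subgroup.zpowers c ≤ _)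
      rw [Subgroup.inf_relIndex_left] at h7
      have h8 := Nat.le_of_dvd (by norm_num) h6
      nlinarith
    rcases CfsgLib.MaxClassH12.classify h2 x hx2 hC4 with ⟨m, ⟨e⟩⟩ | ⟨m, hm3, hmc, a, b, ha, hb, hab'⟩ | h
    · left
      have h5 : Nat.card S = 2 * m := by rw [Nat.card_congr e.toEquiv, DihedralGroup.nat_card]
      rw [hn] at h5
      obtain ⟨j, rfl⟩ : ∃ j, n = j + 3 := ⟨n - 3, by omega⟩
      refine ⟨j, ?_⟩
      have h6 : m = 2 ^ (j + 2) := by
        have : 2 ^ (j + 3) = 2 * 2 ^ (j + 2) := by ring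
        omega
      rw [← h6]
      exact ⟨e⟩
    · right; left
      obtain ⟨j, rfl⟩ : ∃ j, m = j + 3 := ⟨m - 3, by omega⟩
      exact ⟨j, hmc, a, b, ha, hb, hab'⟩
    · exfalso
      rw [hn] at h
      have : 2 ^ n = 2 ^ 2 := by rw [h]; norm_num
      have := Nat.pow_right_injective (le_refl 2) this
      omega
  · right; right
    push Not at hx
    have huniq : ∀ H K : Subgroup S, Nat.card H = 2 → Nat.card K = 2 → H = K := by
      have key : ∀ H : Subgroup S, Nat.card H = 2 → H ≤ Subgroup.zpowers c := by
        intro H hH y hy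
        by_cases hy1 : y = 1
        · rw [hy1]; exact one_mem _
        · apply hx
          have h5 : orderOf (⟨y, hy⟩ : H) ∣ 2 := by rw [← hH]; exact orderOf_dvd_natCard _
          rcases (Nat.dvd_prime Nat.prime_two).mp h5 with h6 | h6
          · rw [orderOf_eq_one_iff] at h6
            exact absurd (congrArg Subtype.val h6) hy1
          · rw [← Subgroup.orderOf_coe] at h6
            exact h6
      intro H K hH hK
      have h5 := key H hH
      have h6 := key K hK
      have ex : ∀ H : Subgroup S, Nat.card H = 2 → ∃ h ∈ H, h ≠ 1 ∧ h ^ 2 = 1 ∧ H = Subgroup.zpowers h := by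
        intro H hH
        haveI : Nontrivial H := (Finite.one_lt_card_iff_nontrivial).mp (by omega)
        obtain ⟨h, hh⟩ := exists_ne (1 : H)
        have e1 : (h : S) ^ 2 = 1 := by
          have := pow_card_eq_one' (x := h)
          rw [hH] at this
          exact congrArg Subtype.val this
        refine ⟨h, h.2, fun e => hh (Subtype.ext e), e1, ?_⟩
        symm
        apply Subgroup.eq_of_le_of_card_ge ((Subgroup.zpowers_le).mpr h.2)
        rw [hH, Nat.card_zpowers, orderOf_eq_prime e1 (fun e => hh (Subtype.ext e))]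
      obtain ⟨h, hh, h1, h2', h3'⟩ := ex H hH
      obtain ⟨k, hk, k1, k2', k3'⟩ := ex K hK
      have e := inv_unique (C := Subgroup.zpowers c) (h := ⟨h, h5 hh⟩) (k := ⟨k, h6 hk⟩) (Subtype.ext h2') (Subtype.ext k2')
        (fun e => h1 (congrArg Subtype.val e)) (fun e => k1 (congrArg Subtype.val e))
      rw [h3', k3', show h = k from congrArg Subtype.val e]
    rcases CfsgLib.PCyc.cyclic_or_quaternion h2 huniq with hcyc | ⟨m, ⟨e⟩⟩
    · exfalso
      have h5 : commutator S = ⊥ := by
        rw [eq_bot_iff, commutator_def, Subgroup.commutator_le]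
        intro a _ b _
        rw [Subgroup.mem_bot, commutatorElement_eq_one_iff_mul_comm]
        obtain ⟨g, hg⟩ := hcyc.exists_generator
        obtain ⟨i, rfl⟩ := hg a
        obtain ⟨j, rfl⟩ := hg b
        simp only [← zpow_add, add_comm]
      rw [h5, Subgroup.index_bot, hn] at hi
      have : 2 ^ n = 2 ^ 2 := by rw [hi]; norm_num
      have := Nat.pow_right_injective (le_refl 2) this
      omega
    · have h5 : Nat.card S = 4 * 2 ^ m := by
        rw [Nat.card_congr e.toEquiv, Nat.card_eq_fintype_card, QuaternionGroup.card]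
      have h6 : m ≠ 0 := by
        rintro rfl
        rw [hn] at h5
        have : 2 ^ n = 2 ^ 2 := by rw [h5]; norm_num
        have := Nat.pow_right_injective (le_refl 2) this
        omega
      obtain ⟨j, rfl⟩ : ∃ j, m = j + 1 := ⟨m - 1, by omega⟩
      exact ⟨j, ⟨e⟩⟩

end Cfsg.Agent.S4399
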