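import Cfsg.Statements.S3919
import Cfsg.Agent.EqBase
import Cfsg.Agent.LibSC11a
import Cfsg.Agent.LibSC11h
import Cfsg.Agent.S4399
import Cfsg.Agent.S0016
import Cfsg.Agent.S0112
-- import your own Cfsg.Agent.* helpers here

set_option autoImplicit false
open Cfsg

namespace Cfsg.Agent.S3919

/-- Say that a group has self-centralizing non-cyclic subgroups when every non-cyclic subgroup H satisfies C_G(H) ≤ H. A finite non-abelian 2-group G of order 2^n has self-centralizing non-cyclic subgroups if and only if G has nilpotency class n − 1 (that is, G is dihedral, semidihedral or generalized quaternion). -/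
theorem result {G : Type*} [Group G] [Finite G] (hna : ¬ IsMulCommutative G) (n : ℕ) (hG : Nat.card G = 2 ^ n) :
    (∀ H : Subgroup G, ¬ IsCyclic ↥H → Subgroup.centralizer (H : Set G) ≤ H) ↔ (⊤ : Subgroup G).lowerCentralSeries (n - 2) ≠ ⊥ := by
  haveI : Fact (Nat.Prime 2) := ⟨Nat.prime_two⟩
  have hGp : IsPGroup 2 G := IsPGroup.of_card hG
  haveI hnil := hGp.isNilpotent
  have hcommf : (∀ a b : G, a * b = b * a) → False := fun h => hna (isMulCommutative_iff.mpr h)
  have hn3 : 3 ≤ n := by
    by_contra hlt
    apply hcommf
    have h1 : n ≤ 2 := by omega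
    have h2 := IsPGroup.commutative_of_card_eq_prime_sq (p := 2) (G := G)
    interval_cases n
    · rw [pow_zero] at hG
      have := (Nat.card_eq_one_iff_unique.mp hG).1
      intro a b; exact Subsingleton.elim _ _
    · rw [pow_one] at hG
      haveI := isCyclic_of_prime_card hG
      exact isMulCommutative_iff.mp IsCyclic.commutative
    · exact h2 hG
  rw [ne_eq, Subgroup.lowerCentralSeries_eq_bot_iff_nilpotencyClass_le]
  constructor
  · intro h
    -- class is n - 1
    suffices h1 : Group.nilpotencyClass G = n - 1 by rw [h1]; omega
    by_cases hu : ∃ H K : Subgroup G, Nat.card H = 2 ∧ Nat.card K = 2 ∧ H ≠ K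
    · obtain ⟨E, hE, hEn, hEc⟩ := CfsgLib.SC11.exists_E G hGp hu
      exact Cfsg.Agent.S0112.result n hG E hE (le_antisymm (h E hEn) hEc)
    · push Not at hu
      have hnc : ¬ IsCyclic G := fun hc => hcommf (isMulCommutative_iff.mp IsCyclic.commutative)
      rcases Cfsg.Agent.S0016.result 2 hGp hu with h | ⟨-, m, ⟨e⟩⟩
      · exact absurd h hnc
      · rcases m with _ | k
        · rw [pow_zero] at e
          haveI := QuaternionGroup.quaternionGroup_one_isCyclic
          exact absurd (isCyclic_of_surjective e.symm e.symm.surjective) hnc
        · haveI : NeZero (2 ^ (k + 1)) := ⟨by positivity⟩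
          -- the subgroup generated by xa 0
          set q : QuaternionGroup (2 ^ (k + 1)) := QuaternionGroup.xa 0 with hq
          have hqo : orderOf q = 4 := QuaternionGroup.orderOf_xa 0
          have hqc : Subgroup.centralizer ((Subgroup.zpowers q : Subgroup (QuaternionGroup (2 ^ (k + 1)))) : Set (QuaternionGroup (2 ^ (k + 1)))) = Subgroup.zpowers q := by
            apply le_antisymm
            · intro u hu
              have h1 := (Subgroup.mem_centralizer_iff.mp hu) q (Subgroup.mem_zpowers q)
              have hdbl : ∀ i : ZMod (2 * 2 ^ (k + 1)), i + i = 0 → i = 0 ∨ i = ((2 ^ (k + 1) : ℕ) : ZMod (2 * 2 ^ (k + 1))) := by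
                intro i hi
                obtain ⟨j, hj, rfl⟩ : ∃ j : ℕ, j < 2 * 2 ^ (k + 1) ∧ (j : ZMod (2 * 2 ^ (k + 1))) = i := ⟨i.val, ZMod.val_lt i, ZMod.natCast_zmod_val i⟩
                rw [← Nat.cast_add, ZMod.natCast_eq_zero_iff] at hi
                obtain ⟨t, ht⟩ := hi
                have h2 : t < 2 := by
                  by_contra h3
                  push Not at h3
                  have h4 : 2 * 2 ^ (k + 1) * 2 ≤ 2 * 2 ^ (k + 1) * t := Nat.mul_le_mul_left _ h3
                  omega
                interval_cases t
                · left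
                  have : j = 0 := by omega
                  rw [this]; simp
                · right
                  congr 1
                  omega
              have hqq : q * q = QuaternionGroup.a ((2 ^ (k + 1) : ℕ) : ZMod (2 * 2 ^ (k + 1))) := by
                rw [hq, QuaternionGroup.xa_mul_xa]; simp
              rcases u with i | i
              · rw [hq, QuaternionGroup.xa_mul_a, QuaternionGroup.a_mul_xa, QuaternionGroup.xa.injEq] at h1
                rcases hdbl i (by linear_combination h1) with h2 | h2
                · rw [h2, ← QuaternionGroup.one_def]; exact Subgroup.one_mem _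
                · rw [h2, ← hqq]
                  exact Subgroup.mul_mem _ (Subgroup.mem_zpowers q) (Subgroup.mem_zpowers q)
              · rw [hq, QuaternionGroup.xa_mul_xa, QuaternionGroup.xa_mul_xa, QuaternionGroup.a.injEq] at h1
                rcases hdbl i (by linear_combination h1) with h2 | h2
                · rw [h2]; exact Subgroup.mem_zpowers q
                · have h3 : (QuaternionGroup.xa i : QuaternionGroup (2 ^ (k + 1))) = q * (q * q) := by
                    rw [hqq, hq, QuaternionGroup.xa_mul_a, h2, zero_add]
                  rw [h3]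
                  exact Subgroup.mul_mem _ (Subgroup.mem_zpowers q) (Subgroup.mul_mem _ (Subgroup.mem_zpowers q) (Subgroup.mem_zpowers q))
            · intro u hu
              rw [Subgroup.mem_centralizer_iff]
              intro v hv
              obtain ⟨i, rfl⟩ := Subgroup.mem_zpowers_iff.mp hu
              obtain ⟨j, rfl⟩ := Subgroup.mem_zpowers_iff.mp hv
              rw [← zpow_add, ← zpow_add, add_comm i j]
          have hQ : Nat.card (QuaternionGroup (2 ^ (k + 1))) = 2 ^ n := by rw [← hG]; exact Nat.card_congr e.symm.toEquiv
          have h2 := Cfsg.Agent.S0112.result n hQ (Subgroup.zpowers q) (by rw [Nat.card_zpowers, hqo]; norm_num) hqc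
          haveI : Group.IsNilpotent (QuaternionGroup (2 ^ (k + 1))) := (IsPGroup.of_card hQ).isNilpotent
          rw [← h2]
          apply le_antisymm
          · exact Group.nilpotencyClass_le_of_surjective e.symm.toMonoidHom e.symm.surjective
          · exact Group.nilpotencyClass_le_of_surjective e.toMonoidHom e.surjective
  · intro h
    have hle := CfsgLib.SolvMisc.class_le 2 Nat.prime_two n G hG (by omega)
    have hcl : Group.nilpotencyClass G = n - 1 := by omega
    have hidx := CfsgLib.MaxClass.index_of_class_eq n G hG hn3 hcl
    have hk := CfsgLib.MaxClass.klein_of_index hn3 hG hidx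
    have hab : Nat.card (Abelianization G) = 4 := hk.card_four
    have hexp : ∀ x : Abelianization G, x ^ 2 = 1 := by
      intro x
      have h1 : Monoid.exponent (Abelianization G) = 2 := hk.exponent_two
      rw [← h1]
      exact Monoid.pow_exponent_eq_one x
    rcases Cfsg.Agent.S4399.result hGp hab hexp with h4 | ⟨k, ⟨e⟩⟩ | ⟨k, hk1, a, b, ha, hb, hba⟩ | ⟨k, ⟨e⟩⟩
    · exfalso
      rw [hG] at h4
      have : 2 ^ 3 ≤ 2 ^ n := Nat.pow_le_pow_right (by norm_num) hn3
      omega
    · exact CfsgLib.SC11.snc_equiv e.symm (CfsgLib.SC11.snc_dihedral k)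
    · exact CfsgLib.SC11.snc_semi k hk1 a b ha hb hba
    · exact CfsgLib.SC11.snc_equiv e.symm (CfsgLib.SC11.snc_quaternion k)


end Cfsg.Agent.S3919
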