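import Cfsg.Statements.S3921
import Cfsg.Agent.EqBase
import Cfsg.Agent.LibSC11d
import Cfsg.Agent.LibSC11e
import Cfsg.Agent.LibSC11g
import Cfsg.Agent.S2475
-- import your own Cfsg.Agent.* helpers here

set_option autoImplicit false
open Cfsg

namespace Cfsg.Agent.S3921

/-- Say that a group has self-centralizing non-cyclic subgroups when every non-cyclic subgroup H satisfies C_G(H) ≤ H. A non-abelian finite simple group has self-centralizing non-cyclic subgroups if and only if it is isomorphic to PSL₂(q) with q = 4, q = 9, or q a prime of the form 2^k + 1 or 2^k − 1. -/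
theorem result {G : Type*} [Group G] [Finite G] [IsSimpleGroup G] (hna : ¬ IsMulCommutative G) :
    (∀ H : Subgroup G, ¬ IsCyclic ↥H → Subgroup.centralizer (H : Set G) ≤ H) ↔ ∃ (F : Type) (_ : Field F) (_ : Fintype F),
      (Fintype.card F = 4 ∨ Fintype.card F = 9 ∨ ((Fintype.card F).Prime ∧ ∃ k : ℕ, Fintype.card F = 2 ^ k + 1 ∨ Fintype.card F = 2 ^ k - 1)) ∧
      Nonempty (G ≃* Matrix.ProjectiveSpecialLinearGroup (Fin 2) F) := by
  constructor
  · intro h
    obtain ⟨F, iF, iFF, hodd, ⟨e⟩⟩ := CfsgLib.SC11.psl_of_snc hna h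
    refine ⟨F, iF, iFF, ?_, ⟨e⟩⟩
    have h1lt : 1 < Fintype.card F := Fintype.one_lt_card
    by_cases h3 : Fintype.card F = 3
    · right; right
      rw [h3]
      exact ⟨Nat.prime_three, 1, Or.inl rfl⟩
    have h4 : 4 ≤ Fintype.card F := by
      obtain ⟨t, ht⟩ := hodd
      omega
    obtain ⟨p, hpc⟩ := CharP.exists F
    haveI := hpc
    haveI : Fact p.Prime := ⟨CharP.char_is_prime F p⟩
    obtain ⟨f, hfp, hf⟩ := FiniteField.card F p
    have hset := Cfsg.Agent.S2475.result (F := F) p h4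
    set q := Fintype.card F with hq
    have hd : Nat.gcd 2 (q - 1) = 2 := by
      apply Nat.gcd_eq_left
      obtain ⟨t, ht⟩ := hodd
      exact ⟨t, by omega⟩
    rw [hd] at hset
    have hp2 : p ≠ 2 := by
      rintro rfl
      rw [hf] at hodd
      have : Even (2 ^ (f : ℕ)) := (even_two).pow_of_ne_zero f.pos.ne'
      exact (Nat.not_even_iff_odd.mpr hodd) this
    -- elements of even order m have m a power of 2
    have key : ∀ m : ℕ, m ≠ 0 → 2 ∣ m → (m ∣ (q - 1) / 2 ∨ m ∣ (q + 1) / 2) → ∃ i, m = 2 ^ i := by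
      intro m hm0 hm2 hm
      have hmem : m ∈ Set.range (orderOf : Matrix.ProjectiveSpecialLinearGroup (Fin 2) F → ℕ) := by
        rw [hset]
        exact Or.inr hm
      obtain ⟨g, hg⟩ := hmem
      set g' : G := e.symm g with hg'
      have hgo : orderOf g' = m := by rw [hg', e.symm.orderOf_eq, hg]
      obtain ⟨c, hc⟩ := hm2
      have hc0 : c ≠ 0 := by rintro rfl; exact hm0 hc
      have hzo : orderOf (g' ^ c) = 2 := by
        rw [orderOf_pow_of_dvd hc0 (by rw [hgo, hc]; exact dvd_mul_left _ _), hgo, hc, Nat.mul_div_cancel _ (Nat.pos_of_ne_zero hc0)]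
      have hgC : g' ∈ Subgroup.centralizer ({g' ^ c} : Set G) := by
        rw [Subgroup.mem_centralizer_singleton_iff, ← pow_succ, ← pow_succ']
      obtain ⟨j, hj⟩ := (CfsgLib.SC11.cent_two hna h hzo) ⟨g', hgC⟩
      have hj' : g' ^ (2 ^ j) = 1 := congrArg Subtype.val hj
      have h5 := orderOf_dvd_of_pow_eq_one hj'
      rw [hgo] at h5
      obtain ⟨i, -, hi⟩ := (Nat.dvd_prime_pow Nat.prime_two).mp h5
      exact ⟨i, hi⟩
    have hfin : ∃ k, q = 2 ^ k + 1 ∨ q + 1 = 2 ^ k := by
      obtain ⟨t, ht⟩ := hodd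
      rcases Nat.even_or_odd t with he | ho
      · obtain ⟨i, hi⟩ := key ((q - 1) / 2) (by omega) (by obtain ⟨s, hs⟩ := he; exact ⟨s, by omega⟩) (Or.inl dvd_rfl)
        refine ⟨i + 1, Or.inl ?_⟩
        rw [pow_succ]
        omega
      · obtain ⟨i, hi⟩ := key ((q + 1) / 2) (by omega) (by obtain ⟨s, hs⟩ := ho; exact ⟨s + 1, by omega⟩) (Or.inr dvd_rfl)
        refine ⟨i + 1, Or.inr ?_⟩
        rw [pow_succ]
        omega
    obtain ⟨k, hk⟩ := hfin
    have hk' := hk
    rw [hf] at hk
    rcases CfsgLib.SC11.nt hfp hp2 f.pos.ne' hk with h5 | h5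
    · right; right
      rw [← hf] at h5
      refine ⟨h5, k, ?_⟩
      rcases hk' with h6 | h6
      · exact Or.inl h6
      · right; omega
    · right; left
      rw [hf, h5]
  · rintro ⟨F, iF, iFF, hF, ⟨e⟩⟩
    have h1lt : 1 < Fintype.card F := Fintype.one_lt_card
    obtain ⟨p, hpc⟩ := CharP.exists F
    haveI := hpc
    haveI : Fact p.Prime := ⟨CharP.char_is_prime F p⟩
    obtain ⟨f, hfp, hf⟩ := FiniteField.card F p
    have hpd : p ∣ Fintype.card F := by rw [hf]; exact dvd_pow_self p f.pos.ne'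
    have hsnc : CfsgLib.SC11.SNC (Matrix.ProjectiveSpecialLinearGroup (Fin 2) F) := by
      rcases hF with h4 | h9 | ⟨hpr, k, hk⟩
      · have hp : p = 2 := by
          rw [h4] at hpd
          have : p ∣ 2 ^ 2 := hpd
          exact (Nat.prime_dvd_prime_iff_eq hfp Nat.prime_two).mp (hfp.dvd_of_dvd_pow this)
        apply CfsgLib.SC11.snc_psl (p := p)
        · rw [h4, hp]; norm_num
        · intro h; exact absurd hp h
      · have hp : p = 3 := by
          rw [h9] at hpd
          have : p ∣ 3 ^ 2 := hpd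
          exact (Nat.prime_dvd_prime_iff_eq hfp Nat.prime_three).mp (hfp.dvd_of_dvd_pow this)
        apply CfsgLib.SC11.snc_psl (p := p)
        · rw [h9, hp]; norm_num
        · intro _; exact ⟨3, Or.inl (by rw [h9]; norm_num)⟩
      · have hp : p = Fintype.card F := (Nat.prime_dvd_prime_iff_eq hfp hpr).mp hpd
        apply CfsgLib.SC11.snc_psl (p := p)
        · rw [← hp]; nlinarith [hfp.one_lt]
        · intro _
          refine ⟨k, ?_⟩
          rcases hk with h | h
          · exact Or.inl h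
          · right; omega
    exact CfsgLib.SC11.snc_equiv e.symm hsnc


end Cfsg.Agent.S3921
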