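import Cfsg.Statements.S3946
import Cfsg.Agent.LibFgSplit

set_option autoImplicit false
open Cfsg

namespace Cfsg.Agent.S3946

set_option linter.style.haveILetI false
set_option linter.unusedSectionVars false
set_option linter.unusedVariables false

open CfsgLib.FgSplit

universe u

theorem pow_formula {G : Type u} [Group G] (α : MulAut G) (x : G) (n : ℕ) :
    ((SemidirectProduct.inl x * SemidirectProduct.inr α : SemidirectProduct G (MulAut G) (MonoidHom.id _))) ^ n
      = SemidirectProduct.inl (((List.range n).map (fun i : ℕ => (α ^ i) x)).prod) * SemidirectProduct.inr (α ^ n) := by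
  induction n with
  | zero => simp
  | succ n ih =>
    rw [pow_succ, ih, List.range_succ, List.map_append, List.prod_append, pow_succ]
    rw [map_mul SemidirectProduct.inl, map_mul SemidirectProduct.inr]
    have h1 : (SemidirectProduct.inr (α ^ n) : SemidirectProduct G (MulAut G) (MonoidHom.id _)) * SemidirectProduct.inl x
        = SemidirectProduct.inl ((α ^ n) x) * SemidirectProduct.inr (α ^ n) := by
      have h2 := SemidirectProduct.inl_aut (φ := MonoidHom.id (MulAut G)) (α ^ n) x
      rw [MonoidHom.id_apply] at h2
      rw [h2]
      simp [mul_assoc]
    calc _ = SemidirectProduct.inl ((List.range n).map (fun i : ℕ => (α ^ i) x)).prod *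
          (SemidirectProduct.inr (α ^ n) * SemidirectProduct.inl x) * SemidirectProduct.inr α := by
            simp only [mul_assoc]
      _ = _ := by rw [h1]; simp only [mul_assoc, List.map_cons, List.map_nil, List.prod_singleton]

/-- Call an automorphism α of order n of a group G splitting when x · α(x) · α²(x) ⋯ α^(n−1)(x) = 1 for every x ∈ G. A finite group admitting a splitting automorphism of prime order is nilpotent (this contains the case of a fixed-point-free automorphism of prime order). -/
theorem result {G : Type*} [Group G] [Finite G] (α : MulAut G) (hp : (orderOf α).Prime)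
    (hsplit : ∀ x : G, (((List.range (orderOf α)).map (fun i : ℕ => (α ^ i) x)).prod = 1)) : Group.IsNilpotent G := by
  set X := SemidirectProduct G (MulAut G) (MonoidHom.id _) with hX
  haveI : Finite X := Finite.of_equiv _ SemidirectProduct.equivProd.symm
  set N : Subgroup X := (SemidirectProduct.inl : G →* X).range with hN
  have hg : Good (orderOf α) N (SemidirectProduct.inr α) := by
    constructor
    · have : N.Normal := by
        rw [hN, SemidirectProduct.range_inl_eq_ker_rightHom]
        infer_instance
      rw [Subgroup.normalizer_eq_top]
      trivial
    · rintro _ ⟨x, rfl⟩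
      rw [pow_formula, hsplit x, pow_orderOf_eq_one, map_one, map_one, mul_one]
  have h := kegel hp _ X N (SemidirectProduct.inr α) rfl hg
  exact Group.nilpotent_of_mulEquiv (MonoidHom.ofInjective (f := (SemidirectProduct.inl : G →* X)) SemidirectProduct.inl_injective).symm

end Cfsg.Agent.S3946
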