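import Cfsg.Statements.S3999
import Cfsg.Agent.LibFgFOT5

set_option autoImplicit false
open Cfsg

namespace Cfsg.Agent.S3999

set_option linter.style.haveILetI false
set_option linter.unusedSectionVars false
set_option linter.unusedVariables false

/-- Let F be a finite Frobenius group (it has a Frobenius complement) and G a finite group with the same order type as F (for every m the same number of elements of order m). Then G is a Frobenius group; moreover G is solvable if and only if F is. -/
theorem result {F G : Type*} [Group F] [Finite F] [Group G] [Finite G] (hF : (∃ C : Subgroup F, Cfsg.IsFrobeniusComplement C)) (hT : (∀ m : ℕ, Nat.card {g : F // orderOf g = m} = Nat.card {h : G // orderOf h = m})) :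
    (∃ C : Subgroup G, Cfsg.IsFrobeniusComplement C) ∧ (Group.IsSolvable G ↔ Group.IsSolvable F) := by
  obtain ⟨H, hH⟩ := hF
  obtain ⟨K, -, hf⟩ := CfsgLib.FgFOT.Frob.of_compl hH
  obtain ⟨e, he⟩ := CfsgLib.FgFOT.exists_equiv hT
  obtain ⟨K1, H1, hg, hK1, hH1⟩ := hf.exists_frob e he
  refine ⟨⟨H1, hg.fc⟩, ?_⟩
  rw [hf.solv_iff, hg.solv_iff]
  constructor
  · exact CfsgLib.FgFOT.solv_of hf hg e he hH1
  · exact CfsgLib.FgFOT.solv_of hg hf e.symm (fun g => by
      have := he (e.symm g)
      rw [Equiv.apply_symm_apply] at this
      exact this.symm) hH1.symm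

end Cfsg.Agent.S3999
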