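import Cfsg.Statements.S4001
import Cfsg.Agent.LibFgTF

set_option autoImplicit false
open Cfsg

namespace Cfsg.Agent.S4001

set_option linter.style.haveILetI false
set_option linter.unusedSectionVars false
set_option linter.unusedVariables false

/-- Let G be a 2-Frobenius group: it has normal subgroups H < K with K a Frobenius group with kernel H and G/H a Frobenius group with kernel K/H. Then G is solvable; K/H has odd order coprime to the order of H and to the order of G/K (it is the image of an odd-order Hall subgroup); G/K is cyclic; and the prime graph of G has exactly two connected components, both complete: for distinct primes p, q dividing the order of G, G has an element of order pq exactly when p and q either both divide the order of K/H or both do not. -/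
theorem result {G : Type*} [Group G] [Finite G] (H K : Subgroup G) [H.Normal] [K.Normal] (hlt : H < K)
    (hK : ∃ C : Subgroup ↥K, Cfsg.IsFrobeniusComplement C ∧ Cfsg.frobeniusKernel C = (H.subgroupOf K : Set ↥K))
    (hGH : ∃ C : Subgroup (G ⧸ H), Cfsg.IsFrobeniusComplement C ∧ Cfsg.frobeniusKernel C = (K.map (QuotientGroup.mk' H) : Set (G ⧸ H))) :
    Group.IsSolvable G ∧ Odd (Nat.card (↥K ⧸ H.subgroupOf K)) ∧
      Nat.Coprime (Nat.card (↥K ⧸ H.subgroupOf K)) (Nat.card ↥H * Nat.card (G ⧸ K)) ∧ IsCyclic (G ⧸ K) ∧
      ∀ p q : ℕ, p.Prime → q.Prime → p ≠ q → p ∣ Nat.card G → q ∣ Nat.card G →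
        ((∃ g : G, orderOf g = p * q) ↔ (p ∣ Nat.card (↥K ⧸ H.subgroupOf K) ↔ q ∣ Nat.card (↥K ⧸ H.subgroupOf K))) := by
  obtain ⟨C1, hC1⟩ := hK
  obtain ⟨C2, hC2⟩ := hGH
  have h := CfsgLib.FgTF.TwoFrob.of inferInstance hlt hC1 hC2
  rw [h.card_n]
  refine ⟨h.solvable, ?_, ?_, ?_, ?_⟩
  · rw [← Nat.not_even_iff_odd, even_iff_two_dvd]
    exact h.odd
  · rw [h.card_C2]
    exact Nat.Coprime.mul_right h.cop1.symm h.cop2
  · have e := (h.f2.compl.symm.QuotientMulEquiv)
    have h2 := h.cyclic_C2
    have h3 : IsCyclic ((G ⧸ H) ⧸ K.map (QuotientGroup.mk' H)) := isCyclic_of_surjective e.symm e.symm.surjective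
    exact isCyclic_of_surjective (QuotientGroup.quotientQuotientEquivQuotient H K hlt.le)
      (QuotientGroup.quotientQuotientEquivQuotient H K hlt.le).surjective
  · intro p q hp hq hpq hpG hqG
    rw [h.card_G] at hpG hqG
    have hp3 : p ∣ Nat.card H ∨ p ∣ Nat.card C1 ∨ p ∣ Nat.card C2 := by
      rcases hp.dvd_mul.mp hpG with h1 | h1
      · exact Or.inl h1
      · exact Or.inr (hp.dvd_mul.mp h1)
    have hq3 : q ∣ Nat.card H ∨ q ∣ Nat.card C1 ∨ q ∣ Nat.card C2 := by
      rcases hq.dvd_mul.mp hqG with h1 | h1
      · exact Or.inl h1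
      · exact Or.inr (hq.dvd_mul.mp h1)
    constructor
    · rintro ⟨g, hg⟩
      constructor
      · intro hpn
        by_contra hqn
        exact h.no_pq hp hq hpn hqn g hg
      · intro hqn
        by_contra hpn
        exact h.no_pq hq hp hqn hpn g (by rw [hg, mul_comm])
    · intro hiff
      by_cases hpn : p ∣ Nat.card C1
      · exact h.exists_pq_n hp hq hpq hpn (hiff.mp hpn)
      · have hqn : ¬ q ∣ Nat.card C1 := fun hh => hpn (hiff.mpr hh)
        have hswap : (∃ g : G, orderOf g = q * p) → ∃ g : G, orderOf g = p * q := by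
          rintro ⟨g, hg⟩
          exact ⟨g, by rw [hg, mul_comm]⟩
        by_cases hpH : p ∣ Nat.card H
        · by_cases hqH : q ∣ Nat.card H
          · exact h.exists_pq_H hp hq hpq hpH hqH
          · have hqC : q ∣ Nat.card C2 := (hq3.resolve_left hqH).resolve_left hqn
            exact h.exists_pq_mix hp hq hpH hqC hqH
        · have hpC : p ∣ Nat.card C2 := (hp3.resolve_left hpH).resolve_left hpn
          by_cases hqH : q ∣ Nat.card H
          · exact hswap (h.exists_pq_mix hq hp hqH hpC hpH)
          · have hqC : q ∣ Nat.card C2 := (hq3.resolve_left hqH).resolve_left hqn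
            exact h.exists_pq_C2 hp hq hpq hpC hqC

end Cfsg.Agent.S4001
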