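import Cfsg.Statements.S4018
import Cfsg.Agent.LibFriend
import Cfsg.Agent.LibFgBas

set_option autoImplicit false
open Cfsg

namespace Cfsg.Agent.S4018

set_option linter.style.haveILetI false
set_option linter.unusedSectionVars false
set_option linter.unusedVariables false

open Subgroup

universe u

theorem four {G : Type u} [Group G] [Finite G] {T : Subgroup G} (hT : Nat.card T = 4) {a b c : G}
    (ha : a ∈ T) (hb : b ∈ T) (hc : c ∈ T) (ha1 : a ≠ 1) (hb1 : b ≠ 1) (hc1 : c ≠ 1) (hab : a ≠ b) (hac : a ≠ c)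
    (hbc : b ≠ c) {x : G} (hx : x ∈ T) : x = 1 ∨ x = a ∨ x = b ∨ x = c := by
  classical
  haveI := Fintype.ofFinite G
  have h1 : ({1, a, b, c} : Finset G) ⊆ Finset.univ.filter (fun y => y ∈ T) := by
    intro y hy
    simp only [Finset.mem_insert, Finset.mem_singleton] at hy
    simp only [Finset.mem_filter, Finset.mem_univ, true_and]
    rcases hy with rfl | rfl | rfl | rfl
    · exact one_mem _
    · exact ha
    · exact hb
    · exact hc
  have h2 : (Finset.univ.filter (fun y => y ∈ T)).card = 4 := by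
    rw [← hT, Nat.card_eq_fintype_card, Fintype.card_subtype]
  have h3 : ({1, a, b, c} : Finset G).card = 4 := by
    rw [Finset.card_insert_of_notMem, Finset.card_insert_of_notMem, Finset.card_pair hbc]
    · simp [hab, hac]
    · simp [Ne.symm ha1, Ne.symm hb1, Ne.symm hc1]
  have h4 := Finset.eq_of_subset_of_card_le h1 (by rw [h2, h3])
  have h5 : x ∈ ({1, a, b, c} : Finset G) := by
    rw [h4]; simp [hx]
  simpa using h5

/-- fusion in a Sylow 2-subgroup of order 4 -/
theorem fusion_four {G : Type u} [Group G] [Finite G] (T : Sylow 2 G) (hT : Nat.card T = 4)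
    (h : ¬ Subgroup.normalizer ((T : Subgroup G) : Set G) ≤ Subgroup.centralizer (T : Set G)) {s s' : G}
    (hs : s ∈ (T : Subgroup G)) (hs' : s' ∈ (T : Subgroup G)) (hs1 : s ≠ 1) (hs1' : s' ≠ 1) :
    ∃ g : G, g * s * g⁻¹ = s' := by
  classical
  obtain ⟨g, hgN, hgC⟩ := SetLike.not_le_iff_exists.mp h
  rw [Subgroup.mem_centralizer_iff] at hgC
  push Not at hgC
  obtain ⟨r, hr, hrg⟩ := hgC
  have hr' : r ∈ (T : Subgroup G) := hr
  have hTab : ∀ a ∈ (T : Subgroup G), ∀ b ∈ (T : Subgroup G), a * b = b * a := by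
    intro a ha b hb
    have hc : IsMulCommutative (T : Subgroup G) := by
      exact IsPGroup.isMulCommutative_of_card_eq_prime_sq (p := 2) (by rw [hT]; norm_num)
    exact congrArg Subtype.val (hc.is_comm.comm (⟨a, ha⟩ : (T : Subgroup G)) ⟨b, hb⟩)
  set f : G → G := fun x => g * x * g⁻¹ with hf
  have hfT : ∀ x ∈ (T : Subgroup G), f x ∈ (T : Subgroup G) := fun x hx => (Subgroup.mem_normalizer_iff.mp hgN x).mp hx
  have hfinj : Function.Injective f := by
    intro a b hab
    simpa [hf] using hab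
  have hf1 : ∀ x, f x = 1 ↔ x = 1 := by
    intro x
    constructor
    · intro h
      apply hfinj
      rw [h]; simp [hf]
    · rintro rfl
      simp [hf]
  -- iterates
  have hit : ∀ n : ℕ, ∀ x, f^[n] x = g ^ n * x * (g ^ n)⁻¹ := by
    intro n
    induction n with
    | zero => intro x; simp
    | succ n ih =>
      intro x
      rw [Function.iterate_succ_apply', ih, hf, pow_succ']
      group
  -- odd iterate is the identity on T
  obtain ⟨a, b, hb, hab⟩ : ∃ a b : ℕ, ¬ 2 ∣ b ∧ orderOf g = 2 ^ a * b :=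
    Nat.exists_eq_pow_mul_and_not_dvd (orderOf_pos g).ne' 2 (by norm_num)
  have hgb : ∀ x ∈ (T : Subgroup G), f^[b] x = x := by
    intro x hx
    have h1 : g ^ b ∈ (T : Subgroup G) := by
      apply CfsgLib.FgBas.mem_of_mem_normalizer T
      · refine ⟨a, ?_⟩
        rw [orderOf_pow_of_dvd (by rintro rfl; simp at hb) ⟨2 ^ a, by rw [hab, mul_comm]⟩, hab]
        exact Nat.mul_div_cancel _ (Nat.pos_of_ne_zero (by rintro rfl; simp at hb))
      · exact Subgroup.pow_mem _ hgN b
    rw [hit, hTab _ h1 _ hx, mul_inv_cancel_right]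
  have hodd : ∀ x ∈ (T : Subgroup G), f (f x) = x → f x = x := by
    intro x hx h2
    obtain ⟨c, hc⟩ : ∃ c, b = 2 * c + 1 := ⟨b / 2, by omega⟩
    have h3 : ∀ c : ℕ, f^[2 * c] x = x := by
      intro c
      induction c with
      | zero => rfl
      | succ c ih =>
        rw [show 2 * (c + 1) = 2 * c + 1 + 1 by ring, Function.iterate_succ_apply, Function.iterate_succ_apply, h2, ih]
    have h4 := hgb x hx
    rw [hc, Function.iterate_succ_apply', h3 c] at h4
    exact h4
  have hA : ∀ x ∈ (T : Subgroup G), x ≠ 1 → f x ≠ x := by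
    intro x hx hx1 hfx
    have hfr : f r ≠ r := by
      intro h5
      apply hrg
      have : g * r = r * g := by
        have h6 : g * r * g⁻¹ = r := h5
        rw [mul_inv_eq_iff_eq_mul] at h6
        exact h6
      exact this.symm
    have hr1 : r ≠ 1 := by
      rintro rfl
      exact hfr ((hf1 1).mpr rfl)
    have hrx : x ≠ r := by
      rintro rfl
      exact hfr hfx
    have hfr1 : f r ≠ 1 := fun h => hr1 ((hf1 r).mp h)
    have hxfr : x ≠ f r := by
      intro h5
      rw [← hfx] at h5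
      exact hrx (hfinj h5)
    rcases four hT hx hr' (hfT r hr') hx1 hr1 hfr1 hrx hxfr (Ne.symm hfr) (hfT _ (hfT r hr')) with h5 | h5 | h5 | h5
    · exact hfr1 ((hf1 _).mp h5)
    · rw [← hfx] at h5
      exact hxfr (hfinj h5).symm
    · exact hfr (hodd r hr' h5)
    · exact hfr (hfinj h5)
  have hss : s ≠ f s := (hA s hs hs1).symm
  have hfs1 : f s ≠ 1 := fun h => hs1 ((hf1 s).mp h)
  have hffs1 : f (f s) ≠ 1 := fun h => hfs1 ((hf1 _).mp h)
  rcases four hT hs (hfT s hs) (hfT _ (hfT s hs)) hs1 hfs1 hffs1 hss (fun h => hss (hodd s hs h.symm).symm)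
    (fun h => hss (hfinj h)) hs' with h5 | h5 | h5 | h5
  · exact absurd h5 hs1'
  · exact ⟨1, by rw [h5]; simp⟩
  · exact ⟨g, h5.symm⟩
  · refine ⟨g * g, ?_⟩
    rw [h5, hf]
    group
/-- the situation of the statement -/
structure Ctx {G : Type u} [Group G] [Finite G] (P : Sylow 3 G) : Prop where
  hs : IsSimpleGroup G
  hab : ∀ x ∈ (P : Subgroup G), ∀ y ∈ (P : Subgroup G), x * y = y * x
  hN : Nat.card (Subgroup.normalizer ((P : Subgroup G) : Set G)) = 4 * Nat.card (P : Subgroup G)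
  hC : Nat.card (Subgroup.centralizer (P : Set G)) = 2 * Nat.card (P : Subgroup G)
  hTI : Cfsg.IsTISubset (Subgroup.centralizer (P : Set G) : Set G)
  heven : ∀ H : Subgroup G, H ≠ ⊤ → 2 ∣ Nat.card H → Nat.card H ∣ 4 * Nat.card (P : Subgroup G)

section
variable {G : Type u} [Group G] [Finite G] {P : Sylow 3 G}

theorem mem_C {c : G} : c ∈ Subgroup.centralizer (P : Set G) ↔ ∀ x ∈ (P : Subgroup G), x * c = c * x :=
  Subgroup.mem_centralizer_iff

theorem sq_ne {x : G} (hx : x ∈ (P : Subgroup G)) (h2 : x ^ 2 = 1) : x = 1 := by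
  obtain ⟨k, hk⟩ := CfsgLib.FgBas.orderOf_eq_pow P.2 hx
  have h1 : orderOf x ∣ 2 := orderOf_dvd_of_pow_eq_one h2
  rw [hk] at h1
  rcases (Nat.dvd_prime Nat.prime_two).mp h1 with h3 | h3
  · rw [h3] at hk
    exact orderOf_eq_one_iff.mp hk
  · exfalso
    have h4 : 2 ∣ 3 ^ k := by rw [h3]
    have := Nat.prime_two.dvd_of_dvd_pow h4
    norm_num at this

theorem Ctx.pos (h : Ctx P) : 0 < Nat.card (P : Subgroup G) := Nat.card_pos

theorem Ctx.not_comm (h : Ctx P) : ¬ ∀ a b : G, a * b = b * a := by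
  intro hc
  have h1 : Subgroup.centralizer (P : Set G) = ⊤ := by
    rw [eq_top_iff]
    intro c _
    exact mem_C.mpr fun x _ => hc x c
  have h2 : Subgroup.normalizer ((P : Subgroup G) : Set G) = ⊤ := by
    rw [eq_top_iff]
    intro c _
    rw [Subgroup.mem_normalizer_iff]
    intro x
    rw [hc c x, mul_inv_cancel_right]
  have h3 := h.hN
  have h4 := h.hC
  rw [h2] at h3
  rw [h1, h3] at h4
  have := h.pos
  omega

theorem Ctx.center (h : Ctx P) {z : G} (hz : ∀ g, g * z = z * g) : z = 1 := by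
  have := h.hs
  rcases (inferInstance : (Subgroup.center G).Normal).eq_bot_or_eq_top with h1 | h1
  · have h2 : z ∈ Subgroup.center G := Subgroup.mem_center_iff.mpr hz
    rwa [h1, Subgroup.mem_bot] at h2
  · exfalso
    apply h.not_comm
    intro a b
    have h2 : b ∈ Subgroup.center G := by rw [h1]; trivial
    exact Subgroup.mem_center_iff.mp h2 a

theorem Ctx.cen_card (h : Ctx P) {z : G} (hz : z ≠ 1) (hz2 : z ^ 2 = 1) :
    Nat.card (Subgroup.centralizer {z}) ∣ 4 * Nat.card (P : Subgroup G) := by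
  apply h.heven
  · intro h1
    apply hz
    apply h.center
    intro g
    have h2 : g ∈ Subgroup.centralizer ({z} : Set G) := by rw [h1]; trivial
    exact (Subgroup.mem_centralizer_singleton_iff.mp h2)
  · have h1 : orderOf z = 2 := orderOf_eq_prime hz2 hz
    have h2 : z ∈ Subgroup.centralizer ({z} : Set G) := Subgroup.mem_centralizer_singleton_iff.mpr rfl
    rw [← h1, ← Nat.card_zpowers]
    exact Subgroup.card_dvd_of_le (by rwa [Subgroup.zpowers_le])

/-- existence of the central involution -/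
theorem Ctx.exists_t (h : Ctx P) : ∃ t : G, t ∈ Subgroup.centralizer (P : Set G) ∧ t ≠ 1 ∧ t ^ 2 = 1 ∧
    (∀ c ∈ Subgroup.centralizer (P : Set G), c ∈ (P : Subgroup G) ∨ ∃ x ∈ (P : Subgroup G), c = t * x) := by
  have h2 : 2 ∣ Nat.card (Subgroup.centralizer (P : Set G)) := by rw [h.hC]; exact dvd_mul_right _ _
  obtain ⟨t, ht⟩ := exists_prime_orderOf_dvd_card' 2 h2
  have htt : (t : G) ^ 2 = 1 := by
    have := pow_orderOf_eq_one t
    rw [ht] at this
    exact congrArg Subtype.val this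
  have ht1 : (t : G) ≠ 1 := by
    intro h1
    have : t = 1 := Subtype.ext h1
    rw [this, orderOf_one] at ht
    norm_num at ht
  refine ⟨t, t.2, ht1, htt, ?_⟩
  have hPC : (P : Subgroup G) ≤ Subgroup.centralizer (P : Set G) := fun x hx => mem_C.mpr fun y hy => h.hab y hy x hx
  have hidx : ((P : Subgroup G).subgroupOf (Subgroup.centralizer (P : Set G))).index = 2 := by
    have h3 := Subgroup.card_mul_index ((P : Subgroup G).subgroupOf (Subgroup.centralizer (P : Set G)))
    rw [Nat.card_congr (Subgroup.subgroupOfEquivOfLe hPC).toEquiv, h.hC, mul_comm 2] at h3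
    exact Nat.eq_of_mul_eq_mul_left h.pos h3
  intro c hc
  by_cases hcP : c ∈ (P : Subgroup G)
  · exact Or.inl hcP
  · right
    refine ⟨(t : G)⁻¹ * c, ?_, by group⟩
    have h3 := (Subgroup.mul_mem_iff_of_index_two hidx (a := t⁻¹) (b := ⟨c, hc⟩)).mpr (by
      constructor
      · intro h4
        exfalso
        apply ht1
        have h5 : (t : G)⁻¹ ∈ (P : Subgroup G) := h4
        exact sq_ne ((inv_mem_iff).mp h5) htt
      · intro h4
        exact absurd h4 hcP)
    exact h3

end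

structure Ctx2 {G : Type u} [Group G] [Finite G] (P : Sylow 3 G) (t : G) : Prop extends Ctx P where
  tC : t ∈ Subgroup.centralizer (P : Set G)
  t1 : t ≠ 1
  t2 : t ^ 2 = 1
  dec : ∀ c ∈ Subgroup.centralizer (P : Set G), c ∈ (P : Subgroup G) ∨ ∃ x ∈ (P : Subgroup G), c = t * x

section
variable {G : Type u} [Group G] [Finite G] {P : Sylow 3 G} {t : G}

theorem Ctx.PC (h : Ctx P) : (P : Subgroup G) ≤ Subgroup.centralizer (P : Set G) :=
  fun x hx => mem_C.mpr fun y hy => h.hab y hy x hx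

theorem Ctx2.comm (h : Ctx2 P t) {a b : G} (ha : a ∈ Subgroup.centralizer (P : Set G))
    (hb : b ∈ Subgroup.centralizer (P : Set G)) : a * b = b * a := by
  rcases h.dec a ha with h1 | ⟨x, hx, rfl⟩
  · exact mem_C.mp hb a h1
  · rcases h.dec b hb with h2 | ⟨y, hy, rfl⟩
    · exact (mem_C.mp ha b h2).symm
    · have h3 := mem_C.mp h.tC x hx
      have h4 := mem_C.mp h.tC y hy
      have h5 := h.hab x hx y hy
      calc t * x * (t * y) = t * (x * t) * y := by group
        _ = t * (t * x) * y := by rw [h3]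
        _ = t * t * (x * y) := by group
        _ = t * t * (y * x) := by rw [h5]
        _ = t * (t * y) * x := by group
        _ = t * (y * t) * x := by rw [h4]
        _ = t * y * (t * x) := by group

theorem Ctx2.uniq (h : Ctx2 P t) {s : G} (hs : s ∈ Subgroup.centralizer (P : Set G)) (h2 : s ^ 2 = 1) (h1 : s ≠ 1) :
    s = t := by
  rcases h.dec s hs with h3 | ⟨x, hx, rfl⟩
  · exact absurd (sq_ne h3 h2) h1
  · have h3 : x ^ 2 = 1 := by
      have h4 : Commute t x := (mem_C.mp h.tC x hx).symm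
      rw [h4.mul_pow, h.t2, one_mul] at h2
      exact h2
    rw [sq_ne hx h3, mul_one]

theorem conj_C {g c : G} (hg : g ∈ Subgroup.normalizer ((P : Subgroup G) : Set G))
    (hc : c ∈ Subgroup.centralizer (P : Set G)) : g * c * g⁻¹ ∈ Subgroup.centralizer (P : Set G) := by
  rw [mem_C] at hc ⊢
  intro x hx
  have h1 := Subgroup.inv_mem _ hg
  have h2 := (Subgroup.mem_normalizer_iff.mp h1 x).mp hx
  rw [inv_inv] at h2
  have h3 := hc _ h2
  calc x * (g * c * g⁻¹) = g * (g⁻¹ * x * g * c) * g⁻¹ := by group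
    _ = g * (c * (g⁻¹ * x * g)) * g⁻¹ := by rw [h3]
    _ = g * c * g⁻¹ * x := by group

theorem Ctx2.tN (h : Ctx2 P t) {g : G} (hg : g ∈ Subgroup.normalizer ((P : Subgroup G) : Set G)) : g * t = t * g := by
  have h1 := conj_C hg h.tC
  have h2 : (g * t * g⁻¹) ^ 2 = 1 := by rw [conj_pow, h.t2]; group
  have h3 : g * t * g⁻¹ ≠ 1 := by
    intro h4
    apply h.t1
    rwa [conj_eq_one_iff] at h4
  have h4 := h.uniq h1 h2 h3
  rwa [mul_inv_eq_iff_eq_mul] at h4

theorem Ctx2.N_eq (h : Ctx2 P t) : Subgroup.normalizer ((P : Subgroup G) : Set G) = Subgroup.centralizer {t} := by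
  apply Subgroup.eq_of_le_of_card_ge
  · intro g hg
    exact Subgroup.mem_centralizer_singleton_iff.mpr (h.tN hg)
  · rw [h.hN]
    exact Nat.le_of_dvd (by have := h.pos; omega) (h.cen_card h.t1 h.t2)

theorem Ctx2.mem_N (h : Ctx2 P t) {g : G} : g ∈ Subgroup.normalizer ((P : Subgroup G) : Set G) ↔ g * t = t * g := by
  rw [h.N_eq]
  exact Subgroup.mem_centralizer_singleton_iff

theorem Ctx2.ti (h : Ctx2 P t) {g x : G} (hx : x ∈ Subgroup.centralizer (P : Set G)) (hx1 : x ≠ 1)
    (hg : g * x * g⁻¹ ∈ Subgroup.centralizer (P : Set G)) : g ∈ Subgroup.normalizer ((P : Subgroup G) : Set G) := by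
  have h1 : g ∈ Subgroup.normalizer (Subgroup.centralizer (P : Set G) : Set G) := by
    by_contra h2
    exact hx1 (h.hTI g h2 x hx hg)
  rw [h.mem_N]
  have h2 := (Subgroup.mem_normalizer_iff.mp h1 t).mp h.tC
  have h3 : (g * t * g⁻¹) ^ 2 = 1 := by rw [conj_pow, h.t2]; group
  have h4 : g * t * g⁻¹ ≠ 1 := by
    intro h4
    apply h.t1
    rwa [conj_eq_one_iff] at h4
  have h5 := h.uniq h2 h3 h4
  rwa [mul_inv_eq_iff_eq_mul] at h5

/-- Sylow 2-subgroups have order 4 -/
theorem Ctx2.card_two (h : Ctx2 P t) (T : Sylow 2 G) : Nat.card (T : Subgroup G) = 4 := by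
  have h4 : 4 ∣ Nat.card (T : Subgroup G) := by
    have h1 : 2 ^ 2 ∣ Nat.card G := by
      have h2 := Subgroup.card_subgroup_dvd_card (Subgroup.normalizer ((P : Subgroup G) : Set G))
      rw [h.hN] at h2
      exact (dvd_mul_right _ _).trans h2
    have := T.pow_dvd_card_of_pow_dvd_card h1
    exact this
  apply Nat.dvd_antisymm _ h4
  have hnt : Nontrivial (T : Subgroup G) := by
    rw [← Finite.one_lt_card_iff_nontrivial]
    have := Nat.le_of_dvd Nat.card_pos h4
    omega
  have hcn := T.2.center_nontrivial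
  obtain ⟨n, hn, hcc⟩ := (T.2.to_subgroup (Subgroup.center (T : Subgroup G))).nontrivial_iff_card.mp hcn
  obtain ⟨z, hz⟩ := exists_prime_orderOf_dvd_card' (G := Subgroup.center (T : Subgroup G)) 2 (by
    rw [hcc]; exact dvd_pow_self 2 hn.ne')
  have hzo : orderOf ((z : (T : Subgroup G)) : G) = 2 := by
    rw [Subgroup.orderOf_coe, Subgroup.orderOf_coe, hz]
  have hz2 : ((z : (T : Subgroup G)) : G) ^ 2 = 1 := orderOf_dvd_iff_pow_eq_one.mp (dvd_of_eq hzo)
  have hz1 : ((z : (T : Subgroup G)) : G) ≠ 1 := by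
    intro h1
    rw [h1, orderOf_one] at hzo
    norm_num at hzo
  have hle : (T : Subgroup G) ≤ Subgroup.centralizer {((z : (T : Subgroup G)) : G)} := by
    intro x hx
    rw [Subgroup.mem_centralizer_singleton_iff]
    exact congrArg Subtype.val (Subgroup.mem_center_iff.mp z.2 ⟨x, hx⟩)
  have h5 := (Subgroup.card_dvd_of_le hle).trans (h.cen_card hz1 hz2)
  obtain ⟨a, ha⟩ := T.2.exists_card_eq
  obtain ⟨b, hb⟩ := P.2.exists_card_eq
  rw [hb] at h5
  have hcop : (Nat.card (T : Subgroup G)).Coprime (3 ^ b) := by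
    rw [ha]
    exact Nat.Coprime.pow _ _ (by norm_num)
  exact hcop.dvd_of_dvd_mul_right h5

theorem Ctx.three_dvd (h : Ctx P) : 3 ∣ Nat.card (P : Subgroup G) := by
  obtain ⟨b, hb⟩ := P.2.exists_card_eq
  rcases Nat.eq_zero_or_pos b with h0 | h0
  · exfalso
    rw [h0, pow_zero] at hb
    have h1 : (P : Subgroup G) = ⊥ := Subgroup.card_eq_one.mp hb
    have h2 := h.hN
    have h3 := h.hC
    have h4 : Subgroup.centralizer (P : Set G) = ⊤ := by
      rw [eq_top_iff]
      intro c _
      rw [mem_C]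
      intro x hx
      rw [h1, Subgroup.mem_bot] at hx
      rw [hx, one_mul, mul_one]
    have h5 : Subgroup.normalizer ((P : Subgroup G) : Set G) = ⊤ := by
      rw [eq_top_iff]
      intro c _
      rw [Subgroup.mem_normalizer_iff]
      intro x
      rw [h1, Subgroup.mem_bot, Subgroup.mem_bot, conj_eq_one_iff]
    rw [h5, hb] at h2
    rw [h4, hb, h2] at h3
    omega
  · rw [hb]; exact dvd_pow_self 3 h0.ne'

theorem Ctx2.fuse (h : Ctx2 P t) (T : Sylow 2 G) {s s' : G}
    (hs : s ∈ (T : Subgroup G)) (hs' : s' ∈ (T : Subgroup G)) (hs1 : s ≠ 1) (hs1' : s' ≠ 1) :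
    ∃ g : G, g * s * g⁻¹ = s' := by
  refine fusion_four T (h.card_two T) ?_ hs hs' hs1 hs1'
  intro hle
  have := h.hs
  have hcompl := MonoidHom.ker_transferSylow_isComplement' T hle
  have h1 := hcompl.card_mul_card
  have h2 := h.card_two T
  rcases (inferInstance : (MonoidHom.transferSylow T hle).ker.Normal).eq_bot_or_eq_top with h3 | h3
  · rw [h3, Subgroup.card_bot, one_mul, h2] at h1
    have h4 := h.three_dvd.trans (Subgroup.card_subgroup_dvd_card (P : Subgroup G))
    rw [← h1] at h4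
    norm_num at h4
  · rw [h3, Subgroup.card_top, h2] at h1
    have : 0 < Nat.card G := Nat.card_pos
    omega

theorem Ctx2.conj_t (h : Ctx2 P t) {z : G} (hz : z ≠ 1) (hz2 : ∃ k, orderOf z = 2 ^ k) : ∃ g : G, g * t * g⁻¹ = z := by
  obtain ⟨T⟩ := (inferInstance : Nonempty (Sylow 2 G))
  obtain ⟨a, ha⟩ := CfsgLib.FgBas.exists_conj_mem T hz2
  obtain ⟨b, hb⟩ := CfsgLib.FgBas.exists_conj_mem T (x := t) ⟨1, by rw [pow_one]; exact orderOf_eq_prime h.t2 h.t1⟩
  obtain ⟨c, hc⟩ := h.fuse T hb ha (by rw [Ne, conj_eq_one_iff]; exact h.t1) (by rw [Ne, conj_eq_one_iff]; exact hz)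
  refine ⟨a⁻¹ * c * b, ?_⟩
  have h1 : z = a⁻¹ * (a * z * a⁻¹) * a := by group
  rw [h1, ← hc]
  group

theorem Ctx2.two_elt (h : Ctx2 P t) {z : G} (hz2 : ∃ k, orderOf z = 2 ^ k) : z ^ 2 = 1 := by
  by_cases hz : z = 1
  · rw [hz, one_pow]
  · obtain ⟨g, rfl⟩ := h.conj_t hz hz2
    rw [conj_pow, h.t2]
    group

end

section
variable {G : Type u} [Group G] [Finite G] {P : Sylow 3 G} {t : G}

theorem Ctx2.P_norm (h : Ctx2 P t) {g x : G} (hg : g ∈ Subgroup.normalizer ((P : Subgroup G) : Set G))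
    (hx : x ∈ (P : Subgroup G)) : g * x * g⁻¹ ∈ (P : Subgroup G) := (Subgroup.mem_normalizer_iff.mp hg x).mp hx

/-- an involution of `N ∖ C` acts without fixed points on `P` -/
theorem Ctx2.fpf (h : Ctx2 P t) {u : G} (huN : u ∈ Subgroup.normalizer ((P : Subgroup G) : Set G))
    (hu2 : u ^ 2 = 1) (huC : u ∉ Subgroup.centralizer (P : Set G)) {x : G} (hx : x ∈ (P : Subgroup G))
    (hxu : x * u = u * x) : x = 1 := by
  by_contra hx1
  have hu1 : u ≠ 1 := by rintro rfl; exact huC (one_mem _)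
  obtain ⟨g, hg⟩ := h.conj_t hu1 ⟨1, by rw [pow_one]; exact orderOf_eq_prime hu2 hu1⟩
  -- `g⁻¹ x g` commutes with `t`
  set y := g⁻¹ * x * g with hy
  have hyt : y * t = t * y := by
    have h1 : t = g⁻¹ * u * g := by rw [← hg]; group
    rw [h1, hy]
    calc g⁻¹ * x * g * (g⁻¹ * u * g) = g⁻¹ * (x * u) * g := by group
      _ = g⁻¹ * (u * x) * g := by rw [hxu]
      _ = g⁻¹ * u * g * (g⁻¹ * x * g) := by group
  have hyN := h.mem_N.mpr hyt
  have hyP : y ∈ (P : Subgroup G) := by
    apply CfsgLib.FgBas.mem_of_mem_normalizer P _ hyN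
    obtain ⟨k, hk⟩ := CfsgLib.FgBas.orderOf_eq_pow P.2 hx
    refine ⟨k, ?_⟩
    rw [← hk, hy]
    have := CfsgLib.FgBas.orderOf_conj g⁻¹ x
    rwa [inv_inv] at this
  have hy1 : y ≠ 1 := by
    intro h1
    apply hx1
    have : x = g * y * g⁻¹ := by rw [hy]; group
    rw [this, h1]; group
  have hgN : g ∈ Subgroup.normalizer ((P : Subgroup G) : Set G) := by
    apply h.ti (h.PC hyP) hy1
    have : g * y * g⁻¹ = x := by rw [hy]; group
    rw [this]
    exact h.PC hx
  apply huC
  rw [← hg]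
  exact conj_C hgN h.tC

theorem Ctx2.inverts (h : Ctx2 P t) {u : G} (huN : u ∈ Subgroup.normalizer ((P : Subgroup G) : Set G))
    (hu2 : u ^ 2 = 1) (huC : u ∉ Subgroup.centralizer (P : Set G)) {c : G}
    (hc : c ∈ Subgroup.centralizer (P : Set G)) : u * c * u⁻¹ = c⁻¹ := by
  have huu : u * u = 1 := by rw [← pow_two]; exact hu2
  have hui : u⁻¹ = u := inv_eq_of_mul_eq_one_left huu
  have key : ∀ x ∈ (P : Subgroup G), u * x * u⁻¹ = x⁻¹ := by
    intro x hx
    have h1 := h.P_norm huN hx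
    have h2 : x * (u * x * u⁻¹) = 1 := by
      apply h.fpf huN hu2 huC (mul_mem hx h1)
      have h3 := h.hab _ hx _ h1
      rw [hui] at h3 ⊢
      calc x * (u * x * u) * u = x * u * x * (u * u) := by group
        _ = x * u * x := by rw [huu, mul_one]
        _ = (u * u) * x * u * x := by rw [huu, one_mul]
        _ = u * (u * x * u * x) := by group
        _ = u * (x * (u * x * u)) := by rw [h3]
    exact (eq_inv_of_mul_eq_one_right h2)
  rcases h.dec c hc with h1 | ⟨x, hx, rfl⟩
  · exact key c h1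
  · have h2 := h.tN huN
    have h3 := mem_C.mp h.tC x hx
    have h4 : t⁻¹ = t := inv_eq_of_mul_eq_one_left (by rw [← pow_two]; exact h.t2)
    calc u * (t * x) * u⁻¹ = (u * t) * x * u⁻¹ := by group
      _ = (t * u) * x * u⁻¹ := by rw [h2]
      _ = t * (u * x * u⁻¹) := by group
      _ = t * x⁻¹ := by rw [key x hx]
      _ = t⁻¹ * x⁻¹ := by rw [h4]
      _ = (x * t)⁻¹ := by group
      _ = (t * x)⁻¹ := by rw [h3]

end

section
variable {G : Type u} [Group G] [Finite G] {P : Sylow 3 G} {t : G}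

theorem Ctx2.CN (h : Ctx2 P t) : Subgroup.centralizer (P : Set G) ≤ Subgroup.normalizer ((P : Subgroup G) : Set G) := by
  intro c hc
  rw [h.mem_N]
  exact h.comm hc h.tC

theorem Ctx2.not_C (h : Ctx2 P t) {n : G} (hn : n ∈ Subgroup.normalizer ((P : Subgroup G) : Set G))
    (hnC : n ∉ Subgroup.centralizer (P : Set G)) : n ^ 2 = 1 ∧ n ≠ 1 := by
  refine ⟨?_, by rintro rfl; exact hnC (one_mem _)⟩
  -- an involution outside `C`
  obtain ⟨S, hS⟩ := Sylow.exists_subgroup_card_pow_prime 2 (n := 2)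
    (G := Subgroup.normalizer ((P : Subgroup G) : Set G)) (by rw [h.hN]; exact dvd_mul_right _ _)
  have hSm : Nat.card (S.map (Subgroup.normalizer ((P : Subgroup G) : Set G)).subtype) = 4 := by
    rw [Subgroup.card_map_of_injective (Subgroup.subtype_injective _), hS]; norm_num
  have hnot : ¬ S.map (Subgroup.normalizer ((P : Subgroup G) : Set G)).subtype ≤ Subgroup.centralizer (P : Set G) := by
    intro hle
    have h1 := Subgroup.card_dvd_of_le hle
    rw [hSm, h.hC] at h1
    obtain ⟨b, hb⟩ := P.2.exists_card_eq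
    rw [hb] at h1
    have h2 : 2 ∣ 3 ^ b := by
      have h3 : 2 * 2 ∣ 2 * 3 ^ b := h1
      exact (Nat.mul_dvd_mul_iff_left (by norm_num)).mp h3
    have := Nat.prime_two.dvd_of_dvd_pow h2
    norm_num at this
  obtain ⟨u, hu, huC⟩ := SetLike.not_le_iff_exists.mp hnot
  have huN : u ∈ Subgroup.normalizer ((P : Subgroup G) : Set G) := Subgroup.map_subtype_le _ hu
  have hu2 : u ^ 2 = 1 := by
    apply h.two_elt
    have hp : IsPGroup 2 (S.map (Subgroup.normalizer ((P : Subgroup G) : Set G)).subtype) :=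
      IsPGroup.of_card (n := 2) (by rw [hSm]; norm_num)
    exact CfsgLib.FgBas.orderOf_eq_pow hp hu
  have hidx : ((Subgroup.centralizer (P : Set G)).subgroupOf (Subgroup.normalizer ((P : Subgroup G) : Set G))).index = 2 := by
    have h3 := Subgroup.card_mul_index ((Subgroup.centralizer (P : Set G)).subgroupOf
      (Subgroup.normalizer ((P : Subgroup G) : Set G)))
    rw [Nat.card_congr (Subgroup.subgroupOfEquivOfLe h.CN).toEquiv, h.hC, h.hN,
      show 4 * Nat.card (P : Subgroup G) = 2 * Nat.card (P : Subgroup G) * 2 by ring] at h3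
    exact Nat.eq_of_mul_eq_mul_left (by have := h.pos; omega) h3
  have hc : u⁻¹ * n ∈ Subgroup.centralizer (P : Set G) := by
    have h3 := (Subgroup.mul_mem_iff_of_index_two hidx (a := ⟨u, huN⟩⁻¹) (b := ⟨n, hn⟩)).mpr (by
      constructor
      · intro h4
        exact absurd ((inv_mem_iff).mp h4) huC
      · intro h4
        exact absurd h4 hnC)
    exact h3
  have h1 := h.inverts huN hu2 huC hc
  have huu : u * u = 1 := by rw [← pow_two]; exact hu2
  calc n ^ 2 = u * (u⁻¹ * n) * u⁻¹ * (u * u) * (u⁻¹ * n) := by rw [pow_two]; group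
    _ = 1 := by rw [h1, huu]; group

/-- the involutions commuting with `t` -/
theorem Ctx2.nbr (h : Ctx2 P t) {z : G} : (z ^ 2 = 1 ∧ z ≠ 1 ∧ z ≠ t ∧ z * t = t * z) ↔
    (z ∈ Subgroup.normalizer ((P : Subgroup G) : Set G) ∧ z ∉ Subgroup.centralizer (P : Set G)) := by
  constructor
  · rintro ⟨h1, h2, h3, h4⟩
    exact ⟨h.mem_N.mpr h4, fun h5 => h3 (h.uniq h5 h1 h2)⟩
  · rintro ⟨h1, h2⟩
    obtain ⟨h3, h4⟩ := h.not_C h1 h2
    exact ⟨h3, h4, fun h5 => h2 (h5 ▸ h.tC), h.mem_N.mp h1⟩

theorem Ctx2.card_nbr (h : Ctx2 P t) [Fintype G] [DecidableEq G] :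
    (Finset.univ.filter (fun z : G => z ^ 2 = 1 ∧ z ≠ 1 ∧ z ≠ t ∧ z * t = t * z)).card = 2 * Nat.card (P : Subgroup G) := by
  classical
  have h1 : Finset.univ.filter (fun z : G => z ^ 2 = 1 ∧ z ≠ 1 ∧ z ≠ t ∧ z * t = t * z)
      = (Finset.univ.filter (fun z : G => z ∈ Subgroup.normalizer ((P : Subgroup G) : Set G))) \
        (Finset.univ.filter (fun z : G => z ∈ Subgroup.centralizer (P : Set G))) := by
    ext z
    simp only [Finset.mem_filter, Finset.mem_univ, true_and, Finset.mem_sdiff]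
    exact h.nbr
  rw [h1, Finset.card_sdiff_of_subset]
  · have h2 : (Finset.univ.filter (fun z : G => z ∈ Subgroup.normalizer ((P : Subgroup G) : Set G))).card
        = 4 * Nat.card (P : Subgroup G) := by
      rw [← h.hN, Nat.card_eq_fintype_card, Fintype.card_subtype]
    have h3 : (Finset.univ.filter (fun z : G => z ∈ Subgroup.centralizer (P : Set G))).card
        = 2 * Nat.card (P : Subgroup G) := by
      rw [← h.hC, Nat.card_eq_fintype_card, Fintype.card_subtype]
    rw [h2, h3]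
    omega
  · intro z hz
    simp only [Finset.mem_filter, Finset.mem_univ, true_and] at hz ⊢
    exact h.CN hz

/-- the friendship relation -/
def Fr (x y z : G) : Prop := z ^ 2 = 1 ∧ z ≠ 1 ∧ z ≠ x ∧ z ≠ y ∧ z * x = x * z ∧ z * y = y * z

theorem Fr.conj {x y z : G} (h : Fr x y z) (g : G) : Fr (g * x * g⁻¹) (g * y * g⁻¹) (g * z * g⁻¹) := by
  obtain ⟨h1, h2, h3, h4, h5, h6⟩ := h
  refine ⟨?_, ?_, ?_, ?_, ?_, ?_⟩
  · rw [conj_pow, h1]; group
  · rwa [Ne, conj_eq_one_iff]
  · intro h7; apply h3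
    simpa using h7
  · intro h7; apply h4
    simpa using h7
  · calc g * z * g⁻¹ * (g * x * g⁻¹) = g * (z * x) * g⁻¹ := by group
      _ = g * (x * z) * g⁻¹ := by rw [h5]
      _ = _ := by group
  · calc g * z * g⁻¹ * (g * y * g⁻¹) = g * (z * y) * g⁻¹ := by group
      _ = g * (y * z) * g⁻¹ := by rw [h6]
      _ = _ := by group

theorem Ctx2.friend (h : Ctx2 P t) {x y : G} (hx1 : x ≠ 1) (hx2 : x ^ 2 = 1) (hy1 : y ≠ 1) (hy2 : y ^ 2 = 1) (hxy : x ≠ y) :
    ∃! z, Fr x y z := by
  have hxx : x * x = 1 := by rw [← pow_two]; exact hx2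
  have hyy : y * y = 1 := by rw [← pow_two]; exact hy2
  have hxi : x⁻¹ = x := inv_eq_of_mul_eq_one_left hxx
  have hyi : y⁻¹ = y := inv_eq_of_mul_eq_one_left hyy
  set w := x * y with hw
  by_cases hcomm : x * y = y * x
  · -- commuting case
    refine ⟨x * y, ⟨?_, ?_, ?_, ?_, ?_, ?_⟩, ?_⟩
    · rw [(show Commute x y from hcomm).mul_pow, hx2, hy2, one_mul]
    · intro h1
      apply hxy
      rw [← hyi]; exact eq_inv_of_mul_eq_one_left h1
    · intro h1; apply hy1; simpa using h1
    · intro h1; apply hx1; simpa using h1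
    · rw [hcomm, mul_assoc, hxx, mul_one, ← mul_assoc, hcomm, mul_assoc, hxx, mul_one]
    · rw [mul_assoc, hyy, mul_one, ← mul_assoc, ← hcomm, mul_assoc, hyy, mul_one]
    · rintro z ⟨h1, h2, h3, h4, h5, h6⟩
      -- the group generated by `x, y, z` is a 2-group
      have hzz : z * z = 1 := by rw [← pow_two]; exact h1
      have hp2 : ∀ a : G, a ≠ 1 → a ^ 2 = 1 → IsPGroup 2 (Subgroup.zpowers a) := by
        intro a ha1 ha2
        exact CfsgLib.FgBas.isPGroup_zpowers (k := 1) (by rw [pow_one]; exact orderOf_eq_prime ha2 ha1)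
      have hcn : ∀ a b : G, a * b = b * a → a ∈ Subgroup.normalizer (Subgroup.zpowers b : Set G) := by
        intro a b hab
        apply CfsgLib.FgBas.mem_normalizer_of_pow (k := 1)
        rw [hab, mul_inv_cancel_right, pow_one]
      have hV : IsPGroup 2 ((Subgroup.zpowers x ⊔ Subgroup.zpowers y) ⊔ Subgroup.zpowers z : Subgroup G) := by
        refine ((hp2 x hx1 hx2).to_sup_of_normal_right' (hp2 y hy1 hy2) ?_).to_sup_of_normal_right' (hp2 z h2 h1) ?_
        · rw [Subgroup.zpowers_le]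
          exact hcn x y hcomm
        · refine sup_le ?_ ?_
          · rw [Subgroup.zpowers_le]
            exact hcn x z h5.symm
          · rw [Subgroup.zpowers_le]
            exact hcn y z h6.symm
      obtain ⟨T, hT⟩ := hV.exists_le_sylow
      have hxT : x ∈ (T : Subgroup G) := hT (Subgroup.mem_sup_left (Subgroup.mem_sup_left (Subgroup.mem_zpowers x)))
      have hyT : y ∈ (T : Subgroup G) := hT (Subgroup.mem_sup_left (Subgroup.mem_sup_right (Subgroup.mem_zpowers y)))
      have hzT : z ∈ (T : Subgroup G) := hT (Subgroup.mem_sup_right (Subgroup.mem_zpowers z))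
      have hxy1 : x * y ≠ 1 := by
        intro h1
        apply hxy
        rw [← hyi]; exact eq_inv_of_mul_eq_one_left h1
      rcases four (h.card_two T) hxT hyT (mul_mem hxT hyT) hx1 hy1 hxy1 hxy
        (fun h7 => hy1 (by simpa using h7.symm)) (fun h7 => hx1 (by simpa using h7.symm)) hzT with h7 | h7 | h7 | h7
      · exact absurd h7 h2
      · exact absurd h7 h3
      · exact absurd h7 h4
      · exact h7
  · -- non-commuting case
    have hxw : x * w * x⁻¹ = w⁻¹ := by
      rw [hw, mul_inv_rev, hxi, hyi]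
      calc x * (x * y) * x = (x * x) * y * x := by group
        _ = y * x := by rw [hxx, one_mul]
    have hyw : y * w * y⁻¹ = w⁻¹ := by
      rw [hw, mul_inv_rev, hxi, hyi]
      calc y * (x * y) * y = y * x * (y * y) := by group
        _ = y * x := by rw [hyy, mul_one]
    have hwinv : w⁻¹ = w ^ (orderOf w - 1) := by
      symm
      apply eq_inv_of_mul_eq_one_left
      rw [← pow_succ, Nat.sub_add_cancel (orderOf_pos w), pow_orderOf_eq_one]
    have hxM : x ∈ Subgroup.normalizer (Subgroup.zpowers w : Set G) :=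
      CfsgLib.FgBas.mem_normalizer_of_pow (hxw.trans hwinv)
    have hMtop : Subgroup.normalizer (Subgroup.zpowers w : Set G) ≠ ⊤ := by
      intro h1
      have hn : (Subgroup.zpowers w).Normal := Subgroup.normalizer_eq_top_iff.mp h1
      have := h.hs
      rcases hn.eq_bot_or_eq_top with h2 | h2
      · rw [Subgroup.zpowers_eq_bot, hw] at h2
        apply hxy
        rw [← hyi]; exact eq_inv_of_mul_eq_one_left h2
      · apply h.not_comm
        intro a b
        have ha : a ∈ Subgroup.zpowers w := by rw [h2]; trivial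
        have hb : b ∈ Subgroup.zpowers w := by rw [h2]; trivial
        obtain ⟨i, rfl⟩ := ha
        obtain ⟨j, rfl⟩ := hb
        change w ^ i * w ^ j = w ^ j * w ^ i
        rw [← zpow_add, ← zpow_add, add_comm]
    have hMcard : Nat.card (Subgroup.normalizer (Subgroup.zpowers w : Set G)) ∣ 4 * Nat.card (P : Subgroup G) := by
      apply h.heven _ hMtop
      rw [← orderOf_eq_prime hx2 hx1, ← Nat.card_zpowers]
      exact Subgroup.card_dvd_of_le (by rwa [Subgroup.zpowers_le])
    obtain ⟨b, hb⟩ := P.2.exists_card_eq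
    have hwo : orderOf w ∣ 4 * 3 ^ b := by
      rw [← hb, ← Nat.card_zpowers]
      exact (Subgroup.card_dvd_of_le Subgroup.le_normalizer).trans hMcard
    set v := w ^ 2 with hv
    have hv3 : v ^ 3 ^ b = 1 := by
      have h1 : (w ^ 3 ^ b) ^ 4 = 1 := by
        rw [← pow_mul, mul_comm]
        exact orderOf_dvd_iff_pow_eq_one.mp hwo
      have h2 : (w ^ 3 ^ b) ^ 2 = 1 := by
        apply h.two_elt
        obtain ⟨k, _, hk⟩ := (Nat.dvd_prime_pow Nat.prime_two).mp (show orderOf (w ^ 3 ^ b) ∣ 2 ^ 2 from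
          orderOf_dvd_of_pow_eq_one h1)
        exact ⟨k, hk⟩
      rw [hv, ← pow_mul, mul_comm, pow_mul]
      exact h2
    have hv1 : v ≠ 1 := by
      intro h1
      apply hcomm
      have h2 : w * w = 1 := by rw [← pow_two]; exact h1
      have h3 : w⁻¹ = w := inv_eq_of_mul_eq_one_left h2
      have h4 : w⁻¹ = y * x := by rw [hw, mul_inv_rev, hxi, hyi]
      rw [← h4, h3]
    obtain ⟨g, hg⟩ := CfsgLib.FgBas.exists_conj_mem P (x := v) (by
      obtain ⟨k, _, hk⟩ := (Nat.dvd_prime_pow Nat.prime_three).mp (orderOf_dvd_of_pow_eq_one hv3)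
      exact ⟨k, hk⟩)
    have hgv1 : g * v * g⁻¹ ≠ 1 := by rwa [Ne, conj_eq_one_iff]
    have hvC := h.PC hg
    have hxv : x * v * x⁻¹ = v⁻¹ := by rw [hv, ← conj_pow, hxw, inv_pow]
    have hyv : y * v * y⁻¹ = v⁻¹ := by rw [hv, ← conj_pow, hyw, inv_pow]
    have hxv' : (g * x * g⁻¹) * (g * v * g⁻¹) * (g * x * g⁻¹)⁻¹ = (g * v * g⁻¹)⁻¹ := by
      calc (g * x * g⁻¹) * (g * v * g⁻¹) * (g * x * g⁻¹)⁻¹ = g * (x * v * x⁻¹) * g⁻¹ := by group
        _ = _ := by rw [hxv]; group
    have hyv' : (g * y * g⁻¹) * (g * v * g⁻¹) * (g * y * g⁻¹)⁻¹ = (g * v * g⁻¹)⁻¹ := by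
      calc (g * y * g⁻¹) * (g * v * g⁻¹) * (g * y * g⁻¹)⁻¹ = g * (y * v * y⁻¹) * g⁻¹ := by group
        _ = _ := by rw [hyv]; group
    have hxN := h.ti hvC hgv1 (g := g * x * g⁻¹) (by rw [hxv']; exact inv_mem hvC)
    have hyN := h.ti hvC hgv1 (g := g * y * g⁻¹) (by rw [hyv']; exact inv_mem hvC)
    have hself : (g * v * g⁻¹)⁻¹ ≠ g * v * g⁻¹ := by
      intro h1
      apply hgv1
      apply sq_ne hg
      rw [pow_two]
      nth_rewrite 1 [← h1]
      exact inv_mul_cancel _
    have hnt : ∀ s : G, s * (g * v * g⁻¹) * s⁻¹ = (g * v * g⁻¹)⁻¹ → t ≠ s := by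
      rintro s hs rfl
      apply hself
      rw [← hs, h.comm h.tC hvC, mul_inv_cancel_right]
    have hFr : Fr (g * x * g⁻¹) (g * y * g⁻¹) t :=
      ⟨h.t2, h.t1, hnt _ hxv', hnt _ hyv', (h.mem_N.mp hxN).symm, (h.mem_N.mp hyN).symm⟩
    refine ⟨g⁻¹ * t * g, ?_, ?_⟩
    · have h1 := hFr.conj g⁻¹
      have e1 : ∀ a : G, g⁻¹ * (g * a * g⁻¹) * g⁻¹⁻¹ = a := fun a => by group
      rw [e1, e1, inv_inv] at h1
      exact h1
    · intro z hz
      have hz' := hz.conj g
      obtain ⟨h1, h2, h3, h4, h5, h6⟩ := hz'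
      set z' := g * z * g⁻¹ with hz'
      have hzw : z' * (g * v * g⁻¹) = (g * v * g⁻¹) * z' := by
        have h7 : g * v * g⁻¹ = (g * x * g⁻¹) * (g * y * g⁻¹) * ((g * x * g⁻¹) * (g * y * g⁻¹)) := by
          rw [hv, hw, pow_two]; group
        have hc : Commute z' ((g * x * g⁻¹) * (g * y * g⁻¹)) := Commute.mul_right h5 h6
        rw [h7]
        exact Commute.mul_right hc hc
      have hzN : z' ∈ Subgroup.normalizer ((P : Subgroup G) : Set G) := by
        apply h.ti hvC hgv1
        rw [hzw, mul_inv_cancel_right]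
        exact hvC
      have hzC : z' ∈ Subgroup.centralizer (P : Set G) := by
        by_contra hzC
        have h7 := h.inverts hzN h1 hzC hvC
        apply hself
        rw [← h7, hzw, mul_inv_cancel_right]
      have h8 := h.uniq hzC h1 h2
      rw [← h8, hz']
      group

end

theorem Ctx2.false {G : Type u} [Group G] [Finite G] {P : Sylow 3 G} {t : G} (h : Ctx2 P t) : False := by
  classical
  haveI := Fintype.ofFinite G
  let I := {x : G // x ≠ 1 ∧ x ^ 2 = 1}
  have hne : Nonempty I := ⟨⟨t, h.t1, h.t2⟩⟩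
  let adj : I → I → Prop := fun x y => (x : G) * y = y * x ∧ (x : G) ≠ y
  have hd3 : 3 ≤ 2 * Nat.card (P : Subgroup G) := by
    have := Nat.le_of_dvd h.pos h.three_dvd
    omega
  refine CfsgLib.Friend.no_regular_friendship adj ?_ ?_ (2 * Nat.card (P : Subgroup G)) hd3 ?_ ?_
  · rintro x y ⟨h1, h2⟩
    exact ⟨h1.symm, h2.symm⟩
  · rintro x ⟨h1, h2⟩
    exact h2 rfl
  · rintro ⟨x, hx1, hx2⟩
    obtain ⟨g, hg⟩ := h.conj_t hx1 ⟨1, by rw [pow_one]; exact orderOf_eq_prime hx2 hx1⟩
    rw [← h.card_nbr]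
    refine Finset.card_bij (fun y _ => g⁻¹ * (y : G) * g) ?_ ?_ ?_
    · rintro ⟨y, hy1, hy2⟩ hy
      simp only [Finset.mem_filter, Finset.mem_univ, true_and, adj] at hy ⊢
      have e2 : t = g⁻¹ * x * g := by rw [← hg]; group
      refine ⟨?_, ?_, ?_, ?_⟩
      · have : (g⁻¹ * y * g) ^ 2 = g⁻¹ * y ^ 2 * g := by rw [pow_two, pow_two]; group
        rw [this, hy2]; group
      · intro h1
        apply hy1
        have : y = g * (g⁻¹ * y * g) * g⁻¹ := by group
        rw [this, h1]; group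
      · intro h1
        rw [e2] at h1
        apply hy.2
        have h2 : x = g * (g⁻¹ * x * g) * g⁻¹ := by group
        rw [h2, ← h1]; group
      · rw [e2]
        calc g⁻¹ * y * g * (g⁻¹ * x * g) = g⁻¹ * (y * x) * g := by group
          _ = g⁻¹ * (x * y) * g := by rw [hy.1]
          _ = _ := by group
    · rintro ⟨y, hy⟩ _ ⟨z, hz⟩ _ h1
      apply Subtype.ext
      simpa using h1
    · intro z hz
      simp only [Finset.mem_filter, Finset.mem_univ, true_and] at hz
      obtain ⟨h1, h2, h3, h4⟩ := hz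
      refine ⟨⟨g * z * g⁻¹, ?_, ?_⟩, ?_, ?_⟩
      · rwa [Ne, conj_eq_one_iff]
      · rw [conj_pow, h1]; group
      · simp only [Finset.mem_filter, Finset.mem_univ, true_and, adj]
        refine ⟨?_, ?_⟩
        · rw [← hg]
          calc g * t * g⁻¹ * (g * z * g⁻¹) = g * (t * z) * g⁻¹ := by group
            _ = g * (z * t) * g⁻¹ := by rw [h4]
            _ = _ := by group
        · rw [← hg]
          intro h5
          apply h3
          have h6 : g⁻¹ * (g * t * g⁻¹) * g = g⁻¹ * (g * z * g⁻¹) * g := by rw [h5]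
          have e1 : ∀ a : G, g⁻¹ * (g * a * g⁻¹) * g = a := fun a => by group
          rw [e1, e1] at h6
          exact h6.symm
      · change g⁻¹ * (g * z * g⁻¹) * g = z
        group
  · rintro ⟨x, hx1, hx2⟩ ⟨y, hy1, hy2⟩ hxy
    have hxy' : x ≠ y := fun h1 => hxy (Subtype.ext h1)
    obtain ⟨z, hz, huniq⟩ := h.friend hx1 hx2 hy1 hy2 hxy'
    rw [Finset.card_eq_one]
    refine ⟨⟨z, hz.2.1, hz.1⟩, ?_⟩
    ext ⟨s, hs1, hs2⟩
    simp only [Finset.mem_filter, Finset.mem_univ, true_and, Finset.mem_singleton, adj]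
    constructor
    · rintro ⟨⟨h1, h2⟩, h3, h4⟩
      apply Subtype.ext
      exact huniq s ⟨hs2, hs1, h2.symm, h4.symm, h1.symm, h3.symm⟩
    · intro h1
      have h2 : s = z := congrArg Subtype.val h1
      subst h2
      obtain ⟨a1, a2, a3, a4, a5, a6⟩ := hz
      exact ⟨⟨a5.symm, a3.symm⟩, a6.symm, a4.symm⟩


/-- Let G be a finite group with an abelian Sylow 3-subgroup P such that the normalizer of P has order 4·#P, the centralizer C of P has order 2·#P, C meets each of its conjugates by elements outside its normalizer trivially, and every proper subgroup of G of even order has order dividing 4·#P. Then G is not simple. -/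
theorem result {G : Type*} [Group G] [Finite G]
    (P : Sylow 3 G) (hab : IsMulCommutative P)
    (hN : Nat.card (Subgroup.normalizer ((P : Subgroup G) : Set G)) = 4 * Nat.card P)
    (hC : Nat.card (Subgroup.centralizer (P : Set G)) = 2 * Nat.card P)
    (hTI : Cfsg.IsTISubset (Subgroup.centralizer (P : Set G) : Set G))
    (heven : ∀ H : Subgroup G, H ≠ ⊤ → 2 ∣ Nat.card H → Nat.card H ∣ 4 * Nat.card P) :
    ¬ IsSimpleGroup G := by
  intro hs
  have h : Ctx P := ⟨hs, fun x hx y hy => congrArg Subtype.val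
    (hab.is_comm.comm (⟨x, hx⟩ : P) ⟨y, hy⟩), hN, hC, hTI, heven⟩
  obtain ⟨t, h1, h2, h3, h4⟩ := h.exists_t
  exact Ctx2.false (t := t) { toCtx := h, tC := h1, t1 := h2, t2 := h3, dec := h4 }

end Cfsg.Agent.S4018
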