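import Cfsg.Statements.S4039
import Cfsg.Agent.LibFgNM

set_option autoImplicit false
open Cfsg

namespace Cfsg.Agent.S4039

set_option linter.style.haveILetI false
set_option linter.unusedSectionVars false
set_option linter.unusedVariables false

open CfsgLib.FgNM
open scoped commutatorElement

/-- A finite group possessing a maximal subgroup that is nilpotent of class at most 2 is solvable. -/
theorem result {G : Type*} [Group G] [Finite G]
    (M : Subgroup G) (hmax : IsCoatom M) (hnil : Group.IsNilpotent M) (hcl : Group.nilpotencyClass ↥M ≤ 2) :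
    Group.IsSolvable G := by
  refine solvable_of_nilp_max _ G rfl M hmax hnil ?_
  intro S hSM _ x hx y hy z hz
  have h1 : (⊤ : Subgroup M).lowerCentralSeries 2 = ⊥ :=
    Subgroup.lowerCentralSeries_eq_bot_iff_nilpotencyClass_le.mpr hcl
  have h2 : ⁅⁅(⟨x, hSM hx⟩ : M), (⟨y, hSM hy⟩ : M)⁆, (⟨z, hSM hz⟩ : M)⁆ ∈ (⊤ : Subgroup M).lowerCentralSeries 2 := by
    rw [Subgroup.lowerCentralSeries_succ, Subgroup.lowerCentralSeries_succ, Subgroup.lowerCentralSeries_zero]
    exact Subgroup.commutator_mem_commutator (Subgroup.commutator_mem_commutator trivial trivial) trivial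
  rw [h1, Subgroup.mem_bot, commutatorElement_eq_one_iff_mul_comm] at h2
  exact (congrArg Subtype.val h2).symm

end Cfsg.Agent.S4039
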