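import Cfsg.Statements.S4040
import Cfsg.Agent.LibFgNM

set_option autoImplicit false
open Cfsg

namespace Cfsg.Agent.S4040

set_option linter.style.haveILetI false
set_option linter.unusedSectionVars false
set_option linter.unusedVariables false

open CfsgLib.FgNM
open scoped commutatorElement

/-- A finite group possessing a maximal subgroup that is nilpotent of odd order is solvable. -/
theorem result {G : Type*} [Group G] [Finite G]
    (M : Subgroup G) (hmax : IsCoatom M) (hnil : Group.IsNilpotent M) (hodd : Odd (Nat.card M)) :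
    Group.IsSolvable G := by
  refine solvable_of_nilp_max _ G rfl M hmax hnil ?_
  intro S hSM hS x hx y hy z hz
  have : Fact (Nat.Prime 2) := ⟨Nat.prime_two⟩
  have hSb : S = ⊥ := by
    obtain ⟨n, hn⟩ := hS.exists_card_eq
    apply Subgroup.card_eq_one.mp
    have h1 : Nat.card S ∣ Nat.card M := Subgroup.card_dvd_of_le hSM
    rw [hn] at h1 ⊢
    rcases Nat.eq_zero_or_pos n with h0 | h0
    · rw [h0, pow_zero]
    · exfalso
      have h2 : 2 ∣ Nat.card M := (dvd_pow_self 2 h0.ne').trans h1
      exact (Nat.not_even_iff_odd.mpr hodd) (even_iff_two_dvd.mpr h2)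
  rw [hSb, Subgroup.mem_bot] at hx hz
  rw [hx, hz]; simp

end Cfsg.Agent.S4040
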