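import Cfsg.Statements.S4049
import Cfsg.Agent.LibFgBS

set_option autoImplicit false
open Cfsg

namespace Cfsg.Agent.S4049

set_option linter.style.haveILetI false
set_option linter.unusedSectionVars false
set_option linter.unusedVariables false

open Subgroup

/-- Let G be a finite group such that N_G(H)/C_G(H) has odd order for every nontrivial subgroup H of odd order. Then the Sylow 2-subgroups of G are normal. -/
theorem result {G : Type*} [Group G] [Finite G]
    (hhom : ∀ H : Subgroup G, H ≠ ⊥ → ¬ 2 ∣ Nat.card ↥H →
        ¬ 2 ∣ (Subgroup.centralizer (H : Set G)).relIndex (Subgroup.normalizer (H : Set G))) (P : Sylow 2 G) :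
    (P : Subgroup G).Normal := by
  apply CfsgLib.FgBS.Star.sylow_normal
  intro x t hx ht htn
  by_cases hx1 : x = 1
  · rw [hx1, one_mul, mul_one]
  · obtain ⟨k, hk⟩ := ht
    have h1 := hhom (zpowers x) (by rwa [Ne, zpowers_eq_bot]) (by
      rw [Nat.card_zpowers]
      intro h2
      have := Nat.dvd_gcd h2 (dvd_refl 2)
      rw [hx] at this
      exact absurd this (by norm_num))
    have h2 : (⟨t, htn⟩ : normalizer (zpowers x : Set G)) ∈ (centralizer (zpowers x : Set G)).subgroupOf (normalizer (zpowers x : Set G)) := by
      apply CfsgLib.FgBas.mem_of_pow_mem (pow_index_mem _ _)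
      rw [Subgroup.orderOf_mk, hk]
      apply Nat.Coprime.pow_left
      exact (Nat.Prime.coprime_iff_not_dvd Nat.prime_two).mpr h1
    have h3 : t ∈ centralizer (zpowers x : Set G) := h2
    exact (mem_centralizer_iff.mp h3 x (mem_zpowers x)).symm

end Cfsg.Agent.S4049
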