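import Cfsg.Statements.S4068
import Cfsg.Agent.LibOrb11
-- import your own Cfsg.Agent.* helpers here

set_option autoImplicit false
open Cfsg

namespace Cfsg.Agent.S4068

/-- A finite non-solvable group on which its automorphism group has exactly four orbits is isomorphic to the alternating group of degree 5. -/
theorem result {G : Type*} [Group G] [Finite G] (hns : ¬ Group.IsSolvable G)
    (h4 : Nat.card (MulAction.orbitRel.Quotient (MulAut G) G) = 4) : Nonempty (G ≃* alternatingGroup (Fin 5)) := by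
  classical
  obtain ⟨p, q, r, hp, hq, hr, hpq, hpr, hqr, hpG, hqG, hrG⟩ := CfsgLib.Orb11.exists_three hns
  haveI := Fact.mk hp
  haveI := Fact.mk hq
  haveI := Fact.mk hr
  obtain ⟨x, hx⟩ := exists_prime_orderOf_dvd_card' p hpG
  obtain ⟨y, hy⟩ := exists_prime_orderOf_dvd_card' q hqG
  obtain ⟨z, hz⟩ := exists_prime_orderOf_dvd_card' r hrG
  let Q := MulAction.orbitRel.Quotient (MulAut G) G
  haveI : Finite Q := Quotient.finite _
  let o : Q → ℕ := Quotient.lift (fun g : G => orderOf g) (by
    rintro a b ⟨φ, hφ⟩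
    show orderOf a = orderOf b
    rw [← hφ]
    exact MulEquiv.orderOf_eq φ b)
  have hoq : ∀ g : G, o (Quotient.mk _ g) = orderOf g := fun g => rfl
  let v : Fin 4 → Q := ![Quotient.mk _ 1, Quotient.mk _ x, Quotient.mk _ y, Quotient.mk _ z]
  have hv : Function.Injective (o ∘ v) := by
    have h1 : o ∘ v = ![1, p, q, r] := by
      funext i
      fin_cases i
      · exact orderOf_one
      · exact hx
      · exact hy
      · exact hz
    rw [h1]
    intro i j hij
    have := hp.one_lt
    have := hq.one_lt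
    have := hr.one_lt
    fin_cases i <;> fin_cases j <;> simp at hij ⊢ <;> omega
  have hv' : Function.Injective v := fun i j h => hv (congrArg o h)
  have hb : Function.Bijective v := (Nat.bijective_iff_injective_and_card _).2 ⟨hv', by rw [Nat.card_eq_fintype_card, Fintype.card_fin]; exact h4.symm⟩
  have hPO : CfsgLib.Orb11.PO G := by
    intro g hg
    obtain ⟨i, hi⟩ := hb.2 (Quotient.mk _ g)
    have h1 : orderOf g = o (v i) := by rw [hi]; rfl
    rw [h1]
    fin_cases i
    · exfalso
      have h2 : orderOf g = 1 := h1.trans orderOf_one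
      exact hg (orderOf_eq_one_iff.1 h2)
    · show (orderOf x).Prime
      rw [hx]; exact hp
    · show (orderOf y).Prime
      rw [hy]; exact hq
    · show (orderOf z).Prime
      rw [hz]; exact hr
  obtain ⟨n, F, iF, iFt, hn, hFc, ⟨φ⟩⟩ := hPO.psl hns
  have h4F : 4 ≤ Fintype.card F := by
    rw [hFc]
    calc 4 = 2 ^ 2 := by norm_num
      _ ≤ 2 ^ n := Nat.pow_le_pow_right (by norm_num) hn
  haveI : CharP F 2 := by
    obtain ⟨q', hq'⟩ := CharP.exists F
    haveI := hq'
    haveI : Fact q'.Prime := ⟨CharP.char_is_prime F q'⟩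
    obtain ⟨m, hm, hcard⟩ := FiniteField.card F q'
    rw [hFc] at hcard
    have h1 : q' ∣ 2 ^ n := by rw [hcard]; exact dvd_pow_self _ m.pos.ne'
    have h2 : q' = 2 := (Nat.prime_dvd_prime_iff_eq hm Nat.prime_two).1 (hm.dvd_of_dvd_pow h1)
    rw [← h2]; exact hq'
  haveI : Fact (Nat.Prime 2) := ⟨Nat.prime_two⟩
  have hgcd : Nat.gcd 2 (Fintype.card F - 1) = 1 := by
    apply (Nat.Prime.coprime_iff_not_dvd Nat.prime_two).2
    have h5 : 2 ∣ 2 ^ n := dvd_pow_self 2 (by omega)
    rw [hFc] at h4F ⊢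
    omega
  have hset := Cfsg.Agent.S2475.result (F := F) 2 h4F
  rw [hgcd, Nat.div_one, Nat.div_one] at hset
  have hprime : ∀ m : ℕ, m ∈ Set.range (orderOf : Matrix.ProjectiveSpecialLinearGroup (Fin 2) F → ℕ) → m ≠ 1 → m.Prime := by
    rintro m ⟨w, rfl⟩ hm
    have h6 : orderOf (φ.symm w) = orderOf w := MulEquiv.orderOf_eq φ.symm w
    rw [← h6]
    apply hPO
    intro h7
    rw [h7, orderOf_one] at h6
    exact hm h6.symm
  have hm1 : (Fintype.card F - 1).Prime := by
    apply hprime
    · rw [hset]; exact Or.inr (Or.inl dvd_rfl)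
    · omega
  have hm2 : (Fintype.card F + 1).Prime := by
    apply hprime
    · rw [hset]; exact Or.inr (Or.inr dvd_rfl)
    · omega
  have hq4 : Fintype.card F = 4 := by
    have h3 : ¬ 3 ∣ Fintype.card F := by
      rw [hFc]
      intro h
      have := Nat.prime_three.dvd_of_dvd_pow h
      omega
    have h5 : 3 ∣ Fintype.card F - 1 ∨ 3 ∣ Fintype.card F + 1 := by omega
    rcases h5 with h5 | h5
    · have := (Nat.prime_dvd_prime_iff_eq Nat.prime_three hm1).1 h5
      omega
    · have := (Nat.prime_dvd_prime_iff_eq Nat.prime_three hm2).1 h5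
      omega
  have hcard := Cfsg.Agent.H22.card_PSL2 (F := F)
  rw [hgcd, hq4, one_mul] at hcard
  haveI : IsSimpleGroup (Matrix.ProjectiveSpecialLinearGroup (Fin 2) F) :=
    Matrix.ProjectiveSpecialLinearGroup.rank_two_simple (by rw [Nat.card_eq_fintype_card]; exact h4F)
  obtain ⟨ψ⟩ := CfsgLib.Dk29.simple60 (H := Matrix.ProjectiveSpecialLinearGroup (Fin 2) F) (by rw [hcard])
  exact ⟨φ.trans ψ⟩


end Cfsg.Agent.S4068
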