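import Cfsg.Statements.S4113
import Mathlib

set_option autoImplicit false
open Cfsg

namespace Cfsg.Agent.S4113

/-- Let G be a finite group, M ≤ N non-trivial proper normal subgroups, and H a subgroup with HM = G and H ∩ M = 1. Then every element of G outside N acts fixed-point-freely on M (C_G(x) ≤ N for every x ∈ M, x ≠ 1) if and only if H ∩ gHg⁻¹ ≤ H ∩ N for every g outside H, with H proper and non-trivial and H ∩ N proper in H. -/
theorem result {G : Type*} [Group G] [Finite G] (N M : Subgroup G) [N.Normal] [M.Normal] (hMN : M ≤ N) (hM1 : M ≠ ⊥) (hN2 : N ≠ ⊤)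
    (H : Subgroup G) (hHM : H ⊔ M = ⊤) (hHM' : H ⊓ M = ⊥) :
    (∀ x ∈ M, x ≠ 1 → Subgroup.centralizer ({x} : Set G) ≤ N) ↔
      (H ≠ ⊥ ∧ H ≠ ⊤ ∧ H ⊓ N < H ∧ ∀ g : G, g ∉ H → H ⊓ H.map (MulAut.conj g).toMonoidHom ≤ N) := by
  constructor
  · intro h
    have hdec : ∀ g : G, ∃ m ∈ M, ∃ k ∈ H, g = m * k := by
      intro g
      have hg : g ∈ M ⊔ H := by rw [sup_comm, hHM]; trivial
      obtain ⟨m, hm, k, hk, rfl⟩ := Subgroup.mem_sup_of_normal_left.mp hg
      exact ⟨m, hm, k, hk, rfl⟩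
    refine ⟨?_, ?_, ?_, ?_⟩
    · rintro rfl
      rw [bot_sup_eq] at hHM
      exact hN2 (top_le_iff.mp (hHM ▸ hMN))
    · rintro rfl
      rw [top_inf_eq] at hHM'
      exact hM1 hHM'
    · refine lt_of_le_of_ne inf_le_left ?_
      intro he
      have hHN : H ≤ N := by rw [← he]; exact inf_le_right
      apply hN2
      rw [eq_top_iff, ← hHM]
      exact sup_le hHN hMN
    · intro g hg
      obtain ⟨m, hm, k, hk, rfl⟩ := hdec g
      rintro x ⟨hxH, y, hy, hyx⟩
      have hm1 : m ≠ 1 := by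
        rintro rfl
        rw [one_mul] at hg
        exact hg hk
      change m * k * y * (m * k)⁻¹ = x at hyx
      -- x = m (k y k⁻¹) m⁻¹, and x (k y k⁻¹)⁻¹ ∈ H ∩ M
      have hz : k * y * k⁻¹ ∈ H := H.mul_mem (H.mul_mem hk hy) (H.inv_mem hk)
      have hxz : x * (k * y * k⁻¹)⁻¹ ∈ H ⊓ M := by
        refine ⟨H.mul_mem hxH (H.inv_mem hz), ?_⟩
        have : x * (k * y * k⁻¹)⁻¹ = m * ((k * y * k⁻¹) * m⁻¹ * (k * y * k⁻¹)⁻¹) := by
          rw [← hyx]; group
        rw [this]
        exact M.mul_mem hm (Subgroup.Normal.conj_mem inferInstance _ (M.inv_mem hm) _)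
      rw [hHM', Subgroup.mem_bot, mul_inv_eq_one] at hxz
      have hcomm : x * m = m * x := by
        have h1 : m * x * m⁻¹ = x := by
          conv_lhs => rw [hxz]
          rw [← hyx]; group
        calc x * m = (m * x * m⁻¹) * m := by rw [h1]
          _ = m * x := by group
      exact h m hm hm1 (Subgroup.mem_centralizer_singleton_iff.mpr hcomm)
  · rintro ⟨-, -, -, h⟩ x hx hx1 c hc
    by_contra hcN
    have hg : c ∈ M ⊔ H := by rw [sup_comm, hHM]; trivial
    obtain ⟨m, hm, k, hk, rfl⟩ := Subgroup.mem_sup_of_normal_left.mp hg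
    have hkN : k ∉ N := fun hkN => hcN (N.mul_mem (hMN hm) hkN)
    -- k has no nontrivial fixed points on M
    have hfix : ∀ y ∈ M, k * y = y * k → y = 1 := by
      intro y hy hky
      by_contra hy1
      have hyH : y ∉ H := by
        intro hyH
        have : y ∈ H ⊓ M := ⟨hyH, hy⟩
        rw [hHM', Subgroup.mem_bot] at this
        exact hy1 this
      apply hkN
      apply h y hyH
      refine ⟨hk, k, hk, ?_⟩
      change y * k * y⁻¹ = k
      rw [← hky]; group
    -- the map y ↦ y⁻¹ k y k⁻¹ is a bijection of M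
    have hmem : ∀ y : M, (y : G)⁻¹ * (k * y * k⁻¹) ∈ M := fun y =>
      M.mul_mem (M.inv_mem y.2) (Subgroup.Normal.conj_mem inferInstance _ y.2 _)
    have hinj : Function.Injective (fun y : M => (⟨(y : G)⁻¹ * (k * y * k⁻¹), hmem y⟩ : M)) := by
      intro a b hab
      have hab' : (a : G)⁻¹ * (k * a * k⁻¹) = (b : G)⁻¹ * (k * b * k⁻¹) := congrArg Subtype.val hab
      have h1 : k * ((a : G) * (b : G)⁻¹) = ((a : G) * (b : G)⁻¹) * k := by
        have h2 : (b : G) * (a : G)⁻¹ = (k * b * k⁻¹) * (k * a * k⁻¹)⁻¹ := by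
          calc (b : G) * (a : G)⁻¹ = b * ((a : G)⁻¹ * (k * a * k⁻¹)) * (k * a * k⁻¹)⁻¹ := by group
            _ = b * ((b : G)⁻¹ * (k * b * k⁻¹)) * (k * a * k⁻¹)⁻¹ := by rw [hab']
            _ = _ := by group
        have h3 : (a : G) * (b : G)⁻¹ = k * ((a : G) * (b : G)⁻¹) * k⁻¹ := by
          calc (a : G) * (b : G)⁻¹ = ((b : G) * (a : G)⁻¹)⁻¹ := by group
            _ = ((k * b * k⁻¹) * (k * a * k⁻¹)⁻¹)⁻¹ := by rw [h2]
            _ = _ := by group
        calc k * ((a : G) * (b : G)⁻¹) = (k * ((a : G) * (b : G)⁻¹) * k⁻¹) * k := by group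
          _ = _ := by rw [← h3]
      have h4 := hfix _ (M.mul_mem a.2 (M.inv_mem b.2)) h1
      exact Subtype.ext (mul_inv_eq_one.mp h4)
    have hsurj : Function.Surjective (fun y : M => (⟨(y : G)⁻¹ * (k * y * k⁻¹), hmem y⟩ : M)) :=
      Finite.surjective_of_injective hinj
    obtain ⟨y, hy⟩ := hsurj ⟨m, hm⟩
    have hy' : (y : G)⁻¹ * (k * y * k⁻¹) = m := congrArg Subtype.val hy
    -- so m k = y⁻¹ k y
    have hmk : m * k = (y : G)⁻¹ * k * y := by rw [← hy']; group
    have hc' : m * k * x = x * (m * k) := Subgroup.mem_centralizer_singleton_iff.mp hc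
    have h5 : k * (y * x * (y : G)⁻¹) = (y * x * (y : G)⁻¹) * k := by
      have : (y : G)⁻¹ * k * y * x = x * ((y : G)⁻¹ * k * y) := by rw [← hmk]; exact hc'
      calc k * (y * x * (y : G)⁻¹) = y * ((y : G)⁻¹ * k * y * x) * (y : G)⁻¹ := by group
        _ = y * (x * ((y : G)⁻¹ * k * y)) * (y : G)⁻¹ := by rw [this]
        _ = _ := by group
    have h6 := hfix _ (Subgroup.Normal.conj_mem inferInstance _ hx _) h5
    apply hx1
    have : x = (y : G)⁻¹ * (y * x * (y : G)⁻¹) * y := by group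
    rw [this, h6]; group

end Cfsg.Agent.S4113
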