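import Cfsg.Statements.S4189
import Cfsg.Agent.EqBase
import Cfsg.Agent.LibH22Fr72
import Cfsg.Agent.LibLE10
import Cfsg.Agent.LibSolvNilp
import Cfsg.Agent.LibH2JD1

set_option autoImplicit false
open Cfsg

namespace Cfsg.Agent.S4189

open Subgroup Cfsg
open scoped Pointwise commutatorElement

section
variable {P : Type*} [Group P] [Finite P]

/-- `[K,P] K²` -/
def fs (K : Subgroup P) : Subgroup P := closure {z : P | (∃ k ∈ K, ∃ g : P, z = ⁅k, g⁆) ∨ (∃ k ∈ K, z = k * k)}

theorem fs_le (K : Subgroup P) [hK : K.Normal] : fs K ≤ K := by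
  unfold fs
  rw [closure_le]
  rintro z (⟨k, hk, g, rfl⟩ | ⟨k, hk, rfl⟩)
  · have : ⁅k, g⁆ = k * (g * k⁻¹ * g⁻¹) := by rw [commutatorElement_def]; group
    rw [this]
    exact mul_mem hk (hK.conj_mem _ (inv_mem hk) g)
  · exact mul_mem hk hk

theorem fs_map (K : Subgroup P) (σ : P ≃* P) (hσ : ∀ k ∈ K, σ k ∈ K) : ∀ z ∈ fs K, σ z ∈ fs K := by
  intro z hz
  unfold fs at hz
  induction hz using closure_induction with
  | mem y hy =>
    rcases hy with ⟨k, hk, g, rfl⟩ | ⟨k, hk, rfl⟩
    · rw [map_commutatorElement]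
      exact Subgroup.subset_closure (Or.inl ⟨σ k, hσ k hk, σ g, rfl⟩)
    · rw [map_mul]
      exact Subgroup.subset_closure (Or.inr ⟨σ k, hσ k hk, rfl⟩)
  | one => rw [map_one]; exact one_mem _
  | mul a b _ _ ha hb => rw [map_mul]; exact mul_mem ha hb
  | inv a _ ha => rw [map_inv]; exact inv_mem ha

instance fs_normal (K : Subgroup P) [hK : K.Normal] : (fs K).Normal := by
  refine ⟨fun z hz g => ?_⟩
  exact fs_map K (MulAut.conj g) (fun k hk => hK.conj_mem k hk g) z hz

theorem fs_ne (hP : IsPGroup 2 P) (K : Subgroup P) [hK : K.Normal] (hK1 : K ≠ ⊥) : fs K ≠ K := by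
  haveI : Fact (Nat.Prime 2) := ⟨Nat.prime_two⟩
  obtain ⟨M, hM⟩ := (Set.toFinite {M : Subgroup P | M.Normal ∧ M ≤ K ∧ M ≠ K}).exists_maximal
    ⟨⊥, inferInstance, bot_le, Ne.symm hK1⟩
  obtain ⟨hMn, hMK, hMne⟩ := hM.1
  haveI := hMn
  have hPM : IsPGroup 2 (P ⧸ M) := hP.to_quotient M
  haveI := hPM.isNilpotent
  let π := QuotientGroup.mk' M
  have hπ : Function.Surjective π := QuotientGroup.mk'_surjective M
  haveI hKn : (K.map π).Normal := hK.map π hπ
  have hK1' : K.map π ≠ ⊥ := by
    intro h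
    apply hMne
    apply le_antisymm hMK
    intro k hk
    have : π k ∈ K.map π := ⟨k, hk, rfl⟩
    rw [h, mem_bot] at this
    exact (QuotientGroup.eq_one_iff k).mp this
  have hc := CfsgLib.SolvNilp.inf_center_ne_bot (K.map π) hK1'
  have hTp : IsPGroup 2 ↥(K.map π ⊓ center (P ⧸ M)) := hPM.to_subgroup _
  obtain ⟨m, hm⟩ := hTp.exists_card_eq
  have h2 : 2 ∣ Nat.card ↥(K.map π ⊓ center (P ⧸ M)) := by
    rcases m with _ | m
    · rw [pow_zero, card_eq_one] at hm
      exact absurd hm hc
    · rw [hm]; exact dvd_pow_self _ (Nat.succ_ne_zero _)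
  obtain ⟨⟨z, hz⟩, hzo⟩ := exists_prime_orderOf_dvd_card' 2 h2
  rw [orderOf_mk] at hzo
  have hz2 : z * z = 1 := by rw [← pow_two, ← hzo, pow_orderOf_eq_one]
  have hz1 : z ≠ 1 := by
    rintro rfl
    rw [orderOf_one] at hzo
    omega
  have hzc : ∀ g, g * z = z * g := fun g => mem_center_iff.mp hz.2 g
  haveI hzn : (zpowers z).Normal := by
    refine ⟨fun a ha g => ?_⟩
    obtain ⟨i, rfl⟩ := ha
    have : Commute g (z ^ i) := (show Commute g z from hzc g).zpow_right i
    show g * z ^ i * g⁻¹ ∈ zpowers z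
    rw [this.eq, mul_assoc, mul_inv_cancel, mul_one]
    exact zpow_mem (mem_zpowers z) i
  set M' := (zpowers z).comap π with hM'
  have hM'n : M'.Normal := hzn.comap π
  have hMM' : M ≤ M' := by
    intro x hx
    have h5 : π x = 1 := (QuotientGroup.eq_one_iff x).mpr hx
    rw [hM', mem_comap, h5]
    exact one_mem _
  have hM'K : M' ≤ K := by
    intro x hx
    have h3 : π x ∈ K.map π := by
      have : zpowers z ≤ K.map π := by rw [zpowers_le]; exact hz.1
      exact this hx
    obtain ⟨k, hk, hkx⟩ := h3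
    have h4 : k⁻¹ * x ∈ M := by
      rw [← QuotientGroup.eq_one_iff]
      show π (k⁻¹ * x) = 1
      rw [map_mul, map_inv, hkx, inv_mul_cancel]
    have : x = k * (k⁻¹ * x) := by group
    rw [this]
    exact mul_mem hk (hMK h4)
  have hM'M : M' ≠ M := by
    intro h
    obtain ⟨x, rfl⟩ := hπ z
    have : x ∈ M' := mem_zpowers _
    rw [h] at this
    exact hz1 ((QuotientGroup.eq_one_iff x).mpr this)
  have hM'eq : M' = K := by
    by_contra hne
    exact hM'M (le_antisymm (hM.2 ⟨hM'n, hM'K, hne⟩ hMM') hMM')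
  have hKz : ∀ k ∈ K, π k = 1 ∨ π k = z := by
    intro k hk
    rw [← hM'eq] at hk
    obtain ⟨i, hi⟩ := hk
    have hi' : z ^ i = π k := hi
    rcases Int.even_or_odd' i with ⟨j, rfl | rfl⟩
    · left
      rw [← hi', zpow_mul, zpow_ofNat, pow_two, hz2, one_zpow]
    · right
      rw [← hi', zpow_add, zpow_mul, zpow_ofNat, pow_two, hz2, one_zpow, one_mul, zpow_one]
  have hle : fs K ≤ M := by
    unfold fs
    rw [closure_le]
    rintro y (⟨k, hk, g, rfl⟩ | ⟨k, hk, rfl⟩)
    · show ⁅k, g⁆ ∈ M
      rw [← QuotientGroup.eq_one_iff]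
      show π ⁅k, g⁆ = 1
      rw [map_commutatorElement, commutatorElement_eq_one_iff_mul_comm]
      rcases hKz k hk with h | h
      · rw [h]; simp
      · rw [h]; exact (hzc _).symm
    · show k * k ∈ M
      rw [← QuotientGroup.eq_one_iff]
      show π (k * k) = 1
      rw [map_mul]
      rcases hKz k hk with h | h
      · rw [h, mul_one]
      · rw [h, hz2]
  intro h
  rw [h] at hle
  exact hMne (le_antisymm hMK hle)

end


/-- Let P be a finite non-abelian 2-group whose commutator subgroup has index 4 and whose automorphism group is not a 2-group (some automorphism has order that is not a power of 2). Then P is isomorphic to the quaternion group of order 8. -/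
theorem result {P : Type*} [Group P] [Finite P] (hP : IsPGroup 2 P) (hna : ¬ IsMulCommutative P) (h4 : (commutator P).index = 4) (haut : ¬ IsPGroup 2 (MulAut P)) : Nonempty (P ≃* QuaternionGroup 2) := by
  classical
  haveI f2 : Fact (Nat.Prime 2) := ⟨Nat.prime_two⟩
  set D := commutator P with hD
  haveI hDn : D.Normal := by rw [hD]; infer_instance
  have hDF : D ≤ frattini P := CfsgLib.LE.commutator_le_frattini hP
  have hgenF : ∀ Y : Subgroup P, Y ⊔ D = ⊤ → Y = ⊤ := by
    intro Y hY
    apply frattini_nongenerating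
    rw [eq_top_iff, ← hY]
    exact sup_le_sup_left hDF Y
  have hcommD : ∀ x y : P, ⁅x, y⁆ ∈ D := fun x y => commutator_mem_commutator (mem_top x) (mem_top y)
  have hcommD' : ∀ x y : P, x⁻¹ * y⁻¹ * x * y ∈ D := fun x y => by
    have := hcommD x⁻¹ y⁻¹
    rw [commutatorElement_def, inv_inv, inv_inv] at this
    exact this
  -- squares
  have hsq : ∀ x : P, x * x ∈ D := by
    intro x
    by_contra hx
    have h1 : D ⊔ zpowers x = ⊤ := by
      have e1 : orderOf (x : P ⧸ D) ∣ 2 ^ 2 := by
        have := orderOf_dvd_natCard (x : P ⧸ D)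
        rw [← index_eq_card, h4] at this
        exact this
      obtain ⟨i, hi, hi'⟩ := (Nat.dvd_prime_pow Nat.prime_two).mp e1
      have e2 : ¬ (orderOf (x : P ⧸ D) ∣ 2) := by
        intro h
        apply hx
        rw [orderOf_dvd_iff_pow_eq_one, pow_two] at h
        exact (QuotientGroup.eq_one_iff (x * x)).mp h
      have e3 : orderOf (x : P ⧸ D) = 4 := by
        interval_cases i
        · exact absurd (by rw [hi']; norm_num) e2
        · exact absurd (by rw [hi']; norm_num) e2
        · rw [hi']; norm_num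
      have e4 : zpowers (x : P ⧸ D) = ⊤ := by
        apply eq_top_of_card_eq
        rw [Nat.card_zpowers, e3, ← index_eq_card, h4]
      rw [eq_top_iff]
      intro z _
      have e5 : (z : P ⧸ D) ∈ zpowers (x : P ⧸ D) := by rw [e4]; trivial
      obtain ⟨k, hk⟩ := e5
      have e6 : (x ^ k)⁻¹ * z ∈ D := by
        rw [← QuotientGroup.eq_one_iff]
        have hk' : (x : P ⧸ D) ^ k = z := hk
        rw [QuotientGroup.mk_mul, QuotientGroup.mk_inv, QuotientGroup.mk_zpow, hk', inv_mul_cancel]
      have e7 : z = x ^ k * ((x ^ k)⁻¹ * z) := by group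
      rw [e7]
      exact mul_mem (mem_sup_right (zpow_mem (mem_zpowers x) k)) (mem_sup_left e6)
    have h2 := hgenF (zpowers x) (by rw [sup_comm]; exact h1)
    apply hna
    refine ⟨⟨fun a b => ?_⟩⟩
    have ha : a ∈ zpowers x := by rw [h2]; trivial
    have hb : b ∈ zpowers x := by rw [h2]; trivial
    obtain ⟨i, rfl⟩ := ha
    obtain ⟨j, rfl⟩ := hb
    exact (Commute.zpow_zpow_self x i j).eq
  have hDchar : ∀ (σ : P ≃* P) (z : P), z ∈ D → σ z ∈ D := by
    intro σ z hz
    have h1 : D.map σ.toMonoidHom = D := characteristic_iff_map_eq.mp (by rw [hD]; infer_instance) σ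
    rw [← h1]
    exact ⟨z, hz, rfl⟩
  have hDchar' : ∀ (σ : P ≃* P) (z : P), σ z ∈ D → z ∈ D := by
    intro σ z hz
    have := hDchar σ.symm _ hz
    rwa [σ.symm_apply_apply] at this
  -- an automorphism of odd prime order
  obtain ⟨r, hr, hr2, σ, hσ⟩ : ∃ r : ℕ, r.Prime ∧ r ≠ 2 ∧ ∃ σ : MulAut P, orderOf σ = r := by
    haveI : Finite (MulAut P) := Finite.of_injective (fun σ : MulAut P => (σ : P → P)) (fun a b h => MulEquiv.ext (congrFun h))
    by_contra hcon
    push Not at hcon
    apply haut
    have h1 := Nat.eq_prime_pow_of_unique_prime_dvd (n := Nat.card (MulAut P)) (p := 2) Nat.card_pos.ne' (by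
      intro r hr hrd
      by_contra hne
      haveI : Fact r.Prime := ⟨hr⟩
      obtain ⟨σ, hσ⟩ := exists_prime_orderOf_dvd_card' r hrd
      exact hcon r hr hne σ hσ)
    exact IsPGroup.of_card h1
  have hσr : σ ^ r = 1 := by rw [← hσ, pow_orderOf_eq_one]
  have hodd : Odd r := hr.odd_of_ne_two hr2
  obtain ⟨x, hx⟩ : ∃ x : P, x⁻¹ * σ x ∉ D := by
    by_contra hcon
    push Not at hcon
    let C : Subgroup P :=
      { carrier := {y | σ y = y}
        one_mem' := map_one σ
        mul_mem' := by
          intro a b ha hb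
          show σ (a * b) = a * b
          rw [map_mul, show σ a = a from ha, show σ b = b from hb]
        inv_mem' := by
          intro a ha
          show σ a⁻¹ = a⁻¹
          rw [map_inv, show σ a = a from ha] }
    have hCD : C ⊔ D = ⊤ := by
      rw [eq_top_iff]
      intro x _
      let S := {y : P // x⁻¹ * y ∈ D}
      have hmem : ∀ y : S, x⁻¹ * σ y.1 ∈ D := by
        intro y
        have : x⁻¹ * σ y.1 = (x⁻¹ * σ x) * σ (x⁻¹ * y.1) := by rw [map_mul, map_inv]; group
        rw [this]
        exact mul_mem (hcon x) (hDchar σ _ y.2)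
      have hinj : Function.Injective (fun y : S => (⟨σ y.1, hmem y⟩ : S)) := by
        intro a b hab
        exact Subtype.ext (σ.injective (Subtype.ext_iff.mp hab))
      let τ : Equiv.Perm S := Equiv.ofBijective _ (Finite.injective_iff_bijective.mp hinj)
      have hτ : ∀ (n : ℕ) (y : S), ((τ ^ n) y).1 = (σ ^ n) y.1 := by
        intro n
        induction n with
        | zero => intro y; rfl
        | succ n ih =>
          intro y
          rw [pow_succ', Equiv.Perm.mul_apply, pow_succ', MulAut.mul_apply, ← ih]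
          rfl
      haveI : Fintype S := Fintype.ofFinite S
      haveI : Fact r.Prime := ⟨hr⟩
      have hcardS : Fintype.card S = Nat.card D := by
        rw [← Nat.card_eq_fintype_card]
        exact Nat.card_congr ⟨fun y => ⟨x⁻¹ * y.1, y.2⟩, fun d => ⟨x * d.1, by
          show x⁻¹ * (x * d.1) ∈ D
          rw [inv_mul_cancel_left]; exact d.2⟩, fun y => Subtype.ext (by simp), fun d => Subtype.ext (by simp)⟩
      obtain ⟨k, hk⟩ := (hP.to_subgroup D).exists_card_eq
      obtain ⟨y, hy⟩ := Equiv.Perm.exists_fixed_point_of_prime (p := r) (n := 1) (α := S) (by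
        rw [hcardS, hk]
        intro h
        exact hr2 ((Nat.prime_dvd_prime_iff_eq hr Nat.prime_two).mp (hr.dvd_of_dvd_pow h))) (σ := τ) (by
        ext z
        rw [pow_one, hτ, hσr]; rfl)
      have hyC : y.1 ∈ C := Subtype.ext_iff.mp hy
      have : x = y.1 * (x⁻¹ * y.1)⁻¹ := by group
      rw [this]
      exact mul_mem (mem_sup_left hyC) (mem_sup_right (inv_mem y.2))
    have hC := hgenF C hCD
    have hσ1 : σ = 1 := by
      ext z
      have : z ∈ C := by rw [hC]; trivial
      exact this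
    rw [hσ1, orderOf_one] at hσ
    exact hr.one_lt.ne hσ
  set y := σ x with hy
  have hxD : x ∉ D := fun h => hx (mul_mem (inv_mem h) (hDchar σ x h))
  have hyD : y ∉ D := fun h => hxD (hDchar' σ x h)
  let π : P →* P ⧸ D := QuotientGroup.mk' D
  have hπ1 : ∀ z : P, π z = 1 ↔ z ∈ D := fun z => QuotientGroup.eq_one_iff z
  have hπe : ∀ z w : P, π z = π w ↔ z⁻¹ * w ∈ D := by
    intro z w
    rw [← hπ1, map_mul, map_inv, inv_mul_eq_one]
  have hσπ : ∀ z w : P, π z = π w → π (σ z) = π (σ w) := by
    intro z w h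
    rw [hπe] at h ⊢
    have := hDchar σ _ h
    rwa [map_mul, map_inv] at this
  have hσπ' : ∀ z w : P, π (σ z) = π (σ w) → π z = π w := by
    intro z w h
    rw [hπe] at h ⊢
    apply hDchar' σ
    rwa [map_mul, map_inv]
  have hcov : ∀ z : P, π z = 1 ∨ π z = π x ∨ π z = π y ∨ π z = π x * π y := by
    intro z
    have e1 : Nat.card (⊤ : Subgroup (P ⧸ D)) = 4 := by rw [card_top, ← index_eq_card, h4]
    have e2 : IsElementaryAbelian 2 (⊤ : Subgroup (P ⧸ D)) := by
      refine ⟨⟨⟨?_⟩⟩, ?_⟩
      · rintro ⟨a, -⟩ ⟨b, -⟩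
        apply Subtype.ext
        show a * b = b * a
        obtain ⟨a, rfl⟩ := QuotientGroup.mk'_surjective D a
        obtain ⟨b, rfl⟩ := QuotientGroup.mk'_surjective D b
        rw [← commutatorElement_eq_one_iff_mul_comm, ← map_commutatorElement]
        exact (hπ1 _).mpr (hcommD a b)
      · rintro a -
        obtain ⟨a, rfl⟩ := QuotientGroup.mk'_surjective D a
        rw [pow_two, ← map_mul]
        exact (hπ1 _).mpr (hsq a)
    exact CfsgLib.H2JC.four_cases e1 e2 (mem_top _) (mem_top _) (fun h => hxD ((hπ1 x).mp h))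
      (fun h => hyD ((hπ1 y).mp h)) (fun h => hx ((hπe x y).mp h)) (mem_top _)
  have hgen : ∀ Y : Subgroup P, x ∈ Y → y ∈ Y → Y = ⊤ := by
    intro Y hxY hyY
    apply hgenF
    rw [eq_top_iff]
    intro z _
    obtain ⟨w, hw, hzw⟩ : ∃ w ∈ Y, π w = π z := by
      rcases hcov z with h | h | h | h
      · exact ⟨1, one_mem _, by rw [h, map_one]⟩
      · exact ⟨x, hxY, h.symm⟩
      · exact ⟨y, hyY, h.symm⟩
      · exact ⟨x * y, mul_mem hxY hyY, by rw [h, map_mul]⟩
    have h1 := (hπe w z).mp hzw
    have h2 : z = w * (w⁻¹ * z) := by group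
    rw [h2]
    exact mul_mem (mem_sup_left hw) (mem_sup_right h1)
  have hxy : π x ≠ π y := fun h => hx ((hπe x y).mp h)
  have hσy : π (σ y) = π x * π y := by
    rcases hcov (σ y) with h | h | h | h
    · exact absurd (hDchar' σ y ((hπ1 _).mp h)) hyD
    · exfalso
      have e1 : ∀ k : ℕ, π ((σ ^ (2 * k)) x) = π x := by
        intro k
        induction k with
        | zero => simp
        | succ k ih =>
          have : (σ ^ (2 * (k + 1))) x = σ (σ ((σ ^ (2 * k)) x)) := by
            rw [show 2 * (k + 1) = (2 * k + 1) + 1 from by ring, pow_succ', pow_succ']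
            rfl
          rw [this, hσπ _ _ (hσπ _ _ ih)]
          exact h
      obtain ⟨k, hk⟩ := hodd
      have e2 : (σ ^ r) x = x := by rw [hσr]; rfl
      rw [hk, pow_succ', MulAut.mul_apply] at e2
      have e3 := hσπ _ _ (e1 k)
      rw [e2] at e3
      exact hxy e3
    · exfalso
      exact hxy (hσπ' y x h).symm
    · exact h
  -- L1
  set c := ⁅x, y⁆ with hc
  have hcD : c ∈ D := hcommD x y
  have L1 : ∀ B : Subgroup P, B.Normal → c ∈ B → D ≤ B := by
    intro B hB hcB
    haveI := hB
    let ρ : P →* P ⧸ B := QuotientGroup.mk' B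
    have hρ1 : ∀ z : P, ρ z = 1 ↔ z ∈ B := fun z => QuotientGroup.eq_one_iff z
    have hxyc : ρ x * ρ y = ρ y * ρ x := by
      rw [← commutatorElement_eq_one_iff_mul_comm, ← map_commutatorElement]
      exact (hρ1 _).mpr hcB
    have h1 : (centralizer ({ρ x} : Set (P ⧸ B))).comap ρ = ⊤ := by
      apply hgen
      · exact mem_centralizer_singleton_iff.mpr rfl
      · exact mem_centralizer_singleton_iff.mpr hxyc.symm
    have h2 : (centralizer ({ρ y} : Set (P ⧸ B))).comap ρ = ⊤ := by
      apply hgen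
      · exact mem_centralizer_singleton_iff.mpr hxyc
      · exact mem_centralizer_singleton_iff.mpr rfl
    have h3 : (center (P ⧸ B)).comap ρ = ⊤ := by
      apply hgen
      · rw [mem_comap, mem_center_iff]
        intro g
        obtain ⟨g, rfl⟩ := QuotientGroup.mk'_surjective B g
        have : g ∈ (centralizer ({ρ x} : Set (P ⧸ B))).comap ρ := by rw [h1]; trivial
        exact mem_centralizer_singleton_iff.mp this
      · rw [mem_comap, mem_center_iff]
        intro g
        obtain ⟨g, rfl⟩ := QuotientGroup.mk'_surjective B g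
        have : g ∈ (centralizer ({ρ y} : Set (P ⧸ B))).comap ρ := by rw [h2]; trivial
        exact mem_centralizer_singleton_iff.mp this
    rw [hD, commutator_eq_closure, closure_le]
    rintro _ ⟨a, b, rfl⟩
    show ⁅a, b⁆ ∈ B
    rw [← hρ1, map_commutatorElement, commutatorElement_eq_one_iff_mul_comm]
    have : b ∈ (center (P ⧸ B)).comap ρ := by rw [h3]; trivial
    exact mem_center_iff.mp this (ρ a)
  have hD1 : D ≠ ⊥ := by
    intro h
    apply hna
    refine ⟨⟨fun a b => ?_⟩⟩
    have := hcommD a b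
    rw [h, mem_bot, commutatorElement_eq_one_iff_mul_comm] at this
    exact this
  set K := fs D with hK
  have hKD : K ≤ D := fs_le D
  have hKne : K ≠ D := fs_ne hP D hD1
  have hKcomm : ∀ z ∈ D, ∀ g : P, ⁅z, g⁆ ∈ K := fun z hz g => Subgroup.subset_closure (Or.inl ⟨z, hz, g, rfl⟩)
  have hKsq : ∀ z ∈ D, z * z ∈ K := fun z hz => Subgroup.subset_closure (Or.inr ⟨z, hz, rfl⟩)
  haveI hKn : K.Normal := by rw [hK]; infer_instance
  have hcK : c ∉ K := fun h => hKne (le_antisymm hKD (L1 K hKn h))
  -- two-coset decomposition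
  have two : ∀ L : Subgroup P, L.Normal → L ≤ D → (∀ g : P, ⁅c, g⁆ ∈ L) → c * c ∈ L → ∀ z ∈ D, z ∈ L ∨ c⁻¹ * z ∈ L := by
    intro L hL hLD hLc hcc z hz
    let B : Subgroup P :=
      { carrier := {z | z ∈ L ∨ c⁻¹ * z ∈ L}
        one_mem' := Or.inl (one_mem _)
        mul_mem' := by
          rintro a b (ha | ha) (hb | hb)
          · exact Or.inl (mul_mem ha hb)
          · right
            have : c⁻¹ * (a * b) = (c⁻¹ * a * c⁻¹⁻¹) * (c⁻¹ * b) := by group
            rw [this]; exact mul_mem (hL.conj_mem a ha _) hb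
          · right
            rw [← mul_assoc]; exact mul_mem ha hb
          · left
            have : a * b = (c * c) * ((c⁻¹) * (c⁻¹ * a) * c⁻¹⁻¹) * (c⁻¹ * b) := by group
            rw [this]
            exact mul_mem (mul_mem hcc (hL.conj_mem _ ha _)) hb
        inv_mem' := by
          rintro a (ha | ha)
          · exact Or.inl (inv_mem ha)
          · right
            have : c⁻¹ * a⁻¹ = (c * c)⁻¹ * (c * (c⁻¹ * a)⁻¹ * c⁻¹) := by group
            rw [this]
            exact mul_mem (inv_mem hcc) (hL.conj_mem _ (inv_mem ha) _) }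
    have hBn : B.Normal := by
      refine ⟨?_⟩
      rintro a (ha | ha) g
      · exact Or.inl (hL.conj_mem a ha g)
      · right
        have : c⁻¹ * (g * a * g⁻¹) = (c⁻¹ * (g * c * g⁻¹)) * (g * (c⁻¹ * a) * g⁻¹) := by group
        rw [this]
        refine mul_mem ?_ (hL.conj_mem _ ha g)
        have h5 : c⁻¹ * (g * c * g⁻¹) = c⁻¹ * ⁅c, g⁆⁻¹ * c⁻¹⁻¹ := by rw [commutatorElement_def]; group
        rw [h5]
        exact hL.conj_mem _ (inv_mem (hLc g)) _
    have hle := L1 B hBn (Or.inr (by rw [inv_mul_cancel]; exact one_mem _))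
    exact hle hz
  have hDK := two K hKn hKD (hKcomm c hcD) (hKsq c hcD)
  -- squares modulo K
  have s1 : ∀ z : P, z * z ∈ K → σ z * σ z ∈ K := by
    intro z hz
    rw [← map_mul]
    exact fs_map D σ (hDchar σ) _ hz
  have s2 : ∀ z w : P, π z = π w → z * z ∈ K → w * w ∈ K := by
    intro z w h hz
    have h1 := (hπe z w).mp h
    set e := z⁻¹ * w with he
    have h2 : w = z * e := by rw [he]; group
    have h3 : w * w = (z * z) * (⁅z⁻¹, e⁆ * (e * e)) := by
      rw [h2, commutatorElement_def]; group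
    rw [h3]
    refine mul_mem hz (mul_mem ?_ (hKsq e h1))
    rw [← inv_mem_iff, commutatorElement_inv]
    exact hKcomm e h1 _
  have hxK : ¬ (x * x ∈ K) := by
    intro h
    have h1 : y * y ∈ K := s1 x h
    have h2 : (x * y) * (x * y) ∈ K := by
      apply s2 (σ y) (x * y) (by rw [hσy, map_mul]) (s1 y h1)
    apply hcK
    have h3 : (x * y) * (x * y) = (x * c⁻¹ * x⁻¹) * (x * x) * (y * y) := by
      rw [hc, commutatorElement_def]; group
    rw [h3] at h2
    have h4 : x * c⁻¹ * x⁻¹ ∈ K := by
      have e : x * c⁻¹ * x⁻¹ = ((x * c⁻¹ * x⁻¹) * (x * x) * (y * y)) * (y * y)⁻¹ * (x * x)⁻¹ := by group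
      rw [e]
      exact mul_mem (mul_mem h2 (inv_mem h1)) (inv_mem h)
    have h5 := hKn.conj_mem _ h4 x⁻¹
    have e : x⁻¹ * (x * c⁻¹ * x⁻¹) * x⁻¹⁻¹ = c⁻¹ := by group
    rw [e] at h5
    exact inv_mem_iff.mp h5
  have s3 : ∀ z : P, σ z * σ z ∈ K → z * z ∈ K := by
    intro z hz
    rw [← map_mul] at hz
    have := fs_map D σ.symm (hDchar σ.symm) _ hz
    rwa [MulEquiv.symm_apply_apply] at this
  have hyK : ¬ (y * y ∈ K) := fun h => hxK (s3 x h)
  have hxyK : ¬ ((x * y) * (x * y) ∈ K) := by
    intro h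
    apply hyK
    apply s3
    exact s2 (x * y) (σ y) (by rw [hσy, map_mul]) h
  have hzK : ∀ z : P, z ∉ D → c⁻¹ * (z * z) ∈ K := by
    intro z hz
    have h1 : ¬ (z * z ∈ K) := by
      intro h
      rcases hcov z with h' | h' | h' | h'
      · exact hz ((hπ1 z).mp h')
      · exact hxK (s2 z x h' h)
      · exact hyK (s2 z y h' h)
      · exact hxyK (s2 z (x * y) (by rw [h', map_mul]) h)
    rcases hDK _ (hsq z) with h | h
    · exact absurd h h1
    · exact h
  -- K is trivial
  have hK1 : K = ⊥ := by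
    by_contra hne
    set L := fs K with hL
    haveI hLn : L.Normal := by rw [hL]; infer_instance
    have hLK : L ≤ K := fs_le K
    have hLne : L ≠ K := fs_ne hP K hne
    have hLcomm : ∀ z ∈ K, ∀ g : P, ⁅z, g⁆ ∈ L := fun z hz g => Subgroup.subset_closure (Or.inl ⟨z, hz, g, rfl⟩)
    let ρ : P →* P ⧸ L := QuotientGroup.mk' L
    have hρ1 : ∀ z : P, ρ z = 1 ↔ z ∈ L := fun z => QuotientGroup.eq_one_iff z
    have hKcen : ∀ k ∈ K, ∀ g : P, ρ k * ρ g = ρ g * ρ k := by
      intro k hk g
      rw [← commutatorElement_eq_one_iff_mul_comm, ← map_commutatorElement]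
      exact (hρ1 _).mpr (hLcomm k hk g)
    have hcx : ∀ z : P, z ∉ D → ρ z * ρ c = ρ c * ρ z := by
      intro z hz
      set k := c⁻¹ * (z * z) with hk
      have hkK : k ∈ K := hzK z hz
      have e : c = (z * z) * k⁻¹ := by rw [hk]; group
      have h1 : Commute (ρ z) (ρ (z * z)) := by
        rw [map_mul]; exact (Commute.refl _).mul_right (Commute.refl _)
      have h2 : Commute (ρ z) (ρ k⁻¹) := (hKcen _ (inv_mem hkK) z).symm
      have h3 := h1.mul_right h2
      rw [← map_mul, ← e] at h3
      exact h3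
    have hcc : (centralizer ({ρ c} : Set (P ⧸ L))).comap ρ = ⊤ := by
      apply hgen
      · exact mem_centralizer_singleton_iff.mpr (hcx x hxD)
      · exact mem_centralizer_singleton_iff.mpr (hcx y hyD)
    have hccen : ∀ g : P, ρ g * ρ c = ρ c * ρ g := by
      intro g
      have : g ∈ (centralizer ({ρ c} : Set (P ⧸ L))).comap ρ := by rw [hcc]; trivial
      exact mem_centralizer_singleton_iff.mp this
    have hx2 : ∀ g : P, ρ (x * x) * ρ g = ρ g * ρ (x * x) := by
      intro g
      set k := c⁻¹ * (x * x) with hk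
      have hkK : k ∈ K := hzK x hxD
      have e : x * x = c * k := by rw [hk]; group
      rw [e, map_mul]
      exact ((show Commute (ρ c) (ρ g) from (hccen g).symm).mul_left (hKcen k hkK g))
    have hc2 : c * c ∈ L := by
      rw [← hρ1, map_mul]
      have e1 : ρ x * ρ y = ρ c * ρ y * ρ x := by
        rw [← map_mul, ← map_mul, ← map_mul]
        congr 1
        rw [hc, commutatorElement_def]; group
      have e2 : ρ x * (ρ x * ρ y) = (ρ c * ρ c) * ρ y * (ρ x * ρ x) := by
        calc ρ x * (ρ x * ρ y) = ρ x * (ρ c * ρ y * ρ x) := by rw [e1]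
          _ = (ρ x * ρ c) * ρ y * ρ x := by group
          _ = ρ c * (ρ x * ρ y) * ρ x := by rw [hccen]; group
          _ = ρ c * (ρ c * ρ y * ρ x) * ρ x := by rw [e1]
          _ = (ρ c * ρ c) * ρ y * (ρ x * ρ x) := by group
      have e3 := hx2 y
      rw [map_mul] at e3
      rw [← mul_assoc, e3, mul_assoc (ρ c * ρ c)] at e2
      exact mul_eq_right.mp e2.symm
    have h5 := two L hLn (hLK.trans hKD) (fun g => by
      rw [← hρ1, map_commutatorElement, commutatorElement_eq_one_iff_mul_comm]
      exact (hccen g).symm) hc2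
    apply hLne
    apply le_antisymm hLK
    intro k hk
    rcases h5 k (hKD hk) with h | h
    · exact h
    · exfalso
      apply hcK
      have e : c = k * (c⁻¹ * k)⁻¹ := by group
      rw [e]
      exact mul_mem hk (inv_mem (hLK h))
  have hc1 : c ≠ 1 := fun h => hcK (h ▸ one_mem _)
  have hcc : c * c = 1 := by
    have := hKsq c hcD
    rwa [hK1, mem_bot] at this
  have hD2 : Nat.card D = 2 := by
    have h1 : D = zpowers c := by
      apply le_antisymm
      · intro z hz
        rcases hDK z hz with h | h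
        · rw [hK1, mem_bot] at h
          rw [h]; exact one_mem _
        · rw [hK1, mem_bot, inv_mul_eq_one] at h
          rw [← h]; exact mem_zpowers c
      · rw [zpowers_le]; exact hcD
    rw [h1, Nat.card_zpowers]
    exact orderOf_eq_prime (by rw [pow_two]; exact hcc) hc1
  have hP8 : Nat.card P = 8 := by
    rw [← D.card_mul_index, hD2, h4]
  refine Cfsg.Agent.H22.q8_equiv hP8 c hc1 hcc ?_
  intro z hz1 hzc
  have hzD : z ∉ D := by
    intro h
    rcases hDK z h with h' | h'
    · rw [hK1, mem_bot] at h'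
      exact hz1 h'
    · rw [hK1, mem_bot, inv_mul_eq_one] at h'
      exact hzc h'.symm
  have h6 := hzK z hzD
  rw [hK1, mem_bot, inv_mul_eq_one] at h6
  exact h6.symm

end Cfsg.Agent.S4189
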