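import Cfsg.Agent.LibMc8
import Mathlib
-- Template for statement S4236 (row 4236; see /opt/grader/pristine/manifest.json for weights).
-- Copy to Cfsg/Agent/S4236.lean and replace the sorry. The statement below is byte-identical to the frozen
-- statement Cfsg.CfsgFrozen.S4236 (Cfsg/Statements/S4236.lean; the theorem Cfsg.fg13_no_group_has_thirty_five_sylow_seventeen_subgroups);
-- the grader kernel-checks Cfsg.Agent.S4236.result against that frozen type. Keep the theorem IN THIS FILE
-- (a `result` declared elsewhere and merely imported here is not credited); helpers may live anywhere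
-- under Cfsg/Agent/.
import Cfsg.Statements.S4236
-- import your own Cfsg.Agent.* helpers here

set_option autoImplicit false
open Cfsg

namespace Cfsg.Agent.S4236

open Subgroup
open scoped Pointwise

section
variable {G : Type*} [Group G] [Finite G]

theorem f17 : Fact (Nat.Prime 17) := ⟨by norm_num⟩
attribute [local instance] f17

theorem stab (P Q : Sylow 17 G) : MulAction.stabilizer (P : Subgroup G) Q = (Q : Subgroup G).subgroupOf P := by
  ext g
  rw [MulAction.mem_stabilizer_iff, mem_subgroupOf]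
  have h1 : g • Q = (g : G) • Q := rfl
  rw [h1, Sylow.smul_eq_iff_mem_normalizer]
  constructor
  · intro h
    have h2 : (g : G) ∈ (P : Subgroup G) ⊓ normalizer (Q : Set G) := ⟨g.2, h⟩
    rw [P.2.inf_normalizer_sylow Q] at h2
    exact h2.2
  · intro h
    exact le_normalizer h

theorem orb (hX : Nat.card (Sylow 17 G) = 35) (P Q : Sylow 17 G) (hPQ : P ≠ Q) :
    (Q : Subgroup G).relIndex P = 17 ∧ (MulAction.orbit (P : Subgroup G) Q).ncard = 17 ∧ P ∉ MulAction.orbit (P : Subgroup G) Q := by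
  haveI : Finite (Sylow 17 G) := Nat.finite_of_card_ne_zero (by rw [hX]; norm_num)
  have h1 : (Q : Subgroup G).relIndex P = (MulAction.orbit (P : Subgroup G) Q).ncard := by
    rw [relIndex, ← stab, MulAction.index_stabilizer]
  obtain ⟨k, hk⟩ := P.2.card_orbit Q
  rw [Nat.card_coe_set_eq] at hk
  have h2 : P ∉ MulAction.orbit (P : Subgroup G) Q := by
    rintro ⟨g, hg⟩
    apply hPQ
    have h3 : Q = g⁻¹ • P := by rw [eq_inv_smul_iff]; exact hg
    rw [h3]
    have h4 : g⁻¹ • P = ((g⁻¹ : (P : Subgroup G)) : G) • P := rfl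
    rw [h4]
    exact (Sylow.smul_eq_iff_mem_normalizer.mpr (le_normalizer g⁻¹.2)).symm
  have h3 : (MulAction.orbit (P : Subgroup G) Q).ncard ≤ 34 := by
    have h4 : MulAction.orbit (P : Subgroup G) Q ⊆ {P}ᶜ := by
      intro x hx hxP
      rw [Set.mem_singleton_iff] at hxP
      rw [hxP] at hx
      exact h2 hx
    have h5 := Set.ncard_le_ncard h4 (Set.toFinite _)
    rw [Set.ncard_compl, Set.ncard_singleton, hX] at h5
    exact h5
  have h4 : k = 1 := by
    rw [hk] at h3
    rcases k with _ | _ | k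
    · exfalso
      rw [pow_zero] at hk
      rw [hk, relIndex_eq_one] at h1
      apply hPQ
      exact Sylow.ext (P.3 Q.2 h1).symm
    · rfl
    · exfalso
      have : 17 ^ 2 ≤ 17 ^ (k + 1 + 1) := Nat.pow_le_pow_right (by norm_num) (by omega)
      omega
  rw [h4, pow_one] at hk
  exact ⟨h1.trans hk, hk, h2⟩

theorem sup_eq (P : Sylow 17 G) (D D' : Subgroup G) (h1 : D ≤ P) (h2 : D' ≤ P) (h3 : D.relIndex P = 17) (h3' : D'.relIndex P = 17)
    (h : D ≠ D') : D ⊔ D' = P := by
  have hle : D ⊔ D' ≤ P := sup_le h1 h2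
  have h4 := relIndex_mul_relIndex D (D ⊔ D') P le_sup_left hle
  rw [h3] at h4
  have h5 : D.relIndex (D ⊔ D') ∣ 17 := ⟨_, h4.symm⟩
  rcases (Nat.dvd_prime (by norm_num)).mp h5 with h6 | h6
  · exfalso
    rw [relIndex_eq_one] at h6
    have h7 : D' ≤ D := le_sup_right.trans h6
    have h8 := relIndex_mul_relIndex D' D P h7 h1
    rw [h3, h3'] at h8
    have h9 : D'.relIndex D = 1 := by omega
    rw [relIndex_eq_one] at h9
    exact h (le_antisymm h9 h7)
  · rw [h6] at h4
    have h7 : (D ⊔ D').relIndex P = 1 := by omega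
    rw [relIndex_eq_one] at h7
    exact le_antisymm hle h7

theorem const (hX : Nat.card (Sylow 17 G) = 35) {P₁ Q₁ P₂ Q₂ : Sylow 17 G} (h1 : P₁ ≠ Q₁) (h2 : P₂ ≠ Q₂) :
    ((P₁ : Subgroup G) ⊓ (Q₁ : Subgroup G)) = ((P₂ : Subgroup G) ⊓ (Q₂ : Subgroup G)) := by
  haveI : Finite (Sylow 17 G) := Nat.finite_of_card_ne_zero (by rw [hX]; norm_num)
  have key : ∀ P Q : Sylow 17 G, P ≠ Q → 18 ≤ {T : Sylow 17 G | ((P : Subgroup G) ⊓ (Q : Subgroup G)) ≤ T}.ncard := by
    intro P Q hPQ
    obtain ⟨ha, hb, hc⟩ := orb hX P Q hPQ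
    have hn : ((P : Subgroup G) ⊓ Q).subgroupOf P = (Q : Subgroup G).subgroupOf P := by
      rw [inf_comm]; exact inf_subgroupOf_right _ _
    have hnorm : ((Q : Subgroup G).subgroupOf P).Normal := by
      have hidx : ((Q : Subgroup G).subgroupOf P).index = 17 := ha
      have hcard : ∃ m, Nat.card (P : Subgroup G) = 17 ^ m := P.2.exists_card_eq
      apply normal_of_index_eq_minFac_card
      obtain ⟨m, hm⟩ := hcard
      rw [hidx, hm]
      have hm0 : m ≠ 0 := by
        rintro rfl
        rw [pow_zero] at hm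
        have := index_dvd_card ((Q : Subgroup G).subgroupOf P)
        rw [hidx, hm] at this
        omega
      rw [Nat.pow_minFac hm0]
      exact (Nat.Prime.minFac_eq (by norm_num)).symm
    have hsub : insert P (MulAction.orbit (P : Subgroup G) Q) ⊆ {T : Sylow 17 G | ((P : Subgroup G) ⊓ (Q : Subgroup G)) ≤ T} := by
      rintro T (rfl | ⟨g, rfl⟩)
      · exact Set.mem_setOf.mpr inf_le_left
      · intro x hx
        have h3 : (⟨x, hx.1⟩ : (P : Subgroup G)) ∈ (Q : Subgroup G).subgroupOf P := hx.2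
        have h4 := hnorm.conj_mem _ h3 g⁻¹
        have h5 : (g : G)⁻¹ * x * g ∈ (Q : Subgroup G) := by
          have := mem_subgroupOf.mp h4
          simpa using this
        change x ∈ ((g : G) • Q : Sylow 17 G)
        rw [← SetLike.mem_coe, Sylow.coe_smul]
        refine ⟨(g : G)⁻¹ * x * g, h5, ?_⟩
        change (g : G) * ((g : G)⁻¹ * x * g) * (g : G)⁻¹ = x
        group
    have h6 := Set.ncard_le_ncard hsub (Set.toFinite _)
    rw [Set.ncard_insert_of_notMem hc (Set.toFinite _), hb] at h6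
    exact h6
  have ri : ∀ P Q T : Sylow 17 G, P ≠ Q → ((P : Subgroup G) ⊓ (Q : Subgroup G)) ≤ T → ((P : Subgroup G) ⊓ Q).relIndex T = 17 := by
    intro P Q T hPQ hT
    have h3 : Nat.card T = Nat.card P := Nat.card_congr (Sylow.equiv T P).toEquiv
    have h4 := relIndex_mul_relIndex (⊥ : Subgroup G) ((P : Subgroup G) ⊓ Q) T bot_le hT
    have h5 := relIndex_mul_relIndex (⊥ : Subgroup G) ((P : Subgroup G) ⊓ Q) P bot_le inf_le_left
    rw [relIndex_bot_left, relIndex_bot_left] at h4 h5
    have h6 : ((P : Subgroup G) ⊓ Q).relIndex P = 17 := by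
      rw [inf_comm, inf_relIndex_right]; exact (orb hX P Q hPQ).1
    rw [h6] at h5
    rw [h3, ← h5] at h4
    exact Nat.eq_of_mul_eq_mul_left Nat.card_pos h4
  have inter : ∀ P Q P' Q' : Sylow 17 G, P ≠ Q → P' ≠ Q' → ((P : Subgroup G) ⊓ (Q : Subgroup G)) ≠ (P' : Subgroup G) ⊓ (Q' : Subgroup G) →
      ({T : Sylow 17 G | ((P : Subgroup G) ⊓ (Q : Subgroup G)) ≤ T} ∩ {T : Sylow 17 G | ((P' : Subgroup G) ⊓ (Q' : Subgroup G)) ≤ T}).ncard ≤ 1 := by
    intro P Q P' Q' hPQ hPQ' hne
    rw [Set.ncard_le_one (Set.toFinite _)]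
    rintro T ⟨hT1, hT2⟩ T' ⟨hT1', hT2'⟩
    apply Sylow.ext
    rw [← sup_eq T _ _ hT1 hT2 (ri P Q T hPQ hT1) (ri P' Q' T hPQ' hT2) hne,
      ← sup_eq T' _ _ hT1' hT2' (ri P Q T' hPQ hT1') (ri P' Q' T' hPQ' hT2') hne]
  by_contra hne
  set S₁ := {T : Sylow 17 G | ((P₁ : Subgroup G) ⊓ (Q₁ : Subgroup G)) ≤ T} with hS1
  set S₂ := {T : Sylow 17 G | ((P₂ : Subgroup G) ⊓ (Q₂ : Subgroup G)) ≤ T} with hS2
  have a1 := key P₁ Q₁ h1
  have a2 := key P₂ Q₂ h2
  have a3 := inter P₁ Q₁ P₂ Q₂ h1 h2 hne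
  rw [← hS1] at a1 a3
  rw [← hS2] at a2 a3
  have a4 := Set.ncard_union_add_ncard_inter S₁ S₂ (Set.toFinite _) (Set.toFinite _)
  have a5 : (S₁ ∪ S₂).ncard ≤ 35 := by
    have := Set.ncard_le_ncard (Set.subset_univ (S₁ ∪ S₂)) (Set.toFinite _)
    rwa [Set.ncard_univ, hX] at this
  have a6 : S₁ ∪ S₂ = Set.univ := by
    apply Set.eq_of_subset_of_ncard_le (Set.subset_univ _) _ (Set.toFinite _)
    rw [Set.ncard_univ, hX]
    omega
  obtain ⟨Q, hQ1, hQ2⟩ : ∃ Q ∈ S₁, Q ∉ S₂ := by
    by_contra hcon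
    push Not at hcon
    have : S₁ ∩ S₂ = S₁ := Set.inter_eq_left.mpr hcon
    rw [this] at a3
    omega
  obtain ⟨R, hR1, hR2⟩ : ∃ R ∈ S₂, R ∉ S₁ := by
    by_contra hcon
    push Not at hcon
    have : S₁ ∩ S₂ = S₂ := Set.inter_eq_right.mpr hcon
    rw [this] at a3
    omega
  have hQR : Q ≠ R := by rintro rfl; exact hR2 hQ1
  have b1 : ((Q : Subgroup G) ⊓ (R : Subgroup G)) ≠ (P₁ : Subgroup G) ⊓ (Q₁ : Subgroup G) := by
    intro h
    apply hR2
    change ((P₁ : Subgroup G) ⊓ (Q₁ : Subgroup G)) ≤ R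
    rw [← h]; exact inf_le_right
  have b2 : ((Q : Subgroup G) ⊓ (R : Subgroup G)) ≠ (P₂ : Subgroup G) ⊓ (Q₂ : Subgroup G) := by
    intro h
    apply hQ2
    change ((P₂ : Subgroup G) ⊓ (Q₂ : Subgroup G)) ≤ Q
    rw [← h]; exact inf_le_left
  have c1 := inter Q R P₁ Q₁ hQR h1 b1
  have c2 := inter Q R P₂ Q₂ hQR h2 b2
  have c3 := key Q R hQR
  set S₃ := {T : Sylow 17 G | ((Q : Subgroup G) ⊓ (R : Subgroup G)) ≤ T} with hS3
  have c4 : S₃ = (S₃ ∩ S₁) ∪ (S₃ ∩ S₂) := by
    rw [← Set.inter_union_distrib_left, a6, Set.inter_univ]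
  have c5 := Set.ncard_union_le (S₃ ∩ S₁) (S₃ ∩ S₂)
  rw [← c4] at c5
  rw [← hS1] at c1
  rw [← hS2] at c2
  omega

end

theorem tt {T : Type*} [Group T] [Finite T] (hT : IsPGroup 2 T) (N₀ : Subgroup T) [N₀.Normal] (hN : Nat.card N₀ ∣ 2)
    (hc : IsCyclic (T ⧸ N₀)) : (∀ a b : T, a * b = b * a) ∧
      ∀ (α : MulAut T) (m : ℕ), Odd m → ¬ 3 ∣ m → α ^ m = 1 → α = 1 := by
  haveI : Fact (Nat.Prime 2) := ⟨Nat.prime_two⟩
  have hN' : Nat.card N₀ = 1 ∨ Nat.card N₀ = 2 := (Nat.dvd_prime Nat.prime_two).mp hN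
  have hcen : N₀ ≤ center T := by
    rcases hN' with h | h
    · rw [card_eq_one.mp h]; exact bot_le
    · intro x hx
      rw [mem_center_iff]
      intro g
      by_cases hx1 : x = 1
      · rw [hx1]; simp
      have h1 : g * x * g⁻¹ ∈ N₀ := Subgroup.Normal.conj_mem inferInstance x hx g
      obtain ⟨k, hk⟩ := mem_zpowers_of_prime_card (p := 2) h (g := (⟨x, hx⟩ : N₀)) (g' := ⟨g * x * g⁻¹, h1⟩)
        (fun h => hx1 (congrArg Subtype.val h))
      have hk' : x ^ k = g * x * g⁻¹ := congrArg Subtype.val hk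
      have hxx : x ^ 2 = 1 := by
        have := pow_card_eq_one' (x := (⟨x, hx⟩ : N₀))
        rw [h] at this
        exact congrArg Subtype.val this
      have h3 : g * x * g⁻¹ = x := by
        rcases Int.even_or_odd k with ⟨c, hc⟩ | ⟨c, hc⟩
        · exfalso
          rw [hc, ← two_mul, zpow_mul, show ((2 : ℤ)) = ((2 : ℕ) : ℤ) by norm_num, zpow_natCast, hxx, one_zpow] at hk'
          apply hx1
          have := mul_inv_eq_iff_eq_mul.mp hk'.symm
          rw [one_mul] at this
          exact mul_eq_left.mp this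
        · rw [← hk', hc, zpow_add, zpow_mul, show ((2 : ℤ)) = ((2 : ℕ) : ℤ) by norm_num, zpow_natCast, hxx, one_zpow, one_mul, zpow_one]
      exact mul_inv_eq_iff_eq_mul.mp h3
  have hcomm : ∀ a b : T, a * b = b * a :=
    commutative_of_cyclic_center_quotient (QuotientGroup.mk' N₀) (by rw [QuotientGroup.ker_mk']; exact hcen)
  refine ⟨hcomm, ?_⟩
  intro α m hm hm3 hα
  by_contra hne
  have hN0c : IsCyclic N₀ := by
    rcases hN' with h | h
    · haveI := (Nat.card_eq_one_iff_unique.mp h).1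
      infer_instance
    · exact isCyclic_of_prime_card h
  have h4 : Nat.card T ≤ 4 := by
    rcases CfsgLib.Mc8.metac_odd8 hT ⟨N₀, inferInstance, hN0c, hc⟩ hm hα hne with ⟨⟨e⟩⟩ | ⟨n, ⟨e⟩⟩
    · exfalso
      have : ¬ ∀ a b : QuaternionGroup 2, a * b = b * a := by decide
      apply this
      intro a b
      have := congrArg e (hcomm (e.symm a) (e.symm b))
      simpa using this
    · have hcT : Nat.card T = 2 ^ n * 2 ^ n := by
        rw [Nat.card_congr e.toEquiv]
        have : Nat.card (Fin 2 → ZMod (2 ^ n)) = 2 ^ n * 2 ^ n := by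
          rw [Nat.card_fun, Nat.card_zmod, Nat.card_fin]; ring
        exact this
      have hpow : ∀ t : T, t ^ (2 ^ n) = 1 := by
        intro t
        apply e.injective
        rw [map_pow, map_one]
        apply Multiplicative.toAdd.injective
        rw [toAdd_pow, toAdd_one]
        funext i
        simp
      obtain ⟨y, hy⟩ := hc.exists_generator
      obtain ⟨t, rfl⟩ := QuotientGroup.mk'_surjective N₀ y
      have h5 : Nat.card (T ⧸ N₀) ≤ 2 ^ n := by
        rw [← orderOf_eq_card_of_forall_mem_zpowers hy]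
        apply orderOf_le_of_pow_eq_one (by positivity)
        rw [← map_pow, hpow, map_one]
      have h6 := N₀.card_eq_card_quotient_mul_card_subgroup
      have h7 : Nat.card N₀ ≤ 2 := Nat.le_of_dvd (by norm_num) hN
      have h8 : 2 ^ n * 2 ^ n ≤ 2 ^ n * 2 := by
        rw [← hcT, h6]; exact Nat.mul_le_mul h5 h7
      have h9 : 2 ^ n ≤ 2 := Nat.le_of_mul_le_mul_left h8 (by positivity)
      rw [hcT]
      calc 2 ^ n * 2 ^ n ≤ 2 * 2 := Nat.mul_le_mul h9 h9
        _ = 4 := rfl
  apply hne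
  have h10 : orderOf (MulAut.toPerm T α) ∣ 24 := by
    classical
    haveI := Fintype.ofFinite T
    have h11 : orderOf (MulAut.toPerm T α) ∣ Nat.card (Equiv.Perm T) := orderOf_dvd_natCard _
    rw [Nat.card_perm] at h11
    exact h11.trans ((Nat.factorial_dvd_factorial h4).trans (by decide))
  have h12 : orderOf (MulAut.toPerm T α) ∣ m := by
    rw [orderOf_dvd_iff_pow_eq_one, ← map_pow, hα, map_one]
  have hcop : Nat.Coprime m 24 := by
    rw [show 24 = 2 ^ 3 * 3 by norm_num]
    apply Nat.Coprime.mul_right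
    · exact Nat.Coprime.pow_right 3 (Nat.coprime_two_right.mpr hm)
    · exact ((Nat.Prime.coprime_iff_not_dvd Nat.prime_three).mpr hm3).symm
  have h13 : orderOf (MulAut.toPerm T α) = 1 := by
    have := Nat.dvd_gcd h12 h10
    rw [hcop] at this
    exact Nat.dvd_one.mp this
  rw [orderOf_eq_one_iff] at h13
  ext t
  exact Equiv.ext_iff.mp h13 t


/-- No finite group has exactly 35 Sylow 17-subgroups. -/
theorem result {G : Type*} [Group G] [Finite G] : Nat.card (Sylow 17 G) ≠ 35 := by
  classical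
  intro hX
  haveI hfX : Finite (Sylow 17 G) := Nat.finite_of_card_ne_zero (by rw [hX]; norm_num)
  haveI : Fact (Nat.Prime 2) := ⟨Nat.prime_two⟩
  haveI : Fact (Nat.Prime 5) := ⟨by norm_num⟩
  haveI : Fact (Nat.Prime 17) := ⟨by norm_num⟩
  set φ : G →* Equiv.Perm (Sylow 17 G) := MulAction.toPermHom G (Sylow 17 G) with hφ
  set f : G →* φ.range := φ.rangeRestrict with hf
  have hfs : Function.Surjective f := φ.rangeRestrict_surjective
  have hfφ : ∀ g : G, ∀ R : Sylow 17 G, ((f g : φ.range) : Equiv.Perm (Sylow 17 G)) R = g • R := fun g R => rfl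
  -- T and its fixed point
  obtain ⟨T⟩ : Nonempty (Sylow 2 φ.range) := inferInstance
  obtain ⟨P, hP⟩ := T.2.nonempty_fixed_point_of_prime_not_dvd_card (Sylow 17 G) (by rw [hX]; norm_num)
  have hTP : ∀ t ∈ T, (t : Equiv.Perm (Sylow 17 G)) P = P := fun t ht => hP ⟨t, ht⟩
  obtain ⟨Q₀, hQ₀⟩ : ∃ Q₀ : Sylow 17 G, P ≠ Q₀ := by
    haveI : Nontrivial (Sylow 17 G) := Finite.one_lt_card_iff_nontrivial.mp (by rw [hX]; norm_num)
    obtain ⟨Q, hQ⟩ := exists_ne P
    exact ⟨Q, hQ.symm⟩
  have hfix : ∀ g ∈ P, ∀ R : Sylow 17 G, g • R = R ↔ g ∈ R := by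
    intro g hg R
    have h1 : (⟨g, hg⟩ : (P : Subgroup G)) ∈ MulAction.stabilizer (P : Subgroup G) R ↔ g • R = R := Iff.rfl
    rw [← h1, stab, mem_subgroupOf]
    rfl
  have hD : ∀ R : Sylow 17 G, P ≠ R → (P : Subgroup G) ⊓ (R : Subgroup G) = (P : Subgroup G) ⊓ (Q₀ : Subgroup G) :=
    fun R hR => const hX hR hQ₀
  have hker : ∀ g ∈ P, f g = 1 ↔ g ∈ Q₀ := by
    intro g hg
    constructor
    · intro h
      rw [← hfix g hg, ← hfφ, h]
      rfl
    · intro h
      apply Subtype.ext
      refine Equiv.ext fun R => ?_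
      rw [hfφ]
      change ((g • R : Sylow 17 G)) = R
      by_cases hR : P = R
      · rw [← hR]; exact (hfix g hg P).mpr hg
      · rw [hfix g hg]
        have h1 : g ∈ (P : Subgroup G) ⊓ (Q₀ : Subgroup G) := ⟨hg, h⟩
        rw [← hD R hR] at h1
        exact h1.2
  set Pb : Sylow 17 φ.range := P.mapSurjective hfs with hPb
  have hPbc : (Pb : Subgroup φ.range) = (P : Subgroup G).map f := rfl
  have hPb17 : Nat.card (Pb : Subgroup φ.range) = 17 := by
    have h1 : (f.comp (P : Subgroup G).subtype).ker = (Q₀ : Subgroup G).subgroupOf P := by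
      ext g
      rw [MonoidHom.mem_ker, mem_subgroupOf]
      exact hker g g.2
    have h2 : (f.comp (P : Subgroup G).subtype).range = (P : Subgroup G).map f := by
      rw [MonoidHom.range_comp, range_subtype]
    rw [hPbc, ← h2, ← index_ker, h1]
    exact (orb hX P Q₀ hQ₀).1
  obtain ⟨g, hgP, hgQ⟩ : ∃ g ∈ P, g ∉ Q₀ := by
    by_contra hcon
    push Not at hcon
    exact hQ₀ (Sylow.ext (P.3 Q₀.2 hcon).symm)
  set s : φ.range := f g with hs
  have hs1 : s ≠ 1 := fun h => hgQ ((hker g hgP).mp h)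
  have hsP : s ∈ (Pb : Subgroup φ.range) := mem_map_of_mem f hgP
  have hso : orderOf s = 17 := by
    have h1 : orderOf (⟨s, hsP⟩ : (Pb : Subgroup φ.range)) ∣ Nat.card (Pb : Subgroup φ.range) := orderOf_dvd_natCard _
    rw [Subgroup.orderOf_mk, hPb17] at h1
    rcases (Nat.dvd_prime (by norm_num)).mp h1 with h | h
    · exact absurd (orderOf_eq_one_iff.mp h) hs1
    · exact h
  have hzs : zpowers s = (Pb : Subgroup φ.range) := by
    apply eq_of_le_of_card_ge (zpowers_le.mpr hsP)
    rw [hPb17, Nat.card_zpowers, hso]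
  haveI : Fintype (Sylow 17 G) := Fintype.ofFinite _
  have hXf : Fintype.card (Sylow 17 G) = 35 := by rw [← Nat.card_eq_fintype_card, hX]
  -- cycle type
  have hsfix : ∀ R, (s : Equiv.Perm (Sylow 17 G)) R = R ↔ R = P := by
    intro R
    rw [hs, hfφ, hfix g hgP]
    constructor
    · intro h
      by_contra hne
      have h1 : g ∈ (P : Subgroup G) ⊓ (R : Subgroup G) := ⟨hgP, h⟩
      rw [hD R (Ne.symm hne)] at h1
      exact hgQ h1.2
    · rintro rfl
      exact hgP
  have hsupp : (s : Equiv.Perm (Sylow 17 G)).support.card = 34 := by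
    have h1 : (s : Equiv.Perm (Sylow 17 G)).support = Finset.univ.erase P := by
      ext R
      rw [Equiv.Perm.mem_support, Ne, hsfix]
      simp
    rw [h1, Finset.card_erase_of_mem (Finset.mem_univ _), Finset.card_univ, hXf]
  have hso' : orderOf (s : Equiv.Perm (Sylow 17 G)) = 17 := by rw [Subgroup.orderOf_coe, hso]
  have hct : (s : Equiv.Perm (Sylow 17 G)).cycleType = {17, 17} := by
    obtain ⟨n, hn⟩ := Equiv.Perm.cycleType_prime_order (σ := (s : Equiv.Perm (Sylow 17 G))) (by rw [hso']; norm_num)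
    have h1 := Equiv.Perm.sum_cycleType (s : Equiv.Perm (Sylow 17 G))
    rw [hsupp, hn, hso', Multiset.sum_replicate, smul_eq_mul] at h1
    have h2 : n = 1 := by omega
    rw [hn, hso', h2]
    rfl
  have hcent : Nat.card (centralizer {(s : Equiv.Perm (Sylow 17 G))}) = 578 := by
    rw [Equiv.Perm.nat_card_centralizer, hct, hXf]
    decide
  have hC34 : Nat.card (centralizer ({s} : Set φ.range)) ∣ 34 := by
    have h1 : Nat.card (centralizer ({s} : Set φ.range)) ∣ 578 := by
      rw [← hcent]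
      have h2 : (centralizer ({s} : Set φ.range)).map φ.range.subtype ≤ centralizer {(s : Equiv.Perm (Sylow 17 G))} := by
        rintro _ ⟨x, hx, rfl⟩
        rw [mem_centralizer_singleton_iff]
        rw [SetLike.mem_coe, mem_centralizer_singleton_iff] at hx
        exact congrArg Subtype.val hx
      have h3 := card_dvd_of_le h2
      rwa [Nat.card_congr ((centralizer ({s} : Set φ.range)).equivMapOfInjective _ (subtype_injective _)).toEquiv.symm] at h3
    have h4 : ¬ 17 ^ 2 ∣ Nat.card φ.range := by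
      intro h
      have h5 := Pb.pow_dvd_card_of_pow_dvd_card h
      rw [hPb17] at h5
      norm_num at h5
    have h5 : ¬ 289 ∣ Nat.card (centralizer ({s} : Set φ.range)) := by
      intro h
      apply h4
      exact (show 17 ^ 2 = 289 by norm_num) ▸ h.trans (card_subgroup_dvd_card _)
    have h6 : Nat.card (centralizer ({s} : Set φ.range)) ∈ Nat.divisors 578 := by
      rw [Nat.mem_divisors]; exact ⟨h1, by norm_num⟩
    have h7 : Nat.divisors 578 = {1, 2, 17, 34, 289, 578} := by decide +kernel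
    rw [h7] at h6
    simp only [Finset.mem_insert, Finset.mem_singleton] at h6
    rcases h6 with h | h | h | h | h | h <;> rw [h] at h5 ⊢ <;> revert h5 <;> decide
  have hCPb : centralizer ((Pb : Subgroup φ.range) : Set φ.range) = centralizer ({s} : Set φ.range) := by
    rw [← hzs, ← centralizer_closure {s}, zpowers_eq_closure]
  -- stabilizer
  have hstabN : ∀ h : φ.range, (h : Equiv.Perm (Sylow 17 G)) P = P → h ∈ normalizer (Pb : Set φ.range) := by
    intro h hh
    obtain ⟨x, rfl⟩ := hfs h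
    rw [hfφ] at hh
    rw [← Sylow.smul_eq_iff_mem_normalizer]
    apply Sylow.ext
    change MulAut.conj (f x) • ((P : Subgroup G).map f) = (P : Subgroup G).map f
    have h1 : MulAut.conj x • (P : Subgroup G) = P := by
      have := congrArg (fun S : Sylow 17 G => (S : Subgroup G)) hh
      exact this
    conv_rhs => rw [← h1]
    ext y
    constructor
    · rintro ⟨_, ⟨z, hz, rfl⟩, rfl⟩
      refine ⟨MulAut.conj x z, ⟨z, hz, rfl⟩, ?_⟩
      simp
    · rintro ⟨_, ⟨z, hz, rfl⟩, rfl⟩
      refine ⟨f z, ⟨z, hz, rfl⟩, ?_⟩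
      simp
  -- order of the normalizer
  have hN544 : Nat.card (normalizer (Pb : Set φ.range)) ∣ 544 := by
    have h1 : (centralizer ((Pb : Subgroup φ.range) : Set φ.range)).relIndex (normalizer ((Pb : Subgroup φ.range) : Set φ.range)) ∣ 16 := by
      have key := card_dvd_of_injective _ (QuotientGroup.kerLift_injective (Pb : Subgroup φ.range).normalizerMonoidHom)
      rw [normalizerMonoidHom_ker, ← index, ← relIndex] at key
      haveI : IsCyclic (Pb : Subgroup φ.range) := isCyclic_of_prime_card hPb17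
      rw [IsCyclic.card_mulAut, hPb17, Nat.totient_prime (by norm_num)] at key
      exact key
    have h2 : centralizer ((Pb : Subgroup φ.range) : Set φ.range) ≤ normalizer ((Pb : Subgroup φ.range) : Set φ.range) :=
      centralizer_le_normalizer _
    have h3 := relIndex_mul_relIndex (⊥ : Subgroup φ.range) _ _ bot_le h2
    rw [relIndex_bot_left, relIndex_bot_left] at h3
    change Nat.card (normalizer ((Pb : Subgroup φ.range) : Set φ.range)) ∣ 544
    rw [← h3, hCPb]
    rw [hCPb] at h1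
    exact (Nat.mul_dvd_mul hC34 h1).trans (by norm_num)
  haveI htr : MulAction.IsPretransitive φ.range (Sylow 17 G) := by
    refine ⟨fun A B => ?_⟩
    obtain ⟨x, hx⟩ := MulAction.exists_smul_eq G A B
    exact ⟨f x, hx⟩
  have hstab35 : (MulAction.stabilizer φ.range P).index = 35 := by
    rw [MulAction.index_stabilizer_of_transitive, hX]
  have hstabN' : MulAction.stabilizer φ.range P ≤ normalizer (Pb : Set φ.range) := fun h hh => hstabN h hh
  have hcard : Nat.card φ.range ∣ 19040 := by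
    rw [← (MulAction.stabilizer φ.range P).index_mul_card, hstab35]
    exact (Nat.mul_dvd_mul_left 35 ((card_dvd_of_le hstabN').trans hN544)).trans (by norm_num)
  have h5H : 5 ∣ Nat.card φ.range := by
    rw [← (MulAction.stabilizer φ.range P).index_mul_card, hstab35]
    exact Dvd.dvd.mul_right (by norm_num) _
  -- T
  have hTN : (T : Subgroup φ.range) ≤ normalizer ((Pb : Subgroup φ.range) : Set φ.range) := fun t ht => hstabN t (hTP t ht)
  let θ : (T : Subgroup φ.range) →* MulAut (Pb : Subgroup φ.range) :=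
    (Pb : Subgroup φ.range).normalizerMonoidHom.comp (inclusion hTN)
  haveI hPbcyc : IsCyclic (Pb : Subgroup φ.range) := isCyclic_of_prime_card hPb17
  haveI hAutc : IsCyclic (MulAut (Pb : Subgroup φ.range)) := by
    have e := IsCyclic.mulAutMulEquiv (Pb : Subgroup φ.range)
    rw [hPb17] at e
    exact isCyclic_of_injective e.toMonoidHom e.injective
  have hθker : Nat.card θ.ker ∣ 2 := by
    have h1 : (θ.ker.map (T : Subgroup φ.range).subtype) ≤ centralizer ({s} : Set φ.range) := by
      rintro _ ⟨t, ht, rfl⟩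
      rw [← hCPb]
      have h2 : inclusion hTN t ∈ (Pb : Subgroup φ.range).normalizerMonoidHom.ker := ht
      rw [normalizerMonoidHom_ker, mem_subgroupOf] at h2
      exact h2
    have h3 := (card_dvd_of_le h1).trans hC34
    rw [← Nat.card_congr (θ.ker.equivMapOfInjective _ (subtype_injective _)).toEquiv] at h3
    obtain ⟨k, hk⟩ := (T.2.to_subgroup θ.ker).exists_card_eq
    rw [hk] at h3 ⊢
    have h4 : Nat.Coprime (2 ^ k) 17 := Nat.Coprime.pow_left k (by norm_num)
    exact h4.dvd_of_dvd_mul_right (show 2 ^ k ∣ 2 * 17 from h3)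
  have hθc : IsCyclic ((T : Subgroup φ.range) ⧸ θ.ker) :=
    isCyclic_of_injective (QuotientGroup.kerLift θ) (QuotientGroup.kerLift_injective θ)
  obtain ⟨hTc, hTα⟩ := tt T.2 θ.ker hθker hθc
  have hBurn : normalizer (T : Set φ.range) ≤ centralizer (T : Set φ.range) := by
    intro h hh
    obtain ⟨a, m, hm, hm2⟩ := Nat.exists_eq_pow_mul_and_not_dvd (orderOf_pos h).ne' 2 (by norm_num)
    have hmT : h ^ m ∈ T := by
      have h1 : IsPGroup 2 (zpowers (h ^ m)) := by
        apply IsPGroup.of_card (n := a)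
        rw [Nat.card_zpowers, orderOf_pow_of_dvd (by rintro rfl; simp at hm) ⟨2 ^ a, by rw [hm2, mul_comm]⟩, hm2,
          Nat.mul_div_cancel _ (Nat.pos_of_ne_zero (by rintro rfl; simp at hm))]
      have h2 := h1.inf_normalizer_sylow T
      have h3 : h ^ m ∈ zpowers (h ^ m) ⊓ normalizer (T : Set φ.range) := ⟨mem_zpowers _, pow_mem hh m⟩
      rw [h2] at h3
      exact h3.2
    have h4 := hTα ((T : Subgroup φ.range).normalizerMonoidHom ⟨h, hh⟩) m
      (by rw [← Nat.not_even_iff_odd, even_iff_two_dvd]; exact hm)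
      (by
        intro h3
        have h5 : 3 ∣ 19040 := (h3.trans ⟨2 ^ a, by rw [hm2, mul_comm]⟩).trans ((orderOf_dvd_natCard h).trans hcard)
        revert h5; decide)
      (by
        rw [← map_pow, ← MonoidHom.mem_ker, normalizerMonoidHom_ker, mem_subgroupOf]
        change h ^ m ∈ centralizer ((T : Subgroup φ.range) : Set φ.range)
        rw [mem_centralizer_iff]
        intro t ht
        exact congrArg Subtype.val (hTc ⟨t, ht⟩ ⟨h ^ m, hmT⟩))
    rw [← MonoidHom.mem_ker, normalizerMonoidHom_ker, mem_subgroupOf] at h4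
    exact h4
  set L := (MonoidHom.transferSylow T hBurn).ker with hL
  have hL2 : ¬ 2 ∣ Nat.card L := MonoidHom.not_dvd_card_ker_transferSylow T hBurn
  have hLc := (MonoidHom.ker_transferSylow_isComplement' T hBurn).card_mul
  have hLdvd : Nat.card L ∣ 595 := by
    have h1 : Nat.card L ∣ 2 ^ 5 * 595 := (card_subgroup_dvd_card L).trans hcard
    have h2 : Nat.Coprime (Nat.card L) (2 ^ 5) :=
      Nat.Coprime.pow_right 5 (Nat.Coprime.symm ((Nat.Prime.coprime_iff_not_dvd Nat.prime_two).mpr hL2))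
    exact h2.dvd_of_dvd_mul_left h1
  have hL5 : 5 ∣ Nat.card L := by
    obtain ⟨k, hk⟩ := T.2.exists_card_eq
    have h1 : 5 ∣ Nat.card L * 2 ^ k := by
      rw [← hk, hLc]; exact h5H
    exact (Nat.Coprime.pow_right k (by norm_num)).dvd_of_dvd_mul_right h1
  have hsL : s ∈ L := by
    rw [hL, MonoidHom.mem_ker]
    obtain ⟨k, hk⟩ := T.2.exists_card_eq
    have h1 : orderOf (MonoidHom.transferSylow T hBurn s) ∣ 2 ^ k := by rw [← hk]; exact orderOf_dvd_natCard _
    have h2 : orderOf (MonoidHom.transferSylow T hBurn s) ∣ 17 := by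
      have h4 := orderOf_map_dvd (MonoidHom.transferSylow T hBurn) s
      rwa [hso] at h4
    have h3 := Nat.dvd_gcd h2 h1
    rw [show Nat.gcd 17 (2 ^ k) = 1 from Nat.Coprime.pow_right k (by norm_num), Nat.dvd_one, orderOf_eq_one_iff] at h3
    exact h3
  obtain ⟨R⟩ : Nonempty (Sylow 5 L) := inferInstance
  have hR5 : Nat.card (R : Subgroup L) = 5 := by
    obtain ⟨k, hk⟩ := R.2.exists_card_eq
    have h1 : 5 ^ k ∣ 595 := by rw [← hk]; exact (card_subgroup_dvd_card _).trans hLdvd
    have h2 : 5 ∣ 5 ^ k := by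
      rw [← hk]
      have := R.pow_dvd_card_of_pow_dvd_card (n := 1) (by rw [pow_one]; exact hL5)
      rwa [pow_one] at this
    rcases k with _ | _ | k
    · norm_num at h2
    · rw [hk]; norm_num
    · exfalso
      have h3 : 5 ^ 2 ∣ 595 := (pow_dvd_pow 5 (by omega)).trans h1
      norm_num at h3
  have hn5 : Nat.card (Sylow 5 L) = 1 := by
    have h1 := card_sylow_modEq_one 5 L
    have h2 := R.card_dvd_index
    have h3 : (R : Subgroup L).index ∣ 119 := by
      have h4 := (R : Subgroup L).index_mul_card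
      rw [hR5] at h4
      rw [← h4] at hLdvd
      exact Nat.dvd_of_mul_dvd_mul_right (by norm_num : 0 < 5) (show _ * 5 ∣ 119 * 5 from hLdvd)
    have h4 : Nat.card (Sylow 5 L) ∈ Nat.divisors 119 := by
      rw [Nat.mem_divisors]; exact ⟨h2.trans h3, by norm_num⟩
    have h5 : Nat.divisors 119 = {1, 7, 17, 119} := by decide +kernel
    rw [h5] at h4
    simp only [Finset.mem_insert, Finset.mem_singleton] at h4
    rcases h4 with h | h | h | h
    · exact h
    all_goals (rw [h] at h1; exact absurd h1 (by decide))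
  haveI hRn : (R : Subgroup L).Normal := by
    haveI : Subsingleton (Sylow 5 L) := (Nat.card_eq_one_iff_unique.mp hn5).1
    infer_instance
  haveI hRcyc : IsCyclic (R : Subgroup L) := isCyclic_of_prime_card hR5
  have hact : (MulAut.conjNormal (⟨s, hsL⟩ : L) : MulAut (R : Subgroup L)) = 1 := by
    have h1 : orderOf (MulAut.conjNormal (⟨s, hsL⟩ : L) : MulAut (R : Subgroup L)) ∣ 17 := by
      have := orderOf_map_dvd (MulAut.conjNormal : L →* MulAut (R : Subgroup L)) ⟨s, hsL⟩
      rwa [Subgroup.orderOf_mk, hso] at this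
    have h2 : orderOf (MulAut.conjNormal (⟨s, hsL⟩ : L) : MulAut (R : Subgroup L)) ∣ 4 := by
      have := orderOf_dvd_natCard (MulAut.conjNormal (⟨s, hsL⟩ : L) : MulAut (R : Subgroup L))
      rwa [IsCyclic.card_mulAut, hR5, Nat.totient_prime (by norm_num)] at this
    have h3 := Nat.dvd_gcd h1 h2
    rw [show Nat.gcd 17 4 = 1 by norm_num, Nat.dvd_one, orderOf_eq_one_iff] at h3
    exact h3
  have hfin : 5 ∣ 34 := by
    have h1 : ((R : Subgroup L).map L.subtype) ≤ centralizer ({s} : Set φ.range) := by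
      rintro _ ⟨r, hr, rfl⟩
      rw [mem_centralizer_singleton_iff]
      have h2 := congrArg (fun F : MulAut (R : Subgroup L) => ((F ⟨r, hr⟩ : (R : Subgroup L)) : L)) hact
      simp only [MulAut.conjNormal_apply, MulAut.one_apply] at h2
      have h3 := congrArg Subtype.val (mul_inv_eq_iff_eq_mul.mp h2)
      exact h3.symm
    have h2 := (card_dvd_of_le h1).trans hC34
    rw [← Nat.card_congr ((R : Subgroup L).equivMapOfInjective _ (subtype_injective _)).toEquiv, hR5] at h2
    exact h2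
  revert hfin
  decide

end Cfsg.Agent.S4236
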