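import Cfsg.Statements.S4238
import Cfsg.Agent.LibH2JG2
import Cfsg.Agent.LibTransPC

set_option autoImplicit false
open Cfsg

namespace Cfsg.Agent.S4238

open Subgroup Cfsg CfsgLib.H2JG
open scoped Pointwise commutatorElement


/-- Let G be a finite group and p a prime. Then G has a normal p-complement if and only if every section K = H/N of G (N a normal subgroup of a subgroup H) whose largest normal subgroup of order prime to p is trivial contains an element whose order equals the exponent of K. -/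
theorem result {G : Type*} [Group G] [Finite G] (p : ℕ) [Fact p.Prime] :
    Cfsg.HasNormalPComplement p G ↔
      ∀ (H : Subgroup G) (N : Subgroup H) [N.Normal], Cfsg.pPrimeCore p (H ⧸ N) = ⊥ →
        ∃ k : H ⧸ N, orderOf k = Monoid.exponent (H ⧸ N) := by
  constructor
  · intro h H N _ hcore
    have h1 : HasNormalPComplement p (H ⧸ N) := CfsgLib.Npc9.hnpc_quotient N (CfsgLib.Npc9.hnpc_subgroup H h)
    obtain ⟨k, hk⟩ := CfsgLib.Npc9.hnpc_iff_pPrimeCore.mp h1
    rw [hcore, index_bot] at hk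
    have hK : IsPGroup p (H ⧸ N) := IsPGroup.of_card hk
    obtain ⟨x, hx⟩ := Finite.exists_max (fun x : H ⧸ N => orderOf x)
    refine ⟨x, ?_⟩
    apply Nat.dvd_antisymm (Monoid.order_dvd_exponent x)
    apply Monoid.exponent_dvd_of_forall_pow_eq_one
    intro y
    rw [← orderOf_dvd_iff_pow_eq_one]
    obtain ⟨i, hi⟩ := IsPGroup.iff_orderOf.mp hK x
    obtain ⟨j, hj⟩ := IsPGroup.iff_orderOf.mp hK y
    have h2 := hx y
    rw [hi, hj] at h2 ⊢
    exact pow_dvd_pow p ((Nat.pow_le_pow_iff_right (Fact.out (p := p.Prime)).one_lt).mp h2)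
  · intro hsec
    by_contra hno
    obtain ⟨P⟩ : Nonempty (Sylow p G) := inferInstance
    have h1 : ¬ ∃ N : Subgroup G, N.Normal ∧ N.IsComplement' (P : Subgroup G) := by
      rintro ⟨N, hN⟩
      exact hno ⟨P, N, hN⟩
    rw [CfsgLib.TransPC.exists_complement_iff P, CfsgLib.TransPC.frobenius_iff P] at h1
    push Not at h1
    obtain ⟨Q0, hQ0, g0, hg0, hc0, hn0⟩ := h1
    let Pr : Subgroup G × G → Prop := fun t => IsPGroup p t.1 ∧ t.2 ∈ normalizer (t.1 : Set G) ∧
      (orderOf t.2).Coprime p ∧ ¬ ∀ x ∈ t.1, t.2 * x = x * t.2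
    haveI : Nonempty {t // Pr t} := ⟨⟨(Q0, g0), P.isPGroup'.to_le hQ0, hg0, hc0, fun h => hn0
      (mem_centralizer_iff.mpr (fun x hx => (h x hx).symm))⟩⟩
    obtain ⟨⟨⟨Q, g⟩, hQ, hg, hcop, hgQ⟩, hmin⟩ := Finite.exists_min (fun t : {t // Pr t} => Nat.card t.1.1 + orderOf t.1.2)
    have hg1 : orderOf g ≠ 1 := by
      intro h
      rw [orderOf_eq_one_iff] at h
      apply hgQ
      intro x _
      show g * x = x * g
      rw [h]; simp
    obtain ⟨q, hq, hqg⟩ := Nat.exists_prime_and_dvd hg1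
    have M : MinP p Q g q := by
      refine ⟨hQ, hg, hcop, hgQ, ?_, hq, hqg, ?_⟩
      · intro Y hY hgY hne
        by_contra hcon
        have h2 := hmin ⟨(Y, g), hQ.to_le hY, hgY, hcop, hcon⟩
        have h3 : Nat.card Q ≤ Nat.card Y := Nat.le_of_add_le_add_right h2
        exact hne (eq_of_le_of_card_ge hY h3)
      · by_contra hcon
        have h2 := hmin ⟨(Q, g ^ q), hQ, pow_mem hg q, Nat.Coprime.coprime_dvd_left (orderOf_pow_dvd q) hcop, hcon⟩
        have h3 : orderOf g ≤ orderOf (g ^ q) := Nat.le_of_add_le_add_left h2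
        rw [orderOf_pow_of_dvd hq.ne_zero hqg] at h3
        have h4 := Nat.div_lt_self (orderOf_pos g) hq.one_lt
        exact absurd h3 (not_le.mpr h4)
    obtain ⟨H, N, hN, hK, hnk⟩ := M.sec
    haveI := hN
    exact hnk (hsec H N hK)

end Cfsg.Agent.S4238
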