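import Cfsg.Statements.S4249
import Mathlib
import Cfsg.Agent.LibH6Hughes

set_option autoImplicit false
open Cfsg

namespace Cfsg.Agent.S4249

/-- Let G be a finite group and p a prime such that G is not a p-group, and suppose the Hughes subgroup H_p(G), generated by all elements g with g^p ≠ 1, is a proper subgroup. Then H_p(G) is nilpotent and has index p in G. -/
theorem result {G : Type*} [Group G] [Finite G] (p : ℕ) (hp : p.Prime) (hG : ¬ IsPGroup p G)
    (hH : Subgroup.closure {g : G | g ^ p ≠ 1} ≠ ⊤) :
    Group.IsNilpotent (Subgroup.closure {g : G | g ^ p ≠ 1}) ∧ (Subgroup.closure {g : G | g ^ p ≠ 1}).index = p := by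
  have : Fact p.Prime := ⟨hp⟩
  have hpair : CfsgLib.H6.HughesPair p (Subgroup.closure {g : G | g ^ p ≠ 1}) := by
    refine ⟨?_, hH, ?_⟩
    · refine ⟨fun n hn g => ?_⟩
      induction hn using Subgroup.closure_induction with
      | mem x hx =>
        apply Subgroup.subset_closure
        show (g * x * g⁻¹) ^ p ≠ 1
        rw [conj_pow]
        intro h0
        apply hx
        have e : g⁻¹ * (g * x ^ p * g⁻¹) * g = x ^ p := by group
        rw [← e, h0]; group
      | one => simp
      | mul x y _ _ hx hy =>
        have e : g * (x * y) * g⁻¹ = (g * x * g⁻¹) * (g * y * g⁻¹) := by group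
        rw [e]; exact mul_mem hx hy
      | inv x _ hx =>
        have e : g * x⁻¹ * g⁻¹ = (g * x * g⁻¹)⁻¹ := by group
        rw [e]; exact inv_mem hx
    · intro g hg
      by_contra hne
      exact hg (Subgroup.subset_closure hne)
  by_cases hp2 : p = 2
  · subst hp2
    exact CfsgLib.H6.hughes_two G _ hpair hG
  · exact CfsgLib.H6.hughes_odd hp2 G _ hpair hG

end Cfsg.Agent.S4249
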