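import Cfsg.Statements.S4292
import Mathlib
import Cfsg.Agent.LibH6LiftD

set_option autoImplicit false
open Cfsg

namespace Cfsg.Agent.S4292

/-- Let A and B be nontrivial finite groups. Then the direct product A × B occurs as a Frobenius complement if and only if A and B both occur as Frobenius complements and the orders of A and B are coprime. -/
theorem result {A B : Type*} [Group A] [Finite A] [Nontrivial A] [Group B] [Finite B] [Nontrivial B] :
    (∃ (L : Type) (_ : Group L) (_ : Finite L) (H : Subgroup L), Cfsg.IsFrobeniusComplement H ∧ Nonempty ((A × B) ≃* H)) ↔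
    ((∃ (L : Type) (_ : Group L) (_ : Finite L) (H : Subgroup L), Cfsg.IsFrobeniusComplement H ∧ Nonempty (A ≃* H)) ∧
     (∃ (L : Type) (_ : Group L) (_ : Finite L) (H : Subgroup L), Cfsg.IsFrobeniusComplement H ∧ Nonempty (B ≃* H)) ∧
     (Nat.card A).Coprime (Nat.card B)) := by
  classical
  constructor
  · intro h
    obtain ⟨q, hq, hr⟩ := CfsgLib.H6Lift.rq_of_FC h
    refine ⟨CfsgLib.H6Lift.FC_of_rq hq (hr.of_injective (MonoidHom.inl A B) (fun a b hab => congrArg Prod.fst hab)),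
      CfsgLib.H6Lift.FC_of_rq hq (hr.of_injective (MonoidHom.inr A B) (fun a b hab => congrArg Prod.snd hab)), ?_⟩
    by_contra hcop
    obtain ⟨p, hp, hpA, hpB⟩ := Nat.Prime.not_coprime_iff_dvd.mp hcop
    haveI : Fact p.Prime := ⟨hp⟩
    obtain ⟨a, ha⟩ := exists_prime_orderOf_dvd_card' p hpA
    obtain ⟨b, hb⟩ := exists_prime_orderOf_dvd_card' p hpB
    have hfpf := CfsgLib.H6Zas.isFpf_of_FC h
    have hap : a ^ p = 1 := by rw [← ha]; exact pow_orderOf_eq_one a
    have hbp : b ^ p = 1 := by rw [← hb]; exact pow_orderOf_eq_one b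
    have h1 := hfpf.comm_prime hp (c := (a, (1 : B))) (x := ((1 : A), b))
      (by rw [Prod.pow_mk, hap, one_pow]; rfl)
      (by
        intro h0
        have h2 : a = 1 := congrArg Prod.fst h0
        rw [h2, orderOf_one] at ha
        exact hp.one_lt.ne ha)
      (by rw [Prod.pow_mk, hbp, one_pow]; rfl)
      (by rw [Prod.mk_mul_mk, Prod.mk_mul_mk, mul_one, one_mul, one_mul, mul_one])
    obtain ⟨k, hk⟩ := Subgroup.mem_zpowers_iff.mp h1
    have h3 : ((a, (1 : B)) ^ k).2 = b := by rw [hk]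
    have h4 : ((a, (1 : B)) ^ k).2 = 1 := by
      rw [Prod.pow_snd, one_zpow]
    rw [h4] at h3
    rw [← h3, orderOf_one] at hb
    exact hp.one_lt.ne hb
  · rintro ⟨hA, hB, hcop⟩
    obtain ⟨q1, hq1, hr1⟩ := CfsgLib.H6Lift.rq_of_FC hA
    obtain ⟨q2, hq2, hr2⟩ := CfsgLib.H6Lift.rq_of_FC hB
    obtain ⟨q, hq, hqp⟩ := Nat.exists_infinite_primes (Nat.card A + Nat.card B + 1)
    have hA' : ¬ q ∣ Nat.card A := fun h => by
      have := Nat.le_of_dvd Nat.card_pos h
      omega
    have hB' : ¬ q ∣ Nat.card B := fun h => by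
      have := Nat.le_of_dvd Nat.card_pos h
      omega
    exact CfsgLib.H6Lift.FC_of_rq hqp (CfsgLib.H6Lift.rq_prod hqp
      (CfsgLib.H6Lift.zf_rq (CfsgLib.H6Lift.zf_of_rq hq1 hr1) hqp hA')
      (CfsgLib.H6Lift.zf_rq (CfsgLib.H6Lift.zf_of_rq hq2 hr2) hqp hB') hcop)

end Cfsg.Agent.S4292
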