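import Cfsg.Statements.S4295
import Cfsg.Agent.LibQ8Frob
import Cfsg.Agent.LibH6ZasU
import Cfsg.Agent.LibFrob6

set_option autoImplicit false
open Cfsg

namespace Cfsg.Agent.S4295

/-- For a natural number m the following are equivalent: (a) some finite group has a Frobenius complement isomorphic to the quaternion group of order 8 whose Frobenius kernel (the identity together with the elements lying in no conjugate of the complement) has exactly m elements; (b) m is an odd perfect square greater than 1. -/
theorem result (m : ℕ) :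
    (∃ (L : Type) (_ : Group L) (_ : Finite L) (H : Subgroup L), Cfsg.IsFrobeniusComplement H ∧
        Nonempty (H ≃* QuaternionGroup 2) ∧ Nat.card (Cfsg.frobeniusKernel H) = m) ↔
    (Odd m ∧ IsSquare m ∧ 1 < m) := by
  constructor
  · rintro ⟨L, _, _, H, hF, ⟨e⟩, rfl⟩
    obtain ⟨h1, h2⟩ := CfsgLib.H6Zas.kernel_square H hF (by
      have hcard : Nat.card H = 2 ^ 3 := by
        rw [Nat.card_congr e.toEquiv, Nat.card_eq_fintype_card]
        rfl
      haveI : Fact (Nat.Prime 2) := ⟨Nat.prime_two⟩
      obtain ⟨P⟩ : Nonempty (Sylow 2 H) := inferInstance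
      refine ⟨2, inferInstance, P, fun hc => ?_⟩
      have htop : IsPGroup 2 (⊤ : Subgroup H) :=
        (IsPGroup.of_card hcard).of_equiv Subgroup.topEquiv.symm
      have hP : (⊤ : Subgroup H) = P := P.is_maximal' htop le_top
      have hc' : IsCyclic (P : Subgroup H) := hc
      rw [← hP] at hc'
      have hH : IsCyclic H := isCyclic_of_surjective Subgroup.topEquiv Subgroup.topEquiv.surjective
      have hQ : IsCyclic (QuaternionGroup 2) := isCyclic_of_surjective e e.surjective
      have hcomm : ∀ a b : QuaternionGroup 2, a * b = b * a :=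
        fun a b => (IsCyclic.commGroup (α := QuaternionGroup 2)).mul_comm a b
      revert hcomm
      decide)
    refine ⟨h1, h2, ?_⟩
    rw [CfsgLib.Frob6.card_kernel H hF.2.2]
    have h3 : H.index ≠ 1 := fun h => hF.2.1 (Subgroup.index_eq_one.1 h)
    have h4 : H.index ≠ 0 := Subgroup.index_ne_zero_of_finite
    omega
  · rintro ⟨h1, ⟨r, rfl⟩, h2⟩
    refine Cfsg.Agent.LibQ8Frob.exists_frob r (Nat.odd_mul.1 h1).1 ?_
    nlinarith

end Cfsg.Agent.S4295
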