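import Cfsg.Statements.S4347
import Mathlib

set_option autoImplicit false
open Cfsg

namespace Cfsg.Agent.S4347


/-- Let G be a finite group and p a prime. Say a Sylow p-subgroup Q is redundant when every element of p-power order lies in some Sylow p-subgroup other than Q. Then G has no redundant Sylow p-subgroup if and only if some element of p-power order lies in exactly one Sylow p-subgroup. -/
theorem result {G : Type*} [Group G] [Finite G]
    (p : ℕ) [Fact p.Prime] :
    (¬ ∃ Q : Sylow p G, ∀ x : G, (∃ k : ℕ, orderOf x = p ^ k) → ∃ P : Sylow p G, P ≠ Q ∧ x ∈ P) ↔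
      ∃ x : G, (∃ k : ℕ, orderOf x = p ^ k) ∧ ∃! P : Sylow p G, x ∈ P := by
  constructor
  · intro h
    obtain ⟨Q⟩ : Nonempty (Sylow p G) := inferInstance
    push Not at h
    obtain ⟨x, hx, hxP⟩ := h Q
    refine ⟨x, hx, Q, ?_, ?_⟩
    · have hz : IsPGroup p (Subgroup.zpowers x) := by
        obtain ⟨k, hk⟩ := hx
        exact IsPGroup.of_card (n := k) (by rw [Nat.card_zpowers, hk])
      obtain ⟨R, hR⟩ := hz.exists_le_sylow
      have hxR : x ∈ R := hR (Subgroup.mem_zpowers x)
      by_cases hRQ : R = Q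
      · rw [hRQ] at hxR; exact hxR
      · exact absurd hxR (hxP R hRQ)
    · intro R hR
      by_contra hRQ
      exact hxP R hRQ hR
  · rintro ⟨x, hx, P0, hP0, huniq⟩ ⟨Q, hQ⟩
    obtain ⟨g, hg⟩ := MulAction.exists_smul_eq G P0 Q
    have hord : ∃ k : ℕ, orderOf (g * x * g⁻¹) = p ^ k := by
      obtain ⟨k, hk⟩ := hx
      refine ⟨k, ?_⟩
      rw [← MulAut.conj_apply, ← hk]
      exact MulEquiv.orderOf_eq (MulAut.conj g) x
    obtain ⟨R, hRQ, hxR⟩ := hQ _ hord
    have h1 : x ∈ (g⁻¹ • R : Sylow p G) := by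
      change x ∈ ((g⁻¹ • R : Sylow p G) : Subgroup G)
      rw [Sylow.coe_subgroup_smul, Subgroup.mem_pointwise_smul_iff_inv_smul_mem]
      have hxR' : g * x * g⁻¹ ∈ (R : Subgroup G) := hxR
      simpa using hxR'
    have h2 := huniq _ h1
    apply hRQ
    rw [← hg, ← h2, smul_inv_smul]

end Cfsg.Agent.S4347
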