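import Cfsg.Statements.S4348
import Mathlib
import Cfsg.Agent.LibH7Basic

set_option autoImplicit false
open Cfsg

namespace Cfsg.Agent.S4348

open CfsgLib.H7

/-- Let G be a finite group, p a prime and P a Sylow p-subgroup of G, and let O_p(G) be the largest normal p-subgroup of G. If P/O_p(G) is cyclic, then some element of p-power order of G lies in exactly one Sylow p-subgroup. -/
theorem result {G : Type*} [Group G] [Finite G]
    (p : ℕ) [Fact p.Prime] (P : Sylow p G)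
    [hn : ((Cfsg.pCore p G).subgroupOf (P : Subgroup G)).Normal]
    (hc : IsCyclic ((P : Subgroup G) ⧸ (Cfsg.pCore p G).subgroupOf (P : Subgroup G))) :
    ∃ x : G, (∃ k : ℕ, orderOf x = p ^ k) ∧ ∃! Q : Sylow p G, x ∈ Q := by
  obtain ⟨⟨g, hgen⟩⟩ := hc
  obtain ⟨⟨x, hx⟩, rfl⟩ := QuotientGroup.mk_surjective g
  have hord : ∃ k : ℕ, orderOf x = p ^ k := by
    obtain ⟨k, hk⟩ := (IsPGroup.iff_orderOf.mp P.isPGroup') ⟨x, hx⟩
    exact ⟨k, by rw [← hk, Subgroup.orderOf_mk]⟩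
  refine ⟨x, hord, P, hx, ?_⟩
  intro Q hQ
  haveI := pCore_normal (G := G) p
  have hcore : Cfsg.pCore p G ≤ Q := (pCore_isPGroup (G := G) p).le_sylow_of_normal Q
  have hle : (P : Subgroup G) ≤ Q := by
    intro y hy
    obtain ⟨n, hn⟩ := Subgroup.mem_zpowers_iff.mp (hgen (QuotientGroup.mk ⟨y, hy⟩))
    rw [← QuotientGroup.mk_zpow, QuotientGroup.eq] at hn
    have h1 : ((⟨x, hx⟩ : (P : Subgroup G)) ^ n)⁻¹ * ⟨y, hy⟩ ∈
      (Cfsg.pCore p G).subgroupOf (P : Subgroup G) := hn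
    rw [Subgroup.mem_subgroupOf] at h1
    have h2 : (x ^ n)⁻¹ * y ∈ Cfsg.pCore p G := by simpa using h1
    have h3 := hcore h2
    have h4 : x ^ n ∈ (Q : Subgroup G) := Subgroup.zpow_mem _ hQ n
    have : y = x ^ n * ((x ^ n)⁻¹ * y) := by group
    rw [this]
    exact Subgroup.mul_mem _ h4 h3
  exact Sylow.ext (P.is_maximal' Q.isPGroup' hle)

end Cfsg.Agent.S4348
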