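import Cfsg.Statements.S4349
import Mathlib

set_option autoImplicit false
open Cfsg

namespace Cfsg.Agent.S4349

universe u v

theorem exists_mu {Q : Type u} [Group Q] [Finite Q] (hQ : IsPGroup 2 Q) : ∀ n : ℕ, ∀ (α : Type v) [Finite α] [MulAction Q α],
    Nat.card α = n →
    ∃ μ : α → α, (∀ a, μ (μ a) = a) ∧ (∀ a b, μ a = a → μ b = b → a = b) ∧ ∀ (q : Q) (a : α), μ (q • a) = q • μ a := by
  intro n
  induction n using Nat.strong_induction_on with
  | _ n ih =>
  intro α _ _ hn
  classical
  by_cases hσ : ∃ σ : α → α, (∀ a, σ (σ a) = a) ∧ (∃ a, σ a ≠ a) ∧ ∀ (q : Q) (a : α), σ (q • a) = q • σ a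
  · obtain ⟨σ, h1, ⟨a0, ha0⟩, h2⟩ := hσ
    letI act : MulAction Q {a : α // σ a = a} :=
      { smul := fun q a => ⟨q • (a : α), by rw [h2, a.2]⟩
        one_smul := fun a => Subtype.ext (one_smul Q (a : α))
        mul_smul := fun q r a => Subtype.ext (mul_smul q r (a : α)) }
    have hcard : Nat.card {a : α // σ a = a} < n := by
      rw [← hn]
      haveI := Fintype.ofFinite α
      rw [Nat.card_eq_fintype_card, Nat.card_eq_fintype_card]
      exact Fintype.card_subtype_lt (p := fun a => σ a = a) ha0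
    obtain ⟨μ, h3, h4, h5⟩ := ih _ hcard {a : α // σ a = a} rfl
    obtain ⟨f, hf⟩ : ∃ f : α → α, f = fun a => if h : σ a = a then ((μ ⟨a, h⟩ : {a : α // σ a = a}) : α) else σ a := ⟨_, rfl⟩
    have hfp : ∀ a (h : σ a = a), f a = μ ⟨a, h⟩ := fun a h => by rw [hf]; exact dif_pos h
    have hfn : ∀ a (h : σ a ≠ a), f a = σ a := fun a h => by rw [hf]; exact dif_neg h
    refine ⟨f, ?_, ?_, ?_⟩
    · intro a
      by_cases h : σ a = a
      · rw [hfp a h, hfp _ (μ ⟨a, h⟩).2]
        exact congrArg Subtype.val (h3 ⟨a, h⟩)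
      · rw [hfn a h, hfn (σ a) (by rw [h1]; exact fun h' => h h'.symm), h1]
    · intro a b ha hb
      have key : ∀ c, f c = c → ∃ h : σ c = c, μ ⟨c, h⟩ = ⟨c, h⟩ := by
        intro c hc
        by_cases h : σ c = c
        · rw [hfp c h] at hc
          exact ⟨h, Subtype.ext hc⟩
        · rw [hfn c h] at hc
          exact absurd hc h
      obtain ⟨h6, h7⟩ := key a ha
      obtain ⟨h8, h9⟩ := key b hb
      exact congrArg Subtype.val (h4 _ _ h7 h9)
    · intro q a
      by_cases h : σ a = a
      · have h' : σ (q • a) = q • a := by rw [h2, h]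
        rw [hfp a h, hfp _ h']
        exact congrArg Subtype.val (h5 q ⟨a, h⟩)
      · have h' : σ (q • a) ≠ q • a := by
          rw [h2]
          intro h'
          exact h (smul_left_cancel q h')
        rw [hfn a h, hfn _ h', h2]
  · have hsub : ∀ a b : α, a = b := by
      by_contra hcon
      push Not at hcon
      obtain ⟨a, b, hab⟩ := hcon
      by_cases htriv : ∀ (q : Q) (c : α), q • c = c
      · apply hσ
        refine ⟨Equiv.swap a b, fun c => Equiv.swap_apply_self a b c, ⟨a, ?_⟩, fun q c => by rw [htriv, htriv]⟩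
        rw [Equiv.swap_apply_left]; exact hab.symm
      · push Not at htriv
        obtain ⟨q, c, hqc⟩ := htriv
        have hR : IsPGroup 2 (MulAction.toPermHom Q α).range := hQ.of_surjective _ (MulAction.toPermHom Q α).rangeRestrict_surjective
        haveI : Nontrivial (MulAction.toPermHom Q α).range := by
          refine ⟨⟨⟨MulAction.toPermHom Q α q, q, rfl⟩, 1, fun h => hqc ?_⟩⟩
          have h1 : MulAction.toPermHom Q α q = 1 := congrArg Subtype.val h
          have h2 := congrArg (fun g : Equiv.Perm α => g c) h1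
          exact h2
        haveI := hR.center_nontrivial
        have hC : IsPGroup 2 (Subgroup.center (MulAction.toPermHom Q α).range) := hR.to_subgroup _
        have h2 : 2 ∣ Nat.card (Subgroup.center (MulAction.toPermHom Q α).range) := by
          rcases hC.card_eq_or_dvd with h | h
          · exact absurd h Finite.one_lt_card.ne'
          · exact h
        obtain ⟨⟨⟨_, z, rfl⟩, hzc⟩, hz⟩ := exists_prime_orderOf_dvd_card' 2 h2
        apply hσ
        have hz2 : MulAction.toPermHom Q α z ^ 2 = 1 := by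
          have := pow_orderOf_eq_one (⟨⟨MulAction.toPermHom Q α z, z, rfl⟩, hzc⟩ : Subgroup.center (MulAction.toPermHom Q α).range)
          rw [hz] at this
          exact congrArg (fun g => ((g : (MulAction.toPermHom Q α).range) : Equiv.Perm α)) (congrArg Subtype.val this)
        have hz1 : MulAction.toPermHom Q α z ≠ 1 := by
          intro h
          have : (⟨⟨MulAction.toPermHom Q α z, z, rfl⟩, hzc⟩ : Subgroup.center (MulAction.toPermHom Q α).range) = 1 :=
            Subtype.ext (Subtype.ext h)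
          rw [this, orderOf_one] at hz
          omega
        refine ⟨fun a => z • a, fun a => ?_, ?_, fun q a => ?_⟩
        · have := congrArg (fun g : Equiv.Perm α => g a) hz2
          rw [pow_two] at this
          exact this
        · by_contra hcon
          push Not at hcon
          exact hz1 (Equiv.ext hcon)
        · have h3 := Subgroup.mem_center_iff.1 hzc ⟨MulAction.toPermHom Q α q, q, rfl⟩
          have h4 : MulAction.toPermHom Q α q * MulAction.toPermHom Q α z = MulAction.toPermHom Q α z * MulAction.toPermHom Q α q :=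
            congrArg Subtype.val h3
          have h5 := congrArg (fun g : Equiv.Perm α => g a) h4
          exact h5.symm
    exact ⟨id, fun a => rfl, fun a b _ _ => hsub a b, fun q a => rfl⟩

theorem per_iff {α : Type u} (x : Equiv.Perm α) (a : α) (j : ℕ) : (x ^ j) a = a ↔ Function.minimalPeriod x a ∣ j := by
  rw [← Function.isPeriodicPt_iff_minimalPeriod_dvd, Function.IsPeriodicPt, Function.IsFixedPt, Equiv.Perm.iterate_eq_pow]

def Good {α : Type u} (x : Equiv.Perm α) : Prop :=
  (∀ a b, x a ≠ a → (∀ i : ℕ, (x ^ i) a = a ↔ (x ^ i) b = b) → ∃ i : ℕ, (x ^ i) a = b) ∧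
  (∀ a b c, x a = a → x b = b → x c = c → a = b ∨ b = c ∨ a = c)

theorem mu_pow {α : Type u} {x : Equiv.Perm α} {μ : α → α} (h3 : ∀ a, μ (x a) = x (μ a)) (i : ℕ) (a : α) :
    μ ((x ^ i) a) = (x ^ i) (μ a) := by
  induction i generalizing a with
  | zero => rfl
  | succ i ih =>
    rw [pow_succ, Equiv.Perm.mul_apply, ih, h3, Equiv.Perm.mul_apply]

theorem mu_moved {α : Type u} {x : Equiv.Perm α} (hG : Good x) {K : ℕ} (hx : x ^ (2 ^ K) = 1) {μ : α → α}
    (h1 : ∀ a, μ (μ a) = a) (h2 : ∀ a b, μ a = a → μ b = b → a = b) (h3 : ∀ a, μ (x a) = x (μ a)) (a : α) (ha : x a ≠ a) :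
    ∃ h : ℕ, 0 < h ∧ Function.minimalPeriod x a = 2 * h ∧ μ a = (x ^ h) a ∧ μ a ≠ a := by
  have hμa : μ a ≠ a := by
    intro h
    apply ha
    apply h2 _ _ _ h
    rw [h3, h]
  obtain ⟨i, hi⟩ := hG.1 a (μ a) ha (by
    intro i
    rw [← mu_pow h3]
    constructor
    · intro h; rw [h]
    · intro h
      have := congrArg μ h
      rwa [h1, h1] at this)
  have hi2 : (x ^ (2 * i)) a = a := by
    rw [two_mul, pow_add, Equiv.Perm.mul_apply, hi, ← mu_pow h3, hi, h1]
  rw [per_iff] at hi2
  have hi1 : ¬ Function.minimalPeriod x a ∣ i := by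
    rw [← per_iff, hi]; exact hμa
  have hK : Function.minimalPeriod x a ∣ 2 ^ K := by
    rw [← per_iff, hx]; rfl
  obtain ⟨k, hk, hmk⟩ := (Nat.dvd_prime_pow Nat.prime_two).1 hK
  cases k with
  | zero =>
    rw [pow_zero] at hmk
    rw [hmk] at hi1
    exact absurd (one_dvd i) hi1
  | succ k =>
    have hm : Function.minimalPeriod x a = 2 * 2 ^ k := by rw [hmk, pow_succ]; ring
    refine ⟨2 ^ k, by positivity, hm, ?_, hμa⟩
    rw [hm] at hi1 hi2
    have h4 : 2 ^ k ∣ i := Nat.dvd_of_mul_dvd_mul_left (by norm_num) hi2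
    obtain ⟨c, rfl⟩ := h4
    rcases Nat.even_or_odd' c with ⟨d, hd | hd⟩
    · exfalso
      apply hi1
      rw [hd]
      exact ⟨d, by ring⟩
    · have h5 : 2 ^ k * c = 2 ^ k + 2 * 2 ^ k * d := by rw [hd]; ring
      rw [← hi, h5, pow_add, Equiv.Perm.mul_apply]
      congr 1
      rw [per_iff, hm]
      exact dvd_mul_right _ _

theorem mu_fix {α : Type u} {x : Equiv.Perm α} (hG : Good x) {μ : α → α}
    (h1 : ∀ a, μ (μ a) = a) (h2 : ∀ a b, μ a = a → μ b = b → a = b) (h3 : ∀ a, μ (x a) = x (μ a)) (a : α) (ha : x a = a)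
    (hμ : μ a = a) (b : α) (hb : x b = b) : b = a := by
  have hμb : x (μ b) = μ b := by rw [← h3, hb]
  rcases hG.2 a b (μ b) ha hb hμb with h | h | h
  · exact h.symm
  · exact h2 b a h.symm hμ
  · have := congrArg μ h
    rw [h1, hμ] at this
    exact this.symm

theorem mu_unique {α : Type u} {x : Equiv.Perm α} (hG : Good x) {K : ℕ} (hx : x ^ (2 ^ K) = 1) {μ ν : α → α}
    (h1 : ∀ a, μ (μ a) = a) (h2 : ∀ a b, μ a = a → μ b = b → a = b) (h3 : ∀ a, μ (x a) = x (μ a))
    (h1' : ∀ a, ν (ν a) = a) (h2' : ∀ a b, ν a = a → ν b = b → a = b) (h3' : ∀ a, ν (x a) = x (ν a)) (a : α) : μ a = ν a := by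
  by_cases ha : x a = a
  · have hμa : x (μ a) = μ a := by rw [← h3, ha]
    have hνa : x (ν a) = ν a := by rw [← h3', ha]
    by_cases h4 : μ a = a
    · rw [h4]
      exact (mu_fix hG h1 h2 h3 a ha h4 _ hνa).symm
    · by_cases h5 : ν a = a
      · rw [h5]
        exact mu_fix hG h1' h2' h3' a ha h5 _ hμa
      · rcases hG.2 a (μ a) (ν a) ha hμa hνa with h | h | h
        · exact absurd h.symm h4
        · exact h
        · exact absurd h.symm h5
  · obtain ⟨h, -, h4, h5, -⟩ := mu_moved hG hx h1 h2 h3 a ha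
    obtain ⟨h', -, h4', h5', -⟩ := mu_moved hG hx h1' h2' h3' a ha
    have : h = h' := by omega
    rw [h5, h5', this]

theorem main : ∀ n : ℕ, ∀ (α : Type u) [Finite α], Nat.card α = n → ∀ (x : Equiv.Perm α) (K : ℕ), x ^ (2 ^ K) = 1 → Good x →
    ∃ T : Subgroup (Equiv.Perm α), IsPGroup 2 T ∧ ∀ Q : Subgroup (Equiv.Perm α), IsPGroup 2 Q → x ∈ Q → Q ≤ T := by
  intro n
  induction n using Nat.strong_induction_on with
  | _ n ih =>
  intro α _ hn x K hx hG
  classical
  by_cases hsub : Subsingleton α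
  · exact ⟨⊤, fun g => ⟨0, Subsingleton.elim _ _⟩, fun Q _ _ => le_top⟩
  have hmu : ∀ Q : Subgroup (Equiv.Perm α), IsPGroup 2 Q → ∃ μ : α → α, (∀ a, μ (μ a) = a) ∧ (∀ a b, μ a = a → μ b = b → a = b) ∧
      ∀ q ∈ Q, ∀ a, μ (q a) = q (μ a) := by
    intro Q hQ
    obtain ⟨μ, h1, h2, h3⟩ := exists_mu hQ _ α rfl
    exact ⟨μ, h1, h2, fun q hq a => h3 ⟨q, hq⟩ a⟩
  have hzx : IsPGroup 2 (Subgroup.zpowers x) := by
    rintro ⟨g, i, rfl⟩
    refine ⟨K, Subtype.ext ?_⟩
    change (x ^ i) ^ (2 ^ K) = 1
    rw [← zpow_natCast, ← zpow_mul, mul_comm, zpow_mul, zpow_natCast, hx, one_zpow]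
  obtain ⟨μ, h1, h2, h3'⟩ := hmu _ hzx
  have h3 : ∀ a, μ (x a) = x (μ a) := h3' x (Subgroup.mem_zpowers x)
  obtain ⟨C, hC⟩ : ∃ C : Subgroup (Equiv.Perm α), ∀ g, g ∈ C ↔ ∀ a, g (μ a) = μ (g a) := by
    refine ⟨{ carrier := {g | ∀ a, g (μ a) = μ (g a)}, one_mem' := fun a => rfl, mul_mem' := ?_, inv_mem' := ?_ }, fun g => Iff.rfl⟩
    · intro g h hg hh a
      change g (h (μ a)) = μ (g (h a))
      rw [hh a, hg]
    · intro g hg a
      apply g.injective
      have e1 : ∀ b, g (g⁻¹ b) = b := fun b => g.apply_symm_apply b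
      rw [hg, e1, e1]
  have hQC : ∀ Q : Subgroup (Equiv.Perm α), IsPGroup 2 Q → x ∈ Q → Q ≤ C := by
    intro Q hQ hxQ
    obtain ⟨ν, h4, h5, h6⟩ := hmu Q hQ
    have h7 : ∀ a, μ a = ν a := mu_unique hG hx h1 h2 h3 h4 h5 (h6 x hxQ)
    intro q hq
    rw [hC]
    intro a
    rw [h7, h7, h6 q hq]
  have hxC : x ∈ C := hQC _ hzx (Subgroup.mem_zpowers x) (Subgroup.mem_zpowers x)
  let s : Setoid α :=
    { r := fun a b => b = a ∨ b = μ a
      iseqv :=
        { refl := fun a => Or.inl rfl
          symm := by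
            rintro a b (rfl | rfl)
            · exact Or.inl rfl
            · exact Or.inr (h1 a).symm
          trans := by
            rintro a b c (rfl | rfl) (rfl | rfl)
            · exact Or.inl rfl
            · exact Or.inr rfl
            · exact Or.inr rfl
            · exact Or.inl (h1 a) } }
  have hs : ∀ a b : α, (Quotient.mk s a = Quotient.mk s b) ↔ (b = a ∨ b = μ a) := fun a b => Quotient.eq (r := s)
  have hcompat : ∀ g ∈ C, ∀ a b : α, (b = a ∨ b = μ a) → (g b = g a ∨ g b = μ (g a)) := by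
    rintro g hg a b (rfl | rfl)
    · exact Or.inl rfl
    · exact Or.inr ((hC g).1 hg a)
  letI act : MulAction C (Quotient s) :=
    { smul := fun g => Quotient.map (g : Equiv.Perm α) (fun a b h => hcompat g g.2 a b h)
      one_smul := by
        intro a
        induction a using Quotient.inductionOn with
        | _ a => rfl
      mul_smul := by
        intro g h a
        induction a using Quotient.inductionOn with
        | _ a => rfl }
  have hact : ∀ (g : C) (a : α), MulAction.toPermHom C (Quotient s) g (Quotient.mk s a) = Quotient.mk s ((g : Equiv.Perm α) a) := fun g a => rfl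
  have hcard : Nat.card (Quotient s) < n := by
    rw [← hn]
    haveI := Fintype.ofFinite α
    haveI := Fintype.ofFinite (Quotient s)
    rw [Nat.card_eq_fintype_card, Nat.card_eq_fintype_card]
    apply Fintype.card_lt_of_surjective_not_injective (Quotient.mk s) Quotient.mk_surjective
    intro hinj
    apply hsub
    constructor
    intro a b
    have key : ∀ a, μ a = a := fun a => (hinj ((hs a (μ a)).2 (Or.inr rfl))).symm
    exact h2 a b (key a) (key b)
  obtain ⟨X, hX⟩ : ∃ X : Equiv.Perm (Quotient s), X = MulAction.toPermHom C (Quotient s) ⟨x, hxC⟩ := ⟨_, rfl⟩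
  have hXpow : ∀ (i : ℕ) (a : α), (X ^ i) (Quotient.mk s a) = Quotient.mk s ((x ^ i) a) := by
    intro i a
    rw [hX, ← map_pow, hact]; rfl
  have hX1 : ∀ a : α, X (Quotient.mk s a) = Quotient.mk s (x a) := by
    intro a
    rw [hX, hact]
  have hXK : X ^ (2 ^ K) = 1 := by
    ext a
    induction a using Quotient.inductionOn with
    | _ a =>
      rw [hXpow, hx]; rfl
  -- fixed points
  have hff : ∀ a b, x a = a → x b = b → Quotient.mk s a = Quotient.mk s b := by
    intro a b ha hb
    have hμa : x (μ a) = μ a := by rw [← h3, ha]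
    rcases hG.2 a b (μ a) ha hb hμa with h | h | h
    · rw [h]
    · rw [hs]; exact Or.inr h
    · rw [mu_fix hG h1 h2 h3 a ha h.symm b hb]
  have hf2 : ∀ a, X (Quotient.mk s a) = Quotient.mk s a → x a ≠ a → (x a = μ a ∧ Function.minimalPeriod x a = 2) := by
    intro a ha hxa
    rw [hX1, hs] at ha
    rcases ha with h | h
    · exact absurd h.symm hxa
    · have h4 : x a = μ a := by
        have := congrArg μ h
        rw [h1] at this
        exact this.symm
      refine ⟨h4, ?_⟩
      haveI : Fact (Nat.Prime 2) := ⟨Nat.prime_two⟩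
      apply Function.minimalPeriod_eq_prime
      · change x^[2] a = a
        change x (x a) = a
        rw [h4, ← h3, h4, h1]
      · exact hxa
  have hf22 : ∀ a b, X (Quotient.mk s a) = Quotient.mk s a → X (Quotient.mk s b) = Quotient.mk s b → x a ≠ a → x b ≠ b →
      Quotient.mk s a = Quotient.mk s b := by
    intro a b ha hb hxa hxb
    obtain ⟨h4, h5⟩ := hf2 a ha hxa
    obtain ⟨h6, h7⟩ := hf2 b hb hxb
    obtain ⟨i, hi⟩ := hG.1 a b hxa (fun i => by rw [per_iff, per_iff, h5, h7])
    rw [← hi, ← hXpow]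
    clear hi
    induction i with
    | zero => rfl
    | succ i ih => rw [pow_succ, Equiv.Perm.mul_apply, ha]; exact ih
  have hGX : Good X := by
    constructor
    · intro A B hA hAB
      induction A using Quotient.inductionOn with
      | _ a =>
      induction B using Quotient.inductionOn with
      | _ b =>
      have hmov : ∀ c, X (Quotient.mk s c) ≠ Quotient.mk s c → x c ≠ c := by
        intro c hc h
        apply hc
        rw [hX1, h]
      have hB : X (Quotient.mk s b) ≠ Quotient.mk s b := by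
        have := hAB 1
        rw [pow_one] at this
        exact fun h => hA (this.2 h)
      have hret : ∀ c h : ℕ, ∀ d : α, c = c → 0 < h → Function.minimalPeriod x d = 2 * h → μ d = (x ^ h) d →
          ∀ i, (X ^ i) (Quotient.mk s d) = Quotient.mk s d ↔ h ∣ i := by
        intro _ h d _ hpos hper hμ i
        rw [hXpow, hs, mu_pow h3, hμ, ← Equiv.Perm.mul_apply, ← pow_add, eq_comm (a := d), eq_comm (a := d), per_iff, per_iff, hper]
        constructor
        · rintro (h4 | h4)
          · exact (Dvd.intro_left 2 rfl).trans h4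
          · have h5 : h ∣ i + h := (Dvd.intro_left 2 rfl).trans h4
            exact (Nat.dvd_add_left dvd_rfl).1 h5
        · rintro ⟨c, rfl⟩
          rcases Nat.even_or_odd' c with ⟨e, he | he⟩
          · left; rw [he]; exact ⟨e, by ring⟩
          · right; rw [he]; exact ⟨e + 1, by ring⟩
      obtain ⟨h, hp, h4, h5, -⟩ := mu_moved hG hx h1 h2 h3 a (hmov a hA)
      obtain ⟨h', hp', h4', h5', -⟩ := mu_moved hG hx h1 h2 h3 b (hmov b hB)
      have hh : h = h' := by
        apply Nat.dvd_antisymm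
        · exact (hret 0 h a rfl hp h4 h5 h').1 ((hAB h').2 ((hret 0 h' b rfl hp' h4' h5' h').2 dvd_rfl))
        · exact (hret 0 h' b rfl hp' h4' h5' h).1 ((hAB h).1 ((hret 0 h a rfl hp h4 h5 h).2 dvd_rfl))
      obtain ⟨i, hi⟩ := hG.1 a b (hmov a hA) (fun i => by rw [per_iff, per_iff, h4, h4', hh])
      exact ⟨i, by rw [hXpow, hi]⟩
    · intro A B D hA hB hD
      induction A using Quotient.inductionOn with
      | _ a =>
      induction B using Quotient.inductionOn with
      | _ b =>
      induction D using Quotient.inductionOn with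
      | _ d =>
      by_cases ha : x a = a
      · by_cases hb : x b = b
        · exact Or.inl (hff a b ha hb)
        · by_cases hd : x d = d
          · exact Or.inr (Or.inr (hff a d ha hd))
          · exact Or.inr (Or.inl (hf22 b d hB hD hb hd))
      · by_cases hb : x b = b
        · by_cases hd : x d = d
          · exact Or.inr (Or.inl (hff b d hb hd))
          · exact Or.inr (Or.inr (hf22 a d hA hD ha hd))
        · exact Or.inl (hf22 a b hA hB ha hb)
  obtain ⟨T, hT, hTQ⟩ := ih _ hcard (Quotient s) rfl X K hXK hGX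
  refine ⟨(T.comap (MulAction.toPermHom C (Quotient s))).map C.subtype, ?_, ?_⟩
  · apply IsPGroup.map
    rintro ⟨g, hg⟩
    obtain ⟨k, hk⟩ := hT ⟨MulAction.toPermHom C (Quotient s) g, hg⟩
    refine ⟨k + 1, Subtype.ext (Subtype.ext ?_)⟩
    have h4 : MulAction.toPermHom C (Quotient s) (g ^ (2 ^ k)) = 1 := by
      rw [map_pow]; exact congrArg Subtype.val hk
    have h5 : ∀ a, (((g ^ (2 ^ k) : C) : Equiv.Perm α)) ((((g ^ (2 ^ k) : C) : Equiv.Perm α)) a) = a := by
      intro a
      have h6 : Quotient.mk s ((((g ^ (2 ^ k) : C) : Equiv.Perm α)) a) = Quotient.mk s a := by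
        rw [← hact, h4]; rfl
      rw [hs] at h6
      rcases h6 with h | h
      · rw [← h, ← h]
      · have h7 : ((g ^ (2 ^ k) : C) : Equiv.Perm α) a = μ a := by
          have := congrArg μ h
          rw [h1] at this
          exact this.symm
        rw [h7, (hC _).1 (g ^ (2 ^ k) : C).2, h7, h1]
    change ((g : C) : Equiv.Perm α) ^ (2 ^ (k + 1)) = 1
    rw [pow_succ, pow_mul]
    ext a
    rw [pow_two]
    exact h5 a
  · intro Q hQ hxQ q hq
    have hQC' := hQC Q hQ hxQ
    refine ⟨⟨q, hQC' hq⟩, ?_, rfl⟩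
    have h4 : IsPGroup 2 ((Q.subgroupOf C).map (MulAction.toPermHom C (Quotient s))) := (hQ.comap_subtype).map _
    have h5 := hTQ _ h4 ⟨⟨x, hxC⟩, hxQ, hX.symm⟩
    exact h5 ⟨⟨q, hQC' hq⟩, hq, rfl⟩

theorem sup_pgroup {G : Type u} [Group G] (x t : G) (K : ℕ) (hx : x ^ (2 ^ K) = 1) (ht : t * t = 1)
    (hc : ∀ i : ℤ, (x ^ i * t * x ^ (-i)) * t = t * (x ^ i * t * x ^ (-i))) :
    ∃ Q : Subgroup G, IsPGroup 2 Q ∧ x ∈ Q ∧ t ∈ Q := by
  classical
  obtain ⟨E, hE⟩ : ∃ E : Subgroup G, E = Subgroup.closure {t' | ∃ i : ℤ, t' = x ^ i * t * x ^ (-i)} := ⟨_, rfl⟩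
  have hgen : ∀ i : ℤ, x ^ i * t * x ^ (-i) ∈ E := fun i => by rw [hE]; exact Subgroup.subset_closure ⟨i, rfl⟩
  have hcomm : ∀ i j : ℤ, (x ^ i * t * x ^ (-i)) * (x ^ j * t * x ^ (-j)) = (x ^ j * t * x ^ (-j)) * (x ^ i * t * x ^ (-i)) := by
    intro i j
    have h1 := hc (i - j)
    have h2 : x ^ i * t * x ^ (-i) = x ^ j * (x ^ (i - j) * t * x ^ (-(i - j))) * x ^ (-j) := by
      rw [zpow_sub, zpow_neg, zpow_neg, zpow_neg, zpow_sub]
      have : x ^ i * (x ^ j)⁻¹ = (x ^ j)⁻¹ * x ^ i := by
        rw [← zpow_neg, ← zpow_add, ← zpow_add, add_comm]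
      rw [this]; group
    calc (x ^ i * t * x ^ (-i)) * (x ^ j * t * x ^ (-j)) = x ^ j * ((x ^ (i - j) * t * x ^ (-(i - j))) * t) * x ^ (-j) := by
          rw [h2]; group
      _ = x ^ j * (t * (x ^ (i - j) * t * x ^ (-(i - j)))) * x ^ (-j) := by rw [h1]
      _ = _ := by rw [h2]; group
  have hEab : ∀ a ∈ E, ∀ b ∈ E, a * b = b * a := by
    have h1 : ∀ j : ℤ, E ≤ Subgroup.centralizer ({x ^ j * t * x ^ (-j)} : Set G) := by
      intro j
      rw [hE, Subgroup.closure_le]
      rintro _ ⟨i, rfl⟩
      rw [SetLike.mem_coe, Subgroup.mem_centralizer_singleton_iff]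
      exact hcomm i j
    intro a ha b hb
    have h2 : E ≤ Subgroup.centralizer ({a} : Set G) := by
      conv_lhs => rw [hE]
      rw [Subgroup.closure_le]
      rintro _ ⟨i, rfl⟩
      rw [SetLike.mem_coe, Subgroup.mem_centralizer_singleton_iff]
      exact (Subgroup.mem_centralizer_singleton_iff.1 (h1 i ha)).symm
    exact (Subgroup.mem_centralizer_singleton_iff.1 (h2 hb)).symm
  have hE2 : ∀ a ∈ E, a * a = 1 := by
    intro a ha
    rw [hE] at ha
    induction ha using Subgroup.closure_induction with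
    | mem a ha =>
      obtain ⟨i, rfl⟩ := ha
      have : x ^ i * t * x ^ (-i) * (x ^ i * t * x ^ (-i)) = x ^ i * (t * t) * x ^ (-i) := by group
      rw [this, ht]; group
    | one => rw [one_mul]
    | mul a b ha hb iha ihb =>
      rw [← hE] at ha hb
      rw [mul_assoc, ← mul_assoc b, hEab b hb a ha, mul_assoc a b b, ihb, mul_one, iha]
    | inv a ha iha =>
      rw [← mul_inv_rev, iha, inv_one]
  have hEp : IsPGroup 2 E := fun a => ⟨1, by rw [pow_one, pow_two]; exact Subtype.ext (hE2 a a.2)⟩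
  have hxp : IsPGroup 2 (Subgroup.zpowers x) := by
    rintro ⟨g, i, rfl⟩
    refine ⟨K, Subtype.ext ?_⟩
    change (x ^ i) ^ (2 ^ K) = 1
    rw [← zpow_natCast, ← zpow_mul, mul_comm, zpow_mul, zpow_natCast, hx, one_zpow]
  have hn : ∀ y : G, (∃ j : ℤ, y = x ^ j) → ∀ a ∈ E, y * a * y⁻¹ ∈ E := by
    rintro y ⟨j, rfl⟩ a ha
    have h1 : E.map (MulAut.conj (x ^ j)).toMonoidHom ≤ E := by
      conv_lhs => rw [hE]
      rw [MonoidHom.map_closure, Subgroup.closure_le]
      rintro _ ⟨_, ⟨i, rfl⟩, rfl⟩
      change x ^ j * (x ^ i * t * x ^ (-i)) * (x ^ j)⁻¹ ∈ E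
      have h2 : x ^ j * (x ^ i * t * x ^ (-i)) * (x ^ j)⁻¹ = x ^ (j + i) * t * x ^ (-(j + i)) := by
        rw [neg_add_rev, zpow_add, zpow_add, zpow_neg x j]; group
      rw [h2]
      exact hgen _
    exact h1 ⟨a, ha, rfl⟩
  have hnorm : Subgroup.zpowers x ≤ Subgroup.normalizer (E : Set G) := by
    rw [Subgroup.zpowers_le, Subgroup.mem_normalizer_iff]
    intro a
    constructor
    · intro ha
      exact hn x ⟨1, (zpow_one x).symm⟩ a ha
    · intro ha
      have := hn x⁻¹ ⟨-1, by rw [zpow_neg, zpow_one]⟩ _ ha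
      have h2 : x⁻¹ * (x * a * x⁻¹) * x⁻¹⁻¹ = a := by group
      rwa [h2] at this
  refine ⟨Subgroup.zpowers x ⊔ E, hxp.to_sup_of_normal_right' hEp hnorm, Subgroup.mem_sup_left (Subgroup.mem_zpowers x), ?_⟩
  apply Subgroup.mem_sup_right
  have := hgen 0
  rwa [neg_zero, zpow_zero, one_mul, mul_one] at this

theorem swap_conj {α : Type u} [DecidableEq α] (g : Equiv.Perm α) (a b : α) : g * Equiv.swap a b * g⁻¹ = Equiv.swap (g a) (g b) := by
  have e1 : ∀ b, g⁻¹ (g b) = b := fun b => g.symm_apply_apply b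
  rw [mul_inv_eq_iff_eq_mul, Equiv.swap_mul_eq_mul_swap, e1, e1]

theorem three_cycle_contra {n : ℕ} (P : Sylow 2 (Equiv.Perm (Fin n))) (a b c : Fin n) (hab : a ≠ b) (hac : a ≠ c) (hbc : b ≠ c)
    (h1 : Equiv.swap a b ∈ P) (h2 : Equiv.swap a c ∈ P) : False := by
  have h3 := Equiv.Perm.isThreeCycle_swap_mul_swap_same hab hac hbc
  have h4 : Equiv.swap a b * Equiv.swap a c ∈ (P : Subgroup (Equiv.Perm (Fin n))) := mul_mem h1 h2
  obtain ⟨k, hk⟩ := IsPGroup.iff_orderOf.1 P.isPGroup' ⟨_, h4⟩
  rw [Subgroup.orderOf_mk, h3.orderOf] at hk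
  have h5 : 3 ∣ 2 ^ k := by rw [← hk]
  have h6 := Nat.Prime.dvd_of_dvd_pow Nat.prime_three h5
  omega

/-- Let n ≥ 2 and let x be an element of 2-power order of the symmetric group of degree n. Then x lies in exactly one Sylow 2-subgroup if and only if x has at most two fixed points and the nontrivial cycles of x have pairwise different lengths. -/
theorem result (n : ℕ) (hn : 2 ≤ n)
    (x : Equiv.Perm (Fin n)) (hx : ∃ k : ℕ, orderOf x = 2 ^ k) :
    (∃! P : Sylow 2 (Equiv.Perm (Fin n)), x ∈ P) ↔ (n ≤ x.support.card + 2 ∧ x.cycleType.Nodup) := by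
  classical
  obtain ⟨K, hK⟩ := hx
  have hxK : x ^ (2 ^ K) = 1 := by rw [← hK]; exact pow_orderOf_eq_one x
  constructor
  · rintro ⟨P, hxP, huniq⟩
    have hmem : ∀ t : Equiv.Perm (Fin n), t * t = 1 →
        (∀ i : ℤ, (x ^ i * t * x ^ (-i)) * t = t * (x ^ i * t * x ^ (-i))) → t ∈ P := by
      intro t ht hc
      obtain ⟨Q, hQ, hxQ, htQ⟩ := sup_pgroup x t K hxK ht hc
      obtain ⟨P', hP'⟩ := hQ.exists_le_sylow
      have := huniq P' (hP' hxQ)
      rw [← this]
      exact hP' htQ
    have hfix : ∀ a b : Fin n, x a = a → x b = b → Equiv.swap a b ∈ P := by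
      intro a b ha hb
      apply hmem _ (Equiv.swap_mul_self a b)
      intro i
      have h1 : (x ^ i) a = a := Equiv.Perm.zpow_apply_eq_self_of_apply_eq_self ha i
      have h2 : (x ^ i) b = b := Equiv.Perm.zpow_apply_eq_self_of_apply_eq_self hb i
      rw [zpow_neg, swap_conj, h1, h2]
    constructor
    · by_contra hlt
      push Not at hlt
      have h1 : 2 < (x.supportᶜ).card := by
        rw [Finset.card_compl, Fintype.card_fin]; omega
      obtain ⟨a, ha, b, hb, c, hc, hab, hac, hbc⟩ := Finset.two_lt_card.1 h1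
      rw [Finset.mem_compl, Equiv.Perm.notMem_support] at ha hb hc
      exact three_cycle_contra P a b c hab hac hbc (hfix a b ha hb) (hfix a c ha hc)
    · by_contra hnd
      obtain ⟨c1, hc1, c2, hc2, hne, hcard⟩ : ∃ c1 ∈ x.cycleFactorsFinset, ∃ c2 ∈ x.cycleFactorsFinset, c1 ≠ c2 ∧
          c1.support.card = c2.support.card := by
        by_contra hcon
        push Not at hcon
        apply hnd
        rw [Equiv.Perm.cycleType_def]
        apply Multiset.Nodup.map_on _ x.cycleFactorsFinset.nodup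
        intro a ha b hb hab
        by_contra hab'
        exact hcon a ha b hb hab' hab
      have hcy1 := (Equiv.Perm.mem_cycleFactorsFinset_iff.1 hc1)
      have hcy2 := (Equiv.Perm.mem_cycleFactorsFinset_iff.1 hc2)
      obtain ⟨u, hu⟩ := hcy1.1.nonempty_support
      obtain ⟨v, hv⟩ := hcy2.1.nonempty_support
      -- return times
      have hpow : ∀ c ∈ x.cycleFactorsFinset, ∀ w ∈ c.support, ∀ i : ℤ, (x ^ i) w = w ↔ ((c.support.card : ℤ) ∣ i) := by
        intro c hc w hw i
        have hcy := Equiv.Perm.mem_cycleFactorsFinset_iff.1 hc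
        have h1 : c = x.cycleOf w := Equiv.Perm.cycle_is_cycleOf hw hc
        have h2 : (x ^ i) w = (c ^ i) w := by
          rw [h1, Equiv.Perm.cycleOf_zpow_apply_self]
        rw [h2, ← hcy.1.orderOf, orderOf_dvd_iff_zpow_eq_one]
        constructor
        · intro h
          rw [← orderOf_dvd_iff_zpow_eq_one, Int.natCast_dvd, orderOf_dvd_iff_pow_eq_one, hcy.1.pow_eq_one_iff' (Equiv.Perm.mem_support.1 hw)]
          rcases Int.natAbs_eq i with hi | hi
          · rw [hi, zpow_natCast] at h
            exact h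
          · rw [hi, zpow_neg, zpow_natCast] at h
            exact (Equiv.Perm.inv_eq_iff_eq.1 h).symm
        · intro h; rw [h]; rfl
      have hsup : ∀ c ∈ x.cycleFactorsFinset, ∀ w ∈ c.support, ∀ i : ℤ, (x ^ i) w ∈ c.support := by
        intro c hc w hw i
        have h1 : c = x.cycleOf w := Equiv.Perm.cycle_is_cycleOf hw hc
        have h2 : (x ^ i) w = (c ^ i) w := by
          rw [h1, Equiv.Perm.cycleOf_zpow_apply_self]
        rw [h2, Equiv.Perm.zpow_apply_mem_support]
        exact hw
      have hdisj : Disjoint c1.support c2.support := by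
        have := (Equiv.Perm.cycleFactorsFinset_pairwise_disjoint x) hc1 hc2 hne
        exact Equiv.Perm.disjoint_iff_disjoint_support.1 this
      have hneq : ∀ a ∈ c1.support, ∀ b ∈ c2.support, a ≠ b := by
        intro a ha b hb hab
        exact (Finset.disjoint_left.1 hdisj) ha (hab ▸ hb)
      have hsw : ∀ w ∈ c2.support, Equiv.swap u w ∈ P := by
        intro w hw
        apply hmem _ (Equiv.swap_mul_self u w)
        intro i
        rw [zpow_neg, swap_conj]
        by_cases h : (x ^ i) u = u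
        · have h2 : (x ^ i) w = w := by
            rw [hpow c2 hc2 w hw, ← hcard, ← hpow c1 hc1 u hu]; exact h
          rw [h, h2]
        · have h2 : (x ^ i) w ≠ w := by
            intro h2
            apply h
            rw [hpow c1 hc1 u hu, hcard, ← hpow c2 hc2 w hw]; exact h2
          have hu' := hsup c1 hc1 u hu i
          have hw' := hsup c2 hc2 w hw i
          apply Equiv.Perm.Disjoint.commute
          rw [Equiv.Perm.disjoint_iff_disjoint_support, Equiv.Perm.support_swap (hneq _ hu' _ hw'), Equiv.Perm.support_swap (hneq _ hu _ hw)]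
          rw [Finset.disjoint_left]
          intro a ha hb
          simp only [Finset.mem_insert, Finset.mem_singleton] at ha hb
          rcases ha with rfl | rfl <;> rcases hb with h3 | h3
          · exact h h3
          · exact hneq _ hu' _ hw h3
          · exact hneq _ hu _ hw' h3.symm
          · exact h2 h3
      have hv' : x v ∈ c2.support := by
        have := hsup c2 hc2 v hv 1
        rwa [zpow_one] at this
      have hvne : v ≠ x v := by
        intro h
        have h1 : (x ^ (1 : ℤ)) v = v := by rw [zpow_one]; exact h.symm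
        rw [hpow c2 hc2 v hv] at h1
        have h2 := hcy2.1.two_le_card_support
        have h3 : (c2.support.card : ℤ) ≤ 1 := Int.le_of_dvd (by norm_num) h1
        omega
      exact three_cycle_contra P u v (x v) (hneq _ hu _ hv) (hneq _ hu _ hv') hvne (hsw v hv) (hsw _ hv')
  · rintro ⟨hsupp, hnd⟩
    have hG : Good x := by
      constructor
      · intro a b ha hab
        have hb : x b ≠ b := by
          intro hb
          have := (hab 1).2 (by rw [pow_one]; exact hb)
          rw [pow_one] at this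
          exact ha this
        have hord : ∀ c, x c ≠ c → ∀ i : ℕ, orderOf (x.cycleOf c) ∣ i ↔ (x ^ i) c = c := by
          intro c hc i
          have hcy := Equiv.Perm.isCycle_cycleOf x hc
          rw [orderOf_dvd_iff_pow_eq_one, ← Equiv.Perm.cycleOf_pow_apply_self x c i]
          apply hcy.pow_eq_one_iff'
          rw [Equiv.Perm.cycleOf_apply_self]; exact hc
        have h1 : orderOf (x.cycleOf a) = orderOf (x.cycleOf b) := by
          apply Nat.dvd_antisymm
          · rw [hord a ha, hab, ← hord b hb]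
          · rw [hord b hb, ← hab, ← hord a ha]
        rw [(Equiv.Perm.isCycle_cycleOf x ha).orderOf, (Equiv.Perm.isCycle_cycleOf x hb).orderOf] at h1
        rw [Equiv.Perm.cycleType_def] at hnd
        have h2 := Multiset.inj_on_of_nodup_map hnd (x.cycleOf a) (Finset.mem_def.1 (Equiv.Perm.cycleOf_mem_cycleFactorsFinset_iff.2 (Equiv.Perm.mem_support.2 ha)))
          (x.cycleOf b) (Finset.mem_def.1 (Equiv.Perm.cycleOf_mem_cycleFactorsFinset_iff.2 (Equiv.Perm.mem_support.2 hb))) h1
        have h3 : x.SameCycle a b := by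
          rw [← Equiv.Perm.mem_support_cycleOf_iff' ha, h2, Equiv.Perm.mem_support_cycleOf_iff' hb]
        obtain ⟨i, -, hi⟩ := h3.exists_pow_eq'
        exact ⟨i, hi⟩
      · intro a b c ha hb hc
        by_contra hcon
        push Not at hcon
        obtain ⟨hab, hbc, hac⟩ := hcon
        have h1 : 2 < (x.supportᶜ).card := by
          rw [Finset.two_lt_card]
          refine ⟨a, ?_, b, ?_, c, ?_, hab, hac, hbc⟩
          · rw [Finset.mem_compl, Equiv.Perm.notMem_support]; exact ha
          · rw [Finset.mem_compl, Equiv.Perm.notMem_support]; exact hb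
          · rw [Finset.mem_compl, Equiv.Perm.notMem_support]; exact hc
        rw [Finset.card_compl, Fintype.card_fin] at h1
        omega
    obtain ⟨T, hT, hTQ⟩ := main _ (Fin n) rfl x K hxK hG
    have hxp : IsPGroup 2 (Subgroup.zpowers x) := IsPGroup.of_card (n := K) (by rw [Nat.card_zpowers, hK])
    obtain ⟨P, hP⟩ := hxp.exists_le_sylow
    have hxP : x ∈ P := hP (Subgroup.mem_zpowers x)
    refine ⟨P, hxP, fun P' hP' => ?_⟩
    have h1 : (P : Subgroup (Equiv.Perm (Fin n))) ≤ T := hTQ _ P.isPGroup' hxP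
    have h2 : (P' : Subgroup (Equiv.Perm (Fin n))) ≤ T := hTQ _ P'.isPGroup' hP'
    have h3 : T = P := P.is_maximal' hT h1
    have h4 : T = P' := P'.is_maximal' hT h2
    apply Sylow.ext
    rw [← h3, ← h4]

end Cfsg.Agent.S4349
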