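import Cfsg.Statements.S4398
import Mathlib
import Cfsg.Agent.LibH7Sec
import Cfsg.Agent.LibH7Basic
import Cfsg.Agent.S4143
import Cfsg.Agent.S0115
import Cfsg.Agent.S4399

set_option autoImplicit false
open Cfsg

namespace Cfsg.Agent.S4398

open Subgroup

theorem key {S : Type*} [Group S] [Finite S] (h2 : IsPGroup 2 S) (hr : Cfsg.SectionalPRankLE 2 2 S) (H : Subgroup S)
    (hH1 : ∀ a ∈ H, ∀ b ∈ H, ∀ c ∈ H, c * (a * b * a⁻¹ * b⁻¹) = (a * b * a⁻¹ * b⁻¹) * c)
    (hH2 : ∀ a ∈ H, ∀ c ∈ H, c * a ^ 2 = a ^ 2 * c)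
    (hcard : 4 * Nat.card (H ⊓ centralizer (H : Set S) : Subgroup S) ≤ Nat.card H) : centralizer (H : Set S) ≤ H := by
  classical
  by_contra hcon
  obtain ⟨c0, hc0, hc0H⟩ := SetLike.not_le_iff_exists.1 hcon
  obtain ⟨m0, hm0⟩ := h2 c0
  have hex : ∃ m : ℕ, c0 ^ (2 ^ m) ∈ H := ⟨m0, by rw [hm0]; exact H.one_mem⟩
  obtain ⟨c, hcC, hcH, hc2⟩ : ∃ c ∈ centralizer (H : Set S), c ∉ H ∧ c ^ 2 ∈ H := by
    have h1 := Nat.find_spec hex
    have h3 : Nat.find hex ≠ 0 := by
      intro h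
      rw [h, pow_zero, pow_one] at h1
      exact hc0H h1
    obtain ⟨m, hm⟩ := Nat.exists_eq_succ_of_ne_zero h3
    refine ⟨c0 ^ (2 ^ m), Subgroup.pow_mem _ hc0 _, Nat.find_min hex (by omega), ?_⟩
    rw [hm] at h1
    rwa [← pow_mul, ← pow_succ]
  have hcomm : ∀ h ∈ H, h * c = c * h := fun h hh => mem_centralizer_iff.1 hcC h hh
  obtain ⟨Z, hZ⟩ : ∃ Z : Subgroup S, Z = H ⊓ centralizer (H : Set S) := ⟨_, rfl⟩
  rw [← hZ] at hcard
  have hZH : Z ≤ H := by rw [hZ]; exact inf_le_left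
  obtain ⟨N, hN⟩ : ∃ N : Subgroup S, N = centralizer (Z : Set S) := ⟨_, rfl⟩
  have hHN : H ≤ N := by
    intro h hh
    rw [hN, mem_centralizer_iff]
    intro z hz
    rw [hZ] at hz
    exact (mem_centralizer_iff.1 hz.2 h hh).symm
  have hcN : c ∈ N := by
    rw [hN, mem_centralizer_iff]
    intro z hz
    exact hcomm z (hZH hz)
  haveI hKn : (Z.subgroupOf N).Normal := by
    refine ⟨fun z hz g => ?_⟩
    rw [mem_subgroupOf] at hz ⊢
    have h1 : (g : S) * z * (g : S)⁻¹ = z := by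
      have h3 : (g : S) ∈ centralizer (Z : Set S) := by rw [← hN]; exact g.2
      have h4 := mem_centralizer_iff.1 h3 z hz
      rw [← h4, mul_inv_cancel_right]
    change (g : S) * z * (g : S)⁻¹ ∈ Z
    rw [h1]; exact hz
  have hZm : ∀ z ∈ H, (∀ h ∈ H, h * z = z * h) → z ∈ Z := by
    intro z hz h
    rw [hZ]
    exact mem_inf.2 ⟨hz, mem_centralizer_iff.2 h⟩
  obtain ⟨h3, h4⟩ := CfsgLib.H7Sec.closure_elem (Z.subgroupOf N) (p := 2) {u : N | (u : S) ∈ H ∨ (u : S) = c} (by
    rintro a (ha | ha) b (hb | hb)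
    · rw [mem_subgroupOf]
      exact hZm _ (mul_mem (mul_mem (mul_mem ha hb) (inv_mem ha)) (inv_mem hb)) (hH1 a ha b hb)
    · rw [mem_subgroupOf]
      have : ((a * b * a⁻¹ * b⁻¹ : N) : S) = 1 := by
        change (a : S) * b * (a : S)⁻¹ * (b : S)⁻¹ = 1
        rw [hb, hcomm a ha]; group
      rw [this]; exact Z.one_mem
    · rw [mem_subgroupOf]
      have : ((a * b * a⁻¹ * b⁻¹ : N) : S) = 1 := by
        change (a : S) * b * (a : S)⁻¹ * (b : S)⁻¹ = 1
        rw [ha, ← hcomm b hb]; group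
      rw [this]; exact Z.one_mem
    · rw [mem_subgroupOf]
      have : ((a * b * a⁻¹ * b⁻¹ : N) : S) = 1 := by
        change (a : S) * b * (a : S)⁻¹ * (b : S)⁻¹ = 1
        rw [ha, hb]; group
      rw [this]; exact Z.one_mem) (by
    rintro a (ha | ha)
    · rw [mem_subgroupOf]
      exact hZm _ (pow_mem ha 2) (hH2 a ha)
    · rw [mem_subgroupOf]
      have : ((a ^ 2 : N) : S) = c ^ 2 := by
        change (a : S) ^ 2 = c ^ 2
        rw [ha]
      rw [this]
      apply hZm _ hc2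
      intro h hh
      rw [pow_two, ← mul_assoc, hcomm h hh, mul_assoc, hcomm h hh, mul_assoc])
  have h5 := CfsgLib.H7Sec.relIndex_le (CfsgLib.H7Sec.sec_sub hr N) (Z.subgroupOf N) (closure {u : N | (u : S) ∈ H ∨ (u : S) = c}) h3 h4
  have h6 : H.subgroupOf N ≤ closure {u : N | (u : S) ∈ H ∨ (u : S) = c} := fun u hu => subset_closure (Or.inl hu)
  have h7 : Z.subgroupOf N ≤ H.subgroupOf N := Subgroup.comap_mono hZH
  rw [← relIndex_mul_relIndex _ _ _ h7 h6, relIndex_subgroupOf hHN] at h5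
  have h8 : 2 ≤ (H.subgroupOf N).relIndex (closure {u : N | (u : S) ∈ H ∨ (u : S) = c}) := by
    have h9 : (H.subgroupOf N).relIndex (closure {u : N | (u : S) ∈ H ∨ (u : S) = c}) ≠ 0 := Subgroup.index_ne_zero_of_finite
    have h10 : (H.subgroupOf N).relIndex (closure {u : N | (u : S) ∈ H ∨ (u : S) = c}) ≠ 1 := by
      intro h
      rw [relIndex_eq_one] at h
      exact hcH (h (subset_closure (Or.inr rfl : ((⟨c, hcN⟩ : N) : S) ∈ H ∨ ((⟨c, hcN⟩ : N) : S) = c)))
    omega
  have h11 : 4 ≤ Z.relIndex H := by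
    have h12 := CfsgLib.H7.card_mul_relIndex hZH
    have h13 : 0 < Nat.card Z := Nat.card_pos
    by_contra hlt
    push Not at hlt
    have h14 : Nat.card Z * Z.relIndex H < Nat.card Z * 4 := Nat.mul_lt_mul_of_pos_left hlt h13
    omega
  have h15 : 4 * 2 ≤ Z.relIndex H * (H.subgroupOf N).relIndex (closure {u : N | (u : S) ∈ H ∨ (u : S) = c}) := Nat.mul_le_mul h11 h8
  omega

theorem transfer {S : Type*} [Group S] [Finite S] {L : Type} [Group L] (h2 : IsPGroup 2 S) (hr : Cfsg.SectionalPRankLE 2 2 S)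
    (H : Subgroup S) (e : H ≃* L) (hL : Nat.card L = 8)
    (hL1 : ∀ a b c : L, c * (a * b * a⁻¹ * b⁻¹) = (a * b * a⁻¹ * b⁻¹) * c)
    (hL2 : ∀ a c : L, c * a ^ 2 = a ^ 2 * c) (z0 : L) (hL3 : ∀ z : L, (∀ h : L, h * z = z * h) → z = 1 ∨ z = z0)
    (hL4 : ¬ ∀ a b : L, a * b = b * a) :
    ((∃ k : ℕ, Nonempty (S ≃* DihedralGroup (2 ^ (k + 2)))) ∨
      (∃ k : ℕ, Nat.card S = 2 ^ (k + 4) ∧ ∃ a b : S, orderOf a = 2 ^ (k + 3) ∧ orderOf b = 2 ∧ b * a * b⁻¹ = a ^ (2 ^ (k + 2) - 1)) ∨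
      (∃ k : ℕ, Nonempty (S ≃* QuaternionGroup (2 ^ (k + 1))))) := by
  classical
  haveI : Fact (Nat.Prime 2) := ⟨Nat.prime_two⟩
  have hH8 : Nat.card H = 8 := by rw [← hL]; exact Nat.card_congr e.toEquiv
  have hC : centralizer (H : Set S) ≤ H := by
    apply key h2 hr H
    · intro a ha b hb c hc
      have h1 := hL1 (e ⟨a, ha⟩) (e ⟨b, hb⟩) (e ⟨c, hc⟩)
      simp only [← map_mul, ← map_inv] at h1
      exact congrArg Subtype.val (e.injective h1)
    · intro a ha c hc
      have h1 := hL2 (e ⟨a, ha⟩) (e ⟨c, hc⟩)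
      simp only [← map_mul, ← map_pow] at h1
      exact congrArg Subtype.val (e.injective h1)
    · rw [hH8]
      have h1 : Nat.card (H ⊓ centralizer (H : Set S) : Subgroup S) ≤ 2 := by
        have h3 : ((H ⊓ centralizer (H : Set S) : Subgroup S) : Set S) ⊆ {1, ((e.symm z0 : H) : S)} := by
          intro z hz
          have h4 := hL3 (e ⟨z, hz.1⟩) (by
            intro h
            have h5 := mem_centralizer_iff.1 hz.2 (e.symm h) (e.symm h).2
            have h6 : e.symm h * ⟨z, hz.1⟩ = ⟨z, hz.1⟩ * e.symm h := Subtype.ext h5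
            have h7 := congrArg e h6
            rwa [map_mul, map_mul, e.apply_symm_apply] at h7)
          rcases h4 with h4 | h4
          · left
            rw [map_eq_one_iff e e.injective] at h4
            exact congrArg Subtype.val h4
          · right
            rw [Set.mem_singleton_iff, ← h4, e.symm_apply_apply]
        have h4 : Nat.card (H ⊓ centralizer (H : Set S) : Subgroup S) = ((H ⊓ centralizer (H : Set S) : Subgroup S) : Set S).ncard := rfl
        rw [h4]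
        exact (Set.ncard_le_ncard h3 (Set.toFinite _)).trans (Set.ncard_insert_le _ _ |>.trans (by rw [Set.ncard_singleton]))
      omega
  have hna : ¬ IsMulCommutative H := by
    intro h
    apply hL4
    intro a b
    have h1 := h.is_comm.comm (e.symm a) (e.symm b)
    have h3 := congrArg e h1
    rwa [map_mul, map_mul, e.apply_symm_apply, e.apply_symm_apply] at h3
  obtain ⟨n, hn⟩ := IsPGroup.iff_card.1 h2
  have hdvd : 8 ∣ Nat.card S := by rw [← hH8]; exact Subgroup.card_subgroup_dvd_card H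
  have hn3 : 3 ≤ n := by
    rw [hn] at hdvd
    have h1 : 2 ^ 3 ∣ 2 ^ n := hdvd
    exact (Nat.pow_dvd_pow_iff_le_right (by norm_num)).1 h1
  have hcl := Cfsg.Agent.S4143.result n hn H (by rw [hH8]; norm_num) hna hC
  have hkf := (Cfsg.Agent.S0115.result n hn3 hn).1 hcl
  have hab : Nat.card (Abelianization S) = 4 := hkf.card_four
  have hexp : ∀ x : Abelianization S, x ^ 2 = 1 := by
    intro x
    have := Monoid.pow_exponent_eq_one (G := S ⧸ commutator S) x
    rw [hkf.exponent_two] at this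
    exact this
  rcases Cfsg.Agent.S4399.result h2 hab hexp with h | h
  · rw [h] at hdvd
    omega
  · exact h

/-- Let S be a finite 2-group of sectional 2-rank at most 2 that contains a subgroup isomorphic to the dihedral group of order 8 or to the quaternion group of order 8. Then S is dihedral of order at least 8, semidihedral of order at least 16 (order 2^(k+4) with an element a of order 2^(k+3) and an involution b with b a b⁻¹ = a^(2^(k+2)−1)), or generalized quaternion of order at least 8. -/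
theorem result {S : Type*} [Group S] [Finite S] (h2 : IsPGroup 2 S) (hr : Cfsg.SectionalPRankLE 2 2 S)
    (hsub : ∃ H : Subgroup S, Nonempty (↥H ≃* DihedralGroup 4) ∨ Nonempty (↥H ≃* QuaternionGroup 2)) :
    ((∃ k : ℕ, Nonempty (S ≃* DihedralGroup (2 ^ (k + 2)))) ∨
      (∃ k : ℕ, Nat.card S = 2 ^ (k + 4) ∧ ∃ a b : S, orderOf a = 2 ^ (k + 3) ∧ orderOf b = 2 ∧ b * a * b⁻¹ = a ^ (2 ^ (k + 2) - 1)) ∨
      (∃ k : ℕ, Nonempty (S ≃* QuaternionGroup (2 ^ (k + 1))))) := by
  obtain ⟨H, hH⟩ := hsub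
  rcases hH with ⟨⟨e⟩⟩ | ⟨⟨e⟩⟩
  · exact transfer h2 hr H e (by rw [DihedralGroup.nat_card]) (by decide) (by decide) (DihedralGroup.r 2) (by decide) (by decide)
  · exact transfer h2 hr H e (by rw [Nat.card_eq_fintype_card, QuaternionGroup.card]) (by decide) (by decide) (QuaternionGroup.a 2) (by decide) (by decide)

end Cfsg.Agent.S4398
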