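import Cfsg.Statements.S4419
import Mathlib
import Cfsg.Agent.LibTransPC
import Cfsg.Agent.LibH2Wst
import Cfsg.Agent.LibLE10
import Cfsg.Agent.LibCores

set_option autoImplicit false
open Cfsg

namespace Cfsg.Agent.S4419

open Subgroup

theorem metacyclic_subgroup {R : Type*} [Group R] (h : Cfsg.IsMetacyclic R) (Q : Subgroup R) :
    Cfsg.IsMetacyclic Q := by
  obtain ⟨N, hN, hNc, hqc⟩ := h
  refine ⟨N.subgroupOf Q, inferInstance, ?_, ?_⟩
  · haveI := hNc
    exact isCyclic_of_injective
      ((Subgroup.inclusion (inf_le_left : N ⊓ Q ≤ N)).comp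
        (((MulEquiv.subgroupCongr (Subgroup.subgroupOf_map_subtype N Q).symm).symm.toMonoidHom).comp
          ((N.subgroupOf Q).equivMapOfInjective Q.subtype Q.subtype_injective).toMonoidHom))
      (by
        intro a b hab
        have := congrArg (fun z : N => (z : R)) hab
        exact Subtype.ext (Subtype.ext this))
  · haveI := hqc
    have hle : N.subgroupOf Q ≤ N.comap Q.subtype := fun x hx => hx
    refine isCyclic_of_injective (QuotientGroup.map (N.subgroupOf Q) N Q.subtype hle) ?_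
    rw [← MonoidHom.ker_eq_bot_iff, eq_bot_iff]
    intro x hx
    obtain ⟨y, rfl⟩ := QuotientGroup.mk'_surjective _ x
    have hy : ((y : R) : R ⧸ N) = 1 := hx
    rw [QuotientGroup.eq_one_iff] at hy
    rw [mem_bot, QuotientGroup.mk'_apply, QuotientGroup.eq_one_iff]
    exact hy

theorem isMetacyclic_equiv {R R' : Type*} [Group R] [Group R'] (e : R ≃* R') (h : Cfsg.IsMetacyclic R) :
    Cfsg.IsMetacyclic R' := by
  obtain ⟨N, hN, hNc, hqc⟩ := h
  have hN' : (N.map e.toMonoidHom).Normal := hN.map _ e.surjective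
  refine ⟨N.map e.toMonoidHom, hN', ?_, ?_⟩
  · haveI := hNc
    exact isCyclic_of_surjective (e.toMonoidHom.subgroupMap N) (e.toMonoidHom.subgroupMap_surjective N)
  · haveI := hqc
    exact isCyclic_of_surjective (QuotientGroup.congr N (N.map e.toMonoidHom) e rfl)
      (QuotientGroup.congr N (N.map e.toMonoidHom) e rfl).surjective

theorem card_le_of_cyclic_exp {V : Type*} [Group V] [Finite V] [IsCyclic V] {p : ℕ} (hp : 0 < p)
    (h : ∀ v : V, v ^ p = 1) : Nat.card V ≤ p := by
  obtain ⟨g, hg⟩ := IsCyclic.exists_generator (α := V)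
  rw [← orderOf_eq_card_of_forall_mem_zpowers hg]
  exact Nat.le_of_dvd hp (orderOf_dvd_of_pow_eq_one (h g))

theorem index_frattini_le {Q : Type*} [Group Q] [Finite Q] {p : ℕ} [Fact p.Prime] (hQ : IsPGroup p Q)
    (h : Cfsg.IsMetacyclic Q) : Nat.card (Q ⧸ frattini Q) ≤ p ^ 2 := by
  obtain ⟨N, hN, hNc, hqc⟩ := h
  have hp : 0 < p := (Fact.out : p.Prime).pos
  have hex : ∀ v : Q ⧸ frattini Q, v ^ p = 1 := by
    intro v
    obtain ⟨x, rfl⟩ := QuotientGroup.mk'_surjective _ v
    rw [← map_pow, QuotientGroup.mk'_apply, QuotientGroup.eq_one_iff]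
    exact CfsgLib.LE.pow_mem_frattini hQ x
  set M := N.map (QuotientGroup.mk' (frattini Q)) with hM
  have hMn : M.Normal := hN.map _ (QuotientGroup.mk'_surjective _)
  have h1 : Nat.card M ≤ p := by
    haveI : IsCyclic M := by
      haveI := hNc
      exact isCyclic_of_surjective ((QuotientGroup.mk' (frattini Q)).subgroupMap N)
        ((QuotientGroup.mk' (frattini Q)).subgroupMap_surjective N)
    exact card_le_of_cyclic_exp hp (fun v => Subtype.ext (hex v))
  have h2 : Nat.card ((Q ⧸ frattini Q) ⧸ M) ≤ p := by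
    haveI : IsCyclic ((Q ⧸ frattini Q) ⧸ M) := by
      haveI := hqc
      have hk : N ≤ ((QuotientGroup.mk' M).comp (QuotientGroup.mk' (frattini Q))).ker := by
        intro x hx
        rw [MonoidHom.mem_ker, MonoidHom.comp_apply, QuotientGroup.mk'_apply, QuotientGroup.eq_one_iff]
        exact ⟨x, hx, rfl⟩
      refine isCyclic_of_surjective (QuotientGroup.lift N
        ((QuotientGroup.mk' M).comp (QuotientGroup.mk' (frattini Q))) hk) ?_
      intro y
      obtain ⟨z, rfl⟩ := QuotientGroup.mk'_surjective _ y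
      obtain ⟨x, rfl⟩ := QuotientGroup.mk'_surjective _ z
      exact ⟨QuotientGroup.mk' N x, rfl⟩
    refine card_le_of_cyclic_exp hp (fun v => ?_)
    obtain ⟨x, rfl⟩ := QuotientGroup.mk'_surjective _ v
    rw [← map_pow, hex, map_one]
  rw [M.card_eq_card_quotient_mul_card_subgroup, pow_two]
  exact Nat.mul_le_mul h2 h1

/-- An automorphism of `q`-power order of a group of order dividing `p ^ 2` (elementary or not) is
trivial unless `q` divides `p ^ 2 - 1`. -/
theorem aut_trivial {V : Type*} [Group V] [Finite V] {p q : ℕ} [hp : Fact p.Prime] [hq : Fact q.Prime]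
    (hpq : q ≠ p) (hV : IsPGroup p V) (hc : Nat.card V ≤ p ^ 2) (hnd : ¬ q ∣ p ^ 2 - 1) (σ : MulAut V) {m : ℕ}
    (hσ : σ ^ q ^ m = 1) (v : V) : σ v = v := by
  have hP : IsPGroup q (zpowers σ) := by
    rw [IsPGroup.iff_card, Nat.card_zpowers]
    obtain ⟨k, -, hk⟩ := (Nat.dvd_prime_pow hq.out).1 (orderOf_dvd_of_pow_eq_one hσ)
    exact ⟨k, hk⟩
  have h1 := hP.card_modEq_card_fixedPoints V
  let F : Subgroup V := 
    { carrier := {v | σ v = v}
      one_mem' := map_one _
      mul_mem' := fun {a b} ha hb => by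
        change σ (a * b) = a * b
        rw [map_mul, show σ a = a from ha, show σ b = b from hb]
      inv_mem' := fun {a} ha => by
        change σ a⁻¹ = a⁻¹
        rw [map_inv, show σ a = a from ha] }
  have h2 : MulAction.fixedPoints (zpowers σ) V = (F : Set V) := by
    ext v
    constructor
    · intro h
      exact h ⟨σ, mem_zpowers σ⟩
    · rintro h ⟨x, k, rfl⟩
      have h3 : σ ∈ MulAction.stabilizer (MulAut V) v := h
      exact zpow_mem h3 k
  rw [h2] at h1
  have h3 : Nat.card (F : Set V) = Nat.card F := rfl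
  rw [h3] at h1
  obtain ⟨d, hd⟩ := IsPGroup.iff_card.1 hV
  obtain ⟨e, he⟩ := IsPGroup.iff_card.1 (hV.to_subgroup F)
  rw [hd] at h1 hc
  rw [he] at h1
  have hdle : d ≤ 2 := (Nat.pow_le_pow_iff_right hp.out.one_lt).1 hc
  have hed : e ≤ d := by
    have := Nat.le_of_dvd Nat.card_pos (F.card_subgroup_dvd_card)
    rw [hd, he] at this
    exact (Nat.pow_le_pow_iff_right hp.out.one_lt).1 this
  have hde : d = e := by
    by_contra hne
    apply hnd
    have h4 : q ∣ p ^ d - p ^ e := (Nat.modEq_iff_dvd' (Nat.pow_le_pow_right hp.out.pos hed)).1 h1.symm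
    have h5 : p ^ d - p ^ e = p ^ e * (p ^ (d - e) - 1) := by
      rw [Nat.mul_sub, mul_one, ← pow_add]
      congr 2
      omega
    rw [h5] at h4
    have h6 : q ∣ p ^ (d - e) - 1 := by
      refine (Nat.Coprime.dvd_of_dvd_mul_left ?_ h4)
      exact ((Nat.coprime_primes hq.out hp.out).2 hpq).pow_right e
    have h7 : d - e = 1 ∨ d - e = 2 := by omega
    rcases h7 with h7 | h7
    · rw [h7, pow_one] at h6
      refine h6.trans ⟨p + 1, ?_⟩
      have : p ^ 2 - 1 = p ^ 2 - 1 ^ 2 := by norm_num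
      rw [this, Nat.sq_sub_sq, mul_comm]
    · rwa [h7] at h6
  have hFtop : F = ⊤ := by
    apply Subgroup.eq_top_of_card_eq
    rw [hd, he, hde]
  have : v ∈ F := by rw [hFtop]; trivial
  exact this

theorem centralizes {G : Type*} [Group G] [Finite G] {p q : ℕ} [hp : Fact p.Prime] [hq : Fact q.Prime]
    (hpq : q ≠ p) (Q : Subgroup G) (hQ : IsPGroup p Q) (hm : Cfsg.IsMetacyclic Q) (hnd : ¬ q ∣ p ^ 2 - 1)
    (g : G) (hg : g ∈ normalizer (Q : Set G)) {m : ℕ} (hgm : g ^ q ^ m = 1) :
    g ∈ centralizer (Q : Set G) := by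
  let σ : MulAut Q := Q.normalizerMonoidHom ⟨g, hg⟩
  have hσv : ∀ x : Q, ((σ x : Q) : G) = g * x * g⁻¹ := fun x => rfl
  have hΦ : (frattini Q).map σ.toMonoidHom = frattini Q :=
    Subgroup.characteristic_iff_map_eq.1 inferInstance σ
  let τ : MulAut (Q ⧸ frattini Q) := QuotientGroup.congr (frattini Q) (frattini Q) σ hΦ
  have hτ : ∀ x : Q, τ (QuotientGroup.mk' _ x) = QuotientGroup.mk' _ (σ x) := fun x => rfl
  have hτp : ∀ (n : ℕ) (x : Q), (τ ^ n) (QuotientGroup.mk' _ x) = QuotientGroup.mk' _ ((σ ^ n) x) := by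
    intro n
    induction n with
    | zero => intro x; rfl
    | succ n ih => intro x; rw [pow_succ, MulAut.mul_apply, hτ, ih, pow_succ, MulAut.mul_apply]
  have hσ1 : σ ^ q ^ m = 1 := by
    change (Q.normalizerMonoidHom ⟨g, hg⟩) ^ q ^ m = 1
    rw [← map_pow]
    have : (⟨g, hg⟩ : normalizer (Q : Set G)) ^ q ^ m = 1 := Subtype.ext hgm
    rw [this, map_one]
  have hτ1 : τ ^ q ^ m = 1 := by
    ext v
    obtain ⟨x, rfl⟩ := QuotientGroup.mk'_surjective _ v
    rw [hτp, hσ1]
    rfl
  have hV : IsPGroup p (Q ⧸ frattini Q) := hQ.to_quotient _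
  have h1 := aut_trivial hpq hV (index_frattini_le hQ hm) hnd τ hτ1
  have h2 : zpowers g ≤ centralizer (Q : Set G) := by
    refine CfsgLib.H2Wst.le_centralizer_of_frattini hQ ?_ (by rwa [zpowers_le]) ?_
    · rw [Nat.card_zpowers]
      have := orderOf_dvd_of_pow_eq_one hgm
      refine Nat.Coprime.coprime_dvd_left this ?_
      exact ((Nat.coprime_primes hq.out hp.out).2 hpq).pow_left m
    · rw [commutator_comm, Subgroup.commutator_le]
      have key : ∀ y ∈ zpowers g, ∀ x ∈ Q, y * x * y⁻¹ * x⁻¹ ∈ (frattini Q).map Q.subtype := by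
        let H : Subgroup G := 
          { carrier := {y | y ∈ normalizer (Q : Set G) ∧ ∀ x ∈ Q, y * x * y⁻¹ * x⁻¹ ∈ (frattini Q).map Q.subtype}
            one_mem' := ⟨one_mem _, fun x hx => by simp [one_mem]⟩
            mul_mem' := by
              rintro a b ⟨ha1, ha2⟩ ⟨hb1, hb2⟩
              refine ⟨mul_mem ha1 hb1, fun x hx => ?_⟩
              have e : a * b * x * (a * b)⁻¹ * x⁻¹ =
                (a * (b * x * b⁻¹) * a⁻¹ * (b * x * b⁻¹)⁻¹) * (b * x * b⁻¹ * x⁻¹) := by group
              rw [e]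
              exact mul_mem (ha2 _ ((mem_normalizer_iff.1 hb1 x).1 hx)) (hb2 x hx)
            inv_mem' := by
              rintro a ⟨ha1, ha2⟩
              refine ⟨inv_mem ha1, fun x hx => ?_⟩
              have h3 : a⁻¹ * x * a ∈ Q := by
                have := (mem_normalizer_iff.1 (inv_mem ha1) x).1 hx
                rwa [inv_inv] at this
              have e : a⁻¹ * x * a⁻¹⁻¹ * x⁻¹ = (a * (a⁻¹ * x * a) * a⁻¹ * (a⁻¹ * x * a)⁻¹)⁻¹ := by group
              rw [e]
              exact inv_mem (ha2 _ h3) }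
        have hgH : g ∈ H := by
          refine ⟨hg, fun x hx => ?_⟩
          have h3 := h1 (QuotientGroup.mk' _ ⟨x, hx⟩)
          rw [hτ] at h3
          refine ⟨σ ⟨x, hx⟩ * (⟨x, hx⟩ : Q)⁻¹, ?_, rfl⟩
          rw [SetLike.mem_coe, ← QuotientGroup.ker_mk' (frattini Q), MonoidHom.mem_ker, map_mul, h3, map_inv,
            mul_inv_cancel]
        have hle : zpowers g ≤ H := by rwa [zpowers_le]
        intro y hy x hx
        exact (hle hy).2 x hx
      intro y hy x hx
      exact key y hy x hx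
  exact h2 (mem_zpowers g)

/-- Let p be a prime and G a finite group whose Sylow p-subgroups are metacyclic (a cyclic normal subgroup with cyclic quotient). Then G has a normal p-complement if and only if the order of G/O_{p′,p}(G) is coprime to p² − 1. -/
theorem result {G : Type*} [Group G] [Finite G] (p : ℕ) [Fact p.Prime] (S : Sylow p G) (hS : Cfsg.IsMetacyclic ↥(S : Subgroup G)) : Cfsg.HasNormalPComplement p G ↔ Nat.Coprime (Nat.card (G ⧸ Cfsg.pPrimePCore p G)) (p ^ 2 - 1) := by
  constructor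
  · intro h
    obtain ⟨N, hN⟩ := (CfsgLib.TransPC.hasNPC_iff p).1 h
    have hNn := hN.1
    have htop : Cfsg.pPrimePCore p G = ⊤ := by
      have hNle : N ≤ Cfsg.pPrimeCore p G := CfsgLib.Cores.le_pPrimeCore hN.1 hN.coprime
      have hpg : IsPGroup p (⊤ : Subgroup (G ⧸ Cfsg.pPrimeCore p G)) := by
        obtain ⟨k, hk⟩ := hN.2.2
        have h1 : Nat.card (G ⧸ Cfsg.pPrimeCore p G) ∣ p ^ k := by
          rw [← hk]
          exact Subgroup.index_dvd_of_le hNle
        obtain ⟨j, -, hj⟩ := (Nat.dvd_prime_pow (Fact.out : p.Prime)).1 h1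
        exact (IsPGroup.of_card hj).to_subgroup _
      have h2 : Cfsg.pCore p (G ⧸ Cfsg.pPrimeCore p G) = ⊤ :=
        top_le_iff.1 (CfsgLib.Cores.le_pCore inferInstance hpg)
      unfold Cfsg.pPrimePCore
      rw [h2, Subgroup.comap_top]
    have h1 : Nat.card (G ⧸ Cfsg.pPrimePCore p G) = 1 := by
      rw [htop]
      exact Subgroup.index_top
    rw [h1]
    exact Nat.coprime_one_left _
  · intro h
    rw [CfsgLib.TransPC.hasNPC_iff]
    refine CfsgLib.TransPC.FrobCond.exists_isNPC p _ G rfl ?_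
    apply CfsgLib.TransPC.FrobCond.of_sylow S
    intro Q hQS g hg hgc
    have hQ : IsPGroup p Q := S.isPGroup'.to_le hQS
    have hQm : Cfsg.IsMetacyclic Q :=
      isMetacyclic_equiv (Subgroup.subgroupOfEquivOfLe hQS) (metacyclic_subgroup hS (Q.subgroupOf S))
    -- it suffices to treat elements of prime power order
    have key : ∀ (q : ℕ) (_ : q.Prime) (x : G), x ∈ Subgroup.normalizer (Q : Set G) → q ≠ p →
        (∃ m, x ^ q ^ m = 1) → x ∈ Subgroup.centralizer (Q : Set G) := by
      rintro q hq x hx hqp ⟨m, hm⟩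
      haveI : Fact q.Prime := ⟨hq⟩
      by_cases hnd : q ∣ p ^ 2 - 1
      · -- x lies in O_{p',p}
        haveI hPn : (Cfsg.pPrimePCore p G).Normal := by
          unfold Cfsg.pPrimePCore
          infer_instance
        have hx1 : x ∈ Cfsg.pPrimePCore p G := by
          rw [← QuotientGroup.eq_one_iff]
          have h1 : orderOf (QuotientGroup.mk x : G ⧸ Cfsg.pPrimePCore p G) = 1 := by
            have h2 : orderOf (QuotientGroup.mk x : G ⧸ Cfsg.pPrimePCore p G) ∣ q ^ m := by
              apply orderOf_dvd_of_pow_eq_one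
              rw [← QuotientGroup.mk_pow, hm, QuotientGroup.mk_one]
            have h3 := orderOf_dvd_natCard (QuotientGroup.mk x : G ⧸ Cfsg.pPrimePCore p G)
            have h4 : (Nat.card (G ⧸ Cfsg.pPrimePCore p G)).Coprime q :=
              Nat.Coprime.coprime_dvd_right hnd h
            exact Nat.Coprime.eq_one_of_dvd ((Nat.Coprime.coprime_dvd_left h3 h4).pow_right m) h2
          exact orderOf_eq_one_iff.1 h1
        have hx2 : x ∈ Cfsg.pPrimeCore p G := by
          rw [← QuotientGroup.eq_one_iff]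
          have h1 : (QuotientGroup.mk x : G ⧸ Cfsg.pPrimeCore p G) ∈ Cfsg.pCore p (G ⧸ Cfsg.pPrimeCore p G) := hx1
          obtain ⟨k, hk⟩ := CfsgLib.Cores.pCore_isPGroup p ⟨_, h1⟩
          have hk' : (QuotientGroup.mk x : G ⧸ Cfsg.pPrimeCore p G) ^ p ^ k = 1 := congrArg Subtype.val hk
          have hm' : (QuotientGroup.mk x : G ⧸ Cfsg.pPrimeCore p G) ^ q ^ m = 1 := by
            rw [← QuotientGroup.mk_pow, hm, QuotientGroup.mk_one]
          have h2 : orderOf (QuotientGroup.mk x : G ⧸ Cfsg.pPrimeCore p G) ∣ 1 := by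
            have h3 : Nat.gcd (p ^ k) (q ^ m) = 1 :=
              Nat.Coprime.pow _ _ ((Nat.coprime_primes (Fact.out : p.Prime) hq).2 hqp.symm)
            rw [← h3]
            exact Nat.dvd_gcd (orderOf_dvd_of_pow_eq_one hk') (orderOf_dvd_of_pow_eq_one hm')
          exact orderOf_eq_one_iff.1 (Nat.dvd_one.1 h2)
        have hn : (Cfsg.pPrimeCore p G).Normal := inferInstance
        have hinf : Cfsg.pPrimeCore p G ⊓ Q = ⊥ := by
          apply Subgroup.inf_eq_bot_of_coprime
          obtain ⟨k, hk⟩ := IsPGroup.iff_card.1 hQ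
          rw [hk]
          exact (CfsgLib.Cores.pPrimeCore_coprime p).pow_right k
        rw [Subgroup.mem_centralizer_iff]
        intro y hy
        have h3 : y * x * y⁻¹ * x⁻¹ ∈ Cfsg.pPrimeCore p G ⊓ Q := by
          refine ⟨(Cfsg.pPrimeCore p G).mul_mem (hn.conj_mem x hx2 y) ((Cfsg.pPrimeCore p G).inv_mem hx2), ?_⟩
          have h4 := (Subgroup.mem_normalizer_iff.1 hx y⁻¹).1 (inv_mem hy)
          have h5 := mul_mem hy h4
          have e : y * (x * y⁻¹ * x⁻¹) = y * x * y⁻¹ * x⁻¹ := by group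
          rwa [e] at h5
        rw [hinf, Subgroup.mem_bot, mul_inv_eq_one, mul_inv_eq_iff_eq_mul] at h3
        exact h3
      · exact centralizes hqp Q hQ hQm hnd x hx hm
    -- the index of the centralizer part of <g>
    by_contra hgn
    have hne : orderOf g ≠ 0 := (orderOf_pos g).ne'
    -- all `g ^ (n / q^k)` are in the centralizer
    have hall : ∀ q : ℕ, q.Prime → ∃ j : ℕ, ¬ q ∣ j ∧ g ^ j ∈ Subgroup.centralizer (Q : Set G) := by
      intro q hq
      obtain ⟨a, m, hmn, hgm⟩ := Nat.exists_eq_pow_mul_and_not_dvd hne q hq.ne_one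
      refine ⟨m, hmn, ?_⟩
      by_cases hqp : q = p
      · have ha : a = 0 := by
          by_contra ha
          have h1 : p ∣ orderOf g := by rw [hgm, hqp]; exact (dvd_pow_self p ha).mul_right m
          have h2 : p ∣ Nat.gcd (orderOf g) p := Nat.dvd_gcd h1 dvd_rfl
          rw [hgc] at h2
          exact (Fact.out : p.Prime).one_lt.ne' (Nat.dvd_one.1 h2)
        rw [ha, pow_zero, one_mul] at hgm
        rw [← hgm, pow_orderOf_eq_one]
        exact one_mem _
      · refine key q hq (g ^ m) (pow_mem hg m) hqp ⟨a, ?_⟩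
        rw [← pow_mul, mul_comm, ← hgm, pow_orderOf_eq_one]
    -- the exponents form an ideal
    let C := Subgroup.centralizer (Q : Set G)
    let I : AddSubgroup ℤ :=
      { carrier := {k | g ^ k ∈ C}
        zero_mem' := by simp [one_mem]
        add_mem' := fun {a b} ha hb => by
          change g ^ (a + b) ∈ C
          rw [zpow_add]; exact mul_mem ha hb
        neg_mem' := fun {a} ha => by
          change g ^ (-a) ∈ C
          rw [zpow_neg]; exact inv_mem ha }
    obtain ⟨d, hd⟩ := Int.subgroup_cyclic I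
    have hdI : d.natAbs ≠ 1 := by
      intro h1
      apply hgn
      have h2 : (1 : ℤ) ∈ I := by
        rw [hd, AddSubgroup.mem_closure_singleton]
        rcases Int.natAbs_eq d with h3 | h3
        · exact ⟨1, by rw [h3, h1]; norm_num⟩
        · exact ⟨-1, by rw [h3, h1]; norm_num⟩
      have h3 : g ^ (1 : ℤ) ∈ C := h2
      rwa [zpow_one] at h3
    obtain ⟨q, hq, hqd⟩ := Nat.exists_prime_and_dvd hdI
    obtain ⟨j, hj1, hj2⟩ := hall q hq
    apply hj1
    have h3 : (j : ℤ) ∈ I := by
      change g ^ (j : ℤ) ∈ C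
      rw [zpow_natCast]; exact hj2
    rw [hd, AddSubgroup.mem_closure_singleton] at h3
    obtain ⟨k, hk⟩ := h3
    have h4 : (q : ℤ) ∣ j := by
      rw [← hk, smul_eq_mul]
      exact (Int.natCast_dvd.2 hqd).mul_left k
    exact_mod_cast h4

end Cfsg.Agent.S4419
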