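import Cfsg.Statements.S4501
import Mathlib
import Cfsg.Agent.LibH6BrF
import Cfsg.Agent.S0495

set_option autoImplicit false
open Cfsg

namespace Cfsg.Agent.S4501

/-- Let G be a non-abelian finite simple group and p, q distinct primes. If the order of G is 4·p^a·q^b with a ≤ 2, then G is isomorphic to the alternating group of degree 5. If the order of G is 3·p^a·q^b with a ≤ 2, then G is isomorphic to the alternating group of degree 5 or to PSL(2,7). -/
theorem result {G : Type*} [Group G] [Finite G] [IsSimpleGroup G] (hna : ∃ x y : G, x * y ≠ y * x) (p q a b : ℕ) (hp : p.Prime) (hq : q.Prime) (hpq : p ≠ q) (ha : a ≤ 2) : (Nat.card G = 4 * p ^ a * q ^ b → Nonempty (G ≃* alternatingGroup (Fin 5))) ∧ (Nat.card G = 3 * p ^ a * q ^ b → Nonempty (G ≃* alternatingGroup (Fin 5)) ∨ Nonempty (G ≃* Matrix.ProjectiveSpecialLinearGroup (Fin 2) (ZMod 7))) := by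
  constructor
  · intro hG
    exact CfsgLib.H6Br.part1 hna hp hq hpq hG
  · intro hG
    have hp3 : p ≠ 3 := by
      intro h
      apply CfsgLib.H6Br.not_two_primes hna (a := a + 1) (b := b) Nat.prime_three hq
      rw [hG, h]; ring
    have hq3 : q ≠ 3 := by
      intro h
      apply CfsgLib.H6Br.not_two_primes hna (a := b + 1) (b := a) Nat.prime_three hp
      rw [hG, h]; ring
    have h3p : ¬ 3 ∣ p := fun h => hp3 ((Nat.prime_dvd_prime_iff_eq Nat.prime_three hp).1 h).symm
    have h3q : ¬ 3 ∣ q := fun h => hq3 ((Nat.prime_dvd_prime_iff_eq Nat.prime_three hq).1 h).symm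
    have hm3 : ¬ 3 ∣ p ^ a * q ^ b := by
      intro h
      rcases (Nat.prime_three.dvd_mul).1 h with h | h
      · exact h3p (Nat.prime_three.dvd_of_dvd_pow h)
      · exact h3q (Nat.prime_three.dvd_of_dvd_pow h)
    have hGm : Nat.card G = 3 * (p ^ a * q ^ b) := by rw [hG]; ring
    by_cases hp2 : p = 2
    · -- p = 2
      have hq2 : q ≠ 2 := fun h => hpq (hp2.trans h.symm)
      have hqodd : Odd q := hq.odd_of_ne_two hq2
      left
      have ha' : a = 2 := by
        by_contra hne
        have : a = 0 ∨ a = 1 := by omega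
        rcases this with h0 | h1
        · apply CfsgLib.H6Br.not_two_primes hna (a := 1) (b := b) Nat.prime_three hq
          rw [hG, h0]; ring
        · apply CfsgLib.H6Br.not_two_odd hna (m := 3 * q ^ b)
          · exact (by decide : Odd 3).mul hqodd.pow
          · rw [hG, h1, hp2]; ring
      apply CfsgLib.H6Br.part1 hna (p := 3) (q := q) (a := 1) (b := b) Nat.prime_three hq hq3.symm
      rw [hG, ha', hp2]; ring
    · have hq2 : q = 2 := by
        by_contra hq2
        haveI : Fact (Nat.Prime 3) := ⟨Nat.prime_three⟩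
        obtain ⟨x, hx⟩ := exists_prime_orderOf_dvd_card' (G := G) 3 (by rw [hGm]; exact dvd_mul_right 3 _)
        obtain ⟨g, hg⟩ := CfsgLib.H6Br.inverter hna hm3 hGm hx
        have hodd : Odd (Nat.card G) := by
          rw [hG]
          exact ((by decide : Odd 3).mul (hp.odd_of_ne_two hp2).pow).mul (hq.odd_of_ne_two hq2).pow
        have ho : Odd (orderOf g) := hodd.of_dvd_nat (orderOf_dvd_natCard g)
        obtain ⟨k, hk⟩ := ho
        have h2 : g * (g * x * g⁻¹) * g⁻¹ = x := by
          rw [hg, ← conj_inv, hg, inv_inv]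
        have hc : Commute (g ^ 2) x := by
          show g ^ 2 * x = x * g ^ 2
          have : g * (g * x * g⁻¹) * g⁻¹ = g ^ 2 * x * (g ^ 2)⁻¹ := by rw [pow_two]; group
          rw [this, mul_inv_eq_iff_eq_mul] at h2
          exact h2
        have hc2 : Commute g x := by
          have h3 : (g ^ 2) ^ (k + 1) = g := by
            rw [← pow_mul, show 2 * (k + 1) = (2 * k + 1) + 1 by ring, pow_succ, ← hk, pow_orderOf_eq_one, one_mul]
          rw [← h3]
          exact hc.pow_left _
        have h4 : x = x⁻¹ := by
          rw [← hg, hc2.eq, mul_inv_cancel_right]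
        have h5 : x ^ 2 = 1 := by
          rw [pow_two]; nth_rewrite 1 [h4]; exact inv_mul_cancel x
        have h6 : orderOf x ∣ 2 := orderOf_dvd_of_pow_eq_one h5
        rw [hx] at h6
        omega
      have hp5 : 5 ≤ p := by
        have h2 := hp.two_le
        by_contra h
        have : p = 4 := by omega
        rw [this] at hp
        exact absurd hp (by norm_num)
      rw [hq2] at hG
      rcases CfsgLib.H6Br.part2b hna hp hp5 ha hG with h | h
      · left; exact CfsgLib.Dk29.simple60 h
      · right
        exact Cfsg.Agent.S0495.result h (ZMod.card 7)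

end Cfsg.Agent.S4501
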