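import Cfsg.Statements.S4519
import Cfsg.Agent.LibExtend8

set_option autoImplicit false
set_option linter.all false
open Cfsg

namespace Cfsg.Agent.S4519

open CfsgLib.Extend CfsgLib.CharBasic CfsgLib.Clifford
open scoped ComplexConjugate

theorem gal_ind {G : Type*} [Group G] [Fintype G] (T : Subgroup G) (ψ : T → ℂ) (τ : ℂ ≃+* ℂ) :
    τ ∘ indFun T ψ = indFun T (τ ∘ ψ) := by
  ext g
  rw [Function.comp_apply, CfsgLib.CharIndA.ind_apply, CfsgLib.CharIndA.ind_apply, map_mul, map_inv₀, map_natCast, map_sum]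
  congr 1
  refine Finset.sum_congr rfl fun x _ => ?_
  by_cases h : x⁻¹ * g * x ∈ T
  · rw [CfsgLib.CharIndA.ext_mem T _ h, CfsgLib.CharIndA.ext_mem T _ h]; rfl
  · rw [CfsgLib.CharIndA.ext_not_mem T _ h, CfsgLib.CharIndA.ext_not_mem T _ h, map_zero]

theorem exists_unique_gal {G : Type*} [Group G] [Fintype G] (N : Subgroup G) [hN : N.Normal] [Fintype N]
    (hidx : Odd N.index) (k : ℕ) (hkd : ∀ m, Odd m → m ∣ Nat.card G → m ∣ k + 1) (τ : ℂ ≃+* ℂ)
    (hτ : ∀ ζ : ℂ, ζ ^ Nat.card G = 1 → τ ζ = ζ ^ k) {θ : N → ℂ} (hθ : IsIrrCharacter N θ) (hfix : ∀ n, τ (θ n) = θ n) :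
    ∃ χ : G → ℂ, IsIrrCharacter G χ ∧ classInner (fun n : N => χ n) θ ≠ 0 ∧ (∀ g, τ (χ g) = χ g) ∧
      ((∀ (g : G) (n : N), θ ⟨g * n * g⁻¹, hN.conj_mem n n.2 g⟩ = θ n) → ∀ n : N, χ n = θ n) ∧
      ∀ χ' : G → ℂ, IsIrrCharacter G χ' → classInner (fun n : N => χ' n) θ ≠ 0 → (∀ g, τ (χ' g) = χ' g) → χ' = χ := by
  classical
  have hNd : N.index ∣ k + 1 := hkd _ hidx (Subgroup.index_dvd_card N)
  have hkN : ∀ g : G, g ^ k * g ∈ N := by
    intro g
    rw [← pow_succ]
    obtain ⟨r, hr⟩ := hNd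
    rw [hr, pow_mul]
    exact N.pow_mem (Subgroup.pow_index_mem N g) r
  have hτc : ∀ c : ℂ, c ^ N.index = 1 → τ c = c⁻¹ := by
    intro c hc
    have h1 : c ^ Nat.card G = 1 := by
      obtain ⟨r, hr⟩ := Subgroup.index_dvd_card N
      rw [hr, pow_mul, hc, one_pow]
    have h2 : c ≠ 0 := by
      rintro rfl
      rw [zero_pow (Subgroup.index_ne_zero_of_finite)] at hc
      exact zero_ne_one hc
    rw [hτ c h1]
    obtain ⟨r, hr⟩ := hNd
    have h3 : c ^ (k + 1) = 1 := by rw [hr, pow_mul, hc, one_pow]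
    rw [pow_succ] at h3
    exact eq_inv_of_mul_eq_one_left h3
  set T := inertia hN θ with hTdef
  haveI := Fintype.ofFinite T
  have hNT : N ≤ T := le_inertia hN (irr_classFun hθ)
  haveI := Fintype.ofFinite (N.subgroupOf T)
  haveI hnT : (N.subgroupOf T).Normal := subgroupOf_normal hN T
  have hTmem : ∀ g, g ∈ T ↔ cj hN g θ = θ := fun g => Iff.rfl
  have hidx2 : (N.subgroupOf T).index ∣ N.index := Subgroup.relIndex_dvd_index_of_normal N T
  have hidxT : Odd (N.subgroupOf T).index := Odd.of_dvd_nat hidx hidx2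
  have hθT : IsIrrCharacter (N.subgroupOf T) (toSub T θ) := (toSub_irr hNT).mpr hθ
  have hinvT : Inv (N.subgroupOf T) (toSub T θ) := by
    intro t n
    have h1 := cj_toSub hN t θ
    rw [(hTmem t).mp t.2] at h1
    exact congrFun h1 n
  obtain ⟨φ, hφ, hφN, hφτ⟩ := ext_of_gal' hθT hinvT hidxT τ (fun n => hfix _) (fun c hc => hτc c (by
    obtain ⟨r, hr⟩ := hidx2
    rw [hr, pow_mul, hc, one_pow]))
  have hres : resT hNT φ = θ := by
    apply toSub_inj hNT
    rw [toSub_resT]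
    exact funext hφN
  have hne : classInner (resT hNT φ) θ ≠ 0 := by
    rw [hres, irr_inner_self hθ]; exact one_ne_zero
  have hcc := clifford_corr hN hNT hθ hTmem hφ hne
  rw [hres, irr_inner_self hθ] at hcc
  refine ⟨indFun T φ, hcc.1, by rw [hcc.2]; exact one_ne_zero, fun g => ?_, fun hinv => ?_, fun χ' hχ' hov hfix' => ?_⟩
  · have h1 := congrFun (gal_ind T φ τ) g
    rw [Function.comp_apply] at h1
    rw [h1]
    congr 1
    exact funext hφτ
  · have h1 := restrict_of_invariant hN hcc.1 hθ (fun g => by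
      ext n; exact hinv g n) (by rw [hcc.2]; exact one_ne_zero)
    rw [hcc.2, one_smul] at h1
    exact fun n => congrFun h1 n
  · obtain ⟨ψ, hψ, hψov, hψind, hψeq⟩ := clifford_corr_surj hN hNT hθ hTmem hχ' hov
    have hτψ : IsIrrCharacter T (τ ∘ ψ) := CfsgLib.GalChar.isIrrCharacter_gal τ hψ
    have hτov : classInner (resT hNT (τ ∘ ψ)) θ ≠ 0 := by
      have h1 : classInner (τ ∘ resT hNT ψ) (τ ∘ θ) = τ (classInner (resT hNT ψ) θ) :=
        CfsgLib.GalChar.inner_gal τ (resT_char hNT (irr_isCharacter hψ)) (irr_isCharacter hθ)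
      have h2 : τ ∘ θ = θ := funext hfix
      rw [h2] at h1
      have h3 : resT hNT (τ ∘ ψ) = τ ∘ resT hNT ψ := rfl
      rw [h3, h1]
      exact fun h => hψov ((map_eq_zero_iff τ τ.injective).mp h)
    have h4 : τ ∘ ψ = ψ := by
      apply clifford_corr_inj hN hNT hθ hTmem hτψ hψ hτov hψov
      rw [← gal_ind, hψind]
      exact funext hfix'
    have h5 : ψ = φ := by
      have h6 : (fun n : N.subgroupOf T => φ n) = toSub T θ := funext hφN
      refine unique_of_gal (N := N.subgroupOf T) hφ hψ (by rw [h6]; exact hθT) ?_ hidxT k (fun t => ?_) τ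
        (fun χ hχ g => CfsgLib.GalCliff.char_gal_pow hτ (Subgroup.card_subgroup_dvd_card T) hχ g) hφτ (fun t => congrFun h4 t)
      · rw [h6, ← toSub_resT hNT, ci_toSub hNT]
        exact hψov
      · rw [Subgroup.mem_subgroupOf]
        exact hkN t
    rw [← hψind, h5]

/-- Let N be a normal subgroup of odd index in the finite group G, and let k be coprime to the order of G with k ^ (2 ^ e) ≡ 1 modulo the order of G for some e and g ^ k = g⁻¹ for every element g of odd order (so g ↦ g ^ k induces a field automorphism of 2-power order inverting the roots of unity of odd order). If an irreducible character θ of N satisfies θ (n ^ k) = θ n for all n, then there is exactly one irreducible character χ of G with θ a constituent of its restriction to N and χ (g ^ k) = χ g for all g; moreover, if θ is invariant under conjugation by G, that χ restricts to θ. -/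
theorem result {G : Type*} [Group G] [Fintype G] (N : Subgroup G) [hN : N.Normal] [Fintype N] (hidx : Odd N.index) (k e : ℕ) (hk : Nat.Coprime k (Nat.card G)) (hke : k ^ (2 ^ e) ≡ 1 [MOD Nat.card G]) (hk₂ : ∀ g : G, Odd (orderOf g) → g ^ k = g⁻¹) (θ : Cfsg.IrrCharacter N) (hθ : ∀ n : N, (θ : N → ℂ) (n ^ k) = (θ : N → ℂ) n) : ∃ χ : Cfsg.IrrCharacter G, (Cfsg.classInner (fun n : N => (χ : G → ℂ) n) (θ : N → ℂ) ≠ 0 ∧ (∀ g : G, (χ : G → ℂ) (g ^ k) = (χ : G → ℂ) g) ∧ ((∀ g : G, ∀ n : N, (θ : N → ℂ) ⟨g * n * g⁻¹, hN.conj_mem n n.2 g⟩ = (θ : N → ℂ) n) → ∀ n : N, (χ : G → ℂ) n = (θ : N → ℂ) n)) ∧ ∀ χ' : Cfsg.IrrCharacter G, Cfsg.classInner (fun n : N => (χ' : G → ℂ) n) (θ : N → ℂ) ≠ 0 → (∀ g : G, (χ' : G → ℂ) (g ^ k) = (χ' : G → ℂ) g) → χ' = χ := by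
  obtain ⟨k', hk', hkk', hkd⟩ := exists_good_power k hk hk₂
  obtain ⟨τ, hτ⟩ := CfsgLib.GalCliff.exists_gal_pow hk'
  obtain ⟨χ, hχ, hover, hfix, hres, huniq⟩ := exists_unique_gal N hidx k' hkd τ hτ θ.2 (fun n => by
    have h1 : n ^ k' = n ^ k := Subtype.ext (hkk' (n : G))
    rw [← CfsgLib.GalCliff.char_gal_pow hτ (Subgroup.card_subgroup_dvd_card N) (irr_isCharacter θ.2), h1, hθ n])
  have hpow : ∀ (ψ : G → ℂ), IsCharacter G ψ → ∀ g, ψ (g ^ k) = τ (ψ g) := by
    intro ψ hψ g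
    rw [← hkk' g, CfsgLib.GalCliff.char_gal_pow hτ dvd_rfl hψ]
  refine ⟨⟨χ, hχ⟩, ⟨hover, fun g => ?_, fun hinv => hres hinv⟩, fun χ' hχ' hfix' => ?_⟩
  · show χ (g ^ k) = χ g
    rw [hpow χ (irr_isCharacter hχ), hfix]
  · apply Subtype.ext
    exact huniq _ χ'.2 hχ' (fun g => by rw [← hpow _ (irr_isCharacter χ'.2), hfix' g])

end Cfsg.Agent.S4519
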