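import Cfsg.Statements.S4706
import Cfsg.Agent.LibPrimeDeg20c
import Cfsg.Agent.LibZas20
import Cfsg.Agent.S0675
import Cfsg.Agent.LibPrimeDegree3

set_option autoImplicit false
set_option linter.all false
open Cfsg

namespace Cfsg.Agent.S4706


open MulAction CfsgLib.PrimeDeg20 CfsgLib.Zas

universe u

theorem psl_sl' {F : Type*} [Field F] [Fintype F] {m : ℕ} (hF : Fintype.card F = 2 ^ m) (hm : 1 ≤ m) :
    Nonempty (Matrix.ProjectiveSpecialLinearGroup (Fin 2) F ≃* Matrix.SpecialLinearGroup (Fin 2) F) := by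
  haveI : CharP F 2 := by
    obtain ⟨q, hq⟩ := CharP.exists F
    haveI := hq
    haveI : Fact q.Prime := ⟨CharP.char_is_prime F q⟩
    obtain ⟨n, hn, hcard⟩ := FiniteField.card F q
    rw [hF] at hcard
    have h1 : q ∣ 2 ^ m := by rw [hcard]; exact dvd_pow_self _ n.pos.ne'
    have h2 : q = 2 := (Nat.prime_dvd_prime_iff_eq hn Nat.prime_two).1 (hn.dvd_of_dvd_pow h1)
    rw [← h2]; exact hq
  have h1 : Subgroup.center (Matrix.SpecialLinearGroup (Fin 2) F) = ⊥ := by
    rw [eq_bot_iff]
    intro A hA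
    rw [Matrix.SpecialLinearGroup.mem_center_iff] at hA
    obtain ⟨r, hr, hrA⟩ := hA
    rw [Fintype.card_fin] at hr
    have h2 : r = 1 := by
      have h3 : (r - 1) ^ 2 = 0 := by
        have h4 : (2 : F) = 0 := CharTwo.two_eq_zero
        linear_combination hr - (r - 1) * h4
      have h5 := pow_eq_zero_iff (two_ne_zero) |>.1 h3
      linear_combination h5
    rw [Subgroup.mem_bot]
    apply Subtype.ext
    rw [← hrA, h2]
    simp
  exact ⟨(QuotientGroup.quotientMulEquivOfEq h1).trans QuotientGroup.quotientBot⟩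

theorem card_P {G : Type u} [Group G] [Finite G] {p : ℕ} [Fact p.Prime] (hp : 2 < p) (P : Sylow p G)
    (hN : Nat.card (Subgroup.normalizer ((P : Subgroup G) : Set G)) = 2 * p) : Nat.card P = p := by
  have hpp : p.Prime := Fact.out
  obtain ⟨n, hn⟩ := IsPGroup.iff_card.mp P.2
  have h1 : Nat.card P ∣ 2 * p := by
    rw [← hN]
    exact Subgroup.card_dvd_of_le Subgroup.le_normalizer
  have h2 : n ≤ 1 := by
    by_contra h
    have h3 : p ^ 2 ∣ 2 * p := (pow_dvd_pow p (by omega)).trans (hn ▸ h1)
    rw [pow_two] at h3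
    have h4 : p ∣ 2 := Nat.dvd_of_mul_dvd_mul_right hpp.pos h3
    have := Nat.le_of_dvd (by norm_num) h4
    omega
  have h3 : p ∣ Nat.card G := by
    have h4 := Subgroup.card_subgroup_dvd_card (Subgroup.normalizer ((P : Subgroup G) : Set G))
    rw [hN] at h4
    exact (Dvd.intro_left 2 rfl).trans h4
  have h4 : p ∣ Nat.card P := P.dvd_card_of_dvd_card h3
  interval_cases n
  · rw [hn, pow_zero] at h4
    exact absurd (Nat.dvd_one.mp h4) hpp.ne_one
  · rw [hn, pow_one]

theorem main_case {α : Type u} [Fintype α] [DecidableEq α] {p : ℕ} [Fact p.Prime] (hp : 2 < p) (hα : Fintype.card α = p) (G : Subgroup (Equiv.Perm α)) (P : Sylow p G)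
    (hN : Nat.card (Subgroup.normalizer ((P : Subgroup G) : Set G)) = 2 * p) (hPn : ¬ (P : Subgroup G).Normal) :
    ∃ (a : ℕ) (F : Type) (_ : Field F) (_ : Fintype F), p = 2 ^ a + 1 ∧ Fintype.card F = 2 ^ a ∧ Nonempty (G ≃* Matrix.SpecialLinearGroup (Fin 2) F) := by
  classical
  have hpp : p.Prime := Fact.out
  haveI : Finite G := inferInstance
  letI : Fintype G := Fintype.ofFinite G
  have hPc := card_P hp P hN
  have hPc' : Nat.card (P : Subgroup G) = p := hPc
  -- nontrivial element
  obtain ⟨z, hz, hz1⟩ : ∃ z ∈ (P : Subgroup G), z ≠ 1 := by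
    by_contra hcon
    push Not at hcon
    have h1 : (P : Subgroup G) = ⊥ := by rw [eq_bot_iff]; intro u hu; exact Subgroup.mem_bot.mpr (hcon u hu)
    rw [h1, Subgroup.card_bot] at hPc'
    omega
  have hgen : ∀ x ∈ (P : Subgroup G), x ≠ 1 → ∀ y ∈ (P : Subgroup G), ∃ i : ℕ, y = x ^ i := by
    intro x hx hx1 y hy
    have h1 : (⟨y, hy⟩ : (P : Subgroup G)) ∈ Subgroup.zpowers (⟨x, hx⟩ : (P : Subgroup G)) :=
      mem_zpowers_of_prime_card hPc' (fun h => hx1 (congrArg Subtype.val h))
    rw [mem_zpowers_iff_mem_range_orderOf, Finset.mem_image] at h1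
    obtain ⟨i, -, hi⟩ := h1
    exact ⟨i, (congrArg Subtype.val hi).symm⟩
  -- `P` is transitive
  have horb : ∀ c : α, (orbit (P : Subgroup G) c).ncard = 1 ∨ (orbit (P : Subgroup G) c).ncard = p := by
    intro c
    have h1 : (orbit (P : Subgroup G) c).ncard ∣ p := by
      rw [← MulAction.index_stabilizer]
      have h0 := Subgroup.index_dvd_card (stabilizer (P : Subgroup G) c)
      rwa [hPc'] at h0
    exact (Nat.dvd_prime hpp).mp h1
  obtain ⟨c₀, hc₀⟩ : ∃ c : α, z • c ≠ c := by
    by_contra hcon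
    push Not at hcon
    apply hz1
    apply FaithfulSMul.eq_of_smul_eq_smul (M := G) (α := α)
    intro c
    rw [one_smul, hcon c]
  have hPt0 : orbit (P : Subgroup G) c₀ = Set.univ := by
    apply Set.eq_of_subset_of_ncard_le (Set.subset_univ _)
    rw [Set.ncard_univ, Nat.card_eq_fintype_card, hα]
    rcases horb c₀ with h | h
    · exfalso
      obtain ⟨x, hx⟩ := Set.ncard_eq_one.mp h
      have h1 : c₀ ∈ orbit (P : Subgroup G) c₀ := mem_orbit_self c₀
      have h2 : z • c₀ ∈ orbit (P : Subgroup G) c₀ := ⟨⟨z, hz⟩, rfl⟩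
      rw [hx, Set.mem_singleton_iff] at h1 h2
      exact hc₀ (h2.trans h1.symm)
    · rw [h]
  have hPt : ∀ c d : α, ∃ u ∈ (P : Subgroup G), u • c = d := by
    have h1 : ∀ c : α, ∃ u ∈ (P : Subgroup G), u • c₀ = c := by
      intro c
      have : c ∈ orbit (P : Subgroup G) c₀ := by rw [hPt0]; trivial
      obtain ⟨u, hu⟩ := this
      exact ⟨u, u.2, hu⟩
    intro c d
    obtain ⟨u, hu, hu2⟩ := h1 c
    obtain ⟨w, hw, hw2⟩ := h1 d
    refine ⟨w * u⁻¹, (P : Subgroup G).mul_mem hw ((P : Subgroup G).inv_mem hu), ?_⟩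
    rw [mul_smul, ← hu2, inv_smul_smul, hw2]
  haveI : IsPretransitive G α := ⟨fun x y => by
    obtain ⟨u, -, hu⟩ := hPt x y
    exact ⟨u, hu⟩⟩
  have hPfix : ∀ x ∈ (P : Subgroup G), x ≠ 1 → ∀ c : α, x • c ≠ c := by
    intro x hx hx1 c hc
    haveI : Nontrivial α := Fintype.one_lt_card_iff_nontrivial.mp (by omega)
    obtain ⟨d, hd⟩ := exists_ne c
    obtain ⟨u, hu, huc⟩ := hPt c d
    obtain ⟨i, rfl⟩ := hgen x hx hx1 u hu
    have h1 : ∀ i : ℕ, x ^ i • c = c := by
      intro i
      induction i with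
      | zero => rw [pow_zero, one_smul]
      | succ k ih => rw [pow_succ, mul_smul, hc, ih]
    rw [h1] at huc
    exact hd huc.symm
  have hcomm : ∀ x ∈ (P : Subgroup G), ∀ y ∈ (P : Subgroup G), x * y = y * x := by
    intro x hx y hy
    by_cases hx1 : x = 1
    · rw [hx1, one_mul, mul_one]
    · obtain ⟨i, rfl⟩ := hgen x hx hx1 y hy
      exact ((Commute.refl x).pow_right i).eq
  have hcenP : ∀ g : G, (∀ y ∈ (P : Subgroup G), g * y = y * g) → g ∈ (P : Subgroup G) := by
    intro g hg
    obtain ⟨u, hu, hu2⟩ := hPt c₀ (g • c₀)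
    have h1 : g = u := by
      apply FaithfulSMul.eq_of_smul_eq_smul (M := G) (α := α)
      intro c
      obtain ⟨w, hw, rfl⟩ := hPt c₀ c
      rw [← mul_smul, hg w hw, mul_smul, ← hu2, ← mul_smul, ← mul_smul, hcomm w hw u hu]
    rw [h1]; exact hu
  have hcen : ∀ x ∈ (P : Subgroup G), x ≠ 1 → ∀ g : G, g * x = x * g → g ∈ (P : Subgroup G) := by
    intro x hx hx1 g hg
    apply hcenP
    intro y hy
    obtain ⟨i, rfl⟩ := hgen x hx hx1 y hy
    exact (Commute.pow_right (show Commute g x from hg) i).eq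
  -- the normalizer
  obtain ⟨N, hNdef⟩ : ∃ N : Subgroup G, N = Subgroup.normalizer ((P : Subgroup G) : Set G) := ⟨_, rfl⟩
  rw [← hNdef] at hN
  have hPN : (P : Subgroup G) ≤ N := by rw [hNdef]; exact Subgroup.le_normalizer
  have hidx : ((P : Subgroup G).subgroupOf N).index = 2 := by
    have h1 := ((P : Subgroup G).subgroupOf N).index_mul_card
    rw [hN, Nat.card_congr (Subgroup.subgroupOfEquivOfLe hPN).toEquiv, hPc'] at h1
    exact Nat.eq_of_mul_eq_mul_right hpp.pos h1
  obtain ⟨t, htN, htP⟩ : ∃ t ∈ N, t ∉ (P : Subgroup G) := by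
    by_contra hcon
    push Not at hcon
    have h1 : N = (P : Subgroup G) := le_antisymm hcon hPN
    rw [h1, hPc'] at hN
    omega
  have htt : t * t ∈ (P : Subgroup G) := by
    have h1 := Subgroup.sq_mem_of_index_two hidx ⟨t, htN⟩
    rw [pow_two] at h1
    exact h1
  have htconj : ∀ x ∈ (P : Subgroup G), t * x * t⁻¹ ∈ (P : Subgroup G) := by
    intro x hx
    rw [hNdef] at htN
    exact (Subgroup.mem_normalizer_iff.mp htN x).mp hx
  have hinv : ∀ x ∈ (P : Subgroup G), t * x * t⁻¹ = x⁻¹ := by
    intro x hx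
    have h1 := htconj x hx
    have h2 : x * (t * x * t⁻¹) ∈ (P : Subgroup G) := (P : Subgroup G).mul_mem hx h1
    by_contra hcon
    have h3 : x * (t * x * t⁻¹) ≠ 1 := by
      intro h
      exact hcon (eq_inv_of_mul_eq_one_right h)
    apply htP
    apply hcen _ h2 h3
    have h4 : (t * t) * x = x * (t * t) := hcomm _ htt _ hx
    have h5 : t * (t * x * t⁻¹) = x * t := by
      calc t * (t * x * t⁻¹) = (t * t) * x * t⁻¹ := by group
        _ = x * (t * t) * t⁻¹ := by rw [h4]
        _ = x * t := by group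
    calc t * (x * (t * x * t⁻¹)) = (t * x * t⁻¹) * (t * (t * x * t⁻¹)) := by group
      _ = (t * x * t⁻¹) * (x * t) := by rw [h5]
      _ = ((t * x * t⁻¹) * x) * t := by group
      _ = (x * (t * x * t⁻¹)) * t := by rw [hcomm _ h1 _ hx]
  have hnor : ∀ x ∈ (P : Subgroup G), x ≠ 1 → ∀ g : G, g⁻¹ * x * g ∈ (P : Subgroup G) → g ∈ (P : Subgroup G) ∨ g * t ∈ (P : Subgroup G) := by
    intro x hx hx1 g hg
    have hy1 : g⁻¹ * x * g ≠ 1 := by
      intro h
      apply hx1
      have : x = g * (g⁻¹ * x * g) * g⁻¹ := by group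
      rw [this, h]; group
    have hgN : g⁻¹ ∈ N := by
      rw [hNdef, Subgroup.mem_normalizer_iff]
      intro y
      constructor
      · intro hy
        obtain ⟨i, rfl⟩ := hgen x hx hx1 y hy
        rw [inv_inv]
        have h1 : g⁻¹ * x ^ i * g = (g⁻¹ * x * g) ^ i := by
          have := conj_pow (a := g⁻¹) (b := x) (i := i)
          rw [inv_inv] at this
          exact this.symm
        rw [h1]
        exact (P : Subgroup G).pow_mem hg i
      · intro hy
        rw [inv_inv] at hy
        obtain ⟨i, hi⟩ := hgen _ hg hy1 _ hy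
        have h1 : g⁻¹ * x ^ i * g = (g⁻¹ * x * g) ^ i := by
          have := conj_pow (a := g⁻¹) (b := x) (i := i)
          rw [inv_inv] at this
          exact this.symm
        rw [← h1] at hi
        have h2 : y = x ^ i := by
          have h3 : g⁻¹ * y = g⁻¹ * x ^ i := mul_right_cancel hi
          exact mul_left_cancel h3
        rw [h2]
        exact (P : Subgroup G).pow_mem hx i
    have hgN' : g ∈ N := by
      have := N.inv_mem hgN
      rwa [inv_inv] at this
    by_cases hgP : g ∈ (P : Subgroup G)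
    · exact Or.inl hgP
    · right
      have h1 : (⟨g, hgN'⟩ : N) * ⟨t, htN⟩ ∈ (P : Subgroup G).subgroupOf N := by
        rw [Subgroup.mul_mem_iff_of_index_two hidx]
        exact ⟨fun h => absurd h hgP, fun h => absurd h htP⟩
      exact h1
  -- `p ≥ 5`
  have hGdvd : Nat.card G ∣ p.factorial := by
    have h3 : Nat.card G ∣ Nat.card (Equiv.Perm α) := Subgroup.card_subgroup_dvd_card _
    have h4 : Nat.card α = p := by rw [Nat.card_eq_fintype_card, hα]
    rwa [Nat.card_perm, h4] at h3
  have hGN : N ≠ ⊤ := by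
    intro h
    apply hPn
    rw [hNdef] at h
    exact Subgroup.normalizer_eq_top_iff.mp h
  have h5 : 5 ≤ p := by
    by_contra hcon
    have hp3 : p = 3 ∨ p = 4 := by omega
    rcases hp3 with h | h
    · apply hGN
      apply Subgroup.eq_top_of_le_card
      rw [hN]
      have := Nat.le_of_dvd (Nat.factorial_pos p) hGdvd
      subst h
      simpa [Nat.factorial] using this
    · rw [h] at hpp
      exact absurd hpp (by decide)
  have H : Hyp (P : Subgroup G) p t := { card := hPc', cen := hcen, inv := hinv, nor := hnor, five := h5, prime := hpp }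
  -- 2-transitivity
  have h2t : ∀ a b c d : α, a ≠ b → c ≠ d → ∃ g : G, g • a = c ∧ g • b = d := by
    rcases Cfsg.Agent.S0675.result (by rw [hα]; exact hpp) G with h | h
    · exfalso
      obtain ⟨Q, hQ⟩ := CfsgLib.PrimeDegree3.exists_normal_sylow hα G h
      haveI := Sylow.unique_of_normal Q hQ
      apply hPn
      rw [Subsingleton.elim P Q]
      exact hQ
    · rw [is_two_pretransitive_iff] at h
      intro a b c d hab hcd
      exact h hab hcd
  have hfix : ∀ g : G, g ≠ 1 → Nat.card (fixedBy α g) ≤ 2 := fun g hg => H.fix_le hα h2t hPfix hg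
  have hthree : ∀ g : G, ∀ a b c : α, a ≠ b → b ≠ c → a ≠ c → g • a = a → g • b = b → g • c = c → g = 1 := by
    intro g a b c hab hbc hac h1 h2 h3
    by_contra hg
    have h4 := hfix g hg
    have h6 : ({a, b, c} : Finset α).card = 3 := by
      rw [Finset.card_insert_of_notMem, Finset.card_pair hbc]
      simp [hab, hac]
    have h7 : ({a, b, c} : Finset α).card ≤ (fixedBy α g).ncard := by
      rw [← Set.ncard_coe_finset]
      apply Set.ncard_le_ncard _ (Set.toFinite _)
      intro x hx
      simp only [Finset.coe_insert, Finset.coe_singleton, Set.mem_insert_iff, Set.mem_singleton_iff] at hx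
      rcases hx with rfl | rfl | rfl
      · exact h1
      · exact h2
      · exact h3
    rw [← Nat.card_coe_set_eq] at h7
    omega
  -- the order of the two-point stabilizer
  haveI : Nontrivial α := Fintype.one_lt_card_iff_nontrivial.mp (by omega)
  obtain ⟨a, b, hab⟩ := exists_pair_ne α
  obtain ⟨k, hk⟩ : ∃ k, k = Nat.card (EE G a b) := ⟨_, rfl⟩
  have hst : Nat.card (stabilizer G a) = (p - 1) * k := by
    have h1 := (stabilizer (stabilizer G a) b).index_mul_card
    rw [MulAction.index_stabilizer] at h1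
    have h2 : orbit (stabilizer G a) b = Set.univ \ {a} := by
      apply Set.eq_of_subset_of_subset
      · rintro x ⟨v, rfl⟩
        refine ⟨trivial, ?_⟩
        intro h4
        apply hab
        have h5 : (v : G) • b = a := h4
        have h6 : (v : G) • a = a := v.2
        exact MulAction.injective (v : G) (h6.trans h5.symm)
      · rintro x ⟨-, hx⟩
        obtain ⟨g, hg1, hg2⟩ := h2t a b a x hab (Ne.symm (show x ≠ a from hx))
        exact ⟨⟨g, hg1⟩, hg2⟩
    rw [h2, Set.ncard_sdiff (Set.subset_univ _) (Set.toFinite _), Set.ncard_univ, Nat.card_eq_fintype_card, hα, Set.ncard_singleton] at h1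
    have h3 : Nat.card (stabilizer (stabilizer G a) b) = Nat.card (EE G a b) := by
      refine Nat.card_congr ⟨fun g => ⟨((g : stabilizer G a) : G), (g : stabilizer G a).2, g.2⟩,
        fun g => ⟨⟨(g : G), g.2.1⟩, g.2.2⟩, fun g => rfl, fun g => rfl⟩
    rw [h3, ← hk] at h1
    exact h1.symm
  have hG : Nat.card G = p * ((p - 1) * k) := by
    have h1 := (stabilizer G a).index_mul_card
    rw [MulAction.index_stabilizer_of_transitive, Nat.card_eq_fintype_card, hα, hst] at h1
    exact h1.symm
  have hk0 : 0 < k := by rw [hk]; exact Nat.card_pos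
  have hkle : k ≤ p - 2 := by
    obtain ⟨c, hc⟩ : ∃ c : α, a ≠ c ∧ b ≠ c := by
      by_contra hcon
      push Not at hcon
      have h1 : (Finset.univ : Finset α) ⊆ {a, b} := by
        intro c _
        simp only [Finset.mem_insert, Finset.mem_singleton]
        by_cases h : a = c
        · exact Or.inl h.symm
        · exact Or.inr (hcon c h).symm
      have h2 := Finset.card_le_card h1
      have h3 := Finset.card_le_two (a := a) (b := b)
      rw [Finset.card_univ] at h2
      omega
    have h1 : Nat.card (EE G a b) ≤ Nat.card {x : α // x ≠ a ∧ x ≠ b} := by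
      refine Nat.card_le_card_of_injective (fun g : EE G a b => (⟨(g : G) • c, fun h => hc.1 (MulAction.injective (g : G) (Eq.trans g.2.1 h.symm)),
        fun h => hc.2 (MulAction.injective (g : G) (Eq.trans g.2.2 h.symm))⟩ : {x : α // x ≠ a ∧ x ≠ b})) ?_
      intro g g' h
      have h1 : (g : G) • c = (g' : G) • c := congrArg Subtype.val h
      have h2 : ((g : G)⁻¹ * g') • c = c := by rw [mul_smul, ← h1, inv_smul_smul]
      have h3 := ((EE G a b).mul_mem ((EE G a b).inv_mem g.2) g'.2)
      exact Subtype.ext (inv_mul_eq_one.mp (hthree _ a b c hab hc.2 hc.1 h3.1 h3.2 h2))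
    have h2 : Fintype.card {x : α // x ≠ a ∧ x ≠ b} = Fintype.card α - 2 := by
      have h2 : (Finset.univ.filter fun x : α => x ≠ a ∧ x ≠ b) = Finset.univ \ {a, b} := by
        ext x; simp [not_or]
      rw [Fintype.card_subtype, h2, Finset.card_sdiff_of_subset (Finset.subset_univ _), Finset.card_pair hab]; rfl
    rw [Nat.card_eq_fintype_card (α := {x : α // x ≠ a ∧ x ≠ b}), h2, hα, ← hk] at h1
    exact h1
  have hkp : k = p - 2 := by
    have h1 : Nat.card (Sylow p G) ≡ 1 [MOD p] := card_sylow_modEq_one p G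
    have h2 : Nat.card (Sylow p G) = N.index := by
      rw [hNdef]
      exact P.card_eq_index_normalizer
    have h3 := N.index_mul_card
    rw [hN, hG, ← h2] at h3
    have h4 : Nat.card (Sylow p G) * 2 = (p - 1) * k := by
      apply Nat.eq_of_mul_eq_mul_left hpp.pos
      rw [← h3]; ring
    have h6 : (p - 1) * k ≡ 2 [MOD p] := by
      rw [← h4]
      exact (Nat.ModEq.mul_right 2 h1)
    have h7 : (p - 1) * k + (k + 2) ≡ 2 + (k + 2) [MOD p] := h6.add_right _
    have h8 : (p - 1) * k + (k + 2) = p * k + 2 := by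
      obtain ⟨q, hq⟩ : ∃ q, p = q + 1 := ⟨p - 1, by omega⟩
      rw [hq, Nat.add_sub_cancel]; ring
    rw [h8] at h7
    have h9 : 2 ≡ 2 + (k + 2) [MOD p] := by
      refine Nat.ModEq.trans ?_ h7
      show 2 % p = (p * k + 2) % p
      rw [Nat.mul_add_mod]
    have h10 : p ∣ (k + 2) := by
      have := (Nat.modEq_iff_dvd' (by omega)).mp h9
      rwa [Nat.add_sub_cancel_left] at this
    have h11 := Nat.le_of_dvd (by omega) h10
    omega
  -- Zassenhaus
  have hZ : IsZassenhausGroup G α := by
    refine ⟨inferInstance, ?_, hthree, ?_, ?_⟩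
    · rw [MulAction.is_two_pretransitive_iff]
      intro x y u v hxy huv
      exact h2t x y u v hxy huv
    · have h2 : 1 < Nat.card (EE G a b) := by omega
      haveI := (Finite.one_lt_card_iff_nontrivial).mp h2
      obtain ⟨g, hg⟩ := exists_ne (1 : EE G a b)
      exact ⟨(g : G), fun h => hg (Subtype.ext h), a, b, hab, g.2.1, g.2.2⟩
    · intro M hM hMt
      by_contra hcon
      push Not at hcon
      have h1 : Nat.card M = p := by
        have h2 := (stabilizer M a).index_mul_card
        rw [MulAction.index_stabilizer_of_transitive, hcon a, Subgroup.card_bot, mul_one, Nat.card_eq_fintype_card, hα] at h2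
        exact h2.symm
      have h2 : IsPGroup p M := IsPGroup.of_card (n := 1) (by rw [h1, pow_one])
      obtain ⟨Q, hQ⟩ := h2.exists_le_sylow
      have h3 : M = (Q : Subgroup G) := by
        apply Subgroup.eq_of_le_of_card_ge hQ
        rw [h1]
        have h4 : Nat.card Q = Nat.card P := Nat.card_congr (Sylow.equiv Q P).toEquiv
        have h5 : Nat.card (Q : Subgroup G) = p := by
          show Nat.card Q = p
          rw [h4, hPc]
        rw [h5]
      rw [h3] at hM
      haveI := Sylow.unique_of_normal Q hM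
      apply hPn
      rw [Subsingleton.elim P Q]
      exact hM
  obtain ⟨K, hKa, hKc, hKf⟩ := exists_H hZ (a := a)
  have D : Dat G α a b K := { hZ := hZ, hab := hab, hHa := hKa, hcard := hKc, hfix := hKf }
  have he : Nat.card (EE G a b) + 1 = Nat.card K := by omega
  have hKp : Nat.card K = p - 1 := by omega
  have hpow := D.isPrimePow
  rw [hKp] at hpow
  obtain ⟨r, f, hr, hf, hrf⟩ := hpow
  have hr' : r.Prime := hr.nat_prime
  have hr2 : r = 2 := by
    have h1 : 2 ∣ r ^ f := by
      rw [hrf]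
      have := hpp.eq_two_or_odd
      omega
    exact ((Nat.prime_dvd_prime_iff_eq Nat.prime_two hr').mp (Nat.prime_two.dvd_of_dvd_pow h1)).symm
  rw [hr2] at hrf
  have hpf : p = 2 ^ f + 1 := by omega
  obtain ⟨F, iF, iFF, hcF, ⟨θ⟩⟩ := CfsgLib.S3T8.main (G := G) (Ω := α) (f := f) hf (by rw [hα]; exact hpf) (D.sharp he) D.sharp_free
  refine ⟨f, F, iF, iFF, hpf, hcF, ?_⟩
  haveI : Finite (Matrix.ProjGenLinGroup (Fin 2) F) := by
    unfold Matrix.ProjGenLinGroup; infer_instance
  have h3 : (CfsgLib.Dk29.LL F) = ⊤ := by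
    rw [← Subgroup.index_eq_one, CfsgLib.Dk29.index_LL, hcF]
    have h4 : Odd (2 ^ f - 1) := by
      have h5 : Even (2 ^ f) := Nat.even_pow.mpr ⟨even_two, by omega⟩
      have h6 : 0 < 2 ^ f := by positivity
      obtain ⟨k, hk⟩ := h5
      exact ⟨k - 1, by omega⟩
    exact (Nat.coprime_two_left).mpr h4
  obtain ⟨E⟩ := psl_sl' hcF hf
  exact ⟨(((θ.trans Subgroup.topEquiv.symm).trans (MulEquiv.subgroupCongr h3.symm)).trans CfsgLib.Dk29.pslEquivLL.symm).trans E⟩

/-- Let p > 2 be a prime and G a permutation group on p letters whose Sylow p-subgroup P has normalizer of order 2p. Then either P is normal in G, or p − 1 = 2^a for some a and G is isomorphic to SL(2, 2^a). -/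
theorem result {α : Type*} [Fintype α] [DecidableEq α] {p : ℕ} [Fact p.Prime] (hp : 2 < p) (hα : Fintype.card α = p) (G : Subgroup (Equiv.Perm α)) (P : Sylow p G) (hN : Nat.card (Subgroup.normalizer ((P : Subgroup G) : Set G)) = 2 * p) : (P : Subgroup G).Normal ∨ ∃ (a : ℕ) (F : Type) (_ : Field F) (_ : Fintype F), p = 2 ^ a + 1 ∧ Fintype.card F = 2 ^ a ∧ Nonempty (G ≃* Matrix.SpecialLinearGroup (Fin 2) F) := by
  classical
  haveI : Finite G := inferInstance
  by_cases hPn : (P : Subgroup G).Normal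
  · exact Or.inl hPn
  right
  exact main_case hp hα G P hN hPn

end Cfsg.Agent.S4706
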