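import Cfsg.Statements.S4707
import Mathlib
import Cfsg.Agent.LibH6QaB
import Cfsg.Agent.LibH6QaE
import Cfsg.Agent.LibH6BrF
import Cfsg.Agent.LibBR11q
import Cfsg.Agent.LibDkB29
import Cfsg.Agent.S0720

set_option autoImplicit false
open Cfsg

namespace Cfsg.Agent.S4707


open MulAction CfsgLib.H6Qa CfsgLib.PrimeDeg20

universe u

theorem order_arith {n : ℕ} (hn : 0 < n) (h5 : 5 ∣ n) (h25 : ¬ 5 ^ 2 ∣ n)
    (hq : ∀ q : ℕ, q.Prime → q ≠ 2 → q ≠ 5 → ∀ k, q ^ k ∣ n → q ^ k ∣ 3) : ∃ a : ℕ, n = 5 ^ 1 * 2 ^ a ∨ n = 3 * 5 ^ 1 * 2 ^ a := by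
  obtain ⟨a, m, hm, hnm⟩ := Nat.exists_eq_two_pow_mul_odd hn.ne'
  have hm0 : m ≠ 0 := by rintro rfl; simp at hm
  have h5m : 5 ∣ m := by
    rw [hnm] at h5
    rcases (Nat.Prime.dvd_mul Nat.prime_five).1 h5 with h | h
    · have := Nat.Prime.dvd_of_dvd_pow Nat.prime_five h
      omega
    · exact h
  obtain ⟨k, rfl⟩ := h5m
  have hk0 : k ≠ 0 := by rintro rfl; simp at hm0
  have hk5 : ¬ 5 ∣ k := by
    rintro ⟨c, rfl⟩
    apply h25
    rw [hnm]
    exact ⟨2 ^ a * c, by ring⟩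
  have hk2 : ¬ 2 ∣ k := by
    rintro ⟨c, rfl⟩
    rw [Nat.odd_iff] at hm
    omega
  have hkn : k ∣ n := by rw [hnm]; exact (dvd_mul_left k 5).trans (dvd_mul_left _ _)
  have hall : ∀ {d : ℕ}, d.Prime → d ∣ k → d = 3 := by
    intro d hd hdk
    have h2 : d ≠ 2 := by rintro rfl; exact hk2 hdk
    have h5' : d ≠ 5 := by rintro rfl; exact hk5 hdk
    have h3 := hq d hd h2 h5' 1 (by rw [pow_one]; exact hdk.trans hkn)
    rw [pow_one] at h3
    exact (Nat.prime_dvd_prime_iff_eq hd Nat.prime_three).1 h3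
  have h3 := Nat.eq_prime_pow_of_unique_prime_dvd hk0 hall
  have h4 := hq 3 Nat.prime_three (by norm_num) (by norm_num) _ (h3 ▸ hkn)
  rw [← h3] at h4
  rcases (Nat.dvd_prime Nat.prime_three).1 h4 with h | h
  · exact ⟨a, Or.inl (by rw [hnm, h]; ring)⟩
  · exact ⟨a, Or.inr (by rw [hnm, h]; ring)⟩

theorem two_pow_arith {m a : ℕ} (ha : 0 < a) (h : 2 ^ m = 2 * a ^ 2 + 2 * a) : a = 1 := by
  have h1 : a * (a + 1) ∣ 2 ^ m := by rw [h]; exact ⟨2, by ring⟩
  rcases Nat.even_or_odd a with h2 | h2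
  · exfalso
    have h3 : Odd (a + 1) := h2.add_one
    have h4 : a + 1 ∣ 2 ^ m := (dvd_mul_left _ _).trans h1
    obtain ⟨k, -, hk⟩ := (Nat.dvd_prime_pow Nat.prime_two).1 h4
    rcases Nat.eq_zero_or_pos k with h5 | h5
    · rw [h5, pow_zero] at hk; omega
    · rw [hk] at h3
      exact (Nat.not_even_iff_odd.2 h3) (Nat.even_pow.2 ⟨even_two, h5.ne'⟩)
  · have h4 : a ∣ 2 ^ m := (dvd_mul_right _ _).trans h1
    obtain ⟨k, -, hk⟩ := (Nat.dvd_prime_pow Nat.prime_two).1 h4
    rcases Nat.eq_zero_or_pos k with h5 | h5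
    · rw [hk, h5, pow_zero]
    · exfalso
      rw [hk] at h2
      exact (Nat.not_even_iff_odd.2 h2) (Nat.even_pow.2 ⟨even_two, h5.ne'⟩)

theorem five_case {G : Type u} [Group G] [Finite G] [IsSimpleGroup G] (hna : ∃ x y : G, x * y ≠ y * x) {P : Subgroup G} {t : G} {ψ : G → ℂ}
    {n : G → ℤ} [Fintype G] (h : CD P 5 t ψ n) (h5 : 5 ∣ Nat.card G) (h25 : ¬ 5 ^ 2 ∣ Nat.card G) : Nonempty (G ≃* alternatingGroup (Fin 5)) := by
  obtain ⟨a, ha⟩ := order_arith Nat.card_pos h5 h25 (by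
    intro q hq hq2 hq5 k hk
    haveI := Fact.mk hq
    obtain ⟨Q⟩ := (inferInstance : Nonempty (Sylow q G))
    have h1 := h.sylow hq2 hq5 Q
    exact (Q.pow_dvd_card_of_pow_dvd_card hk).trans h1)
  rcases ha with ha | ha
  · exact absurd ha (CfsgLib.H6Br.not_two_primes hna Nat.prime_five Nat.prime_two)
  · apply CfsgLib.Dk29.simple60
    rcases CfsgLib.H6Br.part2b hna Nat.prime_five (by norm_num) (by norm_num) ha with h1 | h1
    · exact h1
    · exfalso
      rw [h1] at h5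
      norm_num at h5

theorem main {α : Type u} [Fintype α] [DecidableEq α] {p : ℕ} [Fact p.Prime] (hp : 3 < p) (hα : Fintype.card α = 2 * p) (G : Subgroup (Equiv.Perm α)) (hprim : MulAction.IsPreprimitive G α) (hnot2 : ¬ MulAction.IsMultiplyPretransitive G α 2) (P : Sylow p G) (hN : Nat.card (Subgroup.normalizer ((P : Subgroup G) : Set G)) = 2 * p) : p = 5 ∧ Nonempty (G ≃* alternatingGroup (Fin 5)) := by
  classical
  have hpp : p.Prime := Fact.out
  letI : Fintype G := Fintype.ofFinite G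
  obtain ⟨hsim, hna, hfpf, t, H⟩ := setup hp hα G hprim hnot2 P hN
  haveI := hsim
  have hne : Nonempty α := by rw [← Fintype.card_pos_iff, hα]; omega
  obtain ⟨a₀⟩ := hne
  haveI := hprim.toIsPretransitive
  obtain ⟨hrank, a, ha0, hpa, -⟩ := (Cfsg.Agent.S0720.result hpp hα G hprim a₀).resolve_left hnot2
  obtain ⟨ψ, n, hcd⟩ := exists_cd hna H hα a₀ hrank hfpf
  have h5 := H.five
  have hPc : Nat.card (P : Subgroup G) = p := H.card
  have hdv : p ∣ Nat.card G := by
    rw [← hPc]; exact Subgroup.card_subgroup_dvd_card _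
  have hp5 : p = 5 := by
    by_contra hne5
    have h7 : 7 ≤ p := by
      by_contra hcon
      have : p = 6 := by omega
      rw [this] at hpp
      exact absurd hpp (by decide)
    have hord := hcd.order h7
    have hnc : ¬ IsCyclic G := by
      intro hc
      obtain ⟨x, y, hxy⟩ := hna
      letI := IsCyclic.commGroup (α := G)
      exact hxy (mul_comm x y)
    obtain ⟨q, hq⟩ : ∃ q, p = q + 2 := ⟨p - 2, by omega⟩
    rcases CfsgLib.BR11.s0999 hnc hpp hdv (by
      rw [hord, hq]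
      have e1 : q + 2 - 1 = q + 1 := by omega
      have e2 : q + 2 - 2 = q := by omega
      rw [e1, e2]
      nlinarith [Nat.zero_le q, Nat.zero_le (q * q)]) with ⟨F, _, _, hF, -, ⟨e⟩⟩ | ⟨m, F, _, _, hF, hpm, -, -⟩
    · have h1 := CfsgLib.BR11.card_psl_odd hF hpp (by omega)
      rw [← Nat.card_congr e.toEquiv, hord] at h1
      have h2 : p * ((p - 1) * (2 * (p - 2))) = p * ((p - 1) * (p + 1)) := by rw [← h1]; ring
      have h3 := Nat.eq_of_mul_eq_mul_left (by omega) (Nat.eq_of_mul_eq_mul_left hpp.pos h2)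
      omega
    · apply hne5
      have h1 := two_pow_arith (m := m) ha0 (by omega)
      rw [hpa, h1]; norm_num
  refine ⟨hp5, ?_⟩
  subst hp5
  apply five_case hna hcd hdv
  intro h25
  have h12 : 5 ^ 2 ∣ Nat.card (P : Subgroup G) := P.pow_dvd_card_of_pow_dvd_card h25
  rw [hPc] at h12
  norm_num at h12

/-- Let p > 3 be a prime and G a primitive permutation group of degree 2p that is not doubly transitive. If a Sylow p-subgroup of G has normalizer of order 2p, then p = 5 and G is isomorphic to the alternating group of degree 5. -/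
theorem result {α : Type*} [Fintype α] [DecidableEq α] {p : ℕ} [Fact p.Prime] (hp : 3 < p) (hα : Fintype.card α = 2 * p) (G : Subgroup (Equiv.Perm α)) (hprim : MulAction.IsPreprimitive G α) (hnot2 : ¬ MulAction.IsMultiplyPretransitive G α 2) (P : Sylow p G) (hN : Nat.card (Subgroup.normalizer ((P : Subgroup G) : Set G)) = 2 * p) : p = 5 ∧ Nonempty (G ≃* alternatingGroup (Fin 5)) := by
  exact main hp hα G hprim hnot2 P hN

end Cfsg.Agent.S4707
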