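import Cfsg.Statements.S4873
import Cfsg.Agent.S4519
import Cfsg.Agent.LibFS
import Cfsg.Agent.LibPBSigma

set_option autoImplicit false
set_option linter.all false
open Cfsg

namespace Cfsg.Agent.S4873

open CfsgLib.Extend CfsgLib.CharBasic CfsgLib.Clifford CfsgLib.FS
open scoped ComplexConjugate


/-- Let N be a normal subgroup of odd index in the finite group G. Then every irreducible complex character of N with Frobenius–Schur indicator +1 lies under exactly one irreducible character of G with Frobenius–Schur indicator +1. -/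
theorem result {G : Type*} [Group G] [Finite G] (N : Subgroup G) [N.Normal] (hodd : Odd N.index) (φ : Cfsg.IrrCharacter ↥N) (hφ : (Nat.card ↥N : ℂ)⁻¹ * ∑ᶠ g : ↥N, (φ : ↥N → ℂ) (g * g) = 1) : ∃! χ : Cfsg.IrrCharacter G, (Nat.card G : ℂ)⁻¹ * ∑ᶠ g : G, (χ : G → ℂ) (g * g) = 1 ∧ (∑ᶠ n : ↥N, (χ : G → ℂ) n * (starRingEnd ℂ) ((φ : ↥N → ℂ) n)) ≠ 0 := by
  classical
  haveI := Fintype.ofFinite G
  haveI := Fintype.ofFinite N
  have hφ1 : fsInd (φ : N → ℂ) = 1 := hφ
  have hφr : ∀ n, ((φ : N → ℂ) n).im = 0 := (fs_ne_zero_iff φ.2).mp (by rw [hφ1]; exact one_ne_zero)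
  have hcardG : (Nat.card G : ℂ) ≠ 0 := by exact_mod_cast Nat.card_pos.ne'
  have hcardN : (Nat.card N : ℂ) ≠ 0 := by exact_mod_cast Nat.card_pos.ne'
  have hover_iff : ∀ χ : G → ℂ, (∑ᶠ n : ↥N, χ n * (starRingEnd ℂ) ((φ : ↥N → ℂ) n)) ≠ 0 ↔
      classInner (fun n : N => χ n) (φ : N → ℂ) ≠ 0 := by
    intro χ
    unfold classInner
    rw [mul_ne_zero_iff, finsum_eq_sum_of_fintype]
    exact ⟨fun h => ⟨inv_ne_zero hcardN, h⟩, fun h => h.2⟩
  -- the unique real character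
  set τ : ℂ ≃+* ℂ := (Complex.conjAe : ℂ ≃ₐ[ℝ] ℂ).toRingEquiv with hτdef
  have hτc : ∀ z, τ z = (starRingEnd ℂ) z := fun z => rfl
  have hpos : 0 < Nat.card G := Nat.card_pos
  obtain ⟨χ₀, hχ₀, hov₀, hfix₀, -, huniq⟩ := Cfsg.Agent.S4519.exists_unique_gal N hodd (Nat.card G - 1)
    (fun m _ hm => by rwa [Nat.sub_add_cancel hpos]) τ (fun ζ hζ => by
      have h1 : ζ ≠ 0 := by
        rintro rfl
        rw [zero_pow hpos.ne'] at hζ
        exact zero_ne_one hζ
      have h2 : ζ ^ (Nat.card G - 1) = ζ⁻¹ := by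
        apply eq_inv_of_mul_eq_one_left
        rw [← pow_succ, Nat.sub_add_cancel hpos, hζ]
      rw [h2, hτc]
      have h3 : ‖ζ‖ = 1 := Complex.norm_eq_one_of_pow_eq_one hζ hpos.ne'
      rw [Complex.inv_def, Complex.normSq_eq_norm_sq, h3]
      simp) φ.2 (fun n => by
        rw [hτc]; exact Complex.conj_eq_iff_im.mpr (hφr n))
  have huniq' : ∀ χ : G → ℂ, IsIrrCharacter G χ → classInner (fun n : N => χ n) (φ : N → ℂ) ≠ 0 → fsInd χ ≠ 0 → χ = χ₀ := by
    intro χ hχ hov hfs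
    apply huniq χ hχ hov
    intro g
    rw [hτc]
    exact Complex.conj_eq_iff_im.mpr ((fs_ne_zero_iff hχ).mp hfs g)
  -- square roots
  have hsq : ∀ g : G, g * g ∈ N → g ∈ N := by
    intro g hg
    obtain ⟨k, hk⟩ := hodd
    have h1 := N.pow_index_mem g
    rw [hk, pow_succ, pow_mul, pow_two] at h1
    exact (N.mul_mem_cancel_left (N.pow_mem hg k)).mp h1
  have hcount : ∀ n : N, Nat.card {x : G // x * x = (n : G)} = Nat.card {x : N // x * x = n} := by
    intro n
    apply Nat.card_congr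
    refine ⟨fun x => ⟨⟨x.1, hsq x.1 (by rw [x.2]; exact n.2)⟩, Subtype.ext x.2⟩, fun x => ⟨x.1, congrArg Subtype.val x.2⟩,
      fun x => rfl, fun x => rfl⟩
  have hkey : ∀ n : N, ∑ χ : IrrCharacter G, fsInd (χ : G → ℂ) * (χ : G → ℂ) n =
      ∑ θ : IrrCharacter N, fsInd (θ : N → ℂ) * (θ : N → ℂ) n := by
    intro n
    rw [← sqrt_count, ← sqrt_count, hcount]
  have hsum : ∑ χ : IrrCharacter G, fsInd (χ : G → ℂ) * classInner (fun n : N => (χ : G → ℂ) n) (φ : N → ℂ) = 1 := by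
    have h1 : classInner (fun n : N => ∑ χ : IrrCharacter G, fsInd (χ : G → ℂ) * (χ : G → ℂ) n) (φ : N → ℂ) =
        classInner (fun n : N => ∑ θ : IrrCharacter N, fsInd (θ : N → ℂ) * (θ : N → ℂ) n) (φ : N → ℂ) := by
      congr 1
      exact funext hkey
    have h2 : ∀ (ι : Type _) [Fintype ι] (c : ι → ℂ) (f : ι → N → ℂ),
        classInner (fun n : N => ∑ i, c i * f i n) (φ : N → ℂ) = ∑ i, c i * classInner (f i) (φ : N → ℂ) := by
      intro ι _ c f
      unfold classInner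
      simp only [Finset.sum_mul, Finset.mul_sum]
      rw [Finset.sum_comm]
      refine Finset.sum_congr rfl fun i _ => Finset.sum_congr rfl fun n _ => ?_
      ring
    rw [h2, h2] at h1
    rw [h1, Finset.sum_eq_single φ]
    · rw [hφ1, irr_inner_self φ.2, one_mul]
    · intro θ _ hne
      rw [irr_inner_ne θ.2 φ.2 (fun h => hne (Subtype.ext h)), mul_zero]
    · intro h; exact absurd (Finset.mem_univ _) h
  have hval : fsInd χ₀ * classInner (fun n : N => χ₀ n) (φ : N → ℂ) = 1 := by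
    rw [Finset.sum_eq_single (⟨χ₀, hχ₀⟩ : IrrCharacter G)] at hsum
    · exact hsum
    · intro χ _ hne
      by_contra h
      have h := mul_ne_zero_iff.mp h
      exact hne (Subtype.ext (huniq' χ χ.2 h.2 h.1))
    · intro h; exact absurd (Finset.mem_univ _) h
  have hfs₀ : fsInd χ₀ = 1 := by
    rcases fs_trichotomy hχ₀ with h | h | h
    · rw [h, zero_mul] at hval; exact absurd hval zero_ne_one
    · exact h
    · exfalso
      obtain ⟨m, hm⟩ := (isCharacter_iff.mp (isCharacter_restrict (irr_isCharacter hχ₀) N)).2 _ φ.2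
      rw [h, hm] at hval
      have h3 : ((-(m : ℤ) : ℤ) : ℂ) = ((1 : ℤ) : ℂ) := by push_cast; linear_combination hval
      have h4 : (-(m : ℤ) : ℤ) = 1 := by exact_mod_cast h3
      omega
  refine ⟨⟨χ₀, hχ₀⟩, ⟨hfs₀, (hover_iff χ₀).mpr hov₀⟩, ?_⟩
  rintro χ ⟨h1, h2⟩
  apply Subtype.ext
  refine huniq' χ χ.2 ((hover_iff _).mp h2) ?_
  have h3 : fsInd (χ : G → ℂ) = 1 := h1
  rw [h3]; exact one_ne_zero

end Cfsg.Agent.S4873
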