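import Cfsg.Statements.S4964
import Cfsg.Agent.LibBlockQuo
import Cfsg.Agent.LibH2Wst
import Cfsg.Agent.LibLE10

set_option autoImplicit false
open Cfsg

namespace Cfsg.Agent.S4964

open scoped commutatorElement
open CfsgLib.BlockQuo CfsgLib.BlockCov3 CfsgLib.BlockCov CfsgLib.BlockR CfsgLib.BlockCount2 CfsgLib.BlockIdem CfsgLib.BlockOrth CfsgLib.BlockQP

/-- Let D be a normal p-subgroup of the finite group G, let D′ be its commutator subgroup (normal in G), and fix a maximal ideal M of the algebraic integers containing p. Then (i) two irreducible characters of G ⧸ D′ lie in the same p-block if and only if their inflations to G do, and (ii) every p-block of G contains the inflation of some irreducible character of G ⧸ D′; so inflation induces a bijection between the p-blocks of G ⧸ D′ and the p-blocks of G. -/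
theorem result {G : Type*} [Group G] [Finite G] (p : ℕ) [Fact p.Prime] (M : Ideal Cfsg.AlgInt) (hM : Cfsg.IsPModular p M) (D : Subgroup G) [D.Normal] (hD : IsPGroup p D) : (∀ χ ψ : Cfsg.IrrCharacter (G ⧸ ⁅D, D⁆), Cfsg.SameBlock M (χ : G ⧸ ⁅D, D⁆ → ℂ) (ψ : G ⧸ ⁅D, D⁆ → ℂ) ↔ Cfsg.SameBlock M ((χ : G ⧸ ⁅D, D⁆ → ℂ) ∘ QuotientGroup.mk) ((ψ : G ⧸ ⁅D, D⁆ → ℂ) ∘ QuotientGroup.mk)) ∧ ∀ B : Set (Cfsg.IrrCharacter G), Cfsg.IsPBlock M B → ∃ χ : Cfsg.IrrCharacter (G ⧸ ⁅D, D⁆), ∃ θ ∈ B, (θ : G → ℂ) = (χ : G ⧸ ⁅D, D⁆ → ℂ) ∘ QuotientGroup.mk := by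
  classical
  letI := Fintype.ofFinite G
  have hp := isPrime_of_modular hM
  have hD' : IsPGroup p (⁅D, D⁆ : Subgroup G) := hD.to_le (Subgroup.commutator_le_left D D)
  constructor
  · intro χ ψ
    constructor
    · intro h
      exact sameBlock_infl hp (N := ⁅D, D⁆) (ξ := χ) (ξ' := ψ) h
    · intro h
      letI : Fintype (G ⧸ ⁅D, D⁆) := Fintype.ofFinite _
      apply sameBlock_of_reg hM
      intro y hy
      obtain ⟨g, hg, rfl⟩ := exists_reg_lift ⁅D, D⁆ hy
      haveI : (D.map (QuotientGroup.mk' ⁅D, D⁆)).Normal := Subgroup.Normal.map inferInstance _ (QuotientGroup.mk'_surjective _)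
      by_cases hc : (g : G ⧸ ⁅D, D⁆) ∈ Subgroup.centralizer ((D.map (QuotientGroup.mk' ⁅D, D⁆) : Subgroup (G ⧸ ⁅D, D⁆)) : Set (G ⧸ ⁅D, D⁆))
      · have h1 : Subgroup.zpowers g ≤ Subgroup.centralizer (D : Set G) := by
          apply CfsgLib.H2Wst.le_centralizer_of_frattini hD
          · rw [Nat.card_zpowers]
            exact ((Nat.Prime.coprime_iff_not_dvd Fact.out).2 hg).symm
          · rw [Subgroup.normalizer_eq_top]; exact le_top
          · have h8 : (_root_.commutator D).map D.subtype = ⁅D, D⁆ := by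
              rw [commutator_def, Subgroup.map_commutator]
              simp [← MonoidHom.range_eq_map]
            have h9 : ⁅D, D⁆ ≤ (frattini D).map D.subtype := by
              rw [← h8]
              exact Subgroup.map_mono (CfsgLib.LE.commutator_le_frattini (p := p) hD)
            refine le_trans ?_ h9
            rw [Subgroup.commutator_le]
            intro d hd a ha
            obtain ⟨i, rfl⟩ := ha
            rw [← QuotientGroup.eq_one_iff]
            have h2 : Commute (g : G ⧸ ⁅D, D⁆) (d : G ⧸ ⁅D, D⁆) :=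
              ((Subgroup.mem_centralizer_iff.1 hc) _ (Subgroup.mem_map_of_mem _ hd)).symm
            have h3 := h2.zpow_left i
            have h4 : ((⁅d, g ^ i⁆ : G) : G ⧸ ⁅D, D⁆) = ⁅(d : G ⧸ ⁅D, D⁆), (g : G ⧸ ⁅D, D⁆) ^ i⁆ := rfl
            change ((⁅d, g ^ i⁆ : G) : G ⧸ ⁅D, D⁆) = 1
            rw [h4, commutatorElement_eq_one_iff_commute]
            exact h3.symm
        have h2 : g ∈ Subgroup.centralizer ((⁅D, D⁆ : Subgroup G) : Set G) :=
          Subgroup.centralizer_le (Subgroup.commutator_le_left D D) (h1 (Subgroup.mem_zpowers g))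
        rw [← centralChar_infl hD' hg h2, ← centralChar_infl hD' hg h2]
        exact h g
      · exact ideal_sub hp (centralChar_ideal_off hM _ (hD.map _) χ hc) (centralChar_ideal_off hM _ (hD.map _) ψ hc)
  · intro B hB
    obtain ⟨b, ⟨χ, rfl⟩, hb, -⟩ := s4434 (N := ⁅D, D⁆) hM hD' hB
    exact ⟨χ, infl ⁅D, D⁆ χ, hb χ (sameBlock_refl hp _), rfl⟩

end Cfsg.Agent.S4964
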