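import Cfsg.Statements.S5045
import Cfsg.Agent.LibH14RI


set_option autoImplicit false
open Cfsg

namespace Cfsg.Agent.S5045


open Subgroup CfsgLib.RI14

variable {G : Type*} [Group G] {D : Set G}

theorem iso_iff (hD : IsRootInvolutionSet D) {w : G} : IsIsolatedElem (OddAdj D) D w ↔ w ∈ D ∧ ∀ b ∈ D, ¬ Od w b := by
  constructor
  · rintro ⟨h1, h2⟩
    exact ⟨h1, fun b hb h => (h2 b).1 (oddAdj_iff.mpr ⟨h1, hb, h⟩)⟩
  · rintro ⟨h1, h2⟩
    refine ⟨h1, fun b => ⟨fun h => ?_, fun h => ?_⟩⟩
    · have := oddAdj_iff.mp h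
      exact h2 b this.2.1 this.2.2
    · have := oddAdj_iff.mp (OddAdj_symm hD h)
      exact h2 b this.2.1 this.2.2

theorem iso_cj (hD : IsRootInvolutionSet D) {w : G} (h : IsIsolatedElem (OddAdj D) D w) (g : G) :
    IsIsolatedElem (OddAdj D) D (g * w * g⁻¹) := by
  rw [iso_iff hD] at h ⊢
  refine ⟨hD.conj_mem _ h.1 g, fun b hb hod => ?_⟩
  have h1 := hod.cj g⁻¹
  have e : g⁻¹ * (g * w * g⁻¹) * g⁻¹⁻¹ = w := by group
  rw [e] at h1
  exact h.2 _ (hD.conj_mem b hb g⁻¹) h1

theorem iso_mem [Finite G] (hD : IsRootInvolutionSet D) {w : G} (h : IsIsolatedElem (OddAdj D) D w) : w ∈ pCore 2 G := by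
  haveI : Fact (Nat.Prime 2) := ⟨Nat.prime_two⟩
  apply CfsgLib.H2Baer.baer_suzuki_elt
  intro g
  rw [iso_iff hD] at h
  have h2 := hD.conj_mem _ h.1 g
  exact isPGroup_pair (sq hD h.1) (pow4 hD h.1 h2 (h.2 _ h2)) (sq hD h2)

theorem mem_iso [Finite G] (hD : IsRootInvolutionSet D) {d : G} (hd : d ∈ D) (hdQ : d ∈ pCore 2 G) :
    IsIsolatedElem (OddAdj D) D d := by
  haveI : Fact (Nat.Prime 2) := ⟨Nat.prime_two⟩
  rw [iso_iff hD]
  refine ⟨hd, fun b hb h => ?_⟩
  have h1 : (d * b) ^ 2 ∈ pCore 2 G := by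
    have h2 : (d * b) ^ 2 = d * (b * d * b⁻¹) := by rw [inv_eq hD hb, pow_two]; group
    rw [h2]
    exact mul_mem hdQ ((inferInstance : (pCore 2 G).Normal).conj_mem d hdQ b)
  obtain ⟨k, hk⟩ := CfsgLib.Cores.pCore_isPGroup 2 (G := G) ⟨_, h1⟩
  have h3 : ((d * b) ^ 2) ^ 2 ^ k = 1 := congrArg Subtype.val hk
  rw [← pow_mul, ← pow_succ'] at h3
  exact h.mul_ne hD hb (odd_pow h.2 _ h3)

theorem exists_of_not_iso (hD : IsRootInvolutionSet D) {d : G} (hd : d ∈ D) (h : ¬ IsIsolatedElem (OddAdj D) D d) :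
    ∃ c ∈ D, Od d c := by
  rw [iso_iff hD] at h
  push Not at h
  exact h hd

theorem nbr_of_comp (hD : IsRootInvolutionSet D) {a : G} (h : ∃ a' ∈ elemComponentOf (OddAdj D) D a, a' ≠ a) : ∃ c ∈ D, Od a c := by
  obtain ⟨a', ⟨-, h1⟩, h2⟩ := h
  rcases Relation.ReflTransGen.cases_head h1 with h3 | ⟨c, h3, -⟩
  · exact absurd h3.symm h2
  · have := oddAdj_iff.mp h3
    exact ⟨c, this.2.1, this.2.2⟩



/-- Let G be a finite group generated by a set D of root involutions, and W the set of members of D whose product with every other member of D has even order or is trivial (the isolated vertices of the odd-order-product graph on D). Then W is conjugation-invariant and generates a normal 2-subgroup of G meeting D in exactly W; the commutator of two members of D lying in different connected components of that graph, each with more than one member, lies in the subgroup generated by W; and for a in such a component, every member of D commuting with a, different from a and with product with a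 in D, lies in that component or in W. -/
theorem result {G : Type*} [Group G] [Finite G] {D : Set G} (hD : Cfsg.IsRootInvolutionSet D) :
    (∀ w ∈ {w | Cfsg.IsIsolatedElem (Cfsg.OddAdj D) D w}, ∀ g : G, g * w * g⁻¹ ∈ {w | Cfsg.IsIsolatedElem (Cfsg.OddAdj D) D w}) ∧
    (Subgroup.closure {w | Cfsg.IsIsolatedElem (Cfsg.OddAdj D) D w}).Normal ∧
    IsPGroup 2 ↥(Subgroup.closure {w | Cfsg.IsIsolatedElem (Cfsg.OddAdj D) D w}) ∧
    (Subgroup.closure {w | Cfsg.IsIsolatedElem (Cfsg.OddAdj D) D w} : Set G) ∩ D = {w | Cfsg.IsIsolatedElem (Cfsg.OddAdj D) D w} ∧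
    (∀ a ∈ D, ∀ b ∈ D, (∃ a' ∈ Cfsg.elemComponentOf (Cfsg.OddAdj D) D a, a' ≠ a) →
      (∃ b' ∈ Cfsg.elemComponentOf (Cfsg.OddAdj D) D b, b' ≠ b) →
      Cfsg.elemComponentOf (Cfsg.OddAdj D) D a ≠ Cfsg.elemComponentOf (Cfsg.OddAdj D) D b →
        a * b * a⁻¹ * b⁻¹ ∈ Subgroup.closure {w | Cfsg.IsIsolatedElem (Cfsg.OddAdj D) D w}) ∧
    (∀ a ∈ D, (∃ a' ∈ Cfsg.elemComponentOf (Cfsg.OddAdj D) D a, a' ≠ a) →
      Cfsg.productPartners D a ⊆ Cfsg.elemComponentOf (Cfsg.OddAdj D) D a ∪ {w | Cfsg.IsIsolatedElem (Cfsg.OddAdj D) D w}) := by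
  haveI : Fact (Nat.Prime 2) := ⟨Nat.prime_two⟩
  have hle : Subgroup.closure {w | IsIsolatedElem (OddAdj D) D w} ≤ pCore 2 G := by
    rw [closure_le]
    exact fun w hw => iso_mem hD hw
  refine ⟨fun w hw g => iso_cj hD hw g, ?_, (CfsgLib.Cores.pCore_isPGroup 2 (G := G)).to_le hle, ?_, ?_, ?_⟩
  · constructor
    intro n hn g
    induction hn using closure_induction with
    | mem x hx => exact subset_closure (iso_cj hD hx g)
    | one => simpa using one_mem _
    | mul x y _ _ hx hy =>
      have : g * (x * y) * g⁻¹ = (g * x * g⁻¹) * (g * y * g⁻¹) := by group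
      rw [this]; exact mul_mem hx hy
    | inv x _ hx =>
      have : g * x⁻¹ * g⁻¹ = (g * x * g⁻¹)⁻¹ := by group
      rw [this]; exact inv_mem hx
  · ext d
    constructor
    · rintro ⟨h1, h2⟩
      exact mem_iso hD h2 (hle h1)
    · intro h
      exact ⟨subset_closure h, h.1⟩
  · intro a ha b hb _ _ hne
    have hR : ¬ Relation.ReflTransGen (OddAdj D) a b := by
      intro h
      apply hne
      ext c
      constructor
      · rintro ⟨hc, h1⟩
        exact ⟨hc, (reach_symm hD h).trans h1⟩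
      · rintro ⟨hc, h1⟩
        exact ⟨hc, h.trans h1⟩
    have hai := inv_eq hD ha
    have hbi := inv_eq hD hb
    have haa := sq hD ha
    have hbb := sq hD hb
    rcases cases hD ha hb with h | h | ⟨h4, hz⟩
    · have : a * b * a⁻¹ * b⁻¹ = 1 := by rw [h]; group
      rw [this]; exact one_mem _
    · exact absurd (Relation.ReflTransGen.single (oddAdj_iff.mpr ⟨ha, hb, h⟩)) hR
    · have hze : a * b * a⁻¹ * b⁻¹ = (a * b) ^ 2 := by rw [hai, hbi, pow_two]; group
      rw [hze]
      apply Subgroup.subset_closure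
      by_contra hiso
      obtain ⟨c, hc, hzc⟩ := exists_of_not_iso hD hz hiso
      apply hR
      have hpow4 : (a * b) ^ 4 = 1 := by rw [← h4]; exact pow_orderOf_eq_one _
      have hzinv : (a * b) ^ 2 = b * a * b * a := by
        have h1 : ((a * b) ^ 2)⁻¹ = (a * b) ^ 2 := inv_eq hD hz
        rw [← h1, pow_two, mul_inv_rev, mul_inv_rev, hai, hbi]
        group
      have hz2 : (a * b) ^ 2 = a * b * a * b := by rw [pow_two]; group
      set z := (a * b) ^ 2 with hzdef
      have hza : z * a = b * a * b := by rw [hzinv, mul_assoc, haa, mul_one]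
      have hza' : a * z = b * a * b := by
        rw [hz2]
        calc a * (a * b * a * b) = (a * a) * b * a * b := by group
          _ = b * a * b := by rw [haa, one_mul]
      have hzb : z * b = a * b * a := by rw [hz2, mul_assoc, hbb, mul_one]
      have hzb' : b * z = a * b * a := by
        rw [hzinv]
        calc b * (b * a * b * a) = (b * b) * a * b * a := by group
          _ = a * b * a := by rw [hbb, one_mul]
      have hbab : b * a * b ∈ D := by have := hD.conj_mem a ha b; rwa [hbi] at this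
      have haba : a * b * a ∈ D := by have := hD.conj_mem b hb a; rwa [hai] at this
      have Rzc : Relation.ReflTransGen (OddAdj D) z c := .single (oddAdj_iff.mpr ⟨hz, hc, hzc⟩)
      have hcz := hzc.symm hD hz hc
      -- z ~ a
      have Rza : Relation.ReflTransGen (OddAdj D) z a := by
        rcases lemB hD hc hz ha (by rw [hza]; exact hbab) (hza.trans hza'.symm) hcz with h | h
        · exact Rzc.tail (oddAdj_iff.mpr ⟨hc, ha, h⟩)
        · rw [hza] at h
          have h1 : Relation.ReflTransGen (OddAdj D) z (b * a * b) := Rzc.tail (oddAdj_iff.mpr ⟨hc, hbab, h⟩)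
          have h2 := reach_cj hD b h1
          have e1 : b * z * b⁻¹ = z := by rw [hzb', ← hzb, mul_assoc, mul_inv_cancel, mul_one]
          have e2 : b * (b * a * b) * b⁻¹ = a := by
            rw [hbi]
            calc b * (b * a * b) * b = (b * b) * a * (b * b) := by group
              _ = a := by rw [hbb]; group
          rwa [e1, e2] at h2
      have Rzb : Relation.ReflTransGen (OddAdj D) z b := by
        rcases lemB hD hc hz hb (by rw [hzb]; exact haba) (hzb.trans hzb'.symm) hcz with h | h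
        · exact Rzc.tail (oddAdj_iff.mpr ⟨hc, hb, h⟩)
        · rw [hzb] at h
          have h1 : Relation.ReflTransGen (OddAdj D) z (a * b * a) := Rzc.tail (oddAdj_iff.mpr ⟨hc, haba, h⟩)
          have h2 := reach_cj hD a h1
          have e1 : a * z * a⁻¹ = z := by rw [hza', ← hza, mul_assoc, mul_inv_cancel, mul_one]
          have e2 : a * (a * b * a) * a⁻¹ = b := by
            rw [hai]
            calc a * (a * b * a) * a = (a * a) * b * (a * a) := by group
              _ = b := by rw [haa]; group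
          rwa [e1, e2] at h2
      exact (reach_symm hD Rza).trans Rzb
  · intro a ha hcomp b hb
    obtain ⟨⟨hbD, hba, hne⟩, hbaD⟩ := hb
    by_cases hW : IsIsolatedElem (OddAdj D) D b
    · exact Or.inr hW
    left
    refine ⟨hbD, ?_⟩
    obtain ⟨c, hc, hbc⟩ := exists_of_not_iso hD hbD hW
    obtain ⟨d, hd, had⟩ := nbr_of_comp hD hcomp
    have Rbc : OddAdj D b c := oddAdj_iff.mpr ⟨hbD, hc, hbc⟩
    have Rad : OddAdj D a d := oddAdj_iff.mpr ⟨ha, hd, had⟩
    rcases lemB hD hc hbD ha hbaD hba (hbc.symm hD hbD hc) with h | h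
    · exact (Relation.ReflTransGen.single (OddAdj_symm hD (oddAdj_iff.mpr ⟨hc, ha, h⟩))).tail (OddAdj_symm hD Rbc)
    · rcases lemB hD hd ha hbD (by rw [← hba]; exact hbaD) hba.symm (had.symm hD ha hd) with h' | h'
      · exact (Relation.ReflTransGen.single Rad).tail (oddAdj_iff.mpr ⟨hd, hbD, h'⟩)
      · rw [← hba] at h'
        exact (((Relation.ReflTransGen.single Rad).tail (oddAdj_iff.mpr ⟨hd, hbaD, h'⟩)).tail
          (OddAdj_symm hD (oddAdj_iff.mpr ⟨hc, hbaD, h⟩))).tail (OddAdj_symm hD Rbc)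

end Cfsg.Agent.S5045
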