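import Cfsg.Statements.S5047
import Cfsg.Agent.LibH14RI4


set_option autoImplicit false
open Cfsg

namespace Cfsg.Agent.S5047


open CfsgLib.RI14



/-- Let G be a finite group generated by a set D of root involutions whose odd-order-product graph is connected, a ∈ D, and b a member of D different from a, commuting with a, with ab ∈ D, but not having the same commuting members as a. Then some member x of D with bx of order 4 has ax of order 3. -/
theorem result {G : Type*} [Group G] [Finite G] {D : Set G} (hD : Cfsg.IsRootInvolutionSet D)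
    (hc : Cfsg.IsConnectedSet (Cfsg.OddAdj D) D) {a b : G} (ha : a ∈ D) (hb : b ∈ Cfsg.productPartners D a)
    (hbE : b ∉ Cfsg.sameCommutingClass D a) : ∃ x ∈ Cfsg.fourPartners D b, orderOf (a * x) = 3 := by
  have hconj : ∀ a ∈ D, ∀ b ∈ D, ∃ g : G, g * a * g⁻¹ = b := fun a ha b hb => conj_of_connected hD hc ha hb
  obtain ⟨⟨hbD, hba, hne⟩, hbaD⟩ := hb
  have hab : a * b = b * a := hba.symm
  have habD : a * b ∈ D := by rw [hab]; exact hbaD
  have hnC : commutingMembers D a ≠ commutingMembers D b := fun h => hbE ⟨hbD, h⟩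
  -- a claim valid for all such pairs
  have claim : ∀ a ∈ D, ∀ b ∈ D, a * b = b * a → a * b ∈ D → commutingMembers D a ≠ commutingMembers D b → ∃ y ∈ D, y * a * y = a * b := by
    intro a ha b hbD hab habD hnC
    obtain ⟨x, hxa, hxb⟩ : ∃ x ∈ oddPartners D a, x ∉ oddPartners D b := by
      by_contra hcon
      push Not at hcon
      exact hnC ((same_comm_iff hD hconj ha hbD).mpr (eq_of_subset hD hconj ha hbD hcon))
    rw [mem_oddPartners] at hxa
    exact exists_exact hD ha hbD hxa.1 hab habD hxa.2 (fun h => hxb (mem_oddPartners.mpr ⟨hxa.1, h⟩))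
  obtain ⟨y, hy, hyab⟩ := claim a ha b hbD hab habD hnC
  have haa := sq hD ha
  have hbb := sq hD hbD
  have hyy := sq hD hy
  have hai := inv_eq hD ha
  have hbi := inv_eq hD hbD
  have hyi := inv_eq hD hy
  -- y commutes with b
  have hyb : y * b * y = b := by
    have h1 : y * (a * b) * y = a := by
      rw [← hyab]
      calc y * (y * a * y) * y = (y * y) * a * (y * y) := by group
        _ = a := by rw [hyy]; group
    have h2 : y * (a * b) * y = (y * a * y) * (y * b * y) := by
      calc y * (a * b) * y = y * a * (y * y) * b * y := by rw [hyy]; group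
        _ = (y * a * y) * (y * b * y) := by group
    rw [h2, hyab] at h1
    have h3 : y * b * y = (a * b)⁻¹ * a := eq_inv_mul_of_mul_eq h1
    rw [h3, mul_inv_rev, hbi, hai, mul_assoc, haa, mul_one]
  have hby : b * y = y * b := by
    calc b * y = (y * b * y) * y := by rw [hyb]
      _ = y * b * (y * y) := by group
      _ = y * b := by rw [hyy, mul_one]
  have haya : a * y * a = y * b := by
    calc a * y * a = (y * y) * a * y * a := by rw [hyy, one_mul]
      _ = y * (y * a * y) * a := by group
      _ = y * (a * b * a) := by rw [hyab]; group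
      _ = y * b := by rw [hab, mul_assoc, haa, mul_one]
  have hbyD : b * y ∈ D := by rw [hby, ← haya]; exact cj_mem hD ha hy
  have hay : a * y ≠ y * a := by
    intro h
    have h1 : y * a * y = a := by rw [← h, mul_assoc, hyy, mul_one]
    rw [h1] at hyab
    exact ne_one hD hbD (mul_eq_left.mp hyab.symm)
  obtain ⟨x, hx, hxby⟩ := claim b hbD y hy hby hbyD (by
    intro h
    have h1 : a ∈ commutingMembers D b := ⟨ha, hab⟩
    rw [h] at h1
    exact hay h1.2)
  have hxx := sq hD hx
  have hxi := inv_eq hD hx
  -- x commutes with y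
  have hxyx : x * y * x = y := by
    have h1 : x * (b * y) * x = b := by
      rw [← hxby]
      calc x * (x * b * x) * x = (x * x) * b * (x * x) := by group
        _ = b := by rw [hxx]; group
    have h2 : x * (b * y) * x = (x * b * x) * (x * y * x) := by
      calc x * (b * y) * x = x * b * (x * x) * y * x := by rw [hxx]; group
        _ = (x * b * x) * (x * y * x) := by group
    rw [h2, hxby] at h1
    have h3 : x * y * x = (b * y)⁻¹ * b := eq_inv_mul_of_mul_eq h1
    rw [h3, mul_inv_rev, hyi, hbi, mul_assoc, hbb, mul_one]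
  have hxy : x * y = y * x := by
    calc x * y = x * y * (x * x) := by rw [hxx, mul_one]
      _ = (x * y * x) * x := by group
      _ = y * x := by rw [hxyx]
  -- (b x)² = y
  have hbx2 : (b * x) ^ 2 = y := by
    calc (b * x) ^ 2 = b * (x * b * x) := by rw [pow_two]; group
      _ = (b * b) * y := by rw [hxby]; group
      _ = y := by rw [hbb, one_mul]
  have hbx4 : (b * x) ^ 4 = 1 := by rw [show 4 = 2 * 2 by norm_num, pow_mul, hbx2, pow_two, hyy]
  have hord4 : orderOf (b * x) = 4 := by
    rw [show 4 = 2 ^ (1 + 1) by norm_num]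
    apply orderOf_eq_prime_pow (p := 2)
    · rw [pow_one, hbx2]; exact ne_one hD hy
    · exact hbx4
  -- x is an odd partner of a
  have hax : Od a x := by
    rcases cases hD ha hx with h | h | h
    · exfalso
      apply hay
      have c1 : Commute a b := hab
      have c2 : Commute a x := h
      have c3 : Commute a ((b * x) ^ 2) := (c1.mul_right c2).pow_right 2
      rw [hbx2] at c3
      exact c3.eq
    · exact h
    · exfalso
      have h4 : (a * x) ^ 4 = 1 := by rw [← h.1]; exact pow_orderOf_eq_one _
      obtain ⟨r1, r2, r3, r4, r5⟩ := four_rel hD ha hx h4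
      obtain ⟨v, hv⟩ : ∃ v, v = (a * x) ^ 2 := ⟨_, rfl⟩
      rw [← hv] at r1 r2 r3 r4 r5
      have hvv : v * v = 1 := by rw [hv, ← pow_add]; exact h4
      -- y (x a x) y = (x a x) (b y)
      have h5 : y * (x * a * x) * y = (x * a * x) * (b * y) := by
        have e1 : y * (x * a * x) * y = x * (y * a * y) * x := by
          calc y * (x * a * x) * y = (y * x) * a * (x * y) := by group
            _ = (x * y) * a * (y * x) := by rw [hxy]
            _ = x * (y * a * y) * x := by group
        rw [e1, hyab]
        calc x * (a * b) * x = x * a * (x * x) * b * x := by rw [hxx]; group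
          _ = (x * a * x) * (x * b * x) := by group
          _ = (x * a * x) * (b * y) := by rw [hxby]
      -- x a x = a v
      rw [← r1] at h5
      have h6 : y * (a * v) * y = (a * b) * (y * v * y) := by
        calc y * (a * v) * y = y * a * (y * y) * v * y := by rw [hyy]; group
          _ = (y * a * y) * (y * v * y) := by group
          _ = (a * b) * (y * v * y) := by rw [hyab]
      rw [h6] at h5
      -- a b y v y = a v b y
      have h7 : b * (y * v) = v * b := by
        have e1 : a * (b * (y * v)) * y = a * (v * b) * y := by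
          calc a * (b * (y * v)) * y = (a * b) * (y * v * y) := by group
            _ = a * v * (b * y) := h5
            _ = a * (v * b) * y := by group
        exact mul_left_cancel (mul_right_cancel e1)
      have h8 : y = b * v * b * v := by
        have e1 : y * v = b * (v * b) := by rw [← h7, ← mul_assoc, hbb, one_mul]
        calc y = (y * v) * v := by rw [mul_assoc, hvv, mul_one]
          _ = b * v * b * v := by rw [e1]; group
      apply hay
      have c1 : Commute a b := hab
      have c2 : Commute a v := r1.trans r2.symm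
      rw [h8]
      exact (((c1.mul_right c2).mul_right c1).mul_right c2).eq
  -- order three
  obtain ⟨ρ, hρ⟩ : ∃ ρ, ρ = a * x := ⟨_, rfl⟩
  have hρi : ρ⁻¹ = x * a := by rw [hρ, mul_inv_rev, hai, hxi]
  have s1 : ρ⁻¹ * b * ρ = b * y := by
    rw [hρi, hρ]
    calc x * a * b * (a * x) = x * (a * b) * a * x := by group
      _ = x * b * (a * a) * x := by rw [hab]; group
      _ = x * b * x := by rw [haa, mul_one]
      _ = b * y := hxby
  have s2 : ρ⁻¹ * y * ρ = b := by
    rw [hρi, hρ]
    calc x * a * y * (a * x) = x * (a * y * a) * x := by group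
      _ = x * (y * b) * x := by rw [haya]
      _ = x * y * (x * x) * b * x := by rw [hxx]; group
      _ = (x * y * x) * (x * b * x) := by group
      _ = y * (b * y) := by rw [hxyx, hxby]
      _ = y * b * y := by group
      _ = b := hyb
  have s3 : ρ⁻¹ * (b * y) * ρ = y := by
    have : ρ⁻¹ * (b * y) * ρ = (ρ⁻¹ * b * ρ) * (ρ⁻¹ * y * ρ) := by group
    rw [this, s1, s2, hby, mul_assoc, hbb, mul_one]
  have s4 : Commute b (ρ ^ 3) := by
    have h1 : (ρ ^ 3)⁻¹ * b * ρ ^ 3 = b := by
      have : (ρ ^ 3)⁻¹ * b * ρ ^ 3 = ρ⁻¹ * (ρ⁻¹ * (ρ⁻¹ * b * ρ) * ρ) * ρ := by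
        simp only [pow_succ, pow_zero, one_mul]; group
      rw [this, s1, s3, s2]
    show b * ρ ^ 3 = ρ ^ 3 * b
    calc b * ρ ^ 3 = ρ ^ 3 * ((ρ ^ 3)⁻¹ * b * ρ ^ 3) := by group
      _ = ρ ^ 3 * b := by rw [h1]
  have s5 : a * ρ * a = ρ⁻¹ := by
    rw [hρi, hρ]
    calc a * (a * x) * a = (a * a) * x * a := by group
      _ = x * a := by rw [haa, one_mul]
  have s6 : (ρ ^ 3)⁻¹ * a * ρ ^ 3 = a * ρ ^ 6 := by
    have h1 : (a * ρ * a⁻¹) ^ 3 = a * ρ ^ 3 * a⁻¹ := conj_pow
    rw [hai, s5, inv_pow] at h1
    rw [h1]
    calc a * ρ ^ 3 * a * a * ρ ^ 3 = a * ρ ^ 3 * (a * a) * ρ ^ 3 := by group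
      _ = a * ρ ^ 6 := by rw [haa, mul_one, mul_assoc, ← pow_add]
  have hρodd : Odd (orderOf ρ) := by rw [hρ]; exact hax.2
  have hρ6 : ρ ^ 6 = 1 := by
    by_contra h6
    have hD' : a * ρ ^ 6 ∈ D := by
      rw [← s6]
      have := hD.conj_mem a ha (ρ ^ 3)⁻¹
      rwa [inv_inv] at this
    have hod : Od (a * ρ ^ 6) a := by
      refine ⟨fun h => h6 (mul_eq_left.mp h), ?_⟩
      have h1 : a * ρ ^ 6 * a = (ρ⁻¹) ^ 6 := by
        have h2 : (a * ρ * a⁻¹) ^ 6 = a * ρ ^ 6 * a⁻¹ := conj_pow
        rw [hai, s5] at h2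
        exact h2.symm
      rw [h1]
      apply Odd.of_dvd_nat _ (orderOf_pow_dvd _)
      rw [orderOf_inv]; exact hρodd
    apply lemA hD hD' ha hbD habD hab hod
    have c1 : Commute a b := hab
    have c2 : Commute (ρ ^ 6) b := by
      have := (s4.pow_right 2).symm
      rwa [← pow_mul] at this
    exact c1.mul_left c2
  have hρ3 : ρ ^ 3 = 1 := by
    apply odd_pow (k := 1)
    · exact Odd.of_dvd_nat hρodd (orderOf_pow_dvd _)
    · rw [← pow_mul]; exact hρ6
  refine ⟨x, ⟨hx, hord4⟩, ?_⟩
  rw [← hρ]
  apply orderOf_eq_prime hρ3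
  rw [hρ]
  exact hax.mul_ne hD hx

end Cfsg.Agent.S5047
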