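import Cfsg.Statements.S5048
import Cfsg.Agent.LibH14RI2


set_option autoImplicit false
open Cfsg

namespace Cfsg.Agent.S5048


open Subgroup CfsgLib.RI14
open scoped commutatorElement

theorem le_twoZCore {G : Type*} [Group G] [Finite G] {D : Set G} (hD : IsRootInvolutionSet D)
    (hex : ∀ a ∈ D, ∃ e ∈ D, a * e = e * a ∧ a * e ∈ D) (M : Subgroup G) [hMn : M.Normal] (hM : ∀ d ∈ D, d ∉ M) : M ≤ twoZCore G := by
  intro m hm
  show QuotientGroup.mk' (pCore 2 G) m ∈ Subgroup.center (G ⧸ pCore 2 G)
  rw [Subgroup.mem_center_iff]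
  intro y
  obtain ⟨g, rfl⟩ := QuotientGroup.mk'_surjective (pCore 2 G) y
  have hg : g ∈ closure D := by rw [hD.generates]; exact mem_top g
  induction hg using closure_induction with
  | mem a ha =>
    obtain ⟨e, he, hae, haeD⟩ := hex a ha
    have h1 := comm_mem_pCore hD M hM ha he hae haeD hm
    rw [← map_mul, ← map_mul]
    apply Eq.symm
    show QuotientGroup.mk (m * a) = QuotientGroup.mk (a * m)
    rw [QuotientGroup.eq]
    have h2 : (m * a)⁻¹ * (a * m) = (a * m)⁻¹ * (m * a * m⁻¹ * a⁻¹)⁻¹ * (a * m)⁻¹⁻¹ := by group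
    rw [h2]
    exact (inferInstance : (pCore 2 G).Normal).conj_mem _ (inv_mem h1) _
  | one => simp
  | mul x y _ _ hx hy => rw [map_mul, mul_assoc, hy, ← mul_assoc, hx, mul_assoc]
  | inv x _ hx =>
    rw [map_inv]
    exact (Commute.inv_left (show Commute (QuotientGroup.mk' (pCore 2 G) x) (QuotientGroup.mk' (pCore 2 G) m) from hx)).eq



/-- Let G be a finite group generated by a set D of root involutions whose odd-order-product graph is connected, with some product of two different commuting members of D again in D. Then the largest solvable normal subgroup of G is the preimage of the centre of G/O₂(G), and the quotient of G by it is a simple group. -/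
theorem result {G : Type*} [Group G] [Finite G] {D : Set G} (hD : Cfsg.IsRootInvolutionSet D)
    (hc : Cfsg.IsConnectedSet (Cfsg.OddAdj D) D) (hDD : (D ∩ Cfsg.commutingProducts D).Nonempty) :
    Cfsg.solvableRadical G = Cfsg.twoZCore G ∧ IsSimpleGroup (G ⧸ Cfsg.twoZCore G) := by
  haveI : Fact (Nat.Prime 2) := ⟨Nat.prime_two⟩
  have hconj : ∀ a ∈ D, ∀ b ∈ D, ∃ g : G, g * a * g⁻¹ = b := fun a ha b hb => conj_of_connected hD hc ha hb
  have hex : ∀ a ∈ D, ∃ e ∈ D, a * e = e * a ∧ a * e ∈ D := fun a ha => exists_partner hD hconj hDD ha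
  obtain ⟨d0, hd0⟩ : D.Nonempty := hDD.mono Set.inter_subset_left
  haveI : Nontrivial G := ⟨⟨d0, 1, ne_one hD hd0⟩⟩
  -- perfect
  have hperf : commutator G = ⊤ := by
    rw [eq_top_iff, ← hD.generates, closure_le]
    intro a ha
    obtain ⟨e, he, hae, haeD⟩ := hex a ha
    -- a = (e) * (a e)⁻¹ ... ; all three conjugate
    obtain ⟨g, hg⟩ := hconj (a * e) haeD e he
    have h0 : g⁻¹ * (g * (a * e) * g⁻¹) * g = a * e := by group
    rw [hg] at h0
    have h2 : a = ⁅g⁻¹, e⁆ := by rw [commutatorElement_def, inv_inv, h0]; group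
    rw [SetLike.mem_coe, h2, _root_.commutator_def]
    exact commutator_mem_commutator (mem_top _) (mem_top _)
  have hnotsol : ¬ Group.IsSolvable G := by
    intro h
    have := Group.IsSolvable.commutator_lt_top_of_nontrivial (G := G)
    rw [hperf] at this
    exact lt_irrefl _ this
  have htop : ∀ M : Subgroup G, M.Normal → (∃ d ∈ D, d ∈ M) → M = ⊤ := by
    rintro M hM ⟨d, hd, hdM⟩
    rw [eq_top_iff, ← hD.generates, closure_le]
    intro a ha
    obtain ⟨g, rfl⟩ := hconj d hd a ha
    exact hM.conj_mem d hdM g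
  have hZsol : Group.IsSolvable (twoZCore G) := by
    have h1 : Group.IsSolvable (pCore 2 G) := by
      have : Group.IsNilpotent (pCore 2 G) := (CfsgLib.Cores.pCore_isPGroup 2 (G := G)).isNilpotent
      infer_instance
    have h2 : Group.IsSolvable (Subgroup.center (G ⧸ pCore 2 G)) :=
      Group.isSolvable_of_comm (fun a b => Subtype.ext ((Subgroup.mem_center_iff.mp b.2 a)))
    have hle : pCore 2 G ≤ twoZCore G := by
      intro x hx
      show QuotientGroup.mk' (pCore 2 G) x ∈ Subgroup.center (G ⧸ pCore 2 G)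
      have : QuotientGroup.mk' (pCore 2 G) x = 1 := (QuotientGroup.eq_one_iff x).mpr hx
      rw [this]; exact one_mem _
    refine Group.isSolvable_of_ker_le_range (Subgroup.inclusion hle)
      (show twoZCore G →* Subgroup.center (G ⧸ pCore 2 G) from
        ((QuotientGroup.mk' (pCore 2 G)).subgroupComap (Subgroup.center (G ⧸ pCore 2 G)))) ?_
    · rintro ⟨x, hx⟩ hx'
      have h3 : QuotientGroup.mk' (pCore 2 G) x = 1 := congrArg Subtype.val (MonoidHom.mem_ker.mp hx')
      exact ⟨⟨x, (QuotientGroup.eq_one_iff x).mp h3⟩, rfl⟩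
  constructor
  · apply le_antisymm
    · apply sSup_le
      rintro N ⟨hN, hNs⟩
      haveI := hN
      by_cases h : ∃ d ∈ D, d ∈ N
      · exfalso
        have := htop N hN h
        subst this
        apply hnotsol
        exact Group.isSolvable_of_surjective (f := (Subgroup.topEquiv (G := G)).toMonoidHom) (Subgroup.topEquiv (G := G)).surjective
      · push Not at h
        exact le_twoZCore hD hex N h
    · exact le_sSup ⟨inferInstance, hZsol⟩
  · have hne : twoZCore G ≠ ⊤ := by
      intro h
      rw [h] at hZsol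
      exact hnotsol (Group.isSolvable_of_surjective (f := (Subgroup.topEquiv (G := G)).toMonoidHom) (Subgroup.topEquiv (G := G)).surjective)
    haveI : Nontrivial (G ⧸ twoZCore G) := by
      rw [QuotientGroup.nontrivial_iff]
      exact hne
    refine ⟨fun H hH => ?_⟩
    have hHn : (H.comap (QuotientGroup.mk' (twoZCore G))).Normal := hH.comap _
    by_cases h : ∃ d ∈ D, d ∈ H.comap (QuotientGroup.mk' (twoZCore G))
    · right
      have h1 := htop _ hHn h
      rw [eq_top_iff]
      intro y _
      obtain ⟨g, rfl⟩ := QuotientGroup.mk'_surjective (twoZCore G) y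
      have : g ∈ H.comap (QuotientGroup.mk' (twoZCore G)) := by rw [h1]; exact mem_top g
      exact this
    · left
      push Not at h
      have h1 := le_twoZCore hD hex _ h
      rw [eq_bot_iff]
      intro y hy
      obtain ⟨g, rfl⟩ := QuotientGroup.mk'_surjective (twoZCore G) y
      rw [Subgroup.mem_bot]
      exact (QuotientGroup.eq_one_iff g).mpr (h1 hy)

end Cfsg.Agent.S5048
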