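import Cfsg.Statements.S5049
import Cfsg.Agent.LibH14RI


set_option autoImplicit false
open Cfsg

namespace Cfsg.Agent.S5049


open Subgroup CfsgLib.RI14
open scoped commutatorElement



/-- Let G be a finite group generated by a set D of odd transpositions (root involutions with no product of order 4), Q = O₂(G), and for a ∈ D let Q_a be the commutator subgroup of Q with a. Then every member of D commuting with a centralizes Q_a; and for b ∈ D with ab of odd order greater than 1, the centralizer of ab in Q is the intersection of the centralizers of a and b in Q. -/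
theorem result {G : Type*} [Group G] [Finite G] {D : Set G} (hD : Cfsg.IsOddTranspositionSet D) {a : G} (ha : a ∈ D) :
    (∀ e ∈ Cfsg.commutingMembers D a, ∀ q ∈ ⁅Cfsg.pCore 2 G, Subgroup.zpowers a⁆, e * q = q * e) ∧
    (∀ b ∈ Cfsg.oddPartners D a,
      Cfsg.pCore 2 G ⊓ Subgroup.centralizer {a * b} = Cfsg.pCore 2 G ⊓ Subgroup.centralizer {a} ⊓ Subgroup.centralizer {b}) := by
  haveI : Fact (Nat.Prime 2) := ⟨Nat.prime_two⟩
  obtain ⟨hR, h4⟩ := hD
  have hQn : (pCore 2 G).Normal := inferInstance
  have hQp := CfsgLib.Cores.pCore_isPGroup 2 (G := G)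
  -- a member commuting with a commutes with its conjugates by Q
  have key : ∀ a ∈ D, ∀ e ∈ D, e * a = a * e → ∀ q ∈ pCore 2 G, e * (q * a * q⁻¹) = (q * a * q⁻¹) * e := by
    intro a ha e he hea q hq
    have haq := hR.conj_mem a ha q
    rcases cases hR he haq with h | h | ⟨h, -⟩
    · exact h
    · exfalso
      -- e * a^q is a 2-element
      have h1 : e * (q * a * q⁻¹) = (e * a) * ((a⁻¹ * q * a) * q⁻¹) := by group
      have h2 : (a⁻¹ * q * a) * q⁻¹ ∈ pCore 2 G := by
        refine mul_mem ?_ (inv_mem hq)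
        have := hQn.conj_mem q hq a⁻¹
        rwa [inv_inv] at this
      have h3 : (e * a) ^ 2 = 1 := by
        rw [Commute.mul_pow (show Commute e a from hea), pow_two, pow_two, sq hR he, sq hR ha, one_mul]
      have h5 : (e * (q * a * q⁻¹)) ^ 2 ∈ pCore 2 G := by
        have h6 : ((e * (q * a * q⁻¹)) ^ 2) = ((e * a) ^ 2) * (((e * a)⁻¹ * ((a⁻¹ * q * a) * q⁻¹) * (e * a)) * ((a⁻¹ * q * a) * q⁻¹)) := by
          rw [h1, pow_two, pow_two]; group
        rw [h6, h3, one_mul]
        refine mul_mem ?_ h2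
        have := hQn.conj_mem _ h2 (e * a)⁻¹
        rwa [inv_inv] at this
      obtain ⟨k, hk⟩ := hQp ⟨_, h5⟩
      have h7 : ((e * (q * a * q⁻¹)) ^ 2) ^ 2 ^ k = 1 := congrArg Subtype.val hk
      rw [← pow_mul, ← pow_succ'] at h7
      exact h.mul_ne hR haq (odd_pow h.2 _ h7)
    · exact absurd h (h4 _ he _ haq)
  have key2 : ∀ a ∈ D, ∀ e ∈ D, e * a = a * e → ∀ q ∈ pCore 2 G, e * (q * a * q⁻¹ * a⁻¹) = (q * a * q⁻¹ * a⁻¹) * e := by
    intro a ha e he hea q hq
    have h1 : Commute e (q * a * q⁻¹) := key a ha e he hea q hq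
    have h2 : Commute e a := hea
    exact h1.mul_right h2.inv_right
  refine ⟨?_, ?_⟩
  · rintro e ⟨he, hea⟩ q hq
    have h1 : ⁅pCore 2 G, Subgroup.zpowers a⁆ ≤ Subgroup.centralizer {e} := by
      rw [Subgroup.commutator_le]
      rintro q hq _ ⟨n, rfl⟩
      have h2 : a ^ n = 1 ∨ a ^ n = a := by
        rcases Int.even_or_odd' n with ⟨k, rfl | rfl⟩
        · left; rw [zpow_mul, zpow_two, sq hR ha, one_zpow]
        · right; rw [zpow_add, zpow_mul, zpow_two, sq hR ha, one_zpow, one_mul, zpow_one]
      rw [Subgroup.mem_centralizer_singleton_iff]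
      show ⁅q, a ^ n⁆ * e = e * ⁅q, a ^ n⁆
      rcases h2 with h2 | h2
      · rw [h2, commutatorElement_one_right, one_mul, mul_one]
      · rw [h2, commutatorElement_def]
        exact (key2 a ha e he hea q hq).symm
    have h2 := h1 hq
    rw [Subgroup.mem_centralizer_singleton_iff] at h2
    exact h2.symm
  · rintro b ⟨hb, hne, hodd⟩
    have hod : Od a b := ⟨hne.symm, hodd⟩
    ext q
    simp only [Subgroup.mem_inf, Subgroup.mem_centralizer_singleton_iff]
    constructor
    · rintro ⟨hq, hqab⟩
      -- c = q a q⁻¹ a⁻¹ commutes with a and b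
      have hc1 := key2 a ha a ha rfl q hq
      have hc2 := key2 b hb b hb rfl q hq
      have hai := inv_eq hR ha
      have hbi := inv_eq hR hb
      have e1 : q * a * q⁻¹ * (q * b * q⁻¹) = a * b := by
        have : q * a * q⁻¹ * (q * b * q⁻¹) = (q * (a * b)) * q⁻¹ := by group
        rw [this, hqab]; group
      have e2 : q * a * q⁻¹ * a⁻¹ = a * (b * (q * b * q⁻¹)⁻¹ * a⁻¹) := by
        rw [eq_mul_inv_of_mul_eq e1]; group
      -- c = a * (c_b)⁻¹ * a⁻¹ with c_b = (q b q⁻¹) b⁻¹
      set c := q * a * q⁻¹ * a⁻¹ with hc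
      set c' := q * b * q⁻¹ * b⁻¹ with hc'
      have e3 : c = a * c'⁻¹ * a⁻¹ := by rw [e2, hc']; group
      have e4 : c = c'⁻¹ := by
        have h1 : a⁻¹ * c * a = c'⁻¹ := by rw [e3]; group
        have h2 : a⁻¹ * c * a = c := by rw [mul_assoc, ← hc1]; group
        rw [← h2, h1]
      have hcb : b * c = c * b := by
        rw [e4]
        exact (Commute.inv_right (show Commute b c' from hc2)).eq
      have hcc : c * c = 1 := by
        -- (q a q⁻¹) = c a is an involution
        have h1 : (c * a) * (c * a) = 1 := by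
          have h2 : c * a = q * a * q⁻¹ := by rw [hc]; group
          rw [h2]; exact sq hR (hR.conj_mem a ha q)
        have h3 : (c * a) * (c * a) = (c * c) * (a * a) := by
          calc (c * a) * (c * a) = c * (a * c) * a := by group
            _ = (c * c) * (a * a) := by rw [hc1]; group
        rw [h3, sq hR ha, mul_one] at h1
        exact h1
      have hc0 : c = 1 := by
        -- (q a q⁻¹) b = c (a b)
        have haq := hR.conj_mem a ha q
        have h2 : (q * a * q⁻¹) * b = c * (a * b) := by rw [hc]; group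
        have hcomm : Commute c (a * b) := (show Commute c a from hc1.symm).mul_right hcb.symm
        obtain ⟨k, hk⟩ := hodd
        rcases cases hR haq hb with h | h | ⟨h, -⟩
        · exfalso
          have h3 : (c * (a * b)) ^ 2 = 1 := by
            rw [← h2, Commute.mul_pow (show Commute (q * a * q⁻¹) b from h), pow_two, pow_two, sq hR haq, sq hR hb, one_mul]
          rw [hcomm.mul_pow, pow_two c, hcc, one_mul] at h3
          apply hod.mul_ne hR hb
          exact odd_pow hod.2 1 (by rw [pow_one]; exact h3)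
        · obtain ⟨m, hm⟩ := h.2
          have h3 := pow_orderOf_eq_one ((q * a * q⁻¹) * b)
          rw [hm, h2, hcomm.mul_pow, pow_succ c, pow_mul c, pow_two c, hcc, one_pow, one_mul] at h3
          have h4 : c = ((a * b) ^ (2 * m + 1))⁻¹ := eq_inv_of_mul_eq_one_left h3
          have h5 : c ^ (2 * k + 1) = 1 := by
            rw [h4, inv_pow, ← pow_mul, mul_comm (2 * m + 1), pow_mul, ← hk, pow_orderOf_eq_one, one_pow, inv_one]
          rwa [pow_succ c, pow_mul c, pow_two c, hcc, one_pow, one_mul] at h5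
        · exact absurd h (h4 _ haq _ hb)
      have hc'0 : c' = 1 := by rw [← inv_inj, ← e4, hc0, inv_one]
      refine ⟨⟨hq, ?_⟩, ?_⟩
      · rw [hc, mul_inv_eq_one, mul_inv_eq_iff_eq_mul] at hc0
        exact hc0
      · rw [hc', mul_inv_eq_one, mul_inv_eq_iff_eq_mul] at hc'0
        exact hc'0
    · rintro ⟨⟨hq, h1⟩, h2⟩
      refine ⟨hq, ?_⟩
      rw [← mul_assoc, h1, mul_assoc, h2, mul_assoc]

end Cfsg.Agent.S5049
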