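import Cfsg.Statements.S5112
import Cfsg.Agent.LibFus21DQ

set_option autoImplicit false
open Cfsg

namespace Cfsg.Agent.S5112

/-- If S is a dihedral or generalized quaternion 2-group of order at least 16, then in every saturated fusion system over S (at the prime 2) the automorphism group Aut_F(S) consists of the inner automorphisms of S. -/
theorem result {Ω : Type*} [Group Ω] {S : Subgroup Ω} [Finite S] (n : ℕ) (hn : 4 ≤ n) (hshape : Nonempty (S ≃* DihedralGroup (2 ^ (n - 1))) ∨ Nonempty (S ≃* QuaternionGroup (2 ^ (n - 2)))) (F : Cfsg.FusionSystem S) (hF : F.IsSaturated 2) : F.autGroup S = Cfsg.Inn S := by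
    haveI : Fact (Nat.Prime 2) := ⟨Nat.prime_two⟩
    have hA : IsPGroup 2 (MulAut S) := by
      rcases hshape with ⟨⟨e⟩⟩ | ⟨⟨e⟩⟩
      · exact CfsgLib.Fus21.aut_of_equiv e (CfsgLib.Fus21.two_aut_dihedral _ (by omega))
      · exact CfsgLib.Fus21.aut_of_equiv e (CfsgLib.Fus21.two_aut_quaternion _ (by omega))
    have hS : IsPGroup 2 S := by
      rcases hshape with ⟨⟨e⟩⟩ | ⟨⟨e⟩⟩
      · refine IsPGroup.of_card (n := n) ?_
        rw [Nat.card_congr e.toEquiv, DihedralGroup.nat_card]
        conv_rhs => rw [show n = (n - 1) + 1 by omega, pow_succ]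
        ring
      · haveI : NeZero (2 ^ (n - 2)) := ⟨by positivity⟩
        refine IsPGroup.of_card (n := n) ?_
        rw [Nat.card_congr e.toEquiv, Nat.card_eq_fintype_card, QuaternionGroup.card]
        conv_rhs => rw [show n = (n - 2) + 2 by omega, pow_add]
        ring
    exact CfsgLib.Fus21.autGroup_S_eq_Inn hS hF (hA.to_subgroup _)

end Cfsg.Agent.S5112
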