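import Cfsg.Statements.S5147
import Cfsg.Agent.LibFus21Cst2

set_option autoImplicit false
open Cfsg

namespace Cfsg.Agent.S5147

/-- Let G be a finite group with Sylow 2-subgroup S whose 2-fusion system on S is constrained, and L a component of G (a subnormal quasisimple subgroup). Then the 2-fusion system of L/Z(L) on the image of S ∩ L is constrained. -/
theorem result {G : Type*} [Group G] [Finite G] (S : Sylow 2 G) (hF : (Cfsg.groupFusionSystem (S : Subgroup G)).IsConstrained 2) (L : Subgroup G) (hL : Cfsg.IsComponent L) : (Cfsg.groupFusionSystem (((S : Subgroup G).subgroupOf L).map (QuotientGroup.mk' (Subgroup.center L)))).IsConstrained 2 := by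
    haveI : Fact (Nat.Prime 2) := ⟨Nat.prime_two⟩
    have hsub : L.IsSubnormal := hL.1
    obtain ⟨-, hi⟩ := CfsgLib.Fus21.constrained_subnormal S hF hsub
    obtain ⟨Q, hQ⟩ := (CfsgLib.Fus21.exists_sylow_eq_iff (S.2.to_le (inf_le_left : (S : Subgroup G) ⊓ L ≤ S))).2 hi
    have hQ' : (Q : Subgroup L) = (S : Subgroup G).subgroupOf L := by
      rw [hQ]; ext x; simp [Subgroup.mem_subgroupOf, x.2]
    have h1 := CfsgLib.Fus21.constrained_subnormal' S hF hsub
    rw [← hQ'] at h1 ⊢
    exact CfsgLib.Fus21.constrained_center_quot Q h1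

end Cfsg.Agent.S5147
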