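import Cfsg.Statements.S5148
import Cfsg.Agent.LibFus21Slv2
import Cfsg.Agent.LibFus21Fro
import Cfsg.Agent.LibFus21Inner
import Cfsg.Agent.LibFus21Alp2

set_option autoImplicit false
open Cfsg

namespace Cfsg.Agent.S5148

open CfsgLib.Fus21 Cfsg Cfsg.FusionSystem



/-- A quasisimple fusion system over a finite p-group S (saturated, equal to its p-residual subsystem, with simple — in particular nontrivial — factor system modulo its centre) has S nonabelian. -/
theorem result {Ω : Type*} [Group Ω] {S : Subgroup Ω} [Finite S] (p : ℕ) [Fact p.Prime] (hS : IsPGroup p S) (F : Cfsg.FusionSystem S) (hq : F.Quasisimple p) : ¬ IsMulCommutative S := by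
    intro hab
    have hcom : ∀ x ∈ S, ∀ y ∈ S, x * y = y * x := fun x hx y hy =>
      congrArg Subtype.val (hab.is_comm.comm (⟨x, hx⟩ : S) ⟨y, hy⟩)
    obtain ⟨hF, hhyp, hfac⟩ := hq
    have hZ := isCentral_center F
    have hZn : F.IsNormal F.center := central_isNormal hZ
    have hZsc := normal_stronglyClosed hZn
    obtain ⟨E, hE, hEs⟩ := exists_factor hS hF hZsc inferInstance
    obtain ⟨-, hne, hall⟩ := hfac E hE
    have hsurj := factor_surjective hS hF hZsc hE
    set A := S ⧸ (F.center).subgroupOf S with hA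
    set θ := QuotientGroup.mk' ((F.center).subgroupOf S) with hθ
    have hθs : Function.Surjective θ := QuotientGroup.mk'_surjective _
    have hcomA : ∀ x y : A, x * y = y * x := by
      intro x y
      obtain ⟨x, rfl⟩ := hθs x
      obtain ⟨y, rfl⟩ := hθs y
      rw [← map_mul, ← map_mul, hab.is_comm.comm]
    have hpA : IsPGroup p (⊤ : Subgroup A) := factor_pgroup hS hE
    haveI : Finite (⊤ : Subgroup A) := factor_finite hE
    have hTn : E.IsNormal ⊤ := isNormal_of_abelian hpA hEs ⟨le_rfl, fun R _ φ hφ x => mem_S hφ x⟩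
      (by
        rw [Subgroup.commutator_eq_bot_iff_le_centralizer]
        intro x _
        rw [Subgroup.mem_centralizer_iff]
        intro y _
        exact hcomA y x)
    have hEn : (innerFusionSystem (⊤ : Subgroup A)).IsNormalIn E p := by
      refine ⟨inner_weaklyNormal hpA hEs hTn, fun α hα => ?_⟩
      rw [autGroup_S_inner] at hα
      have hα1 : α = 1 := by
        obtain ⟨g, rfl⟩ := hα
        ext x
        simp only [MulAut.conj_apply, MulAut.one_apply]
        show (g : A) * x * (g : A)⁻¹ = x
        rw [hcomA g x, mul_inv_cancel_right]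
      subst hα1
      refine ⟨1, Subgroup.one_mem _, fun x => rfl, fun c _ => ?_⟩
      simp
    rcases hall _ _ hEn with h | ⟨-, h⟩
    · exact hne h
    -- automorphisms of S are trivial
    have haut : ∀ α ∈ F.autGroup S, α = 1 := by
      intro α hα
      have hφ := (mem_autGroup (le_refl S)).1 hα
      obtain ⟨φ', hφ', h1, h2, h3, h4⟩ := hsurj.1.2 S _ hφ
      rw [← h] at hφ'
      obtain ⟨-, g, -, hg⟩ := hφ'
      have h5 : ∀ x : S, x⁻¹ * α x ∈ (F.center).subgroupOf S := by
        intro x
        rw [← QuotientGroup.eq_one_iff]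
        have h6 := h4 x
        rw [hg] at h6
        have h7 : θ x = θ (α x) := by
          have h8 : g * θ x * g⁻¹ = θ (α x) := h6
          rw [← h8, hcomA g, mul_inv_cancel_right]
        show θ (x⁻¹ * α x) = 1
        rw [map_mul, map_inv, ← h7, inv_mul_cancel]
      have h6 : ∀ x ∈ (F.center).subgroupOf S, α x = x := by
        intro x hx
        apply Subtype.ext
        exact central_fixed hZ hφ x.2 hx
      obtain ⟨k, hk⟩ := pow_p_of_two_chain hS (A := (F.center).subgroupOf S) h6 h5
      -- p'
      have h8 := (fullyAutomized_iff hS).1 (sat_fn hS hF (fullyNormalized_S F)).2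
      have hInn : Inn S = ⊥ := by
        rw [eq_bot_iff]
        rintro _ ⟨g, rfl⟩
        rw [Subgroup.mem_bot]
        ext x
        simp only [MulAut.conj_apply, MulAut.one_apply]
        rw [hab.is_comm.comm g x, mul_inv_cancel_right]
      rw [autInducedBy_self, hInn, Subgroup.relIndex_bot_left] at h8
      haveI := finite_autGroup F (le_refl S)
      have h9 : orderOf (⟨α, hα⟩ : F.autGroup S) ∣ Nat.card (F.autGroup S) := orderOf_dvd_natCard _
      have h10 : orderOf (⟨α, hα⟩ : F.autGroup S) ∣ p ^ k := by
        apply orderOf_dvd_of_pow_eq_one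
        exact Subtype.ext hk
      have h11 : (p ^ k).Coprime (Nat.card (F.autGroup S)) :=
        Nat.Coprime.pow_left k ((Nat.Prime.coprime_iff_not_dvd Fact.out).2 h8.2)
      have h12 : orderOf (⟨α, hα⟩ : F.autGroup S) = 1 := Nat.eq_one_of_dvd_coprimes h11 h10 h9
      exact congrArg Subtype.val (orderOf_eq_one_iff.1 h12)
    have hSn : F.IsNormal S := isNormal_of_abelian hS hF ⟨le_rfl, fun R _ φ hφ x => mem_S hφ x⟩
      (by
        rw [Subgroup.commutator_eq_bot_iff_le_centralizer]
        intro x hx
        rw [Subgroup.mem_centralizer_iff]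
        intro y hy
        exact hcom y hy x hx)
    have hS1 : S = ⊥ := by
      rw [← hhyp, FusionSystem.hyperfocalSubgroup, Subgroup.closure_eq_bot_iff]
      rintro y ⟨P, α, x, hP, hα, rfl⟩
      have hφ := (mem_autGroup hP).1 α.2
      obtain ⟨ψ, hψ, h1, κ, hκ⟩ := normal_aut hSn hφ
      have hκA : κ ∈ F.autGroup S := aut_mem_of_hom (restrict_mem hψ (le_sup_right : S ≤ P ⊔ S)) fun x => (hκ x x.2).symm
      have hκ1 := haut κ hκA
      rw [Set.mem_singleton_iff]
      have h2 := h1 x x.2
      have h3 := hκ x (hP x.2)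
      rw [h2, hκ1] at h3
      have h4 : (((α : MulAut P) x : P) : Ω) = x := h3
      rw [h4, inv_mul_cancel]
    apply hne
    rw [eq_bot_iff]
    intro y _
    obtain ⟨x, rfl⟩ := hθs y
    rw [Subgroup.mem_bot]
    have : x = 1 := Subtype.ext (Subgroup.mem_bot.1 (hS1 ▸ x.2))
    rw [this, map_one]

end Cfsg.Agent.S5148
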