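import Cfsg.Statements.S5153
import Cfsg.Agent.LibFus21NE

set_option autoImplicit false
open Cfsg

namespace Cfsg.Agent.S5153

/-- Let F be a saturated fusion system over a finite p-group S and E a subnormal subsystem of F over T. Then every subgroup of T that is fully normalized in F is fully normalized in E. -/
theorem result {Ω : Type*} [Group Ω] {S : Subgroup Ω} [Finite S] (p : ℕ) [Fact p.Prime] (hS : IsPGroup p S) (F : Cfsg.FusionSystem S) (hF : F.IsSaturated p) {T : Subgroup Ω} (E : Cfsg.FusionSystem T) (hE : E.IsSubnormalIn F p) (P : Subgroup Ω) (hPT : P ≤ T) (hP : F.IsFullyNormalized P) : E.IsFullyNormalized P := by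
    have key : ∀ {T S : Subgroup Ω} (E : Cfsg.FusionSystem T) (F : Cfsg.FusionSystem S) (q : ℕ), E.IsSubnormalIn F q → q.Prime → Finite S → IsPGroup q S → F.IsSaturated q → T ≤ S ∧ ∀ P ≤ T, F.IsFullyNormalized P → E.IsFullyNormalized P := by
      intro T S E F q h
      induction h with
      | refl F q => intro _ _ _ _; exact ⟨le_rfl, fun P _ h => h⟩
      | step h1 h2 ih =>
        intro hq hfin hS hF
        haveI := Fact.mk hq
        haveI := hfin
        have hUS := h2.1.2.2.2.1.1
        obtain ⟨h3, h4⟩ := ih hq (CfsgLib.Fus21.finite_of_le hUS) (hS.to_le hUS) h2.1.1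
        exact ⟨h3.trans hUS, fun P hPT hP => h4 P hPT (CfsgLib.Fus21.fn_sub hS hF h2.1.2.2.1 h2.1.2.2.2.1 (hPT.trans h3) hP)⟩
    exact (key E F p hE Fact.out inferInstance hS hF).2 P hPT hP

end Cfsg.Agent.S5153
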