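import Cfsg.Statements.S5185
import Cfsg.Agent.LibFus21E5

set_option autoImplicit false
universe u
open Cfsg

namespace Cfsg.Agent.S5185

open CfsgLib.Fus21 Cfsg Cfsg.FusionSystem



/-- Let F be a saturated fusion system over a finite p-group S and H an essential subgroup of order p². Then H is elementary abelian (isomorphic to C_p × C_p) and its F-automorphism group contains a subgroup isomorphic to SL(2,p). -/
theorem result {Ω : Type u} [Group Ω] {S : Subgroup Ω} [Finite S] (p : ℕ) [Fact p.Prime] (hS : IsPGroup p S)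
    (F : Cfsg.FusionSystem S) (hF : F.IsSaturated p) (H : Subgroup Ω) (hH : F.IsEssential p H) (hcard : Nat.card H = p ^ 2) :
    Cfsg.IsElementaryAbelian p H ∧
      ∃ K : Subgroup ↥(F.autGroup H), Nonempty (↥K ≃* Matrix.SpecialLinearGroup (Fin 2) (ZMod p)) := by
    haveI : Finite H := finite_of_le hH.1.1
    have hpH : IsPGroup p H := hS.to_le hH.1.1
    have hp := (Fact.out : p.Prime)
    have hrk : (frattini H).index ≤ p ^ 2 := by
      rw [← hcard]
      exact Nat.le_of_dvd Nat.card_pos (Subgroup.index_dvd_card _)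
    obtain ⟨hidx, hirr, hker, τ, hτA, -, hτI, C, hΦC, hCi, h1, h2⟩ := ess2 hS hF hH hrk
    have hΦ : frattini H = ⊥ := by
      have h3 := (frattini H).card_mul_index
      rw [hidx, hcard] at h3
      apply Subgroup.card_eq_one.1
      exact Nat.eq_of_mul_eq_mul_right (pow_pos hp.pos 2) (by rw [h3, one_mul])
    have hc : ∀ x y : H, x * y = y * x := by
      intro x y
      have h3 := CfsgLib.ExtraH28.comm_mem_frattini hpH x y
      rw [hΦ, Subgroup.mem_bot] at h3
      exact CfsgLib.ExtraH28.comm_eq_one_iff.1 h3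
    have hexp : ∀ x : H, x ^ p = 1 := by
      intro x
      have h3 := CfsgLib.LE.pow_mem_frattini hpH x
      rw [hΦ, Subgroup.mem_bot] at h3
      exact h3
    refine ⟨⟨⟨⟨hc⟩⟩, fun a ha => congrArg Subtype.val (hexp ⟨a, ha⟩)⟩, ?_⟩
    have hτ1 : τ ≠ 1 := by
      rintro rfl
      exact hτI (Inn H).one_mem
    have h1' : ∀ x ∈ C, τ x = x := by
      intro x hx
      have h3 := h1 x hx
      rw [hΦ, Subgroup.mem_bot, inv_mul_eq_one] at h3
      exact h3.symm
    obtain ⟨α, hα, c, hcC, hαc⟩ : ∃ α ∈ F.autGroup H, ∃ c ∈ C, α c ∉ C := by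
      by_contra hno
      push Not at hno
      rcases hirr C hΦC hno with h3 | h3
      · rw [h3, hidx, pow_two] at hCi
        have := hp.one_lt
        nlinarith
      · rw [h3, Subgroup.index_top] at hCi
        have := hp.one_lt
        omega
    exact sl2_of_tv hc hexp hcard (F.autGroup H) hτA hτ1 hCi h1' h2 hα hcC hαc

end Cfsg.Agent.S5185
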