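import Cfsg.Statements.S5186
import Cfsg.Agent.LibFus21E3

set_option autoImplicit false
universe u
open Cfsg

namespace Cfsg.Agent.S5186

open CfsgLib.Fus21 Cfsg Cfsg.FusionSystem



/-- Let F be a saturated fusion system over a finite p-group S and H an essential subgroup of order p³. Then H is elementary abelian, or p is odd and H is extraspecial of exponent p, or p = 2 and H is the quaternion group of order 8. -/
theorem result {Ω : Type u} [Group Ω] {S : Subgroup Ω} [Finite S] (p : ℕ) [Fact p.Prime] (hS : IsPGroup p S)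
    (F : Cfsg.FusionSystem S) (hF : F.IsSaturated p) (H : Subgroup Ω) (hH : F.IsEssential p H) (hcard : Nat.card H = p ^ 3) :
    Cfsg.IsElementaryAbelian p H ∨ (Odd p ∧ Cfsg.IsExtraspecial p ↥H ∧ ∀ x ∈ H, x ^ p = 1) ∨
      (p = 2 ∧ Nonempty (↥H ≃* QuaternionGroup 2)) := by
    haveI : Finite H := finite_of_le hH.1.1
    have hpH : IsPGroup p H := hS.to_le hH.1.1
    have hci := (frattini H).card_mul_index
    rw [hcard] at hci
    obtain ⟨j, hj3, hj⟩ := (Nat.dvd_prime_pow (Fact.out : p.Prime)).1 ⟨Nat.card (frattini H), by rw [mul_comm]; exact hci.symm⟩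
    have hpp : 0 < p := (Fact.out : p.Prime).pos
    have h1p : 1 < p := (Fact.out : p.Prime).one_lt
    by_cases hj3' : j = 3
    · left
      subst hj3'
      rw [hj] at hci
      have h1 : Nat.card (frattini H) = 1 := by
        have : Nat.card (frattini H) * p ^ 3 = 1 * p ^ 3 := by rw [hci, one_mul]
        exact Nat.eq_of_mul_eq_mul_right (pow_pos hpp 3) this
      have h2 : frattini H = ⊥ := Subgroup.card_eq_one.1 h1
      refine ⟨⟨⟨fun x y => ?_⟩⟩, fun a ha => ?_⟩
      · have h3 := CfsgLib.ExtraH28.comm_mem_frattini hpH x y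
        rw [h2, Subgroup.mem_bot] at h3
        exact CfsgLib.ExtraH28.comm_eq_one_iff.1 h3
      · have h3 := CfsgLib.LE.pow_mem_frattini hpH (⟨a, ha⟩ : H)
        rw [h2, Subgroup.mem_bot] at h3
        exact congrArg Subtype.val h3
    have hj2 : j ≤ 2 := by omega
    have hrk : (frattini H).index ≤ p ^ 2 := by rw [hj]; exact Nat.pow_le_pow_right hpp hj2
    obtain ⟨hidx, -⟩ := ess2 hS hF hH hrk
    have hΦ : Nat.card (frattini H) = p := by
      rw [hidx] at hci
      have : Nat.card (frattini H) * p ^ 2 = p * p ^ 2 := by rw [hci]; ring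
      exact Nat.eq_of_mul_eq_mul_right (pow_pos hpp 2) this
    by_cases hab : ∀ x y : H, x * y = y * x
    · exfalso
      have h1 := card_tor_pow hab p
      rw [← frattini_eq_pow hpH hab, hΦ, hcard] at h1
      have h2 : Nat.card (torB hab p) = p ^ 2 := by
        have : Nat.card (torB hab p) * p = p ^ 2 * p := by rw [h1]; ring
        exact Nat.eq_of_mul_eq_mul_right hpp this
      have h3 := ess2_char hS hF hH hrk (D := torB hab p) (by
        intro α x hx
        rw [mem_torB] at hx ⊢
        rw [← map_pow, hx, map_one]) (by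
        intro x hx
        rw [mem_torB]
        have h4 : (⟨x, hx⟩ : frattini H) ^ Nat.card (frattini H) = 1 := pow_card_eq_one'
        rw [hΦ] at h4
        exact congrArg Subtype.val h4)
      rcases h3 with h3 | h3
      · rw [h3, hΦ] at h2
        have : p * 1 < p * p := Nat.mul_lt_mul_of_pos_left h1p hpp
        nlinarith
      · rw [h3, Subgroup.card_top, hcard] at h2
        have : p ^ 2 < p ^ 3 := Nat.pow_lt_pow_right h1p (by norm_num)
        omega
    · right
      push Not at hab
      obtain ⟨hext, h | h⟩ := order_cube hpH hcard hab hΦ (fun D hD hΦD => ess2_char hS hF hH hrk hD hΦD)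
      · left
        exact ⟨h.1, hext, fun x hx => congrArg Subtype.val (h.2 ⟨x, hx⟩)⟩
      · right
        exact h

end Cfsg.Agent.S5186
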