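import Cfsg.Statements.S5212
import Cfsg.Agent.LibFus21Mc7

set_option autoImplicit false
open Cfsg

namespace Cfsg.Agent.S5212

open Cfsg.FusionSystem



/-- Let S be a finite metacyclic 2-group that is not homocyclic abelian (a direct product of cyclic groups of one common order), not dihedral, not semidihedral and not generalized quaternion. Then every saturated fusion system over S is the inner fusion system of S. -/
theorem result {Ω : Type*} [Group Ω] {S : Subgroup Ω} [Finite S] (hS : IsPGroup 2 S) (F : Cfsg.FusionSystem S) (hF : F.IsSaturated 2) (hm : Cfsg.IsMetacyclic ↥S) (hh : ¬ ∃ n k : ℕ, Nonempty (↥S ≃* Multiplicative (Fin k → ZMod (2 ^ n)))) (hd : ¬ ∃ m : ℕ, Nonempty (↥S ≃* DihedralGroup m)) (hq : ¬ ∃ m : ℕ, Nonempty (↥S ≃* QuaternionGroup m)) (hsd : ¬ Cfsg.IsQuasiDihedral ↥S) : ∀ P : Subgroup Ω, F.Hom P = (Cfsg.innerFusionSystem S).Hom P := by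
    haveI : Fact (Nat.Prime 2) := ⟨Nat.prime_two⟩
    refine CfsgLib.Fus21.inner_of_essential hS hF fun P hP => ?_
    rcases hP with rfl | hP
    · rw [IsPGroup.iff_card]
      haveI : Finite (F.autGroup P) := CfsgLib.Fus21.finite_autGroup F le_rfl
      by_contra hnc
      obtain ⟨q, hq2, hqp, hqd⟩ : ∃ q, q ≠ 2 ∧ q.Prime ∧ q ∣ Nat.card (F.autGroup P) := by
        by_contra hno
        push Not at hno
        apply hnc
        refine ⟨_, Nat.eq_prime_pow_of_unique_prime_dvd Nat.card_pos.ne' fun {d} hd hdd => ?_⟩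
        by_contra h2
        exact hno d h2 hd hdd
      haveI : Fact q.Prime := ⟨hqp⟩
      obtain ⟨g, hg⟩ := exists_prime_orderOf_dvd_card' q hqd
      have h1 : ((g : F.autGroup P) : MulAut P) ^ q = 1 := by
        have := pow_orderOf_eq_one g
        rw [hg] at this
        exact congrArg Subtype.val this
      have h2 := CfsgLib.Fus21.metac_no_odd hS hm hh hq (hqp.odd_of_ne_two hq2) h1
      have h3 : g = 1 := Subtype.ext h2
      rw [h3, orderOf_one] at hg
      exact hqp.one_lt.ne hg
    · exfalso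
      rcases CfsgLib.Fus21.metac_two hS hF hP ⟨le_rfl, fun R _ φ hφ x => CfsgLib.Fus21.range_le hφ ⟨x, rfl⟩⟩ hm
        (CfsgLib.Fus21.essential_lt hS hF hP).not_ge with h | h | h
      · exact hd h
      · exact hq h
      · exact hsd h

end Cfsg.Agent.S5212
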