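import Cfsg.Statements.S5219
import Cfsg.Agent.LibFus21Ag3

set_option autoImplicit false
open Cfsg

namespace Cfsg.Agent.S5219

open Cfsg Cfsg.FusionSystem CfsgLib.Fus21



/-- Let p be a prime, n a natural number, S a nontrivial finite p-group of nilpotence class at most n(p−1)+1, and F a saturated fusion system over S with no nontrivial normal subgroup (O_p(F) = 1). Then S has exponent dividing p^(n²(p−1)+n). -/
theorem result {Ω : Type*} [Group Ω] {S : Subgroup Ω} [Finite S] (p : ℕ) [Fact p.Prime] (hS : IsPGroup p S) (F : Cfsg.FusionSystem S) (hF : F.IsSaturated p) (n : ℕ) (hS1 : S ≠ ⊥) (hcl : Subgroup.lowerCentralSeries S (n * (p - 1) + 1) = ⊥) (hcore : F.core = ⊥) : Monoid.exponent ↥S ∣ p ^ (n ^ 2 * (p - 1) + n) := by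
  have h1 := le_core (agemo_normal hS hF n hcl)
  rw [hcore, le_bot_iff] at h1
  have hZ : ∀ z ∈ Subgroup.center S, z ^ p ^ n = 1 := by
    intro z hz
    have h2 : (z : Ω) ^ p ^ n ∈ Cfsg.powerClosure p n (centralizerIn S S) := by
      refine Subgroup.subset_closure ⟨z, ?_, rfl⟩
      rw [mem_centralizerIn]
      exact ⟨z.2, fun g hg => congrArg Subtype.val (Subgroup.mem_center_iff.1 hz ⟨g, hg⟩)⟩
    rw [h1, Subgroup.mem_bot] at h2
    exact Subtype.ext h2
  have h3 : (⊤ : Subgroup S).lowerCentralSeries (n * (p - 1) + 1) = ⊥ := by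
    have h4 := Subgroup.top_subtype_lowerCentralSeries S (n * (p - 1) + 1)
    rw [hcl] at h4
    exact (Subgroup.map_eq_bot_iff_of_injective _ S.subtype_injective).1 h4
  have h5 := exponent_of_center hZ (Subgroup.lowerCentralSeries_eq_bot_iff_upperCentralSeries_eq_top.1 h3)
  rw [← pow_mul] at h5
  have h6 : n * (n * (p - 1) + 1) = n ^ 2 * (p - 1) + n := by ring
  rwa [h6] at h5

end Cfsg.Agent.S5219
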