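import Cfsg.Statements.S5244
import Cfsg.Agent.LibFus21Ab4

set_option autoImplicit false
open Cfsg

namespace Cfsg.Agent.S5244

open CfsgLib.Fus21 Cfsg.FusionSystem

theorem abCfg {Ω : Type*} [Group Ω] {S : Subgroup Ω} {p : ℕ} (hS : IsPGroup p S) (hna : ¬ IsMulCommutative ↥S)
    {A : Subgroup Ω} (hA : A ≤ S ∧ IsMulCommutative ↥A ∧ (A.subgroupOf S).index = p) : AbCfg p S A := by
  refine ⟨hS, hA.1, fun x hx y hy => ?_, hA.2.2, ?_⟩
  · exact congrArg Subtype.val (hA.2.1.is_comm.comm (⟨x, hx⟩ : A) ⟨y, hy⟩)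
  · by_contra hno
    push Not at hno
    exact hna ⟨⟨fun x y => Subtype.ext (hno x x.2 y y.2)⟩⟩

/-- Let p be an odd prime, S a finite nonabelian p-group with a unique abelian subgroup A of index p, and F a saturated fusion system over S with no nontrivial normal subgroup (O_p(F) = 1) in which A is not F-essential. Then some subgroup Z(S)⟨x⟩ with x ∈ S outside A is F-essential, the centre Z(S) is contained in the commutator subgroup of S, and S has maximal nilpotency class (if S has order pⁿ with n ≥ 3, the term of index n − 2 of its lower central series, counting S itself as the term of index 0, is nontrivial). -/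
theorem result {Ω : Type*} [Group Ω] {S : Subgroup Ω} [Finite S] (p : ℕ) [Fact p.Prime] (hS : IsPGroup p S) (F : Cfsg.FusionSystem S) (hF : F.IsSaturated p) (hp : p ≠ 2) (hna : ¬ IsMulCommutative ↥S) (A : Subgroup Ω) (hA : A ≤ S ∧ IsMulCommutative ↥A ∧ (A.subgroupOf S).index = p) (huniq : ∀ B : Subgroup Ω, B ≤ S → IsMulCommutative ↥B → (B.subgroupOf S).index = p → B = A) (hcore : F.core = ⊥) (hAe : ¬ F.IsEssential p A) : (∃ x ∈ S, x ∉ A ∧ F.IsEssential p ((S ⊓ Subgroup.centralizer (S : Set Ω)) ⊔ Subgroup.zpowers x)) ∧ (S ⊓ Subgroup.centralizer (S : Set Ω)) ≤ (commutator ↥S).map S.subtype ∧ ∀ n : ℕ, Nat.card S = p ^ n → 3 ≤ n → Subgroup.lowerCentralSeries S (n - 2) ≠ ⊥ := by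
  have h := abCfg hS hna hA
  have hu : ∀ B : Subgroup Ω, B ≤ S → (∀ x ∈ B, ∀ y ∈ B, x * y = y * x) → B.relIndex S = p → B = A :=
    fun B h1 h2 h3 => huniq B h1 ⟨⟨fun x y => Subtype.ext (h2 x x.2 y y.2)⟩⟩ h3
  set Z := S ⊓ Subgroup.centralizer (S : Set Ω) with hZ
  have hZS : Z ≤ S := inf_le_left
  have hZc : ∀ s ∈ S, ∀ z ∈ Z, s * z = z * s := fun s hs z hz => (mem_ZS.1 hz).2 s hs
  have hnoNorm : ∀ Q : Subgroup Ω, F.IsNormal Q → Q = ⊥ := fun Q hQ => by
    have := le_core hQ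
    rwa [hcore, le_bot_iff] at this
  have hSb : S ≠ ⊥ := by
    rintro rfl
    exact hna inferInstance
  -- `Z` is invariant under automorphisms of `S`
  have hZinv : ∀ β ∈ F.autGroup S, ∀ x : S, (x : Ω) ∈ Z → ((β x : S) : Ω) ∈ Z := by
    intro β _ x hx
    rw [hZ, mem_ZS] at hx ⊢
    refine ⟨(β x).2, fun s hs => ?_⟩
    obtain ⟨s', hs'⟩ := β.surjective ⟨s, hs⟩
    have h1 : β (s' * x) = β (x * s') := by
      congr 1
      exact Subtype.ext (hx.2 s' s'.2)
    rw [map_mul, map_mul, hs'] at h1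
    exact congrArg Subtype.val h1
  -- some essential subgroup is abelian
  obtain ⟨E0, hE0, hE0c⟩ : ∃ E, F.IsEssential p E ∧ ∀ x ∈ E, ∀ y ∈ E, x * y = y * x := by
    by_contra hno
    push Not at hno
    have hZn : F.IsNormal Z := by
      refine isNormal_of_essential hS hF ?_
      rintro Q (rfl | hQ)
      · exact ⟨hZS, iff_of_imp hZinv⟩
      · refine ⟨AbCfg.Z_le_ess hQ, iff_of_imp ?_⟩
        have hQA : Q ≠ A := fun he => hAe (he ▸ hQ)
        obtain ⟨x, hx, hxA⟩ := h.ess_notMem hQ hQA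
        obtain ⟨-, -, h3⟩ := h.ess_nonabelian hF hQ hx hxA hQA (by
          intro hc
          obtain ⟨a, ha, b, hb, hab⟩ := hno Q hQ
          exact hab (hc a ha b hb))
        intro α _ y hy
        refine h3 _ (α y).2 fun e he => ?_
        obtain ⟨e', he'⟩ := α.surjective ⟨e, he⟩
        have h4 : α (y * e') = α (e' * y) := by
          congr 1
          exact Subtype.ext ((mem_ZS.1 hy).2 e' (hQ.1.1 e'.2)).symm
        rw [map_mul, map_mul, he'] at h4
        exact congrArg Subtype.val h4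
    have h1 := hnoNorm Z hZn
    haveI : Nontrivial S := by
      rw [← not_subsingleton_iff_nontrivial]
      intro hs
      exact hSb (Subgroup.eq_bot_of_subsingleton S)
    haveI := hS.center_nontrivial
    obtain ⟨z, hz⟩ := exists_ne (1 : Subgroup.center S)
    apply hz
    have h2 : ((z : S) : Ω) ∈ Z := by
      rw [hZ, mem_ZS]
      exact ⟨(z : S).2, fun s hs => congrArg Subtype.val (Subgroup.mem_center_iff.1 z.2 ⟨s, hs⟩)⟩
    rw [h1, Subgroup.mem_bot] at h2
    exact Subtype.ext (Subtype.ext h2)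
  have hE0A : E0 ≠ A := fun he => hAe (he ▸ hE0)
  obtain ⟨x, hx, hxA⟩ := h.ess_notMem hE0 hE0A
  obtain ⟨h1, h2, h3⟩ := h.ess_abelian hE0 hx hxA hE0c
  have hK := h.Z2_index hF hE0 hE0A
  set C := Z ⊓ (commutator S).map S.subtype with hC
  have hCc : Nat.card C = p := h.card_Z_inf hK
  have hCinv : ∀ β ∈ F.autGroup S, ∀ x : S, (x : Ω) ∈ C → ((β x : S) : Ω) ∈ C := by
    rintro β hβ x ⟨hx1, hx2⟩
    refine ⟨hZinv β hβ x hx1, ?_⟩
    obtain ⟨y, hy, hyx⟩ := hx2
    have hyx' : y = x := Subtype.ext hyx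
    rw [hyx'] at hy
    exact ⟨β x, (Subgroup.characteristic_iff_le_comap.1 (inferInstance : (commutator S).Characteristic) β) hy, rfl⟩
  obtain ⟨W, hWZ, hWi, hWn⟩ := odd_normal hp hS hF hZS hZc (C := C) inf_le_left hCc hCinv hZinv (fun E hE => by
      refine ⟨AbCfg.Z_le_ess hE, ?_⟩
      have hEA : E ≠ A := fun he => hAe (he ▸ hE)
      obtain ⟨y, hy, hyA⟩ := h.ess_notMem hE hEA
      by_cases hEc : ∀ x ∈ E, ∀ y ∈ E, x * y = y * x
      · right
        obtain ⟨h4, h5, h6⟩ := h.ess_abelian hE hy hyA hEc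
        exact ⟨hEc, h5, h6⟩
      · left
        obtain ⟨-, -, h6⟩ := h.ess_nonabelian hF hE hy hyA hEA hEc
        intro α _ w hw
        refine h6 _ (α w).2 fun e he => ?_
        obtain ⟨e', he'⟩ := α.surjective ⟨e, he⟩
        have h4 : α (w * e') = α (e' * w) := by
          congr 1
          exact Subtype.ext ((mem_ZS.1 hw).2 e' (hE.1.1 e'.2)).symm
        rw [map_mul, map_mul, he'] at h4
        exact congrArg Subtype.val h4) ⟨E0, hE0, hE0c, h2, h3⟩
  have hW1 := hnoNorm W hWn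
  rw [hW1, Subgroup.relIndex_bot_left] at hWi
  refine ⟨⟨x, hE0.1.1 hx, hxA, ?_⟩, ?_, fun n hn hn3 => h.lcs_ne_bot hK hWi hn hn3⟩
  · haveI : Finite E0 := finite_of_le hE0.1.1
    rw [eq_of_relIndex' h2 le_sup_left (sup_le (AbCfg.Z_le_ess hE0) (Subgroup.zpowers_le.2 hx))
        (Subgroup.mem_sup_right (Subgroup.mem_zpowers x)) fun hxZ => hxA (h.Z_le hxZ)]
    exact hE0
  · haveI : Finite Z := finite_of_le hZS
    have h4 : C = Z := Subgroup.eq_of_le_of_card_ge inf_le_left (by rw [hCc, hWi])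
    rw [← h4]; exact inf_le_right

end Cfsg.Agent.S5244
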