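import Cfsg.Statements.S5246
import Cfsg.Agent.LibStab9
import Cfsg.Agent.LibFus21Grp
import Cfsg.Agent.LibFus21Sat2

set_option autoImplicit false
open Cfsg

namespace Cfsg.Agent.S5246

open CfsgLib.Stab9 CfsgLib.BGPi CfsgLib.Chief9
open scoped CfsgLib.BGPi commutatorElement

def StabAt {G : Type*} [Group G] (p : ℕ) (P : Subgroup G) : Prop :=
  ∀ g ∈ 𝓝(P),
    ⁅⁅P, Subgroup.zpowers g⁆, Subgroup.zpowers g⁆ = ⊥ →
    ∃ K ≤ 𝓝(P), g ∈ K ∧ 𝓝(P) ≤ 𝓝(K) ∧ ∀ x ∈ K, (orderOf x).Coprime p → x ∈ 𝓒(P)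

theorem stabAt_equiv {G H : Type*} [Group G] [Group H] {p : ℕ} (e : G ≃* H) (P : Subgroup H)
    (h : StabAt p (P.map e.symm.toMonoidHom)) : StabAt p P := by
  intro g hg hq
  set P' := P.map e.symm.toMonoidHom with hP'
  have hPe : P'.map e.toMonoidHom = P := by
    rw [hP', Subgroup.map_map]
    have : e.toMonoidHom.comp e.symm.toMonoidHom = MonoidHom.id H := by ext x; simp
    rw [this, Subgroup.map_id]
  have hn : 𝓝(P) = (𝓝(P')).map e.toMonoidHom := by
    rw [map_nz_equiv e P', hPe]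
  have hmem : ∀ x, x ∈ 𝓝(P') ↔ e x ∈ 𝓝(P) := by
    intro x
    rw [hn]
    exact (Subgroup.mem_map_iff_mem (f := e.toMonoidHom) e.injective).symm
  obtain ⟨K, hK1, hK2, hK3, hK4⟩ := h (e.symm g) (by
    rw [hmem]; simpa using hg) (by
    have h1 : Subgroup.zpowers (e.symm g) = (Subgroup.zpowers g).map e.symm.toMonoidHom := by
      rw [MonoidHom.map_zpowers]; rfl
    rw [h1, hP', ← Subgroup.map_commutator, ← Subgroup.map_commutator, hq, Subgroup.map_bot])
  refine ⟨K.map e.toMonoidHom, ?_, ⟨e.symm g, hK2, by simp⟩, ?_, ?_⟩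
  · rw [hn]; exact Subgroup.map_mono hK1
  · rw [hn, ← map_nz_equiv e K]
    exact Subgroup.map_mono (f := e.toMonoidHom) hK3
  · rintro _ ⟨x, hx, rfl⟩ hxc
    have h1 := hK4 x hx (by
      have : orderOf (e.toMonoidHom x) = orderOf x := orderOf_injective _ e.injective x
      rwa [this] at hxc)
    rw [Subgroup.mem_centralizer_iff] at h1 ⊢
    intro y hy
    rw [SetLike.mem_coe, ← hPe] at hy
    obtain ⟨z, hz, rfl⟩ := hy
    have h2 := h1 z hz
    rw [← map_mul, h2, map_mul]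

theorem quad_aut_iff {G : Type*} [Group G] {Q : Subgroup G} {g : G} {χ : MulAut Q}
    (hχ : ∀ x : Q, ((χ x : Q) : G) = g * (x : G) * g⁻¹) :
    ⁅⁅Q, Subgroup.zpowers g⁆, Subgroup.zpowers g⁆ = ⊥ ↔
      ∀ a : Q, (χ a⁻¹) * a * (χ a⁻¹) * (χ (χ a)) = 1 := by
  have h0 : ∀ a : Q, ((χ a⁻¹) * a * (χ a⁻¹) * (χ (χ a)) = 1) ↔
      (g * ((a : G)⁻¹ * g * a * g⁻¹) * g⁻¹ = (a : G)⁻¹ * g * a * g⁻¹) := by
    intro a
    rw [← Subtype.coe_inj]
    simp only [Subgroup.coe_mul, Subgroup.coe_one, hχ, Subgroup.coe_inv]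
    constructor
    · intro h
      have e : g * (a : G)⁻¹ * g⁻¹ * a * (g * (a : G)⁻¹ * g⁻¹) * (g * (g * a * g⁻¹) * g⁻¹) =
        ((a : G)⁻¹ * g * a * g⁻¹)⁻¹ * (g * ((a : G)⁻¹ * g * a * g⁻¹) * g⁻¹) := by group
      rw [e, inv_mul_eq_one] at h
      exact h.symm
    · intro h
      have e : g * (a : G)⁻¹ * g⁻¹ * a * (g * (a : G)⁻¹ * g⁻¹) * (g * (g * a * g⁻¹) * g⁻¹) =
        ((a : G)⁻¹ * g * a * g⁻¹)⁻¹ * (g * ((a : G)⁻¹ * g * a * g⁻¹) * g⁻¹) := by group
      rw [e, inv_mul_eq_one]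
      exact h.symm
  constructor
  · intro h a
    rw [h0]
    rw [Subgroup.commutator_eq_bot_iff_le_centralizer] at h
    have h1 : ⁅(a : G)⁻¹, g⁆ ∈ ⁅Q, Subgroup.zpowers g⁆ :=
      Subgroup.commutator_mem_commutator (Q.inv_mem a.2) (Subgroup.mem_zpowers g)
    have h2 := Subgroup.mem_centralizer_iff.1 (h h1) g (Subgroup.mem_zpowers g)
    rw [commutatorElement_def, inv_inv] at h2
    rw [h2]; group
  · intro h
    rw [Subgroup.commutator_eq_bot_iff_le_centralizer, Subgroup.commutator_le]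
    intro a ha z hz
    obtain ⟨n, rfl⟩ := Subgroup.mem_zpowers_iff.1 hz
    have h1 := (h0 ⟨a⁻¹, Q.inv_mem ha⟩).1 (h _)
    simp only [inv_inv] at h1
    set c := a * g * a⁻¹ * g⁻¹ with hc
    have h2 : Commute c g := by
      change c * g = g * c
      rw [mul_inv_eq_iff_eq_mul] at h1
      exact h1.symm
    have h3 : ⁅a, g ^ n⁆ = c ^ n := by
      rw [commutatorElement_def]
      have e : a * g ^ n * a⁻¹ = (a * g * a⁻¹) ^ n := by rw [conj_zpow]
      have e2 : a * g * a⁻¹ = c * g := by rw [hc]; group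
      rw [e, e2, h2.mul_zpow, mul_assoc, mul_inv_cancel, mul_one]
    rw [h3, Subgroup.mem_centralizer_iff]
    intro w hw
    obtain ⟨m, rfl⟩ := Subgroup.mem_zpowers_iff.1 hw
    exact ((h2.zpow_left n).zpow_right m).eq.symm

/-- Let p be an odd prime, G a finite group and P a Sylow p-subgroup. Call a fusion system F p-stable when, for every fully normalized subgroup Q and every χ ∈ Aut_F(Q) acting quadratically on Q (that is, χ fixes a⁻¹χ(a) for every a ∈ Q; equivalently χ(a⁻¹)·a·χ(a⁻¹)·χ(χ(a)) = 1), χ lies in O_p(Aut_F(Q)). Then G is p-stable in the normalizer form (for every p-subgroup Q and x ∈ N_G(Q) with [Q, x, x] = 1, the image of x lies in O_p(N_G(Q)/C_G(Q))) if and only if the fusion system of G on P is p-stable. -/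
theorem result {Ω : Type*} [Group Ω] [Finite Ω] {p : ℕ} [Fact p.Prime] (hp : p ≠ 2) (P : Sylow p Ω) : Cfsg.IsNormalizerPStable p Ω ↔ (∀ Q : Subgroup Ω, (Cfsg.groupFusionSystem (P : Subgroup Ω)).IsFullyNormalized Q → ∀ χ : MulAut ↥Q, χ ∈ (Cfsg.groupFusionSystem (P : Subgroup Ω)).autGroup Q → (∀ a : ↥Q, (χ a⁻¹) * a * (χ a⁻¹) * (χ (χ a)) = 1) → χ ∈ ((Cfsg.pCore p ↥((Cfsg.groupFusionSystem (P : Subgroup Ω)).autGroup Q)).map ((Cfsg.groupFusionSystem (P : Subgroup Ω)).autGroup Q).subtype : Subgroup (MulAut ↥Q))) := by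
  classical
  set F := Cfsg.groupFusionSystem (P : Subgroup Ω) with hF
  -- the conjugation homomorphism
  have hAut : ∀ Q : Subgroup Ω, Q ≤ (P : Subgroup Ω) → ∀ α : MulAut Q, α ∈ F.autGroup Q ↔
      ∃ g : Ω, ∀ x : Q, ((α x : Q) : Ω) = g * (x : Ω) * g⁻¹ := by
    intro Q hQ α
    rw [hF, CfsgLib.Fus21.autGroup_group hQ, CfsgLib.Fus21.mem_autInducedBy]
    constructor
    · rintro ⟨g, -, h⟩; exact ⟨g, h⟩
    · rintro ⟨g, h⟩; exact ⟨g, trivial, h⟩
  have hmem : ∀ Q : Subgroup Ω, Q ≤ (P : Subgroup Ω) → ∀ g : 𝓝(Q), Q.normalizerMonoidHom g ∈ F.autGroup Q := by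
    intro Q hQ g
    rw [hAut Q hQ]
    exact ⟨g, fun x => rfl⟩
  rw [stab_iff]
  constructor
  · intro h Q hQ χ hχ hq
    have hQS := hQ.1
    obtain ⟨g, hg⟩ := (hAut Q hQS χ).1 hχ
    have hgN : g ∈ 𝓝(Q) := CfsgLib.Fus21.mem_normalizer_of_conjAut hg
    obtain ⟨K, hK1, hK2, hK3, hK4⟩ := h Q (P.2.to_le hQS) g hgN ((quad_aut_iff hg).2 hq)
    let f : 𝓝(Q) →* F.autGroup Q := Q.normalizerMonoidHom.codRestrict _ (hmem Q hQS)
    have hfs : Function.Surjective f := by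
      rintro ⟨α, hα⟩
      obtain ⟨k, hk⟩ := (hAut Q hQS α).1 hα
      refine ⟨⟨k, CfsgLib.Fus21.mem_normalizer_of_conjAut hk⟩, Subtype.ext ?_⟩
      ext x
      exact (hk x).symm
    have hKn : (K.subgroupOf (𝓝(Q))).Normal := by
      rw [Subgroup.normal_subgroupOf_iff_le_normalizer hK1]; exact hK3
    have h1 : ((K.subgroupOf (𝓝(Q))).map f).Normal := hKn.map f hfs
    have h2 : IsPGroup p ↥((K.subgroupOf (𝓝(Q))).map f) := by
      apply map_isPGroup_of_coprime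
      intro x hx hxc
      have h3 := hK4 x hx (by rwa [Subgroup.orderOf_coe])
      apply Subtype.ext
      ext y
      change (x : Ω) * y * (x : Ω)⁻¹ = y
      rw [Subgroup.mem_centralizer_iff] at h3
      rw [← h3 y y.2]; group
    refine ⟨f ⟨g, hgN⟩, CfsgLib.Cores.le_pCore h1 h2 ⟨⟨g, hgN⟩, hK2, rfl⟩, ?_⟩
    ext x
    exact (hg x).symm
  · intro h R hR
    -- move `R` to a fully normalized subgroup
    obtain ⟨a, ha⟩ := CfsgLib.Fus21.exists_conj_le_sylow P hR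
    obtain ⟨Q, hQ1, hQ2⟩ := CfsgLib.Fus21.exists_fullyNormalized F ha
    obtain ⟨-, hQS, b, hb⟩ := CfsgLib.Fus21.isConj_group.1 hQ1
    have hQS' : StabAt p Q := by
      intro g hg hq
      let f : 𝓝(Q) →* F.autGroup Q := Q.normalizerMonoidHom.codRestrict _ (hmem Q hQS)
      have h1 := h Q hQ2 (Q.normalizerMonoidHom ⟨g, hg⟩) (hmem Q hQS _)
        ((quad_aut_iff (χ := Q.normalizerMonoidHom ⟨g, hg⟩) (fun x => rfl)).1 hq)
      obtain ⟨α, hα, hα'⟩ := h1
      have hfα : f ⟨g, hg⟩ = α := Subtype.ext hα'.symm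
      refine ⟨((Cfsg.pCore p (F.autGroup Q)).comap f).map (𝓝(Q)).subtype, Subgroup.map_subtype_le _,
        ⟨⟨g, hg⟩, ?_, rfl⟩, ?_, ?_⟩
      · change f ⟨g, hg⟩ ∈ Cfsg.pCore p (F.autGroup Q)
        rw [hfα]; exact hα
      · have hn : ((Cfsg.pCore p (F.autGroup Q)).comap f).Normal := inferInstance
        rw [← Subgroup.normal_subgroupOf_iff_le_normalizer (Subgroup.map_subtype_le _),
          Subgroup.subgroupOf, Subgroup.comap_map_eq_self_of_injective (Subgroup.subtype_injective _)]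
        exact hn
      · rintro _ ⟨x, hx, rfl⟩ hxc
        have h2 : (orderOf (f x)).Coprime p :=
          Nat.Coprime.coprime_dvd_left (orderOf_map_dvd f x) (by
            rwa [Subgroup.subtype_apply, Subgroup.orderOf_coe] at hxc)
        have h3 : f x = 1 := eq_one_of_mem_pGroup (CfsgLib.Cores.pCore_isPGroup p) hx h2
        rw [Subgroup.mem_centralizer_iff]
        intro y hy
        have h4 : (x : Ω) * y * (x : Ω)⁻¹ = y := by
          have := congrArg (fun α : F.autGroup Q => (((α : MulAut Q) ⟨y, hy⟩ : Q) : Ω)) h3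
          exact this
        change y * (x : Ω) = x * y
        rw [mul_inv_eq_iff_eq_mul] at h4
        exact h4.symm
    have e1 : R.map (MulAut.conj (b * a)).toMonoidHom = Q := by
      rw [← hb, Subgroup.map_map]
      congr 1
      ext x
      simp [mul_assoc]
    apply stabAt_equiv (MulAut.conj (b * a)).symm
    change StabAt p (R.map (MulAut.conj (b * a)).toMonoidHom)
    rw [e1]
    exact hQS'

end Cfsg.Agent.S5246
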