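import Cfsg.Statements.S5254
import Cfsg.Agent.LibFus21Ab4

set_option autoImplicit false
open Cfsg

namespace Cfsg.Agent.S5254

open CfsgLib.Fus21 Cfsg.FusionSystem

theorem abCfg {Ω : Type*} [Group Ω] {S : Subgroup Ω} {p : ℕ} (hS : IsPGroup p S) (hna : ¬ IsMulCommutative ↥S)
    {A : Subgroup Ω} (hA : A ≤ S ∧ IsMulCommutative ↥A ∧ (A.subgroupOf S).index = p) : AbCfg p S A := by
  refine ⟨hS, hA.1, fun x hx y hy => ?_, hA.2.2, ?_⟩
  · exact congrArg Subtype.val (hA.2.1.is_comm.comm (⟨x, hx⟩ : A) ⟨y, hy⟩)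
  · by_contra hno
    push Not at hno
    exact hna ⟨⟨fun x y => Subtype.ext (hno x x.2 y y.2)⟩⟩

/-- Let p be an odd prime, S a finite nonabelian p-group with a unique abelian subgroup A of index p, and F a saturated fusion system over S. Then every F-essential subgroup P is A, or Z(S)⟨x⟩ for some x ∈ S outside A, or (when the second centre Z₂(S) lies in A) Z₂(S)⟨x⟩ for some x ∈ S outside A; and P has index p in its normalizer in S. -/
theorem result {Ω : Type*} [Group Ω] {S : Subgroup Ω} [Finite S] (p : ℕ) [Fact p.Prime] (hS : IsPGroup p S) (F : Cfsg.FusionSystem S) (hF : F.IsSaturated p) (hp : p ≠ 2) (hna : ¬ IsMulCommutative ↥S) (A : Subgroup Ω) (hA : A ≤ S ∧ IsMulCommutative ↥A ∧ (A.subgroupOf S).index = p) (huniq : ∀ B : Subgroup Ω, B ≤ S → IsMulCommutative ↥B → (B.subgroupOf S).index = p → B = A) (P : Subgroup Ω) (hP : F.IsEssential p P) : (P = A ∨ (∃ x ∈ S, x ∉ A ∧ P = (S ⊓ Subgroup.centralizer (S : Set Ω)) ⊔ Subgroup.zpowers x) ∨ (((upperCentralSeries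 ↥S 2).map S.subtype) ≤ A ∧ ∃ x ∈ S, x ∉ A ∧ P = ((upperCentralSeries ↥S 2).map S.subtype) ⊔ Subgroup.zpowers x)) ∧ (P.subgroupOf (S ⊓ Subgroup.normalizer (P : Set Ω))).index = p := by
  have h := abCfg hS hna hA
  refine ⟨?_, ?_⟩
  · by_cases hPA : P = A
    · exact Or.inl hPA
    right
    obtain ⟨x, hx, hxA⟩ := h.ess_notMem hP hPA
    have hPS := hP.1.1
    by_cases hEc : ∀ x ∈ P, ∀ y ∈ P, x * y = y * x
    · left
      obtain ⟨h1, h2, -⟩ := h.ess_abelian hP hx hxA hEc
      refine ⟨x, hPS hx, hxA, ?_⟩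
      haveI : Finite P := finite_of_le hPS
      refine (eq_of_relIndex' h2 le_sup_left (sup_le (AbCfg.Z_le_ess hP) (Subgroup.zpowers_le.2 hx))
        (Subgroup.mem_sup_right (Subgroup.mem_zpowers x)) fun hxZ => hxA (h.Z_le hxZ)).symm
    · right
      obtain ⟨h1, h2, -⟩ := h.ess_nonabelian hF hP hx hxA hPA hEc
      change P ⊓ A = (upperCentralSeries ↥S 2).map S.subtype at h1
      refine ⟨by rw [← h1]; exact inf_le_right, x, hPS hx, hxA, ?_⟩
      haveI : Finite P := finite_of_le hPS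
      have h3 : (P ⊓ A).relIndex P = p := by
        rw [Subgroup.inf_relIndex_left]; exact h.relIndex_of_notMem hPS hx hxA
      rw [← h1]
      exact (eq_of_relIndex' h3 le_sup_left (sup_le inf_le_left (Subgroup.zpowers_le.2 hx))
        (Subgroup.mem_sup_right (Subgroup.mem_zpowers x)) fun hxZ => hxA hxZ.2).symm
  · by_cases hPA : P = A
    · subst hPA
      rw [inf_eq_left.2 h.norm]
      exact hA.2.2
    · exact h.norm_index hF hP hPA

end Cfsg.Agent.S5254
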