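import Cfsg.Statements.S5257
import Cfsg.Agent.LibFus21Ab4

set_option autoImplicit false
open Cfsg

namespace Cfsg.Agent.S5257

open CfsgLib.Fus21 Cfsg.FusionSystem

theorem abCfg {Ω : Type*} [Group Ω] {S : Subgroup Ω} {p : ℕ} (hS : IsPGroup p S) (hna : ¬ IsMulCommutative ↥S)
    {A : Subgroup Ω} (hA : A ≤ S ∧ IsMulCommutative ↥A ∧ (A.subgroupOf S).index = p) : AbCfg p S A := by
  refine ⟨hS, hA.1, fun x hx y hy => ?_, hA.2.2, ?_⟩
  · exact congrArg Subtype.val (hA.2.1.is_comm.comm (⟨x, hx⟩ : A) ⟨y, hy⟩)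
  · by_contra hno
    push Not at hno
    exact hna ⟨⟨fun x y => Subtype.ext (hno x x.2 y y.2)⟩⟩

/-- Let p be an odd prime, S a finite nonabelian p-group with a unique abelian subgroup A of index p, and F a saturated fusion system over S having an F-essential subgroup other than A. Then the second centre Z₂(S) lies in A; Z(S) ∩ [S, S] has order p; Z(S)[S, S] has index p in A; Z(S) has index p in Z₂(S); and S/Z(S) has maximal nilpotency class (if S/Z(S) has order pᵐ with m ≥ 3 then the term of index m − 2 of the lower central series of S, counting S as index 0, is not contained in Z(S)). -/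
theorem result {Ω : Type*} [Group Ω] {S : Subgroup Ω} [Finite S] (p : ℕ) [Fact p.Prime] (hS : IsPGroup p S) (F : Cfsg.FusionSystem S) (hF : F.IsSaturated p) (hp : p ≠ 2) (hna : ¬ IsMulCommutative ↥S) (A : Subgroup Ω) (hA : A ≤ S ∧ IsMulCommutative ↥A ∧ (A.subgroupOf S).index = p) (huniq : ∀ B : Subgroup Ω, B ≤ S → IsMulCommutative ↥B → (B.subgroupOf S).index = p → B = A) (P : Subgroup Ω) (hP : F.IsEssential p P) (hPA : P ≠ A) : ((upperCentralSeries ↥S 2).map S.subtype) ≤ A ∧ Nat.card ↥((S ⊓ Subgroup.centralizer (S : Set Ω)) ⊓ ((commutator ↥S).map S.subtype)) = p ∧ (((S ⊓ Subgroup.centralizer (S : Set Ω)) ⊔ ((commutator ↥S).map S.subtype)).subgroupOf A).index = p ∧ (((S ⊓ Subgroup.centralizer (S : Set Ω))).subgroupOf ((upperCentralSeries ↥S 2).map S.subtype)).index = p ∧ ∀ m : ℕ, ((S ⊓ Subgroup.centralizer (S : Set Ω)).subgroupOf S).index = p ^ m → 3 ≤ m → ¬ Subgroup.lowerCentralSeries S (m - 2) ≤ (S ⊓ Subgroup.centralizer (S : Set Ω)) := by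
  have h := abCfg hS hna hA
  have hu : ∀ B : Subgroup Ω, B ≤ S → (∀ x ∈ B, ∀ y ∈ B, x * y = y * x) → B.relIndex S = p → B = A :=
    fun B h1 h2 h3 => huniq B h1 ⟨⟨fun x y => Subtype.ext (h2 x x.2 y y.2)⟩⟩ h3
  have hK := h.Z2_index hF hP hPA
  have hle := h.Z2_le hF hP hPA hu
  refine ⟨hle, h.card_Z_inf hK, h.index_sup hK, ?_, fun m hm hm3 => h.lcs_not_le hK hm hm3⟩
  have h1 : S ⊓ Subgroup.centralizer (S : Set Ω) ≤ (Subgroup.upperCentralSeries S 2).map S.subtype := by
    intro z hz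
    rw [mem_Z2]
    rw [mem_ZS] at hz
    refine ⟨hz.1, fun s hs => ?_⟩
    rw [← hz.2 s hs, mul_inv_cancel_right, mul_inv_cancel]; exact Subgroup.one_mem _
  haveI : Finite ↥(S ⊓ Subgroup.centralizer (S : Set Ω)) := finite_of_le inf_le_left
  have h2 := AbCfg.card_relIndex h1
  rw [inf_eq_right.2 hle] at hK
  rw [hK] at h2
  have hpos : 0 < Nat.card ↥(S ⊓ Subgroup.centralizer (S : Set Ω)) := Nat.card_pos
  exact Nat.eq_of_mul_eq_mul_left hpos (by rw [mul_comm _ p]; exact h2)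

end Cfsg.Agent.S5257
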