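import Cfsg.Statements.S5265
import Cfsg.Agent.LibFus21Hy7
import Cfsg.Agent.LibFus21Tv8

set_option autoImplicit false
open Cfsg

namespace Cfsg.Agent.S5265

open CfsgLib.Fus21 Cfsg.FusionSystem

theorem pow_mem_center {G : Type*} [Group G] [Finite G] {p : ℕ} [hp : Fact p.Prime] (hG : IsPGroup p G)
    (hi : (Subgroup.center G).index = p ^ 2) (hna : ∃ x y : G, x * y ≠ y * x) (x : G) : x ^ p ∈ Subgroup.center G := by
  by_cases hx : x ∈ Subgroup.center G
  · exact Subgroup.pow_mem _ hx p
  set H := Subgroup.center G ⊔ Subgroup.zpowers x with hH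
  have hHt : H ≠ ⊤ := by
    intro h
    obtain ⟨a, b, hab⟩ := hna
    have h1 : ∀ g : G, g * x = x * g := by
      have h2 : H ≤ Subgroup.centralizer {x} := by
        rw [hH]
        refine sup_le (fun z hz => ?_) (Subgroup.zpowers_le.2 ?_)
        · rw [Subgroup.mem_centralizer_singleton_iff]; exact (Subgroup.mem_center_iff.1 hz x).symm
        · rw [Subgroup.mem_centralizer_singleton_iff]
      intro g
      have h3 : g ∈ Subgroup.centralizer {x} := h2 (by rw [h]; exact Subgroup.mem_top _)
      rwa [Subgroup.mem_centralizer_singleton_iff] at h3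
    exact hx (Subgroup.mem_center_iff.2 h1)
  have h1 := Subgroup.relIndex_mul_index (le_sup_left : Subgroup.center G ≤ H)
  rw [hi] at h1
  have h2 : H.index ≠ 1 := fun h => hHt (Subgroup.index_eq_one.1 h)
  have h3 : (Subgroup.center G).relIndex H ≠ 1 := by
    intro h
    rw [Subgroup.relIndex_eq_one] at h
    exact hx (h (Subgroup.mem_sup_right (Subgroup.mem_zpowers x)))
  have h4 : (Subgroup.center G).relIndex H = p := by
    obtain ⟨k, hk⟩ := (hG.to_subgroup H).index ((Subgroup.center G).subgroupOf H)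
    obtain ⟨l, hl⟩ := hG.index H
    have hk' : (Subgroup.center G).relIndex H = p ^ k := hk
    rw [hk', hl, ← pow_add] at h1
    have h5 := Nat.pow_right_injective hp.out.two_le h1
    rw [hk'] at h3 ⊢
    rw [hl] at h2
    have h6 : k ≠ 0 := fun h => h3 (by rw [h, pow_zero])
    have h7 : l ≠ 0 := fun h => h2 (by rw [h, pow_zero])
    have h8 : k = 1 := by omega
    rw [h8, pow_one]
  have h5 := Subgroup.pow_index_mem ((Subgroup.center G).subgroupOf H) ⟨x, Subgroup.mem_sup_right (Subgroup.mem_zpowers x)⟩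
  rw [show ((Subgroup.center G).subgroupOf H).index = p from h4] at h5
  exact h5

/-- Let p be a prime, S a nontrivial finite p-group whose centre has index at most p², and F a saturated fusion system over S with no nontrivial normal subgroup and with hyperfocal subgroup equal to S. Then S is extraspecial of order p³; for odd p it has exponent p, and for p = 2 it is dihedral of order 8. -/
theorem result {Ω : Type*} [Group Ω] {S : Subgroup Ω} [Finite S] (p : ℕ) [Fact p.Prime] (hS : IsPGroup p ↥S) (F : Cfsg.FusionSystem S) (hF : F.IsSaturated p) (hS1 : S ≠ ⊥) (hcore : F.core = ⊥) (hhyp : F.hyperfocalSubgroup p = S) (hZ : (Subgroup.center ↥S).index ≤ p ^ 2) : Cfsg.IsExtraspecial p ↥S ∧ Nat.card S = p ^ 3 ∧ (p ≠ 2 → Monoid.exponent ↥S = p) ∧ (p = 2 → Nonempty (↥S ≃* DihedralGroup 4)) := by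
  obtain ⟨hna, hZi, -, hcomm, hess, E, hE⟩ := sq_cfg hS hF hS1 hcore hZ
  have hcard : Nat.card ↥(S ⊓ Subgroup.centralizer (S : Set Ω)) = p := by
    by_cases hp2 : p = 2
    · subst hp2
      exact center_two hS hF hS1 hcore hhyp hZ
    · exact center_odd hp2 hS hF hS1 hcore hZ
  have hci : (Subgroup.center S).index = p ^ 2 := by rw [← centerIndex_eq]; exact hZi
  have hcc : Nat.card (Subgroup.center S) = p := by
    rw [← hcard]
    have h1 : (S ⊓ Subgroup.centralizer (S : Set Ω)).subgroupOf S = Subgroup.center S := by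
      ext z
      rw [Subgroup.mem_subgroupOf, mem_ZS, Subgroup.mem_center_iff]
      constructor
      · intro h s
        exact Subtype.ext (h.2 s s.2)
      · intro h
        exact ⟨z.2, fun s hs => congrArg Subtype.val (h ⟨s, hs⟩)⟩
    rw [← h1]
    exact Nat.card_congr (Subgroup.subgroupOfEquivOfLe inf_le_left).toEquiv
  have hna' : ∃ x y : S, x * y ≠ y * x := by
    obtain ⟨x, hx, y, hy, hxy⟩ := hna
    exact ⟨⟨x, hx⟩, ⟨y, hy⟩, fun h => hxy (congrArg Subtype.val h)⟩
  have hS3 : Nat.card S = p ^ 3 := by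
    rw [← Subgroup.card_mul_index (Subgroup.center S), hcc, hci]; ring
  have hext : Cfsg.IsExtraspecial p S := by
    refine CfsgLib.ExtraH28.isExtraspecial_of hS hcc (pow_mem_center hS hci hna') ?_ hna'
    intro x y
    have h1 : (x : Ω) * y * (x : Ω)⁻¹ * (y : Ω)⁻¹ ∈ S ⊓ Subgroup.centralizer (S : Set Ω) := (hcomm x x.2 y y.2).1
    rw [mem_ZS] at h1
    rw [Subgroup.mem_center_iff]
    intro s
    exact Subtype.ext (h1.2 s s.2)
  have hge : frattini S = commutator S ∧ Nat.card (commutator S) = p := by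
    rw [hext.1.2.1, hext.1.2.2]
    exact ⟨rfl, hcc⟩
  have hSc : F.StronglyClosed S := ⟨le_rfl, fun R hR φ hφ x => mem_S hφ x⟩
  obtain ⟨z, z2, t, R, h1, h2, h3, h4, h5, h6, h7, h8, h9⟩ :=
    ge_config hS hF hE hSc hge (fun h => (essential_lt hS hF hE).not_ge h)
  refine ⟨hext, hS3, fun hp2 => ?_, fun hp2 => ?_⟩
  · obtain ⟨K, _, A, _, -, -, hK, hA, ⟨e⟩⟩ := ge_odd hp2 hS h1 h2 h3 h4 h5 h6 h7 h8 (h9 hp2)
    have hall : ∀ x : S, x ^ p = 1 := by
      intro x
      apply e.injective
      rw [map_pow, map_one]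
      refine Prod.ext ?_ (hA _)
      have h10 := Monoid.pow_exponent_eq_one (e x).1
      rw [hK] at h10
      exact h10
    have h10 : Monoid.exponent S ∣ p := Monoid.exponent_dvd_of_forall_pow_eq_one hall
    rcases (Nat.dvd_prime Fact.out).1 h10 with h | h
    · exfalso
      obtain ⟨x, y, hxy⟩ := hna'
      apply hxy
      have h2 : ∀ a : S, a = 1 := by
        intro a
        have := Monoid.pow_exponent_eq_one a
        rwa [h, pow_one] at this
      rw [h2 x, h2 y]
    · exact h
  · subst hp2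
    obtain ⟨A, _, hA, ⟨e⟩⟩ := ge_dihedral hS h1 h2 h3 h4 h5 h6 h7 h8
    have h10 : Nat.card S = Nat.card (DihedralGroup 4) * Nat.card A := by
      rw [← Nat.card_prod]; exact Nat.card_congr e.toEquiv
    rw [hS3, DihedralGroup.nat_card] at h10
    have h11 : Nat.card A = 1 := by omega
    haveI : Subsingleton A := (Nat.card_eq_one_iff_unique.1 h11).1
    haveI : Unique A := ⟨⟨1⟩, fun a => Subsingleton.elim a 1⟩
    exact ⟨e.trans MulEquiv.prodUnique⟩

end Cfsg.Agent.S5265
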