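import Cfsg.Statements.S5297
import Cfsg.Agent.LibFus21Det
import Cfsg.Agent.S5124

set_option autoImplicit false
universe u
open Cfsg

namespace Cfsg.Agent.S5297

open CfsgLib.Fus21 Cfsg.FusionSystem



/-- Let F be a saturated fusion system over a finite p-group S. If every map of F between cyclic subgroups of the hyperfocal subgroup of F of order p or 4 is a map of the normalizer system of S (it extends to a map of F defined on all of S), then S is normal in F. -/
theorem result {Ω : Type u} [Group Ω] {S : Subgroup Ω} [Finite S] (p : ℕ) [Fact p.Prime] (hS : IsPGroup p S)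
    (F : Cfsg.FusionSystem S) (hF : F.IsSaturated p)
    (h : ∀ A B : Subgroup Ω, A ≤ (F.hyperfocalSubgroup p) → B ≤ (F.hyperfocalSubgroup p) → IsCyclic ↥A → (Nat.card ↥A = p ∨ Nat.card ↥A = 4) → IsCyclic ↥B → (Nat.card ↥B = p ∨ Nat.card ↥B = 4) →
      F.homSet A B ⊆ F.normalizerHom S A) :
    F.IsNormal S := by
    have hN : F.StronglyClosed (F.hyperfocalSubgroup p) := Cfsg.Agent.S5124.result p hS F hF
    refine isNormal_S_of_no_essential hS hF fun P hP => not_essential_of_ucs hS hF hN le_rfl ?_ hP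
    intro α hα x hxN hsm i hxi
    have hPS := hP.1.1
    have hxP : Subgroup.zpowers (x : Ω) ≤ P := by rw [Subgroup.zpowers_le]; exact x.2
    have hαN : ((α x : P) : Ω) ∈ F.hyperfocalSubgroup p := (stronglyClosed_aut hN hPS hα x).2 hxN
    by_cases hx1 : (x : Ω) = 1
    · have : x = 1 := Subtype.ext hx1
      rw [this, map_one]; exact one_mem _
    have hord : ∀ y : Ω, y ≠ 1 → SmallOrd p y → (Nat.card (Subgroup.zpowers y) = p ∨ Nat.card (Subgroup.zpowers y) = 4) := by
      intro y hy hsm
      rw [Nat.card_zpowers]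
      unfold SmallOrd at hsm
      split_ifs at hsm with hp2
      · have h1 : orderOf y ∣ 2 ^ 2 := orderOf_dvd_of_pow_eq_one (by simpa using hsm)
        obtain ⟨k, hk, hk'⟩ := (Nat.dvd_prime_pow Nat.prime_two).1 h1
        interval_cases k
        · exact absurd (orderOf_eq_one_iff.1 (by simpa using hk')) hy
        · left; rw [hp2]; simpa using hk'
        · right; simpa using hk'
      · left; exact orderOf_eq_prime hsm hy
    have hα1 : ((α x : P) : Ω) ≠ 1 := by
      intro h0
      have : α x = 1 := Subtype.ext h0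
      rw [← map_one α] at this
      exact hx1 (congrArg Subtype.val (α.injective this))
    have hαsm : SmallOrd p ((α x : P) : Ω) := by
      unfold SmallOrd at hsm ⊢
      split_ifs at hsm ⊢
      · have h0 : x ^ 4 = 1 := Subtype.ext hsm
        have := congrArg Subtype.val ((map_pow α x 4).symm.trans ((congrArg α h0).trans (map_one α)))
        exact this
      · have h0 : x ^ p = 1 := Subtype.ext hsm
        have := congrArg Subtype.val ((map_pow α x p).symm.trans ((congrArg α h0).trans (map_one α)))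
        exact this
    have hφ : (P.subtype.comp (α : P ≃* P).toMonoidHom).comp (Subgroup.inclusion hxP) ∈
        F.homSet (Subgroup.zpowers (x : Ω)) (Subgroup.zpowers ((α x : P) : Ω)) := by
      refine ⟨restrict_mem ((mem_autGroup hPS).1 hα) hxP, ?_⟩
      rintro ⟨y, hy⟩
      obtain ⟨k, rfl⟩ := Subgroup.mem_zpowers_iff.1 hy
      refine Subgroup.mem_zpowers_iff.2 ⟨k, ?_⟩
      have e1 : (Subgroup.inclusion hxP ⟨(x : Ω) ^ k, hy⟩ : P) = x ^ k := Subtype.ext (by simp)
      show _ = ((α (Subgroup.inclusion hxP ⟨(x : Ω) ^ k, hy⟩) : P) : Ω)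
      rw [e1, map_zpow]; simp
    obtain ⟨-, -, -, ψ, hψ, h1, h2⟩ := h _ _ (by rw [Subgroup.zpowers_le]; exact hxN) (by rw [Subgroup.zpowers_le]; exact hαN)
      inferInstance (hord _ hx1 hsm) inferInstance (hord _ hα1 hαsm) hφ
    have hSle : S ≤ Subgroup.zpowers (x : Ω) ⊔ S := le_sup_right
    have hψS : ψ.comp (Subgroup.inclusion hSle) ∈ F.Hom S := restrict_mem hψ hSle
    obtain ⟨κ, hκ⟩ : ∃ κ : MulAut S, ∀ s : S, ((κ s : S) : Ω) = ψ (Subgroup.inclusion hSle s) := by
      have hr : (ψ.comp (Subgroup.inclusion hSle)).range = S := by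
        apply Subgroup.eq_of_le_of_card_ge (range_le hψS)
        exact (conj_card (F := F) ⟨_, hψS, rfl⟩).le
      obtain ⟨e, he, h3⟩ := exists_iso hψS hr
      exact ⟨e, h3⟩
    have hxS : (x : Ω) ∈ S := hPS x.2
    have h4 := ucs_aut (α := κ) (x := ⟨x, hxS⟩) hxi
    rw [hκ] at h4
    have h5 := h1 ⟨x, Subgroup.mem_zpowers _⟩
    have h6 : (Subgroup.inclusion (le_sup_left : Subgroup.zpowers (x : Ω) ≤ Subgroup.zpowers (x : Ω) ⊔ S) ⟨x, Subgroup.mem_zpowers _⟩) =
      Subgroup.inclusion hSle ⟨x, hxS⟩ := rfl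
    rw [h6] at h5
    rw [h5] at h4
    exact h4

end Cfsg.Agent.S5297
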