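import Cfsg.Statements.S5298
import Cfsg.Agent.LibFus21Det
import Cfsg.Agent.S5124

set_option autoImplicit false
universe u
open Cfsg

namespace Cfsg.Agent.S5298

open CfsgLib.Fus21 Cfsg.FusionSystem



/-- Let F be a saturated fusion system over a finite p-group S. If every map of F between cyclic subgroups of the hyperfocal subgroup of F of order p or 4 is conjugation by an element of S, then F is the inner fusion system of S. -/
theorem result {Ω : Type u} [Group Ω] {S : Subgroup Ω} [Finite S] (p : ℕ) [Fact p.Prime] (hS : IsPGroup p S)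
    (F : Cfsg.FusionSystem S) (hF : F.IsSaturated p)
    (h : ∀ A B : Subgroup Ω, A ≤ (F.hyperfocalSubgroup p) → B ≤ (F.hyperfocalSubgroup p) → IsCyclic ↥A → (Nat.card ↥A = p ∨ Nat.card ↥A = 4) → IsCyclic ↥B → (Nat.card ↥B = p ∨ Nat.card ↥B = 4) →
      F.homSet A B ⊆ (Cfsg.innerFusionSystem S).Hom A) :
    ∀ P : Subgroup Ω, F.Hom P = (Cfsg.innerFusionSystem S).Hom P := by
    have hN : F.StronglyClosed (F.hyperfocalSubgroup p) := Cfsg.Agent.S5124.result p hS F hF
    have key : ∀ {P : Subgroup Ω} (hPS : P ≤ S), ∀ α ∈ F.autGroup P, ∀ x : P, (x : Ω) ∈ F.hyperfocalSubgroup p →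
        SmallOrd p (x : Ω) → ∃ s ∈ S, ((α x : P) : Ω) = s * x * s⁻¹ := by
      intro P hPS α hα x hxN hsm
      have hxP : Subgroup.zpowers (x : Ω) ≤ P := by rw [Subgroup.zpowers_le]; exact x.2
      have hαN : ((α x : P) : Ω) ∈ F.hyperfocalSubgroup p := (stronglyClosed_aut hN hPS hα x).2 hxN
      by_cases hx1 : (x : Ω) = 1
      · have : x = 1 := Subtype.ext hx1
        rw [this, map_one]; exact ⟨1, S.one_mem, by simp⟩
      have hord : ∀ y : Ω, y ≠ 1 → SmallOrd p y → (Nat.card (Subgroup.zpowers y) = p ∨ Nat.card (Subgroup.zpowers y) = 4) := by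
        intro y hy hsm
        rw [Nat.card_zpowers]
        unfold SmallOrd at hsm
        split_ifs at hsm with hp2
        · have h1 : orderOf y ∣ 2 ^ 2 := orderOf_dvd_of_pow_eq_one (by simpa using hsm)
          obtain ⟨k, hk, hk'⟩ := (Nat.dvd_prime_pow Nat.prime_two).1 h1
          interval_cases k
          · exact absurd (orderOf_eq_one_iff.1 (by simpa using hk')) hy
          · left; rw [hp2]; simpa using hk'
          · right; simpa using hk'
        · left; exact orderOf_eq_prime hsm hy
      have hα1 : ((α x : P) : Ω) ≠ 1 := by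
        intro h0
        have : α x = 1 := Subtype.ext h0
        rw [← map_one α] at this
        exact hx1 (congrArg Subtype.val (α.injective this))
      have hαsm : SmallOrd p ((α x : P) : Ω) := by
        unfold SmallOrd at hsm ⊢
        split_ifs at hsm ⊢
        · have h0 : x ^ 4 = 1 := Subtype.ext hsm
          have := congrArg Subtype.val ((map_pow α x 4).symm.trans ((congrArg α h0).trans (map_one α)))
          exact this
        · have h0 : x ^ p = 1 := Subtype.ext hsm
          have := congrArg Subtype.val ((map_pow α x p).symm.trans ((congrArg α h0).trans (map_one α)))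
          exact this
      have hφ : (P.subtype.comp (α : P ≃* P).toMonoidHom).comp (Subgroup.inclusion hxP) ∈
          F.homSet (Subgroup.zpowers (x : Ω)) (Subgroup.zpowers ((α x : P) : Ω)) := by
        refine ⟨restrict_mem ((mem_autGroup hPS).1 hα) hxP, ?_⟩
        rintro ⟨y, hy⟩
        obtain ⟨k, rfl⟩ := Subgroup.mem_zpowers_iff.1 hy
        refine Subgroup.mem_zpowers_iff.2 ⟨k, ?_⟩
        have e1 : (Subgroup.inclusion hxP ⟨(x : Ω) ^ k, hy⟩ : P) = x ^ k := Subtype.ext (by simp)
        show _ = ((α (Subgroup.inclusion hxP ⟨(x : Ω) ^ k, hy⟩) : P) : Ω)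
        rw [e1, map_zpow]; simp
      obtain ⟨-, g, hg, h1⟩ := h _ _ (by rw [Subgroup.zpowers_le]; exact hxN) (by rw [Subgroup.zpowers_le]; exact hαN)
        inferInstance (hord _ hx1 hsm) inferInstance (hord _ hα1 hαsm) hφ
      exact ⟨g, hg, h1 ⟨x, Subgroup.mem_zpowers _⟩⟩
    have hno : ∀ P, ¬ F.IsEssential p P := by
      intro P hP
      refine not_essential_of_ucs hS hF hN le_rfl ?_ hP
      intro α hα x hxN hsm i hxi
      obtain ⟨s, hs, he⟩ := key hP.1.1 α hα x hxN hsm
      rw [he]
      exact ucs_conj_mem hs hxi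
    refine inner_of_essential hS hF fun P hP => ?_
    rcases hP with rfl | hP
    · rintro ⟨β, hβ⟩
      haveI := finite_autGroup F (le_refl P)
      obtain ⟨a, m, hm, hβm⟩ := exists_ppow (p := p) (⟨β, hβ⟩ : F.autGroup P)
      refine ⟨a, Subtype.ext ?_⟩
      have hβm' : (β ^ p ^ a) ^ m = 1 := congrArg Subtype.val hβm
      have hγ : β ^ p ^ a ∈ F.autGroup P := Subgroup.pow_mem _ hβ _
      obtain ⟨D, hDK, hDinv, hDsm, hDdet⟩ := detect_sub hS le_rfl hN le_rfl
      have hDP : D ≤ P := hDK.trans inf_le_left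
      obtain ⟨n, hn⟩ := exists_ucs_eq hS (le_refl P)
      show β ^ p ^ a = 1
      apply hDdet _ hγ m hm hβm'
      apply chain_trivial hS le_rfl hDP (ucs_zero P) (ucs_mono P) (n := n) (by rw [hn]; exact hDP) (iff_of_imp hDinv _ hγ) _ hm hβm'
      intro i x hxD hxi
      obtain ⟨s, hs, he⟩ := key le_rfl _ hγ x (hDK hxD).2 (hDsm _ hxD)
      rw [he]
      exact ucs_comm_mem hs hxi
    · exact absurd hP (hno P)

end Cfsg.Agent.S5298
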