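import Cfsg.Statements.S5299
import Cfsg.Agent.LibFus21Sect

set_option autoImplicit false
universe u
open Cfsg

namespace Cfsg.Agent.S5299

open Cfsg Cfsg.FusionSystem CfsgLib.Fus21



/-- Let F be a saturated fusion system over a finite p-group S, H a finite group and Q a p-subgroup of H. If Q is not involved in S (no section of S is isomorphic to Q), then F is H-free: H is involved in no model of the normalizer system of a fully normalized centric subgroup. -/
theorem result {Ω : Type u} [Group Ω] {S : Subgroup Ω} [Finite S] (p : ℕ) [Fact p.Prime] (hS : IsPGroup p S)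
    (F : Cfsg.FusionSystem S) (hF : F.IsSaturated p) (H : Type*) [Group H] [Finite H] (Q : Subgroup H) (hQ : IsPGroup p Q)
    (hfree : ¬ Cfsg.Involves (↥Q) (↥S)) : F.IsSectionFree p H := by
  intro R hRn hRc N hN L _ ι hL hinv
  obtain ⟨hfin, hre, ⟨T, hT⟩, -⟩ := hL
  obtain ⟨f, hf⟩ : ∃ f : T →* S, Function.Injective f := by
    let e := MonoidHom.ofInjective hre.1
    refine ⟨(Subgroup.inclusion (normalizerIn_le S R)).comp (e.symm.toMonoidHom.comp (MulEquiv.subgroupCongr hT).toMonoidHom), ?_⟩
    exact (Subgroup.inclusion_injective (normalizerIn_le S R)).comp (e.symm.injective.comp (MulEquiv.subgroupCongr hT).injective)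
  exact hfree (CfsgLib.Fus21.involves_of_injective f hf (CfsgLib.Fus21.involves_sylow T hQ hinv))

end Cfsg.Agent.S5299
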