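import Cfsg.Statements.S5300
import Cfsg.Agent.LibFus21Det
import Cfsg.Agent.LibPCyc

set_option autoImplicit false
universe u
open Cfsg

namespace Cfsg.Agent.S5300

open CfsgLib.Fus21 Cfsg.FusionSystem



/-- Let F be a saturated fusion system over a finite p-group S. If every cyclic subgroup of the focal subgroup of F of order p (of order 2 or 4 when p = 2) is normal in S, then S is normal in F. -/
theorem result {Ω : Type u} [Group Ω] {S : Subgroup Ω} [Finite S] (p : ℕ) [Fact p.Prime] (hS : IsPGroup p S)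
    (F : Cfsg.FusionSystem S) (hF : F.IsSaturated p)
    (hnorm : ∀ x ∈ F.focalSubgroup, (x ^ p = 1 ∨ (p = 2 ∧ x ^ 4 = 1)) → ∀ s ∈ S, s * x * s⁻¹ ∈ Subgroup.zpowers x) :
    F.IsNormal S := by
    have hp : p.Prime := Fact.out
    have hN : F.StronglyClosed F.focalSubgroup := by
      have hle : F.focalSubgroup ≤ S := by
        unfold FusionSystem.focalSubgroup
        rw [Subgroup.closure_le]
        rintro _ ⟨P, φ, x, hφ, rfl⟩
        exact S.mul_mem (S.inv_mem (le_S hφ x.2)) (mem_S hφ x)
      refine ⟨hle, fun R hR φ hφ x => ?_⟩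
      have h1 : (x : Ω)⁻¹ * φ x ∈ F.focalSubgroup := Subgroup.subset_closure ⟨R, φ, x, hφ, rfl⟩
      have h2 := Subgroup.mul_mem _ (hR x.2) h1
      rwa [mul_inv_cancel_left] at h2
    have hNS : F.focalSubgroup ≤ S := hN.1
    have hA : ∀ x ∈ F.focalSubgroup, x ^ p = 1 → ∀ s ∈ S, s * x = x * s := by
      intro x hx hxp s hs
      by_cases hx1 : x = 1
      · rw [hx1, mul_one, one_mul]
      have hxS := hNS hx
      haveI : (Subgroup.zpowers (⟨x, hxS⟩ : S)).Normal := by
        refine ⟨?_⟩
        rintro n hn g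
        obtain ⟨k, rfl⟩ := Subgroup.mem_zpowers_iff.1 hn
        have h1 := hnorm x hx (Or.inl hxp) g g.2
        obtain ⟨j, hj⟩ := Subgroup.mem_zpowers_iff.1 h1
        refine Subgroup.mem_zpowers_iff.2 ⟨j * k, Subtype.ext ?_⟩
        show x ^ (j * k) = (g : Ω) * ((((⟨x, hxS⟩ : S) ^ k : S)) : Ω) * (g : Ω)⁻¹
        rw [zpow_mul, hj, conj_zpow]; rfl
      have h2 := CfsgLib.PCyc.le_center_of_card_eq hp hS (Subgroup.zpowers (⟨x, hxS⟩ : S)) (by
        rw [Nat.card_zpowers]
        exact orderOf_eq_prime (Subtype.ext hxp) (fun h => hx1 (congrArg Subtype.val h)))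
      have h3 := Subgroup.mem_center_iff.1 (h2 (Subgroup.mem_zpowers _)) ⟨s, hs⟩
      exact congrArg Subtype.val h3
    let C1 : Subgroup Ω :=
      { carrier := {x | x ∈ S ∧ (∀ s ∈ S, s * x = x * s) ∧ x ^ p = 1}
        one_mem' := ⟨S.one_mem, fun s _ => by rw [mul_one, one_mul], one_pow _⟩
        mul_mem' := by
          rintro a b ⟨ha, ha2, ha3⟩ ⟨hb, hb2, hb3⟩
          refine ⟨S.mul_mem ha hb, fun s hs => ?_, ?_⟩
          · rw [← mul_assoc, ha2 s hs, mul_assoc, hb2 s hs, mul_assoc]
          · have : Commute a b := hb2 a ha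
            rw [this.mul_pow, ha3, hb3, mul_one]
        inv_mem' := by
          rintro a ⟨ha, ha2, ha3⟩
          refine ⟨S.inv_mem ha, fun s hs => ?_, by rw [inv_pow, ha3, inv_one]⟩
          have : Commute s a := ha2 s hs
          exact this.inv_right }
    have hC1 : ∀ x, x ∈ C1 ↔ (x ∈ S ∧ (∀ s ∈ S, s * x = x * s) ∧ x ^ p = 1) := fun x => Iff.rfl
    have hC1S : C1 ≤ S := fun x hx => hx.1
    let c : ℕ → Subgroup Ω := fun i => if i = 0 then ⊥ else if i = 1 then C1 else S
    have hc0 : c 0 = ⊥ := rfl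
    have hc1 : c 1 = C1 := rfl
    have hc2 : ∀ i, c (i + 2) = S := fun i => rfl
    have hsmall2 : ∀ x, x ∈ F.focalSubgroup → SmallOrd p x → ∀ s ∈ S, x⁻¹ * (s * x * s⁻¹) ∈ C1 := by
      intro x hx hsm s hs
      by_cases hxp : x ^ p = 1
      · rw [hA x hx hxp s hs, mul_inv_cancel_right, inv_mul_cancel]; exact C1.one_mem
      · unfold SmallOrd at hsm
        split_ifs at hsm with hp2
        · subst hp2
          have h1 := hnorm x hx (Or.inr ⟨rfl, hsm⟩) s hs
          obtain ⟨k, hk⟩ := Subgroup.mem_zpowers_iff.1 h1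
          have hx2 : x ^ 2 ∈ F.focalSubgroup := Subgroup.pow_mem _ hx 2
          have hx22 : (x ^ 2) ^ 2 = 1 := by rw [← pow_mul]; exact hsm
          have hx2c := hA _ hx2 hx22
          -- k odd
          rcases Int.even_or_odd k with hev | hod
          · exfalso
            obtain ⟨j, hj⟩ := hev
            have h2 : (s * x * s⁻¹) ^ 2 = 1 := by
              rw [← hk, hj, ← two_mul, mul_comm, zpow_mul]
              rw [← zpow_natCast, ← zpow_mul, ← zpow_mul]
              have e : j * (2 * ((2 : ℕ) : ℤ)) = 4 * j := by push_cast; ring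
              rw [e, zpow_mul]
              have : x ^ (4 : ℤ) = 1 := by exact_mod_cast hsm
              rw [this, one_zpow]
            apply hxp
            have h3 : (s * x * s⁻¹) ^ 2 = s * x ^ 2 * s⁻¹ := conj_pow
            rw [h3, mul_inv_eq_one] at h2
            have h4 : s * x ^ 2 = s * 1 := by rw [h2, mul_one]
            exact mul_left_cancel h4
          · obtain ⟨j, hj⟩ := hod
            have h2 : x⁻¹ * (s * x * s⁻¹) = (x ^ 2) ^ j := by
              rw [← hk, hj, zpow_add, zpow_one, ← zpow_natCast, ← zpow_mul]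
              rw [← mul_assoc, ← zpow_neg_one, ← zpow_add, ← zpow_add_one]
              congr 1; push_cast; ring
            rw [h2]
            exact C1.zpow_mem ⟨hNS hx2, hx2c, hx22⟩ j
        · exact absurd hsm hxp
    refine isNormal_S_of_no_essential hS hF fun P hP => not_essential_of_layers (c := c) (n := 2) hS hF hN hyp_le_focal hc0 ?_ ?_ ?_ ?_ ?_ hP
    · refine monotone_nat_of_le_succ fun n => ?_
      rcases n with _ | _ | n
      · exact bot_le
      · exact hC1S
      · exact le_rfl
    · intro x hx _; exact hNS hx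
    · intro i g hg x hx
      rcases i with _ | _ | i
      · have : x = 1 := hx
        rw [this, mul_one, mul_inv_cancel]; exact Subgroup.one_mem _
      · have hx' : x ∈ C1 := hx
        rw [hx'.2.1 g hg, mul_inv_cancel_right]; exact hx
      · exact S.mul_mem (S.mul_mem hg hx) (S.inv_mem hg)
    · intro i g hg x hx hsm hxi
      rcases i with _ | _ | i
      · have hx' : x ∈ C1 := hxi
        rw [hx'.2.1 g hg, mul_inv_cancel_right, inv_mul_cancel]; exact Subgroup.one_mem _
      · exact hsmall2 x hx hsm g hg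
      · exact S.mul_mem (S.inv_mem (hNS hx)) (S.mul_mem (S.mul_mem hg (hNS hx)) (S.inv_mem hg))
    · intro α hα x hx hsm i hxi
      have hPS := hP.1.1
      rcases i with _ | _ | i
      · have : x = 1 := Subtype.ext hxi
        rw [this, map_one]; exact Subgroup.one_mem _
      · have hx' : (x : Ω) ∈ C1 := hxi
        have h1 : ((α x : P) : Ω) ∈ F.focalSubgroup := (stronglyClosed_aut hN hPS hα x).2 hx
        have h2 : ((α x : P) : Ω) ^ p = 1 := by
          have h0 : x ^ p = 1 := Subtype.ext hx'.2.2
          have := congrArg Subtype.val ((map_pow α x p).symm.trans ((congrArg α h0).trans (map_one α)))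
          exact this
        exact ⟨hNS h1, hA _ h1 h2, h2⟩
      · exact hPS (α x).2

end Cfsg.Agent.S5300
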