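import Cfsg.Statements.S5311
import Cfsg.Agent.LibFus21Iso5

set_option autoImplicit false
open Cfsg

namespace Cfsg.Agent.S5311

open CfsgLib.Fus21 Cfsg Cfsg.FusionSystem



/-- The layer of a saturated fusion system F over a finite p-group S is characteristic in F: for every automorphism α of S that is an automorphism of F (α and its inverse are morphisms from F to F) and every layer E of F over T, α carries T onto T and, for every map φ of E with source P, the map induced by α on α(P) (that is, α ∘ φ ∘ α⁻¹) is a map of E. -/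
theorem result {Ω : Type*} [Group Ω] {S : Subgroup Ω} [Finite S] (p : ℕ) [Fact p.Prime] (hS : IsPGroup p S) (F : Cfsg.FusionSystem S) (hF : F.IsSaturated p)
    (α : ↥S ≃* ↥S) (hα : F.IsMorphism F (S.subtype.comp α.toMonoidHom))
    (hα' : F.IsMorphism F (S.subtype.comp α.symm.toMonoidHom))
    {T : Subgroup Ω} (E : Cfsg.FusionSystem T) (hE : E.IsLayerOf F p) :
    Cfsg.FusionSystem.imageAlong (S.subtype.comp α.toMonoidHom) T = T ∧
      ∀ (P : Subgroup Ω) (φ : ↥P →* Ω), φ ∈ E.Hom P →
        ∀ φ' : ↥(Cfsg.FusionSystem.imageAlong (S.subtype.comp α.toMonoidHom) P) →* Ω,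
          Cfsg.FusionSystem.InducedAlong (S.subtype.comp α.toMonoidHom) φ φ' →
            φ' ∈ E.Hom (Cfsg.FusionSystem.imageAlong (S.subtype.comp α.toMonoidHom) P) := by
  have hαF : FR α F F := FR_of_morph hα hα'
  obtain ⟨E', hE', hsub⟩ := layer_char hS hαF hE
  have hT : SR α T T := hE'.1
  have key : ∀ P : Subgroup Ω, P ≤ S → SR α P (imageAlong (S.subtype.comp α.toMonoidHom) P) := by
    intro P hP
    refine ⟨hP, ?_, fun x => ?_⟩
    · rintro _ ⟨x, -, rfl⟩
      exact (α _).2
    · constructor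
      · intro hx
        exact ⟨x, hx, rfl⟩
      · rintro ⟨z, hz, hzx⟩
        have h1 : α z = α x := Subtype.ext hzx
        rw [← α.injective h1]
        exact hz
  refine ⟨((key T hT.1).unique hT), fun P φ hφ φ' hind => ?_⟩
  refine hsub _ ((hE'.2 P _ φ φ' (key P ((le_S hφ).trans hT.1)) fun x hx hx' => ?_).1 hφ)
  exact ⟨⟨φ ⟨x, hx⟩, hT.1 (mem_S hφ _)⟩, rfl, induced_apply hind hx x.2 (hT.1 (mem_S hφ _)) hx'⟩

end Cfsg.Agent.S5311
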