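import Cfsg.Statements.S5315
import Cfsg.Agent.LibFus21Gr1

set_option autoImplicit false
open Cfsg

namespace Cfsg.Agent.S5315

open CfsgLib.Fus21 Cfsg.FusionSystem



/-- An analogue of Grün's lemma for fusion systems. Let F be a saturated fusion system over a finite p-group S that is perfect in the sense that its hyperfocal subgroup is all of S (F coincides with its p-residual subsystem). Then the second centre of F equals its centre: every fusion system over S/(Z(F) ∩ S) that is the factor system of F modulo its centre Z(F), read through the quotient map, has trivial centre. -/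
theorem result {Ω : Type*} [Group Ω] {S : Subgroup Ω} [Finite S] (p : ℕ) [Fact p.Prime] (hS : IsPGroup p S) (F : Cfsg.FusionSystem S) (hF : F.IsSaturated p)
    (hperf : F.hyperfocalSubgroup p = S)
    (E : Cfsg.FusionSystem (⊤ : Subgroup (↥S ⧸ (F.center).subgroupOf S)))
    (hE : F.IsFactorSystem F.center (QuotientGroup.mk' ((F.center).subgroupOf S)) E) : E.center = ⊥ := by
    set Z := F.center with hZdef
    have hZ : F.IsCentral Z := isCentral_center F
    have hZS : Z ≤ S := hZ.1
    have hZsc : F.StronglyClosed Z := by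
      refine ⟨hZS, fun R hR φ hφ x => ?_⟩
      have := central_fixed hZ hφ x.2 (hR x.2)
      rw [show φ x = (x : Ω) from this]; exact hR x.2
    have hmor := (factor_surjective hS hF hZsc hE).1
    have hfoc : S ≤ F.focalSubgroup := by
      have h1 := hyp_le_focal (F := F) (p := p)
      rwa [hperf] at h1
    show sSup {Q' | E.IsCentral Q'} = ⊥
    rw [sSup_eq_bot]
    intro Q' hQ'
    have hQ'c : E.IsCentral Q' := hQ'
    set θ := QuotientGroup.mk' (Z.subgroupOf S) with hθ
    have hker : ∀ s : S, θ s = 1 ↔ (s : Ω) ∈ Z := by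
      intro s
      rw [hθ, QuotientGroup.mk'_apply, QuotientGroup.eq_one_iff]
      exact Iff.rfl
    have hc : F.IsCentral (preimageAlong θ Q') := by
      refine grun_core hS hF hfoc hZ ?_ (preimageAlong_le _ _) ?_
      · intro z hz
        rw [mem_preimageAlong]
        refine ⟨hZS hz, ?_⟩
        rw [(hker ⟨z, hZS hz⟩).2 hz]; exact Q'.one_mem
      · intro P φ hφ x hx
        obtain ⟨φ', hφ', hind⟩ := hmor.2 P φ hφ
        obtain ⟨ψ, hψ, h1, h2⟩ := hQ'c.2 _ φ' hφ'
        obtain ⟨hxS, hxQ⟩ := mem_preimageAlong.1 hx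
        have hxi : θ ⟨x, hxS⟩ ∈ imageAlong θ P := mem_imageAlong.2 ⟨x, hxS, x.2, rfl⟩
        have e1 := induced_apply hind x.2 hxS (mem_S hφ _) hxi
        have e2 := h1 ⟨θ ⟨x, hxS⟩, hxi⟩
        have e3 := h2 ⟨θ ⟨x, hxS⟩, hxQ⟩
        have e4 : φ' ⟨θ ⟨x, hxS⟩, hxi⟩ = θ ⟨x, hxS⟩ := by
          rw [← e2]; exact e3
        rw [e1] at e4
        have e5 : θ ((⟨x, hxS⟩ : S)⁻¹ * ⟨φ ⟨x, x.2⟩, mem_S hφ _⟩) = 1 := by
          rw [map_mul, map_inv, e4, inv_mul_cancel]
        exact (hker _).1 e5
    have hle : preimageAlong θ Q' ≤ Z := le_center hc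
    rw [eq_bot_iff]
    intro y hy
    obtain ⟨s, rfl⟩ := QuotientGroup.mk'_surjective _ y
    rw [Subgroup.mem_bot]
    exact (hker s).2 (hle (mem_preimageAlong.2 ⟨s.2, hy⟩))

end Cfsg.Agent.S5315
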