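import Cfsg.Statements.S5342
import Cfsg.Agent.LibFus21Cst

set_option autoImplicit false
open Cfsg

namespace Cfsg.Agent.S5342

/-- Let F be a constrained saturated fusion system over a finite p-group S. Then every subsystem of F that is subnormal in F (reached from F by a finite chain of successive normal subsystems) is constrained. -/
theorem result {Ω : Type*} [Group Ω] {S : Subgroup Ω} [Finite S] (p : ℕ) [Fact p.Prime] (hS : IsPGroup p S) (F : Cfsg.FusionSystem S) (hF : F.IsConstrained p) {T : Subgroup Ω} (E : Cfsg.FusionSystem T) (hE : E.IsSubnormalIn F p) : E.IsConstrained p := by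
    have key : ∀ {T S : Subgroup Ω} (E : Cfsg.FusionSystem T) (F : Cfsg.FusionSystem S) (q : ℕ), E.IsSubnormalIn F q → q.Prime → Finite S → IsPGroup q S → F.IsConstrained q → E.IsConstrained q := by
      intro T S E F q h
      induction h with
      | refl F q => intro _ _ _ h; exact h
      | step h1 h2 ih =>
        intro hq hfin hS hF
        haveI := Fact.mk hq
        haveI := hfin
        have hUS := h2.1.2.2.2.1.1
        exact ih hq (CfsgLib.Fus21.finite_of_le hUS) (hS.to_le hUS) (CfsgLib.Fus21.constrained_sub hS hF h2.1.1 h2.1.2.2.1 h2.1.2.2.2.1)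
    exact key E F p hE Fact.out inferInstance hS hF

end Cfsg.Agent.S5342
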