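import Cfsg.Statements.S5343
import Cfsg.Agent.LibFus21Iso6

set_option autoImplicit false
universe u
open Cfsg

namespace Cfsg.Agent.S5343

open CfsgLib.Fus21 Cfsg Cfsg.FusionSystem



/-- Let F be a simple saturated fusion system over a finite p-group S that is realized by some finite group on a Sylow p-subgroup. Then F is realized by a finite simple group on a Sylow p-subgroup. -/
theorem result {Ω : Type u} [Group Ω] {S : Subgroup Ω} [Finite S] (p : ℕ) [Fact p.Prime] (hS : IsPGroup p S) (F : Cfsg.FusionSystem S) (hsimple : F.IsSimple p) (hreal : F.IsRealizable p) : ∃ (G : Type u) (_ : Group G) (_ : Finite G) (_ : IsSimpleGroup G) (ι : ↥S →* G), F.IsRealizedBy ι ∧ ∃ T : Sylow p G, (T : Subgroup G) = ι.range := by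
  exact simple_realized hS hsimple hreal

end Cfsg.Agent.S5343
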