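import Cfsg.Statements.S5522
import Cfsg.Agent.LibEltF28

set_option autoImplicit false
open Cfsg

namespace Cfsg.Agent.S5522

open CfsgLib.M24 CfsgLib.Golay CfsgLib.Elt28 CfsgLib.EltD28 CfsgLib.EltE28 CfsgLib.EltF28 Cfsg
open scoped Pointwise

/-- The Mathieu group M₁₁, realised as the stabiliser of one point of the dodecad of squares inside the stabiliser M₁₂ of that dodecad in M₂₄, acts on the twelve coordinate positions outside the dodecad of squares (its 3-transitive action of degree 12); in this action every element of prime order fixes a point, i.e. the action is elusive. -/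
theorem result (g : Equiv.Perm Cfsg.GolayPt) (hg : g ∈ Cfsg.Spor.M11) (hord : (orderOf g).Prime) :
    ∃ x : Cfsg.GolayPt, x ∉ Cfsg.Spor.squareDodecad ∧ g x = x := by
  have hD : Spor.squareDodecad ∈ dodecads := by
    have h1 : Spor.squareDodecad = CfsgLib.Golay.fset (CfsgLib.Golay.cw 1) := by
      apply Finset.ext; decide +kernel
    rw [h1]
    exact CfsgLib.OrbG28.rootdodecads_mem (by decide +kernel)
  have m11 : g ∈ M24 ∧ g • Spor.squareDodecad = Spor.squareDodecad ∧ g (some 0) = some 0 := by
    have := hg
    rw [Spor.M11, Subgroup.mem_inf, Spor.M12, Subgroup.mem_inf] at this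
    exact ⟨this.1.1, this.1.2, this.2⟩
  obtain ⟨hgM, hgD, hg0⟩ := m11
  by_contra hcon
  push Not at hcon
  have hp : g ^ orderOf g = 1 := pow_orderOf_eq_one g
  have hg1 : g ≠ 1 := by
    rintro rfl
    rw [orderOf_one] at hord
    exact absurd hord (by norm_num)
  have hsub : (Spor.squareDodecad.filter fun p => g p = p) = fixPts g := by
    ext p
    rw [Finset.mem_filter, mem_fixPts]
    constructor
    · exact fun h => h.2
    · intro h
      refine ⟨?_, h⟩
      by_contra hpD
      exact hcon p hpD h
  have h4 : (fixPts g).card < 5 := by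
    by_contra hc
    exact hg1 (dodecad_five hgM hD hgD (by rw [hsub]; omega))
  have hpos : 0 < (fixPts g).card := Finset.card_pos.2 ⟨_, mem_fixPts.2 hg0⟩
  have hmod := card_fix_on hord hp hgD
  rw [hsub, hD.2] at hmod
  have hmod2 := card_fix_modp hord hp
  -- complement
  have hdvd : orderOf g ∣ 12 := by
    have h5 : g • (Spor.squareDodecad)ᶜ = (Spor.squareDodecad)ᶜ := by
      ext p
      rw [← Finset.inv_smul_mem_iff, Finset.mem_compl, Finset.mem_compl, Finset.inv_smul_mem_iff, hgD]
    have h6 := card_fix_on hord hp h5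
    have h7 : ((Spor.squareDodecad)ᶜ.filter fun p => g p = p) = ∅ := by
      rw [Finset.filter_eq_empty_iff]
      intro p hpD
      exact hcon p (Finset.mem_compl.1 hpD)
    rw [h7, Finset.card_compl, card_pt, hD.2, Finset.card_empty] at h6
    rw [Nat.zero_mod] at h6
    exact Nat.dvd_of_mod_eq_zero h6.symm
  have hcases : orderOf g = 2 ∨ orderOf g = 3 := by
    have h8 : orderOf g ∣ 2 ^ 2 * 3 := by norm_num; exact hdvd
    rcases (Nat.Prime.dvd_mul hord).1 h8 with h | h
    · left
      exact (Nat.prime_dvd_prime_iff_eq hord Nat.prime_two).1 (hord.dvd_of_dvd_pow h)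
    · right
      exact (Nat.prime_dvd_prime_iff_eq hord Nat.prime_three).1 h
  rcases hcases with h | h
  · rw [h, pow_two] at hp
    rcases inv_dich hgM hp hg1 with h9 | h9 <;> omega
  · rw [h, pow_succ, pow_two] at hp
    rcases three_dich hgM hp hg1 with h9 | h9 <;> omega

end Cfsg.Agent.S5522
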