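import Cfsg.Statements.S5726
import Mathlib


set_option autoImplicit false
open Cfsg

namespace Cfsg.Agent.S5726

theorem sylow_transitive {G Ω : Type*} [Group G] [Finite G] [MulAction G Ω] [Finite Ω]
    (htr : MulAction.IsPretransitive G Ω) (p k : ℕ) [hp : Fact p.Prime] 
    (hΩ : Nat.card Ω = p ^ k) (P : Sylow p G) (ω : Ω) : MulAction.orbit P ω = Set.univ := by
  classical
  have hidx : (MulAction.stabilizer G ω).index = p ^ k := by
    rw [MulAction.index_stabilizer_of_transitive G ω, hΩ]
  have h1 : Nat.card (MulAction.orbit P ω) * Nat.card (MulAction.stabilizer P ω) = Nat.card P := by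
    rw [Nat.card_congr (MulAction.orbitEquivQuotientStabilizer P ω)]
    exact Subgroup.index_mul_card (MulAction.stabilizer P ω)
  -- the stabilizer in P embeds in the stabilizer in G
  have hcardG : (MulAction.stabilizer G ω).index * Nat.card (MulAction.stabilizer G ω) = Nat.card G := by
    rw [mul_comm]; exact Subgroup.card_mul_index _
  have hdvd : Nat.card (MulAction.stabilizer P ω) ∣ Nat.card (MulAction.stabilizer G ω) := by
    let f : MulAction.stabilizer P ω →* MulAction.stabilizer G ω :=
      { toFun := fun x => ⟨((x : P) : G), x.2⟩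
        map_one' := rfl
        map_mul' := fun _ _ => rfl }
    have hf : Function.Injective f := by
      intro x y hxy
      have := congrArg (fun z : MulAction.stabilizer G ω => (z : G)) hxy
      exact Subtype.ext (Subtype.ext this)
    exact Subgroup.card_dvd_of_injective f hf
  obtain ⟨a, ha⟩ : ∃ a, Nat.card (MulAction.stabilizer P ω) = p ^ a := by
    have hP : IsPGroup p (MulAction.stabilizer P ω) := P.2.to_subgroup _
    exact (IsPGroup.iff_card.mp hP)
  have hPc : Nat.card P = p ^ (Nat.card G).factorization p := Sylow.card_eq_multiplicity P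
  have hle : k + a ≤ (Nat.card G).factorization p := by
    have : p ^ (k + a) ∣ Nat.card G := by
      rw [pow_add, ← hcardG, hidx, ← ha]
      exact Nat.mul_dvd_mul_left _ hdvd
    exact (hp.out.pow_dvd_iff_le_factorization Nat.card_pos.ne').mp this
  have h2 : p ^ k ≤ Nat.card (MulAction.orbit P ω) := by
    rw [ha, hPc] at h1
    have h3 : p ^ k * p ^ a ≤ Nat.card (MulAction.orbit P ω) * p ^ a := by
      rw [h1, ← pow_add]
      exact Nat.pow_le_pow_right hp.out.pos hle
    exact Nat.le_of_mul_le_mul_right h3 (pow_pos hp.out.pos _)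
  rw [← hΩ] at h2
  apply Set.eq_univ_of_forall
  intro x
  by_contra hx
  have : (MulAction.orbit P ω).ncard < Nat.card Ω := Set.ncard_lt_card (by
    intro h; rw [h] at hx; exact hx trivial)
  have h4 : (MulAction.orbit P ω).ncard = Nat.card (MulAction.orbit P ω) := rfl
  omega

/-- If a finite group acts faithfully and transitively on a set with p^k elements, p a prime and k ≥ 1, then some element of order p fixes no point. -/
theorem result {G Ω : Type*} [Group G] [Finite G] [MulAction G Ω] [FaithfulSMul G Ω] [Fintype Ω] (htr : MulAction.IsPretransitive G Ω)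
    (p k : ℕ) (hp : p.Prime) (hk : 1 ≤ k) (hΩ : Fintype.card Ω = p ^ k) :
    ∃ g : G, orderOf g = p ∧ ∀ ω : Ω, g • ω ≠ ω := by
  classical
  haveI : Fact p.Prime := ⟨hp⟩
  have hΩ' : Nat.card Ω = p ^ k := by rw [Nat.card_eq_fintype_card, hΩ]
  haveI hne : Nonempty Ω := by
    have : 0 < Nat.card Ω := by rw [hΩ']; exact pow_pos hp.pos _
    exact (Nat.card_pos_iff.mp this).1
  obtain ⟨ω0⟩ := hne
  obtain ⟨P⟩ : Nonempty (Sylow p G) := inferInstance
  have htrP := sylow_transitive htr p k hΩ' P ω0
  have hnt : Nontrivial P := by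
    by_contra hn
    rw [not_nontrivial_iff_subsingleton] at hn
    have h1 : (MulAction.orbit P ω0) = {ω0} := by
      ext x
      constructor
      · rintro ⟨g, rfl⟩
        have : g = 1 := Subsingleton.elim _ _
        simp [this]
      · rintro rfl
        exact MulAction.mem_orbit_self _
    rw [h1] at htrP
    have h2 : Nat.card Ω = 1 := by
      rw [← Set.ncard_univ, ← htrP, Set.ncard_singleton]
    rw [hΩ'] at h2
    have := Nat.one_lt_pow (by omega : k ≠ 0) hp.one_lt
    omega
  haveI := hnt
  have hZ : Nontrivial (Subgroup.center P) := P.2.center_nontrivial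
  have hpZ : IsPGroup p (Subgroup.center P) := P.2.to_subgroup _
  have hdvd : p ∣ Nat.card (Subgroup.center P) := by
    obtain ⟨n, hn, hc⟩ := hpZ.nontrivial_iff_card.mp hZ
    rw [hc]; exact dvd_pow_self p (by omega)
  obtain ⟨z, hz⟩ := exists_prime_orderOf_dvd_card' p hdvd
  refine ⟨((z : P) : G), ?_, ?_⟩
  · rw [Subgroup.orderOf_coe, Subgroup.orderOf_coe, hz]
  · intro ω hω
    have hall : ∀ x : Ω, ((z : P) : G) • x = x := by
      intro x
      have h1 := sylow_transitive htr p k hΩ' P ω
      have hx : x ∈ MulAction.orbit P ω := by rw [h1]; trivial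
      obtain ⟨g, rfl⟩ := hx
      have hc : (g : P) * (z : P) = (z : P) * g := (Subgroup.mem_center_iff.mp z.2 g)
      change ((z : P) : G) • ((g : G) • ω) = (g : G) • ω
      rw [← mul_smul]
      have : ((z : P) : G) * (g : G) = (g : G) * ((z : P) : G) := by
        have := congrArg (fun t : P => (t : G)) hc
        exact this.symm
      rw [this, mul_smul, hω]
    have h1 : ((z : P) : G) = 1 := by
      apply FaithfulSMul.eq_of_smul_eq_smul (α := Ω)
      intro x; rw [hall x, one_smul]
    have h2 : z = 1 := by
      apply Subtype.ext; apply Subtype.ext; exact h1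
    rw [h2, orderOf_one] at hz
    exact hp.one_lt.ne hz

end Cfsg.Agent.S5726
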