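import Cfsg.Statements.S5727
import Mathlib
import Cfsg.Agent.S5726

set_option autoImplicit false
open Cfsg

namespace Cfsg.Agent.S5727

theorem orbit_ge {G Ω : Type*} [Group G] [Finite G] [MulAction G Ω] [Finite Ω]
    (htr : MulAction.IsPretransitive G Ω) (p m : ℕ) [hp : Fact p.Prime] (hm : 1 ≤ m)
    (hΩ : Nat.card Ω = m * p) (P : Sylow p G) (ω : Ω) : p ∣ (MulAction.stabilizer P ω).index := by
  classical
  have hidx : (MulAction.stabilizer G ω).index = m * p := by
    rw [MulAction.index_stabilizer_of_transitive G ω, hΩ]
  have hcardG : (MulAction.stabilizer G ω).index * Nat.card (MulAction.stabilizer G ω) = Nat.card G := by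
    rw [mul_comm]; exact Subgroup.card_mul_index _
  have hdvd : Nat.card (MulAction.stabilizer P ω) ∣ Nat.card (MulAction.stabilizer G ω) := by
    let f : MulAction.stabilizer P ω →* MulAction.stabilizer G ω :=
      { toFun := fun x => ⟨((x : P) : G), x.2⟩
        map_one' := rfl
        map_mul' := fun _ _ => rfl }
    have hf : Function.Injective f := by
      intro x y hxy
      have := congrArg (fun z : MulAction.stabilizer G ω => (z : G)) hxy
      exact Subtype.ext (Subtype.ext this)
    exact Subgroup.card_dvd_of_injective f hf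
  by_contra hn
  -- index of stabilizer in P is a power of p not divisible by p, so is 1
  obtain ⟨b, hb⟩ : ∃ b, (MulAction.stabilizer P ω).index = p ^ b := P.2.index _
  have hb0 : b = 0 := by
    by_contra hb0
    exact hn (hb ▸ dvd_pow_self p hb0)
  have h1 : (MulAction.stabilizer P ω).index = 1 := by rw [hb, hb0, pow_zero]
  have h2 : Nat.card (MulAction.stabilizer P ω) = Nat.card P := by
    rw [← Subgroup.card_mul_index (MulAction.stabilizer P ω), h1, mul_one]
  have hPc : Nat.card P = p ^ (Nat.card G).factorization p := Sylow.card_eq_multiplicity P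
  have h3 : p ^ ((Nat.card G).factorization p + 1) ∣ Nat.card G := by
    rw [pow_succ, mul_comm]
    rw [h2, hPc] at hdvd
    calc p * p ^ (Nat.card G).factorization p ∣ (m * p) * Nat.card (MulAction.stabilizer G ω) :=
          mul_dvd_mul (dvd_mul_left _ _) hdvd
      _ = Nat.card G := by rw [← hcardG, hidx]
  have := (hp.out.pow_dvd_iff_le_factorization (Nat.card_pos (α := G)).ne').mp h3
  omega

/-- If a finite group acts faithfully and transitively on a set with m·p elements, where p is a prime and 1 ≤ m ≤ p, then some element of order p fixes no point. -/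
theorem result {G Ω : Type*} [Group G] [Finite G] [MulAction G Ω] [FaithfulSMul G Ω] [Fintype Ω] (htr : MulAction.IsPretransitive G Ω)
    (p m : ℕ) (hp : p.Prime) (hm : 1 ≤ m) (hmp : m ≤ p) (hΩ : Fintype.card Ω = m * p) :
    ∃ g : G, orderOf g = p ∧ ∀ ω : Ω, g • ω ≠ ω := by
  classical
  have hfp : Fact p.Prime := ⟨hp⟩
  rcases hmp.lt_or_eq with hlt | heq
  swap
  · subst heq
    exact Cfsg.Agent.S5726.result htr m 2 hp (by norm_num) (by rw [hΩ, sq])
  have hΩ' : Nat.card Ω = m * p := by rw [Nat.card_eq_fintype_card, hΩ]
  obtain ⟨P⟩ : Nonempty (Sylow p G) := inferInstance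
  have hdv := orbit_ge htr p m hm hΩ' P
  -- index exactly p
  have hidx : ∀ ω : Ω, (MulAction.stabilizer P ω).index = p := by
    intro ω
    obtain ⟨b, hb⟩ : ∃ b, (MulAction.stabilizer P ω).index = p ^ b := P.2.index _
    have h1 : (MulAction.stabilizer P ω).index ≤ Nat.card Ω := by
      rw [Subgroup.index, ← Nat.card_congr (MulAction.orbitEquivQuotientStabilizer P ω)]
      exact Nat.card_le_card_of_injective (Subtype.val) Subtype.val_injective
    have hb1 : b ≠ 0 := by
      rintro rfl
      have := hdv ω
      rw [hb, pow_zero] at this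
      exact hp.one_lt.ne' (Nat.dvd_one.mp this)
    have hb2 : b < 2 := by
      by_contra hb2
      have h2 : p ^ 2 ≤ p ^ b := Nat.pow_le_pow_right hp.pos (by omega)
      rw [← hb] at h2
      have h3 : m * p < p ^ 2 := by rw [sq]; exact Nat.mul_lt_mul_of_pos_right hlt hp.pos
      omega
    have : b = 1 := by omega
    rw [hb, this, pow_one]
  have hnorm : ∀ ω : Ω, (MulAction.stabilizer P ω).Normal := by
    intro ω
    apply Subgroup.normal_of_index_eq_minFac_card
    rw [hidx ω]
    have hc : ∃ n, Nat.card P = p ^ n := IsPGroup.iff_card.mp P.2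
    obtain ⟨n, hn⟩ := hc
    have hn0 : n ≠ 0 := by
      rintro rfl
      have h5 : (MulAction.stabilizer P ω).index ∣ Nat.card P := Subgroup.index_dvd_card _
      rw [hidx ω, hn, pow_zero] at h5
      exact hp.one_lt.ne' (Nat.dvd_one.mp h5)
    rw [hn, hp.pow_minFac hn0]
  -- double counting
  have hex : ∃ g : P, ∀ ω : Ω, g • ω ≠ ω := by
    by_contra hcon
    push Not at hcon
    haveI : Fintype P := Fintype.ofFinite P
    have hcount : ∑ g : P, (Finset.univ.filter (fun ω : Ω => g • ω = ω)).card
        = ∑ ω : Ω, (Finset.univ.filter (fun g : P => g • ω = ω)).card := by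
      simp only [Finset.card_filter]
      exact Finset.sum_comm
    have hst : ∀ ω : Ω, p * (Finset.univ.filter (fun g : P => g • ω = ω)).card = Fintype.card P := by
      intro ω
      have h1 : (Finset.univ.filter (fun g : P => g • ω = ω)).card = Nat.card (MulAction.stabilizer P ω) := by
        rw [Nat.card_eq_fintype_card, Fintype.card_subtype]
        rfl
      have h2 := Subgroup.card_mul_index (MulAction.stabilizer P ω)
      rw [hidx ω] at h2
      rw [h1, ← Nat.card_eq_fintype_card, mul_comm]
      exact h2
    have hge : ∀ g : P, p ≤ (Finset.univ.filter (fun ω : Ω => g • ω = ω)).card := by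
      intro g
      obtain ⟨ω, hω⟩ := hcon g
      have hsub : (MulAction.orbit P ω) ⊆ {x : Ω | g • x = x} := by
        rintro x ⟨h, rfl⟩
        have h1 : g ∈ MulAction.stabilizer P ω := hω
        have h2 : h⁻¹ * g * h ∈ MulAction.stabilizer P ω := by
          have := (hnorm ω).conj_mem g h1 h⁻¹
          simpa using this
        have h3 : (h⁻¹ * g * h) • ω = ω := h2
        change g • (h • ω) = h • ω
        rw [mul_smul, mul_smul] at h3
        rw [inv_smul_eq_iff] at h3
        exact h3
      have h1 : (MulAction.orbit P ω).ncard = p := by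
        refine Eq.trans ?_ (hidx ω)
        rw [Subgroup.index, ← Nat.card_congr (MulAction.orbitEquivQuotientStabilizer P ω)]
        rfl
      refine (le_of_eq h1.symm).trans ?_
      have h2 : (MulAction.orbit P ω).ncard ≤ ({x : Ω | g • x = x}).ncard :=
        Set.ncard_le_ncard hsub (Set.toFinite _)
      refine h2.trans (le_of_eq ?_)
      rw [Set.ncard_eq_toFinset_card']
      congr 1
      ext x; simp
    have hone : (Finset.univ.filter (fun ω : Ω => (1 : P) • ω = ω)).card = m * p := by
      rw [← hΩ]; simp
    have h1 : ∑ g : P, (Finset.univ.filter (fun ω : Ω => g • ω = ω)).card = m * Fintype.card P := by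
      have h2 : p * ∑ ω : Ω, (Finset.univ.filter (fun g : P => g • ω = ω)).card = p * (m * Fintype.card P) := by
        rw [Finset.mul_sum, Finset.sum_congr rfl (fun ω _ => hst ω), Finset.sum_const, Finset.card_univ, hΩ, smul_eq_mul]
        ring
      rw [hcount]
      exact Nat.eq_of_mul_eq_mul_left hp.pos h2
    have h2 : Fintype.card P * p ≤ ∑ g : P, (Finset.univ.filter (fun ω : Ω => g • ω = ω)).card := by
      have := Finset.card_nsmul_le_sum (Finset.univ : Finset P) (fun g => (Finset.univ.filter (fun ω : Ω => g • ω = ω)).card) p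
        (fun g _ => hge g)
      simpa [Finset.card_univ] using this
    rw [h1] at h2
    have h3 : 0 < Fintype.card P := Fintype.card_pos
    nlinarith
  obtain ⟨g, hg⟩ := hex
  refine ⟨(g : G), ?_, fun ω => hg ω⟩
  rw [Subgroup.orderOf_coe]
  have hgp : g ^ p = 1 := by
    apply Subtype.ext
    apply FaithfulSMul.eq_of_smul_eq_smul (α := Ω)
    intro ω
    have h1 : g ^ p ∈ MulAction.stabilizer P ω := by
      haveI := hnorm ω
      have := Subgroup.pow_index_mem (MulAction.stabilizer P ω) g
      rwa [hidx ω] at this
    have h2 : (g ^ p) • ω = ω := h1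
    rw [OneMemClass.coe_one, one_smul]
    exact h2
  have hg1 : g ≠ 1 := by
    rintro rfl
    have : Nonempty Ω := by
      have : 0 < Fintype.card Ω := by rw [hΩ]; exact Nat.mul_pos hm hp.pos
      exact Fintype.card_pos_iff.mp this
    obtain ⟨ω⟩ := this
    exact hg ω (one_smul _ _)
  exact orderOf_eq_prime hgp hg1

end Cfsg.Agent.S5727
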