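import Cfsg.Statements.S5728
import Mathlib


set_option autoImplicit false
open Cfsg

namespace Cfsg.Agent.S5728



/-- An elusive transitive action. Let p = 2^s − 1 be a prime and let F be the field with p² elements. Inside the group of affine maps x ↦ a·x + b of F (a ≠ 0), consider the subgroup of maps with both coefficients in the prime field. Then every element of prime order of the affine group is conjugate, within the affine group, to an element of that subgroup; equivalently, in the transitive action of the affine group on the cosets of that subgroup (of degree p(p + 1)) every element of prime order fixes a point. -/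
theorem result (p s : ℕ) [Fact p.Prime] (hs : p = 2 ^ s - 1)
    (g : Equiv.Perm (GaloisField p 2)) (hg : g ∈ Cfsg.affineGroup (GaloisField p 2)) (hord : (orderOf g).Prime) :
    ∃ x ∈ Cfsg.affineGroup (GaloisField p 2), ∃ a b : ZMod p, a ≠ 0 ∧
      ∀ y : GaloisField p 2, (x * g * x⁻¹) y = algebraMap (ZMod p) (GaloisField p 2) a * y + algebraMap (ZMod p) (GaloisField p 2) b := by
  classical
  obtain ⟨a, b, hgab⟩ := hg
  have hp : p.Prime := Fact.out
  have hcard : Nat.card (GaloisField p 2) = p ^ 2 := GaloisField.card p 2 (by norm_num)
  haveI : Fintype (GaloisField p 2) := Fintype.ofFinite _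
  have hcard' : Fintype.card (GaloisField p 2) = p ^ 2 := by rw [← Nat.card_eq_fintype_card, hcard]
  -- elements with x^(p-1) = 1 are in prime field
  have hpf : ∀ x : GaloisField p 2, x ^ (p - 1) = 1 → ∃ c : ZMod p, c ≠ 0 ∧ x = algebraMap (ZMod p) (GaloisField p 2) c := by
    intro x hx
    have hx0 : x ≠ 0 := by
      rintro rfl
      rw [zero_pow (by have := hp.two_le; omega)] at hx
      exact zero_ne_one hx
    have hxp : x ^ p = x := by
      have h1 : (p - 1) + 1 = p := by have := hp.two_le; omega
      have h2 : x ^ ((p - 1) + 1) = x := by rw [pow_succ, hx, one_mul]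
      exact (congrArg (fun k => x ^ k) h1).symm.trans h2
    have h1 : x ∈ (⊥ : Subalgebra (ZMod p) (GaloisField p 2)) := by
      have h2 : x ^ Fintype.card (ZMod p) = x := by rw [ZMod.card]; exact hxp
      by_contra hcon
      -- count roots of X^p - X
      have h3 : ∀ c : ZMod p, (algebraMap (ZMod p) (GaloisField p 2) c) ^ p = algebraMap (ZMod p) (GaloisField p 2) c := by
        intro c
        rw [← map_pow, ZMod.pow_card]
      let S : Finset (GaloisField p 2) := insert x (Finset.univ.image (algebraMap (ZMod p) (GaloisField p 2)))
      have hS : ∀ y ∈ S, y ∈ (Polynomial.X ^ p - Polynomial.X : Polynomial (GaloisField p 2)).roots.toFinset := by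
        intro y hy
        rw [Multiset.mem_toFinset, Polynomial.mem_roots (FiniteField.X_pow_card_sub_X_ne_zero _ hp.one_lt)]
        rw [Polynomial.IsRoot.def]
        simp only [Polynomial.eval_sub, Polynomial.eval_pow, Polynomial.eval_X]
        rcases Finset.mem_insert.mp hy with rfl | hy
        · rw [hxp, sub_self]
        · obtain ⟨c, _, rfl⟩ := Finset.mem_image.mp hy
          rw [h3, sub_self]
      have h4 : S.card ≤ p := by
        refine (Finset.card_le_card (fun y hy => hS y hy)).trans ?_
        refine (Multiset.toFinset_card_le _).trans ?_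
        refine (Polynomial.card_roots' _).trans ?_
        rw [FiniteField.X_pow_card_sub_X_natDegree_eq _ hp.one_lt]
      have h5 : S.card = p + 1 := by
        rw [Finset.card_insert_of_notMem, Finset.card_image_of_injective _ (algebraMap (ZMod p) (GaloisField p 2)).injective, Finset.card_univ, ZMod.card]
        intro hmem
        obtain ⟨c, _, hc⟩ := Finset.mem_image.mp hmem
        exact hcon (hc ▸ Subalgebra.algebraMap_mem _ c)
      omega
    obtain ⟨c, hc⟩ := Algebra.mem_bot.mp h1
    refine ⟨c, ?_, hc.symm⟩
    rintro rfl
    rw [map_zero] at hc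
    exact hx0 hc.symm
  by_cases ha : (a : GaloisField p 2) = 1
  · -- translation
    have hb : b ≠ 0 := by
      rintro rfl
      have : g = 1 := by
        ext x
        rw [hgab, ha, one_mul, add_zero]; rfl
      rw [this, orderOf_one] at hord
      exact Nat.not_prime_one hord
    let x : Equiv.Perm (GaloisField p 2) := Equiv.mulLeft₀ b⁻¹ (inv_ne_zero hb)
    refine ⟨x, ⟨Units.mk0 b⁻¹ (inv_ne_zero hb), 0, fun y => by simp [x]⟩, 1, 1, one_ne_zero, fun y => ?_⟩
    have hxinv : x⁻¹ y = b * y := by
      rw [Equiv.Perm.inv_eq_iff_eq]
      change y = b⁻¹ * (b * y)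
      rw [inv_mul_cancel_left₀ hb]
    rw [Equiv.Perm.mul_apply, Equiv.Perm.mul_apply, hxinv, hgab, ha]
    change b⁻¹ * (1 * (b * y) + b) = _
    rw [map_one]
    field_simp
  · -- fixed point
    have h1a : (1 : GaloisField p 2) - a ≠ 0 := fun h => ha (sub_eq_zero.mp h).symm
    set c : GaloisField p 2 := b / (1 - a) with hc
    have hgc : ∀ y, g (y + c) = a * y + c := by
      intro y
      rw [hgab, hc]
      field_simp
      ring
    have hpow : ∀ (k : ℕ) y, (g ^ k) (y + c) = (a : GaloisField p 2) ^ k * y + c := by
      intro k
      induction k with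
      | zero => intro y; simp
      | succ k ih =>
        intro y
        rw [pow_succ', Equiv.Perm.mul_apply, ih, hgc, pow_succ']
        ring
    have har : (a : GaloisField p 2) ^ (orderOf g) = 1 := by
      have := hpow (orderOf g) 1
      rw [pow_orderOf_eq_one] at this
      simp only [Equiv.Perm.coe_one, id_eq, mul_one] at this
      exact (add_right_cancel this).symm
    haveI : Fact (orderOf g).Prime := ⟨hord⟩
    have hda : orderOf (a : GaloisField p 2) = orderOf g := orderOf_eq_prime har ha
    have h2 : (a : GaloisField p 2) ^ (p ^ 2 - 1) = 1 := by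
      rw [← hcard']
      exact FiniteField.pow_card_sub_one_eq_one _ a.ne_zero
    have h3 : orderOf g ∣ p ^ 2 - 1 := hda ▸ orderOf_dvd_of_pow_eq_one h2
    have h4 : p ^ 2 - 1 = (p - 1) * 2 ^ s := by
      have h5 : 2 ^ s = p + 1 := by
        have := hp.two_le
        omega
      rw [h5]
      obtain ⟨k, rfl⟩ : ∃ k, p = k + 1 := ⟨p - 1, by have := hp.two_le; omega⟩
      simp only [Nat.add_sub_cancel]
      have : (k + 1) ^ 2 = k * (k + 1 + 1) + 1 := by ring
      omega
    have h5 : (a : GaloisField p 2) ^ (p - 1) = 1 := by
      rw [h4] at h3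
      rcases (Nat.Prime.dvd_mul hord).mp h3 with h6 | h6
      · rw [← orderOf_dvd_iff_pow_eq_one, hda]; exact h6
      · have h7 : orderOf g ∣ 2 := hord.dvd_of_dvd_pow h6
        have h8 : orderOf g ∣ p - 1 := by
          refine h7.trans ?_
          have h9 : p ≠ 2 := by
            intro h9
            have : 2 ^ s = 3 := by omega
            rcases s with _ | _ | s
            · omega
            · omega
            · rw [pow_succ, pow_succ] at this; omega
          have := hp.eq_one_or_self_of_dvd 2
          have h10 : ¬ 2 ∣ p := fun h => by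
            rcases this h with h | h
            · omega
            · exact h9 h.symm
          omega
        rw [← orderOf_dvd_iff_pow_eq_one, hda]; exact h8
    obtain ⟨α, hα, hαa⟩ := hpf _ h5
    let x : Equiv.Perm (GaloisField p 2) := Equiv.addRight (-c)
    refine ⟨x, ⟨1, -c, fun y => by simp [x]⟩, α, 0, hα, fun y => ?_⟩
    have hxinv : x⁻¹ y = y + c := by
      rw [Equiv.Perm.inv_eq_iff_eq]
      change y = y + c + -c
      ring
    rw [Equiv.Perm.mul_apply, Equiv.Perm.mul_apply, hxinv, hgc, map_zero, add_zero, ← hαa]
    change _ + -c = _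
    ring

end Cfsg.Agent.S5728
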