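import Cfsg.Statements.S5748
import Cfsg.Agent.LibTZ6

set_option autoImplicit false
set_option linter.all false
open Cfsg

namespace Cfsg.Agent.S5748

/-- A finite non-abelian simple group in which commuting is a transitive relation on the non-identity elements (equivalently, every non-identity element has abelian centraliser) is isomorphic to PSL₂ over a field with 2^f elements for some f ≥ 2; conversely these groups have that property. -/
theorem result {G : Type*} [Group G] [Finite G] [IsSimpleGroup G] (hG : ¬ IsMulCommutative G) :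
    (∀ a b c : G, a ≠ 1 → b ≠ 1 → c ≠ 1 → Commute a b → Commute b c → Commute a c) ↔
    ∃ (F : Type) (_ : Field F) (_ : Fintype F) (f : ℕ), 2 ≤ f ∧ Fintype.card F = 2 ^ f ∧ Nonempty (G ≃* Matrix.ProjectiveSpecialLinearGroup (Fin 2) F) := by
  constructor
  · intro hct
    obtain ⟨F, iF, iFF, n, hn, hF, hiso⟩ := CfsgLib.TZ.ct_simple (G := G) (fun h => hG ⟨⟨h⟩⟩) (by
      intro a b c hb hab hbc
      by_cases ha : a = 1
      · rw [ha, one_mul, mul_one]
      by_cases hc : c = 1
      · rw [hc, one_mul, mul_one]
      exact hct a b c ha hb hc hab hbc)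
    exact ⟨F, iF, iFF, n, hn, hF, hiso⟩
  · rintro ⟨F, iF, iFF, f, hf, hF, ⟨e⟩⟩ a b c ha hb hc hab hbc
    haveI : CharP F 2 := by
      obtain ⟨p, hp⟩ := CharP.exists F
      haveI := hp
      obtain ⟨n, hp', hn⟩ := FiniteField.card F p
      rw [hF] at hn
      have h2 : p = 2 := by
        have h3 : p ∣ 2 ^ f := by rw [hn]; exact dvd_pow_self p n.ne_zero
        exact (Nat.prime_dvd_prime_iff_eq hp' Nat.prime_two).mp (hp'.dvd_of_dvd_pow h3)
      exact h2 ▸ hp
    have h1 : e a * e b = e b * e a := by rw [← map_mul, ← map_mul, hab]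
    have h2 : e c * e b = e b * e c := by rw [← map_mul, ← map_mul, hbc]
    have hb' : e b ≠ 1 := fun h => hb (e.map_eq_one_iff.mp h)
    have h3 := CfsgLib.TZ.psl_ct hb' h1 h2
    rw [← map_mul, ← map_mul] at h3
    exact e.injective h3

end Cfsg.Agent.S5748
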