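import Cfsg.Agent.EqBase
import Cfsg.Agent.LibOmE15

set_option autoImplicit false
open Cfsg

namespace Cfsg.Agent.S5850

open Module Cfsg.Geo CfsgLib.OmE CfsgLib.AschF CfsgLib.OmH12


/-- Every maximal subgroup of Ω_10^-(q) is of one of the listed geometric types or lies in the residual class. Let F be a finite field with q elements (characteristic p), Q a non-degenerate quadratic form on F^10 of minus type (Witt index 4: no totally singular 5-space), Ω the commutator subgroup of its isometry group, and H a maximal subgroup of Ω (inside GL_10(F)). Then H is the intersection with Ω of one of: the stabiliser of a non-zero totally singular subspace; for q odd, the stabiliser of a non-degenerate subspace of odd dimension ≠ 5; the stabiliser of a non-degenerate 2-space of minus type; for q ≥ 4, the stabiliser of a non-degenerate 2-space of plus type; the stabiliser of a non-degenerate 4-space; for q even, the stabiliser of the span of a non-singular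 vector; for q = p prime with p ≡ 3 mod 4, the stabiliser of a decomposition into 10 pairwise orthogonal, pairwise isometric non-degenerate 1-spaces; for q ≠ 3, the stabiliser of a decomposition into 5 pairwise orthogonal, pairwise isometric non-degenerate 2-spaces; for q ≡ 3 mod 4, the stabiliser of a decomposition into 2 pairwise orthogonal, pairwise isometric non-degenerate 5-spaces; for q ≡ 1 mod 4, the stabiliser of a decomposition into two orthogonal, non-isometric non-degenerate 5-spaces; for q odd, the normaliser of a degree-2 subfield of the matrix algebra, self-adjoint for the polar form; the normaliser of a degree-2 subfield K, adjoint-closed but not self-adjoint, acting by similarities of Q; a subfield group (|F| = |F₀|^r, r odd prime) whose F₀-structure carries a non-zero multiple of Q — or else H lies in the residual class of the orthogonal case (modulo scalars H is almost simple, with absolutely irreducible perfect socle preimage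 realisable over no proper subfield and fixing no non-degenerate unitary form). -/
theorem result {F : Type*} [Field F] [Fintype F] (Q : (Fin 10 → F) → F) (hQ : Cfsg.Geo.IsNondegenerateQuadraticForm Q) (hminus : ¬ Cfsg.Geo.IsPlusTypeOn Q ⊤) (H : Subgroup (Matrix.GeneralLinearGroup (Fin 10) F)) (hH : Cfsg.Geo.IsMaximalIn (Cfsg.Geo.omegaGL Q) H) :
    (∃ W : Submodule F (Fin 10 → F), W ≠ ⊥ ∧ Cfsg.Geo.IsTotallySingularQuad Q W ∧ H = Cfsg.Geo.subspaceStabilizer W ⊓ Cfsg.Geo.omegaGL Q) ∨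
    (Odd (Fintype.card F) ∧ ∃ W : Submodule F (Fin 10 → F), W ≠ ⊥ ∧ W ≠ ⊤ ∧ Odd (Module.finrank F W) ∧ 2 * Module.finrank F W ≠ 10 ∧ Cfsg.Geo.IsNondegenerateOn (QuadraticMap.polar Q) W ∧ H = Cfsg.Geo.subspaceStabilizer W ⊓ Cfsg.Geo.omegaGL Q) ∨
    (∃ W : Submodule F (Fin 10 → F), Module.finrank F W = 2 ∧ Cfsg.Geo.IsNondegenerateOn (QuadraticMap.polar Q) W ∧ ¬ Cfsg.Geo.IsPlusTypeOn Q W ∧ H = Cfsg.Geo.subspaceStabilizer W ⊓ Cfsg.Geo.omegaGL Q) ∨
    (4 ≤ Fintype.card F ∧ ∃ W : Submodule F (Fin 10 → F), Module.finrank F W = 2 ∧ Cfsg.Geo.IsNondegenerateOn (QuadraticMap.polar Q) W ∧ Cfsg.Geo.IsPlusTypeOn Q W ∧ H = Cfsg.Geo.subspaceStabilizer W ⊓ Cfsg.Geo.omegaGL Q) ∨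
    (∃ W : Submodule F (Fin 10 → F), Module.finrank F W = 4 ∧ Cfsg.Geo.IsNondegenerateOn (QuadraticMap.polar Q) W ∧ H = Cfsg.Geo.subspaceStabilizer W ⊓ Cfsg.Geo.omegaGL Q) ∨
    (¬ Odd (Fintype.card F) ∧ ∃ v : (Fin 10 → F), Q v ≠ 0 ∧ H = Cfsg.Geo.subspaceStabilizer (Submodule.span F {v}) ⊓ Cfsg.Geo.omegaGL Q) ∨
    ((∃ p : ℕ, p.Prime ∧ Fintype.card F = p ∧ (p % 4 = 3)) ∧ ∃ D : Fin 10 → Submodule F (Fin 10 → F), Cfsg.Geo.IsOrthogonalMDecomposition Q 1 D ∧ H = Cfsg.Geo.decompositionStabilizer D ⊓ Cfsg.Geo.omegaGL Q) ∨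
    (Fintype.card F ≠ 3 ∧ ∃ D : Fin 5 → Submodule F (Fin 10 → F), Cfsg.Geo.IsOrthogonalMDecomposition Q 2 D ∧ H = Cfsg.Geo.decompositionStabilizer D ⊓ Cfsg.Geo.omegaGL Q) ∨
    (Fintype.card F % 4 = 3 ∧ ∃ D : Fin 2 → Submodule F (Fin 10 → F), Cfsg.Geo.IsOrthogonalMDecomposition Q 5 D ∧ H = Cfsg.Geo.decompositionStabilizer D ⊓ Cfsg.Geo.omegaGL Q) ∨
    (Fintype.card F % 4 = 1 ∧ ∃ D : Fin 2 → Submodule F (Fin 10 → F), Cfsg.Geo.IsNondegenerateMDecomposition (QuadraticMap.polar Q) 5 D ∧ ¬ Cfsg.Geo.AreIsometricFor Q (D 0) (D 1) ∧ H = Cfsg.Geo.decompositionStabilizer D ⊓ Cfsg.Geo.omegaGL Q) ∨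
    (Odd (Fintype.card F) ∧ ∃ K : Subalgebra F (Matrix (Fin 10) (Fin 10) F), Cfsg.Geo.IsFieldSubalgebra 2 K ∧ Cfsg.Geo.IsSelfAdjointFor (QuadraticMap.polar Q) K ∧ H = Cfsg.Geo.subalgebraNormalizer K ⊓ Cfsg.Geo.omegaGL Q) ∨
    (∃ K : Subalgebra F (Matrix (Fin 10) (Fin 10) F), Cfsg.Geo.IsFieldSubalgebra 2 K ∧ Cfsg.Geo.IsAdjointClosedFor (QuadraticMap.polar Q) K ∧ ¬ Cfsg.Geo.IsSelfAdjointFor (QuadraticMap.polar Q) K ∧ (∀ k ∈ K, ∃ c : F, ∀ v : (Fin 10 → F), Q (Matrix.mulVec k v) = c * Q v) ∧ H = Cfsg.Geo.subalgebraNormalizer K ⊓ Cfsg.Geo.omegaGL Q) ∨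
    (∃ (F₀ : Subfield F) (r : ℕ) (P : Matrix.GeneralLinearGroup (Fin 10) F) (ζ : F), r.Prime ∧ Odd r ∧ Fintype.card F = Nat.card F₀ ^ r ∧ ζ ≠ 0 ∧ Cfsg.Geo.IsQuadFormRationalStructure (fun v : Fin 10 → F => ζ * Q v) F₀ P ∧ H = Cfsg.Geo.subfieldSubgroup F₀ P ⊓ Cfsg.Geo.omegaGL Q) ∨
    Cfsg.Geo.InOrthogonalResidualClass H := by
  classical
  have hn : 5 ≤ Fintype.card (Fin 10) := by rw [Fintype.card_fin]; norm_num
  have hP := omega_pres hH.1.le
  have hc10 : Fintype.card (Fin 10) = 10 := Fintype.card_fin 10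
  by_contra hgoal
  rcases aschQ (by omega) hQ H hP with hcls | hres
  swap
  · exact hgoal (Or.inr (Or.inr (Or.inr (Or.inr (Or.inr (Or.inr (Or.inr (Or.inr (Or.inr (Or.inr (Or.inr (Or.inr (Or.inr (hres))))))))))))))
  -- the subfield class
  have hsub : ∀ (F₀ : Subfield F) (r : ℕ) (P : Matrix.GeneralLinearGroup (Fin 10) F) (ζ : F), r.Prime →
      Fintype.card F = Nat.card F₀ ^ r → ζ ≠ 0 → IsQuadFormRationalStructure (fun v : Fin 10 → F => ζ * Q v) F₀ P →
      H = subfieldSubgroup F₀ P ⊓ omegaGL Q → False := by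
    intro F₀ r P ζ h1 h2 h3 h4 h5
    rcases h1.eq_two_or_odd' with h6 | h6
    · subst h6
      exact hminus (sub_two_plus hQ (by rw [hc10]; decide) (by rw [Nat.card_eq_fintype_card]; exact h2) h3 h4)
    · exact hgoal (Or.inr (Or.inr (Or.inr (Or.inr (Or.inr (Or.inr (Or.inr (Or.inr (Or.inr (Or.inr (Or.inr (Or.inr (Or.inl ⟨F₀, r, P, ζ, h1, h6, h2, h3, h4, h5⟩)))))))))))))
  have hlines : ∀ (t : ℕ) (D : Fin t → Submodule F (Fin 10 → F)), IsNondegenerateMDecomposition (QuadraticMap.polar Q) 1 D →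
      ActsIrreducibly (matrixSet H) → H ≤ decompositionStabilizer D → False := by
    intro t D hD hirr h
    have ht := CfsgLib.AschNum.dec_mul hD.decomp
    rw [hc10, mul_one] at ht
    subst ht
    have hiso := dec_isometric hP hirr hD h
    have hodd := nondeg_odd hQ (hD.nondegenerate 0) (by rw [hD.decomp.finrank_eq]; exact odd_one)
    have h4 : Fintype.card F % 4 = 3 := by
      have h5 : Fintype.card F % 4 ≠ 1 := fun h => hminus ((frame_twice_odd hQ hodd (k := 5) (by decide) rfl hiso).2 h)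
      obtain ⟨s, hs⟩ := hodd
      omega
    rcases lines_out hQ hn hH hirr hD h with ⟨hp, he⟩ | ⟨F₀, r, P, ζ, h1, h2, h3, h5, h6⟩
    · exact hgoal (Or.inr (Or.inr (Or.inr (Or.inr (Or.inr (Or.inr (Or.inl ⟨⟨_, hp, rfl, h4⟩, D, hiso, he⟩)))))))
    · exact hsub F₀ r P ζ h1 h2 h3 h5 h6
  have hhalf : ∀ D : Fin 2 → Submodule F (Fin 10 → F), IsNondegenerateMDecomposition (QuadraticMap.polar Q) 5 D →
      H ≤ decompositionStabilizer D → False := by
    intro D hD h
    have hodd := nondeg_odd hQ (hD.nondegenerate 0) (by rw [hD.decomp.finrank_eq]; decide)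
    obtain ⟨_, _, a1, a2⟩ := two_odd hQ hodd (k := 5) (by decide) hD
    have he := dec_out hQ hn hH hD (by omega) h
    by_cases hi : AreIsometricFor Q (D 0) (D 1)
    · have hall : IsOrthogonalMDecomposition Q 5 D := by
        refine ⟨hD, fun i j => ?_⟩
        fin_cases i <;> fin_cases j
        · exact ⟨LinearEquiv.refl F _, fun _ => rfl⟩
        · exact hi
        · exact isometric_symm hi
        · exact ⟨LinearEquiv.refl F _, fun _ => rfl⟩
      exact hgoal (Or.inr (Or.inr (Or.inr (Or.inr (Or.inr (Or.inr (Or.inr (Or.inr (Or.inl ⟨a1 hminus hi, D, hall, he⟩)))))))))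
    · exact hgoal (Or.inr (Or.inr (Or.inr (Or.inr (Or.inr (Or.inr (Or.inr (Or.inr (Or.inr (Or.inl ⟨a2 hminus hi, D, hD, hi, he⟩))))))))))
  have huni : ∀ E : Subalgebra F (Matrix (Fin 10) (Fin 10) F), IsFieldSubalgebra 2 E → H ≤ subalgebraNormalizer E →
      IsAdjointClosedFor (QuadraticMap.polar Q) E → ¬ IsSelfAdjointFor (QuadraticMap.polar Q) E →
      (∀ k ∈ E, ∃ c : F, ∀ v, Q (Matrix.mulVec k v) = c * Q v) → False := fun E h1 h2 h3 h4 h5 =>
    hgoal (Or.inr (Or.inr (Or.inr (Or.inr (Or.inr (Or.inr (Or.inr (Or.inr (Or.inr (Or.inr (Or.inr (Or.inl ⟨E, h1, h3, h4, h5, fld_out hQ hn hH Nat.prime_two h1 h2⟩))))))))))))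
  cases hcls with
  | sing W h0 hs h =>
    exact hgoal (Or.inl ⟨W, h0, hs, sing_out hQ hn hH h0 hs h⟩)
  | vec v h2 hv h =>
    exact hgoal (Or.inr (Or.inr (Or.inr (Or.inr (Or.inr (Or.inl ⟨not_odd_of_two h2, v, hv, vec_out hQ hn hH hv h⟩))))))
  | nond W h0 hs hd h =>
    rcases nond_out hQ hn hH h0 hs hd h with ⟨ho, W, a, b, c, d, e, f⟩ | ⟨W, a, b, c, d⟩ | ⟨hq, W, a, b, c, d⟩ | ⟨W, a, b, c, d, e⟩ | ⟨ho, v, a, b⟩
    · exact hgoal (Or.inr (Or.inl ⟨ho, W, a, b, c, by omega, e, f⟩))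
    · exact hgoal (Or.inr (Or.inr (Or.inl ⟨W, a, b, c, d⟩)))
    · exact hgoal (Or.inr (Or.inr (Or.inr (Or.inl ⟨hq, W, a, b, c, d⟩))))
    · exact hgoal (Or.inr (Or.inr (Or.inr (Or.inr (Or.inl ⟨W, by omega, d, e⟩)))))
    · exact hgoal (Or.inr (Or.inr (Or.inr (Or.inr (Or.inr (Or.inl ⟨ho, v, a, b⟩))))))
  | half k D hD h =>
    have ht := CfsgLib.AschNum.dec_mul hD.decomp
    obtain rfl : k = 5 := by omega
    exact hhalf D hD h
  | dec t k D hD hirr h =>
    have ht := CfsgLib.AschNum.dec_mul hD.decomp.decomp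
    rw [hc10] at ht
    have h2t := hD.decomp.decomp.two_le
    have htd : t ∣ 10 := ⟨k, ht.symm⟩
    have htm : t ∈ Nat.divisors 10 := Nat.mem_divisors.2 ⟨htd, by norm_num⟩
    have htc : t = 1 ∨ t = 2 ∨ t = 5 ∨ t = 10 := by
      have : Nat.divisors 10 = {1, 2, 5, 10} := by decide
      rw [this] at htm
      simpa using htm
    rcases htc with rfl | rfl | rfl | rfl
    · omega
    · obtain rfl : k = 5 := by omega
      exact hhalf D hD.decomp h
    · obtain rfl : k = 2 := by omega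
      by_cases hq : Fintype.card F = 3
      · rcases plus_or_minus hD with hp | hp
        · exact hminus (sum_plus hQ hD.decomp hp)
        · obtain ⟨t, D', h1, h3⟩ := dec2_minus_three hQ (by omega) hP hD.decomp h hp hq
          exact hlines t D' h1 hirr h3
      · exact hgoal (Or.inr (Or.inr (Or.inr (Or.inr (Or.inr (Or.inr (Or.inr (Or.inl ⟨hq, D, hD, dec_out hQ hn hH hD.decomp (by omega) h⟩))))))))
    · obtain rfl : k = 1 := by omega
      exact hlines 10 D hD.decomp hirr h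
  | pair k D hD hs hirr h =>
    have hk := mdec_card hD
    exact hminus (plus_of_half (hs 0) (by rw [hD.finrank_eq]; exact hk))
  | fld r K hr hK h ha hc hirr =>
    have hdvd := CfsgLib.AschNum.fld_dvd hK
    rw [hc10] at hdvd
    have hrc : r = 2 ∨ r = 5 := by
      have h1 : r ∣ 2 * 5 := hdvd
      rcases (Nat.Prime.dvd_mul hr).1 h1 with h3 | h3
      · exact Or.inl ((Nat.prime_dvd_prime_iff_eq hr Nat.prime_two).1 h3)
      · exact Or.inr ((Nat.prime_dvd_prime_iff_eq hr Nat.prime_five).1 h3)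
    rcases hrc with rfl | rfl
    · rcases hc with hc | ⟨_, hns, hsim⟩
      · by_cases hodd : Odd (Fintype.card F)
        · exact hgoal (Or.inr (Or.inr (Or.inr (Or.inr (Or.inr (Or.inr (Or.inr (Or.inr (Or.inr (Or.inr (Or.inl ⟨hodd, K, hK, hc, fld_out hQ hn hH hr hK h⟩)))))))))))
        · have := self_fld_dvd hQ (two_of_not_odd hodd) hK hc (m := 5) (by omega)
          omega
      · exact huni K hK h ha hns hsim
    · rcases hc with hc | ⟨h5, _, _⟩
      · have hB := no_sing_line hQ (by decide) hK (by omega) hH.1.le hirr h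
        obtain ⟨E, hE, hHE, hEa, hEs⟩ := fld_case hQ (by decide) hK hc (by omega) hP h hB
        exact huni E hE hHE hEa hEs (fld_sim (by omega) hQ hP hirr hE hHE hEa hEs)
      · omega
  | tpA n₁ n₂ b f₁ f₂ h1 h2 hf₁ hf₂ hform hQt hirr hkr =>
    have hb := Module.finrank_eq_card_basis b
    rw [Module.finrank_fintype_fun_eq_card, hc10] at hb
    simp only [Fintype.card_prod, Fintype.card_fin] at hb
    obtain ⟨a, ha⟩ := symp_even hf₁
    obtain ⟨c, hc⟩ := symp_even hf₂
    subst ha hc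
    have : 10 = 4 * (a * c) := by rw [hb]; ring
    omega
  | tpS n₁ n₂ b f₁ f₂ h20 h1 h2 hf₁ hf₂ hform hirr hkr =>
    have hb := Module.finrank_eq_card_basis b
    rw [Module.finrank_fintype_fun_eq_card, hc10] at hb
    simp only [Fintype.card_prod, Fintype.card_fin] at hb
    have h3 : n₁ ≤ 3 := by
      by_contra hcon
      have : 4 * 3 ≤ n₁ * n₂ := Nat.mul_le_mul (by omega) h2
      omega
    obtain rfl : n₁ = 3 := by omega
    omega
  | sub F₀ r P ζ hr hc hζ hS hirr h =>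
    exact hsub F₀ r P ζ hr hc hζ hS (sub_out hQ hn hH hr hc h)
  | st k R h20 hk hcard hal hc hRH hR h =>
    rw [hc10] at hcard
    have h5 : 5 ∣ 2 ^ k := by rw [← hcard]; decide
    have := Nat.prime_five.dvd_of_dvd_pow h5
    omega
  | tw m t b ε₁ f₁ hf₁ hε hm ht c hc hform h20 hTW hirr =>
    have hb := Module.finrank_eq_card_basis b
    rw [Module.finrank_fintype_fun_eq_card, hc10] at hb
    simp only [Fintype.card_pi, Fintype.card_fin, Finset.prod_const, Finset.card_univ] at hb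
    have h5 : 5 ∣ m ^ t := by rw [← hb]; decide
    have h6 := Nat.prime_five.dvd_of_dvd_pow h5
    have h7 : 5 ≤ m := Nat.le_of_dvd (by omega) h6
    have h8 : 5 ^ 2 ≤ m ^ t := le_trans (Nat.pow_le_pow_right (by norm_num) ht) (Nat.pow_le_pow_left h7 t)
    omega

end Cfsg.Agent.S5850
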