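import Cfsg.Agent.EqBase
import Cfsg.Agent.LibOmE21
import Cfsg.Agent.LibAschSL4

set_option autoImplicit false
open Cfsg

namespace Cfsg.Agent.S5871

open Module Cfsg.Geo CfsgLib.OmE CfsgLib.AschF CfsgLib.OmH12


/-- Every maximal subgroup of Ω_12^+(q) is of one of the listed geometric types or lies in the residual class. Let F be a finite field with q elements (characteristic p), Q a non-degenerate quadratic form on F^12 of plus type (Witt index 6: some totally singular 6-space), Ω the commutator subgroup of its isometry group, and H a maximal subgroup of Ω (inside GL_12(F)). Then H is the intersection with Ω of one of: the stabiliser of a non-zero totally singular subspace of dimension ≠ 5; for q odd, the stabiliser of a non-degenerate subspace of odd dimension; the stabiliser of a non-degenerate 2-space of minus type; for q ≥ 4, the stabiliser of a non-degenerate 2-space of plus type; the stabiliser of a non-degenerate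 4-space; for q even, the stabiliser of the span of a non-singular vector; for q = p an odd prime, the stabiliser of a decomposition into 12 pairwise orthogonal, pairwise isometric non-degenerate 1-spaces; for q ≥ 7, the stabiliser of a decomposition into 6 pairwise orthogonal, pairwise isometric non-degenerate 2-spaces of plus type; for q ≠ 3, the stabiliser of a decomposition into 6 pairwise orthogonal, pairwise isometric non-degenerate 2-spaces of minus type; for q odd with q ≥ 5, the stabiliser of a decomposition into 4 pairwise orthogonal, pairwise isometric non-degenerate 3-spaces; for q ≥ 3, the stabiliser of a decomposition into 3 pairwise orthogonal, pairwise isometric non-degenerate 4-spaces; the stabiliser of a decomposition into 2 pairwise orthogonal, pairwise isometric non-degenerate 6-spaces; of a decomposition into two totally singular 6-spaces; the normaliser of a degree-2 subfield of the matrix algebra;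 the normaliser of a degree-3 subfield of the matrix algebra; the normaliser of a degree-2 subfield K, adjoint-closed but not self-adjoint, acting by similarities of Q; for q ≥ 3, the stabiliser of a tensor decomposition of Q into alternating forms on F^2 and F^6 (Q vanishing on pure tensors); a subfield group (|F| = |F₀|^r, r prime) whose F₀-structure carries a non-zero multiple of Q — or else H lies in the residual class of the orthogonal case (modulo scalars H is almost simple, with absolutely irreducible perfect socle preimage realisable over no proper subfield and fixing no non-degenerate unitary form). -/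
theorem result {F : Type*} [Field F] [Fintype F] (Q : (Fin 12 → F) → F) (hQ : Cfsg.Geo.IsNondegenerateQuadraticForm Q) (hplus : Cfsg.Geo.IsPlusTypeOn Q ⊤) (H : Subgroup (Matrix.GeneralLinearGroup (Fin 12) F)) (hH : Cfsg.Geo.IsMaximalIn (Cfsg.Geo.omegaGL Q) H) :
    (∃ W : Submodule F (Fin 12 → F), W ≠ ⊥ ∧ Cfsg.Geo.IsTotallySingularQuad Q W ∧ Module.finrank F W ≠ 5 ∧ H = Cfsg.Geo.subspaceStabilizer W ⊓ Cfsg.Geo.omegaGL Q) ∨
    (Odd (Fintype.card F) ∧ ∃ W : Submodule F (Fin 12 → F), W ≠ ⊥ ∧ W ≠ ⊤ ∧ Odd (Module.finrank F W) ∧ 2 * Module.finrank F W ≠ 12 ∧ Cfsg.Geo.IsNondegenerateOn (QuadraticMap.polar Q) W ∧ H = Cfsg.Geo.subspaceStabilizer W ⊓ Cfsg.Geo.omegaGL Q) ∨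
    (∃ W : Submodule F (Fin 12 → F), Module.finrank F W = 2 ∧ Cfsg.Geo.IsNondegenerateOn (QuadraticMap.polar Q) W ∧ ¬ Cfsg.Geo.IsPlusTypeOn Q W ∧ H = Cfsg.Geo.subspaceStabilizer W ⊓ Cfsg.Geo.omegaGL Q) ∨
    (4 ≤ Fintype.card F ∧ ∃ W : Submodule F (Fin 12 → F), Module.finrank F W = 2 ∧ Cfsg.Geo.IsNondegenerateOn (QuadraticMap.polar Q) W ∧ Cfsg.Geo.IsPlusTypeOn Q W ∧ H = Cfsg.Geo.subspaceStabilizer W ⊓ Cfsg.Geo.omegaGL Q) ∨
    (∃ W : Submodule F (Fin 12 → F), Module.finrank F W = 4 ∧ Cfsg.Geo.IsNondegenerateOn (QuadraticMap.polar Q) W ∧ H = Cfsg.Geo.subspaceStabilizer W ⊓ Cfsg.Geo.omegaGL Q) ∨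
    (¬ Odd (Fintype.card F) ∧ ∃ v : (Fin 12 → F), Q v ≠ 0 ∧ H = Cfsg.Geo.subspaceStabilizer (Submodule.span F {v}) ⊓ Cfsg.Geo.omegaGL Q) ∨
    ((∃ p : ℕ, p.Prime ∧ Odd p ∧ Fintype.card F = p) ∧ ∃ D : Fin 12 → Submodule F (Fin 12 → F), Cfsg.Geo.IsOrthogonalMDecomposition Q 1 D ∧ H = Cfsg.Geo.decompositionStabilizer D ⊓ Cfsg.Geo.omegaGL Q) ∨
    (7 ≤ Fintype.card F ∧ ∃ D : Fin 6 → Submodule F (Fin 12 → F), Cfsg.Geo.IsOrthogonalMDecomposition Q 2 D ∧ (∀ i, Cfsg.Geo.IsPlusTypeOn Q (D i)) ∧ H = Cfsg.Geo.decompositionStabilizer D ⊓ Cfsg.Geo.omegaGL Q) ∨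
    (Fintype.card F ≠ 3 ∧ ∃ D : Fin 6 → Submodule F (Fin 12 → F), Cfsg.Geo.IsOrthogonalMDecomposition Q 2 D ∧ (∀ i, ¬ Cfsg.Geo.IsPlusTypeOn Q (D i)) ∧ H = Cfsg.Geo.decompositionStabilizer D ⊓ Cfsg.Geo.omegaGL Q) ∨
    (Odd (Fintype.card F) ∧ 5 ≤ Fintype.card F ∧ ∃ D : Fin 4 → Submodule F (Fin 12 → F), Cfsg.Geo.IsOrthogonalMDecomposition Q 3 D ∧ H = Cfsg.Geo.decompositionStabilizer D ⊓ Cfsg.Geo.omegaGL Q) ∨
    (3 ≤ Fintype.card F ∧ ∃ D : Fin 3 → Submodule F (Fin 12 → F), Cfsg.Geo.IsOrthogonalMDecomposition Q 4 D ∧ H = Cfsg.Geo.decompositionStabilizer D ⊓ Cfsg.Geo.omegaGL Q) ∨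
    (∃ D : Fin 2 → Submodule F (Fin 12 → F), Cfsg.Geo.IsOrthogonalMDecomposition Q 6 D ∧ H = Cfsg.Geo.decompositionStabilizer D ⊓ Cfsg.Geo.omegaGL Q) ∨
    (∃ D : Fin 2 → Submodule F (Fin 12 → F), Cfsg.Geo.IsMDecomposition 6 D ∧ (∀ i, Cfsg.Geo.IsTotallySingularQuad Q (D i)) ∧ H = Cfsg.Geo.decompositionStabilizer D ⊓ Cfsg.Geo.omegaGL Q) ∨
    (∃ K : Subalgebra F (Matrix (Fin 12) (Fin 12) F), Cfsg.Geo.IsFieldSubalgebra 2 K ∧ H = Cfsg.Geo.subalgebraNormalizer K ⊓ Cfsg.Geo.omegaGL Q) ∨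
    (∃ K : Subalgebra F (Matrix (Fin 12) (Fin 12) F), Cfsg.Geo.IsFieldSubalgebra 3 K ∧ H = Cfsg.Geo.subalgebraNormalizer K ⊓ Cfsg.Geo.omegaGL Q) ∨
    (∃ K : Subalgebra F (Matrix (Fin 12) (Fin 12) F), Cfsg.Geo.IsFieldSubalgebra 2 K ∧ Cfsg.Geo.IsAdjointClosedFor (QuadraticMap.polar Q) K ∧ ¬ Cfsg.Geo.IsSelfAdjointFor (QuadraticMap.polar Q) K ∧ (∀ k ∈ K, ∃ c : F, ∀ v : (Fin 12 → F), Q (Matrix.mulVec k v) = c * Q v) ∧ H = Cfsg.Geo.subalgebraNormalizer K ⊓ Cfsg.Geo.omegaGL Q) ∨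
    (3 ≤ Fintype.card F ∧ ∃ (e : Fin 12 ≃ Fin 2 × Fin 6) (P : Matrix.GeneralLinearGroup (Fin 12) F) (f₁ : (Fin 2 → F) → (Fin 2 → F) → F) (f₂ : (Fin 6 → F) → (Fin 6 → F) → F), Cfsg.Geo.IsSymplecticForm f₁ ∧ Cfsg.Geo.IsSymplecticForm f₂ ∧ Cfsg.Geo.IsTensorFormStructure id (QuadraticMap.polar Q) f₁ f₂ e P ∧ (∀ (x₁ : Fin 2 → F) (x₂ : Fin 6 → F), Q (Matrix.mulVec (P : Matrix (Fin 12) (Fin 12) F) ((fun a : Fin 2 × Fin 6 => x₁ a.1 * x₂ a.2) ∘ e)) = 0) ∧ H = Cfsg.Geo.tensorProductSubgroup 2 6 e P ⊓ Cfsg.Geo.omegaGL Q) ∨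
    (∃ (F₀ : Subfield F) (r : ℕ) (P : Matrix.GeneralLinearGroup (Fin 12) F) (ζ : F), r.Prime ∧ Fintype.card F = Nat.card F₀ ^ r ∧ ζ ≠ 0 ∧ Cfsg.Geo.IsQuadFormRationalStructure (fun v : Fin 12 → F => ζ * Q v) F₀ P ∧ H = Cfsg.Geo.subfieldSubgroup F₀ P ⊓ Cfsg.Geo.omegaGL Q) ∨
    Cfsg.Geo.InOrthogonalResidualClass H := by
  classical
  have hn : 5 ≤ Fintype.card (Fin 12) := by rw [Fintype.card_fin]; norm_num
  have hP := omega_pres hH.1.le
  have hc12 : Fintype.card (Fin 12) = 12 := Fintype.card_fin 12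
  have h2le := card_two_le (F := F)
  by_contra hgoal
  rcases aschQ (by omega) hQ H hP with hcls | hres
  swap
  · exact hgoal (Or.inr (Or.inr (Or.inr (Or.inr (Or.inr (Or.inr (Or.inr (Or.inr (Or.inr (Or.inr (Or.inr (Or.inr (Or.inr (Or.inr (Or.inr (Or.inr (Or.inr (Or.inr (hres)))))))))))))))))))
  have hsub : ∀ (F₀ : Subfield F) (r : ℕ) (P : Matrix.GeneralLinearGroup (Fin 12) F) (ζ : F), r.Prime →
      Fintype.card F = Nat.card F₀ ^ r → ζ ≠ 0 → IsQuadFormRationalStructure (fun v : Fin 12 → F => ζ * Q v) F₀ P →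
      H = subfieldSubgroup F₀ P ⊓ omegaGL Q → False := fun F₀ r P ζ h1 h2 h3 h4 h5 =>
    hgoal (Or.inr (Or.inr (Or.inr (Or.inr (Or.inr (Or.inr (Or.inr (Or.inr (Or.inr (Or.inr (Or.inr (Or.inr (Or.inr (Or.inr (Or.inr (Or.inr (Or.inr (Or.inl ⟨F₀, r, P, ζ, h1, h2, h3, h4, h5⟩))))))))))))))))))
  have hlines : ∀ (t : ℕ) (D : Fin t → Submodule F (Fin 12 → F)), IsNondegenerateMDecomposition (QuadraticMap.polar Q) 1 D →
      ActsIrreducibly (matrixSet H) → H ≤ decompositionStabilizer D → False := by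
    intro t D hD hirr h
    have ht := CfsgLib.AschNum.dec_mul hD.decomp
    rw [hc12, mul_one] at ht
    subst ht
    have hiso := dec_isometric hP hirr hD h
    have hodd := nondeg_odd hQ (hD.nondegenerate 0) (by rw [hD.decomp.finrank_eq]; exact odd_one)
    rcases lines_out hQ hn hH hirr hD h with ⟨hp, he⟩ | ⟨F₀, r, P, ζ, h1, h2, h3, h5, h6⟩
    · exact hgoal (Or.inr (Or.inr (Or.inr (Or.inr (Or.inr (Or.inr (Or.inl ⟨⟨_, hp, hodd, rfl⟩, D, hiso, he⟩)))))))
    · exact hsub F₀ r P ζ h1 h2 h3 h5 h6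
  have hmin : ∀ (t : ℕ) (D : Fin t → Submodule F (Fin 12 → F)), IsNondegenerateMDecomposition (QuadraticMap.polar Q) 2 D →
      (∀ i, ¬ IsPlusTypeOn Q (D i)) → ActsIrreducibly (matrixSet H) → H ≤ decompositionStabilizer D → False := by
    intro t D hD hm hirr h
    have ht := CfsgLib.AschNum.dec_mul hD.decomp
    obtain rfl : t = 6 := by omega
    by_cases hq : Fintype.card F = 3
    · obtain ⟨t, D', h1, h3⟩ := dec2_minus_three hQ (by omega) hP hD h hm hq
      exact hlines t D' h1 hirr h3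
    · exact hgoal (Or.inr (Or.inr (Or.inr (Or.inr (Or.inr (Or.inr (Or.inr (Or.inr (Or.inl ⟨hq, D, dec_isometric hP hirr hD h, hm, dec_out hQ hn hH hD (by omega) h⟩)))))))))
  have hhalf : ∀ D : Fin 2 → Submodule F (Fin 12 → F), IsNondegenerateMDecomposition (QuadraticMap.polar Q) (2 * 3) D →
      H ≤ decompositionStabilizer D → False := by
    intro D hD h
    have hfr := hD.decomp.finrank_eq
    have h01 := hD.orthogonal 0 1 (by decide)
    have hi := isom_half hQ hplus (isCompl_orth hQ (hD.nondegenerate 0) h01 (by rw [hfr, hfr]; omega)) h01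
      (hD.nondegenerate 0) (hD.nondegenerate 1) (m := 3) (hfr 0) (hfr 1)
    have hall : IsOrthogonalMDecomposition Q (2 * 3) D := by
      refine ⟨hD, fun i j => ?_⟩
      fin_cases i <;> fin_cases j
      · exact ⟨LinearEquiv.refl F _, fun _ => rfl⟩
      · exact hi
      · exact isometric_symm hi
      · exact ⟨LinearEquiv.refl F _, fun _ => rfl⟩
    exact hgoal (Or.inr (Or.inr (Or.inr (Or.inr (Or.inr (Or.inr (Or.inr (Or.inr (Or.inr (Or.inr (Or.inr (Or.inl ⟨D, hall, dec_out hQ hn hH hD (by omega) h⟩))))))))))))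
  have htpA : ∀ (b : Basis (Fin 2 × Fin 6) F (Fin 12 → F))
      (f₁ : (Fin 2 → F) → (Fin 2 → F) → F) (f₂ : (Fin 6 → F) → (Fin 6 → F) → F), IsSymplecticForm f₁ → IsSymplecticForm f₂ →
      (∀ i l j l', QuadraticMap.polar Q (b (i, l)) (b (j, l')) = gramMatrix f₁ i j * gramMatrix f₂ l l') →
      (∀ u v, Q (ten b u v) = 0) →
      (∀ h ∈ H, ∃ (A : (Matrix (Fin 2) (Fin 2) F)ˣ) (N : (Matrix (Fin 6) (Fin 6) F)ˣ),
        KA b (h : Matrix (Fin 12) (Fin 12) F) A.1 N.1) → False := by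
    intro b f₁ f₂ hf₁ hf₂ hform hQt hkr
    obtain ⟨e, P, h1, h2, h3⟩ := tp_output hQ b hform hkr
    by_cases hq : 3 ≤ Fintype.card F
    · have h4 : ∀ (x₁ : Fin 2 → F) (x₂ : Fin 6 → F), Q (Matrix.mulVec (P : Matrix (Fin 12) (Fin 12) F)
          ((fun a : Fin 2 × Fin 6 => x₁ a.1 * x₂ a.2) ∘ e)) = 0 := by
        intro x₁ x₂
        rw [h3]; exact hQt x₁ x₂
      exact hgoal (Or.inr (Or.inr (Or.inr (Or.inr (Or.inr (Or.inr (Or.inr (Or.inr (Or.inr (Or.inr (Or.inr (Or.inr (Or.inr (Or.inr (Or.inr (Or.inr (Or.inl ⟨hq, e, P, f₁, f₂, hf₁, hf₂, h1, h4, tp_out hQ hn hH (by norm_num) (by norm_num) h2⟩)))))))))))))))))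
    · obtain ⟨K, hK, hKle⟩ := CfsgLib.AschSL4.tensor_two (by omega : Fintype.card F = 2) (m := 6) (by norm_num) e P
      exact hgoal (Or.inr (Or.inr (Or.inr (Or.inr (Or.inr (Or.inr (Or.inr (Or.inr (Or.inr (Or.inr (Or.inr (Or.inr (Or.inr (Or.inl ⟨K, hK, fld_out hQ hn hH Nat.prime_two hK (h2.trans hKle)⟩))))))))))))))
  have hten : ∀ (b : Basis (Fin 3 × Fin 4) F (Fin 12 → F))
      (f₁ : (Fin 3 → F) → (Fin 3 → F) → F) (f₂ : (Fin 4 → F) → (Fin 4 → F) → F) (h20 : (2 : F) ≠ 0)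
      (hf₁ : FD (RingEquiv.refl F) 1 f₁) (hf₂ : FD (RingEquiv.refl F) 1 f₂)
      (hform : ∀ i l j l', QuadraticMap.polar Q (b (i, l)) (b (j, l')) = gramMatrix f₁ i j * gramMatrix f₂ l l')
      (hkr : ∀ h ∈ H, ∃ (A : (Matrix (Fin 3) (Fin 3) F)ˣ) (N : (Matrix (Fin 4) (Fin 4) F)ˣ),
        KA b (h : Matrix (Fin 12) (Fin 12) F) A.1 N.1), False := by
    intro b f₁ f₂ h20 hf₁ hf₂ hform hkr
    obtain ⟨b', g₁, g₂, hg₁, hg₂, hform', hQt, hkr'⟩ := tpS_to_tpA hQ h20 hplus hH.1.le b hf₁ hf₂ hform hkr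
    exact htpA b' g₁ g₂ hg₁ hg₂ hform' hQt hkr'
  cases hcls with
  | sing W h0 hs h =>
    by_cases h4 : finrank F W = 5
    · obtain ⟨U, hWU, hU, hUd, hHU⟩ := stab_submax hQ (by omega) hplus hs (by omega) hH.1.le h
      have hU0 : U ≠ ⊥ := by
        rintro rfl
        rw [finrank_bot] at hUd
        omega
      exact hgoal (Or.inl ⟨U, hU0, hU, by omega, sing_out hQ hn hH hU0 hU hHU⟩)
    · exact hgoal (Or.inl ⟨W, h0, hs, h4, sing_out hQ hn hH h0 hs h⟩)
  | vec v h2 hv h =>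
    exact hgoal (Or.inr (Or.inr (Or.inr (Or.inr (Or.inr (Or.inl ⟨not_odd_of_two h2, v, hv, vec_out hQ hn hH hv h⟩))))))
  | nond W h0 hs hd h =>
    rcases nond_out hQ hn hH h0 hs hd h with ⟨ho, W, a, b, c, d, e, f⟩ | ⟨W, a, b, c, d⟩ | ⟨hq, W, a, b, c, d⟩ | ⟨W, ⟨s, hs⟩, b, c, d, e⟩ | ⟨ho, v, a, b⟩
    · exact hgoal (Or.inr (Or.inl ⟨ho, W, a, b, c, by omega, e, f⟩))
    · exact hgoal (Or.inr (Or.inr (Or.inl ⟨W, a, b, c, d⟩)))
    · exact hgoal (Or.inr (Or.inr (Or.inr (Or.inl ⟨hq, W, a, b, c, d⟩))))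
    · exact hgoal (Or.inr (Or.inr (Or.inr (Or.inr (Or.inl ⟨W, by omega, d, e⟩)))))
    · exact hgoal (Or.inr (Or.inr (Or.inr (Or.inr (Or.inr (Or.inl ⟨ho, v, a, b⟩))))))
  | half k D hD h =>
    have ht := CfsgLib.AschNum.dec_mul hD.decomp
    obtain rfl : k = 2 * 3 := by omega
    exact hhalf D hD h
  | dec t k D hD hirr h =>
    have ht := CfsgLib.AschNum.dec_mul hD.decomp.decomp
    rw [hc12] at ht
    have h2t := hD.decomp.decomp.two_le
    have htd : t ∣ 12 := ⟨k, ht.symm⟩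
    have htm : t ∈ Nat.divisors 12 := Nat.mem_divisors.2 ⟨htd, by norm_num⟩
    have htc : t = 1 ∨ t = 2 ∨ t = 3 ∨ t = 4 ∨ t = 6 ∨ t = 12 := by
      have : Nat.divisors 12 = {1, 2, 3, 4, 6, 12} := by decide
      rw [this] at htm
      simpa using htm
    rcases htc with rfl | rfl | rfl | rfl | rfl | rfl
    · omega
    · obtain rfl : k = 2 * 3 := by omega
      exact hhalf D hD.decomp h
    · obtain rfl : k = 2 * 2 := by omega
      by_cases hq : 3 ≤ Fintype.card F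
      · exact hgoal (Or.inr (Or.inr (Or.inr (Or.inr (Or.inr (Or.inr (Or.inr (Or.inr (Or.inr (Or.inr (Or.inl ⟨hq, D, hD, dec_out hQ hn hH hD.decomp (by omega) h⟩)))))))))))
      · obtain ⟨D', h1, h3, h4⟩ := dec_four_two hQ (by omega) hP hD.decomp h (three_plus hQ hplus hD)
        exact hmin _ D' h1 h3 hirr h4
    · obtain rfl : k = 3 := by omega
      have hodd := nondeg_odd hQ (hD.decomp.nondegenerate 0) (by rw [hD.decomp.decomp.finrank_eq]; decide)
      by_cases hq : 5 ≤ Fintype.card F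
      · exact hgoal (Or.inr (Or.inr (Or.inr (Or.inr (Or.inr (Or.inr (Or.inr (Or.inr (Or.inr (Or.inl ⟨hodd, hq, D, hD, dec_out hQ hn hH hD.decomp (by omega) h⟩))))))))))
      · obtain ⟨D', h1, h3⟩ := dec_three_three hQ (by omega) (by obtain ⟨s, hs⟩ := hodd; omega) hP hD h
        exact hlines _ D' h1 hirr h3
    · obtain rfl : k = 2 := by omega
      rcases plus_or_minus hD with hp | hp
      · rcases dec2_plus hQ (by omega) hP hirr hD.decomp h hp with hq | ⟨_, t, D', h1, h3⟩ | ⟨F₀, P, h1, h3, h4⟩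
        · exact hgoal (Or.inr (Or.inr (Or.inr (Or.inr (Or.inr (Or.inr (Or.inr (Or.inl ⟨hq, D, hD, hp, dec_out hQ hn hH hD.decomp (by omega) h⟩))))))))
        · exact hlines t D' h1 hirr h3
        · exact hsub F₀ 2 P 1 Nat.prime_two h1 one_ne_zero h3 (sub_out hQ hn hH Nat.prime_two h1 h4)
      · exact hmin 6 D hD.decomp hp hirr h
    · obtain rfl : k = 1 := by omega
      exact hlines 12 D hD.decomp hirr h
  | pair k D hD hs hirr h =>
    have hk := mdec_card hD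
    obtain rfl : k = 6 := by omega
    exact hgoal (Or.inr (Or.inr (Or.inr (Or.inr (Or.inr (Or.inr (Or.inr (Or.inr (Or.inr (Or.inr (Or.inr (Or.inr (Or.inl ⟨D, hD, hs, pair_out hQ hn hH hD (by norm_num) h⟩)))))))))))))
  | fld r K hr hK h ha hc hirr =>
    have hdvd := CfsgLib.AschNum.fld_dvd hK
    rw [hc12] at hdvd
    have hrc : r = 2 ∨ r = 3 := by
      have h1 : r ∣ 2 ^ 2 * 3 := hdvd
      rcases (Nat.Prime.dvd_mul hr).1 h1 with h3 | h3
      · exact Or.inl ((Nat.prime_dvd_prime_iff_eq hr Nat.prime_two).1 (hr.dvd_of_dvd_pow h3))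
      · exact Or.inr ((Nat.prime_dvd_prime_iff_eq hr Nat.prime_three).1 h3)
    rcases hrc with rfl | rfl
    · exact hgoal (Or.inr (Or.inr (Or.inr (Or.inr (Or.inr (Or.inr (Or.inr (Or.inr (Or.inr (Or.inr (Or.inr (Or.inr (Or.inr (Or.inl ⟨K, hK, fld_out hQ hn hH hr hK h⟩))))))))))))))
    · exact hgoal (Or.inr (Or.inr (Or.inr (Or.inr (Or.inr (Or.inr (Or.inr (Or.inr (Or.inr (Or.inr (Or.inr (Or.inr (Or.inr (Or.inr (Or.inl ⟨K, hK, fld_out hQ hn hH hr hK h⟩)))))))))))))))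
  | tpA n₁ n₂ b f₁ f₂ h1 h2 hf₁ hf₂ hform hQt hirr hkr =>
    have hb := card_of_basis b
    rw [hc12] at hb
    obtain ⟨a, ha⟩ := symp_even hf₁
    obtain ⟨c, hc⟩ := symp_even hf₂
    have hac : a * c = 3 := by
      have : 12 = 4 * (a * c) := by rw [hb, ha, hc]; ring
      omega
    have ha2 : a = 1 ∨ a = 3 := by
      have : a ∣ 3 := ⟨c, hac.symm⟩
      exact (Nat.dvd_prime Nat.prime_three).1 this
    rcases ha2 with rfl | rfl
    · obtain rfl : n₁ = 2 := by omega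
      obtain rfl : n₂ = 6 := by omega
      exact htpA b f₁ f₂ hf₁ hf₂ hform hQt hkr
    · obtain rfl : n₁ = 6 := by omega
      obtain rfl : n₂ = 2 := by omega
      exact htpA (b.reindex (Equiv.prodComm _ _)) f₂ f₁ hf₂ hf₁ (form_swap b hform) (fun u v => by
        rw [ten_swap]; exact hQt v u) (fun h hh => by
        obtain ⟨A, N, hk⟩ := hkr h hh
        exact ⟨N, A, KA_swap b hk⟩)
  | tpS n₁ n₂ b f₁ f₂ h20 h1 h2 hf₁ hf₂ hform hirr hkr =>
    have hb := card_of_basis b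
    rw [hc12] at hb
    have h3 : n₁ = 3 ∨ n₁ = 4 := by
      have h4 : n₁ ≤ 4 := by
        by_contra hcon
        have : 5 * 3 ≤ n₁ * n₂ := Nat.mul_le_mul (by omega) h2
        omega
      omega
    rcases h3 with rfl | rfl
    · obtain rfl : n₂ = 4 := by omega
      exact hten b f₁ f₂ h20 hf₁ hf₂ hform hkr
    · obtain rfl : n₂ = 3 := by omega
      exact hten (b.reindex (Equiv.prodComm _ _)) f₂ f₁ h20 hf₂ hf₁ (form_swap b hform) (fun h hh => by
        obtain ⟨A, N, hk⟩ := hkr h hh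
        exact ⟨N, A, KA_swap b hk⟩)
  | sub F₀ r P ζ hr hc hζ hS hirr h =>
    exact hsub F₀ r P ζ hr hc hζ hS (sub_out hQ hn hH hr hc h)
  | st k R h20 hk hcard hal hc hRH hR h =>
    rw [hc12] at hcard
    have h5 : 3 ∣ 2 ^ k := by rw [← hcard]; decide
    have := Nat.prime_three.dvd_of_dvd_pow h5
    omega
  | tw m t b ε₁ f₁ hf₁ hε hm ht c hc hform h20 hTW hirr =>
    have hb := Module.finrank_eq_card_basis b
    rw [Module.finrank_fintype_fun_eq_card, hc12] at hb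
    simp only [Fintype.card_pi, Fintype.card_fin, Finset.prod_const, Finset.card_univ] at hb
    have h5 : 3 ∣ m ^ t := by rw [← hb]; decide
    have h6 := Nat.prime_three.dvd_of_dvd_pow h5
    have h7 : 3 ^ 2 ∣ m ^ t := dvd_trans (pow_dvd_pow 3 ht) (pow_dvd_pow_of_dvd h6 t)
    rw [← hb] at h7
    omega

end Cfsg.Agent.S5871
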