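import Cfsg.Agent.EqBase
import Cfsg.Agent.LibOmE18

set_option autoImplicit false
open Cfsg

namespace Cfsg.Agent.S5874

open Module Cfsg.Geo CfsgLib.OmE CfsgLib.AschF CfsgLib.OmH12


/-- Every maximal subgroup of Ω_12^-(q) is of one of the listed geometric types or lies in the residual class. Let F be a finite field with q elements (characteristic p), Q a non-degenerate quadratic form on F^12 of minus type (Witt index 5: no totally singular 6-space), Ω the commutator subgroup of its isometry group, and H a maximal subgroup of Ω (inside GL_12(F)). Then H is the intersection with Ω of one of: the stabiliser of a non-zero totally singular subspace; for q odd, the stabiliser of a non-degenerate subspace of odd dimension; the stabiliser of a non-degenerate 2-space of minus type; for q ≥ 4, the stabiliser of a non-degenerate 2-space of plus type; the stabiliser of a non-degenerate 4-space; the stabiliser of a non-degenerate 6-space;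 for q even, the stabiliser of the span of a non-singular vector; the stabiliser of a decomposition into 3 pairwise orthogonal, pairwise isometric non-degenerate 4-spaces of minus type; the normaliser of a degree-2 subfield of the matrix algebra; the normaliser of a degree-3 subfield of the matrix algebra; for q odd with q ≥ 5, the stabiliser of a tensor decomposition of the polar form into symmetric forms on F^3 and F^4 (minus type); a subfield group (|F| = |F₀|^r, r odd prime) whose F₀-structure carries a non-zero multiple of Q — or else H lies in the residual class of the orthogonal case (modulo scalars H is almost simple, with absolutely irreducible perfect socle preimage realisable over no proper subfield and fixing no non-degenerate unitary form). -/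
theorem result {F : Type*} [Field F] [Fintype F] (Q : (Fin 12 → F) → F) (hQ : Cfsg.Geo.IsNondegenerateQuadraticForm Q) (hminus : ¬ Cfsg.Geo.IsPlusTypeOn Q ⊤) (H : Subgroup (Matrix.GeneralLinearGroup (Fin 12) F)) (hH : Cfsg.Geo.IsMaximalIn (Cfsg.Geo.omegaGL Q) H) :
    (∃ W : Submodule F (Fin 12 → F), W ≠ ⊥ ∧ Cfsg.Geo.IsTotallySingularQuad Q W ∧ H = Cfsg.Geo.subspaceStabilizer W ⊓ Cfsg.Geo.omegaGL Q) ∨
    (Odd (Fintype.card F) ∧ ∃ W : Submodule F (Fin 12 → F), W ≠ ⊥ ∧ W ≠ ⊤ ∧ Odd (Module.finrank F W) ∧ 2 * Module.finrank F W ≠ 12 ∧ Cfsg.Geo.IsNondegenerateOn (QuadraticMap.polar Q) W ∧ H = Cfsg.Geo.subspaceStabilizer W ⊓ Cfsg.Geo.omegaGL Q) ∨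
    (∃ W : Submodule F (Fin 12 → F), Module.finrank F W = 2 ∧ Cfsg.Geo.IsNondegenerateOn (QuadraticMap.polar Q) W ∧ ¬ Cfsg.Geo.IsPlusTypeOn Q W ∧ H = Cfsg.Geo.subspaceStabilizer W ⊓ Cfsg.Geo.omegaGL Q) ∨
    (4 ≤ Fintype.card F ∧ ∃ W : Submodule F (Fin 12 → F), Module.finrank F W = 2 ∧ Cfsg.Geo.IsNondegenerateOn (QuadraticMap.polar Q) W ∧ Cfsg.Geo.IsPlusTypeOn Q W ∧ H = Cfsg.Geo.subspaceStabilizer W ⊓ Cfsg.Geo.omegaGL Q) ∨
    (∃ W : Submodule F (Fin 12 → F), Module.finrank F W = 4 ∧ Cfsg.Geo.IsNondegenerateOn (QuadraticMap.polar Q) W ∧ H = Cfsg.Geo.subspaceStabilizer W ⊓ Cfsg.Geo.omegaGL Q) ∨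
    (∃ W : Submodule F (Fin 12 → F), Module.finrank F W = 6 ∧ Cfsg.Geo.IsNondegenerateOn (QuadraticMap.polar Q) W ∧ H = Cfsg.Geo.subspaceStabilizer W ⊓ Cfsg.Geo.omegaGL Q) ∨
    (¬ Odd (Fintype.card F) ∧ ∃ v : (Fin 12 → F), Q v ≠ 0 ∧ H = Cfsg.Geo.subspaceStabilizer (Submodule.span F {v}) ⊓ Cfsg.Geo.omegaGL Q) ∨
    (∃ D : Fin 3 → Submodule F (Fin 12 → F), Cfsg.Geo.IsOrthogonalMDecomposition Q 4 D ∧ (∀ i, ¬ Cfsg.Geo.IsPlusTypeOn Q (D i)) ∧ H = Cfsg.Geo.decompositionStabilizer D ⊓ Cfsg.Geo.omegaGL Q) ∨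
    (∃ K : Subalgebra F (Matrix (Fin 12) (Fin 12) F), Cfsg.Geo.IsFieldSubalgebra 2 K ∧ H = Cfsg.Geo.subalgebraNormalizer K ⊓ Cfsg.Geo.omegaGL Q) ∨
    (∃ K : Subalgebra F (Matrix (Fin 12) (Fin 12) F), Cfsg.Geo.IsFieldSubalgebra 3 K ∧ H = Cfsg.Geo.subalgebraNormalizer K ⊓ Cfsg.Geo.omegaGL Q) ∨
    (Odd (Fintype.card F) ∧ 5 ≤ Fintype.card F ∧ ∃ (e : Fin 12 ≃ Fin 3 × Fin 4) (P : Matrix.GeneralLinearGroup (Fin 12) F) (f₁ : (Fin 3 → F) → (Fin 3 → F) → F) (f₂ : (Fin 4 → F) → (Fin 4 → F) → F), Cfsg.Geo.IsSymmetricForm f₁ ∧ Cfsg.Geo.IsSymmetricForm f₂ ∧ ¬ Cfsg.Geo.IsPlusTypeOn (fun v : Fin 4 → F => f₂ v v) ⊤ ∧ Cfsg.Geo.IsTensorFormStructure id (QuadraticMap.polar Q) f₁ f₂ e P ∧ H = Cfsg.Geo.tensorProductSubgroup 3 4 e P ⊓ Cfsg.Geo.omegaGL Q) ∨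
    (∃ (F₀ : Subfield F) (r : ℕ) (P : Matrix.GeneralLinearGroup (Fin 12) F) (ζ : F), r.Prime ∧ Odd r ∧ Fintype.card F = Nat.card F₀ ^ r ∧ ζ ≠ 0 ∧ Cfsg.Geo.IsQuadFormRationalStructure (fun v : Fin 12 → F => ζ * Q v) F₀ P ∧ H = Cfsg.Geo.subfieldSubgroup F₀ P ⊓ Cfsg.Geo.omegaGL Q) ∨
    Cfsg.Geo.InOrthogonalResidualClass H := by
  classical
  have hn : 5 ≤ Fintype.card (Fin 12) := by rw [Fintype.card_fin]; norm_num
  have hP := omega_pres hH.1.le
  have hc12 : Fintype.card (Fin 12) = 12 := Fintype.card_fin 12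
  by_contra hgoal
  rcases aschQ (by omega) hQ H hP with hcls | hres
  swap
  · exact hgoal (Or.inr (Or.inr (Or.inr (Or.inr (Or.inr (Or.inr (Or.inr (Or.inr (Or.inr (Or.inr (Or.inr (Or.inr (hres)))))))))))))
  have h34 : ∀ D : Fin 3 → Submodule F (Fin 12 → F), IsOrthogonalMDecomposition Q 4 D → H ≤ decompositionStabilizer D → False := by
    intro D hD h
    rcases plus_or_minus hD with hp | hp
    · exact hminus (sum_plus hQ hD.decomp hp)
    · exact hgoal (Or.inr (Or.inr (Or.inr (Or.inr (Or.inr (Or.inr (Or.inr (Or.inl ⟨D, hD, hp, dec_out hQ hn hH hD.decomp (by omega) h⟩))))))))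
  have hten : ∀ (b : Basis (Fin 3 × Fin (2 * 2)) F (Fin 12 → F))
      (f₁ : (Fin 3 → F) → (Fin 3 → F) → F) (f₂ : (Fin (2 * 2) → F) → (Fin (2 * 2) → F) → F) (h20 : (2 : F) ≠ 0)
      (hf₁ : FD (RingEquiv.refl F) 1 f₁) (hf₂ : FD (RingEquiv.refl F) 1 f₂)
      (hform : ∀ i l j l', QuadraticMap.polar Q (b (i, l)) (b (j, l')) = gramMatrix f₁ i j * gramMatrix f₂ l l')
      (hirr : ActsIrreducibly (matrixSet H))
      (hkr : ∀ h ∈ H, ∃ (A : (Matrix (Fin 3) (Fin 3) F)ˣ) (N : (Matrix (Fin (2 * 2)) (Fin (2 * 2)) F)ˣ),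
        KA b (h : Matrix (Fin 12) (Fin 12) F) A.1 N.1), False := by
    intro b f₁ f₂ h20 hf₁ hf₂ hform hirr hkr
    have hodd := odd_two h20
    have h2le := card_two_le (F := F)
    have hq : Fintype.card F = 3 ∨ 5 ≤ Fintype.card F := by
      obtain ⟨s, hs⟩ := hodd
      omega
    rcases hq with hq | hq
    · obtain ⟨D, hD, h⟩ := tpS_three hq hQ hP (by norm_num) b hf₁ hf₂ hform hkr
      exact h34 D (dec_isometric hP hirr hD h) h
    · obtain ⟨e, P, h1, h2, _⟩ := tp_output hQ b hform hkr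
      have h3 := (not_congr (tpS_type hQ h20 (m := 2) (by norm_num) b hf₁ hf₂ hform)).1 hminus
      exact hgoal (Or.inr (Or.inr (Or.inr (Or.inr (Or.inr (Or.inr (Or.inr (Or.inr (Or.inr (Or.inr (Or.inl ⟨hodd, hq, e, P, f₁, f₂, symm_of_fd hf₁, symm_of_fd hf₂, h3, h1, tp_out hQ hn hH (by norm_num) (by norm_num) h2⟩)))))))))))
  cases hcls with
  | sing W h0 hs h =>
    exact hgoal (Or.inl ⟨W, h0, hs, sing_out hQ hn hH h0 hs h⟩)
  | vec v h2 hv h =>
    exact hgoal (Or.inr (Or.inr (Or.inr (Or.inr (Or.inr (Or.inr (Or.inl ⟨not_odd_of_two h2, v, hv, vec_out hQ hn hH hv h⟩)))))))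
  | nond W h0 hs hd h =>
    rcases nond_out hQ hn hH h0 hs hd h with ⟨ho, W, a, b, c, d, e, f⟩ | ⟨W, a, b, c, d⟩ | ⟨hq, W, a, b, c, d⟩ | ⟨W, ⟨s, hs⟩, b, c, d, e⟩ | ⟨ho, v, a, b⟩
    · exact hgoal (Or.inr (Or.inl ⟨ho, W, a, b, c, by omega, e, f⟩))
    · exact hgoal (Or.inr (Or.inr (Or.inl ⟨W, a, b, c, d⟩)))
    · exact hgoal (Or.inr (Or.inr (Or.inr (Or.inl ⟨hq, W, a, b, c, d⟩))))
    · exact hgoal (Or.inr (Or.inr (Or.inr (Or.inr (Or.inl ⟨W, by omega, d, e⟩)))))
    · exact hgoal (Or.inr (Or.inr (Or.inr (Or.inr (Or.inr (Or.inr (Or.inl ⟨ho, v, a, b⟩)))))))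
  | half k D hD h =>
    have ht := CfsgLib.AschNum.dec_mul hD.decomp
    obtain rfl : k = 6 := by omega
    by_cases hi : AreIsometricFor Q (D 0) (D 1)
    · have hall : IsOrthogonalMDecomposition Q (2 * 3) D := by
        refine ⟨hD, fun i j => ?_⟩
        fin_cases i <;> fin_cases j
        · exact ⟨LinearEquiv.refl F _, fun _ => rfl⟩
        · exact hi
        · exact isometric_symm hi
        · exact ⟨LinearEquiv.refl F _, fun _ => rfl⟩
      exact hminus (pairs_plus hQ (t := 1) rfl hall)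
    · have hst := half_stab hP hD.decomp hi h
      have hfr := hD.decomp.finrank_eq 0
      have hb : D 0 ≠ ⊥ := by
        intro hb
        rw [hb, finrank_bot] at hfr
        omega
      exact hgoal (Or.inr (Or.inr (Or.inr (Or.inr (Or.inr (Or.inl ⟨D 0, hfr, hD.nondegenerate 0, stab_out hQ hn hH hb (ne_top_of hQ hn hH (by omega)) hst⟩))))))
  | dec t k D hD hirr h =>
    have ht := CfsgLib.AschNum.dec_mul hD.decomp.decomp
    rw [hc12] at ht
    have h2t := hD.decomp.decomp.two_le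
    have htd : t ∣ 12 := ⟨k, ht.symm⟩
    have htm : t ∈ Nat.divisors 12 := Nat.mem_divisors.2 ⟨htd, by norm_num⟩
    have htc : t = 1 ∨ t = 2 ∨ t = 3 ∨ t = 4 ∨ t = 6 ∨ t = 12 := by
      have : Nat.divisors 12 = {1, 2, 3, 4, 6, 12} := by decide
      rw [this] at htm
      simpa using htm
    rcases htc with rfl | rfl | rfl | rfl | rfl | rfl
    · omega
    · obtain rfl : k = 2 * 3 := by omega
      exact hminus (pairs_plus hQ (t := 1) rfl hD)
    · obtain rfl : k = 4 := by omega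
      exact h34 D hD h
    · exact hminus (four_plus hQ (t := 1) rfl hD)
    · obtain rfl : k = 2 * 1 := by omega
      exact hminus (pairs_plus hQ (t := 3) rfl hD)
    · exact hminus (four_plus hQ (t := 3) rfl hD)
  | pair k D hD hs hirr h =>
    have hk := mdec_card hD
    exact hminus (plus_of_half (hs 0) (by rw [hD.finrank_eq]; exact hk))
  | fld r K hr hK h ha hc hirr =>
    have hdvd := CfsgLib.AschNum.fld_dvd hK
    rw [hc12] at hdvd
    have hrc : r = 2 ∨ r = 3 := by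
      have h1 : r ∣ 2 ^ 2 * 3 := hdvd
      rcases (Nat.Prime.dvd_mul hr).1 h1 with h3 | h3
      · exact Or.inl ((Nat.prime_dvd_prime_iff_eq hr Nat.prime_two).1 (hr.dvd_of_dvd_pow h3))
      · exact Or.inr ((Nat.prime_dvd_prime_iff_eq hr Nat.prime_three).1 h3)
    rcases hrc with rfl | rfl
    · exact hgoal (Or.inr (Or.inr (Or.inr (Or.inr (Or.inr (Or.inr (Or.inr (Or.inr (Or.inl ⟨K, hK, fld_out hQ hn hH hr hK h⟩)))))))))
    · exact hgoal (Or.inr (Or.inr (Or.inr (Or.inr (Or.inr (Or.inr (Or.inr (Or.inr (Or.inr (Or.inl ⟨K, hK, fld_out hQ hn hH hr hK h⟩))))))))))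
  | tpA n₁ n₂ b f₁ f₂ h1 h2 hf₁ hf₂ hform hQt hirr hkr =>
    have hb := card_of_basis b
    rw [hc12] at hb
    obtain ⟨a, ha⟩ := symp_even hf₁
    obtain ⟨c, hc⟩ := symp_even hf₂
    have hac : a * c = 3 := by
      have : 12 = 4 * (a * c) := by rw [hb, ha, hc]; ring
      omega
    have ha2 : a = 1 ∨ a = 3 := by
      have : a ∣ 3 := ⟨c, hac.symm⟩
      exact (Nat.dvd_prime Nat.prime_three).1 this
    rcases ha2 with rfl | rfl
    · subst ha
      exact hminus (tpA_plus b hQt)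
    · obtain rfl : c = 1 := by omega
      subst hc
      exact hminus (tpA_plus' b hQt)
  | tpS n₁ n₂ b f₁ f₂ h20 h1 h2 hf₁ hf₂ hform hirr hkr =>
    have hb := card_of_basis b
    rw [hc12] at hb
    have h3 : n₁ = 3 ∨ n₁ = 4 := by
      have h4 : n₁ ≤ 4 := by
        by_contra hcon
        have : 5 * 3 ≤ n₁ * n₂ := Nat.mul_le_mul (by omega) h2
        omega
      omega
    rcases h3 with rfl | rfl
    · obtain rfl : n₂ = 4 := by omega
      exact hten b f₁ f₂ h20 hf₁ hf₂ hform hirr hkr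
    · obtain rfl : n₂ = 3 := by omega
      exact hten (b.reindex (Equiv.prodComm _ _)) f₂ f₁ h20 hf₂ hf₁ (form_swap b hform) hirr (fun h hh => by
        obtain ⟨A, N, hk⟩ := hkr h hh
        exact ⟨N, A, KA_swap b hk⟩)
  | sub F₀ r P ζ hr hc hζ hS hirr h =>
    rcases hr.eq_two_or_odd' with h6 | h6
    · subst h6
      exact hminus (sub_two_plus hQ (by rw [hc12]; decide) (by rw [Nat.card_eq_fintype_card]; exact hc) hζ hS)
    · exact hgoal (Or.inr (Or.inr (Or.inr (Or.inr (Or.inr (Or.inr (Or.inr (Or.inr (Or.inr (Or.inr (Or.inr (Or.inl ⟨F₀, r, P, ζ, hr, h6, hc, hζ, hS, sub_out hQ hn hH hr hc h⟩))))))))))))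
  | st k R h20 hk hcard hal hc hRH hR h =>
    rw [hc12] at hcard
    have h5 : 3 ∣ 2 ^ k := by rw [← hcard]; decide
    have := Nat.prime_three.dvd_of_dvd_pow h5
    omega
  | tw m t b ε₁ f₁ hf₁ hε hm ht c hc hform h20 hTW hirr =>
    have hb := Module.finrank_eq_card_basis b
    rw [Module.finrank_fintype_fun_eq_card, hc12] at hb
    simp only [Fintype.card_pi, Fintype.card_fin, Finset.prod_const, Finset.card_univ] at hb
    have h5 : 3 ∣ m ^ t := by rw [← hb]; decide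
    have h6 := Nat.prime_three.dvd_of_dvd_pow h5
    have h7 : 3 ^ 2 ∣ m ^ t := dvd_trans (pow_dvd_pow 3 ht) (pow_dvd_pow_of_dvd h6 t)
    rw [← hb] at h7
    omega

end Cfsg.Agent.S5874
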