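import Cfsg.Statements.S5890
import Mathlib
import Mathlib
import Cfsg.Agent.LibDkKK29

set_option autoImplicit false
open Cfsg

namespace Cfsg.Agent.S5890

open CfsgLib.Dk29 MulAction Matrix OnePoint
open scoped MatrixGroups

theorem transfer {F : Type*} [Field F] (M : Subgroup PGL(2, F))
    (h : IsCoatom (M.comap (ProjectiveSpecialLinearGroup.toPGL : ProjectiveSpecialLinearGroup (Fin 2) F →* PGL(2, F)))) :
    IsCoatom ((M ⊓ LL F).subgroupOf (LL F)) := by
  have h1 : (M ⊓ LL F).subgroupOf (LL F) = (pslEquivLL (F := F)).mapSubgroup (M.comap (ProjectiveSpecialLinearGroup.toPGL : ProjectiveSpecialLinearGroup (Fin 2) F →* PGL(2, F))) := by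
    ext y
    constructor
    · intro hy
      refine ⟨(pslEquivLL (F := F)).symm y, ?_, (pslEquivLL (F := F)).apply_symm_apply y⟩
      show ProjectiveSpecialLinearGroup.toPGL ((pslEquivLL (F := F)).symm y) ∈ M
      rw [toPGL_symm]
      exact hy.1
    · rintro ⟨x, hx, rfl⟩
      refine ⟨?_, (pslEquivLL (F := F) x).2⟩
      exact hx
  rw [h1, OrderIso.isCoatom_iff]
  exact h

theorem odd_case {F : Type*} [Field F]
    [Fintype F] (hodd : Odd (Fintype.card F)) (h4 : 4 ≤ Fintype.card F) (h7 : Fintype.card F ≠ 7) (h9 : Fintype.card F ≠ 9) (h11 : Fintype.card F ≠ 11)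
    (h40 : (Fintype.card F).Prime → Fintype.card F % 40 ∉ ({11, 19, 21, 29} : Finset ℕ))
    (M : Subgroup PGL(2, F)) (hM : IsCoatom M) (hML : ¬ LL F ≤ M) :
    IsCoatom (M.comap (ProjectiveSpecialLinearGroup.toPGL : ProjectiveSpecialLinearGroup (Fin 2) F →* PGL(2, F))) := by
  classical
  have h5 : 5 ≤ Fintype.card F := by obtain ⟨c, hc⟩ := hodd; omega
  have hnle := not_le_LL hodd M hM hML
  have hodd' := Nat.odd_iff.mp hodd
  have hpi : Function.Injective (ProjectiveSpecialLinearGroup.toPGL : ProjectiveSpecialLinearGroup (Fin 2) F →* PGL(2, F)) := ProjectiveSpecialLinearGroup.toPGL_injective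
  have hgcd : Nat.gcd 2 (Fintype.card F - 1) = 2 := by
    rcases gcd_cases _ (Fintype.one_lt_card (α := F)) with ⟨-, h⟩ | ⟨h, -⟩
    · exact absurd h (Nat.not_even_iff_odd.mpr hodd)
    · exact h
  rcases pgl_max hodd (by omega) M hM hML with ⟨-, x, rfl⟩ | ⟨hne5, ⟨e⟩⟩ | ⟨⟨e⟩⟩ | ⟨hp, h8, ⟨e⟩⟩ | ⟨k, r, hr, hro, hkr, ⟨g, hg⟩, -⟩
  · exact bor_coatom x
  · obtain ⟨T, hT⟩ := dih_comap hodd h5 M hnle (Fintype.card F - 1) (by omega) (Or.inl rfl) e
    apply tor1_coatom _ T _ (by rw [hgcd]; exact hT)
    simp only [Finset.mem_insert, Finset.mem_singleton, not_or]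
    omega
  · obtain ⟨T, hT⟩ := dih_comap hodd h5 M hnle (Fintype.card F + 1) (by omega) (Or.inr rfl) e
    apply tor2_coatom _ T _ (by rw [hgcd]; exact hT)
    · rw [hgcd]; omega
    · simp only [Finset.mem_insert, Finset.mem_singleton, not_or]
      omega
  · obtain ⟨V, hV, hVL, hMV⟩ := s4_norm hodd M e
    have h2 : (V.comap (ProjectiveSpecialLinearGroup.toPGL : ProjectiveSpecialLinearGroup (Fin 2) F →* PGL(2, F))).map ProjectiveSpecialLinearGroup.toPGL = V := by
      rw [Subgroup.map_comap_eq, toPGL_range, inf_eq_right.mpr hVL]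
    have hV1 : IsKleinFour (V.comap (ProjectiveSpecialLinearGroup.toPGL : ProjectiveSpecialLinearGroup (Fin 2) F →* PGL(2, F))) := klein_of_map _ hpi _ (by rw [h2]; exact hV)
    have hMc : Nat.card M = 24 := by rw [Nat.card_congr e.toEquiv, card_s4]
    have hc := card_comap_two hodd M hnle
    have h12 := psl_norm_twelve h8 _ hV1
    have hle : Subgroup.normalizer ((V.comap (ProjectiveSpecialLinearGroup.toPGL : ProjectiveSpecialLinearGroup (Fin 2) F →* PGL(2, F)) : Subgroup (ProjectiveSpecialLinearGroup (Fin 2) F)) : Set (ProjectiveSpecialLinearGroup (Fin 2) F)) ≤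
        M.comap (ProjectiveSpecialLinearGroup.toPGL : ProjectiveSpecialLinearGroup (Fin 2) F →* PGL(2, F)) := by
      intro x hx
      have h3 := Subgroup.le_normalizer_map (H := V.comap (ProjectiveSpecialLinearGroup.toPGL : ProjectiveSpecialLinearGroup (Fin 2) F →* PGL(2, F))) ProjectiveSpecialLinearGroup.toPGL (Subgroup.mem_map_of_mem _ hx)
      rw [h2, ← hMV] at h3
      exact h3
    have heq := Subgroup.eq_of_le_of_card_ge hle (by rw [h12]; omega)
    rw [← heq]
    haveI := Fact.mk hp
    have h40' := h40 hp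
    simp only [Finset.mem_insert, Finset.mem_singleton, not_or] at h40'
    apply norm_coatom (Fintype.card F) rfl h5 h8 _ _ hV1
    omega
  · have hko : Odd (Nat.card k) := odd_subfield hodd k
    have hr2 : r ≠ 2 := by rintro rfl; exact absurd hro (by decide)
    have hc := card_comap_two hodd M hnle
    obtain ⟨B, hB1, hB2⟩ := exists_sub k g
    have hle : B ≤ M.comap (ProjectiveSpecialLinearGroup.toPGL : ProjectiveSpecialLinearGroup (Fin 2) F →* PGL(2, F)) := by
      intro x hx
      obtain ⟨y, -, hy⟩ := (hB2 x).mp hx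
      exact (hg _).mpr ⟨y, hy⟩
    obtain ⟨hMc, -⟩ := pgl_sub_eq M hM k (by
      rw [← hkr]
      calc Nat.card k = Nat.card k ^ 1 := (pow_one _).symm
        _ < _ := Nat.pow_lt_pow_right Finite.one_lt_card hr.one_lt) g (fun x hx => (hg x).mp hx)
    have hkc := psl_odd_card (F := k) (by rw [← Nat.card_eq_fintype_card]; exact hko)
    rw [← Nat.card_eq_fintype_card (α := k)] at hkc
    have heq : B = M.comap (ProjectiveSpecialLinearGroup.toPGL : ProjectiveSpecialLinearGroup (Fin 2) F →* PGL(2, F)) := by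
      apply Subgroup.eq_of_le_of_card_ge hle
      rw [hB1]; omega
    rw [← heq]
    -- `B ≃* PSL_2(k)`
    obtain ⟨j, hj⟩ := exists_descent (ProjectiveSpecialLinearGroup.toPGL.comp B.subtype) k g (fun h => by
      obtain ⟨y, -, hy⟩ := (hB2 h).mp h.2
      exact ⟨y, hy⟩)
    have hji := descent_injective (ProjectiveSpecialLinearGroup.toPGL.comp B.subtype) (hpi.comp B.subtype_injective) k g j hj
    obtain ⟨eB⟩ := iso_psl j hji (by rw [← Nat.card_eq_fintype_card]; exact hko) (by
      rw [hB1, ← Nat.card_eq_fintype_card (α := k)]; exact hkc)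
    exact sub_coatom (Nat.card k) r (by rw [← Nat.card_eq_fintype_card]) hkr.symm hko hr hr2 B eB.symm

/-- Let F be a finite field with q ≥ 4 elements, let L ≤ PGL₂(F) be the image of SL₂(F) (a copy of PSL₂(F), of index gcd(2, q − 1)), and let M be a maximal subgroup of PGL₂(F) that does not contain L. Suppose q ∉ {7, 9, 11} and that q is not a prime congruent to ±11 or ±19 modulo 40. Then M ∩ L is a maximal subgroup of L. (For the excluded q there are maximal subgroups of PGL₂(q) — dihedral groups of order 12 and 16 at q = 7, of order 20 and 16 at q = 9, of order 20 at q = 11, and S₄ at the excluded primes — whose intersection with L is not maximal in L.) -/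
theorem result {F : Type*} [Field F]
    [Fintype F] (h4 : 4 ≤ Fintype.card F) (h7 : Fintype.card F ≠ 7) (h9 : Fintype.card F ≠ 9) (h11 : Fintype.card F ≠ 11)
    (h40 : (Fintype.card F).Prime → Fintype.card F % 40 ∉ ({11, 19, 21, 29} : Finset ℕ))
    (M : Subgroup (Matrix.ProjGenLinGroup (Fin 2) F)) (hM : IsCoatom M)
    (hML : ¬ (Matrix.ProjGenLinGroup.mk.comp Matrix.SpecialLinearGroup.toGL).range ≤ M) :
    IsCoatom ((M ⊓ (Matrix.ProjGenLinGroup.mk.comp Matrix.SpecialLinearGroup.toGL).range).subgroupOf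
      (Matrix.ProjGenLinGroup.mk.comp Matrix.SpecialLinearGroup.toGL).range) := by
  change IsCoatom ((M ⊓ LL F).subgroupOf (LL F))
  apply transfer
  rcases Nat.even_or_odd (Fintype.card F) with hev | hodd
  · -- `PSL_2 = PGL_2`
    have hbij : Function.Bijective (ProjectiveSpecialLinearGroup.toPGL : ProjectiveSpecialLinearGroup (Fin 2) F →* PGL(2, F)) := by
      refine ⟨ProjectiveSpecialLinearGroup.toPGL_injective, ?_⟩
      rw [← MonoidHom.range_eq_top, toPGL_range]
      exact LL_top hev
    have h1 : M.comap (ProjectiveSpecialLinearGroup.toPGL : ProjectiveSpecialLinearGroup (Fin 2) F →* PGL(2, F)) =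
        (MulEquiv.ofBijective _ hbij).symm.mapSubgroup M := by
      ext x
      constructor
      · intro hx
        exact ⟨_, hx, (MulEquiv.ofBijective _ hbij).symm_apply_apply x⟩
      · rintro ⟨y, hy, rfl⟩
        show ProjectiveSpecialLinearGroup.toPGL ((MulEquiv.ofBijective _ hbij).symm y) ∈ M
        have h2 : (MulEquiv.ofBijective _ hbij) ((MulEquiv.ofBijective _ hbij).symm y) = y := (MulEquiv.ofBijective _ hbij).apply_symm_apply y
        have h3 : ProjectiveSpecialLinearGroup.toPGL ((MulEquiv.ofBijective _ hbij).symm y) = y := h2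
        rw [h3]; exact hy
    rw [h1, OrderIso.isCoatom_iff]
    exact hM
  · exact odd_case hodd h4 h7 h9 h11 h40 M hM hML

end Cfsg.Agent.S5890
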