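import Cfsg.Statements.S5892
import Mathlib
import Mathlib
import Cfsg.Agent.LibDkII29

set_option autoImplicit false
open Cfsg

namespace Cfsg.Agent.S5892

open CfsgLib.Dk29 MulAction Matrix OnePoint
open scoped MatrixGroups

/-- Let F be a finite field of odd order q ≥ 5 and characteristic p, and let M be a maximal subgroup of PSL₂(F). Then one of the following holds: |M| = q(q − 1)/2 (the stabiliser of a point of the projective line); q ≥ 13 and M is dihedral of order q − 1; q ∉ {7, 9} and M is dihedral of order q + 1; q = q₀² and M ≅ PGL₂(F₀) with |F₀| = q₀; q = q₀^r for an odd prime r and M ≅ PSL₂(F₀) with |F₀| = q₀; q ≡ ±1 (mod 10) with q = p or q = p², p ≡ ±3 (mod 10), and M ≅ A₅; q = p ≡ ±3 (mod 8), q ≢ ±1 (mod 10), and M ≅ A₄; or q = p ≡ ±1 (mod 8) and M ≅ S₄. -/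
theorem result {F : Type*} [Field F] [Fintype F] (p : ℕ)
    [Fact p.Prime] [CharP F p] (hodd : Odd (Fintype.card F)) (h5 : 5 ≤ Fintype.card F)
    (M : Subgroup (Matrix.ProjectiveSpecialLinearGroup (Fin 2) F)) (hM : IsCoatom M) :
    2 * Nat.card M = Fintype.card F * (Fintype.card F - 1) ∨
    (13 ≤ Fintype.card F ∧ (∃ k : ℕ, 2 * k = Fintype.card F - 1 ∧ Nonempty (M ≃* DihedralGroup k))) ∨
    (Fintype.card F ≠ 7 ∧ Fintype.card F ≠ 9 ∧ (∃ k : ℕ, 2 * k = Fintype.card F + 1 ∧ Nonempty (M ≃* DihedralGroup k))) ∨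
    (∃ (F₀ : Type) (_ : Field F₀) (_ : Fintype F₀), Fintype.card F = Fintype.card F₀ ^ 2 ∧
        Nonempty (M ≃* Matrix.ProjGenLinGroup (Fin 2) F₀)) ∨
    (∃ (F₀ : Type) (_ : Field F₀) (_ : Fintype F₀) (r : ℕ), r.Prime ∧ Odd r ∧ Fintype.card F = Fintype.card F₀ ^ r ∧
        Nonempty (M ≃* Matrix.ProjectiveSpecialLinearGroup (Fin 2) F₀)) ∨
    ((Fintype.card F % 10 = 1 ∨ Fintype.card F % 10 = 9) ∧
        (Fintype.card F = p ∨ (Fintype.card F = p ^ 2 ∧ (p % 10 = 3 ∨ p % 10 = 7))) ∧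
        Nonempty (M ≃* alternatingGroup (Fin 5))) ∨
    (Fintype.card F = p ∧ (p % 8 = 3 ∨ p % 8 = 5) ∧ ¬ (p % 10 = 1 ∨ p % 10 = 9) ∧
        Nonempty (M ≃* alternatingGroup (Fin 4))) ∨
    (Fintype.card F = p ∧ (p % 8 = 1 ∨ p % 8 = 7) ∧ Nonempty (M ≃* Equiv.Perm (Fin 4))) := by
  classical
  have hq1 : 1 < Fintype.card F := Fintype.one_lt_card
  have hgcd : Nat.gcd 2 (Fintype.card F - 1) = 2 := by
    rcases gcd_cases _ hq1 with ⟨-, h⟩ | ⟨h, -⟩
    · exact absurd h (Nat.not_even_iff_odd.mpr hodd)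
    · exact h
  have hcard := psl_odd_card hodd
  have hinj : Function.Injective (ProjectiveSpecialLinearGroup.toPGL : ProjectiveSpecialLinearGroup (Fin 2) F →* PGL(2, F)) := ProjectiveSpecialLinearGroup.toPGL_injective
  obtain ⟨T₁, N₁, T₂, N₂, hT⟩ := exists_tori (ProjectiveSpecialLinearGroup.toPGL : ProjectiveSpecialLinearGroup (Fin 2) F →* PGL(2, F)) hinj (by rw [toPGL_range]) 2 hcard
  have hG1 : 2 * ((Fintype.card F + 1) / 2) < Nat.card (ProjectiveSpecialLinearGroup (Fin 2) F) := by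
    have h1 : 2 * (Fintype.card F + 1) < Fintype.card F * ((Fintype.card F - 1) * (Fintype.card F + 1)) := by
      calc 2 * (Fintype.card F + 1) < (5 * 4) * (Fintype.card F + 1) := by omega
        _ ≤ (Fintype.card F * (Fintype.card F - 1)) * (Fintype.card F + 1) := Nat.mul_le_mul_right _ (Nat.mul_le_mul h5 (by omega))
        _ = _ := by ring
    omega
  have hsub : SubOut M → (∃ (F₀ : Type) (_ : Field F₀) (_ : Fintype F₀), Fintype.card F = Fintype.card F₀ ^ 2 ∧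
        Nonempty (M ≃* Matrix.ProjGenLinGroup (Fin 2) F₀)) ∨
    (∃ (F₀ : Type) (_ : Field F₀) (_ : Fintype F₀) (r : ℕ), r.Prime ∧ Odd r ∧ Fintype.card F = Fintype.card F₀ ^ r ∧
        Nonempty (M ≃* Matrix.ProjectiveSpecialLinearGroup (Fin 2) F₀)) := by
    rintro (⟨k, hk, ⟨e⟩⟩ | ⟨k, r, hr, hro, hk, ⟨e⟩⟩)
    · left
      obtain ⟨K, i1, i2, hK, ⟨eK⟩⟩ := exists_type_copy k
      rw [← Nat.card_eq_fintype_card (α := k)] at hK
      exact ⟨K, i1, i2, by rw [hK, hk], ⟨e.trans (pglCongr eK)⟩⟩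
    · right
      obtain ⟨K, i1, i2, hK, ⟨eK⟩⟩ := exists_type_copy k
      rw [← Nat.card_eq_fintype_card (α := k)] at hK
      exact ⟨K, i1, i2, r, hr, hro, by rw [hK, hk], ⟨e.trans (pslCongr eK)⟩⟩
  rcases psl_cases M hM.1 with ⟨hc, hd⟩ | ⟨n, hn, hnd, ⟨e⟩⟩ | ⟨x, hx⟩ | ⟨⟨e⟩⟩ | ⟨⟨e⟩⟩ | ⟨⟨e⟩⟩ | ⟨k, m, hk4, hm2, hkm, ⟨g, hg⟩, hc⟩
  · rw [hgcd] at hd
    exact (not_max_cyc hinj hT hG1 M hM hc hd).elim
  · rw [hgcd] at hnd
    obtain ⟨e2, e7, e9, e11⟩ := excl_dih hodd h5 M hM n e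
    have hodd' := Nat.odd_iff.mp hodd
    rcases max_dih hinj hT hG1 M hM n (by omega) hnd e with ⟨-, h⟩ | h
    · right; left
      have h2n : 2 * n = Fintype.card F - 1 := by omega
      refine ⟨?_, n, h2n, ⟨e⟩⟩
      by_contra hlt
      have hcases : Fintype.card F = 5 ∨ Fintype.card F = 7 ∨ Fintype.card F = 9 ∨ Fintype.card F = 11 := by omega
      rcases hcases with h | h | h | h
      · omega
      · have := e7 h; omega
      · have := e9 h; omega
      · have := e11 h; omega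
    · right; right; left
      have h2n : 2 * n = Fintype.card F + 1 := by omega
      exact ⟨fun h => by have := e7 h; omega, fun h => by have := e9 h; omega, n, h2n, ⟨e⟩⟩
  · left
    have h1 : M ≤ bor x := fun h hh => (mem_bor x h).mpr (hx h hh)
    have h2 : bor x ≠ ⊤ := by
      intro h
      have := bor_index x
      rw [h, Subgroup.index_top] at this
      omega
    have h3 : M = bor x := by
      by_contra hne
      exact h2 (hM.2 _ (lt_of_le_of_ne h1 hne))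
    have h4 := bor_card' x
    rw [hgcd, ← h3] at h4
    exact h4
  · rcases a4_case p hodd h5 M hM e with h | h
    · rcases hsub h with h' | h'
      · exact Or.inr (Or.inr (Or.inr (Or.inl h')))
      · exact Or.inr (Or.inr (Or.inr (Or.inr (Or.inl h'))))
    · exact Or.inr (Or.inr (Or.inr (Or.inr (Or.inr (Or.inr (Or.inl ⟨h.1, h.2.1, h.2.2, ⟨e⟩⟩))))))
  · rcases s4_case p hodd h5 M hM e with h | h
    · rcases hsub h with h' | h'
      · exact Or.inr (Or.inr (Or.inr (Or.inl h')))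
      · exact Or.inr (Or.inr (Or.inr (Or.inr (Or.inl h'))))
    · exact Or.inr (Or.inr (Or.inr (Or.inr (Or.inr (Or.inr (Or.inr ⟨h.1, h.2, ⟨e⟩⟩))))))
  · rcases a5_case p hodd h5 M hM e with h | h
    · rcases hsub h with h' | h'
      · exact Or.inr (Or.inr (Or.inr (Or.inl h')))
      · exact Or.inr (Or.inr (Or.inr (Or.inr (Or.inl h'))))
    · exact Or.inr (Or.inr (Or.inr (Or.inr (Or.inr (Or.inl ⟨h.1, h.2, ⟨e⟩⟩)))))
  · rcases hsub (sub_case_final hodd h5 M hM k m hm2 hkm g (fun x hx => hg ⟨x, hx⟩) hc) with h' | h'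
    · exact Or.inr (Or.inr (Or.inr (Or.inl h')))
    · exact Or.inr (Or.inr (Or.inr (Or.inr (Or.inl h'))))

end Cfsg.Agent.S5892
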