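import Cfsg.Statements.S5893
import Mathlib
import Mathlib
import Cfsg.Agent.LibDkDD29

set_option autoImplicit false
open Cfsg

namespace Cfsg.Agent.S5893

open CfsgLib.Dk29 MulAction Matrix OnePoint
open scoped MatrixGroups

theorem aux {F : Type*} [Field F] [Fintype F] (heven : Even (Fintype.card F)) (h4 : 4 ≤ Fintype.card F)
    (M : Subgroup (Matrix.ProjectiveSpecialLinearGroup (Fin 2) F)) (hM : IsCoatom M)
    (k : Subfield F) (m : ℕ) (hk4 : 4 ≤ Nat.card k) (hm2 : 2 ≤ m) (hkm : Nat.card k ^ m = Fintype.card F)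
    (hg : ∃ g : PGL(2, F), ∀ h : M, g * (ProjectiveSpecialLinearGroup.toPGL.comp M.subtype) h * g⁻¹ ∈ (ProjGenLinGroup.map (n := Fin 2) k.subtype).range)
    (hc : Nat.card M = Nat.card k * ((Nat.card k - 1) * (Nat.card k + 1))) :
    (∃ (F₀ : Type) (_ : Field F₀) (_ : Fintype F₀) (r : ℕ), r.Prime ∧ Fintype.card F₀ ≠ 2 ∧
        Fintype.card F = Fintype.card F₀ ^ r ∧ Nonempty (M ≃* Matrix.ProjectiveSpecialLinearGroup (Fin 2) F₀)) := by
  classical
  obtain ⟨g, hg⟩ := hg
  have hke : Even (Fintype.card k) := by rw [← Nat.card_eq_fintype_card, even_iff_subfield]; exact heven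
  obtain ⟨-, hmp⟩ := sub_prime h4 M hM k m hm2 hkm g (fun x hx => by
    rw [LL_top hke, ← MonoidHom.range_eq_map]
    exact hg ⟨x, hx⟩)
  obtain ⟨j, hj⟩ := exists_descent _ k g hg
  have hji := descent_injective (ProjectiveSpecialLinearGroup.toPGL.comp M.subtype) ((show Function.Injective (ProjectiveSpecialLinearGroup.toPGL : ProjectiveSpecialLinearGroup (Fin 2) F →* PGL(2, F)) from ProjectiveSpecialLinearGroup.toPGL_injective).comp M.subtype_injective) k g j hj
  obtain ⟨e⟩ := iso_pgl j hji (by rw [← Nat.card_eq_fintype_card (α := k)]; exact hc)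
  obtain ⟨K, i1, i2, hK, ⟨eK⟩⟩ := exists_type_copy k
  rw [← Nat.card_eq_fintype_card (α := k)] at hK
  exact ⟨K, i1, i2, m, hmp, by omega, by rw [hK, hkm], ⟨(e.trans (pgl_equiv_psl hke)).trans (pslCongr eK)⟩⟩

/-- Let F be a finite field of even order q ≥ 4 and let M be a maximal subgroup of PSL₂(F) (= SL₂(F) = PGL₂(F)). Then one of the following holds: |M| = q(q − 1) (the stabiliser of a point of the projective line, elementary abelian of order q extended by a cyclic group of order q − 1); M is dihedral of order 2(q − 1); M is dihedral of order 2(q + 1); or q = q₀^r for a prime r with q₀ ≠ 2 and M ≅ PSL₂(F₀) with |F₀| = q₀. -/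
theorem result {F : Type*} [Field F] [Fintype F]
    (heven : Even (Fintype.card F)) (h4 : 4 ≤ Fintype.card F) (M : Subgroup (Matrix.ProjectiveSpecialLinearGroup (Fin 2) F)) (hM : IsCoatom M) :
    Nat.card M = Fintype.card F * (Fintype.card F - 1) ∨
    Nonempty (M ≃* DihedralGroup (Fintype.card F - 1)) ∨
    Nonempty (M ≃* DihedralGroup (Fintype.card F + 1)) ∨
    (∃ (F₀ : Type) (_ : Field F₀) (_ : Fintype F₀) (r : ℕ), r.Prime ∧ Fintype.card F₀ ≠ 2 ∧
        Fintype.card F = Fintype.card F₀ ^ r ∧ Nonempty (M ≃* Matrix.ProjectiveSpecialLinearGroup (Fin 2) F₀)) := by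
  classical
  have hq1 : 1 < Fintype.card F := Fintype.one_lt_card
  have hgcd : Nat.gcd 2 (Fintype.card F - 1) = 1 := by
    rcases gcd_cases _ hq1 with ⟨h, -⟩ | ⟨-, h⟩
    · exact h
    · exact absurd heven (Nat.not_even_iff_odd.mpr h)
  have hcard := psl_even_card' heven
  have hinj : Function.Injective (ProjectiveSpecialLinearGroup.toPGL : ProjectiveSpecialLinearGroup (Fin 2) F →* PGL(2, F)) := ProjectiveSpecialLinearGroup.toPGL_injective
  obtain ⟨T₁, N₁, T₂, N₂, hT⟩ := exists_tori (ProjectiveSpecialLinearGroup.toPGL : ProjectiveSpecialLinearGroup (Fin 2) F →* PGL(2, F)) hinj (by rw [toPGL_range]) 1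
    (by rw [one_mul]; exact hcard)
  have hG1 : 2 * ((Fintype.card F + 1) / 1) < Nat.card (ProjectiveSpecialLinearGroup (Fin 2) F) := by
    rw [hcard, Nat.div_one]
    obtain ⟨a, ha⟩ : ∃ a, Fintype.card F = a + 4 := ⟨Fintype.card F - 4, by omega⟩
    rw [ha, show a + 4 - 1 = a + 3 by omega]
    have h12 : 12 ≤ (a + 4) * (a + 3) := by nlinarith
    calc 2 * (a + 4 + 1) < 12 * (a + 4 + 1) := by omega
      _ ≤ ((a + 4) * (a + 3)) * (a + 4 + 1) := Nat.mul_le_mul_right _ h12
      _ = _ := by ring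
  have hfix : ∀ x : OnePoint F, (∀ h ∈ M, ProjectiveSpecialLinearGroup.toPGL h • x = x) → Nat.card M = Fintype.card F * (Fintype.card F - 1) := by
    intro x hx
    have h1 : M ≤ bor x := fun h hh => (mem_bor x h).mpr (hx h hh)
    have h2 : bor x ≠ ⊤ := by
      intro h
      have := bor_index x
      rw [h, Subgroup.index_top] at this
      omega
    have h3 : M = bor x := by
      by_contra hne
      exact h2 (hM.2 _ (lt_of_le_of_ne h1 hne))
    have h4 := bor_card' x
    rw [hgcd, one_mul, ← h3] at h4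
    exact h4
  have hdih : ∀ n, 2 ≤ n → (n ∣ (Fintype.card F - 1) / 1 ∨ n ∣ (Fintype.card F + 1) / 1) → Nonempty (M ≃* DihedralGroup n) →
      Nonempty (M ≃* DihedralGroup (Fintype.card F - 1)) ∨ Nonempty (M ≃* DihedralGroup (Fintype.card F + 1)) := by
    rintro n hn hnd ⟨e⟩
    have hn3 : 3 ≤ n := by
      obtain ⟨c, hc⟩ := heven
      by_contra hlt
      have h2 : n = 2 := by omega
      rw [h2, Nat.div_one, Nat.div_one] at hnd
      rcases hnd with h | h <;> omega
    rcases max_dih hinj hT hG1 M hM n hn3 hnd e with ⟨-, h⟩ | h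
    · left; rw [Nat.div_one] at h; rw [← h]; exact ⟨e⟩
    · right; rw [Nat.div_one] at h; rw [← h]; exact ⟨e⟩
  by_cases h2 : 2 ∣ Nat.card M
  · haveI : CharP F 2 := by
      obtain ⟨p, hp⟩ := CharP.exists F
      haveI hpp := Fact.mk (CharP.char_is_prime F p)
      obtain ⟨n, -, hn⟩ := FiniteField.card F p
      rw [hn] at heven
      have h5 : 2 ∣ p := Nat.prime_two.dvd_of_dvd_pow heven.two_dvd
      have h6 : 2 = p := (Nat.prime_dvd_prime_iff_eq Nat.prime_two hpp.out).mp h5
      rw [h6]; exact hp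
    rcases dickson_p 2 (ProjectiveSpecialLinearGroup.toPGL.comp M.subtype) (hinj.comp M.subtype_injective) 1 (Or.inl rfl) h2 (by norm_num) with ⟨n, hn, hnd, he⟩ | ⟨x, hx⟩ | ⟨k, hk4, hg, hc⟩
    · rcases hdih n hn hnd he with h | h
      · exact Or.inr (Or.inl h)
      · exact Or.inr (Or.inr (Or.inl h))
    · exact Or.inl (hfix x (fun h hh => hx ⟨h, hh⟩))
    · have hke : Even (Nat.card k) := by rw [even_iff_subfield]; exact heven
      replace hc := hc.resolve_right (fun h => absurd hke (Nat.not_even_iff_odd.mpr h.1))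
      have hkm := card_subfield_pow k
      have hlt : Nat.card k ≠ Fintype.card F := by
        intro h
        rw [h, ← hcard] at hc
        exact hM.1 (Subgroup.eq_top_of_card_eq _ hc)
      have hm2 : 2 ≤ Module.finrank k F := by
        by_contra hlt2
        have h6 : Module.finrank k F = 0 ∨ Module.finrank k F = 1 := by omega
        rcases h6 with h6 | h6
        · rw [h6, pow_zero] at hkm; omega
        · rw [h6, pow_one] at hkm; exact hlt hkm
      exact Or.inr (Or.inr (Or.inr (aux heven h4 M hM k _ hk4 hm2 hkm hg hc)))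
  · rcases psl_cases M hM.1 with ⟨hc, hd⟩ | ⟨n, hn, hnd, he⟩ | ⟨x, hx⟩ | ⟨⟨e⟩⟩ | ⟨⟨e⟩⟩ | ⟨⟨e⟩⟩ | ⟨k, m, hk4, hm2, hkm, hg, hc⟩
    · rw [hgcd] at hd
      exact (not_max_cyc hinj hT hG1 M hM hc hd).elim
    · rw [hgcd] at hnd
      rcases hdih n hn hnd he with h | h
      · exact Or.inr (Or.inl h)
      · exact Or.inr (Or.inr (Or.inl h))
    · exact Or.inl (hfix x hx)
    · exfalso; apply h2; rw [Nat.card_congr e.toEquiv, card_a4]; norm_num
    · exfalso; apply h2; rw [Nat.card_congr e.toEquiv, card_s4]; norm_num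
    · exfalso; apply h2; rw [Nat.card_congr e.toEquiv, card_a5]; norm_num
    · have hke : Even (Nat.card k) := by rw [even_iff_subfield]; exact heven
      replace hc := hc.resolve_right (fun h => absurd hke (Nat.not_even_iff_odd.mpr h.1))
      exact Or.inr (Or.inr (Or.inr (aux heven h4 M hM k m hk4 hm2 hkm hg hc)))

end Cfsg.Agent.S5893
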