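import Cfsg.Statements.S5896
import Mathlib
import Cfsg.Agent.S4337

set_option autoImplicit false
open Cfsg

namespace Cfsg.Agent.S5896

open scoped Pointwise

section
variable {Q X D : Type} [Group Q] [Group D]

/-- permuting coordinates -/
def act (X D : Type) [Group D] : Equiv.Perm X →* MulAut (X → D) where
  toFun σ :=
    { toFun := fun f x => f (σ⁻¹ x)
      invFun := fun f x => f (σ x)
      left_inv := fun f => by funext x; simp
      right_inv := fun f => by funext x; simp
      map_mul' := fun f g => rfl }
  map_one' := by ext f x; simp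
  map_mul' σ τ := by
    ext f x
    show f ((σ * τ)⁻¹ x) = f (τ⁻¹ (σ⁻¹ x))
    rw [mul_inv_rev]; rfl

/-- wreath product with a permutation group -/
abbrev W (X D : Type) [Group D] (Q : Subgroup (Equiv.Perm X)) := (X → D) ⋊[(act X D).comp Q.subtype] Q

variable [DecidableEq X] (Q : Subgroup (Equiv.Perm X))

theorem act_single (q : Q) (x : X) (s : D) : ((act X D).comp Q.subtype) q (Pi.mulSingle x s) = Pi.mulSingle ((q : Equiv.Perm X) x) s := by
  funext y
  show (Pi.mulSingle x s : X → D) ((q : Equiv.Perm X)⁻¹ y) = _
  by_cases hy : y = (q : Equiv.Perm X) x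
  · subst hy; simp
  · rw [Pi.mulSingle_eq_of_ne hy, Pi.mulSingle_eq_of_ne]
    intro h
    apply hy
    rw [← h]; simp

omit [DecidableEq X] in
theorem comm_inl (q : Q) (f : X → D) :
    (SemidirectProduct.inl f : W X D Q) * SemidirectProduct.inr q * (SemidirectProduct.inl f)⁻¹ * (SemidirectProduct.inr q)⁻¹ =
      SemidirectProduct.inl (f * (((act X D).comp Q.subtype) q f)⁻¹) := by
  have h1 : (SemidirectProduct.inl (((act X D).comp Q.subtype) q f⁻¹) : W X D Q) = SemidirectProduct.inr q * SemidirectProduct.inl f⁻¹ * SemidirectProduct.inr q⁻¹ := SemidirectProduct.inl_aut q _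
  have h2 : (((act X D).comp Q.subtype) q f)⁻¹ = ((act X D).comp Q.subtype) q f⁻¹ := (map_inv _ _).symm
  rw [map_mul, h2, h1]
  simp only [mul_assoc, map_inv]

theorem comm_single (q : Q) (x : X) (s : D) :
    (SemidirectProduct.inl (Pi.mulSingle x s) : W X D Q) * SemidirectProduct.inr q * (SemidirectProduct.inl (Pi.mulSingle x s))⁻¹ * (SemidirectProduct.inr q)⁻¹ =
      SemidirectProduct.inl (Pi.mulSingle x s * Pi.mulSingle ((q : Equiv.Perm X) x) s⁻¹) := by
  rw [comm_inl, act_single, Pi.mulSingle_inv]

theorem pi_solvable {ι : Type} {S : Type} [Group S] (h : Group.IsSolvable S) : Group.IsSolvable (ι → S) := by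
  obtain ⟨k, hk⟩ := (Group.isSolvable_def S).mp h
  rw [Group.isSolvable_def]
  refine ⟨k, ?_⟩
  rw [eq_bot_iff]
  intro f hf
  rw [Subgroup.mem_bot]
  funext i
  have h1 : f i ∈ derivedSeries S k := map_derivedSeries_le_derivedSeries (Pi.evalMonoidHom (fun _ => S) i) k ⟨f, hf, rfl⟩
  rw [hk, Subgroup.mem_bot] at h1
  exact h1

/-- a surjection from the base part of a subgroup raises the derived length -/
theorem dl_transfer {Γ S : Type} [Group Γ] [Group S] (N : Subgroup Γ) (f : N →* S) (hf : Function.Surjective f) (k j : ℕ) (hN : N ≤ derivedSeries Γ j)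
    (hS : derivedSeries S k ≠ ⊥) : derivedSeries Γ (j + k) ≠ ⊥ := by
  intro h
  apply hS
  have h1 : ∀ k, (derivedSeries N k).map N.subtype ≤ derivedSeries Γ (j + k) := by
    intro k
    induction k with
    | zero =>
      rw [derivedSeries_zero, ← MonoidHom.range_eq_map, Subgroup.range_subtype]; exact hN
    | succ k ih =>
      rw [derivedSeries_succ, Subgroup.map_commutator, ← add_assoc, derivedSeries_succ]
      exact Subgroup.commutator_mono ih ih
  have h2 := h1 k
  rw [h] at h2
  have h3 : derivedSeries N k = ⊥ := by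
    rw [← Subgroup.map_eq_bot_iff_of_injective _ N.subtype_injective]
    exact le_bot_iff.mp h2
  rw [← map_derivedSeries_eq hf k, h3, Subgroup.map_bot]
end

/-- solvable groups of large derived length -/
theorem exists_solvable (d : ℕ) : ∃ (S : Type) (_ : Group S) (_ : Finite S), Group.IsSolvable S ∧ derivedSeries S d ≠ ⊥ := by
  classical
  induction d with
  | zero =>
    refine ⟨Multiplicative (ZMod 2), inferInstance, inferInstance, inferInstance, ?_⟩
    rw [derivedSeries_zero]
    exact top_ne_bot
  | succ d ih =>
    obtain ⟨S, hS, hfin, hsol, hd⟩ := ih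
    let Q : Subgroup (Equiv.Perm (Fin 2)) := ⊤
    let Γ := W (Fin 2) S Q
    haveI : Finite Γ := Finite.of_equiv _ (SemidirectProduct.equivProd).symm
    haveI hsolQ : Group.IsSolvable Q := by
      haveI : Group.IsSolvable (Equiv.Perm (Fin 2)) := Cfsg.Agent.S4337.perm_solvable (Fin 2) (by simp)
      infer_instance
    haveI : Group.IsSolvable (Fin 2 → S) := pi_solvable hsol
    have hsolΓ : Group.IsSolvable Γ := by
      refine Group.isSolvable_of_ker_le_range (SemidirectProduct.inl : (Fin 2 → S) →* Γ) (SemidirectProduct.rightHom : Γ →* Q) ?_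
      rw [SemidirectProduct.range_inl_eq_ker_rightHom]
    refine ⟨Γ, inferInstance, inferInstance, hsolΓ, ?_⟩
    rw [add_comm]
    let N : Subgroup Γ := derivedSeries Γ 1 ⊓ (SemidirectProduct.rightHom : Γ →* Q).ker
    let f : N →* S :=
      { toFun := fun w => (w : Γ).left 0
        map_one' := rfl
        map_mul' := by
          intro a b
          have ha : (a : Γ).right = 1 := a.2.2
          show (((a : Γ) * (b : Γ) : Γ)).left 0 = _
          rw [SemidirectProduct.mul_left, ha]
          simp }
    refine dl_transfer N f ?_ d 1 inf_le_left hd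
    intro s
    have h1 := comm_single Q (D := S) ⟨Equiv.swap 0 1, trivial⟩ 0 s
    refine ⟨⟨SemidirectProduct.inl (Pi.mulSingle 0 s * Pi.mulSingle 1 s⁻¹), ?_, ?_⟩, ?_⟩
    · rw [derivedSeries_one]
      have h2 : (SemidirectProduct.inl (Pi.mulSingle 0 s * Pi.mulSingle 1 s⁻¹) : Γ) = SemidirectProduct.inl (Pi.mulSingle 0 s) * SemidirectProduct.inr ⟨Equiv.swap 0 1, trivial⟩ * (SemidirectProduct.inl (Pi.mulSingle 0 s))⁻¹ * (SemidirectProduct.inr ⟨Equiv.swap 0 1, trivial⟩)⁻¹ := by
        rw [h1]
        simp
      show _ ∈ (commutator Γ)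
      rw [h2, commutator_def]
      exact Subgroup.commutator_mem_commutator (Subgroup.mem_top _) (Subgroup.mem_top _)
    · exact SemidirectProduct.rightHom_inl _
    · show ((SemidirectProduct.inl (Pi.mulSingle 0 s * Pi.mulSingle 1 s⁻¹) : Γ)).left 0 = s
      simp

/-- Finite perfect groups have solvable maximal subgroups of unbounded derived length: for every d there is a finite perfect group G (equal to its commutator subgroup) with a solvable maximal subgroup H whose derived length exceeds d, i.e. the d-th term of the derived series of H is non-trivial. (Take the derived subgroup of a wreath product S ≀ A₅ with S solvable of large derived length, and H the preimage of a maximal subgroup of A₅.) -/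
theorem result (d : ℕ) :
    ∃ (G : Type) (_ : Group G) (_ : Finite G) (H : Subgroup G), commutator G = ⊤ ∧ IsCoatom H ∧ Group.IsSolvable H ∧
      derivedSeries H d ≠ ⊥ := by
  classical
  obtain ⟨S, hS, hfin, hsol, hd⟩ := exists_solvable d
  let A := alternatingGroup (Fin 5)
  let Γ := W (Fin 5) S A
  haveI : Finite Γ := Finite.of_equiv _ (SemidirectProduct.equivProd).symm
  -- stabilization
  obtain ⟨K, hK⟩ : ∃ K, derivedSeries Γ K = derivedSeries Γ (K + 1) := by
    by_contra hcon
    push Not at hcon
    have h1 : StrictAnti (fun k => derivedSeries Γ k) := by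
      apply strictAnti_nat_of_succ_lt
      intro k
      exact lt_of_le_of_ne (derivedSeries_antitone Γ (Nat.le_succ k)) (hcon k).symm
    exact not_injective_infinite_finite _ h1.injective
  let G := derivedSeries Γ K
  have hAd : ∀ k, derivedSeries A k = ⊤ := by
    intro k
    induction k with
    | zero => rfl
    | succ k ih =>
      rw [derivedSeries_succ, ih]
      exact commutator_alternatingGroup_eq_top (by simp)
  have hinr : ∀ k (a : A), (SemidirectProduct.inr a : Γ) ∈ derivedSeries Γ k := by
    intro k a
    exact map_derivedSeries_le_derivedSeries (SemidirectProduct.inr : A →* Γ) k ⟨a, by rw [hAd]; trivial, rfl⟩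
  have hinl : ∀ k (i j : Fin 5), i ≠ j → ∀ s : S, (SemidirectProduct.inl (Pi.mulSingle i s * Pi.mulSingle j s⁻¹) : Γ) ∈ derivedSeries Γ k := by
    intro k
    induction k with
    | zero => intro i j _ s; exact Subgroup.mem_top _
    | succ k ih =>
      intro i j hij s
      obtain ⟨l, hli, hlj⟩ : ∃ l : Fin 5, l ≠ i ∧ l ≠ j := by revert i j; decide
      obtain ⟨m, hmi, hmj, hml⟩ : ∃ m : Fin 5, m ≠ i ∧ m ≠ j ∧ m ≠ l := by revert i j l; decide
      let τ : Equiv.Perm (Fin 5) := Equiv.swap i j * Equiv.swap j m
      have hτ : τ ∈ A := by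
        rw [Equiv.Perm.mem_alternatingGroup, Equiv.Perm.sign_mul, Equiv.Perm.sign_swap hij, Equiv.Perm.sign_swap hmj.symm]; rfl
      have hτi : τ i = j := by
        show Equiv.swap i j (Equiv.swap j m i) = j
        rw [Equiv.swap_apply_of_ne_of_ne hij hmi.symm, Equiv.swap_apply_left]
      have hτl : τ l = l := by
        show Equiv.swap i j (Equiv.swap j m l) = l
        rw [Equiv.swap_apply_of_ne_of_ne hlj hml.symm, Equiv.swap_apply_of_ne_of_ne hli hlj]
      have h1 := ih i l hli.symm s
      have h2 := hinr k ⟨τ, hτ⟩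
      have h3 := Subgroup.commutator_mem_commutator h1 h2
      rw [derivedSeries_succ]
      have h4 := comm_inl A ⟨τ, hτ⟩ (Pi.mulSingle i s * Pi.mulSingle l s⁻¹ : Fin 5 → S)
      have h5 : (Pi.mulSingle i s * Pi.mulSingle l s⁻¹ : Fin 5 → S) * (((act (Fin 5) S).comp A.subtype) ⟨τ, hτ⟩ (Pi.mulSingle i s * Pi.mulSingle l s⁻¹))⁻¹ = Pi.mulSingle i s * Pi.mulSingle j s⁻¹ := by
        rw [map_mul, act_single, act_single]
        show (Pi.mulSingle i s * Pi.mulSingle l s⁻¹ : Fin 5 → S) * (Pi.mulSingle (τ i) s * Pi.mulSingle (τ l) s⁻¹ : Fin 5 → S)⁻¹ = _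
        rw [hτi, hτl, mul_inv_rev, ← mul_assoc, mul_inv_cancel_right, Pi.mulSingle_inv]
      rw [h5] at h4
      rw [← h4]
      exact h3
  -- the maximal subgroup
  let C : Subgroup A := MulAction.stabilizer A ({0} : Set (Fin 5))
  have hC : IsCoatom C := alternatingGroup.isCoatom_stabilizer_singleton (α := Fin 5) (by simp) (Set.singleton_nonempty 0) Set.subsingleton_singleton
  let ρ : G →* A := (SemidirectProduct.rightHom : Γ →* A).comp G.subtype
  have hρ : Function.Surjective ρ := fun a => ⟨⟨SemidirectProduct.inr a, hinr K a⟩, rfl⟩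
  let H : Subgroup G := C.comap ρ
  refine ⟨↥G, inferInstance, inferInstance, H, ?_, Subgroup.isCoatom_comap_of_surjective hρ hC, ?_, ?_⟩
  · have h1 : (commutator G).map G.subtype = (⊤ : Subgroup G).map G.subtype := by
      rw [commutator_def, Subgroup.map_commutator, ← MonoidHom.range_eq_map, Subgroup.range_subtype]
      show ⁅derivedSeries Γ K, derivedSeries Γ K⁆ = derivedSeries Γ K
      rw [← derivedSeries_succ, ← hK]
    exact Subgroup.map_injective G.subtype_injective h1
  · -- solvable
    have hCsol : Group.IsSolvable C := by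
      have h1 : Group.IsSolvable (C.map A.subtype) := by
        apply Cfsg.Agent.S4337.solv_small (n := 5) (Finset.univ.erase 0) (by simp)
        rintro _ ⟨c, hc, rfl⟩ x hx
        have hx0 : x = 0 := by simpa using hx
        have hc' : c ∈ MulAction.stabilizer A ({0} : Set (Fin 5)) := hc
        rw [MulAction.mem_stabilizer_set] at hc'
        have := (hc' 0).mpr rfl
        rw [hx0]
        exact this
      exact Group.isSolvable_of_isSolvable_injective (f := (C.equivMapOfInjective A.subtype A.subtype_injective).toMonoidHom) (MulEquiv.injective _)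
    let r : H →* C := { toFun := fun h => ⟨ρ h, h.2⟩, map_one' := by apply Subtype.ext; exact map_one ρ, map_mul' := fun a b => by apply Subtype.ext; exact map_mul ρ _ _ }
    haveI : Group.IsSolvable r.ker := by
      let l : r.ker →* (Fin 5 → S) :=
        { toFun := fun w => (((w : H) : G) : Γ).left
          map_one' := rfl
          map_mul' := by
            intro a b
            have ha : ((((a : r.ker) : H) : G) : Γ).right = 1 := congrArg Subtype.val a.2
            show ((((a : H) : G) : Γ) * (((b : H) : G) : Γ)).left = _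
            rw [SemidirectProduct.mul_left, ha]
            simp }
      haveI : Group.IsSolvable (Fin 5 → S) := pi_solvable hsol
      refine Group.isSolvable_of_isSolvable_injective (f := l) ?_
      intro a b hab
      apply Subtype.ext; apply Subtype.ext; apply Subtype.ext
      apply SemidirectProduct.ext
      · exact hab
      · have ha : ((((a : r.ker) : H) : G) : Γ).right = 1 := congrArg Subtype.val a.2
        have hb : ((((b : r.ker) : H) : G) : Γ).right = 1 := congrArg Subtype.val b.2
        rw [ha, hb]
    haveI := hCsol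
    exact Group.isSolvable_of_ker_le_range r.ker.subtype r (by rw [Subgroup.range_subtype])
  · -- derived length
    let N : Subgroup H := (ρ.comp H.subtype).ker
    let f : N →* S :=
      { toFun := fun w => (((w : H) : G) : Γ).left 0
        map_one' := rfl
        map_mul' := by
          intro a b
          have ha : ((((a : N) : H) : G) : Γ).right = 1 := a.2
          show ((((a : H) : G) : Γ) * (((b : H) : G) : Γ)).left 0 = _
          rw [SemidirectProduct.mul_left, ha]
          simp }
    have h1 := dl_transfer N f ?_ d 0 (by rw [derivedSeries_zero]; exact le_top) hd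
    · rwa [zero_add] at h1
    · intro s
      have h2 := hinl K 0 1 (by decide) s
      have h3 : ρ ⟨_, h2⟩ = 1 := rfl
      refine ⟨⟨⟨⟨_, h2⟩, ?_⟩, ?_⟩, ?_⟩
      · show ρ ⟨_, h2⟩ ∈ C
        rw [h3]; exact C.one_mem
      · exact h3
      · show ((SemidirectProduct.inl (Pi.mulSingle 0 s * Pi.mulSingle 1 s⁻¹) : Γ)).left 0 = s
        simp

end Cfsg.Agent.S5896
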