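import Cfsg.Statements.S5912
import Mathlib
import Cfsg.Agent.LibSnB29

set_option autoImplicit false
open Cfsg

namespace Cfsg.Agent.S5912



/-- The symmetric group on a 6-element set Ω has exactly two conjugacy classes of subgroups of index 6: there are two non-conjugate subgroups of index 6 (a point stabilizer and a transitive subgroup isomorphic to S₅), and every subgroup of index 6 is conjugate to one of them. -/
theorem result {Ω : Type*} [Fintype Ω] [DecidableEq Ω] (h6 : Fintype.card Ω = 6) :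
    ∃ H₁ H₂ : Subgroup (Equiv.Perm Ω), H₁.index = 6 ∧ H₂.index = 6 ∧
      (¬ ∃ g : Equiv.Perm Ω, Subgroup.map (MulAut.conj g).toMonoidHom H₁ = H₂) ∧
      ∀ H : Subgroup (Equiv.Perm Ω), H.index = 6 →
        ∃ g : Equiv.Perm Ω, Subgroup.map (MulAut.conj g).toMonoidHom H₁ = H ∨ Subgroup.map (MulAut.conj g).toMonoidHom H₂ = H := by
  classical
  obtain ⟨K, hK, hKs⟩ := CfsgLib.Sn29.exists_outer h6
  haveI : Nonempty Ω := Fintype.card_pos_iff.mp (by omega)
  obtain ⟨x₀⟩ := (inferInstance : Nonempty Ω)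
  refine ⟨MulAction.stabilizer (Equiv.Perm Ω) x₀, K, by rw [CfsgLib.Sn29.index_stab, h6], hK, ?_, ?_⟩
  · rintro ⟨g, hg⟩
    rw [← MulAction.stabilizer_smul_eq_stabilizer_map_conj] at hg
    exact hKs _ hg.symm
  · intro H hH
    by_cases hs : ∃ x : Ω, H = MulAction.stabilizer (Equiv.Perm Ω) x
    · obtain ⟨x, rfl⟩ := hs
      obtain ⟨g, hg⟩ := MulAction.exists_smul_eq (Equiv.Perm Ω) x₀ x
      refine ⟨g, Or.inl ?_⟩
      rw [← MulAction.stabilizer_smul_eq_stabilizer_map_conj, hg]
    · push Not at hs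
      obtain ⟨d, hd⟩ := CfsgLib.Sn29.outer_conj h6 K H hK hH hKs hs
      obtain ⟨g, rfl⟩ := QuotientGroup.mk_surjective d
      refine ⟨g, Or.inr ?_⟩
      rw [← hd]
      exact (CfsgLib.Sn29.stab_coset K g).symm

end Cfsg.Agent.S5912
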