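import Cfsg.Statements.S5939
import Mathlib
import Mathlib
import Cfsg.Agent.LibDkZ29

set_option autoImplicit false
open Cfsg

namespace Cfsg.Agent.S5939

open CfsgLib.Dk29 MulAction

/-- Let p be a prime and F a finite field of characteristic p such that either F has p elements and p ≡ ±1 (mod 10), or F has p² elements and p ≡ ±3 (mod 10). Then PSL_2(F) has a maximal subgroup isomorphic to the alternating group A_5. -/
theorem result {F : Type*} [Field F] [Fintype F] (p : ℕ) [Fact p.Prime] [CharP F p] (h : (Fintype.card F = p ∧ (p % 10 = 1 ∨ p % 10 = 9)) ∨ (Fintype.card F = p ^ 2 ∧ (p % 10 = 3 ∨ p % 10 = 7))) : ∃ H : Subgroup (Matrix.ProjectiveSpecialLinearGroup (Fin 2) F), IsCoatom H ∧ Nonempty (H ≃* alternatingGroup (Fin 5)) := by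
  classical
  have hpp : p.Prime := Fact.out
  have hp2 : p ≠ 2 := by rintro rfl; omega
  have hpodd := hpp.odd_of_ne_two hp2
  have hodd : Odd (Fintype.card F) := by
    rcases h with ⟨h, -⟩ | ⟨h, -⟩
    · rw [h]; exact hpodd
    · rw [h]; exact hpodd.pow
  have hcard := psl_odd_card (F := F) hodd
  have h5 : 5 ∣ (Fintype.card F - 1) * (Fintype.card F + 1) := by
    rcases h with ⟨h, h' | h'⟩ | ⟨h, h'⟩
    · exact Dvd.dvd.mul_right (by omega) _
    · exact Dvd.dvd.mul_left (by omega) _
    · rw [h]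
      have h6 : p ^ 2 % 5 = 4 := by
        have h7 : p % 5 = 3 ∨ p % 5 = 2 := by omega
        rcases h7 with h7 | h7 <;> simp [Nat.pow_mod, h7]
      exact Dvd.dvd.mul_left (by omega) _
  have hq9 : 9 ≤ Fintype.card F := by
    rcases h with ⟨h, h'⟩ | ⟨h, h'⟩
    · have h1 : p ≠ 1 := hpp.ne_one
      omega
    · rw [h]
      have h3 : 3 ≤ p := by omega
      calc 9 = 3 ^ 2 := by norm_num
        _ ≤ p ^ 2 := Nat.pow_le_pow_left h3 2
  have hbig : 9 * (8 * 10) ≤ Fintype.card F * ((Fintype.card F - 1) * (Fintype.card F + 1)) := Nat.mul_le_mul hq9 (Nat.mul_le_mul (by omega) (by omega))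
  have h5' : 5 ∣ Nat.card (Matrix.ProjectiveSpecialLinearGroup (Fin 2) F) := by
    have h1 : 5 ∣ 2 * Nat.card (Matrix.ProjectiveSpecialLinearGroup (Fin 2) F) := by rw [hcard]; exact Dvd.dvd.mul_left h5 _
    exact Nat.Coprime.dvd_of_dvd_mul_left (by norm_num) h1
  obtain ⟨H, ⟨e⟩⟩ := exists_a5 hodd h5'
  have hcH : Nat.card H = 60 := by rw [Nat.card_congr e.toEquiv, card_a5]
  refine ⟨H, ⟨?_, ?_⟩, ⟨e⟩⟩
  · intro h
    rw [h, Subgroup.card_top] at hcH
    omega
  · intro L hHL
    by_contra hL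
    have hns : ¬ Group.IsSolvable L := by
      intro hs
      haveI := hs
      have h1 : Group.IsSolvable H := Group.isSolvable_of_isSolvable_injective (f := Subgroup.inclusion hHL.le) (Subgroup.inclusion_injective hHL.le)
      exact a5_not_solv (solv_equiv e.symm h1)
    have hdvd : Nat.card H ∣ Nat.card L := Subgroup.card_dvd_of_le hHL.le
    rw [hcH] at hdvd
    rcases nonsolv_cases L hL hns with ⟨⟨e'⟩⟩ | ⟨k, m, hk, hm, hkm, -, hc⟩
    · exact hHL.ne (Subgroup.eq_of_le_of_card_ge hHL.le (by rw [hcH, Nat.card_congr e'.toEquiv, card_a5]))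
    · rcases h with ⟨h, h'⟩ | ⟨h, h'⟩
      · rw [h] at hkm
        rw [← hkm] at hpp
        exact Nat.Prime.not_prime_pow hm hpp
      · rw [h] at hkm
        obtain ⟨a, ha, ham⟩ := exp_of_pow hpp 1 (pow_one p).symm hkm (by omega)
        have ha1 : a = 1 := by
          have ha0 : a ≠ 0 := by rintro rfl; omega
          have h1 : a * 2 ≤ a * m := Nat.mul_le_mul_left _ hm
          omega
        rw [ha1, pow_one] at ha
        rw [ha] at hc
        have h1 : 5 ∣ p * ((p - 1) * (p + 1)) := by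
          rcases hc with hc | ⟨-, hc⟩
          · rw [← hc]; exact dvd_trans (by norm_num) hdvd
          · rw [← hc]; exact Dvd.dvd.mul_left (dvd_trans (by norm_num) hdvd) _
        rcases (Nat.prime_five.dvd_mul).mp h1 with h6 | h6
        · omega
        · rcases (Nat.prime_five.dvd_mul).mp h6 with h7 | h7 <;> omega

end Cfsg.Agent.S5939
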