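import Cfsg.Statements.S5940
import Mathlib
import Mathlib
import Cfsg.Agent.LibDkZ29

set_option autoImplicit false
open Cfsg

namespace Cfsg.Agent.S5940

open CfsgLib.Dk29 MulAction

/-- Let p ≥ 5 be a prime with p ≡ ±3 (mod 8) and p ≢ ±1 (mod 10), and F a field with p elements. Then PSL_2(F) has a maximal subgroup isomorphic to the alternating group A_4. -/
theorem result {F : Type*} [Field F] [Fintype F] (p : ℕ) [Fact p.Prime] (hF : Fintype.card F = p) (h5 : 5 ≤ p) (h8 : p % 8 = 3 ∨ p % 8 = 5) (h10 : p % 10 ≠ 1 ∧ p % 10 ≠ 9) : ∃ H : Subgroup (Matrix.ProjectiveSpecialLinearGroup (Fin 2) F), IsCoatom H ∧ Nonempty (H ≃* alternatingGroup (Fin 4)) := by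
  classical
  have hpp : p.Prime := Fact.out
  have hmod : Fintype.card F % 8 = 3 ∨ Fintype.card F % 8 = 5 := by rw [hF]; exact h8
  have hodd : Odd (Fintype.card F) := by rw [Nat.odd_iff]; omega
  obtain ⟨V, hV⟩ := exists_klein (F := F) hodd
  have hN := psl_norm_twelve hmod V hV
  obtain ⟨e⟩ := (klein_norm_iso hodd V _ hV Subgroup.le_normalizer le_rfl).1 hN
  have hcard := psl_odd_card (F := F) hodd
  have hbig : 5 * (4 * 6) ≤ Fintype.card F * ((Fintype.card F - 1) * (Fintype.card F + 1)) := Nat.mul_le_mul (by omega) (Nat.mul_le_mul (by omega) (by omega))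
  refine ⟨_, ⟨?_, ?_⟩, ⟨e⟩⟩
  · intro h
    rw [h, Subgroup.card_top] at hN
    omega
  · intro L hNL
    by_contra hL
    have hlt : Nat.card (Subgroup.normalizer (V : Set (Matrix.ProjectiveSpecialLinearGroup (Fin 2) F))) < Nat.card L := by
      by_contra hcon
      exact hNL.ne (Subgroup.eq_of_le_of_card_ge hNL.le (by omega))
    have hdvd' : Nat.card L ∣ Nat.card (Matrix.ProjectiveSpecialLinearGroup (Fin 2) F) := Subgroup.card_subgroup_dvd_card L
    have hLt : Nat.card L < Nat.card (Matrix.ProjectiveSpecialLinearGroup (Fin 2) F) := by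
      by_contra hcon
      exact hL (Subgroup.eq_top_of_le_card L (by omega))
    rw [hN] at hlt
    rcases a4_cases hodd L hL ((Subgroup.inclusion hNL.le).comp e.symm.toMonoidHom)
      ((Subgroup.inclusion_injective hNL.le).comp e.symm.injective) with ⟨⟨e'⟩⟩ | ⟨⟨e'⟩⟩ | ⟨⟨e'⟩⟩ | ⟨k, m, hk, hm, hkm, -, -⟩
    · rw [Nat.card_congr e'.toEquiv, card_a4] at hlt; omega
    · rw [Nat.card_congr e'.toEquiv, card_s4] at hdvd'
      exact psl_not_eight hmod (dvd_trans (by norm_num) hdvd')
    · rw [Nat.card_congr e'.toEquiv, card_a5] at hdvd' hLt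
      have h5' : 5 ∣ Fintype.card F * ((Fintype.card F - 1) * (Fintype.card F + 1)) := by
        rw [← hcard]
        exact Dvd.dvd.mul_left (dvd_trans (by norm_num) hdvd') _
      rw [hF] at h5'
      rcases (Nat.prime_five.dvd_mul).mp h5' with h6 | h6
      · have hp5 : p = 5 := ((Nat.prime_dvd_prime_iff_eq Nat.prime_five hpp).mp h6).symm
        rw [hF, hp5] at hcard
        omega
      · rcases (Nat.prime_five.dvd_mul).mp h6 with h7 | h7
        · omega
        · omega
    · rw [hF] at hkm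
      rw [← hkm] at hpp
      exact Nat.Prime.not_prime_pow hm hpp

end Cfsg.Agent.S5940
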